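import Cfsg.Agent.Lib.Helper28.S1692.Seeds0

set_option autoImplicit false
set_option maxRecDepth 100000
set_option linter.all false

namespace Cfsg.Agent.Helper28.S1692

open Cfsg.Agent.Helper28
open Cfsg.Spor.ON (Gen)

noncomputable section

namespace K1
abbrev LD1_c0 := D1.c0
abbrev LD1_c1 := D1.c1
abbrev LD1_c2 := D1.c2
abbrev LD1_c3 := D1.c3
abbrev LD1_c4 := D1.c4
abbrev LD1_c5 := D1.c5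
abbrev LD1_c6 := D1.c6
abbrev LD1_c7 := D1.c7
abbrev LD1_c8 := D1.c8
abbrev LD1_c9 := D1.c9
abbrev LD1_c10 := D1.c10
abbrev LD1_c11 := D1.c11
abbrev LD1_c12 := D1.c12
abbrev LD1_c13 := D1.c13
abbrev LD1_c14 := D1.c14
abbrev LD1_c15 := D1.c15
abbrev LD1_c16 := D1.c16
abbrev LD1_c17 := D1.c17
abbrev LD1_c18 := D1.c18
abbrev LD1_c19 := D1.c19
abbrev LD1_c20 := D1.c20
abbrev LD1_c21 := D1.c21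
abbrev LD1_c22 := D1.c22
abbrev LD1_c23 := D1.c23
abbrev LD1_c24 := D1.c24
abbrev LD1_c25 := D1.c25
abbrev LD1_c26 := D1.c26
abbrev LD1_c27 := D1.c27
abbrev LD1_c28 := D1.c28
abbrev LD1_c29 := D1.c29
abbrev LD1_c30 := D1.c30
abbrev LD1_c31 := D1.c31
abbrev LD1_c32 := D1.c32
abbrev LD2_c0 := D2.c0
abbrev LD2_c1 := D2.c1
abbrev LD2_c2 := D2.c2
abbrev LD2_c3 := D2.c3
abbrev LD2_c4 := D2.c4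
abbrev LD2_c5 := D2.c5
abbrev LD2_c6 := D2.c6
abbrev LD2_c7 := D2.c7
abbrev LD2_c8 := D2.c8
abbrev LD2_c9 := D2.c9
abbrev LD2_c10 := D2.c10
abbrev LD2_c11 := D2.c11
abbrev LD2_c12 := D2.c12
abbrev LD2_c13 := D2.c13
abbrev LD2_c14 := D2.c14
abbrev LD2_c15 := D2.c15
abbrev LD2_c16 := D2.c16
abbrev LD2_c17 := D2.c17
abbrev LD2_c18 := D2.c18
abbrev LD2_c19 := D2.c19
abbrev LD2_c20 := D2.c20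
abbrev LD2_c21 := D2.c21
abbrev LD2_c22 := D2.c22
abbrev LD2_c23 := D2.c23
abbrev LD2_c24 := D2.c24
abbrev LD2_c25 := D2.c25
abbrev LD2_c26 := D2.c26
abbrev LD2_c27 := D2.c27
abbrev LD2_c28 := D2.c28
abbrev LD2_c29 := D2.c29
abbrev LD2_c30 := D2.c30
abbrev LD2_c31 := D2.c31
abbrev LD2_c32 := D2.c32
abbrev LD2_c33 := D2.c33
abbrev LD2_c34 := D2.c34
abbrev LD2_c35 := D2.c35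
abbrev LD2_c36 := D2.c36
abbrev LD2_c37 := D2.c37
abbrev LD2_c38 := D2.c38
abbrev LD2_c39 := D2.c39
abbrev LD2_c40 := D2.c40
abbrev LD2_c41 := D2.c41
abbrev LD2_c42 := D2.c42
abbrev LD2_c43 := D2.c43
abbrev LD2_c44 := D2.c44
abbrev LD2_c45 := D2.c45
abbrev LD2_c46 := D2.c46
abbrev LD2_c47 := D2.c47
abbrev LD2_c48 := D2.c48
abbrev LD2_c49 := D2.c49
abbrev LD2_c50 := D2.c50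
abbrev LD2_c51 := D2.c51
abbrev LD2_c52 := D2.c52
abbrev LD2_c53 := D2.c53
abbrev LD2_c54 := D2.c54
abbrev LD2_c55 := D2.c55
abbrev LD2_c56 := D2.c56
abbrev LD2_c57 := D2.c57
abbrev LD2_c58 := D2.c58
abbrev LD2_c59 := D2.c59
abbrev LD3_c0 := D3.c0
abbrev LD3_c1 := D3.c1
abbrev LD3_c2 := D3.c2
abbrev LD3_c3 := D3.c3
abbrev LD3_c4 := D3.c4
abbrev LD3_c5 := D3.c5
abbrev LD3_c6 := D3.c6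
abbrev LD3_c7 := D3.c7
abbrev LD3_c8 := D3.c8
abbrev LD3_c9 := D3.c9
abbrev LD3_c10 := D3.c10
abbrev LD3_c11 := D3.c11
abbrev LD3_c12 := D3.c12
abbrev LD3_c13 := D3.c13
abbrev LD3_c14 := D3.c14
abbrev LD3_c15 := D3.c15
abbrev LD3_c16 := D3.c16
abbrev LD3_c17 := D3.c17
abbrev LD3_c18 := D3.c18
abbrev LD3_c19 := D3.c19
abbrev LD3_c20 := D3.c20
abbrev LD3_c21 := D3.c21
abbrev LD3_c22 := D3.c22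
abbrev LD3_c23 := D3.c23
abbrev LD3_c24 := D3.c24
abbrev LD3_c25 := D3.c25
abbrev LD3_c26 := D3.c26
abbrev LD3_c27 := D3.c27
abbrev LD3_c28 := D3.c28
abbrev LD3_c29 := D3.c29
abbrev LD3_c30 := D3.c30
abbrev LD3_c31 := D3.c31
abbrev LD3_c32 := D3.c32
abbrev LD3_c33 := D3.c33
abbrev LD3_c34 := D3.c34
abbrev LD3_c35 := D3.c35
abbrev LD3_c36 := D3.c36
abbrev LD3_c37 := D3.c37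
abbrev LD3_c38 := D3.c38
abbrev LD3_c39 := D3.c39
abbrev LD3_c40 := D3.c40
abbrev LD3_c41 := D3.c41
abbrev LD3_c42 := D3.c42
abbrev LD3_c43 := D3.c43
abbrev LD3_c44 := D3.c44
abbrev LD3_c45 := D3.c45
abbrev LD3_c46 := D3.c46
abbrev LD3_c47 := D3.c47
abbrev LD3_c48 := D3.c48
abbrev LD3_c49 := D3.c49
abbrev LD3_c50 := D3.c50
abbrev LD3_c51 := D3.c51
abbrev LD3_c52 := D3.c52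
abbrev LD3_c53 := D3.c53
abbrev LD3_c54 := D3.c54
abbrev LD3_c55 := D3.c55
abbrev LD3_c56 := D3.c56
abbrev LD3_c57 := D3.c57
abbrev LD3_c58 := D3.c58
abbrev LD3_c59 := D3.c59
abbrev LD3_c60 := D3.c60
abbrev LD3_c61 := D3.c61
abbrev LG_g := Gen.g
abbrev Lsl_gt : Gen × Bool := sl_gt
alias Lfl_gt := fl_gt
alias Lpr_gt := pr_gt
abbrev Lsl_gf : Gen × Bool := sl_gf
alias Lfl_gf := fl_gf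
alias Lpr_gf := pr_gf
alias Lre_g := re_g
alias Leoe_g := eoe_g
abbrev LG_a := Gen.a
abbrev Lsl_at : Gen × Bool := sl_at
alias Lfl_at := fl_at
alias Lpr_at := pr_at
abbrev Lsl_af : Gen × Bool := sl_af
alias Lfl_af := fl_af
alias Lpr_af := pr_af
alias Lre_a := re_a
alias Leoe_a := eoe_a
abbrev LG_b := Gen.b
abbrev Lsl_bt : Gen × Bool := sl_bt
alias Lfl_bt := fl_bt
alias Lpr_bt := pr_bt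
abbrev Lsl_bf : Gen × Bool := sl_bf
alias Lfl_bf := fl_bf
alias Lpr_bf := pr_bf
alias Lre_b := re_b
alias Leoe_b := eoe_b
abbrev LG_c := Gen.c
abbrev Lsl_ct : Gen × Bool := sl_ct
alias Lfl_ct := fl_ct
alias Lpr_ct := pr_ct
abbrev Lsl_cf : Gen × Bool := sl_cf
alias Lfl_cf := fl_cf
alias Lpr_cf := pr_cf
alias Lre_c := re_c
alias Leoe_c := eoe_c
abbrev LG_d := Gen.d
abbrev Lsl_dt : Gen × Bool := sl_dt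
alias Lfl_dt := fl_dt
alias Lpr_dt := pr_dt
abbrev Lsl_df : Gen × Bool := sl_df
alias Lfl_df := fl_df
alias Lpr_df := pr_df
alias Lre_d := re_d
alias Leoe_d := eoe_d
abbrev LG_e := Gen.e
abbrev Lsl_et : Gen × Bool := sl_et
alias Lfl_et := fl_et
alias Lpr_et := pr_et
abbrev Lsl_ef : Gen × Bool := sl_ef
alias Lfl_ef := fl_ef
alias Lpr_ef := pr_ef
alias Lre_e := re_e
alias Leoe_e := eoe_e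
abbrev LG_f := Gen.f
abbrev Lsl_ft : Gen × Bool := sl_ft
alias Lfl_ft := fl_ft
alias Lpr_ft := pr_ft
abbrev Lsl_ff : Gen × Bool := sl_ff
alias Lfl_ff := fl_ff
alias Lpr_ff := pr_ff
alias Lre_f := re_f
alias Leoe_f := eoe_f
abbrev LK := Pt.mk
abbrev LQ : Type := Qt rels S
abbrev LP (p : Pt) : LQ := P p
abbrev Led (l : Gen × Bool) (c : LQ) : LQ := ed l c
abbrev LEOK (x : Gen) (p : Pt) : Prop := EntryOK rels S fwd inv o plet idx x p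
alias Lpe := pe
alias Lpn := pn
alias Lgr := gr
alias Lpq := pq
alias Lpqs := pqs
alias Llr := lr
alias Leop := eop
alias Lefun := efun
alias Lecon := econ
theorem Lrfl {α : Sort _} {a : α} : a = a := rfl
alias Lrot0 := rot0
alias Lrot1 := rot1
alias Lrot2 := rot2
alias Lrot3 := rot3
alias Lrot4 := rot4
alias Lrot5 := rot5
alias Lrot6 := rot6
alias Lrot7 := rot7
alias Lrot8 := rot8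
alias Lrot9 := rot9
alias Lrot10 := rot10
alias Lrot11 := rot11
alias Lrot12 := rot12
alias Lrot14 := rot14
alias Lrot15 := rot15
alias Lrot16 := rot16
alias Lrot17 := rot17
alias Lrot18 := rot18
alias Lrot19 := rot19
alias Lrot20 := rot20
alias Lrot21 := rot21
alias Lrot22 := rot22
alias Lrot23 := rot23
alias Lrot24 := rot24
alias Lrot25 := rot25
alias Lrot26 := rot26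
alias Lrot27 := rot27
alias Lrot28 := rot28
alias Lrot29 := rot29
alias Lrot30 := rot30
alias Lrot31 := rot31
alias Lrot32 := rot32
alias Lrot33 := rot33
alias Lrot34 := rot34
alias Lrot35 := rot35
alias Lrot36 := rot36
alias Lrot37 := rot37
alias Lrot38 := rot38
alias Lrot39 := rot39
alias Lrot40 := rot40
alias Lrot41 := rot41
alias Lrot42 := rot42
alias Lrot43 := rot43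
alias Lrot44 := rot44
alias Lrot45 := rot45
alias Lrot46 := rot46
alias Lrot47 := rot47
alias Lrot48 := rot48
alias Lrot49 := rot49
alias Lrot50 := rot50
alias Lrot51 := rot51
alias Lrot52 := rot52
alias Lrot53 := rot53
alias Lrot54 := rot54
alias Lrot55 := rot55
alias Lrot56 := rot56
alias Lrot57 := rot57
alias Lrot58 := rot58
alias Lrot59 := rot59
alias Lrot60 := rot60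
alias Lrot61 := rot61
alias Lrot62 := rot62
alias Lrot63 := rot63
alias Lrot64 := rot64
alias Lrot65 := rot65
alias Lrot66 := rot66
alias Lrot67 := rot67
alias Lrot68 := rot68
alias Lrot69 := rot69
alias Lrot70 := rot70
alias Lrot71 := rot71
alias Lrot72 := rot72
alias Lrot73 := rot73
alias Lrot74 := rot74
alias Lrot75 := rot75
alias Lrot76 := rot76
alias Lrot77 := rot77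
alias Lrot78 := rot78
alias Lrot79 := rot79
alias Lrot80 := rot80
alias Lrot81 := rot81
alias Lrot82 := rot82
alias Lrot83 := rot83
alias Lrot84 := rot84
alias Lrot85 := rot85
alias Lrot86 := rot86
alias Lrot87 := rot87
alias Lrot88 := rot88
alias Lrot90 := rot90
alias Lrot91 := rot91
alias Lrot92 := rot92
alias Lrot93 := rot93
alias Lrot94 := rot94
alias Lrot95 := rot95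
alias Lrot96 := rot96
alias Lrot97 := rot97
alias Lrot98 := rot98
alias Lrot99 := rot99
alias Lrot100 := rot100
alias Lrot101 := rot101
alias Lrot102 := rot102
alias Lrot103 := rot103
alias Lrot104 := rot104
alias Lrot105 := rot105
alias Lrot106 := rot106
alias Lrot107 := rot107
alias Lrot108 := rot108
alias Lrot109 := rot109
alias Lrot110 := rot110
alias Lrot111 := rot111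
alias Lrot112 := rot112
alias Lrot113 := rot113
alias Lrot114 := rot114
alias Lrot116 := rot116
alias Lrot117 := rot117
alias Lrot118 := rot118
alias Lrot119 := rot119
alias Lrot120 := rot120
alias Lrot121 := rot121
alias Lrot122 := rot122
alias Lrot123 := rot123
alias Lrot124 := rot124
alias Lrot125 := rot125
alias Lrot126 := rot126
alias Lrot127 := rot127
alias Lrot128 := rot128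
alias Lrot129 := rot129
alias Lrot132 := rot132
alias Lrot133 := rot133
alias Lrot134 := rot134
alias Lrot135 := rot135
alias Lrot136 := rot136
alias Lrot137 := rot137
alias Lrot138 := rot138
alias Lrot139 := rot139
alias Lrot140 := rot140
alias Lrot141 := rot141
alias Lrot142 := rot142
alias Lrot143 := rot143
alias Lrot144 := rot144
alias Lrot145 := rot145
alias Lrot147 := rot147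
alias Lrot148 := rot148
alias Lrot149 := rot149
alias Lrot150 := rot150
alias Lrot151 := rot151
alias Lrot152 := rot152
alias Lrot153 := rot153
alias Lrot154 := rot154
alias Lrot155 := rot155
alias Lrot156 := rot156
alias Lrot157 := rot157
alias Lrot158 := rot158
alias Lrot159 := rot159
alias Lrot160 := rot160
alias Lrot161 := rot161
alias Lrot162 := rot162
alias Lrot163 := rot163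
alias Lrot164 := rot164
alias Lrot165 := rot165
alias Lrot166 := rot166
alias Lrot168 := rot168
alias Lrot169 := rot169
alias Lrot170 := rot170
alias Lrot171 := rot171
alias Lrot172 := rot172
alias Lrot173 := rot173
alias Lrot174 := rot174
alias Lrot175 := rot175
alias Lrot176 := rot176
alias Lrot177 := rot177
alias Lrot178 := rot178
alias Lrot179 := rot179
alias Lrot180 := rot180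
alias Lrot181 := rot181
alias Lrot182 := rot182
alias Lrot183 := rot183
alias Lrot184 := rot184
alias Lrot185 := rot185
alias Lrot186 := rot186
alias Lrot187 := rot187
alias Lrot188 := rot188
alias Lrot189 := rot189

section
variable (IH : IHT)
include IH

theorem f36226 : Led Lsl_cf (LP (LK LD1_c0 LD2_c20 LD3_c21)) = (LP (LK LD1_c0 LD2_c24 LD3_c56)) :=
  Lgr Lrot99 (Lpe (K0.f26048 IH) (Lpe (K0.f13479 IH) (Lpe (K0.f20866 IH) (Lpr_cf (K0.f20074 IH) (Lpe (K0.f5834 IH) (Lpe (K0.f349 IH) (Lpr_gt (K0.f24598 IH) (Lpr_ct (K0.f26472 IH) (Lpr_gt (K0.f35521 IH) (Lpn (LP (LK LD1_c0 LD2_c24 LD3_c56))))))))))))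
theorem f13539 : Led Lsl_ct (LP (LK LD1_c0 LD2_c9 LD3_c9)) = (LP (LK LD1_c0 LD2_c20 LD3_c19)) :=
  Lre_c IH (LK LD1_c0 LD2_c9 LD3_c9) (LK LD1_c0 LD2_c20 LD3_c19) Lrfl Lrfl
theorem f36248 : Led Lsl_ft (LP (LK LD1_c0 LD2_c20 LD3_c19)) = (LP (LK LD1_c0 LD2_c24 LD3_c56)) :=
  Lgr Lrot4 (Lpe (f13539 IH) (Lpe (K0.f26251 IH) (Lpr_cf (f36226 IH) (Lpn (LP (LK LD1_c0 LD2_c24 LD3_c56))))))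
theorem f36267 : Led Lsl_ff (LP (LK LD1_c0 LD2_c20 LD3_c19)) = (LP (LK LD1_c0 LD2_c24 LD3_c56)) :=
  Lgr Lrot3 (Lpr_ft (f36248 IH) (Lpn (LP (LK LD1_c0 LD2_c24 LD3_c56))))
theorem f36269 : Led Lsl_at (LP (LK LD1_c0 LD2_c20 LD3_c19)) = (LP (LK LD1_c0 LD2_c32 LD3_c57)) :=
  Lre_a IH (LK LD1_c0 LD2_c20 LD3_c19) (LK LD1_c0 LD2_c32 LD3_c57) Lrfl Lrfl
theorem f13469 : Led Lsl_dt (LP (LK LD1_c0 LD2_c8 LD3_c61)) = (LP (LK LD1_c0 LD2_c20 LD3_c1)) :=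
  Lre_d IH (LK LD1_c0 LD2_c8 LD3_c61) (LK LD1_c0 LD2_c20 LD3_c1) Lrfl Lrfl
theorem f35523 : Led Lsl_ct (LP (LK LD1_c0 LD2_c11 LD3_c4)) = (LP (LK LD1_c0 LD2_c5 LD3_c9)) :=
  Lre_c IH (LK LD1_c0 LD2_c11 LD3_c4) (LK LD1_c0 LD2_c5 LD3_c9) Lrfl Lrfl
theorem f27246 : Led Lsl_dt (LP (LK LD1_c0 LD2_c5 LD3_c9)) = (LP (LK LD1_c0 LD2_c2 LD3_c21)) :=
  Lre_d IH (LK LD1_c0 LD2_c5 LD3_c9) (LK LD1_c0 LD2_c2 LD3_c21) Lrfl Lrfl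
theorem f36276 : Led Lsl_cf (LP (LK LD1_c0 LD2_c1 LD3_c47)) = (LP (LK LD1_c0 LD2_c2 LD3_c21)) :=
  Lgr Lrot116 (Lpr_dt (K0.f9740 IH) (Lpr_ct (K0.f9733 IH) (Lpr_dt (f13469 IH) (Lpr_ct (K0.f13476 IH) (Lpe (f36269 IH) (Lpr_ff (f36267 IH) (Lpr_dt (K0.f35520 IH) (Lpr_ct (f35523 IH) (Lpr_dt (f27246 IH) (Lpn (LP (LK LD1_c0 LD2_c2 LD3_c21))))))))))))
theorem f7125 : Led Lsl_ct (LP (LK LD1_c0 LD2_c1 LD3_c40)) = (LP (LK LD1_c0 LD2_c0 LD3_c37)) :=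
  Lre_c IH (LK LD1_c0 LD2_c1 LD3_c40) (LK LD1_c0 LD2_c0 LD3_c37) Lrfl Lrfl
theorem f7155 : Led Lsl_bt (LP (LK LD1_c0 LD2_c1 LD3_c40)) = (LP (LK LD1_c0 LD2_c3 LD3_c51)) :=
  Lre_b IH (LK LD1_c0 LD2_c1 LD3_c40) (LK LD1_c0 LD2_c3 LD3_c51) Lrfl Lrfl
theorem f36280 : Led Lsl_bt (LP (LK LD1_c0 LD2_c2 LD3_c21)) = (LP (LK LD1_c0 LD2_c5 LD3_c6)) :=
  Lre_b IH (LK LD1_c0 LD2_c2 LD3_c21) (LK LD1_c0 LD2_c5 LD3_c6) Lrfl Lrfl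
theorem f36289 : Led Lsl_gt (LP (LK LD1_c0 LD2_c3 LD3_c51)) = (LP (LK LD1_c0 LD2_c5 LD3_c6)) :=
  Lgr Lrot164 (Lpe (f7155 IH) (Lpr_ct (f7125 IH) (Lpe (K0.f7146 IH) (Lpe (K0.f8315 IH) (Lpe (K0.f16663 IH) (Lpe (K0.f20261 IH) (Lpe (K0.f20259 IH) (Lpr_gf (K0.f20829 IH) (Lpr_cf (f36276 IH) (Lpr_bt (f36280 IH) (Lpn (LP (LK LD1_c0 LD2_c5 LD3_c6)))))))))))))
theorem f28504 : Led Lsl_et (LP (LK LD1_c0 LD2_c5 LD3_c6)) = (LP (LK LD1_c0 LD2_c2 LD3_c19)) :=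
  Lre_e IH (LK LD1_c0 LD2_c5 LD3_c6) (LK LD1_c0 LD2_c2 LD3_c19) Lrfl Lrfl
theorem f28466 : Led Lsl_et (LP (LK LD1_c0 LD2_c2 LD3_c19)) = (LP (LK LD1_c0 LD2_c5 LD3_c6)) :=
  Lre_e IH (LK LD1_c0 LD2_c2 LD3_c19) (LK LD1_c0 LD2_c5 LD3_c6) Lrfl Lrfl
theorem f28505 : Led Lsl_cf (LP (LK LD1_c0 LD2_c5 LD3_c6)) = (LP (LK LD1_c0 LD2_c5 LD3_c6)) :=
  Lgr Lrot39 (Lpr_et (f28504 IH) (Lpr_ct (K0.f28501 IH) (Lpr_et (f28466 IH) (Lpn (LP (LK LD1_c0 LD2_c5 LD3_c6))))))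
theorem f36281 : Led Lsl_bt (LP (LK LD1_c0 LD2_c5 LD3_c6)) = (LP (LK LD1_c0 LD2_c2 LD3_c21)) :=
  Lre_b IH (LK LD1_c0 LD2_c5 LD3_c6) (LK LD1_c0 LD2_c2 LD3_c21) Lrfl Lrfl
theorem f25998 : Led Lsl_ct (LP (LK LD1_c0 LD2_c13 LD3_c21)) = (LP (LK LD1_c0 LD2_c6 LD3_c6)) :=
  Lre_c IH (LK LD1_c0 LD2_c13 LD3_c21) (LK LD1_c0 LD2_c6 LD3_c6) Lrfl Lrfl
theorem f34730 : Led Lsl_gf (LP (LK LD1_c0 LD2_c2 LD3_c48)) = (LP (LK LD1_c0 LD2_c2 LD3_c21)) :=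
  Lgr Lrot143 (Lpr_dt (K0.f25917 IH) (Lpe (f25998 IH) (Lpe (K0.f26756 IH) (Lpe (K0.f20082 IH) (Lpe (K0.f23009 IH) (Lpe (K0.f23000 IH) (Lpr_cf (K0.f34712 IH) (Lpe (K0.f27193 IH) (Lpr_dt (f27246 IH) (Lpn (LP (LK LD1_c0 LD2_c2 LD3_c21))))))))))))
theorem f26016 : Led Lsl_bt (LP (LK LD1_c0 LD2_c1 LD3_c25)) = (LP (LK LD1_c0 LD2_c3 LD3_c5)) :=
  Lre_b IH (LK LD1_c0 LD2_c1 LD3_c25) (LK LD1_c0 LD2_c3 LD3_c5) Lrfl Lrfl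
theorem f36288 : Led Lsl_bt (LP (LK LD1_c0 LD2_c6 LD3_c9)) = (LP (LK LD1_c0 LD2_c2 LD3_c50)) :=
  Lre_b IH (LK LD1_c0 LD2_c6 LD3_c9) (LK LD1_c0 LD2_c2 LD3_c50) Lrfl Lrfl
theorem f36301 : Led Lsl_cf (LP (LK LD1_c0 LD2_c3 LD3_c51)) = (LP (LK LD1_c0 LD2_c6 LD3_c9)) :=
  Lgr Lrot160 (Lpr_gt (f36289 IH) (Lpr_cf (f28505 IH) (Lpr_bt (f36281 IH) (Lpe (f34730 IH) (Lpr_ct (K0.f20257 IH) (Lpr_gt (K0.f7169 IH) (Lpe (K0.f6720 IH) (Lpr_bt (f26016 IH) (Lpe (K0.f26304 IH) (Lpe (f36288 IH) (Lpn (LP (LK LD1_c0 LD2_c6 LD3_c9)))))))))))))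
theorem f36286 : Led Lsl_gt (LP (LK LD1_c0 LD2_c2 LD3_c50)) = (LP (LK LD1_c0 LD2_c2 LD3_c21)) :=
  Lgr Lrot150 (Lpe (K0.f12695 IH) (Lpe (K0.f7168 IH) (Lpe (K0.f7173 IH) (Lpr_gt (K0.f7177 IH) (Lpr_ct (K0.f20872 IH) (Lpr_gt (K0.f20873 IH) (Lpr_ct (K0.f9735 IH) (Lpe (K0.f9740 IH) (Lpr_cf (f36276 IH) (Lpn (LP (LK LD1_c0 LD2_c2 LD3_c21))))))))))))
theorem f16647 : Led Lsl_bt (LP (LK LD1_c0 LD2_c5 LD3_c45)) = (LP (LK LD1_c0 LD2_c2 LD3_c41)) :=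
  Lre_b IH (LK LD1_c0 LD2_c5 LD3_c45) (LK LD1_c0 LD2_c2 LD3_c41) Lrfl Lrfl
theorem f16630 : Led Lsl_ft (LP (LK LD1_c0 LD2_c5 LD3_c45)) = (LP (LK LD1_c0 LD2_c2 LD3_c35)) :=
  Lre_f IH (LK LD1_c0 LD2_c5 LD3_c45) (LK LD1_c0 LD2_c2 LD3_c35) Lrfl Lrfl
theorem f16631 : Led Lsl_ft (LP (LK LD1_c0 LD2_c2 LD3_c35)) = (LP (LK LD1_c0 LD2_c5 LD3_c45)) :=
  Lre_f IH (LK LD1_c0 LD2_c2 LD3_c35) (LK LD1_c0 LD2_c5 LD3_c45) Lrfl Lrfl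
theorem f16632 : Led Lsl_cf (LP (LK LD1_c0 LD2_c5 LD3_c45)) = (LP (LK LD1_c0 LD2_c5 LD3_c45)) :=
  Lgr Lrot108 (Lpr_ft (f16630 IH) (Lpr_ct (K0.f16624 IH) (Lpr_ft (f16631 IH) (Lpn (LP (LK LD1_c0 LD2_c5 LD3_c45))))))
theorem f36314 : Led Lsl_gf (LP (LK LD1_c0 LD2_c3 LD3_c51)) = (LP (LK LD1_c0 LD2_c5 LD3_c45)) :=
  Lgr Lrot126 (Lpr_cf (f36301 IH) (Lpr_bt (f36288 IH) (Lpr_gt (f36286 IH) (Lpe (f36276 IH) (Lpe (K0.f20829 IH) (Lpr_cf (K0.f20259 IH) (Lpr_bt (K0.f20261 IH) (Lpr_gt (K0.f16663 IH) (Lpe (f16647 IH) (Lpe (f16632 IH) (Lpn (LP (LK LD1_c0 LD2_c5 LD3_c45)))))))))))))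
theorem f36294 : Led Lsl_dt (LP (LK LD1_c0 LD2_c3 LD3_c51)) = (LP (LK LD1_c0 LD2_c8 LD3_c27)) :=
  Lre_d IH (LK LD1_c0 LD2_c3 LD3_c51) (LK LD1_c0 LD2_c8 LD3_c27) Lrfl Lrfl
theorem f36295 : Led Lsl_gt (LP (LK LD1_c0 LD2_c8 LD3_c27)) = (LP (LK LD1_c0 LD2_c18 LD3_c46)) :=
  Lre_g IH (LK LD1_c0 LD2_c8 LD3_c27) (LK LD1_c0 LD2_c18 LD3_c46) Lrfl Lrfl
theorem f16648 : Led Lsl_bt (LP (LK LD1_c0 LD2_c2 LD3_c41)) = (LP (LK LD1_c0 LD2_c5 LD3_c45)) :=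
  Lre_b IH (LK LD1_c0 LD2_c2 LD3_c41) (LK LD1_c0 LD2_c5 LD3_c45) Lrfl Lrfl
theorem f21193 : Led Lsl_et (LP (LK LD1_c0 LD2_c5 LD3_c45)) = (LP (LK LD1_c0 LD2_c5 LD3_c45)) :=
  Lgr Lrot74 (Lpe (f16648 IH) (Lpr_ef (K0.f21189 IH) (Lpe (f16647 IH) (Lpn (LP (LK LD1_c0 LD2_c5 LD3_c45))))))
theorem f16651 : Led Lsl_dt (LP (LK LD1_c0 LD2_c5 LD3_c45)) = (LP (LK LD1_c0 LD2_c12 LD3_c33)) :=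
  Lre_d IH (LK LD1_c0 LD2_c5 LD3_c45) (LK LD1_c0 LD2_c12 LD3_c33) Lrfl Lrfl
theorem f8324 : Led Lsl_bf (LP (LK LD1_c0 LD2_c3 LD3_c24)) = (LP (LK LD1_c0 LD2_c3 LD3_c24)) :=
  Lgr Lrot93 (Lpr_dt (K0.f8309 IH) (Lpr_bt (K0.f3856 IH) (Lpe (K0.f8305 IH) (Lpn (LP (LK LD1_c0 LD2_c3 LD3_c24))))))
theorem f8344 : Led Lsl_bt (LP (LK LD1_c0 LD2_c12 LD3_c33)) = (LP (LK LD1_c0 LD2_c5 LD3_c58)) :=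
  Lre_b IH (LK LD1_c0 LD2_c12 LD3_c33) (LK LD1_c0 LD2_c5 LD3_c58) Lrfl Lrfl
theorem f8345 : Led Lsl_ct (LP (LK LD1_c0 LD2_c12 LD3_c33)) = (LP (LK LD1_c0 LD2_c28 LD3_c25)) :=
  Lre_c IH (LK LD1_c0 LD2_c12 LD3_c33) (LK LD1_c0 LD2_c28 LD3_c25) Lrfl Lrfl
theorem f34723 : Led Lsl_bt (LP (LK LD1_c0 LD2_c17 LD3_c55)) = (LP (LK LD1_c0 LD2_c8 LD3_c2)) :=
  Lre_b IH (LK LD1_c0 LD2_c17 LD3_c55) (LK LD1_c0 LD2_c8 LD3_c2) Lrfl Lrfl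
theorem f27220 : Led Lsl_ct (LP (LK LD1_c0 LD2_c17 LD3_c55)) = (LP (LK LD1_c0 LD2_c39 LD3_c53)) :=
  Lre_c IH (LK LD1_c0 LD2_c17 LD3_c55) (LK LD1_c0 LD2_c39 LD3_c53) Lrfl Lrfl
theorem f35533 : Led Lsl_gt (LP (LK LD1_c0 LD2_c28 LD3_c25)) = (LP (LK LD1_c0 LD2_c39 LD3_c53)) :=
  Lgr Lrot65 (Lpe (f8345 IH) (Lpr_bt (f8344 IH) (Lpe (K0.f8313 IH) (Lpr_bf (f8324 IH) (Lpr_ct (K0.f8307 IH) (Lpr_gf (K0.f35518 IH) (Lpe (K0.f35517 IH) (Lpr_gf (K0.f27193 IH) (Lpe (f34723 IH) (Lpr_ct (f27220 IH) (Lpn (LP (LK LD1_c0 LD2_c39 LD3_c53)))))))))))))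
theorem f34709 : Led Lsl_ct (LP (LK LD1_c0 LD2_c39 LD3_c53)) = (LP (LK LD1_c0 LD2_c17 LD3_c55)) :=
  Lre_c IH (LK LD1_c0 LD2_c39 LD3_c53) (LK LD1_c0 LD2_c17 LD3_c55) Lrfl Lrfl
theorem f27214 : Led Lsl_dt (LP (LK LD1_c0 LD2_c17 LD3_c55)) = (LP (LK LD1_c0 LD2_c8 LD3_c1)) :=
  Lre_d IH (LK LD1_c0 LD2_c17 LD3_c55) (LK LD1_c0 LD2_c8 LD3_c1) Lrfl Lrfl
theorem f28522 : Led Lsl_dt (LP (LK LD1_c0 LD2_c5 LD3_c6)) = (LP (LK LD1_c0 LD2_c10 LD3_c59)) :=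
  Lre_d IH (LK LD1_c0 LD2_c5 LD3_c6) (LK LD1_c0 LD2_c10 LD3_c59) Lrfl Lrfl
theorem f28523 : Led Lsl_gt (LP (LK LD1_c0 LD2_c10 LD3_c59)) = (LP (LK LD1_c0 LD2_c24 LD3_c38)) :=
  Lre_g IH (LK LD1_c0 LD2_c10 LD3_c59) (LK LD1_c0 LD2_c24 LD3_c38) Lrfl Lrfl
theorem f9572 : Led Lsl_et (LP (LK LD1_c0 LD2_c13 LD3_c6)) = (LP (LK LD1_c0 LD2_c5 LD3_c59)) :=
  Lre_e IH (LK LD1_c0 LD2_c13 LD3_c6) (LK LD1_c0 LD2_c5 LD3_c59) Lrfl Lrfl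
theorem f35429 : Led Lsl_df (LP (LK LD1_c0 LD2_c24 LD3_c38)) = (LP (LK LD1_c0 LD2_c13 LD3_c6)) :=
  Lgr Lrot168 (Lpe (f28523 IH) (Lpe (f28522 IH) (Lpr_et (f28504 IH) (Lpe (K0.f28507 IH) (Lpr_ef (K0.f35427 IH) (Lpr_dt (K0.f8092 IH) (Lpe (K0.f27758 IH) (Lpr_df (K0.f33567 IH) (Lpe (K0.f6972 IH) (Lpe (f9572 IH) (Lpn (LP (LK LD1_c0 LD2_c13 LD3_c6)))))))))))))
theorem f35541 : Led Lsl_gf (LP (LK LD1_c0 LD2_c12 LD3_c33)) = (LP (LK LD1_c0 LD2_c24 LD3_c38)) :=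
  Lgr Lrot179 (Lpr_ct (f8345 IH) (Lpr_gt (f35533 IH) (Lpr_ct (f34709 IH) (Lpr_dt (f27214 IH) (Lpe (K0.f35392 IH) (Lpe (K0.f13647 IH) (Lpe (K0.f13635 IH) (Lpe (K0.f35424 IH) (Lpe (f35429 IH) (Lpn (LP (LK LD1_c0 LD2_c24 LD3_c38))))))))))))
theorem f36326 : Led Lsl_df (LP (LK LD1_c0 LD2_c18 LD3_c46)) = (LP (LK LD1_c0 LD2_c13 LD3_c7)) :=
  Lgr Lrot132 (Lpe (f36295 IH) (Lpe (f36294 IH) (Lpr_gf (f36314 IH) (Lpe (f21193 IH) (Lpr_dt (f16651 IH) (Lpr_gf (f35541 IH) (Lpr_df (f35429 IH) (Lpr_et (f9572 IH) (Lpr_gf (K0.f9568 IH) (Lpe (K0.f9566 IH) (Lpn (LP (LK LD1_c0 LD2_c13 LD3_c7)))))))))))))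
theorem f16635 : Led Lsl_gt (LP (LK LD1_c0 LD2_c2 LD3_c35)) = (LP (LK LD1_c0 LD2_c5 LD3_c42)) :=
  Lre_g IH (LK LD1_c0 LD2_c2 LD3_c35) (LK LD1_c0 LD2_c5 LD3_c42) Lrfl Lrfl
theorem f36407 : Led Lsl_et (LP (LK LD1_c0 LD2_c3 LD3_c51)) = (LP (LK LD1_c0 LD2_c5 LD3_c42)) :=
  Lgr Lrot122 (Lpr_dt (f36294 IH) (Lpr_gt (f36295 IH) (Lpr_df (f36326 IH) (Lpr_et (K0.f9566 IH) (Lpe (K0.f9568 IH) (Lpr_dt (K0.f31048 IH) (Lpr_gt (K0.f16674 IH) (Lpe (K0.f16668 IH) (Lpr_et (K0.f16626 IH) (Lpr_gt (f16635 IH) (Lpn (LP (LK LD1_c0 LD2_c5 LD3_c42)))))))))))))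
theorem f36414 : Led Lsl_ef (LP (LK LD1_c0 LD2_c3 LD3_c51)) = (LP (LK LD1_c0 LD2_c5 LD3_c42)) :=
  Lgr Lrot88 (Lpr_et (f36407 IH) (Lpn (LP (LK LD1_c0 LD2_c5 LD3_c42))))
theorem f7154 : Led Lsl_bt (LP (LK LD1_c0 LD2_c3 LD3_c51)) = (LP (LK LD1_c0 LD2_c1 LD3_c40)) :=
  Lre_b IH (LK LD1_c0 LD2_c3 LD3_c51) (LK LD1_c0 LD2_c1 LD3_c40) Lrfl Lrfl
theorem f7128 : Led Lsl_ct (LP (LK LD1_c0 LD2_c0 LD3_c37)) = (LP (LK LD1_c0 LD2_c1 LD3_c40)) :=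
  Lre_c IH (LK LD1_c0 LD2_c0 LD3_c37) (LK LD1_c0 LD2_c1 LD3_c40) Lrfl Lrfl
theorem f25771 : Led Lsl_et (LP (LK LD1_c0 LD2_c1 LD3_c40)) = (LP (LK LD1_c0 LD2_c2 LD3_c48)) :=
  Lgr Lrot158 (Lpe (f7128 IH) (Lpr_ef (K0.f7163 IH) (Lpqs (K0.f20991 IH) (Lpe (K0.f20257 IH) (Lpn (LP (LK LD1_c0 LD2_c2 LD3_c48)))))))
theorem f36416 : Led Lsl_bt (LP (LK LD1_c0 LD2_c2 LD3_c48)) = (LP (LK LD1_c0 LD2_c5 LD3_c42)) :=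
  Lgr Lrot119 (Lpe (f25771 IH) (Lpe (f7154 IH) (Lpr_ef (f36414 IH) (Lpn (LP (LK LD1_c0 LD2_c5 LD3_c42))))))
theorem f7117 : Led Lsl_ct (LP (LK LD1_c0 LD2_c1 LD3_c38)) = (LP (LK LD1_c0 LD2_c0 LD3_c36)) :=
  Lre_c IH (LK LD1_c0 LD2_c1 LD3_c38) (LK LD1_c0 LD2_c0 LD3_c36) Lrfl Lrfl
theorem f7131 : Led Lsl_bt (LP (LK LD1_c0 LD2_c3 LD3_c46)) = (LP (LK LD1_c0 LD2_c1 LD3_c38)) :=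
  Lre_b IH (LK LD1_c0 LD2_c3 LD3_c46) (LK LD1_c0 LD2_c1 LD3_c38) Lrfl Lrfl
theorem f36599 : Led Lsl_cf (LP (LK LD1_c0 LD2_c3 LD3_c46)) = (LP (LK LD1_c0 LD2_c5 LD3_c42)) :=
  Lgr Lrot97 (Lpr_bt (f7131 IH) (Lpr_ct (f7117 IH) (Lpr_bt (K0.f7129 IH) (Lpq (K0.f25767 IH) (Lpr_ct (K0.f7013 IH) (Lpr_bt (f36416 IH) (Lpn (LP (LK LD1_c0 LD2_c5 LD3_c42)))))))))
theorem f24962 : Led Lsl_gt (LP (LK LD1_c0 LD2_c3 LD3_c46)) = (LP (LK LD1_c0 LD2_c8 LD3_c11)) :=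
  Lre_g IH (LK LD1_c0 LD2_c3 LD3_c46) (LK LD1_c0 LD2_c8 LD3_c11) Lrfl Lrfl
theorem f29158 : Led Lsl_et (LP (LK LD1_c0 LD2_c25 LD3_c1)) = (LP (LK LD1_c0 LD2_c11 LD3_c8)) :=
  Lre_e IH (LK LD1_c0 LD2_c25 LD3_c1) (LK LD1_c0 LD2_c11 LD3_c8) Lrfl Lrfl
theorem f29159 : Led Lsl_bf (LP (LK LD1_c0 LD2_c25 LD3_c1)) = (LP (LK LD1_c0 LD2_c31 LD3_c26)) :=
  Lgr Lrot96 (Lpr_et (f29158 IH) (Lpr_bt (K0.f29152 IH) (Lpr_et (K0.f1594 IH) (Lpn (LP (LK LD1_c0 LD2_c31 LD3_c26))))))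
theorem f29169 : Led Lsl_ft (LP (LK LD1_c0 LD2_c25 LD3_c1)) = (LP (LK LD1_c0 LD2_c55 LD3_c15)) :=
  Lre_f IH (LK LD1_c0 LD2_c25 LD3_c1) (LK LD1_c0 LD2_c55 LD3_c15) Lrfl Lrfl
theorem f29170 : Led Lsl_bt (LP (LK LD1_c0 LD2_c55 LD3_c15)) = (LP (LK LD1_c1 LD2_c8 LD3_c46)) :=
  Lgr Lrot35 (Lpe (f29169 IH) (Lpr_bf (f29159 IH) (Lpe (K0.f1591 IH) (Lpn (LP (LK LD1_c1 LD2_c8 LD3_c46))))))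
theorem f29174 : Led Lsl_bf (LP (LK LD1_c0 LD2_c55 LD3_c15)) = (LP (LK LD1_c1 LD2_c8 LD3_c46)) :=
  Lgr Lrot24 (Lpr_bt (f29170 IH) (Lpn (LP (LK LD1_c1 LD2_c8 LD3_c46))))
theorem f29183 : Led Lsl_ef (LP (LK LD1_c0 LD2_c55 LD3_c15)) = (LP (LK LD1_c0 LD2_c55 LD3_c15)) :=
  Lgr Lrot29 (Lpr_bt (f29170 IH) (Lpe (K0.f1581 IH) (Lpe (f29174 IH) (Lpn (LP (LK LD1_c0 LD2_c55 LD3_c15))))))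
theorem f2147 : Led Lsl_bt (LP (LK LD1_c0 LD2_c14 LD3_c13)) = (LP (LK LD1_c0 LD2_c31 LD3_c52)) :=
  Lre_b IH (LK LD1_c0 LD2_c14 LD3_c13) (LK LD1_c0 LD2_c31 LD3_c52) Lrfl Lrfl
theorem f29172 : Led Lsl_af (LP (LK LD1_c0 LD2_c55 LD3_c15)) = (LP (LK LD1_c0 LD2_c31 LD3_c52)) :=
  Lgr Lrot36 (Lpr_bt (f29170 IH) (Lpr_at (K0.f1589 IH) (Lpr_bt (K0.f1519 IH) (Lpr_at (K0.f2186 IH) (Lpr_bt (f2147 IH) (Lpn (LP (LK LD1_c0 LD2_c31 LD3_c52))))))))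
theorem f29190 : Led Lsl_at (LP (LK LD1_c0 LD2_c55 LD3_c15)) = (LP (LK LD1_c0 LD2_c31 LD3_c52)) :=
  Lgr Lrot80 (Lpr_ef (f29183 IH) (Lpr_af (f29172 IH) (Lpr_ef (K0.f2412 IH) (Lpn (LP (LK LD1_c0 LD2_c31 LD3_c52))))))
theorem f28758 : Led Lsl_dt (LP (LK LD1_c0 LD2_c25 LD3_c1)) = (LP (LK LD1_c0 LD2_c55 LD3_c14)) :=
  Lre_d IH (LK LD1_c0 LD2_c25 LD3_c1) (LK LD1_c0 LD2_c55 LD3_c14) Lrfl Lrfl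
theorem f29245 : Led Lsl_ct (LP (LK LD1_c0 LD2_c55 LD3_c14)) = (LP (LK LD1_c1 LD2_c56 LD3_c56)) :=
  Lre_c IH (LK LD1_c0 LD2_c55 LD3_c14) (LK LD1_c1 LD2_c56 LD3_c56) Lrfl Lrfl
theorem f29246 : Led Lsl_dt (LP (LK LD1_c1 LD2_c56 LD3_c56)) = (LP (LK LD1_c4 LD2_c0 LD3_c19)) :=
  Lre_d IH (LK LD1_c1 LD2_c56 LD3_c56) (LK LD1_c4 LD2_c0 LD3_c19) Lrfl Lrfl
theorem f6937 : Led Lsl_dt (LP (LK LD1_c0 LD2_c55 LD3_c11)) = (LP (LK LD1_c0 LD2_c24 LD3_c60)) :=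
  Lre_d IH (LK LD1_c0 LD2_c55 LD3_c11) (LK LD1_c0 LD2_c24 LD3_c60) Lrfl Lrfl
theorem f6938 : Led Lsl_ct (LP (LK LD1_c1 LD2_c56 LD3_c48)) = (LP (LK LD1_c0 LD2_c55 LD3_c11)) :=
  Lre_c IH (LK LD1_c1 LD2_c56 LD3_c48) (LK LD1_c0 LD2_c55 LD3_c11) Lrfl Lrfl
theorem f6939 : Led Lsl_dt (LP (LK LD1_c4 LD2_c0 LD3_c5)) = (LP (LK LD1_c1 LD2_c56 LD3_c48)) :=
  Lre_d IH (LK LD1_c4 LD2_c0 LD3_c5) (LK LD1_c1 LD2_c56 LD3_c48) Lrfl Lrfl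
theorem f29247 : Led Lsl_ct (LP (LK LD1_c4 LD2_c0 LD3_c19)) = (LP (LK LD1_c4 LD2_c0 LD3_c5)) :=
  Lgr Lrot41 (Lpe (f29246 IH) (Lpe (f29245 IH) (Lpe (f28758 IH) (Lpr_ft (f29169 IH) (Lpr_at (f29190 IH) (Lpr_cf (K0.f6926 IH) (Lpe (f6937 IH) (Lpe (f6938 IH) (Lpe (f6939 IH) (Lpn (LP (LK LD1_c4 LD2_c0 LD3_c5))))))))))))
theorem f28939 : Led Lsl_ct (LP (LK LD1_c0 LD2_c11 LD3_c9)) = (LP (LK LD1_c0 LD2_c25 LD3_c1)) :=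
  Lre_c IH (LK LD1_c0 LD2_c11 LD3_c9) (LK LD1_c0 LD2_c25 LD3_c1) Lrfl Lrfl
theorem f29257 : Led Lsl_dt (LP (LK LD1_c0 LD2_c25 LD3_c3)) = (LP (LK LD1_c0 LD2_c11 LD3_c9)) :=
  Lre_d IH (LK LD1_c0 LD2_c25 LD3_c3) (LK LD1_c0 LD2_c11 LD3_c9) Lrfl Lrfl
theorem f29275 : Led Lsl_ft (LP (LK LD1_c0 LD2_c25 LD3_c3)) = (LP (LK LD1_c0 LD2_c55 LD3_c20)) :=
  Lre_f IH (LK LD1_c0 LD2_c25 LD3_c3) (LK LD1_c0 LD2_c55 LD3_c20) Lrfl Lrfl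
theorem f29276 : Led Lsl_at (LP (LK LD1_c0 LD2_c55 LD3_c20)) = (LP (LK LD1_c0 LD2_c55 LD3_c11)) :=
  Lgr Lrot33 (Lpe (f29275 IH) (Lpr_dt (f29257 IH) (Lpr_ct (f28939 IH) (Lpr_dt (f28758 IH) (Lpr_ct (f29245 IH) (Lpr_dt (f29246 IH) (Lpr_ct (f29247 IH) (Lpr_dt (f6939 IH) (Lpr_ct (f6938 IH) (Lpn (LP (LK LD1_c0 LD2_c55 LD3_c11))))))))))))
theorem f2976 : Led Lsl_ft (LP (LK LD1_c0 LD2_c55 LD3_c11)) = (LP (LK LD1_c0 LD2_c24 LD3_c59)) :=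
  Lre_f IH (LK LD1_c0 LD2_c55 LD3_c11) (LK LD1_c0 LD2_c24 LD3_c59) Lrfl Lrfl
theorem f29290 : Led Lsl_af (LP (LK LD1_c0 LD2_c25 LD3_c3)) = (LP (LK LD1_c0 LD2_c24 LD3_c59)) :=
  Lgr Lrot45 (Lpr_ft (f29275 IH) (Lpr_at (f29276 IH) (Lpr_ft (f2976 IH) (Lpn (LP (LK LD1_c0 LD2_c24 LD3_c59))))))
theorem f29299 : Led Lsl_et (LP (LK LD1_c0 LD2_c25 LD3_c3)) = (LP (LK LD1_c0 LD2_c11 LD3_c11)) :=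
  Lre_e IH (LK LD1_c0 LD2_c25 LD3_c3) (LK LD1_c0 LD2_c11 LD3_c11) Lrfl Lrfl
theorem f29300 : Led Lsl_at (LP (LK LD1_c0 LD2_c11 LD3_c11)) = (LP (LK LD1_c0 LD2_c11 LD3_c7)) :=
  Lgr Lrot80 (Lpe (f29299 IH) (Lpr_af (f29290 IH) (Lpe (K0.f2959 IH) (Lpn (LP (LK LD1_c0 LD2_c11 LD3_c7))))))
theorem f29316 : Led Lsl_ft (LP (LK LD1_c0 LD2_c25 LD3_c8)) = (LP (LK LD1_c0 LD2_c11 LD3_c11)) :=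
  Lre_f IH (LK LD1_c0 LD2_c25 LD3_c8) (LK LD1_c0 LD2_c11 LD3_c11) Lrfl Lrfl
theorem f34707 : Led Lsl_gt (LP (LK LD1_c0 LD2_c25 LD3_c8)) = (LP (LK LD1_c0 LD2_c17 LD3_c55)) :=
  Lgr Lrot5 (Lpr_ft (f29316 IH) (Lpr_at (f29300 IH) (Lpr_gf (K0.f34705 IH) (Lpn (LP (LK LD1_c0 LD2_c17 LD3_c55))))))
theorem f28565 : Led Lsl_dt (LP (LK LD1_c0 LD2_c5 LD3_c13)) = (LP (LK LD1_c0 LD2_c11 LD3_c11)) :=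
  Lre_d IH (LK LD1_c0 LD2_c5 LD3_c13) (LK LD1_c0 LD2_c11 LD3_c11) Lrfl Lrfl
theorem f29314 : Led Lsl_af (LP (LK LD1_c0 LD2_c5 LD3_c13)) = (LP (LK LD1_c0 LD2_c5 LD3_c11)) :=
  Lgr Lrot117 (Lpr_dt (f28565 IH) (Lpr_at (f29300 IH) (Lpr_dt (K0.f2947 IH) (Lpn (LP (LK LD1_c0 LD2_c5 LD3_c11))))))
theorem f2945 : Led Lsl_bt (LP (LK LD1_c0 LD2_c6 LD3_c28)) = (LP (LK LD1_c0 LD2_c5 LD3_c11)) :=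
  Lgr Lrot127 (Lpr_bf (K0.f2943 IH) (Lpn (LP (LK LD1_c0 LD2_c5 LD3_c11))))
theorem f2988 : Led Lsl_dt (LP (LK LD1_c0 LD2_c14 LD3_c5)) = (LP (LK LD1_c0 LD2_c31 LD3_c43)) :=
  Lre_d IH (LK LD1_c0 LD2_c14 LD3_c5) (LK LD1_c0 LD2_c31 LD3_c43) Lrfl Lrfl
theorem f6902 : Led Lsl_af (LP (LK LD1_c0 LD2_c31 LD3_c43)) = (LP (LK LD1_c0 LD2_c31 LD3_c43)) :=
  Lgr Lrot117 (Lpr_dt (K0.f2972 IH) (Lpr_at (K0.f6898 IH) (Lpr_dt (f2988 IH) (Lpn (LP (LK LD1_c0 LD2_c31 LD3_c43))))))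
theorem f3043 : Led Lsl_et (LP (LK LD1_c0 LD2_c14 LD3_c6)) = (LP (LK LD1_c0 LD2_c31 LD3_c43)) :=
  Lre_e IH (LK LD1_c0 LD2_c14 LD3_c6) (LK LD1_c0 LD2_c31 LD3_c43) Lrfl Lrfl
theorem f6906 : Led Lsl_at (LP (LK LD1_c0 LD2_c14 LD3_c6)) = (LP (LK LD1_c0 LD2_c14 LD3_c6)) :=
  Lgr Lrot80 (Lpe (K0.f2958 IH) (Lpr_af (f6902 IH) (Lpe (f3043 IH) (Lpn (LP (LK LD1_c0 LD2_c14 LD3_c6))))))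
theorem f3051 : Led Lsl_dt (LP (LK LD1_c0 LD2_c14 LD3_c6)) = (LP (LK LD1_c0 LD2_c6 LD3_c28)) :=
  Lre_d IH (LK LD1_c0 LD2_c14 LD3_c6) (LK LD1_c0 LD2_c6 LD3_c28) Lrfl Lrfl
theorem f6910 : Led Lsl_af (LP (LK LD1_c0 LD2_c6 LD3_c28)) = (LP (LK LD1_c0 LD2_c6 LD3_c28)) :=
  Lgr Lrot117 (Lpr_dt (K0.f2922 IH) (Lpr_at (f6906 IH) (Lpr_dt (f3051 IH) (Lpn (LP (LK LD1_c0 LD2_c6 LD3_c28))))))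
theorem f29317 : Led Lsl_at (LP (LK LD1_c0 LD2_c5 LD3_c13)) = (LP (LK LD1_c0 LD2_c5 LD3_c11)) :=
  Lgr Lrot100 (Lpr_af (f29314 IH) (Lpn (LP (LK LD1_c0 LD2_c5 LD3_c11))))
theorem f29319 : Led Lsl_bt (LP (LK LD1_c0 LD2_c5 LD3_c13)) = (LP (LK LD1_c0 LD2_c5 LD3_c13)) :=
  Lgr Lrot62 (Lpr_af (f29314 IH) (Lpe (f2945 IH) (Lpr_af (f6910 IH) (Lpr_bf (K0.f2943 IH) (Lpe (f29317 IH) (Lpn (LP (LK LD1_c0 LD2_c5 LD3_c13))))))))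
theorem f29237 : Led Lsl_ft (LP (LK LD1_c0 LD2_c11 LD3_c12)) = (LP (LK LD1_c0 LD2_c5 LD3_c13)) :=
  Lre_f IH (LK LD1_c0 LD2_c11 LD3_c12) (LK LD1_c0 LD2_c5 LD3_c13) Lrfl Lrfl
theorem f29238 : Led Lsl_ft (LP (LK LD1_c0 LD2_c5 LD3_c13)) = (LP (LK LD1_c0 LD2_c11 LD3_c12)) :=
  Lre_f IH (LK LD1_c0 LD2_c5 LD3_c13) (LK LD1_c0 LD2_c11 LD3_c12) Lrfl Lrfl
theorem f29325 : Led Lsl_bf (LP (LK LD1_c0 LD2_c11 LD3_c12)) = (LP (LK LD1_c0 LD2_c11 LD3_c12)) :=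
  Lgr Lrot61 (Lpr_ft (f29237 IH) (Lpr_bt (f29319 IH) (Lpr_ft (f29238 IH) (Lpn (LP (LK LD1_c0 LD2_c11 LD3_c12))))))
theorem f29228 : Led Lsl_dt (LP (LK LD1_c0 LD2_c11 LD3_c12)) = (LP (LK LD1_c0 LD2_c25 LD3_c8)) :=
  Lre_d IH (LK LD1_c0 LD2_c11 LD3_c12) (LK LD1_c0 LD2_c25 LD3_c8) Lrfl Lrfl
theorem f29230 : Led Lsl_dt (LP (LK LD1_c0 LD2_c25 LD3_c8)) = (LP (LK LD1_c0 LD2_c11 LD3_c12)) :=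
  Lre_d IH (LK LD1_c0 LD2_c25 LD3_c8) (LK LD1_c0 LD2_c11 LD3_c12) Lrfl Lrfl
theorem f29327 : Led Lsl_bt (LP (LK LD1_c0 LD2_c25 LD3_c8)) = (LP (LK LD1_c0 LD2_c25 LD3_c8)) :=
  Lgr Lrot95 (Lpe (f29228 IH) (Lpr_bf (f29325 IH) (Lpe (f29230 IH) (Lpn (LP (LK LD1_c0 LD2_c25 LD3_c8))))))
theorem f29331 : Led Lsl_ct (LP (LK LD1_c0 LD2_c25 LD3_c8)) = (LP (LK LD1_c0 LD2_c55 LD3_c26)) :=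
  Lre_c IH (LK LD1_c0 LD2_c25 LD3_c8) (LK LD1_c0 LD2_c55 LD3_c26) Lrfl Lrfl
theorem f34741 : Led Lsl_gt (LP (LK LD1_c0 LD2_c28 LD3_c17)) = (LP (LK LD1_c0 LD2_c55 LD3_c26)) :=
  Lgr Lrot149 (Lpe (K0.f34740 IH) (Lpe (K0.f27912 IH) (Lpe (K0.f34737 IH) (Lpr_ct (K0.f20188 IH) (Lpe (K0.f23000 IH) (Lpr_cf (K0.f34712 IH) (Lpr_bt (K0.f23017 IH) (Lpe (f34707 IH) (Lpe (f29327 IH) (Lpr_ct (f29331 IH) (Lpn (LP (LK LD1_c0 LD2_c55 LD3_c26)))))))))))))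
theorem f29329 : Led Lsl_ct (LP (LK LD1_c0 LD2_c55 LD3_c26)) = (LP (LK LD1_c0 LD2_c25 LD3_c8)) :=
  Lre_c IH (LK LD1_c0 LD2_c55 LD3_c26) (LK LD1_c0 LD2_c25 LD3_c8) Lrfl Lrfl
theorem f36616 : Led Lsl_ct (LP (LK LD1_c0 LD2_c8 LD3_c11)) = (LP (LK LD1_c0 LD2_c11 LD3_c12)) :=
  Lgr Lrot110 (Lpe (f24962 IH) (Lpr_cf (f36599 IH) (Lpe (f16635 IH) (Lpe (K0.f16620 IH) (Lpr_gt (K0.f27912 IH) (Lpr_ct (K0.f34740 IH) (Lpr_gt (f34741 IH) (Lpr_ct (f29329 IH) (Lpe (f29228 IH) (Lpn (LP (LK LD1_c0 LD2_c11 LD3_c12))))))))))))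
theorem f36624 : Led Lsl_dt (LP (LK LD1_c0 LD2_c18 LD3_c11)) = (LP (LK LD1_c0 LD2_c8 LD3_c11)) :=
  Lre_d IH (LK LD1_c0 LD2_c18 LD3_c11) (LK LD1_c0 LD2_c8 LD3_c11) Lrfl Lrfl
theorem f36625 : Led Lsl_ct (LP (LK LD1_c0 LD2_c40 LD3_c37)) = (LP (LK LD1_c0 LD2_c18 LD3_c11)) :=
  Lre_c IH (LK LD1_c0 LD2_c40 LD3_c37) (LK LD1_c0 LD2_c18 LD3_c11) Lrfl Lrfl
theorem f36626 : Led Lsl_dt (LP (LK LD1_c1 LD2_c27 LD3_c47)) = (LP (LK LD1_c0 LD2_c40 LD3_c37)) :=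
  Lre_d IH (LK LD1_c1 LD2_c27 LD3_c47) (LK LD1_c0 LD2_c40 LD3_c37) Lrfl Lrfl
theorem f28564 : Led Lsl_et (LP (LK LD1_c0 LD2_c5 LD3_c13)) = (LP (LK LD1_c0 LD2_c2 LD3_c23)) :=
  Lre_e IH (LK LD1_c0 LD2_c5 LD3_c13) (LK LD1_c0 LD2_c2 LD3_c23) Lrfl Lrfl
theorem f28742 : Led Lsl_ct (LP (LK LD1_c0 LD2_c5 LD3_c11)) = (LP (LK LD1_c0 LD2_c5 LD3_c13)) :=
  Lgr Lrot15 (Lpe (K0.f2942 IH) (Lpr_cf (K0.f28738 IH) (Lpe (f28564 IH) (Lpn (LP (LK LD1_c0 LD2_c5 LD3_c13))))))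
theorem f2933 : Led Lsl_et (LP (LK LD1_c0 LD2_c2 LD3_c58)) = (LP (LK LD1_c0 LD2_c6 LD3_c28)) :=
  Lre_e IH (LK LD1_c0 LD2_c2 LD3_c58) (LK LD1_c0 LD2_c6 LD3_c28) Lrfl Lrfl
theorem f2934 : Led Lsl_cf (LP (LK LD1_c0 LD2_c6 LD3_c28)) = (LP (LK LD1_c0 LD2_c6 LD3_c28)) :=
  Lgr Lrot39 (Lpr_et (K0.f2921 IH) (Lpr_ct (K0.f2930 IH) (Lpr_et (f2933 IH) (Lpn (LP (LK LD1_c0 LD2_c6 LD3_c28))))))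
theorem f29322 : Led Lsl_cf (LP (LK LD1_c0 LD2_c5 LD3_c11)) = (LP (LK LD1_c0 LD2_c5 LD3_c13)) :=
  Lgr Lrot97 (Lpe (K0.f2943 IH) (Lpe (f2934 IH) (Lpr_bt (f2945 IH) (Lpr_ct (f28742 IH) (Lpr_bt (f29319 IH) (Lpn (LP (LK LD1_c0 LD2_c5 LD3_c13))))))))
theorem f29324 : Led Lsl_dt (LP (LK LD1_c0 LD2_c11 LD3_c11)) = (LP (LK LD1_c0 LD2_c5 LD3_c13)) :=
  Lre_d IH (LK LD1_c0 LD2_c11 LD3_c11) (LK LD1_c0 LD2_c5 LD3_c13) Lrfl Lrfl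
theorem f29311 : Led Lsl_ct (LP (LK LD1_c0 LD2_c25 LD3_c7)) = (LP (LK LD1_c0 LD2_c11 LD3_c11)) :=
  Lre_c IH (LK LD1_c0 LD2_c25 LD3_c7) (LK LD1_c0 LD2_c11 LD3_c11) Lrfl Lrfl
theorem f29552 : Led Lsl_dt (LP (LK LD1_c0 LD2_c55 LD3_c25)) = (LP (LK LD1_c0 LD2_c25 LD3_c7)) :=
  Lre_d IH (LK LD1_c0 LD2_c55 LD3_c25) (LK LD1_c0 LD2_c25 LD3_c7) Lrfl Lrfl
theorem f29553 : Led Lsl_ct (LP (LK LD1_c1 LD2_c57 LD3_c13)) = (LP (LK LD1_c0 LD2_c55 LD3_c25)) :=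
  Lre_c IH (LK LD1_c1 LD2_c57 LD3_c13) (LK LD1_c0 LD2_c55 LD3_c25) Lrfl Lrfl
theorem f29554 : Led Lsl_dt (LP (LK LD1_c0 LD2_c55 LD3_c26)) = (LP (LK LD1_c1 LD2_c57 LD3_c13)) :=
  Lgr Lrot32 (Lpe (f29331 IH) (Lpe (f29228 IH) (Lpr_ft (f29237 IH) (Lpr_at (f29317 IH) (Lpr_cf (f29322 IH) (Lpe (f29324 IH) (Lpe (f29311 IH) (Lpe (f29552 IH) (Lpe (f29553 IH) (Lpn (LP (LK LD1_c1 LD2_c57 LD3_c13))))))))))))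
theorem f29556 : Led Lsl_ft (LP (LK LD1_c0 LD2_c55 LD3_c26)) = (LP (LK LD1_c0 LD2_c25 LD3_c7)) :=
  Lre_f IH (LK LD1_c0 LD2_c55 LD3_c26) (LK LD1_c0 LD2_c25 LD3_c7) Lrfl Lrfl
theorem f29557 : Led Lsl_af (LP (LK LD1_c0 LD2_c25 LD3_c0)) = (LP (LK LD1_c0 LD2_c25 LD3_c7)) :=
  Lgr Lrot109 (Lpe (K0.f2954 IH) (Lpe (K0.f3052 IH) (Lpr_cf (f29322 IH) (Lpe (f29324 IH) (Lpe (f29311 IH) (Lpe (f29552 IH) (Lpe (f29553 IH) (Lpe (f29554 IH) (Lpr_ft (f29556 IH) (Lpn (LP (LK LD1_c0 LD2_c25 LD3_c7))))))))))))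
theorem f29551 : Led Lsl_dt (LP (LK LD1_c0 LD2_c25 LD3_c0)) = (LP (LK LD1_c0 LD2_c55 LD3_c13)) :=
  Lre_d IH (LK LD1_c0 LD2_c25 LD3_c0) (LK LD1_c0 LD2_c55 LD3_c13) Lrfl Lrfl
theorem f29564 : Led Lsl_at (LP (LK LD1_c0 LD2_c55 LD3_c13)) = (LP (LK LD1_c0 LD2_c55 LD3_c25)) :=
  Lgr Lrot51 (Lpe (f29551 IH) (Lpr_af (f29557 IH) (Lpe (f29552 IH) (Lpn (LP (LK LD1_c0 LD2_c55 LD3_c25))))))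
theorem f36637 : Led Lsl_ft (LP (LK LD1_c1 LD2_c27 LD3_c47)) = (LP (LK LD1_c0 LD2_c55 LD3_c13)) :=
  Lgr Lrot142 (Lpr_dt (f36626 IH) (Lpr_ct (f36625 IH) (Lpr_dt (f36624 IH) (Lpr_ct (f36616 IH) (Lpr_dt (f29228 IH) (Lpr_ct (f29331 IH) (Lpr_dt (f29554 IH) (Lpr_ct (f29553 IH) (Lpe (f29564 IH) (Lpn (LP (LK LD1_c0 LD2_c55 LD3_c13))))))))))))
theorem f36652 : Led Lsl_ff (LP (LK LD1_c1 LD2_c27 LD3_c47)) = (LP (LK LD1_c0 LD2_c55 LD3_c13)) :=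
  Lgr Lrot3 (Lpr_ft (f36637 IH) (Lpn (LP (LK LD1_c0 LD2_c55 LD3_c13))))
theorem f36661 : Led Lsl_et (LP (LK LD1_c1 LD2_c27 LD3_c47)) = (LP (LK LD1_c3 LD2_c3 LD3_c38)) :=
  Lre_e IH (LK LD1_c1 LD2_c27 LD3_c47) (LK LD1_c3 LD2_c3 LD3_c38) Lrfl Lrfl
theorem f36662 : Led Lsl_ft (LP (LK LD1_c3 LD2_c3 LD3_c38)) = (LP (LK LD1_c6 LD2_c13 LD3_c37)) :=
  Lre_f IH (LK LD1_c3 LD2_c3 LD3_c38) (LK LD1_c6 LD2_c13 LD3_c37) Lrfl Lrfl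
theorem f30098 : Led Lsl_et (LP (LK LD1_c1 LD2_c56 LD3_c53)) = (LP (LK LD1_c0 LD2_c55 LD3_c13)) :=
  Lre_e IH (LK LD1_c1 LD2_c56 LD3_c53) (LK LD1_c0 LD2_c55 LD3_c13) Lrfl Lrfl
theorem f30051 : Led Lsl_ft (LP (LK LD1_c4 LD2_c0 LD3_c13)) = (LP (LK LD1_c1 LD2_c56 LD3_c53)) :=
  Lre_f IH (LK LD1_c4 LD2_c0 LD3_c13) (LK LD1_c1 LD2_c56 LD3_c53) Lrfl Lrfl
theorem f36663 : Led Lsl_et (LP (LK LD1_c6 LD2_c13 LD3_c37)) = (LP (LK LD1_c4 LD2_c0 LD3_c13)) :=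
  Lgr Lrot69 (Lpe (f36662 IH) (Lpe (f36661 IH) (Lpr_ff (f36652 IH) (Lpe (f30098 IH) (Lpe (f30051 IH) (Lpn (LP (LK LD1_c4 LD2_c0 LD3_c13))))))))
theorem f36685 : Led Lsl_dt (LP (LK LD1_c12 LD2_c6 LD3_c1)) = (LP (LK LD1_c6 LD2_c13 LD3_c37)) :=
  Lre_d IH (LK LD1_c12 LD2_c6 LD3_c1) (LK LD1_c6 LD2_c13 LD3_c37) Lrfl Lrfl
theorem f36686 : Led Lsl_et (LP (LK LD1_c21 LD2_c11 LD3_c60)) = (LP (LK LD1_c12 LD2_c6 LD3_c1)) :=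
  Lre_e IH (LK LD1_c21 LD2_c11 LD3_c60) (LK LD1_c12 LD2_c6 LD3_c1) Lrfl Lrfl
theorem f29952 : Led Lsl_dt (LP (LK LD1_c4 LD2_c0 LD3_c13)) = (LP (LK LD1_c8 LD2_c1 LD3_c12)) :=
  Lre_d IH (LK LD1_c4 LD2_c0 LD3_c13) (LK LD1_c8 LD2_c1 LD3_c12) Lrfl Lrfl
theorem f30090 : Led Lsl_et (LP (LK LD1_c8 LD2_c1 LD3_c12)) = (LP (LK LD1_c15 LD2_c6 LD3_c3)) :=
  Lre_e IH (LK LD1_c8 LD2_c1 LD3_c12) (LK LD1_c15 LD2_c6 LD3_c3) Lrfl Lrfl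
theorem f36687 : Led Lsl_df (LP (LK LD1_c21 LD2_c11 LD3_c60)) = (LP (LK LD1_c15 LD2_c6 LD3_c3)) :=
  Lgr Lrot70 (Lpr_et (f36686 IH) (Lpr_dt (f36685 IH) (Lpr_et (f36663 IH) (Lpr_dt (f29952 IH) (Lpr_et (f30090 IH) (Lpn (LP (LK LD1_c15 LD2_c6 LD3_c3))))))))
theorem f36694 : Led Lsl_ft (LP (LK LD1_c21 LD2_c11 LD3_c60)) = (LP (LK LD1_c12 LD2_c6 LD3_c8)) :=
  Lre_f IH (LK LD1_c21 LD2_c11 LD3_c60) (LK LD1_c12 LD2_c6 LD3_c8) Lrfl Lrfl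
theorem f30199 : Led Lsl_ft (LP (LK LD1_c8 LD2_c1 LD3_c13)) = (LP (LK LD1_c15 LD2_c6 LD3_c3)) :=
  Lre_f IH (LK LD1_c8 LD2_c1 LD3_c13) (LK LD1_c15 LD2_c6 LD3_c3) Lrfl Lrfl
theorem f36695 : Led Lsl_dt (LP (LK LD1_c12 LD2_c6 LD3_c8)) = (LP (LK LD1_c8 LD2_c1 LD3_c13)) :=
  Lgr Lrot60 (Lpe (f36694 IH) (Lpr_df (f36687 IH) (Lpe (f30199 IH) (Lpn (LP (LK LD1_c8 LD2_c1 LD3_c13))))))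
theorem f36702 : Led Lsl_et (LP (LK LD1_c6 LD2_c13 LD3_c41)) = (LP (LK LD1_c12 LD2_c6 LD3_c8)) :=
  Lre_e IH (LK LD1_c6 LD2_c13 LD3_c41) (LK LD1_c12 LD2_c6 LD3_c8) Lrfl Lrfl
theorem f36703 : Led Lsl_dt (LP (LK LD1_c3 LD2_c3 LD3_c40)) = (LP (LK LD1_c6 LD2_c13 LD3_c41)) :=
  Lre_d IH (LK LD1_c3 LD2_c3 LD3_c40) (LK LD1_c6 LD2_c13 LD3_c41) Lrfl Lrfl
theorem f30197 : Led Lsl_et (LP (LK LD1_c8 LD2_c1 LD3_c13)) = (LP (LK LD1_c4 LD2_c0 LD3_c5)) :=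
  Lre_e IH (LK LD1_c8 LD2_c1 LD3_c13) (LK LD1_c4 LD2_c0 LD3_c5) Lrfl Lrfl
theorem f36704 : Led Lsl_ef (LP (LK LD1_c3 LD2_c3 LD3_c40)) = (LP (LK LD1_c1 LD2_c56 LD3_c48)) :=
  Lgr Lrot73 (Lpr_dt (f36703 IH) (Lpr_et (f36702 IH) (Lpr_dt (f36695 IH) (Lpr_et (f30197 IH) (Lpr_dt (f6939 IH) (Lpn (LP (LK LD1_c1 LD2_c56 LD3_c48))))))))
theorem f36715 : Led Lsl_et (LP (LK LD1_c3 LD2_c3 LD3_c40)) = (LP (LK LD1_c1 LD2_c56 LD3_c48)) :=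
  Lgr Lrot87 (Lpr_ef (f36704 IH) (Lpn (LP (LK LD1_c1 LD2_c56 LD3_c48))))
theorem f36721 : Led Lsl_ct (LP (LK LD1_c1 LD2_c27 LD3_c50)) = (LP (LK LD1_c3 LD2_c3 LD3_c40)) :=
  Lre_c IH (LK LD1_c1 LD2_c27 LD3_c50) (LK LD1_c3 LD2_c3 LD3_c40) Lrfl Lrfl
theorem f36722 : Led Lsl_ef (LP (LK LD1_c1 LD2_c27 LD3_c50)) = (LP (LK LD1_c0 LD2_c55 LD3_c11)) :=
  Lgr Lrot28 (Lpr_ct (f36721 IH) (Lpr_et (f36715 IH) (Lpr_ct (f6938 IH) (Lpn (LP (LK LD1_c0 LD2_c55 LD3_c11))))))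
theorem f6943 : Led Lsl_dt (LP (LK LD1_c0 LD2_c24 LD3_c60)) = (LP (LK LD1_c0 LD2_c55 LD3_c11)) :=
  Lre_d IH (LK LD1_c0 LD2_c24 LD3_c60) (LK LD1_c0 LD2_c55 LD3_c11) Lrfl Lrfl
theorem f36712 : Led Lsl_ct (LP (LK LD1_c3 LD2_c3 LD3_c40)) = (LP (LK LD1_c1 LD2_c27 LD3_c50)) :=
  Lre_c IH (LK LD1_c3 LD2_c3 LD3_c40) (LK LD1_c1 LD2_c27 LD3_c50) Lrfl Lrfl
theorem f6950 : Led Lsl_ct (LP (LK LD1_c0 LD2_c55 LD3_c11)) = (LP (LK LD1_c1 LD2_c56 LD3_c48)) :=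
  Lre_c IH (LK LD1_c0 LD2_c55 LD3_c11) (LK LD1_c1 LD2_c56 LD3_c48) Lrfl Lrfl
theorem f36713 : Led Lsl_et (LP (LK LD1_c1 LD2_c27 LD3_c50)) = (LP (LK LD1_c0 LD2_c55 LD3_c11)) :=
  Lgr Lrot158 (Lpe (f36712 IH) (Lpr_ef (f36704 IH) (Lpe (f6950 IH) (Lpn (LP (LK LD1_c0 LD2_c55 LD3_c11))))))
theorem f36729 : Led Lsl_dt (LP (LK LD1_c1 LD2_c27 LD3_c50)) = (LP (LK LD1_c1 LD2_c27 LD3_c50)) :=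
  Lgr Lrot77 (Lpr_ef (f36722 IH) (Lpe (f6943 IH) (Lpe (K0.f6940 IH) (Lpe (f6937 IH) (Lpe (f36713 IH) (Lpn (LP (LK LD1_c1 LD2_c27 LD3_c50))))))))
theorem f36724 : Led Lsl_dt (LP (LK LD1_c6 LD2_c13 LD3_c41)) = (LP (LK LD1_c3 LD2_c3 LD3_c40)) :=
  Lre_d IH (LK LD1_c6 LD2_c13 LD3_c41) (LK LD1_c3 LD2_c3 LD3_c40) Lrfl Lrfl
theorem f36735 : Led Lsl_ct (LP (LK LD1_c12 LD2_c6 LD3_c7)) = (LP (LK LD1_c6 LD2_c13 LD3_c41)) :=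
  Lre_c IH (LK LD1_c12 LD2_c6 LD3_c7) (LK LD1_c6 LD2_c13 LD3_c41) Lrfl Lrfl
theorem f29287 : Led Lsl_ct (LP (LK LD1_c1 LD2_c57 LD3_c0)) = (LP (LK LD1_c0 LD2_c55 LD3_c20)) :=
  Lre_c IH (LK LD1_c1 LD2_c57 LD3_c0) (LK LD1_c0 LD2_c55 LD3_c20) Lrfl Lrfl
theorem f29288 : Led Lsl_af (LP (LK LD1_c1 LD2_c57 LD3_c0)) = (LP (LK LD1_c1 LD2_c56 LD3_c48)) :=
  Lgr Lrot68 (Lpr_ct (f29287 IH) (Lpr_at (f29276 IH) (Lpr_ct (f6950 IH) (Lpn (LP (LK LD1_c1 LD2_c56 LD3_c48))))))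
theorem f30806 : Led Lsl_et (LP (LK LD1_c1 LD2_c57 LD3_c0)) = (LP (LK LD1_c4 LD2_c0 LD3_c33)) :=
  Lre_e IH (LK LD1_c1 LD2_c57 LD3_c0) (LK LD1_c4 LD2_c0 LD3_c33) Lrfl Lrfl
theorem f36719 : Led Lsl_af (LP (LK LD1_c3 LD2_c3 LD3_c40)) = (LP (LK LD1_c4 LD2_c0 LD3_c33)) :=
  Lgr Lrot50 (Lpr_et (f36715 IH) (Lpe (f29288 IH) (Lpr_et (f30806 IH) (Lpn (LP (LK LD1_c4 LD2_c0 LD3_c33))))))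
theorem f36741 : Led Lsl_ft (LP (LK LD1_c1 LD2_c57 LD3_c15)) = (LP (LK LD1_c4 LD2_c0 LD3_c33)) :=
  Lre_f IH (LK LD1_c1 LD2_c57 LD3_c15) (LK LD1_c4 LD2_c0 LD3_c33) Lrfl Lrfl
theorem f29225 : Led Lsl_dt (LP (LK LD1_c1 LD2_c57 LD3_c15)) = (LP (LK LD1_c4 LD2_c0 LD3_c58)) :=
  Lre_d IH (LK LD1_c1 LD2_c57 LD3_c15) (LK LD1_c4 LD2_c0 LD3_c58) Lrfl Lrfl
theorem f29226 : Led Lsl_ct (LP (LK LD1_c4 LD2_c0 LD3_c58)) = (LP (LK LD1_c8 LD2_c2 LD3_c42)) :=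
  Lre_c IH (LK LD1_c4 LD2_c0 LD3_c58) (LK LD1_c8 LD2_c2 LD3_c42) Lrfl Lrfl
theorem f36742 : Led Lsl_df (LP (LK LD1_c12 LD2_c6 LD3_c7)) = (LP (LK LD1_c8 LD2_c2 LD3_c42)) :=
  Lgr Lrot106 (Lpr_ct (f36735 IH) (Lpr_dt (f36724 IH) (Lpr_ct (f36712 IH) (Lpr_dt (f36729 IH) (Lpr_ct (f36721 IH) (Lpr_af (f36719 IH) (Lpe (f36741 IH) (Lpr_dt (f29225 IH) (Lpr_ct (f29226 IH) (Lpn (LP (LK LD1_c8 LD2_c2 LD3_c42))))))))))))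
theorem f29224 : Led Lsl_ct (LP (LK LD1_c0 LD2_c55 LD3_c27)) = (LP (LK LD1_c1 LD2_c57 LD3_c15)) :=
  Lre_c IH (LK LD1_c0 LD2_c55 LD3_c27) (LK LD1_c1 LD2_c57 LD3_c15) Lrfl Lrfl
theorem f29177 : Led Lsl_ct (LP (LK LD1_c0 LD2_c55 LD3_c15)) = (LP (LK LD1_c0 LD2_c25 LD3_c4)) :=
  Lre_c IH (LK LD1_c0 LD2_c55 LD3_c15) (LK LD1_c0 LD2_c25 LD3_c4) Lrfl Lrfl
theorem f29176 : Led Lsl_ct (LP (LK LD1_c0 LD2_c25 LD3_c4)) = (LP (LK LD1_c0 LD2_c55 LD3_c15)) :=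
  Lre_c IH (LK LD1_c0 LD2_c25 LD3_c4) (LK LD1_c0 LD2_c55 LD3_c15) Lrfl Lrfl
theorem f29192 : Led Lsl_et (LP (LK LD1_c0 LD2_c25 LD3_c4)) = (LP (LK LD1_c0 LD2_c25 LD3_c4)) :=
  Lgr Lrot158 (Lpe (f29177 IH) (Lpr_ef (f29183 IH) (Lpe (f29176 IH) (Lpn (LP (LK LD1_c0 LD2_c25 LD3_c4))))))
theorem f29185 : Led Lsl_dt (LP (LK LD1_c0 LD2_c55 LD3_c20)) = (LP (LK LD1_c0 LD2_c25 LD3_c4)) :=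
  Lre_d IH (LK LD1_c0 LD2_c55 LD3_c20) (LK LD1_c0 LD2_c25 LD3_c4) Lrfl Lrfl
theorem f29204 : Led Lsl_et (LP (LK LD1_c1 LD2_c57 LD3_c1)) = (LP (LK LD1_c0 LD2_c55 LD3_c20)) :=
  Lre_e IH (LK LD1_c1 LD2_c57 LD3_c1) (LK LD1_c0 LD2_c55 LD3_c20) Lrfl Lrfl
theorem f29205 : Led Lsl_dt (LP (LK LD1_c0 LD2_c25 LD3_c4)) = (LP (LK LD1_c0 LD2_c55 LD3_c20)) :=
  Lre_d IH (LK LD1_c0 LD2_c25 LD3_c4) (LK LD1_c0 LD2_c55 LD3_c20) Lrfl Lrfl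
theorem f29206 : Led Lsl_et (LP (LK LD1_c0 LD2_c55 LD3_c20)) = (LP (LK LD1_c1 LD2_c57 LD3_c1)) :=
  Lre_e IH (LK LD1_c0 LD2_c55 LD3_c20) (LK LD1_c1 LD2_c57 LD3_c1) Lrfl Lrfl
theorem f29207 : Led Lsl_df (LP (LK LD1_c1 LD2_c57 LD3_c1)) = (LP (LK LD1_c1 LD2_c57 LD3_c1)) :=
  Lgr Lrot70 (Lpr_et (f29204 IH) (Lpr_dt (f29185 IH) (Lpr_et (f29192 IH) (Lpr_dt (f29205 IH) (Lpr_et (f29206 IH) (Lpn (LP (LK LD1_c1 LD2_c57 LD3_c1))))))))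
theorem f29215 : Led Lsl_ft (LP (LK LD1_c1 LD2_c57 LD3_c1)) = (LP (LK LD1_c0 LD2_c55 LD3_c27)) :=
  Lre_f IH (LK LD1_c1 LD2_c57 LD3_c1) (LK LD1_c0 LD2_c55 LD3_c27) Lrfl Lrfl
theorem f29216 : Led Lsl_ft (LP (LK LD1_c0 LD2_c55 LD3_c27)) = (LP (LK LD1_c1 LD2_c57 LD3_c1)) :=
  Lre_f IH (LK LD1_c0 LD2_c55 LD3_c27) (LK LD1_c1 LD2_c57 LD3_c1) Lrfl Lrfl
theorem f29217 : Led Lsl_dt (LP (LK LD1_c0 LD2_c55 LD3_c27)) = (LP (LK LD1_c0 LD2_c55 LD3_c27)) :=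
  Lgr Lrot60 (Lpe (f29215 IH) (Lpr_df (f29207 IH) (Lpe (f29216 IH) (Lpn (LP (LK LD1_c0 LD2_c55 LD3_c27))))))
theorem f29221 : Led Lsl_ct (LP (LK LD1_c1 LD2_c57 LD3_c15)) = (LP (LK LD1_c0 LD2_c55 LD3_c27)) :=
  Lre_c IH (LK LD1_c1 LD2_c57 LD3_c15) (LK LD1_c0 LD2_c55 LD3_c27) Lrfl Lrfl
theorem f29222 : Led Lsl_dt (LP (LK LD1_c4 LD2_c0 LD3_c58)) = (LP (LK LD1_c1 LD2_c57 LD3_c15)) :=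
  Lre_d IH (LK LD1_c4 LD2_c0 LD3_c58) (LK LD1_c1 LD2_c57 LD3_c15) Lrfl Lrfl
theorem f29233 : Led Lsl_ft (LP (LK LD1_c4 LD2_c0 LD3_c58)) = (LP (LK LD1_c8 LD2_c2 LD3_c3)) :=
  Lre_f IH (LK LD1_c4 LD2_c0 LD3_c58) (LK LD1_c8 LD2_c2 LD3_c3) Lrfl Lrfl
theorem f36754 : Led Lsl_af (LP (LK LD1_c6 LD2_c13 LD3_c41)) = (LP (LK LD1_c8 LD2_c2 LD3_c3)) :=
  Lgr Lrot109 (Lpe (f36735 IH) (Lpr_df (f36742 IH) (Lpe (f29226 IH) (Lpe (f29225 IH) (Lpe (f29224 IH) (Lpe (f29217 IH) (Lpe (f29221 IH) (Lpe (f29222 IH) (Lpr_ft (f29233 IH) (Lpn (LP (LK LD1_c8 LD2_c2 LD3_c3))))))))))))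
theorem f36740 : Led Lsl_ft (LP (LK LD1_c6 LD2_c13 LD3_c41)) = (LP (LK LD1_c3 LD2_c3 LD3_c39)) :=
  Lre_f IH (LK LD1_c6 LD2_c13 LD3_c41) (LK LD1_c3 LD2_c3 LD3_c39) Lrfl Lrfl
theorem f36761 : Led Lsl_at (LP (LK LD1_c3 LD2_c3 LD3_c39)) = (LP (LK LD1_c4 LD2_c0 LD3_c58)) :=
  Lgr Lrot66 (Lpe (f36740 IH) (Lpr_af (f36754 IH) (Lpe (f29233 IH) (Lpn (LP (LK LD1_c4 LD2_c0 LD3_c58))))))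
theorem f36776 : Led Lsl_et (LP (LK LD1_c6 LD2_c13 LD3_c36)) = (LP (LK LD1_c3 LD2_c3 LD3_c39)) :=
  Lre_e IH (LK LD1_c6 LD2_c13 LD3_c36) (LK LD1_c3 LD2_c3 LD3_c39) Lrfl Lrfl
theorem f30715 : Led Lsl_ft (LP (LK LD1_c0 LD2_c25 LD3_c7)) = (LP (LK LD1_c0 LD2_c55 LD3_c26)) :=
  Lre_f IH (LK LD1_c0 LD2_c25 LD3_c7) (LK LD1_c0 LD2_c55 LD3_c26) Lrfl Lrfl
theorem f30716 : Led Lsl_ff (LP (LK LD1_c0 LD2_c55 LD3_c25)) = (LP (LK LD1_c1 LD2_c57 LD3_c13)) :=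
  Lgr Lrot19 (Lpr_dt (f29552 IH) (Lpr_ft (f30715 IH) (Lpr_dt (f29554 IH) (Lpn (LP (LK LD1_c1 LD2_c57 LD3_c13))))))
theorem f30726 : Led Lsl_ft (LP (LK LD1_c0 LD2_c55 LD3_c25)) = (LP (LK LD1_c1 LD2_c57 LD3_c13)) :=
  Lgr Lrot48 (Lpr_ff (f30716 IH) (Lpn (LP (LK LD1_c1 LD2_c57 LD3_c13))))
theorem f30048 : Led Lsl_et (LP (LK LD1_c1 LD2_c57 LD3_c14)) = (LP (LK LD1_c0 LD2_c55 LD3_c25)) :=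
  Lre_e IH (LK LD1_c1 LD2_c57 LD3_c14) (LK LD1_c0 LD2_c55 LD3_c25) Lrfl Lrfl
theorem f30101 : Led Lsl_ft (LP (LK LD1_c4 LD2_c0 LD3_c57)) = (LP (LK LD1_c1 LD2_c57 LD3_c14)) :=
  Lre_f IH (LK LD1_c4 LD2_c0 LD3_c57) (LK LD1_c1 LD2_c57 LD3_c14) Lrfl Lrfl
theorem f30712 : Led Lsl_et (LP (LK LD1_c1 LD2_c57 LD3_c13)) = (LP (LK LD1_c4 LD2_c0 LD3_c54)) :=
  Lre_e IH (LK LD1_c1 LD2_c57 LD3_c13) (LK LD1_c4 LD2_c0 LD3_c54) Lrfl Lrfl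
theorem f30074 : Led Lsl_ft (LP (LK LD1_c4 LD2_c0 LD3_c54)) = (LP (LK LD1_c8 LD2_c2 LD3_c33)) :=
  Lre_f IH (LK LD1_c4 LD2_c0 LD3_c54) (LK LD1_c8 LD2_c2 LD3_c33) Lrfl Lrfl
theorem f30728 : Led Lsl_ef (LP (LK LD1_c4 LD2_c0 LD3_c57)) = (LP (LK LD1_c8 LD2_c2 LD3_c33)) :=
  Lgr Lrot21 (Lpr_ft (f30101 IH) (Lpr_et (f30048 IH) (Lpr_ft (f30726 IH) (Lpr_et (f30712 IH) (Lpr_ft (f30074 IH) (Lpn (LP (LK LD1_c8 LD2_c2 LD3_c33))))))))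
theorem f29985 : Led Lsl_dt (LP (LK LD1_c4 LD2_c0 LD3_c57)) = (LP (LK LD1_c8 LD2_c2 LD3_c1)) :=
  Lre_d IH (LK LD1_c4 LD2_c0 LD3_c57) (LK LD1_c8 LD2_c2 LD3_c1) Lrfl Lrfl
theorem f29962 : Led Lsl_et (LP (LK LD1_c8 LD2_c2 LD3_c1)) = (LP (LK LD1_c15 LD2_c7 LD3_c45)) :=
  Lre_e IH (LK LD1_c8 LD2_c2 LD3_c1) (LK LD1_c15 LD2_c7 LD3_c45) Lrfl Lrfl
theorem f29987 : Led Lsl_dt (LP (LK LD1_c15 LD2_c7 LD3_c45)) = (LP (LK LD1_c24 LD2_c56 LD3_c35)) :=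
  Lre_d IH (LK LD1_c15 LD2_c7 LD3_c45) (LK LD1_c24 LD2_c56 LD3_c35) Lrfl Lrfl
theorem f29974 : Led Lsl_dt (LP (LK LD1_c15 LD2_c8 LD3_c27)) = (LP (LK LD1_c8 LD2_c2 LD3_c33)) :=
  Lre_d IH (LK LD1_c15 LD2_c8 LD3_c27) (LK LD1_c8 LD2_c2 LD3_c33) Lrfl Lrfl
theorem f30733 : Led Lsl_et (LP (LK LD1_c24 LD2_c56 LD3_c35)) = (LP (LK LD1_c15 LD2_c8 LD3_c27)) :=
  Lgr Lrot71 (Lpe (f29987 IH) (Lpe (f29962 IH) (Lpe (f29985 IH) (Lpr_ef (f30728 IH) (Lpe (f29974 IH) (Lpn (LP (LK LD1_c15 LD2_c8 LD3_c27))))))))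
theorem f30735 : Led Lsl_ef (LP (LK LD1_c24 LD2_c56 LD3_c35)) = (LP (LK LD1_c15 LD2_c8 LD3_c27)) :=
  Lgr Lrot88 (Lpr_et (f30733 IH) (Lpn (LP (LK LD1_c15 LD2_c8 LD3_c27))))
theorem f30225 : Led Lsl_ft (LP (LK LD1_c24 LD2_c56 LD3_c35)) = (LP (LK LD1_c15 LD2_c7 LD3_c48)) :=
  Lre_f IH (LK LD1_c24 LD2_c56 LD3_c35) (LK LD1_c15 LD2_c7 LD3_c48) Lrfl Lrfl
theorem f30739 : Led Lsl_et (LP (LK LD1_c15 LD2_c7 LD3_c48)) = (LP (LK LD1_c8 LD2_c2 LD3_c3)) :=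
  Lre_e IH (LK LD1_c15 LD2_c7 LD3_c48) (LK LD1_c8 LD2_c2 LD3_c3) Lrfl Lrfl
theorem f29219 : Led Lsl_ft (LP (LK LD1_c8 LD2_c2 LD3_c3)) = (LP (LK LD1_c4 LD2_c0 LD3_c58)) :=
  Lre_f IH (LK LD1_c8 LD2_c2 LD3_c3) (LK LD1_c4 LD2_c0 LD3_c58) Lrfl Lrfl
theorem f30740 : Led Lsl_ft (LP (LK LD1_c8 LD2_c2 LD3_c32)) = (LP (LK LD1_c15 LD2_c8 LD3_c27)) :=
  Lre_f IH (LK LD1_c8 LD2_c2 LD3_c32) (LK LD1_c15 LD2_c8 LD3_c27) Lrfl Lrfl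
theorem f30741 : Led Lsl_et (LP (LK LD1_c4 LD2_c0 LD3_c58)) = (LP (LK LD1_c8 LD2_c2 LD3_c32)) :=
  Lgr Lrot69 (Lpe (f29219 IH) (Lpe (f30739 IH) (Lpe (f30225 IH) (Lpr_ef (f30735 IH) (Lpe (f30740 IH) (Lpn (LP (LK LD1_c8 LD2_c2 LD3_c32))))))))
theorem f36777 : Led Lsl_af (LP (LK LD1_c6 LD2_c13 LD3_c36)) = (LP (LK LD1_c8 LD2_c2 LD3_c32)) :=
  Lgr Lrot50 (Lpr_et (f36776 IH) (Lpr_at (f36761 IH) (Lpr_et (f30741 IH) (Lpn (LP (LK LD1_c8 LD2_c2 LD3_c32))))))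
theorem f36795 : Led Lsl_ct (LP (LK LD1_c12 LD2_c6 LD3_c0)) = (LP (LK LD1_c6 LD2_c13 LD3_c36)) :=
  Lre_c IH (LK LD1_c12 LD2_c6 LD3_c0) (LK LD1_c6 LD2_c13 LD3_c36) Lrfl Lrfl
theorem f36796 : Led Lsl_dt (LP (LK LD1_c21 LD2_c11 LD3_c58)) = (LP (LK LD1_c12 LD2_c6 LD3_c0)) :=
  Lre_d IH (LK LD1_c21 LD2_c11 LD3_c58) (LK LD1_c12 LD2_c6 LD3_c0) Lrfl Lrfl
theorem f30738 : Led Lsl_ft (LP (LK LD1_c15 LD2_c8 LD3_c27)) = (LP (LK LD1_c8 LD2_c2 LD3_c32)) :=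
  Lre_f IH (LK LD1_c15 LD2_c8 LD3_c27) (LK LD1_c8 LD2_c2 LD3_c32) Lrfl Lrfl
theorem f29973 : Led Lsl_ct (LP (LK LD1_c8 LD2_c2 LD3_c33)) = (LP (LK LD1_c4 LD2_c0 LD3_c57)) :=
  Lre_c IH (LK LD1_c8 LD2_c2 LD3_c33) (LK LD1_c4 LD2_c0 LD3_c57) Lrfl Lrfl
theorem f29946 : Led Lsl_ct (LP (LK LD1_c8 LD2_c2 LD3_c1)) = (LP (LK LD1_c15 LD2_c7 LD3_c39)) :=
  Lre_c IH (LK LD1_c8 LD2_c2 LD3_c1) (LK LD1_c15 LD2_c7 LD3_c39) Lrfl Lrfl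
theorem f29976 : Led Lsl_dt (LP (LK LD1_c15 LD2_c7 LD3_c39)) = (LP (LK LD1_c24 LD2_c56 LD3_c31)) :=
  Lre_d IH (LK LD1_c15 LD2_c7 LD3_c39) (LK LD1_c24 LD2_c56 LD3_c31) Lrfl Lrfl
theorem f36797 : Led Lsl_cf (LP (LK LD1_c21 LD2_c11 LD3_c58)) = (LP (LK LD1_c24 LD2_c56 LD3_c31)) :=
  Lgr Lrot161 (Lpr_dt (f36796 IH) (Lpr_ct (f36795 IH) (Lpr_af (f36777 IH) (Lpe (f30738 IH) (Lpr_dt (f29974 IH) (Lpr_ct (f29973 IH) (Lpr_dt (f29985 IH) (Lpr_ct (f29946 IH) (Lpr_dt (f29976 IH) (Lpn (LP (LK LD1_c24 LD2_c56 LD3_c31))))))))))))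
theorem f36786 : Led Lsl_dt (LP (LK LD1_c6 LD2_c13 LD3_c36)) = (LP (LK LD1_c3 LD2_c3 LD3_c38)) :=
  Lre_d IH (LK LD1_c6 LD2_c13 LD3_c36) (LK LD1_c3 LD2_c3 LD3_c38) Lrfl Lrfl
theorem f29566 : Led Lsl_et (LP (LK LD1_c0 LD2_c25 LD3_c0)) = (LP (LK LD1_c0 LD2_c55 LD3_c10)) :=
  Lre_e IH (LK LD1_c0 LD2_c25 LD3_c0) (LK LD1_c0 LD2_c55 LD3_c10) Lrfl Lrfl
theorem f29567 : Led Lsl_et (LP (LK LD1_c0 LD2_c55 LD3_c19)) = (LP (LK LD1_c0 LD2_c25 LD3_c7)) :=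
  Lre_e IH (LK LD1_c0 LD2_c55 LD3_c19) (LK LD1_c0 LD2_c25 LD3_c7) Lrfl Lrfl
theorem f29568 : Led Lsl_at (LP (LK LD1_c0 LD2_c55 LD3_c10)) = (LP (LK LD1_c0 LD2_c55 LD3_c19)) :=
  Lgr Lrot80 (Lpe (f29566 IH) (Lpr_af (f29557 IH) (Lpe (f29567 IH) (Lpn (LP (LK LD1_c0 LD2_c55 LD3_c19))))))
theorem f29575 : Led Lsl_ft (LP (LK LD1_c1 LD2_c56 LD3_c48)) = (LP (LK LD1_c0 LD2_c55 LD3_c10)) :=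
  Lre_f IH (LK LD1_c1 LD2_c56 LD3_c48) (LK LD1_c0 LD2_c55 LD3_c10) Lrfl Lrfl
theorem f29576 : Led Lsl_ft (LP (LK LD1_c0 LD2_c55 LD3_c19)) = (LP (LK LD1_c1 LD2_c57 LD3_c0)) :=
  Lre_f IH (LK LD1_c0 LD2_c55 LD3_c19) (LK LD1_c1 LD2_c57 LD3_c0) Lrfl Lrfl
theorem f29577 : Led Lsl_af (LP (LK LD1_c1 LD2_c56 LD3_c48)) = (LP (LK LD1_c1 LD2_c57 LD3_c0)) :=
  Lgr Lrot45 (Lpr_ft (f29575 IH) (Lpr_at (f29568 IH) (Lpr_ft (f29576 IH) (Lpn (LP (LK LD1_c1 LD2_c57 LD3_c0))))))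
theorem f2746 : Led Lsl_ct (LP (LK LD1_c2 LD2_c24 LD3_c25)) = (LP (LK LD1_c1 LD2_c9 LD3_c21)) :=
  Lre_c IH (LK LD1_c2 LD2_c24 LD3_c25) (LK LD1_c1 LD2_c9 LD3_c21) Lrfl Lrfl
theorem f29572 : Led Lsl_dt (LP (LK LD1_c0 LD2_c55 LD3_c19)) = (LP (LK LD1_c1 LD2_c56 LD3_c61)) :=
  Lre_d IH (LK LD1_c0 LD2_c55 LD3_c19) (LK LD1_c1 LD2_c56 LD3_c61) Lrfl Lrfl
theorem f29583 : Led Lsl_ct (LP (LK LD1_c1 LD2_c56 LD3_c61)) = (LP (LK LD1_c4 LD2_c0 LD3_c30)) :=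
  Lre_c IH (LK LD1_c1 LD2_c56 LD3_c61) (LK LD1_c4 LD2_c0 LD3_c30) Lrfl Lrfl
theorem f29584 : Led Lsl_df (LP (LK LD1_c2 LD2_c24 LD3_c25)) = (LP (LK LD1_c4 LD2_c0 LD3_c30)) :=
  Lgr Lrot106 (Lpr_ct (f2746 IH) (Lpr_dt (K0.f2411 IH) (Lpr_ct (K0.f6935 IH) (Lpr_dt (f6943 IH) (Lpr_ct (f6950 IH) (Lpr_af (f29577 IH) (Lpe (f29576 IH) (Lpr_dt (f29572 IH) (Lpr_ct (f29583 IH) (Lpn (LP (LK LD1_c4 LD2_c0 LD3_c30))))))))))))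
theorem f29296 : Led Lsl_ct (LP (LK LD1_c0 LD2_c25 LD3_c3)) = (LP (LK LD1_c0 LD2_c55 LD3_c19)) :=
  Lre_c IH (LK LD1_c0 LD2_c25 LD3_c3) (LK LD1_c0 LD2_c55 LD3_c19) Lrfl Lrfl
theorem f28787 : Led Lsl_dt (LP (LK LD1_c0 LD2_c11 LD3_c9)) = (LP (LK LD1_c0 LD2_c25 LD3_c3)) :=
  Lre_d IH (LK LD1_c0 LD2_c11 LD3_c9) (LK LD1_c0 LD2_c25 LD3_c3) Lrfl Lrfl
theorem f28944 : Led Lsl_ct (LP (LK LD1_c0 LD2_c25 LD3_c1)) = (LP (LK LD1_c0 LD2_c11 LD3_c9)) :=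
  Lre_c IH (LK LD1_c0 LD2_c25 LD3_c1) (LK LD1_c0 LD2_c11 LD3_c9) Lrfl Lrfl
theorem f28940 : Led Lsl_dt (LP (LK LD1_c0 LD2_c55 LD3_c14)) = (LP (LK LD1_c0 LD2_c25 LD3_c1)) :=
  Lre_d IH (LK LD1_c0 LD2_c55 LD3_c14) (LK LD1_c0 LD2_c25 LD3_c1) Lrfl Lrfl
theorem f29595 : Led Lsl_ft (LP (LK LD1_c0 LD2_c55 LD3_c14)) = (LP (LK LD1_c1 LD2_c56 LD3_c57)) :=
  Lre_f IH (LK LD1_c0 LD2_c55 LD3_c14) (LK LD1_c1 LD2_c56 LD3_c57) Lrfl Lrfl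
theorem f29596 : Led Lsl_af (LP (LK LD1_c1 LD2_c9 LD3_c21)) = (LP (LK LD1_c1 LD2_c56 LD3_c57)) :=
  Lgr Lrot109 (Lpe (f2746 IH) (Lpr_df (f29584 IH) (Lpe (f29583 IH) (Lpe (f29572 IH) (Lpe (f29296 IH) (Lpe (f28787 IH) (Lpe (f28944 IH) (Lpe (f28940 IH) (Lpr_ft (f29595 IH) (Lpn (LP (LK LD1_c1 LD2_c56 LD3_c57))))))))))))
theorem f2471 : Led Lsl_ft (LP (LK LD1_c1 LD2_c9 LD3_c21)) = (LP (LK LD1_c0 LD2_c31 LD3_c51)) :=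
  Lre_f IH (LK LD1_c1 LD2_c9 LD3_c21) (LK LD1_c0 LD2_c31 LD3_c51) Lrfl Lrfl
theorem f29641 : Led Lsl_at (LP (LK LD1_c0 LD2_c31 LD3_c51)) = (LP (LK LD1_c0 LD2_c55 LD3_c14)) :=
  Lgr Lrot66 (Lpe (f2471 IH) (Lpr_af (f29596 IH) (Lpe (f29595 IH) (Lpn (LP (LK LD1_c0 LD2_c55 LD3_c14))))))
theorem f2491 : Led Lsl_ct (LP (LK LD1_c1 LD2_c9 LD3_c20)) = (LP (LK LD1_c0 LD2_c31 LD3_c51)) :=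
  Lre_c IH (LK LD1_c1 LD2_c9 LD3_c20) (LK LD1_c0 LD2_c31 LD3_c51) Lrfl Lrfl
theorem f29650 : Led Lsl_af (LP (LK LD1_c1 LD2_c9 LD3_c20)) = (LP (LK LD1_c1 LD2_c56 LD3_c56)) :=
  Lgr Lrot68 (Lpr_ct (f2491 IH) (Lpr_at (f29641 IH) (Lpr_ct (f29245 IH) (Lpn (LP (LK LD1_c1 LD2_c56 LD3_c56))))))
theorem f2441 : Led Lsl_ct (LP (LK LD1_c0 LD2_c31 LD3_c51)) = (LP (LK LD1_c1 LD2_c9 LD3_c20)) :=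
  Lre_c IH (LK LD1_c0 LD2_c31 LD3_c51) (LK LD1_c1 LD2_c9 LD3_c20) Lrfl Lrfl
theorem f2791 : Led Lsl_dt (LP (LK LD1_c0 LD2_c14 LD3_c11)) = (LP (LK LD1_c0 LD2_c31 LD3_c51)) :=
  Lre_d IH (LK LD1_c0 LD2_c14 LD3_c11) (LK LD1_c0 LD2_c31 LD3_c51) Lrfl Lrfl
theorem f6920 : Led Lsl_cf (LP (LK LD1_c0 LD2_c14 LD3_c11)) = (LP (LK LD1_c0 LD2_c11 LD3_c6)) :=
  Lgr Lrot11 (Lpr_ct (K0.f6916 IH) (Lpn (LP (LK LD1_c0 LD2_c11 LD3_c6))))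
theorem f2989 : Led Lsl_dt (LP (LK LD1_c0 LD2_c24 LD3_c59)) = (LP (LK LD1_c0 LD2_c11 LD3_c6)) :=
  Lre_d IH (LK LD1_c0 LD2_c24 LD3_c59) (LK LD1_c0 LD2_c11 LD3_c6) Lrfl Lrfl
theorem f2968 : Led Lsl_ct (LP (LK LD1_c0 LD2_c55 LD3_c10)) = (LP (LK LD1_c0 LD2_c24 LD3_c59)) :=
  Lre_c IH (LK LD1_c0 LD2_c55 LD3_c10) (LK LD1_c0 LD2_c24 LD3_c59) Lrfl Lrfl
theorem f2977 : Led Lsl_dt (LP (LK LD1_c1 LD2_c56 LD3_c47)) = (LP (LK LD1_c0 LD2_c55 LD3_c10)) :=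
  Lre_d IH (LK LD1_c1 LD2_c56 LD3_c47) (LK LD1_c0 LD2_c55 LD3_c10) Lrfl Lrfl
theorem f6955 : Led Lsl_ct (LP (LK LD1_c4 LD2_c0 LD3_c3)) = (LP (LK LD1_c1 LD2_c56 LD3_c47)) :=
  Lre_c IH (LK LD1_c4 LD2_c0 LD3_c3) (LK LD1_c1 LD2_c56 LD3_c47) Lrfl Lrfl
theorem f29667 : Led Lsl_ft (LP (LK LD1_c4 LD2_c0 LD3_c20)) = (LP (LK LD1_c1 LD2_c56 LD3_c56)) :=
  Lre_f IH (LK LD1_c4 LD2_c0 LD3_c20) (LK LD1_c1 LD2_c56 LD3_c56) Lrfl Lrfl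
theorem f29670 : Led Lsl_df (LP (LK LD1_c4 LD2_c0 LD3_c3)) = (LP (LK LD1_c4 LD2_c0 LD3_c20)) :=
  Lgr Lrot157 (Lpr_ct (f6955 IH) (Lpr_dt (f2977 IH) (Lpr_ct (f2968 IH) (Lpr_dt (f2989 IH) (Lpe (f6920 IH) (Lpr_dt (f2791 IH) (Lpr_ct (f2441 IH) (Lpr_af (f29650 IH) (Lpe (f29667 IH) (Lpn (LP (LK LD1_c4 LD2_c0 LD3_c20))))))))))))
theorem f29681 : Led Lsl_dt (LP (LK LD1_c4 LD2_c0 LD3_c3)) = (LP (LK LD1_c4 LD2_c0 LD3_c20)) :=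
  Lgr Lrot42 (Lpr_df (f29670 IH) (Lpn (LP (LK LD1_c4 LD2_c0 LD3_c20))))
theorem f6942 : Led Lsl_ft (LP (LK LD1_c4 LD2_c0 LD3_c5)) = (LP (LK LD1_c1 LD2_c56 LD3_c47)) :=
  Lre_f IH (LK LD1_c4 LD2_c0 LD3_c5) (LK LD1_c1 LD2_c56 LD3_c47) Lrfl Lrfl
theorem f6923 : Led Lsl_ct (LP (LK LD1_c1 LD2_c56 LD3_c47)) = (LP (LK LD1_c4 LD2_c0 LD3_c3)) :=
  Lre_c IH (LK LD1_c1 LD2_c56 LD3_c47) (LK LD1_c4 LD2_c0 LD3_c3) Lrfl Lrfl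
theorem f29267 : Led Lsl_ff (LP (LK LD1_c4 LD2_c0 LD3_c19)) = (LP (LK LD1_c4 LD2_c0 LD3_c3)) :=
  Lgr Lrot23 (Lpr_ct (f29247 IH) (Lpr_ft (f6942 IH) (Lpr_ct (f6923 IH) (Lpn (LP (LK LD1_c4 LD2_c0 LD3_c3))))))
theorem f29636 : Led Lsl_ct (LP (LK LD1_c4 LD2_c0 LD3_c20)) = (LP (LK LD1_c1 LD2_c56 LD3_c57)) :=
  Lre_c IH (LK LD1_c4 LD2_c0 LD3_c20) (LK LD1_c1 LD2_c56 LD3_c57) Lrfl Lrfl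
theorem f29180 : Led Lsl_dt (LP (LK LD1_c1 LD2_c56 LD3_c57)) = (LP (LK LD1_c0 LD2_c55 LD3_c15)) :=
  Lre_d IH (LK LD1_c1 LD2_c56 LD3_c57) (LK LD1_c0 LD2_c55 LD3_c15) Lrfl Lrfl
theorem f29349 : Led Lsl_ct (LP (LK LD1_c0 LD2_c55 LD3_c20)) = (LP (LK LD1_c1 LD2_c57 LD3_c0)) :=
  Lre_c IH (LK LD1_c0 LD2_c55 LD3_c20) (LK LD1_c1 LD2_c57 LD3_c0) Lrfl Lrfl
theorem f29703 : Led Lsl_dt (LP (LK LD1_c1 LD2_c57 LD3_c0)) = (LP (LK LD1_c4 LD2_c0 LD3_c32)) :=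
  Lre_d IH (LK LD1_c1 LD2_c57 LD3_c0) (LK LD1_c4 LD2_c0 LD3_c32) Lrfl Lrfl
theorem f6922 : Led Lsl_dt (LP (LK LD1_c0 LD2_c55 LD3_c10)) = (LP (LK LD1_c1 LD2_c56 LD3_c47)) :=
  Lre_d IH (LK LD1_c0 LD2_c55 LD3_c10) (LK LD1_c1 LD2_c56 LD3_c47) Lrfl Lrfl
theorem f2978 : Led Lsl_ct (LP (LK LD1_c0 LD2_c24 LD3_c59)) = (LP (LK LD1_c0 LD2_c55 LD3_c10)) :=
  Lre_c IH (LK LD1_c0 LD2_c24 LD3_c59) (LK LD1_c0 LD2_c55 LD3_c10) Lrfl Lrfl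
theorem f2434 : Led Lsl_dt (LP (LK LD1_c0 LD2_c31 LD3_c51)) = (LP (LK LD1_c0 LD2_c14 LD3_c11)) :=
  Lre_d IH (LK LD1_c0 LD2_c31 LD3_c51) (LK LD1_c0 LD2_c14 LD3_c11) Lrfl Lrfl
theorem f2756 : Led Lsl_dt (LP (LK LD1_c2 LD2_c24 LD3_c24)) = (LP (LK LD1_c1 LD2_c9 LD3_c20)) :=
  Lre_d IH (LK LD1_c2 LD2_c24 LD3_c24) (LK LD1_c1 LD2_c9 LD3_c20) Lrfl Lrfl
theorem f29704 : Led Lsl_cf (LP (LK LD1_c2 LD2_c24 LD3_c24)) = (LP (LK LD1_c4 LD2_c0 LD3_c32)) :=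
  Lgr Lrot55 (Lpr_dt (f2756 IH) (Lpr_ct (f2491 IH) (Lpr_dt (f2434 IH) (Lpr_ct (K0.f6916 IH) (Lpr_dt (K0.f2973 IH) (Lpr_ct (f2978 IH) (Lpr_dt (f6922 IH) (Lpr_ct (f6923 IH) (Lpr_dt (f29681 IH) (Lpr_ct (f29636 IH) (Lpr_dt (f29180 IH) (Lpr_ct (f29177 IH) (Lpr_dt (f29205 IH) (Lpr_ct (f29349 IH) (Lpr_dt (f29703 IH) (Lpn (LP (LK LD1_c4 LD2_c0 LD3_c32))))))))))))))))))
theorem f29708 : Led Lsl_at (LP (LK LD1_c4 LD2_c0 LD3_c19)) = (LP (LK LD1_c2 LD2_c24 LD3_c24)) :=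
  Lgr Lrot33 (Lpr_ff (f29267 IH) (Lpr_dt (f29681 IH) (Lpr_ct (f29636 IH) (Lpr_dt (f29180 IH) (Lpr_ct (f29177 IH) (Lpr_dt (f29205 IH) (Lpr_ct (f29349 IH) (Lpr_dt (f29703 IH) (Lpe (f29704 IH) (Lpn (LP (LK LD1_c2 LD2_c24 LD3_c24))))))))))))
theorem f29263 : Led Lsl_et (LP (LK LD1_c8 LD2_c1 LD3_c39)) = (LP (LK LD1_c4 LD2_c0 LD3_c19)) :=
  Lre_e IH (LK LD1_c8 LD2_c1 LD3_c39) (LK LD1_c4 LD2_c0 LD3_c19) Lrfl Lrfl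
theorem f2494 : Led Lsl_et (LP (LK LD1_c2 LD2_c24 LD3_c24)) = (LP (LK LD1_c4 LD2_c53 LD3_c15)) :=
  Lre_e IH (LK LD1_c2 LD2_c24 LD3_c24) (LK LD1_c4 LD2_c53 LD3_c15) Lrfl Lrfl
theorem f29718 : Led Lsl_af (LP (LK LD1_c8 LD2_c1 LD3_c39)) = (LP (LK LD1_c4 LD2_c53 LD3_c15)) :=
  Lgr Lrot50 (Lpr_et (f29263 IH) (Lpr_at (f29708 IH) (Lpr_et (f2494 IH) (Lpn (LP (LK LD1_c4 LD2_c53 LD3_c15))))))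
theorem f29735 : Led Lsl_ft (LP (LK LD1_c8 LD2_c1 LD3_c39)) = (LP (LK LD1_c15 LD2_c7 LD3_c2)) :=
  Lre_f IH (LK LD1_c8 LD2_c1 LD3_c39) (LK LD1_c15 LD2_c7 LD3_c2) Lrfl Lrfl
theorem f2510 : Led Lsl_ft (LP (LK LD1_c9 LD2_c38 LD3_c32)) = (LP (LK LD1_c4 LD2_c53 LD3_c15)) :=
  Lre_f IH (LK LD1_c9 LD2_c38 LD3_c32) (LK LD1_c4 LD2_c53 LD3_c15) Lrfl Lrfl
theorem f29736 : Led Lsl_at (LP (LK LD1_c15 LD2_c7 LD3_c2)) = (LP (LK LD1_c9 LD2_c38 LD3_c32)) :=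
  Lgr Lrot66 (Lpe (f29735 IH) (Lpr_af (f29718 IH) (Lpe (f2510 IH) (Lpn (LP (LK LD1_c9 LD2_c38 LD3_c32))))))
theorem f1617 : Led Lsl_et (LP (LK LD1_c0 LD2_c6 LD3_c22)) = (LP (LK LD1_c0 LD2_c13 LD3_c59)) :=
  Lre_e IH (LK LD1_c0 LD2_c6 LD3_c22) (LK LD1_c0 LD2_c13 LD3_c59) Lrfl Lrfl
theorem f1920 : Led Lsl_dt (LP (LK LD1_c0 LD2_c13 LD3_c59)) = (LP (LK LD1_c0 LD2_c31 LD3_c29)) :=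
  Lre_d IH (LK LD1_c0 LD2_c13 LD3_c59) (LK LD1_c0 LD2_c31 LD3_c29) Lrfl Lrfl
theorem f2435 : Led Lsl_et (LP (LK LD1_c0 LD2_c31 LD3_c29)) = (LP (LK LD1_c0 LD2_c31 LD3_c51)) :=
  Lgr Lrot71 (Lpe (f1920 IH) (Lpe (f1617 IH) (Lpr_df (K0.f2432 IH) (Lpe (K0.f2427 IH) (Lpe (f2434 IH) (Lpn (LP (LK LD1_c0 LD2_c31 LD3_c51))))))))
theorem f1732 : Led Lsl_ft (LP (LK LD1_c1 LD2_c8 LD3_c58)) = (LP (LK LD1_c0 LD2_c31 LD3_c29)) :=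
  Lre_f IH (LK LD1_c1 LD2_c8 LD3_c58) (LK LD1_c0 LD2_c31 LD3_c29) Lrfl Lrfl
theorem f1551 : Led Lsl_et (LP (LK LD1_c2 LD2_c23 LD3_c48)) = (LP (LK LD1_c1 LD2_c8 LD3_c58)) :=
  Lre_e IH (LK LD1_c2 LD2_c23 LD3_c48) (LK LD1_c1 LD2_c8 LD3_c58) Lrfl Lrfl
theorem f2446 : Led Lsl_ft (LP (LK LD1_c0 LD2_c31 LD3_c51)) = (LP (LK LD1_c1 LD2_c9 LD3_c21)) :=
  Lre_f IH (LK LD1_c0 LD2_c31 LD3_c51) (LK LD1_c1 LD2_c9 LD3_c21) Lrfl Lrfl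
theorem f2447 : Led Lsl_ff (LP (LK LD1_c2 LD2_c23 LD3_c48)) = (LP (LK LD1_c2 LD2_c24 LD3_c26)) :=
  Lgr Lrot72 (Lpr_et (f1551 IH) (Lpr_ft (f1732 IH) (Lpr_et (f2435 IH) (Lpr_ft (f2446 IH) (Lpr_et (K0.f2408 IH) (Lpn (LP (LK LD1_c2 LD2_c24 LD3_c26))))))))
theorem f2461 : Led Lsl_ft (LP (LK LD1_c2 LD2_c23 LD3_c48)) = (LP (LK LD1_c2 LD2_c24 LD3_c26)) :=
  Lgr Lrot54 (Lpr_df (K0.f1532 IH) (Lpr_ff (f2447 IH) (Lpe (K0.f2396 IH) (Lpn (LP (LK LD1_c2 LD2_c24 LD3_c26))))))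
theorem f1548 : Led Lsl_ct (LP (LK LD1_c4 LD2_c52 LD3_c3)) = (LP (LK LD1_c2 LD2_c23 LD3_c48)) :=
  Lre_c IH (LK LD1_c4 LD2_c52 LD3_c3) (LK LD1_c2 LD2_c23 LD3_c48) Lrfl Lrfl
theorem f2405 : Led Lsl_ct (LP (LK LD1_c2 LD2_c24 LD3_c26)) = (LP (LK LD1_c4 LD2_c53 LD3_c16)) :=
  Lre_c IH (LK LD1_c2 LD2_c24 LD3_c26) (LK LD1_c4 LD2_c53 LD3_c16) Lrfl Lrfl
theorem f2469 : Led Lsl_ff (LP (LK LD1_c4 LD2_c52 LD3_c3)) = (LP (LK LD1_c4 LD2_c53 LD3_c16)) :=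
  Lgr Lrot23 (Lpr_ct (f1548 IH) (Lpr_ft (f2461 IH) (Lpr_ct (f2405 IH) (Lpn (LP (LK LD1_c4 LD2_c53 LD3_c16))))))
theorem f2474 : Led Lsl_et (LP (LK LD1_c4 LD2_c52 LD3_c3)) = (LP (LK LD1_c2 LD2_c23 LD3_c47)) :=
  Lre_e IH (LK LD1_c4 LD2_c52 LD3_c3) (LK LD1_c2 LD2_c23 LD3_c47) Lrfl Lrfl
theorem f1758 : Led Lsl_ft (LP (LK LD1_c2 LD2_c23 LD3_c47)) = (LP (LK LD1_c1 LD2_c8 LD3_c57)) :=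
  Lre_f IH (LK LD1_c2 LD2_c23 LD3_c47) (LK LD1_c1 LD2_c8 LD3_c57) Lrfl Lrfl
theorem f2475 : Led Lsl_et (LP (LK LD1_c2 LD2_c24 LD3_c25)) = (LP (LK LD1_c4 LD2_c53 LD3_c16)) :=
  Lre_e IH (LK LD1_c2 LD2_c24 LD3_c25) (LK LD1_c4 LD2_c53 LD3_c16) Lrfl Lrfl
theorem f2476 : Led Lsl_ft (LP (LK LD1_c1 LD2_c9 LD3_c20)) = (LP (LK LD1_c2 LD2_c24 LD3_c25)) :=
  Lre_f IH (LK LD1_c1 LD2_c9 LD3_c20) (LK LD1_c2 LD2_c24 LD3_c25) Lrfl Lrfl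
theorem f2477 : Led Lsl_et (LP (LK LD1_c1 LD2_c8 LD3_c57)) = (LP (LK LD1_c1 LD2_c9 LD3_c20)) :=
  Lgr Lrot69 (Lpe (f1758 IH) (Lpe (f2474 IH) (Lpr_ff (f2469 IH) (Lpe (f2475 IH) (Lpe (f2476 IH) (Lpn (LP (LK LD1_c1 LD2_c9 LD3_c20))))))))
theorem f1917 : Led Lsl_dt (LP (LK LD1_c2 LD2_c23 LD3_c46)) = (LP (LK LD1_c1 LD2_c8 LD3_c57)) :=
  Lre_d IH (LK LD1_c2 LD2_c23 LD3_c46) (LK LD1_c1 LD2_c8 LD3_c57) Lrfl Lrfl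
theorem f2492 : Led Lsl_et (LP (LK LD1_c4 LD2_c52 LD3_c1)) = (LP (LK LD1_c2 LD2_c23 LD3_c46)) :=
  Lre_e IH (LK LD1_c4 LD2_c52 LD3_c1) (LK LD1_c2 LD2_c23 LD3_c46) Lrfl Lrfl
theorem f2493 : Led Lsl_dt (LP (LK LD1_c1 LD2_c9 LD3_c20)) = (LP (LK LD1_c2 LD2_c24 LD3_c24)) :=
  Lre_d IH (LK LD1_c1 LD2_c9 LD3_c20) (LK LD1_c2 LD2_c24 LD3_c24) Lrfl Lrfl
theorem f2495 : Led Lsl_df (LP (LK LD1_c4 LD2_c52 LD3_c1)) = (LP (LK LD1_c4 LD2_c53 LD3_c15)) :=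
  Lgr Lrot70 (Lpr_et (f2492 IH) (Lpr_dt (f1917 IH) (Lpr_et (f2477 IH) (Lpr_dt (f2493 IH) (Lpr_et (f2494 IH) (Lpn (LP (LK LD1_c4 LD2_c53 LD3_c15))))))))
theorem f1833 : Led Lsl_ft (LP (LK LD1_c4 LD2_c52 LD3_c1)) = (LP (LK LD1_c9 LD2_c36 LD3_c23)) :=
  Lre_f IH (LK LD1_c4 LD2_c52 LD3_c1) (LK LD1_c9 LD2_c36 LD3_c23) Lrfl Lrfl
theorem f2511 : Led Lsl_dt (LP (LK LD1_c9 LD2_c36 LD3_c23)) = (LP (LK LD1_c9 LD2_c38 LD3_c32)) :=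
  Lgr Lrot60 (Lpe (f1833 IH) (Lpr_df (f2495 IH) (Lpe (f2510 IH) (Lpn (LP (LK LD1_c9 LD2_c38 LD3_c32))))))
theorem f2533 : Led Lsl_df (LP (LK LD1_c9 LD2_c36 LD3_c23)) = (LP (LK LD1_c9 LD2_c38 LD3_c32)) :=
  Lgr Lrot38 (Lpr_dt (f2511 IH) (Lpn (LP (LK LD1_c9 LD2_c38 LD3_c32))))
theorem f1818 : Led Lsl_at (LP (LK LD1_c9 LD2_c36 LD3_c23)) = (LP (LK LD1_c17 LD2_c37 LD3_c9)) :=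
  Lre_a IH (LK LD1_c9 LD2_c36 LD3_c23) (LK LD1_c17 LD2_c37 LD3_c9) Lrfl Lrfl
theorem f29751 : Led Lsl_df (LP (LK LD1_c15 LD2_c7 LD3_c2)) = (LP (LK LD1_c17 LD2_c37 LD3_c9)) :=
  Lgr Lrot18 (Lpr_at (f29736 IH) (Lpe (f2533 IH) (Lpr_at (f1818 IH) (Lpn (LP (LK LD1_c17 LD2_c37 LD3_c9))))))
theorem f29760 : Led Lsl_dt (LP (LK LD1_c15 LD2_c7 LD3_c2)) = (LP (LK LD1_c17 LD2_c37 LD3_c9)) :=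
  Lgr Lrot42 (Lpr_df (f29751 IH) (Lpn (LP (LK LD1_c17 LD2_c37 LD3_c9))))
theorem f1777 : Led Lsl_ft (LP (LK LD1_c17 LD2_c37 LD3_c9)) = (LP (LK LD1_c9 LD2_c34 LD3_c3)) :=
  Lre_f IH (LK LD1_c17 LD2_c37 LD3_c9) (LK LD1_c9 LD2_c34 LD3_c3) Lrfl Lrfl
theorem f29763 : Led Lsl_df (LP (LK LD1_c8 LD2_c1 LD3_c39)) = (LP (LK LD1_c9 LD2_c34 LD3_c3)) :=
  Lgr Lrot78 (Lpr_ft (f29735 IH) (Lpr_dt (f29760 IH) (Lpr_ft (f1777 IH) (Lpn (LP (LK LD1_c9 LD2_c34 LD3_c3))))))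
theorem f29579 : Led Lsl_dt (LP (LK LD1_c4 LD2_c0 LD3_c19)) = (LP (LK LD1_c1 LD2_c56 LD3_c56)) :=
  Lre_d IH (LK LD1_c4 LD2_c0 LD3_c19) (LK LD1_c1 LD2_c56 LD3_c56) Lrfl Lrfl
theorem f1751 : Led Lsl_et (LP (LK LD1_c4 LD2_c50 LD3_c59)) = (LP (LK LD1_c9 LD2_c34 LD3_c3)) :=
  Lre_e IH (LK LD1_c4 LD2_c50 LD3_c59) (LK LD1_c9 LD2_c34 LD3_c3) Lrfl Lrfl
theorem f29767 : Led Lsl_et (LP (LK LD1_c1 LD2_c56 LD3_c56)) = (LP (LK LD1_c2 LD2_c23 LD3_c18)) :=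
  Lgr Lrot71 (Lpe (f29579 IH) (Lpe (f29263 IH) (Lpr_df (f29763 IH) (Lpe (f1751 IH) (Lpe (K0.f1720 IH) (Lpn (LP (LK LD1_c2 LD2_c23 LD3_c18))))))))
theorem f29685 : Led Lsl_et (LP (LK LD1_c8 LD2_c1 LD3_c40)) = (LP (LK LD1_c4 LD2_c0 LD3_c20)) :=
  Lre_e IH (LK LD1_c8 LD2_c1 LD3_c40) (LK LD1_c4 LD2_c0 LD3_c20) Lrfl Lrfl
theorem f1724 : Led Lsl_ft (LP (LK LD1_c2 LD2_c23 LD3_c18)) = (LP (LK LD1_c4 LD2_c50 LD3_c60)) :=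
  Lre_f IH (LK LD1_c2 LD2_c23 LD3_c18) (LK LD1_c4 LD2_c50 LD3_c60) Lrfl Lrfl
theorem f1817 : Led Lsl_et (LP (LK LD1_c4 LD2_c50 LD3_c60)) = (LP (LK LD1_c9 LD2_c34 LD3_c4)) :=
  Lre_e IH (LK LD1_c4 LD2_c50 LD3_c60) (LK LD1_c9 LD2_c34 LD3_c4) Lrfl Lrfl
theorem f29777 : Led Lsl_ff (LP (LK LD1_c8 LD2_c1 LD3_c40)) = (LP (LK LD1_c9 LD2_c34 LD3_c4)) :=
  Lgr Lrot72 (Lpr_et (f29685 IH) (Lpr_ft (f29667 IH) (Lpr_et (f29767 IH) (Lpr_ft (f1724 IH) (Lpr_et (f1817 IH) (Lpn (LP (LK LD1_c9 LD2_c34 LD3_c4))))))))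
theorem f29783 : Led Lsl_ft (LP (LK LD1_c8 LD2_c1 LD3_c40)) = (LP (LK LD1_c9 LD2_c34 LD3_c4)) :=
  Lgr Lrot48 (Lpr_ff (f29777 IH) (Lpn (LP (LK LD1_c9 LD2_c34 LD3_c4))))
theorem f1555 : Led Lsl_at (LP (LK LD1_c9 LD2_c34 LD3_c4)) = (LP (LK LD1_c4 LD2_c52 LD3_c3)) :=
  Lre_a IH (LK LD1_c9 LD2_c34 LD3_c4) (LK LD1_c4 LD2_c52 LD3_c3) Lrfl Lrfl
theorem f1545 : Led Lsl_ct (LP (LK LD1_c2 LD2_c23 LD3_c48)) = (LP (LK LD1_c4 LD2_c52 LD3_c3)) :=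
  Lre_c IH (LK LD1_c2 LD2_c23 LD3_c48) (LK LD1_c4 LD2_c52 LD3_c3) Lrfl Lrfl
theorem f2402 : Led Lsl_ct (LP (LK LD1_c4 LD2_c53 LD3_c16)) = (LP (LK LD1_c2 LD2_c24 LD3_c26)) :=
  Lre_c IH (LK LD1_c4 LD2_c53 LD3_c16) (LK LD1_c2 LD2_c24 LD3_c26) Lrfl Lrfl
theorem f2459 : Led Lsl_ft (LP (LK LD1_c4 LD2_c52 LD3_c3)) = (LP (LK LD1_c4 LD2_c53 LD3_c16)) :=
  Lgr Lrot4 (Lpe (f1545 IH) (Lpr_ff (f2447 IH) (Lpe (f2402 IH) (Lpn (LP (LK LD1_c4 LD2_c53 LD3_c16))))))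
theorem f29788 : Led Lsl_af (LP (LK LD1_c8 LD2_c1 LD3_c40)) = (LP (LK LD1_c4 LD2_c53 LD3_c16)) :=
  Lgr Lrot45 (Lpr_ft (f29783 IH) (Lpr_at (f1555 IH) (Lpr_ft (f2459 IH) (Lpn (LP (LK LD1_c4 LD2_c53 LD3_c16))))))
theorem f29203 : Led Lsl_dt (LP (LK LD1_c8 LD2_c1 LD3_c40)) = (LP (LK LD1_c15 LD2_c7 LD3_c3)) :=
  Lre_d IH (LK LD1_c8 LD2_c1 LD3_c40) (LK LD1_c15 LD2_c7 LD3_c3) Lrfl Lrfl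
theorem f2403 : Led Lsl_dt (LP (LK LD1_c9 LD2_c38 LD3_c35)) = (LP (LK LD1_c4 LD2_c53 LD3_c16)) :=
  Lre_d IH (LK LD1_c9 LD2_c38 LD3_c35) (LK LD1_c4 LD2_c53 LD3_c16) Lrfl Lrfl
theorem f29913 : Led Lsl_at (LP (LK LD1_c15 LD2_c7 LD3_c3)) = (LP (LK LD1_c9 LD2_c38 LD3_c35)) :=
  Lgr Lrot51 (Lpe (f29203 IH) (Lpr_af (f29788 IH) (Lpe (f2403 IH) (Lpn (LP (LK LD1_c9 LD2_c38 LD3_c35))))))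
theorem f29683 : Led Lsl_et (LP (LK LD1_c4 LD2_c0 LD3_c3)) = (LP (LK LD1_c8 LD2_c1 LD3_c9)) :=
  Lre_e IH (LK LD1_c4 LD2_c0 LD3_c3) (LK LD1_c8 LD2_c1 LD3_c9) Lrfl Lrfl
theorem f29684 : Led Lsl_dt (LP (LK LD1_c8 LD2_c1 LD3_c9)) = (LP (LK LD1_c15 LD2_c5 LD3_c57)) :=
  Lre_d IH (LK LD1_c8 LD2_c1 LD3_c9) (LK LD1_c15 LD2_c5 LD3_c57) Lrfl Lrfl
theorem f29201 : Led Lsl_dt (LP (LK LD1_c15 LD2_c7 LD3_c3)) = (LP (LK LD1_c8 LD2_c1 LD3_c40)) :=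
  Lre_d IH (LK LD1_c15 LD2_c7 LD3_c3) (LK LD1_c8 LD2_c1 LD3_c40) Lrfl Lrfl
theorem f29686 : Led Lsl_et (LP (LK LD1_c15 LD2_c5 LD3_c57)) = (LP (LK LD1_c15 LD2_c7 LD3_c3)) :=
  Lgr Lrot71 (Lpe (f29684 IH) (Lpe (f29683 IH) (Lpr_df (f29670 IH) (Lpe (f29685 IH) (Lpe (f29201 IH) (Lpn (LP (LK LD1_c15 LD2_c7 LD3_c3))))))))
theorem f2406 : Led Lsl_dt (LP (LK LD1_c4 LD2_c53 LD3_c16)) = (LP (LK LD1_c9 LD2_c38 LD3_c35)) :=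
  Lre_d IH (LK LD1_c4 LD2_c53 LD3_c16) (LK LD1_c9 LD2_c38 LD3_c35) Lrfl Lrfl
theorem f29589 : Led Lsl_et (LP (LK LD1_c8 LD2_c1 LD3_c60)) = (LP (LK LD1_c4 LD2_c0 LD3_c30)) :=
  Lre_e IH (LK LD1_c8 LD2_c1 LD3_c60) (LK LD1_c4 LD2_c0 LD3_c30) Lrfl Lrfl
theorem f29590 : Led Lsl_dt (LP (LK LD1_c15 LD2_c7 LD3_c38)) = (LP (LK LD1_c8 LD2_c1 LD3_c60)) :=
  Lre_d IH (LK LD1_c15 LD2_c7 LD3_c38) (LK LD1_c8 LD2_c1 LD3_c60) Lrfl Lrfl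
theorem f29591 : Led Lsl_et (LP (LK LD1_c9 LD2_c38 LD3_c35)) = (LP (LK LD1_c15 LD2_c7 LD3_c38)) :=
  Lgr Lrot71 (Lpe (f2406 IH) (Lpe (f2475 IH) (Lpr_df (f29584 IH) (Lpe (f29589 IH) (Lpe (f29590 IH) (Lpn (LP (LK LD1_c15 LD2_c7 LD3_c38))))))))
theorem f29917 : Led Lsl_af (LP (LK LD1_c15 LD2_c5 LD3_c57)) = (LP (LK LD1_c15 LD2_c7 LD3_c38)) :=
  Lgr Lrot50 (Lpr_et (f29686 IH) (Lpr_at (f29913 IH) (Lpr_et (f29591 IH) (Lpn (LP (LK LD1_c15 LD2_c7 LD3_c38))))))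
theorem f29696 : Led Lsl_ft (LP (LK LD1_c15 LD2_c5 LD3_c57)) = (LP (LK LD1_c24 LD2_c54 LD3_c4)) :=
  Lre_f IH (LK LD1_c15 LD2_c5 LD3_c57) (LK LD1_c24 LD2_c54 LD3_c4) Lrfl Lrfl
theorem f29926 : Led Lsl_ft (LP (LK LD1_c24 LD2_c56 LD3_c31)) = (LP (LK LD1_c15 LD2_c7 LD3_c38)) :=
  Lre_f IH (LK LD1_c24 LD2_c56 LD3_c31) (LK LD1_c15 LD2_c7 LD3_c38) Lrfl Lrfl
theorem f29927 : Led Lsl_at (LP (LK LD1_c24 LD2_c54 LD3_c4)) = (LP (LK LD1_c24 LD2_c56 LD3_c31)) :=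
  Lgr Lrot66 (Lpe (f29696 IH) (Lpr_af (f29917 IH) (Lpe (f29926 IH) (Lpn (LP (LK LD1_c24 LD2_c56 LD3_c31))))))
theorem f29937 : Led Lsl_dt (LP (LK LD1_c15 LD2_c5 LD3_c58)) = (LP (LK LD1_c24 LD2_c54 LD3_c4)) :=
  Lre_d IH (LK LD1_c15 LD2_c5 LD3_c58) (LK LD1_c24 LD2_c54 LD3_c4) Lrfl Lrfl
theorem f29929 : Led Lsl_dt (LP (LK LD1_c24 LD2_c56 LD3_c31)) = (LP (LK LD1_c15 LD2_c7 LD3_c39)) :=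
  Lre_d IH (LK LD1_c24 LD2_c56 LD3_c31) (LK LD1_c15 LD2_c7 LD3_c39) Lrfl Lrfl
theorem f29938 : Led Lsl_af (LP (LK LD1_c15 LD2_c5 LD3_c58)) = (LP (LK LD1_c15 LD2_c7 LD3_c39)) :=
  Lgr Lrot117 (Lpr_dt (f29937 IH) (Lpr_at (f29927 IH) (Lpr_dt (f29929 IH) (Lpn (LP (LK LD1_c15 LD2_c7 LD3_c39))))))
theorem f29945 : Led Lsl_ct (LP (LK LD1_c15 LD2_c5 LD3_c58)) = (LP (LK LD1_c8 LD2_c1 LD3_c12)) :=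
  Lre_c IH (LK LD1_c15 LD2_c5 LD3_c58) (LK LD1_c8 LD2_c1 LD3_c12) Lrfl Lrfl
theorem f29947 : Led Lsl_at (LP (LK LD1_c8 LD2_c1 LD3_c12)) = (LP (LK LD1_c8 LD2_c2 LD3_c1)) :=
  Lgr Lrot107 (Lpe (f29945 IH) (Lpr_af (f29938 IH) (Lpe (f29946 IH) (Lpn (LP (LK LD1_c8 LD2_c2 LD3_c1))))))
theorem f29965 : Led Lsl_ft (LP (LK LD1_c4 LD2_c0 LD3_c4)) = (LP (LK LD1_c8 LD2_c1 LD3_c12)) :=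
  Lre_f IH (LK LD1_c4 LD2_c0 LD3_c4) (LK LD1_c8 LD2_c1 LD3_c12) Lrfl Lrfl
theorem f29966 : Led Lsl_ft (LP (LK LD1_c8 LD2_c2 LD3_c1)) = (LP (LK LD1_c4 LD2_c0 LD3_c31)) :=
  Lre_f IH (LK LD1_c8 LD2_c2 LD3_c1) (LK LD1_c4 LD2_c0 LD3_c31) Lrfl Lrfl
theorem f29967 : Led Lsl_af (LP (LK LD1_c4 LD2_c0 LD3_c4)) = (LP (LK LD1_c4 LD2_c0 LD3_c31)) :=
  Lgr Lrot45 (Lpr_ft (f29965 IH) (Lpr_at (f29947 IH) (Lpr_ft (f29966 IH) (Lpn (LP (LK LD1_c4 LD2_c0 LD3_c31))))))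
theorem f29941 : Led Lsl_dt (LP (LK LD1_c4 LD2_c0 LD3_c4)) = (LP (LK LD1_c1 LD2_c56 LD3_c53)) :=
  Lre_d IH (LK LD1_c4 LD2_c0 LD3_c4) (LK LD1_c1 LD2_c56 LD3_c53) Lrfl Lrfl
theorem f29995 : Led Lsl_dt (LP (LK LD1_c1 LD2_c57 LD3_c14)) = (LP (LK LD1_c4 LD2_c0 LD3_c31)) :=
  Lre_d IH (LK LD1_c1 LD2_c57 LD3_c14) (LK LD1_c4 LD2_c0 LD3_c31) Lrfl Lrfl
theorem f29996 : Led Lsl_at (LP (LK LD1_c1 LD2_c56 LD3_c53)) = (LP (LK LD1_c1 LD2_c57 LD3_c14)) :=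
  Lgr Lrot51 (Lpe (f29941 IH) (Lpr_af (f29967 IH) (Lpe (f29995 IH) (Lpn (LP (LK LD1_c1 LD2_c57 LD3_c14))))))
theorem f30041 : Led Lsl_af (LP (LK LD1_c1 LD2_c56 LD3_c53)) = (LP (LK LD1_c1 LD2_c57 LD3_c14)) :=
  Lgr Lrot0 (Lpr_at (f29996 IH) (Lpn (LP (LK LD1_c1 LD2_c57 LD3_c14))))
theorem f36805 : Led Lsl_ct (LP (LK LD1_c3 LD2_c3 LD3_c38)) = (LP (LK LD1_c1 LD2_c56 LD3_c53)) :=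
  Lgr Lrot98 (Lpe (f36786 IH) (Lpe (f36795 IH) (Lpe (f36796 IH) (Lpr_cf (f36797 IH) (Lpe (f29976 IH) (Lpe (f29946 IH) (Lpe (f29985 IH) (Lpr_ft (f30101 IH) (Lpe (f30041 IH) (Lpn (LP (LK LD1_c1 LD2_c56 LD3_c53))))))))))))
theorem f36649 : Led Lsl_ft (LP (LK LD1_c6 LD2_c13 LD3_c37)) = (LP (LK LD1_c3 LD2_c3 LD3_c38)) :=
  Lre_f IH (LK LD1_c6 LD2_c13 LD3_c37) (LK LD1_c3 LD2_c3 LD3_c38) Lrfl Lrfl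
theorem f30100 : Led Lsl_ft (LP (LK LD1_c1 LD2_c56 LD3_c53)) = (LP (LK LD1_c4 LD2_c0 LD3_c13)) :=
  Lre_f IH (LK LD1_c1 LD2_c56 LD3_c53) (LK LD1_c4 LD2_c0 LD3_c13) Lrfl Lrfl
theorem f36817 : Led Lsl_cf (LP (LK LD1_c6 LD2_c13 LD3_c37)) = (LP (LK LD1_c4 LD2_c0 LD3_c13)) :=
  Lgr Lrot108 (Lpr_ft (f36649 IH) (Lpr_ct (f36805 IH) (Lpr_ft (f30100 IH) (Lpn (LP (LK LD1_c4 LD2_c0 LD3_c13))))))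
theorem f36689 : Led Lsl_dt (LP (LK LD1_c6 LD2_c13 LD3_c37)) = (LP (LK LD1_c12 LD2_c6 LD3_c1)) :=
  Lre_d IH (LK LD1_c6 LD2_c13 LD3_c37) (LK LD1_c12 LD2_c6 LD3_c1) Lrfl Lrfl
theorem f36844 : Led Lsl_ct (LP (LK LD1_c12 LD2_c6 LD3_c1)) = (LP (LK LD1_c21 LD2_c11 LD3_c59)) :=
  Lre_c IH (LK LD1_c12 LD2_c6 LD3_c1) (LK LD1_c21 LD2_c11 LD3_c59) Lrfl Lrfl
theorem f30069 : Led Lsl_dt (LP (LK LD1_c8 LD2_c1 LD3_c12)) = (LP (LK LD1_c4 LD2_c0 LD3_c13)) :=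
  Lre_d IH (LK LD1_c8 LD2_c1 LD3_c12) (LK LD1_c4 LD2_c0 LD3_c13) Lrfl Lrfl
theorem f30068 : Led Lsl_dt (LP (LK LD1_c24 LD2_c54 LD3_c4)) = (LP (LK LD1_c15 LD2_c5 LD3_c58)) :=
  Lre_d IH (LK LD1_c24 LD2_c54 LD3_c4) (LK LD1_c15 LD2_c5 LD3_c58) Lrfl Lrfl
theorem f29951 : Led Lsl_ct (LP (LK LD1_c8 LD2_c1 LD3_c12)) = (LP (LK LD1_c15 LD2_c5 LD3_c58)) :=
  Lre_c IH (LK LD1_c8 LD2_c1 LD3_c12) (LK LD1_c15 LD2_c5 LD3_c58) Lrfl Lrfl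
theorem f30056 : Led Lsl_ct (LP (LK LD1_c4 LD2_c0 LD3_c54)) = (LP (LK LD1_c1 LD2_c57 LD3_c14)) :=
  Lre_c IH (LK LD1_c4 LD2_c0 LD3_c54) (LK LD1_c1 LD2_c57 LD3_c14) Lrfl Lrfl
theorem f30057 : Led Lsl_dt (LP (LK LD1_c8 LD2_c2 LD3_c32)) = (LP (LK LD1_c4 LD2_c0 LD3_c54)) :=
  Lre_d IH (LK LD1_c8 LD2_c2 LD3_c32) (LK LD1_c4 LD2_c0 LD3_c54) Lrfl Lrfl
theorem f30058 : Led Lsl_ct (LP (LK LD1_c15 LD2_c8 LD3_c26)) = (LP (LK LD1_c8 LD2_c2 LD3_c32)) :=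
  Lre_c IH (LK LD1_c15 LD2_c8 LD3_c26) (LK LD1_c8 LD2_c2 LD3_c32) Lrfl Lrfl
theorem f30059 : Led Lsl_dt (LP (LK LD1_c24 LD2_c57 LD3_c19)) = (LP (LK LD1_c15 LD2_c8 LD3_c26)) :=
  Lre_d IH (LK LD1_c24 LD2_c57 LD3_c19) (LK LD1_c15 LD2_c8 LD3_c26) Lrfl Lrfl
theorem f30060 : Led Lsl_ct (LP (LK LD1_c24 LD2_c54 LD3_c4)) = (LP (LK LD1_c24 LD2_c57 LD3_c19)) :=
  Lgr Lrot41 (Lpe (f29937 IH) (Lpe (f29951 IH) (Lpe (f29952 IH) (Lpr_ft (f30051 IH) (Lpr_at (f29996 IH) (Lpe (f30056 IH) (Lpe (f30057 IH) (Lpe (f30058 IH) (Lpe (f30059 IH) (Lpn (LP (LK LD1_c24 LD2_c57 LD3_c19))))))))))))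
theorem f30062 : Led Lsl_cf (LP (LK LD1_c24 LD2_c54 LD3_c4)) = (LP (LK LD1_c24 LD2_c57 LD3_c19)) :=
  Lgr Lrot11 (Lpr_ct (f30060 IH) (Lpn (LP (LK LD1_c24 LD2_c57 LD3_c19))))
theorem f30065 : Led Lsl_dt (LP (LK LD1_c15 LD2_c8 LD3_c26)) = (LP (LK LD1_c24 LD2_c57 LD3_c19)) :=
  Lre_d IH (LK LD1_c15 LD2_c8 LD3_c26) (LK LD1_c24 LD2_c57 LD3_c19) Lrfl Lrfl
theorem f30075 : Led Lsl_ft (LP (LK LD1_c15 LD2_c8 LD3_c26)) = (LP (LK LD1_c24 LD2_c57 LD3_c20)) :=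
  Lre_f IH (LK LD1_c15 LD2_c8 LD3_c26) (LK LD1_c24 LD2_c57 LD3_c20) Lrfl Lrfl
theorem f36847 : Led Lsl_af (LP (LK LD1_c21 LD2_c11 LD3_c59)) = (LP (LK LD1_c24 LD2_c57 LD3_c20)) :=
  Lgr Lrot109 (Lpe (f36844 IH) (Lpe (f36689 IH) (Lpr_cf (f36817 IH) (Lpe (f30069 IH) (Lpe (f29945 IH) (Lpe (f30068 IH) (Lpr_cf (f30062 IH) (Lpe (f30065 IH) (Lpr_ft (f30075 IH) (Lpn (LP (LK LD1_c24 LD2_c57 LD3_c20))))))))))))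
theorem f36850 : Led Lsl_at (LP (LK LD1_c21 LD2_c11 LD3_c59)) = (LP (LK LD1_c24 LD2_c57 LD3_c20)) :=
  Lgr Lrot100 (Lpr_af (f36847 IH) (Lpn (LP (LK LD1_c24 LD2_c57 LD3_c20))))
theorem f36855 : Led Lsl_ft (LP (LK LD1_c12 LD2_c6 LD3_c0)) = (LP (LK LD1_c21 LD2_c11 LD3_c59)) :=
  Lre_f IH (LK LD1_c12 LD2_c6 LD3_c0) (LK LD1_c21 LD2_c11 LD3_c59) Lrfl Lrfl
theorem f30757 : Led Lsl_ft (LP (LK LD1_c24 LD2_c57 LD3_c20)) = (LP (LK LD1_c15 LD2_c8 LD3_c26)) :=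
  Lre_f IH (LK LD1_c24 LD2_c57 LD3_c20) (LK LD1_c15 LD2_c8 LD3_c26) Lrfl Lrfl
theorem f36856 : Led Lsl_af (LP (LK LD1_c12 LD2_c6 LD3_c0)) = (LP (LK LD1_c15 LD2_c8 LD3_c26)) :=
  Lgr Lrot45 (Lpr_ft (f36855 IH) (Lpr_at (f36850 IH) (Lpr_ft (f30757 IH) (Lpn (LP (LK LD1_c15 LD2_c8 LD3_c26))))))
theorem f36859 : Led Lsl_et (LP (LK LD1_c12 LD2_c6 LD3_c0)) = (LP (LK LD1_c6 LD2_c13 LD3_c40)) :=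
  Lre_e IH (LK LD1_c12 LD2_c6 LD3_c0) (LK LD1_c6 LD2_c13 LD3_c40) Lrfl Lrfl
theorem f29223 : Led Lsl_ct (LP (LK LD1_c8 LD2_c2 LD3_c42)) = (LP (LK LD1_c4 LD2_c0 LD3_c58)) :=
  Lre_c IH (LK LD1_c8 LD2_c2 LD3_c42) (LK LD1_c4 LD2_c0 LD3_c58) Lrfl Lrfl
theorem f30066 : Led Lsl_ct (LP (LK LD1_c8 LD2_c2 LD3_c32)) = (LP (LK LD1_c15 LD2_c8 LD3_c26)) :=
  Lre_c IH (LK LD1_c8 LD2_c2 LD3_c32) (LK LD1_c15 LD2_c8 LD3_c26) Lrfl Lrfl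
theorem f30747 : Led Lsl_ef (LP (LK LD1_c8 LD2_c2 LD3_c42)) = (LP (LK LD1_c15 LD2_c8 LD3_c26)) :=
  Lgr Lrot28 (Lpr_ct (f29223 IH) (Lpr_et (f30741 IH) (Lpr_ct (f30066 IH) (Lpn (LP (LK LD1_c15 LD2_c8 LD3_c26))))))
theorem f30755 : Led Lsl_et (LP (LK LD1_c8 LD2_c2 LD3_c42)) = (LP (LK LD1_c15 LD2_c8 LD3_c26)) :=
  Lgr Lrot87 (Lpr_ef (f30747 IH) (Lpn (LP (LK LD1_c15 LD2_c8 LD3_c26))))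
theorem f36860 : Led Lsl_at (LP (LK LD1_c6 LD2_c13 LD3_c40)) = (LP (LK LD1_c8 LD2_c2 LD3_c42)) :=
  Lgr Lrot80 (Lpe (f36859 IH) (Lpr_af (f36856 IH) (Lpe (f30755 IH) (Lpn (LP (LK LD1_c8 LD2_c2 LD3_c42))))))
theorem f36868 : Led Lsl_dt (LP (LK LD1_c12 LD2_c6 LD3_c6)) = (LP (LK LD1_c6 LD2_c13 LD3_c40)) :=
  Lre_d IH (LK LD1_c12 LD2_c6 LD3_c6) (LK LD1_c6 LD2_c13 LD3_c40) Lrfl Lrfl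
theorem f36869 : Led Lsl_af (LP (LK LD1_c12 LD2_c6 LD3_c6)) = (LP (LK LD1_c12 LD2_c6 LD3_c7)) :=
  Lgr Lrot117 (Lpr_dt (f36868 IH) (Lpr_at (f36860 IH) (Lpe (f36742 IH) (Lpn (LP (LK LD1_c12 LD2_c6 LD3_c7))))))
theorem f36885 : Led Lsl_ft (LP (LK LD1_c6 LD2_c13 LD3_c40)) = (LP (LK LD1_c12 LD2_c6 LD3_c7)) :=
  Lre_f IH (LK LD1_c6 LD2_c13 LD3_c40) (LK LD1_c12 LD2_c6 LD3_c7) Lrfl Lrfl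
theorem f36751 : Led Lsl_dt (LP (LK LD1_c6 LD2_c13 LD3_c40)) = (LP (LK LD1_c12 LD2_c6 LD3_c6)) :=
  Lre_d IH (LK LD1_c6 LD2_c13 LD3_c40) (LK LD1_c12 LD2_c6 LD3_c6) Lrfl Lrfl
theorem f36736 : Led Lsl_ct (LP (LK LD1_c6 LD2_c13 LD3_c41)) = (LP (LK LD1_c12 LD2_c6 LD3_c7)) :=
  Lre_c IH (LK LD1_c6 LD2_c13 LD3_c41) (LK LD1_c12 LD2_c6 LD3_c7) Lrfl Lrfl
theorem f36879 : Led Lsl_ct (LP (LK LD1_c12 LD2_c6 LD3_c6)) = (LP (LK LD1_c8 LD2_c2 LD3_c3)) :=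
  Lgr Lrot111 (Lpr_af (f36869 IH) (Lpe (f36736 IH) (Lpr_af (f36754 IH) (Lpn (LP (LK LD1_c8 LD2_c2 LD3_c3))))))
theorem f29214 : Led Lsl_dt (LP (LK LD1_c8 LD2_c2 LD3_c3)) = (LP (LK LD1_c4 LD2_c0 LD3_c33)) :=
  Lre_d IH (LK LD1_c8 LD2_c2 LD3_c3) (LK LD1_c4 LD2_c0 LD3_c33) Lrfl Lrfl
theorem f29213 : Led Lsl_ct (LP (LK LD1_c4 LD2_c0 LD3_c33)) = (LP (LK LD1_c1 LD2_c57 LD3_c1)) :=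
  Lre_c IH (LK LD1_c4 LD2_c0 LD3_c33) (LK LD1_c1 LD2_c57 LD3_c1) Lrfl Lrfl
theorem f29211 : Led Lsl_ct (LP (LK LD1_c1 LD2_c57 LD3_c1)) = (LP (LK LD1_c4 LD2_c0 LD3_c33)) :=
  Lre_c IH (LK LD1_c1 LD2_c57 LD3_c1) (LK LD1_c4 LD2_c0 LD3_c33) Lrfl Lrfl
theorem f29212 : Led Lsl_dt (LP (LK LD1_c4 LD2_c0 LD3_c33)) = (LP (LK LD1_c8 LD2_c2 LD3_c3)) :=
  Lre_d IH (LK LD1_c4 LD2_c0 LD3_c33) (LK LD1_c8 LD2_c2 LD3_c3) Lrfl Lrfl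
theorem f36886 : Led Lsl_cf (LP (LK LD1_c12 LD2_c6 LD3_c6)) = (LP (LK LD1_c8 LD2_c2 LD3_c3)) :=
  Lgr Lrot102 (Lpr_af (f36869 IH) (Lpe (f36885 IH) (Lpr_dt (f36751 IH) (Lpr_ct (f36879 IH) (Lpr_dt (f29214 IH) (Lpr_ct (f29213 IH) (Lpe (f29207 IH) (Lpr_ct (f29211 IH) (Lpr_dt (f29212 IH) (Lpn (LP (LK LD1_c8 LD2_c2 LD3_c3))))))))))))
theorem f36770 : Led Lsl_ct (LP (LK LD1_c6 LD2_c13 LD3_c40)) = (LP (LK LD1_c3 LD2_c3 LD3_c39)) :=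
  Lre_c IH (LK LD1_c6 LD2_c13 LD3_c40) (LK LD1_c3 LD2_c3 LD3_c39) Lrfl Lrfl
theorem f36888 : Led Lsl_dt (LP (LK LD1_c3 LD2_c3 LD3_c39)) = (LP (LK LD1_c1 LD2_c27 LD3_c48)) :=
  Lre_d IH (LK LD1_c3 LD2_c3 LD3_c39) (LK LD1_c1 LD2_c27 LD3_c48) Lrfl Lrfl
theorem f36889 : Led Lsl_ct (LP (LK LD1_c1 LD2_c27 LD3_c48)) = (LP (LK LD1_c0 LD2_c40 LD3_c38)) :=
  Lre_c IH (LK LD1_c1 LD2_c27 LD3_c48) (LK LD1_c0 LD2_c40 LD3_c38) Lrfl Lrfl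
theorem f36893 : Led Lsl_af (LP (LK LD1_c0 LD2_c40 LD3_c38)) = (LP (LK LD1_c0 LD2_c55 LD3_c27)) :=
  Lgr Lrot109 (Lpe (f36889 IH) (Lpe (f36888 IH) (Lpe (f36770 IH) (Lpe (f36868 IH) (Lpr_cf (f36886 IH) (Lpe (f29212 IH) (Lpe (f29211 IH) (Lpr_df (f29207 IH) (Lpr_ft (f29215 IH) (Lpn (LP (LK LD1_c0 LD2_c55 LD3_c27))))))))))))
theorem f36732 : Led Lsl_et (LP (LK LD1_c0 LD2_c40 LD3_c38)) = (LP (LK LD1_c0 LD2_c18 LD3_c11)) :=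
  Lre_e IH (LK LD1_c0 LD2_c40 LD3_c38) (LK LD1_c0 LD2_c18 LD3_c11) Lrfl Lrfl
theorem f29227 : Led Lsl_et (LP (LK LD1_c0 LD2_c25 LD3_c8)) = (LP (LK LD1_c0 LD2_c55 LD3_c27)) :=
  Lre_e IH (LK LD1_c0 LD2_c25 LD3_c8) (LK LD1_c0 LD2_c55 LD3_c27) Lrfl Lrfl
theorem f36903 : Led Lsl_at (LP (LK LD1_c0 LD2_c18 LD3_c11)) = (LP (LK LD1_c0 LD2_c25 LD3_c8)) :=
  Lgr Lrot80 (Lpe (f36732 IH) (Lpr_af (f36893 IH) (Lpe (f29227 IH) (Lpn (LP (LK LD1_c0 LD2_c25 LD3_c8))))))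
theorem f36911 : Led Lsl_ff (LP (LK LD1_c0 LD2_c18 LD3_c11)) = (LP (LK LD1_c0 LD2_c11 LD3_c7)) :=
  Lgr Lrot30 (Lpr_at (f36903 IH) (Lpr_ft (f29316 IH) (Lpr_at (f29300 IH) (Lpn (LP (LK LD1_c0 LD2_c11 LD3_c7))))))
theorem f2962 : Led Lsl_gt (LP (LK LD1_c0 LD2_c11 LD3_c7)) = (LP (LK LD1_c0 LD2_c24 LD3_c61)) :=
  Lre_g IH (LK LD1_c0 LD2_c11 LD3_c7) (LK LD1_c0 LD2_c24 LD3_c61) Lrfl Lrfl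
theorem f36913 : Led Lsl_gt (LP (LK LD1_c0 LD2_c24 LD3_c61)) = (LP (LK LD1_c0 LD2_c25 LD3_c8)) :=
  Lgr Lrot46 (Lpe (f2962 IH) (Lpe (f36911 IH) (Lpr_at (f36903 IH) (Lpn (LP (LK LD1_c0 LD2_c25 LD3_c8))))))
theorem f35574 : Led Lsl_df (LP (LK LD1_c0 LD2_c13 LD3_c6)) = (LP (LK LD1_c0 LD2_c24 LD3_c38)) :=
  Lgr Lrot155 (Lpr_gt (K0.f35424 IH) (Lpr_ct (K0.f13635 IH) (Lpr_gt (K0.f13647 IH) (Lpr_ct (K0.f35392 IH) (Lpr_dt (K0.f27219 IH) (Lpe (f34709 IH) (Lpe (f35533 IH) (Lpe (f8345 IH) (Lpr_gf (f35541 IH) (Lpn (LP (LK LD1_c0 LD2_c24 LD3_c38))))))))))))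
theorem f35499 : Led Lsl_bf (LP (LK LD1_c0 LD2_c17 LD3_c54)) = (LP (LK LD1_c0 LD2_c28 LD3_c19)) :=
  Lgr Lrot24 (Lpr_bt (K0.f35497 IH) (Lpn (LP (LK LD1_c0 LD2_c28 LD3_c19))))
theorem f35507 : Led Lsl_ff (LP (LK LD1_c0 LD2_c28 LD3_c19)) = (LP (LK LD1_c0 LD2_c13 LD3_c6)) :=
  Lgr Lrot25 (Lpe (f35499 IH) (Lpr_ft (K0.f27222 IH) (Lpr_bt (K0.f35505 IH) (Lpn (LP (LK LD1_c0 LD2_c13 LD3_c6))))))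
theorem f35586 : Led Lsl_ft (LP (LK LD1_c0 LD2_c12 LD3_c31)) = (LP (LK LD1_c0 LD2_c24 LD3_c38)) :=
  Lgr Lrot54 (Lpe (K0.f16638 IH) (Lpr_ff (f35507 IH) (Lpr_df (f35574 IH) (Lpn (LP (LK LD1_c0 LD2_c24 LD3_c38))))))
theorem f35761 : Led Lsl_af (LP (LK LD1_c0 LD2_c12 LD3_c30)) = (LP (LK LD1_c0 LD2_c24 LD3_c38)) :=
  Lgr Lrot31 (Lpe (K0.f27912 IH) (Lpe (K0.f16637 IH) (Lpr_ft (f35586 IH) (Lpn (LP (LK LD1_c0 LD2_c24 LD3_c38))))))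
theorem f35572 : Led Lsl_ct (LP (LK LD1_c0 LD2_c54 LD3_c33)) = (LP (LK LD1_c0 LD2_c24 LD3_c38)) :=
  Lre_c IH (LK LD1_c0 LD2_c54 LD3_c33) (LK LD1_c0 LD2_c24 LD3_c38) Lrfl Lrfl
theorem f35763 : Led Lsl_at (LP (LK LD1_c0 LD2_c28 LD3_c17)) = (LP (LK LD1_c0 LD2_c54 LD3_c33)) :=
  Lgr Lrot107 (Lpe (K0.f34740 IH) (Lpr_af (f35761 IH) (Lpe (f35572 IH) (Lpn (LP (LK LD1_c0 LD2_c54 LD3_c33))))))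
theorem f8165 : Led Lsl_et (LP (LK LD1_c0 LD2_c7 LD3_c49)) = (LP (LK LD1_c0 LD2_c3 LD3_c31)) :=
  Lre_e IH (LK LD1_c0 LD2_c7 LD3_c49) (LK LD1_c0 LD2_c3 LD3_c31) Lrfl Lrfl
theorem f34761 : Led Lsl_ef (LP (LK LD1_c0 LD2_c12 LD3_c30)) = (LP (LK LD1_c0 LD2_c27 LD3_c44)) :=
  Lgr Lrot73 (Lpr_dt (K0.f34757 IH) (Lpr_et (f8165 IH) (Lpe (K0.f28474 IH) (Lpr_et (K0.f28451 IH) (Lpr_dt (K0.f28464 IH) (Lpn (LP (LK LD1_c0 LD2_c27 LD3_c44))))))))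
theorem f34773 : Led Lsl_et (LP (LK LD1_c0 LD2_c12 LD3_c30)) = (LP (LK LD1_c0 LD2_c27 LD3_c44)) :=
  Lgr Lrot87 (Lpr_ef (f34761 IH) (Lpn (LP (LK LD1_c0 LD2_c27 LD3_c44))))
theorem f34779 : Led Lsl_ef (LP (LK LD1_c0 LD2_c28 LD3_c17)) = (LP (LK LD1_c1 LD2_c0 LD3_c52)) :=
  Lgr Lrot28 (Lpr_ct (K0.f34743 IH) (Lpr_et (f34773 IH) (Lpr_ct (K0.f31721 IH) (Lpn (LP (LK LD1_c1 LD2_c0 LD3_c52))))))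
theorem f35772 : Led Lsl_ef (LP (LK LD1_c1 LD2_c0 LD3_c61)) = (LP (LK LD1_c0 LD2_c54 LD3_c33)) :=
  Lgr Lrot20 (Lpe (K0.f31739 IH) (Lpe (f34779 IH) (Lpr_at (f35763 IH) (Lpn (LP (LK LD1_c0 LD2_c54 LD3_c33))))))
theorem f35779 : Led Lsl_et (LP (LK LD1_c1 LD2_c0 LD3_c61)) = (LP (LK LD1_c0 LD2_c54 LD3_c33)) :=
  Lgr Lrot87 (Lpr_ef (f35772 IH) (Lpn (LP (LK LD1_c0 LD2_c54 LD3_c33))))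
theorem f35439 : Led Lsl_ct (LP (LK LD1_c0 LD2_c28 LD3_c18)) = (LP (LK LD1_c0 LD2_c12 LD3_c31)) :=
  Lre_c IH (LK LD1_c0 LD2_c28 LD3_c18) (LK LD1_c0 LD2_c12 LD3_c31) Lrfl Lrfl
theorem f35573 : Led Lsl_ct (LP (LK LD1_c0 LD2_c24 LD3_c38)) = (LP (LK LD1_c0 LD2_c54 LD3_c33)) :=
  Lre_c IH (LK LD1_c0 LD2_c24 LD3_c38) (LK LD1_c0 LD2_c54 LD3_c33) Lrfl Lrfl
theorem f35757 : Led Lsl_ff (LP (LK LD1_c0 LD2_c28 LD3_c18)) = (LP (LK LD1_c0 LD2_c54 LD3_c33)) :=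
  Lgr Lrot23 (Lpr_ct (f35439 IH) (Lpr_ft (f35586 IH) (Lpr_ct (f35573 IH) (Lpn (LP (LK LD1_c0 LD2_c54 LD3_c33))))))
theorem f35790 : Led Lsl_et (LP (LK LD1_c0 LD2_c28 LD3_c18)) = (LP (LK LD1_c1 LD2_c2 LD3_c2)) :=
  Lre_e IH (LK LD1_c0 LD2_c28 LD3_c18) (LK LD1_c1 LD2_c2 LD3_c2) Lrfl Lrfl
theorem f35791 : Led Lsl_ft (LP (LK LD1_c1 LD2_c2 LD3_c2)) = (LP (LK LD1_c2 LD2_c9 LD3_c58)) :=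
  Lre_f IH (LK LD1_c1 LD2_c2 LD3_c2) (LK LD1_c2 LD2_c9 LD3_c58) Lrfl Lrfl
theorem f35792 : Led Lsl_ef (LP (LK LD1_c2 LD2_c7 LD3_c50)) = (LP (LK LD1_c2 LD2_c9 LD3_c58)) :=
  Lgr Lrot21 (Lpr_ft (K0.f31738 IH) (Lpr_et (f35779 IH) (Lpe (f35757 IH) (Lpr_et (f35790 IH) (Lpr_ft (f35791 IH) (Lpn (LP (LK LD1_c2 LD2_c9 LD3_c58))))))))
theorem f35801 : Led Lsl_et (LP (LK LD1_c2 LD2_c7 LD3_c50)) = (LP (LK LD1_c2 LD2_c9 LD3_c58)) :=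
  Lgr Lrot87 (Lpr_ef (f35792 IH) (Lpn (LP (LK LD1_c2 LD2_c9 LD3_c58))))
theorem f35781 : Led Lsl_ft (LP (LK LD1_c1 LD2_c0 LD3_c61)) = (LP (LK LD1_c2 LD2_c7 LD3_c50)) :=
  Lre_f IH (LK LD1_c1 LD2_c0 LD3_c61) (LK LD1_c2 LD2_c7 LD3_c50) Lrfl Lrfl
theorem f35810 : Led Lsl_ft (LP (LK LD1_c2 LD2_c9 LD3_c58)) = (LP (LK LD1_c1 LD2_c2 LD3_c2)) :=
  Lre_f IH (LK LD1_c2 LD2_c9 LD3_c58) (LK LD1_c1 LD2_c2 LD3_c2) Lrfl Lrfl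
theorem f35811 : Led Lsl_et (LP (LK LD1_c1 LD2_c2 LD3_c2)) = (LP (LK LD1_c0 LD2_c28 LD3_c18)) :=
  Lre_e IH (LK LD1_c1 LD2_c2 LD3_c2) (LK LD1_c0 LD2_c28 LD3_c18) Lrfl Lrfl
theorem f35812 : Led Lsl_ff (LP (LK LD1_c0 LD2_c54 LD3_c33)) = (LP (LK LD1_c0 LD2_c28 LD3_c18)) :=
  Lgr Lrot72 (Lpe (f35772 IH) (Lpr_ft (f35781 IH) (Lpr_et (f35801 IH) (Lpr_ft (f35810 IH) (Lpr_et (f35811 IH) (Lpn (LP (LK LD1_c0 LD2_c28 LD3_c18))))))))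
theorem f35765 : Led Lsl_af (LP (LK LD1_c0 LD2_c28 LD3_c17)) = (LP (LK LD1_c0 LD2_c54 LD3_c33)) :=
  Lgr Lrot0 (Lpr_at (f35763 IH) (Lpn (LP (LK LD1_c0 LD2_c54 LD3_c33))))
theorem f35818 : Led Lsl_gf (LP (LK LD1_c0 LD2_c25 LD3_c0)) = (LP (LK LD1_c0 LD2_c28 LD3_c18)) :=
  Lgr Lrot47 (Lpe (K0.f35345 IH) (Lpr_af (f35765 IH) (Lpr_ff (f35812 IH) (Lpn (LP (LK LD1_c0 LD2_c28 LD3_c18))))))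
theorem f35820 : Led Lsl_gt (LP (LK LD1_c0 LD2_c55 LD3_c26)) = (LP (LK LD1_c0 LD2_c28 LD3_c18)) :=
  Lgr Lrot5 (Lpr_ft (f29556 IH) (Lpe (f29557 IH) (Lpr_gf (f35818 IH) (Lpn (LP (LK LD1_c0 LD2_c28 LD3_c18))))))
theorem f35444 : Led Lsl_dt (LP (LK LD1_c0 LD2_c12 LD3_c31)) = (LP (LK LD1_c0 LD2_c28 LD3_c19)) :=
  Lre_d IH (LK LD1_c0 LD2_c12 LD3_c31) (LK LD1_c0 LD2_c28 LD3_c19) Lrfl Lrfl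
theorem f34692 : Led Lsl_gf (LP (LK LD1_c0 LD2_c17 LD3_c54)) = (LP (LK LD1_c0 LD2_c17 LD3_c22)) :=
  Lgr Lrot76 (Lpe (K0.f27181 IH) (Lpr_ff (K0.f27215 IH) (Lpr_gt (K0.f34683 IH) (Lpn (LP (LK LD1_c0 LD2_c17 LD3_c22))))))
theorem f36919 : Led Lsl_df (LP (LK LD1_c0 LD2_c24 LD3_c61)) = (LP (LK LD1_c0 LD2_c17 LD3_c24)) :=
  Lgr Lrot155 (Lpr_gt (f36913 IH) (Lpr_ct (f29331 IH) (Lpr_gt (f35820 IH) (Lpr_ct (f35439 IH) (Lpr_dt (f35444 IH) (Lpe (K0.f35451 IH) (Lpr_gf (f34692 IH) (Lpr_cf (K0.f8219 IH) (Lpr_gf (K0.f35382 IH) (Lpn (LP (LK LD1_c0 LD2_c17 LD3_c24))))))))))))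
theorem f36611 : Led Lsl_dt (LP (LK LD1_c0 LD2_c8 LD3_c13)) = (LP (LK LD1_c0 LD2_c3 LD3_c46)) :=
  Lre_d IH (LK LD1_c0 LD2_c8 LD3_c13) (LK LD1_c0 LD2_c3 LD3_c46) Lrfl Lrfl
theorem f36612 : Led Lsl_gt (LP (LK LD1_c0 LD2_c18 LD3_c14)) = (LP (LK LD1_c0 LD2_c8 LD3_c13)) :=
  Lre_g IH (LK LD1_c0 LD2_c18 LD3_c14) (LK LD1_c0 LD2_c8 LD3_c13) Lrfl Lrfl
theorem f35479 : Led Lsl_dt (LP (LK LD1_c0 LD2_c12 LD3_c28)) = (LP (LK LD1_c0 LD2_c5 LD3_c42)) :=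
  Lre_d IH (LK LD1_c0 LD2_c12 LD3_c28) (LK LD1_c0 LD2_c5 LD3_c42) Lrfl Lrfl
theorem f8263 : Led Lsl_dt (LP (LK LD1_c0 LD2_c5 LD3_c61)) = (LP (LK LD1_c0 LD2_c13 LD3_c9)) :=
  Lre_d IH (LK LD1_c0 LD2_c5 LD3_c61) (LK LD1_c0 LD2_c13 LD3_c9) Lrfl Lrfl
theorem f16636 : Led Lsl_dt (LP (LK LD1_c0 LD2_c5 LD3_c42)) = (LP (LK LD1_c0 LD2_c12 LD3_c28)) :=
  Lre_d IH (LK LD1_c0 LD2_c5 LD3_c42) (LK LD1_c0 LD2_c12 LD3_c28) Lrfl Lrfl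
theorem f36421 : Led Lsl_gt (LP (LK LD1_c0 LD2_c13 LD3_c9)) = (LP (LK LD1_c0 LD2_c12 LD3_c28)) :=
  Lgr Lrot112 (Lpe (f8263 IH) (Lpr_et (K0.f8262 IH) (Lpe (K0.f6972 IH) (Lpe (f9572 IH) (Lpe (f35429 IH) (Lpe (f28523 IH) (Lpe (f28522 IH) (Lpe (f36289 IH) (Lpr_ef (f36414 IH) (Lpr_dt (f16636 IH) (Lpn (LP (LK LD1_c0 LD2_c12 LD3_c28)))))))))))))
theorem f36613 : Led Lsl_df (LP (LK LD1_c0 LD2_c18 LD3_c14)) = (LP (LK LD1_c0 LD2_c17 LD3_c23)) :=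
  Lgr Lrot153 (Lpr_gt (f36612 IH) (Lpr_dt (f36611 IH) (Lpr_cf (f36599 IH) (Lpe (f35479 IH) (Lpe (f36421 IH) (Lpe (f8263 IH) (Lpe (K0.f35424 IH) (Lpe (K0.f35509 IH) (Lpe (K0.f35382 IH) (Lpn (LP (LK LD1_c0 LD2_c17 LD3_c23))))))))))))
theorem f36604 : Led Lsl_dt (LP (LK LD1_c0 LD2_c3 LD3_c46)) = (LP (LK LD1_c0 LD2_c8 LD3_c13)) :=
  Lre_d IH (LK LD1_c0 LD2_c3 LD3_c46) (LK LD1_c0 LD2_c8 LD3_c13) Lrfl Lrfl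
theorem f36607 : Led Lsl_et (LP (LK LD1_c0 LD2_c3 LD3_c46)) = (LP (LK LD1_c0 LD2_c6 LD3_c9)) :=
  Lgr Lrot158 (Lpr_cf (f36599 IH) (Lpe (f36407 IH) (Lpr_cf (f36301 IH) (Lpn (LP (LK LD1_c0 LD2_c6 LD3_c9))))))
theorem f37081 : Led Lsl_gf (LP (LK LD1_c0 LD2_c5 LD3_c11)) = (LP (LK LD1_c0 LD2_c6 LD3_c9)) :=
  Lgr Lrot138 (Lpr_dt (K0.f3052 IH) (Lpr_gt (f2962 IH) (Lpr_df (f36919 IH) (Lpr_et (K0.f8207 IH) (Lpe (K0.f8211 IH) (Lpe (K0.f8213 IH) (Lpe (f36613 IH) (Lpr_gt (f36612 IH) (Lpe (f36604 IH) (Lpr_et (f36607 IH) (Lpn (LP (LK LD1_c0 LD2_c6 LD3_c9)))))))))))))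
theorem f26027 : Led Lsl_bt (LP (LK LD1_c0 LD2_c2 LD3_c50)) = (LP (LK LD1_c0 LD2_c6 LD3_c9)) :=
  Lre_b IH (LK LD1_c0 LD2_c2 LD3_c50) (LK LD1_c0 LD2_c6 LD3_c9) Lrfl Lrfl
theorem f16646 : Led Lsl_bt (LP (LK LD1_c0 LD2_c5 LD3_c52)) = (LP (LK LD1_c0 LD2_c2 LD3_c38)) :=
  Lre_b IH (LK LD1_c0 LD2_c5 LD3_c52) (LK LD1_c0 LD2_c2 LD3_c38) Lrfl Lrfl
theorem f20042 : Led Lsl_bt (LP (LK LD1_c0 LD2_c2 LD3_c38)) = (LP (LK LD1_c0 LD2_c5 LD3_c52)) :=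
  Lre_b IH (LK LD1_c0 LD2_c2 LD3_c38) (LK LD1_c0 LD2_c5 LD3_c52) Lrfl Lrfl
theorem f20053 : Led Lsl_ct (LP (LK LD1_c0 LD2_c5 LD3_c52)) = (LP (LK LD1_c0 LD2_c5 LD3_c52)) :=
  Lgr Lrot83 (Lpe (f20042 IH) (Lpr_cf (K0.f20040 IH) (Lpr_bf (K0.f20051 IH) (Lpe (K0.f20043 IH) (Lpe (f16646 IH) (Lpn (LP (LK LD1_c0 LD2_c5 LD3_c52))))))))
theorem f37089 : Led Lsl_gt (LP (LK LD1_c0 LD2_c6 LD3_c28)) = (LP (LK LD1_c0 LD2_c5 LD3_c52)) :=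
  Lgr Lrot65 (Lpr_cf (f2934 IH) (Lpr_bt (f2945 IH) (Lpr_gf (f37081 IH) (Lpe (f26027 IH) (Lpr_ct (K0.f26026 IH) (Lpe (K0.f7168 IH) (Lpe (K0.f6720 IH) (Lpe (K0.f6726 IH) (Lpe (f16646 IH) (Lpr_ct (f20053 IH) (Lpn (LP (LK LD1_c0 LD2_c5 LD3_c52)))))))))))))
theorem f28590 : Led Lsl_gt (LP (LK LD1_c0 LD2_c3 LD3_c8)) = (LP (LK LD1_c0 LD2_c6 LD3_c27)) :=
  Lgr Lrot180 (Lpr_ct (K0.f28582 IH) (Lpe (K0.f2896 IH) (Lpr_dt (K0.f2893 IH) (Lpr_gt (K0.f2899 IH) (Lpr_dt (K0.f2900 IH) (Lpe (K0.f6880 IH) (Lpe (K0.f2894 IH) (Lpr_gf (K0.f2928 IH) (Lpe (K0.f2903 IH) (Lpn (LP (LK LD1_c0 LD2_c6 LD3_c27))))))))))))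
theorem f20892 : Led Lsl_bt (LP (LK LD1_c0 LD2_c1 LD3_c23)) = (LP (LK LD1_c0 LD2_c3 LD3_c21)) :=
  Lre_b IH (LK LD1_c0 LD2_c1 LD3_c23) (LK LD1_c0 LD2_c3 LD3_c21) Lrfl Lrfl
theorem f21198 : Led Lsl_et (LP (LK LD1_c0 LD2_c3 LD3_c21)) = (LP (LK LD1_c0 LD2_c5 LD3_c52)) :=
  Lgr Lrot74 (Lpe (f20892 IH) (Lpr_ef (K0.f21196 IH) (Lpe (f16646 IH) (Lpn (LP (LK LD1_c0 LD2_c5 LD3_c52))))))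
theorem f37104 : Led Lsl_dt (LP (LK LD1_c0 LD2_c3 LD3_c21)) = (LP (LK LD1_c0 LD2_c7 LD3_c29)) :=
  Lre_d IH (LK LD1_c0 LD2_c3 LD3_c21) (LK LD1_c0 LD2_c7 LD3_c29) Lrfl Lrfl
theorem f20424 : Led Lsl_gt (LP (LK LD1_c0 LD2_c7 LD3_c29)) = (LP (LK LD1_c0 LD2_c16 LD3_c48)) :=
  Lre_g IH (LK LD1_c0 LD2_c7 LD3_c29) (LK LD1_c0 LD2_c16 LD3_c48) Lrfl Lrfl
theorem f37105 : Led Lsl_dt (LP (LK LD1_c0 LD2_c17 LD3_c27)) = (LP (LK LD1_c0 LD2_c16 LD3_c48)) :=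
  Lgr Lrot37 (Lpr_et (K0.f8231 IH) (Lpr_gt (K0.f8270 IH) (Lpr_dt (K0.f34662 IH) (Lpr_gt (f28590 IH) (Lpe (K0.f2900 IH) (Lpr_et (f2933 IH) (Lpr_gt (f37089 IH) (Lpe (f21198 IH) (Lpr_dt (f37104 IH) (Lpr_gt (f20424 IH) (Lpn (LP (LK LD1_c0 LD2_c16 LD3_c48)))))))))))))
theorem f37108 : Led Lsl_df (LP (LK LD1_c0 LD2_c17 LD3_c27)) = (LP (LK LD1_c0 LD2_c16 LD3_c48)) :=
  Lgr Lrot38 (Lpr_dt (f37105 IH) (Lpn (LP (LK LD1_c0 LD2_c16 LD3_c48))))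
theorem f37118 : Led Lsl_at (LP (LK LD1_c0 LD2_c16 LD3_c48)) = (LP (LK LD1_c0 LD2_c16 LD3_c48)) :=
  Lgr Lrot51 (Lpe (f37105 IH) (Lpr_af (K0.f33658 IH) (Lpr_df (f37108 IH) (Lpn (LP (LK LD1_c0 LD2_c16 LD3_c48))))))
theorem f37130 : Led Lsl_gt (LP (LK LD1_c0 LD2_c16 LD3_c49)) = (LP (LK LD1_c0 LD2_c7 LD3_c29)) :=
  Lre_g IH (LK LD1_c0 LD2_c16 LD3_c49) (LK LD1_c0 LD2_c7 LD3_c29) Lrfl Lrfl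
theorem f37131 : Led Lsl_ff (LP (LK LD1_c0 LD2_c16 LD3_c48)) = (LP (LK LD1_c0 LD2_c16 LD3_c49)) :=
  Lgr Lrot52 (Lpr_at (f37118 IH) (Lpe (f20424 IH) (Lpe (f37130 IH) (Lpn (LP (LK LD1_c0 LD2_c16 LD3_c49))))))
theorem f37137 : Led Lsl_ft (LP (LK LD1_c0 LD2_c16 LD3_c48)) = (LP (LK LD1_c0 LD2_c16 LD3_c49)) :=
  Lgr Lrot48 (Lpr_ff (f37131 IH) (Lpn (LP (LK LD1_c0 LD2_c16 LD3_c49))))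
theorem f37144 : Led Lsl_df (LP (LK LD1_c0 LD2_c17 LD3_c28)) = (LP (LK LD1_c0 LD2_c16 LD3_c49)) :=
  Lgr Lrot78 (Lpr_ft (K0.f34674 IH) (Lpr_dt (f37105 IH) (Lpr_ft (f37137 IH) (Lpn (LP (LK LD1_c0 LD2_c16 LD3_c49))))))
theorem f411 : Led Lsl_bt (LP (LK LD1_c0 LD2_c7 LD3_c53)) = (LP (LK LD1_c0 LD2_c3 LD3_c35)) :=
  Lre_b IH (LK LD1_c0 LD2_c7 LD3_c53) (LK LD1_c0 LD2_c3 LD3_c35) Lrfl Lrfl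
theorem f412 : Led Lsl_ct (LP (LK LD1_c0 LD2_c7 LD3_c53)) = (LP (LK LD1_c0 LD2_c7 LD3_c53)) :=
  Lgr Lrot83 (Lpe (K0.f409 IH) (Lpe (K0.f408 IH) (Lpr_bf (K0.f406 IH) (Lpe (K0.f410 IH) (Lpe (f411 IH) (Lpn (LP (LK LD1_c0 LD2_c7 LD3_c53))))))))
theorem f37113 : Led Lsl_ct (LP (LK LD1_c0 LD2_c37 LD3_c43)) = (LP (LK LD1_c0 LD2_c16 LD3_c48)) :=
  Lre_c IH (LK LD1_c0 LD2_c37 LD3_c43) (LK LD1_c0 LD2_c16 LD3_c48) Lrfl Lrfl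
theorem f21180 : Led Lsl_ct (LP (LK LD1_c0 LD2_c7 LD3_c29)) = (LP (LK LD1_c0 LD2_c16 LD3_c50)) :=
  Lre_c IH (LK LD1_c0 LD2_c7 LD3_c29) (LK LD1_c0 LD2_c16 LD3_c50) Lrfl Lrfl
theorem f37149 : Led Lsl_gf (LP (LK LD1_c0 LD2_c37 LD3_c43)) = (LP (LK LD1_c0 LD2_c16 LD3_c50)) :=
  Lgr Lrot104 (Lpr_ct (f37113 IH) (Lpe (f37105 IH) (Lpe (K0.f8268 IH) (Lpe (K0.f34672 IH) (Lpe (f412 IH) (Lpe (K0.f416 IH) (Lpr_df (f37144 IH) (Lpr_gt (f37130 IH) (Lpr_ct (f21180 IH) (Lpn (LP (LK LD1_c0 LD2_c16 LD3_c50))))))))))))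
theorem f37107 : Led Lsl_ct (LP (LK LD1_c0 LD2_c16 LD3_c48)) = (LP (LK LD1_c0 LD2_c37 LD3_c43)) :=
  Lre_c IH (LK LD1_c0 LD2_c16 LD3_c48) (LK LD1_c0 LD2_c37 LD3_c43) Lrfl Lrfl
theorem f37126 : Led Lsl_af (LP (LK LD1_c0 LD2_c37 LD3_c43)) = (LP (LK LD1_c0 LD2_c37 LD3_c43)) :=
  Lgr Lrot68 (Lpr_ct (f37113 IH) (Lpr_at (f37118 IH) (Lpr_ct (f37107 IH) (Lpn (LP (LK LD1_c0 LD2_c37 LD3_c43))))))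
theorem f37141 : Led Lsl_ct (LP (LK LD1_c0 LD2_c16 LD3_c49)) = (LP (LK LD1_c0 LD2_c37 LD3_c44)) :=
  Lre_c IH (LK LD1_c0 LD2_c16 LD3_c49) (LK LD1_c0 LD2_c37 LD3_c44) Lrfl Lrfl
theorem f37142 : Led Lsl_ff (LP (LK LD1_c0 LD2_c37 LD3_c43)) = (LP (LK LD1_c0 LD2_c37 LD3_c44)) :=
  Lgr Lrot23 (Lpr_ct (f37113 IH) (Lpr_ft (f37137 IH) (Lpr_ct (f37141 IH) (Lpn (LP (LK LD1_c0 LD2_c37 LD3_c44))))))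
theorem f37153 : Led Lsl_gt (LP (LK LD1_c0 LD2_c37 LD3_c44)) = (LP (LK LD1_c0 LD2_c16 LD3_c50)) :=
  Lgr Lrot5 (Lpe (f37142 IH) (Lpe (f37126 IH) (Lpr_gf (f37149 IH) (Lpn (LP (LK LD1_c0 LD2_c16 LD3_c50))))))
theorem f21178 : Led Lsl_bt (LP (LK LD1_c0 LD2_c7 LD3_c29)) = (LP (LK LD1_c0 LD2_c3 LD3_c23)) :=
  Lre_b IH (LK LD1_c0 LD2_c7 LD3_c29) (LK LD1_c0 LD2_c3 LD3_c23) Lrfl Lrfl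
theorem f20891 : Led Lsl_dt (LP (LK LD1_c0 LD2_c3 LD3_c23)) = (LP (LK LD1_c0 LD2_c1 LD3_c23)) :=
  Lre_d IH (LK LD1_c0 LD2_c3 LD3_c23) (LK LD1_c0 LD2_c1 LD3_c23) Lrfl Lrfl
theorem f7065 : Led Lsl_ct (LP (LK LD1_c0 LD2_c0 LD3_c31)) = (LP (LK LD1_c0 LD2_c0 LD3_c11)) :=
  Lre_c IH (LK LD1_c0 LD2_c0 LD3_c31) (LK LD1_c0 LD2_c0 LD3_c11) Lrfl Lrfl
theorem f1495 : Led Lsl_gt (LP (LK LD1_c0 LD2_c0 LD3_c11)) = (LP (LK LD1_c0 LD2_c0 LD3_c36)) :=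
  Lre_g IH (LK LD1_c0 LD2_c0 LD3_c11) (LK LD1_c0 LD2_c0 LD3_c36) Lrfl Lrfl
theorem f3832 : Led Lsl_ct (LP (LK LD1_c0 LD2_c0 LD3_c36)) = (LP (LK LD1_c0 LD2_c1 LD3_c38)) :=
  Lre_c IH (LK LD1_c0 LD2_c0 LD3_c36) (LK LD1_c0 LD2_c1 LD3_c38) Lrfl Lrfl
theorem f21174 : Led Lsl_dt (LP (LK LD1_c0 LD2_c1 LD3_c38)) = (LP (LK LD1_c0 LD2_c3 LD3_c47)) :=
  Lre_d IH (LK LD1_c0 LD2_c1 LD3_c38) (LK LD1_c0 LD2_c3 LD3_c47) Lrfl Lrfl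
theorem f7121 : Led Lsl_ct (LP (LK LD1_c0 LD2_c8 LD3_c15)) = (LP (LK LD1_c0 LD2_c3 LD3_c47)) :=
  Lre_c IH (LK LD1_c0 LD2_c8 LD3_c15) (LK LD1_c0 LD2_c3 LD3_c47) Lrfl Lrfl
theorem f21175 : Led Lsl_gf (LP (LK LD1_c0 LD2_c8 LD3_c15)) = (LP (LK LD1_c0 LD2_c7 LD3_c61)) :=
  Lgr Lrot104 (Lpr_ct (f7121 IH) (Lpe (f21174 IH) (Lpe (f3832 IH) (Lpe (f1495 IH) (Lpe (f7065 IH) (Lpe (K0.f5883 IH) (Lpe (f20891 IH) (Lpr_gt (K0.f21001 IH) (Lpr_ct (K0.f20551 IH) (Lpn (LP (LK LD1_c0 LD2_c7 LD3_c61))))))))))))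
theorem f21181 : Led Lsl_ct (LP (LK LD1_c0 LD2_c3 LD3_c47)) = (LP (LK LD1_c0 LD2_c8 LD3_c15)) :=
  Lre_c IH (LK LD1_c0 LD2_c3 LD3_c47) (LK LD1_c0 LD2_c8 LD3_c15) Lrfl Lrfl
theorem f21182 : Led Lsl_bt (LP (LK LD1_c0 LD2_c3 LD3_c47)) = (LP (LK LD1_c0 LD2_c8 LD3_c13)) :=
  Lre_b IH (LK LD1_c0 LD2_c3 LD3_c47) (LK LD1_c0 LD2_c8 LD3_c13) Lrfl Lrfl
theorem f21183 : Led Lsl_gt (LP (LK LD1_c0 LD2_c8 LD3_c13)) = (LP (LK LD1_c0 LD2_c18 LD3_c13)) :=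
  Lre_g IH (LK LD1_c0 LD2_c8 LD3_c13) (LK LD1_c0 LD2_c18 LD3_c13) Lrfl Lrfl
theorem f37157 : Led Lsl_bt (LP (LK LD1_c0 LD2_c16 LD3_c49)) = (LP (LK LD1_c0 LD2_c18 LD3_c13)) :=
  Lgr Lrot92 (Lpr_ct (f37141 IH) (Lpr_gt (f37153 IH) (Lpe (f21180 IH) (Lpr_bt (f21178 IH) (Lpr_gt (K0.f21001 IH) (Lpr_ct (K0.f20551 IH) (Lpe (f21175 IH) (Lpe (f21181 IH) (Lpr_bt (f21182 IH) (Lpr_gt (f21183 IH) (Lpn (LP (LK LD1_c0 LD2_c18 LD3_c13)))))))))))))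
theorem f37147 : Led Lsl_dt (LP (LK LD1_c0 LD2_c17 LD3_c28)) = (LP (LK LD1_c0 LD2_c16 LD3_c49)) :=
  Lgr Lrot42 (Lpr_df (f37144 IH) (Lpn (LP (LK LD1_c0 LD2_c16 LD3_c49))))
theorem f37164 : Led Lsl_df (LP (LK LD1_c0 LD2_c17 LD3_c53)) = (LP (LK LD1_c0 LD2_c18 LD3_c13)) :=
  Lgr Lrot12 (Lpe (K0.f35374 IH) (Lpr_dt (f37147 IH) (Lpr_bt (f37157 IH) (Lpn (LP (LK LD1_c0 LD2_c18 LD3_c13))))))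
theorem f35380 : Led Lsl_et (LP (LK LD1_c0 LD2_c17 LD3_c53)) = (LP (LK LD1_c0 LD2_c17 LD3_c53)) :=
  Lgr Lrot69 (Lpe (K0.f35370 IH) (Lpe (K0.f8230 IH) (Lpe (K0.f33644 IH) (Lpe (K0.f8206 IH) (Lpr_ff (K0.f35376 IH) (Lpn (LP (LK LD1_c0 LD2_c17 LD3_c53))))))))
theorem f37186 : Led Lsl_dt (LP (LK LD1_c0 LD2_c17 LD3_c53)) = (LP (LK LD1_c0 LD2_c18 LD3_c13)) :=
  Lgr Lrot42 (Lpr_df (f37164 IH) (Lpn (LP (LK LD1_c0 LD2_c18 LD3_c13))))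
theorem f37166 : Led Lsl_et (LP (LK LD1_c0 LD2_c18 LD3_c13)) = (LP (LK LD1_c0 LD2_c40 LD3_c42)) :=
  Lre_e IH (LK LD1_c0 LD2_c18 LD3_c13) (LK LD1_c0 LD2_c40 LD3_c42) Lrfl Lrfl
theorem f37177 : Led Lsl_et (LP (LK LD1_c0 LD2_c40 LD3_c42)) = (LP (LK LD1_c0 LD2_c18 LD3_c13)) :=
  Lre_e IH (LK LD1_c0 LD2_c40 LD3_c42) (LK LD1_c0 LD2_c18 LD3_c13) Lrfl Lrfl
theorem f37188 : Led Lsl_dt (LP (LK LD1_c0 LD2_c40 LD3_c42)) = (LP (LK LD1_c0 LD2_c40 LD3_c42)) :=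
  Lgr Lrot77 (Lpe (f37166 IH) (Lpe (f37186 IH) (Lpe (f35380 IH) (Lpr_df (f37164 IH) (Lpe (f37177 IH) (Lpn (LP (LK LD1_c0 LD2_c40 LD3_c42))))))))
theorem f37136 : Led Lsl_et (LP (LK LD1_c0 LD2_c37 LD3_c45)) = (LP (LK LD1_c0 LD2_c16 LD3_c49)) :=
  Lre_e IH (LK LD1_c0 LD2_c37 LD3_c45) (LK LD1_c0 LD2_c16 LD3_c49) Lrfl Lrfl
theorem f37167 : Led Lsl_bf (LP (LK LD1_c0 LD2_c37 LD3_c45)) = (LP (LK LD1_c0 LD2_c40 LD3_c42)) :=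
  Lgr Lrot96 (Lpr_et (f37136 IH) (Lpr_bt (f37157 IH) (Lpr_et (f37166 IH) (Lpn (LP (LK LD1_c0 LD2_c40 LD3_c42))))))
theorem f37169 : Led Lsl_bt (LP (LK LD1_c0 LD2_c37 LD3_c45)) = (LP (LK LD1_c0 LD2_c40 LD3_c42)) :=
  Lgr Lrot127 (Lpr_bf (f37167 IH) (Lpn (LP (LK LD1_c0 LD2_c40 LD3_c42))))
theorem f37230 : Led Lsl_df (LP (LK LD1_c0 LD2_c37 LD3_c45)) = (LP (LK LD1_c0 LD2_c37 LD3_c45)) :=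
  Lgr Lrot12 (Lpr_bt (f37169 IH) (Lpr_dt (f37188 IH) (Lpe (f37167 IH) (Lpn (LP (LK LD1_c0 LD2_c37 LD3_c45))))))
theorem f37146 : Led Lsl_et (LP (LK LD1_c0 LD2_c16 LD3_c49)) = (LP (LK LD1_c0 LD2_c37 LD3_c45)) :=
  Lre_e IH (LK LD1_c0 LD2_c16 LD3_c49) (LK LD1_c0 LD2_c37 LD3_c45) Lrfl Lrfl
theorem f37250 : Led Lsl_et (LP (LK LD1_c0 LD2_c17 LD3_c28)) = (LP (LK LD1_c0 LD2_c17 LD3_c28)) :=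
  Lgr Lrot71 (Lpr_df (f37144 IH) (Lpe (f37136 IH) (Lpr_df (f37230 IH) (Lpe (f37146 IH) (Lpe (f37147 IH) (Lpn (LP (LK LD1_c0 LD2_c17 LD3_c28))))))))
theorem f37094 : Led Lsl_dt (LP (LK LD1_c0 LD2_c5 LD3_c52)) = (LP (LK LD1_c0 LD2_c12 LD3_c53)) :=
  Lre_d IH (LK LD1_c0 LD2_c5 LD3_c52) (LK LD1_c0 LD2_c12 LD3_c53) Lrfl Lrfl
theorem f37256 : Led Lsl_gf (LP (LK LD1_c0 LD2_c16 LD3_c49)) = (LP (LK LD1_c0 LD2_c12 LD3_c53)) :=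
  Lgr Lrot134 (Lpe (f37147 IH) (Lpr_et (f37250 IH) (Lpr_gt (K0.f416 IH) (Lpe (K0.f414 IH) (Lpr_dt (K0.f34662 IH) (Lpr_gt (f28590 IH) (Lpe (K0.f2900 IH) (Lpr_et (f2933 IH) (Lpr_gt (f37089 IH) (Lpr_dt (f37094 IH) (Lpn (LP (LK LD1_c0 LD2_c12 LD3_c53)))))))))))))
theorem f37260 : Led Lsl_ct (LP (LK LD1_c0 LD2_c17 LD3_c28)) = (LP (LK LD1_c0 LD2_c17 LD3_c28)) :=
  Lgr Lrot7 (Lpr_df (f37144 IH) (Lpr_gf (f37256 IH) (Lpe (f37094 IH) (Lpe (f37089 IH) (Lpr_cf (f2934 IH) (Lpr_gt (f37089 IH) (Lpr_dt (f37094 IH) (Lpe (f37256 IH) (Lpe (f37144 IH) (Lpn (LP (LK LD1_c0 LD2_c17 LD3_c28))))))))))))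
theorem f20459 : Led Lsl_bt (LP (LK LD1_c0 LD2_c5 LD3_c55)) = (LP (LK LD1_c0 LD2_c12 LD3_c58)) :=
  Lre_b IH (LK LD1_c0 LD2_c5 LD3_c55) (LK LD1_c0 LD2_c12 LD3_c58) Lrfl Lrfl
theorem f20538 : Led Lsl_df (LP (LK LD1_c0 LD2_c7 LD3_c53)) = (LP (LK LD1_c0 LD2_c12 LD3_c58)) :=
  Lgr Lrot12 (Lpr_bt (f411 IH) (Lpr_dt (K0.f20531 IH) (Lpr_bt (f20459 IH) (Lpn (LP (LK LD1_c0 LD2_c12 LD3_c58))))))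
theorem f6724 : Led Lsl_ct (LP (LK LD1_c0 LD2_c29 LD3_c24)) = (LP (LK LD1_c0 LD2_c12 LD3_c58)) :=
  Lre_c IH (LK LD1_c0 LD2_c29 LD3_c24) (LK LD1_c0 LD2_c12 LD3_c58) Lrfl Lrfl
theorem f37275 : Led Lsl_gf (LP (LK LD1_c0 LD2_c17 LD3_c28)) = (LP (LK LD1_c0 LD2_c13 LD3_c15)) :=
  Lgr Lrot147 (Lpr_ct (f37260 IH) (Lpr_gt (K0.f416 IH) (Lpr_ct (f412 IH) (Lpr_df (f20538 IH) (Lpe (f6724 IH) (Lpr_gf (K0.f34688 IH) (Lpe (K0.f2963 IH) (Lpe (K0.f34686 IH) (Lpr_df (K0.f24208 IH) (Lpn (LP (LK LD1_c0 LD2_c13 LD3_c15))))))))))))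
theorem f24403 : Led Lsl_dt (LP (LK LD1_c0 LD2_c7 LD3_c34)) = (LP (LK LD1_c0 LD2_c13 LD3_c15)) :=
  Lgr Lrot79 (Lpe (K0.f24402 IH) (Lpr_df (K0.f24210 IH) (Lpe (K0.f13648 IH) (Lpn (LP (LK LD1_c0 LD2_c13 LD3_c15))))))
theorem f37279 : Led Lsl_df (LP (LK LD1_c0 LD2_c12 LD3_c58)) = (LP (LK LD1_c0 LD2_c7 LD3_c53)) :=
  Lgr Lrot162 (Lpe (f6724 IH) (Lpr_gf (K0.f34688 IH) (Lpe (K0.f2963 IH) (Lpe (K0.f34686 IH) (Lpr_dt (f24403 IH) (Lpe (f37275 IH) (Lpr_ct (f37260 IH) (Lpr_gt (K0.f416 IH) (Lpr_ct (f412 IH) (Lpn (LP (LK LD1_c0 LD2_c7 LD3_c53))))))))))))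
theorem f415 : Led Lsl_et (LP (LK LD1_c0 LD2_c7 LD3_c53)) = (LP (LK LD1_c0 LD2_c3 LD3_c34)) :=
  Lre_e IH (LK LD1_c0 LD2_c7 LD3_c53) (LK LD1_c0 LD2_c3 LD3_c34) Lrfl Lrfl
theorem f37282 : Led Lsl_gf (LP (LK LD1_c0 LD2_c12 LD3_c58)) = (LP (LK LD1_c0 LD2_c14 LD3_c6)) :=
  Lgr Lrot145 (Lpr_df (f37279 IH) (Lpr_et (f415 IH) (Lpr_gt (K0.f224 IH) (Lpe (K0.f34658 IH) (Lpe (K0.f2896 IH) (Lpe (K0.f2894 IH) (Lpr_et (K0.f2911 IH) (Lpr_gt (K0.f2899 IH) (Lpe (K0.f2921 IH) (Lpr_dt (K0.f2922 IH) (Lpn (LP (LK LD1_c0 LD2_c14 LD3_c6)))))))))))))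
theorem f37098 : Led Lsl_gf (LP (LK LD1_c0 LD2_c6 LD3_c28)) = (LP (LK LD1_c0 LD2_c3 LD3_c21)) :=
  Lgr Lrot181 (Lpe (f2934 IH) (Lpr_gt (f37089 IH) (Lpe (f20053 IH) (Lpr_bt (f16646 IH) (Lpr_gt (K0.f6726 IH) (Lpe (K0.f20258 IH) (Lpr_ct (K0.f12614 IH) (Lpr_gt (K0.f20886 IH) (Lpe (K0.f8329 IH) (Lpr_bt (f20892 IH) (Lpn (LP (LK LD1_c0 LD2_c3 LD3_c21)))))))))))))
theorem f37284 : Led Lsl_ct (LP (LK LD1_c0 LD2_c3 LD3_c21)) = (LP (LK LD1_c0 LD2_c3 LD3_c21)) :=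
  Lgr Lrot8 (Lpe (f37098 IH) (Lpr_dt (K0.f2922 IH) (Lpe (f37282 IH) (Lpe (f20538 IH) (Lpe (f412 IH) (Lpr_df (f20538 IH) (Lpr_gf (f37282 IH) (Lpe (K0.f2922 IH) (Lpr_gf (f37098 IH) (Lpn (LP (LK LD1_c0 LD2_c3 LD3_c21))))))))))))
theorem f16664 : Led Lsl_bt (LP (LK LD1_c0 LD2_c3 LD3_c21)) = (LP (LK LD1_c0 LD2_c1 LD3_c23)) :=
  Lre_b IH (LK LD1_c0 LD2_c3 LD3_c21) (LK LD1_c0 LD2_c1 LD3_c23) Lrfl Lrfl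
theorem f7132 : Led Lsl_bt (LP (LK LD1_c0 LD2_c1 LD3_c38)) = (LP (LK LD1_c0 LD2_c3 LD3_c46)) :=
  Lre_b IH (LK LD1_c0 LD2_c1 LD3_c38) (LK LD1_c0 LD2_c3 LD3_c46) Lrfl Lrfl
theorem f36291 : Led Lsl_gt (LP (LK LD1_c0 LD2_c7 LD3_c28)) = (LP (LK LD1_c0 LD2_c3 LD3_c21)) :=
  Lre_g IH (LK LD1_c0 LD2_c7 LD3_c28) (LK LD1_c0 LD2_c3 LD3_c21) Lrfl Lrfl
theorem f37120 : Led Lsl_ct (LP (LK LD1_c0 LD2_c7 LD3_c28)) = (LP (LK LD1_c0 LD2_c7 LD3_c28)) :=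
  Lgr Lrot8 (Lpr_gt (f36291 IH) (Lpr_dt (f37104 IH) (Lpr_gt (f20424 IH) (Lpe (f37108 IH) (Lpe (K0.f8268 IH) (Lpr_df (f37108 IH) (Lpe (f20424 IH) (Lpe (f37104 IH) (Lpe (f36291 IH) (Lpn (LP (LK LD1_c0 LD2_c7 LD3_c28))))))))))))
theorem f37296 : Led Lsl_bf (LP (LK LD1_c0 LD2_c8 LD3_c11)) = (LP (LK LD1_c0 LD2_c7 LD3_c28)) :=
  Lgr Lrot34 (Lpe (f24962 IH) (Lpe (f7132 IH) (Lpr_ct (f7117 IH) (Lpe (f1495 IH) (Lpe (f7065 IH) (Lpe (K0.f5883 IH) (Lpe (f16664 IH) (Lpr_ct (f37284 IH) (Lpe (f36291 IH) (Lpe (f37120 IH) (Lpn (LP (LK LD1_c0 LD2_c7 LD3_c28)))))))))))))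
theorem f29229 : Led Lsl_et (LP (LK LD1_c0 LD2_c55 LD3_c27)) = (LP (LK LD1_c0 LD2_c25 LD3_c8)) :=
  Lre_e IH (LK LD1_c0 LD2_c55 LD3_c27) (LK LD1_c0 LD2_c25 LD3_c8) Lrfl Lrfl
theorem f29231 : Led Lsl_ef (LP (LK LD1_c0 LD2_c11 LD3_c12)) = (LP (LK LD1_c0 LD2_c11 LD3_c12)) :=
  Lgr Lrot73 (Lpr_dt (f29228 IH) (Lpr_et (f29227 IH) (Lpr_dt (f29217 IH) (Lpr_et (f29229 IH) (Lpr_dt (f29230 IH) (Lpn (LP (LK LD1_c0 LD2_c11 LD3_c12))))))))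
theorem f36622 : Led Lsl_cf (LP (LK LD1_c0 LD2_c8 LD3_c11)) = (LP (LK LD1_c0 LD2_c11 LD3_c12)) :=
  Lgr Lrot11 (Lpr_ct (f36616 IH) (Lpn (LP (LK LD1_c0 LD2_c11 LD3_c12))))
theorem f36629 : Led Lsl_ef (LP (LK LD1_c0 LD2_c8 LD3_c11)) = (LP (LK LD1_c0 LD2_c8 LD3_c11)) :=
  Lgr Lrot28 (Lpr_ct (f36616 IH) (Lpe (f29231 IH) (Lpe (f36622 IH) (Lpn (LP (LK LD1_c0 LD2_c8 LD3_c11))))))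
theorem f37298 : Led Lsl_bt (LP (LK LD1_c0 LD2_c8 LD3_c11)) = (LP (LK LD1_c0 LD2_c7 LD3_c28)) :=
  Lgr Lrot127 (Lpr_bf (f37296 IH) (Lpn (LP (LK LD1_c0 LD2_c7 LD3_c28))))
theorem f37302 : Led Lsl_et (LP (LK LD1_c0 LD2_c7 LD3_c28)) = (LP (LK LD1_c0 LD2_c7 LD3_c28)) :=
  Lgr Lrot74 (Lpe (f37298 IH) (Lpr_ef (f36629 IH) (Lpr_bf (f37296 IH) (Lpn (LP (LK LD1_c0 LD2_c7 LD3_c28))))))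
theorem f37124 : Led Lsl_dt (LP (LK LD1_c0 LD2_c7 LD3_c28)) = (LP (LK LD1_c0 LD2_c16 LD3_c47)) :=
  Lre_d IH (LK LD1_c0 LD2_c7 LD3_c28) (LK LD1_c0 LD2_c16 LD3_c47) Lrfl Lrfl
theorem f37139 : Led Lsl_af (LP (LK LD1_c0 LD2_c16 LD3_c49)) = (LP (LK LD1_c0 LD2_c16 LD3_c49)) :=
  Lgr Lrot45 (Lpe (f37131 IH) (Lpr_at (f37118 IH) (Lpr_ft (f37137 IH) (Lpn (LP (LK LD1_c0 LD2_c16 LD3_c49))))))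
theorem f37258 : Led Lsl_gt (LP (LK LD1_c0 LD2_c16 LD3_c48)) = (LP (LK LD1_c0 LD2_c12 LD3_c53)) :=
  Lgr Lrot5 (Lpr_ft (f37137 IH) (Lpe (f37139 IH) (Lpr_gf (f37256 IH) (Lpn (LP (LK LD1_c0 LD2_c12 LD3_c53))))))
theorem f37288 : Led Lsl_et (LP (LK LD1_c0 LD2_c5 LD3_c52)) = (LP (LK LD1_c0 LD2_c3 LD3_c21)) :=
  Lgr Lrot121 (Lpr_dt (f37094 IH) (Lpe (f37258 IH) (Lpe (f37105 IH) (Lpr_et (K0.f8231 IH) (Lpe (K0.f224 IH) (Lpe (f415 IH) (Lpe (f37279 IH) (Lpr_gf (f37282 IH) (Lpe (K0.f2922 IH) (Lpr_gf (f37098 IH) (Lpn (LP (LK LD1_c0 LD2_c3 LD3_c21)))))))))))))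
theorem f37310 : Led Lsl_gf (LP (LK LD1_c0 LD2_c16 LD3_c47)) = (LP (LK LD1_c0 LD2_c12 LD3_c58)) :=
  Lgr Lrot134 (Lpe (f37124 IH) (Lpr_et (f37302 IH) (Lpr_gt (f36291 IH) (Lpe (f37288 IH) (Lpr_dt (f37094 IH) (Lpe (f37256 IH) (Lpe (f37147 IH) (Lpr_et (f37250 IH) (Lpr_gt (K0.f416 IH) (Lpe (f37279 IH) (Lpn (LP (LK LD1_c0 LD2_c12 LD3_c58)))))))))))))
theorem f24963 : Led Lsl_dt (LP (LK LD1_c0 LD2_c8 LD3_c11)) = (LP (LK LD1_c0 LD2_c18 LD3_c11)) :=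
  Lre_d IH (LK LD1_c0 LD2_c8 LD3_c11) (LK LD1_c0 LD2_c18 LD3_c11) Lrfl Lrfl
theorem f37122 : Led Lsl_dt (LP (LK LD1_c0 LD2_c16 LD3_c47)) = (LP (LK LD1_c0 LD2_c7 LD3_c28)) :=
  Lre_d IH (LK LD1_c0 LD2_c16 LD3_c47) (LK LD1_c0 LD2_c7 LD3_c28) Lrfl Lrfl
theorem f37300 : Led Lsl_bt (LP (LK LD1_c0 LD2_c18 LD3_c11)) = (LP (LK LD1_c0 LD2_c16 LD3_c47)) :=
  Lgr Lrot95 (Lpe (f24963 IH) (Lpr_bf (f37296 IH) (Lpe (f37122 IH) (Lpn (LP (LK LD1_c0 LD2_c16 LD3_c47))))))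
theorem f24964 : Led Lsl_ct (LP (LK LD1_c0 LD2_c18 LD3_c11)) = (LP (LK LD1_c0 LD2_c40 LD3_c37)) :=
  Lre_c IH (LK LD1_c0 LD2_c18 LD3_c11) (LK LD1_c0 LD2_c40 LD3_c37) Lrfl Lrfl
theorem f20463 : Led Lsl_ct (LP (LK LD1_c0 LD2_c5 LD3_c55)) = (LP (LK LD1_c0 LD2_c12 LD3_c59)) :=
  Lre_c IH (LK LD1_c0 LD2_c5 LD3_c55) (LK LD1_c0 LD2_c12 LD3_c59) Lrfl Lrfl
theorem f37125 : Led Lsl_ct (LP (LK LD1_c0 LD2_c16 LD3_c47)) = (LP (LK LD1_c0 LD2_c37 LD3_c41)) :=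
  Lre_c IH (LK LD1_c0 LD2_c16 LD3_c47) (LK LD1_c0 LD2_c37 LD3_c41) Lrfl Lrfl
theorem f34681 : Led Lsl_ct (LP (LK LD1_c0 LD2_c16 LD3_c59)) = (LP (LK LD1_c0 LD2_c7 LD3_c34)) :=
  Lre_c IH (LK LD1_c0 LD2_c16 LD3_c59) (LK LD1_c0 LD2_c7 LD3_c34) Lrfl Lrfl
theorem f37312 : Led Lsl_gt (LP (LK LD1_c0 LD2_c37 LD3_c41)) = (LP (LK LD1_c0 LD2_c16 LD3_c59)) :=
  Lgr Lrot150 (Lpe (f37125 IH) (Lpr_gf (f37310 IH) (Lpr_df (f37279 IH) (Lpr_gt (K0.f34672 IH) (Lpr_ct (K0.f8268 IH) (Lpe (K0.f34676 IH) (Lpe (K0.f20177 IH) (Lpe (f24403 IH) (Lpe (f34681 IH) (Lpn (LP (LK LD1_c0 LD2_c16 LD3_c59))))))))))))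
theorem f34679 : Led Lsl_ct (LP (LK LD1_c0 LD2_c7 LD3_c34)) = (LP (LK LD1_c0 LD2_c16 LD3_c59)) :=
  Lre_c IH (LK LD1_c0 LD2_c7 LD3_c34) (LK LD1_c0 LD2_c16 LD3_c59) Lrfl Lrfl
theorem f8331 : Led Lsl_bt (LP (LK LD1_c0 LD2_c3 LD3_c4)) = (LP (LK LD1_c0 LD2_c1 LD3_c24)) :=
  Lre_b IH (LK LD1_c0 LD2_c3 LD3_c4) (LK LD1_c0 LD2_c1 LD3_c24) Lrfl Lrfl
theorem f8346 : Led Lsl_ct (LP (LK LD1_c0 LD2_c3 LD3_c4)) = (LP (LK LD1_c0 LD2_c6 LD3_c47)) :=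
  Lre_c IH (LK LD1_c0 LD2_c3 LD3_c4) (LK LD1_c0 LD2_c6 LD3_c47) Lrfl Lrfl
theorem f37314 : Led Lsl_gt (LP (LK LD1_c0 LD2_c6 LD3_c47)) = (LP (LK LD1_c0 LD2_c12 LD3_c59)) :=
  Lgr Lrot65 (Lpe (f8346 IH) (Lpr_bt (f8331 IH) (Lpe (K0.f248 IH) (Lpe (K0.f24207 IH) (Lpr_ct (f34679 IH) (Lpe (f37312 IH) (Lpe (f37125 IH) (Lpr_gf (f37310 IH) (Lpe (f20459 IH) (Lpr_ct (f20463 IH) (Lpn (LP (LK LD1_c0 LD2_c12 LD3_c59)))))))))))))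
theorem f37318 : Led Lsl_bt (LP (LK LD1_c0 LD2_c14 LD3_c44)) = (LP (LK LD1_c0 LD2_c6 LD3_c46)) :=
  Lre_b IH (LK LD1_c0 LD2_c14 LD3_c44) (LK LD1_c0 LD2_c6 LD3_c46) Lrfl Lrfl
theorem f37319 : Led Lsl_ct (LP (LK LD1_c0 LD2_c14 LD3_c44)) = (LP (LK LD1_c0 LD2_c32 LD3_c46)) :=
  Lre_c IH (LK LD1_c0 LD2_c14 LD3_c44) (LK LD1_c0 LD2_c32 LD3_c46) Lrfl Lrfl
theorem f37320 : Led Lsl_gt (LP (LK LD1_c0 LD2_c40 LD3_c37)) = (LP (LK LD1_c0 LD2_c32 LD3_c46)) :=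
  Lgr Lrot65 (Lpe (f24964 IH) (Lpr_bt (f37300 IH) (Lpr_gf (f37310 IH) (Lpe (f20459 IH) (Lpr_ct (f20463 IH) (Lpe (f37314 IH) (Lpe (f8346 IH) (Lpe (K0.f7018 IH) (Lpe (f37318 IH) (Lpr_ct (f37319 IH) (Lpn (LP (LK LD1_c0 LD2_c32 LD3_c46)))))))))))))
theorem f36659 : Led Lsl_ft (LP (LK LD1_c0 LD2_c40 LD3_c37)) = (LP (LK LD1_c0 LD2_c25 LD3_c0)) :=
  Lgr Lrot54 (Lpe (f36626 IH) (Lpr_ff (f36652 IH) (Lpe (f29551 IH) (Lpn (LP (LK LD1_c0 LD2_c25 LD3_c0))))))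
theorem f29312 : Led Lsl_af (LP (LK LD1_c0 LD2_c25 LD3_c7)) = (LP (LK LD1_c0 LD2_c25 LD3_c0)) :=
  Lgr Lrot68 (Lpr_ct (f29311 IH) (Lpr_at (f29300 IH) (Lpr_ct (K0.f2954 IH) (Lpn (LP (LK LD1_c0 LD2_c25 LD3_c0))))))
theorem f37324 : Led Lsl_gf (LP (LK LD1_c0 LD2_c25 LD3_c7)) = (LP (LK LD1_c0 LD2_c32 LD3_c46)) :=
  Lgr Lrot76 (Lpr_af (f29312 IH) (Lpe (f36659 IH) (Lpr_gt (f37320 IH) (Lpn (LP (LK LD1_c0 LD2_c32 LD3_c46))))))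
theorem f36306 : Led Lsl_ct (LP (LK LD1_c0 LD2_c3 LD3_c51)) = (LP (LK LD1_c0 LD2_c6 LD3_c9)) :=
  Lgr Lrot59 (Lpr_cf (f36301 IH) (Lpn (LP (LK LD1_c0 LD2_c6 LD3_c9))))
theorem f37384 : Led Lsl_gt (LP (LK LD1_c0 LD2_c12 LD3_c33)) = (LP (LK LD1_c0 LD2_c14 LD3_c44)) :=
  Lgr Lrot9 (Lpe (f16651 IH) (Lpe (f36314 IH) (Lpr_ct (f36306 IH) (Lpe (f37081 IH) (Lpr_ct (f28742 IH) (Lpe (f29324 IH) (Lpe (f29311 IH) (Lpr_gf (f37324 IH) (Lpe (f37319 IH) (Lpn (LP (LK LD1_c0 LD2_c14 LD3_c44))))))))))))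
theorem f35759 : Led Lsl_ff (LP (LK LD1_c0 LD2_c12 LD3_c31)) = (LP (LK LD1_c0 LD2_c24 LD3_c38)) :=
  Lgr Lrot3 (Lpr_ft (f35586 IH) (Lpn (LP (LK LD1_c0 LD2_c24 LD3_c38))))
theorem f37428 : Led Lsl_at (LP (LK LD1_c0 LD2_c12 LD3_c31)) = (LP (LK LD1_c0 LD2_c14 LD3_c44)) :=
  Lgr Lrot26 (Lpr_ff (f35759 IH) (Lpe (f35541 IH) (Lpr_gt (f37384 IH) (Lpn (LP (LK LD1_c0 LD2_c14 LD3_c44))))))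
theorem f35437 : Led Lsl_ct (LP (LK LD1_c0 LD2_c12 LD3_c31)) = (LP (LK LD1_c0 LD2_c28 LD3_c18)) :=
  Lre_c IH (LK LD1_c0 LD2_c12 LD3_c31) (LK LD1_c0 LD2_c28 LD3_c18) Lrfl Lrfl
theorem f29559 : Led Lsl_gt (LP (LK LD1_c0 LD2_c25 LD3_c6)) = (LP (LK LD1_c0 LD2_c11 LD3_c11)) :=
  Lre_g IH (LK LD1_c0 LD2_c25 LD3_c6) (LK LD1_c0 LD2_c11 LD3_c11) Lrfl Lrfl
theorem f34710 : Led Lsl_df (LP (LK LD1_c0 LD2_c25 LD3_c6)) = (LP (LK LD1_c0 LD2_c17 LD3_c54)) :=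
  Lgr Lrot153 (Lpr_gt (f29559 IH) (Lpr_dt (f29324 IH) (Lpe (f28742 IH) (Lpe (K0.f2947 IH) (Lpr_gf (K0.f34705 IH) (Lpe (K0.f27219 IH) (Lpr_gf (K0.f34695 IH) (Lpe (K0.f8232 IH) (Lpe (f34692 IH) (Lpn (LP (LK LD1_c0 LD2_c17 LD3_c54))))))))))))
theorem f29491 : Led Lsl_ct (LP (LK LD1_c0 LD2_c11 LD3_c11)) = (LP (LK LD1_c0 LD2_c25 LD3_c7)) :=
  Lre_c IH (LK LD1_c0 LD2_c11 LD3_c11) (LK LD1_c0 LD2_c25 LD3_c7) Lrfl Lrfl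
theorem f35594 : Led Lsl_gt (LP (LK LD1_c0 LD2_c25 LD3_c7)) = (LP (LK LD1_c0 LD2_c54 LD3_c33)) :=
  Lgr Lrot150 (Lpe (f29491 IH) (Lpe (f29559 IH) (Lpr_df (f34710 IH) (Lpr_gt (K0.f27226 IH) (Lpr_ct (K0.f35368 IH) (Lpr_gt (K0.f27217 IH) (Lpr_ct (K0.f35509 IH) (Lpr_df (f35574 IH) (Lpe (f35572 IH) (Lpn (LP (LK LD1_c0 LD2_c54 LD3_c33))))))))))))
theorem f35599 : Led Lsl_dt (LP (LK LD1_c0 LD2_c25 LD3_c6)) = (LP (LK LD1_c0 LD2_c17 LD3_c54)) :=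
  Lgr Lrot6 (Lpr_gt (f29559 IH) (Lpr_ct (f29491 IH) (Lpr_gt (f35594 IH) (Lpr_ct (f35572 IH) (Lpr_df (f35429 IH) (Lpe (K0.f35509 IH) (Lpe (K0.f27217 IH) (Lpe (K0.f35368 IH) (Lpe (K0.f27226 IH) (Lpn (LP (LK LD1_c0 LD2_c17 LD3_c54))))))))))))
theorem f35616 : Led Lsl_bf (LP (LK LD1_c0 LD2_c25 LD3_c6)) = (LP (LK LD1_c0 LD2_c12 LD3_c31)) :=
  Lgr Lrot93 (Lpr_dt (f35599 IH) (Lpr_bt (K0.f35497 IH) (Lpr_dt (K0.f16638 IH) (Lpn (LP (LK LD1_c0 LD2_c12 LD3_c31))))))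
theorem f2950 : Led Lsl_bf (LP (LK LD1_c0 LD2_c14 LD3_c6)) = (LP (LK LD1_c0 LD2_c11 LD3_c7)) :=
  Lgr Lrot24 (Lpr_bt (K0.f2948 IH) (Lpn (LP (LK LD1_c0 LD2_c11 LD3_c7))))
theorem f29307 : Led Lsl_af (LP (LK LD1_c0 LD2_c11 LD3_c11)) = (LP (LK LD1_c0 LD2_c11 LD3_c7)) :=
  Lgr Lrot0 (Lpr_at (f29300 IH) (Lpn (LP (LK LD1_c0 LD2_c11 LD3_c7))))
theorem f29309 : Led Lsl_bf (LP (LK LD1_c0 LD2_c11 LD3_c11)) = (LP (LK LD1_c0 LD2_c11 LD3_c11)) :=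
  Lgr Lrot81 (Lpr_at (f29300 IH) (Lpe (f2950 IH) (Lpr_at (f6906 IH) (Lpr_bt (K0.f2948 IH) (Lpe (f29307 IH) (Lpn (LP (LK LD1_c0 LD2_c11 LD3_c11))))))))
theorem f36921 : Led Lsl_bf (LP (LK LD1_c0 LD2_c24 LD3_c61)) = (LP (LK LD1_c0 LD2_c24 LD3_c38)) :=
  Lgr Lrot165 (Lpr_gt (f36913 IH) (Lpr_ct (f29331 IH) (Lpr_gt (f35820 IH) (Lpe (f35437 IH) (Lpe (f35616 IH) (Lpr_gt (f29559 IH) (Lpr_bf (f29309 IH) (Lpr_ct (f29491 IH) (Lpr_gt (f35594 IH) (Lpe (f35573 IH) (Lpn (LP (LK LD1_c0 LD2_c24 LD3_c38)))))))))))))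
theorem f36923 : Led Lsl_bt (LP (LK LD1_c0 LD2_c24 LD3_c61)) = (LP (LK LD1_c0 LD2_c24 LD3_c38)) :=
  Lgr Lrot127 (Lpr_bf (f36921 IH) (Lpn (LP (LK LD1_c0 LD2_c24 LD3_c38))))
theorem f35547 : Led Lsl_bt (LP (LK LD1_c0 LD2_c10 LD3_c59)) = (LP (LK LD1_c0 LD2_c5 LD3_c9)) :=
  Lre_b IH (LK LD1_c0 LD2_c10 LD3_c59) (LK LD1_c0 LD2_c5 LD3_c9) Lrfl Lrfl
theorem f35548 : Led Lsl_ct (LP (LK LD1_c0 LD2_c10 LD3_c59)) = (LP (LK LD1_c0 LD2_c24 LD3_c39)) :=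
  Lre_c IH (LK LD1_c0 LD2_c10 LD3_c59) (LK LD1_c0 LD2_c24 LD3_c39) Lrfl Lrfl
theorem f35549 : Led Lsl_gt (LP (LK LD1_c0 LD2_c24 LD3_c39)) = (LP (LK LD1_c0 LD2_c54 LD3_c34)) :=
  Lre_g IH (LK LD1_c0 LD2_c24 LD3_c39) (LK LD1_c0 LD2_c54 LD3_c34) Lrfl Lrfl
theorem f36931 : Led Lsl_ct (LP (LK LD1_c0 LD2_c24 LD3_c61)) = (LP (LK LD1_c0 LD2_c54 LD3_c34)) :=
  Lgr Lrot10 (Lpr_bt (f36923 IH) (Lpe (f35541 IH) (Lpr_ct (f8345 IH) (Lpr_gt (f35533 IH) (Lpe (f27220 IH) (Lpr_bt (f34723 IH) (Lpe (K0.f27193 IH) (Lpe (f35547 IH) (Lpr_ct (f35548 IH) (Lpr_gt (f35549 IH) (Lpn (LP (LK LD1_c0 LD2_c54 LD3_c34)))))))))))))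
theorem f35591 : Led Lsl_dt (LP (LK LD1_c0 LD2_c54 LD3_c34)) = (LP (LK LD1_c1 LD2_c55 LD3_c40)) :=
  Lre_d IH (LK LD1_c0 LD2_c54 LD3_c34) (LK LD1_c1 LD2_c55 LD3_c40) Lrfl Lrfl
theorem f37327 : Led Lsl_ct (LP (LK LD1_c0 LD2_c32 LD3_c46)) = (LP (LK LD1_c0 LD2_c14 LD3_c44)) :=
  Lre_c IH (LK LD1_c0 LD2_c32 LD3_c46) (LK LD1_c0 LD2_c14 LD3_c44) Lrfl Lrfl
theorem f37330 : Led Lsl_dt (LP (LK LD1_c1 LD2_c10 LD3_c42)) = (LP (LK LD1_c0 LD2_c32 LD3_c46)) :=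
  Lre_d IH (LK LD1_c1 LD2_c10 LD3_c42) (LK LD1_c0 LD2_c32 LD3_c46) Lrfl Lrfl
theorem f37446 : Led Lsl_ct (LP (LK LD1_c1 LD2_c55 LD3_c40)) = (LP (LK LD1_c1 LD2_c10 LD3_c42)) :=
  Lgr Lrot53 (Lpe (f35591 IH) (Lpe (f36931 IH) (Lpr_df (f36919 IH) (Lpe (K0.f9588 IH) (Lpr_df (f35574 IH) (Lpe (f35759 IH) (Lpr_at (f37428 IH) (Lpe (f37327 IH) (Lpe (f37330 IH) (Lpn (LP (LK LD1_c1 LD2_c10 LD3_c42))))))))))))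
theorem f35583 : Led Lsl_dt (LP (LK LD1_c1 LD2_c55 LD3_c38)) = (LP (LK LD1_c0 LD2_c54 LD3_c33)) :=
  Lre_d IH (LK LD1_c1 LD2_c55 LD3_c38) (LK LD1_c0 LD2_c54 LD3_c33) Lrfl Lrfl
theorem f35598 : Led Lsl_dt (LP (LK LD1_c0 LD2_c54 LD3_c33)) = (LP (LK LD1_c1 LD2_c55 LD3_c38)) :=
  Lre_d IH (LK LD1_c0 LD2_c54 LD3_c33) (LK LD1_c1 LD2_c55 LD3_c38) Lrfl Lrfl
theorem f35438 : Led Lsl_dt (LP (LK LD1_c1 LD2_c2 LD3_c1)) = (LP (LK LD1_c0 LD2_c28 LD3_c18)) :=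
  Lre_d IH (LK LD1_c1 LD2_c2 LD3_c1) (LK LD1_c0 LD2_c28 LD3_c18) Lrfl Lrfl
theorem f35816 : Led Lsl_ft (LP (LK LD1_c1 LD2_c55 LD3_c38)) = (LP (LK LD1_c1 LD2_c2 LD3_c1)) :=
  Lgr Lrot54 (Lpe (f35598 IH) (Lpr_ff (f35812 IH) (Lpe (f35438 IH) (Lpn (LP (LK LD1_c1 LD2_c2 LD3_c1))))))
theorem f37452 : Led Lsl_at (LP (LK LD1_c1 LD2_c2 LD3_c1)) = (LP (LK LD1_c1 LD2_c10 LD3_c42)) :=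
  Lgr Lrot33 (Lpe (f35816 IH) (Lpr_dt (f35583 IH) (Lpr_ct (f35572 IH) (Lpe (f35574 IH) (Lpr_ct (K0.f9588 IH) (Lpe (f36919 IH) (Lpr_ct (f36931 IH) (Lpr_dt (f35591 IH) (Lpr_ct (f37446 IH) (Lpn (LP (LK LD1_c1 LD2_c10 LD3_c42))))))))))))
theorem f35484 : Led Lsl_dt (LP (LK LD1_c2 LD2_c9 LD3_c58)) = (LP (LK LD1_c4 LD2_c25 LD3_c2)) :=
  Lre_d IH (LK LD1_c2 LD2_c9 LD3_c58) (LK LD1_c4 LD2_c25 LD3_c2) Lrfl Lrfl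
theorem f35807 : Led Lsl_et (LP (LK LD1_c4 LD2_c25 LD3_c2)) = (LP (LK LD1_c8 LD2_c47 LD3_c42)) :=
  Lre_e IH (LK LD1_c4 LD2_c25 LD3_c2) (LK LD1_c8 LD2_c47 LD3_c42) Lrfl Lrfl
theorem f35808 : Led Lsl_df (LP (LK LD1_c8 LD2_c39 LD3_c10)) = (LP (LK LD1_c8 LD2_c47 LD3_c42)) :=
  Lgr Lrot70 (Lpr_et (K0.f31728 IH) (Lpr_dt (K0.f28644 IH) (Lpr_et (f35801 IH) (Lpr_dt (f35484 IH) (Lpr_et (f35807 IH) (Lpn (LP (LK LD1_c8 LD2_c47 LD3_c42))))))))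
theorem f36061 : Led Lsl_ft (LP (LK LD1_c8 LD2_c39 LD3_c10)) = (LP (LK LD1_c16 LD2_c12 LD3_c23)) :=
  Lre_f IH (LK LD1_c8 LD2_c39 LD3_c10) (LK LD1_c16 LD2_c12 LD3_c23) Lrfl Lrfl
theorem f36062 : Led Lsl_ft (LP (LK LD1_c16 LD2_c27 LD3_c0)) = (LP (LK LD1_c8 LD2_c47 LD3_c42)) :=
  Lre_f IH (LK LD1_c16 LD2_c27 LD3_c0) (LK LD1_c8 LD2_c47 LD3_c42) Lrfl Lrfl
theorem f36063 : Led Lsl_dt (LP (LK LD1_c16 LD2_c12 LD3_c23)) = (LP (LK LD1_c16 LD2_c27 LD3_c0)) :=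
  Lgr Lrot60 (Lpe (f36061 IH) (Lpr_df (f35808 IH) (Lpe (f36062 IH) (Lpn (LP (LK LD1_c16 LD2_c27 LD3_c0))))))
theorem f31924 : Led Lsl_et (LP (LK LD1_c8 LD2_c39 LD3_c9)) = (LP (LK LD1_c16 LD2_c12 LD3_c23)) :=
  Lre_e IH (LK LD1_c8 LD2_c39 LD3_c9) (LK LD1_c16 LD2_c12 LD3_c23) Lrfl Lrfl
theorem f36038 : Led Lsl_et (LP (LK LD1_c16 LD2_c27 LD3_c0)) = (LP (LK LD1_c8 LD2_c47 LD3_c25)) :=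
  Lre_e IH (LK LD1_c16 LD2_c27 LD3_c0) (LK LD1_c8 LD2_c47 LD3_c25) Lrfl Lrfl
theorem f36037 : Led Lsl_dt (LP (LK LD1_c8 LD2_c47 LD3_c25)) = (LP (LK LD1_c4 LD2_c24 LD3_c57)) :=
  Lre_d IH (LK LD1_c8 LD2_c47 LD3_c25) (LK LD1_c4 LD2_c24 LD3_c57) Lrfl Lrfl
theorem f35749 : Led Lsl_et (LP (LK LD1_c3 LD2_c57 LD3_c45)) = (LP (LK LD1_c1 LD2_c55 LD3_c38)) :=
  Lre_e IH (LK LD1_c3 LD2_c57 LD3_c45) (LK LD1_c1 LD2_c55 LD3_c38) Lrfl Lrfl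
theorem f35682 : Led Lsl_ft (LP (LK LD1_c7 LD2_c56 LD3_c55)) = (LP (LK LD1_c3 LD2_c57 LD3_c45)) :=
  Lre_f IH (LK LD1_c7 LD2_c56 LD3_c55) (LK LD1_c3 LD2_c57 LD3_c45) Lrfl Lrfl
theorem f35829 : Led Lsl_et (LP (LK LD1_c1 LD2_c2 LD3_c1)) = (LP (LK LD1_c2 LD2_c9 LD3_c54)) :=
  Lre_e IH (LK LD1_c1 LD2_c2 LD3_c1) (LK LD1_c2 LD2_c9 LD3_c54) Lrfl Lrfl
theorem f35903 : Led Lsl_ft (LP (LK LD1_c2 LD2_c9 LD3_c54)) = (LP (LK LD1_c4 LD2_c24 LD3_c57)) :=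
  Lre_f IH (LK LD1_c2 LD2_c9 LD3_c54) (LK LD1_c4 LD2_c24 LD3_c57) Lrfl Lrfl
theorem f35904 : Led Lsl_ef (LP (LK LD1_c7 LD2_c56 LD3_c55)) = (LP (LK LD1_c4 LD2_c24 LD3_c57)) :=
  Lgr Lrot21 (Lpr_ft (f35682 IH) (Lpr_et (f35749 IH) (Lpr_ft (f35816 IH) (Lpr_et (f35829 IH) (Lpr_ft (f35903 IH) (Lpn (LP (LK LD1_c4 LD2_c24 LD3_c57))))))))
theorem f36079 : Led Lsl_df (LP (LK LD1_c8 LD2_c39 LD3_c9)) = (LP (LK LD1_c7 LD2_c56 LD3_c55)) :=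
  Lgr Lrot70 (Lpr_et (f31924 IH) (Lpr_dt (f36063 IH) (Lpr_et (f36038 IH) (Lpr_dt (f36037 IH) (Lpe (f35904 IH) (Lpn (LP (LK LD1_c7 LD2_c56 LD3_c55))))))))
theorem f36087 : Led Lsl_dt (LP (LK LD1_c8 LD2_c39 LD3_c9)) = (LP (LK LD1_c7 LD2_c56 LD3_c55)) :=
  Lgr Lrot42 (Lpr_df (f36079 IH) (Lpn (LP (LK LD1_c7 LD2_c56 LD3_c55))))
theorem f31940 : Led Lsl_bt (LP (LK LD1_c16 LD2_c12 LD3_c7)) = (LP (LK LD1_c8 LD2_c39 LD3_c9)) :=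
  Lre_b IH (LK LD1_c16 LD2_c12 LD3_c7) (LK LD1_c8 LD2_c39 LD3_c9) Lrfl Lrfl
theorem f35737 : Led Lsl_bt (LP (LK LD1_c7 LD2_c56 LD3_c55)) = (LP (LK LD1_c14 LD2_c59 LD3_c39)) :=
  Lre_b IH (LK LD1_c7 LD2_c56 LD3_c55) (LK LD1_c14 LD2_c59 LD3_c39) Lrfl Lrfl
theorem f36092 : Led Lsl_df (LP (LK LD1_c16 LD2_c12 LD3_c7)) = (LP (LK LD1_c14 LD2_c59 LD3_c39)) :=
  Lgr Lrot12 (Lpr_bt (f31940 IH) (Lpr_dt (f36087 IH) (Lpr_bt (f35737 IH) (Lpn (LP (LK LD1_c14 LD2_c59 LD3_c39))))))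
theorem f36097 : Led Lsl_ft (LP (LK LD1_c16 LD2_c12 LD3_c7)) = (LP (LK LD1_c8 LD2_c39 LD3_c1)) :=
  Lre_f IH (LK LD1_c16 LD2_c12 LD3_c7) (LK LD1_c8 LD2_c39 LD3_c1) Lrfl Lrfl
theorem f35939 : Led Lsl_ft (LP (LK LD1_c7 LD2_c56 LD3_c52)) = (LP (LK LD1_c14 LD2_c59 LD3_c39)) :=
  Lre_f IH (LK LD1_c7 LD2_c56 LD3_c52) (LK LD1_c14 LD2_c59 LD3_c39) Lrfl Lrfl
theorem f36098 : Led Lsl_dt (LP (LK LD1_c8 LD2_c39 LD3_c1)) = (LP (LK LD1_c7 LD2_c56 LD3_c52)) :=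
  Lgr Lrot60 (Lpe (f36097 IH) (Lpr_df (f36092 IH) (Lpe (f35939 IH) (Lpn (LP (LK LD1_c7 LD2_c56 LD3_c52))))))
theorem f36101 : Led Lsl_at (LP (LK LD1_c16 LD2_c11 LD3_c60)) = (LP (LK LD1_c8 LD2_c39 LD3_c1)) :=
  Lre_a IH (LK LD1_c16 LD2_c11 LD3_c60) (LK LD1_c8 LD2_c39 LD3_c1) Lrfl Lrfl
theorem f36100 : Led Lsl_at (LP (LK LD1_c7 LD2_c56 LD3_c52)) = (LP (LK LD1_c14 LD2_c59 LD3_c35)) :=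
  Lre_a IH (LK LD1_c7 LD2_c56 LD3_c52) (LK LD1_c14 LD2_c59 LD3_c35) Lrfl Lrfl
theorem f36102 : Led Lsl_df (LP (LK LD1_c16 LD2_c11 LD3_c60)) = (LP (LK LD1_c14 LD2_c59 LD3_c35)) :=
  Lgr Lrot18 (Lpr_at (f36101 IH) (Lpr_dt (f36098 IH) (Lpr_at (f36100 IH) (Lpn (LP (LK LD1_c14 LD2_c59 LD3_c35))))))
theorem f31959 : Led Lsl_bt (LP (LK LD1_c4 LD2_c20 LD3_c44)) = (LP (LK LD1_c8 LD2_c39 LD3_c1)) :=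
  Lre_b IH (LK LD1_c4 LD2_c20 LD3_c44) (LK LD1_c8 LD2_c39 LD3_c1) Lrfl Lrfl
theorem f31960 : Led Lsl_at (LP (LK LD1_c8 LD2_c39 LD3_c1)) = (LP (LK LD1_c16 LD2_c11 LD3_c60)) :=
  Lre_a IH (LK LD1_c8 LD2_c39 LD3_c1) (LK LD1_c16 LD2_c11 LD3_c60) Lrfl Lrfl
theorem f31961 : Led Lsl_bt (LP (LK LD1_c8 LD2_c38 LD3_c21)) = (LP (LK LD1_c4 LD2_c20 LD3_c17)) :=
  Lre_b IH (LK LD1_c8 LD2_c38 LD3_c21) (LK LD1_c4 LD2_c20 LD3_c17) Lrfl Lrfl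
theorem f31962 : Led Lsl_at (LP (LK LD1_c16 LD2_c10 LD3_c36)) = (LP (LK LD1_c8 LD2_c38 LD3_c21)) :=
  Lre_a IH (LK LD1_c16 LD2_c10 LD3_c36) (LK LD1_c8 LD2_c38 LD3_c21) Lrfl Lrfl
theorem f31963 : Led Lsl_bt (LP (LK LD1_c16 LD2_c11 LD3_c60)) = (LP (LK LD1_c16 LD2_c10 LD3_c36)) :=
  Lgr Lrot62 (Lpe (f31960 IH) (Lpe (f31959 IH) (Lpr_af (K0.f31946 IH) (Lpe (f31961 IH) (Lpe (f31962 IH) (Lpn (LP (LK LD1_c16 LD2_c10 LD3_c36))))))))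
theorem f34745 : Led Lsl_dt (LP (LK LD1_c0 LD2_c28 LD3_c17)) = (LP (LK LD1_c1 LD2_c1 LD3_c61)) :=
  Lre_d IH (LK LD1_c0 LD2_c28 LD3_c17) (LK LD1_c1 LD2_c1 LD3_c61) Lrfl Lrfl
theorem f34748 : Led Lsl_et (LP (LK LD1_c1 LD2_c1 LD3_c61)) = (LP (LK LD1_c2 LD2_c9 LD3_c48)) :=
  Lre_e IH (LK LD1_c1 LD2_c1 LD3_c61) (LK LD1_c2 LD2_c9 LD3_c48) Lrfl Lrfl
theorem f34784 : Led Lsl_et (LP (LK LD1_c4 LD2_c20 LD3_c17)) = (LP (LK LD1_c2 LD2_c7 LD3_c35)) :=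
  Lre_e IH (LK LD1_c4 LD2_c20 LD3_c17) (LK LD1_c2 LD2_c7 LD3_c35) Lrfl Lrfl
theorem f34785 : Led Lsl_dt (LP (LK LD1_c2 LD2_c9 LD3_c48)) = (LP (LK LD1_c4 LD2_c20 LD3_c17)) :=
  Lgr Lrot77 (Lpe (f34748 IH) (Lpe (f34745 IH) (Lpr_ef (f34779 IH) (Lpe (K0.f31988 IH) (Lpe (f34784 IH) (Lpn (LP (LK LD1_c4 LD2_c20 LD3_c17))))))))
theorem f34796 : Led Lsl_ft (LP (LK LD1_c4 LD2_c24 LD3_c40)) = (LP (LK LD1_c2 LD2_c9 LD3_c48)) :=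
  Lre_f IH (LK LD1_c4 LD2_c24 LD3_c40) (LK LD1_c2 LD2_c9 LD3_c48) Lrfl Lrfl
theorem f34797 : Led Lsl_ft (LP (LK LD1_c4 LD2_c20 LD3_c17)) = (LP (LK LD1_c8 LD2_c38 LD3_c29)) :=
  Lre_f IH (LK LD1_c4 LD2_c20 LD3_c17) (LK LD1_c8 LD2_c38 LD3_c29) Lrfl Lrfl
theorem f34798 : Led Lsl_df (LP (LK LD1_c4 LD2_c24 LD3_c40)) = (LP (LK LD1_c8 LD2_c38 LD3_c29)) :=
  Lgr Lrot78 (Lpr_ft (f34796 IH) (Lpr_dt (f34785 IH) (Lpr_ft (f34797 IH) (Lpn (LP (LK LD1_c8 LD2_c38 LD3_c29))))))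
theorem f34814 : Led Lsl_dt (LP (LK LD1_c4 LD2_c24 LD3_c40)) = (LP (LK LD1_c8 LD2_c38 LD3_c29)) :=
  Lgr Lrot42 (Lpr_df (f34798 IH) (Lpn (LP (LK LD1_c8 LD2_c38 LD3_c29))))
theorem f34816 : Led Lsl_bt (LP (LK LD1_c8 LD2_c46 LD3_c48)) = (LP (LK LD1_c4 LD2_c24 LD3_c40)) :=
  Lre_b IH (LK LD1_c8 LD2_c46 LD3_c48) (LK LD1_c4 LD2_c24 LD3_c40) Lrfl Lrfl
theorem f31941 : Led Lsl_bt (LP (LK LD1_c8 LD2_c38 LD3_c29)) = (LP (LK LD1_c16 LD2_c10 LD3_c45)) :=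
  Lre_b IH (LK LD1_c8 LD2_c38 LD3_c29) (LK LD1_c16 LD2_c10 LD3_c45) Lrfl Lrfl
theorem f34817 : Led Lsl_df (LP (LK LD1_c8 LD2_c46 LD3_c48)) = (LP (LK LD1_c16 LD2_c10 LD3_c45)) :=
  Lgr Lrot12 (Lpr_bt (f34816 IH) (Lpr_dt (f34814 IH) (Lpr_bt (f31941 IH) (Lpn (LP (LK LD1_c16 LD2_c10 LD3_c45))))))
theorem f34825 : Led Lsl_ft (LP (LK LD1_c8 LD2_c46 LD3_c48)) = (LP (LK LD1_c4 LD2_c24 LD3_c37)) :=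
  Lre_f IH (LK LD1_c8 LD2_c46 LD3_c48) (LK LD1_c4 LD2_c24 LD3_c37) Lrfl Lrfl
theorem f34826 : Led Lsl_ft (LP (LK LD1_c8 LD2_c38 LD3_c21)) = (LP (LK LD1_c16 LD2_c10 LD3_c45)) :=
  Lre_f IH (LK LD1_c8 LD2_c38 LD3_c21) (LK LD1_c16 LD2_c10 LD3_c45) Lrfl Lrfl
theorem f34827 : Led Lsl_dt (LP (LK LD1_c4 LD2_c24 LD3_c37)) = (LP (LK LD1_c8 LD2_c38 LD3_c21)) :=
  Lgr Lrot60 (Lpe (f34825 IH) (Lpr_df (f34817 IH) (Lpe (f34826 IH) (Lpn (LP (LK LD1_c8 LD2_c38 LD3_c21))))))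
theorem f34837 : Led Lsl_at (LP (LK LD1_c8 LD2_c46 LD3_c43)) = (LP (LK LD1_c4 LD2_c24 LD3_c37)) :=
  Lre_a IH (LK LD1_c8 LD2_c46 LD3_c43) (LK LD1_c4 LD2_c24 LD3_c37) Lrfl Lrfl
theorem f34832 : Led Lsl_at (LP (LK LD1_c8 LD2_c38 LD3_c21)) = (LP (LK LD1_c16 LD2_c10 LD3_c36)) :=
  Lre_a IH (LK LD1_c8 LD2_c38 LD3_c21) (LK LD1_c16 LD2_c10 LD3_c36) Lrfl Lrfl
theorem f34838 : Led Lsl_df (LP (LK LD1_c8 LD2_c46 LD3_c43)) = (LP (LK LD1_c16 LD2_c10 LD3_c36)) :=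
  Lgr Lrot18 (Lpr_at (f34837 IH) (Lpr_dt (f34827 IH) (Lpr_at (f34832 IH) (Lpn (LP (LK LD1_c16 LD2_c10 LD3_c36))))))
theorem f36133 : Led Lsl_bt (LP (LK LD1_c8 LD2_c46 LD3_c43)) = (LP (LK LD1_c14 LD2_c59 LD3_c35)) :=
  Lgr Lrot95 (Lpr_df (f34838 IH) (Lpe (f31963 IH) (Lpr_df (f36102 IH) (Lpn (LP (LK LD1_c14 LD2_c59 LD3_c35))))))
theorem f35258 : Led Lsl_et (LP (LK LD1_c4 LD2_c24 LD3_c35)) = (LP (LK LD1_c8 LD2_c46 LD3_c43)) :=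
  Lre_e IH (LK LD1_c4 LD2_c24 LD3_c35) (LK LD1_c8 LD2_c46 LD3_c43) Lrfl Lrfl
theorem f36026 : Led Lsl_et (LP (LK LD1_c14 LD2_c59 LD3_c35)) = (LP (LK LD1_c7 LD2_c56 LD3_c50)) :=
  Lre_e IH (LK LD1_c14 LD2_c59 LD3_c35) (LK LD1_c7 LD2_c56 LD3_c50) Lrfl Lrfl
theorem f36140 : Led Lsl_bf (LP (LK LD1_c4 LD2_c24 LD3_c35)) = (LP (LK LD1_c7 LD2_c56 LD3_c50)) :=
  Lgr Lrot96 (Lpr_et (f35258 IH) (Lpr_bt (f36133 IH) (Lpr_et (f36026 IH) (Lpn (LP (LK LD1_c7 LD2_c56 LD3_c50))))))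
theorem f36142 : Led Lsl_at (LP (LK LD1_c4 LD2_c24 LD3_c35)) = (LP (LK LD1_c2 LD2_c9 LD3_c47)) :=
  Lre_a IH (LK LD1_c4 LD2_c24 LD3_c35) (LK LD1_c2 LD2_c9 LD3_c47) Lrfl Lrfl
theorem f36143 : Led Lsl_bt (LP (LK LD1_c2 LD2_c9 LD3_c47)) = (LP (LK LD1_c1 LD2_c1 LD3_c61)) :=
  Lre_b IH (LK LD1_c2 LD2_c9 LD3_c47) (LK LD1_c1 LD2_c1 LD3_c61) Lrfl Lrfl
theorem f36024 : Led Lsl_at (LP (LK LD1_c3 LD2_c57 LD3_c44)) = (LP (LK LD1_c7 LD2_c56 LD3_c50)) :=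
  Lre_a IH (LK LD1_c3 LD2_c57 LD3_c44) (LK LD1_c7 LD2_c56 LD3_c50) Lrfl Lrfl
theorem f35668 : Led Lsl_bt (LP (LK LD1_c1 LD2_c55 LD3_c38)) = (LP (LK LD1_c3 LD2_c57 LD3_c44)) :=
  Lre_b IH (LK LD1_c1 LD2_c55 LD3_c38) (LK LD1_c3 LD2_c57 LD3_c44) Lrfl Lrfl
theorem f36144 : Led Lsl_at (LP (LK LD1_c1 LD2_c1 LD3_c61)) = (LP (LK LD1_c1 LD2_c55 LD3_c38)) :=
  Lgr Lrot67 (Lpe (f36143 IH) (Lpe (f36142 IH) (Lpr_bf (f36140 IH) (Lpe (f36024 IH) (Lpe (f35668 IH) (Lpn (LP (LK LD1_c1 LD2_c55 LD3_c38))))))))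
theorem f37462 : Led Lsl_ff (LP (LK LD1_c1 LD2_c1 LD3_c61)) = (LP (LK LD1_c1 LD2_c10 LD3_c42)) :=
  Lgr Lrot30 (Lpr_at (f36144 IH) (Lpr_ft (f35816 IH) (Lpr_at (f37452 IH) (Lpn (LP (LK LD1_c1 LD2_c10 LD3_c42))))))
theorem f37470 : Led Lsl_ft (LP (LK LD1_c1 LD2_c1 LD3_c61)) = (LP (LK LD1_c1 LD2_c10 LD3_c42)) :=
  Lgr Lrot48 (Lpr_ff (f37462 IH) (Lpn (LP (LK LD1_c1 LD2_c10 LD3_c42))))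
theorem f34809 : Led Lsl_et (LP (LK LD1_c2 LD2_c9 LD3_c48)) = (LP (LK LD1_c1 LD2_c1 LD3_c61)) :=
  Lre_e IH (LK LD1_c2 LD2_c9 LD3_c48) (LK LD1_c1 LD2_c1 LD3_c61) Lrfl Lrfl
theorem f37331 : Led Lsl_et (LP (LK LD1_c1 LD2_c10 LD3_c42)) = (LP (LK LD1_c2 LD2_c26 LD3_c51)) :=
  Lre_e IH (LK LD1_c1 LD2_c10 LD3_c42) (LK LD1_c2 LD2_c26 LD3_c51) Lrfl Lrfl
theorem f37472 : Led Lsl_ft (LP (LK LD1_c2 LD2_c26 LD3_c51)) = (LP (LK LD1_c4 LD2_c58 LD3_c3)) :=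
  Lre_f IH (LK LD1_c2 LD2_c26 LD3_c51) (LK LD1_c4 LD2_c58 LD3_c3) Lrfl Lrfl
theorem f37473 : Led Lsl_ef (LP (LK LD1_c4 LD2_c24 LD3_c40)) = (LP (LK LD1_c4 LD2_c58 LD3_c3)) :=
  Lgr Lrot21 (Lpr_ft (f34796 IH) (Lpr_et (f34809 IH) (Lpr_ft (f37470 IH) (Lpr_et (f37331 IH) (Lpr_ft (f37472 IH) (Lpn (LP (LK LD1_c4 LD2_c58 LD3_c3))))))))
theorem f37477 : Led Lsl_dt (LP (LK LD1_c9 LD2_c47 LD3_c2)) = (LP (LK LD1_c4 LD2_c58 LD3_c3)) :=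
  Lre_d IH (LK LD1_c9 LD2_c47 LD3_c2) (LK LD1_c4 LD2_c58 LD3_c3) Lrfl Lrfl
theorem f37478 : Led Lsl_et (LP (LK LD1_c17 LD2_c57 LD3_c14)) = (LP (LK LD1_c9 LD2_c47 LD3_c2)) :=
  Lre_e IH (LK LD1_c17 LD2_c57 LD3_c14) (LK LD1_c9 LD2_c47 LD3_c2) Lrfl Lrfl
theorem f37479 : Led Lsl_dt (LP (LK LD1_c16 LD2_c11 LD3_c2)) = (LP (LK LD1_c17 LD2_c57 LD3_c14)) :=
  Lgr Lrot77 (Lpe (K0.f31931 IH) (Lpe (f34814 IH) (Lpr_ef (f37473 IH) (Lpe (f37477 IH) (Lpe (f37478 IH) (Lpn (LP (LK LD1_c17 LD2_c57 LD3_c14))))))))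
theorem f37486 : Led Lsl_ft (LP (LK LD1_c17 LD2_c57 LD3_c14)) = (LP (LK LD1_c9 LD2_c47 LD3_c15)) :=
  Lre_f IH (LK LD1_c17 LD2_c57 LD3_c14) (LK LD1_c9 LD2_c47 LD3_c15) Lrfl Lrfl
theorem f37487 : Led Lsl_df (LP (LK LD1_c8 LD2_c38 LD3_c30)) = (LP (LK LD1_c9 LD2_c47 LD3_c15)) :=
  Lgr Lrot78 (Lpr_ft (K0.f31917 IH) (Lpr_dt (f37479 IH) (Lpr_ft (f37486 IH) (Lpn (LP (LK LD1_c9 LD2_c47 LD3_c15))))))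
theorem f31915 : Led Lsl_et (LP (LK LD1_c8 LD2_c38 LD3_c30)) = (LP (LK LD1_c4 LD2_c20 LD3_c18)) :=
  Lre_e IH (LK LD1_c8 LD2_c38 LD3_c30) (LK LD1_c4 LD2_c20 LD3_c18) Lrfl Lrfl
theorem f37494 : Led Lsl_et (LP (LK LD1_c4 LD2_c58 LD3_c10)) = (LP (LK LD1_c9 LD2_c47 LD3_c15)) :=
  Lre_e IH (LK LD1_c4 LD2_c58 LD3_c10) (LK LD1_c9 LD2_c47 LD3_c15) Lrfl Lrfl
theorem f37495 : Led Lsl_dt (LP (LK LD1_c2 LD2_c26 LD3_c55)) = (LP (LK LD1_c4 LD2_c58 LD3_c10)) :=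
  Lre_d IH (LK LD1_c2 LD2_c26 LD3_c55) (LK LD1_c4 LD2_c58 LD3_c10) Lrfl Lrfl
theorem f37496 : Led Lsl_et (LP (LK LD1_c2 LD2_c7 LD3_c36)) = (LP (LK LD1_c2 LD2_c26 LD3_c55)) :=
  Lgr Lrot71 (Lpe (K0.f31768 IH) (Lpe (f31915 IH) (Lpr_df (f37487 IH) (Lpe (f37494 IH) (Lpe (f37495 IH) (Lpn (LP (LK LD1_c2 LD2_c26 LD3_c55))))))))
theorem f37509 : Led Lsl_ef (LP (LK LD1_c2 LD2_c7 LD3_c36)) = (LP (LK LD1_c2 LD2_c26 LD3_c55)) :=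
  Lgr Lrot88 (Lpr_et (f37496 IH) (Lpn (LP (LK LD1_c2 LD2_c26 LD3_c55))))
theorem f37514 : Led Lsl_ct (LP (LK LD1_c1 LD2_c10 LD3_c45)) = (LP (LK LD1_c2 LD2_c26 LD3_c55)) :=
  Lre_c IH (LK LD1_c1 LD2_c10 LD3_c45) (LK LD1_c2 LD2_c26 LD3_c55) Lrfl Lrfl
theorem f37515 : Led Lsl_et (LP (LK LD1_c1 LD2_c0 LD3_c53)) = (LP (LK LD1_c1 LD2_c10 LD3_c45)) :=
  Lgr Lrot158 (Lpe (K0.f31801 IH) (Lpr_ef (f37509 IH) (Lpe (f37514 IH) (Lpn (LP (LK LD1_c1 LD2_c10 LD3_c45))))))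
theorem f28463 : Led Lsl_et (LP (LK LD1_c0 LD2_c12 LD3_c16)) = (LP (LK LD1_c0 LD2_c5 LD3_c38)) :=
  Lre_e IH (LK LD1_c0 LD2_c12 LD3_c16) (LK LD1_c0 LD2_c5 LD3_c38) Lrfl Lrfl
theorem f28476 : Led Lsl_ft (LP (LK LD1_c0 LD2_c27 LD3_c45)) = (LP (LK LD1_c0 LD2_c12 LD3_c16)) :=
  Lre_f IH (LK LD1_c0 LD2_c27 LD3_c45) (LK LD1_c0 LD2_c12 LD3_c16) Lrfl Lrfl
theorem f28478 : Led Lsl_ef (LP (LK LD1_c0 LD2_c27 LD3_c45)) = (LP (LK LD1_c0 LD2_c27 LD3_c45)) :=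
  Lgr Lrot21 (Lpr_ft (f28476 IH) (Lpr_et (f28463 IH) (Lpr_ft (K0.f28454 IH) (Lpr_et (K0.f28451 IH) (Lpr_ft (K0.f28477 IH) (Lpn (LP (LK LD1_c0 LD2_c27 LD3_c45))))))))
theorem f31765 : Led Lsl_ct (LP (LK LD1_c1 LD2_c0 LD3_c53)) = (LP (LK LD1_c2 LD2_c7 LD3_c36)) :=
  Lre_c IH (LK LD1_c1 LD2_c0 LD3_c53) (LK LD1_c2 LD2_c7 LD3_c36) Lrfl Lrfl
theorem f37506 : Led Lsl_ct (LP (LK LD1_c2 LD2_c26 LD3_c55)) = (LP (LK LD1_c1 LD2_c10 LD3_c45)) :=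
  Lre_c IH (LK LD1_c2 LD2_c26 LD3_c55) (LK LD1_c1 LD2_c10 LD3_c45) Lrfl Lrfl
theorem f37507 : Led Lsl_ef (LP (LK LD1_c1 LD2_c0 LD3_c53)) = (LP (LK LD1_c1 LD2_c10 LD3_c45)) :=
  Lgr Lrot28 (Lpr_ct (f31765 IH) (Lpr_et (f37496 IH) (Lpr_ct (f37506 IH) (Lpn (LP (LK LD1_c1 LD2_c10 LD3_c45))))))
theorem f37525 : Led Lsl_df (LP (LK LD1_c1 LD2_c10 LD3_c45)) = (LP (LK LD1_c1 LD2_c10 LD3_c45)) :=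
  Lgr Lrot70 (Lpe (f37507 IH) (Lpr_dt (K0.f28485 IH) (Lpe (f28478 IH) (Lpr_dt (K0.f28484 IH) (Lpr_et (f37515 IH) (Lpn (LP (LK LD1_c1 LD2_c10 LD3_c45))))))))
theorem f37527 : Led Lsl_ft (LP (LK LD1_c1 LD2_c10 LD3_c45)) = (LP (LK LD1_c0 LD2_c32 LD3_c47)) :=
  Lre_f IH (LK LD1_c1 LD2_c10 LD3_c45) (LK LD1_c0 LD2_c32 LD3_c47) Lrfl Lrfl
theorem f35453 : Led Lsl_et (LP (LK LD1_c0 LD2_c28 LD3_c20)) = (LP (LK LD1_c0 LD2_c12 LD3_c31)) :=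
  Lre_e IH (LK LD1_c0 LD2_c28 LD3_c20) (LK LD1_c0 LD2_c12 LD3_c31) Lrfl Lrfl
theorem f37441 : Led Lsl_et (LP (LK LD1_c0 LD2_c14 LD3_c44)) = (LP (LK LD1_c0 LD2_c32 LD3_c47)) :=
  Lre_e IH (LK LD1_c0 LD2_c14 LD3_c44) (LK LD1_c0 LD2_c32 LD3_c47) Lrfl Lrfl
theorem f37442 : Led Lsl_af (LP (LK LD1_c0 LD2_c28 LD3_c20)) = (LP (LK LD1_c0 LD2_c32 LD3_c47)) :=
  Lgr Lrot50 (Lpr_et (f35453 IH) (Lpr_at (f37428 IH) (Lpr_et (f37441 IH) (Lpn (LP (LK LD1_c0 LD2_c32 LD3_c47))))))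
theorem f35456 : Led Lsl_ct (LP (LK LD1_c1 LD2_c2 LD3_c2)) = (LP (LK LD1_c0 LD2_c28 LD3_c20)) :=
  Lre_c IH (LK LD1_c1 LD2_c2 LD3_c2) (LK LD1_c0 LD2_c28 LD3_c20) Lrfl Lrfl
theorem f35457 : Led Lsl_dt (LP (LK LD1_c2 LD2_c9 LD3_c57)) = (LP (LK LD1_c1 LD2_c2 LD3_c2)) :=
  Lre_d IH (LK LD1_c2 LD2_c9 LD3_c57) (LK LD1_c1 LD2_c2 LD3_c2) Lrfl Lrfl
theorem f35458 : Led Lsl_ct (LP (LK LD1_c4 LD2_c25 LD3_c1)) = (LP (LK LD1_c2 LD2_c9 LD3_c57)) :=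
  Lre_c IH (LK LD1_c4 LD2_c25 LD3_c1) (LK LD1_c2 LD2_c9 LD3_c57) Lrfl Lrfl
theorem f35459 : Led Lsl_dt (LP (LK LD1_c8 LD2_c47 LD3_c40)) = (LP (LK LD1_c4 LD2_c25 LD3_c1)) :=
  Lre_d IH (LK LD1_c8 LD2_c47 LD3_c40) (LK LD1_c4 LD2_c25 LD3_c1) Lrfl Lrfl
theorem f37540 : Led Lsl_ct (LP (LK LD1_c4 LD2_c58 LD3_c10)) = (LP (LK LD1_c8 LD2_c47 LD3_c40)) :=
  Lgr Lrot41 (Lpe (f37495 IH) (Lpe (f37514 IH) (Lpr_df (f37525 IH) (Lpr_ft (f37527 IH) (Lpe (f37442 IH) (Lpe (f35456 IH) (Lpe (f35457 IH) (Lpe (f35458 IH) (Lpe (f35459 IH) (Lpn (LP (LK LD1_c8 LD2_c47 LD3_c40))))))))))))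
theorem f37517 : Led Lsl_dt (LP (LK LD1_c4 LD2_c58 LD3_c10)) = (LP (LK LD1_c2 LD2_c26 LD3_c55)) :=
  Lre_d IH (LK LD1_c4 LD2_c58 LD3_c10) (LK LD1_c2 LD2_c26 LD3_c55) Lrfl Lrfl
theorem f37539 : Led Lsl_ft (LP (LK LD1_c4 LD2_c58 LD3_c10)) = (LP (LK LD1_c2 LD2_c26 LD3_c54)) :=
  Lre_f IH (LK LD1_c4 LD2_c58 LD3_c10) (LK LD1_c2 LD2_c26 LD3_c54) Lrfl Lrfl
theorem f37554 : Led Lsl_at (LP (LK LD1_c2 LD2_c26 LD3_c54)) = (LP (LK LD1_c2 LD2_c9 LD3_c57)) :=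
  Lgr Lrot33 (Lpe (f37539 IH) (Lpr_dt (f37517 IH) (Lpr_ct (f37506 IH) (Lpe (f37525 IH) (Lpr_ct (f37514 IH) (Lpr_dt (f37495 IH) (Lpr_ct (f37540 IH) (Lpr_dt (f35459 IH) (Lpr_ct (f35458 IH) (Lpn (LP (LK LD1_c2 LD2_c9 LD3_c57))))))))))))
theorem f35468 : Led Lsl_ft (LP (LK LD1_c2 LD2_c9 LD3_c57)) = (LP (LK LD1_c4 LD2_c25 LD3_c2)) :=
  Lre_f IH (LK LD1_c2 LD2_c9 LD3_c57) (LK LD1_c4 LD2_c25 LD3_c2) Lrfl Lrfl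
theorem f37570 : Led Lsl_af (LP (LK LD1_c4 LD2_c58 LD3_c10)) = (LP (LK LD1_c4 LD2_c25 LD3_c2)) :=
  Lgr Lrot45 (Lpr_ft (f37539 IH) (Lpr_at (f37554 IH) (Lpr_ft (f35468 IH) (Lpn (LP (LK LD1_c4 LD2_c25 LD3_c2))))))
theorem f35798 : Led Lsl_et (LP (LK LD1_c8 LD2_c47 LD3_c42)) = (LP (LK LD1_c4 LD2_c25 LD3_c2)) :=
  Lre_e IH (LK LD1_c8 LD2_c47 LD3_c42) (LK LD1_c4 LD2_c25 LD3_c2) Lrfl Lrfl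
theorem f37585 : Led Lsl_at (LP (LK LD1_c9 LD2_c47 LD3_c15)) = (LP (LK LD1_c8 LD2_c47 LD3_c42)) :=
  Lgr Lrot80 (Lpe (f37494 IH) (Lpr_af (f37570 IH) (Lpe (f35798 IH) (Lpn (LP (LK LD1_c8 LD2_c47 LD3_c42))))))
theorem f36065 : Led Lsl_ft (LP (LK LD1_c8 LD2_c47 LD3_c42)) = (LP (LK LD1_c16 LD2_c27 LD3_c0)) :=
  Lre_f IH (LK LD1_c8 LD2_c47 LD3_c42) (LK LD1_c16 LD2_c27 LD3_c0) Lrfl Lrfl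
theorem f37598 : Led Lsl_af (LP (LK LD1_c17 LD2_c57 LD3_c14)) = (LP (LK LD1_c16 LD2_c27 LD3_c0)) :=
  Lgr Lrot45 (Lpr_ft (f37486 IH) (Lpr_at (f37585 IH) (Lpr_ft (f36065 IH) (Lpn (LP (LK LD1_c16 LD2_c27 LD3_c0))))))
theorem f35919 : Led Lsl_et (LP (LK LD1_c8 LD2_c47 LD3_c25)) = (LP (LK LD1_c16 LD2_c27 LD3_c0)) :=
  Lre_e IH (LK LD1_c8 LD2_c47 LD3_c25) (LK LD1_c16 LD2_c27 LD3_c0) Lrfl Lrfl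
theorem f37603 : Led Lsl_at (LP (LK LD1_c9 LD2_c47 LD3_c2)) = (LP (LK LD1_c8 LD2_c47 LD3_c25)) :=
  Lgr Lrot80 (Lpe (f37478 IH) (Lpr_af (f37598 IH) (Lpe (f35919 IH) (Lpn (LP (LK LD1_c8 LD2_c47 LD3_c25))))))
theorem f37610 : Led Lsl_ct (LP (LK LD1_c17 LD2_c57 LD3_c13)) = (LP (LK LD1_c9 LD2_c47 LD3_c2)) :=
  Lre_c IH (LK LD1_c17 LD2_c57 LD3_c13) (LK LD1_c9 LD2_c47 LD3_c2) Lrfl Lrfl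
theorem f37611 : Led Lsl_ct (LP (LK LD1_c8 LD2_c47 LD3_c25)) = (LP (LK LD1_c16 LD2_c26 LD3_c61)) :=
  Lre_c IH (LK LD1_c8 LD2_c47 LD3_c25) (LK LD1_c16 LD2_c26 LD3_c61) Lrfl Lrfl
theorem f37612 : Led Lsl_af (LP (LK LD1_c17 LD2_c57 LD3_c13)) = (LP (LK LD1_c16 LD2_c26 LD3_c61)) :=
  Lgr Lrot68 (Lpr_ct (f37610 IH) (Lpr_at (f37603 IH) (Lpr_ct (f37611 IH) (Lpn (LP (LK LD1_c16 LD2_c26 LD3_c61))))))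
theorem f37629 : Led Lsl_ft (LP (LK LD1_c17 LD2_c57 LD3_c13)) = (LP (LK LD1_c9 LD2_c47 LD3_c1)) :=
  Lre_f IH (LK LD1_c17 LD2_c57 LD3_c13) (LK LD1_c9 LD2_c47 LD3_c1) Lrfl Lrfl
theorem f37630 : Led Lsl_ft (LP (LK LD1_c8 LD2_c47 LD3_c24)) = (LP (LK LD1_c16 LD2_c26 LD3_c61)) :=
  Lre_f IH (LK LD1_c8 LD2_c47 LD3_c24) (LK LD1_c16 LD2_c26 LD3_c61) Lrfl Lrfl
theorem f37631 : Led Lsl_at (LP (LK LD1_c9 LD2_c47 LD3_c1)) = (LP (LK LD1_c8 LD2_c47 LD3_c24)) :=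
  Lgr Lrot66 (Lpe (f37629 IH) (Lpr_af (f37612 IH) (Lpe (f37630 IH) (Lpn (LP (LK LD1_c8 LD2_c47 LD3_c24))))))
theorem f37639 : Led Lsl_af (LP (LK LD1_c9 LD2_c47 LD3_c1)) = (LP (LK LD1_c8 LD2_c47 LD3_c24)) :=
  Lgr Lrot0 (Lpr_at (f37631 IH) (Lpn (LP (LK LD1_c8 LD2_c47 LD3_c24))))
theorem f37655 : Led Lsl_et (LP (LK LD1_c9 LD2_c47 LD3_c1)) = (LP (LK LD1_c4 LD2_c58 LD3_c9)) :=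
  Lre_e IH (LK LD1_c9 LD2_c47 LD3_c1) (LK LD1_c4 LD2_c58 LD3_c9) Lrfl Lrfl
theorem f37656 : Led Lsl_et (LP (LK LD1_c4 LD2_c25 LD3_c1)) = (LP (LK LD1_c8 LD2_c47 LD3_c24)) :=
  Lre_e IH (LK LD1_c4 LD2_c25 LD3_c1) (LK LD1_c8 LD2_c47 LD3_c24) Lrfl Lrfl
theorem f37657 : Led Lsl_at (LP (LK LD1_c4 LD2_c58 LD3_c9)) = (LP (LK LD1_c4 LD2_c25 LD3_c1)) :=
  Lgr Lrot80 (Lpe (f37655 IH) (Lpr_af (f37639 IH) (Lpe (f37656 IH) (Lpn (LP (LK LD1_c4 LD2_c25 LD3_c1))))))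
theorem f35463 : Led Lsl_dt (LP (LK LD1_c4 LD2_c25 LD3_c1)) = (LP (LK LD1_c8 LD2_c47 LD3_c40)) :=
  Lre_d IH (LK LD1_c4 LD2_c25 LD3_c1) (LK LD1_c8 LD2_c47 LD3_c40) Lrfl Lrfl
theorem f35488 : Led Lsl_ct (LP (LK LD1_c8 LD2_c47 LD3_c41)) = (LP (LK LD1_c4 LD2_c25 LD3_c2)) :=
  Lre_c IH (LK LD1_c8 LD2_c47 LD3_c41) (LK LD1_c4 LD2_c25 LD3_c2) Lrfl Lrfl
theorem f37583 : Led Lsl_at (LP (LK LD1_c8 LD2_c47 LD3_c40)) = (LP (LK LD1_c8 LD2_c47 LD3_c41)) :=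
  Lgr Lrot107 (Lpe (f37540 IH) (Lpr_af (f37570 IH) (Lpe (f35488 IH) (Lpn (LP (LK LD1_c8 LD2_c47 LD3_c41))))))
theorem f37671 : Led Lsl_df (LP (LK LD1_c4 LD2_c58 LD3_c9)) = (LP (LK LD1_c8 LD2_c47 LD3_c41)) :=
  Lgr Lrot18 (Lpr_at (f37657 IH) (Lpr_dt (f35463 IH) (Lpr_at (f37583 IH) (Lpn (LP (LK LD1_c8 LD2_c47 LD3_c41))))))
theorem f37547 : Led Lsl_ct (LP (LK LD1_c4 LD2_c58 LD3_c9)) = (LP (LK LD1_c2 LD2_c26 LD3_c54)) :=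
  Lre_c IH (LK LD1_c4 LD2_c58 LD3_c9) (LK LD1_c2 LD2_c26 LD3_c54) Lrfl Lrfl
theorem f37682 : Led Lsl_dt (LP (LK LD1_c2 LD2_c26 LD3_c54)) = (LP (LK LD1_c1 LD2_c10 LD3_c43)) :=
  Lre_d IH (LK LD1_c2 LD2_c26 LD3_c54) (LK LD1_c1 LD2_c10 LD3_c43) Lrfl Lrfl
theorem f37683 : Led Lsl_ct (LP (LK LD1_c1 LD2_c10 LD3_c43)) = (LP (LK LD1_c0 LD2_c32 LD3_c47)) :=
  Lre_c IH (LK LD1_c1 LD2_c10 LD3_c43) (LK LD1_c0 LD2_c32 LD3_c47) Lrfl Lrfl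
theorem f35485 : Led Lsl_ct (LP (LK LD1_c4 LD2_c25 LD3_c2)) = (LP (LK LD1_c8 LD2_c47 LD3_c41)) :=
  Lre_c IH (LK LD1_c4 LD2_c25 LD3_c2) (LK LD1_c8 LD2_c47 LD3_c41) Lrfl Lrfl
theorem f35483 : Led Lsl_ct (LP (LK LD1_c1 LD2_c2 LD3_c5)) = (LP (LK LD1_c2 LD2_c9 LD3_c58)) :=
  Lre_c IH (LK LD1_c1 LD2_c2 LD3_c5) (LK LD1_c2 LD2_c9 LD3_c58) Lrfl Lrfl
theorem f35445 : Led Lsl_et (LP (LK LD1_c0 LD2_c12 LD3_c31)) = (LP (LK LD1_c0 LD2_c28 LD3_c20)) :=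
  Lre_e IH (LK LD1_c0 LD2_c12 LD3_c31) (LK LD1_c0 LD2_c28 LD3_c20) Lrfl Lrfl
theorem f35454 : Led Lsl_dt (LP (LK LD1_c0 LD2_c28 LD3_c20)) = (LP (LK LD1_c0 LD2_c28 LD3_c20)) :=
  Lgr Lrot77 (Lpe (f35445 IH) (Lpe (K0.f16638 IH) (Lpr_ef (K0.f35447 IH) (Lpe (f35444 IH) (Lpe (f35453 IH) (Lpn (LP (LK LD1_c0 LD2_c28 LD3_c20))))))))
theorem f35464 : Led Lsl_ft (LP (LK LD1_c1 LD2_c2 LD3_c5)) = (LP (LK LD1_c0 LD2_c28 LD3_c20)) :=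
  Lre_f IH (LK LD1_c1 LD2_c2 LD3_c5) (LK LD1_c0 LD2_c28 LD3_c20) Lrfl Lrfl
theorem f35465 : Led Lsl_ft (LP (LK LD1_c0 LD2_c28 LD3_c20)) = (LP (LK LD1_c1 LD2_c2 LD3_c5)) :=
  Lre_f IH (LK LD1_c0 LD2_c28 LD3_c20) (LK LD1_c1 LD2_c2 LD3_c5) Lrfl Lrfl
theorem f35466 : Led Lsl_df (LP (LK LD1_c1 LD2_c2 LD3_c5)) = (LP (LK LD1_c1 LD2_c2 LD3_c5)) :=
  Lgr Lrot78 (Lpr_ft (f35464 IH) (Lpr_dt (f35454 IH) (Lpr_ft (f35465 IH) (Lpn (LP (LK LD1_c1 LD2_c2 LD3_c5))))))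
theorem f37690 : Led Lsl_af (LP (LK LD1_c0 LD2_c32 LD3_c47)) = (LP (LK LD1_c0 LD2_c28 LD3_c20)) :=
  Lgr Lrot109 (Lpe (f37683 IH) (Lpe (f37682 IH) (Lpe (f37547 IH) (Lpr_df (f37671 IH) (Lpe (f35485 IH) (Lpe (f35484 IH) (Lpe (f35483 IH) (Lpr_df (f35466 IH) (Lpr_ft (f35464 IH) (Lpn (LP (LK LD1_c0 LD2_c28 LD3_c20))))))))))))
theorem f37698 : Led Lsl_bt (LP (LK LD1_c0 LD2_c32 LD3_c47)) = (LP (LK LD1_c0 LD2_c14 LD3_c45)) :=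
  Lre_b IH (LK LD1_c0 LD2_c32 LD3_c47) (LK LD1_c0 LD2_c14 LD3_c45) Lrfl Lrfl
theorem f35619 : Led Lsl_et (LP (LK LD1_c0 LD2_c25 LD3_c6)) = (LP (LK LD1_c0 LD2_c55 LD3_c23)) :=
  Lre_e IH (LK LD1_c0 LD2_c25 LD3_c6) (LK LD1_c0 LD2_c55 LD3_c23) Lrfl Lrfl
theorem f35630 : Led Lsl_bt (LP (LK LD1_c0 LD2_c55 LD3_c23)) = (LP (LK LD1_c0 LD2_c28 LD3_c20)) :=
  Lgr Lrot119 (Lpe (f35619 IH) (Lpr_bf (f35616 IH) (Lpe (f35453 IH) (Lpn (LP (LK LD1_c0 LD2_c28 LD3_c20))))))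
theorem f35614 : Led Lsl_af (LP (LK LD1_c0 LD2_c25 LD3_c6)) = (LP (LK LD1_c0 LD2_c17 LD3_c55)) :=
  Lgr Lrot117 (Lpr_dt (f35599 IH) (Lpr_at (K0.f27211 IH) (Lpr_dt (K0.f27219 IH) (Lpn (LP (LK LD1_c0 LD2_c17 LD3_c55))))))
theorem f27265 : Led Lsl_et (LP (LK LD1_c0 LD2_c39 LD3_c54)) = (LP (LK LD1_c0 LD2_c17 LD3_c55)) :=
  Lre_e IH (LK LD1_c0 LD2_c39 LD3_c54) (LK LD1_c0 LD2_c17 LD3_c55) Lrfl Lrfl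
theorem f35645 : Led Lsl_at (LP (LK LD1_c0 LD2_c55 LD3_c23)) = (LP (LK LD1_c0 LD2_c39 LD3_c54)) :=
  Lgr Lrot80 (Lpe (f35619 IH) (Lpr_af (f35614 IH) (Lpe (f27265 IH) (Lpn (LP (LK LD1_c0 LD2_c39 LD3_c54))))))
theorem f35647 : Led Lsl_af (LP (LK LD1_c0 LD2_c55 LD3_c23)) = (LP (LK LD1_c0 LD2_c39 LD3_c54)) :=
  Lgr Lrot0 (Lpr_at (f35645 IH) (Lpn (LP (LK LD1_c0 LD2_c39 LD3_c54))))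
theorem f27228 : Led Lsl_bt (LP (LK LD1_c0 LD2_c17 LD3_c56)) = (LP (LK LD1_c0 LD2_c39 LD3_c54)) :=
  Lre_b IH (LK LD1_c0 LD2_c17 LD3_c56) (LK LD1_c0 LD2_c39 LD3_c54) Lrfl Lrfl
theorem f37699 : Led Lsl_at (LP (LK LD1_c0 LD2_c14 LD3_c45)) = (LP (LK LD1_c0 LD2_c17 LD3_c56)) :=
  Lgr Lrot67 (Lpe (f37698 IH) (Lpr_af (f37690 IH) (Lpe (f35630 IH) (Lpr_af (f35647 IH) (Lpe (f27228 IH) (Lpn (LP (LK LD1_c0 LD2_c17 LD3_c56))))))))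
theorem f37707 : Led Lsl_ft (LP (LK LD1_c0 LD2_c32 LD3_c50)) = (LP (LK LD1_c0 LD2_c14 LD3_c45)) :=
  Lre_f IH (LK LD1_c0 LD2_c32 LD3_c50) (LK LD1_c0 LD2_c14 LD3_c45) Lrfl Lrfl
theorem f27232 : Led Lsl_ft (LP (LK LD1_c0 LD2_c17 LD3_c56)) = (LP (LK LD1_c0 LD2_c39 LD3_c57)) :=
  Lre_f IH (LK LD1_c0 LD2_c17 LD3_c56) (LK LD1_c0 LD2_c39 LD3_c57) Lrfl Lrfl
theorem f37708 : Led Lsl_af (LP (LK LD1_c0 LD2_c32 LD3_c50)) = (LP (LK LD1_c0 LD2_c39 LD3_c57)) :=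
  Lgr Lrot45 (Lpr_ft (f37707 IH) (Lpr_at (f37699 IH) (Lpr_ft (f27232 IH) (Lpn (LP (LK LD1_c0 LD2_c39 LD3_c57))))))
theorem f37713 : Led Lsl_at (LP (LK LD1_c0 LD2_c32 LD3_c50)) = (LP (LK LD1_c0 LD2_c39 LD3_c57)) :=
  Lgr Lrot100 (Lpr_af (f37708 IH) (Lpn (LP (LK LD1_c0 LD2_c39 LD3_c57))))
theorem f35486 : Led Lsl_ct (LP (LK LD1_c2 LD2_c9 LD3_c58)) = (LP (LK LD1_c1 LD2_c2 LD3_c5)) :=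
  Lre_c IH (LK LD1_c2 LD2_c9 LD3_c58) (LK LD1_c1 LD2_c2 LD3_c5) Lrfl Lrfl
theorem f35805 : Led Lsl_ef (LP (LK LD1_c1 LD2_c1 LD3_c0)) = (LP (LK LD1_c1 LD2_c2 LD3_c5)) :=
  Lgr Lrot28 (Lpr_ct (K0.f28632 IH) (Lpr_et (f35801 IH) (Lpr_ct (f35486 IH) (Lpn (LP (LK LD1_c1 LD2_c2 LD3_c5))))))
theorem f28625 : Led Lsl_dt (LP (LK LD1_c0 LD2_c55 LD3_c6)) = (LP (LK LD1_c1 LD2_c56 LD3_c40)) :=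
  Lre_d IH (LK LD1_c0 LD2_c55 LD3_c6) (LK LD1_c1 LD2_c56 LD3_c40) Lrfl Lrfl
theorem f28626 : Led Lsl_bf (LP (LK LD1_c1 LD2_c1 LD3_c0)) = (LP (LK LD1_c1 LD2_c56 LD3_c40)) :=
  Lgr Lrot93 (Lpr_dt (K0.f28624 IH) (Lpr_bt (K0.f28616 IH) (Lpr_dt (f28625 IH) (Lpn (LP (LK LD1_c1 LD2_c56 LD3_c40))))))
theorem f28630 : Led Lsl_bt (LP (LK LD1_c1 LD2_c1 LD3_c0)) = (LP (LK LD1_c1 LD2_c56 LD3_c40)) :=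
  Lgr Lrot127 (Lpr_bf (f28626 IH) (Lpn (LP (LK LD1_c1 LD2_c56 LD3_c40))))
theorem f35624 : Led Lsl_ft (LP (LK LD1_c1 LD2_c57 LD3_c7)) = (LP (LK LD1_c0 LD2_c55 LD3_c23)) :=
  Lre_f IH (LK LD1_c1 LD2_c57 LD3_c7) (LK LD1_c0 LD2_c55 LD3_c23) Lrfl Lrfl
theorem f35634 : Led Lsl_bf (LP (LK LD1_c1 LD2_c57 LD3_c7)) = (LP (LK LD1_c1 LD2_c2 LD3_c5)) :=
  Lgr Lrot61 (Lpr_ft (f35624 IH) (Lpr_bt (f35630 IH) (Lpr_ft (f35465 IH) (Lpn (LP (LK LD1_c1 LD2_c2 LD3_c5))))))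
theorem f35636 : Led Lsl_bt (LP (LK LD1_c1 LD2_c57 LD3_c7)) = (LP (LK LD1_c1 LD2_c2 LD3_c5)) :=
  Lgr Lrot127 (Lpr_bf (f35634 IH) (Lpn (LP (LK LD1_c1 LD2_c2 LD3_c5))))
theorem f36205 : Led Lsl_et (LP (LK LD1_c1 LD2_c56 LD3_c40)) = (LP (LK LD1_c1 LD2_c57 LD3_c7)) :=
  Lgr Lrot74 (Lpe (f28630 IH) (Lpr_ef (f35805 IH) (Lpe (f35636 IH) (Lpn (LP (LK LD1_c1 LD2_c57 LD3_c7))))))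
theorem f28639 : Led Lsl_dt (LP (LK LD1_c1 LD2_c56 LD3_c40)) = (LP (LK LD1_c0 LD2_c55 LD3_c6)) :=
  Lre_d IH (LK LD1_c1 LD2_c56 LD3_c40) (LK LD1_c0 LD2_c55 LD3_c6) Lrfl Lrfl
theorem f35618 : Led Lsl_et (LP (LK LD1_c0 LD2_c55 LD3_c23)) = (LP (LK LD1_c0 LD2_c25 LD3_c6)) :=
  Lre_e IH (LK LD1_c0 LD2_c55 LD3_c23) (LK LD1_c0 LD2_c25 LD3_c6) Lrfl Lrfl
theorem f35620 : Led Lsl_df (LP (LK LD1_c0 LD2_c55 LD3_c23)) = (LP (LK LD1_c0 LD2_c55 LD3_c23)) :=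
  Lgr Lrot70 (Lpr_et (f35618 IH) (Lpr_dt (f35599 IH) (Lpe (K0.f27224 IH) (Lpe (f34710 IH) (Lpr_et (f35619 IH) (Lpn (LP (LK LD1_c0 LD2_c55 LD3_c23))))))))
theorem f35623 : Led Lsl_ft (LP (LK LD1_c0 LD2_c55 LD3_c23)) = (LP (LK LD1_c1 LD2_c57 LD3_c7)) :=
  Lre_f IH (LK LD1_c0 LD2_c55 LD3_c23) (LK LD1_c1 LD2_c57 LD3_c7) Lrfl Lrfl
theorem f35625 : Led Lsl_dt (LP (LK LD1_c1 LD2_c57 LD3_c7)) = (LP (LK LD1_c1 LD2_c57 LD3_c7)) :=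
  Lgr Lrot60 (Lpe (f35623 IH) (Lpr_df (f35620 IH) (Lpe (f35624 IH) (Lpn (LP (LK LD1_c1 LD2_c57 LD3_c7))))))
theorem f36209 : Led Lsl_ef (LP (LK LD1_c1 LD2_c56 LD3_c40)) = (LP (LK LD1_c1 LD2_c57 LD3_c7)) :=
  Lgr Lrot73 (Lpr_dt (f28639 IH) (Lpe (K0.f31069 IH) (Lpr_dt (f28625 IH) (Lpr_et (f36205 IH) (Lpr_dt (f35625 IH) (Lpn (LP (LK LD1_c1 LD2_c57 LD3_c7))))))))
theorem f31544 : Led Lsl_dt (LP (LK LD1_c1 LD2_c9 LD3_c35)) = (LP (LK LD1_c0 LD2_c32 LD3_c3)) :=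
  Lre_d IH (LK LD1_c1 LD2_c9 LD3_c35) (LK LD1_c0 LD2_c32 LD3_c3) Lrfl Lrfl
theorem f31560 : Led Lsl_af (LP (LK LD1_c1 LD2_c9 LD3_c35)) = (LP (LK LD1_c1 LD2_c56 LD3_c40)) :=
  Lgr Lrot117 (Lpr_dt (f31544 IH) (Lpr_at (K0.f31549 IH) (Lpr_dt (f28625 IH) (Lpn (LP (LK LD1_c1 LD2_c56 LD3_c40))))))
theorem f27256 : Led Lsl_ft (LP (LK LD1_c0 LD2_c39 LD3_c54)) = (LP (LK LD1_c1 LD2_c26 LD3_c21)) :=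
  Lre_f IH (LK LD1_c0 LD2_c39 LD3_c54) (LK LD1_c1 LD2_c26 LD3_c21) Lrfl Lrfl
theorem f35649 : Led Lsl_af (LP (LK LD1_c1 LD2_c57 LD3_c7)) = (LP (LK LD1_c1 LD2_c26 LD3_c21)) :=
  Lgr Lrot45 (Lpr_ft (f35624 IH) (Lpr_at (f35645 IH) (Lpr_ft (f27256 IH) (Lpn (LP (LK LD1_c1 LD2_c26 LD3_c21))))))
theorem f36211 : Led Lsl_et (LP (LK LD1_c1 LD2_c9 LD3_c35)) = (LP (LK LD1_c1 LD2_c26 LD3_c21)) :=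
  Lgr Lrot123 (Lpr_af (f31560 IH) (Lpr_ef (f36209 IH) (Lpr_af (f35649 IH) (Lpn (LP (LK LD1_c1 LD2_c26 LD3_c21))))))
theorem f31583 : Led Lsl_bt (LP (LK LD1_c0 LD2_c32 LD3_c8)) = (LP (LK LD1_c1 LD2_c9 LD3_c35)) :=
  Lre_b IH (LK LD1_c0 LD2_c32 LD3_c8) (LK LD1_c1 LD2_c9 LD3_c35) Lrfl Lrfl
theorem f27247 : Led Lsl_bt (LP (LK LD1_c1 LD2_c26 LD3_c21)) = (LP (LK LD1_c0 LD2_c39 LD3_c57)) :=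
  Lre_b IH (LK LD1_c1 LD2_c26 LD3_c21) (LK LD1_c0 LD2_c39 LD3_c57) Lrfl Lrfl
theorem f36213 : Led Lsl_ef (LP (LK LD1_c0 LD2_c32 LD3_c8)) = (LP (LK LD1_c0 LD2_c39 LD3_c57)) :=
  Lgr Lrot29 (Lpr_bt (f31583 IH) (Lpr_et (f36211 IH) (Lpr_bt (f27247 IH) (Lpn (LP (LK LD1_c0 LD2_c39 LD3_c57))))))
theorem f31656 : Led Lsl_dt (LP (LK LD1_c0 LD2_c32 LD3_c13)) = (LP (LK LD1_c0 LD2_c14 LD3_c26)) :=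
  Lre_d IH (LK LD1_c0 LD2_c32 LD3_c13) (LK LD1_c0 LD2_c14 LD3_c26) Lrfl Lrfl
theorem f31556 : Led Lsl_dt (LP (LK LD1_c0 LD2_c14 LD3_c22)) = (LP (LK LD1_c0 LD2_c32 LD3_c8)) :=
  Lre_d IH (LK LD1_c0 LD2_c14 LD3_c22) (LK LD1_c0 LD2_c32 LD3_c8) Lrfl Lrfl
theorem f31657 : Led Lsl_af (LP (LK LD1_c0 LD2_c32 LD3_c13)) = (LP (LK LD1_c0 LD2_c32 LD3_c8)) :=
  Lgr Lrot117 (Lpr_dt (f31656 IH) (Lpr_at (K0.f31613 IH) (Lpr_dt (f31556 IH) (Lpn (LP (LK LD1_c0 LD2_c32 LD3_c8))))))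
theorem f37717 : Led Lsl_ef (LP (LK LD1_c0 LD2_c32 LD3_c50)) = (LP (LK LD1_c0 LD2_c32 LD3_c13)) :=
  Lgr Lrot20 (Lpr_at (f37713 IH) (Lpe (f36213 IH) (Lpe (f31657 IH) (Lpn (LP (LK LD1_c0 LD2_c32 LD3_c13))))))
theorem f37723 : Led Lsl_et (LP (LK LD1_c0 LD2_c14 LD3_c45)) = (LP (LK LD1_c0 LD2_c6 LD3_c46)) :=
  Lre_e IH (LK LD1_c0 LD2_c14 LD3_c45) (LK LD1_c0 LD2_c6 LD3_c46) Lrfl Lrfl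
theorem f31671 : Led Lsl_ft (LP (LK LD1_c0 LD2_c14 LD3_c25)) = (LP (LK LD1_c0 LD2_c32 LD3_c13)) :=
  Lre_f IH (LK LD1_c0 LD2_c14 LD3_c25) (LK LD1_c0 LD2_c32 LD3_c13) Lrfl Lrfl
theorem f28315 : Led Lsl_dt (LP (LK LD1_c0 LD2_c14 LD3_c25)) = (LP (LK LD1_c0 LD2_c6 LD3_c38)) :=
  Lre_d IH (LK LD1_c0 LD2_c14 LD3_c25) (LK LD1_c0 LD2_c6 LD3_c38) Lrfl Lrfl
theorem f28316 : Led Lsl_et (LP (LK LD1_c0 LD2_c7 LD3_c51)) = (LP (LK LD1_c0 LD2_c14 LD3_c25)) :=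
  Lgr Lrot71 (Lpe (K0.f8141 IH) (Lpe (K0.f8164 IH) (Lpr_df (K0.f28229 IH) (Lpe (K0.f7019 IH) (Lpe (f28315 IH) (Lpn (LP (LK LD1_c0 LD2_c14 LD3_c25))))))))
theorem f37724 : Led Lsl_ft (LP (LK LD1_c0 LD2_c6 LD3_c46)) = (LP (LK LD1_c0 LD2_c7 LD3_c51)) :=
  Lgr Lrot86 (Lpe (f37723 IH) (Lpe (f37707 IH) (Lpr_ef (f37717 IH) (Lpe (f31671 IH) (Lpe (f28316 IH) (Lpn (LP (LK LD1_c0 LD2_c7 LD3_c51))))))))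
theorem f7031 : Led Lsl_gt (LP (LK LD1_c0 LD2_c3 LD3_c4)) = (LP (LK LD1_c0 LD2_c6 LD3_c45)) :=
  Lre_g IH (LK LD1_c0 LD2_c3 LD3_c4) (LK LD1_c0 LD2_c6 LD3_c45) Lrfl Lrfl
theorem f37730 : Led Lsl_af (LP (LK LD1_c0 LD2_c6 LD3_c45)) = (LP (LK LD1_c0 LD2_c7 LD3_c51)) :=
  Lgr Lrot31 (Lpe (f7031 IH) (Lpe (K0.f7018 IH) (Lpr_ft (f37724 IH) (Lpn (LP (LK LD1_c0 LD2_c7 LD3_c51))))))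
theorem f27270 : Led Lsl_et (LP (LK LD1_c0 LD2_c6 LD3_c46)) = (LP (LK LD1_c0 LD2_c14 LD3_c45)) :=
  Lre_e IH (LK LD1_c0 LD2_c6 LD3_c46) (LK LD1_c0 LD2_c14 LD3_c45) Lrfl Lrfl
theorem f27204 : Led Lsl_et (LP (LK LD1_c0 LD2_c17 LD3_c56)) = (LP (LK LD1_c0 LD2_c8 LD3_c2)) :=
  Lre_e IH (LK LD1_c0 LD2_c17 LD3_c56) (LK LD1_c0 LD2_c8 LD3_c2) Lrfl Lrfl
theorem f37705 : Led Lsl_af (LP (LK LD1_c0 LD2_c6 LD3_c46)) = (LP (LK LD1_c0 LD2_c8 LD3_c2)) :=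
  Lgr Lrot50 (Lpr_et (f27270 IH) (Lpr_at (f37699 IH) (Lpr_et (f27204 IH) (Lpn (LP (LK LD1_c0 LD2_c8 LD3_c2))))))
theorem f37741 : Led Lsl_ft (LP (LK LD1_c0 LD2_c6 LD3_c45)) = (LP (LK LD1_c0 LD2_c8 LD3_c2)) :=
  Lgr Lrot101 (Lpr_af (f37730 IH) (Lpe (f37724 IH) (Lpr_af (f37705 IH) (Lpn (LP (LK LD1_c0 LD2_c8 LD3_c2))))))
theorem f37748 : Led Lsl_ff (LP (LK LD1_c0 LD2_c6 LD3_c45)) = (LP (LK LD1_c0 LD2_c8 LD3_c2)) :=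
  Lgr Lrot3 (Lpr_ft (f37741 IH) (Lpn (LP (LK LD1_c0 LD2_c8 LD3_c2))))
theorem f37732 : Led Lsl_at (LP (LK LD1_c0 LD2_c6 LD3_c45)) = (LP (LK LD1_c0 LD2_c7 LD3_c51)) :=
  Lgr Lrot100 (Lpr_af (f37730 IH) (Lpn (LP (LK LD1_c0 LD2_c7 LD3_c51))))
theorem f37752 : Led Lsl_gf (LP (LK LD1_c0 LD2_c7 LD3_c51)) = (LP (LK LD1_c0 LD2_c5 LD3_c9)) :=
  Lgr Lrot76 (Lpe (f37732 IH) (Lpr_ff (f37748 IH) (Lpe (K0.f27193 IH) (Lpn (LP (LK LD1_c0 LD2_c5 LD3_c9))))))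
theorem f37756 : Led Lsl_gt (LP (LK LD1_c0 LD2_c39 LD3_c53)) = (LP (LK LD1_c0 LD2_c24 LD3_c39)) :=
  Lgr Lrot65 (Lpe (f27220 IH) (Lpr_bt (f34723 IH) (Lpr_gf (K0.f26021 IH) (Lpe (K0.f26592 IH) (Lpr_ct (K0.f20542 IH) (Lpe (K0.f25181 IH) (Lpe (K0.f26600 IH) (Lpr_gf (f37752 IH) (Lpe (f35547 IH) (Lpr_ct (f35548 IH) (Lpn (LP (LK LD1_c0 LD2_c24 LD3_c39)))))))))))))
theorem f35540 : Led Lsl_ft (LP (LK LD1_c0 LD2_c28 LD3_c25)) = (LP (LK LD1_c0 LD2_c12 LD3_c32)) :=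
  Lre_f IH (LK LD1_c0 LD2_c28 LD3_c25) (LK LD1_c0 LD2_c12 LD3_c32) Lrfl Lrfl
theorem f37764 : Led Lsl_at (LP (LK LD1_c0 LD2_c12 LD3_c32)) = (LP (LK LD1_c0 LD2_c24 LD3_c39)) :=
  Lgr Lrot26 (Lpe (f35540 IH) (Lpr_gt (f35533 IH) (Lpr_gt (f37756 IH) (Lpn (LP (LK LD1_c0 LD2_c24 LD3_c39))))))
theorem f16616 : Led Lsl_dt (LP (LK LD1_c0 LD2_c28 LD3_c25)) = (LP (LK LD1_c1 LD2_c2 LD3_c19)) :=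
  Lre_d IH (LK LD1_c0 LD2_c28 LD3_c25) (LK LD1_c1 LD2_c2 LD3_c19) Lrfl Lrfl
theorem f36297 : Led Lsl_dt (LP (LK LD1_c0 LD2_c10 LD3_c59)) = (LP (LK LD1_c0 LD2_c5 LD3_c6)) :=
  Lre_d IH (LK LD1_c0 LD2_c10 LD3_c59) (LK LD1_c0 LD2_c5 LD3_c6) Lrfl Lrfl
theorem f35590 : Led Lsl_ct (LP (LK LD1_c0 LD2_c24 LD3_c39)) = (LP (LK LD1_c0 LD2_c10 LD3_c59)) :=
  Lre_c IH (LK LD1_c0 LD2_c24 LD3_c39) (LK LD1_c0 LD2_c10 LD3_c59) Lrfl Lrfl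
theorem f36293 : Led Lsl_dt (LP (LK LD1_c0 LD2_c54 LD3_c36)) = (LP (LK LD1_c0 LD2_c24 LD3_c39)) :=
  Lre_d IH (LK LD1_c0 LD2_c54 LD3_c36) (LK LD1_c0 LD2_c24 LD3_c39) Lrfl Lrfl
theorem f37875 : Led Lsl_ct (LP (LK LD1_c1 LD2_c2 LD3_c19)) = (LP (LK LD1_c0 LD2_c54 LD3_c36)) :=
  Lgr Lrot133 (Lpe (f16616 IH) (Lpr_ft (f35540 IH) (Lpr_at (f37764 IH) (Lpe (f35548 IH) (Lpe (f28522 IH) (Lpr_cf (f28505 IH) (Lpe (f36297 IH) (Lpe (f35590 IH) (Lpe (f36293 IH) (Lpn (LP (LK LD1_c0 LD2_c54 LD3_c36))))))))))))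
theorem f16652 : Led Lsl_dt (LP (LK LD1_c0 LD2_c12 LD3_c33)) = (LP (LK LD1_c0 LD2_c5 LD3_c45)) :=
  Lre_d IH (LK LD1_c0 LD2_c12 LD3_c33) (LK LD1_c0 LD2_c5 LD3_c45) Lrfl Lrfl
theorem f16654 : Led Lsl_ft (LP (LK LD1_c0 LD2_c12 LD3_c33)) = (LP (LK LD1_c0 LD2_c5 LD3_c44)) :=
  Lre_f IH (LK LD1_c0 LD2_c12 LD3_c33) (LK LD1_c0 LD2_c5 LD3_c44) Lrfl Lrfl
theorem f37890 : Led Lsl_at (LP (LK LD1_c0 LD2_c5 LD3_c44)) = (LP (LK LD1_c0 LD2_c10 LD3_c59)) :=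
  Lgr Lrot33 (Lpe (f16654 IH) (Lpr_dt (f16652 IH) (Lpe (f16632 IH) (Lpr_dt (f16651 IH) (Lpr_ct (f8345 IH) (Lpr_dt (f16616 IH) (Lpr_ct (f37875 IH) (Lpr_dt (f36293 IH) (Lpr_ct (f35590 IH) (Lpn (LP (LK LD1_c0 LD2_c10 LD3_c59))))))))))))
theorem f37903 : Led Lsl_gt (LP (LK LD1_c0 LD2_c14 LD3_c44)) = (LP (LK LD1_c0 LD2_c10 LD3_c59)) :=
  Lgr Lrot46 (Lpe (f37384 IH) (Lpr_ft (f16654 IH) (Lpr_at (f37890 IH) (Lpn (LP (LK LD1_c0 LD2_c10 LD3_c59))))))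
theorem f37431 : Led Lsl_bt (LP (LK LD1_c0 LD2_c6 LD3_c46)) = (LP (LK LD1_c0 LD2_c14 LD3_c44)) :=
  Lre_b IH (LK LD1_c0 LD2_c6 LD3_c46) (LK LD1_c0 LD2_c14 LD3_c44) Lrfl Lrfl
theorem f35579 : Led Lsl_bt (LP (LK LD1_c0 LD2_c5 LD3_c58)) = (LP (LK LD1_c0 LD2_c12 LD3_c33)) :=
  Lre_b IH (LK LD1_c0 LD2_c5 LD3_c58) (LK LD1_c0 LD2_c12 LD3_c33) Lrfl Lrfl
theorem f8317 : Led Lsl_ct (LP (LK LD1_c0 LD2_c5 LD3_c58)) = (LP (LK LD1_c0 LD2_c13 LD3_c4)) :=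
  Lre_c IH (LK LD1_c0 LD2_c5 LD3_c58) (LK LD1_c0 LD2_c13 LD3_c4) Lrfl Lrfl
theorem f37912 : Led Lsl_ct (LP (LK LD1_c0 LD2_c6 LD3_c46)) = (LP (LK LD1_c0 LD2_c7 LD3_c38)) :=
  Lgr Lrot10 (Lpr_bt (f37431 IH) (Lpr_gt (f37903 IH) (Lpr_ct (f35548 IH) (Lpr_gt (f35549 IH) (Lpe (f36931 IH) (Lpr_bt (f36923 IH) (Lpe (f35541 IH) (Lpe (f35579 IH) (Lpr_ct (f8317 IH) (Lpr_gt (K0.f8318 IH) (Lpn (LP (LK LD1_c0 LD2_c7 LD3_c38)))))))))))))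
theorem f37329 : Led Lsl_bt (LP (LK LD1_c0 LD2_c1 LD3_c24)) = (LP (LK LD1_c0 LD2_c3 LD3_c4)) :=
  Lre_b IH (LK LD1_c0 LD2_c1 LD3_c24) (LK LD1_c0 LD2_c3 LD3_c4) Lrfl Lrfl
theorem f37939 : Led Lsl_cf (LP (LK LD1_c0 LD2_c7 LD3_c37)) = (LP (LK LD1_c0 LD2_c6 LD3_c45)) :=
  Lgr Lrot125 (Lpr_gt (K0.f22453 IH) (Lpe (f8317 IH) (Lpr_bt (f35579 IH) (Lpr_gt (f37384 IH) (Lpe (f37431 IH) (Lpr_ct (f37912 IH) (Lpr_gt (K0.f23902 IH) (Lpe (K0.f8326 IH) (Lpr_bt (f37329 IH) (Lpr_gt (f7031 IH) (Lpn (LP (LK LD1_c0 LD2_c6 LD3_c45)))))))))))))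
theorem f37734 : Led Lsl_bt (LP (LK LD1_c0 LD2_c6 LD3_c45)) = (LP (LK LD1_c0 LD2_c14 LD3_c43)) :=
  Lre_b IH (LK LD1_c0 LD2_c6 LD3_c45) (LK LD1_c0 LD2_c14 LD3_c43) Lrfl Lrfl
theorem f37960 : Led Lsl_gf (LP (LK LD1_c0 LD2_c18 LD3_c11)) = (LP (LK LD1_c0 LD2_c14 LD3_c43)) :=
  Lgr Lrot181 (Lpr_ct (f24964 IH) (Lpr_gt (f37320 IH) (Lpe (f37319 IH) (Lpr_bt (f37318 IH) (Lpr_gt (K0.f7018 IH) (Lpe (f37329 IH) (Lpr_ct (K0.f8326 IH) (Lpr_gt (K0.f8327 IH) (Lpr_cf (f37939 IH) (Lpr_bt (f37734 IH) (Lpn (LP (LK LD1_c0 LD2_c14 LD3_c43)))))))))))))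
theorem f37970 : Led Lsl_bf (LP (LK LD1_c0 LD2_c18 LD3_c11)) = (LP (LK LD1_c0 LD2_c16 LD3_c47)) :=
  Lgr Lrot34 (Lpr_gf (f37960 IH) (Lpe (f37734 IH) (Lpe (f37939 IH) (Lpe (K0.f8327 IH) (Lpe (K0.f8326 IH) (Lpe (K0.f248 IH) (Lpe (K0.f24207 IH) (Lpr_ct (f34679 IH) (Lpe (f37312 IH) (Lpe (f37125 IH) (Lpn (LP (LK LD1_c0 LD2_c16 LD3_c47)))))))))))))
theorem f37750 : Led Lsl_ft (LP (LK LD1_c0 LD2_c14 LD3_c43)) = (LP (LK LD1_c0 LD2_c17 LD3_c55)) :=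
  Lgr Lrot75 (Lpe (f37734 IH) (Lpr_ff (f37748 IH) (Lpe (f34723 IH) (Lpn (LP (LK LD1_c0 LD2_c17 LD3_c55))))))
theorem f37962 : Led Lsl_gt (LP (LK LD1_c0 LD2_c18 LD3_c11)) = (LP (LK LD1_c0 LD2_c25 LD3_c6)) :=
  Lgr Lrot46 (Lpr_gf (f37960 IH) (Lpr_ft (f37750 IH) (Lpe (f35614 IH) (Lpn (LP (LK LD1_c0 LD2_c25 LD3_c6))))))
theorem f37984 : Led Lsl_gt (LP (LK LD1_c0 LD2_c29 LD3_c24)) = (LP (LK LD1_c0 LD2_c37 LD3_c41)) :=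
  Lgr Lrot149 (Lpe (K0.f26576 IH) (Lpr_gf (f37282 IH) (Lpr_bf (f2950 IH) (Lpr_ct (K0.f2954 IH) (Lpr_gf (f35818 IH) (Lpe (f35437 IH) (Lpe (f35616 IH) (Lpe (f37962 IH) (Lpr_bf (f37970 IH) (Lpr_ct (f37125 IH) (Lpn (LP (LK LD1_c0 LD2_c37 LD3_c41)))))))))))))
theorem f20308 : Led Lsl_bt (LP (LK LD1_c0 LD2_c5 LD3_c44)) = (LP (LK LD1_c0 LD2_c2 LD3_c40)) :=
  Lre_b IH (LK LD1_c0 LD2_c5 LD3_c44) (LK LD1_c0 LD2_c2 LD3_c40) Lrfl Lrfl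
theorem f16641 : Led Lsl_gt (LP (LK LD1_c0 LD2_c28 LD3_c22)) = (LP (LK LD1_c0 LD2_c12 LD3_c32)) :=
  Lre_g IH (LK LD1_c0 LD2_c28 LD3_c22) (LK LD1_c0 LD2_c12 LD3_c32) Lrfl Lrfl
theorem f37987 : Led Lsl_cf (LP (LK LD1_c0 LD2_c28 LD3_c22)) = (LP (LK LD1_c0 LD2_c25 LD3_c6)) :=
  Lgr Lrot125 (Lpr_gt (f16641 IH) (Lpe (K0.f16622 IH) (Lpr_bt (f20308 IH) (Lpr_gt (K0.f6857 IH) (Lpe (K0.f6723 IH) (Lpr_ct (K0.f26576 IH) (Lpr_gt (f37984 IH) (Lpe (f37125 IH) (Lpe (f37970 IH) (Lpr_gt (f37962 IH) (Lpn (LP (LK LD1_c0 LD2_c25 LD3_c6)))))))))))))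
theorem f37996 : Led Lsl_dt (LP (LK LD1_c0 LD2_c28 LD3_c22)) = (LP (LK LD1_c1 LD2_c2 LD3_c9)) :=
  Lre_d IH (LK LD1_c0 LD2_c28 LD3_c22) (LK LD1_c1 LD2_c2 LD3_c9) Lrfl Lrfl
theorem f35906 : Led Lsl_ff (LP (LK LD1_c1 LD2_c55 LD3_c38)) = (LP (LK LD1_c1 LD2_c2 LD3_c1)) :=
  Lgr Lrot3 (Lpr_ft (f35816 IH) (Lpn (LP (LK LD1_c1 LD2_c2 LD3_c1))))
theorem f34744 : Led Lsl_dt (LP (LK LD1_c1 LD2_c1 LD3_c61)) = (LP (LK LD1_c0 LD2_c28 LD3_c17)) :=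
  Lre_d IH (LK LD1_c1 LD2_c1 LD3_c61) (LK LD1_c0 LD2_c28 LD3_c17) Lrfl Lrfl
theorem f35770 : Led Lsl_af (LP (LK LD1_c1 LD2_c1 LD3_c61)) = (LP (LK LD1_c1 LD2_c55 LD3_c38)) :=
  Lgr Lrot117 (Lpr_dt (f34744 IH) (Lpr_at (f35763 IH) (Lpr_dt (f35598 IH) (Lpn (LP (LK LD1_c1 LD2_c55 LD3_c38))))))
theorem f38002 : Led Lsl_ct (LP (LK LD1_c1 LD2_c2 LD3_c9)) = (LP (LK LD1_c1 LD2_c1 LD3_c61)) :=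
  Lgr Lrot98 (Lpe (f37996 IH) (Lpr_cf (f37987 IH) (Lpr_df (f34710 IH) (Lpe (K0.f35442 IH) (Lpe (f35444 IH) (Lpe (f35439 IH) (Lpe (f35438 IH) (Lpe (f35906 IH) (Lpe (f35770 IH) (Lpn (LP (LK LD1_c1 LD2_c1 LD3_c61))))))))))))
theorem f37448 : Led Lsl_cf (LP (LK LD1_c1 LD2_c55 LD3_c40)) = (LP (LK LD1_c1 LD2_c10 LD3_c42)) :=
  Lgr Lrot11 (Lpr_ct (f37446 IH) (Lpn (LP (LK LD1_c1 LD2_c10 LD3_c42))))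
theorem f38241 : Led Lsl_ff (LP (LK LD1_c1 LD2_c2 LD3_c9)) = (LP (LK LD1_c1 LD2_c55 LD3_c40)) :=
  Lgr Lrot23 (Lpr_ct (f38002 IH) (Lpr_ft (f37470 IH) (Lpe (f37448 IH) (Lpn (LP (LK LD1_c1 LD2_c55 LD3_c40))))))
theorem f35657 : Led Lsl_dt (LP (LK LD1_c1 LD2_c55 LD3_c40)) = (LP (LK LD1_c0 LD2_c54 LD3_c34)) :=
  Lre_d IH (LK LD1_c1 LD2_c55 LD3_c40) (LK LD1_c0 LD2_c54 LD3_c34) Lrfl Lrfl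
theorem f36936 : Led Lsl_cf (LP (LK LD1_c0 LD2_c24 LD3_c61)) = (LP (LK LD1_c0 LD2_c54 LD3_c34)) :=
  Lgr Lrot11 (Lpr_ct (f36931 IH) (Lpn (LP (LK LD1_c0 LD2_c54 LD3_c34))))
theorem f36917 : Led Lsl_dt (LP (LK LD1_c0 LD2_c24 LD3_c61)) = (LP (LK LD1_c0 LD2_c17 LD3_c24)) :=
  Lgr Lrot6 (Lpr_gt (f36913 IH) (Lpr_ct (f29331 IH) (Lpr_gt (f35820 IH) (Lpr_ct (f35439 IH) (Lpe (K0.f16638 IH) (Lpe (K0.f35451 IH) (Lpr_gf (f34692 IH) (Lpr_cf (K0.f8219 IH) (Lpr_gf (K0.f35382 IH) (Lpn (LP (LK LD1_c0 LD2_c17 LD3_c24))))))))))))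
theorem f27221 : Led Lsl_dt (LP (LK LD1_c0 LD2_c39 LD3_c53)) = (LP (LK LD1_c1 LD2_c26 LD3_c18)) :=
  Lre_d IH (LK LD1_c0 LD2_c39 LD3_c53) (LK LD1_c1 LD2_c26 LD3_c18) Lrfl Lrfl
theorem f35588 : Led Lsl_ct (LP (LK LD1_c1 LD2_c26 LD3_c18)) = (LP (LK LD1_c1 LD2_c55 LD3_c38)) :=
  Lgr Lrot41 (Lpe (f27221 IH) (Lpe (f27220 IH) (Lpe (K0.f27219 IH) (Lpr_ft (K0.f27209 IH) (Lpr_at (K0.f8182 IH) (Lpe (K0.f9588 IH) (Lpr_df (f35574 IH) (Lpe (f35572 IH) (Lpe (f35583 IH) (Lpn (LP (LK LD1_c1 LD2_c55 LD3_c38))))))))))))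
theorem f35670 : Led Lsl_cf (LP (LK LD1_c1 LD2_c26 LD3_c18)) = (LP (LK LD1_c1 LD2_c55 LD3_c38)) :=
  Lgr Lrot11 (Lpr_ct (f35588 IH) (Lpn (LP (LK LD1_c1 LD2_c55 LD3_c38))))
theorem f38259 : Led Lsl_at (LP (LK LD1_c1 LD2_c2 LD3_c9)) = (LP (LK LD1_c1 LD2_c26 LD3_c18)) :=
  Lgr Lrot33 (Lpr_ff (f38241 IH) (Lpr_dt (f35657 IH) (Lpe (f36936 IH) (Lpr_dt (f36917 IH) (Lpr_ct (K0.f35509 IH) (Lpe (f35429 IH) (Lpr_ct (f35573 IH) (Lpr_dt (f35598 IH) (Lpe (f35670 IH) (Lpn (LP (LK LD1_c1 LD2_c26 LD3_c18))))))))))))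
theorem f38238 : Led Lsl_et (LP (LK LD1_c2 LD2_c10 LD3_c7)) = (LP (LK LD1_c1 LD2_c2 LD3_c9)) :=
  Lre_e IH (LK LD1_c2 LD2_c10 LD3_c7) (LK LD1_c1 LD2_c2 LD3_c9) Lrfl Lrfl
theorem f35555 : Led Lsl_et (LP (LK LD1_c1 LD2_c26 LD3_c18)) = (LP (LK LD1_c3 LD2_c0 LD3_c59)) :=
  Lre_e IH (LK LD1_c1 LD2_c26 LD3_c18) (LK LD1_c3 LD2_c0 LD3_c59) Lrfl Lrfl
theorem f38264 : Led Lsl_af (LP (LK LD1_c2 LD2_c10 LD3_c7)) = (LP (LK LD1_c3 LD2_c0 LD3_c59)) :=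
  Lgr Lrot50 (Lpr_et (f38238 IH) (Lpr_at (f38259 IH) (Lpr_et (f35555 IH) (Lpn (LP (LK LD1_c3 LD2_c0 LD3_c59))))))
theorem f38253 : Led Lsl_ft (LP (LK LD1_c2 LD2_c10 LD3_c7)) = (LP (LK LD1_c4 LD2_c25 LD3_c33)) :=
  Lre_f IH (LK LD1_c2 LD2_c10 LD3_c7) (LK LD1_c4 LD2_c25 LD3_c33) Lrfl Lrfl
theorem f35746 : Led Lsl_ft (LP (LK LD1_c6 LD2_c9 LD3_c14)) = (LP (LK LD1_c3 LD2_c0 LD3_c59)) :=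
  Lre_f IH (LK LD1_c6 LD2_c9 LD3_c14) (LK LD1_c3 LD2_c0 LD3_c59) Lrfl Lrfl
theorem f38279 : Led Lsl_at (LP (LK LD1_c4 LD2_c25 LD3_c33)) = (LP (LK LD1_c6 LD2_c9 LD3_c14)) :=
  Lgr Lrot66 (Lpe (f38253 IH) (Lpr_af (f38264 IH) (Lpe (f35746 IH) (Lpn (LP (LK LD1_c6 LD2_c9 LD3_c14))))))
theorem f38297 : Led Lsl_dt (LP (LK LD1_c8 LD2_c48 LD3_c39)) = (LP (LK LD1_c4 LD2_c25 LD3_c33)) :=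
  Lre_d IH (LK LD1_c8 LD2_c48 LD3_c39) (LK LD1_c4 LD2_c25 LD3_c33) Lrfl Lrfl
theorem f35745 : Led Lsl_dt (LP (LK LD1_c6 LD2_c9 LD3_c14)) = (LP (LK LD1_c11 LD2_c59 LD3_c37)) :=
  Lre_d IH (LK LD1_c6 LD2_c9 LD3_c14) (LK LD1_c11 LD2_c59 LD3_c37) Lrfl Lrfl
theorem f38298 : Led Lsl_af (LP (LK LD1_c8 LD2_c48 LD3_c39)) = (LP (LK LD1_c11 LD2_c59 LD3_c37)) :=
  Lgr Lrot117 (Lpr_dt (f38297 IH) (Lpr_at (f38279 IH) (Lpr_dt (f35745 IH) (Lpn (LP (LK LD1_c11 LD2_c59 LD3_c37))))))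
theorem f38314 : Led Lsl_et (LP (LK LD1_c8 LD2_c48 LD3_c39)) = (LP (LK LD1_c16 LD2_c28 LD3_c59)) :=
  Lre_e IH (LK LD1_c8 LD2_c48 LD3_c39) (LK LD1_c16 LD2_c28 LD3_c59) Lrfl Lrfl
theorem f38315 : Led Lsl_et (LP (LK LD1_c21 LD2_c4 LD3_c19)) = (LP (LK LD1_c11 LD2_c59 LD3_c37)) :=
  Lre_e IH (LK LD1_c21 LD2_c4 LD3_c19) (LK LD1_c11 LD2_c59 LD3_c37) Lrfl Lrfl
theorem f38316 : Led Lsl_at (LP (LK LD1_c16 LD2_c28 LD3_c59)) = (LP (LK LD1_c21 LD2_c4 LD3_c19)) :=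
  Lgr Lrot80 (Lpe (f38314 IH) (Lpr_af (f38298 IH) (Lpe (f38315 IH) (Lpn (LP (LK LD1_c21 LD2_c4 LD3_c19))))))
theorem f38327 : Led Lsl_ft (LP (LK LD1_c8 LD2_c48 LD3_c49)) = (LP (LK LD1_c16 LD2_c28 LD3_c59)) :=
  Lre_f IH (LK LD1_c8 LD2_c48 LD3_c49) (LK LD1_c16 LD2_c28 LD3_c59) Lrfl Lrfl
theorem f38328 : Led Lsl_ft (LP (LK LD1_c21 LD2_c4 LD3_c19)) = (LP (LK LD1_c11 LD2_c59 LD3_c40)) :=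
  Lre_f IH (LK LD1_c21 LD2_c4 LD3_c19) (LK LD1_c11 LD2_c59 LD3_c40) Lrfl Lrfl
theorem f38329 : Led Lsl_af (LP (LK LD1_c8 LD2_c48 LD3_c49)) = (LP (LK LD1_c11 LD2_c59 LD3_c40)) :=
  Lgr Lrot45 (Lpr_ft (f38327 IH) (Lpr_at (f38316 IH) (Lpr_ft (f38328 IH) (Lpn (LP (LK LD1_c11 LD2_c59 LD3_c40))))))
theorem f38337 : Led Lsl_et (LP (LK LD1_c8 LD2_c48 LD3_c49)) = (LP (LK LD1_c4 LD2_c25 LD3_c37)) :=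
  Lre_e IH (LK LD1_c8 LD2_c48 LD3_c49) (LK LD1_c4 LD2_c25 LD3_c37) Lrfl Lrfl
theorem f38338 : Led Lsl_et (LP (LK LD1_c6 LD2_c9 LD3_c17)) = (LP (LK LD1_c11 LD2_c59 LD3_c40)) :=
  Lre_e IH (LK LD1_c6 LD2_c9 LD3_c17) (LK LD1_c11 LD2_c59 LD3_c40) Lrfl Lrfl
theorem f38339 : Led Lsl_at (LP (LK LD1_c4 LD2_c25 LD3_c37)) = (LP (LK LD1_c6 LD2_c9 LD3_c17)) :=
  Lgr Lrot80 (Lpe (f38337 IH) (Lpr_af (f38329 IH) (Lpe (f38338 IH) (Lpn (LP (LK LD1_c6 LD2_c9 LD3_c17))))))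
theorem f38351 : Led Lsl_ft (LP (LK LD1_c2 LD2_c10 LD3_c8)) = (LP (LK LD1_c4 LD2_c25 LD3_c37)) :=
  Lre_f IH (LK LD1_c2 LD2_c10 LD3_c8) (LK LD1_c4 LD2_c25 LD3_c37) Lrfl Lrfl
theorem f27257 : Led Lsl_ft (LP (LK LD1_c6 LD2_c9 LD3_c17)) = (LP (LK LD1_c3 LD2_c0 LD3_c60)) :=
  Lre_f IH (LK LD1_c6 LD2_c9 LD3_c17) (LK LD1_c3 LD2_c0 LD3_c60) Lrfl Lrfl
theorem f38352 : Led Lsl_af (LP (LK LD1_c2 LD2_c10 LD3_c8)) = (LP (LK LD1_c3 LD2_c0 LD3_c60)) :=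
  Lgr Lrot45 (Lpr_ft (f38351 IH) (Lpr_at (f38339 IH) (Lpr_ft (f27257 IH) (Lpn (LP (LK LD1_c3 LD2_c0 LD3_c60))))))
theorem f38373 : Led Lsl_ct (LP (LK LD1_c4 LD2_c25 LD3_c36)) = (LP (LK LD1_c2 LD2_c10 LD3_c8)) :=
  Lre_c IH (LK LD1_c4 LD2_c25 LD3_c36) (LK LD1_c2 LD2_c10 LD3_c8) Lrfl Lrfl
theorem f38374 : Led Lsl_dt (LP (LK LD1_c8 LD2_c48 LD3_c47)) = (LP (LK LD1_c4 LD2_c25 LD3_c36)) :=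
  Lre_d IH (LK LD1_c8 LD2_c48 LD3_c47) (LK LD1_c4 LD2_c25 LD3_c36) Lrfl Lrfl
theorem f27254 : Led Lsl_dt (LP (LK LD1_c6 LD2_c9 LD3_c17)) = (LP (LK LD1_c3 LD2_c0 LD3_c61)) :=
  Lre_d IH (LK LD1_c6 LD2_c9 LD3_c17) (LK LD1_c3 LD2_c0 LD3_c61) Lrfl Lrfl
theorem f27253 : Led Lsl_ct (LP (LK LD1_c3 LD2_c0 LD3_c61)) = (LP (LK LD1_c1 LD2_c26 LD3_c21)) :=
  Lre_c IH (LK LD1_c3 LD2_c0 LD3_c61) (LK LD1_c1 LD2_c26 LD3_c21) Lrfl Lrfl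
theorem f27195 : Led Lsl_et (LP (LK LD1_c0 LD2_c8 LD3_c2)) = (LP (LK LD1_c0 LD2_c17 LD3_c56)) :=
  Lre_e IH (LK LD1_c0 LD2_c8 LD3_c2) (LK LD1_c0 LD2_c17 LD3_c56) Lrfl Lrfl
theorem f27205 : Led Lsl_df (LP (LK LD1_c0 LD2_c17 LD3_c56)) = (LP (LK LD1_c0 LD2_c17 LD3_c56)) :=
  Lgr Lrot70 (Lpr_et (f27204 IH) (Lpr_dt (K0.f20609 IH) (Lpr_et (K0.f27197 IH) (Lpr_dt (K0.f20606 IH) (Lpr_et (f27195 IH) (Lpn (LP (LK LD1_c0 LD2_c17 LD3_c56))))))))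
theorem f27233 : Led Lsl_ft (LP (LK LD1_c0 LD2_c39 LD3_c57)) = (LP (LK LD1_c0 LD2_c17 LD3_c56)) :=
  Lre_f IH (LK LD1_c0 LD2_c39 LD3_c57) (LK LD1_c0 LD2_c17 LD3_c56) Lrfl Lrfl
theorem f27234 : Led Lsl_dt (LP (LK LD1_c0 LD2_c39 LD3_c57)) = (LP (LK LD1_c0 LD2_c39 LD3_c57)) :=
  Lgr Lrot60 (Lpe (f27232 IH) (Lpr_df (f27205 IH) (Lpe (f27233 IH) (Lpn (LP (LK LD1_c0 LD2_c39 LD3_c57))))))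
theorem f27248 : Led Lsl_bt (LP (LK LD1_c0 LD2_c39 LD3_c57)) = (LP (LK LD1_c1 LD2_c26 LD3_c21)) :=
  Lre_b IH (LK LD1_c0 LD2_c39 LD3_c57) (LK LD1_c1 LD2_c26 LD3_c21) Lrfl Lrfl
theorem f27249 : Led Lsl_df (LP (LK LD1_c1 LD2_c26 LD3_c21)) = (LP (LK LD1_c1 LD2_c26 LD3_c21)) :=
  Lgr Lrot12 (Lpr_bt (f27247 IH) (Lpr_dt (f27234 IH) (Lpr_bt (f27248 IH) (Lpn (LP (LK LD1_c1 LD2_c26 LD3_c21))))))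
theorem f27251 : Led Lsl_ct (LP (LK LD1_c1 LD2_c26 LD3_c21)) = (LP (LK LD1_c3 LD2_c0 LD3_c61)) :=
  Lre_c IH (LK LD1_c1 LD2_c26 LD3_c21) (LK LD1_c3 LD2_c0 LD3_c61) Lrfl Lrfl
theorem f27252 : Led Lsl_dt (LP (LK LD1_c3 LD2_c0 LD3_c61)) = (LP (LK LD1_c6 LD2_c9 LD3_c17)) :=
  Lre_d IH (LK LD1_c3 LD2_c0 LD3_c61) (LK LD1_c6 LD2_c9 LD3_c17) Lrfl Lrfl
theorem f38375 : Led Lsl_cf (LP (LK LD1_c8 LD2_c48 LD3_c47)) = (LP (LK LD1_c6 LD2_c9 LD3_c17)) :=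
  Lgr Lrot161 (Lpr_dt (f38374 IH) (Lpr_ct (f38373 IH) (Lpr_af (f38352 IH) (Lpe (f27257 IH) (Lpr_dt (f27254 IH) (Lpr_ct (f27253 IH) (Lpe (f27249 IH) (Lpr_ct (f27251 IH) (Lpr_dt (f27252 IH) (Lpn (LP (LK LD1_c6 LD2_c9 LD3_c17))))))))))))
theorem f38056 : Led Lsl_dt (LP (LK LD1_c2 LD2_c10 LD3_c8)) = (LP (LK LD1_c1 LD2_c2 LD3_c10)) :=
  Lre_d IH (LK LD1_c2 LD2_c10 LD3_c8) (LK LD1_c1 LD2_c2 LD3_c10) Lrfl Lrfl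
theorem f37997 : Led Lsl_et (LP (LK LD1_c0 LD2_c28 LD3_c22)) = (LP (LK LD1_c1 LD2_c2 LD3_c10)) :=
  Lre_e IH (LK LD1_c0 LD2_c28 LD3_c22) (LK LD1_c1 LD2_c2 LD3_c10) Lrfl Lrfl
theorem f37998 : Led Lsl_ct (LP (LK LD1_c1 LD2_c2 LD3_c10)) = (LP (LK LD1_c0 LD2_c55 LD3_c23)) :=
  Lgr Lrot15 (Lpe (f37997 IH) (Lpr_cf (f37987 IH) (Lpe (f35618 IH) (Lpn (LP (LK LD1_c0 LD2_c55 LD3_c23))))))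
theorem f38379 : Led Lsl_ct (LP (LK LD1_c8 LD2_c48 LD3_c47)) = (LP (LK LD1_c6 LD2_c9 LD3_c17)) :=
  Lgr Lrot59 (Lpr_cf (f38375 IH) (Lpn (LP (LK LD1_c6 LD2_c9 LD3_c17))))
theorem f38381 : Led Lsl_dt (LP (LK LD1_c4 LD2_c25 LD3_c36)) = (LP (LK LD1_c8 LD2_c48 LD3_c47)) :=
  Lre_d IH (LK LD1_c4 LD2_c25 LD3_c36) (LK LD1_c8 LD2_c48 LD3_c47) Lrfl Lrfl
theorem f38057 : Led Lsl_ct (LP (LK LD1_c2 LD2_c10 LD3_c8)) = (LP (LK LD1_c4 LD2_c25 LD3_c36)) :=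
  Lre_c IH (LK LD1_c2 LD2_c10 LD3_c8) (LK LD1_c4 LD2_c25 LD3_c36) Lrfl Lrfl
theorem f38034 : Led Lsl_dt (LP (LK LD1_c1 LD2_c2 LD3_c10)) = (LP (LK LD1_c2 LD2_c10 LD3_c8)) :=
  Lre_d IH (LK LD1_c1 LD2_c2 LD3_c10) (LK LD1_c2 LD2_c10 LD3_c8) Lrfl Lrfl
theorem f38382 : Led Lsl_ct (LP (LK LD1_c0 LD2_c55 LD3_c23)) = (LP (LK LD1_c1 LD2_c2 LD3_c10)) :=
  Lgr Lrot176 (Lpr_df (f35620 IH) (Lpe (f37998 IH) (Lpe (f38056 IH) (Lpe (f38373 IH) (Lpe (f38374 IH) (Lpr_cf (f38375 IH) (Lpe (f27252 IH) (Lpe (f27251 IH) (Lpr_df (f27249 IH) (Lpe (f27253 IH) (Lpe (f27254 IH) (Lpe (f38379 IH) (Lpe (f38381 IH) (Lpe (f38057 IH) (Lpe (f38034 IH) (Lpn (LP (LK LD1_c1 LD2_c2 LD3_c10))))))))))))))))))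
theorem f38389 : Led Lsl_ft (LP (LK LD1_c3 LD2_c0 LD3_c61)) = (LP (LK LD1_c1 LD2_c26 LD3_c19)) :=
  Lre_f IH (LK LD1_c3 LD2_c0 LD3_c61) (LK LD1_c1 LD2_c26 LD3_c19) Lrfl Lrfl
theorem f38390 : Led Lsl_af (LP (LK LD1_c1 LD2_c2 LD3_c10)) = (LP (LK LD1_c1 LD2_c26 LD3_c19)) :=
  Lgr Lrot109 (Lpe (f38382 IH) (Lpr_df (f35620 IH) (Lpe (f37998 IH) (Lpe (f38056 IH) (Lpe (f38373 IH) (Lpe (f38374 IH) (Lpr_cf (f38375 IH) (Lpe (f27252 IH) (Lpr_ft (f38389 IH) (Lpn (LP (LK LD1_c1 LD2_c26 LD3_c19))))))))))))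
theorem f38395 : Led Lsl_ft (LP (LK LD1_c1 LD2_c2 LD3_c10)) = (LP (LK LD1_c2 LD2_c10 LD3_c9)) :=
  Lre_f IH (LK LD1_c1 LD2_c2 LD3_c10) (LK LD1_c2 LD2_c10 LD3_c9) Lrfl Lrfl
theorem f38396 : Led Lsl_at (LP (LK LD1_c2 LD2_c10 LD3_c9)) = (LP (LK LD1_c3 LD2_c0 LD3_c61)) :=
  Lgr Lrot66 (Lpe (f38395 IH) (Lpr_af (f38390 IH) (Lpe (f38389 IH) (Lpn (LP (LK LD1_c3 LD2_c0 LD3_c61))))))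
theorem f38399 : Led Lsl_cf (LP (LK LD1_c2 LD2_c10 LD3_c9)) = (LP (LK LD1_c1 LD2_c57 LD3_c7)) :=
  Lgr Lrot1 (Lpr_at (f38396 IH) (Lpr_ct (f27253 IH) (Lpe (f35649 IH) (Lpn (LP (LK LD1_c1 LD2_c57 LD3_c7))))))
theorem f38405 : Led Lsl_ct (LP (LK LD1_c2 LD2_c10 LD3_c9)) = (LP (LK LD1_c1 LD2_c57 LD3_c7)) :=
  Lgr Lrot59 (Lpr_cf (f38399 IH) (Lpn (LP (LK LD1_c1 LD2_c57 LD3_c7))))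
theorem f38398 : Led Lsl_bt (LP (LK LD1_c4 LD2_c25 LD3_c29)) = (LP (LK LD1_c2 LD2_c10 LD3_c9)) :=
  Lre_b IH (LK LD1_c4 LD2_c25 LD3_c29) (LK LD1_c2 LD2_c10 LD3_c9) Lrfl Lrfl
theorem f35490 : Led Lsl_bt (LP (LK LD1_c2 LD2_c9 LD3_c58)) = (LP (LK LD1_c4 LD2_c24 LD3_c53)) :=
  Lre_b IH (LK LD1_c2 LD2_c9 LD3_c58) (LK LD1_c4 LD2_c24 LD3_c53) Lrfl Lrfl
theorem f38459 : Led Lsl_cf (LP (LK LD1_c4 LD2_c25 LD3_c29)) = (LP (LK LD1_c4 LD2_c24 LD3_c53)) :=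
  Lgr Lrot97 (Lpr_bt (f38398 IH) (Lpr_ct (f38405 IH) (Lpr_bt (f35636 IH) (Lpr_ct (f35483 IH) (Lpr_bt (f35490 IH) (Lpn (LP (LK LD1_c4 LD2_c24 LD3_c53))))))))
theorem f38463 : Led Lsl_ft (LP (LK LD1_c4 LD2_c25 LD3_c29)) = (LP (LK LD1_c2 LD2_c10 LD3_c6)) :=
  Lre_f IH (LK LD1_c4 LD2_c25 LD3_c29) (LK LD1_c2 LD2_c10 LD3_c6) Lrfl Lrfl
theorem f36045 : Led Lsl_ft (LP (LK LD1_c2 LD2_c9 LD3_c53)) = (LP (LK LD1_c4 LD2_c24 LD3_c53)) :=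
  Lre_f IH (LK LD1_c2 LD2_c9 LD3_c53) (LK LD1_c4 LD2_c24 LD3_c53) Lrfl Lrfl
theorem f38464 : Led Lsl_ct (LP (LK LD1_c2 LD2_c10 LD3_c6)) = (LP (LK LD1_c2 LD2_c9 LD3_c53)) :=
  Lgr Lrot40 (Lpe (f38463 IH) (Lpr_cf (f38459 IH) (Lpe (f36045 IH) (Lpn (LP (LK LD1_c2 LD2_c9 LD3_c53))))))
theorem f38483 : Led Lsl_et (LP (LK LD1_c1 LD2_c2 LD3_c8)) = (LP (LK LD1_c2 LD2_c10 LD3_c6)) :=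
  Lre_e IH (LK LD1_c1 LD2_c2 LD3_c8) (LK LD1_c2 LD2_c10 LD3_c6) Lrfl Lrfl
theorem f35991 : Led Lsl_et (LP (LK LD1_c2 LD2_c9 LD3_c53)) = (LP (LK LD1_c1 LD2_c2 LD3_c0)) :=
  Lre_e IH (LK LD1_c2 LD2_c9 LD3_c53) (LK LD1_c1 LD2_c2 LD3_c0) Lrfl Lrfl
theorem f38484 : Led Lsl_cf (LP (LK LD1_c1 LD2_c2 LD3_c8)) = (LP (LK LD1_c1 LD2_c2 LD3_c0)) :=
  Lgr Lrot39 (Lpr_et (f38483 IH) (Lpr_ct (f38464 IH) (Lpr_et (f35991 IH) (Lpn (LP (LK LD1_c1 LD2_c2 LD3_c0))))))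
theorem f35577 : Led Lsl_bt (LP (LK LD1_c0 LD2_c54 LD3_c33)) = (LP (LK LD1_c1 LD2_c55 LD3_c37)) :=
  Lre_b IH (LK LD1_c0 LD2_c54 LD3_c33) (LK LD1_c1 LD2_c55 LD3_c37) Lrfl Lrfl
theorem f35629 : Led Lsl_bt (LP (LK LD1_c1 LD2_c2 LD3_c0)) = (LP (LK LD1_c0 LD2_c28 LD3_c18)) :=
  Lre_b IH (LK LD1_c1 LD2_c2 LD3_c0) (LK LD1_c0 LD2_c28 LD3_c18) Lrfl Lrfl
theorem f35814 : Led Lsl_ft (LP (LK LD1_c1 LD2_c55 LD3_c37)) = (LP (LK LD1_c1 LD2_c2 LD3_c0)) :=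
  Lgr Lrot75 (Lpe (f35577 IH) (Lpr_ff (f35812 IH) (Lpe (f35629 IH) (Lpn (LP (LK LD1_c1 LD2_c2 LD3_c0))))))
theorem f35601 : Led Lsl_bt (LP (LK LD1_c1 LD2_c55 LD3_c37)) = (LP (LK LD1_c0 LD2_c54 LD3_c33)) :=
  Lre_b IH (LK LD1_c1 LD2_c55 LD3_c37) (LK LD1_c0 LD2_c54 LD3_c33) Lrfl Lrfl
theorem f36933 : Led Lsl_bt (LP (LK LD1_c0 LD2_c54 LD3_c34)) = (LP (LK LD1_c1 LD2_c55 LD3_c39)) :=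
  Lre_b IH (LK LD1_c0 LD2_c54 LD3_c34) (LK LD1_c1 LD2_c55 LD3_c39) Lrfl Lrfl
theorem f36934 : Led Lsl_cf (LP (LK LD1_c1 LD2_c55 LD3_c37)) = (LP (LK LD1_c1 LD2_c55 LD3_c39)) :=
  Lgr Lrot97 (Lpr_bt (f35601 IH) (Lpr_ct (f35572 IH) (Lpe (f36921 IH) (Lpr_ct (f36931 IH) (Lpr_bt (f36933 IH) (Lpn (LP (LK LD1_c1 LD2_c55 LD3_c39))))))))
theorem f38511 : Led Lsl_ft (LP (LK LD1_c1 LD2_c2 LD3_c8)) = (LP (LK LD1_c1 LD2_c55 LD3_c39)) :=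
  Lgr Lrot4 (Lpr_cf (f38484 IH) (Lpe (f35814 IH) (Lpr_cf (f36934 IH) (Lpn (LP (LK LD1_c1 LD2_c55 LD3_c39))))))
theorem f37991 : Led Lsl_bt (LP (LK LD1_c0 LD2_c28 LD3_c22)) = (LP (LK LD1_c1 LD2_c2 LD3_c8)) :=
  Lre_b IH (LK LD1_c0 LD2_c28 LD3_c22) (LK LD1_c1 LD2_c2 LD3_c8) Lrfl Lrfl
theorem f37037 : Led Lsl_bt (LP (LK LD1_c1 LD2_c55 LD3_c39)) = (LP (LK LD1_c0 LD2_c54 LD3_c34)) :=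
  Lre_b IH (LK LD1_c1 LD2_c55 LD3_c39) (LK LD1_c0 LD2_c54 LD3_c34) Lrfl Lrfl
theorem f38565 : Led Lsl_ff (LP (LK LD1_c0 LD2_c28 LD3_c22)) = (LP (LK LD1_c0 LD2_c54 LD3_c34)) :=
  Lgr Lrot25 (Lpr_bt (f37991 IH) (Lpr_ft (f38511 IH) (Lpr_bt (f37037 IH) (Lpn (LP (LK LD1_c0 LD2_c54 LD3_c34))))))
theorem f37989 : Led Lsl_at (LP (LK LD1_c0 LD2_c28 LD3_c22)) = (LP (LK LD1_c0 LD2_c39 LD3_c53)) :=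
  Lgr Lrot107 (Lpr_cf (f37987 IH) (Lpr_af (f35614 IH) (Lpe (f34709 IH) (Lpn (LP (LK LD1_c0 LD2_c39 LD3_c53))))))
theorem f38619 : Led Lsl_gf (LP (LK LD1_c0 LD2_c28 LD3_c25)) = (LP (LK LD1_c0 LD2_c54 LD3_c34)) :=
  Lgr Lrot47 (Lpr_gt (f35533 IH) (Lpe (f37989 IH) (Lpr_ff (f38565 IH) (Lpn (LP (LK LD1_c0 LD2_c54 LD3_c34))))))
theorem f16568 : Led Lsl_dt (LP (LK LD1_c1 LD2_c2 LD3_c19)) = (LP (LK LD1_c0 LD2_c28 LD3_c25)) :=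
  Lre_d IH (LK LD1_c1 LD2_c2 LD3_c19) (LK LD1_c0 LD2_c28 LD3_c25) Lrfl Lrfl
theorem f16547 : Led Lsl_et (LP (LK LD1_c1 LD2_c2 LD3_c19)) = (LP (LK LD1_c2 LD2_c10 LD3_c35)) :=
  Lre_e IH (LK LD1_c1 LD2_c2 LD3_c19) (LK LD1_c2 LD2_c10 LD3_c35) Lrfl Lrfl
theorem f16422 : Led Lsl_gt (LP (LK LD1_c2 LD2_c10 LD3_c35)) = (LP (LK LD1_c4 LD2_c26 LD3_c52)) :=
  Lre_g IH (LK LD1_c2 LD2_c10 LD3_c35) (LK LD1_c4 LD2_c26 LD3_c52) Lrfl Lrfl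
theorem f16434 : Led Lsl_dt (LP (LK LD1_c4 LD2_c26 LD3_c52)) = (LP (LK LD1_c8 LD2_c51 LD3_c28)) :=
  Lre_d IH (LK LD1_c4 LD2_c26 LD3_c52) (LK LD1_c8 LD2_c51 LD3_c28) Lrfl Lrfl
theorem f16435 : Led Lsl_gt (LP (LK LD1_c8 LD2_c51 LD3_c28)) = (LP (LK LD1_c16 LD2_c33 LD3_c35)) :=
  Lre_g IH (LK LD1_c8 LD2_c51 LD3_c28) (LK LD1_c16 LD2_c33 LD3_c35) Lrfl Lrfl
theorem f38616 : Led Lsl_et (LP (LK LD1_c1 LD2_c55 LD3_c40)) = (LP (LK LD1_c3 LD2_c57 LD3_c49)) :=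
  Lre_e IH (LK LD1_c1 LD2_c55 LD3_c40) (LK LD1_c3 LD2_c57 LD3_c49) Lrfl Lrfl
theorem f38633 : Led Lsl_gt (LP (LK LD1_c7 LD2_c57 LD3_c1)) = (LP (LK LD1_c3 LD2_c57 LD3_c49)) :=
  Lre_g IH (LK LD1_c7 LD2_c57 LD3_c1) (LK LD1_c3 LD2_c57 LD3_c49) Lrfl Lrfl
theorem f38634 : Led Lsl_et (LP (LK LD1_c14 LD2_c59 LD3_c51)) = (LP (LK LD1_c7 LD2_c57 LD3_c1)) :=
  Lre_e IH (LK LD1_c14 LD2_c59 LD3_c51) (LK LD1_c7 LD2_c57 LD3_c1) Lrfl Lrfl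
theorem f38635 : Led Lsl_df (LP (LK LD1_c16 LD2_c33 LD3_c35)) = (LP (LK LD1_c14 LD2_c59 LD3_c51)) :=
  Lgr Lrot132 (Lpe (f16435 IH) (Lpe (f16434 IH) (Lpe (f16422 IH) (Lpe (f16547 IH) (Lpr_dt (f16568 IH) (Lpr_gf (f38619 IH) (Lpe (f35657 IH) (Lpr_et (f38616 IH) (Lpe (f38633 IH) (Lpe (f38634 IH) (Lpn (LP (LK LD1_c14 LD2_c59 LD3_c51)))))))))))))
theorem f38677 : Led Lsl_dt (LP (LK LD1_c16 LD2_c33 LD3_c35)) = (LP (LK LD1_c14 LD2_c59 LD3_c51)) :=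
  Lgr Lrot42 (Lpr_df (f38635 IH) (Lpn (LP (LK LD1_c14 LD2_c59 LD3_c51))))
theorem f16596 : Led Lsl_et (LP (LK LD1_c2 LD2_c10 LD3_c35)) = (LP (LK LD1_c1 LD2_c2 LD3_c19)) :=
  Lre_e IH (LK LD1_c2 LD2_c10 LD3_c35) (LK LD1_c1 LD2_c2 LD3_c19) Lrfl Lrfl
theorem f37776 : Led Lsl_et (LP (LK LD1_c0 LD2_c54 LD3_c36)) = (LP (LK LD1_c1 LD2_c55 LD3_c46)) :=
  Lre_e IH (LK LD1_c0 LD2_c54 LD3_c36) (LK LD1_c1 LD2_c55 LD3_c46) Lrfl Lrfl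
theorem f37884 : Led Lsl_cf (LP (LK LD1_c2 LD2_c10 LD3_c35)) = (LP (LK LD1_c1 LD2_c55 LD3_c46)) :=
  Lgr Lrot39 (Lpr_et (f16596 IH) (Lpr_ct (f37875 IH) (Lpr_et (f37776 IH) (Lpn (LP (LK LD1_c1 LD2_c55 LD3_c46))))))
theorem f37777 : Led Lsl_gt (LP (LK LD1_c1 LD2_c55 LD3_c46)) = (LP (LK LD1_c3 LD2_c58 LD3_c0)) :=
  Lre_g IH (LK LD1_c1 LD2_c55 LD3_c46) (LK LD1_c3 LD2_c58 LD3_c0) Lrfl Lrfl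
theorem f37781 : Led Lsl_dt (LP (LK LD1_c3 LD2_c58 LD3_c0)) = (LP (LK LD1_c7 LD2_c57 LD3_c26)) :=
  Lre_d IH (LK LD1_c3 LD2_c58 LD3_c0) (LK LD1_c7 LD2_c57 LD3_c26) Lrfl Lrfl
theorem f37782 : Led Lsl_gt (LP (LK LD1_c7 LD2_c57 LD3_c26)) = (LP (LK LD1_c15 LD2_c0 LD3_c24)) :=
  Lre_g IH (LK LD1_c7 LD2_c57 LD3_c26) (LK LD1_c15 LD2_c0 LD3_c24) Lrfl Lrfl
theorem f34746 : Led Lsl_dt (LP (LK LD1_c1 LD2_c26 LD3_c18)) = (LP (LK LD1_c0 LD2_c39 LD3_c53)) :=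
  Lre_d IH (LK LD1_c1 LD2_c26 LD3_c18) (LK LD1_c0 LD2_c39 LD3_c53) Lrfl Lrfl
theorem f35694 : Led Lsl_gt (LP (LK LD1_c6 LD2_c9 LD3_c12)) = (LP (LK LD1_c3 LD2_c0 LD3_c59)) :=
  Lre_g IH (LK LD1_c6 LD2_c9 LD3_c12) (LK LD1_c3 LD2_c0 LD3_c59) Lrfl Lrfl
theorem f37780 : Led Lsl_et (LP (LK LD1_c11 LD2_c59 LD3_c33)) = (LP (LK LD1_c6 LD2_c9 LD3_c12)) :=
  Lre_e IH (LK LD1_c11 LD2_c59 LD3_c33) (LK LD1_c6 LD2_c9 LD3_c12) Lrfl Lrfl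
theorem f37783 : Led Lsl_dt (LP (LK LD1_c11 LD2_c59 LD3_c33)) = (LP (LK LD1_c15 LD2_c0 LD3_c24)) :=
  Lgr Lrot56 (Lpr_et (f37780 IH) (Lpr_gt (f35694 IH) (Lpe (f35555 IH) (Lpr_dt (f34746 IH) (Lpr_gt (f37756 IH) (Lpe (f36293 IH) (Lpr_et (f37776 IH) (Lpr_gt (f37777 IH) (Lpr_dt (f37781 IH) (Lpr_gt (f37782 IH) (Lpn (LP (LK LD1_c15 LD2_c0 LD3_c24)))))))))))))
theorem f37786 : Led Lsl_df (LP (LK LD1_c11 LD2_c59 LD3_c33)) = (LP (LK LD1_c15 LD2_c0 LD3_c24)) :=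
  Lgr Lrot38 (Lpr_dt (f37783 IH) (Lpn (LP (LK LD1_c15 LD2_c0 LD3_c24))))
theorem f38685 : Led Lsl_cf (LP (LK LD1_c11 LD2_c59 LD3_c33)) = (LP (LK LD1_c14 LD2_c59 LD3_c51)) :=
  Lgr Lrot14 (Lpr_df (f37786 IH) (Lpe (f37782 IH) (Lpe (f37781 IH) (Lpe (f37777 IH) (Lpe (f37884 IH) (Lpr_gt (f16422 IH) (Lpr_dt (f16434 IH) (Lpr_gt (f16435 IH) (Lpr_dt (f38677 IH) (Lpn (LP (LK LD1_c14 LD2_c59 LD3_c51))))))))))))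
theorem f38689 : Led Lsl_ct (LP (LK LD1_c11 LD2_c59 LD3_c33)) = (LP (LK LD1_c14 LD2_c59 LD3_c51)) :=
  Lgr Lrot59 (Lpr_cf (f38685 IH) (Lpn (LP (LK LD1_c14 LD2_c59 LD3_c51))))
theorem f38698 : Led Lsl_cf (LP (LK LD1_c1 LD2_c55 LD3_c46)) = (LP (LK LD1_c2 LD2_c10 LD3_c35)) :=
  Lgr Lrot166 (Lpr_gt (f37777 IH) (Lpr_dt (f37781 IH) (Lpr_gt (f37782 IH) (Lpe (f37786 IH) (Lpr_ct (f38689 IH) (Lpe (f38677 IH) (Lpe (f16435 IH) (Lpe (f16434 IH) (Lpe (f16422 IH) (Lpn (LP (LK LD1_c2 LD2_c10 LD3_c35))))))))))))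
theorem f38707 : Led Lsl_dt (LP (LK LD1_c1 LD2_c55 LD3_c46)) = (LP (LK LD1_c3 LD2_c57 LD3_c35)) :=
  Lre_d IH (LK LD1_c1 LD2_c55 LD3_c46) (LK LD1_c3 LD2_c57 LD3_c35) Lrfl Lrfl
theorem f38708 : Led Lsl_ct (LP (LK LD1_c3 LD2_c57 LD3_c35)) = (LP (LK LD1_c7 LD2_c56 LD3_c35)) :=
  Lre_c IH (LK LD1_c3 LD2_c57 LD3_c35) (LK LD1_c7 LD2_c56 LD3_c35) Lrfl Lrfl
theorem f38709 : Led Lsl_dt (LP (LK LD1_c7 LD2_c56 LD3_c35)) = (LP (LK LD1_c14 LD2_c59 LD3_c14)) :=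
  Lre_d IH (LK LD1_c7 LD2_c56 LD3_c35) (LK LD1_c14 LD2_c59 LD3_c14) Lrfl Lrfl
theorem f38710 : Led Lsl_ct (LP (LK LD1_c14 LD2_c59 LD3_c14)) = (LP (LK LD1_c24 LD2_c46 LD3_c49)) :=
  Lre_c IH (LK LD1_c14 LD2_c59 LD3_c14) (LK LD1_c24 LD2_c46 LD3_c49) Lrfl Lrfl
theorem f16214 : Led Lsl_dt (LP (LK LD1_c4 LD2_c26 LD3_c54)) = (LP (LK LD1_c2 LD2_c10 LD3_c35)) :=
  Lre_d IH (LK LD1_c4 LD2_c26 LD3_c54) (LK LD1_c2 LD2_c10 LD3_c35) Lrfl Lrfl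
theorem f16226 : Led Lsl_ct (LP (LK LD1_c8 LD2_c51 LD3_c35)) = (LP (LK LD1_c4 LD2_c26 LD3_c54)) :=
  Lre_c IH (LK LD1_c8 LD2_c51 LD3_c35) (LK LD1_c4 LD2_c26 LD3_c54) Lrfl Lrfl
theorem f16227 : Led Lsl_dt (LP (LK LD1_c16 LD2_c33 LD3_c52)) = (LP (LK LD1_c8 LD2_c51 LD3_c35)) :=
  Lre_d IH (LK LD1_c16 LD2_c33 LD3_c52) (LK LD1_c8 LD2_c51 LD3_c35) Lrfl Lrfl
theorem f16149 : Led Lsl_et (LP (LK LD1_c4 LD2_c25 LD3_c38)) = (LP (LK LD1_c8 LD2_c48 LD3_c51)) :=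
  Lre_e IH (LK LD1_c4 LD2_c25 LD3_c38) (LK LD1_c8 LD2_c48 LD3_c51) Lrfl Lrfl
theorem f16150 : Led Lsl_et (LP (LK LD1_c8 LD2_c50 LD3_c46)) = (LP (LK LD1_c4 LD2_c26 LD3_c37)) :=
  Lre_e IH (LK LD1_c8 LD2_c50 LD3_c46) (LK LD1_c4 LD2_c26 LD3_c37) Lrfl Lrfl
theorem f16151 : Led Lsl_bt (LP (LK LD1_c8 LD2_c48 LD3_c51)) = (LP (LK LD1_c8 LD2_c50 LD3_c46)) :=
  Lgr Lrot119 (Lpe (f16149 IH) (Lpr_bf (K0.f16138 IH) (Lpe (f16150 IH) (Lpn (LP (LK LD1_c8 LD2_c50 LD3_c46))))))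
theorem f16171 : Led Lsl_dt (LP (LK LD1_c16 LD2_c29 LD3_c14)) = (LP (LK LD1_c8 LD2_c48 LD3_c51)) :=
  Lre_d IH (LK LD1_c16 LD2_c29 LD3_c14) (LK LD1_c8 LD2_c48 LD3_c51) Lrfl Lrfl
theorem f16172 : Led Lsl_dt (LP (LK LD1_c8 LD2_c50 LD3_c46)) = (LP (LK LD1_c16 LD2_c31 LD3_c61)) :=
  Lre_d IH (LK LD1_c8 LD2_c50 LD3_c46) (LK LD1_c16 LD2_c31 LD3_c61) Lrfl Lrfl
theorem f16173 : Led Lsl_bf (LP (LK LD1_c16 LD2_c29 LD3_c14)) = (LP (LK LD1_c16 LD2_c31 LD3_c61)) :=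
  Lgr Lrot93 (Lpr_dt (f16171 IH) (Lpr_bt (f16151 IH) (Lpr_dt (f16172 IH) (Lpn (LP (LK LD1_c16 LD2_c31 LD3_c61))))))
theorem f16186 : Led Lsl_bt (LP (LK LD1_c16 LD2_c29 LD3_c14)) = (LP (LK LD1_c16 LD2_c31 LD3_c61)) :=
  Lgr Lrot127 (Lpr_bf (f16173 IH) (Lpn (LP (LK LD1_c16 LD2_c31 LD3_c61))))
theorem f16196 : Led Lsl_at (LP (LK LD1_c8 LD2_c50 LD3_c18)) = (LP (LK LD1_c16 LD2_c29 LD3_c14)) :=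
  Lre_a IH (LK LD1_c8 LD2_c50 LD3_c18) (LK LD1_c16 LD2_c29 LD3_c14) Lrfl Lrfl
theorem f16197 : Led Lsl_bt (LP (LK LD1_c4 LD2_c26 LD3_c54)) = (LP (LK LD1_c8 LD2_c50 LD3_c18)) :=
  Lre_b IH (LK LD1_c4 LD2_c26 LD3_c54) (LK LD1_c8 LD2_c50 LD3_c18) Lrfl Lrfl
theorem f16198 : Led Lsl_at (LP (LK LD1_c16 LD2_c31 LD3_c61)) = (LP (LK LD1_c8 LD2_c50 LD3_c49)) :=
  Lre_a IH (LK LD1_c16 LD2_c31 LD3_c61) (LK LD1_c8 LD2_c50 LD3_c49) Lrfl Lrfl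
theorem f16199 : Led Lsl_bt (LP (LK LD1_c8 LD2_c50 LD3_c49)) = (LP (LK LD1_c4 LD2_c26 LD3_c41)) :=
  Lre_b IH (LK LD1_c8 LD2_c50 LD3_c49) (LK LD1_c4 LD2_c26 LD3_c41) Lrfl Lrfl
theorem f16200 : Led Lsl_af (LP (LK LD1_c4 LD2_c26 LD3_c54)) = (LP (LK LD1_c4 LD2_c26 LD3_c41)) :=
  Lgr Lrot36 (Lpr_bt (f16197 IH) (Lpr_at (f16196 IH) (Lpr_bt (f16186 IH) (Lpr_at (f16198 IH) (Lpr_bt (f16199 IH) (Lpn (LP (LK LD1_c4 LD2_c26 LD3_c41))))))))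
theorem f16220 : Led Lsl_ft (LP (LK LD1_c8 LD2_c50 LD3_c60)) = (LP (LK LD1_c4 LD2_c26 LD3_c41)) :=
  Lre_f IH (LK LD1_c8 LD2_c50 LD3_c60) (LK LD1_c4 LD2_c26 LD3_c41) Lrfl Lrfl
theorem f16228 : Led Lsl_dt (LP (LK LD1_c8 LD2_c50 LD3_c60)) = (LP (LK LD1_c4 LD2_c26 LD3_c42)) :=
  Lre_d IH (LK LD1_c8 LD2_c50 LD3_c60) (LK LD1_c4 LD2_c26 LD3_c42) Lrfl Lrfl
theorem f16229 : Led Lsl_ct (LP (LK LD1_c4 LD2_c26 LD3_c42)) = (LP (LK LD1_c2 LD2_c10 LD3_c34)) :=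
  Lre_c IH (LK LD1_c4 LD2_c26 LD3_c42) (LK LD1_c2 LD2_c10 LD3_c34) Lrfl Lrfl
theorem f16230 : Led Lsl_dt (LP (LK LD1_c2 LD2_c10 LD3_c34)) = (LP (LK LD1_c4 LD2_c23 LD3_c42)) :=
  Lre_d IH (LK LD1_c2 LD2_c10 LD3_c34) (LK LD1_c4 LD2_c23 LD3_c42) Lrfl Lrfl
theorem f16231 : Led Lsl_ct (LP (LK LD1_c4 LD2_c23 LD3_c42)) = (LP (LK LD1_c8 LD2_c45 LD3_c10)) :=
  Lre_c IH (LK LD1_c4 LD2_c23 LD3_c42) (LK LD1_c8 LD2_c45 LD3_c10) Lrfl Lrfl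
theorem f16232 : Led Lsl_dt (LP (LK LD1_c8 LD2_c45 LD3_c10)) = (LP (LK LD1_c16 LD2_c23 LD3_c3)) :=
  Lre_d IH (LK LD1_c8 LD2_c45 LD3_c10) (LK LD1_c16 LD2_c23 LD3_c3) Lrfl Lrfl
theorem f16233 : Led Lsl_cf (LP (LK LD1_c16 LD2_c33 LD3_c52)) = (LP (LK LD1_c16 LD2_c23 LD3_c3)) :=
  Lgr Lrot161 (Lpr_dt (f16227 IH) (Lpr_ct (f16226 IH) (Lpr_af (f16200 IH) (Lpe (f16220 IH) (Lpr_dt (f16228 IH) (Lpr_ct (f16229 IH) (Lpr_dt (f16230 IH) (Lpr_ct (f16231 IH) (Lpr_dt (f16232 IH) (Lpn (LP (LK LD1_c16 LD2_c23 LD3_c3))))))))))))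
theorem f16244 : Led Lsl_ft (LP (LK LD1_c8 LD2_c45 LD3_c9)) = (LP (LK LD1_c16 LD2_c23 LD3_c3)) :=
  Lre_f IH (LK LD1_c8 LD2_c45 LD3_c9) (LK LD1_c16 LD2_c23 LD3_c3) Lrfl Lrfl
theorem f16245 : Led Lsl_ct (LP (LK LD1_c16 LD2_c23 LD3_c2)) = (LP (LK LD1_c8 LD2_c45 LD3_c9)) :=
  Lre_c IH (LK LD1_c16 LD2_c23 LD3_c2) (LK LD1_c8 LD2_c45 LD3_c9) Lrfl Lrfl
theorem f16246 : Led Lsl_ft (LP (LK LD1_c16 LD2_c33 LD3_c52)) = (LP (LK LD1_c16 LD2_c23 LD3_c2)) :=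
  Lgr Lrot4 (Lpr_cf (f16233 IH) (Lpe (f16244 IH) (Lpe (f16245 IH) (Lpn (LP (LK LD1_c16 LD2_c23 LD3_c2))))))
theorem f38721 : Led Lsl_af (LP (LK LD1_c24 LD2_c46 LD3_c49)) = (LP (LK LD1_c16 LD2_c23 LD3_c2)) :=
  Lgr Lrot109 (Lpe (f38710 IH) (Lpe (f38709 IH) (Lpe (f38708 IH) (Lpe (f38707 IH) (Lpr_cf (f38698 IH) (Lpe (f16214 IH) (Lpe (f16226 IH) (Lpe (f16227 IH) (Lpr_ft (f16246 IH) (Lpn (LP (LK LD1_c16 LD2_c23 LD3_c2))))))))))))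
theorem f16251 : Led Lsl_dt (LP (LK LD1_c8 LD2_c51 LD3_c35)) = (LP (LK LD1_c16 LD2_c33 LD3_c52)) :=
  Lre_d IH (LK LD1_c8 LD2_c51 LD3_c35) (LK LD1_c16 LD2_c33 LD3_c52) Lrfl Lrfl
theorem f16260 : Led Lsl_ft (LP (LK LD1_c16 LD2_c33 LD3_c31)) = (LP (LK LD1_c8 LD2_c51 LD3_c35)) :=
  Lre_f IH (LK LD1_c16 LD2_c33 LD3_c31) (LK LD1_c8 LD2_c51 LD3_c35) Lrfl Lrfl
theorem f16261 : Led Lsl_df (LP (LK LD1_c16 LD2_c33 LD3_c31)) = (LP (LK LD1_c16 LD2_c23 LD3_c2)) :=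
  Lgr Lrot78 (Lpr_ft (f16260 IH) (Lpr_dt (f16251 IH) (Lpr_ft (f16246 IH) (Lpn (LP (LK LD1_c16 LD2_c23 LD3_c2))))))
theorem f16275 : Led Lsl_ct (LP (LK LD1_c16 LD2_c33 LD3_c31)) = (LP (LK LD1_c8 LD2_c51 LD3_c26)) :=
  Lre_c IH (LK LD1_c16 LD2_c33 LD3_c31) (LK LD1_c8 LD2_c51 LD3_c26) Lrfl Lrfl
theorem f16270 : Led Lsl_ct (LP (LK LD1_c8 LD2_c45 LD3_c9)) = (LP (LK LD1_c16 LD2_c23 LD3_c2)) :=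
  Lre_c IH (LK LD1_c8 LD2_c45 LD3_c9) (LK LD1_c16 LD2_c23 LD3_c2) Lrfl Lrfl
theorem f16290 : Led Lsl_dt (LP (LK LD1_c4 LD2_c23 LD3_c39)) = (LP (LK LD1_c8 LD2_c45 LD3_c9)) :=
  Lre_d IH (LK LD1_c4 LD2_c23 LD3_c39) (LK LD1_c8 LD2_c45 LD3_c9) Lrfl Lrfl
theorem f16328 : Led Lsl_ct (LP (LK LD1_c2 LD2_c9 LD3_c14)) = (LP (LK LD1_c4 LD2_c23 LD3_c39)) :=
  Lre_c IH (LK LD1_c2 LD2_c9 LD3_c14) (LK LD1_c4 LD2_c23 LD3_c39) Lrfl Lrfl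
theorem f16329 : Led Lsl_dt (LP (LK LD1_c1 LD2_c2 LD3_c18)) = (LP (LK LD1_c2 LD2_c9 LD3_c14)) :=
  Lre_d IH (LK LD1_c1 LD2_c2 LD3_c18) (LK LD1_c2 LD2_c9 LD3_c14) Lrfl Lrfl
theorem f16330 : Led Lsl_ct (LP (LK LD1_c2 LD2_c10 LD3_c31)) = (LP (LK LD1_c1 LD2_c2 LD3_c18)) :=
  Lre_c IH (LK LD1_c2 LD2_c10 LD3_c31) (LK LD1_c1 LD2_c2 LD3_c18) Lrfl Lrfl
theorem f16331 : Led Lsl_dt (LP (LK LD1_c4 LD2_c26 LD3_c41)) = (LP (LK LD1_c2 LD2_c10 LD3_c31)) :=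
  Lre_d IH (LK LD1_c4 LD2_c26 LD3_c41) (LK LD1_c2 LD2_c10 LD3_c31) Lrfl Lrfl
theorem f16333 : Led Lsl_ft (LP (LK LD1_c4 LD2_c26 LD3_c41)) = (LP (LK LD1_c8 LD2_c50 LD3_c60)) :=
  Lre_f IH (LK LD1_c4 LD2_c26 LD3_c41) (LK LD1_c8 LD2_c50 LD3_c60) Lrfl Lrfl
theorem f16334 : Led Lsl_af (LP (LK LD1_c8 LD2_c51 LD3_c26)) = (LP (LK LD1_c8 LD2_c50 LD3_c60)) :=
  Lgr Lrot109 (Lpe (f16275 IH) (Lpr_df (f16261 IH) (Lpe (f16270 IH) (Lpe (f16290 IH) (Lpe (f16328 IH) (Lpe (f16329 IH) (Lpe (f16330 IH) (Lpe (f16331 IH) (Lpr_ft (f16333 IH) (Lpn (LP (LK LD1_c8 LD2_c50 LD3_c60))))))))))))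
theorem f16280 : Led Lsl_ct (LP (LK LD1_c8 LD2_c51 LD3_c26)) = (LP (LK LD1_c16 LD2_c33 LD3_c31)) :=
  Lre_c IH (LK LD1_c8 LD2_c51 LD3_c26) (LK LD1_c16 LD2_c33 LD3_c31) Lrfl Lrfl
theorem f16239 : Led Lsl_ct (LP (LK LD1_c16 LD2_c32 LD3_c35)) = (LP (LK LD1_c8 LD2_c50 LD3_c60)) :=
  Lre_c IH (LK LD1_c16 LD2_c32 LD3_c35) (LK LD1_c8 LD2_c50 LD3_c60) Lrfl Lrfl
theorem f16343 : Led Lsl_at (LP (LK LD1_c16 LD2_c33 LD3_c31)) = (LP (LK LD1_c16 LD2_c32 LD3_c35)) :=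
  Lgr Lrot107 (Lpe (f16280 IH) (Lpr_af (f16334 IH) (Lpe (f16239 IH) (Lpn (LP (LK LD1_c16 LD2_c32 LD3_c35))))))
theorem f16271 : Led Lsl_ft (LP (LK LD1_c8 LD2_c51 LD3_c35)) = (LP (LK LD1_c16 LD2_c33 LD3_c31)) :=
  Lre_f IH (LK LD1_c8 LD2_c51 LD3_c35) (LK LD1_c16 LD2_c33 LD3_c31) Lrfl Lrfl
theorem f16465 : Led Lsl_ft (LP (LK LD1_c16 LD2_c32 LD3_c35)) = (LP (LK LD1_c8 LD2_c50 LD3_c59)) :=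
  Lre_f IH (LK LD1_c16 LD2_c32 LD3_c35) (LK LD1_c8 LD2_c50 LD3_c59) Lrfl Lrfl
theorem f16466 : Led Lsl_af (LP (LK LD1_c8 LD2_c51 LD3_c35)) = (LP (LK LD1_c8 LD2_c50 LD3_c59)) :=
  Lgr Lrot45 (Lpr_ft (f16271 IH) (Lpr_at (f16343 IH) (Lpr_ft (f16465 IH) (Lpn (LP (LK LD1_c8 LD2_c50 LD3_c59))))))
theorem f16332 : Led Lsl_dt (LP (LK LD1_c16 LD2_c32 LD3_c34)) = (LP (LK LD1_c8 LD2_c50 LD3_c59)) :=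
  Lre_d IH (LK LD1_c16 LD2_c32 LD3_c34) (LK LD1_c8 LD2_c50 LD3_c59) Lrfl Lrfl
theorem f16487 : Led Lsl_at (LP (LK LD1_c16 LD2_c33 LD3_c52)) = (LP (LK LD1_c16 LD2_c32 LD3_c34)) :=
  Lgr Lrot51 (Lpe (f16251 IH) (Lpr_af (f16466 IH) (Lpe (f16332 IH) (Lpn (LP (LK LD1_c16 LD2_c32 LD3_c34))))))
theorem f16496 : Led Lsl_af (LP (LK LD1_c16 LD2_c33 LD3_c52)) = (LP (LK LD1_c16 LD2_c32 LD3_c34)) :=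
  Lgr Lrot0 (Lpr_at (f16487 IH) (Lpn (LP (LK LD1_c16 LD2_c32 LD3_c34))))
theorem f38767 : Led Lsl_ft (LP (LK LD1_c24 LD2_c46 LD3_c49)) = (LP (LK LD1_c16 LD2_c32 LD3_c34)) :=
  Lgr Lrot101 (Lpr_af (f38721 IH) (Lpe (f16246 IH) (Lpr_af (f16496 IH) (Lpn (LP (LK LD1_c16 LD2_c32 LD3_c34))))))
theorem f38780 : Led Lsl_ff (LP (LK LD1_c24 LD2_c46 LD3_c49)) = (LP (LK LD1_c16 LD2_c32 LD3_c34)) :=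
  Lgr Lrot3 (Lpr_ft (f38767 IH) (Lpn (LP (LK LD1_c16 LD2_c32 LD3_c34))))
theorem f38755 : Led Lsl_ct (LP (LK LD1_c24 LD2_c46 LD3_c49)) = (LP (LK LD1_c14 LD2_c59 LD3_c14)) :=
  Lre_c IH (LK LD1_c24 LD2_c46 LD3_c49) (LK LD1_c14 LD2_c59 LD3_c14) Lrfl Lrfl
theorem f38785 : Led Lsl_ft (LP (LK LD1_c14 LD2_c59 LD3_c14)) = (LP (LK LD1_c24 LD2_c46 LD3_c50)) :=
  Lre_f IH (LK LD1_c14 LD2_c59 LD3_c14) (LK LD1_c24 LD2_c46 LD3_c50) Lrfl Lrfl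
theorem f38786 : Led Lsl_ct (LP (LK LD1_c24 LD2_c46 LD3_c50)) = (LP (LK LD1_c16 LD2_c32 LD3_c34)) :=
  Lgr Lrot40 (Lpe (f38785 IH) (Lpe (f38755 IH) (Lpr_ff (f38780 IH) (Lpn (LP (LK LD1_c16 LD2_c32 LD3_c34))))))
theorem f38792 : Led Lsl_dt (LP (LK LD1_c14 LD2_c59 LD3_c15)) = (LP (LK LD1_c24 LD2_c46 LD3_c50)) :=
  Lre_d IH (LK LD1_c14 LD2_c59 LD3_c15) (LK LD1_c24 LD2_c46 LD3_c50) Lrfl Lrfl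
theorem f38797 : Led Lsl_ft (LP (LK LD1_c14 LD2_c59 LD3_c15)) = (LP (LK LD1_c7 LD2_c56 LD3_c35)) :=
  Lre_f IH (LK LD1_c14 LD2_c59 LD3_c15) (LK LD1_c7 LD2_c56 LD3_c35) Lrfl Lrfl
theorem f16211 : Led Lsl_ct (LP (LK LD1_c8 LD2_c50 LD3_c59)) = (LP (LK LD1_c4 LD2_c26 LD3_c41)) :=
  Lre_c IH (LK LD1_c8 LD2_c50 LD3_c59) (LK LD1_c4 LD2_c26 LD3_c41) Lrfl Lrfl
theorem f38798 : Led Lsl_at (LP (LK LD1_c7 LD2_c56 LD3_c35)) = (LP (LK LD1_c4 LD2_c23 LD3_c39)) :=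
  Lgr Lrot33 (Lpe (f38797 IH) (Lpr_dt (f38792 IH) (Lpr_ct (f38786 IH) (Lpr_dt (f16332 IH) (Lpr_ct (f16211 IH) (Lpr_dt (f16331 IH) (Lpr_ct (f16330 IH) (Lpr_dt (f16329 IH) (Lpr_ct (f16328 IH) (Lpn (LP (LK LD1_c4 LD2_c23 LD3_c39))))))))))))
theorem f16337 : Led Lsl_ft (LP (LK LD1_c4 LD2_c23 LD3_c39)) = (LP (LK LD1_c8 LD2_c45 LD3_c10)) :=
  Lre_f IH (LK LD1_c4 LD2_c23 LD3_c39) (LK LD1_c8 LD2_c45 LD3_c10) Lrfl Lrfl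
theorem f38811 : Led Lsl_af (LP (LK LD1_c14 LD2_c59 LD3_c15)) = (LP (LK LD1_c8 LD2_c45 LD3_c10)) :=
  Lgr Lrot45 (Lpr_ft (f38797 IH) (Lpr_at (f38798 IH) (Lpr_ft (f16337 IH) (Lpn (LP (LK LD1_c8 LD2_c45 LD3_c10))))))
theorem f38815 : Led Lsl_ct (LP (LK LD1_c14 LD2_c59 LD3_c15)) = (LP (LK LD1_c7 LD2_c56 LD3_c38)) :=
  Lre_c IH (LK LD1_c14 LD2_c59 LD3_c15) (LK LD1_c7 LD2_c56 LD3_c38) Lrfl Lrfl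
theorem f38826 : Led Lsl_at (LP (LK LD1_c7 LD2_c56 LD3_c38)) = (LP (LK LD1_c4 LD2_c23 LD3_c42)) :=
  Lgr Lrot107 (Lpe (f38815 IH) (Lpr_af (f38811 IH) (Lpe (f16231 IH) (Lpn (LP (LK LD1_c4 LD2_c23 LD3_c42))))))
theorem f38852 : Led Lsl_et (LP (LK LD1_c14 LD2_c59 LD3_c22)) = (LP (LK LD1_c7 LD2_c56 LD3_c38)) :=
  Lre_e IH (LK LD1_c14 LD2_c59 LD3_c22) (LK LD1_c7 LD2_c56 LD3_c38) Lrfl Lrfl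
theorem f38853 : Led Lsl_et (LP (LK LD1_c4 LD2_c23 LD3_c42)) = (LP (LK LD1_c8 LD2_c45 LD3_c19)) :=
  Lre_e IH (LK LD1_c4 LD2_c23 LD3_c42) (LK LD1_c8 LD2_c45 LD3_c19) Lrfl Lrfl
theorem f38854 : Led Lsl_af (LP (LK LD1_c14 LD2_c59 LD3_c22)) = (LP (LK LD1_c8 LD2_c45 LD3_c19)) :=
  Lgr Lrot50 (Lpr_et (f38852 IH) (Lpr_at (f38826 IH) (Lpr_et (f38853 IH) (Lpn (LP (LK LD1_c8 LD2_c45 LD3_c19))))))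
theorem f38878 : Led Lsl_ft (LP (LK LD1_c14 LD2_c59 LD3_c22)) = (LP (LK LD1_c7 LD2_c56 LD3_c39)) :=
  Lre_f IH (LK LD1_c14 LD2_c59 LD3_c22) (LK LD1_c7 LD2_c56 LD3_c39) Lrfl Lrfl
theorem f38879 : Led Lsl_ft (LP (LK LD1_c4 LD2_c23 LD3_c43)) = (LP (LK LD1_c8 LD2_c45 LD3_c19)) :=
  Lre_f IH (LK LD1_c4 LD2_c23 LD3_c43) (LK LD1_c8 LD2_c45 LD3_c19) Lrfl Lrfl
theorem f38880 : Led Lsl_at (LP (LK LD1_c7 LD2_c56 LD3_c39)) = (LP (LK LD1_c4 LD2_c23 LD3_c43)) :=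
  Lgr Lrot66 (Lpe (f38878 IH) (Lpr_af (f38854 IH) (Lpe (f38879 IH) (Lpn (LP (LK LD1_c4 LD2_c23 LD3_c43))))))
theorem f38902 : Led Lsl_et (LP (LK LD1_c3 LD2_c57 LD3_c36)) = (LP (LK LD1_c7 LD2_c56 LD3_c39)) :=
  Lre_e IH (LK LD1_c3 LD2_c57 LD3_c36) (LK LD1_c7 LD2_c56 LD3_c39) Lrfl Lrfl
theorem f38903 : Led Lsl_et (LP (LK LD1_c4 LD2_c23 LD3_c43)) = (LP (LK LD1_c2 LD2_c9 LD3_c15)) :=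
  Lre_e IH (LK LD1_c4 LD2_c23 LD3_c43) (LK LD1_c2 LD2_c9 LD3_c15) Lrfl Lrfl
theorem f38904 : Led Lsl_af (LP (LK LD1_c3 LD2_c57 LD3_c36)) = (LP (LK LD1_c2 LD2_c9 LD3_c15)) :=
  Lgr Lrot50 (Lpr_et (f38902 IH) (Lpr_at (f38880 IH) (Lpr_et (f38903 IH) (Lpn (LP (LK LD1_c2 LD2_c9 LD3_c15))))))
theorem f38923 : Led Lsl_ft (LP (LK LD1_c1 LD2_c1 LD3_c45)) = (LP (LK LD1_c2 LD2_c9 LD3_c15)) :=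
  Lre_f IH (LK LD1_c1 LD2_c1 LD3_c45) (LK LD1_c2 LD2_c9 LD3_c15) Lrfl Lrfl
theorem f38928 : Led Lsl_dt (LP (LK LD1_c1 LD2_c1 LD3_c45)) = (LP (LK LD1_c0 LD2_c28 LD3_c11)) :=
  Lre_d IH (LK LD1_c1 LD2_c1 LD3_c45) (LK LD1_c0 LD2_c28 LD3_c11) Lrfl Lrfl
theorem f28950 : Led Lsl_ct (LP (LK LD1_c0 LD2_c28 LD3_c11)) = (LP (LK LD1_c0 LD2_c12 LD3_c26)) :=
  Lre_c IH (LK LD1_c0 LD2_c28 LD3_c11) (LK LD1_c0 LD2_c12 LD3_c26) Lrfl Lrfl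
theorem f28952 : Led Lsl_dt (LP (LK LD1_c0 LD2_c12 LD3_c26)) = (LP (LK LD1_c0 LD2_c5 LD3_c41)) :=
  Lre_d IH (LK LD1_c0 LD2_c12 LD3_c26) (LK LD1_c0 LD2_c5 LD3_c41) Lrfl Lrfl
theorem f28953 : Led Lsl_ct (LP (LK LD1_c0 LD2_c5 LD3_c41)) = (LP (LK LD1_c0 LD2_c12 LD3_c23)) :=
  Lre_c IH (LK LD1_c0 LD2_c5 LD3_c41) (LK LD1_c0 LD2_c12 LD3_c23) Lrfl Lrfl
theorem f28838 : Led Lsl_dt (LP (LK LD1_c0 LD2_c12 LD3_c23)) = (LP (LK LD1_c0 LD2_c28 LD3_c1)) :=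
  Lre_d IH (LK LD1_c0 LD2_c12 LD3_c23) (LK LD1_c0 LD2_c28 LD3_c1) Lrfl Lrfl
theorem f38929 : Led Lsl_ct (LP (LK LD1_c0 LD2_c28 LD3_c1)) = (LP (LK LD1_c1 LD2_c1 LD3_c24)) :=
  Lre_c IH (LK LD1_c0 LD2_c28 LD3_c1) (LK LD1_c1 LD2_c1 LD3_c24) Lrfl Lrfl
theorem f38930 : Led Lsl_dt (LP (LK LD1_c1 LD2_c1 LD3_c24)) = (LP (LK LD1_c2 LD2_c8 LD3_c32)) :=
  Lre_d IH (LK LD1_c1 LD2_c1 LD3_c24) (LK LD1_c2 LD2_c8 LD3_c32) Lrfl Lrfl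
theorem f38931 : Led Lsl_cf (LP (LK LD1_c3 LD2_c57 LD3_c36)) = (LP (LK LD1_c2 LD2_c8 LD3_c32)) :=
  Lgr Lrot102 (Lpr_af (f38904 IH) (Lpe (f38923 IH) (Lpr_dt (f38928 IH) (Lpr_ct (f28950 IH) (Lpr_dt (f28952 IH) (Lpr_ct (f28953 IH) (Lpr_dt (f28838 IH) (Lpr_ct (f38929 IH) (Lpr_dt (f38930 IH) (Lpn (LP (LK LD1_c2 LD2_c8 LD3_c32))))))))))))
theorem f38918 : Led Lsl_dt (LP (LK LD1_c3 LD2_c57 LD3_c36)) = (LP (LK LD1_c1 LD2_c55 LD3_c33)) :=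
  Lre_d IH (LK LD1_c3 LD2_c57 LD3_c36) (LK LD1_c1 LD2_c55 LD3_c33) Lrfl Lrfl
theorem f38940 : Led Lsl_ct (LP (LK LD1_c1 LD2_c55 LD3_c33)) = (LP (LK LD1_c0 LD2_c54 LD3_c30)) :=
  Lre_c IH (LK LD1_c1 LD2_c55 LD3_c33) (LK LD1_c0 LD2_c54 LD3_c30) Lrfl Lrfl
theorem f38941 : Led Lsl_dt (LP (LK LD1_c0 LD2_c54 LD3_c30)) = (LP (LK LD1_c0 LD2_c24 LD3_c36)) :=
  Lre_d IH (LK LD1_c0 LD2_c54 LD3_c30) (LK LD1_c0 LD2_c24 LD3_c36) Lrfl Lrfl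
theorem f38942 : Led Lsl_ct (LP (LK LD1_c0 LD2_c24 LD3_c36)) = (LP (LK LD1_c0 LD2_c54 LD3_c24)) :=
  Lre_c IH (LK LD1_c0 LD2_c24 LD3_c36) (LK LD1_c0 LD2_c54 LD3_c24) Lrfl Lrfl
theorem f38943 : Led Lsl_dt (LP (LK LD1_c0 LD2_c54 LD3_c24)) = (LP (LK LD1_c1 LD2_c55 LD3_c20)) :=
  Lre_d IH (LK LD1_c0 LD2_c54 LD3_c24) (LK LD1_c1 LD2_c55 LD3_c20) Lrfl Lrfl
theorem f38944 : Led Lsl_ct (LP (LK LD1_c1 LD2_c55 LD3_c20)) = (LP (LK LD1_c3 LD2_c57 LD3_c9)) :=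
  Lre_c IH (LK LD1_c1 LD2_c55 LD3_c20) (LK LD1_c3 LD2_c57 LD3_c9) Lrfl Lrfl
theorem f38960 : Led Lsl_ft (LP (LK LD1_c1 LD2_c1 LD3_c24)) = (LP (LK LD1_c2 LD2_c8 LD3_c33)) :=
  Lre_f IH (LK LD1_c1 LD2_c1 LD3_c24) (LK LD1_c2 LD2_c8 LD3_c33) Lrfl Lrfl
theorem f38961 : Led Lsl_af (LP (LK LD1_c3 LD2_c57 LD3_c9)) = (LP (LK LD1_c2 LD2_c8 LD3_c33)) :=
  Lgr Lrot109 (Lpe (f38944 IH) (Lpe (f38943 IH) (Lpe (f38942 IH) (Lpe (f38941 IH) (Lpe (f38940 IH) (Lpe (f38918 IH) (Lpr_cf (f38931 IH) (Lpe (f38930 IH) (Lpr_ft (f38960 IH) (Lpn (LP (LK LD1_c2 LD2_c8 LD3_c33))))))))))))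
theorem f38997 : Led Lsl_ft (LP (LK LD1_c3 LD2_c57 LD3_c9)) = (LP (LK LD1_c1 LD2_c55 LD3_c19)) :=
  Lre_f IH (LK LD1_c3 LD2_c57 LD3_c9) (LK LD1_c1 LD2_c55 LD3_c19) Lrfl Lrfl
theorem f38998 : Led Lsl_at (LP (LK LD1_c1 LD2_c55 LD3_c19)) = (LP (LK LD1_c1 LD2_c1 LD3_c24)) :=
  Lgr Lrot66 (Lpe (f38997 IH) (Lpr_af (f38961 IH) (Lpe (f38960 IH) (Lpn (LP (LK LD1_c1 LD2_c1 LD3_c24))))))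
theorem f39034 : Led Lsl_et (LP (LK LD1_c3 LD2_c56 LD3_c54)) = (LP (LK LD1_c1 LD2_c55 LD3_c19)) :=
  Lre_e IH (LK LD1_c3 LD2_c56 LD3_c54) (LK LD1_c1 LD2_c55 LD3_c19) Lrfl Lrfl
theorem f39035 : Led Lsl_et (LP (LK LD1_c1 LD2_c1 LD3_c24)) = (LP (LK LD1_c2 LD2_c8 LD3_c13)) :=
  Lre_e IH (LK LD1_c1 LD2_c1 LD3_c24) (LK LD1_c2 LD2_c8 LD3_c13) Lrfl Lrfl
theorem f39036 : Led Lsl_af (LP (LK LD1_c3 LD2_c56 LD3_c54)) = (LP (LK LD1_c2 LD2_c8 LD3_c13)) :=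
  Lgr Lrot50 (Lpr_et (f39034 IH) (Lpr_at (f38998 IH) (Lpr_et (f39035 IH) (Lpn (LP (LK LD1_c2 LD2_c8 LD3_c13))))))
theorem f29078 : Led Lsl_ct (LP (LK LD1_c1 LD2_c55 LD3_c10)) = (LP (LK LD1_c3 LD2_c56 LD3_c54)) :=
  Lre_c IH (LK LD1_c1 LD2_c55 LD3_c10) (LK LD1_c3 LD2_c56 LD3_c54) Lrfl Lrfl
theorem f28794 : Led Lsl_dt (LP (LK LD1_c0 LD2_c54 LD3_c20)) = (LP (LK LD1_c1 LD2_c55 LD3_c10)) :=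
  Lre_d IH (LK LD1_c0 LD2_c54 LD3_c20) (LK LD1_c1 LD2_c55 LD3_c10) Lrfl Lrfl
theorem f29074 : Led Lsl_dt (LP (LK LD1_c1 LD2_c1 LD3_c15)) = (LP (LK LD1_c0 LD2_c27 LD3_c60)) :=
  Lre_d IH (LK LD1_c1 LD2_c1 LD3_c15) (LK LD1_c0 LD2_c27 LD3_c60) Lrfl Lrfl
theorem f29123 : Led Lsl_ct (LP (LK LD1_c2 LD2_c8 LD3_c13)) = (LP (LK LD1_c1 LD2_c1 LD3_c15)) :=
  Lre_c IH (LK LD1_c2 LD2_c8 LD3_c13) (LK LD1_c1 LD2_c1 LD3_c15) Lrfl Lrfl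
theorem f29124 : Led Lsl_dt (LP (LK LD1_c4 LD2_c21 LD3_c26)) = (LP (LK LD1_c2 LD2_c8 LD3_c13)) :=
  Lre_d IH (LK LD1_c4 LD2_c21 LD3_c26) (LK LD1_c2 LD2_c8 LD3_c13) Lrfl Lrfl
theorem f29125 : Led Lsl_ct (LP (LK LD1_c8 LD2_c40 LD3_c30)) = (LP (LK LD1_c4 LD2_c21 LD3_c26)) :=
  Lre_c IH (LK LD1_c8 LD2_c40 LD3_c30) (LK LD1_c4 LD2_c21 LD3_c26) Lrfl Lrfl
theorem f39058 : Led Lsl_ft (LP (LK LD1_c4 LD2_c21 LD3_c27)) = (LP (LK LD1_c2 LD2_c8 LD3_c13)) :=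
  Lre_f IH (LK LD1_c4 LD2_c21 LD3_c27) (LK LD1_c2 LD2_c8 LD3_c13) Lrfl Lrfl
theorem f39059 : Led Lsl_df (LP (LK LD1_c8 LD2_c40 LD3_c30)) = (LP (LK LD1_c4 LD2_c21 LD3_c27)) :=
  Lgr Lrot157 (Lpr_ct (f29125 IH) (Lpr_dt (f29124 IH) (Lpr_ct (f29123 IH) (Lpr_dt (f29074 IH) (Lpr_ct (K0.f29068 IH) (Lpr_dt (f28794 IH) (Lpr_ct (f29078 IH) (Lpr_af (f39036 IH) (Lpe (f39058 IH) (Lpn (LP (LK LD1_c4 LD2_c21 LD3_c27))))))))))))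
theorem f29138 : Led Lsl_ct (LP (LK LD1_c2 LD2_c8 LD3_c14)) = (LP (LK LD1_c4 LD2_c21 LD3_c27)) :=
  Lre_c IH (LK LD1_c2 LD2_c8 LD3_c14) (LK LD1_c4 LD2_c21 LD3_c27) Lrfl Lrfl
theorem f29137 : Led Lsl_dt (LP (LK LD1_c1 LD2_c1 LD3_c16)) = (LP (LK LD1_c2 LD2_c8 LD3_c14)) :=
  Lre_d IH (LK LD1_c1 LD2_c1 LD3_c16) (LK LD1_c2 LD2_c8 LD3_c14) Lrfl Lrfl
theorem f29128 : Led Lsl_ft (LP (LK LD1_c1 LD2_c1 LD3_c16)) = (LP (LK LD1_c0 LD2_c27 LD3_c60)) :=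
  Lre_f IH (LK LD1_c1 LD2_c1 LD3_c16) (LK LD1_c0 LD2_c27 LD3_c60) Lrfl Lrfl
theorem f39076 : Led Lsl_af (LP (LK LD1_c0 LD2_c54 LD3_c20)) = (LP (LK LD1_c0 LD2_c27 LD3_c60)) :=
  Lgr Lrot109 (Lpe (K0.f29068 IH) (Lpe (f29074 IH) (Lpe (f29123 IH) (Lpe (f29124 IH) (Lpe (f29125 IH) (Lpr_df (f39059 IH) (Lpe (f29138 IH) (Lpe (f29137 IH) (Lpr_ft (f29128 IH) (Lpn (LP (LK LD1_c0 LD2_c27 LD3_c60))))))))))))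
theorem f29129 : Led Lsl_ft (LP (LK LD1_c0 LD2_c54 LD3_c20)) = (LP (LK LD1_c1 LD2_c55 LD3_c11)) :=
  Lre_f IH (LK LD1_c0 LD2_c54 LD3_c20) (LK LD1_c1 LD2_c55 LD3_c11) Lrfl Lrfl
theorem f39085 : Led Lsl_at (LP (LK LD1_c1 LD2_c55 LD3_c11)) = (LP (LK LD1_c1 LD2_c1 LD3_c16)) :=
  Lgr Lrot66 (Lpe (f29129 IH) (Lpr_af (f39076 IH) (Lpe (f29128 IH) (Lpn (LP (LK LD1_c1 LD2_c1 LD3_c16))))))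
theorem f29139 : Led Lsl_dt (LP (LK LD1_c3 LD2_c56 LD3_c55)) = (LP (LK LD1_c1 LD2_c55 LD3_c11)) :=
  Lre_d IH (LK LD1_c3 LD2_c56 LD3_c55) (LK LD1_c1 LD2_c55 LD3_c11) Lrfl Lrfl
theorem f39089 : Led Lsl_af (LP (LK LD1_c3 LD2_c56 LD3_c55)) = (LP (LK LD1_c2 LD2_c8 LD3_c14)) :=
  Lgr Lrot117 (Lpr_dt (f29139 IH) (Lpr_at (f39085 IH) (Lpr_dt (f29137 IH) (Lpn (LP (LK LD1_c2 LD2_c8 LD3_c14))))))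
theorem f39093 : Led Lsl_et (LP (LK LD1_c3 LD2_c56 LD3_c55)) = (LP (LK LD1_c7 LD2_c55 LD3_c29)) :=
  Lre_e IH (LK LD1_c3 LD2_c56 LD3_c55) (LK LD1_c7 LD2_c55 LD3_c29) Lrfl Lrfl
theorem f39094 : Led Lsl_et (LP (LK LD1_c4 LD2_c21 LD3_c28)) = (LP (LK LD1_c2 LD2_c8 LD3_c14)) :=
  Lre_e IH (LK LD1_c4 LD2_c21 LD3_c28) (LK LD1_c2 LD2_c8 LD3_c14) Lrfl Lrfl
theorem f39095 : Led Lsl_at (LP (LK LD1_c7 LD2_c55 LD3_c29)) = (LP (LK LD1_c4 LD2_c21 LD3_c28)) :=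
  Lgr Lrot80 (Lpe (f39093 IH) (Lpr_af (f39089 IH) (Lpe (f39094 IH) (Lpn (LP (LK LD1_c4 LD2_c21 LD3_c28))))))
theorem f39100 : Led Lsl_ft (LP (LK LD1_c3 LD2_c57 LD3_c10)) = (LP (LK LD1_c7 LD2_c55 LD3_c29)) :=
  Lre_f IH (LK LD1_c3 LD2_c57 LD3_c10) (LK LD1_c7 LD2_c55 LD3_c29) Lrfl Lrfl
theorem f39101 : Led Lsl_ft (LP (LK LD1_c4 LD2_c21 LD3_c28)) = (LP (LK LD1_c2 LD2_c8 LD3_c34)) :=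
  Lre_f IH (LK LD1_c4 LD2_c21 LD3_c28) (LK LD1_c2 LD2_c8 LD3_c34) Lrfl Lrfl
theorem f39102 : Led Lsl_af (LP (LK LD1_c3 LD2_c57 LD3_c10)) = (LP (LK LD1_c2 LD2_c8 LD3_c34)) :=
  Lgr Lrot45 (Lpr_ft (f39100 IH) (Lpr_at (f39095 IH) (Lpr_ft (f39101 IH) (Lpn (LP (LK LD1_c2 LD2_c8 LD3_c34))))))
theorem f39117 : Led Lsl_at (LP (LK LD1_c3 LD2_c57 LD3_c10)) = (LP (LK LD1_c2 LD2_c8 LD3_c34)) :=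
  Lgr Lrot100 (Lpr_af (f39102 IH) (Lpn (LP (LK LD1_c2 LD2_c8 LD3_c34))))
theorem f39139 : Led Lsl_et (LP (LK LD1_c1 LD2_c55 LD3_c20)) = (LP (LK LD1_c3 LD2_c57 LD3_c10)) :=
  Lre_e IH (LK LD1_c1 LD2_c55 LD3_c20) (LK LD1_c3 LD2_c57 LD3_c10) Lrfl Lrfl
theorem f39140 : Led Lsl_et (LP (LK LD1_c2 LD2_c8 LD3_c34)) = (LP (LK LD1_c1 LD2_c1 LD3_c25)) :=
  Lre_e IH (LK LD1_c2 LD2_c8 LD3_c34) (LK LD1_c1 LD2_c1 LD3_c25) Lrfl Lrfl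
theorem f39141 : Led Lsl_af (LP (LK LD1_c1 LD2_c55 LD3_c20)) = (LP (LK LD1_c1 LD2_c1 LD3_c25)) :=
  Lgr Lrot50 (Lpr_et (f39139 IH) (Lpr_at (f39117 IH) (Lpr_et (f39140 IH) (Lpn (LP (LK LD1_c1 LD2_c1 LD3_c25))))))
theorem f38987 : Led Lsl_ct (LP (LK LD1_c3 LD2_c57 LD3_c9)) = (LP (LK LD1_c1 LD2_c55 LD3_c20)) :=
  Lre_c IH (LK LD1_c3 LD2_c57 LD3_c9) (LK LD1_c1 LD2_c55 LD3_c20) Lrfl Lrfl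
theorem f39165 : Led Lsl_ft (LP (LK LD1_c0 LD2_c28 LD3_c1)) = (LP (LK LD1_c1 LD2_c1 LD3_c25)) :=
  Lre_f IH (LK LD1_c0 LD2_c28 LD3_c1) (LK LD1_c1 LD2_c1 LD3_c25) Lrfl Lrfl
theorem f39170 : Led Lsl_dt (LP (LK LD1_c0 LD2_c28 LD3_c1)) = (LP (LK LD1_c0 LD2_c12 LD3_c23)) :=
  Lre_d IH (LK LD1_c0 LD2_c28 LD3_c1) (LK LD1_c0 LD2_c12 LD3_c23) Lrfl Lrfl
theorem f28948 : Led Lsl_ct (LP (LK LD1_c0 LD2_c12 LD3_c23)) = (LP (LK LD1_c0 LD2_c5 LD3_c41)) :=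
  Lre_c IH (LK LD1_c0 LD2_c12 LD3_c23) (LK LD1_c0 LD2_c5 LD3_c41) Lrfl Lrfl
theorem f28949 : Led Lsl_dt (LP (LK LD1_c0 LD2_c5 LD3_c41)) = (LP (LK LD1_c0 LD2_c12 LD3_c26)) :=
  Lre_d IH (LK LD1_c0 LD2_c5 LD3_c41) (LK LD1_c0 LD2_c12 LD3_c26) Lrfl Lrfl
theorem f29621 : Led Lsl_ct (LP (LK LD1_c0 LD2_c12 LD3_c26)) = (LP (LK LD1_c0 LD2_c28 LD3_c11)) :=
  Lre_c IH (LK LD1_c0 LD2_c12 LD3_c26) (LK LD1_c0 LD2_c28 LD3_c11) Lrfl Lrfl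
theorem f29616 : Led Lsl_dt (LP (LK LD1_c0 LD2_c28 LD3_c11)) = (LP (LK LD1_c1 LD2_c1 LD3_c45)) :=
  Lre_d IH (LK LD1_c0 LD2_c28 LD3_c11) (LK LD1_c1 LD2_c1 LD3_c45) Lrfl Lrfl
theorem f39004 : Led Lsl_ct (LP (LK LD1_c1 LD2_c1 LD3_c45)) = (LP (LK LD1_c2 LD2_c9 LD3_c13)) :=
  Lre_c IH (LK LD1_c1 LD2_c1 LD3_c45) (LK LD1_c2 LD2_c9 LD3_c13) Lrfl Lrfl
theorem f39171 : Led Lsl_df (LP (LK LD1_c3 LD2_c57 LD3_c9)) = (LP (LK LD1_c2 LD2_c9 LD3_c13)) :=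
  Lgr Lrot177 (Lpr_ct (f38987 IH) (Lpr_af (f39141 IH) (Lpe (f39165 IH) (Lpr_dt (f39170 IH) (Lpr_ct (f28948 IH) (Lpr_dt (f28949 IH) (Lpr_ct (f29621 IH) (Lpr_dt (f29616 IH) (Lpr_ct (f39004 IH) (Lpn (LP (LK LD1_c2 LD2_c9 LD3_c13))))))))))))
theorem f39005 : Led Lsl_dt (LP (LK LD1_c1 LD2_c55 LD3_c20)) = (LP (LK LD1_c0 LD2_c54 LD3_c24)) :=
  Lre_d IH (LK LD1_c1 LD2_c55 LD3_c20) (LK LD1_c0 LD2_c54 LD3_c24) Lrfl Lrfl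
theorem f39176 : Led Lsl_ct (LP (LK LD1_c0 LD2_c54 LD3_c24)) = (LP (LK LD1_c0 LD2_c24 LD3_c36)) :=
  Lre_c IH (LK LD1_c0 LD2_c54 LD3_c24) (LK LD1_c0 LD2_c24 LD3_c36) Lrfl Lrfl
theorem f39177 : Led Lsl_dt (LP (LK LD1_c0 LD2_c24 LD3_c36)) = (LP (LK LD1_c0 LD2_c54 LD3_c30)) :=
  Lre_d IH (LK LD1_c0 LD2_c24 LD3_c36) (LK LD1_c0 LD2_c54 LD3_c30) Lrfl Lrfl
theorem f38967 : Led Lsl_ct (LP (LK LD1_c0 LD2_c54 LD3_c30)) = (LP (LK LD1_c1 LD2_c55 LD3_c33)) :=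
  Lre_c IH (LK LD1_c0 LD2_c54 LD3_c30) (LK LD1_c1 LD2_c55 LD3_c33) Lrfl Lrfl
theorem f39187 : Led Lsl_ft (LP (LK LD1_c0 LD2_c28 LD3_c11)) = (LP (LK LD1_c1 LD2_c1 LD3_c46)) :=
  Lre_f IH (LK LD1_c0 LD2_c28 LD3_c11) (LK LD1_c1 LD2_c1 LD3_c46) Lrfl Lrfl
theorem f39188 : Led Lsl_af (LP (LK LD1_c1 LD2_c55 LD3_c33)) = (LP (LK LD1_c1 LD2_c1 LD3_c46)) :=
  Lgr Lrot109 (Lpe (f38967 IH) (Lpe (f39177 IH) (Lpe (f39176 IH) (Lpe (f39005 IH) (Lpe (f38987 IH) (Lpr_df (f39171 IH) (Lpe (f39004 IH) (Lpe (f29616 IH) (Lpr_ft (f39187 IH) (Lpn (LP (LK LD1_c1 LD2_c1 LD3_c46))))))))))))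
theorem f39196 : Led Lsl_ct (LP (LK LD1_c0 LD2_c28 LD3_c12)) = (LP (LK LD1_c1 LD2_c1 LD3_c46)) :=
  Lre_c IH (LK LD1_c0 LD2_c28 LD3_c12) (LK LD1_c1 LD2_c1 LD3_c46) Lrfl Lrfl
theorem f39197 : Led Lsl_at (LP (LK LD1_c0 LD2_c54 LD3_c30)) = (LP (LK LD1_c0 LD2_c28 LD3_c12)) :=
  Lgr Lrot107 (Lpe (f38940 IH) (Lpr_af (f39188 IH) (Lpe (f39196 IH) (Lpn (LP (LK LD1_c0 LD2_c28 LD3_c12))))))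
theorem f39240 : Led Lsl_ft (LP (LK LD1_c0 LD2_c24 LD3_c35)) = (LP (LK LD1_c0 LD2_c54 LD3_c30)) :=
  Lre_f IH (LK LD1_c0 LD2_c24 LD3_c35) (LK LD1_c0 LD2_c54 LD3_c30) Lrfl Lrfl
theorem f35597 : Led Lsl_dt (LP (LK LD1_c0 LD2_c24 LD3_c35)) = (LP (LK LD1_c0 LD2_c10 LD3_c57)) :=
  Lre_d IH (LK LD1_c0 LD2_c24 LD3_c35) (LK LD1_c0 LD2_c10 LD3_c57) Lrfl Lrfl
theorem f39246 : Led Lsl_ct (LP (LK LD1_c0 LD2_c10 LD3_c57)) = (LP (LK LD1_c0 LD2_c24 LD3_c33)) :=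
  Lre_c IH (LK LD1_c0 LD2_c10 LD3_c57) (LK LD1_c0 LD2_c24 LD3_c33) Lrfl Lrfl
theorem f31135 : Led Lsl_dt (LP (LK LD1_c0 LD2_c24 LD3_c33)) = (LP (LK LD1_c0 LD2_c54 LD3_c23)) :=
  Lre_d IH (LK LD1_c0 LD2_c24 LD3_c33) (LK LD1_c0 LD2_c54 LD3_c23) Lrfl Lrfl
theorem f39027 : Led Lsl_ct (LP (LK LD1_c0 LD2_c54 LD3_c23)) = (LP (LK LD1_c1 LD2_c55 LD3_c19)) :=
  Lre_c IH (LK LD1_c0 LD2_c54 LD3_c23) (LK LD1_c1 LD2_c55 LD3_c19) Lrfl Lrfl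
theorem f39181 : Led Lsl_dt (LP (LK LD1_c1 LD2_c55 LD3_c19)) = (LP (LK LD1_c3 LD2_c57 LD3_c8)) :=
  Lre_d IH (LK LD1_c1 LD2_c55 LD3_c19) (LK LD1_c3 LD2_c57 LD3_c8) Lrfl Lrfl
theorem f39247 : Led Lsl_ct (LP (LK LD1_c1 LD2_c1 LD3_c46)) = (LP (LK LD1_c0 LD2_c28 LD3_c12)) :=
  Lre_c IH (LK LD1_c1 LD2_c1 LD3_c46) (LK LD1_c0 LD2_c28 LD3_c12) Lrfl Lrfl
theorem f39199 : Led Lsl_dt (LP (LK LD1_c2 LD2_c9 LD3_c15)) = (LP (LK LD1_c1 LD2_c1 LD3_c46)) :=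
  Lre_d IH (LK LD1_c2 LD2_c9 LD3_c15) (LK LD1_c1 LD2_c1 LD3_c46) Lrfl Lrfl
theorem f39248 : Led Lsl_ct (LP (LK LD1_c3 LD2_c57 LD3_c8)) = (LP (LK LD1_c2 LD2_c9 LD3_c15)) :=
  Lgr Lrot53 (Lpe (f39181 IH) (Lpe (f39027 IH) (Lpe (f31135 IH) (Lpe (f39246 IH) (Lpe (f35597 IH) (Lpr_ft (f39240 IH) (Lpr_at (f39197 IH) (Lpe (f39247 IH) (Lpe (f39199 IH) (Lpn (LP (LK LD1_c2 LD2_c9 LD3_c15))))))))))))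
theorem f39265 : Led Lsl_ft (LP (LK LD1_c2 LD2_c9 LD3_c15)) = (LP (LK LD1_c1 LD2_c1 LD3_c45)) :=
  Lre_f IH (LK LD1_c2 LD2_c9 LD3_c15) (LK LD1_c1 LD2_c1 LD3_c45) Lrfl Lrfl
theorem f39266 : Led Lsl_ff (LP (LK LD1_c3 LD2_c57 LD3_c8)) = (LP (LK LD1_c2 LD2_c9 LD3_c13)) :=
  Lgr Lrot23 (Lpr_ct (f39248 IH) (Lpr_ft (f39265 IH) (Lpr_ct (f39004 IH) (Lpn (LP (LK LD1_c2 LD2_c9 LD3_c13))))))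
theorem f38964 : Led Lsl_dt (LP (LK LD1_c1 LD2_c55 LD3_c33)) = (LP (LK LD1_c3 LD2_c57 LD3_c36)) :=
  Lre_d IH (LK LD1_c1 LD2_c55 LD3_c33) (LK LD1_c3 LD2_c57 LD3_c36) Lrfl Lrfl
theorem f38938 : Led Lsl_ct (LP (LK LD1_c3 LD2_c57 LD3_c36)) = (LP (LK LD1_c2 LD2_c8 LD3_c32)) :=
  Lgr Lrot59 (Lpr_cf (f38931 IH) (Lpn (LP (LK LD1_c2 LD2_c8 LD3_c32))))
theorem f39287 : Led Lsl_at (LP (LK LD1_c3 LD2_c57 LD3_c8)) = (LP (LK LD1_c2 LD2_c8 LD3_c32)) :=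
  Lgr Lrot33 (Lpr_ff (f39266 IH) (Lpe (f39171 IH) (Lpr_ct (f38987 IH) (Lpr_dt (f39005 IH) (Lpr_ct (f39176 IH) (Lpr_dt (f39177 IH) (Lpr_ct (f38967 IH) (Lpr_dt (f38964 IH) (Lpr_ct (f38938 IH) (Lpn (LP (LK LD1_c2 LD2_c8 LD3_c32))))))))))))
theorem f39261 : Led Lsl_et (LP (LK LD1_c7 LD2_c55 LD3_c61)) = (LP (LK LD1_c3 LD2_c57 LD3_c8)) :=
  Lre_e IH (LK LD1_c7 LD2_c55 LD3_c61) (LK LD1_c3 LD2_c57 LD3_c8) Lrfl Lrfl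
theorem f39293 : Led Lsl_et (LP (LK LD1_c2 LD2_c8 LD3_c32)) = (LP (LK LD1_c4 LD2_c22 LD3_c13)) :=
  Lre_e IH (LK LD1_c2 LD2_c8 LD3_c32) (LK LD1_c4 LD2_c22 LD3_c13) Lrfl Lrfl
theorem f39294 : Led Lsl_af (LP (LK LD1_c7 LD2_c55 LD3_c61)) = (LP (LK LD1_c4 LD2_c22 LD3_c13)) :=
  Lgr Lrot50 (Lpr_et (f39261 IH) (Lpr_at (f39287 IH) (Lpr_et (f39293 IH) (Lpn (LP (LK LD1_c4 LD2_c22 LD3_c13))))))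
theorem f39284 : Led Lsl_ft (LP (LK LD1_c7 LD2_c55 LD3_c61)) = (LP (LK LD1_c14 LD2_c58 LD3_c2)) :=
  Lre_f IH (LK LD1_c7 LD2_c55 LD3_c61) (LK LD1_c14 LD2_c58 LD3_c2) Lrfl Lrfl
theorem f39324 : Led Lsl_ft (LP (LK LD1_c8 LD2_c42 LD3_c23)) = (LP (LK LD1_c4 LD2_c22 LD3_c13)) :=
  Lre_f IH (LK LD1_c8 LD2_c42 LD3_c23) (LK LD1_c4 LD2_c22 LD3_c13) Lrfl Lrfl
theorem f39325 : Led Lsl_at (LP (LK LD1_c14 LD2_c58 LD3_c2)) = (LP (LK LD1_c8 LD2_c42 LD3_c23)) :=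
  Lgr Lrot66 (Lpe (f39284 IH) (Lpr_af (f39294 IH) (Lpe (f39324 IH) (Lpn (LP (LK LD1_c8 LD2_c42 LD3_c23))))))
theorem f39344 : Led Lsl_af (LP (LK LD1_c14 LD2_c58 LD3_c2)) = (LP (LK LD1_c8 LD2_c42 LD3_c23)) :=
  Lgr Lrot0 (Lpr_at (f39325 IH) (Lpn (LP (LK LD1_c8 LD2_c42 LD3_c23))))
theorem f39283 : Led Lsl_et (LP (LK LD1_c3 LD2_c57 LD3_c8)) = (LP (LK LD1_c7 LD2_c55 LD3_c61)) :=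
  Lre_e IH (LK LD1_c3 LD2_c57 LD3_c8) (LK LD1_c7 LD2_c55 LD3_c61) Lrfl Lrfl
theorem f38808 : Led Lsl_et (LP (LK LD1_c4 LD2_c23 LD3_c39)) = (LP (LK LD1_c2 LD2_c9 LD3_c13)) :=
  Lre_e IH (LK LD1_c4 LD2_c23 LD3_c39) (LK LD1_c2 LD2_c9 LD3_c13) Lrfl Lrfl
theorem f16249 : Led Lsl_ft (LP (LK LD1_c8 LD2_c45 LD3_c10)) = (LP (LK LD1_c4 LD2_c23 LD3_c39)) :=
  Lre_f IH (LK LD1_c8 LD2_c45 LD3_c10) (LK LD1_c4 LD2_c23 LD3_c39) Lrfl Lrfl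
theorem f39285 : Led Lsl_et (LP (LK LD1_c14 LD2_c58 LD3_c2)) = (LP (LK LD1_c8 LD2_c45 LD3_c10)) :=
  Lgr Lrot69 (Lpe (f39284 IH) (Lpe (f39283 IH) (Lpr_ff (f39266 IH) (Lpe (f38808 IH) (Lpe (f16249 IH) (Lpn (LP (LK LD1_c8 LD2_c45 LD3_c10))))))))
theorem f39400 : Led Lsl_et (LP (LK LD1_c14 LD2_c59 LD3_c15)) = (LP (LK LD1_c8 LD2_c42 LD3_c23)) :=
  Lgr Lrot123 (Lpr_af (f38811 IH) (Lpe (f39285 IH) (Lpr_af (f39344 IH) (Lpn (LP (LK LD1_c8 LD2_c42 LD3_c23))))))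
theorem f39420 : Led Lsl_ft (LP (LK LD1_c7 LD2_c56 LD3_c35)) = (LP (LK LD1_c14 LD2_c59 LD3_c15)) :=
  Lre_f IH (LK LD1_c7 LD2_c56 LD3_c35) (LK LD1_c14 LD2_c59 LD3_c15) Lrfl Lrfl
theorem f38807 : Led Lsl_et (LP (LK LD1_c3 LD2_c57 LD3_c34)) = (LP (LK LD1_c7 LD2_c56 LD3_c35)) :=
  Lre_e IH (LK LD1_c3 LD2_c57 LD3_c34) (LK LD1_c7 LD2_c56 LD3_c35) Lrfl Lrfl
theorem f38948 : Led Lsl_et (LP (LK LD1_c4 LD2_c22 LD3_c13)) = (LP (LK LD1_c2 LD2_c8 LD3_c32)) :=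
  Lre_e IH (LK LD1_c4 LD2_c22 LD3_c13) (LK LD1_c2 LD2_c8 LD3_c32) Lrfl Lrfl
theorem f39421 : Led Lsl_ff (LP (LK LD1_c3 LD2_c57 LD3_c34)) = (LP (LK LD1_c2 LD2_c8 LD3_c32)) :=
  Lgr Lrot72 (Lpr_et (f38807 IH) (Lpr_ft (f39420 IH) (Lpr_et (f39400 IH) (Lpr_ft (f39324 IH) (Lpr_et (f38948 IH) (Lpn (LP (LK LD1_c2 LD2_c8 LD3_c32))))))))
theorem f39423 : Led Lsl_at (LP (LK LD1_c3 LD2_c57 LD3_c34)) = (LP (LK LD1_c2 LD2_c9 LD3_c13)) :=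
  Lgr Lrot66 (Lpr_ff (f39421 IH) (Lpe (f39287 IH) (Lpr_ff (f39266 IH) (Lpn (LP (LK LD1_c2 LD2_c9 LD3_c13))))))
theorem f38951 : Led Lsl_ct (LP (LK LD1_c1 LD2_c55 LD3_c32)) = (LP (LK LD1_c3 LD2_c57 LD3_c34)) :=
  Lre_c IH (LK LD1_c1 LD2_c55 LD3_c32) (LK LD1_c3 LD2_c57 LD3_c34) Lrfl Lrfl
theorem f38945 : Led Lsl_ct (LP (LK LD1_c2 LD2_c9 LD3_c13)) = (LP (LK LD1_c1 LD2_c1 LD3_c45)) :=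
  Lre_c IH (LK LD1_c2 LD2_c9 LD3_c13) (LK LD1_c1 LD2_c1 LD3_c45) Lrfl Lrfl
theorem f39879 : Led Lsl_af (LP (LK LD1_c1 LD2_c55 LD3_c32)) = (LP (LK LD1_c1 LD2_c1 LD3_c45)) :=
  Lgr Lrot68 (Lpr_ct (f38951 IH) (Lpr_at (f39423 IH) (Lpr_ct (f38945 IH) (Lpn (LP (LK LD1_c1 LD2_c1 LD3_c45))))))
theorem f39887 : Led Lsl_et (LP (LK LD1_c1 LD2_c55 LD3_c32)) = (LP (LK LD1_c3 LD2_c57 LD3_c35)) :=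
  Lre_e IH (LK LD1_c1 LD2_c55 LD3_c32) (LK LD1_c3 LD2_c57 LD3_c35) Lrfl Lrfl
theorem f39888 : Led Lsl_et (LP (LK LD1_c2 LD2_c9 LD3_c14)) = (LP (LK LD1_c1 LD2_c1 LD3_c45)) :=
  Lre_e IH (LK LD1_c2 LD2_c9 LD3_c14) (LK LD1_c1 LD2_c1 LD3_c45) Lrfl Lrfl
theorem f39889 : Led Lsl_at (LP (LK LD1_c3 LD2_c57 LD3_c35)) = (LP (LK LD1_c2 LD2_c9 LD3_c14)) :=
  Lgr Lrot80 (Lpe (f39887 IH) (Lpr_af (f39879 IH) (Lpe (f39888 IH) (Lpn (LP (LK LD1_c2 LD2_c9 LD3_c14))))))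
theorem f39900 : Led Lsl_bt (LP (LK LD1_c7 LD2_c56 LD3_c28)) = (LP (LK LD1_c3 LD2_c57 LD3_c35)) :=
  Lre_b IH (LK LD1_c7 LD2_c56 LD3_c28) (LK LD1_c3 LD2_c57 LD3_c35) Lrfl Lrfl
theorem f39901 : Led Lsl_at (LP (LK LD1_c14 LD2_c58 LD3_c43)) = (LP (LK LD1_c7 LD2_c56 LD3_c28)) :=
  Lre_a IH (LK LD1_c14 LD2_c58 LD3_c43) (LK LD1_c7 LD2_c56 LD3_c28) Lrfl Lrfl
theorem f39902 : Led Lsl_bt (LP (LK LD1_c2 LD2_c9 LD3_c14)) = (LP (LK LD1_c4 LD2_c23 LD3_c31)) :=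
  Lre_b IH (LK LD1_c2 LD2_c9 LD3_c14) (LK LD1_c4 LD2_c23 LD3_c31) Lrfl Lrfl
theorem f39903 : Led Lsl_at (LP (LK LD1_c4 LD2_c23 LD3_c31)) = (LP (LK LD1_c8 LD2_c44 LD3_c34)) :=
  Lre_a IH (LK LD1_c4 LD2_c23 LD3_c31) (LK LD1_c8 LD2_c44 LD3_c34) Lrfl Lrfl
theorem f39904 : Led Lsl_bf (LP (LK LD1_c14 LD2_c58 LD3_c43)) = (LP (LK LD1_c8 LD2_c44 LD3_c34)) :=
  Lgr Lrot81 (Lpr_at (f39901 IH) (Lpr_bt (f39900 IH) (Lpr_at (f39889 IH) (Lpr_bt (f39902 IH) (Lpr_at (f39903 IH) (Lpn (LP (LK LD1_c8 LD2_c44 LD3_c34))))))))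
theorem f39920 : Led Lsl_dt (LP (LK LD1_c14 LD2_c58 LD3_c43)) = (LP (LK LD1_c7 LD2_c57 LD3_c14)) :=
  Lre_d IH (LK LD1_c14 LD2_c58 LD3_c43) (LK LD1_c7 LD2_c57 LD3_c14) Lrfl Lrfl
theorem f39921 : Led Lsl_dt (LP (LK LD1_c4 LD2_c26 LD3_c9)) = (LP (LK LD1_c8 LD2_c44 LD3_c34)) :=
  Lre_d IH (LK LD1_c4 LD2_c26 LD3_c9) (LK LD1_c8 LD2_c44 LD3_c34) Lrfl Lrfl
theorem f39922 : Led Lsl_bt (LP (LK LD1_c7 LD2_c57 LD3_c14)) = (LP (LK LD1_c4 LD2_c26 LD3_c9)) :=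
  Lgr Lrot95 (Lpe (f39920 IH) (Lpr_bf (f39904 IH) (Lpe (f39921 IH) (Lpn (LP (LK LD1_c4 LD2_c26 LD3_c9))))))
theorem f39940 : Led Lsl_ft (LP (LK LD1_c15 LD2_c0 LD3_c3)) = (LP (LK LD1_c7 LD2_c57 LD3_c14)) :=
  Lre_f IH (LK LD1_c15 LD2_c0 LD3_c3) (LK LD1_c7 LD2_c57 LD3_c14) Lrfl Lrfl
theorem f39941 : Led Lsl_ft (LP (LK LD1_c4 LD2_c26 LD3_c9)) = (LP (LK LD1_c8 LD2_c49 LD3_c42)) :=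
  Lre_f IH (LK LD1_c4 LD2_c26 LD3_c9) (LK LD1_c8 LD2_c49 LD3_c42) Lrfl Lrfl
theorem f39942 : Led Lsl_bf (LP (LK LD1_c15 LD2_c0 LD3_c3)) = (LP (LK LD1_c8 LD2_c49 LD3_c42)) :=
  Lgr Lrot61 (Lpr_ft (f39940 IH) (Lpr_bt (f39922 IH) (Lpr_ft (f39941 IH) (Lpn (LP (LK LD1_c8 LD2_c49 LD3_c42))))))
theorem f39948 : Led Lsl_at (LP (LK LD1_c15 LD2_c0 LD3_c3)) = (LP (LK LD1_c7 LD2_c57 LD3_c24)) :=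
  Lre_a IH (LK LD1_c15 LD2_c0 LD3_c3) (LK LD1_c7 LD2_c57 LD3_c24) Lrfl Lrfl
theorem f39949 : Led Lsl_bt (LP (LK LD1_c7 LD2_c57 LD3_c24)) = (LP (LK LD1_c3 LD2_c58 LD3_c2)) :=
  Lre_b IH (LK LD1_c7 LD2_c57 LD3_c24) (LK LD1_c3 LD2_c58 LD3_c2) Lrfl Lrfl
theorem f39950 : Led Lsl_at (LP (LK LD1_c4 LD2_c26 LD3_c24)) = (LP (LK LD1_c8 LD2_c49 LD3_c42)) :=
  Lre_a IH (LK LD1_c4 LD2_c26 LD3_c24) (LK LD1_c8 LD2_c49 LD3_c42) Lrfl Lrfl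
theorem f16443 : Led Lsl_bt (LP (LK LD1_c2 LD2_c10 LD3_c34)) = (LP (LK LD1_c4 LD2_c26 LD3_c24)) :=
  Lre_b IH (LK LD1_c2 LD2_c10 LD3_c34) (LK LD1_c4 LD2_c26 LD3_c24) Lrfl Lrfl
theorem f39951 : Led Lsl_at (LP (LK LD1_c3 LD2_c58 LD3_c2)) = (LP (LK LD1_c2 LD2_c10 LD3_c34)) :=
  Lgr Lrot67 (Lpe (f39949 IH) (Lpe (f39948 IH) (Lpr_bf (f39942 IH) (Lpe (f39950 IH) (Lpe (f16443 IH) (Lpn (LP (LK LD1_c2 LD2_c10 LD3_c34))))))))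
theorem f16419 : Led Lsl_et (LP (LK LD1_c2 LD2_c10 LD3_c34)) = (LP (LK LD1_c4 LD2_c26 LD3_c51)) :=
  Lre_e IH (LK LD1_c2 LD2_c10 LD3_c34) (LK LD1_c4 LD2_c26 LD3_c51) Lrfl Lrfl
theorem f16276 : Led Lsl_dt (LP (LK LD1_c8 LD2_c51 LD3_c26)) = (LP (LK LD1_c4 LD2_c26 LD3_c51)) :=
  Lre_d IH (LK LD1_c8 LD2_c51 LD3_c26) (LK LD1_c4 LD2_c26 LD3_c51) Lrfl Lrfl
theorem f16345 : Led Lsl_dt (LP (LK LD1_c4 LD2_c26 LD3_c42)) = (LP (LK LD1_c8 LD2_c50 LD3_c60)) :=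
  Lre_d IH (LK LD1_c4 LD2_c26 LD3_c42) (LK LD1_c8 LD2_c50 LD3_c60) Lrfl Lrfl
theorem f16346 : Led Lsl_at (LP (LK LD1_c4 LD2_c26 LD3_c51)) = (LP (LK LD1_c4 LD2_c26 LD3_c42)) :=
  Lgr Lrot51 (Lpe (f16276 IH) (Lpr_af (f16334 IH) (Lpe (f16345 IH) (Lpn (LP (LK LD1_c4 LD2_c26 LD3_c42))))))
theorem f39982 : Led Lsl_ef (LP (LK LD1_c3 LD2_c58 LD3_c2)) = (LP (LK LD1_c4 LD2_c26 LD3_c42)) :=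
  Lgr Lrot20 (Lpr_at (f39951 IH) (Lpr_et (f16419 IH) (Lpr_at (f16346 IH) (Lpn (LP (LK LD1_c4 LD2_c26 LD3_c42))))))
theorem f40003 : Led Lsl_et (LP (LK LD1_c3 LD2_c58 LD3_c2)) = (LP (LK LD1_c4 LD2_c26 LD3_c42)) :=
  Lgr Lrot87 (Lpr_ef (f39982 IH) (Lpn (LP (LK LD1_c4 LD2_c26 LD3_c42))))
theorem f38714 : Led Lsl_ft (LP (LK LD1_c1 LD2_c55 LD3_c46)) = (LP (LK LD1_c3 LD2_c58 LD3_c2)) :=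
  Lre_f IH (LK LD1_c1 LD2_c55 LD3_c46) (LK LD1_c3 LD2_c58 LD3_c2) Lrfl Lrfl
theorem f16421 : Led Lsl_ft (LP (LK LD1_c4 LD2_c26 LD3_c42)) = (LP (LK LD1_c2 LD2_c10 LD3_c31)) :=
  Lre_f IH (LK LD1_c4 LD2_c26 LD3_c42) (LK LD1_c2 LD2_c10 LD3_c31) Lrfl Lrfl
theorem f16548 : Led Lsl_et (LP (LK LD1_c2 LD2_c10 LD3_c31)) = (LP (LK LD1_c1 LD2_c2 LD3_c17)) :=
  Lre_e IH (LK LD1_c2 LD2_c10 LD3_c31) (LK LD1_c1 LD2_c2 LD3_c17) Lrfl Lrfl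
theorem f40009 : Led Lsl_ff (LP (LK LD1_c0 LD2_c54 LD3_c36)) = (LP (LK LD1_c1 LD2_c2 LD3_c17)) :=
  Lgr Lrot72 (Lpr_et (f37776 IH) (Lpr_ft (f38714 IH) (Lpr_et (f40003 IH) (Lpr_ft (f16421 IH) (Lpr_et (f16548 IH) (Lpn (LP (LK LD1_c1 LD2_c2 LD3_c17))))))))
theorem f37878 : Led Lsl_bt (LP (LK LD1_c0 LD2_c54 LD3_c36)) = (LP (LK LD1_c1 LD2_c55 LD3_c45)) :=
  Lre_b IH (LK LD1_c0 LD2_c54 LD3_c36) (LK LD1_c1 LD2_c55 LD3_c45) Lrfl Lrfl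
theorem f16566 : Led Lsl_bt (LP (LK LD1_c2 LD2_c10 LD3_c30)) = (LP (LK LD1_c1 LD2_c2 LD3_c17)) :=
  Lre_b IH (LK LD1_c2 LD2_c10 LD3_c30) (LK LD1_c1 LD2_c2 LD3_c17) Lrfl Lrfl
theorem f40011 : Led Lsl_ft (LP (LK LD1_c1 LD2_c55 LD3_c45)) = (LP (LK LD1_c2 LD2_c10 LD3_c30)) :=
  Lgr Lrot75 (Lpe (f37878 IH) (Lpr_ff (f40009 IH) (Lpe (f16566 IH) (Lpn (LP (LK LD1_c2 LD2_c10 LD3_c30))))))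
theorem f35527 : Led Lsl_dt (LP (LK LD1_c1 LD2_c55 LD3_c45)) = (LP (LK LD1_c0 LD2_c54 LD3_c35)) :=
  Lre_d IH (LK LD1_c1 LD2_c55 LD3_c45) (LK LD1_c0 LD2_c54 LD3_c35) Lrfl Lrfl
theorem f35526 : Led Lsl_ct (LP (LK LD1_c0 LD2_c54 LD3_c35)) = (LP (LK LD1_c0 LD2_c24 LD3_c55)) :=
  Lre_c IH (LK LD1_c0 LD2_c54 LD3_c35) (LK LD1_c0 LD2_c24 LD3_c55) Lrfl Lrfl
theorem f40035 : Led Lsl_dt (LP (LK LD1_c0 LD2_c24 LD3_c55)) = (LP (LK LD1_c0 LD2_c55 LD3_c2)) :=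
  Lre_d IH (LK LD1_c0 LD2_c24 LD3_c55) (LK LD1_c0 LD2_c55 LD3_c2) Lrfl Lrfl
theorem f36232 : Led Lsl_ct (LP (LK LD1_c0 LD2_c55 LD3_c2)) = (LP (LK LD1_c1 LD2_c56 LD3_c33)) :=
  Lre_c IH (LK LD1_c0 LD2_c55 LD3_c2) (LK LD1_c1 LD2_c56 LD3_c33) Lrfl Lrfl
theorem f40036 : Led Lsl_dt (LP (LK LD1_c1 LD2_c56 LD3_c33)) = (LP (LK LD1_c3 LD2_c59 LD3_c48)) :=
  Lre_d IH (LK LD1_c1 LD2_c56 LD3_c33) (LK LD1_c3 LD2_c59 LD3_c48) Lrfl Lrfl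
theorem f40037 : Led Lsl_ct (LP (LK LD1_c3 LD2_c59 LD3_c48)) = (LP (LK LD1_c8 LD2_c0 LD3_c39)) :=
  Lre_c IH (LK LD1_c3 LD2_c59 LD3_c48) (LK LD1_c8 LD2_c0 LD3_c39) Lrfl Lrfl
theorem f40038 : Led Lsl_dt (LP (LK LD1_c8 LD2_c0 LD3_c39)) = (LP (LK LD1_c8 LD2_c50 LD3_c2)) :=
  Lgr Lrot120 (Lpe (f40037 IH) (Lpe (f40036 IH) (Lpe (f36232 IH) (Lpe (f40035 IH) (Lpe (f35526 IH) (Lpe (f35527 IH) (Lpr_ft (f40011 IH) (Lpr_at (K0.f16142 IH) (Lpe (K0.f16137 IH) (Lpn (LP (LK LD1_c8 LD2_c50 LD3_c2))))))))))))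
theorem f40046 : Led Lsl_df (LP (LK LD1_c8 LD2_c0 LD3_c39)) = (LP (LK LD1_c8 LD2_c50 LD3_c2)) :=
  Lgr Lrot38 (Lpr_dt (f40038 IH) (Lpn (LP (LK LD1_c8 LD2_c50 LD3_c2))))
theorem f40052 : Led Lsl_ct (LP (LK LD1_c8 LD2_c0 LD3_c39)) = (LP (LK LD1_c3 LD2_c59 LD3_c48)) :=
  Lre_c IH (LK LD1_c8 LD2_c0 LD3_c39) (LK LD1_c3 LD2_c59 LD3_c48) Lrfl Lrfl
theorem f40053 : Led Lsl_dt (LP (LK LD1_c3 LD2_c59 LD3_c48)) = (LP (LK LD1_c1 LD2_c56 LD3_c33)) :=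
  Lre_d IH (LK LD1_c3 LD2_c59 LD3_c48) (LK LD1_c1 LD2_c56 LD3_c33) Lrfl Lrfl
theorem f36239 : Led Lsl_ct (LP (LK LD1_c1 LD2_c56 LD3_c33)) = (LP (LK LD1_c0 LD2_c55 LD3_c2)) :=
  Lre_c IH (LK LD1_c1 LD2_c56 LD3_c33) (LK LD1_c0 LD2_c55 LD3_c2) Lrfl Lrfl
theorem f37454 : Led Lsl_dt (LP (LK LD1_c0 LD2_c55 LD3_c2)) = (LP (LK LD1_c0 LD2_c24 LD3_c55)) :=
  Lre_d IH (LK LD1_c0 LD2_c55 LD3_c2) (LK LD1_c0 LD2_c24 LD3_c55) Lrfl Lrfl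
theorem f35530 : Led Lsl_ct (LP (LK LD1_c0 LD2_c24 LD3_c55)) = (LP (LK LD1_c0 LD2_c54 LD3_c35)) :=
  Lre_c IH (LK LD1_c0 LD2_c24 LD3_c55) (LK LD1_c0 LD2_c54 LD3_c35) Lrfl Lrfl
theorem f40026 : Led Lsl_dt (LP (LK LD1_c0 LD2_c54 LD3_c35)) = (LP (LK LD1_c1 LD2_c55 LD3_c45)) :=
  Lre_d IH (LK LD1_c0 LD2_c54 LD3_c35) (LK LD1_c1 LD2_c55 LD3_c45) Lrfl Lrfl
theorem f37879 : Led Lsl_ct (LP (LK LD1_c1 LD2_c55 LD3_c45)) = (LP (LK LD1_c3 LD2_c57 LD3_c60)) :=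
  Lre_c IH (LK LD1_c1 LD2_c55 LD3_c45) (LK LD1_c3 LD2_c57 LD3_c60) Lrfl Lrfl
theorem f40057 : Led Lsl_at (LP (LK LD1_c7 LD2_c57 LD3_c13)) = (LP (LK LD1_c3 LD2_c57 LD3_c60)) :=
  Lre_a IH (LK LD1_c7 LD2_c57 LD3_c13) (LK LD1_c3 LD2_c57 LD3_c60) Lrfl Lrfl
theorem f40058 : Led Lsl_ff (LP (LK LD1_c7 LD2_c57 LD3_c13)) = (LP (LK LD1_c8 LD2_c50 LD3_c2)) :=
  Lgr Lrot103 (Lpr_at (f40057 IH) (Lpe (f37879 IH) (Lpe (f40026 IH) (Lpe (f35530 IH) (Lpe (f37454 IH) (Lpe (f36239 IH) (Lpe (f40053 IH) (Lpe (f40052 IH) (Lpr_df (f40046 IH) (Lpn (LP (LK LD1_c8 LD2_c50 LD3_c2))))))))))))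
theorem f40068 : Led Lsl_ft (LP (LK LD1_c7 LD2_c57 LD3_c13)) = (LP (LK LD1_c8 LD2_c50 LD3_c2)) :=
  Lgr Lrot48 (Lpr_ff (f40058 IH) (Lpn (LP (LK LD1_c8 LD2_c50 LD3_c2))))
theorem f16133 : Led Lsl_bf (LP (LK LD1_c13 LD2_c7 LD3_c13)) = (LP (LK LD1_c8 LD2_c50 LD3_c2)) :=
  Lgr Lrot24 (Lpr_bt (K0.f16129 IH) (Lpn (LP (LK LD1_c8 LD2_c50 LD3_c2))))
theorem f14746 : Led Lsl_at (LP (LK LD1_c14 LD2_c19 LD3_c50)) = (LP (LK LD1_c7 LD2_c36 LD3_c18)) :=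
  Lre_a IH (LK LD1_c14 LD2_c19 LD3_c50) (LK LD1_c7 LD2_c36 LD3_c18) Lrfl Lrfl
theorem f16102 : Led Lsl_ft (LP (LK LD1_c13 LD2_c7 LD3_c13)) = (LP (LK LD1_c14 LD2_c19 LD3_c50)) :=
  Lgr Lrot142 (Lpr_dt (K0.f16064 IH) (Lpr_ct (K0.f16063 IH) (Lpr_dt (K0.f16062 IH) (Lpe (K0.f15914 IH) (Lpr_dt (K0.f16059 IH) (Lpr_ct (K0.f16060 IH) (Lpr_dt (K0.f16061 IH) (Lpr_ct (K0.f16095 IH) (Lpe (f14746 IH) (Lpn (LP (LK LD1_c14 LD2_c19 LD3_c50))))))))))))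
theorem f40071 : Led Lsl_bf (LP (LK LD1_c7 LD2_c57 LD3_c13)) = (LP (LK LD1_c14 LD2_c19 LD3_c50)) :=
  Lgr Lrot61 (Lpr_ft (f40068 IH) (Lpe (f16133 IH) (Lpr_ft (f16102 IH) (Lpn (LP (LK LD1_c14 LD2_c19 LD3_c50))))))
theorem f40064 : Led Lsl_ct (LP (LK LD1_c7 LD2_c57 LD3_c13)) = (LP (LK LD1_c3 LD2_c57 LD3_c57)) :=
  Lre_c IH (LK LD1_c7 LD2_c57 LD3_c13) (LK LD1_c3 LD2_c57 LD3_c57) Lrfl Lrfl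
theorem f14748 : Led Lsl_ct (LP (LK LD1_c2 LD2_c10 LD3_c21)) = (LP (LK LD1_c4 LD2_c26 LD3_c8)) :=
  Lre_c IH (LK LD1_c2 LD2_c10 LD3_c21) (LK LD1_c4 LD2_c26 LD3_c8) Lrfl Lrfl
theorem f40076 : Led Lsl_bt (LP (LK LD1_c3 LD2_c57 LD3_c57)) = (LP (LK LD1_c2 LD2_c10 LD3_c21)) :=
  Lgr Lrot128 (Lpe (f40064 IH) (Lpr_bf (f40071 IH) (Lpe (K0.f14727 IH) (Lpe (K0.f14747 IH) (Lpe (f14748 IH) (Lpn (LP (LK LD1_c2 LD2_c10 LD3_c21))))))))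
theorem f40080 : Led Lsl_dt (LP (LK LD1_c1 LD2_c55 LD3_c44)) = (LP (LK LD1_c3 LD2_c57 LD3_c57)) :=
  Lre_d IH (LK LD1_c1 LD2_c55 LD3_c44) (LK LD1_c3 LD2_c57 LD3_c57) Lrfl Lrfl
theorem f40081 : Led Lsl_dt (LP (LK LD1_c2 LD2_c10 LD3_c21)) = (LP (LK LD1_c1 LD2_c2 LD3_c13)) :=
  Lre_d IH (LK LD1_c2 LD2_c10 LD3_c21) (LK LD1_c1 LD2_c2 LD3_c13) Lrfl Lrfl
theorem f40082 : Led Lsl_bf (LP (LK LD1_c1 LD2_c55 LD3_c44)) = (LP (LK LD1_c1 LD2_c2 LD3_c13)) :=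
  Lgr Lrot93 (Lpr_dt (f40080 IH) (Lpr_bt (f40076 IH) (Lpr_dt (f40081 IH) (Lpn (LP (LK LD1_c1 LD2_c2 LD3_c13))))))
theorem f40094 : Led Lsl_et (LP (LK LD1_c1 LD2_c55 LD3_c44)) = (LP (LK LD1_c3 LD2_c57 LD3_c29)) :=
  Lre_e IH (LK LD1_c1 LD2_c55 LD3_c44) (LK LD1_c3 LD2_c57 LD3_c29) Lrfl Lrfl
theorem f40095 : Led Lsl_et (LP (LK LD1_c2 LD2_c9 LD3_c8)) = (LP (LK LD1_c1 LD2_c2 LD3_c13)) :=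
  Lre_e IH (LK LD1_c2 LD2_c9 LD3_c8) (LK LD1_c1 LD2_c2 LD3_c13) Lrfl Lrfl
theorem f40096 : Led Lsl_bt (LP (LK LD1_c3 LD2_c57 LD3_c29)) = (LP (LK LD1_c2 LD2_c9 LD3_c8)) :=
  Lgr Lrot119 (Lpe (f40094 IH) (Lpr_bf (f40082 IH) (Lpe (f40095 IH) (Lpn (LP (LK LD1_c2 LD2_c9 LD3_c8))))))
theorem f40112 : Led Lsl_ct (LP (LK LD1_c1 LD2_c56 LD3_c16)) = (LP (LK LD1_c3 LD2_c57 LD3_c29)) :=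
  Lre_c IH (LK LD1_c1 LD2_c56 LD3_c16) (LK LD1_c3 LD2_c57 LD3_c29) Lrfl Lrfl
theorem f40113 : Led Lsl_ct (LP (LK LD1_c2 LD2_c9 LD3_c8)) = (LP (LK LD1_c1 LD2_c3 LD3_c47)) :=
  Lre_c IH (LK LD1_c2 LD2_c9 LD3_c8) (LK LD1_c1 LD2_c3 LD3_c47) Lrfl Lrfl
theorem f40114 : Led Lsl_bt (LP (LK LD1_c1 LD2_c3 LD3_c47)) = (LP (LK LD1_c0 LD2_c37 LD3_c5)) :=
  Lre_b IH (LK LD1_c1 LD2_c3 LD3_c47) (LK LD1_c0 LD2_c37 LD3_c5) Lrfl Lrfl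
theorem f40115 : Led Lsl_ct (LP (LK LD1_c0 LD2_c37 LD3_c5)) = (LP (LK LD1_c1 LD2_c10 LD3_c35)) :=
  Lre_c IH (LK LD1_c0 LD2_c37 LD3_c5) (LK LD1_c1 LD2_c10 LD3_c35) Lrfl Lrfl
theorem f40116 : Led Lsl_bf (LP (LK LD1_c1 LD2_c56 LD3_c16)) = (LP (LK LD1_c1 LD2_c10 LD3_c35)) :=
  Lgr Lrot90 (Lpr_ct (f40112 IH) (Lpr_bt (f40096 IH) (Lpr_ct (f40113 IH) (Lpr_bt (f40114 IH) (Lpr_ct (f40115 IH) (Lpn (LP (LK LD1_c1 LD2_c10 LD3_c35))))))))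
theorem f40152 : Led Lsl_ft (LP (LK LD1_c1 LD2_c56 LD3_c16)) = (LP (LK LD1_c3 LD2_c58 LD3_c56)) :=
  Lre_f IH (LK LD1_c1 LD2_c56 LD3_c16) (LK LD1_c3 LD2_c58 LD3_c56) Lrfl Lrfl
theorem f40153 : Led Lsl_ft (LP (LK LD1_c2 LD2_c26 LD3_c27)) = (LP (LK LD1_c1 LD2_c10 LD3_c35)) :=
  Lre_f IH (LK LD1_c2 LD2_c26 LD3_c27) (LK LD1_c1 LD2_c10 LD3_c35) Lrfl Lrfl
theorem f40154 : Led Lsl_bt (LP (LK LD1_c3 LD2_c58 LD3_c56)) = (LP (LK LD1_c2 LD2_c26 LD3_c27)) :=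
  Lgr Lrot35 (Lpe (f40152 IH) (Lpr_bf (f40116 IH) (Lpe (f40153 IH) (Lpn (LP (LK LD1_c2 LD2_c26 LD3_c27))))))
theorem f40171 : Led Lsl_dt (LP (LK LD1_c7 LD2_c59 LD3_c8)) = (LP (LK LD1_c3 LD2_c58 LD3_c56)) :=
  Lre_d IH (LK LD1_c7 LD2_c59 LD3_c8) (LK LD1_c3 LD2_c58 LD3_c56) Lrfl Lrfl
theorem f40172 : Led Lsl_dt (LP (LK LD1_c2 LD2_c26 LD3_c27)) = (LP (LK LD1_c4 LD2_c57 LD3_c1)) :=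
  Lre_d IH (LK LD1_c2 LD2_c26 LD3_c27) (LK LD1_c4 LD2_c57 LD3_c1) Lrfl Lrfl
theorem f40173 : Led Lsl_bf (LP (LK LD1_c7 LD2_c59 LD3_c8)) = (LP (LK LD1_c4 LD2_c57 LD3_c1)) :=
  Lgr Lrot93 (Lpr_dt (f40171 IH) (Lpr_bt (f40154 IH) (Lpr_dt (f40172 IH) (Lpn (LP (LK LD1_c4 LD2_c57 LD3_c1))))))
theorem f40195 : Led Lsl_et (LP (LK LD1_c7 LD2_c59 LD3_c8)) = (LP (LK LD1_c15 LD2_c3 LD3_c50)) :=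
  Lre_e IH (LK LD1_c7 LD2_c59 LD3_c8) (LK LD1_c15 LD2_c3 LD3_c50) Lrfl Lrfl
theorem f40196 : Led Lsl_et (LP (LK LD1_c9 LD2_c45 LD3_c11)) = (LP (LK LD1_c4 LD2_c57 LD3_c1)) :=
  Lre_e IH (LK LD1_c9 LD2_c45 LD3_c11) (LK LD1_c4 LD2_c57 LD3_c1) Lrfl Lrfl
theorem f40197 : Led Lsl_bt (LP (LK LD1_c15 LD2_c3 LD3_c50)) = (LP (LK LD1_c9 LD2_c45 LD3_c11)) :=
  Lgr Lrot119 (Lpe (f40195 IH) (Lpr_bf (f40173 IH) (Lpe (f40196 IH) (Lpn (LP (LK LD1_c9 LD2_c45 LD3_c11))))))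
theorem f40217 : Led Lsl_ft (LP (LK LD1_c24 LD2_c52 LD3_c58)) = (LP (LK LD1_c15 LD2_c3 LD3_c50)) :=
  Lre_f IH (LK LD1_c24 LD2_c52 LD3_c58) (LK LD1_c15 LD2_c3 LD3_c50) Lrfl Lrfl
theorem f40218 : Led Lsl_ft (LP (LK LD1_c9 LD2_c45 LD3_c11)) = (LP (LK LD1_c17 LD2_c54 LD3_c49)) :=
  Lre_f IH (LK LD1_c9 LD2_c45 LD3_c11) (LK LD1_c17 LD2_c54 LD3_c49) Lrfl Lrfl
theorem f40219 : Led Lsl_bf (LP (LK LD1_c24 LD2_c52 LD3_c58)) = (LP (LK LD1_c17 LD2_c54 LD3_c49)) :=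
  Lgr Lrot61 (Lpr_ft (f40217 IH) (Lpr_bt (f40197 IH) (Lpr_ft (f40218 IH) (Lpn (LP (LK LD1_c17 LD2_c54 LD3_c49))))))
theorem f40231 : Led Lsl_et (LP (LK LD1_c24 LD2_c52 LD3_c58)) = (LP (LK LD1_c15 LD2_c4 LD3_c12)) :=
  Lre_e IH (LK LD1_c24 LD2_c52 LD3_c58) (LK LD1_c15 LD2_c4 LD3_c12) Lrfl Lrfl
theorem f40232 : Led Lsl_et (LP (LK LD1_c9 LD2_c45 LD3_c51)) = (LP (LK LD1_c17 LD2_c54 LD3_c49)) :=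
  Lre_e IH (LK LD1_c9 LD2_c45 LD3_c51) (LK LD1_c17 LD2_c54 LD3_c49) Lrfl Lrfl
theorem f40233 : Led Lsl_bt (LP (LK LD1_c15 LD2_c4 LD3_c12)) = (LP (LK LD1_c9 LD2_c45 LD3_c51)) :=
  Lgr Lrot119 (Lpe (f40231 IH) (Lpr_bf (f40219 IH) (Lpe (f40232 IH) (Lpn (LP (LK LD1_c9 LD2_c45 LD3_c51))))))
theorem f40250 : Led Lsl_ft (LP (LK LD1_c7 LD2_c59 LD3_c32)) = (LP (LK LD1_c15 LD2_c4 LD3_c12)) :=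
  Lre_f IH (LK LD1_c7 LD2_c59 LD3_c32) (LK LD1_c15 LD2_c4 LD3_c12) Lrfl Lrfl
theorem f40251 : Led Lsl_ft (LP (LK LD1_c9 LD2_c45 LD3_c51)) = (LP (LK LD1_c4 LD2_c57 LD3_c29)) :=
  Lre_f IH (LK LD1_c9 LD2_c45 LD3_c51) (LK LD1_c4 LD2_c57 LD3_c29) Lrfl Lrfl
theorem f40252 : Led Lsl_bf (LP (LK LD1_c7 LD2_c59 LD3_c32)) = (LP (LK LD1_c4 LD2_c57 LD3_c29)) :=
  Lgr Lrot61 (Lpr_ft (f40250 IH) (Lpr_bt (f40233 IH) (Lpr_ft (f40251 IH) (Lpn (LP (LK LD1_c4 LD2_c57 LD3_c29))))))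
theorem f40272 : Led Lsl_dt (LP (LK LD1_c7 LD2_c59 LD3_c32)) = (LP (LK LD1_c3 LD2_c59 LD3_c40)) :=
  Lre_d IH (LK LD1_c7 LD2_c59 LD3_c32) (LK LD1_c3 LD2_c59 LD3_c40) Lrfl Lrfl
theorem f40273 : Led Lsl_dt (LP (LK LD1_c2 LD2_c27 LD3_c32)) = (LP (LK LD1_c4 LD2_c57 LD3_c29)) :=
  Lre_d IH (LK LD1_c2 LD2_c27 LD3_c32) (LK LD1_c4 LD2_c57 LD3_c29) Lrfl Lrfl
theorem f40274 : Led Lsl_bt (LP (LK LD1_c3 LD2_c59 LD3_c40)) = (LP (LK LD1_c2 LD2_c27 LD3_c32)) :=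
  Lgr Lrot95 (Lpe (f40272 IH) (Lpr_bf (f40252 IH) (Lpe (f40273 IH) (Lpn (LP (LK LD1_c2 LD2_c27 LD3_c32))))))
theorem f40297 : Led Lsl_et (LP (LK LD1_c1 LD2_c56 LD3_c30)) = (LP (LK LD1_c3 LD2_c59 LD3_c40)) :=
  Lre_e IH (LK LD1_c1 LD2_c56 LD3_c30) (LK LD1_c3 LD2_c59 LD3_c40) Lrfl Lrfl
theorem f40298 : Led Lsl_et (LP (LK LD1_c2 LD2_c27 LD3_c32)) = (LP (LK LD1_c1 LD2_c10 LD3_c57)) :=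
  Lre_e IH (LK LD1_c2 LD2_c27 LD3_c32) (LK LD1_c1 LD2_c10 LD3_c57) Lrfl Lrfl
theorem f40299 : Led Lsl_bf (LP (LK LD1_c1 LD2_c56 LD3_c30)) = (LP (LK LD1_c1 LD2_c10 LD3_c57)) :=
  Lgr Lrot96 (Lpr_et (f40297 IH) (Lpr_bt (f40274 IH) (Lpr_et (f40298 IH) (Lpn (LP (LK LD1_c1 LD2_c10 LD3_c57))))))
theorem f40311 : Led Lsl_bt (LP (LK LD1_c1 LD2_c56 LD3_c30)) = (LP (LK LD1_c1 LD2_c10 LD3_c57)) :=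
  Lgr Lrot127 (Lpr_bf (f40299 IH) (Lpn (LP (LK LD1_c1 LD2_c10 LD3_c57))))
theorem f40329 : Led Lsl_dt (LP (LK LD1_c0 LD2_c55 LD3_c1)) = (LP (LK LD1_c1 LD2_c56 LD3_c30)) :=
  Lre_d IH (LK LD1_c0 LD2_c55 LD3_c1) (LK LD1_c1 LD2_c56 LD3_c30) Lrfl Lrfl
theorem f26397 : Led Lsl_dt (LP (LK LD1_c1 LD2_c10 LD3_c57)) = (LP (LK LD1_c0 LD2_c32 LD3_c53)) :=
  Lre_d IH (LK LD1_c1 LD2_c10 LD3_c57) (LK LD1_c0 LD2_c32 LD3_c53) Lrfl Lrfl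
theorem f40697 : Led Lsl_bf (LP (LK LD1_c0 LD2_c55 LD3_c1)) = (LP (LK LD1_c0 LD2_c32 LD3_c53)) :=
  Lgr Lrot93 (Lpr_dt (f40329 IH) (Lpr_bt (f40311 IH) (Lpr_dt (f26397 IH) (Lpn (LP (LK LD1_c0 LD2_c32 LD3_c53))))))
theorem f40665 : Led Lsl_at (LP (LK LD1_c0 LD2_c55 LD3_c1)) = (LP (LK LD1_c0 LD2_c24 LD3_c55)) :=
  Lre_a IH (LK LD1_c0 LD2_c55 LD3_c1) (LK LD1_c0 LD2_c24 LD3_c55) Lrfl Lrfl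
theorem f35525 : Led Lsl_bt (LP (LK LD1_c0 LD2_c24 LD3_c55)) = (LP (LK LD1_c0 LD2_c11 LD3_c4)) :=
  Lre_b IH (LK LD1_c0 LD2_c24 LD3_c55) (LK LD1_c0 LD2_c11 LD3_c4) Lrfl Lrfl
theorem f40700 : Led Lsl_at (LP (LK LD1_c0 LD2_c14 LD3_c46)) = (LP (LK LD1_c0 LD2_c32 LD3_c53)) :=
  Lre_a IH (LK LD1_c0 LD2_c14 LD3_c46) (LK LD1_c0 LD2_c32 LD3_c53) Lrfl Lrfl
theorem f40701 : Led Lsl_bt (LP (LK LD1_c0 LD2_c6 LD3_c47)) = (LP (LK LD1_c0 LD2_c14 LD3_c46)) :=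
  Lre_b IH (LK LD1_c0 LD2_c6 LD3_c47) (LK LD1_c0 LD2_c14 LD3_c46) Lrfl Lrfl
theorem f40702 : Led Lsl_at (LP (LK LD1_c0 LD2_c11 LD3_c4)) = (LP (LK LD1_c0 LD2_c6 LD3_c47)) :=
  Lgr Lrot67 (Lpe (f35525 IH) (Lpe (f40665 IH) (Lpr_bf (f40697 IH) (Lpe (f40700 IH) (Lpe (f40701 IH) (Lpn (LP (LK LD1_c0 LD2_c6 LD3_c47))))))))
theorem f35535 : Led Lsl_et (LP (LK LD1_c0 LD2_c24 LD3_c53)) = (LP (LK LD1_c0 LD2_c11 LD3_c4)) :=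
  Lre_e IH (LK LD1_c0 LD2_c24 LD3_c53) (LK LD1_c0 LD2_c11 LD3_c4) Lrfl Lrfl
theorem f40715 : Led Lsl_et (LP (LK LD1_c0 LD2_c6 LD3_c47)) = (LP (LK LD1_c0 LD2_c14 LD3_c41)) :=
  Lre_e IH (LK LD1_c0 LD2_c6 LD3_c47) (LK LD1_c0 LD2_c14 LD3_c41) Lrfl Lrfl
theorem f40716 : Led Lsl_af (LP (LK LD1_c0 LD2_c24 LD3_c53)) = (LP (LK LD1_c0 LD2_c14 LD3_c41)) :=
  Lgr Lrot50 (Lpr_et (f35535 IH) (Lpr_at (f40702 IH) (Lpr_et (f40715 IH) (Lpn (LP (LK LD1_c0 LD2_c14 LD3_c41))))))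
theorem f28391 : Led Lsl_ct (LP (LK LD1_c0 LD2_c11 LD3_c2)) = (LP (LK LD1_c0 LD2_c24 LD3_c53)) :=
  Lre_c IH (LK LD1_c0 LD2_c11 LD3_c2) (LK LD1_c0 LD2_c24 LD3_c53) Lrfl Lrfl
theorem f6812 : Led Lsl_dt (LP (LK LD1_c0 LD2_c5 LD3_c8)) = (LP (LK LD1_c0 LD2_c11 LD3_c2)) :=
  Lre_d IH (LK LD1_c0 LD2_c5 LD3_c8) (LK LD1_c0 LD2_c11 LD3_c2) Lrfl Lrfl
theorem f28388 : Led Lsl_ct (LP (LK LD1_c0 LD2_c10 LD3_c61)) = (LP (LK LD1_c0 LD2_c5 LD3_c8)) :=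
  Lre_c IH (LK LD1_c0 LD2_c10 LD3_c61) (LK LD1_c0 LD2_c5 LD3_c8) Lrfl Lrfl
theorem f28389 : Led Lsl_dt (LP (LK LD1_c0 LD2_c24 LD3_c44)) = (LP (LK LD1_c0 LD2_c10 LD3_c61)) :=
  Lre_d IH (LK LD1_c0 LD2_c24 LD3_c44) (LK LD1_c0 LD2_c10 LD3_c61) Lrfl Lrfl
theorem f40734 : Led Lsl_ct (LP (LK LD1_c0 LD2_c54 LD3_c47)) = (LP (LK LD1_c0 LD2_c24 LD3_c44)) :=
  Lre_c IH (LK LD1_c0 LD2_c54 LD3_c47) (LK LD1_c0 LD2_c24 LD3_c44) Lrfl Lrfl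
theorem f40735 : Led Lsl_dt (LP (LK LD1_c1 LD2_c56 LD3_c7)) = (LP (LK LD1_c0 LD2_c54 LD3_c47)) :=
  Lre_d IH (LK LD1_c1 LD2_c56 LD3_c7) (LK LD1_c0 LD2_c54 LD3_c47) Lrfl Lrfl
theorem f40731 : Led Lsl_ft (LP (LK LD1_c0 LD2_c32 LD3_c44)) = (LP (LK LD1_c0 LD2_c14 LD3_c41)) :=
  Lre_f IH (LK LD1_c0 LD2_c32 LD3_c44) (LK LD1_c0 LD2_c14 LD3_c41) Lrfl Lrfl
theorem f40736 : Led Lsl_dt (LP (LK LD1_c0 LD2_c32 LD3_c44)) = (LP (LK LD1_c1 LD2_c10 LD3_c40)) :=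
  Lre_d IH (LK LD1_c0 LD2_c32 LD3_c44) (LK LD1_c1 LD2_c10 LD3_c40) Lrfl Lrfl
theorem f40737 : Led Lsl_cf (LP (LK LD1_c1 LD2_c56 LD3_c7)) = (LP (LK LD1_c1 LD2_c10 LD3_c40)) :=
  Lgr Lrot118 (Lpr_dt (f40735 IH) (Lpr_ct (f40734 IH) (Lpr_dt (f28389 IH) (Lpr_ct (f28388 IH) (Lpr_dt (f6812 IH) (Lpr_ct (f28391 IH) (Lpr_af (f40716 IH) (Lpe (f40731 IH) (Lpr_dt (f40736 IH) (Lpn (LP (LK LD1_c1 LD2_c10 LD3_c40))))))))))))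
theorem f40748 : Led Lsl_ct (LP (LK LD1_c0 LD2_c14 LD3_c42)) = (LP (LK LD1_c0 LD2_c32 LD3_c44)) :=
  Lre_c IH (LK LD1_c0 LD2_c14 LD3_c42) (LK LD1_c0 LD2_c32 LD3_c44) Lrfl Lrfl
theorem f40749 : Led Lsl_dt (LP (LK LD1_c0 LD2_c6 LD3_c44)) = (LP (LK LD1_c0 LD2_c14 LD3_c42)) :=
  Lre_d IH (LK LD1_c0 LD2_c6 LD3_c44) (LK LD1_c0 LD2_c14 LD3_c42) Lrfl Lrfl
theorem f40766 : Led Lsl_ft (LP (LK LD1_c0 LD2_c6 LD3_c44)) = (LP (LK LD1_c0 LD2_c3 LD3_c3)) :=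
  Lre_f IH (LK LD1_c0 LD2_c6 LD3_c44) (LK LD1_c0 LD2_c3 LD3_c3) Lrfl Lrfl
theorem f40767 : Led Lsl_af (LP (LK LD1_c0 LD2_c5 LD3_c8)) = (LP (LK LD1_c0 LD2_c3 LD3_c3)) :=
  Lgr Lrot109 (Lpe (f28388 IH) (Lpe (f28389 IH) (Lpe (f40734 IH) (Lpe (f40735 IH) (Lpr_cf (f40737 IH) (Lpe (f40736 IH) (Lpe (f40748 IH) (Lpe (f40749 IH) (Lpr_ft (f40766 IH) (Lpn (LP (LK LD1_c0 LD2_c3 LD3_c3))))))))))))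
theorem f40786 : Led Lsl_ft (LP (LK LD1_c0 LD2_c5 LD3_c8)) = (LP (LK LD1_c0 LD2_c11 LD3_c3)) :=
  Lre_f IH (LK LD1_c0 LD2_c5 LD3_c8) (LK LD1_c0 LD2_c11 LD3_c3) Lrfl Lrfl
theorem f40787 : Led Lsl_at (LP (LK LD1_c0 LD2_c11 LD3_c3)) = (LP (LK LD1_c0 LD2_c6 LD3_c44)) :=
  Lgr Lrot66 (Lpe (f40786 IH) (Lpr_af (f40767 IH) (Lpe (f40766 IH) (Lpn (LP (LK LD1_c0 LD2_c6 LD3_c44))))))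
theorem f40812 : Led Lsl_ct (LP (LK LD1_c0 LD2_c24 LD3_c45)) = (LP (LK LD1_c0 LD2_c11 LD3_c3)) :=
  Lre_c IH (LK LD1_c0 LD2_c24 LD3_c45) (LK LD1_c0 LD2_c11 LD3_c3) Lrfl Lrfl
theorem f40794 : Led Lsl_ct (LP (LK LD1_c0 LD2_c6 LD3_c44)) = (LP (LK LD1_c0 LD2_c14 LD3_c32)) :=
  Lre_c IH (LK LD1_c0 LD2_c6 LD3_c44) (LK LD1_c0 LD2_c14 LD3_c32) Lrfl Lrfl
theorem f40813 : Led Lsl_af (LP (LK LD1_c0 LD2_c24 LD3_c45)) = (LP (LK LD1_c0 LD2_c14 LD3_c32)) :=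
  Lgr Lrot68 (Lpr_ct (f40812 IH) (Lpr_at (f40787 IH) (Lpr_ct (f40794 IH) (Lpn (LP (LK LD1_c0 LD2_c14 LD3_c32))))))
theorem f40839 : Led Lsl_ct (LP (LK LD1_c0 LD2_c11 LD3_c3)) = (LP (LK LD1_c0 LD2_c24 LD3_c45)) :=
  Lre_c IH (LK LD1_c0 LD2_c11 LD3_c3) (LK LD1_c0 LD2_c24 LD3_c45) Lrfl Lrfl
theorem f40815 : Led Lsl_dt (LP (LK LD1_c0 LD2_c24 LD3_c54)) = (LP (LK LD1_c0 LD2_c11 LD3_c3)) :=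
  Lre_d IH (LK LD1_c0 LD2_c24 LD3_c54) (LK LD1_c0 LD2_c11 LD3_c3) Lrfl Lrfl
theorem f40840 : Led Lsl_ct (LP (LK LD1_c0 LD2_c54 LD3_c60)) = (LP (LK LD1_c0 LD2_c24 LD3_c54)) :=
  Lre_c IH (LK LD1_c0 LD2_c54 LD3_c60) (LK LD1_c0 LD2_c24 LD3_c54) Lrfl Lrfl
theorem f40841 : Led Lsl_dt (LP (LK LD1_c1 LD2_c56 LD3_c21)) = (LP (LK LD1_c0 LD2_c54 LD3_c60)) :=
  Lre_d IH (LK LD1_c1 LD2_c56 LD3_c21) (LK LD1_c0 LD2_c54 LD3_c60) Lrfl Lrfl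
theorem f40838 : Led Lsl_ft (LP (LK LD1_c0 LD2_c6 LD3_c40)) = (LP (LK LD1_c0 LD2_c14 LD3_c32)) :=
  Lre_f IH (LK LD1_c0 LD2_c6 LD3_c40) (LK LD1_c0 LD2_c14 LD3_c32) Lrfl Lrfl
theorem f3104 : Led Lsl_dt (LP (LK LD1_c0 LD2_c6 LD3_c40)) = (LP (LK LD1_c0 LD2_c14 LD3_c31)) :=
  Lre_d IH (LK LD1_c0 LD2_c6 LD3_c40) (LK LD1_c0 LD2_c14 LD3_c31) Lrfl Lrfl
theorem f40842 : Led Lsl_ct (LP (LK LD1_c0 LD2_c14 LD3_c31)) = (LP (LK LD1_c0 LD2_c32 LD3_c26)) :=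
  Lre_c IH (LK LD1_c0 LD2_c14 LD3_c31) (LK LD1_c0 LD2_c32 LD3_c26) Lrfl Lrfl
theorem f40843 : Led Lsl_dt (LP (LK LD1_c0 LD2_c32 LD3_c26)) = (LP (LK LD1_c1 LD2_c10 LD3_c8)) :=
  Lre_d IH (LK LD1_c0 LD2_c32 LD3_c26) (LK LD1_c1 LD2_c10 LD3_c8) Lrfl Lrfl
theorem f40844 : Led Lsl_cf (LP (LK LD1_c1 LD2_c56 LD3_c21)) = (LP (LK LD1_c1 LD2_c10 LD3_c8)) :=
  Lgr Lrot116 (Lpr_dt (f40841 IH) (Lpr_ct (f40840 IH) (Lpr_dt (f40815 IH) (Lpr_ct (f40839 IH) (Lpr_af (f40813 IH) (Lpe (f40838 IH) (Lpr_dt (f3104 IH) (Lpr_ct (f40842 IH) (Lpr_dt (f40843 IH) (Lpn (LP (LK LD1_c1 LD2_c10 LD3_c8))))))))))))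
theorem f40853 : Led Lsl_ct (LP (LK LD1_c0 LD2_c3 LD3_c3)) = (LP (LK LD1_c0 LD2_c6 LD3_c40)) :=
  Lre_c IH (LK LD1_c0 LD2_c3 LD3_c3) (LK LD1_c0 LD2_c6 LD3_c40) Lrfl Lrfl
theorem f40783 : Led Lsl_dt (LP (LK LD1_c0 LD2_c6 LD3_c43)) = (LP (LK LD1_c0 LD2_c3 LD3_c3)) :=
  Lre_d IH (LK LD1_c0 LD2_c6 LD3_c43) (LK LD1_c0 LD2_c3 LD3_c3) Lrfl Lrfl
theorem f40854 : Led Lsl_ct (LP (LK LD1_c0 LD2_c14 LD3_c41)) = (LP (LK LD1_c0 LD2_c6 LD3_c43)) :=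
  Lre_c IH (LK LD1_c0 LD2_c14 LD3_c41) (LK LD1_c0 LD2_c6 LD3_c43) Lrfl Lrfl
theorem f40727 : Led Lsl_dt (LP (LK LD1_c0 LD2_c32 LD3_c43)) = (LP (LK LD1_c0 LD2_c14 LD3_c41)) :=
  Lre_d IH (LK LD1_c0 LD2_c32 LD3_c43) (LK LD1_c0 LD2_c14 LD3_c41) Lrfl Lrfl
theorem f40759 : Led Lsl_ft (LP (LK LD1_c0 LD2_c32 LD3_c43)) = (LP (LK LD1_c1 LD2_c10 LD3_c40)) :=
  Lre_f IH (LK LD1_c0 LD2_c32 LD3_c43) (LK LD1_c1 LD2_c10 LD3_c40) Lrfl Lrfl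
theorem f40862 : Led Lsl_af (LP (LK LD1_c1 LD2_c56 LD3_c21)) = (LP (LK LD1_c1 LD2_c10 LD3_c40)) :=
  Lgr Lrot109 (Lpr_cf (f40844 IH) (Lpe (f40843 IH) (Lpe (f40842 IH) (Lpe (f3104 IH) (Lpe (f40853 IH) (Lpe (f40783 IH) (Lpe (f40854 IH) (Lpe (f40727 IH) (Lpr_ft (f40759 IH) (Lpn (LP (LK LD1_c1 LD2_c10 LD3_c40))))))))))))
theorem f40855 : Led Lsl_et (LP (LK LD1_c1 LD2_c56 LD3_c21)) = (LP (LK LD1_c3 LD2_c59 LD3_c16)) :=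
  Lre_e IH (LK LD1_c1 LD2_c56 LD3_c21) (LK LD1_c3 LD2_c59 LD3_c16) Lrfl Lrfl
theorem f40756 : Led Lsl_et (LP (LK LD1_c2 LD2_c26 LD3_c49)) = (LP (LK LD1_c1 LD2_c10 LD3_c40)) :=
  Lre_e IH (LK LD1_c2 LD2_c26 LD3_c49) (LK LD1_c1 LD2_c10 LD3_c40) Lrfl Lrfl
theorem f40874 : Led Lsl_at (LP (LK LD1_c3 LD2_c59 LD3_c16)) = (LP (LK LD1_c2 LD2_c26 LD3_c49)) :=
  Lgr Lrot80 (Lpe (f40855 IH) (Lpr_af (f40862 IH) (Lpe (f40756 IH) (Lpn (LP (LK LD1_c2 LD2_c26 LD3_c49))))))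
theorem f40881 : Led Lsl_ft (LP (LK LD1_c7 LD2_c59 LD3_c50)) = (LP (LK LD1_c3 LD2_c59 LD3_c16)) :=
  Lre_f IH (LK LD1_c7 LD2_c59 LD3_c50) (LK LD1_c3 LD2_c59 LD3_c16) Lrfl Lrfl
theorem f40882 : Led Lsl_ft (LP (LK LD1_c2 LD2_c26 LD3_c49)) = (LP (LK LD1_c4 LD2_c57 LD3_c57)) :=
  Lre_f IH (LK LD1_c2 LD2_c26 LD3_c49) (LK LD1_c4 LD2_c57 LD3_c57) Lrfl Lrfl
theorem f40883 : Led Lsl_af (LP (LK LD1_c7 LD2_c59 LD3_c50)) = (LP (LK LD1_c4 LD2_c57 LD3_c57)) :=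
  Lgr Lrot45 (Lpr_ft (f40881 IH) (Lpr_at (f40874 IH) (Lpr_ft (f40882 IH) (Lpn (LP (LK LD1_c4 LD2_c57 LD3_c57))))))
theorem f40899 : Led Lsl_et (LP (LK LD1_c7 LD2_c59 LD3_c50)) = (LP (LK LD1_c3 LD2_c59 LD3_c15)) :=
  Lre_e IH (LK LD1_c7 LD2_c59 LD3_c50) (LK LD1_c3 LD2_c59 LD3_c15) Lrfl Lrfl
theorem f40900 : Led Lsl_et (LP (LK LD1_c2 LD2_c26 LD3_c48)) = (LP (LK LD1_c4 LD2_c57 LD3_c57)) :=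
  Lre_e IH (LK LD1_c2 LD2_c26 LD3_c48) (LK LD1_c4 LD2_c57 LD3_c57) Lrfl Lrfl
theorem f40901 : Led Lsl_at (LP (LK LD1_c3 LD2_c59 LD3_c15)) = (LP (LK LD1_c2 LD2_c26 LD3_c48)) :=
  Lgr Lrot80 (Lpe (f40899 IH) (Lpr_af (f40883 IH) (Lpe (f40900 IH) (Lpn (LP (LK LD1_c2 LD2_c26 LD3_c48))))))
theorem f40469 : Led Lsl_ft (LP (LK LD1_c1 LD2_c56 LD3_c20)) = (LP (LK LD1_c3 LD2_c59 LD3_c15)) :=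
  Lre_f IH (LK LD1_c1 LD2_c56 LD3_c20) (LK LD1_c3 LD2_c59 LD3_c15) Lrfl Lrfl
theorem f40919 : Led Lsl_ft (LP (LK LD1_c2 LD2_c26 LD3_c48)) = (LP (LK LD1_c1 LD2_c10 LD3_c39)) :=
  Lre_f IH (LK LD1_c2 LD2_c26 LD3_c48) (LK LD1_c1 LD2_c10 LD3_c39) Lrfl Lrfl
theorem f40920 : Led Lsl_af (LP (LK LD1_c1 LD2_c56 LD3_c20)) = (LP (LK LD1_c1 LD2_c10 LD3_c39)) :=
  Lgr Lrot45 (Lpr_ft (f40469 IH) (Lpr_at (f40901 IH) (Lpr_ft (f40919 IH) (Lpn (LP (LK LD1_c1 LD2_c10 LD3_c39))))))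
theorem f40937 : Led Lsl_ct (LP (LK LD1_c1 LD2_c56 LD3_c20)) = (LP (LK LD1_c3 LD2_c59 LD3_c12)) :=
  Lre_c IH (LK LD1_c1 LD2_c56 LD3_c20) (LK LD1_c3 LD2_c59 LD3_c12) Lrfl Lrfl
theorem f40503 : Led Lsl_ct (LP (LK LD1_c2 LD2_c26 LD3_c45)) = (LP (LK LD1_c1 LD2_c10 LD3_c39)) :=
  Lre_c IH (LK LD1_c2 LD2_c26 LD3_c45) (LK LD1_c1 LD2_c10 LD3_c39) Lrfl Lrfl
theorem f40938 : Led Lsl_at (LP (LK LD1_c3 LD2_c59 LD3_c12)) = (LP (LK LD1_c2 LD2_c26 LD3_c45)) :=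
  Lgr Lrot107 (Lpe (f40937 IH) (Lpr_af (f40920 IH) (Lpe (f40503 IH) (Lpn (LP (LK LD1_c2 LD2_c26 LD3_c45))))))
theorem f40971 : Led Lsl_et (LP (LK LD1_c1 LD2_c56 LD3_c19)) = (LP (LK LD1_c3 LD2_c59 LD3_c12)) :=
  Lre_e IH (LK LD1_c1 LD2_c56 LD3_c19) (LK LD1_c3 LD2_c59 LD3_c12) Lrfl Lrfl
theorem f40972 : Led Lsl_et (LP (LK LD1_c2 LD2_c26 LD3_c45)) = (LP (LK LD1_c1 LD2_c10 LD3_c38)) :=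
  Lre_e IH (LK LD1_c2 LD2_c26 LD3_c45) (LK LD1_c1 LD2_c10 LD3_c38) Lrfl Lrfl
theorem f40973 : Led Lsl_af (LP (LK LD1_c1 LD2_c56 LD3_c19)) = (LP (LK LD1_c1 LD2_c10 LD3_c38)) :=
  Lgr Lrot50 (Lpr_et (f40971 IH) (Lpr_at (f40938 IH) (Lpr_et (f40972 IH) (Lpn (LP (LK LD1_c1 LD2_c10 LD3_c38))))))
theorem f40977 : Led Lsl_at (LP (LK LD1_c1 LD2_c56 LD3_c19)) = (LP (LK LD1_c1 LD2_c10 LD3_c38)) :=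
  Lgr Lrot100 (Lpr_af (f40973 IH) (Lpn (LP (LK LD1_c1 LD2_c10 LD3_c38))))
theorem f40983 : Led Lsl_ct (LP (LK LD1_c0 LD2_c32 LD3_c43)) = (LP (LK LD1_c1 LD2_c10 LD3_c38)) :=
  Lre_c IH (LK LD1_c0 LD2_c32 LD3_c43) (LK LD1_c1 LD2_c10 LD3_c38) Lrfl Lrfl
theorem f40991 : Led Lsl_dt (LP (LK LD1_c0 LD2_c14 LD3_c41)) = (LP (LK LD1_c0 LD2_c32 LD3_c43)) :=
  Lre_d IH (LK LD1_c0 LD2_c14 LD3_c41) (LK LD1_c0 LD2_c32 LD3_c43) Lrfl Lrfl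
theorem f40724 : Led Lsl_ct (LP (LK LD1_c0 LD2_c6 LD3_c43)) = (LP (LK LD1_c0 LD2_c14 LD3_c41)) :=
  Lre_c IH (LK LD1_c0 LD2_c6 LD3_c43) (LK LD1_c0 LD2_c14 LD3_c41) Lrfl Lrfl
theorem f40992 : Led Lsl_dt (LP (LK LD1_c0 LD2_c3 LD3_c3)) = (LP (LK LD1_c0 LD2_c6 LD3_c43)) :=
  Lre_d IH (LK LD1_c0 LD2_c3 LD3_c3) (LK LD1_c0 LD2_c6 LD3_c43) Lrfl Lrfl
theorem f40780 : Led Lsl_ct (LP (LK LD1_c0 LD2_c6 LD3_c40)) = (LP (LK LD1_c0 LD2_c3 LD3_c3)) :=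
  Lre_c IH (LK LD1_c0 LD2_c6 LD3_c40) (LK LD1_c0 LD2_c3 LD3_c3) Lrfl Lrfl
theorem f40993 : Led Lsl_dt (LP (LK LD1_c0 LD2_c14 LD3_c31)) = (LP (LK LD1_c0 LD2_c6 LD3_c40)) :=
  Lre_d IH (LK LD1_c0 LD2_c14 LD3_c31) (LK LD1_c0 LD2_c6 LD3_c40) Lrfl Lrfl
theorem f40994 : Led Lsl_ct (LP (LK LD1_c0 LD2_c32 LD3_c26)) = (LP (LK LD1_c0 LD2_c14 LD3_c31)) :=
  Lre_c IH (LK LD1_c0 LD2_c32 LD3_c26) (LK LD1_c0 LD2_c14 LD3_c31) Lrfl Lrfl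
theorem f40995 : Led Lsl_dt (LP (LK LD1_c1 LD2_c10 LD3_c8)) = (LP (LK LD1_c0 LD2_c32 LD3_c26)) :=
  Lre_d IH (LK LD1_c1 LD2_c10 LD3_c8) (LK LD1_c0 LD2_c32 LD3_c26) Lrfl Lrfl
theorem f40996 : Led Lsl_ff (LP (LK LD1_c1 LD2_c56 LD3_c19)) = (LP (LK LD1_c1 LD2_c10 LD3_c8)) :=
  Lgr Lrot103 (Lpr_at (f40977 IH) (Lpe (f40983 IH) (Lpe (f40991 IH) (Lpe (f40724 IH) (Lpe (f40992 IH) (Lpe (f40780 IH) (Lpe (f40993 IH) (Lpe (f40994 IH) (Lpe (f40995 IH) (Lpn (LP (LK LD1_c1 LD2_c10 LD3_c8))))))))))))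
theorem f40979 : Led Lsl_bt (LP (LK LD1_c1 LD2_c56 LD3_c19)) = (LP (LK LD1_c3 LD2_c59 LD3_c11)) :=
  Lre_b IH (LK LD1_c1 LD2_c56 LD3_c19) (LK LD1_c3 LD2_c59 LD3_c11) Lrfl Lrfl
theorem f40850 : Led Lsl_bt (LP (LK LD1_c2 LD2_c25 LD3_c58)) = (LP (LK LD1_c1 LD2_c10 LD3_c8)) :=
  Lre_b IH (LK LD1_c2 LD2_c25 LD3_c58) (LK LD1_c1 LD2_c10 LD3_c8) Lrfl Lrfl
theorem f41000 : Led Lsl_ft (LP (LK LD1_c3 LD2_c59 LD3_c11)) = (LP (LK LD1_c2 LD2_c25 LD3_c58)) :=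
  Lgr Lrot75 (Lpe (f40979 IH) (Lpr_ff (f40996 IH) (Lpe (f40850 IH) (Lpn (LP (LK LD1_c2 LD2_c25 LD3_c58))))))
theorem f41012 : Led Lsl_ff (LP (LK LD1_c3 LD2_c59 LD3_c11)) = (LP (LK LD1_c2 LD2_c25 LD3_c58)) :=
  Lgr Lrot3 (Lpr_ft (f41000 IH) (Lpn (LP (LK LD1_c2 LD2_c25 LD3_c58))))
theorem f41015 : Led Lsl_dt (LP (LK LD1_c1 LD2_c10 LD3_c7)) = (LP (LK LD1_c2 LD2_c25 LD3_c58)) :=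
  Lre_d IH (LK LD1_c1 LD2_c10 LD3_c7) (LK LD1_c2 LD2_c25 LD3_c58) Lrfl Lrfl
theorem f41016 : Led Lsl_ft (LP (LK LD1_c2 LD2_c25 LD3_c59)) = (LP (LK LD1_c1 LD2_c10 LD3_c7)) :=
  Lre_f IH (LK LD1_c2 LD2_c25 LD3_c59) (LK LD1_c1 LD2_c10 LD3_c7) Lrfl Lrfl
theorem f41017 : Led Lsl_dt (LP (LK LD1_c3 LD2_c59 LD3_c11)) = (LP (LK LD1_c2 LD2_c25 LD3_c59)) :=
  Lgr Lrot60 (Lpr_ff (f41012 IH) (Lpe (f41015 IH) (Lpe (f41016 IH) (Lpn (LP (LK LD1_c2 LD2_c25 LD3_c59))))))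
theorem f41024 : Led Lsl_bt (LP (LK LD1_c2 LD2_c25 LD3_c59)) = (LP (LK LD1_c1 LD2_c10 LD3_c9)) :=
  Lre_b IH (LK LD1_c2 LD2_c25 LD3_c59) (LK LD1_c1 LD2_c10 LD3_c9) Lrfl Lrfl
theorem f41025 : Led Lsl_df (LP (LK LD1_c1 LD2_c56 LD3_c19)) = (LP (LK LD1_c1 LD2_c10 LD3_c9)) :=
  Lgr Lrot12 (Lpr_bt (f40979 IH) (Lpr_dt (f41017 IH) (Lpr_bt (f41024 IH) (Lpn (LP (LK LD1_c1 LD2_c10 LD3_c9))))))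
theorem f40982 : Led Lsl_ct (LP (LK LD1_c1 LD2_c56 LD3_c19)) = (LP (LK LD1_c0 LD2_c54 LD3_c59)) :=
  Lre_c IH (LK LD1_c1 LD2_c56 LD3_c19) (LK LD1_c0 LD2_c54 LD3_c59) Lrfl Lrfl
theorem f41038 : Led Lsl_dt (LP (LK LD1_c0 LD2_c54 LD3_c59)) = (LP (LK LD1_c0 LD2_c24 LD3_c53)) :=
  Lre_d IH (LK LD1_c0 LD2_c54 LD3_c59) (LK LD1_c0 LD2_c24 LD3_c53) Lrfl Lrfl
theorem f40723 : Led Lsl_ct (LP (LK LD1_c0 LD2_c24 LD3_c53)) = (LP (LK LD1_c0 LD2_c11 LD3_c2)) :=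
  Lre_c IH (LK LD1_c0 LD2_c24 LD3_c53) (LK LD1_c0 LD2_c11 LD3_c2) Lrfl Lrfl
theorem f27242 : Led Lsl_dt (LP (LK LD1_c0 LD2_c11 LD3_c2)) = (LP (LK LD1_c0 LD2_c5 LD3_c8)) :=
  Lre_d IH (LK LD1_c0 LD2_c11 LD3_c2) (LK LD1_c0 LD2_c5 LD3_c8) Lrfl Lrfl
theorem f28390 : Led Lsl_ct (LP (LK LD1_c0 LD2_c5 LD3_c8)) = (LP (LK LD1_c0 LD2_c10 LD3_c61)) :=
  Lre_c IH (LK LD1_c0 LD2_c5 LD3_c8) (LK LD1_c0 LD2_c10 LD3_c61) Lrfl Lrfl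
theorem f8120 : Led Lsl_dt (LP (LK LD1_c0 LD2_c10 LD3_c61)) = (LP (LK LD1_c0 LD2_c24 LD3_c44)) :=
  Lre_d IH (LK LD1_c0 LD2_c10 LD3_c61) (LK LD1_c0 LD2_c24 LD3_c44) Lrfl Lrfl
theorem f40770 : Led Lsl_ct (LP (LK LD1_c0 LD2_c24 LD3_c44)) = (LP (LK LD1_c0 LD2_c54 LD3_c47)) :=
  Lre_c IH (LK LD1_c0 LD2_c24 LD3_c44) (LK LD1_c0 LD2_c54 LD3_c47) Lrfl Lrfl
theorem f41003 : Led Lsl_ft (LP (LK LD1_c1 LD2_c10 LD3_c9)) = (LP (LK LD1_c0 LD2_c32 LD3_c26)) :=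
  Lre_f IH (LK LD1_c1 LD2_c10 LD3_c9) (LK LD1_c0 LD2_c32 LD3_c26) Lrfl Lrfl
theorem f41049 : Led Lsl_af (LP (LK LD1_c0 LD2_c54 LD3_c47)) = (LP (LK LD1_c0 LD2_c32 LD3_c26)) :=
  Lgr Lrot109 (Lpe (f40770 IH) (Lpe (f8120 IH) (Lpe (f28390 IH) (Lpe (f27242 IH) (Lpe (f40723 IH) (Lpe (f41038 IH) (Lpe (f40982 IH) (Lpr_df (f41025 IH) (Lpr_ft (f41003 IH) (Lpn (LP (LK LD1_c0 LD2_c32 LD3_c26))))))))))))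
theorem f41062 : Led Lsl_at (LP (LK LD1_c0 LD2_c24 LD3_c44)) = (LP (LK LD1_c0 LD2_c14 LD3_c31)) :=
  Lgr Lrot107 (Lpe (f40734 IH) (Lpr_af (f41049 IH) (Lpe (f40842 IH) (Lpn (LP (LK LD1_c0 LD2_c14 LD3_c31))))))
theorem f41070 : Led Lsl_ft (LP (LK LD1_c0 LD2_c54 LD3_c48)) = (LP (LK LD1_c0 LD2_c24 LD3_c44)) :=
  Lre_f IH (LK LD1_c0 LD2_c54 LD3_c48) (LK LD1_c0 LD2_c24 LD3_c44) Lrfl Lrfl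
theorem f41071 : Led Lsl_ft (LP (LK LD1_c0 LD2_c14 LD3_c31)) = (LP (LK LD1_c0 LD2_c32 LD3_c27)) :=
  Lre_f IH (LK LD1_c0 LD2_c14 LD3_c31) (LK LD1_c0 LD2_c32 LD3_c27) Lrfl Lrfl
theorem f41072 : Led Lsl_af (LP (LK LD1_c0 LD2_c54 LD3_c48)) = (LP (LK LD1_c0 LD2_c32 LD3_c27)) :=
  Lgr Lrot45 (Lpr_ft (f41070 IH) (Lpr_at (f41062 IH) (Lpr_ft (f41071 IH) (Lpn (LP (LK LD1_c0 LD2_c32 LD3_c27))))))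
theorem f41092 : Led Lsl_et (LP (LK LD1_c0 LD2_c54 LD3_c48)) = (LP (LK LD1_c1 LD2_c56 LD3_c8)) :=
  Lre_e IH (LK LD1_c0 LD2_c54 LD3_c48) (LK LD1_c1 LD2_c56 LD3_c8) Lrfl Lrfl
theorem f41093 : Led Lsl_et (LP (LK LD1_c1 LD2_c10 LD3_c10)) = (LP (LK LD1_c0 LD2_c32 LD3_c27)) :=
  Lre_e IH (LK LD1_c1 LD2_c10 LD3_c10) (LK LD1_c0 LD2_c32 LD3_c27) Lrfl Lrfl
theorem f41094 : Led Lsl_at (LP (LK LD1_c1 LD2_c56 LD3_c8)) = (LP (LK LD1_c1 LD2_c10 LD3_c10)) :=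
  Lgr Lrot80 (Lpe (f41092 IH) (Lpr_af (f41072 IH) (Lpe (f41093 IH) (Lpn (LP (LK LD1_c1 LD2_c10 LD3_c10))))))
theorem f41104 : Led Lsl_bt (LP (LK LD1_c3 LD2_c58 LD3_c35)) = (LP (LK LD1_c1 LD2_c56 LD3_c8)) :=
  Lre_b IH (LK LD1_c3 LD2_c58 LD3_c35) (LK LD1_c1 LD2_c56 LD3_c8) Lrfl Lrfl
theorem f41105 : Led Lsl_at (LP (LK LD1_c7 LD2_c57 LD3_c48)) = (LP (LK LD1_c3 LD2_c58 LD3_c35)) :=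
  Lre_a IH (LK LD1_c7 LD2_c57 LD3_c48) (LK LD1_c3 LD2_c58 LD3_c35) Lrfl Lrfl
theorem f41106 : Led Lsl_bt (LP (LK LD1_c1 LD2_c10 LD3_c10)) = (LP (LK LD1_c2 LD2_c25 LD3_c43)) :=
  Lre_b IH (LK LD1_c1 LD2_c10 LD3_c10) (LK LD1_c2 LD2_c25 LD3_c43) Lrfl Lrfl
theorem f41107 : Led Lsl_at (LP (LK LD1_c2 LD2_c25 LD3_c43)) = (LP (LK LD1_c4 LD2_c54 LD3_c42)) :=
  Lre_a IH (LK LD1_c2 LD2_c25 LD3_c43) (LK LD1_c4 LD2_c54 LD3_c42) Lrfl Lrfl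
theorem f41108 : Led Lsl_bf (LP (LK LD1_c7 LD2_c57 LD3_c48)) = (LP (LK LD1_c4 LD2_c54 LD3_c42)) :=
  Lgr Lrot81 (Lpr_at (f41105 IH) (Lpr_bt (f41104 IH) (Lpr_at (f41094 IH) (Lpr_bt (f41106 IH) (Lpr_at (f41107 IH) (Lpn (LP (LK LD1_c4 LD2_c54 LD3_c42))))))))
theorem f41116 : Led Lsl_ct (LP (LK LD1_c7 LD2_c57 LD3_c48)) = (LP (LK LD1_c15 LD2_c1 LD3_c13)) :=
  Lre_c IH (LK LD1_c7 LD2_c57 LD3_c48) (LK LD1_c15 LD2_c1 LD3_c13) Lrfl Lrfl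
theorem f41117 : Led Lsl_bt (LP (LK LD1_c15 LD2_c1 LD3_c13)) = (LP (LK LD1_c24 LD2_c49 LD3_c2)) :=
  Lre_b IH (LK LD1_c15 LD2_c1 LD3_c13) (LK LD1_c24 LD2_c49 LD3_c2) Lrfl Lrfl
theorem f41118 : Led Lsl_ct (LP (LK LD1_c9 LD2_c40 LD3_c61)) = (LP (LK LD1_c4 LD2_c54 LD3_c42)) :=
  Lre_c IH (LK LD1_c9 LD2_c40 LD3_c61) (LK LD1_c4 LD2_c54 LD3_c42) Lrfl Lrfl
theorem f41119 : Led Lsl_bt (LP (LK LD1_c17 LD2_c48 LD3_c44)) = (LP (LK LD1_c9 LD2_c40 LD3_c61)) :=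
  Lre_b IH (LK LD1_c17 LD2_c48 LD3_c44) (LK LD1_c9 LD2_c40 LD3_c61) Lrfl Lrfl
theorem f41120 : Led Lsl_ct (LP (LK LD1_c24 LD2_c49 LD3_c2)) = (LP (LK LD1_c17 LD2_c48 LD3_c44)) :=
  Lgr Lrot83 (Lpe (f41117 IH) (Lpe (f41116 IH) (Lpr_bf (f41108 IH) (Lpe (f41118 IH) (Lpe (f41119 IH) (Lpn (LP (LK LD1_c17 LD2_c48 LD3_c44))))))))
theorem f41128 : Led Lsl_et (LP (LK LD1_c15 LD2_c1 LD3_c11)) = (LP (LK LD1_c24 LD2_c49 LD3_c2)) :=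
  Lre_e IH (LK LD1_c15 LD2_c1 LD3_c11) (LK LD1_c24 LD2_c49 LD3_c2) Lrfl Lrfl
theorem f41129 : Led Lsl_et (LP (LK LD1_c17 LD2_c48 LD3_c44)) = (LP (LK LD1_c9 LD2_c40 LD3_c58)) :=
  Lre_e IH (LK LD1_c17 LD2_c48 LD3_c44) (LK LD1_c9 LD2_c40 LD3_c58) Lrfl Lrfl
theorem f41130 : Led Lsl_cf (LP (LK LD1_c15 LD2_c1 LD3_c11)) = (LP (LK LD1_c9 LD2_c40 LD3_c58)) :=
  Lgr Lrot39 (Lpr_et (f41128 IH) (Lpr_ct (f41120 IH) (Lpr_et (f41129 IH) (Lpn (LP (LK LD1_c9 LD2_c40 LD3_c58))))))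
theorem f41143 : Led Lsl_ft (LP (LK LD1_c15 LD2_c1 LD3_c11)) = (LP (LK LD1_c7 LD2_c57 LD3_c45)) :=
  Lre_f IH (LK LD1_c15 LD2_c1 LD3_c11) (LK LD1_c7 LD2_c57 LD3_c45) Lrfl Lrfl
theorem f41144 : Led Lsl_ft (LP (LK LD1_c4 LD2_c54 LD3_c39)) = (LP (LK LD1_c9 LD2_c40 LD3_c58)) :=
  Lre_f IH (LK LD1_c4 LD2_c54 LD3_c39) (LK LD1_c9 LD2_c40 LD3_c58) Lrfl Lrfl
theorem f41145 : Led Lsl_ct (LP (LK LD1_c7 LD2_c57 LD3_c45)) = (LP (LK LD1_c4 LD2_c54 LD3_c39)) :=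
  Lgr Lrot40 (Lpe (f41143 IH) (Lpr_cf (f41130 IH) (Lpe (f41144 IH) (Lpn (LP (LK LD1_c4 LD2_c54 LD3_c39))))))
theorem f41167 : Led Lsl_cf (LP (LK LD1_c7 LD2_c57 LD3_c45)) = (LP (LK LD1_c4 LD2_c54 LD3_c39)) :=
  Lgr Lrot11 (Lpr_ct (f41145 IH) (Lpn (LP (LK LD1_c4 LD2_c54 LD3_c39))))
theorem f41190 : Led Lsl_bt (LP (LK LD1_c7 LD2_c57 LD3_c45)) = (LP (LK LD1_c3 LD2_c58 LD3_c10)) :=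
  Lre_b IH (LK LD1_c7 LD2_c57 LD3_c45) (LK LD1_c3 LD2_c58 LD3_c10) Lrfl Lrfl
theorem f41198 : Led Lsl_ct (LP (LK LD1_c3 LD2_c58 LD3_c10)) = (LP (LK LD1_c1 LD2_c55 LD3_c52)) :=
  Lre_c IH (LK LD1_c3 LD2_c58 LD3_c10) (LK LD1_c1 LD2_c55 LD3_c52) Lrfl Lrfl
theorem f41199 : Led Lsl_bt (LP (LK LD1_c2 LD2_c25 LD3_c13)) = (LP (LK LD1_c4 LD2_c54 LD3_c39)) :=
  Lre_b IH (LK LD1_c2 LD2_c25 LD3_c13) (LK LD1_c4 LD2_c54 LD3_c39) Lrfl Lrfl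
theorem f41200 : Led Lsl_ct (LP (LK LD1_c1 LD2_c9 LD3_c51)) = (LP (LK LD1_c2 LD2_c25 LD3_c13)) :=
  Lre_c IH (LK LD1_c1 LD2_c9 LD3_c51) (LK LD1_c2 LD2_c25 LD3_c13) Lrfl Lrfl
theorem f41201 : Led Lsl_bt (LP (LK LD1_c1 LD2_c55 LD3_c52)) = (LP (LK LD1_c1 LD2_c9 LD3_c51)) :=
  Lgr Lrot128 (Lpe (f41198 IH) (Lpe (f41190 IH) (Lpr_cf (f41167 IH) (Lpe (f41199 IH) (Lpe (f41200 IH) (Lpn (LP (LK LD1_c1 LD2_c9 LD3_c51))))))))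
theorem f41218 : Led Lsl_dt (LP (LK LD1_c0 LD2_c54 LD3_c40)) = (LP (LK LD1_c1 LD2_c55 LD3_c52)) :=
  Lre_d IH (LK LD1_c0 LD2_c54 LD3_c40) (LK LD1_c1 LD2_c55 LD3_c52) Lrfl Lrfl
theorem f41219 : Led Lsl_dt (LP (LK LD1_c1 LD2_c9 LD3_c51)) = (LP (LK LD1_c0 LD2_c32 LD3_c19)) :=
  Lre_d IH (LK LD1_c1 LD2_c9 LD3_c51) (LK LD1_c0 LD2_c32 LD3_c19) Lrfl Lrfl
theorem f41220 : Led Lsl_bf (LP (LK LD1_c0 LD2_c54 LD3_c40)) = (LP (LK LD1_c0 LD2_c32 LD3_c19)) :=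
  Lgr Lrot93 (Lpr_dt (f41218 IH) (Lpr_bt (f41201 IH) (Lpr_dt (f41219 IH) (Lpn (LP (LK LD1_c0 LD2_c32 LD3_c19))))))
theorem f41259 : Led Lsl_et (LP (LK LD1_c0 LD2_c54 LD3_c40)) = (LP (LK LD1_c0 LD2_c24 LD3_c42)) :=
  Lre_e IH (LK LD1_c0 LD2_c54 LD3_c40) (LK LD1_c0 LD2_c24 LD3_c42) Lrfl Lrfl
theorem f41260 : Led Lsl_et (LP (LK LD1_c0 LD2_c14 LD3_c29)) = (LP (LK LD1_c0 LD2_c32 LD3_c19)) :=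
  Lre_e IH (LK LD1_c0 LD2_c14 LD3_c29) (LK LD1_c0 LD2_c32 LD3_c19) Lrfl Lrfl
theorem f41261 : Led Lsl_bt (LP (LK LD1_c0 LD2_c24 LD3_c42)) = (LP (LK LD1_c0 LD2_c14 LD3_c29)) :=
  Lgr Lrot119 (Lpe (f41259 IH) (Lpr_bf (f41220 IH) (Lpe (f41260 IH) (Lpn (LP (LK LD1_c0 LD2_c14 LD3_c29))))))
theorem f41282 : Led Lsl_bf (LP (LK LD1_c0 LD2_c24 LD3_c42)) = (LP (LK LD1_c0 LD2_c14 LD3_c29)) :=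
  Lgr Lrot24 (Lpr_bt (f41261 IH) (Lpn (LP (LK LD1_c0 LD2_c14 LD3_c29))))
theorem f41287 : Led Lsl_at (LP (LK LD1_c0 LD2_c24 LD3_c42)) = (LP (LK LD1_c0 LD2_c10 LD3_c60)) :=
  Lre_a IH (LK LD1_c0 LD2_c24 LD3_c42) (LK LD1_c0 LD2_c10 LD3_c60) Lrfl Lrfl
theorem f20819 : Led Lsl_bt (LP (LK LD1_c0 LD2_c10 LD3_c60)) = (LP (LK LD1_c0 LD2_c5 LD3_c7)) :=
  Lre_b IH (LK LD1_c0 LD2_c10 LD3_c60) (LK LD1_c0 LD2_c5 LD3_c7) Lrfl Lrfl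
theorem f41288 : Led Lsl_at (LP (LK LD1_c0 LD2_c6 LD3_c39)) = (LP (LK LD1_c0 LD2_c14 LD3_c29)) :=
  Lre_a IH (LK LD1_c0 LD2_c6 LD3_c39) (LK LD1_c0 LD2_c14 LD3_c29) Lrfl Lrfl
theorem f7026 : Led Lsl_bt (LP (LK LD1_c0 LD2_c3 LD3_c2)) = (LP (LK LD1_c0 LD2_c6 LD3_c39)) :=
  Lre_b IH (LK LD1_c0 LD2_c3 LD3_c2) (LK LD1_c0 LD2_c6 LD3_c39) Lrfl Lrfl
theorem f41289 : Led Lsl_at (LP (LK LD1_c0 LD2_c5 LD3_c7)) = (LP (LK LD1_c0 LD2_c3 LD3_c2)) :=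
  Lgr Lrot67 (Lpe (f20819 IH) (Lpe (f41287 IH) (Lpr_bf (f41282 IH) (Lpe (f41288 IH) (Lpe (f7026 IH) (Lpn (LP (LK LD1_c0 LD2_c3 LD3_c2))))))))
theorem f41301 : Led Lsl_ff (LP (LK LD1_c0 LD2_c5 LD3_c7)) = (LP (LK LD1_c0 LD2_c5 LD3_c7)) :=
  Lgr Lrot52 (Lpr_at (f41289 IH) (Lpe (K0.f3089 IH) (Lpe (K0.f21228 IH) (Lpn (LP (LK LD1_c0 LD2_c5 LD3_c7))))))
theorem f8119 : Led Lsl_et (LP (LK LD1_c0 LD2_c5 LD3_c7)) = (LP (LK LD1_c0 LD2_c10 LD3_c61)) :=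
  Lre_e IH (LK LD1_c0 LD2_c5 LD3_c7) (LK LD1_c0 LD2_c10 LD3_c61) Lrfl Lrfl
theorem f41311 : Led Lsl_ft (LP (LK LD1_c0 LD2_c10 LD3_c61)) = (LP (LK LD1_c0 LD2_c24 LD3_c45)) :=
  Lre_f IH (LK LD1_c0 LD2_c10 LD3_c61) (LK LD1_c0 LD2_c24 LD3_c45) Lrfl Lrfl
theorem f20823 : Led Lsl_et (LP (LK LD1_c0 LD2_c10 LD3_c61)) = (LP (LK LD1_c0 LD2_c5 LD3_c7)) :=
  Lre_e IH (LK LD1_c0 LD2_c10 LD3_c61) (LK LD1_c0 LD2_c5 LD3_c7) Lrfl Lrfl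
theorem f40837 : Led Lsl_ft (LP (LK LD1_c0 LD2_c24 LD3_c45)) = (LP (LK LD1_c0 LD2_c10 LD3_c61)) :=
  Lre_f IH (LK LD1_c0 LD2_c24 LD3_c45) (LK LD1_c0 LD2_c10 LD3_c61) Lrfl Lrfl
theorem f41312 : Led Lsl_et (LP (LK LD1_c0 LD2_c24 LD3_c45)) = (LP (LK LD1_c0 LD2_c24 LD3_c45)) :=
  Lgr Lrot69 (Lpe (f41311 IH) (Lpe (f8119 IH) (Lpr_ff (f41301 IH) (Lpe (f20823 IH) (Lpe (f40837 IH) (Lpn (LP (LK LD1_c0 LD2_c24 LD3_c45))))))))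
theorem f41076 : Led Lsl_dt (LP (LK LD1_c0 LD2_c54 LD3_c48)) = (LP (LK LD1_c0 LD2_c24 LD3_c45)) :=
  Lre_d IH (LK LD1_c0 LD2_c54 LD3_c48) (LK LD1_c0 LD2_c24 LD3_c45) Lrfl Lrfl
theorem f41084 : Led Lsl_et (LP (LK LD1_c1 LD2_c56 LD3_c8)) = (LP (LK LD1_c0 LD2_c54 LD3_c48)) :=
  Lre_e IH (LK LD1_c1 LD2_c56 LD3_c8) (LK LD1_c0 LD2_c54 LD3_c48) Lrfl Lrfl
theorem f40834 : Led Lsl_dt (LP (LK LD1_c0 LD2_c24 LD3_c45)) = (LP (LK LD1_c0 LD2_c54 LD3_c48)) :=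
  Lre_d IH (LK LD1_c0 LD2_c24 LD3_c45) (LK LD1_c0 LD2_c54 LD3_c48) Lrfl Lrfl
theorem f41321 : Led Lsl_df (LP (LK LD1_c1 LD2_c56 LD3_c8)) = (LP (LK LD1_c1 LD2_c56 LD3_c8)) :=
  Lgr Lrot70 (Lpr_et (f41084 IH) (Lpr_dt (f41076 IH) (Lpr_et (f41312 IH) (Lpr_dt (f40834 IH) (Lpr_et (f41092 IH) (Lpn (LP (LK LD1_c1 LD2_c56 LD3_c8))))))))
theorem f41325 : Led Lsl_bt (LP (LK LD1_c1 LD2_c56 LD3_c8)) = (LP (LK LD1_c3 LD2_c58 LD3_c35)) :=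
  Lre_b IH (LK LD1_c1 LD2_c56 LD3_c8) (LK LD1_c3 LD2_c58 LD3_c35) Lrfl Lrfl
theorem f41326 : Led Lsl_dt (LP (LK LD1_c3 LD2_c58 LD3_c35)) = (LP (LK LD1_c3 LD2_c58 LD3_c35)) :=
  Lgr Lrot79 (Lpe (f41325 IH) (Lpr_df (f41321 IH) (Lpe (f41104 IH) (Lpn (LP (LK LD1_c3 LD2_c58 LD3_c35))))))
theorem f41330 : Led Lsl_at (LP (LK LD1_c3 LD2_c58 LD3_c35)) = (LP (LK LD1_c7 LD2_c57 LD3_c48)) :=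
  Lre_a IH (LK LD1_c3 LD2_c58 LD3_c35) (LK LD1_c7 LD2_c57 LD3_c48) Lrfl Lrfl
theorem f41331 : Led Lsl_df (LP (LK LD1_c7 LD2_c57 LD3_c48)) = (LP (LK LD1_c7 LD2_c57 LD3_c48)) :=
  Lgr Lrot18 (Lpr_at (f41105 IH) (Lpr_dt (f41326 IH) (Lpr_at (f41330 IH) (Lpn (LP (LK LD1_c7 LD2_c57 LD3_c48))))))
theorem f41122 : Led Lsl_et (LP (LK LD1_c7 LD2_c57 LD3_c48)) = (LP (LK LD1_c3 LD2_c58 LD3_c11)) :=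
  Lre_e IH (LK LD1_c7 LD2_c57 LD3_c48) (LK LD1_c3 LD2_c58 LD3_c11) Lrfl Lrfl
theorem f41236 : Led Lsl_dt (LP (LK LD1_c3 LD2_c58 LD3_c11)) = (LP (LK LD1_c1 LD2_c55 LD3_c53)) :=
  Lre_d IH (LK LD1_c3 LD2_c58 LD3_c11) (LK LD1_c1 LD2_c55 LD3_c53) Lrfl Lrfl
theorem f41238 : Led Lsl_et (LP (LK LD1_c3 LD2_c58 LD3_c11)) = (LP (LK LD1_c7 LD2_c57 LD3_c48)) :=
  Lre_e IH (LK LD1_c3 LD2_c58 LD3_c11) (LK LD1_c7 LD2_c57 LD3_c48) Lrfl Lrfl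
theorem f41358 : Led Lsl_dt (LP (LK LD1_c1 LD2_c55 LD3_c53)) = (LP (LK LD1_c3 LD2_c58 LD3_c11)) :=
  Lre_d IH (LK LD1_c1 LD2_c55 LD3_c53) (LK LD1_c3 LD2_c58 LD3_c11) Lrfl Lrfl
theorem f41359 : Led Lsl_et (LP (LK LD1_c1 LD2_c55 LD3_c53)) = (LP (LK LD1_c1 LD2_c55 LD3_c53)) :=
  Lgr Lrot71 (Lpe (f41236 IH) (Lpe (f41122 IH) (Lpr_df (f41331 IH) (Lpe (f41238 IH) (Lpe (f41358 IH) (Lpn (LP (LK LD1_c1 LD2_c55 LD3_c53))))))))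
theorem f41263 : Led Lsl_ft (LP (LK LD1_c0 LD2_c54 LD3_c40)) = (LP (LK LD1_c1 LD2_c55 LD3_c53)) :=
  Lre_f IH (LK LD1_c0 LD2_c54 LD3_c40) (LK LD1_c1 LD2_c55 LD3_c53) Lrfl Lrfl
theorem f41294 : Led Lsl_et (LP (LK LD1_c0 LD2_c24 LD3_c42)) = (LP (LK LD1_c0 LD2_c54 LD3_c40)) :=
  Lre_e IH (LK LD1_c0 LD2_c24 LD3_c42) (LK LD1_c0 LD2_c54 LD3_c40) Lrfl Lrfl
theorem f41366 : Led Lsl_ft (LP (LK LD1_c1 LD2_c55 LD3_c53)) = (LP (LK LD1_c0 LD2_c54 LD3_c40)) :=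
  Lre_f IH (LK LD1_c1 LD2_c55 LD3_c53) (LK LD1_c0 LD2_c54 LD3_c40) Lrfl Lrfl
theorem f41367 : Led Lsl_ff (LP (LK LD1_c0 LD2_c24 LD3_c42)) = (LP (LK LD1_c0 LD2_c24 LD3_c42)) :=
  Lgr Lrot72 (Lpr_et (f41294 IH) (Lpr_ft (f41263 IH) (Lpr_et (f41359 IH) (Lpr_ft (f41366 IH) (Lpr_et (f41259 IH) (Lpn (LP (LK LD1_c0 LD2_c24 LD3_c42))))))))
theorem f41375 : Led Lsl_ft (LP (LK LD1_c0 LD2_c14 LD3_c29)) = (LP (LK LD1_c0 LD2_c14 LD3_c29)) :=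
  Lgr Lrot75 (Lpe (f41261 IH) (Lpr_ff (f41367 IH) (Lpr_bf (f41282 IH) (Lpn (LP (LK LD1_c0 LD2_c14 LD3_c29))))))
theorem f41295 : Led Lsl_et (LP (LK LD1_c0 LD2_c32 LD3_c19)) = (LP (LK LD1_c0 LD2_c14 LD3_c29)) :=
  Lre_e IH (LK LD1_c0 LD2_c32 LD3_c19) (LK LD1_c0 LD2_c14 LD3_c29) Lrfl Lrfl
theorem f41264 : Led Lsl_ft (LP (LK LD1_c1 LD2_c9 LD3_c52)) = (LP (LK LD1_c0 LD2_c32 LD3_c19)) :=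
  Lre_f IH (LK LD1_c1 LD2_c9 LD3_c52) (LK LD1_c0 LD2_c32 LD3_c19) Lrfl Lrfl
theorem f41386 : Led Lsl_ft (LP (LK LD1_c0 LD2_c32 LD3_c19)) = (LP (LK LD1_c1 LD2_c9 LD3_c52)) :=
  Lre_f IH (LK LD1_c0 LD2_c32 LD3_c19) (LK LD1_c1 LD2_c9 LD3_c52) Lrfl Lrfl
theorem f41387 : Led Lsl_ef (LP (LK LD1_c1 LD2_c9 LD3_c52)) = (LP (LK LD1_c1 LD2_c9 LD3_c52)) :=
  Lgr Lrot21 (Lpr_ft (f41264 IH) (Lpr_et (f41295 IH) (Lpr_ft (f41375 IH) (Lpr_et (f41260 IH) (Lpr_ft (f41386 IH) (Lpn (LP (LK LD1_c1 LD2_c9 LD3_c52))))))))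
theorem f41399 : Led Lsl_ct (LP (LK LD1_c1 LD2_c9 LD3_c52)) = (LP (LK LD1_c0 LD2_c35 LD3_c1)) :=
  Lre_c IH (LK LD1_c1 LD2_c9 LD3_c52) (LK LD1_c0 LD2_c35 LD3_c1) Lrfl Lrfl
theorem f41400 : Led Lsl_ct (LP (LK LD1_c0 LD2_c35 LD3_c1)) = (LP (LK LD1_c1 LD2_c9 LD3_c52)) :=
  Lre_c IH (LK LD1_c0 LD2_c35 LD3_c1) (LK LD1_c1 LD2_c9 LD3_c52) Lrfl Lrfl
theorem f41401 : Led Lsl_et (LP (LK LD1_c0 LD2_c35 LD3_c1)) = (LP (LK LD1_c0 LD2_c35 LD3_c1)) :=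
  Lgr Lrot158 (Lpe (f41399 IH) (Lpr_ef (f41387 IH) (Lpe (f41400 IH) (Lpn (LP (LK LD1_c0 LD2_c35 LD3_c1))))))
theorem f41420 : Led Lsl_dt (LP (LK LD1_c1 LD2_c15 LD3_c34)) = (LP (LK LD1_c0 LD2_c35 LD3_c1)) :=
  Lre_d IH (LK LD1_c1 LD2_c15 LD3_c34) (LK LD1_c0 LD2_c35 LD3_c1) Lrfl Lrfl
theorem f41421 : Led Lsl_et (LP (LK LD1_c2 LD2_c37 LD3_c10)) = (LP (LK LD1_c1 LD2_c15 LD3_c34)) :=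
  Lre_e IH (LK LD1_c2 LD2_c37 LD3_c10) (LK LD1_c1 LD2_c15 LD3_c34) Lrfl Lrfl
theorem f41422 : Led Lsl_dt (LP (LK LD1_c0 LD2_c35 LD3_c1)) = (LP (LK LD1_c1 LD2_c15 LD3_c34)) :=
  Lre_d IH (LK LD1_c0 LD2_c35 LD3_c1) (LK LD1_c1 LD2_c15 LD3_c34) Lrfl Lrfl
theorem f41423 : Led Lsl_et (LP (LK LD1_c1 LD2_c15 LD3_c34)) = (LP (LK LD1_c2 LD2_c37 LD3_c10)) :=
  Lre_e IH (LK LD1_c1 LD2_c15 LD3_c34) (LK LD1_c2 LD2_c37 LD3_c10) Lrfl Lrfl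
theorem f41424 : Led Lsl_df (LP (LK LD1_c2 LD2_c37 LD3_c10)) = (LP (LK LD1_c2 LD2_c37 LD3_c10)) :=
  Lgr Lrot70 (Lpr_et (f41421 IH) (Lpr_dt (f41420 IH) (Lpr_et (f41401 IH) (Lpr_dt (f41422 IH) (Lpr_et (f41423 IH) (Lpn (LP (LK LD1_c2 LD2_c37 LD3_c10))))))))
theorem f41444 : Led Lsl_bt (LP (LK LD1_c2 LD2_c37 LD3_c10)) = (LP (LK LD1_c4 LD2_c27 LD3_c41)) :=
  Lre_b IH (LK LD1_c2 LD2_c37 LD3_c10) (LK LD1_c4 LD2_c27 LD3_c41) Lrfl Lrfl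
theorem f41445 : Led Lsl_bt (LP (LK LD1_c4 LD2_c27 LD3_c41)) = (LP (LK LD1_c2 LD2_c37 LD3_c10)) :=
  Lre_b IH (LK LD1_c4 LD2_c27 LD3_c41) (LK LD1_c2 LD2_c37 LD3_c10) Lrfl Lrfl
theorem f41446 : Led Lsl_dt (LP (LK LD1_c4 LD2_c27 LD3_c41)) = (LP (LK LD1_c4 LD2_c27 LD3_c41)) :=
  Lgr Lrot79 (Lpe (f41444 IH) (Lpr_df (f41424 IH) (Lpe (f41445 IH) (Lpn (LP (LK LD1_c4 LD2_c27 LD3_c41))))))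
theorem f41538 : Led Lsl_at (LP (LK LD1_c2 LD2_c11 LD3_c23)) = (LP (LK LD1_c4 LD2_c27 LD3_c41)) :=
  Lre_a IH (LK LD1_c2 LD2_c11 LD3_c23) (LK LD1_c4 LD2_c27 LD3_c41) Lrfl Lrfl
theorem f41539 : Led Lsl_at (LP (LK LD1_c4 LD2_c27 LD3_c41)) = (LP (LK LD1_c2 LD2_c11 LD3_c23)) :=
  Lre_a IH (LK LD1_c4 LD2_c27 LD3_c41) (LK LD1_c2 LD2_c11 LD3_c23) Lrfl Lrfl
theorem f41540 : Led Lsl_df (LP (LK LD1_c2 LD2_c11 LD3_c23)) = (LP (LK LD1_c2 LD2_c11 LD3_c23)) :=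
  Lgr Lrot18 (Lpr_at (f41538 IH) (Lpr_dt (f41446 IH) (Lpr_at (f41539 IH) (Lpn (LP (LK LD1_c2 LD2_c11 LD3_c23))))))
theorem f41561 : Led Lsl_ct (LP (LK LD1_c2 LD2_c11 LD3_c23)) = (LP (LK LD1_c4 LD2_c28 LD3_c40)) :=
  Lre_c IH (LK LD1_c2 LD2_c11 LD3_c23) (LK LD1_c4 LD2_c28 LD3_c40) Lrfl Lrfl
theorem f41562 : Led Lsl_dt (LP (LK LD1_c4 LD2_c28 LD3_c40)) = (LP (LK LD1_c8 LD2_c55 LD3_c35)) :=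
  Lre_d IH (LK LD1_c4 LD2_c28 LD3_c40) (LK LD1_c8 LD2_c55 LD3_c35) Lrfl Lrfl
theorem f41563 : Led Lsl_ct (LP (LK LD1_c8 LD2_c55 LD3_c35)) = (LP (LK LD1_c16 LD2_c42 LD3_c35)) :=
  Lre_c IH (LK LD1_c8 LD2_c55 LD3_c35) (LK LD1_c16 LD2_c42 LD3_c35) Lrfl Lrfl
theorem f41564 : Led Lsl_dt (LP (LK LD1_c16 LD2_c42 LD3_c35)) = (LP (LK LD1_c26 LD2_c41 LD3_c21)) :=
  Lre_d IH (LK LD1_c16 LD2_c42 LD3_c35) (LK LD1_c26 LD2_c41 LD3_c21) Lrfl Lrfl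
theorem f8585 : Led Lsl_bt (LP (LK LD1_c2 LD2_c58 LD3_c50)) = (LP (LK LD1_c1 LD2_c25 LD3_c28)) :=
  Lre_b IH (LK LD1_c2 LD2_c58 LD3_c50) (LK LD1_c1 LD2_c25 LD3_c28) Lrfl Lrfl
theorem f8586 : Led Lsl_bt (LP (LK LD1_c1 LD2_c3 LD3_c3)) = (LP (LK LD1_c2 LD2_c11 LD3_c23)) :=
  Lre_b IH (LK LD1_c1 LD2_c3 LD3_c3) (LK LD1_c2 LD2_c11 LD3_c23) Lrfl Lrfl
theorem f8587 : Led Lsl_ff (LP (LK LD1_c2 LD2_c58 LD3_c50)) = (LP (LK LD1_c2 LD2_c11 LD3_c23)) :=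
  Lgr Lrot25 (Lpr_bt (f8585 IH) (Lpr_ft (K0.f8570 IH) (Lpr_bt (f8586 IH) (Lpn (LP (LK LD1_c2 LD2_c11 LD3_c23))))))
theorem f41579 : Led Lsl_at (LP (LK LD1_c2 LD2_c58 LD3_c50)) = (LP (LK LD1_c6 LD2_c4 LD3_c33)) :=
  Lre_a IH (LK LD1_c2 LD2_c58 LD3_c50) (LK LD1_c6 LD2_c4 LD3_c33) Lrfl Lrfl
theorem f41580 : Led Lsl_ct (LP (LK LD1_c11 LD2_c52 LD3_c38)) = (LP (LK LD1_c6 LD2_c4 LD3_c33)) :=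
  Lre_c IH (LK LD1_c11 LD2_c52 LD3_c38) (LK LD1_c6 LD2_c4 LD3_c33) Lrfl Lrfl
theorem f41581 : Led Lsl_dt (LP (LK LD1_c20 LD2_c55 LD3_c47)) = (LP (LK LD1_c11 LD2_c52 LD3_c38)) :=
  Lre_d IH (LK LD1_c20 LD2_c55 LD3_c47) (LK LD1_c11 LD2_c52 LD3_c38) Lrfl Lrfl
theorem f41582 : Led Lsl_ct (LP (LK LD1_c26 LD2_c41 LD3_c21)) = (LP (LK LD1_c20 LD2_c55 LD3_c47)) :=
  Lgr Lrot53 (Lpe (f41564 IH) (Lpe (f41563 IH) (Lpe (f41562 IH) (Lpe (f41561 IH) (Lpr_df (f41540 IH) (Lpe (f8587 IH) (Lpr_at (f41579 IH) (Lpe (f41580 IH) (Lpe (f41581 IH) (Lpn (LP (LK LD1_c20 LD2_c55 LD3_c47))))))))))))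
theorem f41565 : Led Lsl_ct (LP (LK LD1_c4 LD2_c28 LD3_c40)) = (LP (LK LD1_c2 LD2_c11 LD3_c23)) :=
  Lre_c IH (LK LD1_c4 LD2_c28 LD3_c40) (LK LD1_c2 LD2_c11 LD3_c23) Lrfl Lrfl
theorem f41566 : Led Lsl_dt (LP (LK LD1_c8 LD2_c55 LD3_c35)) = (LP (LK LD1_c4 LD2_c28 LD3_c40)) :=
  Lre_d IH (LK LD1_c8 LD2_c55 LD3_c35) (LK LD1_c4 LD2_c28 LD3_c40) Lrfl Lrfl
theorem f41567 : Led Lsl_ct (LP (LK LD1_c16 LD2_c42 LD3_c35)) = (LP (LK LD1_c8 LD2_c55 LD3_c35)) :=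
  Lre_c IH (LK LD1_c16 LD2_c42 LD3_c35) (LK LD1_c8 LD2_c55 LD3_c35) Lrfl Lrfl
theorem f41568 : Led Lsl_dt (LP (LK LD1_c26 LD2_c41 LD3_c21)) = (LP (LK LD1_c16 LD2_c42 LD3_c35)) :=
  Lre_d IH (LK LD1_c26 LD2_c41 LD3_c21) (LK LD1_c16 LD2_c42 LD3_c35) Lrfl Lrfl
theorem f41604 : Led Lsl_cf (LP (LK LD1_c26 LD2_c41 LD3_c21)) = (LP (LK LD1_c20 LD2_c55 LD3_c47)) :=
  Lgr Lrot11 (Lpr_ct (f41582 IH) (Lpn (LP (LK LD1_c20 LD2_c55 LD3_c47))))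
theorem f41606 : Led Lsl_dt (LP (LK LD1_c11 LD2_c52 LD3_c38)) = (LP (LK LD1_c20 LD2_c55 LD3_c47)) :=
  Lre_d IH (LK LD1_c11 LD2_c52 LD3_c38) (LK LD1_c20 LD2_c55 LD3_c47) Lrfl Lrfl
theorem f41607 : Led Lsl_ct (LP (LK LD1_c6 LD2_c4 LD3_c33)) = (LP (LK LD1_c11 LD2_c52 LD3_c38)) :=
  Lre_c IH (LK LD1_c6 LD2_c4 LD3_c33) (LK LD1_c11 LD2_c52 LD3_c38) Lrfl Lrfl
theorem f41608 : Led Lsl_df (LP (LK LD1_c6 LD2_c4 LD3_c33)) = (LP (LK LD1_c6 LD2_c4 LD3_c33)) :=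
  Lgr Lrot43 (Lpr_ct (f41607 IH) (Lpr_dt (f41606 IH) (Lpe (f41604 IH) (Lpr_dt (f41568 IH) (Lpr_ct (f41567 IH) (Lpr_dt (f41566 IH) (Lpr_ct (f41565 IH) (Lpe (f41540 IH) (Lpr_ct (f41561 IH) (Lpr_dt (f41562 IH) (Lpr_ct (f41563 IH) (Lpr_dt (f41564 IH) (Lpr_ct (f41582 IH) (Lpr_dt (f41581 IH) (Lpr_ct (f41580 IH) (Lpn (LP (LK LD1_c6 LD2_c4 LD3_c33))))))))))))))))))
theorem f41615 : Led Lsl_at (LP (LK LD1_c6 LD2_c5 LD3_c25)) = (LP (LK LD1_c11 LD2_c52 LD3_c38)) :=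
  Lre_a IH (LK LD1_c6 LD2_c5 LD3_c25) (LK LD1_c11 LD2_c52 LD3_c38) Lrfl Lrfl
theorem f41616 : Led Lsl_ft (LP (LK LD1_c4 LD2_c28 LD3_c40)) = (LP (LK LD1_c6 LD2_c5 LD3_c25)) :=
  Lgr Lrot142 (Lpr_dt (f41562 IH) (Lpr_ct (f41563 IH) (Lpr_dt (f41564 IH) (Lpr_ct (f41582 IH) (Lpr_dt (f41581 IH) (Lpr_ct (f41580 IH) (Lpe (f41608 IH) (Lpr_ct (f41607 IH) (Lpe (f41615 IH) (Lpn (LP (LK LD1_c6 LD2_c5 LD3_c25))))))))))))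
theorem f41634 : Led Lsl_ff (LP (LK LD1_c4 LD2_c28 LD3_c40)) = (LP (LK LD1_c6 LD2_c5 LD3_c25)) :=
  Lgr Lrot3 (Lpr_ft (f41616 IH) (Lpn (LP (LK LD1_c6 LD2_c5 LD3_c25))))
theorem f41553 : Led Lsl_at (LP (LK LD1_c4 LD2_c28 LD3_c40)) = (LP (LK LD1_c8 LD2_c53 LD3_c15)) :=
  Lre_a IH (LK LD1_c4 LD2_c28 LD3_c40) (LK LD1_c8 LD2_c53 LD3_c15) Lrfl Lrfl
theorem f41545 : Led Lsl_ct (LP (LK LD1_c4 LD2_c27 LD3_c41)) = (LP (LK LD1_c8 LD2_c53 LD3_c15)) :=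
  Lre_c IH (LK LD1_c4 LD2_c27 LD3_c41) (LK LD1_c8 LD2_c53 LD3_c15) Lrfl Lrfl
theorem f41542 : Led Lsl_ct (LP (LK LD1_c8 LD2_c53 LD3_c15)) = (LP (LK LD1_c4 LD2_c27 LD3_c41)) :=
  Lre_c IH (LK LD1_c8 LD2_c53 LD3_c15) (LK LD1_c4 LD2_c27 LD3_c41) Lrfl Lrfl
theorem f41543 : Led Lsl_dt (LP (LK LD1_c16 LD2_c37 LD3_c6)) = (LP (LK LD1_c8 LD2_c53 LD3_c15)) :=
  Lre_d IH (LK LD1_c16 LD2_c37 LD3_c6) (LK LD1_c8 LD2_c53 LD3_c15) Lrfl Lrfl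
theorem f41544 : Led Lsl_ct (LP (LK LD1_c26 LD2_c34 LD3_c14)) = (LP (LK LD1_c16 LD2_c37 LD3_c6)) :=
  Lre_c IH (LK LD1_c26 LD2_c34 LD3_c14) (LK LD1_c16 LD2_c37 LD3_c6) Lrfl Lrfl
theorem f41625 : Led Lsl_dt (LP (LK LD1_c6 LD2_c5 LD3_c25)) = (LP (LK LD1_c11 LD2_c54 LD3_c25)) :=
  Lre_d IH (LK LD1_c6 LD2_c5 LD3_c25) (LK LD1_c11 LD2_c54 LD3_c25) Lrfl Lrfl
theorem f41601 : Led Lsl_ct (LP (LK LD1_c11 LD2_c54 LD3_c25)) = (LP (LK LD1_c20 LD2_c58 LD3_c53)) :=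
  Lre_c IH (LK LD1_c11 LD2_c54 LD3_c25) (LK LD1_c20 LD2_c58 LD3_c53) Lrfl Lrfl
theorem f41661 : Led Lsl_df (LP (LK LD1_c26 LD2_c34 LD3_c14)) = (LP (LK LD1_c20 LD2_c58 LD3_c53)) :=
  Lgr Lrot106 (Lpr_ct (f41544 IH) (Lpr_dt (f41543 IH) (Lpr_ct (f41542 IH) (Lpr_dt (f41446 IH) (Lpr_ct (f41545 IH) (Lpe (f41553 IH) (Lpr_ff (f41634 IH) (Lpr_dt (f41625 IH) (Lpr_ct (f41601 IH) (Lpn (LP (LK LD1_c20 LD2_c58 LD3_c53))))))))))))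
theorem f41546 : Led Lsl_dt (LP (LK LD1_c8 LD2_c53 LD3_c15)) = (LP (LK LD1_c16 LD2_c37 LD3_c6)) :=
  Lre_d IH (LK LD1_c8 LD2_c53 LD3_c15) (LK LD1_c16 LD2_c37 LD3_c6) Lrfl Lrfl
theorem f41547 : Led Lsl_ct (LP (LK LD1_c16 LD2_c37 LD3_c6)) = (LP (LK LD1_c26 LD2_c34 LD3_c14)) :=
  Lre_c IH (LK LD1_c16 LD2_c37 LD3_c6) (LK LD1_c26 LD2_c34 LD3_c14) Lrfl Lrfl
theorem f8604 : Led Lsl_ct (LP (LK LD1_c2 LD2_c58 LD3_c50)) = (LP (LK LD1_c6 LD2_c5 LD3_c25)) :=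
  Lre_c IH (LK LD1_c2 LD2_c58 LD3_c50) (LK LD1_c6 LD2_c5 LD3_c25) Lrfl Lrfl
theorem f8610 : Led Lsl_bt (LP (LK LD1_c1 LD2_c25 LD3_c28)) = (LP (LK LD1_c2 LD2_c58 LD3_c50)) :=
  Lre_b IH (LK LD1_c1 LD2_c25 LD3_c28) (LK LD1_c2 LD2_c58 LD3_c50) Lrfl Lrfl
theorem f8639 : Led Lsl_df (LP (LK LD1_c2 LD2_c58 LD3_c50)) = (LP (LK LD1_c2 LD2_c58 LD3_c50)) :=
  Lgr Lrot12 (Lpr_bt (f8585 IH) (Lpr_dt (K0.f8616 IH) (Lpr_bt (f8610 IH) (Lpn (LP (LK LD1_c2 LD2_c58 LD3_c50))))))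
theorem f8600 : Led Lsl_ct (LP (LK LD1_c6 LD2_c5 LD3_c25)) = (LP (LK LD1_c2 LD2_c58 LD3_c50)) :=
  Lre_c IH (LK LD1_c6 LD2_c5 LD3_c25) (LK LD1_c2 LD2_c58 LD3_c50) Lrfl Lrfl
theorem f8601 : Led Lsl_dt (LP (LK LD1_c11 LD2_c54 LD3_c25)) = (LP (LK LD1_c6 LD2_c5 LD3_c25)) :=
  Lre_d IH (LK LD1_c11 LD2_c54 LD3_c25) (LK LD1_c6 LD2_c5 LD3_c25) Lrfl Lrfl
theorem f41665 : Led Lsl_ct (LP (LK LD1_c20 LD2_c58 LD3_c53)) = (LP (LK LD1_c11 LD2_c54 LD3_c25)) :=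
  Lre_c IH (LK LD1_c20 LD2_c58 LD3_c53) (LK LD1_c11 LD2_c54 LD3_c25) Lrfl Lrfl
theorem f41666 : Led Lsl_dt (LP (LK LD1_c26 LD2_c34 LD3_c14)) = (LP (LK LD1_c20 LD2_c58 LD3_c53)) :=
  Lgr Lrot173 (Lpe (f41547 IH) (Lpe (f41546 IH) (Lpe (f41545 IH) (Lpe (f41446 IH) (Lpe (f41542 IH) (Lpe (f41543 IH) (Lpe (f41544 IH) (Lpr_df (f41661 IH) (Lpe (f41601 IH) (Lpe (f41625 IH) (Lpe (f8604 IH) (Lpr_df (f8639 IH) (Lpe (f8600 IH) (Lpe (f8601 IH) (Lpe (f41665 IH) (Lpn (LP (LK LD1_c20 LD2_c58 LD3_c53))))))))))))))))))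
theorem f41699 : Led Lsl_at (LP (LK LD1_c6 LD2_c4 LD3_c33)) = (LP (LK LD1_c2 LD2_c58 LD3_c50)) :=
  Lre_a IH (LK LD1_c6 LD2_c4 LD3_c33) (LK LD1_c2 LD2_c58 LD3_c50) Lrfl Lrfl
theorem f41700 : Led Lsl_ft (LP (LK LD1_c4 LD2_c27 LD3_c41)) = (LP (LK LD1_c6 LD2_c4 LD3_c33)) :=
  Lgr Lrot142 (Lpr_dt (f41446 IH) (Lpr_ct (f41545 IH) (Lpr_dt (f41546 IH) (Lpr_ct (f41547 IH) (Lpr_dt (f41666 IH) (Lpr_ct (f41665 IH) (Lpr_dt (f8601 IH) (Lpr_ct (f8600 IH) (Lpe (f41699 IH) (Lpn (LP (LK LD1_c6 LD2_c4 LD3_c33))))))))))))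
theorem f41548 : Led Lsl_et (LP (LK LD1_c2 LD2_c11 LD3_c0)) = (LP (LK LD1_c4 LD2_c27 LD3_c41)) :=
  Lre_e IH (LK LD1_c2 LD2_c11 LD3_c0) (LK LD1_c4 LD2_c27 LD3_c41) Lrfl Lrfl
theorem f41707 : Led Lsl_ft (LP (LK LD1_c1 LD2_c2 LD3_c31)) = (LP (LK LD1_c2 LD2_c11 LD3_c0)) :=
  Lre_f IH (LK LD1_c1 LD2_c2 LD3_c31) (LK LD1_c2 LD2_c11 LD3_c0) Lrfl Lrfl
theorem f41708 : Led Lsl_et (LP (LK LD1_c6 LD2_c4 LD3_c33)) = (LP (LK LD1_c2 LD2_c58 LD3_c27)) :=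
  Lre_e IH (LK LD1_c6 LD2_c4 LD3_c33) (LK LD1_c2 LD2_c58 LD3_c27) Lrfl Lrfl
theorem f41709 : Led Lsl_ft (LP (LK LD1_c2 LD2_c58 LD3_c27)) = (LP (LK LD1_c1 LD2_c24 LD3_c56)) :=
  Lre_f IH (LK LD1_c2 LD2_c58 LD3_c27) (LK LD1_c1 LD2_c24 LD3_c56) Lrfl Lrfl
theorem f41710 : Led Lsl_ef (LP (LK LD1_c1 LD2_c2 LD3_c31)) = (LP (LK LD1_c1 LD2_c24 LD3_c56)) :=
  Lgr Lrot21 (Lpr_ft (f41707 IH) (Lpr_et (f41548 IH) (Lpr_ft (f41700 IH) (Lpr_et (f41708 IH) (Lpr_ft (f41709 IH) (Lpn (LP (LK LD1_c1 LD2_c24 LD3_c56))))))))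
theorem f41749 : Led Lsl_et (LP (LK LD1_c1 LD2_c2 LD3_c31)) = (LP (LK LD1_c1 LD2_c24 LD3_c56)) :=
  Lgr Lrot87 (Lpr_ef (f41710 IH) (Lpn (LP (LK LD1_c1 LD2_c24 LD3_c56))))
theorem f41767 : Led Lsl_dt (LP (LK LD1_c0 LD2_c28 LD3_c30)) = (LP (LK LD1_c1 LD2_c2 LD3_c31)) :=
  Lre_d IH (LK LD1_c0 LD2_c28 LD3_c30) (LK LD1_c1 LD2_c2 LD3_c31) Lrfl Lrfl
theorem f41768 : Led Lsl_et (LP (LK LD1_c0 LD2_c12 LD3_c36)) = (LP (LK LD1_c0 LD2_c28 LD3_c30)) :=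
  Lre_e IH (LK LD1_c0 LD2_c12 LD3_c36) (LK LD1_c0 LD2_c28 LD3_c30) Lrfl Lrfl
theorem f41751 : Led Lsl_dt (LP (LK LD1_c1 LD2_c24 LD3_c56)) = (LP (LK LD1_c0 LD2_c39 LD3_c8)) :=
  Lre_d IH (LK LD1_c1 LD2_c24 LD3_c56) (LK LD1_c0 LD2_c39 LD3_c8) Lrfl Lrfl
theorem f41769 : Led Lsl_et (LP (LK LD1_c0 LD2_c39 LD3_c8)) = (LP (LK LD1_c0 LD2_c17 LD3_c32)) :=
  Lre_e IH (LK LD1_c0 LD2_c39 LD3_c8) (LK LD1_c0 LD2_c17 LD3_c32) Lrfl Lrfl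
theorem f41770 : Led Lsl_df (LP (LK LD1_c0 LD2_c12 LD3_c36)) = (LP (LK LD1_c0 LD2_c17 LD3_c32)) :=
  Lgr Lrot70 (Lpr_et (f41768 IH) (Lpr_dt (f41767 IH) (Lpr_et (f41749 IH) (Lpr_dt (f41751 IH) (Lpr_et (f41769 IH) (Lpn (LP (LK LD1_c0 LD2_c17 LD3_c32))))))))
theorem f41292 : Led Lsl_bt (LP (LK LD1_c0 LD2_c12 LD3_c36)) = (LP (LK LD1_c0 LD2_c7 LD3_c6)) :=
  Lre_b IH (LK LD1_c0 LD2_c12 LD3_c36) (LK LD1_c0 LD2_c7 LD3_c6) Lrfl Lrfl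
theorem f41531 : Led Lsl_dt (LP (LK LD1_c0 LD2_c7 LD3_c6)) = (LP (LK LD1_c0 LD2_c15 LD3_c42)) :=
  Lre_d IH (LK LD1_c0 LD2_c7 LD3_c6) (LK LD1_c0 LD2_c15 LD3_c42) Lrfl Lrfl
theorem f41782 : Led Lsl_bt (LP (LK LD1_c0 LD2_c15 LD3_c42)) = (LP (LK LD1_c0 LD2_c17 LD3_c32)) :=
  Lgr Lrot95 (Lpe (f41531 IH) (Lpe (f41292 IH) (Lpr_df (f41770 IH) (Lpn (LP (LK LD1_c0 LD2_c17 LD3_c32))))))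
theorem f41452 : Led Lsl_ft (LP (LK LD1_c2 LD2_c37 LD3_c10)) = (LP (LK LD1_c5 LD2_c20 LD3_c24)) :=
  Lre_f IH (LK LD1_c2 LD2_c37 LD3_c10) (LK LD1_c5 LD2_c20 LD3_c24) Lrfl Lrfl
theorem f41453 : Led Lsl_ft (LP (LK LD1_c5 LD2_c20 LD3_c24)) = (LP (LK LD1_c2 LD2_c37 LD3_c10)) :=
  Lre_f IH (LK LD1_c5 LD2_c20 LD3_c24) (LK LD1_c2 LD2_c37 LD3_c10) Lrfl Lrfl
theorem f41454 : Led Lsl_dt (LP (LK LD1_c5 LD2_c20 LD3_c24)) = (LP (LK LD1_c5 LD2_c20 LD3_c24)) :=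
  Lgr Lrot60 (Lpe (f41452 IH) (Lpr_df (f41424 IH) (Lpe (f41453 IH) (Lpn (LP (LK LD1_c5 LD2_c20 LD3_c24))))))
theorem f41484 : Led Lsl_et (LP (LK LD1_c2 LD2_c36 LD3_c50)) = (LP (LK LD1_c5 LD2_c20 LD3_c24)) :=
  Lre_e IH (LK LD1_c2 LD2_c36 LD3_c50) (LK LD1_c5 LD2_c20 LD3_c24) Lrfl Lrfl
theorem f41485 : Led Lsl_dt (LP (LK LD1_c1 LD2_c15 LD3_c24)) = (LP (LK LD1_c2 LD2_c36 LD3_c50)) :=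
  Lre_d IH (LK LD1_c1 LD2_c15 LD3_c24) (LK LD1_c2 LD2_c36 LD3_c50) Lrfl Lrfl
theorem f41486 : Led Lsl_et (LP (LK LD1_c5 LD2_c20 LD3_c24)) = (LP (LK LD1_c2 LD2_c36 LD3_c50)) :=
  Lre_e IH (LK LD1_c5 LD2_c20 LD3_c24) (LK LD1_c2 LD2_c36 LD3_c50) Lrfl Lrfl
theorem f41487 : Led Lsl_dt (LP (LK LD1_c2 LD2_c36 LD3_c50)) = (LP (LK LD1_c1 LD2_c15 LD3_c24)) :=
  Lre_d IH (LK LD1_c2 LD2_c36 LD3_c50) (LK LD1_c1 LD2_c15 LD3_c24) Lrfl Lrfl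
theorem f41488 : Led Lsl_ef (LP (LK LD1_c1 LD2_c15 LD3_c24)) = (LP (LK LD1_c1 LD2_c15 LD3_c24)) :=
  Lgr Lrot73 (Lpr_dt (f41485 IH) (Lpr_et (f41484 IH) (Lpr_dt (f41454 IH) (Lpr_et (f41486 IH) (Lpr_dt (f41487 IH) (Lpn (LP (LK LD1_c1 LD2_c15 LD3_c24))))))))
theorem f41519 : Led Lsl_ft (LP (LK LD1_c1 LD2_c15 LD3_c24)) = (LP (LK LD1_c0 LD2_c34 LD3_c59)) :=
  Lre_f IH (LK LD1_c1 LD2_c15 LD3_c24) (LK LD1_c0 LD2_c34 LD3_c59) Lrfl Lrfl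
theorem f41520 : Led Lsl_et (LP (LK LD1_c0 LD2_c34 LD3_c59)) = (LP (LK LD1_c0 LD2_c15 LD3_c42)) :=
  Lre_e IH (LK LD1_c0 LD2_c34 LD3_c59) (LK LD1_c0 LD2_c15 LD3_c42) Lrfl Lrfl
theorem f41521 : Led Lsl_ft (LP (LK LD1_c0 LD2_c34 LD3_c59)) = (LP (LK LD1_c1 LD2_c15 LD3_c24)) :=
  Lre_f IH (LK LD1_c0 LD2_c34 LD3_c59) (LK LD1_c1 LD2_c15 LD3_c24) Lrfl Lrfl
theorem f41522 : Led Lsl_et (LP (LK LD1_c0 LD2_c15 LD3_c42)) = (LP (LK LD1_c0 LD2_c34 LD3_c59)) :=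
  Lre_e IH (LK LD1_c0 LD2_c15 LD3_c42) (LK LD1_c0 LD2_c34 LD3_c59) Lrfl Lrfl
theorem f41523 : Led Lsl_ft (LP (LK LD1_c0 LD2_c15 LD3_c42)) = (LP (LK LD1_c0 LD2_c15 LD3_c42)) :=
  Lgr Lrot86 (Lpe (f41520 IH) (Lpe (f41519 IH) (Lpr_ef (f41488 IH) (Lpe (f41521 IH) (Lpe (f41522 IH) (Lpn (LP (LK LD1_c0 LD2_c15 LD3_c42))))))))
theorem f7680 : Led Lsl_at (LP (LK LD1_c0 LD2_c7 LD3_c55)) = (LP (LK LD1_c0 LD2_c17 LD3_c32)) :=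
  Lre_a IH (LK LD1_c0 LD2_c7 LD3_c55) (LK LD1_c0 LD2_c17 LD3_c32) Lrfl Lrfl
theorem f7670 : Led Lsl_bt (LP (LK LD1_c0 LD2_c7 LD3_c7)) = (LP (LK LD1_c0 LD2_c3 LD3_c14)) :=
  Lre_b IH (LK LD1_c0 LD2_c7 LD3_c7) (LK LD1_c0 LD2_c3 LD3_c14) Lrfl Lrfl
theorem f7681 : Led Lsl_at (LP (LK LD1_c0 LD2_c15 LD3_c42)) = (LP (LK LD1_c0 LD2_c7 LD3_c7)) :=
  Lre_a IH (LK LD1_c0 LD2_c15 LD3_c42) (LK LD1_c0 LD2_c7 LD3_c7) Lrfl Lrfl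
theorem f7682 : Led Lsl_bt (LP (LK LD1_c0 LD2_c17 LD3_c32)) = (LP (LK LD1_c0 LD2_c15 LD3_c42)) :=
  Lgr Lrot62 (Lpe (f7680 IH) (Lpe (K0.f417 IH) (Lpr_af (K0.f7676 IH) (Lpe (f7670 IH) (Lpe (f7681 IH) (Lpn (LP (LK LD1_c0 LD2_c15 LD3_c42))))))))
theorem f41789 : Led Lsl_ff (LP (LK LD1_c0 LD2_c17 LD3_c32)) = (LP (LK LD1_c0 LD2_c17 LD3_c32)) :=
  Lgr Lrot25 (Lpr_bt (f7682 IH) (Lpr_ft (f41523 IH) (Lpr_bt (f41782 IH) (Lpn (LP (LK LD1_c0 LD2_c17 LD3_c32))))))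
theorem f41743 : Led Lsl_dt (LP (LK LD1_c1 LD2_c2 LD3_c31)) = (LP (LK LD1_c0 LD2_c28 LD3_c30)) :=
  Lre_d IH (LK LD1_c1 LD2_c2 LD3_c31) (LK LD1_c0 LD2_c28 LD3_c30) Lrfl Lrfl
theorem f41744 : Led Lsl_et (LP (LK LD1_c0 LD2_c28 LD3_c30)) = (LP (LK LD1_c0 LD2_c12 LD3_c36)) :=
  Lre_e IH (LK LD1_c0 LD2_c28 LD3_c30) (LK LD1_c0 LD2_c12 LD3_c36) Lrfl Lrfl
theorem f41745 : Led Lsl_dt (LP (LK LD1_c0 LD2_c39 LD3_c8)) = (LP (LK LD1_c1 LD2_c24 LD3_c56)) :=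
  Lre_d IH (LK LD1_c0 LD2_c39 LD3_c8) (LK LD1_c1 LD2_c24 LD3_c56) Lrfl Lrfl
theorem f41746 : Led Lsl_et (LP (LK LD1_c0 LD2_c17 LD3_c32)) = (LP (LK LD1_c0 LD2_c39 LD3_c8)) :=
  Lre_e IH (LK LD1_c0 LD2_c17 LD3_c32) (LK LD1_c0 LD2_c39 LD3_c8) Lrfl Lrfl
theorem f41747 : Led Lsl_dt (LP (LK LD1_c0 LD2_c12 LD3_c36)) = (LP (LK LD1_c0 LD2_c17 LD3_c32)) :=
  Lgr Lrot77 (Lpe (f41744 IH) (Lpe (f41743 IH) (Lpr_ef (f41710 IH) (Lpe (f41745 IH) (Lpe (f41746 IH) (Lpn (LP (LK LD1_c0 LD2_c17 LD3_c32))))))))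
theorem f41791 : Led Lsl_ft (LP (LK LD1_c0 LD2_c12 LD3_c36)) = (LP (LK LD1_c0 LD2_c12 LD3_c36)) :=
  Lgr Lrot54 (Lpr_df (f41770 IH) (Lpr_ff (f41789 IH) (Lpe (f41747 IH) (Lpn (LP (LK LD1_c0 LD2_c12 LD3_c36))))))
theorem f41293 : Led Lsl_ct (LP (LK LD1_c0 LD2_c27 LD3_c57)) = (LP (LK LD1_c0 LD2_c12 LD3_c36)) :=
  Lre_c IH (LK LD1_c0 LD2_c27 LD3_c57) (LK LD1_c0 LD2_c12 LD3_c36) Lrfl Lrfl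
theorem f41286 : Led Lsl_ct (LP (LK LD1_c0 LD2_c12 LD3_c36)) = (LP (LK LD1_c0 LD2_c27 LD3_c57)) :=
  Lre_c IH (LK LD1_c0 LD2_c12 LD3_c36) (LK LD1_c0 LD2_c27 LD3_c57) Lrfl Lrfl
theorem f41828 : Led Lsl_ff (LP (LK LD1_c0 LD2_c27 LD3_c57)) = (LP (LK LD1_c0 LD2_c27 LD3_c57)) :=
  Lgr Lrot23 (Lpr_ct (f41293 IH) (Lpr_ft (f41791 IH) (Lpr_ct (f41286 IH) (Lpn (LP (LK LD1_c0 LD2_c27 LD3_c57))))))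
theorem f41836 : Led Lsl_at (LP (LK LD1_c0 LD2_c27 LD3_c57)) = (LP (LK LD1_c0 LD2_c12 LD3_c21)) :=
  Lre_a IH (LK LD1_c0 LD2_c27 LD3_c57) (LK LD1_c0 LD2_c12 LD3_c21) Lrfl Lrfl
theorem f41784 : Led Lsl_at (LP (LK LD1_c0 LD2_c12 LD3_c21)) = (LP (LK LD1_c0 LD2_c27 LD3_c57)) :=
  Lre_a IH (LK LD1_c0 LD2_c12 LD3_c21) (LK LD1_c0 LD2_c27 LD3_c57) Lrfl Lrfl
theorem f41837 : Led Lsl_ft (LP (LK LD1_c0 LD2_c12 LD3_c21)) = (LP (LK LD1_c0 LD2_c12 LD3_c21)) :=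
  Lgr Lrot101 (Lpe (f41836 IH) (Lpr_ff (f41828 IH) (Lpe (f41784 IH) (Lpn (LP (LK LD1_c0 LD2_c12 LD3_c21))))))
theorem f27909 : Led Lsl_gt (LP (LK LD1_c0 LD2_c12 LD3_c21)) = (LP (LK LD1_c0 LD2_c27 LD3_c56)) :=
  Lre_g IH (LK LD1_c0 LD2_c12 LD3_c21) (LK LD1_c0 LD2_c27 LD3_c56) Lrfl Lrfl
theorem f41850 : Led Lsl_gt (LP (LK LD1_c0 LD2_c27 LD3_c56)) = (LP (LK LD1_c0 LD2_c27 LD3_c57)) :=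
  Lgr Lrot46 (Lpe (f27909 IH) (Lpr_ft (f41837 IH) (Lpr_at (f41784 IH) (Lpn (LP (LK LD1_c0 LD2_c27 LD3_c57))))))
theorem f27908 : Led Lsl_bt (LP (LK LD1_c0 LD2_c5 LD3_c40)) = (LP (LK LD1_c0 LD2_c12 LD3_c21)) :=
  Lre_b IH (LK LD1_c0 LD2_c5 LD3_c40) (LK LD1_c0 LD2_c12 LD3_c21) Lrfl Lrfl
theorem f30830 : Led Lsl_bt (LP (LK LD1_c0 LD2_c25 LD3_c10)) = (LP (LK LD1_c0 LD2_c27 LD3_c56)) :=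
  Lgr Lrot92 (Lpr_ct (K0.f27785 IH) (Lpr_gt (K0.f8090 IH) (Lpe (K0.f2068 IH) (Lpe (K0.f29156 IH) (Lpr_gt (K0.f30827 IH) (Lpr_ct (K0.f27817 IH) (Lpr_gt (K0.f16674 IH) (Lpe (K0.f16672 IH) (Lpr_bt (f27908 IH) (Lpr_gt (f27909 IH) (Lpn (LP (LK LD1_c0 LD2_c27 LD3_c56)))))))))))))
theorem f28177 : Led Lsl_bt (LP (LK LD1_c0 LD2_c11 LD3_c27)) = (LP (LK LD1_c0 LD2_c5 LD3_c20)) :=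
  Lre_b IH (LK LD1_c0 LD2_c11 LD3_c27) (LK LD1_c0 LD2_c5 LD3_c20) Lrfl Lrfl
theorem f29030 : Led Lsl_at (LP (LK LD1_c0 LD2_c12 LD3_c36)) = (LP (LK LD1_c0 LD2_c5 LD3_c46)) :=
  Lre_a IH (LK LD1_c0 LD2_c12 LD3_c36) (LK LD1_c0 LD2_c5 LD3_c46) Lrfl Lrfl
theorem f20622 : Led Lsl_gt (LP (LK LD1_c0 LD2_c12 LD3_c35)) = (LP (LK LD1_c0 LD2_c5 LD3_c46)) :=
  Lre_g IH (LK LD1_c0 LD2_c12 LD3_c35) (LK LD1_c0 LD2_c5 LD3_c46) Lrfl Lrfl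
theorem f41832 : Led Lsl_gt (LP (LK LD1_c0 LD2_c12 LD3_c36)) = (LP (LK LD1_c0 LD2_c12 LD3_c35)) :=
  Lgr Lrot5 (Lpr_ft (f41791 IH) (Lpr_at (f29030 IH) (Lpe (f20622 IH) (Lpn (LP (LK LD1_c0 LD2_c12 LD3_c35))))))
theorem f41854 : Led Lsl_ct (LP (LK LD1_c0 LD2_c11 LD3_c27)) = (LP (LK LD1_c0 LD2_c12 LD3_c35)) :=
  Lgr Lrot63 (Lpr_bt (f28177 IH) (Lpe (K0.f28212 IH) (Lpe (K0.f1615 IH) (Lpe (K0.f1695 IH) (Lpe (K0.f8069 IH) (Lpe (K0.f27785 IH) (Lpr_bt (f30830 IH) (Lpr_gt (f41850 IH) (Lpr_ct (f41293 IH) (Lpr_gt (f41832 IH) (Lpn (LP (LK LD1_c0 LD2_c12 LD3_c35)))))))))))))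
theorem f7671 : Led Lsl_bt (LP (LK LD1_c0 LD2_c3 LD3_c14)) = (LP (LK LD1_c0 LD2_c7 LD3_c7)) :=
  Lre_b IH (LK LD1_c0 LD2_c3 LD3_c14) (LK LD1_c0 LD2_c7 LD3_c7) Lrfl Lrfl
theorem f8283 : Led Lsl_gt (LP (LK LD1_c0 LD2_c7 LD3_c7)) = (LP (LK LD1_c0 LD2_c15 LD3_c44)) :=
  Lre_g IH (LK LD1_c0 LD2_c7 LD3_c7) (LK LD1_c0 LD2_c15 LD3_c44) Lrfl Lrfl
theorem f41871 : Led Lsl_bf (LP (LK LD1_c0 LD2_c15 LD3_c44)) = (LP (LK LD1_c0 LD2_c27 LD3_c57)) :=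
  Lgr Lrot34 (Lpe (f8283 IH) (Lpe (f7671 IH) (Lpr_ct (K0.f8253 IH) (Lpe (K0.f8294 IH) (Lpe (K0.f237 IH) (Lpr_gf (K0.f28212 IH) (Lpe (f28177 IH) (Lpr_ct (f41854 IH) (Lpe (f41832 IH) (Lpe (f41293 IH) (Lpn (LP (LK LD1_c0 LD2_c27 LD3_c57)))))))))))))
theorem f29031 : Led Lsl_dt (LP (LK LD1_c0 LD2_c15 LD3_c44)) = (LP (LK LD1_c0 LD2_c17 LD3_c30)) :=
  Lgr Lrot182 (Lpe (f8283 IH) (Lpe (f7671 IH) (Lpe (K0.f7685 IH) (Lpe (K0.f465 IH) (Lpr_gf (K0.f8142 IH) (Lpr_bf (K0.f3859 IH) (Lpr_cf (K0.f3847 IH) (Lpr_df (K0.f3953 IH) (Lpr_gf (K0.f9636 IH) (Lpe (K0.f9640 IH) (Lpe (K0.f9625 IH) (Lpr_df (K0.f9629 IH) (Lpe (K0.f6755 IH) (Lpe (K0.f9631 IH) (Lpe (K0.f9632 IH) (Lpe (K0.f9633 IH) (Lpe (K0.f28777 IH) (Lpe (K0.f28807 IH) (Lpr_cf (K0.f29001 IH) (Lpn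 (LP (LK LD1_c0 LD2_c17 LD3_c30))))))))))))))))))))))
theorem f41877 : Led Lsl_dt (LP (LK LD1_c0 LD2_c39 LD3_c5)) = (LP (LK LD1_c0 LD2_c27 LD3_c57)) :=
  Lgr Lrot79 (Lpe (K0.f29000 IH) (Lpe (f29031 IH) (Lpr_bf (f41871 IH) (Lpn (LP (LK LD1_c0 LD2_c27 LD3_c57))))))
theorem f33108 : Led Lsl_gt (LP (LK LD1_c0 LD2_c6 LD3_c56)) = (LP (LK LD1_c0 LD2_c5 LD3_c31)) :=
  Lgr Lrot180 (Lpr_ct (K0.f33094 IH) (Lpe (K0.f27935 IH) (Lpr_dt (K0.f27914 IH) (Lpr_gt (K0.f28555 IH) (Lpr_dt (K0.f27808 IH) (Lpr_ct (K0.f28558 IH) (Lpe (K0.f28746 IH) (Lpe (K0.f8090 IH) (Lpe (K0.f8094 IH) (Lpn (LP (LK LD1_c0 LD2_c5 LD3_c31))))))))))))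
theorem f28200 : Led Lsl_df (LP (LK LD1_c0 LD2_c2 LD3_c42)) = (LP (LK LD1_c0 LD2_c5 LD3_c30)) :=
  Lgr Lrot12 (Lpr_bt (K0.f6983 IH) (Lpr_dt (K0.f465 IH) (Lpr_bt (K0.f28192 IH) (Lpn (LP (LK LD1_c0 LD2_c5 LD3_c30))))))
theorem f41852 : Led Lsl_df (LP (LK LD1_c0 LD2_c39 LD3_c5)) = (LP (LK LD1_c0 LD2_c27 LD3_c57)) :=
  Lgr Lrot183 (Lpe (K0.f29037 IH) (Lpr_bt (K0.f29041 IH) (Lpr_gt (K0.f28779 IH) (Lpr_dt (K0.f27762 IH) (Lpr_ct (K0.f27761 IH) (Lpe (K0.f8052 IH) (Lpe (K0.f27759 IH) (Lpe (f28200 IH) (Lpr_ct (K0.f9592 IH) (Lpr_bt (K0.f6983 IH) (Lpr_gt (K0.f9634 IH) (Lpe (K0.f20444 IH) (Lpr_ct (K0.f1682 IH) (Lpr_bt (K0.f20455 IH) (Lpr_gt (f33108 IH) (Lpr_dt (K0.f8094 IH) (Lpe (K0.f27806 IH) (Lpr_bt (f30830 IH) (Lpr_gt (f41850 IH) (Lpn (LP (LK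 LD1_c0 LD2_c27 LD3_c57))))))))))))))))))))))
theorem f42018 : Led Lsl_ff (LP (LK LD1_c0 LD2_c39 LD3_c5)) = (LP (LK LD1_c0 LD2_c39 LD3_c5)) :=
  Lgr Lrot19 (Lpr_dt (f41877 IH) (Lpe (f41828 IH) (Lpe (f41852 IH) (Lpn (LP (LK LD1_c0 LD2_c39 LD3_c5))))))
theorem f42024 : Led Lsl_ft (LP (LK LD1_c0 LD2_c17 LD3_c31)) = (LP (LK LD1_c0 LD2_c17 LD3_c31)) :=
  Lgr Lrot4 (Lpr_cf (K0.f29037 IH) (Lpr_ff (f42018 IH) (Lpe (K0.f29043 IH) (Lpn (LP (LK LD1_c0 LD2_c17 LD3_c31))))))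
theorem f42028 : Led Lsl_af (LP (LK LD1_c0 LD2_c17 LD3_c30)) = (LP (LK LD1_c0 LD2_c17 LD3_c31)) :=
  Lgr Lrot31 (Lpe (K0.f418 IH) (Lpe (K0.f6968 IH) (Lpr_ft (f42024 IH) (Lpn (LP (LK LD1_c0 LD2_c17 LD3_c31))))))
theorem f42034 : Led Lsl_at (LP (LK LD1_c0 LD2_c39 LD3_c6)) = (LP (LK LD1_c0 LD2_c39 LD3_c7)) :=
  Lgr Lrot80 (Lpe (K0.f29006 IH) (Lpr_af (f42028 IH) (Lpe (K0.f29057 IH) (Lpn (LP (LK LD1_c0 LD2_c39 LD3_c7))))))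
theorem f29015 : Led Lsl_dt (LP (LK LD1_c1 LD2_c24 LD3_c52)) = (LP (LK LD1_c0 LD2_c39 LD3_c6)) :=
  Lre_d IH (LK LD1_c1 LD2_c24 LD3_c52) (LK LD1_c0 LD2_c39 LD3_c6) Lrfl Lrfl
theorem f29054 : Led Lsl_dt (LP (LK LD1_c0 LD2_c39 LD3_c7)) = (LP (LK LD1_c1 LD2_c24 LD3_c53)) :=
  Lre_d IH (LK LD1_c0 LD2_c39 LD3_c7) (LK LD1_c1 LD2_c24 LD3_c53) Lrfl Lrfl
theorem f42042 : Led Lsl_af (LP (LK LD1_c1 LD2_c24 LD3_c52)) = (LP (LK LD1_c1 LD2_c24 LD3_c53)) :=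
  Lgr Lrot117 (Lpr_dt (f29015 IH) (Lpr_at (f42034 IH) (Lpr_dt (f29054 IH) (Lpn (LP (LK LD1_c1 LD2_c24 LD3_c53))))))
theorem f42044 : Led Lsl_at (LP (LK LD1_c1 LD2_c24 LD3_c52)) = (LP (LK LD1_c1 LD2_c24 LD3_c53)) :=
  Lgr Lrot100 (Lpr_af (f42042 IH) (Lpn (LP (LK LD1_c1 LD2_c24 LD3_c53))))
theorem f42068 : Led Lsl_bt (LP (LK LD1_c2 LD2_c58 LD3_c20)) = (LP (LK LD1_c1 LD2_c24 LD3_c52)) :=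
  Lre_b IH (LK LD1_c2 LD2_c58 LD3_c20) (LK LD1_c1 LD2_c24 LD3_c52) Lrfl Lrfl
theorem f29070 : Led Lsl_dt (LP (LK LD1_c1 LD2_c55 LD3_c10)) = (LP (LK LD1_c0 LD2_c54 LD3_c20)) :=
  Lre_d IH (LK LD1_c1 LD2_c55 LD3_c10) (LK LD1_c0 LD2_c54 LD3_c20) Lrfl Lrfl
theorem f29071 : Led Lsl_bt (LP (LK LD1_c1 LD2_c24 LD3_c53)) = (LP (LK LD1_c1 LD2_c55 LD3_c10)) :=
  Lgr Lrot95 (Lpe (f29054 IH) (Lpr_bf (K0.f29064 IH) (Lpe (f29070 IH) (Lpn (LP (LK LD1_c1 LD2_c55 LD3_c10))))))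
theorem f29111 : Led Lsl_ct (LP (LK LD1_c3 LD2_c56 LD3_c54)) = (LP (LK LD1_c1 LD2_c55 LD3_c10)) :=
  Lre_c IH (LK LD1_c3 LD2_c56 LD3_c54) (LK LD1_c1 LD2_c55 LD3_c10) Lrfl Lrfl
theorem f29145 : Led Lsl_ct (LP (LK LD1_c1 LD2_c1 LD3_c15)) = (LP (LK LD1_c2 LD2_c8 LD3_c13)) :=
  Lre_c IH (LK LD1_c1 LD2_c1 LD3_c15) (LK LD1_c2 LD2_c8 LD3_c13) Lrfl Lrfl
theorem f39054 : Led Lsl_at (LP (LK LD1_c1 LD2_c55 LD3_c10)) = (LP (LK LD1_c1 LD2_c1 LD3_c15)) :=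
  Lgr Lrot107 (Lpe (f29111 IH) (Lpr_af (f39036 IH) (Lpe (f29145 IH) (Lpn (LP (LK LD1_c1 LD2_c1 LD3_c15))))))
theorem f42069 : Led Lsl_bt (LP (LK LD1_c1 LD2_c1 LD3_c15)) = (LP (LK LD1_c2 LD2_c8 LD3_c3)) :=
  Lre_b IH (LK LD1_c1 LD2_c1 LD3_c15) (LK LD1_c2 LD2_c8 LD3_c3) Lrfl Lrfl
theorem f42070 : Led Lsl_af (LP (LK LD1_c2 LD2_c58 LD3_c20)) = (LP (LK LD1_c2 LD2_c8 LD3_c3)) :=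
  Lgr Lrot36 (Lpr_bt (f42068 IH) (Lpr_at (f42044 IH) (Lpr_bt (f29071 IH) (Lpr_at (f39054 IH) (Lpr_bt (f42069 IH) (Lpn (LP (LK LD1_c2 LD2_c8 LD3_c3))))))))
theorem f42074 : Led Lsl_et (LP (LK LD1_c1 LD2_c1 LD3_c12)) = (LP (LK LD1_c2 LD2_c8 LD3_c3)) :=
  Lre_e IH (LK LD1_c1 LD2_c1 LD3_c12) (LK LD1_c2 LD2_c8 LD3_c3) Lrfl Lrfl
theorem f41980 : Led Lsl_at (LP (LK LD1_c2 LD2_c8 LD3_c2)) = (LP (LK LD1_c1 LD2_c1 LD3_c12)) :=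
  Lre_a IH (LK LD1_c2 LD2_c8 LD3_c2) (LK LD1_c1 LD2_c1 LD3_c12) Lrfl Lrfl
theorem f42075 : Led Lsl_et (LP (LK LD1_c2 LD2_c58 LD3_c20)) = (LP (LK LD1_c2 LD2_c8 LD3_c2)) :=
  Lgr Lrot123 (Lpr_af (f42070 IH) (Lpe (f42074 IH) (Lpe (f41980 IH) (Lpn (LP (LK LD1_c2 LD2_c8 LD3_c2))))))
theorem f42046 : Led Lsl_bt (LP (LK LD1_c1 LD2_c24 LD3_c52)) = (LP (LK LD1_c2 LD2_c58 LD3_c20)) :=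
  Lre_b IH (LK LD1_c1 LD2_c24 LD3_c52) (LK LD1_c2 LD2_c58 LD3_c20) Lrfl Lrfl
theorem f41873 : Led Lsl_bt (LP (LK LD1_c0 LD2_c15 LD3_c44)) = (LP (LK LD1_c0 LD2_c27 LD3_c57)) :=
  Lgr Lrot127 (Lpr_bf (f41871 IH) (Lpn (LP (LK LD1_c0 LD2_c27 LD3_c57))))
theorem f41882 : Led Lsl_ft (LP (LK LD1_c0 LD2_c15 LD3_c44)) = (LP (LK LD1_c0 LD2_c15 LD3_c44)) :=
  Lgr Lrot75 (Lpr_bf (f41871 IH) (Lpr_ff (f41828 IH) (Lpe (f41873 IH) (Lpn (LP (LK LD1_c0 LD2_c15 LD3_c44))))))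
theorem f41285 : Led Lsl_bt (LP (LK LD1_c0 LD2_c7 LD3_c6)) = (LP (LK LD1_c0 LD2_c12 LD3_c36)) :=
  Lre_b IH (LK LD1_c0 LD2_c7 LD3_c6) (LK LD1_c0 LD2_c12 LD3_c36) Lrfl Lrfl
theorem f41284 : Led Lsl_ct (LP (LK LD1_c0 LD2_c14 LD3_c29)) = (LP (LK LD1_c0 LD2_c7 LD3_c6)) :=
  Lre_c IH (LK LD1_c0 LD2_c14 LD3_c29) (LK LD1_c0 LD2_c7 LD3_c6) Lrfl Lrfl
theorem f41875 : Led Lsl_ct (LP (LK LD1_c0 LD2_c15 LD3_c44)) = (LP (LK LD1_c0 LD2_c24 LD3_c42)) :=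
  Lgr Lrot83 (Lpr_bf (f41871 IH) (Lpe (f41286 IH) (Lpe (f41285 IH) (Lpe (f41284 IH) (Lpe (f41261 IH) (Lpn (LP (LK LD1_c0 LD2_c24 LD3_c42))))))))
theorem f41884 : Led Lsl_cf (LP (LK LD1_c0 LD2_c15 LD3_c44)) = (LP (LK LD1_c0 LD2_c24 LD3_c42)) :=
  Lgr Lrot108 (Lpr_ft (f41882 IH) (Lpr_ct (f41875 IH) (Lpe (f41367 IH) (Lpn (LP (LK LD1_c0 LD2_c24 LD3_c42))))))
theorem f41879 : Led Lsl_et (LP (LK LD1_c0 LD2_c15 LD3_c44)) = (LP (LK LD1_c0 LD2_c35 LD3_c2)) :=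
  Lre_e IH (LK LD1_c0 LD2_c15 LD3_c44) (LK LD1_c0 LD2_c35 LD3_c2) Lrfl Lrfl
theorem f41887 : Led Lsl_ct (LP (LK LD1_c0 LD2_c35 LD3_c2)) = (LP (LK LD1_c0 LD2_c54 LD3_c40)) :=
  Lgr Lrot15 (Lpe (f41879 IH) (Lpr_cf (f41884 IH) (Lpe (f41259 IH) (Lpn (LP (LK LD1_c0 LD2_c54 LD3_c40))))))
theorem f41254 : Led Lsl_bt (LP (LK LD1_c0 LD2_c54 LD3_c40)) = (LP (LK LD1_c0 LD2_c32 LD3_c19)) :=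
  Lgr Lrot127 (Lpr_bf (f41220 IH) (Lpn (LP (LK LD1_c0 LD2_c32 LD3_c19))))
theorem f41273 : Led Lsl_ct (LP (LK LD1_c0 LD2_c32 LD3_c19)) = (LP (LK LD1_c0 LD2_c15 LD3_c43)) :=
  Lre_c IH (LK LD1_c0 LD2_c32 LD3_c19) (LK LD1_c0 LD2_c15 LD3_c43) Lrfl Lrfl
theorem f41889 : Led Lsl_bt (LP (LK LD1_c0 LD2_c15 LD3_c43)) = (LP (LK LD1_c0 LD2_c28 LD3_c30)) :=
  Lre_b IH (LK LD1_c0 LD2_c15 LD3_c43) (LK LD1_c0 LD2_c28 LD3_c30) Lrfl Lrfl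
theorem f41890 : Led Lsl_ct (LP (LK LD1_c0 LD2_c28 LD3_c30)) = (LP (LK LD1_c1 LD2_c1 LD3_c9)) :=
  Lre_c IH (LK LD1_c0 LD2_c28 LD3_c30) (LK LD1_c1 LD2_c1 LD3_c9) Lrfl Lrfl
theorem f41891 : Led Lsl_bf (LP (LK LD1_c0 LD2_c35 LD3_c2)) = (LP (LK LD1_c1 LD2_c1 LD3_c9)) :=
  Lgr Lrot90 (Lpr_ct (f41887 IH) (Lpr_bt (f41254 IH) (Lpr_ct (f41273 IH) (Lpr_bt (f41889 IH) (Lpr_ct (f41890 IH) (Lpn (LP (LK LD1_c1 LD2_c1 LD3_c9))))))))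
theorem f41967 : Led Lsl_dt (LP (LK LD1_c0 LD2_c35 LD3_c2)) = (LP (LK LD1_c1 LD2_c15 LD3_c35)) :=
  Lre_d IH (LK LD1_c0 LD2_c35 LD3_c2) (LK LD1_c1 LD2_c15 LD3_c35) Lrfl Lrfl
theorem f41977 : Led Lsl_dt (LP (LK LD1_c2 LD2_c8 LD3_c2)) = (LP (LK LD1_c1 LD2_c1 LD3_c9)) :=
  Lre_d IH (LK LD1_c2 LD2_c8 LD3_c2) (LK LD1_c1 LD2_c1 LD3_c9) Lrfl Lrfl
theorem f41978 : Led Lsl_bt (LP (LK LD1_c1 LD2_c15 LD3_c35)) = (LP (LK LD1_c2 LD2_c8 LD3_c2)) :=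
  Lgr Lrot95 (Lpe (f41967 IH) (Lpr_bf (f41891 IH) (Lpe (f41977 IH) (Lpn (LP (LK LD1_c2 LD2_c8 LD3_c2))))))
theorem f41982 : Led Lsl_bf (LP (LK LD1_c1 LD2_c15 LD3_c35)) = (LP (LK LD1_c2 LD2_c8 LD3_c2)) :=
  Lgr Lrot24 (Lpr_bt (f41978 IH) (Lpn (LP (LK LD1_c2 LD2_c8 LD3_c2))))
theorem f42077 : Led Lsl_ef (LP (LK LD1_c1 LD2_c24 LD3_c52)) = (LP (LK LD1_c1 LD2_c15 LD3_c35)) :=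
  Lgr Lrot29 (Lpr_bt (f42046 IH) (Lpr_et (f42075 IH) (Lpe (f41982 IH) (Lpn (LP (LK LD1_c1 LD2_c15 LD3_c35))))))
theorem f29026 : Led Lsl_et (LP (LK LD1_c0 LD2_c39 LD3_c6)) = (LP (LK LD1_c0 LD2_c17 LD3_c30)) :=
  Lre_e IH (LK LD1_c0 LD2_c39 LD3_c6) (LK LD1_c0 LD2_c17 LD3_c30) Lrfl Lrfl
theorem f42081 : Led Lsl_dt (LP (LK LD1_c0 LD2_c17 LD3_c30)) = (LP (LK LD1_c0 LD2_c15 LD3_c44)) :=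
  Lgr Lrot77 (Lpe (f29026 IH) (Lpe (f29015 IH) (Lpr_ef (f42077 IH) (Lpe (f41967 IH) (Lpe (f41879 IH) (Lpn (LP (LK LD1_c0 LD2_c15 LD3_c44))))))))
theorem f3097 : Led Lsl_bt (LP (LK LD1_c0 LD2_c6 LD3_c39)) = (LP (LK LD1_c0 LD2_c3 LD3_c2)) :=
  Lre_b IH (LK LD1_c0 LD2_c6 LD3_c39) (LK LD1_c0 LD2_c3 LD3_c2) Lrfl Lrfl
theorem f28231 : Led Lsl_ct (LP (LK LD1_c0 LD2_c3 LD3_c13)) = (LP (LK LD1_c0 LD2_c6 LD3_c39)) :=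
  Lre_c IH (LK LD1_c0 LD2_c3 LD3_c13) (LK LD1_c0 LD2_c6 LD3_c39) Lrfl Lrfl
theorem f28232 : Led Lsl_dt (LP (LK LD1_c0 LD2_c7 LD3_c7)) = (LP (LK LD1_c0 LD2_c3 LD3_c13)) :=
  Lre_d IH (LK LD1_c0 LD2_c7 LD3_c7) (LK LD1_c0 LD2_c3 LD3_c13) Lrfl Lrfl
theorem f8284 : Led Lsl_gt (LP (LK LD1_c0 LD2_c15 LD3_c45)) = (LP (LK LD1_c0 LD2_c7 LD3_c7)) :=
  Lre_g IH (LK LD1_c0 LD2_c15 LD3_c45) (LK LD1_c0 LD2_c7 LD3_c7) Lrfl Lrfl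
theorem f28513 : Led Lsl_bf (LP (LK LD1_c0 LD2_c15 LD3_c45)) = (LP (LK LD1_c0 LD2_c10 LD3_c56)) :=
  Lgr Lrot184 (Lpr_gt (f8284 IH) (Lpr_dt (f28232 IH) (Lpr_ct (f28231 IH) (Lpr_bt (f3097 IH) (Lpe (K0.f28221 IH) (Lpr_dt (K0.f21278 IH) (Lpr_ct (K0.f3091 IH) (Lpr_bt (K0.f3095 IH) (Lpe (K0.f21226 IH) (Lpr_dt (K0.f43 IH) (Lpr_ct (K0.f42 IH) (Lpqs (K0.f7209 IH) (Lpe (K0.f451 IH) (Lpqs (K0.f7209 IH) (Lpe (K0.f458 IH) (Lpr_dt (K0.f291 IH) (Lpr_ct (K0.f300 IH) (Lpr_bt (K0.f304 IH) (Lpr_gt (K0.f28507 IH) (Lpr_dt (K0.f28465 IH) (Lpr_ct (K0.f28407 IH) (Lpn (LP (LK LD1_c0 LD2_c10 LD3_c56))))))))))))))))))))))))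
theorem f29061 : Led Lsl_df (LP (LK LD1_c0 LD2_c17 LD3_c31)) = (LP (LK LD1_c0 LD2_c15 LD3_c45)) :=
  Lgr Lrot12 (Lpr_bt (K0.f29041 IH) (Lpr_dt (K0.f28324 IH) (Lpe (f28513 IH) (Lpn (LP (LK LD1_c0 LD2_c15 LD3_c45))))))
theorem f42107 : Led Lsl_af (LP (LK LD1_c0 LD2_c15 LD3_c45)) = (LP (LK LD1_c0 LD2_c15 LD3_c44)) :=
  Lgr Lrot117 (Lpe (f29061 IH) (Lpe (f42028 IH) (Lpr_dt (f42081 IH) (Lpn (LP (LK LD1_c0 LD2_c15 LD3_c44))))))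
theorem f42122 : Led Lsl_at (LP (LK LD1_c0 LD2_c15 LD3_c45)) = (LP (LK LD1_c0 LD2_c15 LD3_c44)) :=
  Lgr Lrot100 (Lpr_af (f42107 IH) (Lpn (LP (LK LD1_c0 LD2_c15 LD3_c44))))
theorem f42128 : Led Lsl_ft (LP (LK LD1_c0 LD2_c15 LD3_c45)) = (LP (LK LD1_c0 LD2_c15 LD3_c45)) :=
  Lgr Lrot101 (Lpr_af (f42107 IH) (Lpe (f41882 IH) (Lpe (f42122 IH) (Lpn (LP (LK LD1_c0 LD2_c15 LD3_c45))))))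
theorem f42484 : Led Lsl_df (LP (LK LD1_c0 LD2_c15 LD3_c45)) = (LP (LK LD1_c0 LD2_c17 LD3_c31)) :=
  Lgr Lrot78 (Lpr_ft (f42128 IH) (Lpe (f29061 IH) (Lpr_ft (f42024 IH) (Lpn (LP (LK LD1_c0 LD2_c17 LD3_c31))))))
theorem f29059 : Led Lsl_bf (LP (LK LD1_c0 LD2_c17 LD3_c31)) = (LP (LK LD1_c0 LD2_c24 LD3_c32)) :=
  Lgr Lrot24 (Lpr_bt (K0.f29041 IH) (Lpn (LP (LK LD1_c0 LD2_c24 LD3_c32))))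
theorem f42486 : Led Lsl_bt (LP (LK LD1_c0 LD2_c15 LD3_c45)) = (LP (LK LD1_c0 LD2_c10 LD3_c56)) :=
  Lgr Lrot95 (Lpr_df (f42484 IH) (Lpr_bf (f29059 IH) (Lpe (K0.f28461 IH) (Lpn (LP (LK LD1_c0 LD2_c10 LD3_c56))))))
theorem f41278 : Led Lsl_at (LP (LK LD1_c0 LD2_c10 LD3_c60)) = (LP (LK LD1_c0 LD2_c24 LD3_c42)) :=
  Lre_a IH (LK LD1_c0 LD2_c10 LD3_c60) (LK LD1_c0 LD2_c24 LD3_c42) Lrfl Lrfl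
theorem f42124 : Led Lsl_ct (LP (LK LD1_c0 LD2_c15 LD3_c45)) = (LP (LK LD1_c0 LD2_c10 LD3_c60)) :=
  Lgr Lrot111 (Lpr_af (f42107 IH) (Lpr_cf (f41884 IH) (Lpe (f41278 IH) (Lpn (LP (LK LD1_c0 LD2_c10 LD3_c60))))))
theorem f28211 : Led Lsl_gt (LP (LK LD1_c0 LD2_c24 LD3_c41)) = (LP (LK LD1_c0 LD2_c10 LD3_c60)) :=
  Lre_g IH (LK LD1_c0 LD2_c24 LD3_c41) (LK LD1_c0 LD2_c10 LD3_c60) Lrfl Lrfl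
theorem f43214 : Led Lsl_cf (LP (LK LD1_c0 LD2_c24 LD3_c41)) = (LP (LK LD1_c0 LD2_c31 LD3_c24)) :=
  Lgr Lrot160 (Lpr_gt (f28211 IH) (Lpe (f42124 IH) (Lpr_bt (f42486 IH) (Lpr_gt (K0.f28732 IH) (Lpr_ct (K0.f28574 IH) (Lpr_gt (K0.f28775 IH) (Lpe (K0.f28557 IH) (Lpr_bt (K0.f29152 IH) (Lpr_gt (K0.f1608 IH) (Lpe (K0.f1610 IH) (Lpn (LP (LK LD1_c0 LD2_c31 LD3_c24)))))))))))))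
theorem f43216 : Led Lsl_ct (LP (LK LD1_c0 LD2_c24 LD3_c41)) = (LP (LK LD1_c0 LD2_c31 LD3_c24)) :=
  Lgr Lrot59 (Lpr_cf (f43214 IH) (Lpn (LP (LK LD1_c0 LD2_c31 LD3_c24))))
theorem f41279 : Led Lsl_at (LP (LK LD1_c0 LD2_c14 LD3_c29)) = (LP (LK LD1_c0 LD2_c6 LD3_c39)) :=
  Lre_a IH (LK LD1_c0 LD2_c14 LD3_c29) (LK LD1_c0 LD2_c6 LD3_c39) Lrfl Lrfl
theorem f31432 : Led Lsl_gt (LP (LK LD1_c0 LD2_c14 LD3_c28)) = (LP (LK LD1_c0 LD2_c6 LD3_c39)) :=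
  Lre_g IH (LK LD1_c0 LD2_c14 LD3_c28) (LK LD1_c0 LD2_c6 LD3_c39) Lrfl Lrfl
theorem f41389 : Led Lsl_gt (LP (LK LD1_c0 LD2_c14 LD3_c29)) = (LP (LK LD1_c0 LD2_c14 LD3_c28)) :=
  Lgr Lrot5 (Lpr_ft (f41375 IH) (Lpr_at (f41279 IH) (Lpe (f31432 IH) (Lpn (LP (LK LD1_c0 LD2_c14 LD3_c28))))))
theorem f43907 : Led Lsl_df (LP (LK LD1_c0 LD2_c24 LD3_c41)) = (LP (LK LD1_c0 LD2_c14 LD3_c28)) :=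
  Lgr Lrot183 (Lpr_ct (f43216 IH) (Lpr_bt (K0.f1610 IH) (Lpr_gt (K0.f1607 IH) (Lpe (K0.f1667 IH) (Lpr_ct (K0.f6886 IH) (Lpe (K0.f2940 IH) (Lpe (K0.f28592 IH) (Lpr_dt (K0.f20447 IH) (Lpe (K0.f402 IH) (Lpr_bt (K0.f225 IH) (Lpr_gt (K0.f98 IH) (Lpr_dt (K0.f38 IH) (Lpr_ct (K0.f39 IH) (Lpr_bt (K0.f417 IH) (Lpr_gt (K0.f418 IH) (Lpr_dt (f42081 IH) (Lpr_ct (f41875 IH) (Lpr_bt (f41261 IH) (Lpr_gt (f41389 IH) (Lpn (LP (LK LD1_c0 LD2_c14 LD3_c28))))))))))))))))))))))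
theorem f8113 : Led Lsl_bt (LP (LK LD1_c0 LD2_c5 LD3_c7)) = (LP (LK LD1_c0 LD2_c10 LD3_c60)) :=
  Lre_b IH (LK LD1_c0 LD2_c5 LD3_c7) (LK LD1_c0 LD2_c10 LD3_c60) Lrfl Lrfl
theorem f41305 : Led Lsl_ft (LP (LK LD1_c0 LD2_c10 LD3_c60)) = (LP (LK LD1_c0 LD2_c10 LD3_c60)) :=
  Lgr Lrot75 (Lpe (f8113 IH) (Lpr_ff (f41301 IH) (Lpe (f20819 IH) (Lpn (LP (LK LD1_c0 LD2_c10 LD3_c60))))))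
theorem f42482 : Led Lsl_cf (LP (LK LD1_c0 LD2_c15 LD3_c45)) = (LP (LK LD1_c0 LD2_c10 LD3_c60)) :=
  Lgr Lrot108 (Lpr_ft (f42128 IH) (Lpr_ct (f42124 IH) (Lpr_ft (f41305 IH) (Lpn (LP (LK LD1_c0 LD2_c10 LD3_c60))))))
theorem f7706 : Led Lsl_ct (LP (LK LD1_c0 LD2_c7 LD3_c7)) = (LP (LK LD1_c0 LD2_c15 LD3_c46)) :=
  Lre_c IH (LK LD1_c0 LD2_c7 LD3_c7) (LK LD1_c0 LD2_c15 LD3_c46) Lrfl Lrfl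
theorem f3098 : Led Lsl_ct (LP (LK LD1_c0 LD2_c6 LD3_c39)) = (LP (LK LD1_c0 LD2_c3 LD3_c13)) :=
  Lre_c IH (LK LD1_c0 LD2_c6 LD3_c39) (LK LD1_c0 LD2_c3 LD3_c13) Lrfl Lrfl
theorem f2902 : Led Lsl_gt (LP (LK LD1_c0 LD2_c3 LD3_c13)) = (LP (LK LD1_c0 LD2_c7 LD3_c4)) :=
  Lre_g IH (LK LD1_c0 LD2_c3 LD3_c13) (LK LD1_c0 LD2_c7 LD3_c4) Lrfl Lrfl
theorem f28311 : Led Lsl_ct (LP (LK LD1_c0 LD2_c7 LD3_c4)) = (LP (LK LD1_c0 LD2_c15 LD3_c38)) :=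
  Lre_c IH (LK LD1_c0 LD2_c7 LD3_c4) (LK LD1_c0 LD2_c15 LD3_c38) Lrfl Lrfl
theorem f43915 : Led Lsl_dt (LP (LK LD1_c0 LD2_c15 LD3_c46)) = (LP (LK LD1_c0 LD2_c15 LD3_c38)) :=
  Lgr Lrot27 (Lpe (f7706 IH) (Lpe (f8284 IH) (Lpr_cf (f42482 IH) (Lpe (f28211 IH) (Lpr_df (f43907 IH) (Lpr_gt (f31432 IH) (Lpr_ct (f3098 IH) (Lpr_gt (f2902 IH) (Lpr_ct (f28311 IH) (Lpn (LP (LK LD1_c0 LD2_c15 LD3_c38))))))))))))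
theorem f8272 : Led Lsl_ct (LP (LK LD1_c0 LD2_c15 LD3_c46)) = (LP (LK LD1_c0 LD2_c7 LD3_c7)) :=
  Lre_c IH (LK LD1_c0 LD2_c15 LD3_c46) (LK LD1_c0 LD2_c7 LD3_c7) Lrfl Lrfl
theorem f28198 : Led Lsl_bf (LP (LK LD1_c0 LD2_c15 LD3_c46)) = (LP (LK LD1_c0 LD2_c11 LD3_c19)) :=
  Lgr Lrot90 (Lpr_ct (f8272 IH) (Lpr_bt (f7670 IH) (Lpr_ct (K0.f8253 IH) (Lpr_bt (K0.f28192 IH) (Lpr_ct (K0.f27820 IH) (Lpn (LP (LK LD1_c0 LD2_c11 LD3_c19))))))))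
theorem f27799 : Led Lsl_dt (LP (LK LD1_c0 LD2_c25 LD3_c25)) = (LP (LK LD1_c0 LD2_c11 LD3_c19)) :=
  Lre_d IH (LK LD1_c0 LD2_c25 LD3_c25) (LK LD1_c0 LD2_c11 LD3_c19) Lrfl Lrfl
theorem f43917 : Led Lsl_bf (LP (LK LD1_c0 LD2_c25 LD3_c25)) = (LP (LK LD1_c0 LD2_c15 LD3_c38)) :=
  Lgr Lrot93 (Lpr_dt (f27799 IH) (Lpe (f28198 IH) (Lpr_dt (f43915 IH) (Lpn (LP (LK LD1_c0 LD2_c15 LD3_c38))))))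
theorem f3099 : Led Lsl_ct (LP (LK LD1_c0 LD2_c15 LD3_c38)) = (LP (LK LD1_c0 LD2_c7 LD3_c4)) :=
  Lre_c IH (LK LD1_c0 LD2_c15 LD3_c38) (LK LD1_c0 LD2_c7 LD3_c4) Lrfl Lrfl
theorem f33138 : Led Lsl_ct (LP (LK LD1_c0 LD2_c27 LD3_c51)) = (LP (LK LD1_c0 LD2_c14 LD3_c51)) :=
  Lgr Lrot7 (Lpe (K0.f30829 IH) (Lpe (K0.f21230 IH) (Lpe (K0.f16673 IH) (Lpr_gf (K0.f28801 IH) (Lpr_cf (K0.f27806 IH) (Lpr_gt (K0.f8090 IH) (Lpr_dt (K0.f28746 IH) (Lpr_gt (K0.f30827 IH) (Lpr_dt (K0.f33124 IH) (Lpn (LP (LK LD1_c0 LD2_c14 LD3_c51))))))))))))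
theorem f44027 : Led Lsl_gt (LP (LK LD1_c0 LD2_c25 LD3_c25)) = (LP (LK LD1_c0 LD2_c27 LD3_c51)) :=
  Lgr Lrot82 (Lpr_bf (f43917 IH) (Lpr_ct (f3099 IH) (Lpe (f2902 IH) (Lpe (f3098 IH) (Lpr_bt (f3097 IH) (Lpe (K0.f3089 IH) (Lpe (K0.f3093 IH) (Lpe (K0.f3107 IH) (Lpe (K0.f3793 IH) (Lpe (f33138 IH) (Lpn (LP (LK LD1_c0 LD2_c27 LD3_c51)))))))))))))
theorem f28408 : Led Lsl_bt (LP (LK LD1_c0 LD2_c6 LD3_c36)) = (LP (LK LD1_c0 LD2_c3 LD3_c0)) :=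
  Lre_b IH (LK LD1_c0 LD2_c6 LD3_c36) (LK LD1_c0 LD2_c3 LD3_c0) Lrfl Lrfl
theorem f31430 : Led Lsl_gt (LP (LK LD1_c0 LD2_c3 LD3_c0)) = (LP (LK LD1_c0 LD2_c2 LD3_c20)) :=
  Lgr Lrot82 (Lpe (f28408 IH) (Lpr_ct (K0.f31120 IH) (Lpe (K0.f21230 IH) (Lpe (K0.f16669 IH) (Lpr_bt (K0.f20621 IH) (Lpr_gf (K0.f21226 IH) (Lpe (K0.f3095 IH) (Lpr_ct (K0.f294 IH) (Lpe (K0.f21228 IH) (Lpe (K0.f8109 IH) (Lpn (LP (LK LD1_c0 LD2_c2 LD3_c20)))))))))))))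
theorem f6852 : Led Lsl_bt (LP (LK LD1_c0 LD2_c2 LD3_c36)) = (LP (LK LD1_c0 LD2_c5 LD3_c46)) :=
  Lre_b IH (LK LD1_c0 LD2_c2 LD3_c36) (LK LD1_c0 LD2_c5 LD3_c46) Lrfl Lrfl
theorem f6853 : Led Lsl_gt (LP (LK LD1_c0 LD2_c5 LD3_c46)) = (LP (LK LD1_c0 LD2_c12 LD3_c34)) :=
  Lre_g IH (LK LD1_c0 LD2_c5 LD3_c46) (LK LD1_c0 LD2_c12 LD3_c34) Lrfl Lrfl
theorem f44037 : Led Lsl_df (LP (LK LD1_c0 LD2_c7 LD3_c4)) = (LP (LK LD1_c0 LD2_c12 LD3_c34)) :=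
  Lgr Lrot183 (Lpr_ct (f28311 IH) (Lpe (f43917 IH) (Lpr_gt (f44027 IH) (Lpr_dt (K0.f31042 IH) (Lpr_ct (K0.f28803 IH) (Lpr_bt (f28408 IH) (Lpr_gt (f31430 IH) (Lpr_dt (K0.f6788 IH) (Lpq (K0.f7194 IH) (Lpe (K0.f7037 IH) (Lpr_bt (K0.f7191 IH) (Lpe (K0.f7183 IH) (Lpe (K0.f73 IH) (Lpr_ct (K0.f232 IH) (Lpe (K0.f1690 IH) (Lpr_gt (K0.f6871 IH) (Lpqs (K0.f7226 IH) (Lpr_dt (K0.f1469 IH) (Lpr_ct (K0.f6851 IH) (Lpr_bt (f6852 IH) (Lpr_gt (f6853 IH) (Lpn (LP (LK LD1_c0 LD2_c12 LD3_c34))))))))))))))))))))))))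
theorem f44044 : Led Lsl_dt (LP (LK LD1_c0 LD2_c7 LD3_c4)) = (LP (LK LD1_c0 LD2_c12 LD3_c34)) :=
  Lgr Lrot42 (Lpr_df (f44037 IH) (Lpn (LP (LK LD1_c0 LD2_c12 LD3_c34))))
theorem f42559 : Led Lsl_et (LP (LK LD1_c0 LD2_c7 LD3_c8)) = (LP (LK LD1_c0 LD2_c3 LD3_c13)) :=
  Lre_e IH (LK LD1_c0 LD2_c7 LD3_c8) (LK LD1_c0 LD2_c3 LD3_c13) Lrfl Lrfl
theorem f42558 : Led Lsl_dt (LP (LK LD1_c0 LD2_c7 LD3_c8)) = (LP (LK LD1_c0 LD2_c15 LD3_c50)) :=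
  Lre_d IH (LK LD1_c0 LD2_c7 LD3_c8) (LK LD1_c0 LD2_c15 LD3_c50) Lrfl Lrfl
theorem f42557 : Led Lsl_gt (LP (LK LD1_c0 LD2_c35 LD3_c19)) = (LP (LK LD1_c0 LD2_c15 LD3_c50)) :=
  Lre_g IH (LK LD1_c0 LD2_c35 LD3_c19) (LK LD1_c0 LD2_c15 LD3_c50) Lrfl Lrfl
theorem f41431 : Led Lsl_dt (LP (LK LD1_c1 LD2_c16 LD3_c18)) = (LP (LK LD1_c0 LD2_c35 LD3_c19)) :=
  Lre_d IH (LK LD1_c1 LD2_c16 LD3_c18) (LK LD1_c0 LD2_c35 LD3_c19) Lrfl Lrfl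
theorem f28247 : Led Lsl_dt (LP (LK LD1_c0 LD2_c3 LD3_c13)) = (LP (LK LD1_c0 LD2_c7 LD3_c7)) :=
  Lre_d IH (LK LD1_c0 LD2_c3 LD3_c13) (LK LD1_c0 LD2_c7 LD3_c7) Lrfl Lrfl
theorem f42111 : Led Lsl_et (LP (LK LD1_c0 LD2_c3 LD3_c13)) = (LP (LK LD1_c0 LD2_c7 LD3_c8)) :=
  Lre_e IH (LK LD1_c0 LD2_c3 LD3_c13) (LK LD1_c0 LD2_c7 LD3_c8) Lrfl Lrfl
theorem f42490 : Led Lsl_gt (LP (LK LD1_c0 LD2_c7 LD3_c8)) = (LP (LK LD1_c0 LD2_c15 LD3_c48)) :=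
  Lre_g IH (LK LD1_c0 LD2_c7 LD3_c8) (LK LD1_c0 LD2_c15 LD3_c48) Lrfl Lrfl
theorem f41433 : Led Lsl_et (LP (LK LD1_c0 LD2_c35 LD3_c13)) = (LP (LK LD1_c0 LD2_c15 LD3_c48)) :=
  Lre_e IH (LK LD1_c0 LD2_c35 LD3_c13) (LK LD1_c0 LD2_c15 LD3_c48) Lrfl Lrfl
theorem f41434 : Led Lsl_dt (LP (LK LD1_c0 LD2_c35 LD3_c13)) = (LP (LK LD1_c1 LD2_c16 LD3_c0)) :=
  Lre_d IH (LK LD1_c0 LD2_c35 LD3_c13) (LK LD1_c1 LD2_c16 LD3_c0) Lrfl Lrfl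
theorem f41786 : Led Lsl_at (LP (LK LD1_c0 LD2_c17 LD3_c32)) = (LP (LK LD1_c0 LD2_c7 LD3_c55)) :=
  Lre_a IH (LK LD1_c0 LD2_c17 LD3_c32) (LK LD1_c0 LD2_c7 LD3_c55) Lrfl Lrfl
theorem f41797 : Led Lsl_gf (LP (LK LD1_c0 LD2_c17 LD3_c31)) = (LP (LK LD1_c0 LD2_c17 LD3_c32)) :=
  Lgr Lrot47 (Lpr_gt (K0.f6968 IH) (Lpe (f41786 IH) (Lpr_ff (f41789 IH) (Lpn (LP (LK LD1_c0 LD2_c17 LD3_c32))))))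
theorem f42491 : Led Lsl_gt (LP (LK LD1_c1 LD2_c16 LD3_c0)) = (LP (LK LD1_c1 LD2_c24 LD3_c56)) :=
  Lgr Lrot112 (Lpe (f41434 IH) (Lpr_et (f41433 IH) (Lpe (f42490 IH) (Lpe (f42111 IH) (Lpr_dt (f28247 IH) (Lpe (f8284 IH) (Lpr_df (f42484 IH) (Lpr_gf (f41797 IH) (Lpe (f41769 IH) (Lpr_dt (f41745 IH) (Lpn (LP (LK LD1_c1 LD2_c24 LD3_c56)))))))))))))
theorem f41734 : Led Lsl_at (LP (LK LD1_c0 LD2_c39 LD3_c11)) = (LP (LK LD1_c1 LD2_c24 LD3_c56)) :=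
  Lre_a IH (LK LD1_c0 LD2_c39 LD3_c11) (LK LD1_c1 LD2_c24 LD3_c56) Lrfl Lrfl
theorem f42495 : Led Lsl_ft (LP (LK LD1_c1 LD2_c25 LD3_c7)) = (LP (LK LD1_c0 LD2_c39 LD3_c11)) :=
  Lre_f IH (LK LD1_c1 LD2_c25 LD3_c7) (LK LD1_c0 LD2_c39 LD3_c11) Lrfl Lrfl
theorem f42496 : Led Lsl_gf (LP (LK LD1_c1 LD2_c16 LD3_c0)) = (LP (LK LD1_c1 LD2_c25 LD3_c7)) :=
  Lgr Lrot47 (Lpr_gt (f42491 IH) (Lpe (f41734 IH) (Lpe (f42495 IH) (Lpn (LP (LK LD1_c1 LD2_c25 LD3_c7))))))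
theorem f41432 : Led Lsl_gt (LP (LK LD1_c0 LD2_c15 LD3_c48)) = (LP (LK LD1_c0 LD2_c35 LD3_c1)) :=
  Lre_g IH (LK LD1_c0 LD2_c15 LD3_c48) (LK LD1_c0 LD2_c35 LD3_c1) Lrfl Lrfl
theorem f41430 : Led Lsl_gt (LP (LK LD1_c1 LD2_c15 LD3_c34)) = (LP (LK LD1_c0 LD2_c35 LD3_c19)) :=
  Lre_g IH (LK LD1_c1 LD2_c15 LD3_c34) (LK LD1_c0 LD2_c35 LD3_c19) Lrfl Lrfl
theorem f41815 : Led Lsl_dt (LP (LK LD1_c0 LD2_c39 LD3_c12)) = (LP (LK LD1_c1 LD2_c25 LD3_c7)) :=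
  Lre_d IH (LK LD1_c0 LD2_c39 LD3_c12) (LK LD1_c1 LD2_c25 LD3_c7) Lrfl Lrfl
theorem f41793 : Led Lsl_ft (LP (LK LD1_c0 LD2_c39 LD3_c8)) = (LP (LK LD1_c1 LD2_c24 LD3_c57)) :=
  Lre_f IH (LK LD1_c0 LD2_c39 LD3_c8) (LK LD1_c1 LD2_c24 LD3_c57) Lrfl Lrfl
theorem f41794 : Led Lsl_ft (LP (LK LD1_c1 LD2_c24 LD3_c57)) = (LP (LK LD1_c0 LD2_c39 LD3_c8)) :=
  Lre_f IH (LK LD1_c1 LD2_c24 LD3_c57) (LK LD1_c0 LD2_c39 LD3_c8) Lrfl Lrfl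
theorem f41795 : Led Lsl_et (LP (LK LD1_c1 LD2_c24 LD3_c57)) = (LP (LK LD1_c1 LD2_c24 LD3_c57)) :=
  Lgr Lrot69 (Lpe (f41793 IH) (Lpe (f41746 IH) (Lpr_ff (f41789 IH) (Lpe (f41769 IH) (Lpe (f41794 IH) (Lpn (LP (LK LD1_c1 LD2_c24 LD3_c57))))))))
theorem f41801 : Led Lsl_at (LP (LK LD1_c0 LD2_c39 LD3_c12)) = (LP (LK LD1_c1 LD2_c24 LD3_c57)) :=
  Lre_a IH (LK LD1_c0 LD2_c39 LD3_c12) (LK LD1_c1 LD2_c24 LD3_c57) Lrfl Lrfl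
theorem f41802 : Led Lsl_at (LP (LK LD1_c1 LD2_c24 LD3_c57)) = (LP (LK LD1_c0 LD2_c39 LD3_c12)) :=
  Lre_a IH (LK LD1_c1 LD2_c24 LD3_c57) (LK LD1_c0 LD2_c39 LD3_c12) Lrfl Lrfl
theorem f41803 : Led Lsl_ef (LP (LK LD1_c0 LD2_c39 LD3_c12)) = (LP (LK LD1_c0 LD2_c39 LD3_c12)) :=
  Lgr Lrot20 (Lpr_at (f41801 IH) (Lpr_et (f41795 IH) (Lpr_at (f41802 IH) (Lpn (LP (LK LD1_c0 LD2_c39 LD3_c12))))))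
theorem f41824 : Led Lsl_gt (LP (LK LD1_c1 LD2_c24 LD3_c54)) = (LP (LK LD1_c0 LD2_c39 LD3_c12)) :=
  Lre_g IH (LK LD1_c1 LD2_c24 LD3_c54) (LK LD1_c0 LD2_c39 LD3_c12) Lrfl Lrfl
theorem f42538 : Led Lsl_et (LP (LK LD1_c1 LD2_c16 LD3_c18)) = (LP (LK LD1_c1 LD2_c24 LD3_c54)) :=
  Lgr Lrot185 (Lpr_dt (f41431 IH) (Lpe (f41430 IH) (Lpe (f41422 IH) (Lpe (f41432 IH) (Lpe (f41433 IH) (Lpr_dt (f41434 IH) (Lpr_gf (f42496 IH) (Lpe (f41815 IH) (Lpe (f41803 IH) (Lpe (f41824 IH) (Lpn (LP (LK LD1_c1 LD2_c24 LD3_c54)))))))))))))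
theorem f41756 : Led Lsl_gt (LP (LK LD1_c0 LD2_c39 LD3_c8)) = (LP (LK LD1_c1 LD2_c24 LD3_c54)) :=
  Lre_g IH (LK LD1_c0 LD2_c39 LD3_c8) (LK LD1_c1 LD2_c24 LD3_c54) Lrfl Lrfl
theorem f44287 : Led Lsl_gf (LP (LK LD1_c0 LD2_c12 LD3_c36)) = (LP (LK LD1_c0 LD2_c12 LD3_c34)) :=
  Lgr Lrot134 (Lpr_df (f41770 IH) (Lpr_et (f41746 IH) (Lpr_gt (f41756 IH) (Lpe (f42538 IH) (Lpr_dt (f41431 IH) (Lpr_gt (f42557 IH) (Lpe (f42558 IH) (Lpr_et (f42559 IH) (Lpr_gt (f2902 IH) (Lpr_dt (f44044 IH) (Lpn (LP (LK LD1_c0 LD2_c12 LD3_c34)))))))))))))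
theorem f41291 : Led Lsl_ct (LP (LK LD1_c0 LD2_c7 LD3_c6)) = (LP (LK LD1_c0 LD2_c14 LD3_c29)) :=
  Lre_c IH (LK LD1_c0 LD2_c7 LD3_c6) (LK LD1_c0 LD2_c14 LD3_c29) Lrfl Lrfl
theorem f31433 : Led Lsl_ct (LP (LK LD1_c0 LD2_c32 LD3_c17)) = (LP (LK LD1_c0 LD2_c14 LD3_c28)) :=
  Lre_c IH (LK LD1_c0 LD2_c32 LD3_c17) (LK LD1_c0 LD2_c14 LD3_c28) Lrfl Lrfl
theorem f28456 : Led Lsl_bt (LP (LK LD1_c0 LD2_c3 LD3_c13)) = (LP (LK LD1_c0 LD2_c1 LD3_c20)) :=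
  Lre_b IH (LK LD1_c0 LD2_c3 LD3_c13) (LK LD1_c0 LD2_c1 LD3_c20) Lrfl Lrfl
theorem f28206 : Led Lsl_gt (LP (LK LD1_c0 LD2_c10 LD3_c60)) = (LP (LK LD1_c0 LD2_c24 LD3_c40)) :=
  Lre_g IH (LK LD1_c0 LD2_c10 LD3_c60) (LK LD1_c0 LD2_c24 LD3_c40) Lrfl Lrfl
theorem f31434 : Led Lsl_bt (LP (LK LD1_c0 LD2_c32 LD3_c17)) = (LP (LK LD1_c0 LD2_c24 LD3_c40)) :=
  Lgr Lrot92 (Lpr_ct (f31433 IH) (Lpr_gt (f31432 IH) (Lpe (f28231 IH) (Lpr_bt (f28456 IH) (Lpr_gt (K0.f7705 IH) (Lpr_ct (K0.f28423 IH) (Lpr_gt (f31430 IH) (Lpe (K0.f8106 IH) (Lpr_bt (f8113 IH) (Lpr_gt (f28206 IH) (Lpn (LP (LK LD1_c0 LD2_c24 LD3_c40)))))))))))))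
theorem f43221 : Led Lsl_ft (LP (LK LD1_c0 LD2_c24 LD3_c41)) = (LP (LK LD1_c0 LD2_c24 LD3_c41)) :=
  Lgr Lrot4 (Lpr_cf (f43214 IH) (Lpr_ff (K0.f27549 IH) (Lpe (f43216 IH) (Lpn (LP (LK LD1_c0 LD2_c24 LD3_c41))))))
theorem f43223 : Led Lsl_af (LP (LK LD1_c0 LD2_c24 LD3_c40)) = (LP (LK LD1_c0 LD2_c24 LD3_c41)) :=
  Lgr Lrot31 (Lpe (f28206 IH) (Lpe (f28211 IH) (Lpr_ft (f43221 IH) (Lpn (LP (LK LD1_c0 LD2_c24 LD3_c41))))))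
theorem f43225 : Led Lsl_at (LP (LK LD1_c0 LD2_c24 LD3_c40)) = (LP (LK LD1_c0 LD2_c24 LD3_c41)) :=
  Lgr Lrot100 (Lpr_af (f43223 IH) (Lpn (LP (LK LD1_c0 LD2_c24 LD3_c41))))
theorem f43231 : Led Lsl_ft (LP (LK LD1_c0 LD2_c24 LD3_c40)) = (LP (LK LD1_c0 LD2_c24 LD3_c40)) :=
  Lgr Lrot101 (Lpr_af (f43223 IH) (Lpe (f43221 IH) (Lpe (f43225 IH) (Lpn (LP (LK LD1_c0 LD2_c24 LD3_c40))))))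
theorem f41377 : Led Lsl_gf (LP (LK LD1_c0 LD2_c24 LD3_c41)) = (LP (LK LD1_c0 LD2_c24 LD3_c42)) :=
  Lgr Lrot47 (Lpr_gt (f28211 IH) (Lpe (f41287 IH) (Lpr_ff (f41367 IH) (Lpn (LP (LK LD1_c0 LD2_c24 LD3_c42))))))
theorem f43237 : Led Lsl_gt (LP (LK LD1_c0 LD2_c24 LD3_c40)) = (LP (LK LD1_c0 LD2_c24 LD3_c42)) :=
  Lgr Lrot5 (Lpr_ft (f43231 IH) (Lpr_at (f43225 IH) (Lpr_gf (f41377 IH) (Lpn (LP (LK LD1_c0 LD2_c24 LD3_c42))))))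
theorem f41532 : Led Lsl_gt (LP (LK LD1_c0 LD2_c15 LD3_c42)) = (LP (LK LD1_c0 LD2_c15 LD3_c45)) :=
  Lgr Lrot5 (Lpr_ft (f41523 IH) (Lpr_at (f7681 IH) (Lpe (f8284 IH) (Lpn (LP (LK LD1_c0 LD2_c15 LD3_c45))))))
theorem f42130 : Led Lsl_gf (LP (LK LD1_c0 LD2_c15 LD3_c42)) = (LP (LK LD1_c0 LD2_c15 LD3_c44)) :=
  Lgr Lrot47 (Lpr_gt (f41532 IH) (Lpr_af (f42107 IH) (Lpe (f41882 IH) (Lpn (LP (LK LD1_c0 LD2_c15 LD3_c44))))))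
theorem f21231 : Led Lsl_bt (LP (LK LD1_c0 LD2_c28 LD3_c27)) = (LP (LK LD1_c0 LD2_c12 LD3_c34)) :=
  Lre_b IH (LK LD1_c0 LD2_c28 LD3_c27) (LK LD1_c0 LD2_c12 LD3_c34) Lrfl Lrfl
theorem f44289 : Led Lsl_cf (LP (LK LD1_c0 LD2_c15 LD3_c42)) = (LP (LK LD1_c0 LD2_c28 LD3_c27)) :=
  Lgr Lrot163 (Lpr_gf (f42130 IH) (Lpr_cf (f41884 IH) (Lpe (f43237 IH) (Lpe (f31434 IH) (Lpr_ct (f31433 IH) (Lpe (f41389 IH) (Lpe (f41291 IH) (Lpr_bt (f41285 IH) (Lpr_gf (f44287 IH) (Lpe (f21231 IH) (Lpn (LP (LK LD1_c0 LD2_c28 LD3_c27)))))))))))))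
theorem f28239 : Led Lsl_bt (LP (LK LD1_c0 LD2_c7 LD3_c4)) = (LP (LK LD1_c0 LD2_c15 LD3_c37)) :=
  Lre_b IH (LK LD1_c0 LD2_c7 LD3_c4) (LK LD1_c0 LD2_c15 LD3_c37) Lrfl Lrfl
theorem f44042 : Led Lsl_dt (LP (LK LD1_c0 LD2_c15 LD3_c37)) = (LP (LK LD1_c0 LD2_c28 LD3_c27)) :=
  Lgr Lrot79 (Lpe (f28239 IH) (Lpr_df (f44037 IH) (Lpe (f21231 IH) (Lpn (LP (LK LD1_c0 LD2_c28 LD3_c27))))))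
theorem f28234 : Led Lsl_gt (LP (LK LD1_c0 LD2_c7 LD3_c5)) = (LP (LK LD1_c0 LD2_c3 LD3_c13)) :=
  Lre_g IH (LK LD1_c0 LD2_c7 LD3_c5) (LK LD1_c0 LD2_c3 LD3_c13) Lrfl Lrfl
theorem f2901 : Led Lsl_bt (LP (LK LD1_c0 LD2_c1 LD3_c20)) = (LP (LK LD1_c0 LD2_c3 LD3_c13)) :=
  Lre_b IH (LK LD1_c0 LD2_c1 LD3_c20) (LK LD1_c0 LD2_c3 LD3_c13) Lrfl Lrfl
theorem f28233 : Led Lsl_bt (LP (LK LD1_c0 LD2_c15 LD3_c37)) = (LP (LK LD1_c0 LD2_c7 LD3_c4)) :=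
  Lre_b IH (LK LD1_c0 LD2_c15 LD3_c37) (LK LD1_c0 LD2_c7 LD3_c4) Lrfl Lrfl
theorem f28235 : Led Lsl_ct (LP (LK LD1_c0 LD2_c15 LD3_c37)) = (LP (LK LD1_c0 LD2_c7 LD3_c5)) :=
  Lgr Lrot64 (Lpr_bt (f28233 IH) (Lpe (f2902 IH) (Lpe (f2901 IH) (Lpr_ct (K0.f459 IH) (Lpe (K0.f227 IH) (Lpe (K0.f1681 IH) (Lpr_gf (K0.f28221 IH) (Lpe (f3097 IH) (Lpr_ct (f3098 IH) (Lpe (f28234 IH) (Lpn (LP (LK LD1_c0 LD2_c7 LD3_c5)))))))))))))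
theorem f27937 : Led Lsl_bt (LP (LK LD1_c0 LD2_c11 LD3_c13)) = (LP (LK LD1_c0 LD2_c25 LD3_c9)) :=
  Lre_b IH (LK LD1_c0 LD2_c11 LD3_c13) (LK LD1_c0 LD2_c25 LD3_c9) Lrfl Lrfl
theorem f33114 : Led Lsl_gf (LP (LK LD1_c0 LD2_c15 LD3_c37)) = (LP (LK LD1_c0 LD2_c25 LD3_c9)) :=
  Lgr Lrot181 (Lpr_ct (f28235 IH) (Lpr_gt (f28234 IH) (Lpe (f3098 IH) (Lpr_bt (f3097 IH) (Lpe (K0.f28221 IH) (Lpe (K0.f20818 IH) (Lpr_ct (K0.f33094 IH) (Lpe (K0.f27935 IH) (Lpe (K0.f27761 IH) (Lpr_bt (f27937 IH) (Lpn (LP (LK LD1_c0 LD2_c25 LD3_c9)))))))))))))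
theorem f27924 : Led Lsl_dt (LP (LK LD1_c0 LD2_c11 LD3_c13)) = (LP (LK LD1_c0 LD2_c25 LD3_c10)) :=
  Lre_d IH (LK LD1_c0 LD2_c11 LD3_c13) (LK LD1_c0 LD2_c25 LD3_c10) Lrfl Lrfl
theorem f28146 : Led Lsl_bt (LP (LK LD1_c0 LD2_c25 LD3_c9)) = (LP (LK LD1_c0 LD2_c11 LD3_c13)) :=
  Lre_b IH (LK LD1_c0 LD2_c25 LD3_c9) (LK LD1_c0 LD2_c11 LD3_c13) Lrfl Lrfl
theorem f30834 : Led Lsl_df (LP (LK LD1_c0 LD2_c25 LD3_c9)) = (LP (LK LD1_c0 LD2_c27 LD3_c56)) :=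
  Lgr Lrot12 (Lpr_bt (f28146 IH) (Lpr_dt (f27924 IH) (Lpr_bt (f30830 IH) (Lpn (LP (LK LD1_c0 LD2_c27 LD3_c56))))))
theorem f29004 : Led Lsl_ct (LP (LK LD1_c0 LD2_c5 LD3_c46)) = (LP (LK LD1_c0 LD2_c12 LD3_c21)) :=
  Lre_c IH (LK LD1_c0 LD2_c5 LD3_c46) (LK LD1_c0 LD2_c12 LD3_c21) Lrfl Lrfl
theorem f44299 : Led Lsl_gf (LP (LK LD1_c0 LD2_c7 LD3_c6)) = (LP (LK LD1_c0 LD2_c7 LD3_c4)) :=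
  Lgr Lrot143 (Lpr_dt (f41531 IH) (Lpr_cf (f44289 IH) (Lpe (f44042 IH) (Lpr_gf (f33114 IH) (Lpr_df (f30834 IH) (Lpe (f27909 IH) (Lpe (f29004 IH) (Lpr_gt (f6853 IH) (Lpe (f44037 IH) (Lpn (LP (LK LD1_c0 LD2_c7 LD3_c4))))))))))))
theorem f44306 : Led Lsl_gt (LP (LK LD1_c0 LD2_c7 LD3_c6)) = (LP (LK LD1_c0 LD2_c7 LD3_c5)) :=
  Lgr Lrot65 (Lpe (f41284 IH) (Lpe (f41282 IH) (Lpe (f43237 IH) (Lpe (f31434 IH) (Lpr_ct (f31433 IH) (Lpe (f41389 IH) (Lpe (f41291 IH) (Lpr_gf (f44299 IH) (Lpe (f28233 IH) (Lpr_ct (f28235 IH) (Lpn (LP (LK LD1_c0 LD2_c7 LD3_c5)))))))))))))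
theorem f8114 : Led Lsl_df (LP (LK LD1_c0 LD2_c11 LD3_c33)) = (LP (LK LD1_c0 LD2_c10 LD3_c60)) :=
  Lgr Lrot12 (Lpr_bt (K0.f8110 IH) (Lpr_dt (K0.f8107 IH) (Lpr_bt (f8113 IH) (Lpn (LP (LK LD1_c0 LD2_c10 LD3_c60))))))
theorem f41780 : Led Lsl_dt (LP (LK LD1_c0 LD2_c5 LD3_c46)) = (LP (LK LD1_c0 LD2_c7 LD3_c55)) :=
  Lgr Lrot44 (Lpe (f29030 IH) (Lpr_df (f41770 IH) (Lpe (f7680 IH) (Lpn (LP (LK LD1_c0 LD2_c7 LD3_c55))))))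
theorem f44311 : Led Lsl_df (LP (LK LD1_c0 LD2_c12 LD3_c35)) = (LP (LK LD1_c0 LD2_c7 LD3_c5)) :=
  Lgr Lrot153 (Lpr_gt (f20622 IH) (Lpr_dt (f41780 IH) (Lpe (K0.f28188 IH) (Lpr_df (f8114 IH) (Lpe (f28211 IH) (Lpr_df (f43907 IH) (Lpe (f41389 IH) (Lpe (f41291 IH) (Lpr_gt (f44306 IH) (Lpn (LP (LK LD1_c0 LD2_c7 LD3_c5))))))))))))
theorem f44315 : Led Lsl_cf (LP (LK LD1_c0 LD2_c11 LD3_c33)) = (LP (LK LD1_c0 LD2_c7 LD3_c55)) :=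
  Lgr Lrot14 (Lpr_df (f8114 IH) (Lpe (f28211 IH) (Lpr_df (f43907 IH) (Lpe (f41389 IH) (Lpr_ct (f41284 IH) (Lpr_gt (f44306 IH) (Lpe (f44311 IH) (Lpr_gt (f20622 IH) (Lpr_dt (f41780 IH) (Lpn (LP (LK LD1_c0 LD2_c7 LD3_c55))))))))))))
theorem f44478 : Led Lsl_bt (LP (LK LD1_c0 LD2_c11 LD3_c18)) = (LP (LK LD1_c0 LD2_c12 LD3_c35)) :=
  Lgr Lrot178 (Lpr_cf (K0.f28169 IH) (Lpe (K0.f33122 IH) (Lpe (K0.f9564 IH) (Lpe (K0.f3968 IH) (Lpe (K0.f1419 IH) (Lpe (K0.f3963 IH) (Lpq (K0.f7252 IH) (Lpe (K0.f6971 IH) (Lpq (K0.f7228 IH) (Lpe (K0.f6980 IH) (Lpe (K0.f1468 IH) (Lpe (K0.f1467 IH) (Lpe (K0.f8294 IH) (Lpe (K0.f1692 IH) (Lpe (K0.f237 IH) (Lpe (K0.f1664 IH) (Lpr_gf (K0.f8065 IH) (Lpe (K0.f8110 IH) (Lpr_cf (f44315 IH) (Lpe (f41780 IH) (Lpe (f20622 IH)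 (Lpn (LP (LK LD1_c0 LD2_c12 LD3_c35))))))))))))))))))))))))
theorem f746 : Led Lsl_gt (LP (LK LD1_c0 LD2_c26 LD3_c57)) = (LP (LK LD1_c0 LD2_c11 LD3_c57)) :=
  Lre_g IH (LK LD1_c0 LD2_c26 LD3_c57) (LK LD1_c0 LD2_c11 LD3_c57) Lrfl Lrfl
theorem f28214 : Led Lsl_bt (LP (LK LD1_c0 LD2_c59 LD3_c8)) = (LP (LK LD1_c0 LD2_c26 LD3_c57)) :=
  Lre_b IH (LK LD1_c0 LD2_c59 LD3_c8) (LK LD1_c0 LD2_c26 LD3_c57) Lrfl Lrfl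
theorem f44510 : Led Lsl_ct (LP (LK LD1_c0 LD2_c59 LD3_c8)) = (LP (LK LD1_c0 LD2_c27 LD3_c56)) :=
  Lgr Lrot63 (Lpr_bt (f28214 IH) (Lpr_gt (f746 IH) (Lpe (K0.f27382 IH) (Lpr_ct (K0.f8067 IH) (Lpr_gt (K0.f28207 IH) (Lpe (K0.f28178 IH) (Lpr_bt (f44478 IH) (Lpr_gt (f20622 IH) (Lpr_ct (f29004 IH) (Lpr_gt (f27909 IH) (Lpn (LP (LK LD1_c0 LD2_c27 LD3_c56)))))))))))))
theorem f745 : Led Lsl_gt (LP (LK LD1_c0 LD2_c5 LD3_c33)) = (LP (LK LD1_c0 LD2_c12 LD3_c0)) :=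
  Lre_g IH (LK LD1_c0 LD2_c5 LD3_c33) (LK LD1_c0 LD2_c12 LD3_c0) Lrfl Lrfl
theorem f42115 : Led Lsl_bt (LP (LK LD1_c0 LD2_c5 LD3_c46)) = (LP (LK LD1_c0 LD2_c2 LD3_c36)) :=
  Lre_b IH (LK LD1_c0 LD2_c5 LD3_c46) (LK LD1_c0 LD2_c2 LD3_c36) Lrfl Lrfl
theorem f28440 : Led Lsl_bt (LP (LK LD1_c0 LD2_c7 LD3_c0)) = (LP (LK LD1_c0 LD2_c3 LD3_c11)) :=
  Lre_b IH (LK LD1_c0 LD2_c7 LD3_c0) (LK LD1_c0 LD2_c3 LD3_c11) Lrfl Lrfl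
theorem f44524 : Led Lsl_cf (LP (LK LD1_c0 LD2_c12 LD3_c0)) = (LP (LK LD1_c0 LD2_c7 LD3_c0)) :=
  Lgr Lrot163 (Lpe (f745 IH) (Lpe (K0.f738 IH) (Lpe (f746 IH) (Lpe (f28214 IH) (Lpr_ct (f44510 IH) (Lpe (f27909 IH) (Lpe (f29004 IH) (Lpr_bt (f42115 IH) (Lpe (K0.f28437 IH) (Lpe (f28440 IH) (Lpn (LP (LK LD1_c0 LD2_c7 LD3_c0)))))))))))))
theorem f779 : Led Lsl_at (LP (LK LD1_c0 LD2_c5 LD3_c33)) = (LP (LK LD1_c0 LD2_c12 LD3_c2)) :=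
  Lre_a IH (LK LD1_c0 LD2_c5 LD3_c33) (LK LD1_c0 LD2_c12 LD3_c2) Lrfl Lrfl
theorem f27376 : Led Lsl_gf (LP (LK LD1_c0 LD2_c12 LD3_c2)) = (LP (LK LD1_c0 LD2_c12 LD3_c0)) :=
  Lgr Lrot76 (Lpe (f779 IH) (Lpr_ff (K0.f27365 IH) (Lpr_gt (f745 IH) (Lpn (LP (LK LD1_c0 LD2_c12 LD3_c0))))))
theorem f770 : Led Lsl_ct (LP (LK LD1_c0 LD2_c26 LD3_c58)) = (LP (LK LD1_c0 LD2_c12 LD3_c2)) :=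
  Lre_c IH (LK LD1_c0 LD2_c26 LD3_c58) (LK LD1_c0 LD2_c12 LD3_c2) Lrfl Lrfl
theorem f771 : Led Lsl_bt (LP (LK LD1_c0 LD2_c26 LD3_c58)) = (LP (LK LD1_c0 LD2_c58 LD3_c61)) :=
  Lre_b IH (LK LD1_c0 LD2_c26 LD3_c58) (LK LD1_c0 LD2_c58 LD3_c61) Lrfl Lrfl
theorem f44540 : Led Lsl_gt (LP (LK LD1_c0 LD2_c58 LD3_c61)) = (LP (LK LD1_c0 LD2_c32 LD3_c17)) :=
  Lgr Lrot82 (Lpe (f771 IH) (Lpr_ct (f770 IH) (Lpr_gf (f27376 IH) (Lpr_cf (f44524 IH) (Lpr_bt (f28440 IH) (Lpe (K0.f7705 IH) (Lpe (f28456 IH) (Lpr_ct (f28231 IH) (Lpe (f31432 IH) (Lpe (f31433 IH) (Lpn (LP (LK LD1_c0 LD2_c32 LD3_c17)))))))))))))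
theorem f27733 : Led Lsl_at (LP (LK LD1_c0 LD2_c26 LD3_c51)) = (LP (LK LD1_c0 LD2_c58 LD3_c61)) :=
  Lre_a IH (LK LD1_c0 LD2_c26 LD3_c51) (LK LD1_c0 LD2_c58 LD3_c61) Lrfl Lrfl
theorem f27741 : Led Lsl_at (LP (LK LD1_c0 LD2_c58 LD3_c61)) = (LP (LK LD1_c0 LD2_c26 LD3_c51)) :=
  Lre_a IH (LK LD1_c0 LD2_c58 LD3_c61) (LK LD1_c0 LD2_c26 LD3_c51) Lrfl Lrfl
theorem f27742 : Led Lsl_ft (LP (LK LD1_c0 LD2_c58 LD3_c61)) = (LP (LK LD1_c0 LD2_c58 LD3_c61)) :=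
  Lgr Lrot101 (Lpe (f27733 IH) (Lpr_ff (K0.f27737 IH) (Lpe (f27741 IH) (Lpn (LP (LK LD1_c0 LD2_c58 LD3_c61))))))
theorem f44544 : Led Lsl_gf (LP (LK LD1_c0 LD2_c26 LD3_c51)) = (LP (LK LD1_c0 LD2_c32 LD3_c17)) :=
  Lgr Lrot76 (Lpe (f27741 IH) (Lpe (f27742 IH) (Lpr_gt (f44540 IH) (Lpn (LP (LK LD1_c0 LD2_c32 LD3_c17))))))
theorem f27828 : Led Lsl_cf (LP (LK LD1_c0 LD2_c5 LD3_c30)) = (LP (LK LD1_c0 LD2_c11 LD3_c19)) :=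
  Lgr Lrot11 (Lpr_ct (K0.f27820 IH) (Lpn (LP (LK LD1_c0 LD2_c11 LD3_c19))))
theorem f7707 : Led Lsl_gt (LP (LK LD1_c0 LD2_c15 LD3_c46)) = (LP (LK LD1_c0 LD2_c35 LD3_c4)) :=
  Lre_g IH (LK LD1_c0 LD2_c15 LD3_c46) (LK LD1_c0 LD2_c35 LD3_c4) Lrfl Lrfl
theorem f31453 : Led Lsl_bf (LP (LK LD1_c0 LD2_c32 LD3_c17)) = (LP (LK LD1_c0 LD2_c24 LD3_c40)) :=
  Lgr Lrot24 (Lpr_bt (f31434 IH) (Lpn (LP (LK LD1_c0 LD2_c24 LD3_c40))))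
theorem f31438 : Led Lsl_ct (LP (LK LD1_c0 LD2_c24 LD3_c40)) = (LP (LK LD1_c0 LD2_c54 LD3_c37)) :=
  Lre_c IH (LK LD1_c0 LD2_c24 LD3_c40) (LK LD1_c0 LD2_c54 LD3_c37) Lrfl Lrfl
theorem f31528 : Led Lsl_ct (LP (LK LD1_c0 LD2_c54 LD3_c37)) = (LP (LK LD1_c0 LD2_c24 LD3_c40)) :=
  Lre_c IH (LK LD1_c0 LD2_c54 LD3_c37) (LK LD1_c0 LD2_c24 LD3_c40) Lrfl Lrfl
theorem f43235 : Led Lsl_ff (LP (LK LD1_c0 LD2_c54 LD3_c37)) = (LP (LK LD1_c0 LD2_c54 LD3_c37)) :=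
  Lgr Lrot23 (Lpr_ct (f31528 IH) (Lpr_ft (f43231 IH) (Lpr_ct (f31438 IH) (Lpn (LP (LK LD1_c0 LD2_c54 LD3_c37))))))
theorem f43227 : Led Lsl_at (LP (LK LD1_c0 LD2_c54 LD3_c37)) = (LP (LK LD1_c0 LD2_c31 LD3_c24)) :=
  Lgr Lrot107 (Lpe (f31438 IH) (Lpr_af (f43223 IH) (Lpr_cf (f43214 IH) (Lpn (LP (LK LD1_c0 LD2_c31 LD3_c24))))))
theorem f43240 : Led Lsl_at (LP (LK LD1_c0 LD2_c31 LD3_c24)) = (LP (LK LD1_c0 LD2_c54 LD3_c37)) :=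
  Lgr Lrot66 (Lpr_ff (K0.f27549 IH) (Lpe (f43227 IH) (Lpr_ff (f43235 IH) (Lpn (LP (LK LD1_c0 LD2_c54 LD3_c37))))))
theorem f27580 : Led Lsl_gt (LP (LK LD1_c0 LD2_c31 LD3_c24)) = (LP (LK LD1_c1 LD2_c8 LD3_c38)) :=
  Lre_g IH (LK LD1_c0 LD2_c31 LD3_c24) (LK LD1_c1 LD2_c8 LD3_c38) Lrfl Lrfl
theorem f43248 : Led Lsl_gt (LP (LK LD1_c1 LD2_c8 LD3_c38)) = (LP (LK LD1_c0 LD2_c54 LD3_c37)) :=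
  Lgr Lrot46 (Lpe (f27580 IH) (Lpe (K0.f27549 IH) (Lpr_at (f43240 IH) (Lpn (LP (LK LD1_c0 LD2_c54 LD3_c37))))))
theorem f44546 : Led Lsl_ct (LP (LK LD1_c0 LD2_c35 LD3_c4)) = (LP (LK LD1_c1 LD2_c8 LD3_c38)) :=
  Lgr Lrot91 (Lpe (f7707 IH) (Lpr_bf (f28198 IH) (Lpe (f27828 IH) (Lpr_gf (K0.f27759 IH) (Lpe (K0.f27555 IH) (Lpr_bt (K0.f27744 IH) (Lpr_gf (f44544 IH) (Lpr_bf (f31453 IH) (Lpr_ct (f31438 IH) (Lpe (f43248 IH) (Lpn (LP (LK LD1_c1 LD2_c8 LD3_c38)))))))))))))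
theorem f44029 : Led Lsl_gf (LP (LK LD1_c0 LD2_c25 LD3_c25)) = (LP (LK LD1_c0 LD2_c27 LD3_c54)) :=
  Lgr Lrot47 (Lpr_gt (f44027 IH) (Lpr_af (K0.f31154 IH) (Lpe (K0.f31103 IH) (Lpn (LP (LK LD1_c0 LD2_c27 LD3_c54))))))
theorem f44560 : Led Lsl_bt (LP (LK LD1_c0 LD2_c35 LD3_c4)) = (LP (LK LD1_c0 LD2_c27 LD3_c54)) :=
  Lgr Lrot22 (Lpr_ct (f44546 IH) (Lpe (f27580 IH) (Lpe (f43216 IH) (Lpr_gf (f41377 IH) (Lpr_bf (f41282 IH) (Lpr_ct (f41284 IH) (Lpr_gf (f44299 IH) (Lpe (f3099 IH) (Lpe (f43917 IH) (Lpr_gf (f44029 IH) (Lpn (LP (LK LD1_c0 LD2_c27 LD3_c54)))))))))))))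
theorem f28241 : Led Lsl_cf (LP (LK LD1_c0 LD2_c15 LD3_c37)) = (LP (LK LD1_c0 LD2_c7 LD3_c5)) :=
  Lgr Lrot11 (Lpr_ct (f28235 IH) (Lpn (LP (LK LD1_c0 LD2_c7 LD3_c5))))
theorem f28312 : Led Lsl_bt (LP (LK LD1_c0 LD2_c15 LD3_c40)) = (LP (LK LD1_c0 LD2_c7 LD3_c5)) :=
  Lre_b IH (LK LD1_c0 LD2_c15 LD3_c40) (LK LD1_c0 LD2_c7 LD3_c5) Lrfl Lrfl
theorem f44023 : Led Lsl_ct (LP (LK LD1_c0 LD2_c25 LD3_c25)) = (LP (LK LD1_c0 LD2_c15 LD3_c40)) :=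
  Lgr Lrot83 (Lpr_bf (f43917 IH) (Lpe (f28311 IH) (Lpe (f28233 IH) (Lpr_cf (f28241 IH) (Lpe (f28312 IH) (Lpn (LP (LK LD1_c0 LD2_c15 LD3_c40))))))))
theorem f31129 : Led Lsl_gf (LP (LK LD1_c0 LD2_c10 LD3_c56)) = (LP (LK LD1_c0 LD2_c12 LD3_c19)) :=
  Lgr Lrot47 (Lpr_gt (K0.f28732 IH) (Lpr_af (K0.f31109 IH) (Lpr_ff (K0.f31118 IH) (Lpn (LP (LK LD1_c0 LD2_c12 LD3_c19))))))
theorem f44031 : Led Lsl_gt (LP (LK LD1_c0 LD2_c15 LD3_c40)) = (LP (LK LD1_c0 LD2_c27 LD3_c54)) :=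
  Lgr Lrot94 (Lpe (f44023 IH) (Lpr_gt (f44027 IH) (Lpr_dt (K0.f31042 IH) (Lpe (f31129 IH) (Lpr_dt (K0.f28461 IH) (Lpe (K0.f29148 IH) (Lpe (K0.f16670 IH) (Lpe (K0.f16675 IH) (Lpe (K0.f28581 IH) (Lpn (LP (LK LD1_c0 LD2_c27 LD3_c54))))))))))))
theorem f28240 : Led Lsl_bt (LP (LK LD1_c0 LD2_c7 LD3_c5)) = (LP (LK LD1_c0 LD2_c15 LD3_c40)) :=
  Lre_b IH (LK LD1_c0 LD2_c7 LD3_c5) (LK LD1_c0 LD2_c15 LD3_c40) Lrfl Lrfl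
theorem f44562 : Led Lsl_cf (LP (LK LD1_c0 LD2_c25 LD3_c9)) = (LP (LK LD1_c0 LD2_c26 LD3_c51)) :=
  Lgr Lrot125 (Lpe (f33114 IH) (Lpr_cf (f28241 IH) (Lpr_bt (f28240 IH) (Lpr_gt (f44031 IH) (Lpe (f44560 IH) (Lpr_ct (f44546 IH) (Lpr_gt (f43248 IH) (Lpe (f31438 IH) (Lpe (f31453 IH) (Lpe (f44544 IH) (Lpn (LP (LK LD1_c0 LD2_c26 LD3_c51)))))))))))))
theorem f30832 : Led Lsl_bf (LP (LK LD1_c0 LD2_c25 LD3_c10)) = (LP (LK LD1_c0 LD2_c27 LD3_c56)) :=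
  Lgr Lrot24 (Lpr_bt (f30830 IH) (Lpn (LP (LK LD1_c0 LD2_c27 LD3_c56))))
theorem f30839 : Led Lsl_ff (LP (LK LD1_c0 LD2_c27 LD3_c56)) = (LP (LK LD1_c0 LD2_c27 LD3_c56)) :=
  Lgr Lrot25 (Lpe (f30832 IH) (Lpr_ft (K0.f27920 IH) (Lpr_bt (f30830 IH) (Lpn (LP (LK LD1_c0 LD2_c27 LD3_c56))))))
theorem f27929 : Led Lsl_et (LP (LK LD1_c0 LD2_c2 LD3_c25)) = (LP (LK LD1_c0 LD2_c5 LD3_c18)) :=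
  Lre_e IH (LK LD1_c0 LD2_c2 LD3_c25) (LK LD1_c0 LD2_c5 LD3_c18) Lrfl Lrfl
theorem f27930 : Led Lsl_ft (LP (LK LD1_c0 LD2_c5 LD3_c18)) = (LP (LK LD1_c0 LD2_c11 LD3_c25)) :=
  Lre_f IH (LK LD1_c0 LD2_c5 LD3_c18) (LK LD1_c0 LD2_c11 LD3_c25) Lrfl Lrfl
theorem f27931 : Led Lsl_et (LP (LK LD1_c0 LD2_c5 LD3_c18)) = (LP (LK LD1_c0 LD2_c2 LD3_c25)) :=
  Lre_e IH (LK LD1_c0 LD2_c5 LD3_c18) (LK LD1_c0 LD2_c2 LD3_c25) Lrfl Lrfl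
theorem f27932 : Led Lsl_ft (LP (LK LD1_c0 LD2_c11 LD3_c25)) = (LP (LK LD1_c0 LD2_c5 LD3_c18)) :=
  Lre_f IH (LK LD1_c0 LD2_c11 LD3_c25) (LK LD1_c0 LD2_c5 LD3_c18) Lrfl Lrfl
theorem f27933 : Led Lsl_et (LP (LK LD1_c0 LD2_c11 LD3_c25)) = (LP (LK LD1_c0 LD2_c11 LD3_c25)) :=
  Lgr Lrot69 (Lpe (f27930 IH) (Lpe (f27929 IH) (Lpr_ff (K0.f27922 IH) (Lpe (f27931 IH) (Lpe (f27932 IH) (Lpn (LP (LK LD1_c0 LD2_c11 LD3_c25))))))))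
theorem f27949 : Led Lsl_ct (LP (LK LD1_c0 LD2_c25 LD3_c32)) = (LP (LK LD1_c0 LD2_c11 LD3_c25)) :=
  Lre_c IH (LK LD1_c0 LD2_c25 LD3_c32) (LK LD1_c0 LD2_c11 LD3_c25) Lrfl Lrfl
theorem f27950 : Led Lsl_ct (LP (LK LD1_c0 LD2_c11 LD3_c25)) = (LP (LK LD1_c0 LD2_c25 LD3_c32)) :=
  Lre_c IH (LK LD1_c0 LD2_c11 LD3_c25) (LK LD1_c0 LD2_c25 LD3_c32) Lrfl Lrfl
theorem f27951 : Led Lsl_ef (LP (LK LD1_c0 LD2_c25 LD3_c32)) = (LP (LK LD1_c0 LD2_c25 LD3_c32)) :=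
  Lgr Lrot28 (Lpr_ct (f27949 IH) (Lpr_et (f27933 IH) (Lpr_ct (f27950 IH) (Lpn (LP (LK LD1_c0 LD2_c25 LD3_c32))))))
theorem f27958 : Led Lsl_at (LP (LK LD1_c0 LD2_c25 LD3_c32)) = (LP (LK LD1_c0 LD2_c55 LD3_c31)) :=
  Lre_a IH (LK LD1_c0 LD2_c25 LD3_c32) (LK LD1_c0 LD2_c55 LD3_c31) Lrfl Lrfl
theorem f27959 : Led Lsl_at (LP (LK LD1_c0 LD2_c55 LD3_c31)) = (LP (LK LD1_c0 LD2_c25 LD3_c32)) :=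
  Lre_a IH (LK LD1_c0 LD2_c55 LD3_c31) (LK LD1_c0 LD2_c25 LD3_c32) Lrfl Lrfl
theorem f27960 : Led Lsl_et (LP (LK LD1_c0 LD2_c55 LD3_c31)) = (LP (LK LD1_c0 LD2_c55 LD3_c31)) :=
  Lgr Lrot123 (Lpe (f27958 IH) (Lpr_ef (f27951 IH) (Lpe (f27959 IH) (Lpn (LP (LK LD1_c0 LD2_c55 LD3_c31))))))
theorem f28131 : Led Lsl_ft (LP (LK LD1_c0 LD2_c25 LD3_c11)) = (LP (LK LD1_c0 LD2_c55 LD3_c31)) :=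
  Lre_f IH (LK LD1_c0 LD2_c25 LD3_c11) (LK LD1_c0 LD2_c55 LD3_c31) Lrfl Lrfl
theorem f28132 : Led Lsl_et (LP (LK LD1_c0 LD2_c11 LD3_c13)) = (LP (LK LD1_c0 LD2_c25 LD3_c11)) :=
  Lre_e IH (LK LD1_c0 LD2_c11 LD3_c13) (LK LD1_c0 LD2_c25 LD3_c11) Lrfl Lrfl
theorem f28133 : Led Lsl_ft (LP (LK LD1_c0 LD2_c55 LD3_c31)) = (LP (LK LD1_c0 LD2_c25 LD3_c11)) :=
  Lre_f IH (LK LD1_c0 LD2_c55 LD3_c31) (LK LD1_c0 LD2_c25 LD3_c11) Lrfl Lrfl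
theorem f28134 : Led Lsl_et (LP (LK LD1_c0 LD2_c25 LD3_c11)) = (LP (LK LD1_c0 LD2_c11 LD3_c13)) :=
  Lre_e IH (LK LD1_c0 LD2_c25 LD3_c11) (LK LD1_c0 LD2_c11 LD3_c13) Lrfl Lrfl
theorem f28135 : Led Lsl_ff (LP (LK LD1_c0 LD2_c11 LD3_c13)) = (LP (LK LD1_c0 LD2_c11 LD3_c13)) :=
  Lgr Lrot72 (Lpr_et (f28132 IH) (Lpr_ft (f28131 IH) (Lpr_et (f27960 IH) (Lpr_ft (f28133 IH) (Lpr_et (f28134 IH) (Lpn (LP (LK LD1_c0 LD2_c11 LD3_c13))))))))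
theorem f28147 : Led Lsl_ft (LP (LK LD1_c0 LD2_c25 LD3_c9)) = (LP (LK LD1_c0 LD2_c25 LD3_c9)) :=
  Lgr Lrot75 (Lpe (f27937 IH) (Lpr_ff (f28135 IH) (Lpe (f28146 IH) (Lpn (LP (LK LD1_c0 LD2_c25 LD3_c9))))))
theorem f30841 : Led Lsl_dt (LP (LK LD1_c0 LD2_c25 LD3_c9)) = (LP (LK LD1_c0 LD2_c27 LD3_c56)) :=
  Lgr Lrot60 (Lpe (f28147 IH) (Lpr_df (f30834 IH) (Lpr_ff (f30839 IH) (Lpn (LP (LK LD1_c0 LD2_c27 LD3_c56))))))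
theorem f44515 : Led Lsl_cf (LP (LK LD1_c0 LD2_c59 LD3_c8)) = (LP (LK LD1_c0 LD2_c27 LD3_c56)) :=
  Lgr Lrot11 (Lpr_ct (f44510 IH) (Lpn (LP (LK LD1_c0 LD2_c27 LD3_c56))))
theorem f43233 : Led Lsl_ff (LP (LK LD1_c0 LD2_c32 LD3_c17)) = (LP (LK LD1_c0 LD2_c32 LD3_c17)) :=
  Lgr Lrot25 (Lpr_bt (f31434 IH) (Lpr_ft (f43231 IH) (Lpe (f31453 IH) (Lpn (LP (LK LD1_c0 LD2_c32 LD3_c17))))))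
theorem f31455 : Led Lsl_ct (LP (LK LD1_c0 LD2_c14 LD3_c28)) = (LP (LK LD1_c0 LD2_c32 LD3_c17)) :=
  Lre_c IH (LK LD1_c0 LD2_c14 LD3_c28) (LK LD1_c0 LD2_c32 LD3_c17) Lrfl Lrfl
theorem f43278 : Led Lsl_ft (LP (LK LD1_c0 LD2_c14 LD3_c28)) = (LP (LK LD1_c0 LD2_c14 LD3_c28)) :=
  Lgr Lrot4 (Lpe (f31433 IH) (Lpr_ff (f43233 IH) (Lpe (f31455 IH) (Lpn (LP (LK LD1_c0 LD2_c14 LD3_c28))))))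
theorem f7027 : Led Lsl_gt (LP (LK LD1_c0 LD2_c6 LD3_c39)) = (LP (LK LD1_c0 LD2_c14 LD3_c27)) :=
  Lre_g IH (LK LD1_c0 LD2_c6 LD3_c39) (LK LD1_c0 LD2_c14 LD3_c27) Lrfl Lrfl
theorem f43318 : Led Lsl_af (LP (LK LD1_c0 LD2_c14 LD3_c27)) = (LP (LK LD1_c0 LD2_c14 LD3_c28)) :=
  Lgr Lrot31 (Lpe (f7027 IH) (Lpe (f31432 IH) (Lpr_ft (f43278 IH) (Lpn (LP (LK LD1_c0 LD2_c14 LD3_c28))))))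
theorem f43320 : Led Lsl_ct (LP (LK LD1_c0 LD2_c32 LD3_c15)) = (LP (LK LD1_c0 LD2_c14 LD3_c27)) :=
  Lre_c IH (LK LD1_c0 LD2_c32 LD3_c15) (LK LD1_c0 LD2_c14 LD3_c27) Lrfl Lrfl
theorem f44568 : Led Lsl_dt (LP (LK LD1_c0 LD2_c59 LD3_c8)) = (LP (LK LD1_c0 LD2_c32 LD3_c15)) :=
  Lgr Lrot120 (Lpr_cf (f44515 IH) (Lpe (f30841 IH) (Lpr_cf (f44562 IH) (Lpe (K0.f27726 IH) (Lpe (f43216 IH) (Lpr_df (f43907 IH) (Lpr_ft (f43278 IH) (Lpe (f43318 IH) (Lpe (f43320 IH) (Lpn (LP (LK LD1_c0 LD2_c32 LD3_c15))))))))))))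
theorem f44033 : Led Lsl_cf (LP (LK LD1_c0 LD2_c25 LD3_c25)) = (LP (LK LD1_c0 LD2_c15 LD3_c40)) :=
  Lgr Lrot166 (Lpr_gt (f44027 IH) (Lpr_dt (K0.f31042 IH) (Lpe (f31129 IH) (Lpr_dt (K0.f28461 IH) (Lpe (K0.f28805 IH) (Lpe (K0.f16670 IH) (Lpe (K0.f16675 IH) (Lpe (K0.f28581 IH) (Lpe (f44031 IH) (Lpn (LP (LK LD1_c0 LD2_c15 LD3_c40))))))))))))
theorem f33126 : Led Lsl_bt (LP (LK LD1_c0 LD2_c14 LD3_c51)) = (LP (LK LD1_c0 LD2_c33 LD3_c1)) :=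
  Lre_b IH (LK LD1_c0 LD2_c14 LD3_c51) (LK LD1_c0 LD2_c33 LD3_c1) Lrfl Lrfl
theorem f44526 : Led Lsl_gf (LP (LK LD1_c0 LD2_c59 LD3_c8)) = (LP (LK LD1_c0 LD2_c33 LD3_c1)) :=
  Lgr Lrot181 (Lpr_ct (f44510 IH) (Lpr_gt (f41850 IH) (Lpe (f41286 IH) (Lpr_bt (f41292 IH) (Lpr_gt (f44306 IH) (Lpe (f28312 IH) (Lpe (f44033 IH) (Lpr_gt (f44027 IH) (Lpr_cf (K0.f33136 IH) (Lpr_bt (f33126 IH) (Lpn (LP (LK LD1_c0 LD2_c33 LD3_c1)))))))))))))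
theorem f28730 : Led Lsl_bt (LP (LK LD1_c0 LD2_c12 LD3_c21)) = (LP (LK LD1_c0 LD2_c5 LD3_c40)) :=
  Lre_b IH (LK LD1_c0 LD2_c12 LD3_c21) (LK LD1_c0 LD2_c5 LD3_c40) Lrfl Lrfl
theorem f29003 : Led Lsl_dt (LP (LK LD1_c0 LD2_c12 LD3_c21)) = (LP (LK LD1_c0 LD2_c27 LD3_c58)) :=
  Lre_d IH (LK LD1_c0 LD2_c12 LD3_c21) (LK LD1_c0 LD2_c27 LD3_c58) Lrfl Lrfl
theorem f42109 : Led Lsl_df (LP (LK LD1_c0 LD2_c5 LD3_c46)) = (LP (LK LD1_c0 LD2_c7 LD3_c55)) :=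
  Lgr Lrot106 (Lpr_ct (f29004 IH) (Lpr_dt (f29003 IH) (Lpr_ct (K0.f28808 IH) (Lpr_dt (f42081 IH) (Lpr_ct (f41875 IH) (Lpe (f41278 IH) (Lpe (f41305 IH) (Lpe (f8114 IH) (Lpr_ct (K0.f28188 IH) (Lpn (LP (LK LD1_c0 LD2_c7 LD3_c55))))))))))))
theorem f33127 : Led Lsl_df (LP (LK LD1_c0 LD2_c27 LD3_c46)) = (LP (LK LD1_c0 LD2_c33 LD3_c1)) :=
  Lgr Lrot12 (Lpr_bt (K0.f27880 IH) (Lpr_dt (K0.f33124 IH) (Lpr_bt (f33126 IH) (Lpn (LP (LK LD1_c0 LD2_c33 LD3_c1))))))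
theorem f43323 : Led Lsl_bt (LP (LK LD1_c0 LD2_c14 LD3_c27)) = (LP (LK LD1_c0 LD2_c32 LD3_c14)) :=
  Lre_b IH (LK LD1_c0 LD2_c14 LD3_c27) (LK LD1_c0 LD2_c32 LD3_c14) Lrfl Lrfl
theorem f44573 : Led Lsl_gf (LP (LK LD1_c0 LD2_c33 LD3_c1)) = (LP (LK LD1_c0 LD2_c32 LD3_c14)) :=
  Lgr Lrot85 (Lpe (f33127 IH) (Lpr_ct (K0.f28721 IH) (Lpr_bt (K0.f28726 IH) (Lpr_gt (K0.f16675 IH) (Lpr_dt (K0.f16670 IH) (Lpr_ct (K0.f29148 IH) (Lpe (f29059 IH) (Lpr_gt (K0.f6968 IH) (Lpe (f42109 IH) (Lpr_ct (f29004 IH) (Lpr_bt (f28730 IH) (Lpr_gt (K0.f21230 IH) (Lpr_dt (K0.f30829 IH) (Lpr_ct (f33138 IH) (Lpr_bt (f33126 IH) (Lpe (f44526 IH) (Lpr_dt (f44568 IH) (Lpr_ct (f43320 IH) (Lpr_bt (f43323 IH) (Lpn (LP (LK LD1_c0 LD2_c32 LD3_c14))))))))))))))))))))))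
theorem f43321 : Led Lsl_at (LP (LK LD1_c0 LD2_c14 LD3_c27)) = (LP (LK LD1_c0 LD2_c14 LD3_c28)) :=
  Lgr Lrot100 (Lpr_af (f43318 IH) (Lpn (LP (LK LD1_c0 LD2_c14 LD3_c28))))
theorem f43330 : Led Lsl_ft (LP (LK LD1_c0 LD2_c14 LD3_c27)) = (LP (LK LD1_c0 LD2_c14 LD3_c27)) :=
  Lgr Lrot101 (Lpr_af (f43318 IH) (Lpe (f43278 IH) (Lpe (f43321 IH) (Lpn (LP (LK LD1_c0 LD2_c14 LD3_c27))))))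
theorem f43342 : Led Lsl_gt (LP (LK LD1_c0 LD2_c14 LD3_c27)) = (LP (LK LD1_c0 LD2_c14 LD3_c29)) :=
  Lgr Lrot5 (Lpr_ft (f43330 IH) (Lpr_at (f43321 IH) (Lpe (f41389 IH) (Lpn (LP (LK LD1_c0 LD2_c14 LD3_c29))))))
theorem f44046 : Led Lsl_et (LP (LK LD1_c0 LD2_c7 LD3_c4)) = (LP (LK LD1_c0 LD2_c15 LD3_c39)) :=
  Lre_e IH (LK LD1_c0 LD2_c7 LD3_c4) (LK LD1_c0 LD2_c15 LD3_c39) Lrfl Lrfl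
theorem f44047 : Led Lsl_dt (LP (LK LD1_c0 LD2_c15 LD3_c39)) = (LP (LK LD1_c0 LD2_c34 LD3_c53)) :=
  Lre_d IH (LK LD1_c0 LD2_c15 LD3_c39) (LK LD1_c0 LD2_c34 LD3_c53) Lrfl Lrfl
theorem f44048 : Led Lsl_et (LP (LK LD1_c0 LD2_c28 LD3_c28)) = (LP (LK LD1_c0 LD2_c12 LD3_c34)) :=
  Lre_e IH (LK LD1_c0 LD2_c28 LD3_c28) (LK LD1_c0 LD2_c12 LD3_c34) Lrfl Lrfl
theorem f44049 : Led Lsl_dt (LP (LK LD1_c1 LD2_c2 LD3_c25)) = (LP (LK LD1_c0 LD2_c28 LD3_c28)) :=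
  Lre_d IH (LK LD1_c1 LD2_c2 LD3_c25) (LK LD1_c0 LD2_c28 LD3_c28) Lrfl Lrfl
theorem f44050 : Led Lsl_et (LP (LK LD1_c0 LD2_c34 LD3_c53)) = (LP (LK LD1_c1 LD2_c2 LD3_c25)) :=
  Lgr Lrot71 (Lpe (f44047 IH) (Lpe (f44046 IH) (Lpr_df (f44037 IH) (Lpe (f44048 IH) (Lpe (f44049 IH) (Lpn (LP (LK LD1_c1 LD2_c2 LD3_c25))))))))
theorem f44068 : Led Lsl_ft (LP (LK LD1_c1 LD2_c15 LD3_c14)) = (LP (LK LD1_c0 LD2_c34 LD3_c53)) :=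
  Lre_f IH (LK LD1_c1 LD2_c15 LD3_c14) (LK LD1_c0 LD2_c34 LD3_c53) Lrfl Lrfl
theorem f44069 : Led Lsl_et (LP (LK LD1_c2 LD2_c36 LD3_c29)) = (LP (LK LD1_c1 LD2_c15 LD3_c14)) :=
  Lre_e IH (LK LD1_c2 LD2_c36 LD3_c29) (LK LD1_c1 LD2_c15 LD3_c14) Lrfl Lrfl
theorem f44070 : Led Lsl_ft (LP (LK LD1_c1 LD2_c2 LD3_c25)) = (LP (LK LD1_c2 LD2_c10 LD3_c52)) :=
  Lre_f IH (LK LD1_c1 LD2_c2 LD3_c25) (LK LD1_c2 LD2_c10 LD3_c52) Lrfl Lrfl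
theorem f44071 : Led Lsl_et (LP (LK LD1_c2 LD2_c10 LD3_c52)) = (LP (LK LD1_c4 LD2_c27 LD3_c21)) :=
  Lre_e IH (LK LD1_c2 LD2_c10 LD3_c52) (LK LD1_c4 LD2_c27 LD3_c21) Lrfl Lrfl
theorem f44072 : Led Lsl_ff (LP (LK LD1_c2 LD2_c36 LD3_c29)) = (LP (LK LD1_c4 LD2_c27 LD3_c21)) :=
  Lgr Lrot72 (Lpr_et (f44069 IH) (Lpr_ft (f44068 IH) (Lpr_et (f44050 IH) (Lpr_ft (f44070 IH) (Lpr_et (f44071 IH) (Lpn (LP (LK LD1_c4 LD2_c27 LD3_c21))))))))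
theorem f44088 : Led Lsl_ft (LP (LK LD1_c2 LD2_c36 LD3_c29)) = (LP (LK LD1_c4 LD2_c27 LD3_c21)) :=
  Lgr Lrot48 (Lpr_ff (f44072 IH) (Lpn (LP (LK LD1_c4 LD2_c27 LD3_c21))))
theorem f44094 : Led Lsl_ct (LP (LK LD1_c5 LD2_c19 LD3_c41)) = (LP (LK LD1_c2 LD2_c36 LD3_c29)) :=
  Lre_c IH (LK LD1_c5 LD2_c19 LD3_c41) (LK LD1_c2 LD2_c36 LD3_c29) Lrfl Lrfl
theorem f44095 : Led Lsl_ct (LP (LK LD1_c4 LD2_c27 LD3_c21)) = (LP (LK LD1_c8 LD2_c52 LD3_c28)) :=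
  Lre_c IH (LK LD1_c4 LD2_c27 LD3_c21) (LK LD1_c8 LD2_c52 LD3_c28) Lrfl Lrfl
theorem f44096 : Led Lsl_ff (LP (LK LD1_c5 LD2_c19 LD3_c41)) = (LP (LK LD1_c8 LD2_c52 LD3_c28)) :=
  Lgr Lrot23 (Lpr_ct (f44094 IH) (Lpr_ft (f44088 IH) (Lpr_ct (f44095 IH) (Lpn (LP (LK LD1_c8 LD2_c52 LD3_c28))))))
theorem f44107 : Led Lsl_et (LP (LK LD1_c5 LD2_c19 LD3_c41)) = (LP (LK LD1_c2 LD2_c36 LD3_c28)) :=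
  Lre_e IH (LK LD1_c5 LD2_c19 LD3_c41) (LK LD1_c2 LD2_c36 LD3_c28) Lrfl Lrfl
theorem f44108 : Led Lsl_ft (LP (LK LD1_c2 LD2_c36 LD3_c28)) = (LP (LK LD1_c1 LD2_c15 LD3_c13)) :=
  Lre_f IH (LK LD1_c2 LD2_c36 LD3_c28) (LK LD1_c1 LD2_c15 LD3_c13) Lrfl Lrfl
theorem f44109 : Led Lsl_et (LP (LK LD1_c4 LD2_c27 LD3_c20)) = (LP (LK LD1_c8 LD2_c52 LD3_c28)) :=
  Lre_e IH (LK LD1_c4 LD2_c27 LD3_c20) (LK LD1_c8 LD2_c52 LD3_c28) Lrfl Lrfl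
theorem f44110 : Led Lsl_ft (LP (LK LD1_c2 LD2_c10 LD3_c51)) = (LP (LK LD1_c4 LD2_c27 LD3_c20)) :=
  Lre_f IH (LK LD1_c2 LD2_c10 LD3_c51) (LK LD1_c4 LD2_c27 LD3_c20) Lrfl Lrfl
theorem f44111 : Led Lsl_et (LP (LK LD1_c1 LD2_c15 LD3_c13)) = (LP (LK LD1_c2 LD2_c10 LD3_c51)) :=
  Lgr Lrot69 (Lpe (f44108 IH) (Lpe (f44107 IH) (Lpr_ff (f44096 IH) (Lpe (f44109 IH) (Lpe (f44110 IH) (Lpn (LP (LK LD1_c2 LD2_c10 LD3_c51))))))))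
theorem f44114 : Led Lsl_bt (LP (LK LD1_c2 LD2_c36 LD3_c26)) = (LP (LK LD1_c1 LD2_c15 LD3_c13)) :=
  Lre_b IH (LK LD1_c2 LD2_c36 LD3_c26) (LK LD1_c1 LD2_c15 LD3_c13) Lrfl Lrfl
theorem f44115 : Led Lsl_bt (LP (LK LD1_c2 LD2_c10 LD3_c51)) = (LP (LK LD1_c4 LD2_c27 LD3_c18)) :=
  Lre_b IH (LK LD1_c2 LD2_c10 LD3_c51) (LK LD1_c4 LD2_c27 LD3_c18) Lrfl Lrfl
theorem f44116 : Led Lsl_ef (LP (LK LD1_c2 LD2_c36 LD3_c26)) = (LP (LK LD1_c4 LD2_c27 LD3_c18)) :=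
  Lgr Lrot29 (Lpr_bt (f44114 IH) (Lpr_et (f44111 IH) (Lpr_bt (f44115 IH) (Lpn (LP (LK LD1_c4 LD2_c27 LD3_c18))))))
theorem f44184 : Led Lsl_et (LP (LK LD1_c2 LD2_c36 LD3_c26)) = (LP (LK LD1_c4 LD2_c27 LD3_c18)) :=
  Lgr Lrot87 (Lpr_ef (f44116 IH) (Lpn (LP (LK LD1_c4 LD2_c27 LD3_c18))))
theorem f44200 : Led Lsl_ct (LP (LK LD1_c5 LD2_c19 LD3_c6)) = (LP (LK LD1_c2 LD2_c36 LD3_c26)) :=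
  Lre_c IH (LK LD1_c5 LD2_c19 LD3_c6) (LK LD1_c2 LD2_c36 LD3_c26) Lrfl Lrfl
theorem f44201 : Led Lsl_ct (LP (LK LD1_c4 LD2_c27 LD3_c18)) = (LP (LK LD1_c8 LD2_c52 LD3_c2)) :=
  Lre_c IH (LK LD1_c4 LD2_c27 LD3_c18) (LK LD1_c8 LD2_c52 LD3_c2) Lrfl Lrfl
theorem f44202 : Led Lsl_ef (LP (LK LD1_c5 LD2_c19 LD3_c6)) = (LP (LK LD1_c8 LD2_c52 LD3_c2)) :=
  Lgr Lrot28 (Lpr_ct (f44200 IH) (Lpr_et (f44184 IH) (Lpr_ct (f44201 IH) (Lpn (LP (LK LD1_c8 LD2_c52 LD3_c2))))))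
theorem f44209 : Led Lsl_bt (LP (LK LD1_c5 LD2_c19 LD3_c6)) = (LP (LK LD1_c2 LD2_c36 LD3_c12)) :=
  Lre_b IH (LK LD1_c5 LD2_c19 LD3_c6) (LK LD1_c2 LD2_c36 LD3_c12) Lrfl Lrfl
theorem f44210 : Led Lsl_bt (LP (LK LD1_c4 LD2_c27 LD3_c10)) = (LP (LK LD1_c8 LD2_c52 LD3_c2)) :=
  Lre_b IH (LK LD1_c4 LD2_c27 LD3_c10) (LK LD1_c8 LD2_c52 LD3_c2) Lrfl Lrfl
theorem f44211 : Led Lsl_et (LP (LK LD1_c2 LD2_c36 LD3_c12)) = (LP (LK LD1_c4 LD2_c27 LD3_c10)) :=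
  Lgr Lrot74 (Lpe (f44209 IH) (Lpr_ef (f44202 IH) (Lpe (f44210 IH) (Lpn (LP (LK LD1_c4 LD2_c27 LD3_c10))))))
theorem f44219 : Led Lsl_ef (LP (LK LD1_c2 LD2_c36 LD3_c12)) = (LP (LK LD1_c4 LD2_c27 LD3_c10)) :=
  Lgr Lrot88 (Lpr_et (f44211 IH) (Lpn (LP (LK LD1_c4 LD2_c27 LD3_c10))))
theorem f28270 : Led Lsl_ct (LP (LK LD1_c2 LD2_c36 LD3_c12)) = (LP (LK LD1_c1 LD2_c15 LD3_c5)) :=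
  Lre_c IH (LK LD1_c2 LD2_c36 LD3_c12) (LK LD1_c1 LD2_c15 LD3_c5) Lrfl Lrfl
theorem f44223 : Led Lsl_ct (LP (LK LD1_c2 LD2_c10 LD3_c46)) = (LP (LK LD1_c4 LD2_c27 LD3_c10)) :=
  Lre_c IH (LK LD1_c2 LD2_c10 LD3_c46) (LK LD1_c4 LD2_c27 LD3_c10) Lrfl Lrfl
theorem f44224 : Led Lsl_et (LP (LK LD1_c1 LD2_c15 LD3_c5)) = (LP (LK LD1_c2 LD2_c10 LD3_c46)) :=
  Lgr Lrot158 (Lpe (f28270 IH) (Lpr_ef (f44219 IH) (Lpe (f44223 IH) (Lpn (LP (LK LD1_c2 LD2_c10 LD3_c46))))))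
theorem f28253 : Led Lsl_dt (LP (LK LD1_c0 LD2_c34 LD3_c50)) = (LP (LK LD1_c1 LD2_c15 LD3_c5)) :=
  Lre_d IH (LK LD1_c0 LD2_c34 LD3_c50) (LK LD1_c1 LD2_c15 LD3_c5) Lrfl Lrfl
theorem f28305 : Led Lsl_et (LP (LK LD1_c0 LD2_c15 LD3_c37)) = (LP (LK LD1_c0 LD2_c34 LD3_c50)) :=
  Lre_e IH (LK LD1_c0 LD2_c15 LD3_c37) (LK LD1_c0 LD2_c34 LD3_c50) Lrfl Lrfl
theorem f44229 : Led Lsl_dt (LP (LK LD1_c2 LD2_c10 LD3_c46)) = (LP (LK LD1_c1 LD2_c2 LD3_c23)) :=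
  Lre_d IH (LK LD1_c2 LD2_c10 LD3_c46) (LK LD1_c1 LD2_c2 LD3_c23) Lrfl Lrfl
theorem f44230 : Led Lsl_et (LP (LK LD1_c1 LD2_c2 LD3_c23)) = (LP (LK LD1_c0 LD2_c28 LD3_c27)) :=
  Lre_e IH (LK LD1_c1 LD2_c2 LD3_c23) (LK LD1_c0 LD2_c28 LD3_c27) Lrfl Lrfl
theorem f44231 : Led Lsl_df (LP (LK LD1_c0 LD2_c15 LD3_c37)) = (LP (LK LD1_c0 LD2_c28 LD3_c27)) :=
  Lgr Lrot70 (Lpr_et (f28305 IH) (Lpr_dt (f28253 IH) (Lpr_et (f44224 IH) (Lpr_dt (f44229 IH) (Lpr_et (f44230 IH) (Lpn (LP (LK LD1_c0 LD2_c28 LD3_c27))))))))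
theorem f44293 : Led Lsl_ct (LP (LK LD1_c0 LD2_c15 LD3_c42)) = (LP (LK LD1_c0 LD2_c28 LD3_c27)) :=
  Lgr Lrot59 (Lpr_cf (f44289 IH) (Lpn (LP (LK LD1_c0 LD2_c28 LD3_c27))))
theorem f44317 : Led Lsl_dt (LP (LK LD1_c0 LD2_c14 LD3_c27)) = (LP (LK LD1_c0 LD2_c24 LD3_c40)) :=
  Lgr Lrot6 (Lpr_gt (f43342 IH) (Lpr_ct (f41284 IH) (Lpr_gt (f44306 IH) (Lpe (f28241 IH) (Lpr_df (f44231 IH) (Lpe (f44293 IH) (Lpr_gf (f42130 IH) (Lpr_cf (f41884 IH) (Lpe (f43237 IH) (Lpn (LP (LK LD1_c0 LD2_c24 LD3_c40))))))))))))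
theorem f43337 : Led Lsl_et (LP (LK LD1_c0 LD2_c32 LD3_c16)) = (LP (LK LD1_c0 LD2_c14 LD3_c27)) :=
  Lre_e IH (LK LD1_c0 LD2_c32 LD3_c16) (LK LD1_c0 LD2_c14 LD3_c27) Lrfl Lrfl
theorem f43549 : Led Lsl_dt (LP (LK LD1_c1 LD2_c9 LD3_c43)) = (LP (LK LD1_c0 LD2_c32 LD3_c16)) :=
  Lre_d IH (LK LD1_c1 LD2_c9 LD3_c43) (LK LD1_c0 LD2_c32 LD3_c16) Lrfl Lrfl
theorem f31457 : Led Lsl_et (LP (LK LD1_c0 LD2_c24 LD3_c40)) = (LP (LK LD1_c0 LD2_c54 LD3_c38)) :=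
  Lre_e IH (LK LD1_c0 LD2_c24 LD3_c40) (LK LD1_c0 LD2_c54 LD3_c38) Lrfl Lrfl
theorem f31516 : Led Lsl_dt (LP (LK LD1_c0 LD2_c54 LD3_c38)) = (LP (LK LD1_c1 LD2_c55 LD3_c48)) :=
  Lre_d IH (LK LD1_c0 LD2_c54 LD3_c38) (LK LD1_c1 LD2_c55 LD3_c48) Lrfl Lrfl
theorem f44322 : Led Lsl_ef (LP (LK LD1_c1 LD2_c9 LD3_c43)) = (LP (LK LD1_c1 LD2_c55 LD3_c48)) :=
  Lgr Lrot73 (Lpr_dt (f43549 IH) (Lpr_et (f43337 IH) (Lpr_dt (f44317 IH) (Lpr_et (f31457 IH) (Lpr_dt (f31516 IH) (Lpn (LP (LK LD1_c1 LD2_c55 LD3_c48))))))))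
theorem f44333 : Led Lsl_et (LP (LK LD1_c1 LD2_c9 LD3_c43)) = (LP (LK LD1_c1 LD2_c55 LD3_c48)) :=
  Lgr Lrot87 (Lpr_ef (f44322 IH) (Lpn (LP (LK LD1_c1 LD2_c55 LD3_c48))))
theorem f43464 : Led Lsl_bt (LP (LK LD1_c2 LD2_c24 LD3_c53)) = (LP (LK LD1_c1 LD2_c9 LD3_c43)) :=
  Lre_b IH (LK LD1_c2 LD2_c24 LD3_c53) (LK LD1_c1 LD2_c9 LD3_c43) Lrfl Lrfl
theorem f31456 : Led Lsl_et (LP (LK LD1_c1 LD2_c9 LD3_c45)) = (LP (LK LD1_c0 LD2_c32 LD3_c17)) :=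
  Lre_e IH (LK LD1_c1 LD2_c9 LD3_c45) (LK LD1_c0 LD2_c32 LD3_c17) Lrfl Lrfl
theorem f31458 : Led Lsl_bf (LP (LK LD1_c1 LD2_c9 LD3_c45)) = (LP (LK LD1_c0 LD2_c54 LD3_c38)) :=
  Lgr Lrot96 (Lpr_et (f31456 IH) (Lpr_bt (f31434 IH) (Lpr_et (f31457 IH) (Lpn (LP (LK LD1_c0 LD2_c54 LD3_c38))))))
theorem f31464 : Led Lsl_dt (LP (LK LD1_c1 LD2_c9 LD3_c45)) = (LP (LK LD1_c2 LD2_c25 LD3_c1)) :=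
  Lre_d IH (LK LD1_c1 LD2_c9 LD3_c45) (LK LD1_c2 LD2_c25 LD3_c1) Lrfl Lrfl
theorem f31465 : Led Lsl_dt (LP (LK LD1_c1 LD2_c55 LD3_c48)) = (LP (LK LD1_c0 LD2_c54 LD3_c38)) :=
  Lre_d IH (LK LD1_c1 LD2_c55 LD3_c48) (LK LD1_c0 LD2_c54 LD3_c38) Lrfl Lrfl
theorem f31466 : Led Lsl_bt (LP (LK LD1_c2 LD2_c25 LD3_c1)) = (LP (LK LD1_c1 LD2_c55 LD3_c48)) :=
  Lgr Lrot95 (Lpe (f31464 IH) (Lpr_bf (f31458 IH) (Lpe (f31465 IH) (Lpn (LP (LK LD1_c1 LD2_c55 LD3_c48))))))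
theorem f31472 : Led Lsl_bf (LP (LK LD1_c2 LD2_c25 LD3_c1)) = (LP (LK LD1_c1 LD2_c55 LD3_c48)) :=
  Lgr Lrot24 (Lpr_bt (f31466 IH) (Lpn (LP (LK LD1_c1 LD2_c55 LD3_c48))))
theorem f44335 : Led Lsl_ef (LP (LK LD1_c2 LD2_c24 LD3_c53)) = (LP (LK LD1_c2 LD2_c25 LD3_c1)) :=
  Lgr Lrot29 (Lpr_bt (f43464 IH) (Lpr_et (f44333 IH) (Lpe (f31472 IH) (Lpn (LP (LK LD1_c2 LD2_c25 LD3_c1))))))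
theorem f44442 : Led Lsl_dt (LP (LK LD1_c2 LD2_c24 LD3_c53)) = (LP (LK LD1_c1 LD2_c9 LD3_c40)) :=
  Lre_d IH (LK LD1_c2 LD2_c24 LD3_c53) (LK LD1_c1 LD2_c9 LD3_c40) Lrfl Lrfl
theorem f43397 : Led Lsl_et (LP (LK LD1_c1 LD2_c9 LD3_c40)) = (LP (LK LD1_c0 LD2_c32 LD3_c14)) :=
  Lre_e IH (LK LD1_c1 LD2_c9 LD3_c40) (LK LD1_c0 LD2_c32 LD3_c14) Lrfl Lrfl
theorem f31522 : Led Lsl_et (LP (LK LD1_c0 LD2_c32 LD3_c17)) = (LP (LK LD1_c1 LD2_c9 LD3_c45)) :=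
  Lre_e IH (LK LD1_c0 LD2_c32 LD3_c17) (LK LD1_c1 LD2_c9 LD3_c45) Lrfl Lrfl
theorem f44443 : Led Lsl_dt (LP (LK LD1_c0 LD2_c32 LD3_c14)) = (LP (LK LD1_c0 LD2_c32 LD3_c17)) :=
  Lgr Lrot77 (Lpe (f43397 IH) (Lpe (f44442 IH) (Lpr_ef (f44335 IH) (Lpe (f31464 IH) (Lpe (f31522 IH) (Lpn (LP (LK LD1_c0 LD2_c32 LD3_c17))))))))
theorem f41866 : Led Lsl_gt (LP (LK LD1_c0 LD2_c25 LD3_c44)) = (LP (LK LD1_c0 LD2_c11 LD3_c27)) :=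
  Lre_g IH (LK LD1_c0 LD2_c25 LD3_c44) (LK LD1_c0 LD2_c11 LD3_c27) Lrfl Lrfl
theorem f44576 : Led Lsl_ct (LP (LK LD1_c0 LD2_c33 LD3_c1)) = (LP (LK LD1_c0 LD2_c25 LD3_c44)) :=
  Lgr Lrot186 (Lpr_gf (f44573 IH) (Lpr_dt (f44443 IH) (Lpe (f44544 IH) (Lpe (f44562 IH) (Lpe (f33114 IH) (Lpr_ct (f28235 IH) (Lpe (f44311 IH) (Lpe (f41854 IH) (Lpe (f41866 IH) (Lpn (LP (LK LD1_c0 LD2_c25 LD3_c44))))))))))))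
theorem f43332 : Led Lsl_bt (LP (LK LD1_c0 LD2_c32 LD3_c14)) = (LP (LK LD1_c0 LD2_c14 LD3_c27)) :=
  Lre_b IH (LK LD1_c0 LD2_c32 LD3_c14) (LK LD1_c0 LD2_c14 LD3_c27) Lrfl Lrfl
theorem f44320 : Led Lsl_df (LP (LK LD1_c0 LD2_c32 LD3_c14)) = (LP (LK LD1_c0 LD2_c32 LD3_c17)) :=
  Lgr Lrot12 (Lpr_bt (f43332 IH) (Lpr_dt (f44317 IH) (Lpe (f31453 IH) (Lpn (LP (LK LD1_c0 LD2_c32 LD3_c17))))))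
theorem f44587 : Led Lsl_df (LP (LK LD1_c0 LD2_c7 LD3_c5)) = (LP (LK LD1_c0 LD2_c12 LD3_c35)) :=
  Lgr Lrot162 (Lpe (f28235 IH) (Lpr_gf (f33114 IH) (Lpr_cf (f44562 IH) (Lpr_gf (f44544 IH) (Lpe (f44320 IH) (Lpe (f44573 IH) (Lpr_ct (f44576 IH) (Lpr_gt (f41866 IH) (Lpr_ct (f41854 IH) (Lpn (LP (LK LD1_c0 LD2_c12 LD3_c35))))))))))))
theorem f44589 : Led Lsl_dt (LP (LK LD1_c0 LD2_c15 LD3_c40)) = (LP (LK LD1_c0 LD2_c11 LD3_c18)) :=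
  Lgr Lrot79 (Lpe (f28240 IH) (Lpr_df (f44587 IH) (Lpe (f44478 IH) (Lpn (LP (LK LD1_c0 LD2_c11 LD3_c18))))))
theorem f44035 : Led Lsl_gf (LP (LK LD1_c0 LD2_c15 LD3_c40)) = (LP (LK LD1_c0 LD2_c27 LD3_c51)) :=
  Lgr Lrot147 (Lpe (f44033 IH) (Lpr_gt (f44027 IH) (Lpr_ct (f33138 IH) (Lpe (K0.f33124 IH) (Lpe (K0.f27814 IH) (Lpr_gf (K0.f28734 IH) (Lpe (K0.f28323 IH) (Lpr_gf (f31129 IH) (Lpe (K0.f31042 IH) (Lpn (LP (LK LD1_c0 LD2_c27 LD3_c51))))))))))))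
theorem f33273 : Led Lsl_at (LP (LK LD1_c0 LD2_c14 LD3_c51)) = (LP (LK LD1_c0 LD2_c14 LD3_c50)) :=
  Lgr Lrot107 (Lpe (f33138 IH) (Lpr_af (K0.f31154 IH) (Lpr_cf (K0.f33140 IH) (Lpn (LP (LK LD1_c0 LD2_c14 LD3_c50))))))
theorem f31065 : Led Lsl_ft (LP (LK LD1_c0 LD2_c12 LD3_c17)) = (LP (LK LD1_c0 LD2_c12 LD3_c17)) :=
  Lgr Lrot4 (Lpe (K0.f27814 IH) (Lpr_ff (K0.f31061 IH) (Lpe (K0.f27817 IH) (Lpn (LP (LK LD1_c0 LD2_c12 LD3_c17))))))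
theorem f33134 : Led Lsl_ff (LP (LK LD1_c0 LD2_c14 LD3_c51)) = (LP (LK LD1_c0 LD2_c14 LD3_c51)) :=
  Lgr Lrot19 (Lpe (K0.f33129 IH) (Lpr_ft (f31065 IH) (Lpr_dt (K0.f33124 IH) (Lpn (LP (LK LD1_c0 LD2_c14 LD3_c51))))))
theorem f33285 : Led Lsl_af (LP (LK LD1_c0 LD2_c14 LD3_c51)) = (LP (LK LD1_c0 LD2_c14 LD3_c50)) :=
  Lgr Lrot45 (Lpe (f33134 IH) (Lpr_at (f33273 IH) (Lpr_ft (K0.f33282 IH) (Lpn (LP (LK LD1_c0 LD2_c14 LD3_c50))))))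
theorem f33344 : Led Lsl_gt (LP (LK LD1_c0 LD2_c14 LD3_c50)) = (LP (LK LD1_c0 LD2_c14 LD3_c52)) :=
  Lgr Lrot5 (Lpr_ft (K0.f33282 IH) (Lpe (f33285 IH) (Lpr_gf (K0.f33342 IH) (Lpn (LP (LK LD1_c0 LD2_c14 LD3_c52))))))
theorem f32929 : Led Lsl_bt (LP (LK LD1_c0 LD2_c32 LD3_c61)) = (LP (LK LD1_c0 LD2_c14 LD3_c50)) :=
  Lre_b IH (LK LD1_c0 LD2_c32 LD3_c61) (LK LD1_c0 LD2_c14 LD3_c50) Lrfl Lrfl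
theorem f32928 : Led Lsl_ct (LP (LK LD1_c0 LD2_c32 LD3_c61)) = (LP (LK LD1_c0 LD2_c34 LD3_c40)) :=
  Lre_c IH (LK LD1_c0 LD2_c32 LD3_c61) (LK LD1_c0 LD2_c34 LD3_c40) Lrfl Lrfl
theorem f32083 : Led Lsl_ft (LP (LK LD1_c0 LD2_c34 LD3_c41)) = (LP (LK LD1_c1 LD2_c14 LD3_c47)) :=
  Lre_f IH (LK LD1_c0 LD2_c34 LD3_c41) (LK LD1_c1 LD2_c14 LD3_c47) Lrfl Lrfl
theorem f28495 : Led Lsl_ft (LP (LK LD1_c1 LD2_c0 LD3_c48)) = (LP (LK LD1_c0 LD2_c27 LD3_c42)) :=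
  Lre_f IH (LK LD1_c1 LD2_c0 LD3_c48) (LK LD1_c0 LD2_c27 LD3_c42) Lrfl Lrfl
theorem f32084 : Led Lsl_bt (LP (LK LD1_c1 LD2_c14 LD3_c47)) = (LP (LK LD1_c1 LD2_c0 LD3_c48)) :=
  Lgr Lrot35 (Lpe (f32083 IH) (Lpr_bf (K0.f32063 IH) (Lpe (f28495 IH) (Lpn (LP (LK LD1_c1 LD2_c0 LD3_c48))))))
theorem f28481 : Led Lsl_ct (LP (LK LD1_c1 LD2_c0 LD3_c48)) = (LP (LK LD1_c0 LD2_c27 LD3_c45)) :=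
  Lre_c IH (LK LD1_c1 LD2_c0 LD3_c48) (LK LD1_c0 LD2_c27 LD3_c45) Lrfl Lrfl
theorem f28482 : Led Lsl_et (LP (LK LD1_c1 LD2_c0 LD3_c48)) = (LP (LK LD1_c1 LD2_c0 LD3_c48)) :=
  Lgr Lrot158 (Lpe (K0.f28480 IH) (Lpr_ef (f28478 IH) (Lpe (f28481 IH) (Lpn (LP (LK LD1_c1 LD2_c0 LD3_c48))))))
theorem f32095 : Led Lsl_bf (LP (LK LD1_c1 LD2_c14 LD3_c47)) = (LP (LK LD1_c1 LD2_c0 LD3_c48)) :=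
  Lgr Lrot24 (Lpr_bt (f32084 IH) (Lpn (LP (LK LD1_c1 LD2_c0 LD3_c48))))
theorem f32104 : Led Lsl_ef (LP (LK LD1_c1 LD2_c14 LD3_c47)) = (LP (LK LD1_c1 LD2_c14 LD3_c47)) :=
  Lgr Lrot29 (Lpr_bt (f32084 IH) (Lpr_et (f28482 IH) (Lpe (f32095 IH) (Lpn (LP (LK LD1_c1 LD2_c14 LD3_c47))))))
theorem f32121 : Led Lsl_ft (LP (LK LD1_c1 LD2_c14 LD3_c47)) = (LP (LK LD1_c0 LD2_c34 LD3_c41)) :=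
  Lre_f IH (LK LD1_c1 LD2_c14 LD3_c47) (LK LD1_c0 LD2_c34 LD3_c41) Lrfl Lrfl
theorem f32122 : Led Lsl_et (LP (LK LD1_c0 LD2_c15 LD3_c33)) = (LP (LK LD1_c0 LD2_c34 LD3_c41)) :=
  Lre_e IH (LK LD1_c0 LD2_c15 LD3_c33) (LK LD1_c0 LD2_c34 LD3_c41) Lrfl Lrfl
theorem f32123 : Led Lsl_ft (LP (LK LD1_c0 LD2_c15 LD3_c33)) = (LP (LK LD1_c0 LD2_c15 LD3_c33)) :=
  Lgr Lrot86 (Lpe (K0.f32080 IH) (Lpe (f32121 IH) (Lpr_ef (f32104 IH) (Lpe (f32083 IH) (Lpe (f32122 IH) (Lpn (LP (LK LD1_c0 LD2_c15 LD3_c33))))))))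
theorem f32126 : Led Lsl_at (LP (LK LD1_c0 LD2_c34 LD3_c37)) = (LP (LK LD1_c0 LD2_c15 LD3_c33)) :=
  Lre_a IH (LK LD1_c0 LD2_c34 LD3_c37) (LK LD1_c0 LD2_c15 LD3_c33) Lrfl Lrfl
theorem f32127 : Led Lsl_at (LP (LK LD1_c0 LD2_c15 LD3_c33)) = (LP (LK LD1_c0 LD2_c34 LD3_c37)) :=
  Lre_a IH (LK LD1_c0 LD2_c15 LD3_c33) (LK LD1_c0 LD2_c34 LD3_c37) Lrfl Lrfl
theorem f32128 : Led Lsl_ff (LP (LK LD1_c0 LD2_c34 LD3_c37)) = (LP (LK LD1_c0 LD2_c34 LD3_c37)) :=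
  Lgr Lrot30 (Lpr_at (f32126 IH) (Lpr_ft (f32123 IH) (Lpr_at (f32127 IH) (Lpn (LP (LK LD1_c0 LD2_c34 LD3_c37))))))
theorem f28462 : Led Lsl_gt (LP (LK LD1_c0 LD2_c34 LD3_c40)) = (LP (LK LD1_c0 LD2_c15 LD3_c33)) :=
  Lre_g IH (LK LD1_c0 LD2_c34 LD3_c40) (LK LD1_c0 LD2_c15 LD3_c33) Lrfl Lrfl
theorem f32925 : Led Lsl_gf (LP (LK LD1_c0 LD2_c34 LD3_c40)) = (LP (LK LD1_c0 LD2_c34 LD3_c37)) :=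
  Lgr Lrot47 (Lpr_gt (f28462 IH) (Lpe (f32126 IH) (Lpr_ff (f32128 IH) (Lpn (LP (LK LD1_c0 LD2_c34 LD3_c37))))))
theorem f32134 : Led Lsl_ct (LP (LK LD1_c0 LD2_c15 LD3_c32)) = (LP (LK LD1_c0 LD2_c34 LD3_c37)) :=
  Lre_c IH (LK LD1_c0 LD2_c15 LD3_c32) (LK LD1_c0 LD2_c34 LD3_c37) Lrfl Lrfl
theorem f28410 : Led Lsl_ct (LP (LK LD1_c0 LD2_c7 LD3_c2)) = (LP (LK LD1_c0 LD2_c15 LD3_c33)) :=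
  Lre_c IH (LK LD1_c0 LD2_c7 LD3_c2) (LK LD1_c0 LD2_c15 LD3_c33) Lrfl Lrfl
theorem f32130 : Led Lsl_ff (LP (LK LD1_c0 LD2_c7 LD3_c2)) = (LP (LK LD1_c0 LD2_c7 LD3_c2)) :=
  Lgr Lrot23 (Lpr_ct (f28410 IH) (Lpr_ft (f32123 IH) (Lpr_ct (K0.f8282 IH) (Lpn (LP (LK LD1_c0 LD2_c7 LD3_c2))))))
theorem f32141 : Led Lsl_at (LP (LK LD1_c0 LD2_c7 LD3_c2)) = (LP (LK LD1_c0 LD2_c15 LD3_c32)) :=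
  Lre_a IH (LK LD1_c0 LD2_c7 LD3_c2) (LK LD1_c0 LD2_c15 LD3_c32) Lrfl Lrfl
theorem f32142 : Led Lsl_at (LP (LK LD1_c0 LD2_c15 LD3_c32)) = (LP (LK LD1_c0 LD2_c7 LD3_c2)) :=
  Lre_a IH (LK LD1_c0 LD2_c15 LD3_c32) (LK LD1_c0 LD2_c7 LD3_c2) Lrfl Lrfl
theorem f32143 : Led Lsl_ft (LP (LK LD1_c0 LD2_c15 LD3_c32)) = (LP (LK LD1_c0 LD2_c15 LD3_c32)) :=
  Lgr Lrot101 (Lpe (f32141 IH) (Lpr_ff (f32130 IH) (Lpe (f32142 IH) (Lpn (LP (LK LD1_c0 LD2_c15 LD3_c32))))))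
theorem f32149 : Led Lsl_et (LP (LK LD1_c0 LD2_c34 LD3_c38)) = (LP (LK LD1_c0 LD2_c15 LD3_c32)) :=
  Lre_e IH (LK LD1_c0 LD2_c34 LD3_c38) (LK LD1_c0 LD2_c15 LD3_c32) Lrfl Lrfl
theorem f32150 : Led Lsl_ft (LP (LK LD1_c1 LD2_c14 LD3_c41)) = (LP (LK LD1_c0 LD2_c34 LD3_c38)) :=
  Lre_f IH (LK LD1_c1 LD2_c14 LD3_c41) (LK LD1_c0 LD2_c34 LD3_c38) Lrfl Lrfl
theorem f32151 : Led Lsl_et (LP (LK LD1_c0 LD2_c15 LD3_c32)) = (LP (LK LD1_c0 LD2_c34 LD3_c38)) :=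
  Lre_e IH (LK LD1_c0 LD2_c15 LD3_c32) (LK LD1_c0 LD2_c34 LD3_c38) Lrfl Lrfl
theorem f32152 : Led Lsl_ft (LP (LK LD1_c0 LD2_c34 LD3_c38)) = (LP (LK LD1_c1 LD2_c14 LD3_c41)) :=
  Lre_f IH (LK LD1_c0 LD2_c34 LD3_c38) (LK LD1_c1 LD2_c14 LD3_c41) Lrfl Lrfl
theorem f32153 : Led Lsl_ef (LP (LK LD1_c1 LD2_c14 LD3_c41)) = (LP (LK LD1_c1 LD2_c14 LD3_c41)) :=
  Lgr Lrot21 (Lpr_ft (f32150 IH) (Lpr_et (f32149 IH) (Lpr_ft (f32143 IH) (Lpr_et (f32151 IH) (Lpr_ft (f32152 IH) (Lpn (LP (LK LD1_c1 LD2_c14 LD3_c41))))))))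
theorem f32166 : Led Lsl_dt (LP (LK LD1_c1 LD2_c14 LD3_c41)) = (LP (LK LD1_c2 LD2_c35 LD3_c19)) :=
  Lre_d IH (LK LD1_c1 LD2_c14 LD3_c41) (LK LD1_c2 LD2_c35 LD3_c19) Lrfl Lrfl
theorem f32167 : Led Lsl_et (LP (LK LD1_c2 LD2_c35 LD3_c19)) = (LP (LK LD1_c5 LD2_c17 LD3_c10)) :=
  Lre_e IH (LK LD1_c2 LD2_c35 LD3_c19) (LK LD1_c5 LD2_c17 LD3_c10) Lrfl Lrfl
theorem f32168 : Led Lsl_dt (LP (LK LD1_c2 LD2_c35 LD3_c19)) = (LP (LK LD1_c1 LD2_c14 LD3_c41)) :=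
  Lre_d IH (LK LD1_c2 LD2_c35 LD3_c19) (LK LD1_c1 LD2_c14 LD3_c41) Lrfl Lrfl
theorem f32169 : Led Lsl_et (LP (LK LD1_c5 LD2_c17 LD3_c10)) = (LP (LK LD1_c2 LD2_c35 LD3_c19)) :=
  Lre_e IH (LK LD1_c5 LD2_c17 LD3_c10) (LK LD1_c2 LD2_c35 LD3_c19) Lrfl Lrfl
theorem f32170 : Led Lsl_dt (LP (LK LD1_c5 LD2_c17 LD3_c10)) = (LP (LK LD1_c5 LD2_c17 LD3_c10)) :=
  Lgr Lrot77 (Lpe (f32167 IH) (Lpe (f32166 IH) (Lpr_ef (f32153 IH) (Lpe (f32168 IH) (Lpe (f32169 IH) (Lpn (LP (LK LD1_c5 LD2_c17 LD3_c10))))))))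
theorem f32180 : Led Lsl_at (LP (LK LD1_c2 LD2_c35 LD3_c49)) = (LP (LK LD1_c5 LD2_c17 LD3_c10)) :=
  Lre_a IH (LK LD1_c2 LD2_c35 LD3_c49) (LK LD1_c5 LD2_c17 LD3_c10) Lrfl Lrfl
theorem f32181 : Led Lsl_at (LP (LK LD1_c5 LD2_c17 LD3_c10)) = (LP (LK LD1_c2 LD2_c35 LD3_c49)) :=
  Lre_a IH (LK LD1_c5 LD2_c17 LD3_c10) (LK LD1_c2 LD2_c35 LD3_c49) Lrfl Lrfl
theorem f32182 : Led Lsl_df (LP (LK LD1_c2 LD2_c35 LD3_c49)) = (LP (LK LD1_c2 LD2_c35 LD3_c49)) :=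
  Lgr Lrot18 (Lpr_at (f32180 IH) (Lpr_dt (f32170 IH) (Lpr_at (f32181 IH) (Lpn (LP (LK LD1_c2 LD2_c35 LD3_c49))))))
theorem f32192 : Led Lsl_bt (LP (LK LD1_c2 LD2_c35 LD3_c49)) = (LP (LK LD1_c1 LD2_c15 LD3_c2)) :=
  Lre_b IH (LK LD1_c2 LD2_c35 LD3_c49) (LK LD1_c1 LD2_c15 LD3_c2) Lrfl Lrfl
theorem f32193 : Led Lsl_bt (LP (LK LD1_c1 LD2_c15 LD3_c2)) = (LP (LK LD1_c2 LD2_c35 LD3_c49)) :=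
  Lre_b IH (LK LD1_c1 LD2_c15 LD3_c2) (LK LD1_c2 LD2_c35 LD3_c49) Lrfl Lrfl
theorem f32194 : Led Lsl_dt (LP (LK LD1_c1 LD2_c15 LD3_c2)) = (LP (LK LD1_c1 LD2_c15 LD3_c2)) :=
  Lgr Lrot79 (Lpe (f32192 IH) (Lpr_df (f32182 IH) (Lpe (f32193 IH) (Lpn (LP (LK LD1_c1 LD2_c15 LD3_c2))))))
theorem f32221 : Led Lsl_et (LP (LK LD1_c0 LD2_c34 LD3_c49)) = (LP (LK LD1_c1 LD2_c15 LD3_c2)) :=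
  Lre_e IH (LK LD1_c0 LD2_c34 LD3_c49) (LK LD1_c1 LD2_c15 LD3_c2) Lrfl Lrfl
theorem f32222 : Led Lsl_dt (LP (LK LD1_c0 LD2_c15 LD3_c36)) = (LP (LK LD1_c0 LD2_c34 LD3_c49)) :=
  Lre_d IH (LK LD1_c0 LD2_c15 LD3_c36) (LK LD1_c0 LD2_c34 LD3_c49) Lrfl Lrfl
theorem f32223 : Led Lsl_et (LP (LK LD1_c1 LD2_c15 LD3_c2)) = (LP (LK LD1_c0 LD2_c34 LD3_c49)) :=
  Lre_e IH (LK LD1_c1 LD2_c15 LD3_c2) (LK LD1_c0 LD2_c34 LD3_c49) Lrfl Lrfl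
theorem f32224 : Led Lsl_dt (LP (LK LD1_c0 LD2_c34 LD3_c49)) = (LP (LK LD1_c0 LD2_c15 LD3_c36)) :=
  Lre_d IH (LK LD1_c0 LD2_c34 LD3_c49) (LK LD1_c0 LD2_c15 LD3_c36) Lrfl Lrfl
theorem f32225 : Led Lsl_ef (LP (LK LD1_c0 LD2_c15 LD3_c36)) = (LP (LK LD1_c0 LD2_c15 LD3_c36)) :=
  Lgr Lrot73 (Lpr_dt (f32222 IH) (Lpr_et (f32221 IH) (Lpr_dt (f32194 IH) (Lpr_et (f32223 IH) (Lpr_dt (f32224 IH) (Lpn (LP (LK LD1_c0 LD2_c15 LD3_c36))))))))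
theorem f32097 : Led Lsl_ct (LP (LK LD1_c0 LD2_c34 LD3_c45)) = (LP (LK LD1_c1 LD2_c14 LD3_c47)) :=
  Lre_c IH (LK LD1_c0 LD2_c34 LD3_c45) (LK LD1_c1 LD2_c14 LD3_c47) Lrfl Lrfl
theorem f32098 : Led Lsl_bt (LP (LK LD1_c0 LD2_c15 LD3_c36)) = (LP (LK LD1_c0 LD2_c34 LD3_c45)) :=
  Lre_b IH (LK LD1_c0 LD2_c15 LD3_c36) (LK LD1_c0 LD2_c34 LD3_c45) Lrfl Lrfl
theorem f32099 : Led Lsl_cf (LP (LK LD1_c0 LD2_c15 LD3_c36)) = (LP (LK LD1_c0 LD2_c14 LD3_c26)) :=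
  Lgr Lrot97 (Lpr_bt (f32098 IH) (Lpr_ct (f32097 IH) (Lpr_bt (f32084 IH) (Lpr_ct (f28481 IH) (Lpe (K0.f32022 IH) (Lpn (LP (LK LD1_c0 LD2_c14 LD3_c26))))))))
theorem f31548 : Led Lsl_bt (LP (LK LD1_c0 LD2_c32 LD3_c3)) = (LP (LK LD1_c0 LD2_c14 LD3_c22)) :=
  Lre_b IH (LK LD1_c0 LD2_c32 LD3_c3) (LK LD1_c0 LD2_c14 LD3_c22) Lrfl Lrfl
theorem f31551 : Led Lsl_et (LP (LK LD1_c0 LD2_c14 LD3_c22)) = (LP (LK LD1_c0 LD2_c14 LD3_c22)) :=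
  Lgr Lrot74 (Lpe (f31548 IH) (Lpr_ef (K0.f31545 IH) (Lpe (K0.f31541 IH) (Lpn (LP (LK LD1_c0 LD2_c14 LD3_c22))))))
theorem f31654 : Led Lsl_af (LP (LK LD1_c0 LD2_c14 LD3_c26)) = (LP (LK LD1_c0 LD2_c14 LD3_c22)) :=
  Lgr Lrot0 (Lpr_at (K0.f31613 IH) (Lpn (LP (LK LD1_c0 LD2_c14 LD3_c22))))
theorem f31659 : Led Lsl_ef (LP (LK LD1_c0 LD2_c14 LD3_c26)) = (LP (LK LD1_c0 LD2_c14 LD3_c26)) :=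
  Lgr Lrot20 (Lpr_at (K0.f31613 IH) (Lpr_et (f31551 IH) (Lpe (f31654 IH) (Lpn (LP (LK LD1_c0 LD2_c14 LD3_c26))))))
theorem f32235 : Led Lsl_ct (LP (LK LD1_c0 LD2_c15 LD3_c36)) = (LP (LK LD1_c0 LD2_c14 LD3_c26)) :=
  Lgr Lrot15 (Lpr_ef (f32225 IH) (Lpr_cf (f32099 IH) (Lpr_ef (f31659 IH) (Lpn (LP (LK LD1_c0 LD2_c14 LD3_c26))))))
theorem f32239 : Led Lsl_ft (LP (LK LD1_c0 LD2_c7 LD3_c3)) = (LP (LK LD1_c0 LD2_c15 LD3_c36)) :=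
  Lre_f IH (LK LD1_c0 LD2_c7 LD3_c3) (LK LD1_c0 LD2_c15 LD3_c36) Lrfl Lrfl
theorem f32241 : Led Lsl_cf (LP (LK LD1_c0 LD2_c7 LD3_c3)) = (LP (LK LD1_c0 LD2_c6 LD3_c38)) :=
  Lgr Lrot108 (Lpr_ft (f32239 IH) (Lpr_ct (f32235 IH) (Lpr_ft (K0.f31664 IH) (Lpn (LP (LK LD1_c0 LD2_c6 LD3_c38))))))
theorem f28427 : Led Lsl_et (LP (LK LD1_c0 LD2_c3 LD3_c11)) = (LP (LK LD1_c0 LD2_c7 LD3_c1)) :=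
  Lre_e IH (LK LD1_c0 LD2_c3 LD3_c11) (LK LD1_c0 LD2_c7 LD3_c1) Lrfl Lrfl
theorem f28428 : Led Lsl_et (LP (LK LD1_c0 LD2_c6 LD3_c37)) = (LP (LK LD1_c0 LD2_c3 LD3_c0)) :=
  Lre_e IH (LK LD1_c0 LD2_c6 LD3_c37) (LK LD1_c0 LD2_c3 LD3_c0) Lrfl Lrfl
theorem f28429 : Led Lsl_ct (LP (LK LD1_c0 LD2_c7 LD3_c1)) = (LP (LK LD1_c0 LD2_c6 LD3_c37)) :=
  Lgr Lrot15 (Lpe (f28427 IH) (Lpr_cf (K0.f28420 IH) (Lpe (f28428 IH) (Lpn (LP (LK LD1_c0 LD2_c6 LD3_c37))))))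
theorem f32244 : Led Lsl_at (LP (LK LD1_c0 LD2_c7 LD3_c3)) = (LP (LK LD1_c0 LD2_c7 LD3_c1)) :=
  Lgr Lrot107 (Lpr_cf (f32241 IH) (Lpr_af (K0.f31606 IH) (Lpe (f28429 IH) (Lpn (LP (LK LD1_c0 LD2_c7 LD3_c1))))))
theorem f32237 : Led Lsl_ft (LP (LK LD1_c0 LD2_c15 LD3_c36)) = (LP (LK LD1_c0 LD2_c7 LD3_c3)) :=
  Lre_f IH (LK LD1_c0 LD2_c15 LD3_c36) (LK LD1_c0 LD2_c7 LD3_c3) Lrfl Lrfl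
theorem f32268 : Led Lsl_ft (LP (LK LD1_c0 LD2_c7 LD3_c1)) = (LP (LK LD1_c0 LD2_c15 LD3_c30)) :=
  Lre_f IH (LK LD1_c0 LD2_c7 LD3_c1) (LK LD1_c0 LD2_c15 LD3_c30) Lrfl Lrfl
theorem f32269 : Led Lsl_af (LP (LK LD1_c0 LD2_c15 LD3_c36)) = (LP (LK LD1_c0 LD2_c15 LD3_c30)) :=
  Lgr Lrot45 (Lpr_ft (f32237 IH) (Lpr_at (f32244 IH) (Lpr_ft (f32268 IH) (Lpn (LP (LK LD1_c0 LD2_c15 LD3_c30))))))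
theorem f32272 : Led Lsl_at (LP (LK LD1_c0 LD2_c15 LD3_c36)) = (LP (LK LD1_c0 LD2_c15 LD3_c30)) :=
  Lgr Lrot100 (Lpr_af (f32269 IH) (Lpn (LP (LK LD1_c0 LD2_c15 LD3_c30))))
theorem f32283 : Led Lsl_et (LP (LK LD1_c0 LD2_c15 LD3_c30)) = (LP (LK LD1_c0 LD2_c15 LD3_c30)) :=
  Lgr Lrot123 (Lpe (f32272 IH) (Lpr_ef (f32225 IH) (Lpr_af (f32269 IH) (Lpn (LP (LK LD1_c0 LD2_c15 LD3_c30))))))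
theorem f32297 : Led Lsl_ft (LP (LK LD1_c0 LD2_c15 LD3_c30)) = (LP (LK LD1_c0 LD2_c7 LD3_c1)) :=
  Lre_f IH (LK LD1_c0 LD2_c15 LD3_c30) (LK LD1_c0 LD2_c7 LD3_c1) Lrfl Lrfl
theorem f32267 : Led Lsl_et (LP (LK LD1_c0 LD2_c7 LD3_c1)) = (LP (LK LD1_c0 LD2_c3 LD3_c11)) :=
  Lre_e IH (LK LD1_c0 LD2_c7 LD3_c1) (LK LD1_c0 LD2_c3 LD3_c11) Lrfl Lrfl
theorem f32298 : Led Lsl_ff (LP (LK LD1_c0 LD2_c3 LD3_c11)) = (LP (LK LD1_c0 LD2_c3 LD3_c11)) :=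
  Lgr Lrot72 (Lpr_et (f28427 IH) (Lpr_ft (f32268 IH) (Lpr_et (f32283 IH) (Lpr_ft (f32297 IH) (Lpr_et (f32267 IH) (Lpn (LP (LK LD1_c0 LD2_c3 LD3_c11))))))))
theorem f28422 : Led Lsl_bt (LP (LK LD1_c0 LD2_c3 LD3_c11)) = (LP (LK LD1_c0 LD2_c7 LD3_c0)) :=
  Lre_b IH (LK LD1_c0 LD2_c3 LD3_c11) (LK LD1_c0 LD2_c7 LD3_c0) Lrfl Lrfl
theorem f32300 : Led Lsl_ft (LP (LK LD1_c0 LD2_c7 LD3_c0)) = (LP (LK LD1_c0 LD2_c7 LD3_c0)) :=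
  Lgr Lrot75 (Lpe (f28422 IH) (Lpr_ff (f32298 IH) (Lpe (f28440 IH) (Lpn (LP (LK LD1_c0 LD2_c7 LD3_c0))))))
theorem f32302 : Led Lsl_at (LP (LK LD1_c0 LD2_c15 LD3_c27)) = (LP (LK LD1_c0 LD2_c7 LD3_c0)) :=
  Lre_a IH (LK LD1_c0 LD2_c15 LD3_c27) (LK LD1_c0 LD2_c7 LD3_c0) Lrfl Lrfl
theorem f32303 : Led Lsl_at (LP (LK LD1_c0 LD2_c7 LD3_c0)) = (LP (LK LD1_c0 LD2_c15 LD3_c27)) :=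
  Lre_a IH (LK LD1_c0 LD2_c7 LD3_c0) (LK LD1_c0 LD2_c15 LD3_c27) Lrfl Lrfl
theorem f32304 : Led Lsl_ff (LP (LK LD1_c0 LD2_c15 LD3_c27)) = (LP (LK LD1_c0 LD2_c15 LD3_c27)) :=
  Lgr Lrot30 (Lpr_at (f32302 IH) (Lpr_ft (f32300 IH) (Lpr_at (f32303 IH) (Lpn (LP (LK LD1_c0 LD2_c15 LD3_c27))))))
theorem f32319 : Led Lsl_et (LP (LK LD1_c0 LD2_c15 LD3_c27)) = (LP (LK LD1_c0 LD2_c34 LD3_c26)) :=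
  Lre_e IH (LK LD1_c0 LD2_c15 LD3_c27) (LK LD1_c0 LD2_c34 LD3_c26) Lrfl Lrfl
theorem f32320 : Led Lsl_ft (LP (LK LD1_c0 LD2_c34 LD3_c26)) = (LP (LK LD1_c1 LD2_c14 LD3_c14)) :=
  Lre_f IH (LK LD1_c0 LD2_c34 LD3_c26) (LK LD1_c1 LD2_c14 LD3_c14) Lrfl Lrfl
theorem f32316 : Led Lsl_et (LP (LK LD1_c0 LD2_c34 LD3_c26)) = (LP (LK LD1_c0 LD2_c15 LD3_c27)) :=
  Lre_e IH (LK LD1_c0 LD2_c34 LD3_c26) (LK LD1_c0 LD2_c15 LD3_c27) Lrfl Lrfl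
theorem f32321 : Led Lsl_ft (LP (LK LD1_c1 LD2_c14 LD3_c14)) = (LP (LK LD1_c0 LD2_c34 LD3_c26)) :=
  Lre_f IH (LK LD1_c1 LD2_c14 LD3_c14) (LK LD1_c0 LD2_c34 LD3_c26) Lrfl Lrfl
theorem f32322 : Led Lsl_et (LP (LK LD1_c1 LD2_c14 LD3_c14)) = (LP (LK LD1_c1 LD2_c14 LD3_c14)) :=
  Lgr Lrot69 (Lpe (f32320 IH) (Lpe (f32319 IH) (Lpr_ff (f32304 IH) (Lpe (f32316 IH) (Lpe (f32321 IH) (Lpn (LP (LK LD1_c1 LD2_c14 LD3_c14))))))))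
theorem f32163 : Led Lsl_at (LP (LK LD1_c0 LD2_c34 LD3_c45)) = (LP (LK LD1_c1 LD2_c14 LD3_c41)) :=
  Lre_a IH (LK LD1_c0 LD2_c34 LD3_c45) (LK LD1_c1 LD2_c14 LD3_c41) Lrfl Lrfl
theorem f32274 : Led Lsl_bt (LP (LK LD1_c0 LD2_c34 LD3_c30)) = (LP (LK LD1_c0 LD2_c15 LD3_c30)) :=
  Lre_b IH (LK LD1_c0 LD2_c34 LD3_c30) (LK LD1_c0 LD2_c15 LD3_c30) Lrfl Lrfl
theorem f32275 : Led Lsl_at (LP (LK LD1_c1 LD2_c14 LD3_c14)) = (LP (LK LD1_c0 LD2_c34 LD3_c30)) :=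
  Lre_a IH (LK LD1_c1 LD2_c14 LD3_c14) (LK LD1_c0 LD2_c34 LD3_c30) Lrfl Lrfl
theorem f32276 : Led Lsl_bt (LP (LK LD1_c1 LD2_c14 LD3_c41)) = (LP (LK LD1_c1 LD2_c14 LD3_c14)) :=
  Lgr Lrot62 (Lpe (f32163 IH) (Lpe (f32098 IH) (Lpr_af (f32269 IH) (Lpe (f32274 IH) (Lpe (f32275 IH) (Lpn (LP (LK LD1_c1 LD2_c14 LD3_c14))))))))
theorem f32331 : Led Lsl_bf (LP (LK LD1_c1 LD2_c14 LD3_c41)) = (LP (LK LD1_c1 LD2_c14 LD3_c14)) :=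
  Lgr Lrot96 (Lpe (f32153 IH) (Lpr_bt (f32276 IH) (Lpr_et (f32322 IH) (Lpn (LP (LK LD1_c1 LD2_c14 LD3_c14))))))
theorem f32412 : Led Lsl_bt (LP (LK LD1_c0 LD2_c34 LD3_c38)) = (LP (LK LD1_c0 LD2_c34 LD3_c26)) :=
  Lgr Lrot35 (Lpe (f32150 IH) (Lpr_bf (f32331 IH) (Lpe (f32320 IH) (Lpn (LP (LK LD1_c0 LD2_c34 LD3_c26))))))
theorem f32425 : Led Lsl_bf (LP (LK LD1_c0 LD2_c15 LD3_c32)) = (LP (LK LD1_c0 LD2_c15 LD3_c27)) :=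
  Lgr Lrot96 (Lpr_et (f32151 IH) (Lpr_bt (f32412 IH) (Lpr_et (f32316 IH) (Lpn (LP (LK LD1_c0 LD2_c15 LD3_c27))))))
theorem f32436 : Led Lsl_bt (LP (LK LD1_c0 LD2_c15 LD3_c32)) = (LP (LK LD1_c0 LD2_c15 LD3_c27)) :=
  Lgr Lrot127 (Lpr_bf (f32425 IH) (Lpn (LP (LK LD1_c0 LD2_c15 LD3_c27))))
theorem f28439 : Led Lsl_gt (LP (LK LD1_c0 LD2_c7 LD3_c0)) = (LP (LK LD1_c0 LD2_c15 LD3_c25)) :=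
  Lre_g IH (LK LD1_c0 LD2_c7 LD3_c0) (LK LD1_c0 LD2_c15 LD3_c25) Lrfl Lrfl
theorem f32310 : Led Lsl_gt (LP (LK LD1_c0 LD2_c15 LD3_c25)) = (LP (LK LD1_c0 LD2_c15 LD3_c27)) :=
  Lgr Lrot46 (Lpe (f28439 IH) (Lpr_ft (f32300 IH) (Lpr_at (f32303 IH) (Lpn (LP (LK LD1_c0 LD2_c15 LD3_c27))))))
theorem f33348 : Led Lsl_bt (LP (LK LD1_c0 LD2_c27 LD3_c51)) = (LP (LK LD1_c0 LD2_c15 LD3_c25)) :=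
  Lgr Lrot22 (Lpr_ct (f33138 IH) (Lpr_gf (K0.f33342 IH) (Lpe (K0.f3716 IH) (Lpe (f33344 IH) (Lpe (f32929 IH) (Lpr_ct (f32928 IH) (Lpr_gf (f32925 IH) (Lpe (f32134 IH) (Lpr_bt (f32436 IH) (Lpe (f32310 IH) (Lpn (LP (LK LD1_c0 LD2_c15 LD3_c25)))))))))))))
theorem f33393 : Led Lsl_bf (LP (LK LD1_c0 LD2_c27 LD3_c51)) = (LP (LK LD1_c0 LD2_c15 LD3_c25)) :=
  Lgr Lrot24 (Lpr_bt (f33348 IH) (Lpn (LP (LK LD1_c0 LD2_c15 LD3_c25))))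
theorem f32313 : Led Lsl_ct (LP (LK LD1_c0 LD2_c34 LD3_c21)) = (LP (LK LD1_c0 LD2_c15 LD3_c25)) :=
  Lre_c IH (LK LD1_c0 LD2_c34 LD3_c21) (LK LD1_c0 LD2_c15 LD3_c25) Lrfl Lrfl
theorem f8281 : Led Lsl_bt (LP (LK LD1_c0 LD2_c7 LD3_c2)) = (LP (LK LD1_c0 LD2_c3 LD3_c12)) :=
  Lre_b IH (LK LD1_c0 LD2_c7 LD3_c2) (LK LD1_c0 LD2_c3 LD3_c12) Lrfl Lrfl
theorem f28447 : Led Lsl_bt (LP (LK LD1_c0 LD2_c12 LD3_c15)) = (LP (LK LD1_c0 LD2_c15 LD3_c33)) :=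
  Lgr Lrot128 (Lpe (K0.f27819 IH) (Lpr_bf (K0.f28442 IH) (Lpe (K0.f28411 IH) (Lpe (f8281 IH) (Lpe (K0.f8282 IH) (Lpn (LP (LK LD1_c0 LD2_c15 LD3_c33))))))))
theorem f28503 : Led Lsl_gt (LP (LK LD1_c0 LD2_c15 LD3_c33)) = (LP (LK LD1_c0 LD2_c34 LD3_c39)) :=
  Lre_g IH (LK LD1_c0 LD2_c15 LD3_c33) (LK LD1_c0 LD2_c34 LD3_c39) Lrfl Lrfl
theorem f44916 : Led Lsl_df (LP (LK LD1_c0 LD2_c34 LD3_c21)) = (LP (LK LD1_c0 LD2_c34 LD3_c39)) :=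
  Lgr Lrot183 (Lpr_ct (f32313 IH) (Lpe (f33393 IH) (Lpe (f44035 IH) (Lpr_dt (f44589 IH) (Lpr_ct (K0.f28178 IH) (Lpr_bt (K0.f27780 IH) (Lpe (K0.f27286 IH) (Lpr_dt (K0.f298 IH) (Lpr_ct (K0.f297 IH) (Lpr_bt (K0.f1453 IH) (Lpq (K0.f7213 IH) (Lpr_gt (K0.f444 IH) (Lpq (K0.f7209 IH) (Lpr_dt (K0.f454 IH) (Lpr_ct (K0.f464 IH) (Lpr_bt (K0.f1470 IH) (Lpe (K0.f8255 IH) (Lpe (K0.f28474 IH) (Lpr_ct (K0.f27819 IH) (Lpr_bt (f28447 IH) (Lpr_gt (f28503 IH) (Lpn (LP (LK LD1_c0 LD2_c34 LD3_c39))))))))))))))))))))))))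
theorem f32312 : Led Lsl_ct (LP (LK LD1_c0 LD2_c15 LD3_c25)) = (LP (LK LD1_c0 LD2_c34 LD3_c21)) :=
  Lre_c IH (LK LD1_c0 LD2_c15 LD3_c25) (LK LD1_c0 LD2_c34 LD3_c21) Lrfl Lrfl
theorem f44533 : Led Lsl_ct (LP (LK LD1_c0 LD2_c12 LD3_c0)) = (LP (LK LD1_c0 LD2_c7 LD3_c0)) :=
  Lgr Lrot59 (Lpr_cf (f44524 IH) (Lpn (LP (LK LD1_c0 LD2_c7 LD3_c0))))
theorem f537 : Led Lsl_bt (LP (LK LD1_c2 LD2_c2 LD3_c11)) = (LP (LK LD1_c0 LD2_c58 LD3_c30)) :=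
  Lre_b IH (LK LD1_c2 LD2_c2 LD3_c11) (LK LD1_c0 LD2_c58 LD3_c30) Lrfl Lrfl
theorem f538 : Led Lsl_bt (LP (LK LD1_c1 LD2_c0 LD3_c15)) = (LP (LK LD1_c2 LD2_c5 LD3_c36)) :=
  Lre_b IH (LK LD1_c1 LD2_c0 LD3_c15) (LK LD1_c2 LD2_c5 LD3_c36) Lrfl Lrfl
theorem f539 : Led Lsl_ff (LP (LK LD1_c2 LD2_c2 LD3_c11)) = (LP (LK LD1_c2 LD2_c5 LD3_c36)) :=
  Lgr Lrot25 (Lpr_bt (f537 IH) (Lpr_ft (K0.f534 IH) (Lpr_bt (f538 IH) (Lpn (LP (LK LD1_c2 LD2_c5 LD3_c36))))))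
theorem f555 : Led Lsl_et (LP (LK LD1_c2 LD2_c2 LD3_c11)) = (LP (LK LD1_c0 LD2_c58 LD3_c0)) :=
  Lre_e IH (LK LD1_c2 LD2_c2 LD3_c11) (LK LD1_c0 LD2_c58 LD3_c0) Lrfl Lrfl
theorem f556 : Led Lsl_ft (LP (LK LD1_c0 LD2_c58 LD3_c0)) = (LP (LK LD1_c0 LD2_c26 LD3_c20)) :=
  Lre_f IH (LK LD1_c0 LD2_c58 LD3_c0) (LK LD1_c0 LD2_c26 LD3_c20) Lrfl Lrfl
theorem f557 : Led Lsl_et (LP (LK LD1_c0 LD2_c59 LD3_c49)) = (LP (LK LD1_c2 LD2_c5 LD3_c36)) :=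
  Lre_e IH (LK LD1_c0 LD2_c59 LD3_c49) (LK LD1_c2 LD2_c5 LD3_c36) Lrfl Lrfl
theorem f558 : Led Lsl_ft (LP (LK LD1_c0 LD2_c27 LD3_c11)) = (LP (LK LD1_c0 LD2_c59 LD3_c49)) :=
  Lre_f IH (LK LD1_c0 LD2_c27 LD3_c11) (LK LD1_c0 LD2_c59 LD3_c49) Lrfl Lrfl
theorem f559 : Led Lsl_et (LP (LK LD1_c0 LD2_c26 LD3_c20)) = (LP (LK LD1_c0 LD2_c27 LD3_c11)) :=
  Lgr Lrot69 (Lpe (f556 IH) (Lpe (f555 IH) (Lpr_ff (f539 IH) (Lpe (f557 IH) (Lpe (f558 IH) (Lpn (LP (LK LD1_c0 LD2_c27 LD3_c11))))))))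
theorem f588 : Led Lsl_dt (LP (LK LD1_c0 LD2_c11 LD3_c42)) = (LP (LK LD1_c0 LD2_c26 LD3_c20)) :=
  Lre_d IH (LK LD1_c0 LD2_c11 LD3_c42) (LK LD1_c0 LD2_c26 LD3_c20) Lrfl Lrfl
theorem f589 : Led Lsl_et (LP (LK LD1_c0 LD2_c5 LD3_c24)) = (LP (LK LD1_c0 LD2_c11 LD3_c42)) :=
  Lre_e IH (LK LD1_c0 LD2_c5 LD3_c24) (LK LD1_c0 LD2_c11 LD3_c42) Lrfl Lrfl
theorem f590 : Led Lsl_dt (LP (LK LD1_c0 LD2_c27 LD3_c11)) = (LP (LK LD1_c0 LD2_c12 LD3_c3)) :=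
  Lre_d IH (LK LD1_c0 LD2_c27 LD3_c11) (LK LD1_c0 LD2_c12 LD3_c3) Lrfl Lrfl
theorem f592 : Led Lsl_df (LP (LK LD1_c0 LD2_c5 LD3_c24)) = (LP (LK LD1_c0 LD2_c5 LD3_c33)) :=
  Lgr Lrot70 (Lpr_et (f589 IH) (Lpr_dt (f588 IH) (Lpr_et (f559 IH) (Lpr_dt (f590 IH) (Lpr_et (K0.f591 IH) (Lpn (LP (LK LD1_c0 LD2_c5 LD3_c33))))))))
theorem f741 : Led Lsl_gt (LP (LK LD1_c0 LD2_c5 LD3_c24)) = (LP (LK LD1_c0 LD2_c11 LD3_c39)) :=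
  Lre_g IH (LK LD1_c0 LD2_c5 LD3_c24) (LK LD1_c0 LD2_c11 LD3_c39) Lrfl Lrfl
theorem f743 : Led Lsl_ct (LP (LK LD1_c0 LD2_c11 LD3_c39)) = (LP (LK LD1_c0 LD2_c26 LD3_c12)) :=
  Lre_c IH (LK LD1_c0 LD2_c11 LD3_c39) (LK LD1_c0 LD2_c26 LD3_c12) Lrfl Lrfl
theorem f744 : Led Lsl_gt (LP (LK LD1_c0 LD2_c26 LD3_c12)) = (LP (LK LD1_c0 LD2_c57 LD3_c37)) :=
  Lre_g IH (LK LD1_c0 LD2_c26 LD3_c12) (LK LD1_c0 LD2_c57 LD3_c37) Lrfl Lrfl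
theorem f44927 : Led Lsl_ct (LP (LK LD1_c0 LD2_c57 LD3_c37)) = (LP (LK LD1_c0 LD2_c34 LD3_c39)) :=
  Lgr Lrot110 (Lpe (f744 IH) (Lpe (f743 IH) (Lpe (f741 IH) (Lpr_df (f592 IH) (Lpr_gt (f745 IH) (Lpr_ct (f44533 IH) (Lpr_gt (f28439 IH) (Lpr_ct (f32312 IH) (Lpr_df (f44916 IH) (Lpn (LP (LK LD1_c0 LD2_c34 LD3_c39))))))))))))
theorem f44930 : Led Lsl_cf (LP (LK LD1_c0 LD2_c57 LD3_c37)) = (LP (LK LD1_c0 LD2_c34 LD3_c39)) :=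
  Lgr Lrot11 (Lpr_ct (f44927 IH) (Lpn (LP (LK LD1_c0 LD2_c34 LD3_c39))))
theorem f476 : Led Lsl_bt (LP (LK LD1_c0 LD2_c2 LD3_c28)) = (LP (LK LD1_c0 LD2_c5 LD3_c24)) :=
  Lre_b IH (LK LD1_c0 LD2_c2 LD3_c28) (LK LD1_c0 LD2_c5 LD3_c24) Lrfl Lrfl
theorem f491 : Led Lsl_ct (LP (LK LD1_c0 LD2_c5 LD3_c22)) = (LP (LK LD1_c0 LD2_c2 LD3_c27)) :=
  Lre_c IH (LK LD1_c0 LD2_c5 LD3_c22) (LK LD1_c0 LD2_c2 LD3_c27) Lrfl Lrfl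
theorem f28810 : Led Lsl_gt (LP (LK LD1_c0 LD2_c25 LD3_c59)) = (LP (LK LD1_c0 LD2_c11 LD3_c33)) :=
  Lre_g IH (LK LD1_c0 LD2_c25 LD3_c59) (LK LD1_c0 LD2_c11 LD3_c33) Lrfl Lrfl
theorem f44946 : Led Lsl_bf (LP (LK LD1_c0 LD2_c25 LD3_c59)) = (LP (LK LD1_c0 LD2_c34 LD3_c39)) :=
  Lgr Lrot156 (Lpr_gt (f28810 IH) (Lpe (K0.f8072 IH) (Lpr_ct (f491 IH) (Lpr_gt (K0.f490 IH) (Lpe (K0.f473 IH) (Lpr_bt (f476 IH) (Lpr_gt (f741 IH) (Lpr_ct (f743 IH) (Lpr_gt (f744 IH) (Lpr_cf (f44930 IH) (Lpn (LP (LK LD1_c0 LD2_c34 LD3_c39)))))))))))))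
theorem f44948 : Led Lsl_bt (LP (LK LD1_c0 LD2_c11 LD3_c39)) = (LP (LK LD1_c0 LD2_c11 LD3_c21)) :=
  Lgr Lrot92 (Lpr_ct (f743 IH) (Lpr_gt (f744 IH) (Lpr_cf (f44930 IH) (Lpe (f44946 IH) (Lpr_gt (f28810 IH) (Lpr_ct (K0.f28188 IH) (Lpr_gt (K0.f418 IH) (Lpe (K0.f28808 IH) (Lpr_bt (K0.f28807 IH) (Lpr_gt (K0.f28777 IH) (Lpn (LP (LK LD1_c0 LD2_c11 LD3_c21)))))))))))))
theorem f33091 : Led Lsl_ct (LP (LK LD1_c0 LD2_c26 LD3_c12)) = (LP (LK LD1_c0 LD2_c11 LD3_c39)) :=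
  Lre_c IH (LK LD1_c0 LD2_c26 LD3_c12) (LK LD1_c0 LD2_c11 LD3_c39) Lrfl Lrfl
theorem f28322 : Led Lsl_bt (LP (LK LD1_c0 LD2_c5 LD3_c5)) = (LP (LK LD1_c0 LD2_c2 LD3_c20)) :=
  Lre_b IH (LK LD1_c0 LD2_c5 LD3_c5) (LK LD1_c0 LD2_c2 LD3_c20) Lrfl Lrfl
theorem f8083 : Led Lsl_gt (LP (LK LD1_c0 LD2_c11 LD3_c57)) = (LP (LK LD1_c0 LD2_c26 LD3_c56)) :=
  Lre_g IH (LK LD1_c0 LD2_c11 LD3_c57) (LK LD1_c0 LD2_c26 LD3_c56) Lrfl Lrfl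
theorem f44959 : Led Lsl_df (LP (LK LD1_c0 LD2_c26 LD3_c12)) = (LP (LK LD1_c0 LD2_c26 LD3_c56)) :=
  Lgr Lrot183 (Lpr_ct (f33091 IH) (Lpr_bt (f44948 IH) (Lpr_gt (K0.f28511 IH) (Lpr_dt (K0.f28324 IH) (Lpr_ct (K0.f28323 IH) (Lpr_bt (f28322 IH) (Lpr_gt (K0.f28320 IH) (Lpe (K0.f28229 IH) (Lpr_ct (K0.f1418 IH) (Lpr_bt (K0.f7084 IH) (Lpqs (K0.f8148 IH) (Lpr_gt (K0.f6993 IH) (Lpqs (K0.f7228 IH) (Lpr_dt (K0.f461 IH) (Lpr_ct (K0.f453 IH) (Lpr_bt (K0.f467 IH) (Lpr_gt (K0.f27810 IH) (Lpr_dt (K0.f8092 IH) (Lpr_ct (K0.f8071 IH) (Lpr_bt (K0.f27382 IH) (Lpr_gt (f8083 IH) (Lpn (LP (LK LD1_c0 LD2_c26 LD3_c56))))))))))))))))))))))))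
theorem f44963 : Led Lsl_dt (LP (LK LD1_c0 LD2_c26 LD3_c12)) = (LP (LK LD1_c0 LD2_c26 LD3_c56)) :=
  Lgr Lrot42 (Lpr_df (f44959 IH) (Lpn (LP (LK LD1_c0 LD2_c26 LD3_c56))))
theorem f44952 : Led Lsl_df (LP (LK LD1_c0 LD2_c11 LD3_c39)) = (LP (LK LD1_c0 LD2_c11 LD3_c20)) :=
  Lgr Lrot12 (Lpr_bt (f44948 IH) (Lpr_dt (K0.f9633 IH) (Lpr_bt (K0.f27779 IH) (Lpn (LP (LK LD1_c0 LD2_c11 LD3_c20))))))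
theorem f27393 : Led Lsl_ct (LP (LK LD1_c0 LD2_c26 LD3_c56)) = (LP (LK LD1_c0 LD2_c59 LD3_c6)) :=
  Lre_c IH (LK LD1_c0 LD2_c26 LD3_c56) (LK LD1_c0 LD2_c59 LD3_c6) Lrfl Lrfl
theorem f45064 : Led Lsl_at (LP (LK LD1_c0 LD2_c26 LD3_c59)) = (LP (LK LD1_c0 LD2_c59 LD3_c6)) :=
  Lgr Lrot33 (Lpr_ff (K0.f27385 IH) (Lpr_dt (K0.f739 IH) (Lpr_ct (K0.f738 IH) (Lpe (f592 IH) (Lpr_ct (K0.f737 IH) (Lpe (f44952 IH) (Lpr_ct (f743 IH) (Lpr_dt (f44963 IH) (Lpr_ct (f27393 IH) (Lpn (LP (LK LD1_c0 LD2_c59 LD3_c6))))))))))))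
theorem f45069 : Led Lsl_af (LP (LK LD1_c0 LD2_c26 LD3_c59)) = (LP (LK LD1_c0 LD2_c59 LD3_c6)) :=
  Lgr Lrot0 (Lpr_at (f45064 IH) (Lpn (LP (LK LD1_c0 LD2_c59 LD3_c6))))
theorem f45075 : Led Lsl_ff (LP (LK LD1_c0 LD2_c59 LD3_c6)) = (LP (LK LD1_c0 LD2_c59 LD3_c6)) :=
  Lgr Lrot30 (Lpe (f45069 IH) (Lpe (K0.f27385 IH) (Lpr_at (f45064 IH) (Lpn (LP (LK LD1_c0 LD2_c59 LD3_c6))))))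
theorem f45062 : Led Lsl_df (LP (LK LD1_c0 LD2_c26 LD3_c58)) = (LP (LK LD1_c0 LD2_c59 LD3_c6)) :=
  Lgr Lrot177 (Lpr_ct (f770 IH) (Lpe (f779 IH) (Lpr_ff (K0.f27365 IH) (Lpe (f592 IH) (Lpr_ct (K0.f737 IH) (Lpe (f44952 IH) (Lpr_ct (f743 IH) (Lpr_dt (f44963 IH) (Lpr_ct (f27393 IH) (Lpn (LP (LK LD1_c0 LD2_c59 LD3_c6))))))))))))
theorem f1428 : Led Lsl_at (LP (LK LD1_c0 LD2_c26 LD3_c58)) = (LP (LK LD1_c0 LD2_c11 LD3_c57)) :=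
  Lre_a IH (LK LD1_c0 LD2_c26 LD3_c58) (LK LD1_c0 LD2_c11 LD3_c57) Lrfl Lrfl
theorem f769 : Led Lsl_at (LP (LK LD1_c0 LD2_c11 LD3_c57)) = (LP (LK LD1_c0 LD2_c26 LD3_c58)) :=
  Lre_a IH (LK LD1_c0 LD2_c11 LD3_c57) (LK LD1_c0 LD2_c26 LD3_c58) Lrfl Lrfl
theorem f27380 : Led Lsl_ff (LP (LK LD1_c0 LD2_c26 LD3_c58)) = (LP (LK LD1_c0 LD2_c26 LD3_c58)) :=
  Lgr Lrot30 (Lpr_at (f1428 IH) (Lpr_ft (K0.f27374 IH) (Lpr_at (f769 IH) (Lpn (LP (LK LD1_c0 LD2_c26 LD3_c58))))))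
theorem f45081 : Led Lsl_dt (LP (LK LD1_c0 LD2_c26 LD3_c58)) = (LP (LK LD1_c0 LD2_c59 LD3_c6)) :=
  Lgr Lrot60 (Lpr_ff (f27380 IH) (Lpr_df (f45062 IH) (Lpr_ff (f45075 IH) (Lpn (LP (LK LD1_c0 LD2_c59 LD3_c6))))))
theorem f762 : Led Lsl_ct (LP (LK LD1_c0 LD2_c12 LD3_c2)) = (LP (LK LD1_c0 LD2_c26 LD3_c58)) :=
  Lre_c IH (LK LD1_c0 LD2_c12 LD3_c2) (LK LD1_c0 LD2_c26 LD3_c58) Lrfl Lrfl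
theorem f31436 : Led Lsl_gt (LP (LK LD1_c0 LD2_c15 LD3_c26)) = (LP (LK LD1_c0 LD2_c7 LD3_c0)) :=
  Lre_g IH (LK LD1_c0 LD2_c15 LD3_c26) (LK LD1_c0 LD2_c7 LD3_c0) Lrfl Lrfl
theorem f740 : Led Lsl_gt (LP (LK LD1_c0 LD2_c12 LD3_c1)) = (LP (LK LD1_c0 LD2_c5 LD3_c33)) :=
  Lre_g IH (LK LD1_c0 LD2_c12 LD3_c1) (LK LD1_c0 LD2_c5 LD3_c33) Lrfl Lrfl
theorem f45092 : Led Lsl_df (LP (LK LD1_c0 LD2_c15 LD3_c26)) = (LP (LK LD1_c0 LD2_c12 LD3_c1)) :=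
  Lgr Lrot155 (Lpr_gt (f31436 IH) (Lpe (f44524 IH) (Lpe (f27376 IH) (Lpr_ct (f762 IH) (Lpr_dt (f45081 IH) (Lpe (f27393 IH) (Lpe (f8083 IH) (Lpe (K0.f1426 IH) (Lpe (f740 IH) (Lpn (LP (LK LD1_c0 LD2_c12 LD3_c1))))))))))))
theorem f33398 : Led Lsl_ff (LP (LK LD1_c0 LD2_c15 LD3_c25)) = (LP (LK LD1_c0 LD2_c15 LD3_c25)) :=
  Lgr Lrot25 (Lpe (f33393 IH) (Lpr_ft (K0.f31122 IH) (Lpr_bt (f33348 IH) (Lpn (LP (LK LD1_c0 LD2_c15 LD3_c25))))))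
theorem f32324 : Led Lsl_gf (LP (LK LD1_c0 LD2_c15 LD3_c26)) = (LP (LK LD1_c0 LD2_c15 LD3_c27)) :=
  Lgr Lrot47 (Lpr_gt (f31436 IH) (Lpe (f32302 IH) (Lpr_ff (f32304 IH) (Lpn (LP (LK LD1_c0 LD2_c15 LD3_c27))))))
theorem f33402 : Led Lsl_at (LP (LK LD1_c0 LD2_c15 LD3_c25)) = (LP (LK LD1_c0 LD2_c15 LD3_c26)) :=
  Lgr Lrot26 (Lpr_ff (f33398 IH) (Lpr_gt (f32310 IH) (Lpe (f32324 IH) (Lpn (LP (LK LD1_c0 LD2_c15 LD3_c26))))))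
theorem f33404 : Led Lsl_af (LP (LK LD1_c0 LD2_c15 LD3_c25)) = (LP (LK LD1_c0 LD2_c15 LD3_c26)) :=
  Lgr Lrot0 (Lpr_at (f33402 IH) (Lpn (LP (LK LD1_c0 LD2_c15 LD3_c26))))
theorem f33412 : Led Lsl_ff (LP (LK LD1_c0 LD2_c15 LD3_c26)) = (LP (LK LD1_c0 LD2_c15 LD3_c26)) :=
  Lgr Lrot30 (Lpe (f33404 IH) (Lpe (f33398 IH) (Lpr_at (f33402 IH) (Lpn (LP (LK LD1_c0 LD2_c15 LD3_c26))))))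
theorem f45099 : Led Lsl_dt (LP (LK LD1_c0 LD2_c15 LD3_c26)) = (LP (LK LD1_c0 LD2_c12 LD3_c1)) :=
  Lgr Lrot42 (Lpr_df (f45092 IH) (Lpn (LP (LK LD1_c0 LD2_c12 LD3_c1))))
theorem f45104 : Led Lsl_ft (LP (LK LD1_c0 LD2_c12 LD3_c1)) = (LP (LK LD1_c0 LD2_c12 LD3_c1)) :=
  Lgr Lrot54 (Lpe (f45099 IH) (Lpr_ff (f33412 IH) (Lpr_df (f45092 IH) (Lpn (LP (LK LD1_c0 LD2_c12 LD3_c1))))))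
theorem f45116 : Led Lsl_af (LP (LK LD1_c0 LD2_c12 LD3_c0)) = (LP (LK LD1_c0 LD2_c12 LD3_c1)) :=
  Lgr Lrot31 (Lpe (f745 IH) (Lpe (f740 IH) (Lpr_ft (f45104 IH) (Lpn (LP (LK LD1_c0 LD2_c12 LD3_c1))))))
theorem f44535 : Led Lsl_et (LP (LK LD1_c0 LD2_c12 LD3_c0)) = (LP (LK LD1_c0 LD2_c27 LD3_c5)) :=
  Lre_e IH (LK LD1_c0 LD2_c12 LD3_c0) (LK LD1_c0 LD2_c27 LD3_c5) Lrfl Lrfl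
theorem f751 : Led Lsl_et (LP (LK LD1_c0 LD2_c27 LD3_c7)) = (LP (LK LD1_c0 LD2_c12 LD3_c1)) :=
  Lre_e IH (LK LD1_c0 LD2_c27 LD3_c7) (LK LD1_c0 LD2_c12 LD3_c1) Lrfl Lrfl
theorem f45126 : Led Lsl_at (LP (LK LD1_c0 LD2_c27 LD3_c5)) = (LP (LK LD1_c0 LD2_c27 LD3_c7)) :=
  Lgr Lrot80 (Lpe (f44535 IH) (Lpr_af (f45116 IH) (Lpe (f751 IH) (Lpn (LP (LK LD1_c0 LD2_c27 LD3_c7))))))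
theorem f45134 : Led Lsl_ft (LP (LK LD1_c0 LD2_c59 LD3_c30)) = (LP (LK LD1_c0 LD2_c27 LD3_c5)) :=
  Lre_f IH (LK LD1_c0 LD2_c59 LD3_c30) (LK LD1_c0 LD2_c27 LD3_c5) Lrfl Lrfl
theorem f45113 : Led Lsl_ft (LP (LK LD1_c0 LD2_c27 LD3_c7)) = (LP (LK LD1_c0 LD2_c59 LD3_c35)) :=
  Lre_f IH (LK LD1_c0 LD2_c27 LD3_c7) (LK LD1_c0 LD2_c59 LD3_c35) Lrfl Lrfl
theorem f45135 : Led Lsl_af (LP (LK LD1_c0 LD2_c59 LD3_c30)) = (LP (LK LD1_c0 LD2_c59 LD3_c35)) :=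
  Lgr Lrot45 (Lpr_ft (f45134 IH) (Lpr_at (f45126 IH) (Lpr_ft (f45113 IH) (Lpn (LP (LK LD1_c0 LD2_c59 LD3_c35))))))
theorem f45139 : Led Lsl_dt (LP (LK LD1_c0 LD2_c59 LD3_c30)) = (LP (LK LD1_c2 LD2_c4 LD3_c54)) :=
  Lre_d IH (LK LD1_c0 LD2_c59 LD3_c30) (LK LD1_c2 LD2_c4 LD3_c54) Lrfl Lrfl
theorem f45154 : Led Lsl_dt (LP (LK LD1_c2 LD2_c5 LD3_c0)) = (LP (LK LD1_c0 LD2_c59 LD3_c35)) :=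
  Lre_d IH (LK LD1_c2 LD2_c5 LD3_c0) (LK LD1_c0 LD2_c59 LD3_c35) Lrfl Lrfl
theorem f45155 : Led Lsl_at (LP (LK LD1_c2 LD2_c4 LD3_c54)) = (LP (LK LD1_c2 LD2_c5 LD3_c0)) :=
  Lgr Lrot51 (Lpe (f45139 IH) (Lpr_af (f45135 IH) (Lpe (f45154 IH) (Lpn (LP (LK LD1_c2 LD2_c5 LD3_c0))))))
theorem f45186 : Led Lsl_ft (LP (LK LD1_c0 LD2_c59 LD3_c29)) = (LP (LK LD1_c2 LD2_c4 LD3_c54)) :=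
  Lre_f IH (LK LD1_c0 LD2_c59 LD3_c29) (LK LD1_c2 LD2_c4 LD3_c54) Lrfl Lrfl
theorem f45131 : Led Lsl_dt (LP (LK LD1_c0 LD2_c59 LD3_c29)) = (LP (LK LD1_c0 LD2_c27 LD3_c5)) :=
  Lre_d IH (LK LD1_c0 LD2_c59 LD3_c29) (LK LD1_c0 LD2_c27 LD3_c5) Lrfl Lrfl
theorem f32306 : Led Lsl_et (LP (LK LD1_c0 LD2_c15 LD3_c28)) = (LP (LK LD1_c0 LD2_c7 LD3_c0)) :=
  Lre_e IH (LK LD1_c0 LD2_c15 LD3_c28) (LK LD1_c0 LD2_c7 LD3_c0) Lrfl Lrfl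
theorem f44536 : Led Lsl_ct (LP (LK LD1_c0 LD2_c27 LD3_c5)) = (LP (LK LD1_c0 LD2_c15 LD3_c28)) :=
  Lgr Lrot15 (Lpe (f44535 IH) (Lpr_cf (f44524 IH) (Lpe (f32306 IH) (Lpn (LP (LK LD1_c0 LD2_c15 LD3_c28))))))
theorem f45191 : Led Lsl_dt (LP (LK LD1_c0 LD2_c15 LD3_c28)) = (LP (LK LD1_c0 LD2_c34 LD3_c29)) :=
  Lre_d IH (LK LD1_c0 LD2_c15 LD3_c28) (LK LD1_c0 LD2_c34 LD3_c29) Lrfl Lrfl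
theorem f45192 : Led Lsl_ct (LP (LK LD1_c0 LD2_c34 LD3_c29)) = (LP (LK LD1_c1 LD2_c14 LD3_c25)) :=
  Lre_c IH (LK LD1_c0 LD2_c34 LD3_c29) (LK LD1_c1 LD2_c14 LD3_c25) Lrfl Lrfl
theorem f45193 : Led Lsl_dt (LP (LK LD1_c1 LD2_c14 LD3_c25)) = (LP (LK LD1_c2 LD2_c34 LD3_c52)) :=
  Lre_d IH (LK LD1_c1 LD2_c14 LD3_c25) (LK LD1_c2 LD2_c34 LD3_c52) Lrfl Lrfl
theorem f45194 : Led Lsl_ct (LP (LK LD1_c2 LD2_c34 LD3_c52)) = (LP (LK LD1_c5 LD2_c16 LD3_c11)) :=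
  Lre_c IH (LK LD1_c2 LD2_c34 LD3_c52) (LK LD1_c5 LD2_c16 LD3_c11) Lrfl Lrfl
theorem f45195 : Led Lsl_ct (LP (LK LD1_c4 LD2_c15 LD3_c17)) = (LP (LK LD1_c2 LD2_c5 LD3_c0)) :=
  Lre_c IH (LK LD1_c4 LD2_c15 LD3_c17) (LK LD1_c2 LD2_c5 LD3_c0) Lrfl Lrfl
theorem f45196 : Led Lsl_dt (LP (LK LD1_c5 LD2_c16 LD3_c11)) = (LP (LK LD1_c4 LD2_c15 LD3_c17)) :=
  Lgr Lrot120 (Lpe (f45194 IH) (Lpe (f45193 IH) (Lpe (f45192 IH) (Lpe (f45191 IH) (Lpe (f44536 IH) (Lpe (f45131 IH) (Lpr_ft (f45186 IH) (Lpr_at (f45155 IH) (Lpe (f45195 IH) (Lpn (LP (LK LD1_c4 LD2_c15 LD3_c17))))))))))))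
theorem f45218 : Led Lsl_ft (LP (LK LD1_c1 LD2_c14 LD3_c25)) = (LP (LK LD1_c2 LD2_c34 LD3_c53)) :=
  Lre_f IH (LK LD1_c1 LD2_c14 LD3_c25) (LK LD1_c2 LD2_c34 LD3_c53) Lrfl Lrfl
theorem f45219 : Led Lsl_at (LP (LK LD1_c2 LD2_c34 LD3_c53)) = (LP (LK LD1_c5 LD2_c15 LD3_c9)) :=
  Lre_a IH (LK LD1_c2 LD2_c34 LD3_c53) (LK LD1_c5 LD2_c15 LD3_c9) Lrfl Lrfl
theorem f32508 : Led Lsl_ct (LP (LK LD1_c2 LD2_c34 LD3_c26)) = (LP (LK LD1_c5 LD2_c15 LD3_c9)) :=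
  Lre_c IH (LK LD1_c2 LD2_c34 LD3_c26) (LK LD1_c5 LD2_c15 LD3_c9) Lrfl Lrfl
theorem f32335 : Led Lsl_dt (LP (LK LD1_c1 LD2_c14 LD3_c14)) = (LP (LK LD1_c2 LD2_c34 LD3_c26)) :=
  Lre_d IH (LK LD1_c1 LD2_c14 LD3_c14) (LK LD1_c2 LD2_c34 LD3_c26) Lrfl Lrfl
theorem f45220 : Led Lsl_cf (LP (LK LD1_c1 LD2_c14 LD3_c14)) = (LP (LK LD1_c0 LD2_c59 LD3_c35)) :=
  Lgr Lrot161 (Lpr_dt (f32335 IH) (Lpr_ct (f32508 IH) (Lpe (f45219 IH) (Lpe (f45218 IH) (Lpr_dt (f45193 IH) (Lpr_ct (f45194 IH) (Lpr_dt (f45196 IH) (Lpr_ct (f45195 IH) (Lpr_dt (f45154 IH) (Lpn (LP (LK LD1_c0 LD2_c59 LD3_c35))))))))))))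
theorem f45233 : Led Lsl_ct (LP (LK LD1_c0 LD2_c34 LD3_c26)) = (LP (LK LD1_c0 LD2_c27 LD3_c7)) :=
  Lgr Lrot40 (Lpe (f32321 IH) (Lpr_cf (f45220 IH) (Lpe (f45113 IH) (Lpn (LP (LK LD1_c0 LD2_c27 LD3_c7))))))
theorem f32847 : Led Lsl_dt (LP (LK LD1_c1 LD2_c14 LD3_c13)) = (LP (LK LD1_c0 LD2_c34 LD3_c26)) :=
  Lre_d IH (LK LD1_c1 LD2_c14 LD3_c13) (LK LD1_c0 LD2_c34 LD3_c26) Lrfl Lrfl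
theorem f32448 : Led Lsl_ct (LP (LK LD1_c2 LD2_c34 LD3_c25)) = (LP (LK LD1_c1 LD2_c14 LD3_c13)) :=
  Lre_c IH (LK LD1_c2 LD2_c34 LD3_c25) (LK LD1_c1 LD2_c14 LD3_c13) Lrfl Lrfl
theorem f32455 : Led Lsl_dt (LP (LK LD1_c5 LD2_c15 LD3_c8)) = (LP (LK LD1_c2 LD2_c34 LD3_c25)) :=
  Lre_d IH (LK LD1_c5 LD2_c15 LD3_c8) (LK LD1_c2 LD2_c34 LD3_c25) Lrfl Lrfl
theorem f45140 : Led Lsl_ct (LP (LK LD1_c2 LD2_c4 LD3_c54)) = (LP (LK LD1_c4 LD2_c15 LD3_c1)) :=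
  Lre_c IH (LK LD1_c2 LD2_c4 LD3_c54) (LK LD1_c4 LD2_c15 LD3_c1) Lrfl Lrfl
theorem f45141 : Led Lsl_dt (LP (LK LD1_c4 LD2_c15 LD3_c1)) = (LP (LK LD1_c8 LD2_c29 LD3_c4)) :=
  Lre_d IH (LK LD1_c4 LD2_c15 LD3_c1) (LK LD1_c8 LD2_c29 LD3_c4) Lrfl Lrfl
theorem f45249 : Led Lsl_cf (LP (LK LD1_c5 LD2_c15 LD3_c8)) = (LP (LK LD1_c8 LD2_c29 LD3_c4)) :=
  Lgr Lrot116 (Lpr_dt (f32455 IH) (Lpr_ct (f32448 IH) (Lpr_dt (f32847 IH) (Lpr_ct (f45233 IH) (Lpe (f45126 IH) (Lpe (f45134 IH) (Lpr_dt (f45139 IH) (Lpr_ct (f45140 IH) (Lpr_dt (f45141 IH) (Lpn (LP (LK LD1_c8 LD2_c29 LD3_c4))))))))))))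
theorem f45253 : Led Lsl_ft (LP (LK LD1_c4 LD2_c15 LD3_c1)) = (LP (LK LD1_c2 LD2_c4 LD3_c53)) :=
  Lre_f IH (LK LD1_c4 LD2_c15 LD3_c1) (LK LD1_c2 LD2_c4 LD3_c53) Lrfl Lrfl
theorem f752 : Led Lsl_dt (LP (LK LD1_c0 LD2_c27 LD3_c7)) = (LP (LK LD1_c0 LD2_c59 LD3_c34)) :=
  Lre_d IH (LK LD1_c0 LD2_c27 LD3_c7) (LK LD1_c0 LD2_c59 LD3_c34) Lrfl Lrfl
theorem f45159 : Led Lsl_ct (LP (LK LD1_c0 LD2_c59 LD3_c34)) = (LP (LK LD1_c2 LD2_c4 LD3_c61)) :=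
  Lre_c IH (LK LD1_c0 LD2_c59 LD3_c34) (LK LD1_c2 LD2_c4 LD3_c61) Lrfl Lrfl
theorem f45254 : Led Lsl_at (LP (LK LD1_c2 LD2_c4 LD3_c53)) = (LP (LK LD1_c2 LD2_c4 LD3_c61)) :=
  Lgr Lrot33 (Lpe (f45253 IH) (Lpr_dt (f45141 IH) (Lpe (f45249 IH) (Lpr_dt (f32455 IH) (Lpr_ct (f32448 IH) (Lpr_dt (f32847 IH) (Lpr_ct (f45233 IH) (Lpr_dt (f752 IH) (Lpr_ct (f45159 IH) (Lpn (LP (LK LD1_c2 LD2_c4 LD3_c61))))))))))))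
theorem f45205 : Led Lsl_dt (LP (LK LD1_c4 LD2_c15 LD3_c0)) = (LP (LK LD1_c2 LD2_c4 LD3_c53)) :=
  Lre_d IH (LK LD1_c4 LD2_c15 LD3_c0) (LK LD1_c2 LD2_c4 LD3_c53) Lrfl Lrfl
theorem f45160 : Led Lsl_dt (LP (LK LD1_c2 LD2_c4 LD3_c61)) = (LP (LK LD1_c4 LD2_c15 LD3_c16)) :=
  Lre_d IH (LK LD1_c2 LD2_c4 LD3_c61) (LK LD1_c4 LD2_c15 LD3_c16) Lrfl Lrfl
theorem f45268 : Led Lsl_af (LP (LK LD1_c4 LD2_c15 LD3_c0)) = (LP (LK LD1_c4 LD2_c15 LD3_c16)) :=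
  Lgr Lrot117 (Lpr_dt (f45205 IH) (Lpr_at (f45254 IH) (Lpr_dt (f45160 IH) (Lpn (LP (LK LD1_c4 LD2_c15 LD3_c16))))))
theorem f45288 : Led Lsl_ft (LP (LK LD1_c4 LD2_c15 LD3_c0)) = (LP (LK LD1_c8 LD2_c29 LD3_c4)) :=
  Lre_f IH (LK LD1_c4 LD2_c15 LD3_c0) (LK LD1_c8 LD2_c29 LD3_c4) Lrfl Lrfl
theorem f45179 : Led Lsl_ct (LP (LK LD1_c4 LD2_c15 LD3_c1)) = (LP (LK LD1_c2 LD2_c4 LD3_c54)) :=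
  Lre_c IH (LK LD1_c4 LD2_c15 LD3_c1) (LK LD1_c2 LD2_c4 LD3_c54) Lrfl Lrfl
theorem f45180 : Led Lsl_ct (LP (LK LD1_c2 LD2_c5 LD3_c0)) = (LP (LK LD1_c4 LD2_c15 LD3_c17)) :=
  Lre_c IH (LK LD1_c2 LD2_c5 LD3_c0) (LK LD1_c4 LD2_c15 LD3_c17) Lrfl Lrfl
theorem f45181 : Led Lsl_af (LP (LK LD1_c4 LD2_c15 LD3_c1)) = (LP (LK LD1_c4 LD2_c15 LD3_c17)) :=
  Lgr Lrot68 (Lpr_ct (f45179 IH) (Lpr_at (f45155 IH) (Lpr_ct (f45180 IH) (Lpn (LP (LK LD1_c4 LD2_c15 LD3_c17))))))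
theorem f45198 : Led Lsl_af (LP (LK LD1_c5 LD2_c16 LD3_c11)) = (LP (LK LD1_c8 LD2_c29 LD3_c4)) :=
  Lgr Lrot117 (Lpr_dt (f45196 IH) (Lpe (f45181 IH) (Lpr_dt (f45141 IH) (Lpn (LP (LK LD1_c8 LD2_c29 LD3_c4))))))
theorem f45289 : Led Lsl_ft (LP (LK LD1_c5 LD2_c16 LD3_c11)) = (LP (LK LD1_c4 LD2_c15 LD3_c16)) :=
  Lgr Lrot101 (Lpr_af (f45198 IH) (Lpe (f45288 IH) (Lpr_af (f45268 IH) (Lpn (LP (LK LD1_c4 LD2_c15 LD3_c16))))))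
theorem f45200 : Led Lsl_bt (LP (LK LD1_c10 LD2_c21 LD3_c56)) = (LP (LK LD1_c5 LD2_c16 LD3_c11)) :=
  Lre_b IH (LK LD1_c10 LD2_c21 LD3_c56) (LK LD1_c5 LD2_c16 LD3_c11) Lrfl Lrfl
theorem f45304 : Led Lsl_bt (LP (LK LD1_c4 LD2_c15 LD3_c16)) = (LP (LK LD1_c8 LD2_c29 LD3_c28)) :=
  Lre_b IH (LK LD1_c4 LD2_c15 LD3_c16) (LK LD1_c8 LD2_c29 LD3_c28) Lrfl Lrfl
theorem f45305 : Led Lsl_ff (LP (LK LD1_c10 LD2_c21 LD3_c56)) = (LP (LK LD1_c8 LD2_c29 LD3_c28)) :=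
  Lgr Lrot25 (Lpr_bt (f45200 IH) (Lpr_ft (f45289 IH) (Lpr_bt (f45304 IH) (Lpn (LP (LK LD1_c8 LD2_c29 LD3_c28))))))
theorem f45319 : Led Lsl_ft (LP (LK LD1_c10 LD2_c21 LD3_c56)) = (LP (LK LD1_c8 LD2_c29 LD3_c28)) :=
  Lgr Lrot48 (Lpr_ff (f45305 IH) (Lpn (LP (LK LD1_c8 LD2_c29 LD3_c28))))
theorem f45296 : Led Lsl_ct (LP (LK LD1_c18 LD2_c48 LD3_c37)) = (LP (LK LD1_c10 LD2_c21 LD3_c56)) :=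
  Lre_c IH (LK LD1_c18 LD2_c48 LD3_c37) (LK LD1_c10 LD2_c21 LD3_c56) Lrfl Lrfl
theorem f45326 : Led Lsl_ct (LP (LK LD1_c8 LD2_c29 LD3_c28)) = (LP (LK LD1_c15 LD2_c56 LD3_c38)) :=
  Lre_c IH (LK LD1_c8 LD2_c29 LD3_c28) (LK LD1_c15 LD2_c56 LD3_c38) Lrfl Lrfl
theorem f45327 : Led Lsl_ff (LP (LK LD1_c18 LD2_c48 LD3_c37)) = (LP (LK LD1_c15 LD2_c56 LD3_c38)) :=
  Lgr Lrot23 (Lpr_ct (f45296 IH) (Lpr_ft (f45319 IH) (Lpr_ct (f45326 IH) (Lpn (LP (LK LD1_c15 LD2_c56 LD3_c38))))))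
theorem f45332 : Led Lsl_bt (LP (LK LD1_c18 LD2_c48 LD3_c37)) = (LP (LK LD1_c10 LD2_c21 LD3_c49)) :=
  Lre_b IH (LK LD1_c18 LD2_c48 LD3_c37) (LK LD1_c10 LD2_c21 LD3_c49) Lrfl Lrfl
theorem f45333 : Led Lsl_ft (LP (LK LD1_c10 LD2_c21 LD3_c49)) = (LP (LK LD1_c18 LD2_c48 LD3_c40)) :=
  Lre_f IH (LK LD1_c10 LD2_c21 LD3_c49) (LK LD1_c18 LD2_c48 LD3_c40) Lrfl Lrfl
theorem f45334 : Led Lsl_bt (LP (LK LD1_c18 LD2_c48 LD3_c40)) = (LP (LK LD1_c15 LD2_c56 LD3_c38)) :=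
  Lgr Lrot35 (Lpe (f45333 IH) (Lpe (f45332 IH) (Lpr_ff (f45327 IH) (Lpn (LP (LK LD1_c15 LD2_c56 LD3_c38))))))
theorem f45338 : Led Lsl_bf (LP (LK LD1_c18 LD2_c48 LD3_c40)) = (LP (LK LD1_c15 LD2_c56 LD3_c38)) :=
  Lgr Lrot24 (Lpr_bt (f45334 IH) (Lpn (LP (LK LD1_c15 LD2_c56 LD3_c38))))
theorem f35040 : Led Lsl_ct (LP (LK LD1_c18 LD2_c48 LD3_c40)) = (LP (LK LD1_c10 LD2_c21 LD3_c51)) :=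
  Lre_c IH (LK LD1_c18 LD2_c48 LD3_c40) (LK LD1_c10 LD2_c21 LD3_c51) Lrfl Lrfl
theorem f45341 : Led Lsl_bt (LP (LK LD1_c10 LD2_c21 LD3_c51)) = (LP (LK LD1_c5 LD2_c16 LD3_c13)) :=
  Lre_b IH (LK LD1_c10 LD2_c21 LD3_c51) (LK LD1_c5 LD2_c16 LD3_c13) Lrfl Lrfl
theorem f45342 : Led Lsl_ct (LP (LK LD1_c5 LD2_c16 LD3_c13)) = (LP (LK LD1_c4 LD2_c15 LD3_c16)) :=
  Lgr Lrot83 (Lpe (f45341 IH) (Lpe (f35040 IH) (Lpr_bf (f45338 IH) (Lpe (f45326 IH) (Lpe (f45304 IH) (Lpn (LP (LK LD1_c4 LD2_c15 LD3_c16))))))))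
theorem f45349 : Led Lsl_dt (LP (LK LD1_c2 LD2_c34 LD3_c53)) = (LP (LK LD1_c5 LD2_c16 LD3_c13)) :=
  Lre_d IH (LK LD1_c2 LD2_c34 LD3_c53) (LK LD1_c5 LD2_c16 LD3_c13) Lrfl Lrfl
theorem f32892 : Led Lsl_ct (LP (LK LD1_c1 LD2_c14 LD3_c26)) = (LP (LK LD1_c2 LD2_c34 LD3_c53)) :=
  Lre_c IH (LK LD1_c1 LD2_c14 LD3_c26) (LK LD1_c2 LD2_c34 LD3_c53) Lrfl Lrfl
theorem f32374 : Led Lsl_dt (LP (LK LD1_c0 LD2_c34 LD3_c30)) = (LP (LK LD1_c1 LD2_c14 LD3_c26)) :=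
  Lre_d IH (LK LD1_c0 LD2_c34 LD3_c30) (LK LD1_c1 LD2_c14 LD3_c26) Lrfl Lrfl
theorem f45281 : Led Lsl_at (LP (LK LD1_c4 LD2_c15 LD3_c0)) = (LP (LK LD1_c4 LD2_c15 LD3_c16)) :=
  Lgr Lrot100 (Lpr_af (f45268 IH) (Lpn (LP (LK LD1_c4 LD2_c15 LD3_c16))))
theorem f45355 : Led Lsl_ft (LP (LK LD1_c8 LD2_c29 LD3_c4)) = (LP (LK LD1_c4 LD2_c15 LD3_c0)) :=
  Lre_f IH (LK LD1_c8 LD2_c29 LD3_c4) (LK LD1_c4 LD2_c15 LD3_c0) Lrfl Lrfl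
theorem f45274 : Led Lsl_dt (LP (LK LD1_c8 LD2_c29 LD3_c4)) = (LP (LK LD1_c4 LD2_c15 LD3_c1)) :=
  Lre_d IH (LK LD1_c8 LD2_c29 LD3_c4) (LK LD1_c4 LD2_c15 LD3_c1) Lrfl Lrfl
theorem f45143 : Led Lsl_dt (LP (LK LD1_c2 LD2_c4 LD3_c54)) = (LP (LK LD1_c0 LD2_c59 LD3_c30)) :=
  Lre_d IH (LK LD1_c2 LD2_c4 LD3_c54) (LK LD1_c0 LD2_c59 LD3_c30) Lrfl Lrfl
theorem f45356 : Led Lsl_cf (LP (LK LD1_c0 LD2_c34 LD3_c30)) = (LP (LK LD1_c0 LD2_c59 LD3_c30)) :=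
  Lgr Lrot116 (Lpr_dt (f32374 IH) (Lpr_ct (f32892 IH) (Lpr_dt (f45349 IH) (Lpr_ct (f45342 IH) (Lpe (f45281 IH) (Lpe (f45355 IH) (Lpr_dt (f45274 IH) (Lpr_ct (f45179 IH) (Lpr_dt (f45143 IH) (Lpn (LP (LK LD1_c0 LD2_c59 LD3_c30))))))))))))
theorem f32307 : Led Lsl_ft (LP (LK LD1_c0 LD2_c34 LD3_c30)) = (LP (LK LD1_c0 LD2_c15 LD3_c28)) :=
  Lre_f IH (LK LD1_c0 LD2_c34 LD3_c30) (LK LD1_c0 LD2_c15 LD3_c28) Lrfl Lrfl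
theorem f45164 : Led Lsl_ft (LP (LK LD1_c0 LD2_c27 LD3_c5)) = (LP (LK LD1_c0 LD2_c59 LD3_c30)) :=
  Lre_f IH (LK LD1_c0 LD2_c27 LD3_c5) (LK LD1_c0 LD2_c59 LD3_c30) Lrfl Lrfl
theorem f45382 : Led Lsl_ct (LP (LK LD1_c0 LD2_c15 LD3_c28)) = (LP (LK LD1_c0 LD2_c27 LD3_c5)) :=
  Lgr Lrot40 (Lpe (f32307 IH) (Lpr_cf (f45356 IH) (Lpe (f45164 IH) (Lpn (LP (LK LD1_c0 LD2_c27 LD3_c5))))))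
theorem f32260 : Led Lsl_bt (LP (LK LD1_c0 LD2_c7 LD3_c1)) = (LP (LK LD1_c0 LD2_c15 LD3_c28)) :=
  Lre_b IH (LK LD1_c0 LD2_c7 LD3_c1) (LK LD1_c0 LD2_c15 LD3_c28) Lrfl Lrfl
theorem f32278 : Led Lsl_ct (LP (LK LD1_c0 LD2_c14 LD3_c22)) = (LP (LK LD1_c0 LD2_c15 LD3_c30)) :=
  Lgr Lrot111 (Lpe (K0.f31613 IH) (Lpe (f32235 IH) (Lpr_af (f32269 IH) (Lpn (LP (LK LD1_c0 LD2_c15 LD3_c30))))))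
theorem f32290 : Led Lsl_cf (LP (LK LD1_c0 LD2_c14 LD3_c22)) = (LP (LK LD1_c0 LD2_c15 LD3_c30)) :=
  Lgr Lrot39 (Lpr_et (f31551 IH) (Lpr_ct (f32278 IH) (Lpr_et (f32283 IH) (Lpn (LP (LK LD1_c0 LD2_c15 LD3_c30))))))
theorem f32873 : Led Lsl_ct (LP (LK LD1_c0 LD2_c6 LD3_c37)) = (LP (LK LD1_c0 LD2_c7 LD3_c1)) :=
  Lgr Lrot40 (Lpe (K0.f31559 IH) (Lpr_cf (f32290 IH) (Lpe (f32268 IH) (Lpn (LP (LK LD1_c0 LD2_c7 LD3_c1))))))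
theorem f31531 : Led Lsl_bt (LP (LK LD1_c0 LD2_c14 LD3_c18)) = (LP (LK LD1_c0 LD2_c6 LD3_c37)) :=
  Lre_b IH (LK LD1_c0 LD2_c14 LD3_c18) (LK LD1_c0 LD2_c6 LD3_c37) Lrfl Lrfl
theorem f45387 : Led Lsl_bf (LP (LK LD1_c0 LD2_c27 LD3_c52)) = (LP (LK LD1_c0 LD2_c27 LD3_c5)) :=
  Lgr Lrot90 (Lpe (K0.f31428 IH) (Lpr_bt (f31531 IH) (Lpr_ct (f32873 IH) (Lpr_bt (f32260 IH) (Lpr_ct (f45382 IH) (Lpn (LP (LK LD1_c0 LD2_c27 LD3_c5))))))))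
theorem f45696 : Led Lsl_bt (LP (LK LD1_c0 LD2_c12 LD3_c19)) = (LP (LK LD1_c0 LD2_c12 LD3_c0)) :=
  Lgr Lrot119 (Lpe (K0.f31125 IH) (Lpr_bf (f45387 IH) (Lpe (f44535 IH) (Lpn (LP (LK LD1_c0 LD2_c12 LD3_c0))))))
theorem f44512 : Led Lsl_bt (LP (LK LD1_c0 LD2_c26 LD3_c57)) = (LP (LK LD1_c0 LD2_c59 LD3_c8)) :=
  Lre_b IH (LK LD1_c0 LD2_c26 LD3_c57) (LK LD1_c0 LD2_c59 LD3_c8) Lrfl Lrfl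
theorem f44513 : Led Lsl_cf (LP (LK LD1_c0 LD2_c26 LD3_c57)) = (LP (LK LD1_c0 LD2_c26 LD3_c59)) :=
  Lgr Lrot97 (Lpr_bt (f44512 IH) (Lpr_ct (f44510 IH) (Lpe (f30832 IH) (Lpr_ct (K0.f27785 IH) (Lpr_bt (K0.f27400 IH) (Lpn (LP (LK LD1_c0 LD2_c26 LD3_c59))))))))
theorem f45702 : Led Lsl_gf (LP (LK LD1_c0 LD2_c26 LD3_c57)) = (LP (LK LD1_c0 LD2_c26 LD3_c58)) :=
  Lgr Lrot129 (Lpr_cf (f44513 IH) (Lpr_bt (K0.f8093 IH) (Lpr_gt (K0.f8090 IH) (Lpe (K0.f29152 IH) (Lpr_ct (K0.f28557 IH) (Lpr_gt (K0.f31034 IH) (Lpe (K0.f28803 IH) (Lpr_bt (f45696 IH) (Lpe (f27376 IH) (Lpr_ct (f762 IH) (Lpn (LP (LK LD1_c0 LD2_c26 LD3_c58)))))))))))))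
theorem f45124 : Led Lsl_dt (LP (LK LD1_c0 LD2_c12 LD3_c0)) = (LP (LK LD1_c0 LD2_c15 LD3_c25)) :=
  Lgr Lrot44 (Lpr_af (f45116 IH) (Lpe (f45099 IH) (Lpe (f33402 IH) (Lpn (LP (LK LD1_c0 LD2_c15 LD3_c25))))))
theorem f45122 : Led Lsl_ct (LP (LK LD1_c0 LD2_c15 LD3_c27)) = (LP (LK LD1_c0 LD2_c12 LD3_c1)) :=
  Lgr Lrot111 (Lpe (f32303 IH) (Lpe (f44533 IH) (Lpr_af (f45116 IH) (Lpn (LP (LK LD1_c0 LD2_c12 LD3_c1))))))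
theorem f45706 : Led Lsl_ct (LP (LK LD1_c0 LD2_c26 LD3_c57)) = (LP (LK LD1_c0 LD2_c26 LD3_c59)) :=
  Lgr Lrot151 (Lpr_gf (f45702 IH) (Lpe (f762 IH) (Lpr_gf (f27376 IH) (Lpr_dt (f45124 IH) (Lpr_gt (f32310 IH) (Lpr_ct (f45122 IH) (Lpr_gt (f740 IH) (Lpr_ct (K0.f1426 IH) (Lpr_dt (K0.f1427 IH) (Lpn (LP (LK LD1_c0 LD2_c26 LD3_c59))))))))))))
theorem f45716 : Led Lsl_gf (LP (LK LD1_c0 LD2_c34 LD3_c21)) = (LP (LK LD1_c0 LD2_c26 LD3_c59)) :=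
  Lgr Lrot126 (Lpe (f32312 IH) (Lpe (f33393 IH) (Lpe (f44035 IH) (Lpe (f44033 IH) (Lpr_gt (f44027 IH) (Lpr_cf (K0.f33136 IH) (Lpr_bt (f33126 IH) (Lpe (f44526 IH) (Lpe (f44512 IH) (Lpr_ct (f45706 IH) (Lpn (LP (LK LD1_c0 LD2_c26 LD3_c59)))))))))))))
theorem f45247 : Led Lsl_cf (LP (LK LD1_c0 LD2_c15 LD3_c27)) = (LP (LK LD1_c0 LD2_c12 LD3_c1)) :=
  Lgr Lrot39 (Lpr_et (f32319 IH) (Lpr_ct (f45233 IH) (Lpr_et (f751 IH) (Lpn (LP (LK LD1_c0 LD2_c12 LD3_c1))))))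
theorem f45109 : Led Lsl_bt (LP (LK LD1_c0 LD2_c12 LD3_c1)) = (LP (LK LD1_c0 LD2_c27 LD3_c6)) :=
  Lre_b IH (LK LD1_c0 LD2_c12 LD3_c1) (LK LD1_c0 LD2_c27 LD3_c6) Lrfl Lrfl
theorem f45726 : Led Lsl_gt (LP (LK LD1_c0 LD2_c27 LD3_c6)) = (LP (LK LD1_c0 LD2_c27 LD3_c58)) :=
  Lgr Lrot164 (Lpe (f45109 IH) (Lpe (f45247 IH) (Lpe (f32310 IH) (Lpe (f32313 IH) (Lpr_gf (f45716 IH) (Lpe (K0.f27400 IH) (Lpe (K0.f27806 IH) (Lpe (K0.f28779 IH) (Lpe (K0.f29148 IH) (Lpr_bt (K0.f28999 IH) (Lpn (LP (LK LD1_c0 LD2_c27 LD3_c58)))))))))))))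
theorem f750 : Led Lsl_ct (LP (LK LD1_c0 LD2_c59 LD3_c31)) = (LP (LK LD1_c0 LD2_c27 LD3_c6)) :=
  Lre_c IH (LK LD1_c0 LD2_c59 LD3_c31) (LK LD1_c0 LD2_c27 LD3_c6) Lrfl Lrfl
theorem f736 : Led Lsl_bt (LP (LK LD1_c0 LD2_c2 LD3_c32)) = (LP (LK LD1_c0 LD2_c5 LD3_c33)) :=
  Lre_b IH (LK LD1_c0 LD2_c2 LD3_c32) (LK LD1_c0 LD2_c5 LD3_c33) Lrfl Lrfl
theorem f749 : Led Lsl_bt (LP (LK LD1_c0 LD2_c27 LD3_c6)) = (LP (LK LD1_c0 LD2_c12 LD3_c1)) :=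
  Lre_b IH (LK LD1_c0 LD2_c27 LD3_c6) (LK LD1_c0 LD2_c12 LD3_c1) Lrfl Lrfl
theorem f8075 : Led Lsl_ct (LP (LK LD1_c0 LD2_c27 LD3_c6)) = (LP (LK LD1_c0 LD2_c59 LD3_c31)) :=
  Lre_c IH (LK LD1_c0 LD2_c27 LD3_c6) (LK LD1_c0 LD2_c59 LD3_c31) Lrfl Lrfl
theorem f8073 : Led Lsl_gt (LP (LK LD1_c0 LD2_c11 LD3_c33)) = (LP (LK LD1_c0 LD2_c25 LD3_c58)) :=
  Lre_g IH (LK LD1_c0 LD2_c11 LD3_c33) (LK LD1_c0 LD2_c25 LD3_c58) Lrfl Lrfl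
theorem f8076 : Led Lsl_ct (LP (LK LD1_c0 LD2_c25 LD3_c58)) = (LP (LK LD1_c0 LD2_c57 LD3_c10)) :=
  Lre_c IH (LK LD1_c0 LD2_c25 LD3_c58) (LK LD1_c0 LD2_c57 LD3_c10) Lrfl Lrfl
theorem f8077 : Led Lsl_gf (LP (LK LD1_c0 LD2_c59 LD3_c31)) = (LP (LK LD1_c0 LD2_c57 LD3_c10)) :=
  Lgr Lrot129 (Lpe (f8075 IH) (Lpr_bt (f749 IH) (Lpr_gt (f740 IH) (Lpe (f736 IH) (Lpr_ct (K0.f299 IH) (Lpr_gt (K0.f8060 IH) (Lpe (f491 IH) (Lpr_bt (K0.f8072 IH) (Lpr_gt (f8073 IH) (Lpr_ct (f8076 IH) (Lpn (LP (LK LD1_c0 LD2_c57 LD3_c10)))))))))))))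
theorem f42014 : Led Lsl_af (LP (LK LD1_c0 LD2_c39 LD3_c5)) = (LP (LK LD1_c0 LD2_c27 LD3_c58)) :=
  Lgr Lrot117 (Lpr_dt (f41877 IH) (Lpr_at (f41836 IH) (Lpr_dt (f29003 IH) (Lpn (LP (LK LD1_c0 LD2_c27 LD3_c58))))))
theorem f29029 : Led Lsl_dt (LP (LK LD1_c0 LD2_c27 LD3_c58)) = (LP (LK LD1_c0 LD2_c12 LD3_c21)) :=
  Lre_d IH (LK LD1_c0 LD2_c27 LD3_c58) (LK LD1_c0 LD2_c12 LD3_c21) Lrfl Lrfl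
theorem f41843 : Led Lsl_ff (LP (LK LD1_c0 LD2_c27 LD3_c58)) = (LP (LK LD1_c0 LD2_c27 LD3_c58)) :=
  Lgr Lrot19 (Lpr_dt (f29029 IH) (Lpr_ft (f41837 IH) (Lpr_dt (f29003 IH) (Lpn (LP (LK LD1_c0 LD2_c27 LD3_c58))))))
theorem f42020 : Led Lsl_at (LP (LK LD1_c0 LD2_c39 LD3_c5)) = (LP (LK LD1_c0 LD2_c27 LD3_c58)) :=
  Lgr Lrot66 (Lpr_ff (f42018 IH) (Lpr_af (f42014 IH) (Lpr_ff (f41843 IH) (Lpn (LP (LK LD1_c0 LD2_c27 LD3_c58))))))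
theorem f45732 : Led Lsl_gf (LP (LK LD1_c0 LD2_c27 LD3_c6)) = (LP (LK LD1_c0 LD2_c39 LD3_c5)) :=
  Lgr Lrot47 (Lpr_gt (f45726 IH) (Lpe (f42020 IH) (Lpr_ff (f42018 IH) (Lpn (LP (LK LD1_c0 LD2_c39 LD3_c5))))))
theorem f32327 : Led Lsl_ct (LP (LK LD1_c0 LD2_c34 LD3_c24)) = (LP (LK LD1_c0 LD2_c15 LD3_c26)) :=
  Lre_c IH (LK LD1_c0 LD2_c34 LD3_c24) (LK LD1_c0 LD2_c15 LD3_c26) Lrfl Lrfl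
theorem f45738 : Led Lsl_bf (LP (LK LD1_c0 LD2_c57 LD3_c10)) = (LP (LK LD1_c0 LD2_c34 LD3_c24)) :=
  Lgr Lrot165 (Lpe (f8077 IH) (Lpr_ct (f750 IH) (Lpr_gt (f45726 IH) (Lpr_cf (K0.f29001 IH) (Lpr_bt (K0.f29000 IH) (Lpe (f45732 IH) (Lpe (f45109 IH) (Lpe (f45247 IH) (Lpe (f32324 IH) (Lpe (f32327 IH) (Lpn (LP (LK LD1_c0 LD2_c34 LD3_c24)))))))))))))
theorem f44531 : Led Lsl_bt (LP (LK LD1_c0 LD2_c12 LD3_c0)) = (LP (LK LD1_c0 LD2_c12 LD3_c19)) :=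
  Lgr Lrot128 (Lpr_cf (f44524 IH) (Lpe (f28422 IH) (Lpr_cf (K0.f28420 IH) (Lpe (f28408 IH) (Lpe (K0.f28803 IH) (Lpn (LP (LK LD1_c0 LD2_c12 LD3_c19))))))))
theorem f28725 : Led Lsl_bt (LP (LK LD1_c0 LD2_c12 LD3_c17)) = (LP (LK LD1_c0 LD2_c27 LD3_c46)) :=
  Lre_b IH (LK LD1_c0 LD2_c12 LD3_c17) (LK LD1_c0 LD2_c27 LD3_c46) Lrfl Lrfl
theorem f45775 : Led Lsl_gf (LP (LK LD1_c0 LD2_c57 LD3_c10)) = (LP (LK LD1_c0 LD2_c27 LD3_c46)) :=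
  Lgr Lrot124 (Lpr_bf (f45738 IH) (Lpr_ct (f32327 IH) (Lpr_gt (f31436 IH) (Lpe (f44533 IH) (Lpr_bt (f44531 IH) (Lpe (f31129 IH) (Lpr_ct (K0.f28323 IH) (Lpe (K0.f28734 IH) (Lpe (K0.f27817 IH) (Lpr_bt (f28725 IH) (Lpn (LP (LK LD1_c0 LD2_c27 LD3_c46)))))))))))))
theorem f8085 : Led Lsl_bt (LP (LK LD1_c0 LD2_c25 LD3_c58)) = (LP (LK LD1_c0 LD2_c57 LD3_c9)) :=
  Lre_b IH (LK LD1_c0 LD2_c25 LD3_c58) (LK LD1_c0 LD2_c57 LD3_c9) Lrfl Lrfl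
theorem f45785 : Led Lsl_gt (LP (LK LD1_c0 LD2_c57 LD3_c9)) = (LP (LK LD1_c0 LD2_c31 LD3_c24)) :=
  Lgr Lrot82 (Lpe (f8085 IH) (Lpr_ct (f8076 IH) (Lpr_gf (f45775 IH) (Lpr_cf (K0.f28600 IH) (Lpr_bt (K0.f28726 IH) (Lpe (K0.f28732 IH) (Lpe (f42486 IH) (Lpr_ct (f42124 IH) (Lpe (f28211 IH) (Lpr_cf (f43214 IH) (Lpn (LP (LK LD1_c0 LD2_c31 LD3_c24)))))))))))))
theorem f8082 : Led Lsl_ct (LP (LK LD1_c0 LD2_c57 LD3_c10)) = (LP (LK LD1_c0 LD2_c25 LD3_c58)) :=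
  Lre_c IH (LK LD1_c0 LD2_c57 LD3_c10) (LK LD1_c0 LD2_c25 LD3_c58) Lrfl Lrfl
theorem f44558 : Led Lsl_df (LP (LK LD1_c0 LD2_c57 LD3_c10)) = (LP (LK LD1_c1 LD2_c8 LD3_c38)) :=
  Lgr Lrot162 (Lpe (f8076 IH) (Lpe (f8073 IH) (Lpr_cf (f44315 IH) (Lpe (K0.f6968 IH) (Lpe (f42484 IH) (Lpr_gt (f8284 IH) (Lpr_ct (f7706 IH) (Lpr_gt (f7707 IH) (Lpr_ct (f44546 IH) (Lpn (LP (LK LD1_c1 LD2_c8 LD3_c38))))))))))))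
theorem f28144 : Led Lsl_at (LP (LK LD1_c0 LD2_c11 LD3_c13)) = (LP (LK LD1_c0 LD2_c5 LD3_c17)) :=
  Lre_a IH (LK LD1_c0 LD2_c11 LD3_c13) (LK LD1_c0 LD2_c5 LD3_c17) Lrfl Lrfl
theorem f28149 : Led Lsl_gf (LP (LK LD1_c0 LD2_c11 LD3_c19)) = (LP (LK LD1_c0 LD2_c11 LD3_c13)) :=
  Lgr Lrot47 (Lpr_gt (K0.f27798 IH) (Lpe (f28144 IH) (Lpr_ff (f28135 IH) (Lpn (LP (LK LD1_c0 LD2_c11 LD3_c13))))))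
theorem f27830 : Led Lsl_dt (LP (LK LD1_c0 LD2_c11 LD3_c19)) = (LP (LK LD1_c0 LD2_c25 LD3_c25)) :=
  Lre_d IH (LK LD1_c0 LD2_c11 LD3_c19) (LK LD1_c0 LD2_c25 LD3_c25) Lrfl Lrfl
theorem f45794 : Led Lsl_bf (LP (LK LD1_c0 LD2_c11 LD3_c19)) = (LP (LK LD1_c0 LD2_c15 LD3_c46)) :=
  Lgr Lrot184 (Lpr_gt (K0.f27798 IH) (Lpr_dt (K0.f27776 IH) (Lpr_ct (K0.f27787 IH) (Lpr_bt (K0.f27540 IH) (Lpr_gt (f27580 IH) (Lpe (f44558 IH) (Lpr_ct (f8082 IH) (Lpr_bt (f8085 IH) (Lpr_gt (f45785 IH) (Lpr_dt (K0.f27726 IH) (Lpe (f44562 IH) (Lpr_bt (f28146 IH) (Lpe (f28149 IH) (Lpr_dt (f27830 IH) (Lpr_ct (f44023 IH) (Lpr_bt (f28312 IH) (Lpr_gt (f28234 IH) (Lpr_dt (f28247 IH) (Lpr_ct (f7706 IH) (Lpn (LP (LK LD1_c0 LD2_c15 LD3_c46))))))))))))))))))))))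
theorem f27831 : Led Lsl_et (LP (LK LD1_c0 LD2_c11 LD3_c19)) = (LP (LK LD1_c0 LD2_c25 LD3_c26)) :=
  Lre_e IH (LK LD1_c0 LD2_c11 LD3_c19) (LK LD1_c0 LD2_c25 LD3_c26) Lrfl Lrfl
theorem f43921 : Led Lsl_et (LP (LK LD1_c0 LD2_c35 LD3_c5)) = (LP (LK LD1_c0 LD2_c15 LD3_c46)) :=
  Lre_e IH (LK LD1_c0 LD2_c35 LD3_c5) (LK LD1_c0 LD2_c15 LD3_c46) Lrfl Lrfl
theorem f45798 : Led Lsl_bt (LP (LK LD1_c0 LD2_c25 LD3_c26)) = (LP (LK LD1_c0 LD2_c35 LD3_c5)) :=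
  Lgr Lrot119 (Lpe (f27831 IH) (Lpr_bf (f45794 IH) (Lpe (f43921 IH) (Lpn (LP (LK LD1_c0 LD2_c35 LD3_c5))))))
theorem f27843 : Led Lsl_ft (LP (LK LD1_c0 LD2_c56 LD3_c2)) = (LP (LK LD1_c0 LD2_c25 LD3_c26)) :=
  Lre_f IH (LK LD1_c0 LD2_c56 LD3_c2) (LK LD1_c0 LD2_c25 LD3_c26) Lrfl Lrfl
theorem f45806 : Led Lsl_ft (LP (LK LD1_c0 LD2_c35 LD3_c5)) = (LP (LK LD1_c1 LD2_c15 LD3_c40)) :=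
  Lre_f IH (LK LD1_c0 LD2_c35 LD3_c5) (LK LD1_c1 LD2_c15 LD3_c40) Lrfl Lrfl
theorem f45807 : Led Lsl_bf (LP (LK LD1_c0 LD2_c56 LD3_c2)) = (LP (LK LD1_c1 LD2_c15 LD3_c40)) :=
  Lgr Lrot61 (Lpr_ft (f27843 IH) (Lpr_bt (f45798 IH) (Lpr_ft (f45806 IH) (Lpn (LP (LK LD1_c1 LD2_c15 LD3_c40))))))
theorem f27764 : Led Lsl_et (LP (LK LD1_c0 LD2_c11 LD3_c56)) = (LP (LK LD1_c0 LD2_c5 LD3_c30)) :=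
  Lre_e IH (LK LD1_c0 LD2_c11 LD3_c56) (LK LD1_c0 LD2_c5 LD3_c30) Lrfl Lrfl
theorem f27832 : Led Lsl_cf (LP (LK LD1_c0 LD2_c11 LD3_c56)) = (LP (LK LD1_c0 LD2_c25 LD3_c26)) :=
  Lgr Lrot39 (Lpr_et (f27764 IH) (Lpr_ct (K0.f27820 IH) (Lpr_et (f27831 IH) (Lpn (LP (LK LD1_c0 LD2_c25 LD3_c26))))))
theorem f27842 : Led Lsl_ft (LP (LK LD1_c0 LD2_c11 LD3_c56)) = (LP (LK LD1_c0 LD2_c26 LD3_c55)) :=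
  Lre_f IH (LK LD1_c0 LD2_c11 LD3_c56) (LK LD1_c0 LD2_c26 LD3_c55) Lrfl Lrfl
theorem f27844 : Led Lsl_ct (LP (LK LD1_c0 LD2_c26 LD3_c55)) = (LP (LK LD1_c0 LD2_c56 LD3_c2)) :=
  Lgr Lrot40 (Lpe (f27842 IH) (Lpr_cf (f27832 IH) (Lpe (f27843 IH) (Lpn (LP (LK LD1_c0 LD2_c56 LD3_c2))))))
theorem f27852 : Led Lsl_cf (LP (LK LD1_c0 LD2_c26 LD3_c55)) = (LP (LK LD1_c0 LD2_c56 LD3_c2)) :=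
  Lgr Lrot11 (Lpr_ct (f27844 IH) (Lpn (LP (LK LD1_c0 LD2_c56 LD3_c2))))
theorem f45813 : Led Lsl_ct (LP (LK LD1_c0 LD2_c35 LD3_c9)) = (LP (LK LD1_c1 LD2_c15 LD3_c40)) :=
  Lre_c IH (LK LD1_c0 LD2_c35 LD3_c9) (LK LD1_c1 LD2_c15 LD3_c40) Lrfl Lrfl
theorem f7660 : Led Lsl_bt (LP (LK LD1_c0 LD2_c15 LD3_c55)) = (LP (LK LD1_c0 LD2_c35 LD3_c9)) :=
  Lre_b IH (LK LD1_c0 LD2_c15 LD3_c55) (LK LD1_c0 LD2_c35 LD3_c9) Lrfl Lrfl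
theorem f8287 : Led Lsl_ft (LP (LK LD1_c0 LD2_c6 LD3_c0)) = (LP (LK LD1_c0 LD2_c13 LD3_c14)) :=
  Lre_f IH (LK LD1_c0 LD2_c6 LD3_c0) (LK LD1_c0 LD2_c13 LD3_c14) Lrfl Lrfl
theorem f8458 : Led Lsl_ct (LP (LK LD1_c0 LD2_c13 LD3_c14)) = (LP (LK LD1_c0 LD2_c15 LD3_c55)) :=
  Lgr Lrot40 (Lpe (f8287 IH) (Lpr_cf (K0.f8433 IH) (Lpe (K0.f7664 IH) (Lpn (LP (LK LD1_c0 LD2_c15 LD3_c55))))))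
theorem f45814 : Led Lsl_bt (LP (LK LD1_c0 LD2_c26 LD3_c55)) = (LP (LK LD1_c0 LD2_c13 LD3_c14)) :=
  Lgr Lrot128 (Lpr_cf (f27852 IH) (Lpr_bf (f45807 IH) (Lpe (f45813 IH) (Lpe (f7660 IH) (Lpe (f8458 IH) (Lpn (LP (LK LD1_c0 LD2_c13 LD3_c14))))))))
theorem f8289 : Led Lsl_ft (LP (LK LD1_c0 LD2_c13 LD3_c14)) = (LP (LK LD1_c0 LD2_c6 LD3_c0)) :=
  Lre_f IH (LK LD1_c0 LD2_c13 LD3_c14) (LK LD1_c0 LD2_c6 LD3_c0) Lrfl Lrfl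
theorem f8290 : Led Lsl_et (LP (LK LD1_c0 LD2_c13 LD3_c14)) = (LP (LK LD1_c0 LD2_c13 LD3_c14)) :=
  Lgr Lrot69 (Lpe (f8287 IH) (Lpe (K0.f8275 IH) (Lpr_ff (K0.f8278 IH) (Lpe (K0.f8288 IH) (Lpe (f8289 IH) (Lpn (LP (LK LD1_c0 LD2_c13 LD3_c14))))))))
theorem f45986 : Led Lsl_bf (LP (LK LD1_c0 LD2_c26 LD3_c55)) = (LP (LK LD1_c0 LD2_c13 LD3_c14)) :=
  Lgr Lrot24 (Lpr_bt (f45814 IH) (Lpn (LP (LK LD1_c0 LD2_c13 LD3_c14))))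
theorem f45990 : Led Lsl_ef (LP (LK LD1_c0 LD2_c26 LD3_c55)) = (LP (LK LD1_c0 LD2_c26 LD3_c55)) :=
  Lgr Lrot29 (Lpr_bt (f45814 IH) (Lpr_et (f8290 IH) (Lpe (f45986 IH) (Lpn (LP (LK LD1_c0 LD2_c26 LD3_c55))))))
theorem f45994 : Led Lsl_et (LP (LK LD1_c0 LD2_c56 LD3_c2)) = (LP (LK LD1_c0 LD2_c56 LD3_c2)) :=
  Lgr Lrot158 (Lpe (f27844 IH) (Lpr_ef (f45990 IH) (Lpr_cf (f27852 IH) (Lpn (LP (LK LD1_c0 LD2_c56 LD3_c2))))))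
theorem f27867 : Led Lsl_ft (LP (LK LD1_c0 LD2_c25 LD3_c26)) = (LP (LK LD1_c0 LD2_c56 LD3_c2)) :=
  Lre_f IH (LK LD1_c0 LD2_c25 LD3_c26) (LK LD1_c0 LD2_c56 LD3_c2) Lrfl Lrfl
theorem f27875 : Led Lsl_et (LP (LK LD1_c0 LD2_c25 LD3_c26)) = (LP (LK LD1_c0 LD2_c11 LD3_c19)) :=
  Lre_e IH (LK LD1_c0 LD2_c25 LD3_c26) (LK LD1_c0 LD2_c11 LD3_c19) Lrfl Lrfl
theorem f46000 : Led Lsl_ff (LP (LK LD1_c0 LD2_c11 LD3_c19)) = (LP (LK LD1_c0 LD2_c11 LD3_c19)) :=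
  Lgr Lrot72 (Lpr_et (f27831 IH) (Lpr_ft (f27867 IH) (Lpr_et (f45994 IH) (Lpr_ft (f27843 IH) (Lpr_et (f27875 IH) (Lpn (LP (LK LD1_c0 LD2_c11 LD3_c19))))))))
theorem f46006 : Led Lsl_at (LP (LK LD1_c0 LD2_c11 LD3_c19)) = (LP (LK LD1_c0 LD2_c11 LD3_c18)) :=
  Lgr Lrot26 (Lpr_ff (f46000 IH) (Lpr_gt (K0.f27798 IH) (Lpr_gt (K0.f748 IH) (Lpn (LP (LK LD1_c0 LD2_c11 LD3_c18))))))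
theorem f46008 : Led Lsl_af (LP (LK LD1_c0 LD2_c11 LD3_c19)) = (LP (LK LD1_c0 LD2_c11 LD3_c18)) :=
  Lgr Lrot0 (Lpr_at (f46006 IH) (Lpn (LP (LK LD1_c0 LD2_c11 LD3_c18))))
theorem f46016 : Led Lsl_ff (LP (LK LD1_c0 LD2_c11 LD3_c18)) = (LP (LK LD1_c0 LD2_c11 LD3_c18)) :=
  Lgr Lrot30 (Lpe (f46008 IH) (Lpe (f46000 IH) (Lpr_at (f46006 IH) (Lpn (LP (LK LD1_c0 LD2_c11 LD3_c18))))))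
theorem f44910 : Led Lsl_df (LP (LK LD1_c0 LD2_c15 LD3_c40)) = (LP (LK LD1_c0 LD2_c11 LD3_c18)) :=
  Lgr Lrot43 (Lpe (f44033 IH) (Lpr_dt (f27799 IH) (Lpe (f27828 IH) (Lpe (f28200 IH) (Lpr_ct (K0.f9592 IH) (Lpe (K0.f33567 IH) (Lpr_ct (K0.f27820 IH) (Lpr_dt (f27830 IH) (Lpr_ct (f44023 IH) (Lpr_dt (f44589 IH) (Lpr_ct (K0.f28178 IH) (Lpe (K0.f27276 IH) (Lpe (K0.f9590 IH) (Lpr_dt (K0.f33122 IH) (Lpe (K0.f28169 IH) (Lpn (LP (LK LD1_c0 LD2_c11 LD3_c18))))))))))))))))))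
theorem f46022 : Led Lsl_ft (LP (LK LD1_c0 LD2_c15 LD3_c40)) = (LP (LK LD1_c0 LD2_c15 LD3_c40)) :=
  Lgr Lrot54 (Lpr_df (f44910 IH) (Lpr_ff (f46016 IH) (Lpe (f44589 IH) (Lpn (LP (LK LD1_c0 LD2_c15 LD3_c40))))))
theorem f44912 : Led Lsl_et (LP (LK LD1_c0 LD2_c34 LD3_c55)) = (LP (LK LD1_c0 LD2_c15 LD3_c40)) :=
  Lre_e IH (LK LD1_c0 LD2_c34 LD3_c55) (LK LD1_c0 LD2_c15 LD3_c40) Lrfl Lrfl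
theorem f45897 : Led Lsl_ft (LP (LK LD1_c1 LD2_c15 LD3_c16)) = (LP (LK LD1_c0 LD2_c34 LD3_c55)) :=
  Lre_f IH (LK LD1_c1 LD2_c15 LD3_c16) (LK LD1_c0 LD2_c34 LD3_c55) Lrfl Lrfl
theorem f44918 : Led Lsl_et (LP (LK LD1_c0 LD2_c15 LD3_c40)) = (LP (LK LD1_c0 LD2_c34 LD3_c55)) :=
  Lre_e IH (LK LD1_c0 LD2_c15 LD3_c40) (LK LD1_c0 LD2_c34 LD3_c55) Lrfl Lrfl
theorem f45880 : Led Lsl_ft (LP (LK LD1_c0 LD2_c34 LD3_c55)) = (LP (LK LD1_c1 LD2_c15 LD3_c16)) :=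
  Lre_f IH (LK LD1_c0 LD2_c34 LD3_c55) (LK LD1_c1 LD2_c15 LD3_c16) Lrfl Lrfl
theorem f46054 : Led Lsl_ef (LP (LK LD1_c1 LD2_c15 LD3_c16)) = (LP (LK LD1_c1 LD2_c15 LD3_c16)) :=
  Lgr Lrot21 (Lpr_ft (f45897 IH) (Lpr_et (f44912 IH) (Lpr_ft (f46022 IH) (Lpr_et (f44918 IH) (Lpr_ft (f45880 IH) (Lpn (LP (LK LD1_c1 LD2_c15 LD3_c16))))))))
theorem f27857 : Led Lsl_dt (LP (LK LD1_c0 LD2_c56 LD3_c2)) = (LP (LK LD1_c1 LD2_c58 LD3_c22)) :=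
  Lre_d IH (LK LD1_c0 LD2_c56 LD3_c2) (LK LD1_c1 LD2_c58 LD3_c22) Lrfl Lrfl
theorem f45816 : Led Lsl_dt (LP (LK LD1_c2 LD2_c37 LD3_c18)) = (LP (LK LD1_c1 LD2_c15 LD3_c40)) :=
  Lre_d IH (LK LD1_c2 LD2_c37 LD3_c18) (LK LD1_c1 LD2_c15 LD3_c40) Lrfl Lrfl
theorem f45817 : Led Lsl_bt (LP (LK LD1_c1 LD2_c58 LD3_c22)) = (LP (LK LD1_c2 LD2_c37 LD3_c18)) :=
  Lgr Lrot95 (Lpe (f27857 IH) (Lpr_bf (f45807 IH) (Lpe (f45816 IH) (Lpn (LP (LK LD1_c2 LD2_c37 LD3_c18))))))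
theorem f45824 : Led Lsl_et (LP (LK LD1_c4 LD2_c2 LD3_c42)) = (LP (LK LD1_c1 LD2_c58 LD3_c22)) :=
  Lre_e IH (LK LD1_c4 LD2_c2 LD3_c42) (LK LD1_c1 LD2_c58 LD3_c22) Lrfl Lrfl
theorem f43938 : Led Lsl_et (LP (LK LD1_c2 LD2_c37 LD3_c18)) = (LP (LK LD1_c5 LD2_c21 LD3_c25)) :=
  Lre_e IH (LK LD1_c2 LD2_c37 LD3_c18) (LK LD1_c5 LD2_c21 LD3_c25) Lrfl Lrfl
theorem f45825 : Led Lsl_bf (LP (LK LD1_c4 LD2_c2 LD3_c42)) = (LP (LK LD1_c5 LD2_c21 LD3_c25)) :=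
  Lgr Lrot96 (Lpr_et (f45824 IH) (Lpr_bt (f45817 IH) (Lpr_et (f43938 IH) (Lpn (LP (LK LD1_c5 LD2_c21 LD3_c25))))))
theorem f45830 : Led Lsl_ft (LP (LK LD1_c4 LD2_c2 LD3_c42)) = (LP (LK LD1_c8 LD2_c5 LD3_c47)) :=
  Lre_f IH (LK LD1_c4 LD2_c2 LD3_c42) (LK LD1_c8 LD2_c5 LD3_c47) Lrfl Lrfl
theorem f43922 : Led Lsl_dt (LP (LK LD1_c1 LD2_c15 LD3_c39)) = (LP (LK LD1_c0 LD2_c35 LD3_c5)) :=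
  Lre_d IH (LK LD1_c1 LD2_c15 LD3_c39) (LK LD1_c0 LD2_c35 LD3_c5) Lrfl Lrfl
theorem f43923 : Led Lsl_et (LP (LK LD1_c0 LD2_c15 LD3_c38)) = (LP (LK LD1_c0 LD2_c34 LD3_c51)) :=
  Lre_e IH (LK LD1_c0 LD2_c15 LD3_c38) (LK LD1_c0 LD2_c34 LD3_c51) Lrfl Lrfl
theorem f43924 : Led Lsl_dt (LP (LK LD1_c0 LD2_c34 LD3_c51)) = (LP (LK LD1_c1 LD2_c15 LD3_c8)) :=
  Lre_d IH (LK LD1_c0 LD2_c34 LD3_c51) (LK LD1_c1 LD2_c15 LD3_c8) Lrfl Lrfl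
theorem f43925 : Led Lsl_ef (LP (LK LD1_c1 LD2_c15 LD3_c39)) = (LP (LK LD1_c1 LD2_c15 LD3_c8)) :=
  Lgr Lrot73 (Lpr_dt (f43922 IH) (Lpr_et (f43921 IH) (Lpr_dt (f43915 IH) (Lpr_et (f43923 IH) (Lpr_dt (f43924 IH) (Lpn (LP (LK LD1_c1 LD2_c15 LD3_c8))))))))
theorem f43937 : Led Lsl_ft (LP (LK LD1_c1 LD2_c15 LD3_c39)) = (LP (LK LD1_c2 LD2_c37 LD3_c18)) :=
  Lre_f IH (LK LD1_c1 LD2_c15 LD3_c39) (LK LD1_c2 LD2_c37 LD3_c18) Lrfl Lrfl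
theorem f43939 : Led Lsl_ft (LP (LK LD1_c2 LD2_c36 LD3_c18)) = (LP (LK LD1_c1 LD2_c15 LD3_c8)) :=
  Lre_f IH (LK LD1_c2 LD2_c36 LD3_c18) (LK LD1_c1 LD2_c15 LD3_c8) Lrfl Lrfl
theorem f43940 : Led Lsl_et (LP (LK LD1_c5 LD2_c19 LD3_c14)) = (LP (LK LD1_c2 LD2_c36 LD3_c18)) :=
  Lre_e IH (LK LD1_c5 LD2_c19 LD3_c14) (LK LD1_c2 LD2_c36 LD3_c18) Lrfl Lrfl
theorem f43941 : Led Lsl_ft (LP (LK LD1_c5 LD2_c21 LD3_c25)) = (LP (LK LD1_c5 LD2_c19 LD3_c14)) :=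
  Lgr Lrot86 (Lpe (f43938 IH) (Lpe (f43937 IH) (Lpr_ef (f43925 IH) (Lpe (f43939 IH) (Lpe (f43940 IH) (Lpn (LP (LK LD1_c5 LD2_c19 LD3_c14))))))))
theorem f43949 : Led Lsl_ff (LP (LK LD1_c5 LD2_c21 LD3_c25)) = (LP (LK LD1_c5 LD2_c19 LD3_c14)) :=
  Lgr Lrot3 (Lpr_ft (f43941 IH) (Lpn (LP (LK LD1_c5 LD2_c19 LD3_c14))))
theorem f45831 : Led Lsl_bt (LP (LK LD1_c8 LD2_c5 LD3_c47)) = (LP (LK LD1_c5 LD2_c19 LD3_c14)) :=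
  Lgr Lrot35 (Lpe (f45830 IH) (Lpr_bf (f45825 IH) (Lpr_ff (f43949 IH) (Lpn (LP (LK LD1_c5 LD2_c19 LD3_c14))))))
theorem f45840 : Led Lsl_et (LP (LK LD1_c4 LD2_c2 LD3_c36)) = (LP (LK LD1_c8 LD2_c5 LD3_c47)) :=
  Lre_e IH (LK LD1_c4 LD2_c2 LD3_c36) (LK LD1_c8 LD2_c5 LD3_c47) Lrfl Lrfl
theorem f45841 : Led Lsl_bf (LP (LK LD1_c4 LD2_c2 LD3_c36)) = (LP (LK LD1_c2 LD2_c36 LD3_c18)) :=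
  Lgr Lrot96 (Lpr_et (f45840 IH) (Lpr_bt (f45831 IH) (Lpr_et (f43940 IH) (Lpn (LP (LK LD1_c2 LD2_c36 LD3_c18))))))
theorem f45853 : Led Lsl_ft (LP (LK LD1_c4 LD2_c2 LD3_c36)) = (LP (LK LD1_c1 LD2_c58 LD3_c17)) :=
  Lre_f IH (LK LD1_c4 LD2_c2 LD3_c36) (LK LD1_c1 LD2_c58 LD3_c17) Lrfl Lrfl
theorem f43953 : Led Lsl_ft (LP (LK LD1_c1 LD2_c15 LD3_c8)) = (LP (LK LD1_c2 LD2_c36 LD3_c18)) :=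
  Lre_f IH (LK LD1_c1 LD2_c15 LD3_c8) (LK LD1_c2 LD2_c36 LD3_c18) Lrfl Lrfl
theorem f45854 : Led Lsl_bt (LP (LK LD1_c1 LD2_c58 LD3_c17)) = (LP (LK LD1_c1 LD2_c15 LD3_c8)) :=
  Lgr Lrot35 (Lpe (f45853 IH) (Lpr_bf (f45841 IH) (Lpe (f43953 IH) (Lpn (LP (LK LD1_c1 LD2_c15 LD3_c8))))))
theorem f44040 : Led Lsl_dt (LP (LK LD1_c0 LD2_c56 LD3_c0)) = (LP (LK LD1_c1 LD2_c58 LD3_c17)) :=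
  Lre_d IH (LK LD1_c0 LD2_c56 LD3_c0) (LK LD1_c1 LD2_c58 LD3_c17) Lrfl Lrfl
theorem f43944 : Led Lsl_dt (LP (LK LD1_c1 LD2_c15 LD3_c8)) = (LP (LK LD1_c0 LD2_c34 LD3_c51)) :=
  Lre_d IH (LK LD1_c1 LD2_c15 LD3_c8) (LK LD1_c0 LD2_c34 LD3_c51) Lrfl Lrfl
theorem f45862 : Led Lsl_bf (LP (LK LD1_c0 LD2_c56 LD3_c0)) = (LP (LK LD1_c0 LD2_c34 LD3_c51)) :=
  Lgr Lrot93 (Lpr_dt (f44040 IH) (Lpr_bt (f45854 IH) (Lpr_dt (f43944 IH) (Lpn (LP (LK LD1_c0 LD2_c34 LD3_c51))))))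
theorem f28249 : Led Lsl_ct (LP (LK LD1_c0 LD2_c15 LD3_c39)) = (LP (LK LD1_c0 LD2_c34 LD3_c51)) :=
  Lre_c IH (LK LD1_c0 LD2_c15 LD3_c39) (LK LD1_c0 LD2_c34 LD3_c51) Lrfl Lrfl
theorem f28248 : Led Lsl_bt (LP (LK LD1_c0 LD2_c34 LD3_c50)) = (LP (LK LD1_c0 LD2_c15 LD3_c39)) :=
  Lre_b IH (LK LD1_c0 LD2_c34 LD3_c50) (LK LD1_c0 LD2_c15 LD3_c39) Lrfl Lrfl
theorem f28243 : Led Lsl_et (LP (LK LD1_c0 LD2_c34 LD3_c50)) = (LP (LK LD1_c0 LD2_c15 LD3_c37)) :=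
  Lre_e IH (LK LD1_c0 LD2_c34 LD3_c50) (LK LD1_c0 LD2_c15 LD3_c37) Lrfl Lrfl
theorem f28244 : Led Lsl_et (LP (LK LD1_c0 LD2_c7 LD3_c5)) = (LP (LK LD1_c0 LD2_c15 LD3_c41)) :=
  Lre_e IH (LK LD1_c0 LD2_c7 LD3_c5) (LK LD1_c0 LD2_c15 LD3_c41) Lrfl Lrfl
theorem f28245 : Led Lsl_cf (LP (LK LD1_c0 LD2_c34 LD3_c50)) = (LP (LK LD1_c0 LD2_c15 LD3_c41)) :=
  Lgr Lrot39 (Lpr_et (f28243 IH) (Lpr_ct (f28235 IH) (Lpr_et (f28244 IH) (Lpn (LP (LK LD1_c0 LD2_c15 LD3_c41))))))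
theorem f28250 : Led Lsl_bt (LP (LK LD1_c0 LD2_c34 LD3_c55)) = (LP (LK LD1_c0 LD2_c15 LD3_c41)) :=
  Lre_b IH (LK LD1_c0 LD2_c34 LD3_c55) (LK LD1_c0 LD2_c15 LD3_c41) Lrfl Lrfl
theorem f45867 : Led Lsl_ct (LP (LK LD1_c0 LD2_c56 LD3_c0)) = (LP (LK LD1_c0 LD2_c34 LD3_c55)) :=
  Lgr Lrot83 (Lpr_bf (f45862 IH) (Lpe (f28249 IH) (Lpe (f28248 IH) (Lpr_cf (f28245 IH) (Lpe (f28250 IH) (Lpn (LP (LK LD1_c0 LD2_c34 LD3_c55))))))))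
theorem f45879 : Led Lsl_ft (LP (LK LD1_c1 LD2_c58 LD3_c18)) = (LP (LK LD1_c0 LD2_c56 LD3_c0)) :=
  Lre_f IH (LK LD1_c1 LD2_c58 LD3_c18) (LK LD1_c0 LD2_c56 LD3_c0) Lrfl Lrfl
theorem f45881 : Led Lsl_cf (LP (LK LD1_c1 LD2_c58 LD3_c18)) = (LP (LK LD1_c1 LD2_c15 LD3_c16)) :=
  Lgr Lrot108 (Lpr_ft (f45879 IH) (Lpr_ct (f45867 IH) (Lpr_ft (f45880 IH) (Lpn (LP (LK LD1_c1 LD2_c15 LD3_c16))))))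
theorem f45888 : Led Lsl_ct (LP (LK LD1_c1 LD2_c58 LD3_c18)) = (LP (LK LD1_c1 LD2_c15 LD3_c16)) :=
  Lgr Lrot59 (Lpr_cf (f45881 IH) (Lpn (LP (LK LD1_c1 LD2_c15 LD3_c16))))
theorem f46058 : Led Lsl_et (LP (LK LD1_c1 LD2_c58 LD3_c18)) = (LP (LK LD1_c1 LD2_c58 LD3_c18)) :=
  Lgr Lrot158 (Lpr_cf (f45881 IH) (Lpr_ef (f46054 IH) (Lpe (f45888 IH) (Lpn (LP (LK LD1_c1 LD2_c58 LD3_c18))))))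
theorem f28294 : Led Lsl_bt (LP (LK LD1_c1 LD2_c15 LD3_c16)) = (LP (LK LD1_c0 LD2_c34 LD3_c58)) :=
  Lre_b IH (LK LD1_c1 LD2_c15 LD3_c16) (LK LD1_c0 LD2_c34 LD3_c58) Lrfl Lrfl
theorem f28259 : Led Lsl_ft (LP (LK LD1_c0 LD2_c34 LD3_c50)) = (LP (LK LD1_c1 LD2_c15 LD3_c6)) :=
  Lre_f IH (LK LD1_c0 LD2_c34 LD3_c50) (LK LD1_c1 LD2_c15 LD3_c6) Lrfl Lrfl
theorem f28260 : Led Lsl_ft (LP (LK LD1_c0 LD2_c34 LD3_c58)) = (LP (LK LD1_c0 LD2_c15 LD3_c41)) :=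
  Lre_f IH (LK LD1_c0 LD2_c34 LD3_c58) (LK LD1_c0 LD2_c15 LD3_c41) Lrfl Lrfl
theorem f28261 : Led Lsl_ct (LP (LK LD1_c1 LD2_c15 LD3_c6)) = (LP (LK LD1_c0 LD2_c34 LD3_c58)) :=
  Lgr Lrot40 (Lpe (f28259 IH) (Lpr_cf (f28245 IH) (Lpe (f28260 IH) (Lpn (LP (LK LD1_c0 LD2_c34 LD3_c58))))))
theorem f28284 : Led Lsl_cf (LP (LK LD1_c1 LD2_c15 LD3_c6)) = (LP (LK LD1_c0 LD2_c34 LD3_c58)) :=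
  Lgr Lrot11 (Lpr_ct (f28261 IH) (Lpn (LP (LK LD1_c0 LD2_c34 LD3_c58))))
theorem f28292 : Led Lsl_bt (LP (LK LD1_c1 LD2_c15 LD3_c6)) = (LP (LK LD1_c0 LD2_c34 LD3_c54)) :=
  Lre_b IH (LK LD1_c1 LD2_c15 LD3_c6) (LK LD1_c0 LD2_c34 LD3_c54) Lrfl Lrfl
theorem f28293 : Led Lsl_ct (LP (LK LD1_c0 LD2_c34 LD3_c54)) = (LP (LK LD1_c1 LD2_c15 LD3_c9)) :=
  Lre_c IH (LK LD1_c0 LD2_c34 LD3_c54) (LK LD1_c1 LD2_c15 LD3_c9) Lrfl Lrfl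
theorem f45894 : Led Lsl_bf (LP (LK LD1_c1 LD2_c58 LD3_c18)) = (LP (LK LD1_c1 LD2_c15 LD3_c9)) :=
  Lgr Lrot90 (Lpr_ct (f45888 IH) (Lpr_bt (f28294 IH) (Lpe (f28284 IH) (Lpr_bt (f28292 IH) (Lpr_ct (f28293 IH) (Lpn (LP (LK LD1_c1 LD2_c15 LD3_c9))))))))
theorem f45849 : Led Lsl_dt (LP (LK LD1_c4 LD2_c2 LD3_c36)) = (LP (LK LD1_c1 LD2_c58 LD3_c18)) :=
  Lre_d IH (LK LD1_c4 LD2_c2 LD3_c36) (LK LD1_c1 LD2_c58 LD3_c18) Lrfl Lrfl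
theorem f45850 : Led Lsl_dt (LP (LK LD1_c1 LD2_c15 LD3_c9)) = (LP (LK LD1_c2 LD2_c36 LD3_c18)) :=
  Lre_d IH (LK LD1_c1 LD2_c15 LD3_c9) (LK LD1_c2 LD2_c36 LD3_c18) Lrfl Lrfl
theorem f45851 : Led Lsl_bt (LP (LK LD1_c1 LD2_c58 LD3_c18)) = (LP (LK LD1_c1 LD2_c15 LD3_c9)) :=
  Lgr Lrot95 (Lpe (f45849 IH) (Lpr_bf (f45841 IH) (Lpe (f45850 IH) (Lpn (LP (LK LD1_c1 LD2_c15 LD3_c9))))))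
theorem f46084 : Led Lsl_ef (LP (LK LD1_c1 LD2_c15 LD3_c9)) = (LP (LK LD1_c1 LD2_c15 LD3_c9)) :=
  Lgr Lrot29 (Lpe (f45894 IH) (Lpr_et (f46058 IH) (Lpr_bt (f45851 IH) (Lpn (LP (LK LD1_c1 LD2_c15 LD3_c9))))))
theorem f45870 : Led Lsl_ft (LP (LK LD1_c1 LD2_c15 LD3_c9)) = (LP (LK LD1_c0 LD2_c34 LD3_c51)) :=
  Lre_f IH (LK LD1_c1 LD2_c15 LD3_c9) (LK LD1_c0 LD2_c34 LD3_c51) Lrfl Lrfl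
theorem f43961 : Led Lsl_et (LP (LK LD1_c0 LD2_c34 LD3_c51)) = (LP (LK LD1_c0 LD2_c15 LD3_c38)) :=
  Lre_e IH (LK LD1_c0 LD2_c34 LD3_c51) (LK LD1_c0 LD2_c15 LD3_c38) Lrfl Lrfl
theorem f45899 : Led Lsl_ft (LP (LK LD1_c0 LD2_c34 LD3_c51)) = (LP (LK LD1_c1 LD2_c15 LD3_c9)) :=
  Lre_f IH (LK LD1_c0 LD2_c34 LD3_c51) (LK LD1_c1 LD2_c15 LD3_c9) Lrfl Lrfl
theorem f46095 : Led Lsl_ft (LP (LK LD1_c0 LD2_c15 LD3_c38)) = (LP (LK LD1_c0 LD2_c15 LD3_c38)) :=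
  Lgr Lrot86 (Lpe (f43961 IH) (Lpe (f45870 IH) (Lpr_ef (f46084 IH) (Lpe (f45899 IH) (Lpe (f43923 IH) (Lpn (LP (LK LD1_c0 LD2_c15 LD3_c38))))))))
theorem f44304 : Led Lsl_gf (LP (LK LD1_c0 LD2_c25 LD3_c9)) = (LP (LK LD1_c0 LD2_c15 LD3_c38)) :=
  Lgr Lrot144 (Lpr_dt (f30841 IH) (Lpr_gt (f41850 IH) (Lpe (f41852 IH) (Lpe (K0.f29043 IH) (Lpr_df (f29061 IH) (Lpe (f41532 IH) (Lpe (f41531 IH) (Lpr_gf (f44299 IH) (Lpe (f3099 IH) (Lpn (LP (LK LD1_c0 LD2_c15 LD3_c38))))))))))))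
theorem f46099 : Led Lsl_af (LP (LK LD1_c0 LD2_c15 LD3_c37)) = (LP (LK LD1_c0 LD2_c15 LD3_c38)) :=
  Lgr Lrot31 (Lpr_gf (f33114 IH) (Lpr_gf (f44304 IH) (Lpr_ft (f46095 IH) (Lpn (LP (LK LD1_c0 LD2_c15 LD3_c38))))))
theorem f46101 : Led Lsl_at (LP (LK LD1_c0 LD2_c15 LD3_c37)) = (LP (LK LD1_c0 LD2_c15 LD3_c38)) :=
  Lgr Lrot100 (Lpr_af (f46099 IH) (Lpn (LP (LK LD1_c0 LD2_c15 LD3_c38))))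
theorem f46111 : Led Lsl_ft (LP (LK LD1_c0 LD2_c15 LD3_c37)) = (LP (LK LD1_c0 LD2_c15 LD3_c37)) :=
  Lgr Lrot101 (Lpr_af (f46099 IH) (Lpe (f46095 IH) (Lpe (f46101 IH) (Lpn (LP (LK LD1_c0 LD2_c15 LD3_c37))))))
theorem f28296 : Led Lsl_ft (LP (LK LD1_c1 LD2_c15 LD3_c6)) = (LP (LK LD1_c0 LD2_c34 LD3_c50)) :=
  Lre_f IH (LK LD1_c1 LD2_c15 LD3_c6) (LK LD1_c0 LD2_c34 LD3_c50) Lrfl Lrfl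
theorem f46113 : Led Lsl_ef (LP (LK LD1_c1 LD2_c15 LD3_c6)) = (LP (LK LD1_c1 LD2_c15 LD3_c6)) :=
  Lgr Lrot21 (Lpr_ft (f28296 IH) (Lpr_et (f28243 IH) (Lpr_ft (f46111 IH) (Lpr_et (f28305 IH) (Lpr_ft (f28259 IH) (Lpn (LP (LK LD1_c1 LD2_c15 LD3_c6))))))))
theorem f28295 : Led Lsl_dt (LP (LK LD1_c1 LD2_c15 LD3_c6)) = (LP (LK LD1_c2 LD2_c36 LD3_c13)) :=
  Lre_d IH (LK LD1_c1 LD2_c15 LD3_c6) (LK LD1_c2 LD2_c36 LD3_c13) Lrfl Lrfl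
theorem f44260 : Led Lsl_et (LP (LK LD1_c2 LD2_c36 LD3_c13)) = (LP (LK LD1_c5 LD2_c19 LD3_c7)) :=
  Lre_e IH (LK LD1_c2 LD2_c36 LD3_c13) (LK LD1_c5 LD2_c19 LD3_c7) Lrfl Lrfl
theorem f28286 : Led Lsl_dt (LP (LK LD1_c2 LD2_c36 LD3_c13)) = (LP (LK LD1_c1 LD2_c15 LD3_c6)) :=
  Lre_d IH (LK LD1_c2 LD2_c36 LD3_c13) (LK LD1_c1 LD2_c15 LD3_c6) Lrfl Lrfl
theorem f44233 : Led Lsl_et (LP (LK LD1_c5 LD2_c19 LD3_c7)) = (LP (LK LD1_c2 LD2_c36 LD3_c13)) :=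
  Lre_e IH (LK LD1_c5 LD2_c19 LD3_c7) (LK LD1_c2 LD2_c36 LD3_c13) Lrfl Lrfl
theorem f46115 : Led Lsl_dt (LP (LK LD1_c5 LD2_c19 LD3_c7)) = (LP (LK LD1_c5 LD2_c19 LD3_c7)) :=
  Lgr Lrot77 (Lpe (f44260 IH) (Lpe (f28295 IH) (Lpr_ef (f46113 IH) (Lpe (f28286 IH) (Lpe (f44233 IH) (Lpn (LP (LK LD1_c5 LD2_c19 LD3_c7))))))))
theorem f44090 : Led Lsl_bt (LP (LK LD1_c5 LD2_c19 LD3_c7)) = (LP (LK LD1_c2 LD2_c36 LD3_c29)) :=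
  Lre_b IH (LK LD1_c5 LD2_c19 LD3_c7) (LK LD1_c2 LD2_c36 LD3_c29) Lrfl Lrfl
theorem f44091 : Led Lsl_bt (LP (LK LD1_c4 LD2_c27 LD3_c21)) = (LP (LK LD1_c8 LD2_c52 LD3_c4)) :=
  Lre_b IH (LK LD1_c4 LD2_c27 LD3_c21) (LK LD1_c8 LD2_c52 LD3_c4) Lrfl Lrfl
theorem f44092 : Led Lsl_ff (LP (LK LD1_c5 LD2_c19 LD3_c7)) = (LP (LK LD1_c8 LD2_c52 LD3_c4)) :=
  Lgr Lrot25 (Lpr_bt (f44090 IH) (Lpr_ft (f44088 IH) (Lpr_bt (f44091 IH) (Lpn (LP (LK LD1_c8 LD2_c52 LD3_c4))))))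
theorem f44080 : Led Lsl_bt (LP (LK LD1_c2 LD2_c36 LD3_c29)) = (LP (LK LD1_c5 LD2_c19 LD3_c7)) :=
  Lre_b IH (LK LD1_c2 LD2_c36 LD3_c29) (LK LD1_c5 LD2_c19 LD3_c7) Lrfl Lrfl
theorem f44081 : Led Lsl_bt (LP (LK LD1_c8 LD2_c52 LD3_c4)) = (LP (LK LD1_c4 LD2_c27 LD3_c21)) :=
  Lre_b IH (LK LD1_c8 LD2_c52 LD3_c4) (LK LD1_c4 LD2_c27 LD3_c21) Lrfl Lrfl
theorem f44082 : Led Lsl_ft (LP (LK LD1_c5 LD2_c19 LD3_c7)) = (LP (LK LD1_c8 LD2_c52 LD3_c4)) :=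
  Lgr Lrot75 (Lpe (f44080 IH) (Lpr_ff (f44072 IH) (Lpe (f44081 IH) (Lpn (LP (LK LD1_c8 LD2_c52 LD3_c4))))))
theorem f46119 : Led Lsl_df (LP (LK LD1_c8 LD2_c52 LD3_c4)) = (LP (LK LD1_c8 LD2_c52 LD3_c4)) :=
  Lgr Lrot78 (Lpe (f44092 IH) (Lpr_dt (f46115 IH) (Lpr_ft (f44082 IH) (Lpn (LP (LK LD1_c8 LD2_c52 LD3_c4))))))
theorem f44262 : Led Lsl_et (LP (LK LD1_c8 LD2_c52 LD3_c4)) = (LP (LK LD1_c4 LD2_c27 LD3_c11)) :=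
  Lre_e IH (LK LD1_c8 LD2_c52 LD3_c4) (LK LD1_c4 LD2_c27 LD3_c11) Lrfl Lrfl
theorem f46125 : Led Lsl_dt (LP (LK LD1_c4 LD2_c27 LD3_c11)) = (LP (LK LD1_c2 LD2_c10 LD3_c47)) :=
  Lre_d IH (LK LD1_c4 LD2_c27 LD3_c11) (LK LD1_c2 LD2_c10 LD3_c47) Lrfl Lrfl
theorem f44234 : Led Lsl_et (LP (LK LD1_c4 LD2_c27 LD3_c11)) = (LP (LK LD1_c8 LD2_c52 LD3_c4)) :=
  Lre_e IH (LK LD1_c4 LD2_c27 LD3_c11) (LK LD1_c8 LD2_c52 LD3_c4) Lrfl Lrfl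
theorem f46126 : Led Lsl_dt (LP (LK LD1_c2 LD2_c10 LD3_c47)) = (LP (LK LD1_c4 LD2_c27 LD3_c11)) :=
  Lre_d IH (LK LD1_c2 LD2_c10 LD3_c47) (LK LD1_c4 LD2_c27 LD3_c11) Lrfl Lrfl
theorem f46127 : Led Lsl_et (LP (LK LD1_c2 LD2_c10 LD3_c47)) = (LP (LK LD1_c2 LD2_c10 LD3_c47)) :=
  Lgr Lrot71 (Lpe (f46125 IH) (Lpe (f44262 IH) (Lpr_df (f46119 IH) (Lpe (f44234 IH) (Lpe (f46126 IH) (Lpn (LP (LK LD1_c2 LD2_c10 LD3_c47))))))))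
theorem f46129 : Led Lsl_bt (LP (LK LD1_c1 LD2_c2 LD3_c26)) = (LP (LK LD1_c2 LD2_c10 LD3_c47)) :=
  Lre_b IH (LK LD1_c1 LD2_c2 LD3_c26) (LK LD1_c2 LD2_c10 LD3_c47) Lrfl Lrfl
theorem f46130 : Led Lsl_bt (LP (LK LD1_c2 LD2_c10 LD3_c47)) = (LP (LK LD1_c1 LD2_c2 LD3_c26)) :=
  Lre_b IH (LK LD1_c2 LD2_c10 LD3_c47) (LK LD1_c1 LD2_c2 LD3_c26) Lrfl Lrfl
theorem f46131 : Led Lsl_ef (LP (LK LD1_c1 LD2_c2 LD3_c26)) = (LP (LK LD1_c1 LD2_c2 LD3_c26)) :=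
  Lgr Lrot29 (Lpr_bt (f46129 IH) (Lpr_et (f46127 IH) (Lpr_bt (f46130 IH) (Lpn (LP (LK LD1_c1 LD2_c2 LD3_c26))))))
theorem f46137 : Led Lsl_ft (LP (LK LD1_c1 LD2_c2 LD3_c26)) = (LP (LK LD1_c0 LD2_c28 LD3_c28)) :=
  Lre_f IH (LK LD1_c1 LD2_c2 LD3_c26) (LK LD1_c0 LD2_c28 LD3_c28) Lrfl Lrfl
theorem f46138 : Led Lsl_ft (LP (LK LD1_c0 LD2_c28 LD3_c28)) = (LP (LK LD1_c1 LD2_c2 LD3_c26)) :=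
  Lre_f IH (LK LD1_c0 LD2_c28 LD3_c28) (LK LD1_c1 LD2_c2 LD3_c26) Lrfl Lrfl
theorem f44053 : Led Lsl_et (LP (LK LD1_c0 LD2_c12 LD3_c34)) = (LP (LK LD1_c0 LD2_c28 LD3_c28)) :=
  Lre_e IH (LK LD1_c0 LD2_c12 LD3_c34) (LK LD1_c0 LD2_c28 LD3_c28) Lrfl Lrfl
theorem f46139 : Led Lsl_ft (LP (LK LD1_c0 LD2_c12 LD3_c34)) = (LP (LK LD1_c0 LD2_c12 LD3_c34)) :=
  Lgr Lrot86 (Lpe (f44048 IH) (Lpe (f46137 IH) (Lpr_ef (f46131 IH) (Lpe (f46138 IH) (Lpe (f44053 IH) (Lpn (LP (LK LD1_c0 LD2_c12 LD3_c34))))))))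
theorem f46141 : Led Lsl_af (LP (LK LD1_c0 LD2_c12 LD3_c35)) = (LP (LK LD1_c0 LD2_c12 LD3_c34)) :=
  Lgr Lrot31 (Lpe (f41832 IH) (Lpr_gf (f44287 IH) (Lpr_ft (f46139 IH) (Lpn (LP (LK LD1_c0 LD2_c12 LD3_c34))))))
theorem f41863 : Led Lsl_et (LP (LK LD1_c0 LD2_c12 LD3_c35)) = (LP (LK LD1_c0 LD2_c28 LD3_c29)) :=
  Lre_e IH (LK LD1_c0 LD2_c12 LD3_c35) (LK LD1_c0 LD2_c28 LD3_c29) Lrfl Lrfl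
theorem f46148 : Led Lsl_at (LP (LK LD1_c0 LD2_c28 LD3_c29)) = (LP (LK LD1_c0 LD2_c28 LD3_c28)) :=
  Lgr Lrot80 (Lpe (f41863 IH) (Lpr_af (f46141 IH) (Lpe (f44048 IH) (Lpn (LP (LK LD1_c0 LD2_c28 LD3_c28))))))
theorem f46082 : Led Lsl_ft (LP (LK LD1_c1 LD2_c2 LD3_c29)) = (LP (LK LD1_c0 LD2_c28 LD3_c29)) :=
  Lre_f IH (LK LD1_c1 LD2_c2 LD3_c29) (LK LD1_c0 LD2_c28 LD3_c29) Lrfl Lrfl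
theorem f46155 : Led Lsl_af (LP (LK LD1_c1 LD2_c2 LD3_c29)) = (LP (LK LD1_c1 LD2_c2 LD3_c26)) :=
  Lgr Lrot45 (Lpr_ft (f46082 IH) (Lpr_at (f46148 IH) (Lpr_ft (f46138 IH) (Lpn (LP (LK LD1_c1 LD2_c2 LD3_c26))))))
theorem f46078 : Led Lsl_dt (LP (LK LD1_c1 LD2_c2 LD3_c29)) = (LP (LK LD1_c2 LD2_c10 LD3_c57)) :=
  Lre_d IH (LK LD1_c1 LD2_c2 LD3_c29) (LK LD1_c2 LD2_c10 LD3_c57) Lrfl Lrfl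
theorem f46136 : Led Lsl_dt (LP (LK LD1_c2 LD2_c10 LD3_c52)) = (LP (LK LD1_c1 LD2_c2 LD3_c26)) :=
  Lre_d IH (LK LD1_c2 LD2_c10 LD3_c52) (LK LD1_c1 LD2_c2 LD3_c26) Lrfl Lrfl
theorem f46161 : Led Lsl_at (LP (LK LD1_c2 LD2_c10 LD3_c57)) = (LP (LK LD1_c2 LD2_c10 LD3_c52)) :=
  Lgr Lrot51 (Lpe (f46078 IH) (Lpr_af (f46155 IH) (Lpe (f46136 IH) (Lpn (LP (LK LD1_c2 LD2_c10 LD3_c52))))))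
theorem f44752 : Led Lsl_ft (LP (LK LD1_c1 LD2_c2 LD3_c28)) = (LP (LK LD1_c2 LD2_c10 LD3_c57)) :=
  Lre_f IH (LK LD1_c1 LD2_c2 LD3_c28) (LK LD1_c2 LD2_c10 LD3_c57) Lrfl Lrfl
theorem f44591 : Led Lsl_dt (LP (LK LD1_c1 LD2_c2 LD3_c28)) = (LP (LK LD1_c0 LD2_c28 LD3_c29)) :=
  Lre_d IH (LK LD1_c1 LD2_c2 LD3_c28) (LK LD1_c0 LD2_c28 LD3_c29) Lrfl Lrfl
theorem f41862 : Led Lsl_et (LP (LK LD1_c0 LD2_c25 LD3_c46)) = (LP (LK LD1_c0 LD2_c11 LD3_c27)) :=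
  Lre_e IH (LK LD1_c0 LD2_c25 LD3_c46) (LK LD1_c0 LD2_c11 LD3_c27) Lrfl Lrfl
theorem f41864 : Led Lsl_cf (LP (LK LD1_c0 LD2_c25 LD3_c46)) = (LP (LK LD1_c0 LD2_c28 LD3_c29)) :=
  Lgr Lrot39 (Lpr_et (f41862 IH) (Lpr_ct (f41854 IH) (Lpr_et (f41863 IH) (Lpn (LP (LK LD1_c0 LD2_c28 LD3_c29))))))
theorem f46176 : Led Lsl_dt (LP (LK LD1_c0 LD2_c25 LD3_c46)) = (LP (LK LD1_c0 LD2_c56 LD3_c50)) :=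
  Lre_d IH (LK LD1_c0 LD2_c25 LD3_c46) (LK LD1_c0 LD2_c56 LD3_c50) Lrfl Lrfl
theorem f46177 : Led Lsl_ct (LP (LK LD1_c0 LD2_c56 LD3_c50)) = (LP (LK LD1_c1 LD2_c59 LD3_c53)) :=
  Lre_c IH (LK LD1_c0 LD2_c56 LD3_c50) (LK LD1_c1 LD2_c59 LD3_c53) Lrfl Lrfl
theorem f46178 : Led Lsl_dt (LP (LK LD1_c1 LD2_c59 LD3_c53)) = (LP (LK LD1_c4 LD2_c5 LD3_c25)) :=
  Lre_d IH (LK LD1_c1 LD2_c59 LD3_c53) (LK LD1_c4 LD2_c5 LD3_c25) Lrfl Lrfl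
theorem f46179 : Led Lsl_ct (LP (LK LD1_c4 LD2_c5 LD3_c25)) = (LP (LK LD1_c8 LD2_c11 LD3_c47)) :=
  Lre_c IH (LK LD1_c4 LD2_c5 LD3_c25) (LK LD1_c8 LD2_c11 LD3_c47) Lrfl Lrfl
theorem f46180 : Led Lsl_ct (LP (LK LD1_c4 LD2_c27 LD3_c20)) = (LP (LK LD1_c2 LD2_c10 LD3_c52)) :=
  Lre_c IH (LK LD1_c4 LD2_c27 LD3_c20) (LK LD1_c2 LD2_c10 LD3_c52) Lrfl Lrfl
theorem f46181 : Led Lsl_dt (LP (LK LD1_c8 LD2_c11 LD3_c47)) = (LP (LK LD1_c4 LD2_c27 LD3_c20)) :=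
  Lgr Lrot120 (Lpe (f46179 IH) (Lpe (f46178 IH) (Lpe (f46177 IH) (Lpe (f46176 IH) (Lpr_cf (f41864 IH) (Lpe (f44591 IH) (Lpr_ft (f44752 IH) (Lpr_at (f46161 IH) (Lpe (f46180 IH) (Lpn (LP (LK LD1_c4 LD2_c27 LD3_c20))))))))))))
theorem f46192 : Led Lsl_ft (LP (LK LD1_c1 LD2_c59 LD3_c53)) = (LP (LK LD1_c4 LD2_c5 LD3_c26)) :=
  Lre_f IH (LK LD1_c1 LD2_c59 LD3_c53) (LK LD1_c4 LD2_c5 LD3_c26) Lrfl Lrfl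
theorem f46193 : Led Lsl_at (LP (LK LD1_c4 LD2_c5 LD3_c26)) = (LP (LK LD1_c8 LD2_c10 LD3_c60)) :=
  Lre_a IH (LK LD1_c4 LD2_c5 LD3_c26) (LK LD1_c8 LD2_c10 LD3_c60) Lrfl Lrfl
theorem f46194 : Led Lsl_ct (LP (LK LD1_c4 LD2_c5 LD3_c6)) = (LP (LK LD1_c8 LD2_c10 LD3_c60)) :=
  Lre_c IH (LK LD1_c4 LD2_c5 LD3_c6) (LK LD1_c8 LD2_c10 LD3_c60) Lrfl Lrfl
theorem f46195 : Led Lsl_dt (LP (LK LD1_c1 LD2_c59 LD3_c43)) = (LP (LK LD1_c4 LD2_c5 LD3_c6)) :=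
  Lre_d IH (LK LD1_c1 LD2_c59 LD3_c43) (LK LD1_c4 LD2_c5 LD3_c6) Lrfl Lrfl
theorem f46196 : Led Lsl_cf (LP (LK LD1_c1 LD2_c59 LD3_c43)) = (LP (LK LD1_c1 LD2_c2 LD3_c26)) :=
  Lgr Lrot161 (Lpr_dt (f46195 IH) (Lpr_ct (f46194 IH) (Lpe (f46193 IH) (Lpe (f46192 IH) (Lpr_dt (f46178 IH) (Lpr_ct (f46179 IH) (Lpr_dt (f46181 IH) (Lpr_ct (f46180 IH) (Lpr_dt (f46136 IH) (Lpn (LP (LK LD1_c1 LD2_c2 LD3_c26))))))))))))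
theorem f46211 : Led Lsl_ft (LP (LK LD1_c1 LD2_c59 LD3_c43)) = (LP (LK LD1_c0 LD2_c56 LD3_c47)) :=
  Lre_f IH (LK LD1_c1 LD2_c59 LD3_c43) (LK LD1_c0 LD2_c56 LD3_c47) Lrfl Lrfl
theorem f46212 : Led Lsl_ct (LP (LK LD1_c0 LD2_c56 LD3_c47)) = (LP (LK LD1_c0 LD2_c28 LD3_c28)) :=
  Lgr Lrot40 (Lpe (f46211 IH) (Lpr_cf (f46196 IH) (Lpe (f46138 IH) (Lpn (LP (LK LD1_c0 LD2_c28 LD3_c28))))))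
theorem f46225 : Led Lsl_dt (LP (LK LD1_c1 LD2_c59 LD3_c42)) = (LP (LK LD1_c0 LD2_c56 LD3_c47)) :=
  Lre_d IH (LK LD1_c1 LD2_c59 LD3_c42) (LK LD1_c0 LD2_c56 LD3_c47) Lrfl Lrfl
theorem f46226 : Led Lsl_ct (LP (LK LD1_c4 LD2_c5 LD3_c5)) = (LP (LK LD1_c1 LD2_c59 LD3_c42)) :=
  Lre_c IH (LK LD1_c4 LD2_c5 LD3_c5) (LK LD1_c1 LD2_c59 LD3_c42) Lrfl Lrfl
theorem f46227 : Led Lsl_dt (LP (LK LD1_c8 LD2_c10 LD3_c59)) = (LP (LK LD1_c4 LD2_c5 LD3_c5)) :=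
  Lre_d IH (LK LD1_c8 LD2_c10 LD3_c59) (LK LD1_c4 LD2_c5 LD3_c5) Lrfl Lrfl
theorem f46157 : Led Lsl_ct (LP (LK LD1_c2 LD2_c10 LD3_c57)) = (LP (LK LD1_c4 LD2_c27 LD3_c30)) :=
  Lre_c IH (LK LD1_c2 LD2_c10 LD3_c57) (LK LD1_c4 LD2_c27 LD3_c30) Lrfl Lrfl
theorem f46158 : Led Lsl_dt (LP (LK LD1_c4 LD2_c27 LD3_c30)) = (LP (LK LD1_c8 LD2_c52 LD3_c53)) :=
  Lre_d IH (LK LD1_c4 LD2_c27 LD3_c30) (LK LD1_c8 LD2_c52 LD3_c53) Lrfl Lrfl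
theorem f46231 : Led Lsl_cf (LP (LK LD1_c8 LD2_c10 LD3_c59)) = (LP (LK LD1_c8 LD2_c52 LD3_c53)) :=
  Lgr Lrot116 (Lpr_dt (f46227 IH) (Lpr_ct (f46226 IH) (Lpr_dt (f46225 IH) (Lpr_ct (f46212 IH) (Lpe (f46148 IH) (Lpe (f46082 IH) (Lpr_dt (f46078 IH) (Lpr_ct (f46157 IH) (Lpr_dt (f46158 IH) (Lpn (LP (LK LD1_c8 LD2_c52 LD3_c53))))))))))))
theorem f44903 : Led Lsl_ft (LP (LK LD1_c4 LD2_c27 LD3_c30)) = (LP (LK LD1_c2 LD2_c10 LD3_c56)) :=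
  Lre_f IH (LK LD1_c4 LD2_c27 LD3_c30) (LK LD1_c2 LD2_c10 LD3_c56) Lrfl Lrfl
theorem f44264 : Led Lsl_dt (LP (LK LD1_c0 LD2_c28 LD3_c28)) = (LP (LK LD1_c1 LD2_c2 LD3_c25)) :=
  Lre_d IH (LK LD1_c0 LD2_c28 LD3_c28) (LK LD1_c1 LD2_c2 LD3_c25) Lrfl Lrfl
theorem f44063 : Led Lsl_ct (LP (LK LD1_c1 LD2_c2 LD3_c25)) = (LP (LK LD1_c2 LD2_c10 LD3_c51)) :=
  Lre_c IH (LK LD1_c1 LD2_c2 LD3_c25) (LK LD1_c2 LD2_c10 LD3_c51) Lrfl Lrfl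
theorem f46239 : Led Lsl_at (LP (LK LD1_c2 LD2_c10 LD3_c56)) = (LP (LK LD1_c2 LD2_c10 LD3_c51)) :=
  Lgr Lrot33 (Lpe (f44903 IH) (Lpr_dt (f46158 IH) (Lpe (f46231 IH) (Lpr_dt (f46227 IH) (Lpr_ct (f46226 IH) (Lpr_dt (f46225 IH) (Lpr_ct (f46212 IH) (Lpr_dt (f44264 IH) (Lpr_ct (f44063 IH) (Lpn (LP (LK LD1_c2 LD2_c10 LD3_c51))))))))))))
theorem f28301 : Led Lsl_dt (LP (LK LD1_c0 LD2_c15 LD3_c41)) = (LP (LK LD1_c0 LD2_c34 LD3_c57)) :=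
  Lre_d IH (LK LD1_c0 LD2_c15 LD3_c41) (LK LD1_c0 LD2_c34 LD3_c57) Lrfl Lrfl
theorem f41834 : Led Lsl_et (LP (LK LD1_c0 LD2_c28 LD3_c29)) = (LP (LK LD1_c0 LD2_c12 LD3_c35)) :=
  Lre_e IH (LK LD1_c0 LD2_c28 LD3_c29) (LK LD1_c0 LD2_c12 LD3_c35) Lrfl Lrfl
theorem f44592 : Led Lsl_et (LP (LK LD1_c0 LD2_c34 LD3_c57)) = (LP (LK LD1_c1 LD2_c2 LD3_c28)) :=
  Lgr Lrot71 (Lpe (f28301 IH) (Lpe (f28244 IH) (Lpr_df (f44587 IH) (Lpe (f41834 IH) (Lpe (f44591 IH) (Lpn (LP (LK LD1_c1 LD2_c2 LD3_c28))))))))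
theorem f44749 : Led Lsl_ef (LP (LK LD1_c0 LD2_c34 LD3_c57)) = (LP (LK LD1_c1 LD2_c2 LD3_c28)) :=
  Lgr Lrot88 (Lpr_et (f44592 IH) (Lpn (LP (LK LD1_c1 LD2_c2 LD3_c28))))
theorem f28302 : Led Lsl_ct (LP (LK LD1_c0 LD2_c34 LD3_c57)) = (LP (LK LD1_c1 LD2_c15 LD3_c20)) :=
  Lre_c IH (LK LD1_c0 LD2_c34 LD3_c57) (LK LD1_c1 LD2_c15 LD3_c20) Lrfl Lrfl
theorem f44769 : Led Lsl_ct (LP (LK LD1_c2 LD2_c10 LD3_c56)) = (LP (LK LD1_c1 LD2_c2 LD3_c28)) :=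
  Lre_c IH (LK LD1_c2 LD2_c10 LD3_c56) (LK LD1_c1 LD2_c2 LD3_c28) Lrfl Lrfl
theorem f44770 : Led Lsl_et (LP (LK LD1_c1 LD2_c15 LD3_c20)) = (LP (LK LD1_c2 LD2_c10 LD3_c56)) :=
  Lgr Lrot158 (Lpe (f28302 IH) (Lpr_ef (f44749 IH) (Lpe (f44769 IH) (Lpn (LP (LK LD1_c2 LD2_c10 LD3_c56))))))
theorem f44062 : Led Lsl_ct (LP (LK LD1_c1 LD2_c15 LD3_c13)) = (LP (LK LD1_c0 LD2_c34 LD3_c53)) :=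
  Lre_c IH (LK LD1_c1 LD2_c15 LD3_c13) (LK LD1_c0 LD2_c34 LD3_c53) Lrfl Lrfl
theorem f44064 : Led Lsl_ef (LP (LK LD1_c1 LD2_c15 LD3_c13)) = (LP (LK LD1_c2 LD2_c10 LD3_c51)) :=
  Lgr Lrot28 (Lpr_ct (f44062 IH) (Lpr_et (f44050 IH) (Lpr_ct (f44063 IH) (Lpn (LP (LK LD1_c2 LD2_c10 LD3_c51))))))
theorem f46254 : Led Lsl_af (LP (LK LD1_c1 LD2_c15 LD3_c20)) = (LP (LK LD1_c1 LD2_c15 LD3_c13)) :=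
  Lgr Lrot50 (Lpr_et (f44770 IH) (Lpr_at (f46239 IH) (Lpe (f44064 IH) (Lpn (LP (LK LD1_c1 LD2_c15 LD3_c13))))))
theorem f44901 : Led Lsl_ft (LP (LK LD1_c1 LD2_c15 LD3_c20)) = (LP (LK LD1_c2 LD2_c36 LD3_c45)) :=
  Lre_f IH (LK LD1_c1 LD2_c15 LD3_c20) (LK LD1_c2 LD2_c36 LD3_c45) Lrfl Lrfl
theorem f46272 : Led Lsl_at (LP (LK LD1_c2 LD2_c36 LD3_c45)) = (LP (LK LD1_c2 LD2_c36 LD3_c28)) :=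
  Lgr Lrot66 (Lpe (f44901 IH) (Lpr_af (f46254 IH) (Lpe (f44108 IH) (Lpn (LP (LK LD1_c2 LD2_c36 LD3_c28))))))
theorem f44783 : Led Lsl_et (LP (LK LD1_c5 LD2_c20 LD3_c13)) = (LP (LK LD1_c2 LD2_c36 LD3_c45)) :=
  Lre_e IH (LK LD1_c5 LD2_c20 LD3_c13) (LK LD1_c2 LD2_c36 LD3_c45) Lrfl Lrfl
theorem f44256 : Led Lsl_et (LP (LK LD1_c2 LD2_c36 LD3_c28)) = (LP (LK LD1_c5 LD2_c19 LD3_c41)) :=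
  Lre_e IH (LK LD1_c2 LD2_c36 LD3_c28) (LK LD1_c5 LD2_c19 LD3_c41) Lrfl Lrfl
theorem f46289 : Led Lsl_af (LP (LK LD1_c5 LD2_c20 LD3_c13)) = (LP (LK LD1_c5 LD2_c19 LD3_c41)) :=
  Lgr Lrot50 (Lpr_et (f44783 IH) (Lpr_at (f46272 IH) (Lpr_et (f44256 IH) (Lpn (LP (LK LD1_c5 LD2_c19 LD3_c41))))))
theorem f44764 : Led Lsl_ct (LP (LK LD1_c5 LD2_c20 LD3_c13)) = (LP (LK LD1_c2 LD2_c36 LD3_c46)) :=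
  Lre_c IH (LK LD1_c5 LD2_c20 LD3_c13) (LK LD1_c2 LD2_c36 LD3_c46) Lrfl Lrfl
theorem f44084 : Led Lsl_ct (LP (LK LD1_c2 LD2_c36 LD3_c29)) = (LP (LK LD1_c5 LD2_c19 LD3_c41)) :=
  Lre_c IH (LK LD1_c2 LD2_c36 LD3_c29) (LK LD1_c5 LD2_c19 LD3_c41) Lrfl Lrfl
theorem f46301 : Led Lsl_at (LP (LK LD1_c2 LD2_c36 LD3_c46)) = (LP (LK LD1_c2 LD2_c36 LD3_c29)) :=
  Lgr Lrot107 (Lpe (f44764 IH) (Lpr_af (f46289 IH) (Lpe (f44084 IH) (Lpn (LP (LK LD1_c2 LD2_c36 LD3_c29))))))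
theorem f46309 : Led Lsl_af (LP (LK LD1_c2 LD2_c36 LD3_c46)) = (LP (LK LD1_c2 LD2_c36 LD3_c29)) :=
  Lgr Lrot0 (Lpr_at (f46301 IH) (Lpn (LP (LK LD1_c2 LD2_c36 LD3_c29))))
theorem f44751 : Led Lsl_et (LP (LK LD1_c2 LD2_c36 LD3_c46)) = (LP (LK LD1_c1 LD2_c15 LD3_c21)) :=
  Lre_e IH (LK LD1_c2 LD2_c36 LD3_c46) (LK LD1_c1 LD2_c15 LD3_c21) Lrfl Lrfl
theorem f44098 : Led Lsl_et (LP (LK LD1_c1 LD2_c15 LD3_c14)) = (LP (LK LD1_c2 LD2_c36 LD3_c29)) :=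
  Lre_e IH (LK LD1_c1 LD2_c15 LD3_c14) (LK LD1_c2 LD2_c36 LD3_c29) Lrfl Lrfl
theorem f46311 : Led Lsl_at (LP (LK LD1_c1 LD2_c15 LD3_c21)) = (LP (LK LD1_c1 LD2_c15 LD3_c14)) :=
  Lgr Lrot80 (Lpe (f44751 IH) (Lpr_af (f46309 IH) (Lpe (f44098 IH) (Lpn (LP (LK LD1_c1 LD2_c15 LD3_c14))))))
theorem f28263 : Led Lsl_ft (LP (LK LD1_c0 LD2_c34 LD3_c57)) = (LP (LK LD1_c1 LD2_c15 LD3_c21)) :=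
  Lre_f IH (LK LD1_c0 LD2_c34 LD3_c57) (LK LD1_c1 LD2_c15 LD3_c21) Lrfl Lrfl
theorem f46324 : Led Lsl_af (LP (LK LD1_c0 LD2_c34 LD3_c57)) = (LP (LK LD1_c0 LD2_c34 LD3_c53)) :=
  Lgr Lrot45 (Lpr_ft (f28263 IH) (Lpr_at (f46311 IH) (Lpr_ft (f44068 IH) (Lpn (LP (LK LD1_c0 LD2_c34 LD3_c53))))))
theorem f28255 : Led Lsl_dt (LP (LK LD1_c0 LD2_c34 LD3_c57)) = (LP (LK LD1_c0 LD2_c15 LD3_c41)) :=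
  Lre_d IH (LK LD1_c0 LD2_c34 LD3_c57) (LK LD1_c0 LD2_c15 LD3_c41) Lrfl Lrfl
theorem f46326 : Led Lsl_at (LP (LK LD1_c0 LD2_c15 LD3_c41)) = (LP (LK LD1_c0 LD2_c15 LD3_c39)) :=
  Lgr Lrot51 (Lpe (f28255 IH) (Lpr_af (f46324 IH) (Lpe (f44047 IH) (Lpn (LP (LK LD1_c0 LD2_c15 LD3_c39))))))
theorem f28251 : Led Lsl_ct (LP (LK LD1_c0 LD2_c34 LD3_c50)) = (LP (LK LD1_c0 LD2_c15 LD3_c41)) :=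
  Lgr Lrot59 (Lpr_cf (f28245 IH) (Lpn (LP (LK LD1_c0 LD2_c15 LD3_c41))))
theorem f46344 : Led Lsl_af (LP (LK LD1_c0 LD2_c34 LD3_c50)) = (LP (LK LD1_c0 LD2_c34 LD3_c51)) :=
  Lgr Lrot68 (Lpr_ct (f28251 IH) (Lpr_at (f46326 IH) (Lpr_ct (f28249 IH) (Lpn (LP (LK LD1_c0 LD2_c34 LD3_c51))))))
theorem f46351 : Led Lsl_at (LP (LK LD1_c1 LD2_c15 LD3_c6)) = (LP (LK LD1_c1 LD2_c15 LD3_c9)) :=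
  Lgr Lrot66 (Lpe (f28259 IH) (Lpr_af (f46344 IH) (Lpe (f45870 IH) (Lpn (LP (LK LD1_c1 LD2_c15 LD3_c9))))))
theorem f46361 : Led Lsl_af (LP (LK LD1_c2 LD2_c36 LD3_c13)) = (LP (LK LD1_c2 LD2_c36 LD3_c18)) :=
  Lgr Lrot117 (Lpr_dt (f28286 IH) (Lpr_at (f46351 IH) (Lpr_dt (f45850 IH) (Lpn (LP (LK LD1_c2 LD2_c36 LD3_c18))))))
theorem f46373 : Led Lsl_at (LP (LK LD1_c5 LD2_c19 LD3_c7)) = (LP (LK LD1_c5 LD2_c19 LD3_c14)) :=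
  Lgr Lrot80 (Lpe (f44260 IH) (Lpr_af (f46361 IH) (Lpe (f43940 IH) (Lpn (LP (LK LD1_c5 LD2_c19 LD3_c14))))))
theorem f46383 : Led Lsl_af (LP (LK LD1_c8 LD2_c52 LD3_c4)) = (LP (LK LD1_c5 LD2_c21 LD3_c25)) :=
  Lgr Lrot45 (Lpe (f44092 IH) (Lpr_at (f46373 IH) (Lpe (f43949 IH) (Lpn (LP (LK LD1_c5 LD2_c21 LD3_c25))))))
theorem f46387 : Led Lsl_at (LP (LK LD1_c4 LD2_c27 LD3_c11)) = (LP (LK LD1_c2 LD2_c37 LD3_c18)) :=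
  Lgr Lrot80 (Lpe (f44262 IH) (Lpr_af (f46383 IH) (Lpe (f43938 IH) (Lpn (LP (LK LD1_c2 LD2_c37 LD3_c18))))))
theorem f44235 : Led Lsl_ft (LP (LK LD1_c2 LD2_c10 LD3_c46)) = (LP (LK LD1_c4 LD2_c27 LD3_c11)) :=
  Lre_f IH (LK LD1_c2 LD2_c10 LD3_c46) (LK LD1_c4 LD2_c27 LD3_c11) Lrfl Lrfl
theorem f43952 : Led Lsl_ft (LP (LK LD1_c2 LD2_c37 LD3_c18)) = (LP (LK LD1_c1 LD2_c15 LD3_c39)) :=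
  Lre_f IH (LK LD1_c2 LD2_c37 LD3_c18) (LK LD1_c1 LD2_c15 LD3_c39) Lrfl Lrfl
theorem f46395 : Led Lsl_af (LP (LK LD1_c2 LD2_c10 LD3_c46)) = (LP (LK LD1_c1 LD2_c15 LD3_c39)) :=
  Lgr Lrot45 (Lpr_ft (f44235 IH) (Lpr_at (f46387 IH) (Lpr_ft (f43952 IH) (Lpn (LP (LK LD1_c1 LD2_c15 LD3_c39))))))
theorem f44217 : Led Lsl_ct (LP (LK LD1_c4 LD2_c27 LD3_c10)) = (LP (LK LD1_c2 LD2_c10 LD3_c46)) :=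
  Lre_c IH (LK LD1_c4 LD2_c27 LD3_c10) (LK LD1_c2 LD2_c10 LD3_c46) Lrfl Lrfl
theorem f44226 : Led Lsl_dt (LP (LK LD1_c8 LD2_c52 LD3_c3)) = (LP (LK LD1_c4 LD2_c27 LD3_c10)) :=
  Lre_d IH (LK LD1_c8 LD2_c52 LD3_c3) (LK LD1_c4 LD2_c27 LD3_c10) Lrfl Lrfl
theorem f9071 : Led Lsl_ct (LP (LK LD1_c1 LD2_c15 LD3_c40)) = (LP (LK LD1_c0 LD2_c35 LD3_c9)) :=
  Lre_c IH (LK LD1_c1 LD2_c15 LD3_c40) (LK LD1_c0 LD2_c35 LD3_c9) Lrfl Lrfl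
theorem f46407 : Led Lsl_dt (LP (LK LD1_c0 LD2_c35 LD3_c9)) = (LP (LK LD1_c1 LD2_c15 LD3_c49)) :=
  Lre_d IH (LK LD1_c0 LD2_c35 LD3_c9) (LK LD1_c1 LD2_c15 LD3_c49) Lrfl Lrfl
theorem f46408 : Led Lsl_ct (LP (LK LD1_c1 LD2_c15 LD3_c49)) = (LP (LK LD1_c2 LD2_c37 LD3_c36)) :=
  Lre_c IH (LK LD1_c1 LD2_c15 LD3_c49) (LK LD1_c2 LD2_c37 LD3_c36) Lrfl Lrfl
theorem f46409 : Led Lsl_dt (LP (LK LD1_c2 LD2_c37 LD3_c36)) = (LP (LK LD1_c5 LD2_c22 LD3_c13)) :=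
  Lre_d IH (LK LD1_c2 LD2_c37 LD3_c36) (LK LD1_c5 LD2_c22 LD3_c13) Lrfl Lrfl
theorem f46410 : Led Lsl_cf (LP (LK LD1_c8 LD2_c52 LD3_c3)) = (LP (LK LD1_c5 LD2_c22 LD3_c13)) :=
  Lgr Lrot161 (Lpr_dt (f44226 IH) (Lpr_ct (f44217 IH) (Lpr_af (f46395 IH) (Lpe (f43952 IH) (Lpr_dt (f45816 IH) (Lpr_ct (f9071 IH) (Lpr_dt (f46407 IH) (Lpr_ct (f46408 IH) (Lpr_dt (f46409 IH) (Lpn (LP (LK LD1_c5 LD2_c22 LD3_c13))))))))))))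
theorem f46412 : Led Lsl_at (LP (LK LD1_c10 LD2_c30 LD3_c51)) = (LP (LK LD1_c5 LD2_c22 LD3_c13)) :=
  Lre_a IH (LK LD1_c10 LD2_c30 LD3_c51) (LK LD1_c5 LD2_c22 LD3_c13) Lrfl Lrfl
theorem f46413 : Led Lsl_ct (LP (LK LD1_c5 LD2_c21 LD3_c24)) = (LP (LK LD1_c10 LD2_c30 LD3_c51)) :=
  Lre_c IH (LK LD1_c5 LD2_c21 LD3_c24) (LK LD1_c10 LD2_c30 LD3_c51) Lrfl Lrfl
theorem f46414 : Led Lsl_at (LP (LK LD1_c8 LD2_c52 LD3_c3)) = (LP (LK LD1_c5 LD2_c21 LD3_c24)) :=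
  Lgr Lrot107 (Lpr_cf (f46410 IH) (Lpe (f46412 IH) (Lpe (f46413 IH) (Lpn (LP (LK LD1_c5 LD2_c21 LD3_c24))))))
theorem f44218 : Led Lsl_dt (LP (LK LD1_c4 LD2_c27 LD3_c10)) = (LP (LK LD1_c8 LD2_c52 LD3_c3)) :=
  Lre_d IH (LK LD1_c4 LD2_c27 LD3_c10) (LK LD1_c8 LD2_c52 LD3_c3) Lrfl Lrfl
theorem f43987 : Led Lsl_dt (LP (LK LD1_c5 LD2_c21 LD3_c24)) = (LP (LK LD1_c2 LD2_c37 LD3_c17)) :=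
  Lre_d IH (LK LD1_c5 LD2_c21 LD3_c24) (LK LD1_c2 LD2_c37 LD3_c17) Lrfl Lrfl
theorem f46519 : Led Lsl_af (LP (LK LD1_c4 LD2_c27 LD3_c10)) = (LP (LK LD1_c2 LD2_c37 LD3_c17)) :=
  Lgr Lrot117 (Lpr_dt (f44218 IH) (Lpr_at (f46414 IH) (Lpr_dt (f43987 IH) (Lpn (LP (LK LD1_c2 LD2_c37 LD3_c17))))))
theorem f43935 : Led Lsl_et (LP (LK LD1_c1 LD2_c15 LD3_c39)) = (LP (LK LD1_c1 LD2_c15 LD3_c8)) :=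
  Lgr Lrot87 (Lpr_ef (f43925 IH) (Lpn (LP (LK LD1_c1 LD2_c15 LD3_c8))))
theorem f43956 : Led Lsl_ct (LP (LK LD1_c2 LD2_c37 LD3_c17)) = (LP (LK LD1_c1 LD2_c15 LD3_c39)) :=
  Lre_c IH (LK LD1_c2 LD2_c37 LD3_c17) (LK LD1_c1 LD2_c15 LD3_c39) Lrfl Lrfl
theorem f43957 : Led Lsl_ct (LP (LK LD1_c1 LD2_c15 LD3_c8)) = (LP (LK LD1_c2 LD2_c36 LD3_c17)) :=
  Lre_c IH (LK LD1_c1 LD2_c15 LD3_c8) (LK LD1_c2 LD2_c36 LD3_c17) Lrfl Lrfl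
theorem f43958 : Led Lsl_ef (LP (LK LD1_c2 LD2_c37 LD3_c17)) = (LP (LK LD1_c2 LD2_c36 LD3_c17)) :=
  Lgr Lrot28 (Lpr_ct (f43956 IH) (Lpr_et (f43935 IH) (Lpr_ct (f43957 IH) (Lpn (LP (LK LD1_c2 LD2_c36 LD3_c17))))))
theorem f46521 : Led Lsl_at (LP (LK LD1_c2 LD2_c36 LD3_c12)) = (LP (LK LD1_c2 LD2_c36 LD3_c17)) :=
  Lgr Lrot80 (Lpr_ef (f44219 IH) (Lpr_af (f46519 IH) (Lpr_ef (f43958 IH) (Lpn (LP (LK LD1_c2 LD2_c36 LD3_c17))))))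
theorem f28254 : Led Lsl_ct (LP (LK LD1_c1 LD2_c15 LD3_c5)) = (LP (LK LD1_c2 LD2_c36 LD3_c12)) :=
  Lre_c IH (LK LD1_c1 LD2_c15 LD3_c5) (LK LD1_c2 LD2_c36 LD3_c12) Lrfl Lrfl
theorem f43932 : Led Lsl_ct (LP (LK LD1_c2 LD2_c36 LD3_c17)) = (LP (LK LD1_c1 LD2_c15 LD3_c8)) :=
  Lre_c IH (LK LD1_c2 LD2_c36 LD3_c17) (LK LD1_c1 LD2_c15 LD3_c8) Lrfl Lrfl
theorem f46525 : Led Lsl_af (LP (LK LD1_c1 LD2_c15 LD3_c5)) = (LP (LK LD1_c1 LD2_c15 LD3_c8)) :=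
  Lgr Lrot68 (Lpr_ct (f28254 IH) (Lpr_at (f46521 IH) (Lpr_ct (f43932 IH) (Lpn (LP (LK LD1_c1 LD2_c15 LD3_c8))))))
theorem f44058 : Led Lsl_bt (LP (LK LD1_c1 LD2_c15 LD3_c5)) = (LP (LK LD1_c0 LD2_c34 LD3_c53)) :=
  Lre_b IH (LK LD1_c1 LD2_c15 LD3_c5) (LK LD1_c0 LD2_c34 LD3_c53) Lrfl Lrfl
theorem f44768 : Led Lsl_bt (LP (LK LD1_c0 LD2_c34 LD3_c57)) = (LP (LK LD1_c1 LD2_c15 LD3_c15)) :=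
  Lre_b IH (LK LD1_c0 LD2_c34 LD3_c57) (LK LD1_c1 LD2_c15 LD3_c15) Lrfl Lrfl
theorem f46528 : Led Lsl_at (LP (LK LD1_c1 LD2_c15 LD3_c15)) = (LP (LK LD1_c1 LD2_c58 LD3_c17)) :=
  Lgr Lrot67 (Lpe (f44768 IH) (Lpr_af (f46324 IH) (Lpe (f44058 IH) (Lpr_af (f46525 IH) (Lpe (f45854 IH) (Lpn (LP (LK LD1_c1 LD2_c58 LD3_c17))))))))
theorem f44913 : Led Lsl_dt (LP (LK LD1_c1 LD2_c15 LD3_c15)) = (LP (LK LD1_c0 LD2_c34 LD3_c55)) :=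
  Lre_d IH (LK LD1_c1 LD2_c15 LD3_c15) (LK LD1_c0 LD2_c34 LD3_c55) Lrfl Lrfl
theorem f28180 : Led Lsl_et (LP (LK LD1_c0 LD2_c11 LD3_c18)) = (LP (LK LD1_c0 LD2_c25 LD3_c24)) :=
  Lre_e IH (LK LD1_c0 LD2_c11 LD3_c18) (LK LD1_c0 LD2_c25 LD3_c24) Lrfl Lrfl
theorem f28172 : Led Lsl_dt (LP (LK LD1_c0 LD2_c25 LD3_c24)) = (LP (LK LD1_c0 LD2_c55 LD3_c60)) :=
  Lre_d IH (LK LD1_c0 LD2_c25 LD3_c24) (LK LD1_c0 LD2_c55 LD3_c60) Lrfl Lrfl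
theorem f44914 : Led Lsl_ef (LP (LK LD1_c1 LD2_c15 LD3_c15)) = (LP (LK LD1_c0 LD2_c55 LD3_c60)) :=
  Lgr Lrot73 (Lpr_dt (f44913 IH) (Lpr_et (f44912 IH) (Lpr_dt (f44589 IH) (Lpr_et (f28180 IH) (Lpr_dt (f28172 IH) (Lpn (LP (LK LD1_c0 LD2_c55 LD3_c60))))))))
theorem f45967 : Led Lsl_et (LP (LK LD1_c1 LD2_c58 LD3_c17)) = (LP (LK LD1_c0 LD2_c56 LD3_c1)) :=
  Lre_e IH (LK LD1_c1 LD2_c58 LD3_c17) (LK LD1_c0 LD2_c56 LD3_c1) Lrfl Lrfl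
theorem f46536 : Led Lsl_af (LP (LK LD1_c0 LD2_c55 LD3_c60)) = (LP (LK LD1_c0 LD2_c56 LD3_c1)) :=
  Lgr Lrot50 (Lpe (f44914 IH) (Lpr_at (f46528 IH) (Lpr_et (f45967 IH) (Lpn (LP (LK LD1_c0 LD2_c56 LD3_c1))))))
theorem f46581 : Led Lsl_ct (LP (LK LD1_c1 LD2_c58 LD3_c14)) = (LP (LK LD1_c0 LD2_c55 LD3_c60)) :=
  Lre_c IH (LK LD1_c1 LD2_c58 LD3_c14) (LK LD1_c0 LD2_c55 LD3_c60) Lrfl Lrfl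
theorem f46582 : Led Lsl_dt (LP (LK LD1_c4 LD2_c2 LD3_c30)) = (LP (LK LD1_c1 LD2_c58 LD3_c14)) :=
  Lre_d IH (LK LD1_c4 LD2_c2 LD3_c30) (LK LD1_c1 LD2_c58 LD3_c14) Lrfl Lrfl
theorem f27868 : Led Lsl_ft (LP (LK LD1_c1 LD2_c58 LD3_c22)) = (LP (LK LD1_c0 LD2_c56 LD3_c1)) :=
  Lre_f IH (LK LD1_c1 LD2_c58 LD3_c22) (LK LD1_c0 LD2_c56 LD3_c1) Lrfl Lrfl
theorem f27861 : Led Lsl_dt (LP (LK LD1_c1 LD2_c58 LD3_c22)) = (LP (LK LD1_c0 LD2_c56 LD3_c2)) :=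
  Lre_d IH (LK LD1_c1 LD2_c58 LD3_c22) (LK LD1_c0 LD2_c56 LD3_c2) Lrfl Lrfl
theorem f27863 : Led Lsl_dt (LP (LK LD1_c0 LD2_c26 LD3_c55)) = (LP (LK LD1_c0 LD2_c59 LD3_c5)) :=
  Lre_d IH (LK LD1_c0 LD2_c26 LD3_c55) (LK LD1_c0 LD2_c59 LD3_c5) Lrfl Lrfl
theorem f27864 : Led Lsl_ct (LP (LK LD1_c0 LD2_c59 LD3_c5)) = (LP (LK LD1_c2 LD2_c4 LD3_c7)) :=
  Lre_c IH (LK LD1_c0 LD2_c59 LD3_c5) (LK LD1_c2 LD2_c4 LD3_c7) Lrfl Lrfl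
theorem f27865 : Led Lsl_dt (LP (LK LD1_c2 LD2_c4 LD3_c7)) = (LP (LK LD1_c4 LD2_c13 LD3_c35)) :=
  Lre_d IH (LK LD1_c2 LD2_c4 LD3_c7) (LK LD1_c4 LD2_c13 LD3_c35) Lrfl Lrfl
theorem f46583 : Led Lsl_cf (LP (LK LD1_c4 LD2_c2 LD3_c30)) = (LP (LK LD1_c4 LD2_c13 LD3_c35)) :=
  Lgr Lrot161 (Lpr_dt (f46582 IH) (Lpr_ct (f46581 IH) (Lpr_af (f46536 IH) (Lpe (f27868 IH) (Lpr_dt (f27861 IH) (Lpe (f27852 IH) (Lpr_dt (f27863 IH) (Lpr_ct (f27864 IH) (Lpr_dt (f27865 IH) (Lpn (LP (LK LD1_c4 LD2_c13 LD3_c35))))))))))))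
theorem f46575 : Led Lsl_dt (LP (LK LD1_c0 LD2_c55 LD3_c60)) = (LP (LK LD1_c0 LD2_c25 LD3_c24)) :=
  Lre_d IH (LK LD1_c0 LD2_c55 LD3_c60) (LK LD1_c0 LD2_c25 LD3_c24) Lrfl Lrfl
theorem f28181 : Led Lsl_et (LP (LK LD1_c0 LD2_c11 LD3_c26)) = (LP (LK LD1_c0 LD2_c5 LD3_c19)) :=
  Lre_e IH (LK LD1_c0 LD2_c11 LD3_c26) (LK LD1_c0 LD2_c5 LD3_c19) Lrfl Lrfl
theorem f28182 : Led Lsl_ct (LP (LK LD1_c0 LD2_c25 LD3_c24)) = (LP (LK LD1_c0 LD2_c11 LD3_c26)) :=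
  Lgr Lrot15 (Lpe (f28180 IH) (Lpr_cf (K0.f28169 IH) (Lpe (f28181 IH) (Lpn (LP (LK LD1_c0 LD2_c11 LD3_c26))))))
theorem f28217 : Led Lsl_dt (LP (LK LD1_c0 LD2_c11 LD3_c26)) = (LP (LK LD1_c0 LD2_c25 LD3_c41)) :=
  Lre_d IH (LK LD1_c0 LD2_c11 LD3_c26) (LK LD1_c0 LD2_c25 LD3_c41) Lrfl Lrfl
theorem f46590 : Led Lsl_ct (LP (LK LD1_c0 LD2_c25 LD3_c41)) = (LP (LK LD1_c0 LD2_c56 LD3_c41)) :=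
  Lre_c IH (LK LD1_c0 LD2_c25 LD3_c41) (LK LD1_c0 LD2_c56 LD3_c41) Lrfl Lrfl
theorem f46603 : Led Lsl_ft (LP (LK LD1_c2 LD2_c4 LD3_c7)) = (LP (LK LD1_c0 LD2_c59 LD3_c4)) :=
  Lre_f IH (LK LD1_c2 LD2_c4 LD3_c7) (LK LD1_c0 LD2_c59 LD3_c4) Lrfl Lrfl
theorem f46604 : Led Lsl_af (LP (LK LD1_c0 LD2_c56 LD3_c41)) = (LP (LK LD1_c0 LD2_c59 LD3_c4)) :=
  Lgr Lrot109 (Lpe (f46590 IH) (Lpe (f28217 IH) (Lpe (f28182 IH) (Lpe (f46575 IH) (Lpe (f46581 IH) (Lpe (f46582 IH) (Lpr_cf (f46583 IH) (Lpe (f27865 IH) (Lpr_ft (f46603 IH) (Lpn (LP (LK LD1_c0 LD2_c59 LD3_c4))))))))))))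
theorem f46622 : Led Lsl_ft (LP (LK LD1_c0 LD2_c56 LD3_c41)) = (LP (LK LD1_c1 LD2_c59 LD3_c35)) :=
  Lre_f IH (LK LD1_c0 LD2_c56 LD3_c41) (LK LD1_c1 LD2_c59 LD3_c35) Lrfl Lrfl
theorem f46623 : Led Lsl_at (LP (LK LD1_c1 LD2_c59 LD3_c35)) = (LP (LK LD1_c2 LD2_c4 LD3_c7)) :=
  Lgr Lrot66 (Lpe (f46622 IH) (Lpr_af (f46604 IH) (Lpe (f46603 IH) (Lpn (LP (LK LD1_c2 LD2_c4 LD3_c7))))))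
theorem f46636 : Led Lsl_dt (LP (LK LD1_c4 LD2_c4 LD3_c59)) = (LP (LK LD1_c1 LD2_c59 LD3_c35)) :=
  Lre_d IH (LK LD1_c4 LD2_c4 LD3_c59) (LK LD1_c1 LD2_c59 LD3_c35) Lrfl Lrfl
theorem f46637 : Led Lsl_af (LP (LK LD1_c4 LD2_c4 LD3_c59)) = (LP (LK LD1_c4 LD2_c13 LD3_c35)) :=
  Lgr Lrot117 (Lpr_dt (f46636 IH) (Lpr_at (f46623 IH) (Lpr_dt (f27865 IH) (Lpn (LP (LK LD1_c4 LD2_c13 LD3_c35))))))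
theorem f27877 : Led Lsl_ft (LP (LK LD1_c2 LD2_c4 LD3_c6)) = (LP (LK LD1_c4 LD2_c13 LD3_c35)) :=
  Lre_f IH (LK LD1_c2 LD2_c4 LD3_c6) (LK LD1_c4 LD2_c13 LD3_c35) Lrfl Lrfl
theorem f27869 : Led Lsl_dt (LP (LK LD1_c2 LD2_c4 LD3_c6)) = (LP (LK LD1_c0 LD2_c59 LD3_c4)) :=
  Lre_d IH (LK LD1_c2 LD2_c4 LD3_c6) (LK LD1_c0 LD2_c59 LD3_c4) Lrfl Lrfl
theorem f27850 : Led Lsl_ct (LP (LK LD1_c0 LD2_c59 LD3_c4)) = (LP (LK LD1_c0 LD2_c26 LD3_c54)) :=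
  Lre_c IH (LK LD1_c0 LD2_c59 LD3_c4) (LK LD1_c0 LD2_c26 LD3_c54) Lrfl Lrfl
theorem f27847 : Led Lsl_dt (LP (LK LD1_c0 LD2_c26 LD3_c54)) = (LP (LK LD1_c0 LD2_c11 LD3_c56)) :=
  Lre_d IH (LK LD1_c0 LD2_c26 LD3_c54) (LK LD1_c0 LD2_c11 LD3_c56) Lrfl Lrfl
theorem f27834 : Led Lsl_ct (LP (LK LD1_c0 LD2_c11 LD3_c56)) = (LP (LK LD1_c0 LD2_c25 LD3_c26)) :=
  Lgr Lrot59 (Lpr_cf (f27832 IH) (Lpn (LP (LK LD1_c0 LD2_c25 LD3_c26))))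
theorem f27871 : Led Lsl_dt (LP (LK LD1_c0 LD2_c25 LD3_c26)) = (LP (LK LD1_c0 LD2_c56 LD3_c1)) :=
  Lre_d IH (LK LD1_c0 LD2_c25 LD3_c26) (LK LD1_c0 LD2_c56 LD3_c1) Lrfl Lrfl
theorem f27872 : Led Lsl_ct (LP (LK LD1_c0 LD2_c56 LD3_c1)) = (LP (LK LD1_c1 LD2_c58 LD3_c21)) :=
  Lre_c IH (LK LD1_c0 LD2_c56 LD3_c1) (LK LD1_c1 LD2_c58 LD3_c21) Lrfl Lrfl
theorem f27873 : Led Lsl_dt (LP (LK LD1_c1 LD2_c58 LD3_c21)) = (LP (LK LD1_c4 LD2_c2 LD3_c40)) :=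
  Lre_d IH (LK LD1_c1 LD2_c58 LD3_c21) (LK LD1_c4 LD2_c2 LD3_c40) Lrfl Lrfl
theorem f46646 : Led Lsl_cf (LP (LK LD1_c4 LD2_c4 LD3_c59)) = (LP (LK LD1_c4 LD2_c2 LD3_c40)) :=
  Lgr Lrot102 (Lpr_af (f46637 IH) (Lpe (f27877 IH) (Lpr_dt (f27869 IH) (Lpr_ct (f27850 IH) (Lpr_dt (f27847 IH) (Lpr_ct (f27834 IH) (Lpr_dt (f27871 IH) (Lpr_ct (f27872 IH) (Lpr_dt (f27873 IH) (Lpn (LP (LK LD1_c4 LD2_c2 LD3_c40))))))))))))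
theorem f46645 : Led Lsl_ft (LP (LK LD1_c4 LD2_c4 LD3_c59)) = (LP (LK LD1_c1 LD2_c59 LD3_c34)) :=
  Lre_f IH (LK LD1_c4 LD2_c4 LD3_c59) (LK LD1_c1 LD2_c59 LD3_c34) Lrfl Lrfl
theorem f46592 : Led Lsl_ct (LP (LK LD1_c1 LD2_c59 LD3_c34)) = (LP (LK LD1_c4 LD2_c4 LD3_c57)) :=
  Lre_c IH (LK LD1_c1 LD2_c59 LD3_c34) (LK LD1_c4 LD2_c4 LD3_c57) Lrfl Lrfl
theorem f46659 : Led Lsl_ft (LP (LK LD1_c4 LD2_c4 LD3_c57)) = (LP (LK LD1_c4 LD2_c2 LD3_c40)) :=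
  Lgr Lrot4 (Lpe (f46592 IH) (Lpe (f46645 IH) (Lpr_cf (f46646 IH) (Lpn (LP (LK LD1_c4 LD2_c2 LD3_c40))))))
theorem f46591 : Led Lsl_dt (LP (LK LD1_c0 LD2_c56 LD3_c41)) = (LP (LK LD1_c1 LD2_c59 LD3_c34)) :=
  Lre_d IH (LK LD1_c0 LD2_c56 LD3_c41) (LK LD1_c1 LD2_c59 LD3_c34) Lrfl Lrfl
theorem f27862 : Led Lsl_ct (LP (LK LD1_c4 LD2_c2 LD3_c41)) = (LP (LK LD1_c1 LD2_c58 LD3_c22)) :=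
  Lre_c IH (LK LD1_c4 LD2_c2 LD3_c41) (LK LD1_c1 LD2_c58 LD3_c22) Lrfl Lrfl
theorem f46593 : Led Lsl_dt (LP (LK LD1_c4 LD2_c4 LD3_c57)) = (LP (LK LD1_c4 LD2_c2 LD3_c41)) :=
  Lgr Lrot173 (Lpe (f46592 IH) (Lpe (f46591 IH) (Lpe (f46590 IH) (Lpe (f28217 IH) (Lpe (f28182 IH) (Lpe (f46575 IH) (Lpe (f46581 IH) (Lpe (f46582 IH) (Lpr_cf (f46583 IH) (Lpe (f27865 IH) (Lpe (f27864 IH) (Lpe (f27863 IH) (Lpr_cf (f27852 IH) (Lpe (f27861 IH) (Lpe (f27862 IH) (Lpn (LP (LK LD1_c4 LD2_c2 LD3_c41))))))))))))))))))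
theorem f46676 : Led Lsl_af (LP (LK LD1_c4 LD2_c2 LD3_c30)) = (LP (LK LD1_c4 LD2_c2 LD3_c40)) :=
  Lgr Lrot109 (Lpr_cf (f46583 IH) (Lpe (f27865 IH) (Lpe (f27864 IH) (Lpe (f27863 IH) (Lpr_cf (f27852 IH) (Lpe (f27861 IH) (Lpe (f27862 IH) (Lpe (f46593 IH) (Lpr_ft (f46659 IH) (Lpn (LP (LK LD1_c4 LD2_c2 LD3_c40))))))))))))
theorem f27870 : Led Lsl_ct (LP (LK LD1_c4 LD2_c13 LD3_c33)) = (LP (LK LD1_c2 LD2_c4 LD3_c6)) :=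
  Lre_c IH (LK LD1_c4 LD2_c13 LD3_c33) (LK LD1_c2 LD2_c4 LD3_c6) Lrfl Lrfl
theorem f46599 : Led Lsl_ft (LP (LK LD1_c4 LD2_c2 LD3_c30)) = (LP (LK LD1_c4 LD2_c13 LD3_c33)) :=
  Lgr Lrot4 (Lpr_cf (f46583 IH) (Lpe (f27877 IH) (Lpe (f27870 IH) (Lpn (LP (LK LD1_c4 LD2_c13 LD3_c33))))))
theorem f46684 : Led Lsl_at (LP (LK LD1_c4 LD2_c13 LD3_c33)) = (LP (LK LD1_c4 LD2_c4 LD3_c57)) :=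
  Lgr Lrot66 (Lpe (f46599 IH) (Lpr_af (f46676 IH) (Lpe (f46659 IH) (Lpn (LP (LK LD1_c4 LD2_c4 LD3_c57))))))
theorem f46686 : Led Lsl_af (LP (LK LD1_c4 LD2_c13 LD3_c33)) = (LP (LK LD1_c4 LD2_c4 LD3_c57)) :=
  Lgr Lrot0 (Lpr_at (f46684 IH) (Lpn (LP (LK LD1_c4 LD2_c4 LD3_c57))))
theorem f46674 : Led Lsl_ff (LP (LK LD1_c4 LD2_c4 LD3_c57)) = (LP (LK LD1_c4 LD2_c2 LD3_c40)) :=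
  Lgr Lrot3 (Lpr_ft (f46659 IH) (Lpn (LP (LK LD1_c4 LD2_c2 LD3_c40))))
theorem f46639 : Led Lsl_at (LP (LK LD1_c4 LD2_c4 LD3_c59)) = (LP (LK LD1_c4 LD2_c13 LD3_c35)) :=
  Lgr Lrot100 (Lpr_af (f46637 IH) (Lpn (LP (LK LD1_c4 LD2_c13 LD3_c35))))
theorem f46648 : Led Lsl_at (LP (LK LD1_c4 LD2_c2 LD3_c30)) = (LP (LK LD1_c4 LD2_c2 LD3_c40)) :=
  Lgr Lrot107 (Lpr_cf (f46583 IH) (Lpe (f46639 IH) (Lpr_cf (f46646 IH) (Lpn (LP (LK LD1_c4 LD2_c2 LD3_c40))))))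
theorem f46896 : Led Lsl_ft (LP (LK LD1_c4 LD2_c13 LD3_c33)) = (LP (LK LD1_c4 LD2_c2 LD3_c30)) :=
  Lgr Lrot101 (Lpr_af (f46686 IH) (Lpr_ff (f46674 IH) (Lpe (f46648 IH) (Lpn (LP (LK LD1_c4 LD2_c2 LD3_c30))))))
theorem f46900 : Led Lsl_ft (LP (LK LD1_c1 LD2_c58 LD3_c14)) = (LP (LK LD1_c4 LD2_c2 LD3_c31)) :=
  Lre_f IH (LK LD1_c1 LD2_c58 LD3_c14) (LK LD1_c4 LD2_c2 LD3_c31) Lrfl Lrfl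
theorem f46901 : Led Lsl_df (LP (LK LD1_c4 LD2_c13 LD3_c33)) = (LP (LK LD1_c4 LD2_c2 LD3_c31)) :=
  Lgr Lrot78 (Lpr_ft (f46896 IH) (Lpr_dt (f46582 IH) (Lpr_ft (f46900 IH) (Lpn (LP (LK LD1_c4 LD2_c2 LD3_c31))))))
theorem f46935 : Led Lsl_dt (LP (LK LD1_c4 LD2_c13 LD3_c33)) = (LP (LK LD1_c4 LD2_c2 LD3_c31)) :=
  Lgr Lrot42 (Lpr_df (f46901 IH) (Lpn (LP (LK LD1_c4 LD2_c2 LD3_c31))))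
theorem f27838 : Led Lsl_ct (LP (LK LD1_c2 LD2_c4 LD3_c6)) = (LP (LK LD1_c4 LD2_c13 LD3_c33)) :=
  Lre_c IH (LK LD1_c2 LD2_c4 LD3_c6) (LK LD1_c4 LD2_c13 LD3_c33) Lrfl Lrfl
theorem f27837 : Led Lsl_dt (LP (LK LD1_c0 LD2_c59 LD3_c4)) = (LP (LK LD1_c2 LD2_c4 LD3_c6)) :=
  Lre_d IH (LK LD1_c0 LD2_c59 LD3_c4) (LK LD1_c2 LD2_c4 LD3_c6) Lrfl Lrfl
theorem f27836 : Led Lsl_ct (LP (LK LD1_c0 LD2_c26 LD3_c54)) = (LP (LK LD1_c0 LD2_c59 LD3_c4)) :=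
  Lre_c IH (LK LD1_c0 LD2_c26 LD3_c54) (LK LD1_c0 LD2_c59 LD3_c4) Lrfl Lrfl
theorem f27765 : Led Lsl_dt (LP (LK LD1_c0 LD2_c11 LD3_c56)) = (LP (LK LD1_c0 LD2_c26 LD3_c54)) :=
  Lre_d IH (LK LD1_c0 LD2_c11 LD3_c56) (LK LD1_c0 LD2_c26 LD3_c54) Lrfl Lrfl
theorem f27839 : Led Lsl_dt (LP (LK LD1_c0 LD2_c56 LD3_c1)) = (LP (LK LD1_c0 LD2_c25 LD3_c26)) :=
  Lre_d IH (LK LD1_c0 LD2_c56 LD3_c1) (LK LD1_c0 LD2_c25 LD3_c26) Lrfl Lrfl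
theorem f27846 : Led Lsl_ft (LP (LK LD1_c0 LD2_c56 LD3_c1)) = (LP (LK LD1_c1 LD2_c58 LD3_c22)) :=
  Lre_f IH (LK LD1_c0 LD2_c56 LD3_c1) (LK LD1_c1 LD2_c58 LD3_c22) Lrfl Lrfl
theorem f46947 : Led Lsl_ct (LP (LK LD1_c4 LD2_c2 LD3_c31)) = (LP (LK LD1_c1 LD2_c58 LD3_c15)) :=
  Lre_c IH (LK LD1_c4 LD2_c2 LD3_c31) (LK LD1_c1 LD2_c58 LD3_c15) Lrfl Lrfl
theorem f46953 : Led Lsl_at (LP (LK LD1_c1 LD2_c58 LD3_c22)) = (LP (LK LD1_c1 LD2_c58 LD3_c15)) :=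
  Lgr Lrot33 (Lpe (f27846 IH) (Lpr_dt (f27839 IH) (Lpe (f27832 IH) (Lpr_dt (f27765 IH) (Lpr_ct (f27836 IH) (Lpr_dt (f27837 IH) (Lpr_ct (f27838 IH) (Lpr_dt (f46935 IH) (Lpr_ct (f46947 IH) (Lpn (LP (LK LD1_c1 LD2_c58 LD3_c15))))))))))))
theorem f46031 : Led Lsl_et (LP (LK LD1_c1 LD2_c58 LD3_c15)) = (LP (LK LD1_c4 LD2_c2 LD3_c32)) :=
  Lre_e IH (LK LD1_c1 LD2_c58 LD3_c15) (LK LD1_c4 LD2_c2 LD3_c32) Lrfl Lrfl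
theorem f46959 : Led Lsl_af (LP (LK LD1_c4 LD2_c2 LD3_c42)) = (LP (LK LD1_c4 LD2_c2 LD3_c32)) :=
  Lgr Lrot50 (Lpr_et (f45824 IH) (Lpr_at (f46953 IH) (Lpr_et (f46031 IH) (Lpn (LP (LK LD1_c4 LD2_c2 LD3_c32))))))
theorem f44763 : Led Lsl_bt (LP (LK LD1_c5 LD2_c19 LD3_c47)) = (LP (LK LD1_c2 LD2_c36 LD3_c46)) :=
  Lre_b IH (LK LD1_c5 LD2_c19 LD3_c47) (LK LD1_c2 LD2_c36 LD3_c46) Lrfl Lrfl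
theorem f45837 : Led Lsl_bf (LP (LK LD1_c8 LD2_c5 LD3_c47)) = (LP (LK LD1_c5 LD2_c19 LD3_c14)) :=
  Lgr Lrot24 (Lpr_bt (f45831 IH) (Lpn (LP (LK LD1_c5 LD2_c19 LD3_c14))))
theorem f46381 : Led Lsl_af (LP (LK LD1_c5 LD2_c19 LD3_c47)) = (LP (LK LD1_c8 LD2_c5 LD3_c47)) :=
  Lgr Lrot36 (Lpr_bt (f44763 IH) (Lpr_at (f46301 IH) (Lpr_bt (f44080 IH) (Lpr_at (f46373 IH) (Lpe (f45837 IH) (Lpn (LP (LK LD1_c8 LD2_c5 LD3_c47))))))))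
theorem f46972 : Led Lsl_ft (LP (LK LD1_c5 LD2_c19 LD3_c47)) = (LP (LK LD1_c4 LD2_c2 LD3_c32)) :=
  Lgr Lrot101 (Lpr_af (f46381 IH) (Lpe (f45830 IH) (Lpr_af (f46959 IH) (Lpn (LP (LK LD1_c4 LD2_c2 LD3_c32))))))
theorem f45896 : Led Lsl_dt (LP (LK LD1_c1 LD2_c15 LD3_c16)) = (LP (LK LD1_c2 LD2_c36 LD3_c33)) :=
  Lre_d IH (LK LD1_c1 LD2_c15 LD3_c16) (LK LD1_c2 LD2_c36 LD3_c33) Lrfl Lrfl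
theorem f46060 : Led Lsl_et (LP (LK LD1_c2 LD2_c36 LD3_c33)) = (LP (LK LD1_c5 LD2_c19 LD3_c47)) :=
  Lre_e IH (LK LD1_c2 LD2_c36 LD3_c33) (LK LD1_c5 LD2_c19 LD3_c47) Lrfl Lrfl
theorem f45891 : Led Lsl_dt (LP (LK LD1_c2 LD2_c36 LD3_c33)) = (LP (LK LD1_c1 LD2_c15 LD3_c16)) :=
  Lre_d IH (LK LD1_c2 LD2_c36 LD3_c33) (LK LD1_c1 LD2_c15 LD3_c16) Lrfl Lrfl
theorem f46061 : Led Lsl_et (LP (LK LD1_c5 LD2_c19 LD3_c47)) = (LP (LK LD1_c2 LD2_c36 LD3_c33)) :=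
  Lre_e IH (LK LD1_c5 LD2_c19 LD3_c47) (LK LD1_c2 LD2_c36 LD3_c33) Lrfl Lrfl
theorem f46062 : Led Lsl_dt (LP (LK LD1_c5 LD2_c19 LD3_c47)) = (LP (LK LD1_c5 LD2_c19 LD3_c47)) :=
  Lgr Lrot77 (Lpe (f46060 IH) (Lpe (f45896 IH) (Lpr_ef (f46054 IH) (Lpe (f45891 IH) (Lpe (f46061 IH) (Lpn (LP (LK LD1_c5 LD2_c19 LD3_c47))))))))
theorem f46024 : Led Lsl_ft (LP (LK LD1_c0 LD2_c25 LD3_c24)) = (LP (LK LD1_c0 LD2_c55 LD3_c61)) :=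
  Lre_f IH (LK LD1_c0 LD2_c25 LD3_c24) (LK LD1_c0 LD2_c55 LD3_c61) Lrfl Lrfl
theorem f28171 : Led Lsl_et (LP (LK LD1_c0 LD2_c25 LD3_c24)) = (LP (LK LD1_c0 LD2_c11 LD3_c18)) :=
  Lre_e IH (LK LD1_c0 LD2_c25 LD3_c24) (LK LD1_c0 LD2_c11 LD3_c18) Lrfl Lrfl
theorem f46025 : Led Lsl_ft (LP (LK LD1_c0 LD2_c55 LD3_c61)) = (LP (LK LD1_c0 LD2_c25 LD3_c24)) :=
  Lre_f IH (LK LD1_c0 LD2_c55 LD3_c61) (LK LD1_c0 LD2_c25 LD3_c24) Lrfl Lrfl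
theorem f46026 : Led Lsl_et (LP (LK LD1_c0 LD2_c55 LD3_c61)) = (LP (LK LD1_c0 LD2_c55 LD3_c61)) :=
  Lgr Lrot69 (Lpe (f46024 IH) (Lpe (f28180 IH) (Lpr_ff (f46016 IH) (Lpe (f28171 IH) (Lpe (f46025 IH) (Lpn (LP (LK LD1_c0 LD2_c55 LD3_c61))))))))
theorem f46028 : Led Lsl_dt (LP (LK LD1_c1 LD2_c58 LD3_c15)) = (LP (LK LD1_c0 LD2_c55 LD3_c61)) :=
  Lre_d IH (LK LD1_c1 LD2_c58 LD3_c15) (LK LD1_c0 LD2_c55 LD3_c61) Lrfl Lrfl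
theorem f46029 : Led Lsl_et (LP (LK LD1_c4 LD2_c2 LD3_c32)) = (LP (LK LD1_c1 LD2_c58 LD3_c15)) :=
  Lre_e IH (LK LD1_c4 LD2_c2 LD3_c32) (LK LD1_c1 LD2_c58 LD3_c15) Lrfl Lrfl
theorem f46030 : Led Lsl_dt (LP (LK LD1_c0 LD2_c55 LD3_c61)) = (LP (LK LD1_c1 LD2_c58 LD3_c15)) :=
  Lre_d IH (LK LD1_c0 LD2_c55 LD3_c61) (LK LD1_c1 LD2_c58 LD3_c15) Lrfl Lrfl
theorem f46032 : Led Lsl_df (LP (LK LD1_c4 LD2_c2 LD3_c32)) = (LP (LK LD1_c4 LD2_c2 LD3_c32)) :=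
  Lgr Lrot70 (Lpr_et (f46029 IH) (Lpr_dt (f46028 IH) (Lpr_et (f46026 IH) (Lpr_dt (f46030 IH) (Lpr_et (f46031 IH) (Lpn (LP (LK LD1_c4 LD2_c2 LD3_c32))))))))
theorem f46983 : Led Lsl_ff (LP (LK LD1_c5 LD2_c19 LD3_c47)) = (LP (LK LD1_c4 LD2_c2 LD3_c32)) :=
  Lgr Lrot19 (Lpr_dt (f46062 IH) (Lpr_ft (f46972 IH) (Lpe (f46032 IH) (Lpn (LP (LK LD1_c4 LD2_c2 LD3_c32))))))
theorem f45892 : Led Lsl_ft (LP (LK LD1_c2 LD2_c36 LD3_c33)) = (LP (LK LD1_c1 LD2_c15 LD3_c15)) :=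
  Lre_f IH (LK LD1_c2 LD2_c36 LD3_c33) (LK LD1_c1 LD2_c15 LD3_c15) Lrfl Lrfl
theorem f46576 : Led Lsl_ft (LP (LK LD1_c0 LD2_c55 LD3_c60)) = (LP (LK LD1_c1 LD2_c58 LD3_c15)) :=
  Lre_f IH (LK LD1_c0 LD2_c55 LD3_c60) (LK LD1_c1 LD2_c58 LD3_c15) Lrfl Lrfl
theorem f46985 : Led Lsl_et (LP (LK LD1_c1 LD2_c15 LD3_c15)) = (LP (LK LD1_c0 LD2_c55 LD3_c60)) :=
  Lgr Lrot69 (Lpe (f45892 IH) (Lpe (f46061 IH) (Lpr_ff (f46983 IH) (Lpe (f46031 IH) (Lpe (f46576 IH) (Lpn (LP (LK LD1_c0 LD2_c55 LD3_c60))))))))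
theorem f45886 : Led Lsl_ct (LP (LK LD1_c2 LD2_c36 LD3_c32)) = (LP (LK LD1_c1 LD2_c15 LD3_c15)) :=
  Lre_c IH (LK LD1_c2 LD2_c36 LD3_c32) (LK LD1_c1 LD2_c15 LD3_c15) Lrfl Lrfl
theorem f46572 : Led Lsl_ct (LP (LK LD1_c0 LD2_c55 LD3_c60)) = (LP (LK LD1_c1 LD2_c58 LD3_c14)) :=
  Lre_c IH (LK LD1_c0 LD2_c55 LD3_c60) (LK LD1_c1 LD2_c58 LD3_c14) Lrfl Lrfl
theorem f46989 : Led Lsl_ef (LP (LK LD1_c2 LD2_c36 LD3_c32)) = (LP (LK LD1_c1 LD2_c58 LD3_c14)) :=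
  Lgr Lrot28 (Lpr_ct (f45886 IH) (Lpr_et (f46985 IH) (Lpr_ct (f46572 IH) (Lpn (LP (LK LD1_c1 LD2_c58 LD3_c14))))))
theorem f47001 : Led Lsl_et (LP (LK LD1_c2 LD2_c36 LD3_c32)) = (LP (LK LD1_c1 LD2_c58 LD3_c14)) :=
  Lgr Lrot87 (Lpr_ef (f46989 IH) (Lpn (LP (LK LD1_c1 LD2_c58 LD3_c14))))
theorem f45903 : Led Lsl_dt (LP (LK LD1_c5 LD2_c19 LD3_c46)) = (LP (LK LD1_c2 LD2_c36 LD3_c32)) :=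
  Lre_d IH (LK LD1_c5 LD2_c19 LD3_c46) (LK LD1_c2 LD2_c36 LD3_c32) Lrfl Lrfl
theorem f47008 : Led Lsl_et (LP (LK LD1_c10 LD2_c29 LD3_c24)) = (LP (LK LD1_c5 LD2_c19 LD3_c46)) :=
  Lre_e IH (LK LD1_c10 LD2_c29 LD3_c24) (LK LD1_c5 LD2_c19 LD3_c46) Lrfl Lrfl
theorem f46606 : Led Lsl_dt (LP (LK LD1_c1 LD2_c58 LD3_c14)) = (LP (LK LD1_c4 LD2_c2 LD3_c30)) :=
  Lre_d IH (LK LD1_c1 LD2_c58 LD3_c14) (LK LD1_c4 LD2_c2 LD3_c30) Lrfl Lrfl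
theorem f46595 : Led Lsl_et (LP (LK LD1_c4 LD2_c2 LD3_c30)) = (LP (LK LD1_c8 LD2_c5 LD3_c37)) :=
  Lre_e IH (LK LD1_c4 LD2_c2 LD3_c30) (LK LD1_c8 LD2_c5 LD3_c37) Lrfl Lrfl
theorem f47009 : Led Lsl_df (LP (LK LD1_c10 LD2_c29 LD3_c24)) = (LP (LK LD1_c8 LD2_c5 LD3_c37)) :=
  Lgr Lrot70 (Lpr_et (f47008 IH) (Lpr_dt (f45903 IH) (Lpr_et (f47001 IH) (Lpr_dt (f46606 IH) (Lpr_et (f46595 IH) (Lpn (LP (LK LD1_c8 LD2_c5 LD3_c37))))))))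
theorem f46692 : Led Lsl_et (LP (LK LD1_c8 LD2_c26 LD3_c3)) = (LP (LK LD1_c4 LD2_c13 LD3_c33)) :=
  Lre_e IH (LK LD1_c8 LD2_c26 LD3_c3) (LK LD1_c4 LD2_c13 LD3_c33) Lrfl Lrfl
theorem f46693 : Led Lsl_et (LP (LK LD1_c4 LD2_c4 LD3_c57)) = (LP (LK LD1_c8 LD2_c10 LD3_c41)) :=
  Lre_e IH (LK LD1_c4 LD2_c4 LD3_c57) (LK LD1_c8 LD2_c10 LD3_c41) Lrfl Lrfl
theorem f46694 : Led Lsl_af (LP (LK LD1_c8 LD2_c26 LD3_c3)) = (LP (LK LD1_c8 LD2_c10 LD3_c41)) :=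
  Lgr Lrot50 (Lpr_et (f46692 IH) (Lpr_at (f46684 IH) (Lpr_et (f46693 IH) (Lpn (LP (LK LD1_c8 LD2_c10 LD3_c41))))))
theorem f46699 : Led Lsl_ct (LP (LK LD1_c8 LD2_c26 LD3_c3)) = (LP (LK LD1_c4 LD2_c13 LD3_c34)) :=
  Lre_c IH (LK LD1_c8 LD2_c26 LD3_c3) (LK LD1_c4 LD2_c13 LD3_c34) Lrfl Lrfl
theorem f46700 : Led Lsl_ct (LP (LK LD1_c4 LD2_c4 LD3_c58)) = (LP (LK LD1_c8 LD2_c10 LD3_c41)) :=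
  Lre_c IH (LK LD1_c4 LD2_c4 LD3_c58) (LK LD1_c8 LD2_c10 LD3_c41) Lrfl Lrfl
theorem f46701 : Led Lsl_at (LP (LK LD1_c4 LD2_c13 LD3_c34)) = (LP (LK LD1_c4 LD2_c4 LD3_c58)) :=
  Lgr Lrot107 (Lpe (f46699 IH) (Lpr_af (f46694 IH) (Lpe (f46700 IH) (Lpn (LP (LK LD1_c4 LD2_c4 LD3_c58))))))
theorem f46715 : Led Lsl_ft (LP (LK LD1_c8 LD2_c26 LD3_c6)) = (LP (LK LD1_c4 LD2_c13 LD3_c34)) :=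
  Lre_f IH (LK LD1_c8 LD2_c26 LD3_c6) (LK LD1_c4 LD2_c13 LD3_c34) Lrfl Lrfl
theorem f46716 : Led Lsl_ft (LP (LK LD1_c4 LD2_c4 LD3_c58)) = (LP (LK LD1_c8 LD2_c10 LD3_c44)) :=
  Lre_f IH (LK LD1_c4 LD2_c4 LD3_c58) (LK LD1_c8 LD2_c10 LD3_c44) Lrfl Lrfl
theorem f46717 : Led Lsl_af (LP (LK LD1_c8 LD2_c26 LD3_c6)) = (LP (LK LD1_c8 LD2_c10 LD3_c44)) :=
  Lgr Lrot45 (Lpr_ft (f46715 IH) (Lpr_at (f46701 IH) (Lpr_ft (f46716 IH) (Lpn (LP (LK LD1_c8 LD2_c10 LD3_c44))))))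
theorem f46734 : Led Lsl_et (LP (LK LD1_c8 LD2_c26 LD3_c6)) = (LP (LK LD1_c15 LD2_c50 LD3_c37)) :=
  Lre_e IH (LK LD1_c8 LD2_c26 LD3_c6) (LK LD1_c15 LD2_c50 LD3_c37) Lrfl Lrfl
theorem f46735 : Led Lsl_et (LP (LK LD1_c15 LD2_c23 LD3_c59)) = (LP (LK LD1_c8 LD2_c10 LD3_c44)) :=
  Lre_e IH (LK LD1_c15 LD2_c23 LD3_c59) (LK LD1_c8 LD2_c10 LD3_c44) Lrfl Lrfl
theorem f46736 : Led Lsl_at (LP (LK LD1_c15 LD2_c50 LD3_c37)) = (LP (LK LD1_c15 LD2_c23 LD3_c59)) :=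
  Lgr Lrot80 (Lpe (f46734 IH) (Lpr_af (f46717 IH) (Lpe (f46735 IH) (Lpn (LP (LK LD1_c15 LD2_c23 LD3_c59))))))
theorem f46745 : Led Lsl_af (LP (LK LD1_c15 LD2_c50 LD3_c37)) = (LP (LK LD1_c15 LD2_c23 LD3_c59)) :=
  Lgr Lrot0 (Lpr_at (f46736 IH) (Lpn (LP (LK LD1_c15 LD2_c23 LD3_c59))))
theorem f46755 : Led Lsl_ft (LP (LK LD1_c15 LD2_c50 LD3_c37)) = (LP (LK LD1_c8 LD2_c26 LD3_c7)) :=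
  Lre_f IH (LK LD1_c15 LD2_c50 LD3_c37) (LK LD1_c8 LD2_c26 LD3_c7) Lrfl Lrfl
theorem f46756 : Led Lsl_ft (LP (LK LD1_c8 LD2_c10 LD3_c45)) = (LP (LK LD1_c15 LD2_c23 LD3_c59)) :=
  Lre_f IH (LK LD1_c8 LD2_c10 LD3_c45) (LK LD1_c15 LD2_c23 LD3_c59) Lrfl Lrfl
theorem f46757 : Led Lsl_at (LP (LK LD1_c8 LD2_c26 LD3_c7)) = (LP (LK LD1_c8 LD2_c10 LD3_c45)) :=
  Lgr Lrot66 (Lpe (f46755 IH) (Lpr_af (f46745 IH) (Lpe (f46756 IH) (Lpn (LP (LK LD1_c8 LD2_c10 LD3_c45))))))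
theorem f46596 : Led Lsl_et (LP (LK LD1_c8 LD2_c26 LD3_c7)) = (LP (LK LD1_c4 LD2_c13 LD3_c35)) :=
  Lre_e IH (LK LD1_c8 LD2_c26 LD3_c7) (LK LD1_c4 LD2_c13 LD3_c35) Lrfl Lrfl
theorem f46597 : Led Lsl_ct (LP (LK LD1_c8 LD2_c5 LD3_c37)) = (LP (LK LD1_c8 LD2_c26 LD3_c7)) :=
  Lgr Lrot15 (Lpe (f46595 IH) (Lpr_cf (f46583 IH) (Lpe (f46596 IH) (Lpn (LP (LK LD1_c8 LD2_c26 LD3_c7))))))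
theorem f46642 : Led Lsl_et (LP (LK LD1_c4 LD2_c4 LD3_c59)) = (LP (LK LD1_c8 LD2_c10 LD3_c45)) :=
  Lre_e IH (LK LD1_c4 LD2_c4 LD3_c59) (LK LD1_c8 LD2_c10 LD3_c45) Lrfl Lrfl
theorem f46656 : Led Lsl_et (LP (LK LD1_c8 LD2_c5 LD3_c59)) = (LP (LK LD1_c4 LD2_c2 LD3_c40)) :=
  Lre_e IH (LK LD1_c8 LD2_c5 LD3_c59) (LK LD1_c4 LD2_c2 LD3_c40) Lrfl Lrfl
theorem f46657 : Led Lsl_ct (LP (LK LD1_c8 LD2_c10 LD3_c45)) = (LP (LK LD1_c8 LD2_c5 LD3_c59)) :=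
  Lgr Lrot15 (Lpe (f46642 IH) (Lpr_cf (f46646 IH) (Lpe (f46656 IH) (Lpn (LP (LK LD1_c8 LD2_c5 LD3_c59))))))
theorem f46761 : Led Lsl_af (LP (LK LD1_c8 LD2_c5 LD3_c37)) = (LP (LK LD1_c8 LD2_c5 LD3_c59)) :=
  Lgr Lrot68 (Lpr_ct (f46597 IH) (Lpr_at (f46757 IH) (Lpr_ct (f46657 IH) (Lpn (LP (LK LD1_c8 LD2_c5 LD3_c59))))))
theorem f46774 : Led Lsl_dt (LP (LK LD1_c15 LD2_c14 LD3_c39)) = (LP (LK LD1_c8 LD2_c5 LD3_c59)) :=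
  Lre_d IH (LK LD1_c15 LD2_c14 LD3_c39) (LK LD1_c8 LD2_c5 LD3_c59) Lrfl Lrfl
theorem f47011 : Led Lsl_at (LP (LK LD1_c10 LD2_c29 LD3_c24)) = (LP (LK LD1_c15 LD2_c14 LD3_c39)) :=
  Lgr Lrot51 (Lpr_df (f47009 IH) (Lpr_af (f46761 IH) (Lpe (f46774 IH) (Lpn (LP (LK LD1_c15 LD2_c14 LD3_c39))))))
theorem f46998 : Led Lsl_et (LP (LK LD1_c5 LD2_c19 LD3_c46)) = (LP (LK LD1_c10 LD2_c29 LD3_c24)) :=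
  Lre_e IH (LK LD1_c5 LD2_c19 LD3_c46) (LK LD1_c10 LD2_c29 LD3_c24) Lrfl Lrfl
theorem f46557 : Led Lsl_et (LP (LK LD1_c15 LD2_c14 LD3_c39)) = (LP (LK LD1_c8 LD2_c5 LD3_c45)) :=
  Lre_e IH (LK LD1_c15 LD2_c14 LD3_c39) (LK LD1_c8 LD2_c5 LD3_c45) Lrfl Lrfl
theorem f47026 : Led Lsl_af (LP (LK LD1_c5 LD2_c19 LD3_c46)) = (LP (LK LD1_c8 LD2_c5 LD3_c45)) :=
  Lgr Lrot50 (Lpr_et (f46998 IH) (Lpr_at (f47011 IH) (Lpr_et (f46557 IH) (Lpn (LP (LK LD1_c8 LD2_c5 LD3_c45))))))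
theorem f45901 : Led Lsl_dt (LP (LK LD1_c4 LD2_c2 LD3_c35)) = (LP (LK LD1_c8 LD2_c5 LD3_c45)) :=
  Lre_d IH (LK LD1_c4 LD2_c2 LD3_c35) (LK LD1_c8 LD2_c5 LD3_c45) Lrfl Lrfl
theorem f47034 : Led Lsl_at (LP (LK LD1_c2 LD2_c36 LD3_c32)) = (LP (LK LD1_c4 LD2_c2 LD3_c35)) :=
  Lgr Lrot51 (Lpe (f45903 IH) (Lpr_af (f47026 IH) (Lpe (f45901 IH) (Lpn (LP (LK LD1_c4 LD2_c2 LD3_c35))))))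
theorem f47039 : Led Lsl_et (LP (LK LD1_c4 LD2_c2 LD3_c35)) = (LP (LK LD1_c1 LD2_c58 LD3_c21)) :=
  Lre_e IH (LK LD1_c4 LD2_c2 LD3_c35) (LK LD1_c1 LD2_c58 LD3_c21) Lrfl Lrfl
theorem f47040 : Led Lsl_af (LP (LK LD1_c1 LD2_c58 LD3_c14)) = (LP (LK LD1_c1 LD2_c58 LD3_c21)) :=
  Lgr Lrot50 (Lpe (f46989 IH) (Lpr_at (f47034 IH) (Lpr_et (f47039 IH) (Lpn (LP (LK LD1_c1 LD2_c58 LD3_c21))))))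
theorem f47045 : Led Lsl_ft (LP (LK LD1_c4 LD2_c2 LD3_c41)) = (LP (LK LD1_c1 LD2_c58 LD3_c21)) :=
  Lre_f IH (LK LD1_c4 LD2_c2 LD3_c41) (LK LD1_c1 LD2_c58 LD3_c21) Lrfl Lrfl
theorem f27841 : Led Lsl_dt (LP (LK LD1_c4 LD2_c2 LD3_c40)) = (LP (LK LD1_c1 LD2_c58 LD3_c21)) :=
  Lre_d IH (LK LD1_c4 LD2_c2 LD3_c40) (LK LD1_c1 LD2_c58 LD3_c21) Lrfl Lrfl
theorem f46661 : Led Lsl_ft (LP (LK LD1_c1 LD2_c58 LD3_c21)) = (LP (LK LD1_c4 LD2_c2 LD3_c41)) :=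
  Lre_f IH (LK LD1_c1 LD2_c58 LD3_c21) (LK LD1_c4 LD2_c2 LD3_c41) Lrfl Lrfl
theorem f46669 : Led Lsl_df (LP (LK LD1_c4 LD2_c4 LD3_c57)) = (LP (LK LD1_c4 LD2_c2 LD3_c41)) :=
  Lgr Lrot78 (Lpr_ft (f46659 IH) (Lpr_dt (f27841 IH) (Lpr_ft (f46661 IH) (Lpn (LP (LK LD1_c4 LD2_c2 LD3_c41))))))
theorem f46691 : Led Lsl_ct (LP (LK LD1_c4 LD2_c4 LD3_c57)) = (LP (LK LD1_c1 LD2_c59 LD3_c34)) :=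
  Lre_c IH (LK LD1_c4 LD2_c4 LD3_c57) (LK LD1_c1 LD2_c59 LD3_c34) Lrfl Lrfl
theorem f46876 : Led Lsl_dt (LP (LK LD1_c1 LD2_c59 LD3_c34)) = (LP (LK LD1_c0 LD2_c56 LD3_c41)) :=
  Lre_d IH (LK LD1_c1 LD2_c59 LD3_c34) (LK LD1_c0 LD2_c56 LD3_c41) Lrfl Lrfl
theorem f46617 : Led Lsl_ct (LP (LK LD1_c0 LD2_c56 LD3_c41)) = (LP (LK LD1_c0 LD2_c25 LD3_c41)) :=
  Lre_c IH (LK LD1_c0 LD2_c56 LD3_c41) (LK LD1_c0 LD2_c25 LD3_c41) Lrfl Lrfl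
theorem f36400 : Led Lsl_dt (LP (LK LD1_c0 LD2_c25 LD3_c41)) = (LP (LK LD1_c0 LD2_c11 LD3_c26)) :=
  Lre_d IH (LK LD1_c0 LD2_c25 LD3_c41) (LK LD1_c0 LD2_c11 LD3_c26) Lrfl Lrfl
theorem f47046 : Led Lsl_cf (LP (LK LD1_c0 LD2_c25 LD3_c24)) = (LP (LK LD1_c0 LD2_c11 LD3_c26)) :=
  Lgr Lrot161 (Lpr_dt (f28172 IH) (Lpr_ct (f46572 IH) (Lpr_af (f47040 IH) (Lpe (f47045 IH) (Lpe (f46669 IH) (Lpr_ct (f46691 IH) (Lpr_dt (f46876 IH) (Lpr_ct (f46617 IH) (Lpr_dt (f36400 IH) (Lpn (LP (LK LD1_c0 LD2_c11 LD3_c26))))))))))))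
theorem f47048 : Led Lsl_bt (LP (LK LD1_c0 LD2_c5 LD3_c21)) = (LP (LK LD1_c0 LD2_c11 LD3_c26)) :=
  Lre_b IH (LK LD1_c0 LD2_c5 LD3_c21) (LK LD1_c0 LD2_c11 LD3_c26) Lrfl Lrfl
theorem f47049 : Led Lsl_ct (LP (LK LD1_c0 LD2_c11 LD3_c28)) = (LP (LK LD1_c0 LD2_c5 LD3_c21)) :=
  Lre_c IH (LK LD1_c0 LD2_c11 LD3_c28) (LK LD1_c0 LD2_c5 LD3_c21) Lrfl Lrfl
theorem f47050 : Led Lsl_bt (LP (LK LD1_c0 LD2_c25 LD3_c46)) = (LP (LK LD1_c0 LD2_c11 LD3_c28)) :=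
  Lre_b IH (LK LD1_c0 LD2_c25 LD3_c46) (LK LD1_c0 LD2_c11 LD3_c28) Lrfl Lrfl
theorem f47051 : Led Lsl_bt (LP (LK LD1_c0 LD2_c25 LD3_c24)) = (LP (LK LD1_c0 LD2_c28 LD3_c29)) :=
  Lgr Lrot128 (Lpr_cf (f47046 IH) (Lpe (f47048 IH) (Lpe (f47049 IH) (Lpe (f47050 IH) (Lpr_cf (f41864 IH) (Lpn (LP (LK LD1_c0 LD2_c28 LD3_c29))))))))
theorem f46083 : Led Lsl_ft (LP (LK LD1_c0 LD2_c28 LD3_c29)) = (LP (LK LD1_c1 LD2_c2 LD3_c29)) :=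
  Lre_f IH (LK LD1_c0 LD2_c28 LD3_c29) (LK LD1_c1 LD2_c2 LD3_c29) Lrfl Lrfl
theorem f47094 : Led Lsl_bf (LP (LK LD1_c0 LD2_c55 LD3_c61)) = (LP (LK LD1_c1 LD2_c2 LD3_c29)) :=
  Lgr Lrot61 (Lpr_ft (f46025 IH) (Lpr_bt (f47051 IH) (Lpr_ft (f46083 IH) (Lpn (LP (LK LD1_c1 LD2_c2 LD3_c29))))))
theorem f47096 : Led Lsl_bt (LP (LK LD1_c0 LD2_c55 LD3_c61)) = (LP (LK LD1_c1 LD2_c2 LD3_c29)) :=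
  Lgr Lrot127 (Lpr_bf (f47094 IH) (Lpn (LP (LK LD1_c1 LD2_c2 LD3_c29))))
theorem f46654 : Led Lsl_ct (LP (LK LD1_c1 LD2_c59 LD3_c35)) = (LP (LK LD1_c0 LD2_c56 LD3_c42)) :=
  Lre_c IH (LK LD1_c1 LD2_c59 LD3_c35) (LK LD1_c0 LD2_c56 LD3_c42) Lrfl Lrfl
theorem f46655 : Led Lsl_dt (LP (LK LD1_c0 LD2_c56 LD3_c42)) = (LP (LK LD1_c0 LD2_c25 LD3_c42)) :=
  Lre_d IH (LK LD1_c0 LD2_c56 LD3_c42) (LK LD1_c0 LD2_c25 LD3_c42) Lrfl Lrfl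
theorem f46932 : Led Lsl_ct (LP (LK LD1_c1 LD2_c58 LD3_c15)) = (LP (LK LD1_c4 LD2_c2 LD3_c31)) :=
  Lre_c IH (LK LD1_c1 LD2_c58 LD3_c15) (LK LD1_c4 LD2_c2 LD3_c31) Lrfl Lrfl
theorem f46933 : Led Lsl_ct (LP (LK LD1_c0 LD2_c25 LD3_c42)) = (LP (LK LD1_c0 LD2_c55 LD3_c61)) :=
  Lgr Lrot176 (Lpe (f46655 IH) (Lpe (f46654 IH) (Lpe (f46636 IH) (Lpr_cf (f46646 IH) (Lpe (f27873 IH) (Lpe (f27872 IH) (Lpe (f27871 IH) (Lpe (f27834 IH) (Lpe (f27847 IH) (Lpe (f27850 IH) (Lpe (f27869 IH) (Lpe (f27870 IH) (Lpr_df (f46901 IH) (Lpe (f46932 IH) (Lpe (f46030 IH) (Lpn (LP (LK LD1_c0 LD2_c55 LD3_c61))))))))))))))))))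
theorem f47088 : Led Lsl_bt (LP (LK LD1_c0 LD2_c11 LD3_c32)) = (LP (LK LD1_c0 LD2_c25 LD3_c42)) :=
  Lre_b IH (LK LD1_c0 LD2_c11 LD3_c32) (LK LD1_c0 LD2_c25 LD3_c42) Lrfl Lrfl
theorem f47089 : Led Lsl_ct (LP (LK LD1_c0 LD2_c25 LD3_c48)) = (LP (LK LD1_c0 LD2_c11 LD3_c32)) :=
  Lre_c IH (LK LD1_c0 LD2_c25 LD3_c48) (LK LD1_c0 LD2_c11 LD3_c32) Lrfl Lrfl
theorem f47103 : Led Lsl_bt (LP (LK LD1_c0 LD2_c56 LD3_c51)) = (LP (LK LD1_c0 LD2_c25 LD3_c48)) :=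
  Lre_b IH (LK LD1_c0 LD2_c56 LD3_c51) (LK LD1_c0 LD2_c25 LD3_c48) Lrfl Lrfl
theorem f47104 : Led Lsl_cf (LP (LK LD1_c0 LD2_c56 LD3_c51)) = (LP (LK LD1_c1 LD2_c2 LD3_c29)) :=
  Lgr Lrot97 (Lpr_bt (f47103 IH) (Lpr_ct (f47089 IH) (Lpr_bt (f47088 IH) (Lpr_ct (f46933 IH) (Lpr_bt (f47096 IH) (Lpn (LP (LK LD1_c1 LD2_c2 LD3_c29))))))))
theorem f44759 : Led Lsl_bt (LP (LK LD1_c2 LD2_c36 LD3_c46)) = (LP (LK LD1_c5 LD2_c19 LD3_c47)) :=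
  Lre_b IH (LK LD1_c2 LD2_c36 LD3_c46) (LK LD1_c5 LD2_c19 LD3_c47) Lrfl Lrfl
theorem f46064 : Led Lsl_df (LP (LK LD1_c2 LD2_c36 LD3_c46)) = (LP (LK LD1_c2 LD2_c36 LD3_c46)) :=
  Lgr Lrot12 (Lpr_bt (f44759 IH) (Lpr_dt (f46062 IH) (Lpr_bt (f44763 IH) (Lpn (LP (LK LD1_c2 LD2_c36 LD3_c46))))))
theorem f28298 : Led Lsl_ft (LP (LK LD1_c1 LD2_c15 LD3_c21)) = (LP (LK LD1_c0 LD2_c34 LD3_c57)) :=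
  Lre_f IH (LK LD1_c1 LD2_c15 LD3_c21) (LK LD1_c0 LD2_c34 LD3_c57) Lrfl Lrfl
theorem f44753 : Led Lsl_et (LP (LK LD1_c2 LD2_c10 LD3_c57)) = (LP (LK LD1_c4 LD2_c27 LD3_c31)) :=
  Lre_e IH (LK LD1_c2 LD2_c10 LD3_c57) (LK LD1_c4 LD2_c27 LD3_c31) Lrfl Lrfl
theorem f44754 : Led Lsl_ff (LP (LK LD1_c2 LD2_c36 LD3_c46)) = (LP (LK LD1_c4 LD2_c27 LD3_c31)) :=
  Lgr Lrot72 (Lpr_et (f44751 IH) (Lpr_ft (f28298 IH) (Lpr_et (f44592 IH) (Lpr_ft (f44752 IH) (Lpr_et (f44753 IH) (Lpn (LP (LK LD1_c4 LD2_c27 LD3_c31))))))))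
theorem f44761 : Led Lsl_ft (LP (LK LD1_c2 LD2_c36 LD3_c46)) = (LP (LK LD1_c4 LD2_c27 LD3_c31)) :=
  Lgr Lrot48 (Lpr_ff (f44754 IH) (Lpn (LP (LK LD1_c4 LD2_c27 LD3_c31))))
theorem f46068 : Led Lsl_dt (LP (LK LD1_c4 LD2_c27 LD3_c31)) = (LP (LK LD1_c4 LD2_c27 LD3_c31)) :=
  Lgr Lrot60 (Lpe (f44761 IH) (Lpr_df (f46064 IH) (Lpr_ff (f44754 IH) (Lpn (LP (LK LD1_c4 LD2_c27 LD3_c31))))))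
theorem f44767 : Led Lsl_et (LP (LK LD1_c4 LD2_c27 LD3_c31)) = (LP (LK LD1_c2 LD2_c10 LD3_c57)) :=
  Lre_e IH (LK LD1_c4 LD2_c27 LD3_c31) (LK LD1_c2 LD2_c10 LD3_c57) Lrfl Lrfl
theorem f46079 : Led Lsl_dt (LP (LK LD1_c2 LD2_c10 LD3_c57)) = (LP (LK LD1_c1 LD2_c2 LD3_c29)) :=
  Lre_d IH (LK LD1_c2 LD2_c10 LD3_c57) (LK LD1_c1 LD2_c2 LD3_c29) Lrfl Lrfl
theorem f46080 : Led Lsl_ef (LP (LK LD1_c1 LD2_c2 LD3_c29)) = (LP (LK LD1_c1 LD2_c2 LD3_c29)) :=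
  Lgr Lrot73 (Lpr_dt (f46078 IH) (Lpr_et (f44753 IH) (Lpr_dt (f46068 IH) (Lpr_et (f44767 IH) (Lpr_dt (f46079 IH) (Lpn (LP (LK LD1_c1 LD2_c2 LD3_c29))))))))
theorem f46202 : Led Lsl_at (LP (LK LD1_c1 LD2_c59 LD3_c43)) = (LP (LK LD1_c0 LD2_c56 LD3_c51)) :=
  Lre_a IH (LK LD1_c1 LD2_c59 LD3_c43) (LK LD1_c0 LD2_c56 LD3_c51) Lrfl Lrfl
theorem f46159 : Led Lsl_at (LP (LK LD1_c1 LD2_c2 LD3_c29)) = (LP (LK LD1_c1 LD2_c2 LD3_c26)) :=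
  Lgr Lrot100 (Lpr_af (f46155 IH) (Lpn (LP (LK LD1_c1 LD2_c2 LD3_c26))))
theorem f46203 : Led Lsl_ct (LP (LK LD1_c0 LD2_c56 LD3_c51)) = (LP (LK LD1_c1 LD2_c2 LD3_c29)) :=
  Lgr Lrot111 (Lpe (f46202 IH) (Lpr_cf (f46196 IH) (Lpe (f46159 IH) (Lpn (LP (LK LD1_c1 LD2_c2 LD3_c29))))))
theorem f47188 : Led Lsl_et (LP (LK LD1_c0 LD2_c56 LD3_c51)) = (LP (LK LD1_c0 LD2_c56 LD3_c51)) :=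
  Lgr Lrot158 (Lpr_cf (f47104 IH) (Lpr_ef (f46080 IH) (Lpe (f46203 IH) (Lpn (LP (LK LD1_c0 LD2_c56 LD3_c51))))))
theorem f46198 : Led Lsl_ft (LP (LK LD1_c0 LD2_c25 LD3_c46)) = (LP (LK LD1_c0 LD2_c56 LD3_c51)) :=
  Lre_f IH (LK LD1_c0 LD2_c25 LD3_c46) (LK LD1_c0 LD2_c56 LD3_c51) Lrfl Lrfl
theorem f47414 : Led Lsl_et (LP (LK LD1_c0 LD2_c11 LD3_c27)) = (LP (LK LD1_c0 LD2_c25 LD3_c46)) :=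
  Lre_e IH (LK LD1_c0 LD2_c11 LD3_c27) (LK LD1_c0 LD2_c25 LD3_c46) Lrfl Lrfl
theorem f47190 : Led Lsl_ft (LP (LK LD1_c0 LD2_c56 LD3_c51)) = (LP (LK LD1_c0 LD2_c25 LD3_c46)) :=
  Lre_f IH (LK LD1_c0 LD2_c56 LD3_c51) (LK LD1_c0 LD2_c25 LD3_c46) Lrfl Lrfl
theorem f47429 : Led Lsl_ff (LP (LK LD1_c0 LD2_c11 LD3_c27)) = (LP (LK LD1_c0 LD2_c11 LD3_c27)) :=
  Lgr Lrot72 (Lpr_et (f47414 IH) (Lpr_ft (f46198 IH) (Lpr_et (f47188 IH) (Lpr_ft (f47190 IH) (Lpr_et (f41862 IH) (Lpn (LP (LK LD1_c0 LD2_c11 LD3_c27))))))))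
theorem f46145 : Led Lsl_at (LP (LK LD1_c0 LD2_c11 LD3_c27)) = (LP (LK LD1_c0 LD2_c25 LD3_c45)) :=
  Lre_a IH (LK LD1_c0 LD2_c11 LD3_c27) (LK LD1_c0 LD2_c25 LD3_c45) Lrfl Lrfl
theorem f6963 : Led Lsl_gt (LP (LK LD1_c0 LD2_c11 LD3_c27)) = (LP (LK LD1_c0 LD2_c25 LD3_c43)) :=
  Lre_g IH (LK LD1_c0 LD2_c11 LD3_c27) (LK LD1_c0 LD2_c25 LD3_c43) Lrfl Lrfl
theorem f47435 : Led Lsl_gf (LP (LK LD1_c0 LD2_c25 LD3_c45)) = (LP (LK LD1_c0 LD2_c25 LD3_c43)) :=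
  Lgr Lrot76 (Lpe (f46145 IH) (Lpr_ff (f47429 IH) (Lpr_gt (f6963 IH) (Lpn (LP (LK LD1_c0 LD2_c25 LD3_c43))))))
theorem f46228 : Led Lsl_et (LP (LK LD1_c0 LD2_c25 LD3_c45)) = (LP (LK LD1_c0 LD2_c56 LD3_c47)) :=
  Lre_e IH (LK LD1_c0 LD2_c25 LD3_c45) (LK LD1_c0 LD2_c56 LD3_c47) Lrfl Lrfl
theorem f46229 : Led Lsl_cf (LP (LK LD1_c0 LD2_c25 LD3_c45)) = (LP (LK LD1_c0 LD2_c12 LD3_c34)) :=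
  Lgr Lrot39 (Lpr_et (f46228 IH) (Lpr_ct (f46212 IH) (Lpr_et (f44048 IH) (Lpn (LP (LK LD1_c0 LD2_c12 LD3_c34))))))
theorem f44242 : Led Lsl_bt (LP (LK LD1_c0 LD2_c12 LD3_c34)) = (LP (LK LD1_c0 LD2_c28 LD3_c27)) :=
  Lre_b IH (LK LD1_c0 LD2_c12 LD3_c34) (LK LD1_c0 LD2_c28 LD3_c27) Lrfl Lrfl
theorem f33406 : Led Lsl_bt (LP (LK LD1_c0 LD2_c15 LD3_c26)) = (LP (LK LD1_c0 LD2_c34 LD3_c23)) :=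
  Lre_b IH (LK LD1_c0 LD2_c15 LD3_c26) (LK LD1_c0 LD2_c34 LD3_c23) Lrfl Lrfl
theorem f45097 : Led Lsl_dt (LP (LK LD1_c0 LD2_c34 LD3_c23)) = (LP (LK LD1_c0 LD2_c27 LD3_c6)) :=
  Lgr Lrot79 (Lpe (f33406 IH) (Lpr_df (f45092 IH) (Lpe (f749 IH) (Lpn (LP (LK LD1_c0 LD2_c27 LD3_c6))))))
theorem f45734 : Led Lsl_gf (LP (LK LD1_c0 LD2_c34 LD3_c23)) = (LP (LK LD1_c0 LD2_c28 LD3_c27)) :=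
  Lgr Lrot144 (Lpr_dt (f45097 IH) (Lpr_gt (f45726 IH) (Lpr_dt (f29029 IH) (Lpe (f29004 IH) (Lpr_df (f42109 IH) (Lpe (K0.f6968 IH) (Lpr_df (f29061 IH) (Lpe (f41532 IH) (Lpr_cf (f44289 IH) (Lpn (LP (LK LD1_c0 LD2_c28 LD3_c27))))))))))))
theorem f32326 : Led Lsl_ct (LP (LK LD1_c0 LD2_c15 LD3_c26)) = (LP (LK LD1_c0 LD2_c34 LD3_c24)) :=
  Lre_c IH (LK LD1_c0 LD2_c15 LD3_c26) (LK LD1_c0 LD2_c34 LD3_c24) Lrfl Lrfl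
theorem f33407 : Led Lsl_af (LP (LK LD1_c0 LD2_c34 LD3_c21)) = (LP (LK LD1_c0 LD2_c34 LD3_c24)) :=
  Lgr Lrot68 (Lpr_ct (f32313 IH) (Lpr_at (f33402 IH) (Lpr_ct (f32326 IH) (Lpn (LP (LK LD1_c0 LD2_c34 LD3_c24))))))
theorem f33416 : Led Lsl_ft (LP (LK LD1_c0 LD2_c34 LD3_c24)) = (LP (LK LD1_c0 LD2_c34 LD3_c24)) :=
  Lgr Lrot4 (Lpe (f32326 IH) (Lpr_ff (f33412 IH) (Lpe (f32327 IH) (Lpn (LP (LK LD1_c0 LD2_c34 LD3_c24))))))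
theorem f45718 : Led Lsl_gt (LP (LK LD1_c0 LD2_c34 LD3_c24)) = (LP (LK LD1_c0 LD2_c26 LD3_c59)) :=
  Lgr Lrot5 (Lpr_ft (f33416 IH) (Lpe (f33407 IH) (Lpr_gf (f45716 IH) (Lpn (LP (LK LD1_c0 LD2_c26 LD3_c59))))))
theorem f43344 : Led Lsl_ct (LP (LK LD1_c0 LD2_c56 LD3_c44)) = (LP (LK LD1_c0 LD2_c25 LD3_c43)) :=
  Lre_c IH (LK LD1_c0 LD2_c56 LD3_c44) (LK LD1_c0 LD2_c25 LD3_c43) Lrfl Lrfl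
theorem f47445 : Led Lsl_gt (LP (LK LD1_c0 LD2_c59 LD3_c8)) = (LP (LK LD1_c0 LD2_c56 LD3_c44)) :=
  Lgr Lrot82 (Lpe (f44512 IH) (Lpr_ct (f45706 IH) (Lpe (f45718 IH) (Lpe (f32326 IH) (Lpr_bt (f33406 IH) (Lpr_gf (f45734 IH) (Lpe (f44242 IH) (Lpe (f46229 IH) (Lpr_gf (f47435 IH) (Lpe (f43344 IH) (Lpn (LP (LK LD1_c0 LD2_c56 LD3_c44)))))))))))))
theorem f32132 : Led Lsl_gt (LP (LK LD1_c0 LD2_c34 LD3_c39)) = (LP (LK LD1_c0 LD2_c34 LD3_c37)) :=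
  Lgr Lrot46 (Lpe (f28503 IH) (Lpr_ft (f32123 IH) (Lpr_at (f32127 IH) (Lpn (LP (LK LD1_c0 LD2_c34 LD3_c37))))))
theorem f47459 : Led Lsl_bt (LP (LK LD1_c0 LD2_c57 LD3_c37)) = (LP (LK LD1_c0 LD2_c56 LD3_c44)) :=
  Lgr Lrot92 (Lpr_ct (f44927 IH) (Lpr_gt (f32132 IH) (Lpe (f32134 IH) (Lpr_bt (f32436 IH) (Lpe (f32324 IH) (Lpr_ct (f32326 IH) (Lpr_gt (f45718 IH) (Lpe (f45706 IH) (Lpr_bt (f44512 IH) (Lpr_gt (f47445 IH) (Lpn (LP (LK LD1_c0 LD2_c56 LD3_c44)))))))))))))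
theorem f32155 : Led Lsl_gt (LP (LK LD1_c0 LD2_c15 LD3_c31)) = (LP (LK LD1_c0 LD2_c7 LD3_c2)) :=
  Lre_g IH (LK LD1_c0 LD2_c15 LD3_c31) (LK LD1_c0 LD2_c7 LD3_c2) Lrfl Lrfl
theorem f32158 : Led Lsl_bt (LP (LK LD1_c0 LD2_c34 LD3_c35)) = (LP (LK LD1_c0 LD2_c15 LD3_c31)) :=
  Lre_b IH (LK LD1_c0 LD2_c34 LD3_c35) (LK LD1_c0 LD2_c15 LD3_c31) Lrfl Lrfl
theorem f44920 : Led Lsl_dt (LP (LK LD1_c0 LD2_c34 LD3_c21)) = (LP (LK LD1_c0 LD2_c34 LD3_c39)) :=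
  Lgr Lrot42 (Lpr_df (f44916 IH) (Lpn (LP (LK LD1_c0 LD2_c34 LD3_c39))))
theorem f6962 : Led Lsl_bt (LP (LK LD1_c0 LD2_c5 LD3_c20)) = (LP (LK LD1_c0 LD2_c11 LD3_c27)) :=
  Lre_b IH (LK LD1_c0 LD2_c5 LD3_c20) (LK LD1_c0 LD2_c11 LD3_c27) Lrfl Lrfl
theorem f41858 : Led Lsl_bf (LP (LK LD1_c0 LD2_c11 LD3_c18)) = (LP (LK LD1_c0 LD2_c12 LD3_c35)) :=
  Lgr Lrot90 (Lpr_ct (K0.f28178 IH) (Lpr_bt (K0.f27780 IH) (Lpr_ct (K0.f6959 IH) (Lpr_bt (f6962 IH) (Lpr_ct (f41854 IH) (Lpn (LP (LK LD1_c0 LD2_c12 LD3_c35))))))))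
theorem f41296 : Led Lsl_dt (LP (LK LD1_c0 LD2_c15 LD3_c42)) = (LP (LK LD1_c0 LD2_c7 LD3_c6)) :=
  Lre_d IH (LK LD1_c0 LD2_c15 LD3_c42) (LK LD1_c0 LD2_c7 LD3_c6) Lrfl Lrfl
theorem f43911 : Led Lsl_dt (LP (LK LD1_c0 LD2_c24 LD3_c41)) = (LP (LK LD1_c0 LD2_c14 LD3_c28)) :=
  Lgr Lrot42 (Lpr_df (f43907 IH) (Lpn (LP (LK LD1_c0 LD2_c14 LD3_c28))))
theorem f44313 : Led Lsl_dt (LP (LK LD1_c0 LD2_c6 LD3_c39)) = (LP (LK LD1_c0 LD2_c11 LD3_c27)) :=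
  Lgr Lrot105 (Lpe (f31432 IH) (Lpe (f43911 IH) (Lpr_gf (f41377 IH) (Lpe (f41875 IH) (Lpe (f42130 IH) (Lpr_dt (f41296 IH) (Lpr_gt (f44306 IH) (Lpe (f44311 IH) (Lpe (f41854 IH) (Lpn (LP (LK LD1_c0 LD2_c11 LD3_c27))))))))))))
theorem f44950 : Led Lsl_bf (LP (LK LD1_c0 LD2_c26 LD3_c12)) = (LP (LK LD1_c0 LD2_c24 LD3_c41)) :=
  Lgr Lrot90 (Lpr_ct (f33091 IH) (Lpr_bt (f44948 IH) (Lpr_ct (K0.f27787 IH) (Lpr_bt (K0.f27540 IH) (Lpe (f43214 IH) (Lpn (LP (LK LD1_c0 LD2_c24 LD3_c41))))))))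
theorem f45060 : Led Lsl_bf (LP (LK LD1_c0 LD2_c14 LD3_c28)) = (LP (LK LD1_c0 LD2_c26 LD3_c56)) :=
  Lgr Lrot93 (Lpe (f43907 IH) (Lpe (f44950 IH) (Lpr_dt (f44963 IH) (Lpn (LP (LK LD1_c0 LD2_c26 LD3_c56))))))
theorem f8084 : Led Lsl_ct (LP (LK LD1_c0 LD2_c59 LD3_c6)) = (LP (LK LD1_c0 LD2_c26 LD3_c56)) :=
  Lre_c IH (LK LD1_c0 LD2_c59 LD3_c6) (LK LD1_c0 LD2_c26 LD3_c56) Lrfl Lrfl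
theorem f27391 : Led Lsl_gt (LP (LK LD1_c0 LD2_c26 LD3_c56)) = (LP (LK LD1_c0 LD2_c26 LD3_c58)) :=
  Lgr Lrot46 (Lpe (f8083 IH) (Lpr_ft (K0.f27374 IH) (Lpr_at (f769 IH) (Lpn (LP (LK LD1_c0 LD2_c26 LD3_c58))))))
theorem f742 : Led Lsl_ct (LP (LK LD1_c0 LD2_c11 LD3_c20)) = (LP (LK LD1_c0 LD2_c5 LD3_c24)) :=
  Lre_c IH (LK LD1_c0 LD2_c11 LD3_c20) (LK LD1_c0 LD2_c5 LD3_c24) Lrfl Lrfl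
theorem f33092 : Led Lsl_bf (LP (LK LD1_c0 LD2_c24 LD3_c41)) = (LP (LK LD1_c0 LD2_c26 LD3_c12)) :=
  Lgr Lrot156 (Lpr_gt (f28211 IH) (Lpe (f8113 IH) (Lpr_ct (K0.f8106 IH) (Lpr_gt (K0.f28320 IH) (Lpe (K0.f28411 IH) (Lpr_bt (K0.f28409 IH) (Lpr_gt (K0.f33087 IH) (Lpr_ct (f742 IH) (Lpr_gt (f741 IH) (Lpe (f33091 IH) (Lpn (LP (LK LD1_c0 LD2_c26 LD3_c12)))))))))))))
theorem f44961 : Led Lsl_bt (LP (LK LD1_c0 LD2_c14 LD3_c28)) = (LP (LK LD1_c0 LD2_c26 LD3_c56)) :=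
  Lgr Lrot95 (Lpe (f43911 IH) (Lpr_bf (f33092 IH) (Lpr_df (f44959 IH) (Lpn (LP (LK LD1_c0 LD2_c26 LD3_c56))))))
theorem f47472 : Led Lsl_gf (LP (LK LD1_c0 LD2_c32 LD3_c14)) = (LP (LK LD1_c0 LD2_c56 LD3_c44)) :=
  Lgr Lrot85 (Lpr_dt (f44443 IH) (Lpr_ct (f31433 IH) (Lpr_bt (f44961 IH) (Lpr_gt (f27391 IH) (Lpr_dt (f45081 IH) (Lpr_ct (f8084 IH) (Lpe (f45060 IH) (Lpr_gt (f31432 IH) (Lpr_dt (f44313 IH) (Lpr_ct (f41854 IH) (Lpe (f41858 IH) (Lpr_gt (K0.f28167 IH) (Lpr_dt (f27924 IH) (Lpr_ct (K0.f27785 IH) (Lpr_bt (K0.f27400 IH) (Lpe (f45716 IH) (Lpr_dt (f44920 IH) (Lpe (f44930 IH) (Lpr_bt (f47459 IH) (Lpn (LP (LK LD1_c0 LD2_c56 LD3_c44))))))))))))))))))))))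
theorem f43324 : Led Lsl_ct (LP (LK LD1_c0 LD2_c14 LD3_c27)) = (LP (LK LD1_c0 LD2_c32 LD3_c15)) :=
  Lre_c IH (LK LD1_c0 LD2_c14 LD3_c27) (LK LD1_c0 LD2_c32 LD3_c15) Lrfl Lrfl
theorem f43325 : Led Lsl_at (LP (LK LD1_c0 LD2_c32 LD3_c15)) = (LP (LK LD1_c0 LD2_c32 LD3_c17)) :=
  Lgr Lrot107 (Lpe (f43324 IH) (Lpr_af (f43318 IH) (Lpe (f31433 IH) (Lpn (LP (LK LD1_c0 LD2_c32 LD3_c17))))))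
theorem f43335 : Led Lsl_ff (LP (LK LD1_c0 LD2_c32 LD3_c15)) = (LP (LK LD1_c0 LD2_c32 LD3_c15)) :=
  Lgr Lrot23 (Lpr_ct (f43320 IH) (Lpr_ft (f43330 IH) (Lpr_ct (f43324 IH) (Lpn (LP (LK LD1_c0 LD2_c32 LD3_c15))))))
theorem f44542 : Led Lsl_gf (LP (LK LD1_c0 LD2_c58 LD3_c61)) = (LP (LK LD1_c0 LD2_c32 LD3_c15)) :=
  Lgr Lrot47 (Lpr_gt (f44540 IH) (Lpe (f43325 IH) (Lpr_ff (f43335 IH) (Lpn (LP (LK LD1_c0 LD2_c32 LD3_c15))))))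
theorem f47474 : Led Lsl_ct (LP (LK LD1_c0 LD2_c34 LD3_c35)) = (LP (LK LD1_c0 LD2_c58 LD3_c61)) :=
  Lgr Lrot10 (Lpr_bt (f32158 IH) (Lpr_gt (f32155 IH) (Lpr_ct (f28410 IH) (Lpr_gt (f28503 IH) (Lpe (f44927 IH) (Lpr_bt (f47459 IH) (Lpe (f47472 IH) (Lpe (f43323 IH) (Lpr_ct (f43324 IH) (Lpe (f44542 IH) (Lpn (LP (LK LD1_c0 LD2_c58 LD3_c61)))))))))))))
theorem f32156 : Led Lsl_gt (LP (LK LD1_c0 LD2_c15 LD3_c32)) = (LP (LK LD1_c0 LD2_c15 LD3_c31)) :=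
  Lgr Lrot5 (Lpr_ft (f32143 IH) (Lpr_at (f32142 IH) (Lpe (f32155 IH) (Lpn (LP (LK LD1_c0 LD2_c15 LD3_c31))))))
theorem f47492 : Led Lsl_gf (LP (LK LD1_c0 LD2_c12 LD3_c1)) = (LP (LK LD1_c0 LD2_c12 LD3_c2)) :=
  Lgr Lrot129 (Lpe (f45122 IH) (Lpe (f32425 IH) (Lpr_gt (f32156 IH) (Lpe (f32158 IH) (Lpr_ct (f47474 IH) (Lpr_gt (f44540 IH) (Lpe (f31455 IH) (Lpr_bt (f44961 IH) (Lpr_gt (f27391 IH) (Lpr_ct (f770 IH) (Lpn (LP (LK LD1_c0 LD2_c12 LD3_c2)))))))))))))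
theorem f477 : Led Lsl_bt (LP (LK LD1_c0 LD2_c5 LD3_c33)) = (LP (LK LD1_c0 LD2_c2 LD3_c32)) :=
  Lre_b IH (LK LD1_c0 LD2_c5 LD3_c33) (LK LD1_c0 LD2_c2 LD3_c32) Lrfl Lrfl
theorem f732 : Led Lsl_at (LP (LK LD1_c0 LD2_c12 LD3_c2)) = (LP (LK LD1_c0 LD2_c5 LD3_c33)) :=
  Lre_a IH (LK LD1_c0 LD2_c12 LD3_c2) (LK LD1_c0 LD2_c5 LD3_c33) Lrfl Lrfl
theorem f731 : Led Lsl_at (LP (LK LD1_c0 LD2_c5 LD3_c24)) = (LP (LK LD1_c0 LD2_c11 LD3_c41)) :=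
  Lre_a IH (LK LD1_c0 LD2_c5 LD3_c24) (LK LD1_c0 LD2_c11 LD3_c41) Lrfl Lrfl
theorem f27300 : Led Lsl_bf (LP (LK LD1_c0 LD2_c12 LD3_c2)) = (LP (LK LD1_c0 LD2_c11 LD3_c41)) :=
  Lgr Lrot81 (Lpr_at (f732 IH) (Lpr_bt (f477 IH) (Lpr_at (K0.f27298 IH) (Lpr_bt (f476 IH) (Lpr_at (f731 IH) (Lpn (LP (LK LD1_c0 LD2_c11 LD3_c41))))))))
theorem f45700 : Led Lsl_cf (LP (LK LD1_c0 LD2_c15 LD3_c31)) = (LP (LK LD1_c0 LD2_c11 LD3_c41)) :=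
  Lgr Lrot160 (Lpr_gt (f32155 IH) (Lpe (K0.f8282 IH) (Lpr_bt (K0.f32081 IH) (Lpe (K0.f31030 IH) (Lpr_ct (K0.f28557 IH) (Lpr_gt (K0.f31034 IH) (Lpe (K0.f28803 IH) (Lpr_bt (f45696 IH) (Lpe (f27376 IH) (Lpr_bf (f27300 IH) (Lpn (LP (LK LD1_c0 LD2_c11 LD3_c41)))))))))))))
theorem f32135 : Led Lsl_ct (LP (LK LD1_c0 LD2_c34 LD3_c37)) = (LP (LK LD1_c0 LD2_c15 LD3_c32)) :=
  Lre_c IH (LK LD1_c0 LD2_c34 LD3_c37) (LK LD1_c0 LD2_c15 LD3_c32) Lrfl Lrfl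
theorem f44482 : Led Lsl_bt (LP (LK LD1_c0 LD2_c25 LD3_c43)) = (LP (LK LD1_c0 LD2_c56 LD3_c43)) :=
  Lre_b IH (LK LD1_c0 LD2_c25 LD3_c43) (LK LD1_c0 LD2_c56 LD3_c43) Lrfl Lrfl
theorem f6964 : Led Lsl_bt (LP (LK LD1_c0 LD2_c56 LD3_c43)) = (LP (LK LD1_c0 LD2_c25 LD3_c43)) :=
  Lre_b IH (LK LD1_c0 LD2_c56 LD3_c43) (LK LD1_c0 LD2_c25 LD3_c43) Lrfl Lrfl
theorem f44480 : Led Lsl_cf (LP (LK LD1_c0 LD2_c25 LD3_c59)) = (LP (LK LD1_c0 LD2_c56 LD3_c43)) :=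
  Lgr Lrot160 (Lpr_gt (f28810 IH) (Lpr_cf (f44315 IH) (Lpr_bt (K0.f6960 IH) (Lpe (K0.f6878 IH) (Lpr_ct (K0.f473 IH) (Lpr_gt (K0.f6755 IH) (Lpe (K0.f6961 IH) (Lpr_bt (f6962 IH) (Lpr_gt (f6963 IH) (Lpe (f6964 IH) (Lpn (LP (LK LD1_c0 LD2_c56 LD3_c43)))))))))))))
theorem f47463 : Led Lsl_bf (LP (LK LD1_c0 LD2_c34 LD3_c39)) = (LP (LK LD1_c0 LD2_c25 LD3_c59)) :=
  Lgr Lrot90 (Lpe (f44930 IH) (Lpr_bt (f47459 IH) (Lpr_ct (f43344 IH) (Lpr_bt (f44482 IH) (Lpe (f44480 IH) (Lpn (LP (LK LD1_c0 LD2_c25 LD3_c59))))))))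
theorem f44483 : Led Lsl_ct (LP (LK LD1_c0 LD2_c25 LD3_c59)) = (LP (LK LD1_c0 LD2_c56 LD3_c43)) :=
  Lgr Lrot59 (Lpr_cf (f44480 IH) (Lpn (LP (LK LD1_c0 LD2_c56 LD3_c43))))
theorem f47498 : Led Lsl_gt (LP (LK LD1_c0 LD2_c59 LD3_c31)) = (LP (LK LD1_c0 LD2_c56 LD3_c43)) :=
  Lgr Lrot65 (Lpe (f8075 IH) (Lpr_bt (f749 IH) (Lpr_gf (f47492 IH) (Lpr_bf (f27300 IH) (Lpe (f45700 IH) (Lpe (f32156 IH) (Lpe (f32135 IH) (Lpe (f32132 IH) (Lpr_bf (f47463 IH) (Lpr_ct (f44483 IH) (Lpn (LP (LK LD1_c0 LD2_c56 LD3_c43)))))))))))))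
theorem f47496 : Led Lsl_bf (LP (LK LD1_c0 LD2_c59 LD3_c31)) = (LP (LK LD1_c0 LD2_c34 LD3_c37)) :=
  Lgr Lrot34 (Lpr_gf (f8077 IH) (Lpr_bf (f45738 IH) (Lpr_ct (f32327 IH) (Lpr_gf (f32324 IH) (Lpr_cf (f45247 IH) (Lpr_gf (f47492 IH) (Lpr_bf (f27300 IH) (Lpe (f45700 IH) (Lpe (f32156 IH) (Lpe (f32135 IH) (Lpn (LP (LK LD1_c0 LD2_c34 LD3_c37)))))))))))))
theorem f33089 : Led Lsl_gf (LP (LK LD1_c0 LD2_c15 LD3_c32)) = (LP (LK LD1_c0 LD2_c11 LD3_c20)) :=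
  Lgr Lrot76 (Lpe (f32141 IH) (Lpr_ff (f32130 IH) (Lpr_gt (K0.f33087 IH) (Lpn (LP (LK LD1_c0 LD2_c11 LD3_c20))))))
theorem f757 : Led Lsl_gt (LP (LK LD1_c0 LD2_c11 LD3_c40)) = (LP (LK LD1_c0 LD2_c5 LD3_c24)) :=
  Lre_g IH (LK LD1_c0 LD2_c11 LD3_c40) (LK LD1_c0 LD2_c5 LD3_c24) Lrfl Lrfl
theorem f1431 : Led Lsl_bt (LP (LK LD1_c0 LD2_c26 LD3_c14)) = (LP (LK LD1_c0 LD2_c11 LD3_c40)) :=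
  Lre_b IH (LK LD1_c0 LD2_c26 LD3_c14) (LK LD1_c0 LD2_c11 LD3_c40) Lrfl Lrfl
theorem f44505 : Led Lsl_ct (LP (LK LD1_c0 LD2_c25 LD3_c43)) = (LP (LK LD1_c0 LD2_c56 LD3_c44)) :=
  Lre_c IH (LK LD1_c0 LD2_c25 LD3_c43) (LK LD1_c0 LD2_c56 LD3_c44) Lrfl Lrfl
theorem f47508 : Led Lsl_ct (LP (LK LD1_c0 LD2_c26 LD3_c14)) = (LP (LK LD1_c0 LD2_c32 LD3_c14)) :=
  Lgr Lrot10 (Lpr_bt (f1431 IH) (Lpr_gt (f757 IH) (Lpr_ct (K0.f737 IH) (Lpe (f33089 IH) (Lpe (f32135 IH) (Lpe (f47496 IH) (Lpr_gt (f47498 IH) (Lpe (f44482 IH) (Lpr_ct (f44505 IH) (Lpe (f47472 IH) (Lpn (LP (LK LD1_c0 LD2_c32 LD3_c14)))))))))))))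
theorem f44580 : Led Lsl_cf (LP (LK LD1_c0 LD2_c33 LD3_c1)) = (LP (LK LD1_c0 LD2_c25 LD3_c44)) :=
  Lgr Lrot11 (Lpr_ct (f44576 IH) (Lpn (LP (LK LD1_c0 LD2_c25 LD3_c44))))
theorem f44578 : Led Lsl_bf (LP (LK LD1_c0 LD2_c34 LD3_c21)) = (LP (LK LD1_c0 LD2_c25 LD3_c44)) :=
  Lgr Lrot90 (Lpr_ct (f32313 IH) (Lpe (f33393 IH) (Lpr_ct (f33138 IH) (Lpr_bt (f33126 IH) (Lpr_ct (f44576 IH) (Lpn (LP (LK LD1_c0 LD2_c25 LD3_c44))))))))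
theorem f45720 : Led Lsl_gt (LP (LK LD1_c0 LD2_c34 LD3_c21)) = (LP (LK LD1_c0 LD2_c59 LD3_c6)) :=
  Lgr Lrot46 (Lpr_gf (f45716 IH) (Lpe (K0.f27385 IH) (Lpr_at (f45064 IH) (Lpn (LP (LK LD1_c0 LD2_c59 LD3_c6))))))
theorem f47478 : Led Lsl_bt (LP (LK LD1_c0 LD2_c15 LD3_c31)) = (LP (LK LD1_c0 LD2_c34 LD3_c35)) :=
  Lre_b IH (LK LD1_c0 LD2_c15 LD3_c31) (LK LD1_c0 LD2_c34 LD3_c35) Lrfl Lrfl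
theorem f27394 : Led Lsl_bt (LP (LK LD1_c0 LD2_c58 LD3_c61)) = (LP (LK LD1_c0 LD2_c26 LD3_c58)) :=
  Lre_b IH (LK LD1_c0 LD2_c58 LD3_c61) (LK LD1_c0 LD2_c26 LD3_c58) Lrfl Lrfl
theorem f47479 : Led Lsl_bf (LP (LK LD1_c0 LD2_c11 LD3_c41)) = (LP (LK LD1_c0 LD2_c12 LD3_c2)) :=
  Lgr Lrot90 (Lpe (f45700 IH) (Lpr_bt (f47478 IH) (Lpr_ct (f47474 IH) (Lpr_bt (f27394 IH) (Lpr_ct (f770 IH) (Lpn (LP (LK LD1_c0 LD2_c12 LD3_c2))))))))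
theorem f47532 : Led Lsl_gf (LP (LK LD1_c0 LD2_c11 LD3_c40)) = (LP (LK LD1_c0 LD2_c11 LD3_c41)) :=
  Lgr Lrot124 (Lpe (f1431 IH) (Lpr_ct (f47508 IH) (Lpe (f44573 IH) (Lpr_cf (f44580 IH) (Lpe (f44578 IH) (Lpr_gt (f45720 IH) (Lpr_ct (f8084 IH) (Lpr_gt (f27391 IH) (Lpe (f762 IH) (Lpe (f47479 IH) (Lpn (LP (LK LD1_c0 LD2_c11 LD3_c41)))))))))))))
theorem f733 : Led Lsl_dt (LP (LK LD1_c0 LD2_c11 LD3_c41)) = (LP (LK LD1_c0 LD2_c12 LD3_c2)) :=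
  Lgr Lrot44 (Lpe (f731 IH) (Lpr_df (f592 IH) (Lpe (f732 IH) (Lpn (LP (LK LD1_c0 LD2_c12 LD3_c2))))))
theorem f763 : Led Lsl_df (LP (LK LD1_c0 LD2_c11 LD3_c41)) = (LP (LK LD1_c0 LD2_c12 LD3_c2)) :=
  Lgr Lrot38 (Lpr_dt (f733 IH) (Lpn (LP (LK LD1_c0 LD2_c12 LD3_c2))))
theorem f45714 : Led Lsl_df (LP (LK LD1_c0 LD2_c12 LD3_c0)) = (LP (LK LD1_c0 LD2_c15 LD3_c25)) :=
  Lgr Lrot155 (Lpe (f27376 IH) (Lpr_ct (f762 IH) (Lpe (f45702 IH) (Lpr_ct (f45706 IH) (Lpr_dt (K0.f739 IH) (Lpe (K0.f1426 IH) (Lpe (f740 IH) (Lpe (f45122 IH) (Lpe (f32310 IH) (Lpn (LP (LK LD1_c0 LD2_c15 LD3_c25))))))))))))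
theorem f47534 : Led Lsl_dt (LP (LK LD1_c0 LD2_c11 LD3_c40)) = (LP (LK LD1_c0 LD2_c15 LD3_c31)) :=
  Lgr Lrot113 (Lpr_gf (f47532 IH) (Lpr_df (f763 IH) (Lpr_gf (f27376 IH) (Lpr_ct (f44533 IH) (Lpr_gt (f28439 IH) (Lpe (f45714 IH) (Lpe (f27376 IH) (Lpe (f763 IH) (Lpe (f45700 IH) (Lpn (LP (LK LD1_c0 LD2_c15 LD3_c31))))))))))))
theorem f44467 : Led Lsl_at (LP (LK LD1_c0 LD2_c11 LD3_c33)) = (LP (LK LD1_c0 LD2_c25 LD3_c60)) :=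
  Lre_a IH (LK LD1_c0 LD2_c11 LD3_c33) (LK LD1_c0 LD2_c25 LD3_c60) Lrfl Lrfl
theorem f44468 : Led Lsl_ct (LP (LK LD1_c0 LD2_c25 LD3_c60)) = (LP (LK LD1_c0 LD2_c17 LD3_c32)) :=
  Lgr Lrot111 (Lpe (f44467 IH) (Lpr_cf (f44315 IH) (Lpe (f41786 IH) (Lpn (LP (LK LD1_c0 LD2_c17 LD3_c32))))))
theorem f45779 : Led Lsl_gt (LP (LK LD1_c0 LD2_c25 LD3_c58)) = (LP (LK LD1_c0 LD2_c25 LD3_c60)) :=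
  Lgr Lrot150 (Lpe (f8082 IH) (Lpr_gf (f45775 IH) (Lpr_df (f33127 IH) (Lpe (f44526 IH) (Lpr_ct (f44510 IH) (Lpr_gt (f41850 IH) (Lpr_ct (f41293 IH) (Lpr_df (f41770 IH) (Lpe (f44468 IH) (Lpn (LP (LK LD1_c0 LD2_c25 LD3_c60))))))))))))
theorem f45781 : Led Lsl_df (LP (LK LD1_c0 LD2_c33 LD3_c1)) = (LP (LK LD1_c0 LD2_c27 LD3_c46)) :=
  Lgr Lrot155 (Lpe (f44526 IH) (Lpr_ct (f44510 IH) (Lpr_gt (f41850 IH) (Lpr_ct (f41293 IH) (Lpr_dt (f41747 IH) (Lpe (f44468 IH) (Lpe (f45779 IH) (Lpe (f8082 IH) (Lpr_gf (f45775 IH) (Lpn (LP (LK LD1_c0 LD2_c27 LD3_c46))))))))))))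
theorem f47457 : Led Lsl_gf (LP (LK LD1_c0 LD2_c27 LD3_c46)) = (LP (LK LD1_c0 LD2_c56 LD3_c43)) :=
  Lgr Lrot124 (Lpe (f28725 IH) (Lpr_ct (K0.f27817 IH) (Lpr_gt (K0.f16674 IH) (Lpe (K0.f16672 IH) (Lpr_bt (f27908 IH) (Lpr_gt (f27909 IH) (Lpe (f44515 IH) (Lpr_gt (f47445 IH) (Lpe (f44505 IH) (Lpr_bt (f44482 IH) (Lpn (LP (LK LD1_c0 LD2_c56 LD3_c43)))))))))))))
theorem f47737 : Led Lsl_cf (LP (LK LD1_c0 LD2_c11 LD3_c41)) = (LP (LK LD1_c0 LD2_c15 LD3_c31)) :=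
  Lgr Lrot14 (Lpr_df (f763 IH) (Lpr_gf (f27376 IH) (Lpr_df (f45714 IH) (Lpe (f28439 IH) (Lpe (f44524 IH) (Lpe (f27376 IH) (Lpe (f763 IH) (Lpe (f47532 IH) (Lpr_dt (f47534 IH) (Lpn (LP (LK LD1_c0 LD2_c15 LD3_c31))))))))))))
theorem f47741 : Led Lsl_df (LP (LK LD1_c0 LD2_c56 LD3_c44)) = (LP (LK LD1_c0 LD2_c59 LD3_c31)) :=
  Lgr Lrot183 (Lpr_ct (f43344 IH) (Lpr_bt (f44482 IH) (Lpe (f47457 IH) (Lpe (f45781 IH) (Lpr_ct (f44576 IH) (Lpe (f44578 IH) (Lpr_gt (f45720 IH) (Lpe (f45062 IH) (Lpr_ct (f770 IH) (Lpe (f47479 IH) (Lpe (f47532 IH) (Lpr_dt (f47534 IH) (Lpe (f47737 IH) (Lpe (f27300 IH) (Lpe (f47492 IH) (Lpe (f45092 IH) (Lpr_ct (f32326 IH) (Lpe (f45738 IH) (Lpe (f8077 IH) (Lpn (LP (LK LD1_c0 LD2_c59 LD3_c31))))))))))))))))))))))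
theorem f47515 : Led Lsl_cf (LP (LK LD1_c0 LD2_c26 LD3_c14)) = (LP (LK LD1_c0 LD2_c32 LD3_c14)) :=
  Lgr Lrot11 (Lpr_ct (f47508 IH) (Lpn (LP (LK LD1_c0 LD2_c32 LD3_c14))))
theorem f28731 : Led Lsl_ct (LP (LK LD1_c0 LD2_c12 LD3_c21)) = (LP (LK LD1_c0 LD2_c5 LD3_c46)) :=
  Lre_c IH (LK LD1_c0 LD2_c12 LD3_c21) (LK LD1_c0 LD2_c5 LD3_c46) Lrfl Lrfl
theorem f47801 : Led Lsl_gt (LP (LK LD1_c0 LD2_c26 LD3_c14)) = (LP (LK LD1_c0 LD2_c12 LD3_c21)) :=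
  Lgr Lrot150 (Lpr_cf (f47515 IH) (Lpr_gf (f47472 IH) (Lpr_df (f47741 IH) (Lpr_gt (f47498 IH) (Lpe (f44480 IH) (Lpr_gt (f28810 IH) (Lpr_ct (K0.f28188 IH) (Lpe (f41780 IH) (Lpe (f28731 IH) (Lpn (LP (LK LD1_c0 LD2_c12 LD3_c21))))))))))))
theorem f47512 : Led Lsl_bt (LP (LK LD1_c0 LD2_c11 LD3_c40)) = (LP (LK LD1_c0 LD2_c26 LD3_c14)) :=
  Lre_b IH (LK LD1_c0 LD2_c11 LD3_c40) (LK LD1_c0 LD2_c26 LD3_c14) Lrfl Lrfl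
theorem f1429 : Led Lsl_ct (LP (LK LD1_c0 LD2_c11 LD3_c40)) = (LP (LK LD1_c0 LD2_c26 LD3_c15)) :=
  Lre_c IH (LK LD1_c0 LD2_c11 LD3_c40) (LK LD1_c0 LD2_c26 LD3_c15) Lrfl Lrfl
theorem f47810 : Led Lsl_gf (LP (LK LD1_c0 LD2_c26 LD3_c15)) = (LP (LK LD1_c0 LD2_c57 LD3_c37)) :=
  Lgr Lrot129 (Lpe (f1429 IH) (Lpr_bt (f47512 IH) (Lpr_gt (f47801 IH) (Lpe (f27908 IH) (Lpr_ct (K0.f16672 IH) (Lpr_gt (K0.f27818 IH) (Lpe (K0.f28460 IH) (Lpr_bt (f28447 IH) (Lpr_gt (f28503 IH) (Lpe (f44930 IH) (Lpn (LP (LK LD1_c0 LD2_c57 LD3_c37)))))))))))))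
theorem f41860 : Led Lsl_cf (LP (LK LD1_c0 LD2_c11 LD3_c27)) = (LP (LK LD1_c0 LD2_c12 LD3_c35)) :=
  Lgr Lrot11 (Lpr_ct (f41854 IH) (Lpn (LP (LK LD1_c0 LD2_c12 LD3_c35))))
theorem f46146 : Led Lsl_ct (LP (LK LD1_c0 LD2_c25 LD3_c45)) = (LP (LK LD1_c0 LD2_c12 LD3_c34)) :=
  Lgr Lrot111 (Lpe (f46145 IH) (Lpr_cf (f41860 IH) (Lpr_af (f46141 IH) (Lpn (LP (LK LD1_c0 LD2_c12 LD3_c34))))))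
theorem f45783 : Led Lsl_cf (LP (LK LD1_c0 LD2_c25 LD3_c60)) = (LP (LK LD1_c0 LD2_c17 LD3_c32)) :=
  Lgr Lrot163 (Lpe (f45779 IH) (Lpe (f8082 IH) (Lpr_gf (f45775 IH) (Lpe (f28725 IH) (Lpr_ct (K0.f27817 IH) (Lpr_gf (K0.f28734 IH) (Lpe (K0.f28323 IH) (Lpe (f28513 IH) (Lpe (f41532 IH) (Lpe (f7682 IH) (Lpn (LP (LK LD1_c0 LD2_c17 LD3_c32)))))))))))))
theorem f47441 : Led Lsl_gt (LP (LK LD1_c0 LD2_c25 LD3_c60)) = (LP (LK LD1_c0 LD2_c25 LD3_c59)) :=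
  Lgr Lrot65 (Lpr_cf (f45783 IH) (Lpr_bt (f7682 IH) (Lpr_gf (f42130 IH) (Lpr_bf (f41871 IH) (Lpr_ct (f41293 IH) (Lpr_gf (f44287 IH) (Lpe (f46146 IH) (Lpr_gf (f47435 IH) (Lpe (f6964 IH) (Lpe (f44480 IH) (Lpn (LP (LK LD1_c0 LD2_c25 LD3_c59)))))))))))))
theorem f47823 : Led Lsl_bt (LP (LK LD1_c0 LD2_c25 LD3_c45)) = (LP (LK LD1_c0 LD2_c25 LD3_c60)) :=
  Lgr Lrot22 (Lpr_ct (f46146 IH) (Lpe (f6853 IH) (Lpe (f28731 IH) (Lpe (f47801 IH) (Lpe (f47512 IH) (Lpr_ct (f1429 IH) (Lpr_gf (f47810 IH) (Lpr_cf (f44930 IH) (Lpe (f44946 IH) (Lpe (f47441 IH) (Lpn (LP (LK LD1_c0 LD2_c25 LD3_c60)))))))))))))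
theorem f47450 : Led Lsl_et (LP (LK LD1_c0 LD2_c56 LD3_c47)) = (LP (LK LD1_c0 LD2_c25 LD3_c45)) :=
  Lre_e IH (LK LD1_c0 LD2_c56 LD3_c47) (LK LD1_c0 LD2_c25 LD3_c45) Lrfl Lrfl
theorem f47833 : Led Lsl_et (LP (LK LD1_c0 LD2_c25 LD3_c60)) = (LP (LK LD1_c0 LD2_c57 LD3_c13)) :=
  Lre_e IH (LK LD1_c0 LD2_c25 LD3_c60) (LK LD1_c0 LD2_c57 LD3_c13) Lrfl Lrfl
theorem f47834 : Led Lsl_bf (LP (LK LD1_c0 LD2_c56 LD3_c47)) = (LP (LK LD1_c0 LD2_c57 LD3_c13)) :=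
  Lgr Lrot96 (Lpr_et (f47450 IH) (Lpr_bt (f47823 IH) (Lpr_et (f47833 IH) (Lpn (LP (LK LD1_c0 LD2_c57 LD3_c13))))))
theorem f47193 : Led Lsl_ft (LP (LK LD1_c0 LD2_c56 LD3_c47)) = (LP (LK LD1_c1 LD2_c59 LD3_c43)) :=
  Lre_f IH (LK LD1_c0 LD2_c56 LD3_c47) (LK LD1_c1 LD2_c59 LD3_c43) Lrfl Lrfl
theorem f47842 : Led Lsl_ft (LP (LK LD1_c2 LD2_c0 LD3_c28)) = (LP (LK LD1_c0 LD2_c57 LD3_c13)) :=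
  Lre_f IH (LK LD1_c2 LD2_c0 LD3_c28) (LK LD1_c0 LD2_c57 LD3_c13) Lrfl Lrfl
theorem f55019 : Led Lsl_bt (LP (LK LD1_c1 LD2_c59 LD3_c43)) = (LP (LK LD1_c2 LD2_c0 LD3_c28)) :=
  Lgr Lrot35 (Lpe (f47193 IH) (Lpr_bf (f47834 IH) (Lpe (f47842 IH) (Lpn (LP (LK LD1_c2 LD2_c0 LD3_c28))))))
theorem f46216 : Led Lsl_dt (LP (LK LD1_c4 LD2_c5 LD3_c6)) = (LP (LK LD1_c1 LD2_c59 LD3_c43)) :=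
  Lre_d IH (LK LD1_c4 LD2_c5 LD3_c6) (LK LD1_c1 LD2_c59 LD3_c43) Lrfl Lrfl
theorem f47851 : Led Lsl_dt (LP (LK LD1_c2 LD2_c0 LD3_c28)) = (LP (LK LD1_c4 LD2_c6 LD3_c16)) :=
  Lre_d IH (LK LD1_c2 LD2_c0 LD3_c28) (LK LD1_c4 LD2_c6 LD3_c16) Lrfl Lrfl
theorem f55025 : Led Lsl_bf (LP (LK LD1_c4 LD2_c5 LD3_c6)) = (LP (LK LD1_c4 LD2_c6 LD3_c16)) :=
  Lgr Lrot93 (Lpr_dt (f46216 IH) (Lpr_bt (f55019 IH) (Lpr_dt (f47851 IH) (Lpn (LP (LK LD1_c4 LD2_c6 LD3_c16))))))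
theorem f55042 : Led Lsl_et (LP (LK LD1_c4 LD2_c5 LD3_c6)) = (LP (LK LD1_c8 LD2_c10 LD3_c61)) :=
  Lre_e IH (LK LD1_c4 LD2_c5 LD3_c6) (LK LD1_c8 LD2_c10 LD3_c61) Lrfl Lrfl
theorem f47850 : Led Lsl_et (LP (LK LD1_c8 LD2_c13 LD3_c9)) = (LP (LK LD1_c4 LD2_c6 LD3_c16)) :=
  Lre_e IH (LK LD1_c8 LD2_c13 LD3_c9) (LK LD1_c4 LD2_c6 LD3_c16) Lrfl Lrfl
theorem f55043 : Led Lsl_bt (LP (LK LD1_c8 LD2_c10 LD3_c61)) = (LP (LK LD1_c8 LD2_c13 LD3_c9)) :=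
  Lgr Lrot119 (Lpe (f55042 IH) (Lpr_bf (f55025 IH) (Lpe (f47850 IH) (Lpn (LP (LK LD1_c8 LD2_c13 LD3_c9))))))
theorem f41857 : Led Lsl_at (LP (LK LD1_c0 LD2_c25 LD3_c45)) = (LP (LK LD1_c0 LD2_c11 LD3_c27)) :=
  Lre_a IH (LK LD1_c0 LD2_c25 LD3_c45) (LK LD1_c0 LD2_c11 LD3_c27) Lrfl Lrfl
theorem f47431 : Led Lsl_ft (LP (LK LD1_c0 LD2_c25 LD3_c45)) = (LP (LK LD1_c0 LD2_c25 LD3_c45)) :=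
  Lgr Lrot101 (Lpe (f46145 IH) (Lpr_ff (f47429 IH) (Lpe (f41857 IH) (Lpn (LP (LK LD1_c0 LD2_c25 LD3_c45))))))
theorem f47829 : Led Lsl_bf (LP (LK LD1_c0 LD2_c25 LD3_c45)) = (LP (LK LD1_c0 LD2_c25 LD3_c60)) :=
  Lgr Lrot24 (Lpr_bt (f47823 IH) (Lpn (LP (LK LD1_c0 LD2_c25 LD3_c60))))
theorem f47836 : Led Lsl_ff (LP (LK LD1_c0 LD2_c25 LD3_c60)) = (LP (LK LD1_c0 LD2_c25 LD3_c60)) :=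
  Lgr Lrot25 (Lpe (f47829 IH) (Lpr_ft (f47431 IH) (Lpr_bt (f47823 IH) (Lpn (LP (LK LD1_c0 LD2_c25 LD3_c60))))))
theorem f47799 : Led Lsl_df (LP (LK LD1_c0 LD2_c24 LD3_c42)) = (LP (LK LD1_c0 LD2_c25 LD3_c60)) :=
  Lgr Lrot153 (Lpe (f41377 IH) (Lpr_dt (f43911 IH) (Lpe (f31433 IH) (Lpe (f44443 IH) (Lpr_gf (f47472 IH) (Lpr_df (f47741 IH) (Lpr_gf (f8077 IH) (Lpe (f8076 IH) (Lpr_gt (f45779 IH) (Lpn (LP (LK LD1_c0 LD2_c25 LD3_c60))))))))))))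
theorem f47838 : Led Lsl_dt (LP (LK LD1_c0 LD2_c24 LD3_c42)) = (LP (LK LD1_c0 LD2_c25 LD3_c60)) :=
  Lgr Lrot60 (Lpr_ff (f41367 IH) (Lpr_df (f47799 IH) (Lpr_ff (f47836 IH) (Lpn (LP (LK LD1_c0 LD2_c25 LD3_c60))))))
theorem f41906 : Led Lsl_dt (LP (LK LD1_c1 LD2_c55 LD3_c52)) = (LP (LK LD1_c0 LD2_c54 LD3_c40)) :=
  Lre_d IH (LK LD1_c1 LD2_c55 LD3_c52) (LK LD1_c0 LD2_c54 LD3_c40) Lrfl Lrfl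
theorem f47938 : Led Lsl_dt (LP (LK LD1_c0 LD2_c57 LD3_c13)) = (LP (LK LD1_c2 LD2_c0 LD3_c27)) :=
  Lre_d IH (LK LD1_c0 LD2_c57 LD3_c13) (LK LD1_c2 LD2_c0 LD3_c27) Lrfl Lrfl
theorem f47939 : Led Lsl_ef (LP (LK LD1_c1 LD2_c55 LD3_c52)) = (LP (LK LD1_c2 LD2_c0 LD3_c27)) :=
  Lgr Lrot73 (Lpr_dt (f41906 IH) (Lpr_et (f41259 IH) (Lpr_dt (f47838 IH) (Lpr_et (f47833 IH) (Lpr_dt (f47938 IH) (Lpn (LP (LK LD1_c2 LD2_c0 LD3_c27))))))))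
theorem f41968 : Led Lsl_ft (LP (LK LD1_c1 LD2_c55 LD3_c52)) = (LP (LK LD1_c3 LD2_c58 LD3_c11)) :=
  Lre_f IH (LK LD1_c1 LD2_c55 LD3_c52) (LK LD1_c3 LD2_c58 LD3_c11) Lrfl Lrfl
theorem f54523 : Led Lsl_ft (LP (LK LD1_c4 LD2_c6 LD3_c16)) = (LP (LK LD1_c2 LD2_c0 LD3_c27)) :=
  Lre_f IH (LK LD1_c4 LD2_c6 LD3_c16) (LK LD1_c2 LD2_c0 LD3_c27) Lrfl Lrfl
theorem f54524 : Led Lsl_ft (LP (LK LD1_c7 LD2_c57 LD3_c48)) = (LP (LK LD1_c8 LD2_c13 LD3_c9)) :=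
  Lgr Lrot86 (Lpe (f41238 IH) (Lpe (f41968 IH) (Lpr_ef (f47939 IH) (Lpe (f54523 IH) (Lpe (f47850 IH) (Lpn (LP (LK LD1_c8 LD2_c13 LD3_c9))))))))
theorem f47840 : Led Lsl_ft (LP (LK LD1_c0 LD2_c57 LD3_c13)) = (LP (LK LD1_c2 LD2_c0 LD3_c28)) :=
  Lre_f IH (LK LD1_c0 LD2_c57 LD3_c13) (LK LD1_c2 LD2_c0 LD3_c28) Lrfl Lrfl
theorem f47841 : Led Lsl_et (LP (LK LD1_c0 LD2_c57 LD3_c13)) = (LP (LK LD1_c0 LD2_c25 LD3_c60)) :=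
  Lre_e IH (LK LD1_c0 LD2_c57 LD3_c13) (LK LD1_c0 LD2_c25 LD3_c60) Lrfl Lrfl
theorem f47843 : Led Lsl_et (LP (LK LD1_c2 LD2_c0 LD3_c28)) = (LP (LK LD1_c2 LD2_c0 LD3_c28)) :=
  Lgr Lrot69 (Lpe (f47840 IH) (Lpe (f47833 IH) (Lpr_ff (f47836 IH) (Lpe (f47841 IH) (Lpe (f47842 IH) (Lpn (LP (LK LD1_c2 LD2_c0 LD3_c28))))))))
theorem f47849 : Led Lsl_dt (LP (LK LD1_c4 LD2_c6 LD3_c16)) = (LP (LK LD1_c2 LD2_c0 LD3_c28)) :=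
  Lre_d IH (LK LD1_c4 LD2_c6 LD3_c16) (LK LD1_c2 LD2_c0 LD3_c28) Lrfl Lrfl
theorem f47852 : Led Lsl_et (LP (LK LD1_c4 LD2_c6 LD3_c16)) = (LP (LK LD1_c8 LD2_c13 LD3_c9)) :=
  Lre_e IH (LK LD1_c4 LD2_c6 LD3_c16) (LK LD1_c8 LD2_c13 LD3_c9) Lrfl Lrfl
theorem f47853 : Led Lsl_df (LP (LK LD1_c8 LD2_c13 LD3_c9)) = (LP (LK LD1_c8 LD2_c13 LD3_c9)) :=
  Lgr Lrot70 (Lpr_et (f47850 IH) (Lpr_dt (f47849 IH) (Lpr_et (f47843 IH) (Lpr_dt (f47851 IH) (Lpr_et (f47852 IH) (Lpn (LP (LK LD1_c8 LD2_c13 LD3_c9))))))))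
theorem f54535 : Led Lsl_ff (LP (LK LD1_c7 LD2_c57 LD3_c48)) = (LP (LK LD1_c8 LD2_c13 LD3_c9)) :=
  Lgr Lrot19 (Lpe (f41331 IH) (Lpr_ft (f54524 IH) (Lpe (f47853 IH) (Lpn (LP (LK LD1_c8 LD2_c13 LD3_c9))))))
theorem f41114 : Led Lsl_bt (LP (LK LD1_c7 LD2_c57 LD3_c48)) = (LP (LK LD1_c4 LD2_c54 LD3_c42)) :=
  Lgr Lrot127 (Lpr_bf (f41108 IH) (Lpn (LP (LK LD1_c4 LD2_c54 LD3_c42))))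
theorem f55060 : Led Lsl_ff (LP (LK LD1_c8 LD2_c10 LD3_c61)) = (LP (LK LD1_c4 LD2_c54 LD3_c42)) :=
  Lgr Lrot25 (Lpr_bt (f55043 IH) (Lpe (f54535 IH) (Lpr_bt (f41114 IH) (Lpn (LP (LK LD1_c4 LD2_c54 LD3_c42))))))
theorem f55070 : Led Lsl_et (LP (LK LD1_c8 LD2_c10 LD3_c61)) = (LP (LK LD1_c4 LD2_c5 LD3_c6)) :=
  Lre_e IH (LK LD1_c8 LD2_c10 LD3_c61) (LK LD1_c4 LD2_c5 LD3_c6) Lrfl Lrfl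
theorem f55045 : Led Lsl_ft (LP (LK LD1_c4 LD2_c5 LD3_c6)) = (LP (LK LD1_c1 LD2_c59 LD3_c42)) :=
  Lre_f IH (LK LD1_c4 LD2_c5 LD3_c6) (LK LD1_c1 LD2_c59 LD3_c42) Lrfl Lrfl
theorem f41123 : Led Lsl_et (LP (LK LD1_c2 LD2_c25 LD3_c14)) = (LP (LK LD1_c4 LD2_c54 LD3_c42)) :=
  Lre_e IH (LK LD1_c2 LD2_c25 LD3_c14) (LK LD1_c4 LD2_c54 LD3_c42) Lrfl Lrfl
theorem f41223 : Led Lsl_ft (LP (LK LD1_c1 LD2_c9 LD3_c51)) = (LP (LK LD1_c2 LD2_c25 LD3_c14)) :=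
  Lre_f IH (LK LD1_c1 LD2_c9 LD3_c51) (LK LD1_c2 LD2_c25 LD3_c14) Lrfl Lrfl
theorem f55071 : Led Lsl_et (LP (LK LD1_c1 LD2_c59 LD3_c42)) = (LP (LK LD1_c1 LD2_c9 LD3_c51)) :=
  Lgr Lrot69 (Lpe (f55045 IH) (Lpe (f55070 IH) (Lpr_ff (f55060 IH) (Lpe (f41123 IH) (Lpe (f41223 IH) (Lpn (LP (LK LD1_c1 LD2_c9 LD3_c51))))))))
theorem f55092 : Led Lsl_ef (LP (LK LD1_c1 LD2_c59 LD3_c42)) = (LP (LK LD1_c1 LD2_c9 LD3_c51)) :=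
  Lgr Lrot88 (Lpr_et (f55071 IH) (Lpn (LP (LK LD1_c1 LD2_c9 LD3_c51))))
theorem f47195 : Led Lsl_ct (LP (LK LD1_c1 LD2_c59 LD3_c42)) = (LP (LK LD1_c4 LD2_c5 LD3_c5)) :=
  Lre_c IH (LK LD1_c1 LD2_c59 LD3_c42) (LK LD1_c4 LD2_c5 LD3_c5) Lrfl Lrfl
theorem f41165 : Led Lsl_ct (LP (LK LD1_c2 LD2_c25 LD3_c13)) = (LP (LK LD1_c1 LD2_c9 LD3_c51)) :=
  Lre_c IH (LK LD1_c2 LD2_c25 LD3_c13) (LK LD1_c1 LD2_c9 LD3_c51) Lrfl Lrfl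
theorem f55100 : Led Lsl_et (LP (LK LD1_c4 LD2_c5 LD3_c5)) = (LP (LK LD1_c2 LD2_c25 LD3_c13)) :=
  Lgr Lrot158 (Lpe (f47195 IH) (Lpr_ef (f55092 IH) (Lpe (f41165 IH) (Lpn (LP (LK LD1_c2 LD2_c25 LD3_c13))))))
theorem f47269 : Led Lsl_ft (LP (LK LD1_c8 LD2_c10 LD3_c60)) = (LP (LK LD1_c4 LD2_c5 LD3_c5)) :=
  Lre_f IH (LK LD1_c8 LD2_c10 LD3_c60) (LK LD1_c4 LD2_c5 LD3_c5) Lrfl Lrfl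
theorem f55118 : Led Lsl_et (LP (LK LD1_c15 LD2_c24 LD3_c28)) = (LP (LK LD1_c8 LD2_c10 LD3_c60)) :=
  Lre_e IH (LK LD1_c15 LD2_c24 LD3_c28) (LK LD1_c8 LD2_c10 LD3_c60) Lrfl Lrfl
theorem f55119 : Led Lsl_ft (LP (LK LD1_c2 LD2_c25 LD3_c13)) = (LP (LK LD1_c4 LD2_c54 LD3_c41)) :=
  Lre_f IH (LK LD1_c2 LD2_c25 LD3_c13) (LK LD1_c4 LD2_c54 LD3_c41) Lrfl Lrfl
theorem f55120 : Led Lsl_et (LP (LK LD1_c4 LD2_c54 LD3_c41)) = (LP (LK LD1_c9 LD2_c40 LD3_c61)) :=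
  Lre_e IH (LK LD1_c4 LD2_c54 LD3_c41) (LK LD1_c9 LD2_c40 LD3_c61) Lrfl Lrfl
theorem f55121 : Led Lsl_ff (LP (LK LD1_c15 LD2_c24 LD3_c28)) = (LP (LK LD1_c9 LD2_c40 LD3_c61)) :=
  Lgr Lrot72 (Lpr_et (f55118 IH) (Lpr_ft (f47269 IH) (Lpr_et (f55100 IH) (Lpr_ft (f55119 IH) (Lpr_et (f55120 IH) (Lpn (LP (LK LD1_c9 LD2_c40 LD3_c61))))))))
theorem f55124 : Led Lsl_at (LP (LK LD1_c15 LD2_c24 LD3_c28)) = (LP (LK LD1_c8 LD2_c11 LD3_c50)) :=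
  Lre_a IH (LK LD1_c15 LD2_c24 LD3_c28) (LK LD1_c8 LD2_c11 LD3_c50) Lrfl Lrfl
theorem f55125 : Led Lsl_at (LP (LK LD1_c4 LD2_c55 LD3_c50)) = (LP (LK LD1_c9 LD2_c40 LD3_c61)) :=
  Lre_a IH (LK LD1_c4 LD2_c55 LD3_c50) (LK LD1_c9 LD2_c40 LD3_c61) Lrfl Lrfl
theorem f55126 : Led Lsl_ft (LP (LK LD1_c8 LD2_c11 LD3_c50)) = (LP (LK LD1_c4 LD2_c55 LD3_c50)) :=
  Lgr Lrot101 (Lpe (f55124 IH) (Lpr_ff (f55121 IH) (Lpe (f55125 IH) (Lpn (LP (LK LD1_c4 LD2_c55 LD3_c50))))))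
theorem f55128 : Led Lsl_ct (LP (LK LD1_c4 LD2_c5 LD3_c27)) = (LP (LK LD1_c8 LD2_c11 LD3_c50)) :=
  Lre_c IH (LK LD1_c4 LD2_c5 LD3_c27) (LK LD1_c8 LD2_c11 LD3_c50) Lrfl Lrfl
theorem f55129 : Led Lsl_ct (LP (LK LD1_c4 LD2_c55 LD3_c50)) = (LP (LK LD1_c2 LD2_c25 LD3_c43)) :=
  Lre_c IH (LK LD1_c4 LD2_c55 LD3_c50) (LK LD1_c2 LD2_c25 LD3_c43) Lrfl Lrfl
theorem f55130 : Led Lsl_ff (LP (LK LD1_c4 LD2_c5 LD3_c27)) = (LP (LK LD1_c2 LD2_c25 LD3_c43)) :=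
  Lgr Lrot23 (Lpr_ct (f55128 IH) (Lpr_ft (f55126 IH) (Lpr_ct (f55129 IH) (Lpn (LP (LK LD1_c2 LD2_c25 LD3_c43))))))
theorem f55258 : Led Lsl_bt (LP (LK LD1_c4 LD2_c5 LD3_c27)) = (LP (LK LD1_c1 LD2_c59 LD3_c61)) :=
  Lre_b IH (LK LD1_c4 LD2_c5 LD3_c27) (LK LD1_c1 LD2_c59 LD3_c61) Lrfl Lrfl
theorem f55259 : Led Lsl_ft (LP (LK LD1_c1 LD2_c59 LD3_c61)) = (LP (LK LD1_c1 LD2_c10 LD3_c10)) :=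
  Lgr Lrot75 (Lpe (f55258 IH) (Lpr_ff (f55130 IH) (Lpe (f41106 IH) (Lpn (LP (LK LD1_c1 LD2_c10 LD3_c10))))))
theorem f55299 : Led Lsl_ff (LP (LK LD1_c1 LD2_c59 LD3_c61)) = (LP (LK LD1_c1 LD2_c10 LD3_c10)) :=
  Lgr Lrot3 (Lpr_ft (f55259 IH) (Lpn (LP (LK LD1_c1 LD2_c10 LD3_c10))))
theorem f55310 : Led Lsl_et (LP (LK LD1_c1 LD2_c59 LD3_c61)) = (LP (LK LD1_c0 LD2_c56 LD3_c55)) :=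
  Lre_e IH (LK LD1_c1 LD2_c59 LD3_c61) (LK LD1_c0 LD2_c56 LD3_c55) Lrfl Lrfl
theorem f55311 : Led Lsl_ft (LP (LK LD1_c0 LD2_c56 LD3_c55)) = (LP (LK LD1_c0 LD2_c25 LD3_c47)) :=
  Lre_f IH (LK LD1_c0 LD2_c56 LD3_c55) (LK LD1_c0 LD2_c25 LD3_c47) Lrfl Lrfl
theorem f55312 : Led Lsl_et (LP (LK LD1_c0 LD2_c32 LD3_c27)) = (LP (LK LD1_c1 LD2_c10 LD3_c10)) :=
  Lre_e IH (LK LD1_c0 LD2_c32 LD3_c27) (LK LD1_c1 LD2_c10 LD3_c10) Lrfl Lrfl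
theorem f55313 : Led Lsl_et (LP (LK LD1_c0 LD2_c25 LD3_c47)) = (LP (LK LD1_c0 LD2_c14 LD3_c31)) :=
  Lgr Lrot69 (Lpe (f55311 IH) (Lpe (f55310 IH) (Lpr_ff (f55299 IH) (Lpe (f55312 IH) (Lpe (f41071 IH) (Lpn (LP (LK LD1_c0 LD2_c14 LD3_c31))))))))
theorem f55326 : Led Lsl_ct (LP (LK LD1_c0 LD2_c56 LD3_c54)) = (LP (LK LD1_c0 LD2_c25 LD3_c47)) :=
  Lre_c IH (LK LD1_c0 LD2_c56 LD3_c54) (LK LD1_c0 LD2_c25 LD3_c47) Lrfl Lrfl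
theorem f55327 : Led Lsl_ef (LP (LK LD1_c0 LD2_c56 LD3_c54)) = (LP (LK LD1_c0 LD2_c32 LD3_c26)) :=
  Lgr Lrot28 (Lpr_ct (f55326 IH) (Lpr_et (f55313 IH) (Lpr_ct (f40842 IH) (Lpn (LP (LK LD1_c0 LD2_c32 LD3_c26))))))
theorem f55339 : Led Lsl_et (LP (LK LD1_c0 LD2_c56 LD3_c54)) = (LP (LK LD1_c0 LD2_c32 LD3_c26)) :=
  Lgr Lrot87 (Lpr_ef (f55327 IH) (Lpn (LP (LK LD1_c0 LD2_c32 LD3_c26))))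
theorem f47868 : Led Lsl_ct (LP (LK LD1_c15 LD2_c27 LD3_c41)) = (LP (LK LD1_c8 LD2_c13 LD3_c9)) :=
  Lre_c IH (LK LD1_c15 LD2_c27 LD3_c41) (LK LD1_c8 LD2_c13 LD3_c9) Lrfl Lrfl
theorem f54545 : Led Lsl_ft (LP (LK LD1_c15 LD2_c1 LD3_c13)) = (LP (LK LD1_c15 LD2_c27 LD3_c41)) :=
  Lgr Lrot4 (Lpe (f41116 IH) (Lpr_ff (f54535 IH) (Lpe (f47868 IH) (Lpn (LP (LK LD1_c15 LD2_c27 LD3_c41))))))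
theorem f42776 : Led Lsl_et (LP (LK LD1_c7 LD2_c57 LD3_c47)) = (LP (LK LD1_c15 LD2_c1 LD3_c13)) :=
  Lre_e IH (LK LD1_c7 LD2_c57 LD3_c47) (LK LD1_c15 LD2_c1 LD3_c13) Lrfl Lrfl
theorem f42767 : Led Lsl_ft (LP (LK LD1_c3 LD2_c58 LD3_c10)) = (LP (LK LD1_c7 LD2_c57 LD3_c47)) :=
  Lre_f IH (LK LD1_c3 LD2_c58 LD3_c10) (LK LD1_c7 LD2_c57 LD3_c47) Lrfl Lrfl
theorem f54560 : Led Lsl_et (LP (LK LD1_c15 LD2_c27 LD3_c41)) = (LP (LK LD1_c8 LD2_c13 LD3_c8)) :=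
  Lre_e IH (LK LD1_c15 LD2_c27 LD3_c41) (LK LD1_c8 LD2_c13 LD3_c8) Lrfl Lrfl
theorem f54561 : Led Lsl_ft (LP (LK LD1_c8 LD2_c13 LD3_c8)) = (LP (LK LD1_c4 LD2_c6 LD3_c15)) :=
  Lre_f IH (LK LD1_c8 LD2_c13 LD3_c8) (LK LD1_c4 LD2_c6 LD3_c15) Lrfl Lrfl
theorem f54562 : Led Lsl_ef (LP (LK LD1_c3 LD2_c58 LD3_c10)) = (LP (LK LD1_c4 LD2_c6 LD3_c15)) :=
  Lgr Lrot21 (Lpr_ft (f42767 IH) (Lpr_et (f42776 IH) (Lpr_ft (f54545 IH) (Lpr_et (f54560 IH) (Lpr_ft (f54561 IH) (Lpn (LP (LK LD1_c4 LD2_c6 LD3_c15))))))))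
theorem f41898 : Led Lsl_dt (LP (LK LD1_c3 LD2_c58 LD3_c10)) = (LP (LK LD1_c7 LD2_c57 LD3_c46)) :=
  Lre_d IH (LK LD1_c3 LD2_c58 LD3_c10) (LK LD1_c7 LD2_c57 LD3_c46) Lrfl Lrfl
theorem f42855 : Led Lsl_et (LP (LK LD1_c7 LD2_c57 LD3_c46)) = (LP (LK LD1_c15 LD2_c1 LD3_c12)) :=
  Lre_e IH (LK LD1_c7 LD2_c57 LD3_c46) (LK LD1_c15 LD2_c1 LD3_c12) Lrfl Lrfl
theorem f54577 : Led Lsl_dt (LP (LK LD1_c8 LD2_c13 LD3_c7)) = (LP (LK LD1_c4 LD2_c6 LD3_c15)) :=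
  Lre_d IH (LK LD1_c8 LD2_c13 LD3_c7) (LK LD1_c4 LD2_c6 LD3_c15) Lrfl Lrfl
theorem f54578 : Led Lsl_et (LP (LK LD1_c15 LD2_c27 LD3_c40)) = (LP (LK LD1_c8 LD2_c13 LD3_c7)) :=
  Lre_e IH (LK LD1_c15 LD2_c27 LD3_c40) (LK LD1_c8 LD2_c13 LD3_c7) Lrfl Lrfl
theorem f54579 : Led Lsl_dt (LP (LK LD1_c15 LD2_c1 LD3_c12)) = (LP (LK LD1_c15 LD2_c27 LD3_c40)) :=
  Lgr Lrot77 (Lpe (f42855 IH) (Lpe (f41898 IH) (Lpr_ef (f54562 IH) (Lpe (f54577 IH) (Lpe (f54578 IH) (Lpn (LP (LK LD1_c15 LD2_c27 LD3_c40))))))))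
theorem f42841 : Led Lsl_ft (LP (LK LD1_c24 LD2_c49 LD3_c5)) = (LP (LK LD1_c15 LD2_c1 LD3_c12)) :=
  Lre_f IH (LK LD1_c24 LD2_c49 LD3_c5) (LK LD1_c15 LD2_c1 LD3_c12) Lrfl Lrfl
theorem f54592 : Led Lsl_ft (LP (LK LD1_c15 LD2_c27 LD3_c40)) = (LP (LK LD1_c25 LD2_c19 LD3_c34)) :=
  Lre_f IH (LK LD1_c15 LD2_c27 LD3_c40) (LK LD1_c25 LD2_c19 LD3_c34) Lrfl Lrfl
theorem f54593 : Led Lsl_df (LP (LK LD1_c24 LD2_c49 LD3_c5)) = (LP (LK LD1_c25 LD2_c19 LD3_c34)) :=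
  Lgr Lrot78 (Lpr_ft (f42841 IH) (Lpr_dt (f54579 IH) (Lpr_ft (f54592 IH) (Lpn (LP (LK LD1_c25 LD2_c19 LD3_c34))))))
theorem f54603 : Led Lsl_dt (LP (LK LD1_c24 LD2_c49 LD3_c5)) = (LP (LK LD1_c25 LD2_c19 LD3_c34)) :=
  Lgr Lrot42 (Lpr_df (f54593 IH) (Lpn (LP (LK LD1_c25 LD2_c19 LD3_c34))))
theorem f42852 : Led Lsl_at (LP (LK LD1_c15 LD2_c3 LD3_c5)) = (LP (LK LD1_c24 LD2_c49 LD3_c5)) :=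
  Lre_a IH (LK LD1_c15 LD2_c3 LD3_c5) (LK LD1_c24 LD2_c49 LD3_c5) Lrfl Lrfl
theorem f54615 : Led Lsl_at (LP (LK LD1_c25 LD2_c19 LD3_c34)) = (LP (LK LD1_c15 LD2_c29 LD3_c29)) :=
  Lre_a IH (LK LD1_c25 LD2_c19 LD3_c34) (LK LD1_c15 LD2_c29 LD3_c29) Lrfl Lrfl
theorem f54616 : Led Lsl_df (LP (LK LD1_c15 LD2_c3 LD3_c5)) = (LP (LK LD1_c15 LD2_c29 LD3_c29)) :=
  Lgr Lrot18 (Lpr_at (f42852 IH) (Lpr_dt (f54603 IH) (Lpr_at (f54615 IH) (Lpn (LP (LK LD1_c15 LD2_c29 LD3_c29))))))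
theorem f54629 : Led Lsl_ft (LP (LK LD1_c15 LD2_c3 LD3_c5)) = (LP (LK LD1_c7 LD2_c58 LD3_c39)) :=
  Lre_f IH (LK LD1_c15 LD2_c3 LD3_c5) (LK LD1_c7 LD2_c58 LD3_c39) Lrfl Lrfl
theorem f54630 : Led Lsl_ft (LP (LK LD1_c8 LD2_c14 LD3_c1)) = (LP (LK LD1_c15 LD2_c29 LD3_c29)) :=
  Lre_f IH (LK LD1_c8 LD2_c14 LD3_c1) (LK LD1_c15 LD2_c29 LD3_c29) Lrfl Lrfl
theorem f54631 : Led Lsl_dt (LP (LK LD1_c7 LD2_c58 LD3_c39)) = (LP (LK LD1_c8 LD2_c14 LD3_c1)) :=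
  Lgr Lrot60 (Lpe (f54629 IH) (Lpr_df (f54616 IH) (Lpe (f54630 IH) (Lpn (LP (LK LD1_c8 LD2_c14 LD3_c1))))))
theorem f54642 : Led Lsl_et (LP (LK LD1_c3 LD2_c58 LD3_c33)) = (LP (LK LD1_c7 LD2_c58 LD3_c39)) :=
  Lre_e IH (LK LD1_c3 LD2_c58 LD3_c33) (LK LD1_c7 LD2_c58 LD3_c39) Lrfl Lrfl
theorem f42747 : Led Lsl_dt (LP (LK LD1_c1 LD2_c56 LD3_c1)) = (LP (LK LD1_c3 LD2_c58 LD3_c33)) :=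
  Lre_d IH (LK LD1_c1 LD2_c56 LD3_c1) (LK LD1_c3 LD2_c58 LD3_c33) Lrfl Lrfl
theorem f54643 : Led Lsl_et (LP (LK LD1_c8 LD2_c14 LD3_c1)) = (LP (LK LD1_c4 LD2_c6 LD3_c41)) :=
  Lre_e IH (LK LD1_c8 LD2_c14 LD3_c1) (LK LD1_c4 LD2_c6 LD3_c41) Lrfl Lrfl
theorem f54644 : Led Lsl_dt (LP (LK LD1_c4 LD2_c6 LD3_c41)) = (LP (LK LD1_c2 LD2_c0 LD3_c39)) :=
  Lre_d IH (LK LD1_c4 LD2_c6 LD3_c41) (LK LD1_c2 LD2_c0 LD3_c39) Lrfl Lrfl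
theorem f54645 : Led Lsl_ef (LP (LK LD1_c1 LD2_c56 LD3_c1)) = (LP (LK LD1_c2 LD2_c0 LD3_c39)) :=
  Lgr Lrot73 (Lpr_dt (f42747 IH) (Lpr_et (f54642 IH) (Lpr_dt (f54631 IH) (Lpr_et (f54643 IH) (Lpr_dt (f54644 IH) (Lpn (LP (LK LD1_c2 LD2_c0 LD3_c39))))))))
theorem f54662 : Led Lsl_ft (LP (LK LD1_c1 LD2_c56 LD3_c1)) = (LP (LK LD1_c3 LD2_c58 LD3_c34)) :=
  Lre_f IH (LK LD1_c1 LD2_c56 LD3_c1) (LK LD1_c3 LD2_c58 LD3_c34) Lrfl Lrfl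
theorem f54663 : Led Lsl_et (LP (LK LD1_c3 LD2_c58 LD3_c34)) = (LP (LK LD1_c7 LD2_c58 LD3_c41)) :=
  Lre_e IH (LK LD1_c3 LD2_c58 LD3_c34) (LK LD1_c7 LD2_c58 LD3_c41) Lrfl Lrfl
theorem f54664 : Led Lsl_ft (LP (LK LD1_c4 LD2_c6 LD3_c42)) = (LP (LK LD1_c2 LD2_c0 LD3_c39)) :=
  Lre_f IH (LK LD1_c4 LD2_c6 LD3_c42) (LK LD1_c2 LD2_c0 LD3_c39) Lrfl Lrfl
theorem f54665 : Led Lsl_et (LP (LK LD1_c8 LD2_c14 LD3_c3)) = (LP (LK LD1_c4 LD2_c6 LD3_c42)) :=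
  Lre_e IH (LK LD1_c8 LD2_c14 LD3_c3) (LK LD1_c4 LD2_c6 LD3_c42) Lrfl Lrfl
theorem f54666 : Led Lsl_ft (LP (LK LD1_c7 LD2_c58 LD3_c41)) = (LP (LK LD1_c8 LD2_c14 LD3_c3)) :=
  Lgr Lrot86 (Lpe (f54663 IH) (Lpe (f54662 IH) (Lpr_ef (f54645 IH) (Lpe (f54664 IH) (Lpe (f54665 IH) (Lpn (LP (LK LD1_c8 LD2_c14 LD3_c3))))))))
theorem f41334 : Led Lsl_dt (LP (LK LD1_c15 LD2_c3 LD3_c9)) = (LP (LK LD1_c7 LD2_c58 LD3_c41)) :=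
  Lre_d IH (LK LD1_c15 LD2_c3 LD3_c9) (LK LD1_c7 LD2_c58 LD3_c41) Lrfl Lrfl
theorem f47881 : Led Lsl_dt (LP (LK LD1_c8 LD2_c14 LD3_c3)) = (LP (LK LD1_c15 LD2_c29 LD3_c32)) :=
  Lre_d IH (LK LD1_c8 LD2_c14 LD3_c3) (LK LD1_c15 LD2_c29 LD3_c32) Lrfl Lrfl
theorem f54676 : Led Lsl_ff (LP (LK LD1_c15 LD2_c3 LD3_c9)) = (LP (LK LD1_c15 LD2_c29 LD3_c32)) :=
  Lgr Lrot19 (Lpr_dt (f41334 IH) (Lpr_ft (f54666 IH) (Lpr_dt (f47881 IH) (Lpn (LP (LK LD1_c15 LD2_c29 LD3_c32))))))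
theorem f42784 : Led Lsl_at (LP (LK LD1_c15 LD2_c3 LD3_c9)) = (LP (LK LD1_c24 LD2_c49 LD3_c6)) :=
  Lre_a IH (LK LD1_c15 LD2_c3 LD3_c9) (LK LD1_c24 LD2_c49 LD3_c6) Lrfl Lrfl
theorem f54687 : Led Lsl_at (LP (LK LD1_c25 LD2_c19 LD3_c35)) = (LP (LK LD1_c15 LD2_c29 LD3_c32)) :=
  Lre_a IH (LK LD1_c25 LD2_c19 LD3_c35) (LK LD1_c15 LD2_c29 LD3_c32) Lrfl Lrfl
theorem f54688 : Led Lsl_ft (LP (LK LD1_c24 LD2_c49 LD3_c6)) = (LP (LK LD1_c25 LD2_c19 LD3_c35)) :=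
  Lgr Lrot101 (Lpe (f42784 IH) (Lpr_ff (f54676 IH) (Lpe (f54687 IH) (Lpn (LP (LK LD1_c25 LD2_c19 LD3_c35))))))
theorem f42788 : Led Lsl_bt (LP (LK LD1_c31 LD2_c39 LD3_c55)) = (LP (LK LD1_c24 LD2_c49 LD3_c6)) :=
  Lre_b IH (LK LD1_c31 LD2_c39 LD3_c55) (LK LD1_c24 LD2_c49 LD3_c6) Lrfl Lrfl
theorem f54701 : Led Lsl_bt (LP (LK LD1_c25 LD2_c19 LD3_c35)) = (LP (LK LD1_c31 LD2_c50 LD3_c56)) :=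
  Lre_b IH (LK LD1_c25 LD2_c19 LD3_c35) (LK LD1_c31 LD2_c50 LD3_c56) Lrfl Lrfl
theorem f54702 : Led Lsl_ff (LP (LK LD1_c31 LD2_c39 LD3_c55)) = (LP (LK LD1_c31 LD2_c50 LD3_c56)) :=
  Lgr Lrot25 (Lpr_bt (f42788 IH) (Lpr_ft (f54688 IH) (Lpr_bt (f54701 IH) (Lpn (LP (LK LD1_c31 LD2_c50 LD3_c56))))))
theorem f41127 : Led Lsl_dt (LP (LK LD1_c31 LD2_c39 LD3_c55)) = (LP (LK LD1_c24 LD2_c49 LD3_c2)) :=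
  Lre_d IH (LK LD1_c31 LD2_c39 LD3_c55) (LK LD1_c24 LD2_c49 LD3_c2) Lrfl Lrfl
theorem f54707 : Led Lsl_dt (LP (LK LD1_c25 LD2_c19 LD3_c31)) = (LP (LK LD1_c31 LD2_c50 LD3_c56)) :=
  Lre_d IH (LK LD1_c25 LD2_c19 LD3_c31) (LK LD1_c31 LD2_c50 LD3_c56) Lrfl Lrfl
theorem f54708 : Led Lsl_ft (LP (LK LD1_c24 LD2_c49 LD3_c2)) = (LP (LK LD1_c25 LD2_c19 LD3_c31)) :=
  Lgr Lrot54 (Lpe (f41127 IH) (Lpr_ff (f54702 IH) (Lpe (f54707 IH) (Lpn (LP (LK LD1_c25 LD2_c19 LD3_c31))))))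
theorem f41205 : Led Lsl_ft (LP (LK LD1_c7 LD2_c57 LD3_c45)) = (LP (LK LD1_c15 LD2_c1 LD3_c11)) :=
  Lre_f IH (LK LD1_c7 LD2_c57 LD3_c45) (LK LD1_c15 LD2_c1 LD3_c11) Lrfl Lrfl
theorem f54714 : Led Lsl_et (LP (LK LD1_c25 LD2_c19 LD3_c31)) = (LP (LK LD1_c15 LD2_c27 LD3_c39)) :=
  Lre_e IH (LK LD1_c25 LD2_c19 LD3_c31) (LK LD1_c15 LD2_c27 LD3_c39) Lrfl Lrfl
theorem f54715 : Led Lsl_ft (LP (LK LD1_c15 LD2_c27 LD3_c39)) = (LP (LK LD1_c8 LD2_c13 LD3_c6)) :=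
  Lre_f IH (LK LD1_c15 LD2_c27 LD3_c39) (LK LD1_c8 LD2_c13 LD3_c6) Lrfl Lrfl
theorem f54716 : Led Lsl_ef (LP (LK LD1_c7 LD2_c57 LD3_c45)) = (LP (LK LD1_c8 LD2_c13 LD3_c6)) :=
  Lgr Lrot21 (Lpr_ft (f41205 IH) (Lpr_et (f41128 IH) (Lpr_ft (f54708 IH) (Lpr_et (f54714 IH) (Lpr_ft (f54715 IH) (Lpn (LP (LK LD1_c8 LD2_c13 LD3_c6))))))))
theorem f41195 : Led Lsl_at (LP (LK LD1_c7 LD2_c57 LD3_c45)) = (LP (LK LD1_c15 LD2_c1 LD3_c9)) :=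
  Lre_a IH (LK LD1_c7 LD2_c57 LD3_c45) (LK LD1_c15 LD2_c1 LD3_c9) Lrfl Lrfl
theorem f54718 : Led Lsl_at (LP (LK LD1_c15 LD2_c27 LD3_c37)) = (LP (LK LD1_c8 LD2_c13 LD3_c6)) :=
  Lre_a IH (LK LD1_c15 LD2_c27 LD3_c37) (LK LD1_c8 LD2_c13 LD3_c6) Lrfl Lrfl
theorem f54719 : Led Lsl_et (LP (LK LD1_c15 LD2_c1 LD3_c9)) = (LP (LK LD1_c15 LD2_c27 LD3_c37)) :=
  Lgr Lrot123 (Lpe (f41195 IH) (Lpr_ef (f54716 IH) (Lpe (f54718 IH) (Lpn (LP (LK LD1_c15 LD2_c27 LD3_c37))))))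
theorem f54742 : Led Lsl_ef (LP (LK LD1_c15 LD2_c1 LD3_c9)) = (LP (LK LD1_c15 LD2_c27 LD3_c37)) :=
  Lgr Lrot88 (Lpr_et (f54719 IH) (Lpn (LP (LK LD1_c15 LD2_c27 LD3_c37))))
theorem f54745 : Led Lsl_bt (LP (LK LD1_c15 LD2_c1 LD3_c9)) = (LP (LK LD1_c7 LD2_c58 LD3_c34)) :=
  Lre_b IH (LK LD1_c15 LD2_c1 LD3_c9) (LK LD1_c7 LD2_c58 LD3_c34) Lrfl Lrfl
theorem f54746 : Led Lsl_bt (LP (LK LD1_c8 LD2_c13 LD3_c57)) = (LP (LK LD1_c15 LD2_c27 LD3_c37)) :=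
  Lre_b IH (LK LD1_c8 LD2_c13 LD3_c57) (LK LD1_c15 LD2_c27 LD3_c37) Lrfl Lrfl
theorem f54747 : Led Lsl_et (LP (LK LD1_c7 LD2_c58 LD3_c34)) = (LP (LK LD1_c8 LD2_c13 LD3_c57)) :=
  Lgr Lrot74 (Lpe (f54745 IH) (Lpr_ef (f54742 IH) (Lpe (f54746 IH) (Lpn (LP (LK LD1_c8 LD2_c13 LD3_c57))))))
theorem f54755 : Led Lsl_ct (LP (LK LD1_c3 LD2_c58 LD3_c46)) = (LP (LK LD1_c7 LD2_c58 LD3_c34)) :=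
  Lre_c IH (LK LD1_c3 LD2_c58 LD3_c46) (LK LD1_c7 LD2_c58 LD3_c34) Lrfl Lrfl
theorem f54756 : Led Lsl_ct (LP (LK LD1_c8 LD2_c13 LD3_c57)) = (LP (LK LD1_c4 LD2_c6 LD3_c61)) :=
  Lre_c IH (LK LD1_c8 LD2_c13 LD3_c57) (LK LD1_c4 LD2_c6 LD3_c61) Lrfl Lrfl
theorem f54757 : Led Lsl_ef (LP (LK LD1_c3 LD2_c58 LD3_c46)) = (LP (LK LD1_c4 LD2_c6 LD3_c61)) :=
  Lgr Lrot28 (Lpr_ct (f54755 IH) (Lpr_et (f54747 IH) (Lpr_ct (f54756 IH) (Lpn (LP (LK LD1_c4 LD2_c6 LD3_c61))))))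
theorem f54771 : Led Lsl_et (LP (LK LD1_c3 LD2_c58 LD3_c46)) = (LP (LK LD1_c4 LD2_c6 LD3_c61)) :=
  Lgr Lrot87 (Lpr_ef (f54757 IH) (Lpn (LP (LK LD1_c4 LD2_c6 LD3_c61))))
theorem f41057 : Led Lsl_at (LP (LK LD1_c1 LD2_c56 LD3_c6)) = (LP (LK LD1_c3 LD2_c58 LD3_c46)) :=
  Lre_a IH (LK LD1_c1 LD2_c56 LD3_c6) (LK LD1_c3 LD2_c58 LD3_c46) Lrfl Lrfl
theorem f54776 : Led Lsl_at (LP (LK LD1_c4 LD2_c6 LD3_c61)) = (LP (LK LD1_c2 LD2_c0 LD3_c51)) :=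
  Lre_a IH (LK LD1_c4 LD2_c6 LD3_c61) (LK LD1_c2 LD2_c0 LD3_c51) Lrfl Lrfl
theorem f54777 : Led Lsl_ef (LP (LK LD1_c1 LD2_c56 LD3_c6)) = (LP (LK LD1_c2 LD2_c0 LD3_c51)) :=
  Lgr Lrot20 (Lpr_at (f41057 IH) (Lpr_et (f54771 IH) (Lpr_at (f54776 IH) (Lpn (LP (LK LD1_c2 LD2_c0 LD3_c51))))))
theorem f54784 : Led Lsl_bt (LP (LK LD1_c1 LD2_c56 LD3_c6)) = (LP (LK LD1_c0 LD2_c54 LD3_c47)) :=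
  Lre_b IH (LK LD1_c1 LD2_c56 LD3_c6) (LK LD1_c0 LD2_c54 LD3_c47) Lrfl Lrfl
theorem f54785 : Led Lsl_bt (LP (LK LD1_c0 LD2_c57 LD3_c24)) = (LP (LK LD1_c2 LD2_c0 LD3_c51)) :=
  Lre_b IH (LK LD1_c0 LD2_c57 LD3_c24) (LK LD1_c2 LD2_c0 LD3_c51) Lrfl Lrfl
theorem f54786 : Led Lsl_et (LP (LK LD1_c0 LD2_c54 LD3_c47)) = (LP (LK LD1_c0 LD2_c57 LD3_c24)) :=
  Lgr Lrot74 (Lpe (f54784 IH) (Lpr_ef (f54777 IH) (Lpe (f54785 IH) (Lpn (LP (LK LD1_c0 LD2_c57 LD3_c24))))))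
theorem f55343 : Led Lsl_af (LP (LK LD1_c0 LD2_c56 LD3_c54)) = (LP (LK LD1_c0 LD2_c57 LD3_c24)) :=
  Lgr Lrot50 (Lpr_et (f55339 IH) (Lpe (f41049 IH) (Lpr_et (f54786 IH) (Lpn (LP (LK LD1_c0 LD2_c57 LD3_c24))))))
theorem f55349 : Led Lsl_ct (LP (LK LD1_c0 LD2_c25 LD3_c47)) = (LP (LK LD1_c0 LD2_c56 LD3_c54)) :=
  Lre_c IH (LK LD1_c0 LD2_c25 LD3_c47) (LK LD1_c0 LD2_c56 LD3_c54) Lrfl Lrfl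
theorem f28225 : Led Lsl_dt (LP (LK LD1_c0 LD2_c11 LD3_c28)) = (LP (LK LD1_c0 LD2_c25 LD3_c47)) :=
  Lre_d IH (LK LD1_c0 LD2_c11 LD3_c28) (LK LD1_c0 LD2_c25 LD3_c47) Lrfl Lrfl
theorem f47413 : Led Lsl_ct (LP (LK LD1_c0 LD2_c5 LD3_c21)) = (LP (LK LD1_c0 LD2_c11 LD3_c28)) :=
  Lre_c IH (LK LD1_c0 LD2_c5 LD3_c21) (LK LD1_c0 LD2_c11 LD3_c28) Lrfl Lrfl
theorem f55379 : Led Lsl_dt (LP (LK LD1_c0 LD2_c11 LD3_c31)) = (LP (LK LD1_c0 LD2_c5 LD3_c21)) :=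
  Lre_d IH (LK LD1_c0 LD2_c11 LD3_c31) (LK LD1_c0 LD2_c5 LD3_c21) Lrfl Lrfl
theorem f55380 : Led Lsl_ct (LP (LK LD1_c0 LD2_c25 LD3_c56)) = (LP (LK LD1_c0 LD2_c11 LD3_c31)) :=
  Lre_c IH (LK LD1_c0 LD2_c25 LD3_c56) (LK LD1_c0 LD2_c11 LD3_c31) Lrfl Lrfl
theorem f55381 : Led Lsl_dt (LP (LK LD1_c0 LD2_c57 LD3_c7)) = (LP (LK LD1_c0 LD2_c25 LD3_c56)) :=
  Lre_d IH (LK LD1_c0 LD2_c57 LD3_c7) (LK LD1_c0 LD2_c25 LD3_c56) Lrfl Lrfl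
theorem f55382 : Led Lsl_ct (LP (LK LD1_c2 LD2_c0 LD3_c18)) = (LP (LK LD1_c0 LD2_c57 LD3_c7)) :=
  Lre_c IH (LK LD1_c2 LD2_c0 LD3_c18) (LK LD1_c0 LD2_c57 LD3_c7) Lrfl Lrfl
theorem f54844 : Led Lsl_ft (LP (LK LD1_c2 LD2_c0 LD3_c53)) = (LP (LK LD1_c0 LD2_c57 LD3_c24)) :=
  Lre_f IH (LK LD1_c2 LD2_c0 LD3_c53) (LK LD1_c0 LD2_c57 LD3_c24) Lrfl Lrfl
theorem f55383 : Led Lsl_df (LP (LK LD1_c2 LD2_c0 LD3_c18)) = (LP (LK LD1_c2 LD2_c0 LD3_c53)) :=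
  Lgr Lrot157 (Lpr_ct (f55382 IH) (Lpr_dt (f55381 IH) (Lpr_ct (f55380 IH) (Lpr_dt (f55379 IH) (Lpr_ct (f47413 IH) (Lpr_dt (f28225 IH) (Lpr_ct (f55349 IH) (Lpr_af (f55343 IH) (Lpe (f54844 IH) (Lpn (LP (LK LD1_c2 LD2_c0 LD3_c53))))))))))))
theorem f55389 : Led Lsl_ct (LP (LK LD1_c0 LD2_c57 LD3_c25)) = (LP (LK LD1_c2 LD2_c0 LD3_c53)) :=
  Lre_c IH (LK LD1_c0 LD2_c57 LD3_c25) (LK LD1_c2 LD2_c0 LD3_c53) Lrfl Lrfl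
theorem f47912 : Led Lsl_dt (LP (LK LD1_c0 LD2_c26 LD3_c3)) = (LP (LK LD1_c0 LD2_c57 LD3_c25)) :=
  Lre_d IH (LK LD1_c0 LD2_c26 LD3_c3) (LK LD1_c0 LD2_c57 LD3_c25) Lrfl Lrfl
theorem f47924 : Led Lsl_ft (LP (LK LD1_c0 LD2_c26 LD3_c3)) = (LP (LK LD1_c0 LD2_c11 LD3_c34)) :=
  Lre_f IH (LK LD1_c0 LD2_c26 LD3_c3) (LK LD1_c0 LD2_c11 LD3_c34) Lrfl Lrfl
theorem f55408 : Led Lsl_af (LP (LK LD1_c0 LD2_c11 LD3_c28)) = (LP (LK LD1_c0 LD2_c11 LD3_c34)) :=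
  Lgr Lrot109 (Lpe (f47413 IH) (Lpe (f55379 IH) (Lpe (f55380 IH) (Lpe (f55381 IH) (Lpe (f55382 IH) (Lpr_df (f55383 IH) (Lpe (f55389 IH) (Lpe (f47912 IH) (Lpr_ft (f47924 IH) (Lpn (LP (LK LD1_c0 LD2_c11 LD3_c34))))))))))))
theorem f55418 : Led Lsl_ft (LP (LK LD1_c0 LD2_c11 LD3_c28)) = (LP (LK LD1_c0 LD2_c25 LD3_c48)) :=
  Lre_f IH (LK LD1_c0 LD2_c11 LD3_c28) (LK LD1_c0 LD2_c25 LD3_c48) Lrfl Lrfl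
theorem f55419 : Led Lsl_at (LP (LK LD1_c0 LD2_c25 LD3_c48)) = (LP (LK LD1_c0 LD2_c26 LD3_c3)) :=
  Lgr Lrot66 (Lpe (f55418 IH) (Lpr_af (f55408 IH) (Lpe (f47924 IH) (Lpn (LP (LK LD1_c0 LD2_c26 LD3_c3))))))
theorem f47090 : Led Lsl_dt (LP (LK LD1_c0 LD2_c56 LD3_c55)) = (LP (LK LD1_c0 LD2_c25 LD3_c48)) :=
  Lre_d IH (LK LD1_c0 LD2_c56 LD3_c55) (LK LD1_c0 LD2_c25 LD3_c48) Lrfl Lrfl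
theorem f55423 : Led Lsl_af (LP (LK LD1_c0 LD2_c56 LD3_c55)) = (LP (LK LD1_c0 LD2_c57 LD3_c25)) :=
  Lgr Lrot117 (Lpr_dt (f47090 IH) (Lpr_at (f55419 IH) (Lpr_dt (f47912 IH) (Lpn (LP (LK LD1_c0 LD2_c57 LD3_c25))))))
theorem f47978 : Led Lsl_ct (LP (LK LD1_c1 LD2_c59 LD3_c60)) = (LP (LK LD1_c0 LD2_c56 LD3_c55)) :=
  Lre_c IH (LK LD1_c1 LD2_c59 LD3_c60) (LK LD1_c0 LD2_c56 LD3_c55) Lrfl Lrfl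
theorem f54868 : Led Lsl_ft (LP (LK LD1_c0 LD2_c26 LD3_c2)) = (LP (LK LD1_c0 LD2_c57 LD3_c25)) :=
  Lre_f IH (LK LD1_c0 LD2_c26 LD3_c2) (LK LD1_c0 LD2_c57 LD3_c25) Lrfl Lrfl
theorem f8118 : Led Lsl_dt (LP (LK LD1_c0 LD2_c26 LD3_c2)) = (LP (LK LD1_c0 LD2_c11 LD3_c34)) :=
  Lre_d IH (LK LD1_c0 LD2_c26 LD3_c2) (LK LD1_c0 LD2_c11 LD3_c34) Lrfl Lrfl
theorem f21292 : Led Lsl_ct (LP (LK LD1_c0 LD2_c11 LD3_c34)) = (LP (LK LD1_c0 LD2_c5 LD3_c23)) :=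
  Lre_c IH (LK LD1_c0 LD2_c11 LD3_c34) (LK LD1_c0 LD2_c5 LD3_c23) Lrfl Lrfl
theorem f8080 : Led Lsl_dt (LP (LK LD1_c0 LD2_c5 LD3_c23)) = (LP (LK LD1_c0 LD2_c11 LD3_c37)) :=
  Lre_d IH (LK LD1_c0 LD2_c5 LD3_c23) (LK LD1_c0 LD2_c11 LD3_c37) Lrfl Lrfl
theorem f55430 : Led Lsl_ct (LP (LK LD1_c0 LD2_c11 LD3_c37)) = (LP (LK LD1_c0 LD2_c26 LD3_c10)) :=
  Lre_c IH (LK LD1_c0 LD2_c11 LD3_c37) (LK LD1_c0 LD2_c26 LD3_c10) Lrfl Lrfl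
theorem f55431 : Led Lsl_dt (LP (LK LD1_c0 LD2_c26 LD3_c10)) = (LP (LK LD1_c0 LD2_c57 LD3_c34)) :=
  Lre_d IH (LK LD1_c0 LD2_c26 LD3_c10) (LK LD1_c0 LD2_c57 LD3_c34) Lrfl Lrfl
theorem f55432 : Led Lsl_ct (LP (LK LD1_c0 LD2_c57 LD3_c34)) = (LP (LK LD1_c2 LD2_c1 LD3_c2)) :=
  Lre_c IH (LK LD1_c0 LD2_c57 LD3_c34) (LK LD1_c2 LD2_c1 LD3_c2) Lrfl Lrfl
theorem f55433 : Led Lsl_df (LP (LK LD1_c1 LD2_c59 LD3_c60)) = (LP (LK LD1_c2 LD2_c1 LD3_c2)) :=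
  Lgr Lrot177 (Lpr_ct (f47978 IH) (Lpr_af (f55423 IH) (Lpe (f54868 IH) (Lpr_dt (f8118 IH) (Lpr_ct (f21292 IH) (Lpr_dt (f8080 IH) (Lpr_ct (f55430 IH) (Lpr_dt (f55431 IH) (Lpr_ct (f55432 IH) (Lpn (LP (LK LD1_c2 LD2_c1 LD3_c2))))))))))))
theorem f55438 : Led Lsl_dt (LP (LK LD1_c0 LD2_c11 LD3_c32)) = (LP (LK LD1_c0 LD2_c25 LD3_c57)) :=
  Lre_d IH (LK LD1_c0 LD2_c11 LD3_c32) (LK LD1_c0 LD2_c25 LD3_c57) Lrfl Lrfl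
theorem f55439 : Led Lsl_ct (LP (LK LD1_c0 LD2_c25 LD3_c57)) = (LP (LK LD1_c0 LD2_c57 LD3_c8)) :=
  Lre_c IH (LK LD1_c0 LD2_c25 LD3_c57) (LK LD1_c0 LD2_c57 LD3_c8) Lrfl Lrfl
theorem f55440 : Led Lsl_dt (LP (LK LD1_c0 LD2_c57 LD3_c8)) = (LP (LK LD1_c2 LD2_c0 LD3_c20)) :=
  Lre_d IH (LK LD1_c0 LD2_c57 LD3_c8) (LK LD1_c2 LD2_c0 LD3_c20) Lrfl Lrfl
theorem f54853 : Led Lsl_ct (LP (LK LD1_c0 LD2_c57 LD3_c24)) = (LP (LK LD1_c0 LD2_c26 LD3_c2)) :=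
  Lre_c IH (LK LD1_c0 LD2_c57 LD3_c24) (LK LD1_c0 LD2_c26 LD3_c2) Lrfl Lrfl
theorem f54828 : Led Lsl_dt (LP (LK LD1_c2 LD2_c0 LD3_c52)) = (LP (LK LD1_c0 LD2_c57 LD3_c24)) :=
  Lre_d IH (LK LD1_c2 LD2_c0 LD3_c52) (LK LD1_c0 LD2_c57 LD3_c24) Lrfl Lrfl
theorem f55441 : Led Lsl_ct (LP (LK LD1_c2 LD2_c0 LD3_c20)) = (LP (LK LD1_c2 LD2_c0 LD3_c52)) :=
  Lgr Lrot176 (Lpe (f55440 IH) (Lpe (f55439 IH) (Lpe (f55438 IH) (Lpe (f47089 IH) (Lpe (f47090 IH) (Lpe (f47978 IH) (Lpr_df (f55433 IH) (Lpe (f55432 IH) (Lpe (f55431 IH) (Lpe (f55430 IH) (Lpe (f8080 IH) (Lpe (f21292 IH) (Lpe (f8118 IH) (Lpe (f54853 IH) (Lpe (f54828 IH) (Lpn (LP (LK LD1_c2 LD2_c0 LD3_c52))))))))))))))))))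
theorem f55335 : Led Lsl_dt (LP (LK LD1_c0 LD2_c56 LD3_c54)) = (LP (LK LD1_c1 LD2_c59 LD3_c59)) :=
  Lre_d IH (LK LD1_c0 LD2_c56 LD3_c54) (LK LD1_c1 LD2_c59 LD3_c59) Lrfl Lrfl
theorem f55375 : Led Lsl_at (LP (LK LD1_c1 LD2_c59 LD3_c59)) = (LP (LK LD1_c2 LD2_c0 LD3_c52)) :=
  Lgr Lrot51 (Lpe (f55335 IH) (Lpr_af (f55343 IH) (Lpe (f54828 IH) (Lpn (LP (LK LD1_c2 LD2_c0 LD3_c52))))))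
theorem f55455 : Led Lsl_ff (LP (LK LD1_c1 LD2_c59 LD3_c59)) = (LP (LK LD1_c2 LD2_c1 LD3_c2)) :=
  Lgr Lrot103 (Lpr_at (f55375 IH) (Lpe (f55441 IH) (Lpe (f55440 IH) (Lpe (f55439 IH) (Lpe (f55438 IH) (Lpe (f47089 IH) (Lpe (f47090 IH) (Lpe (f47978 IH) (Lpr_df (f55433 IH) (Lpn (LP (LK LD1_c2 LD2_c1 LD3_c2))))))))))))
theorem f55341 : Led Lsl_ft (LP (LK LD1_c0 LD2_c56 LD3_c54)) = (LP (LK LD1_c1 LD2_c59 LD3_c60)) :=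
  Lre_f IH (LK LD1_c0 LD2_c56 LD3_c54) (LK LD1_c1 LD2_c59 LD3_c60) Lrfl Lrfl
theorem f55377 : Led Lsl_at (LP (LK LD1_c1 LD2_c59 LD3_c60)) = (LP (LK LD1_c2 LD2_c0 LD3_c53)) :=
  Lgr Lrot66 (Lpe (f55341 IH) (Lpr_af (f55343 IH) (Lpe (f54844 IH) (Lpn (LP (LK LD1_c2 LD2_c0 LD3_c53))))))
theorem f55435 : Led Lsl_at (LP (LK LD1_c2 LD2_c0 LD3_c18)) = (LP (LK LD1_c2 LD2_c1 LD3_c2)) :=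
  Lgr Lrot51 (Lpr_df (f55383 IH) (Lpe (f55377 IH) (Lpr_df (f55433 IH) (Lpn (LP (LK LD1_c2 LD2_c1 LD3_c2))))))
theorem f55460 : Led Lsl_ft (LP (LK LD1_c2 LD2_c0 LD3_c52)) = (LP (LK LD1_c2 LD2_c0 LD3_c18)) :=
  Lgr Lrot101 (Lpe (f55375 IH) (Lpr_ff (f55455 IH) (Lpe (f55435 IH) (Lpn (LP (LK LD1_c2 LD2_c0 LD3_c18))))))
theorem f55462 : Led Lsl_bt (LP (LK LD1_c4 LD2_c7 LD3_c0)) = (LP (LK LD1_c2 LD2_c0 LD3_c52)) :=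
  Lre_b IH (LK LD1_c4 LD2_c7 LD3_c0) (LK LD1_c2 LD2_c0 LD3_c52) Lrfl Lrfl
theorem f55385 : Led Lsl_bt (LP (LK LD1_c2 LD2_c0 LD3_c18)) = (LP (LK LD1_c4 LD2_c6 LD3_c2)) :=
  Lre_b IH (LK LD1_c2 LD2_c0 LD3_c18) (LK LD1_c4 LD2_c6 LD3_c2) Lrfl Lrfl
theorem f55463 : Led Lsl_ff (LP (LK LD1_c4 LD2_c7 LD3_c0)) = (LP (LK LD1_c4 LD2_c6 LD3_c2)) :=
  Lgr Lrot25 (Lpr_bt (f55462 IH) (Lpr_ft (f55460 IH) (Lpr_bt (f55385 IH) (Lpn (LP (LK LD1_c4 LD2_c6 LD3_c2))))))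
theorem f55473 : Led Lsl_ft (LP (LK LD1_c4 LD2_c7 LD3_c0)) = (LP (LK LD1_c4 LD2_c6 LD3_c2)) :=
  Lgr Lrot48 (Lpr_ff (f55463 IH) (Lpn (LP (LK LD1_c4 LD2_c6 LD3_c2))))
theorem f55481 : Led Lsl_ct (LP (LK LD1_c8 LD2_c14 LD3_c38)) = (LP (LK LD1_c4 LD2_c7 LD3_c0)) :=
  Lre_c IH (LK LD1_c8 LD2_c14 LD3_c38) (LK LD1_c4 LD2_c7 LD3_c0) Lrfl Lrfl
theorem f55482 : Led Lsl_ct (LP (LK LD1_c4 LD2_c6 LD3_c2)) = (LP (LK LD1_c8 LD2_c12 LD3_c43)) :=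
  Lre_c IH (LK LD1_c4 LD2_c6 LD3_c2) (LK LD1_c8 LD2_c12 LD3_c43) Lrfl Lrfl
theorem f55483 : Led Lsl_ff (LP (LK LD1_c8 LD2_c14 LD3_c38)) = (LP (LK LD1_c8 LD2_c12 LD3_c43)) :=
  Lgr Lrot23 (Lpr_ct (f55481 IH) (Lpr_ft (f55473 IH) (Lpr_ct (f55482 IH) (Lpn (LP (LK LD1_c8 LD2_c12 LD3_c43))))))
theorem f55491 : Led Lsl_dt (LP (LK LD1_c8 LD2_c14 LD3_c38)) = (LP (LK LD1_c15 LD2_c30 LD3_c31)) :=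
  Lre_d IH (LK LD1_c8 LD2_c14 LD3_c38) (LK LD1_c15 LD2_c30 LD3_c31) Lrfl Lrfl
theorem f55492 : Led Lsl_dt (LP (LK LD1_c15 LD2_c26 LD3_c57)) = (LP (LK LD1_c8 LD2_c12 LD3_c43)) :=
  Lre_d IH (LK LD1_c15 LD2_c26 LD3_c57) (LK LD1_c8 LD2_c12 LD3_c43) Lrfl Lrfl
theorem f55493 : Led Lsl_ft (LP (LK LD1_c15 LD2_c30 LD3_c31)) = (LP (LK LD1_c15 LD2_c26 LD3_c57)) :=
  Lgr Lrot54 (Lpe (f55491 IH) (Lpr_ff (f55483 IH) (Lpe (f55492 IH) (Lpn (LP (LK LD1_c15 LD2_c26 LD3_c57))))))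
theorem f55506 : Led Lsl_ff (LP (LK LD1_c15 LD2_c30 LD3_c31)) = (LP (LK LD1_c15 LD2_c26 LD3_c57)) :=
  Lgr Lrot3 (Lpr_ft (f55493 IH) (Lpn (LP (LK LD1_c15 LD2_c26 LD3_c57))))
theorem f55509 : Led Lsl_bt (LP (LK LD1_c8 LD2_c12 LD3_c44)) = (LP (LK LD1_c15 LD2_c26 LD3_c57)) :=
  Lre_b IH (LK LD1_c8 LD2_c12 LD3_c44) (LK LD1_c15 LD2_c26 LD3_c57) Lrfl Lrfl
theorem f55510 : Led Lsl_ft (LP (LK LD1_c15 LD2_c27 LD3_c0)) = (LP (LK LD1_c8 LD2_c12 LD3_c44)) :=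
  Lre_f IH (LK LD1_c15 LD2_c27 LD3_c0) (LK LD1_c8 LD2_c12 LD3_c44) Lrfl Lrfl
theorem f55511 : Led Lsl_bt (LP (LK LD1_c15 LD2_c30 LD3_c31)) = (LP (LK LD1_c15 LD2_c27 LD3_c0)) :=
  Lgr Lrot35 (Lpr_ff (f55506 IH) (Lpe (f55509 IH) (Lpe (f55510 IH) (Lpn (LP (LK LD1_c15 LD2_c27 LD3_c0))))))
theorem f55517 : Led Lsl_dt (LP (LK LD1_c15 LD2_c27 LD3_c0)) = (LP (LK LD1_c8 LD2_c12 LD3_c46)) :=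
  Lre_d IH (LK LD1_c15 LD2_c27 LD3_c0) (LK LD1_c8 LD2_c12 LD3_c46) Lrfl Lrfl
theorem f55518 : Led Lsl_bf (LP (LK LD1_c8 LD2_c14 LD3_c38)) = (LP (LK LD1_c8 LD2_c12 LD3_c46)) :=
  Lgr Lrot93 (Lpr_dt (f55491 IH) (Lpr_bt (f55511 IH) (Lpr_dt (f55517 IH) (Lpn (LP (LK LD1_c8 LD2_c12 LD3_c46))))))
theorem f55520 : Led Lsl_ct (LP (LK LD1_c4 LD2_c6 LD3_c1)) = (LP (LK LD1_c8 LD2_c12 LD3_c46)) :=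
  Lre_c IH (LK LD1_c4 LD2_c6 LD3_c1) (LK LD1_c8 LD2_c12 LD3_c46) Lrfl Lrfl
theorem f55521 : Led Lsl_bt (LP (LK LD1_c2 LD2_c0 LD3_c20)) = (LP (LK LD1_c4 LD2_c6 LD3_c1)) :=
  Lre_b IH (LK LD1_c2 LD2_c0 LD3_c20) (LK LD1_c4 LD2_c6 LD3_c1) Lrfl Lrfl
theorem f55522 : Led Lsl_ct (LP (LK LD1_c2 LD2_c0 LD3_c52)) = (LP (LK LD1_c2 LD2_c0 LD3_c20)) :=
  Lgr Lrot83 (Lpe (f55462 IH) (Lpe (f55481 IH) (Lpr_bf (f55518 IH) (Lpe (f55520 IH) (Lpe (f55521 IH) (Lpn (LP (LK LD1_c2 LD2_c0 LD3_c20))))))))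
theorem f54846 : Led Lsl_dt (LP (LK LD1_c0 LD2_c57 LD3_c24)) = (LP (LK LD1_c2 LD2_c0 LD3_c52)) :=
  Lre_d IH (LK LD1_c0 LD2_c57 LD3_c24) (LK LD1_c2 LD2_c0 LD3_c52) Lrfl Lrfl
theorem f54843 : Led Lsl_ct (LP (LK LD1_c0 LD2_c26 LD3_c2)) = (LP (LK LD1_c0 LD2_c57 LD3_c24)) :=
  Lre_c IH (LK LD1_c0 LD2_c26 LD3_c2) (LK LD1_c0 LD2_c57 LD3_c24) Lrfl Lrfl
theorem f8112 : Led Lsl_dt (LP (LK LD1_c0 LD2_c11 LD3_c34)) = (LP (LK LD1_c0 LD2_c26 LD3_c2)) :=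
  Lre_d IH (LK LD1_c0 LD2_c11 LD3_c34) (LK LD1_c0 LD2_c26 LD3_c2) Lrfl Lrfl
theorem f21294 : Led Lsl_ct (LP (LK LD1_c0 LD2_c5 LD3_c23)) = (LP (LK LD1_c0 LD2_c11 LD3_c34)) :=
  Lre_c IH (LK LD1_c0 LD2_c5 LD3_c23) (LK LD1_c0 LD2_c11 LD3_c34) Lrfl Lrfl
theorem f53168 : Led Lsl_dt (LP (LK LD1_c0 LD2_c11 LD3_c37)) = (LP (LK LD1_c0 LD2_c5 LD3_c23)) :=
  Lre_d IH (LK LD1_c0 LD2_c11 LD3_c37) (LK LD1_c0 LD2_c5 LD3_c23) Lrfl Lrfl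
theorem f55590 : Led Lsl_ft (LP (LK LD1_c0 LD2_c11 LD3_c37)) = (LP (LK LD1_c0 LD2_c26 LD3_c11)) :=
  Lre_f IH (LK LD1_c0 LD2_c11 LD3_c37) (LK LD1_c0 LD2_c26 LD3_c11) Lrfl Lrfl
theorem f55583 : Led Lsl_dt (LP (LK LD1_c2 LD2_c0 LD3_c20)) = (LP (LK LD1_c0 LD2_c57 LD3_c8)) :=
  Lre_d IH (LK LD1_c2 LD2_c0 LD3_c20) (LK LD1_c0 LD2_c57 LD3_c8) Lrfl Lrfl
theorem f55582 : Led Lsl_ct (LP (LK LD1_c0 LD2_c57 LD3_c8)) = (LP (LK LD1_c0 LD2_c25 LD3_c57)) :=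
  Lre_c IH (LK LD1_c0 LD2_c57 LD3_c8) (LK LD1_c0 LD2_c25 LD3_c57) Lrfl Lrfl
theorem f55591 : Led Lsl_at (LP (LK LD1_c0 LD2_c26 LD3_c11)) = (LP (LK LD1_c0 LD2_c25 LD3_c57)) :=
  Lgr Lrot33 (Lpe (f55590 IH) (Lpr_dt (f53168 IH) (Lpr_ct (f21294 IH) (Lpr_dt (f8112 IH) (Lpr_ct (f54843 IH) (Lpr_dt (f54846 IH) (Lpr_ct (f55522 IH) (Lpr_dt (f55583 IH) (Lpr_ct (f55582 IH) (Lpn (LP (LK LD1_c0 LD2_c25 LD3_c57))))))))))))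
theorem f55602 : Led Lsl_ft (LP (LK LD1_c0 LD2_c25 LD3_c57)) = (LP (LK LD1_c0 LD2_c11 LD3_c31)) :=
  Lre_f IH (LK LD1_c0 LD2_c25 LD3_c57) (LK LD1_c0 LD2_c11 LD3_c31) Lrfl Lrfl
theorem f55603 : Led Lsl_af (LP (LK LD1_c0 LD2_c11 LD3_c37)) = (LP (LK LD1_c0 LD2_c11 LD3_c31)) :=
  Lgr Lrot45 (Lpr_ft (f55590 IH) (Lpr_at (f55591 IH) (Lpr_ft (f55602 IH) (Lpn (LP (LK LD1_c0 LD2_c11 LD3_c31))))))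
theorem f27281 : Led Lsl_dt (LP (LK LD1_c0 LD2_c5 LD3_c21)) = (LP (LK LD1_c0 LD2_c11 LD3_c31)) :=
  Lre_d IH (LK LD1_c0 LD2_c5 LD3_c21) (LK LD1_c0 LD2_c11 LD3_c31) Lrfl Lrfl
theorem f55613 : Led Lsl_at (LP (LK LD1_c0 LD2_c5 LD3_c23)) = (LP (LK LD1_c0 LD2_c5 LD3_c21)) :=
  Lgr Lrot51 (Lpe (f53168 IH) (Lpr_af (f55603 IH) (Lpe (f27281 IH) (Lpn (LP (LK LD1_c0 LD2_c5 LD3_c21))))))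
theorem f46588 : Led Lsl_ct (LP (LK LD1_c4 LD2_c2 LD3_c30)) = (LP (LK LD1_c4 LD2_c13 LD3_c35)) :=
  Lgr Lrot59 (Lpr_cf (f46583 IH) (Lpn (LP (LK LD1_c4 LD2_c13 LD3_c35))))
theorem f27856 : Led Lsl_dt (LP (LK LD1_c4 LD2_c13 LD3_c35)) = (LP (LK LD1_c2 LD2_c4 LD3_c7)) :=
  Lre_d IH (LK LD1_c4 LD2_c13 LD3_c35) (LK LD1_c2 LD2_c4 LD3_c7) Lrfl Lrfl
theorem f27855 : Led Lsl_ct (LP (LK LD1_c2 LD2_c4 LD3_c7)) = (LP (LK LD1_c0 LD2_c59 LD3_c5)) :=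
  Lre_c IH (LK LD1_c2 LD2_c4 LD3_c7) (LK LD1_c0 LD2_c59 LD3_c5) Lrfl Lrfl
theorem f47057 : Led Lsl_ft (LP (LK LD1_c0 LD2_c25 LD3_c41)) = (LP (LK LD1_c0 LD2_c56 LD3_c42)) :=
  Lre_f IH (LK LD1_c0 LD2_c25 LD3_c41) (LK LD1_c0 LD2_c56 LD3_c42) Lrfl Lrfl
theorem f47058 : Led Lsl_af (LP (LK LD1_c0 LD2_c59 LD3_c5)) = (LP (LK LD1_c0 LD2_c56 LD3_c42)) :=
  Lgr Lrot109 (Lpe (f27855 IH) (Lpe (f27856 IH) (Lpe (f46588 IH) (Lpe (f46606 IH) (Lpe (f46572 IH) (Lpe (f28172 IH) (Lpr_cf (f47046 IH) (Lpe (f36400 IH) (Lpr_ft (f47057 IH) (Lpn (LP (LK LD1_c0 LD2_c56 LD3_c42))))))))))))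
theorem f27859 : Led Lsl_ft (LP (LK LD1_c0 LD2_c59 LD3_c5)) = (LP (LK LD1_c0 LD2_c26 LD3_c54)) :=
  Lre_f IH (LK LD1_c0 LD2_c59 LD3_c5) (LK LD1_c0 LD2_c26 LD3_c54) Lrfl Lrfl
theorem f47070 : Led Lsl_at (LP (LK LD1_c0 LD2_c26 LD3_c54)) = (LP (LK LD1_c0 LD2_c25 LD3_c41)) :=
  Lgr Lrot66 (Lpe (f27859 IH) (Lpr_af (f47058 IH) (Lpe (f47057 IH) (Lpn (LP (LK LD1_c0 LD2_c25 LD3_c41))))))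
theorem f47075 : Led Lsl_af (LP (LK LD1_c0 LD2_c11 LD3_c56)) = (LP (LK LD1_c0 LD2_c11 LD3_c26)) :=
  Lgr Lrot117 (Lpr_dt (f27765 IH) (Lpr_at (f47070 IH) (Lpr_dt (f36400 IH) (Lpn (LP (LK LD1_c0 LD2_c11 LD3_c26))))))
theorem f27874 : Led Lsl_et (LP (LK LD1_c0 LD2_c5 LD3_c30)) = (LP (LK LD1_c0 LD2_c11 LD3_c56)) :=
  Lre_e IH (LK LD1_c0 LD2_c5 LD3_c30) (LK LD1_c0 LD2_c11 LD3_c56) Lrfl Lrfl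
theorem f28202 : Led Lsl_bf (LP (LK LD1_c0 LD2_c6 LD3_c0)) = (LP (LK LD1_c0 LD2_c11 LD3_c56)) :=
  Lgr Lrot96 (Lpr_et (K0.f8288 IH) (Lpr_bt (K0.f28192 IH) (Lpr_et (f27874 IH) (Lpn (LP (LK LD1_c0 LD2_c11 LD3_c56))))))
theorem f8442 : Led Lsl_at (LP (LK LD1_c0 LD2_c6 LD3_c0)) = (LP (LK LD1_c0 LD2_c3 LD3_c38)) :=
  Lre_a IH (LK LD1_c0 LD2_c6 LD3_c0) (LK LD1_c0 LD2_c3 LD3_c38) Lrfl Lrfl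
theorem f55619 : Led Lsl_bf (LP (LK LD1_c0 LD2_c5 LD3_c23)) = (LP (LK LD1_c0 LD2_c3 LD3_c38)) :=
  Lgr Lrot81 (Lpr_at (f55613 IH) (Lpr_bt (f47048 IH) (Lpe (f47075 IH) (Lpe (f28202 IH) (Lpr_at (f8442 IH) (Lpn (LP (LK LD1_c0 LD2_c3 LD3_c38))))))))
theorem f47932 : Led Lsl_ft (LP (LK LD1_c0 LD2_c5 LD3_c23)) = (LP (LK LD1_c0 LD2_c11 LD3_c38)) :=
  Lre_f IH (LK LD1_c0 LD2_c5 LD3_c23) (LK LD1_c0 LD2_c11 LD3_c38) Lrfl Lrfl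
theorem f8461 : Led Lsl_ft (LP (LK LD1_c0 LD2_c7 LD3_c60)) = (LP (LK LD1_c0 LD2_c3 LD3_c38)) :=
  Lre_f IH (LK LD1_c0 LD2_c7 LD3_c60) (LK LD1_c0 LD2_c3 LD3_c38) Lrfl Lrfl
theorem f55915 : Led Lsl_bt (LP (LK LD1_c0 LD2_c11 LD3_c38)) = (LP (LK LD1_c0 LD2_c7 LD3_c60)) :=
  Lgr Lrot35 (Lpe (f47932 IH) (Lpr_bf (f55619 IH) (Lpe (f8461 IH) (Lpn (LP (LK LD1_c0 LD2_c7 LD3_c60))))))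
theorem f47927 : Led Lsl_dt (LP (LK LD1_c0 LD2_c26 LD3_c11)) = (LP (LK LD1_c0 LD2_c11 LD3_c38)) :=
  Lre_d IH (LK LD1_c0 LD2_c26 LD3_c11) (LK LD1_c0 LD2_c11 LD3_c38) Lrfl Lrfl
theorem f55928 : Led Lsl_bf (LP (LK LD1_c0 LD2_c26 LD3_c11)) = (LP (LK LD1_c0 LD2_c17 LD3_c48)) :=
  Lgr Lrot93 (Lpr_dt (f47927 IH) (Lpr_bt (f55915 IH) (Lpr_dt (K0.f8451 IH) (Lpn (LP (LK LD1_c0 LD2_c17 LD3_c48))))))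
theorem f55624 : Led Lsl_ct (LP (LK LD1_c0 LD2_c26 LD3_c11)) = (LP (LK LD1_c0 LD2_c57 LD3_c35)) :=
  Lre_c IH (LK LD1_c0 LD2_c26 LD3_c11) (LK LD1_c0 LD2_c57 LD3_c35) Lrfl Lrfl
theorem f55845 : Led Lsl_bt (LP (LK LD1_c0 LD2_c57 LD3_c35)) = (LP (LK LD1_c2 LD2_c1 LD3_c0)) :=
  Lre_b IH (LK LD1_c0 LD2_c57 LD3_c35) (LK LD1_c2 LD2_c1 LD3_c0) Lrfl Lrfl
theorem f22407 : Led Lsl_ct (LP (LK LD1_c0 LD2_c39 LD3_c42)) = (LP (LK LD1_c0 LD2_c17 LD3_c48)) :=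
  Lre_c IH (LK LD1_c0 LD2_c39 LD3_c42) (LK LD1_c0 LD2_c17 LD3_c48) Lrfl Lrfl
theorem f55935 : Led Lsl_bt (LP (LK LD1_c1 LD2_c25 LD3_c54)) = (LP (LK LD1_c0 LD2_c39 LD3_c42)) :=
  Lre_b IH (LK LD1_c1 LD2_c25 LD3_c54) (LK LD1_c0 LD2_c39 LD3_c42) Lrfl Lrfl
theorem f55936 : Led Lsl_ct (LP (LK LD1_c2 LD2_c1 LD3_c0)) = (LP (LK LD1_c1 LD2_c25 LD3_c54)) :=
  Lgr Lrot83 (Lpe (f55845 IH) (Lpe (f55624 IH) (Lpr_bf (f55928 IH) (Lpe (f22407 IH) (Lpe (f55935 IH) (Lpn (LP (LK LD1_c1 LD2_c25 LD3_c54))))))))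
theorem f55953 : Led Lsl_ft (LP (LK LD1_c0 LD2_c57 LD3_c33)) = (LP (LK LD1_c2 LD2_c1 LD3_c0)) :=
  Lre_f IH (LK LD1_c0 LD2_c57 LD3_c33) (LK LD1_c2 LD2_c1 LD3_c0) Lrfl Lrfl
theorem f55954 : Led Lsl_ft (LP (LK LD1_c1 LD2_c25 LD3_c54)) = (LP (LK LD1_c0 LD2_c39 LD3_c40)) :=
  Lre_f IH (LK LD1_c1 LD2_c25 LD3_c54) (LK LD1_c0 LD2_c39 LD3_c40) Lrfl Lrfl
theorem f55955 : Led Lsl_cf (LP (LK LD1_c0 LD2_c57 LD3_c33)) = (LP (LK LD1_c0 LD2_c39 LD3_c40)) :=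
  Lgr Lrot108 (Lpr_ft (f55953 IH) (Lpr_ct (f55936 IH) (Lpr_ft (f55954 IH) (Lpn (LP (LK LD1_c0 LD2_c39 LD3_c40))))))
theorem f55975 : Led Lsl_et (LP (LK LD1_c0 LD2_c17 LD3_c49)) = (LP (LK LD1_c0 LD2_c39 LD3_c40)) :=
  Lre_e IH (LK LD1_c0 LD2_c17 LD3_c49) (LK LD1_c0 LD2_c39 LD3_c40) Lrfl Lrfl
theorem f20240 : Led Lsl_ct (LP (LK LD1_c0 LD2_c39 LD3_c4)) = (LP (LK LD1_c0 LD2_c17 LD3_c49)) :=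
  Lre_c IH (LK LD1_c0 LD2_c39 LD3_c4) (LK LD1_c0 LD2_c17 LD3_c49) Lrfl Lrfl
theorem f55976 : Led Lsl_et (LP (LK LD1_c0 LD2_c57 LD3_c33)) = (LP (LK LD1_c0 LD2_c39 LD3_c4)) :=
  Lgr Lrot158 (Lpr_cf (f55955 IH) (Lpe (f55975 IH) (Lpe (f20240 IH) (Lpn (LP (LK LD1_c0 LD2_c39 LD3_c4))))))
theorem f56018 : Led Lsl_ef (LP (LK LD1_c0 LD2_c57 LD3_c33)) = (LP (LK LD1_c0 LD2_c39 LD3_c4)) :=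
  Lgr Lrot88 (Lpr_et (f55976 IH) (Lpn (LP (LK LD1_c0 LD2_c39 LD3_c4))))
theorem f55894 : Led Lsl_bt (LP (LK LD1_c0 LD2_c57 LD3_c33)) = (LP (LK LD1_c0 LD2_c26 LD3_c10)) :=
  Lre_b IH (LK LD1_c0 LD2_c57 LD3_c33) (LK LD1_c0 LD2_c26 LD3_c10) Lrfl Lrfl
theorem f56029 : Led Lsl_bt (LP (LK LD1_c0 LD2_c17 LD3_c29)) = (LP (LK LD1_c0 LD2_c39 LD3_c4)) :=
  Lre_b IH (LK LD1_c0 LD2_c17 LD3_c29) (LK LD1_c0 LD2_c39 LD3_c4) Lrfl Lrfl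
theorem f56030 : Led Lsl_et (LP (LK LD1_c0 LD2_c26 LD3_c10)) = (LP (LK LD1_c0 LD2_c17 LD3_c29)) :=
  Lgr Lrot74 (Lpe (f55894 IH) (Lpr_ef (f56018 IH) (Lpe (f56029 IH) (Lpn (LP (LK LD1_c0 LD2_c17 LD3_c29))))))
theorem f195 : Led Lsl_ct (LP (LK LD1_c0 LD2_c17 LD3_c29)) = (LP (LK LD1_c0 LD2_c7 LD3_c54)) :=
  Lre_c IH (LK LD1_c0 LD2_c17 LD3_c29) (LK LD1_c0 LD2_c7 LD3_c54) Lrfl Lrfl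
theorem f56035 : Led Lsl_ef (LP (LK LD1_c0 LD2_c11 LD3_c37)) = (LP (LK LD1_c0 LD2_c7 LD3_c54)) :=
  Lgr Lrot28 (Lpr_ct (f55430 IH) (Lpr_et (f56030 IH) (Lpr_ct (f195 IH) (Lpn (LP (LK LD1_c0 LD2_c7 LD3_c54))))))
theorem f47919 : Led Lsl_ct (LP (LK LD1_c0 LD2_c11 LD3_c38)) = (LP (LK LD1_c0 LD2_c26 LD3_c3)) :=
  Lre_c IH (LK LD1_c0 LD2_c11 LD3_c38) (LK LD1_c0 LD2_c26 LD3_c3) Lrfl Lrfl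
theorem f55405 : Led Lsl_ft (LP (LK LD1_c0 LD2_c26 LD3_c11)) = (LP (LK LD1_c0 LD2_c11 LD3_c37)) :=
  Lre_f IH (LK LD1_c0 LD2_c26 LD3_c11) (LK LD1_c0 LD2_c11 LD3_c37) Lrfl Lrfl
theorem f55406 : Led Lsl_af (LP (LK LD1_c0 LD2_c11 LD3_c31)) = (LP (LK LD1_c0 LD2_c11 LD3_c37)) :=
  Lgr Lrot109 (Lpe (f55380 IH) (Lpe (f55381 IH) (Lpe (f55382 IH) (Lpr_df (f55383 IH) (Lpe (f55389 IH) (Lpe (f47912 IH) (Lpe (f47919 IH) (Lpe (f47927 IH) (Lpr_ft (f55405 IH) (Lpn (LP (LK LD1_c0 LD2_c11 LD3_c37))))))))))))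
theorem f26760 : Led Lsl_df (LP (LK LD1_c0 LD2_c7 LD3_c43)) = (LP (LK LD1_c0 LD2_c13 LD3_c20)) :=
  Lgr Lrot155 (Lpe (K0.f26750 IH) (Lpr_ct (K0.f22448 IH) (Lpr_gt (K0.f181 IH) (Lpr_ct (K0.f161 IH) (Lpr_dt (K0.f9530 IH) (Lpe (K0.f20191 IH) (Lpr_gf (K0.f26754 IH) (Lpe (K0.f25997 IH) (Lpe (K0.f25725 IH) (Lpn (LP (LK LD1_c0 LD2_c13 LD3_c20))))))))))))
theorem f27280 : Led Lsl_et (LP (LK LD1_c0 LD2_c2 LD3_c26)) = (LP (LK LD1_c0 LD2_c5 LD3_c21)) :=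
  Lre_e IH (LK LD1_c0 LD2_c2 LD3_c26) (LK LD1_c0 LD2_c5 LD3_c21) Lrfl Lrfl
theorem f27282 : Led Lsl_ef (LP (LK LD1_c0 LD2_c13 LD3_c20)) = (LP (LK LD1_c0 LD2_c11 LD3_c31)) :=
  Lgr Lrot73 (Lpe (f26760 IH) (Lpr_et (K0.f8248 IH) (Lpr_dt (K0.f27271 IH) (Lpr_et (f27280 IH) (Lpr_dt (f27281 IH) (Lpn (LP (LK LD1_c0 LD2_c11 LD3_c31))))))))
theorem f56037 : Led Lsl_at (LP (LK LD1_c0 LD2_c13 LD3_c20)) = (LP (LK LD1_c0 LD2_c7 LD3_c54)) :=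
  Lgr Lrot80 (Lpr_ef (f27282 IH) (Lpr_af (f55406 IH) (Lpr_ef (f56035 IH) (Lpn (LP (LK LD1_c0 LD2_c7 LD3_c54))))))
theorem f56050 : Led Lsl_af (LP (LK LD1_c0 LD2_c13 LD3_c20)) = (LP (LK LD1_c0 LD2_c7 LD3_c54)) :=
  Lgr Lrot0 (Lpr_at (f56037 IH) (Lpn (LP (LK LD1_c0 LD2_c7 LD3_c54))))
theorem f56039 : Led Lsl_bt (LP (LK LD1_c0 LD2_c3 LD3_c40)) = (LP (LK LD1_c0 LD2_c7 LD3_c54)) :=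
  Lre_b IH (LK LD1_c0 LD2_c3 LD3_c40) (LK LD1_c0 LD2_c7 LD3_c54) Lrfl Lrfl
theorem f21173 : Led Lsl_at (LP (LK LD1_c0 LD2_c6 LD3_c2)) = (LP (LK LD1_c0 LD2_c3 LD3_c40)) :=
  Lre_a IH (LK LD1_c0 LD2_c6 LD3_c2) (LK LD1_c0 LD2_c3 LD3_c40) Lrfl Lrfl
theorem f21214 : Led Lsl_bt (LP (LK LD1_c0 LD2_c13 LD3_c9)) = (LP (LK LD1_c0 LD2_c6 LD3_c2)) :=
  Lre_b IH (LK LD1_c0 LD2_c13 LD3_c9) (LK LD1_c0 LD2_c6 LD3_c2) Lrfl Lrfl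
theorem f13642 : Led Lsl_dt (LP (LK LD1_c0 LD2_c13 LD3_c9)) = (LP (LK LD1_c0 LD2_c5 LD3_c61)) :=
  Lre_d IH (LK LD1_c0 LD2_c13 LD3_c9) (LK LD1_c0 LD2_c5 LD3_c61) Lrfl Lrfl
theorem f36393 : Led Lsl_at (LP (LK LD1_c0 LD2_c18 LD3_c46)) = (LP (LK LD1_c0 LD2_c13 LD3_c9)) :=
  Lgr Lrot51 (Lpr_df (f36326 IH) (Lpe (K0.f9614 IH) (Lpe (f13642 IH) (Lpn (LP (LK LD1_c0 LD2_c13 LD3_c9))))))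
theorem f56564 : Led Lsl_bt (LP (LK LD1_c0 LD2_c13 LD3_c20)) = (LP (LK LD1_c0 LD2_c18 LD3_c46)) :=
  Lgr Lrot62 (Lpr_af (f56050 IH) (Lpe (f56039 IH) (Lpe (f21173 IH) (Lpe (f21214 IH) (Lpe (f36393 IH) (Lpn (LP (LK LD1_c0 LD2_c18 LD3_c46))))))))
theorem f37935 : Led Lsl_bt (LP (LK LD1_c0 LD2_c3 LD3_c52)) = (LP (LK LD1_c0 LD2_c8 LD3_c27)) :=
  Lre_b IH (LK LD1_c0 LD2_c3 LD3_c52) (LK LD1_c0 LD2_c8 LD3_c27) Lrfl Lrfl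
theorem f56566 : Led Lsl_ct (LP (LK LD1_c0 LD2_c3 LD3_c52)) = (LP (LK LD1_c0 LD2_c8 LD3_c28)) :=
  Lre_c IH (LK LD1_c0 LD2_c3 LD3_c52) (LK LD1_c0 LD2_c8 LD3_c28) Lrfl Lrfl
theorem f56567 : Led Lsl_gt (LP (LK LD1_c0 LD2_c16 LD3_c37)) = (LP (LK LD1_c0 LD2_c8 LD3_c28)) :=
  Lre_g IH (LK LD1_c0 LD2_c16 LD3_c37) (LK LD1_c0 LD2_c8 LD3_c28) Lrfl Lrfl
theorem f56568 : Led Lsl_ct (LP (LK LD1_c0 LD2_c7 LD3_c25)) = (LP (LK LD1_c0 LD2_c16 LD3_c37)) :=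
  Lre_c IH (LK LD1_c0 LD2_c7 LD3_c25) (LK LD1_c0 LD2_c16 LD3_c37) Lrfl Lrfl
theorem f20456 : Led Lsl_gt (LP (LK LD1_c0 LD2_c3 LD3_c20)) = (LP (LK LD1_c0 LD2_c7 LD3_c25)) :=
  Lre_g IH (LK LD1_c0 LD2_c3 LD3_c20) (LK LD1_c0 LD2_c7 LD3_c25) Lrfl Lrfl
theorem f20434 : Led Lsl_bf (LP (LK LD1_c0 LD2_c3 LD3_c20)) = (LP (LK LD1_c0 LD2_c3 LD3_c20)) :=
  Lgr Lrot93 (Lpr_dt (K0.f20264 IH) (Lpr_bt (K0.f20261 IH) (Lpr_dt (K0.f13443 IH) (Lpn (LP (LK LD1_c0 LD2_c3 LD3_c20))))))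
theorem f13444 : Led Lsl_ct (LP (LK LD1_c0 LD2_c3 LD3_c20)) = (LP (LK LD1_c0 LD2_c7 LD3_c26)) :=
  Lre_c IH (LK LD1_c0 LD2_c3 LD3_c20) (LK LD1_c0 LD2_c7 LD3_c26) Lrfl Lrfl
theorem f20865 : Led Lsl_gt (LP (LK LD1_c0 LD2_c16 LD3_c40)) = (LP (LK LD1_c0 LD2_c7 LD3_c26)) :=
  Lre_g IH (LK LD1_c0 LD2_c16 LD3_c40) (LK LD1_c0 LD2_c7 LD3_c26) Lrfl Lrfl
theorem f56569 : Led Lsl_ct (LP (LK LD1_c0 LD2_c13 LD3_c20)) = (LP (LK LD1_c0 LD2_c16 LD3_c40)) :=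
  Lgr Lrot64 (Lpr_bt (f56564 IH) (Lpe (f36295 IH) (Lpe (f37935 IH) (Lpr_ct (f56566 IH) (Lpe (f56567 IH) (Lpe (f56568 IH) (Lpe (f20456 IH) (Lpr_bf (f20434 IH) (Lpr_ct (f13444 IH) (Lpe (f20865 IH) (Lpn (LP (LK LD1_c0 LD2_c16 LD3_c40)))))))))))))
theorem f20556 : Led Lsl_dt (LP (LK LD1_c0 LD2_c7 LD3_c26)) = (LP (LK LD1_c0 LD2_c16 LD3_c42)) :=
  Lre_d IH (LK LD1_c0 LD2_c7 LD3_c26) (LK LD1_c0 LD2_c16 LD3_c42) Lrfl Lrfl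
theorem f56582 : Led Lsl_gf (LP (LK LD1_c0 LD2_c32 LD3_c57)) = (LP (LK LD1_c0 LD2_c16 LD3_c42)) :=
  Lgr Lrot154 (Lpr_dt (K0.f13477 IH) (Lpr_ct (K0.f13478 IH) (Lpe (K0.f20269 IH) (Lpe (K0.f26019 IH) (Lpe (K0.f25724 IH) (Lpe (K0.f25725 IH) (Lpr_ct (f56569 IH) (Lpr_gt (f20865 IH) (Lpr_dt (f20556 IH) (Lpn (LP (LK LD1_c0 LD2_c16 LD3_c42))))))))))))
theorem f22458 : Led Lsl_dt (LP (LK LD1_c0 LD2_c7 LD3_c35)) = (LP (LK LD1_c0 LD2_c17 LD3_c0)) :=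
  Lre_d IH (LK LD1_c0 LD2_c7 LD3_c35) (LK LD1_c0 LD2_c17 LD3_c0) Lrfl Lrfl
theorem f20072 : Led Lsl_ct (LP (LK LD1_c0 LD2_c29 LD3_c58)) = (LP (LK LD1_c0 LD2_c18 LD3_c6)) :=
  Lre_c IH (LK LD1_c0 LD2_c29 LD3_c58) (LK LD1_c0 LD2_c18 LD3_c6) Lrfl Lrfl
theorem f22455 : Led Lsl_dt (LP (LK LD1_c0 LD2_c17 LD3_c0)) = (LP (LK LD1_c0 LD2_c7 LD3_c35)) :=
  Lre_d IH (LK LD1_c0 LD2_c17 LD3_c0) (LK LD1_c0 LD2_c7 LD3_c35) Lrfl Lrfl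
theorem f22456 : Led Lsl_ct (LP (LK LD1_c0 LD2_c8 LD3_c43)) = (LP (LK LD1_c0 LD2_c17 LD3_c0)) :=
  Lgr Lrot110 (Lpr_gf (K0.f20068 IH) (Lpe (f20072 IH) (Lpr_gf (K0.f22445 IH) (Lpe (K0.f8328 IH) (Lpr_gt (K0.f22453 IH) (Lpr_ct (K0.f20552 IH) (Lpr_gt (K0.f20267 IH) (Lpr_ct (K0.f22454 IH) (Lpe (f22455 IH) (Lpn (LP (LK LD1_c0 LD2_c17 LD3_c0))))))))))))
theorem f22488 : Led Lsl_cf (LP (LK LD1_c0 LD2_c8 LD3_c43)) = (LP (LK LD1_c0 LD2_c17 LD3_c0)) :=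
  Lgr Lrot11 (Lpr_ct (f22456 IH) (Lpn (LP (LK LD1_c0 LD2_c17 LD3_c0))))
theorem f20089 : Led Lsl_dt (LP (LK LD1_c0 LD2_c3 LD3_c58)) = (LP (LK LD1_c0 LD2_c8 LD3_c43)) :=
  Lre_d IH (LK LD1_c0 LD2_c3 LD3_c58) (LK LD1_c0 LD2_c8 LD3_c43) Lrfl Lrfl
theorem f350 : Led Lsl_gt (LP (LK LD1_c0 LD2_c8 LD3_c54)) = (LP (LK LD1_c0 LD2_c3 LD3_c61)) :=
  Lre_g IH (LK LD1_c0 LD2_c8 LD3_c54) (LK LD1_c0 LD2_c3 LD3_c61) Lrfl Lrfl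
theorem f56669 : Led Lsl_ct (LP (LK LD1_c0 LD2_c8 LD3_c54)) = (LP (LK LD1_c0 LD2_c16 LD3_c42)) :=
  Lgr Lrot8 (Lpr_gt (f350 IH) (Lpr_dt (K0.f349 IH) (Lpr_gt (K0.f5834 IH) (Lpr_dt (f20089 IH) (Lpr_cf (f22488 IH) (Lpe (f22458 IH) (Lpr_gf (K0.f26476 IH) (Lpe (K0.f13477 IH) (Lpr_gf (f56582 IH) (Lpn (LP (LK LD1_c0 LD2_c16 LD3_c42))))))))))))
theorem f20266 : Led Lsl_dt (LP (LK LD1_c0 LD2_c16 LD3_c42)) = (LP (LK LD1_c0 LD2_c7 LD3_c26)) :=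
  Lre_d IH (LK LD1_c0 LD2_c16 LD3_c42) (LK LD1_c0 LD2_c7 LD3_c26) Lrfl Lrfl
theorem f20265 : Led Lsl_ct (LP (LK LD1_c0 LD2_c7 LD3_c26)) = (LP (LK LD1_c0 LD2_c3 LD3_c20)) :=
  Lre_c IH (LK LD1_c0 LD2_c7 LD3_c26) (LK LD1_c0 LD2_c3 LD3_c20) Lrfl Lrfl
theorem f57530 : Led Lsl_df (LP (LK LD1_c0 LD2_c8 LD3_c54)) = (LP (LK LD1_c0 LD2_c8 LD3_c4)) :=
  Lgr Lrot43 (Lpr_ct (f56669 IH) (Lpr_dt (f20266 IH) (Lpr_ct (f20265 IH) (Lpr_dt (K0.f20264 IH) (Lpe (K0.f20259 IH) (Lpr_dt (K0.f20263 IH) (Lpr_ct (K0.f21016 IH) (Lpe (K0.f24608 IH) (Lpr_ct (K0.f26472 IH) (Lpr_dt (K0.f20275 IH) (Lpr_ct (K0.f20274 IH) (Lpr_dt (f20891 IH) (Lpr_ct (K0.f8329 IH) (Lpr_dt (K0.f20880 IH) (Lpe (K0.f20940 IH) (Lpn (LP (LK LD1_c0 LD2_c8 LD3_c4))))))))))))))))))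
theorem f20888 : Led Lsl_gt (LP (LK LD1_c0 LD2_c13 LD3_c55)) = (LP (LK LD1_c0 LD2_c8 LD3_c54)) :=
  Lre_g IH (LK LD1_c0 LD2_c13 LD3_c55) (LK LD1_c0 LD2_c8 LD3_c54) Lrfl Lrfl
theorem f13546 : Led Lsl_dt (LP (LK LD1_c0 LD2_c6 LD3_c20)) = (LP (LK LD1_c0 LD2_c13 LD3_c55)) :=
  Lre_d IH (LK LD1_c0 LD2_c6 LD3_c20) (LK LD1_c0 LD2_c13 LD3_c55) Lrfl Lrfl
theorem f12425 : Led Lsl_bt (LP (LK LD1_c0 LD2_c8 LD3_c42)) = (LP (LK LD1_c0 LD2_c3 LD3_c58)) :=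
  Lre_b IH (LK LD1_c0 LD2_c8 LD3_c42) (LK LD1_c0 LD2_c3 LD3_c58) Lrfl Lrfl
theorem f23712 : Led Lsl_ef (LP (LK LD1_c0 LD2_c3 LD3_c58)) = (LP (LK LD1_c0 LD2_c3 LD3_c58)) :=
  Lgr Lrot29 (Lpr_bt (K0.f12332 IH) (Lpr_et (K0.f23672 IH) (Lpr_bt (f12425 IH) (Lpn (LP (LK LD1_c0 LD2_c3 LD3_c58))))))
theorem f57546 : Led Lsl_et (LP (LK LD1_c0 LD2_c8 LD3_c7)) = (LP (LK LD1_c0 LD2_c18 LD3_c7)) :=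
  Lre_e IH (LK LD1_c0 LD2_c8 LD3_c7) (LK LD1_c0 LD2_c18 LD3_c7) Lrfl Lrfl
theorem f57543 : Led Lsl_et (LP (LK LD1_c0 LD2_c8 LD3_c4)) = (LP (LK LD1_c0 LD2_c17 LD3_c60)) :=
  Lre_e IH (LK LD1_c0 LD2_c8 LD3_c4) (LK LD1_c0 LD2_c17 LD3_c60) Lrfl Lrfl
theorem f57547 : Led Lsl_gf (LP (LK LD1_c0 LD2_c18 LD3_c7)) = (LP (LK LD1_c0 LD2_c17 LD3_c60)) :=
  Lgr Lrot141 (Lpe (f57546 IH) (Lpr_dt (K0.f20067 IH) (Lpe (K0.f20068 IH) (Lpe (f20089 IH) (Lpe (f23712 IH) (Lpr_gt (K0.f20862 IH) (Lpr_dt (f13546 IH) (Lpr_gt (f20888 IH) (Lpr_df (f57530 IH) (Lpr_et (f57543 IH) (Lpn (LP (LK LD1_c0 LD2_c17 LD3_c60)))))))))))))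
theorem f7486 : Led Lsl_ct (LP (LK LD1_c0 LD2_c8 LD3_c8)) = (LP (LK LD1_c0 LD2_c18 LD3_c7)) :=
  Lre_c IH (LK LD1_c0 LD2_c8 LD3_c8) (LK LD1_c0 LD2_c18 LD3_c7) Lrfl Lrfl
theorem f7394 : Led Lsl_bt (LP (LK LD1_c0 LD2_c8 LD3_c8)) = (LP (LK LD1_c0 LD2_c4 LD3_c33)) :=
  Lre_b IH (LK LD1_c0 LD2_c8 LD3_c8) (LK LD1_c0 LD2_c4 LD3_c33) Lrfl Lrfl
theorem f9867 : Led Lsl_ct (LP (LK LD1_c0 LD2_c4 LD3_c29)) = (LP (LK LD1_c0 LD2_c9 LD3_c31)) :=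
  Lre_c IH (LK LD1_c0 LD2_c4 LD3_c29) (LK LD1_c0 LD2_c9 LD3_c31) Lrfl Lrfl
theorem f7315 : Led Lsl_bt (LP (LK LD1_c0 LD2_c4 LD3_c29)) = (LP (LK LD1_c0 LD2_c9 LD3_c11)) :=
  Lre_b IH (LK LD1_c0 LD2_c4 LD3_c29) (LK LD1_c0 LD2_c9 LD3_c11) Lrfl Lrfl
theorem f3955 : Led Lsl_ef (LP (LK LD1_c0 LD2_c2 LD3_c0)) = (LP (LK LD1_c0 LD2_c2 LD3_c0)) :=
  Lgr Lrot73 (Lpe (K0.f3818 IH) (Lpr_et (K0.f3812 IH) (Lpr_dt (K0.f3951 IH) (Lpq (K0.f3808 IH) (Lpr_et (K0.f3811 IH) (Lpr_dt (K0.f3815 IH) (Lpn (LP (LK LD1_c0 LD2_c2 LD3_c0)))))))))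
theorem f3961 : Led Lsl_et (LP (LK LD1_c0 LD2_c4 LD3_c24)) = (LP (LK LD1_c0 LD2_c4 LD3_c24)) :=
  Lgr Lrot74 (Lpe (K0.f3817 IH) (Lpr_ef (f3955 IH) (Lpe (K0.f3821 IH) (Lpn (LP (LK LD1_c0 LD2_c4 LD3_c24))))))
theorem f20881 : Led Lsl_et (LP (LK LD1_c0 LD2_c7 LD3_c30)) = (LP (LK LD1_c0 LD2_c16 LD3_c51)) :=
  Lre_e IH (LK LD1_c0 LD2_c7 LD3_c30) (LK LD1_c0 LD2_c16 LD3_c51) Lrfl Lrfl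
theorem f20898 : Led Lsl_gf (LP (LK LD1_c0 LD2_c20 LD3_c4)) = (LP (LK LD1_c0 LD2_c16 LD3_c51)) :=
  Lgr Lrot141 (Lpe (K0.f9653 IH) (Lpr_dt (K0.f9651 IH) (Lpe (K0.f9644 IH) (Lpe (K0.f3843 IH) (Lpr_et (f3961 IH) (Lpr_gt (K0.f20866 IH) (Lpr_dt (K0.f7321 IH) (Lpr_gt (K0.f20886 IH) (Lpe (K0.f20897 IH) (Lpr_et (f20881 IH) (Lpn (LP (LK LD1_c0 LD2_c16 LD3_c51)))))))))))))
theorem f20900 : Led Lsl_gt (LP (LK LD1_c0 LD2_c9 LD3_c11)) = (LP (LK LD1_c0 LD2_c16 LD3_c51)) :=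
  Lgr Lrot5 (Lpr_ft (K0.f7324 IH) (Lpe (K0.f9677 IH) (Lpr_gf (f20898 IH) (Lpn (LP (LK LD1_c0 LD2_c16 LD3_c51))))))
theorem f9655 : Led Lsl_dt (LP (LK LD1_c0 LD2_c20 LD3_c4)) = (LP (LK LD1_c0 LD2_c20 LD3_c4)) :=
  Lgr Lrot77 (Lpe (K0.f9653 IH) (Lpr_df (K0.f9647 IH) (Lpe (K0.f7346 IH) (Lpe (K0.f9651 IH) (Lpe (K0.f9654 IH) (Lpn (LP (LK LD1_c0 LD2_c20 LD3_c4))))))))
theorem f9688 : Led Lsl_et (LP (LK LD1_c0 LD2_c9 LD3_c4)) = (LP (LK LD1_c0 LD2_c4 LD3_c10)) :=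
  Lre_e IH (LK LD1_c0 LD2_c9 LD3_c4) (LK LD1_c0 LD2_c4 LD3_c10) Lrfl Lrfl
theorem f20903 : Led Lsl_dt (LP (LK LD1_c0 LD2_c9 LD3_c4)) = (LP (LK LD1_c0 LD2_c16 LD3_c51)) :=
  Lgr Lrot136 (Lpr_et (f9688 IH) (Lpr_gf (K0.f9682 IH) (Lpe (K0.f7374 IH) (Lpr_dt (K0.f7375 IH) (Lpe (K0.f5885 IH) (Lpe (K0.f7368 IH) (Lpe (K0.f9668 IH) (Lpe (K0.f9654 IH) (Lpr_dt (f9655 IH) (Lpr_gf (f20898 IH) (Lpn (LP (LK LD1_c0 LD2_c16 LD3_c51)))))))))))))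
theorem f7377 : Led Lsl_et (LP (LK LD1_c0 LD2_c4 LD3_c10)) = (LP (LK LD1_c0 LD2_c9 LD3_c4)) :=
  Lre_e IH (LK LD1_c0 LD2_c4 LD3_c10) (LK LD1_c0 LD2_c9 LD3_c4) Lrfl Lrfl
theorem f20060 : Led Lsl_bf (LP (LK LD1_c0 LD2_c9 LD3_c4)) = (LP (LK LD1_c0 LD2_c9 LD3_c4)) :=
  Lgr Lrot96 (Lpr_et (f9688 IH) (Lpr_bt (K0.f20055 IH) (Lpr_et (f7377 IH) (Lpn (LP (LK LD1_c0 LD2_c9 LD3_c4))))))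
theorem f20882 : Led Lsl_df (LP (LK LD1_c0 LD2_c9 LD3_c4)) = (LP (LK LD1_c0 LD2_c16 LD3_c51)) :=
  Lgr Lrot70 (Lpr_et (f9688 IH) (Lpr_dt (K0.f7376 IH) (Lpr_et (K0.f20876 IH) (Lpr_dt (K0.f20880 IH) (Lpr_et (f20881 IH) (Lpn (LP (LK LD1_c0 LD2_c16 LD3_c51))))))))
theorem f20905 : Led Lsl_bf (LP (LK LD1_c0 LD2_c16 LD3_c51)) = (LP (LK LD1_c0 LD2_c16 LD3_c51)) :=
  Lgr Lrot93 (Lpe (f20882 IH) (Lpe (f20060 IH) (Lpr_dt (f20903 IH) (Lpn (LP (LK LD1_c0 LD2_c16 LD3_c51))))))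
theorem f57554 : Led Lsl_ct (LP (LK LD1_c0 LD2_c16 LD3_c51)) = (LP (LK LD1_c0 LD2_c17 LD3_c60)) :=
  Lgr Lrot64 (Lpe (f20905 IH) (Lpe (f20900 IH) (Lpe (f7315 IH) (Lpr_ct (f9867 IH) (Lpr_gf (K0.f11476 IH) (Lpe (K0.f9977 IH) (Lpr_gf (K0.f10989 IH) (Lpe (f7394 IH) (Lpr_ct (f7486 IH) (Lpr_gf (f57547 IH) (Lpn (LP (LK LD1_c0 LD2_c17 LD3_c60)))))))))))))
theorem f24955 : Led Lsl_et (LP (LK LD1_c0 LD2_c17 LD3_c60)) = (LP (LK LD1_c0 LD2_c8 LD3_c4)) :=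
  Lre_e IH (LK LD1_c0 LD2_c17 LD3_c60) (LK LD1_c0 LD2_c8 LD3_c4) Lrfl Lrfl
theorem f57563 : Led Lsl_cf (LP (LK LD1_c0 LD2_c7 LD3_c30)) = (LP (LK LD1_c0 LD2_c8 LD3_c4)) :=
  Lgr Lrot39 (Lpr_et (f20881 IH) (Lpr_ct (f57554 IH) (Lpr_et (f24955 IH) (Lpn (LP (LK LD1_c0 LD2_c8 LD3_c4))))))
theorem f25144 : Led Lsl_ct (LP (LK LD1_c0 LD2_c3 LD3_c48)) = (LP (LK LD1_c0 LD2_c8 LD3_c17)) :=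
  Lre_c IH (LK LD1_c0 LD2_c3 LD3_c48) (LK LD1_c0 LD2_c8 LD3_c17) Lrfl Lrfl
theorem f57573 : Led Lsl_gt (LP (LK LD1_c0 LD2_c8 LD3_c17)) = (LP (LK LD1_c0 LD2_c8 LD3_c4)) :=
  Lgr Lrot150 (Lpe (f25144 IH) (Lpe (K0.f3970 IH) (Lpe (K0.f3969 IH) (Lpr_gt (K0.f7114 IH) (Lpr_ct (K0.f7136 IH) (Lpr_gt (K0.f7137 IH) (Lpr_ct (K0.f8329 IH) (Lpe (K0.f20897 IH) (Lpr_cf (f57563 IH) (Lpn (LP (LK LD1_c0 LD2_c8 LD3_c4))))))))))))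
theorem f25440 : Led Lsl_et (LP (LK LD1_c0 LD2_c18 LD3_c27)) = (LP (LK LD1_c0 LD2_c8 LD3_c17)) :=
  Lre_e IH (LK LD1_c0 LD2_c18 LD3_c27) (LK LD1_c0 LD2_c8 LD3_c17) Lrfl Lrfl
theorem f24953 : Led Lsl_et (LP (LK LD1_c0 LD2_c1 LD3_c44)) = (LP (LK LD1_c0 LD2_c3 LD3_c43)) :=
  Lre_e IH (LK LD1_c0 LD2_c1 LD3_c44) (LK LD1_c0 LD2_c3 LD3_c43) Lrfl Lrfl
theorem f21018 : Led Lsl_et (LP (LK LD1_c0 LD2_c17 LD3_c58)) = (LP (LK LD1_c0 LD2_c8 LD3_c3)) :=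
  Lre_e IH (LK LD1_c0 LD2_c17 LD3_c58) (LK LD1_c0 LD2_c8 LD3_c3) Lrfl Lrfl
theorem f21032 : Led Lsl_dt (LP (LK LD1_c0 LD2_c17 LD3_c58)) = (LP (LK LD1_c0 LD2_c40 LD3_c0)) :=
  Lre_d IH (LK LD1_c0 LD2_c17 LD3_c58) (LK LD1_c0 LD2_c40 LD3_c0) Lrfl Lrfl
theorem f57600 : Led Lsl_gf (LP (LK LD1_c0 LD2_c41 LD3_c14)) = (LP (LK LD1_c0 LD2_c40 LD3_c0)) :=
  Lgr Lrot145 (Lpe (K0.f25441 IH) (Lpr_et (f25440 IH) (Lpr_gt (f57573 IH) (Lpe (f57530 IH) (Lpr_gt (f350 IH) (Lpe (K0.f22829 IH) (Lpr_et (f24953 IH) (Lpr_gt (K0.f9933 IH) (Lpe (f21018 IH) (Lpr_dt (f21032 IH) (Lpn (LP (LK LD1_c0 LD2_c40 LD3_c0)))))))))))))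
theorem f25614 : Led Lsl_ct (LP (LK LD1_c1 LD2_c29 LD3_c11)) = (LP (LK LD1_c0 LD2_c41 LD3_c14)) :=
  Lre_c IH (LK LD1_c1 LD2_c29 LD3_c11) (LK LD1_c0 LD2_c41 LD3_c14) Lrfl Lrfl
theorem f25639 : Led Lsl_bt (LP (LK LD1_c1 LD2_c29 LD3_c11)) = (LP (LK LD1_c3 LD2_c6 LD3_c13)) :=
  Lre_b IH (LK LD1_c1 LD2_c29 LD3_c11) (LK LD1_c3 LD2_c6 LD3_c13) Lrfl Lrfl
theorem f57662 : Led Lsl_gt (LP (LK LD1_c3 LD2_c6 LD3_c13)) = (LP (LK LD1_c6 LD2_c17 LD3_c61)) :=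
  Lre_g IH (LK LD1_c3 LD2_c6 LD3_c13) (LK LD1_c6 LD2_c17 LD3_c61) Lrfl Lrfl
theorem f57663 : Led Lsl_ct (LP (LK LD1_c6 LD2_c17 LD3_c61)) = (LP (LK LD1_c12 LD2_c12 LD3_c14)) :=
  Lre_c IH (LK LD1_c6 LD2_c17 LD3_c61) (LK LD1_c12 LD2_c12 LD3_c14) Lrfl Lrfl
theorem f21038 : Led Lsl_ct (LP (LK LD1_c1 LD2_c26 LD3_c31)) = (LP (LK LD1_c0 LD2_c40 LD3_c0)) :=
  Lre_c IH (LK LD1_c1 LD2_c26 LD3_c31) (LK LD1_c0 LD2_c40 LD3_c0) Lrfl Lrfl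
theorem f24736 : Led Lsl_bt (LP (LK LD1_c1 LD2_c26 LD3_c31)) = (LP (LK LD1_c3 LD2_c1 LD3_c11)) :=
  Lre_b IH (LK LD1_c1 LD2_c26 LD3_c31) (LK LD1_c3 LD2_c1 LD3_c11) Lrfl Lrfl
theorem f24726 : Led Lsl_gt (LP (LK LD1_c6 LD2_c9 LD3_c29)) = (LP (LK LD1_c3 LD2_c1 LD3_c11)) :=
  Lre_g IH (LK LD1_c6 LD2_c9 LD3_c29) (LK LD1_c3 LD2_c1 LD3_c11) Lrfl Lrfl
theorem f57664 : Led Lsl_bt (LP (LK LD1_c12 LD2_c0 LD3_c0)) = (LP (LK LD1_c6 LD2_c9 LD3_c29)) :=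
  Lre_b IH (LK LD1_c12 LD2_c0 LD3_c0) (LK LD1_c6 LD2_c9 LD3_c29) Lrfl Lrfl
theorem f57665 : Led Lsl_ct (LP (LK LD1_c12 LD2_c0 LD3_c0)) = (LP (LK LD1_c21 LD2_c4 LD3_c48)) :=
  Lre_c IH (LK LD1_c12 LD2_c0 LD3_c0) (LK LD1_c21 LD2_c4 LD3_c48) Lrfl Lrfl
theorem f57666 : Led Lsl_gt (LP (LK LD1_c12 LD2_c12 LD3_c14)) = (LP (LK LD1_c21 LD2_c4 LD3_c48)) :=
  Lgr Lrot149 (Lpe (f57663 IH) (Lpe (f57662 IH) (Lpe (f25639 IH) (Lpr_ct (f25614 IH) (Lpr_gf (f57600 IH) (Lpe (f21038 IH) (Lpr_bt (f24736 IH) (Lpe (f24726 IH) (Lpe (f57664 IH) (Lpr_ct (f57665 IH) (Lpn (LP (LK LD1_c21 LD2_c4 LD3_c48)))))))))))))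
theorem f25688 : Led Lsl_bt (LP (LK LD1_c3 LD2_c6 LD3_c13)) = (LP (LK LD1_c1 LD2_c29 LD3_c11)) :=
  Lre_b IH (LK LD1_c3 LD2_c6 LD3_c13) (LK LD1_c1 LD2_c29 LD3_c11) Lrfl Lrfl
theorem f25423 : Led Lsl_bt (LP (LK LD1_c0 LD2_c45 LD3_c7)) = (LP (LK LD1_c1 LD2_c37 LD3_c32)) :=
  Lre_b IH (LK LD1_c0 LD2_c45 LD3_c7) (LK LD1_c1 LD2_c37 LD3_c32) Lrfl Lrfl
theorem f25689 : Led Lsl_df (LP (LK LD1_c3 LD2_c6 LD3_c13)) = (LP (LK LD1_c1 LD2_c37 LD3_c32)) :=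
  Lgr Lrot12 (Lpr_bt (f25688 IH) (Lpr_dt (K0.f25684 IH) (Lpr_bt (f25423 IH) (Lpn (LP (LK LD1_c1 LD2_c37 LD3_c32))))))
theorem f57709 : Led Lsl_gt (LP (LK LD1_c1 LD2_c37 LD3_c32)) = (LP (LK LD1_c3 LD2_c22 LD3_c32)) :=
  Lre_g IH (LK LD1_c1 LD2_c37 LD3_c32) (LK LD1_c3 LD2_c22 LD3_c32) Lrfl Lrfl
theorem f57710 : Led Lsl_ct (LP (LK LD1_c3 LD2_c22 LD3_c32)) = (LP (LK LD1_c6 LD2_c48 LD3_c53)) :=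
  Lre_c IH (LK LD1_c3 LD2_c22 LD3_c32) (LK LD1_c6 LD2_c48 LD3_c53) Lrfl Lrfl
theorem f57711 : Led Lsl_gt (LP (LK LD1_c6 LD2_c48 LD3_c53)) = (LP (LK LD1_c13 LD2_c0 LD3_c5)) :=
  Lre_g IH (LK LD1_c6 LD2_c48 LD3_c53) (LK LD1_c13 LD2_c0 LD3_c5) Lrfl Lrfl
theorem f57712 : Led Lsl_ct (LP (LK LD1_c13 LD2_c0 LD3_c5)) = (LP (LK LD1_c12 LD2_c59 LD3_c42)) :=
  Lre_c IH (LK LD1_c13 LD2_c0 LD3_c5) (LK LD1_c12 LD2_c59 LD3_c42) Lrfl Lrfl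
theorem f57708 : Led Lsl_ct (LP (LK LD1_c21 LD2_c4 LD3_c48)) = (LP (LK LD1_c12 LD2_c0 LD3_c0)) :=
  Lre_c IH (LK LD1_c21 LD2_c4 LD3_c48) (LK LD1_c12 LD2_c0 LD3_c0) Lrfl Lrfl
theorem f57713 : Led Lsl_df (LP (LK LD1_c12 LD2_c59 LD3_c42)) = (LP (LK LD1_c12 LD2_c0 LD3_c0)) :=
  Lgr Lrot162 (Lpe (f57712 IH) (Lpe (f57711 IH) (Lpe (f57710 IH) (Lpe (f57709 IH) (Lpe (f25689 IH) (Lpr_gt (f57662 IH) (Lpr_ct (f57663 IH) (Lpr_gt (f57666 IH) (Lpr_ct (f57708 IH) (Lpn (LP (LK LD1_c12 LD2_c0 LD3_c0))))))))))))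
theorem f57728 : Led Lsl_dt (LP (LK LD1_c12 LD2_c59 LD3_c42)) = (LP (LK LD1_c12 LD2_c0 LD3_c0)) :=
  Lgr Lrot42 (Lpr_df (f57713 IH) (Lpn (LP (LK LD1_c12 LD2_c0 LD3_c0))))
theorem f57738 : Led Lsl_df (LP (LK LD1_c1 LD2_c37 LD3_c32)) = (LP (LK LD1_c3 LD2_c6 LD3_c13)) :=
  Lgr Lrot155 (Lpr_gt (f57709 IH) (Lpr_ct (f57710 IH) (Lpr_gt (f57711 IH) (Lpr_ct (f57712 IH) (Lpr_dt (f57728 IH) (Lpe (f57708 IH) (Lpe (f57666 IH) (Lpe (f57663 IH) (Lpe (f57662 IH) (Lpn (LP (LK LD1_c3 LD2_c6 LD3_c13))))))))))))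
theorem f25464 : Led Lsl_ct (LP (LK LD1_c1 LD2_c37 LD3_c32)) = (LP (LK LD1_c3 LD2_c18 LD3_c55)) :=
  Lre_c IH (LK LD1_c1 LD2_c37 LD3_c32) (LK LD1_c3 LD2_c18 LD3_c55) Lrfl Lrfl
theorem f57754 : Led Lsl_at (LP (LK LD1_c6 LD2_c41 LD3_c45)) = (LP (LK LD1_c3 LD2_c18 LD3_c55)) :=
  Lre_a IH (LK LD1_c6 LD2_c41 LD3_c45) (LK LD1_c3 LD2_c18 LD3_c55) Lrfl Lrfl
theorem f57755 : Led Lsl_ft (LP (LK LD1_c12 LD2_c3 LD3_c28)) = (LP (LK LD1_c6 LD2_c41 LD3_c45)) :=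
  Lre_f IH (LK LD1_c12 LD2_c3 LD3_c28) (LK LD1_c6 LD2_c41 LD3_c45) Lrfl Lrfl
theorem f57756 : Led Lsl_dt (LP (LK LD1_c12 LD2_c3 LD3_c28)) = (LP (LK LD1_c21 LD2_c8 LD3_c55)) :=
  Lre_d IH (LK LD1_c12 LD2_c3 LD3_c28) (LK LD1_c21 LD2_c8 LD3_c55) Lrfl Lrfl
theorem f57757 : Led Lsl_ct (LP (LK LD1_c21 LD2_c8 LD3_c55)) = (LP (LK LD1_c29 LD2_c52 LD3_c14)) :=
  Lre_c IH (LK LD1_c21 LD2_c8 LD3_c55) (LK LD1_c29 LD2_c52 LD3_c14) Lrfl Lrfl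
theorem f57747 : Led Lsl_ct (LP (LK LD1_c6 LD2_c17 LD3_c44)) = (LP (LK LD1_c3 LD2_c6 LD3_c13)) :=
  Lre_c IH (LK LD1_c6 LD2_c17 LD3_c44) (LK LD1_c3 LD2_c6 LD3_c13) Lrfl Lrfl
theorem f57748 : Led Lsl_dt (LP (LK LD1_c12 LD2_c11 LD3_c54)) = (LP (LK LD1_c6 LD2_c17 LD3_c44)) :=
  Lre_d IH (LK LD1_c12 LD2_c11 LD3_c54) (LK LD1_c6 LD2_c17 LD3_c44) Lrfl Lrfl
theorem f57749 : Led Lsl_ct (LP (LK LD1_c21 LD2_c17 LD3_c37)) = (LP (LK LD1_c12 LD2_c11 LD3_c54)) :=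
  Lre_c IH (LK LD1_c21 LD2_c17 LD3_c37) (LK LD1_c12 LD2_c11 LD3_c54) Lrfl Lrfl
theorem f57758 : Led Lsl_dt (LP (LK LD1_c29 LD2_c52 LD3_c14)) = (LP (LK LD1_c21 LD2_c17 LD3_c37)) :=
  Lgr Lrot32 (Lpe (f57757 IH) (Lpe (f57756 IH) (Lpr_ft (f57755 IH) (Lpr_at (f57754 IH) (Lpe (f25464 IH) (Lpr_df (f57738 IH) (Lpe (f57747 IH) (Lpe (f57748 IH) (Lpe (f57749 IH) (Lpn (LP (LK LD1_c21 LD2_c17 LD3_c37))))))))))))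
theorem f57789 : Led Lsl_df (LP (LK LD1_c29 LD2_c52 LD3_c14)) = (LP (LK LD1_c21 LD2_c17 LD3_c37)) :=
  Lgr Lrot38 (Lpr_dt (f57758 IH) (Lpn (LP (LK LD1_c21 LD2_c17 LD3_c37))))
theorem f57808 : Led Lsl_at (LP (LK LD1_c29 LD2_c52 LD3_c14)) = (LP (LK LD1_c21 LD2_c8 LD3_c58)) :=
  Lre_a IH (LK LD1_c29 LD2_c52 LD3_c14) (LK LD1_c21 LD2_c8 LD3_c58) Lrfl Lrfl
theorem f57809 : Led Lsl_dt (LP (LK LD1_c21 LD2_c8 LD3_c58)) = (LP (LK LD1_c29 LD2_c52 LD3_c19)) :=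
  Lre_d IH (LK LD1_c21 LD2_c8 LD3_c58) (LK LD1_c29 LD2_c52 LD3_c19) Lrfl Lrfl
theorem f57810 : Led Lsl_at (LP (LK LD1_c29 LD2_c52 LD3_c19)) = (LP (LK LD1_c21 LD2_c17 LD3_c37)) :=
  Lgr Lrot51 (Lpe (f57809 IH) (Lpe (f57808 IH) (Lpr_df (f57789 IH) (Lpn (LP (LK LD1_c21 LD2_c17 LD3_c37))))))
theorem f57825 : Led Lsl_at (LP (LK LD1_c12 LD2_c11 LD3_c54)) = (LP (LK LD1_c21 LD2_c17 LD3_c34)) :=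
  Lre_a IH (LK LD1_c12 LD2_c11 LD3_c54) (LK LD1_c21 LD2_c17 LD3_c34) Lrfl Lrfl
theorem f57826 : Led Lsl_cf (LP (LK LD1_c29 LD2_c52 LD3_c19)) = (LP (LK LD1_c21 LD2_c17 LD3_c34)) :=
  Lgr Lrot1 (Lpr_at (f57810 IH) (Lpr_ct (f57749 IH) (Lpr_at (f57825 IH) (Lpn (LP (LK LD1_c21 LD2_c17 LD3_c34))))))
theorem f57839 : Led Lsl_ct (LP (LK LD1_c29 LD2_c52 LD3_c19)) = (LP (LK LD1_c21 LD2_c17 LD3_c34)) :=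
  Lgr Lrot59 (Lpr_cf (f57826 IH) (Lpn (LP (LK LD1_c21 LD2_c17 LD3_c34))))
theorem f57856 : Led Lsl_ct (LP (LK LD1_c12 LD2_c3 LD3_c29)) = (LP (LK LD1_c21 LD2_c8 LD3_c58)) :=
  Lre_c IH (LK LD1_c12 LD2_c3 LD3_c29) (LK LD1_c21 LD2_c8 LD3_c58) Lrfl Lrfl
theorem f57858 : Led Lsl_dt (LP (LK LD1_c6 LD2_c11 LD3_c48)) = (LP (LK LD1_c12 LD2_c3 LD3_c29)) :=
  Lre_d IH (LK LD1_c6 LD2_c11 LD3_c48) (LK LD1_c12 LD2_c3 LD3_c29) Lrfl Lrfl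
theorem f57859 : Led Lsl_ct (LP (LK LD1_c3 LD2_c3 LD3_c14)) = (LP (LK LD1_c6 LD2_c11 LD3_c48)) :=
  Lre_c IH (LK LD1_c3 LD2_c3 LD3_c14) (LK LD1_c6 LD2_c11 LD3_c48) Lrfl Lrfl
theorem f7482 : Led Lsl_bt (LP (LK LD1_c3 LD2_c3 LD3_c14)) = (LP (LK LD1_c1 LD2_c27 LD3_c31)) :=
  Lre_b IH (LK LD1_c3 LD2_c3 LD3_c14) (LK LD1_c1 LD2_c27 LD3_c31) Lrfl Lrfl
theorem f7483 : Led Lsl_bt (LP (LK LD1_c1 LD2_c8 LD3_c37)) = (LP (LK LD1_c2 LD2_c23 LD3_c0)) :=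
  Lre_b IH (LK LD1_c1 LD2_c8 LD3_c37) (LK LD1_c2 LD2_c23 LD3_c0) Lrfl Lrfl
theorem f7484 : Led Lsl_df (LP (LK LD1_c3 LD2_c3 LD3_c14)) = (LP (LK LD1_c2 LD2_c23 LD3_c0)) :=
  Lgr Lrot12 (Lpr_bt (f7482 IH) (Lpr_dt (K0.f7467 IH) (Lpr_bt (f7483 IH) (Lpn (LP (LK LD1_c2 LD2_c23 LD3_c0))))))
theorem f57863 : Led Lsl_dt (LP (LK LD1_c21 LD2_c17 LD3_c34)) = (LP (LK LD1_c12 LD2_c11 LD3_c53)) :=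
  Lre_d IH (LK LD1_c21 LD2_c17 LD3_c34) (LK LD1_c12 LD2_c11 LD3_c53) Lrfl Lrfl
theorem f57864 : Led Lsl_ct (LP (LK LD1_c12 LD2_c11 LD3_c53)) = (LP (LK LD1_c6 LD2_c18 LD3_c1)) :=
  Lre_c IH (LK LD1_c12 LD2_c11 LD3_c53) (LK LD1_c6 LD2_c18 LD3_c1) Lrfl Lrfl
theorem f57877 : Led Lsl_at (LP (LK LD1_c3 LD2_c6 LD3_c13)) = (LP (LK LD1_c6 LD2_c18 LD3_c1)) :=
  Lre_a IH (LK LD1_c3 LD2_c6 LD3_c13) (LK LD1_c6 LD2_c18 LD3_c1) Lrfl Lrfl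
theorem f57878 : Led Lsl_ft (LP (LK LD1_c2 LD2_c23 LD3_c0)) = (LP (LK LD1_c3 LD2_c6 LD3_c13)) :=
  Lgr Lrot142 (Lpe (f7484 IH) (Lpr_ct (f57859 IH) (Lpr_dt (f57858 IH) (Lpr_ct (f57856 IH) (Lpr_dt (f57809 IH) (Lpr_ct (f57839 IH) (Lpr_dt (f57863 IH) (Lpr_ct (f57864 IH) (Lpe (f57877 IH) (Lpn (LP (LK LD1_c3 LD2_c6 LD3_c13))))))))))))
theorem f57892 : Led Lsl_ff (LP (LK LD1_c2 LD2_c23 LD3_c0)) = (LP (LK LD1_c3 LD2_c6 LD3_c13)) :=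
  Lgr Lrot3 (Lpr_ft (f57878 IH) (Lpn (LP (LK LD1_c3 LD2_c6 LD3_c13))))
theorem f57916 : Led Lsl_at (LP (LK LD1_c2 LD2_c23 LD3_c0)) = (LP (LK LD1_c4 LD2_c50 LD3_c29)) :=
  Lre_a IH (LK LD1_c2 LD2_c23 LD3_c0) (LK LD1_c4 LD2_c50 LD3_c29) Lrfl Lrfl
theorem f57931 : Led Lsl_ct (LP (LK LD1_c9 LD2_c28 LD3_c22)) = (LP (LK LD1_c4 LD2_c50 LD3_c29)) :=
  Lre_c IH (LK LD1_c9 LD2_c28 LD3_c22) (LK LD1_c4 LD2_c50 LD3_c29) Lrfl Lrfl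
theorem f57932 : Led Lsl_dt (LP (LK LD1_c17 LD2_c28 LD3_c12)) = (LP (LK LD1_c9 LD2_c28 LD3_c22)) :=
  Lre_d IH (LK LD1_c17 LD2_c28 LD3_c12) (LK LD1_c9 LD2_c28 LD3_c22) Lrfl Lrfl
theorem f57744 : Led Lsl_dt (LP (LK LD1_c3 LD2_c18 LD3_c55)) = (LP (LK LD1_c6 LD2_c41 LD3_c46)) :=
  Lre_d IH (LK LD1_c3 LD2_c18 LD3_c55) (LK LD1_c6 LD2_c41 LD3_c46) Lrfl Lrfl
theorem f57745 : Led Lsl_ct (LP (LK LD1_c6 LD2_c41 LD3_c46)) = (LP (LK LD1_c12 LD2_c48 LD3_c45)) :=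
  Lre_c IH (LK LD1_c6 LD2_c41 LD3_c46) (LK LD1_c12 LD2_c48 LD3_c45) Lrfl Lrfl
theorem f57746 : Led Lsl_dt (LP (LK LD1_c12 LD2_c48 LD3_c45)) = (LP (LK LD1_c21 LD2_c56 LD3_c46)) :=
  Lre_d IH (LK LD1_c12 LD2_c48 LD3_c45) (LK LD1_c21 LD2_c56 LD3_c46) Lrfl Lrfl
theorem f57933 : Led Lsl_cf (LP (LK LD1_c17 LD2_c28 LD3_c12)) = (LP (LK LD1_c21 LD2_c56 LD3_c46)) :=
  Lgr Lrot161 (Lpr_dt (f57932 IH) (Lpr_ct (f57931 IH) (Lpe (f57916 IH) (Lpr_ff (f57892 IH) (Lpe (f57738 IH) (Lpr_ct (f25464 IH) (Lpr_dt (f57744 IH) (Lpr_ct (f57745 IH) (Lpr_dt (f57746 IH) (Lpn (LP (LK LD1_c21 LD2_c56 LD3_c46))))))))))))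
theorem f57950 : Led Lsl_at (LP (LK LD1_c9 LD2_c28 LD3_c23)) = (LP (LK LD1_c17 LD2_c28 LD3_c12)) :=
  Lre_a IH (LK LD1_c9 LD2_c28 LD3_c23) (LK LD1_c17 LD2_c28 LD3_c12) Lrfl Lrfl
theorem f57951 : Led Lsl_ff (LP (LK LD1_c9 LD2_c28 LD3_c23)) = (LP (LK LD1_c12 LD2_c11 LD3_c54)) :=
  Lgr Lrot103 (Lpr_at (f57950 IH) (Lpr_cf (f57933 IH) (Lpe (f57746 IH) (Lpe (f57745 IH) (Lpe (f57744 IH) (Lpe (f25464 IH) (Lpr_df (f57738 IH) (Lpe (f57747 IH) (Lpe (f57748 IH) (Lpn (LP (LK LD1_c12 LD2_c11 LD3_c54))))))))))))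
theorem f57967 : Led Lsl_et (LP (LK LD1_c9 LD2_c28 LD3_c23)) = (LP (LK LD1_c17 LD2_c28 LD3_c16)) :=
  Lre_e IH (LK LD1_c9 LD2_c28 LD3_c23) (LK LD1_c17 LD2_c28 LD3_c16) Lrfl Lrfl
theorem f57968 : Led Lsl_ft (LP (LK LD1_c17 LD2_c28 LD3_c16)) = (LP (LK LD1_c27 LD2_c18 LD3_c34)) :=
  Lre_f IH (LK LD1_c17 LD2_c28 LD3_c16) (LK LD1_c27 LD2_c18 LD3_c34) Lrfl Lrfl
theorem f57969 : Led Lsl_et (LP (LK LD1_c21 LD2_c17 LD3_c38)) = (LP (LK LD1_c12 LD2_c11 LD3_c54)) :=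
  Lre_e IH (LK LD1_c21 LD2_c17 LD3_c38) (LK LD1_c12 LD2_c11 LD3_c54) Lrfl Lrfl
theorem f57970 : Led Lsl_ft (LP (LK LD1_c29 LD2_c56 LD3_c61)) = (LP (LK LD1_c21 LD2_c17 LD3_c38)) :=
  Lre_f IH (LK LD1_c29 LD2_c56 LD3_c61) (LK LD1_c21 LD2_c17 LD3_c38) Lrfl Lrfl
theorem f57971 : Led Lsl_et (LP (LK LD1_c27 LD2_c18 LD3_c34)) = (LP (LK LD1_c29 LD2_c56 LD3_c61)) :=
  Lgr Lrot69 (Lpe (f57968 IH) (Lpe (f57967 IH) (Lpr_ff (f57951 IH) (Lpe (f57969 IH) (Lpe (f57970 IH) (Lpn (LP (LK LD1_c29 LD2_c56 LD3_c61))))))))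
theorem f57991 : Led Lsl_ef (LP (LK LD1_c27 LD2_c18 LD3_c34)) = (LP (LK LD1_c29 LD2_c56 LD3_c61)) :=
  Lgr Lrot88 (Lpr_et (f57971 IH) (Lpn (LP (LK LD1_c29 LD2_c56 LD3_c61))))
theorem f57994 : Led Lsl_bt (LP (LK LD1_c27 LD2_c18 LD3_c34)) = (LP (LK LD1_c17 LD2_c28 LD3_c25)) :=
  Lre_b IH (LK LD1_c27 LD2_c18 LD3_c34) (LK LD1_c17 LD2_c28 LD3_c25) Lrfl Lrfl
theorem f57995 : Led Lsl_bt (LP (LK LD1_c21 LD2_c17 LD3_c44)) = (LP (LK LD1_c29 LD2_c56 LD3_c61)) :=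
  Lre_b IH (LK LD1_c21 LD2_c17 LD3_c44) (LK LD1_c29 LD2_c56 LD3_c61) Lrfl Lrfl
theorem f57996 : Led Lsl_et (LP (LK LD1_c17 LD2_c28 LD3_c25)) = (LP (LK LD1_c21 LD2_c17 LD3_c44)) :=
  Lgr Lrot74 (Lpe (f57994 IH) (Lpr_ef (f57991 IH) (Lpe (f57995 IH) (Lpn (LP (LK LD1_c21 LD2_c17 LD3_c44))))))
theorem f58007 : Led Lsl_ft (LP (LK LD1_c9 LD2_c28 LD3_c27)) = (LP (LK LD1_c17 LD2_c28 LD3_c25)) :=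
  Lre_f IH (LK LD1_c9 LD2_c28 LD3_c27) (LK LD1_c17 LD2_c28 LD3_c25) Lrfl Lrfl
theorem f58008 : Led Lsl_et (LP (LK LD1_c4 LD2_c47 LD3_c42)) = (LP (LK LD1_c9 LD2_c28 LD3_c27)) :=
  Lre_e IH (LK LD1_c4 LD2_c47 LD3_c42) (LK LD1_c9 LD2_c28 LD3_c27) Lrfl Lrfl
theorem f58009 : Led Lsl_ft (LP (LK LD1_c21 LD2_c17 LD3_c44)) = (LP (LK LD1_c12 LD2_c11 LD3_c57)) :=
  Lre_f IH (LK LD1_c21 LD2_c17 LD3_c44) (LK LD1_c12 LD2_c11 LD3_c57) Lrfl Lrfl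
theorem f58010 : Led Lsl_et (LP (LK LD1_c12 LD2_c11 LD3_c57)) = (LP (LK LD1_c6 LD2_c17 LD3_c45)) :=
  Lre_e IH (LK LD1_c12 LD2_c11 LD3_c57) (LK LD1_c6 LD2_c17 LD3_c45) Lrfl Lrfl
theorem f58011 : Led Lsl_ff (LP (LK LD1_c4 LD2_c47 LD3_c42)) = (LP (LK LD1_c6 LD2_c17 LD3_c45)) :=
  Lgr Lrot72 (Lpr_et (f58008 IH) (Lpr_ft (f58007 IH) (Lpr_et (f57996 IH) (Lpr_ft (f58009 IH) (Lpr_et (f58010 IH) (Lpn (LP (LK LD1_c6 LD2_c17 LD3_c45))))))))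
theorem f58017 : Led Lsl_dt (LP (LK LD1_c4 LD2_c47 LD3_c42)) = (LP (LK LD1_c2 LD2_c21 LD3_c43)) :=
  Lre_d IH (LK LD1_c4 LD2_c47 LD3_c42) (LK LD1_c2 LD2_c21 LD3_c43) Lrfl Lrfl
theorem f58018 : Led Lsl_dt (LP (LK LD1_c3 LD2_c6 LD3_c3)) = (LP (LK LD1_c6 LD2_c17 LD3_c45)) :=
  Lre_d IH (LK LD1_c3 LD2_c6 LD3_c3) (LK LD1_c6 LD2_c17 LD3_c45) Lrfl Lrfl
theorem f58019 : Led Lsl_ft (LP (LK LD1_c2 LD2_c21 LD3_c43)) = (LP (LK LD1_c3 LD2_c6 LD3_c3)) :=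
  Lgr Lrot54 (Lpe (f58017 IH) (Lpr_ff (f58011 IH) (Lpe (f58018 IH) (Lpn (LP (LK LD1_c3 LD2_c6 LD3_c3))))))
theorem f58050 : Led Lsl_ff (LP (LK LD1_c2 LD2_c21 LD3_c43)) = (LP (LK LD1_c3 LD2_c6 LD3_c3)) :=
  Lgr Lrot3 (Lpr_ft (f58019 IH) (Lpn (LP (LK LD1_c3 LD2_c6 LD3_c3))))
theorem f58066 : Led Lsl_at (LP (LK LD1_c2 LD2_c21 LD3_c43)) = (LP (LK LD1_c4 LD2_c44 LD3_c31)) :=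
  Lre_a IH (LK LD1_c2 LD2_c21 LD3_c43) (LK LD1_c4 LD2_c44 LD3_c31) Lrfl Lrfl
theorem f58067 : Led Lsl_at (LP (LK LD1_c6 LD2_c17 LD3_c24)) = (LP (LK LD1_c3 LD2_c6 LD3_c3)) :=
  Lre_a IH (LK LD1_c6 LD2_c17 LD3_c24) (LK LD1_c3 LD2_c6 LD3_c3) Lrfl Lrfl
theorem f58068 : Led Lsl_ft (LP (LK LD1_c4 LD2_c44 LD3_c31)) = (LP (LK LD1_c6 LD2_c17 LD3_c24)) :=
  Lgr Lrot101 (Lpe (f58066 IH) (Lpr_ff (f58050 IH) (Lpe (f58067 IH) (Lpn (LP (LK LD1_c6 LD2_c17 LD3_c24))))))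
theorem f58027 : Led Lsl_ct (LP (LK LD1_c2 LD2_c20 LD3_c19)) = (LP (LK LD1_c4 LD2_c44 LD3_c31)) :=
  Lre_c IH (LK LD1_c2 LD2_c20 LD3_c19) (LK LD1_c4 LD2_c44 LD3_c31) Lrfl Lrfl
theorem f58060 : Led Lsl_ct (LP (LK LD1_c6 LD2_c17 LD3_c24)) = (LP (LK LD1_c3 LD2_c5 LD3_c55)) :=
  Lre_c IH (LK LD1_c6 LD2_c17 LD3_c24) (LK LD1_c3 LD2_c5 LD3_c55) Lrfl Lrfl
theorem f58094 : Led Lsl_ff (LP (LK LD1_c2 LD2_c20 LD3_c19)) = (LP (LK LD1_c3 LD2_c5 LD3_c55)) :=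
  Lgr Lrot23 (Lpr_ct (f58027 IH) (Lpr_ft (f58068 IH) (Lpr_ct (f58060 IH) (Lpn (LP (LK LD1_c3 LD2_c5 LD3_c55))))))
theorem f58115 : Led Lsl_ft (LP (LK LD1_c2 LD2_c20 LD3_c19)) = (LP (LK LD1_c3 LD2_c5 LD3_c55)) :=
  Lgr Lrot48 (Lpr_ff (f58094 IH) (Lpn (LP (LK LD1_c3 LD2_c5 LD3_c55))))
theorem f58026 : Led Lsl_dt (LP (LK LD1_c1 LD2_c7 LD3_c28)) = (LP (LK LD1_c2 LD2_c20 LD3_c19)) :=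
  Lre_d IH (LK LD1_c1 LD2_c7 LD3_c28) (LK LD1_c2 LD2_c20 LD3_c19) Lrfl Lrfl
theorem f58061 : Led Lsl_dt (LP (LK LD1_c3 LD2_c5 LD3_c55)) = (LP (LK LD1_c1 LD2_c29 LD3_c2)) :=
  Lre_d IH (LK LD1_c3 LD2_c5 LD3_c55) (LK LD1_c1 LD2_c29 LD3_c2) Lrfl Lrfl
theorem f58146 : Led Lsl_ff (LP (LK LD1_c1 LD2_c7 LD3_c28)) = (LP (LK LD1_c1 LD2_c29 LD3_c2)) :=
  Lgr Lrot19 (Lpr_dt (f58026 IH) (Lpr_ft (f58115 IH) (Lpr_dt (f58061 IH) (Lpn (LP (LK LD1_c1 LD2_c29 LD3_c2))))))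
theorem f58155 : Led Lsl_et (LP (LK LD1_c1 LD2_c7 LD3_c28)) = (LP (LK LD1_c0 LD2_c30 LD3_c57)) :=
  Lre_e IH (LK LD1_c1 LD2_c7 LD3_c28) (LK LD1_c0 LD2_c30 LD3_c57) Lrfl Lrfl
theorem f58156 : Led Lsl_et (LP (LK LD1_c0 LD2_c41 LD3_c10)) = (LP (LK LD1_c1 LD2_c29 LD3_c2)) :=
  Lre_e IH (LK LD1_c0 LD2_c41 LD3_c10) (LK LD1_c1 LD2_c29 LD3_c2) Lrfl Lrfl
theorem f58157 : Led Lsl_ft (LP (LK LD1_c0 LD2_c29 LD3_c61)) = (LP (LK LD1_c0 LD2_c41 LD3_c10)) :=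
  Lgr Lrot86 (Lpe (K0.f13684 IH) (Lpe (K0.f13700 IH) (Lpe (f58155 IH) (Lpr_ff (f58146 IH) (Lpe (f58156 IH) (Lpn (LP (LK LD1_c0 LD2_c41 LD3_c10))))))))
theorem f58185 : Led Lsl_ff (LP (LK LD1_c0 LD2_c29 LD3_c61)) = (LP (LK LD1_c0 LD2_c41 LD3_c10)) :=
  Lgr Lrot3 (Lpr_ft (f58157 IH) (Lpn (LP (LK LD1_c0 LD2_c41 LD3_c10))))
theorem f13657 : Led Lsl_dt (LP (LK LD1_c0 LD2_c30 LD3_c0)) = (LP (LK LD1_c0 LD2_c13 LD3_c17)) :=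
  Lre_d IH (LK LD1_c0 LD2_c30 LD3_c0) (LK LD1_c0 LD2_c13 LD3_c17) Lrfl Lrfl
theorem f13658 : Led Lsl_ct (LP (LK LD1_c1 LD2_c5 LD3_c38)) = (LP (LK LD1_c0 LD2_c30 LD3_c0)) :=
  Lre_c IH (LK LD1_c1 LD2_c5 LD3_c38) (LK LD1_c0 LD2_c30 LD3_c0) Lrfl Lrfl
theorem f13659 : Led Lsl_dt (LP (LK LD1_c2 LD2_c17 LD3_c23)) = (LP (LK LD1_c1 LD2_c5 LD3_c38)) :=
  Lre_d IH (LK LD1_c2 LD2_c17 LD3_c23) (LK LD1_c1 LD2_c5 LD3_c38) Lrfl Lrfl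
theorem f13660 : Led Lsl_ct (LP (LK LD1_c4 LD2_c40 LD3_c39)) = (LP (LK LD1_c2 LD2_c17 LD3_c23)) :=
  Lre_c IH (LK LD1_c4 LD2_c40 LD3_c39) (LK LD1_c2 LD2_c17 LD3_c23) Lrfl Lrfl
theorem f58174 : Led Lsl_dt (LP (LK LD1_c0 LD2_c41 LD3_c10)) = (LP (LK LD1_c1 LD2_c29 LD3_c1)) :=
  Lre_d IH (LK LD1_c0 LD2_c41 LD3_c10) (LK LD1_c1 LD2_c29 LD3_c1) Lrfl Lrfl
theorem f58214 : Led Lsl_ct (LP (LK LD1_c1 LD2_c29 LD3_c1)) = (LP (LK LD1_c3 LD2_c5 LD3_c53)) :=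
  Lre_c IH (LK LD1_c1 LD2_c29 LD3_c1) (LK LD1_c3 LD2_c5 LD3_c53) Lrfl Lrfl
theorem f58215 : Led Lsl_df (LP (LK LD1_c4 LD2_c40 LD3_c39)) = (LP (LK LD1_c3 LD2_c5 LD3_c53)) :=
  Lgr Lrot106 (Lpr_ct (f13660 IH) (Lpr_dt (f13659 IH) (Lpr_ct (f13658 IH) (Lpr_dt (f13657 IH) (Lpe (K0.f13627 IH) (Lpe (K0.f13650 IH) (Lpr_ff (f58185 IH) (Lpr_dt (f58174 IH) (Lpr_ct (f58214 IH) (Lpn (LP (LK LD1_c3 LD2_c5 LD3_c53))))))))))))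
theorem f13653 : Led Lsl_dt (LP (LK LD1_c0 LD2_c13 LD3_c17)) = (LP (LK LD1_c0 LD2_c30 LD3_c0)) :=
  Lre_d IH (LK LD1_c0 LD2_c13 LD3_c17) (LK LD1_c0 LD2_c30 LD3_c0) Lrfl Lrfl
theorem f13654 : Led Lsl_ct (LP (LK LD1_c0 LD2_c30 LD3_c0)) = (LP (LK LD1_c1 LD2_c5 LD3_c38)) :=
  Lre_c IH (LK LD1_c0 LD2_c30 LD3_c0) (LK LD1_c1 LD2_c5 LD3_c38) Lrfl Lrfl
theorem f13663 : Led Lsl_at (LP (LK LD1_c2 LD2_c17 LD3_c15)) = (LP (LK LD1_c1 LD2_c5 LD3_c38)) :=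
  Lre_a IH (LK LD1_c2 LD2_c17 LD3_c15) (LK LD1_c1 LD2_c5 LD3_c38) Lrfl Lrfl
theorem f58237 : Led Lsl_ff (LP (LK LD1_c2 LD2_c17 LD3_c15)) = (LP (LK LD1_c3 LD2_c5 LD3_c53)) :=
  Lgr Lrot103 (Lpr_at (f13663 IH) (Lpe (f13654 IH) (Lpe (f13653 IH) (Lpr_cf (K0.f13627 IH) (Lpe (f13657 IH) (Lpe (f13658 IH) (Lpe (f13659 IH) (Lpe (f13660 IH) (Lpr_df (f58215 IH) (Lpn (LP (LK LD1_c3 LD2_c5 LD3_c53))))))))))))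
theorem f58257 : Led Lsl_ft (LP (LK LD1_c2 LD2_c17 LD3_c15)) = (LP (LK LD1_c3 LD2_c5 LD3_c53)) :=
  Lgr Lrot48 (Lpr_ff (f58237 IH) (Lpn (LP (LK LD1_c3 LD2_c5 LD3_c53))))
theorem f58275 : Led Lsl_et (LP (LK LD1_c4 LD2_c40 LD3_c19)) = (LP (LK LD1_c2 LD2_c17 LD3_c15)) :=
  Lre_e IH (LK LD1_c4 LD2_c40 LD3_c19) (LK LD1_c2 LD2_c17 LD3_c15) Lrfl Lrfl
theorem f58276 : Led Lsl_ft (LP (LK LD1_c9 LD2_c16 LD3_c6)) = (LP (LK LD1_c4 LD2_c40 LD3_c19)) :=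
  Lre_f IH (LK LD1_c9 LD2_c16 LD3_c6) (LK LD1_c4 LD2_c40 LD3_c19) Lrfl Lrfl
theorem f58241 : Led Lsl_et (LP (LK LD1_c3 LD2_c5 LD3_c53)) = (LP (LK LD1_c6 LD2_c17 LD3_c21)) :=
  Lre_e IH (LK LD1_c3 LD2_c5 LD3_c53) (LK LD1_c6 LD2_c17 LD3_c21) Lrfl Lrfl
theorem f58277 : Led Lsl_ft (LP (LK LD1_c6 LD2_c17 LD3_c21)) = (LP (LK LD1_c12 LD2_c11 LD3_c15)) :=
  Lre_f IH (LK LD1_c6 LD2_c17 LD3_c21) (LK LD1_c12 LD2_c11 LD3_c15) Lrfl Lrfl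
theorem f58278 : Led Lsl_ef (LP (LK LD1_c9 LD2_c16 LD3_c6)) = (LP (LK LD1_c12 LD2_c11 LD3_c15)) :=
  Lgr Lrot21 (Lpr_ft (f58276 IH) (Lpr_et (f58275 IH) (Lpr_ft (f58257 IH) (Lpr_et (f58241 IH) (Lpr_ft (f58277 IH) (Lpn (LP (LK LD1_c12 LD2_c11 LD3_c15))))))))
theorem f58289 : Led Lsl_ct (LP (LK LD1_c9 LD2_c16 LD3_c6)) = (LP (LK LD1_c4 LD2_c40 LD3_c22)) :=
  Lre_c IH (LK LD1_c9 LD2_c16 LD3_c6) (LK LD1_c4 LD2_c40 LD3_c22) Lrfl Lrfl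
theorem f58290 : Led Lsl_ct (LP (LK LD1_c6 LD2_c17 LD3_c23)) = (LP (LK LD1_c12 LD2_c11 LD3_c15)) :=
  Lre_c IH (LK LD1_c6 LD2_c17 LD3_c23) (LK LD1_c12 LD2_c11 LD3_c15) Lrfl Lrfl
theorem f58291 : Led Lsl_et (LP (LK LD1_c4 LD2_c40 LD3_c22)) = (LP (LK LD1_c6 LD2_c17 LD3_c23)) :=
  Lgr Lrot158 (Lpe (f58289 IH) (Lpr_ef (f58278 IH) (Lpe (f58290 IH) (Lpn (LP (LK LD1_c6 LD2_c17 LD3_c23))))))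
theorem f58314 : Led Lsl_ef (LP (LK LD1_c4 LD2_c40 LD3_c22)) = (LP (LK LD1_c6 LD2_c17 LD3_c23)) :=
  Lgr Lrot88 (Lpr_et (f58291 IH) (Lpn (LP (LK LD1_c6 LD2_c17 LD3_c23))))
theorem f58330 : Led Lsl_bt (LP (LK LD1_c4 LD2_c40 LD3_c22)) = (LP (LK LD1_c3 LD2_c1 LD3_c47)) :=
  Lre_b IH (LK LD1_c4 LD2_c40 LD3_c22) (LK LD1_c3 LD2_c1 LD3_c47) Lrfl Lrfl
theorem f58331 : Led Lsl_et (LP (LK LD1_c3 LD2_c1 LD3_c47)) = (LP (LK LD1_c6 LD2_c9 LD3_c53)) :=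
  Lre_e IH (LK LD1_c3 LD2_c1 LD3_c47) (LK LD1_c6 LD2_c9 LD3_c53) Lrfl Lrfl
theorem f58332 : Led Lsl_bt (LP (LK LD1_c6 LD2_c9 LD3_c53)) = (LP (LK LD1_c6 LD2_c17 LD3_c23)) :=
  Lgr Lrot119 (Lpe (f58331 IH) (Lpe (f58330 IH) (Lpr_ef (f58314 IH) (Lpn (LP (LK LD1_c6 LD2_c17 LD3_c23))))))
theorem f58354 : Led Lsl_ft (LP (LK LD1_c3 LD2_c1 LD3_c23)) = (LP (LK LD1_c6 LD2_c9 LD3_c53)) :=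
  Lre_f IH (LK LD1_c3 LD2_c1 LD3_c23) (LK LD1_c6 LD2_c9 LD3_c53) Lrfl Lrfl
theorem f58318 : Led Lsl_ft (LP (LK LD1_c6 LD2_c17 LD3_c23)) = (LP (LK LD1_c3 LD2_c5 LD3_c54)) :=
  Lre_f IH (LK LD1_c6 LD2_c17 LD3_c23) (LK LD1_c3 LD2_c5 LD3_c54) Lrfl Lrfl
theorem f58355 : Led Lsl_bf (LP (LK LD1_c3 LD2_c1 LD3_c23)) = (LP (LK LD1_c3 LD2_c5 LD3_c54)) :=
  Lgr Lrot61 (Lpr_ft (f58354 IH) (Lpr_bt (f58332 IH) (Lpr_ft (f58318 IH) (Lpn (LP (LK LD1_c3 LD2_c5 LD3_c54))))))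
theorem f58365 : Led Lsl_at (LP (LK LD1_c3 LD2_c1 LD3_c23)) = (LP (LK LD1_c1 LD2_c27 LD3_c10)) :=
  Lre_a IH (LK LD1_c3 LD2_c1 LD3_c23) (LK LD1_c1 LD2_c27 LD3_c10) Lrfl Lrfl
theorem f58366 : Led Lsl_bt (LP (LK LD1_c1 LD2_c27 LD3_c10)) = (LP (LK LD1_c0 LD2_c40 LD3_c28)) :=
  Lre_b IH (LK LD1_c1 LD2_c27 LD3_c10) (LK LD1_c0 LD2_c40 LD3_c28) Lrfl Lrfl
theorem f58367 : Led Lsl_at (LP (LK LD1_c1 LD2_c29 LD3_c4)) = (LP (LK LD1_c3 LD2_c5 LD3_c54)) :=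
  Lre_a IH (LK LD1_c1 LD2_c29 LD3_c4) (LK LD1_c3 LD2_c5 LD3_c54) Lrfl Lrfl
theorem f58368 : Led Lsl_bt (LP (LK LD1_c0 LD2_c41 LD3_c13)) = (LP (LK LD1_c1 LD2_c29 LD3_c4)) :=
  Lre_b IH (LK LD1_c0 LD2_c41 LD3_c13) (LK LD1_c1 LD2_c29 LD3_c4) Lrfl Lrfl
theorem f58369 : Led Lsl_at (LP (LK LD1_c0 LD2_c40 LD3_c28)) = (LP (LK LD1_c0 LD2_c41 LD3_c13)) :=
  Lgr Lrot67 (Lpe (f58366 IH) (Lpe (f58365 IH) (Lpr_bf (f58355 IH) (Lpe (f58367 IH) (Lpe (f58368 IH) (Lpn (LP (LK LD1_c0 LD2_c41 LD3_c13))))))))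
theorem f58468 : Led Lsl_ft (LP (LK LD1_c1 LD2_c27 LD3_c27)) = (LP (LK LD1_c0 LD2_c40 LD3_c28)) :=
  Lre_f IH (LK LD1_c1 LD2_c27 LD3_c27) (LK LD1_c0 LD2_c40 LD3_c28) Lrfl Lrfl
theorem f25532 : Led Lsl_ct (LP (LK LD1_c3 LD2_c3 LD3_c5)) = (LP (LK LD1_c6 LD2_c12 LD3_c46)) :=
  Lre_c IH (LK LD1_c3 LD2_c3 LD3_c5) (LK LD1_c6 LD2_c12 LD3_c46) Lrfl Lrfl
theorem f7533 : Led Lsl_dt (LP (LK LD1_c6 LD2_c12 LD3_c46)) = (LP (LK LD1_c11 LD2_c58 LD3_c36)) :=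
  Lre_d IH (LK LD1_c6 LD2_c12 LD3_c46) (LK LD1_c11 LD2_c58 LD3_c36) Lrfl Lrfl
theorem f7546 : Led Lsl_ct (LP (LK LD1_c11 LD2_c58 LD3_c36)) = (LP (LK LD1_c6 LD2_c8 LD3_c24)) :=
  Lre_c IH (LK LD1_c11 LD2_c58 LD3_c36) (LK LD1_c6 LD2_c8 LD3_c24) Lrfl Lrfl
theorem f8702 : Led Lsl_dt (LP (LK LD1_c6 LD2_c8 LD3_c24)) = (LP (LK LD1_c3 LD2_c0 LD3_c24)) :=
  Lre_d IH (LK LD1_c6 LD2_c8 LD3_c24) (LK LD1_c3 LD2_c0 LD3_c24) Lrfl Lrfl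
theorem f57651 : Led Lsl_ct (LP (LK LD1_c3 LD2_c0 LD3_c24)) = (LP (LK LD1_c1 LD2_c25 LD3_c58)) :=
  Lre_c IH (LK LD1_c3 LD2_c0 LD3_c24) (LK LD1_c1 LD2_c25 LD3_c58) Lrfl Lrfl
theorem f22994 : Led Lsl_dt (LP (LK LD1_c1 LD2_c25 LD3_c58)) = (LP (LK LD1_c0 LD2_c39 LD3_c49)) :=
  Lre_d IH (LK LD1_c1 LD2_c25 LD3_c58) (LK LD1_c0 LD2_c39 LD3_c49) Lrfl Lrfl
theorem f58472 : Led Lsl_ct (LP (LK LD1_c0 LD2_c39 LD3_c49)) = (LP (LK LD1_c0 LD2_c41 LD3_c13)) :=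
  Lgr Lrot98 (Lpe (f22994 IH) (Lpe (f57651 IH) (Lpe (f8702 IH) (Lpe (f7546 IH) (Lpe (f7533 IH) (Lpe (f25532 IH) (Lpe (K0.f23254 IH) (Lpr_ft (f58468 IH) (Lpr_at (f58369 IH) (Lpn (LP (LK LD1_c0 LD2_c41 LD3_c13))))))))))))
theorem f58486 : Led Lsl_ft (LP (LK LD1_c6 LD2_c12 LD3_c46)) = (LP (LK LD1_c3 LD2_c3 LD3_c13)) :=
  Lre_f IH (LK LD1_c6 LD2_c12 LD3_c46) (LK LD1_c3 LD2_c3 LD3_c13) Lrfl Lrfl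
theorem f25523 : Led Lsl_ct (LP (LK LD1_c1 LD2_c29 LD3_c9)) = (LP (LK LD1_c3 LD2_c6 LD3_c11)) :=
  Lre_c IH (LK LD1_c1 LD2_c29 LD3_c9) (LK LD1_c3 LD2_c6 LD3_c11) Lrfl Lrfl
theorem f58487 : Led Lsl_at (LP (LK LD1_c3 LD2_c3 LD3_c13)) = (LP (LK LD1_c3 LD2_c6 LD3_c11)) :=
  Lgr Lrot33 (Lpe (f58486 IH) (Lpr_dt (f7533 IH) (Lpr_ct (f7546 IH) (Lpr_dt (f8702 IH) (Lpr_ct (f57651 IH) (Lpr_dt (f22994 IH) (Lpr_ct (f58472 IH) (Lpr_dt (K0.f25404 IH) (Lpr_ct (f25523 IH) (Lpn (LP (LK LD1_c3 LD2_c6 LD3_c11))))))))))))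
theorem f58516 : Led Lsl_ft (LP (LK LD1_c3 LD2_c6 LD3_c11)) = (LP (LK LD1_c6 LD2_c17 LD3_c60)) :=
  Lre_f IH (LK LD1_c3 LD2_c6 LD3_c11) (LK LD1_c6 LD2_c17 LD3_c60) Lrfl Lrfl
theorem f58517 : Led Lsl_af (LP (LK LD1_c6 LD2_c12 LD3_c46)) = (LP (LK LD1_c6 LD2_c17 LD3_c60)) :=
  Lgr Lrot45 (Lpr_ft (f58486 IH) (Lpr_at (f58487 IH) (Lpr_ft (f58516 IH) (Lpn (LP (LK LD1_c6 LD2_c17 LD3_c60))))))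
theorem f58529 : Led Lsl_at (LP (LK LD1_c3 LD2_c21 LD3_c58)) = (LP (LK LD1_c4 LD2_c50 LD3_c3)) :=
  Lre_a IH (LK LD1_c3 LD2_c21 LD3_c58) (LK LD1_c4 LD2_c50 LD3_c3) Lrfl Lrfl
theorem f58530 : Led Lsl_et (LP (LK LD1_c4 LD2_c50 LD3_c3)) = (LP (LK LD1_c6 LD2_c17 LD3_c60)) :=
  Lgr Lrot123 (Lpe (f58529 IH) (Lpe (K0.f7550 IH) (Lpr_af (f58517 IH) (Lpn (LP (LK LD1_c6 LD2_c17 LD3_c60))))))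
theorem f58535 : Led Lsl_dt (LP (LK LD1_c9 LD2_c4 LD3_c59)) = (LP (LK LD1_c4 LD2_c50 LD3_c3)) :=
  Lre_d IH (LK LD1_c9 LD2_c4 LD3_c59) (LK LD1_c4 LD2_c50 LD3_c3) Lrfl Lrfl
theorem f58536 : Led Lsl_dt (LP (LK LD1_c6 LD2_c17 LD3_c60)) = (LP (LK LD1_c12 LD2_c12 LD3_c12)) :=
  Lre_d IH (LK LD1_c6 LD2_c17 LD3_c60) (LK LD1_c12 LD2_c12 LD3_c12) Lrfl Lrfl
theorem f58537 : Led Lsl_ef (LP (LK LD1_c11 LD2_c2 LD3_c13)) = (LP (LK LD1_c12 LD2_c12 LD3_c12)) :=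
  Lgr Lrot73 (Lpr_dt (K0.f7560 IH) (Lpr_et (K0.f7516 IH) (Lpr_dt (f58535 IH) (Lpr_et (f58530 IH) (Lpr_dt (f58536 IH) (Lpn (LP (LK LD1_c12 LD2_c12 LD3_c12))))))))
theorem f58545 : Led Lsl_et (LP (LK LD1_c11 LD2_c2 LD3_c13)) = (LP (LK LD1_c12 LD2_c12 LD3_c12)) :=
  Lgr Lrot87 (Lpr_ef (f58537 IH) (Lpn (LP (LK LD1_c12 LD2_c12 LD3_c12))))
theorem f8690 : Led Lsl_et (LP (LK LD1_c9 LD2_c15 LD3_c16)) = (LP (LK LD1_c6 LD2_c6 LD3_c56)) :=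
  Lre_e IH (LK LD1_c9 LD2_c15 LD3_c16) (LK LD1_c6 LD2_c6 LD3_c56) Lrfl Lrfl
theorem f58550 : Led Lsl_cf (LP (LK LD1_c9 LD2_c15 LD3_c16)) = (LP (LK LD1_c12 LD2_c12 LD3_c12)) :=
  Lgr Lrot39 (Lpr_et (f8690 IH) (Lpe (K0.f8643 IH) (Lpr_et (f58545 IH) (Lpn (LP (LK LD1_c12 LD2_c12 LD3_c12))))))
theorem f8712 : Led Lsl_dt (LP (LK LD1_c9 LD2_c15 LD3_c16)) = (LP (LK LD1_c4 LD2_c39 LD3_c52)) :=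
  Lre_d IH (LK LD1_c9 LD2_c15 LD3_c16) (LK LD1_c4 LD2_c39 LD3_c52) Lrfl Lrfl
theorem f23890 : Led Lsl_ct (LP (LK LD1_c4 LD2_c39 LD3_c52)) = (LP (LK LD1_c2 LD2_c16 LD3_c59)) :=
  Lre_c IH (LK LD1_c4 LD2_c39 LD3_c52) (LK LD1_c2 LD2_c16 LD3_c59) Lrfl Lrfl
theorem f23877 : Led Lsl_at (LP (LK LD1_c1 LD2_c25 LD3_c58)) = (LP (LK LD1_c2 LD2_c16 LD3_c59)) :=
  Lre_a IH (LK LD1_c1 LD2_c25 LD3_c58) (LK LD1_c2 LD2_c16 LD3_c59) Lrfl Lrfl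
theorem f23878 : Led Lsl_ft (LP (LK LD1_c3 LD2_c0 LD3_c27)) = (LP (LK LD1_c1 LD2_c25 LD3_c58)) :=
  Lre_f IH (LK LD1_c3 LD2_c0 LD3_c27) (LK LD1_c1 LD2_c25 LD3_c58) Lrfl Lrfl
theorem f58564 : Led Lsl_dt (LP (LK LD1_c3 LD2_c0 LD3_c27)) = (LP (LK LD1_c1 LD2_c26 LD3_c13)) :=
  Lre_d IH (LK LD1_c3 LD2_c0 LD3_c27) (LK LD1_c1 LD2_c26 LD3_c13) Lrfl Lrfl
theorem f25589 : Led Lsl_ct (LP (LK LD1_c3 LD2_c6 LD3_c12)) = (LP (LK LD1_c6 LD2_c17 LD3_c60)) :=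
  Lre_c IH (LK LD1_c3 LD2_c6 LD3_c12) (LK LD1_c6 LD2_c17 LD3_c60) Lrfl Lrfl
theorem f25569 : Led Lsl_dt (LP (LK LD1_c1 LD2_c29 LD3_c10)) = (LP (LK LD1_c3 LD2_c6 LD3_c12)) :=
  Lre_d IH (LK LD1_c1 LD2_c29 LD3_c10) (LK LD1_c3 LD2_c6 LD3_c12) Lrfl Lrfl
theorem f58565 : Led Lsl_ct (LP (LK LD1_c1 LD2_c26 LD3_c13)) = (LP (LK LD1_c1 LD2_c29 LD3_c10)) :=
  Lgr Lrot133 (Lpe (f58564 IH) (Lpr_ft (f23878 IH) (Lpr_at (f23877 IH) (Lpe (f23890 IH) (Lpe (f8712 IH) (Lpr_cf (f58550 IH) (Lpe (f58536 IH) (Lpe (f25589 IH) (Lpe (f25569 IH) (Lpn (LP (LK LD1_c1 LD2_c29 LD3_c10))))))))))))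
theorem f58569 : Led Lsl_bt (LP (LK LD1_c3 LD2_c0 LD3_c42)) = (LP (LK LD1_c1 LD2_c26 LD3_c13)) :=
  Lre_b IH (LK LD1_c3 LD2_c0 LD3_c42) (LK LD1_c1 LD2_c26 LD3_c13) Lrfl Lrfl
theorem f58570 : Led Lsl_ct (LP (LK LD1_c6 LD2_c8 LD3_c42)) = (LP (LK LD1_c3 LD2_c0 LD3_c42)) :=
  Lre_c IH (LK LD1_c6 LD2_c8 LD3_c42) (LK LD1_c3 LD2_c0 LD3_c42) Lrfl Lrfl
theorem f58571 : Led Lsl_bt (LP (LK LD1_c1 LD2_c29 LD3_c10)) = (LP (LK LD1_c3 LD2_c5 LD3_c61)) :=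
  Lre_b IH (LK LD1_c1 LD2_c29 LD3_c10) (LK LD1_c3 LD2_c5 LD3_c61) Lrfl Lrfl
theorem f58572 : Led Lsl_ct (LP (LK LD1_c3 LD2_c5 LD3_c61)) = (LP (LK LD1_c6 LD2_c17 LD3_c29)) :=
  Lre_c IH (LK LD1_c3 LD2_c5 LD3_c61) (LK LD1_c6 LD2_c17 LD3_c29) Lrfl Lrfl
theorem f58573 : Led Lsl_bf (LP (LK LD1_c6 LD2_c8 LD3_c42)) = (LP (LK LD1_c6 LD2_c17 LD3_c29)) :=
  Lgr Lrot90 (Lpr_ct (f58570 IH) (Lpr_bt (f58569 IH) (Lpr_ct (f58565 IH) (Lpr_bt (f58571 IH) (Lpr_ct (f58572 IH) (Lpn (LP (LK LD1_c6 LD2_c17 LD3_c29))))))))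
theorem f58599 : Led Lsl_ft (LP (LK LD1_c6 LD2_c8 LD3_c42)) = (LP (LK LD1_c3 LD2_c0 LD3_c39)) :=
  Lre_f IH (LK LD1_c6 LD2_c8 LD3_c42) (LK LD1_c3 LD2_c0 LD3_c39) Lrfl Lrfl
theorem f58600 : Led Lsl_ft (LP (LK LD1_c3 LD2_c5 LD3_c57)) = (LP (LK LD1_c6 LD2_c17 LD3_c29)) :=
  Lre_f IH (LK LD1_c3 LD2_c5 LD3_c57) (LK LD1_c6 LD2_c17 LD3_c29) Lrfl Lrfl
theorem f58601 : Led Lsl_bt (LP (LK LD1_c3 LD2_c0 LD3_c39)) = (LP (LK LD1_c3 LD2_c5 LD3_c57)) :=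
  Lgr Lrot35 (Lpe (f58599 IH) (Lpr_bf (f58573 IH) (Lpe (f58600 IH) (Lpn (LP (LK LD1_c3 LD2_c5 LD3_c57))))))
theorem f58608 : Led Lsl_dt (LP (LK LD1_c6 LD2_c8 LD3_c41)) = (LP (LK LD1_c3 LD2_c0 LD3_c39)) :=
  Lre_d IH (LK LD1_c6 LD2_c8 LD3_c41) (LK LD1_c3 LD2_c0 LD3_c39) Lrfl Lrfl
theorem f58609 : Led Lsl_dt (LP (LK LD1_c3 LD2_c5 LD3_c57)) = (LP (LK LD1_c6 LD2_c17 LD3_c28)) :=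
  Lre_d IH (LK LD1_c3 LD2_c5 LD3_c57) (LK LD1_c6 LD2_c17 LD3_c28) Lrfl Lrfl
theorem f58610 : Led Lsl_bf (LP (LK LD1_c6 LD2_c8 LD3_c41)) = (LP (LK LD1_c6 LD2_c17 LD3_c28)) :=
  Lgr Lrot93 (Lpr_dt (f58608 IH) (Lpr_bt (f58601 IH) (Lpr_dt (f58609 IH) (Lpn (LP (LK LD1_c6 LD2_c17 LD3_c28))))))
theorem f58633 : Led Lsl_et (LP (LK LD1_c6 LD2_c8 LD3_c41)) = (LP (LK LD1_c11 LD2_c58 LD3_c48)) :=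
  Lre_e IH (LK LD1_c6 LD2_c8 LD3_c41) (LK LD1_c11 LD2_c58 LD3_c48) Lrfl Lrfl
theorem f58634 : Led Lsl_et (LP (LK LD1_c12 LD2_c11 LD3_c21)) = (LP (LK LD1_c6 LD2_c17 LD3_c28)) :=
  Lre_e IH (LK LD1_c12 LD2_c11 LD3_c21) (LK LD1_c6 LD2_c17 LD3_c28) Lrfl Lrfl
theorem f58635 : Led Lsl_bt (LP (LK LD1_c11 LD2_c58 LD3_c48)) = (LP (LK LD1_c12 LD2_c11 LD3_c21)) :=
  Lgr Lrot119 (Lpe (f58633 IH) (Lpr_bf (f58610 IH) (Lpe (f58634 IH) (Lpn (LP (LK LD1_c12 LD2_c11 LD3_c21))))))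
theorem f58651 : Led Lsl_ft (LP (LK LD1_c21 LD2_c3 LD3_c37)) = (LP (LK LD1_c11 LD2_c58 LD3_c48)) :=
  Lre_f IH (LK LD1_c21 LD2_c3 LD3_c37) (LK LD1_c11 LD2_c58 LD3_c48) Lrfl Lrfl
theorem f58652 : Led Lsl_ft (LP (LK LD1_c12 LD2_c11 LD3_c21)) = (LP (LK LD1_c21 LD2_c16 LD3_c43)) :=
  Lre_f IH (LK LD1_c12 LD2_c11 LD3_c21) (LK LD1_c21 LD2_c16 LD3_c43) Lrfl Lrfl
theorem f58653 : Led Lsl_bf (LP (LK LD1_c21 LD2_c3 LD3_c37)) = (LP (LK LD1_c21 LD2_c16 LD3_c43)) :=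
  Lgr Lrot61 (Lpr_ft (f58651 IH) (Lpr_bt (f58635 IH) (Lpr_ft (f58652 IH) (Lpn (LP (LK LD1_c21 LD2_c16 LD3_c43))))))
theorem f58660 : Led Lsl_dt (LP (LK LD1_c21 LD2_c3 LD3_c37)) = (LP (LK LD1_c11 LD2_c58 LD3_c49)) :=
  Lre_d IH (LK LD1_c21 LD2_c3 LD3_c37) (LK LD1_c11 LD2_c58 LD3_c49) Lrfl Lrfl
theorem f58661 : Led Lsl_dt (LP (LK LD1_c12 LD2_c11 LD3_c22)) = (LP (LK LD1_c21 LD2_c16 LD3_c43)) :=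
  Lre_d IH (LK LD1_c12 LD2_c11 LD3_c22) (LK LD1_c21 LD2_c16 LD3_c43) Lrfl Lrfl
theorem f58662 : Led Lsl_bt (LP (LK LD1_c11 LD2_c58 LD3_c49)) = (LP (LK LD1_c12 LD2_c11 LD3_c22)) :=
  Lgr Lrot95 (Lpe (f58660 IH) (Lpr_bf (f58653 IH) (Lpe (f58661 IH) (Lpn (LP (LK LD1_c12 LD2_c11 LD3_c22))))))
theorem f58699 : Led Lsl_et (LP (LK LD1_c17 LD2_c11 LD3_c21)) = (LP (LK LD1_c11 LD2_c58 LD3_c49)) :=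
  Lre_e IH (LK LD1_c17 LD2_c11 LD3_c21) (LK LD1_c11 LD2_c58 LD3_c49) Lrfl Lrfl
theorem f58700 : Led Lsl_bt (LP (LK LD1_c9 LD2_c16 LD3_c45)) = (LP (LK LD1_c17 LD2_c11 LD3_c21)) :=
  Lre_b IH (LK LD1_c9 LD2_c16 LD3_c45) (LK LD1_c17 LD2_c11 LD3_c21) Lrfl Lrfl
theorem f58701 : Led Lsl_ef (LP (LK LD1_c9 LD2_c16 LD3_c45)) = (LP (LK LD1_c12 LD2_c11 LD3_c22)) :=
  Lgr Lrot29 (Lpr_bt (f58700 IH) (Lpr_et (f58699 IH) (Lpr_bt (f58662 IH) (Lpn (LP (LK LD1_c12 LD2_c11 LD3_c22))))))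
theorem f58715 : Led Lsl_ft (LP (LK LD1_c9 LD2_c16 LD3_c45)) = (LP (LK LD1_c4 LD2_c40 LD3_c40)) :=
  Lre_f IH (LK LD1_c9 LD2_c16 LD3_c45) (LK LD1_c4 LD2_c40 LD3_c40) Lrfl Lrfl
theorem f58716 : Led Lsl_et (LP (LK LD1_c4 LD2_c40 LD3_c40)) = (LP (LK LD1_c2 LD2_c17 LD3_c23)) :=
  Lre_e IH (LK LD1_c4 LD2_c40 LD3_c40) (LK LD1_c2 LD2_c17 LD3_c23) Lrfl Lrfl
theorem f58717 : Led Lsl_ft (LP (LK LD1_c6 LD2_c17 LD3_c25)) = (LP (LK LD1_c12 LD2_c11 LD3_c22)) :=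
  Lre_f IH (LK LD1_c6 LD2_c17 LD3_c25) (LK LD1_c12 LD2_c11 LD3_c22) Lrfl Lrfl
theorem f58718 : Led Lsl_et (LP (LK LD1_c3 LD2_c5 LD3_c56)) = (LP (LK LD1_c6 LD2_c17 LD3_c25)) :=
  Lre_e IH (LK LD1_c3 LD2_c5 LD3_c56) (LK LD1_c6 LD2_c17 LD3_c25) Lrfl Lrfl
theorem f58719 : Led Lsl_ft (LP (LK LD1_c2 LD2_c17 LD3_c23)) = (LP (LK LD1_c3 LD2_c5 LD3_c56)) :=
  Lgr Lrot86 (Lpe (f58716 IH) (Lpe (f58715 IH) (Lpr_ef (f58701 IH) (Lpe (f58717 IH) (Lpe (f58718 IH) (Lpn (LP (LK LD1_c3 LD2_c5 LD3_c56))))))))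
theorem f58730 : Led Lsl_ff (LP (LK LD1_c2 LD2_c17 LD3_c23)) = (LP (LK LD1_c3 LD2_c5 LD3_c56)) :=
  Lgr Lrot3 (Lpr_ft (f58719 IH) (Lpn (LP (LK LD1_c3 LD2_c5 LD3_c56))))
theorem f58732 : Led Lsl_at (LP (LK LD1_c2 LD2_c17 LD3_c23)) = (LP (LK LD1_c4 LD2_c40 LD3_c18)) :=
  Lre_a IH (LK LD1_c2 LD2_c17 LD3_c23) (LK LD1_c4 LD2_c40 LD3_c18) Lrfl Lrfl
theorem f13683 : Led Lsl_dt (LP (LK LD1_c2 LD2_c17 LD3_c15)) = (LP (LK LD1_c4 LD2_c40 LD3_c18)) :=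
  Lre_d IH (LK LD1_c2 LD2_c17 LD3_c15) (LK LD1_c4 LD2_c40 LD3_c18) Lrfl Lrfl
theorem f13655 : Led Lsl_dt (LP (LK LD1_c1 LD2_c5 LD3_c38)) = (LP (LK LD1_c2 LD2_c17 LD3_c23)) :=
  Lre_d IH (LK LD1_c1 LD2_c5 LD3_c38) (LK LD1_c2 LD2_c17 LD3_c23) Lrfl Lrfl
theorem f13656 : Led Lsl_ct (LP (LK LD1_c2 LD2_c17 LD3_c23)) = (LP (LK LD1_c4 LD2_c40 LD3_c39)) :=
  Lre_c IH (LK LD1_c2 LD2_c17 LD3_c23) (LK LD1_c4 LD2_c40 LD3_c39) Lrfl Lrfl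
theorem f58206 : Led Lsl_ct (LP (LK LD1_c0 LD2_c41 LD3_c10)) = (LP (LK LD1_c0 LD2_c41 LD3_c10)) :=
  Lgr Lrot40 (Lpe (f58157 IH) (Lpe (K0.f13651 IH) (Lpr_ff (f58185 IH) (Lpn (LP (LK LD1_c0 LD2_c41 LD3_c10))))))
theorem f58208 : Led Lsl_dt (LP (LK LD1_c1 LD2_c29 LD3_c1)) = (LP (LK LD1_c0 LD2_c41 LD3_c10)) :=
  Lre_d IH (LK LD1_c1 LD2_c29 LD3_c1) (LK LD1_c0 LD2_c41 LD3_c10) Lrfl Lrfl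
theorem f58224 : Led Lsl_ct (LP (LK LD1_c3 LD2_c5 LD3_c53)) = (LP (LK LD1_c1 LD2_c29 LD3_c1)) :=
  Lre_c IH (LK LD1_c3 LD2_c5 LD3_c53) (LK LD1_c1 LD2_c29 LD3_c1) Lrfl Lrfl
theorem f58225 : Led Lsl_dt (LP (LK LD1_c4 LD2_c40 LD3_c39)) = (LP (LK LD1_c3 LD2_c5 LD3_c53)) :=
  Lgr Lrot173 (Lpe (f13656 IH) (Lpe (f13655 IH) (Lpe (f13654 IH) (Lpe (f13653 IH) (Lpr_cf (K0.f13627 IH) (Lpe (f13657 IH) (Lpe (f13658 IH) (Lpe (f13659 IH) (Lpe (f13660 IH) (Lpr_df (f58215 IH) (Lpe (f58214 IH) (Lpe (f58174 IH) (Lpe (f58206 IH) (Lpe (f58208 IH) (Lpe (f58224 IH) (Lpn (LP (LK LD1_c3 LD2_c5 LD3_c53))))))))))))))))))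
theorem f58250 : Led Lsl_ft (LP (LK LD1_c4 LD2_c40 LD3_c18)) = (LP (LK LD1_c4 LD2_c40 LD3_c39)) :=
  Lgr Lrot54 (Lpe (f13683 IH) (Lpr_ff (f58237 IH) (Lpe (f58225 IH) (Lpn (LP (LK LD1_c4 LD2_c40 LD3_c39))))))
theorem f58728 : Led Lsl_cf (LP (LK LD1_c4 LD2_c40 LD3_c18)) = (LP (LK LD1_c3 LD2_c5 LD3_c56)) :=
  Lgr Lrot108 (Lpr_ft (f58250 IH) (Lpr_ct (f13660 IH) (Lpr_ft (f58719 IH) (Lpn (LP (LK LD1_c3 LD2_c5 LD3_c56))))))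
theorem f58738 : Led Lsl_dt (LP (LK LD1_c1 LD2_c29 LD3_c3)) = (LP (LK LD1_c3 LD2_c5 LD3_c56)) :=
  Lre_d IH (LK LD1_c1 LD2_c29 LD3_c3) (LK LD1_c3 LD2_c5 LD3_c56) Lrfl Lrfl
theorem f25162 : Led Lsl_ct (LP (LK LD1_c0 LD2_c41 LD3_c11)) = (LP (LK LD1_c1 LD2_c29 LD3_c3)) :=
  Lre_c IH (LK LD1_c0 LD2_c41 LD3_c11) (LK LD1_c1 LD2_c29 LD3_c3) Lrfl Lrfl
theorem f58280 : Led Lsl_dt (LP (LK LD1_c0 LD2_c18 LD3_c25)) = (LP (LK LD1_c0 LD2_c41 LD3_c11)) :=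
  Lre_d IH (LK LD1_c0 LD2_c18 LD3_c25) (LK LD1_c0 LD2_c41 LD3_c11) Lrfl Lrfl
theorem f25402 : Led Lsl_dt (LP (LK LD1_c3 LD2_c5 LD3_c56)) = (LP (LK LD1_c1 LD2_c29 LD3_c3)) :=
  Lre_d IH (LK LD1_c3 LD2_c5 LD3_c56) (LK LD1_c1 LD2_c29 LD3_c3) Lrfl Lrfl
theorem f25401 : Led Lsl_ct (LP (LK LD1_c1 LD2_c29 LD3_c3)) = (LP (LK LD1_c0 LD2_c41 LD3_c11)) :=
  Lre_c IH (LK LD1_c1 LD2_c29 LD3_c3) (LK LD1_c0 LD2_c41 LD3_c11) Lrfl Lrfl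
theorem f58742 : Led Lsl_dt (LP (LK LD1_c0 LD2_c41 LD3_c11)) = (LP (LK LD1_c0 LD2_c18 LD3_c25)) :=
  Lre_d IH (LK LD1_c0 LD2_c41 LD3_c11) (LK LD1_c0 LD2_c18 LD3_c25) Lrfl Lrfl
theorem f58743 : Led Lsl_cf (LP (LK LD1_c0 LD2_c18 LD3_c25)) = (LP (LK LD1_c0 LD2_c18 LD3_c25)) :=
  Lgr Lrot116 (Lpr_dt (f58280 IH) (Lpr_ct (f25162 IH) (Lpr_dt (f58738 IH) (Lpe (f58728 IH) (Lpe (f58732 IH) (Lpr_ff (f58730 IH) (Lpr_dt (f25402 IH) (Lpr_ct (f25401 IH) (Lpr_dt (f58742 IH) (Lpn (LP (LK LD1_c0 LD2_c18 LD3_c25))))))))))))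
theorem f13680 : Led Lsl_dt (LP (LK LD1_c4 LD2_c40 LD3_c18)) = (LP (LK LD1_c2 LD2_c17 LD3_c15)) :=
  Lre_d IH (LK LD1_c4 LD2_c40 LD3_c18) (LK LD1_c2 LD2_c17 LD3_c15) Lrfl Lrfl
theorem f13679 : Led Lsl_ct (LP (LK LD1_c2 LD2_c17 LD3_c15)) = (LP (LK LD1_c1 LD2_c5 LD3_c35)) :=
  Lre_c IH (LK LD1_c2 LD2_c17 LD3_c15) (LK LD1_c1 LD2_c5 LD3_c35) Lrfl Lrfl
theorem f58749 : Led Lsl_at (LP (LK LD1_c0 LD2_c30 LD3_c0)) = (LP (LK LD1_c1 LD2_c5 LD3_c35)) :=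
  Lre_a IH (LK LD1_c0 LD2_c30 LD3_c0) (LK LD1_c1 LD2_c5 LD3_c35) Lrfl Lrfl
theorem f58750 : Led Lsl_ff (LP (LK LD1_c0 LD2_c30 LD3_c0)) = (LP (LK LD1_c0 LD2_c41 LD3_c11)) :=
  Lgr Lrot103 (Lpr_at (f58749 IH) (Lpe (f13679 IH) (Lpe (f13680 IH) (Lpr_cf (f58728 IH) (Lpe (f58738 IH) (Lpe (f25162 IH) (Lpe (f58280 IH) (Lpr_cf (f58743 IH) (Lpe (f58742 IH) (Lpn (LP (LK LD1_c0 LD2_c41 LD3_c11))))))))))))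
theorem f23171 : Led Lsl_bt (LP (LK LD1_c0 LD2_c30 LD3_c0)) = (LP (LK LD1_c0 LD2_c13 LD3_c18)) :=
  Lre_b IH (LK LD1_c0 LD2_c30 LD3_c0) (LK LD1_c0 LD2_c13 LD3_c18) Lrfl Lrfl
theorem f25161 : Led Lsl_bt (LP (LK LD1_c0 LD2_c18 LD3_c26)) = (LP (LK LD1_c0 LD2_c41 LD3_c11)) :=
  Lre_b IH (LK LD1_c0 LD2_c18 LD3_c26) (LK LD1_c0 LD2_c41 LD3_c11) Lrfl Lrfl
theorem f58756 : Led Lsl_ft (LP (LK LD1_c0 LD2_c13 LD3_c18)) = (LP (LK LD1_c0 LD2_c18 LD3_c26)) :=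
  Lgr Lrot75 (Lpe (f23171 IH) (Lpr_ff (f58750 IH) (Lpe (f25161 IH) (Lpn (LP (LK LD1_c0 LD2_c18 LD3_c26))))))
theorem f25158 : Led Lsl_at (LP (LK LD1_c0 LD2_c29 LD3_c58)) = (LP (LK LD1_c0 LD2_c17 LD3_c50)) :=
  Lre_a IH (LK LD1_c0 LD2_c29 LD3_c58) (LK LD1_c0 LD2_c17 LD3_c50) Lrfl Lrfl
theorem f20077 : Led Lsl_ct (LP (LK LD1_c0 LD2_c18 LD3_c6)) = (LP (LK LD1_c0 LD2_c29 LD3_c58)) :=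
  Lre_c IH (LK LD1_c0 LD2_c18 LD3_c6) (LK LD1_c0 LD2_c29 LD3_c58) Lrfl Lrfl
theorem f25159 : Led Lsl_at (LP (LK LD1_c0 LD2_c18 LD3_c26)) = (LP (LK LD1_c0 LD2_c18 LD3_c6)) :=
  Lgr Lrot107 (Lpr_cf (K0.f25156 IH) (Lpe (f25158 IH) (Lpe (f20077 IH) (Lpn (LP (LK LD1_c0 LD2_c18 LD3_c6))))))
theorem f58776 : Led Lsl_gt (LP (LK LD1_c0 LD2_c8 LD3_c46)) = (LP (LK LD1_c0 LD2_c18 LD3_c6)) :=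
  Lgr Lrot46 (Lpe (K0.f22831 IH) (Lpr_ft (f58756 IH) (Lpr_at (f25159 IH) (Lpn (LP (LK LD1_c0 LD2_c18 LD3_c6))))))
theorem f20279 : Led Lsl_gt (LP (LK LD1_c0 LD2_c16 LD3_c58)) = (LP (LK LD1_c0 LD2_c37 LD3_c58)) :=
  Lre_g IH (LK LD1_c0 LD2_c16 LD3_c58) (LK LD1_c0 LD2_c37 LD3_c58) Lrfl Lrfl
theorem f8235 : Led Lsl_dt (LP (LK LD1_c0 LD2_c7 LD3_c51)) = (LP (LK LD1_c0 LD2_c3 LD3_c32)) :=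
  Lre_d IH (LK LD1_c0 LD2_c7 LD3_c51) (LK LD1_c0 LD2_c3 LD3_c32) Lrfl Lrfl
theorem f212 : Led Lsl_dt (LP (LK LD1_c0 LD2_c3 LD3_c36)) = (LP (LK LD1_c0 LD2_c7 LD3_c54)) :=
  Lre_d IH (LK LD1_c0 LD2_c3 LD3_c36) (LK LD1_c0 LD2_c7 LD3_c54) Lrfl Lrfl
theorem f213 : Led Lsl_ct (LP (LK LD1_c0 LD2_c7 LD3_c54)) = (LP (LK LD1_c0 LD2_c17 LD3_c29)) :=
  Lre_c IH (LK LD1_c0 LD2_c7 LD3_c54) (LK LD1_c0 LD2_c17 LD3_c29) Lrfl Lrfl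
theorem f37754 : Led Lsl_df (LP (LK LD1_c0 LD2_c17 LD3_c29)) = (LP (LK LD1_c0 LD2_c37 LD3_c58)) :=
  Lgr Lrot84 (Lpe (f213 IH) (Lpe (f212 IH) (Lpe (K0.f20988 IH) (Lpe (f8235 IH) (Lpr_gf (f37752 IH) (Lpe (f35523 IH) (Lpe (K0.f35518 IH) (Lpr_dt (K0.f8308 IH) (Lpr_gt (f20279 IH) (Lpn (LP (LK LD1_c0 LD2_c37 LD3_c58))))))))))))
theorem f20205 : Led Lsl_bt (LP (LK LD1_c0 LD2_c7 LD3_c54)) = (LP (LK LD1_c0 LD2_c3 LD3_c40)) :=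
  Lre_b IH (LK LD1_c0 LD2_c7 LD3_c54) (LK LD1_c0 LD2_c3 LD3_c40) Lrfl Lrfl
theorem f37262 : Led Lsl_bt (LP (LK LD1_c0 LD2_c5 LD3_c53)) = (LP (LK LD1_c0 LD2_c12 LD3_c53)) :=
  Lre_b IH (LK LD1_c0 LD2_c5 LD3_c53) (LK LD1_c0 LD2_c12 LD3_c53) Lrfl Lrfl
theorem f16644 : Led Lsl_ct (LP (LK LD1_c0 LD2_c5 LD3_c53)) = (LP (LK LD1_c0 LD2_c12 LD3_c54)) :=
  Lre_c IH (LK LD1_c0 LD2_c5 LD3_c53) (LK LD1_c0 LD2_c12 LD3_c54) Lrfl Lrfl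
theorem f37263 : Led Lsl_gt (LP (LK LD1_c0 LD2_c17 LD3_c29)) = (LP (LK LD1_c0 LD2_c12 LD3_c54)) :=
  Lgr Lrot65 (Lpe (f213 IH) (Lpr_bt (f20205 IH) (Lpe (K0.f21001 IH) (Lpe (f21178 IH) (Lpr_ct (f21180 IH) (Lpe (f37153 IH) (Lpe (f37141 IH) (Lpr_gf (f37256 IH) (Lpe (f37262 IH) (Lpr_ct (f16644 IH) (Lpn (LP (LK LD1_c0 LD2_c12 LD3_c54)))))))))))))
theorem f20045 : Led Lsl_dt (LP (LK LD1_c0 LD2_c12 LD3_c54)) = (LP (LK LD1_c0 LD2_c29 LD3_c13)) :=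
  Lre_d IH (LK LD1_c0 LD2_c12 LD3_c54) (LK LD1_c0 LD2_c29 LD3_c13) Lrfl Lrfl
theorem f11026 : Led Lsl_dt (LP (LK LD1_c0 LD2_c18 LD3_c6)) = (LP (LK LD1_c0 LD2_c8 LD3_c7)) :=
  Lre_d IH (LK LD1_c0 LD2_c18 LD3_c6) (LK LD1_c0 LD2_c8 LD3_c7) Lrfl Lrfl
theorem f23269 : Led Lsl_dt (LP (LK LD1_c0 LD2_c9 LD3_c5)) = (LP (LK LD1_c0 LD2_c13 LD3_c52)) :=
  Lgr Lrot42 (Lpr_df (K0.f23265 IH) (Lpn (LP (LK LD1_c0 LD2_c13 LD3_c52))))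
theorem f58778 : Led Lsl_ct (LP (LK LD1_c0 LD2_c29 LD3_c13)) = (LP (LK LD1_c0 LD2_c13 LD3_c52)) :=
  Lgr Lrot7 (Lpe (f20045 IH) (Lpe (f37263 IH) (Lpr_df (f37754 IH) (Lpe (f20279 IH) (Lpr_cf (K0.f23919 IH) (Lpr_gt (f58776 IH) (Lpr_dt (f11026 IH) (Lpe (K0.f20952 IH) (Lpr_dt (f23269 IH) (Lpn (LP (LK LD1_c0 LD2_c13 LD3_c52))))))))))))
theorem f20527 : Led Lsl_ct (LP (LK LD1_c0 LD2_c12 LD3_c59)) = (LP (LK LD1_c0 LD2_c5 LD3_c55)) :=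
  Lre_c IH (LK LD1_c0 LD2_c12 LD3_c59) (LK LD1_c0 LD2_c5 LD3_c55) Lrfl Lrfl
theorem f8333 : Led Lsl_dt (LP (LK LD1_c0 LD2_c14 LD3_c47)) = (LP (LK LD1_c0 LD2_c6 LD3_c47)) :=
  Lre_d IH (LK LD1_c0 LD2_c14 LD3_c47) (LK LD1_c0 LD2_c6 LD3_c47) Lrfl Lrfl
theorem f58850 : Led Lsl_gf (LP (LK LD1_c0 LD2_c29 LD3_c13)) = (LP (LK LD1_c0 LD2_c14 LD3_c47)) :=
  Lgr Lrot147 (Lpr_ct (f58778 IH) (Lpr_gt (K0.f13616 IH) (Lpr_ct (K0.f20070 IH) (Lpe (K0.f26607 IH) (Lpe (K0.f20542 IH) (Lpe (K0.f6722 IH) (Lpe (f20527 IH) (Lpe (f37314 IH) (Lpe (f8333 IH) (Lpn (LP (LK LD1_c0 LD2_c14 LD3_c47))))))))))))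
theorem f25046 : Led Lsl_ct (LP (LK LD1_c0 LD2_c8 LD3_c19)) = (LP (LK LD1_c0 LD2_c9 LD3_c2)) :=
  Lgr Lrot59 (Lpr_cf (K0.f24966 IH) (Lpn (LP (LK LD1_c0 LD2_c9 LD3_c2))))
theorem f24961 : Led Lsl_dt (LP (LK LD1_c0 LD2_c8 LD3_c22)) = (LP (LK LD1_c0 LD2_c3 LD3_c49)) :=
  Lre_d IH (LK LD1_c0 LD2_c8 LD3_c22) (LK LD1_c0 LD2_c3 LD3_c49) Lrfl Lrfl
theorem f25133 : Led Lsl_gt (LP (LK LD1_c0 LD2_c8 LD3_c22)) = (LP (LK LD1_c0 LD2_c18 LD3_c38)) :=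
  Lre_g IH (LK LD1_c0 LD2_c8 LD3_c22) (LK LD1_c0 LD2_c18 LD3_c38) Lrfl Lrfl
theorem f58852 : Led Lsl_cf (LP (LK LD1_c0 LD2_c14 LD3_c47)) = (LP (LK LD1_c0 LD2_c18 LD3_c38)) :=
  Lgr Lrot169 (Lpe (f58850 IH) (Lpr_ct (f58778 IH) (Lpe (f23269 IH) (Lpe (K0.f7366 IH) (Lpe (K0.f9668 IH) (Lpe (f25046 IH) (Lpe (K0.f24960 IH) (Lpe (f24961 IH) (Lpr_gt (f25133 IH) (Lpn (LP (LK LD1_c0 LD2_c18 LD3_c38))))))))))))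
theorem f8332 : Led Lsl_ct (LP (LK LD1_c0 LD2_c6 LD3_c47)) = (LP (LK LD1_c0 LD2_c3 LD3_c4)) :=
  Lre_c IH (LK LD1_c0 LD2_c6 LD3_c47) (LK LD1_c0 LD2_c3 LD3_c4) Lrfl Lrfl
theorem f3872 : Led Lsl_at (LP (LK LD1_c0 LD2_c1 LD3_c47)) = (LP (LK LD1_c0 LD2_c0 LD3_c44)) :=
  Lre_a IH (LK LD1_c0 LD2_c1 LD3_c47) (LK LD1_c0 LD2_c0 LD3_c44) Lrfl Lrfl
theorem f58912 : Led Lsl_dt (LP (LK LD1_c0 LD2_c8 LD3_c34)) = (LP (LK LD1_c0 LD2_c18 LD3_c38)) :=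
  Lgr Lrot32 (Lpe (K0.f13450 IH) (Lpe (K0.f7298 IH) (Lpr_ft (K0.f7190 IH) (Lpr_at (f3872 IH) (Lpe (K0.f9693 IH) (Lpe (K0.f13434 IH) (Lpe (f8332 IH) (Lpe (f8333 IH) (Lpr_cf (f58852 IH) (Lpn (LP (LK LD1_c0 LD2_c18 LD3_c38))))))))))))
theorem f13615 : Led Lsl_dt (LP (LK LD1_c0 LD2_c6 LD3_c19)) = (LP (LK LD1_c0 LD2_c2 LD3_c54)) :=
  Lre_d IH (LK LD1_c0 LD2_c6 LD3_c19) (LK LD1_c0 LD2_c2 LD3_c54) Lrfl Lrfl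
theorem f58904 : Led Lsl_ct (LP (LK LD1_c0 LD2_c14 LD3_c47)) = (LP (LK LD1_c0 LD2_c18 LD3_c38)) :=
  Lgr Lrot59 (Lpr_cf (f58852 IH) (Lpn (LP (LK LD1_c0 LD2_c18 LD3_c38))))
theorem f58933 : Led Lsl_gt (LP (LK LD1_c0 LD2_c29 LD3_c19)) = (LP (LK LD1_c0 LD2_c14 LD3_c47)) :=
  Lgr Lrot187 (Lpr_cf (K0.f26758 IH) (Lpe (K0.f13590 IH) (Lpr_dt (f13615 IH) (Lpr_gt (K0.f13620 IH) (Lpe (K0.f23272 IH) (Lpr_gt (K0.f7306 IH) (Lpr_ct (K0.f13450 IH) (Lpr_dt (f58912 IH) (Lpe (f58904 IH) (Lpn (LP (LK LD1_c0 LD2_c14 LD3_c47))))))))))))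
theorem f194 : Led Lsl_dt (LP (LK LD1_c0 LD2_c7 LD3_c54)) = (LP (LK LD1_c0 LD2_c3 LD3_c36)) :=
  Lre_d IH (LK LD1_c0 LD2_c7 LD3_c54) (LK LD1_c0 LD2_c3 LD3_c36) Lrfl Lrfl
theorem f20196 : Led Lsl_gt (LP (LK LD1_c0 LD2_c12 LD3_c56)) = (LP (LK LD1_c0 LD2_c17 LD3_c29)) :=
  Lgr Lrot150 (Lpe (K0.f20195 IH) (Lpr_gf (K0.f20182 IH) (Lpe (K0.f9530 IH) (Lpr_gt (K0.f11015 IH) (Lpr_ct (K0.f3852 IH) (Lpr_gt (K0.f9642 IH) (Lpe (K0.f104 IH) (Lpe (f194 IH) (Lpe (f195 IH) (Lpn (LP (LK LD1_c0 LD2_c17 LD3_c29))))))))))))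
theorem f13542 : Led Lsl_ct (LP (LK LD1_c0 LD2_c3 LD3_c55)) = (LP (LK LD1_c0 LD2_c1 LD3_c42)) :=
  Lre_c IH (LK LD1_c0 LD2_c3 LD3_c55) (LK LD1_c0 LD2_c1 LD3_c42) Lrfl Lrfl
theorem f7123 : Led Lsl_ct (LP (LK LD1_c0 LD2_c1 LD3_c41)) = (LP (LK LD1_c0 LD2_c3 LD3_c53)) :=
  Lre_c IH (LK LD1_c0 LD2_c1 LD3_c41) (LK LD1_c0 LD2_c3 LD3_c53) Lrfl Lrfl
theorem f58928 : Led Lsl_dt (LP (LK LD1_c0 LD2_c8 LD3_c31)) = (LP (LK LD1_c0 LD2_c3 LD3_c53)) :=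
  Lre_d IH (LK LD1_c0 LD2_c8 LD3_c31) (LK LD1_c0 LD2_c3 LD3_c53) Lrfl Lrfl
theorem f58929 : Led Lsl_gf (LP (LK LD1_c0 LD2_c8 LD3_c31)) = (LP (LK LD1_c0 LD2_c18 LD3_c38)) :=
  Lgr Lrot143 (Lpr_dt (f58928 IH) (Lpe (f7123 IH) (Lpe (K0.f7122 IH) (Lpe (K0.f7146 IH) (Lpe (K0.f7459 IH) (Lpe (K0.f7480 IH) (Lpe (f13542 IH) (Lpr_gt (K0.f13449 IH) (Lpr_dt (f58912 IH) (Lpn (LP (LK LD1_c0 LD2_c18 LD3_c38))))))))))))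
theorem f22835 : Led Lsl_ct (LP (LK LD1_c0 LD2_c8 LD3_c55)) = (LP (LK LD1_c0 LD2_c3 LD3_c61)) :=
  Lre_c IH (LK LD1_c0 LD2_c8 LD3_c55) (LK LD1_c0 LD2_c3 LD3_c61) Lrfl Lrfl
theorem f20554 : Led Lsl_gt (LP (LK LD1_c0 LD2_c17 LD3_c16)) = (LP (LK LD1_c0 LD2_c8 LD3_c55)) :=
  Lre_g IH (LK LD1_c0 LD2_c17 LD3_c16) (LK LD1_c0 LD2_c8 LD3_c55) Lrfl Lrfl
theorem f58931 : Led Lsl_cf (LP (LK LD1_c0 LD2_c17 LD3_c16)) = (LP (LK LD1_c0 LD2_c8 LD3_c31)) :=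
  Lgr Lrot188 (Lpr_gt (f20554 IH) (Lpr_ct (f22835 IH) (Lpr_dt (K0.f349 IH) (Lpe (K0.f367 IH) (Lpe (K0.f1423 IH) (Lpe (K0.f23345 IH) (Lpe (K0.f23346 IH) (Lpr_dt (f58912 IH) (Lpe (f58929 IH) (Lpn (LP (LK LD1_c0 LD2_c8 LD3_c31))))))))))))
theorem f7064 : Led Lsl_bt (LP (LK LD1_c0 LD2_c0 LD3_c31)) = (LP (LK LD1_c0 LD2_c1 LD3_c17)) :=
  Lre_b IH (LK LD1_c0 LD2_c0 LD3_c31) (LK LD1_c0 LD2_c1 LD3_c17) Lrfl Lrfl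
theorem f36324 : Led Lsl_gt (LP (LK LD1_c0 LD2_c1 LD3_c17)) = (LP (LK LD1_c0 LD2_c1 LD3_c38)) :=
  Lgr Lrot82 (Lpe (f7064 IH) (Lpr_ct (f7065 IH) (Lpe (K0.f1496 IH) (Lpe (f7125 IH) (Lpr_bt (f7155 IH) (Lpr_gf (f36314 IH) (Lpe (f16648 IH) (Lpr_ct (K0.f8315 IH) (Lpe (K0.f7114 IH) (Lpe (f7117 IH) (Lpn (LP (LK LD1_c0 LD2_c1 LD3_c38)))))))))))))
theorem f23908 : Led Lsl_dt (LP (LK LD1_c0 LD2_c3 LD3_c26)) = (LP (LK LD1_c0 LD2_c7 LD3_c40)) :=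
  Lre_d IH (LK LD1_c0 LD2_c3 LD3_c26) (LK LD1_c0 LD2_c7 LD3_c40) Lrfl Lrfl
theorem f24614 : Led Lsl_gt (LP (LK LD1_c0 LD2_c7 LD3_c40)) = (LP (LK LD1_c0 LD2_c17 LD3_c16)) :=
  Lre_g IH (LK LD1_c0 LD2_c7 LD3_c40) (LK LD1_c0 LD2_c17 LD3_c16) Lrfl Lrfl
theorem f37931 : Led Lsl_df (LP (LK LD1_c0 LD2_c8 LD3_c15)) = (LP (LK LD1_c0 LD2_c17 LD3_c16)) :=
  Lgr Lrot174 (Lpr_ct (f7121 IH) (Lpe (f21174 IH) (Lpe (f36324 IH) (Lpe (K0.f13434 IH) (Lpe (K0.f7018 IH) (Lpr_ct (f37912 IH) (Lpr_gt (K0.f23902 IH) (Lpr_dt (f23908 IH) (Lpr_gt (f24614 IH) (Lpn (LP (LK LD1_c0 LD2_c17 LD3_c16))))))))))))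
theorem f58941 : Led Lsl_gt (LP (LK LD1_c0 LD2_c7 LD3_c54)) = (LP (LK LD1_c0 LD2_c3 LD3_c47)) :=
  Lgr Lrot187 (Lpe (f195 IH) (Lpe (f20196 IH) (Lpr_dt (K0.f20198 IH) (Lpr_gt (f58933 IH) (Lpr_ct (f58904 IH) (Lpe (f58929 IH) (Lpe (f58931 IH) (Lpe (f37931 IH) (Lpe (f21181 IH) (Lpn (LP (LK LD1_c0 LD2_c3 LD3_c47))))))))))))
theorem f7200 : Led Lsl_et (LP (LK LD1_c0 LD2_c0 LD3_c61)) = (LP (LK LD1_c0 LD2_c2 LD3_c21)) :=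
  Lre_e IH (LK LD1_c0 LD2_c0 LD3_c61) (LK LD1_c0 LD2_c2 LD3_c21) Lrfl Lrfl
theorem f58974 : Led Lsl_ef (LP (LK LD1_c0 LD2_c2 LD3_c50)) = (LP (LK LD1_c0 LD2_c1 LD3_c38)) :=
  Lgr Lrot114 (Lpr_gt (f36286 IH) (Lpe (f7200 IH) (Lpr_dt (K0.f446 IH) (Lpr_gt (K0.f28320 IH) (Lpr_df (K0.f9638 IH) (Lpr_et (K0.f8164 IH) (Lpr_gt (K0.f20988 IH) (Lpr_dt (f212 IH) (Lpr_gt (f58941 IH) (Lpe (f21174 IH) (Lpn (LP (LK LD1_c0 LD2_c1 LD3_c38)))))))))))))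
theorem f58977 : Led Lsl_et (LP (LK LD1_c0 LD2_c6 LD3_c9)) = (LP (LK LD1_c0 LD2_c3 LD3_c46)) :=
  Lgr Lrot74 (Lpe (f26027 IH) (Lpr_ef (f58974 IH) (Lpe (f7131 IH) (Lpn (LP (LK LD1_c0 LD2_c3 LD3_c46))))))
theorem f36319 : Led Lsl_dt (LP (LK LD1_c0 LD2_c6 LD3_c9)) = (LP (LK LD1_c0 LD2_c13 LD3_c30)) :=
  Lre_d IH (LK LD1_c0 LD2_c6 LD3_c9) (LK LD1_c0 LD2_c13 LD3_c30) Lrfl Lrfl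
theorem f27055 : Led Lsl_gt (LP (LK LD1_c0 LD2_c30 LD3_c22)) = (LP (LK LD1_c0 LD2_c13 LD3_c30)) :=
  Lre_g IH (LK LD1_c0 LD2_c30 LD3_c22) (LK LD1_c0 LD2_c13 LD3_c30) Lrfl Lrfl
theorem f59159 : Led Lsl_df (LP (LK LD1_c0 LD2_c30 LD3_c22)) = (LP (LK LD1_c0 LD2_c17 LD3_c25)) :=
  Lgr Lrot135 (Lpr_gt (f27055 IH) (Lpe (f36319 IH) (Lpr_et (f58977 IH) (Lpr_gt (f24962 IH) (Lpr_ef (f36629 IH) (Lpr_dt (f24963 IH) (Lpr_gt (f37962 IH) (Lpr_df (f34710 IH) (Lpe (K0.f27224 IH) (Lpr_gt (K0.f27226 IH) (Lpn (LP (LK LD1_c0 LD2_c17 LD3_c25)))))))))))))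
theorem f23390 : Led Lsl_ct (LP (LK LD1_c0 LD2_c12 LD3_c28)) = (LP (LK LD1_c0 LD2_c28 LD3_c13)) :=
  Lre_c IH (LK LD1_c0 LD2_c12 LD3_c28) (LK LD1_c0 LD2_c28 LD3_c13) Lrfl Lrfl
theorem f35867 : Led Lsl_gt (LP (LK LD1_c0 LD2_c28 LD3_c13)) = (LP (LK LD1_c1 LD2_c1 LD3_c48)) :=
  Lre_g IH (LK LD1_c0 LD2_c28 LD3_c13) (LK LD1_c1 LD2_c1 LD3_c48) Lrfl Lrfl
theorem f59170 : Led Lsl_cf (LP (LK LD1_c0 LD2_c30 LD3_c22)) = (LP (LK LD1_c1 LD2_c1 LD3_c48)) :=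
  Lgr Lrot99 (Lpr_df (f59159 IH) (Lpr_cf (K0.f35347 IH) (Lpe (K0.f20612 IH) (Lpe (K0.f35392 IH) (Lpe (K0.f13647 IH) (Lpe (f13642 IH) (Lpr_gt (f36421 IH) (Lpr_ct (f23390 IH) (Lpr_gt (f35867 IH) (Lpn (LP (LK LD1_c1 LD2_c1 LD3_c48))))))))))))
theorem f37968 : Led Lsl_ct (LP (LK LD1_c0 LD2_c13 LD3_c30)) = (LP (LK LD1_c0 LD2_c30 LD3_c23)) :=
  Lre_c IH (LK LD1_c0 LD2_c13 LD3_c30) (LK LD1_c0 LD2_c30 LD3_c23) Lrfl Lrfl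
theorem f38631 : Led Lsl_dt (LP (LK LD1_c0 LD2_c30 LD3_c23)) = (LP (LK LD1_c1 LD2_c6 LD3_c24)) :=
  Lre_d IH (LK LD1_c0 LD2_c30 LD3_c23) (LK LD1_c1 LD2_c6 LD3_c24) Lrfl Lrfl
theorem f35823 : Led Lsl_dt (LP (LK LD1_c1 LD2_c1 LD3_c51)) = (LP (LK LD1_c0 LD2_c28 LD3_c13)) :=
  Lre_d IH (LK LD1_c1 LD2_c1 LD3_c51) (LK LD1_c0 LD2_c28 LD3_c13) Lrfl Lrfl
theorem f30047 : Led Lsl_et (LP (LK LD1_c0 LD2_c55 LD3_c13)) = (LP (LK LD1_c1 LD2_c56 LD3_c53)) :=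
  Lre_e IH (LK LD1_c0 LD2_c55 LD3_c13) (LK LD1_c1 LD2_c56 LD3_c53) Lrfl Lrfl
theorem f30049 : Led Lsl_af (LP (LK LD1_c0 LD2_c55 LD3_c13)) = (LP (LK LD1_c0 LD2_c55 LD3_c25)) :=
  Lgr Lrot50 (Lpr_et (f30047 IH) (Lpr_at (f29996 IH) (Lpr_et (f30048 IH) (Lpn (LP (LK LD1_c0 LD2_c55 LD3_c25))))))
theorem f36654 : Led Lsl_at (LP (LK LD1_c1 LD2_c27 LD3_c47)) = (LP (LK LD1_c1 LD2_c57 LD3_c13)) :=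
  Lgr Lrot66 (Lpr_ff (f36652 IH) (Lpr_af (f30049 IH) (Lpr_ff (f30716 IH) (Lpn (LP (LK LD1_c1 LD2_c57 LD3_c13))))))
theorem f35822 : Led Lsl_ct (LP (LK LD1_c0 LD2_c28 LD3_c13)) = (LP (LK LD1_c0 LD2_c12 LD3_c28)) :=
  Lre_c IH (LK LD1_c0 LD2_c28 LD3_c13) (LK LD1_c0 LD2_c12 LD3_c28) Lrfl Lrfl
theorem f35824 : Led Lsl_gt (LP (LK LD1_c0 LD2_c55 LD3_c13)) = (LP (LK LD1_c1 LD2_c1 LD3_c51)) :=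
  Lgr Lrot49 (Lpe (f29551 IH) (Lpr_gf (f35818 IH) (Lpe (f35437 IH) (Lpr_gt (K0.f16637 IH) (Lpr_dt (K0.f16620 IH) (Lpr_gt (f16635 IH) (Lpr_dt (f16636 IH) (Lpe (f35822 IH) (Lpe (f35823 IH) (Lpn (LP (LK LD1_c1 LD2_c1 LD3_c51))))))))))))
theorem f36665 : Led Lsl_gf (LP (LK LD1_c1 LD2_c57 LD3_c13)) = (LP (LK LD1_c1 LD2_c1 LD3_c51)) :=
  Lgr Lrot76 (Lpe (f36654 IH) (Lpr_ff (f36652 IH) (Lpr_gt (f35824 IH) (Lpn (LP (LK LD1_c1 LD2_c1 LD3_c51))))))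
theorem f30093 : Led Lsl_dt (LP (LK LD1_c0 LD2_c25 LD3_c7)) = (LP (LK LD1_c0 LD2_c55 LD3_c25)) :=
  Lre_d IH (LK LD1_c0 LD2_c25 LD3_c7) (LK LD1_c0 LD2_c55 LD3_c25) Lrfl Lrfl
theorem f28467 : Led Lsl_gt (LP (LK LD1_c0 LD2_c5 LD3_c6)) = (LP (LK LD1_c0 LD2_c10 LD3_c58)) :=
  Lre_g IH (LK LD1_c0 LD2_c5 LD3_c6) (LK LD1_c0 LD2_c10 LD3_c58) Lrfl Lrfl
theorem f28471 : Led Lsl_dt (LP (LK LD1_c0 LD2_c10 LD3_c58)) = (LP (LK LD1_c0 LD2_c24 LD3_c37)) :=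
  Lre_d IH (LK LD1_c0 LD2_c10 LD3_c58) (LK LD1_c0 LD2_c24 LD3_c37) Lrfl Lrfl
theorem f37905 : Led Lsl_ct (LP (LK LD1_c0 LD2_c54 LD3_c31)) = (LP (LK LD1_c0 LD2_c24 LD3_c37)) :=
  Lre_c IH (LK LD1_c0 LD2_c54 LD3_c31) (LK LD1_c0 LD2_c24 LD3_c37) Lrfl Lrfl
theorem f37906 : Led Lsl_dt (LP (LK LD1_c1 LD2_c55 LD3_c35)) = (LP (LK LD1_c0 LD2_c54 LD3_c31)) :=
  Lre_d IH (LK LD1_c1 LD2_c55 LD3_c35) (LK LD1_c0 LD2_c54 LD3_c31) Lrfl Lrfl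
theorem f37907 : Led Lsl_gt (LP (LK LD1_c0 LD2_c55 LD3_c25)) = (LP (LK LD1_c1 LD2_c55 LD3_c35)) :=
  Lgr Lrot49 (Lpe (f30093 IH) (Lpr_gf (f37324 IH) (Lpe (f37319 IH) (Lpr_gt (f37903 IH) (Lpr_dt (f36297 IH) (Lpr_gt (f28467 IH) (Lpr_dt (f28471 IH) (Lpe (f37905 IH) (Lpe (f37906 IH) (Lpn (LP (LK LD1_c1 LD2_c55 LD3_c35))))))))))))
theorem f59186 : Led Lsl_cf (LP (LK LD1_c1 LD2_c6 LD3_c24)) = (LP (LK LD1_c1 LD2_c55 LD3_c35)) :=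
  Lgr Lrot99 (Lpe (f38631 IH) (Lpe (f37968 IH) (Lpe (f27055 IH) (Lpr_cf (f59170 IH) (Lpe (f35867 IH) (Lpe (f35823 IH) (Lpe (f36665 IH) (Lpr_ct (f29553 IH) (Lpr_gt (f37907 IH) (Lpn (LP (LK LD1_c1 LD2_c55 LD3_c35))))))))))))
theorem f37882 : Led Lsl_cf (LP (LK LD1_c1 LD2_c2 LD3_c19)) = (LP (LK LD1_c0 LD2_c54 LD3_c36)) :=
  Lgr Lrot11 (Lpr_ct (f37875 IH) (Lpn (LP (LK LD1_c0 LD2_c54 LD3_c36))))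
theorem f59244 : Led Lsl_gt (LP (LK LD1_c1 LD2_c6 LD3_c24)) = (LP (LK LD1_c0 LD2_c54 LD3_c36)) :=
  Lgr Lrot150 (Lpr_cf (f59186 IH) (Lpe (f37907 IH) (Lpe (f30093 IH) (Lpr_gt (f35594 IH) (Lpr_ct (f35572 IH) (Lpe (f35541 IH) (Lpr_ct (f8345 IH) (Lpe (f16568 IH) (Lpr_cf (f37882 IH) (Lpn (LP (LK LD1_c0 LD2_c54 LD3_c36))))))))))))
theorem f36312 : Led Lsl_dt (LP (LK LD1_c1 LD2_c6 LD3_c24)) = (LP (LK LD1_c0 LD2_c30 LD3_c23)) :=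
  Lre_d IH (LK LD1_c1 LD2_c6 LD3_c24) (LK LD1_c0 LD2_c30 LD3_c23) Lrfl Lrfl
theorem f35406 : Led Lsl_gf (LP (LK LD1_c0 LD2_c13 LD3_c7)) = (LP (LK LD1_c0 LD2_c7 LD3_c49)) :=
  Lgr Lrot129 (Lpe (K0.f9594 IH) (Lpe (K0.f9612 IH) (Lpe (K0.f26750 IH) (Lpe (K0.f35402 IH) (Lpr_ct (K0.f35392 IH) (Lpr_gt (K0.f20612 IH) (Lpe (K0.f35368 IH) (Lpe (K0.f35390 IH) (Lpr_gt (K0.f8190 IH) (Lpe (K0.f8183 IH) (Lpn (LP (LK LD1_c0 LD2_c7 LD3_c49)))))))))))))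
theorem f36398 : Led Lsl_dt (LP (LK LD1_c0 LD2_c18 LD3_c46)) = (LP (LK LD1_c0 LD2_c13 LD3_c7)) :=
  Lgr Lrot42 (Lpr_df (f36326 IH) (Lpn (LP (LK LD1_c0 LD2_c13 LD3_c7))))
theorem f36403 : Led Lsl_ct (LP (LK LD1_c0 LD2_c42 LD3_c0)) = (LP (LK LD1_c0 LD2_c18 LD3_c46)) :=
  Lre_c IH (LK LD1_c0 LD2_c42 LD3_c0) (LK LD1_c0 LD2_c18 LD3_c46) Lrfl Lrfl
theorem f59168 : Led Lsl_gt (LP (LK LD1_c0 LD2_c30 LD3_c23)) = (LP (LK LD1_c0 LD2_c42 LD3_c0)) :=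
  Lgr Lrot150 (Lpe (f37968 IH) (Lpe (f27055 IH) (Lpr_df (f59159 IH) (Lpr_gt (K0.f8190 IH) (Lpe (K0.f8183 IH) (Lpe (f35406 IH) (Lpr_ct (K0.f9594 IH) (Lpe (f36398 IH) (Lpe (f36403 IH) (Lpn (LP (LK LD1_c0 LD2_c42 LD3_c0))))))))))))
theorem f37083 : Led Lsl_gt (LP (LK LD1_c0 LD2_c11 LD3_c12)) = (LP (LK LD1_c0 LD2_c6 LD3_c9)) :=
  Lgr Lrot5 (Lpr_ft (f29237 IH) (Lpr_at (f29317 IH) (Lpr_gf (f37081 IH) (Lpn (LP (LK LD1_c0 LD2_c6 LD3_c9))))))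
theorem f36311 : Led Lsl_ct (LP (LK LD1_c0 LD2_c30 LD3_c23)) = (LP (LK LD1_c0 LD2_c13 LD3_c30)) :=
  Lre_c IH (LK LD1_c0 LD2_c30 LD3_c23) (LK LD1_c0 LD2_c13 LD3_c30) Lrfl Lrfl
theorem f38621 : Led Lsl_gt (LP (LK LD1_c1 LD2_c2 LD3_c19)) = (LP (LK LD1_c1 LD2_c6 LD3_c24)) :=
  Lgr Lrot49 (Lpe (f16616 IH) (Lpr_gf (f38619 IH) (Lpe (f36931 IH) (Lpr_gt (f36913 IH) (Lpr_dt (f29230 IH) (Lpr_gt (f37083 IH) (Lpr_dt (f36319 IH) (Lpe (f36311 IH) (Lpe (f36312 IH) (Lpn (LP (LK LD1_c1 LD2_c6 LD3_c24))))))))))))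
theorem f59238 : Led Lsl_ct (LP (LK LD1_c1 LD2_c6 LD3_c24)) = (LP (LK LD1_c1 LD2_c55 LD3_c35)) :=
  Lgr Lrot59 (Lpr_cf (f59186 IH) (Lpn (LP (LK LD1_c1 LD2_c55 LD3_c35))))
theorem f59240 : Led Lsl_dt (LP (LK LD1_c0 LD2_c54 LD3_c31)) = (LP (LK LD1_c1 LD2_c55 LD3_c35)) :=
  Lre_d IH (LK LD1_c0 LD2_c54 LD3_c31) (LK LD1_c1 LD2_c55 LD3_c35) Lrfl Lrfl
theorem f37909 : Led Lsl_ct (LP (LK LD1_c0 LD2_c24 LD3_c37)) = (LP (LK LD1_c0 LD2_c54 LD3_c31)) :=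
  Lre_c IH (LK LD1_c0 LD2_c24 LD3_c37) (LK LD1_c0 LD2_c54 LD3_c31) Lrfl Lrfl
theorem f59254 : Led Lsl_gt (LP (LK LD1_c0 LD2_c18 LD3_c46)) = (LP (LK LD1_c0 LD2_c24 LD3_c37)) :=
  Lgr Lrot150 (Lpe (f36403 IH) (Lpe (f59168 IH) (Lpe (f36312 IH) (Lpr_gt (f59244 IH) (Lpe (f37882 IH) (Lpr_gt (f38621 IH) (Lpr_ct (f59238 IH) (Lpe (f59240 IH) (Lpe (f37909 IH) (Lpn (LP (LK LD1_c0 LD2_c24 LD3_c37))))))))))))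
theorem f37184 : Led Lsl_ct (LP (LK LD1_c0 LD2_c40 LD3_c41)) = (LP (LK LD1_c0 LD2_c18 LD3_c13)) :=
  Lre_c IH (LK LD1_c0 LD2_c40 LD3_c41) (LK LD1_c0 LD2_c18 LD3_c13) Lrfl Lrfl
theorem f59330 : Led Lsl_gf (LP (LK LD1_c0 LD2_c40 LD3_c41)) = (LP (LK LD1_c0 LD2_c54 LD3_c31)) :=
  Lgr Lrot104 (Lpr_ct (f37184 IH) (Lpe (f37186 IH) (Lpe (K0.f35368 IH) (Lpe (K0.f27226 IH) (Lpe (K0.f35442 IH) (Lpr_gf (K0.f35431 IH) (Lpe (f36398 IH) (Lpr_gt (f59254 IH) (Lpr_ct (f37909 IH) (Lpn (LP (LK LD1_c0 LD2_c54 LD3_c31))))))))))))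
theorem f36639 : Led Lsl_ct (LP (LK LD1_c0 LD2_c18 LD3_c13)) = (LP (LK LD1_c0 LD2_c40 LD3_c41)) :=
  Lre_c IH (LK LD1_c0 LD2_c18 LD3_c13) (LK LD1_c0 LD2_c40 LD3_c41) Lrfl Lrfl
theorem f37159 : Led Lsl_bf (LP (LK LD1_c0 LD2_c16 LD3_c49)) = (LP (LK LD1_c0 LD2_c18 LD3_c13)) :=
  Lgr Lrot24 (Lpr_bt (f37157 IH) (Lpn (LP (LK LD1_c0 LD2_c18 LD3_c13))))
theorem f20423 : Led Lsl_bt (LP (LK LD1_c0 LD2_c3 LD3_c23)) = (LP (LK LD1_c0 LD2_c7 LD3_c29)) :=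
  Lre_b IH (LK LD1_c0 LD2_c3 LD3_c23) (LK LD1_c0 LD2_c7 LD3_c29) Lrfl Lrfl
theorem f16656 : Led Lsl_ct (LP (LK LD1_c0 LD2_c3 LD3_c23)) = (LP (LK LD1_c0 LD2_c7 LD3_c31)) :=
  Lre_c IH (LK LD1_c0 LD2_c3 LD3_c23) (LK LD1_c0 LD2_c7 LD3_c31) Lrfl Lrfl
theorem f59332 : Led Lsl_gf (LP (LK LD1_c0 LD2_c16 LD3_c40)) = (LP (LK LD1_c0 LD2_c7 LD3_c31)) :=
  Lgr Lrot126 (Lpe (f56569 IH) (Lpr_bt (f56564 IH) (Lpr_gt (f59254 IH) (Lpr_ct (f37909 IH) (Lpe (f59330 IH) (Lpe (f36639 IH) (Lpe (f37159 IH) (Lpr_gt (f37130 IH) (Lpe (f20423 IH) (Lpr_ct (f16656 IH) (Lpn (LP (LK LD1_c0 LD2_c7 LD3_c31)))))))))))))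
theorem f56579 : Led Lsl_dt (LP (LK LD1_c0 LD2_c16 LD3_c40)) = (LP (LK LD1_c0 LD2_c37 LD3_c24)) :=
  Lre_d IH (LK LD1_c0 LD2_c16 LD3_c40) (LK LD1_c0 LD2_c37 LD3_c24) Lrfl Lrfl
theorem f7001 : Led Lsl_dt (LP (LK LD1_c0 LD2_c1 LD3_c11)) = (LP (LK LD1_c0 LD2_c0 LD3_c26)) :=
  Lre_d IH (LK LD1_c0 LD2_c1 LD3_c11) (LK LD1_c0 LD2_c0 LD3_c26) Lrfl Lrfl
theorem f25999 : Led Lsl_gf (LP (LK LD1_c0 LD2_c13 LD3_c26)) = (LP (LK LD1_c0 LD2_c20 LD3_c1)) :=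
  Lgr Lrot143 (Lpr_dt (K0.f25731 IH) (Lpe (K0.f7010 IH) (Lpe (K0.f6979 IH) (Lpe (K0.f6978 IH) (Lpe (f7001 IH) (Lpe (K0.f1463 IH) (Lpe (K0.f23435 IH) (Lpr_gt (K0.f20873 IH) (Lpr_dt (f13469 IH) (Lpn (LP (LK LD1_c0 LD2_c20 LD3_c1))))))))))))
theorem f13556 : Led Lsl_dt (LP (LK LD1_c0 LD2_c8 LD3_c36)) = (LP (LK LD1_c0 LD2_c3 LD3_c55)) :=
  Lre_d IH (LK LD1_c0 LD2_c8 LD3_c36) (LK LD1_c0 LD2_c3 LD3_c55) Lrfl Lrfl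
theorem f20981 : Led Lsl_gt (LP (LK LD1_c0 LD2_c19 LD3_c8)) = (LP (LK LD1_c0 LD2_c8 LD3_c36)) :=
  Lre_g IH (LK LD1_c0 LD2_c19 LD3_c8) (LK LD1_c0 LD2_c8 LD3_c36) Lrfl Lrfl
theorem f20982 : Led Lsl_df (LP (LK LD1_c0 LD2_c19 LD3_c8)) = (LP (LK LD1_c0 LD2_c13 LD3_c23)) :=
  Lgr Lrot153 (Lpr_gt (f20981 IH) (Lpr_dt (f13556 IH) (Lpe (K0.f13448 IH) (Lpe (K0.f20979 IH) (Lpr_gf (K0.f20972 IH) (Lpe (K0.f20083 IH) (Lpe (K0.f20958 IH) (Lpe (K0.f20966 IH) (Lpr_gt (K0.f20963 IH) (Lpn (LP (LK LD1_c0 LD2_c13 LD3_c23))))))))))))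
theorem f59426 : Led Lsl_cf (LP (LK LD1_c0 LD2_c37 LD3_c24)) = (LP (LK LD1_c0 LD2_c19 LD3_c8)) :=
  Lgr Lrot14 (Lpe (f56579 IH) (Lpr_gf (f59332 IH) (Lpe (K0.f20275 IH) (Lpe (K0.f20276 IH) (Lpr_ct (K0.f20278 IH) (Lpe (f25999 IH) (Lpr_dt (K0.f25731 IH) (Lpr_gt (K0.f20963 IH) (Lpe (f20982 IH) (Lpn (LP (LK LD1_c0 LD2_c19 LD3_c8))))))))))))
theorem f56584 : Led Lsl_dt (LP (LK LD1_c0 LD2_c37 LD3_c24)) = (LP (LK LD1_c0 LD2_c16 LD3_c40)) :=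
  Lre_d IH (LK LD1_c0 LD2_c37 LD3_c24) (LK LD1_c0 LD2_c16 LD3_c40) Lrfl Lrfl
theorem f20073 : Led Lsl_dt (LP (LK LD1_c0 LD2_c13 LD3_c16)) = (LP (LK LD1_c0 LD2_c29 LD3_c58)) :=
  Lre_d IH (LK LD1_c0 LD2_c13 LD3_c16) (LK LD1_c0 LD2_c29 LD3_c58) Lrfl Lrfl
theorem f26581 : Led Lsl_ct (LP (LK LD1_c0 LD2_c13 LD3_c31)) = (LP (LK LD1_c0 LD2_c6 LD3_c10)) :=
  Lre_c IH (LK LD1_c0 LD2_c13 LD3_c31) (LK LD1_c0 LD2_c6 LD3_c10) Lrfl Lrfl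
theorem f37933 : Led Lsl_gf (LP (LK LD1_c0 LD2_c13 LD3_c20)) = (LP (LK LD1_c0 LD2_c6 LD3_c10)) :=
  Lgr Lrot148 (Lpe (f26760 IH) (Lpe (K0.f26750 IH) (Lpr_dt (K0.f26752 IH) (Lpr_ct (f37912 IH) (Lpe (K0.f23903 IH) (Lpr_gf (K0.f23895 IH) (Lpe (f20073 IH) (Lpe (K0.f27020 IH) (Lpr_ct (f26581 IH) (Lpn (LP (LK LD1_c0 LD2_c6 LD3_c10))))))))))))
theorem f27290 : Led Lsl_dt (LP (LK LD1_c0 LD2_c3 LD3_c30)) = (LP (LK LD1_c0 LD2_c6 LD3_c45)) :=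
  Lgr Lrot37 (Lpr_et (K0.f8209 IH) (Lpr_gt (K0.f230 IH) (Lpr_dt (K0.f27271 IH) (Lpe (K0.f27286 IH) (Lpe (K0.f301 IH) (Lpr_et (K0.f6836 IH) (Lpqs (K0.f8017 IH) (Lpr_gt (K0.f6769 IH) (Lpq (K0.f7202 IH) (Lpe (K0.f7016 IH) (Lpr_dt (K0.f7017 IH) (Lpr_gt (f7031 IH) (Lpn (LP (LK LD1_c0 LD2_c6 LD3_c45)))))))))))))))
theorem f26736 : Led Lsl_df (LP (LK LD1_c0 LD2_c1 LD3_c27)) = (LP (LK LD1_c0 LD2_c1 LD3_c42)) :=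
  Lgr Lrot162 (Lpe (K0.f8176 IH) (Lpe (K0.f8181 IH) (Lpr_cf (K0.f26724 IH) (Lpr_gf (K0.f13421 IH) (Lpe (K0.f13425 IH) (Lpr_gt (K0.f3797 IH) (Lpr_ct (K0.f7381 IH) (Lpr_gt (K0.f13536 IH) (Lpr_ct (f13542 IH) (Lpn (LP (LK LD1_c0 LD2_c1 LD3_c42))))))))))))
theorem f26339 : Led Lsl_ft (LP (LK LD1_c0 LD2_c6 LD3_c4)) = (LP (LK LD1_c0 LD2_c3 LD3_c32)) :=
  Lgr Lrot4 (Lpe (K0.f13639 IH) (Lpr_ff (K0.f26337 IH) (Lpe (K0.f8171 IH) (Lpn (LP (LK LD1_c0 LD2_c3 LD3_c32))))))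
theorem f37929 : Led Lsl_cf (LP (LK LD1_c0 LD2_c8 LD3_c36)) = (LP (LK LD1_c0 LD2_c17 LD3_c9)) :=
  Lgr Lrot116 (Lpr_dt (f13556 IH) (Lpr_ct (f13542 IH) (Lpe (f26736 IH) (Lpr_ct (K0.f8180 IH) (Lpe (K0.f8238 IH) (Lpe (f26339 IH) (Lpr_dt (K0.f26752 IH) (Lpr_ct (f37912 IH) (Lpr_dt (K0.f23915 IH) (Lpn (LP (LK LD1_c0 LD2_c17 LD3_c9))))))))))))
theorem f23301 : Led Lsl_dt (LP (LK LD1_c0 LD2_c1 LD3_c35)) = (LP (LK LD1_c0 LD2_c2 LD3_c53)) :=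
  Lgr Lrot6 (Lpr_gt (K0.f7109 IH) (Lpr_ct (K0.f7110 IH) (Lpr_gt (K0.f20600 IH) (Lpr_ct (K0.f410 IH) (Lpr_df (K0.f7360 IH) (Lpr_cf (K0.f23272 IH) (Lpe (K0.f13620 IH) (Lpe (K0.f13601 IH) (Lpe (K0.f1463 IH) (Lpn (LP (LK LD1_c0 LD2_c2 LD3_c53))))))))))))
theorem f23382 : Led Lsl_bt (LP (LK LD1_c0 LD2_c2 LD3_c53)) = (LP (LK LD1_c0 LD2_c1 LD3_c43)) :=
  Lgr Lrot127 (Lpr_bf (K0.f23377 IH) (Lpn (LP (LK LD1_c0 LD2_c1 LD3_c43))))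
theorem f26744 : Led Lsl_df (LP (LK LD1_c0 LD2_c2 LD3_c45)) = (LP (LK LD1_c0 LD2_c1 LD3_c43)) :=
  Lgr Lrot12 (Lpr_bt (K0.f26740 IH) (Lpr_dt (f23301 IH) (Lpr_bt (f23382 IH) (Lpn (LP (LK LD1_c0 LD2_c1 LD3_c43))))))
theorem f23380 : Led Lsl_dt (LP (LK LD1_c0 LD2_c8 LD3_c38)) = (LP (LK LD1_c0 LD2_c3 LD3_c56)) :=
  Lre_d IH (LK LD1_c0 LD2_c8 LD3_c38) (LK LD1_c0 LD2_c3 LD3_c56) Lrfl Lrfl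
theorem f37947 : Led Lsl_ct (LP (LK LD1_c0 LD2_c17 LD3_c6)) = (LP (LK LD1_c0 LD2_c8 LD3_c38)) :=
  Lgr Lrot176 (Lpe (K0.f8328 IH) (Lpr_cf (f37939 IH) (Lpe (f27290 IH) (Lpe (K0.f8180 IH) (Lpr_df (f26736 IH) (Lpe (f13542 IH) (Lpe (f13556 IH) (Lpr_cf (f37929 IH) (Lpe (K0.f23915 IH) (Lpe (f37912 IH) (Lpe (K0.f26752 IH) (Lpe (K0.f13639 IH) (Lpr_df (f26744 IH) (Lpe (K0.f23345 IH) (Lpe (f23380 IH) (Lpn (LP (LK LD1_c0 LD2_c8 LD3_c38))))))))))))))))))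
theorem f59453 : Led Lsl_gt (LP (LK LD1_c0 LD2_c8 LD3_c38)) = (LP (LK LD1_c0 LD2_c19 LD3_c8)) :=
  Lgr Lrot150 (Lpe (f37947 IH) (Lpe (K0.f22451 IH) (Lpe (K0.f22833 IH) (Lpe (K0.f26936 IH) (Lpr_ct (f26581 IH) (Lpe (f37933 IH) (Lpr_ct (f56569 IH) (Lpe (f56584 IH) (Lpr_cf (f59426 IH) (Lpn (LP (LK LD1_c0 LD2_c19 LD3_c8))))))))))))
theorem f23375 : Led Lsl_dt (LP (LK LD1_c0 LD2_c3 LD3_c56)) = (LP (LK LD1_c0 LD2_c8 LD3_c38)) :=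
  Lre_d IH (LK LD1_c0 LD2_c3 LD3_c56) (LK LD1_c0 LD2_c8 LD3_c38) Lrfl Lrfl
theorem f59460 : Led Lsl_df (LP (LK LD1_c0 LD2_c13 LD3_c23)) = (LP (LK LD1_c0 LD2_c19 LD3_c8)) :=
  Lgr Lrot84 (Lpr_cf (K0.f25732 IH) (Lpe (K0.f7339 IH) (Lpr_gf (K0.f13421 IH) (Lpe (K0.f13429 IH) (Lpe (K0.f7308 IH) (Lpr_cf (K0.f13456 IH) (Lpr_gt (K0.f23346 IH) (Lpr_dt (f23375 IH) (Lpr_gt (f59453 IH) (Lpn (LP (LK LD1_c0 LD2_c19 LD3_c8))))))))))))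
theorem f26017 : Led Lsl_gf (LP (LK LD1_c0 LD2_c13 LD3_c21)) = (LP (LK LD1_c0 LD2_c13 LD3_c16)) :=
  Lgr Lrot104 (Lpr_ct (f25998 IH) (Lpe (K0.f25917 IH) (Lpe (K0.f7013 IH) (Lpe (K0.f6978 IH) (Lpe (K0.f6999 IH) (Lpe (K0.f7006 IH) (Lpe (K0.f20181 IH) (Lpr_gt (K0.f20186 IH) (Lpr_ct (K0.f21206 IH) (Lpn (LP (LK LD1_c0 LD2_c13 LD3_c16))))))))))))
theorem f59479 : Led Lsl_cf (LP (LK LD1_c0 LD2_c17 LD3_c6)) = (LP (LK LD1_c0 LD2_c8 LD3_c38)) :=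
  Lgr Lrot166 (Lpe (K0.f22445 IH) (Lpr_dt (K0.f22444 IH) (Lpe (f26017 IH) (Lpe (K0.f26762 IH) (Lpr_ct (K0.f26357 IH) (Lpe (K0.f26059 IH) (Lpr_gf (K0.f26263 IH) (Lpr_df (f59460 IH) (Lpe (f59453 IH) (Lpn (LP (LK LD1_c0 LD2_c8 LD3_c38))))))))))))
theorem f37945 : Led Lsl_ct (LP (LK LD1_c0 LD2_c7 LD3_c37)) = (LP (LK LD1_c0 LD2_c6 LD3_c45)) :=
  Lgr Lrot59 (Lpr_cf (f37939 IH) (Lpn (LP (LK LD1_c0 LD2_c6 LD3_c45))))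
theorem f7165 : Led Lsl_dt (LP (LK LD1_c0 LD2_c0 LD3_c38)) = (LP (LK LD1_c0 LD2_c0 LD3_c11)) :=
  Lre_d IH (LK LD1_c0 LD2_c0 LD3_c38) (LK LD1_c0 LD2_c0 LD3_c11) Lrfl Lrfl
theorem f24405 : Led Lsl_df (LP (LK LD1_c0 LD2_c1 LD3_c43)) = (LP (LK LD1_c0 LD2_c2 LD3_c45)) :=
  Lgr Lrot153 (Lpr_gt (K0.f1423 IH) (Lpr_dt (f7165 IH) (Lpe (f7065 IH) (Lpe (K0.f20270 IH) (Lpe (K0.f248 IH) (Lpr_df (K0.f24210 IH) (Lpe (K0.f8416 IH) (Lpe (K0.f13633 IH) (Lpr_gt (K0.f1471 IH) (Lpn (LP (LK LD1_c0 LD2_c2 LD3_c45))))))))))))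
theorem f59505 : Led Lsl_dt (LP (LK LD1_c0 LD2_c6 LD3_c46)) = (LP (LK LD1_c0 LD2_c6 LD3_c4)) :=
  Lgr Lrot159 (Lpr_ft (f37724 IH) (Lpe (f37730 IH) (Lpe (f37945 IH) (Lpe (K0.f22459 IH) (Lpr_cf (f59479 IH) (Lpe (f23375 IH) (Lpe (K0.f23376 IH) (Lpr_df (f24405 IH) (Lpe (K0.f22448 IH) (Lpn (LP (LK LD1_c0 LD2_c6 LD3_c4))))))))))))
theorem f7142 : Led Lsl_gt (LP (LK LD1_c0 LD2_c2 LD3_c55)) = (LP (LK LD1_c0 LD2_c1 LD3_c43)) :=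
  Lre_g IH (LK LD1_c0 LD2_c2 LD3_c55) (LK LD1_c0 LD2_c1 LD3_c43) Lrfl Lrfl
theorem f3833 : Led Lsl_gt (LP (LK LD1_c0 LD2_c1 LD3_c38)) = (LP (LK LD1_c0 LD2_c3 LD3_c45)) :=
  Lre_g IH (LK LD1_c0 LD2_c1 LD3_c38) (LK LD1_c0 LD2_c3 LD3_c45) Lrfl Lrfl
theorem f36618 : Led Lsl_dt (LP (LK LD1_c0 LD2_c3 LD3_c45)) = (LP (LK LD1_c0 LD2_c8 LD3_c10)) :=
  Lre_d IH (LK LD1_c0 LD2_c3 LD3_c45) (LK LD1_c0 LD2_c8 LD3_c10) Lrfl Lrfl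
theorem f59515 : Led Lsl_gf (LP (LK LD1_c0 LD2_c6 LD3_c46)) = (LP (LK LD1_c0 LD2_c8 LD3_c10)) :=
  Lgr Lrot143 (Lpr_dt (f59505 IH) (Lpe (K0.f13639 IH) (Lpr_df (f26744 IH) (Lpe (f7142 IH) (Lpe (K0.f7133 IH) (Lpe (K0.f7114 IH) (Lpe (f7117 IH) (Lpr_gt (f3833 IH) (Lpr_dt (f36618 IH) (Lpn (LP (LK LD1_c0 LD2_c8 LD3_c10))))))))))))
theorem f37923 : Led Lsl_cf (LP (LK LD1_c0 LD2_c6 LD3_c46)) = (LP (LK LD1_c0 LD2_c7 LD3_c38)) :=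
  Lgr Lrot11 (Lpr_ct (f37912 IH) (Lpn (LP (LK LD1_c0 LD2_c7 LD3_c38))))
theorem f37737 : Led Lsl_dt (LP (LK LD1_c0 LD2_c6 LD3_c45)) = (LP (LK LD1_c0 LD2_c3 LD3_c30)) :=
  Lgr Lrot44 (Lpr_af (f37730 IH) (Lpe (K0.f8141 IH) (Lpr_af (K0.f8240 IH) (Lpn (LP (LK LD1_c0 LD2_c3 LD3_c30))))))
theorem f13540 : Led Lsl_dt (LP (LK LD1_c0 LD2_c3 LD3_c55)) = (LP (LK LD1_c0 LD2_c8 LD3_c36)) :=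
  Lre_d IH (LK LD1_c0 LD2_c3 LD3_c55) (LK LD1_c0 LD2_c8 LD3_c36) Lrfl Lrfl
theorem f59511 : Led Lsl_cf (LP (LK LD1_c0 LD2_c17 LD3_c9)) = (LP (LK LD1_c0 LD2_c8 LD3_c36)) :=
  Lgr Lrot55 (Lpr_dt (K0.f23903 IH) (Lpe (f37923 IH) (Lpr_dt (f59505 IH) (Lpr_ct (K0.f22448 IH) (Lpe (f24405 IH) (Lpr_ct (K0.f23376 IH) (Lpr_dt (f23375 IH) (Lpe (f59479 IH) (Lpr_dt (K0.f22459 IH) (Lpr_ct (f37945 IH) (Lpr_dt (f37737 IH) (Lpr_ct (K0.f8176 IH) (Lpr_dt (K0.f20979 IH) (Lpr_ct (K0.f13448 IH) (Lpr_dt (f13540 IH) (Lpn (LP (LK LD1_c0 LD2_c8 LD3_c36))))))))))))))))))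
theorem f59424 : Led Lsl_ct (LP (LK LD1_c0 LD2_c37 LD3_c24)) = (LP (LK LD1_c0 LD2_c19 LD3_c8)) :=
  Lgr Lrot7 (Lpe (f56579 IH) (Lpr_gf (f59332 IH) (Lpe (K0.f20275 IH) (Lpe (K0.f20276 IH) (Lpe (K0.f13476 IH) (Lpe (f25999 IH) (Lpr_dt (K0.f25731 IH) (Lpr_gt (K0.f20963 IH) (Lpe (f20982 IH) (Lpn (LP (LK LD1_c0 LD2_c19 LD3_c8))))))))))))
theorem f20540 : Led Lsl_dt (LP (LK LD1_c0 LD2_c12 LD3_c59)) = (LP (LK LD1_c0 LD2_c29 LD3_c26)) :=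
  Lre_d IH (LK LD1_c0 LD2_c12 LD3_c59) (LK LD1_c0 LD2_c29 LD3_c26) Lrfl Lrfl
theorem f56585 : Led Lsl_gt (LP (LK LD1_c0 LD2_c29 LD3_c26)) = (LP (LK LD1_c0 LD2_c37 LD3_c24)) :=
  Lgr Lrot189 (Lpe (f20540 IH) (Lpe (f37314 IH) (Lpr_ct (f8332 IH) (Lpr_gt (f7031 IH) (Lpr_dt (f37737 IH) (Lpr_gt (K0.f20986 IH) (Lpe (K0.f25726 IH) (Lpr_ct (f56569 IH) (Lpe (f56584 IH) (Lpn (LP (LK LD1_c0 LD2_c37 LD3_c24))))))))))))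
theorem f20541 : Led Lsl_dt (LP (LK LD1_c0 LD2_c29 LD3_c26)) = (LP (LK LD1_c0 LD2_c12 LD3_c59)) :=
  Lre_d IH (LK LD1_c0 LD2_c29 LD3_c26) (LK LD1_c0 LD2_c12 LD3_c59) Lrfl Lrfl
theorem f58956 : Led Lsl_ct (LP (LK LD1_c0 LD2_c18 LD3_c9)) = (LP (LK LD1_c0 LD2_c8 LD3_c10)) :=
  Lre_c IH (LK LD1_c0 LD2_c18 LD3_c9) (LK LD1_c0 LD2_c8 LD3_c10) Lrfl Lrfl
theorem f59533 : Led Lsl_gt (LP (LK LD1_c0 LD2_c12 LD3_c59)) = (LP (LK LD1_c0 LD2_c18 LD3_c9)) :=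
  Lgr Lrot9 (Lpe (f20541 IH) (Lpr_gt (f56585 IH) (Lpr_ct (f59424 IH) (Lpr_gt (f20981 IH) (Lpe (f59511 IH) (Lpe (K0.f23915 IH) (Lpe (f37912 IH) (Lpr_gf (f59515 IH) (Lpe (f58956 IH) (Lpn (LP (LK LD1_c0 LD2_c18 LD3_c9))))))))))))
theorem f35627 : Led Lsl_bt (LP (LK LD1_c0 LD2_c25 LD3_c6)) = (LP (LK LD1_c0 LD2_c12 LD3_c31)) :=
  Lgr Lrot127 (Lpr_bf (f35616 IH) (Lpn (LP (LK LD1_c0 LD2_c12 LD3_c31))))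
theorem f36619 : Led Lsl_ct (LP (LK LD1_c0 LD2_c8 LD3_c10)) = (LP (LK LD1_c0 LD2_c18 LD3_c9)) :=
  Lre_c IH (LK LD1_c0 LD2_c8 LD3_c10) (LK LD1_c0 LD2_c18 LD3_c9) Lrfl Lrfl
theorem f59569 : Led Lsl_bt (LP (LK LD1_c0 LD2_c8 LD3_c10)) = (LP (LK LD1_c0 LD2_c18 LD3_c8)) :=
  Lre_b IH (LK LD1_c0 LD2_c8 LD3_c10) (LK LD1_c0 LD2_c18 LD3_c8) Lrfl Lrfl
theorem f59570 : Led Lsl_gf (LP (LK LD1_c0 LD2_c12 LD3_c31)) = (LP (LK LD1_c0 LD2_c18 LD3_c8)) :=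
  Lgr Lrot124 (Lpe (f35627 IH) (Lpe (f37987 IH) (Lpr_gt (f16641 IH) (Lpe (K0.f16622 IH) (Lpr_bt (f20308 IH) (Lpr_gt (K0.f6857 IH) (Lpr_ct (f20463 IH) (Lpr_gt (f59533 IH) (Lpe (f36619 IH) (Lpr_bt (f59569 IH) (Lpn (LP (LK LD1_c0 LD2_c18 LD3_c8)))))))))))))
theorem f59581 : Led Lsl_dt (LP (LK LD1_c0 LD2_c8 LD3_c9)) = (LP (LK LD1_c0 LD2_c18 LD3_c8)) :=
  Lre_d IH (LK LD1_c0 LD2_c8 LD3_c9) (LK LD1_c0 LD2_c18 LD3_c8) Lrfl Lrfl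
theorem f36602 : Led Lsl_ct (LP (LK LD1_c0 LD2_c3 LD3_c46)) = (LP (LK LD1_c0 LD2_c5 LD3_c42)) :=
  Lgr Lrot59 (Lpr_cf (f36599 IH) (Lpn (LP (LK LD1_c0 LD2_c5 LD3_c42))))
theorem f59582 : Led Lsl_gt (LP (LK LD1_c0 LD2_c5 LD3_c42)) = (LP (LK LD1_c0 LD2_c8 LD3_c9)) :=
  Lgr Lrot94 (Lpe (f36602 IH) (Lpr_gt (f24962 IH) (Lpr_dt (f24963 IH) (Lpr_gt (f37962 IH) (Lpr_dt (f35599 IH) (Lpe (K0.f35442 IH) (Lpe (f35444 IH) (Lpr_gf (f59570 IH) (Lpe (f59581 IH) (Lpn (LP (LK LD1_c0 LD2_c8 LD3_c9))))))))))))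
theorem f56588 : Led Lsl_bt (LP (LK LD1_c0 LD2_c13 LD3_c30)) = (LP (LK LD1_c0 LD2_c6 LD3_c10)) :=
  Lre_b IH (LK LD1_c0 LD2_c13 LD3_c30) (LK LD1_c0 LD2_c6 LD3_c10) Lrfl Lrfl
theorem f56589 : Led Lsl_bt (LP (LK LD1_c0 LD2_c16 LD3_c36)) = (LP (LK LD1_c0 LD2_c7 LD3_c25)) :=
  Lre_b IH (LK LD1_c0 LD2_c16 LD3_c36) (LK LD1_c0 LD2_c7 LD3_c25) Lrfl Lrfl
theorem f56590 : Led Lsl_ct (LP (LK LD1_c0 LD2_c16 LD3_c36)) = (LP (LK LD1_c0 LD2_c37 LD3_c14)) :=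
  Lre_c IH (LK LD1_c0 LD2_c16 LD3_c36) (LK LD1_c0 LD2_c37 LD3_c14) Lrfl Lrfl
theorem f56591 : Led Lsl_gf (LP (LK LD1_c0 LD2_c30 LD3_c23)) = (LP (LK LD1_c0 LD2_c37 LD3_c14)) :=
  Lgr Lrot126 (Lpe (f37968 IH) (Lpr_bt (f56588 IH) (Lpe (f37933 IH) (Lpr_ct (f56569 IH) (Lpr_gt (f20865 IH) (Lpe (f13444 IH) (Lpe (f20434 IH) (Lpr_gt (f20456 IH) (Lpe (f56589 IH) (Lpr_ct (f56590 IH) (Lpn (LP (LK LD1_c0 LD2_c37 LD3_c14)))))))))))))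
theorem f56594 : Led Lsl_ct (LP (LK LD1_c0 LD2_c37 LD3_c14)) = (LP (LK LD1_c0 LD2_c16 LD3_c36)) :=
  Lre_c IH (LK LD1_c0 LD2_c37 LD3_c14) (LK LD1_c0 LD2_c16 LD3_c36) Lrfl Lrfl
theorem f36292 : Led Lsl_dt (LP (LK LD1_c0 LD2_c8 LD3_c27)) = (LP (LK LD1_c0 LD2_c3 LD3_c51)) :=
  Lre_d IH (LK LD1_c0 LD2_c8 LD3_c27) (LK LD1_c0 LD2_c3 LD3_c51) Lrfl Lrfl
theorem f59252 : Led Lsl_gt (LP (LK LD1_c0 LD2_c16 LD3_c36)) = (LP (LK LD1_c0 LD2_c8 LD3_c27)) :=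
  Lgr Lrot94 (Lpe (f56594 IH) (Lpe (f56591 IH) (Lpr_dt (f38631 IH) (Lpr_gt (f59244 IH) (Lpr_dt (f36293 IH) (Lpe (f35548 IH) (Lpe (f28522 IH) (Lpe (f36289 IH) (Lpe (f36292 IH) (Lpn (LP (LK LD1_c0 LD2_c8 LD3_c27))))))))))))
theorem f59587 : Led Lsl_dt (LP (LK LD1_c0 LD2_c13 LD3_c10)) = (LP (LK LD1_c0 LD2_c16 LD3_c36)) :=
  Lgr Lrot136 (Lpe (K0.f9547 IH) (Lpe (K0.f35435 IH) (Lpr_ef (K0.f35447 IH) (Lpr_dt (K0.f16638 IH) (Lpr_gf (f59570 IH) (Lpe (f59581 IH) (Lpe (f59582 IH) (Lpe (f36407 IH) (Lpr_dt (f36294 IH) (Lpe (f59252 IH) (Lpn (LP (LK LD1_c0 LD2_c16 LD3_c36)))))))))))))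
theorem f59607 : Led Lsl_et (LP (LK LD1_c0 LD2_c8 LD3_c9)) = (LP (LK LD1_c0 LD2_c8 LD3_c9)) :=
  Lgr Lrot122 (Lpr_dt (f59581 IH) (Lpe (f59570 IH) (Lpe (K0.f16638 IH) (Lpe (K0.f35447 IH) (Lpr_gt (K0.f35435 IH) (Lpr_dt (f59587 IH) (Lpr_gt (f59252 IH) (Lpe (f36294 IH) (Lpr_et (f36407 IH) (Lpr_gt (f59582 IH) (Lpn (LP (LK LD1_c0 LD2_c8 LD3_c9)))))))))))))
theorem f37433 : Led Lsl_af (LP (LK LD1_c0 LD2_c12 LD3_c31)) = (LP (LK LD1_c0 LD2_c14 LD3_c44)) :=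
  Lgr Lrot0 (Lpr_at (f37428 IH) (Lpn (LP (LK LD1_c0 LD2_c14 LD3_c44))))
theorem f37726 : Led Lsl_ff (LP (LK LD1_c0 LD2_c14 LD3_c44)) = (LP (LK LD1_c0 LD2_c12 LD3_c30)) :=
  Lgr Lrot25 (Lpr_bt (f37318 IH) (Lpr_ft (f37724 IH) (Lpe (K0.f34738 IH) (Lpn (LP (LK LD1_c0 LD2_c12 LD3_c30))))))
theorem f59577 : Led Lsl_gt (LP (LK LD1_c0 LD2_c12 LD3_c30)) = (LP (LK LD1_c0 LD2_c18 LD3_c8)) :=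
  Lgr Lrot5 (Lpe (f37726 IH) (Lpe (f37433 IH) (Lpr_gf (f59570 IH) (Lpn (LP (LK LD1_c0 LD2_c18 LD3_c8))))))
theorem f34759 : Led Lsl_df (LP (LK LD1_c0 LD2_c12 LD3_c30)) = (LP (LK LD1_c0 LD2_c7 LD3_c49)) :=
  Lgr Lrot38 (Lpr_dt (K0.f34757 IH) (Lpn (LP (LK LD1_c0 LD2_c7 LD3_c49))))
theorem f59605 : Led Lsl_gt (LP (LK LD1_c0 LD2_c24 LD3_c37)) = (LP (LK LD1_c0 LD2_c16 LD3_c36)) :=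
  Lgr Lrot139 (Lpe (f28471 IH) (Lpe (f28467 IH) (Lpe (f28466 IH) (Lpr_dt (K0.f28465 IH) (Lpe (K0.f28457 IH) (Lpr_df (K0.f28474 IH) (Lpr_et (K0.f8166 IH) (Lpr_gf (K0.f27190 IH) (Lpr_ef (K0.f9547 IH) (Lpr_dt (f59587 IH) (Lpn (LP (LK LD1_c0 LD2_c16 LD3_c36)))))))))))))
theorem f16639 : Led Lsl_gt (LP (LK LD1_c0 LD2_c5 LD3_c43)) = (LP (LK LD1_c0 LD2_c2 LD3_c35)) :=
  Lre_g IH (LK LD1_c0 LD2_c5 LD3_c43) (LK LD1_c0 LD2_c2 LD3_c35) Lrfl Lrfl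
theorem f59340 : Led Lsl_ef (LP (LK LD1_c0 LD2_c5 LD3_c43)) = (LP (LK LD1_c0 LD2_c10 LD3_c58)) :=
  Lgr Lrot114 (Lpr_gt (f16639 IH) (Lpe (K0.f16626 IH) (Lpr_dt (K0.f16668 IH) (Lpr_gt (K0.f27818 IH) (Lpr_df (K0.f28474 IH) (Lpr_et (K0.f8166 IH) (Lpe (f35406 IH) (Lpe (f36326 IH) (Lpr_gt (f59254 IH) (Lpe (f28471 IH) (Lpn (LP (LK LD1_c0 LD2_c10 LD3_c58)))))))))))))
theorem f59615 : Led Lsl_gf (LP (LK LD1_c0 LD2_c5 LD3_c43)) = (LP (LK LD1_c0 LD2_c8 LD3_c9)) :=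
  Lgr Lrot141 (Lpr_ef (f59340 IH) (Lpr_dt (f28471 IH) (Lpr_gt (f59605 IH) (Lpe (f59587 IH) (Lpe (K0.f9547 IH) (Lpe (K0.f27190 IH) (Lpe (f34759 IH) (Lpr_gt (f59577 IH) (Lpe (f59581 IH) (Lpr_et (f59607 IH) (Lpn (LP (LK LD1_c0 LD2_c8 LD3_c9)))))))))))))
theorem f59584 : Led Lsl_dt (LP (LK LD1_c0 LD2_c18 LD3_c8)) = (LP (LK LD1_c0 LD2_c8 LD3_c9)) :=
  Lre_d IH (LK LD1_c0 LD2_c18 LD3_c8) (LK LD1_c0 LD2_c8 LD3_c9) Lrfl Lrfl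
theorem f3026 : Led Lsl_ct (LP (LK LD1_c0 LD2_c25 LD3_c0)) = (LP (LK LD1_c0 LD2_c11 LD3_c7)) :=
  Lre_c IH (LK LD1_c0 LD2_c25 LD3_c0) (LK LD1_c0 LD2_c11 LD3_c7) Lrfl Lrfl
theorem f29321 : Led Lsl_gt (LP (LK LD1_c0 LD2_c11 LD3_c10)) = (LP (LK LD1_c0 LD2_c5 LD3_c13)) :=
  Lre_g IH (LK LD1_c0 LD2_c11 LD3_c10) (LK LD1_c0 LD2_c5 LD3_c13) Lrfl Lrfl
theorem f59624 : Led Lsl_ct (LP (LK LD1_c0 LD2_c5 LD3_c43)) = (LP (LK LD1_c0 LD2_c11 LD3_c10)) :=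
  Lgr Lrot152 (Lpr_gf (f59615 IH) (Lpe (f59584 IH) (Lpe (f59570 IH) (Lpr_ct (f35437 IH) (Lpe (f35818 IH) (Lpr_ct (f3026 IH) (Lpe (K0.f3052 IH) (Lpr_cf (f29322 IH) (Lpe (f29321 IH) (Lpn (LP (LK LD1_c0 LD2_c11 LD3_c10))))))))))))
theorem f23305 : Led Lsl_bt (LP (LK LD1_c0 LD2_c3 LD3_c45)) = (LP (LK LD1_c0 LD2_c8 LD3_c9)) :=
  Lre_b IH (LK LD1_c0 LD2_c3 LD3_c45) (LK LD1_c0 LD2_c8 LD3_c9) Lrfl Lrfl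
theorem f59630 : Led Lsl_cf (LP (LK LD1_c0 LD2_c4 LD3_c4)) = (LP (LK LD1_c0 LD2_c3 LD3_c45)) :=
  Lgr Lrot58 (Lpe (K0.f7307 IH) (Lpe (K0.f20043 IH) (Lpr_bt (f20042 IH) (Lpe (f37089 IH) (Lpr_bf (K0.f2943 IH) (Lpr_ct (f28742 IH) (Lpe (f29321 IH) (Lpe (f59624 IH) (Lpr_gf (f59615 IH) (Lpe (f23305 IH) (Lpn (LP (LK LD1_c0 LD2_c3 LD3_c45)))))))))))))
theorem f20206 : Led Lsl_ct (LP (LK LD1_c0 LD2_c12 LD3_c56)) = (LP (LK LD1_c0 LD2_c5 LD3_c54)) :=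
  Lre_c IH (LK LD1_c0 LD2_c12 LD3_c56) (LK LD1_c0 LD2_c5 LD3_c54) Lrfl Lrfl
theorem f7120 : Led Lsl_dt (LP (LK LD1_c0 LD2_c3 LD3_c47)) = (LP (LK LD1_c0 LD2_c1 LD3_c38)) :=
  Lre_d IH (LK LD1_c0 LD2_c3 LD3_c47) (LK LD1_c0 LD2_c1 LD3_c38) Lrfl Lrfl
theorem f23012 : Led Lsl_gt (LP (LK LD1_c0 LD2_c3 LD3_c47)) = (LP (LK LD1_c0 LD2_c8 LD3_c14)) :=
  Lre_g IH (LK LD1_c0 LD2_c3 LD3_c47) (LK LD1_c0 LD2_c8 LD3_c14) Lrfl Lrfl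
theorem f23013 : Led Lsl_ct (LP (LK LD1_c0 LD2_c8 LD3_c14)) = (LP (LK LD1_c0 LD2_c18 LD3_c18)) :=
  Lre_c IH (LK LD1_c0 LD2_c8 LD3_c14) (LK LD1_c0 LD2_c18 LD3_c18) Lrfl Lrfl
theorem f59640 : Led Lsl_gf (LP (LK LD1_c0 LD2_c12 LD3_c56)) = (LP (LK LD1_c0 LD2_c18 LD3_c18)) :=
  Lgr Lrot104 (Lpr_ct (f20206 IH) (Lpe (K0.f20216 IH) (Lpe (K0.f13595 IH) (Lpe (K0.f7304 IH) (Lpr_cf (f59630 IH) (Lpe (f3833 IH) (Lpe (f7120 IH) (Lpr_gt (f23012 IH) (Lpr_ct (f23013 IH) (Lpn (LP (LK LD1_c0 LD2_c18 LD3_c18))))))))))))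
theorem f38020 : Led Lsl_bt (LP (LK LD1_c0 LD2_c8 LD3_c13)) = (LP (LK LD1_c0 LD2_c3 LD3_c47)) :=
  Lre_b IH (LK LD1_c0 LD2_c8 LD3_c13) (LK LD1_c0 LD2_c3 LD3_c47) Lrfl Lrfl
theorem f36605 : Led Lsl_ct (LP (LK LD1_c0 LD2_c8 LD3_c13)) = (LP (LK LD1_c0 LD2_c18 LD3_c15)) :=
  Lre_c IH (LK LD1_c0 LD2_c8 LD3_c13) (LK LD1_c0 LD2_c18 LD3_c15) Lrfl Lrfl
theorem f59346 : Led Lsl_et (LP (LK LD1_c0 LD2_c5 LD3_c43)) = (LP (LK LD1_c0 LD2_c10 LD3_c58)) :=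
  Lgr Lrot87 (Lpr_ef (f59340 IH) (Lpn (LP (LK LD1_c0 LD2_c10 LD3_c58))))
theorem f16640 : Led Lsl_dt (LP (LK LD1_c0 LD2_c5 LD3_c43)) = (LP (LK LD1_c0 LD2_c12 LD3_c29)) :=
  Lre_d IH (LK LD1_c0 LD2_c5 LD3_c43) (LK LD1_c0 LD2_c12 LD3_c29) Lrfl Lrfl
theorem f59351 : Led Lsl_gt (LP (LK LD1_c0 LD2_c12 LD3_c29)) = (LP (LK LD1_c0 LD2_c13 LD3_c9)) :=
  Lgr Lrot112 (Lpe (f16640 IH) (Lpr_et (f59346 IH) (Lpe (f28467 IH) (Lpe (f28466 IH) (Lpr_dt (K0.f28465 IH) (Lpe (K0.f28457 IH) (Lpr_df (K0.f28474 IH) (Lpr_gf (K0.f8255 IH) (Lpe (K0.f8262 IH) (Lpr_dt (f8263 IH) (Lpn (LP (LK LD1_c0 LD2_c13 LD3_c9)))))))))))))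
theorem f16642 : Led Lsl_dt (LP (LK LD1_c0 LD2_c12 LD3_c29)) = (LP (LK LD1_c0 LD2_c5 LD3_c43)) :=
  Lre_d IH (LK LD1_c0 LD2_c12 LD3_c29) (LK LD1_c0 LD2_c5 LD3_c43) Lrfl Lrfl
theorem f36615 : Led Lsl_ct (LP (LK LD1_c0 LD2_c18 LD3_c15)) = (LP (LK LD1_c0 LD2_c8 LD3_c13)) :=
  Lre_c IH (LK LD1_c0 LD2_c18 LD3_c15) (LK LD1_c0 LD2_c8 LD3_c13) Lrfl Lrfl
theorem f13645 : Led Lsl_ct (LP (LK LD1_c0 LD2_c13 LD3_c9)) = (LP (LK LD1_c0 LD2_c29 LD3_c50)) :=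
  Lre_c IH (LK LD1_c0 LD2_c13 LD3_c9) (LK LD1_c0 LD2_c29 LD3_c50) Lrfl Lrfl
theorem f59355 : Led Lsl_gf (LP (LK LD1_c0 LD2_c18 LD3_c15)) = (LP (LK LD1_c0 LD2_c29 LD3_c50)) :=
  Lgr Lrot104 (Lpr_ct (f36615 IH) (Lpe (f36604 IH) (Lpr_cf (f36599 IH) (Lpe (f16635 IH) (Lpe (K0.f16624 IH) (Lpe (f16639 IH) (Lpe (f16642 IH) (Lpr_gt (f59351 IH) (Lpr_ct (f13645 IH) (Lpn (LP (LK LD1_c0 LD2_c29 LD3_c50))))))))))))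
theorem f59652 : Led Lsl_bt (LP (LK LD1_c0 LD2_c5 LD3_c54)) = (LP (LK LD1_c0 LD2_c5 LD3_c54)) :=
  Lgr Lrot22 (Lpr_ct (K0.f20195 IH) (Lpr_gf (f59640 IH) (Lpe (f23013 IH) (Lpe (f23012 IH) (Lpe (f38020 IH) (Lpr_ct (f36605 IH) (Lpr_gf (f59355 IH) (Lpe (f13645 IH) (Lpr_bt (f21214 IH) (Lpe (K0.f20186 IH) (Lpn (LP (LK LD1_c0 LD2_c5 LD3_c54)))))))))))))
theorem f59651 : Led Lsl_bt (LP (LK LD1_c0 LD2_c8 LD3_c14)) = (LP (LK LD1_c0 LD2_c18 LD3_c17)) :=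
  Lre_b IH (LK LD1_c0 LD2_c8 LD3_c14) (LK LD1_c0 LD2_c18 LD3_c17) Lrfl Lrfl
theorem f36305 : Led Lsl_et (LP (LK LD1_c0 LD2_c8 LD3_c27)) = (LP (LK LD1_c0 LD2_c18 LD3_c48)) :=
  Lre_e IH (LK LD1_c0 LD2_c8 LD3_c27) (LK LD1_c0 LD2_c18 LD3_c48) Lrfl Lrfl
theorem f36418 : Led Lsl_et (LP (LK LD1_c0 LD2_c28 LD3_c14)) = (LP (LK LD1_c0 LD2_c12 LD3_c28)) :=
  Lre_e IH (LK LD1_c0 LD2_c28 LD3_c14) (LK LD1_c0 LD2_c12 LD3_c28) Lrfl Lrfl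
theorem f36419 : Led Lsl_dt (LP (LK LD1_c0 LD2_c18 LD3_c48)) = (LP (LK LD1_c0 LD2_c28 LD3_c14)) :=
  Lgr Lrot77 (Lpe (f36305 IH) (Lpe (f36294 IH) (Lpr_ef (f36414 IH) (Lpe (f35479 IH) (Lpe (f36418 IH) (Lpn (LP (LK LD1_c0 LD2_c28 LD3_c14))))))))
theorem f36432 : Led Lsl_ft (LP (LK LD1_c0 LD2_c42 LD3_c5)) = (LP (LK LD1_c0 LD2_c18 LD3_c48)) :=
  Lre_f IH (LK LD1_c0 LD2_c42 LD3_c5) (LK LD1_c0 LD2_c18 LD3_c48) Lrfl Lrfl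
theorem f36433 : Led Lsl_ft (LP (LK LD1_c0 LD2_c28 LD3_c14)) = (LP (LK LD1_c1 LD2_c1 LD3_c54)) :=
  Lre_f IH (LK LD1_c0 LD2_c28 LD3_c14) (LK LD1_c1 LD2_c1 LD3_c54) Lrfl Lrfl
theorem f36434 : Led Lsl_df (LP (LK LD1_c0 LD2_c42 LD3_c5)) = (LP (LK LD1_c1 LD2_c1 LD3_c54)) :=
  Lgr Lrot78 (Lpr_ft (f36432 IH) (Lpr_dt (f36419 IH) (Lpr_ft (f36433 IH) (Lpn (LP (LK LD1_c1 LD2_c1 LD3_c54))))))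
theorem f36470 : Led Lsl_dt (LP (LK LD1_c0 LD2_c42 LD3_c5)) = (LP (LK LD1_c1 LD2_c1 LD3_c54)) :=
  Lgr Lrot42 (Lpr_df (f36434 IH) (Lpn (LP (LK LD1_c1 LD2_c1 LD3_c54))))
theorem f25973 : Led Lsl_bt (LP (LK LD1_c0 LD2_c18 LD3_c53)) = (LP (LK LD1_c0 LD2_c42 LD3_c5)) :=
  Lre_b IH (LK LD1_c0 LD2_c18 LD3_c53) (LK LD1_c0 LD2_c42 LD3_c5) Lrfl Lrfl
theorem f7149 : Led Lsl_dt (LP (LK LD1_c0 LD2_c3 LD3_c52)) = (LP (LK LD1_c0 LD2_c1 LD3_c40)) :=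
  Lre_d IH (LK LD1_c0 LD2_c3 LD3_c52) (LK LD1_c0 LD2_c1 LD3_c40) Lrfl Lrfl
theorem f25916 : Led Lsl_et (LP (LK LD1_c0 LD2_c8 LD3_c29)) = (LP (LK LD1_c0 LD2_c3 LD3_c52)) :=
  Lre_e IH (LK LD1_c0 LD2_c8 LD3_c29) (LK LD1_c0 LD2_c3 LD3_c52) Lrfl Lrfl
theorem f25918 : Led Lsl_et (LP (LK LD1_c0 LD2_c6 LD3_c6)) = (LP (LK LD1_c0 LD2_c13 LD3_c22)) :=
  Lre_e IH (LK LD1_c0 LD2_c6 LD3_c6) (LK LD1_c0 LD2_c13 LD3_c22) Lrfl Lrfl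
theorem f25919 : Led Lsl_df (LP (LK LD1_c0 LD2_c8 LD3_c29)) = (LP (LK LD1_c0 LD2_c13 LD3_c22)) :=
  Lgr Lrot70 (Lpr_et (f25916 IH) (Lpr_dt (f7149 IH) (Lpr_et (f25771 IH) (Lpr_dt (K0.f25917 IH) (Lpr_et (f25918 IH) (Lpn (LP (LK LD1_c0 LD2_c13 LD3_c22))))))))
theorem f25932 : Led Lsl_ft (LP (LK LD1_c0 LD2_c8 LD3_c29)) = (LP (LK LD1_c0 LD2_c18 LD3_c53)) :=
  Lre_f IH (LK LD1_c0 LD2_c8 LD3_c29) (LK LD1_c0 LD2_c18 LD3_c53) Lrfl Lrfl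
theorem f25933 : Led Lsl_ft (LP (LK LD1_c0 LD2_c30 LD3_c8)) = (LP (LK LD1_c0 LD2_c13 LD3_c22)) :=
  Lre_f IH (LK LD1_c0 LD2_c30 LD3_c8) (LK LD1_c0 LD2_c13 LD3_c22) Lrfl Lrfl
theorem f25934 : Led Lsl_dt (LP (LK LD1_c0 LD2_c18 LD3_c53)) = (LP (LK LD1_c0 LD2_c30 LD3_c8)) :=
  Lgr Lrot60 (Lpe (f25932 IH) (Lpr_df (f25919 IH) (Lpe (f25933 IH) (Lpn (LP (LK LD1_c0 LD2_c30 LD3_c8))))))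
theorem f25966 : Led Lsl_df (LP (LK LD1_c0 LD2_c18 LD3_c53)) = (LP (LK LD1_c0 LD2_c30 LD3_c8)) :=
  Lgr Lrot38 (Lpr_dt (f25934 IH) (Lpn (LP (LK LD1_c0 LD2_c30 LD3_c8))))
theorem f36475 : Led Lsl_bf (LP (LK LD1_c0 LD2_c30 LD3_c8)) = (LP (LK LD1_c1 LD2_c1 LD3_c54)) :=
  Lgr Lrot93 (Lpe (f25966 IH) (Lpr_bt (f25973 IH) (Lpr_dt (f36470 IH) (Lpn (LP (LK LD1_c1 LD2_c1 LD3_c54))))))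
theorem f36483 : Led Lsl_bt (LP (LK LD1_c0 LD2_c13 LD3_c22)) = (LP (LK LD1_c0 LD2_c28 LD3_c14)) :=
  Lgr Lrot35 (Lpe (f25933 IH) (Lpr_bf (f36475 IH) (Lpe (f36433 IH) (Lpn (LP (LK LD1_c0 LD2_c28 LD3_c14))))))
theorem f36487 : Led Lsl_bf (LP (LK LD1_c0 LD2_c6 LD3_c6)) = (LP (LK LD1_c0 LD2_c12 LD3_c28)) :=
  Lgr Lrot96 (Lpr_et (f25918 IH) (Lpr_bt (f36483 IH) (Lpr_et (f36418 IH) (Lpn (LP (LK LD1_c0 LD2_c12 LD3_c28))))))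
theorem f36489 : Led Lsl_bt (LP (LK LD1_c0 LD2_c6 LD3_c6)) = (LP (LK LD1_c0 LD2_c12 LD3_c28)) :=
  Lgr Lrot127 (Lpr_bf (f36487 IH) (Lpn (LP (LK LD1_c0 LD2_c12 LD3_c28))))
theorem f59661 : Led Lsl_gf (LP (LK LD1_c0 LD2_c18 LD3_c17)) = (LP (LK LD1_c0 LD2_c12 LD3_c28)) :=
  Lgr Lrot124 (Lpe (f59651 IH) (Lpr_ct (f23013 IH) (Lpe (f59640 IH) (Lpe (K0.f20195 IH) (Lpr_bt (f59652 IH) (Lpr_gt (K0.f20186 IH) (Lpr_ct (K0.f21206 IH) (Lpe (f26017 IH) (Lpe (K0.f25997 IH) (Lpr_bt (f36489 IH) (Lpn (LP (LK LD1_c0 LD2_c12 LD3_c28)))))))))))))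
theorem f35414 : Led Lsl_ef (LP (LK LD1_c0 LD2_c17 LD3_c26)) = (LP (LK LD1_c0 LD2_c17 LD3_c26)) :=
  Lgr Lrot20 (Lpr_at (K0.f35408 IH) (Lpe (K0.f9547 IH) (Lpe (K0.f35410 IH) (Lpn (LP (LK LD1_c0 LD2_c17 LD3_c26))))))
theorem f59665 : Led Lsl_df (LP (LK LD1_c0 LD2_c18 LD3_c17)) = (LP (LK LD1_c0 LD2_c17 LD3_c26)) :=
  Lgr Lrot168 (Lpr_gf (f59661 IH) (Lpe (f16636 IH) (Lpe (f36414 IH) (Lpr_gf (f36314 IH) (Lpe (f21193 IH) (Lpr_dt (f16651 IH) (Lpr_gf (f35541 IH) (Lpr_df (f35429 IH) (Lpe (K0.f35384 IH) (Lpr_ef (f35414 IH) (Lpn (LP (LK LD1_c0 LD2_c17 LD3_c26)))))))))))))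
theorem f26742 : Led Lsl_bf (LP (LK LD1_c0 LD2_c2 LD3_c45)) = (LP (LK LD1_c0 LD2_c1 LD3_c35)) :=
  Lgr Lrot24 (Lpr_bt (K0.f26740 IH) (Lpn (LP (LK LD1_c0 LD2_c1 LD3_c35))))
theorem f35394 : Led Lsl_bf (LP (LK LD1_c0 LD2_c13 LD3_c8)) = (LP (LK LD1_c0 LD2_c6 LD3_c4)) :=
  Lgr Lrot90 (Lpr_ct (K0.f35392 IH) (Lpr_bt (K0.f27192 IH) (Lpr_ct (K0.f20610 IH) (Lpe (f26742 IH) (Lpr_ct (K0.f13639 IH) (Lpn (LP (LK LD1_c0 LD2_c6 LD3_c4))))))))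
theorem f35511 : Led Lsl_gf (LP (LK LD1_c0 LD2_c17 LD3_c26)) = (LP (LK LD1_c0 LD2_c13 LD3_c8)) :=
  Lgr Lrot181 (Lpe (K0.f35412 IH) (Lpr_gt (K0.f35384 IH) (Lpe (K0.f35509 IH) (Lpr_bt (K0.f35505 IH) (Lpr_gt (K0.f35424 IH) (Lpe (K0.f9615 IH) (Lpr_ct (K0.f13634 IH) (Lpr_gt (K0.f1471 IH) (Lpe (K0.f22448 IH) (Lpe (f35394 IH) (Lpn (LP (LK LD1_c0 LD2_c13 LD3_c8)))))))))))))
theorem f35400 : Led Lsl_ff (LP (LK LD1_c0 LD2_c13 LD3_c8)) = (LP (LK LD1_c0 LD2_c7 LD3_c49)) :=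
  Lgr Lrot23 (Lpr_ct (K0.f35392 IH) (Lpr_ft (K0.f27209 IH) (Lpe (K0.f8183 IH) (Lpn (LP (LK LD1_c0 LD2_c7 LD3_c49))))))
theorem f35433 : Led Lsl_af (LP (LK LD1_c0 LD2_c28 LD3_c19)) = (LP (LK LD1_c0 LD2_c13 LD3_c8)) :=
  Lgr Lrot31 (Lpr_gf (K0.f35431 IH) (Lpr_gf (f35406 IH) (Lpe (f35400 IH) (Lpn (LP (LK LD1_c0 LD2_c13 LD3_c8))))))
theorem f37439 : Led Lsl_df (LP (LK LD1_c0 LD2_c13 LD3_c8)) = (LP (LK LD1_c0 LD2_c14 LD3_c44)) :=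
  Lgr Lrot18 (Lpe (f35433 IH) (Lpr_dt (K0.f16638 IH) (Lpr_at (f37428 IH) (Lpn (LP (LK LD1_c0 LD2_c14 LD3_c44))))))
theorem f59672 : Led Lsl_dt (LP (LK LD1_c0 LD2_c18 LD3_c17)) = (LP (LK LD1_c0 LD2_c17 LD3_c26)) :=
  Lgr Lrot42 (Lpr_df (f59665 IH) (Lpn (LP (LK LD1_c0 LD2_c17 LD3_c26))))
theorem f59677 : Led Lsl_ft (LP (LK LD1_c0 LD2_c18 LD3_c17)) = (LP (LK LD1_c0 LD2_c18 LD3_c46)) :=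
  Lgr Lrot54 (Lpr_df (f59665 IH) (Lpr_ff (K0.f35416 IH) (Lpe (f36398 IH) (Lpn (LP (LK LD1_c0 LD2_c18 LD3_c46))))))
theorem f13643 : Led Lsl_ct (LP (LK LD1_c0 LD2_c29 LD3_c50)) = (LP (LK LD1_c0 LD2_c13 LD3_c9)) :=
  Lre_c IH (LK LD1_c0 LD2_c29 LD3_c50) (LK LD1_c0 LD2_c13 LD3_c9) Lrfl Lrfl
theorem f13644 : Led Lsl_dt (LP (LK LD1_c1 LD2_c5 LD3_c21)) = (LP (LK LD1_c0 LD2_c29 LD3_c50)) :=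
  Lre_d IH (LK LD1_c1 LD2_c5 LD3_c21) (LK LD1_c0 LD2_c29 LD3_c50) Lrfl Lrfl
theorem f37040 : Led Lsl_dt (LP (LK LD1_c0 LD2_c24 LD3_c39)) = (LP (LK LD1_c0 LD2_c54 LD3_c36)) :=
  Lre_d IH (LK LD1_c0 LD2_c24 LD3_c39) (LK LD1_c0 LD2_c54 LD3_c36) Lrfl Lrfl
theorem f35592 : Led Lsl_gf (LP (LK LD1_c1 LD2_c5 LD3_c21)) = (LP (LK LD1_c1 LD2_c55 LD3_c40)) :=
  Lgr Lrot143 (Lpr_dt (f13644 IH) (Lpe (f13645 IH) (Lpe (f8263 IH) (Lpe (K0.f35424 IH) (Lpr_df (f35574 IH) (Lpe (f28523 IH) (Lpe (f35590 IH) (Lpr_gt (f35549 IH) (Lpr_dt (f35591 IH) (Lpn (LP (LK LD1_c1 LD2_c55 LD3_c40))))))))))))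
theorem f38266 : Led Lsl_gt (LP (LK LD1_c1 LD2_c5 LD3_c21)) = (LP (LK LD1_c1 LD2_c26 LD3_c18)) :=
  Lgr Lrot46 (Lpr_gf (f35592 IH) (Lpe (f38241 IH) (Lpr_at (f38259 IH) (Lpn (LP (LK LD1_c1 LD2_c26 LD3_c18))))))
theorem f37190 : Led Lsl_gt (LP (LK LD1_c0 LD2_c18 LD3_c15)) = (LP (LK LD1_c0 LD2_c40 LD3_c44)) :=
  Lre_g IH (LK LD1_c0 LD2_c18 LD3_c15) (LK LD1_c0 LD2_c40 LD3_c44) Lrfl Lrfl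
theorem f37191 : Led Lsl_dt (LP (LK LD1_c0 LD2_c40 LD3_c44)) = (LP (LK LD1_c1 LD2_c28 LD3_c4)) :=
  Lre_d IH (LK LD1_c0 LD2_c40 LD3_c44) (LK LD1_c1 LD2_c28 LD3_c4) Lrfl Lrfl
theorem f37192 : Led Lsl_gf (LP (LK LD1_c1 LD2_c55 LD3_c40)) = (LP (LK LD1_c1 LD2_c28 LD3_c4)) :=
  Lgr Lrot143 (Lpr_dt (f35657 IH) (Lpe (f36931 IH) (Lpr_df (f36919 IH) (Lpe (K0.f27217 IH) (Lpr_df (f37164 IH) (Lpe (f21183 IH) (Lpe (f36615 IH) (Lpr_gt (f37190 IH) (Lpr_dt (f37191 IH) (Lpn (LP (LK LD1_c1 LD2_c28 LD3_c4))))))))))))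
theorem f38625 : Led Lsl_cf (LP (LK LD1_c1 LD2_c5 LD3_c21)) = (LP (LK LD1_c1 LD2_c28 LD3_c4)) :=
  Lgr Lrot166 (Lpr_gt (f38266 IH) (Lpr_dt (f34746 IH) (Lpr_gt (f37756 IH) (Lpr_dt (f37040 IH) (Lpe (f37882 IH) (Lpe (f16616 IH) (Lpr_gf (f38619 IH) (Lpe (f35657 IH) (Lpr_gf (f37192 IH) (Lpn (LP (LK LD1_c1 LD2_c28 LD3_c4))))))))))))
theorem f59679 : Led Lsl_ct (LP (LK LD1_c0 LD2_c18 LD3_c17)) = (LP (LK LD1_c0 LD2_c40 LD3_c44)) :=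
  Lgr Lrot41 (Lpr_df (f59665 IH) (Lpr_cf (K0.f35412 IH) (Lpe (f59672 IH) (Lpr_ft (f59677 IH) (Lpr_at (f36393 IH) (Lpe (f13643 IH) (Lpe (f13644 IH) (Lpr_cf (f38625 IH) (Lpe (f37191 IH) (Lpn (LP (LK LD1_c0 LD2_c40 LD3_c44))))))))))))
theorem f37204 : Led Lsl_dt (LP (LK LD1_c1 LD2_c28 LD3_c4)) = (LP (LK LD1_c0 LD2_c40 LD3_c44)) :=
  Lre_d IH (LK LD1_c1 LD2_c28 LD3_c4) (LK LD1_c0 LD2_c40 LD3_c44) Lrfl Lrfl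
theorem f16653 : Led Lsl_ct (LP (LK LD1_c0 LD2_c28 LD3_c25)) = (LP (LK LD1_c0 LD2_c12 LD3_c33)) :=
  Lre_c IH (LK LD1_c0 LD2_c28 LD3_c25) (LK LD1_c0 LD2_c12 LD3_c33) Lrfl Lrfl
theorem f59681 : Led Lsl_gf (LP (LK LD1_c1 LD2_c28 LD3_c4)) = (LP (LK LD1_c1 LD2_c26 LD3_c18)) :=
  Lgr Lrot143 (Lpr_dt (f37204 IH) (Lpe (f59679 IH) (Lpr_df (f59665 IH) (Lpr_gf (f35511 IH) (Lpr_df (f37439 IH) (Lpe (f37384 IH) (Lpe (f16653 IH) (Lpr_gt (f35533 IH) (Lpr_dt (f27221 IH) (Lpn (LP (LK LD1_c1 LD2_c26 LD3_c18))))))))))))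
theorem f59683 : Led Lsl_cf (LP (LK LD1_c0 LD2_c18 LD3_c17)) = (LP (LK LD1_c0 LD2_c40 LD3_c44)) :=
  Lgr Lrot14 (Lpr_df (f59665 IH) (Lpr_gf (f35511 IH) (Lpr_df (f37439 IH) (Lpe (f37384 IH) (Lpr_ct (f8345 IH) (Lpr_gt (f35533 IH) (Lpr_dt (f27221 IH) (Lpe (f59681 IH) (Lpr_dt (f37204 IH) (Lpn (LP (LK LD1_c0 LD2_c40 LD3_c44))))))))))))
theorem f59685 : Led Lsl_dt (LP (LK LD1_c0 LD2_c18 LD3_c14)) = (LP (LK LD1_c0 LD2_c17 LD3_c23)) :=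
  Lgr Lrot6 (Lpr_gt (f36612 IH) (Lpr_ct (f36605 IH) (Lpr_gt (f37190 IH) (Lpe (f59683 IH) (Lpr_df (f59665 IH) (Lpr_cf (K0.f35412 IH) (Lpr_gf (f35511 IH) (Lpr_cf (K0.f35396 IH) (Lpr_gf (K0.f34695 IH) (Lpn (LP (LK LD1_c0 LD2_c17 LD3_c23))))))))))))
theorem f59693 : Led Lsl_ct (LP (LK LD1_c0 LD2_c40 LD3_c43)) = (LP (LK LD1_c0 LD2_c18 LD3_c14)) :=
  Lre_c IH (LK LD1_c0 LD2_c40 LD3_c43) (LK LD1_c0 LD2_c18 LD3_c14) Lrfl Lrfl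
theorem f36308 : Led Lsl_ct (LP (LK LD1_c0 LD2_c8 LD3_c27)) = (LP (LK LD1_c0 LD2_c18 LD3_c47)) :=
  Lre_c IH (LK LD1_c0 LD2_c8 LD3_c27) (LK LD1_c0 LD2_c18 LD3_c47) Lrfl Lrfl
theorem f59701 : Led Lsl_gf (LP (LK LD1_c0 LD2_c40 LD3_c43)) = (LP (LK LD1_c0 LD2_c18 LD3_c47)) :=
  Lgr Lrot172 (Lpr_ct (f59693 IH) (Lpr_dt (f59685 IH) (Lpe (K0.f8232 IH) (Lpe (K0.f34683 IH) (Lpe (K0.f8178 IH) (Lpr_gf (K0.f27190 IH) (Lpr_dt (f59587 IH) (Lpr_gt (f59252 IH) (Lpr_ct (f36308 IH) (Lpn (LP (LK LD1_c0 LD2_c18 LD3_c47))))))))))))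
theorem f59180 : Led Lsl_ct (LP (LK LD1_c0 LD2_c18 LD3_c14)) = (LP (LK LD1_c0 LD2_c40 LD3_c43)) :=
  Lre_c IH (LK LD1_c0 LD2_c18 LD3_c14) (LK LD1_c0 LD2_c40 LD3_c43) Lrfl Lrfl
theorem f59691 : Led Lsl_bf (LP (LK LD1_c0 LD2_c18 LD3_c14)) = (LP (LK LD1_c0 LD2_c18 LD3_c14)) :=
  Lgr Lrot93 (Lpr_dt (f59685 IH) (Lpe (K0.f8266 IH) (Lpe (f36613 IH) (Lpn (LP (LK LD1_c0 LD2_c18 LD3_c14))))))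
theorem f59723 : Led Lsl_bt (LP (LK LD1_c0 LD2_c7 LD3_c25)) = (LP (LK LD1_c0 LD2_c16 LD3_c36)) :=
  Lre_b IH (LK LD1_c0 LD2_c7 LD3_c25) (LK LD1_c0 LD2_c16 LD3_c36) Lrfl Lrfl
theorem f59724 : Led Lsl_gt (LP (LK LD1_c0 LD2_c8 LD3_c15)) = (LP (LK LD1_c0 LD2_c16 LD3_c37)) :=
  Lgr Lrot65 (Lpe (f21181 IH) (Lpr_bt (f21182 IH) (Lpe (f36612 IH) (Lpr_bf (f59691 IH) (Lpr_ct (f59180 IH) (Lpr_gf (f59701 IH) (Lpe (f36308 IH) (Lpe (f59252 IH) (Lpe (f59723 IH) (Lpr_ct (f56568 IH) (Lpn (LP (LK LD1_c0 LD2_c16 LD3_c37)))))))))))))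
theorem f59812 : Led Lsl_et (LP (LK LD1_c0 LD2_c17 LD3_c18)) = (LP (LK LD1_c0 LD2_c7 LD3_c40)) :=
  Lre_e IH (LK LD1_c0 LD2_c17 LD3_c18) (LK LD1_c0 LD2_c7 LD3_c40) Lrfl Lrfl
theorem f59813 : Led Lsl_dt (LP (LK LD1_c0 LD2_c17 LD3_c18)) = (LP (LK LD1_c0 LD2_c37 LD3_c11)) :=
  Lre_d IH (LK LD1_c0 LD2_c17 LD3_c18) (LK LD1_c0 LD2_c37 LD3_c11) Lrfl Lrfl
theorem f59814 : Led Lsl_gt (LP (LK LD1_c1 LD2_c20 LD3_c30)) = (LP (LK LD1_c0 LD2_c37 LD3_c11)) :=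
  Lre_g IH (LK LD1_c1 LD2_c20 LD3_c30) (LK LD1_c0 LD2_c37 LD3_c11) Lrfl Lrfl
theorem f27145 : Led Lsl_dt (LP (LK LD1_c2 LD2_c48 LD3_c48)) = (LP (LK LD1_c1 LD2_c20 LD3_c30)) :=
  Lre_d IH (LK LD1_c2 LD2_c48 LD3_c48) (LK LD1_c1 LD2_c20 LD3_c30) Lrfl Lrfl
theorem f27142 : Led Lsl_et (LP (LK LD1_c1 LD2_c5 LD3_c10)) = (LP (LK LD1_c0 LD2_c44 LD3_c51)) :=
  Lre_e IH (LK LD1_c1 LD2_c5 LD3_c10) (LK LD1_c0 LD2_c44 LD3_c51) Lrfl Lrfl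
theorem f27143 : Led Lsl_dt (LP (LK LD1_c1 LD2_c5 LD3_c10)) = (LP (LK LD1_c2 LD2_c13 LD3_c47)) :=
  Lre_d IH (LK LD1_c1 LD2_c5 LD3_c10) (LK LD1_c2 LD2_c13 LD3_c47) Lrfl Lrfl
theorem f27144 : Led Lsl_gt (LP (LK LD1_c2 LD2_c13 LD3_c47)) = (LP (LK LD1_c1 LD2_c20 LD3_c30)) :=
  Lre_g IH (LK LD1_c2 LD2_c13 LD3_c47) (LK LD1_c1 LD2_c20 LD3_c30) Lrfl Lrfl
theorem f27146 : Led Lsl_gt (LP (LK LD1_c1 LD2_c27 LD3_c15)) = (LP (LK LD1_c2 LD2_c17 LD3_c33)) :=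
  Lre_g IH (LK LD1_c1 LD2_c27 LD3_c15) (LK LD1_c2 LD2_c17 LD3_c33) Lrfl Lrfl
theorem f27147 : Led Lsl_et (LP (LK LD1_c2 LD2_c48 LD3_c48)) = (LP (LK LD1_c1 LD2_c27 LD3_c15)) :=
  Lgr Lrot121 (Lpr_dt (f27145 IH) (Lpe (f27144 IH) (Lpe (f27143 IH) (Lpr_et (f27142 IH) (Lpe (K0.f27113 IH) (Lpe (K0.f27114 IH) (Lpr_dt (K0.f27118 IH) (Lpe (K0.f27117 IH) (Lpe (K0.f27116 IH) (Lpe (f27146 IH) (Lpn (LP (LK LD1_c1 LD2_c27 LD3_c15)))))))))))))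
theorem f59815 : Led Lsl_gt (LP (LK LD1_c0 LD2_c40 LD3_c24)) = (LP (LK LD1_c1 LD2_c27 LD3_c15)) :=
  Lre_g IH (LK LD1_c0 LD2_c40 LD3_c24) (LK LD1_c1 LD2_c27 LD3_c15) Lrfl Lrfl
theorem f59816 : Led Lsl_et (LP (LK LD1_c0 LD2_c18 LD3_c4)) = (LP (LK LD1_c0 LD2_c40 LD3_c24)) :=
  Lre_e IH (LK LD1_c0 LD2_c18 LD3_c4) (LK LD1_c0 LD2_c40 LD3_c24) Lrfl Lrfl
theorem f59817 : Led Lsl_dt (LP (LK LD1_c0 LD2_c18 LD3_c4)) = (LP (LK LD1_c0 LD2_c16 LD3_c37)) :=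
  Lgr Lrot56 (Lpr_et (f59816 IH) (Lpr_gt (f59815 IH) (Lpe (f27147 IH) (Lpr_dt (f27145 IH) (Lpr_gt (f59814 IH) (Lpe (f59813 IH) (Lpr_et (f59812 IH) (Lpr_gt (f24614 IH) (Lpe (f37931 IH) (Lpr_gt (f59724 IH) (Lpn (LP (LK LD1_c0 LD2_c16 LD3_c37)))))))))))))
theorem f59880 : Led Lsl_ff (LP (LK LD1_c0 LD2_c13 LD3_c16)) = (LP (LK LD1_c0 LD2_c16 LD3_c37)) :=
  Lgr Lrot19 (Lpr_dt (f20073 IH) (Lpr_ft (K0.f23904 IH) (Lpr_dt (f59817 IH) (Lpn (LP (LK LD1_c0 LD2_c16 LD3_c37))))))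
theorem f59910 : Led Lsl_ft (LP (LK LD1_c0 LD2_c13 LD3_c16)) = (LP (LK LD1_c0 LD2_c16 LD3_c37)) :=
  Lgr Lrot48 (Lpr_ff (f59880 IH) (Lpn (LP (LK LD1_c0 LD2_c16 LD3_c37))))
theorem f26782 : Led Lsl_et (LP (LK LD1_c0 LD2_c29 LD3_c55)) = (LP (LK LD1_c0 LD2_c13 LD3_c16)) :=
  Lre_e IH (LK LD1_c0 LD2_c29 LD3_c55) (LK LD1_c0 LD2_c13 LD3_c16) Lrfl Lrfl
theorem f59916 : Led Lsl_ft (LP (LK LD1_c1 LD2_c5 LD3_c25)) = (LP (LK LD1_c0 LD2_c29 LD3_c55)) :=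
  Lre_f IH (LK LD1_c1 LD2_c5 LD3_c25) (LK LD1_c0 LD2_c29 LD3_c55) Lrfl Lrfl
theorem f59877 : Led Lsl_et (LP (LK LD1_c0 LD2_c16 LD3_c37)) = (LP (LK LD1_c0 LD2_c37 LD3_c17)) :=
  Lre_e IH (LK LD1_c0 LD2_c16 LD3_c37) (LK LD1_c0 LD2_c37 LD3_c17) Lrfl Lrfl
theorem f59917 : Led Lsl_ft (LP (LK LD1_c0 LD2_c37 LD3_c17)) = (LP (LK LD1_c1 LD2_c20 LD3_c47)) :=
  Lre_f IH (LK LD1_c0 LD2_c37 LD3_c17) (LK LD1_c1 LD2_c20 LD3_c47) Lrfl Lrfl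
theorem f59918 : Led Lsl_ef (LP (LK LD1_c1 LD2_c5 LD3_c25)) = (LP (LK LD1_c1 LD2_c20 LD3_c47)) :=
  Lgr Lrot21 (Lpr_ft (f59916 IH) (Lpr_et (f26782 IH) (Lpr_ft (f59910 IH) (Lpr_et (f59877 IH) (Lpr_ft (f59917 IH) (Lpn (LP (LK LD1_c1 LD2_c20 LD3_c47))))))))
theorem f9065 : Led Lsl_dt (LP (LK LD1_c1 LD2_c5 LD3_c25)) = (LP (LK LD1_c2 LD2_c16 LD3_c60)) :=
  Lre_d IH (LK LD1_c1 LD2_c5 LD3_c25) (LK LD1_c2 LD2_c16 LD3_c60) Lrfl Lrfl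
theorem f59930 : Led Lsl_et (LP (LK LD1_c2 LD2_c16 LD3_c60)) = (LP (LK LD1_c4 LD2_c39 LD3_c55)) :=
  Lre_e IH (LK LD1_c2 LD2_c16 LD3_c60) (LK LD1_c4 LD2_c39 LD3_c55) Lrfl Lrfl
theorem f59931 : Led Lsl_dt (LP (LK LD1_c2 LD2_c49 LD3_c16)) = (LP (LK LD1_c1 LD2_c20 LD3_c47)) :=
  Lre_d IH (LK LD1_c2 LD2_c49 LD3_c16) (LK LD1_c1 LD2_c20 LD3_c47) Lrfl Lrfl
theorem f59932 : Led Lsl_et (LP (LK LD1_c5 LD2_c46 LD3_c60)) = (LP (LK LD1_c2 LD2_c49 LD3_c16)) :=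
  Lre_e IH (LK LD1_c5 LD2_c46 LD3_c60) (LK LD1_c2 LD2_c49 LD3_c16) Lrfl Lrfl
theorem f59933 : Led Lsl_dt (LP (LK LD1_c4 LD2_c39 LD3_c55)) = (LP (LK LD1_c5 LD2_c46 LD3_c60)) :=
  Lgr Lrot77 (Lpe (f59930 IH) (Lpe (f9065 IH) (Lpr_ef (f59918 IH) (Lpe (f59931 IH) (Lpe (f59932 IH) (Lpn (LP (LK LD1_c5 LD2_c46 LD3_c60))))))))
theorem f59941 : Led Lsl_ft (LP (LK LD1_c9 LD2_c15 LD3_c19)) = (LP (LK LD1_c4 LD2_c39 LD3_c55)) :=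
  Lre_f IH (LK LD1_c9 LD2_c15 LD3_c19) (LK LD1_c4 LD2_c39 LD3_c55) Lrfl Lrfl
theorem f59942 : Led Lsl_ff (LP (LK LD1_c6 LD2_c12 LD3_c17)) = (LP (LK LD1_c5 LD2_c46 LD3_c60)) :=
  Lgr Lrot19 (Lpr_dt (K0.f9245 IH) (Lpr_ft (f59941 IH) (Lpr_dt (f59933 IH) (Lpn (LP (LK LD1_c5 LD2_c46 LD3_c60))))))
theorem f59964 : Led Lsl_ft (LP (LK LD1_c6 LD2_c12 LD3_c17)) = (LP (LK LD1_c5 LD2_c46 LD3_c60)) :=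
  Lgr Lrot48 (Lpr_ff (f59942 IH) (Lpn (LP (LK LD1_c5 LD2_c46 LD3_c60))))
theorem f59936 : Led Lsl_ct (LP (LK LD1_c5 LD2_c46 LD3_c60)) = (LP (LK LD1_c11 LD2_c24 LD3_c8)) :=
  Lre_c IH (LK LD1_c5 LD2_c46 LD3_c60) (LK LD1_c11 LD2_c24 LD3_c8) Lrfl Lrfl
theorem f59975 : Led Lsl_ff (LP (LK LD1_c9 LD2_c31 LD3_c59)) = (LP (LK LD1_c11 LD2_c24 LD3_c8)) :=
  Lgr Lrot23 (Lpr_ct (K0.f9246 IH) (Lpr_ft (f59964 IH) (Lpr_ct (f59936 IH) (Lpn (LP (LK LD1_c11 LD2_c24 LD3_c8))))))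
theorem f59985 : Led Lsl_et (LP (LK LD1_c9 LD2_c31 LD3_c59)) = (LP (LK LD1_c4 LD2_c49 LD3_c39)) :=
  Lre_e IH (LK LD1_c9 LD2_c31 LD3_c59) (LK LD1_c4 LD2_c49 LD3_c39) Lrfl Lrfl
theorem f59986 : Led Lsl_ft (LP (LK LD1_c4 LD2_c49 LD3_c39)) = (LP (LK LD1_c3 LD2_c2 LD3_c41)) :=
  Lre_f IH (LK LD1_c4 LD2_c49 LD3_c39) (LK LD1_c3 LD2_c2 LD3_c41) Lrfl Lrfl
theorem f59987 : Led Lsl_et (LP (LK LD1_c5 LD2_c46 LD3_c59)) = (LP (LK LD1_c11 LD2_c24 LD3_c8)) :=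
  Lre_e IH (LK LD1_c5 LD2_c46 LD3_c59) (LK LD1_c11 LD2_c24 LD3_c8) Lrfl Lrfl
theorem f59988 : Led Lsl_ft (LP (LK LD1_c2 LD2_c49 LD3_c15)) = (LP (LK LD1_c5 LD2_c46 LD3_c59)) :=
  Lre_f IH (LK LD1_c2 LD2_c49 LD3_c15) (LK LD1_c5 LD2_c46 LD3_c59) Lrfl Lrfl
theorem f59989 : Led Lsl_et (LP (LK LD1_c3 LD2_c2 LD3_c41)) = (LP (LK LD1_c2 LD2_c49 LD3_c15)) :=
  Lgr Lrot69 (Lpe (f59986 IH) (Lpe (f59985 IH) (Lpr_ff (f59975 IH) (Lpe (f59987 IH) (Lpe (f59988 IH) (Lpn (LP (LK LD1_c2 LD2_c49 LD3_c15))))))))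
theorem f60004 : Led Lsl_ef (LP (LK LD1_c3 LD2_c2 LD3_c41)) = (LP (LK LD1_c2 LD2_c49 LD3_c15)) :=
  Lgr Lrot88 (Lpr_et (f59989 IH) (Lpn (LP (LK LD1_c2 LD2_c49 LD3_c15))))
theorem f60012 : Led Lsl_bt (LP (LK LD1_c3 LD2_c2 LD3_c41)) = (LP (LK LD1_c6 LD2_c12 LD3_c16)) :=
  Lre_b IH (LK LD1_c3 LD2_c2 LD3_c41) (LK LD1_c6 LD2_c12 LD3_c16) Lrfl Lrfl
theorem f60013 : Led Lsl_bt (LP (LK LD1_c5 LD2_c46 LD3_c58)) = (LP (LK LD1_c2 LD2_c49 LD3_c15)) :=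
  Lre_b IH (LK LD1_c5 LD2_c46 LD3_c58) (LK LD1_c2 LD2_c49 LD3_c15) Lrfl Lrfl
theorem f60014 : Led Lsl_et (LP (LK LD1_c6 LD2_c12 LD3_c16)) = (LP (LK LD1_c5 LD2_c46 LD3_c58)) :=
  Lgr Lrot74 (Lpe (f60012 IH) (Lpr_ef (f60004 IH) (Lpe (f60013 IH) (Lpn (LP (LK LD1_c5 LD2_c46 LD3_c58))))))
theorem f60033 : Led Lsl_ft (LP (LK LD1_c9 LD2_c31 LD3_c57)) = (LP (LK LD1_c6 LD2_c12 LD3_c16)) :=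
  Lre_f IH (LK LD1_c9 LD2_c31 LD3_c57) (LK LD1_c6 LD2_c12 LD3_c16) Lrfl Lrfl
theorem f60034 : Led Lsl_et (LP (LK LD1_c17 LD2_c34 LD3_c2)) = (LP (LK LD1_c9 LD2_c31 LD3_c57)) :=
  Lre_e IH (LK LD1_c17 LD2_c34 LD3_c2) (LK LD1_c9 LD2_c31 LD3_c57) Lrfl Lrfl
theorem f60035 : Led Lsl_ft (LP (LK LD1_c5 LD2_c46 LD3_c58)) = (LP (LK LD1_c11 LD2_c24 LD3_c7)) :=
  Lre_f IH (LK LD1_c5 LD2_c46 LD3_c58) (LK LD1_c11 LD2_c24 LD3_c7) Lrfl Lrfl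
theorem f60036 : Led Lsl_et (LP (LK LD1_c11 LD2_c24 LD3_c7)) = (LP (LK LD1_c20 LD2_c21 LD3_c59)) :=
  Lre_e IH (LK LD1_c11 LD2_c24 LD3_c7) (LK LD1_c20 LD2_c21 LD3_c59) Lrfl Lrfl
theorem f60037 : Led Lsl_ff (LP (LK LD1_c17 LD2_c34 LD3_c2)) = (LP (LK LD1_c20 LD2_c21 LD3_c59)) :=
  Lgr Lrot72 (Lpr_et (f60034 IH) (Lpr_ft (f60033 IH) (Lpr_et (f60014 IH) (Lpr_ft (f60035 IH) (Lpr_et (f60036 IH) (Lpn (LP (LK LD1_c20 LD2_c21 LD3_c59))))))))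
theorem f60045 : Led Lsl_dt (LP (LK LD1_c17 LD2_c34 LD3_c2)) = (LP (LK LD1_c11 LD2_c51 LD3_c40)) :=
  Lre_d IH (LK LD1_c17 LD2_c34 LD3_c2) (LK LD1_c11 LD2_c51 LD3_c40) Lrfl Lrfl
theorem f9305 : Led Lsl_bt (LP (LK LD1_c12 LD2_c56 LD3_c15)) = (LP (LK LD1_c6 LD2_c46 LD3_c14)) :=
  Lre_b IH (LK LD1_c12 LD2_c56 LD3_c15) (LK LD1_c6 LD2_c46 LD3_c14) Lrfl Lrfl
theorem f9306 : Led Lsl_bt (LP (LK LD1_c6 LD2_c4 LD3_c1)) = (LP (LK LD1_c11 LD2_c51 LD3_c40)) :=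
  Lre_b IH (LK LD1_c6 LD2_c4 LD3_c1) (LK LD1_c11 LD2_c51 LD3_c40) Lrfl Lrfl
theorem f9307 : Led Lsl_ff (LP (LK LD1_c12 LD2_c56 LD3_c15)) = (LP (LK LD1_c11 LD2_c51 LD3_c40)) :=
  Lgr Lrot25 (Lpr_bt (f9305 IH) (Lpr_ft (K0.f9287 IH) (Lpr_bt (f9306 IH) (Lpn (LP (LK LD1_c11 LD2_c51 LD3_c40))))))
theorem f60046 : Led Lsl_dt (LP (LK LD1_c12 LD2_c56 LD3_c15)) = (LP (LK LD1_c20 LD2_c21 LD3_c59)) :=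
  Lgr Lrot60 (Lpr_ff (f9307 IH) (Lpe (f60045 IH) (Lpr_ff (f60037 IH) (Lpn (LP (LK LD1_c20 LD2_c21 LD3_c59))))))
theorem f60054 : Led Lsl_et (LP (LK LD1_c6 LD2_c46 LD3_c12)) = (LP (LK LD1_c12 LD2_c56 LD3_c15)) :=
  Lre_e IH (LK LD1_c6 LD2_c46 LD3_c12) (LK LD1_c12 LD2_c56 LD3_c15) Lrfl Lrfl
theorem f60055 : Led Lsl_dt (LP (LK LD1_c9 LD2_c17 LD3_c29)) = (LP (LK LD1_c6 LD2_c46 LD3_c12)) :=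
  Lre_d IH (LK LD1_c9 LD2_c17 LD3_c29) (LK LD1_c6 LD2_c46 LD3_c12) Lrfl Lrfl
theorem f60056 : Led Lsl_et (LP (LK LD1_c6 LD2_c9 LD3_c8)) = (LP (LK LD1_c9 LD2_c17 LD3_c29)) :=
  Lre_e IH (LK LD1_c6 LD2_c9 LD3_c8) (LK LD1_c9 LD2_c17 LD3_c29) Lrfl Lrfl
theorem f60057 : Led Lsl_et (LP (LK LD1_c20 LD2_c21 LD3_c59)) = (LP (LK LD1_c11 LD2_c24 LD3_c7)) :=
  Lre_e IH (LK LD1_c20 LD2_c21 LD3_c59) (LK LD1_c11 LD2_c24 LD3_c7) Lrfl Lrfl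
theorem f60058 : Led Lsl_df (LP (LK LD1_c6 LD2_c9 LD3_c8)) = (LP (LK LD1_c11 LD2_c24 LD3_c7)) :=
  Lgr Lrot70 (Lpr_et (f60056 IH) (Lpr_dt (f60055 IH) (Lpr_et (f60054 IH) (Lpr_dt (f60046 IH) (Lpr_et (f60057 IH) (Lpn (LP (LK LD1_c11 LD2_c24 LD3_c7))))))))
theorem f60076 : Led Lsl_dt (LP (LK LD1_c6 LD2_c9 LD3_c8)) = (LP (LK LD1_c11 LD2_c24 LD3_c7)) :=
  Lgr Lrot42 (Lpr_df (f60058 IH) (Lpn (LP (LK LD1_c11 LD2_c24 LD3_c7))))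
theorem f26955 : Led Lsl_bt (LP (LK LD1_c3 LD2_c0 LD3_c57)) = (LP (LK LD1_c6 LD2_c9 LD3_c8)) :=
  Lre_b IH (LK LD1_c3 LD2_c0 LD3_c57) (LK LD1_c6 LD2_c9 LD3_c8) Lrfl Lrfl
theorem f60089 : Led Lsl_bt (LP (LK LD1_c11 LD2_c24 LD3_c7)) = (LP (LK LD1_c5 LD2_c46 LD3_c59)) :=
  Lre_b IH (LK LD1_c11 LD2_c24 LD3_c7) (LK LD1_c5 LD2_c46 LD3_c59) Lrfl Lrfl
theorem f60090 : Led Lsl_df (LP (LK LD1_c3 LD2_c0 LD3_c57)) = (LP (LK LD1_c5 LD2_c46 LD3_c59)) :=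
  Lgr Lrot12 (Lpr_bt (f26955 IH) (Lpr_dt (f60076 IH) (Lpr_bt (f60089 IH) (Lpn (LP (LK LD1_c5 LD2_c46 LD3_c59))))))
theorem f9525 : Led Lsl_ct (LP (LK LD1_c3 LD2_c0 LD3_c57)) = (LP (LK LD1_c1 LD2_c26 LD3_c16)) :=
  Lre_c IH (LK LD1_c3 LD2_c0 LD3_c57) (LK LD1_c1 LD2_c26 LD3_c16) Lrfl Lrfl
theorem f9524 : Led Lsl_dt (LP (LK LD1_c1 LD2_c26 LD3_c16)) = (LP (LK LD1_c0 LD2_c39 LD3_c50)) :=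
  Lre_d IH (LK LD1_c1 LD2_c26 LD3_c16) (LK LD1_c0 LD2_c39 LD3_c50) Lrfl Lrfl
theorem f9523 : Led Lsl_ct (LP (LK LD1_c0 LD2_c39 LD3_c50)) = (LP (LK LD1_c0 LD2_c17 LD3_c52)) :=
  Lre_c IH (LK LD1_c0 LD2_c39 LD3_c50) (LK LD1_c0 LD2_c17 LD3_c52) Lrfl Lrfl
theorem f9526 : Led Lsl_ct (LP (LK LD1_c0 LD2_c17 LD3_c52)) = (LP (LK LD1_c0 LD2_c39 LD3_c50)) :=
  Lre_c IH (LK LD1_c0 LD2_c17 LD3_c52) (LK LD1_c0 LD2_c39 LD3_c50) Lrfl Lrfl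
theorem f60100 : Led Lsl_ct (LP (LK LD1_c2 LD2_c49 LD3_c16)) = (LP (LK LD1_c5 LD2_c46 LD3_c59)) :=
  Lre_c IH (LK LD1_c2 LD2_c49 LD3_c16) (LK LD1_c5 LD2_c46 LD3_c59) Lrfl Lrfl
theorem f59935 : Led Lsl_dt (LP (LK LD1_c1 LD2_c20 LD3_c47)) = (LP (LK LD1_c2 LD2_c49 LD3_c16)) :=
  Lre_d IH (LK LD1_c1 LD2_c20 LD3_c47) (LK LD1_c2 LD2_c49 LD3_c16) Lrfl Lrfl
theorem f59907 : Led Lsl_ft (LP (LK LD1_c1 LD2_c20 LD3_c47)) = (LP (LK LD1_c0 LD2_c37 LD3_c17)) :=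
  Lre_f IH (LK LD1_c1 LD2_c20 LD3_c47) (LK LD1_c0 LD2_c37 LD3_c17) Lrfl Lrfl
theorem f60108 : Led Lsl_af (LP (LK LD1_c0 LD2_c39 LD3_c50)) = (LP (LK LD1_c0 LD2_c37 LD3_c17)) :=
  Lgr Lrot109 (Lpe (f9526 IH) (Lpe (K0.f9519 IH) (Lpe (f9523 IH) (Lpe (f9524 IH) (Lpe (f9525 IH) (Lpr_df (f60090 IH) (Lpe (f60100 IH) (Lpe (f59935 IH) (Lpr_ft (f59907 IH) (Lpn (LP (LK LD1_c0 LD2_c37 LD3_c17))))))))))))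
theorem f60119 : Led Lsl_ct (LP (LK LD1_c0 LD2_c16 LD3_c38)) = (LP (LK LD1_c0 LD2_c37 LD3_c17)) :=
  Lre_c IH (LK LD1_c0 LD2_c16 LD3_c38) (LK LD1_c0 LD2_c37 LD3_c17) Lrfl Lrfl
theorem f60120 : Led Lsl_at (LP (LK LD1_c0 LD2_c17 LD3_c52)) = (LP (LK LD1_c0 LD2_c16 LD3_c38)) :=
  Lgr Lrot107 (Lpe (f9523 IH) (Lpr_af (f60108 IH) (Lpe (f60119 IH) (Lpn (LP (LK LD1_c0 LD2_c16 LD3_c38))))))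
theorem f60148 : Led Lsl_ft (LP (LK LD1_c0 LD2_c16 LD3_c38)) = (LP (LK LD1_c0 LD2_c37 LD3_c19)) :=
  Lre_f IH (LK LD1_c0 LD2_c16 LD3_c38) (LK LD1_c0 LD2_c37 LD3_c19) Lrfl Lrfl
theorem f60149 : Led Lsl_af (LP (LK LD1_c0 LD2_c39 LD3_c43)) = (LP (LK LD1_c0 LD2_c37 LD3_c19)) :=
  Lgr Lrot45 (Lpr_ft (K0.f9517 IH) (Lpr_at (f60120 IH) (Lpr_ft (f60148 IH) (Lpn (LP (LK LD1_c0 LD2_c37 LD3_c19))))))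
theorem f60183 : Led Lsl_at (LP (LK LD1_c0 LD2_c39 LD3_c43)) = (LP (LK LD1_c0 LD2_c37 LD3_c19)) :=
  Lgr Lrot100 (Lpr_af (f60149 IH) (Lpn (LP (LK LD1_c0 LD2_c37 LD3_c19))))
theorem f22393 : Led Lsl_at (LP (LK LD1_c0 LD2_c29 LD3_c56)) = (LP (LK LD1_c0 LD2_c17 LD3_c48)) :=
  Lre_a IH (LK LD1_c0 LD2_c29 LD3_c56) (LK LD1_c0 LD2_c17 LD3_c48) Lrfl Lrfl
theorem f60195 : Led Lsl_ef (LP (LK LD1_c0 LD2_c29 LD3_c56)) = (LP (LK LD1_c0 LD2_c37 LD3_c19)) :=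
  Lgr Lrot20 (Lpr_at (f22393 IH) (Lpr_et (K0.f9508 IH) (Lpr_at (f60183 IH) (Lpn (LP (LK LD1_c0 LD2_c37 LD3_c19))))))
theorem f27854 : Led Lsl_dt (LP (LK LD1_c0 LD2_c59 LD3_c5)) = (LP (LK LD1_c0 LD2_c26 LD3_c55)) :=
  Lre_d IH (LK LD1_c0 LD2_c59 LD3_c5) (LK LD1_c0 LD2_c26 LD3_c55) Lrfl Lrfl
theorem f9067 : Led Lsl_dt (LP (LK LD1_c0 LD2_c13 LD3_c14)) = (LP (LK LD1_c0 LD2_c29 LD3_c56)) :=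
  Lre_d IH (LK LD1_c0 LD2_c13 LD3_c14) (LK LD1_c0 LD2_c29 LD3_c56) Lrfl Lrfl
theorem f45988 : Led Lsl_bf (LP (LK LD1_c0 LD2_c59 LD3_c5)) = (LP (LK LD1_c0 LD2_c29 LD3_c56)) :=
  Lgr Lrot93 (Lpr_dt (f27854 IH) (Lpr_bt (f45814 IH) (Lpr_dt (f9067 IH) (Lpn (LP (LK LD1_c0 LD2_c29 LD3_c56))))))
theorem f60185 : Led Lsl_bt (LP (LK LD1_c1 LD2_c20 LD3_c39)) = (LP (LK LD1_c0 LD2_c37 LD3_c19)) :=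
  Lre_b IH (LK LD1_c1 LD2_c20 LD3_c39) (LK LD1_c0 LD2_c37 LD3_c19) Lrfl Lrfl
theorem f60218 : Led Lsl_et (LP (LK LD1_c0 LD2_c59 LD3_c5)) = (LP (LK LD1_c1 LD2_c20 LD3_c39)) :=
  Lgr Lrot74 (Lpr_bf (f45988 IH) (Lpr_ef (f60195 IH) (Lpe (f60185 IH) (Lpn (LP (LK LD1_c1 LD2_c20 LD3_c39))))))
theorem f60222 : Led Lsl_ef (LP (LK LD1_c0 LD2_c59 LD3_c5)) = (LP (LK LD1_c1 LD2_c20 LD3_c39)) :=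
  Lgr Lrot88 (Lpr_et (f60218 IH) (Lpn (LP (LK LD1_c1 LD2_c20 LD3_c39))))
theorem f36395 : Led Lsl_bt (LP (LK LD1_c0 LD2_c18 LD3_c46)) = (LP (LK LD1_c0 LD2_c13 LD3_c20)) :=
  Lgr Lrot95 (Lpr_df (f36326 IH) (Lpe (K0.f9603 IH) (Lpr_df (f26760 IH) (Lpn (LP (LK LD1_c0 LD2_c13 LD3_c20))))))
theorem f22460 : Led Lsl_bt (LP (LK LD1_c0 LD2_c6 LD3_c2)) = (LP (LK LD1_c0 LD2_c13 LD3_c9)) :=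
  Lre_b IH (LK LD1_c0 LD2_c6 LD3_c2) (LK LD1_c0 LD2_c13 LD3_c9) Lrfl Lrfl
theorem f56052 : Led Lsl_af (LP (LK LD1_c0 LD2_c18 LD3_c46)) = (LP (LK LD1_c0 LD2_c13 LD3_c9)) :=
  Lgr Lrot36 (Lpr_bt (f36395 IH) (Lpr_at (f56037 IH) (Lpr_bt (f20205 IH) (Lpr_at (K0.f20185 IH) (Lpr_bt (f22460 IH) (Lpn (LP (LK LD1_c0 LD2_c13 LD3_c9))))))))
theorem f36401 : Led Lsl_et (LP (LK LD1_c0 LD2_c18 LD3_c46)) = (LP (LK LD1_c0 LD2_c25 LD3_c41)) :=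
  Lgr Lrot71 (Lpr_df (f36326 IH) (Lpe (K0.f9567 IH) (Lpr_df (K0.f27276 IH) (Lpe (f28181 IH) (Lpe (f36400 IH) (Lpn (LP (LK LD1_c0 LD2_c25 LD3_c41))))))))
theorem f46618 : Led Lsl_at (LP (LK LD1_c0 LD2_c25 LD3_c41)) = (LP (LK LD1_c0 LD2_c26 LD3_c54)) :=
  Lgr Lrot107 (Lpe (f46617 IH) (Lpr_af (f46604 IH) (Lpe (f27836 IH) (Lpn (LP (LK LD1_c0 LD2_c26 LD3_c54))))))
theorem f56056 : Led Lsl_et (LP (LK LD1_c0 LD2_c26 LD3_c54)) = (LP (LK LD1_c0 LD2_c13 LD3_c9)) :=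
  Lgr Lrot123 (Lpe (f46618 IH) (Lpe (f36401 IH) (Lpr_af (f56052 IH) (Lpn (LP (LK LD1_c0 LD2_c13 LD3_c9))))))
theorem f60229 : Led Lsl_ft (LP (LK LD1_c0 LD2_c37 LD3_c15)) = (LP (LK LD1_c1 LD2_c20 LD3_c39)) :=
  Lre_f IH (LK LD1_c0 LD2_c37 LD3_c15) (LK LD1_c1 LD2_c20 LD3_c39) Lrfl Lrfl
theorem f59594 : Led Lsl_et (LP (LK LD1_c0 LD2_c16 LD3_c36)) = (LP (LK LD1_c0 LD2_c37 LD3_c15)) :=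
  Lre_e IH (LK LD1_c0 LD2_c16 LD3_c36) (LK LD1_c0 LD2_c37 LD3_c15) Lrfl Lrfl
theorem f60230 : Led Lsl_ft (LP (LK LD1_c0 LD2_c13 LD3_c9)) = (LP (LK LD1_c0 LD2_c16 LD3_c36)) :=
  Lgr Lrot86 (Lpe (f56056 IH) (Lpe (f27859 IH) (Lpr_ef (f60222 IH) (Lpe (f60229 IH) (Lpe (f59594 IH) (Lpn (LP (LK LD1_c0 LD2_c16 LD3_c36))))))))
theorem f60234 : Led Lsl_ff (LP (LK LD1_c0 LD2_c29 LD3_c50)) = (LP (LK LD1_c0 LD2_c37 LD3_c14)) :=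
  Lgr Lrot23 (Lpr_ct (f13643 IH) (Lpr_ft (f60230 IH) (Lpr_ct (f56590 IH) (Lpn (LP (LK LD1_c0 LD2_c37 LD3_c14))))))
theorem f60243 : Led Lsl_ft (LP (LK LD1_c0 LD2_c29 LD3_c50)) = (LP (LK LD1_c0 LD2_c37 LD3_c14)) :=
  Lgr Lrot48 (Lpr_ff (f60234 IH) (Lpn (LP (LK LD1_c0 LD2_c37 LD3_c14))))
theorem f56183 : Led Lsl_bt (LP (LK LD1_c1 LD2_c5 LD3_c20)) = (LP (LK LD1_c0 LD2_c29 LD3_c50)) :=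
  Lre_b IH (LK LD1_c1 LD2_c5 LD3_c20) (LK LD1_c0 LD2_c29 LD3_c50) Lrfl Lrfl
theorem f59603 : Led Lsl_bt (LP (LK LD1_c0 LD2_c37 LD3_c14)) = (LP (LK LD1_c1 LD2_c20 LD3_c34)) :=
  Lre_b IH (LK LD1_c0 LD2_c37 LD3_c14) (LK LD1_c1 LD2_c20 LD3_c34) Lrfl Lrfl
theorem f60247 : Led Lsl_ff (LP (LK LD1_c1 LD2_c5 LD3_c20)) = (LP (LK LD1_c1 LD2_c20 LD3_c34)) :=
  Lgr Lrot25 (Lpr_bt (f56183 IH) (Lpr_ft (f60243 IH) (Lpr_bt (f59603 IH) (Lpn (LP (LK LD1_c1 LD2_c20 LD3_c34))))))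
theorem f56062 : Led Lsl_ef (LP (LK LD1_c0 LD2_c26 LD3_c54)) = (LP (LK LD1_c0 LD2_c13 LD3_c9)) :=
  Lgr Lrot88 (Lpr_et (f56056 IH) (Lpn (LP (LK LD1_c0 LD2_c13 LD3_c9))))
theorem f56068 : Led Lsl_et (LP (LK LD1_c0 LD2_c59 LD3_c4)) = (LP (LK LD1_c0 LD2_c29 LD3_c50)) :=
  Lgr Lrot158 (Lpe (f27836 IH) (Lpr_ef (f56062 IH) (Lpe (f13643 IH) (Lpn (LP (LK LD1_c0 LD2_c29 LD3_c50))))))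
theorem f46613 : Led Lsl_bt (LP (LK LD1_c2 LD2_c4 LD3_c5)) = (LP (LK LD1_c0 LD2_c59 LD3_c4)) :=
  Lre_b IH (LK LD1_c2 LD2_c4 LD3_c5) (LK LD1_c0 LD2_c59 LD3_c4) Lrfl Lrfl
theorem f35426 : Led Lsl_bt (LP (LK LD1_c0 LD2_c29 LD3_c50)) = (LP (LK LD1_c1 LD2_c5 LD3_c20)) :=
  Lre_b IH (LK LD1_c0 LD2_c29 LD3_c50) (LK LD1_c1 LD2_c5 LD3_c20) Lrfl Lrfl
theorem f56079 : Led Lsl_ef (LP (LK LD1_c2 LD2_c4 LD3_c5)) = (LP (LK LD1_c1 LD2_c5 LD3_c20)) :=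
  Lgr Lrot29 (Lpr_bt (f46613 IH) (Lpr_et (f56068 IH) (Lpr_bt (f35426 IH) (Lpn (LP (LK LD1_c1 LD2_c5 LD3_c20))))))
theorem f56202 : Led Lsl_ft (LP (LK LD1_c2 LD2_c4 LD3_c5)) = (LP (LK LD1_c4 LD2_c13 LD3_c32)) :=
  Lre_f IH (LK LD1_c2 LD2_c4 LD3_c5) (LK LD1_c4 LD2_c13 LD3_c32) Lrfl Lrfl
theorem f60257 : Led Lsl_et (LP (LK LD1_c2 LD2_c48 LD3_c59)) = (LP (LK LD1_c1 LD2_c20 LD3_c34)) :=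
  Lre_e IH (LK LD1_c2 LD2_c48 LD3_c59) (LK LD1_c1 LD2_c20 LD3_c34) Lrfl Lrfl
theorem f60258 : Led Lsl_ft (LP (LK LD1_c5 LD2_c46 LD3_c31)) = (LP (LK LD1_c2 LD2_c48 LD3_c59)) :=
  Lre_f IH (LK LD1_c5 LD2_c46 LD3_c31) (LK LD1_c2 LD2_c48 LD3_c59) Lrfl Lrfl
theorem f60259 : Led Lsl_et (LP (LK LD1_c4 LD2_c13 LD3_c32)) = (LP (LK LD1_c5 LD2_c46 LD3_c31)) :=
  Lgr Lrot69 (Lpe (f56202 IH) (Lpr_ef (f56079 IH) (Lpr_ff (f60247 IH) (Lpe (f60257 IH) (Lpe (f60258 IH) (Lpn (LP (LK LD1_c5 LD2_c46 LD3_c31))))))))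
theorem f60275 : Led Lsl_ef (LP (LK LD1_c4 LD2_c13 LD3_c32)) = (LP (LK LD1_c5 LD2_c46 LD3_c31)) :=
  Lgr Lrot88 (Lpr_et (f60259 IH) (Lpn (LP (LK LD1_c5 LD2_c46 LD3_c31))))
theorem f56231 : Led Lsl_dt (LP (LK LD1_c4 LD2_c13 LD3_c32)) = (LP (LK LD1_c8 LD2_c26 LD3_c1)) :=
  Lre_d IH (LK LD1_c4 LD2_c13 LD3_c32) (LK LD1_c8 LD2_c26 LD3_c1) Lrfl Lrfl
theorem f60278 : Led Lsl_et (LP (LK LD1_c8 LD2_c26 LD3_c1)) = (LP (LK LD1_c15 LD2_c50 LD3_c27)) :=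
  Lre_e IH (LK LD1_c8 LD2_c26 LD3_c1) (LK LD1_c15 LD2_c50 LD3_c27) Lrfl Lrfl
theorem f60133 : Led Lsl_dt (LP (LK LD1_c11 LD2_c23 LD3_c13)) = (LP (LK LD1_c5 LD2_c46 LD3_c31)) :=
  Lre_d IH (LK LD1_c11 LD2_c23 LD3_c13) (LK LD1_c5 LD2_c46 LD3_c31) Lrfl Lrfl
theorem f60279 : Led Lsl_et (LP (LK LD1_c20 LD2_c20 LD3_c56)) = (LP (LK LD1_c11 LD2_c23 LD3_c13)) :=
  Lre_e IH (LK LD1_c20 LD2_c20 LD3_c56) (LK LD1_c11 LD2_c23 LD3_c13) Lrfl Lrfl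
theorem f60280 : Led Lsl_dt (LP (LK LD1_c15 LD2_c50 LD3_c27)) = (LP (LK LD1_c20 LD2_c20 LD3_c56)) :=
  Lgr Lrot77 (Lpe (f60278 IH) (Lpe (f56231 IH) (Lpr_ef (f60275 IH) (Lpe (f60133 IH) (Lpe (f60279 IH) (Lpn (LP (LK LD1_c20 LD2_c20 LD3_c56))))))))
theorem f46921 : Led Lsl_bt (LP (LK LD1_c8 LD2_c26 LD3_c7)) = (LP (LK LD1_c15 LD2_c50 LD3_c27)) :=
  Lre_b IH (LK LD1_c8 LD2_c26 LD3_c7) (LK LD1_c15 LD2_c50 LD3_c27) Lrfl Lrfl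
theorem f60284 : Led Lsl_bt (LP (LK LD1_c20 LD2_c20 LD3_c56)) = (LP (LK LD1_c11 LD2_c23 LD3_c40)) :=
  Lre_b IH (LK LD1_c20 LD2_c20 LD3_c56) (LK LD1_c11 LD2_c23 LD3_c40) Lrfl Lrfl
theorem f60285 : Led Lsl_df (LP (LK LD1_c8 LD2_c26 LD3_c7)) = (LP (LK LD1_c11 LD2_c23 LD3_c40)) :=
  Lgr Lrot12 (Lpr_bt (f46921 IH) (Lpr_dt (f60280 IH) (Lpr_bt (f60284 IH) (Lpn (LP (LK LD1_c11 LD2_c23 LD3_c40))))))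
theorem f46747 : Led Lsl_ft (LP (LK LD1_c8 LD2_c26 LD3_c7)) = (LP (LK LD1_c15 LD2_c50 LD3_c37)) :=
  Lre_f IH (LK LD1_c8 LD2_c26 LD3_c7) (LK LD1_c15 LD2_c50 LD3_c37) Lrfl Lrfl
theorem f60295 : Led Lsl_ft (LP (LK LD1_c20 LD2_c21 LD3_c4)) = (LP (LK LD1_c11 LD2_c23 LD3_c40)) :=
  Lre_f IH (LK LD1_c20 LD2_c21 LD3_c4) (LK LD1_c11 LD2_c23 LD3_c40) Lrfl Lrfl
theorem f60296 : Led Lsl_dt (LP (LK LD1_c15 LD2_c50 LD3_c37)) = (LP (LK LD1_c20 LD2_c21 LD3_c4)) :=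
  Lgr Lrot60 (Lpe (f46747 IH) (Lpr_df (f60285 IH) (Lpe (f60295 IH) (Lpn (LP (LK LD1_c20 LD2_c21 LD3_c4))))))
theorem f46877 : Led Lsl_et (LP (LK LD1_c4 LD2_c13 LD3_c34)) = (LP (LK LD1_c2 LD2_c4 LD3_c6)) :=
  Lre_e IH (LK LD1_c4 LD2_c13 LD3_c34) (LK LD1_c2 LD2_c4 LD3_c6) Lrfl Lrfl
theorem f13646 : Led Lsl_dt (LP (LK LD1_c0 LD2_c29 LD3_c50)) = (LP (LK LD1_c1 LD2_c5 LD3_c21)) :=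
  Lre_d IH (LK LD1_c0 LD2_c29 LD3_c50) (LK LD1_c1 LD2_c5 LD3_c21) Lrfl Lrfl
theorem f56081 : Led Lsl_et (LP (LK LD1_c1 LD2_c5 LD3_c21)) = (LP (LK LD1_c2 LD2_c16 LD3_c51)) :=
  Lre_e IH (LK LD1_c1 LD2_c5 LD3_c21) (LK LD1_c2 LD2_c16 LD3_c51) Lrfl Lrfl
theorem f56082 : Led Lsl_df (LP (LK LD1_c4 LD2_c13 LD3_c34)) = (LP (LK LD1_c2 LD2_c16 LD3_c51)) :=
  Lgr Lrot70 (Lpr_et (f46877 IH) (Lpr_dt (f27869 IH) (Lpr_et (f56068 IH) (Lpr_dt (f13646 IH) (Lpr_et (f56081 IH) (Lpn (LP (LK LD1_c2 LD2_c16 LD3_c51))))))))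
theorem f46801 : Led Lsl_ft (LP (LK LD1_c4 LD2_c13 LD3_c34)) = (LP (LK LD1_c8 LD2_c26 LD3_c6)) :=
  Lre_f IH (LK LD1_c4 LD2_c13 LD3_c34) (LK LD1_c8 LD2_c26 LD3_c6) Lrfl Lrfl
theorem f56089 : Led Lsl_ft (LP (LK LD1_c4 LD2_c39 LD3_c40)) = (LP (LK LD1_c2 LD2_c16 LD3_c51)) :=
  Lre_f IH (LK LD1_c4 LD2_c39 LD3_c40) (LK LD1_c2 LD2_c16 LD3_c51) Lrfl Lrfl
theorem f56090 : Led Lsl_dt (LP (LK LD1_c8 LD2_c26 LD3_c6)) = (LP (LK LD1_c4 LD2_c39 LD3_c40)) :=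
  Lgr Lrot60 (Lpe (f46801 IH) (Lpr_df (f56082 IH) (Lpe (f56089 IH) (Lpn (LP (LK LD1_c4 LD2_c39 LD3_c40))))))
theorem f56140 : Led Lsl_df (LP (LK LD1_c8 LD2_c26 LD3_c6)) = (LP (LK LD1_c4 LD2_c39 LD3_c40)) :=
  Lgr Lrot38 (Lpr_dt (f56090 IH) (Lpn (LP (LK LD1_c4 LD2_c39 LD3_c40))))
theorem f60311 : Led Lsl_et (LP (LK LD1_c20 LD2_c21 LD3_c4)) = (LP (LK LD1_c11 LD2_c23 LD3_c23)) :=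
  Lre_e IH (LK LD1_c20 LD2_c21 LD3_c4) (LK LD1_c11 LD2_c23 LD3_c23) Lrfl Lrfl
theorem f60312 : Led Lsl_dt (LP (LK LD1_c11 LD2_c23 LD3_c23)) = (LP (LK LD1_c5 LD2_c46 LD3_c35)) :=
  Lre_d IH (LK LD1_c11 LD2_c23 LD3_c23) (LK LD1_c5 LD2_c46 LD3_c35) Lrfl Lrfl
theorem f60313 : Led Lsl_ef (LP (LK LD1_c4 LD2_c39 LD3_c40)) = (LP (LK LD1_c5 LD2_c46 LD3_c35)) :=
  Lgr Lrot73 (Lpe (f56140 IH) (Lpr_et (f46734 IH) (Lpr_dt (f60296 IH) (Lpr_et (f60311 IH) (Lpr_dt (f60312 IH) (Lpn (LP (LK LD1_c5 LD2_c46 LD3_c35))))))))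
theorem f60320 : Led Lsl_et (LP (LK LD1_c4 LD2_c39 LD3_c40)) = (LP (LK LD1_c5 LD2_c46 LD3_c35)) :=
  Lgr Lrot87 (Lpr_ef (f60313 IH) (Lpn (LP (LK LD1_c5 LD2_c46 LD3_c35))))
theorem f56064 : Led Lsl_et (LP (LK LD1_c0 LD2_c25 LD3_c41)) = (LP (LK LD1_c0 LD2_c18 LD3_c46)) :=
  Lgr Lrot123 (Lpe (f47070 IH) (Lpr_ef (f56062 IH) (Lpe (f36393 IH) (Lpn (LP (LK LD1_c0 LD2_c18 LD3_c46))))))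
theorem f36296 : Led Lsl_ct (LP (LK LD1_c0 LD2_c18 LD3_c46)) = (LP (LK LD1_c0 LD2_c42 LD3_c0)) :=
  Lre_c IH (LK LD1_c0 LD2_c18 LD3_c46) (LK LD1_c0 LD2_c42 LD3_c0) Lrfl Lrfl
theorem f56327 : Led Lsl_ef (LP (LK LD1_c0 LD2_c56 LD3_c41)) = (LP (LK LD1_c0 LD2_c42 LD3_c0)) :=
  Lgr Lrot28 (Lpr_ct (f46617 IH) (Lpr_et (f56064 IH) (Lpr_ct (f36296 IH) (Lpn (LP (LK LD1_c0 LD2_c42 LD3_c0))))))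
theorem f56339 : Led Lsl_et (LP (LK LD1_c0 LD2_c56 LD3_c41)) = (LP (LK LD1_c0 LD2_c42 LD3_c0)) :=
  Lgr Lrot87 (Lpr_ef (f56327 IH) (Lpn (LP (LK LD1_c0 LD2_c42 LD3_c0))))
theorem f46714 : Led Lsl_et (LP (LK LD1_c4 LD2_c4 LD3_c58)) = (LP (LK LD1_c1 LD2_c59 LD3_c34)) :=
  Lre_e IH (LK LD1_c4 LD2_c4 LD3_c58) (LK LD1_c1 LD2_c59 LD3_c34) Lrfl Lrfl
theorem f36397 : Led Lsl_dt (LP (LK LD1_c0 LD2_c42 LD3_c0)) = (LP (LK LD1_c1 LD2_c31 LD3_c3)) :=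
  Lre_d IH (LK LD1_c0 LD2_c42 LD3_c0) (LK LD1_c1 LD2_c31 LD3_c3) Lrfl Lrfl
theorem f56342 : Led Lsl_et (LP (LK LD1_c1 LD2_c31 LD3_c3)) = (LP (LK LD1_c3 LD2_c9 LD3_c49)) :=
  Lre_e IH (LK LD1_c1 LD2_c31 LD3_c3) (LK LD1_c3 LD2_c9 LD3_c49) Lrfl Lrfl
theorem f56343 : Led Lsl_df (LP (LK LD1_c4 LD2_c4 LD3_c58)) = (LP (LK LD1_c3 LD2_c9 LD3_c49)) :=
  Lgr Lrot70 (Lpr_et (f46714 IH) (Lpr_dt (f46876 IH) (Lpr_et (f56339 IH) (Lpr_dt (f36397 IH) (Lpr_et (f56342 IH) (Lpn (LP (LK LD1_c3 LD2_c9 LD3_c49))))))))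
theorem f56348 : Led Lsl_ft (LP (LK LD1_c6 LD2_c24 LD3_c23)) = (LP (LK LD1_c3 LD2_c9 LD3_c49)) :=
  Lre_f IH (LK LD1_c6 LD2_c24 LD3_c23) (LK LD1_c3 LD2_c9 LD3_c49) Lrfl Lrfl
theorem f56349 : Led Lsl_dt (LP (LK LD1_c8 LD2_c10 LD3_c44)) = (LP (LK LD1_c6 LD2_c24 LD3_c23)) :=
  Lgr Lrot60 (Lpe (f46716 IH) (Lpr_df (f56343 IH) (Lpe (f56348 IH) (Lpn (LP (LK LD1_c6 LD2_c24 LD3_c23))))))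
theorem f46730 : Led Lsl_at (LP (LK LD1_c8 LD2_c26 LD3_c6)) = (LP (LK LD1_c8 LD2_c10 LD3_c44)) :=
  Lgr Lrot100 (Lpr_af (f46717 IH) (Lpn (LP (LK LD1_c8 LD2_c10 LD3_c44))))
theorem f56359 : Led Lsl_af (LP (LK LD1_c4 LD2_c39 LD3_c40)) = (LP (LK LD1_c6 LD2_c24 LD3_c23)) :=
  Lgr Lrot117 (Lpe (f56140 IH) (Lpr_at (f46730 IH) (Lpr_dt (f56349 IH) (Lpn (LP (LK LD1_c6 LD2_c24 LD3_c23))))))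
theorem f56361 : Led Lsl_df (LP (LK LD1_c8 LD2_c10 LD3_c44)) = (LP (LK LD1_c6 LD2_c24 LD3_c23)) :=
  Lgr Lrot38 (Lpr_dt (f56349 IH) (Lpn (LP (LK LD1_c6 LD2_c24 LD3_c23))))
theorem f56363 : Led Lsl_at (LP (LK LD1_c4 LD2_c39 LD3_c40)) = (LP (LK LD1_c6 LD2_c24 LD3_c23)) :=
  Lgr Lrot51 (Lpe (f56090 IH) (Lpr_af (f46717 IH) (Lpr_df (f56361 IH) (Lpn (LP (LK LD1_c6 LD2_c24 LD3_c23))))))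
theorem f56092 : Led Lsl_ft (LP (LK LD1_c2 LD2_c16 LD3_c51)) = (LP (LK LD1_c4 LD2_c39 LD3_c40)) :=
  Lre_f IH (LK LD1_c2 LD2_c16 LD3_c51) (LK LD1_c4 LD2_c39 LD3_c40) Lrfl Lrfl
theorem f56365 : Led Lsl_af (LP (LK LD1_c2 LD2_c16 LD3_c51)) = (LP (LK LD1_c3 LD2_c9 LD3_c49)) :=
  Lgr Lrot45 (Lpr_ft (f56092 IH) (Lpr_at (f56363 IH) (Lpr_ft (f56348 IH) (Lpn (LP (LK LD1_c3 LD2_c9 LD3_c49))))))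
theorem f35664 : Led Lsl_et (LP (LK LD1_c2 LD2_c16 LD3_c51)) = (LP (LK LD1_c1 LD2_c5 LD3_c21)) :=
  Lre_e IH (LK LD1_c2 LD2_c16 LD3_c51) (LK LD1_c1 LD2_c5 LD3_c21) Lrfl Lrfl
theorem f56417 : Led Lsl_at (LP (LK LD1_c1 LD2_c5 LD3_c21)) = (LP (LK LD1_c1 LD2_c31 LD3_c3)) :=
  Lgr Lrot80 (Lpe (f35664 IH) (Lpr_af (f56365 IH) (Lpe (f56342 IH) (Lpn (LP (LK LD1_c1 LD2_c31 LD3_c3))))))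
theorem f56425 : Led Lsl_af (LP (LK LD1_c1 LD2_c5 LD3_c21)) = (LP (LK LD1_c1 LD2_c31 LD3_c3)) :=
  Lgr Lrot0 (Lpr_at (f56417 IH) (Lpn (LP (LK LD1_c1 LD2_c31 LD3_c3))))
theorem f56428 : Led Lsl_ft (LP (LK LD1_c1 LD2_c28 LD3_c4)) = (LP (LK LD1_c1 LD2_c31 LD3_c3)) :=
  Lgr Lrot2 (Lpe (f37192 IH) (Lpe (f35592 IH) (Lpr_af (f56425 IH) (Lpn (LP (LK LD1_c1 LD2_c31 LD3_c3))))))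
theorem f56435 : Led Lsl_ff (LP (LK LD1_c1 LD2_c28 LD3_c4)) = (LP (LK LD1_c1 LD2_c31 LD3_c3)) :=
  Lgr Lrot3 (Lpr_ft (f56428 IH) (Lpn (LP (LK LD1_c1 LD2_c31 LD3_c3))))
theorem f38029 : Led Lsl_et (LP (LK LD1_c1 LD2_c28 LD3_c4)) = (LP (LK LD1_c3 LD2_c4 LD3_c4)) :=
  Lre_e IH (LK LD1_c1 LD2_c28 LD3_c4) (LK LD1_c3 LD2_c4 LD3_c4) Lrfl Lrfl
theorem f56440 : Led Lsl_ft (LP (LK LD1_c3 LD2_c4 LD3_c4)) = (LP (LK LD1_c6 LD2_c14 LD3_c25)) :=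
  Lre_f IH (LK LD1_c3 LD2_c4 LD3_c4) (LK LD1_c6 LD2_c14 LD3_c25) Lrfl Lrfl
theorem f56336 : Led Lsl_et (LP (LK LD1_c3 LD2_c9 LD3_c49)) = (LP (LK LD1_c1 LD2_c31 LD3_c3)) :=
  Lre_e IH (LK LD1_c3 LD2_c9 LD3_c49) (LK LD1_c1 LD2_c31 LD3_c3) Lrfl Lrfl
theorem f56441 : Led Lsl_et (LP (LK LD1_c6 LD2_c14 LD3_c25)) = (LP (LK LD1_c6 LD2_c24 LD3_c23)) :=
  Lgr Lrot69 (Lpe (f56440 IH) (Lpe (f38029 IH) (Lpr_ff (f56435 IH) (Lpe (f56336 IH) (Lpe (f56348 IH) (Lpn (LP (LK LD1_c6 LD2_c24 LD3_c23))))))))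
theorem f60324 : Led Lsl_af (LP (LK LD1_c6 LD2_c14 LD3_c25)) = (LP (LK LD1_c5 LD2_c46 LD3_c35)) :=
  Lgr Lrot50 (Lpr_et (f56441 IH) (Lpe (f56359 IH) (Lpr_et (f60320 IH) (Lpn (LP (LK LD1_c5 LD2_c46 LD3_c35))))))
theorem f56432 : Led Lsl_ft (LP (LK LD1_c6 LD2_c14 LD3_c25)) = (LP (LK LD1_c3 LD2_c4 LD3_c4)) :=
  Lre_f IH (LK LD1_c6 LD2_c14 LD3_c25) (LK LD1_c3 LD2_c4 LD3_c4) Lrfl Lrfl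
theorem f60322 : Led Lsl_ft (LP (LK LD1_c2 LD2_c48 LD3_c60)) = (LP (LK LD1_c5 LD2_c46 LD3_c35)) :=
  Lre_f IH (LK LD1_c2 LD2_c48 LD3_c60) (LK LD1_c5 LD2_c46 LD3_c35) Lrfl Lrfl
theorem f60372 : Led Lsl_at (LP (LK LD1_c3 LD2_c4 LD3_c4)) = (LP (LK LD1_c2 LD2_c48 LD3_c60)) :=
  Lgr Lrot66 (Lpe (f56432 IH) (Lpr_af (f60324 IH) (Lpe (f60322 IH) (Lpn (LP (LK LD1_c2 LD2_c48 LD3_c60))))))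
theorem f60330 : Led Lsl_et (LP (LK LD1_c2 LD2_c48 LD3_c60)) = (LP (LK LD1_c1 LD2_c20 LD3_c35)) :=
  Lre_e IH (LK LD1_c2 LD2_c48 LD3_c60) (LK LD1_c1 LD2_c20 LD3_c35) Lrfl Lrfl
theorem f60391 : Led Lsl_af (LP (LK LD1_c1 LD2_c28 LD3_c4)) = (LP (LK LD1_c1 LD2_c20 LD3_c35)) :=
  Lgr Lrot50 (Lpr_et (f38029 IH) (Lpr_at (f60372 IH) (Lpr_et (f60330 IH) (Lpn (LP (LK LD1_c1 LD2_c20 LD3_c35))))))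
theorem f60403 : Led Lsl_ct (LP (LK LD1_c1 LD2_c31 LD3_c3)) = (LP (LK LD1_c1 LD2_c20 LD3_c35)) :=
  Lgr Lrot111 (Lpe (f56417 IH) (Lpr_cf (f38625 IH) (Lpr_af (f60391 IH) (Lpn (LP (LK LD1_c1 LD2_c20 LD3_c35))))))
theorem f56593 : Led Lsl_dt (LP (LK LD1_c1 LD2_c20 LD3_c35)) = (LP (LK LD1_c0 LD2_c37 LD3_c14)) :=
  Lre_d IH (LK LD1_c1 LD2_c20 LD3_c35) (LK LD1_c0 LD2_c37 LD3_c14) Lrfl Lrfl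
theorem f59591 : Led Lsl_df (LP (LK LD1_c0 LD2_c13 LD3_c10)) = (LP (LK LD1_c0 LD2_c16 LD3_c36)) :=
  Lgr Lrot38 (Lpr_dt (f59587 IH) (Lpn (LP (LK LD1_c0 LD2_c16 LD3_c36))))
theorem f59668 : Led Lsl_at (LP (LK LD1_c0 LD2_c18 LD3_c17)) = (LP (LK LD1_c0 LD2_c16 LD3_c36)) :=
  Lgr Lrot51 (Lpr_df (f59665 IH) (Lpr_af (K0.f35410 IH) (Lpr_df (f59591 IH) (Lpn (LP (LK LD1_c0 LD2_c16 LD3_c36))))))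
theorem f60407 : Led Lsl_ft (LP (LK LD1_c0 LD2_c18 LD3_c46)) = (LP (LK LD1_c0 LD2_c18 LD3_c17)) :=
  Lgr Lrot142 (Lpr_dt (f36398 IH) (Lpr_ct (K0.f9594 IH) (Lpe (f36326 IH) (Lpr_ct (f36296 IH) (Lpr_dt (f36397 IH) (Lpr_ct (f60403 IH) (Lpr_dt (f56593 IH) (Lpr_ct (f56594 IH) (Lpe (f59668 IH) (Lpn (LP (LK LD1_c0 LD2_c18 LD3_c17))))))))))))
theorem f46938 : Led Lsl_ft (LP (LK LD1_c0 LD2_c56 LD3_c42)) = (LP (LK LD1_c0 LD2_c25 LD3_c41)) :=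
  Lre_f IH (LK LD1_c0 LD2_c56 LD3_c42) (LK LD1_c0 LD2_c25 LD3_c41) Lrfl Lrfl
theorem f59674 : Led Lsl_et (LP (LK LD1_c0 LD2_c18 LD3_c17)) = (LP (LK LD1_c0 LD2_c40 LD3_c51)) :=
  Lre_e IH (LK LD1_c0 LD2_c18 LD3_c17) (LK LD1_c0 LD2_c40 LD3_c51) Lrfl Lrfl
theorem f60412 : Led Lsl_ft (LP (LK LD1_c0 LD2_c40 LD3_c51)) = (LP (LK LD1_c1 LD2_c28 LD3_c23)) :=
  Lre_f IH (LK LD1_c0 LD2_c40 LD3_c51) (LK LD1_c1 LD2_c28 LD3_c23) Lrfl Lrfl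
theorem f60413 : Led Lsl_ef (LP (LK LD1_c0 LD2_c56 LD3_c42)) = (LP (LK LD1_c1 LD2_c28 LD3_c23)) :=
  Lgr Lrot21 (Lpr_ft (f46938 IH) (Lpr_et (f56064 IH) (Lpr_ft (f60407 IH) (Lpr_et (f59674 IH) (Lpr_ft (f60412 IH) (Lpn (LP (LK LD1_c1 LD2_c28 LD3_c23))))))))
theorem f60422 : Led Lsl_et (LP (LK LD1_c0 LD2_c56 LD3_c42)) = (LP (LK LD1_c1 LD2_c28 LD3_c23)) :=
  Lgr Lrot87 (Lpr_ef (f60413 IH) (Lpn (LP (LK LD1_c1 LD2_c28 LD3_c23))))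
theorem f47069 : Led Lsl_bt (LP (LK LD1_c0 LD2_c25 LD3_c57)) = (LP (LK LD1_c0 LD2_c56 LD3_c42)) :=
  Lre_b IH (LK LD1_c0 LD2_c25 LD3_c57) (LK LD1_c0 LD2_c56 LD3_c42) Lrfl Lrfl
theorem f60426 : Led Lsl_bt (LP (LK LD1_c1 LD2_c28 LD3_c23)) = (LP (LK LD1_c0 LD2_c40 LD3_c56)) :=
  Lre_b IH (LK LD1_c1 LD2_c28 LD3_c23) (LK LD1_c0 LD2_c40 LD3_c56) Lrfl Lrfl
theorem f60427 : Led Lsl_ef (LP (LK LD1_c0 LD2_c25 LD3_c57)) = (LP (LK LD1_c0 LD2_c40 LD3_c56)) :=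
  Lgr Lrot29 (Lpr_bt (f47069 IH) (Lpr_et (f60422 IH) (Lpr_bt (f60426 IH) (Lpn (LP (LK LD1_c0 LD2_c40 LD3_c56))))))
theorem f60719 : Led Lsl_ft (LP (LK LD1_c0 LD2_c18 LD3_c19)) = (LP (LK LD1_c0 LD2_c40 LD3_c56)) :=
  Lre_f IH (LK LD1_c0 LD2_c18 LD3_c19) (LK LD1_c0 LD2_c40 LD3_c56) Lrfl Lrfl
theorem f60728 : Led Lsl_et (LP (LK LD1_c0 LD2_c8 LD3_c14)) = (LP (LK LD1_c0 LD2_c18 LD3_c19)) :=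
  Lre_e IH (LK LD1_c0 LD2_c8 LD3_c14) (LK LD1_c0 LD2_c18 LD3_c19) Lrfl Lrfl
theorem f60885 : Led Lsl_ft (LP (LK LD1_c0 LD2_c13 LD3_c20)) = (LP (LK LD1_c0 LD2_c8 LD3_c14)) :=
  Lgr Lrot86 (Lpr_ef (f27282 IH) (Lpe (f55602 IH) (Lpr_ef (f60427 IH) (Lpe (f60719 IH) (Lpe (f60728 IH) (Lpn (LP (LK LD1_c0 LD2_c8 LD3_c14))))))))
theorem f56577 : Led Lsl_cf (LP (LK LD1_c0 LD2_c13 LD3_c20)) = (LP (LK LD1_c0 LD2_c16 LD3_c40)) :=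
  Lgr Lrot11 (Lpr_ct (f56569 IH) (Lpn (LP (LK LD1_c0 LD2_c16 LD3_c40))))
theorem f25958 : Led Lsl_gt (LP (LK LD1_c0 LD2_c6 LD3_c6)) = (LP (LK LD1_c0 LD2_c13 LD3_c19)) :=
  Lre_g IH (LK LD1_c0 LD2_c6 LD3_c6) (LK LD1_c0 LD2_c13 LD3_c19) Lrfl Lrfl
theorem f36284 : Led Lsl_df (LP (LK LD1_c0 LD2_c7 LD3_c48)) = (LP (LK LD1_c0 LD2_c13 LD3_c19)) :=
  Lgr Lrot84 (Lpr_cf (K0.f26724 IH) (Lpe (K0.f7341 IH) (Lpr_gf (K0.f20831 IH) (Lpe (K0.f20263 IH) (Lpr_gf (K0.f20829 IH) (Lpr_cf (f36276 IH) (Lpe (f34730 IH) (Lpr_dt (K0.f25917 IH) (Lpr_gt (f25958 IH) (Lpn (LP (LK LD1_c0 LD2_c13 LD3_c19))))))))))))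
theorem f59451 : Led Lsl_ff (LP (LK LD1_c0 LD2_c7 LD3_c54)) = (LP (LK LD1_c0 LD2_c13 LD3_c19)) :=
  Lgr Lrot103 (Lpe (f56050 IH) (Lpr_cf (f56577 IH) (Lpe (f56584 IH) (Lpr_cf (f59426 IH) (Lpr_df (f20982 IH) (Lpr_cf (K0.f25732 IH) (Lpe (K0.f7339 IH) (Lpe (K0.f26730 IH) (Lpr_df (f36284 IH) (Lpn (LP (LK LD1_c0 LD2_c13 LD3_c19))))))))))))
theorem f60887 : Led Lsl_af (LP (LK LD1_c0 LD2_c13 LD3_c19)) = (LP (LK LD1_c0 LD2_c8 LD3_c14)) :=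
  Lgr Lrot45 (Lpe (f59451 IH) (Lpe (f56050 IH) (Lpr_ft (f60885 IH) (Lpn (LP (LK LD1_c0 LD2_c8 LD3_c14))))))
theorem f59522 : Led Lsl_et (LP (LK LD1_c0 LD2_c13 LD3_c19)) = (LP (LK LD1_c0 LD2_c30 LD3_c3)) :=
  Lre_e IH (LK LD1_c0 LD2_c13 LD3_c19) (LK LD1_c0 LD2_c30 LD3_c3) Lrfl Lrfl
theorem f59120 : Led Lsl_et (LP (LK LD1_c0 LD2_c18 LD3_c19)) = (LP (LK LD1_c0 LD2_c8 LD3_c14)) :=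
  Lre_e IH (LK LD1_c0 LD2_c18 LD3_c19) (LK LD1_c0 LD2_c8 LD3_c14) Lrfl Lrfl
theorem f60895 : Led Lsl_at (LP (LK LD1_c0 LD2_c30 LD3_c3)) = (LP (LK LD1_c0 LD2_c18 LD3_c19)) :=
  Lgr Lrot80 (Lpe (f59522 IH) (Lpr_af (f60887 IH) (Lpe (f59120 IH) (Lpn (LP (LK LD1_c0 LD2_c18 LD3_c19))))))
theorem f56444 : Led Lsl_dt (LP (LK LD1_c12 LD2_c7 LD3_c12)) = (LP (LK LD1_c6 LD2_c14 LD3_c25)) :=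
  Lre_d IH (LK LD1_c12 LD2_c7 LD3_c12) (LK LD1_c6 LD2_c14 LD3_c25) Lrfl Lrfl
theorem f56445 : Led Lsl_et (LP (LK LD1_c21 LD2_c13 LD3_c23)) = (LP (LK LD1_c12 LD2_c7 LD3_c12)) :=
  Lre_e IH (LK LD1_c21 LD2_c13 LD3_c23) (LK LD1_c12 LD2_c7 LD3_c12) Lrfl Lrfl
theorem f46754 : Led Lsl_et (LP (LK LD1_c8 LD2_c10 LD3_c44)) = (LP (LK LD1_c15 LD2_c23 LD3_c59)) :=
  Lre_e IH (LK LD1_c8 LD2_c10 LD3_c44) (LK LD1_c15 LD2_c23 LD3_c59) Lrfl Lrfl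
theorem f56446 : Led Lsl_df (LP (LK LD1_c21 LD2_c13 LD3_c23)) = (LP (LK LD1_c15 LD2_c23 LD3_c59)) :=
  Lgr Lrot70 (Lpr_et (f56445 IH) (Lpr_dt (f56444 IH) (Lpr_et (f56441 IH) (Lpe (f56361 IH) (Lpr_et (f46754 IH) (Lpn (LP (LK LD1_c15 LD2_c23 LD3_c59))))))))
theorem f56451 : Led Lsl_ft (LP (LK LD1_c21 LD2_c13 LD3_c23)) = (LP (LK LD1_c12 LD2_c7 LD3_c15)) :=
  Lre_f IH (LK LD1_c21 LD2_c13 LD3_c23) (LK LD1_c12 LD2_c7 LD3_c15) Lrfl Lrfl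
theorem f56452 : Led Lsl_dt (LP (LK LD1_c12 LD2_c7 LD3_c15)) = (LP (LK LD1_c8 LD2_c10 LD3_c45)) :=
  Lgr Lrot60 (Lpe (f56451 IH) (Lpr_df (f56446 IH) (Lpe (f46756 IH) (Lpn (LP (LK LD1_c8 LD2_c10 LD3_c45))))))
theorem f56456 : Led Lsl_et (LP (LK LD1_c6 LD2_c14 LD3_c28)) = (LP (LK LD1_c12 LD2_c7 LD3_c15)) :=
  Lre_e IH (LK LD1_c6 LD2_c14 LD3_c28) (LK LD1_c12 LD2_c7 LD3_c15) Lrfl Lrfl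
theorem f56457 : Led Lsl_dt (LP (LK LD1_c3 LD2_c4 LD3_c6)) = (LP (LK LD1_c6 LD2_c14 LD3_c28)) :=
  Lre_d IH (LK LD1_c3 LD2_c4 LD3_c6) (LK LD1_c6 LD2_c14 LD3_c28) Lrfl Lrfl
theorem f46764 : Led Lsl_et (LP (LK LD1_c8 LD2_c10 LD3_c45)) = (LP (LK LD1_c4 LD2_c4 LD3_c59)) :=
  Lre_e IH (LK LD1_c8 LD2_c10 LD3_c45) (LK LD1_c4 LD2_c4 LD3_c59) Lrfl Lrfl
theorem f56458 : Led Lsl_ef (LP (LK LD1_c3 LD2_c4 LD3_c6)) = (LP (LK LD1_c1 LD2_c59 LD3_c35)) :=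
  Lgr Lrot73 (Lpr_dt (f56457 IH) (Lpr_et (f56456 IH) (Lpr_dt (f56452 IH) (Lpr_et (f46764 IH) (Lpr_dt (f46636 IH) (Lpn (LP (LK LD1_c1 LD2_c59 LD3_c35))))))))
theorem f56468 : Led Lsl_et (LP (LK LD1_c3 LD2_c4 LD3_c6)) = (LP (LK LD1_c1 LD2_c59 LD3_c35)) :=
  Lgr Lrot87 (Lpr_ef (f56458 IH) (Lpn (LP (LK LD1_c1 LD2_c59 LD3_c35))))
theorem f60429 : Led Lsl_cf (LP (LK LD1_c3 LD2_c4 LD3_c6)) = (LP (LK LD1_c1 LD2_c28 LD3_c23)) :=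
  Lgr Lrot39 (Lpr_et (f56468 IH) (Lpr_ct (f46654 IH) (Lpr_et (f60422 IH) (Lpn (LP (LK LD1_c1 LD2_c28 LD3_c23))))))
theorem f56470 : Led Lsl_ft (LP (LK LD1_c3 LD2_c4 LD3_c6)) = (LP (LK LD1_c1 LD2_c28 LD3_c5)) :=
  Lre_f IH (LK LD1_c3 LD2_c4 LD3_c6) (LK LD1_c1 LD2_c28 LD3_c5) Lrfl Lrfl
theorem f60438 : Led Lsl_ct (LP (LK LD1_c1 LD2_c28 LD3_c5)) = (LP (LK LD1_c0 LD2_c40 LD3_c51)) :=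
  Lgr Lrot40 (Lpe (f56470 IH) (Lpr_cf (f60429 IH) (Lpe (f60412 IH) (Lpn (LP (LK LD1_c0 LD2_c40 LD3_c51))))))
theorem f60446 : Led Lsl_cf (LP (LK LD1_c1 LD2_c28 LD3_c5)) = (LP (LK LD1_c0 LD2_c40 LD3_c51)) :=
  Lgr Lrot11 (Lpr_ct (f60438 IH) (Lpn (LP (LK LD1_c0 LD2_c40 LD3_c51))))
theorem f60449 : Led Lsl_dt (LP (LK LD1_c1 LD2_c28 LD3_c5)) = (LP (LK LD1_c3 LD2_c4 LD3_c5)) :=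
  Lre_d IH (LK LD1_c1 LD2_c28 LD3_c5) (LK LD1_c3 LD2_c4 LD3_c5) Lrfl Lrfl
theorem f60450 : Led Lsl_ct (LP (LK LD1_c3 LD2_c4 LD3_c5)) = (LP (LK LD1_c6 LD2_c14 LD3_c27)) :=
  Lre_c IH (LK LD1_c3 LD2_c4 LD3_c5) (LK LD1_c6 LD2_c14 LD3_c27) Lrfl Lrfl
theorem f59667 : Led Lsl_et (LP (LK LD1_c0 LD2_c40 LD3_c51)) = (LP (LK LD1_c0 LD2_c18 LD3_c17)) :=
  Lre_e IH (LK LD1_c0 LD2_c40 LD3_c51) (LK LD1_c0 LD2_c18 LD3_c17) Lrfl Lrfl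
theorem f59675 : Led Lsl_dt (LP (LK LD1_c0 LD2_c40 LD3_c51)) = (LP (LK LD1_c0 LD2_c40 LD3_c51)) :=
  Lgr Lrot77 (Lpe (f59674 IH) (Lpr_df (f59665 IH) (Lpr_ef (f35414 IH) (Lpe (f59672 IH) (Lpe (f59667 IH) (Lpn (LP (LK LD1_c0 LD2_c40 LD3_c51))))))))
theorem f46633 : Led Lsl_ct (LP (LK LD1_c0 LD2_c56 LD3_c42)) = (LP (LK LD1_c1 LD2_c59 LD3_c35)) :=
  Lre_c IH (LK LD1_c0 LD2_c56 LD3_c42) (LK LD1_c1 LD2_c59 LD3_c35) Lrfl Lrfl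
theorem f46634 : Led Lsl_af (LP (LK LD1_c0 LD2_c56 LD3_c42)) = (LP (LK LD1_c0 LD2_c59 LD3_c5)) :=
  Lgr Lrot68 (Lpr_ct (f46633 IH) (Lpr_at (f46623 IH) (Lpr_ct (f27855 IH) (Lpn (LP (LK LD1_c0 LD2_c59 LD3_c5))))))
theorem f60424 : Led Lsl_af (LP (LK LD1_c1 LD2_c20 LD3_c39)) = (LP (LK LD1_c1 LD2_c28 LD3_c23)) :=
  Lgr Lrot50 (Lpe (f60222 IH) (Lpe (f46634 IH) (Lpr_et (f60422 IH) (Lpn (LP (LK LD1_c1 LD2_c28 LD3_c23))))))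
theorem f60203 : Led Lsl_ct (LP (LK LD1_c2 LD2_c49 LD3_c2)) = (LP (LK LD1_c1 LD2_c20 LD3_c39)) :=
  Lre_c IH (LK LD1_c2 LD2_c49 LD3_c2) (LK LD1_c1 LD2_c20 LD3_c39) Lrfl Lrfl
theorem f60204 : Led Lsl_dt (LP (LK LD1_c5 LD2_c46 LD3_c43)) = (LP (LK LD1_c2 LD2_c49 LD3_c2)) :=
  Lre_d IH (LK LD1_c5 LD2_c46 LD3_c43) (LK LD1_c2 LD2_c49 LD3_c2) Lrfl Lrfl
theorem f60472 : Led Lsl_ct (LP (LK LD1_c11 LD2_c23 LD3_c39)) = (LP (LK LD1_c5 LD2_c46 LD3_c43)) :=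
  Lre_c IH (LK LD1_c11 LD2_c23 LD3_c39) (LK LD1_c5 LD2_c46 LD3_c43) Lrfl Lrfl
theorem f60473 : Led Lsl_dt (LP (LK LD1_c6 LD2_c14 LD3_c27)) = (LP (LK LD1_c11 LD2_c23 LD3_c39)) :=
  Lgr Lrot140 (Lpe (f60450 IH) (Lpe (f60449 IH) (Lpr_cf (f60446 IH) (Lpe (f59675 IH) (Lpr_ft (f60412 IH) (Lpe (f60424 IH) (Lpe (f60203 IH) (Lpe (f60204 IH) (Lpe (f60472 IH) (Lpn (LP (LK LD1_c11 LD2_c23 LD3_c39))))))))))))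
theorem f38658 : Led Lsl_dt (LP (LK LD1_c3 LD2_c4 LD3_c5)) = (LP (LK LD1_c1 LD2_c28 LD3_c5)) :=
  Lre_d IH (LK LD1_c3 LD2_c4 LD3_c5) (LK LD1_c1 LD2_c28 LD3_c5) Lrfl Lrfl
theorem f60451 : Led Lsl_ft (LP (LK LD1_c3 LD2_c4 LD3_c5)) = (LP (LK LD1_c6 LD2_c14 LD3_c28)) :=
  Lre_f IH (LK LD1_c3 LD2_c4 LD3_c5) (LK LD1_c6 LD2_c14 LD3_c28) Lrfl Lrfl
theorem f60489 : Led Lsl_at (LP (LK LD1_c6 LD2_c14 LD3_c28)) = (LP (LK LD1_c5 LD2_c46 LD3_c43)) :=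
  Lgr Lrot33 (Lpe (f60451 IH) (Lpr_dt (f38658 IH) (Lpr_ct (f60438 IH) (Lpr_dt (f59675 IH) (Lpe (f60446 IH) (Lpr_dt (f60449 IH) (Lpr_ct (f60450 IH) (Lpr_dt (f60473 IH) (Lpr_ct (f60472 IH) (Lpn (LP (LK LD1_c5 LD2_c46 LD3_c43))))))))))))
theorem f60500 : Led Lsl_ft (LP (LK LD1_c5 LD2_c46 LD3_c43)) = (LP (LK LD1_c2 LD2_c49 LD3_c1)) :=
  Lre_f IH (LK LD1_c5 LD2_c46 LD3_c43) (LK LD1_c2 LD2_c49 LD3_c1) Lrfl Lrfl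
theorem f60501 : Led Lsl_af (LP (LK LD1_c3 LD2_c4 LD3_c5)) = (LP (LK LD1_c2 LD2_c49 LD3_c1)) :=
  Lgr Lrot45 (Lpr_ft (f60451 IH) (Lpr_at (f60489 IH) (Lpr_ft (f60500 IH) (Lpn (LP (LK LD1_c2 LD2_c49 LD3_c1))))))
theorem f38657 : Led Lsl_et (LP (LK LD1_c3 LD2_c4 LD3_c5)) = (LP (LK LD1_c6 LD2_c14 LD3_c24)) :=
  Lre_e IH (LK LD1_c3 LD2_c4 LD3_c5) (LK LD1_c6 LD2_c14 LD3_c24) Lrfl Lrfl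
theorem f59298 : Led Lsl_et (LP (LK LD1_c5 LD2_c46 LD3_c34)) = (LP (LK LD1_c2 LD2_c49 LD3_c1)) :=
  Lre_e IH (LK LD1_c5 LD2_c46 LD3_c34) (LK LD1_c2 LD2_c49 LD3_c1) Lrfl Lrfl
theorem f60516 : Led Lsl_at (LP (LK LD1_c6 LD2_c14 LD3_c24)) = (LP (LK LD1_c5 LD2_c46 LD3_c34)) :=
  Lgr Lrot80 (Lpe (f38657 IH) (Lpr_af (f60501 IH) (Lpe (f59298 IH) (Lpn (LP (LK LD1_c5 LD2_c46 LD3_c34))))))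
theorem f60520 : Led Lsl_ct (LP (LK LD1_c12 LD2_c7 LD3_c11)) = (LP (LK LD1_c6 LD2_c14 LD3_c24)) :=
  Lre_c IH (LK LD1_c12 LD2_c7 LD3_c11) (LK LD1_c6 LD2_c14 LD3_c24) Lrfl Lrfl
theorem f60376 : Led Lsl_ct (LP (LK LD1_c5 LD2_c46 LD3_c34)) = (LP (LK LD1_c11 LD2_c23 LD3_c22)) :=
  Lre_c IH (LK LD1_c5 LD2_c46 LD3_c34) (LK LD1_c11 LD2_c23 LD3_c22) Lrfl Lrfl
theorem f60521 : Led Lsl_af (LP (LK LD1_c12 LD2_c7 LD3_c11)) = (LP (LK LD1_c11 LD2_c23 LD3_c22)) :=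
  Lgr Lrot68 (Lpr_ct (f60520 IH) (Lpr_at (f60516 IH) (Lpr_ct (f60376 IH) (Lpn (LP (LK LD1_c11 LD2_c23 LD3_c22))))))
theorem f60579 : Led Lsl_at (LP (LK LD1_c12 LD2_c7 LD3_c11)) = (LP (LK LD1_c11 LD2_c23 LD3_c22)) :=
  Lgr Lrot100 (Lpr_af (f60521 IH) (Lpn (LP (LK LD1_c11 LD2_c23 LD3_c22))))
theorem f60493 : Led Lsl_et (LP (LK LD1_c6 LD2_c14 LD3_c27)) = (LP (LK LD1_c12 LD2_c7 LD3_c11)) :=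
  Lre_e IH (LK LD1_c6 LD2_c14 LD3_c27) (LK LD1_c12 LD2_c7 LD3_c11) Lrfl Lrfl
theorem f60584 : Led Lsl_et (LP (LK LD1_c11 LD2_c23 LD3_c22)) = (LP (LK LD1_c5 LD2_c46 LD3_c42)) :=
  Lre_e IH (LK LD1_c11 LD2_c23 LD3_c22) (LK LD1_c5 LD2_c46 LD3_c42) Lrfl Lrfl
theorem f60585 : Led Lsl_af (LP (LK LD1_c6 LD2_c14 LD3_c27)) = (LP (LK LD1_c5 LD2_c46 LD3_c42)) :=
  Lgr Lrot50 (Lpr_et (f60493 IH) (Lpr_at (f60579 IH) (Lpr_et (f60584 IH) (Lpn (LP (LK LD1_c5 LD2_c46 LD3_c42))))))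
theorem f60590 : Led Lsl_dt (LP (LK LD1_c11 LD2_c23 LD3_c38)) = (LP (LK LD1_c5 LD2_c46 LD3_c42)) :=
  Lre_d IH (LK LD1_c11 LD2_c23 LD3_c38) (LK LD1_c5 LD2_c46 LD3_c42) Lrfl Lrfl
theorem f60591 : Led Lsl_at (LP (LK LD1_c11 LD2_c23 LD3_c39)) = (LP (LK LD1_c11 LD2_c23 LD3_c38)) :=
  Lgr Lrot51 (Lpe (f60473 IH) (Lpr_af (f60585 IH) (Lpe (f60590 IH) (Lpn (LP (LK LD1_c11 LD2_c23 LD3_c38))))))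
theorem f60599 : Led Lsl_et (LP (LK LD1_c20 LD2_c21 LD3_c28)) = (LP (LK LD1_c11 LD2_c23 LD3_c39)) :=
  Lre_e IH (LK LD1_c20 LD2_c21 LD3_c28) (LK LD1_c11 LD2_c23 LD3_c39) Lrfl Lrfl
theorem f60600 : Led Lsl_et (LP (LK LD1_c11 LD2_c23 LD3_c38)) = (LP (LK LD1_c20 LD2_c21 LD3_c27)) :=
  Lre_e IH (LK LD1_c11 LD2_c23 LD3_c38) (LK LD1_c20 LD2_c21 LD3_c27) Lrfl Lrfl
theorem f60601 : Led Lsl_af (LP (LK LD1_c20 LD2_c21 LD3_c28)) = (LP (LK LD1_c20 LD2_c21 LD3_c27)) :=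
  Lgr Lrot50 (Lpr_et (f60599 IH) (Lpr_at (f60591 IH) (Lpr_et (f60600 IH) (Lpn (LP (LK LD1_c20 LD2_c21 LD3_c27))))))
theorem f60290 : Led Lsl_ct (LP (LK LD1_c20 LD2_c21 LD3_c28)) = (LP (LK LD1_c11 LD2_c23 LD3_c40)) :=
  Lre_c IH (LK LD1_c20 LD2_c21 LD3_c28) (LK LD1_c11 LD2_c23 LD3_c40) Lrfl Lrfl
theorem f56464 : Led Lsl_et (LP (LK LD1_c12 LD2_c7 LD3_c15)) = (LP (LK LD1_c6 LD2_c14 LD3_c28)) :=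
  Lre_e IH (LK LD1_c12 LD2_c7 LD3_c15) (LK LD1_c6 LD2_c14 LD3_c28) Lrfl Lrfl
theorem f60294 : Led Lsl_et (LP (LK LD1_c5 LD2_c46 LD3_c43)) = (LP (LK LD1_c11 LD2_c23 LD3_c40)) :=
  Lre_e IH (LK LD1_c5 LD2_c46 LD3_c43) (LK LD1_c11 LD2_c23 LD3_c40) Lrfl Lrfl
theorem f60498 : Led Lsl_af (LP (LK LD1_c12 LD2_c7 LD3_c15)) = (LP (LK LD1_c11 LD2_c23 LD3_c40)) :=
  Lgr Lrot50 (Lpr_et (f56464 IH) (Lpr_at (f60489 IH) (Lpr_et (f60294 IH) (Lpn (LP (LK LD1_c11 LD2_c23 LD3_c40))))))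
theorem f60616 : Led Lsl_ct (LP (LK LD1_c12 LD2_c7 LD3_c15)) = (LP (LK LD1_c20 LD2_c21 LD3_c27)) :=
  Lgr Lrot111 (Lpr_af (f60498 IH) (Lpe (f60290 IH) (Lpr_af (f60601 IH) (Lpn (LP (LK LD1_c20 LD2_c21 LD3_c27))))))
theorem f60619 : Led Lsl_cf (LP (LK LD1_c12 LD2_c7 LD3_c15)) = (LP (LK LD1_c20 LD2_c21 LD3_c27)) :=
  Lgr Lrot11 (Lpr_ct (f60616 IH) (Lpn (LP (LK LD1_c20 LD2_c21 LD3_c27))))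
theorem f60622 : Led Lsl_ct (LP (LK LD1_c6 LD2_c14 LD3_c28)) = (LP (LK LD1_c11 LD2_c23 LD3_c38)) :=
  Lgr Lrot15 (Lpe (f56464 IH) (Lpr_cf (f60619 IH) (Lpe (f60600 IH) (Lpn (LP (LK LD1_c11 LD2_c23 LD3_c38))))))
theorem f60511 : Led Lsl_ct (LP (LK LD1_c5 LD2_c46 LD3_c42)) = (LP (LK LD1_c2 LD2_c49 LD3_c1)) :=
  Lre_c IH (LK LD1_c5 LD2_c46 LD3_c42) (LK LD1_c2 LD2_c49 LD3_c1) Lrfl Lrfl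
theorem f59281 : Led Lsl_dt (LP (LK LD1_c2 LD2_c49 LD3_c1)) = (LP (LK LD1_c1 LD2_c20 LD3_c36)) :=
  Lre_d IH (LK LD1_c2 LD2_c49 LD3_c1) (LK LD1_c1 LD2_c20 LD3_c36) Lrfl Lrfl
theorem f59282 : Led Lsl_ct (LP (LK LD1_c1 LD2_c20 LD3_c36)) = (LP (LK LD1_c0 LD2_c37 LD3_c15)) :=
  Lre_c IH (LK LD1_c1 LD2_c20 LD3_c36) (LK LD1_c0 LD2_c37 LD3_c15) Lrfl Lrfl
theorem f59593 : Led Lsl_et (LP (LK LD1_c0 LD2_c37 LD3_c15)) = (LP (LK LD1_c0 LD2_c16 LD3_c36)) :=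
  Lre_e IH (LK LD1_c0 LD2_c37 LD3_c15) (LK LD1_c0 LD2_c16 LD3_c36) Lrfl Lrfl
theorem f59595 : Led Lsl_df (LP (LK LD1_c0 LD2_c37 LD3_c15)) = (LP (LK LD1_c0 LD2_c37 LD3_c15)) :=
  Lgr Lrot70 (Lpr_et (f59593 IH) (Lpe (f59591 IH) (Lpe (K0.f9547 IH) (Lpr_dt (f59587 IH) (Lpr_et (f59594 IH) (Lpn (LP (LK LD1_c0 LD2_c37 LD3_c15))))))))
theorem f59284 : Led Lsl_ct (LP (LK LD1_c0 LD2_c37 LD3_c15)) = (LP (LK LD1_c1 LD2_c20 LD3_c36)) :=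
  Lre_c IH (LK LD1_c0 LD2_c37 LD3_c15) (LK LD1_c1 LD2_c20 LD3_c36) Lrfl Lrfl
theorem f56605 : Led Lsl_dt (LP (LK LD1_c1 LD2_c20 LD3_c36)) = (LP (LK LD1_c2 LD2_c49 LD3_c1)) :=
  Lre_d IH (LK LD1_c1 LD2_c20 LD3_c36) (LK LD1_c2 LD2_c49 LD3_c1) Lrfl Lrfl
theorem f59285 : Led Lsl_ct (LP (LK LD1_c2 LD2_c49 LD3_c1)) = (LP (LK LD1_c5 LD2_c46 LD3_c42)) :=
  Lre_c IH (LK LD1_c2 LD2_c49 LD3_c1) (LK LD1_c5 LD2_c46 LD3_c42) Lrfl Lrfl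
theorem f60486 : Led Lsl_dt (LP (LK LD1_c5 LD2_c46 LD3_c42)) = (LP (LK LD1_c11 LD2_c23 LD3_c38)) :=
  Lre_d IH (LK LD1_c5 LD2_c46 LD3_c42) (LK LD1_c11 LD2_c23 LD3_c38) Lrfl Lrfl
theorem f60480 : Led Lsl_ct (LP (LK LD1_c5 LD2_c46 LD3_c43)) = (LP (LK LD1_c11 LD2_c23 LD3_c39)) :=
  Lre_c IH (LK LD1_c5 LD2_c46 LD3_c43) (LK LD1_c11 LD2_c23 LD3_c39) Lrfl Lrfl
theorem f60597 : Led Lsl_cf (LP (LK LD1_c6 LD2_c14 LD3_c28)) = (LP (LK LD1_c11 LD2_c23 LD3_c38)) :=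
  Lgr Lrot1 (Lpr_at (f60489 IH) (Lpr_ct (f60480 IH) (Lpr_at (f60591 IH) (Lpn (LP (LK LD1_c11 LD2_c23 LD3_c38))))))
theorem f56475 : Led Lsl_dt (LP (LK LD1_c6 LD2_c14 LD3_c28)) = (LP (LK LD1_c3 LD2_c4 LD3_c6)) :=
  Lre_d IH (LK LD1_c6 LD2_c14 LD3_c28) (LK LD1_c3 LD2_c4 LD3_c6) Lrfl Lrfl
theorem f60420 : Led Lsl_ct (LP (LK LD1_c3 LD2_c4 LD3_c6)) = (LP (LK LD1_c1 LD2_c28 LD3_c23)) :=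
  Lgr Lrot15 (Lpr_ef (f56458 IH) (Lpe (f46633 IH) (Lpr_ef (f60413 IH) (Lpn (LP (LK LD1_c1 LD2_c28 LD3_c23))))))
theorem f60624 : Led Lsl_df (LP (LK LD1_c1 LD2_c28 LD3_c23)) = (LP (LK LD1_c1 LD2_c28 LD3_c23)) :=
  Lgr Lrot43 (Lpe (f60429 IH) (Lpr_dt (f56457 IH) (Lpr_ct (f60622 IH) (Lpr_dt (f60590 IH) (Lpr_ct (f60511 IH) (Lpr_dt (f59281 IH) (Lpr_ct (f59282 IH) (Lpe (f59595 IH) (Lpr_ct (f59284 IH) (Lpr_dt (f56605 IH) (Lpr_ct (f59285 IH) (Lpr_dt (f60486 IH) (Lpe (f60597 IH) (Lpr_dt (f56475 IH) (Lpr_ct (f60420 IH) (Lpn (LP (LK LD1_c1 LD2_c28 LD3_c23))))))))))))))))))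
theorem f60417 : Led Lsl_bt (LP (LK LD1_c0 LD2_c40 LD3_c56)) = (LP (LK LD1_c1 LD2_c28 LD3_c23)) :=
  Lre_b IH (LK LD1_c0 LD2_c40 LD3_c56) (LK LD1_c1 LD2_c28 LD3_c23) Lrfl Lrfl
theorem f60705 : Led Lsl_dt (LP (LK LD1_c0 LD2_c40 LD3_c56)) = (LP (LK LD1_c0 LD2_c40 LD3_c56)) :=
  Lgr Lrot79 (Lpe (f60426 IH) (Lpr_df (f60624 IH) (Lpe (f60417 IH) (Lpn (LP (LK LD1_c0 LD2_c40 LD3_c56))))))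
theorem f60720 : Led Lsl_ft (LP (LK LD1_c0 LD2_c40 LD3_c56)) = (LP (LK LD1_c0 LD2_c18 LD3_c19)) :=
  Lre_f IH (LK LD1_c0 LD2_c40 LD3_c56) (LK LD1_c0 LD2_c18 LD3_c19) Lrfl Lrfl
theorem f60721 : Led Lsl_df (LP (LK LD1_c0 LD2_c18 LD3_c19)) = (LP (LK LD1_c0 LD2_c18 LD3_c19)) :=
  Lgr Lrot78 (Lpr_ft (f60719 IH) (Lpr_dt (f60705 IH) (Lpr_ft (f60720 IH) (Lpn (LP (LK LD1_c0 LD2_c18 LD3_c19))))))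
theorem f60897 : Led Lsl_af (LP (LK LD1_c0 LD2_c30 LD3_c3)) = (LP (LK LD1_c0 LD2_c18 LD3_c19)) :=
  Lgr Lrot0 (Lpr_at (f60895 IH) (Lpn (LP (LK LD1_c0 LD2_c18 LD3_c19))))
theorem f60901 : Led Lsl_df (LP (LK LD1_c0 LD2_c30 LD3_c3)) = (LP (LK LD1_c0 LD2_c30 LD3_c3)) :=
  Lgr Lrot18 (Lpr_at (f60895 IH) (Lpe (f60721 IH) (Lpe (f60897 IH) (Lpn (LP (LK LD1_c0 LD2_c30 LD3_c3))))))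
theorem f25959 : Led Lsl_et (LP (LK LD1_c0 LD2_c30 LD3_c3)) = (LP (LK LD1_c0 LD2_c13 LD3_c19)) :=
  Lre_e IH (LK LD1_c0 LD2_c30 LD3_c3) (LK LD1_c0 LD2_c13 LD3_c19) Lrfl Lrfl
theorem f26732 : Led Lsl_et (LP (LK LD1_c0 LD2_c7 LD3_c48)) = (LP (LK LD1_c0 LD2_c7 LD3_c48)) :=
  Lgr Lrot158 (Lpr_cf (K0.f26724 IH) (Lpr_ef (K0.f7342 IH) (Lpe (K0.f26730 IH) (Lpn (LP (LK LD1_c0 LD2_c7 LD3_c48))))))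
theorem f60905 : Led Lsl_dt (LP (LK LD1_c0 LD2_c7 LD3_c48)) = (LP (LK LD1_c0 LD2_c13 LD3_c19)) :=
  Lgr Lrot77 (Lpe (f26732 IH) (Lpr_df (f36284 IH) (Lpe (f25959 IH) (Lpr_df (f60901 IH) (Lpe (f59522 IH) (Lpn (LP (LK LD1_c0 LD2_c13 LD3_c19))))))))
theorem f26618 : Led Lsl_ct (LP (LK LD1_c0 LD2_c3 LD3_c39)) = (LP (LK LD1_c0 LD2_c4 LD3_c16)) :=
  Lgr Lrot7 (Lpr_df (K0.f26612 IH) (Lpe (K0.f9400 IH) (Lpe (K0.f9367 IH) (Lpe (K0.f6726 IH) (Lpr_cf (K0.f20040 IH) (Lpr_gt (K0.f7307 IH) (Lpr_dt (K0.f7298 IH) (Lpr_gt (K0.f7308 IH) (Lpr_dt (K0.f13429 IH) (Lpn (LP (LK LD1_c0 LD2_c4 LD3_c16))))))))))))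
theorem f20555 : Led Lsl_gt (LP (LK LD1_c0 LD2_c7 LD3_c26)) = (LP (LK LD1_c0 LD2_c16 LD3_c39)) :=
  Lre_g IH (LK LD1_c0 LD2_c7 LD3_c26) (LK LD1_c0 LD2_c16 LD3_c39) Lrfl Lrfl
theorem f60910 : Led Lsl_ct (LP (LK LD1_c0 LD2_c16 LD3_c39)) = (LP (LK LD1_c0 LD2_c13 LD3_c19)) :=
  Lgr Lrot151 (Lpe (f20555 IH) (Lpe (f13444 IH) (Lpe (K0.f20546 IH) (Lpr_dt (K0.f7104 IH) (Lpr_gt (K0.f205 IH) (Lpr_ct (f26618 IH) (Lpe (K0.f13421 IH) (Lpe (K0.f26724 IH) (Lpr_dt (f60905 IH) (Lpn (LP (LK LD1_c0 LD2_c13 LD3_c19))))))))))))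
theorem f11009 : Led Lsl_gt (LP (LK LD1_c0 LD2_c13 LD3_c51)) = (LP (LK LD1_c0 LD2_c8 LD3_c57)) :=
  Lre_g IH (LK LD1_c0 LD2_c13 LD3_c51) (LK LD1_c0 LD2_c8 LD3_c57) Lrfl Lrfl
theorem f13589 : Led Lsl_dt (LP (LK LD1_c0 LD2_c2 LD3_c54)) = (LP (LK LD1_c0 LD2_c6 LD3_c19)) :=
  Lre_d IH (LK LD1_c0 LD2_c2 LD3_c54) (LK LD1_c0 LD2_c6 LD3_c19) Lrfl Lrfl
theorem f13591 : Led Lsl_df (LP (LK LD1_c0 LD2_c9 LD3_c3)) = (LP (LK LD1_c0 LD2_c13 LD3_c51)) :=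
  Lgr Lrot174 (Lpr_ct (K0.f9684 IH) (Lpe (K0.f3965 IH) (Lpe (K0.f363 IH) (Lpe (K0.f7375 IH) (Lpe (K0.f3797 IH) (Lpr_ct (K0.f13554 IH) (Lpr_gt (K0.f13588 IH) (Lpr_dt (f13589 IH) (Lpr_gt (K0.f13590 IH) (Lpn (LP (LK LD1_c0 LD2_c13 LD3_c51))))))))))))
theorem f26372 : Led Lsl_gt (LP (LK LD1_c0 LD2_c3 LD3_c44)) = (LP (LK LD1_c0 LD2_c2 LD3_c51)) :=
  Lgr Lrot150 (Lpe (K0.f11025 IH) (Lpe (K0.f20064 IH) (Lpr_df (f13591 IH) (Lpr_gt (f11009 IH) (Lpr_ct (K0.f20081 IH) (Lpr_gt (K0.f20082 IH) (Lpr_ct (K0.f26357 IH) (Lpe (K0.f26059 IH) (Lpe (K0.f26046 IH) (Lpn (LP (LK LD1_c0 LD2_c2 LD3_c51))))))))))))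
theorem f26595 : Led Lsl_dt (LP (LK LD1_c0 LD2_c6 LD3_c10)) = (LP (LK LD1_c0 LD2_c2 LD3_c50)) :=
  Lre_d IH (LK LD1_c0 LD2_c6 LD3_c10) (LK LD1_c0 LD2_c2 LD3_c50) Lrfl Lrfl
theorem f60908 : Led Lsl_gf (LP (LK LD1_c0 LD2_c6 LD3_c10)) = (LP (LK LD1_c0 LD2_c13 LD3_c19)) :=
  Lgr Lrot143 (Lpr_dt (f26595 IH) (Lpe (K0.f12695 IH) (Lpe (K0.f25737 IH) (Lpe (f26372 IH) (Lpe (K0.f20078 IH) (Lpe (K0.f181 IH) (Lpe (K0.f22448 IH) (Lpe (K0.f26738 IH) (Lpr_dt (f60905 IH) (Lpn (LP (LK LD1_c0 LD2_c13 LD3_c19))))))))))))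
theorem f60927 : Led Lsl_ct (LP (LK LD1_c0 LD2_c13 LD3_c26)) = (LP (LK LD1_c0 LD2_c29 LD3_c45)) :=
  Lgr Lrot110 (Lpr_gf (f25999 IH) (Lpe (K0.f20278 IH) (Lpr_gf (f56582 IH) (Lpe (f20556 IH) (Lpr_gt (f20555 IH) (Lpr_ct (f60910 IH) (Lpe (f60908 IH) (Lpr_ct (K0.f26368 IH) (Lpr_df (K0.f26608 IH) (Lpn (LP (LK LD1_c0 LD2_c29 LD3_c45))))))))))))
theorem f20967 : Led Lsl_gt (LP (LK LD1_c0 LD2_c13 LD3_c24)) = (LP (LK LD1_c0 LD2_c6 LD3_c7)) :=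
  Lre_g IH (LK LD1_c0 LD2_c13 LD3_c24) (LK LD1_c0 LD2_c6 LD3_c7) Lrfl Lrfl
theorem f13541 : Led Lsl_gt (LP (LK LD1_c0 LD2_c8 LD3_c36)) = (LP (LK LD1_c0 LD2_c19 LD3_c7)) :=
  Lre_g IH (LK LD1_c0 LD2_c8 LD3_c36) (LK LD1_c0 LD2_c19 LD3_c7) Lrfl Lrfl
theorem f60962 : Led Lsl_df (LP (LK LD1_c0 LD2_c13 LD3_c24)) = (LP (LK LD1_c0 LD2_c19 LD3_c7)) :=
  Lgr Lrot16 (Lpr_gt (f20967 IH) (Lpr_dt (K0.f25728 IH) (Lpr_ct (f60927 IH) (Lpe (K0.f26772 IH) (Lpr_gf (K0.f26936 IH) (Lpe (K0.f22836 IH) (Lpe (K0.f23906 IH) (Lpe (f37929 IH) (Lpr_gt (f13541 IH) (Lpn (LP (LK LD1_c0 LD2_c19 LD3_c7))))))))))))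
theorem f61007 : Led Lsl_ct (LP (LK LD1_c0 LD2_c13 LD3_c24)) = (LP (LK LD1_c0 LD2_c8 LD3_c59)) :=
  Lgr Lrot7 (Lpr_df (f60962 IH) (Lpe (f13541 IH) (Lpe (f13540 IH) (Lpe (K0.f13536 IH) (Lpe (K0.f7381 IH) (Lpr_gt (K0.f1634 IH) (Lpe (K0.f7360 IH) (Lpr_gt (K0.f20827 IH) (Lpr_dt (K0.f7359 IH) (Lpn (LP (LK LD1_c0 LD2_c8 LD3_c59))))))))))))
theorem f9649 : Led Lsl_at (LP (LK LD1_c0 LD2_c9 LD3_c2)) = (LP (LK LD1_c0 LD2_c9 LD3_c1)) :=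
  Lgr Lrot51 (Lpr_df (K0.f9647 IH) (Lpe (K0.f7344 IH) (Lpe (K0.f7341 IH) (Lpn (LP (LK LD1_c0 LD2_c9 LD3_c1))))))
theorem f20833 : Led Lsl_gt (LP (LK LD1_c0 LD2_c8 LD3_c59)) = (LP (LK LD1_c0 LD2_c4 LD3_c19)) :=
  Lgr Lrot5 (Lpe (K0.f9666 IH) (Lpr_at (f9649 IH) (Lpr_gf (K0.f20831 IH) (Lpn (LP (LK LD1_c0 LD2_c4 LD3_c19))))))
theorem f61220 : Led Lsl_gf (LP (LK LD1_c0 LD2_c13 LD3_c24)) = (LP (LK LD1_c0 LD2_c6 LD3_c11)) :=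
  Lgr Lrot147 (Lpr_ct (f61007 IH) (Lpr_gt (f20833 IH) (Lpr_ct (K0.f21016 IH) (Lpe (K0.f24599 IH) (Lpr_cf (K0.f26459 IH) (Lpe (K0.f20276 IH) (Lpe (K0.f13476 IH) (Lpe (K0.f26253 IH) (Lpe (K0.f26059 IH) (Lpn (LP (LK LD1_c0 LD2_c6 LD3_c11))))))))))))
theorem f61004 : Led Lsl_dt (LP (LK LD1_c0 LD2_c13 LD3_c24)) = (LP (LK LD1_c0 LD2_c19 LD3_c7)) :=
  Lgr Lrot42 (Lpr_df (f60962 IH) (Lpn (LP (LK LD1_c0 LD2_c19 LD3_c7))))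
theorem f61009 : Led Lsl_gf (LP (LK LD1_c0 LD2_c8 LD3_c38)) = (LP (LK LD1_c0 LD2_c19 LD3_c7)) :=
  Lgr Lrot147 (Lpe (f59479 IH) (Lpe (K0.f22445 IH) (Lpr_ct (f20072 IH) (Lpe (K0.f20067 IH) (Lpe (K0.f11027 IH) (Lpe (K0.f20958 IH) (Lpe (K0.f20966 IH) (Lpe (f20967 IH) (Lpr_df (f60962 IH) (Lpn (LP (LK LD1_c0 LD2_c19 LD3_c7))))))))))))
theorem f61246 : Led Lsl_gf (LP (LK LD1_c0 LD2_c2 LD3_c46)) = (LP (LK LD1_c0 LD2_c2 LD3_c51)) :=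
  Lgr Lrot144 (Lpr_dt (K0.f13629 IH) (Lpr_gt (K0.f1471 IH) (Lpe (f24405 IH) (Lpe (K0.f23345 IH) (Lpe (f23380 IH) (Lpr_gf (f61009 IH) (Lpe (f61004 IH) (Lpr_gf (f61220 IH) (Lpe (K0.f26046 IH) (Lpn (LP (LK LD1_c0 LD2_c2 LD3_c51))))))))))))
theorem f61630 : Led Lsl_gt (LP (LK LD1_c0 LD2_c6 LD3_c5)) = (LP (LK LD1_c0 LD2_c9 LD3_c3)) :=
  Lgr Lrot150 (Lpe (K0.f13625 IH) (Lpr_gf (f61246 IH) (Lpe (K0.f7182 IH) (Lpr_gt (K0.f6975 IH) (Lpr_ct (K0.f7004 IH) (Lpr_gt (K0.f7005 IH) (Lpr_ct (K0.f20043 IH) (Lpe (K0.f7376 IH) (Lpe (K0.f9684 IH) (Lpn (LP (LK LD1_c0 LD2_c9 LD3_c3))))))))))))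
theorem f26314 : Led Lsl_bf (LP (LK LD1_c0 LD2_c2 LD3_c51)) = (LP (LK LD1_c0 LD2_c1 LD3_c41)) :=
  Lgr Lrot24 (Lpr_bt (K0.f26306 IH) (Lpn (LP (LK LD1_c0 LD2_c1 LD3_c41))))
theorem f61633 : Led Lsl_gt (LP (LK LD1_c0 LD2_c8 LD3_c19)) = (LP (LK LD1_c0 LD2_c3 LD3_c53)) :=
  Lgr Lrot65 (Lpr_cf (K0.f24966 IH) (Lpe (K0.f9705 IH) (Lpe (K0.f3966 IH) (Lpe (K0.f20055 IH) (Lpr_ct (K0.f5831 IH) (Lpe (f61630 IH) (Lpe (K0.f13625 IH) (Lpr_gf (f61246 IH) (Lpr_bf (f26314 IH) (Lpr_ct (f7123 IH) (Lpn (LP (LK LD1_c0 LD2_c3 LD3_c53)))))))))))))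
theorem f25048 : Led Lsl_dt (LP (LK LD1_c0 LD2_c8 LD3_c19)) = (LP (LK LD1_c0 LD2_c18 LD3_c29)) :=
  Lre_d IH (LK LD1_c0 LD2_c8 LD3_c19) (LK LD1_c0 LD2_c18 LD3_c29) Lrfl Lrfl
theorem f21003 : Led Lsl_ct (LP (LK LD1_c0 LD2_c3 LD3_c53)) = (LP (LK LD1_c0 LD2_c1 LD3_c41)) :=
  Lre_c IH (LK LD1_c0 LD2_c3 LD3_c53) (LK LD1_c0 LD2_c1 LD3_c41) Lrfl Lrfl
theorem f7100 : Led Lsl_dt (LP (LK LD1_c0 LD2_c8 LD3_c6)) = (LP (LK LD1_c0 LD2_c3 LD3_c43)) :=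
  Lre_d IH (LK LD1_c0 LD2_c8 LD3_c6) (LK LD1_c0 LD2_c3 LD3_c43) Lrfl Lrfl
theorem f21006 : Led Lsl_ct (LP (LK LD1_c0 LD2_c18 LD3_c4)) = (LP (LK LD1_c0 LD2_c8 LD3_c6)) :=
  Lre_c IH (LK LD1_c0 LD2_c18 LD3_c4) (LK LD1_c0 LD2_c8 LD3_c6) Lrfl Lrfl
theorem f23005 : Led Lsl_ft (LP (LK LD1_c0 LD2_c17 LD3_c50)) = (LP (LK LD1_c0 LD2_c30 LD3_c1)) :=
  Lre_f IH (LK LD1_c0 LD2_c17 LD3_c50) (LK LD1_c0 LD2_c30 LD3_c1) Lrfl Lrfl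
theorem f23006 : Led Lsl_at (LP (LK LD1_c0 LD2_c30 LD3_c1)) = (LP (LK LD1_c0 LD2_c18 LD3_c4)) :=
  Lre_a IH (LK LD1_c0 LD2_c30 LD3_c1) (LK LD1_c0 LD2_c18 LD3_c4) Lrfl Lrfl
theorem f23007 : Led Lsl_gf (LP (LK LD1_c0 LD2_c18 LD3_c4)) = (LP (LK LD1_c0 LD2_c29 LD3_c37)) :=
  Lgr Lrot76 (Lpe (f23006 IH) (Lpe (f23005 IH) (Lpr_gt (K0.f23002 IH) (Lpn (LP (LK LD1_c0 LD2_c29 LD3_c37))))))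
theorem f61666 : Led Lsl_gt (LP (LK LD1_c0 LD2_c18 LD3_c29)) = (LP (LK LD1_c0 LD2_c13 LD3_c38)) :=
  Lgr Lrot9 (Lpe (f25048 IH) (Lpr_gt (f61633 IH) (Lpr_ct (f21003 IH) (Lpr_gt (K0.f20999 IH) (Lpr_ct (K0.f7099 IH) (Lpe (f7100 IH) (Lpe (f21006 IH) (Lpr_gf (f23007 IH) (Lpr_cf (K0.f26345 IH) (Lpn (LP (LK LD1_c0 LD2_c13 LD3_c38))))))))))))
theorem f8311 : Led Lsl_dt (LP (LK LD1_c0 LD2_c16 LD3_c58)) = (LP (LK LD1_c0 LD2_c7 LD3_c33)) :=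
  Lre_d IH (LK LD1_c0 LD2_c16 LD3_c58) (LK LD1_c0 LD2_c7 LD3_c33) Lrfl Lrfl
theorem f61764 : Led Lsl_cf (LP (LK LD1_c0 LD2_c18 LD3_c29)) = (LP (LK LD1_c0 LD2_c37 LD3_c58)) :=
  Lgr Lrot169 (Lpr_gt (f61666 IH) (Lpe (K0.f26345 IH) (Lpe (K0.f23023 IH) (Lpr_cf (K0.f34712 IH) (Lpr_gf (K0.f26021 IH) (Lpe (K0.f13478 IH) (Lpr_gf (K0.f20271 IH) (Lpe (f8311 IH) (Lpr_gt (f20279 IH) (Lpn (LP (LK LD1_c0 LD2_c37 LD3_c58))))))))))))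
theorem f25052 : Led Lsl_dt (LP (LK LD1_c0 LD2_c18 LD3_c29)) = (LP (LK LD1_c0 LD2_c8 LD3_c19)) :=
  Lre_d IH (LK LD1_c0 LD2_c18 LD3_c29) (LK LD1_c0 LD2_c8 LD3_c19) Lrfl Lrfl
theorem f61812 : Led Lsl_dt (LP (LK LD1_c0 LD2_c17 LD3_c29)) = (LP (LK LD1_c0 LD2_c37 LD3_c58)) :=
  Lgr Lrot140 (Lpe (f213 IH) (Lpe (f212 IH) (Lpr_cf (K0.f104 IH) (Lpe (K0.f204 IH) (Lpr_ft (K0.f217 IH) (Lpe (K0.f9660 IH) (Lpe (f25046 IH) (Lpe (f25052 IH) (Lpr_cf (f61764 IH) (Lpn (LP (LK LD1_c0 LD2_c37 LD3_c58))))))))))))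
theorem f36258 : Led Lsl_at (LP (LK LD1_c0 LD2_c32 LD3_c57)) = (LP (LK LD1_c0 LD2_c20 LD3_c19)) :=
  Lre_a IH (LK LD1_c0 LD2_c32 LD3_c57) (LK LD1_c0 LD2_c20 LD3_c19) Lrfl Lrfl
theorem f36259 : Led Lsl_ft (LP (LK LD1_c0 LD2_c14 LD3_c47)) = (LP (LK LD1_c0 LD2_c32 LD3_c57)) :=
  Lre_f IH (LK LD1_c0 LD2_c14 LD3_c47) (LK LD1_c0 LD2_c32 LD3_c57) Lrfl Lrfl
theorem f36260 : Led Lsl_af (LP (LK LD1_c0 LD2_c14 LD3_c47)) = (LP (LK LD1_c0 LD2_c24 LD3_c56)) :=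
  Lgr Lrot45 (Lpr_ft (f36259 IH) (Lpr_at (f36258 IH) (Lpr_ft (f36248 IH) (Lpn (LP (LK LD1_c0 LD2_c24 LD3_c56))))))
theorem f58937 : Led Lsl_gf (LP (LK LD1_c0 LD2_c29 LD3_c19)) = (LP (LK LD1_c0 LD2_c20 LD3_c19)) :=
  Lgr Lrot47 (Lpr_gt (f58933 IH) (Lpr_af (f36260 IH) (Lpe (f36248 IH) (Lpn (LP (LK LD1_c0 LD2_c20 LD3_c19))))))
theorem f61818 : Led Lsl_gf (LP (LK LD1_c0 LD2_c8 LD3_c22)) = (LP (LK LD1_c0 LD2_c9 LD3_c9)) :=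
  Lgr Lrot144 (Lpr_dt (f24961 IH) (Lpr_gt (K0.f24960 IH) (Lpr_dt (f25048 IH) (Lpr_cf (f61764 IH) (Lpe (f61812 IH) (Lpe (f20196 IH) (Lpe (K0.f20199 IH) (Lpr_gf (f58937 IH) (Lpe (f13539 IH) (Lpn (LP (LK LD1_c0 LD2_c9 LD3_c9))))))))))))
theorem f13538 : Led Lsl_dt (LP (LK LD1_c0 LD2_c4 LD3_c14)) = (LP (LK LD1_c0 LD2_c9 LD3_c9)) :=
  Lre_d IH (LK LD1_c0 LD2_c4 LD3_c14) (LK LD1_c0 LD2_c9 LD3_c9) Lrfl Lrfl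
theorem f7134 : Led Lsl_ct (LP (LK LD1_c0 LD2_c2 LD3_c55)) = (LP (LK LD1_c0 LD2_c6 LD3_c20)) :=
  Lre_c IH (LK LD1_c0 LD2_c2 LD3_c55) (LK LD1_c0 LD2_c6 LD3_c20) Lrfl Lrfl
theorem f13545 : Led Lsl_gt (LP (LK LD1_c0 LD2_c17 LD3_c17)) = (LP (LK LD1_c0 LD2_c7 LD3_c40)) :=
  Lre_g IH (LK LD1_c0 LD2_c17 LD3_c17) (LK LD1_c0 LD2_c7 LD3_c40) Lrfl Lrfl
theorem f61823 : Led Lsl_ct (LP (LK LD1_c0 LD2_c8 LD3_c22)) = (LP (LK LD1_c0 LD2_c17 LD3_c17)) :=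
  Lgr Lrot152 (Lpr_gf (f61818 IH) (Lpe (f13538 IH) (Lpr_gt (K0.f13536 IH) (Lpr_ct (f13542 IH) (Lpr_gt (K0.f7480 IH) (Lpr_ct (f7134 IH) (Lpe (K0.f13543 IH) (Lpe (K0.f13544 IH) (Lpe (f13545 IH) (Lpn (LP (LK LD1_c0 LD2_c17 LD3_c17))))))))))))
theorem f61873 : Led Lsl_bt (LP (LK LD1_c0 LD2_c8 LD3_c22)) = (LP (LK LD1_c0 LD2_c18 LD3_c36)) :=
  Lre_b IH (LK LD1_c0 LD2_c8 LD3_c22) (LK LD1_c0 LD2_c18 LD3_c36) Lrfl Lrfl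
theorem f25018 : Led Lsl_gt (LP (LK LD1_c0 LD2_c18 LD3_c36)) = (LP (LK LD1_c0 LD2_c41 LD3_c36)) :=
  Lre_g IH (LK LD1_c0 LD2_c18 LD3_c36) (LK LD1_c0 LD2_c41 LD3_c36) Lrfl Lrfl
theorem f25019 : Led Lsl_ct (LP (LK LD1_c0 LD2_c41 LD3_c36)) = (LP (LK LD1_c1 LD2_c29 LD3_c60)) :=
  Lre_c IH (LK LD1_c0 LD2_c41 LD3_c36) (LK LD1_c1 LD2_c29 LD3_c60) Lrfl Lrfl
theorem f22974 : Led Lsl_gt (LP (LK LD1_c0 LD2_c8 LD3_c55)) = (LP (LK LD1_c0 LD2_c17 LD3_c17)) :=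
  Lre_g IH (LK LD1_c0 LD2_c8 LD3_c55) (LK LD1_c0 LD2_c17 LD3_c17) Lrfl Lrfl
theorem f61874 : Led Lsl_bt (LP (LK LD1_c0 LD2_c3 LD3_c61)) = (LP (LK LD1_c0 LD2_c8 LD3_c51)) :=
  Lre_b IH (LK LD1_c0 LD2_c3 LD3_c61) (LK LD1_c0 LD2_c8 LD3_c51) Lrfl Lrfl
theorem f61875 : Led Lsl_gt (LP (LK LD1_c0 LD2_c19 LD3_c44)) = (LP (LK LD1_c0 LD2_c8 LD3_c51)) :=
  Lre_g IH (LK LD1_c0 LD2_c19 LD3_c44) (LK LD1_c0 LD2_c8 LD3_c51) Lrfl Lrfl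
theorem f61876 : Led Lsl_bt (LP (LK LD1_c0 LD2_c44 LD3_c14)) = (LP (LK LD1_c0 LD2_c19 LD3_c44)) :=
  Lre_b IH (LK LD1_c0 LD2_c44 LD3_c14) (LK LD1_c0 LD2_c19 LD3_c44) Lrfl Lrfl
theorem f61877 : Led Lsl_ct (LP (LK LD1_c0 LD2_c44 LD3_c14)) = (LP (LK LD1_c1 LD2_c35 LD3_c9)) :=
  Lre_c IH (LK LD1_c0 LD2_c44 LD3_c14) (LK LD1_c1 LD2_c35 LD3_c9) Lrfl Lrfl
theorem f61878 : Led Lsl_gt (LP (LK LD1_c1 LD2_c29 LD3_c60)) = (LP (LK LD1_c1 LD2_c35 LD3_c9)) :=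
  Lgr Lrot149 (Lpe (f25019 IH) (Lpe (f25018 IH) (Lpe (f61873 IH) (Lpr_ct (f61823 IH) (Lpe (f22974 IH) (Lpe (K0.f22828 IH) (Lpr_bt (f61874 IH) (Lpe (f61875 IH) (Lpe (f61876 IH) (Lpr_ct (f61877 IH) (Lpn (LP (LK LD1_c1 LD2_c35 LD3_c9)))))))))))))
theorem f25017 : Led Lsl_dt (LP (LK LD1_c0 LD2_c8 LD3_c21)) = (LP (LK LD1_c0 LD2_c18 LD3_c36)) :=
  Lre_d IH (LK LD1_c0 LD2_c8 LD3_c21) (LK LD1_c0 LD2_c18 LD3_c36) Lrfl Lrfl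
theorem f24970 : Led Lsl_gt (LP (LK LD1_c0 LD2_c8 LD3_c21)) = (LP (LK LD1_c0 LD2_c18 LD3_c33)) :=
  Lre_g IH (LK LD1_c0 LD2_c8 LD3_c21) (LK LD1_c0 LD2_c18 LD3_c33) Lrfl Lrfl
theorem f24971 : Led Lsl_ct (LP (LK LD1_c0 LD2_c18 LD3_c33)) = (LP (LK LD1_c0 LD2_c41 LD3_c28)) :=
  Lre_c IH (LK LD1_c0 LD2_c18 LD3_c33) (LK LD1_c0 LD2_c41 LD3_c28) Lrfl Lrfl
theorem f24968 : Led Lsl_ct (LP (LK LD1_c0 LD2_c3 LD3_c49)) = (LP (LK LD1_c0 LD2_c1 LD3_c39)) :=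
  Lre_c IH (LK LD1_c0 LD2_c3 LD3_c49) (LK LD1_c0 LD2_c1 LD3_c39) Lrfl Lrfl
theorem f24969 : Led Lsl_bt (LP (LK LD1_c0 LD2_c3 LD3_c49)) = (LP (LK LD1_c0 LD2_c8 LD3_c21)) :=
  Lre_b IH (LK LD1_c0 LD2_c3 LD3_c49) (LK LD1_c0 LD2_c8 LD3_c21) Lrfl Lrfl
theorem f7105 : Led Lsl_bt (LP (LK LD1_c0 LD2_c3 LD3_c43)) = (LP (LK LD1_c0 LD2_c8 LD3_c5)) :=
  Lre_b IH (LK LD1_c0 LD2_c3 LD3_c43) (LK LD1_c0 LD2_c8 LD3_c5) Lrfl Lrfl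
theorem f21160 : Led Lsl_gt (LP (LK LD1_c0 LD2_c18 LD3_c0)) = (LP (LK LD1_c0 LD2_c8 LD3_c5)) :=
  Lre_g IH (LK LD1_c0 LD2_c18 LD3_c0) (LK LD1_c0 LD2_c8 LD3_c5) Lrfl Lrfl
theorem f24972 : Led Lsl_bt (LP (LK LD1_c0 LD2_c40 LD3_c13)) = (LP (LK LD1_c0 LD2_c18 LD3_c0)) :=
  Lre_b IH (LK LD1_c0 LD2_c40 LD3_c13) (LK LD1_c0 LD2_c18 LD3_c0) Lrfl Lrfl
theorem f24973 : Led Lsl_ct (LP (LK LD1_c0 LD2_c40 LD3_c13)) = (LP (LK LD1_c1 LD2_c26 LD3_c52)) :=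
  Lre_c IH (LK LD1_c0 LD2_c40 LD3_c13) (LK LD1_c1 LD2_c26 LD3_c52) Lrfl Lrfl
theorem f24974 : Led Lsl_gt (LP (LK LD1_c0 LD2_c41 LD3_c28)) = (LP (LK LD1_c1 LD2_c26 LD3_c52)) :=
  Lgr Lrot149 (Lpe (f24971 IH) (Lpe (f24970 IH) (Lpe (f24969 IH) (Lpr_ct (f24968 IH) (Lpr_gf (K0.f24948 IH) (Lpe (K0.f7101 IH) (Lpr_bt (f7105 IH) (Lpe (f21160 IH) (Lpe (f24972 IH) (Lpr_ct (f24973 IH) (Lpn (LP (LK LD1_c1 LD2_c26 LD3_c52)))))))))))))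
theorem f25016 : Led Lsl_ct (LP (LK LD1_c1 LD2_c26 LD3_c52)) = (LP (LK LD1_c0 LD2_c40 LD3_c13)) :=
  Lre_c IH (LK LD1_c1 LD2_c26 LD3_c52) (LK LD1_c0 LD2_c40 LD3_c13) Lrfl Lrfl
theorem f61934 : Led Lsl_ct (LP (LK LD1_c1 LD2_c35 LD3_c9)) = (LP (LK LD1_c0 LD2_c44 LD3_c14)) :=
  Lre_c IH (LK LD1_c1 LD2_c35 LD3_c9) (LK LD1_c0 LD2_c44 LD3_c14) Lrfl Lrfl
theorem f61937 : Led Lsl_df (LP (LK LD1_c0 LD2_c40 LD3_c13)) = (LP (LK LD1_c0 LD2_c44 LD3_c14)) :=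
  Lgr Lrot162 (Lpe (f25016 IH) (Lpe (f24974 IH) (Lpe (f24971 IH) (Lpe (f24970 IH) (Lpr_dt (f25017 IH) (Lpr_gt (f25018 IH) (Lpr_ct (f25019 IH) (Lpr_gt (f61878 IH) (Lpr_ct (f61934 IH) (Lpn (LP (LK LD1_c0 LD2_c44 LD3_c14))))))))))))
theorem f61956 : Led Lsl_et (LP (LK LD1_c0 LD2_c40 LD3_c13)) = (LP (LK LD1_c1 LD2_c26 LD3_c53)) :=
  Lre_e IH (LK LD1_c0 LD2_c40 LD3_c13) (LK LD1_c1 LD2_c26 LD3_c53) Lrfl Lrfl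
theorem f61957 : Led Lsl_dt (LP (LK LD1_c1 LD2_c26 LD3_c53)) = (LP (LK LD1_c3 LD2_c1 LD3_c40)) :=
  Lre_d IH (LK LD1_c1 LD2_c26 LD3_c53) (LK LD1_c3 LD2_c1 LD3_c40) Lrfl Lrfl
theorem f61958 : Led Lsl_et (LP (LK LD1_c1 LD2_c35 LD3_c10)) = (LP (LK LD1_c0 LD2_c44 LD3_c14)) :=
  Lre_e IH (LK LD1_c1 LD2_c35 LD3_c10) (LK LD1_c0 LD2_c44 LD3_c14) Lrfl Lrfl
theorem f61959 : Led Lsl_dt (LP (LK LD1_c3 LD2_c17 LD3_c6)) = (LP (LK LD1_c1 LD2_c35 LD3_c10)) :=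
  Lre_d IH (LK LD1_c3 LD2_c17 LD3_c6) (LK LD1_c1 LD2_c35 LD3_c10) Lrfl Lrfl
theorem f61960 : Led Lsl_et (LP (LK LD1_c3 LD2_c1 LD3_c40)) = (LP (LK LD1_c3 LD2_c17 LD3_c6)) :=
  Lgr Lrot71 (Lpe (f61957 IH) (Lpe (f61956 IH) (Lpr_df (f61937 IH) (Lpe (f61958 IH) (Lpe (f61959 IH) (Lpn (LP (LK LD1_c3 LD2_c17 LD3_c6))))))))
theorem f61969 : Led Lsl_ef (LP (LK LD1_c3 LD2_c1 LD3_c40)) = (LP (LK LD1_c3 LD2_c17 LD3_c6)) :=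
  Lgr Lrot88 (Lpr_et (f61960 IH) (Lpn (LP (LK LD1_c3 LD2_c17 LD3_c6))))
theorem f61972 : Led Lsl_bt (LP (LK LD1_c3 LD2_c1 LD3_c40)) = (LP (LK LD1_c1 LD2_c26 LD3_c55)) :=
  Lre_b IH (LK LD1_c3 LD2_c1 LD3_c40) (LK LD1_c1 LD2_c26 LD3_c55) Lrfl Lrfl
theorem f61973 : Led Lsl_bt (LP (LK LD1_c1 LD2_c35 LD3_c16)) = (LP (LK LD1_c3 LD2_c17 LD3_c6)) :=
  Lre_b IH (LK LD1_c1 LD2_c35 LD3_c16) (LK LD1_c3 LD2_c17 LD3_c6) Lrfl Lrfl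
theorem f61974 : Led Lsl_et (LP (LK LD1_c1 LD2_c26 LD3_c55)) = (LP (LK LD1_c1 LD2_c35 LD3_c16)) :=
  Lgr Lrot74 (Lpe (f61972 IH) (Lpr_ef (f61969 IH) (Lpe (f61973 IH) (Lpn (LP (LK LD1_c1 LD2_c35 LD3_c16))))))
theorem f61983 : Led Lsl_dt (LP (LK LD1_c0 LD2_c40 LD3_c15)) = (LP (LK LD1_c1 LD2_c26 LD3_c55)) :=
  Lre_d IH (LK LD1_c0 LD2_c40 LD3_c15) (LK LD1_c1 LD2_c26 LD3_c55) Lrfl Lrfl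
theorem f61984 : Led Lsl_et (LP (LK LD1_c0 LD2_c18 LD3_c0)) = (LP (LK LD1_c0 LD2_c40 LD3_c15)) :=
  Lre_e IH (LK LD1_c0 LD2_c18 LD3_c0) (LK LD1_c0 LD2_c40 LD3_c15) Lrfl Lrfl
theorem f61985 : Led Lsl_dt (LP (LK LD1_c1 LD2_c35 LD3_c16)) = (LP (LK LD1_c0 LD2_c44 LD3_c16)) :=
  Lre_d IH (LK LD1_c1 LD2_c35 LD3_c16) (LK LD1_c0 LD2_c44 LD3_c16) Lrfl Lrfl
theorem f61986 : Led Lsl_et (LP (LK LD1_c0 LD2_c44 LD3_c16)) = (LP (LK LD1_c0 LD2_c19 LD3_c44)) :=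
  Lre_e IH (LK LD1_c0 LD2_c44 LD3_c16) (LK LD1_c0 LD2_c19 LD3_c44) Lrfl Lrfl
theorem f61987 : Led Lsl_df (LP (LK LD1_c0 LD2_c18 LD3_c0)) = (LP (LK LD1_c0 LD2_c19 LD3_c44)) :=
  Lgr Lrot70 (Lpr_et (f61984 IH) (Lpr_dt (f61983 IH) (Lpr_et (f61974 IH) (Lpr_dt (f61985 IH) (Lpr_et (f61986 IH) (Lpn (LP (LK LD1_c0 LD2_c19 LD3_c44))))))))
theorem f12749 : Led Lsl_ct (LP (LK LD1_c0 LD2_c8 LD3_c5)) = (LP (LK LD1_c0 LD2_c4 LD3_c30)) :=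
  Lre_c IH (LK LD1_c0 LD2_c8 LD3_c5) (LK LD1_c0 LD2_c4 LD3_c30) Lrfl Lrfl
theorem f17784 : Led Lsl_dt (LP (LK LD1_c0 LD2_c21 LD3_c3)) = (LP (LK LD1_c0 LD2_c47 LD3_c2)) :=
  Lre_d IH (LK LD1_c0 LD2_c21 LD3_c3) (LK LD1_c0 LD2_c47 LD3_c2) Lrfl Lrfl
theorem f36229 : Led Lsl_ct (LP (LK LD1_c0 LD2_c8 LD3_c51)) = (LP (LK LD1_c0 LD2_c19 LD3_c45)) :=
  Lre_c IH (LK LD1_c0 LD2_c8 LD3_c51) (LK LD1_c0 LD2_c19 LD3_c45) Lrfl Lrfl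
theorem f61914 : Led Lsl_gt (LP (LK LD1_c0 LD2_c19 LD3_c45)) = (LP (LK LD1_c0 LD2_c44 LD3_c17)) :=
  Lre_g IH (LK LD1_c0 LD2_c19 LD3_c45) (LK LD1_c0 LD2_c44 LD3_c17) Lrfl Lrfl
theorem f62010 : Led Lsl_cf (LP (LK LD1_c0 LD2_c47 LD3_c2)) = (LP (LK LD1_c0 LD2_c44 LD3_c17)) :=
  Lgr Lrot99 (Lpe (f17784 IH) (Lpe (K0.f9928 IH) (Lpe (K0.f3946 IH) (Lpe (f12749 IH) (Lpe (f21160 IH) (Lpr_df (f61987 IH) (Lpr_gt (f61875 IH) (Lpr_ct (f36229 IH) (Lpr_gt (f61914 IH) (Lpn (LP (LK LD1_c0 LD2_c44 LD3_c17))))))))))))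
theorem f62182 : Led Lsl_ct (LP (LK LD1_c0 LD2_c47 LD3_c2)) = (LP (LK LD1_c0 LD2_c44 LD3_c17)) :=
  Lgr Lrot59 (Lpr_cf (f62010 IH) (Lpn (LP (LK LD1_c0 LD2_c44 LD3_c17))))
theorem f62191 : Led Lsl_gt (LP (LK LD1_c0 LD2_c44 LD3_c17)) = (LP (LK LD1_c1 LD2_c34 LD3_c13)) :=
  Lre_g IH (LK LD1_c0 LD2_c44 LD3_c17) (LK LD1_c1 LD2_c34 LD3_c13) Lrfl Lrfl
theorem f62005 : Led Lsl_ct (LP (LK LD1_c1 LD2_c34 LD3_c13)) = (LP (LK LD1_c0 LD2_c43 LD3_c45)) :=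
  Lre_c IH (LK LD1_c1 LD2_c34 LD3_c13) (LK LD1_c0 LD2_c43 LD3_c45) Lrfl Lrfl
theorem f62000 : Led Lsl_dt (LP (LK LD1_c0 LD2_c19 LD3_c32)) = (LP (LK LD1_c0 LD2_c43 LD3_c45)) :=
  Lre_d IH (LK LD1_c0 LD2_c19 LD3_c32) (LK LD1_c0 LD2_c43 LD3_c45) Lrfl Lrfl
theorem f14684 : Led Lsl_ct (LP (LK LD1_c0 LD2_c10 LD3_c27)) = (LP (LK LD1_c0 LD2_c19 LD3_c32)) :=
  Lre_c IH (LK LD1_c0 LD2_c10 LD3_c27) (LK LD1_c0 LD2_c19 LD3_c32) Lrfl Lrfl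
theorem f14709 : Led Lsl_gt (LP (LK LD1_c0 LD2_c4 LD3_c56)) = (LP (LK LD1_c0 LD2_c10 LD3_c27)) :=
  Lre_g IH (LK LD1_c0 LD2_c4 LD3_c56) (LK LD1_c0 LD2_c10 LD3_c27) Lrfl Lrfl
theorem f24322 : Led Lsl_ct (LP (LK LD1_c0 LD2_c10 LD3_c30)) = (LP (LK LD1_c0 LD2_c4 LD3_c56)) :=
  Lre_c IH (LK LD1_c0 LD2_c10 LD3_c30) (LK LD1_c0 LD2_c4 LD3_c56) Lrfl Lrfl
theorem f62308 : Led Lsl_gt (LP (LK LD1_c0 LD2_c23 LD3_c23)) = (LP (LK LD1_c0 LD2_c10 LD3_c30)) :=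
  Lre_g IH (LK LD1_c0 LD2_c23 LD3_c23) (LK LD1_c0 LD2_c10 LD3_c30) Lrfl Lrfl
theorem f62309 : Led Lsl_dt (LP (LK LD1_c0 LD2_c51 LD3_c42)) = (LP (LK LD1_c0 LD2_c23 LD3_c23)) :=
  Lre_d IH (LK LD1_c0 LD2_c51 LD3_c42) (LK LD1_c0 LD2_c23 LD3_c23) Lrfl Lrfl
theorem f62310 : Led Lsl_gf (LP (LK LD1_c0 LD2_c47 LD3_c2)) = (LP (LK LD1_c0 LD2_c51 LD3_c42)) :=
  Lgr Lrot147 (Lpr_ct (f62182 IH) (Lpr_gt (f62191 IH) (Lpr_ct (f62005 IH) (Lpe (f62000 IH) (Lpe (f14684 IH) (Lpe (f14709 IH) (Lpe (f24322 IH) (Lpe (f62308 IH) (Lpe (f62309 IH) (Lpn (LP (LK LD1_c0 LD2_c51 LD3_c42))))))))))))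
theorem f17782 : Led Lsl_dt (LP (LK LD1_c0 LD2_c47 LD3_c2)) = (LP (LK LD1_c0 LD2_c21 LD3_c3)) :=
  Lre_d IH (LK LD1_c0 LD2_c47 LD3_c2) (LK LD1_c0 LD2_c21 LD3_c3) Lrfl Lrfl
theorem f25023 : Led Lsl_ct (LP (LK LD1_c0 LD2_c21 LD3_c3)) = (LP (LK LD1_c0 LD2_c9 LD3_c32)) :=
  Lre_c IH (LK LD1_c0 LD2_c21 LD3_c3) (LK LD1_c0 LD2_c9 LD3_c32) Lrfl Lrfl
theorem f62313 : Led Lsl_dt (LP (LK LD1_c0 LD2_c23 LD3_c23)) = (LP (LK LD1_c0 LD2_c51 LD3_c42)) :=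
  Lre_d IH (LK LD1_c0 LD2_c23 LD3_c23) (LK LD1_c0 LD2_c51 LD3_c42) Lrfl Lrfl
theorem f14704 : Led Lsl_gt (LP (LK LD1_c0 LD2_c10 LD3_c34)) = (LP (LK LD1_c0 LD2_c23 LD3_c23)) :=
  Lre_g IH (LK LD1_c0 LD2_c10 LD3_c34) (LK LD1_c0 LD2_c23 LD3_c23) Lrfl Lrfl
theorem f5251 : Led Lsl_ct (LP (LK LD1_c0 LD2_c4 LD3_c57)) = (LP (LK LD1_c0 LD2_c10 LD3_c34)) :=
  Lre_c IH (LK LD1_c0 LD2_c4 LD3_c57) (LK LD1_c0 LD2_c10 LD3_c34) Lrfl Lrfl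
theorem f12428 : Led Lsl_gt (LP (LK LD1_c0 LD2_c4 LD3_c57)) = (LP (LK LD1_c0 LD2_c2 LD3_c15)) :=
  Lre_g IH (LK LD1_c0 LD2_c4 LD3_c57) (LK LD1_c0 LD2_c2 LD3_c15) Lrfl Lrfl
theorem f17452 : Led Lsl_dt (LP (LK LD1_c0 LD2_c2 LD3_c15)) = (LP (LK LD1_c0 LD2_c4 LD3_c59)) :=
  Lre_d IH (LK LD1_c0 LD2_c2 LD3_c15) (LK LD1_c0 LD2_c4 LD3_c59) Lrfl Lrfl
theorem f62652 : Led Lsl_df (LP (LK LD1_c0 LD2_c9 LD3_c32)) = (LP (LK LD1_c0 LD2_c10 LD3_c38)) :=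
  Lgr Lrot84 (Lpe (f25023 IH) (Lpe (f17782 IH) (Lpr_gf (f62310 IH) (Lpe (f62313 IH) (Lpe (f14704 IH) (Lpe (f5251 IH) (Lpr_gt (f12428 IH) (Lpr_dt (f17452 IH) (Lpr_gt (K0.f11518 IH) (Lpn (LP (LK LD1_c0 LD2_c10 LD3_c38))))))))))))
theorem f62667 : Led Lsl_dt (LP (LK LD1_c0 LD2_c9 LD3_c32)) = (LP (LK LD1_c0 LD2_c10 LD3_c38)) :=
  Lgr Lrot42 (Lpr_df (f62652 IH) (Lpn (LP (LK LD1_c0 LD2_c10 LD3_c38))))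
theorem f12117 : Led Lsl_ct (LP (LK LD1_c0 LD2_c4 LD3_c30)) = (LP (LK LD1_c0 LD2_c8 LD3_c5)) :=
  Lre_c IH (LK LD1_c0 LD2_c4 LD3_c30) (LK LD1_c0 LD2_c8 LD3_c5) Lrfl Lrfl
theorem f7106 : Led Lsl_gt (LP (LK LD1_c0 LD2_c8 LD3_c5)) = (LP (LK LD1_c0 LD2_c17 LD3_c61)) :=
  Lre_g IH (LK LD1_c0 LD2_c8 LD3_c5) (LK LD1_c0 LD2_c17 LD3_c61) Lrfl Lrfl
theorem f14667 : Led Lsl_dt (LP (LK LD1_c0 LD2_c23 LD3_c13)) = (LP (LK LD1_c0 LD2_c10 LD3_c27)) :=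
  Lre_d IH (LK LD1_c0 LD2_c23 LD3_c13) (LK LD1_c0 LD2_c10 LD3_c27) Lrfl Lrfl
theorem f14687 : Led Lsl_ct (LP (LK LD1_c0 LD2_c19 LD3_c32)) = (LP (LK LD1_c0 LD2_c10 LD3_c27)) :=
  Lre_c IH (LK LD1_c0 LD2_c19 LD3_c32) (LK LD1_c0 LD2_c10 LD3_c27) Lrfl Lrfl
theorem f14699 : Led Lsl_dt (LP (LK LD1_c0 LD2_c43 LD3_c45)) = (LP (LK LD1_c0 LD2_c19 LD3_c32)) :=
  Lre_d IH (LK LD1_c0 LD2_c43 LD3_c45) (LK LD1_c0 LD2_c19 LD3_c32) Lrfl Lrfl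
theorem f14700 : Led Lsl_gt (LP (LK LD1_c0 LD2_c19 LD3_c43)) = (LP (LK LD1_c0 LD2_c43 LD3_c45)) :=
  Lre_g IH (LK LD1_c0 LD2_c19 LD3_c43) (LK LD1_c0 LD2_c43 LD3_c45) Lrfl Lrfl
theorem f64294 : Led Lsl_dt (LP (LK LD1_c0 LD2_c17 LD3_c61)) = (LP (LK LD1_c0 LD2_c19 LD3_c43)) :=
  Lgr Lrot57 (Lpe (f7106 IH) (Lpe (f12117 IH) (Lpr_gt (K0.f3946 IH) (Lpr_dt (f62667 IH) (Lpr_gt (K0.f12211 IH) (Lpr_dt (f14667 IH) (Lpe (f14687 IH) (Lpe (f14699 IH) (Lpe (f14700 IH) (Lpn (LP (LK LD1_c0 LD2_c19 LD3_c43))))))))))))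
theorem f18905 : Led Lsl_gt (LP (LK LD1_c0 LD2_c17 LD3_c61)) = (LP (LK LD1_c0 LD2_c40 LD3_c7)) :=
  Lre_g IH (LK LD1_c0 LD2_c17 LD3_c61) (LK LD1_c0 LD2_c40 LD3_c7) Lrfl Lrfl
theorem f18890 : Led Lsl_ct (LP (LK LD1_c0 LD2_c40 LD3_c7)) = (LP (LK LD1_c0 LD2_c21 LD3_c0)) :=
  Lre_c IH (LK LD1_c0 LD2_c40 LD3_c7) (LK LD1_c0 LD2_c21 LD3_c0) Lrfl Lrfl
theorem f18901 : Led Lsl_gt (LP (LK LD1_c0 LD2_c21 LD3_c0)) = (LP (LK LD1_c0 LD2_c9 LD3_c33)) :=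
  Lre_g IH (LK LD1_c0 LD2_c21 LD3_c0) (LK LD1_c0 LD2_c9 LD3_c33) Lrfl Lrfl
theorem f10768 : Led Lsl_ct (LP (LK LD1_c0 LD2_c9 LD3_c33)) = (LP (LK LD1_c0 LD2_c21 LD3_c7)) :=
  Lre_c IH (LK LD1_c0 LD2_c9 LD3_c33) (LK LD1_c0 LD2_c21 LD3_c7) Lrfl Lrfl
theorem f19357 : Led Lsl_dt (LP (LK LD1_c0 LD2_c47 LD3_c11)) = (LP (LK LD1_c0 LD2_c21 LD3_c7)) :=
  Lre_d IH (LK LD1_c0 LD2_c47 LD3_c11) (LK LD1_c0 LD2_c21 LD3_c7) Lrfl Lrfl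
theorem f62009 : Led Lsl_ct (LP (LK LD1_c0 LD2_c43 LD3_c45)) = (LP (LK LD1_c1 LD2_c34 LD3_c13)) :=
  Lre_c IH (LK LD1_c0 LD2_c43 LD3_c45) (LK LD1_c1 LD2_c34 LD3_c13) Lrfl Lrfl
theorem f40583 : Led Lsl_gt (LP (LK LD1_c1 LD2_c34 LD3_c13)) = (LP (LK LD1_c0 LD2_c44 LD3_c18)) :=
  Lre_g IH (LK LD1_c1 LD2_c34 LD3_c13) (LK LD1_c0 LD2_c44 LD3_c18) Lrfl Lrfl
theorem f64478 : Led Lsl_cf (LP (LK LD1_c0 LD2_c47 LD3_c11)) = (LP (LK LD1_c0 LD2_c44 LD3_c18)) :=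
  Lgr Lrot175 (Lpr_dt (f19357 IH) (Lpe (f10768 IH) (Lpe (f18901 IH) (Lpe (f18890 IH) (Lpe (f18905 IH) (Lpr_dt (f64294 IH) (Lpr_gt (f14700 IH) (Lpr_ct (f62009 IH) (Lpr_gt (f40583 IH) (Lpn (LP (LK LD1_c0 LD2_c44 LD3_c18))))))))))))
theorem f64293 : Led Lsl_at (LP (LK LD1_c1 LD2_c41 LD3_c3)) = (LP (LK LD1_c0 LD2_c47 LD3_c11)) :=
  Lre_a IH (LK LD1_c1 LD2_c41 LD3_c3) (LK LD1_c0 LD2_c47 LD3_c11) Lrfl Lrfl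
theorem f62189 : Led Lsl_ft (LP (LK LD1_c0 LD2_c47 LD3_c2)) = (LP (LK LD1_c1 LD2_c41 LD3_c3)) :=
  Lre_f IH (LK LD1_c0 LD2_c47 LD3_c2) (LK LD1_c1 LD2_c41 LD3_c3) Lrfl Lrfl
theorem f17460 : Led Lsl_dt (LP (LK LD1_c0 LD2_c23 LD3_c44)) = (LP (LK LD1_c0 LD2_c52 LD3_c31)) :=
  Lre_d IH (LK LD1_c0 LD2_c23 LD3_c44) (LK LD1_c0 LD2_c52 LD3_c31) Lrfl Lrfl
theorem f64251 : Led Lsl_dt (LP (LK LD1_c1 LD2_c35 LD3_c22)) = (LP (LK LD1_c0 LD2_c44 LD3_c18)) :=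
  Lre_d IH (LK LD1_c1 LD2_c35 LD3_c22) (LK LD1_c0 LD2_c44 LD3_c18) Lrfl Lrfl
theorem f64603 : Led Lsl_ct (LP (LK LD1_c0 LD2_c52 LD3_c31)) = (LP (LK LD1_c1 LD2_c35 LD3_c22)) :=
  Lgr Lrot53 (Lpe (f17460 IH) (Lpe (K0.f17301 IH) (Lpe (f62667 IH) (Lpe (f25023 IH) (Lpe (f17782 IH) (Lpr_ft (f62189 IH) (Lpr_at (f64293 IH) (Lpr_cf (f64478 IH) (Lpe (f64251 IH) (Lpn (LP (LK LD1_c1 LD2_c35 LD3_c22))))))))))))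
theorem f64611 : Led Lsl_cf (LP (LK LD1_c0 LD2_c52 LD3_c31)) = (LP (LK LD1_c1 LD2_c35 LD3_c22)) :=
  Lgr Lrot11 (Lpr_ct (f64603 IH) (Lpn (LP (LK LD1_c1 LD2_c35 LD3_c22))))
theorem f17455 : Led Lsl_dt (LP (LK LD1_c0 LD2_c52 LD3_c31)) = (LP (LK LD1_c0 LD2_c23 LD3_c44)) :=
  Lre_d IH (LK LD1_c0 LD2_c52 LD3_c31) (LK LD1_c0 LD2_c23 LD3_c44) Lrfl Lrfl
theorem f11855 : Led Lsl_ct (LP (LK LD1_c0 LD2_c10 LD3_c40)) = (LP (LK LD1_c0 LD2_c4 LD3_c59)) :=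
  Lre_c IH (LK LD1_c0 LD2_c10 LD3_c40) (LK LD1_c0 LD2_c4 LD3_c59) Lrfl Lrfl
theorem f14742 : Led Lsl_dt (LP (LK LD1_c0 LD2_c23 LD3_c50)) = (LP (LK LD1_c0 LD2_c52 LD3_c51)) :=
  Lre_d IH (LK LD1_c0 LD2_c23 LD3_c50) (LK LD1_c0 LD2_c52 LD3_c51) Lrfl Lrfl
theorem f18904 : Led Lsl_gt (LP (LK LD1_c0 LD2_c9 LD3_c32)) = (LP (LK LD1_c0 LD2_c21 LD3_c0)) :=
  Lre_g IH (LK LD1_c0 LD2_c9 LD3_c32) (LK LD1_c0 LD2_c21 LD3_c0) Lrfl Lrfl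
theorem f18878 : Led Lsl_dt (LP (LK LD1_c0 LD2_c21 LD3_c0)) = (LP (LK LD1_c0 LD2_c46 LD3_c51)) :=
  Lre_d IH (LK LD1_c0 LD2_c21 LD3_c0) (LK LD1_c0 LD2_c46 LD3_c51) Lrfl Lrfl
theorem f18874 : Led Lsl_ct (LP (LK LD1_c0 LD2_c46 LD3_c51)) = (LP (LK LD1_c1 LD2_c40 LD3_c45)) :=
  Lre_c IH (LK LD1_c0 LD2_c46 LD3_c51) (LK LD1_c1 LD2_c40 LD3_c45) Lrfl Lrfl
theorem f11542 : Led Lsl_gt (LP (LK LD1_c0 LD2_c10 LD3_c40)) = (LP (LK LD1_c0 LD2_c23 LD3_c49)) :=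
  Lre_g IH (LK LD1_c0 LD2_c10 LD3_c40) (LK LD1_c0 LD2_c23 LD3_c49) Lrfl Lrfl
theorem f17293 : Led Lsl_dt (LP (LK LD1_c0 LD2_c23 LD3_c49)) = (LP (LK LD1_c0 LD2_c52 LD3_c47)) :=
  Lre_d IH (LK LD1_c0 LD2_c23 LD3_c49) (LK LD1_c0 LD2_c52 LD3_c47) Lrfl Lrfl
theorem f62675 : Led Lsl_gt (LP (LK LD1_c0 LD2_c52 LD3_c47)) = (LP (LK LD1_c1 LD2_c52 LD3_c2)) :=
  Lre_g IH (LK LD1_c0 LD2_c52 LD3_c47) (LK LD1_c1 LD2_c52 LD3_c2) Lrfl Lrfl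
theorem f62676 : Led Lsl_df (LP (LK LD1_c1 LD2_c40 LD3_c45)) = (LP (LK LD1_c1 LD2_c52 LD3_c2)) :=
  Lgr Lrot84 (Lpe (f18874 IH) (Lpe (f18878 IH) (Lpe (f18904 IH) (Lpr_df (f62652 IH) (Lpe (K0.f11518 IH) (Lpe (f11855 IH) (Lpr_gt (f11542 IH) (Lpr_dt (f17293 IH) (Lpr_gt (f62675 IH) (Lpn (LP (LK LD1_c1 LD2_c52 LD3_c2))))))))))))
theorem f19048 : Led Lsl_at (LP (LK LD1_c1 LD2_c40 LD3_c45)) = (LP (LK LD1_c0 LD2_c47 LD3_c27)) :=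
  Lre_a IH (LK LD1_c1 LD2_c40 LD3_c45) (LK LD1_c0 LD2_c47 LD3_c27) Lrfl Lrfl
theorem f18615 : Led Lsl_dt (LP (LK LD1_c0 LD2_c47 LD3_c27)) = (LP (LK LD1_c1 LD2_c41 LD3_c49)) :=
  Lre_d IH (LK LD1_c0 LD2_c47 LD3_c27) (LK LD1_c1 LD2_c41 LD3_c49) Lrfl Lrfl
theorem f63109 : Led Lsl_at (LP (LK LD1_c1 LD2_c41 LD3_c49)) = (LP (LK LD1_c1 LD2_c52 LD3_c2)) :=
  Lgr Lrot51 (Lpe (f18615 IH) (Lpe (f19048 IH) (Lpr_df (f62676 IH) (Lpn (LP (LK LD1_c1 LD2_c52 LD3_c2))))))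
theorem f18249 : Led Lsl_ft (LP (LK LD1_c0 LD2_c47 LD3_c25)) = (LP (LK LD1_c1 LD2_c41 LD3_c49)) :=
  Lre_f IH (LK LD1_c0 LD2_c47 LD3_c25) (LK LD1_c1 LD2_c41 LD3_c49) Lrfl Lrfl
theorem f64255 : Led Lsl_gt (LP (LK LD1_c0 LD2_c47 LD3_c25)) = (LP (LK LD1_c0 LD2_c52 LD3_c47)) :=
  Lgr Lrot5 (Lpr_ft (f18249 IH) (Lpr_at (f63109 IH) (Lpe (f62675 IH) (Lpn (LP (LK LD1_c0 LD2_c52 LD3_c47))))))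
theorem f63495 : Led Lsl_ct (LP (LK LD1_c0 LD2_c47 LD3_c25)) = (LP (LK LD1_c1 LD2_c41 LD3_c47)) :=
  Lre_c IH (LK LD1_c0 LD2_c47 LD3_c25) (LK LD1_c1 LD2_c41 LD3_c47) Lrfl Lrfl
theorem f63503 : Led Lsl_dt (LP (LK LD1_c0 LD2_c52 LD3_c47)) = (LP (LK LD1_c0 LD2_c23 LD3_c49)) :=
  Lre_d IH (LK LD1_c0 LD2_c52 LD3_c47) (LK LD1_c0 LD2_c23 LD3_c49) Lrfl Lrfl
theorem f14680 : Led Lsl_gt (LP (LK LD1_c0 LD2_c23 LD3_c49)) = (LP (LK LD1_c0 LD2_c51 LD3_c28)) :=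
  Lre_g IH (LK LD1_c0 LD2_c23 LD3_c49) (LK LD1_c0 LD2_c51 LD3_c28) Lrfl Lrfl
theorem f64257 : Led Lsl_dt (LP (LK LD1_c0 LD2_c51 LD3_c28)) = (LP (LK LD1_c1 LD2_c35 LD3_c31)) :=
  Lre_d IH (LK LD1_c0 LD2_c51 LD3_c28) (LK LD1_c1 LD2_c35 LD3_c31) Lrfl Lrfl
theorem f64258 : Led Lsl_ct (LP (LK LD1_c0 LD2_c44 LD3_c20)) = (LP (LK LD1_c1 LD2_c35 LD3_c31)) :=
  Lre_c IH (LK LD1_c0 LD2_c44 LD3_c20) (LK LD1_c1 LD2_c35 LD3_c31) Lrfl Lrfl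
theorem f62196 : Led Lsl_dt (LP (LK LD1_c0 LD2_c19 LD3_c45)) = (LP (LK LD1_c0 LD2_c44 LD3_c20)) :=
  Lre_d IH (LK LD1_c0 LD2_c19 LD3_c45) (LK LD1_c0 LD2_c44 LD3_c20) Lrfl Lrfl
theorem f36230 : Led Lsl_gt (LP (LK LD1_c0 LD2_c44 LD3_c18)) = (LP (LK LD1_c0 LD2_c19 LD3_c45)) :=
  Lre_g IH (LK LD1_c0 LD2_c44 LD3_c18) (LK LD1_c0 LD2_c19 LD3_c45) Lrfl Lrfl
theorem f64259 : Led Lsl_gt (LP (LK LD1_c1 LD2_c41 LD3_c47)) = (LP (LK LD1_c1 LD2_c35 LD3_c22)) :=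
  Lgr Lrot94 (Lpe (f63495 IH) (Lpr_gt (f64255 IH) (Lpr_dt (f63503 IH) (Lpr_gt (f14680 IH) (Lpr_dt (f64257 IH) (Lpe (f64258 IH) (Lpe (f62196 IH) (Lpe (f36230 IH) (Lpe (f64251 IH) (Lpn (LP (LK LD1_c1 LD2_c35 LD3_c22))))))))))))
theorem f64905 : Led Lsl_gt (LP (LK LD1_c0 LD2_c52 LD3_c51)) = (LP (LK LD1_c0 LD2_c47 LD3_c25)) :=
  Lgr Lrot9 (Lpe (f14742 IH) (Lpr_gt (K0.f12192 IH) (Lpr_ct (f11855 IH) (Lpr_gt (K0.f11518 IH) (Lpr_ct (K0.f17301 IH) (Lpe (f17455 IH) (Lpr_cf (f64611 IH) (Lpe (f64259 IH) (Lpe (f63495 IH) (Lpn (LP (LK LD1_c0 LD2_c47 LD3_c25))))))))))))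
theorem f64927 : Led Lsl_et (LP (LK LD1_c1 LD2_c49 LD3_c21)) = (LP (LK LD1_c0 LD2_c51 LD3_c28)) :=
  Lre_e IH (LK LD1_c1 LD2_c49 LD3_c21) (LK LD1_c0 LD2_c51 LD3_c28) Lrfl Lrfl
theorem f64928 : Led Lsl_dt (LP (LK LD1_c1 LD2_c49 LD3_c21)) = (LP (LK LD1_c3 LD2_c44 LD3_c38)) :=
  Lre_d IH (LK LD1_c1 LD2_c49 LD3_c21) (LK LD1_c3 LD2_c44 LD3_c38) Lrfl Lrfl
theorem f63494 : Led Lsl_dt (LP (LK LD1_c0 LD2_c21 LD3_c12)) = (LP (LK LD1_c0 LD2_c47 LD3_c25)) :=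
  Lre_d IH (LK LD1_c0 LD2_c21 LD3_c12) (LK LD1_c0 LD2_c47 LD3_c25) Lrfl Lrfl
theorem f64271 : Led Lsl_et (LP (LK LD1_c0 LD2_c21 LD3_c12)) = (LP (LK LD1_c0 LD2_c47 LD3_c26)) :=
  Lre_e IH (LK LD1_c0 LD2_c21 LD3_c12) (LK LD1_c0 LD2_c47 LD3_c26) Lrfl Lrfl
theorem f64929 : Led Lsl_gt (LP (LK LD1_c0 LD2_c47 LD3_c26)) = (LP (LK LD1_c1 LD2_c41 LD3_c50)) :=
  Lre_g IH (LK LD1_c0 LD2_c47 LD3_c26) (LK LD1_c1 LD2_c41 LD3_c50) Lrfl Lrfl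
theorem f64930 : Led Lsl_et (LP (LK LD1_c3 LD2_c30 LD3_c22)) = (LP (LK LD1_c1 LD2_c41 LD3_c50)) :=
  Lre_e IH (LK LD1_c3 LD2_c30 LD3_c22) (LK LD1_c1 LD2_c41 LD3_c50) Lrfl Lrfl
theorem f64931 : Led Lsl_dt (LP (LK LD1_c3 LD2_c30 LD3_c22)) = (LP (LK LD1_c7 LD2_c2 LD3_c38)) :=
  Lre_d IH (LK LD1_c3 LD2_c30 LD3_c22) (LK LD1_c7 LD2_c2 LD3_c38) Lrfl Lrfl
theorem f64932 : Led Lsl_gf (LP (LK LD1_c3 LD2_c44 LD3_c38)) = (LP (LK LD1_c7 LD2_c2 LD3_c38)) :=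
  Lgr Lrot145 (Lpe (f64928 IH) (Lpr_et (f64927 IH) (Lpr_gt (K0.f12209 IH) (Lpr_dt (f14742 IH) (Lpr_gt (f64905 IH) (Lpe (f63494 IH) (Lpr_et (f64271 IH) (Lpr_gt (f64929 IH) (Lpe (f64930 IH) (Lpr_dt (f64931 IH) (Lpn (LP (LK LD1_c7 LD2_c2 LD3_c38)))))))))))))
theorem f15988 : Led Lsl_at (LP (LK LD1_c1 LD2_c52 LD3_c54)) = (LP (LK LD1_c3 LD2_c44 LD3_c38)) :=
  Lre_a IH (LK LD1_c1 LD2_c52 LD3_c54) (LK LD1_c3 LD2_c44 LD3_c38) Lrfl Lrfl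
theorem f64938 : Led Lsl_gt (LP (LK LD1_c3 LD2_c52 LD3_c25)) = (LP (LK LD1_c7 LD2_c2 LD3_c38)) :=
  Lgr Lrot5 (Lpr_ft (K0.f15427 IH) (Lpr_at (f15988 IH) (Lpr_gf (f64932 IH) (Lpn (LP (LK LD1_c7 LD2_c2 LD3_c38))))))
theorem f15710 : Led Lsl_dt (LP (LK LD1_c1 LD2_c52 LD3_c51)) = (LP (LK LD1_c3 LD2_c52 LD3_c25)) :=
  Lre_d IH (LK LD1_c1 LD2_c52 LD3_c51) (LK LD1_c3 LD2_c52 LD3_c25) Lrfl Lrfl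
theorem f15711 : Led Lsl_et (LP (LK LD1_c1 LD2_c52 LD3_c51)) = (LP (LK LD1_c0 LD2_c53 LD3_c3)) :=
  Lre_e IH (LK LD1_c1 LD2_c52 LD3_c51) (LK LD1_c0 LD2_c53 LD3_c3) Lrfl Lrfl
theorem f11242 : Led Lsl_gt (LP (LK LD1_c1 LD2_c50 LD3_c57)) = (LP (LK LD1_c0 LD2_c53 LD3_c3)) :=
  Lre_g IH (LK LD1_c1 LD2_c50 LD3_c57) (LK LD1_c0 LD2_c53 LD3_c3) Lrfl Lrfl
theorem f64969 : Led Lsl_et (LP (LK LD1_c3 LD2_c47 LD3_c53)) = (LP (LK LD1_c1 LD2_c50 LD3_c57)) :=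
  Lre_e IH (LK LD1_c3 LD2_c47 LD3_c53) (LK LD1_c1 LD2_c50 LD3_c57) Lrfl Lrfl
theorem f18826 : Led Lsl_gt (LP (LK LD1_c1 LD2_c41 LD3_c50)) = (LP (LK LD1_c3 LD2_c29 LD3_c9)) :=
  Lre_g IH (LK LD1_c1 LD2_c41 LD3_c50) (LK LD1_c3 LD2_c29 LD3_c9) Lrfl Lrfl
theorem f64970 : Led Lsl_dt (LP (LK LD1_c3 LD2_c29 LD3_c9)) = (LP (LK LD1_c7 LD2_c0 LD3_c4)) :=
  Lre_d IH (LK LD1_c3 LD2_c29 LD3_c9) (LK LD1_c7 LD2_c0 LD3_c4) Lrfl Lrfl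
theorem f64971 : Led Lsl_gt (LP (LK LD1_c7 LD2_c0 LD3_c4)) = (LP (LK LD1_c3 LD2_c30 LD3_c28)) :=
  Lre_g IH (LK LD1_c7 LD2_c0 LD3_c4) (LK LD1_c3 LD2_c30 LD3_c28) Lrfl Lrfl
theorem f64972 : Led Lsl_dt (LP (LK LD1_c3 LD2_c47 LD3_c53)) = (LP (LK LD1_c3 LD2_c30 LD3_c28)) :=
  Lgr Lrot56 (Lpr_et (f64969 IH) (Lpr_gt (f11242 IH) (Lpe (f15711 IH) (Lpr_dt (f15710 IH) (Lpr_gt (f64938 IH) (Lpe (f64931 IH) (Lpr_et (f64930 IH) (Lpr_gt (f18826 IH) (Lpr_dt (f64970 IH) (Lpr_gt (f64971 IH) (Lpn (LP (LK LD1_c3 LD2_c30 LD3_c28)))))))))))))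
theorem f14965 : Led Lsl_gt (LP (LK LD1_c0 LD2_c52 LD3_c21)) = (LP (LK LD1_c1 LD2_c50 LD3_c57)) :=
  Lre_g IH (LK LD1_c0 LD2_c52 LD3_c21) (LK LD1_c1 LD2_c50 LD3_c57) Lrfl Lrfl
theorem f63811 : Led Lsl_et (LP (LK LD1_c0 LD2_c23 LD3_c41)) = (LP (LK LD1_c0 LD2_c52 LD3_c21)) :=
  Lre_e IH (LK LD1_c0 LD2_c23 LD3_c41) (LK LD1_c0 LD2_c52 LD3_c21) Lrfl Lrfl
theorem f15272 : Led Lsl_dt (LP (LK LD1_c0 LD2_c23 LD3_c41)) = (LP (LK LD1_c0 LD2_c52 LD3_c20)) :=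
  Lre_d IH (LK LD1_c0 LD2_c23 LD3_c41) (LK LD1_c0 LD2_c52 LD3_c20) Lrfl Lrfl
theorem f64986 : Led Lsl_gt (LP (LK LD1_c3 LD2_c30 LD3_c28)) = (LP (LK LD1_c1 LD2_c41 LD3_c52)) :=
  Lre_g IH (LK LD1_c3 LD2_c30 LD3_c28) (LK LD1_c1 LD2_c41 LD3_c52) Lrfl Lrfl
theorem f65001 : Led Lsl_dt (LP (LK LD1_c0 LD2_c47 LD3_c26)) = (LP (LK LD1_c1 LD2_c41 LD3_c52)) :=
  Lre_d IH (LK LD1_c0 LD2_c47 LD3_c26) (LK LD1_c1 LD2_c41 LD3_c52) Lrfl Lrfl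
theorem f65002 : Led Lsl_et (LP (LK LD1_c0 LD2_c47 LD3_c26)) = (LP (LK LD1_c0 LD2_c21 LD3_c12)) :=
  Lre_e IH (LK LD1_c0 LD2_c47 LD3_c26) (LK LD1_c0 LD2_c21 LD3_c12) Lrfl Lrfl
theorem f4467 : Led Lsl_gt (LP (LK LD1_c0 LD2_c21 LD3_c12)) = (LP (LK LD1_c0 LD2_c47 LD3_c22)) :=
  Lre_g IH (LK LD1_c0 LD2_c21 LD3_c12) (LK LD1_c0 LD2_c47 LD3_c22) Lrfl Lrfl
theorem f18138 : Led Lsl_dt (LP (LK LD1_c0 LD2_c47 LD3_c22)) = (LP (LK LD1_c1 LD2_c41 LD3_c38)) :=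
  Lre_d IH (LK LD1_c0 LD2_c47 LD3_c22) (LK LD1_c1 LD2_c41 LD3_c38) Lrfl Lrfl
theorem f65003 : Led Lsl_gf (LP (LK LD1_c0 LD2_c52 LD3_c20)) = (LP (LK LD1_c1 LD2_c41 LD3_c38)) :=
  Lgr Lrot134 (Lpe (f15272 IH) (Lpr_et (f63811 IH) (Lpr_gt (f14965 IH) (Lpe (f64969 IH) (Lpr_dt (f64972 IH) (Lpr_gt (f64986 IH) (Lpe (f65001 IH) (Lpr_et (f65002 IH) (Lpr_gt (f4467 IH) (Lpr_dt (f18138 IH) (Lpn (LP (LK LD1_c1 LD2_c41 LD3_c38)))))))))))))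
theorem f65005 : Led Lsl_at (LP (LK LD1_c0 LD2_c23 LD3_c52)) = (LP (LK LD1_c0 LD2_c52 LD3_c20)) :=
  Lre_a IH (LK LD1_c0 LD2_c23 LD3_c52) (LK LD1_c0 LD2_c52 LD3_c20) Lrfl Lrfl
theorem f15532 : Led Lsl_ft (LP (LK LD1_c0 LD2_c52 LD3_c61)) = (LP (LK LD1_c0 LD2_c23 LD3_c52)) :=
  Lre_f IH (LK LD1_c0 LD2_c52 LD3_c61) (LK LD1_c0 LD2_c23 LD3_c52) Lrfl Lrfl
theorem f65006 : Led Lsl_gt (LP (LK LD1_c0 LD2_c52 LD3_c61)) = (LP (LK LD1_c1 LD2_c41 LD3_c38)) :=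
  Lgr Lrot5 (Lpr_ft (f15532 IH) (Lpr_at (f65005 IH) (Lpr_gf (f65003 IH) (Lpn (LP (LK LD1_c1 LD2_c41 LD3_c38))))))
theorem f15611 : Led Lsl_et (LP (LK LD1_c1 LD2_c52 LD3_c38)) = (LP (LK LD1_c0 LD2_c52 LD3_c61)) :=
  Lre_e IH (LK LD1_c1 LD2_c52 LD3_c38) (LK LD1_c0 LD2_c52 LD3_c61) Lrfl Lrfl
theorem f16818 : Led Lsl_dt (LP (LK LD1_c1 LD2_c52 LD3_c38)) = (LP (LK LD1_c3 LD2_c51 LD3_c50)) :=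
  Lre_d IH (LK LD1_c1 LD2_c52 LD3_c38) (LK LD1_c3 LD2_c51 LD3_c50) Lrfl Lrfl
theorem f15497 : Led Lsl_gt (LP (LK LD1_c7 LD2_c45 LD3_c28)) = (LP (LK LD1_c3 LD2_c51 LD3_c50)) :=
  Lre_g IH (LK LD1_c7 LD2_c45 LD3_c28) (LK LD1_c3 LD2_c51 LD3_c50) Lrfl Lrfl
theorem f63157 : Led Lsl_dt (LP (LK LD1_c1 LD2_c41 LD3_c38)) = (LP (LK LD1_c0 LD2_c47 LD3_c22)) :=
  Lre_d IH (LK LD1_c1 LD2_c41 LD3_c38) (LK LD1_c0 LD2_c47 LD3_c22) Lrfl Lrfl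
theorem f18885 : Led Lsl_gt (LP (LK LD1_c0 LD2_c47 LD3_c22)) = (LP (LK LD1_c1 LD2_c40 LD3_c45)) :=
  Lre_g IH (LK LD1_c0 LD2_c47 LD3_c22) (LK LD1_c1 LD2_c40 LD3_c45) Lrfl Lrfl
theorem f63152 : Led Lsl_et (LP (LK LD1_c1 LD2_c52 LD3_c2)) = (LP (LK LD1_c3 LD2_c50 LD3_c14)) :=
  Lre_e IH (LK LD1_c1 LD2_c52 LD3_c2) (LK LD1_c3 LD2_c50 LD3_c14) Lrfl Lrfl
theorem f63158 : Led Lsl_gt (LP (LK LD1_c3 LD2_c50 LD3_c14)) = (LP (LK LD1_c7 LD2_c41 LD3_c30)) :=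
  Lre_g IH (LK LD1_c3 LD2_c50 LD3_c14) (LK LD1_c7 LD2_c41 LD3_c30) Lrfl Lrfl
theorem f63159 : Led Lsl_et (LP (LK LD1_c14 LD2_c29 LD3_c57)) = (LP (LK LD1_c7 LD2_c41 LD3_c30)) :=
  Lre_e IH (LK LD1_c14 LD2_c29 LD3_c57) (LK LD1_c7 LD2_c41 LD3_c30) Lrfl Lrfl
theorem f65106 : Led Lsl_df (LP (LK LD1_c7 LD2_c45 LD3_c28)) = (LP (LK LD1_c14 LD2_c29 LD3_c57)) :=
  Lgr Lrot170 (Lpr_gt (f15497 IH) (Lpe (f16818 IH) (Lpr_et (f15611 IH) (Lpr_gt (f65006 IH) (Lpr_dt (f63157 IH) (Lpr_gt (f18885 IH) (Lpr_df (f62676 IH) (Lpr_et (f63152 IH) (Lpr_gt (f63158 IH) (Lpe (f63159 IH) (Lpn (LP (LK LD1_c14 LD2_c29 LD3_c57)))))))))))))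
theorem f65119 : Led Lsl_gt (LP (LK LD1_c12 LD2_c45 LD3_c31)) = (LP (LK LD1_c7 LD2_c45 LD3_c28)) :=
  Lre_g IH (LK LD1_c12 LD2_c45 LD3_c31) (LK LD1_c7 LD2_c45 LD3_c28) Lrfl Lrfl
theorem f65120 : Led Lsl_dt (LP (LK LD1_c6 LD2_c39 LD3_c50)) = (LP (LK LD1_c12 LD2_c45 LD3_c31)) :=
  Lre_d IH (LK LD1_c6 LD2_c39 LD3_c50) (LK LD1_c12 LD2_c45 LD3_c31) Lrfl Lrfl
theorem f65125 : Led Lsl_et (LP (LK LD1_c6 LD2_c39 LD3_c50)) = (LP (LK LD1_c3 LD2_c47 LD3_c50)) :=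
  Lre_e IH (LK LD1_c6 LD2_c39 LD3_c50) (LK LD1_c3 LD2_c47 LD3_c50) Lrfl Lrfl
theorem f65126 : Led Lsl_gt (LP (LK LD1_c1 LD2_c52 LD3_c34)) = (LP (LK LD1_c3 LD2_c47 LD3_c50)) :=
  Lre_g IH (LK LD1_c1 LD2_c52 LD3_c34) (LK LD1_c3 LD2_c47 LD3_c50) Lrfl Lrfl
theorem f65127 : Led Lsl_et (LP (LK LD1_c3 LD2_c51 LD3_c38)) = (LP (LK LD1_c1 LD2_c52 LD3_c34)) :=
  Lre_e IH (LK LD1_c3 LD2_c51 LD3_c38) (LK LD1_c1 LD2_c52 LD3_c34) Lrfl Lrfl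
theorem f65128 : Led Lsl_dt (LP (LK LD1_c3 LD2_c51 LD3_c38)) = (LP (LK LD1_c7 LD2_c44 LD3_c53)) :=
  Lre_d IH (LK LD1_c3 LD2_c51 LD3_c38) (LK LD1_c7 LD2_c44 LD3_c53) Lrfl Lrfl
theorem f18876 : Led Lsl_ct (LP (LK LD1_c1 LD2_c40 LD3_c45)) = (LP (LK LD1_c0 LD2_c46 LD3_c51)) :=
  Lre_c IH (LK LD1_c1 LD2_c40 LD3_c45) (LK LD1_c0 LD2_c46 LD3_c51) Lrfl Lrfl
theorem f18877 : Led Lsl_dt (LP (LK LD1_c0 LD2_c46 LD3_c51)) = (LP (LK LD1_c0 LD2_c21 LD3_c0)) :=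
  Lre_d IH (LK LD1_c0 LD2_c46 LD3_c51) (LK LD1_c0 LD2_c21 LD3_c0) Lrfl Lrfl
theorem f18891 : Led Lsl_ct (LP (LK LD1_c0 LD2_c21 LD3_c0)) = (LP (LK LD1_c0 LD2_c40 LD3_c7)) :=
  Lre_c IH (LK LD1_c0 LD2_c21 LD3_c0) (LK LD1_c0 LD2_c40 LD3_c7) Lrfl Lrfl
theorem f58394 : Led Lsl_dt (LP (LK LD1_c0 LD2_c40 LD3_c7)) = (LP (LK LD1_c1 LD2_c26 LD3_c39)) :=
  Lre_d IH (LK LD1_c0 LD2_c40 LD3_c7) (LK LD1_c1 LD2_c26 LD3_c39) Lrfl Lrfl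
theorem f58398 : Led Lsl_ct (LP (LK LD1_c1 LD2_c26 LD3_c39)) = (LP (LK LD1_c3 LD2_c1 LD3_c22)) :=
  Lre_c IH (LK LD1_c1 LD2_c26 LD3_c39) (LK LD1_c3 LD2_c1 LD3_c22) Lrfl Lrfl
theorem f63114 : Led Lsl_dt (LP (LK LD1_c3 LD2_c1 LD3_c22)) = (LP (LK LD1_c1 LD2_c41 LD3_c47)) :=
  Lre_d IH (LK LD1_c3 LD2_c1 LD3_c22) (LK LD1_c1 LD2_c41 LD3_c47) Lrfl Lrfl
theorem f63115 : Led Lsl_ct (LP (LK LD1_c1 LD2_c41 LD3_c47)) = (LP (LK LD1_c0 LD2_c47 LD3_c25)) :=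
  Lre_c IH (LK LD1_c1 LD2_c41 LD3_c47) (LK LD1_c0 LD2_c47 LD3_c25) Lrfl Lrfl
theorem f63135 : Led Lsl_at (LP (LK LD1_c1 LD2_c41 LD3_c16)) = (LP (LK LD1_c0 LD2_c47 LD3_c25)) :=
  Lre_a IH (LK LD1_c1 LD2_c41 LD3_c16) (LK LD1_c0 LD2_c47 LD3_c25) Lrfl Lrfl
theorem f63136 : Led Lsl_ff (LP (LK LD1_c1 LD2_c41 LD3_c16)) = (LP (LK LD1_c1 LD2_c52 LD3_c2)) :=
  Lgr Lrot103 (Lpr_at (f63135 IH) (Lpe (f63115 IH) (Lpe (f63114 IH) (Lpe (f58398 IH) (Lpe (f58394 IH) (Lpe (f18891 IH) (Lpe (f18877 IH) (Lpe (f18876 IH) (Lpr_df (f62676 IH) (Lpn (LP (LK LD1_c1 LD2_c52 LD3_c2))))))))))))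
theorem f62844 : Led Lsl_et (LP (LK LD1_c1 LD2_c41 LD3_c16)) = (LP (LK LD1_c3 LD2_c29 LD3_c5)) :=
  Lre_e IH (LK LD1_c1 LD2_c41 LD3_c16) (LK LD1_c3 LD2_c29 LD3_c5) Lrfl Lrfl
theorem f63201 : Led Lsl_ft (LP (LK LD1_c3 LD2_c29 LD3_c5)) = (LP (LK LD1_c6 LD2_c59 LD3_c58)) :=
  Lre_f IH (LK LD1_c3 LD2_c29 LD3_c5) (LK LD1_c6 LD2_c59 LD3_c58) Lrfl Lrfl
theorem f63123 : Led Lsl_et (LP (LK LD1_c3 LD2_c50 LD3_c14)) = (LP (LK LD1_c1 LD2_c52 LD3_c2)) :=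
  Lre_e IH (LK LD1_c3 LD2_c50 LD3_c14) (LK LD1_c1 LD2_c52 LD3_c2) Lrfl Lrfl
theorem f63202 : Led Lsl_ft (LP (LK LD1_c7 LD2_c41 LD3_c33)) = (LP (LK LD1_c3 LD2_c50 LD3_c14)) :=
  Lre_f IH (LK LD1_c7 LD2_c41 LD3_c33) (LK LD1_c3 LD2_c50 LD3_c14) Lrfl Lrfl
theorem f63203 : Led Lsl_et (LP (LK LD1_c6 LD2_c59 LD3_c58)) = (LP (LK LD1_c7 LD2_c41 LD3_c33)) :=
  Lgr Lrot69 (Lpe (f63201 IH) (Lpe (f62844 IH) (Lpr_ff (f63136 IH) (Lpe (f63123 IH) (Lpe (f63202 IH) (Lpn (LP (LK LD1_c7 LD2_c41 LD3_c33))))))))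
theorem f63205 : Led Lsl_at (LP (LK LD1_c3 LD2_c30 LD3_c17)) = (LP (LK LD1_c6 LD2_c59 LD3_c58)) :=
  Lre_a IH (LK LD1_c3 LD2_c30 LD3_c17) (LK LD1_c6 LD2_c59 LD3_c58) Lrfl Lrfl
theorem f63206 : Led Lsl_et (LP (LK LD1_c7 LD2_c2 LD3_c21)) = (LP (LK LD1_c3 LD2_c30 LD3_c17)) :=
  Lre_e IH (LK LD1_c7 LD2_c2 LD3_c21) (LK LD1_c3 LD2_c30 LD3_c17) Lrfl Lrfl
theorem f63207 : Led Lsl_af (LP (LK LD1_c7 LD2_c2 LD3_c21)) = (LP (LK LD1_c7 LD2_c41 LD3_c33)) :=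
  Lgr Lrot50 (Lpr_et (f63206 IH) (Lpr_at (f63205 IH) (Lpr_et (f63203 IH) (Lpn (LP (LK LD1_c7 LD2_c41 LD3_c33))))))
theorem f63239 : Led Lsl_ft (LP (LK LD1_c3 LD2_c50 LD3_c14)) = (LP (LK LD1_c7 LD2_c41 LD3_c33)) :=
  Lre_f IH (LK LD1_c3 LD2_c50 LD3_c14) (LK LD1_c7 LD2_c41 LD3_c33) Lrfl Lrfl
theorem f63623 : Led Lsl_gf (LP (LK LD1_c7 LD2_c2 LD3_c21)) = (LP (LK LD1_c7 LD2_c41 LD3_c30)) :=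
  Lgr Lrot76 (Lpr_af (f63207 IH) (Lpe (f63239 IH) (Lpr_gt (f63158 IH) (Lpn (LP (LK LD1_c7 LD2_c41 LD3_c30))))))
theorem f63372 : Led Lsl_dt (LP (LK LD1_c7 LD2_c2 LD3_c21)) = (LP (LK LD1_c13 LD2_c20 LD3_c58)) :=
  Lre_d IH (LK LD1_c7 LD2_c2 LD3_c21) (LK LD1_c13 LD2_c20 LD3_c58) Lrfl Lrfl
theorem f65129 : Led Lsl_gf (LP (LK LD1_c7 LD2_c44 LD3_c53)) = (LP (LK LD1_c13 LD2_c20 LD3_c58)) :=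
  Lgr Lrot134 (Lpe (f65128 IH) (Lpr_et (f65127 IH) (Lpr_gt (f65126 IH) (Lpe (f65125 IH) (Lpr_dt (f65120 IH) (Lpr_gt (f65119 IH) (Lpr_df (f65106 IH) (Lpr_et (f63159 IH) (Lpe (f63623 IH) (Lpr_dt (f63372 IH) (Lpn (LP (LK LD1_c13 LD2_c20 LD3_c58)))))))))))))
theorem f65148 : Led Lsl_dt (LP (LK LD1_c3 LD2_c47 LD3_c50)) = (LP (LK LD1_c7 LD2_c36 LD3_c46)) :=
  Lre_d IH (LK LD1_c3 LD2_c47 LD3_c50) (LK LD1_c7 LD2_c36 LD3_c46) Lrfl Lrfl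
theorem f65149 : Led Lsl_gt (LP (LK LD1_c7 LD2_c36 LD3_c46)) = (LP (LK LD1_c3 LD2_c51 LD3_c44)) :=
  Lre_g IH (LK LD1_c7 LD2_c36 LD3_c46) (LK LD1_c3 LD2_c51 LD3_c44) Lrfl Lrfl
theorem f65150 : Led Lsl_dt (LP (LK LD1_c7 LD2_c45 LD3_c10)) = (LP (LK LD1_c3 LD2_c51 LD3_c44)) :=
  Lre_d IH (LK LD1_c7 LD2_c45 LD3_c10) (LK LD1_c3 LD2_c51 LD3_c44) Lrfl Lrfl
theorem f65151 : Led Lsl_gt (LP (LK LD1_c6 LD2_c59 LD3_c55)) = (LP (LK LD1_c3 LD2_c30 LD3_c17)) :=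
  Lre_g IH (LK LD1_c6 LD2_c59 LD3_c55) (LK LD1_c3 LD2_c30 LD3_c17) Lrfl Lrfl
theorem f65152 : Led Lsl_et (LP (LK LD1_c7 LD2_c45 LD3_c10)) = (LP (LK LD1_c6 LD2_c59 LD3_c55)) :=
  Lgr Lrot185 (Lpr_dt (f65150 IH) (Lpe (f65149 IH) (Lpe (f65148 IH) (Lpe (f65126 IH) (Lpe (f65127 IH) (Lpr_dt (f65128 IH) (Lpr_gf (f65129 IH) (Lpe (f63372 IH) (Lpr_et (f63206 IH) (Lpe (f65151 IH) (Lpn (LP (LK LD1_c6 LD2_c59 LD3_c55)))))))))))))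
theorem f65172 : Led Lsl_gt (LP (LK LD1_c3 LD2_c51 LD3_c44)) = (LP (LK LD1_c1 LD2_c52 LD3_c36)) :=
  Lre_g IH (LK LD1_c3 LD2_c51 LD3_c44) (LK LD1_c1 LD2_c52 LD3_c36) Lrfl Lrfl
theorem f65173 : Led Lsl_dt (LP (LK LD1_c0 LD2_c52 LD3_c60)) = (LP (LK LD1_c1 LD2_c52 LD3_c36)) :=
  Lre_d IH (LK LD1_c0 LD2_c52 LD3_c60) (LK LD1_c1 LD2_c52 LD3_c36) Lrfl Lrfl
theorem f65174 : Led Lsl_et (LP (LK LD1_c0 LD2_c52 LD3_c60)) = (LP (LK LD1_c0 LD2_c23 LD3_c52)) :=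
  Lre_e IH (LK LD1_c0 LD2_c52 LD3_c60) (LK LD1_c0 LD2_c23 LD3_c52) Lrfl Lrfl
theorem f15048 : Led Lsl_gt (LP (LK LD1_c0 LD2_c23 LD3_c52)) = (LP (LK LD1_c0 LD2_c52 LD3_c57)) :=
  Lre_g IH (LK LD1_c0 LD2_c23 LD3_c52) (LK LD1_c0 LD2_c52 LD3_c57) Lrfl Lrfl
theorem f62845 : Led Lsl_gt (LP (LK LD1_c3 LD2_c29 LD3_c5)) = (LP (LK LD1_c6 LD2_c59 LD3_c55)) :=
  Lre_g IH (LK LD1_c3 LD2_c29 LD3_c5) (LK LD1_c6 LD2_c59 LD3_c55) Lrfl Lrfl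
theorem f62806 : Led Lsl_dt (LP (LK LD1_c1 LD2_c41 LD3_c16)) = (LP (LK LD1_c0 LD2_c47 LD3_c14)) :=
  Lre_d IH (LK LD1_c1 LD2_c41 LD3_c16) (LK LD1_c0 LD2_c47 LD3_c14) Lrfl Lrfl
theorem f18862 : Led Lsl_et (LP (LK LD1_c0 LD2_c46 LD3_c51)) = (LP (LK LD1_c1 LD2_c40 LD3_c46)) :=
  Lre_e IH (LK LD1_c0 LD2_c46 LD3_c51) (LK LD1_c1 LD2_c40 LD3_c46) Lrfl Lrfl
theorem f18867 : Led Lsl_gt (LP (LK LD1_c1 LD2_c40 LD3_c46)) = (LP (LK LD1_c3 LD2_c28 LD3_c17)) :=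
  Lre_g IH (LK LD1_c1 LD2_c40 LD3_c46) (LK LD1_c3 LD2_c28 LD3_c17) Lrfl Lrfl
theorem f62681 : Led Lsl_et (LP (LK LD1_c0 LD2_c10 LD3_c41)) = (LP (LK LD1_c0 LD2_c4 LD3_c59)) :=
  Lre_e IH (LK LD1_c0 LD2_c10 LD3_c41) (LK LD1_c0 LD2_c4 LD3_c59) Lrfl Lrfl
theorem f62682 : Led Lsl_dt (LP (LK LD1_c0 LD2_c10 LD3_c41)) = (LP (LK LD1_c0 LD2_c21 LD3_c13)) :=
  Lre_d IH (LK LD1_c0 LD2_c10 LD3_c41) (LK LD1_c0 LD2_c21 LD3_c13) Lrfl Lrfl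
theorem f62683 : Led Lsl_gt (LP (LK LD1_c0 LD2_c47 LD3_c29)) = (LP (LK LD1_c0 LD2_c21 LD3_c13)) :=
  Lre_g IH (LK LD1_c0 LD2_c47 LD3_c29) (LK LD1_c0 LD2_c21 LD3_c13) Lrfl Lrfl
theorem f62684 : Led Lsl_dt (LP (LK LD1_c1 LD2_c41 LD3_c61)) = (LP (LK LD1_c0 LD2_c47 LD3_c29)) :=
  Lre_d IH (LK LD1_c1 LD2_c41 LD3_c61) (LK LD1_c0 LD2_c47 LD3_c29) Lrfl Lrfl
theorem f62685 : Led Lsl_ef (LP (LK LD1_c3 LD2_c28 LD3_c17)) = (LP (LK LD1_c1 LD2_c41 LD3_c61)) :=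
  Lgr Lrot17 (Lpe (f18867 IH) (Lpe (f18862 IH) (Lpr_dt (f18877 IH) (Lpe (f18904 IH) (Lpr_df (f62652 IH) (Lpe (K0.f11518 IH) (Lpe (f62681 IH) (Lpr_dt (f62682 IH) (Lpe (f62683 IH) (Lpe (f62684 IH) (Lpn (LP (LK LD1_c1 LD2_c41 LD3_c61)))))))))))))
theorem f18553 : Led Lsl_gt (LP (LK LD1_c3 LD2_c28 LD3_c17)) = (LP (LK LD1_c1 LD2_c42 LD3_c1)) :=
  Lre_g IH (LK LD1_c3 LD2_c28 LD3_c17) (LK LD1_c1 LD2_c42 LD3_c1) Lrfl Lrfl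
theorem f62767 : Led Lsl_et (LP (LK LD1_c0 LD2_c47 LD3_c30)) = (LP (LK LD1_c1 LD2_c42 LD3_c1)) :=
  Lre_e IH (LK LD1_c0 LD2_c47 LD3_c30) (LK LD1_c1 LD2_c42 LD3_c1) Lrfl Lrfl
theorem f62768 : Led Lsl_dt (LP (LK LD1_c0 LD2_c47 LD3_c30)) = (LP (LK LD1_c0 LD2_c23 LD3_c57)) :=
  Lre_d IH (LK LD1_c0 LD2_c47 LD3_c30) (LK LD1_c0 LD2_c23 LD3_c57) Lrfl Lrfl
theorem f14947 : Led Lsl_gt (LP (LK LD1_c0 LD2_c23 LD3_c57)) = (LP (LK LD1_c0 LD2_c52 LD3_c23)) :=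
  Lre_g IH (LK LD1_c0 LD2_c23 LD3_c57) (LK LD1_c0 LD2_c52 LD3_c23) Lrfl Lrfl
theorem f18816 : Led Lsl_gt (LP (LK LD1_c1 LD2_c41 LD3_c20)) = (LP (LK LD1_c0 LD2_c47 LD3_c29)) :=
  Lre_g IH (LK LD1_c1 LD2_c41 LD3_c20) (LK LD1_c0 LD2_c47 LD3_c29) Lrfl Lrfl
theorem f18805 : Led Lsl_dt (LP (LK LD1_c0 LD2_c52 LD3_c24)) = (LP (LK LD1_c1 LD2_c41 LD3_c20)) :=
  Lre_d IH (LK LD1_c0 LD2_c52 LD3_c24) (LK LD1_c1 LD2_c41 LD3_c20) Lrfl Lrfl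
theorem f62769 : Led Lsl_gt (LP (LK LD1_c0 LD2_c23 LD3_c55)) = (LP (LK LD1_c0 LD2_c52 LD3_c24)) :=
  Lre_g IH (LK LD1_c0 LD2_c23 LD3_c55) (LK LD1_c0 LD2_c52 LD3_c24) Lrfl Lrfl
theorem f62770 : Led Lsl_et (LP (LK LD1_c0 LD2_c53 LD3_c8)) = (LP (LK LD1_c0 LD2_c23 LD3_c55)) :=
  Lre_e IH (LK LD1_c0 LD2_c53 LD3_c8) (LK LD1_c0 LD2_c23 LD3_c55) Lrfl Lrfl
theorem f62771 : Led Lsl_df (LP (LK LD1_c0 LD2_c52 LD3_c23)) = (LP (LK LD1_c0 LD2_c53 LD3_c8)) :=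
  Lgr Lrot168 (Lpe (f14947 IH) (Lpe (f62768 IH) (Lpr_et (f62767 IH) (Lpe (f18553 IH) (Lpr_ef (f62685 IH) (Lpr_dt (f62684 IH) (Lpe (f18816 IH) (Lpe (f18805 IH) (Lpe (f62769 IH) (Lpe (f62770 IH) (Lpn (LP (LK LD1_c0 LD2_c53 LD3_c8)))))))))))))
theorem f62791 : Led Lsl_gt (LP (LK LD1_c0 LD2_c52 LD3_c23)) = (LP (LK LD1_c0 LD2_c23 LD3_c42)) :=
  Lre_g IH (LK LD1_c0 LD2_c52 LD3_c23) (LK LD1_c0 LD2_c23 LD3_c42) Lrfl Lrfl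
theorem f18779 : Led Lsl_dt (LP (LK LD1_c0 LD2_c47 LD3_c15)) = (LP (LK LD1_c0 LD2_c23 LD3_c42)) :=
  Lre_d IH (LK LD1_c0 LD2_c47 LD3_c15) (LK LD1_c0 LD2_c23 LD3_c42) Lrfl Lrfl
theorem f18781 : Led Lsl_et (LP (LK LD1_c0 LD2_c47 LD3_c15)) = (LP (LK LD1_c0 LD2_c21 LD3_c9)) :=
  Lre_e IH (LK LD1_c0 LD2_c47 LD3_c15) (LK LD1_c0 LD2_c21 LD3_c9) Lrfl Lrfl
theorem f62722 : Led Lsl_gt (LP (LK LD1_c0 LD2_c10 LD3_c41)) = (LP (LK LD1_c0 LD2_c23 LD3_c55)) :=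
  Lre_g IH (LK LD1_c0 LD2_c10 LD3_c41) (LK LD1_c0 LD2_c23 LD3_c55) Lrfl Lrfl
theorem f62795 : Led Lsl_et (LP (LK LD1_c0 LD2_c4 LD3_c59)) = (LP (LK LD1_c0 LD2_c10 LD3_c41)) :=
  Lre_e IH (LK LD1_c0 LD2_c4 LD3_c59) (LK LD1_c0 LD2_c10 LD3_c41) Lrfl Lrfl
theorem f23359 : Led Lsl_dt (LP (LK LD1_c0 LD2_c10 LD3_c35)) = (LP (LK LD1_c0 LD2_c4 LD3_c57)) :=
  Lre_d IH (LK LD1_c0 LD2_c10 LD3_c35) (LK LD1_c0 LD2_c4 LD3_c57) Lrfl Lrfl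
theorem f62796 : Led Lsl_gt (LP (LK LD1_c0 LD2_c21 LD3_c9)) = (LP (LK LD1_c0 LD2_c10 LD3_c35)) :=
  Lgr Lrot137 (Lpe (f18781 IH) (Lpr_dt (f18779 IH) (Lpe (f62791 IH) (Lpr_df (f62771 IH) (Lpr_et (f62770 IH) (Lpe (f62722 IH) (Lpe (f62795 IH) (Lpr_dt (K0.f17457 IH) (Lpe (f12428 IH) (Lpe (f23359 IH) (Lpn (LP (LK LD1_c0 LD2_c10 LD3_c35)))))))))))))
theorem f18882 : Led Lsl_ft (LP (LK LD1_c0 LD2_c21 LD3_c9)) = (LP (LK LD1_c0 LD2_c46 LD3_c51)) :=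
  Lre_f IH (LK LD1_c0 LD2_c21 LD3_c9) (LK LD1_c0 LD2_c46 LD3_c51) Lrfl Lrfl
theorem f18872 : Led Lsl_at (LP (LK LD1_c0 LD2_c46 LD3_c51)) = (LP (LK LD1_c0 LD2_c21 LD3_c14)) :=
  Lre_a IH (LK LD1_c0 LD2_c46 LD3_c51) (LK LD1_c0 LD2_c21 LD3_c14) Lrfl Lrfl
theorem f62801 : Led Lsl_gf (LP (LK LD1_c0 LD2_c21 LD3_c14)) = (LP (LK LD1_c0 LD2_c10 LD3_c35)) :=
  Lgr Lrot76 (Lpe (f18872 IH) (Lpe (f18882 IH) (Lpr_gt (f62796 IH) (Lpn (LP (LK LD1_c0 LD2_c10 LD3_c35))))))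
theorem f11061 : Led Lsl_ct (LP (LK LD1_c0 LD2_c21 LD3_c14)) = (LP (LK LD1_c0 LD2_c47 LD3_c27)) :=
  Lre_c IH (LK LD1_c0 LD2_c21 LD3_c14) (LK LD1_c0 LD2_c47 LD3_c27) Lrfl Lrfl
theorem f14693 : Led Lsl_dt (LP (LK LD1_c0 LD2_c4 LD3_c57)) = (LP (LK LD1_c0 LD2_c10 LD3_c35)) :=
  Lre_d IH (LK LD1_c0 LD2_c4 LD3_c57) (LK LD1_c0 LD2_c10 LD3_c35) Lrfl Lrfl
theorem f23461 : Led Lsl_ct (LP (LK LD1_c0 LD2_c8 LD3_c48)) = (LP (LK LD1_c0 LD2_c19 LD3_c35)) :=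
  Lre_c IH (LK LD1_c0 LD2_c8 LD3_c48) (LK LD1_c0 LD2_c19 LD3_c35) Lrfl Lrfl
theorem f62816 : Led Lsl_dt (LP (LK LD1_c0 LD2_c43 LD3_c54)) = (LP (LK LD1_c0 LD2_c19 LD3_c35)) :=
  Lre_d IH (LK LD1_c0 LD2_c43 LD3_c54) (LK LD1_c0 LD2_c19 LD3_c35) Lrfl Lrfl
theorem f62817 : Led Lsl_ct (LP (LK LD1_c1 LD2_c34 LD3_c25)) = (LP (LK LD1_c0 LD2_c43 LD3_c54)) :=
  Lre_c IH (LK LD1_c1 LD2_c34 LD3_c25) (LK LD1_c0 LD2_c43 LD3_c54) Lrfl Lrfl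
theorem f62818 : Led Lsl_gt (LP (LK LD1_c0 LD2_c47 LD3_c27)) = (LP (LK LD1_c1 LD2_c34 LD3_c25)) :=
  Lgr Lrot150 (Lpe (f11061 IH) (Lpr_gf (f62801 IH) (Lpe (f14693 IH) (Lpr_gt (f12428 IH) (Lpr_ct (K0.f12345 IH) (Lpr_gt (K0.f7157 IH) (Lpr_ct (f23461 IH) (Lpe (f62816 IH) (Lpe (f62817 IH) (Lpn (LP (LK LD1_c1 LD2_c34 LD3_c25))))))))))))
theorem f18616 : Led Lsl_ft (LP (LK LD1_c0 LD2_c47 LD3_c27)) = (LP (LK LD1_c0 LD2_c21 LD3_c12)) :=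
  Lre_f IH (LK LD1_c0 LD2_c47 LD3_c27) (LK LD1_c0 LD2_c21 LD3_c12) Lrfl Lrfl
theorem f62831 : Led Lsl_at (LP (LK LD1_c0 LD2_c21 LD3_c12)) = (LP (LK LD1_c0 LD2_c47 LD3_c14)) :=
  Lre_a IH (LK LD1_c0 LD2_c21 LD3_c12) (LK LD1_c0 LD2_c47 LD3_c14) Lrfl Lrfl
theorem f62832 : Led Lsl_gf (LP (LK LD1_c0 LD2_c47 LD3_c14)) = (LP (LK LD1_c1 LD2_c34 LD3_c25)) :=
  Lgr Lrot76 (Lpe (f62831 IH) (Lpe (f18616 IH) (Lpr_gt (f62818 IH) (Lpn (LP (LK LD1_c1 LD2_c34 LD3_c25))))))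
theorem f65175 : Led Lsl_dt (LP (LK LD1_c0 LD2_c52 LD3_c57)) = (LP (LK LD1_c1 LD2_c34 LD3_c25)) :=
  Lgr Lrot171 (Lpe (f15048 IH) (Lpe (f65174 IH) (Lpr_dt (f65173 IH) (Lpe (f65172 IH) (Lpe (f65150 IH) (Lpr_et (f65152 IH) (Lpe (f62845 IH) (Lpe (f62844 IH) (Lpr_dt (f62806 IH) (Lpr_gf (f62832 IH) (Lpn (LP (LK LD1_c1 LD2_c34 LD3_c25)))))))))))))
theorem f14675 : Led Lsl_gt (LP (LK LD1_c0 LD2_c52 LD3_c57)) = (LP (LK LD1_c1 LD2_c35 LD3_c31)) :=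
  Lre_g IH (LK LD1_c0 LD2_c52 LD3_c57) (LK LD1_c1 LD2_c35 LD3_c31) Lrfl Lrfl
theorem f64261 : Led Lsl_ct (LP (LK LD1_c1 LD2_c35 LD3_c31)) = (LP (LK LD1_c0 LD2_c44 LD3_c20)) :=
  Lre_c IH (LK LD1_c1 LD2_c35 LD3_c31) (LK LD1_c0 LD2_c44 LD3_c20) Lrfl Lrfl
theorem f62195 : Led Lsl_gt (LP (LK LD1_c0 LD2_c44 LD3_c20)) = (LP (LK LD1_c1 LD2_c35 LD3_c29)) :=
  Lre_g IH (LK LD1_c0 LD2_c44 LD3_c20) (LK LD1_c1 LD2_c35 LD3_c29) Lrfl Lrfl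
theorem f18769 : Led Lsl_ct (LP (LK LD1_c0 LD2_c47 LD3_c14)) = (LP (LK LD1_c0 LD2_c21 LD3_c9)) :=
  Lre_c IH (LK LD1_c0 LD2_c47 LD3_c14) (LK LD1_c0 LD2_c21 LD3_c9) Lrfl Lrfl
theorem f14694 : Led Lsl_ct (LP (LK LD1_c0 LD2_c10 LD3_c35)) = (LP (LK LD1_c0 LD2_c23 LD3_c36)) :=
  Lre_c IH (LK LD1_c0 LD2_c10 LD3_c35) (LK LD1_c0 LD2_c23 LD3_c36) Lrfl Lrfl
theorem f62805 : Led Lsl_dt (LP (LK LD1_c0 LD2_c23 LD3_c36)) = (LP (LK LD1_c0 LD2_c52 LD3_c8)) :=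
  Lre_d IH (LK LD1_c0 LD2_c23 LD3_c36) (LK LD1_c0 LD2_c52 LD3_c8) Lrfl Lrfl
theorem f65195 : Led Lsl_ct (LP (LK LD1_c1 LD2_c35 LD3_c29)) = (LP (LK LD1_c0 LD2_c52 LD3_c8)) :=
  Lgr Lrot151 (Lpe (f62195 IH) (Lpe (f64261 IH) (Lpe (f14675 IH) (Lpr_dt (f65175 IH) (Lpe (f62832 IH) (Lpr_ct (f18769 IH) (Lpr_gt (f62796 IH) (Lpr_ct (f14694 IH) (Lpr_dt (f62805 IH) (Lpn (LP (LK LD1_c0 LD2_c52 LD3_c8))))))))))))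
theorem f62804 : Led Lsl_dt (LP (LK LD1_c0 LD2_c52 LD3_c8)) = (LP (LK LD1_c0 LD2_c23 LD3_c36)) :=
  Lre_d IH (LK LD1_c0 LD2_c52 LD3_c8) (LK LD1_c0 LD2_c23 LD3_c36) Lrfl Lrfl
theorem f62807 : Led Lsl_ct (LP (LK LD1_c0 LD2_c23 LD3_c36)) = (LP (LK LD1_c0 LD2_c10 LD3_c35)) :=
  Lre_c IH (LK LD1_c0 LD2_c23 LD3_c36) (LK LD1_c0 LD2_c10 LD3_c35) Lrfl Lrfl
theorem f65234 : Led Lsl_at (LP (LK LD1_c0 LD2_c23 LD3_c26)) = (LP (LK LD1_c0 LD2_c10 LD3_c34)) :=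
  Lre_a IH (LK LD1_c0 LD2_c23 LD3_c26) (LK LD1_c0 LD2_c10 LD3_c34) Lrfl Lrfl
theorem f65235 : Led Lsl_ft (LP (LK LD1_c0 LD2_c10 LD3_c30)) = (LP (LK LD1_c0 LD2_c23 LD3_c26)) :=
  Lre_f IH (LK LD1_c0 LD2_c10 LD3_c30) (LK LD1_c0 LD2_c23 LD3_c26) Lrfl Lrfl
theorem f62858 : Led Lsl_dt (LP (LK LD1_c0 LD2_c10 LD3_c30)) = (LP (LK LD1_c0 LD2_c23 LD3_c25)) :=
  Lre_d IH (LK LD1_c0 LD2_c10 LD3_c30) (LK LD1_c0 LD2_c23 LD3_c25) Lrfl Lrfl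
theorem f62863 : Led Lsl_ct (LP (LK LD1_c0 LD2_c23 LD3_c25)) = (LP (LK LD1_c0 LD2_c51 LD3_c47)) :=
  Lre_c IH (LK LD1_c0 LD2_c23 LD3_c25) (LK LD1_c0 LD2_c51 LD3_c47) Lrfl Lrfl
theorem f65236 : Led Lsl_df (LP (LK LD1_c1 LD2_c35 LD3_c29)) = (LP (LK LD1_c0 LD2_c51 LD3_c47)) :=
  Lgr Lrot106 (Lpr_ct (f65195 IH) (Lpr_dt (f62804 IH) (Lpr_ct (f62807 IH) (Lpr_dt (f23359 IH) (Lpr_ct (f5251 IH) (Lpe (f65234 IH) (Lpe (f65235 IH) (Lpr_dt (f62858 IH) (Lpr_ct (f62863 IH) (Lpn (LP (LK LD1_c0 LD2_c51 LD3_c47))))))))))))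
theorem f64617 : Led Lsl_gt (LP (LK LD1_c1 LD2_c35 LD3_c29)) = (LP (LK LD1_c0 LD2_c52 LD3_c59)) :=
  Lre_g IH (LK LD1_c1 LD2_c35 LD3_c29) (LK LD1_c0 LD2_c52 LD3_c59) Lrfl Lrfl
theorem f64605 : Led Lsl_dt (LP (LK LD1_c0 LD2_c52 LD3_c59)) = (LP (LK LD1_c1 LD2_c34 LD3_c13)) :=
  Lre_d IH (LK LD1_c0 LD2_c52 LD3_c59) (LK LD1_c1 LD2_c34 LD3_c13) Lrfl Lrfl
theorem f65252 : Led Lsl_dt (LP (LK LD1_c0 LD2_c19 LD3_c36)) = (LP (LK LD1_c0 LD2_c8 LD3_c48)) :=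
  Lre_d IH (LK LD1_c0 LD2_c19 LD3_c36) (LK LD1_c0 LD2_c8 LD3_c48) Lrfl Lrfl
theorem f20960 : Led Lsl_dt (LP (LK LD1_c0 LD2_c21 LD3_c14)) = (LP (LK LD1_c0 LD2_c9 LD3_c36)) :=
  Lre_d IH (LK LD1_c0 LD2_c21 LD3_c14) (LK LD1_c0 LD2_c9 LD3_c36) Lrfl Lrfl
theorem f12657 : Led Lsl_ct (LP (LK LD1_c0 LD2_c9 LD3_c36)) = (LP (LK LD1_c0 LD2_c18 LD3_c3)) :=
  Lre_c IH (LK LD1_c0 LD2_c9 LD3_c36) (LK LD1_c0 LD2_c18 LD3_c3) Lrfl Lrfl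
theorem f12153 : Led Lsl_dt (LP (LK LD1_c0 LD2_c40 LD3_c21)) = (LP (LK LD1_c0 LD2_c18 LD3_c3)) :=
  Lre_d IH (LK LD1_c0 LD2_c40 LD3_c21) (LK LD1_c0 LD2_c18 LD3_c3) Lrfl Lrfl
theorem f14692 : Led Lsl_gt (LP (LK LD1_c0 LD2_c10 LD3_c27)) = (LP (LK LD1_c0 LD2_c4 LD3_c57)) :=
  Lre_g IH (LK LD1_c0 LD2_c10 LD3_c27) (LK LD1_c0 LD2_c4 LD3_c57) Lrfl Lrfl
theorem f14710 : Led Lsl_gt (LP (LK LD1_c0 LD2_c19 LD3_c32)) = (LP (LK LD1_c0 LD2_c8 LD3_c49)) :=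
  Lre_g IH (LK LD1_c0 LD2_c19 LD3_c32) (LK LD1_c0 LD2_c8 LD3_c49) Lrfl Lrfl
theorem f62813 : Led Lsl_dt (LP (LK LD1_c0 LD2_c8 LD3_c49)) = (LP (LK LD1_c0 LD2_c19 LD3_c40)) :=
  Lre_d IH (LK LD1_c0 LD2_c8 LD3_c49) (LK LD1_c0 LD2_c19 LD3_c40) Lrfl Lrfl
theorem f62814 : Led Lsl_gf (LP (LK LD1_c0 LD2_c40 LD3_c21)) = (LP (LK LD1_c0 LD2_c19 LD3_c40)) :=
  Lgr Lrot143 (Lpr_dt (f12153 IH) (Lpe (f12657 IH) (Lpe (f20960 IH) (Lpr_gf (f62801 IH) (Lpe (f14693 IH) (Lpe (f14692 IH) (Lpe (f14687 IH) (Lpr_gt (f14710 IH) (Lpr_dt (f62813 IH) (Lpn (LP (LK LD1_c0 LD2_c19 LD3_c40))))))))))))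
theorem f22502 : Led Lsl_ct (LP (LK LD1_c0 LD2_c40 LD3_c21)) = (LP (LK LD1_c1 LD2_c27 LD3_c6)) :=
  Lre_c IH (LK LD1_c0 LD2_c40 LD3_c21) (LK LD1_c1 LD2_c27 LD3_c6) Lrfl Lrfl
theorem f12427 : Led Lsl_ct (LP (LK LD1_c0 LD2_c3 LD3_c60)) = (LP (LK LD1_c0 LD2_c2 LD3_c15)) :=
  Lre_c IH (LK LD1_c0 LD2_c3 LD3_c60) (LK LD1_c0 LD2_c2 LD3_c15) Lrfl Lrfl
theorem f62853 : Led Lsl_dt (LP (LK LD1_c0 LD2_c23 LD3_c25)) = (LP (LK LD1_c0 LD2_c10 LD3_c30)) :=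
  Lre_d IH (LK LD1_c0 LD2_c23 LD3_c25) (LK LD1_c0 LD2_c10 LD3_c30) Lrfl Lrfl
theorem f62854 : Led Lsl_ct (LP (LK LD1_c0 LD2_c51 LD3_c47)) = (LP (LK LD1_c0 LD2_c23 LD3_c25)) :=
  Lre_c IH (LK LD1_c0 LD2_c51 LD3_c47) (LK LD1_c0 LD2_c23 LD3_c25) Lrfl Lrfl
theorem f62855 : Led Lsl_gt (LP (LK LD1_c1 LD2_c27 LD3_c6)) = (LP (LK LD1_c0 LD2_c51 LD3_c47)) :=
  Lgr Lrot150 (Lpe (f22502 IH) (Lpr_gf (f62814 IH) (Lpe (f62813 IH) (Lpr_gt (K0.f12346 IH) (Lpr_ct (f12427 IH) (Lpr_gt (K0.f6699 IH) (Lpr_ct (K0.f5714 IH) (Lpe (f62853 IH) (Lpe (f62854 IH) (Lpn (LP (LK LD1_c0 LD2_c51 LD3_c47))))))))))))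
theorem f65253 : Led Lsl_gf (LP (LK LD1_c0 LD2_c19 LD3_c36)) = (LP (LK LD1_c0 LD2_c40 LD3_c21)) :=
  Lgr Lrot144 (Lpr_dt (f65252 IH) (Lpr_gt (K0.f14705 IH) (Lpr_dt (f62000 IH) (Lpe (f62005 IH) (Lpe (f64605 IH) (Lpe (f64617 IH) (Lpr_df (f65236 IH) (Lpe (f62855 IH) (Lpe (f22502 IH) (Lpn (LP (LK LD1_c0 LD2_c40 LD3_c21))))))))))))
theorem f65385 : Led Lsl_ft (LP (LK LD1_c0 LD2_c40 LD3_c21)) = (LP (LK LD1_c0 LD2_c18 LD3_c2)) :=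
  Lre_f IH (LK LD1_c0 LD2_c40 LD3_c21) (LK LD1_c0 LD2_c18 LD3_c2) Lrfl Lrfl
theorem f65386 : Led Lsl_at (LP (LK LD1_c0 LD2_c18 LD3_c2)) = (LP (LK LD1_c0 LD2_c40 LD3_c16)) :=
  Lre_a IH (LK LD1_c0 LD2_c18 LD3_c2) (LK LD1_c0 LD2_c40 LD3_c16) Lrfl Lrfl
theorem f65387 : Led Lsl_gt (LP (LK LD1_c0 LD2_c19 LD3_c36)) = (LP (LK LD1_c0 LD2_c40 LD3_c16)) :=
  Lgr Lrot46 (Lpr_gf (f65253 IH) (Lpr_ft (f65385 IH) (Lpr_at (f65386 IH) (Lpn (LP (LK LD1_c0 LD2_c40 LD3_c16))))))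
theorem f12416 : Led Lsl_dt (LP (LK LD1_c0 LD2_c10 LD3_c34)) = (LP (LK LD1_c0 LD2_c23 LD3_c34)) :=
  Lre_d IH (LK LD1_c0 LD2_c10 LD3_c34) (LK LD1_c0 LD2_c23 LD3_c34) Lrfl Lrfl
theorem f65639 : Led Lsl_ct (LP (LK LD1_c0 LD2_c52 LD3_c2)) = (LP (LK LD1_c0 LD2_c23 LD3_c34)) :=
  Lre_c IH (LK LD1_c0 LD2_c52 LD3_c2) (LK LD1_c0 LD2_c23 LD3_c34) Lrfl Lrfl
theorem f62953 : Led Lsl_ct (LP (LK LD1_c0 LD2_c40 LD3_c16)) = (LP (LK LD1_c1 LD2_c26 LD3_c56)) :=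
  Lre_c IH (LK LD1_c0 LD2_c40 LD3_c16) (LK LD1_c1 LD2_c26 LD3_c56) Lrfl Lrfl
theorem f65640 : Led Lsl_gf (LP (LK LD1_c0 LD2_c52 LD3_c2)) = (LP (LK LD1_c1 LD2_c26 LD3_c56)) :=
  Lgr Lrot104 (Lpr_ct (f65639 IH) (Lpe (f12416 IH) (Lpe (f5251 IH) (Lpe (f14692 IH) (Lpe (f14687 IH) (Lpe (K0.f14705 IH) (Lpe (f65252 IH) (Lpr_gt (f65387 IH) (Lpr_ct (f62953 IH) (Lpn (LP (LK LD1_c1 LD2_c26 LD3_c56))))))))))))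
theorem f58450 : Led Lsl_at (LP (LK LD1_c1 LD2_c26 LD3_c39)) = (LP (LK LD1_c0 LD2_c40 LD3_c21)) :=
  Lre_a IH (LK LD1_c1 LD2_c26 LD3_c39) (LK LD1_c0 LD2_c40 LD3_c21) Lrfl Lrfl
theorem f58395 : Led Lsl_ft (LP (LK LD1_c0 LD2_c40 LD3_c16)) = (LP (LK LD1_c1 LD2_c26 LD3_c39)) :=
  Lre_f IH (LK LD1_c0 LD2_c40 LD3_c16) (LK LD1_c1 LD2_c26 LD3_c39) Lrfl Lrfl
theorem f62849 : Led Lsl_gt (LP (LK LD1_c0 LD2_c40 LD3_c16)) = (LP (LK LD1_c0 LD2_c19 LD3_c40)) :=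
  Lgr Lrot5 (Lpr_ft (f58395 IH) (Lpr_at (f58450 IH) (Lpr_gf (f62814 IH) (Lpn (LP (LK LD1_c0 LD2_c19 LD3_c40))))))
theorem f62859 : Led Lsl_dt (LP (LK LD1_c0 LD2_c19 LD3_c40)) = (LP (LK LD1_c0 LD2_c8 LD3_c49)) :=
  Lre_d IH (LK LD1_c0 LD2_c19 LD3_c40) (LK LD1_c0 LD2_c8 LD3_c49) Lrfl Lrfl
theorem f62960 : Led Lsl_dt (LP (LK LD1_c0 LD2_c3 LD3_c60)) = (LP (LK LD1_c0 LD2_c8 LD3_c51)) :=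
  Lre_d IH (LK LD1_c0 LD2_c3 LD3_c60) (LK LD1_c0 LD2_c8 LD3_c51) Lrfl Lrfl
theorem f24616 : Led Lsl_ct (LP (LK LD1_c0 LD2_c19 LD3_c45)) = (LP (LK LD1_c0 LD2_c8 LD3_c51)) :=
  Lre_c IH (LK LD1_c0 LD2_c19 LD3_c45) (LK LD1_c0 LD2_c8 LD3_c51) Lrfl Lrfl
theorem f24617 : Led Lsl_dt (LP (LK LD1_c0 LD2_c44 LD3_c20)) = (LP (LK LD1_c0 LD2_c19 LD3_c45)) :=
  Lre_d IH (LK LD1_c0 LD2_c44 LD3_c20) (LK LD1_c0 LD2_c19 LD3_c45) Lrfl Lrfl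
theorem f24618 : Led Lsl_gt (LP (LK LD1_c1 LD2_c35 LD3_c30)) = (LP (LK LD1_c0 LD2_c44 LD3_c20)) :=
  Lre_g IH (LK LD1_c1 LD2_c35 LD3_c30) (LK LD1_c0 LD2_c44 LD3_c20) Lrfl Lrfl
theorem f65666 : Led Lsl_dt (LP (LK LD1_c0 LD2_c52 LD3_c2)) = (LP (LK LD1_c1 LD2_c35 LD3_c30)) :=
  Lgr Lrot57 (Lpr_gf (f65640 IH) (Lpe (f62953 IH) (Lpr_gt (f62849 IH) (Lpr_dt (f62859 IH) (Lpr_gt (K0.f12346 IH) (Lpr_dt (f62960 IH) (Lpe (f24616 IH) (Lpe (f24617 IH) (Lpe (f24618 IH) (Lpn (LP (LK LD1_c1 LD2_c35 LD3_c30))))))))))))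
theorem f65689 : Led Lsl_df (LP (LK LD1_c0 LD2_c52 LD3_c2)) = (LP (LK LD1_c1 LD2_c35 LD3_c30)) :=
  Lgr Lrot38 (Lpr_dt (f65666 IH) (Lpn (LP (LK LD1_c1 LD2_c35 LD3_c30))))
theorem f5250 : Led Lsl_gt (LP (LK LD1_c0 LD2_c23 LD3_c22)) = (LP (LK LD1_c0 LD2_c10 LD3_c34)) :=
  Lre_g IH (LK LD1_c0 LD2_c23 LD3_c22) (LK LD1_c0 LD2_c10 LD3_c34) Lrfl Lrfl
theorem f5828 : Led Lsl_dt (LP (LK LD1_c0 LD2_c51 LD3_c40)) = (LP (LK LD1_c0 LD2_c23 LD3_c22)) :=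
  Lre_d IH (LK LD1_c0 LD2_c51 LD3_c40) (LK LD1_c0 LD2_c23 LD3_c22) Lrfl Lrfl
theorem f62193 : Led Lsl_gt (LP (LK LD1_c0 LD2_c52 LD3_c59)) = (LP (LK LD1_c1 LD2_c35 LD3_c30)) :=
  Lre_g IH (LK LD1_c0 LD2_c52 LD3_c59) (LK LD1_c1 LD2_c35 LD3_c30) Lrfl Lrfl
theorem f62192 : Led Lsl_dt (LP (LK LD1_c1 LD2_c34 LD3_c13)) = (LP (LK LD1_c0 LD2_c52 LD3_c59)) :=
  Lre_d IH (LK LD1_c1 LD2_c34 LD3_c13) (LK LD1_c0 LD2_c52 LD3_c59) Lrfl Lrfl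
theorem f66423 : Led Lsl_gf (LP (LK LD1_c0 LD2_c51 LD3_c40)) = (LP (LK LD1_c0 LD2_c47 LD3_c2)) :=
  Lgr Lrot144 (Lpr_dt (f5828 IH) (Lpr_gt (f5250 IH) (Lpr_dt (f12416 IH) (Lpe (f65639 IH) (Lpr_df (f65689 IH) (Lpe (f62193 IH) (Lpe (f62192 IH) (Lpe (f62191 IH) (Lpe (f62182 IH) (Lpn (LP (LK LD1_c0 LD2_c47 LD3_c2))))))))))))
theorem f66432 : Led Lsl_gt (LP (LK LD1_c0 LD2_c51 LD3_c40)) = (LP (LK LD1_c0 LD2_c47 LD3_c11)) :=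
  Lgr Lrot46 (Lpr_gf (f66423 IH) (Lpr_ft (f62189 IH) (Lpr_at (f64293 IH) (Lpn (LP (LK LD1_c0 LD2_c47 LD3_c11))))))
theorem f4898 : Led Lsl_gt (LP (LK LD1_c0 LD2_c4 LD3_c51)) = (LP (LK LD1_c0 LD2_c10 LD3_c15)) :=
  Lre_g IH (LK LD1_c0 LD2_c4 LD3_c51) (LK LD1_c0 LD2_c10 LD3_c15) Lrfl Lrfl
theorem f9873 : Led Lsl_ft (LP (LK LD1_c0 LD2_c4 LD3_c28)) = (LP (LK LD1_c0 LD2_c2 LD3_c2)) :=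
  Lre_f IH (LK LD1_c0 LD2_c4 LD3_c28) (LK LD1_c0 LD2_c2 LD3_c2) Lrfl Lrfl
theorem f9765 : Led Lsl_at (LP (LK LD1_c0 LD2_c4 LD3_c26)) = (LP (LK LD1_c0 LD2_c9 LD3_c27)) :=
  Lre_a IH (LK LD1_c0 LD2_c4 LD3_c26) (LK LD1_c0 LD2_c9 LD3_c27) Lrfl Lrfl
theorem f9766 : Led Lsl_bt (LP (LK LD1_c0 LD2_c2 LD3_c2)) = (LP (LK LD1_c0 LD2_c4 LD3_c26)) :=
  Lre_b IH (LK LD1_c0 LD2_c2 LD3_c2) (LK LD1_c0 LD2_c4 LD3_c26) Lrfl Lrfl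
theorem f9767 : Led Lsl_at (LP (LK LD1_c0 LD2_c9 LD3_c27)) = (LP (LK LD1_c0 LD2_c4 LD3_c26)) :=
  Lre_a IH (LK LD1_c0 LD2_c9 LD3_c27) (LK LD1_c0 LD2_c4 LD3_c26) Lrfl Lrfl
theorem f9768 : Led Lsl_bt (LP (LK LD1_c0 LD2_c4 LD3_c26)) = (LP (LK LD1_c0 LD2_c2 LD3_c2)) :=
  Lre_b IH (LK LD1_c0 LD2_c4 LD3_c26) (LK LD1_c0 LD2_c2 LD3_c2) Lrfl Lrfl
theorem f9769 : Led Lsl_af (LP (LK LD1_c0 LD2_c2 LD3_c2)) = (LP (LK LD1_c0 LD2_c2 LD3_c2)) :=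
  Lgr Lrot36 (Lpr_bt (f9766 IH) (Lpr_at (f9765 IH) (Lpr_bt (K0.f9761 IH) (Lpr_at (f9767 IH) (Lpr_bt (f9768 IH) (Lpn (LP (LK LD1_c0 LD2_c2 LD3_c2))))))))
theorem f11872 : Led Lsl_gf (LP (LK LD1_c0 LD2_c2 LD3_c2)) = (LP (LK LD1_c0 LD2_c2 LD3_c11)) :=
  Lgr Lrot76 (Lpr_af (f9769 IH) (Lpe (f9873 IH) (Lpr_gt (K0.f11512 IH) (Lpn (LP (LK LD1_c0 LD2_c2 LD3_c11))))))
theorem f4903 : Led Lsl_bt (LP (LK LD1_c0 LD2_c4 LD3_c47)) = (LP (LK LD1_c0 LD2_c2 LD3_c11)) :=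
  Lre_b IH (LK LD1_c0 LD2_c4 LD3_c47) (LK LD1_c0 LD2_c2 LD3_c11) Lrfl Lrfl
theorem f5247 : Led Lsl_ct (LP (LK LD1_c0 LD2_c22 LD3_c32)) = (LP (LK LD1_c0 LD2_c10 LD3_c8)) :=
  Lre_c IH (LK LD1_c0 LD2_c22 LD3_c32) (LK LD1_c0 LD2_c10 LD3_c8) Lrfl Lrfl
theorem f12343 : Led Lsl_bf (LP (LK LD1_c0 LD2_c10 LD3_c15)) = (LP (LK LD1_c0 LD2_c22 LD3_c32)) :=
  Lgr Lrot34 (Lpe (f4898 IH) (Lpe (K0.f4477 IH) (Lpr_ct (K0.f12189 IH) (Lpe (K0.f59 IH) (Lpe (K0.f361 IH) (Lpr_gf (f11872 IH) (Lpe (f4903 IH) (Lpr_ct (K0.f5000 IH) (Lpe (K0.f5241 IH) (Lpe (f5247 IH) (Lpn (LP (LK LD1_c0 LD2_c22 LD3_c32)))))))))))))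
theorem f12339 : Led Lsl_ct (LP (LK LD1_c0 LD2_c10 LD3_c15)) = (LP (LK LD1_c0 LD2_c22 LD3_c42)) :=
  Lre_c IH (LK LD1_c0 LD2_c10 LD3_c15) (LK LD1_c0 LD2_c22 LD3_c42) Lrfl Lrfl
theorem f5244 : Led Lsl_ct (LP (LK LD1_c0 LD2_c10 LD3_c8)) = (LP (LK LD1_c0 LD2_c22 LD3_c32)) :=
  Lre_c IH (LK LD1_c0 LD2_c10 LD3_c8) (LK LD1_c0 LD2_c22 LD3_c32) Lrfl Lrfl
theorem f12352 : Led Lsl_bt (LP (LK LD1_c0 LD2_c22 LD3_c42)) = (LP (LK LD1_c0 LD2_c23 LD3_c22)) :=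
  Lgr Lrot128 (Lpe (f12339 IH) (Lpr_bf (f12343 IH) (Lpe (f5244 IH) (Lpe (K0.f5248 IH) (Lpe (K0.f5827 IH) (Lpn (LP (LK LD1_c0 LD2_c23 LD3_c22))))))))
theorem f12412 : Led Lsl_et (LP (LK LD1_c0 LD2_c50 LD3_c17)) = (LP (LK LD1_c0 LD2_c22 LD3_c42)) :=
  Lre_e IH (LK LD1_c0 LD2_c50 LD3_c17) (LK LD1_c0 LD2_c22 LD3_c42) Lrfl Lrfl
theorem f12413 : Led Lsl_et (LP (LK LD1_c0 LD2_c23 LD3_c22)) = (LP (LK LD1_c0 LD2_c51 LD3_c41)) :=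
  Lre_e IH (LK LD1_c0 LD2_c23 LD3_c22) (LK LD1_c0 LD2_c51 LD3_c41) Lrfl Lrfl
theorem f12414 : Led Lsl_bf (LP (LK LD1_c0 LD2_c50 LD3_c17)) = (LP (LK LD1_c0 LD2_c51 LD3_c41)) :=
  Lgr Lrot96 (Lpr_et (f12412 IH) (Lpr_bt (f12352 IH) (Lpr_et (f12413 IH) (Lpn (LP (LK LD1_c0 LD2_c51 LD3_c41))))))
theorem f12432 : Led Lsl_dt (LP (LK LD1_c0 LD2_c50 LD3_c17)) = (LP (LK LD1_c1 LD2_c46 LD3_c61)) :=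
  Lre_d IH (LK LD1_c0 LD2_c50 LD3_c17) (LK LD1_c1 LD2_c46 LD3_c61) Lrfl Lrfl
theorem f12433 : Led Lsl_dt (LP (LK LD1_c1 LD2_c49 LD3_c41)) = (LP (LK LD1_c0 LD2_c51 LD3_c41)) :=
  Lre_d IH (LK LD1_c1 LD2_c49 LD3_c41) (LK LD1_c0 LD2_c51 LD3_c41) Lrfl Lrfl
theorem f12434 : Led Lsl_bt (LP (LK LD1_c1 LD2_c46 LD3_c61)) = (LP (LK LD1_c1 LD2_c49 LD3_c41)) :=
  Lgr Lrot95 (Lpe (f12432 IH) (Lpr_bf (f12414 IH) (Lpe (f12433 IH) (Lpn (LP (LK LD1_c1 LD2_c49 LD3_c41))))))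
theorem f12450 : Led Lsl_et (LP (LK LD1_c3 LD2_c39 LD3_c58)) = (LP (LK LD1_c1 LD2_c46 LD3_c61)) :=
  Lre_e IH (LK LD1_c3 LD2_c39 LD3_c58) (LK LD1_c1 LD2_c46 LD3_c61) Lrfl Lrfl
theorem f12451 : Led Lsl_et (LP (LK LD1_c1 LD2_c49 LD3_c41)) = (LP (LK LD1_c3 LD2_c45 LD3_c7)) :=
  Lre_e IH (LK LD1_c1 LD2_c49 LD3_c41) (LK LD1_c3 LD2_c45 LD3_c7) Lrfl Lrfl
theorem f12452 : Led Lsl_bf (LP (LK LD1_c3 LD2_c39 LD3_c58)) = (LP (LK LD1_c3 LD2_c45 LD3_c7)) :=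
  Lgr Lrot96 (Lpr_et (f12450 IH) (Lpr_bt (f12434 IH) (Lpr_et (f12451 IH) (Lpn (LP (LK LD1_c3 LD2_c45 LD3_c7))))))
theorem f12464 : Led Lsl_dt (LP (LK LD1_c3 LD2_c39 LD3_c58)) = (LP (LK LD1_c1 LD2_c46 LD3_c58)) :=
  Lre_d IH (LK LD1_c3 LD2_c39 LD3_c58) (LK LD1_c1 LD2_c46 LD3_c58) Lrfl Lrfl
theorem f12465 : Led Lsl_dt (LP (LK LD1_c1 LD2_c49 LD3_c40)) = (LP (LK LD1_c3 LD2_c45 LD3_c7)) :=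
  Lre_d IH (LK LD1_c1 LD2_c49 LD3_c40) (LK LD1_c3 LD2_c45 LD3_c7) Lrfl Lrfl
theorem f12466 : Led Lsl_bt (LP (LK LD1_c1 LD2_c46 LD3_c58)) = (LP (LK LD1_c1 LD2_c49 LD3_c40)) :=
  Lgr Lrot95 (Lpe (f12464 IH) (Lpr_bf (f12452 IH) (Lpe (f12465 IH) (Lpn (LP (LK LD1_c1 LD2_c49 LD3_c40))))))
theorem f12472 : Led Lsl_bf (LP (LK LD1_c1 LD2_c46 LD3_c58)) = (LP (LK LD1_c1 LD2_c49 LD3_c40)) :=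
  Lgr Lrot24 (Lpr_bt (f12466 IH) (Lpn (LP (LK LD1_c1 LD2_c49 LD3_c40))))
theorem f12482 : Led Lsl_et (LP (LK LD1_c1 LD2_c46 LD3_c58)) = (LP (LK LD1_c0 LD2_c50 LD3_c16)) :=
  Lre_e IH (LK LD1_c1 LD2_c46 LD3_c58) (LK LD1_c0 LD2_c50 LD3_c16) Lrfl Lrfl
theorem f12483 : Led Lsl_et (LP (LK LD1_c0 LD2_c51 LD3_c40)) = (LP (LK LD1_c1 LD2_c49 LD3_c40)) :=
  Lre_e IH (LK LD1_c0 LD2_c51 LD3_c40) (LK LD1_c1 LD2_c49 LD3_c40) Lrfl Lrfl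
theorem f12484 : Led Lsl_bt (LP (LK LD1_c0 LD2_c50 LD3_c16)) = (LP (LK LD1_c0 LD2_c51 LD3_c40)) :=
  Lgr Lrot119 (Lpe (f12482 IH) (Lpr_bf (f12472 IH) (Lpe (f12483 IH) (Lpn (LP (LK LD1_c0 LD2_c51 LD3_c40))))))
theorem f64597 : Led Lsl_ct (LP (LK LD1_c0 LD2_c47 LD3_c11)) = (LP (LK LD1_c0 LD2_c44 LD3_c18)) :=
  Lgr Lrot59 (Lpr_cf (f64478 IH) (Lpn (LP (LK LD1_c0 LD2_c44 LD3_c18))))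
theorem f24615 : Led Lsl_bt (LP (LK LD1_c0 LD2_c8 LD3_c51)) = (LP (LK LD1_c0 LD2_c3 LD3_c61)) :=
  Lre_b IH (LK LD1_c0 LD2_c8 LD3_c51) (LK LD1_c0 LD2_c3 LD3_c61) Lrfl Lrfl
theorem f24605 : Led Lsl_bt (LP (LK LD1_c0 LD2_c19 LD3_c49)) = (LP (LK LD1_c0 LD2_c8 LD3_c53)) :=
  Lre_b IH (LK LD1_c0 LD2_c19 LD3_c49) (LK LD1_c0 LD2_c8 LD3_c53) Lrfl Lrfl
theorem f26468 : Led Lsl_ct (LP (LK LD1_c0 LD2_c19 LD3_c49)) = (LP (LK LD1_c0 LD2_c44 LD3_c31)) :=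
  Lre_c IH (LK LD1_c0 LD2_c19 LD3_c49) (LK LD1_c0 LD2_c44 LD3_c31) Lrfl Lrfl
theorem f66452 : Led Lsl_gt (LP (LK LD1_c0 LD2_c44 LD3_c31)) = (LP (LK LD1_c1 LD2_c35 LD3_c60)) :=
  Lre_g IH (LK LD1_c0 LD2_c44 LD3_c31) (LK LD1_c1 LD2_c35 LD3_c60) Lrfl Lrfl
theorem f66453 : Led Lsl_ct (LP (LK LD1_c0 LD2_c50 LD3_c16)) = (LP (LK LD1_c1 LD2_c35 LD3_c60)) :=
  Lgr Lrot10 (Lpr_bt (f12484 IH) (Lpr_gt (f66432 IH) (Lpr_ct (f64597 IH) (Lpr_gt (f36230 IH) (Lpe (f36229 IH) (Lpr_bt (f24615 IH) (Lpr_gt (K0.f24598 IH) (Lpe (f24605 IH) (Lpr_ct (f26468 IH) (Lpr_gt (f66452 IH) (Lpn (LP (LK LD1_c1 LD2_c35 LD3_c60)))))))))))))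
theorem f66462 : Led Lsl_cf (LP (LK LD1_c0 LD2_c50 LD3_c16)) = (LP (LK LD1_c1 LD2_c35 LD3_c60)) :=
  Lgr Lrot11 (Lpr_ct (f66453 IH) (Lpn (LP (LK LD1_c1 LD2_c35 LD3_c60))))
theorem f12408 : Led Lsl_dt (LP (LK LD1_c0 LD2_c50 LD3_c16)) = (LP (LK LD1_c0 LD2_c22 LD3_c42)) :=
  Lre_d IH (LK LD1_c0 LD2_c50 LD3_c16) (LK LD1_c0 LD2_c22 LD3_c42) Lrfl Lrfl
theorem f12422 : Led Lsl_gt (LP (LK LD1_c0 LD2_c19 LD3_c20)) = (LP (LK LD1_c0 LD2_c8 LD3_c42)) :=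
  Lre_g IH (LK LD1_c0 LD2_c19 LD3_c20) (LK LD1_c0 LD2_c8 LD3_c42) Lrfl Lrfl
theorem f23692 : Led Lsl_dt (LP (LK LD1_c0 LD2_c19 LD3_c20)) = (LP (LK LD1_c0 LD2_c43 LD3_c20)) :=
  Lre_d IH (LK LD1_c0 LD2_c19 LD3_c20) (LK LD1_c0 LD2_c43 LD3_c20) Lrfl Lrfl
theorem f66557 : Led Lsl_gt (LP (LK LD1_c0 LD2_c43 LD3_c20)) = (LP (LK LD1_c0 LD2_c19 LD3_c49)) :=
  Lgr Lrot9 (Lpe (f23692 IH) (Lpr_gt (f12422 IH) (Lpe (K0.f12333 IH) (Lpr_gt (f4898 IH) (Lpr_ct (f12339 IH) (Lpe (f12408 IH) (Lpr_cf (f66462 IH) (Lpe (f66452 IH) (Lpe (f26468 IH) (Lpn (LP (LK LD1_c0 LD2_c19 LD3_c49))))))))))))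
theorem f66565 : Led Lsl_bt (LP (LK LD1_c1 LD2_c33 LD3_c25)) = (LP (LK LD1_c0 LD2_c43 LD3_c20)) :=
  Lre_b IH (LK LD1_c1 LD2_c33 LD3_c25) (LK LD1_c0 LD2_c43 LD3_c20) Lrfl Lrfl
theorem f23701 : Led Lsl_ct (LP (LK LD1_c1 LD2_c33 LD3_c25)) = (LP (LK LD1_c3 LD2_c13 LD3_c43)) :=
  Lre_c IH (LK LD1_c1 LD2_c33 LD3_c25) (LK LD1_c3 LD2_c13 LD3_c43) Lrfl Lrfl
theorem f24856 : Led Lsl_bt (LP (LK LD1_c0 LD2_c8 LD3_c53)) = (LP (LK LD1_c0 LD2_c19 LD3_c49)) :=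
  Lre_b IH (LK LD1_c0 LD2_c8 LD3_c53) (LK LD1_c0 LD2_c19 LD3_c49) Lrfl Lrfl
theorem f36242 : Led Lsl_ct (LP (LK LD1_c0 LD2_c20 LD3_c21)) = (LP (LK LD1_c0 LD2_c24 LD3_c56)) :=
  Lgr Lrot59 (Lpr_cf (f36226 IH) (Lpn (LP (LK LD1_c0 LD2_c24 LD3_c56))))
theorem f36238 : Led Lsl_bt (LP (LK LD1_c0 LD2_c20 LD3_c21)) = (LP (LK LD1_c0 LD2_c45 LD3_c31)) :=
  Lre_b IH (LK LD1_c0 LD2_c20 LD3_c21) (LK LD1_c0 LD2_c45 LD3_c31) Lrfl Lrfl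
theorem f23366 : Led Lsl_gt (LP (LK LD1_c0 LD2_c45 LD3_c31)) = (LP (LK LD1_c1 LD2_c37 LD3_c58)) :=
  Lre_g IH (LK LD1_c0 LD2_c45 LD3_c31) (LK LD1_c1 LD2_c37 LD3_c58) Lrfl Lrfl
theorem f23367 : Led Lsl_ct (LP (LK LD1_c1 LD2_c37 LD3_c58)) = (LP (LK LD1_c3 LD2_c23 LD3_c3)) :=
  Lre_c IH (LK LD1_c1 LD2_c37 LD3_c58) (LK LD1_c3 LD2_c23 LD3_c3) Lrfl Lrfl
theorem f66567 : Led Lsl_gf (LP (LK LD1_c3 LD2_c13 LD3_c43)) = (LP (LK LD1_c3 LD2_c23 LD3_c3)) :=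
  Lgr Lrot129 (Lpe (f23701 IH) (Lpr_bt (f66565 IH) (Lpr_gt (f66557 IH) (Lpe (f24856 IH) (Lpr_ct (K0.f26472 IH) (Lpr_gt (K0.f35521 IH) (Lpe (f36242 IH) (Lpr_bt (f36238 IH) (Lpr_gt (f23366 IH) (Lpr_ct (f23367 IH) (Lpn (LP (LK LD1_c3 LD2_c23 LD3_c3)))))))))))))
theorem f66573 : Led Lsl_bf (LP (LK LD1_c0 LD2_c47 LD3_c11)) = (LP (LK LD1_c1 LD2_c37 LD3_c58)) :=
  Lgr Lrot34 (Lpe (f66432 IH) (Lpe (f12484 IH) (Lpr_ct (f66453 IH) (Lpe (f66452 IH) (Lpe (f26468 IH) (Lpe (f66557 IH) (Lpe (f66565 IH) (Lpr_ct (f23701 IH) (Lpr_gf (f66567 IH) (Lpe (f23367 IH) (Lpn (LP (LK LD1_c1 LD2_c37 LD3_c58)))))))))))))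
theorem f21022 : Led Lsl_bt (LP (LK LD1_c0 LD2_c21 LD3_c7)) = (LP (LK LD1_c0 LD2_c47 LD3_c10)) :=
  Lre_b IH (LK LD1_c0 LD2_c21 LD3_c7) (LK LD1_c0 LD2_c47 LD3_c10) Lrfl Lrfl
theorem f66582 : Led Lsl_dt (LP (LK LD1_c0 LD2_c47 LD3_c10)) = (LP (LK LD1_c1 LD2_c37 LD3_c58)) :=
  Lgr Lrot79 (Lpe (f21022 IH) (Lpe (f19357 IH) (Lpr_bf (f66573 IH) (Lpn (LP (LK LD1_c1 LD2_c37 LD3_c58))))))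
theorem f9784 : Led Lsl_gt (LP (LK LD1_c1 LD2_c37 LD3_c58)) = (LP (LK LD1_c0 LD2_c45 LD3_c26)) :=
  Lre_g IH (LK LD1_c1 LD2_c37 LD3_c58) (LK LD1_c0 LD2_c45 LD3_c26) Lrfl Lrfl
theorem f9783 : Led Lsl_dt (LP (LK LD1_c0 LD2_c45 LD3_c26)) = (LP (LK LD1_c0 LD2_c20 LD3_c16)) :=
  Lre_d IH (LK LD1_c0 LD2_c45 LD3_c26) (LK LD1_c0 LD2_c20 LD3_c16) Lrfl Lrfl
theorem f351 : Led Lsl_bt (LP (LK LD1_c0 LD2_c19 LD3_c51)) = (LP (LK LD1_c0 LD2_c8 LD3_c54)) :=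
  Lre_b IH (LK LD1_c0 LD2_c19 LD3_c51) (LK LD1_c0 LD2_c8 LD3_c54) Lrfl Lrfl
theorem f352 : Led Lsl_ct (LP (LK LD1_c0 LD2_c44 LD3_c38)) = (LP (LK LD1_c0 LD2_c19 LD3_c51)) :=
  Lre_c IH (LK LD1_c0 LD2_c44 LD3_c38) (LK LD1_c0 LD2_c19 LD3_c51) Lrfl Lrfl
theorem f353 : Led Lsl_dt (LP (LK LD1_c1 LD2_c36 LD3_c19)) = (LP (LK LD1_c0 LD2_c44 LD3_c38)) :=
  Lre_d IH (LK LD1_c1 LD2_c36 LD3_c19) (LK LD1_c0 LD2_c44 LD3_c38) Lrfl Lrfl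
theorem f11857 : Led Lsl_bt (LP (LK LD1_c0 LD2_c23 LD3_c44)) = (LP (LK LD1_c0 LD2_c52 LD3_c30)) :=
  Lre_b IH (LK LD1_c0 LD2_c23 LD3_c44) (LK LD1_c0 LD2_c52 LD3_c30) Lrfl Lrfl
theorem f64297 : Led Lsl_gf (LP (LK LD1_c1 LD2_c36 LD3_c19)) = (LP (LK LD1_c0 LD2_c52 LD3_c30)) :=
  Lgr Lrot85 (Lpr_dt (f353 IH) (Lpr_ct (f352 IH) (Lpr_bt (f351 IH) (Lpr_gt (f350 IH) (Lpr_dt (K0.f349 IH) (Lpr_ct (K0.f348 IH) (Lpr_bt (K0.f347 IH) (Lpr_gt (K0.f315 IH) (Lpe (K0.f332 IH) (Lpe (K0.f326 IH) (Lpe (K0.f324 IH) (Lpr_gt (K0.f3941 IH) (Lpr_dt (K0.f186 IH) (Lpr_ct (K0.f187 IH) (Lpr_bt (K0.f3945 IH) (Lpr_gt (K0.f3946 IH) (Lpr_dt (f62667 IH) (Lpr_ct (K0.f17301 IH) (Lpr_bt (f11857 IH) (Lpn (LP (LK LD1_c0 LD2_c52 LD3_c30))))))))))))))))))))))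
theorem f56671 : Led Lsl_cf (LP (LK LD1_c0 LD2_c8 LD3_c54)) = (LP (LK LD1_c0 LD2_c16 LD3_c42)) :=
  Lgr Lrot166 (Lpr_gt (f350 IH) (Lpr_dt (K0.f349 IH) (Lpr_gt (K0.f5834 IH) (Lpr_dt (f20089 IH) (Lpr_ct (f22456 IH) (Lpe (f22458 IH) (Lpr_gf (K0.f26476 IH) (Lpe (K0.f13477 IH) (Lpr_gf (f56582 IH) (Lpn (LP (LK LD1_c0 LD2_c16 LD3_c42))))))))))))
theorem f56743 : Led Lsl_et (LP (LK LD1_c0 LD2_c8 LD3_c54)) = (LP (LK LD1_c0 LD2_c19 LD3_c52)) :=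
  Lre_e IH (LK LD1_c0 LD2_c8 LD3_c54) (LK LD1_c0 LD2_c19 LD3_c52) Lrfl Lrfl
theorem f56681 : Led Lsl_et (LP (LK LD1_c0 LD2_c37 LD3_c30)) = (LP (LK LD1_c0 LD2_c16 LD3_c42)) :=
  Lre_e IH (LK LD1_c0 LD2_c37 LD3_c30) (LK LD1_c0 LD2_c16 LD3_c42) Lrfl Lrfl
theorem f56744 : Led Lsl_ct (LP (LK LD1_c0 LD2_c19 LD3_c52)) = (LP (LK LD1_c0 LD2_c37 LD3_c30)) :=
  Lgr Lrot15 (Lpe (f56743 IH) (Lpr_cf (f56671 IH) (Lpe (f56681 IH) (Lpn (LP (LK LD1_c0 LD2_c37 LD3_c30))))))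
theorem f57123 : Led Lsl_ft (LP (LK LD1_c0 LD2_c44 LD3_c43)) = (LP (LK LD1_c0 LD2_c19 LD3_c52)) :=
  Lre_f IH (LK LD1_c0 LD2_c44 LD3_c43) (LK LD1_c0 LD2_c19 LD3_c52) Lrfl Lrfl
theorem f57124 : Led Lsl_ft (LP (LK LD1_c0 LD2_c37 LD3_c30)) = (LP (LK LD1_c1 LD2_c21 LD3_c17)) :=
  Lre_f IH (LK LD1_c0 LD2_c37 LD3_c30) (LK LD1_c1 LD2_c21 LD3_c17) Lrfl Lrfl
theorem f57125 : Led Lsl_cf (LP (LK LD1_c0 LD2_c44 LD3_c43)) = (LP (LK LD1_c1 LD2_c21 LD3_c17)) :=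
  Lgr Lrot108 (Lpr_ft (f57123 IH) (Lpr_ct (f56744 IH) (Lpr_ft (f57124 IH) (Lpn (LP (LK LD1_c1 LD2_c21 LD3_c17))))))
theorem f57175 : Led Lsl_ct (LP (LK LD1_c0 LD2_c44 LD3_c43)) = (LP (LK LD1_c1 LD2_c21 LD3_c17)) :=
  Lgr Lrot59 (Lpr_cf (f57125 IH) (Lpn (LP (LK LD1_c1 LD2_c21 LD3_c17))))
theorem f57188 : Led Lsl_bt (LP (LK LD1_c1 LD2_c36 LD3_c23)) = (LP (LK LD1_c0 LD2_c44 LD3_c43)) :=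
  Lre_b IH (LK LD1_c1 LD2_c36 LD3_c23) (LK LD1_c0 LD2_c44 LD3_c43) Lrfl Lrfl
theorem f57189 : Led Lsl_ct (LP (LK LD1_c3 LD2_c19 LD3_c54)) = (LP (LK LD1_c1 LD2_c36 LD3_c23)) :=
  Lre_c IH (LK LD1_c3 LD2_c19 LD3_c54) (LK LD1_c1 LD2_c36 LD3_c23) Lrfl Lrfl
theorem f57184 : Led Lsl_bt (LP (LK LD1_c1 LD2_c21 LD3_c17)) = (LP (LK LD1_c2 LD2_c50 LD3_c21)) :=
  Lre_b IH (LK LD1_c1 LD2_c21 LD3_c17) (LK LD1_c2 LD2_c50 LD3_c21) Lrfl Lrfl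
theorem f57190 : Led Lsl_ct (LP (LK LD1_c2 LD2_c50 LD3_c21)) = (LP (LK LD1_c5 LD2_c48 LD3_c25)) :=
  Lre_c IH (LK LD1_c2 LD2_c50 LD3_c21) (LK LD1_c5 LD2_c48 LD3_c25) Lrfl Lrfl
theorem f57191 : Led Lsl_bf (LP (LK LD1_c3 LD2_c19 LD3_c54)) = (LP (LK LD1_c5 LD2_c48 LD3_c25)) :=
  Lgr Lrot90 (Lpr_ct (f57189 IH) (Lpr_bt (f57188 IH) (Lpr_ct (f57175 IH) (Lpr_bt (f57184 IH) (Lpr_ct (f57190 IH) (Lpn (LP (LK LD1_c5 LD2_c48 LD3_c25))))))))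
theorem f57207 : Led Lsl_ft (LP (LK LD1_c3 LD2_c19 LD3_c54)) = (LP (LK LD1_c1 LD2_c36 LD3_c20)) :=
  Lre_f IH (LK LD1_c3 LD2_c19 LD3_c54) (LK LD1_c1 LD2_c36 LD3_c20) Lrfl Lrfl
theorem f57208 : Led Lsl_ft (LP (LK LD1_c2 LD2_c50 LD3_c17)) = (LP (LK LD1_c5 LD2_c48 LD3_c25)) :=
  Lre_f IH (LK LD1_c2 LD2_c50 LD3_c17) (LK LD1_c5 LD2_c48 LD3_c25) Lrfl Lrfl
theorem f57209 : Led Lsl_bt (LP (LK LD1_c1 LD2_c36 LD3_c20)) = (LP (LK LD1_c2 LD2_c50 LD3_c17)) :=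
  Lgr Lrot35 (Lpe (f57207 IH) (Lpr_bf (f57191 IH) (Lpe (f57208 IH) (Lpn (LP (LK LD1_c2 LD2_c50 LD3_c17))))))
theorem f57230 : Led Lsl_et (LP (LK LD1_c0 LD2_c44 LD3_c38)) = (LP (LK LD1_c1 LD2_c36 LD3_c20)) :=
  Lre_e IH (LK LD1_c0 LD2_c44 LD3_c38) (LK LD1_c1 LD2_c36 LD3_c20) Lrfl Lrfl
theorem f57231 : Led Lsl_et (LP (LK LD1_c2 LD2_c50 LD3_c17)) = (LP (LK LD1_c1 LD2_c21 LD3_c10)) :=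
  Lre_e IH (LK LD1_c2 LD2_c50 LD3_c17) (LK LD1_c1 LD2_c21 LD3_c10) Lrfl Lrfl
theorem f57232 : Led Lsl_bf (LP (LK LD1_c0 LD2_c44 LD3_c38)) = (LP (LK LD1_c1 LD2_c21 LD3_c10)) :=
  Lgr Lrot96 (Lpr_et (f57230 IH) (Lpr_bt (f57209 IH) (Lpr_et (f57231 IH) (Lpn (LP (LK LD1_c1 LD2_c21 LD3_c10))))))
theorem f57251 : Led Lsl_dt (LP (LK LD1_c0 LD2_c44 LD3_c38)) = (LP (LK LD1_c1 LD2_c36 LD3_c19)) :=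
  Lre_d IH (LK LD1_c0 LD2_c44 LD3_c38) (LK LD1_c1 LD2_c36 LD3_c19) Lrfl Lrfl
theorem f56675 : Led Lsl_dt (LP (LK LD1_c2 LD2_c50 LD3_c16)) = (LP (LK LD1_c1 LD2_c21 LD3_c10)) :=
  Lre_d IH (LK LD1_c2 LD2_c50 LD3_c16) (LK LD1_c1 LD2_c21 LD3_c10) Lrfl Lrfl
theorem f57252 : Led Lsl_bt (LP (LK LD1_c1 LD2_c36 LD3_c19)) = (LP (LK LD1_c2 LD2_c50 LD3_c16)) :=
  Lgr Lrot95 (Lpe (f57251 IH) (Lpr_bf (f57232 IH) (Lpe (f56675 IH) (Lpn (LP (LK LD1_c2 LD2_c50 LD3_c16))))))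
theorem f57263 : Led Lsl_bf (LP (LK LD1_c1 LD2_c36 LD3_c19)) = (LP (LK LD1_c2 LD2_c50 LD3_c16)) :=
  Lgr Lrot24 (Lpr_bt (f57252 IH) (Lpn (LP (LK LD1_c2 LD2_c50 LD3_c16))))
theorem f11856 : Led Lsl_ct (LP (LK LD1_c0 LD2_c23 LD3_c44)) = (LP (LK LD1_c0 LD2_c10 LD3_c38)) :=
  Lre_c IH (LK LD1_c0 LD2_c23 LD3_c44) (LK LD1_c0 LD2_c10 LD3_c38) Lrfl Lrfl
theorem f12200 : Led Lsl_bt (LP (LK LD1_c0 LD2_c52 LD3_c49)) = (LP (LK LD1_c0 LD2_c23 LD3_c50)) :=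
  Lre_b IH (LK LD1_c0 LD2_c52 LD3_c49) (LK LD1_c0 LD2_c23 LD3_c50) Lrfl Lrfl
theorem f12290 : Led Lsl_ct (LP (LK LD1_c0 LD2_c52 LD3_c49)) = (LP (LK LD1_c1 LD2_c52 LD3_c9)) :=
  Lre_c IH (LK LD1_c0 LD2_c52 LD3_c49) (LK LD1_c1 LD2_c52 LD3_c9) Lrfl Lrfl
theorem f12330 : Led Lsl_gt (LP (LK LD1_c3 LD2_c50 LD3_c29)) = (LP (LK LD1_c1 LD2_c52 LD3_c9)) :=
  Lre_g IH (LK LD1_c3 LD2_c50 LD3_c29) (LK LD1_c1 LD2_c52 LD3_c9) Lrfl Lrfl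
theorem f64309 : Led Lsl_ct (LP (LK LD1_c2 LD2_c50 LD3_c16)) = (LP (LK LD1_c3 LD2_c50 LD3_c29)) :=
  Lgr Lrot64 (Lpe (f57263 IH) (Lpr_gf (f64297 IH) (Lpe (f11857 IH) (Lpr_ct (f11856 IH) (Lpe (K0.f11518 IH) (Lpe (f11855 IH) (Lpe (K0.f12192 IH) (Lpe (f12200 IH) (Lpr_ct (f12290 IH) (Lpe (f12330 IH) (Lpn (LP (LK LD1_c3 LD2_c50 LD3_c29)))))))))))))
theorem f12329 : Led Lsl_bt (LP (LK LD1_c0 LD2_c23 LD3_c51)) = (LP (LK LD1_c0 LD2_c10 LD3_c40)) :=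
  Lre_b IH (LK LD1_c0 LD2_c23 LD3_c51) (LK LD1_c0 LD2_c10 LD3_c40) Lrfl Lrfl
theorem f11851 : Led Lsl_ct (LP (LK LD1_c0 LD2_c53 LD3_c51)) = (LP (LK LD1_c0 LD2_c24 LD3_c12)) :=
  Lre_c IH (LK LD1_c0 LD2_c53 LD3_c51) (LK LD1_c0 LD2_c24 LD3_c12) Lrfl Lrfl
theorem f12199 : Led Lsl_ct (LP (LK LD1_c0 LD2_c23 LD3_c50)) = (LP (LK LD1_c0 LD2_c52 LD3_c50)) :=
  Lre_c IH (LK LD1_c0 LD2_c23 LD3_c50) (LK LD1_c0 LD2_c52 LD3_c50) Lrfl Lrfl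
theorem f12201 : Led Lsl_ct (LP (LK LD1_c1 LD2_c52 LD3_c9)) = (LP (LK LD1_c0 LD2_c52 LD3_c49)) :=
  Lre_c IH (LK LD1_c1 LD2_c52 LD3_c9) (LK LD1_c0 LD2_c52 LD3_c49) Lrfl Lrfl
theorem f11841 : Led Lsl_ct (LP (LK LD1_c0 LD2_c24 LD3_c12)) = (LP (LK LD1_c0 LD2_c53 LD3_c51)) :=
  Lre_c IH (LK LD1_c0 LD2_c24 LD3_c12) (LK LD1_c0 LD2_c53 LD3_c51) Lrfl Lrfl
theorem f12202 : Led Lsl_bf (LP (LK LD1_c1 LD2_c52 LD3_c9)) = (LP (LK LD1_c0 LD2_c53 LD3_c51)) :=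
  Lgr Lrot90 (Lpr_ct (f12201 IH) (Lpr_bt (f12200 IH) (Lpr_ct (f12199 IH) (Lpr_bt (K0.f12195 IH) (Lpr_ct (f11841 IH) (Lpn (LP (LK LD1_c0 LD2_c53 LD3_c51))))))))
theorem f64341 : Led Lsl_gf (LP (LK LD1_c2 LD2_c50 LD3_c16)) = (LP (LK LD1_c1 LD2_c52 LD3_c9)) :=
  Lgr Lrot181 (Lpr_ct (f64309 IH) (Lpr_gt (f12330 IH) (Lpe (f12290 IH) (Lpr_bt (f12200 IH) (Lpr_gt (K0.f12192 IH) (Lpe (f12329 IH) (Lpr_ct (K0.f11515 IH) (Lpr_gt (K0.f11840 IH) (Lpe (f11851 IH) (Lpe (f12202 IH) (Lpn (LP (LK LD1_c1 LD2_c52 LD3_c9)))))))))))))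
theorem f56674 : Led Lsl_ct (LP (LK LD1_c1 LD2_c21 LD3_c10)) = (LP (LK LD1_c0 LD2_c37 LD3_c28)) :=
  Lre_c IH (LK LD1_c1 LD2_c21 LD3_c10) (LK LD1_c0 LD2_c37 LD3_c28) Lrfl Lrfl
theorem f56673 : Led Lsl_bt (LP (LK LD1_c0 LD2_c37 LD3_c28)) = (LP (LK LD1_c0 LD2_c16 LD3_c42)) :=
  Lre_b IH (LK LD1_c0 LD2_c37 LD3_c28) (LK LD1_c0 LD2_c16 LD3_c42) Lrfl Lrfl
theorem f12081 : Led Lsl_bt (LP (LK LD1_c0 LD2_c4 LD3_c34)) = (LP (LK LD1_c0 LD2_c9 LD3_c41)) :=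
  Lre_b IH (LK LD1_c0 LD2_c4 LD3_c34) (LK LD1_c0 LD2_c9 LD3_c41) Lrfl Lrfl
theorem f12690 : Led Lsl_gt (LP (LK LD1_c0 LD2_c9 LD3_c41)) = (LP (LK LD1_c0 LD2_c21 LD3_c23)) :=
  Lre_g IH (LK LD1_c0 LD2_c9 LD3_c41) (LK LD1_c0 LD2_c21 LD3_c23) Lrfl Lrfl
theorem f64346 : Led Lsl_dt (LP (LK LD1_c0 LD2_c21 LD3_c23)) = (LP (LK LD1_c0 LD2_c24 LD3_c12)) :=
  Lgr Lrot182 (Lpe (f12690 IH) (Lpe (f12081 IH) (Lpr_cf (K0.f12073 IH) (Lpe (K0.f176 IH) (Lpe (K0.f13419 IH) (Lpe (K0.f135 IH) (Lpe (f26618 IH) (Lpr_df (K0.f26612 IH) (Lpe (K0.f9400 IH) (Lpe (K0.f20283 IH) (Lpe (K0.f13478 IH) (Lpe (K0.f13477 IH) (Lpr_gf (f56582 IH) (Lpe (f56673 IH) (Lpe (f56674 IH) (Lpe (f56675 IH) (Lpr_gf (f64341 IH) (Lpr_bf (f12202 IH) (Lpe (f11841 IH) (Lpn (LP (LK LD1_c0 LD2_c24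 LD3_c12))))))))))))))))))))))
theorem f17657 : Led Lsl_ct (LP (LK LD1_c0 LD2_c21 LD3_c26)) = (LP (LK LD1_c0 LD2_c9 LD3_c41)) :=
  Lre_c IH (LK LD1_c0 LD2_c21 LD3_c26) (LK LD1_c0 LD2_c9 LD3_c41) Lrfl Lrfl
theorem f66635 : Led Lsl_gf (LP (LK LD1_c0 LD2_c47 LD3_c10)) = (LP (LK LD1_c0 LD2_c21 LD3_c26)) :=
  Lgr Lrot144 (Lpr_dt (f66582 IH) (Lpr_gt (f9784 IH) (Lpr_dt (f9783 IH) (Lpe (K0.f9760 IH) (Lpe (K0.f9771 IH) (Lpr_gf (K0.f14630 IH) (Lpe (f64346 IH) (Lpe (f12690 IH) (Lpe (f17657 IH) (Lpn (LP (LK LD1_c0 LD2_c21 LD3_c26))))))))))))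
theorem f19356 : Led Lsl_ct (LP (LK LD1_c0 LD2_c21 LD3_c7)) = (LP (LK LD1_c0 LD2_c9 LD3_c33)) :=
  Lre_c IH (LK LD1_c0 LD2_c21 LD3_c7) (LK LD1_c0 LD2_c9 LD3_c33) Lrfl Lrfl
theorem f10017 : Led Lsl_gt (LP (LK LD1_c0 LD2_c9 LD3_c33)) = (LP (LK LD1_c0 LD2_c4 LD3_c30)) :=
  Lre_g IH (LK LD1_c0 LD2_c9 LD3_c33) (LK LD1_c0 LD2_c4 LD3_c30) Lrfl Lrfl
theorem f21021 : Led Lsl_bt (LP (LK LD1_c0 LD2_c8 LD3_c5)) = (LP (LK LD1_c0 LD2_c3 LD3_c43)) :=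
  Lre_b IH (LK LD1_c0 LD2_c8 LD3_c5) (LK LD1_c0 LD2_c3 LD3_c43) Lrfl Lrfl
theorem f26302 : Led Lsl_cf (LP (LK LD1_c0 LD2_c9 LD3_c1)) = (LP (LK LD1_c0 LD2_c13 LD3_c23)) :=
  Lgr Lrot166 (Lpr_gt (K0.f20926 IH) (Lpr_dt (K0.f20897 IH) (Lpr_gt (K0.f20868 IH) (Lpr_dt (K0.f9740 IH) (Lpr_ct (K0.f9733 IH) (Lpe (K0.f9743 IH) (Lpe (K0.f26253 IH) (Lpe (K0.f26059 IH) (Lpr_gf (K0.f26263 IH) (Lpn (LP (LK LD1_c0 LD2_c13 LD3_c23))))))))))))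
theorem f66638 : Led Lsl_bt (LP (LK LD1_c0 LD2_c13 LD3_c23)) = (LP (LK LD1_c0 LD2_c21 LD3_c26)) :=
  Lgr Lrot22 (Lpe (f26302 IH) (Lpr_gf (K0.f20831 IH) (Lpr_cf (K0.f21004 IH) (Lpe (K0.f9933 IH) (Lpe (f21021 IH) (Lpr_ct (f12749 IH) (Lpe (f10017 IH) (Lpe (f19356 IH) (Lpr_bt (f21022 IH) (Lpr_gf (f66635 IH) (Lpn (LP (LK LD1_c0 LD2_c21 LD3_c26)))))))))))))
theorem f66640 : Led Lsl_bf (LP (LK LD1_c0 LD2_c13 LD3_c23)) = (LP (LK LD1_c0 LD2_c21 LD3_c26)) :=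
  Lgr Lrot24 (Lpr_bt (f66638 IH) (Lpn (LP (LK LD1_c0 LD2_c21 LD3_c26))))
theorem f12659 : Led Lsl_bt (LP (LK LD1_c0 LD2_c4 LD3_c8)) = (LP (LK LD1_c0 LD2_c1 LD3_c57)) :=
  Lre_b IH (LK LD1_c0 LD2_c4 LD3_c8) (LK LD1_c0 LD2_c1 LD3_c57) Lrfl Lrfl
theorem f25179 : Led Lsl_gt (LP (LK LD1_c0 LD2_c8 LD3_c20)) = (LP (LK LD1_c0 LD2_c3 LD3_c49)) :=
  Lre_g IH (LK LD1_c0 LD2_c8 LD3_c20) (LK LD1_c0 LD2_c3 LD3_c49) Lrfl Lrfl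
theorem f25765 : Led Lsl_ct (LP (LK LD1_c0 LD2_c4 LD3_c8)) = (LP (LK LD1_c0 LD2_c8 LD3_c20)) :=
  Lgr Lrot64 (Lpr_bt (f12659 IH) (Lpe (K0.f12611 IH) (Lpr_bf (K0.f20008 IH) (Lpr_ct (K0.f7366 IH) (Lpr_gf (K0.f20952 IH) (Lpe (K0.f11027 IH) (Lpe (K0.f20958 IH) (Lpr_bf (K0.f25735 IH) (Lpr_ct (K0.f7147 IH) (Lpe (f25179 IH) (Lpn (LP (LK LD1_c0 LD2_c8 LD3_c20)))))))))))))
theorem f61209 : Led Lsl_af (LP (LK LD1_c0 LD2_c13 LD3_c24)) = (LP (LK LD1_c0 LD2_c8 LD3_c20)) :=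
  Lgr Lrot68 (Lpr_ct (f61007 IH) (Lpr_at (K0.f7364 IH) (Lpr_ct (f25765 IH) (Lpn (LP (LK LD1_c0 LD2_c8 LD3_c20))))))
theorem f61244 : Led Lsl_ff (LP (LK LD1_c0 LD2_c8 LD3_c20)) = (LP (LK LD1_c0 LD2_c13 LD3_c23)) :=
  Lgr Lrot52 (Lpe (f61209 IH) (Lpr_gf (f61220 IH) (Lpr_gf (K0.f26263 IH) (Lpn (LP (LK LD1_c0 LD2_c13 LD3_c23))))))
theorem f66752 : Led Lsl_bt (LP (LK LD1_c0 LD2_c8 LD3_c20)) = (LP (LK LD1_c0 LD2_c18 LD3_c31)) :=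
  Lre_b IH (LK LD1_c0 LD2_c8 LD3_c20) (LK LD1_c0 LD2_c18 LD3_c31) Lrfl Lrfl
theorem f66753 : Led Lsl_ft (LP (LK LD1_c0 LD2_c18 LD3_c31)) = (LP (LK LD1_c0 LD2_c21 LD3_c26)) :=
  Lgr Lrot75 (Lpe (f66752 IH) (Lpr_ff (f61244 IH) (Lpr_bf (f66640 IH) (Lpn (LP (LK LD1_c0 LD2_c21 LD3_c26))))))
theorem f66806 : Led Lsl_ff (LP (LK LD1_c0 LD2_c18 LD3_c31)) = (LP (LK LD1_c0 LD2_c21 LD3_c26)) :=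
  Lgr Lrot3 (Lpr_ft (f66753 IH) (Lpn (LP (LK LD1_c0 LD2_c21 LD3_c26))))
theorem f66816 : Led Lsl_at (LP (LK LD1_c0 LD2_c18 LD3_c31)) = (LP (LK LD1_c0 LD2_c41 LD3_c24)) :=
  Lre_a IH (LK LD1_c0 LD2_c18 LD3_c31) (LK LD1_c0 LD2_c41 LD3_c24) Lrfl Lrfl
theorem f59444 : Led Lsl_bt (LP (LK LD1_c0 LD2_c42 LD3_c60)) = (LP (LK LD1_c0 LD2_c19 LD3_c8)) :=
  Lre_b IH (LK LD1_c0 LD2_c42 LD3_c60) (LK LD1_c0 LD2_c19 LD3_c8) Lrfl Lrfl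
theorem f66642 : Led Lsl_df (LP (LK LD1_c0 LD2_c42 LD3_c60)) = (LP (LK LD1_c0 LD2_c21 LD3_c26)) :=
  Lgr Lrot12 (Lpr_bt (f59444 IH) (Lpe (f59460 IH) (Lpr_bt (f66638 IH) (Lpn (LP (LK LD1_c0 LD2_c21 LD3_c26))))))
theorem f59462 : Led Lsl_ct (LP (LK LD1_c0 LD2_c42 LD3_c60)) = (LP (LK LD1_c1 LD2_c32 LD3_c52)) :=
  Lre_c IH (LK LD1_c0 LD2_c42 LD3_c60) (LK LD1_c1 LD2_c32 LD3_c52) Lrfl Lrfl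
theorem f66660 : Led Lsl_dt (LP (LK LD1_c1 LD2_c32 LD3_c52)) = (LP (LK LD1_c3 LD2_c12 LD3_c48)) :=
  Lre_d IH (LK LD1_c1 LD2_c32 LD3_c52) (LK LD1_c3 LD2_c12 LD3_c48) Lrfl Lrfl
theorem f12096 : Led Lsl_ct (LP (LK LD1_c0 LD2_c9 LD3_c41)) = (LP (LK LD1_c0 LD2_c21 LD3_c26)) :=
  Lre_c IH (LK LD1_c0 LD2_c9 LD3_c41) (LK LD1_c0 LD2_c21 LD3_c26) Lrfl Lrfl
theorem f10770 : Led Lsl_dt (LP (LK LD1_c0 LD2_c22 LD3_c2)) = (LP (LK LD1_c0 LD2_c9 LD3_c57)) :=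
  Lre_d IH (LK LD1_c0 LD2_c22 LD3_c2) (LK LD1_c0 LD2_c9 LD3_c57) Lrfl Lrfl
theorem f5856 : Led Lsl_gt (LP (LK LD1_c0 LD2_c4 LD3_c41)) = (LP (LK LD1_c0 LD2_c9 LD3_c56)) :=
  Lre_g IH (LK LD1_c0 LD2_c4 LD3_c41) (LK LD1_c0 LD2_c9 LD3_c56) Lrfl Lrfl
theorem f10300 : Led Lsl_ct (LP (LK LD1_c0 LD2_c9 LD3_c56)) = (LP (LK LD1_c0 LD2_c21 LD3_c60)) :=
  Lre_c IH (LK LD1_c0 LD2_c9 LD3_c56) (LK LD1_c0 LD2_c21 LD3_c60) Lrfl Lrfl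
theorem f17644 : Led Lsl_dt (LP (LK LD1_c0 LD2_c21 LD3_c60)) = (LP (LK LD1_c0 LD2_c49 LD3_c0)) :=
  Lre_d IH (LK LD1_c0 LD2_c21 LD3_c60) (LK LD1_c0 LD2_c49 LD3_c0) Lrfl Lrfl
theorem f5812 : Led Lsl_gt (LP (LK LD1_c0 LD2_c22 LD3_c25)) = (LP (LK LD1_c0 LD2_c49 LD3_c51)) :=
  Lre_g IH (LK LD1_c0 LD2_c22 LD3_c25) (LK LD1_c0 LD2_c49 LD3_c51) Lrfl Lrfl
theorem f17962 : Led Lsl_cf (LP (LK LD1_c0 LD2_c49 LD3_c0)) = (LP (LK LD1_c0 LD2_c49 LD3_c51)) :=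
  Lgr Lrot99 (Lpe (f17644 IH) (Lpe (f10300 IH) (Lpe (f5856 IH) (Lpe (K0.f17629 IH) (Lpe (K0.f6101 IH) (Lpe (f10770 IH) (Lpr_gt (K0.f17956 IH) (Lpr_ct (K0.f375 IH) (Lpr_gt (f5812 IH) (Lpn (LP (LK LD1_c0 LD2_c49 LD3_c51))))))))))))
theorem f18018 : Led Lsl_ct (LP (LK LD1_c0 LD2_c49 LD3_c0)) = (LP (LK LD1_c0 LD2_c49 LD3_c51)) :=
  Lgr Lrot59 (Lpr_cf (f17962 IH) (Lpn (LP (LK LD1_c0 LD2_c49 LD3_c51))))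
theorem f17648 : Led Lsl_bt (LP (LK LD1_c0 LD2_c9 LD3_c32)) = (LP (LK LD1_c0 LD2_c21 LD3_c2)) :=
  Lre_b IH (LK LD1_c0 LD2_c9 LD3_c32) (LK LD1_c0 LD2_c21 LD3_c2) Lrfl Lrfl
theorem f17649 : Led Lsl_gt (LP (LK LD1_c0 LD2_c46 LD3_c56)) = (LP (LK LD1_c0 LD2_c21 LD3_c2)) :=
  Lre_g IH (LK LD1_c0 LD2_c46 LD3_c56) (LK LD1_c0 LD2_c21 LD3_c2) Lrfl Lrfl
theorem f10296 : Led Lsl_ct (LP (LK LD1_c0 LD2_c21 LD3_c60)) = (LP (LK LD1_c0 LD2_c9 LD3_c56)) :=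
  Lre_c IH (LK LD1_c0 LD2_c21 LD3_c60) (LK LD1_c0 LD2_c9 LD3_c56) Lrfl Lrfl
theorem f17650 : Led Lsl_bf (LP (LK LD1_c0 LD2_c46 LD3_c56)) = (LP (LK LD1_c0 LD2_c21 LD3_c60)) :=
  Lgr Lrot156 (Lpr_gt (f17649 IH) (Lpe (f17648 IH) (Lpr_ct (K0.f9928 IH) (Lpr_gt (K0.f9929 IH) (Lpr_cf (K0.f9930 IH) (Lpr_bt (K0.f6102 IH) (Lpr_gt (K0.f6101 IH) (Lpr_ct (K0.f17629 IH) (Lpr_gt (f5856 IH) (Lpe (f10296 IH) (Lpn (LP (LK LD1_c0 LD2_c21 LD3_c60)))))))))))))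
theorem f17660 : Led Lsl_dt (LP (LK LD1_c0 LD2_c46 LD3_c56)) = (LP (LK LD1_c1 LD2_c40 LD3_c51)) :=
  Lre_d IH (LK LD1_c0 LD2_c46 LD3_c56) (LK LD1_c1 LD2_c40 LD3_c51) Lrfl Lrfl
theorem f17643 : Led Lsl_dt (LP (LK LD1_c0 LD2_c49 LD3_c0)) = (LP (LK LD1_c0 LD2_c21 LD3_c60)) :=
  Lre_d IH (LK LD1_c0 LD2_c49 LD3_c0) (LK LD1_c0 LD2_c21 LD3_c60) Lrfl Lrfl
theorem f17670 : Led Lsl_bt (LP (LK LD1_c1 LD2_c40 LD3_c51)) = (LP (LK LD1_c0 LD2_c49 LD3_c0)) :=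
  Lgr Lrot95 (Lpe (f17660 IH) (Lpr_bf (f17650 IH) (Lpe (f17643 IH) (Lpn (LP (LK LD1_c0 LD2_c49 LD3_c0))))))
theorem f17672 : Led Lsl_bf (LP (LK LD1_c1 LD2_c40 LD3_c51)) = (LP (LK LD1_c0 LD2_c49 LD3_c0)) :=
  Lgr Lrot24 (Lpr_bt (f17670 IH) (Lpn (LP (LK LD1_c0 LD2_c49 LD3_c0))))
theorem f11409 : Led Lsl_bt (LP (LK LD1_c0 LD2_c21 LD3_c16)) = (LP (LK LD1_c0 LD2_c9 LD3_c37)) :=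
  Lre_b IH (LK LD1_c0 LD2_c21 LD3_c16) (LK LD1_c0 LD2_c9 LD3_c37) Lrfl Lrfl
theorem f11431 : Led Lsl_ct (LP (LK LD1_c0 LD2_c21 LD3_c16)) = (LP (LK LD1_c0 LD2_c47 LD3_c24)) :=
  Lre_c IH (LK LD1_c0 LD2_c21 LD3_c16) (LK LD1_c0 LD2_c47 LD3_c24) Lrfl Lrfl
theorem f11433 : Led Lsl_bt (LP (LK LD1_c0 LD2_c47 LD3_c16)) = (LP (LK LD1_c0 LD2_c21 LD3_c10)) :=
  Lre_b IH (LK LD1_c0 LD2_c47 LD3_c16) (LK LD1_c0 LD2_c21 LD3_c10) Lrfl Lrfl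
theorem f11434 : Led Lsl_ct (LP (LK LD1_c0 LD2_c47 LD3_c16)) = (LP (LK LD1_c1 LD2_c41 LD3_c22)) :=
  Lre_c IH (LK LD1_c0 LD2_c47 LD3_c16) (LK LD1_c1 LD2_c41 LD3_c22) Lrfl Lrfl
theorem f11435 : Led Lsl_gf (LP (LK LD1_c0 LD2_c47 LD3_c24)) = (LP (LK LD1_c1 LD2_c41 LD3_c22)) :=
  Lgr Lrot126 (Lpe (f11431 IH) (Lpr_bt (f11409 IH) (Lpe (K0.f11429 IH) (Lpr_ct (K0.f3919 IH) (Lpr_gt (K0.f11427 IH) (Lpe (K0.f189 IH) (Lpr_bt (K0.f11396 IH) (Lpr_gt (K0.f11432 IH) (Lpe (f11433 IH) (Lpr_ct (f11434 IH) (Lpn (LP (LK LD1_c1 LD2_c41 LD3_c22)))))))))))))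
theorem f18055 : Led Lsl_gt (LP (LK LD1_c1 LD2_c40 LD3_c51)) = (LP (LK LD1_c0 LD2_c47 LD3_c16)) :=
  Lgr Lrot82 (Lpr_bf (f17672 IH) (Lpr_ct (f18018 IH) (Lpe (f5812 IH) (Lpe (K0.f375 IH) (Lpr_bt (K0.f3921 IH) (Lpr_gf (K0.f11429 IH) (Lpe (f11409 IH) (Lpr_ct (f11431 IH) (Lpr_gf (f11435 IH) (Lpe (f11434 IH) (Lpn (LP (LK LD1_c0 LD2_c47 LD3_c16)))))))))))))
theorem f9935 : Led Lsl_ct (LP (LK LD1_c0 LD2_c21 LD3_c2)) = (LP (LK LD1_c0 LD2_c46 LD3_c58)) :=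
  Lre_c IH (LK LD1_c0 LD2_c21 LD3_c2) (LK LD1_c0 LD2_c46 LD3_c58) Lrfl Lrfl
theorem f17652 : Led Lsl_bt (LP (LK LD1_c0 LD2_c9 LD3_c41)) = (LP (LK LD1_c0 LD2_c4 LD3_c34)) :=
  Lre_b IH (LK LD1_c0 LD2_c9 LD3_c41) (LK LD1_c0 LD2_c4 LD3_c34) Lrfl Lrfl
theorem f17653 : Led Lsl_gf (LP (LK LD1_c0 LD2_c21 LD3_c26)) = (LP (LK LD1_c0 LD2_c46 LD3_c58)) :=
  Lgr Lrot129 (Lpe (f12096 IH) (Lpr_bt (f17652 IH) (Lpe (K0.f11462 IH) (Lpe (K0.f10253 IH) (Lpr_ct (K0.f17629 IH) (Lpr_gt (f5856 IH) (Lpe (f10296 IH) (Lpe (f17650 IH) (Lpr_gt (f17649 IH) (Lpr_ct (f9935 IH) (Lpn (LP (LK LD1_c0 LD2_c46 LD3_c58)))))))))))))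
theorem f11445 : Led Lsl_ct (LP (LK LD1_c0 LD2_c47 LD3_c24)) = (LP (LK LD1_c0 LD2_c21 LD3_c16)) :=
  Lre_c IH (LK LD1_c0 LD2_c47 LD3_c24) (LK LD1_c0 LD2_c21 LD3_c16) Lrfl Lrfl
theorem f18060 : Led Lsl_df (LP (LK LD1_c0 LD2_c9 LD3_c41)) = (LP (LK LD1_c0 LD2_c21 LD3_c16)) :=
  Lgr Lrot162 (Lpe (f17657 IH) (Lpr_gf (f17653 IH) (Lpe (f9935 IH) (Lpe (f17649 IH) (Lpr_dt (f17660 IH) (Lpr_gt (f18055 IH) (Lpr_ct (f11434 IH) (Lpe (f11435 IH) (Lpr_ct (f11445 IH) (Lpn (LP (LK LD1_c0 LD2_c21 LD3_c16))))))))))))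
theorem f11453 : Led Lsl_dt (LP (LK LD1_c1 LD2_c41 LD3_c45)) = (LP (LK LD1_c0 LD2_c47 LD3_c24)) :=
  Lre_d IH (LK LD1_c1 LD2_c41 LD3_c45) (LK LD1_c0 LD2_c47 LD3_c24) Lrfl Lrfl
theorem f17659 : Led Lsl_dt (LP (LK LD1_c1 LD2_c40 LD3_c51)) = (LP (LK LD1_c0 LD2_c46 LD3_c56)) :=
  Lre_d IH (LK LD1_c1 LD2_c40 LD3_c51) (LK LD1_c0 LD2_c46 LD3_c56) Lrfl Lrfl
theorem f18058 : Led Lsl_dt (LP (LK LD1_c0 LD2_c9 LD3_c41)) = (LP (LK LD1_c0 LD2_c21 LD3_c16)) :=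
  Lgr Lrot27 (Lpe (f17657 IH) (Lpr_gf (f17653 IH) (Lpe (f9935 IH) (Lpe (f17649 IH) (Lpe (f17659 IH) (Lpr_gt (f18055 IH) (Lpr_ct (f11434 IH) (Lpe (f11435 IH) (Lpr_ct (f11445 IH) (Lpn (LP (LK LD1_c0 LD2_c21 LD3_c16))))))))))))
theorem f11052 : Led Lsl_bt (LP (LK LD1_c0 LD2_c20 LD3_c26)) = (LP (LK LD1_c0 LD2_c9 LD3_c13)) :=
  Lre_b IH (LK LD1_c0 LD2_c20 LD3_c26) (LK LD1_c0 LD2_c9 LD3_c13) Lrfl Lrfl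
theorem f4464 : Led Lsl_bt (LP (LK LD1_c0 LD2_c9 LD3_c37)) = (LP (LK LD1_c0 LD2_c21 LD3_c16)) :=
  Lre_b IH (LK LD1_c0 LD2_c9 LD3_c37) (LK LD1_c0 LD2_c21 LD3_c16) Lrfl Lrfl
theorem f11421 : Led Lsl_ff (LP (LK LD1_c0 LD2_c20 LD3_c26)) = (LP (LK LD1_c0 LD2_c21 LD3_c16)) :=
  Lgr Lrot25 (Lpr_bt (f11052 IH) (Lpr_ft (K0.f11417 IH) (Lpr_bt (f4464 IH) (Lpn (LP (LK LD1_c0 LD2_c21 LD3_c16))))))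
theorem f12844 : Led Lsl_dt (LP (LK LD1_c0 LD2_c20 LD3_c26)) = (LP (LK LD1_c0 LD2_c9 LD3_c12)) :=
  Lre_d IH (LK LD1_c0 LD2_c20 LD3_c26) (LK LD1_c0 LD2_c9 LD3_c12) Lrfl Lrfl
theorem f18135 : Led Lsl_ff (LP (LK LD1_c0 LD2_c9 LD3_c41)) = (LP (LK LD1_c0 LD2_c9 LD3_c12)) :=
  Lgr Lrot19 (Lpr_dt (f18058 IH) (Lpe (f11421 IH) (Lpr_dt (f12844 IH) (Lpn (LP (LK LD1_c0 LD2_c9 LD3_c12))))))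
theorem f18144 : Led Lsl_ft (LP (LK LD1_c0 LD2_c9 LD3_c41)) = (LP (LK LD1_c0 LD2_c9 LD3_c12)) :=
  Lgr Lrot48 (Lpr_ff (f18135 IH) (Lpn (LP (LK LD1_c0 LD2_c9 LD3_c12))))
theorem f18148 : Led Lsl_dt (LP (LK LD1_c0 LD2_c9 LD3_c12)) = (LP (LK LD1_c0 LD2_c20 LD3_c26)) :=
  Lre_d IH (LK LD1_c0 LD2_c9 LD3_c12) (LK LD1_c0 LD2_c20 LD3_c26) Lrfl Lrfl
theorem f18157 : Led Lsl_ff (LP (LK LD1_c0 LD2_c21 LD3_c16)) = (LP (LK LD1_c0 LD2_c20 LD3_c26)) :=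
  Lgr Lrot19 (Lpe (f18060 IH) (Lpr_ft (f18144 IH) (Lpr_dt (f18148 IH) (Lpn (LP (LK LD1_c0 LD2_c20 LD3_c26))))))
theorem f18070 : Led Lsl_et (LP (LK LD1_c0 LD2_c21 LD3_c16)) = (LP (LK LD1_c0 LD2_c47 LD3_c35)) :=
  Lre_e IH (LK LD1_c0 LD2_c21 LD3_c16) (LK LD1_c0 LD2_c47 LD3_c35) Lrfl Lrfl
theorem f18166 : Led Lsl_ft (LP (LK LD1_c0 LD2_c47 LD3_c35)) = (LP (LK LD1_c1 LD2_c42 LD3_c11)) :=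
  Lre_f IH (LK LD1_c0 LD2_c47 LD3_c35) (LK LD1_c1 LD2_c42 LD3_c11) Lrfl Lrfl
theorem f18167 : Led Lsl_et (LP (LK LD1_c0 LD2_c45 LD3_c49)) = (LP (LK LD1_c0 LD2_c20 LD3_c26)) :=
  Lre_e IH (LK LD1_c0 LD2_c45 LD3_c49) (LK LD1_c0 LD2_c20 LD3_c26) Lrfl Lrfl
theorem f18168 : Led Lsl_ft (LP (LK LD1_c1 LD2_c38 LD3_c52)) = (LP (LK LD1_c0 LD2_c45 LD3_c49)) :=
  Lre_f IH (LK LD1_c1 LD2_c38 LD3_c52) (LK LD1_c0 LD2_c45 LD3_c49) Lrfl Lrfl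
theorem f18169 : Led Lsl_et (LP (LK LD1_c1 LD2_c42 LD3_c11)) = (LP (LK LD1_c1 LD2_c38 LD3_c52)) :=
  Lgr Lrot69 (Lpe (f18166 IH) (Lpe (f18070 IH) (Lpr_ff (f18157 IH) (Lpe (f18167 IH) (Lpe (f18168 IH) (Lpn (LP (LK LD1_c1 LD2_c38 LD3_c52))))))))
theorem f18185 : Led Lsl_ef (LP (LK LD1_c1 LD2_c42 LD3_c11)) = (LP (LK LD1_c1 LD2_c38 LD3_c52)) :=
  Lgr Lrot88 (Lpr_et (f18169 IH) (Lpn (LP (LK LD1_c1 LD2_c38 LD3_c52))))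
theorem f18191 : Led Lsl_ct (LP (LK LD1_c1 LD2_c42 LD3_c11)) = (LP (LK LD1_c3 LD2_c30 LD3_c11)) :=
  Lre_c IH (LK LD1_c1 LD2_c42 LD3_c11) (LK LD1_c3 LD2_c30 LD3_c11) Lrfl Lrfl
theorem f15787 : Led Lsl_ct (LP (LK LD1_c3 LD2_c24 LD3_c48)) = (LP (LK LD1_c1 LD2_c38 LD3_c52)) :=
  Lre_c IH (LK LD1_c3 LD2_c24 LD3_c48) (LK LD1_c1 LD2_c38 LD3_c52) Lrfl Lrfl
theorem f18192 : Led Lsl_et (LP (LK LD1_c3 LD2_c30 LD3_c11)) = (LP (LK LD1_c3 LD2_c24 LD3_c48)) :=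
  Lgr Lrot158 (Lpe (f18191 IH) (Lpr_ef (f18185 IH) (Lpe (f15787 IH) (Lpn (LP (LK LD1_c3 LD2_c24 LD3_c48))))))
theorem f18214 : Led Lsl_ft (LP (LK LD1_c1 LD2_c41 LD3_c46)) = (LP (LK LD1_c3 LD2_c30 LD3_c11)) :=
  Lre_f IH (LK LD1_c1 LD2_c41 LD3_c46) (LK LD1_c3 LD2_c30 LD3_c11) Lrfl Lrfl
theorem f18215 : Led Lsl_et (LP (LK LD1_c0 LD2_c47 LD3_c24)) = (LP (LK LD1_c1 LD2_c41 LD3_c46)) :=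
  Lre_e IH (LK LD1_c0 LD2_c47 LD3_c24) (LK LD1_c1 LD2_c41 LD3_c46) Lrfl Lrfl
theorem f18216 : Led Lsl_ft (LP (LK LD1_c3 LD2_c24 LD3_c48)) = (LP (LK LD1_c1 LD2_c38 LD3_c49)) :=
  Lre_f IH (LK LD1_c3 LD2_c24 LD3_c48) (LK LD1_c1 LD2_c38 LD3_c49) Lrfl Lrfl
theorem f18217 : Led Lsl_et (LP (LK LD1_c1 LD2_c38 LD3_c49)) = (LP (LK LD1_c0 LD2_c45 LD3_c48)) :=
  Lre_e IH (LK LD1_c1 LD2_c38 LD3_c49) (LK LD1_c0 LD2_c45 LD3_c48) Lrfl Lrfl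
theorem f18218 : Led Lsl_ff (LP (LK LD1_c0 LD2_c47 LD3_c24)) = (LP (LK LD1_c0 LD2_c45 LD3_c48)) :=
  Lgr Lrot72 (Lpr_et (f18215 IH) (Lpr_ft (f18214 IH) (Lpr_et (f18192 IH) (Lpr_ft (f18216 IH) (Lpr_et (f18217 IH) (Lpn (LP (LK LD1_c0 LD2_c45 LD3_c48))))))))
theorem f11441 : Led Lsl_dt (LP (LK LD1_c0 LD2_c47 LD3_c24)) = (LP (LK LD1_c1 LD2_c41 LD3_c45)) :=
  Lre_d IH (LK LD1_c0 LD2_c47 LD3_c24) (LK LD1_c1 LD2_c41 LD3_c45) Lrfl Lrfl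
theorem f11054 : Led Lsl_dt (LP (LK LD1_c1 LD2_c38 LD3_c48)) = (LP (LK LD1_c0 LD2_c45 LD3_c48)) :=
  Lre_d IH (LK LD1_c1 LD2_c38 LD3_c48) (LK LD1_c0 LD2_c45 LD3_c48) Lrfl Lrfl
theorem f18226 : Led Lsl_ft (LP (LK LD1_c1 LD2_c41 LD3_c45)) = (LP (LK LD1_c1 LD2_c38 LD3_c48)) :=
  Lgr Lrot54 (Lpe (f11441 IH) (Lpr_ff (f18218 IH) (Lpe (f11054 IH) (Lpn (LP (LK LD1_c1 LD2_c38 LD3_c48))))))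
theorem f18236 : Led Lsl_at (LP (LK LD1_c1 LD2_c38 LD3_c48)) = (LP (LK LD1_c3 LD2_c24 LD3_c28)) :=
  Lre_a IH (LK LD1_c1 LD2_c38 LD3_c48) (LK LD1_c3 LD2_c24 LD3_c28) Lrfl Lrfl
theorem f66665 : Led Lsl_ct (LP (LK LD1_c3 LD2_c12 LD3_c48)) = (LP (LK LD1_c3 LD2_c24 LD3_c28)) :=
  Lgr Lrot98 (Lpe (f66660 IH) (Lpe (f59462 IH) (Lpr_df (f66642 IH) (Lpe (f12096 IH) (Lpr_df (f18060 IH) (Lpe (f11445 IH) (Lpe (f11453 IH) (Lpr_ft (f18226 IH) (Lpr_at (f18236 IH) (Lpn (LP (LK LD1_c3 LD2_c24 LD3_c28))))))))))))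
theorem f15859 : Led Lsl_dt (LP (LK LD1_c3 LD2_c24 LD3_c28)) = (LP (LK LD1_c1 LD2_c38 LD3_c40)) :=
  Lre_d IH (LK LD1_c3 LD2_c24 LD3_c28) (LK LD1_c1 LD2_c38 LD3_c40) Lrfl Lrfl
theorem f15853 : Led Lsl_ct (LP (LK LD1_c1 LD2_c38 LD3_c40)) = (LP (LK LD1_c0 LD2_c45 LD3_c45)) :=
  Lre_c IH (LK LD1_c1 LD2_c38 LD3_c40) (LK LD1_c0 LD2_c45 LD3_c45) Lrfl Lrfl
theorem f15857 : Led Lsl_dt (LP (LK LD1_c0 LD2_c45 LD3_c45)) = (LP (LK LD1_c0 LD2_c20 LD3_c25)) :=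
  Lre_d IH (LK LD1_c0 LD2_c45 LD3_c45) (LK LD1_c0 LD2_c20 LD3_c25) Lrfl Lrfl
theorem f66827 : Led Lsl_cf (LP (LK LD1_c0 LD2_c41 LD3_c24)) = (LP (LK LD1_c0 LD2_c20 LD3_c25)) :=
  Lgr Lrot102 (Lpe (f66816 IH) (Lpr_ff (f66806 IH) (Lpe (f66642 IH) (Lpr_ct (f59462 IH) (Lpr_dt (f66660 IH) (Lpr_ct (f66665 IH) (Lpr_dt (f15859 IH) (Lpr_ct (f15853 IH) (Lpr_dt (f15857 IH) (Lpn (LP (LK LD1_c0 LD2_c20 LD3_c25))))))))))))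
theorem f66831 : Led Lsl_dt (LP (LK LD1_c0 LD2_c41 LD3_c24)) = (LP (LK LD1_c1 LD2_c29 LD3_c34)) :=
  Lre_d IH (LK LD1_c0 LD2_c41 LD3_c24) (LK LD1_c1 LD2_c29 LD3_c34) Lrfl Lrfl
theorem f66832 : Led Lsl_ct (LP (LK LD1_c1 LD2_c29 LD3_c34)) = (LP (LK LD1_c3 LD2_c6 LD3_c52)) :=
  Lre_c IH (LK LD1_c1 LD2_c29 LD3_c34) (LK LD1_c3 LD2_c6 LD3_c52) Lrfl Lrfl
theorem f66837 : Led Lsl_at (LP (LK LD1_c1 LD2_c29 LD3_c35)) = (LP (LK LD1_c3 LD2_c6 LD3_c52)) :=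
  Lre_a IH (LK LD1_c1 LD2_c29 LD3_c35) (LK LD1_c3 LD2_c6 LD3_c52) Lrfl Lrfl
theorem f66838 : Led Lsl_ff (LP (LK LD1_c1 LD2_c29 LD3_c35)) = (LP (LK LD1_c1 LD2_c32 LD3_c52)) :=
  Lgr Lrot103 (Lpr_at (f66837 IH) (Lpe (f66832 IH) (Lpe (f66831 IH) (Lpr_cf (f66827 IH) (Lpe (f15857 IH) (Lpe (f15853 IH) (Lpe (f15859 IH) (Lpe (f66665 IH) (Lpe (f66660 IH) (Lpn (LP (LK LD1_c1 LD2_c32 LD3_c52))))))))))))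
theorem f66853 : Led Lsl_ft (LP (LK LD1_c1 LD2_c29 LD3_c35)) = (LP (LK LD1_c1 LD2_c32 LD3_c52)) :=
  Lgr Lrot48 (Lpr_ff (f66838 IH) (Lpn (LP (LK LD1_c1 LD2_c32 LD3_c52))))
theorem f66855 : Led Lsl_at (LP (LK LD1_c3 LD2_c6 LD3_c52)) = (LP (LK LD1_c1 LD2_c29 LD3_c35)) :=
  Lre_a IH (LK LD1_c3 LD2_c6 LD3_c52) (LK LD1_c1 LD2_c29 LD3_c35) Lrfl Lrfl
theorem f66738 : Led Lsl_at (LP (LK LD1_c1 LD2_c32 LD3_c52)) = (LP (LK LD1_c3 LD2_c12 LD3_c46)) :=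
  Lre_a IH (LK LD1_c1 LD2_c32 LD3_c52) (LK LD1_c3 LD2_c12 LD3_c46) Lrfl Lrfl
theorem f66856 : Led Lsl_ff (LP (LK LD1_c3 LD2_c6 LD3_c52)) = (LP (LK LD1_c3 LD2_c12 LD3_c46)) :=
  Lgr Lrot30 (Lpr_at (f66855 IH) (Lpr_ft (f66853 IH) (Lpr_at (f66738 IH) (Lpn (LP (LK LD1_c3 LD2_c12 LD3_c46))))))
theorem f66841 : Led Lsl_ct (LP (LK LD1_c3 LD2_c6 LD3_c52)) = (LP (LK LD1_c1 LD2_c29 LD3_c34)) :=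
  Lre_c IH (LK LD1_c3 LD2_c6 LD3_c52) (LK LD1_c1 LD2_c29 LD3_c34) Lrfl Lrfl
theorem f66704 : Led Lsl_ct (LP (LK LD1_c1 LD2_c32 LD3_c51)) = (LP (LK LD1_c3 LD2_c12 LD3_c46)) :=
  Lre_c IH (LK LD1_c1 LD2_c32 LD3_c51) (LK LD1_c3 LD2_c12 LD3_c46) Lrfl Lrfl
theorem f66891 : Led Lsl_ft (LP (LK LD1_c1 LD2_c29 LD3_c34)) = (LP (LK LD1_c1 LD2_c32 LD3_c51)) :=
  Lgr Lrot4 (Lpe (f66841 IH) (Lpr_ff (f66856 IH) (Lpe (f66704 IH) (Lpn (LP (LK LD1_c1 LD2_c32 LD3_c51))))))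
theorem f66899 : Led Lsl_ff (LP (LK LD1_c1 LD2_c29 LD3_c34)) = (LP (LK LD1_c1 LD2_c32 LD3_c51)) :=
  Lgr Lrot3 (Lpr_ft (f66891 IH) (Lpn (LP (LK LD1_c1 LD2_c32 LD3_c51))))
theorem f66844 : Led Lsl_et (LP (LK LD1_c1 LD2_c29 LD3_c34)) = (LP (LK LD1_c3 LD2_c6 LD3_c53)) :=
  Lre_e IH (LK LD1_c1 LD2_c29 LD3_c34) (LK LD1_c3 LD2_c6 LD3_c53) Lrfl Lrfl
theorem f66902 : Led Lsl_ft (LP (LK LD1_c3 LD2_c6 LD3_c53)) = (LP (LK LD1_c6 LD2_c19 LD3_c1)) :=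
  Lre_f IH (LK LD1_c3 LD2_c6 LD3_c53) (LK LD1_c6 LD2_c19 LD3_c1) Lrfl Lrfl
theorem f66749 : Led Lsl_et (LP (LK LD1_c3 LD2_c12 LD3_c47)) = (LP (LK LD1_c1 LD2_c32 LD3_c51)) :=
  Lre_e IH (LK LD1_c3 LD2_c12 LD3_c47) (LK LD1_c1 LD2_c32 LD3_c51) Lrfl Lrfl
theorem f66903 : Led Lsl_ft (LP (LK LD1_c6 LD2_c29 LD3_c38)) = (LP (LK LD1_c3 LD2_c12 LD3_c47)) :=
  Lre_f IH (LK LD1_c6 LD2_c29 LD3_c38) (LK LD1_c3 LD2_c12 LD3_c47) Lrfl Lrfl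
theorem f66904 : Led Lsl_et (LP (LK LD1_c6 LD2_c19 LD3_c1)) = (LP (LK LD1_c6 LD2_c29 LD3_c38)) :=
  Lgr Lrot69 (Lpe (f66902 IH) (Lpe (f66844 IH) (Lpr_ff (f66899 IH) (Lpe (f66749 IH) (Lpe (f66903 IH) (Lpn (LP (LK LD1_c6 LD2_c29 LD3_c38))))))))
theorem f66906 : Led Lsl_at (LP (LK LD1_c3 LD2_c6 LD3_c58)) = (LP (LK LD1_c6 LD2_c19 LD3_c1)) :=
  Lre_a IH (LK LD1_c3 LD2_c6 LD3_c58) (LK LD1_c6 LD2_c19 LD3_c1) Lrfl Lrfl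
theorem f66907 : Led Lsl_at (LP (LK LD1_c6 LD2_c29 LD3_c38)) = (LP (LK LD1_c3 LD2_c12 LD3_c52)) :=
  Lre_a IH (LK LD1_c6 LD2_c29 LD3_c38) (LK LD1_c3 LD2_c12 LD3_c52) Lrfl Lrfl
theorem f66908 : Led Lsl_ef (LP (LK LD1_c3 LD2_c6 LD3_c58)) = (LP (LK LD1_c3 LD2_c12 LD3_c52)) :=
  Lgr Lrot20 (Lpr_at (f66906 IH) (Lpr_et (f66904 IH) (Lpr_at (f66907 IH) (Lpn (LP (LK LD1_c3 LD2_c12 LD3_c52))))))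
theorem f66919 : Led Lsl_et (LP (LK LD1_c3 LD2_c6 LD3_c58)) = (LP (LK LD1_c3 LD2_c12 LD3_c52)) :=
  Lgr Lrot87 (Lpr_ef (f66908 IH) (Lpn (LP (LK LD1_c3 LD2_c12 LD3_c52))))
theorem f66926 : Led Lsl_bt (LP (LK LD1_c1 LD2_c29 LD3_c39)) = (LP (LK LD1_c3 LD2_c6 LD3_c58)) :=
  Lre_b IH (LK LD1_c1 LD2_c29 LD3_c39) (LK LD1_c3 LD2_c6 LD3_c58) Lrfl Lrfl
theorem f66927 : Led Lsl_bt (LP (LK LD1_c3 LD2_c12 LD3_c52)) = (LP (LK LD1_c1 LD2_c32 LD3_c56)) :=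
  Lre_b IH (LK LD1_c3 LD2_c12 LD3_c52) (LK LD1_c1 LD2_c32 LD3_c56) Lrfl Lrfl
theorem f66928 : Led Lsl_ef (LP (LK LD1_c1 LD2_c29 LD3_c39)) = (LP (LK LD1_c1 LD2_c32 LD3_c56)) :=
  Lgr Lrot29 (Lpr_bt (f66926 IH) (Lpr_et (f66919 IH) (Lpr_bt (f66927 IH) (Lpn (LP (LK LD1_c1 LD2_c32 LD3_c56))))))
theorem f66936 : Led Lsl_ft (LP (LK LD1_c1 LD2_c29 LD3_c39)) = (LP (LK LD1_c0 LD2_c41 LD3_c26)) :=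
  Lre_f IH (LK LD1_c1 LD2_c29 LD3_c39) (LK LD1_c0 LD2_c41 LD3_c26) Lrfl Lrfl
theorem f66937 : Led Lsl_et (LP (LK LD1_c0 LD2_c41 LD3_c26)) = (LP (LK LD1_c0 LD2_c18 LD3_c32)) :=
  Lre_e IH (LK LD1_c0 LD2_c41 LD3_c26) (LK LD1_c0 LD2_c18 LD3_c32) Lrfl Lrfl
theorem f66938 : Led Lsl_ft (LP (LK LD1_c0 LD2_c42 LD3_c61)) = (LP (LK LD1_c1 LD2_c32 LD3_c56)) :=
  Lre_f IH (LK LD1_c0 LD2_c42 LD3_c61) (LK LD1_c1 LD2_c32 LD3_c56) Lrfl Lrfl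
theorem f59481 : Led Lsl_et (LP (LK LD1_c0 LD2_c19 LD3_c8)) = (LP (LK LD1_c0 LD2_c42 LD3_c61)) :=
  Lre_e IH (LK LD1_c0 LD2_c19 LD3_c8) (LK LD1_c0 LD2_c42 LD3_c61) Lrfl Lrfl
theorem f66939 : Led Lsl_ft (LP (LK LD1_c0 LD2_c18 LD3_c32)) = (LP (LK LD1_c0 LD2_c19 LD3_c8)) :=
  Lgr Lrot86 (Lpe (f66937 IH) (Lpe (f66936 IH) (Lpr_ef (f66928 IH) (Lpe (f66938 IH) (Lpe (f59481 IH) (Lpn (LP (LK LD1_c0 LD2_c19 LD3_c8))))))))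
theorem f66942 : Led Lsl_ff (LP (LK LD1_c0 LD2_c18 LD3_c32)) = (LP (LK LD1_c0 LD2_c19 LD3_c8)) :=
  Lgr Lrot3 (Lpr_ft (f66939 IH) (Lpn (LP (LK LD1_c0 LD2_c19 LD3_c8))))
theorem f66948 : Led Lsl_at (LP (LK LD1_c0 LD2_c18 LD3_c32)) = (LP (LK LD1_c0 LD2_c19 LD3_c7)) :=
  Lgr Lrot26 (Lpr_ff (f66942 IH) (Lpr_gt (f20981 IH) (Lpr_gt (f13541 IH) (Lpn (LP (LK LD1_c0 LD2_c19 LD3_c7))))))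
theorem f25180 : Led Lsl_dt (LP (LK LD1_c0 LD2_c8 LD3_c20)) = (LP (LK LD1_c0 LD2_c18 LD3_c32)) :=
  Lre_d IH (LK LD1_c0 LD2_c8 LD3_c20) (LK LD1_c0 LD2_c18 LD3_c32) Lrfl Lrfl
theorem f66955 : Led Lsl_af (LP (LK LD1_c0 LD2_c8 LD3_c20)) = (LP (LK LD1_c0 LD2_c13 LD3_c24)) :=
  Lgr Lrot117 (Lpr_dt (f25180 IH) (Lpr_at (f66948 IH) (Lpe (f60962 IH) (Lpn (LP (LK LD1_c0 LD2_c13 LD3_c24))))))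
theorem f61218 : Led Lsl_ff (LP (LK LD1_c0 LD2_c13 LD3_c24)) = (LP (LK LD1_c0 LD2_c8 LD3_c19)) :=
  Lgr Lrot23 (Lpr_ct (f61007 IH) (Lpe (K0.f9666 IH) (Lpe (K0.f24966 IH) (Lpn (LP (LK LD1_c0 LD2_c8 LD3_c19))))))
theorem f67039 : Led Lsl_gf (LP (LK LD1_c0 LD2_c8 LD3_c20)) = (LP (LK LD1_c0 LD2_c3 LD3_c53)) :=
  Lgr Lrot76 (Lpr_af (f66955 IH) (Lpr_ff (f61218 IH) (Lpr_gt (f61633 IH) (Lpn (LP (LK LD1_c0 LD2_c3 LD3_c53))))))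
theorem f25846 : Led Lsl_et (LP (LK LD1_c0 LD2_c8 LD3_c32)) = (LP (LK LD1_c0 LD2_c3 LD3_c53)) :=
  Lre_e IH (LK LD1_c0 LD2_c8 LD3_c32) (LK LD1_c0 LD2_c3 LD3_c53) Lrfl Lrfl
theorem f24985 : Led Lsl_dt (LP (LK LD1_c0 LD2_c8 LD3_c32)) = (LP (LK LD1_c0 LD2_c19 LD3_c0)) :=
  Lre_d IH (LK LD1_c0 LD2_c8 LD3_c32) (LK LD1_c0 LD2_c19 LD3_c0) Lrfl Lrfl
theorem f7164 : Led Lsl_et (LP (LK LD1_c0 LD2_c1 LD3_c41)) = (LP (LK LD1_c0 LD2_c3 LD3_c54)) :=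
  Lre_e IH (LK LD1_c0 LD2_c1 LD3_c41) (LK LD1_c0 LD2_c3 LD3_c54) Lrfl Lrfl
theorem f20971 : Led Lsl_et (LP (LK LD1_c0 LD2_c6 LD3_c8)) = (LP (LK LD1_c0 LD2_c2 LD3_c49)) :=
  Lre_e IH (LK LD1_c0 LD2_c6 LD3_c8) (LK LD1_c0 LD2_c2 LD3_c49) Lrfl Lrfl
theorem f25773 : Led Lsl_dt (LP (LK LD1_c0 LD2_c3 LD3_c54)) = (LP (LK LD1_c0 LD2_c6 LD3_c8)) :=
  Lgr Lrot77 (Lpe (f7164 IH) (Lpe (K0.f7122 IH) (Lpr_ef (K0.f7163 IH) (Lpqs (K0.f20991 IH) (Lpe (K0.f20256 IH) (Lpe (f20971 IH) (Lpn (LP (LK LD1_c0 LD2_c6 LD3_c8)))))))))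
theorem f7162 : Led Lsl_et (LP (LK LD1_c0 LD2_c3 LD3_c54)) = (LP (LK LD1_c0 LD2_c1 LD3_c41)) :=
  Lre_e IH (LK LD1_c0 LD2_c3 LD3_c54) (LK LD1_c0 LD2_c1 LD3_c41) Lrfl Lrfl
theorem f7166 : Led Lsl_et (LP (LK LD1_c0 LD2_c0 LD3_c38)) = (LP (LK LD1_c0 LD2_c1 LD3_c36)) :=
  Lre_e IH (LK LD1_c0 LD2_c0 LD3_c38) (LK LD1_c0 LD2_c1 LD3_c36) Lrfl Lrfl
theorem f7141 : Led Lsl_et (LP (LK LD1_c0 LD2_c1 LD3_c39)) = (LP (LK LD1_c0 LD2_c3 LD3_c50)) :=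
  Lre_e IH (LK LD1_c0 LD2_c1 LD3_c39) (LK LD1_c0 LD2_c3 LD3_c50) Lrfl Lrfl
theorem f21012 : Led Lsl_gt (LP (LK LD1_c0 LD2_c3 LD3_c50)) = (LP (LK LD1_c0 LD2_c8 LD3_c24)) :=
  Lre_g IH (LK LD1_c0 LD2_c3 LD3_c50) (LK LD1_c0 LD2_c8 LD3_c24) Lrfl Lrfl
theorem f25754 : Led Lsl_gt (LP (LK LD1_c0 LD2_c13 LD3_c28)) = (LP (LK LD1_c0 LD2_c6 LD3_c8)) :=
  Lre_g IH (LK LD1_c0 LD2_c13 LD3_c28) (LK LD1_c0 LD2_c6 LD3_c8) Lrfl Lrfl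
theorem f25795 : Led Lsl_dt (LP (LK LD1_c0 LD2_c8 LD3_c24)) = (LP (LK LD1_c0 LD2_c13 LD3_c28)) :=
  Lgr Lrot171 (Lpe (f21012 IH) (Lpe (f7141 IH) (Lpr_dt (K0.f7118 IH) (Lpe (f1495 IH) (Lpe (f7165 IH) (Lpr_et (f7166 IH) (Lpe (K0.f20999 IH) (Lpe (f7162 IH) (Lpr_dt (f25773 IH) (Lpe (f25754 IH) (Lpn (LP (LK LD1_c0 LD2_c13 LD3_c28)))))))))))))
theorem f25805 : Led Lsl_ct (LP (LK LD1_c0 LD2_c3 LD3_c50)) = (LP (LK LD1_c0 LD2_c8 LD3_c23)) :=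
  Lre_c IH (LK LD1_c0 LD2_c3 LD3_c50) (LK LD1_c0 LD2_c8 LD3_c23) Lrfl Lrfl
theorem f25806 : Led Lsl_gt (LP (LK LD1_c0 LD2_c8 LD3_c23)) = (LP (LK LD1_c0 LD2_c18 LD3_c40)) :=
  Lre_g IH (LK LD1_c0 LD2_c8 LD3_c23) (LK LD1_c0 LD2_c18 LD3_c40) Lrfl Lrfl
theorem f25807 : Led Lsl_dt (LP (LK LD1_c0 LD2_c18 LD3_c40)) = (LP (LK LD1_c0 LD2_c41 LD3_c51)) :=
  Lre_d IH (LK LD1_c0 LD2_c18 LD3_c40) (LK LD1_c0 LD2_c41 LD3_c51) Lrfl Lrfl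
theorem f20996 : Led Lsl_et (LP (LK LD1_c0 LD2_c2 LD3_c49)) = (LP (LK LD1_c0 LD2_c6 LD3_c8)) :=
  Lre_e IH (LK LD1_c0 LD2_c2 LD3_c49) (LK LD1_c0 LD2_c6 LD3_c8) Lrfl Lrfl
theorem f20997 : Led Lsl_df (LP (LK LD1_c0 LD2_c3 LD3_c54)) = (LP (LK LD1_c0 LD2_c6 LD3_c8)) :=
  Lgr Lrot70 (Lpr_et (f7162 IH) (Lpr_dt (K0.f7126 IH) (Lpr_et (K0.f7161 IH) (Lpqs (K0.f20991 IH) (Lpr_dt (K0.f6979 IH) (Lpr_et (f20996 IH) (Lpn (LP (LK LD1_c0 LD2_c6 LD3_c8)))))))))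
theorem f24986 : Led Lsl_ct (LP (LK LD1_c0 LD2_c8 LD3_c32)) = (LP (LK LD1_c0 LD2_c3 LD3_c54)) :=
  Lre_c IH (LK LD1_c0 LD2_c8 LD3_c32) (LK LD1_c0 LD2_c3 LD3_c54) Lrfl Lrfl
theorem f24983 : Led Lsl_dt (LP (LK LD1_c0 LD2_c19 LD3_c0)) = (LP (LK LD1_c0 LD2_c8 LD3_c32)) :=
  Lre_d IH (LK LD1_c0 LD2_c19 LD3_c0) (LK LD1_c0 LD2_c8 LD3_c32) Lrfl Lrfl
theorem f25808 : Led Lsl_gt (LP (LK LD1_c0 LD2_c41 LD3_c51)) = (LP (LK LD1_c0 LD2_c19 LD3_c0)) :=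
  Lgr Lrot49 (Lpe (f25807 IH) (Lpe (f25806 IH) (Lpe (f25805 IH) (Lpr_gt (f21012 IH) (Lpr_dt (f25795 IH) (Lpr_gt (f25754 IH) (Lpe (f20997 IH) (Lpe (f24986 IH) (Lpe (f24983 IH) (Lpn (LP (LK LD1_c0 LD2_c19 LD3_c0))))))))))))
theorem f25845 : Led Lsl_et (LP (LK LD1_c0 LD2_c3 LD3_c49)) = (LP (LK LD1_c0 LD2_c8 LD3_c23)) :=
  Lre_e IH (LK LD1_c0 LD2_c3 LD3_c49) (LK LD1_c0 LD2_c8 LD3_c23) Lrfl Lrfl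
theorem f7148 : Led Lsl_dt (LP (LK LD1_c0 LD2_c3 LD3_c49)) = (LP (LK LD1_c0 LD2_c8 LD3_c22)) :=
  Lre_d IH (LK LD1_c0 LD2_c3 LD3_c49) (LK LD1_c0 LD2_c8 LD3_c22) Lrfl Lrfl
theorem f67053 : Led Lsl_ef (LP (LK LD1_c0 LD2_c8 LD3_c20)) = (LP (LK LD1_c0 LD2_c4 LD3_c14)) :=
  Lgr Lrot17 (Lpr_gf (f67039 IH) (Lpe (f25846 IH) (Lpr_dt (f24985 IH) (Lpe (f25808 IH) (Lpe (f25807 IH) (Lpe (f25806 IH) (Lpe (f25845 IH) (Lpr_dt (f7148 IH) (Lpr_gf (f61818 IH) (Lpe (f13538 IH) (Lpn (LP (LK LD1_c0 LD2_c4 LD3_c14)))))))))))))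
theorem f61774 : Led Lsl_et (LP (LK LD1_c0 LD2_c8 LD3_c23)) = (LP (LK LD1_c0 LD2_c3 LD3_c49)) :=
  Lre_e IH (LK LD1_c0 LD2_c8 LD3_c23) (LK LD1_c0 LD2_c3 LD3_c49) Lrfl Lrfl
theorem f61775 : Led Lsl_dt (LP (LK LD1_c0 LD2_c8 LD3_c23)) = (LP (LK LD1_c0 LD2_c18 LD3_c42)) :=
  Lre_d IH (LK LD1_c0 LD2_c8 LD3_c23) (LK LD1_c0 LD2_c18 LD3_c42) Lrfl Lrfl
theorem f3826 : Led Lsl_dt (LP (LK LD1_c0 LD2_c9 LD3_c9)) = (LP (LK LD1_c0 LD2_c4 LD3_c14)) :=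
  Lre_d IH (LK LD1_c0 LD2_c9 LD3_c9) (LK LD1_c0 LD2_c4 LD3_c14) Lrfl Lrfl
theorem f7124 : Led Lsl_dt (LP (LK LD1_c0 LD2_c3 LD3_c53)) = (LP (LK LD1_c0 LD2_c8 LD3_c31)) :=
  Lre_d IH (LK LD1_c0 LD2_c3 LD3_c53) (LK LD1_c0 LD2_c8 LD3_c31) Lrfl Lrfl
theorem f61662 : Led Lsl_gf (LP (LK LD1_c0 LD2_c9 LD3_c9)) = (LP (LK LD1_c0 LD2_c8 LD3_c31)) :=
  Lgr Lrot143 (Lpr_dt (f3826 IH) (Lpe (K0.f7381 IH) (Lpe (K0.f1633 IH) (Lpe (K0.f5885 IH) (Lpe (K0.f7368 IH) (Lpe (K0.f9668 IH) (Lpe (f25046 IH) (Lpr_gt (f61633 IH) (Lpr_dt (f7124 IH) (Lpn (LP (LK LD1_c0 LD2_c8 LD3_c31))))))))))))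
theorem f25069 : Led Lsl_et (LP (LK LD1_c0 LD2_c18 LD3_c30)) = (LP (LK LD1_c0 LD2_c8 LD3_c19)) :=
  Lre_e IH (LK LD1_c0 LD2_c18 LD3_c30) (LK LD1_c0 LD2_c8 LD3_c19) Lrfl Lrfl
theorem f25061 : Led Lsl_dt (LP (LK LD1_c0 LD2_c18 LD3_c30)) = (LP (LK LD1_c0 LD2_c41 LD3_c21)) :=
  Lre_d IH (LK LD1_c0 LD2_c18 LD3_c30) (LK LD1_c0 LD2_c41 LD3_c21) Lrfl Lrfl
theorem f67079 : Led Lsl_gt (LP (LK LD1_c0 LD2_c18 LD3_c42)) = (LP (LK LD1_c0 LD2_c41 LD3_c21)) :=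
  Lgr Lrot112 (Lpe (f61775 IH) (Lpr_et (f61774 IH) (Lpe (f25179 IH) (Lpr_ef (f67053 IH) (Lpr_dt (f13538 IH) (Lpr_gf (f61662 IH) (Lpe (f7124 IH) (Lpe (f61633 IH) (Lpe (f25069 IH) (Lpr_dt (f25061 IH) (Lpn (LP (LK LD1_c0 LD2_c41 LD3_c21)))))))))))))
theorem f58935 : Led Lsl_gt (LP (LK LD1_c0 LD2_c18 LD3_c41)) = (LP (LK LD1_c0 LD2_c8 LD3_c23)) :=
  Lre_g IH (LK LD1_c0 LD2_c18 LD3_c41) (LK LD1_c0 LD2_c8 LD3_c23) Lrfl Lrfl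
theorem f25059 : Led Lsl_dt (LP (LK LD1_c0 LD2_c41 LD3_c21)) = (LP (LK LD1_c0 LD2_c18 LD3_c30)) :=
  Lre_d IH (LK LD1_c0 LD2_c41 LD3_c21) (LK LD1_c0 LD2_c18 LD3_c30) Lrfl Lrfl
theorem f25049 : Led Lsl_et (LP (LK LD1_c0 LD2_c8 LD3_c19)) = (LP (LK LD1_c0 LD2_c18 LD3_c30)) :=
  Lre_e IH (LK LD1_c0 LD2_c8 LD3_c19) (LK LD1_c0 LD2_c18 LD3_c30) Lrfl Lrfl
theorem f25050 : Led Lsl_ct (LP (LK LD1_c0 LD2_c18 LD3_c30)) = (LP (LK LD1_c0 LD2_c20 LD3_c4)) :=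
  Lgr Lrot15 (Lpe (f25049 IH) (Lpr_cf (K0.f24966 IH) (Lpe (K0.f9654 IH) (Lpn (LP (LK LD1_c0 LD2_c20 LD3_c4))))))
theorem f9691 : Led Lsl_gt (LP (LK LD1_c0 LD2_c20 LD3_c8)) = (LP (LK LD1_c0 LD2_c9 LD3_c4)) :=
  Lre_g IH (LK LD1_c0 LD2_c20 LD3_c8) (LK LD1_c0 LD2_c9 LD3_c4) Lrfl Lrfl
theorem f67086 : Led Lsl_cf (LP (LK LD1_c0 LD2_c18 LD3_c41)) = (LP (LK LD1_c0 LD2_c20 LD3_c8)) :=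
  Lgr Lrot166 (Lpr_gt (f58935 IH) (Lpr_dt (f61775 IH) (Lpr_gt (f67079 IH) (Lpr_dt (f25059 IH) (Lpr_ct (f25050 IH) (Lpe (f9655 IH) (Lpr_gf (f20898 IH) (Lpe (f20903 IH) (Lpe (f9691 IH) (Lpn (LP (LK LD1_c0 LD2_c20 LD3_c8))))))))))))
theorem f20268 : Led Lsl_dt (LP (LK LD1_c0 LD2_c4 LD3_c19)) = (LP (LK LD1_c0 LD2_c1 LD3_c59)) :=
  Lre_d IH (LK LD1_c0 LD2_c4 LD3_c19) (LK LD1_c0 LD2_c1 LD3_c59) Lrfl Lrfl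
theorem f20842 : Led Lsl_et (LP (LK LD1_c0 LD2_c4 LD3_c19)) = (LP (LK LD1_c0 LD2_c9 LD3_c15)) :=
  Lre_e IH (LK LD1_c0 LD2_c4 LD3_c19) (LK LD1_c0 LD2_c9 LD3_c15) Lrfl Lrfl
theorem f12725 : Led Lsl_gt (LP (LK LD1_c0 LD2_c9 LD3_c15)) = (LP (LK LD1_c0 LD2_c20 LD3_c28)) :=
  Lre_g IH (LK LD1_c0 LD2_c9 LD3_c15) (LK LD1_c0 LD2_c20 LD3_c28) Lrfl Lrfl
theorem f20910 : Led Lsl_et (LP (LK LD1_c0 LD2_c16 LD3_c51)) = (LP (LK LD1_c0 LD2_c7 LD3_c30)) :=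
  Lre_e IH (LK LD1_c0 LD2_c16 LD3_c51) (LK LD1_c0 LD2_c7 LD3_c30) Lrfl Lrfl
theorem f20928 : Led Lsl_dt (LP (LK LD1_c0 LD2_c20 LD3_c28)) = (LP (LK LD1_c0 LD2_c20 LD3_c8)) :=
  Lgr Lrot171 (Lpe (f12725 IH) (Lpe (f20842 IH) (Lpr_dt (f20268 IH) (Lpr_gf (K0.f20829 IH) (Lpe (K0.f9739 IH) (Lpr_et (K0.f9673 IH) (Lpr_gf (K0.f20895 IH) (Lpe (f20910 IH) (Lpe (f20882 IH) (Lpe (f9691 IH) (Lpn (LP (LK LD1_c0 LD2_c20 LD3_c8)))))))))))))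
theorem f20930 : Led Lsl_df (LP (LK LD1_c0 LD2_c20 LD3_c28)) = (LP (LK LD1_c0 LD2_c20 LD3_c8)) :=
  Lgr Lrot38 (Lpr_dt (f20928 IH) (Lpn (LP (LK LD1_c0 LD2_c20 LD3_c8))))
theorem f12087 : Led Lsl_et (LP (LK LD1_c0 LD2_c4 LD3_c23)) = (LP (LK LD1_c0 LD2_c1 LD3_c61)) :=
  Lre_e IH (LK LD1_c0 LD2_c4 LD3_c23) (LK LD1_c0 LD2_c1 LD3_c61) Lrfl Lrfl
theorem f155 : Led Lsl_et (LP (LK LD1_c0 LD2_c1 LD3_c60)) = (LP (LK LD1_c0 LD2_c4 LD3_c21)) :=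
  Lre_e IH (LK LD1_c0 LD2_c1 LD3_c60) (LK LD1_c0 LD2_c4 LD3_c21) Lrfl Lrfl
theorem f12669 : Led Lsl_df (LP (LK LD1_c0 LD2_c4 LD3_c23)) = (LP (LK LD1_c0 LD2_c4 LD3_c21)) :=
  Lgr Lrot70 (Lpr_et (f12087 IH) (Lpr_dt (K0.f3827 IH) (Lpr_et (K0.f12666 IH) (Lpr_dt (K0.f3807 IH) (Lpr_et (f155 IH) (Lpn (LP (LK LD1_c0 LD2_c4 LD3_c21))))))))
theorem f20005 : Led Lsl_bt (LP (LK LD1_c0 LD2_c9 LD3_c15)) = (LP (LK LD1_c0 LD2_c4 LD3_c21)) :=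
  Lre_b IH (LK LD1_c0 LD2_c9 LD3_c15) (LK LD1_c0 LD2_c4 LD3_c21) Lrfl Lrfl
theorem f20006 : Led Lsl_df (LP (LK LD1_c0 LD2_c9 LD3_c15)) = (LP (LK LD1_c0 LD2_c9 LD3_c6)) :=
  Lgr Lrot12 (Lpr_bt (f20005 IH) (Lpe (f12669 IH) (Lpr_bt (K0.f20001 IH) (Lpn (LP (LK LD1_c0 LD2_c9 LD3_c6))))))
theorem f20936 : Led Lsl_ef (LP (LK LD1_c0 LD2_c20 LD3_c8)) = (LP (LK LD1_c0 LD2_c20 LD3_c8)) :=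
  Lgr Lrot114 (Lpr_gt (f9691 IH) (Lpe (f7377 IH) (Lpr_dt (K0.f7376 IH) (Lpr_gt (K0.f7307 IH) (Lpe (K0.f7300 IH) (Lpr_et (K0.f7299 IH) (Lpr_gt (K0.f9686 IH) (Lpe (f20006 IH) (Lpr_gt (f12725 IH) (Lpr_df (f20930 IH) (Lpn (LP (LK LD1_c0 LD2_c20 LD3_c8)))))))))))))
theorem f25057 : Led Lsl_cf (LP (LK LD1_c0 LD2_c18 LD3_c30)) = (LP (LK LD1_c0 LD2_c20 LD3_c4)) :=
  Lgr Lrot11 (Lpr_ct (f25050 IH) (Lpn (LP (LK LD1_c0 LD2_c20 LD3_c4))))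
theorem f67083 : Led Lsl_ct (LP (LK LD1_c0 LD2_c18 LD3_c41)) = (LP (LK LD1_c0 LD2_c20 LD3_c8)) :=
  Lgr Lrot8 (Lpr_gt (f58935 IH) (Lpr_dt (f61775 IH) (Lpr_gt (f67079 IH) (Lpr_dt (f25059 IH) (Lpr_cf (f25057 IH) (Lpe (f9655 IH) (Lpr_gf (f20898 IH) (Lpe (f20903 IH) (Lpe (f9691 IH) (Lpn (LP (LK LD1_c0 LD2_c20 LD3_c8))))))))))))
theorem f67141 : Led Lsl_et (LP (LK LD1_c0 LD2_c18 LD3_c41)) = (LP (LK LD1_c0 LD2_c18 LD3_c41)) :=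
  Lgr Lrot158 (Lpr_cf (f67086 IH) (Lpr_ef (f20936 IH) (Lpe (f67083 IH) (Lpn (LP (LK LD1_c0 LD2_c18 LD3_c41))))))
theorem f67139 : Led Lsl_dt (LP (LK LD1_c0 LD2_c18 LD3_c41)) = (LP (LK LD1_c0 LD2_c41 LD3_c53)) :=
  Lre_d IH (LK LD1_c0 LD2_c18 LD3_c41) (LK LD1_c0 LD2_c41 LD3_c53) Lrfl Lrfl
theorem f58936 : Led Lsl_et (LP (LK LD1_c0 LD2_c3 LD3_c53)) = (LP (LK LD1_c0 LD2_c8 LD3_c32)) :=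
  Lre_e IH (LK LD1_c0 LD2_c3 LD3_c53) (LK LD1_c0 LD2_c8 LD3_c32) Lrfl Lrfl
theorem f25787 : Led Lsl_gt (LP (LK LD1_c0 LD2_c18 LD3_c61)) = (LP (LK LD1_c0 LD2_c8 LD3_c32)) :=
  Lre_g IH (LK LD1_c0 LD2_c18 LD3_c61) (LK LD1_c0 LD2_c8 LD3_c32) Lrfl Lrfl
theorem f67077 : Led Lsl_et (LP (LK LD1_c0 LD2_c8 LD3_c34)) = (LP (LK LD1_c0 LD2_c18 LD3_c61)) :=
  Lgr Lrot185 (Lpr_dt (f58912 IH) (Lpe (f25133 IH) (Lpe (f7148 IH) (Lpe (f25179 IH) (Lpr_ef (f67053 IH) (Lpr_dt (f13538 IH) (Lpr_gf (f61662 IH) (Lpe (f7124 IH) (Lpr_et (f58936 IH) (Lpe (f25787 IH) (Lpn (LP (LK LD1_c0 LD2_c18 LD3_c61)))))))))))))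
theorem f67152 : Led Lsl_gf (LP (LK LD1_c0 LD2_c41 LD3_c53)) = (LP (LK LD1_c0 LD2_c19 LD3_c0)) :=
  Lgr Lrot134 (Lpe (f67139 IH) (Lpr_et (f67141 IH) (Lpr_gt (f58935 IH) (Lpe (f25845 IH) (Lpr_dt (f7148 IH) (Lpr_gt (f25133 IH) (Lpe (f58912 IH) (Lpr_et (f67077 IH) (Lpr_gt (f25787 IH) (Lpr_dt (f24985 IH) (Lpn (LP (LK LD1_c0 LD2_c19 LD3_c0)))))))))))))
theorem f67143 : Led Lsl_dt (LP (LK LD1_c0 LD2_c41 LD3_c53)) = (LP (LK LD1_c0 LD2_c18 LD3_c41)) :=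
  Lre_d IH (LK LD1_c0 LD2_c41 LD3_c53) (LK LD1_c0 LD2_c18 LD3_c41) Lrfl Lrfl
theorem f67157 : Led Lsl_cf (LP (LK LD1_c0 LD2_c20 LD3_c2)) = (LP (LK LD1_c0 LD2_c18 LD3_c61)) :=
  Lgr Lrot166 (Lpr_gt (K0.f9686 IH) (Lpe (f20006 IH) (Lpr_gt (f12725 IH) (Lpr_dt (f20928 IH) (Lpe (f67086 IH) (Lpe (f67143 IH) (Lpr_gf (f67152 IH) (Lpe (f24985 IH) (Lpe (f25787 IH) (Lpn (LP (LK LD1_c0 LD2_c18 LD3_c61))))))))))))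
theorem f67363 : Led Lsl_ft (LP (LK LD1_c0 LD2_c18 LD3_c30)) = (LP (LK LD1_c0 LD2_c18 LD3_c61)) :=
  Lgr Lrot4 (Lpr_cf (f25057 IH) (Lpr_ff (K0.f9664 IH) (Lpr_cf (f67157 IH) (Lpn (LP (LK LD1_c0 LD2_c18 LD3_c61))))))
theorem f67370 : Led Lsl_ff (LP (LK LD1_c0 LD2_c18 LD3_c30)) = (LP (LK LD1_c0 LD2_c18 LD3_c61)) :=
  Lgr Lrot3 (Lpr_ft (f67363 IH) (Lpn (LP (LK LD1_c0 LD2_c18 LD3_c61))))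
theorem f24981 : Led Lsl_gt (LP (LK LD1_c0 LD2_c8 LD3_c32)) = (LP (LK LD1_c0 LD2_c18 LD3_c60)) :=
  Lre_g IH (LK LD1_c0 LD2_c8 LD3_c32) (LK LD1_c0 LD2_c18 LD3_c60) Lrfl Lrfl
theorem f67376 : Led Lsl_at (LP (LK LD1_c0 LD2_c18 LD3_c30)) = (LP (LK LD1_c0 LD2_c18 LD3_c60)) :=
  Lgr Lrot26 (Lpr_ff (f67370 IH) (Lpr_gt (f25787 IH) (Lpr_gt (f24981 IH) (Lpn (LP (LK LD1_c0 LD2_c18 LD3_c60))))))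
theorem f7318 : Led Lsl_ct (LP (LK LD1_c0 LD2_c9 LD3_c11)) = (LP (LK LD1_c0 LD2_c20 LD3_c22)) :=
  Lre_c IH (LK LD1_c0 LD2_c9 LD3_c11) (LK LD1_c0 LD2_c20 LD3_c22) Lrfl Lrfl
theorem f67353 : Led Lsl_at (LP (LK LD1_c0 LD2_c20 LD3_c22)) = (LP (LK LD1_c0 LD2_c18 LD3_c61)) :=
  Lgr Lrot107 (Lpe (f7318 IH) (Lpe (K0.f7310 IH) (Lpr_cf (f67157 IH) (Lpn (LP (LK LD1_c0 LD2_c18 LD3_c61))))))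
theorem f67390 : Led Lsl_ff (LP (LK LD1_c0 LD2_c20 LD3_c22)) = (LP (LK LD1_c0 LD2_c18 LD3_c60)) :=
  Lgr Lrot30 (Lpr_at (f67353 IH) (Lpe (f67370 IH) (Lpr_at (f67376 IH) (Lpn (LP (LK LD1_c0 LD2_c18 LD3_c60))))))
theorem f67399 : Led Lsl_ft (LP (LK LD1_c0 LD2_c20 LD3_c22)) = (LP (LK LD1_c0 LD2_c18 LD3_c60)) :=
  Lgr Lrot48 (Lpr_ff (f67390 IH) (Lpn (LP (LK LD1_c0 LD2_c18 LD3_c60))))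
theorem f68098 : Led Lsl_bt (LP (LK LD1_c0 LD2_c45 LD3_c32)) = (LP (LK LD1_c0 LD2_c20 LD3_c22)) :=
  Lre_b IH (LK LD1_c0 LD2_c45 LD3_c32) (LK LD1_c0 LD2_c20 LD3_c22) Lrfl Lrfl
theorem f67380 : Led Lsl_bt (LP (LK LD1_c0 LD2_c18 LD3_c60)) = (LP (LK LD1_c0 LD2_c42 LD3_c39)) :=
  Lre_b IH (LK LD1_c0 LD2_c18 LD3_c60) (LK LD1_c0 LD2_c42 LD3_c39) Lrfl Lrfl
theorem f68099 : Led Lsl_ff (LP (LK LD1_c0 LD2_c45 LD3_c32)) = (LP (LK LD1_c0 LD2_c42 LD3_c39)) :=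
  Lgr Lrot25 (Lpr_bt (f68098 IH) (Lpr_ft (f67399 IH) (Lpr_bt (f67380 IH) (Lpn (LP (LK LD1_c0 LD2_c42 LD3_c39))))))
theorem f68101 : Led Lsl_at (LP (LK LD1_c0 LD2_c45 LD3_c32)) = (LP (LK LD1_c1 LD2_c37 LD3_c49)) :=
  Lre_a IH (LK LD1_c0 LD2_c45 LD3_c32) (LK LD1_c1 LD2_c37 LD3_c49) Lrfl Lrfl
theorem f9821 : Led Lsl_ct (LP (LK LD1_c0 LD2_c46 LD3_c6)) = (LP (LK LD1_c1 LD2_c37 LD3_c49)) :=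
  Lre_c IH (LK LD1_c0 LD2_c46 LD3_c6) (LK LD1_c1 LD2_c37 LD3_c49) Lrfl Lrfl
theorem f9822 : Led Lsl_dt (LP (LK LD1_c1 LD2_c39 LD3_c18)) = (LP (LK LD1_c0 LD2_c46 LD3_c6)) :=
  Lre_d IH (LK LD1_c1 LD2_c39 LD3_c18) (LK LD1_c0 LD2_c46 LD3_c6) Lrfl Lrfl

end

end K1

end

end Cfsg.Agent.Helper28.S1692
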