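import Cfsg.Agent.Lib.Helper28.S1692.Seeds9

set_option autoImplicit false
set_option maxRecDepth 100000
set_option linter.all false

namespace Cfsg.Agent.Helper28.S1692

open Cfsg.Agent.Helper28
open Cfsg.Spor.ON (Gen)

noncomputable section

namespace K10
abbrev LD1_c0 := D1.c0
abbrev LD1_c1 := D1.c1
abbrev LD1_c2 := D1.c2
abbrev LD1_c3 := D1.c3
abbrev LD1_c4 := D1.c4
abbrev LD1_c5 := D1.c5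
abbrev LD1_c6 := D1.c6
abbrev LD1_c7 := D1.c7
abbrev LD1_c8 := D1.c8
abbrev LD1_c9 := D1.c9
abbrev LD1_c10 := D1.c10
abbrev LD1_c11 := D1.c11
abbrev LD1_c12 := D1.c12
abbrev LD1_c13 := D1.c13
abbrev LD1_c14 := D1.c14
abbrev LD1_c15 := D1.c15
abbrev LD1_c16 := D1.c16
abbrev LD1_c17 := D1.c17
abbrev LD1_c18 := D1.c18
abbrev LD1_c19 := D1.c19
abbrev LD1_c20 := D1.c20
abbrev LD1_c21 := D1.c21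
abbrev LD1_c22 := D1.c22
abbrev LD1_c23 := D1.c23
abbrev LD1_c24 := D1.c24
abbrev LD1_c25 := D1.c25
abbrev LD1_c26 := D1.c26
abbrev LD1_c27 := D1.c27
abbrev LD1_c28 := D1.c28
abbrev LD1_c29 := D1.c29
abbrev LD1_c30 := D1.c30
abbrev LD1_c31 := D1.c31
abbrev LD1_c32 := D1.c32
abbrev LD2_c0 := D2.c0
abbrev LD2_c1 := D2.c1
abbrev LD2_c2 := D2.c2
abbrev LD2_c3 := D2.c3
abbrev LD2_c4 := D2.c4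
abbrev LD2_c5 := D2.c5
abbrev LD2_c6 := D2.c6
abbrev LD2_c7 := D2.c7
abbrev LD2_c8 := D2.c8
abbrev LD2_c9 := D2.c9
abbrev LD2_c10 := D2.c10
abbrev LD2_c11 := D2.c11
abbrev LD2_c12 := D2.c12
abbrev LD2_c13 := D2.c13
abbrev LD2_c14 := D2.c14
abbrev LD2_c15 := D2.c15
abbrev LD2_c16 := D2.c16
abbrev LD2_c17 := D2.c17
abbrev LD2_c18 := D2.c18
abbrev LD2_c19 := D2.c19
abbrev LD2_c20 := D2.c20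
abbrev LD2_c21 := D2.c21
abbrev LD2_c22 := D2.c22
abbrev LD2_c23 := D2.c23
abbrev LD2_c24 := D2.c24
abbrev LD2_c25 := D2.c25
abbrev LD2_c26 := D2.c26
abbrev LD2_c27 := D2.c27
abbrev LD2_c28 := D2.c28
abbrev LD2_c29 := D2.c29
abbrev LD2_c30 := D2.c30
abbrev LD2_c31 := D2.c31
abbrev LD2_c32 := D2.c32
abbrev LD2_c33 := D2.c33
abbrev LD2_c34 := D2.c34
abbrev LD2_c35 := D2.c35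
abbrev LD2_c36 := D2.c36
abbrev LD2_c37 := D2.c37
abbrev LD2_c38 := D2.c38
abbrev LD2_c39 := D2.c39
abbrev LD2_c40 := D2.c40
abbrev LD2_c41 := D2.c41
abbrev LD2_c42 := D2.c42
abbrev LD2_c43 := D2.c43
abbrev LD2_c44 := D2.c44
abbrev LD2_c45 := D2.c45
abbrev LD2_c46 := D2.c46
abbrev LD2_c47 := D2.c47
abbrev LD2_c48 := D2.c48
abbrev LD2_c49 := D2.c49
abbrev LD2_c50 := D2.c50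
abbrev LD2_c51 := D2.c51
abbrev LD2_c52 := D2.c52
abbrev LD2_c53 := D2.c53
abbrev LD2_c54 := D2.c54
abbrev LD2_c55 := D2.c55
abbrev LD2_c56 := D2.c56
abbrev LD2_c57 := D2.c57
abbrev LD2_c58 := D2.c58
abbrev LD2_c59 := D2.c59
abbrev LD3_c0 := D3.c0
abbrev LD3_c1 := D3.c1
abbrev LD3_c2 := D3.c2
abbrev LD3_c3 := D3.c3
abbrev LD3_c4 := D3.c4
abbrev LD3_c5 := D3.c5
abbrev LD3_c6 := D3.c6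
abbrev LD3_c7 := D3.c7
abbrev LD3_c8 := D3.c8
abbrev LD3_c9 := D3.c9
abbrev LD3_c10 := D3.c10
abbrev LD3_c11 := D3.c11
abbrev LD3_c12 := D3.c12
abbrev LD3_c13 := D3.c13
abbrev LD3_c14 := D3.c14
abbrev LD3_c15 := D3.c15
abbrev LD3_c16 := D3.c16
abbrev LD3_c17 := D3.c17
abbrev LD3_c18 := D3.c18
abbrev LD3_c19 := D3.c19
abbrev LD3_c20 := D3.c20
abbrev LD3_c21 := D3.c21
abbrev LD3_c22 := D3.c22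
abbrev LD3_c23 := D3.c23
abbrev LD3_c24 := D3.c24
abbrev LD3_c25 := D3.c25
abbrev LD3_c26 := D3.c26
abbrev LD3_c27 := D3.c27
abbrev LD3_c28 := D3.c28
abbrev LD3_c29 := D3.c29
abbrev LD3_c30 := D3.c30
abbrev LD3_c31 := D3.c31
abbrev LD3_c32 := D3.c32
abbrev LD3_c33 := D3.c33
abbrev LD3_c34 := D3.c34
abbrev LD3_c35 := D3.c35
abbrev LD3_c36 := D3.c36
abbrev LD3_c37 := D3.c37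
abbrev LD3_c38 := D3.c38
abbrev LD3_c39 := D3.c39
abbrev LD3_c40 := D3.c40
abbrev LD3_c41 := D3.c41
abbrev LD3_c42 := D3.c42
abbrev LD3_c43 := D3.c43
abbrev LD3_c44 := D3.c44
abbrev LD3_c45 := D3.c45
abbrev LD3_c46 := D3.c46
abbrev LD3_c47 := D3.c47
abbrev LD3_c48 := D3.c48
abbrev LD3_c49 := D3.c49
abbrev LD3_c50 := D3.c50
abbrev LD3_c51 := D3.c51
abbrev LD3_c52 := D3.c52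
abbrev LD3_c53 := D3.c53
abbrev LD3_c54 := D3.c54
abbrev LD3_c55 := D3.c55
abbrev LD3_c56 := D3.c56
abbrev LD3_c57 := D3.c57
abbrev LD3_c58 := D3.c58
abbrev LD3_c59 := D3.c59
abbrev LD3_c60 := D3.c60
abbrev LD3_c61 := D3.c61
abbrev LG_g := Gen.g
abbrev Lsl_gt : Gen × Bool := sl_gt
alias Lfl_gt := fl_gt
alias Lpr_gt := pr_gt
abbrev Lsl_gf : Gen × Bool := sl_gf
alias Lfl_gf := fl_gf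
alias Lpr_gf := pr_gf
alias Lre_g := re_g
alias Leoe_g := eoe_g
abbrev LG_a := Gen.a
abbrev Lsl_at : Gen × Bool := sl_at
alias Lfl_at := fl_at
alias Lpr_at := pr_at
abbrev Lsl_af : Gen × Bool := sl_af
alias Lfl_af := fl_af
alias Lpr_af := pr_af
alias Lre_a := re_a
alias Leoe_a := eoe_a
abbrev LG_b := Gen.b
abbrev Lsl_bt : Gen × Bool := sl_bt
alias Lfl_bt := fl_bt
alias Lpr_bt := pr_bt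
abbrev Lsl_bf : Gen × Bool := sl_bf
alias Lfl_bf := fl_bf
alias Lpr_bf := pr_bf
alias Lre_b := re_b
alias Leoe_b := eoe_b
abbrev LG_c := Gen.c
abbrev Lsl_ct : Gen × Bool := sl_ct
alias Lfl_ct := fl_ct
alias Lpr_ct := pr_ct
abbrev Lsl_cf : Gen × Bool := sl_cf
alias Lfl_cf := fl_cf
alias Lpr_cf := pr_cf
alias Lre_c := re_c
alias Leoe_c := eoe_c
abbrev LG_d := Gen.d
abbrev Lsl_dt : Gen × Bool := sl_dt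
alias Lfl_dt := fl_dt
alias Lpr_dt := pr_dt
abbrev Lsl_df : Gen × Bool := sl_df
alias Lfl_df := fl_df
alias Lpr_df := pr_df
alias Lre_d := re_d
alias Leoe_d := eoe_d
abbrev LG_e := Gen.e
abbrev Lsl_et : Gen × Bool := sl_et
alias Lfl_et := fl_et
alias Lpr_et := pr_et
abbrev Lsl_ef : Gen × Bool := sl_ef
alias Lfl_ef := fl_ef
alias Lpr_ef := pr_ef
alias Lre_e := re_e
alias Leoe_e := eoe_e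
abbrev LG_f := Gen.f
abbrev Lsl_ft : Gen × Bool := sl_ft
alias Lfl_ft := fl_ft
alias Lpr_ft := pr_ft
abbrev Lsl_ff : Gen × Bool := sl_ff
alias Lfl_ff := fl_ff
alias Lpr_ff := pr_ff
alias Lre_f := re_f
alias Leoe_f := eoe_f
abbrev LK := Pt.mk
abbrev LQ : Type := Qt rels S
abbrev LP (p : Pt) : LQ := P p
abbrev Led (l : Gen × Bool) (c : LQ) : LQ := ed l c
abbrev LEOK (x : Gen) (p : Pt) : Prop := EntryOK rels S fwd inv o plet idx x p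
alias Lpe := pe
alias Lpn := pn
alias Lgr := gr
alias Lpq := pq
alias Lpqs := pqs
alias Llr := lr
alias Leop := eop
alias Lefun := efun
alias Lecon := econ
theorem Lrfl {α : Sort _} {a : α} : a = a := rfl
alias Lrot0 := rot0
alias Lrot1 := rot1
alias Lrot2 := rot2
alias Lrot3 := rot3
alias Lrot4 := rot4
alias Lrot5 := rot5
alias Lrot6 := rot6
alias Lrot7 := rot7
alias Lrot8 := rot8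
alias Lrot9 := rot9
alias Lrot10 := rot10
alias Lrot11 := rot11
alias Lrot12 := rot12
alias Lrot13 := rot13
alias Lrot14 := rot14
alias Lrot15 := rot15
alias Lrot17 := rot17
alias Lrot18 := rot18
alias Lrot19 := rot19
alias Lrot20 := rot20
alias Lrot21 := rot21
alias Lrot22 := rot22
alias Lrot23 := rot23
alias Lrot24 := rot24
alias Lrot25 := rot25
alias Lrot27 := rot27
alias Lrot28 := rot28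
alias Lrot29 := rot29
alias Lrot30 := rot30
alias Lrot31 := rot31
alias Lrot33 := rot33
alias Lrot34 := rot34
alias Lrot35 := rot35
alias Lrot36 := rot36
alias Lrot37 := rot37
alias Lrot38 := rot38
alias Lrot39 := rot39
alias Lrot40 := rot40
alias Lrot42 := rot42
alias Lrot43 := rot43
alias Lrot44 := rot44
alias Lrot45 := rot45
alias Lrot46 := rot46
alias Lrot47 := rot47
alias Lrot48 := rot48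
alias Lrot49 := rot49
alias Lrot50 := rot50
alias Lrot51 := rot51
alias Lrot52 := rot52
alias Lrot53 := rot53
alias Lrot54 := rot54
alias Lrot55 := rot55
alias Lrot56 := rot56
alias Lrot57 := rot57
alias Lrot58 := rot58
alias Lrot59 := rot59
alias Lrot60 := rot60
alias Lrot61 := rot61
alias Lrot62 := rot62
alias Lrot63 := rot63
alias Lrot64 := rot64
alias Lrot65 := rot65
alias Lrot66 := rot66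
alias Lrot67 := rot67
alias Lrot68 := rot68
alias Lrot69 := rot69
alias Lrot70 := rot70
alias Lrot71 := rot71
alias Lrot72 := rot72
alias Lrot73 := rot73
alias Lrot74 := rot74
alias Lrot75 := rot75
alias Lrot76 := rot76
alias Lrot77 := rot77
alias Lrot78 := rot78
alias Lrot79 := rot79
alias Lrot80 := rot80
alias Lrot81 := rot81
alias Lrot82 := rot82
alias Lrot83 := rot83
alias Lrot84 := rot84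
alias Lrot86 := rot86
alias Lrot87 := rot87
alias Lrot88 := rot88
alias Lrot90 := rot90
alias Lrot91 := rot91
alias Lrot92 := rot92
alias Lrot93 := rot93
alias Lrot94 := rot94
alias Lrot95 := rot95
alias Lrot96 := rot96
alias Lrot97 := rot97
alias Lrot98 := rot98
alias Lrot99 := rot99
alias Lrot100 := rot100
alias Lrot101 := rot101
alias Lrot102 := rot102
alias Lrot103 := rot103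
alias Lrot104 := rot104
alias Lrot105 := rot105
alias Lrot106 := rot106
alias Lrot107 := rot107
alias Lrot108 := rot108
alias Lrot109 := rot109
alias Lrot110 := rot110
alias Lrot111 := rot111
alias Lrot112 := rot112
alias Lrot113 := rot113
alias Lrot114 := rot114
alias Lrot116 := rot116
alias Lrot117 := rot117
alias Lrot118 := rot118
alias Lrot119 := rot119
alias Lrot120 := rot120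
alias Lrot121 := rot121
alias Lrot122 := rot122
alias Lrot123 := rot123
alias Lrot124 := rot124
alias Lrot125 := rot125
alias Lrot126 := rot126
alias Lrot127 := rot127
alias Lrot128 := rot128
alias Lrot129 := rot129
alias Lrot130 := rot130
alias Lrot131 := rot131
alias Lrot132 := rot132
alias Lrot133 := rot133
alias Lrot134 := rot134
alias Lrot135 := rot135
alias Lrot136 := rot136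
alias Lrot137 := rot137
alias Lrot138 := rot138
alias Lrot139 := rot139
alias Lrot140 := rot140
alias Lrot141 := rot141
alias Lrot142 := rot142
alias Lrot143 := rot143
alias Lrot144 := rot144
alias Lrot145 := rot145
alias Lrot146 := rot146
alias Lrot147 := rot147
alias Lrot149 := rot149
alias Lrot150 := rot150
alias Lrot152 := rot152
alias Lrot153 := rot153
alias Lrot154 := rot154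
alias Lrot155 := rot155
alias Lrot156 := rot156
alias Lrot158 := rot158
alias Lrot160 := rot160
alias Lrot161 := rot161
alias Lrot162 := rot162
alias Lrot163 := rot163
alias Lrot164 := rot164
alias Lrot165 := rot165
alias Lrot166 := rot166
alias Lrot167 := rot167
alias Lrot168 := rot168
alias Lrot169 := rot169
alias Lrot170 := rot170
alias Lrot171 := rot171
alias Lrot172 := rot172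
alias Lrot173 := rot173
alias Lrot174 := rot174
alias Lrot176 := rot176
alias Lrot177 := rot177
alias Lrot181 := rot181
alias Lrot182 := rot182
alias Lrot185 := rot185
alias Lrot189 := rot189

section
variable (IH : IHT)
include IH

theorem f43415 : Led Lsl_ct (LP (LK LD1_c2 LD2_c25 LD3_c6)) = (LP (LK LD1_c1 LD2_c9 LD3_c47)) :=
  Lre_c IH (LK LD1_c2 LD2_c25 LD3_c6) (LK LD1_c1 LD2_c9 LD3_c47) Lrfl Lrfl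
theorem f31471 : Led Lsl_gt (LP (LK LD1_c2 LD2_c25 LD3_c0)) = (LP (LK LD1_c1 LD2_c9 LD3_c45)) :=
  Lre_g IH (LK LD1_c2 LD2_c25 LD3_c0) (LK LD1_c1 LD2_c9 LD3_c45) Lrfl Lrfl
theorem f184864 : Led Lsl_cf (LP (LK LD1_c2 LD2_c25 LD3_c0)) = (LP (LK LD1_c1 LD2_c14 LD3_c50)) :=
  Lgr Lrot169 (Lpr_gt (f31471 IH) (Lpr_ct (K9.f31462 IH) (Lpe (K9.f31525 IH) (Lpe (f43415 IH) (Lpe (K9.f43768 IH) (Lpr_cf (K9.f184048 IH) (Lpr_gf (K9.f184860 IH) (Lpe (K1.f28295 IH) (Lpe (K9.f184826 IH) (Lpn (LP (LK LD1_c1 LD2_c14 LD3_c50))))))))))))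
theorem f43413 : Led Lsl_gf (LP (LK LD1_c2 LD2_c25 LD3_c0)) = (LP (LK LD1_c2 LD2_c24 LD3_c57)) :=
  Lgr Lrot47 (Lpr_gt (f31471 IH) (Lpr_af (K9.f43401 IH) (Lpe (K9.f43394 IH) (Lpn (LP (LK LD1_c2 LD2_c24 LD3_c57))))))
theorem f32418 : Led Lsl_bt (LP (LK LD1_c1 LD2_c14 LD3_c50)) = (LP (LK LD1_c0 LD2_c34 LD3_c43)) :=
  Lre_b IH (LK LD1_c1 LD2_c14 LD3_c50) (LK LD1_c0 LD2_c34 LD3_c43) Lrfl Lrfl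
theorem f32246 : Led Lsl_bt (LP (LK LD1_c0 LD2_c7 LD3_c3)) = (LP (LK LD1_c0 LD2_c15 LD3_c34)) :=
  Lre_b IH (LK LD1_c0 LD2_c7 LD3_c3) (LK LD1_c0 LD2_c15 LD3_c34) Lrfl Lrfl
theorem f165849 : Led Lsl_bt (LP (LK LD1_c0 LD2_c14 LD3_c54)) = (LP (LK LD1_c0 LD2_c33 LD3_c8)) :=
  Lre_b IH (LK LD1_c0 LD2_c14 LD3_c54) (LK LD1_c0 LD2_c33 LD3_c8) Lrfl Lrfl
theorem f184875 : Led Lsl_gf (LP (LK LD1_c1 LD2_c9 LD3_c44)) = (LP (LK LD1_c0 LD2_c33 LD3_c8)) :=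
  Lgr Lrot181 (Lpr_ct (K9.f43350 IH) (Lpe (f43413 IH) (Lpr_cf (f184864 IH) (Lpr_bt (f32418 IH) (Lpr_gt (K9.f48187 IH) (Lpe (f32246 IH) (Lpr_ct (K0.f28414 IH) (Lpr_gt (K9.f28334 IH) (Lpr_cf (K9.f165829 IH) (Lpr_bt (f165849 IH) (Lpn (LP (LK LD1_c0 LD2_c33 LD3_c8)))))))))))))
theorem f44954 : Led Lsl_et (LP (LK LD1_c0 LD2_c26 LD3_c13)) = (LP (LK LD1_c0 LD2_c11 LD3_c39)) :=
  Lre_e IH (LK LD1_c0 LD2_c26 LD3_c13) (LK LD1_c0 LD2_c11 LD3_c39) Lrfl Lrfl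
theorem f44955 : Led Lsl_bf (LP (LK LD1_c0 LD2_c26 LD3_c13)) = (LP (LK LD1_c0 LD2_c25 LD3_c28)) :=
  Lgr Lrot96 (Lpr_et (f44954 IH) (Lpr_bt (K1.f44948 IH) (Lpr_et (K9.f27789 IH) (Lpn (LP (LK LD1_c0 LD2_c25 LD3_c28))))))
theorem f31024 : Led Lsl_at (LP (LK LD1_c0 LD2_c55 LD3_c29)) = (LP (LK LD1_c0 LD2_c25 LD3_c28)) :=
  Lre_a IH (LK LD1_c0 LD2_c55 LD3_c29) (LK LD1_c0 LD2_c25 LD3_c28) Lrfl Lrfl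
theorem f28062 : Led Lsl_et (LP (LK LD1_c0 LD2_c55 LD3_c29)) = (LP (LK LD1_c0 LD2_c25 LD3_c10)) :=
  Lre_e IH (LK LD1_c0 LD2_c55 LD3_c29) (LK LD1_c0 LD2_c25 LD3_c10) Lrfl Lrfl
theorem f30837 : Led Lsl_bf (LP (LK LD1_c0 LD2_c55 LD3_c29)) = (LP (LK LD1_c1 LD2_c1 LD3_c8)) :=
  Lgr Lrot96 (Lpr_et (f28062 IH) (Lpr_bt (K1.f30830 IH) (Lpr_et (K9.f30836 IH) (Lpn (LP (LK LD1_c1 LD2_c1 LD3_c8))))))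
theorem f49589 : Led Lsl_bt (LP (LK LD1_c0 LD2_c26 LD3_c16)) = (LP (LK LD1_c0 LD2_c57 LD3_c42)) :=
  Lre_b IH (LK LD1_c0 LD2_c26 LD3_c16) (LK LD1_c0 LD2_c57 LD3_c42) Lrfl Lrfl
theorem f49590 : Led Lsl_af (LP (LK LD1_c1 LD2_c1 LD3_c8)) = (LP (LK LD1_c0 LD2_c57 LD3_c42)) :=
  Lgr Lrot36 (Lpe (f30837 IH) (Lpr_at (f31024 IH) (Lpe (f44955 IH) (Lpr_at (K9.f49583 IH) (Lpr_bt (f49589 IH) (Lpn (LP (LK LD1_c0 LD2_c57 LD3_c42))))))))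
theorem f183952 : Led Lsl_gt (LP (LK LD1_c2 LD2_c1 LD3_c17)) = (LP (LK LD1_c1 LD2_c13 LD3_c32)) :=
  Lgr Lrot5 (Lpr_ft (K9.f50107 IH) (Lpe (f49590 IH) (Lpr_gf (K9.f183947 IH) (Lpn (LP (LK LD1_c1 LD2_c13 LD3_c32))))))
theorem f183960 : Led Lsl_bt (LP (LK LD1_c0 LD2_c34 LD3_c6)) = (LP (LK LD1_c0 LD2_c15 LD3_c18)) :=
  Lre_b IH (LK LD1_c0 LD2_c34 LD3_c6) (LK LD1_c0 LD2_c15 LD3_c18) Lrfl Lrfl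
theorem f184884 : Led Lsl_gt (LP (LK LD1_c0 LD2_c15 LD3_c18)) = (LP (LK LD1_c0 LD2_c7 LD3_c3)) :=
  Lgr Lrot82 (Lpe (f183960 IH) (Lpr_ct (K9.f171667 IH) (Lpe (f183952 IH) (Lpr_cf (K9.f50751 IH) (Lpr_bt (K9.f43347 IH) (Lpr_gf (f184875 IH) (Lpe (f165849 IH) (Lpe (K9.f165829 IH) (Lpe (K9.f28334 IH) (Lpe (K0.f28414 IH) (Lpn (LP (LK LD1_c0 LD2_c7 LD3_c3)))))))))))))
theorem f165508 : Led Lsl_ct (LP (LK LD1_c0 LD2_c6 LD3_c59)) = (LP (LK LD1_c0 LD2_c15 LD3_c18)) :=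
  Lre_c IH (LK LD1_c0 LD2_c6 LD3_c59) (LK LD1_c0 LD2_c15 LD3_c18) Lrfl Lrfl
theorem f164696 : Led Lsl_ct (LP (LK LD1_c0 LD2_c15 LD3_c22)) = (LP (LK LD1_c0 LD2_c34 LD3_c14)) :=
  Lre_c IH (LK LD1_c0 LD2_c15 LD3_c22) (LK LD1_c0 LD2_c34 LD3_c14) Lrfl Lrfl
theorem f184889 : Led Lsl_gt (LP (LK LD1_c0 LD2_c34 LD3_c14)) = (LP (LK LD1_c0 LD2_c29 LD3_c35)) :=
  Lgr Lrot150 (Lpe (f164696 IH) (Lpr_gf (K9.f178987 IH) (Lpe (K8.f3153 IH) (Lpr_gt (K9.f165506 IH) (Lpr_ct (f165508 IH) (Lpr_gt (f184884 IH) (Lpr_ct (K0.f28414 IH) (Lpe (K1.f28315 IH) (Lpe (K9.f35186 IH) (Lpn (LP (LK LD1_c0 LD2_c29 LD3_c35))))))))))))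
theorem f185097 : Led Lsl_et (LP (LK LD1_c1 LD2_c13 LD3_c54)) = (LP (LK LD1_c0 LD2_c34 LD3_c14)) :=
  Lre_e IH (LK LD1_c1 LD2_c13 LD3_c54) (LK LD1_c0 LD2_c34 LD3_c14) Lrfl Lrfl
theorem f20711 : Led Lsl_dt (LP (LK LD1_c1 LD2_c13 LD3_c54)) = (LP (LK LD1_c2 LD2_c33 LD3_c50)) :=
  Lre_d IH (LK LD1_c1 LD2_c13 LD3_c54) (LK LD1_c2 LD2_c33 LD3_c50) Lrfl Lrfl
theorem f27163 : Led Lsl_et (LP (LK LD1_c0 LD2_c13 LD3_c0)) = (LP (LK LD1_c0 LD2_c29 LD3_c35)) :=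
  Lre_e IH (LK LD1_c0 LD2_c13 LD3_c0) (LK LD1_c0 LD2_c29 LD3_c35) Lrfl Lrfl
theorem f23028 : Led Lsl_et (LP (LK LD1_c0 LD2_c7 LD3_c61)) = (LP (LK LD1_c0 LD2_c17 LD3_c47)) :=
  Lre_e IH (LK LD1_c0 LD2_c7 LD3_c61) (LK LD1_c0 LD2_c17 LD3_c47) Lrfl Lrfl
theorem f20675 : Led Lsl_gt (LP (LK LD1_c0 LD2_c17 LD3_c47)) = (LP (LK LD1_c0 LD2_c39 LD3_c38)) :=
  Lre_g IH (LK LD1_c0 LD2_c17 LD3_c47) (LK LD1_c0 LD2_c39 LD3_c38) Lrfl Lrfl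
theorem f175946 : Led Lsl_dt (LP (LK LD1_c0 LD2_c39 LD3_c38)) = (LP (LK LD1_c1 LD2_c25 LD3_c46)) :=
  Lre_d IH (LK LD1_c0 LD2_c39 LD3_c38) (LK LD1_c1 LD2_c25 LD3_c46) Lrfl Lrfl
theorem f185100 : Led Lsl_gf (LP (LK LD1_c2 LD2_c33 LD3_c50)) = (LP (LK LD1_c1 LD2_c25 LD3_c46)) :=
  Lgr Lrot134 (Lpe (f20711 IH) (Lpr_et (f185097 IH) (Lpr_gt (f184889 IH) (Lpe (f27163 IH) (Lpr_dt (K0.f20603 IH) (Lpe (K2.f20604 IH) (Lpe (K0.f21177 IH) (Lpr_et (f23028 IH) (Lpr_gt (f20675 IH) (Lpr_dt (f175946 IH) (Lpn (LP (LK LD1_c1 LD2_c25 LD3_c46)))))))))))))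
theorem f164637 : Led Lsl_ct (LP (LK LD1_c0 LD2_c34 LD3_c14)) = (LP (LK LD1_c0 LD2_c15 LD3_c22)) :=
  Lre_c IH (LK LD1_c0 LD2_c34 LD3_c14) (LK LD1_c0 LD2_c15 LD3_c22) Lrfl Lrfl
theorem f185084 : Led Lsl_ct (LP (LK LD1_c0 LD2_c15 LD3_c16)) = (LP (LK LD1_c0 LD2_c34 LD3_c2)) :=
  Lre_c IH (LK LD1_c0 LD2_c15 LD3_c16) (LK LD1_c0 LD2_c34 LD3_c2) Lrfl Lrfl
theorem f185085 : Led Lsl_dt (LP (LK LD1_c1 LD2_c13 LD3_c31)) = (LP (LK LD1_c0 LD2_c34 LD3_c2)) :=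
  Lre_d IH (LK LD1_c1 LD2_c13 LD3_c31) (LK LD1_c0 LD2_c34 LD3_c2) Lrfl Lrfl
theorem f185086 : Led Lsl_gf (LP (LK LD1_c1 LD2_c13 LD3_c31)) = (LP (LK LD1_c1 LD2_c4 LD3_c38)) :=
  Lgr Lrot143 (Lpr_dt (f185085 IH) (Lpe (f185084 IH) (Lpe (K9.f22102 IH) (Lpe (K9.f20470 IH) (Lpe (K0.f20469 IH) (Lpe (K9.f20536 IH) (Lpe (f164637 IH) (Lpr_gt (f184889 IH) (Lpr_dt (K2.f26941 IH) (Lpn (LP (LK LD1_c1 LD2_c4 LD3_c38))))))))))))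
theorem f185098 : Led Lsl_dt (LP (LK LD1_c0 LD2_c34 LD3_c2)) = (LP (LK LD1_c1 LD2_c13 LD3_c31)) :=
  Lre_d IH (LK LD1_c0 LD2_c34 LD3_c2) (LK LD1_c1 LD2_c13 LD3_c31) Lrfl Lrfl
theorem f167784 : Led Lsl_gf (LP (LK LD1_c0 LD2_c54 LD3_c54)) = (LP (LK LD1_c1 LD2_c3 LD3_c12)) :=
  Lgr Lrot104 (Lpr_ct (K9.f40793 IH) (Lpe (K9.f6820 IH) (Lpr_cf (K9.f167774 IH) (Lpe (K9.f40823 IH) (Lpe (K9.f40802 IH) (Lpe (K9.f20651 IH) (Lpe (K9.f20665 IH) (Lpr_gt (K9.f6856 IH) (Lpr_ct (K9.f20686 IH) (Lpn (LP (LK LD1_c1 LD2_c3 LD3_c12))))))))))))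
theorem f185109 : Led Lsl_et (LP (LK LD1_c0 LD2_c34 LD3_c2)) = (LP (LK LD1_c1 LD2_c3 LD3_c12)) :=
  Lgr Lrot185 (Lpr_dt (f185098 IH) (Lpr_gf (f185086 IH) (Lpe (K2.f26941 IH) (Lpe (f184889 IH) (Lpe (f185097 IH) (Lpr_dt (f20711 IH) (Lpr_gf (f185100 IH) (Lpe (f175946 IH) (Lpr_et (K9.f175950 IH) (Lpr_gf (f167784 IH) (Lpn (LP (LK LD1_c1 LD2_c3 LD3_c12)))))))))))))
theorem f185120 : Led Lsl_ef (LP (LK LD1_c0 LD2_c34 LD3_c2)) = (LP (LK LD1_c1 LD2_c3 LD3_c12)) :=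
  Lgr Lrot88 (Lpr_et (f185109 IH) (Lpn (LP (LK LD1_c1 LD2_c3 LD3_c12))))
theorem f185128 : Led Lsl_gt (LP (LK LD1_c0 LD2_c34 LD3_c2)) = (LP (LK LD1_c1 LD2_c13 LD3_c28)) :=
  Lre_g IH (LK LD1_c0 LD2_c34 LD3_c2) (LK LD1_c1 LD2_c13 LD3_c28) Lrfl Lrfl
theorem f68911 : Led Lsl_et (LP (LK LD1_c1 LD2_c3 LD3_c55)) = (LP (LK LD1_c0 LD2_c29 LD3_c8)) :=
  Lre_e IH (LK LD1_c1 LD2_c3 LD3_c55) (LK LD1_c0 LD2_c29 LD3_c8) Lrfl Lrfl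
theorem f9427 : Led Lsl_gt (LP (LK LD1_c1 LD2_c24 LD3_c40)) = (LP (LK LD1_c2 LD2_c13 LD3_c49)) :=
  Lre_g IH (LK LD1_c1 LD2_c24 LD3_c40) (LK LD1_c2 LD2_c13 LD3_c49) Lrfl Lrfl
theorem f9420 : Led Lsl_ct (LP (LK LD1_c1 LD2_c24 LD3_c41)) = (LP (LK LD1_c2 LD2_c58 LD3_c0)) :=
  Lre_c IH (LK LD1_c1 LD2_c24 LD3_c41) (LK LD1_c2 LD2_c58 LD3_c0) Lrfl Lrfl
theorem f175576 : Led Lsl_gt (LP (LK LD1_c2 LD2_c58 LD3_c0)) = (LP (LK LD1_c2 LD2_c27 LD3_c58)) :=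
  Lgr Lrot150 (Lpe (f9420 IH) (Lpe (K9.f9416 IH) (Lpe (K0.f9363 IH) (Lpr_gt (K9.f101494 IH) (Lpr_ct (K9.f175565 IH) (Lpr_gt (K9.f27239 IH) (Lpr_ct (K9.f26036 IH) (Lpe (K9.f100600 IH) (Lpe (K9.f100601 IH) (Lpn (LP (LK LD1_c2 LD2_c27 LD3_c58))))))))))))
theorem f9433 : Led Lsl_ct (LP (LK LD1_c2 LD2_c58 LD3_c0)) = (LP (LK LD1_c1 LD2_c24 LD3_c41)) :=
  Lre_c IH (LK LD1_c2 LD2_c58 LD3_c0) (LK LD1_c1 LD2_c24 LD3_c41) Lrfl Lrfl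
theorem f26781 : Led Lsl_gt (LP (LK LD1_c0 LD2_c17 LD3_c19)) = (LP (LK LD1_c0 LD2_c38 LD3_c60)) :=
  Lre_g IH (LK LD1_c0 LD2_c17 LD3_c19) (LK LD1_c0 LD2_c38 LD3_c60) Lrfl Lrfl
theorem f26783 : Led Lsl_dt (LP (LK LD1_c0 LD2_c38 LD3_c60)) = (LP (LK LD1_c1 LD2_c24 LD3_c38)) :=
  Lre_d IH (LK LD1_c0 LD2_c38 LD3_c60) (LK LD1_c1 LD2_c24 LD3_c38) Lrfl Lrfl
theorem f175385 : Led Lsl_ct (LP (LK LD1_c1 LD2_c24 LD3_c38)) = (LP (LK LD1_c2 LD2_c57 LD3_c54)) :=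
  Lre_c IH (LK LD1_c1 LD2_c24 LD3_c38) (LK LD1_c2 LD2_c57 LD3_c54) Lrfl Lrfl
theorem f100701 : Led Lsl_af (LP (LK LD1_c2 LD2_c27 LD3_c58)) = (LP (LK LD1_c3 LD2_c3 LD3_c32)) :=
  Lgr Lrot117 (Lpr_dt (K9.f73952 IH) (Lpr_at (K9.f100606 IH) (Lpr_dt (K9.f100696 IH) (Lpn (LP (LK LD1_c3 LD2_c3 LD3_c32))))))
theorem f100626 : Led Lsl_ft (LP (LK LD1_c1 LD2_c27 LD3_c40)) = (LP (LK LD1_c3 LD2_c3 LD3_c33)) :=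
  Lre_f IH (LK LD1_c1 LD2_c27 LD3_c40) (LK LD1_c3 LD2_c3 LD3_c33) Lrfl Lrfl
theorem f100628 : Led Lsl_ft (LP (LK LD1_c5 LD2_c0 LD3_c28)) = (LP (LK LD1_c3 LD2_c3 LD3_c32)) :=
  Lgr Lrot4 (Lpr_cf (K9.f100604 IH) (Lpe (f100626 IH) (Lpe (K9.f100627 IH) (Lpn (LP (LK LD1_c3 LD2_c3 LD3_c32))))))
theorem f175591 : Led Lsl_gf (LP (LK LD1_c2 LD2_c58 LD3_c0)) = (LP (LK LD1_c5 LD2_c0 LD3_c28)) :=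
  Lgr Lrot47 (Lpr_gt (f175576 IH) (Lpr_af (f100701 IH) (Lpe (f100628 IH) (Lpn (LP (LK LD1_c5 LD2_c0 LD3_c28))))))
theorem f175593 : Led Lsl_df (LP (LK LD1_c2 LD2_c57 LD3_c54)) = (LP (LK LD1_c2 LD2_c58 LD3_c0)) :=
  Lgr Lrot84 (Lpe (f175385 IH) (Lpe (f26783 IH) (Lpe (f26781 IH) (Lpe (K0.f9351 IH) (Lpe (K9.f9383 IH) (Lpe (f9433 IH) (Lpr_gt (f175576 IH) (Lpr_dt (K9.f73952 IH) (Lpe (f175591 IH) (Lpn (LP (LK LD1_c2 LD2_c58 LD3_c0))))))))))))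
theorem f175662 : Led Lsl_dt (LP (LK LD1_c2 LD2_c57 LD3_c54)) = (LP (LK LD1_c2 LD2_c58 LD3_c0)) :=
  Lgr Lrot42 (Lpr_df (f175593 IH) (Lpn (LP (LK LD1_c2 LD2_c58 LD3_c0))))
theorem f26034 : Led Lsl_ct (LP (LK LD1_c2 LD2_c27 LD3_c60)) = (LP (LK LD1_c1 LD2_c11 LD3_c8)) :=
  Lre_c IH (LK LD1_c2 LD2_c27 LD3_c60) (LK LD1_c1 LD2_c11 LD3_c8) Lrfl Lrfl
theorem f175573 : Led Lsl_gt (LP (LK LD1_c0 LD2_c39 LD3_c0)) = (LP (LK LD1_c1 LD2_c24 LD3_c40)) :=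
  Lre_g IH (LK LD1_c0 LD2_c39 LD3_c0) (LK LD1_c1 LD2_c24 LD3_c40) Lrfl Lrfl
theorem f26037 : Led Lsl_ct (LP (LK LD1_c1 LD2_c11 LD3_c8)) = (LP (LK LD1_c2 LD2_c27 LD3_c60)) :=
  Lre_c IH (LK LD1_c1 LD2_c11 LD3_c8) (LK LD1_c2 LD2_c27 LD3_c60) Lrfl Lrfl
theorem f175574 : Led Lsl_dt (LP (LK LD1_c1 LD2_c24 LD3_c40)) = (LP (LK LD1_c2 LD2_c27 LD3_c60)) :=
  Lgr Lrot113 (Lpe (f175573 IH) (Lpe (K0.f9347 IH) (Lpe (K9.f9392 IH) (Lpr_ct (K9.f175565 IH) (Lpr_gt (K9.f27239 IH) (Lpr_dt (K9.f9361 IH) (Lpr_gt (K9.f26029 IH) (Lpr_dt (K9.f26030 IH) (Lpr_ct (f26037 IH) (Lpn (LP (LK LD1_c2 LD2_c27 LD3_c60))))))))))))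
theorem f9428 : Led Lsl_ct (LP (LK LD1_c2 LD2_c57 LD3_c59)) = (LP (LK LD1_c1 LD2_c24 LD3_c40)) :=
  Lre_c IH (LK LD1_c2 LD2_c57 LD3_c59) (LK LD1_c1 LD2_c24 LD3_c40) Lrfl Lrfl
theorem f172679 : Led Lsl_dt (LP (LK LD1_c0 LD2_c38 LD3_c61)) = (LP (LK LD1_c1 LD2_c24 LD3_c39)) :=
  Lre_d IH (LK LD1_c0 LD2_c38 LD3_c61) (LK LD1_c1 LD2_c24 LD3_c39) Lrfl Lrfl
theorem f175671 : Led Lsl_ct (LP (LK LD1_c1 LD2_c24 LD3_c39)) = (LP (LK LD1_c2 LD2_c57 LD3_c56)) :=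
  Lre_c IH (LK LD1_c1 LD2_c24 LD3_c39) (LK LD1_c2 LD2_c57 LD3_c56) Lrfl Lrfl
theorem f175672 : Led Lsl_df (LP (LK LD1_c2 LD2_c57 LD3_c59)) = (LP (LK LD1_c2 LD2_c57 LD3_c56)) :=
  Lgr Lrot43 (Lpr_ct (f9428 IH) (Lpr_dt (f175574 IH) (Lpr_ct (f26034 IH) (Lpr_dt (K9.f26038 IH) (Lpe (K9.f175336 IH) (Lpr_dt (f26783 IH) (Lpr_ct (f175385 IH) (Lpr_dt (f175662 IH) (Lpr_ct (f9433 IH) (Lpr_dt (K9.f175386 IH) (Lpr_ct (K9.f100656 IH) (Lpr_dt (K9.f27240 IH) (Lpe (K9.f175569 IH) (Lpr_dt (f172679 IH) (Lpr_ct (f175671 IH) (Lpn (LP (LK LD1_c2 LD2_c57 LD3_c56))))))))))))))))))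
theorem f175679 : Led Lsl_dt (LP (LK LD1_c2 LD2_c57 LD3_c59)) = (LP (LK LD1_c2 LD2_c57 LD3_c56)) :=
  Lgr Lrot42 (Lpr_df (f175672 IH) (Lpn (LP (LK LD1_c2 LD2_c57 LD3_c56))))
theorem f175684 : Led Lsl_ct (LP (LK LD1_c1 LD2_c24 LD3_c40)) = (LP (LK LD1_c2 LD2_c57 LD3_c59)) :=
  Lre_c IH (LK LD1_c1 LD2_c24 LD3_c40) (LK LD1_c2 LD2_c57 LD3_c59) Lrfl Lrfl
theorem f175572 : Led Lsl_ct (LP (LK LD1_c2 LD2_c57 LD3_c56)) = (LP (LK LD1_c1 LD2_c24 LD3_c39)) :=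
  Lre_c IH (LK LD1_c2 LD2_c57 LD3_c56) (LK LD1_c1 LD2_c24 LD3_c39) Lrfl Lrfl
theorem f175571 : Led Lsl_dt (LP (LK LD1_c1 LD2_c24 LD3_c39)) = (LP (LK LD1_c0 LD2_c38 LD3_c61)) :=
  Lre_d IH (LK LD1_c1 LD2_c24 LD3_c39) (LK LD1_c0 LD2_c38 LD3_c61) Lrfl Lrfl
theorem f100655 : Led Lsl_ct (LP (LK LD1_c1 LD2_c11 LD3_c10)) = (LP (LK LD1_c2 LD2_c28 LD3_c2)) :=
  Lre_c IH (LK LD1_c1 LD2_c11 LD3_c10) (LK LD1_c2 LD2_c28 LD3_c2) Lrfl Lrfl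
theorem f175388 : Led Lsl_ct (LP (LK LD1_c2 LD2_c57 LD3_c54)) = (LP (LK LD1_c1 LD2_c24 LD3_c38)) :=
  Lre_c IH (LK LD1_c2 LD2_c57 LD3_c54) (LK LD1_c1 LD2_c24 LD3_c38) Lrfl Lrfl
theorem f9418 : Led Lsl_dt (LP (LK LD1_c1 LD2_c24 LD3_c38)) = (LP (LK LD1_c0 LD2_c38 LD3_c60)) :=
  Lre_d IH (LK LD1_c1 LD2_c24 LD3_c38) (LK LD1_c0 LD2_c38 LD3_c60) Lrfl Lrfl
theorem f175296 : Led Lsl_et (LP (LK LD1_c0 LD2_c32 LD3_c59)) = (LP (LK LD1_c0 LD2_c25 LD3_c52)) :=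
  Lgr Lrot87 (Lpr_ef (K9.f175291 IH) (Lpn (LP (LK LD1_c0 LD2_c25 LD3_c52))))
theorem f175326 : Led Lsl_ct (LP (LK LD1_c0 LD2_c38 LD3_c60)) = (LP (LK LD1_c0 LD2_c32 LD3_c59)) :=
  Lgr Lrot15 (Lpr_ef (K9.f175319 IH) (Lpe (K9.f55908 IH) (Lpe (f175296 IH) (Lpn (LP (LK LD1_c0 LD2_c32 LD3_c59))))))
theorem f175693 : Led Lsl_df (LP (LK LD1_c1 LD2_c24 LD3_c40)) = (LP (LK LD1_c2 LD2_c27 LD3_c60)) :=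
  Lgr Lrot43 (Lpr_ct (f175684 IH) (Lpr_dt (f175679 IH) (Lpr_ct (f175572 IH) (Lpr_dt (f175571 IH) (Lpr_ct (K9.f175565 IH) (Lpr_dt (K9.f100654 IH) (Lpr_ct (f100655 IH) (Lpe (K9.f175393 IH) (Lpr_ct (f9420 IH) (Lpe (f175593 IH) (Lpr_ct (f175388 IH) (Lpr_dt (f9418 IH) (Lpr_ct (f175326 IH) (Lpr_dt (K9.f26030 IH) (Lpr_ct (f26037 IH) (Lpn (LP (LK LD1_c2 LD2_c27 LD3_c60))))))))))))))))))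
theorem f185131 : Led Lsl_ef (LP (LK LD1_c1 LD2_c13 LD3_c28)) = (LP (LK LD1_c2 LD2_c27 LD3_c60)) :=
  Lgr Lrot17 (Lpe (f185128 IH) (Lpr_ef (f185120 IH) (Lpr_dt (K9.f178883 IH) (Lpr_gf (K9.f174220 IH) (Lpe (K9.f172843 IH) (Lpe (K9.f172409 IH) (Lpe (f68911 IH) (Lpr_dt (K0.f9363 IH) (Lpe (f9427 IH) (Lpr_df (f175693 IH) (Lpn (LP (LK LD1_c2 LD2_c27 LD3_c60)))))))))))))
theorem f185142 : Led Lsl_et (LP (LK LD1_c1 LD2_c13 LD3_c28)) = (LP (LK LD1_c2 LD2_c27 LD3_c60)) :=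
  Lgr Lrot87 (Lpr_ef (f185131 IH) (Lpn (LP (LK LD1_c2 LD2_c27 LD3_c60))))
theorem f185147 : Led Lsl_cf (LP (LK LD1_c1 LD2_c13 LD3_c28)) = (LP (LK LD1_c0 LD2_c57 LD3_c1)) :=
  Lgr Lrot39 (Lpr_et (f185142 IH) (Lpr_ct (f26034 IH) (Lpr_et (K9.f175294 IH) (Lpn (LP (LK LD1_c0 LD2_c57 LD3_c1))))))
theorem f32257 : Led Lsl_af (LP (LK LD1_c0 LD2_c7 LD3_c3)) = (LP (LK LD1_c0 LD2_c7 LD3_c1)) :=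
  Lgr Lrot0 (Lpr_at (K1.f32244 IH) (Lpn (LP (LK LD1_c0 LD2_c7 LD3_c1))))
theorem f184887 : Led Lsl_gf (LP (LK LD1_c0 LD2_c15 LD3_c18)) = (LP (LK LD1_c0 LD2_c15 LD3_c30)) :=
  Lgr Lrot47 (Lpr_gt (f184884 IH) (Lpr_af (f32257 IH) (Lpe (K1.f32297 IH) (Lpn (LP (LK LD1_c0 LD2_c15 LD3_c30))))))
theorem f20481 : Led Lsl_ct (LP (LK LD1_c0 LD2_c34 LD3_c9)) = (LP (LK LD1_c0 LD2_c15 LD3_c19)) :=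
  Lre_c IH (LK LD1_c0 LD2_c34 LD3_c9) (LK LD1_c0 LD2_c15 LD3_c19) Lrfl Lrfl
theorem f185149 : Led Lsl_gt (LP (LK LD1_c1 LD2_c13 LD3_c28)) = (LP (LK LD1_c0 LD2_c34 LD3_c9)) :=
  Lgr Lrot150 (Lpr_cf (f185147 IH) (Lpr_gf (K9.f28339 IH) (Lpe (K9.f28338 IH) (Lpr_gt (K9.f31661 IH) (Lpr_ct (K1.f32278 IH) (Lpe (f184887 IH) (Lpr_ct (K9.f165515 IH) (Lpe (K9.f20475 IH) (Lpe (f20481 IH) (Lpn (LP (LK LD1_c0 LD2_c34 LD3_c9))))))))))))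
theorem f175298 : Led Lsl_et (LP (LK LD1_c0 LD2_c11 LD3_c30)) = (LP (LK LD1_c0 LD2_c25 LD3_c53)) :=
  Lre_e IH (LK LD1_c0 LD2_c11 LD3_c30) (LK LD1_c0 LD2_c25 LD3_c53) Lrfl Lrfl
theorem f175299 : Led Lsl_ef (LP (LK LD1_c1 LD2_c11 LD3_c8)) = (LP (LK LD1_c0 LD2_c57 LD3_c1)) :=
  Lgr Lrot73 (Lpr_dt (K9.f26038 IH) (Lpr_et (f175296 IH) (Lpr_dt (K9.f55911 IH) (Lpr_et (f175298 IH) (Lpr_dt (K9.f28337 IH) (Lpn (LP (LK LD1_c0 LD2_c57 LD3_c1))))))))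
theorem f185137 : Led Lsl_ct (LP (LK LD1_c1 LD2_c13 LD3_c28)) = (LP (LK LD1_c0 LD2_c57 LD3_c1)) :=
  Lgr Lrot15 (Lpr_ef (f185131 IH) (Lpe (f26037 IH) (Lpr_ef (f175299 IH) (Lpn (LP (LK LD1_c0 LD2_c57 LD3_c1))))))
theorem f26598 : Led Lsl_et (LP (LK LD1_c0 LD2_c14 LD3_c49)) = (LP (LK LD1_c0 LD2_c6 LD3_c48)) :=
  Lre_e IH (LK LD1_c0 LD2_c14 LD3_c49) (LK LD1_c0 LD2_c6 LD3_c48) Lrfl Lrfl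
theorem f175302 : Led Lsl_gf (LP (LK LD1_c0 LD2_c32 LD3_c10)) = (LP (LK LD1_c0 LD2_c57 LD3_c1)) :=
  Lgr Lrot138 (Lpr_dt (K9.f28350 IH) (Lpr_gt (K8.f28330 IH) (Lpe (K1.f28315 IH) (Lpe (K9.f34777 IH) (Lpr_gt (K0.f26568 IH) (Lpe (f26598 IH) (Lpr_dt (K9.f9361 IH) (Lpr_gt (K9.f26029 IH) (Lpe (K9.f26038 IH) (Lpr_et (K9.f175294 IH) (Lpn (LP (LK LD1_c0 LD2_c57 LD3_c1)))))))))))))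
theorem f20504 : Led Lsl_dt (LP (LK LD1_c0 LD2_c34 LD3_c9)) = (LP (LK LD1_c1 LD2_c13 LD3_c45)) :=
  Lre_d IH (LK LD1_c0 LD2_c34 LD3_c9) (LK LD1_c1 LD2_c13 LD3_c45) Lrfl Lrfl
theorem f185153 : Led Lsl_gf (LP (LK LD1_c1 LD2_c4 LD3_c38)) = (LP (LK LD1_c1 LD2_c13 LD3_c45)) :=
  Lgr Lrot143 (Lpr_dt (K9.f35185 IH) (Lpr_cf (K8.f34885 IH) (Lpe (K8.f7020 IH) (Lpe (K8.f28330 IH) (Lpe (K9.f28350 IH) (Lpr_gf (f175302 IH) (Lpe (f185137 IH) (Lpr_gt (f185149 IH) (Lpr_dt (f20504 IH) (Lpn (LP (LK LD1_c1 LD2_c13 LD3_c45))))))))))))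
theorem f71510 : Led Lsl_at (LP (LK LD1_c0 LD2_c38 LD3_c25)) = (LP (LK LD1_c1 LD2_c4 LD3_c38)) :=
  Lgr Lrot100 (Lpr_af (K2.f71508 IH) (Lpn (LP (LK LD1_c1 LD2_c4 LD3_c38))))
theorem f71542 : Led Lsl_ft (LP (LK LD1_c1 LD2_c23 LD3_c0)) = (LP (LK LD1_c0 LD2_c38 LD3_c25)) :=
  Lre_f IH (LK LD1_c1 LD2_c23 LD3_c0) (LK LD1_c0 LD2_c38 LD3_c25) Lrfl Lrfl
theorem f185158 : Led Lsl_gt (LP (LK LD1_c1 LD2_c23 LD3_c0)) = (LP (LK LD1_c1 LD2_c13 LD3_c45)) :=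
  Lgr Lrot5 (Lpr_ft (f71542 IH) (Lpr_at (f71510 IH) (Lpr_gf (f185153 IH) (Lpn (LP (LK LD1_c1 LD2_c13 LD3_c45))))))
theorem f20498 : Led Lsl_dt (LP (LK LD1_c1 LD2_c13 LD3_c45)) = (LP (LK LD1_c0 LD2_c34 LD3_c9)) :=
  Lre_d IH (LK LD1_c1 LD2_c13 LD3_c45) (LK LD1_c0 LD2_c34 LD3_c9) Lrfl Lrfl
theorem f20491 : Led Lsl_ct (LP (LK LD1_c0 LD2_c15 LD3_c19)) = (LP (LK LD1_c0 LD2_c34 LD3_c9)) :=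
  Lre_c IH (LK LD1_c0 LD2_c15 LD3_c19) (LK LD1_c0 LD2_c34 LD3_c9) Lrfl Lrfl
theorem f20534 : Led Lsl_gt (LP (LK LD1_c0 LD2_c6 LD3_c60)) = (LP (LK LD1_c0 LD2_c15 LD3_c21)) :=
  Lre_g IH (LK LD1_c0 LD2_c6 LD3_c60) (LK LD1_c0 LD2_c15 LD3_c21) Lrfl Lrfl
theorem f163716 : Led Lsl_gf (LP (LK LD1_c0 LD2_c15 LD3_c5)) = (LP (LK LD1_c0 LD2_c15 LD3_c21)) :=
  Lgr Lrot76 (Lpr_af (K8.f163695 IH) (Lpe (K8.f20533 IH) (Lpr_gt (f20534 IH) (Lpn (LP (LK LD1_c0 LD2_c15 LD3_c21))))))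
theorem f163742 : Led Lsl_ct (LP (LK LD1_c0 LD2_c34 LD3_c11)) = (LP (LK LD1_c0 LD2_c15 LD3_c21)) :=
  Lre_c IH (LK LD1_c0 LD2_c34 LD3_c11) (LK LD1_c0 LD2_c15 LD3_c21) Lrfl Lrfl
theorem f185747 : Led Lsl_gf (LP (LK LD1_c0 LD2_c38 LD3_c26)) = (LP (LK LD1_c0 LD2_c34 LD3_c11)) :=
  Lgr Lrot144 (Lpr_dt (K9.f71280 IH) (Lpr_gt (f185158 IH) (Lpr_dt (f20498 IH) (Lpe (f20491 IH) (Lpe (K9.f20485 IH) (Lpe (K9.f165506 IH) (Lpe (K8.f3152 IH) (Lpr_gf (f163716 IH) (Lpe (f163742 IH) (Lpn (LP (LK LD1_c0 LD2_c34 LD3_c11))))))))))))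
theorem f185750 : Led Lsl_gt (LP (LK LD1_c0 LD2_c29 LD3_c35)) = (LP (LK LD1_c0 LD2_c34 LD3_c11)) :=
  Lgr Lrot5 (Lpr_ft (K2.f34995 IH) (Lpe (K2.f71490 IH) (Lpr_gf (f185747 IH) (Lpn (LP (LK LD1_c0 LD2_c34 LD3_c11))))))
theorem f59670 : Led Lsl_dt (LP (LK LD1_c0 LD2_c8 LD3_c14)) = (LP (LK LD1_c0 LD2_c7 LD3_c50)) :=
  Lgr Lrot79 (Lpe (K2.f59357 IH) (Lpr_df (K1.f59665 IH) (Lpe (K0.f34685 IH) (Lpn (LP (LK LD1_c0 LD2_c7 LD3_c50))))))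
theorem f59794 : Led Lsl_df (LP (LK LD1_c0 LD2_c18 LD3_c4)) = (LP (LK LD1_c0 LD2_c16 LD3_c37)) :=
  Lgr Lrot153 (Lpe (K0.f27150 IH) (Lpr_dt (K0.f25186 IH) (Lpe (K0.f26600 IH) (Lpe (K0.f8141 IH) (Lpe (K0.f8191 IH) (Lpe (f59670 IH) (Lpe (K1.f23012 IH) (Lpe (K1.f7121 IH) (Lpr_gt (K1.f59724 IH) (Lpn (LP (LK LD1_c0 LD2_c16 LD3_c37))))))))))))
theorem f175847 : Led Lsl_gt (LP (LK LD1_c1 LD2_c20 LD3_c45)) = (LP (LK LD1_c0 LD2_c37 LD3_c17)) :=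
  Lre_g IH (LK LD1_c1 LD2_c20 LD3_c45) (LK LD1_c0 LD2_c37 LD3_c17) Lrfl Lrfl
theorem f179113 : Led Lsl_gf (LP (LK LD1_c0 LD2_c14 LD3_c38)) = (LP (LK LD1_c0 LD2_c12 LD3_c13)) :=
  Lgr Lrot147 (Lpr_ct (K9.f168183 IH) (Lpr_gt (K9.f179106 IH) (Lpr_ct (K0.f3064 IH) (Lpe (K0.f3061 IH) (Lpe (K9.f167295 IH) (Lpe (K9.f497 IH) (Lpe (K9.f6823 IH) (Lpe (K9.f6771 IH) (Lpe (K9.f8003 IH) (Lpn (LP (LK LD1_c0 LD2_c12 LD3_c13))))))))))))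
theorem f41319 : Led Lsl_ef (LP (LK LD1_c0 LD2_c11 LD3_c3)) = (LP (LK LD1_c0 LD2_c11 LD3_c3)) :=
  Lgr Lrot28 (Lpr_ct (K1.f40839 IH) (Lpr_et (K1.f41312 IH) (Lpr_ct (K1.f40812 IH) (Lpn (LP (LK LD1_c0 LD2_c11 LD3_c3))))))
theorem f178491 : Led Lsl_gt (LP (LK LD1_c0 LD2_c26 LD3_c38)) = (LP (LK LD1_c0 LD2_c11 LD3_c52)) :=
  Lgr Lrot112 (Lpr_df (K9.f178484 IH) (Lpr_et (K9.f7023 IH) (Lpe (K9.f175279 IH) (Lpr_ef (f41319 IH) (Lpr_dt (K9.f41077 IH) (Lpr_gf (K9.f175275 IH) (Lpr_df (K9.f178473 IH) (Lpe (K9.f53314 IH) (Lpe (K9.f53311 IH) (Lpr_dt (K9.f51576 IH) (Lpn (LP (LK LD1_c0 LD2_c11 LD3_c52)))))))))))))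
theorem f178482 : Led Lsl_et (LP (LK LD1_c0 LD2_c26 LD3_c41)) = (LP (LK LD1_c0 LD2_c26 LD3_c48)) :=
  Lgr Lrot87 (Lpr_ef (K9.f178477 IH) (Lpn (LP (LK LD1_c0 LD2_c26 LD3_c48))))
theorem f180257 : Led Lsl_gt (LP (LK LD1_c0 LD2_c58 LD3_c51)) = (LP (LK LD1_c0 LD2_c32 LD3_c4)) :=
  Lgr Lrot112 (Lpe (K9.f178479 IH) (Lpr_et (f178482 IH) (Lpe (K9.f53314 IH) (Lpe (K9.f53311 IH) (Lpr_dt (K9.f51576 IH) (Lpe (f178491 IH) (Lpr_df (K9.f178484 IH) (Lpr_gf (f179113 IH) (Lpr_ef (K9.f180249 IH) (Lpr_dt (K9.f31445 IH) (Lpn (LP (LK LD1_c0 LD2_c32 LD3_c4)))))))))))))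
theorem f27236 : Led Lsl_gt (LP (LK LD1_c0 LD2_c39 LD3_c56)) = (LP (LK LD1_c0 LD2_c17 LD3_c56)) :=
  Lre_g IH (LK LD1_c0 LD2_c39 LD3_c56) (LK LD1_c0 LD2_c17 LD3_c56) Lrfl Lrfl
theorem f37710 : Led Lsl_gt (LP (LK LD1_c0 LD2_c32 LD3_c50)) = (LP (LK LD1_c0 LD2_c39 LD3_c56)) :=
  Lgr Lrot5 (Lpr_ft (K1.f37707 IH) (Lpr_at (K1.f37699 IH) (Lpe (f27236 IH) (Lpn (LP (LK LD1_c0 LD2_c39 LD3_c56))))))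
theorem f27238 : Led Lsl_et (LP (LK LD1_c1 LD2_c26 LD3_c23)) = (LP (LK LD1_c0 LD2_c39 LD3_c56)) :=
  Lre_e IH (LK LD1_c1 LD2_c26 LD3_c23) (LK LD1_c0 LD2_c39 LD3_c56) Lrfl Lrfl
theorem f23045 : Led Lsl_et (LP (LK LD1_c0 LD2_c17 LD3_c19)) = (LP (LK LD1_c0 LD2_c7 LD3_c41)) :=
  Lre_e IH (LK LD1_c0 LD2_c17 LD3_c19) (LK LD1_c0 LD2_c7 LD3_c41) Lrfl Lrfl
theorem f26789 : Led Lsl_et (LP (LK LD1_c0 LD2_c29 LD3_c38)) = (LP (LK LD1_c0 LD2_c13 LD3_c1)) :=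
  Lre_e IH (LK LD1_c0 LD2_c29 LD3_c38) (LK LD1_c0 LD2_c13 LD3_c1) Lrfl Lrfl
theorem f26790 : Led Lsl_dt (LP (LK LD1_c0 LD2_c29 LD3_c38)) = (LP (LK LD1_c1 LD2_c4 LD3_c47)) :=
  Lre_d IH (LK LD1_c0 LD2_c29 LD3_c38) (LK LD1_c1 LD2_c4 LD3_c47) Lrfl Lrfl
theorem f71419 : Led Lsl_gt (LP (LK LD1_c1 LD2_c4 LD3_c47)) = (LP (LK LD1_c2 LD2_c15 LD3_c28)) :=
  Lre_g IH (LK LD1_c1 LD2_c4 LD3_c47) (LK LD1_c2 LD2_c15 LD3_c28) Lrfl Lrfl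
theorem f20738 : Led Lsl_ct (LP (LK LD1_c1 LD2_c3 LD3_c19)) = (LP (LK LD1_c2 LD2_c12 LD3_c36)) :=
  Lre_c IH (LK LD1_c1 LD2_c3 LD3_c19) (LK LD1_c2 LD2_c12 LD3_c36) Lrfl Lrfl
theorem f26654 : Led Lsl_ct (LP (LK LD1_c2 LD2_c58 LD3_c10)) = (LP (LK LD1_c1 LD2_c24 LD3_c45)) :=
  Lre_c IH (LK LD1_c2 LD2_c58 LD3_c10) (LK LD1_c1 LD2_c24 LD3_c45) Lrfl Lrfl
theorem f26655 : Led Lsl_et (LP (LK LD1_c2 LD2_c12 LD3_c36)) = (LP (LK LD1_c2 LD2_c58 LD3_c10)) :=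
  Lgr Lrot158 (Lpe (f20738 IH) (Lpr_ef (K9.f26651 IH) (Lpe (f26654 IH) (Lpn (LP (LK LD1_c2 LD2_c58 LD3_c10))))))
theorem f175415 : Led Lsl_df (LP (LK LD1_c2 LD2_c15 LD3_c28)) = (LP (LK LD1_c2 LD2_c12 LD3_c36)) :=
  Lgr Lrot168 (Lpe (f71419 IH) (Lpe (f26790 IH) (Lpr_et (f26789 IH) (Lpe (K0.f20543 IH) (Lpe (f23045 IH) (Lpr_dt (K0.f9347 IH) (Lpe (K9.f9383 IH) (Lpr_df (K9.f175393 IH) (Lpe (K9.f175413 IH) (Lpe (f26655 IH) (Lpn (LP (LK LD1_c2 LD2_c12 LD3_c36)))))))))))))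
theorem f175499 : Led Lsl_dt (LP (LK LD1_c2 LD2_c15 LD3_c28)) = (LP (LK LD1_c2 LD2_c12 LD3_c36)) :=
  Lgr Lrot42 (Lpr_df (f175415 IH) (Lpn (LP (LK LD1_c2 LD2_c12 LD3_c36))))
theorem f164263 : Led Lsl_ct (LP (LK LD1_c1 LD2_c4 LD3_c31)) = (LP (LK LD1_c0 LD2_c29 LD3_c31)) :=
  Lre_c IH (LK LD1_c1 LD2_c4 LD3_c31) (LK LD1_c0 LD2_c29 LD3_c31) Lrfl Lrfl
theorem f175503 : Led Lsl_gf (LP (LK LD1_c0 LD2_c29 LD3_c38)) = (LP (LK LD1_c1 LD2_c4 LD3_c31)) :=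
  Lgr Lrot144 (Lpr_dt (f26790 IH) (Lpr_gt (f71419 IH) (Lpr_dt (f175499 IH) (Lpe (f20738 IH) (Lpr_df (K9.f26625 IH) (Lpe (K9.f20321 IH) (Lpr_df (K9.f164259 IH) (Lpe (K9.f20323 IH) (Lpe (f164263 IH) (Lpn (LP (LK LD1_c1 LD2_c4 LD3_c31))))))))))))
theorem f71441 : Led Lsl_af (LP (LK LD1_c0 LD2_c29 LD3_c38)) = (LP (LK LD1_c0 LD2_c17 LD3_c10)) :=
  Lgr Lrot0 (Lpr_at (K2.f71438 IH) (Lpn (LP (LK LD1_c0 LD2_c17 LD3_c10))))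
theorem f71467 : Led Lsl_ft (LP (LK LD1_c0 LD2_c38 LD3_c35)) = (LP (LK LD1_c0 LD2_c17 LD3_c10)) :=
  Lre_f IH (LK LD1_c0 LD2_c38 LD3_c35) (LK LD1_c0 LD2_c17 LD3_c10) Lrfl Lrfl
theorem f175509 : Led Lsl_gt (LP (LK LD1_c0 LD2_c38 LD3_c35)) = (LP (LK LD1_c1 LD2_c4 LD3_c31)) :=
  Lgr Lrot5 (Lpr_ft (f71467 IH) (Lpe (f71441 IH) (Lpr_gf (f175503 IH) (Lpn (LP (LK LD1_c1 LD2_c4 LD3_c31))))))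
theorem f71294 : Led Lsl_dt (LP (LK LD1_c1 LD2_c4 LD3_c48)) = (LP (LK LD1_c2 LD2_c15 LD3_c29)) :=
  Lre_d IH (LK LD1_c1 LD2_c4 LD3_c48) (LK LD1_c2 LD2_c15 LD3_c29) Lrfl Lrfl
theorem f71412 : Led Lsl_dt (LP (LK LD1_c1 LD2_c23 LD3_c26)) = (LP (LK LD1_c0 LD2_c38 LD3_c35)) :=
  Lre_d IH (LK LD1_c1 LD2_c23 LD3_c26) (LK LD1_c0 LD2_c38 LD3_c35) Lrfl Lrfl
theorem f71413 : Led Lsl_af (LP (LK LD1_c1 LD2_c4 LD3_c48)) = (LP (LK LD1_c0 LD2_c38 LD3_c35)) :=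
  Lgr Lrot117 (Lpr_dt (f71294 IH) (Lpr_at (K2.f71402 IH) (Lpr_dt (f71412 IH) (Lpn (LP (LK LD1_c0 LD2_c38 LD3_c35))))))
theorem f71473 : Led Lsl_cf (LP (LK LD1_c0 LD2_c38 LD3_c35)) = (LP (LK LD1_c0 LD2_c32 LD3_c50)) :=
  Lgr Lrot1 (Lpe (f71413 IH) (Lpr_ct (K2.f71465 IH) (Lpe (K1.f37708 IH) (Lpn (LP (LK LD1_c0 LD2_c32 LD3_c50))))))
theorem f27196 : Led Lsl_gt (LP (LK LD1_c0 LD2_c17 LD3_c56)) = (LP (LK LD1_c0 LD2_c39 LD3_c55)) :=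
  Lre_g IH (LK LD1_c0 LD2_c17 LD3_c56) (LK LD1_c0 LD2_c39 LD3_c55) Lrfl Lrfl
theorem f37715 : Led Lsl_gf (LP (LK LD1_c0 LD2_c32 LD3_c50)) = (LP (LK LD1_c0 LD2_c39 LD3_c55)) :=
  Lgr Lrot76 (Lpr_af (K1.f37708 IH) (Lpe (K1.f27232 IH) (Lpr_gt (f27196 IH) (Lpn (LP (LK LD1_c0 LD2_c39 LD3_c55))))))
theorem f27199 : Led Lsl_dt (LP (LK LD1_c0 LD2_c39 LD3_c55)) = (LP (LK LD1_c1 LD2_c26 LD3_c22)) :=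
  Lre_d IH (LK LD1_c0 LD2_c39 LD3_c55) (LK LD1_c1 LD2_c26 LD3_c22) Lrfl Lrfl
theorem f55617 : Led Lsl_et (LP (LK LD1_c0 LD2_c57 LD3_c32)) = (LP (LK LD1_c0 LD2_c26 LD3_c9)) :=
  Lre_e IH (LK LD1_c0 LD2_c57 LD3_c32) (LK LD1_c0 LD2_c26 LD3_c9) Lrfl Lrfl
theorem f55618 : Led Lsl_dt (LP (LK LD1_c0 LD2_c57 LD3_c32)) = (LP (LK LD1_c0 LD2_c54 LD3_c50)) :=
  Lre_d IH (LK LD1_c0 LD2_c57 LD3_c32) (LK LD1_c0 LD2_c54 LD3_c50) Lrfl Lrfl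
theorem f56042 : Led Lsl_gf (LP (LK LD1_c0 LD2_c54 LD3_c50)) = (LP (LK LD1_c1 LD2_c26 LD3_c22)) :=
  Lgr Lrot134 (Lpe (f55618 IH) (Lpr_et (f55617 IH) (Lpr_gt (K9.f53167 IH) (Lpr_ef (K1.f56035 IH) (Lpr_dt (K1.f194 IH) (Lpr_gt (K0.f27186 IH) (Lpe (K0.f20609 IH) (Lpr_et (K1.f27195 IH) (Lpr_gt (f27196 IH) (Lpr_dt (f27199 IH) (Lpn (LP (LK LD1_c1 LD2_c26 LD3_c22)))))))))))))
theorem f56044 : Led Lsl_ct (LP (LK LD1_c0 LD2_c54 LD3_c50)) = (LP (LK LD1_c1 LD2_c56 LD3_c10)) :=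
  Lre_c IH (LK LD1_c0 LD2_c54 LD3_c50) (LK LD1_c1 LD2_c56 LD3_c10) Lrfl Lrfl
theorem f20790 : Led Lsl_ct (LP (LK LD1_c2 LD2_c12 LD3_c35)) = (LP (LK LD1_c1 LD2_c3 LD3_c18)) :=
  Lre_c IH (LK LD1_c2 LD2_c12 LD3_c35) (LK LD1_c1 LD2_c3 LD3_c18) Lrfl Lrfl
theorem f175513 : Led Lsl_gt (LP (LK LD1_c1 LD2_c56 LD3_c10)) = (LP (LK LD1_c2 LD2_c12 LD3_c35)) :=
  Lgr Lrot150 (Lpe (f56044 IH) (Lpr_gf (f56042 IH) (Lpe (f27199 IH) (Lpe (f37715 IH) (Lpe (f71473 IH) (Lpr_gt (f175509 IH) (Lpr_ct (f164263 IH) (Lpr_df (K9.f164267 IH) (Lpe (f20790 IH) (Lpn (LP (LK LD1_c2 LD2_c12 LD3_c35))))))))))))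
theorem f174599 : Led Lsl_et (LP (LK LD1_c0 LD2_c54 LD3_c49)) = (LP (LK LD1_c1 LD2_c56 LD3_c10)) :=
  Lre_e IH (LK LD1_c0 LD2_c54 LD3_c49) (LK LD1_c1 LD2_c56 LD3_c10) Lrfl Lrfl
theorem f26793 : Led Lsl_et (LP (LK LD1_c1 LD2_c3 LD3_c44)) = (LP (LK LD1_c0 LD2_c29 LD3_c5)) :=
  Lre_e IH (LK LD1_c1 LD2_c3 LD3_c44) (LK LD1_c0 LD2_c29 LD3_c5) Lrfl Lrfl
theorem f26794 : Led Lsl_dt (LP (LK LD1_c1 LD2_c3 LD3_c44)) = (LP (LK LD1_c2 LD2_c13 LD3_c22)) :=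
  Lre_d IH (LK LD1_c1 LD2_c3 LD3_c44) (LK LD1_c2 LD2_c13 LD3_c22) Lrfl Lrfl
theorem f20787 : Led Lsl_ef (LP (LK LD1_c0 LD2_c29 LD3_c15)) = (LP (LK LD1_c1 LD2_c3 LD3_c18)) :=
  Lgr Lrot88 (Lpr_et (K9.f20782 IH) (Lpn (LP (LK LD1_c1 LD2_c3 LD3_c18))))
theorem f20789 : Led Lsl_ct (LP (LK LD1_c0 LD2_c29 LD3_c15)) = (LP (LK LD1_c1 LD2_c4 LD3_c2)) :=
  Lre_c IH (LK LD1_c0 LD2_c29 LD3_c15) (LK LD1_c1 LD2_c4 LD3_c2) Lrfl Lrfl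
theorem f20791 : Led Lsl_et (LP (LK LD1_c1 LD2_c4 LD3_c2)) = (LP (LK LD1_c2 LD2_c12 LD3_c35)) :=
  Lgr Lrot158 (Lpe (f20789 IH) (Lpr_ef (f20787 IH) (Lpe (f20790 IH) (Lpn (LP (LK LD1_c2 LD2_c12 LD3_c35))))))
theorem f20798 : Led Lsl_dt (LP (LK LD1_c1 LD2_c4 LD3_c2)) = (LP (LK LD1_c2 LD2_c14 LD3_c1)) :=
  Lre_d IH (LK LD1_c1 LD2_c4 LD3_c2) (LK LD1_c2 LD2_c14 LD3_c1) Lrfl Lrfl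
theorem f175515 : Led Lsl_gf (LP (LK LD1_c2 LD2_c13 LD3_c22)) = (LP (LK LD1_c2 LD2_c14 LD3_c1)) :=
  Lgr Lrot145 (Lpe (f26794 IH) (Lpr_et (f26793 IH) (Lpr_gt (K9.f26792 IH) (Lpr_dt (K9.f174529 IH) (Lpr_gt (K9.f174530 IH) (Lpe (K9.f174597 IH) (Lpr_et (f174599 IH) (Lpr_gt (f175513 IH) (Lpe (f20791 IH) (Lpr_dt (f20798 IH) (Lpn (LP (LK LD1_c2 LD2_c14 LD3_c1)))))))))))))
theorem f26791 : Led Lsl_et (LP (LK LD1_c0 LD2_c5 LD3_c57)) = (LP (LK LD1_c0 LD2_c12 LD3_c51)) :=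
  Lre_e IH (LK LD1_c0 LD2_c5 LD3_c57) (LK LD1_c0 LD2_c12 LD3_c51) Lrfl Lrfl
theorem f26786 : Led Lsl_et (LP (LK LD1_c0 LD2_c13 LD3_c21)) = (LP (LK LD1_c0 LD2_c30 LD3_c5)) :=
  Lre_e IH (LK LD1_c0 LD2_c13 LD3_c21) (LK LD1_c0 LD2_c30 LD3_c5) Lrfl Lrfl
theorem f175527 : Led Lsl_gt (LP (LK LD1_c0 LD2_c30 LD3_c5)) = (LP (LK LD1_c1 LD2_c4 LD3_c2)) :=
  Lgr Lrot137 (Lpe (f26786 IH) (Lpe (K0.f26762 IH) (Lpe (K0.f20082 IH) (Lpe (K0.f23009 IH) (Lpr_et (f26791 IH) (Lpe (K9.f26792 IH) (Lpe (f26793 IH) (Lpr_dt (f26794 IH) (Lpr_gf (f175515 IH) (Lpe (f20798 IH) (Lpn (LP (LK LD1_c1 LD2_c4 LD3_c2)))))))))))))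
theorem f25926 : Led Lsl_ct (LP (LK LD1_c0 LD2_c30 LD3_c5)) = (LP (LK LD1_c0 LD2_c13 LD3_c22)) :=
  Lre_c IH (LK LD1_c0 LD2_c30 LD3_c5) (LK LD1_c0 LD2_c13 LD3_c22) Lrfl Lrfl
theorem f25948 : Led Lsl_gt (LP (LK LD1_c0 LD2_c13 LD3_c22)) = (LP (LK LD1_c0 LD2_c30 LD3_c6)) :=
  Lre_g IH (LK LD1_c0 LD2_c13 LD3_c22) (LK LD1_c0 LD2_c30 LD3_c6) Lrfl Lrfl
theorem f25987 : Led Lsl_dt (LP (LK LD1_c0 LD2_c30 LD3_c6)) = (LP (LK LD1_c1 LD2_c5 LD3_c53)) :=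
  Lre_d IH (LK LD1_c0 LD2_c30 LD3_c6) (LK LD1_c1 LD2_c5 LD3_c53) Lrfl Lrfl
theorem f175517 : Led Lsl_dt (LP (LK LD1_c2 LD2_c13 LD3_c22)) = (LP (LK LD1_c1 LD2_c3 LD3_c44)) :=
  Lre_d IH (LK LD1_c2 LD2_c13 LD3_c22) (LK LD1_c1 LD2_c3 LD3_c44) Lrfl Lrfl
theorem f28385 : Led Lsl_et (LP (LK LD1_c0 LD2_c24 LD3_c52)) = (LP (LK LD1_c0 LD2_c54 LD3_c57)) :=
  Lre_e IH (LK LD1_c0 LD2_c24 LD3_c52) (LK LD1_c0 LD2_c54 LD3_c57) Lrfl Lrfl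
theorem f174527 : Led Lsl_ct (LP (LK LD1_c0 LD2_c54 LD3_c57)) = (LP (LK LD1_c1 LD2_c3 LD3_c44)) :=
  Lgr Lrot15 (Lpe (f28385 IH) (Lpr_cf (K9.f174518 IH) (Lpe (f26793 IH) (Lpn (LP (LK LD1_c1 LD2_c3 LD3_c44))))))
theorem f28384 : Led Lsl_dt (LP (LK LD1_c0 LD2_c26 LD3_c4)) = (LP (LK LD1_c0 LD2_c11 LD3_c35)) :=
  Lre_d IH (LK LD1_c0 LD2_c26 LD3_c4) (LK LD1_c0 LD2_c11 LD3_c35) Lrfl Lrfl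
theorem f28362 : Led Lsl_et (LP (LK LD1_c0 LD2_c57 LD3_c29)) = (LP (LK LD1_c0 LD2_c26 LD3_c4)) :=
  Lre_e IH (LK LD1_c0 LD2_c57 LD3_c29) (LK LD1_c0 LD2_c26 LD3_c4) Lrfl Lrfl
theorem f28386 : Led Lsl_df (LP (LK LD1_c0 LD2_c57 LD3_c29)) = (LP (LK LD1_c0 LD2_c54 LD3_c57)) :=
  Lgr Lrot70 (Lpr_et (f28362 IH) (Lpr_dt (f28384 IH) (Lpr_et (K9.f28351 IH) (Lpr_dt (K9.f28327 IH) (Lpr_et (f28385 IH) (Lpn (LP (LK LD1_c0 LD2_c54 LD3_c57))))))))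
theorem f28395 : Led Lsl_dt (LP (LK LD1_c0 LD2_c57 LD3_c29)) = (LP (LK LD1_c0 LD2_c54 LD3_c57)) :=
  Lgr Lrot42 (Lpr_df (f28386 IH) (Lpn (LP (LK LD1_c0 LD2_c54 LD3_c57))))
theorem f175530 : Led Lsl_gt (LP (LK LD1_c1 LD2_c5 LD3_c53)) = (LP (LK LD1_c0 LD2_c57 LD3_c29)) :=
  Lgr Lrot49 (Lpe (f25987 IH) (Lpe (f25948 IH) (Lpe (f25926 IH) (Lpr_gt (f175527 IH) (Lpr_dt (f20798 IH) (Lpe (f175515 IH) (Lpr_dt (f175517 IH) (Lpe (f174527 IH) (Lpe (f28395 IH) (Lpn (LP (LK LD1_c0 LD2_c57 LD3_c29))))))))))))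
theorem f161788 : Led Lsl_et (LP (LK LD1_c0 LD2_c30 LD3_c6)) = (LP (LK LD1_c1 LD2_c5 LD3_c54)) :=
  Lre_e IH (LK LD1_c0 LD2_c30 LD3_c6) (LK LD1_c1 LD2_c5 LD3_c54) Lrfl Lrfl
theorem f28399 : Led Lsl_et (LP (LK LD1_c0 LD2_c54 LD3_c57)) = (LP (LK LD1_c0 LD2_c24 LD3_c52)) :=
  Lre_e IH (LK LD1_c0 LD2_c54 LD3_c57) (LK LD1_c0 LD2_c24 LD3_c52) Lrfl Lrfl
theorem f27245 : Led Lsl_et (LP (LK LD1_c0 LD2_c24 LD3_c46)) = (LP (LK LD1_c0 LD2_c54 LD3_c50)) :=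
  Lre_e IH (LK LD1_c0 LD2_c24 LD3_c46) (LK LD1_c0 LD2_c54 LD3_c50) Lrfl Lrfl
theorem f175543 : Led Lsl_gf (LP (LK LD1_c1 LD2_c5 LD3_c54)) = (LP (LK LD1_c0 LD2_c54 LD3_c50)) :=
  Lgr Lrot141 (Lpe (f161788 IH) (Lpr_dt (f25987 IH) (Lpr_gt (f175530 IH) (Lpr_df (f28386 IH) (Lpr_et (f28399 IH) (Lpr_gt (K9.f28326 IH) (Lpr_dt (K1.f27242 IH) (Lpr_gt (K9.f27243 IH) (Lpe (K9.f27244 IH) (Lpr_et (f27245 IH) (Lpn (LP (LK LD1_c0 LD2_c54 LD3_c50)))))))))))))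
theorem f175545 : Led Lsl_dt (LP (LK LD1_c1 LD2_c5 LD3_c54)) = (LP (LK LD1_c0 LD2_c39 LD3_c56)) :=
  Lgr Lrot171 (Lpr_gf (f175543 IH) (Lpe (f27245 IH) (Lpr_dt (K9.f27244 IH) (Lpe (K9.f27243 IH) (Lpe (K1.f27242 IH) (Lpr_et (K9.f27241 IH) (Lpr_gf (K0.f27193 IH) (Lpe (K1.f27204 IH) (Lpe (K1.f27205 IH) (Lpe (f27236 IH) (Lpn (LP (LK LD1_c0 LD2_c39 LD3_c56)))))))))))))
theorem f25996 : Led Lsl_dt (LP (LK LD1_c1 LD2_c5 LD3_c53)) = (LP (LK LD1_c0 LD2_c30 LD3_c6)) :=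
  Lre_d IH (LK LD1_c1 LD2_c5 LD3_c53) (LK LD1_c0 LD2_c30 LD3_c6) Lrfl Lrfl
theorem f161781 : Led Lsl_gt (LP (LK LD1_c1 LD2_c10 LD3_c28)) = (LP (LK LD1_c0 LD2_c32 LD3_c39)) :=
  Lre_g IH (LK LD1_c1 LD2_c10 LD3_c28) (LK LD1_c0 LD2_c32 LD3_c39) Lrfl Lrfl
theorem f25930 : Led Lsl_dt (LP (LK LD1_c0 LD2_c8 LD3_c29)) = (LP (LK LD1_c0 LD2_c13 LD3_c22)) :=
  Lgr Lrot42 (Lpr_df (K1.f25919 IH) (Lpn (LP (LK LD1_c0 LD2_c13 LD3_c22))))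
theorem f161783 : Led Lsl_ef (LP (LK LD1_c1 LD2_c10 LD3_c28)) = (LP (LK LD1_c1 LD2_c5 LD3_c53)) :=
  Lgr Lrot167 (Lpr_gt (f161781 IH) (Lpr_dt (K9.f161773 IH) (Lpr_gt (K9.f60475 IH) (Lpr_df (K1.f60721 IH) (Lpr_et (K1.f59120 IH) (Lpr_gt (K2.f59720 IH) (Lpe (K1.f25916 IH) (Lpr_dt (f25930 IH) (Lpr_gt (f25948 IH) (Lpe (f25996 IH) (Lpn (LP (LK LD1_c1 LD2_c5 LD3_c53)))))))))))))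
theorem f161786 : Led Lsl_et (LP (LK LD1_c1 LD2_c10 LD3_c28)) = (LP (LK LD1_c1 LD2_c5 LD3_c53)) :=
  Lgr Lrot87 (Lpr_ef (f161783 IH) (Lpn (LP (LK LD1_c1 LD2_c5 LD3_c53))))
theorem f175549 : Led Lsl_et (LP (LK LD1_c0 LD2_c39 LD3_c56)) = (LP (LK LD1_c1 LD2_c26 LD3_c23)) :=
  Lre_e IH (LK LD1_c0 LD2_c39 LD3_c56) (LK LD1_c1 LD2_c26 LD3_c23) Lrfl Lrfl
theorem f175550 : Led Lsl_df (LP (LK LD1_c1 LD2_c10 LD3_c28)) = (LP (LK LD1_c1 LD2_c26 LD3_c23)) :=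
  Lgr Lrot70 (Lpr_et (f161786 IH) (Lpr_dt (f25996 IH) (Lpr_et (f161788 IH) (Lpr_dt (f175545 IH) (Lpr_et (f175549 IH) (Lpn (LP (LK LD1_c1 LD2_c26 LD3_c23))))))))
theorem f180264 : Led Lsl_ef (LP (LK LD1_c0 LD2_c58 LD3_c51)) = (LP (LK LD1_c0 LD2_c40 LD3_c55)) :=
  Lgr Lrot167 (Lpr_gt (f180257 IH) (Lpr_dt (K9.f31452 IH) (Lpe (K9.f31677 IH) (Lpe (K1.f31656 IH) (Lpe (K1.f37717 IH) (Lpr_gt (f37710 IH) (Lpe (f27238 IH) (Lpe (f175550 IH) (Lpr_gt (f161781 IH) (Lpr_df (K9.f161776 IH) (Lpn (LP (LK LD1_c0 LD2_c40 LD3_c55)))))))))))))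
theorem f170299 : Led Lsl_df (LP (LK LD1_c0 LD2_c27 LD3_c39)) = (LP (LK LD1_c0 LD2_c24 LD3_c51)) :=
  Lgr Lrot38 (Lpr_dt (K9.f170297 IH) (Lpn (LP (LK LD1_c0 LD2_c24 LD3_c51))))
theorem f170301 : Led Lsl_et (LP (LK LD1_c0 LD2_c24 LD3_c51)) = (LP (LK LD1_c0 LD2_c54 LD3_c55)) :=
  Lre_e IH (LK LD1_c0 LD2_c24 LD3_c51) (LK LD1_c0 LD2_c54 LD3_c55) Lrfl Lrfl
theorem f180266 : Led Lsl_gf (LP (LK LD1_c1 LD2_c26 LD3_c23)) = (LP (LK LD1_c0 LD2_c54 LD3_c55)) :=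
  Lgr Lrot138 (Lpe (f175550 IH) (Lpr_gt (f161781 IH) (Lpr_df (K9.f161776 IH) (Lpe (f180264 IH) (Lpr_gt (f180257 IH) (Lpe (K9.f180255 IH) (Lpr_dt (K9.f170303 IH) (Lpr_gt (K9.f170296 IH) (Lpr_df (f170299 IH) (Lpr_et (f170301 IH) (Lpn (LP (LK LD1_c0 LD2_c54 LD3_c55)))))))))))))
theorem f175547 : Led Lsl_df (LP (LK LD1_c1 LD2_c5 LD3_c54)) = (LP (LK LD1_c0 LD2_c39 LD3_c56)) :=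
  Lgr Lrot38 (Lpr_dt (f175545 IH) (Lpn (LP (LK LD1_c0 LD2_c39 LD3_c56))))
theorem f179878 : Led Lsl_et (LP (LK LD1_c0 LD2_c32 LD3_c32)) = (LP (LK LD1_c0 LD2_c14 LD3_c34)) :=
  Lre_e IH (LK LD1_c0 LD2_c32 LD3_c32) (LK LD1_c0 LD2_c14 LD3_c34) Lrfl Lrfl
theorem f179891 : Led Lsl_et (LP (LK LD1_c0 LD2_c25 LD3_c55)) = (LP (LK LD1_c0 LD2_c57 LD3_c5)) :=
  Lre_e IH (LK LD1_c0 LD2_c25 LD3_c55) (LK LD1_c0 LD2_c57 LD3_c5) Lrfl Lrfl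
theorem f179892 : Led Lsl_dt (LP (LK LD1_c0 LD2_c57 LD3_c5)) = (LP (LK LD1_c0 LD2_c32 LD3_c32)) :=
  Lgr Lrot77 (Lpe (f179891 IH) (Lpr_df (K9.f179881 IH) (Lpe (K9.f175070 IH) (Lpe (K9.f172546 IH) (Lpe (f179878 IH) (Lpn (LP (LK LD1_c0 LD2_c32 LD3_c32))))))))
theorem f179897 : Led Lsl_df (LP (LK LD1_c0 LD2_c57 LD3_c5)) = (LP (LK LD1_c0 LD2_c32 LD3_c32)) :=
  Lgr Lrot38 (Lpr_dt (f179892 IH) (Lpn (LP (LK LD1_c0 LD2_c32 LD3_c32))))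
theorem f180269 : Led Lsl_gt (LP (LK LD1_c1 LD2_c5 LD3_c54)) = (LP (LK LD1_c0 LD2_c57 LD3_c5)) :=
  Lgr Lrot112 (Lpr_df (f175547 IH) (Lpr_et (f175549 IH) (Lpr_gf (f180266 IH) (Lpe (f170301 IH) (Lpe (f170299 IH) (Lpe (K9.f170296 IH) (Lpe (K9.f170303 IH) (Lpr_gf (K9.f179854 IH) (Lpe (f179878 IH) (Lpe (f179897 IH) (Lpn (LP (LK LD1_c0 LD2_c57 LD3_c5)))))))))))))
theorem f164269 : Led Lsl_dt (LP (LK LD1_c1 LD2_c4 LD3_c31)) = (LP (LK LD1_c2 LD2_c14 LD3_c48)) :=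
  Lre_d IH (LK LD1_c1 LD2_c4 LD3_c31) (LK LD1_c2 LD2_c14 LD3_c48) Lrfl Lrfl
theorem f179899 : Led Lsl_ct (LP (LK LD1_c1 LD2_c10 LD3_c19)) = (LP (LK LD1_c0 LD2_c32 LD3_c32)) :=
  Lre_c IH (LK LD1_c1 LD2_c10 LD3_c19) (LK LD1_c0 LD2_c32 LD3_c32) Lrfl Lrfl
theorem f172580 : Led Lsl_dt (LP (LK LD1_c2 LD2_c26 LD3_c12)) = (LP (LK LD1_c1 LD2_c10 LD3_c19)) :=
  Lre_d IH (LK LD1_c2 LD2_c26 LD3_c12) (LK LD1_c1 LD2_c10 LD3_c19) Lrfl Lrfl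
theorem f180271 : Led Lsl_gt (LP (LK LD1_c2 LD2_c14 LD3_c48)) = (LP (LK LD1_c2 LD2_c26 LD3_c12)) :=
  Lgr Lrot49 (Lpe (f164269 IH) (Lpe (f175509 IH) (Lpr_cf (f71473 IH) (Lpr_gt (f37710 IH) (Lpe (f175547 IH) (Lpr_gt (f180269 IH) (Lpr_dt (f179892 IH) (Lpe (f179899 IH) (Lpe (f172580 IH) (Lpn (LP (LK LD1_c2 LD2_c26 LD3_c12))))))))))))
theorem f35011 : Led Lsl_dt (LP (LK LD1_c1 LD2_c4 LD3_c39)) = (LP (LK LD1_c2 LD2_c15 LD3_c4)) :=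
  Lre_d IH (LK LD1_c1 LD2_c4 LD3_c39) (LK LD1_c2 LD2_c15 LD3_c4) Lrfl Lrfl
theorem f172550 : Led Lsl_dt (LP (LK LD1_c1 LD2_c10 LD3_c19)) = (LP (LK LD1_c2 LD2_c26 LD3_c12)) :=
  Lre_d IH (LK LD1_c1 LD2_c10 LD3_c19) (LK LD1_c2 LD2_c26 LD3_c12) Lrfl Lrfl
theorem f172585 : Led Lsl_et (LP (LK LD1_c1 LD2_c10 LD3_c19)) = (LP (LK LD1_c0 LD2_c32 LD3_c31)) :=
  Lre_e IH (LK LD1_c1 LD2_c10 LD3_c19) (LK LD1_c0 LD2_c32 LD3_c31) Lrfl Lrfl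
theorem f180278 : Led Lsl_gf (LP (LK LD1_c0 LD2_c36 LD3_c14)) = (LP (LK LD1_c0 LD2_c32 LD3_c31)) :=
  Lgr Lrot141 (Lpr_ef (K9.f164727 IH) (Lpr_dt (K9.f164741 IH) (Lpe (K9.f166171 IH) (Lpe (f35011 IH) (Lpr_et (K2.f82194 IH) (Lpr_gt (f175509 IH) (Lpr_dt (f164269 IH) (Lpr_gt (f180271 IH) (Lpe (f172550 IH) (Lpr_et (f172585 IH) (Lpn (LP (LK LD1_c0 LD2_c32 LD3_c31)))))))))))))
theorem f173367 : Led Lsl_dt (LP (LK LD1_c1 LD2_c3 LD3_c40)) = (LP (LK LD1_c0 LD2_c29 LD3_c4)) :=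
  Lre_d IH (LK LD1_c1 LD2_c3 LD3_c40) (LK LD1_c0 LD2_c29 LD3_c4) Lrfl Lrfl
theorem f180280 : Led Lsl_gt (LP (LK LD1_c1 LD2_c18 LD3_c38)) = (LP (LK LD1_c1 LD2_c3 LD3_c40)) :=
  Lgr Lrot49 (Lpe (K9.f164733 IH) (Lpr_gf (f180278 IH) (Lpe (K9.f172425 IH) (Lpe (K9.f179854 IH) (Lpr_dt (K9.f170303 IH) (Lpr_gt (K9.f170296 IH) (Lpr_dt (K9.f170297 IH) (Lpr_cf (K9.f173360 IH) (Lpe (f173367 IH) (Lpn (LP (LK LD1_c1 LD2_c3 LD3_c40))))))))))))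
theorem f26944 : Led Lsl_dt (LP (LK LD1_c0 LD2_c29 LD3_c4)) = (LP (LK LD1_c1 LD2_c3 LD3_c40)) :=
  Lre_d IH (LK LD1_c0 LD2_c29 LD3_c4) (LK LD1_c1 LD2_c3 LD3_c40) Lrfl Lrfl
theorem f27016 : Led Lsl_et (LP (LK LD1_c0 LD2_c29 LD3_c4)) = (LP (LK LD1_c1 LD2_c3 LD3_c41)) :=
  Lre_e IH (LK LD1_c0 LD2_c29 LD3_c4) (LK LD1_c1 LD2_c3 LD3_c41) Lrfl Lrfl
theorem f164264 : Led Lsl_ct (LP (LK LD1_c0 LD2_c29 LD3_c31)) = (LP (LK LD1_c1 LD2_c4 LD3_c31)) :=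
  Lre_c IH (LK LD1_c0 LD2_c29 LD3_c31) (LK LD1_c1 LD2_c4 LD3_c31) Lrfl Lrfl
theorem f60211 : Led Lsl_ct (LP (LK LD1_c2 LD2_c12 LD3_c58)) = (LP (LK LD1_c1 LD2_c3 LD3_c31)) :=
  Lre_c IH (LK LD1_c2 LD2_c12 LD3_c58) (LK LD1_c1 LD2_c3 LD3_c31) Lrfl Lrfl
theorem f164280 : Led Lsl_et (LP (LK LD1_c1 LD2_c4 LD3_c31)) = (LP (LK LD1_c2 LD2_c12 LD3_c58)) :=
  Lgr Lrot158 (Lpe (f164264 IH) (Lpr_ef (K9.f164278 IH) (Lpe (f60211 IH) (Lpn (LP (LK LD1_c2 LD2_c12 LD3_c58))))))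
theorem f180288 : Led Lsl_gt (LP (LK LD1_c1 LD2_c3 LD3_c41)) = (LP (LK LD1_c2 LD2_c12 LD3_c58)) :=
  Lgr Lrot131 (Lpe (f27016 IH) (Lpr_dt (f26944 IH) (Lpe (f180280 IH) (Lpe (K9.f164733 IH) (Lpr_gf (f180278 IH) (Lpe (f172585 IH) (Lpr_dt (f172550 IH) (Lpe (f180271 IH) (Lpe (f164269 IH) (Lpr_et (f164280 IH) (Lpn (LP (LK LD1_c2 LD2_c12 LD3_c58)))))))))))))
theorem f164751 : Led Lsl_gt (LP (LK LD1_c1 LD2_c12 LD3_c8)) = (LP (LK LD1_c0 LD2_c33 LD3_c23)) :=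
  Lre_g IH (LK LD1_c1 LD2_c12 LD3_c8) (LK LD1_c0 LD2_c33 LD3_c23) Lrfl Lrfl
theorem f60207 : Led Lsl_dt (LP (LK LD1_c2 LD2_c12 LD3_c58)) = (LP (LK LD1_c4 LD2_c31 LD3_c54)) :=
  Lre_d IH (LK LD1_c2 LD2_c12 LD3_c58) (LK LD1_c4 LD2_c31 LD3_c54) Lrfl Lrfl
theorem f101440 : Led Lsl_et (LP (LK LD1_c0 LD2_c54 LD3_c55)) = (LP (LK LD1_c0 LD2_c24 LD3_c51)) :=
  Lre_e IH (LK LD1_c0 LD2_c54 LD3_c55) (LK LD1_c0 LD2_c24 LD3_c51) Lrfl Lrfl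
theorem f173362 : Led Lsl_cf (LP (LK LD1_c0 LD2_c54 LD3_c55)) = (LP (LK LD1_c1 LD2_c3 LD3_c41)) :=
  Lgr Lrot39 (Lpr_et (f101440 IH) (Lpr_ct (K9.f173206 IH) (Lpr_et (f27016 IH) (Lpn (LP (LK LD1_c1 LD2_c3 LD3_c41))))))
theorem f59586 : Led Lsl_et (LP (LK LD1_c0 LD2_c40 LD3_c31)) = (LP (LK LD1_c0 LD2_c18 LD3_c8)) :=
  Lre_e IH (LK LD1_c0 LD2_c40 LD3_c31) (LK LD1_c0 LD2_c18 LD3_c8) Lrfl Lrfl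
theorem f59612 : Led Lsl_et (LP (LK LD1_c0 LD2_c18 LD3_c8)) = (LP (LK LD1_c0 LD2_c40 LD3_c31)) :=
  Lre_e IH (LK LD1_c0 LD2_c18 LD3_c8) (LK LD1_c0 LD2_c40 LD3_c31) Lrfl Lrfl
theorem f59613 : Led Lsl_df (LP (LK LD1_c0 LD2_c40 LD3_c31)) = (LP (LK LD1_c0 LD2_c40 LD3_c31)) :=
  Lgr Lrot70 (Lpr_et (f59586 IH) (Lpr_dt (K1.f59584 IH) (Lpr_et (K1.f59607 IH) (Lpr_dt (K1.f59581 IH) (Lpr_et (f59612 IH) (Lpn (LP (LK LD1_c0 LD2_c40 LD3_c31))))))))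
theorem f68603 : Led Lsl_gt (LP (LK LD1_c0 LD2_c37 LD3_c15)) = (LP (LK LD1_c1 LD2_c20 LD3_c37)) :=
  Lre_g IH (LK LD1_c0 LD2_c37 LD3_c15) (LK LD1_c1 LD2_c20 LD3_c37) Lrfl Lrfl
theorem f175823 : Led Lsl_dt (LP (LK LD1_c2 LD2_c28 LD3_c0)) = (LP (LK LD1_c1 LD2_c11 LD3_c9)) :=
  Lre_d IH (LK LD1_c2 LD2_c28 LD3_c0) (LK LD1_c1 LD2_c11 LD3_c9) Lrfl Lrfl
theorem f175827 : Led Lsl_ef (LP (LK LD1_c1 LD2_c20 LD3_c37)) = (LP (LK LD1_c2 LD2_c28 LD3_c0)) :=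
  Lgr Lrot17 (Lpe (f68603 IH) (Lpe (K1.f59594 IH) (Lpe (K1.f59591 IH) (Lpe (K0.f35435 IH) (Lpe (K1.f35444 IH) (Lpr_gf (K1.f59570 IH) (Lpe (f59586 IH) (Lpe (f59613 IH) (Lpr_gf (K9.f175814 IH) (Lpe (f175823 IH) (Lpn (LP (LK LD1_c2 LD2_c28 LD3_c0)))))))))))))
theorem f175834 : Led Lsl_et (LP (LK LD1_c1 LD2_c20 LD3_c37)) = (LP (LK LD1_c2 LD2_c28 LD3_c0)) :=
  Lgr Lrot87 (Lpr_ef (f175827 IH) (Lpn (LP (LK LD1_c2 LD2_c28 LD3_c0))))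
theorem f175288 : Led Lsl_bt (LP (LK LD1_c2 LD2_c28 LD3_c0)) = (LP (LK LD1_c1 LD2_c11 LD3_c10)) :=
  Lre_b IH (LK LD1_c2 LD2_c28 LD3_c0) (LK LD1_c1 LD2_c11 LD3_c10) Lrfl Lrfl
theorem f175839 : Led Lsl_bf (LP (LK LD1_c1 LD2_c20 LD3_c37)) = (LP (LK LD1_c0 LD2_c40 LD3_c54)) :=
  Lgr Lrot96 (Lpr_et (f175834 IH) (Lpr_bt (f175288 IH) (Lpr_et (K9.f175286 IH) (Lpn (LP (LK LD1_c0 LD2_c40 LD3_c54))))))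
theorem f60142 : Led Lsl_bt (LP (LK LD1_c0 LD2_c16 LD3_c38)) = (LP (LK LD1_c0 LD2_c37 LD3_c15)) :=
  Lre_b IH (LK LD1_c0 LD2_c16 LD3_c38) (LK LD1_c0 LD2_c37 LD3_c15) Lrfl Lrfl
theorem f59921 : Led Lsl_et (LP (LK LD1_c0 LD2_c39 LD3_c42)) = (LP (LK LD1_c1 LD2_c25 LD3_c60)) :=
  Lre_e IH (LK LD1_c0 LD2_c39 LD3_c42) (LK LD1_c1 LD2_c25 LD3_c60) Lrfl Lrfl
theorem f60159 : Led Lsl_gt (LP (LK LD1_c0 LD2_c37 LD3_c17)) = (LP (LK LD1_c1 LD2_c20 LD3_c44)) :=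
  Lre_g IH (LK LD1_c0 LD2_c37 LD3_c17) (LK LD1_c1 LD2_c20 LD3_c44) Lrfl Lrfl
theorem f175417 : Led Lsl_ef (LP (LK LD1_c1 LD2_c20 LD3_c44)) = (LP (LK LD1_c2 LD2_c28 LD3_c2)) :=
  Lgr Lrot17 (Lpe (f60159 IH) (Lpe (K1.f59877 IH) (Lpe (f59794 IH) (Lpr_gf (K1.f23007 IH) (Lpe (K0.f23023 IH) (Lpe (K0.f20543 IH) (Lpe (f23045 IH) (Lpr_dt (K0.f9347 IH) (Lpe (K9.f9383 IH) (Lpr_df (K9.f175393 IH) (Lpn (LP (LK LD1_c2 LD2_c28 LD3_c2)))))))))))))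
theorem f175419 : Led Lsl_gf (LP (LK LD1_c1 LD2_c25 LD3_c60)) = (LP (LK LD1_c1 LD2_c20 LD3_c44)) :=
  Lgr Lrot141 (Lpe (f59921 IH) (Lpr_dt (K9.f8453 IH) (Lpr_gt (K9.f175306 IH) (Lpe (K9.f175318 IH) (Lpe (K9.f175319 IH) (Lpr_gt (K9.f9417 IH) (Lpr_dt (K0.f9363 IH) (Lpr_gt (K9.f9416 IH) (Lpr_df (K9.f175393 IH) (Lpe (f175417 IH) (Lpn (LP (LK LD1_c1 LD2_c20 LD3_c44)))))))))))))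
theorem f68575 : Led Lsl_et (LP (LK LD1_c0 LD2_c3 LD3_c26)) = (LP (LK LD1_c0 LD2_c7 LD3_c23)) :=
  Lre_e IH (LK LD1_c0 LD2_c3 LD3_c26) (LK LD1_c0 LD2_c7 LD3_c23) Lrfl Lrfl
theorem f68577 : Led Lsl_et (LP (LK LD1_c0 LD2_c36 LD3_c61)) = (LP (LK LD1_c0 LD2_c16 LD3_c30)) :=
  Lre_e IH (LK LD1_c0 LD2_c36 LD3_c61) (LK LD1_c0 LD2_c16 LD3_c30) Lrfl Lrfl
theorem f68578 : Led Lsl_dt (LP (LK LD1_c0 LD2_c36 LD3_c61)) = (LP (LK LD1_c1 LD2_c19 LD3_c57)) :=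
  Lre_d IH (LK LD1_c0 LD2_c36 LD3_c61) (LK LD1_c1 LD2_c19 LD3_c57) Lrfl Lrfl
theorem f59819 : Led Lsl_et (LP (LK LD1_c0 LD2_c37 LD3_c17)) = (LP (LK LD1_c0 LD2_c16 LD3_c37)) :=
  Lre_e IH (LK LD1_c0 LD2_c37 LD3_c17) (LK LD1_c0 LD2_c16 LD3_c37) Lrfl Lrfl
theorem f59820 : Led Lsl_dt (LP (LK LD1_c0 LD2_c37 LD3_c17)) = (LP (LK LD1_c1 LD2_c20 LD3_c46)) :=
  Lre_d IH (LK LD1_c0 LD2_c37 LD3_c17) (LK LD1_c1 LD2_c20 LD3_c46) Lrfl Lrfl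
theorem f68579 : Led Lsl_gt (LP (LK LD1_c1 LD2_c19 LD3_c57)) = (LP (LK LD1_c1 LD2_c20 LD3_c46)) :=
  Lgr Lrot112 (Lpe (f68578 IH) (Lpr_et (f68577 IH) (Lpe (K9.f68576 IH) (Lpe (f68575 IH) (Lpr_dt (K1.f23908 IH) (Lpe (K1.f13545 IH) (Lpr_df (K4.f68535 IH) (Lpe (K1.f56567 IH) (Lpe (f59819 IH) (Lpr_dt (f59820 IH) (Lpn (LP (LK LD1_c1 LD2_c20 LD3_c46)))))))))))))
theorem f68588 : Led Lsl_gt (LP (LK LD1_c2 LD2_c47 LD3_c8)) = (LP (LK LD1_c1 LD2_c19 LD3_c57)) :=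
  Lre_g IH (LK LD1_c2 LD2_c47 LD3_c8) (LK LD1_c1 LD2_c19 LD3_c57) Lrfl Lrfl
theorem f60122 : Led Lsl_dt (LP (LK LD1_c1 LD2_c20 LD3_c46)) = (LP (LK LD1_c0 LD2_c37 LD3_c17)) :=
  Lre_d IH (LK LD1_c1 LD2_c20 LD3_c46) (LK LD1_c0 LD2_c37 LD3_c17) Lrfl Lrfl
theorem f60123 : Led Lsl_at (LP (LK LD1_c1 LD2_c26 LD3_c16)) = (LP (LK LD1_c1 LD2_c20 LD3_c46)) :=
  Lgr Lrot51 (Lpe (K9.f9527 IH) (Lpr_af (K1.f60108 IH) (Lpe (f60122 IH) (Lpn (LP (LK LD1_c1 LD2_c20 LD3_c46))))))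
theorem f68589 : Led Lsl_ft (LP (LK LD1_c2 LD2_c47 LD3_c8)) = (LP (LK LD1_c1 LD2_c26 LD3_c16)) :=
  Lgr Lrot2 (Lpr_gt (f68588 IH) (Lpr_gt (f68579 IH) (Lpe (f60123 IH) (Lpn (LP (LK LD1_c1 LD2_c26 LD3_c16))))))
theorem f60125 : Led Lsl_ft (LP (LK LD1_c0 LD2_c39 LD3_c50)) = (LP (LK LD1_c1 LD2_c25 LD3_c60)) :=
  Lre_f IH (LK LD1_c0 LD2_c39 LD3_c50) (LK LD1_c1 LD2_c25 LD3_c60) Lrfl Lrfl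
theorem f68801 : Led Lsl_df (LP (LK LD1_c2 LD2_c47 LD3_c8)) = (LP (LK LD1_c1 LD2_c25 LD3_c60)) :=
  Lgr Lrot78 (Lpr_ft (f68589 IH) (Lpr_dt (K1.f9524 IH) (Lpr_ft (f60125 IH) (Lpn (LP (LK LD1_c1 LD2_c25 LD3_c60))))))
theorem f68599 : Led Lsl_dt (LP (LK LD1_c1 LD2_c19 LD3_c57)) = (LP (LK LD1_c0 LD2_c36 LD3_c61)) :=
  Lre_d IH (LK LD1_c1 LD2_c19 LD3_c57) (LK LD1_c0 LD2_c36 LD3_c61) Lrfl Lrfl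
theorem f68633 : Led Lsl_et (LP (LK LD1_c0 LD2_c16 LD3_c30)) = (LP (LK LD1_c0 LD2_c36 LD3_c61)) :=
  Lre_e IH (LK LD1_c0 LD2_c16 LD3_c30) (LK LD1_c0 LD2_c36 LD3_c61) Lrfl Lrfl
theorem f174959 : Led Lsl_cf (LP (LK LD1_c0 LD2_c32 LD3_c39)) = (LP (LK LD1_c0 LD2_c36 LD3_c61)) :=
  Lgr Lrot39 (Lpr_et (K9.f161772 IH) (Lpr_ct (K9.f174953 IH) (Lpr_et (f68633 IH) (Lpn (LP (LK LD1_c0 LD2_c36 LD3_c61))))))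
theorem f175421 : Led Lsl_ct (LP (LK LD1_c0 LD2_c40 LD3_c54)) = (LP (LK LD1_c1 LD2_c20 LD3_c44)) :=
  Lgr Lrot8 (Lpe (K9.f80290 IH) (Lpr_dt (K9.f47929 IH) (Lpr_gt (K9.f80288 IH) (Lpe (K9.f161776 IH) (Lpr_cf (f174959 IH) (Lpe (f68599 IH) (Lpe (f68588 IH) (Lpr_df (f68801 IH) (Lpr_gf (f175419 IH) (Lpn (LP (LK LD1_c1 LD2_c20 LD3_c44))))))))))))
theorem f9515 : Led Lsl_ct (LP (LK LD1_c0 LD2_c39 LD3_c43)) = (LP (LK LD1_c1 LD2_c25 LD3_c60)) :=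
  Lre_c IH (LK LD1_c0 LD2_c39 LD3_c43) (LK LD1_c1 LD2_c25 LD3_c60) Lrfl Lrfl
theorem f55938 : Led Lsl_bt (LP (LK LD1_c0 LD2_c57 LD3_c36)) = (LP (LK LD1_c0 LD2_c39 LD3_c43)) :=
  Lgr Lrot119 (Lpe (K9.f47926 IH) (Lpr_bf (K1.f55928 IH) (Lpe (K0.f9507 IH) (Lpn (LP (LK LD1_c0 LD2_c39 LD3_c43))))))
theorem f55941 : Led Lsl_bf (LP (LK LD1_c0 LD2_c57 LD3_c36)) = (LP (LK LD1_c0 LD2_c39 LD3_c43)) :=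
  Lgr Lrot24 (Lpr_bt (f55938 IH) (Lpn (LP (LK LD1_c0 LD2_c39 LD3_c43))))
theorem f175848 : Led Lsl_cf (LP (LK LD1_c1 LD2_c20 LD3_c45)) = (LP (LK LD1_c0 LD2_c40 LD3_c55)) :=
  Lgr Lrot125 (Lpr_gt (f175847 IH) (Lpe (K1.f60119 IH) (Lpr_bt (f60142 IH) (Lpr_gt (f68603 IH) (Lpr_bf (f175839 IH) (Lpr_ct (f175421 IH) (Lpe (f175419 IH) (Lpe (f9515 IH) (Lpe (f55941 IH) (Lpr_gt (K9.f80288 IH) (Lpn (LP (LK LD1_c0 LD2_c40 LD3_c55)))))))))))))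
theorem f175858 : Led Lsl_dt (LP (LK LD1_c2 LD2_c49 LD3_c13)) = (LP (LK LD1_c1 LD2_c20 LD3_c45)) :=
  Lre_d IH (LK LD1_c2 LD2_c49 LD3_c13) (LK LD1_c1 LD2_c20 LD3_c45) Lrfl Lrfl
theorem f180348 : Led Lsl_gf (LP (LK LD1_c2 LD2_c49 LD3_c13)) = (LP (LK LD1_c4 LD2_c31 LD3_c54)) :=
  Lgr Lrot143 (Lpr_dt (f175858 IH) (Lpr_cf (f175848 IH) (Lpe (K9.f161773 IH) (Lpe (f161781 IH) (Lpr_df (f175550 IH) (Lpr_gf (f180266 IH) (Lpr_cf (f173362 IH) (Lpr_gt (f180288 IH) (Lpr_dt (f60207 IH) (Lpn (LP (LK LD1_c4 LD2_c31 LD3_c54))))))))))))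
theorem f175854 : Led Lsl_dt (LP (LK LD1_c1 LD2_c20 LD3_c45)) = (LP (LK LD1_c2 LD2_c49 LD3_c13)) :=
  Lre_d IH (LK LD1_c1 LD2_c20 LD3_c45) (LK LD1_c2 LD2_c49 LD3_c13) Lrfl Lrfl
theorem f180352 : Led Lsl_ef (LP (LK LD1_c1 LD2_c12 LD3_c8)) = (LP (LK LD1_c1 LD2_c20 LD3_c45)) :=
  Lgr Lrot114 (Lpr_gt (f164751 IH) (Lpe (K9.f164739 IH) (Lpr_dt (K9.f164733 IH) (Lpr_gt (f180280 IH) (Lpe (f26944 IH) (Lpr_et (f27016 IH) (Lpr_gt (f180288 IH) (Lpr_dt (f60207 IH) (Lpe (f180348 IH) (Lpe (f175854 IH) (Lpn (LP (LK LD1_c1 LD2_c20 LD3_c45)))))))))))))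
theorem f180360 : Led Lsl_et (LP (LK LD1_c1 LD2_c12 LD3_c8)) = (LP (LK LD1_c1 LD2_c20 LD3_c45)) :=
  Lgr Lrot87 (Lpr_ef (f180352 IH) (Lpn (LP (LK LD1_c1 LD2_c20 LD3_c45))))
theorem f177193 : Led Lsl_dt (LP (LK LD1_c1 LD2_c12 LD3_c8)) = (LP (LK LD1_c2 LD2_c30 LD3_c15)) :=
  Lre_d IH (LK LD1_c1 LD2_c12 LD3_c8) (LK LD1_c2 LD2_c30 LD3_c15) Lrfl Lrfl
theorem f185753 : Led Lsl_dt (LP (LK LD1_c0 LD2_c34 LD3_c11)) = (LP (LK LD1_c1 LD2_c13 LD3_c48)) :=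
  Lre_d IH (LK LD1_c0 LD2_c34 LD3_c11) (LK LD1_c1 LD2_c13 LD3_c48) Lrfl Lrfl
theorem f185765 : Led Lsl_gf (LP (LK LD1_c2 LD2_c30 LD3_c15)) = (LP (LK LD1_c1 LD2_c13 LD3_c48)) :=
  Lgr Lrot134 (Lpe (f177193 IH) (Lpr_et (f180360 IH) (Lpr_gt (f175847 IH) (Lpe (K1.f59877 IH) (Lpe (f59794 IH) (Lpe (K0.f27150 IH) (Lpe (K0.f20603 IH) (Lpr_et (f27163 IH) (Lpr_gt (f185750 IH) (Lpr_dt (f185753 IH) (Lpn (LP (LK LD1_c1 LD2_c13 LD3_c48)))))))))))))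
theorem f166251 : Led Lsl_dt (LP (LK LD1_c2 LD2_c30 LD3_c15)) = (LP (LK LD1_c1 LD2_c12 LD3_c8)) :=
  Lre_d IH (LK LD1_c2 LD2_c30 LD3_c15) (LK LD1_c1 LD2_c12 LD3_c8) Lrfl Lrfl
theorem f165287 : Led Lsl_dt (LP (LK LD1_c5 LD2_c2 LD3_c20)) = (LP (LK LD1_c2 LD2_c28 LD3_c45)) :=
  Lre_d IH (LK LD1_c5 LD2_c2 LD3_c20) (LK LD1_c2 LD2_c28 LD3_c45) Lrfl Lrfl
theorem f35024 : Led Lsl_bt (LP (LK LD1_c2 LD2_c15 LD3_c3)) = (LP (LK LD1_c4 LD2_c35 LD3_c46)) :=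
  Lre_b IH (LK LD1_c2 LD2_c15 LD3_c3) (LK LD1_c4 LD2_c35 LD3_c46) Lrfl Lrfl
theorem f35051 : Led Lsl_gt (LP (LK LD1_c4 LD2_c35 LD3_c46)) = (LP (LK LD1_c9 LD2_c7 LD3_c56)) :=
  Lre_g IH (LK LD1_c4 LD2_c35 LD3_c46) (LK LD1_c9 LD2_c7 LD3_c56) Lrfl Lrfl
theorem f35113 : Led Lsl_bt (LP (LK LD1_c17 LD2_c0 LD3_c14)) = (LP (LK LD1_c9 LD2_c7 LD3_c56)) :=
  Lre_b IH (LK LD1_c17 LD2_c0 LD3_c14) (LK LD1_c9 LD2_c7 LD3_c56) Lrfl Lrfl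
theorem f28375 : Led Lsl_dt (LP (LK LD1_c1 LD2_c11 LD3_c41)) = (LP (LK LD1_c2 LD2_c29 LD3_c6)) :=
  Lre_d IH (LK LD1_c1 LD2_c11 LD3_c41) (LK LD1_c2 LD2_c29 LD3_c6) Lrfl Lrfl
theorem f177206 : Led Lsl_ct (LP (LK LD1_c2 LD2_c29 LD3_c6)) = (LP (LK LD1_c1 LD2_c12 LD3_c38)) :=
  Lgr Lrot176 (Lpe (f28375 IH) (Lpe (K9.f28374 IH) (Lpe (K9.f28373 IH) (Lpr_cf (K9.f28365 IH) (Lpe (K9.f28350 IH) (Lpe (K9.f28370 IH) (Lpr_df (K9.f177199 IH) (Lpe (K9.f165648 IH) (Lpe (K9.f165618 IH) (Lpe (K8.f3785 IH) (Lpe (K8.f3784 IH) (Lpe (K9.f165839 IH) (Lpe (K9.f28344 IH) (Lpe (K9.f28342 IH) (Lpe (K9.f53202 IH) (Lpn (LP (LK LD1_c1 LD2_c12 LD3_c38))))))))))))))))))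
theorem f165826 : Led Lsl_gt (LP (LK LD1_c2 LD2_c15 LD3_c3)) = (LP (LK LD1_c2 LD2_c29 LD3_c6)) :=
  Lgr Lrot49 (Lpr_df (K9.f35020 IH) (Lpr_gf (K9.f165811 IH) (Lpe (K9.f165428 IH) (Lpr_gt (K9.f165426 IH) (Lpr_dt (K8.f163650 IH) (Lpe (K8.f164123 IH) (Lpr_dt (K9.f28373 IH) (Lpe (K9.f28367 IH) (Lpe (K9.f28368 IH) (Lpn (LP (LK LD1_c2 LD2_c29 LD3_c6))))))))))))
theorem f35017 : Led Lsl_bt (LP (LK LD1_c4 LD2_c35 LD3_c46)) = (LP (LK LD1_c2 LD2_c15 LD3_c3)) :=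
  Lre_b IH (LK LD1_c4 LD2_c35 LD3_c46) (LK LD1_c2 LD2_c15 LD3_c3) Lrfl Lrfl
theorem f35036 : Led Lsl_ct (LP (LK LD1_c4 LD2_c35 LD3_c46)) = (LP (LK LD1_c9 LD2_c7 LD3_c48)) :=
  Lre_c IH (LK LD1_c4 LD2_c35 LD3_c46) (LK LD1_c9 LD2_c7 LD3_c48) Lrfl Lrfl
theorem f35054 : Led Lsl_gt (LP (LK LD1_c17 LD2_c0 LD3_c4)) = (LP (LK LD1_c9 LD2_c7 LD3_c48)) :=
  Lre_g IH (LK LD1_c17 LD2_c0 LD3_c4) (LK LD1_c9 LD2_c7 LD3_c48) Lrfl Lrfl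
theorem f163644 : Led Lsl_bt (LP (LK LD1_c1 LD2_c11 LD3_c53)) = (LP (LK LD1_c2 LD2_c29 LD3_c38)) :=
  Lre_b IH (LK LD1_c1 LD2_c11 LD3_c53) (LK LD1_c2 LD2_c29 LD3_c38) Lrfl Lrfl
theorem f21471 : Led Lsl_gt (LP (LK LD1_c2 LD2_c29 LD3_c38)) = (LP (LK LD1_c5 LD2_c4 LD3_c33)) :=
  Lre_g IH (LK LD1_c2 LD2_c29 LD3_c38) (LK LD1_c5 LD2_c4 LD3_c33) Lrfl Lrfl
theorem f164072 : Led Lsl_bt (LP (LK LD1_c10 LD2_c0 LD3_c10)) = (LP (LK LD1_c5 LD2_c4 LD3_c33)) :=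
  Lre_b IH (LK LD1_c10 LD2_c0 LD3_c10) (LK LD1_c5 LD2_c4 LD3_c33) Lrfl Lrfl
theorem f177217 : Led Lsl_cf (LP (LK LD1_c17 LD2_c0 LD3_c4)) = (LP (LK LD1_c10 LD2_c0 LD3_c10)) :=
  Lgr Lrot160 (Lpr_gt (f35054 IH) (Lpe (f35036 IH) (Lpr_bt (f35017 IH) (Lpr_gt (f165826 IH) (Lpr_ct (f177206 IH) (Lpr_gt (K9.f164091 IH) (Lpe (K9.f163646 IH) (Lpr_bt (f163644 IH) (Lpr_gt (f21471 IH) (Lpe (f164072 IH) (Lpn (LP (LK LD1_c10 LD2_c0 LD3_c10)))))))))))))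
theorem f163724 : Led Lsl_ct (LP (LK LD1_c1 LD2_c12 LD3_c42)) = (LP (LK LD1_c1 LD2_c13 LD3_c18)) :=
  Lgr Lrot59 (Lpr_cf (K8.f163718 IH) (Lpn (LP (LK LD1_c1 LD2_c13 LD3_c18))))
theorem f163796 : Led Lsl_at (LP (LK LD1_c1 LD2_c11 LD3_c53)) = (LP (LK LD1_c1 LD2_c13 LD3_c18)) :=
  Lgr Lrot100 (Lpr_af (K8.f163786 IH) (Lpn (LP (LK LD1_c1 LD2_c13 LD3_c18))))
theorem f163926 : Led Lsl_ff (LP (LK LD1_c1 LD2_c11 LD3_c53)) = (LP (LK LD1_c1 LD2_c14 LD3_c3)) :=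
  Lgr Lrot103 (Lpr_at (f163796 IH) (Lpe (f163724 IH) (Lpe (K8.f163740 IH) (Lpe (K8.f3157 IH) (Lpe (K8.f3153 IH) (Lpe (K0.f3146 IH) (Lpe (K8.f3156 IH) (Lpe (K8.f33389 IH) (Lpr_df (K8.f163916 IH) (Lpn (LP (LK LD1_c1 LD2_c14 LD3_c3))))))))))))
theorem f163918 : Led Lsl_bt (LP (LK LD1_c2 LD2_c34 LD3_c10)) = (LP (LK LD1_c1 LD2_c14 LD3_c3)) :=
  Lre_b IH (LK LD1_c2 LD2_c34 LD3_c10) (LK LD1_c1 LD2_c14 LD3_c3) Lrfl Lrfl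
theorem f163930 : Led Lsl_ft (LP (LK LD1_c2 LD2_c29 LD3_c38)) = (LP (LK LD1_c2 LD2_c34 LD3_c10)) :=
  Lgr Lrot75 (Lpe (f163644 IH) (Lpr_ff (f163926 IH) (Lpe (f163918 IH) (Lpn (LP (LK LD1_c2 LD2_c34 LD3_c10))))))
theorem f164020 : Led Lsl_at (LP (LK LD1_c2 LD2_c34 LD3_c10)) = (LP (LK LD1_c5 LD2_c14 LD3_c45)) :=
  Lre_a IH (LK LD1_c2 LD2_c34 LD3_c10) (LK LD1_c5 LD2_c14 LD3_c45) Lrfl Lrfl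
theorem f164068 : Led Lsl_gt (LP (LK LD1_c5 LD2_c4 LD3_c33)) = (LP (LK LD1_c5 LD2_c14 LD3_c45)) :=
  Lgr Lrot46 (Lpe (f21471 IH) (Lpr_ft (f163930 IH) (Lpr_at (f164020 IH) (Lpn (LP (LK LD1_c5 LD2_c14 LD3_c45))))))
theorem f164001 : Led Lsl_ct (LP (LK LD1_c5 LD2_c14 LD3_c45)) = (LP (LK LD1_c10 LD2_c18 LD3_c31)) :=
  Lre_c IH (LK LD1_c5 LD2_c14 LD3_c45) (LK LD1_c10 LD2_c18 LD3_c31) Lrfl Lrfl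
theorem f21409 : Led Lsl_ft (LP (LK LD1_c2 LD2_c29 LD3_c42)) = (LP (LK LD1_c5 LD2_c4 LD3_c43)) :=
  Lre_f IH (LK LD1_c2 LD2_c29 LD3_c42) (LK LD1_c5 LD2_c4 LD3_c43) Lrfl Lrfl
theorem f163921 : Led Lsl_et (LP (LK LD1_c2 LD2_c34 LD3_c11)) = (LP (LK LD1_c1 LD2_c14 LD3_c3)) :=
  Lre_e IH (LK LD1_c2 LD2_c34 LD3_c11) (LK LD1_c1 LD2_c14 LD3_c3) Lrfl Lrfl
theorem f163933 : Led Lsl_ft (LP (LK LD1_c5 LD2_c14 LD3_c47)) = (LP (LK LD1_c2 LD2_c34 LD3_c11)) :=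
  Lre_f IH (LK LD1_c5 LD2_c14 LD3_c47) (LK LD1_c2 LD2_c34 LD3_c11) Lrfl Lrfl
theorem f163934 : Led Lsl_et (LP (LK LD1_c5 LD2_c4 LD3_c43)) = (LP (LK LD1_c5 LD2_c14 LD3_c47)) :=
  Lgr Lrot69 (Lpe (f21409 IH) (Lpe (K0.f21384 IH) (Lpr_ff (f163926 IH) (Lpe (f163921 IH) (Lpe (f163933 IH) (Lpn (LP (LK LD1_c5 LD2_c14 LD3_c47))))))))
theorem f163953 : Led Lsl_ef (LP (LK LD1_c5 LD2_c4 LD3_c43)) = (LP (LK LD1_c5 LD2_c14 LD3_c47)) :=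
  Lgr Lrot88 (Lpr_et (f163934 IH) (Lpn (LP (LK LD1_c5 LD2_c14 LD3_c47))))
theorem f21426 : Led Lsl_bt (LP (LK LD1_c5 LD2_c4 LD3_c43)) = (LP (LK LD1_c10 LD2_c0 LD3_c19)) :=
  Lre_b IH (LK LD1_c5 LD2_c4 LD3_c43) (LK LD1_c10 LD2_c0 LD3_c19) Lrfl Lrfl
theorem f163955 : Led Lsl_bt (LP (LK LD1_c10 LD2_c18 LD3_c61)) = (LP (LK LD1_c5 LD2_c14 LD3_c47)) :=
  Lre_b IH (LK LD1_c10 LD2_c18 LD3_c61) (LK LD1_c5 LD2_c14 LD3_c47) Lrfl Lrfl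
theorem f163956 : Led Lsl_et (LP (LK LD1_c10 LD2_c0 LD3_c19)) = (LP (LK LD1_c10 LD2_c18 LD3_c61)) :=
  Lgr Lrot74 (Lpe (f21426 IH) (Lpr_ef (f163953 IH) (Lpe (f163955 IH) (Lpn (LP (LK LD1_c10 LD2_c18 LD3_c61))))))
theorem f21459 : Led Lsl_ft (LP (LK LD1_c5 LD2_c4 LD3_c36)) = (LP (LK LD1_c10 LD2_c0 LD3_c19)) :=
  Lre_f IH (LK LD1_c5 LD2_c4 LD3_c36) (LK LD1_c10 LD2_c0 LD3_c19) Lrfl Lrfl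
theorem f163971 : Led Lsl_ft (LP (LK LD1_c10 LD2_c18 LD3_c61)) = (LP (LK LD1_c5 LD2_c14 LD3_c46)) :=
  Lre_f IH (LK LD1_c10 LD2_c18 LD3_c61) (LK LD1_c5 LD2_c14 LD3_c46) Lrfl Lrfl
theorem f163972 : Led Lsl_et (LP (LK LD1_c5 LD2_c14 LD3_c46)) = (LP (LK LD1_c2 LD2_c34 LD3_c10)) :=
  Lre_e IH (LK LD1_c5 LD2_c14 LD3_c46) (LK LD1_c2 LD2_c34 LD3_c10) Lrfl Lrfl
theorem f163973 : Led Lsl_ff (LP (LK LD1_c2 LD2_c29 LD3_c38)) = (LP (LK LD1_c2 LD2_c34 LD3_c10)) :=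
  Lgr Lrot72 (Lpr_et (K0.f21454 IH) (Lpr_ft (f21459 IH) (Lpr_et (f163956 IH) (Lpr_ft (f163971 IH) (Lpr_et (f163972 IH) (Lpn (LP (LK LD1_c2 LD2_c34 LD3_c10))))))))
theorem f163645 : Led Lsl_ct (LP (LK LD1_c2 LD2_c29 LD3_c38)) = (LP (LK LD1_c5 LD2_c4 LD3_c35)) :=
  Lre_c IH (LK LD1_c2 LD2_c29 LD3_c38) (LK LD1_c5 LD2_c4 LD3_c35) Lrfl Lrfl
theorem f163939 : Led Lsl_ct (LP (LK LD1_c5 LD2_c14 LD3_c27)) = (LP (LK LD1_c2 LD2_c34 LD3_c10)) :=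
  Lre_c IH (LK LD1_c5 LD2_c14 LD3_c27) (LK LD1_c2 LD2_c34 LD3_c10) Lrfl Lrfl
theorem f163979 : Led Lsl_ft (LP (LK LD1_c5 LD2_c4 LD3_c35)) = (LP (LK LD1_c5 LD2_c14 LD3_c27)) :=
  Lgr Lrot4 (Lpe (f163645 IH) (Lpr_ff (f163973 IH) (Lpe (f163939 IH) (Lpn (LP (LK LD1_c5 LD2_c14 LD3_c27))))))
theorem f163991 : Led Lsl_at (LP (LK LD1_c10 LD2_c0 LD3_c8)) = (LP (LK LD1_c5 LD2_c4 LD3_c35)) :=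
  Lre_a IH (LK LD1_c10 LD2_c0 LD3_c8) (LK LD1_c5 LD2_c4 LD3_c35) Lrfl Lrfl
theorem f163992 : Led Lsl_at (LP (LK LD1_c5 LD2_c14 LD3_c27)) = (LP (LK LD1_c10 LD2_c18 LD3_c31)) :=
  Lre_a IH (LK LD1_c5 LD2_c14 LD3_c27) (LK LD1_c10 LD2_c18 LD3_c31) Lrfl Lrfl
theorem f163993 : Led Lsl_ff (LP (LK LD1_c10 LD2_c0 LD3_c8)) = (LP (LK LD1_c10 LD2_c18 LD3_c31)) :=
  Lgr Lrot30 (Lpr_at (f163991 IH) (Lpr_ft (f163979 IH) (Lpr_at (f163992 IH) (Lpn (LP (LK LD1_c10 LD2_c18 LD3_c31))))))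
theorem f164059 : Led Lsl_gt (LP (LK LD1_c10 LD2_c0 LD3_c16)) = (LP (LK LD1_c5 LD2_c4 LD3_c35)) :=
  Lre_g IH (LK LD1_c10 LD2_c0 LD3_c16) (LK LD1_c5 LD2_c4 LD3_c35) Lrfl Lrfl
theorem f164060 : Led Lsl_gf (LP (LK LD1_c10 LD2_c0 LD3_c16)) = (LP (LK LD1_c10 LD2_c18 LD3_c31)) :=
  Lgr Lrot47 (Lpr_gt (f164059 IH) (Lpe (f163991 IH) (Lpr_ff (f163993 IH) (Lpn (LP (LK LD1_c10 LD2_c18 LD3_c31))))))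
theorem f71560 : Led Lsl_gt (LP (LK LD1_c2 LD2_c54 LD3_c3)) = (LP (LK LD1_c5 LD2_c55 LD3_c24)) :=
  Lre_g IH (LK LD1_c2 LD2_c54 LD3_c3) (LK LD1_c5 LD2_c55 LD3_c24) Lrfl Lrfl
theorem f71571 : Led Lsl_bt (LP (LK LD1_c11 LD2_c36 LD3_c7)) = (LP (LK LD1_c5 LD2_c55 LD3_c24)) :=
  Lre_b IH (LK LD1_c11 LD2_c36 LD3_c7) (LK LD1_c5 LD2_c55 LD3_c24) Lrfl Lrfl
theorem f163843 : Led Lsl_bt (LP (LK LD1_c2 LD2_c29 LD3_c38)) = (LP (LK LD1_c1 LD2_c11 LD3_c53)) :=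
  Lre_b IH (LK LD1_c2 LD2_c29 LD3_c38) (LK LD1_c1 LD2_c11 LD3_c53) Lrfl Lrfl
theorem f169750 : Led Lsl_ct (LP (LK LD1_c11 LD2_c36 LD3_c7)) = (LP (LK LD1_c10 LD2_c0 LD3_c16)) :=
  Lgr Lrot64 (Lpr_bt (f71571 IH) (Lpe (f71560 IH) (Lpe (K2.f71528 IH) (Lpr_ct (K2.f71525 IH) (Lpe (K9.f169748 IH) (Lpr_cf (K9.f169678 IH) (Lpe (K9.f21423 IH) (Lpe (f163843 IH) (Lpr_ct (f163645 IH) (Lpe (f164059 IH) (Lpn (LP (LK LD1_c10 LD2_c0 LD3_c16)))))))))))))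
theorem f32605 : Led Lsl_at (LP (LK LD1_c2 LD2_c36 LD3_c1)) = (LP (LK LD1_c5 LD2_c18 LD3_c49)) :=
  Lre_a IH (LK LD1_c2 LD2_c36 LD3_c1) (LK LD1_c5 LD2_c18 LD3_c49) Lrfl Lrfl
theorem f71561 : Led Lsl_gt (LP (LK LD1_c5 LD2_c55 LD3_c24)) = (LP (LK LD1_c5 LD2_c18 LD3_c49)) :=
  Lgr Lrot46 (Lpe (f71560 IH) (Lpr_ft (K2.f71548 IH) (Lpr_at (f32605 IH) (Lpn (LP (LK LD1_c5 LD2_c18 LD3_c49))))))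
theorem f32616 : Led Lsl_bt (LP (LK LD1_c5 LD2_c18 LD3_c53)) = (LP (LK LD1_c2 LD2_c36 LD3_c3)) :=
  Lre_b IH (LK LD1_c5 LD2_c18 LD3_c53) (LK LD1_c2 LD2_c36 LD3_c3) Lrfl Lrfl
theorem f32617 : Led Lsl_at (LP (LK LD1_c10 LD2_c27 LD3_c25)) = (LP (LK LD1_c5 LD2_c18 LD3_c53)) :=
  Lre_a IH (LK LD1_c10 LD2_c27 LD3_c25) (LK LD1_c5 LD2_c18 LD3_c53) Lrfl Lrfl
theorem f32618 : Led Lsl_bt (LP (LK LD1_c2 LD2_c35 LD3_c8)) = (LP (LK LD1_c5 LD2_c16 LD3_c49)) :=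
  Lre_b IH (LK LD1_c2 LD2_c35 LD3_c8) (LK LD1_c5 LD2_c16 LD3_c49) Lrfl Lrfl
theorem f32619 : Led Lsl_at (LP (LK LD1_c5 LD2_c16 LD3_c49)) = (LP (LK LD1_c10 LD2_c23 LD3_c3)) :=
  Lre_a IH (LK LD1_c5 LD2_c16 LD3_c49) (LK LD1_c10 LD2_c23 LD3_c3) Lrfl Lrfl
theorem f32620 : Led Lsl_bf (LP (LK LD1_c10 LD2_c27 LD3_c25)) = (LP (LK LD1_c10 LD2_c23 LD3_c3)) :=
  Lgr Lrot81 (Lpr_at (f32617 IH) (Lpr_bt (f32616 IH) (Lpr_at (K2.f32612 IH) (Lpr_bt (f32618 IH) (Lpr_at (f32619 IH) (Lpn (LP (LK LD1_c10 LD2_c23 LD3_c3))))))))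
theorem f32630 : Led Lsl_bt (LP (LK LD1_c10 LD2_c27 LD3_c25)) = (LP (LK LD1_c10 LD2_c23 LD3_c3)) :=
  Lgr Lrot127 (Lpr_bf (f32620 IH) (Lpn (LP (LK LD1_c10 LD2_c23 LD3_c3))))
theorem f32646 : Led Lsl_et (LP (LK LD1_c5 LD2_c18 LD3_c49)) = (LP (LK LD1_c10 LD2_c27 LD3_c25)) :=
  Lre_e IH (LK LD1_c5 LD2_c18 LD3_c49) (LK LD1_c10 LD2_c27 LD3_c25) Lrfl Lrfl
theorem f32647 : Led Lsl_et (LP (LK LD1_c10 LD2_c23 LD3_c3)) = (LP (LK LD1_c5 LD2_c16 LD3_c45)) :=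
  Lre_e IH (LK LD1_c10 LD2_c23 LD3_c3) (LK LD1_c5 LD2_c16 LD3_c45) Lrfl Lrfl
theorem f32648 : Led Lsl_bf (LP (LK LD1_c5 LD2_c18 LD3_c49)) = (LP (LK LD1_c5 LD2_c16 LD3_c45)) :=
  Lgr Lrot96 (Lpr_et (f32646 IH) (Lpr_bt (f32630 IH) (Lpr_et (f32647 IH) (Lpn (LP (LK LD1_c5 LD2_c16 LD3_c45))))))
theorem f32666 : Led Lsl_ct (LP (LK LD1_c5 LD2_c16 LD3_c45)) = (LP (LK LD1_c10 LD2_c23 LD3_c2)) :=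
  Lre_c IH (LK LD1_c5 LD2_c16 LD3_c45) (LK LD1_c10 LD2_c23 LD3_c2) Lrfl Lrfl
theorem f177230 : Led Lsl_gf (LP (LK LD1_c17 LD2_c0 LD3_c4)) = (LP (LK LD1_c10 LD2_c23 LD3_c2)) :=
  Lgr Lrot126 (Lpr_cf (f177217 IH) (Lpr_bt (f164072 IH) (Lpr_gt (f164068 IH) (Lpr_ct (f164001 IH) (Lpe (f164060 IH) (Lpe (f169750 IH) (Lpr_bt (f71571 IH) (Lpr_gt (f71561 IH) (Lpr_bf (f32648 IH) (Lpr_ct (f32666 IH) (Lpn (LP (LK LD1_c10 LD2_c23 LD3_c2)))))))))))))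
theorem f164353 : Led Lsl_et (LP (LK LD1_c0 LD2_c38 LD3_c14)) = (LP (LK LD1_c0 LD2_c34 LD3_c20)) :=
  Lgr Lrot87 (Lpr_ef (K9.f164311 IH) (Lpn (LP (LK LD1_c0 LD2_c34 LD3_c20))))
theorem f24579 : Led Lsl_dt (LP (LK LD1_c1 LD2_c22 LD3_c31)) = (LP (LK LD1_c0 LD2_c38 LD3_c14)) :=
  Lre_d IH (LK LD1_c1 LD2_c22 LD3_c31) (LK LD1_c0 LD2_c38 LD3_c14) Lrfl Lrfl
theorem f163966 : Led Lsl_et (LP (LK LD1_c1 LD2_c14 LD3_c5)) = (LP (LK LD1_c2 LD2_c34 LD3_c15)) :=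
  Lre_e IH (LK LD1_c1 LD2_c14 LD3_c5) (LK LD1_c2 LD2_c34 LD3_c15) Lrfl Lrfl
theorem f164355 : Led Lsl_df (LP (LK LD1_c2 LD2_c52 LD3_c53)) = (LP (LK LD1_c2 LD2_c34 LD3_c15)) :=
  Lgr Lrot70 (Lpr_et (K7.f151846 IH) (Lpr_dt (f24579 IH) (Lpr_et (f164353 IH) (Lpr_dt (K8.f163641 IH) (Lpr_et (f163966 IH) (Lpn (LP (LK LD1_c2 LD2_c34 LD3_c15))))))))
theorem f163963 : Led Lsl_ft (LP (LK LD1_c5 LD2_c14 LD3_c51)) = (LP (LK LD1_c2 LD2_c34 LD3_c15)) :=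
  Lre_f IH (LK LD1_c5 LD2_c14 LD3_c51) (LK LD1_c2 LD2_c34 LD3_c15) Lrfl Lrfl
theorem f164357 : Led Lsl_dt (LP (LK LD1_c5 LD2_c52 LD3_c54)) = (LP (LK LD1_c5 LD2_c14 LD3_c51)) :=
  Lgr Lrot60 (Lpe (K7.f151865 IH) (Lpr_df (f164355 IH) (Lpe (f163963 IH) (Lpn (LP (LK LD1_c5 LD2_c14 LD3_c51))))))
theorem f22556 : Led Lsl_dt (LP (LK LD1_c1 LD2_c22 LD3_c24)) = (LP (LK LD1_c2 LD2_c52 LD3_c43)) :=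
  Lre_d IH (LK LD1_c1 LD2_c22 LD3_c24) (LK LD1_c2 LD2_c52 LD3_c43) Lrfl Lrfl
theorem f152043 : Led Lsl_bt (LP (LK LD1_c4 LD2_c34 LD3_c46)) = (LP (LK LD1_c2 LD2_c14 LD3_c26)) :=
  Lre_b IH (LK LD1_c4 LD2_c34 LD3_c46) (LK LD1_c2 LD2_c14 LD3_c26) Lrfl Lrfl
theorem f152044 : Led Lsl_et (LP (LK LD1_c2 LD2_c14 LD3_c26)) = (LP (LK LD1_c1 LD2_c22 LD3_c24)) :=
  Lgr Lrot74 (Lpe (f152043 IH) (Lpr_ef (K7.f152037 IH) (Lpe (K7.f22550 IH) (Lpn (LP (LK LD1_c1 LD2_c22 LD3_c24))))))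
theorem f163959 : Led Lsl_et (LP (LK LD1_c5 LD2_c14 LD3_c51)) = (LP (LK LD1_c2 LD2_c34 LD3_c14)) :=
  Lre_e IH (LK LD1_c5 LD2_c14 LD3_c51) (LK LD1_c2 LD2_c34 LD3_c14) Lrfl Lrfl
theorem f164362 : Led Lsl_df (LP (LK LD1_c2 LD2_c14 LD3_c26)) = (LP (LK LD1_c2 LD2_c34 LD3_c14)) :=
  Lgr Lrot70 (Lpr_et (f152044 IH) (Lpr_dt (f22556 IH) (Lpr_et (K7.f151872 IH) (Lpr_dt (f164357 IH) (Lpr_et (f163959 IH) (Lpn (LP (LK LD1_c2 LD2_c34 LD3_c14))))))))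
theorem f164372 : Led Lsl_ft (LP (LK LD1_c1 LD2_c14 LD3_c4)) = (LP (LK LD1_c2 LD2_c34 LD3_c14)) :=
  Lre_f IH (LK LD1_c1 LD2_c14 LD3_c4) (LK LD1_c2 LD2_c34 LD3_c14) Lrfl Lrfl
theorem f164373 : Led Lsl_dt (LP (LK LD1_c1 LD2_c4 LD3_c19)) = (LP (LK LD1_c1 LD2_c14 LD3_c4)) :=
  Lgr Lrot60 (Lpe (K7.f152061 IH) (Lpr_df (f164362 IH) (Lpe (f164372 IH) (Lpn (LP (LK LD1_c1 LD2_c14 LD3_c4))))))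
theorem f22213 : Led Lsl_et (LP (LK LD1_c0 LD2_c37 LD3_c60)) = (LP (LK LD1_c0 LD2_c16 LD3_c58)) :=
  Lre_e IH (LK LD1_c0 LD2_c37 LD3_c60) (LK LD1_c0 LD2_c16 LD3_c58) Lrfl Lrfl
theorem f22215 : Led Lsl_et (LP (LK LD1_c0 LD2_c33 LD3_c37)) = (LP (LK LD1_c1 LD2_c12 LD3_c41)) :=
  Lre_e IH (LK LD1_c0 LD2_c33 LD3_c37) (LK LD1_c1 LD2_c12 LD3_c41) Lrfl Lrfl
theorem f22216 : Led Lsl_df (LP (LK LD1_c0 LD2_c37 LD3_c60)) = (LP (LK LD1_c1 LD2_c12 LD3_c41)) :=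
  Lgr Lrot70 (Lpr_et (f22213 IH) (Lpr_dt (K1.f8311 IH) (Lpr_et (K7.f22116 IH) (Lpr_dt (K9.f22214 IH) (Lpr_et (f22215 IH) (Lpn (LP (LK LD1_c1 LD2_c12 LD3_c41))))))))
theorem f164376 : Led Lsl_af (LP (LK LD1_c1 LD2_c12 LD3_c41)) = (LP (LK LD1_c1 LD2_c14 LD3_c4)) :=
  Lgr Lrot117 (Lpe (f22216 IH) (Lpr_at (K8.f163617 IH) (Lpr_dt (f164373 IH) (Lpn (LP (LK LD1_c1 LD2_c14 LD3_c4))))))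
theorem f22236 : Led Lsl_ct (LP (LK LD1_c1 LD2_c12 LD3_c41)) = (LP (LK LD1_c2 LD2_c31 LD3_c22)) :=
  Lre_c IH (LK LD1_c1 LD2_c12 LD3_c41) (LK LD1_c2 LD2_c31 LD3_c22) Lrfl Lrfl
theorem f164385 : Led Lsl_ct (LP (LK LD1_c2 LD2_c34 LD3_c11)) = (LP (LK LD1_c1 LD2_c14 LD3_c4)) :=
  Lre_c IH (LK LD1_c2 LD2_c34 LD3_c11) (LK LD1_c1 LD2_c14 LD3_c4) Lrfl Lrfl
theorem f164420 : Led Lsl_at (LP (LK LD1_c2 LD2_c31 LD3_c22)) = (LP (LK LD1_c2 LD2_c34 LD3_c11)) :=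
  Lgr Lrot107 (Lpe (f22236 IH) (Lpr_af (f164376 IH) (Lpe (f164385 IH) (Lpn (LP (LK LD1_c2 LD2_c34 LD3_c11))))))
theorem f164426 : Led Lsl_bt (LP (LK LD1_c5 LD2_c8 LD3_c20)) = (LP (LK LD1_c2 LD2_c31 LD3_c22)) :=
  Lre_b IH (LK LD1_c5 LD2_c8 LD3_c20) (LK LD1_c2 LD2_c31 LD3_c22) Lrfl Lrfl
theorem f164427 : Led Lsl_at (LP (LK LD1_c10 LD2_c7 LD3_c7)) = (LP (LK LD1_c5 LD2_c8 LD3_c20)) :=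
  Lre_a IH (LK LD1_c10 LD2_c7 LD3_c7) (LK LD1_c5 LD2_c8 LD3_c20) Lrfl Lrfl
theorem f164386 : Led Lsl_bt (LP (LK LD1_c2 LD2_c34 LD3_c11)) = (LP (LK LD1_c5 LD2_c14 LD3_c46)) :=
  Lre_b IH (LK LD1_c2 LD2_c34 LD3_c11) (LK LD1_c5 LD2_c14 LD3_c46) Lrfl Lrfl
theorem f164428 : Led Lsl_at (LP (LK LD1_c5 LD2_c14 LD3_c46)) = (LP (LK LD1_c10 LD2_c18 LD3_c60)) :=
  Lre_a IH (LK LD1_c5 LD2_c14 LD3_c46) (LK LD1_c10 LD2_c18 LD3_c60) Lrfl Lrfl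
theorem f164429 : Led Lsl_bf (LP (LK LD1_c10 LD2_c7 LD3_c7)) = (LP (LK LD1_c10 LD2_c18 LD3_c60)) :=
  Lgr Lrot81 (Lpr_at (f164427 IH) (Lpr_bt (f164426 IH) (Lpr_at (f164420 IH) (Lpr_bt (f164386 IH) (Lpr_at (f164428 IH) (Lpn (LP (LK LD1_c10 LD2_c18 LD3_c60))))))))
theorem f164433 : Led Lsl_et (LP (LK LD1_c10 LD2_c7 LD3_c7)) = (LP (LK LD1_c5 LD2_c8 LD3_c19)) :=
  Lre_e IH (LK LD1_c10 LD2_c7 LD3_c7) (LK LD1_c5 LD2_c8 LD3_c19) Lrfl Lrfl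
theorem f164037 : Led Lsl_et (LP (LK LD1_c5 LD2_c14 LD3_c45)) = (LP (LK LD1_c10 LD2_c18 LD3_c60)) :=
  Lre_e IH (LK LD1_c5 LD2_c14 LD3_c45) (LK LD1_c10 LD2_c18 LD3_c60) Lrfl Lrfl
theorem f164434 : Led Lsl_bt (LP (LK LD1_c5 LD2_c8 LD3_c19)) = (LP (LK LD1_c5 LD2_c14 LD3_c45)) :=
  Lgr Lrot119 (Lpe (f164433 IH) (Lpr_bf (f164429 IH) (Lpe (f164037 IH) (Lpn (LP (LK LD1_c5 LD2_c14 LD3_c45))))))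
theorem f164444 : Led Lsl_ct (LP (LK LD1_c5 LD2_c8 LD3_c19)) = (LP (LK LD1_c10 LD2_c6 LD3_c27)) :=
  Lre_c IH (LK LD1_c5 LD2_c8 LD3_c19) (LK LD1_c10 LD2_c6 LD3_c27) Lrfl Lrfl
theorem f163996 : Led Lsl_ff (LP (LK LD1_c5 LD2_c4 LD3_c35)) = (LP (LK LD1_c5 LD2_c14 LD3_c27)) :=
  Lgr Lrot3 (Lpr_ft (f163979 IH) (Lpn (LP (LK LD1_c5 LD2_c14 LD3_c27))))
theorem f164003 : Led Lsl_at (LP (LK LD1_c5 LD2_c4 LD3_c35)) = (LP (LK LD1_c10 LD2_c0 LD3_c8)) :=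
  Lre_a IH (LK LD1_c5 LD2_c4 LD3_c35) (LK LD1_c10 LD2_c0 LD3_c8) Lrfl Lrfl
theorem f164004 : Led Lsl_at (LP (LK LD1_c10 LD2_c18 LD3_c31)) = (LP (LK LD1_c5 LD2_c14 LD3_c27)) :=
  Lre_a IH (LK LD1_c10 LD2_c18 LD3_c31) (LK LD1_c5 LD2_c14 LD3_c27) Lrfl Lrfl
theorem f164005 : Led Lsl_ft (LP (LK LD1_c10 LD2_c0 LD3_c8)) = (LP (LK LD1_c10 LD2_c18 LD3_c31)) :=
  Lgr Lrot101 (Lpe (f164003 IH) (Lpr_ff (f163996 IH) (Lpe (f164004 IH) (Lpn (LP (LK LD1_c10 LD2_c18 LD3_c31))))))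
theorem f163844 : Led Lsl_ct (LP (LK LD1_c5 LD2_c4 LD3_c32)) = (LP (LK LD1_c10 LD2_c0 LD3_c8)) :=
  Lre_c IH (LK LD1_c5 LD2_c4 LD3_c32) (LK LD1_c10 LD2_c0 LD3_c8) Lrfl Lrfl
theorem f164002 : Led Lsl_ct (LP (LK LD1_c10 LD2_c18 LD3_c31)) = (LP (LK LD1_c5 LD2_c14 LD3_c45)) :=
  Lre_c IH (LK LD1_c10 LD2_c18 LD3_c31) (LK LD1_c5 LD2_c14 LD3_c45) Lrfl Lrfl
theorem f164015 : Led Lsl_ff (LP (LK LD1_c5 LD2_c4 LD3_c32)) = (LP (LK LD1_c5 LD2_c14 LD3_c45)) :=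
  Lgr Lrot23 (Lpr_ct (f163844 IH) (Lpr_ft (f164005 IH) (Lpr_ct (f164002 IH) (Lpn (LP (LK LD1_c5 LD2_c14 LD3_c45))))))
theorem f163798 : Led Lsl_at (LP (LK LD1_c2 LD2_c29 LD3_c38)) = (LP (LK LD1_c5 LD2_c4 LD3_c32)) :=
  Lre_a IH (LK LD1_c2 LD2_c29 LD3_c38) (LK LD1_c5 LD2_c4 LD3_c32) Lrfl Lrfl
theorem f163721 : Led Lsl_bt (LP (LK LD1_c2 LD2_c32 LD3_c44)) = (LP (LK LD1_c1 LD2_c13 LD3_c18)) :=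
  Lre_b IH (LK LD1_c2 LD2_c32 LD3_c44) (LK LD1_c1 LD2_c13 LD3_c18) Lrfl Lrfl
theorem f163799 : Led Lsl_at (LP (LK LD1_c5 LD2_c11 LD3_c39)) = (LP (LK LD1_c2 LD2_c32 LD3_c44)) :=
  Lre_a IH (LK LD1_c5 LD2_c11 LD3_c39) (LK LD1_c2 LD2_c32 LD3_c44) Lrfl Lrfl
theorem f163800 : Led Lsl_bt (LP (LK LD1_c5 LD2_c4 LD3_c32)) = (LP (LK LD1_c5 LD2_c11 LD3_c39)) :=
  Lgr Lrot62 (Lpe (f163798 IH) (Lpe (f163644 IH) (Lpr_af (K8.f163786 IH) (Lpe (f163721 IH) (Lpe (f163799 IH) (Lpn (LP (LK LD1_c5 LD2_c11 LD3_c39))))))))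
theorem f164442 : Led Lsl_ff (LP (LK LD1_c5 LD2_c8 LD3_c19)) = (LP (LK LD1_c5 LD2_c11 LD3_c39)) :=
  Lgr Lrot25 (Lpr_bt (f164434 IH) (Lpe (f164015 IH) (Lpr_bt (f163800 IH) (Lpn (LP (LK LD1_c5 LD2_c11 LD3_c39))))))
theorem f164448 : Led Lsl_ft (LP (LK LD1_c10 LD2_c6 LD3_c27)) = (LP (LK LD1_c10 LD2_c14 LD3_c2)) :=
  Lgr Lrot4 (Lpe (f164444 IH) (Lpr_ff (f164442 IH) (Lpe (K2.f34305 IH) (Lpn (LP (LK LD1_c10 LD2_c14 LD3_c2))))))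
theorem f164504 : Led Lsl_at (LP (LK LD1_c10 LD2_c14 LD3_c2)) = (LP (LK LD1_c5 LD2_c11 LD3_c42)) :=
  Lre_a IH (LK LD1_c10 LD2_c14 LD3_c2) (LK LD1_c5 LD2_c11 LD3_c42) Lrfl Lrfl
theorem f164620 : Led Lsl_gt (LP (LK LD1_c10 LD2_c14 LD3_c11)) = (LP (LK LD1_c5 LD2_c11 LD3_c42)) :=
  Lre_g IH (LK LD1_c10 LD2_c14 LD3_c11) (LK LD1_c5 LD2_c11 LD3_c42) Lrfl Lrfl
theorem f164621 : Led Lsl_gt (LP (LK LD1_c10 LD2_c6 LD3_c27)) = (LP (LK LD1_c10 LD2_c14 LD3_c11)) :=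
  Lgr Lrot5 (Lpr_ft (f164448 IH) (Lpr_at (f164504 IH) (Lpe (f164620 IH) (Lpn (LP (LK LD1_c10 LD2_c14 LD3_c11))))))
theorem f32606 : Led Lsl_bt (LP (LK LD1_c2 LD2_c35 LD3_c6)) = (LP (LK LD1_c1 LD2_c14 LD3_c32)) :=
  Lre_b IH (LK LD1_c2 LD2_c35 LD3_c6) (LK LD1_c1 LD2_c14 LD3_c32) Lrfl Lrfl
theorem f35025 : Led Lsl_ft (LP (LK LD1_c4 LD2_c35 LD3_c46)) = (LP (LK LD1_c2 LD2_c35 LD3_c6)) :=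
  Lgr Lrot75 (Lpe (f35024 IH) (Lpr_ff (K2.f35022 IH) (Lpe (f32606 IH) (Lpn (LP (LK LD1_c2 LD2_c35 LD3_c6))))))
theorem f32654 : Led Lsl_at (LP (LK LD1_c2 LD2_c35 LD3_c6)) = (LP (LK LD1_c5 LD2_c16 LD3_c45)) :=
  Lre_a IH (LK LD1_c2 LD2_c35 LD3_c6) (LK LD1_c5 LD2_c16 LD3_c45) Lrfl Lrfl
theorem f35109 : Led Lsl_gt (LP (LK LD1_c9 LD2_c7 LD3_c56)) = (LP (LK LD1_c5 LD2_c16 LD3_c45)) :=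
  Lgr Lrot46 (Lpe (f35051 IH) (Lpr_ft (f35025 IH) (Lpr_at (f32654 IH) (Lpn (LP (LK LD1_c5 LD2_c16 LD3_c45))))))
theorem f177232 : Led Lsl_cf (LP (LK LD1_c10 LD2_c14 LD3_c11)) = (LP (LK LD1_c17 LD2_c0 LD3_c14)) :=
  Lgr Lrot58 (Lpe (f164621 IH) (Lpe (f164444 IH) (Lpr_bt (f164434 IH) (Lpe (f164068 IH) (Lpe (f164072 IH) (Lpe (f177217 IH) (Lpr_gf (f177230 IH) (Lpe (f32666 IH) (Lpe (f35109 IH) (Lpe (f35113 IH) (Lpn (LP (LK LD1_c17 LD2_c0 LD3_c14)))))))))))))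
theorem f34345 : Led Lsl_ct (LP (LK LD1_c2 LD2_c32 LD3_c44)) = (LP (LK LD1_c5 LD2_c11 LD3_c42)) :=
  Lre_c IH (LK LD1_c2 LD2_c32 LD3_c44) (LK LD1_c5 LD2_c11 LD3_c42) Lrfl Lrfl
theorem f21388 : Led Lsl_gt (LP (LK LD1_c1 LD2_c13 LD3_c18)) = (LP (LK LD1_c2 LD2_c32 LD3_c46)) :=
  Lre_g IH (LK LD1_c1 LD2_c13 LD3_c18) (LK LD1_c2 LD2_c32 LD3_c46) Lrfl Lrfl
theorem f185165 : Led Lsl_ct (LP (LK LD1_c2 LD2_c32 LD3_c46)) = (LP (LK LD1_c1 LD2_c13 LD3_c45)) :=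
  Lgr Lrot91 (Lpe (f21388 IH) (Lpe (f163721 IH) (Lpr_ct (f34345 IH) (Lpe (f164620 IH) (Lpr_cf (f177232 IH) (Lpr_bt (f35113 IH) (Lpe (f35051 IH) (Lpe (f35024 IH) (Lpr_ct (K8.f35027 IH) (Lpr_gf (f185153 IH) (Lpn (LP (LK LD1_c1 LD2_c13 LD3_c45)))))))))))))
theorem f185177 : Led Lsl_cf (LP (LK LD1_c2 LD2_c32 LD3_c46)) = (LP (LK LD1_c1 LD2_c13 LD3_c45)) :=
  Lgr Lrot11 (Lpr_ct (f185165 IH) (Lpn (LP (LK LD1_c1 LD2_c13 LD3_c45))))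
theorem f164445 : Led Lsl_at (LP (LK LD1_c5 LD2_c8 LD3_c19)) = (LP (LK LD1_c2 LD2_c31 LD3_c21)) :=
  Lre_a IH (LK LD1_c5 LD2_c8 LD3_c19) (LK LD1_c2 LD2_c31 LD3_c21) Lrfl Lrfl
theorem f34318 : Led Lsl_at (LP (LK LD1_c2 LD2_c32 LD3_c44)) = (LP (LK LD1_c5 LD2_c11 LD3_c39)) :=
  Lre_a IH (LK LD1_c2 LD2_c32 LD3_c44) (LK LD1_c5 LD2_c11 LD3_c39) Lrfl Lrfl
theorem f164446 : Led Lsl_ft (LP (LK LD1_c2 LD2_c31 LD3_c21)) = (LP (LK LD1_c2 LD2_c32 LD3_c44)) :=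
  Lgr Lrot101 (Lpe (f164445 IH) (Lpr_ff (f164442 IH) (Lpe (f34318 IH) (Lpn (LP (LK LD1_c2 LD2_c32 LD3_c44))))))
theorem f164113 : Led Lsl_bt (LP (LK LD1_c1 LD2_c12 LD3_c40)) = (LP (LK LD1_c2 LD2_c31 LD3_c21)) :=
  Lre_b IH (LK LD1_c1 LD2_c12 LD3_c40) (LK LD1_c2 LD2_c31 LD3_c21) Lrfl Lrfl
theorem f164625 : Led Lsl_ff (LP (LK LD1_c1 LD2_c12 LD3_c40)) = (LP (LK LD1_c1 LD2_c13 LD3_c18)) :=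
  Lgr Lrot25 (Lpr_bt (f164113 IH) (Lpr_ft (f164446 IH) (Lpr_bt (f163721 IH) (Lpn (LP (LK LD1_c1 LD2_c13 LD3_c18))))))
theorem f164104 : Led Lsl_at (LP (LK LD1_c1 LD2_c12 LD3_c40)) = (LP (LK LD1_c1 LD2_c14 LD3_c3)) :=
  Lgr Lrot107 (Lpe (K9.f53212 IH) (Lpr_af (K8.f164089 IH) (Lpe (K9.f163658 IH) (Lpn (LP (LK LD1_c1 LD2_c14 LD3_c3))))))
theorem f164635 : Led Lsl_gf (LP (LK LD1_c1 LD2_c14 LD3_c3)) = (LP (LK LD1_c2 LD2_c32 LD3_c46)) :=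
  Lgr Lrot76 (Lpe (f164104 IH) (Lpr_ff (f164625 IH) (Lpr_gt (f21388 IH) (Lpn (LP (LK LD1_c2 LD2_c32 LD3_c46))))))
theorem f22000 : Led Lsl_gt (LP (LK LD1_c1 LD2_c13 LD3_c16)) = (LP (LK LD1_c0 LD2_c33 LD3_c58)) :=
  Lre_g IH (LK LD1_c1 LD2_c13 LD3_c16) (LK LD1_c0 LD2_c33 LD3_c58) Lrfl Lrfl
theorem f163788 : Led Lsl_gt (LP (LK LD1_c1 LD2_c11 LD3_c54)) = (LP (LK LD1_c1 LD2_c13 LD3_c16)) :=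
  Lgr Lrot5 (Lpr_ft (K8.f21968 IH) (Lpr_at (K8.f163765 IH) (Lpe (f22000 IH) (Lpn (LP (LK LD1_c1 LD2_c13 LD3_c16))))))
theorem f163790 : Led Lsl_dt (LP (LK LD1_c1 LD2_c13 LD3_c16)) = (LP (LK LD1_c2 LD2_c32 LD3_c39)) :=
  Lre_d IH (LK LD1_c1 LD2_c13 LD3_c16) (LK LD1_c2 LD2_c32 LD3_c39) Lrfl Lrfl
theorem f185758 : Led Lsl_ct (LP (LK LD1_c2 LD2_c32 LD3_c39)) = (LP (LK LD1_c1 LD2_c13 LD3_c48)) :=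
  Lgr Lrot7 (Lpe (f163790 IH) (Lpe (f163788 IH) (Lpr_df (K8.f163916 IH) (Lpr_gf (f164635 IH) (Lpr_cf (f185177 IH) (Lpe (f185153 IH) (Lpr_dt (K9.f35185 IH) (Lpr_gt (f185750 IH) (Lpr_dt (f185753 IH) (Lpn (LP (LK LD1_c1 LD2_c13 LD3_c48))))))))))))
theorem f185818 : Led Lsl_gf (LP (LK LD1_c5 LD2_c2 LD3_c20)) = (LP (LK LD1_c2 LD2_c32 LD3_c39)) :=
  Lgr Lrot144 (Lpr_dt (f165287 IH) (Lpr_gt (K9.f165280 IH) (Lpr_dt (K9.f169582 IH) (Lpr_cf (K9.f166244 IH) (Lpe (K9.f164741 IH) (Lpe (f164751 IH) (Lpe (f166251 IH) (Lpr_gf (f185765 IH) (Lpe (f185758 IH) (Lpn (LP (LK LD1_c2 LD2_c32 LD3_c39))))))))))))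
theorem f185823 : Led Lsl_gf (LP (LK LD1_c0 LD2_c39 LD3_c32)) = (LP (LK LD1_c0 LD2_c27 LD3_c25)) :=
  Lgr Lrot143 (Lpe (K9.f177363 IH) (Lpe (K9.f165286 IH) (Lpe (f165287 IH) (Lpr_gf (f185818 IH) (Lpe (f163790 IH) (Lpe (f163788 IH) (Lpe (K8.f33390 IH) (Lpr_gt (K9.f165254 IH) (Lpe (K9.f171214 IH) (Lpn (LP (LK LD1_c0 LD2_c27 LD3_c25))))))))))))
theorem f185839 : Led Lsl_gf (LP (LK LD1_c0 LD2_c25 LD3_c53)) = (LP (LK LD1_c0 LD2_c12 LD3_c10)) :=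
  Lgr Lrot144 (Lpr_dt (K9.f28337 IH) (Lpe (f175302 IH) (Lpr_dt (K9.f28350 IH) (Lpe (K8.f28363 IH) (Lpe (K9.f21989 IH) (Lpe (K9.f169610 IH) (Lpr_df (K9.f177363 IH) (Lpr_gf (f185823 IH) (Lpe (K9.f31682 IH) (Lpn (LP (LK LD1_c0 LD2_c12 LD3_c10))))))))))))
theorem f25940 : Led Lsl_gt (LP (LK LD1_c0 LD2_c30 LD3_c7)) = (LP (LK LD1_c0 LD2_c13 LD3_c22)) :=
  Lre_g IH (LK LD1_c0 LD2_c30 LD3_c7) (LK LD1_c0 LD2_c13 LD3_c22) Lrfl Lrfl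
theorem f25953 : Led Lsl_et (LP (LK LD1_c1 LD2_c5 LD3_c57)) = (LP (LK LD1_c0 LD2_c30 LD3_c7)) :=
  Lre_e IH (LK LD1_c1 LD2_c5 LD3_c57) (LK LD1_c0 LD2_c30 LD3_c7) Lrfl Lrfl
theorem f25954 : Led Lsl_dt (LP (LK LD1_c1 LD2_c5 LD3_c57)) = (LP (LK LD1_c2 LD2_c17 LD3_c58)) :=
  Lre_d IH (LK LD1_c1 LD2_c5 LD3_c57) (LK LD1_c2 LD2_c17 LD3_c58) Lrfl Lrfl
theorem f26028 : Led Lsl_et (LP (LK LD1_c0 LD2_c6 LD3_c48)) = (LP (LK LD1_c0 LD2_c14 LD3_c49)) :=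
  Lre_e IH (LK LD1_c0 LD2_c6 LD3_c48) (LK LD1_c0 LD2_c14 LD3_c49) Lrfl Lrfl
theorem f26031 : Led Lsl_gf (LP (LK LD1_c2 LD2_c17 LD3_c58)) = (LP (LK LD1_c1 LD2_c11 LD3_c8)) :=
  Lgr Lrot134 (Lpe (f25954 IH) (Lpr_et (f25953 IH) (Lpr_gt (f25940 IH) (Lpe (K1.f25918 IH) (Lpr_dt (K0.f25724 IH) (Lpr_gt (K0.f26019 IH) (Lpe (K0.f12615 IH) (Lpr_et (f26028 IH) (Lpr_gt (K9.f26029 IH) (Lpr_dt (K9.f26030 IH) (Lpn (LP (LK LD1_c1 LD2_c11 LD3_c8)))))))))))))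
theorem f37530 : Led Lsl_bt (LP (LK LD1_c0 LD2_c32 LD3_c50)) = (LP (LK LD1_c1 LD2_c10 LD3_c45)) :=
  Lre_b IH (LK LD1_c0 LD2_c32 LD3_c50) (LK LD1_c1 LD2_c10 LD3_c45) Lrfl Lrfl
theorem f37531 : Led Lsl_dt (LP (LK LD1_c0 LD2_c32 LD3_c50)) = (LP (LK LD1_c0 LD2_c32 LD3_c50)) :=
  Lgr Lrot79 (Lpe (K2.f37522 IH) (Lpr_df (K1.f37525 IH) (Lpe (f37530 IH) (Lpn (LP (LK LD1_c0 LD2_c32 LD3_c50))))))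
theorem f27237 : Led Lsl_dt (LP (LK LD1_c1 LD2_c26 LD3_c22)) = (LP (LK LD1_c0 LD2_c39 LD3_c55)) :=
  Lre_d IH (LK LD1_c1 LD2_c26 LD3_c22) (LK LD1_c0 LD2_c39 LD3_c55) Lrfl Lrfl
theorem f185946 : Led Lsl_ef (LP (LK LD1_c2 LD2_c17 LD3_c58)) = (LP (LK LD1_c1 LD2_c26 LD3_c22)) :=
  Lgr Lrot17 (Lpr_gf (f26031 IH) (Lpr_ef (f175299 IH) (Lpr_dt (K9.f28341 IH) (Lpr_gf (f185839 IH) (Lpe (K9.f31450 IH) (Lpe (K9.f31679 IH) (Lpr_ef (K2.f37523 IH) (Lpr_dt (f37531 IH) (Lpr_gf (f37715 IH) (Lpe (f27237 IH) (Lpn (LP (LK LD1_c1 LD2_c26 LD3_c22)))))))))))))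
theorem f185950 : Led Lsl_et (LP (LK LD1_c2 LD2_c17 LD3_c58)) = (LP (LK LD1_c1 LD2_c26 LD3_c22)) :=
  Lgr Lrot87 (Lpr_ef (f185946 IH) (Lpn (LP (LK LD1_c1 LD2_c26 LD3_c22))))
theorem f26033 : Led Lsl_dt (LP (LK LD1_c2 LD2_c17 LD3_c58)) = (LP (LK LD1_c1 LD2_c5 LD3_c57)) :=
  Lre_d IH (LK LD1_c2 LD2_c17 LD3_c58) (LK LD1_c1 LD2_c5 LD3_c57) Lrfl Lrfl
theorem f185956 : Led Lsl_gf (LP (LK LD1_c1 LD2_c5 LD3_c57)) = (LP (LK LD1_c1 LD2_c27 LD3_c44)) :=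
  Lgr Lrot134 (Lpe (f26033 IH) (Lpr_et (f185950 IH) (Lpe (f56042 IH) (Lpe (f27245 IH) (Lpr_dt (K9.f27244 IH) (Lpr_gt (K9.f40816 IH) (Lpe (K9.f40792 IH) (Lpr_et (K9.f40807 IH) (Lpr_gt (K9.f101527 IH) (Lpr_dt (K9.f101524 IH) (Lpn (LP (LK LD1_c1 LD2_c27 LD3_c44)))))))))))))
theorem f9178 : Led Lsl_et (LP (LK LD1_c5 LD2_c46 LD3_c20)) = (LP (LK LD1_c2 LD2_c48 LD3_c54)) :=
  Lre_e IH (LK LD1_c5 LD2_c46 LD3_c20) (LK LD1_c2 LD2_c48 LD3_c54) Lrfl Lrfl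
theorem f9179 : Led Lsl_et (LP (LK LD1_c3 LD2_c21 LD3_c10)) = (LP (LK LD1_c6 LD2_c46 LD3_c13)) :=
  Lre_e IH (LK LD1_c3 LD2_c21 LD3_c10) (LK LD1_c6 LD2_c46 LD3_c13) Lrfl Lrfl
theorem f9180 : Led Lsl_dt (LP (LK LD1_c1 LD2_c36 LD3_c50)) = (LP (LK LD1_c3 LD2_c21 LD3_c10)) :=
  Lre_d IH (LK LD1_c1 LD2_c36 LD3_c50) (LK LD1_c3 LD2_c21 LD3_c10) Lrfl Lrfl
theorem f9182 : Led Lsl_dt (LP (LK LD1_c2 LD2_c48 LD3_c54)) = (LP (LK LD1_c2 LD2_c16 LD3_c41)) :=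
  Lgr Lrot77 (Lpe (f9178 IH) (Lpr_df (K0.f9154 IH) (Lpe (f9179 IH) (Lpe (f9180 IH) (Lpe (K0.f9181 IH) (Lpn (LP (LK LD1_c2 LD2_c16 LD3_c41))))))))
theorem f23951 : Led Lsl_gt (LP (LK LD1_c2 LD2_c16 LD3_c41)) = (LP (LK LD1_c4 LD2_c39 LD3_c26)) :=
  Lre_g IH (LK LD1_c2 LD2_c16 LD3_c41) (LK LD1_c4 LD2_c39 LD3_c26) Lrfl Lrfl
theorem f101537 : Led Lsl_ft (LP (LK LD1_c1 LD2_c11 LD3_c6)) = (LP (LK LD1_c2 LD2_c26 LD3_c50)) :=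
  Lre_f IH (LK LD1_c1 LD2_c11 LD3_c6) (LK LD1_c2 LD2_c26 LD3_c50) Lrfl Lrfl
theorem f20295 : Led Lsl_gt (LP (LK LD1_c1 LD2_c11 LD3_c6)) = (LP (LK LD1_c2 LD2_c27 LD3_c56)) :=
  Lre_g IH (LK LD1_c1 LD2_c11 LD3_c6) (LK LD1_c2 LD2_c27 LD3_c56) Lrfl Lrfl
theorem f101573 : Led Lsl_gt (LP (LK LD1_c2 LD2_c27 LD3_c56)) = (LP (LK LD1_c3 LD2_c3 LD3_c33)) :=
  Lgr Lrot46 (Lpe (f20295 IH) (Lpr_ft (f101537 IH) (Lpr_at (K9.f100499 IH) (Lpn (LP (LK LD1_c3 LD2_c3 LD3_c33))))))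
theorem f176524 : Led Lsl_ct (LP (LK LD1_c4 LD2_c39 LD3_c26)) = (LP (LK LD1_c2 LD2_c27 LD3_c56)) :=
  Lgr Lrot152 (Lpe (f23951 IH) (Lpe (f9182 IH) (Lpr_gt (K9.f24002 IH) (Lpr_ct (K9.f176126 IH) (Lpr_gt (K9.f26578 IH) (Lpr_ct (K9.f100616 IH) (Lpe (K9.f100602 IH) (Lpr_cf (K9.f100604 IH) (Lpe (f101573 IH) (Lpn (LP (LK LD1_c2 LD2_c27 LD3_c56))))))))))))
theorem f176529 : Led Lsl_cf (LP (LK LD1_c4 LD2_c39 LD3_c26)) = (LP (LK LD1_c2 LD2_c27 LD3_c56)) :=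
  Lgr Lrot11 (Lpr_ct (f176524 IH) (Lpn (LP (LK LD1_c2 LD2_c27 LD3_c56))))
theorem f176128 : Led Lsl_bt (LP (LK LD1_c6 LD2_c3 LD3_c61)) = (LP (LK LD1_c9 LD2_c14 LD3_c39)) :=
  Lre_b IH (LK LD1_c6 LD2_c3 LD3_c61) (LK LD1_c9 LD2_c14 LD3_c39) Lrfl Lrfl
theorem f100824 : Led Lsl_ct (LP (LK LD1_c17 LD2_c56 LD3_c55)) = (LP (LK LD1_c27 LD2_c41 LD3_c19)) :=
  Lre_c IH (LK LD1_c17 LD2_c56 LD3_c55) (LK LD1_c27 LD2_c41 LD3_c19) Lrfl Lrfl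
theorem f100892 : Led Lsl_gt (LP (LK LD1_c27 LD2_c41 LD3_c19)) = (LP (LK LD1_c18 LD2_c2 LD3_c3)) :=
  Lre_g IH (LK LD1_c27 LD2_c41 LD3_c19) (LK LD1_c18 LD2_c2 LD3_c3) Lrfl Lrfl
theorem f175757 : Led Lsl_gf (LP (LK LD1_c2 LD2_c57 LD3_c59)) = (LP (LK LD1_c2 LD2_c27 LD3_c58)) :=
  Lgr Lrot147 (Lpr_ct (f9428 IH) (Lpr_gt (f9427 IH) (Lpr_ct (K0.f9337 IH) (Lpe (K0.f9339 IH) (Lpe (K0.f9346 IH) (Lpe (K9.f9383 IH) (Lpe (f9433 IH) (Lpr_gf (f175591 IH) (Lpe (K9.f73952 IH) (Lpn (LP (LK LD1_c2 LD2_c27 LD3_c58))))))))))))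
theorem f9425 : Led Lsl_bt (LP (LK LD1_c2 LD2_c58 LD3_c5)) = (LP (LK LD1_c6 LD2_c4 LD3_c0)) :=
  Lre_b IH (LK LD1_c2 LD2_c58 LD3_c5) (LK LD1_c6 LD2_c4 LD3_c0) Lrfl Lrfl
theorem f9426 : Led Lsl_gt (LP (LK LD1_c6 LD2_c4 LD3_c0)) = (LP (LK LD1_c11 LD2_c51 LD3_c37)) :=
  Lre_g IH (LK LD1_c6 LD2_c4 LD3_c0) (LK LD1_c11 LD2_c51 LD3_c37) Lrfl Lrfl
theorem f9432 : Led Lsl_bt (LP (LK LD1_c20 LD2_c54 LD3_c3)) = (LP (LK LD1_c11 LD2_c51 LD3_c37)) :=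
  Lre_b IH (LK LD1_c20 LD2_c54 LD3_c3) (LK LD1_c11 LD2_c51 LD3_c37) Lrfl Lrfl
theorem f100820 : Led Lsl_ct (LP (LK LD1_c5 LD2_c0 LD3_c27)) = (LP (LK LD1_c9 LD2_c50 LD3_c50)) :=
  Lre_c IH (LK LD1_c5 LD2_c0 LD3_c27) (LK LD1_c9 LD2_c50 LD3_c50) Lrfl Lrfl
theorem f175771 : Led Lsl_gt (LP (LK LD1_c18 LD2_c2 LD3_c3)) = (LP (LK LD1_c9 LD2_c50 LD3_c50)) :=
  Lre_g IH (LK LD1_c18 LD2_c2 LD3_c3) (LK LD1_c9 LD2_c50 LD3_c50) Lrfl Lrfl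
theorem f175790 : Led Lsl_ct (LP (LK LD1_c20 LD2_c54 LD3_c3)) = (LP (LK LD1_c18 LD2_c2 LD3_c3)) :=
  Lgr Lrot64 (Lpr_bt (f9432 IH) (Lpe (f9426 IH) (Lpe (f9425 IH) (Lpr_ct (K0.f9378 IH) (Lpe (f9427 IH) (Lpe (f9428 IH) (Lpr_gf (f175757 IH) (Lpe (K9.f100715 IH) (Lpr_ct (f100820 IH) (Lpe (f175771 IH) (Lpn (LP (LK LD1_c18 LD2_c2 LD3_c3)))))))))))))
theorem f176129 : Led Lsl_gf (LP (LK LD1_c9 LD2_c14 LD3_c39)) = (LP (LK LD1_c11 LD2_c51 LD3_c37)) :=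
  Lgr Lrot124 (Lpe (f176128 IH) (Lpr_ct (K9.f176108 IH) (Lpr_gt (K9.f176109 IH) (Lpr_cf (K9.f176110 IH) (Lpr_bt (K9.f100885 IH) (Lpr_gt (K9.f100872 IH) (Lpr_ct (f100824 IH) (Lpr_gt (f100892 IH) (Lpe (f175790 IH) (Lpr_bt (f9432 IH) (Lpn (LP (LK LD1_c11 LD2_c51 LD3_c37)))))))))))))
theorem f176131 : Led Lsl_at (LP (LK LD1_c4 LD2_c39 LD3_c28)) = (LP (LK LD1_c9 LD2_c14 LD3_c39)) :=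
  Lre_a IH (LK LD1_c4 LD2_c39 LD3_c28) (LK LD1_c9 LD2_c14 LD3_c39) Lrfl Lrfl
theorem f176132 : Led Lsl_ff (LP (LK LD1_c4 LD2_c39 LD3_c28)) = (LP (LK LD1_c6 LD2_c4 LD3_c0)) :=
  Lgr Lrot52 (Lpr_at (f176131 IH) (Lpr_gf (f176129 IH) (Lpe (f9426 IH) (Lpn (LP (LK LD1_c6 LD2_c4 LD3_c0))))))
theorem f176136 : Led Lsl_ct (LP (LK LD1_c17 LD2_c7 LD3_c11)) = (LP (LK LD1_c9 LD2_c14 LD3_c39)) :=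
  Lre_c IH (LK LD1_c17 LD2_c7 LD3_c11) (LK LD1_c9 LD2_c14 LD3_c39) Lrfl Lrfl
theorem f176135 : Led Lsl_dt (LP (LK LD1_c27 LD2_c0 LD3_c32)) = (LP (LK LD1_c17 LD2_c7 LD3_c11)) :=
  Lre_d IH (LK LD1_c27 LD2_c0 LD3_c32) (LK LD1_c17 LD2_c7 LD3_c11) Lrfl Lrfl
theorem f176154 : Led Lsl_dt (LP (LK LD1_c6 LD2_c4 LD3_c0)) = (LP (LK LD1_c2 LD2_c58 LD3_c4)) :=
  Lre_d IH (LK LD1_c6 LD2_c4 LD3_c0) (LK LD1_c2 LD2_c58 LD3_c4) Lrfl Lrfl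
theorem f175785 : Led Lsl_ct (LP (LK LD1_c2 LD2_c58 LD3_c4)) = (LP (LK LD1_c6 LD2_c1 LD3_c38)) :=
  Lre_c IH (LK LD1_c2 LD2_c58 LD3_c4) (LK LD1_c6 LD2_c1 LD3_c38) Lrfl Lrfl
theorem f176155 : Led Lsl_dt (LP (LK LD1_c6 LD2_c1 LD3_c38)) = (LP (LK LD1_c11 LD2_c47 LD3_c61)) :=
  Lre_d IH (LK LD1_c6 LD2_c1 LD3_c38) (LK LD1_c11 LD2_c47 LD3_c61) Lrfl Lrfl
theorem f176156 : Led Lsl_ct (LP (LK LD1_c11 LD2_c47 LD3_c61)) = (LP (LK LD1_c20 LD2_c50 LD3_c32)) :=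
  Lre_c IH (LK LD1_c11 LD2_c47 LD3_c61) (LK LD1_c20 LD2_c50 LD3_c32) Lrfl Lrfl
theorem f176157 : Led Lsl_dt (LP (LK LD1_c20 LD2_c50 LD3_c32)) = (LP (LK LD1_c29 LD2_c42 LD3_c14)) :=
  Lre_d IH (LK LD1_c20 LD2_c50 LD3_c32) (LK LD1_c29 LD2_c42 LD3_c14) Lrfl Lrfl
theorem f176158 : Led Lsl_cf (LP (LK LD1_c27 LD2_c0 LD3_c32)) = (LP (LK LD1_c29 LD2_c42 LD3_c14)) :=
  Lgr Lrot161 (Lpr_dt (f176135 IH) (Lpr_ct (f176136 IH) (Lpe (f176131 IH) (Lpr_ff (f176132 IH) (Lpr_dt (f176154 IH) (Lpr_ct (f175785 IH) (Lpr_dt (f176155 IH) (Lpr_ct (f176156 IH) (Lpr_dt (f176157 IH) (Lpn (LP (LK LD1_c29 LD2_c42 LD3_c14))))))))))))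
theorem f176171 : Led Lsl_ft (LP (LK LD1_c6 LD2_c1 LD3_c38)) = (LP (LK LD1_c11 LD2_c20 LD3_c40)) :=
  Lre_f IH (LK LD1_c6 LD2_c1 LD3_c38) (LK LD1_c11 LD2_c20 LD3_c40) Lrfl Lrfl
theorem f176172 : Led Lsl_at (LP (LK LD1_c11 LD2_c20 LD3_c40)) = (LP (LK LD1_c20 LD2_c18 LD3_c8)) :=
  Lre_a IH (LK LD1_c11 LD2_c20 LD3_c40) (LK LD1_c20 LD2_c18 LD3_c8) Lrfl Lrfl
theorem f175774 : Led Lsl_ct (LP (LK LD1_c11 LD2_c22 LD3_c61)) = (LP (LK LD1_c20 LD2_c18 LD3_c8)) :=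
  Lre_c IH (LK LD1_c11 LD2_c22 LD3_c61) (LK LD1_c20 LD2_c18 LD3_c8) Lrfl Lrfl
theorem f176173 : Led Lsl_dt (LP (LK LD1_c9 LD2_c14 LD3_c39)) = (LP (LK LD1_c11 LD2_c22 LD3_c61)) :=
  Lgr Lrot120 (Lpe (f176136 IH) (Lpe (f176135 IH) (Lpr_cf (f176158 IH) (Lpe (f176157 IH) (Lpe (f176156 IH) (Lpe (f176155 IH) (Lpr_ft (f176171 IH) (Lpr_at (f176172 IH) (Lpe (f175774 IH) (Lpn (LP (LK LD1_c11 LD2_c22 LD3_c61))))))))))))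
theorem f176180 : Led Lsl_dt (LP (LK LD1_c11 LD2_c51 LD3_c36)) = (LP (LK LD1_c6 LD2_c3 LD3_c61)) :=
  Lre_d IH (LK LD1_c11 LD2_c51 LD3_c36) (LK LD1_c6 LD2_c3 LD3_c61) Lrfl Lrfl
theorem f176181 : Led Lsl_bf (LP (LK LD1_c11 LD2_c51 LD3_c36)) = (LP (LK LD1_c11 LD2_c22 LD3_c61)) :=
  Lgr Lrot93 (Lpr_dt (f176180 IH) (Lpr_bt (f176128 IH) (Lpr_dt (f176173 IH) (Lpn (LP (LK LD1_c11 LD2_c22 LD3_c61))))))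
theorem f176140 : Led Lsl_at (LP (LK LD1_c11 LD2_c51 LD3_c36)) = (LP (LK LD1_c6 LD2_c4 LD3_c0)) :=
  Lre_a IH (LK LD1_c11 LD2_c51 LD3_c36) (LK LD1_c6 LD2_c4 LD3_c0) Lrfl Lrfl
theorem f9332 : Led Lsl_bt (LP (LK LD1_c6 LD2_c4 LD3_c0)) = (LP (LK LD1_c2 LD2_c58 LD3_c5)) :=
  Lre_b IH (LK LD1_c6 LD2_c4 LD3_c0) (LK LD1_c2 LD2_c58 LD3_c5) Lrfl Lrfl
theorem f176424 : Led Lsl_at (LP (LK LD1_c5 LD2_c46 LD3_c21)) = (LP (LK LD1_c11 LD2_c22 LD3_c61)) :=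
  Lre_a IH (LK LD1_c5 LD2_c46 LD3_c21) (LK LD1_c11 LD2_c22 LD3_c61) Lrfl Lrfl
theorem f176445 : Led Lsl_at (LP (LK LD1_c2 LD2_c58 LD3_c5)) = (LP (LK LD1_c2 LD2_c48 LD3_c54)) :=
  Lgr Lrot67 (Lpe (f9332 IH) (Lpe (f176140 IH) (Lpr_bf (f176181 IH) (Lpe (f176424 IH) (Lpe (K9.f176098 IH) (Lpn (LP (LK LD1_c2 LD2_c48 LD3_c54))))))))
theorem f9281 : Led Lsl_et (LP (LK LD1_c6 LD2_c46 LD3_c14)) = (LP (LK LD1_c3 LD2_c21 LD3_c11)) :=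
  Lre_e IH (LK LD1_c6 LD2_c46 LD3_c14) (LK LD1_c3 LD2_c21 LD3_c11) Lrfl Lrfl
theorem f9282 : Led Lsl_ft (LP (LK LD1_c3 LD2_c21 LD3_c11)) = (LP (LK LD1_c1 LD2_c36 LD3_c50)) :=
  Lre_f IH (LK LD1_c3 LD2_c21 LD3_c11) (LK LD1_c1 LD2_c36 LD3_c50) Lrfl Lrfl
theorem f9283 : Led Lsl_et (LP (LK LD1_c1 LD2_c36 LD3_c50)) = (LP (LK LD1_c2 LD2_c16 LD3_c41)) :=
  Lre_e IH (LK LD1_c1 LD2_c36 LD3_c50) (LK LD1_c2 LD2_c16 LD3_c41) Lrfl Lrfl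
theorem f9284 : Led Lsl_et (LP (LK LD1_c2 LD2_c58 LD3_c5)) = (LP (LK LD1_c6 LD2_c4 LD3_c1)) :=
  Lre_e IH (LK LD1_c2 LD2_c58 LD3_c5) (LK LD1_c6 LD2_c4 LD3_c1) Lrfl Lrfl
theorem f9285 : Led Lsl_ft (LP (LK LD1_c2 LD2_c16 LD3_c41)) = (LP (LK LD1_c2 LD2_c58 LD3_c5)) :=
  Lgr Lrot86 (Lpe (f9283 IH) (Lpe (f9282 IH) (Lpe (f9281 IH) (Lpr_ff (K0.f9256 IH) (Lpe (f9284 IH) (Lpn (LP (LK LD1_c2 LD2_c58 LD3_c5))))))))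
theorem f176450 : Led Lsl_gt (LP (LK LD1_c4 LD2_c39 LD3_c26)) = (LP (LK LD1_c2 LD2_c48 LD3_c54)) :=
  Lgr Lrot46 (Lpe (f23951 IH) (Lpr_ft (f9285 IH) (Lpr_at (f176445 IH) (Lpn (LP (LK LD1_c2 LD2_c48 LD3_c54))))))
theorem f26683 : Led Lsl_dt (LP (LK LD1_c1 LD2_c20 LD3_c33)) = (LP (LK LD1_c0 LD2_c37 LD3_c13)) :=
  Lre_d IH (LK LD1_c1 LD2_c20 LD3_c33) (LK LD1_c0 LD2_c37 LD3_c13) Lrfl Lrfl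
theorem f26690 : Led Lsl_ct (LP (LK LD1_c1 LD2_c5 LD3_c15)) = (LP (LK LD1_c0 LD2_c29 LD3_c48)) :=
  Lre_c IH (LK LD1_c1 LD2_c5 LD3_c15) (LK LD1_c0 LD2_c29 LD3_c48) Lrfl Lrfl
theorem f176553 : Led Lsl_gf (LP (LK LD1_c1 LD2_c5 LD3_c15)) = (LP (LK LD1_c0 LD2_c32 LD3_c58)) :=
  Lgr Lrot147 (Lpr_ct (f26690 IH) (Lpr_gt (K0.f20585 IH) (Lpr_ct (K9.f26662 IH) (Lpe (f26683 IH) (Lpe (K9.f24003 IH) (Lpe (f176450 IH) (Lpr_cf (f176529 IH) (Lpe (f20295 IH) (Lpe (K9.f20294 IH) (Lpn (LP (LK LD1_c0 LD2_c32 LD3_c58))))))))))))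
theorem f26702 : Led Lsl_dt (LP (LK LD1_c1 LD2_c5 LD3_c15)) = (LP (LK LD1_c2 LD2_c16 LD3_c43)) :=
  Lre_d IH (LK LD1_c1 LD2_c5 LD3_c15) (LK LD1_c2 LD2_c16 LD3_c43) Lrfl Lrfl
theorem f20433 : Led Lsl_et (LP (LK LD1_c0 LD2_c14 LD3_c48)) = (LP (LK LD1_c0 LD2_c32 LD3_c58)) :=
  Lre_e IH (LK LD1_c0 LD2_c14 LD3_c48) (LK LD1_c0 LD2_c32 LD3_c58) Lrfl Lrfl
theorem f56686 : Led Lsl_et (LP (LK LD1_c0 LD2_c7 LD3_c26)) = (LP (LK LD1_c0 LD2_c16 LD3_c43)) :=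
  Lre_e IH (LK LD1_c0 LD2_c7 LD3_c26) (LK LD1_c0 LD2_c16 LD3_c43) Lrfl Lrfl
theorem f56687 : Led Lsl_gt (LP (LK LD1_c0 LD2_c37 LD3_c32)) = (LP (LK LD1_c0 LD2_c16 LD3_c43)) :=
  Lre_g IH (LK LD1_c0 LD2_c37 LD3_c32) (LK LD1_c0 LD2_c16 LD3_c43) Lrfl Lrfl
theorem f56688 : Led Lsl_et (LP (LK LD1_c1 LD2_c21 LD3_c22)) = (LP (LK LD1_c0 LD2_c37 LD3_c32)) :=
  Lre_e IH (LK LD1_c1 LD2_c21 LD3_c22) (LK LD1_c0 LD2_c37 LD3_c32) Lrfl Lrfl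
theorem f56689 : Led Lsl_dt (LP (LK LD1_c1 LD2_c21 LD3_c22)) = (LP (LK LD1_c2 LD2_c50 LD3_c45)) :=
  Lre_d IH (LK LD1_c1 LD2_c21 LD3_c22) (LK LD1_c2 LD2_c50 LD3_c45) Lrfl Lrfl
theorem f176572 : Led Lsl_gt (LP (LK LD1_c2 LD2_c16 LD3_c43)) = (LP (LK LD1_c2 LD2_c50 LD3_c45)) :=
  Lgr Lrot139 (Lpe (f26702 IH) (Lpr_gf (f176553 IH) (Lpe (f20433 IH) (Lpr_dt (K0.f20273 IH) (Lpr_gf (K1.f56582 IH) (Lpe (K1.f20556 IH) (Lpr_et (f56686 IH) (Lpe (f56687 IH) (Lpe (f56688 IH) (Lpr_dt (f56689 IH) (Lpn (LP (LK LD1_c2 LD2_c50 LD3_c45)))))))))))))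
theorem f176590 : Led Lsl_dt (LP (LK LD1_c2 LD2_c50 LD3_c45)) = (LP (LK LD1_c1 LD2_c21 LD3_c22)) :=
  Lre_d IH (LK LD1_c2 LD2_c50 LD3_c45) (LK LD1_c1 LD2_c21 LD3_c22) Lrfl Lrfl
theorem f176598 : Led Lsl_ct (LP (LK LD1_c1 LD2_c5 LD3_c57)) = (LP (LK LD1_c1 LD2_c21 LD3_c22)) :=
  Lgr Lrot7 (Lpe (f26033 IH) (Lpr_gf (f26031 IH) (Lpe (K9.f26030 IH) (Lpe (K9.f26029 IH) (Lpe (K9.f26035 IH) (Lpe (f176553 IH) (Lpr_dt (f26702 IH) (Lpr_gt (f176572 IH) (Lpr_dt (f176590 IH) (Lpn (LP (LK LD1_c1 LD2_c21 LD3_c22))))))))))))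
theorem f9390 : Led Lsl_ct (LP (LK LD1_c1 LD2_c24 LD3_c46)) = (LP (LK LD1_c0 LD2_c39 LD3_c2)) :=
  Lre_c IH (LK LD1_c1 LD2_c24 LD3_c46) (LK LD1_c0 LD2_c39 LD3_c2) Lrfl Lrfl
theorem f185962 : Led Lsl_gt (LP (LK LD1_c1 LD2_c21 LD3_c22)) = (LP (LK LD1_c1 LD2_c24 LD3_c46)) :=
  Lgr Lrot150 (Lpe (f176598 IH) (Lpr_gf (f185956 IH) (Lpe (K9.f101524 IH) (Lpr_gt (K9.f101509 IH) (Lpr_ct (K9.f100592 IH) (Lpe (K9.f172121 IH) (Lpr_ct (K9.f9422 IH) (Lpe (K9.f9399 IH) (Lpe (f9390 IH) (Lpn (LP (LK LD1_c1 LD2_c24 LD3_c46))))))))))))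
theorem f26685 : Led Lsl_dt (LP (LK LD1_c2 LD2_c16 LD3_c43)) = (LP (LK LD1_c1 LD2_c5 LD3_c15)) :=
  Lre_d IH (LK LD1_c2 LD2_c16 LD3_c43) (LK LD1_c1 LD2_c5 LD3_c15) Lrfl Lrfl
theorem f100598 : Led Lsl_ft (LP (LK LD1_c0 LD2_c32 LD3_c58)) = (LP (LK LD1_c1 LD2_c10 LD3_c41)) :=
  Lre_f IH (LK LD1_c0 LD2_c32 LD3_c58) (LK LD1_c1 LD2_c10 LD3_c41) Lrfl Lrfl
theorem f100566 : Led Lsl_at (LP (LK LD1_c4 LD2_c57 LD3_c2)) = (LP (LK LD1_c2 LD2_c26 LD3_c43)) :=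
  Lre_a IH (LK LD1_c4 LD2_c57 LD3_c2) (LK LD1_c2 LD2_c26 LD3_c43) Lrfl Lrfl
theorem f100567 : Led Lsl_bt (LP (LK LD1_c2 LD2_c26 LD3_c43)) = (LP (LK LD1_c1 LD2_c10 LD3_c41)) :=
  Lre_b IH (LK LD1_c2 LD2_c26 LD3_c43) (LK LD1_c1 LD2_c10 LD3_c41) Lrfl Lrfl
theorem f100556 : Led Lsl_at (LP (LK LD1_c3 LD2_c3 LD3_c31)) = (LP (LK LD1_c6 LD2_c13 LD3_c19)) :=
  Lre_a IH (LK LD1_c3 LD2_c3 LD3_c31) (LK LD1_c6 LD2_c13 LD3_c19) Lrfl Lrfl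
theorem f100568 : Led Lsl_bt (LP (LK LD1_c1 LD2_c27 LD3_c41)) = (LP (LK LD1_c3 LD2_c3 LD3_c31)) :=
  Lre_b IH (LK LD1_c1 LD2_c27 LD3_c41) (LK LD1_c3 LD2_c3 LD3_c31) Lrfl Lrfl
theorem f100569 : Led Lsl_at (LP (LK LD1_c1 LD2_c10 LD3_c41)) = (LP (LK LD1_c1 LD2_c27 LD3_c41)) :=
  Lgr Lrot67 (Lpe (f100567 IH) (Lpe (f100566 IH) (Lpr_bf (K7.f100546 IH) (Lpe (f100556 IH) (Lpe (f100568 IH) (Lpn (LP (LK LD1_c1 LD2_c27 LD3_c41))))))))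
theorem f176558 : Led Lsl_gt (LP (LK LD1_c1 LD2_c5 LD3_c15)) = (LP (LK LD1_c1 LD2_c27 LD3_c41)) :=
  Lgr Lrot46 (Lpr_gf (f176553 IH) (Lpr_ft (f100598 IH) (Lpr_at (f100569 IH) (Lpn (LP (LK LD1_c1 LD2_c27 LD3_c41))))))
theorem f176602 : Led Lsl_ct (LP (LK LD1_c2 LD2_c50 LD3_c45)) = (LP (LK LD1_c5 LD2_c49 LD3_c20)) :=
  Lre_c IH (LK LD1_c2 LD2_c50 LD3_c45) (LK LD1_c5 LD2_c49 LD3_c20) Lrfl Lrfl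
theorem f176603 : Led Lsl_gf (LP (LK LD1_c2 LD2_c57 LD3_c56)) = (LP (LK LD1_c5 LD2_c49 LD3_c20)) :=
  Lgr Lrot104 (Lpr_ct (f175572 IH) (Lpe (f172679 IH) (Lpr_cf (K9.f175569 IH) (Lpr_gf (K9.f100652 IH) (Lpe (K9.f100618 IH) (Lpe (f176558 IH) (Lpe (f26685 IH) (Lpr_gt (f176572 IH) (Lpr_ct (f176602 IH) (Lpn (LP (LK LD1_c5 LD2_c49 LD3_c20))))))))))))
theorem f100630 : Led Lsl_ft (LP (LK LD1_c2 LD2_c27 LD3_c58)) = (LP (LK LD1_c4 LD2_c57 LD3_c61)) :=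
  Lre_f IH (LK LD1_c2 LD2_c27 LD3_c58) (LK LD1_c4 LD2_c57 LD3_c61) Lrfl Lrfl
theorem f100631 : Led Lsl_af (LP (LK LD1_c5 LD2_c0 LD3_c28)) = (LP (LK LD1_c4 LD2_c57 LD3_c61)) :=
  Lgr Lrot109 (Lpr_cf (K9.f100604 IH) (Lpe (K9.f100603 IH) (Lpe (K9.f100619 IH) (Lpe (K9.f100620 IH) (Lpe (K9.f100618 IH) (Lpe (K9.f100617 IH) (Lpe (K9.f100614 IH) (Lpe (K9.f73952 IH) (Lpr_ft (f100630 IH) (Lpn (LP (LK LD1_c4 LD2_c57 LD3_c61))))))))))))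
theorem f175788 : Led Lsl_gt (LP (LK LD1_c2 LD2_c57 LD3_c59)) = (LP (LK LD1_c5 LD2_c0 LD3_c28)) :=
  Lgr Lrot46 (Lpr_gf (f175757 IH) (Lpr_ft (f100630 IH) (Lpe (f100631 IH) (Lpn (LP (LK LD1_c5 LD2_c0 LD3_c28))))))
theorem f100680 : Led Lsl_bt (LP (LK LD1_c0 LD2_c32 LD3_c45)) = (LP (LK LD1_c0 LD2_c16 LD3_c35)) :=
  Lre_b IH (LK LD1_c0 LD2_c32 LD3_c45) (LK LD1_c0 LD2_c16 LD3_c35) Lrfl Lrfl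
theorem f175886 : Led Lsl_gt (LP (LK LD1_c1 LD2_c5 LD3_c17)) = (LP (LK LD1_c0 LD2_c32 LD3_c58)) :=
  Lgr Lrot149 (Lpe (K9.f24449 IH) (Lpe (K9.f20235 IH) (Lpe (f100680 IH) (Lpr_ct (K9.f100681 IH) (Lpe (K9.f172123 IH) (Lpe (K9.f9391 IH) (Lpr_bt (K9.f175825 IH) (Lpe (K9.f9386 IH) (Lpe (K9.f9360 IH) (Lpr_ct (K9.f26036 IH) (Lpn (LP (LK LD1_c0 LD2_c32 LD3_c58)))))))))))))
theorem f24450 : Led Lsl_dt (LP (LK LD1_c2 LD2_c16 LD3_c45)) = (LP (LK LD1_c1 LD2_c5 LD3_c17)) :=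
  Lre_d IH (LK LD1_c2 LD2_c16 LD3_c45) (LK LD1_c1 LD2_c5 LD3_c17) Lrfl Lrfl
theorem f176609 : Led Lsl_gf (LP (LK LD1_c2 LD2_c16 LD3_c45)) = (LP (LK LD1_c2 LD2_c50 LD3_c45)) :=
  Lgr Lrot144 (Lpr_dt (f24450 IH) (Lpr_gt (f175886 IH) (Lpr_dt (K9.f20294 IH) (Lpe (K9.f100601 IH) (Lpe (K9.f100602 IH) (Lpe (f175788 IH) (Lpr_df (f175672 IH) (Lpr_gf (f176603 IH) (Lpe (f176602 IH) (Lpn (LP (LK LD1_c2 LD2_c50 LD3_c45))))))))))))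
theorem f176614 : Led Lsl_ct (LP (LK LD1_c2 LD2_c16 LD3_c45)) = (LP (LK LD1_c4 LD2_c39 LD3_c32)) :=
  Lre_c IH (LK LD1_c2 LD2_c16 LD3_c45) (LK LD1_c4 LD2_c39 LD3_c32) Lrfl Lrfl
theorem f26700 : Led Lsl_ct (LP (LK LD1_c2 LD2_c16 LD3_c43)) = (LP (LK LD1_c4 LD2_c39 LD3_c30)) :=
  Lre_c IH (LK LD1_c2 LD2_c16 LD3_c43) (LK LD1_c4 LD2_c39 LD3_c30) Lrfl Lrfl
theorem f9340 : Led Lsl_ft (LP (LK LD1_c2 LD2_c48 LD3_c54)) = (LP (LK LD1_c1 LD2_c24 LD3_c42)) :=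
  Lre_f IH (LK LD1_c2 LD2_c48 LD3_c54) (LK LD1_c1 LD2_c24 LD3_c42) Lrfl Lrfl
theorem f9341 : Led Lsl_dt (LP (LK LD1_c2 LD2_c16 LD3_c41)) = (LP (LK LD1_c2 LD2_c48 LD3_c54)) :=
  Lgr Lrot60 (Lpr_ff (K0.f9316 IH) (Lpe (K0.f9339 IH) (Lpe (f9340 IH) (Lpn (LP (LK LD1_c2 LD2_c48 LD3_c54))))))
theorem f176560 : Led Lsl_df (LP (LK LD1_c4 LD2_c39 LD3_c30)) = (LP (LK LD1_c4 LD2_c39 LD3_c27)) :=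
  Lgr Lrot84 (Lpe (f26700 IH) (Lpe (f26702 IH) (Lpr_gf (f176553 IH) (Lpe (K9.f100600 IH) (Lpe (K9.f26578 IH) (Lpe (K9.f176126 IH) (Lpr_gt (K9.f176081 IH) (Lpr_dt (f9341 IH) (Lpr_gt (K9.f24002 IH) (Lpn (LP (LK LD1_c4 LD2_c39 LD3_c27))))))))))))
theorem f176697 : Led Lsl_dt (LP (LK LD1_c4 LD2_c39 LD3_c30)) = (LP (LK LD1_c4 LD2_c39 LD3_c27)) :=
  Lgr Lrot42 (Lpr_df (f176560 IH) (Lpn (LP (LK LD1_c4 LD2_c39 LD3_c27))))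
theorem f9402 : Led Lsl_ct (LP (LK LD1_c1 LD2_c20 LD3_c33)) = (LP (LK LD1_c2 LD2_c48 LD3_c54)) :=
  Lre_c IH (LK LD1_c1 LD2_c20 LD3_c33) (LK LD1_c2 LD2_c48 LD3_c54) Lrfl Lrfl
theorem f23975 : Led Lsl_dt (LP (LK LD1_c2 LD2_c16 LD3_c36)) = (LP (LK LD1_c1 LD2_c5 LD3_c11)) :=
  Lre_d IH (LK LD1_c2 LD2_c16 LD3_c36) (LK LD1_c1 LD2_c5 LD3_c11) Lrfl Lrfl
theorem f175903 : Led Lsl_gt (LP (LK LD1_c4 LD2_c39 LD3_c13)) = (LP (LK LD1_c2 LD2_c16 LD3_c36)) :=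
  Lre_g IH (LK LD1_c4 LD2_c39 LD3_c13) (LK LD1_c2 LD2_c16 LD3_c36) Lrfl Lrfl
theorem f176700 : Led Lsl_ct (LP (LK LD1_c9 LD2_c14 LD3_c7)) = (LP (LK LD1_c4 LD2_c39 LD3_c13)) :=
  Lre_c IH (LK LD1_c9 LD2_c14 LD3_c7) (LK LD1_c4 LD2_c39 LD3_c13) Lrfl Lrfl
theorem f176701 : Led Lsl_gf (LP (LK LD1_c4 LD2_c39 LD3_c30)) = (LP (LK LD1_c9 LD2_c14 LD3_c7)) :=
  Lgr Lrot144 (Lpr_dt (f176697 IH) (Lpr_gt (K9.f176081 IH) (Lpr_dt (f9341 IH) (Lpe (f9402 IH) (Lpe (K9.f23957 IH) (Lpe (K9.f23958 IH) (Lpe (f23975 IH) (Lpe (f175903 IH) (Lpe (f176700 IH) (Lpn (LP (LK LD1_c9 LD2_c14 LD3_c7))))))))))))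
theorem f176562 : Led Lsl_ct (LP (LK LD1_c4 LD2_c39 LD3_c30)) = (LP (LK LD1_c2 LD2_c16 LD3_c43)) :=
  Lre_c IH (LK LD1_c4 LD2_c39 LD3_c30) (LK LD1_c2 LD2_c16 LD3_c43) Lrfl Lrfl
theorem f20578 : Led Lsl_ct (LP (LK LD1_c0 LD2_c29 LD3_c48)) = (LP (LK LD1_c1 LD2_c5 LD3_c15)) :=
  Lre_c IH (LK LD1_c0 LD2_c29 LD3_c48) (LK LD1_c1 LD2_c5 LD3_c15) Lrfl Lrfl
theorem f23947 : Led Lsl_ct (LP (LK LD1_c0 LD2_c29 LD3_c47)) = (LP (LK LD1_c0 LD2_c13 LD3_c5)) :=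
  Lre_c IH (LK LD1_c0 LD2_c29 LD3_c47) (LK LD1_c0 LD2_c13 LD3_c5) Lrfl Lrfl
theorem f26664 : Led Lsl_dt (LP (LK LD1_c1 LD2_c5 LD3_c12)) = (LP (LK LD1_c2 LD2_c16 LD3_c38)) :=
  Lre_d IH (LK LD1_c1 LD2_c5 LD3_c12) (LK LD1_c2 LD2_c16 LD3_c38) Lrfl Lrfl
theorem f176703 : Led Lsl_ct (LP (LK LD1_c4 LD2_c39 LD3_c13)) = (LP (LK LD1_c9 LD2_c14 LD3_c7)) :=
  Lre_c IH (LK LD1_c4 LD2_c39 LD3_c13) (LK LD1_c9 LD2_c14 LD3_c7) Lrfl Lrfl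
theorem f176705 : Led Lsl_gt (LP (LK LD1_c2 LD2_c16 LD3_c38)) = (LP (LK LD1_c4 LD2_c39 LD3_c13)) :=
  Lgr Lrot9 (Lpe (f26664 IH) (Lpr_gt (K9.f68587 IH) (Lpr_ct (f23947 IH) (Lpr_gt (K0.f20569 IH) (Lpr_ct (f20578 IH) (Lpe (f26685 IH) (Lpe (f176562 IH) (Lpr_gf (f176701 IH) (Lpe (f176703 IH) (Lpn (LP (LK LD1_c4 LD2_c39 LD3_c13))))))))))))
theorem f26665 : Led Lsl_ct (LP (LK LD1_c0 LD2_c37 LD3_c13)) = (LP (LK LD1_c0 LD2_c16 LD3_c35)) :=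
  Lre_c IH (LK LD1_c0 LD2_c37 LD3_c13) (LK LD1_c0 LD2_c16 LD3_c35) Lrfl Lrfl
theorem f24225 : Led Lsl_dt (LP (LK LD1_c0 LD2_c29 LD3_c49)) = (LP (LK LD1_c1 LD2_c5 LD3_c18)) :=
  Lre_d IH (LK LD1_c0 LD2_c29 LD3_c49) (LK LD1_c1 LD2_c5 LD3_c18) Lrfl Lrfl
theorem f26660 : Led Lsl_gt (LP (LK LD1_c1 LD2_c5 LD3_c18)) = (LP (LK LD1_c1 LD2_c4 LD3_c6)) :=
  Lgr Lrot139 (Lpe (f24225 IH) (Lpe (K9.f20235 IH) (Lpe (K0.f20586 IH) (Lpr_dt (K0.f20231 IH) (Lpe (K9.f20651 IH) (Lpe (K9.f20665 IH) (Lpr_et (K9.f20737 IH) (Lpe (K9.f20729 IH) (Lpr_ef (K9.f26651 IH) (Lpr_dt (K9.f26632 IH) (Lpn (LP (LK LD1_c1 LD2_c4 LD3_c6)))))))))))))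
theorem f176709 : Led Lsl_df (LP (LK LD1_c2 LD2_c58 LD3_c10)) = (LP (LK LD1_c4 LD2_c39 LD3_c13)) :=
  Lgr Lrot84 (Lpe (K9.f26648 IH) (Lpe (K9.f22425 IH) (Lpe (f26660 IH) (Lpe (f24225 IH) (Lpe (K9.f20235 IH) (Lpe (f26665 IH) (Lpr_gt (K9.f26663 IH) (Lpr_dt (f26664 IH) (Lpr_gt (f176705 IH) (Lpn (LP (LK LD1_c4 LD2_c39 LD3_c13))))))))))))
theorem f185985 : Led Lsl_gt (LP (LK LD1_c4 LD2_c39 LD3_c32)) = (LP (LK LD1_c9 LD2_c14 LD3_c7)) :=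
  Lgr Lrot150 (Lpe (f176614 IH) (Lpr_gf (f176609 IH) (Lpe (f56689 IH) (Lpr_gt (f185962 IH) (Lpr_ct (f9390 IH) (Lpr_gt (K9.f22424 IH) (Lpr_ct (K9.f26648 IH) (Lpr_df (f176709 IH) (Lpe (f176700 IH) (Lpn (LP (LK LD1_c9 LD2_c14 LD3_c7))))))))))))
theorem f176617 : Led Lsl_dt (LP (LK LD1_c1 LD2_c5 LD3_c17)) = (LP (LK LD1_c2 LD2_c16 LD3_c45)) :=
  Lre_d IH (LK LD1_c1 LD2_c5 LD3_c17) (LK LD1_c2 LD2_c16 LD3_c45) Lrfl Lrfl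
theorem f176774 : Led Lsl_df (LP (LK LD1_c4 LD2_c39 LD3_c32)) = (LP (LK LD1_c4 LD2_c39 LD3_c26)) :=
  Lgr Lrot84 (Lpe (f176614 IH) (Lpe (f176617 IH) (Lpr_gf (K9.f176767 IH) (Lpe (K9.f100617 IH) (Lpe (f101573 IH) (Lpe (f176524 IH) (Lpr_gt (f176450 IH) (Lpr_dt (f9182 IH) (Lpr_gt (f23951 IH) (Lpn (LP (LK LD1_c4 LD2_c39 LD3_c26))))))))))))
theorem f23938 : Led Lsl_ct (LP (LK LD1_c2 LD2_c16 LD3_c40)) = (LP (LK LD1_c4 LD2_c39 LD3_c24)) :=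
  Lre_c IH (LK LD1_c2 LD2_c16 LD3_c40) (LK LD1_c4 LD2_c39 LD3_c24) Lrfl Lrfl
theorem f175898 : Led Lsl_ct (LP (LK LD1_c2 LD2_c16 LD3_c36)) = (LP (LK LD1_c4 LD2_c39 LD3_c14)) :=
  Lre_c IH (LK LD1_c2 LD2_c16 LD3_c36) (LK LD1_c4 LD2_c39 LD3_c14) Lrfl Lrfl
theorem f186001 : Led Lsl_df (LP (LK LD1_c4 LD2_c39 LD3_c24)) = (LP (LK LD1_c4 LD2_c39 LD3_c14)) :=
  Lgr Lrot162 (Lpe (f23938 IH) (Lpe (K9.f23956 IH) (Lpe (K9.f24003 IH) (Lpe (f176450 IH) (Lpe (f176774 IH) (Lpr_gt (f185985 IH) (Lpr_ct (f176700 IH) (Lpr_gt (f175903 IH) (Lpr_ct (f175898 IH) (Lpn (LP (LK LD1_c4 LD2_c39 LD3_c14))))))))))))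
theorem f23949 : Led Lsl_ct (LP (LK LD1_c4 LD2_c39 LD3_c24)) = (LP (LK LD1_c2 LD2_c16 LD3_c40)) :=
  Lre_c IH (LK LD1_c4 LD2_c39 LD3_c24) (LK LD1_c2 LD2_c16 LD3_c40) Lrfl Lrfl
theorem f176062 : Led Lsl_ct (LP (LK LD1_c2 LD2_c16 LD3_c38)) = (LP (LK LD1_c4 LD2_c39 LD3_c18)) :=
  Lre_c IH (LK LD1_c2 LD2_c16 LD3_c38) (LK LD1_c4 LD2_c39 LD3_c18) Lrfl Lrfl
theorem f176063 : Led Lsl_df (LP (LK LD1_c4 LD2_c39 LD3_c18)) = (LP (LK LD1_c4 LD2_c39 LD3_c21)) :=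
  Lgr Lrot84 (Lpe (f176062 IH) (Lpe (f26664 IH) (Lpe (K9.f26663 IH) (Lpe (f26683 IH) (Lpe (K9.f26684 IH) (Lpe (K9.f176061 IH) (Lpr_gt (K9.f176055 IH) (Lpr_dt (K9.f100696 IH) (Lpe (K9.f176059 IH) (Lpn (LP (LK LD1_c4 LD2_c39 LD3_c21))))))))))))
theorem f176077 : Led Lsl_dt (LP (LK LD1_c4 LD2_c39 LD3_c18)) = (LP (LK LD1_c4 LD2_c39 LD3_c21)) :=
  Lgr Lrot42 (Lpr_df (f176063 IH) (Lpn (LP (LK LD1_c4 LD2_c39 LD3_c21))))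
theorem f177746 : Led Lsl_df (LP (LK LD1_c2 LD2_c30 LD3_c13)) = (LP (LK LD1_c2 LD2_c16 LD3_c39)) :=
  Lgr Lrot38 (Lpr_dt (K9.f177744 IH) (Lpn (LP (LK LD1_c2 LD2_c16 LD3_c39))))
theorem f175897 : Led Lsl_dt (LP (LK LD1_c1 LD2_c5 LD3_c11)) = (LP (LK LD1_c2 LD2_c16 LD3_c36)) :=
  Lre_d IH (LK LD1_c1 LD2_c5 LD3_c11) (LK LD1_c2 LD2_c16 LD3_c36) Lrfl Lrfl
theorem f186007 : Led Lsl_ct (LP (LK LD1_c2 LD2_c30 LD3_c13)) = (LP (LK LD1_c1 LD2_c27 LD3_c42)) :=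
  Lgr Lrot176 (Lpr_df (f177746 IH) (Lpe (K9.f176061 IH) (Lpe (f176077 IH) (Lpe (f176062 IH) (Lpe (f26664 IH) (Lpr_cf (K9.f176795 IH) (Lpe (K9.f101510 IH) (Lpe (K9.f175901 IH) (Lpe (K9.f23939 IH) (Lpe (f23949 IH) (Lpr_df (f186001 IH) (Lpe (f175898 IH) (Lpe (f175897 IH) (Lpr_cf (K9.f175893 IH) (Lpe (K9.f59128 IH) (Lpn (LP (LK LD1_c1 LD2_c27 LD3_c42))))))))))))))))))
theorem f24229 : Led Lsl_ct (LP (LK LD1_c1 LD2_c5 LD3_c18)) = (LP (LK LD1_c2 LD2_c16 LD3_c46)) :=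
  Lre_c IH (LK LD1_c1 LD2_c5 LD3_c18) (LK LD1_c2 LD2_c16 LD3_c46) Lrfl Lrfl
theorem f176718 : Led Lsl_df (LP (LK LD1_c2 LD2_c16 LD3_c46)) = (LP (LK LD1_c2 LD2_c27 LD3_c57)) :=
  Lgr Lrot84 (Lpe (f24229 IH) (Lpe (f24225 IH) (Lpe (K9.f20235 IH) (Lpe (K9.f9372 IH) (Lpe (K0.f20585 IH) (Lpe (f26690 IH) (Lpr_gt (f176558 IH) (Lpr_dt (K9.f100603 IH) (Lpe (K9.f101577 IH) (Lpn (LP (LK LD1_c2 LD2_c27 LD3_c57))))))))))))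
theorem f177755 : Led Lsl_gt (LP (LK LD1_c2 LD2_c30 LD3_c13)) = (LP (LK LD1_c2 LD2_c45 LD3_c17)) :=
  Lgr Lrot146 (Lpr_dt (K9.f177744 IH) (Lpr_gt (K9.f26684 IH) (Lpr_ct (f9402 IH) (Lpr_gt (K9.f24002 IH) (Lpr_ct (K9.f176126 IH) (Lpe (f176718 IH) (Lpe (f24229 IH) (Lpr_gf (K9.f24444 IH) (Lpe (K9.f24446 IH) (Lpn (LP (LK LD1_c2 LD2_c45 LD3_c17))))))))))))
theorem f176606 : Led Lsl_ct (LP (LK LD1_c5 LD2_c49 LD3_c20)) = (LP (LK LD1_c2 LD2_c50 LD3_c45)) :=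
  Lre_c IH (LK LD1_c5 LD2_c49 LD3_c20) (LK LD1_c2 LD2_c50 LD3_c45) Lrfl Lrfl
theorem f26691 : Led Lsl_ct (LP (LK LD1_c1 LD2_c5 LD3_c16)) = (LP (LK LD1_c2 LD2_c16 LD3_c44)) :=
  Lre_c IH (LK LD1_c1 LD2_c5 LD3_c16) (LK LD1_c2 LD2_c16 LD3_c44) Lrfl Lrfl
theorem f177649 : Led Lsl_ef (LP (LK LD1_c1 LD2_c12 LD3_c5)) = (LP (LK LD1_c2 LD2_c16 LD3_c44)) :=
  Lgr Lrot28 (Lpr_ct (K9.f164162 IH) (Lpr_et (K9.f177173 IH) (Lpr_ct (f26691 IH) (Lpn (LP (LK LD1_c2 LD2_c16 LD3_c44))))))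
theorem f20293 : Led Lsl_et (LP (LK LD1_c0 LD2_c32 LD3_c58)) = (LP (LK LD1_c0 LD2_c14 LD3_c48)) :=
  Lre_e IH (LK LD1_c0 LD2_c32 LD3_c58) (LK LD1_c0 LD2_c14 LD3_c48) Lrfl Lrfl
theorem f177651 : Led Lsl_df (LP (LK LD1_c2 LD2_c27 LD3_c56)) = (LP (LK LD1_c2 LD2_c16 LD3_c44)) :=
  Lgr Lrot168 (Lpe (f20295 IH) (Lpe (K9.f20294 IH) (Lpr_et (f20293 IH) (Lpr_gf (K0.f20271 IH) (Lpr_ef (K7.f22218 IH) (Lpr_dt (K9.f22214 IH) (Lpe (K9.f3764 IH) (Lpe (K9.f177177 IH) (Lpr_gf (K9.f164125 IH) (Lpr_ef (f177649 IH) (Lpn (LP (LK LD1_c2 LD2_c16 LD3_c44)))))))))))))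
theorem f177683 : Led Lsl_dt (LP (LK LD1_c2 LD2_c27 LD3_c56)) = (LP (LK LD1_c2 LD2_c16 LD3_c44)) :=
  Lgr Lrot42 (Lpr_df (f177651 IH) (Lpn (LP (LK LD1_c2 LD2_c16 LD3_c44))))
theorem f26692 : Led Lsl_ct (LP (LK LD1_c2 LD2_c16 LD3_c44)) = (LP (LK LD1_c1 LD2_c5 LD3_c16)) :=
  Lre_c IH (LK LD1_c2 LD2_c16 LD3_c44) (LK LD1_c1 LD2_c5 LD3_c16) Lrfl Lrfl
theorem f24222 : Led Lsl_ct (LP (LK LD1_c2 LD2_c16 LD3_c46)) = (LP (LK LD1_c1 LD2_c5 LD3_c18)) :=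
  Lre_c IH (LK LD1_c2 LD2_c16 LD3_c46) (LK LD1_c1 LD2_c5 LD3_c18) Lrfl Lrfl
theorem f177701 : Led Lsl_df (LP (LK LD1_c4 LD2_c39 LD3_c26)) = (LP (LK LD1_c4 LD2_c39 LD3_c32)) :=
  Lgr Lrot43 (Lpr_ct (f176524 IH) (Lpr_dt (f177683 IH) (Lpr_ct (f26692 IH) (Lpr_dt (K9.f20773 IH) (Lpr_ct (f20578 IH) (Lpr_dt (f26702 IH) (Lpr_ct (f26700 IH) (Lpr_dt (f176697 IH) (Lpr_ct (K9.f176126 IH) (Lpe (f176718 IH) (Lpr_ct (f24222 IH) (Lpr_dt (K9.f20236 IH) (Lpr_ct (K9.f24449 IH) (Lpr_dt (f176617 IH) (Lpr_ct (f176614 IH) (Lpn (LP (LK LD1_c4 LD2_c39 LD3_c32))))))))))))))))))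
theorem f177709 : Led Lsl_gt (LP (LK LD1_c2 LD2_c57 LD3_c54)) = (LP (LK LD1_c5 LD2_c49 LD3_c20)) :=
  Lgr Lrot9 (Lpr_df (f175593 IH) (Lpr_gt (f175576 IH) (Lpr_ct (K9.f100601 IH) (Lpr_gt (f20295 IH) (Lpe (f176529 IH) (Lpr_df (f177701 IH) (Lpe (f176614 IH) (Lpr_gf (f176609 IH) (Lpe (f176606 IH) (Lpn (LP (LK LD1_c5 LD2_c49 LD3_c20))))))))))))
theorem f9419 : Led Lsl_gt (LP (LK LD1_c2 LD2_c57 LD3_c53)) = (LP (LK LD1_c1 LD2_c24 LD3_c38)) :=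
  Lre_g IH (LK LD1_c2 LD2_c57 LD3_c53) (LK LD1_c1 LD2_c24 LD3_c38) Lrfl Lrfl
theorem f185966 : Led Lsl_df (LP (LK LD1_c2 LD2_c57 LD3_c53)) = (LP (LK LD1_c2 LD2_c45 LD3_c17)) :=
  Lgr Lrot155 (Lpr_gt (f9419 IH) (Lpr_ct (f175385 IH) (Lpr_gt (f177709 IH) (Lpr_ct (f176606 IH) (Lpr_dt (f176590 IH) (Lpe (f176598 IH) (Lpr_gf (f185956 IH) (Lpe (K9.f175901 IH) (Lpr_gf (K9.f24447 IH) (Lpn (LP (LK LD1_c2 LD2_c45 LD3_c17))))))))))))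
theorem f59133 : Led Lsl_dt (LP (LK LD1_c1 LD2_c28 LD3_c58)) = (LP (LK LD1_c0 LD2_c41 LD3_c7)) :=
  Lre_d IH (LK LD1_c1 LD2_c28 LD3_c58) (LK LD1_c0 LD2_c41 LD3_c7) Lrfl Lrfl
theorem f186013 : Led Lsl_gf (LP (LK LD1_c1 LD2_c11 LD3_c8)) = (LP (LK LD1_c0 LD2_c41 LD3_c7)) :=
  Lgr Lrot154 (Lpr_dt (K9.f26038 IH) (Lpe (K9.f175336 IH) (Lpe (f9418 IH) (Lpe (f9419 IH) (Lpr_df (f185966 IH) (Lpe (f177755 IH) (Lpr_ct (f186007 IH) (Lpr_gt (K9.f59116 IH) (Lpr_dt (f59133 IH) (Lpn (LP (LK LD1_c0 LD2_c41 LD3_c7))))))))))))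
theorem f172727 : Led Lsl_et (LP (LK LD1_c0 LD2_c32 LD3_c41)) = (LP (LK LD1_c0 LD2_c14 LD3_c40)) :=
  Lre_e IH (LK LD1_c0 LD2_c32 LD3_c41) (LK LD1_c0 LD2_c14 LD3_c40) Lrfl Lrfl
theorem f59030 : Led Lsl_et (LP (LK LD1_c0 LD2_c18 LD3_c23)) = (LP (LK LD1_c0 LD2_c41 LD3_c7)) :=
  Lre_e IH (LK LD1_c0 LD2_c18 LD3_c23) (LK LD1_c0 LD2_c41 LD3_c7) Lrfl Lrfl
theorem f59029 : Led Lsl_dt (LP (LK LD1_c0 LD2_c18 LD3_c23)) = (LP (LK LD1_c0 LD2_c41 LD3_c6)) :=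
  Lre_d IH (LK LD1_c0 LD2_c18 LD3_c23) (LK LD1_c0 LD2_c41 LD3_c6) Lrfl Lrfl
theorem f59012 : Led Lsl_et (LP (LK LD1_c0 LD2_c13 LD3_c32)) = (LP (LK LD1_c0 LD2_c6 LD3_c10)) :=
  Lre_e IH (LK LD1_c0 LD2_c13 LD3_c32) (LK LD1_c0 LD2_c6 LD3_c10) Lrfl Lrfl
theorem f59016 : Led Lsl_et (LP (LK LD1_c0 LD2_c25 LD3_c50)) = (LP (LK LD1_c0 LD2_c56 LD3_c61)) :=
  Lre_e IH (LK LD1_c0 LD2_c25 LD3_c50) (LK LD1_c0 LD2_c56 LD3_c61) Lrfl Lrfl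
theorem f59014 : Led Lsl_dt (LP (LK LD1_c0 LD2_c41 LD3_c6)) = (LP (LK LD1_c0 LD2_c18 LD3_c23)) :=
  Lre_d IH (LK LD1_c0 LD2_c41 LD3_c6) (LK LD1_c0 LD2_c18 LD3_c23) Lrfl Lrfl
theorem f59017 : Led Lsl_gt (LP (LK LD1_c0 LD2_c56 LD3_c61)) = (LP (LK LD1_c0 LD2_c41 LD3_c6)) :=
  Lgr Lrot137 (Lpe (f59016 IH) (Lpr_dt (K9.f59015 IH) (Lpe (K9.f47067 IH) (Lpe (K1.f55379 IH) (Lpe (K1.f27282 IH) (Lpr_gf (K1.f37933 IH) (Lpe (f59012 IH) (Lpr_dt (K9.f58979 IH) (Lpe (K9.f59013 IH) (Lpe (f59014 IH) (Lpn (LP (LK LD1_c0 LD2_c41 LD3_c6)))))))))))))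
theorem f186453 : Led Lsl_dt (LP (LK LD1_c0 LD2_c32 LD3_c41)) = (LP (LK LD1_c0 LD2_c56 LD3_c61)) :=
  Lgr Lrot136 (Lpr_et (f172727 IH) (Lpr_gf (K9.f183241 IH) (Lpe (K9.f100940 IH) (Lpr_dt (K9.f100620 IH) (Lpe (K9.f100677 IH) (Lpe (K9.f26038 IH) (Lpr_gf (f186013 IH) (Lpe (f59030 IH) (Lpr_dt (f59029 IH) (Lpe (f59017 IH) (Lpn (LP (LK LD1_c0 LD2_c56 LD3_c61)))))))))))))
theorem f59108 : Led Lsl_et (LP (LK LD1_c0 LD2_c3 LD3_c47)) = (LP (LK LD1_c0 LD2_c8 LD3_c16)) :=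
  Lre_e IH (LK LD1_c0 LD2_c3 LD3_c47) (LK LD1_c0 LD2_c8 LD3_c16) Lrfl Lrfl
theorem f59000 : Led Lsl_gt (LP (LK LD1_c0 LD2_c8 LD3_c16)) = (LP (LK LD1_c0 LD2_c18 LD3_c22)) :=
  Lre_g IH (LK LD1_c0 LD2_c8 LD3_c16) (LK LD1_c0 LD2_c18 LD3_c22) Lrfl Lrfl
theorem f59001 : Led Lsl_dt (LP (LK LD1_c0 LD2_c18 LD3_c22)) = (LP (LK LD1_c0 LD2_c41 LD3_c3)) :=
  Lre_d IH (LK LD1_c0 LD2_c18 LD3_c22) (LK LD1_c0 LD2_c41 LD3_c3) Lrfl Lrfl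
theorem f186460 : Led Lsl_gt (LP (LK LD1_c0 LD2_c41 LD3_c3)) = (LP (LK LD1_c0 LD2_c56 LD3_c61)) :=
  Lgr Lrot139 (Lpe (f59001 IH) (Lpe (f59000 IH) (Lpe (f59108 IH) (Lpr_dt (K1.f7120 IH) (Lpe (K1.f36324 IH) (Lpe (K0.f13434 IH) (Lpr_et (K9.f161771 IH) (Lpe (K9.f168550 IH) (Lpe (f172727 IH) (Lpr_dt (f186453 IH) (Lpn (LP (LK LD1_c0 LD2_c56 LD3_c61)))))))))))))
theorem f186466 : Led Lsl_et (LP (LK LD1_c0 LD2_c18 LD3_c22)) = (LP (LK LD1_c0 LD2_c41 LD3_c4)) :=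
  Lre_e IH (LK LD1_c0 LD2_c18 LD3_c22) (LK LD1_c0 LD2_c41 LD3_c4) Lrfl Lrfl
theorem f179952 : Led Lsl_et (LP (LK LD1_c0 LD2_c14 LD3_c34)) = (LP (LK LD1_c0 LD2_c32 LD3_c32)) :=
  Lre_e IH (LK LD1_c0 LD2_c14 LD3_c34) (LK LD1_c0 LD2_c32 LD3_c32) Lrfl Lrfl
theorem f186467 : Led Lsl_gf (LP (LK LD1_c0 LD2_c41 LD3_c4)) = (LP (LK LD1_c0 LD2_c32 LD3_c32)) :=
  Lgr Lrot141 (Lpe (f186466 IH) (Lpr_dt (f59001 IH) (Lpr_gt (f186460 IH) (Lpe (f186453 IH) (Lpr_et (f172727 IH) (Lpr_gt (K9.f168550 IH) (Lpr_dt (K1.f40783 IH) (Lpr_gt (K9.f7029 IH) (Lpe (K9.f172546 IH) (Lpr_et (f179952 IH) (Lpn (LP (LK LD1_c0 LD2_c32 LD3_c32)))))))))))))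
theorem f37701 : Led Lsl_af (LP (LK LD1_c0 LD2_c14 LD3_c45)) = (LP (LK LD1_c0 LD2_c17 LD3_c56)) :=
  Lgr Lrot0 (Lpr_at (K1.f37699 IH) (Lpn (LP (LK LD1_c0 LD2_c17 LD3_c56))))
theorem f37703 : Led Lsl_df (LP (LK LD1_c0 LD2_c14 LD3_c45)) = (LP (LK LD1_c0 LD2_c14 LD3_c45)) :=
  Lgr Lrot18 (Lpr_at (K1.f37699 IH) (Lpe (K1.f27205 IH) (Lpe (f37701 IH) (Lpn (LP (LK LD1_c0 LD2_c14 LD3_c45))))))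
theorem f59524 : Led Lsl_gt (LP (LK LD1_c0 LD2_c32 LD3_c49)) = (LP (LK LD1_c0 LD2_c14 LD3_c45)) :=
  Lre_g IH (LK LD1_c0 LD2_c32 LD3_c49) (LK LD1_c0 LD2_c14 LD3_c45) Lrfl Lrfl
theorem f186475 : Led Lsl_dt (LP (LK LD1_c0 LD2_c41 LD3_c4)) = (LP (LK LD1_c0 LD2_c32 LD3_c49)) :=
  Lgr Lrot171 (Lpr_gf (f186467 IH) (Lpe (f179952 IH) (Lpr_dt (K9.f172546 IH) (Lpe (K9.f7029 IH) (Lpe (K1.f40783 IH) (Lpr_et (K9.f56514 IH) (Lpe (K0.f7018 IH) (Lpe (K1.f37723 IH) (Lpe (f37703 IH) (Lpe (f59524 IH) (Lpn (LP (LK LD1_c0 LD2_c32 LD3_c49)))))))))))))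
theorem f186477 : Led Lsl_df (LP (LK LD1_c0 LD2_c41 LD3_c4)) = (LP (LK LD1_c0 LD2_c32 LD3_c49)) :=
  Lgr Lrot38 (Lpr_dt (f186475 IH) (Lpn (LP (LK LD1_c0 LD2_c32 LD3_c49))))
theorem f186479 : Led Lsl_et (LP (LK LD1_c0 LD2_c41 LD3_c4)) = (LP (LK LD1_c0 LD2_c18 LD3_c22)) :=
  Lre_e IH (LK LD1_c0 LD2_c41 LD3_c4) (LK LD1_c0 LD2_c18 LD3_c22) Lrfl Lrfl
theorem f59020 : Led Lsl_et (LP (LK LD1_c0 LD2_c41 LD3_c3)) = (LP (LK LD1_c1 LD2_c28 LD3_c54)) :=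
  Lre_e IH (LK LD1_c0 LD2_c41 LD3_c3) (LK LD1_c1 LD2_c28 LD3_c54) Lrfl Lrfl
theorem f186463 : Led Lsl_et (LP (LK LD1_c1 LD2_c28 LD3_c54)) = (LP (LK LD1_c0 LD2_c41 LD3_c3)) :=
  Lre_e IH (LK LD1_c1 LD2_c28 LD3_c54) (LK LD1_c0 LD2_c41 LD3_c3) Lrfl Lrfl
theorem f161782 : Led Lsl_gt (LP (LK LD1_c0 LD2_c32 LD3_c39)) = (LP (LK LD1_c1 LD2_c10 LD3_c27)) :=
  Lre_g IH (LK LD1_c0 LD2_c32 LD3_c39) (LK LD1_c1 LD2_c10 LD3_c27) Lrfl Lrfl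
theorem f186464 : Led Lsl_dt (LP (LK LD1_c1 LD2_c28 LD3_c54)) = (LP (LK LD1_c1 LD2_c10 LD3_c27)) :=
  Lgr Lrot56 (Lpr_et (f186463 IH) (Lpr_gt (f186460 IH) (Lpe (f59016 IH) (Lpr_dt (K9.f59015 IH) (Lpr_gt (K9.f183204 IH) (Lpe (K1.f47927 IH) (Lpr_et (K9.f47926 IH) (Lpr_gt (K9.f80288 IH) (Lpe (K9.f161776 IH) (Lpr_gt (f161782 IH) (Lpn (LP (LK LD1_c1 LD2_c10 LD3_c27)))))))))))))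
theorem f186481 : Led Lsl_et (LP (LK LD1_c1 LD2_c10 LD3_c27)) = (LP (LK LD1_c0 LD2_c32 LD3_c49)) :=
  Lgr Lrot71 (Lpe (f186464 IH) (Lpe (f59020 IH) (Lpe (f59001 IH) (Lpe (f186479 IH) (Lpr_df (f186477 IH) (Lpn (LP (LK LD1_c0 LD2_c32 LD3_c49))))))))
theorem f186483 : Led Lsl_ef (LP (LK LD1_c1 LD2_c10 LD3_c27)) = (LP (LK LD1_c0 LD2_c32 LD3_c49)) :=
  Lgr Lrot88 (Lpr_et (f186481 IH) (Lpn (LP (LK LD1_c0 LD2_c32 LD3_c49))))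
theorem f161778 : Led Lsl_et (LP (LK LD1_c0 LD2_c14 LD3_c39)) = (LP (LK LD1_c0 LD2_c32 LD3_c39)) :=
  Lre_e IH (LK LD1_c0 LD2_c14 LD3_c39) (LK LD1_c0 LD2_c32 LD3_c39) Lrfl Lrfl
theorem f53315 : Led Lsl_et (LP (LK LD1_c0 LD2_c54 LD3_c50)) = (LP (LK LD1_c0 LD2_c24 LD3_c46)) :=
  Lre_e IH (LK LD1_c0 LD2_c54 LD3_c50) (LK LD1_c0 LD2_c24 LD3_c46) Lrfl Lrfl
theorem f53316 : Led Lsl_dt (LP (LK LD1_c0 LD2_c54 LD3_c50)) = (LP (LK LD1_c0 LD2_c57 LD3_c32)) :=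
  Lre_d IH (LK LD1_c0 LD2_c54 LD3_c50) (LK LD1_c0 LD2_c57 LD3_c32) Lrfl Lrfl
theorem f186489 : Led Lsl_gf (LP (LK LD1_c0 LD2_c57 LD3_c32)) = (LP (LK LD1_c0 LD2_c41 LD3_c4)) :=
  Lgr Lrot145 (Lpe (f53316 IH) (Lpr_et (f53315 IH) (Lpr_gt (K9.f40819 IH) (Lpr_dt (K9.f53174 IH) (Lpr_gt (K9.f53314 IH) (Lpe (K9.f178469 IH) (Lpr_et (f161778 IH) (Lpr_gt (f161782 IH) (Lpr_ef (f186483 IH) (Lpe (f186477 IH) (Lpn (LP (LK LD1_c0 LD2_c41 LD3_c4)))))))))))))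
theorem f36215 : Led Lsl_et (LP (LK LD1_c0 LD2_c32 LD3_c8)) = (LP (LK LD1_c0 LD2_c39 LD3_c57)) :=
  Lgr Lrot71 (Lpe (K1.f31556 IH) (Lpe (K1.f31551 IH) (Lpe (K9.f31555 IH) (Lpr_ef (K1.f36213 IH) (Lpe (K1.f27234 IH) (Lpn (LP (LK LD1_c0 LD2_c39 LD3_c57))))))))
theorem f186493 : Led Lsl_gt (LP (LK LD1_c0 LD2_c39 LD3_c57)) = (LP (LK LD1_c0 LD2_c32 LD3_c49)) :=
  Lgr Lrot137 (Lpe (f36215 IH) (Lpr_dt (K9.f31555 IH) (Lpe (K9.f31661 IH) (Lpe (K9.f28344 IH) (Lpr_et (K9.f53175 IH) (Lpe (K9.f40819 IH) (Lpe (f53315 IH) (Lpr_dt (f53316 IH) (Lpr_gf (f186489 IH) (Lpr_df (f186477 IH) (Lpn (LP (LK LD1_c0 LD2_c32 LD3_c49)))))))))))))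
theorem f71477 : Led Lsl_cf (LP (LK LD1_c1 LD2_c4 LD3_c48)) = (LP (LK LD1_c0 LD2_c39 LD3_c57)) :=
  Lgr Lrot11 (Lpr_ct (K2.f71465 IH) (Lpn (LP (LK LD1_c0 LD2_c39 LD3_c57))))
theorem f71304 : Led Lsl_ft (LP (LK LD1_c1 LD2_c4 LD3_c48)) = (LP (LK LD1_c0 LD2_c29 LD3_c38)) :=
  Lre_f IH (LK LD1_c1 LD2_c4 LD3_c48) (LK LD1_c0 LD2_c29 LD3_c38) Lrfl Lrfl
theorem f23953 : Led Lsl_et (LP (LK LD1_c0 LD2_c17 LD3_c10)) = (LP (LK LD1_c0 LD2_c7 LD3_c38)) :=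
  Lre_e IH (LK LD1_c0 LD2_c17 LD3_c10) (LK LD1_c0 LD2_c7 LD3_c38) Lrfl Lrfl
theorem f23955 : Led Lsl_gt (LP (LK LD1_c0 LD2_c38 LD3_c34)) = (LP (LK LD1_c1 LD2_c23 LD3_c25)) :=
  Lre_g IH (LK LD1_c0 LD2_c38 LD3_c34) (LK LD1_c1 LD2_c23 LD3_c25) Lrfl Lrfl
theorem f24455 : Led Lsl_et (LP (LK LD1_c1 LD2_c18 LD3_c57)) = (LP (LK LD1_c2 LD2_c45 LD3_c17)) :=
  Lre_e IH (LK LD1_c1 LD2_c18 LD3_c57) (LK LD1_c2 LD2_c45 LD3_c17) Lrfl Lrfl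
theorem f24456 : Led Lsl_df (LP (LK LD1_c1 LD2_c23 LD3_c25)) = (LP (LK LD1_c1 LD2_c18 LD3_c57)) :=
  Lgr Lrot168 (Lpe (f23955 IH) (Lpe (K2.f23954 IH) (Lpr_et (f23953 IH) (Lpe (K0.f8318 IH) (Lpe (K9.f23927 IH) (Lpr_dt (K9.f23928 IH) (Lpe (K9.f23929 IH) (Lpr_df (K9.f23931 IH) (Lpr_gf (K9.f24447 IH) (Lpe (f24455 IH) (Lpn (LP (LK LD1_c1 LD2_c18 LD3_c57)))))))))))))
theorem f24462 : Led Lsl_dt (LP (LK LD1_c1 LD2_c23 LD3_c25)) = (LP (LK LD1_c1 LD2_c18 LD3_c57)) :=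
  Lgr Lrot42 (Lpr_df (f24456 IH) (Lpn (LP (LK LD1_c1 LD2_c18 LD3_c57))))
theorem f24240 : Led Lsl_ct (LP (LK LD1_c0 LD2_c36 LD3_c22)) = (LP (LK LD1_c1 LD2_c18 LD3_c57)) :=
  Lre_c IH (LK LD1_c0 LD2_c36 LD3_c22) (LK LD1_c1 LD2_c18 LD3_c57) Lrfl Lrfl
theorem f24429 : Led Lsl_ct (LP (LK LD1_c0 LD2_c38 LD3_c17)) = (LP (LK LD1_c0 LD2_c17 LD3_c3)) :=
  Lre_c IH (LK LD1_c0 LD2_c38 LD3_c17) (LK LD1_c0 LD2_c17 LD3_c3) Lrfl Lrfl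
theorem f24468 : Led Lsl_gf (LP (LK LD1_c0 LD2_c17 LD3_c10)) = (LP (LK LD1_c0 LD2_c38 LD3_c17)) :=
  Lgr Lrot144 (Lpr_dt (K2.f23954 IH) (Lpr_gt (f23955 IH) (Lpr_dt (f24462 IH) (Lpe (f24240 IH) (Lpe (K9.f24217 IH) (Lpe (K9.f24216 IH) (Lpe (K9.f24415 IH) (Lpe (K9.f24221 IH) (Lpe (f24429 IH) (Lpn (LP (LK LD1_c0 LD2_c38 LD3_c17))))))))))))
theorem f71452 : Led Lsl_gt (LP (LK LD1_c1 LD2_c4 LD3_c48)) = (LP (LK LD1_c0 LD2_c38 LD3_c17)) :=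
  Lgr Lrot5 (Lpr_ft (f71304 IH) (Lpr_at (K2.f71438 IH) (Lpr_gf (f24468 IH) (Lpn (LP (LK LD1_c0 LD2_c38 LD3_c17))))))
theorem f24480 : Led Lsl_dt (LP (LK LD1_c0 LD2_c38 LD3_c17)) = (LP (LK LD1_c1 LD2_c22 LD3_c36)) :=
  Lre_d IH (LK LD1_c0 LD2_c38 LD3_c17) (LK LD1_c1 LD2_c22 LD3_c36) Lrfl Lrfl
theorem f56045 : Led Lsl_ct (LP (LK LD1_c1 LD2_c56 LD3_c10)) = (LP (LK LD1_c0 LD2_c54 LD3_c50)) :=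
  Lre_c IH (LK LD1_c1 LD2_c56 LD3_c10) (LK LD1_c0 LD2_c54 LD3_c50) Lrfl Lrfl
theorem f176820 : Led Lsl_df (LP (LK LD1_c0 LD2_c37 LD3_c40)) = (LP (LK LD1_c1 LD2_c18 LD3_c58)) :=
  Lgr Lrot38 (Lpr_dt (K9.f176815 IH) (Lpn (LP (LK LD1_c1 LD2_c18 LD3_c58))))
theorem f146330 : Led Lsl_dt (LP (LK LD1_c0 LD2_c16 LD3_c45)) = (LP (LK LD1_c0 LD2_c37 LD3_c39)) :=
  Lre_d IH (LK LD1_c0 LD2_c16 LD3_c45) (LK LD1_c0 LD2_c37 LD3_c39) Lrfl Lrfl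
theorem f9461 : Led Lsl_dt (LP (LK LD1_c0 LD2_c16 LD3_c29)) = (LP (LK LD1_c0 LD2_c36 LD3_c57)) :=
  Lre_d IH (LK LD1_c0 LD2_c16 LD3_c29) (LK LD1_c0 LD2_c36 LD3_c57) Lrfl Lrfl
theorem f176836 : Led Lsl_gt (LP (LK LD1_c0 LD2_c37 LD3_c40)) = (LP (LK LD1_c0 LD2_c39 LD3_c2)) :=
  Lgr Lrot137 (Lpe (K9.f176822 IH) (Lpr_dt (f146330 IH) (Lpr_gf (K9.f176829 IH) (Lpe (f9461 IH) (Lpr_et (K9.f9460 IH) (Lpe (K0.f9459 IH) (Lpe (K0.f9441 IH) (Lpe (K0.f9409 IH) (Lpe (K9.f9421 IH) (Lpe (K9.f9399 IH) (Lpn (LP (LK LD1_c0 LD2_c39 LD3_c2)))))))))))))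
theorem f9387 : Led Lsl_dt (LP (LK LD1_c0 LD2_c17 LD3_c20)) = (LP (LK LD1_c0 LD2_c39 LD3_c2)) :=
  Lre_d IH (LK LD1_c0 LD2_c17 LD3_c20) (LK LD1_c0 LD2_c39 LD3_c2) Lrfl Lrfl
theorem f178989 : Led Lsl_gf (LP (LK LD1_c0 LD2_c34 LD3_c15)) = (LP (LK LD1_c0 LD2_c29 LD3_c53)) :=
  Lgr Lrot141 (Lpe (K9.f20701 IH) (Lpr_dt (K9.f20679 IH) (Lpr_gt (K9.f178979 IH) (Lpe (K9.f177171 IH) (Lpr_et (K9.f177173 IH) (Lpr_gt (K9.f176810 IH) (Lpe (f176820 IH) (Lpr_gt (f176836 IH) (Lpe (f9387 IH) (Lpe (K9.f22389 IH) (Lpn (LP (LK LD1_c0 LD2_c29 LD3_c53)))))))))))))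
theorem f20702 : Led Lsl_df (LP (LK LD1_c0 LD2_c28 LD3_c53)) = (LP (LK LD1_c0 LD2_c34 LD3_c15)) :=
  Lgr Lrot70 (Lpr_et (K9.f20682 IH) (Lpr_dt (K9.f277 IH) (Lpr_et (K9.f20700 IH) (Lpr_dt (K9.f2883 IH) (Lpr_et (K9.f20701 IH) (Lpn (LP (LK LD1_c0 LD2_c34 LD3_c15))))))))
theorem f178991 : Led Lsl_gt (LP (LK LD1_c0 LD2_c39 LD3_c37)) = (LP (LK LD1_c0 LD2_c36 LD3_c22)) :=
  Lgr Lrot131 (Lpe (K9.f20667 IH) (Lpe (K9.f20662 IH) (Lpe (K9.f20672 IH) (Lpr_df (f20702 IH) (Lpr_gf (f178989 IH) (Lpr_ef (K9.f22389 IH) (Lpr_dt (f9387 IH) (Lpe (f176836 IH) (Lpr_df (f176820 IH) (Lpr_et (K9.f24259 IH) (Lpn (LP (LK LD1_c0 LD2_c36 LD3_c22)))))))))))))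
theorem f20721 : Led Lsl_dt (LP (LK LD1_c0 LD2_c28 LD3_c52)) = (LP (LK LD1_c0 LD2_c39 LD3_c37)) :=
  Lgr Lrot42 (Lpr_df (K9.f20668 IH) (Lpn (LP (LK LD1_c0 LD2_c39 LD3_c37))))
theorem f176714 : Led Lsl_dt (LP (LK LD1_c2 LD2_c58 LD3_c10)) = (LP (LK LD1_c4 LD2_c39 LD3_c13)) :=
  Lgr Lrot42 (Lpr_df (f176709 IH) (Lpn (LP (LK LD1_c4 LD2_c39 LD3_c13))))
theorem f20739 : Led Lsl_ct (LP (LK LD1_c2 LD2_c12 LD3_c36)) = (LP (LK LD1_c1 LD2_c3 LD3_c19)) :=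
  Lre_c IH (LK LD1_c2 LD2_c12 LD3_c36) (LK LD1_c1 LD2_c3 LD3_c19) Lrfl Lrfl
theorem f26649 : Led Lsl_ef (LP (LK LD1_c2 LD2_c12 LD3_c36)) = (LP (LK LD1_c2 LD2_c58 LD3_c10)) :=
  Lgr Lrot28 (Lpr_ct (f20739 IH) (Lpr_et (K9.f26633 IH) (Lpr_ct (K9.f26648 IH) (Lpn (LP (LK LD1_c2 LD2_c58 LD3_c10))))))
theorem f176716 : Led Lsl_gt (LP (LK LD1_c2 LD2_c12 LD3_c36)) = (LP (LK LD1_c1 LD2_c56 LD3_c10)) :=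
  Lgr Lrot131 (Lpr_ef (f26649 IH) (Lpr_dt (f176714 IH) (Lpe (f176705 IH) (Lpe (f26664 IH) (Lpe (K9.f26663 IH) (Lpe (K9.f174628 IH) (Lpr_dt (K9.f168864 IH) (Lpe (K9.f169303 IH) (Lpe (K9.f174597 IH) (Lpr_et (f174599 IH) (Lpn (LP (LK LD1_c1 LD2_c56 LD3_c10)))))))))))))
theorem f24238 : Led Lsl_ct (LP (LK LD1_c0 LD2_c38 LD3_c15)) = (LP (LK LD1_c0 LD2_c17 LD3_c2)) :=
  Lre_c IH (LK LD1_c0 LD2_c38 LD3_c15) (LK LD1_c0 LD2_c17 LD3_c2) Lrfl Lrfl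
theorem f24239 : Led Lsl_dt (LP (LK LD1_c1 LD2_c22 LD3_c33)) = (LP (LK LD1_c0 LD2_c38 LD3_c15)) :=
  Lre_d IH (LK LD1_c1 LD2_c22 LD3_c33) (LK LD1_c0 LD2_c38 LD3_c15) Lrfl Lrfl
theorem f24260 : Led Lsl_gt (LP (LK LD1_c2 LD2_c52 LD3_c58)) = (LP (LK LD1_c1 LD2_c22 LD3_c33)) :=
  Lre_g IH (LK LD1_c2 LD2_c52 LD3_c58) (LK LD1_c1 LD2_c22 LD3_c33) Lrfl Lrfl
theorem f178995 : Led Lsl_dt (LP (LK LD1_c1 LD2_c56 LD3_c10)) = (LP (LK LD1_c2 LD2_c52 LD3_c58)) :=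
  Lgr Lrot57 (Lpe (f176716 IH) (Lpe (f20738 IH) (Lpr_gt (K9.f20729 IH) (Lpr_dt (f20721 IH) (Lpr_gt (f178991 IH) (Lpe (K9.f24241 IH) (Lpe (f24238 IH) (Lpe (f24239 IH) (Lpe (f24260 IH) (Lpn (LP (LK LD1_c2 LD2_c52 LD3_c58))))))))))))
theorem f179000 : Led Lsl_df (LP (LK LD1_c1 LD2_c56 LD3_c10)) = (LP (LK LD1_c2 LD2_c52 LD3_c58)) :=
  Lgr Lrot38 (Lpr_dt (f178995 IH) (Lpn (LP (LK LD1_c2 LD2_c52 LD3_c58))))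
theorem f186495 : Led Lsl_gt (LP (LK LD1_c1 LD2_c22 LD3_c36)) = (LP (LK LD1_c2 LD2_c52 LD3_c58)) :=
  Lgr Lrot49 (Lpe (f24480 IH) (Lpe (f71452 IH) (Lpr_cf (f71477 IH) (Lpr_gt (f186493 IH) (Lpe (f186477 IH) (Lpe (f186489 IH) (Lpr_dt (f55618 IH) (Lpe (f56045 IH) (Lpr_df (f179000 IH) (Lpn (LP (LK LD1_c2 LD2_c52 LD3_c58))))))))))))
theorem f174619 : Led Lsl_et (LP (LK LD1_c1 LD2_c56 LD3_c10)) = (LP (LK LD1_c0 LD2_c54 LD3_c49)) :=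
  Lre_e IH (LK LD1_c1 LD2_c56 LD3_c10) (LK LD1_c0 LD2_c54 LD3_c49) Lrfl Lrfl
theorem f186502 : Led Lsl_gf (LP (LK LD1_c1 LD2_c23 LD3_c0)) = (LP (LK LD1_c1 LD2_c13 LD3_c31)) :=
  Lgr Lrot145 (Lpe (K9.f71280 IH) (Lpe (K2.f71225 IH) (Lpr_gt (f71452 IH) (Lpr_dt (f24480 IH) (Lpr_gt (f186495 IH) (Lpe (f178995 IH) (Lpr_et (f174619 IH) (Lpe (K9.f178952 IH) (Lpe (f185109 IH) (Lpr_dt (f185098 IH) (Lpn (LP (LK LD1_c1 LD2_c13 LD3_c31)))))))))))))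
theorem f71296 : Led Lsl_dt (LP (LK LD1_c1 LD2_c23 LD3_c0)) = (LP (LK LD1_c0 LD2_c38 LD3_c26)) :=
  Lre_d IH (LK LD1_c1 LD2_c23 LD3_c0) (LK LD1_c0 LD2_c38 LD3_c26) Lrfl Lrfl
theorem f185082 : Led Lsl_gf (LP (LK LD1_c0 LD2_c34 LD3_c14)) = (LP (LK LD1_c0 LD2_c38 LD3_c26)) :=
  Lgr Lrot47 (Lpr_gt (f184889 IH) (Lpe (K2.f71497 IH) (Lpe (K2.f71293 IH) (Lpn (LP (LK LD1_c0 LD2_c38 LD3_c26))))))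
theorem f170841 : Led Lsl_dt (LP (LK LD1_c0 LD2_c34 LD3_c14)) = (LP (LK LD1_c1 LD2_c13 LD3_c53)) :=
  Lre_d IH (LK LD1_c0 LD2_c34 LD3_c14) (LK LD1_c1 LD2_c13 LD3_c53) Lrfl Lrfl
theorem f21392 : Led Lsl_gt (LP (LK LD1_c2 LD2_c32 LD3_c47)) = (LP (LK LD1_c1 LD2_c13 LD3_c18)) :=
  Lre_g IH (LK LD1_c2 LD2_c32 LD3_c47) (LK LD1_c1 LD2_c13 LD3_c18) Lrfl Lrfl
theorem f185762 : Led Lsl_ct (LP (LK LD1_c1 LD2_c13 LD3_c31)) = (LP (LK LD1_c2 LD2_c32 LD3_c47)) :=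
  Lgr Lrot152 (Lpr_gf (f185086 IH) (Lpe (K2.f26941 IH) (Lpr_gt (f185750 IH) (Lpr_ct (f163742 IH) (Lpe (f163716 IH) (Lpr_ct (K8.f3157 IH) (Lpe (K8.f3165 IH) (Lpr_cf (K8.f163718 IH) (Lpe (f21392 IH) (Lpn (LP (LK LD1_c2 LD2_c32 LD3_c47))))))))))))
theorem f21996 : Led Lsl_gt (LP (LK LD1_c0 LD2_c33 LD3_c58)) = (LP (LK LD1_c1 LD2_c13 LD3_c15)) :=
  Lre_g IH (LK LD1_c0 LD2_c33 LD3_c58) (LK LD1_c1 LD2_c13 LD3_c15) Lrfl Lrfl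
theorem f21997 : Led Lsl_dt (LP (LK LD1_c1 LD2_c13 LD3_c15)) = (LP (LK LD1_c2 LD2_c32 LD3_c36)) :=
  Lre_d IH (LK LD1_c1 LD2_c13 LD3_c15) (LK LD1_c2 LD2_c32 LD3_c36) Lrfl Lrfl
theorem f186510 : Led Lsl_cf (LP (LK LD1_c1 LD2_c13 LD3_c53)) = (LP (LK LD1_c2 LD2_c32 LD3_c36)) :=
  Lgr Lrot14 (Lpe (f170841 IH) (Lpr_gf (f185082 IH) (Lpe (f71296 IH) (Lpr_gf (f186502 IH) (Lpr_ct (f185762 IH) (Lpr_gt (f21392 IH) (Lpr_dt (K0.f21381 IH) (Lpr_gt (f21996 IH) (Lpr_dt (f21997 IH) (Lpn (LP (LK LD1_c2 LD2_c32 LD3_c36))))))))))))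
theorem f186538 : Led Lsl_ct (LP (LK LD1_c1 LD2_c13 LD3_c53)) = (LP (LK LD1_c2 LD2_c32 LD3_c36)) :=
  Lgr Lrot59 (Lpr_cf (f186510 IH) (Lpn (LP (LK LD1_c2 LD2_c32 LD3_c36))))
theorem f186565 : Led Lsl_cf (LP (LK LD1_c1 LD2_c13 LD3_c31)) = (LP (LK LD1_c2 LD2_c32 LD3_c47)) :=
  Lgr Lrot166 (Lpe (f186502 IH) (Lpr_dt (f71296 IH) (Lpe (f185082 IH) (Lpr_dt (f170841 IH) (Lpr_ct (f186538 IH) (Lpe (f21997 IH) (Lpe (f21996 IH) (Lpe (K0.f21381 IH) (Lpe (f21392 IH) (Lpn (LP (LK LD1_c2 LD2_c32 LD3_c47))))))))))))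
theorem f71488 : Led Lsl_ct (LP (LK LD1_c1 LD2_c23 LD3_c0)) = (LP (LK LD1_c1 LD2_c15 LD3_c0)) :=
  Lgr Lrot176 (Lpe (K9.f71280 IH) (Lpr_cf (K2.f71479 IH) (Lpe (K1.f31556 IH) (Lpr_cf (K1.f32290 IH) (Lpe (K2.f32280 IH) (Lpe (K2.f32796 IH) (Lpe (K2.f35029 IH) (Lpe (K2.f35008 IH) (Lpe (K2.f26941 IH) (Lpr_cf (K8.f34885 IH) (Lpe (K8.f7020 IH) (Lpe (K0.f28414 IH) (Lpe (K8.f31617 IH) (Lpe (K8.f31618 IH) (Lpe (K2.f31619 IH) (Lpn (LP (LK LD1_c1 LD2_c15 LD3_c0))))))))))))))))))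
theorem f163936 : Led Lsl_gf (LP (LK LD1_c2 LD2_c32 LD3_c47)) = (LP (LK LD1_c1 LD2_c14 LD3_c3)) :=
  Lgr Lrot47 (Lpr_gt (f21392 IH) (Lpe (f163796 IH) (Lpr_ff (f163926 IH) (Lpn (LP (LK LD1_c1 LD2_c14 LD3_c3))))))
theorem f186576 : Led Lsl_cf (LP (LK LD1_c0 LD2_c34 LD3_c47)) = (LP (LK LD1_c1 LD2_c13 LD3_c16)) :=
  Lgr Lrot169 (Lpr_gt (K9.f32065 IH) (Lpr_ct (K9.f32249 IH) (Lpe (K2.f31619 IH) (Lpe (f71488 IH) (Lpr_gf (f186502 IH) (Lpr_cf (f186565 IH) (Lpr_gf (f163936 IH) (Lpe (K9.f163727 IH) (Lpr_gt (f163788 IH) (Lpn (LP (LK LD1_c1 LD2_c13 LD3_c16))))))))))))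
theorem f170651 : Led Lsl_ct (LP (LK LD1_c0 LD2_c26 LD3_c24)) = (LP (LK LD1_c0 LD2_c14 LD3_c2)) :=
  Lgr Lrot59 (Lpr_cf (K9.f170611 IH) (Lpn (LP (LK LD1_c0 LD2_c14 LD3_c2))))
theorem f164692 : Led Lsl_gt (LP (LK LD1_c1 LD2_c12 LD3_c1)) = (LP (LK LD1_c0 LD2_c33 LD3_c20)) :=
  Lre_g IH (LK LD1_c1 LD2_c12 LD3_c1) (LK LD1_c0 LD2_c33 LD3_c20) Lrfl Lrfl
theorem f178985 : Led Lsl_df (LP (LK LD1_c0 LD2_c58 LD3_c9)) = (LP (LK LD1_c1 LD2_c12 LD3_c1)) :=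
  Lgr Lrot155 (Lpr_gt (K9.f170660 IH) (Lpr_ct (f170651 IH) (Lpr_gt (K9.f178979 IH) (Lpr_ct (K9.f177192 IH) (Lpe (K9.f177363 IH) (Lpe (K9.f165286 IH) (Lpr_gf (K9.f177309 IH) (Lpe (K9.f166246 IH) (Lpe (f164692 IH) (Lpn (LP (LK LD1_c1 LD2_c12 LD3_c1))))))))))))
theorem f180259 : Led Lsl_ct (LP (LK LD1_c0 LD2_c58 LD3_c51)) = (LP (LK LD1_c1 LD2_c12 LD3_c8)) :=
  Lgr Lrot8 (Lpr_gt (f180257 IH) (Lpr_dt (K9.f31452 IH) (Lpe (K9.f31677 IH) (Lpr_dt (K9.f31663 IH) (Lpe (K2.f34920 IH) (Lpe (K2.f34994 IH) (Lpr_gf (K9.f166171 IH) (Lpe (K9.f164741 IH) (Lpe (f164751 IH) (Lpn (LP (LK LD1_c1 LD2_c12 LD3_c8))))))))))))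
theorem f180533 : Led Lsl_gf (LP (LK LD1_c0 LD2_c58 LD3_c51)) = (LP (LK LD1_c0 LD2_c32 LD3_c5)) :=
  Lgr Lrot147 (Lpr_ct (f180259 IH) (Lpr_gt (f164751 IH) (Lpr_ct (K9.f164746 IH) (Lpe (K9.f3128 IH) (Lpe (K9.f163703 IH) (Lpe (K9.f167611 IH) (Lpe (K1.f32873 IH) (Lpe (K9.f31599 IH) (Lpe (K9.f31695 IH) (Lpn (LP (LK LD1_c0 LD2_c32 LD3_c5))))))))))))
theorem f178540 : Led Lsl_cf (LP (LK LD1_c0 LD2_c58 LD3_c9)) = (LP (LK LD1_c0 LD2_c26 LD3_c41)) :=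
  Lgr Lrot166 (Lpr_gt (K9.f170660 IH) (Lpr_dt (K9.f178530 IH) (Lpr_gt (K9.f32065 IH) (Lpr_dt (K8.f31617 IH) (Lpr_ct (K0.f28414 IH) (Lpe (K1.f28315 IH) (Lpr_gf (K9.f53181 IH) (Lpe (K9.f6761 IH) (Lpe (K9.f53204 IH) (Lpn (LP (LK LD1_c0 LD2_c26 LD3_c41))))))))))))
theorem f31691 : Led Lsl_dt (LP (LK LD1_c0 LD2_c14 LD3_c20)) = (LP (LK LD1_c0 LD2_c32 LD3_c5)) :=
  Lre_d IH (LK LD1_c0 LD2_c14 LD3_c20) (LK LD1_c0 LD2_c32 LD3_c5) Lrfl Lrfl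
theorem f31687 : Led Lsl_gt (LP (LK LD1_c0 LD2_c14 LD3_c26)) = (LP (LK LD1_c0 LD2_c14 LD3_c20)) :=
  Lgr Lrot5 (Lpr_ft (K0.f31664 IH) (Lpr_at (K0.f31608 IH) (Lpe (K9.f31599 IH) (Lpn (LP (LK LD1_c0 LD2_c14 LD3_c20))))))
theorem f180536 : Led Lsl_gf (LP (LK LD1_c1 LD2_c12 LD3_c1)) = (LP (LK LD1_c0 LD2_c33 LD3_c25)) :=
  Lgr Lrot143 (Lpe (f178985 IH) (Lpr_cf (f178540 IH) (Lpe (K9.f53205 IH) (Lpr_gf (f180533 IH) (Lpe (f31691 IH) (Lpe (f31687 IH) (Lpe (K1.f32235 IH) (Lpr_gt (K9.f165867 IH) (Lpr_dt (K9.f163682 IH) (Lpn (LP (LK LD1_c0 LD2_c33 LD3_c25))))))))))))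
theorem f163741 : Led Lsl_dt (LP (LK LD1_c2 LD2_c32 LD3_c39)) = (LP (LK LD1_c1 LD2_c13 LD3_c16)) :=
  Lre_d IH (LK LD1_c2 LD2_c32 LD3_c39) (LK LD1_c1 LD2_c13 LD3_c16) Lrfl Lrfl
theorem f186608 : Led Lsl_gt (LP (LK LD1_c5 LD2_c2 LD3_c26)) = (LP (LK LD1_c2 LD2_c32 LD3_c39)) :=
  Lgr Lrot49 (Lpe (K9.f169588 IH) (Lpe (K9.f169585 IH) (Lpe (K9.f165296 IH) (Lpe (f180536 IH) (Lpe (f178985 IH) (Lpr_gt (K9.f170660 IH) (Lpr_dt (K9.f178530 IH) (Lpr_cf (f186576 IH) (Lpe (f163741 IH) (Lpn (LP (LK LD1_c2 LD2_c32 LD3_c39))))))))))))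
theorem f177182 : Led Lsl_ct (LP (LK LD1_c2 LD2_c30 LD3_c9)) = (LP (LK LD1_c5 LD2_c2 LD3_c26)) :=
  Lgr Lrot7 (Lpe (K9.f164163 IH) (Lpr_gf (K9.f177179 IH) (Lpe (K9.f53202 IH) (Lpe (K9.f22231 IH) (Lpe (K8.f53213 IH) (Lpe (K9.f163804 IH) (Lpe (K9.f169575 IH) (Lpr_gt (K9.f169585 IH) (Lpr_dt (K9.f169588 IH) (Lpn (LP (LK LD1_c5 LD2_c2 LD3_c26))))))))))))
theorem f165464 : Led Lsl_ct (LP (LK LD1_c0 LD2_c15 LD3_c21)) = (LP (LK LD1_c0 LD2_c34 LD3_c11)) :=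
  Lre_c IH (LK LD1_c0 LD2_c15 LD3_c21) (LK LD1_c0 LD2_c34 LD3_c11) Lrfl Lrfl
theorem f56664 : Led Lsl_gt (LP (LK LD1_c0 LD2_c34 LD3_c17)) = (LP (LK LD1_c0 LD2_c15 LD3_c23)) :=
  Lre_g IH (LK LD1_c0 LD2_c34 LD3_c17) (LK LD1_c0 LD2_c15 LD3_c23) Lrfl Lrfl
theorem f163769 : Led Lsl_dt (LP (LK LD1_c1 LD2_c13 LD3_c59)) = (LP (LK LD1_c0 LD2_c34 LD3_c17)) :=
  Lre_d IH (LK LD1_c1 LD2_c13 LD3_c59) (LK LD1_c0 LD2_c34 LD3_c17) Lrfl Lrfl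
theorem f186658 : Led Lsl_gf (LP (LK LD1_c2 LD2_c30 LD3_c9)) = (LP (LK LD1_c1 LD2_c13 LD3_c59)) :=
  Lgr Lrot147 (Lpr_ct (f177182 IH) (Lpr_gt (f186608 IH) (Lpr_ct (f185758 IH) (Lpe (f185753 IH) (Lpe (f165464 IH) (Lpe (f20534 IH) (Lpe (K8.f20462 IH) (Lpe (f56664 IH) (Lpe (f163769 IH) (Lpn (LP (LK LD1_c1 LD2_c13 LD3_c59))))))))))))
theorem f177368 : Led Lsl_dt (LP (LK LD1_c1 LD2_c11 LD3_c33)) = (LP (LK LD1_c0 LD2_c39 LD3_c32)) :=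
  Lgr Lrot42 (Lpr_df (K9.f177363 IH) (Lpn (LP (LK LD1_c0 LD2_c39 LD3_c32))))
theorem f177313 : Led Lsl_cf (LP (LK LD1_c5 LD2_c2 LD3_c20)) = (LP (LK LD1_c2 LD2_c30 LD3_c11)) :=
  Lgr Lrot14 (Lpe (K9.f165288 IH) (Lpr_gf (K9.f177309 IH) (Lpe (K9.f169436 IH) (Lpe (K9.f21423 IH) (Lpr_ct (K9.f163646 IH) (Lpe (K9.f164109 IH) (Lpe (K9.f177199 IH) (Lpr_gt (K9.f177201 IH) (Lpr_dt (K9.f164099 IH) (Lpn (LP (LK LD1_c2 LD2_c30 LD3_c11))))))))))))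
theorem f171224 : Led Lsl_ct (LP (LK LD1_c1 LD2_c0 LD3_c23)) = (LP (LK LD1_c0 LD2_c31 LD3_c39)) :=
  Lgr Lrot8 (Lpr_gt (K9.f171223 IH) (Lpr_dt (K9.f171208 IH) (Lpr_gt (K9.f20822 IH) (Lpr_dt (K8.f21325 IH) (Lpe (K0.f22105 IH) (Lpe (K0.f20469 IH) (Lpe (K9.f20536 IH) (Lpe (K9.f2883 IH) (Lpe (K9.f164685 IH) (Lpn (LP (LK LD1_c0 LD2_c31 LD3_c39))))))))))))
theorem f169587 : Led Lsl_dt (LP (LK LD1_c5 LD2_c2 LD3_c26)) = (LP (LK LD1_c2 LD2_c28 LD3_c47)) :=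
  Lre_d IH (LK LD1_c5 LD2_c2 LD3_c26) (LK LD1_c2 LD2_c28 LD3_c47) Lrfl Lrfl
theorem f177186 : Led Lsl_ct (LP (LK LD1_c0 LD2_c39 LD3_c32)) = (LP (LK LD1_c0 LD2_c17 LD3_c44)) :=
  Lre_c IH (LK LD1_c0 LD2_c39 LD3_c32) (LK LD1_c0 LD2_c17 LD3_c44) Lrfl Lrfl
theorem f177630 : Led Lsl_df (LP (LK LD1_c0 LD2_c33 LD3_c21)) = (LP (LK LD1_c0 LD2_c17 LD3_c44)) :=
  Lgr Lrot43 (Lpr_ct (K9.f163706 IH) (Lpr_dt (K9.f164163 IH) (Lpr_ct (f177182 IH) (Lpr_dt (f169587 IH) (Lpr_ct (K9.f165278 IH) (Lpe (K9.f171233 IH) (Lpr_ct (f171224 IH) (Lpe (K9.f164683 IH) (Lpr_ct (K9.f163700 IH) (Lpr_dt (K9.f164099 IH) (Lpe (f177313 IH) (Lpr_dt (f165287 IH) (Lpr_ct (K9.f165286 IH) (Lpr_dt (f177368 IH) (Lpr_ct (f177186 IH) (Lpn (LP (LK LD1_c0 LD2_c17 LD3_c44))))))))))))))))))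
theorem f186660 : Led Lsl_dt (LP (LK LD1_c0 LD2_c34 LD3_c17)) = (LP (LK LD1_c1 LD2_c13 LD3_c59)) :=
  Lre_d IH (LK LD1_c0 LD2_c34 LD3_c17) (LK LD1_c1 LD2_c13 LD3_c59) Lrfl Lrfl
theorem f186664 : Led Lsl_gt (LP (LK LD1_c0 LD2_c33 LD3_c38)) = (LP (LK LD1_c0 LD2_c34 LD3_c17)) :=
  Lgr Lrot94 (Lpe (K8.f3157 IH) (Lpe (K9.f178987 IH) (Lpr_dt (K9.f20679 IH) (Lpr_gt (K9.f178979 IH) (Lpe (f177630 IH) (Lpe (K9.f164162 IH) (Lpe (K9.f164161 IH) (Lpr_gf (f186658 IH) (Lpe (f186660 IH) (Lpn (LP (LK LD1_c0 LD2_c34 LD3_c17))))))))))))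
theorem f180532 : Led Lsl_ct (LP (LK LD1_c1 LD2_c12 LD3_c1)) = (LP (LK LD1_c2 LD2_c30 LD3_c3)) :=
  Lre_c IH (LK LD1_c1 LD2_c12 LD3_c1) (LK LD1_c2 LD2_c30 LD3_c3) Lrfl Lrfl
theorem f21327 : Led Lsl_dt (LP (LK LD1_c0 LD2_c33 LD3_c52)) = (LP (LK LD1_c0 LD2_c15 LD3_c11)) :=
  Lre_d IH (LK LD1_c0 LD2_c33 LD3_c52) (LK LD1_c0 LD2_c15 LD3_c11) Lrfl Lrfl
theorem f22104 : Led Lsl_ct (LP (LK LD1_c1 LD2_c13 LD3_c2)) = (LP (LK LD1_c0 LD2_c33 LD3_c52)) :=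
  Lre_c IH (LK LD1_c1 LD2_c13 LD3_c2) (LK LD1_c0 LD2_c33 LD3_c52) Lrfl Lrfl
theorem f180538 : Led Lsl_gt (LP (LK LD1_c2 LD2_c30 LD3_c3)) = (LP (LK LD1_c1 LD2_c13 LD3_c2)) :=
  Lgr Lrot150 (Lpe (f180532 IH) (Lpr_gf (f180536 IH) (Lpe (K9.f163682 IH) (Lpe (K9.f165870 IH) (Lpr_ct (K1.f28429 IH) (Lpr_gt (K9.f31444 IH) (Lpr_ct (K9.f171510 IH) (Lpe (f21327 IH) (Lpe (f22104 IH) (Lpn (LP (LK LD1_c1 LD2_c13 LD3_c2))))))))))))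
theorem f169683 : Led Lsl_ct (LP (LK LD1_c2 LD2_c30 LD3_c3)) = (LP (LK LD1_c1 LD2_c12 LD3_c1)) :=
  Lre_c IH (LK LD1_c2 LD2_c30 LD3_c3) (LK LD1_c1 LD2_c12 LD3_c1) Lrfl Lrfl
theorem f171646 : Led Lsl_dt (LP (LK LD1_c1 LD2_c13 LD3_c2)) = (LP (LK LD1_c2 LD2_c32 LD3_c1)) :=
  Lre_d IH (LK LD1_c1 LD2_c13 LD3_c2) (LK LD1_c2 LD2_c32 LD3_c1) Lrfl Lrfl
theorem f180570 : Led Lsl_gf (LP (LK LD1_c1 LD2_c22 LD3_c61)) = (LP (LK LD1_c2 LD2_c32 LD3_c1)) :=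
  Lgr Lrot143 (Lpr_dt (K9.f71531 IH) (Lpe (K2.f32271 IH) (Lpe (K1.f32222 IH) (Lpe (K9.f166410 IH) (Lpe (K9.f164691 IH) (Lpe (f164692 IH) (Lpe (f169683 IH) (Lpr_gt (f180538 IH) (Lpr_dt (f171646 IH) (Lpn (LP (LK LD1_c2 LD2_c32 LD3_c1))))))))))))
theorem f32602 : Led Lsl_at (LP (LK LD1_c1 LD2_c15 LD3_c0)) = (LP (LK LD1_c1 LD2_c14 LD3_c32)) :=
  Lgr Lrot100 (Lpr_af (K2.f32600 IH) (Lpn (LP (LK LD1_c1 LD2_c14 LD3_c32))))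
theorem f71537 : Led Lsl_af (LP (LK LD1_c1 LD2_c22 LD3_c61)) = (LP (LK LD1_c2 LD2_c15 LD3_c3)) :=
  Lgr Lrot45 (Lpr_ft (K2.f71534 IH) (Lpr_at (f32602 IH) (Lpe (K2.f35022 IH) (Lpn (LP (LK LD1_c2 LD2_c15 LD3_c3))))))
theorem f180583 : Led Lsl_gt (LP (LK LD1_c1 LD2_c14 LD3_c32)) = (LP (LK LD1_c2 LD2_c32 LD3_c1)) :=
  Lgr Lrot5 (Lpe (K2.f35022 IH) (Lpe (f71537 IH) (Lpr_gf (f180570 IH) (Lpn (LP (LK LD1_c2 LD2_c32 LD3_c1))))))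
theorem f31693 : Led Lsl_ct (LP (LK LD1_c0 LD2_c32 LD3_c5)) = (LP (LK LD1_c1 LD2_c9 LD3_c37)) :=
  Lre_c IH (LK LD1_c0 LD2_c32 LD3_c5) (LK LD1_c1 LD2_c9 LD3_c37) Lrfl Lrfl
theorem f32240 : Led Lsl_ct (LP (LK LD1_c1 LD2_c15 LD3_c1)) = (LP (LK LD1_c0 LD2_c34 LD3_c49)) :=
  Lre_c IH (LK LD1_c1 LD2_c15 LD3_c1) (LK LD1_c0 LD2_c34 LD3_c49) Lrfl Lrfl
theorem f21988 : Led Lsl_gt (LP (LK LD1_c0 LD2_c15 LD3_c13)) = (LP (LK LD1_c0 LD2_c33 LD3_c56)) :=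
  Lre_g IH (LK LD1_c0 LD2_c15 LD3_c13) (LK LD1_c0 LD2_c33 LD3_c56) Lrfl Lrfl
theorem f165245 : Led Lsl_ct (LP (LK LD1_c0 LD2_c33 LD3_c56)) = (LP (LK LD1_c1 LD2_c13 LD3_c10)) :=
  Lre_c IH (LK LD1_c0 LD2_c33 LD3_c56) (LK LD1_c1 LD2_c13 LD3_c10) Lrfl Lrfl
theorem f171515 : Led Lsl_gf (LP (LK LD1_c1 LD2_c15 LD3_c1)) = (LP (LK LD1_c1 LD2_c13 LD3_c10)) :=
  Lgr Lrot104 (Lpr_ct (f32240 IH) (Lpe (K1.f32222 IH) (Lpr_cf (K1.f32099 IH) (Lpr_gf (K9.f31677 IH) (Lpr_cf (K9.f171512 IH) (Lpe (K9.f21326 IH) (Lpe (K8.f21325 IH) (Lpr_gt (f21988 IH) (Lpr_ct (f165245 IH) (Lpn (LP (LK LD1_c1 LD2_c13 LD3_c10))))))))))))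
theorem f171618 : Led Lsl_gt (LP (LK LD1_c0 LD2_c34 LD3_c33)) = (LP (LK LD1_c1 LD2_c13 LD3_c10)) :=
  Lgr Lrot5 (Lpr_ft (K2.f32589 IH) (Lpe (K2.f32576 IH) (Lpr_gf (f171515 IH) (Lpn (LP (LK LD1_c1 LD2_c13 LD3_c10))))))
theorem f163928 : Led Lsl_ct (LP (LK LD1_c1 LD2_c13 LD3_c10)) = (LP (LK LD1_c0 LD2_c33 LD3_c56)) :=
  Lre_c IH (LK LD1_c1 LD2_c13 LD3_c10) (LK LD1_c0 LD2_c33 LD3_c56) Lrfl Lrfl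
theorem f163914 : Led Lsl_gf (LP (LK LD1_c0 LD2_c33 LD3_c16)) = (LP (LK LD1_c0 LD2_c33 LD3_c56)) :=
  Lgr Lrot76 (Lpr_af (K8.f163896 IH) (Lpe (K8.f21355 IH) (Lpr_gt (f21988 IH) (Lpn (LP (LK LD1_c0 LD2_c33 LD3_c56))))))
theorem f59574 : Led Lsl_gt (LP (LK LD1_c1 LD2_c14 LD3_c2)) = (LP (LK LD1_c0 LD2_c34 LD3_c19)) :=
  Lre_g IH (LK LD1_c1 LD2_c14 LD3_c2) (LK LD1_c0 LD2_c34 LD3_c19) Lrfl Lrfl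
theorem f180633 : Led Lsl_cf (LP (LK LD1_c1 LD2_c14 LD3_c2)) = (LP (LK LD1_c2 LD2_c32 LD3_c1)) :=
  Lgr Lrot169 (Lpr_gt (f59574 IH) (Lpr_ct (K8.f163771 IH) (Lpe (K9.f163727 IH) (Lpe (K8.f33390 IH) (Lpr_gf (f163914 IH) (Lpe (f163928 IH) (Lpe (f171618 IH) (Lpe (K9.f31690 IH) (Lpr_gt (f180583 IH) (Lpn (LP (LK LD1_c2 LD2_c32 LD3_c1))))))))))))
theorem f180637 : Led Lsl_df (LP (LK LD1_c1 LD2_c9 LD3_c37)) = (LP (LK LD1_c1 LD2_c14 LD3_c2)) :=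
  Lgr Lrot162 (Lpe (f31693 IH) (Lpr_gf (K9.f101517 IH) (Lpe (K9.f177767 IH) (Lpe (K9.f164693 IH) (Lpr_dt (K9.f164741 IH) (Lpe (K9.f166171 IH) (Lpr_ct (K9.f35003 IH) (Lpr_gt (f180583 IH) (Lpe (f180633 IH) (Lpn (LP (LK LD1_c1 LD2_c14 LD3_c2))))))))))))
theorem f31692 : Led Lsl_ct (LP (LK LD1_c1 LD2_c9 LD3_c37)) = (LP (LK LD1_c0 LD2_c32 LD3_c5)) :=
  Lre_c IH (LK LD1_c1 LD2_c9 LD3_c37) (LK LD1_c0 LD2_c32 LD3_c5) Lrfl Lrfl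
theorem f31442 : Led Lsl_gt (LP (LK LD1_c0 LD2_c14 LD3_c21)) = (LP (LK LD1_c0 LD2_c32 LD3_c7)) :=
  Lre_g IH (LK LD1_c0 LD2_c14 LD3_c21) (LK LD1_c0 LD2_c32 LD3_c7) Lrfl Lrfl
theorem f31669 : Led Lsl_gf (LP (LK LD1_c0 LD2_c32 LD3_c13)) = (LP (LK LD1_c0 LD2_c32 LD3_c7)) :=
  Lgr Lrot76 (Lpr_af (K1.f31657 IH) (Lpe (K2.f31668 IH) (Lpr_gt (f31442 IH) (Lpn (LP (LK LD1_c0 LD2_c32 LD3_c7))))))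
theorem f61288 : Led Lsl_gt (LP (LK LD1_c0 LD2_c15 LD3_c23)) = (LP (LK LD1_c0 LD2_c34 LD3_c16)) :=
  Lre_g IH (LK LD1_c0 LD2_c15 LD3_c23) (LK LD1_c0 LD2_c34 LD3_c16) Lrfl Lrfl
theorem f164076 : Led Lsl_gf (LP (LK LD1_c0 LD2_c33 LD3_c38)) = (LP (LK LD1_c0 LD2_c34 LD3_c16)) :=
  Lgr Lrot76 (Lpr_af (K8.f163924 IH) (Lpe (K8.f163923 IH) (Lpr_gt (f61288 IH) (Lpn (LP (LK LD1_c0 LD2_c34 LD3_c16))))))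
theorem f171647 : Led Lsl_ct (LP (LK LD1_c0 LD2_c32 LD3_c7)) = (LP (LK LD1_c0 LD2_c34 LD3_c16)) :=
  Lgr Lrot152 (Lpe (f31442 IH) (Lpe (K9.f31439 IH) (Lpr_gt (K9.f31444 IH) (Lpr_ct (K9.f171510 IH) (Lpe (K9.f165481 IH) (Lpr_ct (K0.f3146 IH) (Lpe (K8.f3152 IH) (Lpe (K8.f3159 IH) (Lpr_gf (f164076 IH) (Lpn (LP (LK LD1_c0 LD2_c34 LD3_c16))))))))))))
theorem f180661 : Led Lsl_gt (LP (LK LD1_c1 LD2_c12 LD3_c42)) = (LP (LK LD1_c1 LD2_c14 LD3_c2)) :=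
  Lgr Lrot49 (Lpe (K8.f163740 IH) (Lpr_gf (f164076 IH) (Lpe (f171647 IH) (Lpe (f31669 IH) (Lpr_dt (K1.f31656 IH) (Lpr_gt (f31687 IH) (Lpr_dt (f31691 IH) (Lpe (f31692 IH) (Lpr_df (f180637 IH) (Lpn (LP (LK LD1_c1 LD2_c14 LD3_c2))))))))))))
theorem f180693 : Led Lsl_ct (LP (LK LD1_c1 LD2_c14 LD3_c2)) = (LP (LK LD1_c2 LD2_c32 LD3_c1)) :=
  Lgr Lrot59 (Lpr_cf (f180633 IH) (Lpn (LP (LK LD1_c2 LD2_c32 LD3_c1))))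
theorem f186682 : Led Lsl_cf (LP (LK LD1_c0 LD2_c27 LD3_c30)) = (LP (LK LD1_c0 LD2_c34 LD3_c17)) :=
  Lgr Lrot169 (Lpe (K9.f31440 IH) (Lpe (K9.f71505 IH) (Lpe (K2.f71507 IH) (Lpe (K2.f71525 IH) (Lpr_gf (f180570 IH) (Lpe (f180693 IH) (Lpe (f180661 IH) (Lpe (K8.f163740 IH) (Lpr_gt (f186664 IH) (Lpn (LP (LK LD1_c0 LD2_c34 LD3_c17))))))))))))
theorem f186688 : Led Lsl_ct (LP (LK LD1_c0 LD2_c27 LD3_c30)) = (LP (LK LD1_c0 LD2_c34 LD3_c17)) :=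
  Lgr Lrot59 (Lpr_cf (f186682 IH) (Lpn (LP (LK LD1_c0 LD2_c34 LD3_c17))))
theorem f21331 : Led Lsl_gt (LP (LK LD1_c0 LD2_c15 LD3_c12)) = (LP (LK LD1_c0 LD2_c6 LD3_c57)) :=
  Lre_g IH (LK LD1_c0 LD2_c15 LD3_c12) (LK LD1_c0 LD2_c6 LD3_c57) Lrfl Lrfl
theorem f186710 : Led Lsl_ct (LP (LK LD1_c0 LD2_c14 LD3_c20)) = (LP (LK LD1_c0 LD2_c15 LD3_c12)) :=
  Lgr Lrot152 (Lpe (f31687 IH) (Lpe (K1.f31656 IH) (Lpr_gt (K9.f31679 IH) (Lpr_ct (f186688 IH) (Lpr_gt (f56664 IH) (Lpr_ct (K8.f20462 IH) (Lpe (K0.f20452 IH) (Lpe (K8.f22101 IH) (Lpe (f21331 IH) (Lpn (LP (LK LD1_c0 LD2_c15 LD3_c12))))))))))))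
theorem f169449 : Led Lsl_ct (LP (LK LD1_c1 LD2_c12 LD3_c0)) = (LP (LK LD1_c2 LD2_c30 LD3_c0)) :=
  Lre_c IH (LK LD1_c1 LD2_c12 LD3_c0) (LK LD1_c2 LD2_c30 LD3_c0) Lrfl Lrfl
theorem f21332 : Led Lsl_dt (LP (LK LD1_c0 LD2_c33 LD3_c54)) = (LP (LK LD1_c0 LD2_c15 LD3_c12)) :=
  Lre_d IH (LK LD1_c0 LD2_c33 LD3_c54) (LK LD1_c0 LD2_c15 LD3_c12) Lrfl Lrfl
theorem f185399 : Led Lsl_ct (LP (LK LD1_c1 LD2_c13 LD3_c6)) = (LP (LK LD1_c0 LD2_c33 LD3_c54)) :=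
  Lre_c IH (LK LD1_c1 LD2_c13 LD3_c6) (LK LD1_c0 LD2_c33 LD3_c54) Lrfl Lrfl
theorem f186721 : Led Lsl_gt (LP (LK LD1_c2 LD2_c30 LD3_c0)) = (LP (LK LD1_c1 LD2_c13 LD3_c6)) :=
  Lgr Lrot150 (Lpe (f169449 IH) (Lpe (K9.f165227 IH) (Lpe (K9.f165191 IH) (Lpr_gt (K9.f166410 IH) (Lpr_ct (K1.f32235 IH) (Lpr_gt (f31687 IH) (Lpr_ct (f186710 IH) (Lpe (f21332 IH) (Lpe (f185399 IH) (Lpn (LP (LK LD1_c1 LD2_c13 LD3_c6))))))))))))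
theorem f169457 : Led Lsl_ct (LP (LK LD1_c2 LD2_c30 LD3_c0)) = (LP (LK LD1_c1 LD2_c12 LD3_c0)) :=
  Lre_c IH (LK LD1_c2 LD2_c30 LD3_c0) (LK LD1_c1 LD2_c12 LD3_c0) Lrfl Lrfl
theorem f178981 : Led Lsl_gt (LP (LK LD1_c1 LD2_c12 LD3_c0)) = (LP (LK LD1_c0 LD2_c33 LD3_c25)) :=
  Lgr Lrot49 (Lpe (K9.f169443 IH) (Lpe (K9.f177781 IH) (Lpr_cf (K9.f170611 IH) (Lpr_gt (K9.f178979 IH) (Lpe (f177630 IH) (Lpr_gt (K9.f177175 IH) (Lpr_dt (K9.f22119 IH) (Lpe (K9.f163686 IH) (Lpe (K9.f163684 IH) (Lpn (LP (LK LD1_c0 LD2_c33 LD3_c25))))))))))))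
theorem f185397 : Led Lsl_dt (LP (LK LD1_c1 LD2_c13 LD3_c6)) = (LP (LK LD1_c2 LD2_c32 LD3_c12)) :=
  Lre_d IH (LK LD1_c1 LD2_c13 LD3_c6) (LK LD1_c2 LD2_c32 LD3_c12) Lrfl Lrfl
theorem f186723 : Led Lsl_gf (LP (LK LD1_c1 LD2_c14 LD3_c32)) = (LP (LK LD1_c2 LD2_c32 LD3_c12)) :=
  Lgr Lrot143 (Lpr_dt (K9.f31690 IH) (Lpe (K2.f32285 IH) (Lpe (K2.f32264 IH) (Lpr_gf (K9.f165870 IH) (Lpe (K9.f163684 IH) (Lpe (f178981 IH) (Lpe (f169457 IH) (Lpr_gt (f186721 IH) (Lpr_dt (f185397 IH) (Lpn (LP (LK LD1_c2 LD2_c32 LD3_c12))))))))))))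
theorem f171690 : Led Lsl_cf (LP (LK LD1_c0 LD2_c32 LD3_c7)) = (LP (LK LD1_c0 LD2_c34 LD3_c16)) :=
  Lgr Lrot11 (Lpr_ct (f171647 IH) (Lpn (LP (LK LD1_c0 LD2_c34 LD3_c16))))
theorem f186773 : Led Lsl_ct (LP (LK LD1_c1 LD2_c14 LD3_c1)) = (LP (LK LD1_c2 LD2_c32 LD3_c12)) :=
  Lgr Lrot152 (Lpe (K9.f163938 IH) (Lpe (K8.f59573 IH) (Lpr_gt (f61288 IH) (Lpe (f171690 IH) (Lpe (f31669 IH) (Lpe (K2.f34992 IH) (Lpe (K2.f34994 IH) (Lpr_cf (K2.f34996 IH) (Lpr_gf (f186723 IH) (Lpn (LP (LK LD1_c2 LD2_c32 LD3_c12))))))))))))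
theorem f32281 : Led Lsl_at (LP (LK LD1_c0 LD2_c34 LD3_c49)) = (LP (LK LD1_c0 LD2_c34 LD3_c34)) :=
  Lgr Lrot51 (Lpe (K1.f32222 IH) (Lpr_af (K1.f32269 IH) (Lpe (K2.f32280 IH) (Lpn (LP (LK LD1_c0 LD2_c34 LD3_c34))))))
theorem f32884 : Led Lsl_ft (LP (LK LD1_c0 LD2_c15 LD3_c35)) = (LP (LK LD1_c0 LD2_c34 LD3_c49)) :=
  Lre_f IH (LK LD1_c0 LD2_c15 LD3_c35) (LK LD1_c0 LD2_c34 LD3_c49) Lrfl Lrfl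
theorem f32885 : Led Lsl_gt (LP (LK LD1_c0 LD2_c15 LD3_c35)) = (LP (LK LD1_c0 LD2_c34 LD3_c46)) :=
  Lre_g IH (LK LD1_c0 LD2_c15 LD3_c35) (LK LD1_c0 LD2_c34 LD3_c46) Lrfl Lrfl
theorem f32886 : Led Lsl_gt (LP (LK LD1_c0 LD2_c34 LD3_c46)) = (LP (LK LD1_c0 LD2_c34 LD3_c34)) :=
  Lgr Lrot46 (Lpe (f32885 IH) (Lpr_ft (f32884 IH) (Lpr_at (f32281 IH) (Lpn (LP (LK LD1_c0 LD2_c34 LD3_c34))))))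
theorem f185181 : Led Lsl_ct (LP (LK LD1_c1 LD2_c13 LD3_c15)) = (LP (LK LD1_c0 LD2_c34 LD3_c46)) :=
  Lgr Lrot152 (Lpe (f21996 IH) (Lpe (K0.f21381 IH) (Lpr_gt (f21388 IH) (Lpr_ct (f185165 IH) (Lpe (f185153 IH) (Lpr_ct (K2.f35008 IH) (Lpr_df (K9.f35020 IH) (Lpe (K9.f32587 IH) (Lpe (f32886 IH) (Lpn (LP (LK LD1_c0 LD2_c34 LD3_c46))))))))))))
theorem f185187 : Led Lsl_cf (LP (LK LD1_c1 LD2_c13 LD3_c15)) = (LP (LK LD1_c0 LD2_c34 LD3_c46)) :=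
  Lgr Lrot11 (Lpr_ct (f185181 IH) (Lpn (LP (LK LD1_c0 LD2_c34 LD3_c46))))
theorem f163767 : Led Lsl_gf (LP (LK LD1_c1 LD2_c11 LD3_c54)) = (LP (LK LD1_c1 LD2_c13 LD3_c15)) :=
  Lgr Lrot76 (Lpr_af (K8.f163738 IH) (Lpe (K8.f21967 IH) (Lpr_gt (f21996 IH) (Lpn (LP (LK LD1_c1 LD2_c13 LD3_c15))))))
theorem f165496 : Led Lsl_ct (LP (LK LD1_c0 LD2_c15 LD3_c15)) = (LP (LK LD1_c0 LD2_c6 LD3_c58)) :=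
  Lre_c IH (LK LD1_c0 LD2_c15 LD3_c15) (LK LD1_c0 LD2_c6 LD3_c58) Lrfl Lrfl
theorem f185574 : Led Lsl_gf (LP (LK LD1_c0 LD2_c15 LD3_c15)) = (LP (LK LD1_c0 LD2_c7 LD3_c3)) :=
  Lgr Lrot147 (Lpr_ct (f165496 IH) (Lpe (K9.f165494 IH) (Lpr_ct (K0.f3148 IH) (Lpe (K8.f3156 IH) (Lpe (K8.f33389 IH) (Lpr_gf (f163767 IH) (Lpr_cf (f185187 IH) (Lpe (f32885 IH) (Lpe (K9.f32248 IH) (Lpn (LP (LK LD1_c0 LD2_c7 LD3_c3))))))))))))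
theorem f185014 : Led Lsl_dt (LP (LK LD1_c0 LD2_c15 LD3_c15)) = (LP (LK LD1_c0 LD2_c33 LD3_c61)) :=
  Lre_d IH (LK LD1_c0 LD2_c15 LD3_c15) (LK LD1_c0 LD2_c33 LD3_c61) Lrfl Lrfl
theorem f185013 : Led Lsl_ct (LP (LK LD1_c0 LD2_c33 LD3_c61)) = (LP (LK LD1_c1 LD2_c13 LD3_c24)) :=
  Lre_c IH (LK LD1_c0 LD2_c33 LD3_c61) (LK LD1_c1 LD2_c13 LD3_c24) Lrfl Lrfl
theorem f186606 : Led Lsl_df (LP (LK LD1_c1 LD2_c13 LD3_c24)) = (LP (LK LD1_c2 LD2_c32 LD3_c46)) :=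
  Lgr Lrot84 (Lpe (f185013 IH) (Lpe (f185014 IH) (Lpr_gf (f185574 IH) (Lpe (K8.f31617 IH) (Lpe (K9.f32065 IH) (Lpr_cf (f186576 IH) (Lpr_gt (f22000 IH) (Lpr_dt (K8.f21387 IH) (Lpr_gt (f21388 IH) (Lpn (LP (LK LD1_c2 LD2_c32 LD3_c46))))))))))))
theorem f185396 : Led Lsl_ct (LP (LK LD1_c0 LD2_c33 LD3_c54)) = (LP (LK LD1_c1 LD2_c13 LD3_c6)) :=
  Lre_c IH (LK LD1_c0 LD2_c33 LD3_c54) (LK LD1_c1 LD2_c13 LD3_c6) Lrfl Lrfl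
theorem f165513 : Led Lsl_dt (LP (LK LD1_c0 LD2_c15 LD3_c18)) = (LP (LK LD1_c0 LD2_c34 LD3_c7)) :=
  Lre_d IH (LK LD1_c0 LD2_c15 LD3_c18) (LK LD1_c0 LD2_c34 LD3_c7) Lrfl Lrfl
theorem f165523 : Led Lsl_ct (LP (LK LD1_c0 LD2_c34 LD3_c7)) = (LP (LK LD1_c1 LD2_c13 LD3_c41)) :=
  Lre_c IH (LK LD1_c0 LD2_c34 LD3_c7) (LK LD1_c1 LD2_c13 LD3_c41) Lrfl Lrfl
theorem f185192 : Led Lsl_dt (LP (LK LD1_c2 LD2_c32 LD3_c47)) = (LP (LK LD1_c1 LD2_c13 LD3_c41)) :=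
  Lgr Lrot113 (Lpr_gf (f163936 IH) (Lpe (K9.f163727 IH) (Lpr_gf (f163767 IH) (Lpr_ct (f185181 IH) (Lpr_gt (f32886 IH) (Lpr_dt (K2.f32280 IH) (Lpe (f184887 IH) (Lpr_dt (f165513 IH) (Lpr_ct (f165523 IH) (Lpn (LP (LK LD1_c1 LD2_c13 LD3_c41))))))))))))
theorem f185264 : Led Lsl_df (LP (LK LD1_c2 LD2_c32 LD3_c47)) = (LP (LK LD1_c1 LD2_c13 LD3_c41)) :=
  Lgr Lrot38 (Lpr_dt (f185192 IH) (Lpn (LP (LK LD1_c1 LD2_c13 LD3_c41))))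
theorem f21313 : Led Lsl_ct (LP (LK LD1_c0 LD2_c33 LD3_c58)) = (LP (LK LD1_c0 LD2_c15 LD3_c13)) :=
  Lre_c IH (LK LD1_c0 LD2_c33 LD3_c58) (LK LD1_c0 LD2_c15 LD3_c13) Lrfl Lrfl
theorem f22010 : Led Lsl_dt (LP (LK LD1_c0 LD2_c15 LD3_c11)) = (LP (LK LD1_c0 LD2_c33 LD3_c52)) :=
  Lre_d IH (LK LD1_c0 LD2_c15 LD3_c11) (LK LD1_c0 LD2_c33 LD3_c52) Lrfl Lrfl
theorem f22011 : Led Lsl_gt (LP (LK LD1_c0 LD2_c33 LD3_c52)) = (LP (LK LD1_c1 LD2_c13 LD3_c0)) :=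
  Lre_g IH (LK LD1_c0 LD2_c33 LD3_c52) (LK LD1_c1 LD2_c13 LD3_c0) Lrfl Lrfl
theorem f22020 : Led Lsl_ct (LP (LK LD1_c1 LD2_c13 LD3_c0)) = (LP (LK LD1_c2 LD2_c31 LD3_c59)) :=
  Lre_c IH (LK LD1_c1 LD2_c13 LD3_c0) (LK LD1_c2 LD2_c31 LD3_c59) Lrfl Lrfl
theorem f165509 : Led Lsl_dt (LP (LK LD1_c0 LD2_c34 LD3_c7)) = (LP (LK LD1_c0 LD2_c15 LD3_c18)) :=
  Lre_d IH (LK LD1_c0 LD2_c34 LD3_c7) (LK LD1_c0 LD2_c15 LD3_c18) Lrfl Lrfl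
theorem f165510 : Led Lsl_ct (LP (LK LD1_c1 LD2_c13 LD3_c41)) = (LP (LK LD1_c0 LD2_c34 LD3_c7)) :=
  Lre_c IH (LK LD1_c1 LD2_c13 LD3_c41) (LK LD1_c0 LD2_c34 LD3_c7) Lrfl Lrfl
theorem f165511 : Led Lsl_gt (LP (LK LD1_c2 LD2_c31 LD3_c59)) = (LP (LK LD1_c1 LD2_c13 LD3_c41)) :=
  Lgr Lrot150 (Lpe (f22020 IH) (Lpe (f22011 IH) (Lpe (f22010 IH) (Lpe (K9.f165481 IH) (Lpr_ct (K0.f3146 IH) (Lpr_gt (K9.f165506 IH) (Lpr_ct (f165508 IH) (Lpe (f165509 IH) (Lpe (f165510 IH) (Lpn (LP (LK LD1_c1 LD2_c13 LD3_c41))))))))))))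
theorem f185354 : Led Lsl_gf (LP (LK LD1_c0 LD2_c33 LD3_c54)) = (LP (LK LD1_c1 LD2_c13 LD3_c0)) :=
  Lgr Lrot144 (Lpr_dt (f21332 IH) (Lpr_gt (f21331 IH) (Lpr_dt (K0.f20821 IH) (Lpe (f21313 IH) (Lpe (K0.f21381 IH) (Lpe (f21392 IH) (Lpr_df (f185264 IH) (Lpe (f165511 IH) (Lpe (f22020 IH) (Lpn (LP (LK LD1_c1 LD2_c13 LD3_c0))))))))))))
theorem f22029 : Led Lsl_ct (LP (LK LD1_c2 LD2_c31 LD3_c59)) = (LP (LK LD1_c1 LD2_c13 LD3_c0)) :=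
  Lre_c IH (LK LD1_c2 LD2_c31 LD3_c59) (LK LD1_c1 LD2_c13 LD3_c0) Lrfl Lrfl
theorem f186784 : Led Lsl_gt (LP (LK LD1_c1 LD2_c13 LD3_c24)) = (LP (LK LD1_c2 LD2_c31 LD3_c59)) :=
  Lgr Lrot9 (Lpr_df (f186606 IH) (Lpe (f164635 IH) (Lpr_ct (K9.f163658 IH) (Lpr_gt (K9.f163938 IH) (Lpr_ct (f186773 IH) (Lpe (f185397 IH) (Lpe (f185396 IH) (Lpr_gf (f185354 IH) (Lpe (f22029 IH) (Lpn (LP (LK LD1_c2 LD2_c31 LD3_c59))))))))))))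
theorem f184991 : Led Lsl_gt (LP (LK LD1_c1 LD2_c13 LD3_c23)) = (LP (LK LD1_c0 LD2_c33 LD3_c61)) :=
  Lre_g IH (LK LD1_c1 LD2_c13 LD3_c23) (LK LD1_c0 LD2_c33 LD3_c61) Lrfl Lrfl
theorem f184892 : Led Lsl_et (LP (LK LD1_c0 LD2_c34 LD3_c8)) = (LP (LK LD1_c0 LD2_c15 LD3_c18)) :=
  Lre_e IH (LK LD1_c0 LD2_c34 LD3_c8) (LK LD1_c0 LD2_c15 LD3_c18) Lrfl Lrfl
theorem f184893 : Led Lsl_dt (LP (LK LD1_c0 LD2_c34 LD3_c8)) = (LP (LK LD1_c1 LD2_c13 LD3_c43)) :=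
  Lre_d IH (LK LD1_c0 LD2_c34 LD3_c8) (LK LD1_c1 LD2_c13 LD3_c43) Lrfl Lrfl
theorem f184894 : Led Lsl_gf (LP (LK LD1_c1 LD2_c13 LD3_c43)) = (LP (LK LD1_c0 LD2_c39 LD3_c14)) :=
  Lgr Lrot134 (Lpe (f184893 IH) (Lpr_et (f184892 IH) (Lpr_gt (f184884 IH) (Lpe (K0.f28413 IH) (Lpr_dt (K0.f28425 IH) (Lpr_gt (K0.f28437 IH) (Lpe (K0.f7688 IH) (Lpr_et (K9.f7690 IH) (Lpr_gt (K9.f55923 IH) (Lpr_dt (K9.f181189 IH) (Lpn (LP (LK LD1_c0 LD2_c39 LD3_c14)))))))))))))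
theorem f183937 : Led Lsl_ct (LP (LK LD1_c1 LD2_c13 LD3_c43)) = (LP (LK LD1_c2 LD2_c33 LD3_c34)) :=
  Lre_c IH (LK LD1_c1 LD2_c13 LD3_c43) (LK LD1_c2 LD2_c33 LD3_c34) Lrfl Lrfl
theorem f9087 : Led Lsl_dt (LP (LK LD1_c0 LD2_c39 LD3_c31)) = (LP (LK LD1_c0 LD2_c17 LD3_c42)) :=
  Lre_d IH (LK LD1_c0 LD2_c39 LD3_c31) (LK LD1_c0 LD2_c17 LD3_c42) Lrfl Lrfl
theorem f9086 : Led Lsl_ct (LP (LK LD1_c1 LD2_c25 LD3_c37)) = (LP (LK LD1_c0 LD2_c39 LD3_c31)) :=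
  Lre_c IH (LK LD1_c1 LD2_c25 LD3_c37) (LK LD1_c0 LD2_c39 LD3_c31) Lrfl Lrfl
theorem f184902 : Led Lsl_gt (LP (LK LD1_c2 LD2_c33 LD3_c34)) = (LP (LK LD1_c1 LD2_c25 LD3_c37)) :=
  Lgr Lrot150 (Lpe (f183937 IH) (Lpr_gf (f184894 IH) (Lpe (K9.f181189 IH) (Lpr_gt (K9.f181193 IH) (Lpe (K9.f9068 IH) (Lpr_gt (K0.f9080 IH) (Lpr_ct (K9.f9084 IH) (Lpe (f9087 IH) (Lpe (f9086 IH) (Lpn (LP (LK LD1_c1 LD2_c25 LD3_c37))))))))))))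
theorem f184905 : Led Lsl_ct (LP (LK LD1_c2 LD2_c33 LD3_c34)) = (LP (LK LD1_c1 LD2_c13 LD3_c43)) :=
  Lre_c IH (LK LD1_c2 LD2_c33 LD3_c34) (LK LD1_c1 LD2_c13 LD3_c43) Lrfl Lrfl
theorem f169001 : Led Lsl_ct (LP (LK LD1_c0 LD2_c39 LD3_c24)) = (LP (LK LD1_c1 LD2_c25 LD3_c31)) :=
  Lre_c IH (LK LD1_c0 LD2_c39 LD3_c24) (LK LD1_c1 LD2_c25 LD3_c31) Lrfl Lrfl
theorem f169002 : Led Lsl_ct (LP (LK LD1_c0 LD2_c39 LD3_c26)) = (LP (LK LD1_c0 LD2_c17 LD3_c39)) :=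
  Lre_c IH (LK LD1_c0 LD2_c39 LD3_c26) (LK LD1_c0 LD2_c17 LD3_c39) Lrfl Lrfl
theorem f177158 : Led Lsl_dt (LP (LK LD1_c1 LD2_c25 LD3_c34)) = (LP (LK LD1_c0 LD2_c39 LD3_c26)) :=
  Lre_d IH (LK LD1_c1 LD2_c25 LD3_c34) (LK LD1_c0 LD2_c39 LD3_c26) Lrfl Lrfl
theorem f177388 : Led Lsl_gt (LP (LK LD1_c0 LD2_c57 LD3_c7)) = (LP (LK LD1_c1 LD2_c25 LD3_c34)) :=
  Lgr Lrot49 (Lpe (K9.f55410 IH) (Lpr_gf (K9.f177381 IH) (Lpe (K9.f20660 IH) (Lpr_gt (K9.f6969 IH) (Lpr_dt (K0.f9026 IH) (Lpr_gt (K9.f20625 IH) (Lpr_dt (K9.f20806 IH) (Lpe (f169002 IH) (Lpe (f177158 IH) (Lpn (LP (LK LD1_c1 LD2_c25 LD3_c34))))))))))))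
theorem f169093 : Led Lsl_ct (LP (LK LD1_c0 LD2_c39 LD3_c34)) = (LP (LK LD1_c0 LD2_c17 LD3_c45)) :=
  Lre_c IH (LK LD1_c0 LD2_c39 LD3_c34) (LK LD1_c0 LD2_c17 LD3_c45) Lrfl Lrfl
theorem f9024 : Led Lsl_ct (LP (LK LD1_c1 LD2_c25 LD3_c26)) = (LP (LK LD1_c2 LD2_c16 LD3_c60)) :=
  Lre_c IH (LK LD1_c1 LD2_c25 LD3_c26) (LK LD1_c2 LD2_c16 LD3_c60) Lrfl Lrfl
theorem f9061 : Led Lsl_gt (LP (LK LD1_c2 LD2_c59 LD3_c33)) = (LP (LK LD1_c1 LD2_c25 LD3_c26)) :=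
  Lre_g IH (LK LD1_c2 LD2_c59 LD3_c33) (LK LD1_c1 LD2_c25 LD3_c26) Lrfl Lrfl
theorem f177393 : Led Lsl_cf (LP (LK LD1_c2 LD2_c59 LD3_c33)) = (LP (LK LD1_c1 LD2_c25 LD3_c34)) :=
  Lgr Lrot169 (Lpr_gt (f9061 IH) (Lpr_ct (f9024 IH) (Lpe (K1.f9065 IH) (Lpe (K9.f9066 IH) (Lpe (K0.f9082 IH) (Lpe (f169093 IH) (Lpe (K9.f169087 IH) (Lpe (K1.f55381 IH) (Lpr_gt (f177388 IH) (Lpn (LP (LK LD1_c1 LD2_c25 LD3_c34))))))))))))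
theorem f177404 : Led Lsl_ct (LP (LK LD1_c2 LD2_c59 LD3_c33)) = (LP (LK LD1_c1 LD2_c25 LD3_c34)) :=
  Lgr Lrot59 (Lpr_cf (f177393 IH) (Lpn (LP (LK LD1_c1 LD2_c25 LD3_c34))))
theorem f9085 : Led Lsl_dt (LP (LK LD1_c0 LD2_c17 LD3_c42)) = (LP (LK LD1_c0 LD2_c39 LD3_c31)) :=
  Lre_d IH (LK LD1_c0 LD2_c17 LD3_c42) (LK LD1_c0 LD2_c39 LD3_c31) Lrfl Lrfl
theorem f177452 : Led Lsl_ct (LP (LK LD1_c0 LD2_c39 LD3_c31)) = (LP (LK LD1_c1 LD2_c25 LD3_c37)) :=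
  Lre_c IH (LK LD1_c0 LD2_c39 LD3_c31) (LK LD1_c1 LD2_c25 LD3_c37) Lrfl Lrfl
theorem f177501 : Led Lsl_df (LP (LK LD1_c2 LD2_c59 LD3_c33)) = (LP (LK LD1_c1 LD2_c25 LD3_c37)) :=
  Lgr Lrot43 (Lpr_ct (f177404 IH) (Lpr_dt (f177158 IH) (Lpr_ct (f169002 IH) (Lpr_dt (K9.f20636 IH) (Lpr_ct (K9.f20758 IH) (Lpr_dt (K9.f168881 IH) (Lpr_ct (f169001 IH) (Lpr_dt (K9.f177494 IH) (Lpe (K9.f177450 IH) (Lpr_dt (K9.f169089 IH) (Lpr_ct (K9.f20577 IH) (Lpr_dt (K0.f20567 IH) (Lpr_ct (K9.f9084 IH) (Lpr_dt (f9085 IH) (Lpr_ct (f177452 IH) (Lpn (LP (LK LD1_c1 LD2_c25 LD3_c37))))))))))))))))))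
theorem f9072 : Led Lsl_dt (LP (LK LD1_c1 LD2_c25 LD3_c26)) = (LP (LK LD1_c0 LD2_c39 LD3_c21)) :=
  Lre_d IH (LK LD1_c1 LD2_c25 LD3_c26) (LK LD1_c0 LD2_c39 LD3_c21) Lrfl Lrfl
theorem f8558 : Led Lsl_ct (LP (LK LD1_c0 LD2_c17 LD3_c36)) = (LP (LK LD1_c0 LD2_c39 LD3_c21)) :=
  Lre_c IH (LK LD1_c0 LD2_c17 LD3_c36) (LK LD1_c0 LD2_c39 LD3_c21) Lrfl Lrfl
theorem f184926 : Led Lsl_gt (LP (LK LD1_c1 LD2_c13 LD3_c43)) = (LP (LK LD1_c0 LD2_c39 LD3_c17)) :=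
  Lgr Lrot94 (Lpe (f184905 IH) (Lpr_gt (f184902 IH) (Lpe (f177501 IH) (Lpr_gt (f9061 IH) (Lpr_dt (f9072 IH) (Lpe (f8558 IH) (Lpe (K9.f6966 IH) (Lpe (K9.f55922 IH) (Lpe (K9.f165046 IH) (Lpn (LP (LK LD1_c0 LD2_c39 LD3_c17))))))))))))
theorem f184917 : Led Lsl_et (LP (LK LD1_c2 LD2_c33 LD3_c32)) = (LP (LK LD1_c1 LD2_c13 LD3_c43)) :=
  Lre_e IH (LK LD1_c2 LD2_c33 LD3_c32) (LK LD1_c1 LD2_c13 LD3_c43) Lrfl Lrfl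
theorem f184918 : Led Lsl_dt (LP (LK LD1_c2 LD2_c33 LD3_c32)) = (LP (LK LD1_c1 LD2_c13 LD3_c42)) :=
  Lre_d IH (LK LD1_c2 LD2_c33 LD3_c32) (LK LD1_c1 LD2_c13 LD3_c42) Lrfl Lrfl
theorem f8565 : Led Lsl_et (LP (LK LD1_c0 LD2_c17 LD3_c36)) = (LP (LK LD1_c0 LD2_c12 LD3_c40)) :=
  Lgr Lrot87 (Lpr_ef (K0.f8543 IH) (Lpn (LP (LK LD1_c0 LD2_c12 LD3_c40))))
theorem f7631 : Led Lsl_et (LP (LK LD1_c1 LD2_c2 LD3_c56)) = (LP (LK LD1_c0 LD2_c28 LD3_c41)) :=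
  Lre_e IH (LK LD1_c1 LD2_c2 LD3_c56) (LK LD1_c0 LD2_c28 LD3_c41) Lrfl Lrfl
theorem f7632 : Led Lsl_dt (LP (LK LD1_c1 LD2_c2 LD3_c56)) = (LP (LK LD1_c2 LD2_c11 LD3_c55)) :=
  Lre_d IH (LK LD1_c1 LD2_c2 LD3_c56) (LK LD1_c2 LD2_c11 LD3_c55) Lrfl Lrfl
theorem f184973 : Led Lsl_gf (LP (LK LD1_c1 LD2_c13 LD3_c42)) = (LP (LK LD1_c2 LD2_c11 LD3_c55)) :=
  Lgr Lrot145 (Lpe (f184918 IH) (Lpr_et (f184917 IH) (Lpr_gt (f184926 IH) (Lpr_dt (K9.f165046 IH) (Lpr_gt (K9.f55922 IH) (Lpe (K9.f8562 IH) (Lpr_et (f8565 IH) (Lpr_gt (K9.f165016 IH) (Lpe (f7631 IH) (Lpr_dt (f7632 IH) (Lpn (LP (LK LD1_c2 LD2_c11 LD3_c55)))))))))))))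
theorem f165048 : Led Lsl_gt (LP (LK LD1_c2 LD2_c11 LD3_c54)) = (LP (LK LD1_c1 LD2_c2 LD3_c56)) :=
  Lre_g IH (LK LD1_c2 LD2_c11 LD3_c54) (LK LD1_c1 LD2_c2 LD3_c56) Lrfl Lrfl
theorem f165049 : Led Lsl_et (LP (LK LD1_c4 LD2_c29 LD3_c47)) = (LP (LK LD1_c2 LD2_c11 LD3_c54)) :=
  Lre_e IH (LK LD1_c4 LD2_c29 LD3_c47) (LK LD1_c2 LD2_c11 LD3_c54) Lrfl Lrfl
theorem f169467 : Led Lsl_dt (LP (LK LD1_c1 LD2_c25 LD3_c16)) = (LP (LK LD1_c2 LD2_c30 LD3_c1)) :=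
  Lgr Lrot42 (Lpr_df (K9.f169455 IH) (Lpn (LP (LK LD1_c2 LD2_c30 LD3_c1))))
theorem f169479 : Led Lsl_gt (LP (LK LD1_c2 LD2_c30 LD3_c1)) = (LP (LK LD1_c5 LD2_c5 LD3_c34)) :=
  Lre_g IH (LK LD1_c2 LD2_c30 LD3_c1) (LK LD1_c5 LD2_c5 LD3_c34) Lrfl Lrfl
theorem f184975 : Led Lsl_dt (LP (LK LD1_c4 LD2_c29 LD3_c47)) = (LP (LK LD1_c5 LD2_c5 LD3_c34)) :=
  Lgr Lrot37 (Lpr_et (f165049 IH) (Lpr_gt (f165048 IH) (Lpr_dt (f7632 IH) (Lpe (f184973 IH) (Lpe (f184918 IH) (Lpr_et (f184917 IH) (Lpr_gt (f184926 IH) (Lpe (K9.f169453 IH) (Lpr_dt (f169467 IH) (Lpr_gt (f169479 IH) (Lpn (LP (LK LD1_c5 LD2_c5 LD3_c34)))))))))))))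
theorem f184980 : Led Lsl_et (LP (LK LD1_c2 LD2_c11 LD3_c54)) = (LP (LK LD1_c4 LD2_c29 LD3_c47)) :=
  Lre_e IH (LK LD1_c2 LD2_c11 LD3_c54) (LK LD1_c4 LD2_c29 LD3_c47) Lrfl Lrfl
theorem f184981 : Led Lsl_dt (LP (LK LD1_c4 LD2_c29 LD3_c46)) = (LP (LK LD1_c2 LD2_c11 LD3_c54)) :=
  Lre_d IH (LK LD1_c4 LD2_c29 LD3_c46) (LK LD1_c2 LD2_c11 LD3_c54) Lrfl Lrfl
theorem f178535 : Led Lsl_df (LP (LK LD1_c0 LD2_c26 LD3_c24)) = (LP (LK LD1_c0 LD2_c34 LD3_c47)) :=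
  Lgr Lrot38 (Lpr_dt (K9.f178530 IH) (Lpn (LP (LK LD1_c0 LD2_c34 LD3_c47))))
theorem f32265 : Led Lsl_af (LP (LK LD1_c0 LD2_c15 LD3_c35)) = (LP (LK LD1_c0 LD2_c15 LD3_c29)) :=
  Lgr Lrot117 (Lpr_dt (K8.f31617 IH) (Lpr_at (K1.f32244 IH) (Lpr_dt (K2.f32264 IH) (Lpn (LP (LK LD1_c0 LD2_c15 LD3_c29))))))
theorem f32875 : Led Lsl_ft (LP (LK LD1_c0 LD2_c34 LD3_c34)) = (LP (LK LD1_c0 LD2_c15 LD3_c29)) :=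
  Lre_f IH (LK LD1_c0 LD2_c34 LD3_c34) (LK LD1_c0 LD2_c15 LD3_c29) Lrfl Lrfl
theorem f32909 : Led Lsl_gf (LP (LK LD1_c0 LD2_c34 LD3_c47)) = (LP (LK LD1_c0 LD2_c34 LD3_c34)) :=
  Lgr Lrot47 (Lpr_gt (K9.f32065 IH) (Lpr_af (f32265 IH) (Lpe (f32875 IH) (Lpn (LP (LK LD1_c0 LD2_c34 LD3_c34))))))
theorem f32292 : Led Lsl_et (LP (LK LD1_c1 LD2_c14 LD3_c34)) = (LP (LK LD1_c0 LD2_c34 LD3_c34)) :=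
  Lre_e IH (LK LD1_c1 LD2_c14 LD3_c34) (LK LD1_c0 LD2_c34 LD3_c34) Lrfl Lrfl
theorem f32294 : Led Lsl_et (LP (LK LD1_c0 LD2_c34 LD3_c34)) = (LP (LK LD1_c1 LD2_c14 LD3_c34)) :=
  Lre_e IH (LK LD1_c0 LD2_c34 LD3_c34) (LK LD1_c1 LD2_c14 LD3_c34) Lrfl Lrfl
theorem f32295 : Led Lsl_df (LP (LK LD1_c1 LD2_c14 LD3_c34)) = (LP (LK LD1_c1 LD2_c14 LD3_c34)) :=
  Lgr Lrot70 (Lpr_et (f32292 IH) (Lpr_dt (K2.f32280 IH) (Lpr_et (K1.f32283 IH) (Lpr_dt (K9.f32293 IH) (Lpr_et (f32294 IH) (Lpn (LP (LK LD1_c1 LD2_c14 LD3_c34))))))))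
theorem f781 : Led Lsl_et (LP (LK LD1_c0 LD2_c27 LD3_c8)) = (LP (LK LD1_c0 LD2_c12 LD3_c2)) :=
  Lre_e IH (LK LD1_c0 LD2_c27 LD3_c8) (LK LD1_c0 LD2_c12 LD3_c2) Lrfl Lrfl
theorem f767 : Led Lsl_dt (LP (LK LD1_c0 LD2_c27 LD3_c8)) = (LP (LK LD1_c0 LD2_c59 LD3_c38)) :=
  Lre_d IH (LK LD1_c0 LD2_c27 LD3_c8) (LK LD1_c0 LD2_c59 LD3_c38) Lrfl Lrfl
theorem f804 : Led Lsl_gt (LP (LK LD1_c2 LD2_c5 LD3_c7)) = (LP (LK LD1_c0 LD2_c59 LD3_c38)) :=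
  Lre_g IH (LK LD1_c2 LD2_c5 LD3_c7) (LK LD1_c0 LD2_c59 LD3_c38) Lrfl Lrfl
theorem f32251 : Led Lsl_gt (LP (LK LD1_c0 LD2_c15 LD3_c34)) = (LP (LK LD1_c0 LD2_c34 LD3_c42)) :=
  Lre_g IH (LK LD1_c0 LD2_c15 LD3_c34) (LK LD1_c0 LD2_c34 LD3_c42) Lrfl Lrfl
theorem f32178 : Led Lsl_et (LP (LK LD1_c1 LD2_c14 LD3_c49)) = (LP (LK LD1_c0 LD2_c34 LD3_c42)) :=
  Lre_e IH (LK LD1_c1 LD2_c14 LD3_c49) (LK LD1_c0 LD2_c34 LD3_c42) Lrfl Lrfl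
theorem f48190 : Led Lsl_df (LP (LK LD1_c2 LD2_c5 LD3_c7)) = (LP (LK LD1_c1 LD2_c14 LD3_c49)) :=
  Lgr Lrot170 (Lpr_gt (f804 IH) (Lpe (f767 IH) (Lpr_et (f781 IH) (Lpe (K1.f47492 IH) (Lpe (K1.f45092 IH) (Lpr_gt (K1.f31436 IH) (Lpr_df (K8.f48181 IH) (Lpr_et (K9.f32145 IH) (Lpr_gt (f32251 IH) (Lpe (f32178 IH) (Lpn (LP (LK LD1_c1 LD2_c14 LD3_c49)))))))))))))
theorem f27367 : Led Lsl_gt (LP (LK LD1_c0 LD2_c59 LD3_c49)) = (LP (LK LD1_c2 LD2_c5 LD3_c7)) :=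
  Lre_g IH (LK LD1_c0 LD2_c59 LD3_c49) (LK LD1_c2 LD2_c5 LD3_c7) Lrfl Lrfl
theorem f27362 : Led Lsl_dt (LP (LK LD1_c0 LD2_c27 LD3_c12)) = (LP (LK LD1_c0 LD2_c59 LD3_c49)) :=
  Lre_d IH (LK LD1_c0 LD2_c27 LD3_c12) (LK LD1_c0 LD2_c59 LD3_c49) Lrfl Lrfl
theorem f27368 : Led Lsl_gt (LP (LK LD1_c0 LD2_c59 LD3_c36)) = (LP (LK LD1_c0 LD2_c27 LD3_c12)) :=
  Lre_g IH (LK LD1_c0 LD2_c59 LD3_c36) (LK LD1_c0 LD2_c27 LD3_c12) Lrfl Lrfl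
theorem f788 : Led Lsl_et (LP (LK LD1_c2 LD2_c5 LD3_c3)) = (LP (LK LD1_c0 LD2_c59 LD3_c36)) :=
  Lre_e IH (LK LD1_c2 LD2_c5 LD3_c3) (LK LD1_c0 LD2_c59 LD3_c36) Lrfl Lrfl
theorem f32177 : Led Lsl_gt (LP (LK LD1_c0 LD2_c34 LD3_c42)) = (LP (LK LD1_c1 LD2_c14 LD3_c41)) :=
  Lre_g IH (LK LD1_c0 LD2_c34 LD3_c42) (LK LD1_c1 LD2_c14 LD3_c41) Lrfl Lrfl
theorem f48253 : Led Lsl_dt (LP (LK LD1_c2 LD2_c5 LD3_c3)) = (LP (LK LD1_c1 LD2_c14 LD3_c54)) :=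
  Lgr Lrot37 (Lpr_et (f788 IH) (Lpr_gt (f27368 IH) (Lpr_dt (f27362 IH) (Lpr_gt (f27367 IH) (Lpr_df (f48190 IH) (Lpr_et (f32178 IH) (Lpr_gt (f32177 IH) (Lpr_ef (K1.f32153 IH) (Lpr_dt (K1.f32166 IH) (Lpr_gt (K9.f32179 IH) (Lpn (LP (LK LD1_c1 LD2_c14 LD3_c54)))))))))))))
theorem f48262 : Led Lsl_et (LP (LK LD1_c0 LD2_c59 LD3_c36)) = (LP (LK LD1_c2 LD2_c5 LD3_c3)) :=
  Lre_e IH (LK LD1_c0 LD2_c59 LD3_c36) (LK LD1_c2 LD2_c5 LD3_c3) Lrfl Lrfl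
theorem f1331 : Led Lsl_dt (LP (LK LD1_c2 LD2_c5 LD3_c2)) = (LP (LK LD1_c0 LD2_c59 LD3_c36)) :=
  Lre_d IH (LK LD1_c2 LD2_c5 LD3_c2) (LK LD1_c0 LD2_c59 LD3_c36) Lrfl Lrfl
theorem f48263 : Led Lsl_et (LP (LK LD1_c4 LD2_c15 LD3_c23)) = (LP (LK LD1_c2 LD2_c5 LD3_c2)) :=
  Lre_e IH (LK LD1_c4 LD2_c15 LD3_c23) (LK LD1_c2 LD2_c5 LD3_c2) Lrfl Lrfl
theorem f48264 : Led Lsl_et (LP (LK LD1_c1 LD2_c14 LD3_c54)) = (LP (LK LD1_c2 LD2_c35 LD3_c43)) :=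
  Lre_e IH (LK LD1_c1 LD2_c14 LD3_c54) (LK LD1_c2 LD2_c35 LD3_c43) Lrfl Lrfl
theorem f48265 : Led Lsl_df (LP (LK LD1_c4 LD2_c15 LD3_c23)) = (LP (LK LD1_c2 LD2_c35 LD3_c43)) :=
  Lgr Lrot70 (Lpr_et (f48263 IH) (Lpr_dt (f1331 IH) (Lpr_et (f48262 IH) (Lpr_dt (f48253 IH) (Lpr_et (f48264 IH) (Lpn (LP (LK LD1_c2 LD2_c35 LD3_c43))))))))
theorem f48295 : Led Lsl_gt (LP (LK LD1_c8 LD2_c29 LD3_c39)) = (LP (LK LD1_c4 LD2_c15 LD3_c23)) :=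
  Lre_g IH (LK LD1_c8 LD2_c29 LD3_c39) (LK LD1_c4 LD2_c15 LD3_c23) Lrfl Lrfl
theorem f32190 : Led Lsl_et (LP (LK LD1_c2 LD2_c35 LD3_c43)) = (LP (LK LD1_c1 LD2_c14 LD3_c54)) :=
  Lre_e IH (LK LD1_c2 LD2_c35 LD3_c43) (LK LD1_c1 LD2_c14 LD3_c54) Lrfl Lrfl
theorem f32148 : Led Lsl_et (LP (LK LD1_c0 LD2_c15 LD3_c34)) = (LP (LK LD1_c0 LD2_c7 LD3_c2)) :=
  Lre_e IH (LK LD1_c0 LD2_c15 LD3_c34) (LK LD1_c0 LD2_c7 LD3_c2) Lrfl Lrfl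
theorem f48183 : Led Lsl_dt (LP (LK LD1_c0 LD2_c34 LD3_c44)) = (LP (LK LD1_c0 LD2_c15 LD3_c34)) :=
  Lre_d IH (LK LD1_c0 LD2_c34 LD3_c44) (LK LD1_c0 LD2_c15 LD3_c34) Lrfl Lrfl
theorem f48184 : Led Lsl_et (LP (LK LD1_c0 LD2_c34 LD3_c29)) = (LP (LK LD1_c0 LD2_c34 LD3_c44)) :=
  Lgr Lrot71 (Lpe (K1.f45191 IH) (Lpe (K9.f32309 IH) (Lpr_df (K8.f48181 IH) (Lpe (f32148 IH) (Lpe (f48183 IH) (Lpn (LP (LK LD1_c0 LD2_c34 LD3_c44))))))))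
theorem f45389 : Led Lsl_dt (LP (LK LD1_c0 LD2_c34 LD3_c29)) = (LP (LK LD1_c0 LD2_c15 LD3_c28)) :=
  Lre_d IH (LK LD1_c0 LD2_c34 LD3_c29) (LK LD1_c0 LD2_c15 LD3_c28) Lrfl Lrfl
theorem f45414 : Led Lsl_dt (LP (LK LD1_c1 LD2_c14 LD3_c17)) = (LP (LK LD1_c0 LD2_c34 LD3_c27)) :=
  Lre_d IH (LK LD1_c1 LD2_c14 LD3_c17) (LK LD1_c0 LD2_c34 LD3_c27) Lrfl Lrfl
theorem f47605 : Led Lsl_et (LP (LK LD1_c1 LD2_c14 LD3_c17)) = (LP (LK LD1_c2 LD2_c34 LD3_c34)) :=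
  Lre_e IH (LK LD1_c1 LD2_c14 LD3_c17) (LK LD1_c2 LD2_c34 LD3_c34) Lrfl Lrfl
theorem f47606 : Led Lsl_gt (LP (LK LD1_c2 LD2_c34 LD3_c34)) = (LP (LK LD1_c5 LD2_c15 LD3_c28)) :=
  Lre_g IH (LK LD1_c2 LD2_c34 LD3_c34) (LK LD1_c5 LD2_c15 LD3_c28) Lrfl Lrfl
theorem f48296 : Led Lsl_df (LP (LK LD1_c8 LD2_c29 LD3_c39)) = (LP (LK LD1_c5 LD2_c15 LD3_c28)) :=
  Lgr Lrot135 (Lpr_gt (f48295 IH) (Lpr_df (f48265 IH) (Lpr_et (f32190 IH) (Lpr_gt (K9.f33097 IH) (Lpe (f48184 IH) (Lpr_dt (f45389 IH) (Lpr_gt (K9.f32878 IH) (Lpe (f45414 IH) (Lpr_et (f47605 IH) (Lpr_gt (f47606 IH) (Lpn (LP (LK LD1_c5 LD2_c15 LD3_c28)))))))))))))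
theorem f48244 : Led Lsl_dt (LP (LK LD1_c1 LD2_c14 LD3_c48)) = (LP (LK LD1_c0 LD2_c34 LD3_c42)) :=
  Lre_d IH (LK LD1_c1 LD2_c14 LD3_c48) (LK LD1_c0 LD2_c34 LD3_c42) Lrfl Lrfl
theorem f48298 : Led Lsl_et (LP (LK LD1_c1 LD2_c14 LD3_c48)) = (LP (LK LD1_c2 LD2_c35 LD3_c33)) :=
  Lre_e IH (LK LD1_c1 LD2_c14 LD3_c48) (LK LD1_c2 LD2_c35 LD3_c33) Lrfl Lrfl
theorem f48299 : Led Lsl_gt (LP (LK LD1_c2 LD2_c35 LD3_c33)) = (LP (LK LD1_c5 LD2_c17 LD3_c36)) :=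
  Lre_g IH (LK LD1_c2 LD2_c35 LD3_c33) (LK LD1_c5 LD2_c17 LD3_c36) Lrfl Lrfl
theorem f48300 : Led Lsl_et (LP (LK LD1_c5 LD2_c15 LD3_c28)) = (LP (LK LD1_c5 LD2_c17 LD3_c36)) :=
  Lgr Lrot122 (Lpe (f48296 IH) (Lpr_gt (f48295 IH) (Lpr_df (f48265 IH) (Lpr_et (f32190 IH) (Lpr_gt (K9.f33097 IH) (Lpr_dt (f48183 IH) (Lpr_gt (f32251 IH) (Lpe (f48244 IH) (Lpr_et (f48298 IH) (Lpr_gt (f48299 IH) (Lpn (LP (LK LD1_c5 LD2_c17 LD3_c36)))))))))))))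
theorem f48306 : Led Lsl_ef (LP (LK LD1_c5 LD2_c15 LD3_c28)) = (LP (LK LD1_c5 LD2_c17 LD3_c36)) :=
  Lgr Lrot88 (Lpr_et (f48300 IH) (Lpn (LP (LK LD1_c5 LD2_c17 LD3_c36))))
theorem f45401 : Led Lsl_gt (LP (LK LD1_c1 LD2_c14 LD3_c24)) = (LP (LK LD1_c0 LD2_c34 LD3_c29)) :=
  Lre_g IH (LK LD1_c1 LD2_c14 LD3_c24) (LK LD1_c0 LD2_c34 LD3_c29) Lrfl Lrfl
theorem f32362 : Led Lsl_et (LP (LK LD1_c2 LD2_c34 LD3_c48)) = (LP (LK LD1_c1 LD2_c14 LD3_c24)) :=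
  Lre_e IH (LK LD1_c2 LD2_c34 LD3_c48) (LK LD1_c1 LD2_c14 LD3_c24) Lrfl Lrfl
theorem f32341 : Led Lsl_et (LP (LK LD1_c1 LD2_c14 LD3_c18)) = (LP (LK LD1_c0 LD2_c34 LD3_c27)) :=
  Lre_e IH (LK LD1_c1 LD2_c14 LD3_c18) (LK LD1_c0 LD2_c34 LD3_c27) Lrfl Lrfl
theorem f765 : Led Lsl_et (LP (LK LD1_c0 LD2_c26 LD3_c17)) = (LP (LK LD1_c0 LD2_c11 LD3_c41)) :=
  Lre_e IH (LK LD1_c0 LD2_c26 LD3_c17) (LK LD1_c0 LD2_c11 LD3_c41) Lrfl Lrfl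
theorem f780 : Led Lsl_dt (LP (LK LD1_c0 LD2_c26 LD3_c17)) = (LP (LK LD1_c0 LD2_c57 LD3_c49)) :=
  Lre_d IH (LK LD1_c0 LD2_c26 LD3_c17) (LK LD1_c0 LD2_c57 LD3_c49) Lrfl Lrfl
theorem f1329 : Led Lsl_gt (LP (LK LD1_c2 LD2_c1 LD3_c33)) = (LP (LK LD1_c0 LD2_c57 LD3_c49)) :=
  Lre_g IH (LK LD1_c2 LD2_c1 LD3_c33) (LK LD1_c0 LD2_c57 LD3_c49) Lrfl Lrfl
theorem f47536 : Led Lsl_dt (LP (LK LD1_c1 LD2_c14 LD3_c18)) = (LP (LK LD1_c2 LD2_c1 LD3_c33)) :=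
  Lgr Lrot136 (Lpr_et (f32341 IH) (Lpe (K9.f32878 IH) (Lpe (K9.f32309 IH) (Lpe (K8.f47506 IH) (Lpe (K1.f32155 IH) (Lpe (K1.f47534 IH) (Lpr_gf (K1.f47532 IH) (Lpe (f765 IH) (Lpr_dt (f780 IH) (Lpe (f1329 IH) (Lpn (LP (LK LD1_c2 LD2_c1 LD3_c33)))))))))))))
theorem f32340 : Led Lsl_gt (LP (LK LD1_c0 LD2_c34 LD3_c27)) = (LP (LK LD1_c1 LD2_c14 LD3_c14)) :=
  Lre_g IH (LK LD1_c0 LD2_c34 LD3_c27) (LK LD1_c1 LD2_c14 LD3_c14) Lrfl Lrfl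
theorem f32339 : Led Lsl_gt (LP (LK LD1_c2 LD2_c34 LD3_c26)) = (LP (LK LD1_c1 LD2_c14 LD3_c24)) :=
  Lre_g IH (LK LD1_c2 LD2_c34 LD3_c26) (LK LD1_c1 LD2_c14 LD3_c24) Lrfl Lrfl
theorem f47554 : Led Lsl_gt (LP (LK LD1_c0 LD2_c58 LD3_c0)) = (LP (LK LD1_c2 LD2_c1 LD3_c33)) :=
  Lre_g IH (LK LD1_c0 LD2_c58 LD3_c0) (LK LD1_c2 LD2_c1 LD3_c33) Lrfl Lrfl
theorem f47555 : Led Lsl_dt (LP (LK LD1_c0 LD2_c26 LD3_c21)) = (LP (LK LD1_c0 LD2_c58 LD3_c0)) :=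
  Lre_d IH (LK LD1_c0 LD2_c26 LD3_c21) (LK LD1_c0 LD2_c58 LD3_c0) Lrfl Lrfl
theorem f27314 : Led Lsl_ef (LP (LK LD1_c0 LD2_c26 LD3_c21)) = (LP (LK LD1_c0 LD2_c26 LD3_c21)) :=
  Lgr Lrot29 (Lpr_bt (K9.f27312 IH) (Lpr_et (K0.f27310 IH) (Lpr_bt (K9.f27313 IH) (Lpn (LP (LK LD1_c0 LD2_c26 LD3_c21))))))
theorem f47556 : Led Lsl_gt (LP (LK LD1_c0 LD2_c57 LD3_c47)) = (LP (LK LD1_c0 LD2_c26 LD3_c21)) :=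
  Lre_g IH (LK LD1_c0 LD2_c57 LD3_c47) (LK LD1_c0 LD2_c26 LD3_c21) Lrfl Lrfl
theorem f775 : Led Lsl_et (LP (LK LD1_c2 LD2_c1 LD3_c29)) = (LP (LK LD1_c0 LD2_c57 LD3_c47)) :=
  Lre_e IH (LK LD1_c2 LD2_c1 LD3_c29) (LK LD1_c0 LD2_c57 LD3_c47) Lrfl Lrfl
theorem f47557 : Led Lsl_df (LP (LK LD1_c1 LD2_c14 LD3_c24)) = (LP (LK LD1_c2 LD2_c1 LD3_c29)) :=
  Lgr Lrot132 (Lpe (f32339 IH) (Lpe (K1.f32335 IH) (Lpe (f32340 IH) (Lpe (f32341 IH) (Lpr_dt (f47536 IH) (Lpe (f47554 IH) (Lpe (f47555 IH) (Lpe (f27314 IH) (Lpe (f47556 IH) (Lpe (f775 IH) (Lpn (LP (LK LD1_c2 LD2_c1 LD3_c29)))))))))))))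
theorem f47567 : Led Lsl_et (LP (LK LD1_c1 LD2_c14 LD3_c24)) = (LP (LK LD1_c2 LD2_c34 LD3_c48)) :=
  Lre_e IH (LK LD1_c1 LD2_c14 LD3_c24) (LK LD1_c2 LD2_c34 LD3_c48) Lrfl Lrfl
theorem f47568 : Led Lsl_et (LP (LK LD1_c0 LD2_c57 LD3_c47)) = (LP (LK LD1_c2 LD2_c1 LD3_c29)) :=
  Lre_e IH (LK LD1_c0 LD2_c57 LD3_c47) (LK LD1_c2 LD2_c1 LD3_c29) Lrfl Lrfl
theorem f802 : Led Lsl_dt (LP (LK LD1_c2 LD2_c1 LD3_c28)) = (LP (LK LD1_c0 LD2_c57 LD3_c47)) :=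
  Lre_d IH (LK LD1_c2 LD2_c1 LD3_c28) (LK LD1_c0 LD2_c57 LD3_c47) Lrfl Lrfl
theorem f47569 : Led Lsl_et (LP (LK LD1_c4 LD2_c8 LD3_c14)) = (LP (LK LD1_c2 LD2_c1 LD3_c28)) :=
  Lre_e IH (LK LD1_c4 LD2_c8 LD3_c14) (LK LD1_c2 LD2_c1 LD3_c28) Lrfl Lrfl
theorem f47570 : Led Lsl_dt (LP (LK LD1_c2 LD2_c34 LD3_c48)) = (LP (LK LD1_c4 LD2_c8 LD3_c14)) :=
  Lgr Lrot77 (Lpe (f47567 IH) (Lpr_df (f47557 IH) (Lpe (f47568 IH) (Lpe (f802 IH) (Lpe (f47569 IH) (Lpn (LP (LK LD1_c4 LD2_c8 LD3_c14))))))))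
theorem f47607 : Led Lsl_gt (LP (LK LD1_c8 LD2_c16 LD3_c30)) = (LP (LK LD1_c4 LD2_c8 LD3_c14)) :=
  Lre_g IH (LK LD1_c8 LD2_c16 LD3_c30) (LK LD1_c4 LD2_c8 LD3_c14) Lrfl Lrfl
theorem f48311 : Led Lsl_df (LP (LK LD1_c8 LD2_c16 LD3_c30)) = (LP (LK LD1_c5 LD2_c17 LD3_c36)) :=
  Lgr Lrot170 (Lpr_gt (f47607 IH) (Lpe (f47570 IH) (Lpr_et (f32362 IH) (Lpr_gt (f45401 IH) (Lpr_dt (f45389 IH) (Lpr_gt (K9.f32878 IH) (Lpe (f45414 IH) (Lpr_et (f47605 IH) (Lpr_gt (f47606 IH) (Lpr_ef (f48306 IH) (Lpn (LP (LK LD1_c5 LD2_c17 LD3_c36)))))))))))))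
theorem f48324 : Led Lsl_ef (LP (LK LD1_c0 LD2_c34 LD3_c29)) = (LP (LK LD1_c0 LD2_c34 LD3_c44)) :=
  Lgr Lrot17 (Lpe (f45401 IH) (Lpe (f32362 IH) (Lpr_dt (f47570 IH) (Lpe (f47607 IH) (Lpr_df (f48311 IH) (Lpe (f48299 IH) (Lpe (f48298 IH) (Lpr_dt (f48244 IH) (Lpe (f32251 IH) (Lpe (f48183 IH) (Lpn (LP (LK LD1_c0 LD2_c34 LD3_c44)))))))))))))
theorem f45395 : Led Lsl_ft (LP (LK LD1_c0 LD2_c34 LD3_c29)) = (LP (LK LD1_c1 LD2_c14 LD3_c26)) :=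
  Lre_f IH (LK LD1_c0 LD2_c34 LD3_c29) (LK LD1_c1 LD2_c14 LD3_c26) Lrfl Lrfl
theorem f32373 : Led Lsl_et (LP (LK LD1_c1 LD2_c14 LD3_c26)) = (LP (LK LD1_c2 LD2_c34 LD3_c54)) :=
  Lre_e IH (LK LD1_c1 LD2_c14 LD3_c26) (LK LD1_c2 LD2_c34 LD3_c54) Lrfl Lrfl
theorem f48333 : Led Lsl_ft (LP (LK LD1_c1 LD2_c14 LD3_c56)) = (LP (LK LD1_c0 LD2_c34 LD3_c44)) :=
  Lre_f IH (LK LD1_c1 LD2_c14 LD3_c56) (LK LD1_c0 LD2_c34 LD3_c44) Lrfl Lrfl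
theorem f32202 : Led Lsl_et (LP (LK LD1_c2 LD2_c35 LD3_c49)) = (LP (LK LD1_c1 LD2_c14 LD3_c56)) :=
  Lre_e IH (LK LD1_c2 LD2_c35 LD3_c49) (LK LD1_c1 LD2_c14 LD3_c56) Lrfl Lrfl
theorem f48334 : Led Lsl_ft (LP (LK LD1_c2 LD2_c34 LD3_c54)) = (LP (LK LD1_c2 LD2_c35 LD3_c49)) :=
  Lgr Lrot86 (Lpe (f32373 IH) (Lpe (f45395 IH) (Lpr_ef (f48324 IH) (Lpe (f48333 IH) (Lpe (f32202 IH) (Lpn (LP (LK LD1_c2 LD2_c35 LD3_c49))))))))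
theorem f32333 : Led Lsl_dt (LP (LK LD1_c2 LD2_c34 LD3_c26)) = (LP (LK LD1_c1 LD2_c14 LD3_c14)) :=
  Lre_d IH (LK LD1_c2 LD2_c34 LD3_c26) (LK LD1_c1 LD2_c14 LD3_c14) Lrfl Lrfl
theorem f32336 : Led Lsl_et (LP (LK LD1_c2 LD2_c34 LD3_c26)) = (LP (LK LD1_c5 LD2_c15 LD3_c10)) :=
  Lre_e IH (LK LD1_c2 LD2_c34 LD3_c26) (LK LD1_c5 LD2_c15 LD3_c10) Lrfl Lrfl
theorem f32337 : Led Lsl_df (LP (LK LD1_c5 LD2_c15 LD3_c10)) = (LP (LK LD1_c5 LD2_c15 LD3_c10)) :=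
  Lgr Lrot70 (Lpr_et (K9.f32334 IH) (Lpr_dt (f32333 IH) (Lpr_et (K1.f32322 IH) (Lpr_dt (K1.f32335 IH) (Lpr_et (f32336 IH) (Lpn (LP (LK LD1_c5 LD2_c15 LD3_c10))))))))
theorem f32348 : Led Lsl_at (LP (LK LD1_c2 LD2_c34 LD3_c54)) = (LP (LK LD1_c5 LD2_c15 LD3_c10)) :=
  Lre_a IH (LK LD1_c2 LD2_c34 LD3_c54) (LK LD1_c5 LD2_c15 LD3_c10) Lrfl Lrfl
theorem f32349 : Led Lsl_dt (LP (LK LD1_c2 LD2_c34 LD3_c54)) = (LP (LK LD1_c2 LD2_c34 LD3_c54)) :=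
  Lgr Lrot44 (Lpe (K2.f32347 IH) (Lpr_df (f32337 IH) (Lpe (f32348 IH) (Lpn (LP (LK LD1_c2 LD2_c34 LD3_c54))))))
theorem f32369 : Led Lsl_ct (LP (LK LD1_c2 LD2_c34 LD3_c54)) = (LP (LK LD1_c5 LD2_c16 LD3_c14)) :=
  Lre_c IH (LK LD1_c2 LD2_c34 LD3_c54) (LK LD1_c5 LD2_c16 LD3_c14) Lrfl Lrfl
theorem f32370 : Led Lsl_dt (LP (LK LD1_c5 LD2_c16 LD3_c14)) = (LP (LK LD1_c10 LD2_c22 LD3_c2)) :=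
  Lre_d IH (LK LD1_c5 LD2_c16 LD3_c14) (LK LD1_c10 LD2_c22 LD3_c2) Lrfl Lrfl
theorem f32371 : Led Lsl_ct (LP (LK LD1_c10 LD2_c22 LD3_c2)) = (LP (LK LD1_c18 LD2_c49 LD3_c5)) :=
  Lre_c IH (LK LD1_c10 LD2_c22 LD3_c2) (LK LD1_c18 LD2_c49 LD3_c5) Lrfl Lrfl
theorem f32372 : Led Lsl_dt (LP (LK LD1_c18 LD2_c49 LD3_c5)) = (LP (LK LD1_c28 LD2_c18 LD3_c32)) :=
  Lre_d IH (LK LD1_c18 LD2_c49 LD3_c5) (LK LD1_c28 LD2_c18 LD3_c32) Lrfl Lrfl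
theorem f32185 : Led Lsl_dt (LP (LK LD1_c18 LD2_c52 LD3_c14)) = (LP (LK LD1_c10 LD2_c23 LD3_c61)) :=
  Lre_d IH (LK LD1_c18 LD2_c52 LD3_c14) (LK LD1_c10 LD2_c23 LD3_c61) Lrfl Lrfl
theorem f48350 : Led Lsl_ct (LP (LK LD1_c28 LD2_c18 LD3_c32)) = (LP (LK LD1_c18 LD2_c52 LD3_c14)) :=
  Lgr Lrot53 (Lpe (f32372 IH) (Lpe (f32371 IH) (Lpe (f32370 IH) (Lpe (f32369 IH) (Lpe (f32349 IH) (Lpr_ft (f48334 IH) (Lpr_at (K1.f32180 IH) (Lpe (K2.f32184 IH) (Lpe (f32185 IH) (Lpn (LP (LK LD1_c18 LD2_c52 LD3_c14))))))))))))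
theorem f32186 : Led Lsl_ct (LP (LK LD1_c5 LD2_c17 LD3_c10)) = (LP (LK LD1_c10 LD2_c23 LD3_c61)) :=
  Lre_c IH (LK LD1_c5 LD2_c17 LD3_c10) (LK LD1_c10 LD2_c23 LD3_c61) Lrfl Lrfl
theorem f32188 : Led Lsl_at (LP (LK LD1_c5 LD2_c18 LD3_c17)) = (LP (LK LD1_c10 LD2_c23 LD3_c61)) :=
  Lre_a IH (LK LD1_c5 LD2_c18 LD3_c17) (LK LD1_c10 LD2_c23 LD3_c61) Lrfl Lrfl
theorem f48368 : Led Lsl_ft (LP (LK LD1_c5 LD2_c16 LD3_c14)) = (LP (LK LD1_c5 LD2_c18 LD3_c17)) :=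
  Lgr Lrot142 (Lpr_dt (f32370 IH) (Lpr_ct (f32371 IH) (Lpr_dt (f32372 IH) (Lpr_ct (f48350 IH) (Lpr_dt (f32185 IH) (Lpr_ct (K2.f32184 IH) (Lpr_dt (K1.f32170 IH) (Lpr_ct (f32186 IH) (Lpe (f32188 IH) (Lpn (LP (LK LD1_c5 LD2_c18 LD3_c17))))))))))))
theorem f48378 : Led Lsl_et (LP (LK LD1_c2 LD2_c34 LD3_c53)) = (LP (LK LD1_c5 LD2_c16 LD3_c14)) :=
  Lre_e IH (LK LD1_c2 LD2_c34 LD3_c53) (LK LD1_c5 LD2_c16 LD3_c14) Lrfl Lrfl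
theorem f48379 : Led Lsl_et (LP (LK LD1_c5 LD2_c18 LD3_c17)) = (LP (LK LD1_c2 LD2_c35 LD3_c48)) :=
  Lre_e IH (LK LD1_c5 LD2_c18 LD3_c17) (LK LD1_c2 LD2_c35 LD3_c48) Lrfl Lrfl
theorem f48380 : Led Lsl_ft (LP (LK LD1_c2 LD2_c35 LD3_c48)) = (LP (LK LD1_c1 LD2_c14 LD3_c55)) :=
  Lre_f IH (LK LD1_c2 LD2_c35 LD3_c48) (LK LD1_c1 LD2_c14 LD3_c55) Lrfl Lrfl
theorem f48381 : Led Lsl_ef (LP (LK LD1_c1 LD2_c14 LD3_c25)) = (LP (LK LD1_c1 LD2_c14 LD3_c55)) :=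
  Lgr Lrot21 (Lpr_ft (K1.f45218 IH) (Lpr_et (f48378 IH) (Lpr_ft (f48368 IH) (Lpr_et (f48379 IH) (Lpr_ft (f48380 IH) (Lpn (LP (LK LD1_c1 LD2_c14 LD3_c55))))))))
theorem f48400 : Led Lsl_et (LP (LK LD1_c2 LD2_c34 LD3_c52)) = (LP (LK LD1_c5 LD2_c16 LD3_c12)) :=
  Lre_e IH (LK LD1_c2 LD2_c34 LD3_c52) (LK LD1_c5 LD2_c16 LD3_c12) Lrfl Lrfl
theorem f48401 : Led Lsl_dt (LP (LK LD1_c2 LD2_c35 LD3_c47)) = (LP (LK LD1_c1 LD2_c14 LD3_c55)) :=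
  Lre_d IH (LK LD1_c2 LD2_c35 LD3_c47) (LK LD1_c1 LD2_c14 LD3_c55) Lrfl Lrfl
theorem f48402 : Led Lsl_et (LP (LK LD1_c5 LD2_c18 LD3_c15)) = (LP (LK LD1_c2 LD2_c35 LD3_c47)) :=
  Lre_e IH (LK LD1_c5 LD2_c18 LD3_c15) (LK LD1_c2 LD2_c35 LD3_c47) Lrfl Lrfl
theorem f48403 : Led Lsl_dt (LP (LK LD1_c5 LD2_c16 LD3_c12)) = (LP (LK LD1_c5 LD2_c18 LD3_c15)) :=
  Lgr Lrot77 (Lpe (f48400 IH) (Lpe (K1.f45193 IH) (Lpr_ef (f48381 IH) (Lpe (f48401 IH) (Lpe (f48402 IH) (Lpn (LP (LK LD1_c5 LD2_c18 LD3_c15))))))))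
theorem f45575 : Led Lsl_ft (LP (LK LD1_c10 LD2_c21 LD3_c60)) = (LP (LK LD1_c5 LD2_c16 LD3_c12)) :=
  Lre_f IH (LK LD1_c10 LD2_c21 LD3_c60) (LK LD1_c5 LD2_c16 LD3_c12) Lrfl Lrfl
theorem f48424 : Led Lsl_ft (LP (LK LD1_c5 LD2_c18 LD3_c15)) = (LP (LK LD1_c10 LD2_c26 LD3_c14)) :=
  Lre_f IH (LK LD1_c5 LD2_c18 LD3_c15) (LK LD1_c10 LD2_c26 LD3_c14) Lrfl Lrfl
theorem f48425 : Led Lsl_df (LP (LK LD1_c10 LD2_c21 LD3_c60)) = (LP (LK LD1_c10 LD2_c26 LD3_c14)) :=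
  Lgr Lrot78 (Lpr_ft (f45575 IH) (Lpr_dt (f48403 IH) (Lpr_ft (f48424 IH) (Lpn (LP (LK LD1_c10 LD2_c26 LD3_c14))))))
theorem f48447 : Led Lsl_dt (LP (LK LD1_c10 LD2_c21 LD3_c60)) = (LP (LK LD1_c10 LD2_c26 LD3_c14)) :=
  Lgr Lrot42 (Lpr_df (f48425 IH) (Lpn (LP (LK LD1_c10 LD2_c26 LD3_c14))))
theorem f48459 : Led Lsl_bt (LP (LK LD1_c18 LD2_c48 LD3_c43)) = (LP (LK LD1_c10 LD2_c21 LD3_c60)) :=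
  Lre_b IH (LK LD1_c18 LD2_c48 LD3_c43) (LK LD1_c10 LD2_c21 LD3_c60) Lrfl Lrfl
theorem f48460 : Led Lsl_bt (LP (LK LD1_c10 LD2_c26 LD3_c14)) = (LP (LK LD1_c18 LD2_c55 LD3_c38)) :=
  Lre_b IH (LK LD1_c10 LD2_c26 LD3_c14) (LK LD1_c18 LD2_c55 LD3_c38) Lrfl Lrfl
theorem f48461 : Led Lsl_df (LP (LK LD1_c18 LD2_c48 LD3_c43)) = (LP (LK LD1_c18 LD2_c55 LD3_c38)) :=
  Lgr Lrot12 (Lpr_bt (f48459 IH) (Lpr_dt (f48447 IH) (Lpr_bt (f48460 IH) (Lpn (LP (LK LD1_c18 LD2_c55 LD3_c38))))))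
theorem f48465 : Led Lsl_ft (LP (LK LD1_c18 LD2_c48 LD3_c43)) = (LP (LK LD1_c10 LD2_c21 LD3_c50)) :=
  Lre_f IH (LK LD1_c18 LD2_c48 LD3_c43) (LK LD1_c10 LD2_c21 LD3_c50) Lrfl Lrfl
theorem f48466 : Led Lsl_ft (LP (LK LD1_c10 LD2_c26 LD3_c3)) = (LP (LK LD1_c18 LD2_c55 LD3_c38)) :=
  Lre_f IH (LK LD1_c10 LD2_c26 LD3_c3) (LK LD1_c18 LD2_c55 LD3_c38) Lrfl Lrfl
theorem f48467 : Led Lsl_dt (LP (LK LD1_c10 LD2_c21 LD3_c50)) = (LP (LK LD1_c10 LD2_c26 LD3_c3)) :=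
  Lgr Lrot60 (Lpe (f48465 IH) (Lpr_df (f48461 IH) (Lpe (f48466 IH) (Lpn (LP (LK LD1_c10 LD2_c26 LD3_c3))))))
theorem f48479 : Led Lsl_et (LP (LK LD1_c5 LD2_c16 LD3_c7)) = (LP (LK LD1_c10 LD2_c21 LD3_c50)) :=
  Lre_e IH (LK LD1_c5 LD2_c16 LD3_c7) (LK LD1_c10 LD2_c21 LD3_c50) Lrfl Lrfl
theorem f35100 : Led Lsl_dt (LP (LK LD1_c2 LD2_c34 LD3_c51)) = (LP (LK LD1_c5 LD2_c16 LD3_c7)) :=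
  Lre_d IH (LK LD1_c2 LD2_c34 LD3_c51) (LK LD1_c5 LD2_c16 LD3_c7) Lrfl Lrfl
theorem f48480 : Led Lsl_et (LP (LK LD1_c10 LD2_c26 LD3_c3)) = (LP (LK LD1_c5 LD2_c18 LD3_c10)) :=
  Lre_e IH (LK LD1_c10 LD2_c26 LD3_c3) (LK LD1_c5 LD2_c18 LD3_c10) Lrfl Lrfl
theorem f48481 : Led Lsl_dt (LP (LK LD1_c5 LD2_c18 LD3_c10)) = (LP (LK LD1_c2 LD2_c35 LD3_c46)) :=
  Lre_d IH (LK LD1_c5 LD2_c18 LD3_c10) (LK LD1_c2 LD2_c35 LD3_c46) Lrfl Lrfl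
theorem f48482 : Led Lsl_ef (LP (LK LD1_c2 LD2_c34 LD3_c51)) = (LP (LK LD1_c2 LD2_c35 LD3_c46)) :=
  Lgr Lrot73 (Lpr_dt (f35100 IH) (Lpr_et (f48479 IH) (Lpr_dt (f48467 IH) (Lpr_et (f48480 IH) (Lpr_dt (f48481 IH) (Lpn (LP (LK LD1_c2 LD2_c35 LD3_c46))))))))
theorem f35099 : Led Lsl_ft (LP (LK LD1_c2 LD2_c34 LD3_c51)) = (LP (LK LD1_c5 LD2_c16 LD3_c8)) :=
  Lre_f IH (LK LD1_c2 LD2_c34 LD3_c51) (LK LD1_c5 LD2_c16 LD3_c8) Lrfl Lrfl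
theorem f48501 : Led Lsl_et (LP (LK LD1_c5 LD2_c16 LD3_c8)) = (LP (LK LD1_c10 LD2_c21 LD3_c52)) :=
  Lre_e IH (LK LD1_c5 LD2_c16 LD3_c8) (LK LD1_c10 LD2_c21 LD3_c52) Lrfl Lrfl
theorem f48502 : Led Lsl_ft (LP (LK LD1_c5 LD2_c18 LD3_c11)) = (LP (LK LD1_c2 LD2_c35 LD3_c46)) :=
  Lre_f IH (LK LD1_c5 LD2_c18 LD3_c11) (LK LD1_c2 LD2_c35 LD3_c46) Lrfl Lrfl
theorem f48503 : Led Lsl_et (LP (LK LD1_c10 LD2_c26 LD3_c5)) = (LP (LK LD1_c5 LD2_c18 LD3_c11)) :=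
  Lre_e IH (LK LD1_c10 LD2_c26 LD3_c5) (LK LD1_c5 LD2_c18 LD3_c11) Lrfl Lrfl
theorem f48504 : Led Lsl_ft (LP (LK LD1_c10 LD2_c21 LD3_c52)) = (LP (LK LD1_c10 LD2_c26 LD3_c5)) :=
  Lgr Lrot86 (Lpe (f48501 IH) (Lpe (f35099 IH) (Lpr_ef (f48482 IH) (Lpe (f48502 IH) (Lpe (f48503 IH) (Lpn (LP (LK LD1_c10 LD2_c26 LD3_c5))))))))
theorem f48520 : Led Lsl_ct (LP (LK LD1_c5 LD2_c16 LD3_c50)) = (LP (LK LD1_c10 LD2_c21 LD3_c52)) :=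
  Lre_c IH (LK LD1_c5 LD2_c16 LD3_c50) (LK LD1_c10 LD2_c21 LD3_c52) Lrfl Lrfl
theorem f48521 : Led Lsl_ct (LP (LK LD1_c10 LD2_c26 LD3_c5)) = (LP (LK LD1_c5 LD2_c18 LD3_c54)) :=
  Lre_c IH (LK LD1_c10 LD2_c26 LD3_c5) (LK LD1_c5 LD2_c18 LD3_c54) Lrfl Lrfl
theorem f48522 : Led Lsl_ff (LP (LK LD1_c5 LD2_c16 LD3_c50)) = (LP (LK LD1_c5 LD2_c18 LD3_c54)) :=
  Lgr Lrot23 (Lpr_ct (f48520 IH) (Lpr_ft (f48504 IH) (Lpr_ct (f48521 IH) (Lpn (LP (LK LD1_c5 LD2_c18 LD3_c54))))))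
theorem f48550 : Led Lsl_ft (LP (LK LD1_c5 LD2_c16 LD3_c50)) = (LP (LK LD1_c5 LD2_c18 LD3_c54)) :=
  Lgr Lrot48 (Lpr_ff (f48522 IH) (Lpn (LP (LK LD1_c5 LD2_c18 LD3_c54))))
theorem f35058 : Led Lsl_et (LP (LK LD1_c2 LD2_c35 LD3_c7)) = (LP (LK LD1_c5 LD2_c16 LD3_c50)) :=
  Lre_e IH (LK LD1_c2 LD2_c35 LD3_c7) (LK LD1_c5 LD2_c16 LD3_c50) Lrfl Lrfl
theorem f35045 : Led Lsl_ft (LP (LK LD1_c1 LD2_c14 LD3_c31)) = (LP (LK LD1_c2 LD2_c35 LD3_c7)) :=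
  Lre_f IH (LK LD1_c1 LD2_c14 LD3_c31) (LK LD1_c2 LD2_c35 LD3_c7) Lrfl Lrfl
theorem f48561 : Led Lsl_et (LP (LK LD1_c5 LD2_c18 LD3_c54)) = (LP (LK LD1_c2 LD2_c36 LD3_c2)) :=
  Lre_e IH (LK LD1_c5 LD2_c18 LD3_c54) (LK LD1_c2 LD2_c36 LD3_c2) Lrfl Lrfl
theorem f48562 : Led Lsl_ft (LP (LK LD1_c2 LD2_c36 LD3_c2)) = (LP (LK LD1_c1 LD2_c14 LD3_c61)) :=
  Lre_f IH (LK LD1_c2 LD2_c36 LD3_c2) (LK LD1_c1 LD2_c14 LD3_c61) Lrfl Lrfl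
theorem f48563 : Led Lsl_ef (LP (LK LD1_c1 LD2_c14 LD3_c31)) = (LP (LK LD1_c1 LD2_c14 LD3_c61)) :=
  Lgr Lrot21 (Lpr_ft (f35045 IH) (Lpr_et (f35058 IH) (Lpr_ft (f48550 IH) (Lpr_et (f48561 IH) (Lpr_ft (f48562 IH) (Lpn (LP (LK LD1_c1 LD2_c14 LD3_c61))))))))
theorem f32669 : Led Lsl_bt (LP (LK LD1_c1 LD2_c14 LD3_c31)) = (LP (LK LD1_c0 LD2_c34 LD3_c33)) :=
  Lre_b IH (LK LD1_c1 LD2_c14 LD3_c31) (LK LD1_c0 LD2_c34 LD3_c33) Lrfl Lrfl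
theorem f32668 : Led Lsl_bt (LP (LK LD1_c0 LD2_c34 LD3_c48)) = (LP (LK LD1_c1 LD2_c14 LD3_c61)) :=
  Lre_b IH (LK LD1_c0 LD2_c34 LD3_c48) (LK LD1_c1 LD2_c14 LD3_c61) Lrfl Lrfl
theorem f48573 : Led Lsl_et (LP (LK LD1_c0 LD2_c34 LD3_c33)) = (LP (LK LD1_c0 LD2_c34 LD3_c48)) :=
  Lgr Lrot74 (Lpe (f32669 IH) (Lpr_ef (f48563 IH) (Lpe (f32668 IH) (Lpn (LP (LK LD1_c0 LD2_c34 LD3_c48))))))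
theorem f48634 : Led Lsl_ef (LP (LK LD1_c0 LD2_c15 LD3_c29)) = (LP (LK LD1_c0 LD2_c15 LD3_c35)) :=
  Lgr Lrot28 (Lpr_ct (K2.f32285 IH) (Lpr_et (f48573 IH) (Lpr_ct (K8.f31618 IH) (Lpn (LP (LK LD1_c0 LD2_c15 LD3_c35))))))
theorem f48636 : Led Lsl_ft (LP (LK LD1_c1 LD2_c14 LD3_c34)) = (LP (LK LD1_c1 LD2_c15 LD3_c2)) :=
  Lgr Lrot86 (Lpe (f32294 IH) (Lpe (K9.f32805 IH) (Lpr_ef (f48634 IH) (Lpe (K9.f32243 IH) (Lpe (K1.f32223 IH) (Lpn (LP (LK LD1_c1 LD2_c15 LD3_c2))))))))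
theorem f32869 : Led Lsl_gt (LP (LK LD1_c1 LD2_c14 LD3_c34)) = (LP (LK LD1_c2 LD2_c35 LD3_c10)) :=
  Lre_g IH (LK LD1_c1 LD2_c14 LD3_c34) (LK LD1_c2 LD2_c35 LD3_c10) Lrfl Lrfl
theorem f32561 : Led Lsl_at (LP (LK LD1_c1 LD2_c15 LD3_c2)) = (LP (LK LD1_c1 LD2_c14 LD3_c34)) :=
  Lgr Lrot100 (Lpr_af (K2.f32546 IH) (Lpn (LP (LK LD1_c1 LD2_c14 LD3_c34))))
theorem f48638 : Led Lsl_gt (LP (LK LD1_c2 LD2_c35 LD3_c10)) = (LP (LK LD1_c1 LD2_c14 LD3_c34)) :=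
  Lgr Lrot46 (Lpe (f32869 IH) (Lpr_ft (f48636 IH) (Lpr_at (f32561 IH) (Lpn (LP (LK LD1_c1 LD2_c14 LD3_c34))))))
theorem f32872 : Led Lsl_dt (LP (LK LD1_c5 LD2_c16 LD3_c54)) = (LP (LK LD1_c2 LD2_c35 LD3_c10)) :=
  Lre_d IH (LK LD1_c5 LD2_c16 LD3_c54) (LK LD1_c2 LD2_c35 LD3_c10) Lrfl Lrfl
theorem f178739 : Led Lsl_ef (LP (LK LD1_c5 LD2_c5 LD3_c34)) = (LP (LK LD1_c5 LD2_c16 LD3_c54)) :=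
  Lgr Lrot17 (Lpe (f169479 IH) (Lpe (K9.f169454 IH) (Lpe (K9.f169450 IH) (Lpe (K9.f177781 IH) (Lpr_df (f178535 IH) (Lpr_gf (f32909 IH) (Lpe (f32292 IH) (Lpe (f32295 IH) (Lpe (f48638 IH) (Lpe (f32872 IH) (Lpn (LP (LK LD1_c5 LD2_c16 LD3_c54)))))))))))))
theorem f178745 : Led Lsl_et (LP (LK LD1_c5 LD2_c5 LD3_c34)) = (LP (LK LD1_c5 LD2_c16 LD3_c54)) :=
  Lgr Lrot87 (Lpr_ef (f178739 IH) (Lpn (LP (LK LD1_c5 LD2_c16 LD3_c54))))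
theorem f184982 : Led Lsl_ef (LP (LK LD1_c4 LD2_c29 LD3_c46)) = (LP (LK LD1_c2 LD2_c35 LD3_c10)) :=
  Lgr Lrot73 (Lpr_dt (f184981 IH) (Lpr_et (f184980 IH) (Lpr_dt (f184975 IH) (Lpr_et (f178745 IH) (Lpr_dt (f32872 IH) (Lpn (LP (LK LD1_c2 LD2_c35 LD3_c10))))))))
theorem f184985 : Led Lsl_et (LP (LK LD1_c4 LD2_c29 LD3_c46)) = (LP (LK LD1_c2 LD2_c35 LD3_c10)) :=
  Lgr Lrot87 (Lpr_ef (f184982 IH) (Lpn (LP (LK LD1_c2 LD2_c35 LD3_c10))))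
theorem f165036 : Led Lsl_dt (LP (LK LD1_c2 LD2_c11 LD3_c55)) = (LP (LK LD1_c1 LD2_c2 LD3_c56)) :=
  Lre_d IH (LK LD1_c2 LD2_c11 LD3_c55) (LK LD1_c1 LD2_c2 LD3_c56) Lrfl Lrfl
theorem f179002 : Led Lsl_gf (LP (LK LD1_c0 LD2_c15 LD3_c30)) = (LP (LK LD1_c0 LD2_c15 LD3_c15)) :=
  Lgr Lrot144 (Lpr_dt (K9.f32293 IH) (Lpe (f32909 IH) (Lpe (f178535 IH) (Lpr_cf (K9.f170611 IH) (Lpe (K9.f20679 IH) (Lpr_gf (K9.f178987 IH) (Lpe (K8.f3153 IH) (Lpr_gf (K9.f165494 IH) (Lpe (f165496 IH) (Lpn (LP (LK LD1_c0 LD2_c15 LD3_c15))))))))))))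
theorem f184990 : Led Lsl_dt (LP (LK LD1_c0 LD2_c33 LD3_c61)) = (LP (LK LD1_c0 LD2_c15 LD3_c15)) :=
  Lre_d IH (LK LD1_c0 LD2_c33 LD3_c61) (LK LD1_c0 LD2_c15 LD3_c15) Lrfl Lrfl
theorem f184992 : Led Lsl_et (LP (LK LD1_c2 LD2_c11 LD3_c55)) = (LP (LK LD1_c1 LD2_c13 LD3_c23)) :=
  Lgr Lrot121 (Lpr_dt (f165036 IH) (Lpe (f165048 IH) (Lpe (f184981 IH) (Lpr_et (f184985 IH) (Lpe (f32869 IH) (Lpe (f32294 IH) (Lpr_dt (K2.f32280 IH) (Lpr_gf (f179002 IH) (Lpe (f184990 IH) (Lpe (f184991 IH) (Lpn (LP (LK LD1_c1 LD2_c13 LD3_c23)))))))))))))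
theorem f165007 : Led Lsl_et (LP (LK LD1_c0 LD2_c28 LD3_c41)) = (LP (LK LD1_c1 LD2_c2 LD3_c56)) :=
  Lre_e IH (LK LD1_c0 LD2_c28 LD3_c41) (LK LD1_c1 LD2_c2 LD3_c56) Lrfl Lrfl
theorem f167633 : Led Lsl_et (LP (LK LD1_c0 LD2_c59 LD3_c58)) = (LP (LK LD1_c1 LD2_c0 LD3_c4)) :=
  Lgr Lrot87 (Lpr_ef (K9.f167631 IH) (Lpn (LP (LK LD1_c1 LD2_c0 LD3_c4))))
theorem f184999 : Led Lsl_df (LP (LK LD1_c0 LD2_c59 LD3_c58)) = (LP (LK LD1_c1 LD2_c13 LD3_c23)) :=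
  Lgr Lrot70 (Lpr_et (f167633 IH) (Lpr_dt (K9.f164707 IH) (Lpr_et (f165007 IH) (Lpr_dt (f7632 IH) (Lpr_et (f184992 IH) (Lpn (LP (LK LD1_c1 LD2_c13 LD3_c23))))))))
theorem f167618 : Led Lsl_df (LP (LK LD1_c0 LD2_c27 LD3_c15)) = (LP (LK LD1_c0 LD2_c34 LD3_c32)) :=
  Lgr Lrot38 (Lpr_dt (K9.f167613 IH) (Lpn (LP (LK LD1_c0 LD2_c34 LD3_c32))))
theorem f169425 : Led Lsl_ct (LP (LK LD1_c0 LD2_c27 LD3_c15)) = (LP (LK LD1_c0 LD2_c14 LD3_c15)) :=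
  Lgr Lrot7 (Lpr_df (f167618 IH) (Lpe (K9.f32853 IH) (Lpe (K1.f32222 IH) (Lpe (K9.f166410 IH) (Lpe (K9.f3140 IH) (Lpr_gt (K9.f163697 IH) (Lpr_dt (K8.f163649 IH) (Lpe (K9.f164170 IH) (Lpe (K9.f21249 IH) (Lpn (LP (LK LD1_c0 LD2_c14 LD3_c15))))))))))))
theorem f22423 : Led Lsl_et (LP (LK LD1_c0 LD2_c13 LD3_c12)) = (LP (LK LD1_c0 LD2_c29 LD3_c54)) :=
  Lre_e IH (LK LD1_c0 LD2_c13 LD3_c12) (LK LD1_c0 LD2_c29 LD3_c54) Lrfl Lrfl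
theorem f178993 : Led Lsl_gt (LP (LK LD1_c0 LD2_c14 LD3_c15)) = (LP (LK LD1_c0 LD2_c29 LD3_c54)) :=
  Lgr Lrot131 (Lpe (K9.f3079 IH) (Lpr_dt (K0.f3061 IH) (Lpr_gf (K9.f165218 IH) (Lpe (K9.f20704 IH) (Lpe (K9.f2879 IH) (Lpe (K9.f20682 IH) (Lpr_dt (K9.f20680 IH) (Lpr_gf (f178989 IH) (Lpe (K9.f9514 IH) (Lpr_et (f22423 IH) (Lpn (LP (LK LD1_c0 LD2_c29 LD3_c54)))))))))))))
theorem f8129 : Led Lsl_gt (LP (LK LD1_c0 LD2_c26 LD3_c1)) = (LP (LK LD1_c0 LD2_c11 LD3_c34)) :=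
  Lre_g IH (LK LD1_c0 LD2_c26 LD3_c1) (LK LD1_c0 LD2_c11 LD3_c34) Lrfl Lrfl
theorem f8130 : Led Lsl_et (LP (LK LD1_c0 LD2_c57 LD3_c22)) = (LP (LK LD1_c0 LD2_c26 LD3_c1)) :=
  Lre_e IH (LK LD1_c0 LD2_c57 LD3_c22) (LK LD1_c0 LD2_c26 LD3_c1) Lrfl Lrfl
theorem f22012 : Led Lsl_df (LP (LK LD1_c1 LD2_c13 LD3_c0)) = (LP (LK LD1_c0 LD2_c57 LD3_c22)) :=
  Lgr Lrot132 (Lpe (f22011 IH) (Lpe (f22010 IH) (Lpe (K9.f21326 IH) (Lpe (K0.f21280 IH) (Lpr_dt (K0.f21278 IH) (Lpe (K0.f21228 IH) (Lpe (K0.f8107 IH) (Lpr_et (K8.f8126 IH) (Lpe (f8129 IH) (Lpe (f8130 IH) (Lpn (LP (LK LD1_c0 LD2_c57 LD3_c22)))))))))))))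
theorem f186788 : Led Lsl_ct (LP (LK LD1_c0 LD2_c29 LD3_c54)) = (LP (LK LD1_c0 LD2_c57 LD3_c22)) :=
  Lgr Lrot110 (Lpe (f178993 IH) (Lpe (f169425 IH) (Lpe (K9.f167626 IH) (Lpr_df (f184999 IH) (Lpr_gt (f184991 IH) (Lpr_ct (f185013 IH) (Lpr_gt (f186784 IH) (Lpr_ct (f22029 IH) (Lpr_df (f22012 IH) (Lpn (LP (LK LD1_c0 LD2_c57 LD3_c22))))))))))))
theorem f22021 : Led Lsl_dt (LP (LK LD1_c1 LD2_c13 LD3_c0)) = (LP (LK LD1_c0 LD2_c57 LD3_c22)) :=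
  Lgr Lrot42 (Lpr_df (f22012 IH) (Lpn (LP (LK LD1_c0 LD2_c57 LD3_c22))))
theorem f22103 : Led Lsl_gt (LP (LK LD1_c0 LD2_c15 LD3_c16)) = (LP (LK LD1_c0 LD2_c34 LD3_c0)) :=
  Lre_g IH (LK LD1_c0 LD2_c15 LD3_c16) (LK LD1_c0 LD2_c34 LD3_c0) Lrfl Lrfl
theorem f186811 : Led Lsl_df (LP (LK LD1_c0 LD2_c29 LD3_c54)) = (LP (LK LD1_c0 LD2_c34 LD3_c0)) :=
  Lgr Lrot174 (Lpr_ct (f186788 IH) (Lpe (f22021 IH) (Lpe (f22011 IH) (Lpe (f22010 IH) (Lpe (K9.f21326 IH) (Lpr_ct (K8.f22101 IH) (Lpr_gt (K9.f20470 IH) (Lpr_dt (K9.f22102 IH) (Lpr_gt (f22103 IH) (Lpn (LP (LK LD1_c0 LD2_c34 LD3_c0))))))))))))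
theorem f186820 : Led Lsl_ef (LP (LK LD1_c0 LD2_c39 LD3_c2)) = (LP (LK LD1_c0 LD2_c34 LD3_c0)) :=
  Lgr Lrot114 (Lpr_gt (K9.f22424 IH) (Lpe (K9.f26633 IH) (Lpr_dt (K9.f26629 IH) (Lpe (K9.f164300 IH) (Lpr_df (K9.f24424 IH) (Lpr_et (K9.f164298 IH) (Lpe (K9.f164170 IH) (Lpe (K9.f21249 IH) (Lpr_gt (f178993 IH) (Lpr_df (f186811 IH) (Lpn (LP (LK LD1_c0 LD2_c34 LD3_c0)))))))))))))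
theorem f9388 : Led Lsl_ct (LP (LK LD1_c0 LD2_c39 LD3_c2)) = (LP (LK LD1_c1 LD2_c24 LD3_c46)) :=
  Lre_c IH (LK LD1_c0 LD2_c39 LD3_c2) (LK LD1_c1 LD2_c24 LD3_c46) Lrfl Lrfl
theorem f186813 : Led Lsl_ct (LP (LK LD1_c1 LD2_c13 LD3_c26)) = (LP (LK LD1_c0 LD2_c34 LD3_c0)) :=
  Lre_c IH (LK LD1_c1 LD2_c13 LD3_c26) (LK LD1_c0 LD2_c34 LD3_c0) Lrfl Lrfl
theorem f186824 : Led Lsl_et (LP (LK LD1_c1 LD2_c24 LD3_c46)) = (LP (LK LD1_c1 LD2_c13 LD3_c26)) :=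
  Lgr Lrot158 (Lpe (f9388 IH) (Lpr_ef (f186820 IH) (Lpe (f186813 IH) (Lpn (LP (LK LD1_c1 LD2_c13 LD3_c26))))))
theorem f176841 : Led Lsl_dt (LP (LK LD1_c1 LD2_c24 LD3_c46)) = (LP (LK LD1_c2 LD2_c58 LD3_c13)) :=
  Lre_d IH (LK LD1_c1 LD2_c24 LD3_c46) (LK LD1_c2 LD2_c58 LD3_c13) Lrfl Lrfl
theorem f26669 : Led Lsl_ct (LP (LK LD1_c2 LD2_c14 LD3_c5)) = (LP (LK LD1_c1 LD2_c4 LD3_c6)) :=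
  Lre_c IH (LK LD1_c2 LD2_c14 LD3_c5) (LK LD1_c1 LD2_c4 LD3_c6) Lrfl Lrfl
theorem f177753 : Led Lsl_gf (LP (LK LD1_c2 LD2_c30 LD3_c13)) = (LP (LK LD1_c2 LD2_c14 LD3_c5)) :=
  Lgr Lrot144 (Lpr_dt (K9.f177744 IH) (Lpr_gt (K9.f26684 IH) (Lpr_dt (f26683 IH) (Lpe (K9.f26662 IH) (Lpe (K9.f9372 IH) (Lpe (K0.f20585 IH) (Lpe (K9.f20773 IH) (Lpr_gf (K9.f26681 IH) (Lpe (f26669 IH) (Lpn (LP (LK LD1_c2 LD2_c14 LD3_c5))))))))))))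
theorem f26668 : Led Lsl_dt (LP (LK LD1_c2 LD2_c14 LD3_c5)) = (LP (LK LD1_c2 LD2_c57 LD3_c52)) :=
  Lre_d IH (LK LD1_c2 LD2_c14 LD3_c5) (LK LD1_c2 LD2_c57 LD3_c52) Lrfl Lrfl
theorem f185952 : Led Lsl_gt (LP (LK LD1_c2 LD2_c17 LD3_c58)) = (LP (LK LD1_c1 LD2_c11 LD3_c10)) :=
  Lgr Lrot137 (Lpr_ef (f185946 IH) (Lpr_dt (f27237 IH) (Lpe (f27196 IH) (Lpr_df (K1.f27205 IH) (Lpr_et (K1.f27204 IH) (Lpr_gf (K0.f26021 IH) (Lpe (f26598 IH) (Lpr_dt (K9.f9361 IH) (Lpe (K9.f27239 IH) (Lpe (K9.f27240 IH) (Lpn (LP (LK LD1_c1 LD2_c11 LD3_c10)))))))))))))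
theorem f9412 : Led Lsl_ct (LP (LK LD1_c1 LD2_c5 LD3_c13)) = (LP (LK LD1_c2 LD2_c16 LD3_c41)) :=
  Lre_c IH (LK LD1_c1 LD2_c5 LD3_c13) (LK LD1_c2 LD2_c16 LD3_c41) Lrfl Lrfl
theorem f177687 : Led Lsl_gt (LP (LK LD1_c3 LD2_c0 LD3_c54)) = (LP (LK LD1_c2 LD2_c14 LD3_c5)) :=
  Lgr Lrot9 (Lpe (K9.f23939 IH) (Lpr_gt (K9.f23929 IH) (Lpr_ct (f9412 IH) (Lpr_gt (f23951 IH) (Lpr_ct (f176524 IH) (Lpr_df (f177651 IH) (Lpe (f26691 IH) (Lpr_gf (K9.f26681 IH) (Lpe (f26669 IH) (Lpn (LP (LK LD1_c2 LD2_c14 LD3_c5))))))))))))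
theorem f185960 : Led Lsl_gf (LP (LK LD1_c1 LD2_c24 LD3_c39)) = (LP (LK LD1_c2 LD2_c57 LD3_c52)) :=
  Lgr Lrot143 (Lpr_dt (f175571 IH) (Lpr_cf (K9.f175569 IH) (Lpe (K9.f27240 IH) (Lpe (f185952 IH) (Lpe (f25954 IH) (Lpr_gf (f185956 IH) (Lpe (K9.f175901 IH) (Lpr_gt (f177687 IH) (Lpr_dt (f26668 IH) (Lpn (LP (LK LD1_c2 LD2_c57 LD3_c52))))))))))))
theorem f26686 : Led Lsl_gt (LP (LK LD1_c4 LD2_c39 LD3_c29)) = (LP (LK LD1_c2 LD2_c16 LD3_c43)) :=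
  Lre_g IH (LK LD1_c4 LD2_c39 LD3_c29) (LK LD1_c2 LD2_c16 LD3_c43) Lrfl Lrfl
theorem f175389 : Led Lsl_gt (LP (LK LD1_c6 LD2_c3 LD3_c30)) = (LP (LK LD1_c2 LD2_c57 LD3_c54)) :=
  Lre_g IH (LK LD1_c6 LD2_c3 LD3_c30) (LK LD1_c2 LD2_c57 LD3_c54) Lrfl Lrfl
theorem f176722 : Led Lsl_cf (LP (LK LD1_c4 LD2_c39 LD3_c29)) = (LP (LK LD1_c6 LD2_c3 LD3_c30)) :=
  Lgr Lrot166 (Lpr_gt (f26686 IH) (Lpr_dt (f26685 IH) (Lpr_gt (f176558 IH) (Lpr_dt (K9.f100603 IH) (Lpe (K9.f100604 IH) (Lpe (K9.f73952 IH) (Lpe (f175576 IH) (Lpe (f175662 IH) (Lpe (f175389 IH) (Lpn (LP (LK LD1_c6 LD2_c3 LD3_c30))))))))))))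
theorem f176724 : Led Lsl_gt (LP (LK LD1_c2 LD2_c57 LD3_c56)) = (LP (LK LD1_c6 LD2_c3 LD3_c30)) :=
  Lgr Lrot9 (Lpe (f175679 IH) (Lpr_gt (f175788 IH) (Lpr_ct (K9.f100614 IH) (Lpe (K9.f101577 IH) (Lpe (K9.f176518 IH) (Lpe (f176697 IH) (Lpe (f26700 IH) (Lpe (f26686 IH) (Lpr_cf (f176722 IH) (Lpn (LP (LK LD1_c6 LD2_c3 LD3_c30))))))))))))
theorem f26687 : Led Lsl_gt (LP (LK LD1_c1 LD2_c24 LD3_c46)) = (LP (LK LD1_c2 LD2_c58 LD3_c11)) :=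
  Lre_g IH (LK LD1_c1 LD2_c24 LD3_c46) (LK LD1_c2 LD2_c58 LD3_c11) Lrfl Lrfl
theorem f26688 : Led Lsl_df (LP (LK LD1_c4 LD2_c39 LD3_c29)) = (LP (LK LD1_c2 LD2_c58 LD3_c11)) :=
  Lgr Lrot153 (Lpr_gt (f26686 IH) (Lpr_dt (f26685 IH) (Lpe (f20578 IH) (Lpe (K9.f20773 IH) (Lpr_gf (K9.f26681 IH) (Lpe (K9.f26632 IH) (Lpe (K9.f22424 IH) (Lpe (f9390 IH) (Lpr_gt (f26687 IH) (Lpn (LP (LK LD1_c2 LD2_c58 LD3_c11))))))))))))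
theorem f26698 : Led Lsl_dt (LP (LK LD1_c4 LD2_c39 LD3_c29)) = (LP (LK LD1_c2 LD2_c58 LD3_c11)) :=
  Lgr Lrot42 (Lpr_df (f26688 IH) (Lpn (LP (LK LD1_c2 LD2_c58 LD3_c11))))
theorem f186015 : Led Lsl_cf (LP (LK LD1_c2 LD2_c58 LD3_c11)) = (LP (LK LD1_c1 LD2_c28 LD3_c58)) :=
  Lgr Lrot99 (Lpe (f26698 IH) (Lpr_cf (f176722 IH) (Lpe (f176724 IH) (Lpe (f175671 IH) (Lpr_gf (f185960 IH) (Lpe (f26668 IH) (Lpe (f177753 IH) (Lpr_ct (f186007 IH) (Lpr_gt (K9.f59116 IH) (Lpn (LP (LK LD1_c1 LD2_c28 LD3_c58))))))))))))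
theorem f186021 : Led Lsl_ct (LP (LK LD1_c2 LD2_c58 LD3_c11)) = (LP (LK LD1_c1 LD2_c28 LD3_c58)) :=
  Lgr Lrot59 (Lpr_cf (f186015 IH) (Lpn (LP (LK LD1_c1 LD2_c28 LD3_c58))))
theorem f56519 : Led Lsl_et (LP (LK LD1_c0 LD2_c57 LD3_c5)) = (LP (LK LD1_c0 LD2_c25 LD3_c55)) :=
  Lre_e IH (LK LD1_c0 LD2_c57 LD3_c5) (LK LD1_c0 LD2_c25 LD3_c55) Lrfl Lrfl
theorem f37720 : Led Lsl_gt (LP (LK LD1_c0 LD2_c14 LD3_c45)) = (LP (LK LD1_c0 LD2_c32 LD3_c48)) :=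
  Lre_g IH (LK LD1_c0 LD2_c14 LD3_c45) (LK LD1_c0 LD2_c32 LD3_c48) Lrfl Lrfl
theorem f59519 : Led Lsl_ef (LP (LK LD1_c0 LD2_c32 LD3_c48)) = (LP (LK LD1_c0 LD2_c41 LD3_c6)) :=
  Lgr Lrot17 (Lpe (f37720 IH) (Lpe (K1.f27270 IH) (Lpr_dt (K1.f59505 IH) (Lpr_gf (K0.f26750 IH) (Lpr_df (K1.f26760 IH) (Lpr_gf (K1.f37933 IH) (Lpe (f59012 IH) (Lpr_dt (K9.f58979 IH) (Lpe (K9.f59013 IH) (Lpe (f59014 IH) (Lpn (LP (LK LD1_c0 LD2_c41 LD3_c6)))))))))))))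
theorem f59525 : Led Lsl_et (LP (LK LD1_c0 LD2_c32 LD3_c48)) = (LP (LK LD1_c0 LD2_c41 LD3_c6)) :=
  Lgr Lrot87 (Lpr_ef (f59519 IH) (Lpn (LP (LK LD1_c0 LD2_c41 LD3_c6))))
theorem f179901 : Led Lsl_gt (LP (LK LD1_c1 LD2_c10 LD3_c20)) = (LP (LK LD1_c0 LD2_c32 LD3_c32)) :=
  Lre_g IH (LK LD1_c1 LD2_c10 LD3_c20) (LK LD1_c0 LD2_c32 LD3_c32) Lrfl Lrfl
theorem f179902 : Led Lsl_dt (LP (LK LD1_c0 LD2_c32 LD3_c48)) = (LP (LK LD1_c1 LD2_c10 LD3_c20)) :=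
  Lgr Lrot136 (Lpr_et (f59525 IH) (Lpe (f59017 IH) (Lpe (f59016 IH) (Lpr_dt (K9.f59015 IH) (Lpe (K9.f47067 IH) (Lpe (K1.f55379 IH) (Lpe (K9.f56518 IH) (Lpe (f56519 IH) (Lpr_dt (f179892 IH) (Lpe (f179901 IH) (Lpn (LP (LK LD1_c1 LD2_c10 LD3_c20)))))))))))))
theorem f179906 : Led Lsl_ef (LP (LK LD1_c1 LD2_c28 LD3_c58)) = (LP (LK LD1_c1 LD2_c10 LD3_c20)) :=
  Lgr Lrot73 (Lpr_dt (f59133 IH) (Lpr_et (K9.f59114 IH) (Lpr_dt (f59029 IH) (Lpe (f59519 IH) (Lpr_dt (f179902 IH) (Lpn (LP (LK LD1_c1 LD2_c10 LD3_c20))))))))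
theorem f179904 : Led Lsl_df (LP (LK LD1_c0 LD2_c32 LD3_c48)) = (LP (LK LD1_c1 LD2_c10 LD3_c20)) :=
  Lgr Lrot38 (Lpr_dt (f179902 IH) (Lpn (LP (LK LD1_c1 LD2_c10 LD3_c20))))
theorem f179947 : Led Lsl_gt (LP (LK LD1_c1 LD2_c28 LD3_c58)) = (LP (LK LD1_c1 LD2_c27 LD3_c44)) :=
  Lgr Lrot137 (Lpr_ef (f179906 IH) (Lpe (f179904 IH) (Lpe (f37720 IH) (Lpr_df (f37703 IH) (Lpr_et (K1.f37723 IH) (Lpr_gf (K1.f59515 IH) (Lpe (K9.f59521 IH) (Lpr_dt (K9.f100645 IH) (Lpe (K9.f101509 IH) (Lpe (K9.f101510 IH) (Lpn (LP (LK LD1_c1 LD2_c27 LD3_c44)))))))))))))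
theorem f175905 : Led Lsl_cf (LP (LK LD1_c3 LD2_c0 LD3_c54)) = (LP (LK LD1_c1 LD2_c27 LD3_c44)) :=
  Lgr Lrot11 (Lpr_ct (K9.f175901 IH) (Lpn (LP (LK LD1_c1 LD2_c27 LD3_c44))))
theorem f176096 : Led Lsl_gf (LP (LK LD1_c4 LD2_c39 LD3_c24)) = (LP (LK LD1_c4 LD2_c57 LD3_c61)) :=
  Lgr Lrot147 (Lpr_ct (f23949 IH) (Lpr_gt (K9.f23929 IH) (Lpr_ct (f9412 IH) (Lpe (f9182 IH) (Lpe (f9402 IH) (Lpe (K9.f26684 IH) (Lpe (K9.f176061 IH) (Lpr_gf (K9.f176059 IH) (Lpe (K9.f100696 IH) (Lpn (LP (LK LD1_c4 LD2_c57 LD3_c61))))))))))))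
theorem f186042 : Led Lsl_gt (LP (LK LD1_c2 LD2_c58 LD3_c13)) = (LP (LK LD1_c2 LD2_c26 LD3_c50)) :=
  Lgr Lrot9 (Lpe (f176841 IH) (Lpr_gt (f26687 IH) (Lpr_ct (f186021 IH) (Lpr_gt (f179947 IH) (Lpe (f175905 IH) (Lpe (K9.f23939 IH) (Lpe (f23949 IH) (Lpr_gf (f176096 IH) (Lpe (K9.f100683 IH) (Lpn (LP (LK LD1_c2 LD2_c26 LD3_c50))))))))))))
theorem f100623 : Led Lsl_et (LP (LK LD1_c6 LD2_c13 LD3_c30)) = (LP (LK LD1_c3 LD2_c3 LD3_c33)) :=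
  Lre_e IH (LK LD1_c6 LD2_c13 LD3_c30) (LK LD1_c3 LD2_c3 LD3_c33) Lrfl Lrfl
theorem f100924 : Led Lsl_et (LP (LK LD1_c2 LD2_c26 LD3_c50)) = (LP (LK LD1_c4 LD2_c57 LD3_c60)) :=
  Lre_e IH (LK LD1_c2 LD2_c26 LD3_c50) (LK LD1_c4 LD2_c57 LD3_c60) Lrfl Lrfl
theorem f100925 : Led Lsl_at (LP (LK LD1_c3 LD2_c3 LD3_c33)) = (LP (LK LD1_c2 LD2_c26 LD3_c50)) :=
  Lgr Lrot80 (Lpe (f100623 IH) (Lpr_af (K9.f100914 IH) (Lpe (f100924 IH) (Lpn (LP (LK LD1_c2 LD2_c26 LD3_c50))))))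
theorem f186046 : Led Lsl_gf (LP (LK LD1_c2 LD2_c58 LD3_c13)) = (LP (LK LD1_c1 LD2_c27 LD3_c40)) :=
  Lgr Lrot47 (Lpr_gt (f186042 IH) (Lpe (f100925 IH) (Lpe (f100626 IH) (Lpn (LP (LK LD1_c1 LD2_c27 LD3_c40))))))
theorem f59575 : Led Lsl_et (LP (LK LD1_c0 LD2_c40 LD3_c33)) = (LP (LK LD1_c0 LD2_c18 LD3_c9)) :=
  Lre_e IH (LK LD1_c0 LD2_c40 LD3_c33) (LK LD1_c0 LD2_c18 LD3_c9) Lrfl Lrfl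
theorem f180635 : Led Lsl_dt (LP (LK LD1_c1 LD2_c9 LD3_c37)) = (LP (LK LD1_c1 LD2_c14 LD3_c2)) :=
  Lgr Lrot27 (Lpe (f31693 IH) (Lpr_gf (K9.f101517 IH) (Lpe (K9.f177767 IH) (Lpe (K9.f164693 IH) (Lpe (K9.f164735 IH) (Lpe (K9.f166171 IH) (Lpr_ct (K9.f35003 IH) (Lpr_gt (f180583 IH) (Lpe (f180633 IH) (Lpn (LP (LK LD1_c1 LD2_c14 LD3_c2))))))))))))
theorem f186831 : Led Lsl_gf (LP (LK LD1_c1 LD2_c9 LD3_c37)) = (LP (LK LD1_c1 LD2_c13 LD3_c26)) :=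
  Lgr Lrot138 (Lpr_dt (f180635 IH) (Lpr_gt (f59574 IH) (Lpe (K8.f59573 IH) (Lpr_et (K9.f20528 IH) (Lpr_gt (K1.f59533 IH) (Lpe (f59575 IH) (Lpr_dt (K9.f59576 IH) (Lpe (f186046 IH) (Lpe (f176841 IH) (Lpr_et (f186824 IH) (Lpn (LP (LK LD1_c1 LD2_c13 LD3_c26)))))))))))))
theorem f186713 : Led Lsl_cf (LP (LK LD1_c0 LD2_c14 LD3_c20)) = (LP (LK LD1_c0 LD2_c15 LD3_c12)) :=
  Lgr Lrot11 (Lpr_ct (f186710 IH) (Lpn (LP (LK LD1_c0 LD2_c15 LD3_c12))))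
theorem f165500 : Led Lsl_ct (LP (LK LD1_c0 LD2_c34 LD3_c0)) = (LP (LK LD1_c1 LD2_c13 LD3_c26)) :=
  Lre_c IH (LK LD1_c0 LD2_c34 LD3_c0) (LK LD1_c1 LD2_c13 LD3_c26) Lrfl Lrfl
theorem f186835 : Led Lsl_gf (LP (LK LD1_c0 LD2_c15 LD3_c12)) = (LP (LK LD1_c0 LD2_c14 LD3_c57)) :=
  Lgr Lrot104 (Lpe (f186713 IH) (Lpe (K9.f31695 IH) (Lpe (f31692 IH) (Lpr_gf (f186831 IH) (Lpe (f165500 IH) (Lpe (f22103 IH) (Lpe (K9.f22102 IH) (Lpe (K9.f165494 IH) (Lpr_ct (K0.f3148 IH) (Lpn (LP (LK LD1_c0 LD2_c14 LD3_c57))))))))))))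
theorem f32905 : Led Lsl_bt (LP (LK LD1_c1 LD2_c14 LD3_c15)) = (LP (LK LD1_c0 LD2_c34 LD3_c27)) :=
  Lre_b IH (LK LD1_c1 LD2_c14 LD3_c15) (LK LD1_c0 LD2_c34 LD3_c27) Lrfl Lrfl
theorem f3335 : Led Lsl_gt (LP (LK LD1_c1 LD2_c11 LD3_c16)) = (LP (LK LD1_c0 LD2_c33 LD3_c7)) :=
  Lre_g IH (LK LD1_c1 LD2_c11 LD3_c16) (LK LD1_c0 LD2_c33 LD3_c7) Lrfl Lrfl
theorem f186840 : Led Lsl_ct (LP (LK LD1_c1 LD2_c14 LD3_c15)) = (LP (LK LD1_c1 LD2_c11 LD3_c16)) :=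
  Lgr Lrot64 (Lpr_bt (f32905 IH) (Lpe (K9.f32878 IH) (Lpe (K1.f32260 IH) (Lpr_ct (K1.f28429 IH) (Lpe (K9.f31599 IH) (Lpr_cf (f186713 IH) (Lpr_gf (f186835 IH) (Lpe (K0.f3147 IH) (Lpe (K0.f3150 IH) (Lpe (f3335 IH) (Lpn (LP (LK LD1_c1 LD2_c11 LD3_c16)))))))))))))
theorem f186843 : Led Lsl_cf (LP (LK LD1_c1 LD2_c14 LD3_c15)) = (LP (LK LD1_c1 LD2_c11 LD3_c16)) :=
  Lgr Lrot11 (Lpr_ct (f186840 IH) (Lpn (LP (LK LD1_c1 LD2_c11 LD3_c16))))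
theorem f3720 : Led Lsl_gt (LP (LK LD1_c0 LD2_c33 LD3_c3)) = (LP (LK LD1_c1 LD2_c11 LD3_c16)) :=
  Lre_g IH (LK LD1_c0 LD2_c33 LD3_c3) (LK LD1_c1 LD2_c11 LD3_c16) Lrfl Lrfl
theorem f33577 : Led Lsl_bt (LP (LK LD1_c0 LD2_c25 LD3_c19)) = (LP (LK LD1_c0 LD2_c33 LD3_c3)) :=
  Lgr Lrot127 (Lpr_bf (K0.f33575 IH) (Lpn (LP (LK LD1_c0 LD2_c33 LD3_c3))))
theorem f33671 : Led Lsl_gt (LP (LK LD1_c0 LD2_c25 LD3_c21)) = (LP (LK LD1_c0 LD2_c11 LD3_c17)) :=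
  Lre_g IH (LK LD1_c0 LD2_c25 LD3_c21) (LK LD1_c0 LD2_c11 LD3_c17) Lrfl Lrfl
theorem f165282 : Led Lsl_ct (LP (LK LD1_c0 LD2_c55 LD3_c53)) = (LP (LK LD1_c0 LD2_c25 LD3_c21)) :=
  Lre_c IH (LK LD1_c0 LD2_c55 LD3_c53) (LK LD1_c0 LD2_c25 LD3_c21) Lrfl Lrfl
theorem f163687 : Led Lsl_bt (LP (LK LD1_c0 LD2_c14 LD3_c61)) = (LP (LK LD1_c0 LD2_c33 LD3_c24)) :=
  Lre_b IH (LK LD1_c0 LD2_c14 LD3_c61) (LK LD1_c0 LD2_c33 LD3_c24) Lrfl Lrfl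
theorem f184616 : Led Lsl_gf (LP (LK LD1_c0 LD2_c33 LD3_c24)) = (LP (LK LD1_c0 LD2_c34 LD3_c58)) :=
  Lgr Lrot124 (Lpe (f163687 IH) (Lpr_ct (K9.f163686 IH) (Lpr_gt (K9.f3144 IH) (Lpe (K8.f3115 IH) (Lpr_bt (K9.f3114 IH) (Lpr_gt (K9.f3776 IH) (Lpr_ct (K9.f3778 IH) (Lpr_gt (K9.f184611 IH) (Lpr_cf (K1.f45881 IH) (Lpr_bt (K1.f28294 IH) (Lpn (LP (LK LD1_c0 LD2_c34 LD3_c58)))))))))))))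
theorem f184620 : Led Lsl_gt (LP (LK LD1_c0 LD2_c33 LD3_c24)) = (LP (LK LD1_c0 LD2_c15 LD3_c39)) :=
  Lgr Lrot46 (Lpr_gf (f184616 IH) (Lpr_ft (K1.f28260 IH) (Lpr_at (K1.f46326 IH) (Lpn (LP (LK LD1_c0 LD2_c15 LD3_c39))))))
theorem f182058 : Led Lsl_dt (LP (LK LD1_c0 LD2_c33 LD3_c24)) = (LP (LK LD1_c1 LD2_c12 LD3_c11)) :=
  Lre_d IH (LK LD1_c0 LD2_c33 LD3_c24) (LK LD1_c1 LD2_c12 LD3_c11) Lrfl Lrfl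
theorem f165298 : Led Lsl_gt (LP (LK LD1_c1 LD2_c12 LD3_c11)) = (LP (LK LD1_c2 LD2_c30 LD3_c20)) :=
  Lre_g IH (LK LD1_c1 LD2_c12 LD3_c11) (LK LD1_c2 LD2_c30 LD3_c20) Lrfl Lrfl
theorem f165307 : Led Lsl_ct (LP (LK LD1_c2 LD2_c30 LD3_c20)) = (LP (LK LD1_c5 LD2_c6 LD3_c4)) :=
  Lre_c IH (LK LD1_c2 LD2_c30 LD3_c20) (LK LD1_c5 LD2_c6 LD3_c4) Lrfl Lrfl
theorem f177621 : Led Lsl_et (LP (LK LD1_c1 LD2_c25 LD3_c36)) = (LP (LK LD1_c0 LD2_c39 LD3_c30)) :=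
  Lre_e IH (LK LD1_c1 LD2_c25 LD3_c36) (LK LD1_c0 LD2_c39 LD3_c30) Lrfl Lrfl
theorem f177370 : Led Lsl_et (LP (LK LD1_c1 LD2_c11 LD3_c33)) = (LP (LK LD1_c2 LD2_c28 LD3_c46)) :=
  Lre_e IH (LK LD1_c1 LD2_c11 LD3_c33) (LK LD1_c2 LD2_c28 LD3_c46) Lrfl Lrfl
theorem f177371 : Led Lsl_et (LP (LK LD1_c0 LD2_c17 LD3_c42)) = (LP (LK LD1_c0 LD2_c39 LD3_c32)) :=
  Lre_e IH (LK LD1_c0 LD2_c17 LD3_c42) (LK LD1_c0 LD2_c39 LD3_c32) Lrfl Lrfl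
theorem f177372 : Led Lsl_et (LP (LK LD1_c1 LD2_c25 LD3_c38)) = (LP (LK LD1_c0 LD2_c39 LD3_c31)) :=
  Lre_e IH (LK LD1_c1 LD2_c25 LD3_c38) (LK LD1_c0 LD2_c39 LD3_c31) Lrfl Lrfl
theorem f177373 : Led Lsl_dt (LP (LK LD1_c2 LD2_c28 LD3_c46)) = (LP (LK LD1_c1 LD2_c25 LD3_c38)) :=
  Lgr Lrot77 (Lpe (f177370 IH) (Lpr_df (K9.f177363 IH) (Lpe (f177371 IH) (Lpe (f9087 IH) (Lpe (f177372 IH) (Lpn (LP (LK LD1_c1 LD2_c25 LD3_c38))))))))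
theorem f177559 : Led Lsl_df (LP (LK LD1_c2 LD2_c28 LD3_c46)) = (LP (LK LD1_c1 LD2_c25 LD3_c38)) :=
  Lgr Lrot38 (Lpr_dt (f177373 IH) (Lpn (LP (LK LD1_c1 LD2_c25 LD3_c38))))
theorem f169620 : Led Lsl_bt (LP (LK LD1_c2 LD2_c28 LD3_c46)) = (LP (LK LD1_c5 LD2_c2 LD3_c18)) :=
  Lre_b IH (LK LD1_c2 LD2_c28 LD3_c46) (LK LD1_c5 LD2_c2 LD3_c18) Lrfl Lrfl
theorem f177586 : Led Lsl_bt (LP (LK LD1_c2 LD2_c59 LD3_c47)) = (LP (LK LD1_c1 LD2_c25 LD3_c38)) :=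
  Lre_b IH (LK LD1_c2 LD2_c59 LD3_c47) (LK LD1_c1 LD2_c25 LD3_c38) Lrfl Lrfl
theorem f177587 : Led Lsl_dt (LP (LK LD1_c5 LD2_c2 LD3_c18)) = (LP (LK LD1_c2 LD2_c59 LD3_c47)) :=
  Lgr Lrot79 (Lpe (f169620 IH) (Lpr_df (f177559 IH) (Lpe (f177586 IH) (Lpn (LP (LK LD1_c2 LD2_c59 LD3_c47))))))
theorem f177597 : Led Lsl_et (LP (LK LD1_c2 LD2_c28 LD3_c44)) = (LP (LK LD1_c5 LD2_c2 LD3_c18)) :=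
  Lre_e IH (LK LD1_c2 LD2_c28 LD3_c44) (LK LD1_c5 LD2_c2 LD3_c18) Lrfl Lrfl
theorem f177598 : Led Lsl_et (LP (LK LD1_c2 LD2_c59 LD3_c47)) = (LP (LK LD1_c1 LD2_c25 LD3_c35)) :=
  Lre_e IH (LK LD1_c2 LD2_c59 LD3_c47) (LK LD1_c1 LD2_c25 LD3_c35) Lrfl Lrfl
theorem f177599 : Led Lsl_dt (LP (LK LD1_c1 LD2_c25 LD3_c35)) = (LP (LK LD1_c0 LD2_c39 LD3_c30)) :=
  Lre_d IH (LK LD1_c1 LD2_c25 LD3_c35) (LK LD1_c0 LD2_c39 LD3_c30) Lrfl Lrfl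
theorem f177600 : Led Lsl_et (LP (LK LD1_c0 LD2_c39 LD3_c30)) = (LP (LK LD1_c1 LD2_c25 LD3_c36)) :=
  Lre_e IH (LK LD1_c0 LD2_c39 LD3_c30) (LK LD1_c1 LD2_c25 LD3_c36) Lrfl Lrfl
theorem f177601 : Led Lsl_df (LP (LK LD1_c2 LD2_c28 LD3_c44)) = (LP (LK LD1_c1 LD2_c25 LD3_c36)) :=
  Lgr Lrot70 (Lpr_et (f177597 IH) (Lpr_dt (f177587 IH) (Lpr_et (f177598 IH) (Lpr_dt (f177599 IH) (Lpr_et (f177600 IH) (Lpn (LP (LK LD1_c1 LD2_c25 LD3_c36))))))))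
theorem f33352 : Led Lsl_et (LP (LK LD1_c0 LD2_c11 LD3_c16)) = (LP (LK LD1_c0 LD2_c25 LD3_c19)) :=
  Lre_e IH (LK LD1_c0 LD2_c11 LD3_c16) (LK LD1_c0 LD2_c25 LD3_c19) Lrfl Lrfl
theorem f33560 : Led Lsl_gt (LP (LK LD1_c0 LD2_c25 LD3_c19)) = (LP (LK LD1_c0 LD2_c55 LD3_c46)) :=
  Lre_g IH (LK LD1_c0 LD2_c25 LD3_c19) (LK LD1_c0 LD2_c55 LD3_c46) Lrfl Lrfl
theorem f33561 : Led Lsl_dt (LP (LK LD1_c0 LD2_c55 LD3_c46)) = (LP (LK LD1_c1 LD2_c57 LD3_c48)) :=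
  Lre_d IH (LK LD1_c0 LD2_c55 LD3_c46) (LK LD1_c1 LD2_c57 LD3_c48) Lrfl Lrfl
theorem f182042 : Led Lsl_gf (LP (LK LD1_c2 LD2_c28 LD3_c44)) = (LP (LK LD1_c1 LD2_c57 LD3_c48)) :=
  Lgr Lrot134 (Lpr_df (f177601 IH) (Lpr_et (f177621 IH) (Lpr_gt (K9.f182034 IH) (Lpe (K0.f28493 IH) (Lpr_dt (K0.f33277 IH) (Lpr_gt (K1.f33344 IH) (Lpe (K0.f33346 IH) (Lpr_et (f33352 IH) (Lpr_gt (f33560 IH) (Lpr_dt (f33561 IH) (Lpn (LP (LK LD1_c1 LD2_c57 LD3_c48)))))))))))))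
theorem f165306 : Led Lsl_bt (LP (LK LD1_c1 LD2_c11 LD3_c33)) = (LP (LK LD1_c2 LD2_c28 LD3_c44)) :=
  Lre_b IH (LK LD1_c1 LD2_c11 LD3_c33) (LK LD1_c2 LD2_c28 LD3_c44) Lrfl Lrfl
theorem f165297 : Led Lsl_bt (LP (LK LD1_c0 LD2_c33 LD3_c25)) = (LP (LK LD1_c1 LD2_c12 LD3_c11)) :=
  Lre_b IH (LK LD1_c0 LD2_c33 LD3_c25) (LK LD1_c1 LD2_c12 LD3_c11) Lrfl Lrfl
theorem f182048 : Led Lsl_bt (LP (LK LD1_c4 LD2_c1 LD3_c39)) = (LP (LK LD1_c1 LD2_c57 LD3_c48)) :=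
  Lre_b IH (LK LD1_c4 LD2_c1 LD3_c39) (LK LD1_c1 LD2_c57 LD3_c48) Lrfl Lrfl
theorem f182050 : Led Lsl_ct (LP (LK LD1_c4 LD2_c1 LD3_c39)) = (LP (LK LD1_c8 LD2_c3 LD3_c57)) :=
  Lre_c IH (LK LD1_c4 LD2_c1 LD3_c39) (LK LD1_c8 LD2_c3 LD3_c57) Lrfl Lrfl
theorem f182051 : Led Lsl_gt (LP (LK LD1_c5 LD2_c6 LD3_c4)) = (LP (LK LD1_c8 LD2_c3 LD3_c57)) :=
  Lgr Lrot149 (Lpe (f165307 IH) (Lpe (f165298 IH) (Lpe (f165297 IH) (Lpr_ct (K9.f165296 IH) (Lpe (K9.f165280 IH) (Lpe (K9.f165279 IH) (Lpr_bt (f165306 IH) (Lpr_gf (f182042 IH) (Lpe (f182048 IH) (Lpr_ct (f182050 IH) (Lpn (LP (LK LD1_c8 LD2_c3 LD3_c57)))))))))))))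
theorem f182049 : Led Lsl_ct (LP (LK LD1_c8 LD2_c3 LD3_c57)) = (LP (LK LD1_c4 LD2_c1 LD3_c39)) :=
  Lre_c IH (LK LD1_c8 LD2_c3 LD3_c57) (LK LD1_c4 LD2_c1 LD3_c39) Lrfl Lrfl
theorem f182059 : Led Lsl_dt (LP (LK LD1_c4 LD2_c1 LD3_c39)) = (LP (LK LD1_c1 LD2_c57 LD3_c47)) :=
  Lre_d IH (LK LD1_c4 LD2_c1 LD3_c39) (LK LD1_c1 LD2_c57 LD3_c47) Lrfl Lrfl
theorem f43946 : Led Lsl_gt (LP (LK LD1_c0 LD2_c34 LD3_c51)) = (LP (LK LD1_c1 LD2_c15 LD3_c7)) :=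
  Lre_g IH (LK LD1_c0 LD2_c34 LD3_c51) (LK LD1_c1 LD2_c15 LD3_c7) Lrfl Lrfl
theorem f184629 : Led Lsl_cf (LP (LK LD1_c1 LD2_c57 LD3_c47)) = (LP (LK LD1_c1 LD2_c15 LD3_c7)) :=
  Lgr Lrot99 (Lpe (f182059 IH) (Lpe (f182049 IH) (Lpe (f182051 IH) (Lpe (f165307 IH) (Lpe (f165298 IH) (Lpe (f182058 IH) (Lpr_gt (f184620 IH) (Lpr_ct (K1.f28249 IH) (Lpr_gt (f43946 IH) (Lpn (LP (LK LD1_c1 LD2_c15 LD3_c7))))))))))))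
theorem f184644 : Led Lsl_ct (LP (LK LD1_c1 LD2_c57 LD3_c47)) = (LP (LK LD1_c1 LD2_c15 LD3_c7)) :=
  Lgr Lrot59 (Lpr_cf (f184629 IH) (Lpn (LP (LK LD1_c1 LD2_c15 LD3_c7))))
theorem f33591 : Led Lsl_bt (LP (LK LD1_c1 LD2_c57 LD3_c47)) = (LP (LK LD1_c0 LD2_c55 LD3_c46)) :=
  Lre_b IH (LK LD1_c1 LD2_c57 LD3_c47) (LK LD1_c0 LD2_c55 LD3_c46) Lrfl Lrfl
theorem f163688 : Led Lsl_bt (LP (LK LD1_c0 LD2_c15 LD3_c14)) = (LP (LK LD1_c0 LD2_c33 LD3_c50)) :=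
  Lre_b IH (LK LD1_c0 LD2_c15 LD3_c14) (LK LD1_c0 LD2_c33 LD3_c50) Lrfl Lrfl
theorem f184649 : Led Lsl_gt (LP (LK LD1_c0 LD2_c55 LD3_c46)) = (LP (LK LD1_c0 LD2_c33 LD3_c50)) :=
  Lgr Lrot164 (Lpe (f33591 IH) (Lpr_ct (f184644 IH) (Lpe (f43946 IH) (Lpe (K1.f28249 IH) (Lpe (f184620 IH) (Lpe (f163687 IH) (Lpr_ct (K9.f163686 IH) (Lpr_gf (K9.f163677 IH) (Lpe (K8.f34641 IH) (Lpr_bt (f163688 IH) (Lpn (LP (LK LD1_c0 LD2_c33 LD3_c50)))))))))))))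
theorem f28299 : Led Lsl_bt (LP (LK LD1_c0 LD2_c15 LD3_c39)) = (LP (LK LD1_c0 LD2_c34 LD3_c50)) :=
  Lre_b IH (LK LD1_c0 LD2_c15 LD3_c39) (LK LD1_c0 LD2_c34 LD3_c50) Lrfl Lrfl
theorem f28280 : Led Lsl_gt (LP (LK LD1_c1 LD2_c15 LD3_c4)) = (LP (LK LD1_c0 LD2_c34 LD3_c50)) :=
  Lre_g IH (LK LD1_c1 LD2_c15 LD3_c4) (LK LD1_c0 LD2_c34 LD3_c50) Lrfl Lrfl
theorem f33981 : Led Lsl_at (LP (LK LD1_c0 LD2_c55 LD3_c49)) = (LP (LK LD1_c0 LD2_c33 LD3_c50)) :=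
  Lgr Lrot51 (Lpe (K0.f33598 IH) (Lpr_af (K0.f33945 IH) (Lpe (K0.f33980 IH) (Lpn (LP (LK LD1_c0 LD2_c33 LD3_c50))))))
theorem f34074 : Led Lsl_ct (LP (LK LD1_c0 LD2_c33 LD3_c50)) = (LP (LK LD1_c0 LD2_c25 LD3_c18)) :=
  Lgr Lrot111 (Lpe (f33981 IH) (Lpe (K0.f33594 IH) (Lpr_af (K0.f34059 IH) (Lpn (LP (LK LD1_c0 LD2_c25 LD3_c18))))))
theorem f33672 : Led Lsl_gf (LP (LK LD1_c0 LD2_c25 LD3_c21)) = (LP (LK LD1_c0 LD2_c25 LD3_c18)) :=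
  Lgr Lrot47 (Lpr_gt (f33671 IH) (Lpr_af (K0.f33640 IH) (Lpe (K0.f33647 IH) (Lpn (LP (LK LD1_c0 LD2_c25 LD3_c18))))))
theorem f184658 : Led Lsl_bf (LP (LK LD1_c1 LD2_c15 LD3_c4)) = (LP (LK LD1_c0 LD2_c55 LD3_c53)) :=
  Lgr Lrot156 (Lpr_gt (f28280 IH) (Lpe (f28299 IH) (Lpr_ct (K1.f28249 IH) (Lpr_gt (f43946 IH) (Lpe (f184644 IH) (Lpr_bt (f33591 IH) (Lpr_gt (f184649 IH) (Lpr_ct (f34074 IH) (Lpe (f33672 IH) (Lpe (f165282 IH) (Lpn (LP (LK LD1_c0 LD2_c55 LD3_c53)))))))))))))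
theorem f46353 : Led Lsl_gf (LP (LK LD1_c1 LD2_c15 LD3_c4)) = (LP (LK LD1_c1 LD2_c15 LD3_c9)) :=
  Lgr Lrot47 (Lpr_gt (f28280 IH) (Lpr_af (K1.f46344 IH) (Lpe (K1.f45870 IH) (Lpn (LP (LK LD1_c1 LD2_c15 LD3_c9))))))
theorem f186853 : Led Lsl_gt (LP (LK LD1_c1 LD2_c14 LD3_c15)) = (LP (LK LD1_c1 LD2_c15 LD3_c16)) :=
  Lgr Lrot149 (Lpr_cf (f186843 IH) (Lpe (f3720 IH) (Lpe (f33577 IH) (Lpr_ct (K0.f33579 IH) (Lpe (f33671 IH) (Lpe (f165282 IH) (Lpe (f184658 IH) (Lpr_gf (f46353 IH) (Lpe (K1.f45851 IH) (Lpr_ct (K1.f45888 IH) (Lpn (LP (LK LD1_c1 LD2_c15 LD3_c16)))))))))))))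
theorem f1601 : Led Lsl_et (LP (LK LD1_c1 LD2_c8 LD3_c50)) = (LP (LK LD1_c0 LD2_c31 LD3_c27)) :=
  Lre_e IH (LK LD1_c1 LD2_c8 LD3_c50) (LK LD1_c0 LD2_c31 LD3_c27) Lrfl Lrfl
theorem f1602 : Led Lsl_dt (LP (LK LD1_c1 LD2_c8 LD3_c50)) = (LP (LK LD1_c2 LD2_c23 LD3_c27)) :=
  Lre_d IH (LK LD1_c1 LD2_c8 LD3_c50) (LK LD1_c2 LD2_c23 LD3_c27) Lrfl Lrfl
theorem f33350 : Led Lsl_gt (LP (LK LD1_c2 LD2_c23 LD3_c27)) = (LP (LK LD1_c1 LD2_c11 LD3_c18)) :=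
  Lgr Lrot112 (Lpe (f1602 IH) (Lpr_et (f1601 IH) (Lpe (K9.f270 IH) (Lpe (K1.f1617 IH) (Lpe (K0.f1667 IH) (Lpe (K0.f27815 IH) (Lpr_df (K0.f33129 IH) (Lpr_gf (K0.f33342 IH) (Lpe (K0.f3714 IH) (Lpr_dt (K0.f3316 IH) (Lpn (LP (LK LD1_c1 LD2_c11 LD3_c18)))))))))))))
theorem f3329 : Led Lsl_at (LP (LK LD1_c0 LD2_c33 LD3_c6)) = (LP (LK LD1_c1 LD2_c11 LD3_c18)) :=
  Lre_a IH (LK LD1_c0 LD2_c33 LD3_c6) (LK LD1_c1 LD2_c11 LD3_c18) Lrfl Lrfl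
theorem f3330 : Led Lsl_ft (LP (LK LD1_c1 LD2_c11 LD3_c31)) = (LP (LK LD1_c0 LD2_c33 LD3_c6)) :=
  Lre_f IH (LK LD1_c1 LD2_c11 LD3_c31) (LK LD1_c0 LD2_c33 LD3_c6) Lrfl Lrfl
theorem f33356 : Led Lsl_gf (LP (LK LD1_c2 LD2_c23 LD3_c27)) = (LP (LK LD1_c1 LD2_c11 LD3_c31)) :=
  Lgr Lrot47 (Lpr_gt (f33350 IH) (Lpe (f3329 IH) (Lpe (f3330 IH) (Lpn (LP (LK LD1_c1 LD2_c11 LD3_c31))))))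
theorem f33364 : Led Lsl_dt (LP (LK LD1_c2 LD2_c23 LD3_c27)) = (LP (LK LD1_c1 LD2_c8 LD3_c50)) :=
  Lre_d IH (LK LD1_c2 LD2_c23 LD3_c27) (LK LD1_c1 LD2_c8 LD3_c50) Lrfl Lrfl
theorem f33383 : Led Lsl_ct (LP (LK LD1_c1 LD2_c8 LD3_c50)) = (LP (LK LD1_c2 LD2_c23 LD3_c23)) :=
  Lre_c IH (LK LD1_c1 LD2_c8 LD3_c50) (LK LD1_c2 LD2_c23 LD3_c23) Lrfl Lrfl
theorem f44041 : Led Lsl_gt (LP (LK LD1_c4 LD2_c2 LD3_c34)) = (LP (LK LD1_c1 LD2_c58 LD3_c17)) :=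
  Lre_g IH (LK LD1_c4 LD2_c2 LD3_c34) (LK LD1_c1 LD2_c58 LD3_c17) Lrfl Lrfl
theorem f46540 : Led Lsl_gt (LP (LK LD1_c2 LD2_c36 LD3_c33)) = (LP (LK LD1_c4 LD2_c2 LD3_c34)) :=
  Lgr Lrot5 (Lpr_ft (K1.f45892 IH) (Lpr_at (K1.f46528 IH) (Lpe (f44041 IH) (Lpn (LP (LK LD1_c4 LD2_c2 LD3_c34))))))
theorem f186857 : Led Lsl_df (LP (LK LD1_c2 LD2_c23 LD3_c23)) = (LP (LK LD1_c4 LD2_c2 LD3_c34)) :=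
  Lgr Lrot84 (Lpe (f33383 IH) (Lpe (f33364 IH) (Lpr_gf (f33356 IH) (Lpe (K0.f3307 IH) (Lpe (f3335 IH) (Lpe (f186840 IH) (Lpr_gt (f186853 IH) (Lpr_dt (K1.f45896 IH) (Lpr_gt (f46540 IH) (Lpn (LP (LK LD1_c4 LD2_c2 LD3_c34))))))))))))
theorem f186888 : Led Lsl_dt (LP (LK LD1_c2 LD2_c23 LD3_c23)) = (LP (LK LD1_c4 LD2_c2 LD3_c34)) :=
  Lgr Lrot42 (Lpr_df (f186857 IH) (Lpn (LP (LK LD1_c4 LD2_c2 LD3_c34))))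
theorem f186890 : Led Lsl_et (LP (LK LD1_c2 LD2_c23 LD3_c23)) = (LP (LK LD1_c1 LD2_c8 LD3_c48)) :=
  Lre_e IH (LK LD1_c2 LD2_c23 LD3_c23) (LK LD1_c1 LD2_c8 LD3_c48) Lrfl Lrfl
theorem f44039 : Led Lsl_et (LP (LK LD1_c0 LD2_c56 LD3_c0)) = (LP (LK LD1_c0 LD2_c25 LD3_c25)) :=
  Lre_e IH (LK LD1_c0 LD2_c56 LD3_c0) (LK LD1_c0 LD2_c25 LD3_c25) Lrfl Lrfl
theorem f186918 : Led Lsl_gf (LP (LK LD1_c1 LD2_c8 LD3_c48)) = (LP (LK LD1_c0 LD2_c54 LD3_c20)) :=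
  Lgr Lrot141 (Lpe (f186890 IH) (Lpr_dt (f186888 IH) (Lpr_gt (f44041 IH) (Lpe (K1.f44040 IH) (Lpr_et (f44039 IH) (Lpr_gt (K1.f44027 IH) (Lpr_dt (K0.f31042 IH) (Lpe (K1.f31129 IH) (Lpe (K0.f28324 IH) (Lpr_et (K0.f29063 IH) (Lpn (LP (LK LD1_c0 LD2_c54 LD3_c20)))))))))))))
theorem f186920 : Led Lsl_gt (LP (LK LD1_c1 LD2_c8 LD3_c48)) = (LP (LK LD1_c1 LD2_c1 LD3_c16)) :=
  Lgr Lrot46 (Lpr_gf (f186918 IH) (Lpr_ft (K1.f29129 IH) (Lpr_at (K1.f39085 IH) (Lpn (LP (LK LD1_c1 LD2_c1 LD3_c16))))))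
theorem f2107 : Led Lsl_ct (LP (LK LD1_c0 LD2_c31 LD3_c27)) = (LP (LK LD1_c1 LD2_c8 LD3_c48)) :=
  Lre_c IH (LK LD1_c0 LD2_c31 LD3_c27) (LK LD1_c1 LD2_c8 LD3_c48) Lrfl Lrfl
theorem f171161 : Led Lsl_bt (LP (LK LD1_c0 LD2_c11 LD3_c44)) = (LP (LK LD1_c0 LD2_c26 LD3_c25)) :=
  Lre_b IH (LK LD1_c0 LD2_c11 LD3_c44) (LK LD1_c0 LD2_c26 LD3_c25) Lrfl Lrfl
theorem f171164 : Led Lsl_gt (LP (LK LD1_c0 LD2_c58 LD3_c11)) = (LP (LK LD1_c0 LD2_c26 LD3_c25)) :=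
  Lre_g IH (LK LD1_c0 LD2_c58 LD3_c11) (LK LD1_c0 LD2_c26 LD3_c25) Lrfl Lrfl
theorem f29130 : Led Lsl_cf (LP (LK LD1_c1 LD2_c1 LD3_c16)) = (LP (LK LD1_c1 LD2_c55 LD3_c11)) :=
  Lgr Lrot108 (Lpr_ft (K1.f29128 IH) (Lpr_ct (K0.f29068 IH) (Lpr_ft (K1.f29129 IH) (Lpn (LP (LK LD1_c1 LD2_c55 LD3_c11))))))
theorem f186994 : Led Lsl_bf (LP (LK LD1_c0 LD2_c58 LD3_c11)) = (LP (LK LD1_c1 LD2_c55 LD3_c11)) :=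
  Lgr Lrot156 (Lpr_gt (f171164 IH) (Lpe (f171161 IH) (Lpr_ct (K9.f171034 IH) (Lpr_gt (K9.f262 IH) (Lpe (K9.f249 IH) (Lpr_bt (K9.f269 IH) (Lpr_gt (K9.f270 IH) (Lpr_ct (f2107 IH) (Lpr_gt (f186920 IH) (Lpr_cf (f29130 IH) (Lpn (LP (LK LD1_c1 LD2_c55 LD3_c11)))))))))))))
theorem f29066 : Led Lsl_bt (LP (LK LD1_c0 LD2_c39 LD3_c7)) = (LP (LK LD1_c0 LD2_c54 LD3_c20)) :=
  Lgr Lrot127 (Lpr_bf (K0.f29064 IH) (Lpn (LP (LK LD1_c0 LD2_c54 LD3_c20))))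
theorem f187004 : Led Lsl_ft (LP (LK LD1_c0 LD2_c58 LD3_c11)) = (LP (LK LD1_c0 LD2_c39 LD3_c7)) :=
  Lgr Lrot75 (Lpr_bf (f186994 IH) (Lpe (K1.f29129 IH) (Lpe (f29066 IH) (Lpn (LP (LK LD1_c0 LD2_c39 LD3_c7))))))
theorem f42036 : Led Lsl_af (LP (LK LD1_c0 LD2_c39 LD3_c6)) = (LP (LK LD1_c0 LD2_c39 LD3_c7)) :=
  Lgr Lrot0 (Lpr_at (K1.f42034 IH) (Lpn (LP (LK LD1_c0 LD2_c39 LD3_c7))))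
theorem f187015 : Led Lsl_gt (LP (LK LD1_c0 LD2_c26 LD3_c25)) = (LP (LK LD1_c0 LD2_c39 LD3_c6)) :=
  Lgr Lrot46 (Lpe (f171164 IH) (Lpr_ft (f187004 IH) (Lpe (f42036 IH) (Lpn (LP (LK LD1_c0 LD2_c39 LD3_c6))))))
theorem f171187 : Led Lsl_gt (LP (LK LD1_c0 LD2_c12 LD3_c8)) = (LP (LK LD1_c0 LD2_c14 LD3_c13)) :=
  Lgr Lrot46 (Lpr_gf (K9.f171185 IH) (Lpr_ft (K0.f1529 IH) (Lpr_at (K0.f2186 IH) (Lpn (LP (LK LD1_c0 LD2_c14 LD3_c13))))))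
theorem f171198 : Led Lsl_bt (LP (LK LD1_c0 LD2_c27 LD3_c23)) = (LP (LK LD1_c0 LD2_c12 LD3_c8)) :=
  Lre_b IH (LK LD1_c0 LD2_c27 LD3_c23) (LK LD1_c0 LD2_c12 LD3_c8) Lrfl Lrfl
theorem f29048 : Led Lsl_cf (LP (LK LD1_c0 LD2_c39 LD3_c7)) = (LP (LK LD1_c1 LD2_c24 LD3_c51)) :=
  Lgr Lrot11 (Lpr_ct (K0.f29046 IH) (Lpn (LP (LK LD1_c1 LD2_c24 LD3_c51))))
theorem f167621 : Led Lsl_et (LP (LK LD1_c0 LD2_c59 LD3_c57)) = (LP (LK LD1_c0 LD2_c27 LD3_c14)) :=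
  Lre_e IH (LK LD1_c0 LD2_c59 LD3_c57) (LK LD1_c0 LD2_c27 LD3_c14) Lrfl Lrfl
theorem f166066 : Led Lsl_et (LP (LK LD1_c0 LD2_c34 LD3_c32)) = (LP (LK LD1_c1 LD2_c14 LD3_c30)) :=
  Lre_e IH (LK LD1_c0 LD2_c34 LD3_c32) (LK LD1_c1 LD2_c14 LD3_c30) Lrfl Lrfl
theorem f167622 : Led Lsl_df (LP (LK LD1_c0 LD2_c59 LD3_c57)) = (LP (LK LD1_c1 LD2_c14 LD3_c30)) :=
  Lgr Lrot70 (Lpr_et (f167621 IH) (Lpr_dt (K9.f1393 IH) (Lpr_et (K9.f167620 IH) (Lpr_dt (K9.f167613 IH) (Lpr_et (f166066 IH) (Lpn (LP (LK LD1_c1 LD2_c14 LD3_c30))))))))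
theorem f169344 : Led Lsl_ft (LP (LK LD1_c0 LD2_c59 LD3_c57)) = (LP (LK LD1_c2 LD2_c5 LD3_c57)) :=
  Lre_f IH (LK LD1_c0 LD2_c59 LD3_c57) (LK LD1_c2 LD2_c5 LD3_c57) Lrfl Lrfl
theorem f165968 : Led Lsl_ft (LP (LK LD1_c2 LD2_c35 LD3_c2)) = (LP (LK LD1_c1 LD2_c14 LD3_c30)) :=
  Lre_f IH (LK LD1_c2 LD2_c35 LD3_c2) (LK LD1_c1 LD2_c14 LD3_c30) Lrfl Lrfl
theorem f169345 : Led Lsl_dt (LP (LK LD1_c2 LD2_c5 LD3_c57)) = (LP (LK LD1_c2 LD2_c35 LD3_c2)) :=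
  Lgr Lrot60 (Lpe (f169344 IH) (Lpr_df (f167622 IH) (Lpe (f165968 IH) (Lpn (LP (LK LD1_c2 LD2_c35 LD3_c2))))))
theorem f169351 : Led Lsl_df (LP (LK LD1_c2 LD2_c5 LD3_c57)) = (LP (LK LD1_c2 LD2_c35 LD3_c2)) :=
  Lgr Lrot38 (Lpr_dt (f169345 IH) (Lpn (LP (LK LD1_c2 LD2_c35 LD3_c2))))
theorem f169354 : Led Lsl_bt (LP (LK LD1_c2 LD2_c5 LD3_c57)) = (LP (LK LD1_c4 LD2_c16 LD3_c58)) :=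
  Lre_b IH (LK LD1_c2 LD2_c5 LD3_c57) (LK LD1_c4 LD2_c16 LD3_c58) Lrfl Lrfl
theorem f165954 : Led Lsl_bt (LP (LK LD1_c5 LD2_c16 LD3_c31)) = (LP (LK LD1_c2 LD2_c35 LD3_c2)) :=
  Lre_b IH (LK LD1_c5 LD2_c16 LD3_c31) (LK LD1_c2 LD2_c35 LD3_c2) Lrfl Lrfl
theorem f169355 : Led Lsl_dt (LP (LK LD1_c4 LD2_c16 LD3_c58)) = (LP (LK LD1_c5 LD2_c16 LD3_c31)) :=
  Lgr Lrot79 (Lpe (f169354 IH) (Lpr_df (f169351 IH) (Lpe (f165954 IH) (Lpn (LP (LK LD1_c5 LD2_c16 LD3_c31))))))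
theorem f169358 : Led Lsl_ft (LP (LK LD1_c2 LD2_c5 LD3_c44)) = (LP (LK LD1_c4 LD2_c16 LD3_c58)) :=
  Lre_f IH (LK LD1_c2 LD2_c5 LD3_c44) (LK LD1_c4 LD2_c16 LD3_c58) Lrfl Lrfl
theorem f169359 : Led Lsl_ft (LP (LK LD1_c5 LD2_c16 LD3_c31)) = (LP (LK LD1_c2 LD2_c34 LD3_c61)) :=
  Lre_f IH (LK LD1_c5 LD2_c16 LD3_c31) (LK LD1_c2 LD2_c34 LD3_c61) Lrfl Lrfl
theorem f169360 : Led Lsl_df (LP (LK LD1_c2 LD2_c5 LD3_c44)) = (LP (LK LD1_c2 LD2_c34 LD3_c61)) :=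
  Lgr Lrot78 (Lpr_ft (f169358 IH) (Lpr_dt (f169355 IH) (Lpr_ft (f169359 IH) (Lpn (LP (LK LD1_c2 LD2_c34 LD3_c61))))))
theorem f169376 : Led Lsl_et (LP (LK LD1_c2 LD2_c5 LD3_c44)) = (LP (LK LD1_c0 LD2_c59 LD3_c52)) :=
  Lre_e IH (LK LD1_c2 LD2_c5 LD3_c44) (LK LD1_c0 LD2_c59 LD3_c52) Lrfl Lrfl
theorem f169377 : Led Lsl_dt (LP (LK LD1_c0 LD2_c59 LD3_c52)) = (LP (LK LD1_c0 LD2_c27 LD3_c13)) :=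
  Lre_d IH (LK LD1_c0 LD2_c59 LD3_c52) (LK LD1_c0 LD2_c27 LD3_c13) Lrfl Lrfl
theorem f169378 : Led Lsl_et (LP (LK LD1_c0 LD2_c27 LD3_c13)) = (LP (LK LD1_c0 LD2_c59 LD3_c53)) :=
  Lre_e IH (LK LD1_c0 LD2_c27 LD3_c13) (LK LD1_c0 LD2_c59 LD3_c53) Lrfl Lrfl
theorem f169379 : Led Lsl_et (LP (LK LD1_c1 LD2_c14 LD3_c29)) = (LP (LK LD1_c2 LD2_c34 LD3_c61)) :=
  Lre_e IH (LK LD1_c1 LD2_c14 LD3_c29) (LK LD1_c2 LD2_c34 LD3_c61) Lrfl Lrfl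
theorem f169380 : Led Lsl_dt (LP (LK LD1_c0 LD2_c59 LD3_c53)) = (LP (LK LD1_c1 LD2_c14 LD3_c29)) :=
  Lgr Lrot77 (Lpe (f169378 IH) (Lpe (f169377 IH) (Lpe (f169376 IH) (Lpr_df (f169360 IH) (Lpe (f169379 IH) (Lpn (LP (LK LD1_c1 LD2_c14 LD3_c29))))))))
theorem f169409 : Led Lsl_et (LP (LK LD1_c0 LD2_c59 LD3_c53)) = (LP (LK LD1_c0 LD2_c27 LD3_c13)) :=
  Lre_e IH (LK LD1_c0 LD2_c59 LD3_c53) (LK LD1_c0 LD2_c27 LD3_c13) Lrfl Lrfl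
theorem f44263 : Led Lsl_et (LP (LK LD1_c0 LD2_c15 LD3_c39)) = (LP (LK LD1_c0 LD2_c7 LD3_c4)) :=
  Lre_e IH (LK LD1_c0 LD2_c15 LD3_c39) (LK LD1_c0 LD2_c7 LD3_c4) Lrfl Lrfl
theorem f184237 : Led Lsl_gf (LP (LK LD1_c0 LD2_c27 LD3_c13)) = (LP (LK LD1_c0 LD2_c39 LD3_c7)) :=
  Lgr Lrot141 (Lpe (f169409 IH) (Lpr_dt (f169380 IH) (Lpr_gt (K9.f184104 IH) (Lpe (K1.f44047 IH) (Lpr_et (f44263 IH) (Lpe (K1.f44299 IH) (Lpr_dt (K1.f41531 IH) (Lpr_gt (K1.f41532 IH) (Lpr_df (K1.f42484 IH) (Lpr_et (K0.f29045 IH) (Lpn (LP (LK LD1_c0 LD2_c39 LD3_c7)))))))))))))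
theorem f187019 : Led Lsl_ct (LP (LK LD1_c0 LD2_c27 LD3_c23)) = (LP (LK LD1_c0 LD2_c27 LD3_c13)) :=
  Lgr Lrot10 (Lpr_bt (f171198 IH) (Lpr_gt (f171187 IH) (Lpr_ct (K0.f2141 IH) (Lpe (K9.f2138 IH) (Lpe (K9.f171034 IH) (Lpr_bt (f171161 IH) (Lpr_gt (f187015 IH) (Lpe (K0.f29010 IH) (Lpe (f29048 IH) (Lpe (f184237 IH) (Lpn (LP (LK LD1_c0 LD2_c27 LD3_c13)))))))))))))
theorem f2425 : Led Lsl_bt (LP (LK LD1_c0 LD2_c31 LD3_c52)) = (LP (LK LD1_c0 LD2_c14 LD3_c13)) :=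
  Lre_b IH (LK LD1_c0 LD2_c31 LD3_c52) (LK LD1_c0 LD2_c14 LD3_c13) Lrfl Lrfl
theorem f29601 : Led Lsl_at (LP (LK LD1_c0 LD2_c11 LD3_c6)) = (LP (LK LD1_c0 LD2_c11 LD3_c9)) :=
  Lgr Lrot66 (Lpe (K0.f2994 IH) (Lpr_af (K9.f29598 IH) (Lpe (K9.f29209 IH) (Lpn (LP (LK LD1_c0 LD2_c11 LD3_c9))))))
theorem f29603 : Led Lsl_gt (LP (LK LD1_c0 LD2_c24 LD3_c60)) = (LP (LK LD1_c0 LD2_c25 LD3_c2)) :=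
  Lgr Lrot5 (Lpr_ft (K0.f2994 IH) (Lpr_at (f29601 IH) (Lpe (K9.f28937 IH) (Lpn (LP (LK LD1_c0 LD2_c25 LD3_c2))))))
theorem f28943 : Led Lsl_bt (LP (LK LD1_c0 LD2_c28 LD3_c0)) = (LP (LK LD1_c1 LD2_c1 LD3_c19)) :=
  Lre_b IH (LK LD1_c0 LD2_c28 LD3_c0) (LK LD1_c1 LD2_c1 LD3_c19) Lrfl Lrfl
theorem f187071 : Led Lsl_gt (LP (LK LD1_c1 LD2_c1 LD3_c19)) = (LP (LK LD1_c1 LD2_c24 LD3_c51)) :=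
  Lgr Lrot82 (Lpe (f28943 IH) (Lpr_ct (K9.f28928 IH) (Lpe (f29603 IH) (Lpe (K0.f6935 IH) (Lpr_bt (f2425 IH) (Lpe (f171187 IH) (Lpe (f171198 IH) (Lpr_ct (f187019 IH) (Lpr_gf (f184237 IH) (Lpr_cf (f29048 IH) (Lpn (LP (LK LD1_c1 LD2_c24 LD3_c51)))))))))))))
theorem f28930 : Led Lsl_bt (LP (LK LD1_c1 LD2_c1 LD3_c19)) = (LP (LK LD1_c0 LD2_c28 LD3_c0)) :=
  Lre_b IH (LK LD1_c1 LD2_c1 LD3_c19) (LK LD1_c0 LD2_c28 LD3_c0) Lrfl Lrfl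
theorem f180211 : Led Lsl_ct (LP (LK LD1_c0 LD2_c12 LD3_c25)) = (LP (LK LD1_c0 LD2_c28 LD3_c6)) :=
  Lre_c IH (LK LD1_c0 LD2_c12 LD3_c25) (LK LD1_c0 LD2_c28 LD3_c6) Lrfl Lrfl
theorem f180215 : Led Lsl_bt (LP (LK LD1_c0 LD2_c28 LD3_c6)) = (LP (LK LD1_c1 LD2_c1 LD3_c34)) :=
  Lre_b IH (LK LD1_c0 LD2_c28 LD3_c6) (LK LD1_c1 LD2_c1 LD3_c34) Lrfl Lrfl
theorem f181973 : Led Lsl_cf (LP (LK LD1_c1 LD2_c1 LD3_c19)) = (LP (LK LD1_c1 LD2_c1 LD3_c34)) :=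
  Lgr Lrot97 (Lpr_bt (f28930 IH) (Lpr_ct (K9.f28928 IH) (Lpr_bt (K9.f181969 IH) (Lpr_ct (f180211 IH) (Lpr_bt (f180215 IH) (Lpn (LP (LK LD1_c1 LD2_c1 LD3_c34))))))))
theorem f187079 : Led Lsl_bt (LP (LK LD1_c1 LD2_c1 LD3_c34)) = (LP (LK LD1_c0 LD2_c28 LD3_c6)) :=
  Lre_b IH (LK LD1_c1 LD2_c1 LD3_c34) (LK LD1_c0 LD2_c28 LD3_c6) Lrfl Lrfl
theorem f2086 : Led Lsl_ct (LP (LK LD1_c1 LD2_c8 LD3_c48)) = (LP (LK LD1_c0 LD2_c31 LD3_c27)) :=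
  Lre_c IH (LK LD1_c1 LD2_c8 LD3_c48) (LK LD1_c0 LD2_c31 LD3_c27) Lrfl Lrfl
theorem f187080 : Led Lsl_gf (LP (LK LD1_c0 LD2_c28 LD3_c6)) = (LP (LK LD1_c0 LD2_c55 LD3_c15)) :=
  Lgr Lrot124 (Lpe (f187079 IH) (Lpe (f181973 IH) (Lpr_gt (f187071 IH) (Lpe (K0.f29046 IH) (Lpr_bt (f29066 IH) (Lpe (f186918 IH) (Lpr_ct (f2086 IH) (Lpr_gt (K9.f1600 IH) (Lpe (K9.f1713 IH) (Lpe (K1.f29174 IH) (Lpn (LP (LK LD1_c0 LD2_c55 LD3_c15)))))))))))))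
theorem f180209 : Led Lsl_ct (LP (LK LD1_c0 LD2_c28 LD3_c6)) = (LP (LK LD1_c0 LD2_c12 LD3_c25)) :=
  Lre_c IH (LK LD1_c0 LD2_c28 LD3_c6) (LK LD1_c0 LD2_c12 LD3_c25) Lrfl Lrfl
theorem f41976 : Led Lsl_bt (LP (LK LD1_c0 LD2_c12 LD3_c23)) = (LP (LK LD1_c0 LD2_c27 LD3_c59)) :=
  Lre_b IH (LK LD1_c0 LD2_c12 LD3_c23) (LK LD1_c0 LD2_c27 LD3_c59) Lrfl Lrfl
theorem f45741 : Led Lsl_gt (LP (LK LD1_c0 LD2_c27 LD3_c59)) = (LP (LK LD1_c1 LD2_c1 LD3_c11)) :=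
  Lre_g IH (LK LD1_c0 LD2_c27 LD3_c59) (LK LD1_c1 LD2_c1 LD3_c11) Lrfl Lrfl
theorem f187097 : Led Lsl_bf (LP (LK LD1_c1 LD2_c1 LD3_c11)) = (LP (LK LD1_c1 LD2_c8 LD3_c48)) :=
  Lgr Lrot34 (Lpe (f45741 IH) (Lpe (f41976 IH) (Lpr_ct (K1.f28948 IH) (Lpe (K9.f27826 IH) (Lpe (f180209 IH) (Lpr_gf (f187080 IH) (Lpr_bf (K1.f29174 IH) (Lpr_ct (K9.f1713 IH) (Lpe (K9.f1600 IH) (Lpe (f2086 IH) (Lpn (LP (LK LD1_c1 LD2_c8 LD3_c48)))))))))))))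
theorem f187103 : Led Lsl_ct (LP (LK LD1_c1 LD2_c1 LD3_c11)) = (LP (LK LD1_c2 LD2_c8 LD3_c4)) :=
  Lre_c IH (LK LD1_c1 LD2_c1 LD3_c11) (LK LD1_c2 LD2_c8 LD3_c4) Lrfl Lrfl
theorem f171166 : Led Lsl_ct (LP (LK LD1_c2 LD2_c4 LD3_c16)) = (LP (LK LD1_c1 LD2_c8 LD3_c47)) :=
  Lgr Lrot59 (Lpr_cf (K9.f171162 IH) (Lpn (LP (LK LD1_c1 LD2_c8 LD3_c47))))
theorem f187104 : Led Lsl_bt (LP (LK LD1_c2 LD2_c8 LD3_c4)) = (LP (LK LD1_c2 LD2_c4 LD3_c16)) :=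
  Lgr Lrot128 (Lpe (f187103 IH) (Lpr_bf (f187097 IH) (Lpe (f2107 IH) (Lpe (K9.f2089 IH) (Lpe (f171166 IH) (Lpn (LP (LK LD1_c2 LD2_c4 LD3_c16))))))))
theorem f187186 : Led Lsl_ct (LP (LK LD1_c2 LD2_c8 LD3_c4)) = (LP (LK LD1_c1 LD2_c1 LD3_c11)) :=
  Lre_c IH (LK LD1_c2 LD2_c8 LD3_c4) (LK LD1_c1 LD2_c1 LD3_c11) Lrfl Lrfl
theorem f173186 : Led Lsl_ct (LP (LK LD1_c0 LD2_c12 LD3_c37)) = (LP (LK LD1_c0 LD2_c27 LD3_c59)) :=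
  Lre_c IH (LK LD1_c0 LD2_c12 LD3_c37) (LK LD1_c0 LD2_c27 LD3_c59) Lrfl Lrfl
theorem f173185 : Led Lsl_bt (LP (LK LD1_c0 LD2_c12 LD3_c37)) = (LP (LK LD1_c0 LD2_c5 LD3_c47)) :=
  Lre_b IH (LK LD1_c0 LD2_c12 LD3_c37) (LK LD1_c0 LD2_c5 LD3_c47) Lrfl Lrfl
theorem f167782 : Led Lsl_bt (LP (LK LD1_c0 LD2_c28 LD3_c38)) = (LP (LK LD1_c0 LD2_c12 LD3_c39)) :=
  Lre_b IH (LK LD1_c0 LD2_c28 LD3_c38) (LK LD1_c0 LD2_c12 LD3_c39) Lrfl Lrfl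
theorem f27357 : Led Lsl_ct (LP (LK LD1_c0 LD2_c59 LD3_c15)) = (LP (LK LD1_c0 LD2_c27 LD3_c12)) :=
  Lre_c IH (LK LD1_c0 LD2_c59 LD3_c15) (LK LD1_c0 LD2_c27 LD3_c12) Lrfl Lrfl
theorem f27370 : Led Lsl_gt (LP (LK LD1_c0 LD2_c27 LD3_c12)) = (LP (LK LD1_c0 LD2_c59 LD3_c37)) :=
  Lre_g IH (LK LD1_c0 LD2_c27 LD3_c12) (LK LD1_c0 LD2_c59 LD3_c37) Lrfl Lrfl
theorem f187226 : Led Lsl_ct (LP (LK LD1_c0 LD2_c28 LD3_c38)) = (LP (LK LD1_c0 LD2_c59 LD3_c37)) :=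
  Lgr Lrot63 (Lpr_bt (f167782 IH) (Lpr_gt (K9.f8574 IH) (Lpe (f173185 IH) (Lpr_ct (f173186 IH) (Lpr_gt (f45741 IH) (Lpe (f187186 IH) (Lpr_bt (f187104 IH) (Lpr_gt (K9.f53464 IH) (Lpr_ct (f27357 IH) (Lpr_gt (f27370 IH) (Lpn (LP (LK LD1_c0 LD2_c59 LD3_c37)))))))))))))
theorem f785 : Led Lsl_gt (LP (LK LD1_c0 LD2_c59 LD3_c37)) = (LP (LK LD1_c0 LD2_c27 LD3_c8)) :=
  Lre_g IH (LK LD1_c0 LD2_c59 LD3_c37) (LK LD1_c0 LD2_c27 LD3_c8) Lrfl Lrfl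
theorem f48250 : Led Lsl_ct (LP (LK LD1_c0 LD2_c59 LD3_c10)) = (LP (LK LD1_c0 LD2_c27 LD3_c8)) :=
  Lre_c IH (LK LD1_c0 LD2_c59 LD3_c10) (LK LD1_c0 LD2_c27 LD3_c8) Lrfl Lrfl
theorem f187242 : Led Lsl_gf (LP (LK LD1_c1 LD2_c55 LD3_c54)) = (LP (LK LD1_c2 LD2_c4 LD3_c0)) :=
  Lgr Lrot181 (Lpr_ct (K9.f167792 IH) (Lpr_gt (K9.f40805 IH) (Lpe (K9.f167791 IH) (Lpr_bt (K9.f167790 IH) (Lpr_gt (K9.f40823 IH) (Lpe (f167782 IH) (Lpr_ct (f187226 IH) (Lpr_gt (f785 IH) (Lpe (f48250 IH) (Lpr_bt (K9.f51411 IH) (Lpn (LP (LK LD1_c2 LD2_c4 LD3_c0)))))))))))))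
theorem f167800 : Led Lsl_et (LP (LK LD1_c3 LD2_c58 LD3_c13)) = (LP (LK LD1_c1 LD2_c55 LD3_c54)) :=
  Lre_e IH (LK LD1_c3 LD2_c58 LD3_c13) (LK LD1_c1 LD2_c55 LD3_c54) Lrfl Lrfl
theorem f31469 : Led Lsl_dt (LP (LK LD1_c3 LD2_c58 LD3_c3)) = (LP (LK LD1_c1 LD2_c55 LD3_c47)) :=
  Lre_d IH (LK LD1_c3 LD2_c58 LD3_c3) (LK LD1_c1 LD2_c55 LD3_c47) Lrfl Lrfl
theorem f43255 : Led Lsl_at (LP (LK LD1_c2 LD2_c23 LD3_c4)) = (LP (LK LD1_c3 LD2_c58 LD3_c3)) :=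
  Lgr Lrot51 (Lpe (K0.f27701 IH) (Lpr_af (K9.f43246 IH) (Lpe (f31469 IH) (Lpn (LP (LK LD1_c3 LD2_c58 LD3_c3))))))
theorem f27717 : Led Lsl_at (LP (LK LD1_c4 LD2_c13 LD3_c24)) = (LP (LK LD1_c2 LD2_c4 LD3_c1)) :=
  Lre_a IH (LK LD1_c4 LD2_c13 LD3_c24) (LK LD1_c2 LD2_c4 LD3_c1) Lrfl Lrfl
theorem f43264 : Led Lsl_ef (LP (LK LD1_c4 LD2_c13 LD3_c24)) = (LP (LK LD1_c3 LD2_c58 LD3_c3)) :=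
  Lgr Lrot20 (Lpr_at (f27717 IH) (Lpe (K0.f27706 IH) (Lpr_at (f43255 IH) (Lpn (LP (LK LD1_c3 LD2_c58 LD3_c3))))))
theorem f43267 : Led Lsl_dt (LP (LK LD1_c4 LD2_c13 LD3_c24)) = (LP (LK LD1_c2 LD2_c4 LD3_c0)) :=
  Lre_d IH (LK LD1_c4 LD2_c13 LD3_c24) (LK LD1_c2 LD2_c4 LD3_c0) Lrfl Lrfl
theorem f27766 : Led Lsl_et (LP (LK LD1_c2 LD2_c4 LD3_c0)) = (LP (LK LD1_c0 LD2_c58 LD3_c61)) :=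
  Lre_e IH (LK LD1_c2 LD2_c4 LD3_c0) (LK LD1_c0 LD2_c58 LD3_c61) Lrfl Lrfl
theorem f43252 : Led Lsl_dt (LP (LK LD1_c1 LD2_c55 LD3_c47)) = (LP (LK LD1_c3 LD2_c58 LD3_c3)) :=
  Lre_d IH (LK LD1_c1 LD2_c55 LD3_c47) (LK LD1_c3 LD2_c58 LD3_c3) Lrfl Lrfl
theorem f43268 : Led Lsl_dt (LP (LK LD1_c0 LD2_c58 LD3_c61)) = (LP (LK LD1_c0 LD2_c54 LD3_c37)) :=
  Lgr Lrot77 (Lpe (f27766 IH) (Lpe (f43267 IH) (Lpr_ef (f43264 IH) (Lpe (f43252 IH) (Lpe (K9.f43242 IH) (Lpn (LP (LK LD1_c0 LD2_c54 LD3_c37))))))))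
theorem f28716 : Led Lsl_dt (LP (LK LD1_c1 LD2_c0 LD3_c54)) = (LP (LK LD1_c2 LD2_c7 LD3_c37)) :=
  Lre_d IH (LK LD1_c1 LD2_c0 LD3_c54) (LK LD1_c2 LD2_c7 LD3_c37) Lrfl Lrfl
theorem f28673 : Led Lsl_gt (LP (LK LD1_c4 LD2_c20 LD3_c20)) = (LP (LK LD1_c2 LD2_c7 LD3_c37)) :=
  Lre_g IH (LK LD1_c4 LD2_c20 LD3_c20) (LK LD1_c2 LD2_c7 LD3_c37) Lrfl Lrfl
theorem f187248 : Led Lsl_dt (LP (LK LD1_c3 LD2_c58 LD3_c13)) = (LP (LK LD1_c4 LD2_c20 LD3_c20)) :=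
  Lgr Lrot136 (Lpr_et (f167800 IH) (Lpr_gf (f187242 IH) (Lpe (K9.f27767 IH) (Lpr_dt (f43268 IH) (Lpe (K1.f43248 IH) (Lpe (K8.f44556 IH) (Lpr_gf (K1.f45775 IH) (Lpe (K0.f28719 IH) (Lpr_dt (f28716 IH) (Lpe (f28673 IH) (Lpn (LP (LK LD1_c4 LD2_c20 LD3_c20)))))))))))))
theorem f169267 : Led Lsl_bt (LP (LK LD1_c1 LD2_c55 LD3_c57)) = (LP (LK LD1_c3 LD2_c58 LD3_c13)) :=
  Lre_b IH (LK LD1_c1 LD2_c55 LD3_c57) (LK LD1_c3 LD2_c58 LD3_c13) Lrfl Lrfl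
theorem f47966 : Led Lsl_dt (LP (LK LD1_c3 LD2_c58 LD3_c19)) = (LP (LK LD1_c1 LD2_c55 LD3_c57)) :=
  Lre_d IH (LK LD1_c3 LD2_c58 LD3_c19) (LK LD1_c1 LD2_c55 LD3_c57) Lrfl Lrfl
theorem f187250 : Led Lsl_bf (LP (LK LD1_c3 LD2_c58 LD3_c19)) = (LP (LK LD1_c4 LD2_c20 LD3_c20)) :=
  Lgr Lrot93 (Lpr_dt (f47966 IH) (Lpr_bt (f169267 IH) (Lpr_dt (f187248 IH) (Lpn (LP (LK LD1_c4 LD2_c20 LD3_c20))))))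
theorem f41867 : Led Lsl_dt (LP (LK LD1_c0 LD2_c25 LD3_c44)) = (LP (LK LD1_c0 LD2_c25 LD3_c59)) :=
  Lgr Lrot6 (Lpr_gt (K1.f41866 IH) (Lpr_ct (K1.f41854 IH) (Lpr_gt (K1.f20622 IH) (Lpr_ct (K1.f29004 IH) (Lpe (K1.f29029 IH) (Lpr_cf (K0.f29001 IH) (Lpe (K0.f418 IH) (Lpe (K0.f28188 IH) (Lpe (K1.f28810 IH) (Lpn (LP (LK LD1_c0 LD2_c25 LD3_c59))))))))))))
theorem f42727 : Led Lsl_et (LP (LK LD1_c0 LD2_c10 LD3_c60)) = (LP (LK LD1_c0 LD2_c24 LD3_c43)) :=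
  Lre_e IH (LK LD1_c0 LD2_c10 LD3_c60) (LK LD1_c0 LD2_c24 LD3_c43) Lrfl Lrfl
theorem f41370 : Led Lsl_et (LP (LK LD1_c1 LD2_c55 LD3_c57)) = (LP (LK LD1_c0 LD2_c54 LD3_c41)) :=
  Lre_e IH (LK LD1_c1 LD2_c55 LD3_c57) (LK LD1_c0 LD2_c54 LD3_c41) Lrfl Lrfl
theorem f41371 : Led Lsl_dt (LP (LK LD1_c1 LD2_c55 LD3_c57)) = (LP (LK LD1_c3 LD2_c58 LD3_c19)) :=
  Lre_d IH (LK LD1_c1 LD2_c55 LD3_c57) (LK LD1_c3 LD2_c58 LD3_c19) Lrfl Lrfl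
theorem f47194 : Led Lsl_dt (LP (LK LD1_c0 LD2_c56 LD3_c47)) = (LP (LK LD1_c1 LD2_c59 LD3_c42)) :=
  Lre_d IH (LK LD1_c0 LD2_c56 LD3_c47) (LK LD1_c1 LD2_c59 LD3_c42) Lrfl Lrfl
theorem f47954 : Led Lsl_gt (LP (LK LD1_c3 LD2_c58 LD3_c19)) = (LP (LK LD1_c1 LD2_c59 LD3_c42)) :=
  Lgr Lrot112 (Lpe (f41371 IH) (Lpr_et (f41370 IH) (Lpe (K9.f42729 IH) (Lpe (f42727 IH) (Lpe (K1.f8114 IH) (Lpe (K1.f28810 IH) (Lpe (f41867 IH) (Lpr_gf (K8.f47946 IH) (Lpe (K1.f47450 IH) (Lpr_dt (f47194 IH) (Lpn (LP (LK LD1_c1 LD2_c59 LD3_c42)))))))))))))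
theorem f54521 : Led Lsl_et (LP (LK LD1_c1 LD2_c55 LD3_c52)) = (LP (LK LD1_c2 LD2_c0 LD3_c27)) :=
  Lgr Lrot87 (Lpr_ef (K1.f47939 IH) (Lpn (LP (LK LD1_c2 LD2_c0 LD3_c27))))
theorem f55088 : Led Lsl_bf (LP (LK LD1_c1 LD2_c59 LD3_c42)) = (LP (LK LD1_c2 LD2_c0 LD3_c27)) :=
  Lgr Lrot96 (Lpr_et (K1.f55071 IH) (Lpe (K9.f41068 IH) (Lpr_et (f54521 IH) (Lpn (LP (LK LD1_c2 LD2_c0 LD3_c27))))))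
theorem f54576 : Led Lsl_ct (LP (LK LD1_c2 LD2_c0 LD3_c27)) = (LP (LK LD1_c4 LD2_c6 LD3_c15)) :=
  Lre_c IH (LK LD1_c2 LD2_c0 LD3_c27) (LK LD1_c4 LD2_c6 LD3_c15) Lrfl Lrfl
theorem f55426 : Led Lsl_bt (LP (LK LD1_c2 LD2_c0 LD3_c40)) = (LP (LK LD1_c0 LD2_c57 LD3_c25)) :=
  Lre_b IH (LK LD1_c2 LD2_c0 LD3_c40) (LK LD1_c0 LD2_c57 LD3_c25) Lrfl Lrfl
theorem f169134 : Led Lsl_ct (LP (LK LD1_c2 LD2_c0 LD3_c40)) = (LP (LK LD1_c4 LD2_c6 LD3_c42)) :=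
  Lre_c IH (LK LD1_c2 LD2_c0 LD3_c40) (LK LD1_c4 LD2_c6 LD3_c42) Lrfl Lrfl
theorem f8554 : Led Lsl_bt (LP (LK LD1_c0 LD2_c17 LD3_c36)) = (LP (LK LD1_c0 LD2_c39 LD3_c11)) :=
  Lre_b IH (LK LD1_c0 LD2_c17 LD3_c36) (LK LD1_c0 LD2_c39 LD3_c11) Lrfl Lrfl
theorem f177473 : Led Lsl_gt (LP (LK LD1_c0 LD2_c39 LD3_c11)) = (LP (LK LD1_c1 LD2_c25 LD3_c4)) :=
  Lre_g IH (LK LD1_c0 LD2_c39 LD3_c11) (LK LD1_c1 LD2_c25 LD3_c4) Lrfl Lrfl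
theorem f177474 : Led Lsl_bt (LP (LK LD1_c2 LD2_c58 LD3_c39)) = (LP (LK LD1_c1 LD2_c25 LD3_c4)) :=
  Lre_b IH (LK LD1_c2 LD2_c58 LD3_c39) (LK LD1_c1 LD2_c25 LD3_c4) Lrfl Lrfl
theorem f177475 : Led Lsl_ct (LP (LK LD1_c2 LD2_c58 LD3_c39)) = (LP (LK LD1_c6 LD2_c4 LD3_c56)) :=
  Lre_c IH (LK LD1_c2 LD2_c58 LD3_c39) (LK LD1_c6 LD2_c4 LD3_c56) Lrfl Lrfl
theorem f177476 : Led Lsl_gf (LP (LK LD1_c4 LD2_c6 LD3_c42)) = (LP (LK LD1_c6 LD2_c4 LD3_c56)) :=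
  Lgr Lrot126 (Lpe (f169134 IH) (Lpr_bt (f55426 IH) (Lpr_gt (K9.f169082 IH) (Lpr_ct (K9.f177456 IH) (Lpr_gt (K9.f177455 IH) (Lpe (f8558 IH) (Lpr_bt (f8554 IH) (Lpr_gt (f177473 IH) (Lpe (f177474 IH) (Lpr_ct (f177475 IH) (Lpn (LP (LK LD1_c6 LD2_c4 LD3_c56)))))))))))))
theorem f177480 : Led Lsl_at (LP (LK LD1_c8 LD2_c13 LD3_c8)) = (LP (LK LD1_c4 LD2_c6 LD3_c42)) :=
  Lre_a IH (LK LD1_c8 LD2_c13 LD3_c8) (LK LD1_c4 LD2_c6 LD3_c42) Lrfl Lrfl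
theorem f54991 : Led Lsl_ft (LP (LK LD1_c4 LD2_c6 LD3_c15)) = (LP (LK LD1_c8 LD2_c13 LD3_c8)) :=
  Lre_f IH (LK LD1_c4 LD2_c6 LD3_c15) (LK LD1_c8 LD2_c13 LD3_c8) Lrfl Lrfl
theorem f177481 : Led Lsl_gt (LP (LK LD1_c4 LD2_c6 LD3_c15)) = (LP (LK LD1_c6 LD2_c4 LD3_c56)) :=
  Lgr Lrot5 (Lpr_ft (f54991 IH) (Lpr_at (f177480 IH) (Lpr_gf (f177476 IH) (Lpn (LP (LK LD1_c6 LD2_c4 LD3_c56))))))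
theorem f41810 : Led Lsl_gt (LP (LK LD1_c1 LD2_c25 LD3_c4)) = (LP (LK LD1_c2 LD2_c58 LD3_c27)) :=
  Lre_g IH (LK LD1_c1 LD2_c25 LD3_c4) (LK LD1_c2 LD2_c58 LD3_c27) Lrfl Lrfl
theorem f42479 : Led Lsl_ct (LP (LK LD1_c2 LD2_c58 LD3_c27)) = (LP (LK LD1_c6 LD2_c4 LD3_c32)) :=
  Lre_c IH (LK LD1_c2 LD2_c58 LD3_c27) (LK LD1_c6 LD2_c4 LD3_c32) Lrfl Lrfl
theorem f42476 : Led Lsl_gt (LP (LK LD1_c6 LD2_c4 LD3_c32)) = (LP (LK LD1_c2 LD2_c58 LD3_c46)) :=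
  Lre_g IH (LK LD1_c6 LD2_c4 LD3_c32) (LK LD1_c2 LD2_c58 LD3_c46) Lrfl Lrfl
theorem f187474 : Led Lsl_cf (LP (LK LD1_c2 LD2_c58 LD3_c46)) = (LP (LK LD1_c4 LD2_c20 LD3_c20)) :=
  Lgr Lrot163 (Lpe (f42476 IH) (Lpe (f42479 IH) (Lpe (f41810 IH) (Lpe (f177474 IH) (Lpr_ct (f177475 IH) (Lpe (f177481 IH) (Lpe (f54576 IH) (Lpe (f55088 IH) (Lpe (f47954 IH) (Lpr_bf (f187250 IH) (Lpn (LP (LK LD1_c4 LD2_c20 LD3_c20)))))))))))))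
theorem f181242 : Led Lsl_gt (LP (LK LD1_c2 LD2_c58 LD3_c46)) = (LP (LK LD1_c1 LD2_c25 LD3_c6)) :=
  Lre_g IH (LK LD1_c2 LD2_c58 LD3_c46) (LK LD1_c1 LD2_c25 LD3_c6) Lrfl Lrfl
theorem f187488 : Led Lsl_ct (LP (LK LD1_c1 LD2_c25 LD3_c6)) = (LP (LK LD1_c0 LD2_c39 LD3_c11)) :=
  Lre_c IH (LK LD1_c1 LD2_c25 LD3_c6) (LK LD1_c0 LD2_c39 LD3_c11) Lrfl Lrfl
theorem f42118 : Led Lsl_dt (LP (LK LD1_c0 LD2_c39 LD3_c11)) = (LP (LK LD1_c0 LD2_c17 LD3_c33)) :=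
  Lre_d IH (LK LD1_c0 LD2_c39 LD3_c11) (LK LD1_c0 LD2_c17 LD3_c33) Lrfl Lrfl
theorem f54974 : Led Lsl_gt (LP (LK LD1_c0 LD2_c57 LD3_c15)) = (LP (LK LD1_c0 LD2_c25 LD3_c61)) :=
  Lre_g IH (LK LD1_c0 LD2_c57 LD3_c15) (LK LD1_c0 LD2_c25 LD3_c61) Lrfl Lrfl
theorem f187489 : Led Lsl_ct (LP (LK LD1_c2 LD2_c0 LD3_c34)) = (LP (LK LD1_c0 LD2_c57 LD3_c15)) :=
  Lre_c IH (LK LD1_c2 LD2_c0 LD3_c34) (LK LD1_c0 LD2_c57 LD3_c15) Lrfl Lrfl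
theorem f45616 : Led Lsl_ft (LP (LK LD1_c2 LD2_c4 LD3_c57)) = (LP (LK LD1_c0 LD2_c59 LD3_c32)) :=
  Lre_f IH (LK LD1_c2 LD2_c4 LD3_c57) (LK LD1_c0 LD2_c59 LD3_c32) Lrfl Lrfl
theorem f45242 : Led Lsl_ct (LP (LK LD1_c0 LD2_c59 LD3_c32)) = (LP (LK LD1_c2 LD2_c4 LD3_c55)) :=
  Lre_c IH (LK LD1_c0 LD2_c59 LD3_c32) (LK LD1_c2 LD2_c4 LD3_c55) Lrfl Lrfl
theorem f183624 : Led Lsl_ff (LP (LK LD1_c4 LD2_c6 LD3_c19)) = (LP (LK LD1_c2 LD2_c4 LD3_c55)) :=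
  Lgr Lrot23 (Lpr_ct (K9.f183613 IH) (Lpr_ft (f45616 IH) (Lpr_ct (f45242 IH) (Lpn (LP (LK LD1_c2 LD2_c4 LD3_c55))))))
theorem f183633 : Led Lsl_dt (LP (LK LD1_c4 LD2_c6 LD3_c19)) = (LP (LK LD1_c8 LD2_c13 LD3_c13)) :=
  Lre_d IH (LK LD1_c4 LD2_c6 LD3_c19) (LK LD1_c8 LD2_c13 LD3_c13) Lrfl Lrfl
theorem f183634 : Led Lsl_ft (LP (LK LD1_c8 LD2_c13 LD3_c13)) = (LP (LK LD1_c4 LD2_c15 LD3_c3)) :=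
  Lgr Lrot54 (Lpe (f183633 IH) (Lpr_ff (f183624 IH) (Lpe (K9.f47790 IH) (Lpn (LP (LK LD1_c4 LD2_c15 LD3_c3))))))
theorem f28660 : Led Lsl_dt (LP (LK LD1_c2 LD2_c7 LD3_c37)) = (LP (LK LD1_c1 LD2_c0 LD3_c54)) :=
  Lre_d IH (LK LD1_c2 LD2_c7 LD3_c37) (LK LD1_c1 LD2_c0 LD3_c54) Lrfl Lrfl
theorem f54074 : Led Lsl_af (LP (LK LD1_c2 LD2_c7 LD3_c37)) = (LP (LK LD1_c4 LD2_c15 LD3_c3)) :=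
  Lgr Lrot117 (Lpr_dt (f28660 IH) (Lpr_at (K9.f54069 IH) (Lpr_dt (K9.f8089 IH) (Lpn (LP (LK LD1_c4 LD2_c15 LD3_c3))))))
theorem f183662 : Led Lsl_gt (LP (LK LD1_c8 LD2_c13 LD3_c13)) = (LP (LK LD1_c4 LD2_c20 LD3_c20)) :=
  Lgr Lrot5 (Lpr_ft (f183634 IH) (Lpe (f54074 IH) (Lpe (f28673 IH) (Lpn (LP (LK LD1_c4 LD2_c20 LD3_c20))))))
theorem f187490 : Led Lsl_gf (LP (LK LD1_c2 LD2_c0 LD3_c34)) = (LP (LK LD1_c4 LD2_c6 LD3_c19)) :=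
  Lgr Lrot147 (Lpr_ct (f187489 IH) (Lpr_gt (f54974 IH) (Lpr_ct (K9.f44471 IH) (Lpe (f42118 IH) (Lpe (f187488 IH) (Lpe (f181242 IH) (Lpr_cf (f187474 IH) (Lpe (f183662 IH) (Lpe (f183633 IH) (Lpn (LP (LK LD1_c4 LD2_c6 LD3_c19))))))))))))
theorem f32164 : Led Lsl_ct (LP (LK LD1_c1 LD2_c14 LD3_c41)) = (LP (LK LD1_c2 LD2_c35 LD3_c14)) :=
  Lre_c IH (LK LD1_c1 LD2_c14 LD3_c41) (LK LD1_c2 LD2_c35 LD3_c14) Lrfl Lrfl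
theorem f183617 : Led Lsl_bf (LP (LK LD1_c4 LD2_c6 LD3_c19)) = (LP (LK LD1_c2 LD2_c35 LD3_c14)) :=
  Lgr Lrot90 (Lpr_ct (K9.f183613 IH) (Lpr_bt (K9.f45153 IH) (Lpe (K1.f45220 IH) (Lpe (K1.f32331 IH) (Lpr_ct (f32164 IH) (Lpn (LP (LK LD1_c2 LD2_c35 LD3_c14))))))))
theorem f32165 : Led Lsl_ct (LP (LK LD1_c2 LD2_c35 LD3_c14)) = (LP (LK LD1_c1 LD2_c14 LD3_c41)) :=
  Lre_c IH (LK LD1_c2 LD2_c35 LD3_c14) (LK LD1_c1 LD2_c14 LD3_c41) Lrfl Lrfl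
theorem f181172 : Led Lsl_bt (LP (LK LD1_c0 LD2_c39 LD3_c13)) = (LP (LK LD1_c0 LD2_c17 LD3_c34)) :=
  Lre_b IH (LK LD1_c0 LD2_c39 LD3_c13) (LK LD1_c0 LD2_c17 LD3_c34) Lrfl Lrfl
theorem f32075 : Led Lsl_bt (LP (LK LD1_c0 LD2_c34 LD3_c41)) = (LP (LK LD1_c0 LD2_c27 LD3_c42)) :=
  Lgr Lrot127 (Lpr_bf (K0.f32063 IH) (Lpn (LP (LK LD1_c0 LD2_c27 LD3_c42))))
theorem f182040 : Led Lsl_ct (LP (LK LD1_c0 LD2_c39 LD3_c13)) = (LP (LK LD1_c0 LD2_c34 LD3_c42)) :=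
  Lgr Lrot10 (Lpr_bt (f181172 IH) (Lpr_gt (K9.f181193 IH) (Lpe (K9.f9068 IH) (Lpr_gt (K0.f9080 IH) (Lpe (K9.f9088 IH) (Lpr_bt (K9.f9089 IH) (Lpr_gt (K9.f182034 IH) (Lpe (f32075 IH) (Lpr_ct (K0.f32062 IH) (Lpr_gt (f32251 IH) (Lpn (LP (LK LD1_c0 LD2_c34 LD3_c42)))))))))))))
theorem f55912 : Led Lsl_bt (LP (LK LD1_c0 LD2_c17 LD3_c33)) = (LP (LK LD1_c0 LD2_c7 LD3_c56)) :=
  Lre_b IH (LK LD1_c0 LD2_c17 LD3_c33) (LK LD1_c0 LD2_c7 LD3_c56) Lrfl Lrfl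
theorem f187773 : Led Lsl_cf (LP (LK LD1_c0 LD2_c25 LD3_c61)) = (LP (LK LD1_c0 LD2_c17 LD3_c33)) :=
  Lgr Lrot163 (Lpe (f54974 IH) (Lpe (f187489 IH) (Lpr_gf (f187490 IH) (Lpr_bf (f183617 IH) (Lpr_ct (f32165 IH) (Lpe (f32177 IH) (Lpe (f182040 IH) (Lpr_bt (f181172 IH) (Lpe (K9.f55923 IH) (Lpe (f55912 IH) (Lpn (LP (LK LD1_c0 LD2_c17 LD3_c33)))))))))))))
theorem f47453 : Led Lsl_dt (LP (LK LD1_c0 LD2_c25 LD3_c61)) = (LP (LK LD1_c0 LD2_c57 LD3_c16)) :=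
  Lre_d IH (LK LD1_c0 LD2_c25 LD3_c61) (LK LD1_c0 LD2_c57 LD3_c16) Lrfl Lrfl
theorem f54955 : Led Lsl_ct (LP (LK LD1_c2 LD2_c0 LD3_c39)) = (LP (LK LD1_c0 LD2_c57 LD3_c16)) :=
  Lre_c IH (LK LD1_c2 LD2_c0 LD3_c39) (LK LD1_c0 LD2_c57 LD3_c16) Lrfl Lrfl
theorem f28684 : Led Lsl_dt (LP (LK LD1_c4 LD2_c20 LD3_c54)) = (LP (LK LD1_c2 LD2_c7 LD3_c57)) :=
  Lre_d IH (LK LD1_c4 LD2_c20 LD3_c54) (LK LD1_c2 LD2_c7 LD3_c57) Lrfl Lrfl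
theorem f187792 : Led Lsl_gt (LP (LK LD1_c2 LD2_c7 LD3_c57)) = (LP (LK LD1_c1 LD2_c25 LD3_c1)) :=
  Lgr Lrot9 (Lpe (f28684 IH) (Lpe (K9.f182095 IH) (Lpr_ct (K9.f182571 IH) (Lpr_gt (K9.f54961 IH) (Lpr_ct (f54955 IH) (Lpe (f47453 IH) (Lpr_cf (f187773 IH) (Lpe (K9.f42119 IH) (Lpe (K9.f183859 IH) (Lpn (LP (LK LD1_c1 LD2_c25 LD3_c1))))))))))))
theorem f28697 : Led Lsl_ft (LP (LK LD1_c2 LD2_c7 LD3_c57)) = (LP (LK LD1_c1 LD2_c1 LD3_c4)) :=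
  Lre_f IH (LK LD1_c2 LD2_c7 LD3_c57) (LK LD1_c1 LD2_c1 LD3_c4) Lrfl Lrfl
theorem f28709 : Led Lsl_et (LP (LK LD1_c0 LD2_c27 LD3_c55)) = (LP (LK LD1_c0 LD2_c12 LD3_c20)) :=
  Lre_e IH (LK LD1_c0 LD2_c27 LD3_c55) (LK LD1_c0 LD2_c12 LD3_c20) Lrfl Lrfl
theorem f31116 : Led Lsl_af (LP (LK LD1_c0 LD2_c27 LD3_c55)) = (LP (LK LD1_c0 LD2_c27 LD3_c52)) :=
  Lgr Lrot50 (Lpr_et (f28709 IH) (Lpr_at (K0.f31107 IH) (Lpr_et (K0.f31115 IH) (Lpn (LP (LK LD1_c0 LD2_c27 LD3_c52))))))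
theorem f28705 : Led Lsl_bt (LP (LK LD1_c0 LD2_c27 LD3_c55)) = (LP (LK LD1_c1 LD2_c1 LD3_c4)) :=
  Lre_b IH (LK LD1_c0 LD2_c27 LD3_c55) (LK LD1_c1 LD2_c1 LD3_c4) Lrfl Lrfl
theorem f45689 : Led Lsl_bt (LP (LK LD1_c0 LD2_c59 LD3_c32)) = (LP (LK LD1_c0 LD2_c27 LD3_c7)) :=
  Lre_b IH (LK LD1_c0 LD2_c59 LD3_c32) (LK LD1_c0 LD2_c27 LD3_c7) Lrfl Lrfl
theorem f45690 : Led Lsl_at (LP (LK LD1_c1 LD2_c1 LD3_c4)) = (LP (LK LD1_c0 LD2_c59 LD3_c32)) :=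
  Lgr Lrot67 (Lpe (f28705 IH) (Lpr_af (f31116 IH) (Lpr_bf (K1.f45387 IH) (Lpr_af (K9.f45128 IH) (Lpe (f45689 IH) (Lpn (LP (LK LD1_c0 LD2_c59 LD3_c32))))))))
theorem f187839 : Led Lsl_gf (LP (LK LD1_c0 LD2_c59 LD3_c32)) = (LP (LK LD1_c1 LD2_c25 LD3_c1)) :=
  Lgr Lrot76 (Lpe (f45690 IH) (Lpe (f28697 IH) (Lpr_gt (f187792 IH) (Lpn (LP (LK LD1_c1 LD2_c25 LD3_c1))))))
theorem f45130 : Led Lsl_bt (LP (LK LD1_c0 LD2_c27 LD3_c7)) = (LP (LK LD1_c0 LD2_c59 LD3_c32)) :=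
  Lre_b IH (LK LD1_c0 LD2_c27 LD3_c7) (LK LD1_c0 LD2_c59 LD3_c32) Lrfl Lrfl
theorem f45243 : Led Lsl_bf (LP (LK LD1_c1 LD2_c14 LD3_c37)) = (LP (LK LD1_c2 LD2_c4 LD3_c55)) :=
  Lgr Lrot90 (Lpr_ct (K9.f32421 IH) (Lpr_bt (K1.f32412 IH) (Lpr_ct (K1.f45233 IH) (Lpr_bt (f45130 IH) (Lpr_ct (f45242 IH) (Lpn (LP (LK LD1_c2 LD2_c4 LD3_c55))))))))
theorem f165862 : Led Lsl_ct (LP (LK LD1_c2 LD2_c28 LD3_c12)) = (LP (LK LD1_c1 LD2_c11 LD3_c20)) :=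
  Lre_c IH (LK LD1_c2 LD2_c28 LD3_c12) (LK LD1_c1 LD2_c11 LD3_c20) Lrfl Lrfl
theorem f28049 : Led Lsl_at (LP (LK LD1_c0 LD2_c56 LD3_c9)) = (LP (LK LD1_c1 LD2_c57 LD3_c20)) :=
  Lre_a IH (LK LD1_c0 LD2_c56 LD3_c9) (LK LD1_c1 LD2_c57 LD3_c20) Lrfl Lrfl
theorem f49611 : Led Lsl_bt (LP (LK LD1_c2 LD2_c1 LD3_c17)) = (LP (LK LD1_c0 LD2_c57 LD3_c46)) :=
  Lre_b IH (LK LD1_c2 LD2_c1 LD3_c17) (LK LD1_c0 LD2_c57 LD3_c46) Lrfl Lrfl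
theorem f50623 : Led Lsl_bf (LP (LK LD1_c0 LD2_c56 LD3_c9)) = (LP (LK LD1_c0 LD2_c57 LD3_c41)) :=
  Lgr Lrot81 (Lpr_at (f28049 IH) (Lpr_bt (K9.f30979 IH) (Lpr_at (K9.f50616 IH) (Lpr_bt (f49611 IH) (Lpe (K9.f49600 IH) (Lpn (LP (LK LD1_c0 LD2_c57 LD3_c41))))))))
theorem f183864 : Led Lsl_ct (LP (LK LD1_c0 LD2_c39 LD3_c10)) = (LP (LK LD1_c1 LD2_c25 LD3_c1)) :=
  Lre_c IH (LK LD1_c0 LD2_c39 LD3_c10) (LK LD1_c1 LD2_c25 LD3_c1) Lrfl Lrfl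
theorem f187845 : Led Lsl_bt (LP (LK LD1_c0 LD2_c39 LD3_c10)) = (LP (LK LD1_c1 LD2_c25 LD3_c0)) :=
  Lre_b IH (LK LD1_c0 LD2_c39 LD3_c10) (LK LD1_c1 LD2_c25 LD3_c0) Lrfl Lrfl
theorem f187847 : Led Lsl_gt (LP (LK LD1_c0 LD2_c56 LD3_c9)) = (LP (LK LD1_c1 LD2_c25 LD3_c0)) :=
  Lgr Lrot164 (Lpr_bf (f50623 IH) (Lpr_ct (K9.f49604 IH) (Lpe (K9.f184117 IH) (Lpe (f165862 IH) (Lpe (K9.f165855 IH) (Lpr_bf (f45243 IH) (Lpr_ct (K9.f54068 IH) (Lpr_gf (f187839 IH) (Lpe (f183864 IH) (Lpr_bt (f187845 IH) (Lpn (LP (LK LD1_c1 LD2_c25 LD3_c0)))))))))))))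
theorem f28054 : Led Lsl_ft (LP (LK LD1_c0 LD2_c56 LD3_c9)) = (LP (LK LD1_c0 LD2_c25 LD3_c28)) :=
  Lre_f IH (LK LD1_c0 LD2_c56 LD3_c9) (LK LD1_c0 LD2_c25 LD3_c28) Lrfl Lrfl
theorem f30997 : Led Lsl_at (LP (LK LD1_c0 LD2_c25 LD3_c28)) = (LP (LK LD1_c0 LD2_c55 LD3_c29)) :=
  Lre_a IH (LK LD1_c0 LD2_c25 LD3_c28) (LK LD1_c0 LD2_c55 LD3_c29) Lrfl Lrfl
theorem f187849 : Led Lsl_gf (LP (LK LD1_c0 LD2_c55 LD3_c29)) = (LP (LK LD1_c1 LD2_c25 LD3_c0)) :=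
  Lgr Lrot76 (Lpe (f30997 IH) (Lpe (f28054 IH) (Lpr_gt (f187847 IH) (Lpn (LP (LK LD1_c1 LD2_c25 LD3_c0))))))
theorem f55015 : Led Lsl_bt (LP (LK LD1_c0 LD2_c56 LD3_c47)) = (LP (LK LD1_c0 LD2_c57 LD3_c13)) :=
  Lgr Lrot127 (Lpr_bf (K1.f47834 IH) (Lpn (LP (LK LD1_c0 LD2_c57 LD3_c13))))
theorem f182524 : Led Lsl_ct (LP (LK LD1_c2 LD2_c0 LD3_c25)) = (LP (LK LD1_c1 LD2_c59 LD3_c44)) :=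
  Lgr Lrot59 (Lpr_cf (K9.f182520 IH) (Lpn (LP (LK LD1_c1 LD2_c59 LD3_c44))))
theorem f28715 : Led Lsl_ft (LP (LK LD1_c1 LD2_c1 LD3_c7)) = (LP (LK LD1_c0 LD2_c27 LD3_c55)) :=
  Lre_f IH (LK LD1_c1 LD2_c1 LD3_c7) (LK LD1_c0 LD2_c27 LD3_c55) Lrfl Lrfl
theorem f171655 : Led Lsl_gt (LP (LK LD1_c1 LD2_c1 LD3_c7)) = (LP (LK LD1_c0 LD2_c34 LD3_c3)) :=
  Lgr Lrot5 (Lpr_ft (f28715 IH) (Lpe (K0.f31183 IH) (Lpr_gf (K9.f171653 IH) (Lpn (LP (LK LD1_c0 LD2_c34 LD3_c3))))))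
theorem f183908 : Led Lsl_gt (LP (LK LD1_c1 LD2_c59 LD3_c44)) = (LP (LK LD1_c2 LD2_c7 LD3_c38)) :=
  Lgr Lrot149 (Lpe (f182524 IH) (Lpe (K9.f54529 IH) (Lpe (f55015 IH) (Lpr_ct (K1.f46212 IH) (Lpr_gf (K9.f183891 IH) (Lpe (K9.f171670 IH) (Lpr_bt (K9.f171666 IH) (Lpe (f171655 IH) (Lpe (K0.f28690 IH) (Lpe (K0.f28670 IH) (Lpn (LP (LK LD1_c2 LD2_c7 LD3_c38)))))))))))))
theorem f182523 : Led Lsl_bt (LP (LK LD1_c0 LD2_c56 LD3_c48)) = (LP (LK LD1_c1 LD2_c59 LD3_c44)) :=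
  Lre_b IH (LK LD1_c0 LD2_c56 LD3_c48) (LK LD1_c1 LD2_c59 LD3_c44) Lrfl Lrfl
theorem f182522 : Led Lsl_ct (LP (LK LD1_c0 LD2_c56 LD3_c48)) = (LP (LK LD1_c1 LD2_c59 LD3_c45)) :=
  Lre_c IH (LK LD1_c0 LD2_c56 LD3_c48) (LK LD1_c1 LD2_c59 LD3_c45) Lrfl Lrfl
theorem f187875 : Led Lsl_gt (LP (LK LD1_c2 LD2_c4 LD3_c12)) = (LP (LK LD1_c1 LD2_c59 LD3_c45)) :=
  Lgr Lrot65 (Lpr_cf (K9.f44518 IH) (Lpe (f30837 IH) (Lpr_gf (f187849 IH) (Lpe (f187845 IH) (Lpr_ct (f183864 IH) (Lpe (f187792 IH) (Lpe (K0.f28681 IH) (Lpe (f183908 IH) (Lpe (f182523 IH) (Lpr_ct (f182522 IH) (Lpn (LP (LK LD1_c1 LD2_c59 LD3_c45)))))))))))))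
theorem f183958 : Led Lsl_bt (LP (LK LD1_c0 LD2_c34 LD3_c3)) = (LP (LK LD1_c1 LD2_c13 LD3_c32)) :=
  Lre_b IH (LK LD1_c0 LD2_c34 LD3_c3) (LK LD1_c1 LD2_c13 LD3_c32) Lrfl Lrfl
theorem f171661 : Led Lsl_ct (LP (LK LD1_c0 LD2_c34 LD3_c3)) = (LP (LK LD1_c0 LD2_c15 LD3_c17)) :=
  Lre_c IH (LK LD1_c0 LD2_c34 LD3_c3) (LK LD1_c0 LD2_c15 LD3_c17) Lrfl Lrfl
theorem f187889 : Led Lsl_gf (LP (LK LD1_c0 LD2_c15 LD3_c17)) = (LP (LK LD1_c0 LD2_c27 LD3_c50)) :=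
  Lgr Lrot126 (Lpe (f171661 IH) (Lpr_bt (f183958 IH) (Lpe (K9.f183947 IH) (Lpe (K9.f44518 IH) (Lpr_gt (f187875 IH) (Lpe (f182522 IH) (Lpr_bt (f182523 IH) (Lpr_gt (f183908 IH) (Lpe (K0.f28648 IH) (Lpr_ct (K0.f28622 IH) (Lpn (LP (LK LD1_c0 LD2_c27 LD3_c50)))))))))))))
theorem f180112 : Led Lsl_bt (LP (LK LD1_c0 LD2_c12 LD3_c13)) = (LP (LK LD1_c0 LD2_c27 LD3_c33)) :=
  Lre_b IH (LK LD1_c0 LD2_c12 LD3_c13) (LK LD1_c0 LD2_c27 LD3_c33) Lrfl Lrfl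
theorem f180103 : Led Lsl_dt (LP (LK LD1_c0 LD2_c27 LD3_c33)) = (LP (LK LD1_c0 LD2_c12 LD3_c11)) :=
  Lre_d IH (LK LD1_c0 LD2_c27 LD3_c33) (LK LD1_c0 LD2_c12 LD3_c11) Lrfl Lrfl
theorem f27947 : Led Lsl_bt (LP (LK LD1_c0 LD2_c5 LD3_c28)) = (LP (LK LD1_c0 LD2_c11 LD3_c25)) :=
  Lre_b IH (LK LD1_c0 LD2_c5 LD3_c28) (LK LD1_c0 LD2_c11 LD3_c25) Lrfl Lrfl
theorem f51605 : Led Lsl_dt (LP (LK LD1_c0 LD2_c11 LD3_c25)) = (LP (LK LD1_c0 LD2_c11 LD3_c25)) :=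
  Lgr Lrot79 (Lpe (f27947 IH) (Lpr_df (K9.f51592 IH) (Lpe (K9.f27948 IH) (Lpn (LP (LK LD1_c0 LD2_c11 LD3_c25))))))
theorem f52236 : Led Lsl_ct (LP (LK LD1_c1 LD2_c59 LD3_c4)) = (LP (LK LD1_c0 LD2_c56 LD3_c19)) :=
  Lre_c IH (LK LD1_c1 LD2_c59 LD3_c4) (LK LD1_c0 LD2_c56 LD3_c19) Lrfl Lrfl
theorem f28151 : Led Lsl_dt (LP (LK LD1_c0 LD2_c25 LD3_c11)) = (LP (LK LD1_c0 LD2_c55 LD3_c30)) :=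
  Lre_d IH (LK LD1_c0 LD2_c25 LD3_c11) (LK LD1_c0 LD2_c55 LD3_c30) Lrfl Lrfl
theorem f52246 : Led Lsl_ct (LP (LK LD1_c0 LD2_c55 LD3_c30)) = (LP (LK LD1_c1 LD2_c57 LD3_c23)) :=
  Lre_c IH (LK LD1_c0 LD2_c55 LD3_c30) (LK LD1_c1 LD2_c57 LD3_c23) Lrfl Lrfl
theorem f52247 : Led Lsl_df (LP (LK LD1_c1 LD2_c59 LD3_c4)) = (LP (LK LD1_c1 LD2_c57 LD3_c23)) :=
  Lgr Lrot106 (Lpr_ct (f52236 IH) (Lpr_dt (K9.f27968 IH) (Lpr_ct (K1.f27949 IH) (Lpr_dt (f51605 IH) (Lpr_ct (K1.f27950 IH) (Lpe (K1.f27959 IH) (Lpe (K1.f28131 IH) (Lpr_dt (f28151 IH) (Lpr_ct (f52246 IH) (Lpn (LP (LK LD1_c1 LD2_c57 LD3_c23))))))))))))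
theorem f52264 : Led Lsl_ft (LP (LK LD1_c1 LD2_c59 LD3_c4)) = (LP (LK LD1_c0 LD2_c56 LD3_c18)) :=
  Lre_f IH (LK LD1_c1 LD2_c59 LD3_c4) (LK LD1_c0 LD2_c56 LD3_c18) Lrfl Lrfl
theorem f52265 : Led Lsl_dt (LP (LK LD1_c0 LD2_c56 LD3_c18)) = (LP (LK LD1_c1 LD2_c59 LD3_c3)) :=
  Lre_d IH (LK LD1_c0 LD2_c56 LD3_c18) (LK LD1_c1 LD2_c59 LD3_c3) Lrfl Lrfl
theorem f52266 : Led Lsl_ft (LP (LK LD1_c1 LD2_c59 LD3_c3)) = (LP (LK LD1_c1 LD2_c57 LD3_c23)) :=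
  Lgr Lrot54 (Lpe (f52265 IH) (Lpe (f52264 IH) (Lpr_df (f52247 IH) (Lpn (LP (LK LD1_c1 LD2_c57 LD3_c23))))))
theorem f52286 : Led Lsl_ff (LP (LK LD1_c1 LD2_c59 LD3_c3)) = (LP (LK LD1_c1 LD2_c57 LD3_c23)) :=
  Lgr Lrot3 (Lpr_ft (f52266 IH) (Lpn (LP (LK LD1_c1 LD2_c57 LD3_c23))))
theorem f52322 : Led Lsl_et (LP (LK LD1_c1 LD2_c59 LD3_c3)) = (LP (LK LD1_c4 LD2_c4 LD3_c16)) :=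
  Lre_e IH (LK LD1_c1 LD2_c59 LD3_c3) (LK LD1_c4 LD2_c4 LD3_c16) Lrfl Lrfl
theorem f52323 : Led Lsl_ft (LP (LK LD1_c4 LD2_c4 LD3_c16)) = (LP (LK LD1_c8 LD2_c9 LD3_c24)) :=
  Lre_f IH (LK LD1_c4 LD2_c4 LD3_c16) (LK LD1_c8 LD2_c9 LD3_c24) Lrfl Lrfl
theorem f52261 : Led Lsl_et (LP (LK LD1_c4 LD2_c1 LD3_c2)) = (LP (LK LD1_c1 LD2_c57 LD3_c23)) :=
  Lre_e IH (LK LD1_c4 LD2_c1 LD3_c2) (LK LD1_c1 LD2_c57 LD3_c23) Lrfl Lrfl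
theorem f50971 : Led Lsl_ft (LP (LK LD1_c8 LD2_c2 LD3_c51)) = (LP (LK LD1_c4 LD2_c1 LD3_c2)) :=
  Lre_f IH (LK LD1_c8 LD2_c2 LD3_c51) (LK LD1_c4 LD2_c1 LD3_c2) Lrfl Lrfl
theorem f52324 : Led Lsl_et (LP (LK LD1_c8 LD2_c9 LD3_c24)) = (LP (LK LD1_c8 LD2_c2 LD3_c51)) :=
  Lgr Lrot69 (Lpe (f52323 IH) (Lpe (f52322 IH) (Lpr_ff (f52286 IH) (Lpe (f52261 IH) (Lpe (f50971 IH) (Lpn (LP (LK LD1_c8 LD2_c2 LD3_c51))))))))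
theorem f30957 : Led Lsl_ct (LP (LK LD1_c8 LD2_c2 LD3_c51)) = (LP (LK LD1_c4 LD2_c1 LD3_c3)) :=
  Lre_c IH (LK LD1_c8 LD2_c2 LD3_c51) (LK LD1_c4 LD2_c1 LD3_c3) Lrfl Lrfl
theorem f28058 : Led Lsl_et (LP (LK LD1_c4 LD2_c1 LD3_c3)) = (LP (LK LD1_c8 LD2_c2 LD3_c52)) :=
  Lre_e IH (LK LD1_c4 LD2_c1 LD3_c3) (LK LD1_c8 LD2_c2 LD3_c52) Lrfl Lrfl
theorem f52332 : Led Lsl_cf (LP (LK LD1_c8 LD2_c9 LD3_c24)) = (LP (LK LD1_c8 LD2_c2 LD3_c52)) :=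
  Lgr Lrot39 (Lpr_et (f52324 IH) (Lpr_ct (f30957 IH) (Lpr_et (f28058 IH) (Lpn (LP (LK LD1_c8 LD2_c2 LD3_c52))))))
theorem f52335 : Led Lsl_dt (LP (LK LD1_c8 LD2_c9 LD3_c24)) = (LP (LK LD1_c15 LD2_c17 LD3_c30)) :=
  Lre_d IH (LK LD1_c8 LD2_c9 LD3_c24) (LK LD1_c15 LD2_c17 LD3_c30) Lrfl Lrfl
theorem f51022 : Led Lsl_ct (LP (LK LD1_c15 LD2_c17 LD3_c30)) = (LP (LK LD1_c25 LD2_c7 LD3_c46)) :=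
  Lre_c IH (LK LD1_c15 LD2_c17 LD3_c30) (LK LD1_c25 LD2_c7 LD3_c46) Lrfl Lrfl
theorem f27992 : Led Lsl_ft (LP (LK LD1_c4 LD2_c3 LD3_c18)) = (LP (LK LD1_c1 LD2_c59 LD3_c5)) :=
  Lre_f IH (LK LD1_c4 LD2_c3 LD3_c18) (LK LD1_c1 LD2_c59 LD3_c5) Lrfl Lrfl
theorem f27993 : Led Lsl_ft (LP (LK LD1_c1 LD2_c59 LD3_c5)) = (LP (LK LD1_c4 LD2_c3 LD3_c18)) :=
  Lre_f IH (LK LD1_c1 LD2_c59 LD3_c5) (LK LD1_c4 LD2_c3 LD3_c18) Lrfl Lrfl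
theorem f27994 : Led Lsl_df (LP (LK LD1_c4 LD2_c3 LD3_c18)) = (LP (LK LD1_c4 LD2_c3 LD3_c18)) :=
  Lgr Lrot78 (Lpr_ft (f27992 IH) (Lpr_dt (K9.f27970 IH) (Lpr_ft (f27993 IH) (Lpn (LP (LK LD1_c4 LD2_c3 LD3_c18))))))
theorem f27996 : Led Lsl_at (LP (LK LD1_c4 LD2_c3 LD3_c18)) = (LP (LK LD1_c8 LD2_c2 LD3_c52)) :=
  Lre_a IH (LK LD1_c4 LD2_c3 LD3_c18) (LK LD1_c8 LD2_c2 LD3_c52) Lrfl Lrfl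
theorem f28021 : Led Lsl_at (LP (LK LD1_c8 LD2_c2 LD3_c52)) = (LP (LK LD1_c4 LD2_c3 LD3_c18)) :=
  Lre_a IH (LK LD1_c8 LD2_c2 LD3_c52) (LK LD1_c4 LD2_c3 LD3_c18) Lrfl Lrfl
theorem f28022 : Led Lsl_dt (LP (LK LD1_c8 LD2_c2 LD3_c52)) = (LP (LK LD1_c8 LD2_c2 LD3_c52)) :=
  Lgr Lrot44 (Lpe (f27996 IH) (Lpr_df (f27994 IH) (Lpe (f28021 IH) (Lpn (LP (LK LD1_c8 LD2_c2 LD3_c52))))))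
theorem f28074 : Led Lsl_ft (LP (LK LD1_c8 LD2_c2 LD3_c52)) = (LP (LK LD1_c4 LD2_c1 LD3_c10)) :=
  Lre_f IH (LK LD1_c8 LD2_c2 LD3_c52) (LK LD1_c4 LD2_c1 LD3_c10) Lrfl Lrfl
theorem f27978 : Led Lsl_at (LP (LK LD1_c4 LD2_c1 LD3_c10)) = (LP (LK LD1_c1 LD2_c59 LD3_c5)) :=
  Lre_a IH (LK LD1_c4 LD2_c1 LD3_c10) (LK LD1_c1 LD2_c59 LD3_c5) Lrfl Lrfl
theorem f27986 : Led Lsl_ct (LP (LK LD1_c4 LD2_c4 LD3_c17)) = (LP (LK LD1_c1 LD2_c59 LD3_c5)) :=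
  Lre_c IH (LK LD1_c4 LD2_c4 LD3_c17) (LK LD1_c1 LD2_c59 LD3_c5) Lrfl Lrfl
theorem f27987 : Led Lsl_dt (LP (LK LD1_c8 LD2_c9 LD3_c27)) = (LP (LK LD1_c4 LD2_c4 LD3_c17)) :=
  Lre_d IH (LK LD1_c8 LD2_c9 LD3_c27) (LK LD1_c4 LD2_c4 LD3_c17) Lrfl Lrfl
theorem f27988 : Led Lsl_ct (LP (LK LD1_c15 LD2_c21 LD3_c58)) = (LP (LK LD1_c8 LD2_c9 LD3_c27)) :=
  Lre_c IH (LK LD1_c15 LD2_c21 LD3_c58) (LK LD1_c8 LD2_c9 LD3_c27) Lrfl Lrfl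
theorem f52350 : Led Lsl_dt (LP (LK LD1_c25 LD2_c7 LD3_c46)) = (LP (LK LD1_c15 LD2_c21 LD3_c58)) :=
  Lgr Lrot140 (Lpe (f51022 IH) (Lpe (f52335 IH) (Lpr_cf (f52332 IH) (Lpe (f28022 IH) (Lpr_ft (f28074 IH) (Lpr_at (f27978 IH) (Lpe (f27986 IH) (Lpe (f27987 IH) (Lpe (f27988 IH) (Lpn (LP (LK LD1_c15 LD2_c21 LD3_c58))))))))))))
theorem f52342 : Led Lsl_ct (LP (LK LD1_c8 LD2_c9 LD3_c24)) = (LP (LK LD1_c8 LD2_c2 LD3_c52)) :=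
  Lgr Lrot59 (Lpr_cf (f52332 IH) (Lpn (LP (LK LD1_c8 LD2_c2 LD3_c52))))
theorem f52334 : Led Lsl_dt (LP (LK LD1_c15 LD2_c17 LD3_c30)) = (LP (LK LD1_c8 LD2_c9 LD3_c24)) :=
  Lre_d IH (LK LD1_c15 LD2_c17 LD3_c30) (LK LD1_c8 LD2_c9 LD3_c24) Lrfl Lrfl
theorem f52349 : Led Lsl_ft (LP (LK LD1_c15 LD2_c17 LD3_c30)) = (LP (LK LD1_c8 LD2_c7 LD3_c11)) :=
  Lre_f IH (LK LD1_c15 LD2_c17 LD3_c30) (LK LD1_c8 LD2_c7 LD3_c11) Lrfl Lrfl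
theorem f52362 : Led Lsl_at (LP (LK LD1_c8 LD2_c7 LD3_c11)) = (LP (LK LD1_c8 LD2_c9 LD3_c27)) :=
  Lgr Lrot33 (Lpe (f52349 IH) (Lpr_dt (f52334 IH) (Lpr_ct (f52342 IH) (Lpr_dt (f28022 IH) (Lpe (f52332 IH) (Lpr_dt (f52335 IH) (Lpr_ct (f51022 IH) (Lpr_dt (f52350 IH) (Lpr_ct (f27988 IH) (Lpn (LP (LK LD1_c8 LD2_c9 LD3_c27))))))))))))
theorem f52305 : Led Lsl_dt (LP (LK LD1_c4 LD2_c4 LD3_c16)) = (LP (LK LD1_c8 LD2_c7 LD3_c11)) :=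
  Lre_d IH (LK LD1_c4 LD2_c4 LD3_c16) (LK LD1_c8 LD2_c7 LD3_c11) Lrfl Lrfl
theorem f52378 : Led Lsl_af (LP (LK LD1_c4 LD2_c4 LD3_c16)) = (LP (LK LD1_c4 LD2_c4 LD3_c17)) :=
  Lgr Lrot117 (Lpr_dt (f52305 IH) (Lpr_at (f52362 IH) (Lpr_dt (f27987 IH) (Lpn (LP (LK LD1_c4 LD2_c4 LD3_c17))))))
theorem f52404 : Led Lsl_bt (LP (LK LD1_c4 LD2_c4 LD3_c16)) = (LP (LK LD1_c8 LD2_c9 LD3_c20)) :=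
  Lre_b IH (LK LD1_c4 LD2_c4 LD3_c16) (LK LD1_c8 LD2_c9 LD3_c20) Lrfl Lrfl
theorem f52405 : Led Lsl_at (LP (LK LD1_c8 LD2_c9 LD3_c20)) = (LP (LK LD1_c15 LD2_c21 LD3_c29)) :=
  Lre_a IH (LK LD1_c8 LD2_c9 LD3_c20) (LK LD1_c15 LD2_c21 LD3_c29) Lrfl Lrfl
theorem f52406 : Led Lsl_bt (LP (LK LD1_c8 LD2_c9 LD3_c21)) = (LP (LK LD1_c4 LD2_c4 LD3_c17)) :=
  Lre_b IH (LK LD1_c8 LD2_c9 LD3_c21) (LK LD1_c4 LD2_c4 LD3_c17) Lrfl Lrfl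
theorem f52407 : Led Lsl_at (LP (LK LD1_c15 LD2_c20 LD3_c56)) = (LP (LK LD1_c8 LD2_c9 LD3_c21)) :=
  Lre_a IH (LK LD1_c15 LD2_c20 LD3_c56) (LK LD1_c8 LD2_c9 LD3_c21) Lrfl Lrfl
theorem f52408 : Led Lsl_bt (LP (LK LD1_c15 LD2_c21 LD3_c29)) = (LP (LK LD1_c15 LD2_c20 LD3_c56)) :=
  Lgr Lrot62 (Lpe (f52405 IH) (Lpe (f52404 IH) (Lpr_af (f52378 IH) (Lpe (f52406 IH) (Lpe (f52407 IH) (Lpn (LP (LK LD1_c15 LD2_c20 LD3_c56))))))))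
theorem f52428 : Led Lsl_ft (LP (LK LD1_c25 LD2_c12 LD3_c51)) = (LP (LK LD1_c15 LD2_c21 LD3_c29)) :=
  Lre_f IH (LK LD1_c25 LD2_c12 LD3_c51) (LK LD1_c15 LD2_c21 LD3_c29) Lrfl Lrfl
theorem f50724 : Led Lsl_ft (LP (LK LD1_c15 LD2_c20 LD3_c56)) = (LP (LK LD1_c25 LD2_c7 LD3_c14)) :=
  Lre_f IH (LK LD1_c15 LD2_c20 LD3_c56) (LK LD1_c25 LD2_c7 LD3_c14) Lrfl Lrfl
theorem f52429 : Led Lsl_bf (LP (LK LD1_c25 LD2_c12 LD3_c51)) = (LP (LK LD1_c25 LD2_c7 LD3_c14)) :=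
  Lgr Lrot61 (Lpr_ft (f52428 IH) (Lpr_bt (f52408 IH) (Lpr_ft (f50724 IH) (Lpn (LP (LK LD1_c25 LD2_c7 LD3_c14))))))
theorem f50709 : Led Lsl_et (LP (LK LD1_c15 LD2_c17 LD3_c8)) = (LP (LK LD1_c25 LD2_c7 LD3_c14)) :=
  Lre_e IH (LK LD1_c15 LD2_c17 LD3_c8) (LK LD1_c25 LD2_c7 LD3_c14) Lrfl Lrfl
theorem f50677 : Led Lsl_bt (LP (LK LD1_c24 LD2_c57 LD3_c55)) = (LP (LK LD1_c15 LD2_c17 LD3_c8)) :=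
  Lre_b IH (LK LD1_c24 LD2_c57 LD3_c55) (LK LD1_c15 LD2_c17 LD3_c8) Lrfl Lrfl
theorem f52435 : Led Lsl_et (LP (LK LD1_c25 LD2_c12 LD3_c51)) = (LP (LK LD1_c24 LD2_c57 LD3_c55)) :=
  Lgr Lrot74 (Lpr_bf (f52429 IH) (Lpe (f50709 IH) (Lpe (f50677 IH) (Lpn (LP (LK LD1_c24 LD2_c57 LD3_c55))))))
theorem f52445 : Led Lsl_ft (LP (LK LD1_c15 LD2_c21 LD3_c29)) = (LP (LK LD1_c25 LD2_c12 LD3_c51)) :=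
  Lre_f IH (LK LD1_c15 LD2_c21 LD3_c29) (LK LD1_c25 LD2_c12 LD3_c51) Lrfl Lrfl
theorem f52424 : Led Lsl_et (LP (LK LD1_c8 LD2_c9 LD3_c16)) = (LP (LK LD1_c15 LD2_c21 LD3_c29)) :=
  Lre_e IH (LK LD1_c8 LD2_c9 LD3_c16) (LK LD1_c15 LD2_c21 LD3_c29) Lrfl Lrfl
theorem f31011 : Led Lsl_ft (LP (LK LD1_c24 LD2_c57 LD3_c55)) = (LP (LK LD1_c15 LD2_c9 LD3_c6)) :=
  Lre_f IH (LK LD1_c24 LD2_c57 LD3_c55) (LK LD1_c15 LD2_c9 LD3_c6) Lrfl Lrfl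
theorem f31004 : Led Lsl_et (LP (LK LD1_c15 LD2_c9 LD3_c6)) = (LP (LK LD1_c8 LD2_c3 LD3_c5)) :=
  Lre_e IH (LK LD1_c15 LD2_c9 LD3_c6) (LK LD1_c8 LD2_c3 LD3_c5) Lrfl Lrfl
theorem f52446 : Led Lsl_ff (LP (LK LD1_c8 LD2_c9 LD3_c16)) = (LP (LK LD1_c8 LD2_c3 LD3_c5)) :=
  Lgr Lrot72 (Lpr_et (f52424 IH) (Lpr_ft (f52445 IH) (Lpr_et (f52435 IH) (Lpr_ft (f31011 IH) (Lpr_et (f31004 IH) (Lpn (LP (LK LD1_c8 LD2_c3 LD3_c5))))))))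
theorem f52461 : Led Lsl_ft (LP (LK LD1_c8 LD2_c9 LD3_c16)) = (LP (LK LD1_c8 LD2_c3 LD3_c5)) :=
  Lgr Lrot48 (Lpr_ff (f52446 IH) (Lpn (LP (LK LD1_c8 LD2_c3 LD3_c5))))
theorem f52485 : Led Lsl_dt (LP (LK LD1_c4 LD2_c4 LD3_c13)) = (LP (LK LD1_c8 LD2_c9 LD3_c16)) :=
  Lre_d IH (LK LD1_c4 LD2_c4 LD3_c13) (LK LD1_c8 LD2_c9 LD3_c16) Lrfl Lrfl
theorem f52452 : Led Lsl_ft (LP (LK LD1_c8 LD2_c9 LD3_c5)) = (LP (LK LD1_c4 LD2_c4 LD3_c13)) :=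
  Lre_f IH (LK LD1_c8 LD2_c9 LD3_c5) (LK LD1_c4 LD2_c4 LD3_c13) Lrfl Lrfl
theorem f52486 : Led Lsl_df (LP (LK LD1_c8 LD2_c9 LD3_c5)) = (LP (LK LD1_c8 LD2_c3 LD3_c5)) :=
  Lgr Lrot78 (Lpr_ft (f52452 IH) (Lpr_dt (f52485 IH) (Lpr_ft (f52461 IH) (Lpn (LP (LK LD1_c8 LD2_c3 LD3_c5))))))
theorem f52476 : Led Lsl_et (LP (LK LD1_c8 LD2_c9 LD3_c5)) = (LP (LK LD1_c15 LD2_c20 LD3_c56)) :=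
  Lre_e IH (LK LD1_c8 LD2_c9 LD3_c5) (LK LD1_c15 LD2_c20 LD3_c56) Lrfl Lrfl
theorem f51372 : Led Lsl_dt (LP (LK LD1_c15 LD2_c20 LD3_c56)) = (LP (LK LD1_c25 LD2_c12 LD3_c9)) :=
  Lre_d IH (LK LD1_c15 LD2_c20 LD3_c56) (LK LD1_c25 LD2_c12 LD3_c9) Lrfl Lrfl
theorem f31007 : Led Lsl_dt (LP (LK LD1_c24 LD2_c58 LD3_c4)) = (LP (LK LD1_c15 LD2_c9 LD3_c6)) :=
  Lre_d IH (LK LD1_c24 LD2_c58 LD3_c4) (LK LD1_c15 LD2_c9 LD3_c6) Lrfl Lrfl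
theorem f52506 : Led Lsl_et (LP (LK LD1_c25 LD2_c12 LD3_c9)) = (LP (LK LD1_c24 LD2_c58 LD3_c4)) :=
  Lgr Lrot71 (Lpe (f51372 IH) (Lpe (f52476 IH) (Lpr_df (f52486 IH) (Lpe (f31004 IH) (Lpe (f31007 IH) (Lpn (LP (LK LD1_c24 LD2_c58 LD3_c4))))))))
theorem f52522 : Led Lsl_ef (LP (LK LD1_c25 LD2_c12 LD3_c9)) = (LP (LK LD1_c24 LD2_c58 LD3_c4)) :=
  Lgr Lrot88 (Lpr_et (f52506 IH) (Lpn (LP (LK LD1_c24 LD2_c58 LD3_c4))))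
theorem f52524 : Led Lsl_at (LP (LK LD1_c25 LD2_c12 LD3_c9)) = (LP (LK LD1_c15 LD2_c21 LD3_c44)) :=
  Lre_a IH (LK LD1_c25 LD2_c12 LD3_c9) (LK LD1_c15 LD2_c21 LD3_c44) Lrfl Lrfl
theorem f51262 : Led Lsl_at (LP (LK LD1_c15 LD2_c9 LD3_c7)) = (LP (LK LD1_c24 LD2_c58 LD3_c4)) :=
  Lre_a IH (LK LD1_c15 LD2_c9 LD3_c7) (LK LD1_c24 LD2_c58 LD3_c4) Lrfl Lrfl
theorem f52525 : Led Lsl_et (LP (LK LD1_c15 LD2_c21 LD3_c44)) = (LP (LK LD1_c15 LD2_c9 LD3_c7)) :=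
  Lgr Lrot123 (Lpe (f52524 IH) (Lpr_ef (f52522 IH) (Lpe (f51262 IH) (Lpn (LP (LK LD1_c15 LD2_c9 LD3_c7))))))
theorem f52366 : Led Lsl_bt (LP (LK LD1_c8 LD2_c9 LD3_c27)) = (LP (LK LD1_c15 LD2_c21 LD3_c44)) :=
  Lre_b IH (LK LD1_c8 LD2_c9 LD3_c27) (LK LD1_c15 LD2_c21 LD3_c44) Lrfl Lrfl
theorem f50926 : Led Lsl_bt (LP (LK LD1_c15 LD2_c9 LD3_c7)) = (LP (LK LD1_c8 LD2_c2 LD3_c50)) :=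
  Lre_b IH (LK LD1_c15 LD2_c9 LD3_c7) (LK LD1_c8 LD2_c2 LD3_c50) Lrfl Lrfl
theorem f52528 : Led Lsl_ef (LP (LK LD1_c8 LD2_c9 LD3_c27)) = (LP (LK LD1_c8 LD2_c2 LD3_c50)) :=
  Lgr Lrot29 (Lpr_bt (f52366 IH) (Lpr_et (f52525 IH) (Lpr_bt (f50926 IH) (Lpn (LP (LK LD1_c8 LD2_c2 LD3_c50))))))
theorem f27991 : Led Lsl_ct (LP (LK LD1_c8 LD2_c9 LD3_c27)) = (LP (LK LD1_c15 LD2_c21 LD3_c58)) :=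
  Lre_c IH (LK LD1_c8 LD2_c9 LD3_c27) (LK LD1_c15 LD2_c21 LD3_c58) Lrfl Lrfl
theorem f50907 : Led Lsl_dt (LP (LK LD1_c0 LD2_c59 LD3_c17)) = (LP (LK LD1_c0 LD2_c26 LD3_c61)) :=
  Lre_d IH (LK LD1_c0 LD2_c59 LD3_c17) (LK LD1_c0 LD2_c26 LD3_c61) Lrfl Lrfl
theorem f50915 : Led Lsl_ft (LP (LK LD1_c0 LD2_c59 LD3_c17)) = (LP (LK LD1_c2 LD2_c4 LD3_c35)) :=
  Lre_f IH (LK LD1_c0 LD2_c59 LD3_c17) (LK LD1_c2 LD2_c4 LD3_c35) Lrfl Lrfl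
theorem f27609 : Led Lsl_af (LP (LK LD1_c2 LD2_c23 LD3_c10)) = (LP (LK LD1_c2 LD2_c4 LD3_c35)) :=
  Lgr Lrot0 (Lpr_at (K0.f27594 IH) (Lpn (LP (LK LD1_c2 LD2_c4 LD3_c35))))
theorem f27601 : Led Lsl_dt (LP (LK LD1_c9 LD2_c33 LD3_c42)) = (LP (LK LD1_c4 LD2_c50 LD3_c45)) :=
  Lre_d IH (LK LD1_c9 LD2_c33 LD3_c42) (LK LD1_c4 LD2_c50 LD3_c45) Lrfl Lrfl
theorem f28796 : Led Lsl_dt (LP (LK LD1_c0 LD2_c55 LD3_c29)) = (LP (LK LD1_c1 LD2_c57 LD3_c19)) :=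
  Lre_d IH (LK LD1_c0 LD2_c55 LD3_c29) (LK LD1_c1 LD2_c57 LD3_c19) Lrfl Lrfl
theorem f30937 : Led Lsl_ct (LP (LK LD1_c1 LD2_c57 LD3_c19)) = (LP (LK LD1_c4 LD2_c1 LD3_c2)) :=
  Lre_c IH (LK LD1_c1 LD2_c57 LD3_c19) (LK LD1_c4 LD2_c1 LD3_c2) Lrfl Lrfl
theorem f50909 : Led Lsl_dt (LP (LK LD1_c4 LD2_c1 LD3_c2)) = (LP (LK LD1_c8 LD2_c2 LD3_c50)) :=
  Lre_d IH (LK LD1_c4 LD2_c1 LD3_c2) (LK LD1_c8 LD2_c2 LD3_c50) Lrfl Lrfl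
theorem f50916 : Led Lsl_cf (LP (LK LD1_c9 LD2_c33 LD3_c42)) = (LP (LK LD1_c8 LD2_c2 LD3_c50)) :=
  Lgr Lrot161 (Lpr_dt (f27601 IH) (Lpr_ct (K0.f27603 IH) (Lpr_af (f27609 IH) (Lpe (f50915 IH) (Lpr_dt (f50907 IH) (Lpr_ct (K9.f50885 IH) (Lpr_dt (f28796 IH) (Lpr_ct (f30937 IH) (Lpr_dt (f50909 IH) (Lpn (LP (LK LD1_c8 LD2_c2 LD3_c50))))))))))))
theorem f50929 : Led Lsl_ct (LP (LK LD1_c9 LD2_c33 LD3_c42)) = (LP (LK LD1_c8 LD2_c2 LD3_c50)) :=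
  Lgr Lrot59 (Lpr_cf (f50916 IH) (Lpn (LP (LK LD1_c8 LD2_c2 LD3_c50))))
theorem f52552 : Led Lsl_et (LP (LK LD1_c15 LD2_c21 LD3_c58)) = (LP (LK LD1_c9 LD2_c33 LD3_c42)) :=
  Lgr Lrot158 (Lpe (f27991 IH) (Lpr_ef (f52528 IH) (Lpe (f50929 IH) (Lpn (LP (LK LD1_c9 LD2_c33 LD3_c42))))))
theorem f52560 : Led Lsl_ef (LP (LK LD1_c15 LD2_c21 LD3_c58)) = (LP (LK LD1_c9 LD2_c33 LD3_c42)) :=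
  Lgr Lrot88 (Lpr_et (f52552 IH) (Lpn (LP (LK LD1_c9 LD2_c33 LD3_c42))))
theorem f51018 : Led Lsl_ft (LP (LK LD1_c15 LD2_c17 LD3_c27)) = (LP (LK LD1_c25 LD2_c7 LD3_c46)) :=
  Lre_f IH (LK LD1_c15 LD2_c17 LD3_c27) (LK LD1_c25 LD2_c7 LD3_c46) Lrfl Lrfl
theorem f51028 : Led Lsl_dt (LP (LK LD1_c25 LD2_c7 LD3_c45)) = (LP (LK LD1_c15 LD2_c17 LD3_c27)) :=
  Lre_d IH (LK LD1_c25 LD2_c7 LD3_c45) (LK LD1_c15 LD2_c17 LD3_c27) Lrfl Lrfl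
theorem f52356 : Led Lsl_ff (LP (LK LD1_c25 LD2_c7 LD3_c45)) = (LP (LK LD1_c15 LD2_c21 LD3_c58)) :=
  Lgr Lrot19 (Lpr_dt (f51028 IH) (Lpr_ft (f51018 IH) (Lpr_dt (f52350 IH) (Lpn (LP (LK LD1_c15 LD2_c21 LD3_c58))))))
theorem f50933 : Led Lsl_ft (LP (LK LD1_c9 LD2_c33 LD3_c42)) = (LP (LK LD1_c4 LD2_c50 LD3_c44)) :=
  Lre_f IH (LK LD1_c9 LD2_c33 LD3_c42) (LK LD1_c4 LD2_c50 LD3_c44) Lrfl Lrfl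
theorem f50934 : Led Lsl_ct (LP (LK LD1_c4 LD2_c50 LD3_c44)) = (LP (LK LD1_c9 LD2_c33 LD3_c41)) :=
  Lre_c IH (LK LD1_c4 LD2_c50 LD3_c44) (LK LD1_c9 LD2_c33 LD3_c41) Lrfl Lrfl
theorem f50935 : Led Lsl_ft (LP (LK LD1_c9 LD2_c33 LD3_c41)) = (LP (LK LD1_c8 LD2_c2 LD3_c50)) :=
  Lgr Lrot4 (Lpe (f50934 IH) (Lpe (f50933 IH) (Lpr_cf (f50916 IH) (Lpn (LP (LK LD1_c8 LD2_c2 LD3_c50))))))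
theorem f50951 : Led Lsl_ff (LP (LK LD1_c9 LD2_c33 LD3_c41)) = (LP (LK LD1_c8 LD2_c2 LD3_c50)) :=
  Lgr Lrot3 (Lpr_ft (f50935 IH) (Lpn (LP (LK LD1_c8 LD2_c2 LD3_c50))))
theorem f50920 : Led Lsl_at (LP (LK LD1_c4 LD2_c3 LD3_c16)) = (LP (LK LD1_c8 LD2_c2 LD3_c50)) :=
  Lre_a IH (LK LD1_c4 LD2_c3 LD3_c16) (LK LD1_c8 LD2_c2 LD3_c50) Lrfl Lrfl
theorem f50964 : Led Lsl_ft (LP (LK LD1_c8 LD2_c7 LD3_c12)) = (LP (LK LD1_c4 LD2_c3 LD3_c16)) :=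
  Lre_f IH (LK LD1_c8 LD2_c7 LD3_c12) (LK LD1_c4 LD2_c3 LD3_c16) Lrfl Lrfl
theorem f50965 : Led Lsl_at (LP (LK LD1_c9 LD2_c33 LD3_c41)) = (LP (LK LD1_c8 LD2_c7 LD3_c12)) :=
  Lgr Lrot66 (Lpr_ff (f50951 IH) (Lpe (f50920 IH) (Lpe (f50964 IH) (Lpn (LP (LK LD1_c8 LD2_c7 LD3_c12))))))
theorem f31023 : Led Lsl_dt (LP (LK LD1_c8 LD2_c2 LD3_c50)) = (LP (LK LD1_c4 LD2_c1 LD3_c2)) :=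
  Lre_d IH (LK LD1_c8 LD2_c2 LD3_c50) (LK LD1_c4 LD2_c1 LD3_c2) Lrfl Lrfl
theorem f31012 : Led Lsl_ct (LP (LK LD1_c4 LD2_c1 LD3_c2)) = (LP (LK LD1_c1 LD2_c57 LD3_c19)) :=
  Lre_c IH (LK LD1_c4 LD2_c1 LD3_c2) (LK LD1_c1 LD2_c57 LD3_c19) Lrfl Lrfl
theorem f30998 : Led Lsl_dt (LP (LK LD1_c1 LD2_c57 LD3_c19)) = (LP (LK LD1_c0 LD2_c55 LD3_c29)) :=
  Lre_d IH (LK LD1_c1 LD2_c57 LD3_c19) (LK LD1_c0 LD2_c55 LD3_c29) Lrfl Lrfl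
theorem f27917 : Led Lsl_et (LP (LK LD1_c0 LD2_c25 LD3_c10)) = (LP (LK LD1_c0 LD2_c55 LD3_c29)) :=
  Lre_e IH (LK LD1_c0 LD2_c25 LD3_c10) (LK LD1_c0 LD2_c55 LD3_c29) Lrfl Lrfl
theorem f27918 : Led Lsl_ct (LP (LK LD1_c0 LD2_c55 LD3_c29)) = (LP (LK LD1_c0 LD2_c26 LD3_c61)) :=
  Lgr Lrot15 (Lpe (f27917 IH) (Lpr_cf (K0.f27806 IH) (Lpe (K0.f8098 IH) (Lpn (LP (LK LD1_c0 LD2_c26 LD3_c61))))))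
theorem f8099 : Led Lsl_dt (LP (LK LD1_c0 LD2_c26 LD3_c61)) = (LP (LK LD1_c0 LD2_c59 LD3_c17)) :=
  Lre_d IH (LK LD1_c0 LD2_c26 LD3_c61) (LK LD1_c0 LD2_c59 LD3_c17) Lrfl Lrfl
theorem f27599 : Led Lsl_ct (LP (LK LD1_c0 LD2_c59 LD3_c17)) = (LP (LK LD1_c2 LD2_c4 LD3_c34)) :=
  Lre_c IH (LK LD1_c0 LD2_c59 LD3_c17) (LK LD1_c2 LD2_c4 LD3_c34) Lrfl Lrfl
theorem f27600 : Led Lsl_dt (LP (LK LD1_c2 LD2_c4 LD3_c34)) = (LP (LK LD1_c4 LD2_c14 LD3_c24)) :=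
  Lre_d IH (LK LD1_c2 LD2_c4 LD3_c34) (LK LD1_c4 LD2_c14 LD3_c24) Lrfl Lrfl
theorem f50974 : Led Lsl_cf (LP (LK LD1_c8 LD2_c7 LD3_c12)) = (LP (LK LD1_c4 LD2_c14 LD3_c24)) :=
  Lgr Lrot102 (Lpe (f50965 IH) (Lpr_ff (f50951 IH) (Lpr_dt (f31023 IH) (Lpr_ct (f31012 IH) (Lpr_dt (f30998 IH) (Lpr_ct (f27918 IH) (Lpr_dt (f8099 IH) (Lpr_ct (f27599 IH) (Lpr_dt (f27600 IH) (Lpn (LP (LK LD1_c4 LD2_c14 LD3_c24))))))))))))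
theorem f50982 : Led Lsl_ct (LP (LK LD1_c4 LD2_c3 LD3_c16)) = (LP (LK LD1_c8 LD2_c7 LD3_c10)) :=
  Lre_c IH (LK LD1_c4 LD2_c3 LD3_c16) (LK LD1_c8 LD2_c7 LD3_c10) Lrfl Lrfl
theorem f50983 : Led Lsl_ft (LP (LK LD1_c8 LD2_c7 LD3_c10)) = (LP (LK LD1_c4 LD2_c14 LD3_c24)) :=
  Lgr Lrot4 (Lpe (f50982 IH) (Lpe (f50964 IH) (Lpr_cf (f50974 IH) (Lpn (LP (LK LD1_c4 LD2_c14 LD3_c24))))))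
theorem f51000 : Led Lsl_ff (LP (LK LD1_c8 LD2_c7 LD3_c10)) = (LP (LK LD1_c4 LD2_c14 LD3_c24)) :=
  Lgr Lrot3 (Lpr_ft (f50983 IH) (Lpn (LP (LK LD1_c4 LD2_c14 LD3_c24))))
theorem f51014 : Led Lsl_ft (LP (LK LD1_c4 LD2_c14 LD3_c25)) = (LP (LK LD1_c2 LD2_c4 LD3_c34)) :=
  Lre_f IH (LK LD1_c4 LD2_c14 LD3_c25) (LK LD1_c2 LD2_c4 LD3_c34) Lrfl Lrfl
theorem f51015 : Led Lsl_dt (LP (LK LD1_c8 LD2_c7 LD3_c10)) = (LP (LK LD1_c4 LD2_c14 LD3_c25)) :=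
  Lgr Lrot60 (Lpr_ff (f51000 IH) (Lpe (f27600 IH) (Lpe (f51014 IH) (Lpn (LP (LK LD1_c4 LD2_c14 LD3_c25))))))
theorem f50994 : Led Lsl_et (LP (LK LD1_c15 LD2_c17 LD3_c27)) = (LP (LK LD1_c8 LD2_c7 LD3_c10)) :=
  Lre_e IH (LK LD1_c15 LD2_c17 LD3_c27) (LK LD1_c8 LD2_c7 LD3_c10) Lrfl Lrfl
theorem f51008 : Led Lsl_et (LP (LK LD1_c4 LD2_c14 LD3_c25)) = (LP (LK LD1_c8 LD2_c27 LD3_c35)) :=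
  Lre_e IH (LK LD1_c4 LD2_c14 LD3_c25) (LK LD1_c8 LD2_c27 LD3_c35) Lrfl Lrfl
theorem f27524 : Led Lsl_dt (LP (LK LD1_c8 LD2_c27 LD3_c35)) = (LP (LK LD1_c15 LD2_c53 LD3_c9)) :=
  Lre_d IH (LK LD1_c8 LD2_c27 LD3_c35) (LK LD1_c15 LD2_c53 LD3_c9) Lrfl Lrfl
theorem f51029 : Led Lsl_ef (LP (LK LD1_c25 LD2_c7 LD3_c45)) = (LP (LK LD1_c15 LD2_c53 LD3_c9)) :=
  Lgr Lrot73 (Lpr_dt (f51028 IH) (Lpr_et (f50994 IH) (Lpr_dt (f51015 IH) (Lpr_et (f51008 IH) (Lpr_dt (f27524 IH) (Lpn (LP (LK LD1_c15 LD2_c53 LD3_c9))))))))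
theorem f51055 : Led Lsl_et (LP (LK LD1_c25 LD2_c7 LD3_c45)) = (LP (LK LD1_c15 LD2_c53 LD3_c9)) :=
  Lgr Lrot87 (Lpr_ef (f51029 IH) (Lpn (LP (LK LD1_c15 LD2_c53 LD3_c9))))
theorem f27529 : Led Lsl_ft (LP (LK LD1_c15 LD2_c53 LD3_c9)) = (LP (LK LD1_c8 LD2_c28 LD3_c35)) :=
  Lre_f IH (LK LD1_c15 LD2_c53 LD3_c9) (LK LD1_c8 LD2_c28 LD3_c35) Lrfl Lrfl
theorem f50970 : Led Lsl_ft (LP (LK LD1_c4 LD2_c50 LD3_c44)) = (LP (LK LD1_c9 LD2_c33 LD3_c42)) :=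
  Lre_f IH (LK LD1_c4 LD2_c50 LD3_c44) (LK LD1_c9 LD2_c33 LD3_c42) Lrfl Lrfl
theorem f52566 : Led Lsl_et (LP (LK LD1_c8 LD2_c28 LD3_c35)) = (LP (LK LD1_c4 LD2_c50 LD3_c44)) :=
  Lgr Lrot69 (Lpe (f27529 IH) (Lpe (f51055 IH) (Lpr_ff (f52356 IH) (Lpr_ef (f52560 IH) (Lpe (f50970 IH) (Lpn (LP (LK LD1_c4 LD2_c50 LD3_c44))))))))
theorem f52578 : Led Lsl_ef (LP (LK LD1_c8 LD2_c28 LD3_c35)) = (LP (LK LD1_c4 LD2_c50 LD3_c44)) :=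
  Lgr Lrot88 (Lpr_et (f52566 IH) (Lpn (LP (LK LD1_c4 LD2_c50 LD3_c44))))
theorem f27466 : Led Lsl_ft (LP (LK LD1_c8 LD2_c28 LD3_c35)) = (LP (LK LD1_c15 LD2_c53 LD3_c9)) :=
  Lre_f IH (LK LD1_c8 LD2_c28 LD3_c35) (LK LD1_c15 LD2_c53 LD3_c9) Lrfl Lrfl
theorem f52590 : Led Lsl_ft (LP (LK LD1_c25 LD2_c7 LD3_c45)) = (LP (LK LD1_c15 LD2_c21 LD3_c58)) :=
  Lgr Lrot86 (Lpr_ef (f51029 IH) (Lpe (f27466 IH) (Lpr_ef (f52578 IH) (Lpe (f50933 IH) (Lpe (f52552 IH) (Lpn (LP (LK LD1_c15 LD2_c21 LD3_c58))))))))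
theorem f27997 : Led Lsl_ft (LP (LK LD1_c8 LD2_c9 LD3_c27)) = (LP (LK LD1_c15 LD2_c17 LD3_c31)) :=
  Lre_f IH (LK LD1_c8 LD2_c9 LD3_c27) (LK LD1_c15 LD2_c17 LD3_c31) Lrfl Lrfl
theorem f52597 : Led Lsl_cf (LP (LK LD1_c25 LD2_c7 LD3_c45)) = (LP (LK LD1_c15 LD2_c17 LD3_c31)) :=
  Lgr Lrot108 (Lpr_ft (f52590 IH) (Lpr_ct (f27988 IH) (Lpr_ft (f27997 IH) (Lpn (LP (LK LD1_c15 LD2_c17 LD3_c31))))))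
theorem f52381 : Led Lsl_af (LP (LK LD1_c15 LD2_c17 LD3_c30)) = (LP (LK LD1_c15 LD2_c17 LD3_c31)) :=
  Lgr Lrot45 (Lpr_ft (f52349 IH) (Lpr_at (f52362 IH) (Lpr_ft (f27997 IH) (Lpn (LP (LK LD1_c15 LD2_c17 LD3_c31))))))
theorem f52387 : Led Lsl_at (LP (LK LD1_c15 LD2_c17 LD3_c30)) = (LP (LK LD1_c15 LD2_c17 LD3_c31)) :=
  Lgr Lrot100 (Lpr_af (f52381 IH) (Lpn (LP (LK LD1_c15 LD2_c17 LD3_c31))))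
theorem f51237 : Led Lsl_ct (LP (LK LD1_c25 LD2_c7 LD3_c46)) = (LP (LK LD1_c15 LD2_c17 LD3_c30)) :=
  Lre_c IH (LK LD1_c25 LD2_c7 LD3_c46) (LK LD1_c15 LD2_c17 LD3_c30) Lrfl Lrfl
theorem f52610 : Led Lsl_at (LP (LK LD1_c25 LD2_c7 LD3_c45)) = (LP (LK LD1_c25 LD2_c7 LD3_c46)) :=
  Lgr Lrot107 (Lpr_cf (f52597 IH) (Lpe (f52387 IH) (Lpe (f51237 IH) (Lpn (LP (LK LD1_c25 LD2_c7 LD3_c46))))))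
theorem f51017 : Led Lsl_et (LP (LK LD1_c8 LD2_c7 LD3_c10)) = (LP (LK LD1_c15 LD2_c17 LD3_c27)) :=
  Lre_e IH (LK LD1_c8 LD2_c7 LD3_c10) (LK LD1_c15 LD2_c17 LD3_c27) Lrfl Lrfl
theorem f50981 : Led Lsl_et (LP (LK LD1_c8 LD2_c27 LD3_c34)) = (LP (LK LD1_c4 LD2_c14 LD3_c24)) :=
  Lre_e IH (LK LD1_c8 LD2_c27 LD3_c34) (LK LD1_c4 LD2_c14 LD3_c24) Lrfl Lrfl
theorem f51019 : Led Lsl_ft (LP (LK LD1_c15 LD2_c53 LD3_c8)) = (LP (LK LD1_c8 LD2_c27 LD3_c34)) :=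
  Lre_f IH (LK LD1_c15 LD2_c53 LD3_c8) (LK LD1_c8 LD2_c27 LD3_c34) Lrfl Lrfl
theorem f51020 : Led Lsl_et (LP (LK LD1_c25 LD2_c7 LD3_c46)) = (LP (LK LD1_c15 LD2_c53 LD3_c8)) :=
  Lgr Lrot69 (Lpe (f51018 IH) (Lpe (f51017 IH) (Lpr_ff (f51000 IH) (Lpe (f50981 IH) (Lpe (f51019 IH) (Lpn (LP (LK LD1_c15 LD2_c53 LD3_c8))))))))
theorem f52613 : Led Lsl_af (LP (LK LD1_c15 LD2_c53 LD3_c9)) = (LP (LK LD1_c15 LD2_c53 LD3_c8)) :=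
  Lgr Lrot50 (Lpe (f51029 IH) (Lpr_at (f52610 IH) (Lpr_et (f51020 IH) (Lpn (LP (LK LD1_c15 LD2_c53 LD3_c8))))))
theorem f27522 : Led Lsl_dt (LP (LK LD1_c15 LD2_c53 LD3_c9)) = (LP (LK LD1_c8 LD2_c27 LD3_c35)) :=
  Lre_d IH (LK LD1_c15 LD2_c53 LD3_c9) (LK LD1_c8 LD2_c27 LD3_c35) Lrfl Lrfl
theorem f51238 : Led Lsl_dt (LP (LK LD1_c8 LD2_c28 LD3_c34)) = (LP (LK LD1_c15 LD2_c53 LD3_c8)) :=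
  Lre_d IH (LK LD1_c8 LD2_c28 LD3_c34) (LK LD1_c15 LD2_c53 LD3_c8) Lrfl Lrfl
theorem f52619 : Led Lsl_at (LP (LK LD1_c8 LD2_c27 LD3_c35)) = (LP (LK LD1_c8 LD2_c28 LD3_c34)) :=
  Lgr Lrot51 (Lpe (f27522 IH) (Lpr_af (f52613 IH) (Lpe (f51238 IH) (Lpn (LP (LK LD1_c8 LD2_c28 LD3_c34))))))
theorem f52632 : Led Lsl_ft (LP (LK LD1_c4 LD2_c14 LD3_c52)) = (LP (LK LD1_c8 LD2_c27 LD3_c35)) :=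
  Lre_f IH (LK LD1_c4 LD2_c14 LD3_c52) (LK LD1_c8 LD2_c27 LD3_c35) Lrfl Lrfl
theorem f52633 : Led Lsl_ft (LP (LK LD1_c8 LD2_c28 LD3_c34)) = (LP (LK LD1_c4 LD2_c14 LD3_c51)) :=
  Lre_f IH (LK LD1_c8 LD2_c28 LD3_c34) (LK LD1_c4 LD2_c14 LD3_c51) Lrfl Lrfl
theorem f52634 : Led Lsl_af (LP (LK LD1_c4 LD2_c14 LD3_c52)) = (LP (LK LD1_c4 LD2_c14 LD3_c51)) :=
  Lgr Lrot45 (Lpr_ft (f52632 IH) (Lpr_at (f52619 IH) (Lpr_ft (f52633 IH) (Lpn (LP (LK LD1_c4 LD2_c14 LD3_c51))))))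
theorem f52587 : Led Lsl_et (LP (LK LD1_c4 LD2_c14 LD3_c52)) = (LP (LK LD1_c2 LD2_c4 LD3_c47)) :=
  Lre_e IH (LK LD1_c4 LD2_c14 LD3_c52) (LK LD1_c2 LD2_c4 LD3_c47) Lrfl Lrfl
theorem f52643 : Led Lsl_et (LP (LK LD1_c2 LD2_c4 LD3_c46)) = (LP (LK LD1_c4 LD2_c14 LD3_c51)) :=
  Lre_e IH (LK LD1_c2 LD2_c4 LD3_c46) (LK LD1_c4 LD2_c14 LD3_c51) Lrfl Lrfl
theorem f52644 : Led Lsl_at (LP (LK LD1_c2 LD2_c4 LD3_c47)) = (LP (LK LD1_c2 LD2_c4 LD3_c46)) :=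
  Lgr Lrot80 (Lpe (f52587 IH) (Lpr_af (f52634 IH) (Lpe (f52643 IH) (Lpn (LP (LK LD1_c2 LD2_c4 LD3_c46))))))
theorem f52656 : Led Lsl_ft (LP (LK LD1_c0 LD2_c59 LD3_c23)) = (LP (LK LD1_c2 LD2_c4 LD3_c47)) :=
  Lre_f IH (LK LD1_c0 LD2_c59 LD3_c23) (LK LD1_c2 LD2_c4 LD3_c47) Lrfl Lrfl
theorem f27675 : Led Lsl_at (LP (LK LD1_c2 LD2_c4 LD3_c2)) = (LP (LK LD1_c0 LD2_c59 LD3_c23)) :=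
  Lre_a IH (LK LD1_c2 LD2_c4 LD3_c2) (LK LD1_c0 LD2_c59 LD3_c23) Lrfl Lrfl
theorem f52657 : Led Lsl_ff (LP (LK LD1_c2 LD2_c4 LD3_c2)) = (LP (LK LD1_c2 LD2_c4 LD3_c46)) :=
  Lgr Lrot30 (Lpr_at (f27675 IH) (Lpr_ft (f52656 IH) (Lpr_at (f52644 IH) (Lpn (LP (LK LD1_c2 LD2_c4 LD3_c46))))))
theorem f52665 : Led Lsl_ft (LP (LK LD1_c2 LD2_c4 LD3_c2)) = (LP (LK LD1_c2 LD2_c4 LD3_c46)) :=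
  Lgr Lrot48 (Lpr_ff (f52657 IH) (Lpn (LP (LK LD1_c2 LD2_c4 LD3_c46))))
theorem f27453 : Led Lsl_dt (LP (LK LD1_c4 LD2_c14 LD3_c52)) = (LP (LK LD1_c8 LD2_c28 LD3_c35)) :=
  Lre_d IH (LK LD1_c4 LD2_c14 LD3_c52) (LK LD1_c8 LD2_c28 LD3_c35) Lrfl Lrfl
theorem f52575 : Led Lsl_et (LP (LK LD1_c2 LD2_c4 LD3_c47)) = (LP (LK LD1_c4 LD2_c14 LD3_c52)) :=
  Lre_e IH (LK LD1_c2 LD2_c4 LD3_c47) (LK LD1_c4 LD2_c14 LD3_c52) Lrfl Lrfl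
theorem f27648 : Led Lsl_dt (LP (LK LD1_c4 LD2_c50 LD3_c44)) = (LP (LK LD1_c2 LD2_c23 LD3_c9)) :=
  Lre_d IH (LK LD1_c4 LD2_c50 LD3_c44) (LK LD1_c2 LD2_c23 LD3_c9) Lrfl Lrfl
theorem f52576 : Led Lsl_df (LP (LK LD1_c2 LD2_c4 LD3_c47)) = (LP (LK LD1_c2 LD2_c4 LD3_c2)) :=
  Lgr Lrot70 (Lpr_et (f52575 IH) (Lpr_dt (f27453 IH) (Lpr_et (f52566 IH) (Lpr_dt (f27648 IH) (Lpr_et (K0.f27664 IH) (Lpn (LP (LK LD1_c2 LD2_c4 LD3_c2))))))))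
theorem f52675 : Led Lsl_ct (LP (LK LD1_c2 LD2_c4 LD3_c47)) = (LP (LK LD1_c0 LD2_c59 LD3_c24)) :=
  Lre_c IH (LK LD1_c2 LD2_c4 LD3_c47) (LK LD1_c0 LD2_c59 LD3_c24) Lrfl Lrfl
theorem f27459 : Led Lsl_dt (LP (LK LD1_c0 LD2_c59 LD3_c24)) = (LP (LK LD1_c0 LD2_c27 LD3_c2)) :=
  Lre_d IH (LK LD1_c0 LD2_c59 LD3_c24) (LK LD1_c0 LD2_c27 LD3_c2) Lrfl Lrfl
theorem f27482 : Led Lsl_ct (LP (LK LD1_c0 LD2_c27 LD3_c2)) = (LP (LK LD1_c0 LD2_c11 LD3_c61)) :=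
  Lre_c IH (LK LD1_c0 LD2_c27 LD3_c2) (LK LD1_c0 LD2_c11 LD3_c61) Lrfl Lrfl
theorem f52646 : Led Lsl_af (LP (LK LD1_c2 LD2_c4 LD3_c47)) = (LP (LK LD1_c2 LD2_c4 LD3_c46)) :=
  Lgr Lrot0 (Lpr_at (f52644 IH) (Lpn (LP (LK LD1_c2 LD2_c4 LD3_c46))))
theorem f52654 : Led Lsl_ct (LP (LK LD1_c0 LD2_c59 LD3_c24)) = (LP (LK LD1_c2 LD2_c4 LD3_c47)) :=
  Lre_c IH (LK LD1_c0 LD2_c59 LD3_c24) (LK LD1_c2 LD2_c4 LD3_c47) Lrfl Lrfl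
theorem f27461 : Led Lsl_dt (LP (LK LD1_c0 LD2_c27 LD3_c2)) = (LP (LK LD1_c0 LD2_c59 LD3_c24)) :=
  Lre_d IH (LK LD1_c0 LD2_c27 LD3_c2) (LK LD1_c0 LD2_c59 LD3_c24) Lrfl Lrfl
theorem f27481 : Led Lsl_ct (LP (LK LD1_c0 LD2_c11 LD3_c61)) = (LP (LK LD1_c0 LD2_c27 LD3_c2)) :=
  Lre_c IH (LK LD1_c0 LD2_c11 LD3_c61) (LK LD1_c0 LD2_c27 LD3_c2) Lrfl Lrfl
theorem f52676 : Led Lsl_dt (LP (LK LD1_c0 LD2_c11 LD3_c61)) = (LP (LK LD1_c0 LD2_c11 LD3_c61)) :=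
  Lgr Lrot140 (Lpe (f27482 IH) (Lpe (f27459 IH) (Lpe (f52675 IH) (Lpr_df (f52576 IH) (Lpr_ft (f52665 IH) (Lpe (f52646 IH) (Lpe (f52654 IH) (Lpe (f27461 IH) (Lpe (f27481 IH) (Lpn (LP (LK LD1_c0 LD2_c11 LD3_c61))))))))))))
theorem f27660 : Led Lsl_ct (LP (LK LD1_c0 LD2_c59 LD3_c1)) = (LP (LK LD1_c2 LD2_c4 LD3_c2)) :=
  Lre_c IH (LK LD1_c0 LD2_c59 LD3_c1) (LK LD1_c2 LD2_c4 LD3_c2) Lrfl Lrfl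
theorem f27693 : Led Lsl_dt (LP (LK LD1_c0 LD2_c26 LD3_c52)) = (LP (LK LD1_c0 LD2_c59 LD3_c1)) :=
  Lre_d IH (LK LD1_c0 LD2_c26 LD3_c52) (LK LD1_c0 LD2_c59 LD3_c1) Lrfl Lrfl
theorem f52678 : Led Lsl_ct (LP (LK LD1_c0 LD2_c11 LD3_c55)) = (LP (LK LD1_c0 LD2_c26 LD3_c52)) :=
  Lre_c IH (LK LD1_c0 LD2_c11 LD3_c55) (LK LD1_c0 LD2_c26 LD3_c52) Lrfl Lrfl
theorem f27456 : Led Lsl_dt (LP (LK LD1_c8 LD2_c28 LD3_c35)) = (LP (LK LD1_c4 LD2_c14 LD3_c52)) :=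
  Lre_d IH (LK LD1_c8 LD2_c28 LD3_c35) (LK LD1_c4 LD2_c14 LD3_c52) Lrfl Lrfl
theorem f27663 : Led Lsl_dt (LP (LK LD1_c2 LD2_c23 LD3_c9)) = (LP (LK LD1_c4 LD2_c50 LD3_c44)) :=
  Lre_d IH (LK LD1_c2 LD2_c23 LD3_c9) (LK LD1_c4 LD2_c50 LD3_c44) Lrfl Lrfl
theorem f52588 : Led Lsl_dt (LP (LK LD1_c2 LD2_c4 LD3_c47)) = (LP (LK LD1_c2 LD2_c4 LD3_c2)) :=
  Lgr Lrot77 (Lpe (f52587 IH) (Lpe (f27456 IH) (Lpr_ef (f52578 IH) (Lpe (f27663 IH) (Lpr_ef (K0.f27653 IH) (Lpn (LP (LK LD1_c2 LD2_c4 LD3_c2))))))))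
theorem f27694 : Led Lsl_dt (LP (LK LD1_c0 LD2_c59 LD3_c1)) = (LP (LK LD1_c0 LD2_c26 LD3_c52)) :=
  Lre_d IH (LK LD1_c0 LD2_c59 LD3_c1) (LK LD1_c0 LD2_c26 LD3_c52) Lrfl Lrfl
theorem f52679 : Led Lsl_ct (LP (LK LD1_c0 LD2_c26 LD3_c52)) = (LP (LK LD1_c0 LD2_c11 LD3_c55)) :=
  Lre_c IH (LK LD1_c0 LD2_c26 LD3_c52) (LK LD1_c0 LD2_c11 LD3_c55) Lrfl Lrfl
theorem f52680 : Led Lsl_df (LP (LK LD1_c0 LD2_c11 LD3_c55)) = (LP (LK LD1_c0 LD2_c11 LD3_c55)) :=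
  Lgr Lrot43 (Lpr_ct (f52678 IH) (Lpr_dt (f27693 IH) (Lpr_ct (f27660 IH) (Lpe (f52576 IH) (Lpr_ct (f52675 IH) (Lpr_dt (f27459 IH) (Lpr_ct (f27482 IH) (Lpr_dt (f52676 IH) (Lpr_ct (f27481 IH) (Lpr_dt (f27461 IH) (Lpr_ct (f52654 IH) (Lpr_dt (f52588 IH) (Lpr_ct (K0.f27679 IH) (Lpr_dt (f27694 IH) (Lpr_ct (f52679 IH) (Lpn (LP (LK LD1_c0 LD2_c11 LD3_c55))))))))))))))))))
theorem f27757 : Led Lsl_et (LP (LK LD1_c0 LD2_c11 LD3_c55)) = (LP (LK LD1_c0 LD2_c5 LD3_c29)) :=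
  Lre_e IH (LK LD1_c0 LD2_c11 LD3_c55) (LK LD1_c0 LD2_c5 LD3_c29) Lrfl Lrfl
theorem f32069 : Led Lsl_gt (LP (LK LD1_c0 LD2_c12 LD3_c16)) = (LP (LK LD1_c0 LD2_c27 LD3_c43)) :=
  Lre_g IH (LK LD1_c0 LD2_c12 LD3_c16) (LK LD1_c0 LD2_c27 LD3_c43) Lrfl Lrfl
theorem f180110 : Led Lsl_et (LP (LK LD1_c0 LD2_c27 LD3_c33)) = (LP (LK LD1_c0 LD2_c27 LD3_c43)) :=
  Lgr Lrot122 (Lpr_dt (f180103 IH) (Lpr_gt (K9.f180097 IH) (Lpr_df (f52680 IH) (Lpr_et (f27757 IH) (Lpe (K0.f27759 IH) (Lpe (K1.f28200 IH) (Lpe (K0.f8255 IH) (Lpe (K0.f28449 IH) (Lpr_et (K0.f28451 IH) (Lpr_gt (f32069 IH) (Lpn (LP (LK LD1_c0 LD2_c27 LD3_c43)))))))))))))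
theorem f180251 : Led Lsl_bt (LP (LK LD1_c0 LD2_c27 LD3_c43)) = (LP (LK LD1_c0 LD2_c14 LD3_c19)) :=
  Lgr Lrot119 (Lpe (f180110 IH) (Lpe (f180112 IH) (Lpr_ef (K9.f180249 IH) (Lpn (LP (LK LD1_c0 LD2_c14 LD3_c19))))))
theorem f32073 : Led Lsl_ct (LP (LK LD1_c0 LD2_c27 LD3_c43)) = (LP (LK LD1_c1 LD2_c0 LD3_c49)) :=
  Lre_c IH (LK LD1_c0 LD2_c27 LD3_c43) (LK LD1_c1 LD2_c0 LD3_c49) Lrfl Lrfl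
theorem f28678 : Led Lsl_bt (LP (LK LD1_c1 LD2_c1 LD3_c7)) = (LP (LK LD1_c2 LD2_c7 LD3_c57)) :=
  Lre_b IH (LK LD1_c1 LD2_c1 LD3_c7) (LK LD1_c2 LD2_c7 LD3_c57) Lrfl Lrfl
theorem f28679 : Led Lsl_ct (LP (LK LD1_c0 LD2_c55 LD3_c6)) = (LP (LK LD1_c1 LD2_c1 LD3_c7)) :=
  Lgr Lrot83 (Lpe (K0.f28616 IH) (Lpe (K0.f28622 IH) (Lpe (K0.f28623 IH) (Lpr_cf (K0.f28670 IH) (Lpe (f28678 IH) (Lpn (LP (LK LD1_c1 LD2_c1 LD3_c7))))))))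
theorem f187897 : Led Lsl_gt (LP (LK LD1_c1 LD2_c0 LD3_c49)) = (LP (LK LD1_c1 LD2_c1 LD3_c7)) :=
  Lgr Lrot65 (Lpe (f32073 IH) (Lpr_bt (f180251 IH) (Lpe (K9.f31444 IH) (Lpe (K1.f31531 IH) (Lpr_ct (K9.f31532 IH) (Lpr_gf (K9.f171653 IH) (Lpe (K9.f165184 IH) (Lpr_gf (f187889 IH) (Lpr_bf (K0.f28620 IH) (Lpr_ct (f28679 IH) (Lpn (LP (LK LD1_c1 LD2_c1 LD3_c7)))))))))))))
theorem f187901 : Led Lsl_gf (LP (LK LD1_c1 LD2_c0 LD3_c49)) = (LP (LK LD1_c0 LD2_c27 LD3_c52)) :=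
  Lgr Lrot47 (Lpr_gt (f187897 IH) (Lpe (K0.f31207 IH) (Lpe (K0.f31124 IH) (Lpn (LP (LK LD1_c0 LD2_c27 LD3_c52))))))
theorem f180118 : Led Lsl_ef (LP (LK LD1_c0 LD2_c27 LD3_c33)) = (LP (LK LD1_c0 LD2_c27 LD3_c43)) :=
  Lgr Lrot88 (Lpr_et (f180110 IH) (Lpn (LP (LK LD1_c0 LD2_c27 LD3_c43))))
theorem f170294 : Led Lsl_ct (LP (LK LD1_c0 LD2_c27 LD3_c33)) = (LP (LK LD1_c1 LD2_c0 LD3_c32)) :=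
  Lre_c IH (LK LD1_c0 LD2_c27 LD3_c33) (LK LD1_c1 LD2_c0 LD3_c32) Lrfl Lrfl
theorem f32093 : Led Lsl_ct (LP (LK LD1_c1 LD2_c0 LD3_c49)) = (LP (LK LD1_c0 LD2_c27 LD3_c43)) :=
  Lre_c IH (LK LD1_c1 LD2_c0 LD3_c49) (LK LD1_c0 LD2_c27 LD3_c43) Lrfl Lrfl
theorem f180120 : Led Lsl_et (LP (LK LD1_c1 LD2_c0 LD3_c32)) = (LP (LK LD1_c1 LD2_c0 LD3_c49)) :=
  Lgr Lrot158 (Lpe (f170294 IH) (Lpr_ef (f180118 IH) (Lpe (f32093 IH) (Lpn (LP (LK LD1_c1 LD2_c0 LD3_c49))))))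
theorem f28152 : Led Lsl_gt (LP (LK LD1_c1 LD2_c57 LD3_c22)) = (LP (LK LD1_c0 LD2_c55 LD3_c30)) :=
  Lre_g IH (LK LD1_c1 LD2_c57 LD3_c22) (LK LD1_c0 LD2_c55 LD3_c30) Lrfl Lrfl
theorem f187913 : Led Lsl_dt (LP (LK LD1_c1 LD2_c0 LD3_c32)) = (LP (LK LD1_c1 LD2_c57 LD3_c22)) :=
  Lgr Lrot136 (Lpr_et (f180120 IH) (Lpr_gf (f187901 IH) (Lpe (K0.f31115 IH) (Lpr_dt (K0.f30829 IH) (Lpe (K1.f44027 IH) (Lpe (K1.f27830 IH) (Lpr_gf (K1.f28149 IH) (Lpe (K1.f28134 IH) (Lpr_dt (f28151 IH) (Lpe (f28152 IH) (Lpn (LP (LK LD1_c1 LD2_c57 LD3_c22)))))))))))))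
theorem f31177 : Led Lsl_af (LP (LK LD1_c1 LD2_c1 LD3_c2)) = (LP (LK LD1_c1 LD2_c1 LD3_c6)) :=
  Lgr Lrot0 (Lpr_at (K0.f31174 IH) (Lpn (LP (LK LD1_c1 LD2_c1 LD3_c6))))
theorem f31132 : Led Lsl_gt (LP (LK LD1_c2 LD2_c7 LD3_c53)) = (LP (LK LD1_c1 LD2_c1 LD3_c2)) :=
  Lre_g IH (LK LD1_c2 LD2_c7 LD3_c53) (LK LD1_c1 LD2_c1 LD3_c2) Lrfl Lrfl
theorem f28704 : Led Lsl_ft (LP (LK LD1_c2 LD2_c7 LD3_c61)) = (LP (LK LD1_c1 LD2_c1 LD3_c6)) :=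
  Lre_f IH (LK LD1_c2 LD2_c7 LD3_c61) (LK LD1_c1 LD2_c1 LD3_c6) Lrfl Lrfl
theorem f31421 : Led Lsl_gf (LP (LK LD1_c2 LD2_c7 LD3_c53)) = (LP (LK LD1_c2 LD2_c7 LD3_c61)) :=
  Lgr Lrot47 (Lpr_gt (f31132 IH) (Lpr_af (f31177 IH) (Lpe (f28704 IH) (Lpn (LP (LK LD1_c2 LD2_c7 LD3_c61))))))
theorem f27977 : Led Lsl_gt (LP (LK LD1_c0 LD2_c56 LD3_c19)) = (LP (LK LD1_c1 LD2_c57 LD3_c22)) :=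
  Lre_g IH (LK LD1_c0 LD2_c56 LD3_c19) (LK LD1_c1 LD2_c57 LD3_c22) Lrfl Lrfl
theorem f170846 : Led Lsl_et (LP (LK LD1_c1 LD2_c9 LD3_c6)) = (LP (LK LD1_c0 LD2_c31 LD3_c35)) :=
  Lre_e IH (LK LD1_c1 LD2_c9 LD3_c6) (LK LD1_c0 LD2_c31 LD3_c35) Lrfl Lrfl
theorem f187923 : Led Lsl_df (LP (LK LD1_c2 LD2_c7 LD3_c53)) = (LP (LK LD1_c1 LD2_c9 LD3_c6)) :=
  Lgr Lrot132 (Lpr_gf (f31421 IH) (Lpe (K0.f28713 IH) (Lpe (f187897 IH) (Lpe (f180120 IH) (Lpr_dt (f187913 IH) (Lpe (f27977 IH) (Lpe (K9.f27966 IH) (Lpe (K1.f27951 IH) (Lpe (K9.f180241 IH) (Lpe (f170846 IH) (Lpn (LP (LK LD1_c1 LD2_c9 LD3_c6)))))))))))))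
theorem f187932 : Led Lsl_et (LP (LK LD1_c2 LD2_c7 LD3_c53)) = (LP (LK LD1_c4 LD2_c20 LD3_c48)) :=
  Lre_e IH (LK LD1_c2 LD2_c7 LD3_c53) (LK LD1_c4 LD2_c20 LD3_c48) Lrfl Lrfl
theorem f2881 : Led Lsl_dt (LP (LK LD1_c1 LD2_c9 LD3_c5)) = (LP (LK LD1_c0 LD2_c31 LD3_c35)) :=
  Lre_d IH (LK LD1_c1 LD2_c9 LD3_c5) (LK LD1_c0 LD2_c31 LD3_c35) Lrfl Lrfl
theorem f170706 : Led Lsl_et (LP (LK LD1_c2 LD2_c24 LD3_c8)) = (LP (LK LD1_c1 LD2_c9 LD3_c5)) :=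
  Lre_e IH (LK LD1_c2 LD2_c24 LD3_c8) (LK LD1_c1 LD2_c9 LD3_c5) Lrfl Lrfl
theorem f187933 : Led Lsl_dt (LP (LK LD1_c4 LD2_c20 LD3_c48)) = (LP (LK LD1_c2 LD2_c24 LD3_c8)) :=
  Lgr Lrot77 (Lpe (f187932 IH) (Lpr_df (f187923 IH) (Lpe (K9.f170687 IH) (Lpe (f2881 IH) (Lpe (f170706 IH) (Lpn (LP (LK LD1_c2 LD2_c24 LD3_c8))))))))
theorem f187940 : Led Lsl_ft (LP (LK LD1_c8 LD2_c39 LD3_c17)) = (LP (LK LD1_c4 LD2_c20 LD3_c48)) :=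
  Lre_f IH (LK LD1_c8 LD2_c39 LD3_c17) (LK LD1_c4 LD2_c20 LD3_c48) Lrfl Lrfl
theorem f170722 : Led Lsl_ft (LP (LK LD1_c2 LD2_c24 LD3_c8)) = (LP (LK LD1_c4 LD2_c52 LD3_c50)) :=
  Lre_f IH (LK LD1_c2 LD2_c24 LD3_c8) (LK LD1_c4 LD2_c52 LD3_c50) Lrfl Lrfl
theorem f187941 : Led Lsl_df (LP (LK LD1_c8 LD2_c39 LD3_c17)) = (LP (LK LD1_c4 LD2_c52 LD3_c50)) :=
  Lgr Lrot78 (Lpr_ft (f187940 IH) (Lpr_dt (f187933 IH) (Lpr_ft (f170722 IH) (Lpn (LP (LK LD1_c4 LD2_c52 LD3_c50))))))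
theorem f187962 : Led Lsl_dt (LP (LK LD1_c8 LD2_c39 LD3_c17)) = (LP (LK LD1_c4 LD2_c52 LD3_c50)) :=
  Lgr Lrot42 (Lpr_df (f187941 IH) (Lpn (LP (LK LD1_c4 LD2_c52 LD3_c50))))
theorem f53445 : Led Lsl_dt (LP (LK LD1_c2 LD2_c2 LD3_c16)) = (LP (LK LD1_c0 LD2_c58 LD3_c3)) :=
  Lre_d IH (LK LD1_c2 LD2_c2 LD3_c16) (LK LD1_c0 LD2_c58 LD3_c3) Lrfl Lrfl
theorem f170692 : Led Lsl_dt (LP (LK LD1_c0 LD2_c31 LD3_c35)) = (LP (LK LD1_c1 LD2_c9 LD3_c5)) :=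
  Lre_d IH (LK LD1_c0 LD2_c31 LD3_c35) (LK LD1_c1 LD2_c9 LD3_c5) Lrfl Lrfl
theorem f170693 : Led Lsl_bf (LP (LK LD1_c2 LD2_c2 LD3_c16)) = (LP (LK LD1_c1 LD2_c9 LD3_c5)) :=
  Lgr Lrot93 (Lpr_dt (f53445 IH) (Lpr_bt (K9.f170688 IH) (Lpr_dt (f170692 IH) (Lpn (LP (LK LD1_c1 LD2_c9 LD3_c5))))))
theorem f170705 : Led Lsl_et (LP (LK LD1_c2 LD2_c2 LD3_c16)) = (LP (LK LD1_c4 LD2_c10 LD3_c7)) :=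
  Lre_e IH (LK LD1_c2 LD2_c2 LD3_c16) (LK LD1_c4 LD2_c10 LD3_c7) Lrfl Lrfl
theorem f170707 : Led Lsl_bt (LP (LK LD1_c4 LD2_c10 LD3_c7)) = (LP (LK LD1_c2 LD2_c24 LD3_c8)) :=
  Lgr Lrot119 (Lpe (f170705 IH) (Lpr_bf (f170693 IH) (Lpe (f170706 IH) (Lpn (LP (LK LD1_c2 LD2_c24 LD3_c8))))))
theorem f170721 : Led Lsl_ft (LP (LK LD1_c8 LD2_c20 LD3_c29)) = (LP (LK LD1_c4 LD2_c10 LD3_c7)) :=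
  Lre_f IH (LK LD1_c8 LD2_c20 LD3_c29) (LK LD1_c4 LD2_c10 LD3_c7) Lrfl Lrfl
theorem f170723 : Led Lsl_bf (LP (LK LD1_c8 LD2_c20 LD3_c29)) = (LP (LK LD1_c4 LD2_c52 LD3_c50)) :=
  Lgr Lrot61 (Lpr_ft (f170721 IH) (Lpr_bt (f170707 IH) (Lpr_ft (f170722 IH) (Lpn (LP (LK LD1_c4 LD2_c52 LD3_c50))))))
theorem f170738 : Led Lsl_dt (LP (LK LD1_c8 LD2_c20 LD3_c29)) = (LP (LK LD1_c15 LD2_c41 LD3_c61)) :=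
  Lre_d IH (LK LD1_c8 LD2_c20 LD3_c29) (LK LD1_c15 LD2_c41 LD3_c61) Lrfl Lrfl
theorem f187965 : Led Lsl_bf (LP (LK LD1_c8 LD2_c39 LD3_c17)) = (LP (LK LD1_c15 LD2_c41 LD3_c61)) :=
  Lgr Lrot93 (Lpr_dt (f187962 IH) (Lpe (f170723 IH) (Lpr_dt (f170738 IH) (Lpn (LP (LK LD1_c15 LD2_c41 LD3_c61))))))
theorem f187968 : Led Lsl_ft (LP (LK LD1_c8 LD2_c20 LD3_c28)) = (LP (LK LD1_c15 LD2_c41 LD3_c61)) :=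
  Lre_f IH (LK LD1_c8 LD2_c20 LD3_c28) (LK LD1_c15 LD2_c41 LD3_c61) Lrfl Lrfl
theorem f187969 : Led Lsl_bt (LP (LK LD1_c4 LD2_c20 LD3_c48)) = (LP (LK LD1_c8 LD2_c20 LD3_c28)) :=
  Lgr Lrot35 (Lpe (f187940 IH) (Lpr_bf (f187965 IH) (Lpe (f187968 IH) (Lpn (LP (LK LD1_c8 LD2_c20 LD3_c28))))))
theorem f187971 : Led Lsl_et (LP (LK LD1_c8 LD2_c20 LD3_c28)) = (LP (LK LD1_c4 LD2_c10 LD3_c9)) :=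
  Lre_e IH (LK LD1_c8 LD2_c20 LD3_c28) (LK LD1_c4 LD2_c10 LD3_c9) Lrfl Lrfl
theorem f187972 : Led Lsl_bf (LP (LK LD1_c2 LD2_c7 LD3_c53)) = (LP (LK LD1_c4 LD2_c10 LD3_c9)) :=
  Lgr Lrot96 (Lpr_et (f187932 IH) (Lpr_bt (f187969 IH) (Lpr_et (f187971 IH) (Lpn (LP (LK LD1_c4 LD2_c10 LD3_c9))))))
theorem f55033 : Led Lsl_bt (LP (LK LD1_c1 LD2_c59 LD3_c54)) = (LP (LK LD1_c0 LD2_c56 LD3_c55)) :=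
  Lre_b IH (LK LD1_c1 LD2_c59 LD3_c54) (LK LD1_c0 LD2_c56 LD3_c55) Lrfl Lrfl
theorem f47186 : Led Lsl_ct (LP (LK LD1_c1 LD2_c59 LD3_c54)) = (LP (LK LD1_c4 LD2_c5 LD3_c26)) :=
  Lre_c IH (LK LD1_c1 LD2_c59 LD3_c54) (LK LD1_c4 LD2_c5 LD3_c26) Lrfl Lrfl
theorem f47971 : Led Lsl_gt (LP (LK LD1_c4 LD2_c5 LD3_c26)) = (LP (LK LD1_c8 LD2_c10 LD3_c57)) :=
  Lre_g IH (LK LD1_c4 LD2_c5 LD3_c26) (LK LD1_c8 LD2_c10 LD3_c57) Lrfl Lrfl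
theorem f187975 : Led Lsl_cf (LP (LK LD1_c8 LD2_c10 LD3_c57)) = (LP (LK LD1_c4 LD2_c10 LD3_c9)) :=
  Lgr Lrot58 (Lpe (f47971 IH) (Lpe (f47186 IH) (Lpr_bt (f55033 IH) (Lpr_gf (K9.f55428 IH) (Lpe (K9.f182587 IH) (Lpr_ct (K9.f182588 IH) (Lpe (K9.f182591 IH) (Lpe (K9.f31282 IH) (Lpe (f31132 IH) (Lpr_bf (f187972 IH) (Lpn (LP (LK LD1_c4 LD2_c10 LD3_c9)))))))))))))
theorem f47409 : Led Lsl_gt (LP (LK LD1_c8 LD2_c10 LD3_c57)) = (LP (LK LD1_c4 LD2_c5 LD3_c5)) :=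
  Lre_g IH (LK LD1_c8 LD2_c10 LD3_c57) (LK LD1_c4 LD2_c5 LD3_c5) Lrfl Lrfl
theorem f46223 : Led Lsl_cf (LP (LK LD1_c0 LD2_c56 LD3_c47)) = (LP (LK LD1_c0 LD2_c28 LD3_c28)) :=
  Lgr Lrot11 (Lpr_ct (K1.f46212 IH) (Lpn (LP (LK LD1_c0 LD2_c28 LD3_c28))))
theorem f188002 : Led Lsl_gt (LP (LK LD1_c4 LD2_c7 LD3_c52)) = (LP (LK LD1_c4 LD2_c10 LD3_c9)) :=
  Lgr Lrot9 (Lpe (K9.f50103 IH) (Lpr_gt (f183952 IH) (Lpr_ct (K9.f171670 IH) (Lpe (K9.f183891 IH) (Lpe (f46223 IH) (Lpe (K1.f46225 IH) (Lpe (K1.f46226 IH) (Lpe (f47409 IH) (Lpr_cf (f187975 IH) (Lpn (LP (LK LD1_c4 LD2_c10 LD3_c9))))))))))))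
theorem f170844 : Led Lsl_dt (LP (LK LD1_c4 LD2_c10 LD3_c9)) = (LP (LK LD1_c2 LD2_c2 LD3_c17)) :=
  Lre_d IH (LK LD1_c4 LD2_c10 LD3_c9) (LK LD1_c2 LD2_c2 LD3_c17) Lrfl Lrfl
theorem f170646 : Led Lsl_ct (LP (LK LD1_c0 LD2_c58 LD3_c5)) = (LP (LK LD1_c2 LD2_c2 LD3_c17)) :=
  Lre_c IH (LK LD1_c0 LD2_c58 LD3_c5) (LK LD1_c2 LD2_c2 LD3_c17) Lrfl Lrfl
theorem f170683 : Led Lsl_bt (LP (LK LD1_c0 LD2_c58 LD3_c5)) = (LP (LK LD1_c0 LD2_c26 LD3_c24)) :=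
  Lre_b IH (LK LD1_c0 LD2_c58 LD3_c5) (LK LD1_c0 LD2_c26 LD3_c24) Lrfl Lrfl
theorem f178532 : Led Lsl_bt (LP (LK LD1_c0 LD2_c34 LD3_c47)) = (LP (LK LD1_c1 LD2_c14 LD3_c59)) :=
  Lre_b IH (LK LD1_c0 LD2_c34 LD3_c47) (LK LD1_c1 LD2_c14 LD3_c59) Lrfl Lrfl
theorem f178533 : Led Lsl_df (LP (LK LD1_c0 LD2_c58 LD3_c5)) = (LP (LK LD1_c1 LD2_c14 LD3_c59)) :=
  Lgr Lrot12 (Lpr_bt (f170683 IH) (Lpr_dt (K9.f178530 IH) (Lpr_bt (f178532 IH) (Lpn (LP (LK LD1_c1 LD2_c14 LD3_c59))))))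
theorem f44054 : Led Lsl_gt (LP (LK LD1_c0 LD2_c28 LD3_c28)) = (LP (LK LD1_c1 LD2_c2 LD3_c24)) :=
  Lre_g IH (LK LD1_c0 LD2_c28 LD3_c28) (LK LD1_c1 LD2_c2 LD3_c24) Lrfl Lrfl
theorem f46163 : Led Lsl_gf (LP (LK LD1_c1 LD2_c2 LD3_c29)) = (LP (LK LD1_c1 LD2_c2 LD3_c24)) :=
  Lgr Lrot76 (Lpr_af (K1.f46155 IH) (Lpe (K1.f46138 IH) (Lpr_gt (f44054 IH) (Lpn (LP (LK LD1_c1 LD2_c2 LD3_c24))))))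
theorem f8487 : Led Lsl_bt (LP (LK LD1_c0 LD2_c39 LD3_c22)) = (LP (LK LD1_c1 LD2_c25 LD3_c7)) :=
  Lre_b IH (LK LD1_c0 LD2_c39 LD3_c22) (LK LD1_c1 LD2_c25 LD3_c7) Lrfl Lrfl
theorem f8488 : Led Lsl_at (LP (LK LD1_c1 LD2_c25 LD3_c7)) = (LP (LK LD1_c2 LD2_c58 LD3_c27)) :=
  Lre_a IH (LK LD1_c1 LD2_c25 LD3_c7) (LK LD1_c2 LD2_c58 LD3_c27) Lrfl Lrfl
theorem f8489 : Led Lsl_bt (LP (LK LD1_c1 LD2_c15 LD3_c49)) = (LP (LK LD1_c0 LD2_c35 LD3_c31)) :=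
  Lre_b IH (LK LD1_c1 LD2_c15 LD3_c49) (LK LD1_c0 LD2_c35 LD3_c31) Lrfl Lrfl
theorem f8490 : Led Lsl_at (LP (LK LD1_c2 LD2_c36 LD3_c50)) = (LP (LK LD1_c1 LD2_c15 LD3_c49)) :=
  Lre_a IH (LK LD1_c2 LD2_c36 LD3_c50) (LK LD1_c1 LD2_c15 LD3_c49) Lrfl Lrfl
theorem f8491 : Led Lsl_bt (LP (LK LD1_c2 LD2_c58 LD3_c27)) = (LP (LK LD1_c2 LD2_c36 LD3_c50)) :=
  Lgr Lrot62 (Lpe (f8488 IH) (Lpe (f8487 IH) (Lpr_af (K0.f8468 IH) (Lpe (f8489 IH) (Lpe (f8490 IH) (Lpn (LP (LK LD1_c2 LD2_c36 LD3_c50))))))))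
theorem f41515 : Led Lsl_gt (LP (LK LD1_c1 LD2_c15 LD3_c46)) = (LP (LK LD1_c2 LD2_c36 LD3_c50)) :=
  Lre_g IH (LK LD1_c1 LD2_c15 LD3_c46) (LK LD1_c2 LD2_c36 LD3_c50) Lrfl Lrfl
theorem f46464 : Led Lsl_bt (LP (LK LD1_c2 LD2_c37 LD3_c27)) = (LP (LK LD1_c1 LD2_c15 LD3_c46)) :=
  Lre_b IH (LK LD1_c2 LD2_c37 LD3_c27) (LK LD1_c1 LD2_c15 LD3_c46) Lrfl Lrfl
theorem f187497 : Led Lsl_ct (LP (LK LD1_c2 LD2_c37 LD3_c27)) = (LP (LK LD1_c5 LD2_c21 LD3_c44)) :=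
  Lre_c IH (LK LD1_c2 LD2_c37 LD3_c27) (LK LD1_c5 LD2_c21 LD3_c44) Lrfl Lrfl
theorem f187498 : Led Lsl_gf (LP (LK LD1_c5 LD2_c21 LD3_c44)) = (LP (LK LD1_c4 LD2_c5 LD3_c5)) :=
  Lgr Lrot129 (Lpe (f187497 IH) (Lpr_bt (f46464 IH) (Lpr_gt (f41515 IH) (Lpe (f8491 IH) (Lpr_ct (f42479 IH) (Lpr_gt (f42476 IH) (Lpr_cf (f187474 IH) (Lpe (f187250 IH) (Lpr_gt (f47954 IH) (Lpr_ct (K1.f47195 IH) (Lpn (LP (LK LD1_c4 LD2_c5 LD3_c5)))))))))))))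
theorem f47200 : Led Lsl_ft (LP (LK LD1_c4 LD2_c5 LD3_c5)) = (LP (LK LD1_c8 LD2_c10 LD3_c60)) :=
  Lre_f IH (LK LD1_c4 LD2_c5 LD3_c5) (LK LD1_c8 LD2_c10 LD3_c60) Lrfl Lrfl
theorem f47199 : Led Lsl_at (LP (LK LD1_c8 LD2_c10 LD3_c60)) = (LP (LK LD1_c4 LD2_c5 LD3_c26)) :=
  Lre_a IH (LK LD1_c8 LD2_c10 LD3_c60) (LK LD1_c4 LD2_c5 LD3_c26) Lrfl Lrfl
theorem f187500 : Led Lsl_gt (LP (LK LD1_c5 LD2_c21 LD3_c44)) = (LP (LK LD1_c4 LD2_c5 LD3_c26)) :=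
  Lgr Lrot46 (Lpr_gf (f187498 IH) (Lpr_ft (f47200 IH) (Lpr_at (f47199 IH) (Lpn (LP (LK LD1_c4 LD2_c5 LD3_c26))))))
theorem f187512 : Led Lsl_gt (LP (LK LD1_c0 LD2_c35 LD3_c8)) = (LP (LK LD1_c1 LD2_c15 LD3_c46)) :=
  Lre_g IH (LK LD1_c0 LD2_c35 LD3_c8) (LK LD1_c1 LD2_c15 LD3_c46) Lrfl Lrfl
theorem f8532 : Led Lsl_bt (LP (LK LD1_c0 LD2_c15 LD3_c54)) = (LP (LK LD1_c0 LD2_c35 LD3_c8)) :=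
  Lre_b IH (LK LD1_c0 LD2_c15 LD3_c54) (LK LD1_c0 LD2_c35 LD3_c8) Lrfl Lrfl
theorem f8435 : Led Lsl_ct (LP (LK LD1_c0 LD2_c15 LD3_c54)) = (LP (LK LD1_c0 LD2_c35 LD3_c30)) :=
  Lre_c IH (LK LD1_c0 LD2_c15 LD3_c54) (LK LD1_c0 LD2_c35 LD3_c30) Lrfl Lrfl
theorem f168215 : Led Lsl_gt (LP (LK LD1_c1 LD2_c16 LD3_c42)) = (LP (LK LD1_c0 LD2_c35 LD3_c30)) :=
  Lre_g IH (LK LD1_c1 LD2_c16 LD3_c42) (LK LD1_c0 LD2_c35 LD3_c30) Lrfl Lrfl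
theorem f187513 : Led Lsl_cf (LP (LK LD1_c1 LD2_c16 LD3_c42)) = (LP (LK LD1_c0 LD2_c36 LD3_c11)) :=
  Lgr Lrot125 (Lpr_gt (f168215 IH) (Lpe (f8435 IH) (Lpr_bt (f8532 IH) (Lpr_gt (f187512 IH) (Lpe (f46464 IH) (Lpr_ct (f187497 IH) (Lpr_gt (f187500 IH) (Lpe (f47186 IH) (Lpr_bt (f55033 IH) (Lpr_gt (K9.f178241 IH) (Lpn (LP (LK LD1_c0 LD2_c36 LD3_c11)))))))))))))
theorem f8454 : Led Lsl_ct (LP (LK LD1_c0 LD2_c35 LD3_c30)) = (LP (LK LD1_c0 LD2_c15 LD3_c54)) :=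
  Lre_c IH (LK LD1_c0 LD2_c35 LD3_c30) (LK LD1_c0 LD2_c15 LD3_c54) Lrfl Lrfl
theorem f186809 : Led Lsl_cf (LP (LK LD1_c0 LD2_c13 LD3_c12)) = (LP (LK LD1_c0 LD2_c26 LD3_c1)) :=
  Lgr Lrot39 (Lpr_et (f22423 IH) (Lpr_ct (f186788 IH) (Lpr_et (f8130 IH) (Lpn (LP (LK LD1_c0 LD2_c26 LD3_c1))))))
theorem f187524 : Led Lsl_gf (LP (LK LD1_c0 LD2_c26 LD3_c1)) = (LP (LK LD1_c0 LD2_c25 LD3_c48)) :=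
  Lgr Lrot147 (Lpe (f186809 IH) (Lpr_gt (K9.f8483 IH) (Lpe (K0.f8276 IH) (Lpe (K0.f8387 IH) (Lpe (f8454 IH) (Lpe (f168215 IH) (Lpr_cf (f187513 IH) (Lpe (K9.f178241 IH) (Lpe (K9.f55457 IH) (Lpn (LP (LK LD1_c0 LD2_c25 LD3_c48))))))))))))
theorem f8396 : Led Lsl_bt (LP (LK LD1_c0 LD2_c7 LD3_c9)) = (LP (LK LD1_c0 LD2_c15 LD3_c47)) :=
  Lre_b IH (LK LD1_c0 LD2_c7 LD3_c9) (LK LD1_c0 LD2_c15 LD3_c47) Lrfl Lrfl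
theorem f8397 : Led Lsl_gt (LP (LK LD1_c0 LD2_c15 LD3_c47)) = (LP (LK LD1_c0 LD2_c35 LD3_c6)) :=
  Lre_g IH (LK LD1_c0 LD2_c15 LD3_c47) (LK LD1_c0 LD2_c35 LD3_c6) Lrfl Lrfl
theorem f8484 : Led Lsl_bt (LP (LK LD1_c1 LD2_c15 LD3_c41)) = (LP (LK LD1_c0 LD2_c35 LD3_c6)) :=
  Lre_b IH (LK LD1_c1 LD2_c15 LD3_c41) (LK LD1_c0 LD2_c35 LD3_c6) Lrfl Lrfl
theorem f187535 : Led Lsl_ct (LP (LK LD1_c1 LD2_c15 LD3_c41)) = (LP (LK LD1_c1 LD2_c2 LD3_c24)) :=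
  Lgr Lrot64 (Lpr_bt (f8484 IH) (Lpe (f8397 IH) (Lpe (f8396 IH) (Lpe (K0.f8433 IH) (Lpe (K9.f8483 IH) (Lpr_cf (f186809 IH) (Lpr_gf (f187524 IH) (Lpe (K1.f47103 IH) (Lpr_ct (K1.f46203 IH) (Lpr_gf (f46163 IH) (Lpn (LP (LK LD1_c1 LD2_c2 LD3_c24)))))))))))))
theorem f188006 : Led Lsl_gf (LP (LK LD1_c2 LD2_c1 LD3_c17)) = (LP (LK LD1_c1 LD2_c15 LD3_c41)) :=
  Lgr Lrot144 (Lpr_dt (K9.f50103 IH) (Lpr_gt (f188002 IH) (Lpr_dt (f170844 IH) (Lpe (f170646 IH) (Lpr_df (f178533 IH) (Lpe (K9.f182206 IH) (Lpe (K1.f46078 IH) (Lpr_gf (f46163 IH) (Lpe (f187535 IH) (Lpn (LP (LK LD1_c1 LD2_c15 LD3_c41))))))))))))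
theorem f188008 : Led Lsl_gt (LP (LK LD1_c1 LD2_c1 LD3_c8)) = (LP (LK LD1_c1 LD2_c15 LD3_c41)) :=
  Lgr Lrot5 (Lpr_ft (K9.f30843 IH) (Lpr_at (K9.f50616 IH) (Lpr_gf (f188006 IH) (Lpn (LP (LK LD1_c1 LD2_c15 LD3_c41))))))
theorem f47099 : Led Lsl_dt (LP (LK LD1_c1 LD2_c59 LD3_c54)) = (LP (LK LD1_c0 LD2_c56 LD3_c51)) :=
  Lre_d IH (LK LD1_c1 LD2_c59 LD3_c54) (LK LD1_c0 LD2_c56 LD3_c51) Lrfl Lrfl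
theorem f46235 : Led Lsl_ct (LP (LK LD1_c4 LD2_c5 LD3_c26)) = (LP (LK LD1_c1 LD2_c59 LD3_c54)) :=
  Lre_c IH (LK LD1_c4 LD2_c5 LD3_c26) (LK LD1_c1 LD2_c59 LD3_c54) Lrfl Lrfl
theorem f188020 : Led Lsl_gt (LP (LK LD1_c2 LD2_c8 LD3_c0)) = (LP (LK LD1_c2 LD2_c37 LD3_c27)) :=
  Lgr Lrot9 (Lpe (K9.f30859 IH) (Lpr_gt (f188008 IH) (Lpr_ct (f187535 IH) (Lpe (f46163 IH) (Lpe (K1.f47104 IH) (Lpe (f47099 IH) (Lpe (f46235 IH) (Lpe (f187500 IH) (Lpe (f187497 IH) (Lpn (LP (LK LD1_c2 LD2_c37 LD3_c27))))))))))))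
theorem f30863 : Led Lsl_et (LP (LK LD1_c0 LD2_c55 LD3_c30)) = (LP (LK LD1_c1 LD2_c57 LD3_c19)) :=
  Lre_e IH (LK LD1_c0 LD2_c55 LD3_c30) (LK LD1_c1 LD2_c57 LD3_c19) Lrfl Lrfl
theorem f30864 : Led Lsl_bt (LP (LK LD1_c1 LD2_c57 LD3_c19)) = (LP (LK LD1_c2 LD2_c8 LD3_c0)) :=
  Lgr Lrot119 (Lpe (f30863 IH) (Lpe (K9.f30862 IH) (Lpr_ef (K9.f30860 IH) (Lpn (LP (LK LD1_c2 LD2_c8 LD3_c0))))))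
theorem f178248 : Led Lsl_bt (LP (LK LD1_c1 LD2_c18 LD3_c20)) = (LP (LK LD1_c0 LD2_c36 LD3_c11)) :=
  Lre_b IH (LK LD1_c1 LD2_c18 LD3_c20) (LK LD1_c0 LD2_c36 LD3_c11) Lrfl Lrfl
theorem f178253 : Led Lsl_ct (LP (LK LD1_c1 LD2_c18 LD3_c20)) = (LP (LK LD1_c2 LD2_c43 LD3_c61)) :=
  Lre_c IH (LK LD1_c1 LD2_c18 LD3_c20) (LK LD1_c2 LD2_c43 LD3_c61) Lrfl Lrfl
theorem f188027 : Led Lsl_gf (LP (LK LD1_c4 LD2_c1 LD3_c2)) = (LP (LK LD1_c2 LD2_c43 LD3_c61)) :=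
  Lgr Lrot126 (Lpe (f30937 IH) (Lpr_bt (f30864 IH) (Lpr_gt (f188020 IH) (Lpr_ct (f187497 IH) (Lpr_gt (f187500 IH) (Lpe (f47186 IH) (Lpr_bt (f55033 IH) (Lpr_gt (K9.f178241 IH) (Lpe (f178248 IH) (Lpr_ct (f178253 IH) (Lpn (LP (LK LD1_c2 LD2_c43 LD3_c61)))))))))))))
theorem f50919 : Led Lsl_at (LP (LK LD1_c1 LD2_c58 LD3_c36)) = (LP (LK LD1_c4 LD2_c1 LD3_c2)) :=
  Lre_a IH (LK LD1_c1 LD2_c58 LD3_c36) (LK LD1_c4 LD2_c1 LD3_c2) Lrfl Lrfl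
theorem f50918 : Led Lsl_ft (LP (LK LD1_c4 LD2_c3 LD3_c17)) = (LP (LK LD1_c1 LD2_c58 LD3_c36)) :=
  Lre_f IH (LK LD1_c4 LD2_c3 LD3_c17) (LK LD1_c1 LD2_c58 LD3_c36) Lrfl Lrfl
theorem f188034 : Led Lsl_gt (LP (LK LD1_c4 LD2_c3 LD3_c17)) = (LP (LK LD1_c2 LD2_c43 LD3_c61)) :=
  Lgr Lrot5 (Lpr_ft (f50918 IH) (Lpr_at (f50919 IH) (Lpr_gf (f188027 IH) (Lpn (LP (LK LD1_c2 LD2_c43 LD3_c61))))))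
theorem f50374 : Led Lsl_ct (LP (LK LD1_c1 LD2_c58 LD3_c37)) = (LP (LK LD1_c4 LD2_c3 LD3_c17)) :=
  Lre_c IH (LK LD1_c1 LD2_c58 LD3_c37) (LK LD1_c4 LD2_c3 LD3_c17) Lrfl Lrfl
theorem f50336 : Led Lsl_bt (LP (LK LD1_c8 LD2_c7 LD3_c8)) = (LP (LK LD1_c4 LD2_c3 LD3_c17)) :=
  Lre_b IH (LK LD1_c8 LD2_c7 LD3_c8) (LK LD1_c4 LD2_c3 LD3_c17) Lrfl Lrfl
theorem f50337 : Led Lsl_ct (LP (LK LD1_c4 LD2_c3 LD3_c17)) = (LP (LK LD1_c1 LD2_c58 LD3_c37)) :=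
  Lre_c IH (LK LD1_c4 LD2_c3 LD3_c17) (LK LD1_c1 LD2_c58 LD3_c37) Lrfl Lrfl
theorem f50338 : Led Lsl_bt (LP (LK LD1_c4 LD2_c7 LD3_c45)) = (LP (LK LD1_c8 LD2_c15 LD3_c32)) :=
  Lre_b IH (LK LD1_c4 LD2_c7 LD3_c45) (LK LD1_c8 LD2_c15 LD3_c32) Lrfl Lrfl
theorem f50339 : Led Lsl_bt (LP (LK LD1_c1 LD2_c58 LD3_c37)) = (LP (LK LD1_c2 LD2_c1 LD3_c14)) :=
  Lgr Lrot128 (Lpe (f50337 IH) (Lpe (f50336 IH) (Lpr_cf (K9.f50307 IH) (Lpe (f50338 IH) (Lpe (K9.f49563 IH) (Lpn (LP (LK LD1_c2 LD2_c1 LD3_c14))))))))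
theorem f40824 : Led Lsl_et (LP (LK LD1_c0 LD2_c24 LD3_c47)) = (LP (LK LD1_c0 LD2_c11 LD3_c0)) :=
  Lre_e IH (LK LD1_c0 LD2_c24 LD3_c47) (LK LD1_c0 LD2_c11 LD3_c0) Lrfl Lrfl
theorem f181229 : Led Lsl_gt (LP (LK LD1_c0 LD2_c11 LD3_c35)) = (LP (LK LD1_c0 LD2_c11 LD3_c32)) :=
  Lgr Lrot137 (Lpe (K9.f8145 IH) (Lpr_dt (K9.f28327 IH) (Lpr_gf (K9.f181216 IH) (Lpe (K1.f40749 IH) (Lpr_et (K9.f100686 IH) (Lpe (K9.f40816 IH) (Lpe (f40824 IH) (Lpr_dt (K9.f40825 IH) (Lpr_gf (K9.f55615 IH) (Lpe (K1.f55438 IH) (Lpn (LP (LK LD1_c0 LD2_c11 LD3_c32)))))))))))))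
theorem f8572 : Led Lsl_gt (LP (LK LD1_c0 LD2_c17 LD3_c36)) = (LP (LK LD1_c0 LD2_c39 LD3_c19)) :=
  Lre_g IH (LK LD1_c0 LD2_c17 LD3_c36) (LK LD1_c0 LD2_c39 LD3_c19) Lrfl Lrfl
theorem f181181 : Led Lsl_ct (LP (LK LD1_c0 LD2_c39 LD3_c19)) = (LP (LK LD1_c1 LD2_c25 LD3_c18)) :=
  Lre_c IH (LK LD1_c0 LD2_c39 LD3_c19) (LK LD1_c1 LD2_c25 LD3_c18) Lrfl Lrfl
theorem f47091 : Led Lsl_ct (LP (LK LD1_c0 LD2_c11 LD3_c32)) = (LP (LK LD1_c0 LD2_c25 LD3_c48)) :=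
  Lre_c IH (LK LD1_c0 LD2_c11 LD3_c32) (LK LD1_c0 LD2_c25 LD3_c48) Lrfl Lrfl
theorem f181231 : Led Lsl_gt (LP (LK LD1_c1 LD2_c25 LD3_c18)) = (LP (LK LD1_c1 LD2_c59 LD3_c60)) :=
  Lgr Lrot150 (Lpe (f181181 IH) (Lpe (f8572 IH) (Lpe (K9.f6966 IH) (Lpr_gt (K9.f55923 IH) (Lpr_ct (K9.f181160 IH) (Lpr_gt (f181229 IH) (Lpr_ct (f47091 IH) (Lpe (K1.f47090 IH) (Lpe (K1.f47978 IH) (Lpn (LP (LK LD1_c1 LD2_c59 LD3_c60))))))))))))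
theorem f55588 : Led Lsl_at (LP (LK LD1_c2 LD2_c0 LD3_c53)) = (LP (LK LD1_c1 LD2_c59 LD3_c60)) :=
  Lgr Lrot33 (Lpe (K2.f54856 IH) (Lpr_dt (K1.f54846 IH) (Lpr_ct (K1.f55522 IH) (Lpr_dt (K1.f55583 IH) (Lpr_ct (K1.f55582 IH) (Lpr_dt (K9.f55581 IH) (Lpr_ct (f47091 IH) (Lpr_dt (K9.f55457 IH) (Lpr_ct (K9.f47979 IH) (Lpn (LP (LK LD1_c1 LD2_c59 LD3_c60))))))))))))
theorem f181233 : Led Lsl_gf (LP (LK LD1_c1 LD2_c25 LD3_c18)) = (LP (LK LD1_c0 LD2_c57 LD3_c24)) :=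
  Lgr Lrot47 (Lpr_gt (f181231 IH) (Lpe (f55588 IH) (Lpe (K2.f54856 IH) (Lpn (LP (LK LD1_c0 LD2_c57 LD3_c24))))))
theorem f181243 : Led Lsl_bt (LP (LK LD1_c0 LD2_c39 LD3_c19)) = (LP (LK LD1_c1 LD2_c25 LD3_c17)) :=
  Lre_b IH (LK LD1_c0 LD2_c39 LD3_c19) (LK LD1_c1 LD2_c25 LD3_c17) Lrfl Lrfl
theorem f188040 : Led Lsl_gf (LP (LK LD1_c2 LD2_c1 LD3_c14)) = (LP (LK LD1_c1 LD2_c25 LD3_c17)) :=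
  Lgr Lrot124 (Lpe (f50339 IH) (Lpr_ct (f50374 IH) (Lpr_gt (f188034 IH) (Lpe (f178253 IH) (Lpr_bt (f178248 IH) (Lpe (K9.f178181 IH) (Lpr_ct (K1.f54843 IH) (Lpe (f181233 IH) (Lpe (f181181 IH) (Lpr_bt (f181243 IH) (Lpn (LP (LK LD1_c1 LD2_c25 LD3_c17)))))))))))))
theorem f47781 : Led Lsl_dt (LP (LK LD1_c0 LD2_c57 LD3_c44)) = (LP (LK LD1_c2 LD2_c1 LD3_c21)) :=
  Lre_d IH (LK LD1_c0 LD2_c57 LD3_c44) (LK LD1_c2 LD2_c1 LD3_c21) Lrfl Lrfl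
theorem f49109 : Led Lsl_ct (LP (LK LD1_c2 LD2_c1 LD3_c21)) = (LP (LK LD1_c4 LD2_c7 LD3_c58)) :=
  Lre_c IH (LK LD1_c2 LD2_c1 LD3_c21) (LK LD1_c4 LD2_c7 LD3_c58) Lrfl Lrfl
theorem f49106 : Led Lsl_dt (LP (LK LD1_c8 LD2_c15 LD3_c57)) = (LP (LK LD1_c4 LD2_c7 LD3_c58)) :=
  Lre_d IH (LK LD1_c8 LD2_c15 LD3_c57) (LK LD1_c4 LD2_c7 LD3_c58) Lrfl Lrfl
theorem f183470 : Led Lsl_ct (LP (LK LD1_c2 LD2_c59 LD3_c7)) = (LP (LK LD1_c1 LD2_c25 LD3_c17)) :=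
  Lre_c IH (LK LD1_c2 LD2_c59 LD3_c7) (LK LD1_c1 LD2_c25 LD3_c17) Lrfl Lrfl
theorem f187494 : Led Lsl_gt (LP (LK LD1_c2 LD2_c59 LD3_c7)) = (LP (LK LD1_c6 LD2_c5 LD3_c59)) :=
  Lre_g IH (LK LD1_c2 LD2_c59 LD3_c7) (LK LD1_c6 LD2_c5 LD3_c59) Lrfl Lrfl
theorem f42153 : Led Lsl_ct (LP (LK LD1_c0 LD2_c39 LD3_c11)) = (LP (LK LD1_c1 LD2_c25 LD3_c6)) :=
  Lre_c IH (LK LD1_c0 LD2_c39 LD3_c11) (LK LD1_c1 LD2_c25 LD3_c6) Lrfl Lrfl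
theorem f8530 : Led Lsl_bt (LP (LK LD1_c0 LD2_c39 LD3_c11)) = (LP (LK LD1_c0 LD2_c17 LD3_c36)) :=
  Lre_b IH (LK LD1_c0 LD2_c39 LD3_c11) (LK LD1_c0 LD2_c17 LD3_c36) Lrfl Lrfl
theorem f183469 : Led Lsl_bt (LP (LK LD1_c1 LD2_c25 LD3_c17)) = (LP (LK LD1_c0 LD2_c39 LD3_c19)) :=
  Lre_b IH (LK LD1_c1 LD2_c25 LD3_c17) (LK LD1_c0 LD2_c39 LD3_c19) Lrfl Lrfl
theorem f183472 : Led Lsl_ct (LP (LK LD1_c1 LD2_c25 LD3_c17)) = (LP (LK LD1_c2 LD2_c59 LD3_c7)) :=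
  Lre_c IH (LK LD1_c1 LD2_c25 LD3_c17) (LK LD1_c2 LD2_c59 LD3_c7) Lrfl Lrfl
theorem f45390 : Led Lsl_ct (LP (LK LD1_c1 LD2_c14 LD3_c25)) = (LP (LK LD1_c0 LD2_c34 LD3_c29)) :=
  Lre_c IH (LK LD1_c1 LD2_c14 LD3_c25) (LK LD1_c0 LD2_c34 LD3_c29) Lrfl Lrfl
theorem f45391 : Led Lsl_dt (LP (LK LD1_c2 LD2_c34 LD3_c52)) = (LP (LK LD1_c1 LD2_c14 LD3_c25)) :=
  Lre_d IH (LK LD1_c2 LD2_c34 LD3_c52) (LK LD1_c1 LD2_c14 LD3_c25) Lrfl Lrfl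
theorem f45295 : Led Lsl_ct (LP (LK LD1_c5 LD2_c16 LD3_c11)) = (LP (LK LD1_c2 LD2_c34 LD3_c52)) :=
  Lre_c IH (LK LD1_c5 LD2_c16 LD3_c11) (LK LD1_c2 LD2_c34 LD3_c52) Lrfl Lrfl
theorem f45207 : Led Lsl_df (LP (LK LD1_c5 LD2_c16 LD3_c11)) = (LP (LK LD1_c4 LD2_c15 LD3_c17)) :=
  Lgr Lrot38 (Lpr_dt (K1.f45196 IH) (Lpn (LP (LK LD1_c4 LD2_c15 LD3_c17))))
theorem f45222 : Led Lsl_dt (LP (LK LD1_c0 LD2_c59 LD3_c35)) = (LP (LK LD1_c2 LD2_c5 LD3_c0)) :=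
  Lre_d IH (LK LD1_c0 LD2_c59 LD3_c35) (LK LD1_c2 LD2_c5 LD3_c0) Lrfl Lrfl
theorem f45229 : Led Lsl_ct (LP (LK LD1_c1 LD2_c14 LD3_c14)) = (LP (LK LD1_c0 LD2_c59 LD3_c35)) :=
  Lgr Lrot59 (Lpr_cf (K1.f45220 IH) (Lpn (LP (LK LD1_c0 LD2_c59 LD3_c35))))
theorem f32556 : Led Lsl_ct (LP (LK LD1_c5 LD2_c15 LD3_c9)) = (LP (LK LD1_c2 LD2_c34 LD3_c26)) :=
  Lre_c IH (LK LD1_c5 LD2_c15 LD3_c9) (LK LD1_c2 LD2_c34 LD3_c26) Lrfl Lrfl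
theorem f27379 : Led Lsl_dt (LP (LK LD1_c0 LD2_c27 LD3_c5)) = (LP (LK LD1_c0 LD2_c59 LD3_c29)) :=
  Lre_d IH (LK LD1_c0 LD2_c27 LD3_c5) (LK LD1_c0 LD2_c59 LD3_c29) Lrfl Lrfl
theorem f45267 : Led Lsl_ct (LP (LK LD1_c0 LD2_c59 LD3_c29)) = (LP (LK LD1_c2 LD2_c4 LD3_c53)) :=
  Lre_c IH (LK LD1_c0 LD2_c59 LD3_c29) (LK LD1_c2 LD2_c4 LD3_c53) Lrfl Lrfl
theorem f45392 : Led Lsl_dt (LP (LK LD1_c2 LD2_c4 LD3_c53)) = (LP (LK LD1_c4 LD2_c15 LD3_c0)) :=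
  Lre_d IH (LK LD1_c2 LD2_c4 LD3_c53) (LK LD1_c4 LD2_c15 LD3_c0) Lrfl Lrfl
theorem f45286 : Led Lsl_ct (LP (LK LD1_c4 LD2_c15 LD3_c0)) = (LP (LK LD1_c8 LD2_c29 LD3_c3)) :=
  Lre_c IH (LK LD1_c4 LD2_c15 LD3_c0) (LK LD1_c8 LD2_c29 LD3_c3) Lrfl Lrfl
theorem f45393 : Led Lsl_df (LP (LK LD1_c5 LD2_c15 LD3_c9)) = (LP (LK LD1_c8 LD2_c29 LD3_c3)) :=
  Lgr Lrot43 (Lpr_ct (f32556 IH) (Lpr_dt (f32333 IH) (Lpr_ct (f45229 IH) (Lpr_dt (f45222 IH) (Lpr_ct (K1.f45180 IH) (Lpe (f45207 IH) (Lpr_ct (f45295 IH) (Lpr_dt (f45391 IH) (Lpr_ct (f45390 IH) (Lpr_dt (f45389 IH) (Lpr_ct (K1.f45382 IH) (Lpr_dt (f27379 IH) (Lpr_ct (f45267 IH) (Lpr_dt (f45392 IH) (Lpr_ct (f45286 IH) (Lpn (LP (LK LD1_c8 LD2_c29 LD3_c3))))))))))))))))))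
theorem f45501 : Led Lsl_ft (LP (LK LD1_c2 LD2_c4 LD3_c53)) = (LP (LK LD1_c4 LD2_c15 LD3_c1)) :=
  Lre_f IH (LK LD1_c2 LD2_c4 LD3_c53) (LK LD1_c4 LD2_c15 LD3_c1) Lrfl Lrfl
theorem f45502 : Led Lsl_af (LP (LK LD1_c4 LD2_c15 LD3_c17)) = (LP (LK LD1_c4 LD2_c15 LD3_c1)) :=
  Lgr Lrot109 (Lpe (K1.f45180 IH) (Lpe (f45222 IH) (Lpe (f45229 IH) (Lpe (f32333 IH) (Lpe (f32556 IH) (Lpr_df (f45393 IH) (Lpe (f45286 IH) (Lpe (f45392 IH) (Lpr_ft (f45501 IH) (Lpn (LP (LK LD1_c4 LD2_c15 LD3_c1))))))))))))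
theorem f45211 : Led Lsl_et (LP (LK LD1_c4 LD2_c15 LD3_c17)) = (LP (LK LD1_c8 LD2_c29 LD3_c33)) :=
  Lre_e IH (LK LD1_c4 LD2_c15 LD3_c17) (LK LD1_c8 LD2_c29 LD3_c33) Lrfl Lrfl
theorem f45277 : Led Lsl_et (LP (LK LD1_c8 LD2_c29 LD3_c5)) = (LP (LK LD1_c4 LD2_c15 LD3_c1)) :=
  Lre_e IH (LK LD1_c8 LD2_c29 LD3_c5) (LK LD1_c4 LD2_c15 LD3_c1) Lrfl Lrfl
theorem f45514 : Led Lsl_at (LP (LK LD1_c8 LD2_c29 LD3_c33)) = (LP (LK LD1_c8 LD2_c29 LD3_c5)) :=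
  Lgr Lrot80 (Lpe (f45211 IH) (Lpr_af (f45502 IH) (Lpe (f45277 IH) (Lpn (LP (LK LD1_c8 LD2_c29 LD3_c5))))))
theorem f45536 : Led Lsl_ct (LP (LK LD1_c4 LD2_c15 LD3_c18)) = (LP (LK LD1_c8 LD2_c29 LD3_c33)) :=
  Lre_c IH (LK LD1_c4 LD2_c15 LD3_c18) (LK LD1_c8 LD2_c29 LD3_c33) Lrfl Lrfl
theorem f45168 : Led Lsl_ct (LP (LK LD1_c8 LD2_c29 LD3_c5)) = (LP (LK LD1_c4 LD2_c15 LD3_c2)) :=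
  Lre_c IH (LK LD1_c8 LD2_c29 LD3_c5) (LK LD1_c4 LD2_c15 LD3_c2) Lrfl Lrfl
theorem f45537 : Led Lsl_af (LP (LK LD1_c4 LD2_c15 LD3_c18)) = (LP (LK LD1_c4 LD2_c15 LD3_c2)) :=
  Lgr Lrot68 (Lpr_ct (f45536 IH) (Lpr_at (f45514 IH) (Lpr_ct (f45168 IH) (Lpn (LP (LK LD1_c4 LD2_c15 LD3_c2))))))
theorem f45106 : Led Lsl_et (LP (LK LD1_c0 LD2_c12 LD3_c1)) = (LP (LK LD1_c0 LD2_c27 LD3_c7)) :=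
  Lre_e IH (LK LD1_c0 LD2_c12 LD3_c1) (LK LD1_c0 LD2_c27 LD3_c7) Lrfl Lrfl
theorem f45114 : Led Lsl_ef (LP (LK LD1_c0 LD2_c59 LD3_c35)) = (LP (LK LD1_c0 LD2_c59 LD3_c35)) :=
  Lgr Lrot21 (Lpr_ft (K9.f45112 IH) (Lpr_et (K1.f751 IH) (Lpr_ft (K1.f45104 IH) (Lpr_et (f45106 IH) (Lpr_ft (K1.f45113 IH) (Lpn (LP (LK LD1_c0 LD2_c59 LD3_c35))))))))
theorem f45151 : Led Lsl_at (LP (LK LD1_c0 LD2_c59 LD3_c30)) = (LP (LK LD1_c0 LD2_c59 LD3_c35)) :=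
  Lgr Lrot100 (Lpr_af (K1.f45135 IH) (Lpn (LP (LK LD1_c0 LD2_c59 LD3_c35))))
theorem f45157 : Led Lsl_et (LP (LK LD1_c0 LD2_c59 LD3_c30)) = (LP (LK LD1_c0 LD2_c59 LD3_c30)) :=
  Lgr Lrot123 (Lpr_af (K1.f45135 IH) (Lpr_ef (f45114 IH) (Lpe (f45151 IH) (Lpn (LP (LK LD1_c0 LD2_c59 LD3_c30))))))
theorem f45161 : Led Lsl_et (LP (LK LD1_c4 LD2_c15 LD3_c2)) = (LP (LK LD1_c2 LD2_c4 LD3_c54)) :=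
  Lre_e IH (LK LD1_c4 LD2_c15 LD3_c2) (LK LD1_c2 LD2_c4 LD3_c54) Lrfl Lrfl
theorem f45150 : Led Lsl_et (LP (LK LD1_c2 LD2_c4 LD3_c54)) = (LP (LK LD1_c4 LD2_c15 LD3_c2)) :=
  Lre_e IH (LK LD1_c2 LD2_c4 LD3_c54) (LK LD1_c4 LD2_c15 LD3_c2) Lrfl Lrfl
theorem f45162 : Led Lsl_df (LP (LK LD1_c4 LD2_c15 LD3_c2)) = (LP (LK LD1_c4 LD2_c15 LD3_c2)) :=
  Lgr Lrot70 (Lpr_et (f45161 IH) (Lpr_dt (K1.f45143 IH) (Lpr_et (f45157 IH) (Lpr_dt (K1.f45139 IH) (Lpr_et (f45150 IH) (Lpn (LP (LK LD1_c4 LD2_c15 LD3_c2))))))))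
theorem f45183 : Led Lsl_et (LP (LK LD1_c2 LD2_c5 LD3_c0)) = (LP (LK LD1_c4 LD2_c15 LD3_c18)) :=
  Lre_e IH (LK LD1_c2 LD2_c5 LD3_c0) (LK LD1_c4 LD2_c15 LD3_c18) Lrfl Lrfl
theorem f45184 : Led Lsl_af (LP (LK LD1_c4 LD2_c15 LD3_c2)) = (LP (LK LD1_c4 LD2_c15 LD3_c18)) :=
  Lgr Lrot50 (Lpr_et (f45161 IH) (Lpr_at (K1.f45155 IH) (Lpr_et (f45183 IH) (Lpn (LP (LK LD1_c4 LD2_c15 LD3_c18))))))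
theorem f45598 : Led Lsl_dt (LP (LK LD1_c4 LD2_c15 LD3_c18)) = (LP (LK LD1_c4 LD2_c15 LD3_c18)) :=
  Lgr Lrot44 (Lpr_af (f45537 IH) (Lpr_df (f45162 IH) (Lpr_af (f45184 IH) (Lpn (LP (LK LD1_c4 LD2_c15 LD3_c18))))))
theorem f45602 : Led Lsl_bt (LP (LK LD1_c8 LD2_c29 LD3_c10)) = (LP (LK LD1_c4 LD2_c15 LD3_c18)) :=
  Lre_b IH (LK LD1_c8 LD2_c29 LD3_c10) (LK LD1_c4 LD2_c15 LD3_c18) Lrfl Lrfl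
theorem f45597 : Led Lsl_bt (LP (LK LD1_c4 LD2_c15 LD3_c18)) = (LP (LK LD1_c8 LD2_c29 LD3_c10)) :=
  Lre_b IH (LK LD1_c4 LD2_c15 LD3_c18) (LK LD1_c8 LD2_c29 LD3_c10) Lrfl Lrfl
theorem f45603 : Led Lsl_df (LP (LK LD1_c8 LD2_c29 LD3_c10)) = (LP (LK LD1_c8 LD2_c29 LD3_c10)) :=
  Lgr Lrot12 (Lpr_bt (f45602 IH) (Lpr_dt (f45598 IH) (Lpr_bt (f45597 IH) (Lpn (LP (LK LD1_c8 LD2_c29 LD3_c10))))))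
theorem f45607 : Led Lsl_et (LP (LK LD1_c8 LD2_c29 LD3_c10)) = (LP (LK LD1_c4 LD2_c15 LD3_c6)) :=
  Lre_e IH (LK LD1_c8 LD2_c29 LD3_c10) (LK LD1_c4 LD2_c15 LD3_c6) Lrfl Lrfl
theorem f45608 : Led Lsl_dt (LP (LK LD1_c4 LD2_c15 LD3_c6)) = (LP (LK LD1_c2 LD2_c4 LD3_c57)) :=
  Lre_d IH (LK LD1_c4 LD2_c15 LD3_c6) (LK LD1_c2 LD2_c4 LD3_c57) Lrfl Lrfl
theorem f45609 : Led Lsl_et (LP (LK LD1_c4 LD2_c15 LD3_c6)) = (LP (LK LD1_c8 LD2_c29 LD3_c10)) :=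
  Lre_e IH (LK LD1_c4 LD2_c15 LD3_c6) (LK LD1_c8 LD2_c29 LD3_c10) Lrfl Lrfl
theorem f45611 : Led Lsl_et (LP (LK LD1_c2 LD2_c4 LD3_c57)) = (LP (LK LD1_c2 LD2_c4 LD3_c57)) :=
  Lgr Lrot71 (Lpe (f45608 IH) (Lpe (f45607 IH) (Lpr_df (f45603 IH) (Lpe (f45609 IH) (Lpe (K9.f45610 IH) (Lpn (LP (LK LD1_c2 LD2_c4 LD3_c57))))))))
theorem f183622 : Led Lsl_ef (LP (LK LD1_c4 LD2_c6 LD3_c19)) = (LP (LK LD1_c4 LD2_c6 LD3_c19)) :=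
  Lgr Lrot28 (Lpr_ct (K9.f183613 IH) (Lpr_et (f45611 IH) (Lpe (K9.f183619 IH) (Lpn (LP (LK LD1_c4 LD2_c6 LD3_c19))))))
theorem f47803 : Led Lsl_et (LP (LK LD1_c0 LD2_c59 LD3_c31)) = (LP (LK LD1_c2 LD2_c4 LD3_c55)) :=
  Lre_e IH (LK LD1_c0 LD2_c59 LD3_c31) (LK LD1_c2 LD2_c4 LD3_c55) Lrfl Lrfl
theorem f47470 : Led Lsl_ff (LP (LK LD1_c0 LD2_c56 LD3_c44)) = (LP (LK LD1_c0 LD2_c56 LD3_c44)) :=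
  Lgr Lrot25 (Lpe (K9.f47443 IH) (Lpe (K9.f44935 IH) (Lpr_bt (K1.f47459 IH) (Lpn (LP (LK LD1_c0 LD2_c56 LD3_c44))))))
theorem f47793 : Led Lsl_ft (LP (LK LD1_c0 LD2_c59 LD3_c31)) = (LP (LK LD1_c0 LD2_c59 LD3_c31)) :=
  Lgr Lrot54 (Lpr_df (K8.f47455 IH) (Lpr_ff (f47470 IH) (Lpr_df (K1.f47741 IH) (Lpn (LP (LK LD1_c0 LD2_c59 LD3_c31))))))
theorem f183636 : Led Lsl_ft (LP (LK LD1_c4 LD2_c6 LD3_c19)) = (LP (LK LD1_c2 LD2_c4 LD3_c55)) :=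
  Lgr Lrot86 (Lpr_ef (f183622 IH) (Lpr_ff (f183624 IH) (Lpe (f47803 IH) (Lpe (f47793 IH) (Lpe (K9.f8088 IH) (Lpn (LP (LK LD1_c2 LD2_c4 LD3_c55))))))))
theorem f183621 : Led Lsl_dt (LP (LK LD1_c8 LD2_c13 LD3_c13)) = (LP (LK LD1_c4 LD2_c6 LD3_c19)) :=
  Lre_d IH (LK LD1_c8 LD2_c13 LD3_c13) (LK LD1_c4 LD2_c6 LD3_c19) Lrfl Lrfl
theorem f183638 : Led Lsl_ff (LP (LK LD1_c8 LD2_c13 LD3_c13)) = (LP (LK LD1_c4 LD2_c15 LD3_c3)) :=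
  Lgr Lrot19 (Lpr_dt (f183621 IH) (Lpr_ft (f183636 IH) (Lpr_dt (K9.f8089 IH) (Lpn (LP (LK LD1_c4 LD2_c15 LD3_c3))))))
theorem f54059 : Led Lsl_bt (LP (LK LD1_c2 LD2_c35 LD3_c13)) = (LP (LK LD1_c4 LD2_c15 LD3_c3)) :=
  Lgr Lrot127 (Lpr_bf (K9.f54053 IH) (Lpn (LP (LK LD1_c4 LD2_c15 LD3_c3))))
theorem f54056 : Led Lsl_ft (LP (LK LD1_c5 LD2_c17 LD3_c0)) = (LP (LK LD1_c2 LD2_c35 LD3_c13)) :=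
  Lre_f IH (LK LD1_c5 LD2_c17 LD3_c0) (LK LD1_c2 LD2_c35 LD3_c13) Lrfl Lrfl
theorem f183642 : Led Lsl_bt (LP (LK LD1_c8 LD2_c13 LD3_c13)) = (LP (LK LD1_c5 LD2_c17 LD3_c0)) :=
  Lgr Lrot35 (Lpr_ff (f183638 IH) (Lpe (f54059 IH) (Lpe (f54056 IH) (Lpn (LP (LK LD1_c5 LD2_c17 LD3_c0))))))
theorem f183647 : Led Lsl_bf (LP (LK LD1_c8 LD2_c13 LD3_c13)) = (LP (LK LD1_c5 LD2_c17 LD3_c0)) :=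
  Lgr Lrot24 (Lpr_bt (f183642 IH) (Lpn (LP (LK LD1_c5 LD2_c17 LD3_c0))))
theorem f187495 : Led Lsl_cf (LP (LK LD1_c6 LD2_c5 LD3_c59)) = (LP (LK LD1_c5 LD2_c17 LD3_c0)) :=
  Lgr Lrot58 (Lpe (f187494 IH) (Lpe (f183472 IH) (Lpr_bt (f183469 IH) (Lpe (f8572 IH) (Lpe (f8530 IH) (Lpr_ct (f42153 IH) (Lpe (f181242 IH) (Lpr_cf (f187474 IH) (Lpe (f183662 IH) (Lpr_bf (f183647 IH) (Lpn (LP (LK LD1_c5 LD2_c17 LD3_c0)))))))))))))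
theorem f32950 : Led Lsl_dt (LP (LK LD1_c2 LD2_c35 LD3_c14)) = (LP (LK LD1_c5 LD2_c17 LD3_c0)) :=
  Lre_d IH (LK LD1_c2 LD2_c35 LD3_c14) (LK LD1_c5 LD2_c17 LD3_c0) Lrfl Lrfl
theorem f32507 : Led Lsl_ct (LP (LK LD1_c5 LD2_c17 LD3_c9)) = (LP (LK LD1_c2 LD2_c35 LD3_c19)) :=
  Lre_c IH (LK LD1_c5 LD2_c17 LD3_c9) (LK LD1_c2 LD2_c35 LD3_c19) Lrfl Lrfl
theorem f32860 : Led Lsl_dt (LP (LK LD1_c10 LD2_c23 LD3_c60)) = (LP (LK LD1_c5 LD2_c17 LD3_c9)) :=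
  Lre_d IH (LK LD1_c10 LD2_c23 LD3_c60) (LK LD1_c5 LD2_c17 LD3_c9) Lrfl Lrfl
theorem f50787 : Led Lsl_ct (LP (LK LD1_c5 LD2_c17 LD3_c26)) = (LP (LK LD1_c10 LD2_c23 LD3_c60)) :=
  Lre_c IH (LK LD1_c5 LD2_c17 LD3_c26) (LK LD1_c10 LD2_c23 LD3_c60) Lrfl Lrfl
theorem f50786 : Led Lsl_dt (LP (LK LD1_c2 LD2_c35 LD3_c29)) = (LP (LK LD1_c5 LD2_c17 LD3_c26)) :=
  Lre_d IH (LK LD1_c2 LD2_c35 LD3_c29) (LK LD1_c5 LD2_c17 LD3_c26) Lrfl Lrfl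
theorem f33027 : Led Lsl_ct (LP (LK LD1_c1 LD2_c14 LD3_c46)) = (LP (LK LD1_c2 LD2_c35 LD3_c29)) :=
  Lre_c IH (LK LD1_c1 LD2_c14 LD3_c46) (LK LD1_c2 LD2_c35 LD3_c29) Lrfl Lrfl
theorem f32247 : Led Lsl_ct (LP (LK LD1_c0 LD2_c15 LD3_c34)) = (LP (LK LD1_c0 LD2_c34 LD3_c41)) :=
  Lre_c IH (LK LD1_c0 LD2_c15 LD3_c34) (LK LD1_c0 LD2_c34 LD3_c41) Lrfl Lrfl
theorem f48330 : Led Lsl_ct (LP (LK LD1_c1 LD2_c14 LD3_c55)) = (LP (LK LD1_c0 LD2_c34 LD3_c44)) :=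
  Lre_c IH (LK LD1_c1 LD2_c14 LD3_c55) (LK LD1_c0 LD2_c34 LD3_c44) Lrfl Lrfl
theorem f187636 : Led Lsl_ct (LP (LK LD1_c5 LD2_c18 LD3_c14)) = (LP (LK LD1_c2 LD2_c35 LD3_c47)) :=
  Lre_c IH (LK LD1_c5 LD2_c18 LD3_c14) (LK LD1_c2 LD2_c35 LD3_c47) Lrfl Lrfl
theorem f187637 : Led Lsl_dt (LP (LK LD1_c6 LD2_c5 LD3_c59)) = (LP (LK LD1_c5 LD2_c18 LD3_c14)) :=
  Lgr Lrot173 (Lpr_cf (f187495 IH) (Lpe (f32950 IH) (Lpe (f32164 IH) (Lpe (K1.f32168 IH) (Lpe (f32507 IH) (Lpe (f32860 IH) (Lpe (f50787 IH) (Lpe (f50786 IH) (Lpe (f33027 IH) (Lpe (K9.f32077 IH) (Lpe (f32247 IH) (Lpe (f48183 IH) (Lpe (f48330 IH) (Lpe (f48401 IH) (Lpe (f187636 IH) (Lpn (LP (LK LD1_c5 LD2_c18 LD3_c14))))))))))))))))))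
theorem f188045 : Led Lsl_gf (LP (LK LD1_c8 LD2_c15 LD3_c57)) = (LP (LK LD1_c5 LD2_c18 LD3_c14)) :=
  Lgr Lrot143 (Lpr_dt (f49106 IH) (Lpe (f49109 IH) (Lpe (f47781 IH) (Lpe (K9.f49602 IH) (Lpe (K9.f49605 IH) (Lpr_gf (f188040 IH) (Lpe (f183470 IH) (Lpr_gt (f187494 IH) (Lpr_dt (f187637 IH) (Lpn (LP (LK LD1_c5 LD2_c18 LD3_c14))))))))))))
theorem f54065 : Led Lsl_ft (LP (LK LD1_c2 LD2_c35 LD3_c13)) = (LP (LK LD1_c5 LD2_c17 LD3_c0)) :=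
  Lre_f IH (LK LD1_c2 LD2_c35 LD3_c13) (LK LD1_c5 LD2_c17 LD3_c0) Lrfl Lrfl
theorem f54055 : Led Lsl_ct (LP (LK LD1_c5 LD2_c16 LD3_c61)) = (LP (LK LD1_c2 LD2_c35 LD3_c13)) :=
  Lre_c IH (LK LD1_c5 LD2_c16 LD3_c61) (LK LD1_c2 LD2_c35 LD3_c13) Lrfl Lrfl
theorem f187642 : Led Lsl_ft (LP (LK LD1_c6 LD2_c5 LD3_c59)) = (LP (LK LD1_c5 LD2_c16 LD3_c61)) :=
  Lgr Lrot4 (Lpr_cf (f187495 IH) (Lpe (f54065 IH) (Lpe (f54055 IH) (Lpn (LP (LK LD1_c5 LD2_c16 LD3_c61))))))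
theorem f50785 : Led Lsl_at (LP (LK LD1_c5 LD2_c16 LD3_c61)) = (LP (LK LD1_c2 LD2_c35 LD3_c29)) :=
  Lre_a IH (LK LD1_c5 LD2_c16 LD3_c61) (LK LD1_c2 LD2_c35 LD3_c29) Lrfl Lrfl
theorem f50608 : Led Lsl_af (LP (LK LD1_c2 LD2_c8 LD3_c0)) = (LP (LK LD1_c2 LD2_c1 LD3_c16)) :=
  Lgr Lrot0 (Lpr_at (K9.f50606 IH) (Lpn (LP (LK LD1_c2 LD2_c1 LD3_c16))))
theorem f30876 : Led Lsl_bt (LP (LK LD1_c0 LD2_c55 LD3_c30)) = (LP (LK LD1_c1 LD2_c57 LD3_c17)) :=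
  Lre_b IH (LK LD1_c0 LD2_c55 LD3_c30) (LK LD1_c1 LD2_c57 LD3_c17) Lrfl Lrfl
theorem f30877 : Led Lsl_et (LP (LK LD1_c1 LD2_c57 LD3_c19)) = (LP (LK LD1_c0 LD2_c55 LD3_c30)) :=
  Lre_e IH (LK LD1_c1 LD2_c57 LD3_c19) (LK LD1_c0 LD2_c55 LD3_c30) Lrfl Lrfl
theorem f30878 : Led Lsl_bf (LP (LK LD1_c1 LD2_c57 LD3_c19)) = (LP (LK LD1_c2 LD2_c8 LD3_c0)) :=
  Lgr Lrot96 (Lpr_et (f30877 IH) (Lpr_bt (f30876 IH) (Lpr_et (K9.f30870 IH) (Lpn (LP (LK LD1_c2 LD2_c8 LD3_c0))))))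
theorem f31019 : Led Lsl_at (LP (LK LD1_c1 LD2_c57 LD3_c19)) = (LP (LK LD1_c0 LD2_c56 LD3_c8)) :=
  Lre_a IH (LK LD1_c1 LD2_c57 LD3_c19) (LK LD1_c0 LD2_c56 LD3_c8) Lrfl Lrfl
theorem f49239 : Led Lsl_bt (LP (LK LD1_c0 LD2_c57 LD3_c45)) = (LP (LK LD1_c2 LD2_c1 LD3_c16)) :=
  Lre_b IH (LK LD1_c0 LD2_c57 LD3_c45) (LK LD1_c2 LD2_c1 LD3_c16) Lrfl Lrfl
theorem f50769 : Led Lsl_at (LP (LK LD1_c0 LD2_c57 LD3_c40)) = (LP (LK LD1_c0 LD2_c57 LD3_c45)) :=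
  Lgr Lrot67 (Lpe (K9.f50379 IH) (Lpe (f31019 IH) (Lpr_bf (f30878 IH) (Lpr_af (f50608 IH) (Lpe (f49239 IH) (Lpn (LP (LK LD1_c0 LD2_c57 LD3_c45))))))))
theorem f50395 : Led Lsl_ft (LP (LK LD1_c2 LD2_c1 LD3_c14)) = (LP (LK LD1_c0 LD2_c57 LD3_c40)) :=
  Lre_f IH (LK LD1_c2 LD2_c1 LD3_c14) (LK LD1_c0 LD2_c57 LD3_c40) Lrfl Lrfl
theorem f1439 : Led Lsl_gt (LP (LK LD1_c2 LD2_c1 LD3_c23)) = (LP (LK LD1_c0 LD2_c57 LD3_c45)) :=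
  Lre_g IH (LK LD1_c2 LD2_c1 LD3_c23) (LK LD1_c0 LD2_c57 LD3_c45) Lrfl Lrfl
theorem f50772 : Led Lsl_gt (LP (LK LD1_c2 LD2_c1 LD3_c14)) = (LP (LK LD1_c2 LD2_c1 LD3_c23)) :=
  Lgr Lrot5 (Lpr_ft (f50395 IH) (Lpr_at (f50769 IH) (Lpe (f1439 IH) (Lpn (LP (LK LD1_c2 LD2_c1 LD3_c23))))))
theorem f32995 : Led Lsl_ct (LP (LK LD1_c2 LD2_c35 LD3_c29)) = (LP (LK LD1_c1 LD2_c14 LD3_c46)) :=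
  Lre_c IH (LK LD1_c2 LD2_c35 LD3_c29) (LK LD1_c1 LD2_c14 LD3_c46) Lrfl Lrfl
theorem f50774 : Led Lsl_ct (LP (LK LD1_c2 LD2_c1 LD3_c23)) = (LP (LK LD1_c4 LD2_c8 LD3_c0)) :=
  Lre_c IH (LK LD1_c2 LD2_c1 LD3_c23) (LK LD1_c4 LD2_c8 LD3_c0) Lrfl Lrfl
theorem f50775 : Led Lsl_gf (LP (LK LD1_c2 LD2_c35 LD3_c29)) = (LP (LK LD1_c4 LD2_c8 LD3_c0)) :=
  Lgr Lrot104 (Lpr_ct (f32995 IH) (Lpe (K9.f32077 IH) (Lpe (f32247 IH) (Lpe (K9.f48187 IH) (Lpe (K9.f49099 IH) (Lpe (K9.f49602 IH) (Lpe (K9.f49605 IH) (Lpr_gt (f50772 IH) (Lpr_ct (f50774 IH) (Lpn (LP (LK LD1_c4 LD2_c8 LD3_c0))))))))))))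
theorem f187734 : Led Lsl_gt (LP (LK LD1_c6 LD2_c5 LD3_c59)) = (LP (LK LD1_c4 LD2_c8 LD3_c0)) :=
  Lgr Lrot5 (Lpr_ft (f187642 IH) (Lpr_at (f50785 IH) (Lpr_gf (f50775 IH) (Lpn (LP (LK LD1_c4 LD2_c8 LD3_c0))))))
theorem f50781 : Led Lsl_ct (LP (LK LD1_c4 LD2_c8 LD3_c0)) = (LP (LK LD1_c2 LD2_c1 LD3_c23)) :=
  Lre_c IH (LK LD1_c4 LD2_c8 LD3_c0) (LK LD1_c2 LD2_c1 LD3_c23) Lrfl Lrfl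
theorem f49338 : Led Lsl_ct (LP (LK LD1_c0 LD2_c57 LD3_c45)) = (LP (LK LD1_c2 LD2_c1 LD3_c24)) :=
  Lre_c IH (LK LD1_c0 LD2_c57 LD3_c45) (LK LD1_c2 LD2_c1 LD3_c24) Lrfl Lrfl
theorem f49340 : Led Lsl_dt (LP (LK LD1_c4 LD2_c8 LD3_c5)) = (LP (LK LD1_c2 LD2_c1 LD3_c24)) :=
  Lre_d IH (LK LD1_c4 LD2_c8 LD3_c5) (LK LD1_c2 LD2_c1 LD3_c24) Lrfl Lrfl
theorem f49687 : Led Lsl_ct (LP (LK LD1_c8 LD2_c16 LD3_c18)) = (LP (LK LD1_c4 LD2_c8 LD3_c5)) :=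
  Lre_c IH (LK LD1_c8 LD2_c16 LD3_c18) (LK LD1_c4 LD2_c8 LD3_c5) Lrfl Lrfl
theorem f49688 : Led Lsl_at (LP (LK LD1_c8 LD2_c15 LD3_c35)) = (LP (LK LD1_c8 LD2_c16 LD3_c18)) :=
  Lgr Lrot107 (Lpe (K9.f49686 IH) (Lpr_af (K9.f49671 IH) (Lpe (f49687 IH) (Lpn (LP (LK LD1_c8 LD2_c16 LD3_c18))))))
theorem f49576 : Led Lsl_ct (LP (LK LD1_c8 LD2_c15 LD3_c35)) = (LP (LK LD1_c4 LD2_c7 LD3_c44)) :=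
  Lre_c IH (LK LD1_c8 LD2_c15 LD3_c35) (LK LD1_c4 LD2_c7 LD3_c44) Lrfl Lrfl
theorem f49577 : Led Lsl_ff (LP (LK LD1_c8 LD2_c15 LD3_c35)) = (LP (LK LD1_c8 LD2_c15 LD3_c53)) :=
  Lgr Lrot23 (Lpr_ct (f49576 IH) (Lpr_ft (K9.f49575 IH) (Lpr_ct (K9.f49565 IH) (Lpn (LP (LK LD1_c8 LD2_c15 LD3_c53))))))
theorem f49119 : Led Lsl_dt (LP (LK LD1_c4 LD2_c7 LD3_c56)) = (LP (LK LD1_c8 LD2_c15 LD3_c53)) :=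
  Lre_d IH (LK LD1_c4 LD2_c7 LD3_c56) (LK LD1_c8 LD2_c15 LD3_c53) Lrfl Lrfl
theorem f32252 : Led Lsl_dt (LP (LK LD1_c0 LD2_c34 LD3_c42)) = (LP (LK LD1_c1 LD2_c14 LD3_c48)) :=
  Lre_d IH (LK LD1_c0 LD2_c34 LD3_c42) (LK LD1_c1 LD2_c14 LD3_c48) Lrfl Lrfl
theorem f48236 : Led Lsl_ct (LP (LK LD1_c2 LD2_c35 LD3_c32)) = (LP (LK LD1_c1 LD2_c14 LD3_c48)) :=
  Lre_c IH (LK LD1_c2 LD2_c35 LD3_c32) (LK LD1_c1 LD2_c14 LD3_c48) Lrfl Lrfl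
theorem f49120 : Led Lsl_dt (LP (LK LD1_c5 LD2_c17 LD3_c34)) = (LP (LK LD1_c2 LD2_c35 LD3_c32)) :=
  Lre_d IH (LK LD1_c5 LD2_c17 LD3_c34) (LK LD1_c2 LD2_c35 LD3_c32) Lrfl Lrfl
theorem f49121 : Led Lsl_gt (LP (LK LD1_c8 LD2_c15 LD3_c53)) = (LP (LK LD1_c5 LD2_c17 LD3_c34)) :=
  Lgr Lrot49 (Lpe (f49119 IH) (Lpr_gf (K9.f49115 IH) (Lpe (K9.f32559 IH) (Lpr_gt (K9.f33097 IH) (Lpr_dt (f48183 IH) (Lpr_gt (f32251 IH) (Lpr_dt (f32252 IH) (Lpe (f48236 IH) (Lpe (f49120 IH) (Lpn (LP (LK LD1_c5 LD2_c17 LD3_c34))))))))))))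
theorem f53547 : Led Lsl_gt (LP (LK LD1_c5 LD2_c17 LD3_c34)) = (LP (LK LD1_c8 LD2_c16 LD3_c18)) :=
  Lgr Lrot46 (Lpe (f49121 IH) (Lpe (f49577 IH) (Lpr_at (f49688 IH) (Lpn (LP (LK LD1_c8 LD2_c16 LD3_c18))))))
theorem f188200 : Led Lsl_ct (LP (LK LD1_c8 LD2_c15 LD3_c57)) = (LP (LK LD1_c5 LD2_c17 LD3_c34)) :=
  Lgr Lrot152 (Lpr_gf (f188045 IH) (Lpe (f187637 IH) (Lpr_gt (f187734 IH) (Lpr_ct (f50781 IH) (Lpr_gt (f1439 IH) (Lpr_ct (f49338 IH) (Lpe (f49340 IH) (Lpe (f49687 IH) (Lpe (f53547 IH) (Lpn (LP (LK LD1_c5 LD2_c17 LD3_c34))))))))))))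
theorem f188209 : Led Lsl_cf (LP (LK LD1_c8 LD2_c15 LD3_c57)) = (LP (LK LD1_c5 LD2_c17 LD3_c34)) :=
  Lgr Lrot11 (Lpr_ct (f188200 IH) (Lpn (LP (LK LD1_c5 LD2_c17 LD3_c34))))
theorem f187742 : Led Lsl_ft (LP (LK LD1_c5 LD2_c18 LD3_c14)) = (LP (LK LD1_c10 LD2_c23 LD3_c38)) :=
  Lre_f IH (LK LD1_c5 LD2_c18 LD3_c14) (LK LD1_c10 LD2_c23 LD3_c38) Lrfl Lrfl
theorem f187752 : Led Lsl_at (LP (LK LD1_c10 LD2_c23 LD3_c38)) = (LP (LK LD1_c5 LD2_c17 LD3_c26)) :=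
  Lre_a IH (LK LD1_c10 LD2_c23 LD3_c38) (LK LD1_c5 LD2_c17 LD3_c26) Lrfl Lrfl
theorem f188198 : Led Lsl_gt (LP (LK LD1_c8 LD2_c15 LD3_c57)) = (LP (LK LD1_c5 LD2_c17 LD3_c26)) :=
  Lgr Lrot46 (Lpr_gf (f188045 IH) (Lpr_ft (f187742 IH) (Lpr_at (f187752 IH) (Lpn (LP (LK LD1_c5 LD2_c17 LD3_c26))))))
theorem f32554 : Led Lsl_ct (LP (LK LD1_c2 LD2_c35 LD3_c19)) = (LP (LK LD1_c5 LD2_c17 LD3_c9)) :=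
  Lre_c IH (LK LD1_c2 LD2_c35 LD3_c19) (LK LD1_c5 LD2_c17 LD3_c9) Lrfl Lrfl
theorem f32174 : Led Lsl_gt (LP (LK LD1_c1 LD2_c14 LD3_c53)) = (LP (LK LD1_c2 LD2_c35 LD3_c19)) :=
  Lre_g IH (LK LD1_c1 LD2_c14 LD3_c53) (LK LD1_c2 LD2_c35 LD3_c19) Lrfl Lrfl
theorem f188288 : Led Lsl_ct (LP (LK LD1_c2 LD2_c35 LD3_c39)) = (LP (LK LD1_c1 LD2_c14 LD3_c53)) :=
  Lre_c IH (LK LD1_c2 LD2_c35 LD3_c39) (LK LD1_c1 LD2_c14 LD3_c53) Lrfl Lrfl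
theorem f188289 : Led Lsl_gf (LP (LK LD1_c2 LD2_c35 LD3_c39)) = (LP (LK LD1_c4 LD2_c7 LD3_c56)) :=
  Lgr Lrot147 (Lpr_ct (f188288 IH) (Lpr_gt (f32174 IH) (Lpr_ct (f32554 IH) (Lpe (f32860 IH) (Lpe (f50787 IH) (Lpe (f188198 IH) (Lpr_cf (f188209 IH) (Lpe (f49121 IH) (Lpe (f49119 IH) (Lpn (LP (LK LD1_c4 LD2_c7 LD3_c56))))))))))))
theorem f165616 : Led Lsl_gt (LP (LK LD1_c2 LD2_c35 LD3_c39)) = (LP (LK LD1_c5 LD2_c17 LD3_c49)) :=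
  Lre_g IH (LK LD1_c2 LD2_c35 LD3_c39) (LK LD1_c5 LD2_c17 LD3_c49) Lrfl Lrfl
theorem f49942 : Led Lsl_ft (LP (LK LD1_c4 LD2_c7 LD3_c56)) = (LP (LK LD1_c8 LD2_c15 LD3_c54)) :=
  Lre_f IH (LK LD1_c4 LD2_c7 LD3_c56) (LK LD1_c8 LD2_c15 LD3_c54) Lrfl Lrfl
theorem f188303 : Led Lsl_af (LP (LK LD1_c5 LD2_c17 LD3_c49)) = (LP (LK LD1_c8 LD2_c15 LD3_c54)) :=
  Lgr Lrot31 (Lpe (f165616 IH) (Lpr_gf (f188289 IH) (Lpr_ft (f49942 IH) (Lpn (LP (LK LD1_c8 LD2_c15 LD3_c54))))))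
theorem f49569 : Led Lsl_cf (LP (LK LD1_c8 LD2_c15 LD3_c37)) = (LP (LK LD1_c8 LD2_c15 LD3_c53)) :=
  Lgr Lrot11 (Lpr_ct (K9.f49565 IH) (Lpn (LP (LK LD1_c8 LD2_c15 LD3_c53))))
theorem f49783 : Led Lsl_dt (LP (LK LD1_c8 LD2_c15 LD3_c37)) = (LP (LK LD1_c4 LD2_c7 LD3_c45)) :=
  Lre_d IH (LK LD1_c8 LD2_c15 LD3_c37) (LK LD1_c4 LD2_c7 LD3_c45) Lrfl Lrfl
theorem f49621 : Led Lsl_ct (LP (LK LD1_c4 LD2_c7 LD3_c45)) = (LP (LK LD1_c2 LD2_c1 LD3_c14)) :=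
  Lre_c IH (LK LD1_c4 LD2_c7 LD3_c45) (LK LD1_c2 LD2_c1 LD3_c14) Lrfl Lrfl
theorem f188325 : Led Lsl_cf (LP (LK LD1_c5 LD2_c17 LD3_c49)) = (LP (LK LD1_c4 LD2_c7 LD3_c36)) :=
  Lgr Lrot102 (Lpr_af (f188303 IH) (Lpe (f49942 IH) (Lpr_dt (f49119 IH) (Lpe (f49569 IH) (Lpr_dt (f49783 IH) (Lpr_ct (f49621 IH) (Lpr_dt (K9.f49605 IH) (Lpr_ct (K9.f49604 IH) (Lpr_dt (K9.f49813 IH) (Lpn (LP (LK LD1_c4 LD2_c7 LD3_c36))))))))))))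
theorem f49710 : Led Lsl_ct (LP (LK LD1_c15 LD2_c31 LD3_c59)) = (LP (LK LD1_c25 LD2_c25 LD3_c11)) :=
  Lre_c IH (LK LD1_c15 LD2_c31 LD3_c59) (LK LD1_c25 LD2_c25 LD3_c11) Lrfl Lrfl
theorem f49379 : Led Lsl_ct (LP (LK LD1_c25 LD2_c26 LD3_c47)) = (LP (LK LD1_c15 LD2_c33 LD3_c12)) :=
  Lre_c IH (LK LD1_c25 LD2_c26 LD3_c47) (LK LD1_c15 LD2_c33 LD3_c12) Lrfl Lrfl
theorem f49715 : Led Lsl_at (LP (LK LD1_c25 LD2_c25 LD3_c11)) = (LP (LK LD1_c25 LD2_c26 LD3_c47)) :=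
  Lgr Lrot107 (Lpe (f49710 IH) (Lpr_af (K9.f49706 IH) (Lpe (f49379 IH) (Lpn (LP (LK LD1_c25 LD2_c26 LD3_c47))))))
theorem f53486 : Led Lsl_af (LP (LK LD1_c25 LD2_c25 LD3_c11)) = (LP (LK LD1_c25 LD2_c26 LD3_c47)) :=
  Lgr Lrot0 (Lpr_at (f49715 IH) (Lpn (LP (LK LD1_c25 LD2_c26 LD3_c47))))
theorem f49985 : Led Lsl_ft (LP (LK LD1_c25 LD2_c25 LD3_c11)) = (LP (LK LD1_c15 LD2_c31 LD3_c56)) :=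
  Lre_f IH (LK LD1_c25 LD2_c25 LD3_c11) (LK LD1_c15 LD2_c31 LD3_c56) Lrfl Lrfl
theorem f53488 : Led Lsl_ft (LP (LK LD1_c15 LD2_c33 LD3_c9)) = (LP (LK LD1_c25 LD2_c26 LD3_c47)) :=
  Lre_f IH (LK LD1_c15 LD2_c33 LD3_c9) (LK LD1_c25 LD2_c26 LD3_c47) Lrfl Lrfl
theorem f53489 : Led Lsl_at (LP (LK LD1_c15 LD2_c31 LD3_c56)) = (LP (LK LD1_c15 LD2_c33 LD3_c9)) :=
  Lgr Lrot66 (Lpe (f49985 IH) (Lpr_af (f53486 IH) (Lpe (f53488 IH) (Lpn (LP (LK LD1_c15 LD2_c33 LD3_c9))))))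
theorem f49811 : Led Lsl_et (LP (LK LD1_c8 LD2_c15 LD3_c35)) = (LP (LK LD1_c15 LD2_c31 LD3_c56)) :=
  Lre_e IH (LK LD1_c8 LD2_c15 LD3_c35) (LK LD1_c15 LD2_c31 LD3_c56) Lrfl Lrfl
theorem f53496 : Led Lsl_et (LP (LK LD1_c15 LD2_c33 LD3_c9)) = (LP (LK LD1_c8 LD2_c16 LD3_c18)) :=
  Lre_e IH (LK LD1_c15 LD2_c33 LD3_c9) (LK LD1_c8 LD2_c16 LD3_c18) Lrfl Lrfl
theorem f53497 : Led Lsl_af (LP (LK LD1_c8 LD2_c15 LD3_c35)) = (LP (LK LD1_c8 LD2_c16 LD3_c18)) :=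
  Lgr Lrot50 (Lpr_et (f49811 IH) (Lpr_at (f53489 IH) (Lpr_et (f53496 IH) (Lpn (LP (LK LD1_c8 LD2_c16 LD3_c18))))))
theorem f188318 : Led Lsl_dt (LP (LK LD1_c5 LD2_c17 LD3_c49)) = (LP (LK LD1_c8 LD2_c16 LD3_c18)) :=
  Lgr Lrot44 (Lpr_af (f188303 IH) (Lpe (K9.f49793 IH) (Lpr_af (f53497 IH) (Lpn (LP (LK LD1_c8 LD2_c16 LD3_c18))))))
theorem f49571 : Led Lsl_ct (LP (LK LD1_c4 LD2_c8 LD3_c5)) = (LP (LK LD1_c8 LD2_c16 LD3_c18)) :=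
  Lre_c IH (LK LD1_c4 LD2_c8 LD3_c5) (LK LD1_c8 LD2_c16 LD3_c18) Lrfl Lrfl
theorem f49351 : Led Lsl_gt (LP (LK LD1_c8 LD2_c16 LD3_c17)) = (LP (LK LD1_c4 LD2_c8 LD3_c5)) :=
  Lre_g IH (LK LD1_c8 LD2_c16 LD3_c17) (LK LD1_c4 LD2_c8 LD3_c5) Lrfl Lrfl
theorem f49556 : Led Lsl_af (LP (LK LD1_c4 LD2_c7 LD3_c36)) = (LP (LK LD1_c4 LD2_c7 LD3_c57)) :=
  Lgr Lrot45 (Lpr_ft (K8.f44982 IH) (Lpr_at (K8.f49547 IH) (Lpr_ft (K9.f49555 IH) (Lpn (LP (LK LD1_c4 LD2_c7 LD3_c57))))))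
theorem f184108 : Led Lsl_gt (LP (LK LD1_c2 LD2_c28 LD3_c28)) = (LP (LK LD1_c4 LD2_c7 LD3_c36)) :=
  Lgr Lrot46 (Lpr_gf (K9.f184106 IH) (Lpr_ft (K9.f49555 IH) (Lpe (f49556 IH) (Lpn (LP (LK LD1_c4 LD2_c7 LD3_c36))))))
theorem f3744 : Led Lsl_ct (LP (LK LD1_c5 LD2_c1 LD3_c31)) = (LP (LK LD1_c2 LD2_c28 LD3_c28)) :=
  Lre_c IH (LK LD1_c5 LD2_c1 LD3_c31) (LK LD1_c2 LD2_c28 LD3_c28) Lrfl Lrfl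
theorem f165898 : Led Lsl_at (LP (LK LD1_c5 LD2_c17 LD3_c9)) = (LP (LK LD1_c2 LD2_c35 LD3_c48)) :=
  Lre_a IH (LK LD1_c5 LD2_c17 LD3_c9) (LK LD1_c2 LD2_c35 LD3_c48) Lrfl Lrfl
theorem f48863 : Led Lsl_ft (LP (LK LD1_c2 LD2_c35 LD3_c18)) = (LP (LK LD1_c5 LD2_c17 LD3_c9)) :=
  Lre_f IH (LK LD1_c2 LD2_c35 LD3_c18) (LK LD1_c5 LD2_c17 LD3_c9) Lrfl Lrfl
theorem f165899 : Led Lsl_gt (LP (LK LD1_c2 LD2_c35 LD3_c18)) = (LP (LK LD1_c5 LD2_c1 LD3_c31)) :=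
  Lgr Lrot5 (Lpr_ft (f48863 IH) (Lpr_at (f165898 IH) (Lpr_gf (K9.f165894 IH) (Lpn (LP (LK LD1_c5 LD2_c1 LD3_c31))))))
theorem f32848 : Led Lsl_dt (LP (LK LD1_c5 LD2_c17 LD3_c8)) = (LP (LK LD1_c2 LD2_c35 LD3_c18)) :=
  Lre_d IH (LK LD1_c5 LD2_c17 LD3_c8) (LK LD1_c2 LD2_c35 LD3_c18) Lrfl Lrfl
theorem f32139 : Led Lsl_dt (LP (LK LD1_c1 LD2_c14 LD3_c37)) = (LP (LK LD1_c2 LD2_c35 LD3_c13)) :=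
  Lre_d IH (LK LD1_c1 LD2_c14 LD3_c37) (LK LD1_c2 LD2_c35 LD3_c13) Lrfl Lrfl
theorem f32140 : Led Lsl_gt (LP (LK LD1_c2 LD2_c35 LD3_c13)) = (LP (LK LD1_c5 LD2_c16 LD3_c60)) :=
  Lre_g IH (LK LD1_c2 LD2_c35 LD3_c13) (LK LD1_c5 LD2_c16 LD3_c60) Lrfl Lrfl
theorem f49623 : Led Lsl_af (LP (LK LD1_c4 LD2_c7 LD3_c45)) = (LP (LK LD1_c4 LD2_c8 LD3_c6)) :=
  Lgr Lrot68 (Lpr_ct (f49621 IH) (Lpr_at (K9.f49616 IH) (Lpr_ct (K9.f49622 IH) (Lpn (LP (LK LD1_c4 LD2_c8 LD3_c6))))))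
theorem f49324 : Led Lsl_ft (LP (LK LD1_c2 LD2_c1 LD3_c24)) = (LP (LK LD1_c4 LD2_c8 LD3_c6)) :=
  Lre_f IH (LK LD1_c2 LD2_c1 LD3_c24) (LK LD1_c4 LD2_c8 LD3_c6) Lrfl Lrfl
theorem f49326 : Led Lsl_gt (LP (LK LD1_c2 LD2_c1 LD3_c24)) = (LP (LK LD1_c4 LD2_c8 LD3_c2)) :=
  Lre_g IH (LK LD1_c2 LD2_c1 LD3_c24) (LK LD1_c4 LD2_c8 LD3_c2) Lrfl Lrfl
theorem f53578 : Led Lsl_gf (LP (LK LD1_c4 LD2_c7 LD3_c45)) = (LP (LK LD1_c4 LD2_c8 LD3_c2)) :=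
  Lgr Lrot76 (Lpr_af (f49623 IH) (Lpe (f49324 IH) (Lpr_gt (f49326 IH) (Lpn (LP (LK LD1_c4 LD2_c8 LD3_c2))))))
theorem f184125 : Led Lsl_ct (LP (LK LD1_c5 LD2_c16 LD3_c60)) = (LP (LK LD1_c4 LD2_c8 LD3_c2)) :=
  Lgr Lrot152 (Lpe (f32140 IH) (Lpe (f32139 IH) (Lpr_gt (K9.f165855 IH) (Lpr_ct (f165862 IH) (Lpr_gt (K9.f184117 IH) (Lpr_ct (K8.f49561 IH) (Lpe (K9.f49605 IH) (Lpe (f49621 IH) (Lpr_gf (f53578 IH) (Lpn (LP (LK LD1_c4 LD2_c8 LD3_c2))))))))))))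
theorem f184129 : Led Lsl_cf (LP (LK LD1_c5 LD2_c16 LD3_c60)) = (LP (LK LD1_c4 LD2_c8 LD3_c2)) :=
  Lgr Lrot11 (Lpr_ct (f184125 IH) (Lpn (LP (LK LD1_c4 LD2_c8 LD3_c2))))
theorem f32125 : Led Lsl_gt (LP (LK LD1_c5 LD2_c16 LD3_c60)) = (LP (LK LD1_c2 LD2_c35 LD3_c30)) :=
  Lre_g IH (LK LD1_c5 LD2_c16 LD3_c60) (LK LD1_c2 LD2_c35 LD3_c30) Lrfl Lrfl
theorem f32963 : Led Lsl_ct (LP (LK LD1_c2 LD2_c35 LD3_c30)) = (LP (LK LD1_c5 LD2_c17 LD3_c27)) :=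
  Lre_c IH (LK LD1_c2 LD2_c35 LD3_c30) (LK LD1_c5 LD2_c17 LD3_c27) Lrfl Lrfl
theorem f184153 : Led Lsl_dt (LP (LK LD1_c5 LD2_c17 LD3_c27)) = (LP (LK LD1_c10 LD2_c23 LD3_c58)) :=
  Lre_d IH (LK LD1_c5 LD2_c17 LD3_c27) (LK LD1_c10 LD2_c23 LD3_c58) Lrfl Lrfl
theorem f184154 : Led Lsl_ct (LP (LK LD1_c5 LD2_c17 LD3_c8)) = (LP (LK LD1_c10 LD2_c23 LD3_c58)) :=
  Lre_c IH (LK LD1_c5 LD2_c17 LD3_c8) (LK LD1_c10 LD2_c23 LD3_c58) Lrfl Lrfl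
theorem f32849 : Led Lsl_gt (LP (LK LD1_c10 LD2_c23 LD3_c57)) = (LP (LK LD1_c5 LD2_c17 LD3_c8)) :=
  Lre_g IH (LK LD1_c10 LD2_c23 LD3_c57) (LK LD1_c5 LD2_c17 LD3_c8) Lrfl Lrfl
theorem f49347 : Led Lsl_gt (LP (LK LD1_c4 LD2_c8 LD3_c5)) = (LP (LK LD1_c8 LD2_c16 LD3_c16)) :=
  Lre_g IH (LK LD1_c4 LD2_c8 LD3_c5) (LK LD1_c8 LD2_c16 LD3_c16) Lrfl Lrfl
theorem f184155 : Led Lsl_cf (LP (LK LD1_c10 LD2_c23 LD3_c57)) = (LP (LK LD1_c8 LD2_c16 LD3_c16)) :=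
  Lgr Lrot169 (Lpr_gt (f32849 IH) (Lpr_ct (f184154 IH) (Lpe (f184153 IH) (Lpe (f32963 IH) (Lpe (f32125 IH) (Lpr_cf (f184129 IH) (Lpe (f49326 IH) (Lpe (f49340 IH) (Lpr_gt (f49347 IH) (Lpn (LP (LK LD1_c8 LD2_c16 LD3_c16))))))))))))
theorem f184164 : Led Lsl_ct (LP (LK LD1_c10 LD2_c23 LD3_c57)) = (LP (LK LD1_c8 LD2_c16 LD3_c16)) :=
  Lgr Lrot59 (Lpr_cf (f184155 IH) (Lpn (LP (LK LD1_c8 LD2_c16 LD3_c16))))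
theorem f71630 : Led Lsl_gt (LP (LK LD1_c5 LD2_c18 LD3_c16)) = (LP (LK LD1_c10 LD2_c23 LD3_c57)) :=
  Lre_g IH (LK LD1_c5 LD2_c18 LD3_c16) (LK LD1_c10 LD2_c23 LD3_c57) Lrfl Lrfl
theorem f32856 : Led Lsl_dt (LP (LK LD1_c5 LD2_c18 LD3_c16)) = (LP (LK LD1_c2 LD2_c35 LD3_c48)) :=
  Lre_d IH (LK LD1_c5 LD2_c18 LD3_c16) (LK LD1_c2 LD2_c35 LD3_c48) Lrfl Lrfl
theorem f32814 : Led Lsl_gt (LP (LK LD1_c2 LD2_c35 LD3_c48)) = (LP (LK LD1_c5 LD2_c17 LD3_c6)) :=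
  Lre_g IH (LK LD1_c2 LD2_c35 LD3_c48) (LK LD1_c5 LD2_c17 LD3_c6) Lrfl Lrfl
theorem f49665 : Led Lsl_af (LP (LK LD1_c8 LD2_c15 LD3_c37)) = (LP (LK LD1_c8 LD2_c16 LD3_c20)) :=
  Lgr Lrot0 (Lpr_at (K9.f49659 IH) (Lpn (LP (LK LD1_c8 LD2_c16 LD3_c20))))
theorem f53508 : Led Lsl_ft (LP (LK LD1_c4 LD2_c8 LD3_c5)) = (LP (LK LD1_c8 LD2_c16 LD3_c20)) :=
  Lre_f IH (LK LD1_c4 LD2_c8 LD3_c5) (LK LD1_c8 LD2_c16 LD3_c20) Lrfl Lrfl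
theorem f53567 : Led Lsl_gf (LP (LK LD1_c8 LD2_c15 LD3_c37)) = (LP (LK LD1_c8 LD2_c16 LD3_c16)) :=
  Lgr Lrot76 (Lpr_af (f49665 IH) (Lpe (f53508 IH) (Lpr_gt (f49347 IH) (Lpn (LP (LK LD1_c8 LD2_c16 LD3_c16))))))
theorem f49154 : Led Lsl_gt (LP (LK LD1_c4 LD2_c7 LD3_c55)) = (LP (LK LD1_c2 LD2_c1 LD3_c19)) :=
  Lre_g IH (LK LD1_c4 LD2_c7 LD3_c55) (LK LD1_c2 LD2_c1 LD3_c19) Lrfl Lrfl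
theorem f184180 : Led Lsl_ct (LP (LK LD1_c5 LD2_c17 LD3_c6)) = (LP (LK LD1_c4 LD2_c7 LD3_c55)) :=
  Lgr Lrot152 (Lpe (f32814 IH) (Lpe (f32856 IH) (Lpr_gt (f71630 IH) (Lpr_ct (f184164 IH) (Lpe (f53567 IH) (Lpr_ct (K9.f49565 IH) (Lpe (f49119 IH) (Lpe (K9.f49124 IH) (Lpe (f49154 IH) (Lpn (LP (LK LD1_c4 LD2_c7 LD3_c55))))))))))))
theorem f32500 : Led Lsl_gt (LP (LK LD1_c5 LD2_c17 LD3_c6)) = (LP (LK LD1_c2 LD2_c35 LD3_c18)) :=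
  Lre_g IH (LK LD1_c5 LD2_c17 LD3_c6) (LK LD1_c2 LD2_c35 LD3_c18) Lrfl Lrfl
theorem f48792 : Led Lsl_dt (LP (LK LD1_c2 LD2_c35 LD3_c18)) = (LP (LK LD1_c5 LD2_c17 LD3_c8)) :=
  Lre_d IH (LK LD1_c2 LD2_c35 LD3_c18) (LK LD1_c5 LD2_c17 LD3_c8) Lrfl Lrfl
theorem f165865 : Led Lsl_dt (LP (LK LD1_c1 LD2_c11 LD3_c20)) = (LP (LK LD1_c2 LD2_c28 LD3_c13)) :=
  Lre_d IH (LK LD1_c1 LD2_c11 LD3_c20) (LK LD1_c2 LD2_c28 LD3_c13) Lrfl Lrfl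
theorem f3754 : Led Lsl_ct (LP (LK LD1_c2 LD2_c28 LD3_c13)) = (LP (LK LD1_c5 LD2_c0 LD3_c60)) :=
  Lre_c IH (LK LD1_c2 LD2_c28 LD3_c13) (LK LD1_c5 LD2_c0 LD3_c60) Lrfl Lrfl
theorem f184119 : Led Lsl_dt (LP (LK LD1_c9 LD2_c52 LD3_c22)) = (LP (LK LD1_c5 LD2_c0 LD3_c60)) :=
  Lre_d IH (LK LD1_c9 LD2_c52 LD3_c22) (LK LD1_c5 LD2_c0 LD3_c60) Lrfl Lrfl
theorem f184189 : Led Lsl_gt (LP (LK LD1_c5 LD2_c17 LD3_c8)) = (LP (LK LD1_c9 LD2_c52 LD3_c22)) :=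
  Lgr Lrot189 (Lpe (f48792 IH) (Lpe (f32500 IH) (Lpr_ct (f184180 IH) (Lpr_gt (f49154 IH) (Lpr_dt (K9.f49117 IH) (Lpe (K9.f184110 IH) (Lpr_dt (f165865 IH) (Lpr_ct (f3754 IH) (Lpe (f184119 IH) (Lpn (LP (LK LD1_c9 LD2_c52 LD3_c22))))))))))))
theorem f188329 : Led Lsl_cf (LP (LK LD1_c8 LD2_c16 LD3_c17)) = (LP (LK LD1_c9 LD2_c52 LD3_c22)) :=
  Lgr Lrot169 (Lpr_gt (f49351 IH) (Lpr_ct (f49571 IH) (Lpe (f188318 IH) (Lpr_cf (f188325 IH) (Lpe (f184108 IH) (Lpe (f3744 IH) (Lpe (f165899 IH) (Lpe (f32848 IH) (Lpr_gt (f184189 IH) (Lpn (LP (LK LD1_c9 LD2_c52 LD3_c22))))))))))))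
theorem f188497 : Led Lsl_ct (LP (LK LD1_c8 LD2_c16 LD3_c17)) = (LP (LK LD1_c9 LD2_c52 LD3_c22)) :=
  Lgr Lrot59 (Lpr_cf (f188329 IH) (Lpn (LP (LK LD1_c9 LD2_c52 LD3_c22))))
theorem f49682 : Led Lsl_at (LP (LK LD1_c4 LD2_c7 LD3_c44)) = (LP (LK LD1_c4 LD2_c8 LD3_c5)) :=
  Lgr Lrot100 (Lpr_af (K9.f49671 IH) (Lpn (LP (LK LD1_c4 LD2_c8 LD3_c5))))
theorem f49984 : Led Lsl_ft (LP (LK LD1_c8 LD2_c15 LD3_c37)) = (LP (LK LD1_c4 LD2_c7 LD3_c44)) :=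
  Lre_f IH (LK LD1_c8 LD2_c15 LD3_c37) (LK LD1_c4 LD2_c7 LD3_c44) Lrfl Lrfl
theorem f53560 : Led Lsl_gt (LP (LK LD1_c8 LD2_c15 LD3_c37)) = (LP (LK LD1_c8 LD2_c16 LD3_c17)) :=
  Lgr Lrot5 (Lpr_ft (f49984 IH) (Lpr_at (f49682 IH) (Lpe (f49351 IH) (Lpn (LP (LK LD1_c8 LD2_c16 LD3_c17))))))
theorem f49580 : Led Lsl_at (LP (LK LD1_c2 LD2_c1 LD3_c13)) = (LP (LK LD1_c2 LD2_c1 LD3_c24)) :=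
  Lgr Lrot33 (Lpe (K9.f49579 IH) (Lpr_dt (K9.f49564 IH) (Lpr_ct (K9.f49565 IH) (Lpr_dt (K9.f49127 IH) (Lpr_ct (K9.f49114 IH) (Lpr_dt (K9.f49117 IH) (Lpr_ct (K9.f49118 IH) (Lpr_dt (K9.f1438 IH) (Lpr_ct (f49338 IH) (Lpn (LP (LK LD1_c2 LD2_c1 LD3_c24))))))))))))
theorem f49332 : Led Lsl_gt (LP (LK LD1_c4 LD2_c8 LD3_c3)) = (LP (LK LD1_c2 LD2_c1 LD3_c24)) :=
  Lre_g IH (LK LD1_c4 LD2_c8 LD3_c3) (LK LD1_c2 LD2_c1 LD3_c24) Lrfl Lrfl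
theorem f53590 : Led Lsl_gt (LP (LK LD1_c4 LD2_c7 LD3_c45)) = (LP (LK LD1_c4 LD2_c8 LD3_c3)) :=
  Lgr Lrot5 (Lpr_ft (K9.f49579 IH) (Lpr_at (f49580 IH) (Lpe (f49332 IH) (Lpn (LP (LK LD1_c4 LD2_c8 LD3_c3))))))
theorem f47454 : Led Lsl_gt (LP (LK LD1_c2 LD2_c0 LD3_c38)) = (LP (LK LD1_c0 LD2_c57 LD3_c16)) :=
  Lre_g IH (LK LD1_c2 LD2_c0 LD3_c38) (LK LD1_c0 LD2_c57 LD3_c16) Lrfl Lrfl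
theorem f181247 : Led Lsl_bt (LP (LK LD1_c4 LD2_c6 LD3_c35)) = (LP (LK LD1_c2 LD2_c0 LD3_c38)) :=
  Lre_b IH (LK LD1_c4 LD2_c6 LD3_c35) (LK LD1_c2 LD2_c0 LD3_c38) Lrfl Lrfl
theorem f188047 : Led Lsl_cf (LP (LK LD1_c4 LD2_c8 LD3_c3)) = (LP (LK LD1_c4 LD2_c6 LD3_c35)) :=
  Lgr Lrot163 (Lpe (f53590 IH) (Lpe (K9.f49563 IH) (Lpr_gf (f188040 IH) (Lpe (f181243 IH) (Lpr_ct (f181181 IH) (Lpr_gf (f181233 IH) (Lpe (K1.f54843 IH) (Lpr_bt (K9.f54970 IH) (Lpe (f47454 IH) (Lpe (f181247 IH) (Lpn (LP (LK LD1_c4 LD2_c6 LD3_c35)))))))))))))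
theorem f188055 : Led Lsl_ct (LP (LK LD1_c4 LD2_c8 LD3_c3)) = (LP (LK LD1_c4 LD2_c6 LD3_c35)) :=
  Lgr Lrot59 (Lpr_cf (f188047 IH) (Lpn (LP (LK LD1_c4 LD2_c6 LD3_c35))))
theorem f184194 : Led Lsl_ft (LP (LK LD1_c5 LD2_c17 LD3_c8)) = (LP (LK LD1_c10 LD2_c23 LD3_c60)) :=
  Lre_f IH (LK LD1_c5 LD2_c17 LD3_c8) (LK LD1_c10 LD2_c23 LD3_c60) Lrfl Lrfl
theorem f184195 : Led Lsl_at (LP (LK LD1_c10 LD2_c23 LD3_c60)) = (LP (LK LD1_c5 LD2_c18 LD3_c16)) :=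
  Lre_a IH (LK LD1_c10 LD2_c23 LD3_c60) (LK LD1_c5 LD2_c18 LD3_c16) Lrfl Lrfl
theorem f184196 : Led Lsl_gf (LP (LK LD1_c5 LD2_c18 LD3_c16)) = (LP (LK LD1_c9 LD2_c52 LD3_c22)) :=
  Lgr Lrot76 (Lpe (f184195 IH) (Lpe (f184194 IH) (Lpr_gt (f184189 IH) (Lpn (LP (LK LD1_c9 LD2_c52 LD3_c22))))))
theorem f165902 : Led Lsl_ct (LP (LK LD1_c5 LD2_c18 LD3_c16)) = (LP (LK LD1_c10 LD2_c23 LD3_c38)) :=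
  Lre_c IH (LK LD1_c5 LD2_c18 LD3_c16) (LK LD1_c10 LD2_c23 LD3_c38) Lrfl Lrfl
theorem f165903 : Led Lsl_dt (LP (LK LD1_c5 LD2_c16 LD3_c61)) = (LP (LK LD1_c10 LD2_c23 LD3_c38)) :=
  Lre_d IH (LK LD1_c5 LD2_c16 LD3_c61) (LK LD1_c10 LD2_c23 LD3_c38) Lrfl Lrfl
theorem f54061 : Led Lsl_ct (LP (LK LD1_c2 LD2_c35 LD3_c13)) = (LP (LK LD1_c5 LD2_c16 LD3_c61)) :=
  Lre_c IH (LK LD1_c2 LD2_c35 LD3_c13) (LK LD1_c5 LD2_c16 LD3_c61) Lrfl Lrfl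
theorem f188518 : Led Lsl_gt (LP (LK LD1_c4 LD2_c6 LD3_c35)) = (LP (LK LD1_c2 LD2_c35 LD3_c13)) :=
  Lgr Lrot150 (Lpe (f188055 IH) (Lpe (f53590 IH) (Lpe (f49783 IH) (Lpr_gt (f53560 IH) (Lpr_ct (f188497 IH) (Lpe (f184196 IH) (Lpr_ct (f165902 IH) (Lpe (f165903 IH) (Lpe (f54061 IH) (Lpn (LP (LK LD1_c2 LD2_c35 LD3_c13))))))))))))
theorem f32138 : Led Lsl_et (LP (LK LD1_c1 LD2_c14 LD3_c37)) = (LP (LK LD1_c0 LD2_c34 LD3_c37)) :=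
  Lre_e IH (LK LD1_c1 LD2_c14 LD3_c37) (LK LD1_c0 LD2_c34 LD3_c37) Lrfl Lrfl
theorem f27390 : Led Lsl_et (LP (LK LD1_c0 LD2_c11 LD3_c57)) = (LP (LK LD1_c0 LD2_c26 LD3_c60)) :=
  Lre_e IH (LK LD1_c0 LD2_c11 LD3_c57) (LK LD1_c0 LD2_c26 LD3_c60) Lrfl Lrfl
theorem f54512 : Led Lsl_gt (LP (LK LD1_c0 LD2_c26 LD3_c60)) = (LP (LK LD1_c0 LD2_c59 LD3_c12)) :=
  Lre_g IH (LK LD1_c0 LD2_c26 LD3_c60) (LK LD1_c0 LD2_c59 LD3_c12) Lrfl Lrfl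
theorem f27517 : Led Lsl_et (LP (LK LD1_c2 LD2_c4 LD3_c23)) = (LP (LK LD1_c0 LD2_c59 LD3_c12)) :=
  Lre_e IH (LK LD1_c2 LD2_c4 LD3_c23) (LK LD1_c0 LD2_c59 LD3_c12) Lrfl Lrfl
theorem f188524 : Led Lsl_df (LP (LK LD1_c4 LD2_c6 LD3_c35)) = (LP (LK LD1_c2 LD2_c4 LD3_c23)) :=
  Lgr Lrot170 (Lpr_gt (f188518 IH) (Lpe (f32139 IH) (Lpr_et (f32138 IH) (Lpe (K1.f32925 IH) (Lpe (K8.f48177 IH) (Lpr_gt (K1.f45718 IH) (Lpe (K0.f1427 IH) (Lpr_et (f27390 IH) (Lpr_gt (f54512 IH) (Lpe (f27517 IH) (Lpn (LP (LK LD1_c2 LD2_c4 LD3_c23)))))))))))))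
theorem f188529 : Led Lsl_dt (LP (LK LD1_c4 LD2_c6 LD3_c35)) = (LP (LK LD1_c2 LD2_c4 LD3_c23)) :=
  Lgr Lrot42 (Lpr_df (f188524 IH) (Lpn (LP (LK LD1_c2 LD2_c4 LD3_c23))))
theorem f32969 : Led Lsl_ft (LP (LK LD1_c2 LD2_c35 LD3_c30)) = (LP (LK LD1_c1 LD2_c14 LD3_c46)) :=
  Lre_f IH (LK LD1_c2 LD2_c35 LD3_c30) (LK LD1_c1 LD2_c14 LD3_c46) Lrfl Lrfl
theorem f188520 : Led Lsl_gf (LP (LK LD1_c4 LD2_c6 LD3_c35)) = (LP (LK LD1_c2 LD2_c35 LD3_c30)) :=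
  Lgr Lrot47 (Lpr_gt (f188518 IH) (Lpe (K9.f33045 IH) (Lpe (f32969 IH) (Lpn (LP (LK LD1_c2 LD2_c35 LD3_c30))))))
theorem f32116 : Led Lsl_dt (LP (LK LD1_c1 LD2_c14 LD3_c47)) = (LP (LK LD1_c2 LD2_c35 LD3_c30)) :=
  Lre_d IH (LK LD1_c1 LD2_c14 LD3_c47) (LK LD1_c2 LD2_c35 LD3_c30) Lrfl Lrfl
theorem f49558 : Led Lsl_gt (LP (LK LD1_c4 LD2_c7 LD3_c36)) = (LP (LK LD1_c4 LD2_c7 LD3_c55)) :=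
  Lgr Lrot5 (Lpr_ft (K8.f44982 IH) (Lpr_at (K8.f49547 IH) (Lpe (f49154 IH) (Lpn (LP (LK LD1_c4 LD2_c7 LD3_c55))))))
theorem f188528 : Led Lsl_ct (LP (LK LD1_c4 LD2_c13 LD3_c59)) = (LP (LK LD1_c2 LD2_c4 LD3_c23)) :=
  Lre_c IH (LK LD1_c4 LD2_c13 LD3_c59) (LK LD1_c2 LD2_c4 LD3_c23) Lrfl Lrfl
theorem f188720 : Led Lsl_dt (LP (LK LD1_c4 LD2_c7 LD3_c55)) = (LP (LK LD1_c4 LD2_c13 LD3_c59)) :=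
  Lgr Lrot105 (Lpe (f49558 IH) (Lpe (K9.f49813 IH) (Lpe (K9.f184117 IH) (Lpe (f165862 IH) (Lpe (K9.f165857 IH) (Lpr_dt (f32116 IH) (Lpe (f188520 IH) (Lpr_dt (f188529 IH) (Lpe (f188528 IH) (Lpn (LP (LK LD1_c4 LD2_c13 LD3_c59))))))))))))
theorem f188723 : Led Lsl_df (LP (LK LD1_c4 LD2_c7 LD3_c55)) = (LP (LK LD1_c4 LD2_c13 LD3_c59)) :=
  Lgr Lrot38 (Lpr_dt (f188720 IH) (Lpn (LP (LK LD1_c4 LD2_c13 LD3_c59))))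
theorem f170504 : Led Lsl_et (LP (LK LD1_c2 LD2_c28 LD3_c14)) = (LP (LK LD1_c1 LD2_c11 LD3_c20)) :=
  Lre_e IH (LK LD1_c2 LD2_c28 LD3_c14) (LK LD1_c1 LD2_c11 LD3_c20) Lrfl Lrfl
theorem f33323 : Led Lsl_dt (LP (LK LD1_c2 LD2_c23 LD3_c17)) = (LP (LK LD1_c1 LD2_c11 LD3_c23)) :=
  Lgr Lrot42 (Lpr_df (K0.f33316 IH) (Lpn (LP (LK LD1_c1 LD2_c11 LD3_c23))))
theorem f167284 : Led Lsl_bt (LP (LK LD1_c1 LD2_c11 LD3_c23)) = (LP (LK LD1_c2 LD2_c28 LD3_c14)) :=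
  Lre_b IH (LK LD1_c1 LD2_c11 LD3_c23) (LK LD1_c2 LD2_c28 LD3_c14) Lrfl Lrfl
theorem f167285 : Led Lsl_df (LP (LK LD1_c4 LD2_c16 LD3_c26)) = (LP (LK LD1_c2 LD2_c28 LD3_c14)) :=
  Lgr Lrot12 (Lpr_bt (K9.f167277 IH) (Lpr_dt (f33323 IH) (Lpr_bt (f167284 IH) (Lpn (LP (LK LD1_c2 LD2_c28 LD3_c14))))))
theorem f188583 : Led Lsl_et (LP (LK LD1_c4 LD2_c13 LD3_c59)) = (LP (LK LD1_c2 LD2_c4 LD3_c21)) :=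
  Lre_e IH (LK LD1_c4 LD2_c13 LD3_c59) (LK LD1_c2 LD2_c4 LD3_c21) Lrfl Lrfl
theorem f188190 : Led Lsl_et (LP (LK LD1_c4 LD2_c6 LD3_c35)) = (LP (LK LD1_c8 LD2_c13 LD3_c44)) :=
  Lre_e IH (LK LD1_c4 LD2_c6 LD3_c35) (LK LD1_c8 LD2_c13 LD3_c44) Lrfl Lrfl
theorem f188531 : Led Lsl_et (LP (LK LD1_c0 LD2_c59 LD3_c12)) = (LP (LK LD1_c2 LD2_c4 LD3_c23)) :=
  Lre_e IH (LK LD1_c0 LD2_c59 LD3_c12) (LK LD1_c2 LD2_c4 LD3_c23) Lrfl Lrfl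
theorem f188532 : Led Lsl_dt (LP (LK LD1_c2 LD2_c4 LD3_c22)) = (LP (LK LD1_c0 LD2_c59 LD3_c12)) :=
  Lre_d IH (LK LD1_c2 LD2_c4 LD3_c22) (LK LD1_c0 LD2_c59 LD3_c12) Lrfl Lrfl
theorem f188533 : Led Lsl_et (LP (LK LD1_c4 LD2_c14 LD3_c0)) = (LP (LK LD1_c2 LD2_c4 LD3_c22)) :=
  Lre_e IH (LK LD1_c4 LD2_c14 LD3_c0) (LK LD1_c2 LD2_c4 LD3_c22) Lrfl Lrfl
theorem f188534 : Led Lsl_dt (LP (LK LD1_c8 LD2_c13 LD3_c44)) = (LP (LK LD1_c4 LD2_c14 LD3_c0)) :=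
  Lgr Lrot77 (Lpe (f188190 IH) (Lpr_df (f188524 IH) (Lpe (f188531 IH) (Lpe (f188532 IH) (Lpe (f188533 IH) (Lpn (LP (LK LD1_c4 LD2_c14 LD3_c0))))))))
theorem f188541 : Led Lsl_df (LP (LK LD1_c8 LD2_c13 LD3_c44)) = (LP (LK LD1_c4 LD2_c14 LD3_c0)) :=
  Lgr Lrot38 (Lpr_dt (f188534 IH) (Lpn (LP (LK LD1_c4 LD2_c14 LD3_c0))))
theorem f187327 : Led Lsl_bt (LP (LK LD1_c8 LD2_c13 LD3_c44)) = (LP (LK LD1_c4 LD2_c6 LD3_c37)) :=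
  Lre_b IH (LK LD1_c8 LD2_c13 LD3_c44) (LK LD1_c4 LD2_c6 LD3_c37) Lrfl Lrfl
theorem f187252 : Led Lsl_df (LP (LK LD1_c3 LD2_c58 LD3_c13)) = (LP (LK LD1_c4 LD2_c20 LD3_c20)) :=
  Lgr Lrot38 (Lpr_dt (f187248 IH) (Lpn (LP (LK LD1_c4 LD2_c20 LD3_c20))))
theorem f167801 : Led Lsl_et (LP (LK LD1_c1 LD2_c9 LD3_c49)) = (LP (LK LD1_c2 LD2_c25 LD3_c9)) :=
  Lre_e IH (LK LD1_c1 LD2_c9 LD3_c49) (LK LD1_c2 LD2_c25 LD3_c9) Lrfl Lrfl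
theorem f167802 : Led Lsl_cf (LP (LK LD1_c3 LD2_c58 LD3_c13)) = (LP (LK LD1_c2 LD2_c25 LD3_c9)) :=
  Lgr Lrot39 (Lpr_et (f167800 IH) (Lpr_ct (K9.f167792 IH) (Lpr_et (f167801 IH) (Lpn (LP (LK LD1_c2 LD2_c25 LD3_c9))))))
theorem f169265 : Led Lsl_ct (LP (LK LD1_c3 LD2_c58 LD3_c13)) = (LP (LK LD1_c2 LD2_c25 LD3_c9)) :=
  Lgr Lrot59 (Lpr_cf (f167802 IH) (Lpn (LP (LK LD1_c2 LD2_c25 LD3_c9))))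
theorem f47855 : Led Lsl_gt (LP (LK LD1_c4 LD2_c6 LD3_c16)) = (LP (LK LD1_c2 LD2_c0 LD3_c38)) :=
  Lre_g IH (LK LD1_c4 LD2_c6 LD3_c16) (LK LD1_c2 LD2_c0 LD3_c38) Lrfl Lrfl
theorem f187301 : Led Lsl_df (LP (LK LD1_c2 LD2_c25 LD3_c9)) = (LP (LK LD1_c2 LD2_c0 LD3_c38)) :=
  Lgr Lrot84 (Lpe (f169265 IH) (Lpr_df (f187252 IH) (Lpe (f183662 IH) (Lpe (f183633 IH) (Lpe (K9.f183612 IH) (Lpe (K9.f179074 IH) (Lpr_gt (K9.f47856 IH) (Lpr_dt (K1.f47851 IH) (Lpr_gt (f47855 IH) (Lpn (LP (LK LD1_c2 LD2_c0 LD3_c38))))))))))))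
theorem f169269 : Led Lsl_et (LP (LK LD1_c2 LD2_c25 LD3_c9)) = (LP (LK LD1_c1 LD2_c9 LD3_c49)) :=
  Lre_e IH (LK LD1_c2 LD2_c25 LD3_c9) (LK LD1_c1 LD2_c9 LD3_c49) Lrfl Lrfl
theorem f41908 : Led Lsl_dt (LP (LK LD1_c1 LD2_c9 LD3_c49)) = (LP (LK LD1_c2 LD2_c25 LD3_c8)) :=
  Lre_d IH (LK LD1_c1 LD2_c9 LD3_c49) (LK LD1_c2 LD2_c25 LD3_c8) Lrfl Lrfl
theorem f55107 : Led Lsl_et (LP (LK LD1_c2 LD2_c25 LD3_c8)) = (LP (LK LD1_c4 LD2_c54 LD3_c31)) :=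
  Lre_e IH (LK LD1_c2 LD2_c25 LD3_c8) (LK LD1_c4 LD2_c54 LD3_c31) Lrfl Lrfl
theorem f47873 : Led Lsl_et (LP (LK LD1_c4 LD2_c6 LD3_c37)) = (LP (LK LD1_c2 LD2_c0 LD3_c38)) :=
  Lre_e IH (LK LD1_c4 LD2_c6 LD3_c37) (LK LD1_c2 LD2_c0 LD3_c38) Lrfl Lrfl
theorem f187307 : Led Lsl_dt (LP (LK LD1_c4 LD2_c54 LD3_c31)) = (LP (LK LD1_c4 LD2_c6 LD3_c37)) :=
  Lgr Lrot77 (Lpe (f55107 IH) (Lpe (f41908 IH) (Lpe (f169269 IH) (Lpr_df (f187301 IH) (Lpe (f47873 IH) (Lpn (LP (LK LD1_c4 LD2_c6 LD3_c37))))))))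
theorem f187317 : Led Lsl_df (LP (LK LD1_c4 LD2_c54 LD3_c31)) = (LP (LK LD1_c4 LD2_c6 LD3_c37)) :=
  Lgr Lrot38 (Lpr_dt (f187307 IH) (Lpn (LP (LK LD1_c4 LD2_c6 LD3_c37))))
theorem f188552 : Led Lsl_bt (LP (LK LD1_c4 LD2_c54 LD3_c31)) = (LP (LK LD1_c4 LD2_c14 LD3_c0)) :=
  Lgr Lrot95 (Lpr_df (f187317 IH) (Lpe (f187327 IH) (Lpr_df (f188541 IH) (Lpn (LP (LK LD1_c4 LD2_c14 LD3_c0))))))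
theorem f188557 : Led Lsl_bf (LP (LK LD1_c2 LD2_c25 LD3_c8)) = (LP (LK LD1_c2 LD2_c4 LD3_c22)) :=
  Lgr Lrot96 (Lpr_et (f55107 IH) (Lpr_bt (f188552 IH) (Lpr_et (f188533 IH) (Lpn (LP (LK LD1_c2 LD2_c4 LD3_c22))))))
theorem f55106 : Led Lsl_dt (LP (LK LD1_c2 LD2_c25 LD3_c8)) = (LP (LK LD1_c1 LD2_c9 LD3_c49)) :=
  Lre_d IH (LK LD1_c2 LD2_c25 LD3_c8) (LK LD1_c1 LD2_c9 LD3_c49) Lrfl Lrfl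
theorem f54513 : Led Lsl_dt (LP (LK LD1_c0 LD2_c59 LD3_c12)) = (LP (LK LD1_c2 LD2_c4 LD3_c22)) :=
  Lre_d IH (LK LD1_c0 LD2_c59 LD3_c12) (LK LD1_c2 LD2_c4 LD3_c22) Lrfl Lrfl
theorem f188565 : Led Lsl_bt (LP (LK LD1_c1 LD2_c9 LD3_c49)) = (LP (LK LD1_c0 LD2_c59 LD3_c12)) :=
  Lgr Lrot95 (Lpe (f55106 IH) (Lpr_bf (f188557 IH) (Lpe (f54513 IH) (Lpn (LP (LK LD1_c0 LD2_c59 LD3_c12))))))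
theorem f188574 : Led Lsl_bf (LP (LK LD1_c2 LD2_c25 LD3_c9)) = (LP (LK LD1_c2 LD2_c4 LD3_c23)) :=
  Lgr Lrot96 (Lpr_et (f169269 IH) (Lpr_bt (f188565 IH) (Lpr_et (f188531 IH) (Lpn (LP (LK LD1_c2 LD2_c4 LD3_c23))))))
theorem f169264 : Led Lsl_bt (LP (LK LD1_c3 LD2_c58 LD3_c13)) = (LP (LK LD1_c1 LD2_c55 LD3_c57)) :=
  Lre_b IH (LK LD1_c3 LD2_c58 LD3_c13) (LK LD1_c1 LD2_c55 LD3_c57) Lrfl Lrfl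
theorem f47973 : Led Lsl_ct (LP (LK LD1_c1 LD2_c55 LD3_c57)) = (LP (LK LD1_c3 LD2_c58 LD3_c15)) :=
  Lre_c IH (LK LD1_c1 LD2_c55 LD3_c57) (LK LD1_c3 LD2_c58 LD3_c15) Lrfl Lrfl
theorem f188577 : Led Lsl_bt (LP (LK LD1_c3 LD2_c58 LD3_c15)) = (LP (LK LD1_c4 LD2_c13 LD3_c59)) :=
  Lgr Lrot128 (Lpe (f47973 IH) (Lpe (f169264 IH) (Lpr_cf (f167802 IH) (Lpr_bf (f188574 IH) (Lpe (f188528 IH) (Lpn (LP (LK LD1_c4 LD2_c13 LD3_c59))))))))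
theorem f188580 : Led Lsl_bf (LP (LK LD1_c3 LD2_c58 LD3_c15)) = (LP (LK LD1_c4 LD2_c13 LD3_c59)) :=
  Lgr Lrot24 (Lpr_bt (f188577 IH) (Lpn (LP (LK LD1_c4 LD2_c13 LD3_c59))))
theorem f188584 : Led Lsl_et (LP (LK LD1_c3 LD2_c58 LD3_c15)) = (LP (LK LD1_c1 LD2_c55 LD3_c55)) :=
  Lre_e IH (LK LD1_c3 LD2_c58 LD3_c15) (LK LD1_c1 LD2_c55 LD3_c55) Lrfl Lrfl
theorem f188585 : Led Lsl_et (LP (LK LD1_c2 LD2_c4 LD3_c21)) = (LP (LK LD1_c4 LD2_c13 LD3_c59)) :=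
  Lre_e IH (LK LD1_c2 LD2_c4 LD3_c21) (LK LD1_c4 LD2_c13 LD3_c59) Lrfl Lrfl
theorem f188586 : Led Lsl_bt (LP (LK LD1_c1 LD2_c55 LD3_c55)) = (LP (LK LD1_c2 LD2_c4 LD3_c21)) :=
  Lgr Lrot119 (Lpe (f188584 IH) (Lpr_bf (f188580 IH) (Lpe (f188585 IH) (Lpn (LP (LK LD1_c2 LD2_c4 LD3_c21))))))
theorem f42760 : Led Lsl_ct (LP (LK LD1_c1 LD2_c55 LD3_c55)) = (LP (LK LD1_c0 LD2_c54 LD3_c41)) :=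
  Lre_c IH (LK LD1_c1 LD2_c55 LD3_c55) (LK LD1_c0 LD2_c54 LD3_c41) Lrfl Lrfl
theorem f42721 : Led Lsl_bt (LP (LK LD1_c0 LD2_c10 LD3_c57)) = (LP (LK LD1_c0 LD2_c5 LD3_c8)) :=
  Lre_b IH (LK LD1_c0 LD2_c10 LD3_c57) (LK LD1_c0 LD2_c5 LD3_c8) Lrfl Lrfl
theorem f42723 : Led Lsl_bt (LP (LK LD1_c0 LD2_c35 LD3_c3)) = (LP (LK LD1_c0 LD2_c24 LD3_c33)) :=
  Lgr Lrot128 (Lpr_cf (K9.f42718 IH) (Lpe (K9.f42720 IH) (Lpe (K1.f28390 IH) (Lpe (f42721 IH) (Lpe (K9.f42722 IH) (Lpn (LP (LK LD1_c0 LD2_c24 LD3_c33))))))))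
theorem f28799 : Led Lsl_gt (LP (LK LD1_c0 LD2_c54 LD3_c22)) = (LP (LK LD1_c0 LD2_c24 LD3_c33)) :=
  Lre_g IH (LK LD1_c0 LD2_c54 LD3_c22) (LK LD1_c0 LD2_c24 LD3_c33) Lrfl Lrfl
theorem f167773 : Led Lsl_bt (LP (LK LD1_c0 LD2_c12 LD3_c39)) = (LP (LK LD1_c0 LD2_c28 LD3_c38)) :=
  Lre_b IH (LK LD1_c0 LD2_c12 LD3_c39) (LK LD1_c0 LD2_c28 LD3_c38) Lrfl Lrfl
theorem f40806 : Led Lsl_bt (LP (LK LD1_c0 LD2_c24 LD3_c48)) = (LP (LK LD1_c0 LD2_c11 LD3_c1)) :=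
  Lre_b IH (LK LD1_c0 LD2_c24 LD3_c48) (LK LD1_c0 LD2_c11 LD3_c1) Lrfl Lrfl
theorem f173208 : Led Lsl_cf (LP (LK LD1_c0 LD2_c54 LD3_c22)) = (LP (LK LD1_c0 LD2_c24 LD3_c48)) :=
  Lgr Lrot160 (Lpr_gt (f28799 IH) (Lpe (K1.f39246 IH) (Lpr_bt (f42721 IH) (Lpr_gt (K9.f27243 IH) (Lpr_ct (K9.f173178 IH) (Lpr_gt (K9.f40803 IH) (Lpe (K9.f40802 IH) (Lpr_bt (K9.f40797 IH) (Lpe (K9.f40789 IH) (Lpe (f40806 IH) (Lpn (LP (LK LD1_c0 LD2_c24 LD3_c48)))))))))))))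
theorem f173349 : Led Lsl_ct (LP (LK LD1_c0 LD2_c54 LD3_c22)) = (LP (LK LD1_c0 LD2_c24 LD3_c48)) :=
  Lgr Lrot59 (Lpr_cf (f173208 IH) (Lpn (LP (LK LD1_c0 LD2_c24 LD3_c48))))
theorem f187228 : Led Lsl_bf (LP (LK LD1_c0 LD2_c54 LD3_c22)) = (LP (LK LD1_c0 LD2_c59 LD3_c37)) :=
  Lgr Lrot90 (Lpr_ct (f173349 IH) (Lpr_bt (f40806 IH) (Lpr_ct (K9.f167771 IH) (Lpr_bt (f167773 IH) (Lpr_ct (f187226 IH) (Lpn (LP (LK LD1_c0 LD2_c59 LD3_c37))))))))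
theorem f187230 : Led Lsl_cf (LP (LK LD1_c0 LD2_c28 LD3_c38)) = (LP (LK LD1_c0 LD2_c59 LD3_c37)) :=
  Lgr Lrot11 (Lpr_ct (f187226 IH) (Lpn (LP (LK LD1_c0 LD2_c59 LD3_c37))))
theorem f167754 : Led Lsl_gt (LP (LK LD1_c1 LD2_c2 LD3_c49)) = (LP (LK LD1_c0 LD2_c28 LD3_c38)) :=
  Lre_g IH (LK LD1_c1 LD2_c2 LD3_c49) (LK LD1_c0 LD2_c28 LD3_c38) Lrfl Lrfl
theorem f187239 : Led Lsl_ct (LP (LK LD1_c2 LD2_c11 LD3_c38)) = (LP (LK LD1_c1 LD2_c2 LD3_c49)) :=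
  Lre_c IH (LK LD1_c2 LD2_c11 LD3_c38) (LK LD1_c1 LD2_c2 LD3_c49) Lrfl Lrfl
theorem f188592 : Led Lsl_gf (LP (LK LD1_c2 LD2_c11 LD3_c38)) = (LP (LK LD1_c2 LD2_c4 LD3_c21)) :=
  Lgr Lrot181 (Lpr_ct (f187239 IH) (Lpr_gt (f167754 IH) (Lpr_cf (f187230 IH) (Lpe (f187228 IH) (Lpr_gt (f28799 IH) (Lpe (f42723 IH) (Lpr_ct (K9.f42725 IH) (Lpr_gt (K9.f42729 IH) (Lpe (f42760 IH) (Lpr_bt (f188586 IH) (Lpn (LP (LK LD1_c2 LD2_c4 LD3_c21)))))))))))))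
theorem f188594 : Led Lsl_dt (LP (LK LD1_c2 LD2_c11 LD3_c38)) = (LP (LK LD1_c4 LD2_c29 LD3_c1)) :=
  Lre_d IH (LK LD1_c2 LD2_c11 LD3_c38) (LK LD1_c4 LD2_c29 LD3_c1) Lrfl Lrfl
theorem f188731 : Led Lsl_gf (LP (LK LD1_c4 LD2_c16 LD3_c26)) = (LP (LK LD1_c4 LD2_c29 LD3_c1)) :=
  Lgr Lrot134 (Lpr_df (f167285 IH) (Lpr_et (f170504 IH) (Lpr_gt (K9.f184117 IH) (Lpe (K9.f50076 IH) (Lpr_dt (K9.f49813 IH) (Lpr_gt (f49558 IH) (Lpr_df (f188723 IH) (Lpr_et (f188583 IH) (Lpe (f188592 IH) (Lpr_dt (f188594 IH) (Lpn (LP (LK LD1_c4 LD2_c29 LD3_c1)))))))))))))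
theorem f1033 : Led Lsl_ct (LP (LK LD1_c0 LD2_c59 LD3_c48)) = (LP (LK LD1_c0 LD2_c27 LD3_c11)) :=
  Lre_c IH (LK LD1_c0 LD2_c59 LD3_c48) (LK LD1_c0 LD2_c27 LD3_c11) Lrfl Lrfl
theorem f188735 : Led Lsl_ct (LP (LK LD1_c0 LD2_c26 LD3_c60)) = (LP (LK LD1_c0 LD2_c12 LD3_c3)) :=
  Lre_c IH (LK LD1_c0 LD2_c26 LD3_c60) (LK LD1_c0 LD2_c12 LD3_c3) Lrfl Lrfl
theorem f45730 : Led Lsl_gt (LP (LK LD1_c0 LD2_c59 LD3_c13)) = (LP (LK LD1_c0 LD2_c26 LD3_c60)) :=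
  Lre_g IH (LK LD1_c0 LD2_c59 LD3_c13) (LK LD1_c0 LD2_c26 LD3_c60) Lrfl Lrfl
theorem f51454 : Led Lsl_ct (LP (LK LD1_c2 LD2_c4 LD3_c25)) = (LP (LK LD1_c0 LD2_c59 LD3_c13)) :=
  Lre_c IH (LK LD1_c2 LD2_c4 LD3_c25) (LK LD1_c0 LD2_c59 LD3_c13) Lrfl Lrfl
theorem f188736 : Led Lsl_gf (LP (LK LD1_c2 LD2_c4 LD3_c25)) = (LP (LK LD1_c2 LD2_c11 LD3_c38)) :=
  Lgr Lrot147 (Lpr_ct (f51454 IH) (Lpr_gt (f45730 IH) (Lpr_ct (f188735 IH) (Lpe (K1.f590 IH) (Lpe (f1033 IH) (Lpe (K9.f1040 IH) (Lpe (K9.f53423 IH) (Lpr_gf (f188731 IH) (Lpe (f188594 IH) (Lpn (LP (LK LD1_c2 LD2_c11 LD3_c38))))))))))))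
theorem f167315 : Led Lsl_ct (LP (LK LD1_c0 LD2_c12 LD3_c3)) = (LP (LK LD1_c0 LD2_c26 LD3_c60)) :=
  Lre_c IH (LK LD1_c0 LD2_c12 LD3_c3) (LK LD1_c0 LD2_c26 LD3_c60) Lrfl Lrfl
theorem f53389 : Led Lsl_bt (LP (LK LD1_c0 LD2_c27 LD3_c13)) = (LP (LK LD1_c0 LD2_c12 LD3_c4)) :=
  Lre_b IH (LK LD1_c0 LD2_c27 LD3_c13) (LK LD1_c0 LD2_c12 LD3_c4) Lrfl Lrfl
theorem f187061 : Led Lsl_cf (LP (LK LD1_c0 LD2_c27 LD3_c23)) = (LP (LK LD1_c0 LD2_c27 LD3_c13)) :=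
  Lgr Lrot11 (Lpr_ct (f187019 IH) (Lpn (LP (LK LD1_c0 LD2_c27 LD3_c13))))
theorem f171482 : Led Lsl_gt (LP (LK LD1_c0 LD2_c27 LD3_c23)) = (LP (LK LD1_c1 LD2_c0 LD3_c16)) :=
  Lre_g IH (LK LD1_c0 LD2_c27 LD3_c23) (LK LD1_c1 LD2_c0 LD3_c16) Lrfl Lrfl
theorem f188759 : Led Lsl_ct (LP (LK LD1_c2 LD2_c6 LD3_c35)) = (LP (LK LD1_c1 LD2_c0 LD3_c16)) :=
  Lre_c IH (LK LD1_c2 LD2_c6 LD3_c35) (LK LD1_c1 LD2_c0 LD3_c16) Lrfl Lrfl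
theorem f188760 : Led Lsl_bt (LP (LK LD1_c2 LD2_c6 LD3_c35)) = (LP (LK LD1_c2 LD2_c11 LD3_c38)) :=
  Lgr Lrot130 (Lpr_ct (f188759 IH) (Lpe (f171482 IH) (Lpr_cf (f187061 IH) (Lpr_bt (f53389 IH) (Lpe (K9.f497 IH) (Lpe (K9.f51423 IH) (Lpr_ct (f167315 IH) (Lpe (f45730 IH) (Lpe (f51454 IH) (Lpr_gf (f188736 IH) (Lpn (LP (LK LD1_c2 LD2_c11 LD3_c38)))))))))))))
theorem f188765 : Led Lsl_dt (LP (LK LD1_c4 LD2_c18 LD3_c36)) = (LP (LK LD1_c2 LD2_c6 LD3_c35)) :=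
  Lre_d IH (LK LD1_c4 LD2_c18 LD3_c36) (LK LD1_c2 LD2_c6 LD3_c35) Lrfl Lrfl
theorem f188766 : Led Lsl_bf (LP (LK LD1_c4 LD2_c18 LD3_c36)) = (LP (LK LD1_c4 LD2_c29 LD3_c1)) :=
  Lgr Lrot93 (Lpr_dt (f188765 IH) (Lpr_bt (f188760 IH) (Lpr_dt (f188594 IH) (Lpn (LP (LK LD1_c4 LD2_c29 LD3_c1))))))
theorem f188799 : Led Lsl_bt (LP (LK LD1_c4 LD2_c18 LD3_c36)) = (LP (LK LD1_c4 LD2_c29 LD3_c1)) :=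
  Lgr Lrot127 (Lpr_bf (f188766 IH) (Lpn (LP (LK LD1_c4 LD2_c29 LD3_c1))))
theorem f47821 : Led Lsl_dt (LP (LK LD1_c0 LD2_c26 LD3_c15)) = (LP (LK LD1_c0 LD2_c26 LD3_c57)) :=
  Lgr Lrot182 (Lpr_gf (K1.f47810 IH) (Lpr_bf (K9.f47443 IH) (Lpe (K1.f44505 IH) (Lpe (K8.f47437 IH) (Lpe (K1.f8073 IH) (Lpe (K0.f8072 IH) (Lpe (K0.f8064 IH) (Lpr_df (K0.f8123 IH) (Lpe (K0.f8138 IH) (Lpe (K0.f7086 IH) (Lpr_cf (K0.f8186 IH) (Lpr_df (K0.f31037 IH) (Lpe (K0.f31034 IH) (Lpr_bf (K0.f28769 IH) (Lpe (K0.f28557 IH) (Lpe (K0.f28746 IH) (Lpe (K0.f8090 IH) (Lpe (K0.f8093 IH) (Lpe (K1.f45706 IH) (Lpn (LP (LK LD1_c0 LD2_c26 LD3_c57))))))))))))))))))))))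
theorem f33432 : Led Lsl_dt (LP (LK LD1_c1 LD2_c14 LD3_c6)) = (LP (LK LD1_c2 LD2_c34 LD3_c16)) :=
  Lre_d IH (LK LD1_c1 LD2_c14 LD3_c6) (LK LD1_c2 LD2_c34 LD3_c16) Lrfl Lrfl
theorem f184123 : Led Lsl_gt (LP (LK LD1_c4 LD2_c16 LD3_c26)) = (LP (LK LD1_c2 LD2_c34 LD3_c16)) :=
  Lgr Lrot112 (Lpr_df (f167285 IH) (Lpr_et (f170504 IH) (Lpr_gf (K9.f184110 IH) (Lpe (K8.f49204 IH) (Lpr_dt (f47821 IH) (Lpr_gf (K1.f45702 IH) (Lpr_df (K1.f45062 IH) (Lpe (K1.f45720 IH) (Lpe (K8.f33422 IH) (Lpr_dt (f33432 IH) (Lpn (LP (LK LD1_c2 LD2_c34 LD3_c16)))))))))))))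
theorem f33431 : Led Lsl_dt (LP (LK LD1_c2 LD2_c34 LD3_c19)) = (LP (LK LD1_c1 LD2_c14 LD3_c9)) :=
  Lre_d IH (LK LD1_c2 LD2_c34 LD3_c19) (LK LD1_c1 LD2_c14 LD3_c9) Lrfl Lrfl
theorem f33433 : Led Lsl_af (LP (LK LD1_c2 LD2_c34 LD3_c19)) = (LP (LK LD1_c2 LD2_c34 LD3_c16)) :=
  Lgr Lrot117 (Lpr_dt (f33431 IH) (Lpr_at (K8.f33423 IH) (Lpr_dt (f33432 IH) (Lpn (LP (LK LD1_c2 LD2_c34 LD3_c16))))))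
theorem f33440 : Led Lsl_at (LP (LK LD1_c2 LD2_c34 LD3_c19)) = (LP (LK LD1_c2 LD2_c34 LD3_c16)) :=
  Lgr Lrot100 (Lpr_af (f33433 IH) (Lpn (LP (LK LD1_c2 LD2_c34 LD3_c16))))
theorem f188733 : Led Lsl_ff (LP (LK LD1_c2 LD2_c34 LD3_c19)) = (LP (LK LD1_c4 LD2_c29 LD3_c1)) :=
  Lgr Lrot52 (Lpr_at (f33440 IH) (Lpe (f184123 IH) (Lpr_gf (f188731 IH) (Lpn (LP (LK LD1_c4 LD2_c29 LD3_c1))))))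
theorem f53724 : Led Lsl_bf (LP (LK LD1_c4 LD2_c7 LD3_c29)) = (LP (LK LD1_c4 LD2_c4 LD3_c61)) :=
  Lgr Lrot24 (Lpr_bt (K9.f53661 IH) (Lpn (LP (LK LD1_c4 LD2_c4 LD3_c61))))
theorem f44943 : Led Lsl_dt (LP (LK LD1_c4 LD2_c7 LD3_c29)) = (LP (LK LD1_c2 LD2_c1 LD3_c5)) :=
  Lre_d IH (LK LD1_c4 LD2_c7 LD3_c29) (LK LD1_c2 LD2_c1 LD3_c5) Lrfl Lrfl
theorem f53726 : Led Lsl_bt (LP (LK LD1_c2 LD2_c1 LD3_c5)) = (LP (LK LD1_c1 LD2_c59 LD3_c37)) :=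
  Lgr Lrot95 (Lpe (f44943 IH) (Lpr_bf (f53724 IH) (Lpe (K9.f47462 IH) (Lpn (LP (LK LD1_c1 LD2_c59 LD3_c37))))))
theorem f44929 : Led Lsl_et (LP (LK LD1_c0 LD2_c34 LD3_c39)) = (LP (LK LD1_c1 LD2_c14 LD3_c42)) :=
  Lre_e IH (LK LD1_c0 LD2_c34 LD3_c39) (LK LD1_c1 LD2_c14 LD3_c42) Lrfl Lrfl
theorem f44933 : Led Lsl_cf (LP (LK LD1_c2 LD2_c1 LD3_c5)) = (LP (LK LD1_c1 LD2_c14 LD3_c42)) :=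
  Lgr Lrot39 (Lpr_et (K9.f44932 IH) (Lpr_ct (K1.f44927 IH) (Lpr_et (f44929 IH) (Lpn (LP (LK LD1_c1 LD2_c14 LD3_c42))))))
theorem f44499 : Led Lsl_ct (LP (LK LD1_c1 LD2_c59 LD3_c37)) = (LP (LK LD1_c0 LD2_c56 LD3_c45)) :=
  Lre_c IH (LK LD1_c1 LD2_c59 LD3_c37) (LK LD1_c0 LD2_c56 LD3_c45) Lrfl Lrfl
theorem f44498 : Led Lsl_bt (LP (LK LD1_c0 LD2_c56 LD3_c45)) = (LP (LK LD1_c1 LD2_c59 LD3_c36)) :=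
  Lre_b IH (LK LD1_c0 LD2_c56 LD3_c45) (LK LD1_c1 LD2_c59 LD3_c36) Lrfl Lrfl
theorem f44485 : Led Lsl_et (LP (LK LD1_c0 LD2_c25 LD3_c59)) = (LP (LK LD1_c0 LD2_c57 LD3_c12)) :=
  Lre_e IH (LK LD1_c0 LD2_c25 LD3_c59) (LK LD1_c0 LD2_c57 LD3_c12) Lrfl Lrfl
theorem f44486 : Led Lsl_et (LP (LK LD1_c1 LD2_c59 LD3_c36)) = (LP (LK LD1_c0 LD2_c56 LD3_c43)) :=
  Lre_e IH (LK LD1_c1 LD2_c59 LD3_c36) (LK LD1_c0 LD2_c56 LD3_c43) Lrfl Lrfl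
theorem f44487 : Led Lsl_ct (LP (LK LD1_c0 LD2_c57 LD3_c12)) = (LP (LK LD1_c1 LD2_c59 LD3_c36)) :=
  Lgr Lrot15 (Lpe (f44485 IH) (Lpr_cf (K1.f44480 IH) (Lpe (f44486 IH) (Lpn (LP (LK LD1_c1 LD2_c59 LD3_c36))))))
theorem f44491 : Led Lsl_cf (LP (LK LD1_c0 LD2_c57 LD3_c12)) = (LP (LK LD1_c1 LD2_c59 LD3_c36)) :=
  Lgr Lrot11 (Lpr_ct (f44487 IH) (Lpn (LP (LK LD1_c1 LD2_c59 LD3_c36))))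
theorem f53728 : Led Lsl_bf (LP (LK LD1_c1 LD2_c14 LD3_c42)) = (LP (LK LD1_c0 LD2_c57 LD3_c12)) :=
  Lgr Lrot90 (Lpe (f44933 IH) (Lpr_bt (f53726 IH) (Lpr_ct (f44499 IH) (Lpr_bt (f44498 IH) (Lpe (f44491 IH) (Lpn (LP (LK LD1_c0 LD2_c57 LD3_c12))))))))
theorem f32137 : Led Lsl_dt (LP (LK LD1_c1 LD2_c14 LD3_c42)) = (LP (LK LD1_c2 LD2_c35 LD3_c20)) :=
  Lre_d IH (LK LD1_c1 LD2_c14 LD3_c42) (LK LD1_c2 LD2_c35 LD3_c20) Lrfl Lrfl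
theorem f44493 : Led Lsl_dt (LP (LK LD1_c2 LD2_c0 LD3_c24)) = (LP (LK LD1_c0 LD2_c57 LD3_c12)) :=
  Lre_d IH (LK LD1_c2 LD2_c0 LD3_c24) (LK LD1_c0 LD2_c57 LD3_c12) Lrfl Lrfl
theorem f53734 : Led Lsl_bt (LP (LK LD1_c2 LD2_c35 LD3_c20)) = (LP (LK LD1_c2 LD2_c0 LD3_c24)) :=
  Lgr Lrot95 (Lpe (f32137 IH) (Lpr_bf (f53728 IH) (Lpe (f44493 IH) (Lpn (LP (LK LD1_c2 LD2_c0 LD3_c24))))))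
theorem f44938 : Led Lsl_ct (LP (LK LD1_c2 LD2_c1 LD3_c5)) = (LP (LK LD1_c1 LD2_c14 LD3_c42)) :=
  Lgr Lrot59 (Lpr_cf (f44933 IH) (Lpn (LP (LK LD1_c1 LD2_c14 LD3_c42))))
theorem f48172 : Led Lsl_ct (LP (LK LD1_c1 LD2_c14 LD3_c43)) = (LP (LK LD1_c1 LD2_c11 LD3_c12)) :=
  Lre_c IH (LK LD1_c1 LD2_c14 LD3_c43) (LK LD1_c1 LD2_c11 LD3_c12) Lrfl Lrfl
theorem f53612 : Led Lsl_at (LP (LK LD1_c1 LD2_c14 LD3_c42)) = (LP (LK LD1_c1 LD2_c14 LD3_c43)) :=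
  Lgr Lrot107 (Lpe (f44938 IH) (Lpr_af (K9.f53608 IH) (Lpe (f48172 IH) (Lpn (LP (LK LD1_c1 LD2_c14 LD3_c43))))))
theorem f44922 : Led Lsl_dt (LP (LK LD1_c2 LD2_c35 LD3_c20)) = (LP (LK LD1_c1 LD2_c14 LD3_c42)) :=
  Lre_d IH (LK LD1_c2 LD2_c35 LD3_c20) (LK LD1_c1 LD2_c14 LD3_c42) Lrfl Lrfl
theorem f32931 : Led Lsl_dt (LP (LK LD1_c1 LD2_c14 LD3_c43)) = (LP (LK LD1_c2 LD2_c35 LD3_c21)) :=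
  Lre_d IH (LK LD1_c1 LD2_c14 LD3_c43) (LK LD1_c2 LD2_c35 LD3_c21) Lrfl Lrfl
theorem f53622 : Led Lsl_af (LP (LK LD1_c2 LD2_c35 LD3_c20)) = (LP (LK LD1_c2 LD2_c35 LD3_c21)) :=
  Lgr Lrot117 (Lpr_dt (f44922 IH) (Lpr_at (f53612 IH) (Lpr_dt (f32931 IH) (Lpn (LP (LK LD1_c2 LD2_c35 LD3_c21))))))
theorem f43251 : Led Lsl_dt (LP (LK LD1_c2 LD2_c23 LD3_c1)) = (LP (LK LD1_c4 LD2_c50 LD3_c30)) :=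
  Lre_d IH (LK LD1_c2 LD2_c23 LD3_c1) (LK LD1_c4 LD2_c50 LD3_c30) Lrfl Lrfl
theorem f48164 : Led Lsl_dt (LP (LK LD1_c2 LD2_c35 LD3_c21)) = (LP (LK LD1_c1 LD2_c14 LD3_c43)) :=
  Lre_d IH (LK LD1_c2 LD2_c35 LD3_c21) (LK LD1_c1 LD2_c14 LD3_c43) Lrfl Lrfl
theorem f48165 : Led Lsl_bt (LP (LK LD1_c4 LD2_c50 LD3_c30)) = (LP (LK LD1_c2 LD2_c35 LD3_c21)) :=
  Lgr Lrot95 (Lpe (f43251 IH) (Lpr_bf (K8.f48160 IH) (Lpe (f48164 IH) (Lpn (LP (LK LD1_c2 LD2_c35 LD3_c21))))))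
theorem f45796 : Led Lsl_et (LP (LK LD1_c2 LD2_c0 LD3_c21)) = (LP (LK LD1_c0 LD2_c57 LD3_c9)) :=
  Lre_e IH (LK LD1_c2 LD2_c0 LD3_c21) (LK LD1_c0 LD2_c57 LD3_c9) Lrfl Lrfl
theorem f48019 : Led Lsl_at (LP (LK LD1_c2 LD2_c23 LD3_c1)) = (LP (LK LD1_c2 LD2_c0 LD3_c21)) :=
  Lgr Lrot80 (Lpe (K8.f44551 IH) (Lpr_af (K8.f48013 IH) (Lpe (f45796 IH) (Lpn (LP (LK LD1_c2 LD2_c0 LD3_c21))))))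
theorem f48028 : Led Lsl_dt (LP (LK LD1_c4 LD2_c50 LD3_c30)) = (LP (LK LD1_c2 LD2_c23 LD3_c1)) :=
  Lre_d IH (LK LD1_c4 LD2_c50 LD3_c30) (LK LD1_c2 LD2_c23 LD3_c1) Lrfl Lrfl
theorem f45797 : Led Lsl_dt (LP (LK LD1_c2 LD2_c0 LD3_c21)) = (LP (LK LD1_c4 LD2_c6 LD3_c8)) :=
  Lre_d IH (LK LD1_c2 LD2_c0 LD3_c21) (LK LD1_c4 LD2_c6 LD3_c8) Lrfl Lrfl
theorem f48029 : Led Lsl_af (LP (LK LD1_c4 LD2_c50 LD3_c30)) = (LP (LK LD1_c4 LD2_c6 LD3_c8)) :=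
  Lgr Lrot117 (Lpr_dt (f48028 IH) (Lpr_at (f48019 IH) (Lpr_dt (f45797 IH) (Lpn (LP (LK LD1_c4 LD2_c6 LD3_c8))))))
theorem f48033 : Led Lsl_bt (LP (LK LD1_c2 LD2_c0 LD3_c23)) = (LP (LK LD1_c4 LD2_c6 LD3_c8)) :=
  Lre_b IH (LK LD1_c2 LD2_c0 LD3_c23) (LK LD1_c4 LD2_c6 LD3_c8) Lrfl Lrfl
theorem f53736 : Led Lsl_af (LP (LK LD1_c2 LD2_c0 LD3_c23)) = (LP (LK LD1_c2 LD2_c0 LD3_c24)) :=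
  Lgr Lrot36 (Lpr_bt (f48033 IH) (Lpe (f48029 IH) (Lpr_bt (f48165 IH) (Lpe (f53622 IH) (Lpr_bt (f53734 IH) (Lpn (LP (LK LD1_c2 LD2_c0 LD3_c24))))))))
theorem f53769 : Led Lsl_at (LP (LK LD1_c2 LD2_c0 LD3_c23)) = (LP (LK LD1_c2 LD2_c0 LD3_c24)) :=
  Lgr Lrot100 (Lpr_af (f53736 IH) (Lpn (LP (LK LD1_c2 LD2_c0 LD3_c24))))
theorem f53809 : Led Lsl_dt (LP (LK LD1_c0 LD2_c57 LD3_c11)) = (LP (LK LD1_c2 LD2_c0 LD3_c23)) :=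
  Lre_d IH (LK LD1_c0 LD2_c57 LD3_c11) (LK LD1_c2 LD2_c0 LD3_c23) Lrfl Lrfl
theorem f53814 : Led Lsl_af (LP (LK LD1_c0 LD2_c57 LD3_c11)) = (LP (LK LD1_c0 LD2_c57 LD3_c12)) :=
  Lgr Lrot117 (Lpr_dt (f53809 IH) (Lpr_at (f53769 IH) (Lpr_dt (f44493 IH) (Lpn (LP (LK LD1_c0 LD2_c57 LD3_c12))))))
theorem f53816 : Led Lsl_ct (LP (LK LD1_c0 LD2_c57 LD3_c11)) = (LP (LK LD1_c2 LD2_c0 LD3_c22)) :=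
  Lre_c IH (LK LD1_c0 LD2_c57 LD3_c11) (LK LD1_c2 LD2_c0 LD3_c22) Lrfl Lrfl
theorem f53817 : Led Lsl_at (LP (LK LD1_c2 LD2_c0 LD3_c22)) = (LP (LK LD1_c1 LD2_c59 LD3_c36)) :=
  Lgr Lrot107 (Lpe (f53816 IH) (Lpr_af (f53814 IH) (Lpr_cf (f44491 IH) (Lpn (LP (LK LD1_c1 LD2_c59 LD3_c36))))))
theorem f44489 : Led Lsl_bt (LP (LK LD1_c1 LD2_c59 LD3_c36)) = (LP (LK LD1_c0 LD2_c56 LD3_c45)) :=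
  Lre_b IH (LK LD1_c1 LD2_c59 LD3_c36) (LK LD1_c0 LD2_c56 LD3_c45) Lrfl Lrfl
theorem f47945 : Led Lsl_et (LP (LK LD1_c0 LD2_c25 LD3_c43)) = (LP (LK LD1_c0 LD2_c56 LD3_c45)) :=
  Lre_e IH (LK LD1_c0 LD2_c25 LD3_c43) (LK LD1_c0 LD2_c56 LD3_c45) Lrfl Lrfl
theorem f47956 : Led Lsl_et (LP (LK LD1_c0 LD2_c56 LD3_c46)) = (LP (LK LD1_c0 LD2_c25 LD3_c44)) :=
  Lre_e IH (LK LD1_c0 LD2_c56 LD3_c46) (LK LD1_c0 LD2_c25 LD3_c44) Lrfl Lrfl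
theorem f47999 : Led Lsl_at (LP (LK LD1_c0 LD2_c56 LD3_c45)) = (LP (LK LD1_c0 LD2_c56 LD3_c46)) :=
  Lgr Lrot80 (Lpe (f47945 IH) (Lpr_af (K8.f47991 IH) (Lpe (f47956 IH) (Lpn (LP (LK LD1_c0 LD2_c56 LD3_c46))))))
theorem f44582 : Led Lsl_et (LP (LK LD1_c0 LD2_c25 LD3_c44)) = (LP (LK LD1_c0 LD2_c56 LD3_c46)) :=
  Lre_e IH (LK LD1_c0 LD2_c25 LD3_c44) (LK LD1_c0 LD2_c56 LD3_c46) Lrfl Lrfl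
theorem f47983 : Led Lsl_bt (LP (LK LD1_c0 LD2_c56 LD3_c46)) = (LP (LK LD1_c1 LD2_c14 LD3_c6)) :=
  Lgr Lrot119 (Lpe (f44582 IH) (Lpr_bf (K8.f47952 IH) (Lpe (K8.f33422 IH) (Lpn (LP (LK LD1_c1 LD2_c14 LD3_c6))))))
theorem f33425 : Led Lsl_af (LP (LK LD1_c1 LD2_c14 LD3_c9)) = (LP (LK LD1_c1 LD2_c14 LD3_c6)) :=
  Lgr Lrot0 (Lpr_at (K8.f33423 IH) (Lpn (LP (LK LD1_c1 LD2_c14 LD3_c6))))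
theorem f53821 : Led Lsl_bf (LP (LK LD1_c2 LD2_c0 LD3_c22)) = (LP (LK LD1_c1 LD2_c14 LD3_c9)) :=
  Lgr Lrot81 (Lpr_at (f53817 IH) (Lpr_bt (f44489 IH) (Lpr_at (f47999 IH) (Lpr_bt (f47983 IH) (Lpe (f33425 IH) (Lpn (LP (LK LD1_c1 LD2_c14 LD3_c9))))))))
theorem f8087 : Led Lsl_dt (LP (LK LD1_c2 LD2_c0 LD3_c22)) = (LP (LK LD1_c4 LD2_c6 LD3_c9)) :=
  Lre_d IH (LK LD1_c2 LD2_c0 LD3_c22) (LK LD1_c4 LD2_c6 LD3_c9) Lrfl Lrfl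
theorem f53831 : Led Lsl_bt (LP (LK LD1_c4 LD2_c6 LD3_c9)) = (LP (LK LD1_c2 LD2_c34 LD3_c19)) :=
  Lgr Lrot95 (Lpe (f8087 IH) (Lpr_bf (f53821 IH) (Lpe (f33431 IH) (Lpn (LP (LK LD1_c2 LD2_c34 LD3_c19))))))
theorem f53833 : Led Lsl_bf (LP (LK LD1_c4 LD2_c6 LD3_c9)) = (LP (LK LD1_c2 LD2_c34 LD3_c19)) :=
  Lgr Lrot24 (Lpr_bt (f53831 IH) (Lpn (LP (LK LD1_c2 LD2_c34 LD3_c19))))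
theorem f188805 : Led Lsl_ff (LP (LK LD1_c4 LD2_c18 LD3_c36)) = (LP (LK LD1_c4 LD2_c6 LD3_c9)) :=
  Lgr Lrot25 (Lpr_bt (f188799 IH) (Lpe (f188733 IH) (Lpe (f53833 IH) (Lpn (LP (LK LD1_c4 LD2_c6 LD3_c9))))))
theorem f188834 : Led Lsl_ft (LP (LK LD1_c4 LD2_c18 LD3_c36)) = (LP (LK LD1_c4 LD2_c6 LD3_c9)) :=
  Lgr Lrot48 (Lpr_ff (f188805 IH) (Lpn (LP (LK LD1_c4 LD2_c6 LD3_c9))))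
theorem f188773 : Led Lsl_dt (LP (LK LD1_c2 LD2_c6 LD3_c35)) = (LP (LK LD1_c4 LD2_c18 LD3_c36)) :=
  Lre_d IH (LK LD1_c2 LD2_c6 LD3_c35) (LK LD1_c4 LD2_c18 LD3_c36) Lrfl Lrfl
theorem f53811 : Led Lsl_dt (LP (LK LD1_c4 LD2_c6 LD3_c9)) = (LP (LK LD1_c2 LD2_c0 LD3_c22)) :=
  Lre_d IH (LK LD1_c4 LD2_c6 LD3_c9) (LK LD1_c2 LD2_c0 LD3_c22) Lrfl Lrfl
theorem f188838 : Led Lsl_ff (LP (LK LD1_c2 LD2_c6 LD3_c35)) = (LP (LK LD1_c2 LD2_c0 LD3_c22)) :=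
  Lgr Lrot19 (Lpr_dt (f188773 IH) (Lpr_ft (f188834 IH) (Lpr_dt (f53811 IH) (Lpn (LP (LK LD1_c2 LD2_c0 LD3_c22))))))
theorem f188840 : Led Lsl_ft (LP (LK LD1_c2 LD2_c11 LD3_c38)) = (LP (LK LD1_c1 LD2_c14 LD3_c9)) :=
  Lgr Lrot75 (Lpe (f188760 IH) (Lpr_ff (f188838 IH) (Lpr_bf (f53821 IH) (Lpn (LP (LK LD1_c1 LD2_c14 LD3_c9))))))
theorem f188742 : Led Lsl_ef (LP (LK LD1_c2 LD2_c11 LD3_c38)) = (LP (LK LD1_c2 LD2_c11 LD3_c38)) :=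
  Lgr Lrot17 (Lpr_gf (f188592 IH) (Lpe (f188583 IH) (Lpe (f188723 IH) (Lpe (f49558 IH) (Lpe (K9.f49813 IH) (Lpe (K9.f184117 IH) (Lpe (f170504 IH) (Lpe (f167285 IH) (Lpr_gf (f188731 IH) (Lpe (f188594 IH) (Lpn (LP (LK LD1_c2 LD2_c11 LD3_c38)))))))))))))
theorem f33420 : Led Lsl_et (LP (LK LD1_c1 LD2_c14 LD3_c9)) = (LP (LK LD1_c0 LD2_c34 LD3_c24)) :=
  Lre_e IH (LK LD1_c1 LD2_c14 LD3_c9) (LK LD1_c0 LD2_c34 LD3_c24) Lrfl Lrfl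
theorem f188892 : Led Lsl_ff (LP (LK LD1_c2 LD2_c11 LD3_c38)) = (LP (LK LD1_c1 LD2_c14 LD3_c9)) :=
  Lgr Lrot72 (Lpe (f188742 IH) (Lpr_ft (f188840 IH) (Lpr_et (f33420 IH) (Lpr_ft (K1.f33416 IH) (Lpr_et (K8.f33421 IH) (Lpn (LP (LK LD1_c1 LD2_c14 LD3_c9))))))))
theorem f188915 : Led Lsl_ft (LP (LK LD1_c1 LD2_c2 LD3_c49)) = (LP (LK LD1_c0 LD2_c34 LD3_c25)) :=
  Lgr Lrot4 (Lpe (f187239 IH) (Lpr_ff (f188892 IH) (Lpe (K8.f33427 IH) (Lpn (LP (LK LD1_c0 LD2_c34 LD3_c25))))))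
theorem f32314 : Led Lsl_et (LP (LK LD1_c0 LD2_c34 LD3_c22)) = (LP (LK LD1_c0 LD2_c15 LD3_c25)) :=
  Lre_e IH (LK LD1_c0 LD2_c34 LD3_c22) (LK LD1_c0 LD2_c15 LD3_c25) Lrfl Lrfl
theorem f33409 : Led Lsl_et (LP (LK LD1_c0 LD2_c15 LD3_c26)) = (LP (LK LD1_c0 LD2_c34 LD3_c25)) :=
  Lre_e IH (LK LD1_c0 LD2_c15 LD3_c26) (LK LD1_c0 LD2_c34 LD3_c25) Lrfl Lrfl
theorem f33410 : Led Lsl_af (LP (LK LD1_c0 LD2_c34 LD3_c22)) = (LP (LK LD1_c0 LD2_c34 LD3_c25)) :=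
  Lgr Lrot50 (Lpr_et (f32314 IH) (Lpr_at (K1.f33402 IH) (Lpr_et (f33409 IH) (Lpn (LP (LK LD1_c0 LD2_c34 LD3_c25))))))
theorem f188919 : Led Lsl_gt (LP (LK LD1_c0 LD2_c28 LD3_c38)) = (LP (LK LD1_c0 LD2_c34 LD3_c22)) :=
  Lgr Lrot46 (Lpe (f167754 IH) (Lpr_ft (f188915 IH) (Lpe (f33410 IH) (Lpn (LP (LK LD1_c0 LD2_c34 LD3_c22))))))
theorem f51603 : Led Lsl_bt (LP (LK LD1_c0 LD2_c11 LD3_c48)) = (LP (LK LD1_c0 LD2_c26 LD3_c35)) :=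
  Lre_b IH (LK LD1_c0 LD2_c11 LD3_c48) (LK LD1_c0 LD2_c26 LD3_c35) Lrfl Lrfl
theorem f53810 : Led Lsl_ct (LP (LK LD1_c2 LD2_c0 LD3_c22)) = (LP (LK LD1_c0 LD2_c57 LD3_c11)) :=
  Lre_c IH (LK LD1_c2 LD2_c0 LD3_c22) (LK LD1_c0 LD2_c57 LD3_c11) Lrfl Lrfl
theorem f48036 : Led Lsl_bt (LP (LK LD1_c0 LD2_c57 LD3_c11)) = (LP (LK LD1_c2 LD2_c0 LD3_c21)) :=
  Lre_b IH (LK LD1_c0 LD2_c57 LD3_c11) (LK LD1_c2 LD2_c0 LD3_c21) Lrfl Lrfl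
theorem f33509 : Led Lsl_bt (LP (LK LD1_c1 LD2_c14 LD3_c8)) = (LP (LK LD1_c0 LD2_c34 LD3_c25)) :=
  Lre_b IH (LK LD1_c1 LD2_c14 LD3_c8) (LK LD1_c0 LD2_c34 LD3_c25) Lrfl Lrfl
theorem f53829 : Led Lsl_ct (LP (LK LD1_c2 LD2_c0 LD3_c21)) = (LP (LK LD1_c1 LD2_c14 LD3_c8)) :=
  Lgr Lrot83 (Lpe (f48036 IH) (Lpe (f53810 IH) (Lpr_bf (f53821 IH) (Lpe (K8.f33427 IH) (Lpe (f33509 IH) (Lpn (LP (LK LD1_c1 LD2_c14 LD3_c8))))))))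
theorem f53948 : Led Lsl_cf (LP (LK LD1_c2 LD2_c23 LD3_c1)) = (LP (LK LD1_c1 LD2_c15 LD3_c37)) :=
  Lgr Lrot1 (Lpr_at (f48019 IH) (Lpr_ct (f53829 IH) (Lpe (K8.f48037 IH) (Lpn (LP (LK LD1_c1 LD2_c15 LD3_c37))))))
theorem f48162 : Led Lsl_bt (LP (LK LD1_c2 LD2_c23 LD3_c1)) = (LP (LK LD1_c1 LD2_c14 LD3_c43)) :=
  Lgr Lrot127 (Lpr_bf (K8.f48160 IH) (Lpn (LP (LK LD1_c1 LD2_c14 LD3_c43))))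
theorem f48043 : Led Lsl_dt (LP (LK LD1_c1 LD2_c15 LD3_c37)) = (LP (LK LD1_c2 LD2_c37 LD3_c13)) :=
  Lre_d IH (LK LD1_c1 LD2_c15 LD3_c37) (LK LD1_c2 LD2_c37 LD3_c13) Lrfl Lrfl
theorem f48044 : Led Lsl_dt (LP (LK LD1_c2 LD2_c34 LD3_c18)) = (LP (LK LD1_c1 LD2_c14 LD3_c8)) :=
  Lre_d IH (LK LD1_c2 LD2_c34 LD3_c18) (LK LD1_c1 LD2_c14 LD3_c8) Lrfl Lrfl
theorem f48045 : Led Lsl_at (LP (LK LD1_c2 LD2_c37 LD3_c13)) = (LP (LK LD1_c2 LD2_c34 LD3_c18)) :=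
  Lgr Lrot51 (Lpe (f48043 IH) (Lpr_af (K8.f48037 IH) (Lpe (f48044 IH) (Lpn (LP (LK LD1_c2 LD2_c34 LD3_c18))))))
theorem f48051 : Led Lsl_ct (LP (LK LD1_c5 LD2_c21 LD3_c18)) = (LP (LK LD1_c2 LD2_c37 LD3_c13)) :=
  Lre_c IH (LK LD1_c5 LD2_c21 LD3_c18) (LK LD1_c2 LD2_c37 LD3_c13) Lrfl Lrfl
theorem f48052 : Led Lsl_ct (LP (LK LD1_c2 LD2_c34 LD3_c18)) = (LP (LK LD1_c5 LD2_c14 LD3_c57)) :=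
  Lre_c IH (LK LD1_c2 LD2_c34 LD3_c18) (LK LD1_c5 LD2_c14 LD3_c57) Lrfl Lrfl
theorem f48053 : Led Lsl_af (LP (LK LD1_c5 LD2_c21 LD3_c18)) = (LP (LK LD1_c5 LD2_c14 LD3_c57)) :=
  Lgr Lrot68 (Lpr_ct (f48051 IH) (Lpr_at (f48045 IH) (Lpr_ct (f48052 IH) (Lpn (LP (LK LD1_c5 LD2_c14 LD3_c57))))))
theorem f48059 : Led Lsl_bt (LP (LK LD1_c5 LD2_c21 LD3_c18)) = (LP (LK LD1_c10 LD2_c32 LD3_c54)) :=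
  Lre_b IH (LK LD1_c5 LD2_c21 LD3_c18) (LK LD1_c10 LD2_c32 LD3_c54) Lrfl Lrfl
theorem f48060 : Led Lsl_at (LP (LK LD1_c10 LD2_c32 LD3_c54)) = (LP (LK LD1_c19 LD2_c6 LD3_c14)) :=
  Lre_a IH (LK LD1_c10 LD2_c32 LD3_c54) (LK LD1_c19 LD2_c6 LD3_c14) Lrfl Lrfl
theorem f48061 : Led Lsl_bt (LP (LK LD1_c10 LD2_c19 LD3_c17)) = (LP (LK LD1_c5 LD2_c14 LD3_c57)) :=
  Lre_b IH (LK LD1_c10 LD2_c19 LD3_c17) (LK LD1_c5 LD2_c14 LD3_c57) Lrfl Lrfl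
theorem f48062 : Led Lsl_at (LP (LK LD1_c18 LD2_c44 LD3_c15)) = (LP (LK LD1_c10 LD2_c19 LD3_c17)) :=
  Lre_a IH (LK LD1_c18 LD2_c44 LD3_c15) (LK LD1_c10 LD2_c19 LD3_c17) Lrfl Lrfl
theorem f48063 : Led Lsl_bt (LP (LK LD1_c19 LD2_c6 LD3_c14)) = (LP (LK LD1_c18 LD2_c44 LD3_c15)) :=
  Lgr Lrot62 (Lpe (f48060 IH) (Lpe (f48059 IH) (Lpr_af (f48053 IH) (Lpe (f48061 IH) (Lpe (f48062 IH) (Lpn (LP (LK LD1_c18 LD2_c44 LD3_c15))))))))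
theorem f33503 : Led Lsl_ct (LP (LK LD1_c18 LD2_c44 LD3_c15)) = (LP (LK LD1_c10 LD2_c19 LD3_c24)) :=
  Lre_c IH (LK LD1_c18 LD2_c44 LD3_c15) (LK LD1_c10 LD2_c19 LD3_c24) Lrfl Lrfl
theorem f32329 : Led Lsl_dt (LP (LK LD1_c0 LD2_c34 LD3_c25)) = (LP (LK LD1_c1 LD2_c14 LD3_c10)) :=
  Lre_d IH (LK LD1_c0 LD2_c34 LD3_c25) (LK LD1_c1 LD2_c14 LD3_c10) Lrfl Lrfl
theorem f33436 : Led Lsl_dt (LP (LK LD1_c1 LD2_c14 LD3_c7)) = (LP (LK LD1_c0 LD2_c34 LD3_c22)) :=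
  Lre_d IH (LK LD1_c1 LD2_c14 LD3_c7) (LK LD1_c0 LD2_c34 LD3_c22) Lrfl Lrfl
theorem f33449 : Led Lsl_at (LP (LK LD1_c1 LD2_c14 LD3_c10)) = (LP (LK LD1_c1 LD2_c14 LD3_c7)) :=
  Lgr Lrot51 (Lpe (f32329 IH) (Lpr_af (K8.f33429 IH) (Lpe (f33436 IH) (Lpn (LP (LK LD1_c1 LD2_c14 LD3_c7))))))
theorem f33455 : Led Lsl_ct (LP (LK LD1_c2 LD2_c34 LD3_c20)) = (LP (LK LD1_c1 LD2_c14 LD3_c10)) :=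
  Lre_c IH (LK LD1_c2 LD2_c34 LD3_c20) (LK LD1_c1 LD2_c14 LD3_c10) Lrfl Lrfl
theorem f33456 : Led Lsl_ct (LP (LK LD1_c1 LD2_c14 LD3_c7)) = (LP (LK LD1_c2 LD2_c34 LD3_c17)) :=
  Lre_c IH (LK LD1_c1 LD2_c14 LD3_c7) (LK LD1_c2 LD2_c34 LD3_c17) Lrfl Lrfl
theorem f33457 : Led Lsl_af (LP (LK LD1_c2 LD2_c34 LD3_c20)) = (LP (LK LD1_c2 LD2_c34 LD3_c17)) :=
  Lgr Lrot68 (Lpr_ct (f33455 IH) (Lpr_at (f33449 IH) (Lpr_ct (f33456 IH) (Lpn (LP (LK LD1_c2 LD2_c34 LD3_c17))))))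
theorem f33461 : Led Lsl_bt (LP (LK LD1_c2 LD2_c34 LD3_c20)) = (LP (LK LD1_c5 LD2_c14 LD3_c60)) :=
  Lre_b IH (LK LD1_c2 LD2_c34 LD3_c20) (LK LD1_c5 LD2_c14 LD3_c60) Lrfl Lrfl
theorem f33462 : Led Lsl_at (LP (LK LD1_c5 LD2_c14 LD3_c60)) = (LP (LK LD1_c10 LD2_c19 LD3_c24)) :=
  Lre_a IH (LK LD1_c5 LD2_c14 LD3_c60) (LK LD1_c10 LD2_c19 LD3_c24) Lrfl Lrfl
theorem f33463 : Led Lsl_bt (LP (LK LD1_c5 LD2_c14 LD3_c55)) = (LP (LK LD1_c2 LD2_c34 LD3_c17)) :=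
  Lre_b IH (LK LD1_c5 LD2_c14 LD3_c55) (LK LD1_c2 LD2_c34 LD3_c17) Lrfl Lrfl
theorem f33464 : Led Lsl_at (LP (LK LD1_c10 LD2_c19 LD3_c14)) = (LP (LK LD1_c5 LD2_c14 LD3_c55)) :=
  Lre_a IH (LK LD1_c10 LD2_c19 LD3_c14) (LK LD1_c5 LD2_c14 LD3_c55) Lrfl Lrfl
theorem f33465 : Led Lsl_bt (LP (LK LD1_c10 LD2_c19 LD3_c24)) = (LP (LK LD1_c10 LD2_c19 LD3_c14)) :=
  Lgr Lrot62 (Lpe (f33462 IH) (Lpe (f33461 IH) (Lpr_af (f33457 IH) (Lpe (f33463 IH) (Lpe (f33464 IH) (Lpn (LP (LK LD1_c10 LD2_c19 LD3_c14))))))))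
theorem f31298 : Led Lsl_dt (LP (LK LD1_c1 LD2_c1 LD3_c1)) = (LP (LK LD1_c2 LD2_c7 LD3_c51)) :=
  Lre_d IH (LK LD1_c1 LD2_c1 LD3_c1) (LK LD1_c2 LD2_c7 LD3_c51) Lrfl Lrfl
theorem f33512 : Led Lsl_bt (LP (LK LD1_c2 LD2_c7 LD3_c51)) = (LP (LK LD1_c1 LD2_c14 LD3_c7)) :=
  Lgr Lrot95 (Lpe (f31298 IH) (Lpr_bf (K8.f33396 IH) (Lpe (f33436 IH) (Lpn (LP (LK LD1_c1 LD2_c14 LD3_c7))))))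
theorem f31176 : Led Lsl_ct (LP (LK LD1_c4 LD2_c20 LD3_c46)) = (LP (LK LD1_c2 LD2_c7 LD3_c51)) :=
  Lre_c IH (LK LD1_c4 LD2_c20 LD3_c46) (LK LD1_c2 LD2_c7 LD3_c51) Lrfl Lrfl
theorem f31304 : Led Lsl_bt (LP (LK LD1_c8 LD2_c39 LD3_c11)) = (LP (LK LD1_c4 LD2_c20 LD3_c46)) :=
  Lre_b IH (LK LD1_c8 LD2_c39 LD3_c11) (LK LD1_c4 LD2_c20 LD3_c46) Lrfl Lrfl
theorem f33497 : Led Lsl_bt (LP (LK LD1_c2 LD2_c34 LD3_c17)) = (LP (LK LD1_c5 LD2_c14 LD3_c55)) :=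
  Lre_b IH (LK LD1_c2 LD2_c34 LD3_c17) (LK LD1_c5 LD2_c14 LD3_c55) Lrfl Lrfl
theorem f33516 : Led Lsl_cf (LP (LK LD1_c8 LD2_c39 LD3_c11)) = (LP (LK LD1_c5 LD2_c14 LD3_c55)) :=
  Lgr Lrot97 (Lpr_bt (f31304 IH) (Lpr_ct (f31176 IH) (Lpr_bt (f33512 IH) (Lpr_ct (f33456 IH) (Lpr_bt (f33497 IH) (Lpn (LP (LK LD1_c5 LD2_c14 LD3_c55))))))))
theorem f33520 : Led Lsl_ct (LP (LK LD1_c8 LD2_c39 LD3_c11)) = (LP (LK LD1_c5 LD2_c14 LD3_c55)) :=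
  Lgr Lrot59 (Lpr_cf (f33516 IH) (Lpn (LP (LK LD1_c5 LD2_c14 LD3_c55))))
theorem f31303 : Led Lsl_at (LP (LK LD1_c16 LD2_c12 LD3_c27)) = (LP (LK LD1_c8 LD2_c39 LD3_c11)) :=
  Lre_a IH (LK LD1_c16 LD2_c12 LD3_c27) (LK LD1_c8 LD2_c39 LD3_c11) Lrfl Lrfl
theorem f33498 : Led Lsl_at (LP (LK LD1_c5 LD2_c14 LD3_c55)) = (LP (LK LD1_c10 LD2_c19 LD3_c14)) :=
  Lre_a IH (LK LD1_c5 LD2_c14 LD3_c55) (LK LD1_c10 LD2_c19 LD3_c14) Lrfl Lrfl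
theorem f33536 : Led Lsl_cf (LP (LK LD1_c16 LD2_c12 LD3_c27)) = (LP (LK LD1_c10 LD2_c19 LD3_c14)) :=
  Lgr Lrot1 (Lpr_at (f31303 IH) (Lpr_ct (f33520 IH) (Lpr_at (f33498 IH) (Lpn (LP (LK LD1_c10 LD2_c19 LD3_c14))))))
theorem f31140 : Led Lsl_et (LP (LK LD1_c2 LD2_c7 LD3_c55)) = (LP (LK LD1_c4 LD2_c20 LD3_c52)) :=
  Lre_e IH (LK LD1_c2 LD2_c7 LD3_c55) (LK LD1_c4 LD2_c20 LD3_c52) Lrfl Lrfl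
theorem f31209 : Led Lsl_et (LP (LK LD1_c4 LD2_c20 LD3_c61)) = (LP (LK LD1_c2 LD2_c7 LD3_c61)) :=
  Lre_e IH (LK LD1_c4 LD2_c20 LD3_c61) (LK LD1_c2 LD2_c7 LD3_c61) Lrfl Lrfl
theorem f31210 : Led Lsl_at (LP (LK LD1_c4 LD2_c20 LD3_c52)) = (LP (LK LD1_c4 LD2_c20 LD3_c61)) :=
  Lgr Lrot80 (Lpe (f31140 IH) (Lpr_af (K0.f31187 IH) (Lpe (f31209 IH) (Lpn (LP (LK LD1_c4 LD2_c20 LD3_c61))))))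
theorem f31146 : Led Lsl_ct (LP (LK LD1_c8 LD2_c39 LD3_c24)) = (LP (LK LD1_c4 LD2_c20 LD3_c52)) :=
  Lre_c IH (LK LD1_c8 LD2_c39 LD3_c24) (LK LD1_c4 LD2_c20 LD3_c52) Lrfl Lrfl
theorem f31218 : Led Lsl_ct (LP (LK LD1_c4 LD2_c20 LD3_c61)) = (LP (LK LD1_c8 LD2_c39 LD3_c42)) :=
  Lre_c IH (LK LD1_c4 LD2_c20 LD3_c61) (LK LD1_c8 LD2_c39 LD3_c42) Lrfl Lrfl
theorem f31219 : Led Lsl_af (LP (LK LD1_c8 LD2_c39 LD3_c24)) = (LP (LK LD1_c8 LD2_c39 LD3_c42)) :=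
  Lgr Lrot68 (Lpr_ct (f31146 IH) (Lpr_at (f31210 IH) (Lpr_ct (f31218 IH) (Lpn (LP (LK LD1_c8 LD2_c39 LD3_c42))))))
theorem f31250 : Led Lsl_at (LP (LK LD1_c8 LD2_c39 LD3_c24)) = (LP (LK LD1_c8 LD2_c39 LD3_c42)) :=
  Lgr Lrot100 (Lpr_af (f31219 IH) (Lpn (LP (LK LD1_c8 LD2_c39 LD3_c42))))
theorem f31264 : Led Lsl_et (LP (LK LD1_c4 LD2_c20 LD3_c51)) = (LP (LK LD1_c8 LD2_c39 LD3_c24)) :=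
  Lre_e IH (LK LD1_c4 LD2_c20 LD3_c51) (LK LD1_c8 LD2_c39 LD3_c24) Lrfl Lrfl
theorem f31265 : Led Lsl_et (LP (LK LD1_c8 LD2_c39 LD3_c42)) = (LP (LK LD1_c4 LD2_c20 LD3_c60)) :=
  Lre_e IH (LK LD1_c8 LD2_c39 LD3_c42) (LK LD1_c4 LD2_c20 LD3_c60) Lrfl Lrfl
theorem f31266 : Led Lsl_af (LP (LK LD1_c4 LD2_c20 LD3_c51)) = (LP (LK LD1_c4 LD2_c20 LD3_c60)) :=
  Lgr Lrot50 (Lpr_et (f31264 IH) (Lpr_at (f31250 IH) (Lpr_et (f31265 IH) (Lpn (LP (LK LD1_c4 LD2_c20 LD3_c60))))))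
theorem f31273 : Led Lsl_ft (LP (LK LD1_c4 LD2_c20 LD3_c51)) = (LP (LK LD1_c2 LD2_c7 LD3_c54)) :=
  Lre_f IH (LK LD1_c4 LD2_c20 LD3_c51) (LK LD1_c2 LD2_c7 LD3_c54) Lrfl Lrfl
theorem f31274 : Led Lsl_ft (LP (LK LD1_c2 LD2_c7 LD3_c60)) = (LP (LK LD1_c4 LD2_c20 LD3_c60)) :=
  Lre_f IH (LK LD1_c2 LD2_c7 LD3_c60) (LK LD1_c4 LD2_c20 LD3_c60) Lrfl Lrfl
theorem f31275 : Led Lsl_at (LP (LK LD1_c2 LD2_c7 LD3_c54)) = (LP (LK LD1_c2 LD2_c7 LD3_c60)) :=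
  Lgr Lrot66 (Lpe (f31273 IH) (Lpr_af (f31266 IH) (Lpe (f31274 IH) (Lpn (LP (LK LD1_c2 LD2_c7 LD3_c60))))))
theorem f31286 : Led Lsl_et (LP (LK LD1_c4 LD2_c20 LD3_c46)) = (LP (LK LD1_c2 LD2_c7 LD3_c54)) :=
  Lre_e IH (LK LD1_c4 LD2_c20 LD3_c46) (LK LD1_c2 LD2_c7 LD3_c54) Lrfl Lrfl
theorem f31287 : Led Lsl_et (LP (LK LD1_c2 LD2_c7 LD3_c60)) = (LP (LK LD1_c4 LD2_c20 LD3_c56)) :=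
  Lre_e IH (LK LD1_c2 LD2_c7 LD3_c60) (LK LD1_c4 LD2_c20 LD3_c56) Lrfl Lrfl
theorem f31288 : Led Lsl_af (LP (LK LD1_c4 LD2_c20 LD3_c46)) = (LP (LK LD1_c4 LD2_c20 LD3_c56)) :=
  Lgr Lrot50 (Lpr_et (f31286 IH) (Lpr_at (f31275 IH) (Lpr_et (f31287 IH) (Lpn (LP (LK LD1_c4 LD2_c20 LD3_c56))))))
theorem f31290 : Led Lsl_bt (LP (LK LD1_c4 LD2_c20 LD3_c46)) = (LP (LK LD1_c8 LD2_c39 LD3_c11)) :=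
  Lre_b IH (LK LD1_c4 LD2_c20 LD3_c46) (LK LD1_c8 LD2_c39 LD3_c11) Lrfl Lrfl
theorem f31291 : Led Lsl_at (LP (LK LD1_c8 LD2_c39 LD3_c11)) = (LP (LK LD1_c16 LD2_c12 LD3_c27)) :=
  Lre_a IH (LK LD1_c8 LD2_c39 LD3_c11) (LK LD1_c16 LD2_c12 LD3_c27) Lrfl Lrfl
theorem f31292 : Led Lsl_bt (LP (LK LD1_c8 LD2_c39 LD3_c31)) = (LP (LK LD1_c4 LD2_c20 LD3_c56)) :=
  Lre_b IH (LK LD1_c8 LD2_c39 LD3_c31) (LK LD1_c4 LD2_c20 LD3_c56) Lrfl Lrfl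
theorem f31293 : Led Lsl_at (LP (LK LD1_c16 LD2_c12 LD3_c61)) = (LP (LK LD1_c8 LD2_c39 LD3_c31)) :=
  Lre_a IH (LK LD1_c16 LD2_c12 LD3_c61) (LK LD1_c8 LD2_c39 LD3_c31) Lrfl Lrfl
theorem f31294 : Led Lsl_bt (LP (LK LD1_c16 LD2_c12 LD3_c27)) = (LP (LK LD1_c16 LD2_c12 LD3_c61)) :=
  Lgr Lrot62 (Lpe (f31291 IH) (Lpe (f31290 IH) (Lpr_af (f31288 IH) (Lpe (f31292 IH) (Lpe (f31293 IH) (Lpn (LP (LK LD1_c16 LD2_c12 LD3_c61))))))))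
theorem f48087 : Led Lsl_cf (LP (LK LD1_c19 LD2_c6 LD3_c14)) = (LP (LK LD1_c16 LD2_c12 LD3_c61)) :=
  Lgr Lrot97 (Lpr_bt (f48063 IH) (Lpr_ct (f33503 IH) (Lpr_bt (f33465 IH) (Lpe (f33536 IH) (Lpr_bt (f31294 IH) (Lpn (LP (LK LD1_c16 LD2_c12 LD3_c61))))))))
theorem f31308 : Led Lsl_et (LP (LK LD1_c8 LD2_c39 LD3_c38)) = (LP (LK LD1_c16 LD2_c12 LD3_c61)) :=
  Lre_e IH (LK LD1_c8 LD2_c39 LD3_c38) (LK LD1_c16 LD2_c12 LD3_c61) Lrfl Lrfl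
theorem f31399 : Led Lsl_ct (LP (LK LD1_c16 LD2_c12 LD3_c54)) = (LP (LK LD1_c8 LD2_c39 LD3_c38)) :=
  Lre_c IH (LK LD1_c16 LD2_c12 LD3_c54) (LK LD1_c8 LD2_c39 LD3_c38) Lrfl Lrfl
theorem f48094 : Led Lsl_et (LP (LK LD1_c19 LD2_c6 LD3_c14)) = (LP (LK LD1_c16 LD2_c12 LD3_c54)) :=
  Lgr Lrot158 (Lpr_cf (f48087 IH) (Lpe (f31308 IH) (Lpe (f31399 IH) (Lpn (LP (LK LD1_c16 LD2_c12 LD3_c54))))))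
theorem f48099 : Led Lsl_ef (LP (LK LD1_c19 LD2_c6 LD3_c14)) = (LP (LK LD1_c16 LD2_c12 LD3_c54)) :=
  Lgr Lrot88 (Lpr_et (f48094 IH) (Lpn (LP (LK LD1_c16 LD2_c12 LD3_c54))))
theorem f48089 : Led Lsl_at (LP (LK LD1_c19 LD2_c6 LD3_c14)) = (LP (LK LD1_c10 LD2_c32 LD3_c54)) :=
  Lre_a IH (LK LD1_c19 LD2_c6 LD3_c14) (LK LD1_c10 LD2_c32 LD3_c54) Lrfl Lrfl
theorem f48101 : Led Lsl_at (LP (LK LD1_c8 LD2_c39 LD3_c26)) = (LP (LK LD1_c16 LD2_c12 LD3_c54)) :=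
  Lre_a IH (LK LD1_c8 LD2_c39 LD3_c26) (LK LD1_c16 LD2_c12 LD3_c54) Lrfl Lrfl
theorem f48102 : Led Lsl_et (LP (LK LD1_c10 LD2_c32 LD3_c54)) = (LP (LK LD1_c8 LD2_c39 LD3_c26)) :=
  Lgr Lrot123 (Lpe (f48089 IH) (Lpr_ef (f48099 IH) (Lpe (f48101 IH) (Lpn (LP (LK LD1_c8 LD2_c39 LD3_c26))))))
theorem f48107 : Led Lsl_ct (LP (LK LD1_c8 LD2_c39 LD3_c26)) = (LP (LK LD1_c4 LD2_c20 LD3_c58)) :=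
  Lre_c IH (LK LD1_c8 LD2_c39 LD3_c26) (LK LD1_c4 LD2_c20 LD3_c58) Lrfl Lrfl
theorem f48108 : Led Lsl_et (LP (LK LD1_c4 LD2_c20 LD3_c58)) = (LP (LK LD1_c8 LD2_c39 LD3_c31)) :=
  Lre_e IH (LK LD1_c4 LD2_c20 LD3_c58) (LK LD1_c8 LD2_c39 LD3_c31) Lrfl Lrfl
theorem f48109 : Led Lsl_cf (LP (LK LD1_c10 LD2_c32 LD3_c54)) = (LP (LK LD1_c8 LD2_c39 LD3_c31)) :=
  Lgr Lrot39 (Lpr_et (f48102 IH) (Lpr_ct (f48107 IH) (Lpr_et (f48108 IH) (Lpn (LP (LK LD1_c8 LD2_c39 LD3_c31))))))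
theorem f48119 : Led Lsl_bt (LP (LK LD1_c10 LD2_c32 LD3_c54)) = (LP (LK LD1_c5 LD2_c21 LD3_c18)) :=
  Lre_b IH (LK LD1_c10 LD2_c32 LD3_c54) (LK LD1_c5 LD2_c21 LD3_c18) Lrfl Lrfl
theorem f31305 : Led Lsl_bt (LP (LK LD1_c4 LD2_c20 LD3_c56)) = (LP (LK LD1_c8 LD2_c39 LD3_c31)) :=
  Lre_b IH (LK LD1_c4 LD2_c20 LD3_c56) (LK LD1_c8 LD2_c39 LD3_c31) Lrfl Lrfl
theorem f31296 : Led Lsl_ct (LP (LK LD1_c2 LD2_c7 LD3_c58)) = (LP (LK LD1_c4 LD2_c20 LD3_c56)) :=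
  Lre_c IH (LK LD1_c2 LD2_c7 LD3_c58) (LK LD1_c4 LD2_c20 LD3_c56) Lrfl Lrfl
theorem f48120 : Led Lsl_bt (LP (LK LD1_c2 LD2_c37 LD3_c13)) = (LP (LK LD1_c2 LD2_c7 LD3_c58)) :=
  Lgr Lrot128 (Lpe (f48051 IH) (Lpe (f48119 IH) (Lpr_cf (f48109 IH) (Lpe (f31305 IH) (Lpe (f31296 IH) (Lpn (LP (LK LD1_c2 LD2_c7 LD3_c58))))))))
theorem f28982 : Led Lsl_dt (LP (LK LD1_c2 LD2_c7 LD3_c58)) = (LP (LK LD1_c1 LD2_c1 LD3_c5)) :=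
  Lre_d IH (LK LD1_c2 LD2_c7 LD3_c58) (LK LD1_c1 LD2_c1 LD3_c5) Lrfl Lrfl
theorem f48125 : Led Lsl_bf (LP (LK LD1_c1 LD2_c15 LD3_c37)) = (LP (LK LD1_c1 LD2_c1 LD3_c5)) :=
  Lgr Lrot93 (Lpr_dt (f48043 IH) (Lpr_bt (f48120 IH) (Lpr_dt (f28982 IH) (Lpn (LP (LK LD1_c1 LD2_c1 LD3_c5))))))
theorem f53952 : Led Lsl_ct (LP (LK LD1_c0 LD2_c33 LD3_c0)) = (LP (LK LD1_c1 LD2_c1 LD3_c5)) :=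
  Lgr Lrot83 (Lpe (K9.f53627 IH) (Lpe (f48172 IH) (Lpe (f48162 IH) (Lpr_cf (f53948 IH) (Lpr_bf (f48125 IH) (Lpn (LP (LK LD1_c1 LD2_c1 LD3_c5))))))))
theorem f53653 : Led Lsl_af (LP (LK LD1_c0 LD2_c33 LD3_c0)) = (LP (LK LD1_c0 LD2_c33 LD3_c2)) :=
  Lgr Lrot0 (Lpr_at (K9.f53648 IH) (Lpn (LP (LK LD1_c0 LD2_c33 LD3_c2))))
theorem f53954 : Led Lsl_cf (LP (LK LD1_c0 LD2_c33 LD3_c2)) = (LP (LK LD1_c1 LD2_c1 LD3_c1)) :=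
  Lgr Lrot1 (Lpe (f53653 IH) (Lpr_ct (f53952 IH) (Lpe (K8.f31160 IH) (Lpn (LP (LK LD1_c1 LD2_c1 LD3_c1))))))
theorem f53956 : Led Lsl_ct (LP (LK LD1_c1 LD2_c11 LD3_c14)) = (LP (LK LD1_c0 LD2_c56 LD3_c46)) :=
  Lgr Lrot83 (Lpe (K9.f53647 IH) (Lpr_cf (f53954 IH) (Lpr_bf (K8.f33396 IH) (Lpe (K8.f33428 IH) (Lpe (f47983 IH) (Lpn (LP (LK LD1_c0 LD2_c56 LD3_c46))))))))
theorem f44490 : Led Lsl_ct (LP (LK LD1_c0 LD2_c56 LD3_c45)) = (LP (LK LD1_c1 LD2_c59 LD3_c37)) :=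
  Lre_c IH (LK LD1_c0 LD2_c56 LD3_c45) (LK LD1_c1 LD2_c59 LD3_c37) Lrfl Lrfl
theorem f53959 : Led Lsl_af (LP (LK LD1_c0 LD2_c56 LD3_c45)) = (LP (LK LD1_c0 LD2_c56 LD3_c46)) :=
  Lgr Lrot68 (Lpr_ct (f44490 IH) (Lpr_at (K9.f53628 IH) (Lpr_ct (f53956 IH) (Lpn (LP (LK LD1_c0 LD2_c56 LD3_c46))))))
theorem f53819 : Led Lsl_af (LP (LK LD1_c2 LD2_c0 LD3_c22)) = (LP (LK LD1_c1 LD2_c59 LD3_c36)) :=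
  Lgr Lrot0 (Lpr_at (f53817 IH) (Lpn (LP (LK LD1_c1 LD2_c59 LD3_c36))))
theorem f45770 : Led Lsl_et (LP (LK LD1_c0 LD2_c57 LD3_c10)) = (LP (LK LD1_c2 LD2_c0 LD3_c22)) :=
  Lre_e IH (LK LD1_c0 LD2_c57 LD3_c10) (LK LD1_c2 LD2_c0 LD3_c22) Lrfl Lrfl
theorem f45771 : Led Lsl_bt (LP (LK LD1_c2 LD2_c0 LD3_c22)) = (LP (LK LD1_c1 LD2_c14 LD3_c9)) :=
  Lgr Lrot119 (Lpe (f45770 IH) (Lpr_bf (K1.f45738 IH) (Lpe (f33420 IH) (Lpn (LP (LK LD1_c1 LD2_c14 LD3_c9))))))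
theorem f53963 : Led Lsl_bt (LP (LK LD1_c1 LD2_c14 LD3_c6)) = (LP (LK LD1_c0 LD2_c56 LD3_c46)) :=
  Lgr Lrot62 (Lpe (K8.f33423 IH) (Lpe (f45771 IH) (Lpr_af (f53819 IH) (Lpe (f44498 IH) (Lpr_af (f53959 IH) (Lpn (LP (LK LD1_c0 LD2_c56 LD3_c46))))))))
theorem f189095 : Led Lsl_gf (LP (LK LD1_c0 LD2_c26 LD3_c35)) = (LP (LK LD1_c0 LD2_c56 LD3_c46)) :=
  Lgr Lrot124 (Lpe (f51603 IH) (Lpr_ct (K9.f51598 IH) (Lpr_gt (K9.f51594 IH) (Lpe (K9.f27349 IH) (Lpr_bt (K0.f27345 IH) (Lpr_gt (f27370 IH) (Lpe (f187230 IH) (Lpr_gt (f188919 IH) (Lpe (K8.f33428 IH) (Lpr_bt (f53963 IH) (Lpn (LP (LK LD1_c0 LD2_c56 LD3_c46)))))))))))))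
theorem f166897 : Led Lsl_et (LP (LK LD1_c0 LD2_c58 LD3_c41)) = (LP (LK LD1_c0 LD2_c26 LD3_c35)) :=
  Lre_e IH (LK LD1_c0 LD2_c58 LD3_c41) (LK LD1_c0 LD2_c26 LD3_c35) Lrfl Lrfl
theorem f166685 : Led Lsl_et (LP (LK LD1_c0 LD2_c33 LD3_c14)) = (LP (LK LD1_c1 LD2_c11 LD3_c49)) :=
  Lre_e IH (LK LD1_c0 LD2_c33 LD3_c14) (LK LD1_c1 LD2_c11 LD3_c49) Lrfl Lrfl
theorem f166687 : Led Lsl_et (LP (LK LD1_c0 LD2_c58 LD3_c45)) = (LP (LK LD1_c0 LD2_c26 LD3_c36)) :=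
  Lre_e IH (LK LD1_c0 LD2_c58 LD3_c45) (LK LD1_c0 LD2_c26 LD3_c36) Lrfl Lrfl
theorem f166688 : Led Lsl_dt (LP (LK LD1_c1 LD2_c11 LD3_c49)) = (LP (LK LD1_c0 LD2_c58 LD3_c45)) :=
  Lgr Lrot77 (Lpe (f166685 IH) (Lpr_df (K9.f166679 IH) (Lpe (K9.f166686 IH) (Lpe (K9.f53324 IH) (Lpe (f166687 IH) (Lpn (LP (LK LD1_c0 LD2_c58 LD3_c45))))))))
theorem f166705 : Led Lsl_ft (LP (LK LD1_c2 LD2_c29 LD3_c28)) = (LP (LK LD1_c1 LD2_c11 LD3_c49)) :=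
  Lre_f IH (LK LD1_c2 LD2_c29 LD3_c28) (LK LD1_c1 LD2_c11 LD3_c49) Lrfl Lrfl
theorem f166706 : Led Lsl_ft (LP (LK LD1_c0 LD2_c58 LD3_c45)) = (LP (LK LD1_c2 LD2_c3 LD3_c40)) :=
  Lre_f IH (LK LD1_c0 LD2_c58 LD3_c45) (LK LD1_c2 LD2_c3 LD3_c40) Lrfl Lrfl
theorem f166707 : Led Lsl_df (LP (LK LD1_c2 LD2_c29 LD3_c28)) = (LP (LK LD1_c2 LD2_c3 LD3_c40)) :=
  Lgr Lrot78 (Lpr_ft (f166705 IH) (Lpr_dt (f166688 IH) (Lpr_ft (f166706 IH) (Lpn (LP (LK LD1_c2 LD2_c3 LD3_c40))))))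
theorem f166811 : Led Lsl_dt (LP (LK LD1_c2 LD2_c29 LD3_c28)) = (LP (LK LD1_c2 LD2_c3 LD3_c40)) :=
  Lgr Lrot42 (Lpr_df (f166707 IH) (Lpn (LP (LK LD1_c2 LD2_c3 LD3_c40))))
theorem f166815 : Led Lsl_bt (LP (LK LD1_c5 LD2_c3 LD3_c50)) = (LP (LK LD1_c2 LD2_c29 LD3_c28)) :=
  Lre_b IH (LK LD1_c5 LD2_c3 LD3_c50) (LK LD1_c2 LD2_c29 LD3_c28) Lrfl Lrfl
theorem f166816 : Led Lsl_bt (LP (LK LD1_c2 LD2_c3 LD3_c40)) = (LP (LK LD1_c4 LD2_c12 LD3_c31)) :=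
  Lre_b IH (LK LD1_c2 LD2_c3 LD3_c40) (LK LD1_c4 LD2_c12 LD3_c31) Lrfl Lrfl
theorem f166817 : Led Lsl_df (LP (LK LD1_c5 LD2_c3 LD3_c50)) = (LP (LK LD1_c4 LD2_c12 LD3_c31)) :=
  Lgr Lrot12 (Lpr_bt (f166815 IH) (Lpr_dt (f166811 IH) (Lpr_bt (f166816 IH) (Lpn (LP (LK LD1_c4 LD2_c12 LD3_c31))))))
theorem f166825 : Led Lsl_ft (LP (LK LD1_c5 LD2_c3 LD3_c50)) = (LP (LK LD1_c2 LD2_c29 LD3_c22)) :=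
  Lre_f IH (LK LD1_c5 LD2_c3 LD3_c50) (LK LD1_c2 LD2_c29 LD3_c22) Lrfl Lrfl
theorem f166826 : Led Lsl_ft (LP (LK LD1_c2 LD2_c3 LD3_c26)) = (LP (LK LD1_c4 LD2_c12 LD3_c31)) :=
  Lre_f IH (LK LD1_c2 LD2_c3 LD3_c26) (LK LD1_c4 LD2_c12 LD3_c31) Lrfl Lrfl
theorem f166827 : Led Lsl_dt (LP (LK LD1_c2 LD2_c29 LD3_c22)) = (LP (LK LD1_c2 LD2_c3 LD3_c26)) :=
  Lgr Lrot60 (Lpe (f166825 IH) (Lpr_df (f166817 IH) (Lpe (f166826 IH) (Lpn (LP (LK LD1_c2 LD2_c3 LD3_c26))))))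
theorem f166851 : Led Lsl_et (LP (LK LD1_c1 LD2_c11 LD3_c47)) = (LP (LK LD1_c2 LD2_c29 LD3_c22)) :=
  Lre_e IH (LK LD1_c1 LD2_c11 LD3_c47) (LK LD1_c2 LD2_c29 LD3_c22) Lrfl Lrfl
theorem f166852 : Led Lsl_et (LP (LK LD1_c2 LD2_c3 LD3_c26)) = (LP (LK LD1_c0 LD2_c58 LD3_c40)) :=
  Lre_e IH (LK LD1_c2 LD2_c3 LD3_c26) (LK LD1_c0 LD2_c58 LD3_c40) Lrfl Lrfl
theorem f166515 : Led Lsl_dt (LP (LK LD1_c0 LD2_c58 LD3_c40)) = (LP (LK LD1_c0 LD2_c26 LD3_c35)) :=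
  Lre_d IH (LK LD1_c0 LD2_c58 LD3_c40) (LK LD1_c0 LD2_c26 LD3_c35) Lrfl Lrfl
theorem f166853 : Led Lsl_et (LP (LK LD1_c0 LD2_c26 LD3_c35)) = (LP (LK LD1_c0 LD2_c58 LD3_c41)) :=
  Lre_e IH (LK LD1_c0 LD2_c26 LD3_c35) (LK LD1_c0 LD2_c58 LD3_c41) Lrfl Lrfl
theorem f166854 : Led Lsl_df (LP (LK LD1_c1 LD2_c11 LD3_c47)) = (LP (LK LD1_c0 LD2_c58 LD3_c41)) :=
  Lgr Lrot70 (Lpr_et (f166851 IH) (Lpr_dt (f166827 IH) (Lpr_et (f166852 IH) (Lpr_dt (f166515 IH) (Lpr_et (f166853 IH) (Lpn (LP (LK LD1_c0 LD2_c58 LD3_c41))))))))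
theorem f31523 : Led Lsl_et (LP (LK LD1_c0 LD2_c54 LD3_c38)) = (LP (LK LD1_c0 LD2_c24 LD3_c40)) :=
  Lre_e IH (LK LD1_c0 LD2_c54 LD3_c38) (LK LD1_c0 LD2_c24 LD3_c40) Lrfl Lrfl
theorem f189448 : Led Lsl_gt (LP (LK LD1_c1 LD2_c11 LD3_c47)) = (LP (LK LD1_c1 LD2_c55 LD3_c48)) :=
  Lgr Lrot112 (Lpr_df (f166854 IH) (Lpr_et (f166897 IH) (Lpr_gf (f189095 IH) (Lpe (f44582 IH) (Lpr_dt (f41867 IH) (Lpe (K1.f47441 IH) (Lpe (K1.f47838 IH) (Lpe (K1.f43237 IH) (Lpe (f31523 IH) (Lpr_dt (K1.f31516 IH) (Lpn (LP (LK LD1_c1 LD2_c55 LD3_c48)))))))))))))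
theorem f165614 : Led Lsl_bt (LP (LK LD1_c0 LD2_c33 LD3_c14)) = (LP (LK LD1_c1 LD2_c11 LD3_c47)) :=
  Lre_b IH (LK LD1_c0 LD2_c33 LD3_c14) (LK LD1_c1 LD2_c11 LD3_c47) Lrfl Lrfl
theorem f32592 : Led Lsl_af (LP (LK LD1_c0 LD2_c34 LD3_c48)) = (LP (LK LD1_c0 LD2_c34 LD3_c33)) :=
  Lgr Lrot0 (Lpr_at (K2.f32590 IH) (Lpn (LP (LK LD1_c0 LD2_c34 LD3_c33))))
theorem f165602 : Led Lsl_gf (LP (LK LD1_c1 LD2_c11 LD3_c48)) = (LP (LK LD1_c1 LD2_c14 LD3_c33)) :=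
  Lgr Lrot47 (Lpr_gt (K8.f165584 IH) (Lpr_af (f32592 IH) (Lpe (K2.f32780 IH) (Lpn (LP (LK LD1_c1 LD2_c14 LD3_c33))))))
theorem f32888 : Led Lsl_bt (LP (LK LD1_c1 LD2_c14 LD3_c57)) = (LP (LK LD1_c0 LD2_c34 LD3_c46)) :=
  Lre_b IH (LK LD1_c1 LD2_c14 LD3_c57) (LK LD1_c0 LD2_c34 LD3_c46) Lrfl Lrfl
theorem f32891 : Led Lsl_ct (LP (LK LD1_c1 LD2_c14 LD3_c57)) = (LP (LK LD1_c2 LD2_c35 LD3_c50)) :=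
  Lre_c IH (LK LD1_c1 LD2_c14 LD3_c57) (LK LD1_c2 LD2_c35 LD3_c50) Lrfl Lrfl
theorem f189451 : Led Lsl_gf (LP (LK LD1_c2 LD2_c35 LD3_c50)) = (LP (LK LD1_c4 LD2_c54 LD3_c18)) :=
  Lgr Lrot126 (Lpe (f32891 IH) (Lpr_bt (f32888 IH) (Lpr_gt (f32886 IH) (Lpr_ct (K9.f32587 IH) (Lpe (f165602 IH) (Lpe (K8.f165583 IH) (Lpr_bt (f165614 IH) (Lpr_gt (f189448 IH) (Lpe (K1.f31466 IH) (Lpr_ct (K9.f31482 IH) (Lpn (LP (LK LD1_c4 LD2_c54 LD3_c18)))))))))))))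
theorem f32804 : Led Lsl_bt (LP (LK LD1_c1 LD2_c14 LD3_c26)) = (LP (LK LD1_c0 LD2_c34 LD3_c34)) :=
  Lre_b IH (LK LD1_c1 LD2_c14 LD3_c26) (LK LD1_c0 LD2_c34 LD3_c34) Lrfl Lrfl
theorem f32893 : Led Lsl_gt (LP (LK LD1_c2 LD2_c34 LD3_c53)) = (LP (LK LD1_c5 LD2_c15 LD3_c6)) :=
  Lre_g IH (LK LD1_c2 LD2_c34 LD3_c53) (LK LD1_c5 LD2_c15 LD3_c6) Lrfl Lrfl
theorem f45731 : Led Lsl_gt (LP (LK LD1_c4 LD2_c13 LD3_c46)) = (LP (LK LD1_c2 LD2_c4 LD3_c14)) :=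
  Lre_g IH (LK LD1_c4 LD2_c13 LD3_c46) (LK LD1_c2 LD2_c4 LD3_c14) Lrfl Lrfl
theorem f49480 : Led Lsl_gt (LP (LK LD1_c4 LD2_c13 LD3_c41)) = (LP (LK LD1_c4 LD2_c13 LD3_c46)) :=
  Lgr Lrot5 (Lpr_ft (K9.f45002 IH) (Lpr_at (K9.f49475 IH) (Lpe (f45731 IH) (Lpn (LP (LK LD1_c4 LD2_c13 LD3_c46))))))
theorem f49159 : Led Lsl_gt (LP (LK LD1_c2 LD2_c4 LD3_c13)) = (LP (LK LD1_c0 LD2_c59 LD3_c9)) :=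
  Lre_g IH (LK LD1_c2 LD2_c4 LD3_c13) (LK LD1_c0 LD2_c59 LD3_c9) Lrfl Lrfl
theorem f49437 : Led Lsl_gt (LP (LK LD1_c2 LD2_c4 LD3_c11)) = (LP (LK LD1_c2 LD2_c4 LD3_c13)) :=
  Lgr Lrot5 (Lpr_ft (K9.f49433 IH) (Lpr_at (K8.f49425 IH) (Lpe (f49159 IH) (Lpn (LP (LK LD1_c2 LD2_c4 LD3_c13))))))
theorem f49158 : Led Lsl_et (LP (LK LD1_c0 LD2_c26 LD3_c57)) = (LP (LK LD1_c0 LD2_c59 LD3_c9)) :=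
  Lre_e IH (LK LD1_c0 LD2_c26 LD3_c57) (LK LD1_c0 LD2_c59 LD3_c9) Lrfl Lrfl
theorem f49160 : Led Lsl_et (LP (LK LD1_c4 LD2_c13 LD3_c45)) = (LP (LK LD1_c2 LD2_c4 LD3_c13)) :=
  Lre_e IH (LK LD1_c4 LD2_c13 LD3_c45) (LK LD1_c2 LD2_c4 LD3_c13) Lrfl Lrfl
theorem f32086 : Led Lsl_gt (LP (LK LD1_c0 LD2_c34 LD3_c41)) = (LP (LK LD1_c1 LD2_c14 LD3_c44)) :=
  Lre_g IH (LK LD1_c0 LD2_c34 LD3_c41) (LK LD1_c1 LD2_c14 LD3_c44) Lrfl Lrfl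
theorem f32087 : Led Lsl_dt (LP (LK LD1_c1 LD2_c14 LD3_c44)) = (LP (LK LD1_c2 LD2_c35 LD3_c22)) :=
  Lre_d IH (LK LD1_c1 LD2_c14 LD3_c44) (LK LD1_c2 LD2_c35 LD3_c22) Lrfl Lrfl
theorem f48235 : Led Lsl_gt (LP (LK LD1_c2 LD2_c35 LD3_c22)) = (LP (LK LD1_c5 LD2_c17 LD3_c13)) :=
  Lre_g IH (LK LD1_c2 LD2_c35 LD3_c22) (LK LD1_c5 LD2_c17 LD3_c13) Lrfl Lrfl
theorem f49161 : Led Lsl_dt (LP (LK LD1_c4 LD2_c13 LD3_c45)) = (LP (LK LD1_c5 LD2_c17 LD3_c13)) :=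
  Lgr Lrot56 (Lpr_et (f49160 IH) (Lpr_gt (f49159 IH) (Lpe (f49158 IH) (Lpe (K8.f49152 IH) (Lpr_gt (K8.f49149 IH) (Lpe (K8.f33292 IH) (Lpr_et (K1.f32122 IH) (Lpr_gt (f32086 IH) (Lpr_dt (f32087 IH) (Lpr_gt (f48235 IH) (Lpn (LP (LK LD1_c5 LD2_c17 LD3_c13)))))))))))))
theorem f49163 : Led Lsl_df (LP (LK LD1_c4 LD2_c13 LD3_c45)) = (LP (LK LD1_c5 LD2_c17 LD3_c13)) :=
  Lgr Lrot38 (Lpr_dt (f49161 IH) (Lpn (LP (LK LD1_c5 LD2_c17 LD3_c13))))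
theorem f48192 : Led Lsl_gt (LP (LK LD1_c1 LD2_c14 LD3_c48)) = (LP (LK LD1_c2 LD2_c35 LD3_c31)) :=
  Lre_g IH (LK LD1_c1 LD2_c14 LD3_c48) (LK LD1_c2 LD2_c35 LD3_c31) Lrfl Lrfl
theorem f45107 : Led Lsl_gt (LP (LK LD1_c0 LD2_c59 LD3_c33)) = (LP (LK LD1_c0 LD2_c27 LD3_c7)) :=
  Lre_g IH (LK LD1_c0 LD2_c59 LD3_c33) (LK LD1_c0 LD2_c27 LD3_c7) Lrfl Lrfl
theorem f45108 : Led Lsl_et (LP (LK LD1_c2 LD2_c4 LD3_c59)) = (LP (LK LD1_c0 LD2_c59 LD3_c33)) :=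
  Lre_e IH (LK LD1_c2 LD2_c4 LD3_c59) (LK LD1_c0 LD2_c59 LD3_c33) Lrfl Lrfl
theorem f48193 : Led Lsl_dt (LP (LK LD1_c2 LD2_c4 LD3_c59)) = (LP (LK LD1_c2 LD2_c35 LD3_c31)) :=
  Lgr Lrot56 (Lpr_et (f45108 IH) (Lpr_gt (f45107 IH) (Lpe (f45106 IH) (Lpe (K1.f45092 IH) (Lpr_gt (K1.f31436 IH) (Lpr_df (K8.f48181 IH) (Lpr_et (K9.f32145 IH) (Lpr_gt (f32251 IH) (Lpr_dt (f32252 IH) (Lpr_gt (f48192 IH) (Lpn (LP (LK LD1_c2 LD2_c35 LD3_c31)))))))))))))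
theorem f48197 : Led Lsl_df (LP (LK LD1_c2 LD2_c4 LD3_c59)) = (LP (LK LD1_c2 LD2_c35 LD3_c31)) :=
  Lgr Lrot38 (Lpr_dt (f48193 IH) (Lpn (LP (LK LD1_c2 LD2_c35 LD3_c31))))
theorem f49191 : Led Lsl_cf (LP (LK LD1_c4 LD2_c13 LD3_c45)) = (LP (LK LD1_c2 LD2_c4 LD3_c59)) :=
  Lgr Lrot14 (Lpr_df (f49163 IH) (Lpe (f48235 IH) (Lpe (f32087 IH) (Lpe (f32086 IH) (Lpr_ct (K0.f32062 IH) (Lpr_gt (f32251 IH) (Lpr_dt (f32252 IH) (Lpr_gt (f48192 IH) (Lpe (f48197 IH) (Lpn (LP (LK LD1_c2 LD2_c4 LD3_c59))))))))))))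
theorem f48199 : Led Lsl_et (LP (LK LD1_c0 LD2_c59 LD3_c33)) = (LP (LK LD1_c2 LD2_c4 LD3_c59)) :=
  Lre_e IH (LK LD1_c0 LD2_c59 LD3_c33) (LK LD1_c2 LD2_c4 LD3_c59) Lrfl Lrfl
theorem f49193 : Led Lsl_ct (LP (LK LD1_c2 LD2_c4 LD3_c13)) = (LP (LK LD1_c0 LD2_c59 LD3_c33)) :=
  Lgr Lrot15 (Lpe (f49160 IH) (Lpr_cf (f49191 IH) (Lpe (f48199 IH) (Lpn (LP (LK LD1_c0 LD2_c59 LD3_c33))))))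
theorem f45245 : Led Lsl_cf (LP (LK LD1_c0 LD2_c34 LD3_c26)) = (LP (LK LD1_c0 LD2_c27 LD3_c7)) :=
  Lgr Lrot11 (Lpr_ct (K1.f45233 IH) (Lpn (LP (LK LD1_c0 LD2_c27 LD3_c7))))
theorem f32460 : Led Lsl_gt (LP (LK LD1_c5 LD2_c15 LD3_c6)) = (LP (LK LD1_c2 LD2_c34 LD3_c25)) :=
  Lre_g IH (LK LD1_c5 LD2_c15 LD3_c6) (LK LD1_c2 LD2_c34 LD3_c25) Lrfl Lrfl
theorem f49484 : Led Lsl_cf (LP (LK LD1_c5 LD2_c15 LD3_c6)) = (LP (LK LD1_c4 LD2_c13 LD3_c46)) :=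
  Lgr Lrot169 (Lpr_gt (f32460 IH) (Lpr_ct (K1.f32448 IH) (Lpe (K2.f32317 IH) (Lpr_cf (f45245 IH) (Lpe (f45107 IH) (Lpe (f49193 IH) (Lpe (f49437 IH) (Lpe (K9.f49443 IH) (Lpr_gt (f49480 IH) (Lpn (LP (LK LD1_c4 LD2_c13 LD3_c46))))))))))))
theorem f31520 : Led Lsl_gt (LP (LK LD1_c4 LD2_c54 LD3_c17)) = (LP (LK LD1_c2 LD2_c25 LD3_c1)) :=
  Lre_g IH (LK LD1_c4 LD2_c54 LD3_c17) (LK LD1_c2 LD2_c25 LD3_c1) Lrfl Lrfl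
theorem f189498 : Led Lsl_bt (LP (LK LD1_c4 LD2_c13 LD3_c46)) = (LP (LK LD1_c4 LD2_c54 LD3_c17)) :=
  Lgr Lrot130 (Lpe (f49484 IH) (Lpe (f32893 IH) (Lpe (K1.f32892 IH) (Lpr_bt (f32804 IH) (Lpe (f32886 IH) (Lpe (f32888 IH) (Lpr_ct (f32891 IH) (Lpr_gf (f189451 IH) (Lpe (K9.f31482 IH) (Lpe (f31520 IH) (Lpn (LP (LK LD1_c4 LD2_c54 LD3_c17)))))))))))))
theorem f32459 : Led Lsl_ct (LP (LK LD1_c1 LD2_c14 LD3_c13)) = (LP (LK LD1_c2 LD2_c34 LD3_c25)) :=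
  Lre_c IH (LK LD1_c1 LD2_c14 LD3_c13) (LK LD1_c2 LD2_c34 LD3_c25) Lrfl Lrfl
theorem f32454 : Led Lsl_gt (LP (LK LD1_c1 LD2_c14 LD3_c40)) = (LP (LK LD1_c2 LD2_c35 LD3_c17)) :=
  Lre_g IH (LK LD1_c1 LD2_c14 LD3_c40) (LK LD1_c2 LD2_c35 LD3_c17) Lrfl Lrfl
theorem f32458 : Led Lsl_ct (LP (LK LD1_c2 LD2_c35 LD3_c17)) = (LP (LK LD1_c5 LD2_c17 LD3_c4)) :=
  Lre_c IH (LK LD1_c2 LD2_c35 LD3_c17) (LK LD1_c5 LD2_c17 LD3_c4) Lrfl Lrfl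
theorem f43546 : Led Lsl_at (LP (LK LD1_c2 LD2_c24 LD3_c56)) = (LP (LK LD1_c2 LD2_c25 LD3_c1)) :=
  Lgr Lrot107 (Lpe (K9.f43500 IH) (Lpr_af (K9.f43536 IH) (Lpe (K9.f31482 IH) (Lpn (LP (LK LD1_c2 LD2_c25 LD3_c1))))))
theorem f43551 : Led Lsl_ft (LP (LK LD1_c4 LD2_c54 LD3_c4)) = (LP (LK LD1_c2 LD2_c24 LD3_c56)) :=
  Lre_f IH (LK LD1_c4 LD2_c54 LD3_c4) (LK LD1_c2 LD2_c24 LD3_c56) Lrfl Lrfl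
theorem f43554 : Led Lsl_gt (LP (LK LD1_c4 LD2_c54 LD3_c4)) = (LP (LK LD1_c4 LD2_c54 LD3_c17)) :=
  Lgr Lrot5 (Lpr_ft (f43551 IH) (Lpr_at (f43546 IH) (Lpe (f31520 IH) (Lpn (LP (LK LD1_c4 LD2_c54 LD3_c17))))))
theorem f50029 : Led Lsl_bf (LP (LK LD1_c4 LD2_c54 LD3_c4)) = (LP (LK LD1_c4 LD2_c7 LD3_c57)) :=
  Lgr Lrot24 (Lpr_bt (K9.f50027 IH) (Lpn (LP (LK LD1_c4 LD2_c7 LD3_c57))))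
theorem f49650 : Led Lsl_ct (LP (LK LD1_c4 LD2_c7 LD3_c57)) = (LP (LK LD1_c8 LD2_c15 LD3_c54)) :=
  Lre_c IH (LK LD1_c4 LD2_c7 LD3_c57) (LK LD1_c8 LD2_c15 LD3_c54) Lrfl Lrfl
theorem f189506 : Led Lsl_gt (LP (LK LD1_c5 LD2_c17 LD3_c4)) = (LP (LK LD1_c8 LD2_c15 LD3_c54)) :=
  Lgr Lrot149 (Lpe (f32458 IH) (Lpe (f32454 IH) (Lpr_bf (K2.f32423 IH) (Lpr_ct (f32459 IH) (Lpe (f32460 IH) (Lpr_cf (f49484 IH) (Lpr_bt (f189498 IH) (Lpe (f43554 IH) (Lpr_bf (f50029 IH) (Lpr_ct (f49650 IH) (Lpn (LP (LK LD1_c8 LD2_c15 LD3_c54)))))))))))))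
theorem f49649 : Led Lsl_dt (LP (LK LD1_c2 LD2_c1 LD3_c20)) = (LP (LK LD1_c4 LD2_c7 LD3_c57)) :=
  Lre_d IH (LK LD1_c2 LD2_c1 LD3_c20) (LK LD1_c4 LD2_c7 LD3_c57) Lrfl Lrfl
theorem f49648 : Led Lsl_ct (LP (LK LD1_c0 LD2_c57 LD3_c46)) = (LP (LK LD1_c2 LD2_c1 LD3_c20)) :=
  Lre_c IH (LK LD1_c0 LD2_c57 LD3_c46) (LK LD1_c2 LD2_c1 LD3_c20) Lrfl Lrfl
theorem f49808 : Led Lsl_ft (LP (LK LD1_c0 LD2_c26 LD3_c13)) = (LP (LK LD1_c0 LD2_c57 LD3_c41)) :=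
  Lre_f IH (LK LD1_c0 LD2_c26 LD3_c13) (LK LD1_c0 LD2_c57 LD3_c41) Lrfl Lrfl
theorem f49899 : Led Lsl_gt (LP (LK LD1_c0 LD2_c26 LD3_c13)) = (LP (LK LD1_c0 LD2_c57 LD3_c39)) :=
  Lre_g IH (LK LD1_c0 LD2_c26 LD3_c13) (LK LD1_c0 LD2_c57 LD3_c39) Lrfl Lrfl
theorem f53585 : Led Lsl_gt (LP (LK LD1_c0 LD2_c57 LD3_c39)) = (LP (LK LD1_c0 LD2_c57 LD3_c46)) :=
  Lgr Lrot46 (Lpe (f49899 IH) (Lpr_ft (f49808 IH) (Lpr_at (K9.f49609 IH) (Lpn (LP (LK LD1_c0 LD2_c57 LD3_c46))))))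
theorem f189515 : Led Lsl_ct (LP (LK LD1_c1 LD2_c14 LD3_c38)) = (LP (LK LD1_c0 LD2_c57 LD3_c39)) :=
  Lgr Lrot152 (Lpe (K9.f32916 IH) (Lpe (K2.f32422 IH) (Lpr_gt (f32454 IH) (Lpr_ct (f32458 IH) (Lpr_gt (f189506 IH) (Lpr_ct (K9.f49792 IH) (Lpe (f49649 IH) (Lpe (f49648 IH) (Lpe (f53585 IH) (Lpn (LP (LK LD1_c0 LD2_c57 LD3_c39))))))))))))
theorem f50031 : Led Lsl_bf (LP (LK LD1_c2 LD2_c24 LD3_c57)) = (LP (LK LD1_c2 LD2_c1 LD3_c20)) :=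
  Lgr Lrot93 (Lpr_dt (K9.f43387 IH) (Lpr_bt (K9.f50027 IH) (Lpr_dt (K9.f49791 IH) (Lpn (LP (LK LD1_c2 LD2_c1 LD3_c20))))))
theorem f184868 : Led Lsl_ct (LP (LK LD1_c2 LD2_c25 LD3_c0)) = (LP (LK LD1_c1 LD2_c14 LD3_c50)) :=
  Lgr Lrot59 (Lpr_cf (f184864 IH) (Lpn (LP (LK LD1_c1 LD2_c14 LD3_c50))))
theorem f189526 : Led Lsl_bt (LP (LK LD1_c1 LD2_c14 LD3_c38)) = (LP (LK LD1_c1 LD2_c15 LD3_c3)) :=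
  Lgr Lrot92 (Lpr_ct (f189515 IH) (Lpr_gt (f53585 IH) (Lpe (K9.f49612 IH) (Lpe (f50031 IH) (Lpe (f43413 IH) (Lpr_ct (f184868 IH) (Lpr_gt (K9.f184763 IH) (Lpe (K1.f28249 IH) (Lpr_bt (f28299 IH) (Lpr_gt (K9.f28264 IH) (Lpn (LP (LK LD1_c1 LD2_c15 LD3_c3)))))))))))))
theorem f48722 : Led Lsl_dt (LP (LK LD1_c2 LD2_c35 LD3_c15)) = (LP (LK LD1_c1 LD2_c14 LD3_c38)) :=
  Lre_d IH (LK LD1_c2 LD2_c35 LD3_c15) (LK LD1_c1 LD2_c14 LD3_c38) Lrfl Lrfl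
theorem f28265 : Led Lsl_dt (LP (LK LD1_c1 LD2_c15 LD3_c3)) = (LP (LK LD1_c2 LD2_c36 LD3_c6)) :=
  Lre_d IH (LK LD1_c1 LD2_c15 LD3_c3) (LK LD1_c2 LD2_c36 LD3_c6) Lrfl Lrfl
theorem f189530 : Led Lsl_bf (LP (LK LD1_c2 LD2_c35 LD3_c15)) = (LP (LK LD1_c2 LD2_c36 LD3_c6)) :=
  Lgr Lrot93 (Lpr_dt (f48722 IH) (Lpr_bt (f189526 IH) (Lpr_dt (f28265 IH) (Lpn (LP (LK LD1_c2 LD2_c36 LD3_c6))))))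
theorem f186730 : Led Lsl_bt (LP (LK LD1_c0 LD2_c33 LD3_c54)) = (LP (LK LD1_c1 LD2_c13 LD3_c4)) :=
  Lre_b IH (LK LD1_c0 LD2_c33 LD3_c54) (LK LD1_c1 LD2_c13 LD3_c4) Lrfl Lrfl
theorem f186731 : Led Lsl_gt (LP (LK LD1_c1 LD2_c13 LD3_c4)) = (LP (LK LD1_c2 LD2_c32 LD3_c6)) :=
  Lre_g IH (LK LD1_c1 LD2_c13 LD3_c4) (LK LD1_c2 LD2_c32 LD3_c6) Lrfl Lrfl
theorem f186739 : Led Lsl_ct (LP (LK LD1_c2 LD2_c32 LD3_c6)) = (LP (LK LD1_c5 LD2_c10 LD3_c4)) :=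
  Lre_c IH (LK LD1_c2 LD2_c32 LD3_c6) (LK LD1_c5 LD2_c10 LD3_c4) Lrfl Lrfl
theorem f184844 : Led Lsl_ct (LP (LK LD1_c2 LD2_c36 LD3_c6)) = (LP (LK LD1_c5 LD2_c18 LD3_c61)) :=
  Lre_c IH (LK LD1_c2 LD2_c36 LD3_c6) (LK LD1_c5 LD2_c18 LD3_c61) Lrfl Lrfl
theorem f189538 : Led Lsl_gt (LP (LK LD1_c5 LD2_c10 LD3_c4)) = (LP (LK LD1_c5 LD2_c18 LD3_c61)) :=
  Lgr Lrot149 (Lpe (f186739 IH) (Lpe (f186731 IH) (Lpe (f186730 IH) (Lpr_ct (f185396 IH) (Lpe (f186721 IH) (Lpe (f169449 IH) (Lpr_bt (K9.f169446 IH) (Lpr_gf (K9.f183694 IH) (Lpr_bf (f189530 IH) (Lpr_ct (f184844 IH) (Lpn (LP (LK LD1_c5 LD2_c18 LD3_c61)))))))))))))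
theorem f189542 : Led Lsl_dt (LP (LK LD1_c1 LD2_c13 LD3_c4)) = (LP (LK LD1_c0 LD2_c33 LD3_c53)) :=
  Lre_d IH (LK LD1_c1 LD2_c13 LD3_c4) (LK LD1_c0 LD2_c33 LD3_c53) Lrfl Lrfl
theorem f184850 : Led Lsl_ct (LP (LK LD1_c5 LD2_c18 LD3_c61)) = (LP (LK LD1_c2 LD2_c36 LD3_c6)) :=
  Lre_c IH (LK LD1_c5 LD2_c18 LD3_c61) (LK LD1_c2 LD2_c36 LD3_c6) Lrfl Lrfl
theorem f43405 : Led Lsl_ct (LP (LK LD1_c0 LD2_c32 LD3_c16)) = (LP (LK LD1_c1 LD2_c9 LD3_c41)) :=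
  Lre_c IH (LK LD1_c0 LD2_c32 LD3_c16) (LK LD1_c1 LD2_c9 LD3_c41) Lrfl Lrfl
theorem f189543 : Led Lsl_gt (LP (LK LD1_c0 LD2_c33 LD3_c53)) = (LP (LK LD1_c0 LD2_c32 LD3_c16)) :=
  Lgr Lrot9 (Lpe (f189542 IH) (Lpr_gt (f186731 IH) (Lpr_ct (f186739 IH) (Lpr_gt (f189538 IH) (Lpr_ct (f184850 IH) (Lpe (f28265 IH) (Lpe (K9.f184838 IH) (Lpe (K9.f43820 IH) (Lpe (f43405 IH) (Lpn (LP (LK LD1_c0 LD2_c32 LD3_c16))))))))))))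
theorem f189558 : Led Lsl_et (LP (LK LD1_c1 LD2_c13 LD3_c5)) = (LP (LK LD1_c0 LD2_c33 LD3_c53)) :=
  Lre_e IH (LK LD1_c1 LD2_c13 LD3_c5) (LK LD1_c0 LD2_c33 LD3_c53) Lrfl Lrfl
theorem f189559 : Led Lsl_dt (LP (LK LD1_c1 LD2_c13 LD3_c5)) = (LP (LK LD1_c2 LD2_c32 LD3_c10)) :=
  Lre_d IH (LK LD1_c1 LD2_c13 LD3_c5) (LK LD1_c2 LD2_c32 LD3_c10) Lrfl Lrfl
theorem f182211 : Led Lsl_dt (LP (LK LD1_c2 LD2_c0 LD3_c25)) = (LP (LK LD1_c4 LD2_c6 LD3_c12)) :=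
  Lre_d IH (LK LD1_c2 LD2_c0 LD3_c25) (LK LD1_c4 LD2_c6 LD3_c12) Lrfl Lrfl
theorem f189561 : Led Lsl_gf (LP (LK LD1_c2 LD2_c32 LD3_c10)) = (LP (LK LD1_c4 LD2_c6 LD3_c12)) :=
  Lgr Lrot134 (Lpe (f189559 IH) (Lpr_et (f189558 IH) (Lpr_gt (f189543 IH) (Lpe (K9.f43327 IH) (Lpr_dt (K1.f44317 IH) (Lpr_gt (K1.f43237 IH) (Lpr_df (K1.f47799 IH) (Lpr_et (K1.f47833 IH) (Lpr_gt (K9.f54529 IH) (Lpr_dt (f182211 IH) (Lpn (LP (LK LD1_c4 LD2_c6 LD3_c12)))))))))))))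
theorem f189564 : Led Lsl_dt (LP (LK LD1_c2 LD2_c32 LD3_c10)) = (LP (LK LD1_c1 LD2_c13 LD3_c5)) :=
  Lre_d IH (LK LD1_c2 LD2_c32 LD3_c10) (LK LD1_c1 LD2_c13 LD3_c5) Lrfl Lrfl
theorem f183850 : Led Lsl_cf (LP (LK LD1_c0 LD2_c39 LD3_c8)) = (LP (LK LD1_c0 LD2_c57 LD3_c13)) :=
  Lgr Lrot11 (Lpr_ct (K9.f183845 IH) (Lpn (LP (LK LD1_c0 LD2_c57 LD3_c13))))
theorem f41785 : Led Lsl_dt (LP (LK LD1_c1 LD2_c24 LD3_c54)) = (LP (LK LD1_c2 LD2_c58 LD3_c23)) :=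
  Lre_d IH (LK LD1_c1 LD2_c24 LD3_c54) (LK LD1_c2 LD2_c58 LD3_c23) Lrfl Lrfl
theorem f184625 : Led Lsl_et (LP (LK LD1_c1 LD2_c12 LD3_c12)) = (LP (LK LD1_c0 LD2_c33 LD3_c24)) :=
  Lre_e IH (LK LD1_c1 LD2_c12 LD3_c12) (LK LD1_c0 LD2_c33 LD3_c24) Lrfl Lrfl
theorem f184626 : Led Lsl_dt (LP (LK LD1_c1 LD2_c12 LD3_c12)) = (LP (LK LD1_c2 LD2_c30 LD3_c24)) :=
  Lre_d IH (LK LD1_c1 LD2_c12 LD3_c12) (LK LD1_c2 LD2_c30 LD3_c24) Lrfl Lrfl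
theorem f184633 : Led Lsl_gf (LP (LK LD1_c2 LD2_c30 LD3_c24)) = (LP (LK LD1_c2 LD2_c58 LD3_c23)) :=
  Lgr Lrot134 (Lpe (f184626 IH) (Lpr_et (f184625 IH) (Lpr_gt (f184620 IH) (Lpe (K1.f44046 IH) (Lpr_dt (K1.f44044 IH) (Lpe (K1.f44287 IH) (Lpr_df (K1.f41770 IH) (Lpr_et (K1.f41746 IH) (Lpr_gt (K1.f41756 IH) (Lpr_dt (f41785 IH) (Lpn (LP (LK LD1_c2 LD2_c58 LD3_c23)))))))))))))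
theorem f184635 : Led Lsl_dt (LP (LK LD1_c2 LD2_c30 LD3_c24)) = (LP (LK LD1_c1 LD2_c12 LD3_c12)) :=
  Lre_d IH (LK LD1_c2 LD2_c30 LD3_c24) (LK LD1_c1 LD2_c12 LD3_c12) Lrfl Lrfl
theorem f189567 : Led Lsl_cf (LP (LK LD1_c1 LD2_c13 LD3_c5)) = (LP (LK LD1_c1 LD2_c12 LD3_c12)) :=
  Lgr Lrot14 (Lpe (f189564 IH) (Lpr_gf (f189561 IH) (Lpe (f182211 IH) (Lpe (K9.f54529 IH) (Lpe (f183850 IH) (Lpr_gt (K1.f41756 IH) (Lpr_dt (f41785 IH) (Lpe (f184633 IH) (Lpr_dt (f184635 IH) (Lpn (LP (LK LD1_c1 LD2_c12 LD3_c12))))))))))))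
theorem f189580 : Led Lsl_et (LP (LK LD1_c0 LD2_c33 LD3_c24)) = (LP (LK LD1_c1 LD2_c12 LD3_c12)) :=
  Lre_e IH (LK LD1_c0 LD2_c33 LD3_c24) (LK LD1_c1 LD2_c12 LD3_c12) Lrfl Lrfl
theorem f189581 : Led Lsl_ct (LP (LK LD1_c0 LD2_c33 LD3_c53)) = (LP (LK LD1_c0 LD2_c33 LD3_c24)) :=
  Lgr Lrot15 (Lpe (f189558 IH) (Lpr_cf (f189567 IH) (Lpe (f189580 IH) (Lpn (LP (LK LD1_c0 LD2_c33 LD3_c24))))))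
theorem f43406 : Led Lsl_at (LP (LK LD1_c0 LD2_c32 LD3_c18)) = (LP (LK LD1_c0 LD2_c32 LD3_c16)) :=
  Lgr Lrot107 (Lpe (K9.f31462 IH) (Lpr_af (K9.f43401 IH) (Lpe (f43405 IH) (Lpn (LP (LK LD1_c0 LD2_c32 LD3_c16))))))
theorem f189549 : Led Lsl_gf (LP (LK LD1_c0 LD2_c33 LD3_c53)) = (LP (LK LD1_c1 LD2_c9 LD3_c48)) :=
  Lgr Lrot47 (Lpr_gt (f189543 IH) (Lpe (f43406 IH) (Lpe (K9.f43300 IH) (Lpn (LP (LK LD1_c1 LD2_c9 LD3_c48))))))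
theorem f28300 : Led Lsl_ct (LP (LK LD1_c0 LD2_c34 LD3_c51)) = (LP (LK LD1_c0 LD2_c15 LD3_c39)) :=
  Lre_c IH (LK LD1_c0 LD2_c34 LD3_c51) (LK LD1_c0 LD2_c15 LD3_c39) Lrfl Lrfl
theorem f186855 : Led Lsl_gf (LP (LK LD1_c1 LD2_c14 LD3_c15)) = (LP (LK LD1_c0 LD2_c56 LD3_c0)) :=
  Lgr Lrot47 (Lpr_gt (f186853 IH) (Lpr_af (K9.f46558 IH) (Lpe (K9.f45869 IH) (Lpn (LP (LK LD1_c0 LD2_c56 LD3_c0))))))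
theorem f186842 : Led Lsl_bt (LP (LK LD1_c0 LD2_c34 LD3_c27)) = (LP (LK LD1_c1 LD2_c14 LD3_c15)) :=
  Lre_b IH (LK LD1_c0 LD2_c34 LD3_c27) (LK LD1_c1 LD2_c14 LD3_c15) Lrfl Lrfl
theorem f47682 : Led Lsl_ct (LP (LK LD1_c0 LD2_c34 LD3_c27)) = (LP (LK LD1_c1 LD2_c14 LD3_c16)) :=
  Lre_c IH (LK LD1_c0 LD2_c34 LD3_c27) (LK LD1_c1 LD2_c14 LD3_c16) Lrfl Lrfl
theorem f47683 : Led Lsl_gt (LP (LK LD1_c1 LD2_c14 LD3_c16)) = (LP (LK LD1_c2 LD2_c34 LD3_c29)) :=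
  Lre_g IH (LK LD1_c1 LD2_c14 LD3_c16) (LK LD1_c2 LD2_c34 LD3_c29) Lrfl Lrfl
theorem f189588 : Led Lsl_ct (LP (LK LD1_c2 LD2_c4 LD3_c11)) = (LP (LK LD1_c2 LD2_c34 LD3_c29)) :=
  Lgr Lrot10 (Lpe (K9.f50846 IH) (Lpe (f189549 IH) (Lpr_ct (f189581 IH) (Lpr_gt (f184620 IH) (Lpe (f28300 IH) (Lpe (K1.f45862 IH) (Lpe (f186855 IH) (Lpe (f186842 IH) (Lpr_ct (f47682 IH) (Lpr_gt (f47683 IH) (Lpn (LP (LK LD1_c2 LD2_c34 LD3_c29)))))))))))))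
theorem f189596 : Led Lsl_ff (LP (LK LD1_c2 LD2_c4 LD3_c8)) = (LP (LK LD1_c2 LD2_c34 LD3_c29)) :=
  Lgr Lrot23 (Lpr_ct (K9.f49430 IH) (Lpr_ft (K9.f49542 IH) (Lpr_ct (f189588 IH) (Lpn (LP (LK LD1_c2 LD2_c34 LD3_c29))))))
theorem f27405 : Led Lsl_et (LP (LK LD1_c0 LD2_c59 LD3_c11)) = (LP (LK LD1_c0 LD2_c26 LD3_c59)) :=
  Lre_e IH (LK LD1_c0 LD2_c59 LD3_c11) (LK LD1_c0 LD2_c26 LD3_c59) Lrfl Lrfl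
theorem f45068 : Led Lsl_et (LP (LK LD1_c0 LD2_c59 LD3_c6)) = (LP (LK LD1_c2 LD2_c4 LD3_c8)) :=
  Lre_e IH (LK LD1_c0 LD2_c59 LD3_c6) (LK LD1_c2 LD2_c4 LD3_c8) Lrfl Lrfl
theorem f45073 : Led Lsl_af (LP (LK LD1_c0 LD2_c59 LD3_c11)) = (LP (LK LD1_c2 LD2_c4 LD3_c8)) :=
  Lgr Lrot50 (Lpr_et (f27405 IH) (Lpr_at (K1.f45064 IH) (Lpr_et (f45068 IH) (Lpn (LP (LK LD1_c2 LD2_c4 LD3_c8))))))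
theorem f189599 : Led Lsl_at (LP (LK LD1_c2 LD2_c4 LD3_c20)) = (LP (LK LD1_c2 LD2_c34 LD3_c29)) :=
  Lgr Lrot66 (Lpe (K9.f27404 IH) (Lpr_af (f45073 IH) (Lpr_ff (f189596 IH) (Lpn (LP (LK LD1_c2 LD2_c34 LD3_c29))))))
theorem f189720 : Led Lsl_gt (LP (LK LD1_c0 LD2_c59 LD3_c11)) = (LP (LK LD1_c1 LD2_c14 LD3_c16)) :=
  Lgr Lrot5 (Lpr_ft (K9.f27404 IH) (Lpr_at (f189599 IH) (Lpe (f47683 IH) (Lpn (LP (LK LD1_c1 LD2_c14 LD3_c16))))))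
theorem f28283 : Led Lsl_bt (LP (LK LD1_c0 LD2_c34 LD3_c58)) = (LP (LK LD1_c1 LD2_c15 LD3_c16)) :=
  Lre_b IH (LK LD1_c0 LD2_c34 LD3_c58) (LK LD1_c1 LD2_c15 LD3_c16) Lrfl Lrfl
theorem f189731 : Led Lsl_bf (LP (LK LD1_c2 LD2_c4 LD3_c13)) = (LP (LK LD1_c2 LD2_c25 LD3_c0)) :=
  Lgr Lrot165 (Lpr_gt (f49159 IH) (Lpe (K9.f50882 IH) (Lpr_gt (f189720 IH) (Lpe (f47682 IH) (Lpr_bt (f186842 IH) (Lpr_gt (f186853 IH) (Lpe (f28283 IH) (Lpe (K1.f28284 IH) (Lpe (K9.f184826 IH) (Lpe (f184868 IH) (Lpn (LP (LK LD1_c2 LD2_c25 LD3_c0)))))))))))))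
theorem f49165 : Led Lsl_et (LP (LK LD1_c2 LD2_c4 LD3_c13)) = (LP (LK LD1_c4 LD2_c13 LD3_c45)) :=
  Lre_e IH (LK LD1_c2 LD2_c4 LD3_c13) (LK LD1_c4 LD2_c13 LD3_c45) Lrfl Lrfl
theorem f43424 : Led Lsl_et (LP (LK LD1_c4 LD2_c54 LD3_c16)) = (LP (LK LD1_c2 LD2_c25 LD3_c0)) :=
  Lre_e IH (LK LD1_c4 LD2_c54 LD3_c16) (LK LD1_c2 LD2_c25 LD3_c0) Lrfl Lrfl
theorem f189778 : Led Lsl_bt (LP (LK LD1_c4 LD2_c13 LD3_c45)) = (LP (LK LD1_c4 LD2_c54 LD3_c16)) :=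
  Lgr Lrot119 (Lpe (f49165 IH) (Lpr_bf (f189731 IH) (Lpe (f43424 IH) (Lpn (LP (LK LD1_c4 LD2_c54 LD3_c16))))))
theorem f184870 : Led Lsl_et (LP (LK LD1_c2 LD2_c25 LD3_c0)) = (LP (LK LD1_c4 LD2_c54 LD3_c16)) :=
  Lre_e IH (LK LD1_c2 LD2_c25 LD3_c0) (LK LD1_c4 LD2_c54 LD3_c16) Lrfl Lrfl
theorem f184831 : Led Lsl_et (LP (LK LD1_c2 LD2_c35 LD3_c35)) = (LP (LK LD1_c1 LD2_c14 LD3_c50)) :=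
  Lre_e IH (LK LD1_c2 LD2_c35 LD3_c35) (LK LD1_c1 LD2_c14 LD3_c50) Lrfl Lrfl
theorem f184871 : Led Lsl_ct (LP (LK LD1_c4 LD2_c54 LD3_c16)) = (LP (LK LD1_c2 LD2_c35 LD3_c35)) :=
  Lgr Lrot15 (Lpe (f184870 IH) (Lpr_cf (f184864 IH) (Lpe (f184831 IH) (Lpn (LP (LK LD1_c2 LD2_c35 LD3_c35))))))
theorem f49097 : Led Lsl_bt (LP (LK LD1_c2 LD2_c35 LD3_c35)) = (LP (LK LD1_c1 LD2_c14 LD3_c52)) :=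
  Lre_b IH (LK LD1_c2 LD2_c35 LD3_c35) (LK LD1_c1 LD2_c14 LD3_c52) Lrfl Lrfl
theorem f189782 : Led Lsl_bf (LP (LK LD1_c2 LD2_c4 LD3_c59)) = (LP (LK LD1_c2 LD2_c1 LD3_c22)) :=
  Lgr Lrot90 (Lpe (f49191 IH) (Lpr_bt (f189778 IH) (Lpr_ct (f184871 IH) (Lpr_bt (f49097 IH) (Lpe (K9.f49080 IH) (Lpn (LP (LK LD1_c2 LD2_c1 LD3_c22))))))))
theorem f189786 : Led Lsl_bt (LP (LK LD1_c2 LD2_c35 LD3_c31)) = (LP (LK LD1_c2 LD2_c34 LD3_c32)) :=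
  Lgr Lrot95 (Lpe (f48193 IH) (Lpr_bf (f189782 IH) (Lpr_df (K9.f47749 IH) (Lpn (LP (LK LD1_c2 LD2_c34 LD3_c32))))))
theorem f48230 : Led Lsl_et (LP (LK LD1_c5 LD2_c17 LD3_c30)) = (LP (LK LD1_c2 LD2_c35 LD3_c31)) :=
  Lre_e IH (LK LD1_c5 LD2_c17 LD3_c30) (LK LD1_c2 LD2_c35 LD3_c31) Lrfl Lrfl
theorem f47754 : Led Lsl_et (LP (LK LD1_c2 LD2_c34 LD3_c32)) = (LP (LK LD1_c5 LD2_c15 LD3_c22)) :=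
  Lre_e IH (LK LD1_c2 LD2_c34 LD3_c32) (LK LD1_c5 LD2_c15 LD3_c22) Lrfl Lrfl
theorem f189797 : Led Lsl_bf (LP (LK LD1_c5 LD2_c17 LD3_c30)) = (LP (LK LD1_c5 LD2_c15 LD3_c22)) :=
  Lgr Lrot96 (Lpr_et (f48230 IH) (Lpr_bt (f189786 IH) (Lpr_et (f47754 IH) (Lpn (LP (LK LD1_c5 LD2_c15 LD3_c22))))))
theorem f45148 : Led Lsl_dt (LP (LK LD1_c2 LD2_c4 LD3_c58)) = (LP (LK LD1_c0 LD2_c59 LD3_c33)) :=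
  Lre_d IH (LK LD1_c2 LD2_c4 LD3_c58) (LK LD1_c0 LD2_c59 LD3_c33) Lrfl Lrfl
theorem f48200 : Led Lsl_et (LP (LK LD1_c4 LD2_c15 LD3_c8)) = (LP (LK LD1_c2 LD2_c4 LD3_c58)) :=
  Lre_e IH (LK LD1_c4 LD2_c15 LD3_c8) (LK LD1_c2 LD2_c4 LD3_c58) Lrfl Lrfl
theorem f48201 : Led Lsl_et (LP (LK LD1_c2 LD2_c35 LD3_c31)) = (LP (LK LD1_c5 LD2_c17 LD3_c30)) :=
  Lre_e IH (LK LD1_c2 LD2_c35 LD3_c31) (LK LD1_c5 LD2_c17 LD3_c30) Lrfl Lrfl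
theorem f48202 : Led Lsl_df (LP (LK LD1_c4 LD2_c15 LD3_c8)) = (LP (LK LD1_c5 LD2_c17 LD3_c30)) :=
  Lgr Lrot70 (Lpr_et (f48200 IH) (Lpr_dt (f45148 IH) (Lpr_et (f48199 IH) (Lpr_dt (f48193 IH) (Lpr_et (f48201 IH) (Lpn (LP (LK LD1_c5 LD2_c17 LD3_c30))))))))
theorem f47751 : Led Lsl_et (LP (LK LD1_c0 LD2_c57 LD3_c44)) = (LP (LK LD1_c2 LD2_c1 LD3_c22)) :=
  Lre_e IH (LK LD1_c0 LD2_c57 LD3_c44) (LK LD1_c2 LD2_c1 LD3_c22) Lrfl Lrfl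
theorem f47752 : Led Lsl_dt (LP (LK LD1_c2 LD2_c1 LD3_c21)) = (LP (LK LD1_c0 LD2_c57 LD3_c44)) :=
  Lre_d IH (LK LD1_c2 LD2_c1 LD3_c21) (LK LD1_c0 LD2_c57 LD3_c44) Lrfl Lrfl
theorem f47753 : Led Lsl_et (LP (LK LD1_c4 LD2_c7 LD3_c59)) = (LP (LK LD1_c2 LD2_c1 LD3_c21)) :=
  Lre_e IH (LK LD1_c4 LD2_c7 LD3_c59) (LK LD1_c2 LD2_c1 LD3_c21) Lrfl Lrfl
theorem f47755 : Led Lsl_df (LP (LK LD1_c4 LD2_c7 LD3_c59)) = (LP (LK LD1_c5 LD2_c15 LD3_c22)) :=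
  Lgr Lrot70 (Lpr_et (f47753 IH) (Lpr_dt (f47752 IH) (Lpr_et (f47751 IH) (Lpr_dt (K9.f47746 IH) (Lpr_et (f47754 IH) (Lpn (LP (LK LD1_c5 LD2_c15 LD3_c22))))))))
theorem f47764 : Led Lsl_dt (LP (LK LD1_c4 LD2_c7 LD3_c59)) = (LP (LK LD1_c5 LD2_c15 LD3_c22)) :=
  Lgr Lrot42 (Lpr_df (f47755 IH) (Lpn (LP (LK LD1_c5 LD2_c15 LD3_c22))))
theorem f189801 : Led Lsl_bt (LP (LK LD1_c4 LD2_c15 LD3_c8)) = (LP (LK LD1_c4 LD2_c7 LD3_c59)) :=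
  Lgr Lrot95 (Lpr_df (f48202 IH) (Lpr_bf (f189797 IH) (Lpe (f47764 IH) (Lpn (LP (LK LD1_c4 LD2_c7 LD3_c59))))))
theorem f45149 : Led Lsl_et (LP (LK LD1_c2 LD2_c4 LD3_c58)) = (LP (LK LD1_c4 LD2_c15 LD3_c8)) :=
  Lre_e IH (LK LD1_c2 LD2_c4 LD3_c58) (LK LD1_c4 LD2_c15 LD3_c8) Lrfl Lrfl
theorem f189814 : Led Lsl_bf (LP (LK LD1_c2 LD2_c4 LD3_c58)) = (LP (LK LD1_c2 LD2_c1 LD3_c21)) :=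
  Lgr Lrot96 (Lpr_et (f45149 IH) (Lpr_bt (f189801 IH) (Lpr_et (f47753 IH) (Lpn (LP (LK LD1_c2 LD2_c1 LD3_c21))))))
theorem f189816 : Led Lsl_bt (LP (LK LD1_c2 LD2_c4 LD3_c58)) = (LP (LK LD1_c2 LD2_c1 LD3_c21)) :=
  Lgr Lrot127 (Lpr_bf (f189814 IH) (Lpn (LP (LK LD1_c2 LD2_c1 LD3_c21))))
theorem f45142 : Led Lsl_dt (LP (LK LD1_c0 LD2_c59 LD3_c33)) = (LP (LK LD1_c2 LD2_c4 LD3_c58)) :=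
  Lre_d IH (LK LD1_c0 LD2_c59 LD3_c33) (LK LD1_c2 LD2_c4 LD3_c58) Lrfl Lrfl
theorem f189855 : Led Lsl_bf (LP (LK LD1_c0 LD2_c59 LD3_c33)) = (LP (LK LD1_c0 LD2_c57 LD3_c44)) :=
  Lgr Lrot93 (Lpr_dt (f45142 IH) (Lpr_bt (f189816 IH) (Lpr_dt (f47752 IH) (Lpn (LP (LK LD1_c0 LD2_c57 LD3_c44))))))
theorem f45137 : Led Lsl_gt (LP (LK LD1_c0 LD2_c59 LD3_c30)) = (LP (LK LD1_c0 LD2_c59 LD3_c33)) :=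
  Lgr Lrot5 (Lpr_ft (K1.f45134 IH) (Lpr_at (K1.f45126 IH) (Lpe (f45107 IH) (Lpn (LP (LK LD1_c0 LD2_c59 LD3_c33))))))
theorem f45378 : Led Lsl_bt (LP (LK LD1_c1 LD2_c1 LD3_c3)) = (LP (LK LD1_c0 LD2_c59 LD3_c30)) :=
  Lgr Lrot128 (Lpe (K0.f31535 IH) (Lpe (K0.f31541 IH) (Lpr_cf (K1.f32290 IH) (Lpe (K1.f32274 IH) (Lpr_cf (K1.f45356 IH) (Lpn (LP (LK LD1_c0 LD2_c59 LD3_c30))))))))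
theorem f28650 : Led Lsl_ft (LP (LK LD1_c0 LD2_c24 LD3_c57)) = (LP (LK LD1_c0 LD2_c55 LD3_c6)) :=
  Lre_f IH (LK LD1_c0 LD2_c24 LD3_c57) (LK LD1_c0 LD2_c55 LD3_c6) Lrfl Lrfl
theorem f28710 : Led Lsl_gt (LP (LK LD1_c0 LD2_c24 LD3_c57)) = (LP (LK LD1_c0 LD2_c55 LD3_c4)) :=
  Lre_g IH (LK LD1_c0 LD2_c24 LD3_c57) (LK LD1_c0 LD2_c55 LD3_c4) Lrfl Lrfl
theorem f31595 : Led Lsl_gf (LP (LK LD1_c0 LD2_c32 LD3_c3)) = (LP (LK LD1_c0 LD2_c55 LD3_c4)) :=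
  Lgr Lrot76 (Lpr_af (K0.f31539 IH) (Lpe (f28650 IH) (Lpr_gt (f28710 IH) (Lpn (LP (LK LD1_c0 LD2_c55 LD3_c4))))))
theorem f32028 : Led Lsl_gt (LP (LK LD1_c0 LD2_c27 LD3_c42)) = (LP (LK LD1_c1 LD2_c0 LD3_c46)) :=
  Lre_g IH (LK LD1_c0 LD2_c27 LD3_c42) (LK LD1_c1 LD2_c0 LD3_c46) Lrfl Lrfl
theorem f189860 : Led Lsl_cf (LP (LK LD1_c0 LD2_c55 LD3_c4)) = (LP (LK LD1_c1 LD2_c0 LD3_c46)) :=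
  Lgr Lrot125 (Lpe (f31595 IH) (Lpr_cf (K0.f31542 IH) (Lpr_bt (f45378 IH) (Lpr_gt (f45137 IH) (Lpr_bf (f189855 IH) (Lpr_ct (K9.f49099 IH) (Lpr_gt (K9.f48187 IH) (Lpe (K0.f32062 IH) (Lpr_bt (f32075 IH) (Lpr_gt (f32028 IH) (Lpn (LP (LK LD1_c1 LD2_c0 LD3_c46)))))))))))))
theorem f49195 : Led Lsl_cf (LP (LK LD1_c2 LD2_c4 LD3_c13)) = (LP (LK LD1_c0 LD2_c59 LD3_c33)) :=
  Lgr Lrot11 (Lpr_ct (f49193 IH) (Lpn (LP (LK LD1_c0 LD2_c59 LD3_c33))))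
theorem f27403 : Led Lsl_et (LP (LK LD1_c0 LD2_c26 LD3_c59)) = (LP (LK LD1_c0 LD2_c59 LD3_c11)) :=
  Lre_e IH (LK LD1_c0 LD2_c26 LD3_c59) (LK LD1_c0 LD2_c59 LD3_c11) Lrfl Lrfl
theorem f45710 : Led Lsl_cf (LP (LK LD1_c0 LD2_c59 LD3_c9)) = (LP (LK LD1_c0 LD2_c59 LD3_c11)) :=
  Lgr Lrot39 (Lpr_et (K8.f45708 IH) (Lpr_ct (K1.f45706 IH) (Lpr_et (f27403 IH) (Lpn (LP (LK LD1_c0 LD2_c59 LD3_c11))))))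
theorem f27596 : Led Lsl_gt (LP (LK LD1_c0 LD2_c26 LD3_c61)) = (LP (LK LD1_c0 LD2_c59 LD3_c16)) :=
  Lre_g IH (LK LD1_c0 LD2_c26 LD3_c61) (LK LD1_c0 LD2_c59 LD3_c16) Lrfl Lrfl
theorem f189873 : Led Lsl_bf (LP (LK LD1_c0 LD2_c59 LD3_c16)) = (LP (LK LD1_c1 LD2_c0 LD3_c46)) :=
  Lgr Lrot34 (Lpe (f27596 IH) (Lpe (K9.f43277 IH) (Lpe (f45710 IH) (Lpe (f49159 IH) (Lpr_cf (f49195 IH) (Lpe (f45137 IH) (Lpe (f45378 IH) (Lpe (K0.f31542 IH) (Lpr_gf (f31595 IH) (Lpr_cf (f189860 IH) (Lpn (LP (LK LD1_c1 LD2_c0 LD3_c46)))))))))))))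
theorem f189875 : Led Lsl_bt (LP (LK LD1_c0 LD2_c59 LD3_c16)) = (LP (LK LD1_c1 LD2_c0 LD3_c46)) :=
  Lgr Lrot127 (Lpr_bf (f189873 IH) (Lpn (LP (LK LD1_c1 LD2_c0 LD3_c46))))
theorem f28029 : Led Lsl_dt (LP (LK LD1_c1 LD2_c58 LD3_c37)) = (LP (LK LD1_c0 LD2_c56 LD3_c9)) :=
  Lre_d IH (LK LD1_c1 LD2_c58 LD3_c37) (LK LD1_c0 LD2_c56 LD3_c9) Lrfl Lrfl
theorem f50376 : Led Lsl_bt (LP (LK LD1_c0 LD2_c56 LD3_c9)) = (LP (LK LD1_c0 LD2_c57 LD3_c41)) :=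
  Lgr Lrot95 (Lpe (f28029 IH) (Lpr_bf (K9.f50369 IH) (Lpe (K9.f49562 IH) (Lpn (LP (LK LD1_c0 LD2_c57 LD3_c41))))))
theorem f50779 : Led Lsl_dt (LP (LK LD1_c8 LD2_c7 LD3_c12)) = (LP (LK LD1_c4 LD2_c3 LD3_c17)) :=
  Lre_d IH (LK LD1_c8 LD2_c7 LD3_c12) (LK LD1_c4 LD2_c3 LD3_c17) Lrfl Lrfl
theorem f27591 : Led Lsl_dt (LP (LK LD1_c4 LD2_c50 LD3_c45)) = (LP (LK LD1_c9 LD2_c33 LD3_c42)) :=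
  Lre_d IH (LK LD1_c4 LD2_c50 LD3_c45) (LK LD1_c9 LD2_c33 LD3_c42) Lrfl Lrfl
theorem f27590 : Led Lsl_ct (LP (LK LD1_c2 LD2_c23 LD3_c10)) = (LP (LK LD1_c4 LD2_c50 LD3_c45)) :=
  Lre_c IH (LK LD1_c2 LD2_c23 LD3_c10) (LK LD1_c4 LD2_c50 LD3_c45) Lrfl Lrfl
theorem f50979 : Led Lsl_ct (LP (LK LD1_c0 LD2_c56 LD3_c9)) = (LP (LK LD1_c1 LD2_c8 LD3_c42)) :=
  Lgr Lrot176 (Lpe (f28029 IH) (Lpe (f50337 IH) (Lpe (f50779 IH) (Lpr_cf (f50974 IH) (Lpe (f27600 IH) (Lpe (f27599 IH) (Lpe (f8099 IH) (Lpe (f27918 IH) (Lpe (f30998 IH) (Lpe (f31012 IH) (Lpe (f31023 IH) (Lpe (f50929 IH) (Lpe (f27591 IH) (Lpe (f27590 IH) (Lpe (K0.f27561 IH) (Lpn (LP (LK LD1_c1 LD2_c8 LD3_c42))))))))))))))))))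
theorem f27597 : Led Lsl_gf (LP (LK LD1_c1 LD2_c8 LD3_c42)) = (LP (LK LD1_c0 LD2_c59 LD3_c16)) :=
  Lgr Lrot76 (Lpr_af (K0.f27588 IH) (Lpe (K0.f27534 IH) (Lpr_gt (f27596 IH) (Lpn (LP (LK LD1_c0 LD2_c59 LD3_c16))))))
theorem f189968 : Led Lsl_ct (LP (LK LD1_c0 LD2_c59 LD3_c16)) = (LP (LK LD1_c0 LD2_c59 LD3_c16)) :=
  Lgr Lrot64 (Lpr_bt (f189875 IH) (Lpe (f32028 IH) (Lpe (f32075 IH) (Lpr_ct (K0.f32062 IH) (Lpe (K9.f48187 IH) (Lpe (K9.f49099 IH) (Lpe (K9.f49602 IH) (Lpe (f50376 IH) (Lpr_ct (f50979 IH) (Lpr_gf (f27597 IH) (Lpn (LP (LK LD1_c0 LD2_c59 LD3_c16)))))))))))))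
theorem f8100 : Led Lsl_gt (LP (LK LD1_c0 LD2_c59 LD3_c17)) = (LP (LK LD1_c2 LD2_c4 LD3_c33)) :=
  Lre_g IH (LK LD1_c0 LD2_c59 LD3_c17) (LK LD1_c2 LD2_c4 LD3_c33) Lrfl Lrfl
theorem f50896 : Led Lsl_ct (LP (LK LD1_c2 LD2_c4 LD3_c33)) = (LP (LK LD1_c4 LD2_c14 LD3_c21)) :=
  Lre_c IH (LK LD1_c2 LD2_c4 LD3_c33) (LK LD1_c4 LD2_c14 LD3_c21) Lrfl Lrfl
theorem f27563 : Led Lsl_dt (LP (LK LD1_c2 LD2_c23 LD3_c10)) = (LP (LK LD1_c1 LD2_c8 LD3_c42)) :=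
  Lre_d IH (LK LD1_c2 LD2_c23 LD3_c10) (LK LD1_c1 LD2_c8 LD3_c42) Lrfl Lrfl
theorem f27647 : Led Lsl_ct (LP (LK LD1_c2 LD2_c4 LD3_c34)) = (LP (LK LD1_c0 LD2_c59 LD3_c17)) :=
  Lre_c IH (LK LD1_c2 LD2_c4 LD3_c34) (LK LD1_c0 LD2_c59 LD3_c17) Lrfl Lrfl
theorem f50908 : Led Lsl_dt (LP (LK LD1_c4 LD2_c14 LD3_c24)) = (LP (LK LD1_c2 LD2_c4 LD3_c34)) :=
  Lre_d IH (LK LD1_c4 LD2_c14 LD3_c24) (LK LD1_c2 LD2_c4 LD3_c34) Lrfl Lrfl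
theorem f28031 : Led Lsl_dt (LP (LK LD1_c0 LD2_c56 LD3_c9)) = (LP (LK LD1_c1 LD2_c58 LD3_c37)) :=
  Lre_d IH (LK LD1_c0 LD2_c56 LD3_c9) (LK LD1_c1 LD2_c58 LD3_c37) Lrfl Lrfl
theorem f50912 : Led Lsl_dt (LP (LK LD1_c4 LD2_c3 LD3_c17)) = (LP (LK LD1_c8 LD2_c7 LD3_c12)) :=
  Lre_d IH (LK LD1_c4 LD2_c3 LD3_c17) (LK LD1_c8 LD2_c7 LD3_c12) Lrfl Lrfl
theorem f50913 : Led Lsl_cf (LP (LK LD1_c4 LD2_c14 LD3_c24)) = (LP (LK LD1_c8 LD2_c7 LD3_c12)) :=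
  Lgr Lrot116 (Lpr_dt (f50908 IH) (Lpr_ct (f27647 IH) (Lpr_dt (f50907 IH) (Lpr_ct (K9.f50885 IH) (Lpe (f30997 IH) (Lpe (f28054 IH) (Lpr_dt (f28031 IH) (Lpr_ct (f50374 IH) (Lpr_dt (f50912 IH) (Lpn (LP (LK LD1_c8 LD2_c7 LD3_c12))))))))))))
theorem f50931 : Led Lsl_ct (LP (LK LD1_c1 LD2_c8 LD3_c42)) = (LP (LK LD1_c0 LD2_c56 LD3_c9)) :=
  Lgr Lrot176 (Lpe (f27563 IH) (Lpe (K0.f27603 IH) (Lpe (f27601 IH) (Lpr_cf (f50916 IH) (Lpe (f50909 IH) (Lpe (f30937 IH) (Lpe (f28796 IH) (Lpe (K9.f50885 IH) (Lpe (f50907 IH) (Lpe (f27647 IH) (Lpe (f50908 IH) (Lpr_cf (f50913 IH) (Lpe (f50912 IH) (Lpe (f50374 IH) (Lpe (f28031 IH) (Lpn (LP (LK LD1_c0 LD2_c56 LD3_c9))))))))))))))))))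
theorem f189976 : Led Lsl_gt (LP (LK LD1_c4 LD2_c14 LD3_c21)) = (LP (LK LD1_c4 LD2_c3 LD3_c17)) :=
  Lgr Lrot150 (Lpe (f50896 IH) (Lpe (f8100 IH) (Lpe (f8099 IH) (Lpr_gt (f27596 IH) (Lpr_ct (f189968 IH) (Lpe (f27597 IH) (Lpr_ct (f50931 IH) (Lpe (f28029 IH) (Lpe (f50337 IH) (Lpn (LP (LK LD1_c4 LD2_c3 LD3_c17))))))))))))
theorem f43263 : Led Lsl_bt (LP (LK LD1_c2 LD2_c4 LD3_c19)) = (LP (LK LD1_c0 LD2_c59 LD3_c17)) :=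
  Lre_b IH (LK LD1_c2 LD2_c4 LD3_c19) (LK LD1_c0 LD2_c59 LD3_c17) Lrfl Lrfl
theorem f49885 : Led Lsl_ct (LP (LK LD1_c2 LD2_c4 LD3_c19)) = (LP (LK LD1_c4 LD2_c13 LD3_c56)) :=
  Lre_c IH (LK LD1_c2 LD2_c4 LD3_c19) (LK LD1_c4 LD2_c13 LD3_c56) Lrfl Lrfl
theorem f45728 : Led Lsl_dt (LP (LK LD1_c0 LD2_c59 LD3_c11)) = (LP (LK LD1_c2 LD2_c4 LD3_c19)) :=
  Lre_d IH (LK LD1_c0 LD2_c59 LD3_c11) (LK LD1_c2 LD2_c4 LD3_c19) Lrfl Lrfl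
theorem f49441 : Led Lsl_ct (LP (LK LD1_c4 LD2_c13 LD3_c56)) = (LP (LK LD1_c2 LD2_c4 LD3_c19)) :=
  Lre_c IH (LK LD1_c4 LD2_c13 LD3_c56) (LK LD1_c2 LD2_c4 LD3_c19) Lrfl Lrfl
theorem f45360 : Led Lsl_ft (LP (LK LD1_c2 LD2_c4 LD3_c54)) = (LP (LK LD1_c0 LD2_c59 LD3_c29)) :=
  Lre_f IH (LK LD1_c2 LD2_c4 LD3_c54) (LK LD1_c0 LD2_c59 LD3_c29) Lrfl Lrfl
theorem f45308 : Led Lsl_dt (LP (LK LD1_c4 LD2_c15 LD3_c16)) = (LP (LK LD1_c2 LD2_c4 LD3_c61)) :=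
  Lre_d IH (LK LD1_c4 LD2_c15 LD3_c16) (LK LD1_c2 LD2_c4 LD3_c61) Lrfl Lrfl
theorem f45256 : Led Lsl_ct (LP (LK LD1_c2 LD2_c4 LD3_c61)) = (LP (LK LD1_c0 LD2_c59 LD3_c34)) :=
  Lre_c IH (LK LD1_c2 LD2_c4 LD3_c61) (LK LD1_c0 LD2_c59 LD3_c34) Lrfl Lrfl
theorem f45361 : Led Lsl_at (LP (LK LD1_c0 LD2_c59 LD3_c29)) = (LP (LK LD1_c0 LD2_c59 LD3_c34)) :=
  Lgr Lrot33 (Lpe (f45360 IH) (Lpr_dt (K1.f45143 IH) (Lpe (K1.f45356 IH) (Lpr_dt (K1.f32374 IH) (Lpr_ct (K1.f32892 IH) (Lpr_dt (K1.f45349 IH) (Lpr_ct (K1.f45342 IH) (Lpr_dt (f45308 IH) (Lpr_ct (f45256 IH) (Lpn (LP (LK LD1_c0 LD2_c59 LD3_c34))))))))))))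
theorem f753 : Led Lsl_gt (LP (LK LD1_c2 LD2_c4 LD3_c60)) = (LP (LK LD1_c0 LD2_c59 LD3_c34)) :=
  Lre_g IH (LK LD1_c2 LD2_c4 LD3_c60) (LK LD1_c0 LD2_c59 LD3_c34) Lrfl Lrfl
theorem f45369 : Led Lsl_gt (LP (LK LD1_c2 LD2_c4 LD3_c54)) = (LP (LK LD1_c2 LD2_c4 LD3_c60)) :=
  Lgr Lrot5 (Lpr_ft (f45360 IH) (Lpr_at (f45361 IH) (Lpe (f753 IH) (Lpn (LP (LK LD1_c2 LD2_c4 LD3_c60))))))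
theorem f45371 : Led Lsl_ct (LP (LK LD1_c2 LD2_c4 LD3_c60)) = (LP (LK LD1_c4 LD2_c15 LD3_c11)) :=
  Lre_c IH (LK LD1_c2 LD2_c4 LD3_c60) (LK LD1_c4 LD2_c15 LD3_c11) Lrfl Lrfl
theorem f50890 : Led Lsl_gf (LP (LK LD1_c4 LD2_c13 LD3_c56)) = (LP (LK LD1_c4 LD2_c15 LD3_c11)) :=
  Lgr Lrot104 (Lpr_ct (f49441 IH) (Lpe (f45728 IH) (Lpr_cf (K9.f50882 IH) (Lpe (f49159 IH) (Lpr_cf (f49195 IH) (Lpe (f45137 IH) (Lpe (K1.f45143 IH) (Lpr_gt (f45369 IH) (Lpr_ct (f45371 IH) (Lpn (LP (LK LD1_c4 LD2_c15 LD3_c11))))))))))))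
theorem f189984 : Led Lsl_bt (LP (LK LD1_c2 LD2_c4 LD3_c60)) = (LP (LK LD1_c2 LD2_c1 LD3_c23)) :=
  Lgr Lrot92 (Lpr_ct (f45371 IH) (Lpe (f50890 IH) (Lpe (f49885 IH) (Lpr_bt (f43263 IH) (Lpr_gt (f8100 IH) (Lpr_ct (f50896 IH) (Lpr_gt (f189976 IH) (Lpe (f50374 IH) (Lpr_bt (f50339 IH) (Lpr_gt (f50772 IH) (Lpn (LP (LK LD1_c2 LD2_c1 LD3_c23)))))))))))))
theorem f190048 : Led Lsl_bf (LP (LK LD1_c2 LD2_c4 LD3_c60)) = (LP (LK LD1_c2 LD2_c1 LD3_c23)) :=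
  Lgr Lrot24 (Lpr_bt (f189984 IH) (Lpn (LP (LK LD1_c2 LD2_c1 LD3_c23))))
theorem f54370 : Led Lsl_bt (LP (LK LD1_c2 LD2_c4 LD3_c56)) = (LP (LK LD1_c0 LD2_c59 LD3_c34)) :=
  Lre_b IH (LK LD1_c2 LD2_c4 LD3_c56) (LK LD1_c0 LD2_c59 LD3_c34) Lrfl Lrfl
theorem f54375 : Led Lsl_ct (LP (LK LD1_c2 LD2_c4 LD3_c56)) = (LP (LK LD1_c4 LD2_c15 LD3_c5)) :=
  Lre_c IH (LK LD1_c2 LD2_c4 LD3_c56) (LK LD1_c4 LD2_c15 LD3_c5) Lrfl Lrfl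
theorem f31204 : Led Lsl_bt (LP (LK LD1_c4 LD2_c20 LD3_c54)) = (LP (LK LD1_c2 LD2_c7 LD3_c61)) :=
  Lre_b IH (LK LD1_c4 LD2_c20 LD3_c54) (LK LD1_c2 LD2_c7 LD3_c61) Lrfl Lrfl
theorem f28694 : Led Lsl_ct (LP (LK LD1_c4 LD2_c20 LD3_c54)) = (LP (LK LD1_c8 LD2_c39 LD3_c28)) :=
  Lre_c IH (LK LD1_c4 LD2_c20 LD3_c54) (LK LD1_c8 LD2_c39 LD3_c28) Lrfl Lrfl
theorem f54526 : Led Lsl_dt (LP (LK LD1_c2 LD2_c0 LD3_c27)) = (LP (LK LD1_c0 LD2_c57 LD3_c13)) :=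
  Lre_d IH (LK LD1_c2 LD2_c0 LD3_c27) (LK LD1_c0 LD2_c57 LD3_c13) Lrfl Lrfl
theorem f55017 : Led Lsl_bt (LP (LK LD1_c1 LD2_c59 LD3_c42)) = (LP (LK LD1_c2 LD2_c0 LD3_c27)) :=
  Lgr Lrot95 (Lpe (f47194 IH) (Lpr_bf (K1.f47834 IH) (Lpe (f54526 IH) (Lpn (LP (LK LD1_c2 LD2_c0 LD3_c27))))))
theorem f55007 : Led Lsl_gt (LP (LK LD1_c2 LD2_c0 LD3_c27)) = (LP (LK LD1_c4 LD2_c6 LD3_c14)) :=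
  Lre_g IH (LK LD1_c2 LD2_c0 LD3_c27) (LK LD1_c4 LD2_c6 LD3_c14) Lrfl Lrfl
theorem f182537 : Led Lsl_ct (LP (LK LD1_c4 LD2_c6 LD3_c14)) = (LP (LK LD1_c8 LD2_c13 LD3_c4)) :=
  Lre_c IH (LK LD1_c4 LD2_c6 LD3_c14) (LK LD1_c8 LD2_c13 LD3_c4) Lrfl Lrfl
theorem f187977 : Led Lsl_gf (LP (LK LD1_c8 LD2_c39 LD3_c28)) = (LP (LK LD1_c8 LD2_c13 LD3_c4)) :=
  Lgr Lrot129 (Lpe (f28694 IH) (Lpr_bt (f31204 IH) (Lpe (f31421 IH) (Lpr_bf (f187972 IH) (Lpe (f187975 IH) (Lpr_gt (f47409 IH) (Lpe (K1.f47195 IH) (Lpr_bt (f55017 IH) (Lpr_gt (f55007 IH) (Lpr_ct (f182537 IH) (Lpn (LP (LK LD1_c8 LD2_c13 LD3_c4)))))))))))))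
theorem f54273 : Led Lsl_at (LP (LK LD1_c2 LD2_c7 LD3_c57)) = (LP (LK LD1_c2 LD2_c4 LD3_c57)) :=
  Lgr Lrot66 (Lpe (K0.f28669 IH) (Lpr_af (K9.f54072 IH) (Lpe (f45616 IH) (Lpn (LP (LK LD1_c2 LD2_c4 LD3_c57))))))
theorem f54279 : Led Lsl_af (LP (LK LD1_c4 LD2_c20 LD3_c54)) = (LP (LK LD1_c4 LD2_c15 LD3_c6)) :=
  Lgr Lrot117 (Lpr_dt (f28684 IH) (Lpr_at (f54273 IH) (Lpr_dt (K9.f45610 IH) (Lpn (LP (LK LD1_c4 LD2_c15 LD3_c6))))))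
theorem f54281 : Led Lsl_at (LP (LK LD1_c4 LD2_c20 LD3_c54)) = (LP (LK LD1_c4 LD2_c15 LD3_c6)) :=
  Lgr Lrot100 (Lpr_af (f54279 IH) (Lpn (LP (LK LD1_c4 LD2_c15 LD3_c6))))
theorem f28685 : Led Lsl_ct (LP (LK LD1_c8 LD2_c39 LD3_c28)) = (LP (LK LD1_c4 LD2_c20 LD3_c54)) :=
  Lre_c IH (LK LD1_c8 LD2_c39 LD3_c28) (LK LD1_c4 LD2_c20 LD3_c54) Lrfl Lrfl
theorem f183504 : Led Lsl_at (LP (LK LD1_c8 LD2_c13 LD3_c37)) = (LP (LK LD1_c8 LD2_c39 LD3_c28)) :=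
  Lgr Lrot107 (Lpr_cf (K9.f183502 IH) (Lpe (f54281 IH) (Lpe (f28685 IH) (Lpn (LP (LK LD1_c8 LD2_c39 LD3_c28))))))
theorem f54287 : Led Lsl_ft (LP (LK LD1_c2 LD2_c4 LD3_c56)) = (LP (LK LD1_c4 LD2_c15 LD3_c6)) :=
  Lre_f IH (LK LD1_c2 LD2_c4 LD3_c56) (LK LD1_c4 LD2_c15 LD3_c6) Lrfl Lrfl
theorem f54077 : Led Lsl_ct (LP (LK LD1_c4 LD2_c15 LD3_c5)) = (LP (LK LD1_c2 LD2_c4 LD3_c56)) :=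
  Lre_c IH (LK LD1_c4 LD2_c15 LD3_c5) (LK LD1_c2 LD2_c4 LD3_c56) Lrfl Lrfl
theorem f183514 : Led Lsl_ft (LP (LK LD1_c8 LD2_c13 LD3_c37)) = (LP (LK LD1_c4 LD2_c15 LD3_c5)) :=
  Lgr Lrot4 (Lpr_cf (K9.f183502 IH) (Lpe (f54287 IH) (Lpe (f54077 IH) (Lpn (LP (LK LD1_c4 LD2_c15 LD3_c5))))))
theorem f183522 : Led Lsl_ff (LP (LK LD1_c8 LD2_c13 LD3_c37)) = (LP (LK LD1_c4 LD2_c15 LD3_c5)) :=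
  Lgr Lrot3 (Lpr_ft (f183514 IH) (Lpn (LP (LK LD1_c4 LD2_c15 LD3_c5))))
theorem f187979 : Led Lsl_gt (LP (LK LD1_c4 LD2_c15 LD3_c5)) = (LP (LK LD1_c8 LD2_c13 LD3_c4)) :=
  Lgr Lrot5 (Lpe (f183522 IH) (Lpr_at (f183504 IH) (Lpr_gf (f187977 IH) (Lpn (LP (LK LD1_c8 LD2_c13 LD3_c4))))))
theorem f32899 : Led Lsl_gt (LP (LK LD1_c2 LD2_c35 LD3_c27)) = (LP (LK LD1_c5 LD2_c17 LD3_c0)) :=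
  Lre_g IH (LK LD1_c2 LD2_c35 LD3_c27) (LK LD1_c5 LD2_c17 LD3_c0) Lrfl Lrfl
theorem f190088 : Led Lsl_bt (LP (LK LD1_c4 LD2_c6 LD3_c14)) = (LP (LK LD1_c2 LD2_c35 LD3_c27)) :=
  Lgr Lrot130 (Lpr_ct (f182537 IH) (Lpe (f187979 IH) (Lpe (f54375 IH) (Lpr_bt (f54370 IH) (Lpe (f753 IH) (Lpr_bf (f190048 IH) (Lpr_ct (f50774 IH) (Lpe (f187734 IH) (Lpr_cf (f187495 IH) (Lpe (f32899 IH) (Lpn (LP (LK LD1_c2 LD2_c35 LD3_c27)))))))))))))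
theorem f182155 : Led Lsl_bt (LP (LK LD1_c1 LD2_c16 LD3_c0)) = (LP (LK LD1_c2 LD2_c37 LD3_c44)) :=
  Lre_b IH (LK LD1_c1 LD2_c16 LD3_c0) (LK LD1_c2 LD2_c37 LD3_c44) Lrfl Lrfl
theorem f42498 : Led Lsl_ct (LP (LK LD1_c1 LD2_c16 LD3_c0)) = (LP (LK LD1_c2 LD2_c38 LD3_c8)) :=
  Lre_c IH (LK LD1_c1 LD2_c16 LD3_c0) (LK LD1_c2 LD2_c38 LD3_c8) Lrfl Lrfl
theorem f42506 : Led Lsl_gt (LP (LK LD1_c5 LD2_c23 LD3_c20)) = (LP (LK LD1_c2 LD2_c38 LD3_c8)) :=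
  Lre_g IH (LK LD1_c5 LD2_c23 LD3_c20) (LK LD1_c2 LD2_c38 LD3_c8) Lrfl Lrfl
theorem f190097 : Led Lsl_cf (LP (LK LD1_c5 LD2_c23 LD3_c20)) = (LP (LK LD1_c8 LD2_c13 LD3_c13)) :=
  Lgr Lrot160 (Lpr_gt (f42506 IH) (Lpe (f42498 IH) (Lpr_bt (f182155 IH) (Lpr_gt (K9.f182153 IH) (Lpr_ct (f54375 IH) (Lpr_gt (f187979 IH) (Lpe (f182537 IH) (Lpr_bt (f190088 IH) (Lpr_gt (f32899 IH) (Lpe (f183642 IH) (Lpn (LP (LK LD1_c8 LD2_c13 LD3_c13)))))))))))))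
theorem f33081 : Led Lsl_at (LP (LK LD1_c5 LD2_c17 LD3_c0)) = (LP (LK LD1_c2 LD2_c35 LD3_c30)) :=
  Lre_a IH (LK LD1_c5 LD2_c17 LD3_c0) (LK LD1_c2 LD2_c35 LD3_c30) Lrfl Lrfl
theorem f32101 : Led Lsl_dt (LP (LK LD1_c2 LD2_c35 LD3_c30)) = (LP (LK LD1_c1 LD2_c14 LD3_c47)) :=
  Lre_d IH (LK LD1_c2 LD2_c35 LD3_c30) (LK LD1_c1 LD2_c14 LD3_c47) Lrfl Lrfl
theorem f32102 : Led Lsl_bf (LP (LK LD1_c2 LD2_c35 LD3_c30)) = (LP (LK LD1_c2 LD2_c7 LD3_c29)) :=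
  Lgr Lrot93 (Lpr_dt (f32101 IH) (Lpr_bt (K1.f32084 IH) (Lpr_dt (K0.f28488 IH) (Lpn (LP (LK LD1_c2 LD2_c7 LD3_c29))))))
theorem f32961 : Led Lsl_bt (LP (LK LD1_c2 LD2_c35 LD3_c30)) = (LP (LK LD1_c2 LD2_c7 LD3_c29)) :=
  Lgr Lrot127 (Lpr_bf (f32102 IH) (Lpn (LP (LK LD1_c2 LD2_c7 LD3_c29))))
theorem f31828 : Led Lsl_ct (LP (LK LD1_c4 LD2_c20 LD3_c0)) = (LP (LK LD1_c2 LD2_c7 LD3_c29)) :=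
  Lre_c IH (LK LD1_c4 LD2_c20 LD3_c0) (LK LD1_c2 LD2_c7 LD3_c29) Lrfl Lrfl
theorem f31830 : Led Lsl_at (LP (LK LD1_c2 LD2_c7 LD3_c29)) = (LP (LK LD1_c2 LD2_c7 LD3_c42)) :=
  Lgr Lrot107 (Lpe (f31828 IH) (Lpr_af (K0.f31813 IH) (Lpe (K0.f31829 IH) (Lpn (LP (LK LD1_c2 LD2_c7 LD3_c42))))))
theorem f33082 : Led Lsl_bt (LP (LK LD1_c2 LD2_c7 LD3_c42)) = (LP (LK LD1_c4 LD2_c20 LD3_c22)) :=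
  Lre_b IH (LK LD1_c2 LD2_c7 LD3_c42) (LK LD1_c4 LD2_c20 LD3_c22) Lrfl Lrfl
theorem f183645 : Led Lsl_af (LP (LK LD1_c8 LD2_c13 LD3_c13)) = (LP (LK LD1_c4 LD2_c20 LD3_c22)) :=
  Lgr Lrot36 (Lpr_bt (f183642 IH) (Lpr_at (f33081 IH) (Lpr_bt (f32961 IH) (Lpr_at (f31830 IH) (Lpr_bt (f33082 IH) (Lpn (LP (LK LD1_c4 LD2_c20 LD3_c22))))))))
theorem f177478 : Led Lsl_ct (LP (LK LD1_c1 LD2_c25 LD3_c4)) = (LP (LK LD1_c2 LD2_c58 LD3_c40)) :=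
  Lre_c IH (LK LD1_c1 LD2_c25 LD3_c4) (LK LD1_c2 LD2_c58 LD3_c40) Lrfl Lrfl
theorem f177479 : Led Lsl_gt (LP (LK LD1_c2 LD2_c58 LD3_c40)) = (LP (LK LD1_c6 LD2_c4 LD3_c58)) :=
  Lre_g IH (LK LD1_c2 LD2_c58 LD3_c40) (LK LD1_c6 LD2_c4 LD3_c58) Lrfl Lrfl
theorem f28689 : Led Lsl_dt (LP (LK LD1_c4 LD2_c20 LD3_c22)) = (LP (LK LD1_c2 LD2_c7 LD3_c38)) :=
  Lre_d IH (LK LD1_c4 LD2_c20 LD3_c22) (LK LD1_c2 LD2_c7 LD3_c38) Lrfl Lrfl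
theorem f182099 : Led Lsl_ct (LP (LK LD1_c6 LD2_c4 LD3_c58)) = (LP (LK LD1_c4 LD2_c20 LD3_c22)) :=
  Lgr Lrot110 (Lpe (f177479 IH) (Lpe (f177478 IH) (Lpe (f177473 IH) (Lpe (K9.f42113 IH) (Lpr_gt (K9.f42120 IH) (Lpr_ct (K9.f42478 IH) (Lpr_gt (K9.f182089 IH) (Lpe (K0.f28670 IH) (Lpe (f28689 IH) (Lpn (LP (LK LD1_c4 LD2_c20 LD3_c22))))))))))))
theorem f190099 : Led Lsl_at (LP (LK LD1_c5 LD2_c23 LD3_c20)) = (LP (LK LD1_c6 LD2_c4 LD3_c58)) :=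
  Lgr Lrot107 (Lpr_cf (f190097 IH) (Lpr_af (f183645 IH) (Lpe (f182099 IH) (Lpn (LP (LK LD1_c6 LD2_c4 LD3_c58))))))
theorem f190189 : Led Lsl_gt (LP (LK LD1_c6 LD2_c4 LD3_c59)) = (LP (LK LD1_c2 LD2_c58 LD3_c40)) :=
  Lre_g IH (LK LD1_c6 LD2_c4 LD3_c59) (LK LD1_c2 LD2_c58 LD3_c40) Lrfl Lrfl
theorem f190190 : Led Lsl_ff (LP (LK LD1_c5 LD2_c23 LD3_c20)) = (LP (LK LD1_c6 LD2_c4 LD3_c59)) :=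
  Lgr Lrot52 (Lpr_at (f190099 IH) (Lpe (f177479 IH) (Lpe (f190189 IH) (Lpn (LP (LK LD1_c6 LD2_c4 LD3_c59))))))
theorem f190199 : Led Lsl_ft (LP (LK LD1_c5 LD2_c23 LD3_c20)) = (LP (LK LD1_c6 LD2_c4 LD3_c59)) :=
  Lgr Lrot48 (Lpr_ff (f190190 IH) (Lpn (LP (LK LD1_c6 LD2_c4 LD3_c59))))
theorem f190106 : Led Lsl_et (LP (LK LD1_c5 LD2_c23 LD3_c20)) = (LP (LK LD1_c10 LD2_c37 LD3_c12)) :=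
  Lre_e IH (LK LD1_c5 LD2_c23 LD3_c20) (LK LD1_c10 LD2_c37 LD3_c12) Lrfl Lrfl
theorem f183649 : Led Lsl_et (LP (LK LD1_c15 LD2_c27 LD3_c45)) = (LP (LK LD1_c8 LD2_c13 LD3_c13)) :=
  Lre_e IH (LK LD1_c15 LD2_c27 LD3_c45) (LK LD1_c8 LD2_c13 LD3_c13) Lrfl Lrfl
theorem f190107 : Led Lsl_ct (LP (LK LD1_c10 LD2_c37 LD3_c12)) = (LP (LK LD1_c15 LD2_c27 LD3_c45)) :=
  Lgr Lrot15 (Lpe (f190106 IH) (Lpr_cf (f190097 IH) (Lpe (f183649 IH) (Lpn (LP (LK LD1_c15 LD2_c27 LD3_c45))))))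
theorem f190136 : Led Lsl_cf (LP (LK LD1_c10 LD2_c37 LD3_c12)) = (LP (LK LD1_c15 LD2_c27 LD3_c45)) :=
  Lgr Lrot11 (Lpr_ct (f190107 IH) (Lpn (LP (LK LD1_c15 LD2_c27 LD3_c45))))
theorem f32951 : Led Lsl_et (LP (LK LD1_c5 LD2_c17 LD3_c0)) = (LP (LK LD1_c10 LD2_c23 LD3_c39)) :=
  Lre_e IH (LK LD1_c5 LD2_c17 LD3_c0) (LK LD1_c10 LD2_c23 LD3_c39) Lrfl Lrfl
theorem f183650 : Led Lsl_bf (LP (LK LD1_c15 LD2_c27 LD3_c45)) = (LP (LK LD1_c10 LD2_c23 LD3_c39)) :=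
  Lgr Lrot96 (Lpr_et (f183649 IH) (Lpr_bt (f183642 IH) (Lpr_et (f32951 IH) (Lpn (LP (LK LD1_c10 LD2_c23 LD3_c39))))))
theorem f32117 : Led Lsl_et (LP (LK LD1_c2 LD2_c35 LD3_c30)) = (LP (LK LD1_c5 LD2_c17 LD3_c28)) :=
  Lre_e IH (LK LD1_c2 LD2_c35 LD3_c30) (LK LD1_c5 LD2_c17 LD3_c28) Lrfl Lrfl
theorem f32118 : Led Lsl_et (LP (LK LD1_c5 LD2_c17 LD3_c28)) = (LP (LK LD1_c2 LD2_c35 LD3_c30)) :=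
  Lre_e IH (LK LD1_c5 LD2_c17 LD3_c28) (LK LD1_c2 LD2_c35 LD3_c30) Lrfl Lrfl
theorem f32119 : Led Lsl_dt (LP (LK LD1_c5 LD2_c17 LD3_c28)) = (LP (LK LD1_c5 LD2_c17 LD3_c28)) :=
  Lgr Lrot77 (Lpe (f32117 IH) (Lpe (f32116 IH) (Lpr_ef (K1.f32104 IH) (Lpe (f32101 IH) (Lpe (f32118 IH) (Lpn (LP (LK LD1_c5 LD2_c17 LD3_c28))))))))
theorem f32932 : Led Lsl_at (LP (LK LD1_c10 LD2_c23 LD3_c39)) = (LP (LK LD1_c5 LD2_c17 LD3_c28)) :=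
  Lre_a IH (LK LD1_c10 LD2_c23 LD3_c39) (LK LD1_c5 LD2_c17 LD3_c28) Lrfl Lrfl
theorem f32933 : Led Lsl_at (LP (LK LD1_c5 LD2_c17 LD3_c28)) = (LP (LK LD1_c10 LD2_c23 LD3_c39)) :=
  Lre_a IH (LK LD1_c5 LD2_c17 LD3_c28) (LK LD1_c10 LD2_c23 LD3_c39) Lrfl Lrfl
theorem f32934 : Led Lsl_df (LP (LK LD1_c10 LD2_c23 LD3_c39)) = (LP (LK LD1_c10 LD2_c23 LD3_c39)) :=
  Lgr Lrot18 (Lpr_at (f32932 IH) (Lpr_dt (f32119 IH) (Lpr_at (f32933 IH) (Lpn (LP (LK LD1_c10 LD2_c23 LD3_c39))))))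
theorem f183654 : Led Lsl_bt (LP (LK LD1_c15 LD2_c27 LD3_c45)) = (LP (LK LD1_c10 LD2_c23 LD3_c39)) :=
  Lgr Lrot127 (Lpr_bf (f183650 IH) (Lpn (LP (LK LD1_c10 LD2_c23 LD3_c39))))
theorem f183656 : Led Lsl_dt (LP (LK LD1_c15 LD2_c27 LD3_c45)) = (LP (LK LD1_c15 LD2_c27 LD3_c45)) :=
  Lgr Lrot79 (Lpr_bf (f183650 IH) (Lpr_df (f32934 IH) (Lpe (f183654 IH) (Lpn (LP (LK LD1_c15 LD2_c27 LD3_c45))))))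
theorem f28487 : Led Lsl_et (LP (LK LD1_c4 LD2_c20 LD3_c1)) = (LP (LK LD1_c2 LD2_c7 LD3_c29)) :=
  Lre_e IH (LK LD1_c4 LD2_c20 LD3_c1) (LK LD1_c2 LD2_c7 LD3_c29) Lrfl Lrfl
theorem f32967 : Led Lsl_bt (LP (LK LD1_c5 LD2_c17 LD3_c28)) = (LP (LK LD1_c4 LD2_c20 LD3_c1)) :=
  Lgr Lrot119 (Lpe (f32117 IH) (Lpr_bf (f32102 IH) (Lpe (f28487 IH) (Lpn (LP (LK LD1_c4 LD2_c20 LD3_c1))))))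
theorem f32971 : Led Lsl_bf (LP (LK LD1_c5 LD2_c17 LD3_c28)) = (LP (LK LD1_c4 LD2_c20 LD3_c1)) :=
  Lgr Lrot24 (Lpr_bt (f32967 IH) (Lpn (LP (LK LD1_c4 LD2_c20 LD3_c1))))
theorem f32024 : Led Lsl_af (LP (LK LD1_c1 LD2_c0 LD3_c57)) = (LP (LK LD1_c1 LD2_c0 LD3_c48)) :=
  Lgr Lrot68 (Lpr_ct (K0.f28622 IH) (Lpr_at (K0.f32015 IH) (Lpr_ct (K0.f28480 IH) (Lpn (LP (LK LD1_c1 LD2_c0 LD3_c48))))))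
theorem f28486 : Led Lsl_dt (LP (LK LD1_c2 LD2_c7 LD3_c29)) = (LP (LK LD1_c1 LD2_c0 LD3_c48)) :=
  Lre_d IH (LK LD1_c2 LD2_c7 LD3_c29) (LK LD1_c1 LD2_c0 LD3_c48) Lrfl Lrfl
theorem f32026 : Led Lsl_at (LP (LK LD1_c2 LD2_c7 LD3_c42)) = (LP (LK LD1_c2 LD2_c7 LD3_c29)) :=
  Lgr Lrot51 (Lpe (K0.f31075 IH) (Lpr_af (f32024 IH) (Lpe (f28486 IH) (Lpn (LP (LK LD1_c2 LD2_c7 LD3_c29))))))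
theorem f31077 : Led Lsl_et (LP (LK LD1_c4 LD2_c20 LD3_c29)) = (LP (LK LD1_c2 LD2_c7 LD3_c42)) :=
  Lre_e IH (LK LD1_c4 LD2_c20 LD3_c29) (LK LD1_c2 LD2_c7 LD3_c42) Lrfl Lrfl
theorem f28489 : Led Lsl_et (LP (LK LD1_c2 LD2_c7 LD3_c29)) = (LP (LK LD1_c4 LD2_c20 LD3_c1)) :=
  Lre_e IH (LK LD1_c2 LD2_c7 LD3_c29) (LK LD1_c4 LD2_c20 LD3_c1) Lrfl Lrfl
theorem f32038 : Led Lsl_af (LP (LK LD1_c4 LD2_c20 LD3_c29)) = (LP (LK LD1_c4 LD2_c20 LD3_c1)) :=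
  Lgr Lrot50 (Lpr_et (f31077 IH) (Lpr_at (f32026 IH) (Lpr_et (f28489 IH) (Lpn (LP (LK LD1_c4 LD2_c20 LD3_c1))))))
theorem f32051 : Led Lsl_at (LP (LK LD1_c4 LD2_c20 LD3_c29)) = (LP (LK LD1_c4 LD2_c20 LD3_c1)) :=
  Lgr Lrot100 (Lpr_af (f32038 IH) (Lpn (LP (LK LD1_c4 LD2_c20 LD3_c1))))
theorem f31083 : Led Lsl_bt (LP (LK LD1_c8 LD2_c38 LD3_c35)) = (LP (LK LD1_c4 LD2_c20 LD3_c29)) :=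
  Lre_b IH (LK LD1_c8 LD2_c38 LD3_c35) (LK LD1_c4 LD2_c20 LD3_c29) Lrfl Lrfl
theorem f183652 : Led Lsl_at (LP (LK LD1_c15 LD2_c27 LD3_c45)) = (LP (LK LD1_c8 LD2_c38 LD3_c35)) :=
  Lgr Lrot67 (Lpr_bf (f183650 IH) (Lpe (f32933 IH) (Lpr_bf (f32971 IH) (Lpe (f32051 IH) (Lpe (f31083 IH) (Lpn (LP (LK LD1_c8 LD2_c38 LD3_c35))))))))
theorem f31076 : Led Lsl_et (LP (LK LD1_c2 LD2_c7 LD3_c42)) = (LP (LK LD1_c4 LD2_c20 LD3_c29)) :=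
  Lre_e IH (LK LD1_c2 LD2_c7 LD3_c42) (LK LD1_c4 LD2_c20 LD3_c29) Lrfl Lrfl
theorem f28628 : Led Lsl_dt (LP (LK LD1_c2 LD2_c7 LD3_c42)) = (LP (LK LD1_c1 LD2_c0 LD3_c57)) :=
  Lre_d IH (LK LD1_c2 LD2_c7 LD3_c42) (LK LD1_c1 LD2_c0 LD3_c57) Lrfl Lrfl
theorem f31078 : Led Lsl_dt (LP (LK LD1_c4 LD2_c20 LD3_c29)) = (LP (LK LD1_c4 LD2_c20 LD3_c29)) :=
  Lgr Lrot77 (Lpe (f31076 IH) (Lpe (K0.f31075 IH) (Lpr_ef (K0.f31071 IH) (Lpe (f28628 IH) (Lpe (f31077 IH) (Lpn (LP (LK LD1_c4 LD2_c20 LD3_c29))))))))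
theorem f31084 : Led Lsl_bt (LP (LK LD1_c4 LD2_c20 LD3_c29)) = (LP (LK LD1_c8 LD2_c38 LD3_c35)) :=
  Lre_b IH (LK LD1_c4 LD2_c20 LD3_c29) (LK LD1_c8 LD2_c38 LD3_c35) Lrfl Lrfl
theorem f31085 : Led Lsl_df (LP (LK LD1_c8 LD2_c38 LD3_c35)) = (LP (LK LD1_c8 LD2_c38 LD3_c35)) :=
  Lgr Lrot12 (Lpr_bt (f31083 IH) (Lpr_dt (f31078 IH) (Lpr_bt (f31084 IH) (Lpn (LP (LK LD1_c8 LD2_c38 LD3_c35))))))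
theorem f183658 : Led Lsl_af (LP (LK LD1_c15 LD2_c27 LD3_c45)) = (LP (LK LD1_c8 LD2_c38 LD3_c35)) :=
  Lgr Lrot117 (Lpr_dt (f183656 IH) (Lpr_at (f183652 IH) (Lpe (f31085 IH) (Lpn (LP (LK LD1_c8 LD2_c38 LD3_c35))))))
theorem f182109 : Led Lsl_et (LP (LK LD1_c11 LD2_c53 LD3_c16)) = (LP (LK LD1_c6 LD2_c4 LD3_c58)) :=
  Lre_e IH (LK LD1_c11 LD2_c53 LD3_c16) (LK LD1_c6 LD2_c4 LD3_c58) Lrfl Lrfl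
theorem f31094 : Led Lsl_et (LP (LK LD1_c4 LD2_c20 LD3_c22)) = (LP (LK LD1_c8 LD2_c38 LD3_c35)) :=
  Lre_e IH (LK LD1_c4 LD2_c20 LD3_c22) (LK LD1_c8 LD2_c38 LD3_c35) Lrfl Lrfl
theorem f182110 : Led Lsl_cf (LP (LK LD1_c11 LD2_c53 LD3_c16)) = (LP (LK LD1_c8 LD2_c38 LD3_c35)) :=
  Lgr Lrot39 (Lpr_et (f182109 IH) (Lpr_ct (f182099 IH) (Lpr_et (f31094 IH) (Lpn (LP (LK LD1_c8 LD2_c38 LD3_c35))))))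
theorem f182150 : Led Lsl_ct (LP (LK LD1_c11 LD2_c53 LD3_c16)) = (LP (LK LD1_c8 LD2_c38 LD3_c35)) :=
  Lgr Lrot59 (Lpr_cf (f182110 IH) (Lpn (LP (LK LD1_c8 LD2_c38 LD3_c35))))
theorem f190141 : Led Lsl_at (LP (LK LD1_c10 LD2_c37 LD3_c12)) = (LP (LK LD1_c11 LD2_c53 LD3_c16)) :=
  Lgr Lrot107 (Lpr_cf (f190136 IH) (Lpr_af (f183658 IH) (Lpe (f182150 IH) (Lpn (LP (LK LD1_c11 LD2_c53 LD3_c16))))))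
theorem f190143 : Led Lsl_af (LP (LK LD1_c5 LD2_c23 LD3_c20)) = (LP (LK LD1_c6 LD2_c4 LD3_c58)) :=
  Lgr Lrot50 (Lpr_et (f190106 IH) (Lpr_at (f190141 IH) (Lpr_et (f182109 IH) (Lpn (LP (LK LD1_c6 LD2_c4 LD3_c58))))))
theorem f28698 : Led Lsl_ft (LP (LK LD1_c4 LD2_c20 LD3_c22)) = (LP (LK LD1_c2 LD2_c7 LD3_c37)) :=
  Lre_f IH (LK LD1_c4 LD2_c20 LD3_c22) (LK LD1_c2 LD2_c7 LD3_c37) Lrfl Lrfl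
theorem f27903 : Led Lsl_ct (LP (LK LD1_c2 LD2_c7 LD3_c37)) = (LP (LK LD1_c4 LD2_c20 LD3_c21)) :=
  Lre_c IH (LK LD1_c2 LD2_c7 LD3_c37) (LK LD1_c4 LD2_c20 LD3_c21) Lrfl Lrfl
theorem f182112 : Led Lsl_ff (LP (LK LD1_c6 LD2_c4 LD3_c58)) = (LP (LK LD1_c4 LD2_c20 LD3_c21)) :=
  Lgr Lrot23 (Lpr_ct (f182099 IH) (Lpr_ft (f28698 IH) (Lpr_ct (f27903 IH) (Lpn (LP (LK LD1_c4 LD2_c20 LD3_c21))))))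
theorem f190201 : Led Lsl_af (LP (LK LD1_c4 LD2_c20 LD3_c21)) = (LP (LK LD1_c6 LD2_c4 LD3_c59)) :=
  Lgr Lrot45 (Lpe (f182112 IH) (Lpe (f190143 IH) (Lpr_ft (f190199 IH) (Lpn (LP (LK LD1_c6 LD2_c4 LD3_c59))))))
theorem f190208 : Led Lsl_gt (LP (LK LD1_c2 LD2_c38 LD3_c8)) = (LP (LK LD1_c4 LD2_c20 LD3_c21)) :=
  Lgr Lrot46 (Lpe (f42506 IH) (Lpr_ft (f190199 IH) (Lpe (f190201 IH) (Lpn (LP (LK LD1_c4 LD2_c20 LD3_c21))))))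
theorem f27902 : Led Lsl_bt (LP (LK LD1_c2 LD2_c7 LD3_c37)) = (LP (LK LD1_c1 LD2_c0 LD3_c56)) :=
  Lre_b IH (LK LD1_c2 LD2_c7 LD3_c37) (LK LD1_c1 LD2_c0 LD3_c56) Lrfl Lrfl
theorem f190212 : Led Lsl_gf (LP (LK LD1_c2 LD2_c0 LD3_c49)) = (LP (LK LD1_c1 LD2_c0 LD3_c56)) :=
  Lgr Lrot181 (Lpr_ct (K9.f182588 IH) (Lpe (K9.f182589 IH) (Lpe (K9.f28714 IH) (Lpr_bt (K9.f31411 IH) (Lpe (K9.f182095 IH) (Lpe (f182155 IH) (Lpr_ct (f42498 IH) (Lpr_gt (f190208 IH) (Lpe (f27903 IH) (Lpr_bt (f27902 IH) (Lpn (LP (LK LD1_c1 LD2_c0 LD3_c56)))))))))))))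
theorem f28699 : Led Lsl_dt (LP (LK LD1_c2 LD2_c7 LD3_c61)) = (LP (LK LD1_c1 LD2_c1 LD3_c7)) :=
  Lre_d IH (LK LD1_c2 LD2_c7 LD3_c61) (LK LD1_c1 LD2_c1 LD3_c7) Lrfl Lrfl
theorem f31564 : Led Lsl_gt (LP (LK LD1_c0 LD2_c32 LD3_c0)) = (LP (LK LD1_c0 LD2_c55 LD3_c6)) :=
  Lgr Lrot46 (Lpe (K9.f31053 IH) (Lpr_ft (K0.f31534 IH) (Lpr_at (K0.f31549 IH) (Lpn (LP (LK LD1_c0 LD2_c55 LD3_c6))))))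
theorem f190222 : Led Lsl_gf (LP (LK LD1_c0 LD2_c57 LD3_c18)) = (LP (LK LD1_c0 LD2_c27 LD3_c47)) :=
  Lgr Lrot147 (Lpe (K9.f183887 IH) (Lpr_gt (f31564 IH) (Lpr_ct (f28679 IH) (Lpe (f28699 IH) (Lpe (K9.f28700 IH) (Lpr_gf (K9.f182589 IH) (Lpe (K9.f182588 IH) (Lpr_gf (f190212 IH) (Lpe (K0.f27882 IH) (Lpn (LP (LK LD1_c0 LD2_c27 LD3_c47))))))))))))
theorem f31082 : Led Lsl_ft (LP (LK LD1_c0 LD2_c27 LD3_c47)) = (LP (LK LD1_c1 LD2_c0 LD3_c57)) :=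
  Lre_f IH (LK LD1_c0 LD2_c27 LD3_c47) (LK LD1_c1 LD2_c0 LD3_c57) Lrfl Lrfl
theorem f31810 : Led Lsl_af (LP (LK LD1_c1 LD2_c0 LD3_c48)) = (LP (LK LD1_c1 LD2_c0 LD3_c57)) :=
  Lgr Lrot109 (Lpe (K0.f28480 IH) (Lpe (K0.f28485 IH) (Lpe (K0.f31801 IH) (Lpe (K0.f31768 IH) (Lpr_cf (K0.f31793 IH) (Lpe (K0.f27893 IH) (Lpe (K0.f27891 IH) (Lpe (K0.f27882 IH) (Lpr_ft (f31082 IH) (Lpn (LP (LK LD1_c1 LD2_c0 LD3_c57))))))))))))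
theorem f190226 : Led Lsl_gt (LP (LK LD1_c0 LD2_c57 LD3_c18)) = (LP (LK LD1_c1 LD2_c0 LD3_c48)) :=
  Lgr Lrot46 (Lpr_gf (f190222 IH) (Lpr_ft (f31082 IH) (Lpe (f31810 IH) (Lpn (LP (LK LD1_c1 LD2_c0 LD3_c48))))))
theorem f187910 : Led Lsl_bt (LP (LK LD1_c0 LD2_c6 LD3_c52)) = (LP (LK LD1_c0 LD2_c14 LD3_c20)) :=
  Lgr Lrot22 (Lpr_ct (K9.f163681 IH) (Lpe (K9.f165867 IH) (Lpr_cf (K1.f32099 IH) (Lpr_gf (K9.f31677 IH) (Lpe (f180251 IH) (Lpr_ct (f32073 IH) (Lpr_gf (f187901 IH) (Lpe (K9.f31532 IH) (Lpr_bt (K1.f31531 IH) (Lpe (K9.f31599 IH) (Lpn (LP (LK LD1_c0 LD2_c14 LD3_c20)))))))))))))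
theorem f190248 : Led Lsl_cf (LP (LK LD1_c0 LD2_c57 LD3_c18)) = (LP (LK LD1_c0 LD2_c32 LD3_c0)) :=
  Lgr Lrot125 (Lpr_gt (f190226 IH) (Lpe (K0.f28480 IH) (Lpe (K0.f32022 IH) (Lpr_gt (f31687 IH) (Lpe (f187910 IH) (Lpr_ct (K9.f163681 IH) (Lpe (K9.f165870 IH) (Lpe (K1.f32873 IH) (Lpr_bt (K0.f31597 IH) (Lpr_gt (K9.f31053 IH) (Lpn (LP (LK LD1_c0 LD2_c32 LD3_c0)))))))))))))
theorem f37286 : Led Lsl_gt (LP (LK LD1_c0 LD2_c6 LD3_c55)) = (LP (LK LD1_c0 LD2_c15 LD3_c6)) :=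
  Lre_g IH (LK LD1_c0 LD2_c6 LD3_c55) (LK LD1_c0 LD2_c15 LD3_c6) Lrfl Lrfl
theorem f190252 : Led Lsl_bt (LP (LK LD1_c0 LD2_c32 LD3_c0)) = (LP (LK LD1_c0 LD2_c15 LD3_c6)) :=
  Lgr Lrot92 (Lpe (f190248 IH) (Lpr_gt (f190226 IH) (Lpe (K0.f28480 IH) (Lpe (K0.f32022 IH) (Lpr_gt (f31687 IH) (Lpr_ct (f186710 IH) (Lpr_gt (f21331 IH) (Lpe (K0.f22105 IH) (Lpr_bt (K9.f163670 IH) (Lpr_gt (f37286 IH) (Lpn (LP (LK LD1_c0 LD2_c15 LD3_c6)))))))))))))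
theorem f183880 : Led Lsl_bt (LP (LK LD1_c0 LD2_c26 LD3_c0)) = (LP (LK LD1_c0 LD2_c57 LD3_c18)) :=
  Lre_b IH (LK LD1_c0 LD2_c26 LD3_c0) (LK LD1_c0 LD2_c57 LD3_c18) Lrfl Lrfl
theorem f183874 : Led Lsl_ct (LP (LK LD1_c0 LD2_c13 LD3_c11)) = (LP (LK LD1_c0 LD2_c26 LD3_c0)) :=
  Lgr Lrot59 (Lpr_cf (K9.f183871 IH) (Lpn (LP (LK LD1_c0 LD2_c26 LD3_c0))))
theorem f55930 : Led Lsl_bt (LP (LK LD1_c0 LD2_c29 LD3_c51)) = (LP (LK LD1_c0 LD2_c13 LD3_c11)) :=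
  Lre_b IH (LK LD1_c0 LD2_c29 LD3_c51) (LK LD1_c0 LD2_c13 LD3_c11) Lrfl Lrfl
theorem f190256 : Led Lsl_cf (LP (LK LD1_c0 LD2_c29 LD3_c51)) = (LP (LK LD1_c0 LD2_c15 LD3_c6)) :=
  Lgr Lrot97 (Lpr_bt (f55930 IH) (Lpr_ct (f183874 IH) (Lpr_bt (f183880 IH) (Lpe (K9.f183887 IH) (Lpr_bt (f190252 IH) (Lpn (LP (LK LD1_c0 LD2_c15 LD3_c6))))))))
theorem f190254 : Led Lsl_bf (LP (LK LD1_c0 LD2_c32 LD3_c0)) = (LP (LK LD1_c0 LD2_c15 LD3_c6)) :=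
  Lgr Lrot24 (Lpr_bt (f190252 IH) (Lpn (LP (LK LD1_c0 LD2_c15 LD3_c6))))
theorem f163685 : Led Lsl_bt (LP (LK LD1_c0 LD2_c15 LD3_c9)) = (LP (LK LD1_c0 LD2_c6 LD3_c61)) :=
  Lre_b IH (LK LD1_c0 LD2_c15 LD3_c9) (LK LD1_c0 LD2_c6 LD3_c61) Lrfl Lrfl
theorem f164185 : Led Lsl_ef (LP (LK LD1_c0 LD2_c15 LD3_c9)) = (LP (LK LD1_c0 LD2_c15 LD3_c9)) :=
  Lgr Lrot29 (Lpr_bt (f163685 IH) (Lpr_et (K9.f164181 IH) (Lpr_bt (K9.f34642 IH) (Lpn (LP (LK LD1_c0 LD2_c15 LD3_c9))))))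
theorem f34070 : Led Lsl_bt (LP (LK LD1_c0 LD2_c33 LD3_c50)) = (LP (LK LD1_c0 LD2_c15 LD3_c14)) :=
  Lre_b IH (LK LD1_c0 LD2_c33 LD3_c50) (LK LD1_c0 LD2_c15 LD3_c14) Lrfl Lrfl
theorem f34643 : Led Lsl_cf (LP (LK LD1_c0 LD2_c31 LD3_c46)) = (LP (LK LD1_c0 LD2_c15 LD3_c9)) :=
  Lgr Lrot97 (Lpr_bt (K0.f34637 IH) (Lpr_ct (K0.f34027 IH) (Lpr_bt (f34070 IH) (Lpr_ct (K8.f34641 IH) (Lpr_bt (K9.f34642 IH) (Lpn (LP (LK LD1_c0 LD2_c15 LD3_c9))))))))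
theorem f165172 : Led Lsl_ct (LP (LK LD1_c0 LD2_c31 LD3_c46)) = (LP (LK LD1_c0 LD2_c15 LD3_c9)) :=
  Lgr Lrot15 (Lpr_ef (K0.f34648 IH) (Lpr_cf (f34643 IH) (Lpr_ef (f164185 IH) (Lpn (LP (LK LD1_c0 LD2_c15 LD3_c9))))))
theorem f165176 : Led Lsl_cf (LP (LK LD1_c0 LD2_c14 LD3_c7)) = (LP (LK LD1_c0 LD2_c6 LD3_c55)) :=
  Lgr Lrot108 (Lpr_ft (K0.f34636 IH) (Lpr_ct (f165172 IH) (Lpr_ft (K9.f165174 IH) (Lpn (LP (LK LD1_c0 LD2_c6 LD3_c55))))))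
theorem f190267 : Led Lsl_gf (LP (LK LD1_c0 LD2_c29 LD3_c51)) = (LP (LK LD1_c0 LD2_c14 LD3_c7)) :=
  Lgr Lrot129 (Lpr_cf (f190256 IH) (Lpe (f190254 IH) (Lpr_gt (f31564 IH) (Lpe (K0.f28616 IH) (Lpr_ct (K0.f28629 IH) (Lpe (K9.f182036 IH) (Lpr_cf (K9.f182015 IH) (Lpr_bt (K9.f165182 IH) (Lpr_gt (K9.f37322 IH) (Lpe (f165176 IH) (Lpn (LP (LK LD1_c0 LD2_c14 LD3_c7)))))))))))))
theorem f9492 : Led Lsl_bt (LP (LK LD1_c0 LD2_c13 LD3_c11)) = (LP (LK LD1_c0 LD2_c29 LD3_c51)) :=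
  Lre_b IH (LK LD1_c0 LD2_c13 LD3_c11) (LK LD1_c0 LD2_c29 LD3_c51) Lrfl Lrfl
theorem f27851 : Led Lsl_gt (LP (LK LD1_c0 LD2_c26 LD3_c53)) = (LP (LK LD1_c0 LD2_c11 LD3_c56)) :=
  Lre_g IH (LK LD1_c0 LD2_c26 LD3_c53) (LK LD1_c0 LD2_c11 LD3_c56) Lrfl Lrfl
theorem f47054 : Led Lsl_ft (LP (LK LD1_c0 LD2_c25 LD3_c42)) = (LP (LK LD1_c0 LD2_c11 LD3_c26)) :=
  Lre_f IH (LK LD1_c0 LD2_c25 LD3_c42) (LK LD1_c0 LD2_c11 LD3_c26) Lrfl Lrfl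
theorem f47082 : Led Lsl_gf (LP (LK LD1_c0 LD2_c26 LD3_c53)) = (LP (LK LD1_c0 LD2_c25 LD3_c42)) :=
  Lgr Lrot47 (Lpr_gt (f27851 IH) (Lpr_af (K1.f47075 IH) (Lpe (f47054 IH) (Lpn (LP (LK LD1_c0 LD2_c25 LD3_c42))))))
theorem f21859 : Led Lsl_gt (LP (LK LD1_c0 LD2_c33 LD3_c48)) = (LP (LK LD1_c0 LD2_c15 LD3_c10)) :=
  Lre_g IH (LK LD1_c0 LD2_c33 LD3_c48) (LK LD1_c0 LD2_c15 LD3_c10) Lrfl Lrfl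
theorem f190269 : Led Lsl_ct (LP (LK LD1_c0 LD2_c26 LD3_c53)) = (LP (LK LD1_c0 LD2_c33 LD3_c48)) :=
  Lgr Lrot91 (Lpr_gf (f47082 IH) (Lpe (K1.f47088 IH) (Lpr_ct (f47091 IH) (Lpr_gf (K9.f183878 IH) (Lpe (f183874 IH) (Lpr_bt (f9492 IH) (Lpr_gf (f190267 IH) (Lpr_bf (K0.f34614 IH) (Lpe (K0.f33106 IH) (Lpe (f21859 IH) (Lpn (LP (LK LD1_c0 LD2_c33 LD3_c48)))))))))))))
theorem f190263 : Led Lsl_ct (LP (LK LD1_c0 LD2_c29 LD3_c51)) = (LP (LK LD1_c0 LD2_c15 LD3_c6)) :=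
  Lgr Lrot59 (Lpr_cf (f190256 IH) (Lpn (LP (LK LD1_c0 LD2_c15 LD3_c6))))
theorem f163691 : Led Lsl_af (LP (LK LD1_c0 LD2_c15 LD3_c9)) = (LP (LK LD1_c0 LD2_c15 LD3_c9)) :=
  Lgr Lrot36 (Lpr_bt (f163685 IH) (Lpe (K9.f163689 IH) (Lpr_bt (K0.f3125 IH) (Lpr_at (K8.f163675 IH) (Lpr_bt (K9.f34642 IH) (Lpn (LP (LK LD1_c0 LD2_c15 LD3_c9))))))))
theorem f165175 : Led Lsl_ft (LP (LK LD1_c0 LD2_c6 LD3_c55)) = (LP (LK LD1_c0 LD2_c15 LD3_c9)) :=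
  Lre_f IH (LK LD1_c0 LD2_c6 LD3_c55) (LK LD1_c0 LD2_c15 LD3_c9) Lrfl Lrfl
theorem f165491 : Led Lsl_gf (LP (LK LD1_c0 LD2_c15 LD3_c9)) = (LP (LK LD1_c0 LD2_c15 LD3_c6)) :=
  Lgr Lrot76 (Lpr_af (f163691 IH) (Lpe (f165175 IH) (Lpr_gt (f37286 IH) (Lpn (LP (LK LD1_c0 LD2_c15 LD3_c6))))))
theorem f190278 : Led Lsl_bt (LP (LK LD1_c0 LD2_c26 LD3_c53)) = (LP (LK LD1_c0 LD2_c25 LD3_c21)) :=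
  Lgr Lrot92 (Lpr_ct (f190269 IH) (Lpr_gt (f21859 IH) (Lpr_cf (K0.f33106 IH) (Lpe (K0.f34614 IH) (Lpe (f190267 IH) (Lpr_ct (f190263 IH) (Lpe (f165491 IH) (Lpe (f165172 IH) (Lpr_bt (K0.f34637 IH) (Lpe (f33672 IH) (Lpn (LP (LK LD1_c0 LD2_c25 LD3_c21)))))))))))))
theorem f190272 : Led Lsl_cf (LP (LK LD1_c0 LD2_c26 LD3_c53)) = (LP (LK LD1_c0 LD2_c33 LD3_c48)) :=
  Lgr Lrot11 (Lpr_ct (f190269 IH) (Lpn (LP (LK LD1_c0 LD2_c33 LD3_c48))))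
theorem f34627 : Led Lsl_bt (LP (LK LD1_c1 LD2_c12 LD3_c51)) = (LP (LK LD1_c0 LD2_c33 LD3_c48)) :=
  Lre_b IH (LK LD1_c1 LD2_c12 LD3_c51) (LK LD1_c0 LD2_c33 LD3_c48) Lrfl Lrfl
theorem f34052 : Led Lsl_ct (LP (LK LD1_c0 LD2_c25 LD3_c21)) = (LP (LK LD1_c0 LD2_c55 LD3_c53)) :=
  Lre_c IH (LK LD1_c0 LD2_c25 LD3_c21) (LK LD1_c0 LD2_c55 LD3_c53) Lrfl Lrfl
theorem f190282 : Led Lsl_cf (LP (LK LD1_c1 LD2_c12 LD3_c51)) = (LP (LK LD1_c1 LD2_c15 LD3_c4)) :=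
  Lgr Lrot97 (Lpr_bt (f34627 IH) (Lpe (f190272 IH) (Lpr_bt (f190278 IH) (Lpr_ct (f34052 IH) (Lpe (f184658 IH) (Lpn (LP (LK LD1_c1 LD2_c15 LD3_c4))))))))
theorem f190304 : Led Lsl_ct (LP (LK LD1_c1 LD2_c12 LD3_c51)) = (LP (LK LD1_c1 LD2_c15 LD3_c4)) :=
  Lgr Lrot59 (Lpr_cf (f190282 IH) (Lpn (LP (LK LD1_c1 LD2_c15 LD3_c4))))
theorem f28279 : Led Lsl_bt (LP (LK LD1_c0 LD2_c15 LD3_c41)) = (LP (LK LD1_c0 LD2_c34 LD3_c55)) :=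
  Lre_b IH (LK LD1_c0 LD2_c15 LD3_c41) (LK LD1_c0 LD2_c34 LD3_c55) Lrfl Lrfl
theorem f3741 : Led Lsl_ct (LP (LK LD1_c1 LD2_c11 LD3_c21)) = (LP (LK LD1_c0 LD2_c33 LD3_c4)) :=
  Lre_c IH (LK LD1_c1 LD2_c11 LD3_c21) (LK LD1_c0 LD2_c33 LD3_c4) Lrfl Lrfl
theorem f190337 : Led Lsl_gf (LP (LK LD1_c0 LD2_c33 LD3_c48)) = (LP (LK LD1_c0 LD2_c55 LD3_c49)) :=
  Lgr Lrot124 (Lpe (f34627 IH) (Lpr_ct (f190304 IH) (Lpr_gt (f28280 IH) (Lpr_cf (K1.f28245 IH) (Lpr_bt (f28279 IH) (Lpe (K9.f184614 IH) (Lpr_ct (f3741 IH) (Lpr_gt (K0.f3686 IH) (Lpe (K9.f3305 IH) (Lpe (K0.f33592 IH) (Lpn (LP (LK LD1_c0 LD2_c55 LD3_c49)))))))))))))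
theorem f27840 : Led Lsl_ct (LP (LK LD1_c1 LD2_c58 LD3_c21)) = (LP (LK LD1_c0 LD2_c56 LD3_c1)) :=
  Lre_c IH (LK LD1_c1 LD2_c58 LD3_c21) (LK LD1_c0 LD2_c56 LD3_c1) Lrfl Lrfl
theorem f22006 : Led Lsl_gt (LP (LK LD1_c1 LD2_c12 LD3_c55)) = (LP (LK LD1_c0 LD2_c33 LD3_c49)) :=
  Lre_g IH (LK LD1_c1 LD2_c12 LD3_c55) (LK LD1_c0 LD2_c33 LD3_c49) Lrfl Lrfl
theorem f34000 : Led Lsl_gt (LP (LK LD1_c1 LD2_c57 LD3_c54)) = (LP (LK LD1_c1 LD2_c12 LD3_c55)) :=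
  Lgr Lrot5 (Lpr_ft (K0.f33983 IH) (Lpr_at (K0.f33984 IH) (Lpe (f22006 IH) (Lpn (LP (LK LD1_c1 LD2_c12 LD3_c55))))))
theorem f34002 : Led Lsl_ct (LP (LK LD1_c1 LD2_c12 LD3_c55)) = (LP (LK LD1_c2 LD2_c31 LD3_c42)) :=
  Lre_c IH (LK LD1_c1 LD2_c12 LD3_c55) (LK LD1_c2 LD2_c31 LD3_c42) Lrfl Lrfl
theorem f190340 : Led Lsl_gf (LP (LK LD1_c1 LD2_c58 LD3_c21)) = (LP (LK LD1_c2 LD2_c31 LD3_c42)) :=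
  Lgr Lrot104 (Lpr_ct (f27840 IH) (Lpe (K1.f27871 IH) (Lpe (K1.f27834 IH) (Lpe (f27851 IH) (Lpr_cf (f190272 IH) (Lpr_gf (f190337 IH) (Lpe (K0.f33598 IH) (Lpr_gt (f34000 IH) (Lpr_ct (f34002 IH) (Lpn (LP (LK LD1_c2 LD2_c31 LD3_c42))))))))))))
theorem f45859 : Led Lsl_bt (LP (LK LD1_c8 LD2_c5 LD3_c44)) = (LP (LK LD1_c4 LD2_c2 LD3_c35)) :=
  Lre_b IH (LK LD1_c8 LD2_c5 LD3_c44) (LK LD1_c4 LD2_c2 LD3_c35) Lrfl Lrfl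
theorem f44010 : Led Lsl_bt (LP (LK LD1_c2 LD2_c36 LD3_c17)) = (LP (LK LD1_c5 LD2_c19 LD3_c12)) :=
  Lre_b IH (LK LD1_c2 LD2_c36 LD3_c17) (LK LD1_c5 LD2_c19 LD3_c12) Lrfl Lrfl
theorem f45860 : Led Lsl_cf (LP (LK LD1_c8 LD2_c5 LD3_c44)) = (LP (LK LD1_c5 LD2_c19 LD3_c12)) :=
  Lgr Lrot97 (Lpr_bt (f45859 IH) (Lpr_ct (K9.f45858 IH) (Lpr_bt (K1.f45854 IH) (Lpr_ct (K1.f43957 IH) (Lpr_bt (f44010 IH) (Lpn (LP (LK LD1_c5 LD2_c19 LD3_c12))))))))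
theorem f45913 : Led Lsl_et (LP (LK LD1_c8 LD2_c5 LD3_c44)) = (LP (LK LD1_c4 LD2_c2 LD3_c39)) :=
  Lre_e IH (LK LD1_c8 LD2_c5 LD3_c44) (LK LD1_c4 LD2_c2 LD3_c39) Lrfl Lrfl
theorem f43967 : Led Lsl_bt (LP (LK LD1_c2 LD2_c37 LD3_c17)) = (LP (LK LD1_c5 LD2_c21 LD3_c23)) :=
  Lre_b IH (LK LD1_c2 LD2_c37 LD3_c17) (LK LD1_c5 LD2_c21 LD3_c23) Lrfl Lrfl
theorem f43968 : Led Lsl_bt (LP (LK LD1_c5 LD2_c19 LD3_c12)) = (LP (LK LD1_c2 LD2_c36 LD3_c17)) :=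
  Lre_b IH (LK LD1_c5 LD2_c19 LD3_c12) (LK LD1_c2 LD2_c36 LD3_c17) Lrfl Lrfl
theorem f43969 : Led Lsl_et (LP (LK LD1_c5 LD2_c21 LD3_c23)) = (LP (LK LD1_c5 LD2_c19 LD3_c12)) :=
  Lgr Lrot74 (Lpe (f43967 IH) (Lpr_ef (K1.f43958 IH) (Lpe (f43968 IH) (Lpn (LP (LK LD1_c5 LD2_c19 LD3_c12))))))
theorem f45914 : Led Lsl_ct (LP (LK LD1_c4 LD2_c2 LD3_c39)) = (LP (LK LD1_c5 LD2_c21 LD3_c23)) :=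
  Lgr Lrot15 (Lpe (f45913 IH) (Lpr_cf (f45860 IH) (Lpe (f43969 IH) (Lpn (LP (LK LD1_c5 LD2_c21 LD3_c23))))))
theorem f45929 : Led Lsl_cf (LP (LK LD1_c4 LD2_c2 LD3_c39)) = (LP (LK LD1_c5 LD2_c21 LD3_c23)) :=
  Lgr Lrot11 (Lpr_ct (f45914 IH) (Lpn (LP (LK LD1_c5 LD2_c21 LD3_c23))))
theorem f45947 : Led Lsl_bt (LP (LK LD1_c4 LD2_c2 LD3_c39)) = (LP (LK LD1_c1 LD2_c58 LD3_c21)) :=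
  Lre_b IH (LK LD1_c4 LD2_c2 LD3_c39) (LK LD1_c1 LD2_c58 LD3_c21) Lrfl Lrfl
theorem f43931 : Led Lsl_ct (LP (LK LD1_c1 LD2_c15 LD3_c39)) = (LP (LK LD1_c2 LD2_c37 LD3_c17)) :=
  Lre_c IH (LK LD1_c1 LD2_c15 LD3_c39) (LK LD1_c2 LD2_c37 LD3_c17) Lrfl Lrfl
theorem f45954 : Led Lsl_bt (LP (LK LD1_c0 LD2_c56 LD3_c1)) = (LP (LK LD1_c1 LD2_c15 LD3_c39)) :=
  Lgr Lrot128 (Lpe (f27840 IH) (Lpe (f45947 IH) (Lpr_cf (f45929 IH) (Lpe (f43967 IH) (Lpe (f43931 IH) (Lpn (LP (LK LD1_c1 LD2_c15 LD3_c39))))))))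
theorem f43943 : Led Lsl_gt (LP (LK LD1_c1 LD2_c15 LD3_c39)) = (LP (LK LD1_c2 LD2_c37 LD3_c16)) :=
  Lre_g IH (LK LD1_c1 LD2_c15 LD3_c39) (LK LD1_c2 LD2_c37 LD3_c16) Lrfl Lrfl
theorem f33599 : Led Lsl_bf (LP (LK LD1_c1 LD2_c57 LD3_c54)) = (LP (LK LD1_c2 LD2_c28 LD3_c11)) :=
  Lgr Lrot93 (Lpr_dt (K0.f33598 IH) (Lpr_bt (K0.f33586 IH) (Lpr_dt (K0.f3426 IH) (Lpn (LP (LK LD1_c2 LD2_c28 LD3_c11))))))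
theorem f3427 : Led Lsl_ct (LP (LK LD1_c2 LD2_c28 LD3_c11)) = (LP (LK LD1_c5 LD2_c0 LD3_c55)) :=
  Lre_c IH (LK LD1_c2 LD2_c28 LD3_c11) (LK LD1_c5 LD2_c0 LD3_c55) Lrfl Lrfl
theorem f3429 : Led Lsl_gt (LP (LK LD1_c2 LD2_c28 LD3_c34)) = (LP (LK LD1_c5 LD2_c0 LD3_c55)) :=
  Lre_g IH (LK LD1_c2 LD2_c28 LD3_c34) (LK LD1_c5 LD2_c0 LD3_c55) Lrfl Lrfl
theorem f3424 : Led Lsl_ct (LP (LK LD1_c5 LD2_c0 LD3_c55)) = (LP (LK LD1_c2 LD2_c28 LD3_c11)) :=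
  Lre_c IH (LK LD1_c5 LD2_c0 LD3_c55) (LK LD1_c2 LD2_c28 LD3_c11) Lrfl Lrfl
theorem f184756 : Led Lsl_gt (LP (LK LD1_c1 LD2_c15 LD3_c15)) = (LP (LK LD1_c2 LD2_c36 LD3_c30)) :=
  Lre_g IH (LK LD1_c1 LD2_c15 LD3_c15) (LK LD1_c2 LD2_c36 LD3_c30) Lrfl Lrfl
theorem f184757 : Led Lsl_cf (LP (LK LD1_c2 LD2_c28 LD3_c34)) = (LP (LK LD1_c2 LD2_c36 LD3_c30)) :=
  Lgr Lrot169 (Lpr_gt (f3429 IH) (Lpr_ct (f3424 IH) (Lpe (K0.f3426 IH) (Lpe (K9.f3305 IH) (Lpe (K0.f3686 IH) (Lpe (f3741 IH) (Lpr_gf (K9.f184614 IH) (Lpe (K1.f44913 IH) (Lpr_gt (f184756 IH) (Lpn (LP (LK LD1_c2 LD2_c36 LD3_c30))))))))))))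
theorem f190448 : Led Lsl_bf (LP (LK LD1_c2 LD2_c37 LD3_c16)) = (LP (LK LD1_c2 LD2_c36 LD3_c30)) :=
  Lgr Lrot34 (Lpe (f43943 IH) (Lpe (f45954 IH) (Lpr_ct (K1.f27872 IH) (Lpr_gf (f190340 IH) (Lpe (f34002 IH) (Lpe (f34000 IH) (Lpr_bf (f33599 IH) (Lpr_ct (f3427 IH) (Lpe (f3429 IH) (Lpr_cf (f184757 IH) (Lpn (LP (LK LD1_c2 LD2_c36 LD3_c30)))))))))))))
theorem f190456 : Led Lsl_bt (LP (LK LD1_c2 LD2_c37 LD3_c16)) = (LP (LK LD1_c2 LD2_c36 LD3_c30)) :=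
  Lgr Lrot127 (Lpr_bf (f190448 IH) (Lpn (LP (LK LD1_c2 LD2_c36 LD3_c30))))
theorem f190482 : Led Lsl_ct (LP (LK LD1_c5 LD2_c21 LD3_c21)) = (LP (LK LD1_c2 LD2_c37 LD3_c16)) :=
  Lre_c IH (LK LD1_c5 LD2_c21 LD3_c21) (LK LD1_c2 LD2_c37 LD3_c16) Lrfl Lrfl
theorem f190483 : Led Lsl_bt (LP (LK LD1_c2 LD2_c28 LD3_c34)) = (LP (LK LD1_c5 LD2_c1 LD3_c47)) :=
  Lre_b IH (LK LD1_c2 LD2_c28 LD3_c34) (LK LD1_c5 LD2_c1 LD3_c47) Lrfl Lrfl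
theorem f165385 : Led Lsl_ct (LP (LK LD1_c5 LD2_c1 LD3_c47)) = (LP (LK LD1_c9 LD2_c53 LD3_c61)) :=
  Lre_c IH (LK LD1_c5 LD2_c1 LD3_c47) (LK LD1_c9 LD2_c53 LD3_c61) Lrfl Lrfl
theorem f190484 : Led Lsl_bf (LP (LK LD1_c5 LD2_c21 LD3_c21)) = (LP (LK LD1_c9 LD2_c53 LD3_c61)) :=
  Lgr Lrot90 (Lpr_ct (f190482 IH) (Lpr_bt (f190456 IH) (Lpe (f184757 IH) (Lpr_bt (f190483 IH) (Lpr_ct (f165385 IH) (Lpn (LP (LK LD1_c9 LD2_c53 LD3_c61))))))))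
theorem f190488 : Led Lsl_bt (LP (LK LD1_c5 LD2_c21 LD3_c21)) = (LP (LK LD1_c9 LD2_c53 LD3_c61)) :=
  Lgr Lrot127 (Lpr_bf (f190484 IH) (Lpn (LP (LK LD1_c9 LD2_c53 LD3_c61))))
theorem f190615 : Led Lsl_gt (LP (LK LD1_c9 LD2_c53 LD3_c61)) = (LP (LK LD1_c18 LD2_c6 LD3_c52)) :=
  Lre_g IH (LK LD1_c9 LD2_c53 LD3_c61) (LK LD1_c18 LD2_c6 LD3_c52) Lrfl Lrfl
theorem f190617 : Led Lsl_bt (LP (LK LD1_c9 LD2_c58 LD3_c40)) = (LP (LK LD1_c18 LD2_c6 LD3_c52)) :=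
  Lre_b IH (LK LD1_c9 LD2_c58 LD3_c40) (LK LD1_c18 LD2_c6 LD3_c52) Lrfl Lrfl
theorem f190618 : Led Lsl_ct (LP (LK LD1_c9 LD2_c58 LD3_c40)) = (LP (LK LD1_c5 LD2_c3 LD3_c52)) :=
  Lre_c IH (LK LD1_c9 LD2_c58 LD3_c40) (LK LD1_c5 LD2_c3 LD3_c52) Lrfl Lrfl
theorem f165738 : Led Lsl_gt (LP (LK LD1_c5 LD2_c3 LD3_c52)) = (LP (LK LD1_c2 LD2_c29 LD3_c23)) :=
  Lre_g IH (LK LD1_c5 LD2_c3 LD3_c52) (LK LD1_c2 LD2_c29 LD3_c23) Lrfl Lrfl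
theorem f165609 : Led Lsl_ct (LP (LK LD1_c5 LD2_c3 LD3_c45)) = (LP (LK LD1_c2 LD2_c29 LD3_c23)) :=
  Lre_c IH (LK LD1_c5 LD2_c3 LD3_c45) (LK LD1_c2 LD2_c29 LD3_c23) Lrfl Lrfl
theorem f190619 : Led Lsl_bt (LP (LK LD1_c5 LD2_c3 LD3_c45)) = (LP (LK LD1_c2 LD2_c29 LD3_c21)) :=
  Lre_b IH (LK LD1_c5 LD2_c3 LD3_c45) (LK LD1_c2 LD2_c29 LD3_c21) Lrfl Lrfl
theorem f190620 : Led Lsl_gf (LP (LK LD1_c2 LD2_c37 LD3_c17)) = (LP (LK LD1_c2 LD2_c29 LD3_c21)) :=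
  Lgr Lrot181 (Lpr_ct (K1.f43956 IH) (Lpr_gt (f43943 IH) (Lpe (f190482 IH) (Lpr_bt (f190488 IH) (Lpr_gt (f190615 IH) (Lpe (f190617 IH) (Lpr_ct (f190618 IH) (Lpr_gt (f165738 IH) (Lpe (f165609 IH) (Lpr_bt (f190619 IH) (Lpn (LP (LK LD1_c2 LD2_c29 LD3_c21)))))))))))))
theorem f46401 : Led Lsl_at (LP (LK LD1_c4 LD2_c27 LD3_c10)) = (LP (LK LD1_c2 LD2_c37 LD3_c17)) :=
  Lgr Lrot107 (Lpe (K1.f44223 IH) (Lpr_af (K1.f46395 IH) (Lpe (K1.f43956 IH) (Lpn (LP (LK LD1_c2 LD2_c37 LD3_c17))))))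
theorem f166892 : Led Lsl_gt (LP (LK LD1_c5 LD2_c3 LD3_c44)) = (LP (LK LD1_c2 LD2_c29 LD3_c21)) :=
  Lre_g IH (LK LD1_c5 LD2_c3 LD3_c44) (LK LD1_c2 LD2_c29 LD3_c21) Lrfl Lrfl
theorem f190623 : Led Lsl_ff (LP (LK LD1_c4 LD2_c27 LD3_c10)) = (LP (LK LD1_c5 LD2_c3 LD3_c44)) :=
  Lgr Lrot52 (Lpr_at (f46401 IH) (Lpr_gf (f190620 IH) (Lpe (f166892 IH) (Lpn (LP (LK LD1_c5 LD2_c3 LD3_c44))))))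
theorem f190646 : Led Lsl_ct (LP (LK LD1_c4 LD2_c27 LD3_c11)) = (LP (LK LD1_c5 LD2_c3 LD3_c44)) :=
  Lgr Lrot40 (Lpe (K1.f44235 IH) (Lpe (K1.f44217 IH) (Lpr_ff (f190623 IH) (Lpn (LP (LK LD1_c5 LD2_c3 LD3_c44))))))
theorem f47108 : Led Lsl_bt (LP (LK LD1_c4 LD2_c27 LD3_c11)) = (LP (LK LD1_c2 LD2_c10 LD3_c52)) :=
  Lre_b IH (LK LD1_c4 LD2_c27 LD3_c11) (LK LD1_c2 LD2_c10 LD3_c52) Lrfl Lrfl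
theorem f165592 : Led Lsl_ct (LP (LK LD1_c1 LD2_c11 LD3_c47)) = (LP (LK LD1_c2 LD2_c29 LD3_c21)) :=
  Lre_c IH (LK LD1_c1 LD2_c11 LD3_c47) (LK LD1_c2 LD2_c29 LD3_c21) Lrfl Lrfl
theorem f3135 : Led Lsl_bt (LP (LK LD1_c1 LD2_c11 LD3_c47)) = (LP (LK LD1_c0 LD2_c33 LD3_c14)) :=
  Lre_b IH (LK LD1_c1 LD2_c11 LD3_c47) (LK LD1_c0 LD2_c33 LD3_c14) Lrfl Lrfl
theorem f169577 : Led Lsl_bt (LP (LK LD1_c0 LD2_c34 LD3_c31)) = (LP (LK LD1_c1 LD2_c14 LD3_c27)) :=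
  Lre_b IH (LK LD1_c0 LD2_c34 LD3_c31) (LK LD1_c1 LD2_c14 LD3_c27) Lrfl Lrfl
theorem f190742 : Led Lsl_gf (LP (LK LD1_c2 LD2_c10 LD3_c52)) = (LP (LK LD1_c1 LD2_c14 LD3_c27)) :=
  Lgr Lrot124 (Lpe (f47108 IH) (Lpr_ct (f190646 IH) (Lpr_gt (f166892 IH) (Lpe (f165592 IH) (Lpr_bt (f3135 IH) (Lpr_gt (K8.f3102 IH) (Lpr_ct (K9.f21314 IH) (Lpr_gt (K9.f21393 IH) (Lpe (K9.f169438 IH) (Lpr_bt (f169577 IH) (Lpn (LP (LK LD1_c1 LD2_c14 LD3_c27)))))))))))))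
theorem f190744 : Led Lsl_gt (LP (LK LD1_c1 LD2_c2 LD3_c28)) = (LP (LK LD1_c1 LD2_c14 LD3_c27)) :=
  Lgr Lrot5 (Lpr_ft (K1.f44752 IH) (Lpr_at (K1.f46161 IH) (Lpr_gf (f190742 IH) (Lpn (LP (LK LD1_c1 LD2_c14 LD3_c27))))))
theorem f43960 : Led Lsl_dt (LP (LK LD1_c0 LD2_c35 LD3_c5)) = (LP (LK LD1_c1 LD2_c15 LD3_c39)) :=
  Lre_d IH (LK LD1_c0 LD2_c35 LD3_c5) (LK LD1_c1 LD2_c15 LD3_c39) Lrfl Lrfl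
theorem f45804 : Led Lsl_bf (LP (LK LD1_c0 LD2_c56 LD3_c1)) = (LP (LK LD1_c1 LD2_c15 LD3_c39)) :=
  Lgr Lrot93 (Lpr_dt (K1.f27839 IH) (Lpr_bt (K1.f45798 IH) (Lpr_dt (f43960 IH) (Lpn (LP (LK LD1_c1 LD2_c15 LD3_c39))))))
theorem f46399 : Led Lsl_at (LP (LK LD1_c2 LD2_c10 LD3_c46)) = (LP (LK LD1_c1 LD2_c15 LD3_c39)) :=
  Lgr Lrot100 (Lpr_af (K1.f46395 IH) (Lpn (LP (LK LD1_c1 LD2_c15 LD3_c39))))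
theorem f44059 : Led Lsl_bt (LP (LK LD1_c1 LD2_c2 LD3_c25)) = (LP (LK LD1_c2 LD2_c10 LD3_c46)) :=
  Lre_b IH (LK LD1_c1 LD2_c2 LD3_c25) (LK LD1_c2 LD2_c10 LD3_c46) Lrfl Lrfl
theorem f46570 : Led Lsl_bt (LP (LK LD1_c0 LD2_c55 LD3_c60)) = (LP (LK LD1_c1 LD2_c2 LD3_c28)) :=
  Lgr Lrot62 (Lpr_af (K1.f46536 IH) (Lpr_bf (f45804 IH) (Lpe (f46399 IH) (Lpe (f44059 IH) (Lpe (K9.f46328 IH) (Lpn (LP (LK LD1_c1 LD2_c2 LD3_c28))))))))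
theorem f33978 : Led Lsl_bt (LP (LK LD1_c0 LD2_c33 LD3_c59)) = (LP (LK LD1_c1 LD2_c12 LD3_c57)) :=
  Lre_b IH (LK LD1_c0 LD2_c33 LD3_c59) (LK LD1_c1 LD2_c12 LD3_c57) Lrfl Lrfl
theorem f171514 : Led Lsl_dt (LP (LK LD1_c2 LD2_c32 LD3_c1)) = (LP (LK LD1_c1 LD2_c13 LD3_c2)) :=
  Lre_d IH (LK LD1_c2 LD2_c32 LD3_c1) (LK LD1_c1 LD2_c13 LD3_c2) Lrfl Lrfl
theorem f22100 : Led Lsl_ct (LP (LK LD1_c0 LD2_c33 LD3_c52)) = (LP (LK LD1_c1 LD2_c13 LD3_c2)) :=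
  Lre_c IH (LK LD1_c0 LD2_c33 LD3_c52) (LK LD1_c1 LD2_c13 LD3_c2) Lrfl Lrfl
theorem f165259 : Led Lsl_ct (LP (LK LD1_c1 LD2_c13 LD3_c13)) = (LP (LK LD1_c0 LD2_c33 LD3_c57)) :=
  Lre_c IH (LK LD1_c1 LD2_c13 LD3_c13) (LK LD1_c0 LD2_c33 LD3_c57) Lrfl Lrfl
theorem f180631 : Led Lsl_gf (LP (LK LD1_c0 LD2_c34 LD3_c33)) = (LP (LK LD1_c1 LD2_c13 LD3_c13)) :=
  Lgr Lrot144 (Lpr_dt (K2.f32286 IH) (Lpr_gt (f180583 IH) (Lpr_dt (f171514 IH) (Lpe (f22100 IH) (Lpe (f22010 IH) (Lpe (K9.f21326 IH) (Lpe (K8.f21325 IH) (Lpe (K9.f20822 IH) (Lpe (f165259 IH) (Lpn (LP (LK LD1_c1 LD2_c13 LD3_c13))))))))))))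
theorem f48336 : Led Lsl_gt (LP (LK LD1_c0 LD2_c34 LD3_c29)) = (LP (LK LD1_c1 LD2_c14 LD3_c23)) :=
  Lre_g IH (LK LD1_c0 LD2_c34 LD3_c29) (LK LD1_c1 LD2_c14 LD3_c23) Lrfl Lrfl
theorem f32865 : Led Lsl_bt (LP (LK LD1_c2 LD2_c34 LD3_c43)) = (LP (LK LD1_c1 LD2_c14 LD3_c23)) :=
  Lre_b IH (LK LD1_c2 LD2_c34 LD3_c43) (LK LD1_c1 LD2_c14 LD3_c23) Lrfl Lrfl
theorem f165256 : Led Lsl_ct (LP (LK LD1_c0 LD2_c33 LD3_c57)) = (LP (LK LD1_c1 LD2_c13 LD3_c13)) :=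
  Lre_c IH (LK LD1_c0 LD2_c33 LD3_c57) (LK LD1_c1 LD2_c13 LD3_c13) Lrfl Lrfl
theorem f3396 : Led Lsl_bt (LP (LK LD1_c1 LD2_c11 LD3_c31)) = (LP (LK LD1_c0 LD2_c33 LD3_c16)) :=
  Lre_b IH (LK LD1_c1 LD2_c11 LD3_c31) (LK LD1_c0 LD2_c33 LD3_c16) Lrfl Lrfl
theorem f3334 : Led Lsl_gt (LP (LK LD1_c5 LD2_c0 LD3_c51)) = (LP (LK LD1_c2 LD2_c28 LD3_c38)) :=
  Lre_g IH (LK LD1_c5 LD2_c0 LD3_c51) (LK LD1_c2 LD2_c28 LD3_c38) Lrfl Lrfl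
theorem f180748 : Led Lsl_ct (LP (LK LD1_c2 LD2_c34 LD3_c43)) = (LP (LK LD1_c5 LD2_c0 LD3_c51)) :=
  Lgr Lrot64 (Lpr_bt (f32865 IH) (Lpe (f48336 IH) (Lpe (K9.f32441 IH) (Lpr_ct (K2.f32285 IH) (Lpr_gf (f180631 IH) (Lpe (f165256 IH) (Lpe (K9.f165254 IH) (Lpe (f3396 IH) (Lpr_ct (K0.f3308 IH) (Lpe (f3334 IH) (Lpn (LP (LK LD1_c5 LD2_c0 LD3_c51)))))))))))))
theorem f32342 : Led Lsl_gt (LP (LK LD1_c1 LD2_c14 LD3_c23)) = (LP (LK LD1_c2 LD2_c34 LD3_c26)) :=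
  Lre_g IH (LK LD1_c1 LD2_c14 LD3_c23) (LK LD1_c2 LD2_c34 LD3_c26) Lrfl Lrfl
theorem f32528 : Led Lsl_gt (LP (LK LD1_c5 LD2_c15 LD3_c9)) = (LP (LK LD1_c2 LD2_c34 LD3_c50)) :=
  Lre_g IH (LK LD1_c5 LD2_c15 LD3_c9) (LK LD1_c2 LD2_c34 LD3_c50) Lrfl Lrfl
theorem f33365 : Led Lsl_gt (LP (LK LD1_c2 LD2_c28 LD3_c10)) = (LP (LK LD1_c5 LD2_c0 LD3_c51)) :=
  Lre_g IH (LK LD1_c2 LD2_c28 LD3_c10) (LK LD1_c5 LD2_c0 LD3_c51) Lrfl Lrfl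
theorem f21336 : Led Lsl_bt (LP (LK LD1_c2 LD2_c28 LD3_c39)) = (LP (LK LD1_c1 LD2_c11 LD3_c55)) :=
  Lre_b IH (LK LD1_c2 LD2_c28 LD3_c39) (LK LD1_c1 LD2_c11 LD3_c55) Lrfl Lrfl
theorem f21964 : Led Lsl_at (LP (LK LD1_c5 LD2_c0 LD3_c56)) = (LP (LK LD1_c2 LD2_c28 LD3_c39)) :=
  Lre_a IH (LK LD1_c5 LD2_c0 LD3_c56) (LK LD1_c2 LD2_c28 LD3_c39) Lrfl Lrfl
theorem f21335 : Led Lsl_bt (LP (LK LD1_c1 LD2_c13 LD3_c20)) = (LP (LK LD1_c2 LD2_c31 LD3_c49)) :=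
  Lre_b IH (LK LD1_c1 LD2_c13 LD3_c20) (LK LD1_c2 LD2_c31 LD3_c49) Lrfl Lrfl
theorem f163892 : Led Lsl_bf (LP (LK LD1_c5 LD2_c0 LD3_c56)) = (LP (LK LD1_c4 LD2_c1 LD3_c57)) :=
  Lgr Lrot81 (Lpr_at (f21964 IH) (Lpr_bt (f21336 IH) (Lpr_at (K8.f163880 IH) (Lpr_bt (f21335 IH) (Lpe (K0.f33927 IH) (Lpn (LP (LK LD1_c4 LD2_c1 LD3_c57))))))))
theorem f21769 : Led Lsl_ct (LP (LK LD1_c5 LD2_c0 LD3_c56)) = (LP (LK LD1_c9 LD2_c52 LD3_c16)) :=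
  Lre_c IH (LK LD1_c5 LD2_c0 LD3_c56) (LK LD1_c9 LD2_c52 LD3_c16) Lrfl Lrfl
theorem f21983 : Led Lsl_bt (LP (LK LD1_c9 LD2_c52 LD3_c16)) = (LP (LK LD1_c18 LD2_c4 LD3_c7)) :=
  Lre_b IH (LK LD1_c9 LD2_c52 LD3_c16) (LK LD1_c18 LD2_c4 LD3_c7) Lrfl Lrfl
theorem f33868 : Led Lsl_bt (LP (LK LD1_c15 LD2_c12 LD3_c20)) = (LP (LK LD1_c8 LD2_c4 LD3_c35)) :=
  Lre_b IH (LK LD1_c15 LD2_c12 LD3_c20) (LK LD1_c8 LD2_c4 LD3_c35) Lrfl Lrfl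
theorem f165344 : Led Lsl_ct (LP (LK LD1_c18 LD2_c4 LD3_c7)) = (LP (LK LD1_c15 LD2_c12 LD3_c20)) :=
  Lgr Lrot83 (Lpe (f21983 IH) (Lpe (f21769 IH) (Lpr_bf (f163892 IH) (Lpe (K0.f33616 IH) (Lpe (f33868 IH) (Lpn (LP (LK LD1_c15 LD2_c12 LD3_c20))))))))
theorem f3598 : Led Lsl_et (LP (LK LD1_c9 LD2_c52 LD3_c12)) = (LP (LK LD1_c18 LD2_c4 LD3_c7)) :=
  Lre_e IH (LK LD1_c9 LD2_c52 LD3_c12) (LK LD1_c18 LD2_c4 LD3_c7) Lrfl Lrfl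
theorem f165349 : Led Lsl_et (LP (LK LD1_c15 LD2_c12 LD3_c20)) = (LP (LK LD1_c8 LD2_c4 LD3_c31)) :=
  Lre_e IH (LK LD1_c15 LD2_c12 LD3_c20) (LK LD1_c8 LD2_c4 LD3_c31) Lrfl Lrfl
theorem f165350 : Led Lsl_cf (LP (LK LD1_c9 LD2_c52 LD3_c12)) = (LP (LK LD1_c8 LD2_c4 LD3_c31)) :=
  Lgr Lrot39 (Lpr_et (f3598 IH) (Lpr_ct (f165344 IH) (Lpr_et (f165349 IH) (Lpn (LP (LK LD1_c8 LD2_c4 LD3_c31))))))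
theorem f3601 : Led Lsl_ft (LP (LK LD1_c9 LD2_c52 LD3_c12)) = (LP (LK LD1_c5 LD2_c0 LD3_c53)) :=
  Lre_f IH (LK LD1_c9 LD2_c52 LD3_c12) (LK LD1_c5 LD2_c0 LD3_c53) Lrfl Lrfl
theorem f34164 : Led Lsl_ft (LP (LK LD1_c4 LD2_c1 LD3_c54)) = (LP (LK LD1_c8 LD2_c4 LD3_c31)) :=
  Lre_f IH (LK LD1_c4 LD2_c1 LD3_c54) (LK LD1_c8 LD2_c4 LD3_c31) Lrfl Lrfl
theorem f165355 : Led Lsl_ct (LP (LK LD1_c5 LD2_c0 LD3_c53)) = (LP (LK LD1_c4 LD2_c1 LD3_c54)) :=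
  Lgr Lrot40 (Lpe (f3601 IH) (Lpr_cf (f165350 IH) (Lpe (f34164 IH) (Lpn (LP (LK LD1_c4 LD2_c1 LD3_c54))))))
theorem f165357 : Led Lsl_cf (LP (LK LD1_c5 LD2_c0 LD3_c53)) = (LP (LK LD1_c4 LD2_c1 LD3_c54)) :=
  Lgr Lrot11 (Lpr_ct (f165355 IH) (Lpn (LP (LK LD1_c4 LD2_c1 LD3_c54))))
theorem f33849 : Led Lsl_bt (LP (LK LD1_c5 LD2_c0 LD3_c53)) = (LP (LK LD1_c2 LD2_c28 LD3_c10)) :=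
  Lre_b IH (LK LD1_c5 LD2_c0 LD3_c53) (LK LD1_c2 LD2_c28 LD3_c10) Lrfl Lrfl
theorem f33848 : Led Lsl_bt (LP (LK LD1_c1 LD2_c57 LD3_c53)) = (LP (LK LD1_c4 LD2_c1 LD3_c54)) :=
  Lre_b IH (LK LD1_c1 LD2_c57 LD3_c53) (LK LD1_c4 LD2_c1 LD3_c54) Lrfl Lrfl
theorem f165366 : Led Lsl_bt (LP (LK LD1_c1 LD2_c11 LD3_c18)) = (LP (LK LD1_c0 LD2_c55 LD3_c48)) :=
  Lgr Lrot128 (Lpe (K0.f3328 IH) (Lpe (f33849 IH) (Lpr_cf (f165357 IH) (Lpe (f33848 IH) (Lpe (K0.f33702 IH) (Lpn (LP (LK LD1_c0 LD2_c55 LD3_c48))))))))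
theorem f27772 : Led Lsl_gt (LP (LK LD1_c1 LD2_c57 LD3_c52)) = (LP (LK LD1_c0 LD2_c55 LD3_c48)) :=
  Lre_g IH (LK LD1_c1 LD2_c57 LD3_c52) (LK LD1_c0 LD2_c55 LD3_c48) Lrfl Lrfl
theorem f165374 : Led Lsl_bt (LP (LK LD1_c4 LD2_c1 LD3_c49)) = (LP (LK LD1_c1 LD2_c57 LD3_c52)) :=
  Lre_b IH (LK LD1_c4 LD2_c1 LD3_c49) (LK LD1_c1 LD2_c57 LD3_c52) Lrfl Lrfl
theorem f180766 : Led Lsl_cf (LP (LK LD1_c2 LD2_c34 LD3_c50)) = (LP (LK LD1_c4 LD2_c1 LD3_c49)) :=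
  Lgr Lrot163 (Lpe (f32528 IH) (Lpe (K1.f32508 IH) (Lpe (f32342 IH) (Lpe (f32865 IH) (Lpr_ct (f180748 IH) (Lpe (f33365 IH) (Lpe (K0.f3317 IH) (Lpr_bt (f165366 IH) (Lpe (f27772 IH) (Lpe (f165374 IH) (Lpn (LP (LK LD1_c4 LD2_c1 LD3_c49)))))))))))))
theorem f45519 : Led Lsl_gt (LP (LK LD1_c2 LD2_c34 LD3_c50)) = (LP (LK LD1_c1 LD2_c14 LD3_c25)) :=
  Lre_g IH (LK LD1_c2 LD2_c34 LD3_c50) (LK LD1_c1 LD2_c14 LD3_c25) Lrfl Lrfl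
theorem f180781 : Led Lsl_gt (LP (LK LD1_c1 LD2_c12 LD3_c57)) = (LP (LK LD1_c1 LD2_c57 LD3_c52)) :=
  Lgr Lrot164 (Lpe (f33978 IH) (Lpr_ct (K8.f163758 IH) (Lpe (K9.f165442 IH) (Lpe (K9.f169438 IH) (Lpe (K9.f32806 IH) (Lpe (K9.f32845 IH) (Lpr_ct (K1.f45192 IH) (Lpe (f45519 IH) (Lpr_cf (f180766 IH) (Lpr_bt (f165374 IH) (Lpn (LP (LK LD1_c1 LD2_c57 LD3_c52)))))))))))))
theorem f180783 : Led Lsl_ct (LP (LK LD1_c1 LD2_c57 LD3_c52)) = (LP (LK LD1_c4 LD2_c1 LD3_c50)) :=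
  Lre_c IH (LK LD1_c1 LD2_c57 LD3_c52) (LK LD1_c4 LD2_c1 LD3_c50) Lrfl Lrfl
theorem f190749 : Led Lsl_gf (LP (LK LD1_c1 LD2_c58 LD3_c14)) = (LP (LK LD1_c4 LD2_c1 LD3_c50)) :=
  Lgr Lrot129 (Lpe (K1.f46572 IH) (Lpr_bt (f46570 IH) (Lpr_gt (f190744 IH) (Lpe (f169577 IH) (Lpr_ct (K9.f169438 IH) (Lpr_gt (K9.f165442 IH) (Lpe (K8.f163758 IH) (Lpr_bt (f33978 IH) (Lpr_gt (f180781 IH) (Lpr_ct (f180783 IH) (Lpn (LP (LK LD1_c4 LD2_c1 LD3_c50)))))))))))))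
theorem f32812 : Led Lsl_ct (LP (LK LD1_c1 LD2_c14 LD3_c27)) = (LP (LK LD1_c2 LD2_c34 LD3_c55)) :=
  Lre_c IH (LK LD1_c1 LD2_c14 LD3_c27) (LK LD1_c2 LD2_c34 LD3_c55) Lrfl Lrfl
theorem f170058 : Led Lsl_gt (LP (LK LD1_c2 LD2_c34 LD3_c55)) = (LP (LK LD1_c5 LD2_c16 LD3_c17)) :=
  Lre_g IH (LK LD1_c2 LD2_c34 LD3_c55) (LK LD1_c5 LD2_c16 LD3_c17) Lrfl Lrfl
theorem f180769 : Led Lsl_bt (LP (LK LD1_c1 LD2_c57 LD3_c52)) = (LP (LK LD1_c4 LD2_c1 LD3_c49)) :=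
  Lre_b IH (LK LD1_c1 LD2_c57 LD3_c52) (LK LD1_c4 LD2_c1 LD3_c49) Lrfl Lrfl
theorem f181426 : Led Lsl_ct (LP (LK LD1_c1 LD2_c25 LD3_c12)) = (LP (LK LD1_c0 LD2_c39 LD3_c16)) :=
  Lre_c IH (LK LD1_c1 LD2_c25 LD3_c12) (LK LD1_c0 LD2_c39 LD3_c16) Lrfl Lrfl
theorem f183813 : Led Lsl_gf (LP (LK LD1_c4 LD2_c1 LD3_c49)) = (LP (LK LD1_c4 LD2_c13 LD3_c48)) :=
  Lgr Lrot147 (Lpe (f180766 IH) (Lpr_gt (f45519 IH) (Lpr_ct (f45390 IH) (Lpe (K1.f45191 IH) (Lpe (K1.f44536 IH) (Lpe (K9.f183670 IH) (Lpe (f181426 IH) (Lpr_gf (K9.f183707 IH) (Lpe (K9.f49448 IH) (Lpn (LP (LK LD1_c4 LD2_c13 LD3_c48))))))))))))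
theorem f49463 : Led Lsl_bt (LP (LK LD1_c8 LD2_c26 LD3_c15)) = (LP (LK LD1_c4 LD2_c13 LD3_c48)) :=
  Lre_b IH (LK LD1_c8 LD2_c26 LD3_c15) (LK LD1_c4 LD2_c13 LD3_c48) Lrfl Lrfl
theorem f190758 : Led Lsl_cf (LP (LK LD1_c5 LD2_c16 LD3_c17)) = (LP (LK LD1_c8 LD2_c26 LD3_c15)) :=
  Lgr Lrot163 (Lpe (f170058 IH) (Lpe (f32812 IH) (Lpe (f190744 IH) (Lpe (f46570 IH) (Lpr_ct (K1.f46572 IH) (Lpr_gf (f190749 IH) (Lpe (f180783 IH) (Lpr_bt (f180769 IH) (Lpr_gf (f183813 IH) (Lpe (f49463 IH) (Lpn (LP (LK LD1_c8 LD2_c26 LD3_c15)))))))))))))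
theorem f27649 : Led Lsl_af (LP (LK LD1_c4 LD2_c50 LD3_c44)) = (LP (LK LD1_c4 LD2_c14 LD3_c24)) :=
  Lgr Lrot117 (Lpr_dt (f27648 IH) (Lpr_at (K0.f27636 IH) (Lpr_dt (f27600 IH) (Lpn (LP (LK LD1_c4 LD2_c14 LD3_c24))))))
theorem f50955 : Led Lsl_ct (LP (LK LD1_c9 LD2_c33 LD3_c41)) = (LP (LK LD1_c4 LD2_c50 LD3_c44)) :=
  Lre_c IH (LK LD1_c9 LD2_c33 LD3_c41) (LK LD1_c4 LD2_c50 LD3_c44) Lrfl Lrfl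
theorem f50938 : Led Lsl_ft (LP (LK LD1_c4 LD2_c1 LD3_c2)) = (LP (LK LD1_c8 LD2_c2 LD3_c51)) :=
  Lre_f IH (LK LD1_c4 LD2_c1 LD3_c2) (LK LD1_c8 LD2_c2 LD3_c51) Lrfl Lrfl
theorem f50949 : Led Lsl_df (LP (LK LD1_c9 LD2_c33 LD3_c41)) = (LP (LK LD1_c8 LD2_c2 LD3_c51)) :=
  Lgr Lrot78 (Lpr_ft (f50935 IH) (Lpr_dt (f31023 IH) (Lpr_ft (f50938 IH) (Lpn (LP (LK LD1_c8 LD2_c2 LD3_c51))))))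
theorem f28057 : Led Lsl_dt (LP (LK LD1_c1 LD2_c57 LD3_c20)) = (LP (LK LD1_c4 LD2_c1 LD3_c3)) :=
  Lre_d IH (LK LD1_c1 LD2_c57 LD3_c20) (LK LD1_c4 LD2_c1 LD3_c3) Lrfl Lrfl
theorem f27620 : Led Lsl_ct (LP (LK LD1_c4 LD2_c14 LD3_c25)) = (LP (LK LD1_c2 LD2_c4 LD3_c35)) :=
  Lre_c IH (LK LD1_c4 LD2_c14 LD3_c25) (LK LD1_c2 LD2_c4 LD3_c35) Lrfl Lrfl
theorem f51031 : Led Lsl_cf (LP (LK LD1_c1 LD2_c57 LD3_c20)) = (LP (LK LD1_c0 LD2_c59 LD3_c18)) :=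
  Lgr Lrot116 (Lpr_dt (f28057 IH) (Lpr_ct (K9.f30971 IH) (Lpe (f50949 IH) (Lpr_ct (f50955 IH) (Lpr_af (f27649 IH) (Lpe (f50983 IH) (Lpr_dt (f51015 IH) (Lpr_ct (f27620 IH) (Lpr_dt (K0.f27527 IH) (Lpn (LP (LK LD1_c0 LD2_c59 LD3_c18))))))))))))
theorem f50905 : Led Lsl_cf (LP (LK LD1_c2 LD2_c4 LD3_c20)) = (LP (LK LD1_c2 LD2_c4 LD3_c15)) :=
  Lgr Lrot11 (Lpr_ct (K9.f50888 IH) (Lpn (LP (LK LD1_c2 LD2_c4 LD3_c15))))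
theorem f51047 : Led Lsl_ct (LP (LK LD1_c2 LD2_c8 LD3_c1)) = (LP (LK LD1_c4 LD2_c13 LD3_c43)) :=
  Lgr Lrot83 (Lpe (K9.f30979 IH) (Lpr_cf (f51031 IH) (Lpe (K9.f27410 IH) (Lpr_cf (f50905 IH) (Lpe (K9.f49447 IH) (Lpn (LP (LK LD1_c4 LD2_c13 LD3_c43))))))))
theorem f184020 : Led Lsl_ft (LP (LK LD1_c4 LD2_c53 LD3_c60)) = (LP (LK LD1_c5 LD2_c18 LD3_c30)) :=
  Lgr Lrot48 (Lpr_ff (K9.f184013 IH) (Lpn (LP (LK LD1_c5 LD2_c18 LD3_c30))))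
theorem f190774 : Led Lsl_af (LP (LK LD1_c5 LD2_c16 LD3_c17)) = (LP (LK LD1_c5 LD2_c18 LD3_c30)) :=
  Lgr Lrot109 (Lpr_cf (f190758 IH) (Lpe (K9.f50062 IH) (Lpe (f51047 IH) (Lpe (K9.f30848 IH) (Lpe (K9.f30972 IH) (Lpe (K9.f30984 IH) (Lpr_cf (K9.f50632 IH) (Lpe (K9.f44398 IH) (Lpr_ft (f184020 IH) (Lpn (LP (LK LD1_c5 LD2_c18 LD3_c30))))))))))))
theorem f190780 : Led Lsl_gf (LP (LK LD1_c2 LD2_c34 LD3_c55)) = (LP (LK LD1_c4 LD2_c53 LD3_c60)) :=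
  Lgr Lrot47 (Lpr_gt (f170058 IH) (Lpr_af (f190774 IH) (Lpe (f184020 IH) (Lpn (LP (LK LD1_c4 LD2_c53 LD3_c60))))))
theorem f32809 : Led Lsl_bt (LP (LK LD1_c1 LD2_c14 LD3_c27)) = (LP (LK LD1_c0 LD2_c34 LD3_c31)) :=
  Lre_b IH (LK LD1_c1 LD2_c14 LD3_c27) (LK LD1_c0 LD2_c34 LD3_c31) Lrfl Lrfl
theorem f184183 : Led Lsl_cf (LP (LK LD1_c5 LD2_c17 LD3_c6)) = (LP (LK LD1_c4 LD2_c7 LD3_c55)) :=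
  Lgr Lrot11 (Lpr_ct (f184180 IH) (Lpn (LP (LK LD1_c4 LD2_c7 LD3_c55))))
theorem f44450 : Led Lsl_gt (LP (LK LD1_c4 LD2_c53 LD3_c59)) = (LP (LK LD1_c2 LD2_c24 LD3_c53)) :=
  Lre_g IH (LK LD1_c4 LD2_c53 LD3_c59) (LK LD1_c2 LD2_c24 LD3_c53) Lrfl Lrfl
theorem f190785 : Led Lsl_bt (LP (LK LD1_c4 LD2_c7 LD3_c55)) = (LP (LK LD1_c4 LD2_c53 LD3_c59)) :=
  Lgr Lrot130 (Lpe (f184183 IH) (Lpe (f32814 IH) (Lpe (K9.f32813 IH) (Lpr_bt (K9.f32551 IH) (Lpr_gf (K9.f32807 IH) (Lpe (f32809 IH) (Lpr_ct (f32812 IH) (Lpr_gf (f190780 IH) (Lpe (K9.f44395 IH) (Lpe (f44450 IH) (Lpn (LP (LK LD1_c4 LD2_c53 LD3_c59)))))))))))))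
theorem f190790 : Led Lsl_df (LP (LK LD1_c3 LD2_c58 LD3_c15)) = (LP (LK LD1_c4 LD2_c53 LD3_c59)) :=
  Lgr Lrot12 (Lpr_bt (f188577 IH) (Lpe (f188723 IH) (Lpr_bt (f190785 IH) (Lpn (LP (LK LD1_c4 LD2_c53 LD3_c59))))))
theorem f47958 : Led Lsl_at (LP (LK LD1_c0 LD2_c56 LD3_c50)) = (LP (LK LD1_c1 LD2_c59 LD3_c42)) :=
  Lre_a IH (LK LD1_c0 LD2_c56 LD3_c50) (LK LD1_c1 LD2_c59 LD3_c42) Lrfl Lrfl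
theorem f47959 : Led Lsl_ft (LP (LK LD1_c1 LD2_c59 LD3_c54)) = (LP (LK LD1_c0 LD2_c56 LD3_c50)) :=
  Lre_f IH (LK LD1_c1 LD2_c59 LD3_c54) (LK LD1_c0 LD2_c56 LD3_c50) Lrfl Lrfl
theorem f47960 : Led Lsl_gf (LP (LK LD1_c3 LD2_c58 LD3_c19)) = (LP (LK LD1_c1 LD2_c59 LD3_c54)) :=
  Lgr Lrot47 (Lpr_gt (f47954 IH) (Lpe (f47958 IH) (Lpe (f47959 IH) (Lpn (LP (LK LD1_c1 LD2_c59 LD3_c54))))))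
theorem f47185 : Led Lsl_dt (LP (LK LD1_c0 LD2_c56 LD3_c51)) = (LP (LK LD1_c1 LD2_c59 LD3_c54)) :=
  Lre_d IH (LK LD1_c0 LD2_c56 LD3_c51) (LK LD1_c1 LD2_c59 LD3_c54) Lrfl Lrfl
theorem f47205 : Led Lsl_gt (LP (LK LD1_c1 LD2_c59 LD3_c40)) = (LP (LK LD1_c0 LD2_c56 LD3_c51)) :=
  Lre_g IH (LK LD1_c1 LD2_c59 LD3_c40) (LK LD1_c0 LD2_c56 LD3_c51) Lrfl Lrfl
theorem f51326 : Led Lsl_gf (LP (LK LD1_c4 LD2_c53 LD3_c59)) = (LP (LK LD1_c8 LD2_c26 LD3_c15)) :=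
  Lgr Lrot47 (Lpr_gt (f44450 IH) (Lpr_af (K9.f50823 IH) (Lpe (K9.f50045 IH) (Lpn (LP (LK LD1_c8 LD2_c26 LD3_c15))))))
theorem f43451 : Led Lsl_af (LP (LK LD1_c2 LD2_c25 LD3_c7)) = (LP (LK LD1_c2 LD2_c24 LD3_c61)) :=
  Lgr Lrot0 (Lpr_at (K9.f43447 IH) (Lpn (LP (LK LD1_c2 LD2_c24 LD3_c61))))
theorem f43354 : Led Lsl_dt (LP (LK LD1_c1 LD2_c9 LD3_c44)) = (LP (LK LD1_c2 LD2_c24 LD3_c61)) :=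
  Lre_d IH (LK LD1_c1 LD2_c9 LD3_c44) (LK LD1_c2 LD2_c24 LD3_c61) Lrfl Lrfl
theorem f43792 : Led Lsl_at (LP (LK LD1_c1 LD2_c9 LD3_c48)) = (LP (LK LD1_c1 LD2_c9 LD3_c44)) :=
  Lgr Lrot51 (Lpe (K9.f43296 IH) (Lpr_af (f43451 IH) (Lpe (f43354 IH) (Lpn (LP (LK LD1_c1 LD2_c9 LD3_c44))))))
theorem f43346 : Led Lsl_bt (LP (LK LD1_c1 LD2_c9 LD3_c44)) = (LP (LK LD1_c2 LD2_c24 LD3_c54)) :=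
  Lre_b IH (LK LD1_c1 LD2_c9 LD3_c44) (LK LD1_c2 LD2_c24 LD3_c54) Lrfl Lrfl
theorem f50848 : Led Lsl_at (LP (LK LD1_c2 LD2_c24 LD3_c54)) = (LP (LK LD1_c4 LD2_c13 LD3_c43)) :=
  Lgr Lrot67 (Lpe (f43346 IH) (Lpe (f43792 IH) (Lpr_bf (K9.f50846 IH) (Lpr_af (K9.f49435 IH) (Lpe (K9.f49447 IH) (Lpn (LP (LK LD1_c4 LD2_c13 LD3_c43))))))))
theorem f44455 : Led Lsl_gt (LP (LK LD1_c1 LD2_c9 LD3_c40)) = (LP (LK LD1_c2 LD2_c24 LD3_c51)) :=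
  Lre_g IH (LK LD1_c1 LD2_c9 LD3_c40) (LK LD1_c2 LD2_c24 LD3_c51) Lrfl Lrfl
theorem f51292 : Led Lsl_gt (LP (LK LD1_c2 LD2_c24 LD3_c51)) = (LP (LK LD1_c4 LD2_c13 LD3_c43)) :=
  Lgr Lrot46 (Lpe (f44455 IH) (Lpr_ft (K9.f43395 IH) (Lpr_at (f50848 IH) (Lpn (LP (LK LD1_c4 LD2_c13 LD3_c43))))))
theorem f190865 : Led Lsl_cf (LP (LK LD1_c1 LD2_c59 LD3_c40)) = (LP (LK LD1_c2 LD2_c24 LD3_c51)) :=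
  Lgr Lrot166 (Lpr_gt (f47205 IH) (Lpr_dt (f47185 IH) (Lpe (f47960 IH) (Lpr_dt (f47966 IH) (Lpr_ct (f47973 IH) (Lpr_df (f190790 IH) (Lpr_gf (f51326 IH) (Lpe (K9.f50062 IH) (Lpe (f51292 IH) (Lpn (LP (LK LD1_c2 LD2_c24 LD3_c51))))))))))))
theorem f46241 : Led Lsl_gt (LP (LK LD1_c0 LD2_c56 LD3_c47)) = (LP (LK LD1_c1 LD2_c59 LD3_c40)) :=
  Lre_g IH (LK LD1_c0 LD2_c56 LD3_c47) (LK LD1_c1 LD2_c59 LD3_c40) Lrfl Lrfl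
theorem f190868 : Led Lsl_bf (LP (LK LD1_c1 LD2_c11 LD3_c16)) = (LP (LK LD1_c2 LD2_c24 LD3_c51)) :=
  Lgr Lrot156 (Lpr_gt (f3335 IH) (Lpe (K0.f3149 IH) (Lpr_ct (K0.f3146 IH) (Lpr_gt (K9.f165506 IH) (Lpe (K9.f165515 IH) (Lpr_bt (K9.f165516 IH) (Lpe (K9.f183891 IH) (Lpe (f46223 IH) (Lpr_gt (f46241 IH) (Lpr_cf (f190865 IH) (Lpn (LP (LK LD1_c2 LD2_c24 LD3_c51)))))))))))))
theorem f190874 : Led Lsl_gf (LP (LK LD1_c0 LD2_c55 LD3_c53)) = (LP (LK LD1_c0 LD2_c55 LD3_c61)) :=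
  Lgr Lrot181 (Lpr_ct (f165282 IH) (Lpr_gt (f33671 IH) (Lpe (K0.f33579 IH) (Lpr_bt (f33577 IH) (Lpr_gt (f3720 IH) (Lpr_bf (f190868 IH) (Lpe (f190865 IH) (Lpr_gt (f47205 IH) (Lpr_cf (K1.f47104 IH) (Lpe (K1.f47094 IH) (Lpn (LP (LK LD1_c0 LD2_c55 LD3_c61)))))))))))))
theorem f190280 : Led Lsl_bf (LP (LK LD1_c0 LD2_c26 LD3_c53)) = (LP (LK LD1_c0 LD2_c25 LD3_c21)) :=
  Lgr Lrot24 (Lpr_bt (f190278 IH) (Lpn (LP (LK LD1_c0 LD2_c25 LD3_c21))))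
theorem f8445 : Led Lsl_ct (LP (LK LD1_c0 LD2_c35 LD3_c5)) = (LP (LK LD1_c0 LD2_c15 LD3_c47)) :=
  Lre_c IH (LK LD1_c0 LD2_c35 LD3_c5) (LK LD1_c0 LD2_c15 LD3_c47) Lrfl Lrfl
theorem f8444 : Led Lsl_bt (LP (LK LD1_c0 LD2_c15 LD3_c47)) = (LP (LK LD1_c0 LD2_c7 LD3_c9)) :=
  Lre_b IH (LK LD1_c0 LD2_c15 LD3_c47) (LK LD1_c0 LD2_c7 LD3_c9) Lrfl Lrfl
theorem f45802 : Led Lsl_bf (LP (LK LD1_c0 LD2_c11 LD3_c56)) = (LP (LK LD1_c0 LD2_c6 LD3_c0)) :=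
  Lgr Lrot90 (Lpr_ct (K1.f27834 IH) (Lpr_bt (K1.f45798 IH) (Lpr_ct (f8445 IH) (Lpr_bt (f8444 IH) (Lpe (K0.f8433 IH) (Lpn (LP (LK LD1_c0 LD2_c6 LD3_c0))))))))
theorem f183195 : Led Lsl_ct (LP (LK LD1_c0 LD2_c11 LD3_c29)) = (LP (LK LD1_c0 LD2_c15 LD3_c52)) :=
  Lgr Lrot59 (Lpr_cf (K9.f183189 IH) (Lpn (LP (LK LD1_c0 LD2_c15 LD3_c52))))
theorem f183193 : Led Lsl_bt (LP (LK LD1_c0 LD2_c11 LD3_c29)) = (LP (LK LD1_c0 LD2_c25 LD3_c49)) :=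
  Lre_b IH (LK LD1_c0 LD2_c11 LD3_c29) (LK LD1_c0 LD2_c25 LD3_c49) Lrfl Lrfl
theorem f190880 : Led Lsl_gt (LP (LK LD1_c0 LD2_c25 LD3_c49)) = (LP (LK LD1_c0 LD2_c25 LD3_c42)) :=
  Lgr Lrot82 (Lpe (f183193 IH) (Lpr_ct (f183195 IH) (Lpe (K9.f8470 IH) (Lpr_cf (K0.f8276 IH) (Lpe (f45802 IH) (Lpe (f27851 IH) (Lpr_bf (f190280 IH) (Lpr_ct (f34052 IH) (Lpr_gf (f190874 IH) (Lpe (K1.f46933 IH) (Lpn (LP (LK LD1_c0 LD2_c25 LD3_c42)))))))))))))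
theorem f55578 : Led Lsl_ct (LP (LK LD1_c0 LD2_c26 LD3_c10)) = (LP (LK LD1_c0 LD2_c11 LD3_c37)) :=
  Lre_c IH (LK LD1_c0 LD2_c26 LD3_c10) (LK LD1_c0 LD2_c11 LD3_c37) Lrfl Lrfl
theorem f177822 : Led Lsl_cf (LP (LK LD1_c0 LD2_c26 LD3_c1)) = (LP (LK LD1_c0 LD2_c13 LD3_c12)) :=
  Lgr Lrot169 (Lpr_gt (f8129 IH) (Lpr_ct (K1.f21292 IH) (Lpe (K1.f53168 IH) (Lpe (f55578 IH) (Lpr_gf (K9.f177817 IH) (Lpe (K9.f8382 IH) (Lpr_gf (K0.f8380 IH) (Lpe (K0.f8451 IH) (Lpr_gt (K9.f9512 IH) (Lpn (LP (LK LD1_c0 LD2_c13 LD3_c12))))))))))))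
theorem f190890 : Led Lsl_bf (LP (LK LD1_c0 LD2_c13 LD3_c12)) = (LP (LK LD1_c0 LD2_c13 LD3_c12)) :=
  Lgr Lrot165 (Lpr_gt (K9.f8483 IH) (Lpe (K0.f8276 IH) (Lpr_gt (K9.f8470 IH) (Lpe (f183195 IH) (Lpr_bt (f183193 IH) (Lpr_gt (f190880 IH) (Lpe (K1.f47088 IH) (Lpr_ct (f47091 IH) (Lpe (f187524 IH) (Lpr_cf (f177822 IH) (Lpn (LP (LK LD1_c0 LD2_c13 LD3_c12)))))))))))))
theorem f190932 : Led Lsl_bt (LP (LK LD1_c0 LD2_c26 LD3_c1)) = (LP (LK LD1_c0 LD2_c57 LD3_c20)) :=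
  Lre_b IH (LK LD1_c0 LD2_c26 LD3_c1) (LK LD1_c0 LD2_c57 LD3_c20) Lrfl Lrfl
theorem f181183 : Led Lsl_bt (LP (LK LD1_c0 LD2_c57 LD3_c20)) = (LP (LK LD1_c0 LD2_c26 LD3_c1)) :=
  Lre_b IH (LK LD1_c0 LD2_c57 LD3_c20) (LK LD1_c0 LD2_c26 LD3_c1) Lrfl Lrfl
theorem f190933 : Led Lsl_ct (LP (LK LD1_c0 LD2_c57 LD3_c20)) = (LP (LK LD1_c0 LD2_c57 LD3_c20)) :=
  Lgr Lrot83 (Lpe (f190932 IH) (Lpr_cf (f177822 IH) (Lpr_bf (f190890 IH) (Lpr_cf (f186809 IH) (Lpe (f181183 IH) (Lpn (LP (LK LD1_c0 LD2_c57 LD3_c20))))))))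
theorem f190945 : Led Lsl_gf (LP (LK LD1_c0 LD2_c26 LD3_c61)) = (LP (LK LD1_c0 LD2_c57 LD3_c20)) :=
  Lgr Lrot126 (Lpe (f27918 IH) (Lpr_bt (K9.f30991 IH) (Lpr_gt (f188008 IH) (Lpr_ct (f187535 IH) (Lpe (f46163 IH) (Lpe (K1.f46203 IH) (Lpr_bt (K1.f47103 IH) (Lpe (f187524 IH) (Lpe (f181183 IH) (Lpr_ct (f190933 IH) (Lpn (LP (LK LD1_c0 LD2_c57 LD3_c20)))))))))))))
theorem f46652 : Led Lsl_ct (LP (LK LD1_c4 LD2_c4 LD3_c59)) = (LP (LK LD1_c4 LD2_c2 LD3_c40)) :=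
  Lgr Lrot59 (Lpr_cf (K1.f46646 IH) (Lpn (LP (LK LD1_c4 LD2_c2 LD3_c40))))
theorem f46662 : Led Lsl_dt (LP (LK LD1_c1 LD2_c59 LD3_c35)) = (LP (LK LD1_c4 LD2_c4 LD3_c59)) :=
  Lre_d IH (LK LD1_c1 LD2_c59 LD3_c35) (LK LD1_c4 LD2_c4 LD3_c59) Lrfl Lrfl
theorem f46905 : Led Lsl_dt (LP (LK LD1_c0 LD2_c25 LD3_c42)) = (LP (LK LD1_c0 LD2_c56 LD3_c42)) :=
  Lre_d IH (LK LD1_c0 LD2_c25 LD3_c42) (LK LD1_c0 LD2_c56 LD3_c42) Lrfl Lrfl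
theorem f46948 : Led Lsl_cf (LP (LK LD1_c0 LD2_c25 LD3_c42)) = (LP (LK LD1_c0 LD2_c55 LD3_c61)) :=
  Lgr Lrot55 (Lpr_dt (f46905 IH) (Lpr_ct (K1.f46633 IH) (Lpr_dt (f46662 IH) (Lpr_ct (f46652 IH) (Lpr_dt (K1.f27841 IH) (Lpr_ct (f27840 IH) (Lpr_dt (K1.f27839 IH) (Lpe (K1.f27832 IH) (Lpr_dt (K1.f27765 IH) (Lpr_ct (K1.f27836 IH) (Lpr_dt (K1.f27837 IH) (Lpr_ct (K1.f27838 IH) (Lpr_dt (K1.f46935 IH) (Lpr_ct (K1.f46947 IH) (Lpr_dt (K1.f46028 IH) (Lpn (LP (LK LD1_c0 LD2_c55 LD3_c61))))))))))))))))))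
theorem f21854 : Led Lsl_gt (LP (LK LD1_c0 LD2_c15 LD3_c10)) = (LP (LK LD1_c0 LD2_c33 LD3_c47)) :=
  Lre_g IH (LK LD1_c0 LD2_c15 LD3_c10) (LK LD1_c0 LD2_c33 LD3_c47) Lrfl Lrfl
theorem f190888 : Led Lsl_cf (LP (LK LD1_c0 LD2_c25 LD3_c49)) = (LP (LK LD1_c0 LD2_c33 LD3_c47)) :=
  Lgr Lrot125 (Lpr_gt (f190880 IH) (Lpr_cf (f46948 IH) (Lpr_bt (K1.f47096 IH) (Lpr_gt (K9.f183889 IH) (Lpe (K9.f165516 IH) (Lpr_ct (K9.f165515 IH) (Lpr_gt (K9.f20474 IH) (Lpe (K8.f22101 IH) (Lpr_bt (K0.f34011 IH) (Lpr_gt (f21854 IH) (Lpn (LP (LK LD1_c0 LD2_c33 LD3_c47)))))))))))))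
theorem f190892 : Led Lsl_bt (LP (LK LD1_c0 LD2_c33 LD3_c47)) = (LP (LK LD1_c1 LD2_c12 LD3_c48)) :=
  Lre_b IH (LK LD1_c0 LD2_c33 LD3_c47) (LK LD1_c1 LD2_c12 LD3_c48) Lrfl Lrfl
theorem f50067 : Led Lsl_ft (LP (LK LD1_c4 LD2_c13 LD3_c43)) = (LP (LK LD1_c2 LD2_c4 LD3_c12)) :=
  Lre_f IH (LK LD1_c4 LD2_c13 LD3_c43) (LK LD1_c2 LD2_c4 LD3_c12) Lrfl Lrfl
theorem f51051 : Led Lsl_cf (LP (LK LD1_c1 LD2_c1 LD3_c8)) = (LP (LK LD1_c2 LD2_c4 LD3_c12)) :=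
  Lgr Lrot108 (Lpr_ft (K9.f30843 IH) (Lpr_ct (f51047 IH) (Lpr_ft (f50067 IH) (Lpn (LP (LK LD1_c2 LD2_c4 LD3_c12))))))
theorem f190893 : Led Lsl_gf (LP (LK LD1_c1 LD2_c12 LD3_c48)) = (LP (LK LD1_c0 LD2_c59 LD3_c9)) :=
  Lgr Lrot124 (Lpe (f190892 IH) (Lpe (f190888 IH) (Lpr_gt (f190880 IH) (Lpr_cf (f46948 IH) (Lpr_bt (K1.f47096 IH) (Lpr_gt (K9.f183889 IH) (Lpr_ct (K9.f171667 IH) (Lpe (K9.f183947 IH) (Lpr_cf (f51051 IH) (Lpr_bt (K9.f50884 IH) (Lpn (LP (LK LD1_c0 LD2_c59 LD3_c9)))))))))))))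
theorem f7032 : Led Lsl_et (LP (LK LD1_c0 LD2_c14 LD3_c35)) = (LP (LK LD1_c0 LD2_c6 LD3_c41)) :=
  Lre_e IH (LK LD1_c0 LD2_c14 LD3_c35) (LK LD1_c0 LD2_c6 LD3_c41) Lrfl Lrfl
theorem f174972 : Led Lsl_cf (LP (LK LD1_c0 LD2_c14 LD3_c35)) = (LP (LK LD1_c0 LD2_c15 LD3_c58)) :=
  Lgr Lrot39 (Lpr_et (f7032 IH) (Lpr_ct (K9.f174961 IH) (Lpr_et (K0.f7737 IH) (Lpn (LP (LK LD1_c0 LD2_c15 LD3_c58))))))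
theorem f8423 : Led Lsl_df (LP (LK LD1_c0 LD2_c15 LD3_c58)) = (LP (LK LD1_c0 LD2_c35 LD3_c29)) :=
  Lgr Lrot38 (Lpr_dt (K0.f8389 IH) (Lpn (LP (LK LD1_c0 LD2_c35 LD3_c29))))
theorem f8526 : Led Lsl_dt (LP (LK LD1_c0 LD2_c17 LD3_c37)) = (LP (LK LD1_c0 LD2_c39 LD3_c22)) :=
  Lre_d IH (LK LD1_c0 LD2_c17 LD3_c37) (LK LD1_c0 LD2_c39 LD3_c22) Lrfl Lrfl
theorem f183207 : Led Lsl_gt (LP (LK LD1_c0 LD2_c15 LD3_c52)) = (LP (LK LD1_c0 LD2_c17 LD3_c37)) :=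
  Lgr Lrot94 (Lpe (f183195 IH) (Lpr_gt (K9.f183204 IH) (Lpr_dt (K2.f47925 IH) (Lpr_gt (K9.f182463 IH) (Lpr_dt (K9.f179889 IH) (Lpr_cf (f174972 IH) (Lpr_df (f8423 IH) (Lpe (K9.f8545 IH) (Lpe (f8526 IH) (Lpn (LP (LK LD1_c0 LD2_c17 LD3_c37))))))))))))
theorem f183194 : Led Lsl_bt (LP (LK LD1_c0 LD2_c35 LD3_c22)) = (LP (LK LD1_c0 LD2_c15 LD3_c52)) :=
  Lre_b IH (LK LD1_c0 LD2_c35 LD3_c22) (LK LD1_c0 LD2_c15 LD3_c52) Lrfl Lrfl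
theorem f190950 : Led Lsl_cf (LP (LK LD1_c1 LD2_c12 LD3_c48)) = (LP (LK LD1_c0 LD2_c35 LD3_c22)) :=
  Lgr Lrot58 (Lpr_gf (f190893 IH) (Lpr_cf (f45710 IH) (Lpr_bt (K9.f43277 IH) (Lpr_gf (f190945 IH) (Lpe (f190932 IH) (Lpe (f186809 IH) (Lpe (K9.f9512 IH) (Lpe (K9.f8450 IH) (Lpe (f183207 IH) (Lpe (f183194 IH) (Lpn (LP (LK LD1_c0 LD2_c35 LD3_c22)))))))))))))
theorem f49482 : Led Lsl_ct (LP (LK LD1_c4 LD2_c13 LD3_c47)) = (LP (LK LD1_c2 LD2_c4 LD3_c14)) :=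
  Lre_c IH (LK LD1_c4 LD2_c13 LD3_c47) (LK LD1_c2 LD2_c4 LD3_c14) Lrfl Lrfl
theorem f49837 : Led Lsl_ef (LP (LK LD1_c4 LD2_c13 LD3_c47)) = (LP (LK LD1_c4 LD2_c7 LD3_c56)) :=
  Lgr Lrot28 (Lpr_ct (f49482 IH) (Lpr_et (K9.f49833 IH) (Lpr_ct (K9.f49124 IH) (Lpn (LP (LK LD1_c4 LD2_c7 LD3_c56))))))
theorem f48945 : Led Lsl_dt (LP (LK LD1_c2 LD2_c35 LD3_c32)) = (LP (LK LD1_c5 LD2_c17 LD3_c34)) :=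
  Lre_d IH (LK LD1_c2 LD2_c35 LD3_c32) (LK LD1_c5 LD2_c17 LD3_c34) Lrfl Lrfl
theorem f48944 : Led Lsl_et (LP (LK LD1_c2 LD2_c35 LD3_c32)) = (LP (LK LD1_c5 LD2_c17 LD3_c35)) :=
  Lre_e IH (LK LD1_c2 LD2_c35 LD3_c32) (LK LD1_c5 LD2_c17 LD3_c35) Lrfl Lrfl
theorem f48319 : Led Lsl_gt (LP (LK LD1_c5 LD2_c17 LD3_c35)) = (LP (LK LD1_c10 LD2_c24 LD3_c49)) :=
  Lre_g IH (LK LD1_c5 LD2_c17 LD3_c35) (LK LD1_c10 LD2_c24 LD3_c49) Lrfl Lrfl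
theorem f47587 : Led Lsl_df (LP (LK LD1_c2 LD2_c34 LD3_c48)) = (LP (LK LD1_c4 LD2_c8 LD3_c14)) :=
  Lgr Lrot38 (Lpr_dt (f47570 IH) (Lpn (LP (LK LD1_c4 LD2_c8 LD3_c14))))
theorem f47660 : Led Lsl_ct (LP (LK LD1_c2 LD2_c34 LD3_c48)) = (LP (LK LD1_c5 LD2_c15 LD3_c56)) :=
  Lre_c IH (LK LD1_c2 LD2_c34 LD3_c48) (LK LD1_c5 LD2_c15 LD3_c56) Lrfl Lrfl
theorem f47582 : Led Lsl_dt (LP (LK LD1_c10 LD2_c21 LD3_c17)) = (LP (LK LD1_c5 LD2_c15 LD3_c56)) :=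
  Lre_d IH (LK LD1_c10 LD2_c21 LD3_c17) (LK LD1_c5 LD2_c15 LD3_c56) Lrfl Lrfl
theorem f47665 : Led Lsl_gt (LP (LK LD1_c18 LD2_c47 LD3_c34)) = (LP (LK LD1_c10 LD2_c21 LD3_c17)) :=
  Lre_g IH (LK LD1_c18 LD2_c47 LD3_c34) (LK LD1_c10 LD2_c21 LD3_c17) Lrfl Lrfl
theorem f48318 : Led Lsl_ct (LP (LK LD1_c5 LD2_c17 LD3_c35)) = (LP (LK LD1_c2 LD2_c35 LD3_c33)) :=
  Lre_c IH (LK LD1_c5 LD2_c17 LD3_c35) (LK LD1_c2 LD2_c35 LD3_c33) Lrfl Lrfl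
theorem f48320 : Led Lsl_df (LP (LK LD1_c18 LD2_c47 LD3_c34)) = (LP (LK LD1_c10 LD2_c24 LD3_c49)) :=
  Lgr Lrot153 (Lpr_gt (f47665 IH) (Lpr_dt (f47582 IH) (Lpe (f47660 IH) (Lpr_df (f47587 IH) (Lpe (f47607 IH) (Lpr_df (f48311 IH) (Lpe (f48299 IH) (Lpe (f48318 IH) (Lpr_gt (f48319 IH) (Lpn (LP (LK LD1_c10 LD2_c24 LD3_c49))))))))))))
theorem f47661 : Led Lsl_dt (LP (LK LD1_c5 LD2_c15 LD3_c56)) = (LP (LK LD1_c10 LD2_c21 LD3_c17)) :=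
  Lre_d IH (LK LD1_c5 LD2_c15 LD3_c56) (LK LD1_c10 LD2_c21 LD3_c17) Lrfl Lrfl
theorem f48943 : Led Lsl_et (LP (LK LD1_c5 LD2_c15 LD3_c56)) = (LP (LK LD1_c2 LD2_c34 LD3_c47)) :=
  Lre_e IH (LK LD1_c5 LD2_c15 LD3_c56) (LK LD1_c2 LD2_c34 LD3_c47) Lrfl Lrfl
theorem f49849 : Led Lsl_gf (LP (LK LD1_c4 LD2_c13 LD3_c47)) = (LP (LK LD1_c2 LD2_c34 LD3_c47)) :=
  Lgr Lrot141 (Lpr_ef (f49837 IH) (Lpr_dt (f49119 IH) (Lpr_gt (f49121 IH) (Lpe (f48945 IH) (Lpr_et (f48944 IH) (Lpr_gt (f48319 IH) (Lpe (f48320 IH) (Lpr_gt (f47665 IH) (Lpe (f47661 IH) (Lpr_et (f48943 IH) (Lpn (LP (LK LD1_c2 LD2_c34 LD3_c47)))))))))))))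
theorem f32868 : Led Lsl_ct (LP (LK LD1_c1 LD2_c14 LD3_c24)) = (LP (LK LD1_c2 LD2_c34 LD3_c47)) :=
  Lre_c IH (LK LD1_c1 LD2_c14 LD3_c24) (LK LD1_c2 LD2_c34 LD3_c47) Lrfl Lrfl
theorem f32343 : Led Lsl_gt (LP (LK LD1_c1 LD2_c14 LD3_c14)) = (LP (LK LD1_c0 LD2_c34 LD3_c28)) :=
  Lre_g IH (LK LD1_c1 LD2_c14 LD3_c14) (LK LD1_c0 LD2_c34 LD3_c28) Lrfl Lrfl
theorem f32908 : Led Lsl_ct (LP (LK LD1_c0 LD2_c34 LD3_c28)) = (LP (LK LD1_c1 LD2_c14 LD3_c20)) :=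
  Lre_c IH (LK LD1_c0 LD2_c34 LD3_c28) (LK LD1_c1 LD2_c14 LD3_c20) Lrfl Lrfl
theorem f49854 : Led Lsl_gf (LP (LK LD1_c0 LD2_c59 LD3_c11)) = (LP (LK LD1_c1 LD2_c14 LD3_c20)) :=
  Lgr Lrot104 (Lpe (f45710 IH) (Lpe (K8.f49205 IH) (Lpe (f49482 IH) (Lpr_gf (f49849 IH) (Lpe (f32868 IH) (Lpe (f32339 IH) (Lpe (K1.f32335 IH) (Lpr_gt (f32343 IH) (Lpr_ct (f32908 IH) (Lpn (LP (LK LD1_c1 LD2_c14 LD3_c20))))))))))))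
theorem f49888 : Led Lsl_bt (LP (LK LD1_c2 LD2_c34 LD3_c37)) = (LP (LK LD1_c1 LD2_c14 LD3_c20)) :=
  Lre_b IH (LK LD1_c2 LD2_c34 LD3_c37) (LK LD1_c1 LD2_c14 LD3_c20) Lrfl Lrfl
theorem f47935 : Led Lsl_gt (LP (LK LD1_c0 LD2_c57 LD3_c17)) = (LP (LK LD1_c2 LD2_c0 LD3_c26)) :=
  Lre_g IH (LK LD1_c0 LD2_c57 LD3_c17) (LK LD1_c2 LD2_c0 LD3_c26) Lrfl Lrfl
theorem f190968 : Led Lsl_ct (LP (LK LD1_c2 LD2_c34 LD3_c37)) = (LP (LK LD1_c2 LD2_c0 LD3_c26)) :=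
  Lgr Lrot10 (Lpr_bt (f49888 IH) (Lpe (f49854 IH) (Lpe (f45710 IH) (Lpe (f190893 IH) (Lpr_cf (f190950 IH) (Lpr_bt (f183194 IH) (Lpr_gt (f183207 IH) (Lpe (K9.f41814 IH) (Lpe (K9.f55926 IH) (Lpr_gt (f47935 IH) (Lpn (LP (LK LD1_c2 LD2_c0 LD3_c26)))))))))))))
theorem f189605 : Led Lsl_gf (LP (LK LD1_c1 LD2_c14 LD3_c20)) = (LP (LK LD1_c2 LD2_c34 LD3_c29)) :=
  Lgr Lrot47 (Lpe (f49854 IH) (Lpr_af (f45073 IH) (Lpr_ff (f189596 IH) (Lpn (LP (LK LD1_c2 LD2_c34 LD3_c29))))))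
theorem f54527 : Led Lsl_gt (LP (LK LD1_c2 LD2_c0 LD3_c26)) = (LP (LK LD1_c0 LD2_c57 LD3_c13)) :=
  Lre_g IH (LK LD1_c2 LD2_c0 LD3_c26) (LK LD1_c0 LD2_c57 LD3_c13) Lrfl Lrfl
theorem f165486 : Led Lsl_ct (LP (LK LD1_c1 LD2_c12 LD3_c60)) = (LP (LK LD1_c0 LD2_c33 LD3_c51)) :=
  Lre_c IH (LK LD1_c1 LD2_c12 LD3_c60) (LK LD1_c0 LD2_c33 LD3_c51) Lrfl Lrfl
theorem f171520 : Led Lsl_gt (LP (LK LD1_c0 LD2_c33 LD3_c51)) = (LP (LK LD1_c1 LD2_c12 LD3_c58)) :=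
  Lre_g IH (LK LD1_c0 LD2_c33 LD3_c51) (LK LD1_c1 LD2_c12 LD3_c58) Lrfl Lrfl
theorem f190976 : Led Lsl_ct (LP (LK LD1_c2 LD2_c31 LD3_c50)) = (LP (LK LD1_c1 LD2_c12 LD3_c58)) :=
  Lre_c IH (LK LD1_c2 LD2_c31 LD3_c50) (LK LD1_c1 LD2_c12 LD3_c58) Lrfl Lrfl
theorem f190977 : Led Lsl_bf (LP (LK LD1_c2 LD2_c34 LD3_c29)) = (LP (LK LD1_c2 LD2_c31 LD3_c50)) :=
  Lgr Lrot156 (Lpe (f189605 IH) (Lpe (f49888 IH) (Lpr_ct (f190968 IH) (Lpr_gt (f54527 IH) (Lpe (K9.f183845 IH) (Lpe (K9.f41787 IH) (Lpr_gt (K9.f183910 IH) (Lpr_ct (f165486 IH) (Lpr_gt (f171520 IH) (Lpe (f190976 IH) (Lpn (LP (LK LD1_c2 LD2_c31 LD3_c50)))))))))))))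
theorem f190990 : Led Lsl_ft (LP (LK LD1_c1 LD2_c55 LD3_c47)) = (LP (LK LD1_c2 LD2_c31 LD3_c50)) :=
  Lgr Lrot75 (Lpr_bf (K9.f50854 IH) (Lpr_ff (f189596 IH) (Lpr_bf (f190977 IH) (Lpn (LP (LK LD1_c2 LD2_c31 LD3_c50))))))
theorem f43243 : Led Lsl_et (LP (LK LD1_c1 LD2_c55 LD3_c47)) = (LP (LK LD1_c0 LD2_c54 LD3_c37)) :=
  Lre_e IH (LK LD1_c1 LD2_c55 LD3_c47) (LK LD1_c0 LD2_c54 LD3_c37) Lrfl Lrfl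
theorem f189592 : Led Lsl_cf (LP (LK LD1_c2 LD2_c4 LD3_c11)) = (LP (LK LD1_c2 LD2_c34 LD3_c29)) :=
  Lgr Lrot11 (Lpr_ct (f189588 IH) (Lpn (LP (LK LD1_c2 LD2_c34 LD3_c29))))
theorem f189594 : Led Lsl_ef (LP (LK LD1_c2 LD2_c34 LD3_c29)) = (LP (LK LD1_c2 LD2_c34 LD3_c29)) :=
  Lgr Lrot28 (Lpe (f189592 IH) (Lpe (K9.f50069 IH) (Lpr_ct (f189588 IH) (Lpn (LP (LK LD1_c2 LD2_c34 LD3_c29))))))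
theorem f190981 : Led Lsl_bt (LP (LK LD1_c2 LD2_c34 LD3_c29)) = (LP (LK LD1_c2 LD2_c31 LD3_c50)) :=
  Lgr Lrot127 (Lpr_bf (f190977 IH) (Lpn (LP (LK LD1_c2 LD2_c31 LD3_c50))))
theorem f190988 : Led Lsl_et (LP (LK LD1_c2 LD2_c31 LD3_c50)) = (LP (LK LD1_c2 LD2_c31 LD3_c50)) :=
  Lgr Lrot74 (Lpe (f190981 IH) (Lpr_ef (f189594 IH) (Lpr_bf (f190977 IH) (Lpn (LP (LK LD1_c2 LD2_c31 LD3_c50))))))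
theorem f191009 : Led Lsl_ff (LP (LK LD1_c1 LD2_c55 LD3_c47)) = (LP (LK LD1_c2 LD2_c31 LD3_c50)) :=
  Lgr Lrot72 (Lpr_et (f43243 IH) (Lpe (K1.f43235 IH) (Lpr_et (K9.f43242 IH) (Lpr_ft (f190990 IH) (Lpr_et (f190988 IH) (Lpn (LP (LK LD1_c2 LD2_c31 LD3_c50))))))))
theorem f27714 : Led Lsl_gt (LP (LK LD1_c2 LD2_c23 LD3_c3)) = (LP (LK LD1_c1 LD2_c8 LD3_c39)) :=
  Lre_g IH (LK LD1_c2 LD2_c23 LD3_c3) (LK LD1_c1 LD2_c8 LD3_c39) Lrfl Lrfl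
theorem f191018 : Led Lsl_gf (LP (LK LD1_c2 LD2_c23 LD3_c3)) = (LP (LK LD1_c2 LD2_c31 LD3_c50)) :=
  Lgr Lrot47 (Lpr_gt (f27714 IH) (Lpr_af (K9.f43246 IH) (Lpr_ff (f191009 IH) (Lpn (LP (LK LD1_c2 LD2_c31 LD3_c50))))))
theorem f171521 : Led Lsl_ct (LP (LK LD1_c1 LD2_c12 LD3_c58)) = (LP (LK LD1_c2 LD2_c31 LD3_c50)) :=
  Lre_c IH (LK LD1_c1 LD2_c12 LD3_c58) (LK LD1_c2 LD2_c31 LD3_c50) Lrfl Lrfl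
theorem f171519 : Led Lsl_bt (LP (LK LD1_c0 LD2_c15 LD3_c11)) = (LP (LK LD1_c0 LD2_c33 LD3_c51)) :=
  Lre_b IH (LK LD1_c0 LD2_c15 LD3_c11) (LK LD1_c0 LD2_c33 LD3_c51) Lrfl Lrfl
theorem f45402 : Led Lsl_gt (LP (LK LD1_c0 LD2_c34 LD3_c28)) = (LP (LK LD1_c0 LD2_c15 LD3_c28)) :=
  Lre_g IH (LK LD1_c0 LD2_c34 LD3_c28) (LK LD1_c0 LD2_c15 LD3_c28) Lrfl Lrfl
theorem f32907 : Led Lsl_bt (LP (LK LD1_c1 LD2_c14 LD3_c19)) = (LP (LK LD1_c0 LD2_c34 LD3_c28)) :=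
  Lre_b IH (LK LD1_c1 LD2_c14 LD3_c19) (LK LD1_c0 LD2_c34 LD3_c28) Lrfl Lrfl
theorem f191026 : Led Lsl_cf (LP (LK LD1_c2 LD2_c23 LD3_c3)) = (LP (LK LD1_c1 LD2_c14 LD3_c19)) :=
  Lgr Lrot163 (Lpr_gf (f191018 IH) (Lpe (f171521 IH) (Lpe (f171520 IH) (Lpe (f171519 IH) (Lpe (K9.f171512 IH) (Lpe (K9.f31444 IH) (Lpe (K1.f28429 IH) (Lpr_bt (K1.f32260 IH) (Lpe (f45402 IH) (Lpe (f32907 IH) (Lpn (LP (LK LD1_c1 LD2_c14 LD3_c19)))))))))))))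
theorem f43219 : Led Lsl_ct (LP (LK LD1_c0 LD2_c54 LD3_c39)) = (LP (LK LD1_c1 LD2_c8 LD3_c39)) :=
  Lgr Lrot15 (Lpe (K9.f43218 IH) (Lpr_cf (K1.f43214 IH) (Lpe (K0.f27578 IH) (Lpn (LP (LK LD1_c1 LD2_c8 LD3_c39))))))
theorem f44989 : Led Lsl_gt (LP (LK LD1_c0 LD2_c57 LD3_c38)) = (LP (LK LD1_c2 LD2_c1 LD3_c6)) :=
  Lre_g IH (LK LD1_c0 LD2_c57 LD3_c38) (LK LD1_c2 LD2_c1 LD3_c6) Lrfl Lrfl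
theorem f32906 : Led Lsl_gt (LP (LK LD1_c1 LD2_c14 LD3_c44)) = (LP (LK LD1_c2 LD2_c35 LD3_c14)) :=
  Lre_g IH (LK LD1_c1 LD2_c14 LD3_c44) (LK LD1_c2 LD2_c35 LD3_c14) Lrfl Lrfl
theorem f191037 : Led Lsl_ct (LP (LK LD1_c2 LD2_c1 LD3_c6)) = (LP (LK LD1_c1 LD2_c14 LD3_c44)) :=
  Lgr Lrot91 (Lpe (f44989 IH) (Lpe (K9.f50805 IH) (Lpr_ct (f43219 IH) (Lpe (f27714 IH) (Lpr_cf (f191026 IH) (Lpr_bt (f32907 IH) (Lpe (f32343 IH) (Lpe (K1.f32276 IH) (Lpr_ct (f32164 IH) (Lpe (f32906 IH) (Lpn (LP (LK LD1_c1 LD2_c14 LD3_c44)))))))))))))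
theorem f50068 : Led Lsl_ft (LP (LK LD1_c2 LD2_c4 LD3_c12)) = (LP (LK LD1_c4 LD2_c13 LD3_c43)) :=
  Lre_f IH (LK LD1_c2 LD2_c4 LD3_c12) (LK LD1_c4 LD2_c13 LD3_c43) Lrfl Lrfl
theorem f43282 : Led Lsl_ct (LP (LK LD1_c1 LD2_c9 LD3_c48)) = (LP (LK LD1_c2 LD2_c25 LD3_c2)) :=
  Lre_c IH (LK LD1_c1 LD2_c9 LD3_c48) (LK LD1_c2 LD2_c25 LD3_c2) Lrfl Lrfl
theorem f43427 : Led Lsl_af (LP (LK LD1_c1 LD2_c9 LD3_c48)) = (LP (LK LD1_c1 LD2_c9 LD3_c44)) :=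
  Lgr Lrot68 (Lpr_ct (f43282 IH) (Lpr_at (K9.f43411 IH) (Lpr_ct (K9.f43351 IH) (Lpn (LP (LK LD1_c1 LD2_c9 LD3_c44))))))
theorem f50844 : Led Lsl_af (LP (LK LD1_c2 LD2_c24 LD3_c54)) = (LP (LK LD1_c4 LD2_c13 LD3_c43)) :=
  Lgr Lrot36 (Lpr_bt (K9.f43347 IH) (Lpe (f43427 IH) (Lpr_bt (K9.f50837 IH) (Lpr_at (K9.f49445 IH) (Lpr_bt (K9.f49541 IH) (Lpn (LP (LK LD1_c4 LD2_c13 LD3_c43))))))))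
theorem f187877 : Led Lsl_gf (LP (LK LD1_c2 LD2_c24 LD3_c54)) = (LP (LK LD1_c1 LD2_c59 LD3_c45)) :=
  Lgr Lrot76 (Lpr_af (f50844 IH) (Lpe (f50068 IH) (Lpr_gt (f187875 IH) (Lpn (LP (LK LD1_c1 LD2_c59 LD3_c45))))))
theorem f191047 : Led Lsl_bt (LP (LK LD1_c2 LD2_c1 LD3_c6)) = (LP (LK LD1_c1 LD2_c59 LD3_c45)) :=
  Lgr Lrot130 (Lpr_ct (f191037 IH) (Lpe (f32086 IH) (Lpe (f32247 IH) (Lpr_bt (K0.f32061 IH) (Lpe (f184884 IH) (Lpe (f183960 IH) (Lpr_ct (K9.f171667 IH) (Lpe (f183952 IH) (Lpr_cf (K9.f50751 IH) (Lpr_gf (f187877 IH) (Lpn (LP (LK LD1_c1 LD2_c59 LD3_c45)))))))))))))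
theorem f191041 : Led Lsl_cf (LP (LK LD1_c2 LD2_c1 LD3_c6)) = (LP (LK LD1_c1 LD2_c14 LD3_c44)) :=
  Lgr Lrot11 (Lpr_ct (f191037 IH) (Lpn (LP (LK LD1_c1 LD2_c14 LD3_c44))))
theorem f46221 : Led Lsl_ct (LP (LK LD1_c1 LD2_c59 LD3_c45)) = (LP (LK LD1_c0 LD2_c56 LD3_c48)) :=
  Lre_c IH (LK LD1_c1 LD2_c59 LD3_c45) (LK LD1_c0 LD2_c56 LD3_c48) Lrfl Lrfl
theorem f191049 : Led Lsl_bf (LP (LK LD1_c1 LD2_c14 LD3_c44)) = (LP (LK LD1_c2 LD2_c0 LD3_c25)) :=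
  Lgr Lrot90 (Lpe (f191041 IH) (Lpr_bt (f191047 IH) (Lpr_ct (f46221 IH) (Lpr_bt (f182523 IH) (Lpe (K9.f182520 IH) (Lpn (LP (LK LD1_c2 LD2_c0 LD3_c25))))))))
theorem f191098 : Led Lsl_gt (LP (LK LD1_c2 LD2_c4 LD3_c55)) = (LP (LK LD1_c1 LD2_c59 LD3_c44)) :=
  Lgr Lrot65 (Lpe (f45242 IH) (Lpr_bt (f45689 IH) (Lpe (f45107 IH) (Lpr_bf (f189855 IH) (Lpr_ct (K9.f49099 IH) (Lpe (K9.f32172 IH) (Lpe (f32165 IH) (Lpe (f32906 IH) (Lpr_bf (f191049 IH) (Lpr_ct (f182524 IH) (Lpn (LP (LK LD1_c1 LD2_c59 LD3_c44)))))))))))))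
theorem f47934 : Led Lsl_ft (LP (LK LD1_c0 LD2_c25 LD3_c61)) = (LP (LK LD1_c0 LD2_c57 LD3_c17)) :=
  Lre_f IH (LK LD1_c0 LD2_c25 LD3_c61) (LK LD1_c0 LD2_c57 LD3_c17) Lrfl Lrfl
theorem f41819 : Led Lsl_ft (LP (LK LD1_c0 LD2_c39 LD3_c12)) = (LP (LK LD1_c0 LD2_c17 LD3_c33)) :=
  Lre_f IH (LK LD1_c0 LD2_c39 LD3_c12) (LK LD1_c0 LD2_c17 LD3_c33) Lrfl Lrfl
theorem f187782 : Led Lsl_ct (LP (LK LD1_c0 LD2_c57 LD3_c17)) = (LP (LK LD1_c0 LD2_c39 LD3_c12)) :=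
  Lgr Lrot40 (Lpe (f47934 IH) (Lpr_cf (f187773 IH) (Lpe (f41819 IH) (Lpn (LP (LK LD1_c0 LD2_c39 LD3_c12))))))
theorem f41818 : Led Lsl_dt (LP (LK LD1_c1 LD2_c25 LD3_c7)) = (LP (LK LD1_c0 LD2_c39 LD3_c12)) :=
  Lre_d IH (LK LD1_c1 LD2_c25 LD3_c7) (LK LD1_c0 LD2_c39 LD3_c12) Lrfl Lrfl
theorem f8547 : Led Lsl_ct (LP (LK LD1_c2 LD2_c58 LD3_c49)) = (LP (LK LD1_c1 LD2_c25 LD3_c7)) :=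
  Lre_c IH (LK LD1_c2 LD2_c58 LD3_c49) (LK LD1_c1 LD2_c25 LD3_c7) Lrfl Lrfl
theorem f191100 : Led Lsl_gt (LP (LK LD1_c4 LD2_c15 LD3_c3)) = (LP (LK LD1_c4 LD2_c5 LD3_c17)) :=
  Lgr Lrot9 (Lpe (K9.f8089 IH) (Lpr_gt (f191098 IH) (Lpe (K9.f182520 IH) (Lpr_gt (K9.f47937 IH) (Lpr_ct (f187782 IH) (Lpe (f41818 IH) (Lpe (f8547 IH) (Lpe (K9.f8549 IH) (Lpr_cf (K9.f182551 IH) (Lpn (LP (LK LD1_c4 LD2_c5 LD3_c17))))))))))))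
theorem f8475 : Led Lsl_bt (LP (LK LD1_c1 LD2_c16 LD3_c38)) = (LP (LK LD1_c0 LD2_c35 LD3_c29)) :=
  Lre_b IH (LK LD1_c1 LD2_c16 LD3_c38) (LK LD1_c0 LD2_c35 LD3_c29) Lrfl Lrfl
theorem f8551 : Led Lsl_ct (LP (LK LD1_c1 LD2_c16 LD3_c38)) = (LP (LK LD1_c2 LD2_c39 LD3_c46)) :=
  Lre_c IH (LK LD1_c1 LD2_c16 LD3_c38) (LK LD1_c2 LD2_c39 LD3_c46) Lrfl Lrfl
theorem f191177 : Led Lsl_gf (LP (LK LD1_c5 LD2_c16 LD3_c61)) = (LP (LK LD1_c2 LD2_c39 LD3_c46)) :=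
  Lgr Lrot126 (Lpe (f54061 IH) (Lpr_bt (f54059 IH) (Lpr_gt (f191100 IH) (Lpe (K9.f182551 IH) (Lpr_gt (K9.f8549 IH) (Lpe (K9.f8523 IH) (Lpr_bt (K9.f8522 IH) (Lpr_gt (K9.f8545 IH) (Lpe (f8475 IH) (Lpr_ct (f8551 IH) (Lpn (LP (LK LD1_c2 LD2_c39 LD3_c46)))))))))))))
theorem f32921 : Led Lsl_gt (LP (LK LD1_c1 LD2_c14 LD3_c39)) = (LP (LK LD1_c0 LD2_c34 LD3_c38)) :=
  Lre_g IH (LK LD1_c1 LD2_c14 LD3_c39) (LK LD1_c0 LD2_c34 LD3_c38) Lrfl Lrfl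
theorem f8481 : Led Lsl_bt (LP (LK LD1_c0 LD2_c35 LD3_c25)) = (LP (LK LD1_c0 LD2_c15 LD3_c53)) :=
  Lre_b IH (LK LD1_c0 LD2_c35 LD3_c25) (LK LD1_c0 LD2_c15 LD3_c53) Lrfl Lrfl
theorem f32109 : Led Lsl_gt (LP (LK LD1_c0 LD2_c34 LD3_c45)) = (LP (LK LD1_c1 LD2_c14 LD3_c39)) :=
  Lre_g IH (LK LD1_c0 LD2_c34 LD3_c45) (LK LD1_c1 LD2_c14 LD3_c39) Lrfl Lrfl
theorem f190250 : Led Lsl_ct (LP (LK LD1_c0 LD2_c35 LD3_c25)) = (LP (LK LD1_c1 LD2_c14 LD3_c39)) :=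
  Lgr Lrot10 (Lpr_bt (f8481 IH) (Lpr_gt (K9.f8472 IH) (Lpe (K0.f8433 IH) (Lpr_gt (K0.f8384 IH) (Lpr_cf (K9.f183871 IH) (Lpr_bt (f183880 IH) (Lpr_gt (f190226 IH) (Lpe (K1.f32084 IH) (Lpr_ct (K9.f32108 IH) (Lpr_gt (f32109 IH) (Lpn (LP (LK LD1_c1 LD2_c14 LD3_c39)))))))))))))
theorem f191103 : Led Lsl_gf (LP (LK LD1_c0 LD2_c35 LD3_c25)) = (LP (LK LD1_c0 LD2_c57 LD3_c46)) :=
  Lgr Lrot181 (Lpr_ct (f190250 IH) (Lpr_gt (f32921 IH) (Lpe (K9.f32421 IH) (Lpr_bt (K9.f54063 IH) (Lpr_gt (f191098 IH) (Lpe (f182523 IH) (Lpr_ct (f182522 IH) (Lpe (f187877 IH) (Lpe (K9.f50757 IH) (Lpr_bt (f49611 IH) (Lpn (LP (LK LD1_c0 LD2_c57 LD3_c46)))))))))))))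
theorem f191183 : Led Lsl_gt (LP (LK LD1_c2 LD2_c1 LD3_c25)) = (LP (LK LD1_c1 LD2_c16 LD3_c38)) :=
  Lgr Lrot9 (Lpe (K9.f49676 IH) (Lpe (f191103 IH) (Lpr_ct (f190250 IH) (Lpr_gt (f32921 IH) (Lpr_ct (K9.f32433 IH) (Lpe (K9.f32427 IH) (Lpe (f54055 IH) (Lpr_gf (f191177 IH) (Lpe (f8551 IH) (Lpn (LP (LK LD1_c1 LD2_c16 LD3_c38))))))))))))
theorem f49421 : Led Lsl_ft (LP (LK LD1_c2 LD2_c1 LD3_c25)) = (LP (LK LD1_c0 LD2_c57 LD3_c45)) :=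
  Lre_f IH (LK LD1_c2 LD2_c1 LD3_c25) (LK LD1_c0 LD2_c57 LD3_c45) Lrfl Lrfl
theorem f191309 : Led Lsl_gf (LP (LK LD1_c0 LD2_c57 LD3_c40)) = (LP (LK LD1_c1 LD2_c16 LD3_c38)) :=
  Lgr Lrot76 (Lpr_af (K9.f49594 IH) (Lpe (f49421 IH) (Lpr_gt (f191183 IH) (Lpn (LP (LK LD1_c1 LD2_c16 LD3_c38))))))
theorem f49787 : Led Lsl_gt (LP (LK LD1_c2 LD2_c1 LD3_c13)) = (LP (LK LD1_c4 LD2_c7 LD3_c41)) :=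
  Lre_g IH (LK LD1_c2 LD2_c1 LD3_c13) (LK LD1_c4 LD2_c7 LD3_c41) Lrfl Lrfl
theorem f8418 : Led Lsl_bt (LP (LK LD1_c0 LD2_c35 LD3_c29)) = (LP (LK LD1_c1 LD2_c16 LD3_c38)) :=
  Lre_b IH (LK LD1_c0 LD2_c35 LD3_c29) (LK LD1_c1 LD2_c16 LD3_c38) Lrfl Lrfl
theorem f182538 : Led Lsl_gf (LP (LK LD1_c1 LD2_c16 LD3_c39)) = (LP (LK LD1_c2 LD2_c0 LD3_c53)) :=
  Lgr Lrot47 (Lpr_gt (K9.f182517 IH) (Lpr_af (K1.f55343 IH) (Lpe (K1.f54844 IH) (Lpn (LP (LK LD1_c2 LD2_c0 LD3_c53))))))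
theorem f55035 : Led Lsl_bt (LP (LK LD1_c0 LD2_c57 LD3_c25)) = (LP (LK LD1_c2 LD2_c0 LD3_c40)) :=
  Lre_b IH (LK LD1_c0 LD2_c57 LD3_c25) (LK LD1_c2 LD2_c0 LD3_c40) Lrfl Lrfl
theorem f47901 : Led Lsl_gt (LP (LK LD1_c4 LD2_c6 LD3_c14)) = (LP (LK LD1_c2 LD2_c0 LD3_c40)) :=
  Lre_g IH (LK LD1_c4 LD2_c6 LD3_c14) (LK LD1_c2 LD2_c0 LD3_c40) Lrfl Lrfl
theorem f190090 : Led Lsl_bf (LP (LK LD1_c4 LD2_c6 LD3_c14)) = (LP (LK LD1_c2 LD2_c35 LD3_c27)) :=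
  Lgr Lrot24 (Lpr_bt (f190088 IH) (Lpn (LP (LK LD1_c2 LD2_c35 LD3_c27))))
theorem f191349 : Led Lsl_cf (LP (LK LD1_c4 LD2_c7 LD3_c41)) = (LP (LK LD1_c2 LD2_c35 LD3_c27)) :=
  Lgr Lrot163 (Lpe (f49787 IH) (Lpe (K9.f49799 IH) (Lpr_gf (f191309 IH) (Lpe (f8418 IH) (Lpr_ct (K9.f8421 IH) (Lpr_gf (f182538 IH) (Lpe (K1.f55389 IH) (Lpr_bt (f55035 IH) (Lpe (f47901 IH) (Lpr_bf (f190090 IH) (Lpn (LP (LK LD1_c2 LD2_c35 LD3_c27)))))))))))))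
theorem f191355 : Led Lsl_ct (LP (LK LD1_c4 LD2_c7 LD3_c41)) = (LP (LK LD1_c2 LD2_c35 LD3_c27)) :=
  Lgr Lrot59 (Lpr_cf (f191349 IH) (Lpn (LP (LK LD1_c2 LD2_c35 LD3_c27))))
theorem f49673 : Led Lsl_gt (LP (LK LD1_c4 LD2_c7 LD3_c44)) = (LP (LK LD1_c8 LD2_c15 LD3_c33)) :=
  Lre_g IH (LK LD1_c4 LD2_c7 LD3_c44) (LK LD1_c8 LD2_c15 LD3_c33) Lrfl Lrfl
theorem f187729 : Led Lsl_ft (LP (LK LD1_c10 LD2_c23 LD3_c38)) = (LP (LK LD1_c5 LD2_c18 LD3_c14)) :=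
  Lre_f IH (LK LD1_c10 LD2_c23 LD3_c38) (LK LD1_c5 LD2_c18 LD3_c14) Lrfl Lrfl
theorem f187730 : Led Lsl_df (LP (LK LD1_c6 LD2_c5 LD3_c59)) = (LP (LK LD1_c5 LD2_c18 LD3_c14)) :=
  Lgr Lrot78 (Lpr_ft (f187642 IH) (Lpr_dt (f165903 IH) (Lpr_ft (f187729 IH) (Lpn (LP (LK LD1_c5 LD2_c18 LD3_c14))))))
theorem f187650 : Led Lsl_ct (LP (LK LD1_c2 LD2_c35 LD3_c47)) = (LP (LK LD1_c5 LD2_c18 LD3_c14)) :=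
  Lre_c IH (LK LD1_c2 LD2_c35 LD3_c47) (LK LD1_c5 LD2_c18 LD3_c14) Lrfl Lrfl
theorem f48408 : Led Lsl_gt (LP (LK LD1_c5 LD2_c18 LD3_c13)) = (LP (LK LD1_c2 LD2_c35 LD3_c47)) :=
  Lre_g IH (LK LD1_c5 LD2_c18 LD3_c13) (LK LD1_c2 LD2_c35 LD3_c47) Lrfl Lrfl
theorem f191461 : Led Lsl_ct (LP (LK LD1_c8 LD2_c15 LD3_c33)) = (LP (LK LD1_c5 LD2_c18 LD3_c13)) :=
  Lgr Lrot152 (Lpe (f49673 IH) (Lpe (K9.f49790 IH) (Lpr_gt (f49787 IH) (Lpr_ct (f191355 IH) (Lpr_gt (f32899 IH) (Lpe (f187495 IH) (Lpr_df (f187730 IH) (Lpe (f187650 IH) (Lpe (f48408 IH) (Lpn (LP (LK LD1_c5 LD2_c18 LD3_c13))))))))))))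
theorem f191485 : Led Lsl_cf (LP (LK LD1_c8 LD2_c15 LD3_c33)) = (LP (LK LD1_c5 LD2_c18 LD3_c13)) :=
  Lgr Lrot11 (Lpr_ct (f191461 IH) (Lpn (LP (LK LD1_c5 LD2_c18 LD3_c13))))
theorem f49674 : Led Lsl_gt (LP (LK LD1_c8 LD2_c15 LD3_c33)) = (LP (LK LD1_c8 LD2_c16 LD3_c20)) :=
  Lgr Lrot46 (Lpe (f49673 IH) (Lpr_ft (K9.f49575 IH) (Lpr_at (K9.f49659 IH) (Lpn (LP (LK LD1_c8 LD2_c16 LD3_c20))))))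
theorem f49644 : Led Lsl_cf (LP (LK LD1_c8 LD2_c15 LD3_c9)) = (LP (LK LD1_c8 LD2_c16 LD3_c20)) :=
  Lgr Lrot11 (Lpr_ct (K9.f49636 IH) (Lpn (LP (LK LD1_c8 LD2_c16 LD3_c20))))
theorem f45021 : Led Lsl_dt (LP (LK LD1_c8 LD2_c15 LD3_c9)) = (LP (LK LD1_c4 LD2_c7 LD3_c35)) :=
  Lre_d IH (LK LD1_c8 LD2_c15 LD3_c9) (LK LD1_c4 LD2_c7 LD3_c35) Lrfl Lrfl
theorem f45012 : Led Lsl_gt (LP (LK LD1_c4 LD2_c7 LD3_c34)) = (LP (LK LD1_c2 LD2_c1 LD3_c8)) :=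
  Lre_g IH (LK LD1_c4 LD2_c7 LD3_c34) (LK LD1_c2 LD2_c1 LD3_c8) Lrfl Lrfl
theorem f48392 : Led Lsl_gt (LP (LK LD1_c10 LD2_c23 LD3_c60)) = (LP (LK LD1_c5 LD2_c18 LD3_c13)) :=
  Lre_g IH (LK LD1_c10 LD2_c23 LD3_c60) (LK LD1_c5 LD2_c18 LD3_c13) Lrfl Lrfl
theorem f48391 : Led Lsl_dt (LP (LK LD1_c5 LD2_c17 LD3_c9)) = (LP (LK LD1_c10 LD2_c23 LD3_c60)) :=
  Lre_d IH (LK LD1_c5 LD2_c17 LD3_c9) (LK LD1_c10 LD2_c23 LD3_c60) Lrfl Lrfl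
theorem f32523 : Led Lsl_gt (LP (LK LD1_c5 LD2_c17 LD3_c9)) = (LP (LK LD1_c2 LD2_c35 LD3_c45)) :=
  Lre_g IH (LK LD1_c5 LD2_c17 LD3_c9) (LK LD1_c2 LD2_c35 LD3_c45) Lrfl Lrfl
theorem f191516 : Led Lsl_cf (LP (LK LD1_c4 LD2_c7 LD3_c34)) = (LP (LK LD1_c2 LD2_c35 LD3_c45)) :=
  Lgr Lrot169 (Lpr_gt (f45012 IH) (Lpr_ct (K9.f45005 IH) (Lpe (f45021 IH) (Lpr_cf (f49644 IH) (Lpe (f49674 IH) (Lpr_cf (f191485 IH) (Lpe (f48392 IH) (Lpe (f48391 IH) (Lpr_gt (f32523 IH) (Lpn (LP (LK LD1_c2 LD2_c35 LD3_c45))))))))))))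
theorem f191519 : Led Lsl_ct (LP (LK LD1_c4 LD2_c7 LD3_c34)) = (LP (LK LD1_c2 LD2_c35 LD3_c45)) :=
  Lgr Lrot59 (Lpr_cf (f191516 IH) (Lpn (LP (LK LD1_c2 LD2_c35 LD3_c45))))
theorem f49549 : Led Lsl_af (LP (LK LD1_c2 LD2_c1 LD3_c8)) = (LP (LK LD1_c2 LD2_c1 LD3_c19)) :=
  Lgr Lrot0 (Lpr_at (K8.f49547 IH) (Lpn (LP (LK LD1_c2 LD2_c1 LD3_c19))))
theorem f53602 : Led Lsl_gf (LP (LK LD1_c4 LD2_c7 LD3_c34)) = (LP (LK LD1_c4 LD2_c7 LD3_c57)) :=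
  Lgr Lrot47 (Lpr_gt (f45012 IH) (Lpr_af (f49549 IH) (Lpe (K9.f49819 IH) (Lpn (LP (LK LD1_c4 LD2_c7 LD3_c57))))))
theorem f49553 : Led Lsl_af (LP (LK LD1_c0 LD2_c57 LD3_c38)) = (LP (LK LD1_c0 LD2_c57 LD3_c43)) :=
  Lgr Lrot117 (Lpr_dt (K8.f44966 IH) (Lpr_at (K8.f49547 IH) (Lpr_dt (K9.f49117 IH) (Lpn (LP (LK LD1_c0 LD2_c57 LD3_c43))))))
theorem f44993 : Led Lsl_gt (LP (LK LD1_c2 LD2_c1 LD3_c7)) = (LP (LK LD1_c0 LD2_c57 LD3_c38)) :=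
  Lre_g IH (LK LD1_c2 LD2_c1 LD3_c7) (LK LD1_c0 LD2_c57 LD3_c38) Lrfl Lrfl
theorem f53595 : Led Lsl_gf (LP (LK LD1_c2 LD2_c1 LD3_c7)) = (LP (LK LD1_c2 LD2_c1 LD3_c20)) :=
  Lgr Lrot47 (Lpr_gt (f44993 IH) (Lpr_af (f49553 IH) (Lpe (K9.f50761 IH) (Lpn (LP (LK LD1_c2 LD2_c1 LD3_c20))))))
theorem f48933 : Led Lsl_gt (LP (LK LD1_c2 LD2_c35 LD3_c45)) = (LP (LK LD1_c1 LD2_c14 LD3_c55)) :=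
  Lre_g IH (LK LD1_c2 LD2_c35 LD3_c45) (LK LD1_c1 LD2_c14 LD3_c55) Lrfl Lrfl
theorem f33096 : Led Lsl_dt (LP (LK LD1_c0 LD2_c15 LD3_c34)) = (LP (LK LD1_c0 LD2_c34 LD3_c44)) :=
  Lre_d IH (LK LD1_c0 LD2_c15 LD3_c34) (LK LD1_c0 LD2_c34 LD3_c44) Lrfl Lrfl
theorem f32091 : Led Lsl_gt (LP (LK LD1_c1 LD2_c14 LD3_c45)) = (LP (LK LD1_c0 LD2_c34 LD3_c41)) :=
  Lre_g IH (LK LD1_c1 LD2_c14 LD3_c45) (LK LD1_c0 LD2_c34 LD3_c41) Lrfl Lrfl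
theorem f191559 : Led Lsl_ct (LP (LK LD1_c2 LD2_c1 LD3_c7)) = (LP (LK LD1_c1 LD2_c14 LD3_c45)) :=
  Lgr Lrot152 (Lpr_gf (f53595 IH) (Lpe (K9.f49791 IH) (Lpe (f53602 IH) (Lpr_ct (f191519 IH) (Lpr_gt (f48933 IH) (Lpr_ct (f48330 IH) (Lpe (f33096 IH) (Lpe (K0.f32062 IH) (Lpe (f32091 IH) (Lpn (LP (LK LD1_c1 LD2_c14 LD3_c45))))))))))))
theorem f185584 : Led Lsl_bt (LP (LK LD1_c0 LD2_c33 LD3_c60)) = (LP (LK LD1_c0 LD2_c15 LD3_c15)) :=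
  Lre_b IH (LK LD1_c0 LD2_c33 LD3_c60) (LK LD1_c0 LD2_c15 LD3_c15) Lrfl Lrfl
theorem f192111 : Led Lsl_cf (LP (LK LD1_c0 LD2_c33 LD3_c8)) = (LP (LK LD1_c0 LD2_c33 LD3_c60)) :=
  Lgr Lrot160 (Lpe (f184875 IH) (Lpe (K9.f43351 IH) (Lpe (K9.f50759 IH) (Lpe (f53595 IH) (Lpr_ct (f191559 IH) (Lpr_gt (f32091 IH) (Lpe (f32247 IH) (Lpr_bt (K0.f32061 IH) (Lpe (f185574 IH) (Lpe (f185584 IH) (Lpn (LP (LK LD1_c0 LD2_c33 LD3_c60)))))))))))))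
theorem f43302 : Led Lsl_ft (LP (LK LD1_c0 LD2_c32 LD3_c18)) = (LP (LK LD1_c1 LD2_c9 LD3_c48)) :=
  Lre_f IH (LK LD1_c0 LD2_c32 LD3_c18) (LK LD1_c1 LD2_c9 LD3_c48) Lrfl Lrfl
theorem f184877 : Led Lsl_gt (LP (LK LD1_c0 LD2_c32 LD3_c18)) = (LP (LK LD1_c0 LD2_c33 LD3_c8)) :=
  Lgr Lrot5 (Lpr_ft (f43302 IH) (Lpr_at (f43792 IH) (Lpr_gf (f184875 IH) (Lpn (LP (LK LD1_c0 LD2_c33 LD3_c8))))))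
theorem f31460 : Led Lsl_bt (LP (LK LD1_c1 LD2_c9 LD3_c45)) = (LP (LK LD1_c0 LD2_c54 LD3_c38)) :=
  Lgr Lrot127 (Lpr_bf (K1.f31458 IH) (Lpn (LP (LK LD1_c0 LD2_c54 LD3_c38))))
theorem f28371 : Led Lsl_bt (LP (LK LD1_c0 LD2_c14 LD3_c55)) = (LP (LK LD1_c0 LD2_c33 LD3_c10)) :=
  Lre_b IH (LK LD1_c0 LD2_c14 LD3_c55) (LK LD1_c0 LD2_c33 LD3_c10) Lrfl Lrfl
theorem f192121 : Led Lsl_gf (LP (LK LD1_c0 LD2_c54 LD3_c38)) = (LP (LK LD1_c0 LD2_c33 LD3_c10)) :=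
  Lgr Lrot124 (Lpe (f31460 IH) (Lpr_ct (K9.f31462 IH) (Lpr_gt (f184877 IH) (Lpr_cf (f192111 IH) (Lpr_bt (f185584 IH) (Lpe (f179002 IH) (Lpe (K1.f32290 IH) (Lpe (K9.f31615 IH) (Lpe (K8.f28363 IH) (Lpr_bt (f28371 IH) (Lpn (LP (LK LD1_c0 LD2_c33 LD3_c10)))))))))))))
theorem f43909 : Led Lsl_dt (LP (LK LD1_c0 LD2_c24 LD3_c40)) = (LP (LK LD1_c0 LD2_c14 LD3_c27)) :=
  Lgr Lrot44 (Lpr_af (K1.f43223 IH) (Lpr_df (K1.f43907 IH) (Lpe (K1.f43321 IH) (Lpn (LP (LK LD1_c0 LD2_c14 LD3_c27))))))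
theorem f47517 : Led Lsl_df (LP (LK LD1_c0 LD2_c26 LD3_c14)) = (LP (LK LD1_c0 LD2_c34 LD3_c35)) :=
  Lgr Lrot43 (Lpr_ct (K1.f47508 IH) (Lpr_dt (K1.f44443 IH) (Lpr_ct (K1.f31433 IH) (Lpe (K1.f43907 IH) (Lpr_ct (K1.f43216 IH) (Lpr_dt (K0.f27726 IH) (Lpe (K1.f44562 IH) (Lpr_dt (K1.f30841 IH) (Lpe (K1.f44515 IH) (Lpr_dt (K1.f44568 IH) (Lpr_ct (K1.f43320 IH) (Lpr_dt (K1.f44317 IH) (Lpr_ct (K1.f31438 IH) (Lpe (K8.f43244 IH) (Lpe (K8.f47481 IH) (Lpn (LP (LK LD1_c0 LD2_c34 LD3_c35))))))))))))))))))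
theorem f47488 : Led Lsl_gf (LP (LK LD1_c0 LD2_c34 LD3_c35)) = (LP (LK LD1_c0 LD2_c15 LD3_c37)) :=
  Lgr Lrot147 (Lpr_ct (K1.f47474 IH) (Lpr_gt (K1.f44540 IH) (Lpr_ct (K1.f31433 IH) (Lpe (K1.f43911 IH) (Lpr_cf (K1.f43214 IH) (Lpe (K1.f45785 IH) (Lpr_cf (K8.f45792 IH) (Lpr_gf (K1.f45734 IH) (Lpe (K1.f44042 IH) (Lpn (LP (LK LD1_c0 LD2_c15 LD3_c37))))))))))))
theorem f47490 : Led Lsl_gf (LP (LK LD1_c0 LD2_c15 LD3_c38)) = (LP (LK LD1_c0 LD2_c34 LD3_c35)) :=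
  Lgr Lrot126 (Lpe (K1.f28311 IH) (Lpr_bt (K1.f28239 IH) (Lpe (f47488 IH) (Lpr_ct (K1.f47474 IH) (Lpr_gt (K1.f44540 IH) (Lpe (K1.f31455 IH) (Lpr_bt (K1.f44961 IH) (Lpr_gt (K1.f27391 IH) (Lpe (K1.f27394 IH) (Lpe (K8.f47481 IH) (Lpn (LP (LK LD1_c0 LD2_c34 LD3_c35)))))))))))))
theorem f47808 : Led Lsl_df (LP (LK LD1_c0 LD2_c14 LD3_c29)) = (LP (LK LD1_c0 LD2_c25 LD3_c45)) :=
  Lgr Lrot162 (Lpe (K1.f41291 IH) (Lpr_gf (K1.f44299 IH) (Lpe (K1.f3099 IH) (Lpr_gf (f47490 IH) (Lpe (f47517 IH) (Lpr_gt (K1.f47801 IH) (Lpr_ct (K1.f28731 IH) (Lpr_gt (K1.f6853 IH) (Lpe (K1.f46229 IH) (Lpn (LP (LK LD1_c0 LD2_c25 LD3_c45))))))))))))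
theorem f46242 : Led Lsl_dt (LP (LK LD1_c1 LD2_c59 LD3_c40)) = (LP (LK LD1_c4 LD2_c5 LD3_c2)) :=
  Lre_d IH (LK LD1_c1 LD2_c59 LD3_c40) (LK LD1_c4 LD2_c5 LD3_c2) Lrfl Lrfl
theorem f192133 : Led Lsl_et (LP (LK LD1_c1 LD2_c11 LD3_c40)) = (LP (LK LD1_c0 LD2_c33 LD3_c10)) :=
  Lre_e IH (LK LD1_c1 LD2_c11 LD3_c40) (LK LD1_c0 LD2_c33 LD3_c10) Lrfl Lrfl
theorem f192134 : Led Lsl_dt (LP (LK LD1_c1 LD2_c11 LD3_c40)) = (LP (LK LD1_c2 LD2_c29 LD3_c4)) :=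
  Lre_d IH (LK LD1_c1 LD2_c11 LD3_c40) (LK LD1_c2 LD2_c29 LD3_c4) Lrfl Lrfl
theorem f192136 : Led Lsl_gt (LP (LK LD1_c4 LD2_c5 LD3_c2)) = (LP (LK LD1_c2 LD2_c29 LD3_c4)) :=
  Lgr Lrot139 (Lpe (f46242 IH) (Lpe (f46241 IH) (Lpe (K1.f46228 IH) (Lpe (f47808 IH) (Lpe (K1.f43342 IH) (Lpe (f43909 IH) (Lpr_et (K1.f31457 IH) (Lpr_gf (f192121 IH) (Lpe (f192133 IH) (Lpr_dt (f192134 IH) (Lpn (LP (LK LD1_c2 LD2_c29 LD3_c4)))))))))))))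
theorem f192147 : Led Lsl_bt (LP (LK LD1_c1 LD2_c11 LD3_c43)) = (LP (LK LD1_c2 LD2_c29 LD3_c4)) :=
  Lre_b IH (LK LD1_c1 LD2_c11 LD3_c43) (LK LD1_c2 LD2_c29 LD3_c4) Lrfl Lrfl
theorem f21296 : Led Lsl_ct (LP (LK LD1_c1 LD2_c11 LD3_c43)) = (LP (LK LD1_c2 LD2_c29 LD3_c11)) :=
  Lre_c IH (LK LD1_c1 LD2_c11 LD3_c43) (LK LD1_c2 LD2_c29 LD3_c11) Lrfl Lrfl
theorem f177791 : Led Lsl_ct (LP (LK LD1_c1 LD2_c25 LD3_c15)) = (LP (LK LD1_c0 LD2_c39 LD3_c17)) :=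
  Lre_c IH (LK LD1_c1 LD2_c25 LD3_c15) (LK LD1_c0 LD2_c39 LD3_c17) Lrfl Lrfl
theorem f21295 : Led Lsl_dt (LP (LK LD1_c0 LD2_c57 LD3_c19)) = (LP (LK LD1_c0 LD2_c26 LD3_c0)) :=
  Lre_d IH (LK LD1_c0 LD2_c57 LD3_c19) (LK LD1_c0 LD2_c26 LD3_c0) Lrfl Lrfl
theorem f183885 : Led Lsl_gf (LP (LK LD1_c1 LD2_c25 LD3_c15)) = (LP (LK LD1_c2 LD2_c29 LD3_c11)) :=
  Lgr Lrot104 (Lpr_ct (f177791 IH) (Lpe (K9.f169550 IH) (Lpe (K9.f177779 IH) (Lpe (K9.f101497 IH) (Lpe (K1.f47089 IH) (Lpr_gf (K9.f183878 IH) (Lpe (f21295 IH) (Lpr_gt (K8.f21286 IH) (Lpr_ct (f21296 IH) (Lpn (LP (LK LD1_c2 LD2_c29 LD3_c11))))))))))))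
theorem f177787 : Led Lsl_ct (LP (LK LD1_c0 LD2_c39 LD3_c17)) = (LP (LK LD1_c1 LD2_c25 LD3_c15)) :=
  Lre_c IH (LK LD1_c0 LD2_c39 LD3_c17) (LK LD1_c1 LD2_c25 LD3_c15) Lrfl Lrfl
theorem f183466 : Led Lsl_bt (LP (LK LD1_c0 LD2_c39 LD3_c17)) = (LP (LK LD1_c1 LD2_c25 LD3_c13)) :=
  Lre_b IH (LK LD1_c0 LD2_c39 LD3_c17) (LK LD1_c1 LD2_c25 LD3_c13) Lrfl Lrfl
theorem f169561 : Led Lsl_gt (LP (LK LD1_c1 LD2_c25 LD3_c13)) = (LP (LK LD1_c2 LD2_c58 LD3_c61)) :=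
  Lre_g IH (LK LD1_c1 LD2_c25 LD3_c13) (LK LD1_c2 LD2_c58 LD3_c61) Lrfl Lrfl
theorem f183684 : Led Lsl_ct (LP (LK LD1_c2 LD2_c58 LD3_c61)) = (LP (LK LD1_c6 LD2_c5 LD3_c45)) :=
  Lre_c IH (LK LD1_c2 LD2_c58 LD3_c61) (LK LD1_c6 LD2_c5 LD3_c45) Lrfl Lrfl
theorem f169558 : Led Lsl_dt (LP (LK LD1_c0 LD2_c39 LD3_c16)) = (LP (LK LD1_c1 LD2_c25 LD3_c13)) :=
  Lre_d IH (LK LD1_c0 LD2_c39 LD3_c16) (LK LD1_c1 LD2_c25 LD3_c13) Lrfl Lrfl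
theorem f183685 : Led Lsl_dt (LP (LK LD1_c2 LD2_c34 LD3_c30)) = (LP (LK LD1_c1 LD2_c14 LD3_c16)) :=
  Lre_d IH (LK LD1_c2 LD2_c34 LD3_c30) (LK LD1_c1 LD2_c14 LD3_c16) Lrfl Lrfl
theorem f183686 : Led Lsl_ct (LP (LK LD1_c5 LD2_c15 LD3_c18)) = (LP (LK LD1_c2 LD2_c34 LD3_c30)) :=
  Lre_c IH (LK LD1_c5 LD2_c15 LD3_c18) (LK LD1_c2 LD2_c34 LD3_c30) Lrfl Lrfl
theorem f183687 : Led Lsl_gt (LP (LK LD1_c6 LD2_c5 LD3_c45)) = (LP (LK LD1_c5 LD2_c15 LD3_c18)) :=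
  Lgr Lrot150 (Lpe (f183684 IH) (Lpe (f169561 IH) (Lpe (f169558 IH) (Lpr_gt (K9.f183670 IH) (Lpr_ct (K1.f44536 IH) (Lpr_gt (K9.f32878 IH) (Lpr_ct (f47682 IH) (Lpe (f183685 IH) (Lpe (f183686 IH) (Lpn (LP (LK LD1_c5 LD2_c15 LD3_c18))))))))))))
theorem f189725 : Led Lsl_ct (LP (LK LD1_c2 LD2_c34 LD3_c30)) = (LP (LK LD1_c5 LD2_c15 LD3_c18)) :=
  Lre_c IH (LK LD1_c2 LD2_c34 LD3_c30) (LK LD1_c5 LD2_c15 LD3_c18) Lrfl Lrfl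
theorem f192148 : Led Lsl_bf (LP (LK LD1_c4 LD2_c5 LD3_c2)) = (LP (LK LD1_c2 LD2_c34 LD3_c30)) :=
  Lgr Lrot156 (Lpr_gt (f192136 IH) (Lpe (f192147 IH) (Lpr_ct (f21296 IH) (Lpe (f183885 IH) (Lpe (f177787 IH) (Lpr_bt (f183466 IH) (Lpr_gt (f169561 IH) (Lpr_ct (f183684 IH) (Lpr_gt (f183687 IH) (Lpe (f189725 IH) (Lpn (LP (LK LD1_c2 LD2_c34 LD3_c30)))))))))))))
theorem f47970 : Led Lsl_dt (LP (LK LD1_c4 LD2_c5 LD3_c2)) = (LP (LK LD1_c1 LD2_c59 LD3_c40)) :=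
  Lre_d IH (LK LD1_c4 LD2_c5 LD3_c2) (LK LD1_c1 LD2_c59 LD3_c40) Lrfl Lrfl
theorem f183689 : Led Lsl_dt (LP (LK LD1_c1 LD2_c14 LD3_c16)) = (LP (LK LD1_c2 LD2_c34 LD3_c30)) :=
  Lre_d IH (LK LD1_c1 LD2_c14 LD3_c16) (LK LD1_c2 LD2_c34 LD3_c30) Lrfl Lrfl
theorem f192156 : Led Lsl_bt (LP (LK LD1_c1 LD2_c59 LD3_c40)) = (LP (LK LD1_c1 LD2_c14 LD3_c16)) :=
  Lgr Lrot95 (Lpe (f47970 IH) (Lpr_bf (f192148 IH) (Lpe (f183689 IH) (Lpn (LP (LK LD1_c1 LD2_c14 LD3_c16))))))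
theorem f47974 : Led Lsl_ct (LP (LK LD1_c3 LD2_c58 LD3_c15)) = (LP (LK LD1_c1 LD2_c55 LD3_c57)) :=
  Lre_c IH (LK LD1_c3 LD2_c58 LD3_c15) (LK LD1_c1 LD2_c55 LD3_c57) Lrfl Lrfl
theorem f190863 : Led Lsl_ct (LP (LK LD1_c1 LD2_c59 LD3_c40)) = (LP (LK LD1_c2 LD2_c24 LD3_c51)) :=
  Lgr Lrot8 (Lpr_gt (f47205 IH) (Lpr_dt (f47185 IH) (Lpe (f47960 IH) (Lpr_dt (f47966 IH) (Lpe (f47974 IH) (Lpr_df (f190790 IH) (Lpr_gf (f51326 IH) (Lpe (K9.f50062 IH) (Lpe (f51292 IH) (Lpn (LP (LK LD1_c2 LD2_c24 LD3_c51))))))))))))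
theorem f28064 : Led Lsl_gt (LP (LK LD1_c1 LD2_c57 LD3_c20)) = (LP (LK LD1_c0 LD2_c56 LD3_c7)) :=
  Lre_g IH (LK LD1_c1 LD2_c57 LD3_c20) (LK LD1_c0 LD2_c56 LD3_c7) Lrfl Lrfl
theorem f192191 : Led Lsl_ct (LP (LK LD1_c0 LD2_c56 LD3_c7)) = (LP (LK LD1_c1 LD2_c25 LD3_c0)) :=
  Lgr Lrot91 (Lpe (f28064 IH) (Lpr_bf (K9.f30989 IH) (Lpr_ct (f51047 IH) (Lpe (f51292 IH) (Lpe (f190863 IH) (Lpr_bt (f192156 IH) (Lpe (f189720 IH) (Lpe (K9.f27584 IH) (Lpr_ct (K9.f50885 IH) (Lpr_gf (f187849 IH) (Lpn (LP (LK LD1_c1 LD2_c25 LD3_c0)))))))))))))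
theorem f192204 : Led Lsl_bt (LP (LK LD1_c0 LD2_c56 LD3_c7)) = (LP (LK LD1_c1 LD2_c58 LD3_c31)) :=
  Lre_b IH (LK LD1_c0 LD2_c56 LD3_c7) (LK LD1_c1 LD2_c58 LD3_c31) Lrfl Lrfl
theorem f192205 : Led Lsl_gt (LP (LK LD1_c1 LD2_c58 LD3_c31)) = (LP (LK LD1_c1 LD2_c1 LD3_c4)) :=
  Lgr Lrot164 (Lpe (f192204 IH) (Lpr_ct (f192191 IH) (Lpe (f187847 IH) (Lpe (f50931 IH) (Lpr_gf (f27597 IH) (Lpr_bf (f189873 IH) (Lpe (f189860 IH) (Lpe (f28710 IH) (Lpe (K0.f28579 IH) (Lpr_bt (f28705 IH) (Lpn (LP (LK LD1_c1 LD2_c1 LD3_c4)))))))))))))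
theorem f27557 : Led Lsl_bt (LP (LK LD1_c1 LD2_c8 LD3_c42)) = (LP (LK LD1_c2 LD2_c23 LD3_c5)) :=
  Lre_b IH (LK LD1_c1 LD2_c8 LD3_c42) (LK LD1_c2 LD2_c23 LD3_c5) Lrfl Lrfl
theorem f179066 : Led Lsl_bt (LP (LK LD1_c0 LD2_c57 LD3_c14)) = (LP (LK LD1_c2 LD2_c0 LD3_c29)) :=
  Lre_b IH (LK LD1_c0 LD2_c57 LD3_c14) (LK LD1_c2 LD2_c0 LD3_c29) Lrfl Lrfl
theorem f183711 : Led Lsl_gf (LP (LK LD1_c2 LD2_c0 LD3_c29)) = (LP (LK LD1_c1 LD2_c55 LD3_c47)) :=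
  Lgr Lrot124 (Lpe (f179066 IH) (Lpr_ct (K9.f179074 IH) (Lpr_gt (K9.f183612 IH) (Lpr_cf (K9.f183619 IH) (Lpr_bt (K9.f45153 IH) (Lpe (K9.f183668 IH) (Lpr_ct (K9.f177784 IH) (Lpr_gt (K9.f183705 IH) (Lpe (K9.f49430 IH) (Lpe (K9.f50854 IH) (Lpn (LP (LK LD1_c1 LD2_c55 LD3_c47)))))))))))))
theorem f43253 : Led Lsl_at (LP (LK LD1_c1 LD2_c8 LD3_c39)) = (LP (LK LD1_c1 LD2_c55 LD3_c47)) :=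
  Lgr Lrot100 (Lpr_af (K9.f43246 IH) (Lpn (LP (LK LD1_c1 LD2_c55 LD3_c47))))
theorem f27579 : Led Lsl_ft (LP (LK LD1_c2 LD2_c23 LD3_c5)) = (LP (LK LD1_c1 LD2_c8 LD3_c39)) :=
  Lre_f IH (LK LD1_c2 LD2_c23 LD3_c5) (LK LD1_c1 LD2_c8 LD3_c39) Lrfl Lrfl
theorem f191002 : Led Lsl_af (LP (LK LD1_c2 LD2_c23 LD3_c5)) = (LP (LK LD1_c2 LD2_c31 LD3_c50)) :=
  Lgr Lrot45 (Lpr_ft (f27579 IH) (Lpr_at (f43253 IH) (Lpr_ft (f190990 IH) (Lpn (LP (LK LD1_c2 LD2_c31 LD3_c50))))))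
theorem f191011 : Led Lsl_gt (LP (LK LD1_c2 LD2_c0 LD3_c29)) = (LP (LK LD1_c2 LD2_c23 LD3_c5)) :=
  Lgr Lrot46 (Lpr_gf (f183711 IH) (Lpr_ft (f190990 IH) (Lpe (f191002 IH) (Lpn (LP (LK LD1_c2 LD2_c23 LD3_c5))))))
theorem f192221 : Led Lsl_gf (LP (LK LD1_c2 LD2_c0 LD3_c30)) = (LP (LK LD1_c1 LD2_c0 LD3_c54)) :=
  Lgr Lrot129 (Lpe (K9.f179074 IH) (Lpr_bt (f179066 IH) (Lpr_gt (f191011 IH) (Lpe (f27557 IH) (Lpr_ct (f50931 IH) (Lpr_gt (f187847 IH) (Lpe (f192191 IH) (Lpr_bt (f192204 IH) (Lpr_gt (f192205 IH) (Lpe (K0.f28658 IH) (Lpn (LP (LK LD1_c1 LD2_c0 LD3_c54)))))))))))))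
theorem f32428 : Led Lsl_gt (LP (LK LD1_c0 LD2_c34 LD3_c26)) = (LP (LK LD1_c1 LD2_c14 LD3_c11)) :=
  Lre_g IH (LK LD1_c0 LD2_c34 LD3_c26) (LK LD1_c1 LD2_c14 LD3_c11) Lrfl Lrfl
theorem f45386 : Led Lsl_ct (LP (LK LD1_c2 LD2_c34 LD3_c21)) = (LP (LK LD1_c1 LD2_c14 LD3_c11)) :=
  Lre_c IH (LK LD1_c2 LD2_c34 LD3_c21) (LK LD1_c1 LD2_c14 LD3_c11) Lrfl Lrfl
theorem f189858 : Led Lsl_bt (LP (LK LD1_c2 LD2_c34 LD3_c21)) = (LP (LK LD1_c2 LD2_c0 LD3_c30)) :=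
  Lgr Lrot22 (Lpr_ct (f45386 IH) (Lpe (f32428 IH) (Lpr_cf (f45245 IH) (Lpe (f45107 IH) (Lpr_bf (f189855 IH) (Lpr_ct (K9.f49099 IH) (Lpe (K9.f32172 IH) (Lpe (f32165 IH) (Lpe (f183617 IH) (Lpe (K9.f183612 IH) (Lpn (LP (LK LD1_c2 LD2_c0 LD3_c30)))))))))))))
theorem f32876 : Led Lsl_gt (LP (LK LD1_c1 LD2_c14 LD3_c11)) = (LP (LK LD1_c0 LD2_c34 LD3_c30)) :=
  Lre_g IH (LK LD1_c1 LD2_c14 LD3_c11) (LK LD1_c0 LD2_c34 LD3_c30) Lrfl Lrfl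
theorem f54277 : Led Lsl_bf (LP (LK LD1_c1 LD2_c1 LD3_c3)) = (LP (LK LD1_c0 LD2_c59 LD3_c30)) :=
  Lgr Lrot81 (Lpr_at (K0.f31207 IH) (Lpr_bt (f28678 IH) (Lpr_at (f54273 IH) (Lpr_bt (K9.f45153 IH) (Lpe (K1.f45135 IH) (Lpn (LP (LK LD1_c0 LD2_c59 LD3_c30))))))))
theorem f27887 : Led Lsl_ct (LP (LK LD1_c0 LD2_c27 LD3_c47)) = (LP (LK LD1_c0 LD2_c12 LD3_c18)) :=
  Lre_c IH (LK LD1_c0 LD2_c27 LD3_c47) (LK LD1_c0 LD2_c12 LD3_c18) Lrfl Lrfl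
theorem f28619 : Led Lsl_gt (LP (LK LD1_c0 LD2_c27 LD3_c48)) = (LP (LK LD1_c0 LD2_c12 LD3_c18)) :=
  Lre_g IH (LK LD1_c0 LD2_c27 LD3_c48) (LK LD1_c0 LD2_c12 LD3_c18) Lrfl Lrfl
theorem f164159 : Led Lsl_ct (LP (LK LD1_c1 LD2_c0 LD3_c58)) = (LP (LK LD1_c0 LD2_c27 LD3_c48)) :=
  Lre_c IH (LK LD1_c1 LD2_c0 LD3_c58) (LK LD1_c0 LD2_c27 LD3_c48) Lrfl Lrfl
theorem f192264 : Led Lsl_gt (LP (LK LD1_c1 LD2_c1 LD3_c3)) = (LP (LK LD1_c1 LD2_c0 LD3_c58)) :=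
  Lgr Lrot82 (Lpr_bf (f54277 IH) (Lpe (K1.f45356 IH) (Lpe (f32876 IH) (Lpe (f45386 IH) (Lpr_bt (f189858 IH) (Lpr_gf (f192221 IH) (Lpe (K0.f28607 IH) (Lpr_ct (f27887 IH) (Lpe (f28619 IH) (Lpe (f164159 IH) (Lpn (LP (LK LD1_c1 LD2_c0 LD3_c58)))))))))))))
theorem f164134 : Led Lsl_ct (LP (LK LD1_c0 LD2_c27 LD3_c48)) = (LP (LK LD1_c1 LD2_c0 LD3_c58)) :=
  Lre_c IH (LK LD1_c0 LD2_c27 LD3_c48) (LK LD1_c1 LD2_c0 LD3_c58) Lrfl Lrfl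
theorem f3142 : Led Lsl_bt (LP (LK LD1_c0 LD2_c14 LD3_c58)) = (LP (LK LD1_c0 LD2_c6 LD3_c51)) :=
  Lre_b IH (LK LD1_c0 LD2_c14 LD3_c58) (LK LD1_c0 LD2_c6 LD3_c51) Lrfl Lrfl
theorem f3143 : Led Lsl_ct (LP (LK LD1_c0 LD2_c14 LD3_c58)) = (LP (LK LD1_c0 LD2_c33 LD3_c17)) :=
  Lre_c IH (LK LD1_c0 LD2_c14 LD3_c58) (LK LD1_c0 LD2_c33 LD3_c17) Lrfl Lrfl
theorem f31622 : Led Lsl_gt (LP (LK LD1_c0 LD2_c33 LD3_c17)) = (LP (LK LD1_c1 LD2_c1 LD3_c3)) :=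
  Lgr Lrot65 (Lpe (f3143 IH) (Lpr_bt (f3142 IH) (Lpe (K9.f3127 IH) (Lpr_bf (K0.f3111 IH) (Lpr_ct (K8.f3113 IH) (Lpe (K8.f3141 IH) (Lpr_cf (K9.f28365 IH) (Lpr_gf (K9.f31615 IH) (Lpe (K1.f31548 IH) (Lpr_ct (K0.f31535 IH) (Lpn (LP (LK LD1_c1 LD2_c1 LD3_c3)))))))))))))
theorem f31407 : Led Lsl_af (LP (LK LD1_c1 LD2_c1 LD3_c3)) = (LP (LK LD1_c1 LD2_c1 LD3_c7)) :=
  Lgr Lrot0 (Lpr_at (K0.f31207 IH) (Lpn (LP (LK LD1_c1 LD2_c1 LD3_c7))))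
theorem f31624 : Led Lsl_gf (LP (LK LD1_c0 LD2_c33 LD3_c17)) = (LP (LK LD1_c0 LD2_c27 LD3_c55)) :=
  Lgr Lrot47 (Lpr_gt (f31622 IH) (Lpr_af (f31407 IH) (Lpe (K0.f28701 IH) (Lpn (LP (LK LD1_c0 LD2_c27 LD3_c55))))))
theorem f164130 : Led Lsl_bt (LP (LK LD1_c0 LD2_c14 LD3_c24)) = (LP (LK LD1_c0 LD2_c27 LD3_c48)) :=
  Lgr Lrot22 (Lpe (K9.f28365 IH) (Lpr_gf (K8.f164123 IH) (Lpe (K8.f163680 IH) (Lpe (K9.f163697 IH) (Lpe (f3142 IH) (Lpr_ct (f3143 IH) (Lpr_gf (f31624 IH) (Lpe (K0.f28702 IH) (Lpe (K0.f28603 IH) (Lpe (f28619 IH) (Lpn (LP (LK LD1_c0 LD2_c27 LD3_c48)))))))))))))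
theorem f164132 : Led Lsl_bf (LP (LK LD1_c0 LD2_c14 LD3_c24)) = (LP (LK LD1_c0 LD2_c27 LD3_c48)) :=
  Lgr Lrot24 (Lpr_bt (f164130 IH) (Lpn (LP (LK LD1_c0 LD2_c27 LD3_c48))))
theorem f165185 : Led Lsl_ct (LP (LK LD1_c0 LD2_c6 LD3_c58)) = (LP (LK LD1_c0 LD2_c15 LD3_c15)) :=
  Lre_c IH (LK LD1_c0 LD2_c6 LD3_c58) (LK LD1_c0 LD2_c15 LD3_c15) Lrfl Lrfl
theorem f192335 : Led Lsl_bf (LP (LK LD1_c0 LD2_c14 LD3_c23)) = (LP (LK LD1_c0 LD2_c6 LD3_c58)) :=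
  Lgr Lrot156 (Lpr_gt (K9.f31661 IH) (Lpe (K1.f31548 IH) (Lpr_ct (K0.f31535 IH) (Lpr_gt (f192264 IH) (Lpe (f164134 IH) (Lpe (f164132 IH) (Lpr_gt (K8.f28330 IH) (Lpe (K1.f32241 IH) (Lpe (f185574 IH) (Lpe (f165185 IH) (Lpn (LP (LK LD1_c0 LD2_c6 LD3_c58)))))))))))))
theorem f192345 : Led Lsl_gf (LP (LK LD1_c0 LD2_c33 LD3_c40)) = (LP (LK LD1_c0 LD2_c32 LD3_c3)) :=
  Lgr Lrot181 (Lpe (K9.f182015 IH) (Lpr_gt (K9.f182034 IH) (Lpe (K0.f31699 IH) (Lpr_bt (K0.f28452 IH) (Lpr_gt (K9.f28334 IH) (Lpr_bf (f192335 IH) (Lpr_ct (f165185 IH) (Lpe (f179002 IH) (Lpe (K1.f32278 IH) (Lpr_bt (K0.f31541 IH) (Lpn (LP (LK LD1_c0 LD2_c32 LD3_c3)))))))))))))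
theorem f182017 : Led Lsl_cf (LP (LK LD1_c0 LD2_c17 LD3_c41)) = (LP (LK LD1_c0 LD2_c15 LD3_c7)) :=
  Lgr Lrot11 (Lpr_ct (K9.f182008 IH) (Lpn (LP (LK LD1_c0 LD2_c15 LD3_c7))))
theorem f182025 : Led Lsl_ct (LP (LK LD1_c0 LD2_c39 LD3_c30)) = (LP (LK LD1_c0 LD2_c33 LD3_c40)) :=
  Lgr Lrot83 (Lpe (K9.f9089 IH) (Lpe (K9.f9084 IH) (Lpe (K9.f45993 IH) (Lpr_cf (f182017 IH) (Lpe (K9.f165182 IH) (Lpn (LP (LK LD1_c0 LD2_c33 LD3_c40))))))))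
theorem f31634 : Led Lsl_bt (LP (LK LD1_c1 LD2_c11 LD3_c56)) = (LP (LK LD1_c0 LD2_c33 LD3_c17)) :=
  Lre_b IH (LK LD1_c1 LD2_c11 LD3_c56) (LK LD1_c0 LD2_c33 LD3_c17) Lrfl Lrfl
theorem f31638 : Led Lsl_ct (LP (LK LD1_c1 LD2_c11 LD3_c56)) = (LP (LK LD1_c0 LD2_c33 LD3_c19)) :=
  Lre_c IH (LK LD1_c1 LD2_c11 LD3_c56) (LK LD1_c0 LD2_c33 LD3_c19) Lrfl Lrfl
theorem f192357 : Led Lsl_gt (LP (LK LD1_c0 LD2_c28 LD3_c29)) = (LP (LK LD1_c0 LD2_c33 LD3_c19)) :=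
  Lgr Lrot65 (Lpe (K9.f47191 IH) (Lpr_bt (K1.f47050 IH) (Lpr_gf (K9.f177377 IH) (Lpe (K9.f177383 IH) (Lpr_ct (f182025 IH) (Lpr_gf (f192345 IH) (Lpr_cf (K0.f31542 IH) (Lpe (f31622 IH) (Lpe (f31634 IH) (Lpr_ct (f31638 IH) (Lpn (LP (LK LD1_c0 LD2_c33 LD3_c19)))))))))))))
theorem f47419 : Led Lsl_gt (LP (LK LD1_c0 LD2_c56 LD3_c49)) = (LP (LK LD1_c0 LD2_c25 LD3_c46)) :=
  Lre_g IH (LK LD1_c0 LD2_c56 LD3_c49) (LK LD1_c0 LD2_c25 LD3_c46) Lrfl Lrfl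
theorem f47422 : Led Lsl_bt (LP (LK LD1_c1 LD2_c59 LD3_c48)) = (LP (LK LD1_c0 LD2_c56 LD3_c49)) :=
  Lre_b IH (LK LD1_c1 LD2_c59 LD3_c48) (LK LD1_c0 LD2_c56 LD3_c49) Lrfl Lrfl
theorem f192366 : Led Lsl_ct (LP (LK LD1_c1 LD2_c59 LD3_c48)) = (LP (LK LD1_c1 LD2_c14 LD3_c12)) :=
  Lgr Lrot10 (Lpr_bt (f47422 IH) (Lpr_gt (f47419 IH) (Lpr_ct (K9.f47191 IH) (Lpr_gt (f192357 IH) (Lpe (f31638 IH) (Lpr_bt (f31634 IH) (Lpr_gt (f31622 IH) (Lpr_bf (f54277 IH) (Lpe (K1.f45356 IH) (Lpr_gt (K9.f32877 IH) (Lpn (LP (LK LD1_c1 LD2_c14 LD3_c12)))))))))))))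
theorem f192454 : Led Lsl_cf (LP (LK LD1_c1 LD2_c59 LD3_c48)) = (LP (LK LD1_c1 LD2_c14 LD3_c12)) :=
  Lgr Lrot11 (Lpr_ct (f192366 IH) (Lpn (LP (LK LD1_c1 LD2_c14 LD3_c12))))
theorem f41393 : Led Lsl_dt (LP (LK LD1_c0 LD2_c32 LD3_c18)) = (LP (LK LD1_c1 LD2_c9 LD3_c47)) :=
  Lre_d IH (LK LD1_c0 LD2_c32 LD3_c18) (LK LD1_c1 LD2_c9 LD3_c47) Lrfl Lrfl
theorem f50829 : Led Lsl_bf (LP (LK LD1_c0 LD2_c32 LD3_c18)) = (LP (LK LD1_c0 LD2_c59 LD3_c7)) :=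
  Lgr Lrot93 (Lpr_dt (f41393 IH) (Lpr_bt (K9.f50821 IH) (Lpr_dt (K8.f44967 IH) (Lpn (LP (LK LD1_c0 LD2_c59 LD3_c7))))))
theorem f192468 : Led Lsl_gt (LP (LK LD1_c1 LD2_c59 LD3_c48)) = (LP (LK LD1_c2 LD2_c4 LD3_c8)) :=
  Lgr Lrot149 (Lpr_cf (f192454 IH) (Lpe (K9.f32877 IH) (Lpe (K9.f32287 IH) (Lpe (K1.f32290 IH) (Lpe (K9.f31661 IH) (Lpr_cf (K9.f165829 IH) (Lpr_bt (f165849 IH) (Lpe (f184877 IH) (Lpr_bf (f50829 IH) (Lpr_ct (K9.f49462 IH) (Lpn (LP (LK LD1_c2 LD2_c4 LD3_c8)))))))))))))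
theorem f192115 : Led Lsl_ct (LP (LK LD1_c0 LD2_c33 LD3_c8)) = (LP (LK LD1_c0 LD2_c33 LD3_c60)) :=
  Lgr Lrot59 (Lpr_cf (f192111 IH) (Lpn (LP (LK LD1_c0 LD2_c33 LD3_c60))))
theorem f34629 : Led Lsl_bt (LP (LK LD1_c0 LD2_c33 LD3_c53)) = (LP (LK LD1_c0 LD2_c15 LD3_c12)) :=
  Lre_b IH (LK LD1_c0 LD2_c33 LD3_c53) (LK LD1_c0 LD2_c15 LD3_c12) Lrfl Lrfl
theorem f165501 : Led Lsl_bt (LP (LK LD1_c0 LD2_c15 LD3_c15)) = (LP (LK LD1_c0 LD2_c33 LD3_c60)) :=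
  Lre_b IH (LK LD1_c0 LD2_c15 LD3_c15) (LK LD1_c0 LD2_c33 LD3_c60) Lrfl Lrfl
theorem f189586 : Led Lsl_gt (LP (LK LD1_c0 LD2_c33 LD3_c60)) = (LP (LK LD1_c0 LD2_c34 LD3_c54)) :=
  Lgr Lrot164 (Lpe (f165501 IH) (Lpr_ct (f165496 IH) (Lpe (K9.f20470 IH) (Lpe (K8.f22101 IH) (Lpe (f21331 IH) (Lpe (f34629 IH) (Lpr_ct (f189581 IH) (Lpr_gf (f184616 IH) (Lpe (K1.f28261 IH) (Lpr_bt (K1.f28292 IH) (Lpn (LP (LK LD1_c0 LD2_c34 LD3_c54)))))))))))))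
theorem f165850 : Led Lsl_bt (LP (LK LD1_c1 LD2_c14 LD3_c12)) = (LP (LK LD1_c1 LD2_c11 LD3_c25)) :=
  Lgr Lrot127 (Lpr_bf (K9.f165847 IH) (Lpn (LP (LK LD1_c1 LD2_c11 LD3_c25))))
theorem f192470 : Led Lsl_gt (LP (LK LD1_c1 LD2_c58 LD3_c18)) = (LP (LK LD1_c1 LD2_c11 LD3_c25)) :=
  Lgr Lrot164 (Lpr_bf (K1.f45894 IH) (Lpr_ct (K9.f28282 IH) (Lpe (f189586 IH) (Lpe (f192115 IH) (Lpe (f184877 IH) (Lpr_bf (f50829 IH) (Lpr_ct (K9.f49462 IH) (Lpe (f192468 IH) (Lpr_cf (f192454 IH) (Lpr_bt (f165850 IH) (Lpn (LP (LK LD1_c1 LD2_c11 LD3_c25)))))))))))))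
theorem f49429 : Led Lsl_bt (LP (LK LD1_c0 LD2_c59 LD3_c9)) = (LP (LK LD1_c2 LD2_c4 LD3_c12)) :=
  Lre_b IH (LK LD1_c0 LD2_c59 LD3_c9) (LK LD1_c2 LD2_c4 LD3_c12) Lrfl Lrfl
theorem f3736 : Led Lsl_ct (LP (LK LD1_c0 LD2_c33 LD3_c5)) = (LP (LK LD1_c1 LD2_c11 LD3_c25)) :=
  Lre_c IH (LK LD1_c0 LD2_c33 LD3_c5) (LK LD1_c1 LD2_c11 LD3_c25) Lrfl Lrfl
theorem f192451 : Led Lsl_bt (LP (LK LD1_c0 LD2_c33 LD3_c5)) = (LP (LK LD1_c1 LD2_c11 LD3_c24)) :=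
  Lre_b IH (LK LD1_c0 LD2_c33 LD3_c5) (LK LD1_c1 LD2_c11 LD3_c24) Lrfl Lrfl
theorem f192477 : Led Lsl_gf (LP (LK LD1_c2 LD2_c4 LD3_c12)) = (LP (LK LD1_c1 LD2_c11 LD3_c24)) :=
  Lgr Lrot124 (Lpe (f49429 IH) (Lpe (K9.f50882 IH) (Lpr_gt (f189720 IH) (Lpe (f47682 IH) (Lpr_bt (f186842 IH) (Lpr_gt (f186853 IH) (Lpe (K1.f45881 IH) (Lpr_gt (f192470 IH) (Lpe (f3736 IH) (Lpr_bt (f192451 IH) (Lpn (LP (LK LD1_c1 LD2_c11 LD3_c24)))))))))))))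
theorem f28174 : Led Lsl_gt (LP (LK LD1_c0 LD2_c55 LD3_c29)) = (LP (LK LD1_c1 LD2_c57 LD3_c18)) :=
  Lre_g IH (LK LD1_c0 LD2_c55 LD3_c29) (LK LD1_c1 LD2_c57 LD3_c18) Lrfl Lrfl
theorem f3790 : Led Lsl_bt (LP (LK LD1_c1 LD2_c11 LD3_c24)) = (LP (LK LD1_c0 LD2_c33 LD3_c5)) :=
  Lre_b IH (LK LD1_c1 LD2_c11 LD3_c24) (LK LD1_c0 LD2_c33 LD3_c5) Lrfl Lrfl
theorem f192460 : Led Lsl_ct (LP (LK LD1_c0 LD2_c56 LD3_c49)) = (LP (LK LD1_c1 LD2_c11 LD3_c24)) :=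
  Lgr Lrot83 (Lpe (f47422 IH) (Lpr_cf (f192454 IH) (Lpr_bf (K9.f165847 IH) (Lpe (f3736 IH) (Lpe (f3790 IH) (Lpn (LP (LK LD1_c1 LD2_c11 LD3_c24))))))))
theorem f46214 : Led Lsl_gt (LP (LK LD1_c1 LD2_c59 LD3_c43)) = (LP (LK LD1_c0 LD2_c56 LD3_c49)) :=
  Lre_g IH (LK LD1_c1 LD2_c59 LD3_c43) (LK LD1_c0 LD2_c56 LD3_c49) Lrfl Lrfl
theorem f192489 : Led Lsl_bf (LP (LK LD1_c1 LD2_c57 LD3_c18)) = (LP (LK LD1_c1 LD2_c24 LD3_c59)) :=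
  Lgr Lrot34 (Lpe (f28174 IH) (Lpr_bf (f30837 IH) (Lpe (K9.f44518 IH) (Lpr_gf (f192477 IH) (Lpe (f192460 IH) (Lpe (f46214 IH) (Lpr_bf (K9.f55023 IH) (Lpe (K9.f183852 IH) (Lpe (K9.f41808 IH) (Lpe (K9.f42474 IH) (Lpn (LP (LK LD1_c1 LD2_c24 LD3_c59)))))))))))))
theorem f28055 : Led Lsl_gt (LP (LK LD1_c1 LD2_c57 LD3_c18)) = (LP (LK LD1_c0 LD2_c56 LD3_c9)) :=
  Lre_g IH (LK LD1_c1 LD2_c57 LD3_c18) (LK LD1_c0 LD2_c56 LD3_c9) Lrfl Lrfl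
theorem f50812 : Led Lsl_af (LP (LK LD1_c0 LD2_c57 LD3_c43)) = (LP (LK LD1_c0 LD2_c57 LD3_c38)) :=
  Lgr Lrot36 (Lpr_bt (K9.f50762 IH) (Lpe (K9.f43401 IH) (Lpr_bt (f31460 IH) (Lpr_at (K9.f43229 IH) (Lpr_bt (K9.f50805 IH) (Lpn (LP (LK LD1_c0 LD2_c57 LD3_c38))))))))
theorem f51334 : Led Lsl_gt (LP (LK LD1_c2 LD2_c1 LD3_c18)) = (LP (LK LD1_c0 LD2_c57 LD3_c43)) :=
  Lre_g IH (LK LD1_c2 LD2_c1 LD3_c18) (LK LD1_c0 LD2_c57 LD3_c43) Lrfl Lrfl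
theorem f50082 : Led Lsl_ft (LP (LK LD1_c2 LD2_c1 LD3_c9)) = (LP (LK LD1_c0 LD2_c57 LD3_c38)) :=
  Lre_f IH (LK LD1_c2 LD2_c1 LD3_c9) (LK LD1_c0 LD2_c57 LD3_c38) Lrfl Lrfl
theorem f51335 : Led Lsl_gf (LP (LK LD1_c2 LD2_c1 LD3_c18)) = (LP (LK LD1_c2 LD2_c1 LD3_c9)) :=
  Lgr Lrot47 (Lpr_gt (f51334 IH) (Lpr_af (f50812 IH) (Lpe (f50082 IH) (Lpn (LP (LK LD1_c2 LD2_c1 LD3_c9))))))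
theorem f55031 : Led Lsl_bt (LP (LK LD1_c2 LD2_c0 LD3_c33)) = (LP (LK LD1_c0 LD2_c57 LD3_c15)) :=
  Lre_b IH (LK LD1_c2 LD2_c0 LD3_c33) (LK LD1_c0 LD2_c57 LD3_c15) Lrfl Lrfl
theorem f192515 : Led Lsl_cf (LP (LK LD1_c2 LD2_c1 LD3_c18)) = (LP (LK LD1_c2 LD2_c0 LD3_c33)) :=
  Lgr Lrot58 (Lpr_gf (f51335 IH) (Lpe (K9.f49604 IH) (Lpe (f50623 IH) (Lpe (f28055 IH) (Lpr_bf (f192489 IH) (Lpr_ct (K9.f42474 IH) (Lpe (K9.f42120 IH) (Lpe (K9.f44471 IH) (Lpe (f54974 IH) (Lpe (f55031 IH) (Lpn (LP (LK LD1_c2 LD2_c0 LD3_c33)))))))))))))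
theorem f181182 : Led Lsl_bt (LP (LK LD1_c0 LD2_c17 LD3_c34)) = (LP (LK LD1_c0 LD2_c39 LD3_c13)) :=
  Lre_b IH (LK LD1_c0 LD2_c17 LD3_c34) (LK LD1_c0 LD2_c39 LD3_c13) Lrfl Lrfl
theorem f192533 : Led Lsl_gf (LP (LK LD1_c0 LD2_c57 LD3_c41)) = (LP (LK LD1_c0 LD2_c39 LD3_c13)) :=
  Lgr Lrot181 (Lpr_ct (K9.f49604 IH) (Lpe (f51335 IH) (Lpr_cf (f192515 IH) (Lpr_bt (f55031 IH) (Lpr_gt (f54974 IH) (Lpe (K9.f55012 IH) (Lpr_ct (K1.f21292 IH) (Lpr_gt (K8.f8144 IH) (Lpe (K9.f181160 IH) (Lpr_bt (f181182 IH) (Lpn (LP (LK LD1_c0 LD2_c39 LD3_c13)))))))))))))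
theorem f182062 : Led Lsl_cf (LP (LK LD1_c0 LD2_c39 LD3_c13)) = (LP (LK LD1_c0 LD2_c34 LD3_c42)) :=
  Lgr Lrot11 (Lpr_ct (f182040 IH) (Lpn (LP (LK LD1_c0 LD2_c34 LD3_c42))))
theorem f28372 : Led Lsl_gt (LP (LK LD1_c1 LD2_c11 LD3_c37)) = (LP (LK LD1_c0 LD2_c33 LD3_c10)) :=
  Lre_g IH (LK LD1_c1 LD2_c11 LD3_c37) (LK LD1_c0 LD2_c33 LD3_c10) Lrfl Lrfl
theorem f192538 : Led Lsl_bt (LP (LK LD1_c2 LD2_c1 LD3_c9)) = (LP (LK LD1_c1 LD2_c11 LD3_c37)) :=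
  Lgr Lrot22 (Lpr_ct (K8.f49561 IH) (Lpr_gf (f192533 IH) (Lpr_cf (f182062 IH) (Lpe (f32251 IH) (Lpe (f32246 IH) (Lpr_ct (K0.f28414 IH) (Lpe (K8.f28330 IH) (Lpe (K8.f28363 IH) (Lpr_bt (f28371 IH) (Lpe (f28372 IH) (Lpn (LP (LK LD1_c1 LD2_c11 LD3_c37)))))))))))))
theorem f192542 : Led Lsl_bf (LP (LK LD1_c2 LD2_c1 LD3_c9)) = (LP (LK LD1_c1 LD2_c11 LD3_c37)) :=
  Lgr Lrot24 (Lpr_bt (f192538 IH) (Lpn (LP (LK LD1_c1 LD2_c11 LD3_c37))))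
theorem f192549 : Led Lsl_ef (LP (LK LD1_c1 LD2_c11 LD3_c37)) = (LP (LK LD1_c1 LD2_c11 LD3_c37)) :=
  Lgr Lrot29 (Lpe (f192542 IH) (Lpr_et (K9.f50076 IH) (Lpr_bt (f192538 IH) (Lpn (LP (LK LD1_c1 LD2_c11 LD3_c37))))))
theorem f192123 : Led Lsl_ff (LP (LK LD1_c0 LD2_c54 LD3_c39)) = (LP (LK LD1_c1 LD2_c11 LD3_c37)) :=
  Lgr Lrot52 (Lpe (K9.f43843 IH) (Lpr_gf (f192121 IH) (Lpe (f28372 IH) (Lpn (LP (LK LD1_c1 LD2_c11 LD3_c37))))))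
theorem f192560 : Led Lsl_ft (LP (LK LD1_c0 LD2_c54 LD3_c39)) = (LP (LK LD1_c1 LD2_c11 LD3_c37)) :=
  Lgr Lrot86 (Lpe (K9.f43218 IH) (Lpe (K1.f43221 IH) (Lpe (K9.f41380 IH) (Lpr_ff (f192123 IH) (Lpr_ef (f192549 IH) (Lpn (LP (LK LD1_c1 LD2_c11 LD3_c37))))))))
theorem f191004 : Led Lsl_ff (LP (LK LD1_c0 LD2_c54 LD3_c38)) = (LP (LK LD1_c1 LD2_c12 LD3_c58)) :=
  Lgr Lrot23 (Lpr_ct (K9.f31470 IH) (Lpr_ft (f190990 IH) (Lpr_ct (f190976 IH) (Lpn (LP (LK LD1_c1 LD2_c12 LD3_c58))))))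
theorem f192562 : Led Lsl_af (LP (LK LD1_c1 LD2_c12 LD3_c58)) = (LP (LK LD1_c1 LD2_c11 LD3_c37)) :=
  Lgr Lrot45 (Lpe (f191004 IH) (Lpr_at (K9.f43229 IH) (Lpr_ft (f192560 IH) (Lpn (LP (LK LD1_c1 LD2_c11 LD3_c37))))))
theorem f192566 : Led Lsl_gt (LP (LK LD1_c0 LD2_c54 LD3_c39)) = (LP (LK LD1_c0 LD2_c33 LD3_c51)) :=
  Lgr Lrot5 (Lpr_ft (f192560 IH) (Lpe (f192562 IH) (Lpe (f171520 IH) (Lpn (LP (LK LD1_c0 LD2_c33 LD3_c51))))))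
theorem f50814 : Led Lsl_bf (LP (LK LD1_c0 LD2_c54 LD3_c39)) = (LP (LK LD1_c0 LD2_c57 LD3_c38)) :=
  Lgr Lrot24 (Lpr_bt (K9.f50805 IH) (Lpn (LP (LK LD1_c0 LD2_c57 LD3_c38))))
theorem f49587 : Led Lsl_af (LP (LK LD1_c0 LD2_c26 LD3_c13)) = (LP (LK LD1_c0 LD2_c26 LD3_c16)) :=
  Lgr Lrot0 (Lpr_at (K9.f49583 IH) (Lpn (LP (LK LD1_c0 LD2_c26 LD3_c16))))
theorem f191145 : Led Lsl_gt (LP (LK LD1_c0 LD2_c35 LD3_c25)) = (LP (LK LD1_c0 LD2_c26 LD3_c13)) :=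
  Lgr Lrot46 (Lpr_gf (f191103 IH) (Lpr_ft (K9.f50109 IH) (Lpe (f49587 IH) (Lpn (LP (LK LD1_c0 LD2_c26 LD3_c13))))))
theorem f192572 : Led Lsl_cf (LP (LK LD1_c0 LD2_c35 LD3_c25)) = (LP (LK LD1_c1 LD2_c14 LD3_c39)) :=
  Lgr Lrot125 (Lpr_gt (f191145 IH) (Lpe (K9.f49592 IH) (Lpe (f50814 IH) (Lpr_gt (f192566 IH) (Lpe (f171519 IH) (Lpe (K9.f171512 IH) (Lpe (K9.f31677 IH) (Lpe (K1.f32235 IH) (Lpr_bt (K1.f32098 IH) (Lpr_gt (f32109 IH) (Lpn (LP (LK LD1_c1 LD2_c14 LD3_c39)))))))))))))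
theorem f49613 : Led Lsl_at (LP (LK LD1_c2 LD2_c1 LD3_c9)) = (LP (LK LD1_c2 LD2_c1 LD3_c20)) :=
  Lgr Lrot107 (Lpe (K9.f49604 IH) (Lpr_af (K9.f49600 IH) (Lpe (K9.f49612 IH) (Lpn (LP (LK LD1_c2 LD2_c1 LD3_c20))))))
theorem f49661 : Led Lsl_ft (LP (LK LD1_c0 LD2_c57 LD3_c38)) = (LP (LK LD1_c2 LD2_c1 LD3_c9)) :=
  Lre_f IH (LK LD1_c0 LD2_c57 LD3_c38) (LK LD1_c2 LD2_c1 LD3_c9) Lrfl Lrfl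
theorem f53583 : Led Lsl_gt (LP (LK LD1_c2 LD2_c1 LD3_c6)) = (LP (LK LD1_c2 LD2_c1 LD3_c20)) :=
  Lgr Lrot46 (Lpe (f44989 IH) (Lpr_ft (f49661 IH) (Lpr_at (f49613 IH) (Lpn (LP (LK LD1_c2 LD2_c1 LD3_c20))))))
theorem f49889 : Led Lsl_bt (LP (LK LD1_c0 LD2_c34 LD3_c28)) = (LP (LK LD1_c1 LD2_c14 LD3_c19)) :=
  Lre_b IH (LK LD1_c0 LD2_c34 LD3_c28) (LK LD1_c1 LD2_c14 LD3_c19) Lrfl Lrfl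
theorem f187887 : Led Lsl_gf (LP (LK LD1_c1 LD2_c14 LD3_c19)) = (LP (LK LD1_c2 LD2_c10 LD3_c47)) :=
  Lgr Lrot124 (Lpe (f49889 IH) (Lpr_ct (f32908 IH) (Lpe (f49854 IH) (Lpr_cf (K9.f50882 IH) (Lpr_bt (f49429 IH) (Lpr_gt (f187875 IH) (Lpr_ct (f46221 IH) (Lpr_gt (K9.f46220 IH) (Lpr_cf (K1.f46196 IH) (Lpr_bt (K1.f46129 IH) (Lpn (LP (LK LD1_c2 LD2_c10 LD3_c47)))))))))))))
theorem f191035 : Led Lsl_bf (LP (LK LD1_c2 LD2_c1 LD3_c6)) = (LP (LK LD1_c1 LD2_c59 LD3_c45)) :=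
  Lgr Lrot34 (Lpe (f44989 IH) (Lpe (K9.f50805 IH) (Lpr_ct (f43219 IH) (Lpe (f27714 IH) (Lpr_cf (f191026 IH) (Lpr_gf (f187887 IH) (Lpe (K1.f46129 IH) (Lpe (K1.f46196 IH) (Lpe (K9.f46220 IH) (Lpe (f46221 IH) (Lpn (LP (LK LD1_c1 LD2_c59 LD3_c45)))))))))))))
theorem f44506 : Led Lsl_bf (LP (LK LD1_c0 LD2_c25 LD3_c24)) = (LP (LK LD1_c0 LD2_c28 LD3_c29)) :=
  Lgr Lrot96 (Lpr_et (K1.f28171 IH) (Lpr_bt (K1.f44478 IH) (Lpr_et (K1.f41863 IH) (Lpn (LP (LK LD1_c0 LD2_c28 LD3_c29))))))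
theorem f34622 : Led Lsl_bt (LP (LK LD1_c0 LD2_c15 LD3_c10)) = (LP (LK LD1_c0 LD2_c6 LD3_c57)) :=
  Lre_b IH (LK LD1_c0 LD2_c15 LD3_c10) (LK LD1_c0 LD2_c6 LD3_c57) Lrfl Lrfl
theorem f34623 : Led Lsl_gt (LP (LK LD1_c0 LD2_c25 LD3_c16)) = (LP (LK LD1_c0 LD2_c11 LD3_c15)) :=
  Lre_g IH (LK LD1_c0 LD2_c25 LD3_c16) (LK LD1_c0 LD2_c11 LD3_c15) Lrfl Lrfl
theorem f34624 : Led Lsl_ct (LP (LK LD1_c0 LD2_c55 LD3_c39)) = (LP (LK LD1_c0 LD2_c25 LD3_c16)) :=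
  Lre_c IH (LK LD1_c0 LD2_c55 LD3_c39) (LK LD1_c0 LD2_c25 LD3_c16) Lrfl Lrfl
theorem f171517 : Led Lsl_bf (LP (LK LD1_c1 LD2_c14 LD3_c39)) = (LP (LK LD1_c0 LD2_c55 LD3_c39)) :=
  Lgr Lrot34 (Lpe (f32109 IH) (Lpe (K1.f32098 IH) (Lpr_ct (K1.f32235 IH) (Lpr_gf (K9.f31677 IH) (Lpr_cf (K9.f171512 IH) (Lpe (K9.f21326 IH) (Lpe (f34622 IH) (Lpr_ct (K0.f34085 IH) (Lpe (f34623 IH) (Lpe (f34624 IH) (Lpn (LP (LK LD1_c0 LD2_c55 LD3_c39)))))))))))))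
theorem f171522 : Led Lsl_bt (LP (LK LD1_c1 LD2_c14 LD3_c39)) = (LP (LK LD1_c0 LD2_c55 LD3_c39)) :=
  Lgr Lrot127 (Lpr_bf (f171517 IH) (Lpn (LP (LK LD1_c0 LD2_c55 LD3_c39))))
theorem f192584 : Led Lsl_gf (LP (LK LD1_c0 LD2_c25 LD3_c24)) = (LP (LK LD1_c0 LD2_c55 LD3_c39)) :=
  Lgr Lrot124 (Lpr_bf (f44506 IH) (Lpe (K1.f41864 IH) (Lpr_gt (K9.f47415 IH) (Lpe (f46221 IH) (Lpe (f191035 IH) (Lpr_gt (f53583 IH) (Lpr_ct (K9.f49612 IH) (Lpe (f191103 IH) (Lpr_cf (f192572 IH) (Lpr_bt (f171522 IH) (Lpn (LP (LK LD1_c0 LD2_c55 LD3_c39)))))))))))))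
theorem f27858 : Led Lsl_ct (LP (LK LD1_c1 LD2_c58 LD3_c22)) = (LP (LK LD1_c4 LD2_c2 LD3_c41)) :=
  Lre_c IH (LK LD1_c1 LD2_c58 LD3_c22) (LK LD1_c4 LD2_c2 LD3_c41) Lrfl Lrfl
theorem f47055 : Led Lsl_af (LP (LK LD1_c0 LD2_c25 LD3_c24)) = (LP (LK LD1_c0 LD2_c25 LD3_c26)) :=
  Lgr Lrot109 (Lpr_cf (K1.f47046 IH) (Lpe (K1.f36400 IH) (Lpe (K1.f46617 IH) (Lpe (K1.f46876 IH) (Lpe (K1.f46691 IH) (Lpr_df (K1.f46669 IH) (Lpe (f27858 IH) (Lpe (K1.f27857 IH) (Lpr_ft (K1.f27843 IH) (Lpn (LP (LK LD1_c0 LD2_c25 LD3_c26))))))))))))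
theorem f192586 : Led Lsl_gt (LP (LK LD1_c0 LD2_c56 LD3_c2)) = (LP (LK LD1_c0 LD2_c55 LD3_c39)) :=
  Lgr Lrot5 (Lpr_ft (K1.f27843 IH) (Lpe (f47055 IH) (Lpr_gf (f192584 IH) (Lpn (LP (LK LD1_c0 LD2_c55 LD3_c39))))))
theorem f28173 : Led Lsl_gt (LP (LK LD1_c1 LD2_c58 LD3_c13)) = (LP (LK LD1_c0 LD2_c55 LD3_c60)) :=
  Lre_g IH (LK LD1_c1 LD2_c58 LD3_c13) (LK LD1_c0 LD2_c55 LD3_c60) Lrfl Lrfl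
theorem f46579 : Led Lsl_gf (LP (LK LD1_c1 LD2_c58 LD3_c13)) = (LP (LK LD1_c1 LD2_c58 LD3_c22)) :=
  Lgr Lrot47 (Lpr_gt (f28173 IH) (Lpr_af (K1.f46536 IH) (Lpe (K1.f27868 IH) (Lpn (LP (LK LD1_c1 LD2_c58 LD3_c22))))))
theorem f21749 : Led Lsl_gt (LP (LK LD1_c2 LD2_c31 LD3_c45)) = (LP (LK LD1_c1 LD2_c12 LD3_c56)) :=
  Lre_g IH (LK LD1_c2 LD2_c31 LD3_c45) (LK LD1_c1 LD2_c12 LD3_c56) Lrfl Lrfl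
theorem f192850 : Led Lsl_ct (LP (LK LD1_c1 LD2_c58 LD3_c13)) = (LP (LK LD1_c2 LD2_c31 LD3_c45)) :=
  Lgr Lrot152 (Lpr_gf (f46579 IH) (Lpe (K1.f27857 IH) (Lpr_gt (f192586 IH) (Lpr_ct (f34624 IH) (Lpr_gt (f34623 IH) (Lpe (K0.f33106 IH) (Lpe (K0.f21853 IH) (Lpe (K0.f21734 IH) (Lpe (f21749 IH) (Lpn (LP (LK LD1_c2 LD2_c31 LD3_c45))))))))))))
theorem f45821 : Led Lsl_bf (LP (LK LD1_c1 LD2_c58 LD3_c22)) = (LP (LK LD1_c2 LD2_c37 LD3_c18)) :=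
  Lgr Lrot24 (Lpr_bt (K1.f45817 IH) (Lpn (LP (LK LD1_c2 LD2_c37 LD3_c18))))
theorem f21309 : Led Lsl_bt (LP (LK LD1_c0 LD2_c33 LD3_c49)) = (LP (LK LD1_c0 LD2_c15 LD3_c13)) :=
  Lre_b IH (LK LD1_c0 LD2_c33 LD3_c49) (LK LD1_c0 LD2_c15 LD3_c13) Lrfl Lrfl
theorem f165246 : Led Lsl_bt (LP (LK LD1_c1 LD2_c13 LD3_c9)) = (LP (LK LD1_c0 LD2_c33 LD3_c56)) :=
  Lre_b IH (LK LD1_c1 LD2_c13 LD3_c9) (LK LD1_c0 LD2_c33 LD3_c56) Lrfl Lrfl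
theorem f165249 : Led Lsl_ct (LP (LK LD1_c1 LD2_c13 LD3_c9)) = (LP (LK LD1_c2 LD2_c32 LD3_c19)) :=
  Lre_c IH (LK LD1_c1 LD2_c13 LD3_c9) (LK LD1_c2 LD2_c32 LD3_c19) Lrfl Lrfl
theorem f192902 : Led Lsl_gt (LP (LK LD1_c2 LD2_c32 LD3_c19)) = (LP (LK LD1_c5 LD2_c10 LD3_c30)) :=
  Lre_g IH (LK LD1_c2 LD2_c32 LD3_c19) (LK LD1_c5 LD2_c10 LD3_c30) Lrfl Lrfl
theorem f192903 : Led Lsl_ct (LP (LK LD1_c2 LD2_c37 LD3_c18)) = (LP (LK LD1_c5 LD2_c10 LD3_c30)) :=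
  Lgr Lrot10 (Lpe (f45821 IH) (Lpe (f46579 IH) (Lpr_ct (f192850 IH) (Lpr_gt (f21749 IH) (Lpe (K0.f21837 IH) (Lpr_bt (f21309 IH) (Lpr_gt (f21988 IH) (Lpe (f165246 IH) (Lpr_ct (f165249 IH) (Lpr_gt (f192902 IH) (Lpn (LP (LK LD1_c5 LD2_c10 LD3_c30)))))))))))))
theorem f45985 : Led Lsl_dt (LP (LK LD1_c1 LD2_c15 LD3_c40)) = (LP (LK LD1_c2 LD2_c37 LD3_c18)) :=
  Lre_d IH (LK LD1_c1 LD2_c15 LD3_c40) (LK LD1_c2 LD2_c37 LD3_c18) Lrfl Lrfl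
theorem f45819 : Led Lsl_dt (LP (LK LD1_c1 LD2_c15 LD3_c49)) = (LP (LK LD1_c0 LD2_c35 LD3_c9)) :=
  Lre_d IH (LK LD1_c1 LD2_c15 LD3_c49) (LK LD1_c0 LD2_c35 LD3_c9) Lrfl Lrfl
theorem f46481 : Led Lsl_ct (LP (LK LD1_c2 LD2_c37 LD3_c36)) = (LP (LK LD1_c1 LD2_c15 LD3_c49)) :=
  Lre_c IH (LK LD1_c2 LD2_c37 LD3_c36) (LK LD1_c1 LD2_c15 LD3_c49) Lrfl Lrfl
theorem f46480 : Led Lsl_dt (LP (LK LD1_c5 LD2_c22 LD3_c13)) = (LP (LK LD1_c2 LD2_c37 LD3_c36)) :=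
  Lre_d IH (LK LD1_c5 LD2_c22 LD3_c13) (LK LD1_c2 LD2_c37 LD3_c36) Lrfl Lrfl
theorem f46418 : Led Lsl_ct (LP (LK LD1_c8 LD2_c52 LD3_c3)) = (LP (LK LD1_c5 LD2_c22 LD3_c13)) :=
  Lgr Lrot59 (Lpr_cf (K1.f46410 IH) (Lpn (LP (LK LD1_c5 LD2_c22 LD3_c13))))
theorem f190651 : Led Lsl_ft (LP (LK LD1_c4 LD2_c27 LD3_c10)) = (LP (LK LD1_c5 LD2_c3 LD3_c44)) :=
  Lgr Lrot48 (Lpr_ff (f190623 IH) (Lpn (LP (LK LD1_c5 LD2_c3 LD3_c44))))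
theorem f192917 : Led Lsl_at (LP (LK LD1_c5 LD2_c3 LD3_c44)) = (LP (LK LD1_c5 LD2_c10 LD3_c30)) :=
  Lgr Lrot33 (Lpe (f190651 IH) (Lpr_dt (K1.f44218 IH) (Lpr_ct (f46418 IH) (Lpr_dt (f46480 IH) (Lpr_ct (f46481 IH) (Lpr_dt (f45819 IH) (Lpr_ct (K1.f45813 IH) (Lpr_dt (f45985 IH) (Lpr_ct (f192903 IH) (Lpn (LP (LK LD1_c5 LD2_c10 LD3_c30))))))))))))
theorem f192927 : Led Lsl_gt (LP (LK LD1_c4 LD2_c27 LD3_c10)) = (LP (LK LD1_c2 LD2_c32 LD3_c19)) :=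
  Lgr Lrot5 (Lpr_ft (f190651 IH) (Lpr_at (f192917 IH) (Lpe (f192902 IH) (Lpn (LP (LK LD1_c2 LD2_c32 LD3_c19))))))
theorem f44279 : Led Lsl_dt (LP (LK LD1_c1 LD2_c2 LD3_c23)) = (LP (LK LD1_c2 LD2_c10 LD3_c46)) :=
  Lre_d IH (LK LD1_c1 LD2_c2 LD3_c23) (LK LD1_c2 LD2_c10 LD3_c46) Lrfl Lrfl
theorem f41846 : Led Lsl_et (LP (LK LD1_c0 LD2_c12 LD3_c21)) = (LP (LK LD1_c0 LD2_c27 LD3_c59)) :=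
  Lre_e IH (LK LD1_c0 LD2_c12 LD3_c21) (LK LD1_c0 LD2_c27 LD3_c59) Lrfl Lrfl
theorem f45742 : Led Lsl_et (LP (LK LD1_c2 LD2_c8 LD3_c6)) = (LP (LK LD1_c1 LD2_c1 LD3_c11)) :=
  Lre_e IH (LK LD1_c2 LD2_c8 LD3_c6) (LK LD1_c1 LD2_c1 LD3_c11) Lrfl Lrfl
theorem f45743 : Led Lsl_dt (LP (LK LD1_c2 LD2_c8 LD3_c6)) = (LP (LK LD1_c4 LD2_c21 LD3_c9)) :=
  Lre_d IH (LK LD1_c2 LD2_c8 LD3_c6) (LK LD1_c4 LD2_c21 LD3_c9) Lrfl Lrfl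
theorem f45744 : Led Lsl_gf (LP (LK LD1_c2 LD2_c10 LD3_c46)) = (LP (LK LD1_c4 LD2_c21 LD3_c9)) :=
  Lgr Lrot145 (Lpe (f44279 IH) (Lpr_et (K1.f44230 IH) (Lpe (K1.f45734 IH) (Lpr_dt (K1.f45097 IH) (Lpr_gt (K1.f45726 IH) (Lpe (K1.f29003 IH) (Lpr_et (f41846 IH) (Lpr_gt (f45741 IH) (Lpe (f45742 IH) (Lpr_dt (f45743 IH) (Lpn (LP (LK LD1_c4 LD2_c21 LD3_c9)))))))))))))
theorem f187108 : Led Lsl_et (LP (LK LD1_c1 LD2_c1 LD3_c11)) = (LP (LK LD1_c2 LD2_c8 LD3_c6)) :=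
  Lre_e IH (LK LD1_c1 LD2_c1 LD3_c11) (LK LD1_c2 LD2_c8 LD3_c6) Lrfl Lrfl
theorem f187109 : Led Lsl_bt (LP (LK LD1_c2 LD2_c8 LD3_c6)) = (LP (LK LD1_c2 LD2_c23 LD3_c23)) :=
  Lgr Lrot119 (Lpe (f187108 IH) (Lpr_bf (f187097 IH) (Lpe (f186890 IH) (Lpn (LP (LK LD1_c2 LD2_c23 LD3_c23))))))
theorem f45750 : Led Lsl_dt (LP (LK LD1_c4 LD2_c21 LD3_c9)) = (LP (LK LD1_c2 LD2_c8 LD3_c6)) :=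
  Lre_d IH (LK LD1_c4 LD2_c21 LD3_c9) (LK LD1_c2 LD2_c8 LD3_c6) Lrfl Lrfl
theorem f187113 : Led Lsl_bf (LP (LK LD1_c4 LD2_c21 LD3_c9)) = (LP (LK LD1_c4 LD2_c2 LD3_c34)) :=
  Lgr Lrot93 (Lpr_dt (f45750 IH) (Lpr_bt (f187109 IH) (Lpr_dt (f186888 IH) (Lpn (LP (LK LD1_c4 LD2_c2 LD3_c34))))))
theorem f3391 : Led Lsl_gt (LP (LK LD1_c2 LD2_c28 LD3_c38)) = (LP (LK LD1_c5 LD2_c0 LD3_c52)) :=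
  Lre_g IH (LK LD1_c2 LD2_c28 LD3_c38) (LK LD1_c5 LD2_c0 LD3_c52) Lrfl Lrfl
theorem f192931 : Led Lsl_ct (LP (LK LD1_c4 LD2_c2 LD3_c34)) = (LP (LK LD1_c5 LD2_c0 LD3_c52)) :=
  Lgr Lrot10 (Lpe (f187113 IH) (Lpe (f45744 IH) (Lpr_ct (K1.f44223 IH) (Lpr_gt (f192927 IH) (Lpe (f165249 IH) (Lpr_bt (f165246 IH) (Lpe (f163914 IH) (Lpe (f3396 IH) (Lpr_ct (K0.f3308 IH) (Lpr_gt (f3391 IH) (Lpn (LP (LK LD1_c5 LD2_c0 LD3_c52)))))))))))))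
theorem f46405 : Led Lsl_gf (LP (LK LD1_c4 LD2_c21 LD3_c9)) = (LP (LK LD1_c2 LD2_c37 LD3_c18)) :=
  Lgr Lrot47 (Lpe (f45744 IH) (Lpr_af (K1.f46395 IH) (Lpe (K1.f43952 IH) (Lpn (LP (LK LD1_c2 LD2_c37 LD3_c18))))))
theorem f3365 : Led Lsl_gt (LP (LK LD1_c5 LD2_c0 LD3_c52)) = (LP (LK LD1_c2 LD2_c28 LD3_c10)) :=
  Lre_g IH (LK LD1_c5 LD2_c0 LD3_c52) (LK LD1_c2 LD2_c28 LD3_c10) Lrfl Lrfl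
theorem f27783 : Led Lsl_gt (LP (LK LD1_c0 LD2_c55 LD3_c48)) = (LP (LK LD1_c1 LD2_c57 LD3_c51)) :=
  Lre_g IH (LK LD1_c0 LD2_c55 LD3_c48) (LK LD1_c1 LD2_c57 LD3_c51) Lrfl Lrfl
theorem f165376 : Led Lsl_ct (LP (LK LD1_c1 LD2_c57 LD3_c51)) = (LP (LK LD1_c4 LD2_c1 LD3_c47)) :=
  Lre_c IH (LK LD1_c1 LD2_c57 LD3_c51) (LK LD1_c4 LD2_c1 LD3_c47) Lrfl Lrfl
theorem f192953 : Led Lsl_gf (LP (LK LD1_c4 LD2_c2 LD3_c41)) = (LP (LK LD1_c4 LD2_c1 LD3_c47)) :=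
  Lgr Lrot129 (Lpe (f27858 IH) (Lpr_bt (K1.f45817 IH) (Lpe (f46405 IH) (Lpr_bf (f187113 IH) (Lpr_ct (f192931 IH) (Lpr_gt (f3365 IH) (Lpe (K0.f3317 IH) (Lpr_bt (f165366 IH) (Lpr_gt (f27783 IH) (Lpr_ct (f165376 IH) (Lpn (LP (LK LD1_c4 LD2_c1 LD3_c47)))))))))))))
theorem f60707 : Led Lsl_et (LP (LK LD1_c0 LD2_c25 LD3_c42)) = (LP (LK LD1_c0 LD2_c25 LD3_c42)) :=
  Lgr Lrot71 (Lpe (K1.f46655 IH) (Lpr_ef (K1.f60413 IH) (Lpr_df (K1.f60624 IH) (Lpe (K1.f60422 IH) (Lpe (f46905 IH) (Lpn (LP (LK LD1_c0 LD2_c25 LD3_c42))))))))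
theorem f46951 : Led Lsl_at (LP (LK LD1_c0 LD2_c26 LD3_c55)) = (LP (LK LD1_c0 LD2_c25 LD3_c42)) :=
  Lgr Lrot33 (Lpe (K1.f27842 IH) (Lpr_dt (K1.f27765 IH) (Lpr_ct (K1.f27836 IH) (Lpr_dt (K1.f27837 IH) (Lpr_ct (K1.f27838 IH) (Lpr_dt (K1.f46935 IH) (Lpr_ct (K1.f46947 IH) (Lpr_dt (K1.f46028 IH) (Lpe (f46948 IH) (Lpn (LP (LK LD1_c0 LD2_c25 LD3_c42))))))))))))
theorem f60709 : Led Lsl_af (LP (LK LD1_c0 LD2_c26 LD3_c55)) = (LP (LK LD1_c0 LD2_c25 LD3_c42)) :=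
  Lgr Lrot50 (Lpe (K1.f45990 IH) (Lpr_at (f46951 IH) (Lpr_et (f60707 IH) (Lpn (LP (LK LD1_c0 LD2_c25 LD3_c42))))))
theorem f60713 : Led Lsl_ft (LP (LK LD1_c0 LD2_c11 LD3_c26)) = (LP (LK LD1_c0 LD2_c25 LD3_c42)) :=
  Lre_f IH (LK LD1_c0 LD2_c11 LD3_c26) (LK LD1_c0 LD2_c25 LD3_c42) Lrfl Lrfl
theorem f47060 : Led Lsl_gt (LP (LK LD1_c0 LD2_c11 LD3_c26)) = (LP (LK LD1_c0 LD2_c25 LD3_c39)) :=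
  Lre_g IH (LK LD1_c0 LD2_c11 LD3_c26) (LK LD1_c0 LD2_c25 LD3_c39) Lrfl Lrfl
theorem f60715 : Led Lsl_gf (LP (LK LD1_c0 LD2_c26 LD3_c55)) = (LP (LK LD1_c0 LD2_c25 LD3_c39)) :=
  Lgr Lrot76 (Lpr_af (f60709 IH) (Lpe (f60713 IH) (Lpr_gt (f47060 IH) (Lpn (LP (LK LD1_c0 LD2_c25 LD3_c39))))))
theorem f192959 : Led Lsl_cf (LP (LK LD1_c0 LD2_c25 LD3_c39)) = (LP (LK LD1_c0 LD2_c55 LD3_c46)) :=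
  Lgr Lrot169 (Lpe (f60715 IH) (Lpr_ct (K1.f27844 IH) (Lpe (K1.f27861 IH) (Lpe (K1.f27862 IH) (Lpr_gf (f192953 IH) (Lpe (f165376 IH) (Lpe (f27783 IH) (Lpe (K0.f27771 IH) (Lpr_gt (f33560 IH) (Lpn (LP (LK LD1_c0 LD2_c55 LD3_c46))))))))))))
theorem f173219 : Led Lsl_et (LP (LK LD1_c0 LD2_c12 LD3_c24)) = (LP (LK LD1_c0 LD2_c28 LD3_c5)) :=
  Lre_e IH (LK LD1_c0 LD2_c12 LD3_c24) (LK LD1_c0 LD2_c28 LD3_c5) Lrfl Lrfl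
theorem f173220 : Led Lsl_bf (LP (LK LD1_c0 LD2_c24 LD3_c47)) = (LP (LK LD1_c0 LD2_c28 LD3_c5)) :=
  Lgr Lrot96 (Lpr_et (f40824 IH) (Lpr_bt (K9.f173210 IH) (Lpr_et (f173219 IH) (Lpn (LP (LK LD1_c0 LD2_c28 LD3_c5))))))
theorem f177804 : Led Lsl_df (LP (LK LD1_c0 LD2_c28 LD3_c5)) = (LP (LK LD1_c0 LD2_c56 LD3_c40)) :=
  Lgr Lrot12 (Lpe (f173220 IH) (Lpr_dt (K9.f40825 IH) (Lpr_bt (K9.f177800 IH) (Lpn (LP (LK LD1_c0 LD2_c56 LD3_c40))))))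
theorem f173231 : Led Lsl_ct (LP (LK LD1_c0 LD2_c28 LD3_c5)) = (LP (LK LD1_c1 LD2_c1 LD3_c28)) :=
  Lre_c IH (LK LD1_c0 LD2_c28 LD3_c5) (LK LD1_c1 LD2_c1 LD3_c28) Lrfl Lrfl
theorem f192979 : Led Lsl_df (LP (LK LD1_c1 LD2_c1 LD3_c28)) = (LP (LK LD1_c1 LD2_c57 LD3_c52)) :=
  Lgr Lrot84 (Lpe (f173231 IH) (Lpr_df (f177804 IH) (Lpe (K9.f47077 IH) (Lpe (K1.f27863 IH) (Lpr_gf (f60715 IH) (Lpr_cf (f192959 IH) (Lpr_gt (f184649 IH) (Lpr_dt (K0.f33980 IH) (Lpr_gt (f180781 IH) (Lpn (LP (LK LD1_c1 LD2_c57 LD3_c52))))))))))))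
theorem f193188 : Led Lsl_dt (LP (LK LD1_c1 LD2_c1 LD3_c28)) = (LP (LK LD1_c1 LD2_c57 LD3_c52)) :=
  Lgr Lrot42 (Lpr_df (f192979 IH) (Lpn (LP (LK LD1_c1 LD2_c57 LD3_c52))))
theorem f193190 : Led Lsl_et (LP (LK LD1_c1 LD2_c1 LD3_c28)) = (LP (LK LD1_c0 LD2_c28 LD3_c3)) :=
  Lre_e IH (LK LD1_c1 LD2_c1 LD3_c28) (LK LD1_c0 LD2_c28 LD3_c3) Lrfl Lrfl
theorem f193264 : Led Lsl_gf (LP (LK LD1_c0 LD2_c28 LD3_c3)) = (LP (LK LD1_c0 LD2_c14 LD3_c11)) :=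
  Lgr Lrot141 (Lpe (f193190 IH) (Lpr_dt (f193188 IH) (Lpr_gt (f27772 IH) (Lpe (K0.f27771 IH) (Lpr_et (K0.f27770 IH) (Lpr_gt (K0.f27768 IH) (Lpe (K0.f27735 IH) (Lpr_gt (K0.f1607 IH) (Lpr_df (K0.f2432 IH) (Lpr_et (K0.f2429 IH) (Lpn (LP (LK LD1_c0 LD2_c14 LD3_c11)))))))))))))
theorem f193191 : Led Lsl_dt (LP (LK LD1_c0 LD2_c28 LD3_c3)) = (LP (LK LD1_c1 LD2_c1 LD3_c27)) :=
  Lre_d IH (LK LD1_c0 LD2_c28 LD3_c3) (LK LD1_c1 LD2_c1 LD3_c27) Lrfl Lrfl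
theorem f2983 : Led Lsl_gt (LP (LK LD1_c0 LD2_c11 LD3_c6)) = (LP (LK LD1_c0 LD2_c24 LD3_c58)) :=
  Lre_g IH (LK LD1_c0 LD2_c11 LD3_c6) (LK LD1_c0 LD2_c24 LD3_c58) Lrfl Lrfl
theorem f2984 : Led Lsl_dt (LP (LK LD1_c0 LD2_c24 LD3_c58)) = (LP (LK LD1_c0 LD2_c55 LD3_c7)) :=
  Lre_d IH (LK LD1_c0 LD2_c24 LD3_c58) (LK LD1_c0 LD2_c55 LD3_c7) Lrfl Lrfl
theorem f6928 : Led Lsl_gt (LP (LK LD1_c0 LD2_c55 LD3_c7)) = (LP (LK LD1_c0 LD2_c56 LD3_c33)) :=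
  Lre_g IH (LK LD1_c0 LD2_c55 LD3_c7) (LK LD1_c0 LD2_c56 LD3_c33) Lrfl Lrfl
theorem f6929 : Led Lsl_dt (LP (LK LD1_c0 LD2_c56 LD3_c33)) = (LP (LK LD1_c0 LD2_c25 LD3_c38)) :=
  Lre_d IH (LK LD1_c0 LD2_c56 LD3_c33) (LK LD1_c0 LD2_c25 LD3_c38) Lrfl Lrfl
theorem f6957 : Led Lsl_ct (LP (LK LD1_c0 LD2_c56 LD3_c30)) = (LP (LK LD1_c0 LD2_c25 LD3_c38)) :=
  Lre_c IH (LK LD1_c0 LD2_c56 LD3_c30) (LK LD1_c0 LD2_c25 LD3_c38) Lrfl Lrfl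
theorem f6931 : Led Lsl_dt (LP (LK LD1_c1 LD2_c59 LD3_c23)) = (LP (LK LD1_c0 LD2_c56 LD3_c30)) :=
  Lre_d IH (LK LD1_c1 LD2_c59 LD3_c23) (LK LD1_c0 LD2_c56 LD3_c30) Lrfl Lrfl
theorem f193268 : Led Lsl_gt (LP (LK LD1_c1 LD2_c1 LD3_c27)) = (LP (LK LD1_c1 LD2_c59 LD3_c23)) :=
  Lgr Lrot49 (Lpe (f193191 IH) (Lpr_gf (f193264 IH) (Lpr_cf (K1.f6920 IH) (Lpr_gt (f2983 IH) (Lpr_dt (f2984 IH) (Lpr_gt (f6928 IH) (Lpr_dt (f6929 IH) (Lpe (f6957 IH) (Lpe (f6931 IH) (Lpn (LP (LK LD1_c1 LD2_c59 LD3_c23))))))))))))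
theorem f193285 : Led Lsl_dt (LP (LK LD1_c0 LD2_c56 LD3_c30)) = (LP (LK LD1_c1 LD2_c59 LD3_c23)) :=
  Lre_d IH (LK LD1_c0 LD2_c56 LD3_c30) (LK LD1_c1 LD2_c59 LD3_c23) Lrfl Lrfl
theorem f193286 : Led Lsl_et (LP (LK LD1_c0 LD2_c56 LD3_c30)) = (LP (LK LD1_c0 LD2_c25 LD3_c36)) :=
  Lre_e IH (LK LD1_c0 LD2_c56 LD3_c30) (LK LD1_c0 LD2_c25 LD3_c36) Lrfl Lrfl
theorem f27692 : Led Lsl_et (LP (LK LD1_c0 LD2_c11 LD3_c54)) = (LP (LK LD1_c0 LD2_c26 LD3_c52)) :=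
  Lre_e IH (LK LD1_c0 LD2_c11 LD3_c54) (LK LD1_c0 LD2_c26 LD3_c52) Lrfl Lrfl
theorem f193287 : Led Lsl_gt (LP (LK LD1_c0 LD2_c25 LD3_c36)) = (LP (LK LD1_c0 LD2_c26 LD3_c52)) :=
  Lgr Lrot131 (Lpe (f193286 IH) (Lpr_dt (f193285 IH) (Lpe (f193268 IH) (Lpe (f193191 IH) (Lpr_gf (f193264 IH) (Lpe (K0.f2429 IH) (Lpe (K0.f2432 IH) (Lpe (K0.f1607 IH) (Lpr_df (K0.f27735 IH) (Lpr_et (f27692 IH) (Lpn (LP (LK LD1_c0 LD2_c26 LD3_c52)))))))))))))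
theorem f52686 : Led Lsl_at (LP (LK LD1_c0 LD2_c11 LD3_c59)) = (LP (LK LD1_c0 LD2_c26 LD3_c52)) :=
  Lre_a IH (LK LD1_c0 LD2_c11 LD3_c59) (LK LD1_c0 LD2_c26 LD3_c52) Lrfl Lrfl
theorem f27487 : Led Lsl_ft (LP (LK LD1_c0 LD2_c27 LD3_c2)) = (LP (LK LD1_c0 LD2_c11 LD3_c59)) :=
  Lre_f IH (LK LD1_c0 LD2_c27 LD3_c2) (LK LD1_c0 LD2_c11 LD3_c59) Lrfl Lrfl
theorem f193322 : Led Lsl_gf (LP (LK LD1_c0 LD2_c25 LD3_c36)) = (LP (LK LD1_c0 LD2_c27 LD3_c2)) :=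
  Lgr Lrot47 (Lpr_gt (f193287 IH) (Lpe (f52686 IH) (Lpe (f27487 IH) (Lpn (LP (LK LD1_c0 LD2_c27 LD3_c2))))))
theorem f53083 : Led Lsl_ct (LP (LK LD1_c0 LD2_c11 LD3_c24)) = (LP (LK LD1_c0 LD2_c25 LD3_c36)) :=
  Lre_c IH (LK LD1_c0 LD2_c11 LD3_c24) (LK LD1_c0 LD2_c25 LD3_c36) Lrfl Lrfl
theorem f47066 : Led Lsl_bt (LP (LK LD1_c0 LD2_c11 LD3_c26)) = (LP (LK LD1_c0 LD2_c5 LD3_c21)) :=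
  Lre_b IH (LK LD1_c0 LD2_c11 LD3_c26) (LK LD1_c0 LD2_c5 LD3_c21) Lrfl Lrfl
theorem f55924 : Led Lsl_bf (LP (LK LD1_c0 LD2_c11 LD3_c38)) = (LP (LK LD1_c0 LD2_c7 LD3_c60)) :=
  Lgr Lrot24 (Lpr_bt (K1.f55915 IH) (Lpn (LP (LK LD1_c0 LD2_c7 LD3_c60))))
theorem f171524 : Led Lsl_ct (LP (LK LD1_c0 LD2_c25 LD3_c16)) = (LP (LK LD1_c0 LD2_c55 LD3_c39)) :=
  Lre_c IH (LK LD1_c0 LD2_c25 LD3_c16) (LK LD1_c0 LD2_c55 LD3_c39) Lrfl Lrfl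
theorem f192590 : Led Lsl_bf (LP (LK LD1_c0 LD2_c11 LD3_c30)) = (LP (LK LD1_c0 LD2_c25 LD3_c16)) :=
  Lgr Lrot34 (Lpe (K9.f55622 IH) (Lpr_bf (f55924 IH) (Lpr_ct (K9.f8509 IH) (Lpe (f183207 IH) (Lpe (f183195 IH) (Lpe (K9.f47067 IH) (Lpe (f47066 IH) (Lpe (K1.f47046 IH) (Lpr_gf (f192584 IH) (Lpe (f171524 IH) (Lpn (LP (LK LD1_c0 LD2_c25 LD3_c16)))))))))))))
theorem f171539 : Led Lsl_et (LP (LK LD1_c0 LD2_c55 LD3_c41)) = (LP (LK LD1_c0 LD2_c25 LD3_c16)) :=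
  Lre_e IH (LK LD1_c0 LD2_c55 LD3_c41) (LK LD1_c0 LD2_c25 LD3_c16) Lrfl Lrfl
theorem f192641 : Led Lsl_bt (LP (LK LD1_c0 LD2_c25 LD3_c53)) = (LP (LK LD1_c0 LD2_c55 LD3_c41)) :=
  Lgr Lrot119 (Lpe (f175298 IH) (Lpr_bf (f192590 IH) (Lpe (f171539 IH) (Lpn (LP (LK LD1_c0 LD2_c55 LD3_c41))))))
theorem f171540 : Led Lsl_dt (LP (LK LD1_c0 LD2_c55 LD3_c41)) = (LP (LK LD1_c1 LD2_c57 LD3_c38)) :=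
  Lre_d IH (LK LD1_c0 LD2_c55 LD3_c41) (LK LD1_c1 LD2_c57 LD3_c38) Lrfl Lrfl
theorem f192647 : Led Lsl_bf (LP (LK LD1_c0 LD2_c57 LD3_c1)) = (LP (LK LD1_c1 LD2_c57 LD3_c38)) :=
  Lgr Lrot93 (Lpr_dt (K9.f28341 IH) (Lpr_bt (f192641 IH) (Lpr_dt (f171540 IH) (Lpn (LP (LK LD1_c1 LD2_c57 LD3_c38))))))
theorem f192649 : Led Lsl_bt (LP (LK LD1_c0 LD2_c57 LD3_c1)) = (LP (LK LD1_c1 LD2_c57 LD3_c38)) :=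
  Lgr Lrot127 (Lpr_bf (f192647 IH) (Lpn (LP (LK LD1_c1 LD2_c57 LD3_c38))))
theorem f20490 : Led Lsl_bt (LP (LK LD1_c0 LD2_c15 LD3_c19)) = (LP (LK LD1_c0 LD2_c34 LD3_c4)) :=
  Lre_b IH (LK LD1_c0 LD2_c15 LD3_c19) (LK LD1_c0 LD2_c34 LD3_c4) Lrfl Lrfl
theorem f185151 : Led Lsl_gt (LP (LK LD1_c0 LD2_c34 LD3_c4)) = (LP (LK LD1_c1 LD2_c13 LD3_c35)) :=
  Lre_g IH (LK LD1_c0 LD2_c34 LD3_c4) (LK LD1_c1 LD2_c13 LD3_c35) Lrfl Lrfl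
theorem f185152 : Led Lsl_ct (LP (LK LD1_c1 LD2_c13 LD3_c35)) = (LP (LK LD1_c2 LD2_c33 LD3_c16)) :=
  Lre_c IH (LK LD1_c1 LD2_c13 LD3_c35) (LK LD1_c2 LD2_c33 LD3_c16) Lrfl Lrfl
theorem f28711 : Led Lsl_dt (LP (LK LD1_c0 LD2_c55 LD3_c4)) = (LP (LK LD1_c1 LD2_c56 LD3_c38)) :=
  Lre_d IH (LK LD1_c0 LD2_c55 LD3_c4) (LK LD1_c1 LD2_c56 LD3_c38) Lrfl Lrfl
theorem f28789 : Led Lsl_ct (LP (LK LD1_c3 LD2_c59 LD3_c58)) = (LP (LK LD1_c1 LD2_c56 LD3_c38)) :=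
  Lre_c IH (LK LD1_c3 LD2_c59 LD3_c58) (LK LD1_c1 LD2_c56 LD3_c38) Lrfl Lrfl
theorem f187894 : Led Lsl_gt (LP (LK LD1_c0 LD2_c15 LD3_c17)) = (LP (LK LD1_c0 LD2_c12 LD3_c16)) :=
  Lgr Lrot46 (Lpr_gf (f187889 IH) (Lpr_ft (K0.f28649 IH) (Lpe (K0.f31685 IH) (Lpn (LP (LK LD1_c0 LD2_c12 LD3_c16))))))
theorem f171679 : Led Lsl_dt (LP (LK LD1_c0 LD2_c34 LD3_c4)) = (LP (LK LD1_c0 LD2_c15 LD3_c17)) :=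
  Lre_d IH (LK LD1_c0 LD2_c34 LD3_c4) (LK LD1_c0 LD2_c15 LD3_c17) Lrfl Lrfl
theorem f189869 : Led Lsl_gf (LP (LK LD1_c3 LD2_c59 LD3_c58)) = (LP (LK LD1_c2 LD2_c33 LD3_c16)) :=
  Lgr Lrot104 (Lpr_ct (f28789 IH) (Lpe (f28711 IH) (Lpr_cf (f189860 IH) (Lpe (f32028 IH) (Lpe (K0.f31699 IH) (Lpe (f187894 IH) (Lpe (f171679 IH) (Lpr_gt (f185151 IH) (Lpr_ct (f185152 IH) (Lpn (LP (LK LD1_c2 LD2_c33 LD3_c16))))))))))))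
theorem f28728 : Led Lsl_ct (LP (LK LD1_c1 LD2_c56 LD3_c38)) = (LP (LK LD1_c3 LD2_c59 LD3_c58)) :=
  Lre_c IH (LK LD1_c1 LD2_c56 LD3_c38) (LK LD1_c3 LD2_c59 LD3_c58) Lrfl Lrfl
theorem f31631 : Led Lsl_dt (LP (LK LD1_c0 LD2_c33 LD3_c17)) = (LP (LK LD1_c1 LD2_c11 LD3_c57)) :=
  Lre_d IH (LK LD1_c0 LD2_c33 LD3_c17) (LK LD1_c1 LD2_c11 LD3_c57) Lrfl Lrfl
theorem f31632 : Led Lsl_gt (LP (LK LD1_c1 LD2_c11 LD3_c57)) = (LP (LK LD1_c2 LD2_c29 LD3_c46)) :=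
  Lre_g IH (LK LD1_c1 LD2_c11 LD3_c57) (LK LD1_c2 LD2_c29 LD3_c46) Lrfl Lrfl
theorem f171528 : Led Lsl_et (LP (LK LD1_c1 LD2_c57 LD3_c36)) = (LP (LK LD1_c0 LD2_c55 LD3_c39)) :=
  Lre_e IH (LK LD1_c1 LD2_c57 LD3_c36) (LK LD1_c0 LD2_c55 LD3_c39) Lrfl Lrfl
theorem f192592 : Led Lsl_df (LP (LK LD1_c2 LD2_c29 LD3_c46)) = (LP (LK LD1_c1 LD2_c57 LD3_c36)) :=
  Lgr Lrot132 (Lpe (f31632 IH) (Lpe (f31631 IH) (Lpr_gf (f31624 IH) (Lpe (K0.f28577 IH) (Lpr_dt (K0.f28576 IH) (Lpe (K1.f44031 IH) (Lpr_df (K1.f44910 IH) (Lpr_et (K1.f28180 IH) (Lpr_gf (f192584 IH) (Lpe (f171528 IH) (Lpn (LP (LK LD1_c1 LD2_c57 LD3_c36)))))))))))))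
theorem f192597 : Led Lsl_dt (LP (LK LD1_c2 LD2_c29 LD3_c46)) = (LP (LK LD1_c1 LD2_c57 LD3_c36)) :=
  Lgr Lrot42 (Lpr_df (f192592 IH) (Lpn (LP (LK LD1_c1 LD2_c57 LD3_c36))))
theorem f192595 : Led Lsl_ct (LP (LK LD1_c0 LD2_c55 LD3_c41)) = (LP (LK LD1_c1 LD2_c57 LD3_c36)) :=
  Lre_c IH (LK LD1_c0 LD2_c55 LD3_c41) (LK LD1_c1 LD2_c57 LD3_c36) Lrfl Lrfl
theorem f192596 : Led Lsl_dt (LP (LK LD1_c1 LD2_c57 LD3_c38)) = (LP (LK LD1_c0 LD2_c55 LD3_c41)) :=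
  Lre_d IH (LK LD1_c1 LD2_c57 LD3_c38) (LK LD1_c0 LD2_c55 LD3_c41) Lrfl Lrfl
theorem f192634 : Led Lsl_gt (LP (LK LD1_c1 LD2_c56 LD3_c38)) = (LP (LK LD1_c1 LD2_c57 LD3_c38)) :=
  Lgr Lrot49 (Lpe (f28711 IH) (Lpe (f28710 IH) (Lpe (K0.f28579 IH) (Lpe (f31624 IH) (Lpr_dt (f31631 IH) (Lpr_gt (f31632 IH) (Lpr_dt (f192597 IH) (Lpe (f192595 IH) (Lpe (f192596 IH) (Lpn (LP (LK LD1_c1 LD2_c57 LD3_c38))))))))))))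
theorem f192787 : Led Lsl_bt (LP (LK LD1_c1 LD2_c56 LD3_c38)) = (LP (LK LD1_c1 LD2_c56 LD3_c38)) :=
  Lgr Lrot22 (Lpr_ct (f28728 IH) (Lpr_gf (f189869 IH) (Lpe (f185152 IH) (Lpe (f185151 IH) (Lpe (f20490 IH) (Lpr_ct (f20491 IH) (Lpe (f185149 IH) (Lpr_cf (f185147 IH) (Lpr_bt (f192649 IH) (Lpe (f192634 IH) (Lpn (LP (LK LD1_c1 LD2_c56 LD3_c38)))))))))))))
theorem f52238 : Led Lsl_df (LP (LK LD1_c0 LD2_c5 LD3_c18)) = (LP (LK LD1_c0 LD2_c5 LD3_c18)) :=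
  Lgr Lrot78 (Lpr_ft (K1.f27930 IH) (Lpr_dt (f51605 IH) (Lpr_ft (K1.f27932 IH) (Lpn (LP (LK LD1_c0 LD2_c5 LD3_c18))))))
theorem f53078 : Led Lsl_gt (LP (LK LD1_c0 LD2_c11 LD3_c24)) = (LP (LK LD1_c0 LD2_c5 LD3_c18)) :=
  Lre_g IH (LK LD1_c0 LD2_c11 LD3_c24) (LK LD1_c0 LD2_c5 LD3_c18) Lrfl Lrfl
theorem f53079 : Led Lsl_dt (LP (LK LD1_c0 LD2_c25 LD3_c37)) = (LP (LK LD1_c0 LD2_c11 LD3_c24)) :=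
  Lre_d IH (LK LD1_c0 LD2_c25 LD3_c37) (LK LD1_c0 LD2_c11 LD3_c24) Lrfl Lrfl
theorem f53095 : Led Lsl_et (LP (LK LD1_c0 LD2_c25 LD3_c37)) = (LP (LK LD1_c0 LD2_c55 LD3_c4)) :=
  Lgr Lrot122 (Lpr_dt (f53079 IH) (Lpr_gt (f53078 IH) (Lpr_df (f52238 IH) (Lpr_et (K1.f27931 IH) (Lpr_gt (K0.f493 IH) (Lpe (K0.f33120 IH) (Lpr_gt (K2.f8204 IH) (Lpr_df (K0.f31057 IH) (Lpr_et (K0.f28602 IH) (Lpr_gt (f28710 IH) (Lpn (LP (LK LD1_c0 LD2_c55 LD3_c4)))))))))))))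
theorem f53100 : Led Lsl_ef (LP (LK LD1_c0 LD2_c25 LD3_c37)) = (LP (LK LD1_c0 LD2_c55 LD3_c4)) :=
  Lgr Lrot88 (Lpr_et (f53095 IH) (Lpn (LP (LK LD1_c0 LD2_c55 LD3_c4))))
theorem f53103 : Led Lsl_et (LP (LK LD1_c0 LD2_c11 LD3_c24)) = (LP (LK LD1_c0 LD2_c25 LD3_c38)) :=
  Lre_e IH (LK LD1_c0 LD2_c11 LD3_c24) (LK LD1_c0 LD2_c25 LD3_c38) Lrfl Lrfl
theorem f28163 : Led Lsl_dt (LP (LK LD1_c0 LD2_c25 LD3_c38)) = (LP (LK LD1_c0 LD2_c56 LD3_c33)) :=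
  Lre_d IH (LK LD1_c0 LD2_c25 LD3_c38) (LK LD1_c0 LD2_c56 LD3_c33) Lrfl Lrfl
theorem f28792 : Led Lsl_dt (LP (LK LD1_c1 LD2_c56 LD3_c38)) = (LP (LK LD1_c0 LD2_c55 LD3_c4)) :=
  Lre_d IH (LK LD1_c1 LD2_c56 LD3_c38) (LK LD1_c0 LD2_c55 LD3_c4) Lrfl Lrfl
theorem f53104 : Led Lsl_et (LP (LK LD1_c0 LD2_c56 LD3_c33)) = (LP (LK LD1_c1 LD2_c56 LD3_c38)) :=
  Lgr Lrot71 (Lpe (f28163 IH) (Lpe (f53103 IH) (Lpe (f53079 IH) (Lpr_ef (f53100 IH) (Lpe (f28792 IH) (Lpn (LP (LK LD1_c1 LD2_c56 LD3_c38))))))))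
theorem f28161 : Led Lsl_dt (LP (LK LD1_c0 LD2_c11 LD3_c24)) = (LP (LK LD1_c0 LD2_c25 LD3_c37)) :=
  Lre_d IH (LK LD1_c0 LD2_c11 LD3_c24) (LK LD1_c0 LD2_c25 LD3_c37) Lrfl Lrfl
theorem f28162 : Led Lsl_et (LP (LK LD1_c0 LD2_c25 LD3_c38)) = (LP (LK LD1_c0 LD2_c11 LD3_c24)) :=
  Lre_e IH (LK LD1_c0 LD2_c25 LD3_c38) (LK LD1_c0 LD2_c11 LD3_c24) Lrfl Lrfl
theorem f53098 : Led Lsl_ef (LP (LK LD1_c0 LD2_c56 LD3_c33)) = (LP (LK LD1_c1 LD2_c56 LD3_c38)) :=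
  Lgr Lrot73 (Lpr_dt (f6929 IH) (Lpr_et (f28162 IH) (Lpr_dt (f28161 IH) (Lpr_et (f53095 IH) (Lpr_dt (f28711 IH) (Lpn (LP (LK LD1_c1 LD2_c56 LD3_c38))))))))
theorem f192791 : Led Lsl_bf (LP (LK LD1_c0 LD2_c56 LD3_c33)) = (LP (LK LD1_c0 LD2_c56 LD3_c33)) :=
  Lgr Lrot96 (Lpr_et (f53104 IH) (Lpr_bt (f192787 IH) (Lpe (f53098 IH) (Lpn (LP (LK LD1_c0 LD2_c56 LD3_c33))))))
theorem f192795 : Led Lsl_bt (LP (LK LD1_c0 LD2_c25 LD3_c38)) = (LP (LK LD1_c0 LD2_c25 LD3_c38)) :=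
  Lgr Lrot95 (Lpe (f6929 IH) (Lpr_bf (f192791 IH) (Lpe (f28163 IH) (Lpn (LP (LK LD1_c0 LD2_c25 LD3_c38))))))
theorem f192801 : Led Lsl_bf (LP (LK LD1_c0 LD2_c11 LD3_c24)) = (LP (LK LD1_c0 LD2_c11 LD3_c24)) :=
  Lgr Lrot96 (Lpr_et (f53103 IH) (Lpr_bt (f192795 IH) (Lpr_et (f28162 IH) (Lpn (LP (LK LD1_c0 LD2_c11 LD3_c24))))))
theorem f51565 : Led Lsl_bt (LP (LK LD1_c0 LD2_c2 LD3_c29)) = (LP (LK LD1_c0 LD2_c5 LD3_c18)) :=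
  Lre_b IH (LK LD1_c0 LD2_c2 LD3_c29) (LK LD1_c0 LD2_c5 LD3_c18) Lrfl Lrfl
theorem f170605 : Led Lsl_bt (LP (LK LD1_c0 LD2_c6 LD3_c24)) = (LP (LK LD1_c0 LD2_c14 LD3_c0)) :=
  Lre_b IH (LK LD1_c0 LD2_c6 LD3_c24) (LK LD1_c0 LD2_c14 LD3_c0) Lrfl Lrfl
theorem f193333 : Led Lsl_gt (LP (LK LD1_c0 LD2_c14 LD3_c0)) = (LP (LK LD1_c0 LD2_c11 LD3_c61)) :=
  Lgr Lrot82 (Lpe (f170605 IH) (Lpe (K9.f170608 IH) (Lpe (K9.f518 IH) (Lpe (K9.f51552 IH) (Lpr_bt (f51565 IH) (Lpe (f53078 IH) (Lpr_bf (f192801 IH) (Lpr_ct (f53083 IH) (Lpr_gf (f193322 IH) (Lpe (f27481 IH) (Lpn (LP (LK LD1_c0 LD2_c11 LD3_c61)))))))))))))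
theorem f193344 : Led Lsl_et (LP (LK LD1_c0 LD2_c31 LD3_c37)) = (LP (LK LD1_c0 LD2_c14 LD3_c0)) :=
  Lre_e IH (LK LD1_c0 LD2_c31 LD3_c37) (LK LD1_c0 LD2_c14 LD3_c0) Lrfl Lrfl
theorem f193345 : Led Lsl_dt (LP (LK LD1_c0 LD2_c31 LD3_c37)) = (LP (LK LD1_c0 LD2_c34 LD3_c13)) :=
  Lre_d IH (LK LD1_c0 LD2_c31 LD3_c37) (LK LD1_c0 LD2_c34 LD3_c13) Lrfl Lrfl
theorem f170293 : Led Lsl_bt (LP (LK LD1_c0 LD2_c27 LD3_c33)) = (LP (LK LD1_c0 LD2_c12 LD3_c13)) :=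
  Lre_b IH (LK LD1_c0 LD2_c27 LD3_c33) (LK LD1_c0 LD2_c12 LD3_c13) Lrfl Lrfl
theorem f180245 : Led Lsl_bf (LP (LK LD1_c0 LD2_c27 LD3_c43)) = (LP (LK LD1_c0 LD2_c14 LD3_c19)) :=
  Lgr Lrot96 (Lpe (f180118 IH) (Lpr_bt (f170293 IH) (Lpr_et (K9.f180243 IH) (Lpn (LP (LK LD1_c0 LD2_c14 LD3_c19))))))
theorem f182091 : Led Lsl_gt (LP (LK LD1_c0 LD2_c27 LD3_c43)) = (LP (LK LD1_c0 LD2_c27 LD3_c50)) :=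
  Lgr Lrot82 (Lpr_bf (f180245 IH) (Lpr_ct (K9.f171510 IH) (Lpe (K9.f21326 IH) (Lpe (K0.f22105 IH) (Lpr_bt (K9.f163670 IH) (Lpe (K9.f37322 IH) (Lpe (K9.f165182 IH) (Lpe (K9.f182015 IH) (Lpr_gf (K9.f182036 IH) (Lpe (K0.f28629 IH) (Lpn (LP (LK LD1_c0 LD2_c27 LD3_c50)))))))))))))
theorem f193346 : Led Lsl_gf (LP (LK LD1_c0 LD2_c34 LD3_c13)) = (LP (LK LD1_c1 LD2_c1 LD3_c0)) :=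
  Lgr Lrot145 (Lpe (f193345 IH) (Lpr_et (f193344 IH) (Lpr_gt (f193333 IH) (Lpr_dt (f52676 IH) (Lpe (K9.f179842 IH) (Lpe (f180103 IH) (Lpr_et (f180110 IH) (Lpr_gt (f182091 IH) (Lpe (K0.f31067 IH) (Lpr_dt (K0.f28638 IH) (Lpn (LP (LK LD1_c1 LD2_c1 LD3_c0)))))))))))))
theorem f193353 : Led Lsl_gt (LP (LK LD1_c0 LD2_c34 LD3_c13)) = (LP (LK LD1_c0 LD2_c27 LD3_c44)) :=
  Lgr Lrot46 (Lpr_gf (f193346 IH) (Lpr_ft (K0.f28634 IH) (Lpr_at (K0.f32004 IH) (Lpn (LP (LK LD1_c0 LD2_c27 LD3_c44))))))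
theorem f193362 : Led Lsl_gf (LP (LK LD1_c0 LD2_c14 LD3_c0)) = (LP (LK LD1_c0 LD2_c11 LD3_c55)) :=
  Lgr Lrot141 (Lpe (f193344 IH) (Lpr_dt (f193345 IH) (Lpr_gt (f193353 IH) (Lpe (K0.f28464 IH) (Lpr_et (K1.f28463 IH) (Lpr_gt (K0.f28457 IH) (Lpr_dt (K0.f28459 IH) (Lpe (K0.f28509 IH) (Lpe (K0.f27556 IH) (Lpr_et (K9.f27756 IH) (Lpn (LP (LK LD1_c0 LD2_c11 LD3_c55)))))))))))))
theorem f170859 : Led Lsl_dt (LP (LK LD1_c0 LD2_c31 LD3_c36)) = (LP (LK LD1_c0 LD2_c14 LD3_c0)) :=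
  Lre_d IH (LK LD1_c0 LD2_c31 LD3_c36) (LK LD1_c0 LD2_c14 LD3_c0) Lrfl Lrfl
theorem f173268 : Led Lsl_gt (LP (LK LD1_c1 LD2_c1 LD3_c32)) = (LP (LK LD1_c0 LD2_c28 LD3_c5)) :=
  Lre_g IH (LK LD1_c1 LD2_c1 LD3_c32) (LK LD1_c0 LD2_c28 LD3_c5) Lrfl Lrfl
theorem f193368 : Led Lsl_et (LP (LK LD1_c0 LD2_c31 LD3_c36)) = (LP (LK LD1_c1 LD2_c1 LD3_c32)) :=
  Lgr Lrot185 (Lpr_dt (f170859 IH) (Lpr_gf (f193362 IH) (Lpr_df (f52680 IH) (Lpe (K9.f180097 IH) (Lpe (K9.f180104 IH) (Lpr_dt (K9.f180105 IH) (Lpr_gf (K9.f180108 IH) (Lpe (K9.f27911 IH) (Lpr_et (f173219 IH) (Lpe (f173268 IH) (Lpn (LP (LK LD1_c1 LD2_c1 LD3_c32)))))))))))))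
theorem f193376 : Led Lsl_df (LP (LK LD1_c0 LD2_c56 LD3_c40)) = (LP (LK LD1_c0 LD2_c28 LD3_c5)) :=
  Lgr Lrot135 (Lpr_gt (K9.f47062 IH) (Lpe (K1.f28217 IH) (Lpr_et (K1.f28181 IH) (Lpe (K0.f28209 IH) (Lpe (f27757 IH) (Lpe (f52680 IH) (Lpe (f193362 IH) (Lpe (f170859 IH) (Lpr_et (f193368 IH) (Lpr_gt (f173268 IH) (Lpn (LP (LK LD1_c0 LD2_c28 LD3_c5)))))))))))))
theorem f177806 : Led Lsl_et (LP (LK LD1_c0 LD2_c56 LD3_c40)) = (LP (LK LD1_c1 LD2_c59 LD3_c32)) :=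
  Lre_e IH (LK LD1_c0 LD2_c56 LD3_c40) (LK LD1_c1 LD2_c59 LD3_c32) Lrfl Lrfl
theorem f35481 : Led Lsl_dt (LP (LK LD1_c0 LD2_c28 LD3_c4)) = (LP (LK LD1_c0 LD2_c12 LD3_c24)) :=
  Lre_d IH (LK LD1_c0 LD2_c28 LD3_c4) (LK LD1_c0 LD2_c12 LD3_c24) Lrfl Lrfl
theorem f173275 : Led Lsl_et (LP (LK LD1_c1 LD2_c1 LD3_c31)) = (LP (LK LD1_c0 LD2_c28 LD3_c4)) :=
  Lre_e IH (LK LD1_c1 LD2_c1 LD3_c31) (LK LD1_c0 LD2_c28 LD3_c4) Lrfl Lrfl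
theorem f193378 : Led Lsl_dt (LP (LK LD1_c1 LD2_c59 LD3_c32)) = (LP (LK LD1_c1 LD2_c1 LD3_c31)) :=
  Lgr Lrot77 (Lpe (f177806 IH) (Lpr_df (f193376 IH) (Lpe (f173219 IH) (Lpe (f35481 IH) (Lpe (f173275 IH) (Lpn (LP (LK LD1_c1 LD2_c1 LD3_c31))))))))
theorem f47081 : Led Lsl_et (LP (LK LD1_c1 LD2_c59 LD3_c32)) = (LP (LK LD1_c0 LD2_c56 LD3_c40)) :=
  Lre_e IH (LK LD1_c1 LD2_c59 LD3_c32) (LK LD1_c0 LD2_c56 LD3_c40) Lrfl Lrfl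
theorem f56329 : Led Lsl_dt (LP (LK LD1_c0 LD2_c56 LD3_c35)) = (LP (LK LD1_c0 LD2_c25 LD3_c39)) :=
  Lre_d IH (LK LD1_c0 LD2_c56 LD3_c35) (LK LD1_c0 LD2_c25 LD3_c39) Lrfl Lrfl
theorem f56330 : Led Lsl_et (LP (LK LD1_c0 LD2_c56 LD3_c35)) = (LP (LK LD1_c1 LD2_c59 LD3_c30)) :=
  Lre_e IH (LK LD1_c0 LD2_c56 LD3_c35) (LK LD1_c1 LD2_c59 LD3_c30) Lrfl Lrfl
theorem f36411 : Led Lsl_et (LP (LK LD1_c0 LD2_c18 LD3_c48)) = (LP (LK LD1_c0 LD2_c8 LD3_c27)) :=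
  Lre_e IH (LK LD1_c0 LD2_c18 LD3_c48) (LK LD1_c0 LD2_c8 LD3_c27) Lrfl Lrfl
theorem f36443 : Led Lsl_gt (LP (LK LD1_c1 LD2_c1 LD3_c53)) = (LP (LK LD1_c0 LD2_c28 LD3_c14)) :=
  Lre_g IH (LK LD1_c1 LD2_c1 LD3_c53) (LK LD1_c0 LD2_c28 LD3_c14) Lrfl Lrfl
theorem f36444 : Led Lsl_dt (LP (LK LD1_c2 LD2_c9 LD3_c32)) = (LP (LK LD1_c1 LD2_c1 LD3_c53)) :=
  Lre_d IH (LK LD1_c2 LD2_c9 LD3_c32) (LK LD1_c1 LD2_c1 LD3_c53) Lrfl Lrfl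
theorem f56331 : Led Lsl_gt (LP (LK LD1_c1 LD2_c59 LD3_c30)) = (LP (LK LD1_c2 LD2_c9 LD3_c32)) :=
  Lgr Lrot137 (Lpe (f56330 IH) (Lpr_dt (f56329 IH) (Lpe (f47060 IH) (Lpe (K1.f36400 IH) (Lpr_et (K1.f56064 IH) (Lpe (K1.f36295 IH) (Lpe (f36411 IH) (Lpr_dt (K1.f36419 IH) (Lpe (f36443 IH) (Lpe (f36444 IH) (Lpn (LP (LK LD1_c2 LD2_c9 LD3_c32)))))))))))))
theorem f35446 : Led Lsl_gt (LP (LK LD1_c0 LD2_c28 LD3_c20)) = (LP (LK LD1_c1 LD2_c2 LD3_c3)) :=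
  Lre_g IH (LK LD1_c0 LD2_c28 LD3_c20) (LK LD1_c1 LD2_c2 LD3_c3) Lrfl Lrfl
theorem f36445 : Led Lsl_ef (LP (LK LD1_c1 LD2_c2 LD3_c3)) = (LP (LK LD1_c2 LD2_c9 LD3_c32)) :=
  Lgr Lrot17 (Lpe (f35446 IH) (Lpe (K1.f35445 IH) (Lpr_dt (K1.f35444 IH) (Lpr_gf (K0.f35431 IH) (Lpe (K1.f36398 IH) (Lpe (K1.f36295 IH) (Lpe (f36411 IH) (Lpr_dt (K1.f36419 IH) (Lpe (f36443 IH) (Lpe (f36444 IH) (Lpn (LP (LK LD1_c2 LD2_c9 LD3_c32)))))))))))))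
theorem f36452 : Led Lsl_et (LP (LK LD1_c1 LD2_c2 LD3_c3)) = (LP (LK LD1_c2 LD2_c9 LD3_c32)) :=
  Lgr Lrot87 (Lpr_ef (f36445 IH) (Lpn (LP (LK LD1_c2 LD2_c9 LD3_c32))))
theorem f173298 : Led Lsl_gt (LP (LK LD1_c2 LD2_c8 LD3_c45)) = (LP (LK LD1_c1 LD2_c1 LD3_c31)) :=
  Lre_g IH (LK LD1_c2 LD2_c8 LD3_c45) (LK LD1_c1 LD2_c1 LD3_c31) Lrfl Lrfl
theorem f193386 : Led Lsl_dt (LP (LK LD1_c1 LD2_c2 LD3_c3)) = (LP (LK LD1_c2 LD2_c8 LD3_c45)) :=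
  Lgr Lrot136 (Lpr_et (f36452 IH) (Lpe (f56331 IH) (Lpe (f56330 IH) (Lpr_dt (f56329 IH) (Lpe (f47060 IH) (Lpe (K1.f36400 IH) (Lpe (K9.f47062 IH) (Lpe (f47081 IH) (Lpr_dt (f193378 IH) (Lpe (f173298 IH) (Lpn (LP (LK LD1_c2 LD2_c8 LD3_c45)))))))))))))
theorem f35642 : Led Lsl_gt (LP (LK LD1_c1 LD2_c2 LD3_c2)) = (LP (LK LD1_c2 LD2_c9 LD3_c55)) :=
  Lre_g IH (LK LD1_c1 LD2_c2 LD3_c2) (LK LD1_c2 LD2_c9 LD3_c55) Lrfl Lrfl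
theorem f38498 : Led Lsl_dt (LP (LK LD1_c2 LD2_c9 LD3_c55)) = (LP (LK LD1_c4 LD2_c24 LD3_c58)) :=
  Lre_d IH (LK LD1_c2 LD2_c9 LD3_c55) (LK LD1_c4 LD2_c24 LD3_c58) Lrfl Lrfl
theorem f69668 : Led Lsl_at (LP (LK LD1_c0 LD2_c18 LD3_c14)) = (LP (LK LD1_c0 LD2_c30 LD3_c21)) :=
  Lgr Lrot51 (Lpr_df (K1.f36613 IH) (Lpe (K0.f33660 IH) (Lpr_df (K2.f69506 IH) (Lpn (LP (LK LD1_c0 LD2_c30 LD3_c21))))))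
theorem f80300 : Led Lsl_af (LP (LK LD1_c0 LD2_c40 LD3_c43)) = (LP (LK LD1_c1 LD2_c1 LD3_c49)) :=
  Lgr Lrot68 (Lpr_ct (K1.f59693 IH) (Lpr_at (f69668 IH) (Lpr_ct (K2.f80298 IH) (Lpn (LP (LK LD1_c1 LD2_c1 LD3_c49))))))
theorem f80349 : Led Lsl_ff (LP (LK LD1_c1 LD2_c1 LD3_c49)) = (LP (LK LD1_c0 LD2_c40 LD3_c41)) :=
  Lgr Lrot52 (Lpe (f80300 IH) (Lpr_gf (K1.f59701 IH) (Lpr_gf (K4.f80344 IH) (Lpn (LP (LK LD1_c0 LD2_c40 LD3_c41))))))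
theorem f81109 : Led Lsl_ft (LP (LK LD1_c2 LD2_c9 LD3_c21)) = (LP (LK LD1_c1 LD2_c27 LD3_c58)) :=
  Lgr Lrot54 (Lpe (K2.f59664 IH) (Lpr_ff (f80349 IH) (Lpe (K2.f37185 IH) (Lpn (LP (LK LD1_c1 LD2_c27 LD3_c58))))))
theorem f81116 : Led Lsl_ff (LP (LK LD1_c2 LD2_c9 LD3_c21)) = (LP (LK LD1_c1 LD2_c27 LD3_c58)) :=
  Lgr Lrot3 (Lpr_ft (f81109 IH) (Lpn (LP (LK LD1_c1 LD2_c27 LD3_c58))))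
theorem f80833 : Led Lsl_et (LP (LK LD1_c2 LD2_c9 LD3_c21)) = (LP (LK LD1_c4 LD2_c23 LD3_c53)) :=
  Lre_e IH (LK LD1_c2 LD2_c9 LD3_c21) (LK LD1_c4 LD2_c23 LD3_c53) Lrfl Lrfl
theorem f81122 : Led Lsl_ft (LP (LK LD1_c4 LD2_c23 LD3_c53)) = (LP (LK LD1_c8 LD2_c45 LD3_c37)) :=
  Lre_f IH (LK LD1_c4 LD2_c23 LD3_c53) (LK LD1_c8 LD2_c45 LD3_c37) Lrfl Lrfl
theorem f69927 : Led Lsl_ft (LP (LK LD1_c6 LD2_c13 LD3_c60)) = (LP (LK LD1_c3 LD2_c3 LD3_c50)) :=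
  Lre_f IH (LK LD1_c6 LD2_c13 LD3_c60) (LK LD1_c3 LD2_c3 LD3_c50) Lrfl Lrfl
theorem f81123 : Led Lsl_et (LP (LK LD1_c8 LD2_c45 LD3_c37)) = (LP (LK LD1_c6 LD2_c13 LD3_c60)) :=
  Lgr Lrot69 (Lpe (f81122 IH) (Lpe (f80833 IH) (Lpr_ff (f81116 IH) (Lpe (K2.f70163 IH) (Lpe (f69927 IH) (Lpn (LP (LK LD1_c6 LD2_c13 LD3_c60))))))))
theorem f69897 : Led Lsl_et (LP (LK LD1_c12 LD2_c6 LD3_c35)) = (LP (LK LD1_c21 LD2_c12 LD3_c38)) :=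
  Lre_e IH (LK LD1_c12 LD2_c6 LD3_c35) (LK LD1_c21 LD2_c12 LD3_c38) Lrfl Lrfl
theorem f69898 : Led Lsl_dt (LP (LK LD1_c21 LD2_c12 LD3_c38)) = (LP (LK LD1_c15 LD2_c10 LD3_c59)) :=
  Lgr Lrot42 (Lpr_df (K2.f69895 IH) (Lpn (LP (LK LD1_c15 LD2_c10 LD3_c59))))
theorem f81128 : Led Lsl_df (LP (LK LD1_c8 LD2_c45 LD3_c37)) = (LP (LK LD1_c8 LD2_c3 LD3_c54)) :=
  Lgr Lrot70 (Lpr_et (f81123 IH) (Lpr_dt (K2.f69924 IH) (Lpr_et (f69897 IH) (Lpr_dt (f69898 IH) (Lpr_et (K2.f34122 IH) (Lpn (LP (LK LD1_c8 LD2_c3 LD3_c54))))))))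
theorem f34493 : Led Lsl_ft (LP (LK LD1_c8 LD2_c3 LD3_c54)) = (LP (LK LD1_c4 LD2_c1 LD3_c37)) :=
  Lre_f IH (LK LD1_c8 LD2_c3 LD3_c54) (LK LD1_c4 LD2_c1 LD3_c37) Lrfl Lrfl
theorem f34419 : Led Lsl_af (LP (LK LD1_c15 LD2_c10 LD3_c53)) = (LP (LK LD1_c15 LD2_c13 LD3_c59)) :=
  Lgr Lrot50 (Lpe (K2.f34119 IH) (Lpr_at (K2.f34407 IH) (Lpr_et (K2.f34225 IH) (Lpn (LP (LK LD1_c15 LD2_c13 LD3_c59))))))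
theorem f34428 : Led Lsl_at (LP (LK LD1_c8 LD2_c3 LD3_c51)) = (LP (LK LD1_c8 LD2_c5 LD3_c20)) :=
  Lgr Lrot66 (Lpe (K2.f34104 IH) (Lpr_af (f34419 IH) (Lpe (K2.f34209 IH) (Lpn (LP (LK LD1_c8 LD2_c5 LD3_c20))))))
theorem f34438 : Led Lsl_ct (LP (LK LD1_c4 LD2_c1 LD3_c37)) = (LP (LK LD1_c8 LD2_c3 LD3_c51)) :=
  Lre_c IH (LK LD1_c4 LD2_c1 LD3_c37) (LK LD1_c8 LD2_c3 LD3_c51) Lrfl Lrfl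
theorem f34439 : Led Lsl_ct (LP (LK LD1_c8 LD2_c5 LD3_c20)) = (LP (LK LD1_c4 LD2_c2 LD3_c24)) :=
  Lre_c IH (LK LD1_c8 LD2_c5 LD3_c20) (LK LD1_c4 LD2_c2 LD3_c24) Lrfl Lrfl
theorem f34440 : Led Lsl_af (LP (LK LD1_c4 LD2_c1 LD3_c37)) = (LP (LK LD1_c4 LD2_c2 LD3_c24)) :=
  Lgr Lrot68 (Lpr_ct (f34438 IH) (Lpr_at (f34428 IH) (Lpr_ct (f34439 IH) (Lpn (LP (LK LD1_c4 LD2_c2 LD3_c24))))))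
theorem f34468 : Led Lsl_at (LP (LK LD1_c4 LD2_c1 LD3_c37)) = (LP (LK LD1_c4 LD2_c2 LD3_c24)) :=
  Lgr Lrot100 (Lpr_af (f34440 IH) (Lpn (LP (LK LD1_c4 LD2_c2 LD3_c24))))
theorem f34242 : Led Lsl_dt (LP (LK LD1_c15 LD2_c13 LD3_c58)) = (LP (LK LD1_c8 LD2_c5 LD3_c20)) :=
  Lre_d IH (LK LD1_c15 LD2_c13 LD3_c58) (LK LD1_c8 LD2_c5 LD3_c20) Lrfl Lrfl
theorem f34246 : Led Lsl_ct (LP (LK LD1_c25 LD2_c2 LD3_c60)) = (LP (LK LD1_c15 LD2_c13 LD3_c58)) :=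
  Lre_c IH (LK LD1_c25 LD2_c2 LD3_c60) (LK LD1_c15 LD2_c13 LD3_c58) Lrfl Lrfl
theorem f69863 : Led Lsl_et (LP (LK LD1_c21 LD2_c12 LD3_c37)) = (LP (LK LD1_c29 LD2_c54 LD3_c9)) :=
  Lre_e IH (LK LD1_c21 LD2_c12 LD3_c37) (LK LD1_c29 LD2_c54 LD3_c9) Lrfl Lrfl
theorem f3523 : Led Lsl_et (LP (LK LD1_c9 LD2_c54 LD3_c45)) = (LP (LK LD1_c18 LD2_c8 LD3_c38)) :=
  Lre_e IH (LK LD1_c9 LD2_c54 LD3_c45) (LK LD1_c18 LD2_c8 LD3_c38) Lrfl Lrfl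
theorem f3525 : Led Lsl_ef (LP (LK LD1_c18 LD2_c4 LD3_c14)) = (LP (LK LD1_c18 LD2_c8 LD3_c26)) :=
  Lgr Lrot20 (Lpr_at (K0.f3524 IH) (Lpr_et (f3523 IH) (Lpr_at (K2.f3510 IH) (Lpn (LP (LK LD1_c18 LD2_c8 LD3_c26))))))
theorem f3536 : Led Lsl_et (LP (LK LD1_c18 LD2_c4 LD3_c14)) = (LP (LK LD1_c18 LD2_c8 LD3_c26)) :=
  Lgr Lrot87 (Lpr_ef (f3525 IH) (Lpn (LP (LK LD1_c18 LD2_c8 LD3_c26))))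
theorem f3545 : Led Lsl_ct (LP (LK LD1_c27 LD2_c45 LD3_c56)) = (LP (LK LD1_c18 LD2_c4 LD3_c14)) :=
  Lre_c IH (LK LD1_c27 LD2_c45 LD3_c56) (LK LD1_c18 LD2_c4 LD3_c14) Lrfl Lrfl
theorem f3480 : Led Lsl_ct (LP (LK LD1_c18 LD2_c8 LD3_c26)) = (LP (LK LD1_c27 LD2_c48 LD3_c43)) :=
  Lre_c IH (LK LD1_c18 LD2_c8 LD3_c26) (LK LD1_c27 LD2_c48 LD3_c43) Lrfl Lrfl
theorem f3546 : Led Lsl_ef (LP (LK LD1_c27 LD2_c45 LD3_c56)) = (LP (LK LD1_c27 LD2_c48 LD3_c43)) :=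
  Lgr Lrot28 (Lpr_ct (f3545 IH) (Lpr_et (f3536 IH) (Lpr_ct (f3480 IH) (Lpn (LP (LK LD1_c27 LD2_c48 LD3_c43))))))
theorem f21773 : Led Lsl_ct (LP (LK LD1_c9 LD2_c52 LD3_c16)) = (LP (LK LD1_c5 LD2_c0 LD3_c56)) :=
  Lre_c IH (LK LD1_c9 LD2_c52 LD3_c16) (LK LD1_c5 LD2_c0 LD3_c56) Lrfl Lrfl
theorem f33871 : Led Lsl_ff (LP (LK LD1_c4 LD2_c1 LD3_c57)) = (LP (LK LD1_c5 LD2_c0 LD3_c56)) :=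
  Lgr Lrot23 (Lpr_ct (K0.f33619 IH) (Lpr_ft (K0.f33859 IH) (Lpr_ct (f21773 IH) (Lpn (LP (LK LD1_c5 LD2_c0 LD3_c56))))))
theorem f3425 : Led Lsl_dt (LP (LK LD1_c2 LD2_c28 LD3_c11)) = (LP (LK LD1_c1 LD2_c11 LD3_c19)) :=
  Lre_d IH (LK LD1_c2 LD2_c28 LD3_c11) (LK LD1_c1 LD2_c11 LD3_c19) Lrfl Lrfl
theorem f33335 : Led Lsl_et (LP (LK LD1_c5 LD2_c0 LD3_c56)) = (LP (LK LD1_c2 LD2_c28 LD3_c11)) :=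
  Lre_e IH (LK LD1_c5 LD2_c0 LD3_c56) (LK LD1_c2 LD2_c28 LD3_c11) Lrfl Lrfl
theorem f21985 : Led Lsl_et (LP (LK LD1_c2 LD2_c28 LD3_c11)) = (LP (LK LD1_c5 LD2_c0 LD3_c56)) :=
  Lre_e IH (LK LD1_c2 LD2_c28 LD3_c11) (LK LD1_c5 LD2_c0 LD3_c56) Lrfl Lrfl
theorem f33336 : Led Lsl_df (LP (LK LD1_c5 LD2_c0 LD3_c56)) = (LP (LK LD1_c5 LD2_c0 LD3_c56)) :=
  Lgr Lrot70 (Lpr_et (f33335 IH) (Lpr_dt (f3425 IH) (Lpr_et (K0.f33331 IH) (Lpr_dt (K0.f3426 IH) (Lpr_et (f21985 IH) (Lpn (LP (LK LD1_c5 LD2_c0 LD3_c56))))))))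
theorem f3548 : Led Lsl_dt (LP (LK LD1_c9 LD2_c52 LD3_c16)) = (LP (LK LD1_c18 LD2_c4 LD3_c14)) :=
  Lre_d IH (LK LD1_c9 LD2_c52 LD3_c16) (LK LD1_c18 LD2_c4 LD3_c14) Lrfl Lrfl
theorem f3531 : Led Lsl_ct (LP (LK LD1_c18 LD2_c4 LD3_c14)) = (LP (LK LD1_c27 LD2_c45 LD3_c56)) :=
  Lre_c IH (LK LD1_c18 LD2_c4 LD3_c14) (LK LD1_c27 LD2_c45 LD3_c56) Lrfl Lrfl
theorem f21780 : Led Lsl_ct (LP (LK LD1_c5 LD2_c9 LD3_c23)) = (LP (LK LD1_c2 LD2_c31 LD3_c49)) :=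
  Lre_c IH (LK LD1_c5 LD2_c9 LD3_c23) (LK LD1_c2 LD2_c31 LD3_c49) Lrfl Lrfl
theorem f21758 : Led Lsl_dt (LP (LK LD1_c10 LD2_c9 LD3_c28)) = (LP (LK LD1_c5 LD2_c9 LD3_c23)) :=
  Lre_d IH (LK LD1_c10 LD2_c9 LD3_c28) (LK LD1_c5 LD2_c9 LD3_c23) Lrfl Lrfl
theorem f21792 : Led Lsl_ct (LP (LK LD1_c18 LD2_c30 LD3_c19)) = (LP (LK LD1_c10 LD2_c9 LD3_c28)) :=
  Lre_c IH (LK LD1_c18 LD2_c30 LD3_c19) (LK LD1_c10 LD2_c9 LD3_c28) Lrfl Lrfl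
theorem f33950 : Led Lsl_dt (LP (LK LD1_c27 LD2_c45 LD3_c56)) = (LP (LK LD1_c18 LD2_c30 LD3_c19)) :=
  Lgr Lrot140 (Lpe (f3531 IH) (Lpe (f3548 IH) (Lpe (f21769 IH) (Lpr_df (f33336 IH) (Lpe (f33871 IH) (Lpr_at (K0.f33937 IH) (Lpe (f21780 IH) (Lpe (f21758 IH) (Lpe (f21792 IH) (Lpn (LP (LK LD1_c18 LD2_c30 LD3_c19))))))))))))
theorem f3449 : Led Lsl_et (LP (LK LD1_c18 LD2_c8 LD3_c35)) = (LP (LK LD1_c9 LD2_c54 LD3_c41)) :=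
  Lre_e IH (LK LD1_c18 LD2_c8 LD3_c35) (LK LD1_c9 LD2_c54 LD3_c41) Lrfl Lrfl
theorem f34227 : Led Lsl_dt (LP (LK LD1_c15 LD2_c13 LD3_c59)) = (LP (LK LD1_c25 LD2_c2 LD3_c61)) :=
  Lre_d IH (LK LD1_c15 LD2_c13 LD3_c59) (LK LD1_c25 LD2_c2 LD3_c61) Lrfl Lrfl
theorem f34232 : Led Lsl_ef (LP (LK LD1_c27 LD2_c48 LD3_c52)) = (LP (LK LD1_c25 LD2_c2 LD3_c61)) :=
  Lgr Lrot73 (Lpr_dt (K2.f3460 IH) (Lpr_et (f3449 IH) (Lpe (K0.f21698 IH) (Lpr_et (K2.f34225 IH) (Lpr_dt (f34227 IH) (Lpn (LP (LK LD1_c25 LD2_c2 LD3_c61))))))))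
theorem f3543 : Led Lsl_et (LP (LK LD1_c18 LD2_c8 LD3_c38)) = (LP (LK LD1_c9 LD2_c54 LD3_c45)) :=
  Lre_e IH (LK LD1_c18 LD2_c8 LD3_c38) (LK LD1_c9 LD2_c54 LD3_c45) Lrfl Lrfl
theorem f21740 : Led Lsl_et (LP (LK LD1_c2 LD2_c31 LD3_c48)) = (LP (LK LD1_c5 LD2_c9 LD3_c23)) :=
  Lre_e IH (LK LD1_c2 LD2_c31 LD3_c48) (LK LD1_c5 LD2_c9 LD3_c23) Lrfl Lrfl
theorem f3359 : Led Lsl_ft (LP (LK LD1_c2 LD2_c28 LD3_c38)) = (LP (LK LD1_c1 LD2_c11 LD3_c30)) :=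
  Lre_f IH (LK LD1_c2 LD2_c28 LD3_c38) (LK LD1_c1 LD2_c11 LD3_c30) Lrfl Lrfl
theorem f21741 : Led Lsl_et (LP (LK LD1_c5 LD2_c2 LD3_c1)) = (LP (LK LD1_c2 LD2_c28 LD3_c38)) :=
  Lre_e IH (LK LD1_c5 LD2_c2 LD3_c1) (LK LD1_c2 LD2_c28 LD3_c38) Lrfl Lrfl
theorem f21742 : Led Lsl_ft (LP (LK LD1_c5 LD2_c9 LD3_c23)) = (LP (LK LD1_c5 LD2_c2 LD3_c1)) :=
  Lgr Lrot86 (Lpe (f21740 IH) (Lpe (K0.f21739 IH) (Lpr_ef (K0.f21709 IH) (Lpe (f3359 IH) (Lpe (f21741 IH) (Lpn (LP (LK LD1_c5 LD2_c2 LD3_c1))))))))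
theorem f21760 : Led Lsl_ff (LP (LK LD1_c10 LD2_c9 LD3_c28)) = (LP (LK LD1_c9 LD2_c54 LD3_c45)) :=
  Lgr Lrot19 (Lpr_dt (f21758 IH) (Lpr_ft (f21742 IH) (Lpr_dt (K0.f21759 IH) (Lpn (LP (LK LD1_c9 LD2_c54 LD3_c45))))))
theorem f34236 : Led Lsl_ft (LP (LK LD1_c15 LD2_c13 LD3_c58)) = (LP (LK LD1_c25 LD2_c2 LD3_c61)) :=
  Lre_f IH (LK LD1_c15 LD2_c13 LD3_c58) (LK LD1_c25 LD2_c2 LD3_c61) Lrfl Lrfl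
theorem f34237 : Led Lsl_et (LP (LK LD1_c10 LD2_c9 LD3_c28)) = (LP (LK LD1_c15 LD2_c13 LD3_c58)) :=
  Lgr Lrot69 (Lpr_ff (f21760 IH) (Lpe (f3543 IH) (Lpe (K2.f3463 IH) (Lpr_ef (f34232 IH) (Lpe (f34236 IH) (Lpn (LP (LK LD1_c15 LD2_c13 LD3_c58))))))))
theorem f34239 : Led Lsl_ct (LP (LK LD1_c15 LD2_c13 LD3_c58)) = (LP (LK LD1_c25 LD2_c2 LD3_c60)) :=
  Lre_c IH (LK LD1_c15 LD2_c13 LD3_c58) (LK LD1_c25 LD2_c2 LD3_c60) Lrfl Lrfl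
theorem f34240 : Led Lsl_ef (LP (LK LD1_c18 LD2_c30 LD3_c19)) = (LP (LK LD1_c25 LD2_c2 LD3_c60)) :=
  Lgr Lrot28 (Lpr_ct (f21792 IH) (Lpr_et (f34237 IH) (Lpr_ct (f34239 IH) (Lpn (LP (LK LD1_c25 LD2_c2 LD3_c60))))))
theorem f34244 : Led Lsl_et (LP (LK LD1_c18 LD2_c30 LD3_c19)) = (LP (LK LD1_c25 LD2_c2 LD3_c60)) :=
  Lgr Lrot87 (Lpr_ef (f34240 IH) (Lpn (LP (LK LD1_c25 LD2_c2 LD3_c60))))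
theorem f69909 : Led Lsl_df (LP (LK LD1_c21 LD2_c12 LD3_c37)) = (LP (LK LD1_c25 LD2_c2 LD3_c60)) :=
  Lgr Lrot70 (Lpr_et (f69863 IH) (Lpr_dt (K2.f69903 IH) (Lpe (f3546 IH) (Lpr_dt (f33950 IH) (Lpr_et (f34244 IH) (Lpn (LP (LK LD1_c25 LD2_c2 LD3_c60))))))))
theorem f69921 : Led Lsl_dt (LP (LK LD1_c21 LD2_c12 LD3_c37)) = (LP (LK LD1_c25 LD2_c2 LD3_c60)) :=
  Lgr Lrot42 (Lpr_df (f69909 IH) (Lpn (LP (LK LD1_c25 LD2_c2 LD3_c60))))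
theorem f69925 : Led Lsl_ct (LP (LK LD1_c12 LD2_c6 LD3_c35)) = (LP (LK LD1_c21 LD2_c12 LD3_c37)) :=
  Lre_c IH (LK LD1_c12 LD2_c6 LD3_c35) (LK LD1_c21 LD2_c12 LD3_c37) Lrfl Lrfl
theorem f81137 : Led Lsl_ct (LP (LK LD1_c8 LD2_c45 LD3_c37)) = (LP (LK LD1_c6 LD2_c13 LD3_c60)) :=
  Lgr Lrot133 (Lpr_df (f81128 IH) (Lpr_ft (f34493 IH) (Lpr_at (f34468 IH) (Lpe (f34439 IH) (Lpe (f34242 IH) (Lpe (f34246 IH) (Lpe (f69921 IH) (Lpe (f69925 IH) (Lpe (K2.f69924 IH) (Lpn (LP (LK LD1_c6 LD2_c13 LD3_c60))))))))))))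
theorem f81141 : Led Lsl_cf (LP (LK LD1_c4 LD2_c23 LD3_c53)) = (LP (LK LD1_c3 LD2_c3 LD3_c50)) :=
  Lgr Lrot108 (Lpr_ft (f81122 IH) (Lpr_ct (f81137 IH) (Lpr_ft (f69927 IH) (Lpn (LP (LK LD1_c3 LD2_c3 LD3_c50))))))
theorem f81146 : Led Lsl_ct (LP (LK LD1_c4 LD2_c23 LD3_c53)) = (LP (LK LD1_c3 LD2_c3 LD3_c50)) :=
  Lgr Lrot59 (Lpr_cf (f81141 IH) (Lpn (LP (LK LD1_c3 LD2_c3 LD3_c50))))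
theorem f69989 : Led Lsl_dt (LP (LK LD1_c8 LD2_c45 LD3_c32)) = (LP (LK LD1_c16 LD2_c23 LD3_c42)) :=
  Lre_d IH (LK LD1_c8 LD2_c45 LD3_c32) (LK LD1_c16 LD2_c23 LD3_c42) Lrfl Lrfl
theorem f69852 : Led Lsl_ft (LP (LK LD1_c21 LD2_c12 LD3_c46)) = (LP (LK LD1_c29 LD2_c54 LD3_c9)) :=
  Lre_f IH (LK LD1_c21 LD2_c12 LD3_c46) (LK LD1_c29 LD2_c54 LD3_c9) Lrfl Lrfl
theorem f69853 : Led Lsl_ft (LP (LK LD1_c29 LD2_c54 LD3_c16)) = (LP (LK LD1_c21 LD2_c12 LD3_c45)) :=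
  Lre_f IH (LK LD1_c29 LD2_c54 LD3_c16) (LK LD1_c21 LD2_c12 LD3_c45) Lrfl Lrfl
theorem f69854 : Led Lsl_at (LP (LK LD1_c29 LD2_c54 LD3_c9)) = (LP (LK LD1_c29 LD2_c54 LD3_c16)) :=
  Lgr Lrot66 (Lpe (f69852 IH) (Lpr_af (K2.f69839 IH) (Lpe (f69853 IH) (Lpn (LP (LK LD1_c29 LD2_c54 LD3_c16))))))
theorem f69860 : Led Lsl_af (LP (LK LD1_c29 LD2_c54 LD3_c9)) = (LP (LK LD1_c29 LD2_c54 LD3_c16)) :=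
  Lgr Lrot0 (Lpr_at (f69854 IH) (Lpn (LP (LK LD1_c29 LD2_c54 LD3_c16))))
theorem f3492 : Led Lsl_ct (LP (LK LD1_c27 LD2_c48 LD3_c56)) = (LP (LK LD1_c18 LD2_c8 LD3_c38)) :=
  Lre_c IH (LK LD1_c27 LD2_c48 LD3_c56) (LK LD1_c18 LD2_c8 LD3_c38) Lrfl Lrfl
theorem f3521 : Led Lsl_af (LP (LK LD1_c27 LD2_c48 LD3_c56)) = (LP (LK LD1_c27 LD2_c48 LD3_c43)) :=
  Lgr Lrot68 (Lpr_ct (f3492 IH) (Lpr_at (K2.f3510 IH) (Lpr_ct (f3480 IH) (Lpn (LP (LK LD1_c27 LD2_c48 LD3_c43))))))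
theorem f69905 : Led Lsl_df (LP (LK LD1_c29 LD2_c54 LD3_c16)) = (LP (LK LD1_c27 LD2_c48 LD3_c56)) :=
  Lgr Lrot18 (Lpe (f69860 IH) (Lpr_dt (K2.f69903 IH) (Lpe (f3521 IH) (Lpn (LP (LK LD1_c27 LD2_c48 LD3_c56))))))
theorem f3550 : Led Lsl_et (LP (LK LD1_c18 LD2_c8 LD3_c45)) = (LP (LK LD1_c27 LD2_c48 LD3_c56)) :=
  Lre_e IH (LK LD1_c18 LD2_c8 LD3_c45) (LK LD1_c27 LD2_c48 LD3_c56) Lrfl Lrfl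
theorem f34088 : Led Lsl_dt (LP (LK LD1_c15 LD2_c10 LD3_c52)) = (LP (LK LD1_c8 LD2_c3 LD3_c51)) :=
  Lre_d IH (LK LD1_c15 LD2_c10 LD3_c52) (LK LD1_c8 LD2_c3 LD3_c51) Lrfl Lrfl
theorem f34032 : Led Lsl_dt (LP (LK LD1_c8 LD2_c5 LD3_c20)) = (LP (LK LD1_c15 LD2_c13 LD3_c58)) :=
  Lre_d IH (LK LD1_c8 LD2_c5 LD3_c20) (LK LD1_c15 LD2_c13 LD3_c58) Lrfl Lrfl
theorem f34442 : Led Lsl_af (LP (LK LD1_c15 LD2_c10 LD3_c52)) = (LP (LK LD1_c15 LD2_c13 LD3_c58)) :=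
  Lgr Lrot117 (Lpr_dt (f34088 IH) (Lpr_at (f34428 IH) (Lpr_dt (f34032 IH) (Lpn (LP (LK LD1_c15 LD2_c13 LD3_c58))))))
theorem f33873 : Led Lsl_ff (LP (LK LD1_c15 LD2_c12 LD3_c28)) = (LP (LK LD1_c18 LD2_c4 LD3_c14)) :=
  Lgr Lrot19 (Lpr_dt (K0.f33617 IH) (Lpr_ft (K0.f33859 IH) (Lpr_dt (f3548 IH) (Lpn (LP (LK LD1_c18 LD2_c4 LD3_c14))))))
theorem f33956 : Led Lsl_at (LP (LK LD1_c15 LD2_c12 LD3_c28)) = (LP (LK LD1_c10 LD2_c9 LD3_c28)) :=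
  Lgr Lrot33 (Lpr_ff (f33873 IH) (Lpr_dt (K0.f3534 IH) (Lpr_ct (f21773 IH) (Lpe (f33336 IH) (Lpr_ct (f21769 IH) (Lpr_dt (f3548 IH) (Lpr_ct (f3531 IH) (Lpr_dt (f33950 IH) (Lpr_ct (f21792 IH) (Lpn (LP (LK LD1_c10 LD2_c9 LD3_c28))))))))))))
theorem f34455 : Led Lsl_et (LP (LK LD1_c15 LD2_c10 LD3_c52)) = (LP (LK LD1_c15 LD2_c12 LD3_c28)) :=
  Lgr Lrot123 (Lpr_af (f34442 IH) (Lpe (f34237 IH) (Lpe (f33956 IH) (Lpn (LP (LK LD1_c15 LD2_c12 LD3_c28))))))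
theorem f34458 : Led Lsl_ct (LP (LK LD1_c25 LD2_c0 LD3_c4)) = (LP (LK LD1_c15 LD2_c10 LD3_c52)) :=
  Lre_c IH (LK LD1_c25 LD2_c0 LD3_c4) (LK LD1_c15 LD2_c10 LD3_c52) Lrfl Lrfl
theorem f34459 : Led Lsl_ef (LP (LK LD1_c25 LD2_c0 LD3_c4)) = (LP (LK LD1_c25 LD2_c1 LD3_c27)) :=
  Lgr Lrot28 (Lpr_ct (f34458 IH) (Lpr_et (f34455 IH) (Lpr_ct (K0.f33621 IH) (Lpn (LP (LK LD1_c25 LD2_c1 LD3_c27))))))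
theorem f34464 : Led Lsl_et (LP (LK LD1_c25 LD2_c0 LD3_c4)) = (LP (LK LD1_c25 LD2_c1 LD3_c27)) :=
  Lgr Lrot87 (Lpr_ef (f34459 IH) (Lpn (LP (LK LD1_c25 LD2_c1 LD3_c27))))
theorem f69976 : Led Lsl_df (LP (LK LD1_c25 LD2_c0 LD3_c4)) = (LP (LK LD1_c26 LD2_c21 LD3_c42)) :=
  Lgr Lrot70 (Lpr_et (f34464 IH) (Lpr_dt (K0.f33912 IH) (Lpr_et (f3550 IH) (Lpe (f69905 IH) (Lpr_et (K2.f69969 IH) (Lpn (LP (LK LD1_c26 LD2_c21 LD3_c42))))))))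
theorem f34480 : Led Lsl_ct (LP (LK LD1_c8 LD2_c3 LD3_c51)) = (LP (LK LD1_c4 LD2_c1 LD3_c37)) :=
  Lre_c IH (LK LD1_c8 LD2_c3 LD3_c51) (LK LD1_c4 LD2_c1 LD3_c37) Lrfl Lrfl
theorem f81156 : Led Lsl_df (LP (LK LD1_c4 LD2_c23 LD3_c53)) = (LP (LK LD1_c4 LD2_c1 LD3_c37)) :=
  Lgr Lrot177 (Lpr_ct (f81146 IH) (Lpr_af (K2.f70152 IH) (Lpe (K2.f70151 IH) (Lpr_dt (f69989 IH) (Lpr_ct (K2.f69982 IH) (Lpe (f69976 IH) (Lpr_ct (f34458 IH) (Lpr_dt (f34088 IH) (Lpr_ct (f34480 IH) (Lpn (LP (LK LD1_c4 LD2_c1 LD3_c37))))))))))))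
theorem f81143 : Led Lsl_bt (LP (LK LD1_c4 LD2_c23 LD3_c53)) = (LP (LK LD1_c8 LD2_c45 LD3_c34)) :=
  Lre_b IH (LK LD1_c4 LD2_c23 LD3_c53) (LK LD1_c8 LD2_c45 LD3_c34) Lrfl Lrfl
theorem f34488 : Led Lsl_bt (LP (LK LD1_c8 LD2_c3 LD3_c45)) = (LP (LK LD1_c4 LD2_c1 LD3_c37)) :=
  Lre_b IH (LK LD1_c8 LD2_c3 LD3_c45) (LK LD1_c4 LD2_c1 LD3_c37) Lrfl Lrfl
theorem f81170 : Led Lsl_dt (LP (LK LD1_c8 LD2_c45 LD3_c34)) = (LP (LK LD1_c8 LD2_c3 LD3_c45)) :=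
  Lgr Lrot79 (Lpe (f81143 IH) (Lpr_df (f81156 IH) (Lpe (f34488 IH) (Lpn (LP (LK LD1_c8 LD2_c3 LD3_c45))))))
theorem f81177 : Led Lsl_et (LP (LK LD1_c4 LD2_c23 LD3_c52)) = (LP (LK LD1_c8 LD2_c45 LD3_c34)) :=
  Lre_e IH (LK LD1_c4 LD2_c23 LD3_c52) (LK LD1_c8 LD2_c45 LD3_c34) Lrfl Lrfl
theorem f81178 : Led Lsl_dt (LP (LK LD1_c2 LD2_c9 LD3_c20)) = (LP (LK LD1_c4 LD2_c23 LD3_c52)) :=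
  Lre_d IH (LK LD1_c2 LD2_c9 LD3_c20) (LK LD1_c4 LD2_c23 LD3_c52) Lrfl Lrfl
theorem f81179 : Led Lsl_et (LP (LK LD1_c8 LD2_c3 LD3_c45)) = (LP (LK LD1_c4 LD2_c1 LD3_c33)) :=
  Lre_e IH (LK LD1_c8 LD2_c3 LD3_c45) (LK LD1_c4 LD2_c1 LD3_c33) Lrfl Lrfl
theorem f81180 : Led Lsl_dt (LP (LK LD1_c4 LD2_c1 LD3_c33)) = (LP (LK LD1_c1 LD2_c57 LD3_c44)) :=
  Lre_d IH (LK LD1_c4 LD2_c1 LD3_c33) (LK LD1_c1 LD2_c57 LD3_c44) Lrfl Lrfl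
theorem f81181 : Led Lsl_ef (LP (LK LD1_c2 LD2_c9 LD3_c20)) = (LP (LK LD1_c1 LD2_c57 LD3_c44)) :=
  Lgr Lrot73 (Lpr_dt (f81178 IH) (Lpr_et (f81177 IH) (Lpr_dt (f81170 IH) (Lpr_et (f81179 IH) (Lpr_dt (f81180 IH) (Lpn (LP (LK LD1_c1 LD2_c57 LD3_c44))))))))
theorem f81195 : Led Lsl_et (LP (LK LD1_c2 LD2_c9 LD3_c20)) = (LP (LK LD1_c1 LD2_c57 LD3_c44)) :=
  Lgr Lrot87 (Lpr_ef (f81181 IH) (Lpn (LP (LK LD1_c1 LD2_c57 LD3_c44))))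
theorem f80302 : Led Lsl_bt (LP (LK LD1_c1 LD2_c1 LD3_c49)) = (LP (LK LD1_c2 LD2_c9 LD3_c20)) :=
  Lre_b IH (LK LD1_c1 LD2_c1 LD3_c49) (LK LD1_c2 LD2_c9 LD3_c20) Lrfl Lrfl
theorem f33710 : Led Lsl_bt (LP (LK LD1_c1 LD2_c57 LD3_c44)) = (LP (LK LD1_c0 LD2_c55 LD3_c44)) :=
  Lre_b IH (LK LD1_c1 LD2_c57 LD3_c44) (LK LD1_c0 LD2_c55 LD3_c44) Lrfl Lrfl
theorem f81198 : Led Lsl_ef (LP (LK LD1_c1 LD2_c1 LD3_c49)) = (LP (LK LD1_c0 LD2_c55 LD3_c44)) :=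
  Lgr Lrot29 (Lpr_bt (f80302 IH) (Lpr_et (f81195 IH) (Lpr_bt (f33710 IH) (Lpn (LP (LK LD1_c0 LD2_c55 LD3_c44))))))
theorem f33706 : Led Lsl_at (LP (LK LD1_c0 LD2_c55 LD3_c58)) = (LP (LK LD1_c0 LD2_c55 LD3_c44)) :=
  Lgr Lrot100 (Lpr_af (K0.f33696 IH) (Lpn (LP (LK LD1_c0 LD2_c55 LD3_c44))))
theorem f81202 : Led Lsl_et (LP (LK LD1_c0 LD2_c40 LD3_c43)) = (LP (LK LD1_c0 LD2_c55 LD3_c58)) :=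
  Lgr Lrot123 (Lpr_af (f80300 IH) (Lpr_ef (f81198 IH) (Lpe (f33706 IH) (Lpn (LP (LK LD1_c0 LD2_c55 LD3_c58))))))
theorem f35494 : Led Lsl_dt (LP (LK LD1_c0 LD2_c28 LD3_c18)) = (LP (LK LD1_c1 LD2_c2 LD3_c1)) :=
  Lre_d IH (LK LD1_c0 LD2_c28 LD3_c18) (LK LD1_c1 LD2_c2 LD3_c1) Lrfl Lrfl
theorem f33719 : Led Lsl_gt (LP (LK LD1_c1 LD2_c58 LD3_c7)) = (LP (LK LD1_c0 LD2_c55 LD3_c58)) :=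
  Lre_g IH (LK LD1_c1 LD2_c58 LD3_c7) (LK LD1_c0 LD2_c55 LD3_c58) Lrfl Lrfl
theorem f33731 : Led Lsl_et (LP (LK LD1_c4 LD2_c2 LD3_c15)) = (LP (LK LD1_c1 LD2_c58 LD3_c7)) :=
  Lre_e IH (LK LD1_c4 LD2_c2 LD3_c15) (LK LD1_c1 LD2_c58 LD3_c7) Lrfl Lrfl
theorem f33732 : Led Lsl_dt (LP (LK LD1_c4 LD2_c2 LD3_c15)) = (LP (LK LD1_c8 LD2_c4 LD3_c59)) :=
  Lre_d IH (LK LD1_c4 LD2_c2 LD3_c15) (LK LD1_c8 LD2_c4 LD3_c59) Lrfl Lrfl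
theorem f81208 : Led Lsl_gt (LP (LK LD1_c4 LD2_c24 LD3_c58)) = (LP (LK LD1_c8 LD2_c4 LD3_c59)) :=
  Lgr Lrot139 (Lpe (f38498 IH) (Lpe (f35642 IH) (Lpe (K1.f35790 IH) (Lpr_dt (f35494 IH) (Lpe (K2.f59703 IH) (Lpe (K2.f59181 IH) (Lpr_et (f81202 IH) (Lpe (f33719 IH) (Lpe (f33731 IH) (Lpr_dt (f33732 IH) (Lpn (LP (LK LD1_c8 LD2_c4 LD3_c59)))))))))))))
theorem f81210 : Led Lsl_dt (LP (LK LD1_c8 LD2_c4 LD3_c59)) = (LP (LK LD1_c4 LD2_c2 LD3_c15)) :=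
  Lre_d IH (LK LD1_c8 LD2_c4 LD3_c59) (LK LD1_c4 LD2_c2 LD3_c15) Lrfl Lrfl
theorem f193384 : Led Lsl_df (LP (LK LD1_c1 LD2_c59 LD3_c32)) = (LP (LK LD1_c1 LD2_c1 LD3_c31)) :=
  Lgr Lrot38 (Lpr_dt (f193378 IH) (Lpn (LP (LK LD1_c1 LD2_c1 LD3_c31))))
theorem f193395 : Led Lsl_cf (LP (LK LD1_c4 LD2_c2 LD3_c15)) = (LP (LK LD1_c1 LD2_c59 LD3_c32)) :=
  Lgr Lrot14 (Lpe (f81210 IH) (Lpe (f81208 IH) (Lpe (f38498 IH) (Lpe (f35642 IH) (Lpr_ct (K1.f35456 IH) (Lpr_gt (f35446 IH) (Lpr_dt (f193386 IH) (Lpr_gt (f173298 IH) (Lpe (f193384 IH) (Lpn (LP (LK LD1_c1 LD2_c59 LD3_c32))))))))))))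
theorem f193403 : Led Lsl_ct (LP (LK LD1_c1 LD2_c58 LD3_c7)) = (LP (LK LD1_c0 LD2_c56 LD3_c40)) :=
  Lgr Lrot15 (Lpe (f33731 IH) (Lpr_cf (f193395 IH) (Lpe (f177806 IH) (Lpn (LP (LK LD1_c0 LD2_c56 LD3_c40))))))
theorem f193407 : Led Lsl_cf (LP (LK LD1_c1 LD2_c58 LD3_c7)) = (LP (LK LD1_c0 LD2_c56 LD3_c40)) :=
  Lgr Lrot11 (Lpr_ct (f193403 IH) (Lpn (LP (LK LD1_c0 LD2_c56 LD3_c40))))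
theorem f28752 : Led Lsl_gt (LP (LK LD1_c0 LD2_c25 LD3_c22)) = (LP (LK LD1_c0 LD2_c55 LD3_c56)) :=
  Lre_g IH (LK LD1_c0 LD2_c25 LD3_c22) (LK LD1_c0 LD2_c55 LD3_c56) Lrfl Lrfl
theorem f34063 : Led Lsl_ct (LP (LK LD1_c0 LD2_c55 LD3_c56)) = (LP (LK LD1_c1 LD2_c58 LD3_c3)) :=
  Lre_c IH (LK LD1_c0 LD2_c55 LD3_c56) (LK LD1_c1 LD2_c58 LD3_c3) Lrfl Lrfl
theorem f177802 : Led Lsl_bf (LP (LK LD1_c0 LD2_c26 LD3_c9)) = (LP (LK LD1_c0 LD2_c56 LD3_c40)) :=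
  Lgr Lrot24 (Lpr_bt (K9.f177800 IH) (Lpn (LP (LK LD1_c0 LD2_c56 LD3_c40))))
theorem f193441 : Led Lsl_gt (LP (LK LD1_c1 LD2_c58 LD3_c3)) = (LP (LK LD1_c1 LD2_c59 LD3_c35)) :=
  Lgr Lrot149 (Lpe (f34063 IH) (Lpe (f28752 IH) (Lpe (K2.f69749 IH) (Lpr_ct (K0.f33684 IH) (Lpe (f33719 IH) (Lpr_cf (f193407 IH) (Lpe (f177802 IH) (Lpr_gf (K9.f55615 IH) (Lpe (K9.f55610 IH) (Lpr_ct (K1.f46633 IH) (Lpn (LP (LK LD1_c1 LD2_c59 LD3_c35)))))))))))))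
theorem f81104 : Led Lsl_gt (LP (LK LD1_c0 LD2_c11 LD3_c17)) = (LP (LK LD1_c0 LD2_c25 LD3_c20)) :=
  Lre_g IH (LK LD1_c0 LD2_c11 LD3_c17) (LK LD1_c0 LD2_c25 LD3_c20) Lrfl Lrfl
theorem f193459 : Led Lsl_ct (LP (LK LD1_c0 LD2_c25 LD3_c20)) = (LP (LK LD1_c0 LD2_c55 LD3_c50)) :=
  Lre_c IH (LK LD1_c0 LD2_c25 LD3_c20) (LK LD1_c0 LD2_c55 LD3_c50) Lrfl Lrfl
theorem f193460 : Led Lsl_gt (LP (LK LD1_c0 LD2_c55 LD3_c50)) = (LP (LK LD1_c0 LD2_c55 LD3_c61)) :=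
  Lgr Lrot150 (Lpe (f193459 IH) (Lpe (f81104 IH) (Lpe (K0.f34019 IH) (Lpr_gt (f28752 IH) (Lpr_ct (f34063 IH) (Lpr_gt (f193441 IH) (Lpr_ct (K1.f46654 IH) (Lpe (f46905 IH) (Lpr_cf (f46948 IH) (Lpn (LP (LK LD1_c0 LD2_c55 LD3_c61))))))))))))
theorem f46964 : Led Lsl_bt (LP (LK LD1_c0 LD2_c25 LD3_c42)) = (LP (LK LD1_c0 LD2_c11 LD3_c32)) :=
  Lre_b IH (LK LD1_c0 LD2_c25 LD3_c42) (LK LD1_c0 LD2_c11 LD3_c32) Lrfl Lrfl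
theorem f193636 : Led Lsl_bt (LP (LK LD1_c0 LD2_c25 LD3_c20)) = (LP (LK LD1_c0 LD2_c11 LD3_c35)) :=
  Lgr Lrot92 (Lpr_ct (f193459 IH) (Lpr_gt (f193460 IH) (Lpe (K1.f46933 IH) (Lpr_bt (f46964 IH) (Lpr_gt (K9.f101497 IH) (Lpr_ct (K9.f177779 IH) (Lpr_gt (K9.f55922 IH) (Lpe (K9.f8443 IH) (Lpe (K1.f55619 IH) (Lpr_gt (K8.f8144 IH) (Lpn (LP (LK LD1_c0 LD2_c11 LD3_c35)))))))))))))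
theorem f193646 : Led Lsl_et (LP (LK LD1_c0 LD2_c55 LD3_c52)) = (LP (LK LD1_c0 LD2_c25 LD3_c20)) :=
  Lre_e IH (LK LD1_c0 LD2_c55 LD3_c52) (LK LD1_c0 LD2_c25 LD3_c20) Lrfl Lrfl
theorem f193647 : Led Lsl_bf (LP (LK LD1_c0 LD2_c55 LD3_c52)) = (LP (LK LD1_c0 LD2_c26 LD3_c5)) :=
  Lgr Lrot96 (Lpr_et (f193646 IH) (Lpr_bt (f193636 IH) (Lpr_et (K9.f28351 IH) (Lpn (LP (LK LD1_c0 LD2_c26 LD3_c5))))))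
theorem f28404 : Led Lsl_bt (LP (LK LD1_c0 LD2_c54 LD3_c56)) = (LP (LK LD1_c0 LD2_c24 LD3_c52)) :=
  Lre_b IH (LK LD1_c0 LD2_c54 LD3_c56) (LK LD1_c0 LD2_c24 LD3_c52) Lrfl Lrfl
theorem f193654 : Led Lsl_dt (LP (LK LD1_c0 LD2_c55 LD3_c52)) = (LP (LK LD1_c0 LD2_c54 LD3_c56)) :=
  Lgr Lrot79 (Lpr_bf (f193647 IH) (Lpr_df (K9.f28382 IH) (Lpe (f28404 IH) (Lpn (LP (LK LD1_c0 LD2_c54 LD3_c56))))))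
theorem f193663 : Led Lsl_gf (LP (LK LD1_c0 LD2_c24 LD3_c59)) = (LP (LK LD1_c0 LD2_c54 LD3_c56)) :=
  Lgr Lrot145 (Lpe (K0.f2973 IH) (Lpr_et (K0.f2981 IH) (Lpr_gt (K0.f2996 IH) (Lpe (K0.f31057 IH) (Lpe (K0.f8211 IH) (Lpe (K0.f33562 IH) (Lpr_et (K0.f33564 IH) (Lpr_gt (f81104 IH) (Lpe (f193646 IH) (Lpr_dt (f193654 IH) (Lpn (LP (LK LD1_c0 LD2_c54 LD3_c56)))))))))))))
theorem f28381 : Led Lsl_bt (LP (LK LD1_c0 LD2_c24 LD3_c52)) = (LP (LK LD1_c0 LD2_c54 LD3_c56)) :=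
  Lre_b IH (LK LD1_c0 LD2_c24 LD3_c52) (LK LD1_c0 LD2_c54 LD3_c56) Lrfl Lrfl
theorem f181405 : Led Lsl_bt (LP (LK LD1_c0 LD2_c28 LD3_c9)) = (LP (LK LD1_c0 LD2_c24 LD3_c51)) :=
  Lgr Lrot127 (Lpr_bf (K9.f181221 IH) (Lpn (LP (LK LD1_c0 LD2_c24 LD3_c51))))
theorem f181407 : Led Lsl_ct (LP (LK LD1_c0 LD2_c28 LD3_c9)) = (LP (LK LD1_c1 LD2_c1 LD3_c38)) :=
  Lre_c IH (LK LD1_c0 LD2_c28 LD3_c9) (LK LD1_c1 LD2_c1 LD3_c38) Lrfl Lrfl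
theorem f193672 : Led Lsl_gt (LP (LK LD1_c0 LD2_c55 LD3_c10)) = (LP (LK LD1_c1 LD2_c1 LD3_c38)) :=
  Lgr Lrot149 (Lpe (K1.f2978 IH) (Lpr_gf (f193663 IH) (Lpe (f28381 IH) (Lpr_ct (K9.f174524 IH) (Lpe (K9.f20809 IH) (Lpe (K9.f20808 IH) (Lpr_bt (K9.f39235 IH) (Lpr_gf (K9.f101434 IH) (Lpe (f181405 IH) (Lpr_ct (f181407 IH) (Lpn (LP (LK LD1_c1 LD2_c1 LD3_c38)))))))))))))
theorem f193696 : Led Lsl_et (LP (LK LD1_c2 LD2_c8 LD3_c54)) = (LP (LK LD1_c1 LD2_c1 LD3_c38)) :=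
  Lre_e IH (LK LD1_c2 LD2_c8 LD3_c54) (LK LD1_c1 LD2_c1 LD3_c38) Lrfl Lrfl
theorem f80981 : Led Lsl_dt (LP (LK LD1_c2 LD2_c8 LD3_c54)) = (LP (LK LD1_c4 LD2_c22 LD3_c60)) :=
  Lre_d IH (LK LD1_c2 LD2_c8 LD3_c54) (LK LD1_c4 LD2_c22 LD3_c60) Lrfl Lrfl
theorem f193697 : Led Lsl_gf (LP (LK LD1_c4 LD2_c23 LD3_c51)) = (LP (LK LD1_c4 LD2_c22 LD3_c60)) :=
  Lgr Lrot145 (Lpe (K2.f69945 IH) (Lpr_et (K2.f59177 IH) (Lpr_gt (K2.f70216 IH) (Lpr_dt (K2.f70224 IH) (Lpe (K2.f70225 IH) (Lpe (K1.f29551 IH) (Lpr_et (K1.f29566 IH) (Lpr_gt (f193672 IH) (Lpe (f193696 IH) (Lpr_dt (f80981 IH) (Lpn (LP (LK LD1_c4 LD2_c22 LD3_c60)))))))))))))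
theorem f193700 : Led Lsl_gt (LP (LK LD1_c6 LD2_c14 LD3_c2)) = (LP (LK LD1_c4 LD2_c22 LD3_c60)) :=
  Lgr Lrot5 (Lpr_ft (K2.f37249 IH) (Lpr_at (K2.f69999 IH) (Lpr_gf (f193697 IH) (Lpn (LP (LK LD1_c4 LD2_c22 LD3_c60))))))
theorem f80959 : Led Lsl_dt (LP (LK LD1_c4 LD2_c22 LD3_c60)) = (LP (LK LD1_c2 LD2_c8 LD3_c54)) :=
  Lre_d IH (LK LD1_c4 LD2_c22 LD3_c60) (LK LD1_c2 LD2_c8 LD3_c54) Lrfl Lrfl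
theorem f80980 : Led Lsl_ct (LP (LK LD1_c1 LD2_c1 LD3_c39)) = (LP (LK LD1_c2 LD2_c8 LD3_c54)) :=
  Lre_c IH (LK LD1_c1 LD2_c1 LD3_c39) (LK LD1_c2 LD2_c8 LD3_c54) Lrfl Lrfl
theorem f80962 : Led Lsl_df (LP (LK LD1_c1 LD2_c1 LD3_c39)) = (LP (LK LD1_c1 LD2_c28 LD3_c22)) :=
  Lgr Lrot38 (Lpr_dt (K9.f80918 IH) (Lpn (LP (LK LD1_c1 LD2_c28 LD3_c22))))
theorem f60463 : Led Lsl_ct (LP (LK LD1_c3 LD2_c4 LD3_c39)) = (LP (LK LD1_c1 LD2_c28 LD3_c21)) :=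
  Lre_c IH (LK LD1_c3 LD2_c4 LD3_c39) (LK LD1_c1 LD2_c28 LD3_c21) Lrfl Lrfl
theorem f193708 : Led Lsl_gf (LP (LK LD1_c3 LD2_c3 LD3_c52)) = (LP (LK LD1_c3 LD2_c4 LD3_c39)) :=
  Lgr Lrot144 (Lpr_dt (K2.f37244 IH) (Lpr_gt (f193700 IH) (Lpr_dt (f80959 IH) (Lpe (f80980 IH) (Lpr_df (f80962 IH) (Lpr_gf (K9.f60699 IH) (Lpe (K9.f60227 IH) (Lpr_gf (K9.f181418 IH) (Lpe (f60463 IH) (Lpn (LP (LK LD1_c3 LD2_c4 LD3_c39))))))))))))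
theorem f193723 : Led Lsl_gt (LP (LK LD1_c2 LD2_c9 LD3_c19)) = (LP (LK LD1_c3 LD2_c4 LD3_c39)) :=
  Lgr Lrot5 (Lpe (K2.f69807 IH) (Lpe (K2.f69933 IH) (Lpr_gf (f193708 IH) (Lpn (LP (LK LD1_c3 LD2_c4 LD3_c39))))))
theorem f70011 : Led Lsl_et (LP (LK LD1_c1 LD2_c1 LD3_c48)) = (LP (LK LD1_c2 LD2_c9 LD3_c19)) :=
  Lre_e IH (LK LD1_c1 LD2_c1 LD3_c48) (LK LD1_c2 LD2_c9 LD3_c19) Lrfl Lrfl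
theorem f36718 : Led Lsl_et (LP (LK LD1_c1 LD2_c27 LD3_c48)) = (LP (LK LD1_c0 LD2_c40 LD3_c37)) :=
  Lre_e IH (LK LD1_c1 LD2_c27 LD3_c48) (LK LD1_c0 LD2_c40 LD3_c37) Lrfl Lrfl
theorem f36773 : Led Lsl_dt (LP (LK LD1_c1 LD2_c27 LD3_c48)) = (LP (LK LD1_c3 LD2_c3 LD3_c39)) :=
  Lre_d IH (LK LD1_c1 LD2_c27 LD3_c48) (LK LD1_c3 LD2_c3 LD3_c39) Lrfl Lrfl
theorem f36896 : Led Lsl_gt (LP (LK LD1_c6 LD2_c13 LD3_c39)) = (LP (LK LD1_c3 LD2_c3 LD3_c39)) :=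
  Lre_g IH (LK LD1_c6 LD2_c13 LD3_c39) (LK LD1_c3 LD2_c3 LD3_c39) Lrfl Lrfl
theorem f101371 : Led Lsl_et (LP (LK LD1_c1 LD2_c28 LD3_c21)) = (LP (LK LD1_c2 LD2_c10 LD3_c42)) :=
  Lgr Lrot87 (Lpr_ef (K9.f101367 IH) (Lpn (LP (LK LD1_c2 LD2_c10 LD3_c42))))
theorem f101300 : Led Lsl_ct (LP (LK LD1_c2 LD2_c10 LD3_c42)) = (LP (LK LD1_c4 LD2_c27 LD3_c6)) :=
  Lre_c IH (LK LD1_c2 LD2_c10 LD3_c42) (LK LD1_c4 LD2_c27 LD3_c6) Lrfl Lrfl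
theorem f101373 : Led Lsl_ef (LP (LK LD1_c3 LD2_c4 LD3_c39)) = (LP (LK LD1_c4 LD2_c27 LD3_c6)) :=
  Lgr Lrot28 (Lpr_ct (f60463 IH) (Lpr_et (f101371 IH) (Lpr_ct (f101300 IH) (Lpn (LP (LK LD1_c4 LD2_c27 LD3_c6))))))
theorem f193731 : Led Lsl_df (LP (LK LD1_c6 LD2_c13 LD3_c39)) = (LP (LK LD1_c4 LD2_c27 LD3_c6)) :=
  Lgr Lrot170 (Lpr_gt (f36896 IH) (Lpe (f36773 IH) (Lpr_et (f36718 IH) (Lpr_gt (K1.f37320 IH) (Lpr_dt (K2.f37326 IH) (Lpr_gt (K2.f59184 IH) (Lpe (K2.f35868 IH) (Lpr_et (f70011 IH) (Lpr_gt (f193723 IH) (Lpr_ef (f101373 IH) (Lpn (LP (LK LD1_c4 LD2_c27 LD3_c6)))))))))))))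
theorem f29710 : Led Lsl_ft (LP (LK LD1_c0 LD2_c55 LD3_c10)) = (LP (LK LD1_c1 LD2_c56 LD3_c48)) :=
  Lre_f IH (LK LD1_c0 LD2_c55 LD3_c10) (LK LD1_c1 LD2_c56 LD3_c48) Lrfl Lrfl
theorem f193688 : Led Lsl_gf (LP (LK LD1_c1 LD2_c57 LD3_c0)) = (LP (LK LD1_c1 LD2_c1 LD3_c38)) :=
  Lgr Lrot76 (Lpr_af (K1.f29288 IH) (Lpe (f29710 IH) (Lpr_gt (f193672 IH) (Lpn (LP (LK LD1_c1 LD2_c1 LD3_c38))))))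
theorem f29582 : Led Lsl_et (LP (LK LD1_c4 LD2_c0 LD3_c33)) = (LP (LK LD1_c1 LD2_c57 LD3_c0)) :=
  Lre_e IH (LK LD1_c4 LD2_c0 LD3_c33) (LK LD1_c1 LD2_c57 LD3_c0) Lrfl Lrfl
theorem f193739 : Led Lsl_gf (LP (LK LD1_c6 LD2_c13 LD3_c39)) = (LP (LK LD1_c8 LD2_c2 LD3_c3)) :=
  Lgr Lrot145 (Lpr_df (f193731 IH) (Lpe (f101373 IH) (Lpe (f193708 IH) (Lpr_dt (K2.f37244 IH) (Lpr_gt (f193700 IH) (Lpe (f80981 IH) (Lpr_et (f193696 IH) (Lpe (f193688 IH) (Lpe (f29582 IH) (Lpr_dt (K1.f29212 IH) (Lpn (LP (LK LD1_c8 LD2_c2 LD3_c3)))))))))))))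
theorem f193734 : Led Lsl_dt (LP (LK LD1_c6 LD2_c13 LD3_c39)) = (LP (LK LD1_c4 LD2_c27 LD3_c6)) :=
  Lgr Lrot42 (Lpr_df (f193731 IH) (Lpn (LP (LK LD1_c4 LD2_c27 LD3_c6))))
theorem f101299 : Led Lsl_ct (LP (LK LD1_c4 LD2_c27 LD3_c6)) = (LP (LK LD1_c2 LD2_c10 LD3_c42)) :=
  Lre_c IH (LK LD1_c4 LD2_c27 LD3_c6) (LK LD1_c2 LD2_c10 LD3_c42) Lrfl Lrfl
theorem f101298 : Led Lsl_dt (LP (LK LD1_c1 LD2_c2 LD3_c22)) = (LP (LK LD1_c2 LD2_c10 LD3_c42)) :=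
  Lre_d IH (LK LD1_c1 LD2_c2 LD3_c22) (LK LD1_c2 LD2_c10 LD3_c42) Lrfl Lrfl
theorem f80929 : Led Lsl_ct (LP (LK LD1_c1 LD2_c2 LD3_c21)) = (LP (LK LD1_c2 LD2_c10 LD3_c39)) :=
  Lre_c IH (LK LD1_c1 LD2_c2 LD3_c21) (LK LD1_c2 LD2_c10 LD3_c39) Lrfl Lrfl
theorem f193741 : Led Lsl_gt (LP (LK LD1_c2 LD2_c10 LD3_c39)) = (LP (LK LD1_c4 LD2_c0 LD3_c33)) :=
  Lgr Lrot94 (Lpe (f80929 IH) (Lpe (K9.f101419 IH) (Lpr_dt (K9.f100968 IH) (Lpr_gt (K9.f101296 IH) (Lpr_dt (f101298 IH) (Lpe (f101299 IH) (Lpe (f193734 IH) (Lpr_gf (f193739 IH) (Lpe (K1.f29212 IH) (Lpn (LP (LK LD1_c4 LD2_c0 LD3_c33))))))))))))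
theorem f175890 : Led Lsl_bt (LP (LK LD1_c0 LD2_c40 LD3_c35)) = (LP (LK LD1_c1 LD2_c27 LD3_c43)) :=
  Lre_b IH (LK LD1_c0 LD2_c40 LD3_c35) (LK LD1_c1 LD2_c27 LD3_c43) Lrfl Lrfl
theorem f193749 : Led Lsl_gf (LP (LK LD1_c1 LD2_c27 LD3_c43)) = (LP (LK LD1_c1 LD2_c57 LD3_c1)) :=
  Lgr Lrot124 (Lpe (f175890 IH) (Lpe (K9.f176795 IH) (Lpr_gt (K9.f68587 IH) (Lpe (K9.f23950 IH) (Lpr_bt (K9.f100640 IH) (Lpr_gt (K9.f80923 IH) (Lpr_ct (f80929 IH) (Lpr_gt (f193741 IH) (Lpe (K1.f29211 IH) (Lpr_bt (K7.f29341 IH) (Lpn (LP (LK LD1_c1 LD2_c57 LD3_c1)))))))))))))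
theorem f193754 : Led Lsl_gt (LP (LK LD1_c1 LD2_c27 LD3_c43)) = (LP (LK LD1_c0 LD2_c40 LD3_c38)) :=
  Lgr Lrot46 (Lpr_gf (f193749 IH) (Lpr_ft (K1.f29215 IH) (Lpe (K1.f36893 IH) (Lpn (LP (LK LD1_c0 LD2_c40 LD3_c38))))))
theorem f101536 : Led Lsl_dt (LP (LK LD1_c3 LD2_c3 LD3_c34)) = (LP (LK LD1_c1 LD2_c27 LD3_c43)) :=
  Lre_d IH (LK LD1_c3 LD2_c3 LD3_c34) (LK LD1_c1 LD2_c27 LD3_c43) Lrfl Lrfl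
theorem f101525 : Led Lsl_et (LP (LK LD1_c1 LD2_c5 LD3_c45)) = (LP (LK LD1_c1 LD2_c27 LD3_c44)) :=
  Lgr Lrot87 (Lpr_ef (K9.f101514 IH) (Lpn (LP (LK LD1_c1 LD2_c27 LD3_c44))))
theorem f80285 : Led Lsl_bt (LP (LK LD1_c2 LD2_c17 LD3_c42)) = (LP (LK LD1_c1 LD2_c5 LD3_c45)) :=
  Lre_b IH (LK LD1_c2 LD2_c17 LD3_c42) (LK LD1_c1 LD2_c5 LD3_c45) Lrfl Lrfl
theorem f101531 : Led Lsl_bt (LP (LK LD1_c1 LD2_c27 LD3_c44)) = (LP (LK LD1_c3 LD2_c3 LD3_c34)) :=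
  Lre_b IH (LK LD1_c1 LD2_c27 LD3_c44) (LK LD1_c3 LD2_c3 LD3_c34) Lrfl Lrfl
theorem f101532 : Led Lsl_ef (LP (LK LD1_c2 LD2_c17 LD3_c42)) = (LP (LK LD1_c3 LD2_c3 LD3_c34)) :=
  Lgr Lrot29 (Lpr_bt (f80285 IH) (Lpr_et (f101525 IH) (Lpr_bt (f101531 IH) (Lpn (LP (LK LD1_c3 LD2_c3 LD3_c34))))))
theorem f36737 : Led Lsl_ft (LP (LK LD1_c0 LD2_c40 LD3_c38)) = (LP (LK LD1_c1 LD2_c27 LD3_c50)) :=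
  Lre_f IH (LK LD1_c0 LD2_c40 LD3_c38) (LK LD1_c1 LD2_c27 LD3_c50) Lrfl Lrfl
theorem f36731 : Led Lsl_ft (LP (LK LD1_c1 LD2_c27 LD3_c50)) = (LP (LK LD1_c0 LD2_c40 LD3_c38)) :=
  Lre_f IH (LK LD1_c1 LD2_c27 LD3_c50) (LK LD1_c0 LD2_c40 LD3_c38) Lrfl Lrfl
theorem f36738 : Led Lsl_df (LP (LK LD1_c0 LD2_c40 LD3_c38)) = (LP (LK LD1_c0 LD2_c40 LD3_c38)) :=
  Lgr Lrot78 (Lpr_ft (f36737 IH) (Lpr_dt (K1.f36729 IH) (Lpr_ft (f36731 IH) (Lpn (LP (LK LD1_c0 LD2_c40 LD3_c38))))))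
theorem f193760 : Led Lsl_gf (LP (LK LD1_c2 LD2_c17 LD3_c42)) = (LP (LK LD1_c1 LD2_c6 LD3_c22)) :=
  Lgr Lrot141 (Lpr_ef (f101532 IH) (Lpr_dt (f101536 IH) (Lpr_gt (f193754 IH) (Lpr_df (f36738 IH) (Lpr_et (K1.f36732 IH) (Lpr_gt (K1.f37962 IH) (Lpr_dt (K1.f35599 IH) (Lpr_gt (K0.f27226 IH) (Lpe (K2.f59163 IH) (Lpr_et (K2.f59165 IH) (Lpn (LP (LK LD1_c1 LD2_c6 LD3_c22)))))))))))))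
theorem f101520 : Led Lsl_bt (LP (LK LD1_c1 LD2_c5 LD3_c45)) = (LP (LK LD1_c2 LD2_c17 LD3_c42)) :=
  Lre_b IH (LK LD1_c1 LD2_c5 LD3_c45) (LK LD1_c2 LD2_c17 LD3_c42) Lrfl Lrfl
theorem f23942 : Led Lsl_et (LP (LK LD1_c1 LD2_c26 LD3_c14)) = (LP (LK LD1_c3 LD2_c0 LD3_c54)) :=
  Lre_e IH (LK LD1_c1 LD2_c26 LD3_c14) (LK LD1_c3 LD2_c0 LD3_c54) Lrfl Lrfl
theorem f175907 : Led Lsl_cf (LP (LK LD1_c1 LD2_c26 LD3_c14)) = (LP (LK LD1_c1 LD2_c5 LD3_c45)) :=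
  Lgr Lrot39 (Lpr_et (f23942 IH) (Lpr_ct (K9.f175901 IH) (Lpe (K9.f101514 IH) (Lpn (LP (LK LD1_c1 LD2_c5 LD3_c45))))))
theorem f59908 : Led Lsl_et (LP (LK LD1_c1 LD2_c5 LD3_c25)) = (LP (LK LD1_c1 LD2_c20 LD3_c47)) :=
  Lgr Lrot69 (Lpe (K9.f59906 IH) (Lpe (K9.f22474 IH) (Lpr_ff (K1.f59880 IH) (Lpe (f59819 IH) (Lpe (K1.f59907 IH) (Lpn (LP (LK LD1_c1 LD2_c20 LD3_c47))))))))
theorem f175930 : Led Lsl_gf (LP (LK LD1_c1 LD2_c20 LD3_c47)) = (LP (LK LD1_c1 LD2_c26 LD3_c14)) :=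
  Lgr Lrot141 (Lpe (f59908 IH) (Lpr_dt (K1.f9065 IH) (Lpr_gt (K9.f59951 IH) (Lpr_df (K9.f175917 IH) (Lpe (K9.f175913 IH) (Lpr_gt (K9.f23958 IH) (Lpr_dt (K9.f23957 IH) (Lpr_gt (K9.f23956 IH) (Lpr_df (K9.f23931 IH) (Lpr_et (K9.f23930 IH) (Lpn (LP (LK LD1_c1 LD2_c26 LD3_c14)))))))))))))
theorem f60135 : Led Lsl_bt (LP (LK LD1_c0 LD2_c37 LD3_c19)) = (LP (LK LD1_c1 LD2_c20 LD3_c39)) :=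
  Lre_b IH (LK LD1_c0 LD2_c37 LD3_c19) (LK LD1_c1 LD2_c20 LD3_c39) Lrfl Lrfl
theorem f60701 : Led Lsl_ct (LP (LK LD1_c1 LD2_c28 LD3_c22)) = (LP (LK LD1_c3 LD2_c4 LD3_c41)) :=
  Lre_c IH (LK LD1_c1 LD2_c28 LD3_c22) (LK LD1_c3 LD2_c4 LD3_c41) Lrfl Lrfl
theorem f70010 : Led Lsl_bt (LP (LK LD1_c4 LD2_c23 LD3_c49)) = (LP (LK LD1_c2 LD2_c9 LD3_c19)) :=
  Lre_b IH (LK LD1_c4 LD2_c23 LD3_c49) (LK LD1_c2 LD2_c9 LD3_c19) Lrfl Lrfl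
theorem f59166 : Led Lsl_dt (LP (LK LD1_c1 LD2_c6 LD3_c22)) = (LP (LK LD1_c1 LD2_c6 LD3_c22)) :=
  Lgr Lrot77 (Lpe (K2.f59165 IH) (Lpr_df (K1.f59159 IH) (Lpr_ef (K2.f35386 IH) (Lpe (K2.f59163 IH) (Lpe (K2.f37093 IH) (Lpn (LP (LK LD1_c1 LD2_c6 LD3_c22))))))))
theorem f70007 : Led Lsl_dt (LP (LK LD1_c4 LD2_c23 LD3_c51)) = (LP (LK LD1_c2 LD2_c9 LD3_c19)) :=
  Lre_d IH (LK LD1_c4 LD2_c23 LD3_c51) (LK LD1_c2 LD2_c9 LD3_c19) Lrfl Lrfl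
theorem f70008 : Led Lsl_cf (LP (LK LD1_c1 LD2_c6 LD3_c22)) = (LP (LK LD1_c2 LD2_c9 LD3_c19)) :=
  Lgr Lrot118 (Lpr_dt (f59166 IH) (Lpr_ct (K2.f59178 IH) (Lpr_dt (K2.f69945 IH) (Lpr_ct (K2.f69946 IH) (Lpe (K2.f69947 IH) (Lpr_ct (K2.f37248 IH) (Lpr_af (K2.f69836 IH) (Lpr_ff (K2.f69997 IH) (Lpr_dt (f70007 IH) (Lpn (LP (LK LD1_c2 LD2_c9 LD3_c19))))))))))))
theorem f70089 : Led Lsl_bt (LP (LK LD1_c1 LD2_c6 LD3_c22)) = (LP (LK LD1_c1 LD2_c6 LD3_c22)) :=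
  Lgr Lrot128 (Lpr_cf (f70008 IH) (Lpe (f70010 IH) (Lpr_cf (K9.f70031 IH) (Lpe (K9.f70015 IH) (Lpe (K2.f59178 IH) (Lpn (LP (LK LD1_c1 LD2_c6 LD3_c22))))))))
theorem f193764 : Led Lsl_gt (LP (LK LD1_c3 LD2_c4 LD3_c41)) = (LP (LK LD1_c2 LD2_c9 LD3_c19)) :=
  Lgr Lrot149 (Lpe (f60701 IH) (Lpr_gf (K9.f60699 IH) (Lpe (f60135 IH) (Lpr_ct (K9.f59927 IH) (Lpr_gf (f175930 IH) (Lpr_cf (f175907 IH) (Lpr_bt (f101520 IH) (Lpr_gf (f193760 IH) (Lpe (f70089 IH) (Lpr_ct (K2.f59178 IH) (Lpn (LP (LK LD1_c2 LD2_c9 LD3_c19)))))))))))))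
theorem f69942 : Led Lsl_ft (LP (LK LD1_c3 LD2_c3 LD3_c52)) = (LP (LK LD1_c1 LD2_c27 LD3_c59)) :=
  Lre_f IH (LK LD1_c3 LD2_c3 LD3_c52) (LK LD1_c1 LD2_c27 LD3_c59) Lrfl Lrfl
theorem f69943 : Led Lsl_at (LP (LK LD1_c1 LD2_c27 LD3_c59)) = (LP (LK LD1_c2 LD2_c9 LD3_c19)) :=
  Lgr Lrot66 (Lpe (f69942 IH) (Lpr_af (K2.f69933 IH) (Lpr_ff (K2.f69807 IH) (Lpn (LP (LK LD1_c2 LD2_c9 LD3_c19))))))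
theorem f193766 : Led Lsl_gf (LP (LK LD1_c3 LD2_c4 LD3_c41)) = (LP (LK LD1_c3 LD2_c3 LD3_c52)) :=
  Lgr Lrot47 (Lpr_gt (f193764 IH) (Lpe (f69943 IH) (Lpe (f69942 IH) (Lpn (LP (LK LD1_c3 LD2_c3 LD3_c52))))))
theorem f69809 : Led Lsl_ff (LP (LK LD1_c1 LD2_c58 LD3_c11)) = (LP (LK LD1_c1 LD2_c6 LD3_c22)) :=
  Lgr Lrot19 (Lpe (K2.f33626 IH) (Lpr_ft (K2.f69803 IH) (Lpr_dt (f59166 IH) (Lpn (LP (LK LD1_c1 LD2_c6 LD3_c22))))))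
theorem f33738 : Led Lsl_af (LP (LK LD1_c0 LD2_c55 LD3_c59)) = (LP (LK LD1_c0 LD2_c55 LD3_c45)) :=
  Lgr Lrot68 (Lpr_ct (K0.f33737 IH) (Lpr_at (K0.f33717 IH) (Lpr_ct (K0.f33724 IH) (Lpn (LP (LK LD1_c0 LD2_c55 LD3_c45))))))
theorem f69698 : Led Lsl_af (LP (LK LD1_c1 LD2_c28 LD3_c0)) = (LP (LK LD1_c1 LD2_c58 LD3_c11)) :=
  Lgr Lrot50 (Lpr_et (K2.f69696 IH) (Lpe (f33738 IH) (Lpr_et (K2.f33625 IH) (Lpn (LP (LK LD1_c1 LD2_c58 LD3_c11))))))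
theorem f193762 : Led Lsl_gt (LP (LK LD1_c2 LD2_c17 LD3_c42)) = (LP (LK LD1_c1 LD2_c28 LD3_c0)) :=
  Lgr Lrot46 (Lpr_gf (f193760 IH) (Lpe (f69809 IH) (Lpe (f69698 IH) (Lpn (LP (LK LD1_c1 LD2_c28 LD3_c0))))))
theorem f60162 : Led Lsl_bt (LP (LK LD1_c0 LD2_c37 LD3_c15)) = (LP (LK LD1_c0 LD2_c16 LD3_c38)) :=
  Lre_b IH (LK LD1_c0 LD2_c37 LD3_c15) (LK LD1_c0 LD2_c16 LD3_c38) Lrfl Lrfl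
theorem f60899 : Led Lsl_bf (LP (LK LD1_c0 LD2_c30 LD3_c3)) = (LP (LK LD1_c0 LD2_c17 LD3_c52)) :=
  Lgr Lrot81 (Lpr_at (K1.f60895 IH) (Lpr_bt (K2.f60467 IH) (Lpr_at (K2.f60626 IH) (Lpr_bt (f60162 IH) (Lpe (K9.f60106 IH) (Lpn (LP (LK LD1_c0 LD2_c17 LD3_c52))))))))
theorem f60907 : Led Lsl_gt (LP (LK LD1_c1 LD2_c5 LD3_c46)) = (LP (LK LD1_c0 LD2_c30 LD3_c3)) :=
  Lre_g IH (LK LD1_c1 LD2_c5 LD3_c46) (LK LD1_c0 LD2_c30 LD3_c3) Lrfl Lrfl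
theorem f193772 : Led Lsl_bt (LP (LK LD1_c1 LD2_c28 LD3_c22)) = (LP (LK LD1_c1 LD2_c5 LD3_c46)) :=
  Lgr Lrot22 (Lpr_ct (f60701 IH) (Lpr_gf (f193766 IH) (Lpe (K2.f37243 IH) (Lpe (f193762 IH) (Lpe (f101520 IH) (Lpe (f175907 IH) (Lpe (K9.f20229 IH) (Lpe (K1.f9526 IH) (Lpe (f60899 IH) (Lpe (f60907 IH) (Lpn (LP (LK LD1_c1 LD2_c5 LD3_c46)))))))))))))
theorem f80964 : Led Lsl_et (LP (LK LD1_c0 LD2_c28 LD3_c9)) = (LP (LK LD1_c1 LD2_c1 LD3_c39)) :=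
  Lre_e IH (LK LD1_c0 LD2_c28 LD3_c9) (LK LD1_c1 LD2_c1 LD3_c39) Lrfl Lrfl
theorem f181412 : Led Lsl_bt (LP (LK LD1_c1 LD2_c1 LD3_c39)) = (LP (LK LD1_c0 LD2_c54 LD3_c55)) :=
  Lgr Lrot119 (Lpe (f80964 IH) (Lpr_bf (K9.f181221 IH) (Lpe (f101440 IH) (Lpn (LP (LK LD1_c0 LD2_c54 LD3_c55))))))
theorem f181713 : Led Lsl_bf (LP (LK LD1_c1 LD2_c1 LD3_c39)) = (LP (LK LD1_c0 LD2_c54 LD3_c55)) :=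
  Lgr Lrot24 (Lpr_bt (f181412 IH) (Lpn (LP (LK LD1_c0 LD2_c54 LD3_c55))))
theorem f193777 : Led Lsl_df (LP (LK LD1_c0 LD2_c54 LD3_c55)) = (LP (LK LD1_c1 LD2_c5 LD3_c46)) :=
  Lgr Lrot12 (Lpe (f181713 IH) (Lpr_dt (K9.f80918 IH) (Lpr_bt (f193772 IH) (Lpn (LP (LK LD1_c1 LD2_c5 LD3_c46))))))
theorem f175852 : Led Lsl_ct (LP (LK LD1_c1 LD2_c20 LD3_c45)) = (LP (LK LD1_c0 LD2_c40 LD3_c55)) :=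
  Lgr Lrot59 (Lpr_cf (f175848 IH) (Lpn (LP (LK LD1_c0 LD2_c40 LD3_c55))))
theorem f180350 : Led Lsl_cf (LP (LK LD1_c1 LD2_c3 LD3_c41)) = (LP (LK LD1_c0 LD2_c54 LD3_c55)) :=
  Lgr Lrot166 (Lpr_gt (f180288 IH) (Lpr_dt (f60207 IH) (Lpe (f180348 IH) (Lpr_dt (f175858 IH) (Lpr_ct (f175852 IH) (Lpe (K9.f161773 IH) (Lpe (f161781 IH) (Lpr_df (f175550 IH) (Lpr_gf (f180266 IH) (Lpn (LP (LK LD1_c0 LD2_c54 LD3_c55))))))))))))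
theorem f26951 : Led Lsl_dt (LP (LK LD1_c2 LD2_c13 LD3_c13)) = (LP (LK LD1_c1 LD2_c3 LD3_c41)) :=
  Lre_d IH (LK LD1_c2 LD2_c13 LD3_c13) (LK LD1_c1 LD2_c3 LD3_c41) Lrfl Lrfl
theorem f23961 : Led Lsl_et (LP (LK LD1_c1 LD2_c3 LD3_c41)) = (LP (LK LD1_c0 LD2_c29 LD3_c4)) :=
  Lre_e IH (LK LD1_c1 LD2_c3 LD3_c41) (LK LD1_c0 LD2_c29 LD3_c4) Lrfl Lrfl
theorem f23962 : Led Lsl_dt (LP (LK LD1_c1 LD2_c3 LD3_c41)) = (LP (LK LD1_c2 LD2_c13 LD3_c13)) :=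
  Lre_d IH (LK LD1_c1 LD2_c3 LD3_c41) (LK LD1_c2 LD2_c13 LD3_c13) Lrfl Lrfl
theorem f175932 : Led Lsl_gt (LP (LK LD1_c2 LD2_c49 LD3_c16)) = (LP (LK LD1_c2 LD2_c13 LD3_c13)) :=
  Lgr Lrot139 (Lpe (K1.f59935 IH) (Lpr_gf (f175930 IH) (Lpe (K9.f23930 IH) (Lpe (K9.f23931 IH) (Lpe (K9.f23956 IH) (Lpe (K9.f23957 IH) (Lpr_et (K9.f23959 IH) (Lpe (K9.f23960 IH) (Lpe (f23961 IH) (Lpr_dt (f23962 IH) (Lpn (LP (LK LD1_c2 LD2_c13 LD3_c13)))))))))))))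
theorem f175910 : Led Lsl_ct (LP (LK LD1_c1 LD2_c26 LD3_c14)) = (LP (LK LD1_c1 LD2_c5 LD3_c45)) :=
  Lgr Lrot59 (Lpr_cf (f175907 IH) (Lpn (LP (LK LD1_c1 LD2_c5 LD3_c45))))
theorem f193783 : Led Lsl_gt (LP (LK LD1_c0 LD2_c40 LD3_c56)) = (LP (LK LD1_c1 LD2_c5 LD3_c46)) :=
  Lgr Lrot49 (Lpe (K1.f60705 IH) (Lpr_gf (K9.f80283 IH) (Lpe (f175910 IH) (Lpe (f175930 IH) (Lpr_dt (K1.f59935 IH) (Lpr_gt (f175932 IH) (Lpr_dt (f26951 IH) (Lpr_cf (f180350 IH) (Lpr_df (f193777 IH) (Lpn (LP (LK LD1_c1 LD2_c5 LD3_c46))))))))))))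
theorem f60496 : Led Lsl_af (LP (LK LD1_c3 LD2_c4 LD3_c6)) = (LP (LK LD1_c2 LD2_c49 LD3_c2)) :=
  Lgr Lrot117 (Lpr_dt (K1.f56457 IH) (Lpr_at (K1.f60489 IH) (Lpr_dt (K1.f60204 IH) (Lpn (LP (LK LD1_c2 LD2_c49 LD3_c2))))))
theorem f60249 : Led Lsl_ft (LP (LK LD1_c1 LD2_c20 LD3_c36)) = (LP (LK LD1_c2 LD2_c49 LD3_c2)) :=
  Lre_f IH (LK LD1_c1 LD2_c20 LD3_c36) (LK LD1_c2 LD2_c49 LD3_c2) Lrfl Lrfl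
theorem f59293 : Led Lsl_gt (LP (LK LD1_c1 LD2_c20 LD3_c36)) = (LP (LK LD1_c2 LD2_c48 LD3_c61)) :=
  Lre_g IH (LK LD1_c1 LD2_c20 LD3_c36) (LK LD1_c2 LD2_c48 LD3_c61) Lrfl Lrfl
theorem f60772 : Led Lsl_gf (LP (LK LD1_c3 LD2_c4 LD3_c6)) = (LP (LK LD1_c2 LD2_c48 LD3_c61)) :=
  Lgr Lrot76 (Lpr_af (f60496 IH) (Lpe (f60249 IH) (Lpr_gt (f59293 IH) (Lpn (LP (LK LD1_c2 LD2_c48 LD3_c61))))))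
theorem f193785 : Led Lsl_cf (LP (LK LD1_c2 LD2_c48 LD3_c61)) = (LP (LK LD1_c2 LD2_c17 LD3_c42)) :=
  Lgr Lrot125 (Lpe (f60772 IH) (Lpr_cf (K1.f60429 IH) (Lpr_bt (K1.f60426 IH) (Lpr_gt (f193783 IH) (Lpe (f193772 IH) (Lpr_ct (f60701 IH) (Lpr_gt (f193764 IH) (Lpe (K2.f59178 IH) (Lpr_bt (f70089 IH) (Lpe (f193760 IH) (Lpn (LP (LK LD1_c2 LD2_c17 LD3_c42)))))))))))))
theorem f9538 : Led Lsl_gt (LP (LK LD1_c1 LD2_c26 LD3_c15)) = (LP (LK LD1_c0 LD2_c39 LD3_c50)) :=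
  Lre_g IH (LK LD1_c1 LD2_c26 LD3_c15) (LK LD1_c0 LD2_c39 LD3_c50) Lrfl Lrfl
theorem f193972 : Led Lsl_ct (LP (LK LD1_c1 LD2_c5 LD3_c46)) = (LP (LK LD1_c1 LD2_c26 LD3_c15)) :=
  Lgr Lrot91 (Lpe (f193783 IH) (Lpe (K1.f60426 IH) (Lpe (K1.f60429 IH) (Lpr_gf (f60772 IH) (Lpr_cf (f193785 IH) (Lpr_bt (f80285 IH) (Lpe (K9.f59523 IH) (Lpr_bf (f60899 IH) (Lpr_ct (K1.f9526 IH) (Lpe (f9538 IH) (Lpn (LP (LK LD1_c1 LD2_c26 LD3_c15)))))))))))))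
theorem f6815 : Led Lsl_gt (LP (LK LD1_c0 LD2_c27 LD3_c29)) = (LP (LK LD1_c0 LD2_c12 LD3_c10)) :=
  Lre_g IH (LK LD1_c0 LD2_c27 LD3_c29) (LK LD1_c0 LD2_c12 LD3_c10) Lrfl Lrfl
theorem f170308 : Led Lsl_et (LP (LK LD1_c0 LD2_c27 LD3_c39)) = (LP (LK LD1_c0 LD2_c27 LD3_c29)) :=
  Lgr Lrot121 (Lpr_dt (K9.f170297 IH) (Lpe (K9.f6813 IH) (Lpe (K1.f6812 IH) (Lpr_et (K9.f28325 IH) (Lpe (K1.f31430 IH) (Lpe (K1.f28428 IH) (Lpr_dt (K9.f31439 IH) (Lpr_gf (K9.f31440 IH) (Lpe (K9.f6793 IH) (Lpe (f6815 IH) (Lpn (LP (LK LD1_c0 LD2_c27 LD3_c29)))))))))))))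
theorem f169334 : Led Lsl_dt (LP (LK LD1_c0 LD2_c27 LD3_c29)) = (LP (LK LD1_c1 LD2_c0 LD3_c29)) :=
  Lre_d IH (LK LD1_c0 LD2_c27 LD3_c29) (LK LD1_c1 LD2_c0 LD3_c29) Lrfl Lrfl
theorem f193781 : Led Lsl_et (LP (LK LD1_c1 LD2_c0 LD3_c29)) = (LP (LK LD1_c1 LD2_c5 LD3_c46)) :=
  Lgr Lrot71 (Lpe (f169334 IH) (Lpe (f170308 IH) (Lpr_df (f170299 IH) (Lpe (f101440 IH) (Lpr_df (f193777 IH) (Lpn (LP (LK LD1_c1 LD2_c5 LD3_c46))))))))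
theorem f169333 : Led Lsl_dt (LP (LK LD1_c1 LD2_c0 LD3_c29)) = (LP (LK LD1_c0 LD2_c27 LD3_c29)) :=
  Lre_d IH (LK LD1_c1 LD2_c0 LD3_c29) (LK LD1_c0 LD2_c27 LD3_c29) Lrfl Lrfl
theorem f185841 : Led Lsl_gf (LP (LK LD1_c0 LD2_c32 LD3_c9)) = (LP (LK LD1_c1 LD2_c0 LD3_c29)) :=
  Lgr Lrot147 (Lpr_ct (K9.f28343 IH) (Lpe (K9.f177179 IH) (Lpr_ct (K9.f164162 IH) (Lpr_df (f177630 IH) (Lpe (f177186 IH) (Lpr_gf (f185823 IH) (Lpe (K9.f31682 IH) (Lpe (f6815 IH) (Lpe (f169333 IH) (Lpn (LP (LK LD1_c1 LD2_c0 LD3_c29))))))))))))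
theorem f185133 : Led Lsl_gt (LP (LK LD1_c1 LD2_c13 LD3_c29)) = (LP (LK LD1_c0 LD2_c34 LD3_c2)) :=
  Lre_g IH (LK LD1_c1 LD2_c13 LD3_c29) (LK LD1_c0 LD2_c34 LD3_c2) Lrfl Lrfl
theorem f186508 : Led Lsl_cf (LP (LK LD1_c1 LD2_c0 LD3_c29)) = (LP (LK LD1_c1 LD2_c13 LD3_c29)) :=
  Lgr Lrot166 (Lpe (f185841 IH) (Lpr_dt (K9.f28344 IH) (Lpr_gt (K9.f31661 IH) (Lpr_dt (K1.f31556 IH) (Lpe (K2.f71479 IH) (Lpe (f71296 IH) (Lpr_gf (f186502 IH) (Lpe (f185098 IH) (Lpe (f185133 IH) (Lpn (LP (LK LD1_c1 LD2_c13 LD3_c29))))))))))))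
theorem f193979 : Led Lsl_ef (LP (LK LD1_c1 LD2_c13 LD3_c29)) = (LP (LK LD1_c1 LD2_c26 LD3_c15)) :=
  Lgr Lrot28 (Lpe (f186508 IH) (Lpr_et (f193781 IH) (Lpr_ct (f193972 IH) (Lpn (LP (LK LD1_c1 LD2_c26 LD3_c15))))))
theorem f193986 : Led Lsl_et (LP (LK LD1_c1 LD2_c13 LD3_c29)) = (LP (LK LD1_c1 LD2_c26 LD3_c15)) :=
  Lgr Lrot87 (Lpr_ef (f193979 IH) (Lpn (LP (LK LD1_c1 LD2_c26 LD3_c15))))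
theorem f166372 : Led Lsl_dt (LP (LK LD1_c0 LD2_c33 LD3_c30)) = (LP (LK LD1_c1 LD2_c12 LD3_c22)) :=
  Lre_d IH (LK LD1_c0 LD2_c33 LD3_c30) (LK LD1_c1 LD2_c12 LD3_c22) Lrfl Lrfl
theorem f166373 : Led Lsl_gt (LP (LK LD1_c1 LD2_c12 LD3_c22)) = (LP (LK LD1_c2 LD2_c30 LD3_c43)) :=
  Lre_g IH (LK LD1_c1 LD2_c12 LD3_c22) (LK LD1_c2 LD2_c30 LD3_c43) Lrfl Lrfl
theorem f194019 : Led Lsl_dt (LP (LK LD1_c1 LD2_c13 LD3_c29)) = (LP (LK LD1_c2 LD2_c30 LD3_c43)) :=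
  Lgr Lrot56 (Lpr_et (f193986 IH) (Lpr_gt (f9538 IH) (Lpe (K9.f22853 IH) (Lpr_dt (K0.f22833 IH) (Lpr_gt (K0.f22451 IH) (Lpe (K0.f8328 IH) (Lpr_et (K9.f22475 IH) (Lpe (K9.f166367 IH) (Lpr_dt (f166372 IH) (Lpr_gt (f166373 IH) (Lpn (LP (LK LD1_c2 LD2_c30 LD3_c43)))))))))))))
theorem f185088 : Led Lsl_ct (LP (LK LD1_c0 LD2_c34 LD3_c2)) = (LP (LK LD1_c0 LD2_c15 LD3_c16)) :=
  Lre_c IH (LK LD1_c0 LD2_c34 LD3_c2) (LK LD1_c0 LD2_c15 LD3_c16) Lrfl Lrfl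
theorem f60128 : Led Lsl_dt (LP (LK LD1_c1 LD2_c26 LD3_c15)) = (LP (LK LD1_c3 LD2_c0 LD3_c56)) :=
  Lre_d IH (LK LD1_c1 LD2_c26 LD3_c15) (LK LD1_c3 LD2_c0 LD3_c56) Lrfl Lrfl
theorem f60126 : Led Lsl_gf (LP (LK LD1_c1 LD2_c26 LD3_c15)) = (LP (LK LD1_c1 LD2_c20 LD3_c47)) :=
  Lgr Lrot47 (Lpr_gt (f9538 IH) (Lpr_af (K1.f60108 IH) (Lpe (K1.f59907 IH) (Lpn (LP (LK LD1_c1 LD2_c20 LD3_c47))))))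
theorem f60157 : Led Lsl_ct (LP (LK LD1_c1 LD2_c19 LD3_c39)) = (LP (LK LD1_c0 LD2_c36 LD3_c46)) :=
  Lre_c IH (LK LD1_c1 LD2_c19 LD3_c39) (LK LD1_c0 LD2_c36 LD3_c46) Lrfl Lrfl
theorem f60181 : Led Lsl_dt (LP (LK LD1_c2 LD2_c46 LD3_c32)) = (LP (LK LD1_c1 LD2_c19 LD3_c39)) :=
  Lre_d IH (LK LD1_c2 LD2_c46 LD3_c32) (LK LD1_c1 LD2_c19 LD3_c39) Lrfl Lrfl
theorem f60213 : Led Lsl_gt (LP (LK LD1_c3 LD2_c0 LD3_c56)) = (LP (LK LD1_c2 LD2_c46 LD3_c32)) :=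
  Lgr Lrot49 (Lpe (f60128 IH) (Lpr_gf (f60126 IH) (Lpe (K9.f59927 IH) (Lpe (K9.f60201 IH) (Lpe (K9.f20219 IH) (Lpr_gt (K9.f20227 IH) (Lpr_dt (K9.f60208 IH) (Lpe (f60157 IH) (Lpe (f60181 IH) (Lpn (LP (LK LD1_c2 LD2_c46 LD3_c32))))))))))))
theorem f60178 : Led Lsl_dt (LP (LK LD1_c1 LD2_c19 LD3_c39)) = (LP (LK LD1_c2 LD2_c46 LD3_c32)) :=
  Lre_d IH (LK LD1_c1 LD2_c19 LD3_c39) (LK LD1_c2 LD2_c46 LD3_c32) Lrfl Lrfl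
theorem f60156 : Led Lsl_ct (LP (LK LD1_c0 LD2_c36 LD3_c46)) = (LP (LK LD1_c1 LD2_c19 LD3_c39)) :=
  Lre_c IH (LK LD1_c0 LD2_c36 LD3_c46) (LK LD1_c1 LD2_c19 LD3_c39) Lrfl Lrfl
theorem f20776 : Led Lsl_ct (LP (LK LD1_c2 LD2_c14 LD3_c2)) = (LP (LK LD1_c1 LD2_c4 LD3_c3)) :=
  Lre_c IH (LK LD1_c2 LD2_c14 LD3_c2) (LK LD1_c1 LD2_c4 LD3_c3) Lrfl Lrfl
theorem f60168 : Led Lsl_et (LP (LK LD1_c1 LD2_c19 LD3_c39)) = (LP (LK LD1_c2 LD2_c14 LD3_c2)) :=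
  Lgr Lrot158 (Lpe (f60156 IH) (Lpr_ef (K9.f60163 IH) (Lpe (f20776 IH) (Lpn (LP (LK LD1_c2 LD2_c14 LD3_c2))))))
theorem f181152 : Led Lsl_et (LP (LK LD1_c0 LD2_c57 LD3_c28)) = (LP (LK LD1_c2 LD2_c0 LD3_c56)) :=
  Lre_e IH (LK LD1_c0 LD2_c57 LD3_c28) (LK LD1_c2 LD2_c0 LD3_c56) Lrfl Lrfl
theorem f181153 : Led Lsl_gt (LP (LK LD1_c2 LD2_c14 LD3_c2)) = (LP (LK LD1_c2 LD2_c0 LD3_c56)) :=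
  Lgr Lrot131 (Lpe (f60168 IH) (Lpr_dt (f60178 IH) (Lpe (f60213 IH) (Lpe (f60128 IH) (Lpr_gf (f60126 IH) (Lpe (f59908 IH) (Lpr_dt (K1.f9065 IH) (Lpe (K9.f47079 IH) (Lpr_df (K9.f181136 IH) (Lpr_et (f181152 IH) (Lpn (LP (LK LD1_c2 LD2_c0 LD3_c56)))))))))))))
theorem f28394 : Led Lsl_dt (LP (LK LD1_c2 LD2_c0 LD3_c56)) = (LP (LK LD1_c4 LD2_c7 LD3_c5)) :=
  Lre_d IH (LK LD1_c2 LD2_c0 LD3_c56) (LK LD1_c4 LD2_c7 LD3_c5) Lrfl Lrfl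
theorem f20482 : Led Lsl_ct (LP (LK LD1_c0 LD2_c29 LD3_c21)) = (LP (LK LD1_c1 LD2_c4 LD3_c13)) :=
  Lre_c IH (LK LD1_c0 LD2_c29 LD3_c21) (LK LD1_c1 LD2_c4 LD3_c13) Lrfl Lrfl
theorem f20517 : Led Lsl_dt (LP (LK LD1_c2 LD2_c14 LD3_c19)) = (LP (LK LD1_c1 LD2_c4 LD3_c13)) :=
  Lre_d IH (LK LD1_c2 LD2_c14 LD3_c19) (LK LD1_c1 LD2_c4 LD3_c13) Lrfl Lrfl
theorem f181155 : Led Lsl_gf (LP (LK LD1_c2 LD2_c14 LD3_c19)) = (LP (LK LD1_c4 LD2_c7 LD3_c5)) :=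
  Lgr Lrot143 (Lpr_dt (f20517 IH) (Lpe (f20482 IH) (Lpe (K9.f181117 IH) (Lpe (K9.f20765 IH) (Lpr_df (K9.f20761 IH) (Lpe (K9.f20771 IH) (Lpe (f20776 IH) (Lpr_gt (f181153 IH) (Lpr_dt (f28394 IH) (Lpn (LP (LK LD1_c4 LD2_c7 LD3_c5))))))))))))
theorem f20500 : Led Lsl_dt (LP (LK LD1_c1 LD2_c4 LD3_c13)) = (LP (LK LD1_c2 LD2_c14 LD3_c19)) :=
  Lre_d IH (LK LD1_c1 LD2_c4 LD3_c13) (LK LD1_c2 LD2_c14 LD3_c19) Lrfl Lrfl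
theorem f20483 : Led Lsl_ef (LP (LK LD1_c0 LD2_c34 LD3_c9)) = (LP (LK LD1_c1 LD2_c4 LD3_c13)) :=
  Lgr Lrot28 (Lpr_ct (f20481 IH) (Lpr_et (K9.f20478 IH) (Lpr_ct (f20482 IH) (Lpn (LP (LK LD1_c1 LD2_c4 LD3_c13))))))
theorem f193990 : Led Lsl_gf (LP (LK LD1_c1 LD2_c13 LD3_c29)) = (LP (LK LD1_c0 LD2_c34 LD3_c9)) :=
  Lgr Lrot141 (Lpr_ef (f193979 IH) (Lpr_dt (f60128 IH) (Lpr_gt (f60213 IH) (Lpe (f60178 IH) (Lpr_et (f60168 IH) (Lpr_gt (f181153 IH) (Lpr_dt (f28394 IH) (Lpe (f181155 IH) (Lpe (f20500 IH) (Lpe (f20483 IH) (Lpn (LP (LK LD1_c0 LD2_c34 LD3_c9)))))))))))))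
theorem f21257 : Led Lsl_dt (LP (LK LD1_c1 LD2_c12 LD3_c25)) = (LP (LK LD1_c0 LD2_c33 LD3_c32)) :=
  Lre_d IH (LK LD1_c1 LD2_c12 LD3_c25) (LK LD1_c0 LD2_c33 LD3_c32) Lrfl Lrfl
theorem f194029 : Led Lsl_gf (LP (LK LD1_c1 LD2_c12 LD3_c25)) = (LP (LK LD1_c2 LD2_c30 LD3_c43)) :=
  Lgr Lrot143 (Lpr_dt (f21257 IH) (Lpe (K9.f21247 IH) (Lpe (K9.f21232 IH) (Lpe (K9.f21234 IH) (Lpe (K9.f177148 IH) (Lpr_gf (K9.f181104 IH) (Lpe (f20481 IH) (Lpe (f193990 IH) (Lpr_dt (f194019 IH) (Lpn (LP (LK LD1_c2 LD2_c30 LD3_c43))))))))))))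
theorem f21397 : Led Lsl_dt (LP (LK LD1_c1 LD2_c11 LD3_c50)) = (LP (LK LD1_c2 LD2_c29 LD3_c30)) :=
  Lre_d IH (LK LD1_c1 LD2_c11 LD3_c50) (LK LD1_c2 LD2_c29 LD3_c30) Lrfl Lrfl
theorem f71499 : Led Lsl_af (LP (LK LD1_c0 LD2_c17 LD3_c7)) = (LP (LK LD1_c0 LD2_c29 LD3_c35)) :=
  Lgr Lrot0 (Lpr_at (K2.f71497 IH) (Lpn (LP (LK LD1_c0 LD2_c29 LD3_c35))))
theorem f35190 : Led Lsl_ft (LP (LK LD1_c1 LD2_c4 LD3_c39)) = (LP (LK LD1_c0 LD2_c29 LD3_c35)) :=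
  Lre_f IH (LK LD1_c1 LD2_c4 LD3_c39) (LK LD1_c0 LD2_c29 LD3_c35) Lrfl Lrfl
theorem f166160 : Led Lsl_gt (LP (LK LD1_c1 LD2_c4 LD3_c39)) = (LP (LK LD1_c0 LD2_c33 LD3_c32)) :=
  Lgr Lrot5 (Lpr_ft (f35190 IH) (Lpe (f71499 IH) (Lpr_gf (K9.f166118 IH) (Lpn (LP (LK LD1_c0 LD2_c33 LD3_c32))))))
theorem f21248 : Led Lsl_dt (LP (LK LD1_c0 LD2_c33 LD3_c32)) = (LP (LK LD1_c1 LD2_c12 LD3_c25)) :=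
  Lre_d IH (LK LD1_c0 LD2_c33 LD3_c32) (LK LD1_c1 LD2_c12 LD3_c25) Lrfl Lrfl
theorem f166249 : Led Lsl_cf (LP (LK LD1_c2 LD2_c29 LD3_c30)) = (LP (LK LD1_c1 LD2_c12 LD3_c25)) :=
  Lgr Lrot14 (Lpe (f21397 IH) (Lpe (K9.f21393 IH) (Lpe (K8.f21932 IH) (Lpe (K9.f21419 IH) (Lpr_ct (K9.f166199 IH) (Lpe (K9.f166171 IH) (Lpr_dt (K2.f34994 IH) (Lpr_gt (f166160 IH) (Lpr_dt (f21248 IH) (Lpn (LP (LK LD1_c1 LD2_c12 LD3_c25))))))))))))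
theorem f21398 : Led Lsl_gt (LP (LK LD1_c2 LD2_c29 LD3_c30)) = (LP (LK LD1_c5 LD2_c4 LD3_c7)) :=
  Lre_g IH (LK LD1_c2 LD2_c29 LD3_c30) (LK LD1_c5 LD2_c4 LD3_c7) Lrfl Lrfl
theorem f165586 : Led Lsl_dt (LP (LK LD1_c1 LD2_c11 LD3_c48)) = (LP (LK LD1_c2 LD2_c29 LD3_c24)) :=
  Lre_d IH (LK LD1_c1 LD2_c11 LD3_c48) (LK LD1_c2 LD2_c29 LD3_c24) Lrfl Lrfl
theorem f3290 : Led Lsl_gt (LP (LK LD1_c0 LD2_c15 LD3_c4)) = (LP (LK LD1_c0 LD2_c33 LD3_c34)) :=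
  Lre_g IH (LK LD1_c0 LD2_c15 LD3_c4) (LK LD1_c0 LD2_c33 LD3_c34) Lrfl Lrfl
theorem f3291 : Led Lsl_dt (LP (LK LD1_c0 LD2_c33 LD3_c34)) = (LP (LK LD1_c1 LD2_c12 LD3_c28)) :=
  Lre_d IH (LK LD1_c0 LD2_c33 LD3_c34) (LK LD1_c1 LD2_c12 LD3_c28) Lrfl Lrfl
theorem f165653 : Led Lsl_ct (LP (LK LD1_c2 LD2_c29 LD3_c24)) = (LP (LK LD1_c1 LD2_c12 LD3_c28)) :=
  Lgr Lrot7 (Lpe (f165586 IH) (Lpr_gf (f165602 IH) (Lpe (K2.f35029 IH) (Lpe (K8.f165624 IH) (Lpr_cf (K9.f165640 IH) (Lpr_gt (K9.f3764 IH) (Lpr_dt (K7.f3763 IH) (Lpr_gt (f3290 IH) (Lpr_dt (f3291 IH) (Lpn (LP (LK LD1_c1 LD2_c12 LD3_c28))))))))))))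
theorem f165663 : Led Lsl_cf (LP (LK LD1_c2 LD2_c29 LD3_c24)) = (LP (LK LD1_c1 LD2_c12 LD3_c28)) :=
  Lgr Lrot11 (Lpr_ct (f165653 IH) (Lpn (LP (LK LD1_c1 LD2_c12 LD3_c28))))
theorem f165587 : Led Lsl_dt (LP (LK LD1_c2 LD2_c29 LD3_c24)) = (LP (LK LD1_c1 LD2_c11 LD3_c48)) :=
  Lre_d IH (LK LD1_c2 LD2_c29 LD3_c24) (LK LD1_c1 LD2_c11 LD3_c48) Lrfl Lrfl
theorem f165671 : Led Lsl_gt (LP (LK LD1_c2 LD2_c30 LD3_c55)) = (LP (LK LD1_c1 LD2_c12 LD3_c28)) :=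
  Lre_g IH (LK LD1_c2 LD2_c30 LD3_c55) (LK LD1_c1 LD2_c12 LD3_c28) Lrfl Lrfl
theorem f165695 : Led Lsl_ct (LP (LK LD1_c5 LD2_c4 LD3_c7)) = (LP (LK LD1_c2 LD2_c30 LD3_c55)) :=
  Lgr Lrot152 (Lpe (f21398 IH) (Lpe (f21397 IH) (Lpr_gt (K9.f165442 IH) (Lpr_ct (K9.f163651 IH) (Lpe (K8.f165581 IH) (Lpr_ct (K8.f165583 IH) (Lpe (f165587 IH) (Lpr_cf (f165663 IH) (Lpe (f165671 IH) (Lpn (LP (LK LD1_c2 LD2_c30 LD3_c55))))))))))))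
theorem f194035 : Led Lsl_df (LP (LK LD1_c1 LD2_c13 LD3_c26)) = (LP (LK LD1_c2 LD2_c30 LD3_c55)) :=
  Lgr Lrot162 (Lpe (f165500 IH) (Lpe (f22103 IH) (Lpe (f185088 IH) (Lpe (f185133 IH) (Lpr_dt (f194019 IH) (Lpe (f194029 IH) (Lpe (f166249 IH) (Lpr_gt (f21398 IH) (Lpr_ct (f165695 IH) (Lpn (LP (LK LD1_c2 LD2_c30 LD3_c55))))))))))))
theorem f186814 : Led Lsl_dt (LP (LK LD1_c0 LD2_c29 LD3_c54)) = (LP (LK LD1_c0 LD2_c34 LD3_c0)) :=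
  Lgr Lrot42 (Lpr_df (f186811 IH) (Lpn (LP (LK LD1_c0 LD2_c34 LD3_c0))))
theorem f53189 : Led Lsl_dt (LP (LK LD1_c0 LD2_c33 LD3_c35)) = (LP (LK LD1_c1 LD2_c12 LD3_c31)) :=
  Lre_d IH (LK LD1_c0 LD2_c33 LD3_c35) (LK LD1_c1 LD2_c12 LD3_c31) Lrfl Lrfl
theorem f194044 : Led Lsl_gt (LP (LK LD1_c1 LD2_c12 LD3_c31)) = (LP (LK LD1_c2 LD2_c30 LD3_c55)) :=
  Lgr Lrot49 (Lpe (f53189 IH) (Lpr_gf (K9.f163639 IH) (Lpe (K8.f163648 IH) (Lpe (K9.f164170 IH) (Lpe (K9.f21249 IH) (Lpr_gt (f178993 IH) (Lpr_dt (f186814 IH) (Lpe (f186813 IH) (Lpr_df (f194035 IH) (Lpn (LP (LK LD1_c2 LD2_c30 LD3_c55))))))))))))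
theorem f53188 : Led Lsl_dt (LP (LK LD1_c1 LD2_c12 LD3_c31)) = (LP (LK LD1_c0 LD2_c33 LD3_c35)) :=
  Lre_d IH (LK LD1_c1 LD2_c12 LD3_c31) (LK LD1_c0 LD2_c33 LD3_c35) Lrfl Lrfl
theorem f165407 : Led Lsl_dt (LP (LK LD1_c1 LD2_c11 LD3_c51)) = (LP (LK LD1_c2 LD2_c29 LD3_c33)) :=
  Lre_d IH (LK LD1_c1 LD2_c11 LD3_c51) (LK LD1_c2 LD2_c29 LD3_c33) Lrfl Lrfl
theorem f169768 : Led Lsl_ct (LP (LK LD1_c2 LD2_c29 LD3_c33)) = (LP (LK LD1_c1 LD2_c12 LD3_c22)) :=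
  Lgr Lrot7 (Lpe (f165407 IH) (Lpr_gf (K9.f165405 IH) (Lpe (K9.f163652 IH) (Lpe (K9.f165420 IH) (Lpe (K9.f169580 IH) (Lpr_gt (K9.f169748 IH) (Lpr_dt (K2.f71507 IH) (Lpe (K9.f166367 IH) (Lpr_dt (f166372 IH) (Lpn (LP (LK LD1_c1 LD2_c12 LD3_c22))))))))))))
theorem f165707 : Led Lsl_cf (LP (LK LD1_c5 LD2_c4 LD3_c7)) = (LP (LK LD1_c2 LD2_c30 LD3_c55)) :=
  Lgr Lrot11 (Lpr_ct (f165695 IH) (Lpn (LP (LK LD1_c2 LD2_c30 LD3_c55))))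
theorem f194053 : Led Lsl_gf (LP (LK LD1_c2 LD2_c29 LD3_c33)) = (LP (LK LD1_c5 LD2_c4 LD3_c7)) :=
  Lgr Lrot104 (Lpr_ct (f169768 IH) (Lpe (f166372 IH) (Lpe (K9.f3773 IH) (Lpe (K9.f3769 IH) (Lpe (K7.f3273 IH) (Lpe (K9.f3298 IH) (Lpe (f53188 IH) (Lpr_gt (f194044 IH) (Lpe (f165707 IH) (Lpn (LP (LK LD1_c5 LD2_c4 LD3_c7))))))))))))
theorem f163666 : Led Lsl_dt (LP (LK LD1_c2 LD2_c29 LD3_c33)) = (LP (LK LD1_c1 LD2_c11 LD3_c51)) :=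
  Lre_d IH (LK LD1_c2 LD2_c29 LD3_c33) (LK LD1_c1 LD2_c11 LD3_c51) Lrfl Lrfl
theorem f68549 : Led Lsl_dt (LP (LK LD1_c1 LD2_c12 LD3_c28)) = (LP (LK LD1_c0 LD2_c33 LD3_c34)) :=
  Lre_d IH (LK LD1_c1 LD2_c12 LD3_c28) (LK LD1_c0 LD2_c33 LD3_c34) Lrfl Lrfl
theorem f194079 : Led Lsl_gf (LP (LK LD1_c0 LD2_c34 LD3_c20)) = (LP (LK LD1_c0 LD2_c33 LD3_c34)) :=
  Lgr Lrot143 (Lpr_dt (K8.f163641 IH) (Lpe (K9.f163646 IH) (Lpe (K0.f21383 IH) (Lpe (K9.f21389 IH) (Lpe (f163666 IH) (Lpr_gf (f194053 IH) (Lpr_cf (f165707 IH) (Lpr_gt (f165671 IH) (Lpr_dt (f68549 IH) (Lpn (LP (LK LD1_c0 LD2_c33 LD3_c34))))))))))))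
theorem f163712 : Led Lsl_bt (LP (LK LD1_c0 LD2_c15 LD3_c24)) = (LP (LK LD1_c0 LD2_c33 LD3_c46)) :=
  Lre_b IH (LK LD1_c0 LD2_c15 LD3_c24) (LK LD1_c0 LD2_c33 LD3_c46) Lrfl Lrfl
theorem f163631 : Led Lsl_at (LP (LK LD1_c0 LD2_c6 LD3_c53)) = (LP (LK LD1_c0 LD2_c6 LD3_c60)) :=
  Lgr Lrot107 (Lpe (K7.f3273 IH) (Lpr_af (K8.f163626 IH) (Lpe (K8.f20526 IH) (Lpn (LP (LK LD1_c0 LD2_c6 LD3_c60))))))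
theorem f20523 : Led Lsl_bt (LP (LK LD1_c0 LD2_c6 LD3_c60)) = (LP (LK LD1_c0 LD2_c15 LD3_c8)) :=
  Lre_b IH (LK LD1_c0 LD2_c6 LD3_c60) (LK LD1_c0 LD2_c15 LD3_c8) Lrfl Lrfl
theorem f20458 : Led Lsl_bt (LP (LK LD1_c0 LD2_c15 LD3_c8)) = (LP (LK LD1_c0 LD2_c6 LD3_c60)) :=
  Lre_b IH (LK LD1_c0 LD2_c15 LD3_c8) (LK LD1_c0 LD2_c6 LD3_c60) Lrfl Lrfl
theorem f164166 : Led Lsl_at (LP (LK LD1_c0 LD2_c15 LD3_c8)) = (LP (LK LD1_c0 LD2_c15 LD3_c8)) :=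
  Lgr Lrot67 (Lpe (f20523 IH) (Lpe (f163631 IH) (Lpe (K9.f3121 IH) (Lpr_af (K9.f164117 IH) (Lpe (f20458 IH) (Lpn (LP (LK LD1_c0 LD2_c15 LD3_c8))))))))
theorem f164347 : Led Lsl_ft (LP (LK LD1_c0 LD2_c33 LD3_c46)) = (LP (LK LD1_c0 LD2_c15 LD3_c8)) :=
  Lre_f IH (LK LD1_c0 LD2_c33 LD3_c46) (LK LD1_c0 LD2_c15 LD3_c8) Lrfl Lrfl
theorem f34678 : Led Lsl_gt (LP (LK LD1_c0 LD2_c33 LD3_c44)) = (LP (LK LD1_c0 LD2_c15 LD3_c8)) :=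
  Lre_g IH (LK LD1_c0 LD2_c33 LD3_c44) (LK LD1_c0 LD2_c15 LD3_c8) Lrfl Lrfl
theorem f165230 : Led Lsl_gt (LP (LK LD1_c0 LD2_c33 LD3_c46)) = (LP (LK LD1_c0 LD2_c33 LD3_c44)) :=
  Lgr Lrot5 (Lpr_ft (f164347 IH) (Lpr_at (f164166 IH) (Lpe (f34678 IH) (Lpn (LP (LK LD1_c0 LD2_c33 LD3_c44))))))
theorem f28352 : Led Lsl_gt (LP (LK LD1_c0 LD2_c14 LD3_c25)) = (LP (LK LD1_c0 LD2_c32 LD3_c12)) :=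
  Lre_g IH (LK LD1_c0 LD2_c14 LD3_c25) (LK LD1_c0 LD2_c32 LD3_c12) Lrfl Lrfl
theorem f31675 : Led Lsl_gt (LP (LK LD1_c0 LD2_c32 LD3_c12)) = (LP (LK LD1_c0 LD2_c32 LD3_c8)) :=
  Lgr Lrot46 (Lpe (f28352 IH) (Lpr_ft (K1.f31671 IH) (Lpr_at (K9.f31665 IH) (Lpn (LP (LK LD1_c0 LD2_c32 LD3_c8))))))
theorem f194083 : Led Lsl_ct (LP (LK LD1_c0 LD2_c32 LD3_c12)) = (LP (LK LD1_c0 LD2_c33 LD3_c34)) :=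
  Lgr Lrot8 (Lpr_gt (f31675 IH) (Lpr_dt (K9.f31555 IH) (Lpe (K9.f31615 IH) (Lpr_dt (K9.f28353 IH) (Lpe (K9.f28370 IH) (Lpr_df (K9.f177199 IH) (Lpr_gf (K9.f164109 IH) (Lpe (K8.f163641 IH) (Lpr_gf (f194079 IH) (Lpn (LP (LK LD1_c0 LD2_c33 LD3_c34))))))))))))
theorem f31547 : Led Lsl_ft (LP (LK LD1_c1 LD2_c9 LD3_c35)) = (LP (LK LD1_c0 LD2_c32 LD3_c2)) :=
  Lre_f IH (LK LD1_c1 LD2_c9 LD3_c35) (LK LD1_c0 LD2_c32 LD3_c2) Lrfl Lrfl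
theorem f28647 : Led Lsl_dt (LP (LK LD1_c0 LD2_c24 LD3_c57)) = (LP (LK LD1_c0 LD2_c55 LD3_c5)) :=
  Lre_d IH (LK LD1_c0 LD2_c24 LD3_c57) (LK LD1_c0 LD2_c55 LD3_c5) Lrfl Lrfl
theorem f28165 : Led Lsl_et (LP (LK LD1_c0 LD2_c25 LD3_c35)) = (LP (LK LD1_c0 LD2_c11 LD3_c23)) :=
  Lre_e IH (LK LD1_c0 LD2_c25 LD3_c35) (LK LD1_c0 LD2_c11 LD3_c23) Lrfl Lrfl
theorem f28166 : Led Lsl_dt (LP (LK LD1_c0 LD2_c25 LD3_c35)) = (LP (LK LD1_c0 LD2_c56 LD3_c26)) :=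
  Lre_d IH (LK LD1_c0 LD2_c25 LD3_c35) (LK LD1_c0 LD2_c56 LD3_c26) Lrfl Lrfl
theorem f28782 : Led Lsl_gf (LP (LK LD1_c0 LD2_c55 LD3_c5)) = (LP (LK LD1_c0 LD2_c56 LD3_c26)) :=
  Lgr Lrot145 (Lpe (f28647 IH) (Lpr_et (K0.f28578 IH) (Lpr_gt (K0.f28775 IH) (Lpr_dt (K0.f27809 IH) (Lpr_gt (K0.f449 IH) (Lpe (K0.f6952 IH) (Lpr_et (K1.f27929 IH) (Lpr_gt (K9.f28781 IH) (Lpe (f28165 IH) (Lpr_dt (f28166 IH) (Lpn (LP (LK LD1_c0 LD2_c56 LD3_c26)))))))))))))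
theorem f31578 : Led Lsl_gt (LP (LK LD1_c1 LD2_c9 LD3_c35)) = (LP (LK LD1_c0 LD2_c56 LD3_c26)) :=
  Lgr Lrot5 (Lpr_ft (f31547 IH) (Lpr_at (K8.f31567 IH) (Lpr_gf (f28782 IH) (Lpn (LP (LK LD1_c0 LD2_c56 LD3_c26))))))
theorem f28790 : Led Lsl_ct (LP (LK LD1_c0 LD2_c56 LD3_c26)) = (LP (LK LD1_c1 LD2_c59 LD3_c17)) :=
  Lre_c IH (LK LD1_c0 LD2_c56 LD3_c26) (LK LD1_c1 LD2_c59 LD3_c17) Lrfl Lrfl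
theorem f192349 : Led Lsl_gf (LP (LK LD1_c1 LD2_c0 LD3_c52)) = (LP (LK LD1_c1 LD2_c59 LD3_c17)) :=
  Lgr Lrot104 (Lpr_ct (K0.f31755 IH) (Lpe (K0.f28464 IH) (Lpe (K0.f31706 IH) (Lpe (K9.f182034 IH) (Lpr_cf (K9.f182015 IH) (Lpr_gf (f192345 IH) (Lpe (K1.f31544 IH) (Lpr_gt (f31578 IH) (Lpr_ct (f28790 IH) (Lpn (LP (LK LD1_c1 LD2_c59 LD3_c17))))))))))))
theorem f194089 : Led Lsl_bf (LP (LK LD1_c0 LD2_c33 LD3_c44)) = (LP (LK LD1_c0 LD2_c56 LD3_c26)) :=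
  Lgr Lrot34 (Lpe (f165230 IH) (Lpe (f163712 IH) (Lpr_ct (K8.f163648 IH) (Lpr_gf (f194079 IH) (Lpe (f194083 IH) (Lpe (f28352 IH) (Lpr_bf (K8.f32008 IH) (Lpr_ct (K0.f31721 IH) (Lpr_gf (f192349 IH) (Lpe (f28790 IH) (Lpn (LP (LK LD1_c0 LD2_c56 LD3_c26)))))))))))))
theorem f194091 : Led Lsl_bt (LP (LK LD1_c0 LD2_c33 LD3_c44)) = (LP (LK LD1_c0 LD2_c56 LD3_c26)) :=
  Lgr Lrot127 (Lpr_bf (f194089 IH) (Lpn (LP (LK LD1_c0 LD2_c56 LD3_c26))))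
theorem f165232 : Led Lsl_ct (LP (LK LD1_c0 LD2_c33 LD3_c44)) = (LP (LK LD1_c1 LD2_c12 LD3_c47)) :=
  Lre_c IH (LK LD1_c0 LD2_c33 LD3_c44) (LK LD1_c1 LD2_c12 LD3_c47) Lrfl Lrfl
theorem f69798 : Led Lsl_ct (LP (LK LD1_c0 LD2_c15 LD3_c8)) = (LP (LK LD1_c0 LD2_c33 LD3_c45)) :=
  Lre_c IH (LK LD1_c0 LD2_c15 LD3_c8) (LK LD1_c0 LD2_c33 LD3_c45) Lrfl Lrfl
theorem f194100 : Led Lsl_gt (LP (LK LD1_c1 LD2_c12 LD3_c47)) = (LP (LK LD1_c0 LD2_c33 LD3_c45)) :=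
  Lgr Lrot65 (Lpe (f165232 IH) (Lpr_bt (f194091 IH) (Lpe (f31578 IH) (Lpe (K1.f31583 IH) (Lpe (K2.f71479 IH) (Lpr_gf (f185747 IH) (Lpe (f165464 IH) (Lpe (f20534 IH) (Lpe (f20458 IH) (Lpr_ct (f69798 IH) (Lpn (LP (LK LD1_c0 LD2_c33 LD3_c45)))))))))))))
theorem f194102 : Led Lsl_bt (LP (LK LD1_c0 LD2_c32 LD3_c12)) = (LP (LK LD1_c0 LD2_c15 LD3_c21)) :=
  Lgr Lrot92 (Lpr_ct (f194083 IH) (Lpe (f194079 IH) (Lpe (K8.f163648 IH) (Lpr_bt (f163712 IH) (Lpr_gt (f165230 IH) (Lpr_ct (f165232 IH) (Lpr_gt (f194100 IH) (Lpe (f69798 IH) (Lpr_bt (f20458 IH) (Lpr_gt (f20534 IH) (Lpn (LP (LK LD1_c0 LD2_c15 LD3_c21)))))))))))))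
theorem f194106 : Led Lsl_bf (LP (LK LD1_c0 LD2_c15 LD3_c3)) = (LP (LK LD1_c0 LD2_c27 LD3_c30)) :=
  Lgr Lrot165 (Lpr_gt (K9.f3770 IH) (Lpr_ct (K8.f3274 IH) (Lpr_gt (f3290 IH) (Lpe (f194083 IH) (Lpr_bt (f194102 IH) (Lpe (f163716 IH) (Lpr_bf (K9.f3154 IH) (Lpr_ct (K8.f3157 IH) (Lpr_gt (f186664 IH) (Lpe (f186688 IH) (Lpn (LP (LK LD1_c0 LD2_c27 LD3_c30)))))))))))))
theorem f28403 : Led Lsl_gt (LP (LK LD1_c0 LD2_c57 LD3_c27)) = (LP (LK LD1_c0 LD2_c26 LD3_c4)) :=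
  Lre_g IH (LK LD1_c0 LD2_c57 LD3_c27) (LK LD1_c0 LD2_c26 LD3_c4) Lrfl Lrfl
theorem f193787 : Led Lsl_ef (LP (LK LD1_c0 LD2_c57 LD3_c27)) = (LP (LK LD1_c0 LD2_c27 LD3_c30)) :=
  Lgr Lrot167 (Lpr_gt (f28403 IH) (Lpr_dt (f28384 IH) (Lpr_gt (f181229 IH) (Lpe (K9.f55581 IH) (Lpr_et (K9.f60418 IH) (Lpr_gt (f193783 IH) (Lpe (f193781 IH) (Lpr_dt (f169333 IH) (Lpr_gt (f6815 IH) (Lpe (K9.f31450 IH) (Lpn (LP (LK LD1_c0 LD2_c27 LD3_c30)))))))))))))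
theorem f193793 : Led Lsl_et (LP (LK LD1_c0 LD2_c57 LD3_c27)) = (LP (LK LD1_c0 LD2_c27 LD3_c30)) :=
  Lgr Lrot87 (Lpr_ef (f193787 IH) (Lpn (LP (LK LD1_c0 LD2_c27 LD3_c30))))
theorem f194114 : Led Lsl_bt (LP (LK LD1_c0 LD2_c33 LD3_c33)) = (LP (LK LD1_c0 LD2_c57 LD3_c27)) :=
  Lgr Lrot119 (Lpe (K9.f21251 IH) (Lpr_bf (f194106 IH) (Lpe (f193793 IH) (Lpn (LP (LK LD1_c0 LD2_c57 LD3_c27))))))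
theorem f28354 : Led Lsl_ct (LP (LK LD1_c0 LD2_c26 LD3_c4)) = (LP (LK LD1_c0 LD2_c57 LD3_c28)) :=
  Lre_c IH (LK LD1_c0 LD2_c26 LD3_c4) (LK LD1_c0 LD2_c57 LD3_c28) Lrfl Lrfl
theorem f81105 : Led Lsl_dt (LP (LK LD1_c0 LD2_c55 LD3_c51)) = (LP (LK LD1_c0 LD2_c25 LD3_c20)) :=
  Lre_d IH (LK LD1_c0 LD2_c55 LD3_c51) (LK LD1_c0 LD2_c25 LD3_c20) Lrfl Lrfl
theorem f193644 : Led Lsl_bf (LP (LK LD1_c0 LD2_c55 LD3_c51)) = (LP (LK LD1_c0 LD2_c26 LD3_c4)) :=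
  Lgr Lrot93 (Lpr_dt (f81105 IH) (Lpr_bt (f193636 IH) (Lpr_dt (K8.f8146 IH) (Lpn (LP (LK LD1_c0 LD2_c26 LD3_c4))))))
theorem f182046 : Led Lsl_gt (LP (LK LD1_c0 LD2_c55 LD3_c51)) = (LP (LK LD1_c1 LD2_c57 LD3_c57)) :=
  Lre_g IH (LK LD1_c0 LD2_c55 LD3_c51) (LK LD1_c1 LD2_c57 LD3_c57) Lrfl Lrfl
theorem f194126 : Led Lsl_ct (LP (LK LD1_c1 LD2_c57 LD3_c57)) = (LP (LK LD1_c4 LD2_c2 LD3_c0)) :=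
  Lre_c IH (LK LD1_c1 LD2_c57 LD3_c57) (LK LD1_c4 LD2_c2 LD3_c0) Lrfl Lrfl
theorem f176600 : Led Lsl_cf (LP (LK LD1_c1 LD2_c5 LD3_c57)) = (LP (LK LD1_c1 LD2_c21 LD3_c22)) :=
  Lgr Lrot14 (Lpe (f26033 IH) (Lpr_gf (f26031 IH) (Lpe (K9.f26030 IH) (Lpe (K9.f26029 IH) (Lpr_ct (K9.f26036 IH) (Lpe (f176553 IH) (Lpr_dt (f26702 IH) (Lpr_gt (f176572 IH) (Lpr_dt (f176590 IH) (Lpn (LP (LK LD1_c1 LD2_c21 LD3_c22))))))))))))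
theorem f186048 : Led Lsl_gt (LP (LK LD1_c1 LD2_c5 LD3_c57)) = (LP (LK LD1_c1 LD2_c27 LD3_c42)) :=
  Lgr Lrot94 (Lpr_cf (f176600 IH) (Lpr_gt (f185962 IH) (Lpr_dt (f176841 IH) (Lpr_gt (f186042 IH) (Lpr_dt (K9.f100684 IH) (Lpe (K9.f100681 IH) (Lpr_df (K9.f100675 IH) (Lpr_gf (K9.f101495 IH) (Lpe (K9.f59128 IH) (Lpn (LP (LK LD1_c1 LD2_c27 LD3_c42))))))))))))
theorem f193795 : Led Lsl_gf (LP (LK LD1_c0 LD2_c57 LD3_c27)) = (LP (LK LD1_c0 LD2_c26 LD3_c6)) :=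
  Lgr Lrot141 (Lpr_ef (f193787 IH) (Lpr_dt (K9.f31450 IH) (Lpe (f185839 IH) (Lpe (K9.f28341 IH) (Lpe (f175299 IH) (Lpe (f26031 IH) (Lpr_dt (f26033 IH) (Lpr_gt (f186048 IH) (Lpe (K9.f59117 IH) (Lpr_et (K9.f59126 IH) (Lpn (LP (LK LD1_c0 LD2_c26 LD3_c6)))))))))))))
theorem f80933 : Led Lsl_ef (LP (LK LD1_c0 LD2_c56 LD3_c37)) = (LP (LK LD1_c1 LD2_c2 LD3_c21)) :=
  Lgr Lrot88 (Lpr_et (K9.f80924 IH) (Lpn (LP (LK LD1_c1 LD2_c2 LD3_c21))))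
theorem f176793 : Led Lsl_bt (LP (LK LD1_c0 LD2_c56 LD3_c37)) = (LP (LK LD1_c0 LD2_c26 LD3_c6)) :=
  Lgr Lrot119 (Lpr_ef (f80933 IH) (Lpr_bf (K9.f176787 IH) (Lpe (K9.f58972 IH) (Lpn (LP (LK LD1_c0 LD2_c26 LD3_c6))))))
theorem f80935 : Led Lsl_ct (LP (LK LD1_c0 LD2_c56 LD3_c37)) = (LP (LK LD1_c1 LD2_c59 LD3_c31)) :=
  Lre_c IH (LK LD1_c0 LD2_c56 LD3_c37) (LK LD1_c1 LD2_c59 LD3_c31) Lrfl Lrfl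
theorem f194127 : Led Lsl_gt (LP (LK LD1_c4 LD2_c2 LD3_c0)) = (LP (LK LD1_c1 LD2_c59 LD3_c31)) :=
  Lgr Lrot149 (Lpe (f194126 IH) (Lpe (f182046 IH) (Lpr_bf (f193644 IH) (Lpr_ct (f28354 IH) (Lpe (K9.f181150 IH) (Lpe (K9.f21268 IH) (Lpr_bt (f194114 IH) (Lpr_gf (f193795 IH) (Lpe (f176793 IH) (Lpr_ct (f80935 IH) (Lpn (LP (LK LD1_c1 LD2_c59 LD3_c31)))))))))))))
theorem f80928 : Led Lsl_ct (LP (LK LD1_c1 LD2_c59 LD3_c31)) = (LP (LK LD1_c0 LD2_c56 LD3_c37)) :=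
  Lre_c IH (LK LD1_c1 LD2_c59 LD3_c31) (LK LD1_c0 LD2_c56 LD3_c37) Lrfl Lrfl
theorem f47065 : Led Lsl_dt (LP (LK LD1_c0 LD2_c25 LD3_c40)) = (LP (LK LD1_c0 LD2_c56 LD3_c37)) :=
  Lre_d IH (LK LD1_c0 LD2_c25 LD3_c40) (LK LD1_c0 LD2_c56 LD3_c37) Lrfl Lrfl
theorem f33353 : Led Lsl_gt (LP (LK LD1_c0 LD2_c55 LD3_c47)) = (LP (LK LD1_c0 LD2_c25 LD3_c19)) :=
  Lre_g IH (LK LD1_c0 LD2_c55 LD3_c47) (LK LD1_c0 LD2_c25 LD3_c19) Lrfl Lrfl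
theorem f34017 : Led Lsl_gf (LP (LK LD1_c0 LD2_c55 LD3_c47)) = (LP (LK LD1_c0 LD2_c33 LD3_c50)) :=
  Lgr Lrot47 (Lpr_gt (f33353 IH) (Lpr_af (K0.f33998 IH) (Lpe (K0.f34016 IH) (Lpn (LP (LK LD1_c0 LD2_c33 LD3_c50))))))
theorem f190756 : Led Lsl_cf (LP (LK LD1_c0 LD2_c25 LD3_c40)) = (LP (LK LD1_c0 LD2_c55 LD3_c47)) :=
  Lgr Lrot169 (Lpr_gt (K9.f47063 IH) (Lpe (K1.f47046 IH) (Lpe (K1.f46575 IH) (Lpe (K1.f46581 IH) (Lpr_gf (f190749 IH) (Lpe (f180783 IH) (Lpe (f180781 IH) (Lpe (K0.f33980 IH) (Lpe (f34017 IH) (Lpn (LP (LK LD1_c0 LD2_c55 LD3_c47))))))))))))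
theorem f194135 : Led Lsl_gt (LP (LK LD1_c0 LD2_c25 LD3_c20)) = (LP (LK LD1_c0 LD2_c25 LD3_c18)) :=
  Lgr Lrot9 (Lpe (f81105 IH) (Lpr_gt (f182046 IH) (Lpr_ct (f194126 IH) (Lpr_gt (f194127 IH) (Lpr_ct (f80928 IH) (Lpe (f47065 IH) (Lpr_cf (f190756 IH) (Lpr_gf (f34017 IH) (Lpe (K0.f34027 IH) (Lpn (LP (LK LD1_c0 LD2_c25 LD3_c18))))))))))))
theorem f192108 : Led Lsl_ct (LP (LK LD1_c0 LD2_c55 LD3_c50)) = (LP (LK LD1_c0 LD2_c25 LD3_c20)) :=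
  Lre_c IH (LK LD1_c0 LD2_c55 LD3_c50) (LK LD1_c0 LD2_c25 LD3_c20) Lrfl Lrfl
theorem f47101 : Led Lsl_af (LP (LK LD1_c0 LD2_c55 LD3_c61)) = (LP (LK LD1_c0 LD2_c56 LD3_c2)) :=
  Lgr Lrot36 (Lpr_bt (K1.f47096 IH) (Lpr_at (K1.f46159 IH) (Lpr_bt (K1.f46129 IH) (Lpr_at (K9.f46451 IH) (Lpe (K1.f45807 IH) (Lpn (LP (LK LD1_c0 LD2_c56 LD3_c2))))))))
theorem f193628 : Led Lsl_gf (LP (LK LD1_c0 LD2_c55 LD3_c50)) = (LP (LK LD1_c0 LD2_c25 LD3_c26)) :=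
  Lgr Lrot47 (Lpr_gt (f193460 IH) (Lpr_af (f47101 IH) (Lpe (K1.f27867 IH) (Lpn (LP (LK LD1_c0 LD2_c25 LD3_c26))))))
theorem f45800 : Led Lsl_bf (LP (LK LD1_c0 LD2_c25 LD3_c26)) = (LP (LK LD1_c0 LD2_c35 LD3_c5)) :=
  Lgr Lrot24 (Lpr_bt (K1.f45798 IH) (Lpn (LP (LK LD1_c0 LD2_c35 LD3_c5))))
theorem f8482 : Led Lsl_gt (LP (LK LD1_c0 LD2_c35 LD3_c7)) = (LP (LK LD1_c0 LD2_c15 LD3_c47)) :=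
  Lre_g IH (LK LD1_c0 LD2_c35 LD3_c7) (LK LD1_c0 LD2_c15 LD3_c47) Lrfl Lrfl
theorem f3791 : Led Lsl_bt (LP (LK LD1_c0 LD2_c33 LD3_c10)) = (LP (LK LD1_c0 LD2_c14 LD3_c55)) :=
  Lre_b IH (LK LD1_c0 LD2_c33 LD3_c10) (LK LD1_c0 LD2_c14 LD3_c55) Lrfl Lrfl
theorem f194139 : Led Lsl_cf (LP (LK LD1_c0 LD2_c35 LD3_c7)) = (LP (LK LD1_c0 LD2_c33 LD3_c10)) :=
  Lgr Lrot160 (Lpr_gt (f8482 IH) (Lpe (f8445 IH) (Lpe (f45800 IH) (Lpe (f193628 IH) (Lpr_ct (f192108 IH) (Lpr_gt (f194135 IH) (Lpe (f34074 IH) (Lpr_bt (f34070 IH) (Lpe (K8.f164123 IH) (Lpe (f3791 IH) (Lpn (LP (LK LD1_c0 LD2_c33 LD3_c10)))))))))))))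
theorem f41525 : Led Lsl_gt (LP (LK LD1_c1 LD2_c15 LD3_c24)) = (LP (LK LD1_c0 LD2_c35 LD3_c7)) :=
  Lre_g IH (LK LD1_c1 LD2_c15 LD3_c24) (LK LD1_c0 LD2_c35 LD3_c7) Lrfl Lrfl
theorem f46453 : Led Lsl_ct (LP (LK LD1_c2 LD2_c10 LD3_c47)) = (LP (LK LD1_c1 LD2_c15 LD3_c24)) :=
  Lgr Lrot59 (Lpr_cf (K9.f46445 IH) (Lpn (LP (LK LD1_c1 LD2_c15 LD3_c24))))
theorem f43928 : Led Lsl_gt (LP (LK LD1_c0 LD2_c35 LD3_c5)) = (LP (LK LD1_c1 LD2_c15 LD3_c38)) :=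
  Lre_g IH (LK LD1_c0 LD2_c35 LD3_c5) (LK LD1_c1 LD2_c15 LD3_c38) Lrfl Lrfl
theorem f190346 : Led Lsl_bf (LP (LK LD1_c1 LD2_c15 LD3_c38)) = (LP (LK LD1_c1 LD2_c11 LD3_c21)) :=
  Lgr Lrot34 (Lpe (f43928 IH) (Lpe (K1.f45798 IH) (Lpe (K1.f27832 IH) (Lpe (f27851 IH) (Lpr_cf (f190272 IH) (Lpr_gf (f190337 IH) (Lpr_bf (K0.f33592 IH) (Lpr_ct (K9.f3305 IH) (Lpe (K0.f3686 IH) (Lpe (f3741 IH) (Lpn (LP (LK LD1_c1 LD2_c11 LD3_c21)))))))))))))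
theorem f194156 : Led Lsl_gf (LP (LK LD1_c2 LD2_c10 LD3_c47)) = (LP (LK LD1_c1 LD2_c15 LD3_c38)) :=
  Lgr Lrot181 (Lpr_ct (f46453 IH) (Lpr_gt (f41525 IH) (Lpr_cf (f194139 IH) (Lpr_bt (f3791 IH) (Lpr_gt (K8.f3141 IH) (Lpe (K9.f3116 IH) (Lpr_ct (K9.f3117 IH) (Lpr_gt (K9.f3776 IH) (Lpe (f3741 IH) (Lpe (f190346 IH) (Lpn (LP (LK LD1_c1 LD2_c15 LD3_c38)))))))))))))
theorem f183823 : Led Lsl_bt (LP (LK LD1_c1 LD2_c25 LD3_c0)) = (LP (LK LD1_c0 LD2_c39 LD3_c10)) :=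
  Lre_b IH (LK LD1_c1 LD2_c25 LD3_c0) (LK LD1_c0 LD2_c39 LD3_c10) Lrfl Lrfl
theorem f183824 : Led Lsl_ct (LP (LK LD1_c1 LD2_c25 LD3_c0)) = (LP (LK LD1_c0 LD2_c56 LD3_c7)) :=
  Lgr Lrot63 (Lpr_bt (f183823 IH) (Lpr_gt (K9.f42119 IH) (Lpe (K9.f177460 IH) (Lpr_ct (K9.f9073 IH) (Lpr_gt (K9.f20625 IH) (Lpe (K9.f9091 IH) (Lpr_bt (K9.f9093 IH) (Lpr_gt (K9.f183819 IH) (Lpe (f51031 IH) (Lpr_gt (f28064 IH) (Lpn (LP (LK LD1_c0 LD2_c56 LD3_c7)))))))))))))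
theorem f44919 : Led Lsl_gt (LP (LK LD1_c0 LD2_c56 LD3_c7)) = (LP (LK LD1_c0 LD2_c25 LD3_c28)) :=
  Lre_g IH (LK LD1_c0 LD2_c56 LD3_c7) (LK LD1_c0 LD2_c25 LD3_c28) Lrfl Lrfl
theorem f51027 : Led Lsl_dt (LP (LK LD1_c1 LD2_c58 LD3_c36)) = (LP (LK LD1_c4 LD2_c3 LD3_c16)) :=
  Lre_d IH (LK LD1_c1 LD2_c58 LD3_c36) (LK LD1_c4 LD2_c3 LD3_c16) Lrfl Lrfl
theorem f50299 : Led Lsl_ct (LP (LK LD1_c0 LD2_c56 LD3_c8)) = (LP (LK LD1_c1 LD2_c58 LD3_c36)) :=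
  Lre_c IH (LK LD1_c0 LD2_c56 LD3_c8) (LK LD1_c1 LD2_c58 LD3_c36) Lrfl Lrfl
theorem f27618 : Led Lsl_ft (LP (LK LD1_c1 LD2_c8 LD3_c41)) = (LP (LK LD1_c2 LD2_c23 LD3_c10)) :=
  Lre_f IH (LK LD1_c1 LD2_c8 LD3_c41) (LK LD1_c2 LD2_c23 LD3_c10) Lrfl Lrfl
theorem f27585 : Led Lsl_dt (LP (LK LD1_c1 LD2_c8 LD3_c41)) = (LP (LK LD1_c0 LD2_c31 LD3_c25)) :=
  Lre_d IH (LK LD1_c1 LD2_c8 LD3_c41) (LK LD1_c0 LD2_c31 LD3_c25) Lrfl Lrfl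
theorem f51035 : Led Lsl_cf (LP (LK LD1_c0 LD2_c25 LD3_c28)) = (LP (LK LD1_c0 LD2_c31 LD3_c25)) :=
  Lgr Lrot118 (Lpr_dt (K9.f28817 IH) (Lpr_ct (f50299 IH) (Lpr_dt (f51027 IH) (Lpr_ct (f50982 IH) (Lpr_dt (f51015 IH) (Lpr_ct (f27620 IH) (Lpe (K0.f27594 IH) (Lpe (f27618 IH) (Lpr_dt (f27585 IH) (Lpn (LP (LK LD1_c0 LD2_c31 LD3_c25))))))))))))
theorem f27710 : Led Lsl_gt (LP (LK LD1_c1 LD2_c8 LD3_c39)) = (LP (LK LD1_c2 LD2_c23 LD3_c2)) :=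
  Lre_g IH (LK LD1_c1 LD2_c8 LD3_c39) (LK LD1_c2 LD2_c23 LD3_c2) Lrfl Lrfl
theorem f187858 : Led Lsl_bt (LP (LK LD1_c2 LD2_c28 LD3_c12)) = (LP (LK LD1_c2 LD2_c23 LD3_c2)) :=
  Lgr Lrot92 (Lpr_ct (f165862 IH) (Lpr_gt (K9.f184117 IH) (Lpe (K9.f49604 IH) (Lpe (f50623 IH) (Lpr_gt (f187847 IH) (Lpr_ct (f183824 IH) (Lpr_gt (f44919 IH) (Lpr_cf (f51035 IH) (Lpr_bt (K9.f43276 IH) (Lpr_gt (f27710 IH) (Lpn (LP (LK LD1_c2 LD2_c23 LD3_c2)))))))))))))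
theorem f187863 : Led Lsl_bf (LP (LK LD1_c2 LD2_c28 LD3_c12)) = (LP (LK LD1_c2 LD2_c23 LD3_c2)) :=
  Lgr Lrot24 (Lpr_bt (f187858 IH) (Lpn (LP (LK LD1_c2 LD2_c23 LD3_c2))))
theorem f190352 : Led Lsl_ct (LP (LK LD1_c1 LD2_c15 LD3_c38)) = (LP (LK LD1_c2 LD2_c23 LD3_c2)) :=
  Lgr Lrot83 (Lpr_bf (f190346 IH) (Lpe (K9.f3778 IH) (Lpe (K9.f3746 IH) (Lpe (f165862 IH) (Lpr_bf (f187863 IH) (Lpn (LP (LK LD1_c2 LD2_c23 LD3_c2))))))))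
theorem f190430 : Led Lsl_cf (LP (LK LD1_c1 LD2_c15 LD3_c38)) = (LP (LK LD1_c2 LD2_c23 LD3_c2)) :=
  Lgr Lrot11 (Lpr_ct (f190352 IH) (Lpn (LP (LK LD1_c2 LD2_c23 LD3_c2))))
theorem f194162 : Led Lsl_bt (LP (LK LD1_c1 LD2_c15 LD3_c24)) = (LP (LK LD1_c1 LD2_c24 LD3_c57)) :=
  Lgr Lrot130 (Lpe (K9.f46445 IH) (Lpr_gf (f194156 IH) (Lpr_cf (f190430 IH) (Lpe (f187863 IH) (Lpe (K9.f165855 IH) (Lpr_bf (f45243 IH) (Lpr_ct (K9.f54068 IH) (Lpr_gf (f187839 IH) (Lpe (f183864 IH) (Lpe (K9.f41811 IH) (Lpn (LP (LK LD1_c1 LD2_c24 LD3_c57)))))))))))))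
theorem f190897 : Led Lsl_gt (LP (LK LD1_c1 LD2_c12 LD3_c48)) = (LP (LK LD1_c2 LD2_c4 LD3_c11)) :=
  Lgr Lrot46 (Lpr_gf (f190893 IH) (Lpr_ft (K9.f49434 IH) (Lpe (K9.f49435 IH) (Lpn (LP (LK LD1_c2 LD2_c4 LD3_c11))))))
theorem f44632 : Led Lsl_ct (LP (LK LD1_c0 LD2_c15 LD3_c47)) = (LP (LK LD1_c0 LD2_c35 LD3_c5)) :=
  Lre_c IH (LK LD1_c0 LD2_c15 LD3_c47) (LK LD1_c0 LD2_c35 LD3_c5) Lrfl Lrfl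
theorem f190883 : Led Lsl_gf (LP (LK LD1_c0 LD2_c25 LD3_c49)) = (LP (LK LD1_c0 LD2_c11 LD3_c56)) :=
  Lgr Lrot47 (Lpr_gt (f190880 IH) (Lpe (f46951 IH) (Lpe (K1.f27842 IH) (Lpn (LP (LK LD1_c0 LD2_c11 LD3_c56))))))
theorem f190919 : Led Lsl_gf (LP (LK LD1_c0 LD2_c35 LD3_c5)) = (LP (LK LD1_c1 LD2_c14 LD3_c19)) :=
  Lgr Lrot124 (Lpe (K1.f45798 IH) (Lpe (K1.f27832 IH) (Lpe (f190883 IH) (Lpr_cf (f190888 IH) (Lpr_bt (f190892 IH) (Lpr_gt (f190897 IH) (Lpr_ct (f189588 IH) (Lpe (f189605 IH) (Lpe (f32908 IH) (Lpr_bt (f49889 IH) (Lpn (LP (LK LD1_c1 LD2_c14 LD3_c19)))))))))))))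
theorem f191024 : Led Lsl_ct (LP (LK LD1_c2 LD2_c23 LD3_c3)) = (LP (LK LD1_c1 LD2_c14 LD3_c19)) :=
  Lgr Lrot91 (Lpr_gf (f191018 IH) (Lpe (f190981 IH) (Lpe (f189592 IH) (Lpe (f190897 IH) (Lpr_cf (f190950 IH) (Lpr_bt (f183194 IH) (Lpe (K9.f8470 IH) (Lpe (f8444 IH) (Lpr_ct (f44632 IH) (Lpr_gf (f190919 IH) (Lpn (LP (LK LD1_c1 LD2_c14 LD3_c19)))))))))))))
theorem f45238 : Led Lsl_ct (LP (LK LD1_c1 LD2_c14 LD3_c20)) = (LP (LK LD1_c0 LD2_c34 LD3_c28)) :=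
  Lre_c IH (LK LD1_c1 LD2_c14 LD3_c20) (LK LD1_c0 LD2_c34 LD3_c28) Lrfl Lrfl
theorem f190970 : Led Lsl_cf (LP (LK LD1_c2 LD2_c34 LD3_c37)) = (LP (LK LD1_c2 LD2_c0 LD3_c26)) :=
  Lgr Lrot11 (Lpr_ct (f190968 IH) (Lpn (LP (LK LD1_c2 LD2_c0 LD3_c26))))
theorem f191029 : Led Lsl_bt (LP (LK LD1_c2 LD2_c23 LD3_c3)) = (LP (LK LD1_c2 LD2_c0 LD3_c26)) :=
  Lgr Lrot128 (Lpr_cf (f191026 IH) (Lpe (f49889 IH) (Lpe (f45238 IH) (Lpe (f49888 IH) (Lpr_cf (f190970 IH) (Lpn (LP (LK LD1_c2 LD2_c0 LD3_c26))))))))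
theorem f177461 : Led Lsl_bt (LP (LK LD1_c1 LD2_c24 LD3_c58)) = (LP (LK LD1_c0 LD2_c39 LD3_c9)) :=
  Lre_b IH (LK LD1_c1 LD2_c24 LD3_c58) (LK LD1_c0 LD2_c39 LD3_c9) Lrfl Lrfl
theorem f194172 : Led Lsl_cf (LP (LK LD1_c1 LD2_c24 LD3_c54)) = (LP (LK LD1_c1 LD2_c24 LD3_c58)) :=
  Lgr Lrot163 (Lpe (K1.f41756 IH) (Lpr_cf (f183850 IH) (Lpe (f54527 IH) (Lpe (f191029 IH) (Lpr_ct (f191024 IH) (Lpr_gf (f187887 IH) (Lpr_cf (K9.f46445 IH) (Lpr_bt (f194162 IH) (Lpe (K9.f41808 IH) (Lpe (f177461 IH) (Lpn (LP (LK LD1_c1 LD2_c24 LD3_c58)))))))))))))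
theorem f31554 : Led Lsl_ft (LP (LK LD1_c0 LD2_c32 LD3_c3)) = (LP (LK LD1_c0 LD2_c14 LD3_c18)) :=
  Lre_f IH (LK LD1_c0 LD2_c32 LD3_c3) (LK LD1_c0 LD2_c14 LD3_c18) Lrfl Lrfl
theorem f192347 : Led Lsl_gt (LP (LK LD1_c0 LD2_c33 LD3_c40)) = (LP (LK LD1_c0 LD2_c24 LD3_c57)) :=
  Lgr Lrot46 (Lpr_gf (f192345 IH) (Lpr_ft (f31554 IH) (Lpr_at (K0.f31529 IH) (Lpn (LP (LK LD1_c0 LD2_c24 LD3_c57))))))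
theorem f194180 : Led Lsl_gt (LP (LK LD1_c1 LD2_c1 LD3_c4)) = (LP (LK LD1_c1 LD2_c24 LD3_c58)) :=
  Lgr Lrot82 (Lpe (f28705 IH) (Lpr_ct (K0.f28579 IH) (Lpe (f192347 IH) (Lpe (f182025 IH) (Lpr_bt (K9.f177383 IH) (Lpe (K9.f177379 IH) (Lpe (K9.f47917 IH) (Lpr_ct (f187782 IH) (Lpe (K1.f41824 IH) (Lpr_cf (f194172 IH) (Lpn (LP (LK LD1_c1 LD2_c24 LD3_c58)))))))))))))
theorem f47884 : Led Lsl_dt (LP (LK LD1_c2 LD2_c0 LD3_c40)) = (LP (LK LD1_c0 LD2_c57 LD3_c17)) :=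
  Lre_d IH (LK LD1_c2 LD2_c0 LD3_c40) (LK LD1_c0 LD2_c57 LD3_c17) Lrfl Lrfl
theorem f169132 : Led Lsl_ct (LP (LK LD1_c4 LD2_c6 LD3_c42)) = (LP (LK LD1_c2 LD2_c0 LD3_c40)) :=
  Lre_c IH (LK LD1_c4 LD2_c6 LD3_c42) (LK LD1_c2 LD2_c0 LD3_c40) Lrfl Lrfl
theorem f194189 : Led Lsl_gt (LP (LK LD1_c2 LD2_c7 LD3_c56)) = (LP (LK LD1_c2 LD2_c58 LD3_c39)) :=
  Lgr Lrot9 (Lpe (K9.f28663 IH) (Lpr_gt (f194180 IH) (Lpe (f194172 IH) (Lpr_gt (K1.f41824 IH) (Lpe (K9.f55926 IH) (Lpe (f47884 IH) (Lpe (f169132 IH) (Lpr_gf (f177476 IH) (Lpe (f177475 IH) (Lpn (LP (LK LD1_c2 LD2_c58 LD3_c39))))))))))))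
theorem f31179 : Led Lsl_bt (LP (LK LD1_c1 LD2_c1 LD3_c6)) = (LP (LK LD1_c2 LD2_c7 LD3_c56)) :=
  Lre_b IH (LK LD1_c1 LD2_c1 LD3_c6) (LK LD1_c2 LD2_c7 LD3_c56) Lrfl Lrfl
theorem f28707 : Led Lsl_ct (LP (LK LD1_c1 LD2_c1 LD3_c6)) = (LP (LK LD1_c2 LD2_c7 LD3_c60)) :=
  Lre_c IH (LK LD1_c1 LD2_c1 LD3_c6) (LK LD1_c2 LD2_c7 LD3_c60) Lrfl Lrfl
theorem f182152 : Led Lsl_bt (LP (LK LD1_c1 LD2_c25 LD3_c4)) = (LP (LK LD1_c2 LD2_c58 LD3_c39)) :=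
  Lre_b IH (LK LD1_c1 LD2_c25 LD3_c4) (LK LD1_c2 LD2_c58 LD3_c39) Lrfl Lrfl
theorem f182107 : Led Lsl_cf (LP (LK LD1_c6 LD2_c4 LD3_c58)) = (LP (LK LD1_c4 LD2_c20 LD3_c22)) :=
  Lgr Lrot11 (Lpr_ct (f182099 IH) (Lpn (LP (LK LD1_c4 LD2_c20 LD3_c22))))
theorem f32037 : Led Lsl_bt (LP (LK LD1_c4 LD2_c20 LD3_c22)) = (LP (LK LD1_c2 LD2_c7 LD3_c42)) :=
  Lre_b IH (LK LD1_c4 LD2_c20 LD3_c22) (LK LD1_c2 LD2_c7 LD3_c42) Lrfl Lrfl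
theorem f31553 : Led Lsl_dt (LP (LK LD1_c0 LD2_c32 LD3_c3)) = (LP (LK LD1_c1 LD2_c9 LD3_c35)) :=
  Lre_d IH (LK LD1_c0 LD2_c32 LD3_c3) (LK LD1_c1 LD2_c9 LD3_c35) Lrfl Lrfl
theorem f28791 : Led Lsl_dt (LP (LK LD1_c0 LD2_c56 LD3_c26)) = (LP (LK LD1_c0 LD2_c25 LD3_c35)) :=
  Lre_d IH (LK LD1_c0 LD2_c56 LD3_c26) (LK LD1_c0 LD2_c25 LD3_c35) Lrfl Lrfl
theorem f28994 : Led Lsl_ct (LP (LK LD1_c0 LD2_c25 LD3_c35)) = (LP (LK LD1_c0 LD2_c56 LD3_c21)) :=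
  Lre_c IH (LK LD1_c0 LD2_c25 LD3_c35) (LK LD1_c0 LD2_c56 LD3_c21) Lrfl Lrfl
theorem f28997 : Led Lsl_dt (LP (LK LD1_c1 LD2_c59 LD3_c11)) = (LP (LK LD1_c0 LD2_c56 LD3_c21)) :=
  Lre_d IH (LK LD1_c1 LD2_c59 LD3_c11) (LK LD1_c0 LD2_c56 LD3_c21) Lrfl Lrfl
theorem f28492 : Led Lsl_ft (LP (LK LD1_c0 LD2_c27 LD3_c42)) = (LP (LK LD1_c1 LD2_c0 LD3_c48)) :=
  Lre_f IH (LK LD1_c0 LD2_c27 LD3_c42) (LK LD1_c1 LD2_c0 LD3_c48) Lrfl Lrfl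
theorem f32029 : Led Lsl_gf (LP (LK LD1_c1 LD2_c0 LD3_c57)) = (LP (LK LD1_c1 LD2_c0 LD3_c46)) :=
  Lgr Lrot76 (Lpr_af (f32024 IH) (Lpe (f28492 IH) (Lpr_gt (f32028 IH) (Lpn (LP (LK LD1_c1 LD2_c0 LD3_c46))))))
theorem f189867 : Led Lsl_gf (LP (LK LD1_c1 LD2_c59 LD3_c11)) = (LP (LK LD1_c2 LD2_c7 LD3_c42)) :=
  Lgr Lrot143 (Lpr_dt (f28997 IH) (Lpe (f28994 IH) (Lpe (f28791 IH) (Lpe (f31578 IH) (Lpe (f31553 IH) (Lpr_gf (f31595 IH) (Lpr_cf (f189860 IH) (Lpe (f32029 IH) (Lpr_dt (K0.f31075 IH) (Lpn (LP (LK LD1_c2 LD2_c7 LD3_c42))))))))))))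
theorem f194193 : Led Lsl_ct (LP (LK LD1_c1 LD2_c59 LD3_c11)) = (LP (LK LD1_c4 LD2_c4 LD3_c33)) :=
  Lre_c IH (LK LD1_c1 LD2_c59 LD3_c11) (LK LD1_c4 LD2_c4 LD3_c33) Lrfl Lrfl
theorem f194194 : Led Lsl_gf (LP (LK LD1_c2 LD2_c7 LD3_c60)) = (LP (LK LD1_c4 LD2_c4 LD3_c33)) :=
  Lgr Lrot129 (Lpe (f28707 IH) (Lpr_bt (f31179 IH) (Lpr_gt (f194189 IH) (Lpe (f182152 IH) (Lpr_ct (f177478 IH) (Lpr_gt (f177479 IH) (Lpr_cf (f182107 IH) (Lpr_bt (f32037 IH) (Lpe (f189867 IH) (Lpr_ct (f194193 IH) (Lpn (LP (LK LD1_c4 LD2_c4 LD3_c33)))))))))))))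
theorem f194201 : Led Lsl_bf (LP (LK LD1_c0 LD2_c56 LD3_c53)) = (LP (LK LD1_c1 LD2_c59 LD3_c11)) :=
  Lgr Lrot34 (Lpe (K9.f169082 IH) (Lpe (f55426 IH) (Lpr_ct (f169134 IH) (Lpr_gf (f177476 IH) (Lpe (f177475 IH) (Lpe (f194189 IH) (Lpe (f31179 IH) (Lpr_ct (f28707 IH) (Lpr_gf (f194194 IH) (Lpe (f194193 IH) (Lpn (LP (LK LD1_c1 LD2_c59 LD3_c11)))))))))))))
theorem f55325 : Led Lsl_bt (LP (LK LD1_c0 LD2_c56 LD3_c50)) = (LP (LK LD1_c0 LD2_c25 LD3_c47)) :=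
  Lre_b IH (LK LD1_c0 LD2_c56 LD3_c50) (LK LD1_c0 LD2_c25 LD3_c47) Lrfl Lrfl
theorem f188073 : Led Lsl_gt (LP (LK LD1_c1 LD2_c59 LD3_c53)) = (LP (LK LD1_c4 LD2_c5 LD3_c23)) :=
  Lre_g IH (LK LD1_c1 LD2_c59 LD3_c53) (LK LD1_c4 LD2_c5 LD3_c23) Lrfl Lrfl
theorem f49235 : Led Lsl_gt (LP (LK LD1_c2 LD2_c1 LD3_c16)) = (LP (LK LD1_c4 LD2_c7 LD3_c49)) :=
  Lre_g IH (LK LD1_c2 LD2_c1 LD3_c16) (LK LD1_c4 LD2_c7 LD3_c49) Lrfl Lrfl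
theorem f55038 : Led Lsl_bt (LP (LK LD1_c4 LD2_c5 LD3_c6)) = (LP (LK LD1_c4 LD2_c6 LD3_c16)) :=
  Lgr Lrot127 (Lpr_bf (K1.f55025 IH) (Lpn (LP (LK LD1_c4 LD2_c6 LD3_c16))))
theorem f46219 : Led Lsl_gt (LP (LK LD1_c4 LD2_c5 LD3_c23)) = (LP (LK LD1_c8 LD2_c10 LD3_c60)) :=
  Lre_g IH (LK LD1_c4 LD2_c5 LD3_c23) (LK LD1_c8 LD2_c10 LD3_c60) Lrfl Lrfl
theorem f188062 : Led Lsl_ct (LP (LK LD1_c4 LD2_c7 LD3_c49)) = (LP (LK LD1_c4 LD2_c5 LD3_c23)) :=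
  Lgr Lrot91 (Lpe (f49235 IH) (Lpe (f49239 IH) (Lpr_ct (f49338 IH) (Lpe (f49332 IH) (Lpr_cf (f188047 IH) (Lpr_bt (f181247 IH) (Lpe (f47855 IH) (Lpe (f55038 IH) (Lpr_ct (K1.f46194 IH) (Lpe (f46219 IH) (Lpn (LP (LK LD1_c4 LD2_c5 LD3_c23)))))))))))))
theorem f194197 : Led Lsl_gt (LP (LK LD1_c4 LD2_c20 LD3_c51)) = (LP (LK LD1_c4 LD2_c4 LD3_c33)) :=
  Lgr Lrot5 (Lpr_ft (f31273 IH) (Lpr_at (f31275 IH) (Lpr_gf (f194194 IH) (Lpn (LP (LK LD1_c4 LD2_c4 LD3_c33))))))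
theorem f28958 : Led Lsl_gt (LP (LK LD1_c1 LD2_c1 LD3_c6)) = (LP (LK LD1_c2 LD2_c7 LD3_c59)) :=
  Lre_g IH (LK LD1_c1 LD2_c1 LD3_c6) (LK LD1_c2 LD2_c7 LD3_c59) Lrfl Lrfl
theorem f31212 : Led Lsl_gf (LP (LK LD1_c2 LD2_c7 LD3_c55)) = (LP (LK LD1_c2 LD2_c7 LD3_c59)) :=
  Lgr Lrot76 (Lpr_af (K0.f31187 IH) (Lpe (K0.f31186 IH) (Lpr_gt (f28958 IH) (Lpn (LP (LK LD1_c2 LD2_c7 LD3_c59))))))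
theorem f194215 : Led Lsl_bt (LP (LK LD1_c4 LD2_c7 LD3_c49)) = (LP (LK LD1_c2 LD2_c7 LD3_c59)) :=
  Lgr Lrot130 (Lpr_ct (f188062 IH) (Lpe (f188073 IH) (Lpe (K1.f46177 IH) (Lpr_bt (f55325 IH) (Lpe (K9.f28226 IH) (Lpr_bf (f194201 IH) (Lpr_ct (f194193 IH) (Lpe (f194197 IH) (Lpe (K9.f31191 IH) (Lpr_gf (f31212 IH) (Lpn (LP (LK LD1_c2 LD2_c7 LD3_c59)))))))))))))
theorem f187336 : Led Lsl_ct (LP (LK LD1_c2 LD2_c0 LD3_c38)) = (LP (LK LD1_c4 LD2_c6 LD3_c36)) :=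
  Lre_c IH (LK LD1_c2 LD2_c0 LD3_c38) (LK LD1_c4 LD2_c6 LD3_c36) Lrfl Lrfl
theorem f28976 : Led Lsl_bt (LP (LK LD1_c2 LD2_c7 LD3_c56)) = (LP (LK LD1_c1 LD2_c1 LD3_c6)) :=
  Lre_b IH (LK LD1_c2 LD2_c7 LD3_c56) (LK LD1_c1 LD2_c1 LD3_c6) Lrfl Lrfl
theorem f28664 : Led Lsl_ct (LP (LK LD1_c2 LD2_c7 LD3_c56)) = (LP (LK LD1_c4 LD2_c20 LD3_c53)) :=
  Lre_c IH (LK LD1_c2 LD2_c7 LD3_c56) (LK LD1_c4 LD2_c20 LD3_c53) Lrfl Lrfl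
theorem f194222 : Led Lsl_gt (LP (LK LD1_c4 LD2_c6 LD3_c36)) = (LP (LK LD1_c4 LD2_c20 LD3_c53)) :=
  Lgr Lrot149 (Lpe (f187336 IH) (Lpe (f47855 IH) (Lpe (f55038 IH) (Lpr_ct (K1.f46194 IH) (Lpe (f46219 IH) (Lpe (f188062 IH) (Lpr_bt (f194215 IH) (Lpe (f28958 IH) (Lpe (f28976 IH) (Lpr_ct (f28664 IH) (Lpn (LP (LK LD1_c4 LD2_c20 LD3_c53)))))))))))))
theorem f187335 : Led Lsl_bt (LP (LK LD1_c2 LD2_c0 LD3_c38)) = (LP (LK LD1_c4 LD2_c6 LD3_c35)) :=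
  Lre_b IH (LK LD1_c2 LD2_c0 LD3_c38) (LK LD1_c4 LD2_c6 LD3_c35) Lrfl Lrfl
theorem f27892 : Led Lsl_gt (LP (LK LD1_c2 LD2_c7 LD3_c41)) = (LP (LK LD1_c4 LD2_c20 LD3_c25)) :=
  Lre_g IH (LK LD1_c2 LD2_c7 LD3_c41) (LK LD1_c4 LD2_c20 LD3_c25) Lrfl Lrfl
theorem f31841 : Led Lsl_gf (LP (LK LD1_c4 LD2_c20 LD3_c0)) = (LP (LK LD1_c4 LD2_c20 LD3_c25)) :=
  Lgr Lrot76 (Lpr_af (K0.f31813 IH) (Lpe (K0.f31812 IH) (Lpr_gt (f27892 IH) (Lpn (LP (LK LD1_c4 LD2_c20 LD3_c25))))))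
theorem f194334 : Led Lsl_cf (LP (LK LD1_c4 LD2_c20 LD3_c25)) = (LP (LK LD1_c2 LD2_c7 LD3_c59)) :=
  Lgr Lrot125 (Lpe (f31841 IH) (Lpe (K0.f31802 IH) (Lpe (f32102 IH) (Lpe (f188520 IH) (Lpe (f187335 IH) (Lpr_ct (f187336 IH) (Lpr_gt (f194222 IH) (Lpe (f28664 IH) (Lpr_bt (f28976 IH) (Lpr_gt (f28958 IH) (Lpn (LP (LK LD1_c2 LD2_c7 LD3_c59)))))))))))))
theorem f32044 : Led Lsl_bt (LP (LK LD1_c1 LD2_c0 LD3_c56)) = (LP (LK LD1_c2 LD2_c7 LD3_c37)) :=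
  Lre_b IH (LK LD1_c1 LD2_c0 LD3_c56) (LK LD1_c2 LD2_c7 LD3_c37) Lrfl Lrfl
theorem f169268 : Led Lsl_et (LP (LK LD1_c1 LD2_c55 LD3_c54)) = (LP (LK LD1_c3 LD2_c58 LD3_c13)) :=
  Lre_e IH (LK LD1_c1 LD2_c55 LD3_c54) (LK LD1_c3 LD2_c58 LD3_c13) Lrfl Lrfl
theorem f167797 : Led Lsl_dt (LP (LK LD1_c3 LD2_c58 LD3_c12)) = (LP (LK LD1_c1 LD2_c55 LD3_c54)) :=
  Lre_d IH (LK LD1_c3 LD2_c58 LD3_c12) (LK LD1_c1 LD2_c55 LD3_c54) Lrfl Lrfl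
theorem f187254 : Led Lsl_et (LP (LK LD1_c7 LD2_c57 LD3_c50)) = (LP (LK LD1_c3 LD2_c58 LD3_c12)) :=
  Lre_e IH (LK LD1_c7 LD2_c57 LD3_c50) (LK LD1_c3 LD2_c58 LD3_c12) Lrfl Lrfl
theorem f187255 : Led Lsl_et (LP (LK LD1_c4 LD2_c20 LD3_c20)) = (LP (LK LD1_c8 LD2_c38 LD3_c32)) :=
  Lre_e IH (LK LD1_c4 LD2_c20 LD3_c20) (LK LD1_c8 LD2_c38 LD3_c32) Lrfl Lrfl
theorem f187256 : Led Lsl_df (LP (LK LD1_c7 LD2_c57 LD3_c50)) = (LP (LK LD1_c8 LD2_c38 LD3_c32)) :=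
  Lgr Lrot70 (Lpr_et (f187254 IH) (Lpr_dt (f167797 IH) (Lpr_et (f169268 IH) (Lpr_dt (f187248 IH) (Lpr_et (f187255 IH) (Lpn (LP (LK LD1_c8 LD2_c38 LD3_c32))))))))
theorem f187266 : Led Lsl_ft (LP (LK LD1_c7 LD2_c57 LD3_c50)) = (LP (LK LD1_c15 LD2_c1 LD3_c16)) :=
  Lre_f IH (LK LD1_c7 LD2_c57 LD3_c50) (LK LD1_c15 LD2_c1 LD3_c16) Lrfl Lrfl
theorem f187267 : Led Lsl_ft (LP (LK LD1_c16 LD2_c11 LD3_c8)) = (LP (LK LD1_c8 LD2_c38 LD3_c32)) :=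
  Lre_f IH (LK LD1_c16 LD2_c11 LD3_c8) (LK LD1_c8 LD2_c38 LD3_c32) Lrfl Lrfl
theorem f187268 : Led Lsl_dt (LP (LK LD1_c15 LD2_c1 LD3_c16)) = (LP (LK LD1_c16 LD2_c11 LD3_c8)) :=
  Lgr Lrot60 (Lpe (f187266 IH) (Lpr_df (f187256 IH) (Lpe (f187267 IH) (Lpn (LP (LK LD1_c16 LD2_c11 LD3_c8))))))
theorem f187279 : Led Lsl_df (LP (LK LD1_c15 LD2_c1 LD3_c16)) = (LP (LK LD1_c16 LD2_c11 LD3_c8)) :=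
  Lgr Lrot38 (Lpr_dt (f187268 IH) (Lpn (LP (LK LD1_c16 LD2_c11 LD3_c8))))
theorem f187282 : Led Lsl_bt (LP (LK LD1_c15 LD2_c1 LD3_c16)) = (LP (LK LD1_c7 LD2_c58 LD3_c1)) :=
  Lre_b IH (LK LD1_c15 LD2_c1 LD3_c16) (LK LD1_c7 LD2_c58 LD3_c1) Lrfl Lrfl
theorem f187283 : Led Lsl_dt (LP (LK LD1_c7 LD2_c58 LD3_c1)) = (LP (LK LD1_c15 LD2_c1 LD3_c47)) :=
  Lre_d IH (LK LD1_c7 LD2_c58 LD3_c1) (LK LD1_c15 LD2_c1 LD3_c47) Lrfl Lrfl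
theorem f187284 : Led Lsl_bt (LP (LK LD1_c15 LD2_c1 LD3_c47)) = (LP (LK LD1_c16 LD2_c11 LD3_c8)) :=
  Lgr Lrot95 (Lpe (f187283 IH) (Lpe (f187282 IH) (Lpr_df (f187279 IH) (Lpn (LP (LK LD1_c16 LD2_c11 LD3_c8))))))
theorem f187287 : Led Lsl_ft (LP (LK LD1_c7 LD2_c58 LD3_c0)) = (LP (LK LD1_c15 LD2_c1 LD3_c47)) :=
  Lre_f IH (LK LD1_c7 LD2_c58 LD3_c0) (LK LD1_c15 LD2_c1 LD3_c47) Lrfl Lrfl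
theorem f187288 : Led Lsl_bf (LP (LK LD1_c7 LD2_c58 LD3_c0)) = (LP (LK LD1_c8 LD2_c38 LD3_c32)) :=
  Lgr Lrot61 (Lpr_ft (f187287 IH) (Lpr_bt (f187284 IH) (Lpr_ft (f187267 IH) (Lpn (LP (LK LD1_c8 LD2_c38 LD3_c32))))))
theorem f47968 : Led Lsl_et (LP (LK LD1_c7 LD2_c58 LD3_c0)) = (LP (LK LD1_c3 LD2_c58 LD3_c19)) :=
  Lre_e IH (LK LD1_c7 LD2_c58 LD3_c0) (LK LD1_c3 LD2_c58 LD3_c19) Lrfl Lrfl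
theorem f187293 : Led Lsl_bt (LP (LK LD1_c3 LD2_c58 LD3_c19)) = (LP (LK LD1_c4 LD2_c20 LD3_c20)) :=
  Lgr Lrot119 (Lpe (f47968 IH) (Lpr_bf (f187288 IH) (Lpe (f187255 IH) (Lpn (LP (LK LD1_c4 LD2_c20 LD3_c20))))))
theorem f47962 : Led Lsl_ct (LP (LK LD1_c3 LD2_c58 LD3_c19)) = (LP (LK LD1_c7 LD2_c58 LD3_c2)) :=
  Lre_c IH (LK LD1_c3 LD2_c58 LD3_c19) (LK LD1_c7 LD2_c58 LD3_c2) Lrfl Lrfl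
theorem f194217 : Led Lsl_bf (LP (LK LD1_c4 LD2_c7 LD3_c49)) = (LP (LK LD1_c2 LD2_c7 LD3_c59)) :=
  Lgr Lrot24 (Lpr_bt (f194215 IH) (Lpn (LP (LK LD1_c2 LD2_c7 LD3_c59))))
theorem f50618 : Led Lsl_gf (LP (LK LD1_c4 LD2_c21 LD3_c1)) = (LP (LK LD1_c4 LD2_c7 LD3_c49)) :=
  Lgr Lrot76 (Lpr_af (K9.f50612 IH) (Lpe (K9.f49233 IH) (Lpr_gt (f49235 IH) (Lpn (LP (LK LD1_c4 LD2_c7 LD3_c49))))))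
theorem f194351 : Led Lsl_gf (LP (LK LD1_c7 LD2_c58 LD3_c2)) = (LP (LK LD1_c8 LD2_c39 LD3_c47)) :=
  Lgr Lrot129 (Lpe (f47962 IH) (Lpr_bt (f187293 IH) (Lpr_gt (f28673 IH) (Lpe (f32044 IH) (Lpr_ct (K0.f27891 IH) (Lpr_gt (f27892 IH) (Lpr_cf (f194334 IH) (Lpe (f194217 IH) (Lpe (f50618 IH) (Lpr_ct (K9.f30959 IH) (Lpn (LP (LK LD1_c8 LD2_c39 LD3_c47)))))))))))))
theorem f32953 : Led Lsl_gt (LP (LK LD1_c5 LD2_c17 LD3_c0)) = (LP (LK LD1_c2 LD2_c35 LD3_c28)) :=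
  Lre_g IH (LK LD1_c5 LD2_c17 LD3_c0) (LK LD1_c2 LD2_c35 LD3_c28) Lrfl Lrfl
theorem f33050 : Led Lsl_bt (LP (LK LD1_c5 LD2_c17 LD3_c23)) = (LP (LK LD1_c2 LD2_c35 LD3_c28)) :=
  Lre_b IH (LK LD1_c5 LD2_c17 LD3_c23) (LK LD1_c2 LD2_c35 LD3_c28) Lrfl Lrfl
theorem f187644 : Led Lsl_ft (LP (LK LD1_c2 LD2_c35 LD3_c29)) = (LP (LK LD1_c5 LD2_c17 LD3_c27)) :=
  Lre_f IH (LK LD1_c2 LD2_c35 LD3_c29) (LK LD1_c5 LD2_c17 LD3_c27) Lrfl Lrfl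
theorem f187645 : Led Lsl_af (LP (LK LD1_c6 LD2_c5 LD3_c59)) = (LP (LK LD1_c5 LD2_c17 LD3_c27)) :=
  Lgr Lrot109 (Lpr_cf (f187495 IH) (Lpe (f32950 IH) (Lpe (f32164 IH) (Lpe (K1.f32168 IH) (Lpe (f32507 IH) (Lpe (f32860 IH) (Lpe (f50787 IH) (Lpe (f50786 IH) (Lpr_ft (f187644 IH) (Lpn (LP (LK LD1_c5 LD2_c17 LD3_c27))))))))))))
theorem f187656 : Led Lsl_gf (LP (LK LD1_c2 LD2_c59 LD3_c7)) = (LP (LK LD1_c2 LD2_c35 LD3_c29)) :=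
  Lgr Lrot47 (Lpr_gt (f187494 IH) (Lpr_af (f187645 IH) (Lpe (f187644 IH) (Lpn (LP (LK LD1_c2 LD2_c35 LD3_c29))))))
theorem f183349 : Led Lsl_ct (LP (LK LD1_c1 LD2_c25 LD3_c21)) = (LP (LK LD1_c0 LD2_c39 LD3_c20)) :=
  Lre_c IH (LK LD1_c1 LD2_c25 LD3_c21) (LK LD1_c0 LD2_c39 LD3_c20) Lrfl Lrfl
theorem f181190 : Led Lsl_ct (LP (LK LD1_c0 LD2_c39 LD3_c14)) = (LP (LK LD1_c1 LD2_c25 LD3_c10)) :=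
  Lre_c IH (LK LD1_c0 LD2_c39 LD3_c14) (LK LD1_c1 LD2_c25 LD3_c10) Lrfl Lrfl
theorem f181177 : Led Lsl_dt (LP (LK LD1_c2 LD2_c58 LD3_c55)) = (LP (LK LD1_c1 LD2_c25 LD3_c10)) :=
  Lre_d IH (LK LD1_c2 LD2_c58 LD3_c55) (LK LD1_c1 LD2_c25 LD3_c10) Lrfl Lrfl
theorem f183362 : Led Lsl_gf (LP (LK LD1_c2 LD2_c58 LD3_c55)) = (LP (LK LD1_c2 LD2_c0 LD3_c52)) :=
  Lgr Lrot143 (Lpr_dt (f181177 IH) (Lpe (f181190 IH) (Lpe (K9.f181189 IH) (Lpe (K9.f55923 IH) (Lpe (K9.f8562 IH) (Lpe (K9.f6967 IH) (Lpe (f183349 IH) (Lpr_gt (K9.f183354 IH) (Lpr_dt (K1.f54846 IH) (Lpn (LP (LK LD1_c2 LD2_c0 LD3_c52))))))))))))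
theorem f183369 : Led Lsl_gt (LP (LK LD1_c2 LD2_c58 LD3_c55)) = (LP (LK LD1_c2 LD2_c1 LD3_c2)) :=
  Lgr Lrot46 (Lpr_gf (f183362 IH) (Lpr_ft (K1.f55460 IH) (Lpr_at (K1.f55435 IH) (Lpn (LP (LK LD1_c2 LD2_c1 LD3_c2))))))
theorem f55580 : Led Lsl_ct (LP (LK LD1_c2 LD2_c1 LD3_c2)) = (LP (LK LD1_c0 LD2_c57 LD3_c34)) :=
  Lre_c IH (LK LD1_c2 LD2_c1 LD3_c2) (LK LD1_c0 LD2_c57 LD3_c34) Lrfl Lrfl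
theorem f177793 : Led Lsl_cf (LP (LK LD1_c0 LD2_c26 LD3_c9)) = (LP (LK LD1_c0 LD2_c39 LD3_c39)) :=
  Lgr Lrot11 (Lpr_ct (K9.f177789 IH) (Lpn (LP (LK LD1_c0 LD2_c39 LD3_c39))))
theorem f183373 : Led Lsl_cf (LP (LK LD1_c2 LD2_c58 LD3_c55)) = (LP (LK LD1_c1 LD2_c25 LD3_c56)) :=
  Lgr Lrot169 (Lpr_gt (f183369 IH) (Lpr_ct (f55580 IH) (Lpe (K1.f55431 IH) (Lpe (K1.f55430 IH) (Lpe (K9.f53167 IH) (Lpr_cf (f177793 IH) (Lpe (K9.f20756 IH) (Lpe (K9.f9023 IH) (Lpr_gt (K9.f59951 IH) (Lpn (LP (LK LD1_c1 LD2_c25 LD3_c56))))))))))))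
theorem f181176 : Led Lsl_ct (LP (LK LD1_c1 LD2_c25 LD3_c10)) = (LP (LK LD1_c0 LD2_c39 LD3_c14)) :=
  Lre_c IH (LK LD1_c1 LD2_c25 LD3_c10) (LK LD1_c0 LD2_c39 LD3_c14) Lrfl Lrfl
theorem f59121 : Led Lsl_ct (LP (LK LD1_c0 LD2_c26 LD3_c6)) = (LP (LK LD1_c0 LD2_c57 LD3_c30)) :=
  Lre_c IH (LK LD1_c0 LD2_c26 LD3_c6) (LK LD1_c0 LD2_c57 LD3_c30) Lrfl Lrfl
theorem f59124 : Led Lsl_dt (LP (LK LD1_c0 LD2_c11 LD3_c36)) = (LP (LK LD1_c0 LD2_c26 LD3_c6)) :=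
  Lre_d IH (LK LD1_c0 LD2_c11 LD3_c36) (LK LD1_c0 LD2_c26 LD3_c6) Lrfl Lrfl
theorem f179061 : Led Lsl_dt (LP (LK LD1_c2 LD2_c59 LD3_c3)) = (LP (LK LD1_c1 LD2_c25 LD3_c15)) :=
  Lre_d IH (LK LD1_c2 LD2_c59 LD3_c3) (LK LD1_c1 LD2_c25 LD3_c15) Lrfl Lrfl
theorem f183378 : Led Lsl_ct (LP (LK LD1_c1 LD2_c25 LD3_c55)) = (LP (LK LD1_c2 LD2_c59 LD3_c3)) :=
  Lgr Lrot176 (Lpr_df (K9.f181136 IH) (Lpe (f28354 IH) (Lpe (K8.f8146 IH) (Lpe (K9.f181160 IH) (Lpe (K9.f181175 IH) (Lpe (f181176 IH) (Lpe (f181177 IH) (Lpr_cf (f183373 IH) (Lpr_df (K9.f175917 IH) (Lpe (f59121 IH) (Lpe (f59124 IH) (Lpr_cf (K9.f177785 IH) (Lpe (K9.f165046 IH) (Lpe (f177791 IH) (Lpe (f179061 IH) (Lpn (LP (LK LD1_c2 LD2_c59 LD3_c3))))))))))))))))))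
theorem f56047 : Led Lsl_et (LP (LK LD1_c0 LD2_c26 LD3_c8)) = (LP (LK LD1_c0 LD2_c24 LD3_c49)) :=
  Lgr Lrot87 (Lpr_ef (K9.f56040 IH) (Lpn (LP (LK LD1_c0 LD2_c24 LD3_c49))))
theorem f175944 : Led Lsl_ct (LP (LK LD1_c0 LD2_c39 LD3_c38)) = (LP (LK LD1_c0 LD2_c26 LD3_c8)) :=
  Lgr Lrot15 (Lpr_ef (K9.f175928 IH) (Lpe (K9.f40791 IH) (Lpe (f56047 IH) (Lpn (LP (LK LD1_c0 LD2_c26 LD3_c8))))))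
theorem f183428 : Led Lsl_gf (LP (LK LD1_c2 LD2_c0 LD3_c52)) = (LP (LK LD1_c2 LD2_c59 LD3_c3)) :=
  Lgr Lrot104 (Lpr_ct (K1.f55522 IH) (Lpe (K1.f55440 IH) (Lpe (K1.f55439 IH) (Lpe (K9.f55605 IH) (Lpe (f175944 IH) (Lpe (f20675 IH) (Lpe (K9.f9028 IH) (Lpr_gt (K9.f9094 IH) (Lpr_ct (f183378 IH) (Lpn (LP (LK LD1_c2 LD2_c59 LD3_c3))))))))))))
theorem f183432 : Led Lsl_gt (LP (LK LD1_c2 LD2_c1 LD3_c2)) = (LP (LK LD1_c2 LD2_c59 LD3_c3)) :=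
  Lgr Lrot5 (Lpe (K1.f55455 IH) (Lpr_at (K1.f55375 IH) (Lpr_gf (f183428 IH) (Lpn (LP (LK LD1_c2 LD2_c59 LD3_c3))))))
theorem f55443 : Led Lsl_dt (LP (LK LD1_c1 LD2_c59 LD3_c60)) = (LP (LK LD1_c2 LD2_c1 LD3_c2)) :=
  Lgr Lrot42 (Lpr_df (K1.f55433 IH) (Lpn (LP (LK LD1_c2 LD2_c1 LD3_c2))))
theorem f181235 : Led Lsl_ct (LP (LK LD1_c1 LD2_c25 LD3_c18)) = (LP (LK LD1_c0 LD2_c39 LD3_c19)) :=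
  Lre_c IH (LK LD1_c1 LD2_c25 LD3_c18) (LK LD1_c0 LD2_c39 LD3_c19) Lrfl Lrfl
theorem f183464 : Led Lsl_gt (LP (LK LD1_c0 LD2_c39 LD3_c19)) = (LP (LK LD1_c0 LD2_c35 LD3_c31)) :=
  Lgr Lrot94 (Lpe (f181235 IH) (Lpr_gt (f181231 IH) (Lpr_dt (f55443 IH) (Lpr_gt (f183432 IH) (Lpr_dt (f179061 IH) (Lpe (f177787 IH) (Lpe (K9.f169550 IH) (Lpe (K9.f179036 IH) (Lpe (K0.f7645 IH) (Lpn (LP (LK LD1_c0 LD2_c35 LD3_c31))))))))))))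
theorem f9018 : Led Lsl_gt (LP (LK LD1_c2 LD2_c37 LD3_c36)) = (LP (LK LD1_c5 LD2_c20 LD3_c20)) :=
  Lre_g IH (LK LD1_c2 LD2_c37 LD3_c36) (LK LD1_c5 LD2_c20 LD3_c20) Lrfl Lrfl
theorem f33049 : Led Lsl_gt (LP (LK LD1_c2 LD2_c35 LD3_c28)) = (LP (LK LD1_c1 LD2_c14 LD3_c46)) :=
  Lre_g IH (LK LD1_c2 LD2_c35 LD3_c28) (LK LD1_c1 LD2_c14 LD3_c46) Lrfl Lrfl
theorem f187665 : Led Lsl_cf (LP (LK LD1_c5 LD2_c20 LD3_c20)) = (LP (LK LD1_c5 LD2_c17 LD3_c23)) :=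
  Lgr Lrot58 (Lpe (f9018 IH) (Lpe (K1.f46408 IH) (Lpr_bt (f8489 IH) (Lpe (f183464 IH) (Lpe (f183469 IH) (Lpr_ct (f183472 IH) (Lpr_gf (f187656 IH) (Lpe (f33027 IH) (Lpe (f33049 IH) (Lpe (f33050 IH) (Lpn (LP (LK LD1_c5 LD2_c17 LD3_c23)))))))))))))
theorem f46449 : Led Lsl_gt (LP (LK LD1_c5 LD2_c20 LD3_c20)) = (LP (LK LD1_c2 LD2_c36 LD3_c49)) :=
  Lre_g IH (LK LD1_c5 LD2_c20 LD3_c20) (LK LD1_c2 LD2_c36 LD3_c49) Lrfl Lrfl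
theorem f42516 : Led Lsl_ct (LP (LK LD1_c1 LD2_c15 LD3_c23)) = (LP (LK LD1_c2 LD2_c36 LD3_c49)) :=
  Lre_c IH (LK LD1_c1 LD2_c15 LD3_c23) (LK LD1_c2 LD2_c36 LD3_c49) Lrfl Lrfl
theorem f8531 : Led Lsl_at (LP (LK LD1_c1 LD2_c24 LD3_c56)) = (LP (LK LD1_c0 LD2_c39 LD3_c11)) :=
  Lre_a IH (LK LD1_c1 LD2_c24 LD3_c56) (LK LD1_c0 LD2_c39 LD3_c11) Lrfl Lrfl
theorem f8533 : Led Lsl_at (LP (LK LD1_c0 LD2_c35 LD3_c8)) = (LP (LK LD1_c1 LD2_c15 LD3_c23)) :=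
  Lre_a IH (LK LD1_c0 LD2_c35 LD3_c8) (LK LD1_c1 LD2_c15 LD3_c23) Lrfl Lrfl
theorem f8534 : Led Lsl_bf (LP (LK LD1_c1 LD2_c24 LD3_c56)) = (LP (LK LD1_c1 LD2_c15 LD3_c23)) :=
  Lgr Lrot81 (Lpr_at (f8531 IH) (Lpr_bt (f8530 IH) (Lpr_at (K0.f8503 IH) (Lpr_bt (f8532 IH) (Lpr_at (f8533 IH) (Lpn (LP (LK LD1_c1 LD2_c15 LD3_c23))))))))
theorem f41777 : Led Lsl_gt (LP (LK LD1_c1 LD2_c24 LD3_c56)) = (LP (LK LD1_c2 LD2_c58 LD3_c25)) :=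
  Lre_g IH (LK LD1_c1 LD2_c24 LD3_c56) (LK LD1_c2 LD2_c58 LD3_c25) Lrfl Lrfl
theorem f187680 : Led Lsl_ct (LP (LK LD1_c2 LD2_c58 LD3_c25)) = (LP (LK LD1_c6 LD2_c4 LD3_c26)) :=
  Lre_c IH (LK LD1_c2 LD2_c58 LD3_c25) (LK LD1_c6 LD2_c4 LD3_c26) Lrfl Lrfl
theorem f190113 : Led Lsl_gf (LP (LK LD1_c5 LD2_c23 LD3_c20)) = (LP (LK LD1_c6 LD2_c4 LD3_c26)) :=
  Lgr Lrot129 (Lpr_cf (f190097 IH) (Lpr_bt (f183642 IH) (Lpr_gt (f32953 IH) (Lpe (f33050 IH) (Lpe (f187665 IH) (Lpr_gt (f46449 IH) (Lpe (f42516 IH) (Lpe (f8534 IH) (Lpr_gt (f41777 IH) (Lpr_ct (f187680 IH) (Lpn (LP (LK LD1_c6 LD2_c4 LD3_c26)))))))))))))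
theorem f190148 : Led Lsl_gf (LP (LK LD1_c6 LD2_c4 LD3_c26)) = (LP (LK LD1_c4 LD2_c20 LD3_c21)) :=
  Lgr Lrot47 (Lpe (f190113 IH) (Lpr_af (f190143 IH) (Lpr_ff (f182112 IH) (Lpn (LP (LK LD1_c4 LD2_c20 LD3_c21))))))
theorem f28066 : Led Lsl_gt (LP (LK LD1_c1 LD2_c58 LD3_c34)) = (LP (LK LD1_c4 LD2_c1 LD3_c3)) :=
  Lre_g IH (LK LD1_c1 LD2_c58 LD3_c34) (LK LD1_c4 LD2_c1 LD3_c3) Lrfl Lrfl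
theorem f194355 : Led Lsl_bt (LP (LK LD1_c2 LD2_c58 LD3_c25)) = (LP (LK LD1_c1 LD2_c58 LD3_c34)) :=
  Lgr Lrot22 (Lpr_ct (f187680 IH) (Lpr_gf (f190148 IH) (Lpe (f27903 IH) (Lpe (f28673 IH) (Lpe (f187293 IH) (Lpr_ct (f47962 IH) (Lpr_gf (f194351 IH) (Lpe (K9.f30959 IH) (Lpe (K9.f30973 IH) (Lpe (f28066 IH) (Lpn (LP (LK LD1_c1 LD2_c58 LD3_c34)))))))))))))
theorem f28818 : Led Lsl_gt (LP (LK LD1_c0 LD2_c56 LD3_c8)) = (LP (LK LD1_c1 LD2_c58 LD3_c34)) :=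
  Lre_g IH (LK LD1_c0 LD2_c56 LD3_c8) (LK LD1_c1 LD2_c58 LD3_c34) Lrfl Lrfl
theorem f50298 : Led Lsl_bt (LP (LK LD1_c1 LD2_c58 LD3_c36)) = (LP (LK LD1_c4 LD2_c3 LD3_c15)) :=
  Lre_b IH (LK LD1_c1 LD2_c58 LD3_c36) (LK LD1_c4 LD2_c3 LD3_c15) Lrfl Lrfl
theorem f50183 : Led Lsl_bt (LP (LK LD1_c4 LD2_c7 LD3_c43)) = (LP (LK LD1_c2 LD2_c1 LD3_c13)) :=
  Lre_b IH (LK LD1_c4 LD2_c7 LD3_c43) (LK LD1_c2 LD2_c1 LD3_c13) Lrfl Lrfl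
theorem f50300 : Led Lsl_bf (LP (LK LD1_c0 LD2_c56 LD3_c8)) = (LP (LK LD1_c0 LD2_c57 LD3_c40)) :=
  Lgr Lrot90 (Lpr_ct (f50299 IH) (Lpr_bt (f50298 IH) (Lpr_ct (K9.f50283 IH) (Lpr_bt (f50183 IH) (Lpr_ct (K9.f49646 IH) (Lpn (LP (LK LD1_c0 LD2_c57 LD3_c40))))))))
theorem f51363 : Led Lsl_gt (LP (LK LD1_c4 LD2_c7 LD3_c42)) = (LP (LK LD1_c2 LD2_c1 LD3_c13)) :=
  Lre_g IH (LK LD1_c4 LD2_c7 LD3_c42) (LK LD1_c2 LD2_c1 LD3_c13) Lrfl Lrfl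
theorem f194368 : Led Lsl_ct (LP (LK LD1_c2 LD2_c35 LD3_c28)) = (LP (LK LD1_c4 LD2_c7 LD3_c42)) :=
  Lgr Lrot91 (Lpe (f32953 IH) (Lpe (f183642 IH) (Lpe (f190097 IH) (Lpr_gf (f190113 IH) (Lpe (f187680 IH) (Lpr_bt (f194355 IH) (Lpe (f28818 IH) (Lpr_bf (f50300 IH) (Lpr_ct (K9.f49799 IH) (Lpe (f51363 IH) (Lpn (LP (LK LD1_c4 LD2_c7 LD3_c42)))))))))))))
theorem f187671 : Led Lsl_bt (LP (LK LD1_c2 LD2_c35 LD3_c28)) = (LP (LK LD1_c5 LD2_c17 LD3_c23)) :=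
  Lre_b IH (LK LD1_c2 LD2_c35 LD3_c28) (LK LD1_c5 LD2_c17 LD3_c23) Lrfl Lrfl
theorem f32410 : Led Lsl_bt (LP (LK LD1_c2 LD2_c35 LD3_c19)) = (LP (LK LD1_c2 LD2_c34 LD3_c26)) :=
  Lgr Lrot95 (Lpe (K1.f32166 IH) (Lpr_bf (K1.f32331 IH) (Lpe (f32333 IH) (Lpn (LP (LK LD1_c2 LD2_c34 LD3_c26))))))
theorem f191562 : Led Lsl_bt (LP (LK LD1_c4 LD2_c7 LD3_c34)) = (LP (LK LD1_c2 LD2_c23 LD3_c27)) :=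
  Lgr Lrot130 (Lpr_ct (f191519 IH) (Lpe (f32523 IH) (Lpe (f32554 IH) (Lpr_bt (f32410 IH) (Lpe (f32342 IH) (Lpe (f32865 IH) (Lpr_ct (f180748 IH) (Lpe (f33365 IH) (Lpe (K0.f3317 IH) (Lpe (f33350 IH) (Lpn (LP (LK LD1_c2 LD2_c23 LD3_c27)))))))))))))
theorem f45013 : Led Lsl_et (LP (LK LD1_c8 LD2_c15 LD3_c7)) = (LP (LK LD1_c4 LD2_c7 LD3_c34)) :=
  Lre_e IH (LK LD1_c8 LD2_c15 LD3_c7) (LK LD1_c4 LD2_c7 LD3_c34) Lrfl Lrfl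
theorem f191677 : Led Lsl_et (LP (LK LD1_c2 LD2_c23 LD3_c27)) = (LP (LK LD1_c4 LD2_c51 LD3_c16)) :=
  Lre_e IH (LK LD1_c2 LD2_c23 LD3_c27) (LK LD1_c4 LD2_c51 LD3_c16) Lrfl Lrfl
theorem f191678 : Led Lsl_bf (LP (LK LD1_c8 LD2_c15 LD3_c7)) = (LP (LK LD1_c4 LD2_c51 LD3_c16)) :=
  Lgr Lrot96 (Lpr_et (f45013 IH) (Lpr_bt (f191562 IH) (Lpr_et (f191677 IH) (Lpn (LP (LK LD1_c4 LD2_c51 LD3_c16))))))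
theorem f191683 : Led Lsl_dt (LP (LK LD1_c2 LD2_c23 LD3_c26)) = (LP (LK LD1_c4 LD2_c51 LD3_c16)) :=
  Lre_d IH (LK LD1_c2 LD2_c23 LD3_c26) (LK LD1_c4 LD2_c51 LD3_c16) Lrfl Lrfl
theorem f191684 : Led Lsl_bt (LP (LK LD1_c4 LD2_c51 LD3_c2)) = (LP (LK LD1_c2 LD2_c23 LD3_c26)) :=
  Lre_b IH (LK LD1_c4 LD2_c51 LD3_c2) (LK LD1_c2 LD2_c23 LD3_c26) Lrfl Lrfl
theorem f191685 : Led Lsl_dt (LP (LK LD1_c8 LD2_c15 LD3_c7)) = (LP (LK LD1_c4 LD2_c51 LD3_c2)) :=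
  Lgr Lrot79 (Lpr_bf (f191678 IH) (Lpe (f191683 IH) (Lpe (f191684 IH) (Lpn (LP (LK LD1_c4 LD2_c51 LD3_c2))))))
theorem f191692 : Led Lsl_df (LP (LK LD1_c8 LD2_c15 LD3_c7)) = (LP (LK LD1_c4 LD2_c51 LD3_c2)) :=
  Lgr Lrot38 (Lpr_dt (f191685 IH) (Lpn (LP (LK LD1_c4 LD2_c51 LD3_c2))))
theorem f191717 : Led Lsl_et (LP (LK LD1_c2 LD2_c23 LD3_c20)) = (LP (LK LD1_c4 LD2_c51 LD3_c2)) :=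
  Lre_e IH (LK LD1_c2 LD2_c23 LD3_c20) (LK LD1_c4 LD2_c51 LD3_c2) Lrfl Lrfl
theorem f191718 : Led Lsl_dt (LP (LK LD1_c1 LD2_c8 LD3_c47)) = (LP (LK LD1_c2 LD2_c23 LD3_c20)) :=
  Lre_d IH (LK LD1_c1 LD2_c8 LD3_c47) (LK LD1_c2 LD2_c23 LD3_c20) Lrfl Lrfl
theorem f171171 : Led Lsl_et (LP (LK LD1_c2 LD2_c23 LD3_c21)) = (LP (LK LD1_c1 LD2_c8 LD3_c47)) :=
  Lre_e IH (LK LD1_c2 LD2_c23 LD3_c21) (LK LD1_c1 LD2_c8 LD3_c47) Lrfl Lrfl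
theorem f191719 : Led Lsl_dt (LP (LK LD1_c4 LD2_c7 LD3_c34)) = (LP (LK LD1_c2 LD2_c23 LD3_c21)) :=
  Lgr Lrot77 (Lpe (f45013 IH) (Lpr_df (f191692 IH) (Lpe (f191717 IH) (Lpe (f191718 IH) (Lpe (f171171 IH) (Lpn (LP (LK LD1_c2 LD2_c23 LD3_c21))))))))
theorem f171170 : Led Lsl_et (LP (LK LD1_c2 LD2_c4 LD3_c16)) = (LP (LK LD1_c4 LD2_c13 LD3_c50)) :=
  Lre_e IH (LK LD1_c2 LD2_c4 LD3_c16) (LK LD1_c4 LD2_c13 LD3_c50) Lrfl Lrfl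
theorem f171172 : Led Lsl_ct (LP (LK LD1_c4 LD2_c13 LD3_c50)) = (LP (LK LD1_c2 LD2_c23 LD3_c21)) :=
  Lgr Lrot15 (Lpe (f171170 IH) (Lpr_cf (K9.f171162 IH) (Lpe (f171171 IH) (Lpn (LP (LK LD1_c2 LD2_c23 LD3_c21))))))
theorem f191723 : Led Lsl_dt (LP (LK LD1_c2 LD2_c35 LD3_c28)) = (LP (LK LD1_c4 LD2_c13 LD3_c50)) :=
  Lgr Lrot105 (Lpe (f32953 IH) (Lpe (f32950 IH) (Lpe (f32906 IH) (Lpe (f191037 IH) (Lpr_gt (f53583 IH) (Lpr_dt (f49649 IH) (Lpe (f53602 IH) (Lpr_dt (f191719 IH) (Lpe (f171172 IH) (Lpn (LP (LK LD1_c4 LD2_c13 LD3_c50))))))))))))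
theorem f32954 : Led Lsl_et (LP (LK LD1_c5 LD2_c17 LD3_c24)) = (LP (LK LD1_c2 LD2_c35 LD3_c28)) :=
  Lre_e IH (LK LD1_c5 LD2_c17 LD3_c24) (LK LD1_c2 LD2_c35 LD3_c28) Lrfl Lrfl
theorem f45096 : Led Lsl_et (LP (LK LD1_c4 LD2_c13 LD3_c50)) = (LP (LK LD1_c2 LD2_c4 LD3_c16)) :=
  Lre_e IH (LK LD1_c4 LD2_c13 LD3_c50) (LK LD1_c2 LD2_c4 LD3_c16) Lrfl Lrfl
theorem f45095 : Led Lsl_dt (LP (LK LD1_c2 LD2_c4 LD3_c16)) = (LP (LK LD1_c4 LD2_c13 LD3_c49)) :=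
  Lre_d IH (LK LD1_c2 LD2_c4 LD3_c16) (LK LD1_c4 LD2_c13 LD3_c49) Lrfl Lrfl
theorem f50877 : Led Lsl_et (LP (LK LD1_c4 LD2_c13 LD3_c49)) = (LP (LK LD1_c8 LD2_c26 LD3_c22)) :=
  Lre_e IH (LK LD1_c4 LD2_c13 LD3_c49) (LK LD1_c8 LD2_c26 LD3_c22) Lrfl Lrfl
theorem f191730 : Led Lsl_df (LP (LK LD1_c5 LD2_c17 LD3_c24)) = (LP (LK LD1_c8 LD2_c26 LD3_c22)) :=
  Lgr Lrot70 (Lpr_et (f32954 IH) (Lpr_dt (f191723 IH) (Lpr_et (f45096 IH) (Lpr_dt (f45095 IH) (Lpr_et (f50877 IH) (Lpn (LP (LK LD1_c8 LD2_c26 LD3_c22))))))))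
theorem f191738 : Led Lsl_ft (LP (LK LD1_c5 LD2_c17 LD3_c24)) = (LP (LK LD1_c10 LD2_c24 LD3_c21)) :=
  Lre_f IH (LK LD1_c5 LD2_c17 LD3_c24) (LK LD1_c10 LD2_c24 LD3_c21) Lrfl Lrfl
theorem f187202 : Led Lsl_ft (LP (LK LD1_c15 LD2_c50 LD3_c61)) = (LP (LK LD1_c8 LD2_c26 LD3_c22)) :=
  Lre_f IH (LK LD1_c15 LD2_c50 LD3_c61) (LK LD1_c8 LD2_c26 LD3_c22) Lrfl Lrfl
theorem f191739 : Led Lsl_dt (LP (LK LD1_c10 LD2_c24 LD3_c21)) = (LP (LK LD1_c15 LD2_c50 LD3_c61)) :=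
  Lgr Lrot60 (Lpe (f191738 IH) (Lpr_df (f191730 IH) (Lpe (f187202 IH) (Lpn (LP (LK LD1_c15 LD2_c50 LD3_c61))))))
theorem f191743 : Led Lsl_df (LP (LK LD1_c10 LD2_c24 LD3_c21)) = (LP (LK LD1_c15 LD2_c50 LD3_c61)) :=
  Lgr Lrot38 (Lpr_dt (f191739 IH) (Lpn (LP (LK LD1_c15 LD2_c50 LD3_c61))))
theorem f187696 : Led Lsl_bt (LP (LK LD1_c10 LD2_c24 LD3_c21)) = (LP (LK LD1_c18 LD2_c52 LD3_c39)) :=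
  Lre_b IH (LK LD1_c10 LD2_c24 LD3_c21) (LK LD1_c18 LD2_c52 LD3_c39) Lrfl Lrfl
theorem f187111 : Led Lsl_bf (LP (LK LD1_c2 LD2_c8 LD3_c6)) = (LP (LK LD1_c2 LD2_c23 LD3_c23)) :=
  Lgr Lrot24 (Lpr_bt (f187109 IH) (Lpn (LP (LK LD1_c2 LD2_c23 LD3_c23))))
theorem f46483 : Led Lsl_ct (LP (LK LD1_c2 LD2_c8 LD3_c6)) = (LP (LK LD1_c4 LD2_c21 LD3_c5)) :=
  Lre_c IH (LK LD1_c2 LD2_c8 LD3_c6) (LK LD1_c4 LD2_c21 LD3_c5) Lrfl Lrfl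
theorem f187178 : Led Lsl_bt (LP (LK LD1_c2 LD2_c23 LD3_c21)) = (LP (LK LD1_c1 LD2_c8 LD3_c50)) :=
  Lre_b IH (LK LD1_c2 LD2_c23 LD3_c21) (LK LD1_c1 LD2_c8 LD3_c50) Lrfl Lrfl
theorem f187179 : Led Lsl_bt (LP (LK LD1_c4 LD2_c21 LD3_c5)) = (LP (LK LD1_c4 LD2_c13 LD3_c50)) :=
  Lgr Lrot128 (Lpe (f46483 IH) (Lpr_bf (f187111 IH) (Lpe (f33383 IH) (Lpe (f187178 IH) (Lpe (f171172 IH) (Lpn (LP (LK LD1_c4 LD2_c13 LD3_c50))))))))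
theorem f187183 : Led Lsl_et (LP (LK LD1_c2 LD2_c8 LD3_c4)) = (LP (LK LD1_c4 LD2_c21 LD3_c5)) :=
  Lre_e IH (LK LD1_c2 LD2_c8 LD3_c4) (LK LD1_c4 LD2_c21 LD3_c5) Lrfl Lrfl
theorem f187184 : Led Lsl_bf (LP (LK LD1_c2 LD2_c8 LD3_c4)) = (LP (LK LD1_c2 LD2_c4 LD3_c16)) :=
  Lgr Lrot96 (Lpr_et (f187183 IH) (Lpr_bt (f187179 IH) (Lpr_et (f45096 IH) (Lpn (LP (LK LD1_c2 LD2_c4 LD3_c16))))))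
theorem f187187 : Led Lsl_dt (LP (LK LD1_c2 LD2_c8 LD3_c4)) = (LP (LK LD1_c4 LD2_c21 LD3_c4)) :=
  Lre_d IH (LK LD1_c2 LD2_c8 LD3_c4) (LK LD1_c4 LD2_c21 LD3_c4) Lrfl Lrfl
theorem f50876 : Led Lsl_dt (LP (LK LD1_c4 LD2_c13 LD3_c49)) = (LP (LK LD1_c2 LD2_c4 LD3_c16)) :=
  Lre_d IH (LK LD1_c4 LD2_c13 LD3_c49) (LK LD1_c2 LD2_c4 LD3_c16) Lrfl Lrfl
theorem f187188 : Led Lsl_bt (LP (LK LD1_c4 LD2_c21 LD3_c4)) = (LP (LK LD1_c4 LD2_c13 LD3_c49)) :=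
  Lgr Lrot95 (Lpe (f187187 IH) (Lpr_bf (f187184 IH) (Lpe (f50876 IH) (Lpn (LP (LK LD1_c4 LD2_c13 LD3_c49))))))
theorem f187194 : Led Lsl_et (LP (LK LD1_c8 LD2_c39 LD3_c52)) = (LP (LK LD1_c4 LD2_c21 LD3_c4)) :=
  Lre_e IH (LK LD1_c8 LD2_c39 LD3_c52) (LK LD1_c4 LD2_c21 LD3_c4) Lrfl Lrfl
theorem f187195 : Led Lsl_bf (LP (LK LD1_c8 LD2_c39 LD3_c52)) = (LP (LK LD1_c8 LD2_c26 LD3_c22)) :=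
  Lgr Lrot96 (Lpr_et (f187194 IH) (Lpr_bt (f187188 IH) (Lpr_et (f50877 IH) (Lpn (LP (LK LD1_c8 LD2_c26 LD3_c22))))))
theorem f187201 : Led Lsl_ft (LP (LK LD1_c8 LD2_c39 LD3_c52)) = (LP (LK LD1_c16 LD2_c13 LD3_c38)) :=
  Lre_f IH (LK LD1_c8 LD2_c39 LD3_c52) (LK LD1_c16 LD2_c13 LD3_c38) Lrfl Lrfl
theorem f187203 : Led Lsl_bt (LP (LK LD1_c16 LD2_c13 LD3_c38)) = (LP (LK LD1_c15 LD2_c50 LD3_c61)) :=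
  Lgr Lrot35 (Lpe (f187201 IH) (Lpr_bf (f187195 IH) (Lpe (f187202 IH) (Lpn (LP (LK LD1_c15 LD2_c50 LD3_c61))))))
theorem f191746 : Led Lsl_dt (LP (LK LD1_c18 LD2_c52 LD3_c39)) = (LP (LK LD1_c16 LD2_c13 LD3_c38)) :=
  Lgr Lrot79 (Lpe (f187696 IH) (Lpr_df (f191743 IH) (Lpe (f187203 IH) (Lpn (LP (LK LD1_c16 LD2_c13 LD3_c38))))))
theorem f187688 : Led Lsl_ft (LP (LK LD1_c10 LD2_c24 LD3_c18)) = (LP (LK LD1_c18 LD2_c52 LD3_c39)) :=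
  Lre_f IH (LK LD1_c10 LD2_c24 LD3_c18) (LK LD1_c18 LD2_c52 LD3_c39) Lrfl Lrfl
theorem f187207 : Led Lsl_ft (LP (LK LD1_c16 LD2_c13 LD3_c38)) = (LP (LK LD1_c8 LD2_c39 LD3_c52)) :=
  Lre_f IH (LK LD1_c16 LD2_c13 LD3_c38) (LK LD1_c8 LD2_c39 LD3_c52) Lrfl Lrfl
theorem f191748 : Led Lsl_df (LP (LK LD1_c10 LD2_c24 LD3_c18)) = (LP (LK LD1_c8 LD2_c39 LD3_c52)) :=
  Lgr Lrot78 (Lpr_ft (f187688 IH) (Lpr_dt (f191746 IH) (Lpr_ft (f187207 IH) (Lpn (LP (LK LD1_c8 LD2_c39 LD3_c52))))))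
theorem f187675 : Led Lsl_et (LP (LK LD1_c10 LD2_c24 LD3_c18)) = (LP (LK LD1_c5 LD2_c17 LD3_c23)) :=
  Lre_e IH (LK LD1_c10 LD2_c24 LD3_c18) (LK LD1_c5 LD2_c17 LD3_c23) Lrfl Lrfl
theorem f187210 : Led Lsl_et (LP (LK LD1_c4 LD2_c21 LD3_c4)) = (LP (LK LD1_c8 LD2_c39 LD3_c52)) :=
  Lre_e IH (LK LD1_c4 LD2_c21 LD3_c4) (LK LD1_c8 LD2_c39 LD3_c52) Lrfl Lrfl
theorem f187217 : Led Lsl_et (LP (LK LD1_c4 LD2_c21 LD3_c5)) = (LP (LK LD1_c2 LD2_c8 LD3_c4)) :=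
  Lre_e IH (LK LD1_c4 LD2_c21 LD3_c5) (LK LD1_c2 LD2_c8 LD3_c4) Lrfl Lrfl
theorem f191751 : Led Lsl_dt (LP (LK LD1_c5 LD2_c17 LD3_c23)) = (LP (LK LD1_c4 LD2_c21 LD3_c5)) :=
  Lgr Lrot77 (Lpe (f187675 IH) (Lpr_df (f191748 IH) (Lpe (f187210 IH) (Lpe (f187187 IH) (Lpe (f187217 IH) (Lpn (LP (LK LD1_c4 LD2_c21 LD3_c5))))))))
theorem f27573 : Led Lsl_dt (LP (LK LD1_c2 LD2_c23 LD3_c5)) = (LP (LK LD1_c4 LD2_c50 LD3_c37)) :=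
  Lre_d IH (LK LD1_c2 LD2_c23 LD3_c5) (LK LD1_c4 LD2_c50 LD3_c37) Lrfl Lrfl
theorem f191753 : Led Lsl_gf (LP (LK LD1_c5 LD2_c17 LD3_c23)) = (LP (LK LD1_c4 LD2_c50 LD3_c37)) :=
  Lgr Lrot143 (Lpr_dt (f191751 IH) (Lpe (f46483 IH) (Lpe (f45750 IH) (Lpr_gf (f46405 IH) (Lpe (f45985 IH) (Lpe (K9.f46478 IH) (Lpr_cf (K9.f179063 IH) (Lpr_gt (f191011 IH) (Lpr_dt (f27573 IH) (Lpn (LP (LK LD1_c4 LD2_c50 LD3_c37))))))))))))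
theorem f189293 : Led Lsl_bt (LP (LK LD1_c2 LD2_c23 LD3_c10)) = (LP (LK LD1_c4 LD2_c50 LD3_c37)) :=
  Lre_b IH (LK LD1_c2 LD2_c23 LD3_c10) (LK LD1_c4 LD2_c50 LD3_c37) Lrfl Lrfl
theorem f51369 : Led Lsl_ct (LP (LK LD1_c1 LD2_c58 LD3_c34)) = (LP (LK LD1_c4 LD2_c3 LD3_c8)) :=
  Lre_c IH (LK LD1_c1 LD2_c58 LD3_c34) (LK LD1_c4 LD2_c3 LD3_c8) Lrfl Lrfl
theorem f194383 : Led Lsl_gf (LP (LK LD1_c4 LD2_c50 LD3_c45)) = (LP (LK LD1_c4 LD2_c3 LD3_c8)) :=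
  Lgr Lrot129 (Lpe (f27590 IH) (Lpr_bt (f189293 IH) (Lpe (f191753 IH) (Lpe (f187671 IH) (Lpr_ct (f194368 IH) (Lpr_gt (f51363 IH) (Lpe (K9.f49799 IH) (Lpe (f50300 IH) (Lpr_gt (f28818 IH) (Lpr_ct (f51369 IH) (Lpn (LP (LK LD1_c4 LD2_c3 LD3_c8)))))))))))))
theorem f50807 : Led Lsl_gt (LP (LK LD1_c0 LD2_c25 LD3_c28)) = (LP (LK LD1_c0 LD2_c56 LD3_c6)) :=
  Lre_g IH (LK LD1_c0 LD2_c25 LD3_c28) (LK LD1_c0 LD2_c56 LD3_c6) Lrfl Lrfl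
theorem f194390 : Led Lsl_cf (LP (LK LD1_c1 LD2_c57 LD3_c18)) = (LP (LK LD1_c0 LD2_c56 LD3_c6)) :=
  Lgr Lrot169 (Lpr_gt (f28055 IH) (Lpr_ct (f50979 IH) (Lpe (f27563 IH) (Lpe (K0.f27603 IH) (Lpr_gf (f194383 IH) (Lpe (f51369 IH) (Lpe (f28818 IH) (Lpe (K9.f28817 IH) (Lpr_gt (f50807 IH) (Lpn (LP (LK LD1_c0 LD2_c56 LD3_c6))))))))))))
theorem f192512 : Led Lsl_et (LP (LK LD1_c1 LD2_c57 LD3_c18)) = (LP (LK LD1_c4 LD2_c1 LD3_c0)) :=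
  Lre_e IH (LK LD1_c1 LD2_c57 LD3_c18) (LK LD1_c4 LD2_c1 LD3_c0) Lrfl Lrfl
theorem f28071 : Led Lsl_et (LP (LK LD1_c1 LD2_c58 LD3_c30)) = (LP (LK LD1_c0 LD2_c56 LD3_c6)) :=
  Lre_e IH (LK LD1_c1 LD2_c58 LD3_c30) (LK LD1_c0 LD2_c56 LD3_c6) Lrfl Lrfl
theorem f194411 : Led Lsl_ct (LP (LK LD1_c4 LD2_c1 LD3_c0)) = (LP (LK LD1_c1 LD2_c58 LD3_c30)) :=
  Lgr Lrot15 (Lpe (f192512 IH) (Lpr_cf (f194390 IH) (Lpe (f28071 IH) (Lpn (LP (LK LD1_c1 LD2_c58 LD3_c30))))))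
theorem f194597 : Led Lsl_cf (LP (LK LD1_c4 LD2_c1 LD3_c0)) = (LP (LK LD1_c1 LD2_c58 LD3_c30)) :=
  Lgr Lrot11 (Lpr_ct (f194411 IH) (Lpn (LP (LK LD1_c1 LD2_c58 LD3_c30))))
theorem f182102 : Led Lsl_et (LP (LK LD1_c2 LD2_c58 LD3_c30)) = (LP (LK LD1_c1 LD2_c24 LD3_c59)) :=
  Lre_e IH (LK LD1_c2 LD2_c58 LD3_c30) (LK LD1_c1 LD2_c24 LD3_c59) Lrfl Lrfl
theorem f192513 : Led Lsl_bt (LP (LK LD1_c4 LD2_c1 LD3_c0)) = (LP (LK LD1_c2 LD2_c58 LD3_c30)) :=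
  Lgr Lrot119 (Lpe (f192512 IH) (Lpr_bf (f192489 IH) (Lpe (f182102 IH) (Lpn (LP (LK LD1_c2 LD2_c58 LD3_c30))))))
theorem f42165 : Led Lsl_ct (LP (LK LD1_c2 LD2_c58 LD3_c30)) = (LP (LK LD1_c1 LD2_c24 LD3_c61)) :=
  Lre_c IH (LK LD1_c2 LD2_c58 LD3_c30) (LK LD1_c1 LD2_c24 LD3_c61) Lrfl Lrfl
theorem f46448 : Led Lsl_ct (LP (LK LD1_c2 LD2_c36 LD3_c49)) = (LP (LK LD1_c1 LD2_c15 LD3_c23)) :=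
  Lre_c IH (LK LD1_c2 LD2_c36 LD3_c49) (LK LD1_c1 LD2_c15 LD3_c23) Lrfl Lrfl
theorem f42211 : Led Lsl_dt (LP (LK LD1_c1 LD2_c15 LD3_c23)) = (LP (LK LD1_c0 LD2_c34 LD3_c59)) :=
  Lre_d IH (LK LD1_c1 LD2_c15 LD3_c23) (LK LD1_c0 LD2_c34 LD3_c59) Lrfl Lrfl
theorem f44244 : Led Lsl_gt (LP (LK LD1_c2 LD2_c10 LD3_c45)) = (LP (LK LD1_c1 LD2_c2 LD3_c23)) :=
  Lre_g IH (LK LD1_c2 LD2_c10 LD3_c45) (LK LD1_c1 LD2_c2 LD3_c23) Lrfl Lrfl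
theorem f46441 : Led Lsl_at (LP (LK LD1_c0 LD2_c34 LD3_c59)) = (LP (LK LD1_c0 LD2_c15 LD3_c47)) :=
  Lre_a IH (LK LD1_c0 LD2_c34 LD3_c59) (LK LD1_c0 LD2_c15 LD3_c47) Lrfl Lrfl
theorem f46442 : Led Lsl_af (LP (LK LD1_c1 LD2_c2 LD3_c23)) = (LP (LK LD1_c0 LD2_c35 LD3_c5)) :=
  Lgr Lrot68 (Lpr_ct (K9.f46427 IH) (Lpr_at (f46441 IH) (Lpr_ct (f44632 IH) (Lpn (LP (LK LD1_c0 LD2_c35 LD3_c5))))))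
theorem f46477 : Led Lsl_ft (LP (LK LD1_c1 LD2_c15 LD3_c40)) = (LP (LK LD1_c0 LD2_c35 LD3_c5)) :=
  Lre_f IH (LK LD1_c1 LD2_c15 LD3_c40) (LK LD1_c0 LD2_c35 LD3_c5) Lrfl Lrfl
theorem f46484 : Led Lsl_gf (LP (LK LD1_c2 LD2_c10 LD3_c45)) = (LP (LK LD1_c1 LD2_c15 LD3_c40)) :=
  Lgr Lrot47 (Lpr_gt (f44244 IH) (Lpr_af (f46442 IH) (Lpe (f46477 IH) (Lpn (LP (LK LD1_c1 LD2_c15 LD3_c40))))))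
theorem f32092 : Led Lsl_bt (LP (LK LD1_c2 LD2_c35 LD3_c24)) = (LP (LK LD1_c1 LD2_c14 LD3_c45)) :=
  Lre_b IH (LK LD1_c2 LD2_c35 LD3_c24) (LK LD1_c1 LD2_c14 LD3_c45) Lrfl Lrfl
theorem f182070 : Led Lsl_cf (LP (LK LD1_c2 LD2_c10 LD3_c45)) = (LP (LK LD1_c2 LD2_c35 LD3_c24)) :=
  Lgr Lrot58 (Lpr_gf (f46484 IH) (Lpe (K1.f45813 IH) (Lpr_bt (K9.f7661 IH) (Lpe (K9.f181193 IH) (Lpe (f181172 IH) (Lpr_ct (f182040 IH) (Lpe (f32251 IH) (Lpe (K0.f32062 IH) (Lpe (f32091 IH) (Lpe (f32092 IH) (Lpn (LP (LK LD1_c2 LD2_c35 LD3_c24)))))))))))))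
theorem f191757 : Led Lsl_gf (LP (LK LD1_c2 LD2_c35 LD3_c24)) = (LP (LK LD1_c2 LD2_c23 LD3_c5)) :=
  Lgr Lrot147 (Lpe (f182070 IH) (Lpr_gt (f44244 IH) (Lpr_ct (K9.f46427 IH) (Lpe (f42211 IH) (Lpe (f46448 IH) (Lpe (f46449 IH) (Lpr_cf (f187665 IH) (Lpr_gf (f191753 IH) (Lpe (f27573 IH) (Lpn (LP (LK LD1_c2 LD2_c23 LD3_c5))))))))))))
theorem f46152 : Led Lsl_bt (LP (LK LD1_c0 LD2_c28 LD3_c28)) = (LP (LK LD1_c1 LD2_c2 LD3_c23)) :=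
  Lre_b IH (LK LD1_c0 LD2_c28 LD3_c28) (LK LD1_c1 LD2_c2 LD3_c23) Lrfl Lrfl
theorem f183848 : Led Lsl_bf (LP (LK LD1_c0 LD2_c39 LD3_c8)) = (LP (LK LD1_c0 LD2_c34 LD3_c59)) :=
  Lgr Lrot90 (Lpr_ct (K9.f183845 IH) (Lpe (K1.f47834 IH) (Lpr_ct (K1.f46212 IH) (Lpr_bt (f46152 IH) (Lpr_ct (K9.f46427 IH) (Lpn (LP (LK LD1_c0 LD2_c34 LD3_c59))))))))
theorem f194414 : Led Lsl_bf (LP (LK LD1_c1 LD2_c24 LD3_c54)) = (LP (LK LD1_c0 LD2_c56 LD3_c6)) :=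
  Lgr Lrot34 (Lpe (K1.f41756 IH) (Lpr_bf (f183848 IH) (Lpr_ct (K9.f44295 IH) (Lpe (f44244 IH) (Lpr_cf (f182070 IH) (Lpr_gf (f191757 IH) (Lpe (f27557 IH) (Lpr_ct (f50931 IH) (Lpe (f28055 IH) (Lpr_cf (f194390 IH) (Lpn (LP (LK LD1_c0 LD2_c56 LD3_c6)))))))))))))
theorem f42555 : Led Lsl_ef (LP (LK LD1_c1 LD2_c16 LD3_c18)) = (LP (LK LD1_c1 LD2_c24 LD3_c54)) :=
  Lgr Lrot88 (Lpr_et (K1.f42538 IH) (Lpn (LP (LK LD1_c1 LD2_c24 LD3_c54))))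
theorem f194418 : Led Lsl_bt (LP (LK LD1_c1 LD2_c16 LD3_c18)) = (LP (LK LD1_c1 LD2_c58 LD3_c30)) :=
  Lgr Lrot119 (Lpr_ef (f42555 IH) (Lpr_bf (f194414 IH) (Lpe (f28071 IH) (Lpn (LP (LK LD1_c1 LD2_c58 LD3_c30))))))
theorem f42551 : Led Lsl_ct (LP (LK LD1_c2 LD2_c38 LD3_c54)) = (LP (LK LD1_c1 LD2_c16 LD3_c18)) :=
  Lre_c IH (LK LD1_c2 LD2_c38 LD3_c54) (LK LD1_c1 LD2_c16 LD3_c18) Lrfl Lrfl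
theorem f194599 : Led Lsl_bt (LP (LK LD1_c1 LD2_c24 LD3_c61)) = (LP (LK LD1_c2 LD2_c38 LD3_c54)) :=
  Lgr Lrot128 (Lpe (f42165 IH) (Lpe (f192513 IH) (Lpr_cf (f194597 IH) (Lpe (f194418 IH) (Lpe (f42551 IH) (Lpn (LP (LK LD1_c2 LD2_c38 LD3_c54))))))))
theorem f42158 : Led Lsl_dt (LP (LK LD1_c0 LD2_c15 LD3_c51)) = (LP (LK LD1_c0 LD2_c35 LD3_c21)) :=
  Lre_d IH (LK LD1_c0 LD2_c15 LD3_c51) (LK LD1_c0 LD2_c35 LD3_c21) Lrfl Lrfl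
theorem f41809 : Led Lsl_et (LP (LK LD1_c1 LD2_c24 LD3_c61)) = (LP (LK LD1_c0 LD2_c39 LD3_c9)) :=
  Lre_e IH (LK LD1_c1 LD2_c24 LD3_c61) (LK LD1_c0 LD2_c39 LD3_c9) Lrfl Lrfl
theorem f42160 : Led Lsl_df (LP (LK LD1_c1 LD2_c15 LD3_c32)) = (LP (LK LD1_c1 LD2_c24 LD3_c61)) :=
  Lgr Lrot132 (Lpe (K9.f42159 IH) (Lpe (f42158 IH) (Lpe (K9.f42157 IH) (Lpe (K9.f42134 IH) (Lpr_dt (K9.f42135 IH) (Lpe (K9.f41807 IH) (Lpe (K9.f41806 IH) (Lpr_et (K1.f41795 IH) (Lpe (K9.f41808 IH) (Lpe (f41809 IH) (Lpn (LP (LK LD1_c1 LD2_c24 LD3_c61)))))))))))))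
theorem f42166 : Led Lsl_dt (LP (LK LD1_c1 LD2_c15 LD3_c32)) = (LP (LK LD1_c1 LD2_c24 LD3_c61)) :=
  Lgr Lrot42 (Lpr_df (f42160 IH) (Lpn (LP (LK LD1_c1 LD2_c24 LD3_c61))))
theorem f194603 : Led Lsl_df (LP (LK LD1_c2 LD2_c37 LD3_c2)) = (LP (LK LD1_c2 LD2_c38 LD3_c54)) :=
  Lgr Lrot12 (Lpr_bt (K9.f41272 IH) (Lpr_dt (f42166 IH) (Lpr_bt (f194599 IH) (Lpn (LP (LK LD1_c2 LD2_c38 LD3_c54))))))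
theorem f194605 : Led Lsl_dt (LP (LK LD1_c2 LD2_c37 LD3_c2)) = (LP (LK LD1_c2 LD2_c38 LD3_c54)) :=
  Lgr Lrot42 (Lpr_df (f194603 IH) (Lpn (LP (LK LD1_c2 LD2_c38 LD3_c54))))
theorem f42560 : Led Lsl_ct (LP (LK LD1_c1 LD2_c16 LD3_c18)) = (LP (LK LD1_c2 LD2_c38 LD3_c54)) :=
  Lre_c IH (LK LD1_c1 LD2_c16 LD3_c18) (LK LD1_c2 LD2_c38 LD3_c54) Lrfl Lrfl
theorem f41480 : Led Lsl_dt (LP (LK LD1_c0 LD2_c35 LD3_c19)) = (LP (LK LD1_c1 LD2_c16 LD3_c18)) :=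
  Lre_d IH (LK LD1_c0 LD2_c35 LD3_c19) (LK LD1_c1 LD2_c16 LD3_c18) Lrfl Lrfl
theorem f171878 : Led Lsl_ct (LP (LK LD1_c0 LD2_c35 LD3_c11)) = (LP (LK LD1_c0 LD2_c15 LD3_c48)) :=
  Lre_c IH (LK LD1_c0 LD2_c35 LD3_c11) (LK LD1_c0 LD2_c15 LD3_c48) Lrfl Lrfl
theorem f172015 : Led Lsl_gt (LP (LK LD1_c0 LD2_c35 LD3_c11)) = (LP (LK LD1_c1 LD2_c15 LD3_c53)) :=
  Lre_g IH (LK LD1_c0 LD2_c35 LD3_c11) (LK LD1_c1 LD2_c15 LD3_c53) Lrfl Lrfl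
theorem f172029 : Led Lsl_dt (LP (LK LD1_c1 LD2_c15 LD3_c53)) = (LP (LK LD1_c2 LD2_c37 LD3_c46)) :=
  Lre_d IH (LK LD1_c1 LD2_c15 LD3_c53) (LK LD1_c2 LD2_c37 LD3_c46) Lrfl Lrfl
theorem f194616 : Led Lsl_gf (LP (LK LD1_c2 LD2_c37 LD3_c2)) = (LP (LK LD1_c2 LD2_c37 LD3_c46)) :=
  Lgr Lrot143 (Lpr_dt (f194605 IH) (Lpe (f42560 IH) (Lpe (f41480 IH) (Lpe (K1.f41430 IH) (Lpe (K1.f41422 IH) (Lpe (K1.f41432 IH) (Lpe (f171878 IH) (Lpr_gt (f172015 IH) (Lpr_dt (f172029 IH) (Lpn (LP (LK LD1_c2 LD2_c37 LD3_c46))))))))))))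
theorem f194178 : Led Lsl_et (LP (LK LD1_c2 LD2_c38 LD3_c54)) = (LP (LK LD1_c1 LD2_c24 LD3_c58)) :=
  Lgr Lrot158 (Lpe (f42560 IH) (Lpr_ef (f42555 IH) (Lpr_cf (f194172 IH) (Lpn (LP (LK LD1_c1 LD2_c24 LD3_c58))))))
theorem f194182 : Led Lsl_gf (LP (LK LD1_c2 LD2_c4 LD3_c57)) = (LP (LK LD1_c1 LD2_c24 LD3_c58)) :=
  Lgr Lrot76 (Lpe (f54273 IH) (Lpe (K0.f28669 IH) (Lpr_gt (f194180 IH) (Lpn (LP (LK LD1_c1 LD2_c24 LD3_c58))))))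
theorem f194626 : Led Lsl_et (LP (LK LD1_c1 LD2_c15 LD3_c56)) = (LP (LK LD1_c0 LD2_c35 LD3_c11)) :=
  Lre_e IH (LK LD1_c1 LD2_c15 LD3_c56) (LK LD1_c0 LD2_c35 LD3_c11) Lrfl Lrfl
theorem f194627 : Led Lsl_dt (LP (LK LD1_c1 LD2_c15 LD3_c56)) = (LP (LK LD1_c2 LD2_c37 LD3_c54)) :=
  Lre_d IH (LK LD1_c1 LD2_c15 LD3_c56) (LK LD1_c2 LD2_c37 LD3_c54) Lrfl Lrfl
theorem f194628 : Led Lsl_gt (LP (LK LD1_c4 LD2_c15 LD3_c6)) = (LP (LK LD1_c2 LD2_c37 LD3_c54)) :=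
  Lgr Lrot112 (Lpe (K9.f45610 IH) (Lpr_et (f45611 IH) (Lpr_gf (f194182 IH) (Lpe (f194178 IH) (Lpe (f194603 IH) (Lpr_gf (f194616 IH) (Lpe (f172029 IH) (Lpe (f172015 IH) (Lpe (f194626 IH) (Lpr_dt (f194627 IH) (Lpn (LP (LK LD1_c2 LD2_c37 LD3_c54)))))))))))))
theorem f45178 : Led Lsl_bt (LP (LK LD1_c2 LD2_c5 LD3_c0)) = (LP (LK LD1_c4 LD2_c15 LD3_c6)) :=
  Lre_b IH (LK LD1_c2 LD2_c5 LD3_c0) (LK LD1_c4 LD2_c15 LD3_c6) Lrfl Lrfl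
theorem f45516 : Led Lsl_gt (LP (LK LD1_c2 LD2_c4 LD3_c53)) = (LP (LK LD1_c4 LD2_c14 LD3_c59)) :=
  Lre_g IH (LK LD1_c2 LD2_c4 LD3_c53) (LK LD1_c4 LD2_c14 LD3_c59) Lrfl Lrfl
theorem f45517 : Led Lsl_gf (LP (LK LD1_c4 LD2_c15 LD3_c17)) = (LP (LK LD1_c4 LD2_c14 LD3_c59)) :=
  Lgr Lrot76 (Lpr_af (f45502 IH) (Lpe (f45501 IH) (Lpr_gt (f45516 IH) (Lpn (LP (LK LD1_c4 LD2_c14 LD3_c59))))))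
theorem f49884 : Led Lsl_gt (LP (LK LD1_c2 LD2_c4 LD3_c19)) = (LP (LK LD1_c4 LD2_c13 LD3_c54)) :=
  Lre_g IH (LK LD1_c2 LD2_c4 LD3_c19) (LK LD1_c4 LD2_c13 LD3_c54) Lrfl Lrfl
theorem f45241 : Led Lsl_ct (LP (LK LD1_c1 LD2_c14 LD3_c16)) = (LP (LK LD1_c0 LD2_c34 LD3_c27)) :=
  Lre_c IH (LK LD1_c1 LD2_c14 LD3_c16) (LK LD1_c0 LD2_c34 LD3_c27) Lrfl Lrfl
theorem f189726 : Led Lsl_ct (LP (LK LD1_c4 LD2_c13 LD3_c54)) = (LP (LK LD1_c4 LD2_c14 LD3_c59)) :=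
  Lgr Lrot152 (Lpe (f49884 IH) (Lpe (f45728 IH) (Lpr_gt (f189720 IH) (Lpr_ct (f45241 IH) (Lpr_gt (f32340 IH) (Lpr_ct (f45229 IH) (Lpe (K1.f45154 IH) (Lpe (K1.f45195 IH) (Lpr_gf (f45517 IH) (Lpn (LP (LK LD1_c4 LD2_c14 LD3_c59))))))))))))
theorem f43274 : Led Lsl_bt (LP (LK LD1_c0 LD2_c59 LD3_c17)) = (LP (LK LD1_c2 LD2_c4 LD3_c19)) :=
  Lre_b IH (LK LD1_c0 LD2_c59 LD3_c17) (LK LD1_c2 LD2_c4 LD3_c19) Lrfl Lrfl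
theorem f28072 : Led Lsl_gt (LP (LK LD1_c4 LD2_c1 LD3_c3)) = (LP (LK LD1_c1 LD2_c58 LD3_c35)) :=
  Lre_g IH (LK LD1_c4 LD2_c1 LD3_c3) (LK LD1_c1 LD2_c58 LD3_c35) Lrfl Lrfl
theorem f30985 : Led Lsl_ct (LP (LK LD1_c1 LD2_c58 LD3_c35)) = (LP (LK LD1_c4 LD2_c3 LD3_c11)) :=
  Lre_c IH (LK LD1_c1 LD2_c58 LD3_c35) (LK LD1_c4 LD2_c3 LD3_c11) Lrfl Lrfl
theorem f192199 : Led Lsl_gt (LP (LK LD1_c4 LD2_c3 LD3_c11)) = (LP (LK LD1_c2 LD2_c4 LD3_c34)) :=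
  Lgr Lrot150 (Lpe (f30985 IH) (Lpe (f28072 IH) (Lpe (f28057 IH) (Lpr_gt (f28064 IH) (Lpr_ct (f192191 IH) (Lpe (f187849 IH) (Lpr_ct (f27918 IH) (Lpe (f50907 IH) (Lpe (f27647 IH) (Lpn (LP (LK LD1_c2 LD2_c4 LD3_c34))))))))))))
theorem f194642 : Led Lsl_bt (LP (LK LD1_c1 LD2_c58 LD3_c35)) = (LP (LK LD1_c2 LD2_c37 LD3_c54)) :=
  Lgr Lrot92 (Lpr_ct (f30985 IH) (Lpr_gt (f192199 IH) (Lpe (f27599 IH) (Lpr_bt (f43274 IH) (Lpr_gt (f49884 IH) (Lpr_ct (f189726 IH) (Lpe (f45517 IH) (Lpe (K1.f45180 IH) (Lpr_bt (f45178 IH) (Lpr_gt (f194628 IH) (Lpn (LP (LK LD1_c2 LD2_c37 LD3_c54)))))))))))))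
theorem f28081 : Led Lsl_et (LP (LK LD1_c4 LD2_c3 LD3_c12)) = (LP (LK LD1_c1 LD2_c58 LD3_c35)) :=
  Lre_e IH (LK LD1_c4 LD2_c3 LD3_c12) (LK LD1_c1 LD2_c58 LD3_c35) Lrfl Lrfl
theorem f194693 : Led Lsl_et (LP (LK LD1_c2 LD2_c37 LD3_c54)) = (LP (LK LD1_c5 LD2_c22 LD3_c40)) :=
  Lre_e IH (LK LD1_c2 LD2_c37 LD3_c54) (LK LD1_c5 LD2_c22 LD3_c40) Lrfl Lrfl
theorem f194694 : Led Lsl_bf (LP (LK LD1_c4 LD2_c3 LD3_c12)) = (LP (LK LD1_c5 LD2_c22 LD3_c40)) :=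
  Lgr Lrot96 (Lpr_et (f28081 IH) (Lpr_bt (f194642 IH) (Lpr_et (f194693 IH) (Lpn (LP (LK LD1_c5 LD2_c22 LD3_c40))))))
theorem f194709 : Led Lsl_ft (LP (LK LD1_c4 LD2_c3 LD3_c12)) = (LP (LK LD1_c8 LD2_c6 LD3_c60)) :=
  Lre_f IH (LK LD1_c4 LD2_c3 LD3_c12) (LK LD1_c8 LD2_c6 LD3_c60) Lrfl Lrfl
theorem f194710 : Led Lsl_ft (LP (LK LD1_c10 LD2_c35 LD3_c43)) = (LP (LK LD1_c5 LD2_c22 LD3_c40)) :=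
  Lre_f IH (LK LD1_c10 LD2_c35 LD3_c43) (LK LD1_c5 LD2_c22 LD3_c40) Lrfl Lrfl
theorem f194711 : Led Lsl_bt (LP (LK LD1_c8 LD2_c6 LD3_c60)) = (LP (LK LD1_c10 LD2_c35 LD3_c43)) :=
  Lgr Lrot35 (Lpe (f194709 IH) (Lpr_bf (f194694 IH) (Lpe (f194710 IH) (Lpn (LP (LK LD1_c10 LD2_c35 LD3_c43))))))
theorem f194727 : Led Lsl_dt (LP (LK LD1_c10 LD2_c35 LD3_c43)) = (LP (LK LD1_c5 LD2_c22 LD3_c41)) :=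
  Lre_d IH (LK LD1_c10 LD2_c35 LD3_c43) (LK LD1_c5 LD2_c22 LD3_c41) Lrfl Lrfl
theorem f194728 : Led Lsl_bt (LP (LK LD1_c5 LD2_c22 LD3_c41)) = (LP (LK LD1_c10 LD2_c35 LD3_c21)) :=
  Lre_b IH (LK LD1_c5 LD2_c22 LD3_c41) (LK LD1_c10 LD2_c35 LD3_c21) Lrfl Lrfl
theorem f194729 : Led Lsl_df (LP (LK LD1_c8 LD2_c6 LD3_c60)) = (LP (LK LD1_c10 LD2_c35 LD3_c21)) :=
  Lgr Lrot12 (Lpr_bt (f194711 IH) (Lpr_dt (f194727 IH) (Lpr_bt (f194728 IH) (Lpn (LP (LK LD1_c10 LD2_c35 LD3_c21))))))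
theorem f194733 : Led Lsl_dt (LP (LK LD1_c8 LD2_c6 LD3_c60)) = (LP (LK LD1_c10 LD2_c35 LD3_c21)) :=
  Lgr Lrot42 (Lpr_df (f194729 IH) (Lpn (LP (LK LD1_c10 LD2_c35 LD3_c21))))
theorem f194737 : Led Lsl_ft (LP (LK LD1_c10 LD2_c35 LD3_c21)) = (LP (LK LD1_c5 LD2_c22 LD3_c29)) :=
  Lre_f IH (LK LD1_c10 LD2_c35 LD3_c21) (LK LD1_c5 LD2_c22 LD3_c29) Lrfl Lrfl
theorem f194742 : Led Lsl_df (LP (LK LD1_c4 LD2_c3 LD3_c12)) = (LP (LK LD1_c5 LD2_c22 LD3_c29)) :=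
  Lgr Lrot78 (Lpr_ft (f194709 IH) (Lpr_dt (f194733 IH) (Lpr_ft (f194737 IH) (Lpn (LP (LK LD1_c5 LD2_c22 LD3_c29))))))
theorem f194747 : Led Lsl_et (LP (LK LD1_c2 LD2_c37 LD3_c47)) = (LP (LK LD1_c5 LD2_c22 LD3_c29)) :=
  Lre_e IH (LK LD1_c2 LD2_c37 LD3_c47) (LK LD1_c5 LD2_c22 LD3_c29) Lrfl Lrfl
theorem f172027 : Led Lsl_dt (LP (LK LD1_c1 LD2_c15 LD3_c54)) = (LP (LK LD1_c2 LD2_c37 LD3_c47)) :=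
  Lre_d IH (LK LD1_c1 LD2_c15 LD3_c54) (LK LD1_c2 LD2_c37 LD3_c47) Lrfl Lrfl
theorem f172002 : Led Lsl_et (LP (LK LD1_c2 LD2_c37 LD3_c48)) = (LP (LK LD1_c1 LD2_c15 LD3_c54)) :=
  Lre_e IH (LK LD1_c2 LD2_c37 LD3_c48) (LK LD1_c1 LD2_c15 LD3_c54) Lrfl Lrfl
theorem f194748 : Led Lsl_dt (LP (LK LD1_c1 LD2_c58 LD3_c35)) = (LP (LK LD1_c2 LD2_c37 LD3_c48)) :=
  Lgr Lrot77 (Lpe (f28081 IH) (Lpr_df (f194742 IH) (Lpe (f194747 IH) (Lpe (f172027 IH) (Lpe (f172002 IH) (Lpn (LP (LK LD1_c2 LD2_c37 LD3_c48))))))))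
theorem f28070 : Led Lsl_gt (LP (LK LD1_c0 LD2_c56 LD3_c6)) = (LP (LK LD1_c1 LD2_c57 LD3_c20)) :=
  Lre_g IH (LK LD1_c0 LD2_c56 LD3_c6) (LK LD1_c1 LD2_c57 LD3_c20) Lrfl Lrfl
theorem f171990 : Led Lsl_ct (LP (LK LD1_c1 LD2_c15 LD3_c52)) = (LP (LK LD1_c1 LD2_c15 LD3_c27)) :=
  Lgr Lrot59 (Lpr_cf (K9.f171891 IH) (Lpn (LP (LK LD1_c1 LD2_c15 LD3_c27))))
theorem f171996 : Led Lsl_bt (LP (LK LD1_c0 LD2_c35 LD3_c13)) = (LP (LK LD1_c1 LD2_c15 LD3_c52)) :=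
  Lre_b IH (LK LD1_c0 LD2_c35 LD3_c13) (LK LD1_c1 LD2_c15 LD3_c52) Lrfl Lrfl
theorem f42528 : Led Lsl_ct (LP (LK LD1_c1 LD2_c15 LD3_c56)) = (LP (LK LD1_c0 LD2_c35 LD3_c13)) :=
  Lre_c IH (LK LD1_c1 LD2_c15 LD3_c56) (LK LD1_c0 LD2_c35 LD3_c13) Lrfl Lrfl
theorem f171997 : Led Lsl_bt (LP (LK LD1_c2 LD2_c37 LD3_c48)) = (LP (LK LD1_c1 LD2_c15 LD3_c56)) :=
  Lre_b IH (LK LD1_c2 LD2_c37 LD3_c48) (LK LD1_c1 LD2_c15 LD3_c56) Lrfl Lrfl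
theorem f42460 : Led Lsl_bt (LP (LK LD1_c1 LD2_c15 LD3_c27)) = (LP (LK LD1_c2 LD2_c36 LD3_c52)) :=
  Lre_b IH (LK LD1_c1 LD2_c15 LD3_c27) (LK LD1_c2 LD2_c36 LD3_c52) Lrfl Lrfl
theorem f171998 : Led Lsl_cf (LP (LK LD1_c2 LD2_c37 LD3_c48)) = (LP (LK LD1_c2 LD2_c36 LD3_c52)) :=
  Lgr Lrot97 (Lpr_bt (f171997 IH) (Lpr_ct (f42528 IH) (Lpr_bt (f171996 IH) (Lpr_ct (f171990 IH) (Lpr_bt (f42460 IH) (Lpn (LP (LK LD1_c2 LD2_c36 LD3_c52))))))))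
theorem f42137 : Led Lsl_bt (LP (LK LD1_c2 LD2_c36 LD3_c52)) = (LP (LK LD1_c1 LD2_c15 LD3_c27)) :=
  Lre_b IH (LK LD1_c2 LD2_c36 LD3_c52) (LK LD1_c1 LD2_c15 LD3_c27) Lrfl Lrfl
theorem f42138 : Led Lsl_bt (LP (LK LD1_c1 LD2_c25 LD3_c5)) = (LP (LK LD1_c2 LD2_c58 LD3_c42)) :=
  Lre_b IH (LK LD1_c1 LD2_c25 LD3_c5) (LK LD1_c2 LD2_c58 LD3_c42) Lrfl Lrfl
theorem f42139 : Led Lsl_df (LP (LK LD1_c2 LD2_c36 LD3_c52)) = (LP (LK LD1_c2 LD2_c58 LD3_c42)) :=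
  Lgr Lrot12 (Lpr_bt (f42137 IH) (Lpr_dt (K9.f42135 IH) (Lpr_bt (f42138 IH) (Lpn (LP (LK LD1_c2 LD2_c58 LD3_c42))))))
theorem f194753 : Led Lsl_gt (LP (LK LD1_c1 LD2_c58 LD3_c37)) = (LP (LK LD1_c2 LD2_c58 LD3_c42)) :=
  Lgr Lrot49 (Lpe (f28031 IH) (Lpe (f28055 IH) (Lpr_cf (f194390 IH) (Lpr_gt (f28070 IH) (Lpr_dt (f28057 IH) (Lpr_gt (f28072 IH) (Lpr_dt (f194748 IH) (Lpr_cf (f171998 IH) (Lpr_df (f42139 IH) (Lpn (LP (LK LD1_c2 LD2_c58 LD3_c42))))))))))))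
theorem f1614 : Led Lsl_dt (LP (LK LD1_c0 LD2_c31 LD3_c25)) = (LP (LK LD1_c1 LD2_c8 LD3_c41)) :=
  Lre_d IH (LK LD1_c0 LD2_c31 LD3_c25) (LK LD1_c1 LD2_c8 LD3_c41) Lrfl Lrfl
theorem f27659 : Led Lsl_ct (LP (LK LD1_c2 LD2_c23 LD3_c9)) = (LP (LK LD1_c1 LD2_c8 LD3_c41)) :=
  Lre_c IH (LK LD1_c2 LD2_c23 LD3_c9) (LK LD1_c1 LD2_c8 LD3_c41) Lrfl Lrfl
theorem f27671 : Led Lsl_gt (LP (LK LD1_c4 LD2_c50 LD3_c42)) = (LP (LK LD1_c2 LD2_c23 LD3_c9)) :=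
  Lre_g IH (LK LD1_c4 LD2_c50 LD3_c42) (LK LD1_c2 LD2_c23 LD3_c9) Lrfl Lrfl
theorem f194759 : Led Lsl_cf (LP (LK LD1_c4 LD2_c50 LD3_c42)) = (LP (LK LD1_c2 LD2_c58 LD3_c42)) :=
  Lgr Lrot169 (Lpr_gt (f27671 IH) (Lpr_ct (f27659 IH) (Lpe (f1614 IH) (Lpe (K9.f27790 IH) (Lpe (f44919 IH) (Lpe (f183824 IH) (Lpe (f187847 IH) (Lpe (f28029 IH) (Lpr_gt (f194753 IH) (Lpn (LP (LK LD1_c2 LD2_c58 LD3_c42))))))))))))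
theorem f27729 : Led Lsl_gt (LP (LK LD1_c2 LD2_c23 LD3_c4)) = (LP (LK LD1_c4 LD2_c50 LD3_c34)) :=
  Lre_g IH (LK LD1_c2 LD2_c23 LD3_c4) (LK LD1_c4 LD2_c50 LD3_c34) Lrfl Lrfl
theorem f194762 : Led Lsl_bt (LP (LK LD1_c5 LD2_c16 LD3_c60)) = (LP (LK LD1_c4 LD2_c50 LD3_c34)) :=
  Lgr Lrot92 (Lpr_ct (f184125 IH) (Lpe (f53578 IH) (Lpe (K9.f49563 IH) (Lpe (K9.f50369 IH) (Lpr_gt (f194753 IH) (Lpe (f194759 IH) (Lpr_gt (f27671 IH) (Lpe (K0.f27646 IH) (Lpr_bt (K0.f27688 IH) (Lpr_gt (f27729 IH) (Lpn (LP (LK LD1_c4 LD2_c50 LD3_c34)))))))))))))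
theorem f194774 : Led Lsl_bf (LP (LK LD1_c5 LD2_c16 LD3_c60)) = (LP (LK LD1_c4 LD2_c50 LD3_c34)) :=
  Lgr Lrot24 (Lpr_bt (f194762 IH) (Lpn (LP (LK LD1_c4 LD2_c50 LD3_c34))))
theorem f190104 : Led Lsl_ct (LP (LK LD1_c5 LD2_c23 LD3_c20)) = (LP (LK LD1_c8 LD2_c13 LD3_c13)) :=
  Lgr Lrot59 (Lpr_cf (f190097 IH) (Lpn (LP (LK LD1_c8 LD2_c13 LD3_c13))))
theorem f190197 : Led Lsl_ct (LP (LK LD1_c4 LD2_c15 LD3_c3)) = (LP (LK LD1_c6 LD2_c4 LD3_c59)) :=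
  Lgr Lrot40 (Lpe (f183634 IH) (Lpe (f190104 IH) (Lpr_ff (f190190 IH) (Lpn (LP (LK LD1_c6 LD2_c4 LD3_c59))))))
theorem f42141 : Led Lsl_ct (LP (LK LD1_c1 LD2_c25 LD3_c5)) = (LP (LK LD1_c2 LD2_c58 LD3_c43)) :=
  Lre_c IH (LK LD1_c1 LD2_c25 LD3_c5) (LK LD1_c2 LD2_c58 LD3_c43) Lrfl Lrfl
theorem f194764 : Led Lsl_gf (LP (LK LD1_c6 LD2_c4 LD3_c59)) = (LP (LK LD1_c2 LD2_c58 LD3_c43)) :=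
  Lgr Lrot126 (Lpe (f190197 IH) (Lpe (K9.f54053 IH) (Lpr_gt (f32140 IH) (Lpr_ct (f184125 IH) (Lpe (f53578 IH) (Lpe (K9.f49563 IH) (Lpe (K9.f50369 IH) (Lpr_gt (f194753 IH) (Lpe (f42138 IH) (Lpr_ct (f42141 IH) (Lpn (LP (LK LD1_c2 LD2_c58 LD3_c43)))))))))))))
theorem f46455 : Led Lsl_ct (LP (LK LD1_c5 LD2_c20 LD3_c23)) = (LP (LK LD1_c2 LD2_c36 LD3_c50)) :=
  Lre_c IH (LK LD1_c5 LD2_c20 LD3_c23) (LK LD1_c2 LD2_c36 LD3_c50) Lrfl Lrfl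
theorem f46476 : Led Lsl_gt (LP (LK LD1_c2 LD2_c37 LD3_c32)) = (LP (LK LD1_c5 LD2_c20 LD3_c23)) :=
  Lre_g IH (LK LD1_c2 LD2_c37 LD3_c32) (LK LD1_c5 LD2_c20 LD3_c23) Lrfl Lrfl
theorem f194160 : Led Lsl_cf (LP (LK LD1_c2 LD2_c37 LD3_c32)) = (LP (LK LD1_c4 LD2_c50 LD3_c34)) :=
  Lgr Lrot169 (Lpr_gt (f46476 IH) (Lpr_ct (f46455 IH) (Lpe (K1.f41485 IH) (Lpe (f46453 IH) (Lpr_gf (f194156 IH) (Lpr_cf (f190430 IH) (Lpe (f27710 IH) (Lpe (K0.f27709 IH) (Lpr_gt (f27729 IH) (Lpn (LP (LK LD1_c4 LD2_c50 LD3_c34))))))))))))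
theorem f46466 : Led Lsl_ct (LP (LK LD1_c2 LD2_c36 LD3_c50)) = (LP (LK LD1_c5 LD2_c20 LD3_c23)) :=
  Lre_c IH (LK LD1_c2 LD2_c36 LD3_c50) (LK LD1_c5 LD2_c20 LD3_c23) Lrfl Lrfl
theorem f194943 : Led Lsl_bf (LP (LK LD1_c2 LD2_c58 LD3_c27)) = (LP (LK LD1_c2 LD2_c36 LD3_c50)) :=
  Lgr Lrot165 (Lpr_gt (K9.f41807 IH) (Lpr_ct (f42141 IH) (Lpe (f194764 IH) (Lpe (f190197 IH) (Lpe (K9.f54053 IH) (Lpr_gt (f32140 IH) (Lpr_bf (f194774 IH) (Lpe (f194160 IH) (Lpr_gt (f46476 IH) (Lpe (f46466 IH) (Lpn (LP (LK LD1_c2 LD2_c36 LD3_c50)))))))))))))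
theorem f194946 : Led Lsl_bt (LP (LK LD1_c6 LD2_c4 LD3_c32)) = (LP (LK LD1_c11 LD2_c52 LD3_c34)) :=
  Lre_b IH (LK LD1_c6 LD2_c4 LD3_c32) (LK LD1_c11 LD2_c52 LD3_c34) Lrfl Lrfl
theorem f194819 : Led Lsl_bt (LP (LK LD1_c10 LD2_c30 LD3_c47)) = (LP (LK LD1_c5 LD2_c20 LD3_c23)) :=
  Lre_b IH (LK LD1_c10 LD2_c30 LD3_c47) (LK LD1_c5 LD2_c20 LD3_c23) Lrfl Lrfl
theorem f194947 : Led Lsl_ct (LP (LK LD1_c11 LD2_c52 LD3_c34)) = (LP (LK LD1_c10 LD2_c30 LD3_c47)) :=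
  Lgr Lrot83 (Lpe (f194946 IH) (Lpe (f42479 IH) (Lpr_bf (f194943 IH) (Lpe (f46455 IH) (Lpe (f194819 IH) (Lpn (LP (LK LD1_c10 LD2_c30 LD3_c47))))))))
theorem f194959 : Led Lsl_ft (LP (LK LD1_c6 LD2_c4 LD3_c30)) = (LP (LK LD1_c11 LD2_c52 LD3_c34)) :=
  Lre_f IH (LK LD1_c6 LD2_c4 LD3_c30) (LK LD1_c11 LD2_c52 LD3_c34) Lrfl Lrfl
theorem f194960 : Led Lsl_ft (LP (LK LD1_c10 LD2_c30 LD3_c47)) = (LP (LK LD1_c5 LD2_c20 LD3_c21)) :=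
  Lre_f IH (LK LD1_c10 LD2_c30 LD3_c47) (LK LD1_c5 LD2_c20 LD3_c21) Lrfl Lrfl
theorem f194961 : Led Lsl_cf (LP (LK LD1_c6 LD2_c4 LD3_c30)) = (LP (LK LD1_c5 LD2_c20 LD3_c21)) :=
  Lgr Lrot108 (Lpr_ft (f194959 IH) (Lpr_ct (f194947 IH) (Lpr_ft (f194960 IH) (Lpn (LP (LK LD1_c5 LD2_c20 LD3_c21))))))
theorem f194971 : Led Lsl_at (LP (LK LD1_c6 LD2_c4 LD3_c30)) = (LP (LK LD1_c11 LD2_c52 LD3_c32)) :=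
  Lre_a IH (LK LD1_c6 LD2_c4 LD3_c30) (LK LD1_c11 LD2_c52 LD3_c32) Lrfl Lrfl
theorem f194972 : Led Lsl_at (LP (LK LD1_c10 LD2_c30 LD3_c45)) = (LP (LK LD1_c5 LD2_c20 LD3_c21)) :=
  Lre_a IH (LK LD1_c10 LD2_c30 LD3_c45) (LK LD1_c5 LD2_c20 LD3_c21) Lrfl Lrfl
theorem f194973 : Led Lsl_ct (LP (LK LD1_c11 LD2_c52 LD3_c32)) = (LP (LK LD1_c10 LD2_c30 LD3_c45)) :=
  Lgr Lrot111 (Lpe (f194971 IH) (Lpr_cf (f194961 IH) (Lpe (f194972 IH) (Lpn (LP (LK LD1_c10 LD2_c30 LD3_c45))))))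
theorem f195255 : Led Lsl_bt (LP (LK LD1_c6 LD2_c5 LD3_c17)) = (LP (LK LD1_c11 LD2_c52 LD3_c32)) :=
  Lre_b IH (LK LD1_c6 LD2_c5 LD3_c17) (LK LD1_c11 LD2_c52 LD3_c32) Lrfl Lrfl
theorem f8798 : Led Lsl_ct (LP (LK LD1_c2 LD2_c59 LD3_c29)) = (LP (LK LD1_c6 LD2_c5 LD3_c17)) :=
  Lre_c IH (LK LD1_c2 LD2_c59 LD3_c29) (LK LD1_c6 LD2_c5 LD3_c17) Lrfl Lrfl
theorem f195352 : Led Lsl_bt (LP (LK LD1_c10 LD2_c30 LD3_c45)) = (LP (LK LD1_c5 LD2_c22 LD3_c6)) :=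
  Lre_b IH (LK LD1_c10 LD2_c30 LD3_c45) (LK LD1_c5 LD2_c22 LD3_c6) Lrfl Lrfl
theorem f8978 : Led Lsl_ct (LP (LK LD1_c5 LD2_c22 LD3_c6)) = (LP (LK LD1_c2 LD2_c39 LD3_c60)) :=
  Lre_c IH (LK LD1_c5 LD2_c22 LD3_c6) (LK LD1_c2 LD2_c39 LD3_c60) Lrfl Lrfl
theorem f195399 : Led Lsl_bf (LP (LK LD1_c2 LD2_c59 LD3_c29)) = (LP (LK LD1_c2 LD2_c39 LD3_c60)) :=
  Lgr Lrot90 (Lpr_ct (f8798 IH) (Lpr_bt (f195255 IH) (Lpr_ct (f194973 IH) (Lpr_bt (f195352 IH) (Lpr_ct (f8978 IH) (Lpn (LP (LK LD1_c2 LD2_c39 LD3_c60))))))))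
theorem f8790 : Led Lsl_at (LP (LK LD1_c2 LD2_c59 LD3_c29)) = (LP (LK LD1_c1 LD2_c25 LD3_c25)) :=
  Lre_a IH (LK LD1_c2 LD2_c59 LD3_c29) (LK LD1_c1 LD2_c25 LD3_c25) Lrfl Lrfl
theorem f177419 : Led Lsl_bt (LP (LK LD1_c1 LD2_c25 LD3_c25)) = (LP (LK LD1_c0 LD2_c39 LD3_c21)) :=
  Lre_b IH (LK LD1_c1 LD2_c25 LD3_c25) (LK LD1_c0 LD2_c39 LD3_c21) Lrfl Lrfl
theorem f8977 : Led Lsl_at (LP (LK LD1_c1 LD2_c16 LD3_c43)) = (LP (LK LD1_c2 LD2_c39 LD3_c60)) :=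
  Lre_a IH (LK LD1_c1 LD2_c16 LD3_c43) (LK LD1_c2 LD2_c39 LD3_c60) Lrfl Lrfl
theorem f192582 : Led Lsl_bt (LP (LK LD1_c0 LD2_c35 LD3_c30)) = (LP (LK LD1_c1 LD2_c16 LD3_c43)) :=
  Lre_b IH (LK LD1_c0 LD2_c35 LD3_c30) (LK LD1_c1 LD2_c16 LD3_c43) Lrfl Lrfl
theorem f195401 : Led Lsl_at (LP (LK LD1_c0 LD2_c39 LD3_c21)) = (LP (LK LD1_c0 LD2_c35 LD3_c30)) :=
  Lgr Lrot67 (Lpe (f177419 IH) (Lpe (f8790 IH) (Lpr_bf (f195399 IH) (Lpe (f8977 IH) (Lpe (f192582 IH) (Lpn (LP (LK LD1_c0 LD2_c35 LD3_c30))))))))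
theorem f195421 : Led Lsl_ft (LP (LK LD1_c1 LD2_c25 LD3_c27)) = (LP (LK LD1_c0 LD2_c39 LD3_c21)) :=
  Lre_f IH (LK LD1_c1 LD2_c25 LD3_c27) (LK LD1_c0 LD2_c39 LD3_c21) Lrfl Lrfl
theorem f195786 : Led Lsl_gt (LP (LK LD1_c1 LD2_c25 LD3_c27)) = (LP (LK LD1_c1 LD2_c16 LD3_c42)) :=
  Lgr Lrot5 (Lpr_ft (f195421 IH) (Lpr_at (f195401 IH) (Lpe (f168215 IH) (Lpn (LP (LK LD1_c1 LD2_c16 LD3_c42))))))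
theorem f195405 : Led Lsl_bt (LP (LK LD1_c6 LD2_c6 LD3_c40)) = (LP (LK LD1_c5 LD2_c27 LD3_c3)) :=
  Lgr Lrot35 (Lpe (K0.f8772 IH) (Lpr_bf (f195399 IH) (Lpe (K0.f8916 IH) (Lpn (LP (LK LD1_c5 LD2_c27 LD3_c3))))))
theorem f195408 : Led Lsl_at (LP (LK LD1_c2 LD2_c59 LD3_c31)) = (LP (LK LD1_c6 LD2_c6 LD3_c40)) :=
  Lre_a IH (LK LD1_c2 LD2_c59 LD3_c31) (LK LD1_c6 LD2_c6 LD3_c40) Lrfl Lrfl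
theorem f8518 : Led Lsl_bt (LP (LK LD1_c1 LD2_c25 LD3_c27)) = (LP (LK LD1_c2 LD2_c59 LD3_c31)) :=
  Lre_b IH (LK LD1_c1 LD2_c25 LD3_c27) (LK LD1_c2 LD2_c59 LD3_c31) Lrfl Lrfl
theorem f195409 : Led Lsl_af (LP (LK LD1_c1 LD2_c25 LD3_c27)) = (LP (LK LD1_c1 LD2_c16 LD3_c45)) :=
  Lgr Lrot36 (Lpr_bt (f8518 IH) (Lpr_at (f195408 IH) (Lpr_bt (f195405 IH) (Lpr_at (K0.f8934 IH) (Lpr_bt (K0.f9006 IH) (Lpn (LP (LK LD1_c1 LD2_c16 LD3_c45))))))))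
theorem f8436 : Led Lsl_gt (LP (LK LD1_c0 LD2_c35 LD3_c30)) = (LP (LK LD1_c1 LD2_c16 LD3_c41)) :=
  Lre_g IH (LK LD1_c0 LD2_c35 LD3_c30) (LK LD1_c1 LD2_c16 LD3_c41) Lrfl Lrfl
theorem f195422 : Led Lsl_gf (LP (LK LD1_c1 LD2_c25 LD3_c27)) = (LP (LK LD1_c1 LD2_c16 LD3_c41)) :=
  Lgr Lrot76 (Lpr_af (f195409 IH) (Lpe (K0.f9032 IH) (Lpr_gt (f8436 IH) (Lpn (LP (LK LD1_c1 LD2_c16 LD3_c41))))))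
theorem f195427 : Led Lsl_ct (LP (LK LD1_c0 LD2_c57 LD3_c23)) = (LP (LK LD1_c1 LD2_c16 LD3_c41)) :=
  Lgr Lrot152 (Lpe (K9.f22032 IH) (Lpe (K1.f8112 IH) (Lpr_gt (K8.f8127 IH) (Lpe (K9.f183871 IH) (Lpr_gt (K0.f9482 IH) (Lpr_ct (K9.f8509 IH) (Lpe (K9.f8449 IH) (Lpe (K0.f8448 IH) (Lpr_gf (f195422 IH) (Lpn (LP (LK LD1_c1 LD2_c16 LD3_c41))))))))))))
theorem f195455 : Led Lsl_cf (LP (LK LD1_c0 LD2_c57 LD3_c23)) = (LP (LK LD1_c1 LD2_c16 LD3_c41)) :=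
  Lgr Lrot11 (Lpr_ct (f195427 IH) (Lpn (LP (LK LD1_c1 LD2_c16 LD3_c41))))
theorem f175314 : Led Lsl_gt (LP (LK LD1_c1 LD2_c16 LD3_c44)) = (LP (LK LD1_c2 LD2_c40 LD3_c1)) :=
  Lre_g IH (LK LD1_c1 LD2_c16 LD3_c44) (LK LD1_c2 LD2_c40 LD3_c1) Lrfl Lrfl
theorem f195569 : Led Lsl_cf (LP (LK LD1_c2 LD2_c1 LD3_c1)) = (LP (LK LD1_c2 LD2_c40 LD3_c1)) :=
  Lgr Lrot169 (Lpr_gt (K9.f55458 IH) (Lpr_ct (K1.f55432 IH) (Lpe (f55443 IH) (Lpe (K9.f47979 IH) (Lpr_gf (K9.f55428 IH) (Lpr_cf (f195455 IH) (Lpe (f8436 IH) (Lpe (K0.f8455 IH) (Lpr_gt (f175314 IH) (Lpn (LP (LK LD1_c2 LD2_c40 LD3_c1))))))))))))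
theorem f195578 : Led Lsl_ct (LP (LK LD1_c2 LD2_c1 LD3_c1)) = (LP (LK LD1_c2 LD2_c40 LD3_c1)) :=
  Lgr Lrot59 (Lpr_cf (f195569 IH) (Lpn (LP (LK LD1_c2 LD2_c40 LD3_c1))))
theorem f55805 : Led Lsl_bt (LP (LK LD1_c2 LD2_c0 LD3_c16)) = (LP (LK LD1_c0 LD2_c57 LD3_c7)) :=
  Lre_b IH (LK LD1_c2 LD2_c0 LD3_c16) (LK LD1_c0 LD2_c57 LD3_c7) Lrfl Lrfl
theorem f55806 : Led Lsl_at (LP (LK LD1_c4 LD2_c5 LD3_c58)) = (LP (LK LD1_c2 LD2_c0 LD3_c16)) :=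
  Lre_a IH (LK LD1_c4 LD2_c5 LD3_c58) (LK LD1_c2 LD2_c0 LD3_c16) Lrfl Lrfl
theorem f55807 : Led Lsl_bt (LP (LK LD1_c0 LD2_c57 LD3_c34)) = (LP (LK LD1_c2 LD2_c0 LD3_c61)) :=
  Lre_b IH (LK LD1_c0 LD2_c57 LD3_c34) (LK LD1_c2 LD2_c0 LD3_c61) Lrfl Lrfl
theorem f55808 : Led Lsl_at (LP (LK LD1_c2 LD2_c0 LD3_c61)) = (LP (LK LD1_c4 LD2_c7 LD3_c15)) :=
  Lre_a IH (LK LD1_c2 LD2_c0 LD3_c61) (LK LD1_c4 LD2_c7 LD3_c15) Lrfl Lrfl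
theorem f55809 : Led Lsl_bf (LP (LK LD1_c4 LD2_c5 LD3_c58)) = (LP (LK LD1_c4 LD2_c7 LD3_c15)) :=
  Lgr Lrot81 (Lpr_at (f55806 IH) (Lpr_bt (f55805 IH) (Lpr_at (K9.f55644 IH) (Lpr_bt (f55807 IH) (Lpr_at (f55808 IH) (Lpn (LP (LK LD1_c4 LD2_c7 LD3_c15))))))))
theorem f55825 : Led Lsl_ft (LP (LK LD1_c4 LD2_c5 LD3_c58)) = (LP (LK LD1_c8 LD2_c12 LD3_c15)) :=
  Lre_f IH (LK LD1_c4 LD2_c5 LD3_c58) (LK LD1_c8 LD2_c12 LD3_c15) Lrfl Lrfl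
theorem f55826 : Led Lsl_ft (LP (LK LD1_c8 LD2_c14 LD3_c46)) = (LP (LK LD1_c4 LD2_c7 LD3_c15)) :=
  Lre_f IH (LK LD1_c8 LD2_c14 LD3_c46) (LK LD1_c4 LD2_c7 LD3_c15) Lrfl Lrfl
theorem f55827 : Led Lsl_bt (LP (LK LD1_c8 LD2_c12 LD3_c15)) = (LP (LK LD1_c8 LD2_c14 LD3_c46)) :=
  Lgr Lrot35 (Lpe (f55825 IH) (Lpr_bf (f55809 IH) (Lpe (f55826 IH) (Lpn (LP (LK LD1_c8 LD2_c14 LD3_c46))))))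
theorem f55835 : Led Lsl_dt (LP (LK LD1_c4 LD2_c5 LD3_c47)) = (LP (LK LD1_c8 LD2_c12 LD3_c15)) :=
  Lre_d IH (LK LD1_c4 LD2_c5 LD3_c47) (LK LD1_c8 LD2_c12 LD3_c15) Lrfl Lrfl
theorem f55836 : Led Lsl_dt (LP (LK LD1_c8 LD2_c14 LD3_c46)) = (LP (LK LD1_c4 LD2_c7 LD3_c6)) :=
  Lre_d IH (LK LD1_c8 LD2_c14 LD3_c46) (LK LD1_c4 LD2_c7 LD3_c6) Lrfl Lrfl
theorem f55837 : Led Lsl_bf (LP (LK LD1_c4 LD2_c5 LD3_c47)) = (LP (LK LD1_c4 LD2_c7 LD3_c6)) :=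
  Lgr Lrot93 (Lpr_dt (f55835 IH) (Lpr_bt (f55827 IH) (Lpr_dt (f55836 IH) (Lpn (LP (LK LD1_c4 LD2_c7 LD3_c6))))))
theorem f55847 : Led Lsl_bt (LP (LK LD1_c4 LD2_c5 LD3_c47)) = (LP (LK LD1_c4 LD2_c7 LD3_c6)) :=
  Lgr Lrot127 (Lpr_bf (f55837 IH) (Lpn (LP (LK LD1_c4 LD2_c7 LD3_c6))))
theorem f55861 : Led Lsl_ft (LP (LK LD1_c2 LD2_c0 LD3_c15)) = (LP (LK LD1_c4 LD2_c5 LD3_c47)) :=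
  Lre_f IH (LK LD1_c2 LD2_c0 LD3_c15) (LK LD1_c4 LD2_c5 LD3_c47) Lrfl Lrfl
theorem f55862 : Led Lsl_ft (LP (LK LD1_c4 LD2_c7 LD3_c6)) = (LP (LK LD1_c2 LD2_c0 LD3_c60)) :=
  Lre_f IH (LK LD1_c4 LD2_c7 LD3_c6) (LK LD1_c2 LD2_c0 LD3_c60) Lrfl Lrfl
theorem f55863 : Led Lsl_bf (LP (LK LD1_c2 LD2_c0 LD3_c15)) = (LP (LK LD1_c2 LD2_c0 LD3_c60)) :=
  Lgr Lrot61 (Lpr_ft (f55861 IH) (Lpr_bt (f55847 IH) (Lpr_ft (f55862 IH) (Lpn (LP (LK LD1_c2 LD2_c0 LD3_c60))))))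
theorem f55874 : Led Lsl_at (LP (LK LD1_c2 LD2_c0 LD3_c15)) = (LP (LK LD1_c0 LD2_c57 LD3_c6)) :=
  Lre_a IH (LK LD1_c2 LD2_c0 LD3_c15) (LK LD1_c0 LD2_c57 LD3_c6) Lrfl Lrfl
theorem f55875 : Led Lsl_bt (LP (LK LD1_c0 LD2_c57 LD3_c6)) = (LP (LK LD1_c0 LD2_c25 LD3_c56)) :=
  Lre_b IH (LK LD1_c0 LD2_c57 LD3_c6) (LK LD1_c0 LD2_c25 LD3_c56) Lrfl Lrfl
theorem f55876 : Led Lsl_at (LP (LK LD1_c0 LD2_c57 LD3_c33)) = (LP (LK LD1_c2 LD2_c0 LD3_c60)) :=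
  Lre_a IH (LK LD1_c0 LD2_c57 LD3_c33) (LK LD1_c2 LD2_c0 LD3_c60) Lrfl Lrfl
theorem f55878 : Led Lsl_at (LP (LK LD1_c0 LD2_c25 LD3_c56)) = (LP (LK LD1_c0 LD2_c26 LD3_c10)) :=
  Lgr Lrot67 (Lpe (f55875 IH) (Lpe (f55874 IH) (Lpr_bf (f55863 IH) (Lpe (f55876 IH) (Lpe (K9.f55877 IH) (Lpn (LP (LK LD1_c0 LD2_c26 LD3_c10))))))))
theorem f177819 : Led Lsl_gt (LP (LK LD1_c0 LD2_c57 LD3_c8)) = (LP (LK LD1_c0 LD2_c36 LD3_c24)) :=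
  Lgr Lrot5 (Lpr_ft (K2.f55883 IH) (Lpr_at (f55878 IH) (Lpr_gf (K9.f177817 IH) (Lpn (LP (LK LD1_c0 LD2_c36 LD3_c24))))))
theorem f8386 : Led Lsl_ct (LP (LK LD1_c0 LD2_c36 LD3_c24)) = (LP (LK LD1_c0 LD2_c16 LD3_c12)) :=
  Lre_c IH (LK LD1_c0 LD2_c36 LD3_c24) (LK LD1_c0 LD2_c16 LD3_c12) Lrfl Lrfl
theorem f8394 : Led Lsl_ct (LP (LK LD1_c2 LD2_c16 LD3_c58)) = (LP (LK LD1_c1 LD2_c5 LD3_c24)) :=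
  Lre_c IH (LK LD1_c2 LD2_c16 LD3_c58) (LK LD1_c1 LD2_c5 LD3_c24) Lrfl Lrfl
theorem f195583 : Led Lsl_gf (LP (LK LD1_c2 LD2_c16 LD3_c58)) = (LP (LK LD1_c2 LD2_c40 LD3_c1)) :=
  Lgr Lrot104 (Lpr_ct (f8394 IH) (Lpe (K0.f8395 IH) (Lpe (K0.f8392 IH) (Lpe (K0.f8302 IH) (Lpe (f8386 IH) (Lpe (f177819 IH) (Lpe (K1.f55583 IH) (Lpr_gt (K9.f55811 IH) (Lpr_ct (f195578 IH) (Lpn (LP (LK LD1_c2 LD2_c40 LD3_c1))))))))))))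
theorem f55579 : Led Lsl_dt (LP (LK LD1_c0 LD2_c57 LD3_c34)) = (LP (LK LD1_c0 LD2_c26 LD3_c10)) :=
  Lre_d IH (LK LD1_c0 LD2_c57 LD3_c34) (LK LD1_c0 LD2_c26 LD3_c10) Lrfl Lrfl
theorem f187521 : Led Lsl_dt (LP (LK LD1_c1 LD2_c16 LD3_c42)) = (LP (LK LD1_c2 LD2_c39 LD3_c57)) :=
  Lre_d IH (LK LD1_c1 LD2_c16 LD3_c42) (LK LD1_c2 LD2_c39 LD3_c57) Lrfl Lrfl
theorem f195792 : Led Lsl_cf (LP (LK LD1_c1 LD2_c19 LD3_c24)) = (LP (LK LD1_c2 LD2_c39 LD3_c57)) :=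
  Lgr Lrot14 (Lpe (K9.f22419 IH) (Lpr_gf (K9.f172051 IH) (Lpe (f55579 IH) (Lpe (K9.f55458 IH) (Lpr_ct (f195578 IH) (Lpe (f195583 IH) (Lpr_dt (K0.f8447 IH) (Lpr_gt (f195786 IH) (Lpr_dt (f187521 IH) (Lpn (LP (LK LD1_c2 LD2_c39 LD3_c57))))))))))))
theorem f172045 : Led Lsl_dt (LP (LK LD1_c2 LD2_c31 LD3_c1)) = (LP (LK LD1_c1 LD2_c12 LD3_c32)) :=
  Lre_d IH (LK LD1_c2 LD2_c31 LD3_c1) (LK LD1_c1 LD2_c12 LD3_c32) Lrfl Lrfl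
theorem f6814 : Led Lsl_et (LP (LK LD1_c0 LD2_c5 LD3_c35)) = (LP (LK LD1_c0 LD2_c12 LD3_c10)) :=
  Lre_e IH (LK LD1_c0 LD2_c5 LD3_c35) (LK LD1_c0 LD2_c12 LD3_c10) Lrfl Lrfl
theorem f6825 : Led Lsl_et (LP (LK LD1_c0 LD2_c27 LD3_c28)) = (LP (LK LD1_c0 LD2_c12 LD3_c9)) :=
  Lre_e IH (LK LD1_c0 LD2_c27 LD3_c28) (LK LD1_c0 LD2_c12 LD3_c9) Lrfl Lrfl
theorem f193791 : Led Lsl_dt (LP (LK LD1_c0 LD2_c57 LD3_c27)) = (LP (LK LD1_c0 LD2_c27 LD3_c28)) :=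
  Lgr Lrot77 (Lpr_ef (f193787 IH) (Lpe (K9.f6793 IH) (Lpe (f6814 IH) (Lpe (K9.f8015 IH) (Lpe (f6825 IH) (Lpn (LP (LK LD1_c0 LD2_c27 LD3_c28))))))))
theorem f20496 : Led Lsl_dt (LP (LK LD1_c0 LD2_c15 LD3_c20)) = (LP (LK LD1_c0 LD2_c34 LD3_c10)) :=
  Lre_d IH (LK LD1_c0 LD2_c15 LD3_c20) (LK LD1_c0 LD2_c34 LD3_c10) Lrfl Lrfl
theorem f184898 : Led Lsl_ct (LP (LK LD1_c0 LD2_c34 LD3_c8)) = (LP (LK LD1_c0 LD2_c15 LD3_c20)) :=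
  Lre_c IH (LK LD1_c0 LD2_c34 LD3_c8) (LK LD1_c0 LD2_c15 LD3_c20) Lrfl Lrfl
theorem f175048 : Led Lsl_ct (LP (LK LD1_c0 LD2_c14 LD3_c35)) = (LP (LK LD1_c0 LD2_c15 LD3_c58)) :=
  Lgr Lrot59 (Lpr_cf (f174972 IH) (Lpn (LP (LK LD1_c0 LD2_c15 LD3_c58))))
theorem f193948 : Led Lsl_gf (LP (LK LD1_c0 LD2_c34 LD3_c8)) = (LP (LK LD1_c0 LD2_c15 LD3_c58)) :=
  Lgr Lrot172 (Lpr_ct (f184898 IH) (Lpr_dt (f20496 IH) (Lpe (K9.f181131 IH) (Lpe (K9.f181134 IH) (Lpe (f28354 IH) (Lpe (f28403 IH) (Lpr_dt (f193791 IH) (Lpr_gt (K9.f179879 IH) (Lpr_ct (f175048 IH) (Lpn (LP (LK LD1_c0 LD2_c15 LD3_c58))))))))))))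
theorem f184968 : Led Lsl_gf (LP (LK LD1_c2 LD2_c33 LD3_c34)) = (LP (LK LD1_c1 LD2_c25 LD3_c31)) :=
  Lgr Lrot147 (Lpr_ct (f184905 IH) (Lpr_gt (f184926 IH) (Lpr_ct (f177787 IH) (Lpe (f179061 IH) (Lpe (f183378 IH) (Lpe (K9.f9094 IH) (Lpe (K9.f9029 IH) (Lpe (K9.f9046 IH) (Lpe (K9.f177494 IH) (Lpn (LP (LK LD1_c1 LD2_c25 LD3_c31))))))))))))
theorem f175922 : Led Lsl_dt (LP (LK LD1_c1 LD2_c25 LD3_c56)) = (LP (LK LD1_c0 LD2_c57 LD3_c30)) :=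
  Lgr Lrot42 (Lpr_df (K9.f175917 IH) (Lpn (LP (LK LD1_c0 LD2_c57 LD3_c30))))
theorem f9062 : Led Lsl_gf (LP (LK LD1_c2 LD2_c59 LD3_c33)) = (LP (LK LD1_c1 LD2_c25 LD3_c57)) :=
  Lgr Lrot47 (Lpr_gt (f9061 IH) (Lpe (K9.f9050 IH) (Lpr_ff (K0.f9033 IH) (Lpn (LP (LK LD1_c1 LD2_c25 LD3_c57))))))
theorem f9040 : Led Lsl_ct (LP (LK LD1_c0 LD2_c39 LD3_c41)) = (LP (LK LD1_c1 LD2_c25 LD3_c57)) :=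
  Lre_c IH (LK LD1_c0 LD2_c39 LD3_c41) (LK LD1_c1 LD2_c25 LD3_c57) Lrfl Lrfl
theorem f177159 : Led Lsl_dt (LP (LK LD1_c0 LD2_c39 LD3_c26)) = (LP (LK LD1_c1 LD2_c25 LD3_c34)) :=
  Lre_d IH (LK LD1_c0 LD2_c39 LD3_c26) (LK LD1_c1 LD2_c25 LD3_c34) Lrfl Lrfl
theorem f177156 : Led Lsl_ct (LP (LK LD1_c0 LD2_c17 LD3_c39)) = (LP (LK LD1_c0 LD2_c39 LD3_c26)) :=
  Lre_c IH (LK LD1_c0 LD2_c17 LD3_c39) (LK LD1_c0 LD2_c39 LD3_c26) Lrfl Lrfl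
theorem f21259 : Led Lsl_ct (LP (LK LD1_c1 LD2_c12 LD3_c26)) = (LP (LK LD1_c0 LD2_c33 LD3_c33)) :=
  Lre_c IH (LK LD1_c1 LD2_c12 LD3_c26) (LK LD1_c0 LD2_c33 LD3_c33) Lrfl Lrfl
theorem f177438 : Led Lsl_gt (LP (LK LD1_c0 LD2_c57 LD3_c30)) = (LP (LK LD1_c1 LD2_c12 LD3_c26)) :=
  Lgr Lrot9 (Lpe (f175922 IH) (Lpr_gt (K9.f9044 IH) (Lpr_ct (f9040 IH) (Lpe (f9062 IH) (Lpr_ct (f177404 IH) (Lpe (f177159 IH) (Lpe (f177156 IH) (Lpe (K9.f177154 IH) (Lpe (f21259 IH) (Lpn (LP (LK LD1_c1 LD2_c12 LD3_c26))))))))))))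
theorem f21261 : Led Lsl_ct (LP (LK LD1_c5 LD2_c7 LD3_c2)) = (LP (LK LD1_c2 LD2_c30 LD3_c51)) :=
  Lre_c IH (LK LD1_c5 LD2_c7 LD3_c2) (LK LD1_c2 LD2_c30 LD3_c51) Lrfl Lrfl
theorem f185050 : Led Lsl_dt (LP (LK LD1_c2 LD2_c33 LD3_c34)) = (LP (LK LD1_c5 LD2_c7 LD3_c2)) :=
  Lgr Lrot105 (Lpr_gf (f184968 IH) (Lpr_df (K9.f177468 IH) (Lpe (K9.f176048 IH) (Lpe (K9.f9064 IH) (Lpr_gt (K9.f59951 IH) (Lpr_dt (f175922 IH) (Lpr_gt (f177438 IH) (Lpr_dt (K9.f21269 IH) (Lpe (f21261 IH) (Lpn (LP (LK LD1_c5 LD2_c7 LD3_c2))))))))))))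
theorem f185078 : Led Lsl_df (LP (LK LD1_c2 LD2_c33 LD3_c34)) = (LP (LK LD1_c5 LD2_c7 LD3_c2)) :=
  Lgr Lrot38 (Lpr_dt (f185050 IH) (Lpn (LP (LK LD1_c5 LD2_c7 LD3_c2))))
theorem f195788 : Led Lsl_gf (LP (LK LD1_c5 LD2_c7 LD3_c2)) = (LP (LK LD1_c2 LD2_c39 LD3_c57)) :=
  Lgr Lrot143 (Lpe (f185078 IH) (Lpe (f183937 IH) (Lpe (f184893 IH) (Lpr_gf (f193948 IH) (Lpr_df (f8423 IH) (Lpe (K9.f8545 IH) (Lpe (K0.f8448 IH) (Lpr_gt (f195786 IH) (Lpr_dt (f187521 IH) (Lpn (LP (LK LD1_c2 LD2_c39 LD3_c57))))))))))))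
theorem f196096 : Led Lsl_gt (LP (LK LD1_c1 LD2_c12 LD3_c32)) = (LP (LK LD1_c0 LD2_c39 LD3_c26)) :=
  Lgr Lrot49 (Lpe (f172045 IH) (Lpe (K9.f172042 IH) (Lpr_cf (f195792 IH) (Lpe (f195788 IH) (Lpe (f185078 IH) (Lpr_gt (f184902 IH) (Lpe (f177501 IH) (Lpr_cf (f177393 IH) (Lpe (f177159 IH) (Lpn (LP (LK LD1_c0 LD2_c39 LD3_c26))))))))))))
theorem f183212 : Led Lsl_ct (LP (LK LD1_c0 LD2_c56 LD3_c59)) = (LP (LK LD1_c1 LD2_c12 LD3_c32)) :=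
  Lgr Lrot15 (Lpr_ef (K9.f183210 IH) (Lpe (K9.f53198 IH) (Lpe (K9.f22221 IH) (Lpn (LP (LK LD1_c1 LD2_c12 LD3_c32))))))
theorem f185944 : Led Lsl_gt (LP (LK LD1_c0 LD2_c25 LD3_c52)) = (LP (LK LD1_c0 LD2_c56 LD3_c59)) :=
  Lgr Lrot112 (Lpe (K9.f55905 IH) (Lpr_et (f175298 IH) (Lpr_gf (f185839 IH) (Lpe (f6814 IH) (Lpr_dt (K9.f6797 IH) (Lpe (K9.f179111 IH) (Lpe (K9.f178489 IH) (Lpe (K9.f6759 IH) (Lpe (K9.f53323 IH) (Lpe (K9.f183221 IH) (Lpn (LP (LK LD1_c0 LD2_c56 LD3_c59)))))))))))))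
theorem f175301 : Led Lsl_bt (LP (LK LD1_c1 LD2_c11 LD3_c8)) = (LP (LK LD1_c2 LD2_c27 LD3_c59)) :=
  Lre_b IH (LK LD1_c1 LD2_c11 LD3_c8) (LK LD1_c2 LD2_c27 LD3_c59) Lrfl Lrfl
theorem f192651 : Led Lsl_et (LP (LK LD1_c2 LD2_c27 LD3_c59)) = (LP (LK LD1_c1 LD2_c57 LD3_c38)) :=
  Lgr Lrot74 (Lpe (f175301 IH) (Lpr_ef (f175299 IH) (Lpr_bf (f192647 IH) (Lpn (LP (LK LD1_c1 LD2_c57 LD3_c38))))))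
theorem f192656 : Led Lsl_ef (LP (LK LD1_c2 LD2_c27 LD3_c59)) = (LP (LK LD1_c1 LD2_c57 LD3_c38)) :=
  Lgr Lrot88 (Lpr_et (f192651 IH) (Lpn (LP (LK LD1_c1 LD2_c57 LD3_c38))))
theorem f192658 : Led Lsl_dt (LP (LK LD1_c2 LD2_c27 LD3_c59)) = (LP (LK LD1_c1 LD2_c11 LD3_c7)) :=
  Lre_d IH (LK LD1_c2 LD2_c27 LD3_c59) (LK LD1_c1 LD2_c11 LD3_c7) Lrfl Lrfl
theorem f192659 : Led Lsl_et (LP (LK LD1_c0 LD2_c25 LD3_c16)) = (LP (LK LD1_c0 LD2_c55 LD3_c41)) :=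
  Lre_e IH (LK LD1_c0 LD2_c25 LD3_c16) (LK LD1_c0 LD2_c55 LD3_c41) Lrfl Lrfl
theorem f171529 : Led Lsl_dt (LP (LK LD1_c0 LD2_c55 LD3_c40)) = (LP (LK LD1_c0 LD2_c25 LD3_c16)) :=
  Lre_d IH (LK LD1_c0 LD2_c55 LD3_c40) (LK LD1_c0 LD2_c25 LD3_c16) Lrfl Lrfl
theorem f192660 : Led Lsl_et (LP (LK LD1_c1 LD2_c11 LD3_c7)) = (LP (LK LD1_c0 LD2_c55 LD3_c40)) :=
  Lgr Lrot71 (Lpe (f192658 IH) (Lpr_ef (f192656 IH) (Lpe (f171540 IH) (Lpe (f192659 IH) (Lpe (f171529 IH) (Lpn (LP (LK LD1_c0 LD2_c55 LD3_c40))))))))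
theorem f175293 : Led Lsl_bt (LP (LK LD1_c0 LD2_c32 LD3_c59)) = (LP (LK LD1_c1 LD2_c11 LD3_c7)) :=
  Lre_b IH (LK LD1_c0 LD2_c32 LD3_c59) (LK LD1_c1 LD2_c11 LD3_c7) Lrfl Lrfl
theorem f192662 : Led Lsl_bf (LP (LK LD1_c0 LD2_c25 LD3_c52)) = (LP (LK LD1_c0 LD2_c55 LD3_c40)) :=
  Lgr Lrot96 (Lpe (K9.f175291 IH) (Lpr_bt (f175293 IH) (Lpr_et (f192660 IH) (Lpn (LP (LK LD1_c0 LD2_c55 LD3_c40))))))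
theorem f171535 : Led Lsl_ct (LP (LK LD1_c0 LD2_c55 LD3_c40)) = (LP (LK LD1_c1 LD2_c57 LD3_c37)) :=
  Lre_c IH (LK LD1_c0 LD2_c55 LD3_c40) (LK LD1_c1 LD2_c57 LD3_c37) Lrfl Lrfl
theorem f181435 : Led Lsl_bt (LP (LK LD1_c0 LD2_c17 LD3_c39)) = (LP (LK LD1_c0 LD2_c17 LD3_c39)) :=
  Lgr Lrot95 (Lpe (K9.f20806 IH) (Lpr_bf (K9.f181431 IH) (Lpe (K9.f20636 IH) (Lpn (LP (LK LD1_c0 LD2_c17 LD3_c39))))))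
theorem f184897 : Led Lsl_dt (LP (LK LD1_c1 LD2_c13 LD3_c43)) = (LP (LK LD1_c0 LD2_c34 LD3_c8)) :=
  Lre_d IH (LK LD1_c1 LD2_c13 LD3_c43) (LK LD1_c0 LD2_c34 LD3_c8) Lrfl Lrfl
theorem f184899 : Led Lsl_gf (LP (LK LD1_c0 LD2_c34 LD3_c10)) = (LP (LK LD1_c0 LD2_c17 LD3_c39)) :=
  Lgr Lrot143 (Lpr_dt (K9.f20487 IH) (Lpe (f184898 IH) (Lpe (f184897 IH) (Lpr_gf (f184894 IH) (Lpe (K9.f181189 IH) (Lpe (K9.f55923 IH) (Lpe (K9.f8443 IH) (Lpr_gt (K9.f20625 IH) (Lpr_dt (K9.f20806 IH) (Lpn (LP (LK LD1_c0 LD2_c17 LD3_c39))))))))))))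
theorem f181138 : Led Lsl_bt (LP (LK LD1_c1 LD2_c13 LD3_c38)) = (LP (LK LD1_c0 LD2_c34 LD3_c10)) :=
  Lre_b IH (LK LD1_c1 LD2_c13 LD3_c38) (LK LD1_c0 LD2_c34 LD3_c10) Lrfl Lrfl
theorem f181141 : Led Lsl_ct (LP (LK LD1_c1 LD2_c13 LD3_c38)) = (LP (LK LD1_c2 LD2_c33 LD3_c23)) :=
  Lre_c IH (LK LD1_c1 LD2_c13 LD3_c38) (LK LD1_c2 LD2_c33 LD3_c23) Lrfl Lrfl
theorem f196099 : Led Lsl_gf (LP (LK LD1_c1 LD2_c57 LD3_c37)) = (LP (LK LD1_c2 LD2_c33 LD3_c23)) :=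
  Lgr Lrot126 (Lpe (f171535 IH) (Lpe (f192662 IH) (Lpr_gt (f185944 IH) (Lpr_ct (f183212 IH) (Lpr_gt (f196096 IH) (Lpe (f177156 IH) (Lpr_bt (f181435 IH) (Lpe (f184899 IH) (Lpe (f181138 IH) (Lpr_ct (f181141 IH) (Lpn (LP (LK LD1_c2 LD2_c33 LD3_c23)))))))))))))
theorem f192722 : Led Lsl_dt (LP (LK LD1_c1 LD2_c57 LD3_c37)) = (LP (LK LD1_c4 LD2_c1 LD3_c22)) :=
  Lre_d IH (LK LD1_c1 LD2_c57 LD3_c37) (LK LD1_c4 LD2_c1 LD3_c22) Lrfl Lrfl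
theorem f181424 : Led Lsl_bf (LP (LK LD1_c0 LD2_c11 LD3_c36)) = (LP (LK LD1_c0 LD2_c25 LD3_c40)) :=
  Lgr Lrot24 (Lpr_bt (K9.f181422 IH) (Lpn (LP (LK LD1_c0 LD2_c25 LD3_c40))))
theorem f181707 : Led Lsl_bt (LP (LK LD1_c0 LD2_c26 LD3_c6)) = (LP (LK LD1_c0 LD2_c56 LD3_c37)) :=
  Lgr Lrot95 (Lpe (f59124 IH) (Lpr_bf (f181424 IH) (Lpe (K9.f47064 IH) (Lpn (LP (LK LD1_c0 LD2_c56 LD3_c37))))))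
theorem f181124 : Led Lsl_ct (LP (LK LD1_c0 LD2_c34 LD3_c10)) = (LP (LK LD1_c1 LD2_c13 LD3_c46)) :=
  Lre_c IH (LK LD1_c0 LD2_c34 LD3_c10) (LK LD1_c1 LD2_c13 LD3_c46) Lrfl Lrfl
theorem f181123 : Led Lsl_bt (LP (LK LD1_c0 LD2_c34 LD3_c10)) = (LP (LK LD1_c1 LD2_c13 LD3_c38)) :=
  Lre_b IH (LK LD1_c0 LD2_c34 LD3_c10) (LK LD1_c1 LD2_c13 LD3_c38) Lrfl Lrfl
theorem f194129 : Led Lsl_gf (LP (LK LD1_c0 LD2_c56 LD3_c37)) = (LP (LK LD1_c1 LD2_c13 LD3_c38)) :=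
  Lgr Lrot124 (Lpe (f181707 IH) (Lpr_ct (f59121 IH) (Lpr_gt (f177438 IH) (Lpe (K9.f21268 IH) (Lpr_bt (f194114 IH) (Lpr_gt (f28403 IH) (Lpr_ct (f28354 IH) (Lpr_gt (K9.f181134 IH) (Lpe (f181124 IH) (Lpr_bt (f181123 IH) (Lpn (LP (LK LD1_c1 LD2_c13 LD3_c38)))))))))))))
theorem f196101 : Led Lsl_gt (LP (LK LD1_c4 LD2_c1 LD3_c22)) = (LP (LK LD1_c1 LD2_c59 LD3_c34)) :=
  Lgr Lrot49 (Lpe (f192722 IH) (Lpr_gf (f196099 IH) (Lpe (f181141 IH) (Lpe (f194129 IH) (Lpr_dt (K9.f47064 IH) (Lpr_gt (K9.f47063 IH) (Lpr_dt (K1.f28217 IH) (Lpe (K1.f46617 IH) (Lpe (K1.f46876 IH) (Lpn (LP (LK LD1_c1 LD2_c59 LD3_c34))))))))))))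
theorem f46833 : Led Lsl_at (LP (LK LD1_c8 LD2_c25 LD3_c58)) = (LP (LK LD1_c4 LD2_c13 LD3_c31)) :=
  Lre_a IH (LK LD1_c8 LD2_c25 LD3_c58) (LK LD1_c4 LD2_c13 LD3_c31) Lrfl Lrfl
theorem f46834 : Led Lsl_bt (LP (LK LD1_c4 LD2_c13 LD3_c31)) = (LP (LK LD1_c2 LD2_c4 LD3_c6)) :=
  Lre_b IH (LK LD1_c4 LD2_c13 LD3_c31) (LK LD1_c2 LD2_c4 LD3_c6) Lrfl Lrfl
theorem f46835 : Led Lsl_at (LP (LK LD1_c4 LD2_c4 LD3_c55)) = (LP (LK LD1_c8 LD2_c10 LD3_c35)) :=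
  Lre_a IH (LK LD1_c4 LD2_c4 LD3_c55) (LK LD1_c8 LD2_c10 LD3_c35) Lrfl Lrfl
theorem f46836 : Led Lsl_bt (LP (LK LD1_c1 LD2_c59 LD3_c34)) = (LP (LK LD1_c4 LD2_c4 LD3_c55)) :=
  Lre_b IH (LK LD1_c1 LD2_c59 LD3_c34) (LK LD1_c4 LD2_c4 LD3_c55) Lrfl Lrfl
theorem f46837 : Led Lsl_at (LP (LK LD1_c2 LD2_c4 LD3_c6)) = (LP (LK LD1_c1 LD2_c59 LD3_c34)) :=
  Lgr Lrot67 (Lpe (f46834 IH) (Lpe (f46833 IH) (Lpr_bf (K2.f46823 IH) (Lpe (f46835 IH) (Lpe (f46836 IH) (Lpn (LP (LK LD1_c1 LD2_c59 LD3_c34))))))))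
theorem f27860 : Led Lsl_ft (LP (LK LD1_c4 LD2_c13 LD3_c35)) = (LP (LK LD1_c2 LD2_c4 LD3_c6)) :=
  Lre_f IH (LK LD1_c4 LD2_c13 LD3_c35) (LK LD1_c2 LD2_c4 LD3_c6) Lrfl Lrfl
theorem f196130 : Led Lsl_gf (LP (LK LD1_c4 LD2_c1 LD3_c22)) = (LP (LK LD1_c4 LD2_c13 LD3_c35)) :=
  Lgr Lrot47 (Lpr_gt (f196101 IH) (Lpe (f46837 IH) (Lpe (f27860 IH) (Lpn (LP (LK LD1_c4 LD2_c13 LD3_c35))))))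
theorem f171534 : Led Lsl_dt (LP (LK LD1_c4 LD2_c1 LD3_c22)) = (LP (LK LD1_c1 LD2_c57 LD3_c37)) :=
  Lre_d IH (LK LD1_c4 LD2_c1 LD3_c22) (LK LD1_c1 LD2_c57 LD3_c37) Lrfl Lrfl
theorem f171533 : Led Lsl_ct (LP (LK LD1_c1 LD2_c57 LD3_c37)) = (LP (LK LD1_c0 LD2_c55 LD3_c40)) :=
  Lre_c IH (LK LD1_c1 LD2_c57 LD3_c37) (LK LD1_c0 LD2_c55 LD3_c40) Lrfl Lrfl
theorem f171532 : Led Lsl_dt (LP (LK LD1_c0 LD2_c25 LD3_c16)) = (LP (LK LD1_c0 LD2_c55 LD3_c40)) :=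
  Lre_d IH (LK LD1_c0 LD2_c25 LD3_c16) (LK LD1_c0 LD2_c55 LD3_c40) Lrfl Lrfl
theorem f171530 : Led Lsl_gt (LP (LK LD1_c0 LD2_c25 LD3_c23)) = (LP (LK LD1_c0 LD2_c25 LD3_c16)) :=
  Lgr Lrot65 (Lpe (K0.f33595 IH) (Lpr_bt (K0.f33586 IH) (Lpe (K0.f3686 IH) (Lpe (K9.f3746 IH) (Lpr_ct (K9.f3747 IH) (Lpe (K9.f165855 IH) (Lpe (K9.f32433 IH) (Lpe (f32921 IH) (Lpr_bf (f171517 IH) (Lpr_ct (f34624 IH) (Lpn (LP (LK LD1_c0 LD2_c25 LD3_c16)))))))))))))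
theorem f196152 : Led Lsl_gf (LP (LK LD1_c0 LD2_c55 LD3_c59)) = (LP (LK LD1_c0 LD2_c55 LD3_c42)) :=
  Lgr Lrot144 (Lpr_dt (K0.f33603 IH) (Lpr_gt (f171530 IH) (Lpr_dt (f171532 IH) (Lpe (f171533 IH) (Lpe (f171534 IH) (Lpr_gf (f196130 IH) (Lpe (K1.f27865 IH) (Lpr_gf (K9.f181995 IH) (Lpe (K9.f69715 IH) (Lpn (LP (LK LD1_c0 LD2_c55 LD3_c42))))))))))))
theorem f192653 : Led Lsl_dt (LP (LK LD1_c1 LD2_c11 LD3_c7)) = (LP (LK LD1_c2 LD2_c27 LD3_c59)) :=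
  Lre_d IH (LK LD1_c1 LD2_c11 LD3_c7) (LK LD1_c2 LD2_c27 LD3_c59) Lrfl Lrfl
theorem f192654 : Led Lsl_ef (LP (LK LD1_c1 LD2_c11 LD3_c7)) = (LP (LK LD1_c0 LD2_c55 LD3_c40)) :=
  Lgr Lrot73 (Lpr_dt (f192653 IH) (Lpr_et (f192651 IH) (Lpr_dt (f192596 IH) (Lpr_et (f171539 IH) (Lpr_dt (f171532 IH) (Lpn (LP (LK LD1_c0 LD2_c55 LD3_c40))))))))
theorem f196230 : Led Lsl_gt (LP (LK LD1_c1 LD2_c11 LD3_c7)) = (LP (LK LD1_c1 LD2_c27 LD3_c50)) :=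
  Lgr Lrot131 (Lpr_ef (f192654 IH) (Lpr_dt (f171529 IH) (Lpe (f171530 IH) (Lpe (K0.f33603 IH) (Lpr_gf (f196152 IH) (Lpe (K9.f69713 IH) (Lpr_dt (K9.f28938 IH) (Lpe (f29603 IH) (Lpe (K1.f6937 IH) (Lpe (K1.f36722 IH) (Lpn (LP (LK LD1_c1 LD2_c27 LD3_c50)))))))))))))
theorem f100663 : Led Lsl_bt (LP (LK LD1_c1 LD2_c11 LD3_c9)) = (LP (LK LD1_c0 LD2_c32 LD3_c60)) :=
  Lre_b IH (LK LD1_c1 LD2_c11 LD3_c9) (LK LD1_c0 LD2_c32 LD3_c60) Lrfl Lrfl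
theorem f100664 : Led Lsl_ct (LP (LK LD1_c1 LD2_c11 LD3_c9)) = (LP (LK LD1_c2 LD2_c27 LD3_c61)) :=
  Lre_c IH (LK LD1_c1 LD2_c11 LD3_c9) (LK LD1_c2 LD2_c27 LD3_c61) Lrfl Lrfl
theorem f196236 : Led Lsl_gf (LP (LK LD1_c2 LD2_c27 LD3_c61)) = (LP (LK LD1_c3 LD2_c3 LD3_c40)) :=
  Lgr Lrot129 (Lpe (f100664 IH) (Lpr_bt (f100663 IH) (Lpr_gt (K9.f27239 IH) (Lpe (K9.f9359 IH) (Lpr_ct (K0.f9348 IH) (Lpr_gt (f26781 IH) (Lpr_cf (K9.f175336 IH) (Lpr_bt (f175293 IH) (Lpr_gt (f196230 IH) (Lpr_ct (K1.f36721 IH) (Lpn (LP (LK LD1_c3 LD2_c3 LD3_c40)))))))))))))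
theorem f20574 : Led Lsl_bt (LP (LK LD1_c0 LD2_c29 LD3_c48)) = (LP (LK LD1_c1 LD2_c5 LD3_c14)) :=
  Lre_b IH (LK LD1_c0 LD2_c29 LD3_c48) (LK LD1_c1 LD2_c5 LD3_c14) Lrfl Lrfl
theorem f33720 : Led Lsl_gf (LP (LK LD1_c1 LD2_c58 LD3_c7)) = (LP (LK LD1_c1 LD2_c57 LD3_c46)) :=
  Lgr Lrot47 (Lpr_gt (f33719 IH) (Lpr_af (K0.f33696 IH) (Lpe (K0.f33695 IH) (Lpn (LP (LK LD1_c1 LD2_c57 LD3_c46))))))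
theorem f34645 : Led Lsl_dt (LP (LK LD1_c1 LD2_c9 LD3_c14)) = (LP (LK LD1_c0 LD2_c31 LD3_c46)) :=
  Lre_d IH (LK LD1_c1 LD2_c9 LD3_c14) (LK LD1_c0 LD2_c31 LD3_c46) Lrfl Lrfl
theorem f34646 : Led Lsl_bf (LP (LK LD1_c1 LD2_c9 LD3_c14)) = (LP (LK LD1_c0 LD2_c55 LD3_c45)) :=
  Lgr Lrot93 (Lpr_dt (f34645 IH) (Lpr_bt (K0.f34637 IH) (Lpr_dt (K0.f33651 IH) (Lpn (LP (LK LD1_c0 LD2_c55 LD3_c45))))))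
theorem f22399 : Led Lsl_ct (LP (LK LD1_c0 LD2_c16 LD3_c21)) = (LP (LK LD1_c0 LD2_c36 LD3_c40)) :=
  Lre_c IH (LK LD1_c0 LD2_c16 LD3_c21) (LK LD1_c0 LD2_c36 LD3_c40) Lrfl Lrfl
theorem f172057 : Led Lsl_bt (LP (LK LD1_c0 LD2_c16 LD3_c21)) = (LP (LK LD1_c0 LD2_c36 LD3_c29)) :=
  Lre_b IH (LK LD1_c0 LD2_c16 LD3_c21) (LK LD1_c0 LD2_c36 LD3_c29) Lrfl Lrfl
theorem f193443 : Led Lsl_gf (LP (LK LD1_c1 LD2_c9 LD3_c14)) = (LP (LK LD1_c0 LD2_c36 LD3_c29)) :=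
  Lgr Lrot124 (Lpr_bf (f34646 IH) (Lpr_ct (K0.f33676 IH) (Lpe (f33720 IH) (Lpr_cf (f193407 IH) (Lpe (f177802 IH) (Lpr_gt (K9.f53167 IH) (Lpr_ct (K1.f55430 IH) (Lpe (K9.f172051 IH) (Lpe (f22399 IH) (Lpr_bt (f172057 IH) (Lpn (LP (LK LD1_c0 LD2_c36 LD3_c29)))))))))))))
theorem f184647 : Led Lsl_bt (LP (LK LD1_c0 LD2_c55 LD3_c46)) = (LP (LK LD1_c1 LD2_c57 LD3_c47)) :=
  Lre_b IH (LK LD1_c0 LD2_c55 LD3_c46) (LK LD1_c1 LD2_c57 LD3_c47) Lrfl Lrfl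
theorem f192984 : Led Lsl_gf (LP (LK LD1_c2 LD2_c24 LD3_c57)) = (LP (LK LD1_c1 LD2_c57 LD3_c47)) :=
  Lgr Lrot124 (Lpr_bf (f50031 IH) (Lpr_ct (K9.f49612 IH) (Lpe (f191103 IH) (Lpr_cf (f192572 IH) (Lpr_bt (f171522 IH) (Lpe (f192584 IH) (Lpr_ct (K1.f28182 IH) (Lpr_gt (f47060 IH) (Lpr_cf (f192959 IH) (Lpr_bt (f184647 IH) (Lpn (LP (LK LD1_c1 LD2_c57 LD3_c47)))))))))))))
theorem f51053 : Led Lsl_at (LP (LK LD1_c1 LD2_c9 LD3_c40)) = (LP (LK LD1_c2 LD2_c4 LD3_c12)) :=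
  Lgr Lrot107 (Lpe (K9.f50749 IH) (Lpe (K9.f50625 IH) (Lpr_cf (f51051 IH) (Lpn (LP (LK LD1_c2 LD2_c4 LD3_c12))))))
theorem f43398 : Led Lsl_ft (LP (LK LD1_c2 LD2_c24 LD3_c54)) = (LP (LK LD1_c1 LD2_c9 LD3_c40)) :=
  Lre_f IH (LK LD1_c2 LD2_c24 LD3_c54) (LK LD1_c1 LD2_c9 LD3_c40) Lrfl Lrfl
theorem f192481 : Led Lsl_gt (LP (LK LD1_c2 LD2_c24 LD3_c54)) = (LP (LK LD1_c1 LD2_c11 LD3_c24)) :=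
  Lgr Lrot5 (Lpr_ft (f43398 IH) (Lpr_at (f51053 IH) (Lpr_gf (f192477 IH) (Lpn (LP (LK LD1_c1 LD2_c11 LD3_c24))))))
theorem f192450 : Led Lsl_bt (LP (LK LD1_c0 LD2_c56 LD3_c49)) = (LP (LK LD1_c1 LD2_c59 LD3_c48)) :=
  Lre_b IH (LK LD1_c0 LD2_c56 LD3_c49) (LK LD1_c1 LD2_c59 LD3_c48) Lrfl Lrfl
theorem f192452 : Led Lsl_cf (LP (LK LD1_c0 LD2_c56 LD3_c49)) = (LP (LK LD1_c1 LD2_c11 LD3_c24)) :=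
  Lgr Lrot97 (Lpr_bt (f192450 IH) (Lpr_ct (f192366 IH) (Lpr_bt (f165850 IH) (Lpr_ct (K9.f3748 IH) (Lpr_bt (f192451 IH) (Lpn (LP (LK LD1_c1 LD2_c11 LD3_c24))))))))
theorem f46957 : Led Lsl_af (LP (LK LD1_c0 LD2_c56 LD3_c2)) = (LP (LK LD1_c0 LD2_c55 LD3_c61)) :=
  Lgr Lrot117 (Lpr_dt (K1.f27857 IH) (Lpr_at (K1.f46953 IH) (Lpr_dt (K1.f46028 IH) (Lpn (LP (LK LD1_c0 LD2_c55 LD3_c61))))))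
theorem f182001 : Led Lsl_gt (LP (LK LD1_c0 LD2_c25 LD3_c24)) = (LP (LK LD1_c0 LD2_c55 LD3_c36)) :=
  Lgr Lrot5 (Lpr_ft (K1.f46024 IH) (Lpe (f46957 IH) (Lpr_gf (K9.f181997 IH) (Lpn (LP (LK LD1_c0 LD2_c55 LD3_c36))))))
theorem f192988 : Led Lsl_bf (LP (LK LD1_c0 LD2_c55 LD3_c36)) = (LP (LK LD1_c1 LD2_c15 LD3_c7)) :=
  Lgr Lrot34 (Lpe (f182001 IH) (Lpr_bf (f44506 IH) (Lpe (K1.f41864 IH) (Lpe (f47419 IH) (Lpr_cf (f192452 IH) (Lpe (f192481 IH) (Lpe (f43346 IH) (Lpr_ct (K9.f43350 IH) (Lpr_gf (f192984 IH) (Lpr_cf (f184629 IH) (Lpn (LP (LK LD1_c1 LD2_c15 LD3_c7)))))))))))))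
theorem f192993 : Led Lsl_bt (LP (LK LD1_c0 LD2_c55 LD3_c36)) = (LP (LK LD1_c1 LD2_c15 LD3_c7)) :=
  Lgr Lrot127 (Lpr_bf (f192988 IH) (Lpn (LP (LK LD1_c1 LD2_c15 LD3_c7))))
theorem f193079 : Led Lsl_bf (LP (LK LD1_c0 LD2_c25 LD3_c15)) = (LP (LK LD1_c0 LD2_c25 LD3_c39)) :=
  Lgr Lrot90 (Lpr_ct (K9.f34618 IH) (Lpr_bt (f192993 IH) (Lpe (f184629 IH) (Lpr_bt (f33591 IH) (Lpe (f192959 IH) (Lpn (LP (LK LD1_c0 LD2_c25 LD3_c39))))))))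
theorem f192975 : Led Lsl_ct (LP (LK LD1_c0 LD2_c25 LD3_c39)) = (LP (LK LD1_c0 LD2_c55 LD3_c46)) :=
  Lgr Lrot59 (Lpr_cf (f192959 IH) (Lpn (LP (LK LD1_c0 LD2_c55 LD3_c46))))
theorem f193089 : Led Lsl_gf (LP (LK LD1_c0 LD2_c17 LD3_c41)) = (LP (LK LD1_c0 LD2_c31 LD3_c46)) :=
  Lgr Lrot181 (Lpr_ct (K9.f182008 IH) (Lpr_gt (K9.f37322 IH) (Lpr_cf (K0.f28588 IH) (Lpr_bt (K9.f34630 IH) (Lpr_gt (K9.f33187 IH) (Lpr_bf (f193079 IH) (Lpr_ct (f192975 IH) (Lpr_gt (f184649 IH) (Lpe (K0.f34027 IH) (Lpe (K0.f34639 IH) (Lpn (LP (LK LD1_c0 LD2_c31 LD3_c46)))))))))))))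
theorem f177642 : Led Lsl_dt (LP (LK LD1_c0 LD2_c39 LD3_c28)) = (LP (LK LD1_c0 LD2_c17 LD3_c41)) :=
  Lre_d IH (LK LD1_c0 LD2_c39 LD3_c28) (LK LD1_c0 LD2_c17 LD3_c41) Lrfl Lrfl
theorem f177181 : Led Lsl_bt (LP (LK LD1_c1 LD2_c12 LD3_c4)) = (LP (LK LD1_c0 LD2_c33 LD3_c21)) :=
  Lre_b IH (LK LD1_c1 LD2_c12 LD3_c4) (LK LD1_c0 LD2_c33 LD3_c21) Lrfl Lrfl
theorem f177646 : Led Lsl_bt (LP (LK LD1_c1 LD2_c5 LD3_c16)) = (LP (LK LD1_c2 LD2_c16 LD3_c42)) :=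
  Lre_b IH (LK LD1_c1 LD2_c5 LD3_c16) (LK LD1_c2 LD2_c16 LD3_c42) Lrfl Lrfl
theorem f177647 : Led Lsl_ef (LP (LK LD1_c1 LD2_c12 LD3_c4)) = (LP (LK LD1_c2 LD2_c16 LD3_c42)) :=
  Lgr Lrot29 (Lpr_bt (f177181 IH) (Lpr_et (K9.f177173 IH) (Lpr_bt (f177646 IH) (Lpn (LP (LK LD1_c2 LD2_c16 LD3_c42))))))
theorem f164158 : Led Lsl_bt (LP (LK LD1_c0 LD2_c33 LD3_c21)) = (LP (LK LD1_c1 LD2_c12 LD3_c4)) :=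
  Lre_b IH (LK LD1_c0 LD2_c33 LD3_c21) (LK LD1_c1 LD2_c12 LD3_c4) Lrfl Lrfl
theorem f177634 : Led Lsl_bt (LP (LK LD1_c0 LD2_c39 LD3_c29)) = (LP (LK LD1_c0 LD2_c17 LD3_c44)) :=
  Lre_b IH (LK LD1_c0 LD2_c39 LD3_c29) (LK LD1_c0 LD2_c17 LD3_c44) Lrfl Lrfl
theorem f177635 : Led Lsl_dt (LP (LK LD1_c1 LD2_c12 LD3_c4)) = (LP (LK LD1_c0 LD2_c39 LD3_c29)) :=
  Lgr Lrot79 (Lpe (f164158 IH) (Lpr_df (f177630 IH) (Lpe (f177634 IH) (Lpn (LP (LK LD1_c0 LD2_c39 LD3_c29))))))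
theorem f177639 : Led Lsl_et (LP (LK LD1_c0 LD2_c39 LD3_c29)) = (LP (LK LD1_c0 LD2_c17 LD3_c41)) :=
  Lre_e IH (LK LD1_c0 LD2_c39 LD3_c29) (LK LD1_c0 LD2_c17 LD3_c41) Lrfl Lrfl
theorem f177640 : Led Lsl_dt (LP (LK LD1_c0 LD2_c17 LD3_c41)) = (LP (LK LD1_c0 LD2_c39 LD3_c28)) :=
  Lre_d IH (LK LD1_c0 LD2_c17 LD3_c41) (LK LD1_c0 LD2_c39 LD3_c28) Lrfl Lrfl
theorem f177732 : Led Lsl_dt (LP (LK LD1_c1 LD2_c5 LD3_c14)) = (LP (LK LD1_c2 LD2_c16 LD3_c42)) :=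
  Lre_d IH (LK LD1_c1 LD2_c5 LD3_c14) (LK LD1_c2 LD2_c16 LD3_c42) Lrfl Lrfl
theorem f177733 : Led Lsl_et (LP (LK LD1_c0 LD2_c39 LD3_c28)) = (LP (LK LD1_c1 LD2_c5 LD3_c14)) :=
  Lgr Lrot71 (Lpe (f177640 IH) (Lpe (f177639 IH) (Lpe (f177635 IH) (Lpr_ef (f177647 IH) (Lpe (f177732 IH) (Lpn (LP (LK LD1_c1 LD2_c5 LD3_c14))))))))
theorem f193447 : Led Lsl_et (LP (LK LD1_c0 LD2_c16 LD3_c15)) = (LP (LK LD1_c0 LD2_c36 LD3_c29)) :=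
  Lre_e IH (LK LD1_c0 LD2_c16 LD3_c15) (LK LD1_c0 LD2_c36 LD3_c29) Lrfl Lrfl
theorem f193448 : Led Lsl_dt (LP (LK LD1_c0 LD2_c16 LD3_c15)) = (LP (LK LD1_c0 LD2_c7 LD3_c17)) :=
  Lre_d IH (LK LD1_c0 LD2_c16 LD3_c15) (LK LD1_c0 LD2_c7 LD3_c17) Lrfl Lrfl
theorem f171762 : Led Lsl_gt (LP (LK LD1_c0 LD2_c16 LD3_c14)) = (LP (LK LD1_c0 LD2_c7 LD3_c17)) :=
  Lre_g IH (LK LD1_c0 LD2_c16 LD3_c14) (LK LD1_c0 LD2_c7 LD3_c17) Lrfl Lrfl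
theorem f193449 : Led Lsl_dt (LP (LK LD1_c0 LD2_c36 LD3_c25)) = (LP (LK LD1_c0 LD2_c16 LD3_c14)) :=
  Lre_d IH (LK LD1_c0 LD2_c36 LD3_c25) (LK LD1_c0 LD2_c16 LD3_c14) Lrfl Lrfl
theorem f193450 : Led Lsl_et (LP (LK LD1_c0 LD2_c36 LD3_c25)) = (LP (LK LD1_c1 LD2_c19 LD3_c0)) :=
  Lre_e IH (LK LD1_c0 LD2_c36 LD3_c25) (LK LD1_c1 LD2_c19 LD3_c0) Lrfl Lrfl
theorem f193451 : Led Lsl_gt (LP (LK LD1_c1 LD2_c5 LD3_c14)) = (LP (LK LD1_c1 LD2_c19 LD3_c0)) :=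
  Lgr Lrot131 (Lpe (f177733 IH) (Lpr_dt (f177642 IH) (Lpr_gf (f193089 IH) (Lpe (f34645 IH) (Lpr_gf (f193443 IH) (Lpe (f193447 IH) (Lpr_dt (f193448 IH) (Lpe (f171762 IH) (Lpe (f193449 IH) (Lpr_et (f193450 IH) (Lpn (LP (LK LD1_c1 LD2_c19 LD3_c0)))))))))))))
theorem f196255 : Led Lsl_bf (LP (LK LD1_c1 LD2_c19 LD3_c0)) = (LP (LK LD1_c1 LD2_c27 LD3_c50)) :=
  Lgr Lrot34 (Lpe (f193451 IH) (Lpe (f20574 IH) (Lpr_ct (f20578 IH) (Lpr_gf (f176553 IH) (Lpe (K9.f26036 IH) (Lpe (K9.f27239 IH) (Lpe (f100663 IH) (Lpr_ct (f100664 IH) (Lpr_gf (f196236 IH) (Lpe (K1.f36721 IH) (Lpn (LP (LK LD1_c1 LD2_c27 LD3_c50)))))))))))))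
theorem f196264 : Led Lsl_et (LP (LK LD1_c1 LD2_c19 LD3_c0)) = (LP (LK LD1_c0 LD2_c36 LD3_c25)) :=
  Lre_e IH (LK LD1_c1 LD2_c19 LD3_c0) (LK LD1_c0 LD2_c36 LD3_c25) Lrfl Lrfl
theorem f196265 : Led Lsl_bt (LP (LK LD1_c0 LD2_c36 LD3_c25)) = (LP (LK LD1_c0 LD2_c55 LD3_c11)) :=
  Lgr Lrot119 (Lpe (f196264 IH) (Lpr_bf (f196255 IH) (Lpr_ef (K1.f36722 IH) (Lpn (LP (LK LD1_c0 LD2_c55 LD3_c11))))))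
theorem f196273 : Led Lsl_ff (LP (LK LD1_c0 LD2_c36 LD3_c25)) = (LP (LK LD1_c0 LD2_c31 LD3_c43)) :=
  Lgr Lrot25 (Lpr_bt (f196265 IH) (Lpr_ft (K1.f2976 IH) (Lpe (K0.f2960 IH) (Lpn (LP (LK LD1_c0 LD2_c31 LD3_c43))))))
theorem f196284 : Led Lsl_ft (LP (LK LD1_c0 LD2_c36 LD3_c25)) = (LP (LK LD1_c0 LD2_c31 LD3_c43)) :=
  Lgr Lrot48 (Lpr_ff (f196273 IH) (Lpn (LP (LK LD1_c0 LD2_c31 LD3_c43))))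
theorem f2964 : Led Lsl_bt (LP (LK LD1_c0 LD2_c31 LD3_c43)) = (LP (LK LD1_c0 LD2_c24 LD3_c59)) :=
  Lgr Lrot127 (Lpr_bf (K0.f2960 IH) (Lpn (LP (LK LD1_c0 LD2_c24 LD3_c59))))
theorem f29623 : Led Lsl_bt (LP (LK LD1_c0 LD2_c28 LD3_c60)) = (LP (LK LD1_c0 LD2_c12 LD3_c49)) :=
  Lre_b IH (LK LD1_c0 LD2_c28 LD3_c60) (LK LD1_c0 LD2_c12 LD3_c49) Lrfl Lrfl
theorem f29624 : Led Lsl_ct (LP (LK LD1_c0 LD2_c28 LD3_c60)) = (LP (LK LD1_c1 LD2_c3 LD3_c27)) :=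
  Lre_c IH (LK LD1_c0 LD2_c28 LD3_c60) (LK LD1_c1 LD2_c3 LD3_c27) Lrfl Lrfl
theorem f193674 : Led Lsl_gt (LP (LK LD1_c1 LD2_c9 LD3_c12)) = (LP (LK LD1_c1 LD2_c3 LD3_c27)) :=
  Lgr Lrot65 (Lpe (K8.f2966 IH) (Lpr_bt (f2964 IH) (Lpr_gf (f193663 IH) (Lpe (f28381 IH) (Lpr_ct (K9.f174524 IH) (Lpe (K9.f20809 IH) (Lpe (K9.f20808 IH) (Lpe (K9.f20230 IH) (Lpe (f29623 IH) (Lpr_ct (f29624 IH) (Lpn (LP (LK LD1_c1 LD2_c3 LD3_c27)))))))))))))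
theorem f171776 : Led Lsl_bt (LP (LK LD1_c0 LD2_c7 LD3_c22)) = (LP (LK LD1_c0 LD2_c16 LD3_c26)) :=
  Lre_b IH (LK LD1_c0 LD2_c7 LD3_c22) (LK LD1_c0 LD2_c16 LD3_c26) Lrfl Lrfl
theorem f193679 : Led Lsl_gf (LP (LK LD1_c0 LD2_c31 LD3_c43)) = (LP (LK LD1_c0 LD2_c16 LD3_c26)) :=
  Lgr Lrot181 (Lpr_ct (K8.f2966 IH) (Lpr_gt (f193674 IH) (Lpe (f29624 IH) (Lpr_bt (f29623 IH) (Lpr_gt (K9.f20230 IH) (Lpe (K9.f20814 IH) (Lpr_ct (K1.f40748 IH) (Lpe (K9.f171766 IH) (Lpe (K9.f101338 IH) (Lpr_bt (f171776 IH) (Lpn (LP (LK LD1_c0 LD2_c16 LD3_c26)))))))))))))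
theorem f196294 : Led Lsl_gt (LP (LK LD1_c0 LD2_c36 LD3_c25)) = (LP (LK LD1_c0 LD2_c16 LD3_c26)) :=
  Lgr Lrot5 (Lpr_ft (f196284 IH) (Lpe (K1.f6902 IH) (Lpr_gf (f193679 IH) (Lpn (LP (LK LD1_c0 LD2_c16 LD3_c26))))))
theorem f196267 : Led Lsl_bf (LP (LK LD1_c0 LD2_c36 LD3_c25)) = (LP (LK LD1_c0 LD2_c55 LD3_c11)) :=
  Lgr Lrot24 (Lpr_bt (f196265 IH) (Lpn (LP (LK LD1_c0 LD2_c55 LD3_c11))))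
theorem f28470 : Led Lsl_gt (LP (LK LD1_c0 LD2_c24 LD3_c35)) = (LP (LK LD1_c0 LD2_c54 LD3_c28)) :=
  Lre_g IH (LK LD1_c0 LD2_c24 LD3_c35) (LK LD1_c0 LD2_c54 LD3_c28) Lrfl Lrfl
theorem f171777 : Led Lsl_ct (LP (LK LD1_c0 LD2_c54 LD3_c28)) = (LP (LK LD1_c1 LD2_c55 LD3_c27)) :=
  Lre_c IH (LK LD1_c0 LD2_c54 LD3_c28) (LK LD1_c1 LD2_c55 LD3_c27) Lrfl Lrfl
theorem f196296 : Led Lsl_gf (LP (LK LD1_c1 LD2_c56 LD3_c48)) = (LP (LK LD1_c1 LD2_c55 LD3_c27)) :=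
  Lgr Lrot129 (Lpe (K1.f6950 IH) (Lpe (f196267 IH) (Lpr_gt (f196294 IH) (Lpe (f171776 IH) (Lpr_ct (K9.f101338 IH) (Lpr_gt (K9.f171757 IH) (Lpe (K1.f28391 IH) (Lpr_bt (K9.f171774 IH) (Lpr_gt (f28470 IH) (Lpr_ct (f171777 IH) (Lpn (LP (LK LD1_c1 LD2_c55 LD3_c27)))))))))))))
theorem f28469 : Led Lsl_dt (LP (LK LD1_c0 LD2_c10 LD3_c57)) = (LP (LK LD1_c0 LD2_c24 LD3_c35)) :=
  Lre_d IH (LK LD1_c0 LD2_c10 LD3_c57) (LK LD1_c0 LD2_c24 LD3_c35) Lrfl Lrfl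
theorem f28518 : Led Lsl_gt (LP (LK LD1_c0 LD2_c10 LD3_c57)) = (LP (LK LD1_c0 LD2_c24 LD3_c34)) :=
  Lre_g IH (LK LD1_c0 LD2_c10 LD3_c57) (LK LD1_c0 LD2_c24 LD3_c34) Lrfl Lrfl
theorem f43094 : Led Lsl_ct (LP (LK LD1_c0 LD2_c24 LD3_c34)) = (LP (LK LD1_c0 LD2_c54 LD3_c25)) :=
  Lre_c IH (LK LD1_c0 LD2_c24 LD3_c34) (LK LD1_c0 LD2_c54 LD3_c25) Lrfl Lrfl
theorem f196303 : Led Lsl_gf (LP (LK LD1_c0 LD2_c31 LD3_c52)) = (LP (LK LD1_c0 LD2_c54 LD3_c25)) :=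
  Lgr Lrot104 (Lpr_ct (K0.f6935 IH) (Lpe (K1.f6937 IH) (Lpe (K1.f6938 IH) (Lpr_gf (f196296 IH) (Lpe (f171777 IH) (Lpe (f28470 IH) (Lpe (f28469 IH) (Lpr_gt (f28518 IH) (Lpr_ct (f43094 IH) (Lpn (LP (LK LD1_c0 LD2_c54 LD3_c25))))))))))))
theorem f196316 : Led Lsl_gt (LP (LK LD1_c0 LD2_c25 LD3_c1)) = (LP (LK LD1_c0 LD2_c54 LD3_c25)) :=
  Lgr Lrot5 (Lpr_ft (K1.f29169 IH) (Lpr_at (K1.f29190 IH) (Lpr_gf (f196303 IH) (Lpn (LP (LK LD1_c0 LD2_c54 LD3_c25))))))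
theorem f28757 : Led Lsl_et (LP (LK LD1_c0 LD2_c11 LD3_c8)) = (LP (LK LD1_c0 LD2_c25 LD3_c1)) :=
  Lre_e IH (LK LD1_c0 LD2_c11 LD3_c8) (LK LD1_c0 LD2_c25 LD3_c1) Lrfl Lrfl
theorem f196321 : Led Lsl_et (LP (LK LD1_c1 LD2_c55 LD3_c23)) = (LP (LK LD1_c0 LD2_c54 LD3_c25)) :=
  Lre_e IH (LK LD1_c1 LD2_c55 LD3_c23) (LK LD1_c0 LD2_c54 LD3_c25) Lrfl Lrfl
theorem f196331 : Led Lsl_df (LP (LK LD1_c1 LD2_c12 LD3_c55)) = (LP (LK LD1_c1 LD2_c55 LD3_c23)) :=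
  Lgr Lrot170 (Lpr_gt (f22006 IH) (Lpe (K0.f21846 IH) (Lpr_et (K0.f22003 IH) (Lpr_gt (K1.f33108 IH) (Lpr_dt (K0.f8094 IH) (Lpr_gt (K0.f8090 IH) (Lpr_df (K0.f28755 IH) (Lpr_et (f28757 IH) (Lpr_gt (f196316 IH) (Lpe (f196321 IH) (Lpn (LP (LK LD1_c1 LD2_c55 LD3_c23)))))))))))))
theorem f21276 : Led Lsl_dt (LP (LK LD1_c0 LD2_c6 LD3_c56)) = (LP (LK LD1_c0 LD2_c6 LD3_c49)) :=
  Lgr Lrot79 (Lpe (K0.f20455 IH) (Lpr_df (K0.f21272 IH) (Lpe (K0.f3093 IH) (Lpn (LP (LK LD1_c0 LD2_c6 LD3_c49))))))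
theorem f22111 : Led Lsl_et (LP (LK LD1_c1 LD2_c12 LD3_c50)) = (LP (LK LD1_c0 LD2_c33 LD3_c47)) :=
  Lre_e IH (LK LD1_c1 LD2_c12 LD3_c50) (LK LD1_c0 LD2_c33 LD3_c47) Lrfl Lrfl
theorem f33142 : Led Lsl_df (LP (LK LD1_c1 LD2_c56 LD3_c55)) = (LP (LK LD1_c1 LD2_c12 LD3_c50)) :=
  Lgr Lrot170 (Lpr_gt (K9.f29652 IH) (Lpe (K1.f28758 IH) (Lpr_et (K1.f29158 IH) (Lpr_gt (K0.f30827 IH) (Lpr_dt (K0.f33124 IH) (Lpr_gt (K0.f3793 IH) (Lpe (f21276 IH) (Lpr_et (K0.f21847 IH) (Lpr_gt (f21854 IH) (Lpe (f22111 IH) (Lpn (LP (LK LD1_c1 LD2_c12 LD3_c50)))))))))))))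
theorem f196349 : Led Lsl_gf (LP (LK LD1_c0 LD2_c55 LD3_c49)) = (LP (LK LD1_c0 LD2_c33 LD3_c47)) :=
  Lgr Lrot138 (Lpr_dt (K0.f33610 IH) (Lpr_gt (f34000 IH) (Lpr_df (f196331 IH) (Lpr_et (f196321 IH) (Lpe (f196303 IH) (Lpr_ef (K0.f2412 IH) (Lpr_dt (K0.f2409 IH) (Lpr_gt (K9.f29653 IH) (Lpr_df (f33142 IH) (Lpr_et (f22111 IH) (Lpn (LP (LK LD1_c0 LD2_c33 LD3_c47)))))))))))))
theorem f32259 : Led Lsl_at (LP (LK LD1_c0 LD2_c34 LD3_c38)) = (LP (LK LD1_c0 LD2_c15 LD3_c34)) :=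
  Lre_a IH (LK LD1_c0 LD2_c34 LD3_c38) (LK LD1_c0 LD2_c15 LD3_c34) Lrfl Lrfl
theorem f32261 : Led Lsl_at (LP (LK LD1_c0 LD2_c15 LD3_c28)) = (LP (LK LD1_c0 LD2_c34 LD3_c26)) :=
  Lre_a IH (LK LD1_c0 LD2_c15 LD3_c28) (LK LD1_c0 LD2_c34 LD3_c26) Lrfl Lrfl
theorem f32262 : Led Lsl_bf (LP (LK LD1_c0 LD2_c34 LD3_c38)) = (LP (LK LD1_c0 LD2_c34 LD3_c26)) :=
  Lgr Lrot81 (Lpr_at (f32259 IH) (Lpr_bt (K0.f32061 IH) (Lpr_at (K1.f32244 IH) (Lpr_bt (K1.f32260 IH) (Lpr_at (f32261 IH) (Lpn (LP (LK LD1_c0 LD2_c34 LD3_c26))))))))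
theorem f190960 : Led Lsl_bt (LP (LK LD1_c1 LD2_c12 LD3_c48)) = (LP (LK LD1_c0 LD2_c33 LD3_c47)) :=
  Lre_b IH (LK LD1_c1 LD2_c12 LD3_c48) (LK LD1_c0 LD2_c33 LD3_c47) Lrfl Lrfl
theorem f190961 : Led Lsl_ct (LP (LK LD1_c1 LD2_c12 LD3_c48)) = (LP (LK LD1_c0 LD2_c35 LD3_c22)) :=
  Lgr Lrot59 (Lpr_cf (f190950 IH) (Lpn (LP (LK LD1_c0 LD2_c35 LD3_c22))))
theorem f196357 : Led Lsl_gt (LP (LK LD1_c0 LD2_c27 LD3_c7)) = (LP (LK LD1_c0 LD2_c35 LD3_c22)) :=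
  Lgr Lrot65 (Lpe (K1.f45233 IH) (Lpe (f32262 IH) (Lpe (f32921 IH) (Lpr_bf (f171517 IH) (Lpr_ct (f34624 IH) (Lpe (f171530 IH) (Lpe (K0.f33595 IH) (Lpr_gf (f196349 IH) (Lpe (f190960 IH) (Lpr_ct (f190961 IH) (Lpn (LP (LK LD1_c0 LD2_c35 LD3_c22)))))))))))))
theorem f28126 : Led Lsl_et (LP (LK LD1_c0 LD2_c25 LD3_c27)) = (LP (LK LD1_c0 LD2_c11 LD3_c20)) :=
  Lre_e IH (LK LD1_c0 LD2_c25 LD3_c27) (LK LD1_c0 LD2_c11 LD3_c20) Lrfl Lrfl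
theorem f33098 : Led Lsl_dt (LP (LK LD1_c0 LD2_c25 LD3_c27)) = (LP (LK LD1_c0 LD2_c56 LD3_c4)) :=
  Lre_d IH (LK LD1_c0 LD2_c25 LD3_c27) (LK LD1_c0 LD2_c56 LD3_c4) Lrfl Lrfl
theorem f190964 : Led Lsl_et (LP (LK LD1_c1 LD2_c16 LD3_c27)) = (LP (LK LD1_c0 LD2_c35 LD3_c22)) :=
  Lre_e IH (LK LD1_c1 LD2_c16 LD3_c27) (LK LD1_c0 LD2_c35 LD3_c22) Lrfl Lrfl
theorem f183239 : Led Lsl_bt (LP (LK LD1_c0 LD2_c35 LD3_c24)) = (LP (LK LD1_c1 LD2_c16 LD3_c27)) :=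
  Lre_b IH (LK LD1_c0 LD2_c35 LD3_c24) (LK LD1_c1 LD2_c16 LD3_c27) Lrfl Lrfl
theorem f168082 : Led Lsl_bt (LP (LK LD1_c0 LD2_c35 LD3_c55)) = (LP (LK LD1_c0 LD2_c16 LD3_c1)) :=
  Lre_b IH (LK LD1_c0 LD2_c35 LD3_c55) (LK LD1_c0 LD2_c16 LD3_c1) Lrfl Lrfl
theorem f183248 : Led Lsl_dt (LP (LK LD1_c1 LD2_c16 LD3_c27)) = (LP (LK LD1_c0 LD2_c35 LD3_c55)) :=
  Lgr Lrot79 (Lpe (f183239 IH) (Lpr_df (K9.f183243 IH) (Lpe (f168082 IH) (Lpn (LP (LK LD1_c0 LD2_c35 LD3_c55))))))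
theorem f196391 : Led Lsl_gf (LP (LK LD1_c0 LD2_c56 LD3_c4)) = (LP (LK LD1_c0 LD2_c35 LD3_c55)) :=
  Lgr Lrot145 (Lpe (f33098 IH) (Lpr_et (f28126 IH) (Lpe (K1.f33089 IH) (Lpe (K8.f45736 IH) (Lpe (K1.f32324 IH) (Lpr_df (K1.f45092 IH) (Lpr_et (f45106 IH) (Lpr_gt (f196357 IH) (Lpe (f190964 IH) (Lpr_dt (f183248 IH) (Lpn (LP (LK LD1_c0 LD2_c35 LD3_c55)))))))))))))
theorem f52294 : Led Lsl_ct (LP (LK LD1_c0 LD2_c25 LD3_c31)) = (LP (LK LD1_c0 LD2_c56 LD3_c18)) :=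
  Lre_c IH (LK LD1_c0 LD2_c25 LD3_c31) (LK LD1_c0 LD2_c56 LD3_c18) Lrfl Lrfl
theorem f52295 : Led Lsl_gt (LP (LK LD1_c0 LD2_c56 LD3_c18)) = (LP (LK LD1_c1 LD2_c59 LD3_c0)) :=
  Lre_g IH (LK LD1_c0 LD2_c56 LD3_c18) (LK LD1_c1 LD2_c59 LD3_c0) Lrfl Lrfl
theorem f168113 : Led Lsl_bt (LP (LK LD1_c0 LD2_c16 LD3_c1)) = (LP (LK LD1_c0 LD2_c35 LD3_c55)) :=
  Lre_b IH (LK LD1_c0 LD2_c16 LD3_c1) (LK LD1_c0 LD2_c35 LD3_c55) Lrfl Lrfl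
theorem f41099 : Led Lsl_bt (LP (LK LD1_c1 LD2_c10 LD3_c3)) = (LP (LK LD1_c0 LD2_c32 LD3_c24)) :=
  Lre_b IH (LK LD1_c1 LD2_c10 LD3_c3) (LK LD1_c0 LD2_c32 LD3_c24) Lrfl Lrfl
theorem f196399 : Led Lsl_cf (LP (LK LD1_c1 LD2_c59 LD3_c0)) = (LP (LK LD1_c1 LD2_c10 LD3_c3)) :=
  Lgr Lrot58 (Lpe (f52295 IH) (Lpe (f52294 IH) (Lpr_bt (K9.f50400 IH) (Lpr_gf (f196391 IH) (Lpe (f168113 IH) (Lpr_ct (K9.f168086 IH) (Lpr_gf (K9.f174106 IH) (Lpe (K9.f173074 IH) (Lpr_gf (K9.f41096 IH) (Lpe (f41099 IH) (Lpn (LP (LK LD1_c1 LD2_c10 LD3_c3)))))))))))))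
theorem f52251 : Led Lsl_at (LP (LK LD1_c0 LD2_c56 LD3_c18)) = (LP (LK LD1_c1 LD2_c57 LD3_c23)) :=
  Lre_a IH (LK LD1_c0 LD2_c56 LD3_c18) (LK LD1_c1 LD2_c57 LD3_c23) Lrfl Lrfl
theorem f52252 : Led Lsl_dt (LP (LK LD1_c1 LD2_c59 LD3_c3)) = (LP (LK LD1_c0 LD2_c56 LD3_c18)) :=
  Lre_d IH (LK LD1_c1 LD2_c59 LD3_c3) (LK LD1_c0 LD2_c56 LD3_c18) Lrfl Lrfl
theorem f52253 : Led Lsl_at (LP (LK LD1_c1 LD2_c59 LD3_c4)) = (LP (LK LD1_c1 LD2_c59 LD3_c3)) :=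
  Lgr Lrot51 (Lpr_df (f52247 IH) (Lpe (f52251 IH) (Lpe (f52252 IH) (Lpn (LP (LK LD1_c1 LD2_c59 LD3_c3))))))
theorem f52274 : Led Lsl_ft (LP (LK LD1_c0 LD2_c56 LD3_c18)) = (LP (LK LD1_c1 LD2_c59 LD3_c4)) :=
  Lre_f IH (LK LD1_c0 LD2_c56 LD3_c18) (LK LD1_c1 LD2_c59 LD3_c4) Lrfl Lrfl
theorem f53069 : Led Lsl_gt (LP (LK LD1_c1 LD2_c59 LD3_c0)) = (LP (LK LD1_c1 LD2_c59 LD3_c3)) :=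
  Lgr Lrot46 (Lpe (f52295 IH) (Lpr_ft (f52274 IH) (Lpr_at (f52253 IH) (Lpn (LP (LK LD1_c1 LD2_c59 LD3_c3))))))
theorem f52242 : Led Lsl_ct (LP (LK LD1_c1 LD2_c57 LD3_c23)) = (LP (LK LD1_c0 LD2_c55 LD3_c30)) :=
  Lre_c IH (LK LD1_c1 LD2_c57 LD3_c23) (LK LD1_c0 LD2_c55 LD3_c30) Lrfl Lrfl
theorem f52269 : Led Lsl_ft (LP (LK LD1_c0 LD2_c55 LD3_c30)) = (LP (LK LD1_c1 LD2_c57 LD3_c24)) :=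
  Lre_f IH (LK LD1_c0 LD2_c55 LD3_c30) (LK LD1_c1 LD2_c57 LD3_c24) Lrfl Lrfl
theorem f52280 : Led Lsl_cf (LP (LK LD1_c1 LD2_c59 LD3_c3)) = (LP (LK LD1_c1 LD2_c57 LD3_c24)) :=
  Lgr Lrot108 (Lpr_ft (f52266 IH) (Lpr_ct (f52242 IH) (Lpr_ft (f52269 IH) (Lpn (LP (LK LD1_c1 LD2_c57 LD3_c24))))))
theorem f196414 : Led Lsl_bt (LP (LK LD1_c1 LD2_c57 LD3_c24)) = (LP (LK LD1_c2 LD2_c37 LD3_c46)) :=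
  Lgr Lrot130 (Lpe (f52280 IH) (Lpe (f53069 IH) (Lpr_cf (f196399 IH) (Lpr_bt (f41099 IH) (Lpe (K9.f3105 IH) (Lpe (K9.f41216 IH) (Lpr_ct (K9.f167925 IH) (Lpe (K9.f55165 IH) (Lpr_cf (K9.f167926 IH) (Lpr_gf (f194616 IH) (Lpn (LP (LK LD1_c2 LD2_c37 LD3_c46)))))))))))))
theorem f28104 : Led Lsl_et (LP (LK LD1_c4 LD2_c1 LD3_c10)) = (LP (LK LD1_c1 LD2_c57 LD3_c24)) :=
  Lre_e IH (LK LD1_c4 LD2_c1 LD3_c10) (LK LD1_c1 LD2_c57 LD3_c24) Lrfl Lrfl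
theorem f194652 : Led Lsl_et (LP (LK LD1_c2 LD2_c37 LD3_c46)) = (LP (LK LD1_c5 LD2_c22 LD3_c27)) :=
  Lre_e IH (LK LD1_c2 LD2_c37 LD3_c46) (LK LD1_c5 LD2_c22 LD3_c27) Lrfl Lrfl
theorem f196540 : Led Lsl_bf (LP (LK LD1_c4 LD2_c1 LD3_c10)) = (LP (LK LD1_c5 LD2_c22 LD3_c27)) :=
  Lgr Lrot96 (Lpr_et (f28104 IH) (Lpr_bt (f196414 IH) (Lpr_et (f194652 IH) (Lpn (LP (LK LD1_c5 LD2_c22 LD3_c27))))))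
theorem f28073 : Led Lsl_ft (LP (LK LD1_c4 LD2_c1 LD3_c10)) = (LP (LK LD1_c8 LD2_c2 LD3_c52)) :=
  Lre_f IH (LK LD1_c4 LD2_c1 LD3_c10) (LK LD1_c8 LD2_c2 LD3_c52) Lrfl Lrfl
theorem f30849 : Led Lsl_et (LP (LK LD1_c8 LD2_c39 LD3_c48)) = (LP (LK LD1_c4 LD2_c21 LD3_c1)) :=
  Lre_e IH (LK LD1_c8 LD2_c39 LD3_c48) (LK LD1_c4 LD2_c21 LD3_c1) Lrfl Lrfl
theorem f30981 : Led Lsl_bt (LP (LK LD1_c8 LD2_c2 LD3_c52)) = (LP (LK LD1_c8 LD2_c39 LD3_c48)) :=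
  Lgr Lrot119 (Lpe (f28058 IH) (Lpr_bf (K9.f30973 IH) (Lpe (f30849 IH) (Lpn (LP (LK LD1_c8 LD2_c39 LD3_c48))))))
theorem f196546 : Led Lsl_ft (LP (LK LD1_c8 LD2_c39 LD3_c48)) = (LP (LK LD1_c5 LD2_c22 LD3_c27)) :=
  Lgr Lrot75 (Lpe (f30981 IH) (Lpe (f28073 IH) (Lpr_bf (f196540 IH) (Lpn (LP (LK LD1_c5 LD2_c22 LD3_c27))))))
theorem f30844 : Led Lsl_et (LP (LK LD1_c1 LD2_c1 LD3_c8)) = (LP (LK LD1_c0 LD2_c27 LD3_c56)) :=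
  Lre_e IH (LK LD1_c1 LD2_c1 LD3_c8) (LK LD1_c0 LD2_c27 LD3_c56) Lrfl Lrfl
theorem f30846 : Led Lsl_et (LP (LK LD1_c2 LD2_c8 LD3_c1)) = (LP (LK LD1_c2 LD2_c8 LD3_c1)) :=
  Lgr Lrot69 (Lpe (K9.f30843 IH) (Lpe (K9.f30836 IH) (Lpr_ff (K1.f30839 IH) (Lpe (f30844 IH) (Lpe (K9.f30845 IH) (Lpn (LP (LK LD1_c2 LD2_c8 LD3_c1))))))))
theorem f30851 : Led Lsl_et (LP (LK LD1_c4 LD2_c21 LD3_c1)) = (LP (LK LD1_c8 LD2_c39 LD3_c48)) :=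
  Lre_e IH (LK LD1_c4 LD2_c21 LD3_c1) (LK LD1_c8 LD2_c39 LD3_c48) Lrfl Lrfl
theorem f30852 : Led Lsl_df (LP (LK LD1_c8 LD2_c39 LD3_c48)) = (LP (LK LD1_c8 LD2_c39 LD3_c48)) :=
  Lgr Lrot70 (Lpr_et (f30849 IH) (Lpr_dt (K9.f30848 IH) (Lpr_et (f30846 IH) (Lpr_dt (K9.f30850 IH) (Lpr_et (f30851 IH) (Lpn (LP (LK LD1_c8 LD2_c39 LD3_c48))))))))
theorem f194645 : Led Lsl_et (LP (LK LD1_c1 LD2_c15 LD3_c53)) = (LP (LK LD1_c1 LD2_c15 LD3_c53)) :=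
  Lgr Lrot122 (Lpr_dt (f172029 IH) (Lpe (f194616 IH) (Lpr_df (f194603 IH) (Lpr_et (f194178 IH) (Lpe (f194182 IH) (Lpr_dt (K9.f45610 IH) (Lpr_gt (f194628 IH) (Lpe (f194627 IH) (Lpr_et (f194626 IH) (Lpr_gt (f172015 IH) (Lpn (LP (LK LD1_c1 LD2_c15 LD3_c53)))))))))))))
theorem f194625 : Led Lsl_dt (LP (LK LD1_c2 LD2_c37 LD3_c46)) = (LP (LK LD1_c1 LD2_c15 LD3_c53)) :=
  Lre_d IH (LK LD1_c2 LD2_c37 LD3_c46) (LK LD1_c1 LD2_c15 LD3_c53) Lrfl Lrfl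
theorem f194620 : Led Lsl_et (LP (LK LD1_c5 LD2_c22 LD3_c27)) = (LP (LK LD1_c2 LD2_c37 LD3_c46)) :=
  Lre_e IH (LK LD1_c5 LD2_c22 LD3_c27) (LK LD1_c2 LD2_c37 LD3_c46) Lrfl Lrfl
theorem f194653 : Led Lsl_df (LP (LK LD1_c5 LD2_c22 LD3_c27)) = (LP (LK LD1_c5 LD2_c22 LD3_c27)) :=
  Lgr Lrot70 (Lpr_et (f194620 IH) (Lpr_dt (f194625 IH) (Lpr_et (f194645 IH) (Lpr_dt (f172029 IH) (Lpr_et (f194652 IH) (Lpn (LP (LK LD1_c5 LD2_c22 LD3_c27))))))))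
theorem f196550 : Led Lsl_ff (LP (LK LD1_c8 LD2_c39 LD3_c48)) = (LP (LK LD1_c5 LD2_c22 LD3_c27)) :=
  Lgr Lrot19 (Lpe (f30852 IH) (Lpr_ft (f196546 IH) (Lpe (f194653 IH) (Lpn (LP (LK LD1_c5 LD2_c22 LD3_c27))))))
theorem f196554 : Led Lsl_ft (LP (LK LD1_c1 LD2_c57 LD3_c17)) = (LP (LK LD1_c2 LD2_c37 LD3_c46)) :=
  Lgr Lrot86 (Lpr_ef (K9.f30860 IH) (Lpe (K9.f30872 IH) (Lpe (f30849 IH) (Lpr_ff (f196550 IH) (Lpe (f194652 IH) (Lpn (LP (LK LD1_c2 LD2_c37 LD3_c46))))))))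
theorem f30884 : Led Lsl_dt (LP (LK LD1_c0 LD2_c55 LD3_c28)) = (LP (LK LD1_c1 LD2_c57 LD3_c17)) :=
  Lre_d IH (LK LD1_c0 LD2_c55 LD3_c28) (LK LD1_c1 LD2_c57 LD3_c17) Lrfl Lrfl
theorem f196558 : Led Lsl_ff (LP (LK LD1_c0 LD2_c55 LD3_c28)) = (LP (LK LD1_c1 LD2_c15 LD3_c53)) :=
  Lgr Lrot19 (Lpr_dt (f30884 IH) (Lpr_ft (f196554 IH) (Lpr_dt (f194625 IH) (Lpn (LP (LK LD1_c1 LD2_c15 LD3_c53))))))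
theorem f196564 : Led Lsl_ft (LP (LK LD1_c0 LD2_c55 LD3_c28)) = (LP (LK LD1_c1 LD2_c15 LD3_c53)) :=
  Lgr Lrot86 (Lpe (K9.f28156 IH) (Lpe (K1.f28147 IH) (Lpe (K9.f28155 IH) (Lpr_ff (f196558 IH) (Lpe (f194645 IH) (Lpn (LP (LK LD1_c1 LD2_c15 LD3_c53))))))))
theorem f51566 : Led Lsl_at (LP (LK LD1_c0 LD2_c5 LD3_c18)) = (LP (LK LD1_c0 LD2_c11 LD3_c14)) :=
  Lre_a IH (LK LD1_c0 LD2_c5 LD3_c18) (LK LD1_c0 LD2_c11 LD3_c14) Lrfl Lrfl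
theorem f7995 : Led Lsl_bt (LP (LK LD1_c0 LD2_c5 LD3_c32)) = (LP (LK LD1_c0 LD2_c2 LD3_c33)) :=
  Lre_b IH (LK LD1_c0 LD2_c5 LD3_c32) (LK LD1_c0 LD2_c2 LD3_c33) Lrfl Lrfl
theorem f51567 : Led Lsl_at (LP (LK LD1_c0 LD2_c11 LD3_c55)) = (LP (LK LD1_c0 LD2_c5 LD3_c32)) :=
  Lre_a IH (LK LD1_c0 LD2_c11 LD3_c55) (LK LD1_c0 LD2_c5 LD3_c32) Lrfl Lrfl
theorem f51568 : Led Lsl_bt (LP (LK LD1_c0 LD2_c11 LD3_c14)) = (LP (LK LD1_c0 LD2_c11 LD3_c55)) :=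
  Lgr Lrot62 (Lpe (f51566 IH) (Lpe (f51565 IH) (Lpr_af (K9.f51561 IH) (Lpe (f7995 IH) (Lpe (f51567 IH) (Lpn (LP (LK LD1_c0 LD2_c11 LD3_c55))))))))
theorem f50124 : Led Lsl_bt (LP (LK LD1_c0 LD2_c55 LD3_c28)) = (LP (LK LD1_c0 LD2_c25 LD3_c11)) :=
  Lre_b IH (LK LD1_c0 LD2_c55 LD3_c28) (LK LD1_c0 LD2_c25 LD3_c11) Lrfl Lrfl
theorem f52687 : Led Lsl_bt (LP (LK LD1_c0 LD2_c26 LD3_c52)) = (LP (LK LD1_c0 LD2_c59 LD3_c0)) :=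
  Lre_b IH (LK LD1_c0 LD2_c26 LD3_c52) (LK LD1_c0 LD2_c59 LD3_c0) Lrfl Lrfl
theorem f53137 : Led Lsl_cf (LP (LK LD1_c0 LD2_c55 LD3_c28)) = (LP (LK LD1_c0 LD2_c59 LD3_c0)) :=
  Lgr Lrot97 (Lpr_bt (f50124 IH) (Lpr_ct (K9.f52240 IH) (Lpr_bt (f51568 IH) (Lpr_ct (f52678 IH) (Lpr_bt (f52687 IH) (Lpn (LP (LK LD1_c0 LD2_c59 LD3_c0))))))))
theorem f172016 : Led Lsl_ct (LP (LK LD1_c1 LD2_c15 LD3_c53)) = (LP (LK LD1_c1 LD2_c19 LD3_c3)) :=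
  Lre_c IH (LK LD1_c1 LD2_c15 LD3_c53) (LK LD1_c1 LD2_c19 LD3_c3) Lrfl Lrfl
theorem f196573 : Led Lsl_ff (LP (LK LD1_c0 LD2_c59 LD3_c0)) = (LP (LK LD1_c1 LD2_c19 LD3_c3)) :=
  Lgr Lrot23 (Lpe (f53137 IH) (Lpr_ft (f196564 IH) (Lpr_ct (f172016 IH) (Lpn (LP (LK LD1_c1 LD2_c19 LD3_c3))))))
theorem f194663 : Led Lsl_dt (LP (LK LD1_c2 LD2_c45 LD3_c21)) = (LP (LK LD1_c1 LD2_c19 LD3_c3)) :=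
  Lre_d IH (LK LD1_c2 LD2_c45 LD3_c21) (LK LD1_c1 LD2_c19 LD3_c3) Lrfl Lrfl
theorem f196831 : Led Lsl_ft (LP (LK LD1_c2 LD2_c4 LD3_c1)) = (LP (LK LD1_c2 LD2_c45 LD3_c21)) :=
  Lgr Lrot54 (Lpe (K0.f27724 IH) (Lpr_ff (f196573 IH) (Lpe (f194663 IH) (Lpn (LP (LK LD1_c2 LD2_c45 LD3_c21))))))
theorem f196841 : Led Lsl_ff (LP (LK LD1_c2 LD2_c4 LD3_c1)) = (LP (LK LD1_c2 LD2_c45 LD3_c21)) :=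
  Lgr Lrot3 (Lpr_ft (f196831 IH) (Lpn (LP (LK LD1_c2 LD2_c45 LD3_c21))))
theorem f27728 : Led Lsl_ft (LP (LK LD1_c2 LD2_c23 LD3_c4)) = (LP (LK LD1_c4 LD2_c50 LD3_c37)) :=
  Lre_f IH (LK LD1_c2 LD2_c23 LD3_c4) (LK LD1_c4 LD2_c50 LD3_c37) Lrfl Lrfl
theorem f27574 : Led Lsl_et (LP (LK LD1_c4 LD2_c50 LD3_c37)) = (LP (LK LD1_c9 LD2_c33 LD3_c22)) :=
  Lre_e IH (LK LD1_c4 LD2_c50 LD3_c37) (LK LD1_c9 LD2_c33 LD3_c22) Lrfl Lrfl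
theorem f194664 : Led Lsl_et (LP (LK LD1_c5 LD2_c38 LD3_c51)) = (LP (LK LD1_c2 LD2_c45 LD3_c21)) :=
  Lre_e IH (LK LD1_c5 LD2_c38 LD3_c51) (LK LD1_c2 LD2_c45 LD3_c21) Lrfl Lrfl
theorem f196848 : Led Lsl_ft (LP (LK LD1_c9 LD2_c33 LD3_c22)) = (LP (LK LD1_c5 LD2_c38 LD3_c51)) :=
  Lgr Lrot86 (Lpe (f27574 IH) (Lpe (f27728 IH) (Lpr_ef (K0.f27706 IH) (Lpr_ff (f196841 IH) (Lpe (f194664 IH) (Lpn (LP (LK LD1_c5 LD2_c38 LD3_c51))))))))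
theorem f177849 : Led Lsl_bt (LP (LK LD1_c0 LD2_c16 LD3_c4)) = (LP (LK LD1_c0 LD2_c7 LD3_c14)) :=
  Lre_b IH (LK LD1_c0 LD2_c16 LD3_c4) (LK LD1_c0 LD2_c7 LD3_c14) Lrfl Lrfl
theorem f177848 : Led Lsl_bt (LP (LK LD1_c0 LD2_c7 LD3_c14)) = (LP (LK LD1_c0 LD2_c16 LD3_c4)) :=
  Lre_b IH (LK LD1_c0 LD2_c7 LD3_c14) (LK LD1_c0 LD2_c16 LD3_c4) Lrfl Lrfl
theorem f177850 : Led Lsl_ct (LP (LK LD1_c0 LD2_c16 LD3_c4)) = (LP (LK LD1_c0 LD2_c16 LD3_c4)) :=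
  Lgr Lrot83 (Lpe (f177848 IH) (Lpe (K9.f177847 IH) (Lpr_bf (K9.f177845 IH) (Lpe (K9.f172319 IH) (Lpe (f177849 IH) (Lpn (LP (LK LD1_c0 LD2_c16 LD3_c4))))))))
theorem f189097 : Led Lsl_gf (LP (LK LD1_c0 LD2_c16 LD3_c4)) = (LP (LK LD1_c0 LD2_c33 LD3_c2)) :=
  Lgr Lrot126 (Lpe (f177850 IH) (Lpr_bt (f177849 IH) (Lpe (K9.f177858 IH) (Lpr_ct (K9.f40750 IH) (Lpe (K9.f40789 IH) (Lpr_cf (K9.f167774 IH) (Lpr_bt (f167773 IH) (Lpr_gt (f188919 IH) (Lpe (K8.f33510 IH) (Lpe (f53954 IH) (Lpn (LP (LK LD1_c0 LD2_c33 LD3_c2)))))))))))))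
theorem f189140 : Led Lsl_et (LP (LK LD1_c0 LD2_c36 LD3_c5)) = (LP (LK LD1_c0 LD2_c16 LD3_c4)) :=
  Lre_e IH (LK LD1_c0 LD2_c36 LD3_c5) (LK LD1_c0 LD2_c16 LD3_c4) Lrfl Lrfl
theorem f187613 : Led Lsl_dt (LP (LK LD1_c0 LD2_c36 LD3_c5)) = (LP (LK LD1_c1 LD2_c18 LD3_c20)) :=
  Lre_d IH (LK LD1_c0 LD2_c36 LD3_c5) (LK LD1_c1 LD2_c18 LD3_c20) Lrfl Lrfl
theorem f33131 : Led Lsl_et (LP (LK LD1_c0 LD2_c14 LD3_c51)) = (LP (LK LD1_c0 LD2_c33 LD3_c2)) :=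
  Lre_e IH (LK LD1_c0 LD2_c14 LD3_c51) (LK LD1_c0 LD2_c33 LD3_c2) Lrfl Lrfl
theorem f189141 : Led Lsl_gt (LP (LK LD1_c1 LD2_c18 LD3_c20)) = (LP (LK LD1_c0 LD2_c59 LD3_c17)) :=
  Lgr Lrot112 (Lpe (f187613 IH) (Lpr_et (f189140 IH) (Lpr_gf (f189097 IH) (Lpe (f33131 IH) (Lpe (K0.f33129 IH) (Lpe (K0.f30827 IH) (Lpe (K0.f28746 IH) (Lpe (K0.f8090 IH) (Lpe (K0.f8098 IH) (Lpr_dt (f8099 IH) (Lpn (LP (LK LD1_c0 LD2_c59 LD3_c17)))))))))))))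
theorem f27684 : Led Lsl_at (LP (LK LD1_c0 LD2_c27 LD3_c1)) = (LP (LK LD1_c0 LD2_c59 LD3_c1)) :=
  Lre_a IH (LK LD1_c0 LD2_c27 LD3_c1) (LK LD1_c0 LD2_c59 LD3_c1) Lrfl Lrfl
theorem f27685 : Led Lsl_et (LP (LK LD1_c0 LD2_c59 LD3_c17)) = (LP (LK LD1_c0 LD2_c27 LD3_c1)) :=
  Lre_e IH (LK LD1_c0 LD2_c59 LD3_c17) (LK LD1_c0 LD2_c27 LD3_c1) Lrfl Lrfl
theorem f27686 : Led Lsl_at (LP (LK LD1_c1 LD2_c8 LD3_c41)) = (LP (LK LD1_c0 LD2_c59 LD3_c17)) :=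
  Lgr Lrot80 (Lpr_ef (K0.f27680 IH) (Lpe (f27684 IH) (Lpe (f27685 IH) (Lpn (LP (LK LD1_c0 LD2_c59 LD3_c17))))))
theorem f51269 : Led Lsl_ft (LP (LK LD1_c2 LD2_c23 LD3_c10)) = (LP (LK LD1_c1 LD2_c8 LD3_c41)) :=
  Lre_f IH (LK LD1_c2 LD2_c23 LD3_c10) (LK LD1_c1 LD2_c8 LD3_c41) Lrfl Lrfl
theorem f189144 : Led Lsl_gf (LP (LK LD1_c1 LD2_c18 LD3_c20)) = (LP (LK LD1_c2 LD2_c23 LD3_c10)) :=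
  Lgr Lrot47 (Lpr_gt (f189141 IH) (Lpe (f27686 IH) (Lpe (f51269 IH) (Lpn (LP (LK LD1_c2 LD2_c23 LD3_c10))))))
theorem f188031 : Led Lsl_bt (LP (LK LD1_c1 LD2_c15 LD3_c46)) = (LP (LK LD1_c2 LD2_c37 LD3_c27)) :=
  Lre_b IH (LK LD1_c1 LD2_c15 LD3_c46) (LK LD1_c2 LD2_c37 LD3_c27) Lrfl Lrfl
theorem f187527 : Led Lsl_ct (LP (LK LD1_c1 LD2_c15 LD3_c46)) = (LP (LK LD1_c2 LD2_c37 LD3_c28)) :=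
  Lre_c IH (LK LD1_c1 LD2_c15 LD3_c46) (LK LD1_c2 LD2_c37 LD3_c28) Lrfl Lrfl
theorem f187528 : Led Lsl_gt (LP (LK LD1_c2 LD2_c37 LD3_c28)) = (LP (LK LD1_c5 LD2_c21 LD3_c46)) :=
  Lre_g IH (LK LD1_c2 LD2_c37 LD3_c28) (LK LD1_c5 LD2_c21 LD3_c46) Lrfl Lrfl
theorem f27611 : Led Lsl_bt (LP (LK LD1_c4 LD2_c50 LD3_c37)) = (LP (LK LD1_c2 LD2_c23 LD3_c10)) :=
  Lre_b IH (LK LD1_c4 LD2_c50 LD3_c37) (LK LD1_c2 LD2_c23 LD3_c10) Lrfl Lrfl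
theorem f189273 : Led Lsl_cf (LP (LK LD1_c5 LD2_c21 LD3_c46)) = (LP (LK LD1_c4 LD2_c50 LD3_c37)) :=
  Lgr Lrot58 (Lpe (f187528 IH) (Lpe (f187527 IH) (Lpr_bt (f188031 IH) (Lpe (f188020 IH) (Lpe (f30864 IH) (Lpr_ct (f30937 IH) (Lpr_gf (f188027 IH) (Lpe (f178253 IH) (Lpr_gf (f189144 IH) (Lpe (f27611 IH) (Lpn (LP (LK LD1_c4 LD2_c50 LD3_c37)))))))))))))
theorem f189298 : Led Lsl_et (LP (LK LD1_c5 LD2_c21 LD3_c46)) = (LP (LK LD1_c10 LD2_c33 LD3_c46)) :=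
  Lre_e IH (LK LD1_c5 LD2_c21 LD3_c46) (LK LD1_c10 LD2_c33 LD3_c46) Lrfl Lrfl
theorem f27571 : Led Lsl_et (LP (LK LD1_c9 LD2_c33 LD3_c22)) = (LP (LK LD1_c4 LD2_c50 LD3_c37)) :=
  Lre_e IH (LK LD1_c9 LD2_c33 LD3_c22) (LK LD1_c4 LD2_c50 LD3_c37) Lrfl Lrfl
theorem f189299 : Led Lsl_ct (LP (LK LD1_c10 LD2_c33 LD3_c46)) = (LP (LK LD1_c9 LD2_c33 LD3_c22)) :=
  Lgr Lrot15 (Lpe (f189298 IH) (Lpr_cf (f189273 IH) (Lpe (f27571 IH) (Lpn (LP (LK LD1_c9 LD2_c33 LD3_c22))))))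
theorem f194674 : Led Lsl_ct (LP (LK LD1_c5 LD2_c38 LD3_c51)) = (LP (LK LD1_c5 LD2_c24 LD3_c8)) :=
  Lre_c IH (LK LD1_c5 LD2_c38 LD3_c51) (LK LD1_c5 LD2_c24 LD3_c8) Lrfl Lrfl
theorem f196852 : Led Lsl_ff (LP (LK LD1_c10 LD2_c33 LD3_c46)) = (LP (LK LD1_c5 LD2_c24 LD3_c8)) :=
  Lgr Lrot23 (Lpr_ct (f189299 IH) (Lpr_ft (f196848 IH) (Lpr_ct (f194674 IH) (Lpn (LP (LK LD1_c5 LD2_c24 LD3_c8))))))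
theorem f196858 : Led Lsl_ft (LP (LK LD1_c10 LD2_c33 LD3_c46)) = (LP (LK LD1_c5 LD2_c24 LD3_c8)) :=
  Lgr Lrot48 (Lpr_ff (f196852 IH) (Lpn (LP (LK LD1_c5 LD2_c24 LD3_c8))))
theorem f189335 : Led Lsl_bt (LP (LK LD1_c19 LD2_c7 LD3_c48)) = (LP (LK LD1_c10 LD2_c33 LD3_c46)) :=
  Lre_b IH (LK LD1_c19 LD2_c7 LD3_c48) (LK LD1_c10 LD2_c33 LD3_c46) Lrfl Lrfl
theorem f194677 : Led Lsl_bt (LP (LK LD1_c5 LD2_c24 LD3_c8)) = (LP (LK LD1_c10 LD2_c38 LD3_c61)) :=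
  Lre_b IH (LK LD1_c5 LD2_c24 LD3_c8) (LK LD1_c10 LD2_c38 LD3_c61) Lrfl Lrfl
theorem f196860 : Led Lsl_ff (LP (LK LD1_c19 LD2_c7 LD3_c48)) = (LP (LK LD1_c10 LD2_c38 LD3_c61)) :=
  Lgr Lrot25 (Lpr_bt (f189335 IH) (Lpr_ft (f196858 IH) (Lpr_bt (f194677 IH) (Lpn (LP (LK LD1_c10 LD2_c38 LD3_c61))))))
theorem f189317 : Led Lsl_et (LP (LK LD1_c19 LD2_c7 LD3_c48)) = (LP (LK LD1_c10 LD2_c33 LD3_c45)) :=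
  Lre_e IH (LK LD1_c19 LD2_c7 LD3_c48) (LK LD1_c10 LD2_c33 LD3_c45) Lrfl Lrfl
theorem f27697 : Led Lsl_ct (LP (LK LD1_c4 LD2_c50 LD3_c36)) = (LP (LK LD1_c2 LD2_c23 LD3_c4)) :=
  Lre_c IH (LK LD1_c4 LD2_c50 LD3_c36) (LK LD1_c2 LD2_c23 LD3_c4) Lrfl Lrfl
theorem f189301 : Led Lsl_ft (LP (LK LD1_c5 LD2_c21 LD3_c46)) = (LP (LK LD1_c4 LD2_c50 LD3_c36)) :=
  Lgr Lrot4 (Lpr_cf (f189273 IH) (Lpe (f27728 IH) (Lpe (f27697 IH) (Lpn (LP (LK LD1_c4 LD2_c50 LD3_c36))))))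
theorem f189308 : Led Lsl_ff (LP (LK LD1_c5 LD2_c21 LD3_c46)) = (LP (LK LD1_c4 LD2_c50 LD3_c36)) :=
  Lgr Lrot3 (Lpr_ft (f189301 IH) (Lpn (LP (LK LD1_c4 LD2_c50 LD3_c36))))
theorem f189292 : Led Lsl_bt (LP (LK LD1_c5 LD2_c21 LD3_c46)) = (LP (LK LD1_c10 LD2_c33 LD3_c45)) :=
  Lre_b IH (LK LD1_c5 LD2_c21 LD3_c46) (LK LD1_c10 LD2_c33 LD3_c45) Lrfl Lrfl
theorem f51185 : Led Lsl_bt (LP (LK LD1_c9 LD2_c33 LD3_c20)) = (LP (LK LD1_c4 LD2_c50 LD3_c36)) :=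
  Lre_b IH (LK LD1_c9 LD2_c33 LD3_c20) (LK LD1_c4 LD2_c50 LD3_c36) Lrfl Lrfl
theorem f189310 : Led Lsl_ft (LP (LK LD1_c10 LD2_c33 LD3_c45)) = (LP (LK LD1_c9 LD2_c33 LD3_c20)) :=
  Lgr Lrot75 (Lpe (f189292 IH) (Lpr_ff (f189308 IH) (Lpe (f51185 IH) (Lpn (LP (LK LD1_c9 LD2_c33 LD3_c20))))))
theorem f50989 : Led Lsl_bt (LP (LK LD1_c15 LD2_c17 LD3_c26)) = (LP (LK LD1_c8 LD2_c7 LD3_c10)) :=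
  Lre_b IH (LK LD1_c15 LD2_c17 LD3_c26) (LK LD1_c8 LD2_c7 LD3_c10) Lrfl Lrfl
theorem f51024 : Led Lsl_bt (LP (LK LD1_c4 LD2_c14 LD3_c25)) = (LP (LK LD1_c8 LD2_c27 LD3_c33)) :=
  Lre_b IH (LK LD1_c4 LD2_c14 LD3_c25) (LK LD1_c8 LD2_c27 LD3_c33) Lrfl Lrfl
theorem f51025 : Led Lsl_df (LP (LK LD1_c15 LD2_c17 LD3_c26)) = (LP (LK LD1_c8 LD2_c27 LD3_c33)) :=
  Lgr Lrot12 (Lpr_bt (f50989 IH) (Lpr_dt (f51015 IH) (Lpr_bt (f51024 IH) (Lpn (LP (LK LD1_c8 LD2_c27 LD3_c33))))))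
theorem f51060 : Led Lsl_dt (LP (LK LD1_c15 LD2_c17 LD3_c26)) = (LP (LK LD1_c8 LD2_c27 LD3_c33)) :=
  Lgr Lrot42 (Lpr_df (f51025 IH) (Lpn (LP (LK LD1_c8 LD2_c27 LD3_c33))))
theorem f51071 : Led Lsl_at (LP (LK LD1_c25 LD2_c7 LD3_c42)) = (LP (LK LD1_c15 LD2_c17 LD3_c26)) :=
  Lre_a IH (LK LD1_c25 LD2_c7 LD3_c42) (LK LD1_c15 LD2_c17 LD3_c26) Lrfl Lrfl
theorem f51072 : Led Lsl_at (LP (LK LD1_c8 LD2_c27 LD3_c33)) = (LP (LK LD1_c15 LD2_c52 LD3_c53)) :=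
  Lre_a IH (LK LD1_c8 LD2_c27 LD3_c33) (LK LD1_c15 LD2_c52 LD3_c53) Lrfl Lrfl
theorem f51073 : Led Lsl_df (LP (LK LD1_c25 LD2_c7 LD3_c42)) = (LP (LK LD1_c15 LD2_c52 LD3_c53)) :=
  Lgr Lrot18 (Lpr_at (f51071 IH) (Lpr_dt (f51060 IH) (Lpr_at (f51072 IH) (Lpn (LP (LK LD1_c15 LD2_c52 LD3_c53))))))
theorem f51080 : Led Lsl_ft (LP (LK LD1_c8 LD2_c27 LD3_c31)) = (LP (LK LD1_c15 LD2_c52 LD3_c53)) :=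
  Lre_f IH (LK LD1_c8 LD2_c27 LD3_c31) (LK LD1_c15 LD2_c52 LD3_c53) Lrfl Lrfl
theorem f51081 : Led Lsl_dt (LP (LK LD1_c15 LD2_c53 LD3_c2)) = (LP (LK LD1_c8 LD2_c27 LD3_c31)) :=
  Lre_d IH (LK LD1_c15 LD2_c53 LD3_c2) (LK LD1_c8 LD2_c27 LD3_c31) Lrfl Lrfl
theorem f51082 : Led Lsl_ft (LP (LK LD1_c25 LD2_c7 LD3_c42)) = (LP (LK LD1_c15 LD2_c53 LD3_c2)) :=
  Lgr Lrot54 (Lpr_df (f51073 IH) (Lpe (f51080 IH) (Lpe (f51081 IH) (Lpn (LP (LK LD1_c15 LD2_c53 LD3_c2))))))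
theorem f51097 : Led Lsl_ff (LP (LK LD1_c25 LD2_c7 LD3_c42)) = (LP (LK LD1_c15 LD2_c53 LD3_c2)) :=
  Lgr Lrot3 (Lpr_ft (f51082 IH) (Lpn (LP (LK LD1_c15 LD2_c53 LD3_c2))))
theorem f27605 : Led Lsl_bt (LP (LK LD1_c4 LD2_c50 LD3_c45)) = (LP (LK LD1_c9 LD2_c33 LD3_c38)) :=
  Lre_b IH (LK LD1_c4 LD2_c50 LD3_c45) (LK LD1_c9 LD2_c33 LD3_c38) Lrfl Lrfl
theorem f27628 : Led Lsl_at (LP (LK LD1_c9 LD2_c33 LD3_c38)) = (LP (LK LD1_c17 LD2_c36 LD3_c6)) :=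
  Lre_a IH (LK LD1_c9 LD2_c33 LD3_c38) (LK LD1_c17 LD2_c36 LD3_c6) Lrfl Lrfl
theorem f27629 : Led Lsl_bt (LP (LK LD1_c8 LD2_c27 LD3_c33)) = (LP (LK LD1_c4 LD2_c14 LD3_c25)) :=
  Lre_b IH (LK LD1_c8 LD2_c27 LD3_c33) (LK LD1_c4 LD2_c14 LD3_c25) Lrfl Lrfl
theorem f27630 : Led Lsl_at (LP (LK LD1_c15 LD2_c52 LD3_c53)) = (LP (LK LD1_c8 LD2_c27 LD3_c33)) :=
  Lre_a IH (LK LD1_c15 LD2_c52 LD3_c53) (LK LD1_c8 LD2_c27 LD3_c33) Lrfl Lrfl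
theorem f27631 : Led Lsl_bt (LP (LK LD1_c17 LD2_c36 LD3_c6)) = (LP (LK LD1_c15 LD2_c52 LD3_c53)) :=
  Lgr Lrot62 (Lpe (f27628 IH) (Lpe (f27605 IH) (Lpr_af (K0.f27614 IH) (Lpe (f27629 IH) (Lpe (f27630 IH) (Lpn (LP (LK LD1_c15 LD2_c52 LD3_c53))))))))
theorem f51077 : Led Lsl_dt (LP (LK LD1_c27 LD2_c24 LD3_c8)) = (LP (LK LD1_c17 LD2_c36 LD3_c6)) :=
  Lre_d IH (LK LD1_c27 LD2_c24 LD3_c8) (LK LD1_c17 LD2_c36 LD3_c6) Lrfl Lrfl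
theorem f51078 : Led Lsl_bt (LP (LK LD1_c25 LD2_c7 LD3_c42)) = (LP (LK LD1_c27 LD2_c24 LD3_c8)) :=
  Lgr Lrot95 (Lpr_df (f51073 IH) (Lpe (f27631 IH) (Lpe (f51077 IH) (Lpn (LP (LK LD1_c27 LD2_c24 LD3_c8))))))
theorem f51101 : Led Lsl_ft (LP (LK LD1_c27 LD2_c24 LD3_c8)) = (LP (LK LD1_c17 LD2_c36 LD3_c17)) :=
  Lre_f IH (LK LD1_c27 LD2_c24 LD3_c8) (LK LD1_c17 LD2_c36 LD3_c17) Lrfl Lrfl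
theorem f51102 : Led Lsl_bt (LP (LK LD1_c17 LD2_c36 LD3_c17)) = (LP (LK LD1_c15 LD2_c53 LD3_c2)) :=
  Lgr Lrot35 (Lpe (f51101 IH) (Lpe (f51078 IH) (Lpr_ff (f51097 IH) (Lpn (LP (LK LD1_c15 LD2_c53 LD3_c2))))))
theorem f51112 : Led Lsl_bf (LP (LK LD1_c17 LD2_c36 LD3_c17)) = (LP (LK LD1_c15 LD2_c53 LD3_c2)) :=
  Lgr Lrot24 (Lpr_bt (f51102 IH) (Lpn (LP (LK LD1_c15 LD2_c53 LD3_c2))))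
theorem f51117 : Led Lsl_dt (LP (LK LD1_c17 LD2_c36 LD3_c17)) = (LP (LK LD1_c9 LD2_c33 LD3_c36)) :=
  Lre_d IH (LK LD1_c17 LD2_c36 LD3_c17) (LK LD1_c9 LD2_c33 LD3_c36) Lrfl Lrfl
theorem f51104 : Led Lsl_dt (LP (LK LD1_c8 LD2_c27 LD3_c31)) = (LP (LK LD1_c15 LD2_c53 LD3_c2)) :=
  Lre_d IH (LK LD1_c8 LD2_c27 LD3_c31) (LK LD1_c15 LD2_c53 LD3_c2) Lrfl Lrfl
theorem f51118 : Led Lsl_bt (LP (LK LD1_c9 LD2_c33 LD3_c36)) = (LP (LK LD1_c8 LD2_c27 LD3_c31)) :=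
  Lgr Lrot95 (Lpe (f51117 IH) (Lpr_bf (f51112 IH) (Lpe (f51104 IH) (Lpn (LP (LK LD1_c8 LD2_c27 LD3_c31))))))
theorem f51110 : Led Lsl_et (LP (LK LD1_c8 LD2_c27 LD3_c31)) = (LP (LK LD1_c4 LD2_c14 LD3_c48)) :=
  Lre_e IH (LK LD1_c8 LD2_c27 LD3_c31) (LK LD1_c4 LD2_c14 LD3_c48) Lrfl Lrfl
theorem f51141 : Led Lsl_bt (LP (LK LD1_c4 LD2_c14 LD3_c48)) = (LP (LK LD1_c8 LD2_c25 LD3_c50)) :=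
  Lre_b IH (LK LD1_c4 LD2_c14 LD3_c48) (LK LD1_c8 LD2_c25 LD3_c50) Lrfl Lrfl
theorem f51142 : Led Lsl_ef (LP (LK LD1_c9 LD2_c33 LD3_c36)) = (LP (LK LD1_c8 LD2_c25 LD3_c50)) :=
  Lgr Lrot29 (Lpr_bt (f51118 IH) (Lpr_et (f51110 IH) (Lpr_bt (f51141 IH) (Lpn (LP (LK LD1_c8 LD2_c25 LD3_c50))))))
theorem f51150 : Led Lsl_et (LP (LK LD1_c9 LD2_c33 LD3_c36)) = (LP (LK LD1_c8 LD2_c25 LD3_c50)) :=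
  Lgr Lrot87 (Lpr_ef (f51142 IH) (Lpn (LP (LK LD1_c8 LD2_c25 LD3_c50))))
theorem f51140 : Led Lsl_ct (LP (LK LD1_c17 LD2_c35 LD3_c49)) = (LP (LK LD1_c9 LD2_c33 LD3_c36)) :=
  Lre_c IH (LK LD1_c17 LD2_c35 LD3_c49) (LK LD1_c9 LD2_c33 LD3_c36) Lrfl Lrfl
theorem f51156 : Led Lsl_ct (LP (LK LD1_c8 LD2_c25 LD3_c50)) = (LP (LK LD1_c15 LD2_c49 LD3_c61)) :=
  Lre_c IH (LK LD1_c8 LD2_c25 LD3_c50) (LK LD1_c15 LD2_c49 LD3_c61) Lrfl Lrfl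
theorem f51157 : Led Lsl_ef (LP (LK LD1_c17 LD2_c35 LD3_c49)) = (LP (LK LD1_c15 LD2_c49 LD3_c61)) :=
  Lgr Lrot28 (Lpr_ct (f51140 IH) (Lpr_et (f51150 IH) (Lpr_ct (f51156 IH) (Lpn (LP (LK LD1_c15 LD2_c49 LD3_c61))))))
theorem f51159 : Led Lsl_at (LP (LK LD1_c17 LD2_c35 LD3_c49)) = (LP (LK LD1_c9 LD2_c33 LD3_c20)) :=
  Lre_a IH (LK LD1_c17 LD2_c35 LD3_c49) (LK LD1_c9 LD2_c33 LD3_c20) Lrfl Lrfl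
theorem f51160 : Led Lsl_at (LP (LK LD1_c8 LD2_c25 LD3_c46)) = (LP (LK LD1_c15 LD2_c49 LD3_c61)) :=
  Lre_a IH (LK LD1_c8 LD2_c25 LD3_c46) (LK LD1_c15 LD2_c49 LD3_c61) Lrfl Lrfl
theorem f51161 : Led Lsl_et (LP (LK LD1_c9 LD2_c33 LD3_c20)) = (LP (LK LD1_c8 LD2_c25 LD3_c46)) :=
  Lgr Lrot123 (Lpe (f51159 IH) (Lpr_ef (f51157 IH) (Lpe (f51160 IH) (Lpn (LP (LK LD1_c8 LD2_c25 LD3_c46))))))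
theorem f196866 : Led Lsl_et (LP (LK LD1_c5 LD2_c24 LD3_c7)) = (LP (LK LD1_c10 LD2_c38 LD3_c61)) :=
  Lre_e IH (LK LD1_c5 LD2_c24 LD3_c7) (LK LD1_c10 LD2_c38 LD3_c61) Lrfl Lrfl
theorem f196867 : Led Lsl_ft (LP (LK LD1_c8 LD2_c25 LD3_c46)) = (LP (LK LD1_c5 LD2_c24 LD3_c7)) :=
  Lgr Lrot86 (Lpe (f51161 IH) (Lpe (f189310 IH) (Lpe (f189317 IH) (Lpr_ff (f196860 IH) (Lpe (f196866 IH) (Lpn (LP (LK LD1_c5 LD2_c24 LD3_c7))))))))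
theorem f51172 : Led Lsl_dt (LP (LK LD1_c8 LD2_c25 LD3_c46)) = (LP (LK LD1_c15 LD2_c50 LD3_c0)) :=
  Lre_d IH (LK LD1_c8 LD2_c25 LD3_c46) (LK LD1_c15 LD2_c50 LD3_c0) Lrfl Lrfl
theorem f52715 : Led Lsl_ct (LP (LK LD1_c15 LD2_c50 LD3_c0)) = (LP (LK LD1_c25 LD2_c46 LD3_c6)) :=
  Lre_c IH (LK LD1_c15 LD2_c50 LD3_c0) (LK LD1_c25 LD2_c46 LD3_c6) Lrfl Lrfl
theorem f27656 : Led Lsl_bt (LP (LK LD1_c4 LD2_c13 LD3_c26)) = (LP (LK LD1_c2 LD2_c4 LD3_c2)) :=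
  Lre_b IH (LK LD1_c4 LD2_c13 LD3_c26) (LK LD1_c2 LD2_c4 LD3_c2) Lrfl Lrfl
theorem f52650 : Led Lsl_bt (LP (LK LD1_c2 LD2_c4 LD3_c46)) = (LP (LK LD1_c4 LD2_c14 LD3_c49)) :=
  Lre_b IH (LK LD1_c2 LD2_c4 LD3_c46) (LK LD1_c4 LD2_c14 LD3_c49) Lrfl Lrfl
theorem f52672 : Led Lsl_ff (LP (LK LD1_c4 LD2_c13 LD3_c26)) = (LP (LK LD1_c4 LD2_c14 LD3_c49)) :=
  Lgr Lrot25 (Lpr_bt (f27656 IH) (Lpr_ft (f52665 IH) (Lpr_bt (f52650 IH) (Lpn (LP (LK LD1_c4 LD2_c14 LD3_c49))))))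
theorem f51146 : Led Lsl_at (LP (LK LD1_c4 LD2_c13 LD3_c26)) = (LP (LK LD1_c8 LD2_c25 LD3_c50)) :=
  Lre_a IH (LK LD1_c4 LD2_c13 LD3_c26) (LK LD1_c8 LD2_c25 LD3_c50) Lrfl Lrfl
theorem f51147 : Led Lsl_ct (LP (LK LD1_c15 LD2_c49 LD3_c61)) = (LP (LK LD1_c8 LD2_c25 LD3_c50)) :=
  Lre_c IH (LK LD1_c15 LD2_c49 LD3_c61) (LK LD1_c8 LD2_c25 LD3_c50) Lrfl Lrfl
theorem f51164 : Led Lsl_dt (LP (LK LD1_c25 LD2_c46 LD3_c3)) = (LP (LK LD1_c15 LD2_c49 LD3_c61)) :=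
  Lre_d IH (LK LD1_c25 LD2_c46 LD3_c3) (LK LD1_c15 LD2_c49 LD3_c61) Lrfl Lrfl
theorem f52707 : Led Lsl_dt (LP (LK LD1_c4 LD2_c14 LD3_c49)) = (LP (LK LD1_c2 LD2_c4 LD3_c45)) :=
  Lre_d IH (LK LD1_c4 LD2_c14 LD3_c49) (LK LD1_c2 LD2_c4 LD3_c45) Lrfl Lrfl
theorem f52708 : Led Lsl_ct (LP (LK LD1_c2 LD2_c4 LD3_c45)) = (LP (LK LD1_c4 LD2_c14 LD3_c15)) :=
  Lre_c IH (LK LD1_c2 LD2_c4 LD3_c45) (LK LD1_c4 LD2_c14 LD3_c15) Lrfl Lrfl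
theorem f52709 : Led Lsl_dt (LP (LK LD1_c4 LD2_c14 LD3_c15)) = (LP (LK LD1_c8 LD2_c27 LD3_c8)) :=
  Lre_d IH (LK LD1_c4 LD2_c14 LD3_c15) (LK LD1_c8 LD2_c27 LD3_c8) Lrfl Lrfl
theorem f52710 : Led Lsl_ct (LP (LK LD1_c8 LD2_c27 LD3_c8)) = (LP (LK LD1_c15 LD2_c52 LD3_c17)) :=
  Lre_c IH (LK LD1_c8 LD2_c27 LD3_c8) (LK LD1_c15 LD2_c52 LD3_c17) Lrfl Lrfl
theorem f52711 : Led Lsl_dt (LP (LK LD1_c15 LD2_c52 LD3_c17)) = (LP (LK LD1_c25 LD2_c48 LD3_c11)) :=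
  Lre_d IH (LK LD1_c15 LD2_c52 LD3_c17) (LK LD1_c25 LD2_c48 LD3_c11) Lrfl Lrfl
theorem f52712 : Led Lsl_cf (LP (LK LD1_c25 LD2_c46 LD3_c3)) = (LP (LK LD1_c25 LD2_c48 LD3_c11)) :=
  Lgr Lrot161 (Lpr_dt (f51164 IH) (Lpr_ct (f51147 IH) (Lpe (f51146 IH) (Lpr_ff (f52672 IH) (Lpr_dt (f52707 IH) (Lpr_ct (f52708 IH) (Lpr_dt (f52709 IH) (Lpr_ct (f52710 IH) (Lpr_dt (f52711 IH) (Lpn (LP (LK LD1_c25 LD2_c48 LD3_c11))))))))))))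
theorem f52721 : Led Lsl_ft (LP (LK LD1_c4 LD2_c14 LD3_c15)) = (LP (LK LD1_c8 LD2_c27 LD3_c9)) :=
  Lre_f IH (LK LD1_c4 LD2_c14 LD3_c15) (LK LD1_c8 LD2_c27 LD3_c9) Lrfl Lrfl
theorem f52722 : Led Lsl_at (LP (LK LD1_c8 LD2_c27 LD3_c9)) = (LP (LK LD1_c15 LD2_c52 LD3_c4)) :=
  Lre_a IH (LK LD1_c8 LD2_c27 LD3_c9) (LK LD1_c15 LD2_c52 LD3_c4) Lrfl Lrfl
theorem f52723 : Led Lsl_ct (LP (LK LD1_c8 LD2_c28 LD3_c16)) = (LP (LK LD1_c15 LD2_c52 LD3_c4)) :=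
  Lre_c IH (LK LD1_c8 LD2_c28 LD3_c16) (LK LD1_c15 LD2_c52 LD3_c4) Lrfl Lrfl
theorem f52724 : Led Lsl_dt (LP (LK LD1_c8 LD2_c25 LD3_c50)) = (LP (LK LD1_c8 LD2_c28 LD3_c16)) :=
  Lgr Lrot120 (Lpe (f51147 IH) (Lpe (f51164 IH) (Lpr_cf (f52712 IH) (Lpe (f52711 IH) (Lpe (f52710 IH) (Lpe (f52709 IH) (Lpr_ft (f52721 IH) (Lpr_at (f52722 IH) (Lpe (f52723 IH) (Lpn (LP (LK LD1_c8 LD2_c28 LD3_c16))))))))))))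
theorem f52739 : Led Lsl_ft (LP (LK LD1_c8 LD2_c28 LD3_c16)) = (LP (LK LD1_c4 LD2_c14 LD3_c48)) :=
  Lre_f IH (LK LD1_c8 LD2_c28 LD3_c16) (LK LD1_c4 LD2_c14 LD3_c48) Lrfl Lrfl
theorem f52740 : Led Lsl_dt (LP (LK LD1_c4 LD2_c14 LD3_c48)) = (LP (LK LD1_c8 LD2_c28 LD3_c27)) :=
  Lre_d IH (LK LD1_c4 LD2_c14 LD3_c48) (LK LD1_c8 LD2_c28 LD3_c27) Lrfl Lrfl
theorem f52741 : Led Lsl_ff (LP (LK LD1_c8 LD2_c25 LD3_c50)) = (LP (LK LD1_c8 LD2_c28 LD3_c27)) :=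
  Lgr Lrot19 (Lpr_dt (f52724 IH) (Lpr_ft (f52739 IH) (Lpr_dt (f52740 IH) (Lpn (LP (LK LD1_c8 LD2_c28 LD3_c27))))))
theorem f51153 : Led Lsl_at (LP (LK LD1_c8 LD2_c25 LD3_c50)) = (LP (LK LD1_c4 LD2_c13 LD3_c26)) :=
  Lre_a IH (LK LD1_c8 LD2_c25 LD3_c50) (LK LD1_c4 LD2_c13 LD3_c26) Lrfl Lrfl
theorem f51169 : Led Lsl_ct (LP (LK LD1_c8 LD2_c25 LD3_c46)) = (LP (LK LD1_c4 LD2_c13 LD3_c26)) :=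
  Lre_c IH (LK LD1_c8 LD2_c25 LD3_c46) (LK LD1_c4 LD2_c13 LD3_c26) Lrfl Lrfl
theorem f51190 : Led Lsl_dt (LP (LK LD1_c15 LD2_c50 LD3_c0)) = (LP (LK LD1_c8 LD2_c25 LD3_c46)) :=
  Lre_d IH (LK LD1_c15 LD2_c50 LD3_c0) (LK LD1_c8 LD2_c25 LD3_c46) Lrfl Lrfl
theorem f52769 : Led Lsl_ct (LP (LK LD1_c25 LD2_c46 LD3_c6)) = (LP (LK LD1_c15 LD2_c50 LD3_c0)) :=
  Lre_c IH (LK LD1_c25 LD2_c46 LD3_c6) (LK LD1_c15 LD2_c50 LD3_c0) Lrfl Lrfl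
theorem f52730 : Led Lsl_dt (LP (LK LD1_c8 LD2_c28 LD3_c27)) = (LP (LK LD1_c4 LD2_c14 LD3_c48)) :=
  Lre_d IH (LK LD1_c8 LD2_c28 LD3_c27) (LK LD1_c4 LD2_c14 LD3_c48) Lrfl Lrfl
theorem f52770 : Led Lsl_ct (LP (LK LD1_c4 LD2_c14 LD3_c48)) = (LP (LK LD1_c8 LD2_c27 LD3_c7)) :=
  Lre_c IH (LK LD1_c4 LD2_c14 LD3_c48) (LK LD1_c8 LD2_c27 LD3_c7) Lrfl Lrfl
theorem f52771 : Led Lsl_dt (LP (LK LD1_c8 LD2_c27 LD3_c7)) = (LP (LK LD1_c15 LD2_c52 LD3_c14)) :=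
  Lre_d IH (LK LD1_c8 LD2_c27 LD3_c7) (LK LD1_c15 LD2_c52 LD3_c14) Lrfl Lrfl
theorem f52772 : Led Lsl_ct (LP (LK LD1_c15 LD2_c52 LD3_c14)) = (LP (LK LD1_c25 LD2_c48 LD3_c5)) :=
  Lre_c IH (LK LD1_c15 LD2_c52 LD3_c14) (LK LD1_c25 LD2_c48 LD3_c5) Lrfl Lrfl
theorem f52773 : Led Lsl_df (LP (LK LD1_c25 LD2_c46 LD3_c6)) = (LP (LK LD1_c25 LD2_c48 LD3_c5)) :=
  Lgr Lrot13 (Lpr_ct (f52769 IH) (Lpr_dt (f51190 IH) (Lpr_ct (f51169 IH) (Lpe (f51153 IH) (Lpr_ff (f52741 IH) (Lpr_dt (f52730 IH) (Lpr_ct (f52770 IH) (Lpr_dt (f52771 IH) (Lpr_ct (f52772 IH) (Lpn (LP (LK LD1_c25 LD2_c48 LD3_c5))))))))))))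
theorem f52779 : Led Lsl_dt (LP (LK LD1_c25 LD2_c46 LD3_c6)) = (LP (LK LD1_c25 LD2_c48 LD3_c5)) :=
  Lgr Lrot42 (Lpr_df (f52773 IH) (Lpn (LP (LK LD1_c25 LD2_c48 LD3_c5))))
theorem f52791 : Led Lsl_ct (LP (LK LD1_c25 LD2_c48 LD3_c5)) = (LP (LK LD1_c15 LD2_c52 LD3_c14)) :=
  Lre_c IH (LK LD1_c25 LD2_c48 LD3_c5) (LK LD1_c15 LD2_c52 LD3_c14) Lrfl Lrfl
theorem f52792 : Led Lsl_dt (LP (LK LD1_c15 LD2_c52 LD3_c14)) = (LP (LK LD1_c8 LD2_c27 LD3_c7)) :=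
  Lre_d IH (LK LD1_c15 LD2_c52 LD3_c14) (LK LD1_c8 LD2_c27 LD3_c7) Lrfl Lrfl
theorem f52793 : Led Lsl_ct (LP (LK LD1_c8 LD2_c27 LD3_c7)) = (LP (LK LD1_c4 LD2_c14 LD3_c48)) :=
  Lre_c IH (LK LD1_c8 LD2_c27 LD3_c7) (LK LD1_c4 LD2_c14 LD3_c48) Lrfl Lrfl
theorem f196869 : Led Lsl_at (LP (LK LD1_c5 LD2_c24 LD3_c7)) = (LP (LK LD1_c10 LD2_c38 LD3_c60)) :=
  Lre_a IH (LK LD1_c5 LD2_c24 LD3_c7) (LK LD1_c10 LD2_c38 LD3_c60) Lrfl Lrfl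
theorem f196879 : Led Lsl_ct (LP (LK LD1_c8 LD2_c28 LD3_c27)) = (LP (LK LD1_c10 LD2_c38 LD3_c60)) :=
  Lgr Lrot98 (Lpe (f52740 IH) (Lpe (f52793 IH) (Lpe (f52792 IH) (Lpe (f52791 IH) (Lpe (f52779 IH) (Lpe (f52715 IH) (Lpe (f51172 IH) (Lpr_ft (f196867 IH) (Lpr_at (f196869 IH) (Lpn (LP (LK LD1_c10 LD2_c38 LD3_c60))))))))))))
theorem f52762 : Led Lsl_et (LP (LK LD1_c15 LD2_c54 LD3_c43)) = (LP (LK LD1_c8 LD2_c28 LD3_c27)) :=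
  Lre_e IH (LK LD1_c15 LD2_c54 LD3_c43) (LK LD1_c8 LD2_c28 LD3_c27) Lrfl Lrfl
theorem f196884 : Led Lsl_et (LP (LK LD1_c10 LD2_c38 LD3_c60)) = (LP (LK LD1_c19 LD2_c17 LD3_c24)) :=
  Lre_e IH (LK LD1_c10 LD2_c38 LD3_c60) (LK LD1_c19 LD2_c17 LD3_c24) Lrfl Lrfl
theorem f196885 : Led Lsl_cf (LP (LK LD1_c15 LD2_c54 LD3_c43)) = (LP (LK LD1_c19 LD2_c17 LD3_c24)) :=
  Lgr Lrot39 (Lpr_et (f52762 IH) (Lpr_ct (f196879 IH) (Lpr_et (f196884 IH) (Lpn (LP (LK LD1_c19 LD2_c17 LD3_c24))))))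
theorem f196888 : Led Lsl_ct (LP (LK LD1_c15 LD2_c54 LD3_c43)) = (LP (LK LD1_c19 LD2_c17 LD3_c24)) :=
  Lgr Lrot59 (Lpr_cf (f196885 IH) (Lpn (LP (LK LD1_c19 LD2_c17 LD3_c24))))
theorem f52841 : Led Lsl_at (LP (LK LD1_c8 LD2_c28 LD3_c30)) = (LP (LK LD1_c15 LD2_c54 LD3_c43)) :=
  Lre_a IH (LK LD1_c8 LD2_c28 LD3_c30) (LK LD1_c15 LD2_c54 LD3_c43) Lrfl Lrfl
theorem f196863 : Led Lsl_at (LP (LK LD1_c19 LD2_c17 LD3_c24)) = (LP (LK LD1_c10 LD2_c38 LD3_c61)) :=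
  Lre_a IH (LK LD1_c19 LD2_c17 LD3_c24) (LK LD1_c10 LD2_c38 LD3_c61) Lrfl Lrfl
theorem f196890 : Led Lsl_cf (LP (LK LD1_c8 LD2_c28 LD3_c30)) = (LP (LK LD1_c10 LD2_c38 LD3_c61)) :=
  Lgr Lrot1 (Lpr_at (f52841 IH) (Lpr_ct (f196888 IH) (Lpr_at (f196863 IH) (Lpn (LP (LK LD1_c10 LD2_c38 LD3_c61))))))
theorem f52700 : Led Lsl_et (LP (LK LD1_c8 LD2_c28 LD3_c30)) = (LP (LK LD1_c4 LD2_c14 LD3_c49)) :=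
  Lre_e IH (LK LD1_c8 LD2_c28 LD3_c30) (LK LD1_c4 LD2_c14 LD3_c49) Lrfl Lrfl
theorem f196895 : Led Lsl_ct (LP (LK LD1_c4 LD2_c14 LD3_c49)) = (LP (LK LD1_c5 LD2_c24 LD3_c7)) :=
  Lgr Lrot15 (Lpe (f52700 IH) (Lpr_cf (f196890 IH) (Lpe (f196866 IH) (Lpn (LP (LK LD1_c5 LD2_c24 LD3_c7))))))
theorem f196872 : Led Lsl_bt (LP (LK LD1_c5 LD2_c24 LD3_c7)) = (LP (LK LD1_c2 LD2_c38 LD3_c36)) :=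
  Lre_b IH (LK LD1_c5 LD2_c24 LD3_c7) (LK LD1_c2 LD2_c38 LD3_c36) Lrfl Lrfl
theorem f196594 : Led Lsl_ct (LP (LK LD1_c2 LD2_c38 LD3_c36)) = (LP (LK LD1_c2 LD2_c45 LD3_c21)) :=
  Lre_c IH (LK LD1_c2 LD2_c38 LD3_c36) (LK LD1_c2 LD2_c45 LD3_c21) Lrfl Lrfl
theorem f196834 : Led Lsl_bt (LP (LK LD1_c2 LD2_c45 LD3_c21)) = (LP (LK LD1_c1 LD2_c19 LD3_c4)) :=
  Lre_b IH (LK LD1_c2 LD2_c45 LD3_c21) (LK LD1_c1 LD2_c19 LD3_c4) Lrfl Lrfl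
theorem f196905 : Led Lsl_cf (LP (LK LD1_c2 LD2_c4 LD3_c46)) = (LP (LK LD1_c1 LD2_c19 LD3_c4)) :=
  Lgr Lrot97 (Lpr_bt (f52650 IH) (Lpr_ct (f196895 IH) (Lpr_bt (f196872 IH) (Lpr_ct (f196594 IH) (Lpr_bt (f196834 IH) (Lpn (LP (LK LD1_c1 LD2_c19 LD3_c4))))))))
theorem f52655 : Led Lsl_dt (LP (LK LD1_c2 LD2_c4 LD3_c46)) = (LP (LK LD1_c0 LD2_c59 LD3_c23)) :=
  Lre_d IH (LK LD1_c2 LD2_c4 LD3_c46) (LK LD1_c0 LD2_c59 LD3_c23) Lrfl Lrfl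
theorem f52671 : Led Lsl_ct (LP (LK LD1_c0 LD2_c59 LD3_c23)) = (LP (LK LD1_c0 LD2_c27 LD3_c1)) :=
  Lre_c IH (LK LD1_c0 LD2_c59 LD3_c23) (LK LD1_c0 LD2_c27 LD3_c1) Lrfl Lrfl
theorem f52670 : Led Lsl_dt (LP (LK LD1_c0 LD2_c27 LD3_c1)) = (LP (LK LD1_c0 LD2_c11 LD3_c59)) :=
  Lre_d IH (LK LD1_c0 LD2_c27 LD3_c1) (LK LD1_c0 LD2_c11 LD3_c59) Lrfl Lrfl
theorem f52669 : Led Lsl_ct (LP (LK LD1_c0 LD2_c11 LD3_c59)) = (LP (LK LD1_c0 LD2_c5 LD3_c32)) :=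
  Lre_c IH (LK LD1_c0 LD2_c11 LD3_c59) (LK LD1_c0 LD2_c5 LD3_c32) Lrfl Lrfl
theorem f7996 : Led Lsl_df (LP (LK LD1_c0 LD2_c5 LD3_c32)) = (LP (LK LD1_c0 LD2_c5 LD3_c32)) :=
  Lgr Lrot12 (Lpr_bt (f7995 IH) (Lpr_dt (K0.f7992 IH) (Lpr_bt (K9.f7994 IH) (Lpn (LP (LK LD1_c0 LD2_c5 LD3_c32))))))
theorem f52668 : Led Lsl_ct (LP (LK LD1_c0 LD2_c5 LD3_c32)) = (LP (LK LD1_c0 LD2_c11 LD3_c59)) :=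
  Lre_c IH (LK LD1_c0 LD2_c5 LD3_c32) (LK LD1_c0 LD2_c11 LD3_c59) Lrfl Lrfl
theorem f196926 : Led Lsl_at (LP (LK LD1_c0 LD2_c26 LD3_c52)) = (LP (LK LD1_c0 LD2_c11 LD3_c59)) :=
  Lre_a IH (LK LD1_c0 LD2_c26 LD3_c52) (LK LD1_c0 LD2_c11 LD3_c59) Lrfl Lrfl
theorem f182187 : Led Lsl_dt (LP (LK LD1_c0 LD2_c36 LD3_c31)) = (LP (LK LD1_c1 LD2_c19 LD3_c4)) :=
  Lre_d IH (LK LD1_c0 LD2_c36 LD3_c31) (LK LD1_c1 LD2_c19 LD3_c4) Lrfl Lrfl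
theorem f196927 : Led Lsl_ff (LP (LK LD1_c0 LD2_c26 LD3_c52)) = (LP (LK LD1_c0 LD2_c36 LD3_c31)) :=
  Lgr Lrot103 (Lpr_at (f196926 IH) (Lpe (f52668 IH) (Lpr_df (f7996 IH) (Lpe (f52669 IH) (Lpe (f52670 IH) (Lpe (f52671 IH) (Lpe (f52655 IH) (Lpr_cf (f196905 IH) (Lpe (f182187 IH) (Lpn (LP (LK LD1_c0 LD2_c36 LD3_c31))))))))))))
theorem f182178 : Led Lsl_gt (LP (LK LD1_c0 LD2_c36 LD3_c31)) = (LP (LK LD1_c0 LD2_c16 LD3_c17)) :=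
  Lre_g IH (LK LD1_c0 LD2_c36 LD3_c31) (LK LD1_c0 LD2_c16 LD3_c17) Lrfl Lrfl
theorem f196932 : Led Lsl_gf (LP (LK LD1_c0 LD2_c11 LD3_c59)) = (LP (LK LD1_c0 LD2_c16 LD3_c17)) :=
  Lgr Lrot76 (Lpe (f196926 IH) (Lpr_ff (f196927 IH) (Lpr_gt (f182178 IH) (Lpn (LP (LK LD1_c0 LD2_c16 LD3_c17))))))
theorem f196948 : Led Lsl_bt (LP (LK LD1_c0 LD2_c26 LD3_c60)) = (LP (LK LD1_c0 LD2_c11 LD3_c59)) :=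
  Lre_b IH (LK LD1_c0 LD2_c26 LD3_c60) (LK LD1_c0 LD2_c11 LD3_c59) Lrfl Lrfl
theorem f634 : Led Lsl_gt (LP (LK LD1_c0 LD2_c12 LD3_c3)) = (LP (LK LD1_c0 LD2_c27 LD3_c9)) :=
  Lre_g IH (LK LD1_c0 LD2_c12 LD3_c3) (LK LD1_c0 LD2_c27 LD3_c9) Lrfl Lrfl
theorem f165212 : Led Lsl_bt (LP (LK LD1_c0 LD2_c7 LD3_c18)) = (LP (LK LD1_c0 LD2_c16 LD3_c17)) :=
  Lre_b IH (LK LD1_c0 LD2_c7 LD3_c18) (LK LD1_c0 LD2_c16 LD3_c17) Lrfl Lrfl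
theorem f196949 : Led Lsl_bt (LP (LK LD1_c0 LD2_c15 LD3_c56)) = (LP (LK LD1_c0 LD2_c7 LD3_c10)) :=
  Lre_b IH (LK LD1_c0 LD2_c15 LD3_c56) (LK LD1_c0 LD2_c7 LD3_c10) Lrfl Lrfl
theorem f196950 : Led Lsl_cf (LP (LK LD1_c0 LD2_c27 LD3_c9)) = (LP (LK LD1_c0 LD2_c15 LD3_c56)) :=
  Lgr Lrot58 (Lpe (f634 IH) (Lpe (f188735 IH) (Lpr_bt (f196948 IH) (Lpr_gf (f196932 IH) (Lpe (f165212 IH) (Lpr_ct (K9.f165205 IH) (Lpe (K9.f9486 IH) (Lpe (K9.f9471 IH) (Lpe (K9.f8439 IH) (Lpe (f196949 IH) (Lpn (LP (LK LD1_c0 LD2_c15 LD3_c56)))))))))))))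
theorem f197000 : Led Lsl_et (LP (LK LD1_c0 LD2_c27 LD3_c9)) = (LP (LK LD1_c0 LD2_c59 LD3_c41)) :=
  Lre_e IH (LK LD1_c0 LD2_c27 LD3_c9) (LK LD1_c0 LD2_c59 LD3_c41) Lrfl Lrfl
theorem f197001 : Led Lsl_et (LP (LK LD1_c0 LD2_c35 LD3_c35)) = (LP (LK LD1_c0 LD2_c15 LD3_c56)) :=
  Lre_e IH (LK LD1_c0 LD2_c35 LD3_c35) (LK LD1_c0 LD2_c15 LD3_c56) Lrfl Lrfl
theorem f197002 : Led Lsl_ct (LP (LK LD1_c0 LD2_c59 LD3_c41)) = (LP (LK LD1_c0 LD2_c35 LD3_c35)) :=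
  Lgr Lrot15 (Lpe (f197000 IH) (Lpr_cf (f196950 IH) (Lpe (f197001 IH) (Lpn (LP (LK LD1_c0 LD2_c35 LD3_c35))))))
theorem f197013 : Led Lsl_dt (LP (LK LD1_c2 LD2_c5 LD3_c15)) = (LP (LK LD1_c0 LD2_c59 LD3_c41)) :=
  Lre_d IH (LK LD1_c2 LD2_c5 LD3_c15) (LK LD1_c0 LD2_c59 LD3_c41) Lrfl Lrfl
theorem f8417 : Led Lsl_bt (LP (LK LD1_c0 LD2_c35 LD3_c35)) = (LP (LK LD1_c0 LD2_c15 LD3_c58)) :=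
  Lre_b IH (LK LD1_c0 LD2_c35 LD3_c35) (LK LD1_c0 LD2_c15 LD3_c58) Lrfl Lrfl
theorem f8419 : Led Lsl_df (LP (LK LD1_c0 LD2_c35 LD3_c35)) = (LP (LK LD1_c1 LD2_c16 LD3_c38)) :=
  Lgr Lrot12 (Lpr_bt (f8417 IH) (Lpr_dt (K0.f8389 IH) (Lpr_bt (f8418 IH) (Lpn (LP (LK LD1_c1 LD2_c16 LD3_c38))))))
theorem f189520 : Led Lsl_cf (LP (LK LD1_c1 LD2_c14 LD3_c38)) = (LP (LK LD1_c0 LD2_c57 LD3_c39)) :=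
  Lgr Lrot11 (Lpr_ct (f189515 IH) (Lpn (LP (LK LD1_c0 LD2_c57 LD3_c39))))
theorem f32110 : Led Lsl_gt (LP (LK LD1_c1 LD2_c14 LD3_c38)) = (LP (LK LD1_c0 LD2_c34 LD3_c45)) :=
  Lre_g IH (LK LD1_c1 LD2_c14 LD3_c38) (LK LD1_c0 LD2_c34 LD3_c45) Lrfl Lrfl
theorem f32203 : Led Lsl_dt (LP (LK LD1_c0 LD2_c34 LD3_c45)) = (LP (LK LD1_c1 LD2_c14 LD3_c56)) :=
  Lre_d IH (LK LD1_c0 LD2_c34 LD3_c45) (LK LD1_c1 LD2_c14 LD3_c56) Lrfl Lrfl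
theorem f197022 : Led Lsl_gf (LP (LK LD1_c2 LD2_c5 LD3_c15)) = (LP (LK LD1_c1 LD2_c14 LD3_c56)) :=
  Lgr Lrot154 (Lpr_dt (f197013 IH) (Lpr_ct (f197002 IH) (Lpr_df (f8419 IH) (Lpe (f191183 IH) (Lpe (K9.f49676 IH) (Lpe (f53585 IH) (Lpe (f189520 IH) (Lpr_gt (f32110 IH) (Lpr_dt (f32203 IH) (Lpn (LP (LK LD1_c1 LD2_c14 LD3_c56))))))))))))
theorem f32801 : Led Lsl_bt (LP (LK LD1_c0 LD2_c34 LD3_c49)) = (LP (LK LD1_c1 LD2_c14 LD3_c56)) :=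
  Lre_b IH (LK LD1_c0 LD2_c34 LD3_c49) (LK LD1_c1 LD2_c14 LD3_c56) Lrfl Lrfl
theorem f197040 : Led Lsl_bf (LP (LK LD1_c2 LD2_c5 LD3_c15)) = (LP (LK LD1_c1 LD2_c58 LD3_c13)) :=
  Lgr Lrot34 (Lpr_gf (f197022 IH) (Lpe (f32801 IH) (Lpr_ct (K2.f32271 IH) (Lpr_gf (f171515 IH) (Lpe (f165245 IH) (Lpe (f21988 IH) (Lpe (f21309 IH) (Lpr_ct (K0.f21837 IH) (Lpe (f21749 IH) (Lpe (f192850 IH) (Lpn (LP (LK LD1_c1 LD2_c58 LD3_c13)))))))))))))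
theorem f32843 : Led Lsl_at (LP (LK LD1_c0 LD2_c34 LD3_c44)) = (LP (LK LD1_c1 LD2_c14 LD3_c40)) :=
  Lre_a IH (LK LD1_c0 LD2_c34 LD3_c44) (LK LD1_c1 LD2_c14 LD3_c40) Lrfl Lrfl
theorem f197028 : Led Lsl_gt (LP (LK LD1_c2 LD2_c5 LD3_c15)) = (LP (LK LD1_c1 LD2_c14 LD3_c40)) :=
  Lgr Lrot46 (Lpr_gf (f197022 IH) (Lpr_ft (f48333 IH) (Lpr_at (f32843 IH) (Lpn (LP (LK LD1_c1 LD2_c14 LD3_c40))))))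
theorem f33844 : Led Lsl_gt (LP (LK LD1_c4 LD2_c1 LD3_c56)) = (LP (LK LD1_c2 LD2_c31 LD3_c45)) :=
  Lgr Lrot5 (Lpr_ft (K0.f33817 IH) (Lpr_at (K0.f33818 IH) (Lpe (f21749 IH) (Lpn (LP (LK LD1_c2 LD2_c31 LD3_c45))))))
theorem f22004 : Led Lsl_gt (LP (LK LD1_c0 LD2_c33 LD3_c49)) = (LP (LK LD1_c1 LD2_c12 LD3_c54)) :=
  Lre_g IH (LK LD1_c0 LD2_c33 LD3_c49) (LK LD1_c1 LD2_c12 LD3_c54) Lrfl Lrfl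
theorem f33986 : Led Lsl_gf (LP (LK LD1_c1 LD2_c57 LD3_c54)) = (LP (LK LD1_c1 LD2_c12 LD3_c54)) :=
  Lgr Lrot76 (Lpr_af (K0.f33945 IH) (Lpe (K0.f21973 IH) (Lpr_gt (f22004 IH) (Lpn (LP (LK LD1_c1 LD2_c12 LD3_c54))))))
theorem f33991 : Led Lsl_bt (LP (LK LD1_c2 LD2_c31 LD3_c38)) = (LP (LK LD1_c1 LD2_c12 LD3_c54)) :=
  Lre_b IH (LK LD1_c2 LD2_c31 LD3_c38) (LK LD1_c1 LD2_c12 LD3_c54) Lrfl Lrfl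
theorem f33994 : Led Lsl_ct (LP (LK LD1_c2 LD2_c31 LD3_c38)) = (LP (LK LD1_c5 LD2_c8 LD3_c56)) :=
  Lre_c IH (LK LD1_c2 LD2_c31 LD3_c38) (LK LD1_c5 LD2_c8 LD3_c56) Lrfl Lrfl
theorem f197061 : Led Lsl_gt (LP (LK LD1_c2 LD2_c34 LD3_c25)) = (LP (LK LD1_c5 LD2_c8 LD3_c56)) :=
  Lgr Lrot65 (Lpe (f32459 IH) (Lpe (K2.f32423 IH) (Lpe (f197028 IH) (Lpr_bf (f197040 IH) (Lpr_ct (f192850 IH) (Lpe (f33844 IH) (Lpe (K0.f33777 IH) (Lpr_gf (f33986 IH) (Lpe (f33991 IH) (Lpr_ct (f33994 IH) (Lpn (LP (LK LD1_c5 LD2_c8 LD3_c56)))))))))))))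
theorem f45385 : Led Lsl_ft (LP (LK LD1_c2 LD2_c34 LD3_c25)) = (LP (LK LD1_c5 LD2_c15 LD3_c9)) :=
  Lre_f IH (LK LD1_c2 LD2_c34 LD3_c25) (LK LD1_c5 LD2_c15 LD3_c9) Lrfl Lrfl
theorem f45384 : Led Lsl_at (LP (LK LD1_c5 LD2_c15 LD3_c9)) = (LP (LK LD1_c2 LD2_c34 LD3_c53)) :=
  Lre_a IH (LK LD1_c5 LD2_c15 LD3_c9) (LK LD1_c2 LD2_c34 LD3_c53) Lrfl Lrfl
theorem f197063 : Led Lsl_gf (LP (LK LD1_c2 LD2_c34 LD3_c53)) = (LP (LK LD1_c5 LD2_c8 LD3_c56)) :=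
  Lgr Lrot76 (Lpe (f45384 IH) (Lpe (f45385 IH) (Lpr_gt (f197061 IH) (Lpn (LP (LK LD1_c5 LD2_c8 LD3_c56))))))
theorem f32911 : Led Lsl_ct (LP (LK LD1_c2 LD2_c34 LD3_c53)) = (LP (LK LD1_c1 LD2_c14 LD3_c26)) :=
  Lre_c IH (LK LD1_c2 LD2_c34 LD3_c53) (LK LD1_c1 LD2_c14 LD3_c26) Lrfl Lrfl
theorem f32375 : Led Lsl_dt (LP (LK LD1_c1 LD2_c14 LD3_c26)) = (LP (LK LD1_c0 LD2_c34 LD3_c30)) :=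
  Lre_d IH (LK LD1_c1 LD2_c14 LD3_c26) (LK LD1_c0 LD2_c34 LD3_c30) Lrfl Lrfl
theorem f183206 : Led Lsl_bt (LP (LK LD1_c0 LD2_c15 LD3_c52)) = (LP (LK LD1_c0 LD2_c35 LD3_c22)) :=
  Lre_b IH (LK LD1_c0 LD2_c15 LD3_c52) (LK LD1_c0 LD2_c35 LD3_c22) Lrfl Lrfl
theorem f192353 : Led Lsl_gt (LP (LK LD1_c0 LD2_c35 LD3_c22)) = (LP (LK LD1_c0 LD2_c59 LD3_c30)) :=
  Lgr Lrot164 (Lpe (f183206 IH) (Lpe (K9.f183189 IH) (Lpe (K9.f47067 IH) (Lpe (K1.f47049 IH) (Lpr_gf (K9.f177377 IH) (Lpe (K9.f177383 IH) (Lpr_ct (f182025 IH) (Lpr_gf (f192345 IH) (Lpr_cf (K0.f31542 IH) (Lpr_bt (f45378 IH) (Lpn (LP (LK LD1_c0 LD2_c59 LD3_c30)))))))))))))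
theorem f197154 : Led Lsl_gt (LP (LK LD1_c2 LD2_c4 LD3_c14)) = (LP (LK LD1_c2 LD2_c31 LD3_c38)) :=
  Lgr Lrot9 (Lpe (K8.f45709 IH) (Lpe (f190893 IH) (Lpr_ct (f190961 IH) (Lpr_gt (f192353 IH) (Lpe (K1.f45356 IH) (Lpe (f32375 IH) (Lpe (f32911 IH) (Lpr_gf (f197063 IH) (Lpe (f33994 IH) (Lpn (LP (LK LD1_c2 LD2_c31 LD3_c38))))))))))))
theorem f183970 : Led Lsl_ct (LP (LK LD1_c4 LD2_c13 LD3_c42)) = (LP (LK LD1_c5 LD2_c18 LD3_c29)) :=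
  Lgr Lrot59 (Lpr_cf (K9.f183956 IH) (Lpn (LP (LK LD1_c5 LD2_c18 LD3_c29))))
theorem f46170 : Led Lsl_bt (LP (LK LD1_c2 LD2_c10 LD3_c52)) = (LP (LK LD1_c4 LD2_c27 LD3_c11)) :=
  Lre_b IH (LK LD1_c2 LD2_c10 LD3_c52) (LK LD1_c4 LD2_c27 LD3_c11) Lrfl Lrfl
theorem f46955 : Led Lsl_bf (LP (LK LD1_c2 LD2_c10 LD3_c57)) = (LP (LK LD1_c1 LD2_c58 LD3_c15)) :=
  Lgr Lrot81 (Lpr_at (K1.f46161 IH) (Lpr_bt (f46170 IH) (Lpr_at (K1.f46387 IH) (Lpe (f45821 IH) (Lpr_at (K1.f46953 IH) (Lpn (LP (LK LD1_c1 LD2_c58 LD3_c15))))))))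
theorem f197169 : Led Lsl_bt (LP (LK LD1_c1 LD2_c12 LD3_c54)) = (LP (LK LD1_c2 LD2_c31 LD3_c38)) :=
  Lre_b IH (LK LD1_c1 LD2_c12 LD3_c54) (LK LD1_c2 LD2_c31 LD3_c38) Lrfl Lrfl
theorem f33989 : Led Lsl_ct (LP (LK LD1_c1 LD2_c12 LD3_c54)) = (LP (LK LD1_c2 LD2_c31 LD3_c39)) :=
  Lre_c IH (LK LD1_c1 LD2_c12 LD3_c54) (LK LD1_c2 LD2_c31 LD3_c39) Lrfl Lrfl
theorem f197170 : Led Lsl_gf (LP (LK LD1_c4 LD2_c2 LD3_c31)) = (LP (LK LD1_c2 LD2_c31 LD3_c39)) :=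
  Lgr Lrot126 (Lpe (K1.f46932 IH) (Lpe (f46955 IH) (Lpr_gt (K9.f182206 IH) (Lpr_ct (K9.f32913 IH) (Lpr_gt (K9.f32914 IH) (Lpe (f183970 IH) (Lpr_bt (K9.f49546 IH) (Lpr_gt (f197154 IH) (Lpe (f197169 IH) (Lpr_ct (f33989 IH) (Lpn (LP (LK LD1_c2 LD2_c31 LD3_c39)))))))))))))
theorem f34617 : Led Lsl_dt (LP (LK LD1_c0 LD2_c33 LD3_c48)) = (LP (LK LD1_c1 LD2_c12 LD3_c52)) :=
  Lre_d IH (LK LD1_c0 LD2_c33 LD3_c48) (LK LD1_c1 LD2_c12 LD3_c52) Lrfl Lrfl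
theorem f190277 : Led Lsl_ct (LP (LK LD1_c2 LD2_c31 LD3_c35)) = (LP (LK LD1_c1 LD2_c12 LD3_c52)) :=
  Lre_c IH (LK LD1_c2 LD2_c31 LD3_c35) (LK LD1_c1 LD2_c12 LD3_c52) Lrfl Lrfl
theorem f190339 : Led Lsl_dt (LP (LK LD1_c5 LD2_c8 LD3_c49)) = (LP (LK LD1_c2 LD2_c31 LD3_c35)) :=
  Lre_d IH (LK LD1_c5 LD2_c8 LD3_c49) (LK LD1_c2 LD2_c31 LD3_c35) Lrfl Lrfl
theorem f197176 : Led Lsl_gt (LP (LK LD1_c4 LD2_c13 LD3_c33)) = (LP (LK LD1_c5 LD2_c8 LD3_c49)) :=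
  Lgr Lrot49 (Lpr_df (K1.f46901 IH) (Lpr_gf (f197170 IH) (Lpe (f33989 IH) (Lpe (f33986 IH) (Lpr_dt (K0.f33598 IH) (Lpe (f190337 IH) (Lpr_dt (f34617 IH) (Lpe (f190277 IH) (Lpe (f190339 IH) (Lpn (LP (LK LD1_c5 LD2_c8 LD3_c49))))))))))))
theorem f46573 : Led Lsl_at (LP (LK LD1_c1 LD2_c58 LD3_c14)) = (LP (LK LD1_c1 LD2_c58 LD3_c21)) :=
  Lgr Lrot107 (Lpe (K1.f46572 IH) (Lpr_af (K1.f46536 IH) (Lpe (f27840 IH) (Lpn (LP (LK LD1_c1 LD2_c58 LD3_c21))))))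
theorem f46939 : Led Lsl_ft (LP (LK LD1_c4 LD2_c2 LD3_c31)) = (LP (LK LD1_c1 LD2_c58 LD3_c14)) :=
  Lre_f IH (LK LD1_c4 LD2_c2 LD3_c31) (LK LD1_c1 LD2_c58 LD3_c14) Lrfl Lrfl
theorem f190441 : Led Lsl_gt (LP (LK LD1_c4 LD2_c2 LD3_c31)) = (LP (LK LD1_c2 LD2_c31 LD3_c42)) :=
  Lgr Lrot5 (Lpr_ft (f46939 IH) (Lpr_at (f46573 IH) (Lpr_gf (f190340 IH) (Lpn (LP (LK LD1_c2 LD2_c31 LD3_c42))))))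
theorem f34005 : Led Lsl_ct (LP (LK LD1_c2 LD2_c31 LD3_c42)) = (LP (LK LD1_c1 LD2_c12 LD3_c55)) :=
  Lre_c IH (LK LD1_c2 LD2_c31 LD3_c42) (LK LD1_c1 LD2_c12 LD3_c55) Lrfl Lrfl
theorem f33761 : Led Lsl_gt (LP (LK LD1_c1 LD2_c57 LD3_c45)) = (LP (LK LD1_c4 LD2_c1 LD3_c34)) :=
  Lre_g IH (LK LD1_c1 LD2_c57 LD3_c45) (LK LD1_c4 LD2_c1 LD3_c34) Lrfl Lrfl
theorem f33762 : Led Lsl_gf (LP (LK LD1_c4 LD2_c2 LD3_c25)) = (LP (LK LD1_c4 LD2_c1 LD3_c34)) :=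
  Lgr Lrot76 (Lpr_af (K0.f33741 IH) (Lpe (K0.f33691 IH) (Lpr_gt (f33761 IH) (Lpn (LP (LK LD1_c4 LD2_c1 LD3_c34))))))
theorem f197207 : Led Lsl_cf (LP (LK LD1_c4 LD2_c1 LD3_c34)) = (LP (LK LD1_c5 LD2_c8 LD3_c49)) :=
  Lgr Lrot169 (Lpe (f33762 IH) (Lpr_ct (K0.f33774 IH) (Lpe (K0.f21707 IH) (Lpe (K0.f21837 IH) (Lpe (f22006 IH) (Lpe (f34005 IH) (Lpe (f190441 IH) (Lpe (K1.f46935 IH) (Lpr_gt (f197176 IH) (Lpn (LP (LK LD1_c5 LD2_c8 LD3_c49))))))))))))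
theorem f197215 : Led Lsl_ct (LP (LK LD1_c4 LD2_c1 LD3_c34)) = (LP (LK LD1_c5 LD2_c8 LD3_c49)) :=
  Lgr Lrot59 (Lpr_cf (f197207 IH) (Lpn (LP (LK LD1_c5 LD2_c8 LD3_c49))))
theorem f69754 : Led Lsl_gt (LP (LK LD1_c0 LD2_c55 LD3_c44)) = (LP (LK LD1_c1 LD2_c57 LD3_c42)) :=
  Lre_g IH (LK LD1_c0 LD2_c55 LD3_c44) (LK LD1_c1 LD2_c57 LD3_c42) Lrfl Lrfl
theorem f197205 : Led Lsl_gf (LP (LK LD1_c4 LD2_c2 LD3_c40)) = (LP (LK LD1_c5 LD2_c8 LD3_c49)) :=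
  Lgr Lrot76 (Lpe (K1.f46648 IH) (Lpe (K1.f46896 IH) (Lpr_gt (f197176 IH) (Lpn (LP (LK LD1_c5 LD2_c8 LD3_c49))))))
theorem f27876 : Led Lsl_ft (LP (LK LD1_c0 LD2_c26 LD3_c54)) = (LP (LK LD1_c0 LD2_c59 LD3_c5)) :=
  Lre_f IH (LK LD1_c0 LD2_c26 LD3_c54) (LK LD1_c0 LD2_c59 LD3_c5) Lrfl Lrfl
theorem f174998 : Led Lsl_gt (LP (LK LD1_c0 LD2_c57 LD3_c2)) = (LP (LK LD1_c0 LD2_c56 LD3_c42)) :=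
  Lgr Lrot46 (Lpr_gf (K9.f174996 IH) (Lpr_ft (f27876 IH) (Lpe (K1.f46634 IH) (Lpn (LP (LK LD1_c0 LD2_c56 LD3_c42))))))
theorem f197237 : Led Lsl_ct (LP (LK LD1_c1 LD2_c57 LD3_c42)) = (LP (LK LD1_c0 LD2_c57 LD3_c2)) :=
  Lgr Lrot152 (Lpe (f69754 IH) (Lpe (K0.f33713 IH) (Lpr_gt (f33761 IH) (Lpr_ct (f197215 IH) (Lpe (f197205 IH) (Lpe (K1.f46646 IH) (Lpe (f46662 IH) (Lpe (K1.f46633 IH) (Lpe (f174998 IH) (Lpn (LP (LK LD1_c0 LD2_c57 LD3_c2))))))))))))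
theorem f197244 : Led Lsl_cf (LP (LK LD1_c1 LD2_c57 LD3_c42)) = (LP (LK LD1_c0 LD2_c57 LD3_c2)) :=
  Lgr Lrot11 (Lpr_ct (f197237 IH) (Lpn (LP (LK LD1_c0 LD2_c57 LD3_c2))))
theorem f20656 : Led Lsl_bt (LP (LK LD1_c0 LD2_c17 LD3_c46)) = (LP (LK LD1_c0 LD2_c39 LD3_c35)) :=
  Lre_b IH (LK LD1_c0 LD2_c17 LD3_c46) (LK LD1_c0 LD2_c39 LD3_c35) Lrfl Lrfl
theorem f197355 : Led Lsl_gf (LP (LK LD1_c0 LD2_c31 LD3_c45)) = (LP (LK LD1_c0 LD2_c39 LD3_c35)) :=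
  Lgr Lrot124 (Lpr_bf (K2.f69710 IH) (Lpr_ct (K0.f33712 IH) (Lpr_gt (f69754 IH) (Lpr_cf (f197244 IH) (Lpr_bt (K9.f56531 IH) (Lpr_gt (K9.f175284 IH) (Lpr_ct (K1.f55624 IH) (Lpr_gt (K9.f177386 IH) (Lpe (K9.f20660 IH) (Lpr_bt (f20656 IH) (Lpn (LP (LK LD1_c0 LD2_c39 LD3_c35)))))))))))))
theorem f37117 : Led Lsl_ft (LP (LK LD1_c1 LD2_c9 LD3_c14)) = (LP (LK LD1_c0 LD2_c31 LD3_c45)) :=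
  Lre_f IH (LK LD1_c1 LD2_c9 LD3_c14) (LK LD1_c0 LD2_c31 LD3_c45) Lrfl Lrfl
theorem f197357 : Led Lsl_gt (LP (LK LD1_c1 LD2_c9 LD3_c14)) = (LP (LK LD1_c0 LD2_c39 LD3_c35)) :=
  Lgr Lrot5 (Lpr_ft (f37117 IH) (Lpe (K2.f37128 IH) (Lpr_gf (f197355 IH) (Lpn (LP (LK LD1_c0 LD2_c39 LD3_c35))))))
theorem f34652 : Led Lsl_dt (LP (LK LD1_c0 LD2_c31 LD3_c46)) = (LP (LK LD1_c1 LD2_c9 LD3_c14)) :=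
  Lre_d IH (LK LD1_c0 LD2_c31 LD3_c46) (LK LD1_c1 LD2_c9 LD3_c14) Lrfl Lrfl
theorem f190265 : Led Lsl_gt (LP (LK LD1_c0 LD2_c29 LD3_c51)) = (LP (LK LD1_c0 LD2_c31 LD3_c46)) :=
  Lgr Lrot65 (Lpr_cf (f190256 IH) (Lpe (f190254 IH) (Lpe (K9.f31053 IH) (Lpe (K0.f31597 IH) (Lpr_ct (K1.f32873 IH) (Lpr_gf (K9.f165870 IH) (Lpe (K9.f163681 IH) (Lpr_gf (K9.f163677 IH) (Lpe (f163685 IH) (Lpe (f34643 IH) (Lpn (LP (LK LD1_c0 LD2_c31 LD3_c46)))))))))))))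
theorem f193682 : Led Lsl_dt (LP (LK LD1_c0 LD2_c36 LD3_c50)) = (LP (LK LD1_c0 LD2_c16 LD3_c26)) :=
  Lre_d IH (LK LD1_c0 LD2_c36 LD3_c50) (LK LD1_c0 LD2_c16 LD3_c26) Lrfl Lrfl
theorem f193685 : Led Lsl_ef (LP (LK LD1_c0 LD2_c29 LD3_c51)) = (LP (LK LD1_c0 LD2_c36 LD3_c50)) :=
  Lgr Lrot17 (Lpr_gf (f190267 IH) (Lpe (K0.f28587 IH) (Lpe (K0.f33118 IH) (Lpe (K0.f224 IH) (Lpe (K0.f20447 IH) (Lpr_gf (K0.f28592 IH) (Lpe (K0.f2990 IH) (Lpr_dt (K1.f2988 IH) (Lpr_gf (f193679 IH) (Lpe (f193682 IH) (Lpn (LP (LK LD1_c0 LD2_c36 LD3_c50)))))))))))))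
theorem f196270 : Led Lsl_dt (LP (LK LD1_c0 LD2_c16 LD3_c14)) = (LP (LK LD1_c0 LD2_c36 LD3_c25)) :=
  Lre_d IH (LK LD1_c0 LD2_c16 LD3_c14) (LK LD1_c0 LD2_c36 LD3_c25) Lrfl Lrfl
theorem f20731 : Led Lsl_bt (LP (LK LD1_c1 LD2_c3 LD3_c5)) = (LP (LK LD1_c0 LD2_c28 LD3_c52)) :=
  Lre_b IH (LK LD1_c1 LD2_c3 LD3_c5) (LK LD1_c0 LD2_c28 LD3_c52) Lrfl Lrfl
theorem f20732 : Led Lsl_bt (LP (LK LD1_c0 LD2_c39 LD3_c37)) = (LP (LK LD1_c1 LD2_c25 LD3_c42)) :=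
  Lre_b IH (LK LD1_c0 LD2_c39 LD3_c37) (LK LD1_c1 LD2_c25 LD3_c42) Lrfl Lrfl
theorem f20733 : Led Lsl_df (LP (LK LD1_c1 LD2_c3 LD3_c5)) = (LP (LK LD1_c1 LD2_c25 LD3_c42)) :=
  Lgr Lrot12 (Lpr_bt (f20731 IH) (Lpr_dt (f20721 IH) (Lpr_bt (f20732 IH) (Lpn (LP (LK LD1_c1 LD2_c25 LD3_c42))))))
theorem f20741 : Led Lsl_et (LP (LK LD1_c1 LD2_c3 LD3_c5)) = (LP (LK LD1_c0 LD2_c28 LD3_c45)) :=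
  Lre_e IH (LK LD1_c1 LD2_c3 LD3_c5) (LK LD1_c0 LD2_c28 LD3_c45) Lrfl Lrfl
theorem f20742 : Led Lsl_dt (LP (LK LD1_c0 LD2_c28 LD3_c45)) = (LP (LK LD1_c0 LD2_c12 LD3_c42)) :=
  Lre_d IH (LK LD1_c0 LD2_c28 LD3_c45) (LK LD1_c0 LD2_c12 LD3_c42) Lrfl Lrfl
theorem f20743 : Led Lsl_et (LP (LK LD1_c0 LD2_c12 LD3_c42)) = (LP (LK LD1_c0 LD2_c28 LD3_c46)) :=
  Lre_e IH (LK LD1_c0 LD2_c12 LD3_c42) (LK LD1_c0 LD2_c28 LD3_c46) Lrfl Lrfl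
theorem f20744 : Led Lsl_et (LP (LK LD1_c0 LD2_c39 LD3_c35)) = (LP (LK LD1_c1 LD2_c25 LD3_c42)) :=
  Lre_e IH (LK LD1_c0 LD2_c39 LD3_c35) (LK LD1_c1 LD2_c25 LD3_c42) Lrfl Lrfl
theorem f20745 : Led Lsl_dt (LP (LK LD1_c0 LD2_c28 LD3_c46)) = (LP (LK LD1_c0 LD2_c39 LD3_c35)) :=
  Lgr Lrot77 (Lpe (f20743 IH) (Lpe (f20742 IH) (Lpe (f20741 IH) (Lpr_df (f20733 IH) (Lpe (f20744 IH) (Lpn (LP (LK LD1_c0 LD2_c39 LD3_c35))))))))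
theorem f20753 : Led Lsl_et (LP (LK LD1_c0 LD2_c28 LD3_c46)) = (LP (LK LD1_c0 LD2_c12 LD3_c42)) :=
  Lre_e IH (LK LD1_c0 LD2_c28 LD3_c46) (LK LD1_c0 LD2_c12 LD3_c42) Lrfl Lrfl
theorem f197374 : Led Lsl_gf (LP (LK LD1_c0 LD2_c16 LD3_c14)) = (LP (LK LD1_c0 LD2_c12 LD3_c42)) :=
  Lgr Lrot138 (Lpr_dt (f196270 IH) (Lpr_gt (f196294 IH) (Lpe (f193682 IH) (Lpe (f193685 IH) (Lpr_gt (f190265 IH) (Lpr_ef (K0.f34648 IH) (Lpr_dt (f34652 IH) (Lpr_gt (f197357 IH) (Lpe (f20745 IH) (Lpr_et (f20753 IH) (Lpn (LP (LK LD1_c0 LD2_c12 LD3_c42)))))))))))))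
theorem f197378 : Led Lsl_ef (LP (LK LD1_c0 LD2_c16 LD3_c14)) = (LP (LK LD1_c0 LD2_c16 LD3_c14)) :=
  Lgr Lrot17 (Lpr_gf (f197374 IH) (Lpe (f20753 IH) (Lpr_dt (f20745 IH) (Lpe (f197357 IH) (Lpe (f34652 IH) (Lpe (f190265 IH) (Lpr_ef (f193685 IH) (Lpr_dt (f193682 IH) (Lpe (f196294 IH) (Lpe (f196270 IH) (Lpn (LP (LK LD1_c0 LD2_c16 LD3_c14)))))))))))))
theorem f196271 : Led Lsl_bf (LP (LK LD1_c0 LD2_c16 LD3_c14)) = (LP (LK LD1_c0 LD2_c24 LD3_c60)) :=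
  Lgr Lrot93 (Lpr_dt (f196270 IH) (Lpr_bt (f196265 IH) (Lpr_dt (K1.f6937 IH) (Lpn (LP (LK LD1_c0 LD2_c24 LD3_c60))))))
theorem f197380 : Led Lsl_bt (LP (LK LD1_c0 LD2_c16 LD3_c14)) = (LP (LK LD1_c0 LD2_c24 LD3_c60)) :=
  Lgr Lrot119 (Lpr_ef (f197378 IH) (Lpr_bf (f196271 IH) (Lpe (K0.f6940 IH) (Lpn (LP (LK LD1_c0 LD2_c24 LD3_c60))))))
theorem f197385 : Led Lsl_cf (LP (LK LD1_c0 LD2_c16 LD3_c14)) = (LP (LK LD1_c0 LD2_c14 LD3_c10)) :=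
  Lgr Lrot97 (Lpr_bt (f197380 IH) (Lpe (K0.f6926 IH) (Lpr_bt (f2425 IH) (Lpr_ct (K0.f2141 IH) (Lpr_bt (K0.f2150 IH) (Lpn (LP (LK LD1_c0 LD2_c14 LD3_c10))))))))
theorem f197360 : Led Lsl_gt (LP (LK LD1_c0 LD2_c14 LD3_c5)) = (LP (LK LD1_c0 LD2_c12 LD3_c42)) :=
  Lgr Lrot131 (Lpe (K0.f2904 IH) (Lpr_dt (K0.f2903 IH) (Lpe (K0.f2899 IH) (Lpe (K0.f2893 IH) (Lpr_gf (K0.f2896 IH) (Lpe (K0.f2905 IH) (Lpr_dt (K2.f2906 IH) (Lpr_gf (f197355 IH) (Lpe (f20745 IH) (Lpr_et (f20753 IH) (Lpn (LP (LK LD1_c0 LD2_c12 LD3_c42)))))))))))))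
theorem f196290 : Led Lsl_ff (LP (LK LD1_c0 LD2_c16 LD3_c14)) = (LP (LK LD1_c0 LD2_c14 LD3_c5)) :=
  Lgr Lrot19 (Lpr_dt (f196270 IH) (Lpr_ft (f196284 IH) (Lpr_dt (K0.f2972 IH) (Lpn (LP (LK LD1_c0 LD2_c14 LD3_c5))))))
theorem f197376 : Led Lsl_af (LP (LK LD1_c0 LD2_c16 LD3_c14)) = (LP (LK LD1_c0 LD2_c16 LD3_c14)) :=
  Lgr Lrot31 (Lpr_gf (f197374 IH) (Lpe (f197360 IH) (Lpe (f196290 IH) (Lpn (LP (LK LD1_c0 LD2_c16 LD3_c14))))))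
theorem f2151 : Led Lsl_af (LP (LK LD1_c0 LD2_c14 LD3_c10)) = (LP (LK LD1_c0 LD2_c14 LD3_c10)) :=
  Lgr Lrot36 (Lpr_bt (K0.f2146 IH) (Lpe (K0.f2148 IH) (Lpr_bt (K0.f1702 IH) (Lpr_at (K0.f2136 IH) (Lpr_bt (K0.f2150 IH) (Lpn (LP (LK LD1_c0 LD2_c14 LD3_c10))))))))
theorem f197387 : Led Lsl_ct (LP (LK LD1_c0 LD2_c16 LD3_c14)) = (LP (LK LD1_c0 LD2_c14 LD3_c10)) :=
  Lgr Lrot111 (Lpr_af (f197376 IH) (Lpr_cf (f197385 IH) (Lpr_af (f2151 IH) (Lpn (LP (LK LD1_c0 LD2_c14 LD3_c10))))))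
theorem f167853 : Led Lsl_bt (LP (LK LD1_c0 LD2_c5 LD3_c48)) = (LP (LK LD1_c0 LD2_c12 LD3_c42)) :=
  Lre_b IH (LK LD1_c0 LD2_c5 LD3_c48) (LK LD1_c0 LD2_c12 LD3_c42) Lrfl Lrfl
theorem f167854 : Led Lsl_bt (LP (LK LD1_c0 LD2_c7 LD3_c17)) = (LP (LK LD1_c0 LD2_c3 LD3_c17)) :=
  Lre_b IH (LK LD1_c0 LD2_c7 LD3_c17) (LK LD1_c0 LD2_c3 LD3_c17) Lrfl Lrfl
theorem f2913 : Led Lsl_gt (LP (LK LD1_c0 LD2_c14 LD3_c9)) = (LP (LK LD1_c0 LD2_c6 LD3_c30)) :=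
  Lre_g IH (LK LD1_c0 LD2_c14 LD3_c9) (LK LD1_c0 LD2_c6 LD3_c30) Lrfl Lrfl
theorem f3080 : Led Lsl_gt (LP (LK LD1_c0 LD2_c14 LD3_c10)) = (LP (LK LD1_c0 LD2_c14 LD3_c9)) :=
  Lgr Lrot5 (Lpr_ft (K0.f2889 IH) (Lpr_at (K0.f2128 IH) (Lpe (f2913 IH) (Lpn (LP (LK LD1_c0 LD2_c14 LD3_c9))))))
theorem f197400 : Led Lsl_ct (LP (LK LD1_c0 LD2_c7 LD3_c17)) = (LP (LK LD1_c0 LD2_c14 LD3_c9)) :=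
  Lgr Lrot63 (Lpr_bt (f167854 IH) (Lpr_gt (K9.f8336 IH) (Lpe (K9.f43100 IH) (Lpr_ct (K1.f40853 IH) (Lpr_gt (K9.f167832 IH) (Lpe (K9.f20811 IH) (Lpr_bt (f167853 IH) (Lpe (f197374 IH) (Lpr_ct (f197387 IH) (Lpr_gt (f3080 IH) (Lpn (LP (LK LD1_c0 LD2_c14 LD3_c9)))))))))))))
theorem f101336 : Led Lsl_ct (LP (LK LD1_c0 LD2_c16 LD3_c26)) = (LP (LK LD1_c0 LD2_c36 LD3_c49)) :=
  Lre_c IH (LK LD1_c0 LD2_c16 LD3_c26) (LK LD1_c0 LD2_c36 LD3_c49) Lrfl Lrfl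
theorem f3011 : Led Lsl_ct (LP (LK LD1_c1 LD2_c9 LD3_c12)) = (LP (LK LD1_c0 LD2_c31 LD3_c43)) :=
  Lre_c IH (LK LD1_c1 LD2_c9 LD3_c12) (LK LD1_c0 LD2_c31 LD3_c43) Lrfl Lrfl
theorem f197410 : Led Lsl_gt (LP (LK LD1_c0 LD2_c36 LD3_c49)) = (LP (LK LD1_c1 LD2_c9 LD3_c12)) :=
  Lgr Lrot150 (Lpe (f101336 IH) (Lpe (f196294 IH) (Lpe (f196270 IH) (Lpr_gt (f171762 IH) (Lpr_ct (f197400 IH) (Lpr_gt (f2913 IH) (Lpr_ct (K0.f6890 IH) (Lpe (K0.f2972 IH) (Lpe (f3011 IH) (Lpn (LP (LK LD1_c1 LD2_c9 LD3_c12))))))))))))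
theorem f6904 : Led Lsl_at (LP (LK LD1_c1 LD2_c9 LD3_c12)) = (LP (LK LD1_c1 LD2_c9 LD3_c12)) :=
  Lgr Lrot107 (Lpe (K8.f2966 IH) (Lpr_af (K1.f6902 IH) (Lpe (f3011 IH) (Lpn (LP (LK LD1_c1 LD2_c9 LD3_c12))))))
theorem f196275 : Led Lsl_ct (LP (LK LD1_c0 LD2_c36 LD3_c25)) = (LP (LK LD1_c1 LD2_c18 LD3_c61)) :=
  Lre_c IH (LK LD1_c0 LD2_c36 LD3_c25) (LK LD1_c1 LD2_c18 LD3_c61) Lrfl Lrfl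
theorem f196278 : Led Lsl_ft (LP (LK LD1_c1 LD2_c18 LD3_c61)) = (LP (LK LD1_c1 LD2_c9 LD3_c12)) :=
  Lgr Lrot4 (Lpe (f196275 IH) (Lpr_ff (f196273 IH) (Lpe (f3011 IH) (Lpn (LP (LK LD1_c1 LD2_c9 LD3_c12))))))
theorem f197412 : Led Lsl_gf (LP (LK LD1_c0 LD2_c36 LD3_c49)) = (LP (LK LD1_c1 LD2_c18 LD3_c61)) :=
  Lgr Lrot47 (Lpr_gt (f197410 IH) (Lpe (f6904 IH) (Lpe (f196278 IH) (Lpn (LP (LK LD1_c1 LD2_c18 LD3_c61))))))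
theorem f101335 : Led Lsl_bt (LP (LK LD1_c0 LD2_c16 LD3_c26)) = (LP (LK LD1_c0 LD2_c7 LD3_c22)) :=
  Lre_b IH (LK LD1_c0 LD2_c16 LD3_c26) (LK LD1_c0 LD2_c7 LD3_c22) Lrfl Lrfl
theorem f174966 : Led Lsl_bt (LP (LK LD1_c0 LD2_c14 LD3_c39)) = (LP (LK LD1_c0 LD2_c32 LD3_c38)) :=
  Lre_b IH (LK LD1_c0 LD2_c14 LD3_c39) (LK LD1_c0 LD2_c32 LD3_c38) Lrfl Lrfl
theorem f197799 : Led Lsl_gt (LP (LK LD1_c0 LD2_c32 LD3_c38)) = (LP (LK LD1_c0 LD2_c55 LD3_c11)) :=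
  Lgr Lrot164 (Lpe (f174966 IH) (Lpr_ct (K9.f174953 IH) (Lpe (K9.f68576 IH) (Lpe (K9.f165207 IH) (Lpe (K0.f9501 IH) (Lpe (f101335 IH) (Lpr_ct (f101336 IH) (Lpr_gf (f197412 IH) (Lpe (f196275 IH) (Lpr_bt (f196265 IH) (Lpn (LP (LK LD1_c0 LD2_c55 LD3_c11)))))))))))))
theorem f181604 : Led Lsl_et (LP (LK LD1_c1 LD2_c10 LD3_c26)) = (LP (LK LD1_c0 LD2_c32 LD3_c38)) :=
  Lre_e IH (LK LD1_c1 LD2_c10 LD3_c26) (LK LD1_c0 LD2_c32 LD3_c38) Lrfl Lrfl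
theorem f37182 : Led Lsl_gt (LP (LK LD1_c1 LD2_c27 LD3_c61)) = (LP (LK LD1_c0 LD2_c40 LD3_c42)) :=
  Lre_g IH (LK LD1_c1 LD2_c27 LD3_c61) (LK LD1_c0 LD2_c40 LD3_c42) Lrfl Lrfl
theorem f69811 : Led Lsl_gt (LP (LK LD1_c1 LD2_c58 LD3_c11)) = (LP (LK LD1_c1 LD2_c27 LD3_c61)) :=
  Lgr Lrot5 (Lpr_ft (K2.f69803 IH) (Lpe (K2.f69805 IH) (Lpe (f37182 IH) (Lpn (LP (LK LD1_c1 LD2_c27 LD3_c61))))))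
theorem f197805 : Led Lsl_dt (LP (LK LD1_c1 LD2_c10 LD3_c26)) = (LP (LK LD1_c1 LD2_c27 LD3_c61)) :=
  Lgr Lrot37 (Lpr_et (f181604 IH) (Lpr_gt (f197799 IH) (Lpr_dt (K1.f6937 IH) (Lpr_gt (f29603 IH) (Lpe (K9.f28938 IH) (Lpr_et (K9.f69713 IH) (Lpe (f196152 IH) (Lpe (K2.f33623 IH) (Lpe (K2.f33626 IH) (Lpr_gt (f69811 IH) (Lpn (LP (LK LD1_c1 LD2_c27 LD3_c61)))))))))))))
theorem f197811 : Led Lsl_df (LP (LK LD1_c1 LD2_c10 LD3_c26)) = (LP (LK LD1_c1 LD2_c27 LD3_c61)) :=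
  Lgr Lrot38 (Lpr_dt (f197805 IH) (Lpn (LP (LK LD1_c1 LD2_c27 LD3_c61))))
theorem f161775 : Led Lsl_bt (LP (LK LD1_c1 LD2_c10 LD3_c26)) = (LP (LK LD1_c0 LD2_c32 LD3_c39)) :=
  Lre_b IH (LK LD1_c1 LD2_c10 LD3_c26) (LK LD1_c0 LD2_c32 LD3_c39) Lrfl Lrfl
theorem f197814 : Led Lsl_bt (LP (LK LD1_c0 LD2_c40 LD3_c55)) = (LP (LK LD1_c1 LD2_c27 LD3_c61)) :=
  Lgr Lrot95 (Lpe (K9.f161773 IH) (Lpe (f161775 IH) (Lpr_df (f197811 IH) (Lpn (LP (LK LD1_c1 LD2_c27 LD3_c61))))))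
theorem f175831 : Led Lsl_ct (LP (LK LD1_c1 LD2_c20 LD3_c37)) = (LP (LK LD1_c2 LD2_c49 LD3_c3)) :=
  Lre_c IH (LK LD1_c1 LD2_c20 LD3_c37) (LK LD1_c2 LD2_c49 LD3_c3) Lrfl Lrfl
theorem f197819 : Led Lsl_gt (LP (LK LD1_c2 LD2_c49 LD3_c3)) = (LP (LK LD1_c4 LD2_c2 LD3_c26)) :=
  Lgr Lrot149 (Lpe (f175831 IH) (Lpe (f68603 IH) (Lpe (f60142 IH) (Lpr_ct (K1.f60119 IH) (Lpe (f175847 IH) (Lpr_cf (f175848 IH) (Lpr_bt (f197814 IH) (Lpe (f69811 IH) (Lpe (K9.f69770 IH) (Lpr_ct (K2.f69777 IH) (Lpn (LP (LK LD1_c4 LD2_c2 LD3_c26)))))))))))))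
theorem f175304 : Led Lsl_bt (LP (LK LD1_c1 LD2_c11 LD3_c10)) = (LP (LK LD1_c2 LD2_c28 LD3_c0)) :=
  Lre_b IH (LK LD1_c1 LD2_c11 LD3_c10) (LK LD1_c2 LD2_c28 LD3_c0) Lrfl Lrfl
theorem f175289 : Led Lsl_ef (LP (LK LD1_c1 LD2_c11 LD3_c10)) = (LP (LK LD1_c0 LD2_c40 LD3_c54)) :=
  Lgr Lrot88 (Lpr_et (K9.f175286 IH) (Lpn (LP (LK LD1_c0 LD2_c40 LD3_c54))))
theorem f175829 : Led Lsl_bt (LP (LK LD1_c1 LD2_c20 LD3_c37)) = (LP (LK LD1_c0 LD2_c40 LD3_c54)) :=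
  Lgr Lrot119 (Lpr_ef (f175827 IH) (Lpe (f175304 IH) (Lpr_ef (f175289 IH) (Lpn (LP (LK LD1_c0 LD2_c40 LD3_c54))))))
theorem f60441 : Led Lsl_bt (LP (LK LD1_c0 LD2_c40 LD3_c51)) = (LP (LK LD1_c0 LD2_c18 LD3_c19)) :=
  Lre_b IH (LK LD1_c0 LD2_c40 LD3_c51) (LK LD1_c0 LD2_c18 LD3_c19) Lrfl Lrfl
theorem f37240 : Led Lsl_ct (LP (LK LD1_c1 LD2_c27 LD3_c61)) = (LP (LK LD1_c3 LD2_c3 LD3_c56)) :=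
  Lre_c IH (LK LD1_c1 LD2_c27 LD3_c61) (LK LD1_c3 LD2_c3 LD3_c56) Lrfl Lrfl
theorem f197823 : Led Lsl_gf (LP (LK LD1_c1 LD2_c28 LD3_c5)) = (LP (LK LD1_c3 LD2_c3 LD3_c56)) :=
  Lgr Lrot129 (Lpr_cf (K1.f60446 IH) (Lpr_bt (f60441 IH) (Lpr_gt (K9.f60459 IH) (Lpe (f175829 IH) (Lpr_ct (f175831 IH) (Lpr_gt (f197819 IH) (Lpe (K2.f69777 IH) (Lpr_bt (K9.f69770 IH) (Lpr_gt (f69811 IH) (Lpr_ct (f37240 IH) (Lpn (LP (LK LD1_c3 LD2_c3 LD3_c56)))))))))))))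
theorem f60242 : Led Lsl_ft (LP (LK LD1_c2 LD2_c49 LD3_c2)) = (LP (LK LD1_c1 LD2_c20 LD3_c36)) :=
  Lre_f IH (LK LD1_c2 LD2_c49 LD3_c2) (LK LD1_c1 LD2_c20 LD3_c36) Lrfl Lrfl
theorem f197825 : Led Lsl_gt (LP (LK LD1_c2 LD2_c49 LD3_c2)) = (LP (LK LD1_c3 LD2_c3 LD3_c56)) :=
  Lgr Lrot5 (Lpr_ft (f60242 IH) (Lpe (K2.f60632 IH) (Lpr_gf (f197823 IH) (Lpn (LP (LK LD1_c3 LD2_c3 LD3_c56))))))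
theorem f60293 : Led Lsl_dt (LP (LK LD1_c2 LD2_c49 LD3_c2)) = (LP (LK LD1_c5 LD2_c46 LD3_c43)) :=
  Lre_d IH (LK LD1_c2 LD2_c49 LD3_c2) (LK LD1_c5 LD2_c46 LD3_c43) Lrfl Lrfl
theorem f80440 : Led Lsl_dt (LP (LK LD1_c0 LD2_c55 LD3_c21)) = (LP (LK LD1_c1 LD2_c2 LD3_c16)) :=
  Lgr Lrot27 (Lpe (K4.f80437 IH) (Lpr_gf (K4.f80351 IH) (Lpe (K1.f37184 IH) (Lpr_gf (K1.f59330 IH) (Lpe (K1.f37906 IH) (Lpr_gt (K4.f59250 IH) (Lpe (K4.f59707 IH) (Lpr_gt (K1.f35824 IH) (Lpe (K4.f70551 IH) (Lpn (LP (LK LD1_c1 LD2_c2 LD3_c16))))))))))))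
theorem f38045 : Led Lsl_et (LP (LK LD1_c0 LD2_c12 LD3_c32)) = (LP (LK LD1_c0 LD2_c28 LD3_c11)) :=
  Lre_e IH (LK LD1_c0 LD2_c12 LD3_c32) (LK LD1_c0 LD2_c28 LD3_c11) Lrfl Lrfl
theorem f39202 : Led Lsl_gt (LP (LK LD1_c0 LD2_c28 LD3_c11)) = (LP (LK LD1_c1 LD2_c1 LD3_c42)) :=
  Lre_g IH (LK LD1_c0 LD2_c28 LD3_c11) (LK LD1_c1 LD2_c1 LD3_c42) Lrfl Lrfl
theorem f39211 : Led Lsl_et (LP (LK LD1_c2 LD2_c9 LD3_c2)) = (LP (LK LD1_c1 LD2_c1 LD3_c42)) :=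
  Lre_e IH (LK LD1_c2 LD2_c9 LD3_c2) (LK LD1_c1 LD2_c1 LD3_c42) Lrfl Lrfl
theorem f39212 : Led Lsl_dt (LP (LK LD1_c2 LD2_c9 LD3_c2)) = (LP (LK LD1_c4 LD2_c23 LD3_c10)) :=
  Lre_d IH (LK LD1_c2 LD2_c9 LD3_c2) (LK LD1_c4 LD2_c23 LD3_c10) Lrfl Lrfl
theorem f56471 : Led Lsl_et (LP (LK LD1_c1 LD2_c28 LD3_c5)) = (LP (LK LD1_c0 LD2_c40 LD3_c44)) :=
  Lre_e IH (LK LD1_c1 LD2_c28 LD3_c5) (LK LD1_c0 LD2_c40 LD3_c44) Lrfl Lrfl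
theorem f80554 : Led Lsl_gt (LP (LK LD1_c4 LD2_c23 LD3_c10)) = (LP (LK LD1_c3 LD2_c4 LD3_c5)) :=
  Lgr Lrot112 (Lpe (f39212 IH) (Lpr_et (f39211 IH) (Lpe (f39202 IH) (Lpe (f38045 IH) (Lpr_dt (K0.f16621 IH) (Lpe (K4.f38011 IH) (Lpe (f80440 IH) (Lpr_gf (K8.f80547 IH) (Lpe (f56471 IH) (Lpr_dt (K1.f60449 IH) (Lpn (LP (LK LD1_c3 LD2_c4 LD3_c5)))))))))))))
theorem f80605 : Led Lsl_gf (LP (LK LD1_c4 LD2_c23 LD3_c10)) = (LP (LK LD1_c5 LD2_c46 LD3_c43)) :=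
  Lgr Lrot47 (Lpr_gt (f80554 IH) (Lpr_af (K1.f60501 IH) (Lpe (K1.f60500 IH) (Lpn (LP (LK LD1_c5 LD2_c46 LD3_c43))))))
theorem f80607 : Led Lsl_ct (LP (LK LD1_c4 LD2_c23 LD3_c10)) = (LP (LK LD1_c8 LD2_c44 LD3_c4)) :=
  Lre_c IH (LK LD1_c4 LD2_c23 LD3_c10) (LK LD1_c8 LD2_c44 LD3_c4) Lrfl Lrfl
theorem f37242 : Led Lsl_ct (LP (LK LD1_c3 LD2_c3 LD3_c56)) = (LP (LK LD1_c1 LD2_c27 LD3_c61)) :=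
  Lre_c IH (LK LD1_c3 LD2_c3 LD3_c56) (LK LD1_c1 LD2_c27 LD3_c61) Lrfl Lrfl
theorem f37176 : Led Lsl_ct (LP (LK LD1_c0 LD2_c40 LD3_c42)) = (LP (LK LD1_c1 LD2_c27 LD3_c59)) :=
  Lre_c IH (LK LD1_c0 LD2_c40 LD3_c42) (LK LD1_c1 LD2_c27 LD3_c59) Lrfl Lrfl
theorem f197840 : Led Lsl_gt (LP (LK LD1_c8 LD2_c44 LD3_c4)) = (LP (LK LD1_c6 LD2_c14 LD3_c1)) :=
  Lgr Lrot150 (Lpe (f80607 IH) (Lpr_gf (f80605 IH) (Lpe (f60293 IH) (Lpr_gt (f197825 IH) (Lpr_ct (f37242 IH) (Lpr_gt (f37182 IH) (Lpr_ct (f37176 IH) (Lpe (K2.f37173 IH) (Lpe (K2.f37232 IH) (Lpn (LP (LK LD1_c6 LD2_c14 LD3_c1))))))))))))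
theorem f70112 : Led Lsl_af (LP (LK LD1_c6 LD2_c14 LD3_c1)) = (LP (LK LD1_c8 LD2_c45 LD3_c33)) :=
  Lgr Lrot68 (Lpr_ct (K2.f37232 IH) (Lpr_at (K2.f69999 IH) (Lpr_ct (K2.f69946 IH) (Lpn (LP (LK LD1_c8 LD2_c45 LD3_c33))))))
theorem f69958 : Led Lsl_ft (LP (LK LD1_c12 LD2_c6 LD3_c42)) = (LP (LK LD1_c6 LD2_c14 LD3_c1)) :=
  Lre_f IH (LK LD1_c12 LD2_c6 LD3_c42) (LK LD1_c6 LD2_c14 LD3_c1) Lrfl Lrfl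
theorem f69959 : Led Lsl_ft (LP (LK LD1_c12 LD2_c6 LD3_c41)) = (LP (LK LD1_c8 LD2_c45 LD3_c33)) :=
  Lgr Lrot54 (Lpe (K2.f37236 IH) (Lpe (f69958 IH) (Lpr_df (K2.f69947 IH) (Lpn (LP (LK LD1_c8 LD2_c45 LD3_c33))))))
theorem f197847 : Led Lsl_gf (LP (LK LD1_c8 LD2_c44 LD3_c4)) = (LP (LK LD1_c12 LD2_c6 LD3_c41)) :=
  Lgr Lrot47 (Lpr_gt (f197840 IH) (Lpr_af (f70112 IH) (Lpe (f69959 IH) (Lpn (LP (LK LD1_c12 LD2_c6 LD3_c41))))))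
theorem f80608 : Led Lsl_ct (LP (LK LD1_c8 LD2_c44 LD3_c4)) = (LP (LK LD1_c4 LD2_c23 LD3_c10)) :=
  Lre_c IH (LK LD1_c8 LD2_c44 LD3_c4) (LK LD1_c4 LD2_c23 LD3_c10) Lrfl Lrfl
theorem f60503 : Led Lsl_gt (LP (LK LD1_c3 LD2_c4 LD3_c5)) = (LP (LK LD1_c6 LD2_c14 LD3_c26)) :=
  Lre_g IH (LK LD1_c3 LD2_c4 LD3_c5) (LK LD1_c6 LD2_c14 LD3_c26) Lrfl Lrfl
theorem f60504 : Led Lsl_gt (LP (LK LD1_c6 LD2_c14 LD3_c26)) = (LP (LK LD1_c5 LD2_c46 LD3_c43)) :=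
  Lgr Lrot46 (Lpe (f60503 IH) (Lpr_ft (K1.f60451 IH) (Lpr_at (K1.f60489 IH) (Lpn (LP (LK LD1_c5 LD2_c46 LD3_c43))))))
theorem f69841 : Led Lsl_gt (LP (LK LD1_c6 LD2_c14 LD3_c1)) = (LP (LK LD1_c12 LD2_c6 LD3_c39)) :=
  Lre_g IH (LK LD1_c6 LD2_c14 LD3_c1) (LK LD1_c12 LD2_c6 LD3_c39) Lrfl Lrfl
theorem f197852 : Led Lsl_cf (LP (LK LD1_c6 LD2_c14 LD3_c26)) = (LP (LK LD1_c12 LD2_c6 LD3_c39)) :=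
  Lgr Lrot169 (Lpr_gt (f60504 IH) (Lpr_ct (K1.f60480 IH) (Lpe (K1.f60473 IH) (Lpe (K1.f60450 IH) (Lpe (f80554 IH) (Lpe (f80608 IH) (Lpr_gf (f197847 IH) (Lpe (K2.f37236 IH) (Lpr_gt (f69841 IH) (Lpn (LP (LK LD1_c12 LD2_c6 LD3_c39))))))))))))
theorem f197809 : Led Lsl_dt (LP (LK LD1_c3 LD2_c3 LD3_c56)) = (LP (LK LD1_c6 LD2_c14 LD3_c7)) :=
  Lre_d IH (LK LD1_c3 LD2_c3 LD3_c56) (LK LD1_c6 LD2_c14 LD3_c7) Lrfl Lrfl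
theorem f197810 : Led Lsl_ct (LP (LK LD1_c6 LD2_c14 LD3_c7)) = (LP (LK LD1_c12 LD2_c6 LD3_c47)) :=
  Lre_c IH (LK LD1_c6 LD2_c14 LD3_c7) (LK LD1_c12 LD2_c6 LD3_c47) Lrfl Lrfl
theorem f69842 : Led Lsl_gt (LP (LK LD1_c12 LD2_c6 LD3_c39)) = (LP (LK LD1_c12 LD2_c6 LD3_c41)) :=
  Lgr Lrot46 (Lpe (f69841 IH) (Lpr_ft (K2.f69827 IH) (Lpr_at (K2.f69828 IH) (Lpn (LP (LK LD1_c12 LD2_c6 LD3_c41))))))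
theorem f197856 : Led Lsl_df (LP (LK LD1_c12 LD2_c6 LD3_c47)) = (LP (LK LD1_c12 LD2_c6 LD3_c39)) :=
  Lgr Lrot84 (Lpe (f197810 IH) (Lpe (f197809 IH) (Lpe (f197825 IH) (Lpe (K1.f60204 IH) (Lpe (f60504 IH) (Lpr_cf (f197852 IH) (Lpr_gt (f69842 IH) (Lpr_dt (K2.f37233 IH) (Lpr_gt (f69841 IH) (Lpn (LP (LK LD1_c12 LD2_c6 LD3_c39))))))))))))
theorem f197816 : Led Lsl_ct (LP (LK LD1_c12 LD2_c6 LD3_c47)) = (LP (LK LD1_c6 LD2_c14 LD3_c7)) :=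
  Lre_c IH (LK LD1_c12 LD2_c6 LD3_c47) (LK LD1_c6 LD2_c14 LD3_c7) Lrfl Lrfl
theorem f197813 : Led Lsl_dt (LP (LK LD1_c6 LD2_c14 LD3_c7)) = (LP (LK LD1_c3 LD2_c3 LD3_c56)) :=
  Lre_d IH (LK LD1_c6 LD2_c14 LD3_c7) (LK LD1_c3 LD2_c3 LD3_c56) Lrfl Lrfl
theorem f181441 : Led Lsl_bf (LP (LK LD1_c0 LD2_c39 LD3_c27)) = (LP (LK LD1_c0 LD2_c39 LD3_c27)) :=
  Lgr Lrot96 (Lpr_et (K9.f20637 IH) (Lpr_bt (f181435 IH) (Lpr_et (K9.f20730 IH) (Lpn (LP (LK LD1_c0 LD2_c39 LD3_c27))))))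
theorem f181443 : Led Lsl_bt (LP (LK LD1_c0 LD2_c29 LD3_c3)) = (LP (LK LD1_c0 LD2_c29 LD3_c3)) :=
  Lgr Lrot95 (Lpr_df (K9.f20761 IH) (Lpr_bf (f181441 IH) (Lpe (K9.f20638 IH) (Lpn (LP (LK LD1_c0 LD2_c29 LD3_c3))))))
theorem f20759 : Led Lsl_ct (LP (LK LD1_c1 LD2_c3 LD3_c36)) = (LP (LK LD1_c0 LD2_c29 LD3_c3)) :=
  Lre_c IH (LK LD1_c1 LD2_c3 LD3_c36) (LK LD1_c0 LD2_c29 LD3_c3) Lrfl Lrfl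
theorem f181445 : Led Lsl_bt (LP (LK LD1_c2 LD2_c13 LD3_c2)) = (LP (LK LD1_c1 LD2_c3 LD3_c36)) :=
  Lre_b IH (LK LD1_c2 LD2_c13 LD3_c2) (LK LD1_c1 LD2_c3 LD3_c36) Lrfl Lrfl
theorem f20778 : Led Lsl_ct (LP (LK LD1_c0 LD2_c29 LD3_c3)) = (LP (LK LD1_c1 LD2_c3 LD3_c36)) :=
  Lre_c IH (LK LD1_c0 LD2_c29 LD3_c3) (LK LD1_c1 LD2_c3 LD3_c36) Lrfl Lrfl
theorem f20780 : Led Lsl_bt (LP (LK LD1_c1 LD2_c3 LD3_c36)) = (LP (LK LD1_c2 LD2_c13 LD3_c2)) :=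
  Lre_b IH (LK LD1_c1 LD2_c3 LD3_c36) (LK LD1_c2 LD2_c13 LD3_c2) Lrfl Lrfl
theorem f181446 : Led Lsl_cf (LP (LK LD1_c2 LD2_c13 LD3_c2)) = (LP (LK LD1_c2 LD2_c13 LD3_c2)) :=
  Lgr Lrot97 (Lpr_bt (f181445 IH) (Lpr_ct (f20759 IH) (Lpr_bt (f181443 IH) (Lpr_ct (f20778 IH) (Lpr_bt (f20780 IH) (Lpn (LP (LK LD1_c2 LD2_c13 LD3_c2))))))))
theorem f181458 : Led Lsl_et (LP (LK LD1_c2 LD2_c13 LD3_c2)) = (LP (LK LD1_c1 LD2_c3 LD3_c34)) :=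
  Lre_e IH (LK LD1_c2 LD2_c13 LD3_c2) (LK LD1_c1 LD2_c3 LD3_c34) Lrfl Lrfl
theorem f181459 : Led Lsl_et (LP (LK LD1_c1 LD2_c3 LD3_c34)) = (LP (LK LD1_c2 LD2_c13 LD3_c2)) :=
  Lre_e IH (LK LD1_c1 LD2_c3 LD3_c34) (LK LD1_c2 LD2_c13 LD3_c2) Lrfl Lrfl
theorem f181460 : Led Lsl_ct (LP (LK LD1_c1 LD2_c3 LD3_c34)) = (LP (LK LD1_c1 LD2_c3 LD3_c34)) :=
  Lgr Lrot15 (Lpe (f181458 IH) (Lpr_cf (f181446 IH) (Lpe (f181459 IH) (Lpn (LP (LK LD1_c1 LD2_c3 LD3_c34))))))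
theorem f174895 : Led Lsl_bt (LP (LK LD1_c1 LD2_c3 LD3_c34)) = (LP (LK LD1_c0 LD2_c29 LD3_c2)) :=
  Lre_b IH (LK LD1_c1 LD2_c3 LD3_c34) (LK LD1_c0 LD2_c29 LD3_c2) Lrfl Lrfl
theorem f174955 : Led Lsl_bt (LP (LK LD1_c0 LD2_c16 LD3_c30)) = (LP (LK LD1_c0 LD2_c36 LD3_c59)) :=
  Lre_b IH (LK LD1_c0 LD2_c16 LD3_c30) (LK LD1_c0 LD2_c36 LD3_c59) Lrfl Lrfl
theorem f174963 : Led Lsl_gt (LP (LK LD1_c0 LD2_c36 LD3_c59)) = (LP (LK LD1_c1 LD2_c19 LD3_c48)) :=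
  Lre_g IH (LK LD1_c0 LD2_c36 LD3_c59) (LK LD1_c1 LD2_c19 LD3_c48) Lrfl Lrfl
theorem f181468 : Led Lsl_bt (LP (LK LD1_c2 LD2_c46 LD3_c42)) = (LP (LK LD1_c1 LD2_c19 LD3_c48)) :=
  Lre_b IH (LK LD1_c2 LD2_c46 LD3_c42) (LK LD1_c1 LD2_c19 LD3_c48) Lrfl Lrfl
theorem f174831 : Led Lsl_gt (LP (LK LD1_c2 LD2_c12 LD3_c61)) = (LP (LK LD1_c1 LD2_c3 LD3_c34)) :=
  Lre_g IH (LK LD1_c2 LD2_c12 LD3_c61) (LK LD1_c1 LD2_c3 LD3_c34) Lrfl Lrfl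
theorem f181469 : Led Lsl_ct (LP (LK LD1_c2 LD2_c46 LD3_c42)) = (LP (LK LD1_c2 LD2_c12 LD3_c61)) :=
  Lgr Lrot64 (Lpr_bt (f181468 IH) (Lpe (f174963 IH) (Lpe (f174955 IH) (Lpe (K9.f174957 IH) (Lpe (K9.f53310 IH) (Lpe (K1.f40854 IH) (Lpr_gf (K9.f174886 IH) (Lpe (f174895 IH) (Lpr_ct (f181460 IH) (Lpe (f174831 IH) (Lpn (LP (LK LD1_c2 LD2_c12 LD3_c61)))))))))))))
theorem f181534 : Led Lsl_cf (LP (LK LD1_c2 LD2_c46 LD3_c42)) = (LP (LK LD1_c2 LD2_c12 LD3_c61)) :=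
  Lgr Lrot11 (Lpr_ct (f181469 IH) (Lpn (LP (LK LD1_c2 LD2_c12 LD3_c61))))
theorem f181480 : Led Lsl_ct (LP (LK LD1_c1 LD2_c19 LD3_c48)) = (LP (LK LD1_c2 LD2_c46 LD3_c43)) :=
  Lre_c IH (LK LD1_c1 LD2_c19 LD3_c48) (LK LD1_c2 LD2_c46 LD3_c43) Lrfl Lrfl
theorem f174840 : Led Lsl_bt (LP (LK LD1_c4 LD2_c31 LD3_c57)) = (LP (LK LD1_c2 LD2_c12 LD3_c61)) :=
  Lre_b IH (LK LD1_c4 LD2_c31 LD3_c57) (LK LD1_c2 LD2_c12 LD3_c61) Lrfl Lrfl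
theorem f174812 : Led Lsl_ct (LP (LK LD1_c4 LD2_c32 LD3_c53)) = (LP (LK LD1_c4 LD2_c31 LD3_c57)) :=
  Lre_c IH (LK LD1_c4 LD2_c32 LD3_c53) (LK LD1_c4 LD2_c31 LD3_c57) Lrfl Lrfl
theorem f181549 : Led Lsl_bt (LP (LK LD1_c2 LD2_c46 LD3_c43)) = (LP (LK LD1_c4 LD2_c32 LD3_c53)) :=
  Lgr Lrot128 (Lpe (f181480 IH) (Lpe (f181468 IH) (Lpr_cf (f181534 IH) (Lpe (f174840 IH) (Lpe (f174812 IH) (Lpn (LP (LK LD1_c4 LD2_c32 LD3_c53))))))))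
theorem f181497 : Led Lsl_ct (LP (LK LD1_c2 LD2_c46 LD3_c43)) = (LP (LK LD1_c1 LD2_c19 LD3_c48)) :=
  Lre_c IH (LK LD1_c2 LD2_c46 LD3_c43) (LK LD1_c1 LD2_c19 LD3_c48) Lrfl Lrfl
theorem f181558 : Led Lsl_ct (LP (LK LD1_c1 LD2_c19 LD3_c51)) = (LP (LK LD1_c0 LD2_c36 LD3_c59)) :=
  Lre_c IH (LK LD1_c1 LD2_c19 LD3_c51) (LK LD1_c0 LD2_c36 LD3_c59) Lrfl Lrfl
theorem f181554 : Led Lsl_gt (LP (LK LD1_c4 LD2_c32 LD3_c53)) = (LP (LK LD1_c2 LD2_c13 LD3_c29)) :=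
  Lre_g IH (LK LD1_c4 LD2_c32 LD3_c53) (LK LD1_c2 LD2_c13 LD3_c29) Lrfl Lrfl
theorem f181561 : Led Lsl_ct (LP (LK LD1_c2 LD2_c13 LD3_c29)) = (LP (LK LD1_c1 LD2_c3 LD3_c46)) :=
  Lre_c IH (LK LD1_c2 LD2_c13 LD3_c29) (LK LD1_c1 LD2_c3 LD3_c46) Lrfl Lrfl
theorem f80213 : Led Lsl_gt (LP (LK LD1_c1 LD2_c3 LD3_c46)) = (LP (LK LD1_c0 LD2_c29 LD3_c6)) :=
  Lre_g IH (LK LD1_c1 LD2_c3 LD3_c46) (LK LD1_c0 LD2_c29 LD3_c6) Lrfl Lrfl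
theorem f174449 : Led Lsl_ct (LP (LK LD1_c1 LD2_c1 LD3_c44)) = (LP (LK LD1_c0 LD2_c29 LD3_c6)) :=
  Lre_c IH (LK LD1_c1 LD2_c1 LD3_c44) (LK LD1_c0 LD2_c29 LD3_c6) Lrfl Lrfl
theorem f40107 : Led Lsl_bt (LP (LK LD1_c1 LD2_c1 LD3_c44)) = (LP (LK LD1_c0 LD2_c28 LD3_c11)) :=
  Lre_b IH (LK LD1_c1 LD2_c1 LD3_c44) (LK LD1_c0 LD2_c28 LD3_c11) Lrfl Lrfl
theorem f181562 : Led Lsl_bt (LP (LK LD1_c1 LD2_c19 LD3_c51)) = (LP (LK LD1_c1 LD2_c1 LD3_c42)) :=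
  Lgr Lrot92 (Lpr_ct (f181558 IH) (Lpr_gt (f174963 IH) (Lpe (f181497 IH) (Lpr_bt (f181549 IH) (Lpr_gt (f181554 IH) (Lpr_ct (f181561 IH) (Lpr_gt (f80213 IH) (Lpe (f174449 IH) (Lpr_bt (f40107 IH) (Lpr_gt (f39202 IH) (Lpn (LP (LK LD1_c1 LD2_c1 LD3_c42)))))))))))))
theorem f181573 : Led Lsl_et (LP (LK LD1_c2 LD2_c46 LD3_c54)) = (LP (LK LD1_c1 LD2_c19 LD3_c51)) :=
  Lre_e IH (LK LD1_c2 LD2_c46 LD3_c54) (LK LD1_c1 LD2_c19 LD3_c51) Lrfl Lrfl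
theorem f80977 : Led Lsl_et (LP (LK LD1_c1 LD2_c1 LD3_c42)) = (LP (LK LD1_c2 LD2_c9 LD3_c2)) :=
  Lre_e IH (LK LD1_c1 LD2_c1 LD3_c42) (LK LD1_c2 LD2_c9 LD3_c2) Lrfl Lrfl
theorem f181574 : Led Lsl_bf (LP (LK LD1_c2 LD2_c46 LD3_c54)) = (LP (LK LD1_c2 LD2_c9 LD3_c2)) :=
  Lgr Lrot96 (Lpr_et (f181573 IH) (Lpr_bt (f181562 IH) (Lpr_et (f80977 IH) (Lpn (LP (LK LD1_c2 LD2_c9 LD3_c2))))))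
theorem f181580 : Led Lsl_ct (LP (LK LD1_c2 LD2_c46 LD3_c54)) = (LP (LK LD1_c1 LD2_c19 LD3_c53)) :=
  Lre_c IH (LK LD1_c2 LD2_c46 LD3_c54) (LK LD1_c1 LD2_c19 LD3_c53) Lrfl Lrfl
theorem f68719 : Led Lsl_bt (LP (LK LD1_c1 LD2_c19 LD3_c53)) = (LP (LK LD1_c0 LD2_c36 LD3_c61)) :=
  Lre_b IH (LK LD1_c1 LD2_c19 LD3_c53) (LK LD1_c0 LD2_c36 LD3_c61) Lrfl Lrfl
theorem f161789 : Led Lsl_bt (LP (LK LD1_c0 LD2_c32 LD3_c39)) = (LP (LK LD1_c1 LD2_c10 LD3_c26)) :=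
  Lre_b IH (LK LD1_c0 LD2_c32 LD3_c39) (LK LD1_c1 LD2_c10 LD3_c26) Lrfl Lrfl
theorem f181581 : Led Lsl_ct (LP (LK LD1_c1 LD2_c10 LD3_c26)) = (LP (LK LD1_c2 LD2_c9 LD3_c2)) :=
  Lgr Lrot83 (Lpe (f161789 IH) (Lpr_cf (f174959 IH) (Lpe (f68719 IH) (Lpe (f181580 IH) (Lpr_bf (f181574 IH) (Lpn (LP (LK LD1_c2 LD2_c9 LD3_c2))))))))
theorem f197854 : Led Lsl_ct (LP (LK LD1_c6 LD2_c14 LD3_c26)) = (LP (LK LD1_c12 LD2_c6 LD3_c39)) :=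
  Lgr Lrot59 (Lpr_cf (f197852 IH) (Lpn (LP (LK LD1_c12 LD2_c6 LD3_c39))))
theorem f37179 : Led Lsl_gt (LP (LK LD1_c0 LD2_c40 LD3_c42)) = (LP (LK LD1_c1 LD2_c27 LD3_c60)) :=
  Lre_g IH (LK LD1_c0 LD2_c40 LD3_c42) (LK LD1_c1 LD2_c27 LD3_c60) Lrfl Lrfl
theorem f37180 : Led Lsl_dt (LP (LK LD1_c1 LD2_c27 LD3_c60)) = (LP (LK LD1_c3 LD2_c3 LD3_c54)) :=
  Lre_d IH (LK LD1_c1 LD2_c27 LD3_c60) (LK LD1_c3 LD2_c3 LD3_c54) Lrfl Lrfl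
theorem f37241 : Led Lsl_ct (LP (LK LD1_c6 LD2_c14 LD3_c6)) = (LP (LK LD1_c3 LD2_c3 LD3_c54)) :=
  Lre_c IH (LK LD1_c6 LD2_c14 LD3_c6) (LK LD1_c3 LD2_c3 LD3_c54) Lrfl Lrfl
theorem f197827 : Led Lsl_dt (LP (LK LD1_c6 LD2_c14 LD3_c26)) = (LP (LK LD1_c6 LD2_c14 LD3_c6)) :=
  Lgr Lrot105 (Lpe (f60503 IH) (Lpe (K1.f60449 IH) (Lpr_gf (f197823 IH) (Lpe (f37240 IH) (Lpr_gt (f37182 IH) (Lpr_dt (K1.f37188 IH) (Lpr_gt (f37179 IH) (Lpr_dt (f37180 IH) (Lpe (f37241 IH) (Lpn (LP (LK LD1_c6 LD2_c14 LD3_c6))))))))))))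
theorem f197835 : Led Lsl_df (LP (LK LD1_c6 LD2_c14 LD3_c26)) = (LP (LK LD1_c6 LD2_c14 LD3_c6)) :=
  Lgr Lrot38 (Lpr_dt (f197827 IH) (Lpn (LP (LK LD1_c6 LD2_c14 LD3_c6))))
theorem f37181 : Led Lsl_ct (LP (LK LD1_c3 LD2_c3 LD3_c54)) = (LP (LK LD1_c6 LD2_c14 LD3_c6)) :=
  Lre_c IH (LK LD1_c3 LD2_c3 LD3_c54) (LK LD1_c6 LD2_c14 LD3_c6) Lrfl Lrfl
theorem f197837 : Led Lsl_ct (LP (LK LD1_c3 LD2_c3 LD3_c53)) = (LP (LK LD1_c1 LD2_c27 LD3_c60)) :=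
  Lre_c IH (LK LD1_c3 LD2_c3 LD3_c53) (LK LD1_c1 LD2_c27 LD3_c60) Lrfl Lrfl
theorem f197838 : Led Lsl_dt (LP (LK LD1_c6 LD2_c14 LD3_c4)) = (LP (LK LD1_c3 LD2_c3 LD3_c53)) :=
  Lre_d IH (LK LD1_c6 LD2_c14 LD3_c4) (LK LD1_c3 LD2_c3 LD3_c53) Lrfl Lrfl
theorem f197839 : Led Lsl_ct (LP (LK LD1_c12 LD2_c6 LD3_c45)) = (LP (LK LD1_c6 LD2_c14 LD3_c4)) :=
  Lre_c IH (LK LD1_c12 LD2_c6 LD3_c45) (LK LD1_c6 LD2_c14 LD3_c4) Lrfl Lrfl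
theorem f197861 : Led Lsl_dt (LP (LK LD1_c8 LD2_c44 LD3_c4)) = (LP (LK LD1_c12 LD2_c6 LD3_c45)) :=
  Lgr Lrot173 (Lpe (f80607 IH) (Lpe (f39212 IH) (Lpe (f181581 IH) (Lpr_df (f197811 IH) (Lpe (f37242 IH) (Lpe (f197813 IH) (Lpe (f197816 IH) (Lpr_df (f197856 IH) (Lpe (f197854 IH) (Lpr_df (f197835 IH) (Lpe (f37181 IH) (Lpe (f37180 IH) (Lpe (f197837 IH) (Lpe (f197838 IH) (Lpe (f197839 IH) (Lpn (LP (LK LD1_c12 LD2_c6 LD3_c45))))))))))))))))))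
theorem f197834 : Led Lsl_ct (LP (LK LD1_c6 LD2_c14 LD3_c4)) = (LP (LK LD1_c12 LD2_c6 LD3_c45)) :=
  Lre_c IH (LK LD1_c6 LD2_c14 LD3_c4) (LK LD1_c12 LD2_c6 LD3_c45) Lrfl Lrfl
theorem f197833 : Led Lsl_dt (LP (LK LD1_c3 LD2_c3 LD3_c53)) = (LP (LK LD1_c6 LD2_c14 LD3_c4)) :=
  Lre_d IH (LK LD1_c3 LD2_c3 LD3_c53) (LK LD1_c6 LD2_c14 LD3_c4) Lrfl Lrfl
theorem f197903 : Led Lsl_gt (LP (LK LD1_c1 LD2_c28 LD3_c5)) = (LP (LK LD1_c3 LD2_c3 LD3_c53)) :=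
  Lgr Lrot49 (Lpe (K1.f38658 IH) (Lpe (f80554 IH) (Lpe (f80608 IH) (Lpr_gt (f197840 IH) (Lpr_dt (K2.f37236 IH) (Lpe (f197847 IH) (Lpr_dt (f197861 IH) (Lpe (f197834 IH) (Lpe (f197833 IH) (Lpn (LP (LK LD1_c3 LD2_c3 LD3_c53))))))))))))
theorem f193775 : Led Lsl_bf (LP (LK LD1_c1 LD2_c28 LD3_c22)) = (LP (LK LD1_c1 LD2_c5 LD3_c46)) :=
  Lgr Lrot24 (Lpr_bt (f193772 IH) (Lpn (LP (LK LD1_c1 LD2_c5 LD3_c46))))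
theorem f37183 : Led Lsl_ct (LP (LK LD1_c1 LD2_c27 LD3_c60)) = (LP (LK LD1_c3 LD2_c3 LD3_c53)) :=
  Lre_c IH (LK LD1_c1 LD2_c27 LD3_c60) (LK LD1_c3 LD2_c3 LD3_c53) Lrfl Lrfl
theorem f197913 : Led Lsl_bf (LP (LK LD1_c1 LD2_c28 LD3_c21)) = (LP (LK LD1_c1 LD2_c27 LD3_c60)) :=
  Lgr Lrot156 (Lpe (K9.f181418 IH) (Lpe (f60135 IH) (Lpr_ct (K9.f59927 IH) (Lpe (f60126 IH) (Lpe (f193972 IH) (Lpe (f193775 IH) (Lpr_gt (K9.f60454 IH) (Lpe (K1.f60446 IH) (Lpr_gt (f197903 IH) (Lpe (f37183 IH) (Lpn (LP (LK LD1_c1 LD2_c27 LD3_c60)))))))))))))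
theorem f60453 : Led Lsl_dt (LP (LK LD1_c1 LD2_c28 LD3_c21)) = (LP (LK LD1_c3 LD2_c4 LD3_c40)) :=
  Lre_d IH (LK LD1_c1 LD2_c28 LD3_c21) (LK LD1_c3 LD2_c4 LD3_c40) Lrfl Lrfl
theorem f37202 : Led Lsl_dt (LP (LK LD1_c3 LD2_c3 LD3_c54)) = (LP (LK LD1_c1 LD2_c27 LD3_c60)) :=
  Lre_d IH (LK LD1_c3 LD2_c3 LD3_c54) (LK LD1_c1 LD2_c27 LD3_c60) Lrfl Lrfl
theorem f197987 : Led Lsl_bt (LP (LK LD1_c3 LD2_c4 LD3_c40)) = (LP (LK LD1_c3 LD2_c3 LD3_c54)) :=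
  Lgr Lrot95 (Lpe (f60453 IH) (Lpr_bf (f197913 IH) (Lpe (f37202 IH) (Lpn (LP (LK LD1_c3 LD2_c3 LD3_c54))))))
theorem f198232 : Led Lsl_bf (LP (LK LD1_c3 LD2_c4 LD3_c40)) = (LP (LK LD1_c3 LD2_c3 LD3_c54)) :=
  Lgr Lrot24 (Lpr_bt (f197987 IH) (Lpn (LP (LK LD1_c3 LD2_c3 LD3_c54))))
theorem f60200 : Led Lsl_ct (LP (LK LD1_c1 LD2_c20 LD3_c39)) = (LP (LK LD1_c2 LD2_c49 LD3_c2)) :=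
  Lre_c IH (LK LD1_c1 LD2_c20 LD3_c39) (LK LD1_c2 LD2_c49 LD3_c2) Lrfl Lrfl
theorem f181586 : Led Lsl_ft (LP (LK LD1_c2 LD2_c46 LD3_c54)) = (LP (LK LD1_c5 LD2_c41 LD3_c46)) :=
  Lre_f IH (LK LD1_c2 LD2_c46 LD3_c54) (LK LD1_c5 LD2_c41 LD3_c46) Lrfl Lrfl
theorem f181587 : Led Lsl_ft (LP (LK LD1_c4 LD2_c23 LD3_c11)) = (LP (LK LD1_c2 LD2_c9 LD3_c2)) :=
  Lre_f IH (LK LD1_c4 LD2_c23 LD3_c11) (LK LD1_c2 LD2_c9 LD3_c2) Lrfl Lrfl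
theorem f181588 : Led Lsl_bt (LP (LK LD1_c5 LD2_c41 LD3_c46)) = (LP (LK LD1_c4 LD2_c23 LD3_c11)) :=
  Lgr Lrot35 (Lpe (f181586 IH) (Lpr_bf (f181574 IH) (Lpe (f181587 IH) (Lpn (LP (LK LD1_c4 LD2_c23 LD3_c11))))))
theorem f175494 : Led Lsl_ct (LP (LK LD1_c2 LD2_c46 LD3_c61)) = (LP (LK LD1_c5 LD2_c41 LD3_c46)) :=
  Lre_c IH (LK LD1_c2 LD2_c46 LD3_c61) (LK LD1_c5 LD2_c41 LD3_c46) Lrfl Lrfl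
theorem f175492 : Led Lsl_bt (LP (LK LD1_c1 LD2_c19 LD3_c58)) = (LP (LK LD1_c2 LD2_c46 LD3_c61)) :=
  Lre_b IH (LK LD1_c1 LD2_c19 LD3_c58) (LK LD1_c2 LD2_c46 LD3_c61) Lrfl Lrfl
theorem f175423 : Led Lsl_cf (LP (LK LD1_c0 LD2_c40 LD3_c54)) = (LP (LK LD1_c1 LD2_c20 LD3_c44)) :=
  Lgr Lrot11 (Lpr_ct (f175421 IH) (Lpn (LP (LK LD1_c1 LD2_c20 LD3_c44))))
theorem f175475 : Led Lsl_ct (LP (LK LD1_c0 LD2_c32 LD3_c39)) = (LP (LK LD1_c0 LD2_c36 LD3_c61)) :=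
  Lgr Lrot7 (Lpr_df (K9.f161776 IH) (Lpe (K9.f80288 IH) (Lpe (K9.f47929 IH) (Lpr_gf (K9.f80290 IH) (Lpr_cf (f175423 IH) (Lpe (f175419 IH) (Lpe (f68801 IH) (Lpr_gt (f68588 IH) (Lpr_dt (f68599 IH) (Lpn (LP (LK LD1_c0 LD2_c36 LD3_c61))))))))))))
theorem f161779 : Led Lsl_ft (LP (LK LD1_c1 LD2_c10 LD3_c29)) = (LP (LK LD1_c0 LD2_c32 LD3_c39)) :=
  Lre_f IH (LK LD1_c1 LD2_c10 LD3_c29) (LK LD1_c0 LD2_c32 LD3_c39) Lrfl Lrfl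
theorem f175479 : Led Lsl_ft (LP (LK LD1_c0 LD2_c36 LD3_c61)) = (LP (LK LD1_c1 LD2_c19 LD3_c58)) :=
  Lre_f IH (LK LD1_c0 LD2_c36 LD3_c61) (LK LD1_c1 LD2_c19 LD3_c58) Lrfl Lrfl
theorem f175480 : Led Lsl_cf (LP (LK LD1_c1 LD2_c10 LD3_c29)) = (LP (LK LD1_c1 LD2_c19 LD3_c58)) :=
  Lgr Lrot108 (Lpr_ft (f161779 IH) (Lpr_ct (f175475 IH) (Lpr_ft (f175479 IH) (Lpn (LP (LK LD1_c1 LD2_c19 LD3_c58))))))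
theorem f175490 : Led Lsl_ct (LP (LK LD1_c1 LD2_c10 LD3_c29)) = (LP (LK LD1_c1 LD2_c19 LD3_c58)) :=
  Lgr Lrot59 (Lpr_cf (f175480 IH) (Lpn (LP (LK LD1_c1 LD2_c19 LD3_c58))))
theorem f175493 : Led Lsl_bt (LP (LK LD1_c2 LD2_c26 LD3_c23)) = (LP (LK LD1_c1 LD2_c10 LD3_c29)) :=
  Lre_b IH (LK LD1_c2 LD2_c26 LD3_c23) (LK LD1_c1 LD2_c10 LD3_c29) Lrfl Lrfl
theorem f181594 : Led Lsl_cf (LP (LK LD1_c2 LD2_c26 LD3_c23)) = (LP (LK LD1_c4 LD2_c23 LD3_c11)) :=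
  Lgr Lrot97 (Lpr_bt (f175493 IH) (Lpr_ct (f175490 IH) (Lpr_bt (f175492 IH) (Lpr_ct (f175494 IH) (Lpr_bt (f181588 IH) (Lpn (LP (LK LD1_c4 LD2_c23 LD3_c11))))))))
theorem f181597 : Led Lsl_ct (LP (LK LD1_c2 LD2_c26 LD3_c23)) = (LP (LK LD1_c4 LD2_c23 LD3_c11)) :=
  Lgr Lrot59 (Lpr_cf (f181594 IH) (Lpn (LP (LK LD1_c4 LD2_c23 LD3_c11))))
theorem f181601 : Led Lsl_ft (LP (LK LD1_c1 LD2_c10 LD3_c26)) = (LP (LK LD1_c2 LD2_c26 LD3_c23)) :=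
  Lre_f IH (LK LD1_c1 LD2_c10 LD3_c26) (LK LD1_c2 LD2_c26 LD3_c23) Lrfl Lrfl
theorem f181602 : Led Lsl_cf (LP (LK LD1_c1 LD2_c10 LD3_c26)) = (LP (LK LD1_c2 LD2_c9 LD3_c2)) :=
  Lgr Lrot108 (Lpr_ft (f181601 IH) (Lpr_ct (f181597 IH) (Lpr_ft (f181587 IH) (Lpn (LP (LK LD1_c2 LD2_c9 LD3_c2))))))
theorem f80922 : Led Lsl_gt (LP (LK LD1_c2 LD2_c8 LD3_c56)) = (LP (LK LD1_c1 LD2_c1 LD3_c39)) :=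
  Lre_g IH (LK LD1_c2 LD2_c8 LD3_c56) (LK LD1_c1 LD2_c1 LD3_c39) Lrfl Lrfl
theorem f80967 : Led Lsl_ct (LP (LK LD1_c2 LD2_c8 LD3_c56)) = (LP (LK LD1_c4 LD2_c23 LD3_c1)) :=
  Lre_c IH (LK LD1_c2 LD2_c8 LD3_c56) (LK LD1_c4 LD2_c23 LD3_c1) Lrfl Lrfl
theorem f80968 : Led Lsl_gt (LP (LK LD1_c4 LD2_c23 LD3_c1)) = (LP (LK LD1_c2 LD2_c9 LD3_c2)) :=
  Lgr Lrot94 (Lpe (f80967 IH) (Lpr_gt (f80922 IH) (Lpr_dt (K9.f80918 IH) (Lpr_gt (K9.f60454 IH) (Lpr_dt (K1.f59675 IH) (Lpe (K1.f60438 IH) (Lpe (K1.f38658 IH) (Lpe (f80554 IH) (Lpe (f39212 IH) (Lpn (LP (LK LD1_c2 LD2_c9 LD3_c2))))))))))))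
theorem f197842 : Led Lsl_gt (LP (LK LD1_c3 LD2_c4 LD3_c40)) = (LP (LK LD1_c2 LD2_c8 LD3_c56)) :=
  Lgr Lrot9 (Lpe (f60453 IH) (Lpe (K9.f181418 IH) (Lpr_ct (f60200 IH) (Lpr_gt (f197825 IH) (Lpr_ct (f37242 IH) (Lpe (f197805 IH) (Lpr_cf (f181602 IH) (Lpe (f80968 IH) (Lpe (f80967 IH) (Lpn (LP (LK LD1_c2 LD2_c8 LD3_c56))))))))))))
theorem f80971 : Led Lsl_gt (LP (LK LD1_c1 LD2_c1 LD3_c39)) = (LP (LK LD1_c2 LD2_c8 LD3_c55)) :=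
  Lre_g IH (LK LD1_c1 LD2_c1 LD3_c39) (LK LD1_c2 LD2_c8 LD3_c55) Lrfl Lrfl
theorem f80972 : Led Lsl_ct (LP (LK LD1_c2 LD2_c8 LD3_c55)) = (LP (LK LD1_c4 LD2_c23 LD3_c0)) :=
  Lre_c IH (LK LD1_c2 LD2_c8 LD3_c55) (LK LD1_c4 LD2_c23 LD3_c0) Lrfl Lrfl
theorem f197911 : Led Lsl_gt (LP (LK LD1_c4 LD2_c23 LD3_c0)) = (LP (LK LD1_c6 LD2_c14 LD3_c6)) :=
  Lgr Lrot150 (Lpe (f80972 IH) (Lpe (f80971 IH) (Lpr_df (f80962 IH) (Lpr_gt (K9.f60454 IH) (Lpe (K1.f60446 IH) (Lpr_gt (f197903 IH) (Lpr_ct (f197837 IH) (Lpe (f37202 IH) (Lpe (f37241 IH) (Lpn (LP (LK LD1_c6 LD2_c14 LD3_c6))))))))))))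
theorem f26769 : Led Lsl_et (LP (LK LD1_c0 LD2_c39 LD3_c50)) = (LP (LK LD1_c0 LD2_c17 LD3_c51)) :=
  Lre_e IH (LK LD1_c0 LD2_c39 LD3_c50) (LK LD1_c0 LD2_c17 LD3_c51) Lrfl Lrfl
theorem f26942 : Led Lsl_gf (LP (LK LD1_c1 LD2_c26 LD3_c16)) = (LP (LK LD1_c2 LD2_c13 LD3_c13)) :=
  Lgr Lrot145 (Lpe (K9.f9527 IH) (Lpr_et (f26769 IH) (Lpe (K0.f26936 IH) (Lpr_dt (K0.f26772 IH) (Lpr_gt (K0.f20190 IH) (Lpe (K0.f23009 IH) (Lpr_et (f26791 IH) (Lpr_gt (K9.f20646 IH) (Lpe (f23961 IH) (Lpr_dt (f23962 IH) (Lpn (LP (LK LD1_c2 LD2_c13 LD3_c13)))))))))))))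
theorem f20225 : Led Lsl_ct (LP (LK LD1_c1 LD2_c3 LD3_c32)) = (LP (LK LD1_c2 LD2_c12 LD3_c59)) :=
  Lre_c IH (LK LD1_c1 LD2_c3 LD3_c32) (LK LD1_c2 LD2_c12 LD3_c59) Lrfl Lrfl
theorem f26947 : Led Lsl_gt (LP (LK LD1_c2 LD2_c12 LD3_c59)) = (LP (LK LD1_c1 LD2_c3 LD3_c41)) :=
  Lgr Lrot94 (Lpe (f20225 IH) (Lpr_gt (K9.f20218 IH) (Lpr_dt (K9.f20214 IH) (Lpr_gt (K9.f9535 IH) (Lpr_dt (K0.f9519 IH) (Lpe (K1.f9523 IH) (Lpe (K1.f9524 IH) (Lpr_gf (f26942 IH) (Lpe (f23962 IH) (Lpn (LP (LK LD1_c1 LD2_c3 LD3_c41))))))))))))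
theorem f198236 : Led Lsl_bf (LP (LK LD1_c2 LD2_c8 LD3_c56)) = (LP (LK LD1_c1 LD2_c3 LD3_c32)) :=
  Lgr Lrot34 (Lpe (f197842 IH) (Lpr_bf (f198232 IH) (Lpr_ct (f37181 IH) (Lpe (f197911 IH) (Lpe (f80972 IH) (Lpe (f80971 IH) (Lpr_bf (f181713 IH) (Lpe (f180350 IH) (Lpe (f26947 IH) (Lpe (f20225 IH) (Lpn (LP (LK LD1_c1 LD2_c3 LD3_c32)))))))))))))
theorem f176887 : Led Lsl_bt (LP (LK LD1_c1 LD2_c21 LD3_c28)) = (LP (LK LD1_c0 LD2_c37 LD3_c37)) :=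
  Lre_b IH (LK LD1_c1 LD2_c21 LD3_c28) (LK LD1_c0 LD2_c37 LD3_c37) Lrfl Lrfl
theorem f198242 : Led Lsl_et (LP (LK LD1_c2 LD2_c8 LD3_c56)) = (LP (LK LD1_c1 LD2_c21 LD3_c28)) :=
  Lgr Lrot74 (Lpr_bf (f198236 IH) (Lpe (K9.f176885 IH) (Lpe (f176887 IH) (Lpn (LP (LK LD1_c1 LD2_c21 LD3_c28))))))
theorem f198248 : Led Lsl_ef (LP (LK LD1_c2 LD2_c8 LD3_c56)) = (LP (LK LD1_c1 LD2_c21 LD3_c28)) :=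
  Lgr Lrot88 (Lpr_et (f198242 IH) (Lpn (LP (LK LD1_c1 LD2_c21 LD3_c28))))
theorem f59348 : Led Lsl_et (LP (LK LD1_c0 LD2_c28 LD3_c16)) = (LP (LK LD1_c0 LD2_c12 LD3_c29)) :=
  Lre_e IH (LK LD1_c0 LD2_c28 LD3_c16) (LK LD1_c0 LD2_c12 LD3_c29) Lrfl Lrfl
theorem f59342 : Led Lsl_et (LP (LK LD1_c0 LD2_c54 LD3_c32)) = (LP (LK LD1_c0 LD2_c24 LD3_c37)) :=
  Lre_e IH (LK LD1_c0 LD2_c54 LD3_c32) (LK LD1_c0 LD2_c24 LD3_c37) Lrfl Lrfl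
theorem f59344 : Led Lsl_dt (LP (LK LD1_c0 LD2_c28 LD3_c16)) = (LP (LK LD1_c0 LD2_c54 LD3_c32)) :=
  Lgr Lrot77 (Lpe (K4.f59343 IH) (Lpe (K1.f16640 IH) (Lpr_ef (K1.f59340 IH) (Lpe (K9.f37915 IH) (Lpe (f59342 IH) (Lpn (LP (LK LD1_c0 LD2_c54 LD3_c32))))))))
theorem f24563 : Led Lsl_dt (LP (LK LD1_c1 LD2_c21 LD3_c28)) = (LP (LK LD1_c0 LD2_c37 LD3_c35)) :=
  Lre_d IH (LK LD1_c1 LD2_c21 LD3_c28) (LK LD1_c0 LD2_c37 LD3_c35) Lrfl Lrfl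
theorem f198253 : Led Lsl_gt (LP (LK LD1_c0 LD2_c54 LD3_c32)) = (LP (LK LD1_c0 LD2_c37 LD3_c35)) :=
  Lgr Lrot112 (Lpe (f59344 IH) (Lpr_et (f59348 IH) (Lpr_gf (K5.f80435 IH) (Lpe (K1.f59667 IH) (Lpr_dt (K1.f59675 IH) (Lpe (K9.f60454 IH) (Lpe (K9.f80918 IH) (Lpe (f80922 IH) (Lpr_ef (f198248 IH) (Lpr_dt (f24563 IH) (Lpn (LP (LK LD1_c0 LD2_c37 LD3_c35)))))))))))))
theorem f37916 : Led Lsl_et (LP (LK LD1_c0 LD2_c24 LD3_c37)) = (LP (LK LD1_c0 LD2_c54 LD3_c32)) :=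
  Lre_e IH (LK LD1_c0 LD2_c24 LD3_c37) (LK LD1_c0 LD2_c54 LD3_c32) Lrfl Lrfl
theorem f37432 : Led Lsl_et (LP (LK LD1_c0 LD2_c32 LD3_c47)) = (LP (LK LD1_c0 LD2_c14 LD3_c44)) :=
  Lre_e IH (LK LD1_c0 LD2_c32 LD3_c47) (LK LD1_c0 LD2_c14 LD3_c44) Lrfl Lrfl
theorem f37533 : Led Lsl_ft (LP (LK LD1_c0 LD2_c32 LD3_c47)) = (LP (LK LD1_c1 LD2_c10 LD3_c45)) :=
  Lre_f IH (LK LD1_c0 LD2_c32 LD3_c47) (LK LD1_c1 LD2_c10 LD3_c45) Lrfl Lrfl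
theorem f37534 : Led Lsl_dt (LP (LK LD1_c0 LD2_c32 LD3_c47)) = (LP (LK LD1_c0 LD2_c32 LD3_c47)) :=
  Lgr Lrot60 (Lpe (K1.f37527 IH) (Lpr_df (K1.f37525 IH) (Lpe (f37533 IH) (Lpn (LP (LK LD1_c0 LD2_c32 LD3_c47))))))
theorem f24565 : Led Lsl_et (LP (LK LD1_c1 LD2_c18 LD3_c55)) = (LP (LK LD1_c0 LD2_c37 LD3_c35)) :=
  Lre_e IH (LK LD1_c1 LD2_c18 LD3_c55) (LK LD1_c0 LD2_c37 LD3_c35) Lrfl Lrfl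
theorem f24549 : Led Lsl_bt (LP (LK LD1_c0 LD2_c36 LD3_c21)) = (LP (LK LD1_c1 LD2_c18 LD3_c55)) :=
  Lre_b IH (LK LD1_c0 LD2_c36 LD3_c21) (LK LD1_c1 LD2_c18 LD3_c55) Lrfl Lrfl
theorem f24431 : Led Lsl_bt (LP (LK LD1_c0 LD2_c38 LD3_c16)) = (LP (LK LD1_c0 LD2_c17 LD3_c3)) :=
  Lre_b IH (LK LD1_c0 LD2_c38 LD3_c16) (LK LD1_c0 LD2_c17 LD3_c3) Lrfl Lrfl
theorem f24550 : Led Lsl_dt (LP (LK LD1_c1 LD2_c18 LD3_c55)) = (LP (LK LD1_c0 LD2_c38 LD3_c16)) :=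
  Lgr Lrot79 (Lpe (f24549 IH) (Lpr_df (K9.f24517 IH) (Lpe (f24431 IH) (Lpn (LP (LK LD1_c0 LD2_c38 LD3_c16))))))
theorem f198260 : Led Lsl_gf (LP (LK LD1_c0 LD2_c32 LD3_c47)) = (LP (LK LD1_c0 LD2_c38 LD3_c16)) :=
  Lgr Lrot145 (Lpe (f37534 IH) (Lpr_et (f37432 IH) (Lpr_gt (K1.f37903 IH) (Lpr_dt (K1.f36297 IH) (Lpr_gt (K1.f28467 IH) (Lpe (K9.f37915 IH) (Lpr_et (f37916 IH) (Lpr_gt (f198253 IH) (Lpe (f24565 IH) (Lpr_dt (f24550 IH) (Lpn (LP (LK LD1_c0 LD2_c38 LD3_c16)))))))))))))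
theorem f56070 : Led Lsl_gt (LP (LK LD1_c0 LD2_c32 LD3_c47)) = (LP (LK LD1_c1 LD2_c10 LD3_c44)) :=
  Lre_g IH (LK LD1_c0 LD2_c32 LD3_c47) (LK LD1_c1 LD2_c10 LD3_c44) Lrfl Lrfl
theorem f56071 : Led Lsl_dt (LP (LK LD1_c1 LD2_c10 LD3_c44)) = (LP (LK LD1_c2 LD2_c26 LD3_c57)) :=
  Lre_d IH (LK LD1_c1 LD2_c10 LD3_c44) (LK LD1_c2 LD2_c26 LD3_c57) Lrfl Lrfl
theorem f56077 : Led Lsl_ct (LP (LK LD1_c2 LD2_c26 LD3_c57)) = (LP (LK LD1_c4 LD2_c58 LD3_c12)) :=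
  Lre_c IH (LK LD1_c2 LD2_c26 LD3_c57) (LK LD1_c4 LD2_c58 LD3_c12) Lrfl Lrfl
theorem f37195 : Led Lsl_et (LP (LK LD1_c3 LD2_c3 LD3_c55)) = (LP (LK LD1_c1 LD2_c27 LD3_c60)) :=
  Lre_e IH (LK LD1_c3 LD2_c3 LD3_c55) (LK LD1_c1 LD2_c27 LD3_c60) Lrfl Lrfl
theorem f197989 : Led Lsl_bt (LP (LK LD1_c2 LD2_c10 LD3_c42)) = (LP (LK LD1_c3 LD2_c3 LD3_c55)) :=
  Lgr Lrot119 (Lpe (f101371 IH) (Lpr_bf (f197913 IH) (Lpe (f37195 IH) (Lpn (LP (LK LD1_c3 LD2_c3 LD3_c55))))))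
theorem f29234 : Led Lsl_gt (LP (LK LD1_c1 LD2_c57 LD3_c16)) = (LP (LK LD1_c0 LD2_c55 LD3_c27)) :=
  Lre_g IH (LK LD1_c1 LD2_c57 LD3_c16) (LK LD1_c0 LD2_c55 LD3_c27) Lrfl Lrfl
theorem f37196 : Led Lsl_df (LP (LK LD1_c1 LD2_c57 LD3_c16)) = (LP (LK LD1_c3 LD2_c3 LD3_c55)) :=
  Lgr Lrot170 (Lpr_gt (f29234 IH) (Lpe (K1.f29217 IH) (Lpr_et (K1.f29229 IH) (Lpr_gt (K1.f34707 IH) (Lpr_dt (K1.f27214 IH) (Lpr_gt (K0.f20612 IH) (Lpr_df (K1.f37164 IH) (Lpr_et (K1.f37166 IH) (Lpr_gt (f37179 IH) (Lpe (f37195 IH) (Lpn (LP (LK LD1_c3 LD2_c3 LD3_c55)))))))))))))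
theorem f197993 : Led Lsl_bf (LP (LK LD1_c1 LD2_c2 LD3_c22)) = (LP (LK LD1_c1 LD2_c57 LD3_c16)) :=
  Lgr Lrot93 (Lpr_dt (f101298 IH) (Lpr_bt (f197989 IH) (Lpe (f37196 IH) (Lpn (LP (LK LD1_c1 LD2_c57 LD3_c16))))))
theorem f101273 : Led Lsl_at (LP (LK LD1_c1 LD2_c27 LD3_c33)) = (LP (LK LD1_c1 LD2_c2 LD3_c20)) :=
  Lgr Lrot100 (Lpr_af (K9.f101057 IH) (Lpn (LP (LK LD1_c1 LD2_c2 LD3_c20))))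
theorem f101311 : Led Lsl_ft (LP (LK LD1_c3 LD2_c3 LD3_c21)) = (LP (LK LD1_c1 LD2_c27 LD3_c33)) :=
  Lre_f IH (LK LD1_c3 LD2_c3 LD3_c21) (LK LD1_c1 LD2_c27 LD3_c33) Lrfl Lrfl
theorem f43027 : Led Lsl_gt (LP (LK LD1_c2 LD2_c10 LD3_c37)) = (LP (LK LD1_c1 LD2_c2 LD3_c20)) :=
  Lre_g IH (LK LD1_c2 LD2_c10 LD3_c37) (LK LD1_c1 LD2_c2 LD3_c20) Lrfl Lrfl
theorem f101312 : Led Lsl_gt (LP (LK LD1_c3 LD2_c3 LD3_c21)) = (LP (LK LD1_c2 LD2_c10 LD3_c37)) :=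
  Lgr Lrot5 (Lpr_ft (f101311 IH) (Lpr_at (f101273 IH) (Lpe (f43027 IH) (Lpn (LP (LK LD1_c2 LD2_c10 LD3_c37))))))
theorem f197997 : Led Lsl_cf (LP (LK LD1_c2 LD2_c10 LD3_c37)) = (LP (LK LD1_c1 LD2_c57 LD3_c16)) :=
  Lgr Lrot58 (Lpe (f101312 IH) (Lpe (K9.f100661 IH) (Lpr_bt (K9.f100658 IH) (Lpe (K9.f100677 IH) (Lpe (K9.f100679 IH) (Lpr_ct (K9.f175810 IH) (Lpe (K9.f101398 IH) (Lpe (K9.f101021 IH) (Lpe (K9.f36331 IH) (Lpr_bf (f197993 IH) (Lpn (LP (LK LD1_c1 LD2_c57 LD3_c16)))))))))))))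
theorem f198003 : Led Lsl_ct (LP (LK LD1_c2 LD2_c10 LD3_c37)) = (LP (LK LD1_c1 LD2_c57 LD3_c16)) :=
  Lgr Lrot59 (Lpr_cf (f197997 IH) (Lpn (LP (LK LD1_c1 LD2_c57 LD3_c16))))
theorem f80926 : Led Lsl_dt (LP (LK LD1_c1 LD2_c2 LD3_c21)) = (LP (LK LD1_c2 LD2_c10 LD3_c40)) :=
  Lre_d IH (LK LD1_c1 LD2_c2 LD3_c21) (LK LD1_c2 LD2_c10 LD3_c40) Lrfl Lrfl
theorem f80927 : Led Lsl_gt (LP (LK LD1_c2 LD2_c10 LD3_c40)) = (LP (LK LD1_c4 LD2_c27 LD3_c2)) :=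
  Lre_g IH (LK LD1_c2 LD2_c10 LD3_c40) (LK LD1_c4 LD2_c27 LD3_c2) Lrfl Lrfl
theorem f101421 : Led Lsl_ct (LP (LK LD1_c4 LD2_c27 LD3_c2)) = (LP (LK LD1_c8 LD2_c51 LD3_c55)) :=
  Lre_c IH (LK LD1_c4 LD2_c27 LD3_c2) (LK LD1_c8 LD2_c51 LD3_c55) Lrfl Lrfl
theorem f37198 : Led Lsl_ct (LP (LK LD1_c6 LD2_c14 LD3_c5)) = (LP (LK LD1_c3 LD2_c3 LD3_c55)) :=
  Lre_c IH (LK LD1_c6 LD2_c14 LD3_c5) (LK LD1_c3 LD2_c3 LD3_c55) Lrfl Lrfl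
theorem f198030 : Led Lsl_gt (LP (LK LD1_c8 LD2_c51 LD3_c55)) = (LP (LK LD1_c6 LD2_c14 LD3_c5)) :=
  Lgr Lrot150 (Lpe (f101421 IH) (Lpe (f80927 IH) (Lpe (f80926 IH) (Lpe (K9.f101419 IH) (Lpr_ct (K9.f100661 IH) (Lpr_gt (f101312 IH) (Lpr_ct (f198003 IH) (Lpr_df (f37196 IH) (Lpe (f37198 IH) (Lpn (LP (LK LD1_c6 LD2_c14 LD3_c5))))))))))))
theorem f198032 : Led Lsl_ct (LP (LK LD1_c8 LD2_c51 LD3_c55)) = (LP (LK LD1_c4 LD2_c27 LD3_c2)) :=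
  Lre_c IH (LK LD1_c8 LD2_c51 LD3_c55) (LK LD1_c4 LD2_c27 LD3_c2) Lrfl Lrfl
theorem f37213 : Led Lsl_et (LP (LK LD1_c0 LD2_c40 LD3_c44)) = (LP (LK LD1_c1 LD2_c28 LD3_c5)) :=
  Lre_e IH (LK LD1_c0 LD2_c40 LD3_c44) (LK LD1_c1 LD2_c28 LD3_c5) Lrfl Lrfl
theorem f35552 : Led Lsl_et (LP (LK LD1_c1 LD2_c2 LD3_c20)) = (LP (LK LD1_c0 LD2_c28 LD3_c25)) :=
  Lre_e IH (LK LD1_c1 LD2_c2 LD3_c20) (LK LD1_c0 LD2_c28 LD3_c25) Lrfl Lrfl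
theorem f35554 : Led Lsl_gt (LP (LK LD1_c4 LD2_c26 LD3_c60)) = (LP (LK LD1_c2 LD2_c10 LD3_c38)) :=
  Lre_g IH (LK LD1_c4 LD2_c26 LD3_c60) (LK LD1_c2 LD2_c10 LD3_c38) Lrfl Lrfl
theorem f197917 : Led Lsl_et (LP (LK LD1_c6 LD2_c14 LD3_c5)) = (LP (LK LD1_c3 LD2_c3 LD3_c53)) :=
  Lre_e IH (LK LD1_c6 LD2_c14 LD3_c5) (LK LD1_c3 LD2_c3 LD3_c53) Lrfl Lrfl
theorem f197918 : Led Lsl_df (LP (LK LD1_c4 LD2_c26 LD3_c60)) = (LP (LK LD1_c6 LD2_c14 LD3_c5)) :=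
  Lgr Lrot170 (Lpr_gt (f35554 IH) (Lpe (K9.f35553 IH) (Lpr_et (f35552 IH) (Lpr_gt (K1.f35533 IH) (Lpr_dt (K1.f27221 IH) (Lpe (K1.f59681 IH) (Lpe (K1.f37191 IH) (Lpr_et (f37213 IH) (Lpr_gt (f197903 IH) (Lpe (f197917 IH) (Lpn (LP (LK LD1_c6 LD2_c14 LD3_c5)))))))))))))
theorem f198033 : Led Lsl_gt (LP (LK LD1_c4 LD2_c27 LD3_c2)) = (LP (LK LD1_c2 LD2_c10 LD3_c42)) :=
  Lgr Lrot94 (Lpe (f198032 IH) (Lpr_gt (f198030 IH) (Lpe (f197918 IH) (Lpr_gt (f35554 IH) (Lpr_dt (K9.f101019 IH) (Lpe (K9.f101021 IH) (Lpe (K9.f101022 IH) (Lpe (K9.f36331 IH) (Lpe (K9.f101307 IH) (Lpn (LP (LK LD1_c2 LD2_c10 LD3_c42))))))))))))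
theorem f56078 : Led Lsl_dt (LP (LK LD1_c2 LD2_c26 LD3_c57)) = (LP (LK LD1_c1 LD2_c10 LD3_c44)) :=
  Lre_d IH (LK LD1_c2 LD2_c26 LD3_c57) (LK LD1_c1 LD2_c10 LD3_c44) Lrfl Lrfl
theorem f198035 : Led Lsl_ef (LP (LK LD1_c4 LD2_c27 LD3_c2)) = (LP (LK LD1_c2 LD2_c26 LD3_c57)) :=
  Lgr Lrot167 (Lpr_gt (f198033 IH) (Lpr_dt (K9.f101307 IH) (Lpr_gt (K9.f36331 IH) (Lpe (K9.f101022 IH) (Lpr_et (K9.f35580 IH) (Lpr_gt (K1.f37384 IH) (Lpe (f37432 IH) (Lpr_dt (f37534 IH) (Lpr_gt (f56070 IH) (Lpe (f56078 IH) (Lpn (LP (LK LD1_c2 LD2_c26 LD3_c57)))))))))))))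
theorem f198039 : Led Lsl_et (LP (LK LD1_c4 LD2_c27 LD3_c2)) = (LP (LK LD1_c2 LD2_c26 LD3_c57)) :=
  Lgr Lrot87 (Lpr_ef (f198035 IH) (Lpn (LP (LK LD1_c2 LD2_c26 LD3_c57))))
theorem f198041 : Led Lsl_ef (LP (LK LD1_c8 LD2_c51 LD3_c55)) = (LP (LK LD1_c4 LD2_c58 LD3_c12)) :=
  Lgr Lrot28 (Lpr_ct (f198032 IH) (Lpr_et (f198039 IH) (Lpr_ct (f56077 IH) (Lpn (LP (LK LD1_c4 LD2_c58 LD3_c12))))))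
theorem f27262 : Led Lsl_dt (LP (LK LD1_c1 LD2_c26 LD3_c19)) = (LP (LK LD1_c3 LD2_c0 LD3_c60)) :=
  Lre_d IH (LK LD1_c1 LD2_c26 LD3_c19) (LK LD1_c3 LD2_c0 LD3_c60) Lrfl Lrfl
theorem f35559 : Led Lsl_gt (LP (LK LD1_c3 LD2_c0 LD3_c60)) = (LP (LK LD1_c6 LD2_c9 LD3_c15)) :=
  Lre_g IH (LK LD1_c3 LD2_c0 LD3_c60) (LK LD1_c6 LD2_c9 LD3_c15) Lrfl Lrfl
theorem f198076 : Led Lsl_df (LP (LK LD1_c6 LD2_c9 LD3_c15)) = (LP (LK LD1_c4 LD2_c58 LD3_c12)) :=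
  Lgr Lrot168 (Lpe (f35559 IH) (Lpe (f27262 IH) (Lpr_et (K2.f35558 IH) (Lpe (K1.f35533 IH) (Lpe (f35552 IH) (Lpr_dt (K9.f35553 IH) (Lpe (f35554 IH) (Lpr_df (f197918 IH) (Lpe (f198030 IH) (Lpr_ef (f198041 IH) (Lpn (LP (LK LD1_c4 LD2_c58 LD3_c12)))))))))))))
theorem f198079 : Led Lsl_dt (LP (LK LD1_c6 LD2_c9 LD3_c15)) = (LP (LK LD1_c4 LD2_c58 LD3_c12)) :=
  Lgr Lrot42 (Lpr_df (f198076 IH) (Lpn (LP (LK LD1_c4 LD2_c58 LD3_c12))))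
theorem f24432 : Led Lsl_ct (LP (LK LD1_c1 LD2_c22 LD3_c34)) = (LP (LK LD1_c0 LD2_c38 LD3_c16)) :=
  Lre_c IH (LK LD1_c1 LD2_c22 LD3_c34) (LK LD1_c0 LD2_c38 LD3_c16) Lrfl Lrfl
theorem f198264 : Led Lsl_gf (LP (LK LD1_c1 LD2_c26 LD3_c19)) = (LP (LK LD1_c1 LD2_c22 LD3_c34)) :=
  Lgr Lrot144 (Lpr_dt (f27262 IH) (Lpr_gt (f35559 IH) (Lpr_dt (f198079 IH) (Lpe (f56077 IH) (Lpe (f56071 IH) (Lpe (f56070 IH) (Lpe (f37534 IH) (Lpr_gf (f198260 IH) (Lpe (f24432 IH) (Lpn (LP (LK LD1_c1 LD2_c22 LD3_c34))))))))))))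
theorem f27261 : Led Lsl_ct (LP (LK LD1_c0 LD2_c39 LD3_c54)) = (LP (LK LD1_c1 LD2_c26 LD3_c19)) :=
  Lre_c IH (LK LD1_c0 LD2_c39 LD3_c54) (LK LD1_c1 LD2_c26 LD3_c19) Lrfl Lrfl
theorem f27229 : Led Lsl_bt (LP (LK LD1_c0 LD2_c39 LD3_c54)) = (LP (LK LD1_c0 LD2_c17 LD3_c56)) :=
  Lre_b IH (LK LD1_c0 LD2_c39 LD3_c54) (LK LD1_c0 LD2_c17 LD3_c56) Lrfl Lrfl
theorem f27848 : Led Lsl_gt (LP (LK LD1_c0 LD2_c59 LD3_c3)) = (LP (LK LD1_c0 LD2_c26 LD3_c54)) :=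
  Lre_g IH (LK LD1_c0 LD2_c59 LD3_c3) (LK LD1_c0 LD2_c26 LD3_c54) Lrfl Lrfl
theorem f28544 : Led Lsl_et (LP (LK LD1_c2 LD2_c4 LD3_c4)) = (LP (LK LD1_c0 LD2_c59 LD3_c3)) :=
  Lre_e IH (LK LD1_c2 LD2_c4 LD3_c4) (LK LD1_c0 LD2_c59 LD3_c3) Lrfl Lrfl
theorem f28517 : Led Lsl_et (LP (LK LD1_c0 LD2_c5 LD3_c5)) = (LP (LK LD1_c0 LD2_c10 LD3_c57)) :=
  Lre_e IH (LK LD1_c0 LD2_c5 LD3_c5) (LK LD1_c0 LD2_c10 LD3_c57) Lrfl Lrfl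
theorem f28519 : Led Lsl_et (LP (LK LD1_c0 LD2_c54 LD3_c27)) = (LP (LK LD1_c0 LD2_c24 LD3_c34)) :=
  Lre_e IH (LK LD1_c0 LD2_c54 LD3_c27) (LK LD1_c0 LD2_c24 LD3_c34) Lrfl Lrfl
theorem f28520 : Led Lsl_df (LP (LK LD1_c0 LD2_c59 LD3_c3)) = (LP (LK LD1_c0 LD2_c54 LD3_c27)) :=
  Lgr Lrot170 (Lpr_gt (f27848 IH) (Lpe (K1.f27765 IH) (Lpr_et (K1.f27764 IH) (Lpr_gt (K0.f27758 IH) (Lpr_dt (K0.f27537 IH) (Lpr_gt (K0.f28507 IH) (Lpe (K0.f28459 IH) (Lpr_et (f28517 IH) (Lpr_gt (f28518 IH) (Lpe (f28519 IH) (Lpn (LP (LK LD1_c0 LD2_c54 LD3_c27)))))))))))))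
theorem f28529 : Led Lsl_et (LP (LK LD1_c0 LD2_c59 LD3_c3)) = (LP (LK LD1_c2 LD2_c4 LD3_c4)) :=
  Lre_e IH (LK LD1_c0 LD2_c59 LD3_c3) (LK LD1_c2 LD2_c4 LD3_c4) Lrfl Lrfl
theorem f28530 : Led Lsl_et (LP (LK LD1_c0 LD2_c24 LD3_c34)) = (LP (LK LD1_c0 LD2_c54 LD3_c27)) :=
  Lre_e IH (LK LD1_c0 LD2_c24 LD3_c34) (LK LD1_c0 LD2_c54 LD3_c27) Lrfl Lrfl
theorem f28531 : Led Lsl_dt (LP (LK LD1_c0 LD2_c54 LD3_c26)) = (LP (LK LD1_c0 LD2_c24 LD3_c34)) :=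
  Lre_d IH (LK LD1_c0 LD2_c54 LD3_c26) (LK LD1_c0 LD2_c24 LD3_c34) Lrfl Lrfl
theorem f28532 : Led Lsl_et (LP (LK LD1_c1 LD2_c55 LD3_c25)) = (LP (LK LD1_c0 LD2_c54 LD3_c26)) :=
  Lre_e IH (LK LD1_c1 LD2_c55 LD3_c25) (LK LD1_c0 LD2_c54 LD3_c26) Lrfl Lrfl
theorem f28533 : Led Lsl_dt (LP (LK LD1_c2 LD2_c4 LD3_c4)) = (LP (LK LD1_c1 LD2_c55 LD3_c25)) :=
  Lgr Lrot77 (Lpe (f28529 IH) (Lpr_df (f28520 IH) (Lpe (f28530 IH) (Lpe (f28531 IH) (Lpe (f28532 IH) (Lpn (LP (LK LD1_c1 LD2_c55 LD3_c25))))))))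
theorem f56072 : Led Lsl_gf (LP (LK LD1_c1 LD2_c55 LD3_c25)) = (LP (LK LD1_c2 LD2_c26 LD3_c57)) :=
  Lgr Lrot134 (Lpe (f28533 IH) (Lpr_et (f28544 IH) (Lpr_gt (f27848 IH) (Lpr_ef (K1.f56062 IH) (Lpr_dt (K1.f13642 IH) (Lpr_gt (K0.f13647 IH) (Lpr_df (K1.f37439 IH) (Lpr_et (K1.f37441 IH) (Lpr_gt (f56070 IH) (Lpr_dt (f56071 IH) (Lpn (LP (LK LD1_c2 LD2_c26 LD3_c57)))))))))))))
theorem f28546 : Led Lsl_et (LP (LK LD1_c0 LD2_c54 LD3_c26)) = (LP (LK LD1_c1 LD2_c55 LD3_c25)) :=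
  Lre_e IH (LK LD1_c0 LD2_c54 LD3_c26) (LK LD1_c1 LD2_c55 LD3_c25) Lrfl Lrfl
theorem f43091 : Led Lsl_gf (LP (LK LD1_c0 LD2_c12 LD3_c27)) = (LP (LK LD1_c0 LD2_c24 LD3_c34)) :=
  Lgr Lrot76 (Lpr_af (K9.f43083 IH) (Lpe (K9.f43085 IH) (Lpr_gt (f28518 IH) (Lpn (LP (LK LD1_c0 LD2_c24 LD3_c34))))))
theorem f39238 : Led Lsl_dt (LP (LK LD1_c0 LD2_c28 LD3_c12)) = (LP (LK LD1_c0 LD2_c12 LD3_c27)) :=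
  Lre_d IH (LK LD1_c0 LD2_c28 LD3_c12) (LK LD1_c0 LD2_c12 LD3_c27) Lrfl Lrfl
theorem f175816 : Led Lsl_dt (LP (LK LD1_c1 LD2_c11 LD3_c9)) = (LP (LK LD1_c2 LD2_c28 LD3_c0)) :=
  Lre_d IH (LK LD1_c1 LD2_c11 LD3_c9) (LK LD1_c2 LD2_c28 LD3_c0) Lrfl Lrfl
theorem f176605 : Led Lsl_bt (LP (LK LD1_c1 LD2_c5 LD3_c57)) = (LP (LK LD1_c2 LD2_c17 LD3_c57)) :=
  Lre_b IH (LK LD1_c1 LD2_c5 LD3_c57) (LK LD1_c2 LD2_c17 LD3_c57) Lrfl Lrfl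
theorem f175882 : Led Lsl_bf (LP (LK LD1_c0 LD2_c39 LD3_c2)) = (LP (LK LD1_c0 LD2_c39 LD3_c2)) :=
  Lgr Lrot93 (Lpr_dt (K9.f9399 IH) (Lpr_bt (K9.f175825 IH) (Lpr_dt (f9387 IH) (Lpn (LP (LK LD1_c0 LD2_c39 LD3_c2))))))
theorem f185987 : Led Lsl_gf (LP (LK LD1_c2 LD2_c17 LD3_c57)) = (LP (LK LD1_c2 LD2_c28 LD3_c0)) :=
  Lgr Lrot124 (Lpe (f176605 IH) (Lpr_ct (f176598 IH) (Lpr_gt (f185962 IH) (Lpe (f9388 IH) (Lpe (f175882 IH) (Lpr_gt (K9.f22424 IH) (Lpr_ct (K9.f26648 IH) (Lpr_gt (K9.f175413 IH) (Lpe (f100655 IH) (Lpr_bt (f175304 IH) (Lpn (LP (LK LD1_c2 LD2_c28 LD3_c0)))))))))))))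
theorem f198043 : Led Lsl_dt (LP (LK LD1_c4 LD2_c27 LD3_c2)) = (LP (LK LD1_c2 LD2_c17 LD3_c57)) :=
  Lgr Lrot56 (Lpr_et (f198039 IH) (Lpe (f56072 IH) (Lpe (f28546 IH) (Lpr_dt (f28531 IH) (Lpe (f43091 IH) (Lpe (f39238 IH) (Lpr_et (K9.f39239 IH) (Lpr_gt (K9.f175812 IH) (Lpr_dt (f175816 IH) (Lpe (f185987 IH) (Lpn (LP (LK LD1_c2 LD2_c17 LD3_c57)))))))))))))
theorem f198049 : Led Lsl_et (LP (LK LD1_c2 LD2_c17 LD3_c57)) = (LP (LK LD1_c1 LD2_c5 LD3_c55)) :=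
  Lre_e IH (LK LD1_c2 LD2_c17 LD3_c57) (LK LD1_c1 LD2_c5 LD3_c55) Lrfl Lrfl
theorem f185998 : Led Lsl_dt (LP (LK LD1_c1 LD2_c5 LD3_c55)) = (LP (LK LD1_c2 LD2_c17 LD3_c56)) :=
  Lre_d IH (LK LD1_c1 LD2_c5 LD3_c55) (LK LD1_c2 LD2_c17 LD3_c56) Lrfl Lrfl
theorem f198050 : Led Lsl_ef (LP (LK LD1_c1 LD2_c10 LD3_c44)) = (LP (LK LD1_c2 LD2_c17 LD3_c56)) :=
  Lgr Lrot73 (Lpr_dt (f56071 IH) (Lpe (f198035 IH) (Lpr_dt (f198043 IH) (Lpr_et (f198049 IH) (Lpr_dt (f185998 IH) (Lpn (LP (LK LD1_c2 LD2_c17 LD3_c56))))))))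
theorem f198057 : Led Lsl_bt (LP (LK LD1_c1 LD2_c5 LD3_c56)) = (LP (LK LD1_c2 LD2_c17 LD3_c56)) :=
  Lre_b IH (LK LD1_c1 LD2_c5 LD3_c56) (LK LD1_c2 LD2_c17 LD3_c56) Lrfl Lrfl
theorem f176679 : Led Lsl_et (LP (LK LD1_c0 LD2_c30 LD3_c7)) = (LP (LK LD1_c1 LD2_c5 LD3_c57)) :=
  Lre_e IH (LK LD1_c0 LD2_c30 LD3_c7) (LK LD1_c1 LD2_c5 LD3_c57) Lrfl Lrfl
theorem f25941 : Led Lsl_dt (LP (LK LD1_c1 LD2_c5 LD3_c56)) = (LP (LK LD1_c0 LD2_c30 LD3_c7)) :=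
  Lre_d IH (LK LD1_c1 LD2_c5 LD3_c56) (LK LD1_c0 LD2_c30 LD3_c7) Lrfl Lrfl
theorem f185954 : Led Lsl_ef (LP (LK LD1_c1 LD2_c5 LD3_c56)) = (LP (LK LD1_c0 LD2_c39 LD3_c55)) :=
  Lgr Lrot73 (Lpr_dt (f25941 IH) (Lpr_et (f176679 IH) (Lpr_dt (f25954 IH) (Lpr_et (f185950 IH) (Lpr_dt (f27237 IH) (Lpn (LP (LK LD1_c0 LD2_c39 LD3_c55))))))))
theorem f198058 : Led Lsl_bt (LP (LK LD1_c1 LD2_c10 LD3_c44)) = (LP (LK LD1_c0 LD2_c39 LD3_c55)) :=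
  Lgr Lrot119 (Lpr_ef (f198050 IH) (Lpe (f198057 IH) (Lpr_ef (f185954 IH) (Lpn (LP (LK LD1_c0 LD2_c39 LD3_c55))))))
theorem f82190 : Led Lsl_ct (LP (LK LD1_c1 LD2_c10 LD3_c44)) = (LP (LK LD1_c2 LD2_c26 LD3_c56)) :=
  Lre_c IH (LK LD1_c1 LD2_c10 LD3_c44) (LK LD1_c2 LD2_c26 LD3_c56) Lrfl Lrfl
theorem f24559 : Led Lsl_ct (LP (LK LD1_c0 LD2_c38 LD3_c16)) = (LP (LK LD1_c1 LD2_c22 LD3_c34)) :=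
  Lre_c IH (LK LD1_c0 LD2_c38 LD3_c16) (LK LD1_c1 LD2_c22 LD3_c34) Lrfl Lrfl
theorem f198262 : Led Lsl_gt (LP (LK LD1_c1 LD2_c2 LD3_c5)) = (LP (LK LD1_c0 LD2_c38 LD3_c16)) :=
  Lgr Lrot5 (Lpr_ft (K1.f35464 IH) (Lpe (K1.f37690 IH) (Lpr_gf (f198260 IH) (Lpn (LP (LK LD1_c0 LD2_c38 LD3_c16))))))
theorem f198278 : Led Lsl_gt (LP (LK LD1_c2 LD2_c26 LD3_c56)) = (LP (LK LD1_c2 LD2_c10 LD3_c9)) :=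
  Lgr Lrot65 (Lpe (f82190 IH) (Lpr_bt (f198058 IH) (Lpe (f27196 IH) (Lpe (f27229 IH) (Lpr_ct (f27261 IH) (Lpr_gf (f198264 IH) (Lpe (f24559 IH) (Lpe (f198262 IH) (Lpe (K1.f35636 IH) (Lpe (K1.f38399 IH) (Lpn (LP (LK LD1_c2 LD2_c10 LD3_c9)))))))))))))
theorem f38348 : Led Lsl_dt (LP (LK LD1_c2 LD2_c10 LD3_c9)) = (LP (LK LD1_c4 LD2_c25 LD3_c37)) :=
  Lre_d IH (LK LD1_c2 LD2_c10 LD3_c9) (LK LD1_c4 LD2_c25 LD3_c37) Lrfl Lrfl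
theorem f38349 : Led Lsl_af (LP (LK LD1_c2 LD2_c10 LD3_c9)) = (LP (LK LD1_c3 LD2_c0 LD3_c61)) :=
  Lgr Lrot117 (Lpr_dt (f38348 IH) (Lpr_at (K1.f38339 IH) (Lpr_dt (K1.f27254 IH) (Lpn (LP (LK LD1_c3 LD2_c0 LD3_c61))))))
theorem f38409 : Led Lsl_ft (LP (LK LD1_c1 LD2_c26 LD3_c19)) = (LP (LK LD1_c3 LD2_c0 LD3_c61)) :=
  Lre_f IH (LK LD1_c1 LD2_c26 LD3_c19) (LK LD1_c3 LD2_c0 LD3_c61) Lrfl Lrfl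
theorem f198296 : Led Lsl_gf (LP (LK LD1_c2 LD2_c26 LD3_c56)) = (LP (LK LD1_c1 LD2_c26 LD3_c19)) :=
  Lgr Lrot47 (Lpr_gt (f198278 IH) (Lpr_af (f38349 IH) (Lpe (f38409 IH) (Lpn (LP (LK LD1_c1 LD2_c26 LD3_c19))))))
theorem f198305 : Led Lsl_bt (LP (LK LD1_c0 LD2_c29 LD3_c31)) = (LP (LK LD1_c0 LD2_c39 LD3_c56)) :=
  Lgr Lrot22 (Lpr_ct (f164264 IH) (Lpe (f175509 IH) (Lpr_cf (f71473 IH) (Lpr_gf (f37715 IH) (Lpe (f198058 IH) (Lpr_ct (f82190 IH) (Lpr_gf (f198296 IH) (Lpe (f27261 IH) (Lpr_bt (f27229 IH) (Lpe (f27236 IH) (Lpn (LP (LK LD1_c0 LD2_c39 LD3_c56)))))))))))))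
theorem f198311 : Led Lsl_bf (LP (LK LD1_c1 LD2_c3 LD3_c31)) = (LP (LK LD1_c1 LD2_c26 LD3_c23)) :=
  Lgr Lrot96 (Lpe (K9.f164278 IH) (Lpr_bt (f198305 IH) (Lpr_et (f175549 IH) (Lpn (LP (LK LD1_c1 LD2_c26 LD3_c23))))))
theorem f175552 : Led Lsl_dt (LP (LK LD1_c1 LD2_c10 LD3_c28)) = (LP (LK LD1_c1 LD2_c26 LD3_c23)) :=
  Lgr Lrot42 (Lpr_df (f175550 IH) (Lpn (LP (LK LD1_c1 LD2_c26 LD3_c23))))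
theorem f198315 : Led Lsl_bt (LP (LK LD1_c0 LD2_c36 LD3_c46)) = (LP (LK LD1_c1 LD2_c10 LD3_c28)) :=
  Lgr Lrot95 (Lpe (K9.f60208 IH) (Lpr_bf (f198311 IH) (Lpe (f175552 IH) (Lpn (LP (LK LD1_c1 LD2_c10 LD3_c28))))))
theorem f198319 : Led Lsl_bf (LP (LK LD1_c1 LD2_c4 LD3_c3)) = (LP (LK LD1_c1 LD2_c5 LD3_c53)) :=
  Lgr Lrot96 (Lpe (K9.f60163 IH) (Lpr_bt (f198315 IH) (Lpr_et (f161786 IH) (Lpn (LP (LK LD1_c1 LD2_c5 LD3_c53))))))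
theorem f198323 : Led Lsl_bt (LP (LK LD1_c0 LD2_c29 LD3_c15)) = (LP (LK LD1_c0 LD2_c30 LD3_c6)) :=
  Lgr Lrot95 (Lpe (K9.f20779 IH) (Lpr_bf (f198319 IH) (Lpe (f25987 IH) (Lpn (LP (LK LD1_c0 LD2_c30 LD3_c6))))))
theorem f198325 : Led Lsl_bf (LP (LK LD1_c0 LD2_c29 LD3_c15)) = (LP (LK LD1_c0 LD2_c30 LD3_c6)) :=
  Lgr Lrot24 (Lpr_bt (f198323 IH) (Lpn (LP (LK LD1_c0 LD2_c30 LD3_c6))))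
theorem f161785 : Led Lsl_et (LP (LK LD1_c1 LD2_c5 LD3_c54)) = (LP (LK LD1_c0 LD2_c30 LD3_c6)) :=
  Lre_e IH (LK LD1_c1 LD2_c5 LD3_c54) (LK LD1_c0 LD2_c30 LD3_c6) Lrfl Lrfl
theorem f198327 : Led Lsl_bt (LP (LK LD1_c1 LD2_c3 LD3_c18)) = (LP (LK LD1_c1 LD2_c5 LD3_c54)) :=
  Lgr Lrot119 (Lpe (K9.f20782 IH) (Lpr_bf (f198325 IH) (Lpe (f161785 IH) (Lpn (LP (LK LD1_c1 LD2_c5 LD3_c54))))))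
theorem f20726 : Led Lsl_ct (LP (LK LD1_c1 LD2_c3 LD3_c18)) = (LP (LK LD1_c2 LD2_c12 LD3_c35)) :=
  Lre_c IH (LK LD1_c1 LD2_c3 LD3_c18) (LK LD1_c2 LD2_c12 LD3_c35) Lrfl Lrfl

end

end K10

end

end Cfsg.Agent.Helper28.S1692
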