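import Cfsg.Agent.Lib.Helper28.S1692.Seeds10

set_option autoImplicit false
set_option maxRecDepth 100000
set_option linter.all false

namespace Cfsg.Agent.Helper28.S1692

open Cfsg.Agent.Helper28
open Cfsg.Spor.ON (Gen)

noncomputable section

namespace K11
abbrev LD1_c0 := D1.c0
abbrev LD1_c1 := D1.c1
abbrev LD1_c2 := D1.c2
abbrev LD1_c3 := D1.c3
abbrev LD1_c4 := D1.c4
abbrev LD1_c5 := D1.c5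
abbrev LD1_c6 := D1.c6
abbrev LD1_c7 := D1.c7
abbrev LD1_c8 := D1.c8
abbrev LD1_c9 := D1.c9
abbrev LD1_c10 := D1.c10
abbrev LD1_c11 := D1.c11
abbrev LD1_c12 := D1.c12
abbrev LD1_c13 := D1.c13
abbrev LD1_c14 := D1.c14
abbrev LD1_c15 := D1.c15
abbrev LD1_c16 := D1.c16
abbrev LD1_c17 := D1.c17
abbrev LD1_c18 := D1.c18
abbrev LD1_c19 := D1.c19
abbrev LD1_c20 := D1.c20
abbrev LD1_c21 := D1.c21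
abbrev LD1_c22 := D1.c22
abbrev LD1_c23 := D1.c23
abbrev LD1_c24 := D1.c24
abbrev LD1_c25 := D1.c25
abbrev LD1_c26 := D1.c26
abbrev LD1_c27 := D1.c27
abbrev LD1_c28 := D1.c28
abbrev LD1_c29 := D1.c29
abbrev LD1_c30 := D1.c30
abbrev LD1_c31 := D1.c31
abbrev LD1_c32 := D1.c32
abbrev LD2_c0 := D2.c0
abbrev LD2_c1 := D2.c1
abbrev LD2_c2 := D2.c2
abbrev LD2_c3 := D2.c3
abbrev LD2_c4 := D2.c4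
abbrev LD2_c5 := D2.c5
abbrev LD2_c6 := D2.c6
abbrev LD2_c7 := D2.c7
abbrev LD2_c8 := D2.c8
abbrev LD2_c9 := D2.c9
abbrev LD2_c10 := D2.c10
abbrev LD2_c11 := D2.c11
abbrev LD2_c12 := D2.c12
abbrev LD2_c13 := D2.c13
abbrev LD2_c14 := D2.c14
abbrev LD2_c15 := D2.c15
abbrev LD2_c16 := D2.c16
abbrev LD2_c17 := D2.c17
abbrev LD2_c18 := D2.c18
abbrev LD2_c19 := D2.c19
abbrev LD2_c20 := D2.c20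
abbrev LD2_c21 := D2.c21
abbrev LD2_c22 := D2.c22
abbrev LD2_c23 := D2.c23
abbrev LD2_c24 := D2.c24
abbrev LD2_c25 := D2.c25
abbrev LD2_c26 := D2.c26
abbrev LD2_c27 := D2.c27
abbrev LD2_c28 := D2.c28
abbrev LD2_c29 := D2.c29
abbrev LD2_c30 := D2.c30
abbrev LD2_c31 := D2.c31
abbrev LD2_c32 := D2.c32
abbrev LD2_c33 := D2.c33
abbrev LD2_c34 := D2.c34
abbrev LD2_c35 := D2.c35
abbrev LD2_c36 := D2.c36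
abbrev LD2_c37 := D2.c37
abbrev LD2_c38 := D2.c38
abbrev LD2_c39 := D2.c39
abbrev LD2_c40 := D2.c40
abbrev LD2_c41 := D2.c41
abbrev LD2_c42 := D2.c42
abbrev LD2_c43 := D2.c43
abbrev LD2_c44 := D2.c44
abbrev LD2_c45 := D2.c45
abbrev LD2_c46 := D2.c46
abbrev LD2_c47 := D2.c47
abbrev LD2_c48 := D2.c48
abbrev LD2_c49 := D2.c49
abbrev LD2_c50 := D2.c50
abbrev LD2_c51 := D2.c51
abbrev LD2_c52 := D2.c52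
abbrev LD2_c53 := D2.c53
abbrev LD2_c54 := D2.c54
abbrev LD2_c55 := D2.c55
abbrev LD2_c56 := D2.c56
abbrev LD2_c57 := D2.c57
abbrev LD2_c58 := D2.c58
abbrev LD2_c59 := D2.c59
abbrev LD3_c0 := D3.c0
abbrev LD3_c1 := D3.c1
abbrev LD3_c2 := D3.c2
abbrev LD3_c3 := D3.c3
abbrev LD3_c4 := D3.c4
abbrev LD3_c5 := D3.c5
abbrev LD3_c6 := D3.c6
abbrev LD3_c7 := D3.c7
abbrev LD3_c8 := D3.c8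
abbrev LD3_c9 := D3.c9
abbrev LD3_c10 := D3.c10
abbrev LD3_c11 := D3.c11
abbrev LD3_c12 := D3.c12
abbrev LD3_c13 := D3.c13
abbrev LD3_c14 := D3.c14
abbrev LD3_c15 := D3.c15
abbrev LD3_c16 := D3.c16
abbrev LD3_c17 := D3.c17
abbrev LD3_c18 := D3.c18
abbrev LD3_c19 := D3.c19
abbrev LD3_c20 := D3.c20
abbrev LD3_c21 := D3.c21
abbrev LD3_c22 := D3.c22
abbrev LD3_c23 := D3.c23
abbrev LD3_c24 := D3.c24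
abbrev LD3_c25 := D3.c25
abbrev LD3_c26 := D3.c26
abbrev LD3_c27 := D3.c27
abbrev LD3_c28 := D3.c28
abbrev LD3_c29 := D3.c29
abbrev LD3_c30 := D3.c30
abbrev LD3_c31 := D3.c31
abbrev LD3_c32 := D3.c32
abbrev LD3_c33 := D3.c33
abbrev LD3_c34 := D3.c34
abbrev LD3_c35 := D3.c35
abbrev LD3_c36 := D3.c36
abbrev LD3_c37 := D3.c37
abbrev LD3_c38 := D3.c38
abbrev LD3_c39 := D3.c39
abbrev LD3_c40 := D3.c40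
abbrev LD3_c41 := D3.c41
abbrev LD3_c42 := D3.c42
abbrev LD3_c43 := D3.c43
abbrev LD3_c44 := D3.c44
abbrev LD3_c45 := D3.c45
abbrev LD3_c46 := D3.c46
abbrev LD3_c47 := D3.c47
abbrev LD3_c48 := D3.c48
abbrev LD3_c49 := D3.c49
abbrev LD3_c50 := D3.c50
abbrev LD3_c51 := D3.c51
abbrev LD3_c52 := D3.c52
abbrev LD3_c53 := D3.c53
abbrev LD3_c54 := D3.c54
abbrev LD3_c55 := D3.c55
abbrev LD3_c56 := D3.c56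
abbrev LD3_c57 := D3.c57
abbrev LD3_c58 := D3.c58
abbrev LD3_c59 := D3.c59
abbrev LD3_c60 := D3.c60
abbrev LD3_c61 := D3.c61
abbrev LG_g := Gen.g
abbrev Lsl_gt : Gen × Bool := sl_gt
alias Lfl_gt := fl_gt
alias Lpr_gt := pr_gt
abbrev Lsl_gf : Gen × Bool := sl_gf
alias Lfl_gf := fl_gf
alias Lpr_gf := pr_gf
alias Lre_g := re_g
alias Leoe_g := eoe_g
abbrev LG_a := Gen.a
abbrev Lsl_at : Gen × Bool := sl_at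
alias Lfl_at := fl_at
alias Lpr_at := pr_at
abbrev Lsl_af : Gen × Bool := sl_af
alias Lfl_af := fl_af
alias Lpr_af := pr_af
alias Lre_a := re_a
alias Leoe_a := eoe_a
abbrev LG_b := Gen.b
abbrev Lsl_bt : Gen × Bool := sl_bt
alias Lfl_bt := fl_bt
alias Lpr_bt := pr_bt
abbrev Lsl_bf : Gen × Bool := sl_bf
alias Lfl_bf := fl_bf
alias Lpr_bf := pr_bf
alias Lre_b := re_b
alias Leoe_b := eoe_b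
abbrev LG_c := Gen.c
abbrev Lsl_ct : Gen × Bool := sl_ct
alias Lfl_ct := fl_ct
alias Lpr_ct := pr_ct
abbrev Lsl_cf : Gen × Bool := sl_cf
alias Lfl_cf := fl_cf
alias Lpr_cf := pr_cf
alias Lre_c := re_c
alias Leoe_c := eoe_c
abbrev LG_d := Gen.d
abbrev Lsl_dt : Gen × Bool := sl_dt
alias Lfl_dt := fl_dt
alias Lpr_dt := pr_dt
abbrev Lsl_df : Gen × Bool := sl_df
alias Lfl_df := fl_df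
alias Lpr_df := pr_df
alias Lre_d := re_d
alias Leoe_d := eoe_d
abbrev LG_e := Gen.e
abbrev Lsl_et : Gen × Bool := sl_et
alias Lfl_et := fl_et
alias Lpr_et := pr_et
abbrev Lsl_ef : Gen × Bool := sl_ef
alias Lfl_ef := fl_ef
alias Lpr_ef := pr_ef
alias Lre_e := re_e
alias Leoe_e := eoe_e
abbrev LG_f := Gen.f
abbrev Lsl_ft : Gen × Bool := sl_ft
alias Lfl_ft := fl_ft
alias Lpr_ft := pr_ft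
abbrev Lsl_ff : Gen × Bool := sl_ff
alias Lfl_ff := fl_ff
alias Lpr_ff := pr_ff
alias Lre_f := re_f
alias Leoe_f := eoe_f
abbrev LK := Pt.mk
abbrev LQ : Type := Qt rels S
abbrev LP (p : Pt) : LQ := P p
abbrev Led (l : Gen × Bool) (c : LQ) : LQ := ed l c
abbrev LEOK (x : Gen) (p : Pt) : Prop := EntryOK rels S fwd inv o plet idx x p
alias Lpe := pe
alias Lpn := pn
alias Lgr := gr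
alias Lpq := pq
alias Lpqs := pqs
alias Llr := lr
alias Leop := eop
alias Lefun := efun
alias Lecon := econ
theorem Lrfl {α : Sort _} {a : α} : a = a := rfl
alias Lrot0 := rot0
alias Lrot1 := rot1
alias Lrot2 := rot2
alias Lrot3 := rot3
alias Lrot4 := rot4
alias Lrot5 := rot5
alias Lrot6 := rot6
alias Lrot7 := rot7
alias Lrot8 := rot8
alias Lrot9 := rot9
alias Lrot10 := rot10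
alias Lrot11 := rot11
alias Lrot12 := rot12
alias Lrot13 := rot13
alias Lrot14 := rot14
alias Lrot15 := rot15
alias Lrot17 := rot17
alias Lrot18 := rot18
alias Lrot19 := rot19
alias Lrot20 := rot20
alias Lrot21 := rot21
alias Lrot22 := rot22
alias Lrot23 := rot23
alias Lrot24 := rot24
alias Lrot25 := rot25
alias Lrot26 := rot26
alias Lrot27 := rot27
alias Lrot28 := rot28
alias Lrot29 := rot29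
alias Lrot30 := rot30
alias Lrot31 := rot31
alias Lrot33 := rot33
alias Lrot34 := rot34
alias Lrot35 := rot35
alias Lrot36 := rot36
alias Lrot37 := rot37
alias Lrot38 := rot38
alias Lrot39 := rot39
alias Lrot40 := rot40
alias Lrot41 := rot41
alias Lrot42 := rot42
alias Lrot43 := rot43
alias Lrot44 := rot44
alias Lrot45 := rot45
alias Lrot46 := rot46
alias Lrot47 := rot47
alias Lrot48 := rot48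
alias Lrot49 := rot49
alias Lrot50 := rot50
alias Lrot51 := rot51
alias Lrot52 := rot52
alias Lrot53 := rot53
alias Lrot54 := rot54
alias Lrot55 := rot55
alias Lrot56 := rot56
alias Lrot57 := rot57
alias Lrot58 := rot58
alias Lrot59 := rot59
alias Lrot60 := rot60
alias Lrot61 := rot61
alias Lrot62 := rot62
alias Lrot63 := rot63
alias Lrot64 := rot64
alias Lrot65 := rot65
alias Lrot66 := rot66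
alias Lrot67 := rot67
alias Lrot68 := rot68
alias Lrot69 := rot69
alias Lrot70 := rot70
alias Lrot71 := rot71
alias Lrot72 := rot72
alias Lrot73 := rot73
alias Lrot74 := rot74
alias Lrot75 := rot75
alias Lrot76 := rot76
alias Lrot77 := rot77
alias Lrot78 := rot78
alias Lrot79 := rot79
alias Lrot80 := rot80
alias Lrot81 := rot81
alias Lrot82 := rot82
alias Lrot83 := rot83
alias Lrot84 := rot84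
alias Lrot85 := rot85
alias Lrot86 := rot86
alias Lrot87 := rot87
alias Lrot88 := rot88
alias Lrot90 := rot90
alias Lrot91 := rot91
alias Lrot92 := rot92
alias Lrot93 := rot93
alias Lrot94 := rot94
alias Lrot95 := rot95
alias Lrot96 := rot96
alias Lrot97 := rot97
alias Lrot98 := rot98
alias Lrot99 := rot99
alias Lrot100 := rot100
alias Lrot101 := rot101
alias Lrot102 := rot102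
alias Lrot103 := rot103
alias Lrot104 := rot104
alias Lrot105 := rot105
alias Lrot106 := rot106
alias Lrot107 := rot107
alias Lrot108 := rot108
alias Lrot109 := rot109
alias Lrot110 := rot110
alias Lrot111 := rot111
alias Lrot112 := rot112
alias Lrot113 := rot113
alias Lrot114 := rot114
alias Lrot116 := rot116
alias Lrot117 := rot117
alias Lrot118 := rot118
alias Lrot119 := rot119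
alias Lrot120 := rot120
alias Lrot121 := rot121
alias Lrot122 := rot122
alias Lrot123 := rot123
alias Lrot124 := rot124
alias Lrot125 := rot125
alias Lrot126 := rot126
alias Lrot127 := rot127
alias Lrot128 := rot128
alias Lrot129 := rot129
alias Lrot130 := rot130
alias Lrot131 := rot131
alias Lrot132 := rot132
alias Lrot133 := rot133
alias Lrot134 := rot134
alias Lrot135 := rot135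
alias Lrot136 := rot136
alias Lrot137 := rot137
alias Lrot138 := rot138
alias Lrot139 := rot139
alias Lrot140 := rot140
alias Lrot141 := rot141
alias Lrot142 := rot142
alias Lrot143 := rot143
alias Lrot144 := rot144
alias Lrot145 := rot145
alias Lrot146 := rot146
alias Lrot147 := rot147
alias Lrot148 := rot148
alias Lrot149 := rot149
alias Lrot150 := rot150
alias Lrot151 := rot151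
alias Lrot152 := rot152
alias Lrot153 := rot153
alias Lrot154 := rot154
alias Lrot155 := rot155
alias Lrot156 := rot156
alias Lrot157 := rot157
alias Lrot158 := rot158
alias Lrot160 := rot160
alias Lrot161 := rot161
alias Lrot162 := rot162
alias Lrot163 := rot163
alias Lrot164 := rot164
alias Lrot165 := rot165
alias Lrot166 := rot166
alias Lrot167 := rot167
alias Lrot168 := rot168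
alias Lrot169 := rot169
alias Lrot170 := rot170
alias Lrot171 := rot171
alias Lrot172 := rot172
alias Lrot173 := rot173
alias Lrot174 := rot174
alias Lrot176 := rot176
alias Lrot179 := rot179
alias Lrot180 := rot180
alias Lrot181 := rot181
alias Lrot183 := rot183
alias Lrot185 := rot185
alias Lrot186 := rot186
alias Lrot189 := rot189

section
variable (IH : IHT)
include IH

theorem f173276 : Led Lsl_bt (LP (LK LD1_c0 LD2_c54 LD3_c50)) = (LP (LK LD1_c1 LD2_c1 LD3_c31)) :=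
  Lgr Lrot119 (Lpe (K10.f27245 IH) (Lpr_bf (K9.f173217 IH) (Lpe (K10.f173275 IH) (Lpn (LP (LK LD1_c1 LD2_c1 LD3_c31))))))
theorem f179908 : Led Lsl_ct (LP (LK LD1_c0 LD2_c57 LD3_c5)) = (LP (LK LD1_c2 LD2_c0 LD3_c12)) :=
  Lre_c IH (LK LD1_c0 LD2_c57 LD3_c5) (LK LD1_c2 LD2_c0 LD3_c12) Lrfl Lrfl
theorem f193799 : Led Lsl_gt (LP (LK LD1_c0 LD2_c57 LD3_c5)) = (LP (LK LD1_c1 LD2_c26 LD3_c22)) :=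
  Lgr Lrot131 (Lpe (K10.f179891 IH) (Lpr_dt (K9.f179889 IH) (Lpe (K9.f179879 IH) (Lpe (K10.f193791 IH) (Lpr_gf (K10.f193795 IH) (Lpe (K9.f59126 IH) (Lpr_dt (K9.f59117 IH) (Lpe (K10.f186048 IH) (Lpe (K10.f26033 IH) (Lpr_et (K10.f185950 IH) (Lpn (LP (LK LD1_c1 LD2_c26 LD3_c22)))))))))))))
theorem f71420 : Led Lsl_gt (LP (LK LD1_c2 LD2_c15 LD3_c28)) = (LP (LK LD1_c1 LD2_c23 LD3_c26)) :=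
  Lgr Lrot46 (Lpe (K10.f71419 IH) (Lpr_ft (K2.f71415 IH) (Lpr_at (K2.f71402 IH) (Lpn (LP (LK LD1_c1 LD2_c23 LD3_c26))))))
theorem f193801 : Led Lsl_gt (LP (LK LD1_c2 LD2_c0 LD3_c12)) = (LP (LK LD1_c2 LD2_c12 LD3_c36)) :=
  Lgr Lrot94 (Lpe (f179908 IH) (Lpr_gt (f193799 IH) (Lpr_dt (K10.f27237 IH) (Lpe (K10.f37715 IH) (Lpr_dt (K10.f37531 IH) (Lpr_cf (K2.f82186 IH) (Lpe (K10.f71412 IH) (Lpe (f71420 IH) (Lpr_df (K10.f175415 IH) (Lpn (LP (LK LD1_c2 LD2_c12 LD3_c36))))))))))))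
theorem f198331 : Led Lsl_bf (LP (LK LD1_c2 LD2_c8 LD3_c45)) = (LP (LK LD1_c1 LD2_c3 LD3_c19)) :=
  Lgr Lrot156 (Lpr_gt (K10.f173298 IH) (Lpe (f173276 IH) (Lpr_ct (K10.f56044 IH) (Lpr_gt (K10.f175513 IH) (Lpe (K10.f20726 IH) (Lpr_bt (K10.f198327 IH) (Lpr_gt (K10.f180269 IH) (Lpr_ct (f179908 IH) (Lpr_gt (f193801 IH) (Lpe (K10.f20738 IH) (Lpn (LP (LK LD1_c1 LD2_c3 LD3_c19)))))))))))))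
theorem f26653 : Led Lsl_bt (LP (LK LD1_c2 LD2_c58 LD3_c9)) = (LP (LK LD1_c1 LD2_c24 LD3_c45)) :=
  Lre_b IH (LK LD1_c2 LD2_c58 LD3_c9) (LK LD1_c1 LD2_c24 LD3_c45) Lrfl Lrfl
theorem f198339 : Led Lsl_et (LP (LK LD1_c2 LD2_c8 LD3_c45)) = (LP (LK LD1_c2 LD2_c58 LD3_c9)) :=
  Lgr Lrot74 (Lpr_bf (f198331 IH) (Lpr_ef (K9.f26651 IH) (Lpe (f26653 IH) (Lpn (LP (LK LD1_c2 LD2_c58 LD3_c9))))))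
theorem f193390 : Led Lsl_df (LP (LK LD1_c1 LD2_c2 LD3_c3)) = (LP (LK LD1_c2 LD2_c8 LD3_c45)) :=
  Lgr Lrot38 (Lpr_dt (K10.f193386 IH) (Lpn (LP (LK LD1_c2 LD2_c8 LD3_c45))))
theorem f198347 : Led Lsl_gf (LP (LK LD1_c2 LD2_c28 LD3_c0)) = (LP (LK LD1_c2 LD2_c58 LD3_c9)) :=
  Lgr Lrot138 (Lpr_dt (K10.f175823 IH) (Lpe (K9.f175814 IH) (Lpr_df (K10.f59613 IH) (Lpr_et (K10.f59586 IH) (Lpe (K1.f59570 IH) (Lpe (K1.f35453 IH) (Lpr_dt (K1.f35454 IH) (Lpr_gt (K10.f35446 IH) (Lpr_df (f193390 IH) (Lpr_et (f198339 IH) (Lpn (LP (LK LD1_c2 LD2_c58 LD3_c9)))))))))))))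
theorem f100761 : Led Lsl_bt (LP (LK LD1_c4 LD2_c57 LD3_c61)) = (LP (LK LD1_c9 LD2_c46 LD3_c54)) :=
  Lre_b IH (LK LD1_c4 LD2_c57 LD3_c61) (LK LD1_c9 LD2_c46 LD3_c54) Lrfl Lrfl
theorem f100779 : Led Lsl_gt (LP (LK LD1_c9 LD2_c46 LD3_c54)) = (LP (LK LD1_c17 LD2_c56 LD3_c53)) :=
  Lre_g IH (LK LD1_c9 LD2_c46 LD3_c54) (LK LD1_c17 LD2_c56 LD3_c53) Lrfl Lrfl
theorem f175759 : Led Lsl_bt (LP (LK LD1_c1 LD2_c24 LD3_c42)) = (LP (LK LD1_c2 LD2_c58 LD3_c4)) :=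
  Lre_b IH (LK LD1_c1 LD2_c24 LD3_c42) (LK LD1_c2 LD2_c58 LD3_c4) Lrfl Lrfl
theorem f175760 : Led Lsl_gt (LP (LK LD1_c2 LD2_c58 LD3_c4)) = (LP (LK LD1_c6 LD2_c3 LD3_c59)) :=
  Lre_g IH (LK LD1_c2 LD2_c58 LD3_c4) (LK LD1_c6 LD2_c3 LD3_c59) Lrfl Lrfl
theorem f175761 : Led Lsl_bt (LP (LK LD1_c11 LD2_c51 LD3_c29)) = (LP (LK LD1_c6 LD2_c3 LD3_c59)) :=
  Lre_b IH (LK LD1_c11 LD2_c51 LD3_c29) (LK LD1_c6 LD2_c3 LD3_c59) Lrfl Lrfl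
theorem f175762 : Led Lsl_ct (LP (LK LD1_c11 LD2_c51 LD3_c29)) = (LP (LK LD1_c20 LD2_c53 LD3_c48)) :=
  Lre_c IH (LK LD1_c11 LD2_c51 LD3_c29) (LK LD1_c20 LD2_c53 LD3_c48) Lrfl Lrfl
theorem f100789 : Led Lsl_bt (LP (LK LD1_c9 LD2_c51 LD3_c18)) = (LP (LK LD1_c5 LD2_c0 LD3_c28)) :=
  Lre_b IH (LK LD1_c9 LD2_c51 LD3_c18) (LK LD1_c5 LD2_c0 LD3_c28) Lrfl Lrfl
theorem f175763 : Led Lsl_gt (LP (LK LD1_c20 LD2_c53 LD3_c48)) = (LP (LK LD1_c18 LD2_c2 LD3_c32)) :=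
  Lgr Lrot65 (Lpe (f175762 IH) (Lpr_bt (f175761 IH) (Lpe (f175760 IH) (Lpe (f175759 IH) (Lpr_ct (K0.f9350 IH) (Lpe (K9.f9383 IH) (Lpe (K10.f9433 IH) (Lpr_gf (K10.f175591 IH) (Lpe (f100789 IH) (Lpr_ct (K9.f100609 IH) (Lpn (LP (LK LD1_c18 LD2_c2 LD3_c32)))))))))))))
theorem f100852 : Led Lsl_at (LP (LK LD1_c27 LD2_c44 LD3_c19)) = (LP (LK LD1_c18 LD2_c2 LD3_c32)) :=
  Lre_a IH (LK LD1_c27 LD2_c44 LD3_c19) (LK LD1_c18 LD2_c2 LD3_c32) Lrfl Lrfl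
theorem f100845 : Led Lsl_ft (LP (LK LD1_c21 LD2_c11 LD3_c29)) = (LP (LK LD1_c27 LD2_c44 LD3_c19)) :=
  Lgr Lrot48 (Lpr_ff (K9.f100830 IH) (Lpn (LP (LK LD1_c27 LD2_c44 LD3_c19))))
theorem f175766 : Led Lsl_gf (LP (LK LD1_c20 LD2_c53 LD3_c48)) = (LP (LK LD1_c21 LD2_c11 LD3_c29)) :=
  Lgr Lrot47 (Lpr_gt (f175763 IH) (Lpe (f100852 IH) (Lpe (f100845 IH) (Lpn (LP (LK LD1_c21 LD2_c11 LD3_c29))))))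
theorem f175773 : Led Lsl_gt (LP (LK LD1_c6 LD2_c3 LD3_c59)) = (LP (LK LD1_c11 LD2_c22 LD3_c61)) :=
  Lre_g IH (LK LD1_c6 LD2_c3 LD3_c59) (LK LD1_c11 LD2_c22 LD3_c61) Lrfl Lrfl
theorem f175775 : Led Lsl_gt (LP (LK LD1_c20 LD2_c18 LD3_c8)) = (LP (LK LD1_c11 LD2_c47 LD3_c59)) :=
  Lre_g IH (LK LD1_c20 LD2_c18 LD3_c8) (LK LD1_c11 LD2_c47 LD3_c59) Lrfl Lrfl
theorem f175776 : Led Lsl_ct (LP (LK LD1_c20 LD2_c50 LD3_c26)) = (LP (LK LD1_c11 LD2_c47 LD3_c59)) :=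
  Lre_c IH (LK LD1_c20 LD2_c50 LD3_c26) (LK LD1_c11 LD2_c47 LD3_c59) Lrfl Lrfl
theorem f100826 : Led Lsl_ct (LP (LK LD1_c12 LD2_c5 LD3_c49)) = (LP (LK LD1_c21 LD2_c11 LD3_c29)) :=
  Lre_c IH (LK LD1_c12 LD2_c5 LD3_c49) (LK LD1_c21 LD2_c11 LD3_c29) Lrfl Lrfl
theorem f100863 : Led Lsl_gt (LP (LK LD1_c17 LD2_c56 LD3_c53)) = (LP (LK LD1_c9 LD2_c51 LD3_c17)) :=
  Lre_g IH (LK LD1_c17 LD2_c56 LD3_c53) (LK LD1_c9 LD2_c51 LD3_c17) Lrfl Lrfl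
theorem f175777 : Led Lsl_bt (LP (LK LD1_c20 LD2_c50 LD3_c26)) = (LP (LK LD1_c17 LD2_c56 LD3_c53)) :=
  Lgr Lrot22 (Lpr_ct (f175776 IH) (Lpe (f175775 IH) (Lpe (K10.f175774 IH) (Lpe (f175773 IH) (Lpe (f175761 IH) (Lpr_ct (f175762 IH) (Lpr_gf (f175766 IH) (Lpe (f100826 IH) (Lpe (K9.f100718 IH) (Lpe (f100863 IH) (Lpn (LP (LK LD1_c17 LD2_c56 LD3_c53)))))))))))))
theorem f175784 : Led Lsl_gt (LP (LK LD1_c11 LD2_c47 LD3_c59)) = (LP (LK LD1_c6 LD2_c1 LD3_c38)) :=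
  Lre_g IH (LK LD1_c11 LD2_c47 LD3_c59) (LK LD1_c6 LD2_c1 LD3_c38) Lrfl Lrfl
theorem f175786 : Led Lsl_bt (LP (LK LD1_c2 LD2_c58 LD3_c4)) = (LP (LK LD1_c1 LD2_c24 LD3_c42)) :=
  Lre_b IH (LK LD1_c2 LD2_c58 LD3_c4) (LK LD1_c1 LD2_c24 LD3_c42) Lrfl Lrfl
theorem f175396 : Led Lsl_gt (LP (LK LD1_c1 LD2_c24 LD3_c42)) = (LP (LK LD1_c2 LD2_c58 LD3_c2)) :=
  Lre_g IH (LK LD1_c1 LD2_c24 LD3_c42) (LK LD1_c2 LD2_c58 LD3_c2) Lrfl Lrfl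
theorem f186053 : Led Lsl_cf (LP (LK LD1_c2 LD2_c58 LD3_c13)) = (LP (LK LD1_c2 LD2_c58 LD3_c2)) :=
  Lgr Lrot125 (Lpr_gt (K10.f186042 IH) (Lpe (K9.f72514 IH) (Lpr_bt (f100761 IH) (Lpr_gt (f100779 IH) (Lpe (f175777 IH) (Lpr_ct (f175776 IH) (Lpr_gt (f175784 IH) (Lpe (K10.f175785 IH) (Lpr_bt (f175786 IH) (Lpr_gt (f175396 IH) (Lpn (LP (LK LD1_c2 LD2_c58 LD3_c2)))))))))))))
theorem f9389 : Led Lsl_dt (LP (LK LD1_c2 LD2_c58 LD3_c13)) = (LP (LK LD1_c1 LD2_c24 LD3_c46)) :=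
  Lre_d IH (LK LD1_c2 LD2_c58 LD3_c13) (LK LD1_c1 LD2_c24 LD3_c46) Lrfl Lrfl
theorem f176817 : Led Lsl_ct (LP (LK LD1_c1 LD2_c21 LD3_c34)) = (LP (LK LD1_c0 LD2_c37 LD3_c40)) :=
  Lre_c IH (LK LD1_c1 LD2_c21 LD3_c34) (LK LD1_c0 LD2_c37 LD3_c40) Lrfl Lrfl
theorem f186104 : Led Lsl_gf (LP (LK LD1_c1 LD2_c21 LD3_c34)) = (LP (LK LD1_c2 LD2_c28 LD3_c2)) :=
  Lgr Lrot147 (Lpr_ct (f176817 IH) (Lpr_gt (K10.f176836 IH) (Lpr_ct (K10.f9388 IH) (Lpe (f9389 IH) (Lpr_cf (f186053 IH) (Lpe (f175396 IH) (Lpe (K0.f9346 IH) (Lpe (K9.f9383 IH) (Lpr_df (K9.f175393 IH) (Lpn (LP (LK LD1_c2 LD2_c28 LD3_c2))))))))))))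
theorem f176838 : Led Lsl_ct (LP (LK LD1_c0 LD2_c37 LD3_c40)) = (LP (LK LD1_c1 LD2_c21 LD3_c34)) :=
  Lre_c IH (LK LD1_c0 LD2_c37 LD3_c40) (LK LD1_c1 LD2_c21 LD3_c34) Lrfl Lrfl
theorem f26647 : Led Lsl_bt (LP (LK LD1_c1 LD2_c24 LD3_c45)) = (LP (LK LD1_c2 LD2_c58 LD3_c9)) :=
  Lre_b IH (LK LD1_c1 LD2_c24 LD3_c45) (LK LD1_c2 LD2_c58 LD3_c9) Lrfl Lrfl
theorem f176846 : Led Lsl_dt (LP (LK LD1_c1 LD2_c21 LD3_c34)) = (LP (LK LD1_c2 LD2_c51 LD3_c5)) :=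
  Lre_d IH (LK LD1_c1 LD2_c21 LD3_c34) (LK LD1_c2 LD2_c51 LD3_c5) Lrfl Lrfl
theorem f176720 : Led Lsl_ct (LP (LK LD1_c4 LD2_c39 LD3_c29)) = (LP (LK LD1_c6 LD2_c3 LD3_c30)) :=
  Lgr Lrot8 (Lpr_gt (K10.f26686 IH) (Lpr_dt (K10.f26685 IH) (Lpr_gt (K10.f176558 IH) (Lpr_dt (K9.f100603 IH) (Lpe (K9.f100614 IH) (Lpe (K9.f73952 IH) (Lpe (K10.f175576 IH) (Lpe (K10.f175662 IH) (Lpe (K10.f175389 IH) (Lpn (LP (LK LD1_c6 LD2_c3 LD3_c30))))))))))))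
theorem f176728 : Led Lsl_gf (LP (LK LD1_c4 LD2_c39 LD3_c29)) = (LP (LK LD1_c2 LD2_c16 LD3_c45)) :=
  Lgr Lrot147 (Lpr_ct (f176720 IH) (Lpr_gt (K10.f175389 IH) (Lpr_ct (K10.f175388 IH) (Lpe (K10.f26783 IH) (Lpr_cf (K9.f175336 IH) (Lpe (K9.f26029 IH) (Lpe (K9.f26035 IH) (Lpe (K10.f175886 IH) (Lpe (K10.f24450 IH) (Lpn (LP (LK LD1_c2 LD2_c16 LD3_c45))))))))))))
theorem f186023 : Led Lsl_gt (LP (LK LD1_c1 LD2_c11 LD3_c10)) = (LP (LK LD1_c0 LD2_c41 LD3_c7)) :=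
  Lgr Lrot49 (Lpe (K9.f100654 IH) (Lpr_gf (K9.f100652 IH) (Lpe (K9.f100618 IH) (Lpe (K9.f176767 IH) (Lpr_dt (K10.f176617 IH) (Lpe (f176728 IH) (Lpr_dt (K10.f26698 IH) (Lpr_cf (K10.f186015 IH) (Lpe (K9.f59115 IH) (Lpn (LP (LK LD1_c0 LD2_c41 LD3_c7))))))))))))
theorem f176076 : Led Lsl_dt (LP (LK LD1_c2 LD2_c16 LD3_c38)) = (LP (LK LD1_c1 LD2_c5 LD3_c12)) :=
  Lre_d IH (LK LD1_c2 LD2_c16 LD3_c38) (LK LD1_c1 LD2_c5 LD3_c12) Lrfl Lrfl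
theorem f186109 : Led Lsl_gt (LP (LK LD1_c2 LD2_c51 LD3_c5)) = (LP (LK LD1_c2 LD2_c16 LD3_c38)) :=
  Lgr Lrot49 (Lpe (f176846 IH) (Lpr_gf (f186104 IH) (Lpe (K10.f100655 IH) (Lpr_gt (f186023 IH) (Lpr_dt (K9.f59115 IH) (Lpr_gt (K10.f179947 IH) (Lpr_dt (K9.f101510 IH) (Lpe (K9.f176801 IH) (Lpe (f176076 IH) (Lpn (LP (LK LD1_c2 LD2_c16 LD3_c38))))))))))))
theorem f176819 : Led Lsl_ct (LP (LK LD1_c5 LD2_c49 LD3_c58)) = (LP (LK LD1_c2 LD2_c51 LD3_c5)) :=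
  Lre_c IH (LK LD1_c5 LD2_c49 LD3_c58) (LK LD1_c2 LD2_c51 LD3_c5) Lrfl Lrfl
theorem f186115 : Led Lsl_gf (LP (LK LD1_c5 LD2_c49 LD3_c58)) = (LP (LK LD1_c4 LD2_c39 LD3_c30)) :=
  Lgr Lrot147 (Lpr_ct (f176819 IH) (Lpr_gt (f186109 IH) (Lpr_ct (K10.f176062 IH) (Lpr_df (K10.f176063 IH) (Lpe (K9.f176054 IH) (Lpe (K9.f169774 IH) (Lpe (K0.f9335 IH) (Lpe (K9.f176081 IH) (Lpe (K10.f176697 IH) (Lpn (LP (LK LD1_c4 LD2_c39 LD3_c30))))))))))))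
theorem f176818 : Led Lsl_dt (LP (LK LD1_c2 LD2_c51 LD3_c5)) = (LP (LK LD1_c1 LD2_c21 LD3_c34)) :=
  Lre_d IH (LK LD1_c2 LD2_c51 LD3_c5) (LK LD1_c1 LD2_c21 LD3_c34) Lrfl Lrfl
theorem f176839 : Led Lsl_gt (LP (LK LD1_c1 LD2_c21 LD3_c34)) = (LP (LK LD1_c2 LD2_c27 LD3_c60)) :=
  Lgr Lrot94 (Lpe (f176838 IH) (Lpr_gt (K10.f176836 IH) (Lpr_dt (K9.f9399 IH) (Lpr_gt (K9.f9421 IH) (Lpe (K0.f9409 IH) (Lpe (K0.f9381 IH) (Lpe (K0.f9380 IH) (Lpe (K10.f9427 IH) (Lpr_df (K10.f175693 IH) (Lpn (LP (LK LD1_c2 LD2_c27 LD3_c60))))))))))))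
theorem f176847 : Led Lsl_gf (LP (LK LD1_c0 LD2_c37 LD3_c40)) = (LP (LK LD1_c0 LD2_c39 LD3_c3)) :=
  Lgr Lrot147 (Lpr_ct (f176838 IH) (Lpr_gt (f176839 IH) (Lpr_ct (K10.f26034 IH) (Lpe (K9.f26030 IH) (Lpe (K10.f175326 IH) (Lpe (K10.f26781 IH) (Lpe (K0.f9348 IH) (Lpe (K9.f9384 IH) (Lpe (K9.f9385 IH) (Lpn (LP (LK LD1_c0 LD2_c39 LD3_c3))))))))))))
theorem f9454 : Led Lsl_ct (LP (LK LD1_c1 LD2_c24 LD3_c47)) = (LP (LK LD1_c0 LD2_c39 LD3_c3)) :=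
  Lre_c IH (LK LD1_c1 LD2_c24 LD3_c47) (LK LD1_c0 LD2_c39 LD3_c3) Lrfl Lrfl
theorem f186144 : Led Lsl_gf (LP (LK LD1_c1 LD2_c24 LD3_c47)) = (LP (LK LD1_c2 LD2_c58 LD3_c11)) :=
  Lgr Lrot147 (Lpr_ct (f9454 IH) (Lpe (f176847 IH) (Lpr_ct (f176838 IH) (Lpe (f176818 IH) (Lpe (f176819 IH) (Lpr_gf (f186115 IH) (Lpe (K10.f26700 IH) (Lpe (K10.f26686 IH) (Lpr_df (K10.f26688 IH) (Lpn (LP (LK LD1_c2 LD2_c58 LD3_c11))))))))))))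
theorem f164293 : Led Lsl_dt (LP (LK LD1_c1 LD2_c24 LD3_c47)) = (LP (LK LD1_c2 LD2_c58 LD3_c14)) :=
  Lre_d IH (LK LD1_c1 LD2_c24 LD3_c47) (LK LD1_c2 LD2_c58 LD3_c14) Lrfl Lrfl
theorem f186148 : Led Lsl_gt (LP (LK LD1_c2 LD2_c58 LD3_c14)) = (LP (LK LD1_c1 LD2_c27 LD3_c40)) :=
  Lgr Lrot49 (Lpe (f164293 IH) (Lpr_gf (f186144 IH) (Lpr_cf (K10.f186015 IH) (Lpr_gt (K10.f179947 IH) (Lpr_dt (K9.f101510 IH) (Lpr_gt (K9.f101509 IH) (Lpr_dt (K9.f100645 IH) (Lpe (K9.f100644 IH) (Lpe (K9.f100595 IH) (Lpn (LP (LK LD1_c1 LD2_c27 LD3_c40))))))))))))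
theorem f9343 : Led Lsl_gt (LP (LK LD1_c2 LD2_c58 LD3_c3)) = (LP (LK LD1_c1 LD2_c24 LD3_c42)) :=
  Lre_g IH (LK LD1_c2 LD2_c58 LD3_c3) (LK LD1_c1 LD2_c24 LD3_c42) Lrfl Lrfl
theorem f9344 : Led Lsl_gf (LP (LK LD1_c2 LD2_c58 LD3_c3)) = (LP (LK LD1_c2 LD2_c58 LD3_c5)) :=
  Lgr Lrot47 (Lpr_gt (f9343 IH) (Lpe (K0.f9327 IH) (Lpr_ff (K0.f9316 IH) (Lpn (LP (LK LD1_c2 LD2_c58 LD3_c5))))))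
theorem f186150 : Led Lsl_cf (LP (LK LD1_c2 LD2_c58 LD3_c14)) = (LP (LK LD1_c2 LD2_c58 LD3_c3)) :=
  Lgr Lrot169 (Lpr_gt (f186148 IH) (Lpr_ct (K9.f100690 IH) (Lpe (K9.f100696 IH) (Lpe (K9.f100683 IH) (Lpe (K10.f186042 IH) (Lpr_cf (f186053 IH) (Lpe (f175396 IH) (Lpe (K0.f9349 IH) (Lpe (f9344 IH) (Lpn (LP (LK LD1_c2 LD2_c58 LD3_c3))))))))))))
theorem f9453 : Led Lsl_dt (LP (LK LD1_c2 LD2_c58 LD3_c14)) = (LP (LK LD1_c1 LD2_c24 LD3_c47)) :=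
  Lre_d IH (LK LD1_c2 LD2_c58 LD3_c14) (LK LD1_c1 LD2_c24 LD3_c47) Lrfl Lrfl
theorem f9452 : Led Lsl_ct (LP (LK LD1_c0 LD2_c39 LD3_c3)) = (LP (LK LD1_c1 LD2_c24 LD3_c47)) :=
  Lre_c IH (LK LD1_c0 LD2_c39 LD3_c3) (LK LD1_c1 LD2_c24 LD3_c47) Lrfl Lrfl
theorem f186163 : Led Lsl_gf (LP (LK LD1_c2 LD2_c58 LD3_c10)) = (LP (LK LD1_c2 LD2_c27 LD3_c60)) :=
  Lgr Lrot147 (Lpr_ct (K10.f26654 IH) (Lpr_gt (K9.f164265 IH) (Lpr_ct (f9452 IH) (Lpe (f9453 IH) (Lpr_cf (f186150 IH) (Lpr_gf (f9344 IH) (Lpe (K0.f9337 IH) (Lpe (K10.f9427 IH) (Lpr_df (K10.f175693 IH) (Lpn (LP (LK LD1_c2 LD2_c27 LD3_c60))))))))))))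
theorem f198351 : Led Lsl_bt (LP (LK LD1_c0 LD2_c37 LD3_c40)) = (LP (LK LD1_c0 LD2_c41 LD3_c7)) :=
  Lgr Lrot130 (Lpr_ct (f176838 IH) (Lpr_gf (f186104 IH) (Lpe (K10.f100655 IH) (Lpr_bt (K10.f175304 IH) (Lpr_gf (f198347 IH) (Lpe (f26647 IH) (Lpr_ct (K9.f26648 IH) (Lpr_gf (f186163 IH) (Lpe (K10.f26037 IH) (Lpr_gf (K10.f186013 IH) (Lpn (LP (LK LD1_c0 LD2_c41 LD3_c7)))))))))))))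
theorem f198359 : Led Lsl_bf (LP (LK LD1_c0 LD2_c16 LD3_c45)) = (LP (LK LD1_c0 LD2_c18 LD3_c23)) :=
  Lgr Lrot96 (Lpr_et (K9.f176822 IH) (Lpr_bt (f198351 IH) (Lpr_et (K9.f59114 IH) (Lpn (LP (LK LD1_c0 LD2_c18 LD3_c23))))))
theorem f198479 : Led Lsl_bt (LP (LK LD1_c0 LD2_c37 LD3_c39)) = (LP (LK LD1_c0 LD2_c41 LD3_c6)) :=
  Lgr Lrot95 (Lpe (K10.f146330 IH) (Lpr_bf (f198359 IH) (Lpe (K10.f59014 IH) (Lpn (LP (LK LD1_c0 LD2_c41 LD3_c6))))))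
theorem f198483 : Led Lsl_bf (LP (LK LD1_c0 LD2_c17 LD3_c2)) = (LP (LK LD1_c0 LD2_c32 LD3_c48)) :=
  Lgr Lrot96 (Lpe (K9.f176823 IH) (Lpr_bt (f198479 IH) (Lpe (K10.f59519 IH) (Lpn (LP (LK LD1_c0 LD2_c32 LD3_c48))))))
theorem f198485 : Led Lsl_bt (LP (LK LD1_c0 LD2_c17 LD3_c2)) = (LP (LK LD1_c0 LD2_c32 LD3_c48)) :=
  Lgr Lrot127 (Lpr_bf (f198483 IH) (Lpn (LP (LK LD1_c0 LD2_c32 LD3_c48))))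
theorem f24257 : Led Lsl_ct (LP (LK LD1_c0 LD2_c17 LD3_c2)) = (LP (LK LD1_c0 LD2_c38 LD3_c15)) :=
  Lre_c IH (LK LD1_c0 LD2_c17 LD3_c2) (LK LD1_c0 LD2_c38 LD3_c15) Lrfl Lrfl
theorem f37719 : Led Lsl_ft (LP (LK LD1_c0 LD2_c14 LD3_c45)) = (LP (LK LD1_c0 LD2_c32 LD3_c50)) :=
  Lre_f IH (LK LD1_c0 LD2_c14 LD3_c45) (LK LD1_c0 LD2_c32 LD3_c50) Lrfl Lrfl
theorem f37721 : Led Lsl_gt (LP (LK LD1_c0 LD2_c32 LD3_c48)) = (LP (LK LD1_c0 LD2_c39 LD3_c57)) :=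
  Lgr Lrot46 (Lpe (K10.f37720 IH) (Lpr_ft (f37719 IH) (Lpr_at (K1.f37713 IH) (Lpn (LP (LK LD1_c0 LD2_c39 LD3_c57))))))
theorem f24427 : Led Lsl_ct (LP (LK LD1_c0 LD2_c17 LD3_c3)) = (LP (LK LD1_c0 LD2_c38 LD3_c17)) :=
  Lre_c IH (LK LD1_c0 LD2_c17 LD3_c3) (LK LD1_c0 LD2_c38 LD3_c17) Lrfl Lrfl
theorem f24486 : Led Lsl_bt (LP (LK LD1_c0 LD2_c17 LD3_c3)) = (LP (LK LD1_c0 LD2_c38 LD3_c16)) :=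
  Lre_b IH (LK LD1_c0 LD2_c17 LD3_c3) (LK LD1_c0 LD2_c38 LD3_c16) Lrfl Lrfl
theorem f82189 : Led Lsl_bt (LP (LK LD1_c0 LD2_c14 LD3_c45)) = (LP (LK LD1_c0 LD2_c32 LD3_c47)) :=
  Lre_b IH (LK LD1_c0 LD2_c14 LD3_c45) (LK LD1_c0 LD2_c32 LD3_c47) Lrfl Lrfl
theorem f198501 : Led Lsl_gf (LP (LK LD1_c0 LD2_c38 LD3_c15)) = (LP (LK LD1_c0 LD2_c17 LD3_c10)) :=
  Lgr Lrot126 (Lpe (f24257 IH) (Lpr_bt (f198485 IH) (Lpr_gt (f37721 IH) (Lpe (K10.f71477 IH) (Lpr_gt (K10.f71452 IH) (Lpe (f24427 IH) (Lpr_bt (f24486 IH) (Lpe (K10.f198260 IH) (Lpe (f82189 IH) (Lpr_ct (K2.f82174 IH) (Lpn (LP (LK LD1_c0 LD2_c17 LD3_c10)))))))))))))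
theorem f24248 : Led Lsl_ct (LP (LK LD1_c1 LD2_c18 LD3_c57)) = (LP (LK LD1_c0 LD2_c36 LD3_c22)) :=
  Lre_c IH (LK LD1_c1 LD2_c18 LD3_c57) (LK LD1_c0 LD2_c36 LD3_c22) Lrfl Lrfl
theorem f26627 : Led Lsl_ct (LP (LK LD1_c1 LD2_c4 LD3_c30)) = (LP (LK LD1_c0 LD2_c29 LD3_c30)) :=
  Lre_c IH (LK LD1_c1 LD2_c4 LD3_c30) (LK LD1_c0 LD2_c29 LD3_c30) Lrfl Lrfl
theorem f193806 : Led Lsl_gt (LP (LK LD1_c0 LD2_c29 LD3_c38)) = (LP (LK LD1_c1 LD2_c4 LD3_c30)) :=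
  Lgr Lrot150 (Lpr_cf (K2.f71449 IH) (Lpe (K10.f27236 IH) (Lpe (K10.f175545 IH) (Lpr_gt (K10.f180269 IH) (Lpr_ct (f179908 IH) (Lpr_gt (f193801 IH) (Lpr_ct (K10.f20739 IH) (Lpr_df (K9.f26625 IH) (Lpe (f26627 IH) (Lpn (LP (LK LD1_c1 LD2_c4 LD3_c30))))))))))))
theorem f177795 : Led Lsl_et (LP (LK LD1_c0 LD2_c39 LD3_c39)) = (LP (LK LD1_c1 LD2_c25 LD3_c49)) :=
  Lre_e IH (LK LD1_c0 LD2_c39 LD3_c39) (LK LD1_c1 LD2_c25 LD3_c49) Lrfl Lrfl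
theorem f177796 : Led Lsl_cf (LP (LK LD1_c0 LD2_c57 LD3_c32)) = (LP (LK LD1_c1 LD2_c25 LD3_c49)) :=
  Lgr Lrot39 (Lpr_et (K10.f55617 IH) (Lpr_ct (K9.f177789 IH) (Lpr_et (f177795 IH) (Lpn (LP (LK LD1_c1 LD2_c25 LD3_c49))))))
theorem f178999 : Led Lsl_dt (LP (LK LD1_c3 LD2_c0 LD3_c4)) = (LP (LK LD1_c1 LD2_c25 LD3_c49)) :=
  Lre_d IH (LK LD1_c3 LD2_c0 LD3_c4) (LK LD1_c1 LD2_c25 LD3_c49) Lrfl Lrfl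
theorem f26712 : Led Lsl_dt (LP (LK LD1_c1 LD2_c4 LD3_c30)) = (LP (LK LD1_c2 LD2_c14 LD3_c46)) :=
  Lre_d IH (LK LD1_c1 LD2_c4 LD3_c30) (LK LD1_c2 LD2_c14 LD3_c46) Lrfl Lrfl
theorem f193810 : Led Lsl_gf (LP (LK LD1_c3 LD2_c0 LD3_c4)) = (LP (LK LD1_c2 LD2_c14 LD3_c46)) :=
  Lgr Lrot154 (Lpr_dt (f178999 IH) (Lpe (f177796 IH) (Lpe (K10.f53316 IH) (Lpr_gf (K10.f56042 IH) (Lpe (K10.f27199 IH) (Lpe (K10.f27196 IH) (Lpe (K2.f71449 IH) (Lpr_gt (f193806 IH) (Lpr_dt (f26712 IH) (Lpn (LP (LK LD1_c2 LD2_c14 LD3_c46))))))))))))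
theorem f23024 : Led Lsl_et (LP (LK LD1_c0 LD2_c13 LD3_c1)) = (LP (LK LD1_c0 LD2_c29 LD3_c38)) :=
  Lre_e IH (LK LD1_c0 LD2_c13 LD3_c1) (LK LD1_c0 LD2_c29 LD3_c38) Lrfl Lrfl
theorem f34728 : Led Lsl_ct (LP (LK LD1_c0 LD2_c29 LD3_c38)) = (LP (LK LD1_c0 LD2_c17 LD3_c56)) :=
  Lgr Lrot15 (Lpe (f23024 IH) (Lpr_cf (K0.f34712 IH) (Lpe (K1.f27204 IH) (Lpn (LP (LK LD1_c0 LD2_c17 LD3_c56))))))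
theorem f193820 : Led Lsl_cf (LP (LK LD1_c1 LD2_c25 LD3_c49)) = (LP (LK LD1_c0 LD2_c57 LD3_c32)) :=
  Lgr Lrot14 (Lpe (f178999 IH) (Lpr_gf (f193810 IH) (Lpe (f26712 IH) (Lpe (f193806 IH) (Lpr_ct (f34728 IH) (Lpr_gt (K10.f27196 IH) (Lpr_dt (K10.f27199 IH) (Lpe (K10.f56042 IH) (Lpr_dt (K10.f53316 IH) (Lpn (LP (LK LD1_c0 LD2_c57 LD3_c32))))))))))))
theorem f198508 : Led Lsl_gf (LP (LK LD1_c1 LD2_c18 LD3_c57)) = (LP (LK LD1_c1 LD2_c25 LD3_c49)) :=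
  Lgr Lrot104 (Lpr_ct (f24248 IH) (Lpe (K9.f24217 IH) (Lpe (K10.f24238 IH) (Lpr_gf (f198501 IH) (Lpe (K2.f82174 IH) (Lpe (K10.f59524 IH) (Lpe (K10.f186475 IH) (Lpe (K10.f186489 IH) (Lpe (f193820 IH) (Lpn (LP (LK LD1_c1 LD2_c25 LD3_c49))))))))))))
theorem f24464 : Led Lsl_et (LP (LK LD1_c2 LD2_c45 LD3_c17)) = (LP (LK LD1_c1 LD2_c18 LD3_c57)) :=
  Lre_e IH (LK LD1_c2 LD2_c45 LD3_c17) (LK LD1_c1 LD2_c18 LD3_c57) Lrfl Lrfl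
theorem f20757 : Led Lsl_dt (LP (LK LD1_c0 LD2_c39 LD3_c39)) = (LP (LK LD1_c1 LD2_c25 LD3_c48)) :=
  Lre_d IH (LK LD1_c0 LD2_c39 LD3_c39) (LK LD1_c1 LD2_c25 LD3_c48) Lrfl Lrfl
theorem f183214 : Led Lsl_dt (LP (LK LD1_c0 LD2_c56 LD3_c59)) = (LP (LK LD1_c0 LD2_c26 LD3_c40)) :=
  Lgr Lrot77 (Lpr_ef (K9.f183210 IH) (Lpe (K9.f6761 IH) (Lpe (K9.f53338 IH) (Lpe (K9.f51597 IH) (Lpe (K9.f53323 IH) (Lpn (LP (LK LD1_c0 LD2_c26 LD3_c40))))))))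
theorem f53172 : Led Lsl_dt (LP (LK LD1_c0 LD2_c26 LD3_c9)) = (LP (LK LD1_c0 LD2_c24 LD3_c47)) :=
  Lre_d IH (LK LD1_c0 LD2_c26 LD3_c9) (LK LD1_c0 LD2_c24 LD3_c47) Lrfl Lrfl
theorem f53173 : Led Lsl_et (LP (LK LD1_c0 LD2_c26 LD3_c9)) = (LP (LK LD1_c0 LD2_c57 LD3_c32)) :=
  Lre_e IH (LK LD1_c0 LD2_c26 LD3_c9) (LK LD1_c0 LD2_c57 LD3_c32) Lrfl Lrfl
theorem f183223 : Led Lsl_gt (LP (LK LD1_c0 LD2_c57 LD3_c32)) = (LP (LK LD1_c1 LD2_c10 LD3_c20)) :=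
  Lgr Lrot137 (Lpe (f53173 IH) (Lpr_dt (f53172 IH) (Lpr_gf (K9.f53165 IH) (Lpe (f183214 IH) (Lpr_et (K9.f183216 IH) (Lpe (K9.f53179 IH) (Lpr_ef (K1.f36213 IH) (Lpr_dt (K1.f27234 IH) (Lpe (f37721 IH) (Lpr_df (K10.f179904 IH) (Lpn (LP (LK LD1_c1 LD2_c10 LD3_c20)))))))))))))
theorem f71278 : Led Lsl_dt (LP (LK LD1_c2 LD2_c15 LD3_c29)) = (LP (LK LD1_c1 LD2_c4 LD3_c48)) :=
  Lre_d IH (LK LD1_c2 LD2_c15 LD3_c29) (LK LD1_c1 LD2_c4 LD3_c48) Lrfl Lrfl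
theorem f198559 : Led Lsl_gt (LP (LK LD1_c1 LD2_c23 LD3_c25)) = (LP (LK LD1_c2 LD2_c15 LD3_c29)) :=
  Lgr Lrot49 (Lpr_df (K10.f24456 IH) (Lpr_gf (f198508 IH) (Lpr_cf (f193820 IH) (Lpr_gt (f183223 IH) (Lpe (K10.f179904 IH) (Lpr_gt (f37721 IH) (Lpr_dt (K1.f27234 IH) (Lpe (K2.f71465 IH) (Lpe (f71278 IH) (Lpn (LP (LK LD1_c2 LD2_c15 LD3_c29))))))))))))
theorem f71229 : Led Lsl_dt (LP (LK LD1_c4 LD2_c36 LD3_c28)) = (LP (LK LD1_c2 LD2_c15 LD3_c23)) :=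
  Lre_d IH (LK LD1_c4 LD2_c36 LD3_c28) (LK LD1_c2 LD2_c15 LD3_c23) Lrfl Lrfl
theorem f71230 : Led Lsl_et (LP (LK LD1_c9 LD2_c9 LD3_c4)) = (LP (LK LD1_c4 LD2_c36 LD3_c28)) :=
  Lre_e IH (LK LD1_c9 LD2_c9 LD3_c4) (LK LD1_c4 LD2_c36 LD3_c28) Lrfl Lrfl
theorem f71231 : Led Lsl_dt (LP (LK LD1_c1 LD2_c22 LD3_c57)) = (LP (LK LD1_c2 LD2_c53 LD3_c55)) :=
  Lre_d IH (LK LD1_c1 LD2_c22 LD3_c57) (LK LD1_c2 LD2_c53 LD3_c55) Lrfl Lrfl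
theorem f71232 : Led Lsl_et (LP (LK LD1_c2 LD2_c53 LD3_c55)) = (LP (LK LD1_c5 LD2_c55 LD3_c10)) :=
  Lre_e IH (LK LD1_c2 LD2_c53 LD3_c55) (LK LD1_c5 LD2_c55 LD3_c10) Lrfl Lrfl
theorem f71233 : Led Lsl_df (LP (LK LD1_c9 LD2_c9 LD3_c4)) = (LP (LK LD1_c5 LD2_c55 LD3_c10)) :=
  Lgr Lrot70 (Lpr_et (f71230 IH) (Lpr_dt (f71229 IH) (Lpr_et (K2.f71204 IH) (Lpr_dt (f71231 IH) (Lpr_et (f71232 IH) (Lpn (LP (LK LD1_c5 LD2_c55 LD3_c10))))))))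
theorem f71251 : Led Lsl_dt (LP (LK LD1_c9 LD2_c9 LD3_c4)) = (LP (LK LD1_c5 LD2_c55 LD3_c10)) :=
  Lgr Lrot42 (Lpr_df (f71233 IH) (Lpn (LP (LK LD1_c5 LD2_c55 LD3_c10))))
theorem f71269 : Led Lsl_bt (LP (LK LD1_c4 LD2_c36 LD3_c36)) = (LP (LK LD1_c9 LD2_c9 LD3_c4)) :=
  Lre_b IH (LK LD1_c4 LD2_c36 LD3_c36) (LK LD1_c9 LD2_c9 LD3_c4) Lrfl Lrfl
theorem f71271 : Led Lsl_df (LP (LK LD1_c4 LD2_c36 LD3_c36)) = (LP (LK LD1_c2 LD2_c54 LD3_c4)) :=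
  Lgr Lrot12 (Lpr_bt (f71269 IH) (Lpr_dt (f71251 IH) (Lpr_bt (K2.f71270 IH) (Lpn (LP (LK LD1_c2 LD2_c54 LD3_c4))))))
theorem f71281 : Led Lsl_et (LP (LK LD1_c1 LD2_c4 LD3_c48)) = (LP (LK LD1_c0 LD2_c38 LD3_c26)) :=
  Lgr Lrot71 (Lpe (f71278 IH) (Lpe (K2.f71277 IH) (Lpr_df (f71271 IH) (Lpe (K2.f71279 IH) (Lpe (K9.f71280 IH) (Lpn (LP (LK LD1_c0 LD2_c38 LD3_c26))))))))
theorem f198567 : Led Lsl_gt (LP (LK LD1_c2 LD2_c33 LD3_c50)) = (LP (LK LD1_c1 LD2_c25 LD3_c48)) :=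
  Lgr Lrot112 (Lpe (K10.f20711 IH) (Lpr_et (K10.f185097 IH) (Lpr_gf (K10.f185082 IH) (Lpe (f71281 IH) (Lpr_dt (K10.f71294 IH) (Lpe (f198559 IH) (Lpr_df (K10.f24456 IH) (Lpr_gf (f198508 IH) (Lpe (f177795 IH) (Lpr_dt (f20757 IH) (Lpn (LP (LK LD1_c1 LD2_c25 LD3_c48)))))))))))))
theorem f198570 : Led Lsl_gt (LP (LK LD1_c0 LD2_c57 LD3_c0)) = (LP (LK LD1_c1 LD2_c13 LD3_c54)) :=
  Lgr Lrot137 (Lpe (K9.f175331 IH) (Lpr_dt (K10.f26783 IH) (Lpe (K10.f9419 IH) (Lpr_df (K10.f185966 IH) (Lpr_et (f24464 IH) (Lpr_gf (f198508 IH) (Lpe (f177795 IH) (Lpr_dt (f20757 IH) (Lpe (f198567 IH) (Lpe (K10.f20711 IH) (Lpn (LP (LK LD1_c1 LD2_c13 LD3_c54)))))))))))))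
theorem f177748 : Led Lsl_et (LP (LK LD1_c1 LD2_c12 LD3_c7)) = (LP (LK LD1_c2 LD2_c30 LD3_c13)) :=
  Lre_e IH (LK LD1_c1 LD2_c12 LD3_c7) (LK LD1_c2 LD2_c30 LD3_c13) Lrfl Lrfl
theorem f164753 : Led Lsl_dt (LP (LK LD1_c1 LD2_c12 LD3_c7)) = (LP (LK LD1_c2 LD2_c30 LD3_c12)) :=
  Lre_d IH (LK LD1_c1 LD2_c12 LD3_c7) (LK LD1_c2 LD2_c30 LD3_c12) Lrfl Lrfl
theorem f198576 : Led Lsl_et (LP (LK LD1_c0 LD2_c34 LD3_c14)) = (LP (LK LD1_c1 LD2_c13 LD3_c54)) :=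
  Lre_e IH (LK LD1_c0 LD2_c34 LD3_c14) (LK LD1_c1 LD2_c13 LD3_c54) Lrfl Lrfl
theorem f198577 : Led Lsl_gf (LP (LK LD1_c2 LD2_c30 LD3_c12)) = (LP (LK LD1_c1 LD2_c13 LD3_c53)) :=
  Lgr Lrot145 (Lpe (f164753 IH) (Lpr_et (f177748 IH) (Lpr_gt (K10.f177755 IH) (Lpe (K10.f185966 IH) (Lpr_gt (K10.f9419 IH) (Lpe (K10.f26783 IH) (Lpr_et (K9.f175331 IH) (Lpr_gt (f198570 IH) (Lpe (f198576 IH) (Lpr_dt (K10.f170841 IH) (Lpn (LP (LK LD1_c1 LD2_c13 LD3_c53)))))))))))))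
theorem f166187 : Led Lsl_dt (LP (LK LD1_c2 LD2_c30 LD3_c12)) = (LP (LK LD1_c1 LD2_c12 LD3_c7)) :=
  Lre_d IH (LK LD1_c2 LD2_c30 LD3_c12) (LK LD1_c1 LD2_c12 LD3_c7) Lrfl Lrfl
theorem f198579 : Led Lsl_gf (LP (LK LD1_c5 LD2_c2 LD3_c26)) = (LP (LK LD1_c2 LD2_c32 LD3_c36)) :=
  Lgr Lrot144 (Lpr_dt (K10.f169587 IH) (Lpe (K9.f169827 IH) (Lpr_dt (K9.f169746 IH) (Lpe (K9.f169580 IH) (Lpe (K9.f22147 IH) (Lpe (K9.f177757 IH) (Lpe (f166187 IH) (Lpr_gf (f198577 IH) (Lpr_cf (K10.f186510 IH) (Lpn (LP (LK LD1_c2 LD2_c32 LD3_c36))))))))))))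
theorem f198596 : Led Lsl_gt (LP (LK LD1_c2 LD2_c30 LD3_c15)) = (LP (LK LD1_c1 LD2_c13 LD3_c53)) :=
  Lgr Lrot9 (Lpe (K10.f177193 IH) (Lpr_gt (K10.f164751 IH) (Lpr_ct (K9.f164746 IH) (Lpr_gt (K9.f163705 IH) (Lpr_ct (K9.f163706 IH) (Lpe (K9.f164161 IH) (Lpr_cf (K9.f177184 IH) (Lpr_gf (f198579 IH) (Lpe (K10.f186538 IH) (Lpn (LP (LK LD1_c1 LD2_c13 LD3_c53))))))))))))
theorem f164695 : Led Lsl_dt (LP (LK LD1_c1 LD2_c13 LD3_c53)) = (LP (LK LD1_c0 LD2_c34 LD3_c14)) :=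
  Lre_d IH (LK LD1_c1 LD2_c13 LD3_c53) (LK LD1_c0 LD2_c34 LD3_c14) Lrfl Lrfl
theorem f198613 : Led Lsl_gf (LP (LK LD1_c1 LD2_c12 LD3_c8)) = (LP (LK LD1_c0 LD2_c33 LD3_c27)) :=
  Lgr Lrot144 (Lpr_dt (K10.f177193 IH) (Lpr_gt (f198596 IH) (Lpr_dt (f164695 IH) (Lpe (K10.f164696 IH) (Lpe (K9.f2883 IH) (Lpe (K9.f164685 IH) (Lpe (K9.f164679 IH) (Lpr_gf (K9.f165845 IH) (Lpe (K9.f22123 IH) (Lpn (LP (LK LD1_c0 LD2_c33 LD3_c27))))))))))))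
theorem f22122 : Led Lsl_ct (LP (LK LD1_c0 LD2_c16 LD3_c54)) = (LP (LK LD1_c0 LD2_c37 LD3_c51)) :=
  Lre_c IH (LK LD1_c0 LD2_c16 LD3_c54) (LK LD1_c0 LD2_c37 LD3_c51) Lrfl Lrfl
theorem f22124 : Led Lsl_et (LP (LK LD1_c0 LD2_c37 LD3_c51)) = (LP (LK LD1_c0 LD2_c33 LD3_c27)) :=
  Lgr Lrot158 (Lpe (f22122 IH) (Lpr_ef (K9.f22120 IH) (Lpe (K9.f22123 IH) (Lpn (LP (LK LD1_c0 LD2_c33 LD3_c27))))))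
theorem f22141 : Led Lsl_dt (LP (LK LD1_c0 LD2_c37 LD3_c51)) = (LP (LK LD1_c1 LD2_c21 LD3_c50)) :=
  Lre_d IH (LK LD1_c0 LD2_c37 LD3_c51) (LK LD1_c1 LD2_c21 LD3_c50) Lrfl Lrfl
theorem f22170 : Led Lsl_gt (LP (LK LD1_c2 LD2_c51 LD3_c33)) = (LP (LK LD1_c1 LD2_c21 LD3_c50)) :=
  Lre_g IH (LK LD1_c2 LD2_c51 LD3_c33) (LK LD1_c1 LD2_c21 LD3_c50) Lrfl Lrfl
theorem f20710 : Led Lsl_ct (LP (LK LD1_c0 LD2_c34 LD3_c15)) = (LP (LK LD1_c1 LD2_c13 LD3_c54)) :=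
  Lre_c IH (LK LD1_c0 LD2_c34 LD3_c15) (LK LD1_c1 LD2_c13 LD3_c54) Lrfl Lrfl
theorem f183202 : Led Lsl_gf (LP (LK LD1_c0 LD2_c56 LD3_c60)) = (LP (LK LD1_c1 LD2_c13 LD3_c54)) :=
  Lgr Lrot104 (Lpr_ct (K9.f182472 IH) (Lpe (K9.f168998 IH) (Lpr_cf (K9.f183189 IH) (Lpe (K9.f8470 IH) (Lpr_cf (K0.f8276 IH) (Lpe (K9.f8483 IH) (Lpe (K9.f21219 IH) (Lpe (K10.f178989 IH) (Lpr_ct (f20710 IH) (Lpn (LP (LK LD1_c1 LD2_c13 LD3_c54))))))))))))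
theorem f198622 : Led Lsl_et (LP (LK LD1_c2 LD2_c0 LD3_c5)) = (LP (LK LD1_c0 LD2_c56 LD3_c60)) :=
  Lre_e IH (LK LD1_c2 LD2_c0 LD3_c5) (LK LD1_c0 LD2_c56 LD3_c60) Lrfl Lrfl
theorem f198623 : Led Lsl_df (LP (LK LD1_c2 LD2_c51 LD3_c33)) = (LP (LK LD1_c2 LD2_c0 LD3_c5)) :=
  Lgr Lrot170 (Lpr_gt (f22170 IH) (Lpe (f22141 IH) (Lpr_et (f22124 IH) (Lpe (f198613 IH) (Lpr_dt (K10.f177193 IH) (Lpr_gt (f198596 IH) (Lpe (K10.f170841 IH) (Lpr_et (f198576 IH) (Lpe (f183202 IH) (Lpe (f198622 IH) (Lpn (LP (LK LD1_c2 LD2_c0 LD3_c5)))))))))))))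
theorem f22181 : Led Lsl_dt (LP (LK LD1_c1 LD2_c21 LD3_c50)) = (LP (LK LD1_c0 LD2_c37 LD3_c51)) :=
  Lre_d IH (LK LD1_c1 LD2_c21 LD3_c50) (LK LD1_c0 LD2_c37 LD3_c51) Lrfl Lrfl
theorem f22131 : Led Lsl_ct (LP (LK LD1_c0 LD2_c37 LD3_c51)) = (LP (LK LD1_c0 LD2_c16 LD3_c54)) :=
  Lre_c IH (LK LD1_c0 LD2_c37 LD3_c51) (LK LD1_c0 LD2_c16 LD3_c54) Lrfl Lrfl
theorem f176879 : Led Lsl_ct (LP (LK LD1_c0 LD2_c37 LD3_c37)) = (LP (LK LD1_c1 LD2_c21 LD3_c31)) :=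
  Lre_c IH (LK LD1_c0 LD2_c37 LD3_c37) (LK LD1_c1 LD2_c21 LD3_c31) Lrfl Lrfl
theorem f198630 : Led Lsl_gt (LP (LK LD1_c1 LD2_c21 LD3_c31)) = (LP (LK LD1_c2 LD2_c0 LD3_c5)) :=
  Lgr Lrot94 (Lpe (f176879 IH) (Lpr_gt (K9.f22417 IH) (Lpr_dt (K9.f9496 IH) (Lpr_gt (K9.f176832 IH) (Lpe (K9.f176907 IH) (Lpe (f22131 IH) (Lpe (f22181 IH) (Lpe (f22170 IH) (Lpr_df (f198623 IH) (Lpn (LP (LK LD1_c2 LD2_c0 LD3_c5))))))))))))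
theorem f176881 : Led Lsl_ct (LP (LK LD1_c1 LD2_c21 LD3_c31)) = (LP (LK LD1_c0 LD2_c37 LD3_c37)) :=
  Lre_c IH (LK LD1_c1 LD2_c21 LD3_c31) (LK LD1_c0 LD2_c37 LD3_c37) Lrfl Lrfl
theorem f176888 : Led Lsl_ef (LP (LK LD1_c1 LD2_c21 LD3_c31)) = (LP (LK LD1_c2 LD2_c12 LD3_c59)) :=
  Lgr Lrot28 (Lpr_ct (f176881 IH) (Lpr_et (K9.f176885 IH) (Lpr_ct (K10.f20225 IH) (Lpn (LP (LK LD1_c2 LD2_c12 LD3_c59))))))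
theorem f27011 : Led Lsl_dt (LP (LK LD1_c2 LD2_c12 LD3_c59)) = (LP (LK LD1_c4 LD2_c31 LD3_c55)) :=
  Lre_d IH (LK LD1_c2 LD2_c12 LD3_c59) (LK LD1_c4 LD2_c31 LD3_c55) Lrfl Lrfl
theorem f198632 : Led Lsl_gt (LP (LK LD1_c2 LD2_c49 LD3_c13)) = (LP (LK LD1_c4 LD2_c31 LD3_c55)) :=
  Lgr Lrot112 (Lpe (K10.f175854 IH) (Lpe (K10.f180352 IH) (Lpr_gf (f198613 IH) (Lpe (f22124 IH) (Lpr_dt (f22141 IH) (Lpe (f22170 IH) (Lpr_df (f198623 IH) (Lpe (f198630 IH) (Lpr_ef (f176888 IH) (Lpr_dt (f27011 IH) (Lpn (LP (LK LD1_c4 LD2_c31 LD3_c55)))))))))))))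
theorem f27010 : Led Lsl_dt (LP (LK LD1_c4 LD2_c31 LD3_c55)) = (LP (LK LD1_c2 LD2_c12 LD3_c59)) :=
  Lre_d IH (LK LD1_c4 LD2_c31 LD3_c55) (LK LD1_c2 LD2_c12 LD3_c59) Lrfl Lrfl
theorem f9516 : Led Lsl_ct (LP (LK LD1_c1 LD2_c25 LD3_c60)) = (LP (LK LD1_c0 LD2_c39 LD3_c43)) :=
  Lre_c IH (LK LD1_c1 LD2_c25 LD3_c60) (LK LD1_c0 LD2_c39 LD3_c43) Lrfl Lrfl
theorem f198634 : Led Lsl_gf (LP (LK LD1_c1 LD2_c20 LD3_c45)) = (LP (LK LD1_c1 LD2_c25 LD3_c60)) :=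
  Lgr Lrot144 (Lpr_dt (K10.f175854 IH) (Lpr_gt (f198632 IH) (Lpr_dt (f27010 IH) (Lpe (K10.f20225 IH) (Lpe (K9.f176899 IH) (Lpe (K9.f22412 IH) (Lpe (K9.f22411 IH) (Lpe (K9.f22409 IH) (Lpe (f9516 IH) (Lpn (LP (LK LD1_c1 LD2_c25 LD3_c60))))))))))))
theorem f182481 : Led Lsl_et (LP (LK LD1_c0 LD2_c56 LD3_c60)) = (LP (LK LD1_c2 LD2_c0 LD3_c5)) :=
  Lre_e IH (LK LD1_c0 LD2_c56 LD3_c60) (LK LD1_c2 LD2_c0 LD3_c5) Lrfl Lrfl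
theorem f198637 : Led Lsl_gf (LP (LK LD1_c1 LD2_c25 LD3_c59)) = (LP (LK LD1_c2 LD2_c0 LD3_c4)) :=
  Lgr Lrot145 (Lpe (K9.f8453 IH) (Lpr_et (K10.f59921 IH) (Lpe (f198634 IH) (Lpr_dt (K10.f175854 IH) (Lpr_gt (f198632 IH) (Lpe (f27011 IH) (Lpe (f176888 IH) (Lpr_gt (f198630 IH) (Lpe (f182481 IH) (Lpr_dt (K9.f182480 IH) (Lpn (LP (LK LD1_c2 LD2_c0 LD3_c4)))))))))))))
theorem f8456 : Led Lsl_ct (LP (LK LD1_c1 LD2_c25 LD3_c59)) = (LP (LK LD1_c1 LD2_c16 LD3_c44)) :=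
  Lgr Lrot176 (Lpe (K9.f8453 IH) (Lpe (K9.f8452 IH) (Lpe (K0.f8451 IH) (Lpe (K9.f8450 IH) (Lpe (K9.f8449 IH) (Lpe (K0.f8448 IH) (Lpe (K0.f8447 IH) (Lpe (K0.f8446 IH) (Lpe (K0.f8395 IH) (Lpe (K0.f8392 IH) (Lpe (K0.f8301 IH) (Lpr_cf (K0.f8433 IH) (Lpe (K0.f8387 IH) (Lpe (K10.f8454 IH) (Lpe (K0.f8455 IH) (Lpn (LP (LK LD1_c1 LD2_c16 LD3_c44))))))))))))))))))
theorem f166158 : Led Lsl_ct (LP (LK LD1_c1 LD2_c12 LD3_c18)) = (LP (LK LD1_c0 LD2_c33 LD3_c28)) :=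
  Lre_c IH (LK LD1_c1 LD2_c12 LD3_c18) (LK LD1_c0 LD2_c33 LD3_c28) Lrfl Lrfl
theorem f198645 : Led Lsl_gf (LP (LK LD1_c1 LD2_c12 LD3_c18)) = (LP (LK LD1_c0 LD2_c56 LD3_c60)) :=
  Lgr Lrot147 (Lpr_ct (f166158 IH) (Lpr_gt (K9.f176939 IH) (Lpr_ct (K9.f22397 IH) (Lpr_df (K9.f172060 IH) (Lpr_cf (K10.f195569 IH) (Lpe (K10.f175314 IH) (Lpe (f8456 IH) (Lpr_gf (f198637 IH) (Lpe (K9.f182480 IH) (Lpn (LP (LK LD1_c0 LD2_c56 LD3_c60))))))))))))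
theorem f166129 : Led Lsl_ct (LP (LK LD1_c0 LD2_c33 LD3_c26)) = (LP (LK LD1_c0 LD2_c15 LD3_c1)) :=
  Lre_c IH (LK LD1_c0 LD2_c33 LD3_c26) (LK LD1_c0 LD2_c15 LD3_c1) Lrfl Lrfl
theorem f173182 : Led Lsl_ct (LP (LK LD1_c0 LD2_c24 LD3_c47)) = (LP (LK LD1_c0 LD2_c28 LD3_c37)) :=
  Lgr Lrot15 (Lpe (K9.f53164 IH) (Lpr_cf (K9.f173165 IH) (Lpe (K9.f173181 IH) (Lpn (LP (LK LD1_c0 LD2_c28 LD3_c37))))))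
theorem f198662 : Led Lsl_gf (LP (LK LD1_c0 LD2_c33 LD3_c26)) = (LP (LK LD1_c0 LD2_c28 LD3_c37)) :=
  Lgr Lrot104 (Lpr_ct (f166129 IH) (Lpe (K9.f22128 IH) (Lpe (f166158 IH) (Lpr_gf (f198645 IH) (Lpe (K9.f182476 IH) (Lpe (K9.f183201 IH) (Lpr_df (K9.f183221 IH) (Lpe (K9.f53165 IH) (Lpr_ct (f173182 IH) (Lpn (LP (LK LD1_c0 LD2_c28 LD3_c37))))))))))))
theorem f166131 : Led Lsl_ct (LP (LK LD1_c1 LD2_c12 LD3_c15)) = (LP (LK LD1_c2 LD2_c30 LD3_c30)) :=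
  Lre_c IH (LK LD1_c1 LD2_c12 LD3_c15) (LK LD1_c2 LD2_c30 LD3_c30) Lrfl Lrfl
theorem f166133 : Led Lsl_dt (LP (LK LD1_c5 LD2_c6 LD3_c28)) = (LP (LK LD1_c2 LD2_c30 LD3_c30)) :=
  Lre_d IH (LK LD1_c5 LD2_c6 LD3_c28) (LK LD1_c2 LD2_c30 LD3_c30) Lrfl Lrfl
theorem f183341 : Led Lsl_dt (LP (LK LD1_c0 LD2_c39 LD3_c20)) = (LP (LK LD1_c0 LD2_c28 LD3_c37)) :=
  Lgr Lrot42 (Lpr_df (K9.f183334 IH) (Lpn (LP (LK LD1_c0 LD2_c28 LD3_c37))))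
theorem f177465 : Led Lsl_cf (LP (LK LD1_c0 LD2_c56 LD3_c53)) = (LP (LK LD1_c1 LD2_c25 LD3_c24)) :=
  Lgr Lrot11 (Lpr_ct (K9.f177456 IH) (Lpn (LP (LK LD1_c1 LD2_c25 LD3_c24))))
theorem f55465 : Led Lsl_ft (LP (LK LD1_c0 LD2_c57 LD3_c7)) = (LP (LK LD1_c2 LD2_c0 LD3_c20)) :=
  Lre_f IH (LK LD1_c0 LD2_c57 LD3_c7) (LK LD1_c2 LD2_c0 LD3_c20) Lrfl Lrfl
theorem f55628 : Led Lsl_af (LP (LK LD1_c2 LD2_c1 LD3_c4)) = (LP (LK LD1_c2 LD2_c0 LD3_c20)) :=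
  Lgr Lrot68 (Lpr_ct (K2.f55626 IH) (Lpr_at (K1.f55375 IH) (Lpr_ct (K1.f55522 IH) (Lpn (LP (LK LD1_c2 LD2_c0 LD3_c20))))))
theorem f177391 : Led Lsl_gf (LP (LK LD1_c2 LD2_c1 LD3_c4)) = (LP (LK LD1_c1 LD2_c25 LD3_c34)) :=
  Lgr Lrot76 (Lpr_af (f55628 IH) (Lpe (f55465 IH) (Lpr_gt (K10.f177388 IH) (Lpn (LP (LK LD1_c1 LD2_c25 LD3_c34))))))
theorem f177544 : Led Lsl_gt (LP (LK LD1_c1 LD2_c16 LD3_c45)) = (LP (LK LD1_c1 LD2_c25 LD3_c24)) :=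
  Lgr Lrot9 (Lpr_df (K9.f8959 IH) (Lpe (K10.f9062 IH) (Lpr_ct (K10.f177404 IH) (Lpe (f177391 IH) (Lpr_ct (K2.f55626 IH) (Lpe (K1.f55335 IH) (Lpe (K1.f55349 IH) (Lpe (K9.f28226 IH) (Lpr_cf (f177465 IH) (Lpn (LP (LK LD1_c1 LD2_c25 LD3_c24))))))))))))
theorem f177467 : Led Lsl_dt (LP (LK LD1_c1 LD2_c25 LD3_c24)) = (LP (LK LD1_c2 LD2_c59 LD3_c26)) :=
  Lre_d IH (LK LD1_c1 LD2_c25 LD3_c24) (LK LD1_c2 LD2_c59 LD3_c26) Lrfl Lrfl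
theorem f198674 : Led Lsl_gf (LP (LK LD1_c5 LD2_c6 LD3_c28)) = (LP (LK LD1_c2 LD2_c59 LD3_c26)) :=
  Lgr Lrot143 (Lpr_dt (f166133 IH) (Lpe (f166131 IH) (Lpe (K9.f165880 IH) (Lpr_gf (f198662 IH) (Lpe (f183341 IH) (Lpr_gf (K9.f183352 IH) (Lpe (K9.f8494 IH) (Lpr_gt (f177544 IH) (Lpr_dt (f177467 IH) (Lpn (LP (LK LD1_c2 LD2_c59 LD3_c26))))))))))))
theorem f181236 : Led Lsl_dt (LP (LK LD1_c2 LD2_c59 LD3_c10)) = (LP (LK LD1_c1 LD2_c25 LD3_c18)) :=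
  Lre_d IH (LK LD1_c2 LD2_c59 LD3_c10) (LK LD1_c1 LD2_c25 LD3_c18) Lrfl Lrfl
theorem f181237 : Led Lsl_dt (LP (LK LD1_c1 LD2_c25 LD3_c18)) = (LP (LK LD1_c2 LD2_c59 LD3_c10)) :=
  Lre_d IH (LK LD1_c1 LD2_c25 LD3_c18) (LK LD1_c2 LD2_c59 LD3_c10) Lrfl Lrfl
theorem f183426 : Led Lsl_cf (LP (LK LD1_c1 LD2_c25 LD3_c55)) = (LP (LK LD1_c2 LD2_c59 LD3_c3)) :=
  Lgr Lrot11 (Lpr_ct (K10.f183378 IH) (Lpn (LP (LK LD1_c2 LD2_c59 LD3_c3))))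
theorem f183436 : Led Lsl_cf (LP (LK LD1_c2 LD2_c59 LD3_c10)) = (LP (LK LD1_c1 LD2_c25 LD3_c48)) :=
  Lgr Lrot14 (Lpe (f181237 IH) (Lpr_gf (K10.f181233 IH) (Lpe (K1.f54828 IH) (Lpr_gf (K10.f183428 IH) (Lpe (f183426 IH) (Lpr_gt (K9.f47079 IH) (Lpr_dt (K9.f9023 IH) (Lpr_gt (K9.f20756 IH) (Lpr_dt (f20757 IH) (Lpn (LP (LK LD1_c1 LD2_c25 LD3_c48))))))))))))
theorem f198705 : Led Lsl_ct (LP (LK LD1_c5 LD2_c6 LD3_c28)) = (LP (LK LD1_c2 LD2_c33 LD3_c50)) :=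
  Lgr Lrot152 (Lpr_gf (f198674 IH) (Lpe (f177467 IH) (Lpr_gt (K9.f177455 IH) (Lpr_ct (K9.f8536 IH) (Lpr_gt (K10.f8572 IH) (Lpr_ct (K10.f181181 IH) (Lpe (f181236 IH) (Lpr_cf (f183436 IH) (Lpe (f198567 IH) (Lpn (LP (LK LD1_c2 LD2_c33 LD3_c50))))))))))))
theorem f198710 : Led Lsl_cf (LP (LK LD1_c5 LD2_c6 LD3_c28)) = (LP (LK LD1_c2 LD2_c33 LD3_c50)) :=
  Lgr Lrot11 (Lpr_ct (f198705 IH) (Lpn (LP (LK LD1_c2 LD2_c33 LD3_c50))))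
theorem f20674 : Led Lsl_dt (LP (LK LD1_c1 LD2_c25 LD3_c43)) = (LP (LK LD1_c0 LD2_c39 LD3_c36)) :=
  Lre_d IH (LK LD1_c1 LD2_c25 LD3_c43) (LK LD1_c0 LD2_c39 LD3_c36) Lrfl Lrfl
theorem f177409 : Led Lsl_gt (LP (LK LD1_c0 LD2_c39 LD3_c21)) = (LP (LK LD1_c1 LD2_c25 LD3_c23)) :=
  Lre_g IH (LK LD1_c0 LD2_c39 LD3_c21) (LK LD1_c1 LD2_c25 LD3_c23) Lrfl Lrfl
theorem f177410 : Led Lsl_dt (LP (LK LD1_c1 LD2_c25 LD3_c23)) = (LP (LK LD1_c2 LD2_c59 LD3_c23)) :=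
  Lre_d IH (LK LD1_c1 LD2_c25 LD3_c23) (LK LD1_c2 LD2_c59 LD3_c23) Lrfl Lrfl
theorem f20661 : Led Lsl_dt (LP (LK LD1_c0 LD2_c39 LD3_c36)) = (LP (LK LD1_c1 LD2_c25 LD3_c43)) :=
  Lre_d IH (LK LD1_c0 LD2_c39 LD3_c36) (LK LD1_c1 LD2_c25 LD3_c43) Lrfl Lrfl
theorem f177411 : Led Lsl_ct (LP (LK LD1_c2 LD2_c59 LD3_c23)) = (LP (LK LD1_c1 LD2_c25 LD3_c43)) :=
  Lgr Lrot7 (Lpe (f177410 IH) (Lpe (f177409 IH) (Lpe (K10.f9072 IH) (Lpe (K10.f9061 IH) (Lpr_cf (K10.f177393 IH) (Lpe (f177391 IH) (Lpr_dt (K9.f55391 IH) (Lpr_gt (K9.f177386 IH) (Lpr_dt (f20661 IH) (Lpn (LP (LK LD1_c1 LD2_c25 LD3_c43))))))))))))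
theorem f198808 : Led Lsl_gt (LP (LK LD1_c5 LD2_c6 LD3_c28)) = (LP (LK LD1_c2 LD2_c59 LD3_c23)) :=
  Lgr Lrot150 (Lpr_cf (f198710 IH) (Lpr_gf (K10.f185100 IH) (Lpe (K10.f175946 IH) (Lpr_gt (K9.f9083 IH) (Lpr_ct (K9.f9022 IH) (Lpr_gt (K9.f20652 IH) (Lpr_ct (K9.f20660 IH) (Lpe (f20674 IH) (Lpe (f177411 IH) (Lpn (LP (LK LD1_c2 LD2_c59 LD3_c23))))))))))))
theorem f9043 : Led Lsl_dt (LP (LK LD1_c1 LD2_c25 LD3_c48)) = (LP (LK LD1_c0 LD2_c39 LD3_c39)) :=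
  Lre_d IH (LK LD1_c1 LD2_c25 LD3_c48) (LK LD1_c0 LD2_c39 LD3_c39) Lrfl Lrfl
theorem f177429 : Led Lsl_dt (LP (LK LD1_c2 LD2_c59 LD3_c23)) = (LP (LK LD1_c1 LD2_c25 LD3_c23)) :=
  Lre_d IH (LK LD1_c2 LD2_c59 LD3_c23) (LK LD1_c1 LD2_c25 LD3_c23) Lrfl Lrfl
theorem f198810 : Led Lsl_gf (LP (LK LD1_c1 LD2_c16 LD3_c45)) = (LP (LK LD1_c1 LD2_c25 LD3_c23)) :=
  Lgr Lrot143 (Lpr_dt (K0.f9008 IH) (Lpe (K10.f9040 IH) (Lpe (K9.f9041 IH) (Lpe (K9.f9042 IH) (Lpe (f9043 IH) (Lpe (f198567 IH) (Lpe (f198705 IH) (Lpr_gt (f198808 IH) (Lpr_dt (f177429 IH) (Lpn (LP (LK LD1_c1 LD2_c25 LD3_c23))))))))))))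
theorem f166681 : Led Lsl_gt (LP (LK LD1_c0 LD2_c25 LD3_c47)) = (LP (LK LD1_c0 LD2_c56 LD3_c52)) :=
  Lre_g IH (LK LD1_c0 LD2_c25 LD3_c47) (LK LD1_c0 LD2_c56 LD3_c52) Lrfl Lrfl
theorem f198814 : Led Lsl_ct (LP (LK LD1_c0 LD2_c56 LD3_c52)) = (LP (LK LD1_c1 LD2_c25 LD3_c23)) :=
  Lgr Lrot152 (Lpe (f166681 IH) (Lpe (K1.f28225 IH) (Lpr_gt (K9.f168994 IH) (Lpr_ct (K9.f9091 IH) (Lpr_gt (K9.f9090 IH) (Lpr_ct (K1.f8458 IH) (Lpe (K0.f7645 IH) (Lpe (K9.f8494 IH) (Lpr_gf (f198810 IH) (Lpn (LP (LK LD1_c1 LD2_c25 LD3_c23))))))))))))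
theorem f198824 : Led Lsl_bt (LP (LK LD1_c0 LD2_c56 LD3_c52)) = (LP (LK LD1_c1 LD2_c59 LD3_c55)) :=
  Lre_b IH (LK LD1_c0 LD2_c56 LD3_c52) (LK LD1_c1 LD2_c59 LD3_c55) Lrfl Lrfl
theorem f55919 : Led Lsl_bt (LP (LK LD1_c1 LD2_c25 LD3_c20)) = (LP (LK LD1_c0 LD2_c39 LD3_c20)) :=
  Lre_b IH (LK LD1_c1 LD2_c25 LD3_c20) (LK LD1_c0 LD2_c39 LD3_c20) Lrfl Lrfl
theorem f183357 : Led Lsl_ct (LP (LK LD1_c1 LD2_c25 LD3_c20)) = (LP (LK LD1_c2 LD2_c59 LD3_c15)) :=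
  Lre_c IH (LK LD1_c1 LD2_c25 LD3_c20) (LK LD1_c2 LD2_c59 LD3_c15) Lrfl Lrfl
theorem f183496 : Led Lsl_gt (LP (LK LD1_c6 LD2_c6 LD3_c17)) = (LP (LK LD1_c2 LD2_c59 LD3_c15)) :=
  Lre_g IH (LK LD1_c6 LD2_c6 LD3_c17) (LK LD1_c2 LD2_c59 LD3_c15) Lrfl Lrfl
theorem f46432 : Led Lsl_gt (LP (LK LD1_c5 LD2_c20 LD3_c19)) = (LP (LK LD1_c2 LD2_c37 LD3_c36)) :=
  Lre_g IH (LK LD1_c5 LD2_c20 LD3_c19) (LK LD1_c2 LD2_c37 LD3_c36) Lrfl Lrfl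
theorem f42517 : Led Lsl_gt (LP (LK LD1_c2 LD2_c36 LD3_c49)) = (LP (LK LD1_c5 LD2_c20 LD3_c19)) :=
  Lre_g IH (LK LD1_c2 LD2_c36 LD3_c49) (LK LD1_c5 LD2_c20 LD3_c19) Lrfl Lrfl
theorem f47858 : Led Lsl_gt (LP (LK LD1_c2 LD2_c0 LD3_c37)) = (LP (LK LD1_c4 LD2_c6 LD3_c16)) :=
  Lre_g IH (LK LD1_c2 LD2_c0 LD3_c37) (LK LD1_c4 LD2_c6 LD3_c16) Lrfl Lrfl
theorem f182584 : Led Lsl_bt (LP (LK LD1_c4 LD2_c6 LD3_c32)) = (LP (LK LD1_c2 LD2_c0 LD3_c37)) :=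
  Lre_b IH (LK LD1_c4 LD2_c6 LD3_c32) (LK LD1_c2 LD2_c0 LD3_c37) Lrfl Lrfl
theorem f182585 : Led Lsl_cf (LP (LK LD1_c5 LD2_c20 LD3_c19)) = (LP (LK LD1_c4 LD2_c6 LD3_c32)) :=
  Lgr Lrot58 (Lpe (f42517 IH) (Lpe (K10.f42516 IH) (Lpe (K10.f8534 IH) (Lpe (K1.f42491 IH) (Lpe (K9.f42511 IH) (Lpr_ct (K9.f182571 IH) (Lpe (K9.f55050 IH) (Lpe (K9.f55048 IH) (Lpe (f47858 IH) (Lpe (f182584 IH) (Lpn (LP (LK LD1_c4 LD2_c6 LD3_c32)))))))))))))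
theorem f183714 : Led Lsl_gf (LP (LK LD1_c4 LD2_c6 LD3_c32)) = (LP (LK LD1_c3 LD2_c58 LD3_c3)) :=
  Lgr Lrot147 (Lpe (f182585 IH) (Lpr_gt (f46432 IH) (Lpr_ct (K10.f46481 IH) (Lpe (K1.f46407 IH) (Lpe (K1.f9071 IH) (Lpe (K9.f46478 IH) (Lpr_cf (K9.f179063 IH) (Lpr_gf (K10.f183711 IH) (Lpe (K10.f31469 IH) (Lpn (LP (LK LD1_c3 LD2_c58 LD3_c3))))))))))))
theorem f183358 : Led Lsl_gt (LP (LK LD1_c2 LD2_c59 LD3_c15)) = (LP (LK LD1_c6 LD2_c6 LD3_c16)) :=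
  Lre_g IH (LK LD1_c2 LD2_c59 LD3_c15) (LK LD1_c6 LD2_c6 LD3_c16) Lrfl Lrfl
theorem f49525 : Led Lsl_dt (LP (LK LD1_c4 LD2_c13 LD3_c36)) = (LP (LK LD1_c2 LD2_c4 LD3_c8)) :=
  Lre_d IH (LK LD1_c4 LD2_c13 LD3_c36) (LK LD1_c2 LD2_c4 LD3_c8) Lrfl Lrfl
theorem f50862 : Led Lsl_bt (LP (LK LD1_c3 LD2_c58 LD3_c3)) = (LP (LK LD1_c4 LD2_c13 LD3_c36)) :=
  Lgr Lrot95 (Lpe (K10.f43252 IH) (Lpr_bf (K9.f50854 IH) (Lpe (f49525 IH) (Lpn (LP (LK LD1_c4 LD2_c13 LD3_c36))))))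
theorem f50866 : Led Lsl_bf (LP (LK LD1_c3 LD2_c58 LD3_c3)) = (LP (LK LD1_c4 LD2_c13 LD3_c36)) :=
  Lgr Lrot24 (Lpr_bt (f50862 IH) (Lpn (LP (LK LD1_c4 LD2_c13 LD3_c36))))
theorem f183719 : Led Lsl_cf (LP (LK LD1_c6 LD2_c6 LD3_c16)) = (LP (LK LD1_c4 LD2_c13 LD3_c36)) :=
  Lgr Lrot58 (Lpe (f183358 IH) (Lpe (f183357 IH) (Lpr_bt (f55919 IH) (Lpr_gf (K9.f183352 IH) (Lpe (K10.f8489 IH) (Lpr_ct (K1.f46408 IH) (Lpe (f46432 IH) (Lpr_cf (f182585 IH) (Lpr_gf (f183714 IH) (Lpr_bf (f50866 IH) (Lpn (LP (LK LD1_c4 LD2_c13 LD3_c36)))))))))))))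
theorem f43266 : Led Lsl_bt (LP (LK LD1_c4 LD2_c13 LD3_c24)) = (LP (LK LD1_c2 LD2_c4 LD3_c17)) :=
  Lre_b IH (LK LD1_c4 LD2_c13 LD3_c24) (LK LD1_c2 LD2_c4 LD3_c17) Lrfl Lrfl
theorem f50871 : Led Lsl_et (LP (LK LD1_c2 LD2_c4 LD3_c17)) = (LP (LK LD1_c4 LD2_c13 LD3_c36)) :=
  Lgr Lrot74 (Lpe (f43266 IH) (Lpr_ef (K10.f43264 IH) (Lpr_bf (f50866 IH) (Lpn (LP (LK LD1_c4 LD2_c13 LD3_c36))))))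
theorem f50874 : Led Lsl_ct (LP (LK LD1_c4 LD2_c13 LD3_c52)) = (LP (LK LD1_c2 LD2_c4 LD3_c17)) :=
  Lre_c IH (LK LD1_c4 LD2_c13 LD3_c52) (LK LD1_c2 LD2_c4 LD3_c17) Lrfl Lrfl
theorem f183724 : Led Lsl_et (LP (LK LD1_c6 LD2_c6 LD3_c16)) = (LP (LK LD1_c4 LD2_c13 LD3_c52)) :=
  Lgr Lrot158 (Lpr_cf (f183719 IH) (Lpe (f50871 IH) (Lpe (f50874 IH) (Lpn (LP (LK LD1_c4 LD2_c13 LD3_c52))))))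
theorem f183727 : Led Lsl_at (LP (LK LD1_c4 LD2_c13 LD3_c52)) = (LP (LK LD1_c2 LD2_c4 LD3_c30)) :=
  Lre_a IH (LK LD1_c4 LD2_c13 LD3_c52) (LK LD1_c2 LD2_c4 LD3_c30) Lrfl Lrfl
theorem f50903 : Led Lsl_et (LP (LK LD1_c2 LD2_c4 LD3_c30)) = (LP (LK LD1_c4 LD2_c13 LD3_c56)) :=
  Lre_e IH (LK LD1_c2 LD2_c4 LD3_c30) (LK LD1_c4 LD2_c13 LD3_c56) Lrfl Lrfl
theorem f183728 : Led Lsl_af (LP (LK LD1_c6 LD2_c6 LD3_c16)) = (LP (LK LD1_c4 LD2_c13 LD3_c56)) :=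
  Lgr Lrot50 (Lpr_et (f183724 IH) (Lpr_at (f183727 IH) (Lpr_et (f50903 IH) (Lpn (LP (LK LD1_c4 LD2_c13 LD3_c56))))))
theorem f183769 : Led Lsl_ft (LP (LK LD1_c6 LD2_c6 LD3_c17)) = (LP (LK LD1_c4 LD2_c13 LD3_c56)) :=
  Lgr Lrot2 (Lpr_gt (f183496 IH) (Lpr_gt (f183358 IH) (Lpr_af (f183728 IH) (Lpn (LP (LK LD1_c4 LD2_c13 LD3_c56))))))
theorem f50881 : Led Lsl_ft (LP (LK LD1_c2 LD2_c4 LD3_c19)) = (LP (LK LD1_c4 LD2_c13 LD3_c57)) :=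
  Lre_f IH (LK LD1_c2 LD2_c4 LD3_c19) (LK LD1_c4 LD2_c13 LD3_c57) Lrfl Lrfl
theorem f183773 : Led Lsl_cf (LP (LK LD1_c6 LD2_c6 LD3_c17)) = (LP (LK LD1_c4 LD2_c13 LD3_c57)) :=
  Lgr Lrot108 (Lpr_ft (f183769 IH) (Lpr_ct (K10.f49441 IH) (Lpr_ft (f50881 IH) (Lpn (LP (LK LD1_c4 LD2_c13 LD3_c57))))))
theorem f183796 : Led Lsl_bt (LP (LK LD1_c4 LD2_c13 LD3_c57)) = (LP (LK LD1_c2 LD2_c4 LD3_c35)) :=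
  Lre_b IH (LK LD1_c4 LD2_c13 LD3_c57) (LK LD1_c2 LD2_c4 LD3_c35) Lrfl Lrfl
theorem f198853 : Led Lsl_gt (LP (LK LD1_c1 LD2_c59 LD3_c55)) = (LP (LK LD1_c2 LD2_c4 LD3_c35)) :=
  Lgr Lrot164 (Lpe (f198824 IH) (Lpr_ct (f198814 IH) (Lpe (f177409 IH) (Lpe (K10.f8558 IH) (Lpe (K9.f6967 IH) (Lpe (f55919 IH) (Lpr_ct (f183357 IH) (Lpe (f183496 IH) (Lpr_cf (f183773 IH) (Lpr_bt (f183796 IH) (Lpn (LP (LK LD1_c2 LD2_c4 LD3_c35)))))))))))))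
theorem f42461 : Led Lsl_bt (LP (LK LD1_c2 LD2_c58 LD3_c42)) = (LP (LK LD1_c1 LD2_c25 LD3_c5)) :=
  Lre_b IH (LK LD1_c2 LD2_c58 LD3_c42) (LK LD1_c1 LD2_c25 LD3_c5) Lrfl Lrfl
theorem f198857 : Led Lsl_gf (LP (LK LD1_c4 LD2_c50 LD3_c42)) = (LP (LK LD1_c4 LD2_c14 LD3_c25)) :=
  Lgr Lrot129 (Lpr_cf (K10.f194759 IH) (Lpr_bt (f42461 IH) (Lpr_gt (K9.f42114 IH) (Lpe (K10.f8554 IH) (Lpr_ct (K10.f8558 IH) (Lpr_gt (f177409 IH) (Lpe (f198814 IH) (Lpr_bt (f198824 IH) (Lpr_gt (f198853 IH) (Lpr_ct (K0.f27613 IH) (Lpn (LP (LK LD1_c4 LD2_c14 LD3_c25)))))))))))))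
theorem f42154 : Led Lsl_gt (LP (LK LD1_c1 LD2_c25 LD3_c6)) = (LP (LK LD1_c2 LD2_c58 LD3_c45)) :=
  Lre_g IH (LK LD1_c1 LD2_c25 LD3_c6) (LK LD1_c2 LD2_c58 LD3_c45) Lrfl Lrfl
theorem f179067 : Led Lsl_ct (LP (LK LD1_c2 LD2_c0 LD3_c30)) = (LP (LK LD1_c0 LD2_c57 LD3_c14)) :=
  Lre_c IH (LK LD1_c2 LD2_c0 LD3_c30) (LK LD1_c0 LD2_c57 LD3_c14) Lrfl Lrfl
theorem f42475 : Led Lsl_ct (LP (LK LD1_c6 LD2_c4 LD3_c32)) = (LP (LK LD1_c2 LD2_c58 LD3_c27)) :=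
  Lre_c IH (LK LD1_c6 LD2_c4 LD3_c32) (LK LD1_c2 LD2_c58 LD3_c27) Lrfl Lrfl
theorem f41688 : Led Lsl_gt (LP (LK LD1_c2 LD2_c58 LD3_c45)) = (LP (LK LD1_c6 LD2_c4 LD3_c32)) :=
  Lre_g IH (LK LD1_c2 LD2_c58 LD3_c45) (LK LD1_c6 LD2_c4 LD3_c32) Lrfl Lrfl
theorem f54091 : Led Lsl_gt (LP (LK LD1_c2 LD2_c7 LD3_c37)) = (LP (LK LD1_c4 LD2_c20 LD3_c19)) :=
  Lre_g IH (LK LD1_c2 LD2_c7 LD3_c37) (LK LD1_c4 LD2_c20 LD3_c19) Lrfl Lrfl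
theorem f192259 : Led Lsl_cf (LP (LK LD1_c2 LD2_c58 LD3_c45)) = (LP (LK LD1_c4 LD2_c20 LD3_c19)) :=
  Lgr Lrot169 (Lpr_gt (f41688 IH) (Lpr_ct (f42475 IH) (Lpe (K9.f41806 IH) (Lpr_cf (K9.f183852 IH) (Lpe (K9.f47856 IH) (Lpe (f179067 IH) (Lpr_gf (K10.f192221 IH) (Lpe (K10.f28660 IH) (Lpr_gt (f54091 IH) (Lpn (LP (LK LD1_c4 LD2_c20 LD3_c19))))))))))))
theorem f27612 : Led Lsl_bt (LP (LK LD1_c2 LD2_c4 LD3_c35)) = (LP (LK LD1_c4 LD2_c13 LD3_c57)) :=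
  Lre_b IH (LK LD1_c2 LD2_c4 LD3_c35) (LK LD1_c4 LD2_c13 LD3_c57) Lrfl Lrfl
theorem f45083 : Led Lsl_et (LP (LK LD1_c2 LD2_c4 LD3_c8)) = (LP (LK LD1_c0 LD2_c59 LD3_c6)) :=
  Lre_e IH (LK LD1_c2 LD2_c4 LD3_c8) (LK LD1_c0 LD2_c59 LD3_c6) Lrfl Lrfl
theorem f189603 : Led Lsl_ft (LP (LK LD1_c2 LD2_c4 LD3_c8)) = (LP (LK LD1_c2 LD2_c34 LD3_c29)) :=
  Lgr Lrot86 (Lpe (K10.f45068 IH) (Lpr_ff (K1.f45075 IH) (Lpe (f45083 IH) (Lpr_ff (K10.f189596 IH) (Lpr_ef (K10.f189594 IH) (Lpn (LP (LK LD1_c2 LD2_c34 LD3_c29))))))))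
theorem f47684 : Led Lsl_dt (LP (LK LD1_c2 LD2_c34 LD3_c29)) = (LP (LK LD1_c5 LD2_c15 LD3_c15)) :=
  Lre_d IH (LK LD1_c2 LD2_c34 LD3_c29) (LK LD1_c5 LD2_c15 LD3_c15) Lrfl Lrfl
theorem f189612 : Led Lsl_ff (LP (LK LD1_c4 LD2_c13 LD3_c36)) = (LP (LK LD1_c5 LD2_c15 LD3_c15)) :=
  Lgr Lrot19 (Lpr_dt (f49525 IH) (Lpr_ft (f189603 IH) (Lpr_dt (f47684 IH) (Lpn (LP (LK LD1_c5 LD2_c15 LD3_c15))))))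
theorem f27397 : Led Lsl_et (LP (LK LD1_c0 LD2_c59 LD3_c10)) = (LP (LK LD1_c0 LD2_c26 LD3_c58)) :=
  Lre_e IH (LK LD1_c0 LD2_c59 LD3_c10) (LK LD1_c0 LD2_c26 LD3_c58) Lrfl Lrfl
theorem f45084 : Led Lsl_dt (LP (LK LD1_c2 LD2_c4 LD3_c17)) = (LP (LK LD1_c0 LD2_c59 LD3_c10)) :=
  Lre_d IH (LK LD1_c2 LD2_c4 LD3_c17) (LK LD1_c0 LD2_c59 LD3_c10) Lrfl Lrfl
theorem f45085 : Led Lsl_dt (LP (LK LD1_c2 LD2_c4 LD3_c8)) = (LP (LK LD1_c4 LD2_c13 LD3_c36)) :=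
  Lre_d IH (LK LD1_c2 LD2_c4 LD3_c8) (LK LD1_c4 LD2_c13 LD3_c36) Lrfl Lrfl
theorem f45086 : Led Lsl_ef (LP (LK LD1_c2 LD2_c4 LD3_c17)) = (LP (LK LD1_c4 LD2_c13 LD3_c36)) :=
  Lgr Lrot73 (Lpr_dt (f45084 IH) (Lpr_et (f27397 IH) (Lpr_dt (K1.f45081 IH) (Lpr_et (K10.f45068 IH) (Lpr_dt (f45085 IH) (Lpn (LP (LK LD1_c4 LD2_c13 LD3_c36))))))))
theorem f189616 : Led Lsl_ft (LP (LK LD1_c2 LD2_c4 LD3_c17)) = (LP (LK LD1_c4 LD2_c13 LD3_c53)) :=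
  Lre_f IH (LK LD1_c2 LD2_c4 LD3_c17) (LK LD1_c4 LD2_c13 LD3_c53) Lrfl Lrfl
theorem f27496 : Led Lsl_et (LP (LK LD1_c4 LD2_c13 LD3_c53)) = (LP (LK LD1_c8 LD2_c26 LD3_c26)) :=
  Lre_e IH (LK LD1_c4 LD2_c13 LD3_c53) (LK LD1_c8 LD2_c26 LD3_c26) Lrfl Lrfl
theorem f189617 : Led Lsl_et (LP (LK LD1_c10 LD2_c19 LD3_c56)) = (LP (LK LD1_c5 LD2_c15 LD3_c15)) :=
  Lre_e IH (LK LD1_c10 LD2_c19 LD3_c56) (LK LD1_c5 LD2_c15 LD3_c15) Lrfl Lrfl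
theorem f189618 : Led Lsl_ft (LP (LK LD1_c8 LD2_c26 LD3_c26)) = (LP (LK LD1_c10 LD2_c19 LD3_c56)) :=
  Lgr Lrot86 (Lpe (f27496 IH) (Lpe (f189616 IH) (Lpr_ef (f45086 IH) (Lpr_ff (f189612 IH) (Lpe (f189617 IH) (Lpn (LP (LK LD1_c10 LD2_c19 LD3_c56))))))))
theorem f189694 : Led Lsl_ff (LP (LK LD1_c8 LD2_c26 LD3_c26)) = (LP (LK LD1_c10 LD2_c19 LD3_c56)) :=
  Lgr Lrot3 (Lpr_ft (f189618 IH) (Lpn (LP (LK LD1_c10 LD2_c19 LD3_c56))))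
theorem f27428 : Led Lsl_at (LP (LK LD1_c8 LD2_c26 LD3_c26)) = (LP (LK LD1_c4 LD2_c14 LD3_c18)) :=
  Lre_a IH (LK LD1_c8 LD2_c26 LD3_c26) (LK LD1_c4 LD2_c14 LD3_c18) Lrfl Lrfl
theorem f27424 : Led Lsl_ft (LP (LK LD1_c4 LD2_c14 LD3_c18)) = (LP (LK LD1_c8 LD2_c26 LD3_c31)) :=
  Lre_f IH (LK LD1_c4 LD2_c14 LD3_c18) (LK LD1_c8 LD2_c26 LD3_c31) Lrfl Lrfl
theorem f189698 : Led Lsl_at (LP (LK LD1_c8 LD2_c26 LD3_c31)) = (LP (LK LD1_c10 LD2_c19 LD3_c56)) :=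
  Lgr Lrot66 (Lpe (f27424 IH) (Lpe (f27428 IH) (Lpr_ff (f189694 IH) (Lpn (LP (LK LD1_c10 LD2_c19 LD3_c56))))))
theorem f27416 : Led Lsl_et (LP (LK LD1_c4 LD2_c13 LD3_c57)) = (LP (LK LD1_c8 LD2_c26 LD3_c31)) :=
  Lre_e IH (LK LD1_c4 LD2_c13 LD3_c57) (LK LD1_c8 LD2_c26 LD3_c31) Lrfl Lrfl
theorem f189708 : Led Lsl_af (LP (LK LD1_c4 LD2_c13 LD3_c57)) = (LP (LK LD1_c5 LD2_c15 LD3_c15)) :=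
  Lgr Lrot50 (Lpr_et (f27416 IH) (Lpr_at (f189698 IH) (Lpr_et (f189617 IH) (Lpn (LP (LK LD1_c5 LD2_c15 LD3_c15))))))
theorem f189598 : Led Lsl_dt (LP (LK LD1_c5 LD2_c15 LD3_c15)) = (LP (LK LD1_c2 LD2_c34 LD3_c29)) :=
  Lre_d IH (LK LD1_c5 LD2_c15 LD3_c15) (LK LD1_c2 LD2_c34 LD3_c29) Lrfl Lrfl
theorem f189601 : Led Lsl_ft (LP (LK LD1_c4 LD2_c13 LD3_c36)) = (LP (LK LD1_c5 LD2_c15 LD3_c15)) :=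
  Lgr Lrot54 (Lpe (f45085 IH) (Lpr_ff (K10.f189596 IH) (Lpe (f189598 IH) (Lpn (LP (LK LD1_c5 LD2_c15 LD3_c15))))))
theorem f50868 : Led Lsl_gt (LP (LK LD1_c4 LD2_c13 LD3_c36)) = (LP (LK LD1_c8 LD2_c26 LD3_c8)) :=
  Lre_g IH (LK LD1_c4 LD2_c13 LD3_c36) (LK LD1_c8 LD2_c26 LD3_c8) Lrfl Lrfl
theorem f189714 : Led Lsl_gf (LP (LK LD1_c4 LD2_c13 LD3_c57)) = (LP (LK LD1_c8 LD2_c26 LD3_c8)) :=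
  Lgr Lrot76 (Lpr_af (f189708 IH) (Lpe (f189601 IH) (Lpr_gt (f50868 IH) (Lpn (LP (LK LD1_c8 LD2_c26 LD3_c8))))))
theorem f198860 : Led Lsl_bt (LP (LK LD1_c4 LD2_c20 LD3_c19)) = (LP (LK LD1_c8 LD2_c26 LD3_c8)) :=
  Lgr Lrot22 (Lpe (f192259 IH) (Lpe (f42154 IH) (Lpe (K10.f42153 IH) (Lpe (K9.f42114 IH) (Lpe (f42461 IH) (Lpe (K10.f194759 IH) (Lpr_gf (f198857 IH) (Lpe (K0.f27613 IH) (Lpr_bt (f27612 IH) (Lpr_gf (f189714 IH) (Lpn (LP (LK LD1_c8 LD2_c26 LD3_c8)))))))))))))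
theorem f41511 : Led Lsl_gt (LP (LK LD1_c2 LD2_c36 LD3_c50)) = (LP (LK LD1_c1 LD2_c15 LD3_c47)) :=
  Lre_g IH (LK LD1_c2 LD2_c36 LD3_c50) (LK LD1_c1 LD2_c15 LD3_c47) Lrfl Lrfl
theorem f198865 : Led Lsl_ct (LP (LK LD1_c1 LD2_c15 LD3_c47)) = (LP (LK LD1_c2 LD2_c37 LD3_c30)) :=
  Lre_c IH (LK LD1_c1 LD2_c15 LD3_c47) (LK LD1_c2 LD2_c37 LD3_c30) Lrfl Lrfl
theorem f27708 : Led Lsl_ft (LP (LK LD1_c4 LD2_c50 LD3_c37)) = (LP (LK LD1_c2 LD2_c23 LD3_c4)) :=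
  Lre_f IH (LK LD1_c4 LD2_c50 LD3_c37) (LK LD1_c2 LD2_c23 LD3_c4) Lrfl Lrfl
theorem f191755 : Led Lsl_gt (LP (LK LD1_c5 LD2_c17 LD3_c23)) = (LP (LK LD1_c3 LD2_c58 LD3_c3)) :=
  Lgr Lrot46 (Lpr_gf (K10.f191753 IH) (Lpr_ft (f27708 IH) (Lpr_at (K10.f43255 IH) (Lpn (LP (LK LD1_c3 LD2_c58 LD3_c3))))))
theorem f53481 : Led Lsl_gf (LP (LK LD1_c4 LD2_c7 LD3_c42)) = (LP (LK LD1_c4 LD2_c8 LD3_c6)) :=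
  Lgr Lrot47 (Lpr_gt (K10.f51363 IH) (Lpr_af (K9.f49785 IH) (Lpe (K9.f49345 IH) (Lpn (LP (LK LD1_c4 LD2_c8 LD3_c6))))))
theorem f49620 : Led Lsl_bt (LP (LK LD1_c2 LD2_c1 LD3_c25)) = (LP (LK LD1_c4 LD2_c7 LD3_c52)) :=
  Lre_b IH (LK LD1_c2 LD2_c1 LD3_c25) (LK LD1_c4 LD2_c7 LD3_c52) Lrfl Lrfl
theorem f30885 : Led Lsl_ft (LP (LK LD1_c2 LD2_c8 LD3_c0)) = (LP (LK LD1_c4 LD2_c21 LD3_c1)) :=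
  Lre_f IH (LK LD1_c2 LD2_c8 LD3_c0) (LK LD1_c4 LD2_c21 LD3_c1) Lrfl Lrfl
theorem f30999 : Led Lsl_at (LP (LK LD1_c1 LD2_c58 LD3_c37)) = (LP (LK LD1_c4 LD2_c1 LD3_c3)) :=
  Lre_a IH (LK LD1_c1 LD2_c58 LD3_c37) (LK LD1_c4 LD2_c1 LD3_c3) Lrfl Lrfl
theorem f30956 : Led Lsl_bt (LP (LK LD1_c15 LD2_c9 LD3_c8)) = (LP (LK LD1_c8 LD2_c2 LD3_c51)) :=
  Lre_b IH (LK LD1_c15 LD2_c9 LD3_c8) (LK LD1_c8 LD2_c2 LD3_c51) Lrfl Lrfl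
theorem f30958 : Led Lsl_bt (LP (LK LD1_c8 LD2_c39 LD3_c47)) = (LP (LK LD1_c16 LD2_c13 LD3_c28)) :=
  Lre_b IH (LK LD1_c8 LD2_c39 LD3_c47) (LK LD1_c16 LD2_c13 LD3_c28) Lrfl Lrfl
theorem f30960 : Led Lsl_bt (LP (LK LD1_c4 LD2_c1 LD3_c3)) = (LP (LK LD1_c4 LD2_c21 LD3_c1)) :=
  Lgr Lrot128 (Lpe (K10.f30957 IH) (Lpe (f30956 IH) (Lpr_cf (K9.f30941 IH) (Lpe (f30958 IH) (Lpe (K9.f30959 IH) (Lpn (LP (LK LD1_c4 LD2_c21 LD3_c1))))))))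
theorem f49618 : Led Lsl_af (LP (LK LD1_c2 LD2_c1 LD3_c14)) = (LP (LK LD1_c2 LD2_c1 LD3_c25)) :=
  Lgr Lrot0 (Lpr_at (K9.f49616 IH) (Lpn (LP (LK LD1_c2 LD2_c1 LD3_c25))))
theorem f50371 : Led Lsl_bt (LP (LK LD1_c4 LD2_c7 LD3_c52)) = (LP (LK LD1_c2 LD2_c1 LD3_c25)) :=
  Lre_b IH (LK LD1_c4 LD2_c7 LD3_c52) (LK LD1_c2 LD2_c1 LD3_c25) Lrfl Lrfl
theorem f50372 : Led Lsl_at (LP (LK LD1_c4 LD2_c21 LD3_c1)) = (LP (LK LD1_c4 LD2_c7 LD3_c52)) :=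
  Lgr Lrot67 (Lpe (f30960 IH) (Lpe (f30999 IH) (Lpr_bf (K9.f50369 IH) (Lpr_af (f49618 IH) (Lpe (f50371 IH) (Lpn (LP (LK LD1_c4 LD2_c7 LD3_c52))))))))
theorem f188025 : Led Lsl_gf (LP (LK LD1_c4 LD2_c7 LD3_c52)) = (LP (LK LD1_c2 LD2_c37 LD3_c27)) :=
  Lgr Lrot76 (Lpe (f50372 IH) (Lpe (f30885 IH) (Lpr_gt (K10.f188020 IH) (Lpn (LP (LK LD1_c2 LD2_c37 LD3_c27))))))
theorem f191211 : Led Lsl_gt (LP (LK LD1_c5 LD2_c21 LD3_c47)) = (LP (LK LD1_c2 LD2_c37 LD3_c28)) :=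
  Lre_g IH (LK LD1_c5 LD2_c21 LD3_c47) (LK LD1_c2 LD2_c37 LD3_c28) Lrfl Lrfl
theorem f194381 : Led Lsl_ct (LP (LK LD1_c3 LD2_c58 LD3_c3)) = (LP (LK LD1_c5 LD2_c21 LD3_c47)) :=
  Lgr Lrot91 (Lpe (f191755 IH) (Lpe (K10.f187671 IH) (Lpr_ct (K10.f194368 IH) (Lpr_gf (f53481 IH) (Lpe (K9.f49622 IH) (Lpr_bt (f49620 IH) (Lpr_gf (f188025 IH) (Lpe (K10.f188031 IH) (Lpr_ct (K10.f187527 IH) (Lpe (f191211 IH) (Lpn (LP (LK LD1_c5 LD2_c21 LD3_c47)))))))))))))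
theorem f198866 : Led Lsl_gt (LP (LK LD1_c2 LD2_c37 LD3_c30)) = (LP (LK LD1_c5 LD2_c21 LD3_c47)) :=
  Lgr Lrot149 (Lpe (f198865 IH) (Lpe (f41511 IH) (Lpe (K10.f8491 IH) (Lpr_ct (K10.f42479 IH) (Lpe (f41688 IH) (Lpr_cf (f192259 IH) (Lpr_bt (f198860 IH) (Lpe (f50868 IH) (Lpe (f50862 IH) (Lpr_ct (f194381 IH) (Lpn (LP (LK LD1_c5 LD2_c21 LD3_c47)))))))))))))
theorem f194144 : Led Lsl_ct (LP (LK LD1_c0 LD2_c35 LD3_c7)) = (LP (LK LD1_c0 LD2_c33 LD3_c10)) :=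
  Lgr Lrot59 (Lpr_cf (K10.f194139 IH) (Lpn (LP (LK LD1_c0 LD2_c33 LD3_c10))))
theorem f198874 : Led Lsl_cf (LP (LK LD1_c3 LD2_c58 LD3_c3)) = (LP (LK LD1_c5 LD2_c21 LD3_c47)) :=
  Lgr Lrot99 (Lpe (K10.f43252 IH) (Lpe (K9.f31470 IH) (Lpr_gf (K10.f192121 IH) (Lpe (f194144 IH) (Lpe (K10.f41525 IH) (Lpe (K1.f41487 IH) (Lpr_gt (f41511 IH) (Lpr_ct (f198865 IH) (Lpr_gt (f198866 IH) (Lpn (LP (LK LD1_c5 LD2_c21 LD3_c47))))))))))))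
theorem f43261 : Led Lsl_af (LP (LK LD1_c2 LD2_c23 LD3_c4)) = (LP (LK LD1_c3 LD2_c58 LD3_c3)) :=
  Lgr Lrot0 (Lpr_at (K10.f43255 IH) (Lpn (LP (LK LD1_c3 LD2_c58 LD3_c3))))
theorem f27720 : Led Lsl_ct (LP (LK LD1_c2 LD2_c23 LD3_c4)) = (LP (LK LD1_c4 LD2_c50 LD3_c36)) :=
  Lre_c IH (LK LD1_c2 LD2_c23 LD3_c4) (LK LD1_c4 LD2_c50 LD3_c36) Lrfl Lrfl
theorem f198884 : Led Lsl_at (LP (LK LD1_c4 LD2_c50 LD3_c36)) = (LP (LK LD1_c5 LD2_c21 LD3_c47)) :=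
  Lgr Lrot107 (Lpe (f27720 IH) (Lpr_af (f43261 IH) (Lpr_cf (f198874 IH) (Lpn (LP (LK LD1_c5 LD2_c21 LD3_c47))))))
theorem f198931 : Led Lsl_gt (LP (LK LD1_c5 LD2_c21 LD3_c46)) = (LP (LK LD1_c2 LD2_c37 LD3_c30)) :=
  Lgr Lrot5 (Lpr_ft (K10.f189301 IH) (Lpr_at (f198884 IH) (Lpe (f198866 IH) (Lpn (LP (LK LD1_c2 LD2_c37 LD3_c30))))))
theorem f8512 : Led Lsl_bt (LP (LK LD1_c1 LD2_c16 LD3_c35)) = (LP (LK LD1_c0 LD2_c35 LD3_c28)) :=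
  Lre_b IH (LK LD1_c1 LD2_c16 LD3_c35) (LK LD1_c0 LD2_c35 LD3_c28) Lrfl Lrfl
theorem f8517 : Led Lsl_ct (LP (LK LD1_c1 LD2_c16 LD3_c35)) = (LP (LK LD1_c2 LD2_c39 LD3_c38)) :=
  Lre_c IH (LK LD1_c1 LD2_c16 LD3_c35) (LK LD1_c2 LD2_c39 LD3_c38) Lrfl Lrfl
theorem f187529 : Led Lsl_bt (LP (LK LD1_c0 LD2_c36 LD3_c11)) = (LP (LK LD1_c1 LD2_c18 LD3_c20)) :=
  Lre_b IH (LK LD1_c0 LD2_c36 LD3_c11) (LK LD1_c1 LD2_c18 LD3_c20) Lrfl Lrfl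
theorem f195795 : Led Lsl_gf (LP (LK LD1_c2 LD2_c39 LD3_c38)) = (LP (LK LD1_c4 LD2_c13 LD3_c56)) :=
  Lgr Lrot126 (Lpe (f8517 IH) (Lpr_bt (f8512 IH) (Lpe (K9.f8505 IH) (Lpr_ct (K9.f8493 IH) (Lpr_gt (K10.f195786 IH) (Lpr_cf (K10.f187513 IH) (Lpr_bt (f187529 IH) (Lpr_gt (K10.f189141 IH) (Lpe (K10.f43263 IH) (Lpr_ct (K10.f49885 IH) (Lpn (LP (LK LD1_c4 LD2_c13 LD3_c56)))))))))))))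
theorem f195797 : Led Lsl_gt (LP (LK LD1_c2 LD2_c39 LD3_c38)) = (LP (LK LD1_c5 LD2_c26 LD3_c23)) :=
  Lre_g IH (LK LD1_c2 LD2_c39 LD3_c38) (LK LD1_c5 LD2_c26 LD3_c23) Lrfl Lrfl
theorem f183780 : Led Lsl_ff (LP (LK LD1_c6 LD2_c6 LD3_c17)) = (LP (LK LD1_c4 LD2_c13 LD3_c56)) :=
  Lgr Lrot3 (Lpr_ft (f183769 IH) (Lpn (LP (LK LD1_c4 LD2_c13 LD3_c56))))
theorem f195798 : Led Lsl_af (LP (LK LD1_c5 LD2_c26 LD3_c23)) = (LP (LK LD1_c6 LD2_c6 LD3_c17)) :=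
  Lgr Lrot31 (Lpe (f195797 IH) (Lpr_gf (f195795 IH) (Lpe (f183780 IH) (Lpn (LP (LK LD1_c6 LD2_c6 LD3_c17))))))
theorem f27718 : Led Lsl_bt (LP (LK LD1_c2 LD2_c23 LD3_c4)) = (LP (LK LD1_c1 LD2_c8 LD3_c41)) :=
  Lre_b IH (LK LD1_c2 LD2_c23 LD3_c4) (LK LD1_c1 LD2_c8 LD3_c41) Lrfl Lrfl
theorem f50869 : Led Lsl_at (LP (LK LD1_c2 LD2_c4 LD3_c19)) = (LP (LK LD1_c4 LD2_c13 LD3_c36)) :=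
  Lgr Lrot67 (Lpe (K10.f43274 IH) (Lpe (K10.f27686 IH) (Lpe (f27718 IH) (Lpr_af (f43261 IH) (Lpr_bf (f50866 IH) (Lpn (LP (LK LD1_c4 LD2_c13 LD3_c36))))))))
theorem f183721 : Led Lsl_at (LP (LK LD1_c6 LD2_c6 LD3_c16)) = (LP (LK LD1_c4 LD2_c13 LD3_c56)) :=
  Lgr Lrot107 (Lpr_cf (f183719 IH) (Lpe (f50869 IH) (Lpe (K10.f49441 IH) (Lpn (LP (LK LD1_c4 LD2_c13 LD3_c56))))))
theorem f195820 : Led Lsl_ft (LP (LK LD1_c5 LD2_c26 LD3_c23)) = (LP (LK LD1_c6 LD2_c6 LD3_c16)) :=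
  Lgr Lrot101 (Lpr_af (f195798 IH) (Lpr_ff (f183780 IH) (Lpe (f183721 IH) (Lpn (LP (LK LD1_c6 LD2_c6 LD3_c16))))))
theorem f195830 : Led Lsl_gt (LP (LK LD1_c5 LD2_c26 LD3_c23)) = (LP (LK LD1_c4 LD2_c15 LD3_c11)) :=
  Lgr Lrot5 (Lpr_ft (f195820 IH) (Lpr_at (f183721 IH) (Lpr_gf (K10.f50890 IH) (Lpn (LP (LK LD1_c4 LD2_c15 LD3_c11))))))
theorem f183709 : Led Lsl_ct (LP (LK LD1_c6 LD2_c6 LD3_c16)) = (LP (LK LD1_c4 LD2_c13 LD3_c36)) :=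
  Lgr Lrot110 (Lpe (f183358 IH) (Lpe (f183357 IH) (Lpr_gf (K9.f183493 IH) (Lpe (K10.f45222 IH) (Lpe (K9.f183668 IH) (Lpr_ct (K9.f177784 IH) (Lpr_gt (K9.f183705 IH) (Lpr_ct (K9.f49462 IH) (Lpe (f49525 IH) (Lpn (LP (LK LD1_c4 LD2_c13 LD3_c36))))))))))))
theorem f195825 : Led Lsl_cf (LP (LK LD1_c5 LD2_c26 LD3_c23)) = (LP (LK LD1_c5 LD2_c15 LD3_c15)) :=
  Lgr Lrot108 (Lpr_ft (f195820 IH) (Lpr_ct (f183709 IH) (Lpr_ft (f189601 IH) (Lpn (LP (LK LD1_c5 LD2_c15 LD3_c15))))))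
theorem f190985 : Led Lsl_dt (LP (LK LD1_c5 LD2_c9 LD3_c26)) = (LP (LK LD1_c2 LD2_c31 LD3_c50)) :=
  Lre_d IH (LK LD1_c5 LD2_c9 LD3_c26) (LK LD1_c2 LD2_c31 LD3_c50) Lrfl Lrfl
theorem f190986 : Led Lsl_bt (LP (LK LD1_c5 LD2_c15 LD3_c15)) = (LP (LK LD1_c5 LD2_c9 LD3_c26)) :=
  Lgr Lrot95 (Lpe (f47684 IH) (Lpr_bf (K10.f190977 IH) (Lpe (f190985 IH) (Lpn (LP (LK LD1_c5 LD2_c9 LD3_c26))))))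
theorem f195832 : Led Lsl_gf (LP (LK LD1_c5 LD2_c9 LD3_c26)) = (LP (LK LD1_c4 LD2_c50 LD3_c34)) :=
  Lgr Lrot124 (Lpe (f190986 IH) (Lpe (f195825 IH) (Lpr_gt (f195830 IH) (Lpe (K10.f45371 IH) (Lpr_bt (K10.f189984 IH) (Lpr_gt (K10.f1439 IH) (Lpr_ct (K10.f49338 IH) (Lpr_gt (K10.f49326 IH) (Lpe (K10.f184125 IH) (Lpr_bt (K10.f194762 IH) (Lpn (LP (LK LD1_c4 LD2_c50 LD3_c34)))))))))))))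
theorem f195835 : Led Lsl_af (LP (LK LD1_c5 LD2_c9 LD3_c26)) = (LP (LK LD1_c4 LD2_c50 LD3_c37)) :=
  Lgr Lrot31 (Lpr_gf (f195832 IH) (Lpe (K10.f27729 IH) (Lpr_ft (K10.f27728 IH) (Lpn (LP (LK LD1_c4 LD2_c50 LD3_c37))))))
theorem f195934 : Led Lsl_at (LP (LK LD1_c5 LD2_c9 LD3_c26)) = (LP (LK LD1_c4 LD2_c50 LD3_c37)) :=
  Lgr Lrot100 (Lpr_af (f195835 IH) (Lpn (LP (LK LD1_c4 LD2_c50 LD3_c37))))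
theorem f191016 : Led Lsl_ft (LP (LK LD1_c3 LD2_c58 LD3_c3)) = (LP (LK LD1_c5 LD2_c9 LD3_c26)) :=
  Lgr Lrot54 (Lpe (K10.f43252 IH) (Lpr_ff (K10.f191009 IH) (Lpe (f190985 IH) (Lpn (LP (LK LD1_c5 LD2_c9 LD3_c26))))))
theorem f195948 : Led Lsl_gt (LP (LK LD1_c4 LD2_c6 LD3_c32)) = (LP (LK LD1_c4 LD2_c50 LD3_c37)) :=
  Lgr Lrot46 (Lpr_gf (f183714 IH) (Lpr_ft (f191016 IH) (Lpr_at (f195934 IH) (Lpn (LP (LK LD1_c4 LD2_c50 LD3_c37))))))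
theorem f182603 : Led Lsl_bt (LP (LK LD1_c2 LD2_c0 LD3_c37)) = (LP (LK LD1_c4 LD2_c6 LD3_c32)) :=
  Lre_b IH (LK LD1_c2 LD2_c0 LD3_c37) (LK LD1_c4 LD2_c6 LD3_c32) Lrfl Lrfl
theorem f31247 : Led Lsl_et (LP (LK LD1_c4 LD2_c20 LD3_c54)) = (LP (LK LD1_c8 LD2_c39 LD3_c29)) :=
  Lre_e IH (LK LD1_c4 LD2_c20 LD3_c54) (LK LD1_c8 LD2_c39 LD3_c29) Lrfl Lrfl
theorem f54285 : Led Lsl_at (LP (LK LD1_c8 LD2_c39 LD3_c29)) = (LP (LK LD1_c8 LD2_c29 LD3_c10)) :=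
  Lgr Lrot80 (Lpe (f31247 IH) (Lpr_af (K10.f54279 IH) (Lpe (K10.f45607 IH) (Lpn (LP (LK LD1_c8 LD2_c29 LD3_c10))))))
theorem f31217 : Led Lsl_bt (LP (LK LD1_c4 LD2_c20 LD3_c61)) = (LP (LK LD1_c8 LD2_c39 LD3_c29)) :=
  Lre_b IH (LK LD1_c4 LD2_c20 LD3_c61) (LK LD1_c8 LD2_c39 LD3_c29) Lrfl Lrfl
theorem f54295 : Led Lsl_bf (LP (LK LD1_c4 LD2_c20 LD3_c52)) = (LP (LK LD1_c4 LD2_c15 LD3_c2)) :=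
  Lgr Lrot81 (Lpr_at (K10.f31210 IH) (Lpr_bt (f31217 IH) (Lpr_at (f54285 IH) (Lpr_bt (K10.f45602 IH) (Lpe (K10.f45184 IH) (Lpn (LP (LK LD1_c4 LD2_c15 LD3_c2))))))))
theorem f31143 : Led Lsl_ct (LP (LK LD1_c4 LD2_c20 LD3_c52)) = (LP (LK LD1_c8 LD2_c39 LD3_c24)) :=
  Lre_c IH (LK LD1_c4 LD2_c20 LD3_c52) (LK LD1_c8 LD2_c39 LD3_c24) Lrfl Lrfl
theorem f31152 : Led Lsl_bt (LP (LK LD1_c8 LD2_c39 LD3_c24)) = (LP (LK LD1_c16 LD2_c12 LD3_c45)) :=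
  Lre_b IH (LK LD1_c8 LD2_c39 LD3_c24) (LK LD1_c16 LD2_c12 LD3_c45) Lrfl Lrfl
theorem f45622 : Led Lsl_bt (LP (LK LD1_c15 LD2_c55 LD3_c57)) = (LP (LK LD1_c8 LD2_c29 LD3_c5)) :=
  Lre_b IH (LK LD1_c15 LD2_c55 LD3_c57) (LK LD1_c8 LD2_c29 LD3_c5) Lrfl Lrfl
theorem f54299 : Led Lsl_ct (LP (LK LD1_c16 LD2_c12 LD3_c45)) = (LP (LK LD1_c15 LD2_c55 LD3_c57)) :=
  Lgr Lrot83 (Lpe (f31152 IH) (Lpe (f31143 IH) (Lpr_bf (f54295 IH) (Lpe (K10.f45168 IH) (Lpe (f45622 IH) (Lpn (LP (LK LD1_c15 LD2_c55 LD3_c57))))))))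
theorem f36993 : Led Lsl_et (LP (LK LD1_c8 LD2_c39 LD3_c22)) = (LP (LK LD1_c16 LD2_c12 LD3_c45)) :=
  Lre_e IH (LK LD1_c8 LD2_c39 LD3_c22) (LK LD1_c16 LD2_c12 LD3_c45) Lrfl Lrfl
theorem f54303 : Led Lsl_et (LP (LK LD1_c15 LD2_c55 LD3_c57)) = (LP (LK LD1_c8 LD2_c29 LD3_c0)) :=
  Lre_e IH (LK LD1_c15 LD2_c55 LD3_c57) (LK LD1_c8 LD2_c29 LD3_c0) Lrfl Lrfl
theorem f54304 : Led Lsl_cf (LP (LK LD1_c8 LD2_c39 LD3_c22)) = (LP (LK LD1_c8 LD2_c29 LD3_c0)) :=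
  Lgr Lrot39 (Lpr_et (f36993 IH) (Lpr_ct (f54299 IH) (Lpr_et (f54303 IH) (Lpn (LP (LK LD1_c8 LD2_c29 LD3_c0))))))
theorem f36992 : Led Lsl_ft (LP (LK LD1_c8 LD2_c39 LD3_c22)) = (LP (LK LD1_c4 LD2_c20 LD3_c49)) :=
  Lre_f IH (LK LD1_c8 LD2_c39 LD3_c22) (LK LD1_c4 LD2_c20 LD3_c49) Lrfl Lrfl
theorem f54312 : Led Lsl_ft (LP (LK LD1_c4 LD2_c14 LD3_c61)) = (LP (LK LD1_c8 LD2_c29 LD3_c0)) :=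
  Lre_f IH (LK LD1_c4 LD2_c14 LD3_c61) (LK LD1_c8 LD2_c29 LD3_c0) Lrfl Lrfl
theorem f54313 : Led Lsl_ct (LP (LK LD1_c4 LD2_c20 LD3_c49)) = (LP (LK LD1_c4 LD2_c14 LD3_c61)) :=
  Lgr Lrot40 (Lpe (f36992 IH) (Lpr_cf (f54304 IH) (Lpe (f54312 IH) (Lpn (LP (LK LD1_c4 LD2_c14 LD3_c61))))))
theorem f33525 : Led Lsl_et (LP (LK LD1_c8 LD2_c39 LD3_c11)) = (LP (LK LD1_c4 LD2_c20 LD3_c49)) :=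
  Lre_e IH (LK LD1_c8 LD2_c39 LD3_c11) (LK LD1_c4 LD2_c20 LD3_c49) Lrfl Lrfl
theorem f54324 : Led Lsl_ef (LP (LK LD1_c5 LD2_c14 LD3_c55)) = (LP (LK LD1_c4 LD2_c14 LD3_c61)) :=
  Lgr Lrot28 (Lpe (K10.f33516 IH) (Lpr_et (f33525 IH) (Lpr_ct (f54313 IH) (Lpn (LP (LK LD1_c4 LD2_c14 LD3_c61))))))
theorem f54347 : Led Lsl_et (LP (LK LD1_c5 LD2_c14 LD3_c55)) = (LP (LK LD1_c4 LD2_c14 LD3_c61)) :=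
  Lgr Lrot87 (Lpr_ef (f54324 IH) (Lpn (LP (LK LD1_c4 LD2_c14 LD3_c61))))
theorem f45261 : Led Lsl_bt (LP (LK LD1_c4 LD2_c14 LD3_c61)) = (LP (LK LD1_c2 LD2_c4 LD3_c53)) :=
  Lre_b IH (LK LD1_c4 LD2_c14 LD3_c61) (LK LD1_c2 LD2_c4 LD3_c53) Lrfl Lrfl
theorem f54355 : Led Lsl_ef (LP (LK LD1_c2 LD2_c34 LD3_c17)) = (LP (LK LD1_c2 LD2_c4 LD3_c53)) :=
  Lgr Lrot29 (Lpr_bt (K10.f33497 IH) (Lpr_et (f54347 IH) (Lpr_bt (f45261 IH) (Lpn (LP (LK LD1_c2 LD2_c4 LD3_c53))))))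
theorem f33437 : Led Lsl_ct (LP (LK LD1_c2 LD2_c34 LD3_c17)) = (LP (LK LD1_c1 LD2_c14 LD3_c7)) :=
  Lre_c IH (LK LD1_c2 LD2_c34 LD3_c17) (LK LD1_c1 LD2_c14 LD3_c7) Lrfl Lrfl
theorem f54362 : Led Lsl_et (LP (LK LD1_c1 LD2_c14 LD3_c7)) = (LP (LK LD1_c0 LD2_c59 LD3_c29)) :=
  Lgr Lrot158 (Lpe (f33437 IH) (Lpr_ef (f54355 IH) (Lpe (K10.f45267 IH) (Lpn (LP (LK LD1_c0 LD2_c59 LD3_c29))))))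
theorem f54364 : Led Lsl_ef (LP (LK LD1_c1 LD2_c14 LD3_c10)) = (LP (LK LD1_c0 LD2_c59 LD3_c34)) :=
  Lgr Lrot20 (Lpr_at (K10.f33449 IH) (Lpr_et (f54362 IH) (Lpr_at (K10.f45361 IH) (Lpn (LP (LK LD1_c0 LD2_c59 LD3_c34))))))
theorem f33504 : Led Lsl_bt (LP (LK LD1_c1 LD2_c14 LD3_c10)) = (LP (LK LD1_c2 LD2_c34 LD3_c18)) :=
  Lre_b IH (LK LD1_c1 LD2_c14 LD3_c10) (LK LD1_c2 LD2_c34 LD3_c18) Lrfl Lrfl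
theorem f54371 : Led Lsl_et (LP (LK LD1_c2 LD2_c34 LD3_c18)) = (LP (LK LD1_c2 LD2_c4 LD3_c56)) :=
  Lgr Lrot74 (Lpe (f33504 IH) (Lpr_ef (f54364 IH) (Lpe (K10.f54370 IH) (Lpn (LP (LK LD1_c2 LD2_c4 LD3_c56))))))
theorem f54378 : Led Lsl_ef (LP (LK LD1_c2 LD2_c34 LD3_c18)) = (LP (LK LD1_c2 LD2_c4 LD3_c56)) :=
  Lgr Lrot88 (Lpr_et (f54371 IH) (Lpn (LP (LK LD1_c2 LD2_c4 LD3_c56))))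
theorem f54380 : Led Lsl_et (LP (LK LD1_c5 LD2_c14 LD3_c57)) = (LP (LK LD1_c4 LD2_c15 LD3_c5)) :=
  Lgr Lrot158 (Lpe (K10.f48052 IH) (Lpr_ef (f54378 IH) (Lpe (K10.f54077 IH) (Lpn (LP (LK LD1_c4 LD2_c15 LD3_c5))))))
theorem f48057 : Led Lsl_at (LP (LK LD1_c5 LD2_c21 LD3_c18)) = (LP (LK LD1_c5 LD2_c14 LD3_c57)) :=
  Lgr Lrot100 (Lpr_af (K10.f48053 IH) (Lpn (LP (LK LD1_c5 LD2_c14 LD3_c57))))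
theorem f48104 : Led Lsl_bt (LP (LK LD1_c8 LD2_c39 LD3_c26)) = (LP (LK LD1_c4 LD2_c20 LD3_c53)) :=
  Lre_b IH (LK LD1_c8 LD2_c39 LD3_c26) (LK LD1_c4 LD2_c20 LD3_c53) Lrfl Lrfl
theorem f48105 : Led Lsl_ef (LP (LK LD1_c5 LD2_c21 LD3_c18)) = (LP (LK LD1_c4 LD2_c20 LD3_c53)) :=
  Lgr Lrot29 (Lpr_bt (K10.f48059 IH) (Lpr_et (K10.f48102 IH) (Lpr_bt (f48104 IH) (Lpn (LP (LK LD1_c4 LD2_c20 LD3_c53))))))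
theorem f54383 : Led Lsl_af (LP (LK LD1_c4 LD2_c20 LD3_c53)) = (LP (LK LD1_c4 LD2_c15 LD3_c5)) :=
  Lgr Lrot50 (Lpe (f48105 IH) (Lpr_at (f48057 IH) (Lpr_et (f54380 IH) (Lpn (LP (LK LD1_c4 LD2_c15 LD3_c5))))))
theorem f48139 : Led Lsl_ft (LP (LK LD1_c4 LD2_c20 LD3_c53)) = (LP (LK LD1_c8 LD2_c39 LD3_c28)) :=
  Lre_f IH (LK LD1_c4 LD2_c20 LD3_c53) (LK LD1_c8 LD2_c39 LD3_c28) Lrfl Lrfl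
theorem f183517 : Led Lsl_af (LP (LK LD1_c8 LD2_c13 LD3_c37)) = (LP (LK LD1_c8 LD2_c39 LD3_c28)) :=
  Lgr Lrot45 (Lpr_ft (K10.f183514 IH) (Lpe (f54383 IH) (Lpr_ft (f48139 IH) (Lpn (LP (LK LD1_c8 LD2_c39 LD3_c28))))))
theorem f183591 : Led Lsl_gf (LP (LK LD1_c4 LD2_c6 LD3_c33)) = (LP (LK LD1_c4 LD2_c20 LD3_c53)) :=
  Lgr Lrot47 (Lpr_gt (K9.f182713 IH) (Lpr_af (f183517 IH) (Lpe (f48139 IH) (Lpn (LP (LK LD1_c4 LD2_c20 LD3_c53))))))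
theorem f28706 : Led Lsl_dt (LP (LK LD1_c0 LD2_c27 LD3_c55)) = (LP (LK LD1_c1 LD2_c1 LD3_c6)) :=
  Lre_d IH (LK LD1_c0 LD2_c27 LD3_c55) (LK LD1_c1 LD2_c1 LD3_c6) Lrfl Lrfl
theorem f28138 : Led Lsl_et (LP (LK LD1_c0 LD2_c56 LD3_c12)) = (LP (LK LD1_c0 LD2_c25 LD3_c29)) :=
  Lre_e IH (LK LD1_c0 LD2_c56 LD3_c12) (LK LD1_c0 LD2_c25 LD3_c29) Lrfl Lrfl
theorem f28139 : Led Lsl_dt (LP (LK LD1_c0 LD2_c56 LD3_c12)) = (LP (LK LD1_c1 LD2_c58 LD3_c45)) :=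
  Lre_d IH (LK LD1_c0 LD2_c56 LD3_c12) (LK LD1_c1 LD2_c58 LD3_c45) Lrfl Lrfl
theorem f28815 : Led Lsl_gf (LP (LK LD1_c1 LD2_c1 LD3_c6)) = (LP (LK LD1_c1 LD2_c58 LD3_c45)) :=
  Lgr Lrot145 (Lpe (f28706 IH) (Lpr_et (K10.f28709 IH) (Lpr_gt (K0.f16675 IH) (Lpr_dt (K0.f16670 IH) (Lpr_gt (K0.f28777 IH) (Lpe (K0.f27776 IH) (Lpr_et (K9.f27974 IH) (Lpr_gt (K9.f28814 IH) (Lpe (f28138 IH) (Lpr_dt (f28139 IH) (Lpn (LP (LK LD1_c1 LD2_c58 LD3_c45)))))))))))))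
theorem f198935 : Led Lsl_bf (LP (LK LD1_c1 LD2_c58 LD3_c45)) = (LP (LK LD1_c1 LD2_c15 LD3_c47)) :=
  Lgr Lrot156 (Lpe (f28815 IH) (Lpe (K10.f28976 IH) (Lpr_ct (K10.f28664 IH) (Lpe (f183591 IH) (Lpe (K9.f182697 IH) (Lpr_bt (f182603 IH) (Lpr_gt (f195948 IH) (Lpe (K10.f189273 IH) (Lpr_gt (f198931 IH) (Lpe (f198865 IH) (Lpn (LP (LK LD1_c1 LD2_c15 LD3_c47)))))))))))))
theorem f28966 : Led Lsl_dt (LP (LK LD1_c1 LD2_c58 LD3_c45)) = (LP (LK LD1_c0 LD2_c56 LD3_c12)) :=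
  Lre_d IH (LK LD1_c1 LD2_c58 LD3_c45) (LK LD1_c0 LD2_c56 LD3_c12) Lrfl Lrfl
theorem f198941 : Led Lsl_bt (LP (LK LD1_c0 LD2_c56 LD3_c12)) = (LP (LK LD1_c1 LD2_c58 LD3_c39)) :=
  Lre_b IH (LK LD1_c0 LD2_c56 LD3_c12) (LK LD1_c1 LD2_c58 LD3_c39) Lrfl Lrfl
theorem f198942 : Led Lsl_dt (LP (LK LD1_c1 LD2_c58 LD3_c39)) = (LP (LK LD1_c1 LD2_c15 LD3_c47)) :=
  Lgr Lrot79 (Lpe (f198941 IH) (Lpe (f28966 IH) (Lpr_bf (f198935 IH) (Lpn (LP (LK LD1_c1 LD2_c15 LD3_c47))))))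
theorem f199006 : Led Lsl_et (LP (LK LD1_c1 LD2_c58 LD3_c39)) = (LP (LK LD1_c0 LD2_c56 LD3_c10)) :=
  Lre_e IH (LK LD1_c1 LD2_c58 LD3_c39) (LK LD1_c0 LD2_c56 LD3_c10) Lrfl Lrfl
theorem f41528 : Led Lsl_gt (LP (LK LD1_c0 LD2_c35 LD3_c6)) = (LP (LK LD1_c1 LD2_c15 LD3_c24)) :=
  Lre_g IH (LK LD1_c0 LD2_c35 LD3_c6) (LK LD1_c1 LD2_c15 LD3_c24) Lrfl Lrfl
theorem f41529 : Led Lsl_et (LP (LK LD1_c1 LD2_c15 LD3_c43)) = (LP (LK LD1_c0 LD2_c35 LD3_c6)) :=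
  Lre_e IH (LK LD1_c1 LD2_c15 LD3_c43) (LK LD1_c0 LD2_c35 LD3_c6) Lrfl Lrfl
theorem f44056 : Led Lsl_et (LP (LK LD1_c0 LD2_c7 LD3_c7)) = (LP (LK LD1_c0 LD2_c15 LD3_c47)) :=
  Lre_e IH (LK LD1_c0 LD2_c7 LD3_c7) (LK LD1_c0 LD2_c15 LD3_c47) Lrfl Lrfl
theorem f41755 : Led Lsl_gt (LP (LK LD1_c2 LD2_c10 LD3_c60)) = (LP (LK LD1_c1 LD2_c2 LD3_c31)) :=
  Lre_g IH (LK LD1_c2 LD2_c10 LD3_c60) (LK LD1_c1 LD2_c2 LD3_c31) Lrfl Lrfl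
theorem f44594 : Led Lsl_dt (LP (LK LD1_c1 LD2_c15 LD3_c43)) = (LP (LK LD1_c2 LD2_c10 LD3_c60)) :=
  Lgr Lrot136 (Lpr_et (f41529 IH) (Lpe (K10.f8397 IH) (Lpe (f44056 IH) (Lpr_dt (K1.f28232 IH) (Lpe (K1.f28234 IH) (Lpr_df (K1.f44587 IH) (Lpe (K1.f41832 IH) (Lpe (K1.f41744 IH) (Lpr_dt (K1.f41767 IH) (Lpe (f41755 IH) (Lpn (LP (LK LD1_c2 LD2_c10 LD3_c60)))))))))))))
theorem f41598 : Led Lsl_gt (LP (LK LD1_c1 LD2_c2 LD3_c41)) = (LP (LK LD1_c2 LD2_c10 LD3_c60)) :=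
  Lre_g IH (LK LD1_c1 LD2_c2 LD3_c41) (LK LD1_c2 LD2_c10 LD3_c60) Lrfl Lrfl
theorem f41572 : Led Lsl_dt (LP (LK LD1_c0 LD2_c28 LD3_c34)) = (LP (LK LD1_c1 LD2_c2 LD3_c41)) :=
  Lre_d IH (LK LD1_c0 LD2_c28 LD3_c34) (LK LD1_c1 LD2_c2 LD3_c41) Lrfl Lrfl
theorem f199118 : Led Lsl_gt (LP (LK LD1_c0 LD2_c56 LD3_c10)) = (LP (LK LD1_c0 LD2_c28 LD3_c34)) :=
  Lgr Lrot137 (Lpe (f199006 IH) (Lpr_dt (f198942 IH) (Lpe (f41511 IH) (Lpe (K1.f41485 IH) (Lpe (K1.f41488 IH) (Lpe (f41528 IH) (Lpe (f41529 IH) (Lpr_dt (f44594 IH) (Lpe (f41598 IH) (Lpe (f41572 IH) (Lpn (LP (LK LD1_c0 LD2_c28 LD3_c34)))))))))))))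
theorem f42888 : Led Lsl_ct (LP (LK LD1_c1 LD2_c1 LD3_c13)) = (LP (LK LD1_c0 LD2_c28 LD3_c34)) :=
  Lre_c IH (LK LD1_c1 LD2_c1 LD3_c13) (LK LD1_c0 LD2_c28 LD3_c34) Lrfl Lrfl
theorem f42884 : Led Lsl_bt (LP (LK LD1_c1 LD2_c1 LD3_c13)) = (LP (LK LD1_c0 LD2_c28 LD3_c2)) :=
  Lre_b IH (LK LD1_c1 LD2_c1 LD3_c13) (LK LD1_c0 LD2_c28 LD3_c2) Lrfl Lrfl
theorem f42876 : Led Lsl_ft (LP (LK LD1_c0 LD2_c28 LD3_c2)) = (LP (LK LD1_c0 LD2_c12 LD3_c23)) :=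
  Lre_f IH (LK LD1_c0 LD2_c28 LD3_c2) (LK LD1_c0 LD2_c12 LD3_c23) Lrfl Lrfl
theorem f42877 : Led Lsl_gt (LP (LK LD1_c0 LD2_c28 LD3_c2)) = (LP (LK LD1_c0 LD2_c54 LD3_c22)) :=
  Lgr Lrot5 (Lpr_ft (f42876 IH) (Lpr_at (K9.f42866 IH) (Lpe (K10.f28799 IH) (Lpn (LP (LK LD1_c0 LD2_c54 LD3_c22))))))
theorem f199130 : Led Lsl_cf (LP (LK LD1_c0 LD2_c56 LD3_c10)) = (LP (LK LD1_c0 LD2_c26 LD3_c35)) :=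
  Lgr Lrot125 (Lpr_gt (f199118 IH) (Lpe (f42888 IH) (Lpr_bt (f42884 IH) (Lpr_gt (f42877 IH) (Lpr_bf (K10.f187228 IH) (Lpe (K10.f187230 IH) (Lpr_gt (K10.f188919 IH) (Lpe (K8.f33428 IH) (Lpr_bt (K10.f53963 IH) (Lpe (K10.f189095 IH) (Lpn (LP (LK LD1_c0 LD2_c26 LD3_c35)))))))))))))
theorem f47949 : Led Lsl_gt (LP (LK LD1_c1 LD2_c15 LD3_c47)) = (LP (LK LD1_c0 LD2_c35 LD3_c8)) :=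
  Lre_g IH (LK LD1_c1 LD2_c15 LD3_c47) (LK LD1_c0 LD2_c35 LD3_c8) Lrfl Lrfl
theorem f46469 : Led Lsl_dt (LP (LK LD1_c0 LD2_c15 LD3_c47)) = (LP (LK LD1_c0 LD2_c35 LD3_c8)) :=
  Lre_d IH (LK LD1_c0 LD2_c15 LD3_c47) (LK LD1_c0 LD2_c35 LD3_c8) Lrfl Lrfl
theorem f47948 : Led Lsl_et (LP (LK LD1_c0 LD2_c15 LD3_c47)) = (LP (LK LD1_c0 LD2_c7 LD3_c7)) :=
  Lre_e IH (LK LD1_c0 LD2_c15 LD3_c47) (LK LD1_c0 LD2_c7 LD3_c7) Lrfl Lrfl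
theorem f199120 : Led Lsl_gf (LP (LK LD1_c0 LD2_c56 LD3_c10)) = (LP (LK LD1_c0 LD2_c28 LD3_c30)) :=
  Lgr Lrot141 (Lpe (f199006 IH) (Lpr_dt (f198942 IH) (Lpr_gt (f47949 IH) (Lpe (f46469 IH) (Lpr_et (f47948 IH) (Lpr_gt (K1.f8283 IH) (Lpr_dt (K1.f29031 IH) (Lpr_gt (K8.f47943 IH) (Lpe (K1.f41747 IH) (Lpr_et (K1.f41768 IH) (Lpn (LP (LK LD1_c0 LD2_c28 LD3_c30)))))))))))))
theorem f41258 : Led Lsl_ct (LP (LK LD1_c1 LD2_c1 LD3_c9)) = (LP (LK LD1_c0 LD2_c28 LD3_c30)) :=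
  Lre_c IH (LK LD1_c1 LD2_c1 LD3_c9) (LK LD1_c0 LD2_c28 LD3_c30) Lrfl Lrfl
theorem f166475 : Led Lsl_bt (LP (LK LD1_c0 LD2_c26 LD3_c35)) = (LP (LK LD1_c0 LD2_c11 LD3_c48)) :=
  Lre_b IH (LK LD1_c0 LD2_c26 LD3_c35) (LK LD1_c0 LD2_c11 LD3_c48) Lrfl Lrfl
theorem f7913 : Led Lsl_bt (LP (LK LD1_c0 LD2_c12 LD3_c5)) = (LP (LK LD1_c0 LD2_c27 LD3_c16)) :=
  Lre_b IH (LK LD1_c0 LD2_c12 LD3_c5) (LK LD1_c0 LD2_c27 LD3_c16) Lrfl Lrfl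
theorem f199580 : Led Lsl_gf (LP (LK LD1_c0 LD2_c35 LD3_c2)) = (LP (LK LD1_c0 LD2_c27 LD3_c16)) :=
  Lgr Lrot124 (Lpr_bf (K1.f41891 IH) (Lpr_ct (f41258 IH) (Lpe (f199120 IH) (Lpr_cf (f199130 IH) (Lpr_bt (f166475 IH) (Lpr_gt (K9.f166442 IH) (Lpr_ct (K0.f281 IH) (Lpr_gt (K0.f3083 IH) (Lpe (K0.f7897 IH) (Lpr_bt (f7913 IH) (Lpn (LP (LK LD1_c0 LD2_c27 LD3_c16)))))))))))))
theorem f7852 : Led Lsl_gt (LP (LK LD1_c0 LD2_c59 LD3_c60)) = (LP (LK LD1_c0 LD2_c27 LD3_c16)) :=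
  Lre_g IH (LK LD1_c0 LD2_c59 LD3_c60) (LK LD1_c0 LD2_c27 LD3_c16) Lrfl Lrfl
theorem f199582 : Led Lsl_ff (LP (LK LD1_c0 LD2_c35 LD3_c3)) = (LP (LK LD1_c0 LD2_c59 LD3_c60)) :=
  Lgr Lrot52 (Lpr_at (K9.f42126 IH) (Lpr_gf (f199580 IH) (Lpe (f7852 IH) (Lpn (LP (LK LD1_c0 LD2_c59 LD3_c60))))))
theorem f41893 : Led Lsl_cf (LP (LK LD1_c0 LD2_c35 LD3_c2)) = (LP (LK LD1_c0 LD2_c54 LD3_c40)) :=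
  Lgr Lrot11 (Lpr_ct (K1.f41887 IH) (Lpn (LP (LK LD1_c0 LD2_c54 LD3_c40))))
theorem f41226 : Led Lsl_dt (LP (LK LD1_c7 LD2_c57 LD3_c46)) = (LP (LK LD1_c3 LD2_c58 LD3_c10)) :=
  Lre_d IH (LK LD1_c7 LD2_c57 LD3_c46) (LK LD1_c3 LD2_c58 LD3_c10) Lrfl Lrfl
theorem f199769 : Led Lsl_dt (LP (LK LD1_c0 LD2_c59 LD3_c60)) = (LP (LK LD1_c2 LD2_c5 LD3_c58)) :=
  Lre_d IH (LK LD1_c0 LD2_c59 LD3_c60) (LK LD1_c2 LD2_c5 LD3_c58) Lrfl Lrfl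
theorem f199770 : Led Lsl_ct (LP (LK LD1_c2 LD2_c5 LD3_c58)) = (LP (LK LD1_c4 LD2_c17 LD3_c12)) :=
  Lre_c IH (LK LD1_c2 LD2_c5 LD3_c58) (LK LD1_c4 LD2_c17 LD3_c12) Lrfl Lrfl
theorem f199771 : Led Lsl_dt (LP (LK LD1_c4 LD2_c17 LD3_c12)) = (LP (LK LD1_c8 LD2_c33 LD3_c36)) :=
  Lre_d IH (LK LD1_c4 LD2_c17 LD3_c12) (LK LD1_c8 LD2_c33 LD3_c36) Lrfl Lrfl
theorem f199772 : Led Lsl_cf (LP (LK LD1_c7 LD2_c57 LD3_c46)) = (LP (LK LD1_c8 LD2_c33 LD3_c36)) :=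
  Lgr Lrot116 (Lpr_dt (f41226 IH) (Lpr_ct (K1.f41198 IH) (Lpr_dt (K1.f41906 IH) (Lpe (f41893 IH) (Lpe (K9.f42126 IH) (Lpr_ff (f199582 IH) (Lpr_dt (f199769 IH) (Lpr_ct (f199770 IH) (Lpr_dt (f199771 IH) (Lpn (LP (LK LD1_c8 LD2_c33 LD3_c36))))))))))))
theorem f42693 : Led Lsl_af (LP (LK LD1_c5 LD2_c21 LD3_c17)) = (LP (LK LD1_c5 LD2_c21 LD3_c14)) :=
  Lgr Lrot0 (Lpr_at (K9.f42691 IH) (Lpn (LP (LK LD1_c5 LD2_c21 LD3_c14))))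
theorem f41925 : Led Lsl_dt (LP (LK LD1_c2 LD2_c37 LD3_c11)) = (LP (LK LD1_c5 LD2_c21 LD3_c14)) :=
  Lre_d IH (LK LD1_c2 LD2_c37 LD3_c11) (LK LD1_c5 LD2_c21 LD3_c14) Lrfl Lrfl
theorem f43159 : Led Lsl_at (LP (LK LD1_c2 LD2_c37 LD3_c12)) = (LP (LK LD1_c2 LD2_c37 LD3_c11)) :=
  Lgr Lrot51 (Lpe (K9.f42658 IH) (Lpr_af (f42693 IH) (Lpe (f41925 IH) (Lpn (LP (LK LD1_c2 LD2_c37 LD3_c11))))))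
theorem f199784 : Led Lsl_ff (LP (LK LD1_c2 LD2_c37 LD3_c12)) = (LP (LK LD1_c4 LD2_c17 LD3_c12)) :=
  Lgr Lrot103 (Lpr_at (f43159 IH) (Lpe (K9.f41928 IH) (Lpe (K1.f41967 IH) (Lpr_cf (f41893 IH) (Lpe (K1.f41906 IH) (Lpe (K1.f41198 IH) (Lpe (f41226 IH) (Lpr_cf (f199772 IH) (Lpe (f199771 IH) (Lpn (LP (LK LD1_c4 LD2_c17 LD3_c12))))))))))))
theorem f199794 : Led Lsl_ft (LP (LK LD1_c2 LD2_c37 LD3_c12)) = (LP (LK LD1_c4 LD2_c17 LD3_c12)) :=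
  Lgr Lrot48 (Lpr_ff (f199784 IH) (Lpn (LP (LK LD1_c4 LD2_c17 LD3_c12))))
theorem f199799 : Led Lsl_ct (LP (LK LD1_c4 LD2_c17 LD3_c12)) = (LP (LK LD1_c2 LD2_c5 LD3_c58)) :=
  Lre_c IH (LK LD1_c4 LD2_c17 LD3_c12) (LK LD1_c2 LD2_c5 LD3_c58) Lrfl Lrfl
theorem f199807 : Led Lsl_ff (LP (LK LD1_c1 LD2_c15 LD3_c36)) = (LP (LK LD1_c2 LD2_c5 LD3_c58)) :=
  Lgr Lrot23 (Lpr_ct (K9.f42650 IH) (Lpr_ft (f199794 IH) (Lpr_ct (f199799 IH) (Lpn (LP (LK LD1_c2 LD2_c5 LD3_c58))))))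
theorem f187010 : Led Lsl_dt (LP (LK LD1_c2 LD2_c2 LD3_c34)) = (LP (LK LD1_c0 LD2_c58 LD3_c11)) :=
  Lre_d IH (LK LD1_c2 LD2_c2 LD3_c34) (LK LD1_c0 LD2_c58 LD3_c11) Lrfl Lrfl
theorem f187011 : Led Lsl_ff (LP (LK LD1_c2 LD2_c2 LD3_c34)) = (LP (LK LD1_c1 LD2_c24 LD3_c53)) :=
  Lgr Lrot19 (Lpr_dt (f187010 IH) (Lpr_ft (K10.f187004 IH) (Lpr_dt (K1.f29054 IH) (Lpn (LP (LK LD1_c1 LD2_c24 LD3_c53))))))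
theorem f199896 : Led Lsl_et (LP (LK LD1_c2 LD2_c2 LD3_c34)) = (LP (LK LD1_c4 LD2_c10 LD3_c38)) :=
  Lre_e IH (LK LD1_c2 LD2_c2 LD3_c34) (LK LD1_c4 LD2_c10 LD3_c38) Lrfl Lrfl
theorem f199836 : Led Lsl_et (LP (LK LD1_c4 LD2_c17 LD3_c13)) = (LP (LK LD1_c2 LD2_c5 LD3_c58)) :=
  Lre_e IH (LK LD1_c4 LD2_c17 LD3_c13) (LK LD1_c2 LD2_c5 LD3_c58) Lrfl Lrfl
theorem f199897 : Led Lsl_ft (LP (LK LD1_c4 LD2_c10 LD3_c38)) = (LP (LK LD1_c4 LD2_c17 LD3_c13)) :=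
  Lgr Lrot86 (Lpe (f199896 IH) (Lpr_ff (f187011 IH) (Lpe (K9.f42488 IH) (Lpr_ff (f199807 IH) (Lpe (f199836 IH) (Lpn (LP (LK LD1_c4 LD2_c17 LD3_c13))))))))
theorem f199904 : Led Lsl_ff (LP (LK LD1_c4 LD2_c10 LD3_c38)) = (LP (LK LD1_c4 LD2_c17 LD3_c13)) :=
  Lgr Lrot3 (Lpr_ft (f199897 IH) (Lpn (LP (LK LD1_c4 LD2_c17 LD3_c13))))
theorem f199913 : Led Lsl_et (LP (LK LD1_c4 LD2_c10 LD3_c38)) = (LP (LK LD1_c2 LD2_c2 LD3_c34)) :=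
  Lre_e IH (LK LD1_c4 LD2_c10 LD3_c38) (LK LD1_c2 LD2_c2 LD3_c34) Lrfl Lrfl
theorem f199828 : Led Lsl_et (LP (LK LD1_c2 LD2_c5 LD3_c58)) = (LP (LK LD1_c4 LD2_c17 LD3_c13)) :=
  Lre_e IH (LK LD1_c2 LD2_c5 LD3_c58) (LK LD1_c4 LD2_c17 LD3_c13) Lrfl Lrfl
theorem f199764 : Led Lsl_dt (LP (LK LD1_c2 LD2_c5 LD3_c58)) = (LP (LK LD1_c0 LD2_c59 LD3_c60)) :=
  Lre_d IH (LK LD1_c2 LD2_c5 LD3_c58) (LK LD1_c0 LD2_c59 LD3_c60) Lrfl Lrfl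
theorem f199765 : Led Lsl_ft (LP (LK LD1_c1 LD2_c15 LD3_c36)) = (LP (LK LD1_c2 LD2_c5 LD3_c58)) :=
  Lgr Lrot54 (Lpe (K9.f41536 IH) (Lpr_ff (f199582 IH) (Lpe (f199764 IH) (Lpn (LP (LK LD1_c2 LD2_c5 LD3_c58))))))
theorem f199914 : Led Lsl_ft (LP (LK LD1_c2 LD2_c2 LD3_c34)) = (LP (LK LD1_c1 LD2_c24 LD3_c53)) :=
  Lgr Lrot86 (Lpe (f199913 IH) (Lpr_ff (f199904 IH) (Lpe (f199828 IH) (Lpe (f199765 IH) (Lpr_ef (K9.f42643 IH) (Lpn (LP (LK LD1_c1 LD2_c24 LD3_c53))))))))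
theorem f29083 : Led Lsl_ft (LP (LK LD1_c1 LD2_c55 LD3_c10)) = (LP (LK LD1_c3 LD2_c56 LD3_c55)) :=
  Lre_f IH (LK LD1_c1 LD2_c55 LD3_c10) (LK LD1_c3 LD2_c56 LD3_c55) Lrfl Lrfl
theorem f199916 : Led Lsl_bf (LP (LK LD1_c2 LD2_c2 LD3_c34)) = (LP (LK LD1_c3 LD2_c56 LD3_c55)) :=
  Lgr Lrot61 (Lpr_ft (f199914 IH) (Lpr_bt (K1.f29071 IH) (Lpr_ft (f29083 IH) (Lpn (LP (LK LD1_c3 LD2_c56 LD3_c55))))))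
theorem f187017 : Led Lsl_ct (LP (LK LD1_c2 LD2_c2 LD3_c34)) = (LP (LK LD1_c4 LD2_c10 LD3_c37)) :=
  Lre_c IH (LK LD1_c2 LD2_c2 LD3_c34) (LK LD1_c4 LD2_c10 LD3_c37) Lrfl Lrfl
theorem f199922 : Led Lsl_bt (LP (LK LD1_c4 LD2_c10 LD3_c37)) = (LP (LK LD1_c8 LD2_c21 LD3_c12)) :=
  Lre_b IH (LK LD1_c4 LD2_c10 LD3_c37) (LK LD1_c8 LD2_c21 LD3_c12) Lrfl Lrfl
theorem f2792 : Led Lsl_gt (LP (LK LD1_c0 LD2_c31 LD3_c29)) = (LP (LK LD1_c1 LD2_c8 LD3_c55)) :=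
  Lre_g IH (LK LD1_c0 LD2_c31 LD3_c29) (LK LD1_c1 LD2_c8 LD3_c55) Lrfl Lrfl
theorem f171038 : Led Lsl_ct (LP (LK LD1_c1 LD2_c8 LD3_c55)) = (LP (LK LD1_c2 LD2_c23 LD3_c38)) :=
  Lre_c IH (LK LD1_c1 LD2_c8 LD3_c55) (LK LD1_c2 LD2_c23 LD3_c38) Lrfl Lrfl
theorem f171039 : Led Lsl_gt (LP (LK LD1_c2 LD2_c23 LD3_c38)) = (LP (LK LD1_c4 LD2_c51 LD3_c32)) :=
  Lre_g IH (LK LD1_c2 LD2_c23 LD3_c38) (LK LD1_c4 LD2_c51 LD3_c32) Lrfl Lrfl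
theorem f29135 : Led Lsl_ct (LP (LK LD1_c1 LD2_c1 LD3_c16)) = (LP (LK LD1_c1 LD2_c55 LD3_c11)) :=
  Lgr Lrot59 (Lpr_cf (K10.f29130 IH) (Lpn (LP (LK LD1_c1 LD2_c55 LD3_c11))))
theorem f186991 : Led Lsl_ct (LP (LK LD1_c4 LD2_c51 LD3_c32)) = (LP (LK LD1_c3 LD2_c56 LD3_c55)) :=
  Lgr Lrot110 (Lpe (f171039 IH) (Lpe (f171038 IH) (Lpe (f2792 IH) (Lpe (K1.f1920 IH) (Lpr_gt (K9.f270 IH) (Lpr_ct (K10.f2107 IH) (Lpr_gt (K10.f186920 IH) (Lpr_ct (f29135 IH) (Lpe (K1.f29139 IH) (Lpn (LP (LK LD1_c3 LD2_c56 LD3_c55))))))))))))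
theorem f171118 : Led Lsl_bt (LP (LK LD1_c9 LD2_c35 LD3_c6)) = (LP (LK LD1_c4 LD2_c51 LD3_c32)) :=
  Lre_b IH (LK LD1_c9 LD2_c35 LD3_c6) (LK LD1_c4 LD2_c51 LD3_c32) Lrfl Lrfl
theorem f200004 : Led Lsl_ct (LP (LK LD1_c8 LD2_c21 LD3_c12)) = (LP (LK LD1_c9 LD2_c35 LD3_c6)) :=
  Lgr Lrot83 (Lpe (f199922 IH) (Lpe (f187017 IH) (Lpr_bf (f199916 IH) (Lpe (f186991 IH) (Lpe (f171118 IH) (Lpn (LP (LK LD1_c9 LD2_c35 LD3_c6))))))))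
theorem f199918 : Led Lsl_ct (LP (LK LD1_c4 LD2_c10 LD3_c37)) = (LP (LK LD1_c2 LD2_c2 LD3_c34)) :=
  Lre_c IH (LK LD1_c4 LD2_c10 LD3_c37) (LK LD1_c2 LD2_c2 LD3_c34) Lrfl Lrfl
theorem f29055 : Led Lsl_ct (LP (LK LD1_c1 LD2_c24 LD3_c53)) = (LP (LK LD1_c2 LD2_c58 LD3_c22)) :=
  Lre_c IH (LK LD1_c1 LD2_c24 LD3_c53) (LK LD1_c2 LD2_c58 LD3_c22) Lrfl Lrfl
theorem f199919 : Led Lsl_ff (LP (LK LD1_c4 LD2_c10 LD3_c37)) = (LP (LK LD1_c2 LD2_c58 LD3_c22)) :=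
  Lgr Lrot23 (Lpr_ct (f199918 IH) (Lpr_ft (f199914 IH) (Lpr_ct (f29055 IH) (Lpn (LP (LK LD1_c2 LD2_c58 LD3_c22))))))
theorem f199928 : Led Lsl_ft (LP (LK LD1_c4 LD2_c10 LD3_c37)) = (LP (LK LD1_c2 LD2_c58 LD3_c22)) :=
  Lgr Lrot48 (Lpr_ff (f199919 IH) (Lpn (LP (LK LD1_c2 LD2_c58 LD3_c22))))
theorem f199930 : Led Lsl_bt (LP (LK LD1_c8 LD2_c21 LD3_c12)) = (LP (LK LD1_c4 LD2_c10 LD3_c37)) :=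
  Lre_b IH (LK LD1_c8 LD2_c21 LD3_c12) (LK LD1_c4 LD2_c10 LD3_c37) Lrfl Lrfl
theorem f29110 : Led Lsl_bt (LP (LK LD1_c2 LD2_c58 LD3_c22)) = (LP (LK LD1_c6 LD2_c4 LD3_c21)) :=
  Lre_b IH (LK LD1_c2 LD2_c58 LD3_c22) (LK LD1_c6 LD2_c4 LD3_c21) Lrfl Lrfl
theorem f199931 : Led Lsl_ff (LP (LK LD1_c8 LD2_c21 LD3_c12)) = (LP (LK LD1_c6 LD2_c4 LD3_c21)) :=
  Lgr Lrot25 (Lpr_bt (f199930 IH) (Lpr_ft (f199928 IH) (Lpr_bt (f29110 IH) (Lpn (LP (LK LD1_c6 LD2_c4 LD3_c21))))))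
theorem f29077 : Led Lsl_bt (LP (LK LD1_c6 LD2_c4 LD3_c21)) = (LP (LK LD1_c2 LD2_c58 LD3_c22)) :=
  Lre_b IH (LK LD1_c6 LD2_c4 LD3_c21) (LK LD1_c2 LD2_c58 LD3_c22) Lrfl Lrfl
theorem f29079 : Led Lsl_bt (LP (LK LD1_c3 LD2_c56 LD3_c54)) = (LP (LK LD1_c7 LD2_c55 LD3_c27)) :=
  Lre_b IH (LK LD1_c3 LD2_c56 LD3_c54) (LK LD1_c7 LD2_c55 LD3_c27) Lrfl Lrfl
theorem f29080 : Led Lsl_cf (LP (LK LD1_c6 LD2_c4 LD3_c21)) = (LP (LK LD1_c7 LD2_c55 LD3_c27)) :=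
  Lgr Lrot97 (Lpr_bt (f29077 IH) (Lpr_ct (K9.f29051 IH) (Lpr_bt (K1.f29071 IH) (Lpr_ct (K1.f29078 IH) (Lpr_bt (f29079 IH) (Lpn (LP (LK LD1_c7 LD2_c55 LD3_c27))))))))
theorem f200014 : Led Lsl_ff (LP (LK LD1_c7 LD2_c55 LD3_c27)) = (LP (LK LD1_c9 LD2_c35 LD3_c6)) :=
  Lgr Lrot23 (Lpe (f29080 IH) (Lpe (f199931 IH) (Lpr_ct (f200004 IH) (Lpn (LP (LK LD1_c9 LD2_c35 LD3_c6))))))
theorem f200028 : Led Lsl_ft (LP (LK LD1_c7 LD2_c55 LD3_c27)) = (LP (LK LD1_c9 LD2_c35 LD3_c6)) :=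
  Lgr Lrot48 (Lpr_ff (f200014 IH) (Lpn (LP (LK LD1_c9 LD2_c35 LD3_c6))))
theorem f29094 : Led Lsl_et (LP (LK LD1_c3 LD2_c57 LD3_c7)) = (LP (LK LD1_c7 LD2_c55 LD3_c27)) :=
  Lre_e IH (LK LD1_c3 LD2_c57 LD3_c7) (LK LD1_c7 LD2_c55 LD3_c27) Lrfl Lrfl
theorem f39635 : Led Lsl_ft (LP (LK LD1_c7 LD2_c55 LD3_c60)) = (LP (LK LD1_c3 LD2_c57 LD3_c7)) :=
  Lre_f IH (LK LD1_c7 LD2_c55 LD3_c60) (LK LD1_c3 LD2_c57 LD3_c7) Lrfl Lrfl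
theorem f39628 : Led Lsl_et (LP (LK LD1_c14 LD2_c57 LD3_c61)) = (LP (LK LD1_c7 LD2_c55 LD3_c60)) :=
  Lre_e IH (LK LD1_c14 LD2_c57 LD3_c61) (LK LD1_c7 LD2_c55 LD3_c60) Lrfl Lrfl
theorem f200011 : Led Lsl_et (LP (LK LD1_c9 LD2_c35 LD3_c6)) = (LP (LK LD1_c17 LD2_c38 LD3_c61)) :=
  Lre_e IH (LK LD1_c9 LD2_c35 LD3_c6) (LK LD1_c17 LD2_c38 LD3_c61) Lrfl Lrfl
theorem f200038 : Led Lsl_ff (LP (LK LD1_c14 LD2_c57 LD3_c61)) = (LP (LK LD1_c17 LD2_c38 LD3_c61)) :=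
  Lgr Lrot72 (Lpr_et (f39628 IH) (Lpr_ft (f39635 IH) (Lpr_et (f29094 IH) (Lpr_ft (f200028 IH) (Lpr_et (f200011 IH) (Lpn (LP (LK LD1_c17 LD2_c38 LD3_c61))))))))
theorem f199809 : Led Lsl_ff (LP (LK LD1_c5 LD2_c21 LD3_c17)) = (LP (LK LD1_c8 LD2_c33 LD3_c36)) :=
  Lgr Lrot19 (Lpr_dt (K9.f42658 IH) (Lpr_ft (f199794 IH) (Lpr_dt (f199771 IH) (Lpn (LP (LK LD1_c8 LD2_c33 LD3_c36))))))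
theorem f199792 : Led Lsl_dt (LP (LK LD1_c8 LD2_c33 LD3_c36)) = (LP (LK LD1_c4 LD2_c17 LD3_c12)) :=
  Lre_d IH (LK LD1_c8 LD2_c33 LD3_c36) (LK LD1_c4 LD2_c17 LD3_c12) Lrfl Lrfl
theorem f199816 : Led Lsl_cf (LP (LK LD1_c0 LD2_c54 LD3_c44)) = (LP (LK LD1_c0 LD2_c59 LD3_c60)) :=
  Lgr Lrot116 (Lpr_dt (K9.f41338 IH) (Lpr_ct (K9.f41081 IH) (Lpr_dt (K9.f41901 IH) (Lpe (K9.f41902 IH) (Lpe (K9.f42691 IH) (Lpr_ff (f199809 IH) (Lpr_dt (f199792 IH) (Lpr_ct (f199799 IH) (Lpr_dt (f199764 IH) (Lpn (LP (LK LD1_c0 LD2_c59 LD3_c60))))))))))))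
theorem f173834 : Led Lsl_gt (LP (LK LD1_c1 LD2_c55 LD3_c50)) = (LP (LK LD1_c0 LD2_c54 LD3_c44)) :=
  Lre_g IH (LK LD1_c1 LD2_c55 LD3_c50) (LK LD1_c0 LD2_c54 LD3_c44) Lrfl Lrfl
theorem f41265 : Led Lsl_gt (LP (LK LD1_c0 LD2_c54 LD3_c40)) = (LP (LK LD1_c1 LD2_c55 LD3_c50)) :=
  Lre_g IH (LK LD1_c0 LD2_c54 LD3_c40) (LK LD1_c1 LD2_c55 LD3_c50) Lrfl Lrfl
theorem f1736 : Led Lsl_bt (LP (LK LD1_c2 LD2_c23 LD3_c11)) = (LP (LK LD1_c1 LD2_c8 LD3_c43)) :=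
  Lre_b IH (LK LD1_c2 LD2_c23 LD3_c11) (LK LD1_c1 LD2_c8 LD3_c43) Lrfl Lrfl
theorem f199586 : Led Lsl_cf (LP (LK LD1_c1 LD2_c55 LD3_c50)) = (LP (LK LD1_c2 LD2_c23 LD3_c11)) :=
  Lgr Lrot163 (Lpe (f41265 IH) (Lpe (K1.f41887 IH) (Lpr_gf (f199580 IH) (Lpe (f7913 IH) (Lpr_ct (K0.f7897 IH) (Lpe (K0.f3083 IH) (Lpe (K0.f281 IH) (Lpr_bt (K0.f285 IH) (Lpe (K0.f1621 IH) (Lpe (f1736 IH) (Lpn (LP (LK LD1_c2 LD2_c23 LD3_c11)))))))))))))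
theorem f29163 : Led Lsl_bt (LP (LK LD1_c0 LD2_c25 LD3_c1)) = (LP (LK LD1_c0 LD2_c31 LD3_c26)) :=
  Lgr Lrot127 (Lpr_bf (K1.f29159 IH) (Lpn (LP (LK LD1_c0 LD2_c31 LD3_c26))))
theorem f199820 : Led Lsl_bf (LP (LK LD1_c0 LD2_c54 LD3_c24)) = (LP (LK LD1_c0 LD2_c59 LD3_c60)) :=
  Lgr Lrot165 (Lpe (K9.f43115 IH) (Lpr_ct (K9.f28928 IH) (Lpr_gt (K9.f28937 IH) (Lpe (K1.f28944 IH) (Lpr_bt (f29163 IH) (Lpr_gt (K0.f2072 IH) (Lpe (f1736 IH) (Lpe (f199586 IH) (Lpr_gt (f173834 IH) (Lpr_cf (f199816 IH) (Lpn (LP (LK LD1_c0 LD2_c59 LD3_c60)))))))))))))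
theorem f199822 : Led Lsl_bt (LP (LK LD1_c1 LD2_c55 LD3_c20)) = (LP (LK LD1_c2 LD2_c5 LD3_c58)) :=
  Lgr Lrot95 (Lpe (K1.f38943 IH) (Lpr_bf (f199820 IH) (Lpe (f199764 IH) (Lpn (LP (LK LD1_c2 LD2_c5 LD3_c58))))))
theorem f199829 : Led Lsl_bf (LP (LK LD1_c3 LD2_c57 LD3_c10)) = (LP (LK LD1_c4 LD2_c17 LD3_c13)) :=
  Lgr Lrot96 (Lpr_et (K9.f39122 IH) (Lpr_bt (f199822 IH) (Lpr_et (f199828 IH) (Lpn (LP (LK LD1_c4 LD2_c17 LD3_c13))))))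
theorem f39755 : Led Lsl_bt (LP (LK LD1_c7 LD2_c56 LD3_c0)) = (LP (LK LD1_c14 LD2_c57 LD3_c61)) :=
  Lre_b IH (LK LD1_c7 LD2_c56 LD3_c0) (LK LD1_c14 LD2_c57 LD3_c61) Lrfl Lrfl
theorem f199839 : Led Lsl_ct (LP (LK LD1_c8 LD2_c33 LD3_c37)) = (LP (LK LD1_c4 LD2_c17 LD3_c13)) :=
  Lre_c IH (LK LD1_c8 LD2_c33 LD3_c37) (LK LD1_c4 LD2_c17 LD3_c13) Lrfl Lrfl
theorem f199840 : Led Lsl_bt (LP (LK LD1_c16 LD2_c4 LD3_c1)) = (LP (LK LD1_c8 LD2_c33 LD3_c37)) :=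
  Lre_b IH (LK LD1_c16 LD2_c4 LD3_c1) (LK LD1_c8 LD2_c33 LD3_c37) Lrfl Lrfl
theorem f199841 : Led Lsl_ct (LP (LK LD1_c14 LD2_c57 LD3_c61)) = (LP (LK LD1_c16 LD2_c4 LD3_c1)) :=
  Lgr Lrot83 (Lpe (f39755 IH) (Lpe (K9.f39120 IH) (Lpr_bf (f199829 IH) (Lpe (f199839 IH) (Lpe (f199840 IH) (Lpn (LP (LK LD1_c16 LD2_c4 LD3_c1))))))))
theorem f199958 : Led Lsl_et (LP (LK LD1_c8 LD2_c21 LD3_c12)) = (LP (LK LD1_c15 LD2_c43 LD3_c23)) :=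
  Lre_e IH (LK LD1_c8 LD2_c21 LD3_c12) (LK LD1_c15 LD2_c43 LD3_c23) Lrfl Lrfl
theorem f42655 : Led Lsl_bt (LP (LK LD1_c5 LD2_c21 LD3_c16)) = (LP (LK LD1_c2 LD2_c37 LD3_c12)) :=
  Lre_b IH (LK LD1_c5 LD2_c21 LD3_c16) (LK LD1_c2 LD2_c37 LD3_c12) Lrfl Lrfl
theorem f42656 : Led Lsl_ef (LP (LK LD1_c5 LD2_c21 LD3_c16)) = (LP (LK LD1_c6 LD2_c4 LD3_c21)) :=
  Lgr Lrot29 (Lpr_bt (f42655 IH) (Lpr_et (K9.f42651 IH) (Lpr_bt (f29110 IH) (Lpn (LP (LK LD1_c6 LD2_c4 LD3_c21))))))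
theorem f43180 : Led Lsl_et (LP (LK LD1_c5 LD2_c21 LD3_c16)) = (LP (LK LD1_c6 LD2_c4 LD3_c21)) :=
  Lgr Lrot87 (Lpr_ef (f42656 IH) (Lpn (LP (LK LD1_c6 LD2_c4 LD3_c21))))
theorem f199804 : Led Lsl_bt (LP (LK LD1_c4 LD2_c17 LD3_c12)) = (LP (LK LD1_c8 LD2_c33 LD3_c35)) :=
  Lre_b IH (LK LD1_c4 LD2_c17 LD3_c12) (LK LD1_c8 LD2_c33 LD3_c35) Lrfl Lrfl
theorem f199805 : Led Lsl_ff (LP (LK LD1_c5 LD2_c21 LD3_c16)) = (LP (LK LD1_c8 LD2_c33 LD3_c35)) :=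
  Lgr Lrot25 (Lpr_bt (f42655 IH) (Lpr_ft (f199794 IH) (Lpr_bt (f199804 IH) (Lpn (LP (LK LD1_c8 LD2_c33 LD3_c35))))))
theorem f199857 : Led Lsl_et (LP (LK LD1_c16 LD2_c4 LD3_c1)) = (LP (LK LD1_c8 LD2_c33 LD3_c35)) :=
  Lre_e IH (LK LD1_c16 LD2_c4 LD3_c1) (LK LD1_c8 LD2_c33 LD3_c35) Lrfl Lrfl
theorem f199959 : Led Lsl_ft (LP (LK LD1_c15 LD2_c43 LD3_c23)) = (LP (LK LD1_c16 LD2_c4 LD3_c1)) :=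
  Lgr Lrot86 (Lpe (f199958 IH) (Lpr_ff (f199931 IH) (Lpe (f43180 IH) (Lpr_ff (f199805 IH) (Lpe (f199857 IH) (Lpn (LP (LK LD1_c16 LD2_c4 LD3_c1))))))))
theorem f199968 : Led Lsl_ff (LP (LK LD1_c15 LD2_c43 LD3_c23)) = (LP (LK LD1_c16 LD2_c4 LD3_c1)) :=
  Lgr Lrot3 (Lpr_ft (f199959 IH) (Lpn (LP (LK LD1_c16 LD2_c4 LD3_c1))))
theorem f200048 : Led Lsl_ct (LP (LK LD1_c15 LD2_c43 LD3_c23)) = (LP (LK LD1_c17 LD2_c38 LD3_c61)) :=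
  Lgr Lrot40 (Lpr_ff (f199968 IH) (Lpe (f199841 IH) (Lpr_ff (f200038 IH) (Lpn (LP (LK LD1_c17 LD2_c38 LD3_c61))))))
theorem f199964 : Led Lsl_bt (LP (LK LD1_c8 LD2_c21 LD3_c14)) = (LP (LK LD1_c15 LD2_c43 LD3_c23)) :=
  Lre_b IH (LK LD1_c8 LD2_c21 LD3_c14) (LK LD1_c15 LD2_c43 LD3_c23) Lrfl Lrfl
theorem f199908 : Led Lsl_ct (LP (LK LD1_c4 LD2_c10 LD3_c38)) = (LP (LK LD1_c8 LD2_c21 LD3_c14)) :=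
  Lre_c IH (LK LD1_c4 LD2_c10 LD3_c38) (LK LD1_c8 LD2_c21 LD3_c14) Lrfl Lrfl
theorem f199899 : Led Lsl_bf (LP (LK LD1_c4 LD2_c10 LD3_c38)) = (LP (LK LD1_c7 LD2_c55 LD3_c29)) :=
  Lgr Lrot61 (Lpr_ft (f199897 IH) (Lpe (f199829 IH) (Lpr_ft (K1.f39100 IH) (Lpn (LP (LK LD1_c7 LD2_c55 LD3_c29))))))
theorem f200050 : Led Lsl_bt (LP (LK LD1_c17 LD2_c38 LD3_c61)) = (LP (LK LD1_c9 LD2_c35 LD3_c7)) :=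
  Lre_b IH (LK LD1_c17 LD2_c38 LD3_c61) (LK LD1_c9 LD2_c35 LD3_c7) Lrfl Lrfl
theorem f200051 : Led Lsl_cf (LP (LK LD1_c7 LD2_c55 LD3_c29)) = (LP (LK LD1_c9 LD2_c35 LD3_c7)) :=
  Lgr Lrot97 (Lpe (f199899 IH) (Lpr_ct (f199908 IH) (Lpr_bt (f199964 IH) (Lpr_ct (f200048 IH) (Lpr_bt (f200050 IH) (Lpn (LP (LK LD1_c9 LD2_c35 LD3_c7))))))))
theorem f43062 : Led Lsl_et (LP (LK LD1_c7 LD2_c55 LD3_c29)) = (LP (LK LD1_c3 LD2_c56 LD3_c55)) :=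
  Lre_e IH (LK LD1_c7 LD2_c55 LD3_c29) (LK LD1_c3 LD2_c56 LD3_c55) Lrfl Lrfl
theorem f200060 : Led Lsl_et (LP (LK LD1_c4 LD2_c51 LD3_c32)) = (LP (LK LD1_c9 LD2_c35 LD3_c7)) :=
  Lre_e IH (LK LD1_c4 LD2_c51 LD3_c32) (LK LD1_c9 LD2_c35 LD3_c7) Lrfl Lrfl
theorem f200061 : Led Lsl_ct (LP (LK LD1_c3 LD2_c56 LD3_c55)) = (LP (LK LD1_c4 LD2_c51 LD3_c32)) :=
  Lgr Lrot15 (Lpe (f43062 IH) (Lpr_cf (f200051 IH) (Lpe (f200060 IH) (Lpn (LP (LK LD1_c4 LD2_c51 LD3_c32))))))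
theorem f171041 : Led Lsl_bt (LP (LK LD1_c1 LD2_c8 LD3_c55)) = (LP (LK LD1_c2 LD2_c23 LD3_c37)) :=
  Lre_b IH (LK LD1_c1 LD2_c8 LD3_c55) (LK LD1_c2 LD2_c23 LD3_c37) Lrfl Lrfl
theorem f186895 : Led Lsl_bt (LP (LK LD1_c1 LD2_c8 LD3_c50)) = (LP (LK LD1_c2 LD2_c23 LD3_c21)) :=
  Lre_b IH (LK LD1_c1 LD2_c8 LD3_c50) (LK LD1_c2 LD2_c23 LD3_c21) Lrfl Lrfl
theorem f191675 : Led Lsl_df (LP (LK LD1_c4 LD2_c7 LD3_c34)) = (LP (LK LD1_c2 LD2_c23 LD3_c21)) :=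
  Lgr Lrot12 (Lpr_bt (K10.f191562 IH) (Lpr_dt (K10.f33364 IH) (Lpr_bt (f186895 IH) (Lpn (LP (LK LD1_c2 LD2_c23 LD3_c21))))))
theorem f45009 : Led Lsl_et (LP (LK LD1_c0 LD2_c57 LD3_c38)) = (LP (LK LD1_c0 LD2_c26 LD3_c12)) :=
  Lre_e IH (LK LD1_c0 LD2_c57 LD3_c38) (LK LD1_c0 LD2_c26 LD3_c12) Lrfl Lrfl
theorem f191968 : Led Lsl_gt (LP (LK LD1_c1 LD2_c14 LD3_c9)) = (LP (LK LD1_c1 LD2_c8 LD3_c47)) :=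
  Lgr Lrot131 (Lpe (K8.f33421 IH) (Lpr_dt (K8.f49141 IH) (Lpr_gf (K1.f32925 IH) (Lpr_df (K8.f47739 IH) (Lpe (K1.f744 IH) (Lpe (f45009 IH) (Lpr_dt (K8.f44966 IH) (Lpe (K10.f45012 IH) (Lpr_df (f191675 IH) (Lpr_et (K10.f171171 IH) (Lpn (LP (LK LD1_c1 LD2_c8 LD3_c47)))))))))))))
theorem f33445 : Led Lsl_dt (LP (LK LD1_c1 LD2_c14 LD3_c9)) = (LP (LK LD1_c2 LD2_c34 LD3_c19)) :=
  Lre_d IH (LK LD1_c1 LD2_c14 LD3_c9) (LK LD1_c2 LD2_c34 LD3_c19) Lrfl Lrfl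
theorem f27361 : Led Lsl_dt (LP (LK LD1_c0 LD2_c59 LD3_c49)) = (LP (LK LD1_c0 LD2_c27 LD3_c12)) :=
  Lre_d IH (LK LD1_c0 LD2_c59 LD3_c49) (LK LD1_c0 LD2_c27 LD3_c12) Lrfl Lrfl
theorem f49073 : Led Lsl_ct (LP (LK LD1_c2 LD2_c5 LD3_c35)) = (LP (LK LD1_c0 LD2_c59 LD3_c49)) :=
  Lre_c IH (LK LD1_c2 LD2_c5 LD3_c35) (LK LD1_c0 LD2_c59 LD3_c49) Lrfl Lrfl
theorem f53363 : Led Lsl_gt (LP (LK LD1_c4 LD2_c15 LD3_c31)) = (LP (LK LD1_c2 LD2_c5 LD3_c35)) :=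
  Lre_g IH (LK LD1_c4 LD2_c15 LD3_c31) (LK LD1_c2 LD2_c5 LD3_c35) Lrfl Lrfl
theorem f49070 : Led Lsl_ct (LP (LK LD1_c0 LD2_c59 LD3_c49)) = (LP (LK LD1_c2 LD2_c5 LD3_c35)) :=
  Lre_c IH (LK LD1_c0 LD2_c59 LD3_c49) (LK LD1_c2 LD2_c5 LD3_c35) Lrfl Lrfl
theorem f2437 : Led Lsl_bt (LP (LK LD1_c0 LD2_c13 LD3_c60)) = (LP (LK LD1_c0 LD2_c31 LD3_c29)) :=
  Lre_b IH (LK LD1_c0 LD2_c13 LD3_c60) (LK LD1_c0 LD2_c31 LD3_c29) Lrfl Lrfl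
theorem f2088 : Led Lsl_bt (LP (LK LD1_c2 LD2_c23 LD3_c37)) = (LP (LK LD1_c1 LD2_c8 LD3_c55)) :=
  Lre_b IH (LK LD1_c2 LD2_c23 LD3_c37) (LK LD1_c1 LD2_c8 LD3_c55) Lrfl Lrfl
theorem f171036 : Led Lsl_cf (LP (LK LD1_c4 LD2_c15 LD3_c31)) = (LP (LK LD1_c2 LD2_c23 LD3_c37)) :=
  Lgr Lrot160 (Lpr_gt (f53363 IH) (Lpe (f49070 IH) (Lpr_bt (K9.f51470 IH) (Lpe (K9.f51540 IH) (Lpr_ct (K9.f53146 IH) (Lpr_gt (K9.f170939 IH) (Lpe (K0.f255 IH) (Lpr_bt (f2437 IH) (Lpr_gt (f2792 IH) (Lpe (f2088 IH) (Lpn (LP (LK LD1_c2 LD2_c23 LD3_c37)))))))))))))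
theorem f191970 : Led Lsl_gt (LP (LK LD1_c2 LD2_c34 LD3_c19)) = (LP (LK LD1_c2 LD2_c23 LD3_c37)) :=
  Lgr Lrot9 (Lpe (f33445 IH) (Lpr_gt (f191968 IH) (Lpe (K9.f171162 IH) (Lpr_gt (K9.f53464 IH) (Lpr_ct (K10.f27357 IH) (Lpe (f27361 IH) (Lpe (f49073 IH) (Lpe (f53363 IH) (Lpr_cf (f171036 IH) (Lpn (LP (LK LD1_c2 LD2_c23 LD3_c37))))))))))))
theorem f53364 : Led Lsl_bt (LP (LK LD1_c0 LD2_c58 LD3_c22)) = (LP (LK LD1_c0 LD2_c26 LD3_c29)) :=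
  Lre_b IH (LK LD1_c0 LD2_c58 LD3_c22) (LK LD1_c0 LD2_c26 LD3_c29) Lrfl Lrfl
theorem f53365 : Led Lsl_ct (LP (LK LD1_c0 LD2_c58 LD3_c22)) = (LP (LK LD1_c2 LD2_c2 LD3_c58)) :=
  Lre_c IH (LK LD1_c0 LD2_c58 LD3_c22) (LK LD1_c2 LD2_c2 LD3_c58) Lrfl Lrfl
theorem f53366 : Led Lsl_gt (LP (LK LD1_c2 LD2_c2 LD3_c58)) = (LP (LK LD1_c4 LD2_c11 LD3_c26)) :=
  Lre_g IH (LK LD1_c2 LD2_c2 LD3_c58) (LK LD1_c4 LD2_c11 LD3_c26) Lrfl Lrfl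
theorem f191974 : Led Lsl_ct (LP (LK LD1_c4 LD2_c6 LD3_c9)) = (LP (LK LD1_c4 LD2_c11 LD3_c26)) :=
  Lgr Lrot10 (Lpr_bt (K10.f53831 IH) (Lpr_gt (f191970 IH) (Lpe (f171036 IH) (Lpr_gt (f53363 IH) (Lpe (f49070 IH) (Lpr_bt (K9.f51470 IH) (Lpe (K9.f51540 IH) (Lpe (f53364 IH) (Lpr_ct (f53365 IH) (Lpr_gt (f53366 IH) (Lpn (LP (LK LD1_c4 LD2_c11 LD3_c26)))))))))))))
theorem f200127 : Led Lsl_gt (LP (LK LD1_c2 LD2_c2 LD3_c34)) = (LP (LK LD1_c0 LD2_c58 LD3_c22)) :=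
  Lgr Lrot82 (Lpr_bf (f199916 IH) (Lpr_ct (f200061 IH) (Lpe (f171039 IH) (Lpe (f171038 IH) (Lpr_bt (f171041 IH) (Lpe (f191970 IH) (Lpe (K10.f53831 IH) (Lpr_ct (f191974 IH) (Lpe (f53366 IH) (Lpe (f53365 IH) (Lpn (LP (LK LD1_c0 LD2_c58 LD3_c22)))))))))))))
theorem f200129 : Led Lsl_gf (LP (LK LD1_c1 LD2_c24 LD3_c52)) = (LP (LK LD1_c0 LD2_c58 LD3_c22)) :=
  Lgr Lrot76 (Lpr_af (K1.f42042 IH) (Lpe (f199914 IH) (Lpr_gt (f200127 IH) (Lpn (LP (LK LD1_c0 LD2_c58 LD3_c22))))))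
theorem f29022 : Led Lsl_dt (LP (LK LD1_c0 LD2_c39 LD3_c6)) = (LP (LK LD1_c1 LD2_c24 LD3_c52)) :=
  Lre_d IH (LK LD1_c0 LD2_c39 LD3_c6) (LK LD1_c1 LD2_c24 LD3_c52) Lrfl Lrfl
theorem f165326 : Led Lsl_dt (LP (LK LD1_c0 LD2_c33 LD3_c8)) = (LP (LK LD1_c1 LD2_c11 LD3_c32)) :=
  Lre_d IH (LK LD1_c0 LD2_c33 LD3_c8) (LK LD1_c1 LD2_c11 LD3_c32) Lrfl Lrfl
theorem f165324 : Led Lsl_ct (LP (LK LD1_c2 LD2_c28 LD3_c42)) = (LP (LK LD1_c1 LD2_c11 LD3_c32)) :=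
  Lre_c IH (LK LD1_c2 LD2_c28 LD3_c42) (LK LD1_c1 LD2_c11 LD3_c32) Lrfl Lrfl
theorem f165295 : Led Lsl_gt (LP (LK LD1_c5 LD2_c2 LD3_c10)) = (LP (LK LD1_c2 LD2_c28 LD3_c42)) :=
  Lre_g IH (LK LD1_c5 LD2_c2 LD3_c10) (LK LD1_c2 LD2_c28 LD3_c42) Lrfl Lrfl
theorem f165293 : Led Lsl_bt (LP (LK LD1_c1 LD2_c11 LD3_c32)) = (LP (LK LD1_c0 LD2_c33 LD3_c9)) :=
  Lre_b IH (LK LD1_c1 LD2_c11 LD3_c32) (LK LD1_c0 LD2_c33 LD3_c9) Lrfl Lrfl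
theorem f165294 : Led Lsl_ct (LP (LK LD1_c1 LD2_c11 LD3_c32)) = (LP (LK LD1_c2 LD2_c28 LD3_c42)) :=
  Lre_c IH (LK LD1_c1 LD2_c11 LD3_c32) (LK LD1_c2 LD2_c28 LD3_c42) Lrfl Lrfl
theorem f165299 : Led Lsl_bt (LP (LK LD1_c5 LD2_c6 LD3_c3)) = (LP (LK LD1_c2 LD2_c30 LD3_c20)) :=
  Lre_b IH (LK LD1_c5 LD2_c6 LD3_c3) (LK LD1_c2 LD2_c30 LD3_c20) Lrfl Lrfl
theorem f165300 : Led Lsl_cf (LP (LK LD1_c5 LD2_c2 LD3_c10)) = (LP (LK LD1_c5 LD2_c6 LD3_c3)) :=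
  Lgr Lrot160 (Lpr_gt (f165295 IH) (Lpe (f165294 IH) (Lpr_bt (f165293 IH) (Lpr_gt (K9.f21288 IH) (Lpr_ct (K9.f165279 IH) (Lpr_gt (K9.f165280 IH) (Lpe (K9.f165296 IH) (Lpr_bt (K10.f165297 IH) (Lpr_gt (K10.f165298 IH) (Lpe (f165299 IH) (Lpn (LP (LK LD1_c5 LD2_c6 LD3_c3)))))))))))))
theorem f28308 : Led Lsl_dt (LP (LK LD1_c1 LD2_c15 LD3_c4)) = (LP (LK LD1_c2 LD2_c36 LD3_c8)) :=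
  Lre_d IH (LK LD1_c1 LD2_c15 LD3_c4) (LK LD1_c2 LD2_c36 LD3_c8) Lrfl Lrfl
theorem f184653 : Led Lsl_dt (LP (LK LD1_c1 LD2_c57 LD3_c61)) = (LP (LK LD1_c0 LD2_c55 LD3_c53)) :=
  Lre_d IH (LK LD1_c1 LD2_c57 LD3_c61) (LK LD1_c0 LD2_c55 LD3_c53) Lrfl Lrfl
theorem f184665 : Led Lsl_bt (LP (LK LD1_c2 LD2_c36 LD3_c8)) = (LP (LK LD1_c1 LD2_c57 LD3_c61)) :=
  Lgr Lrot95 (Lpe (f28308 IH) (Lpr_bf (K10.f184658 IH) (Lpe (f184653 IH) (Lpn (LP (LK LD1_c1 LD2_c57 LD3_c61))))))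
theorem f184677 : Led Lsl_bf (LP (LK LD1_c2 LD2_c36 LD3_c8)) = (LP (LK LD1_c1 LD2_c57 LD3_c61)) :=
  Lgr Lrot24 (Lpr_bt (f184665 IH) (Lpn (LP (LK LD1_c1 LD2_c57 LD3_c61))))
theorem f184680 : Led Lsl_ct (LP (LK LD1_c1 LD2_c57 LD3_c61)) = (LP (LK LD1_c4 LD2_c2 LD3_c4)) :=
  Lre_c IH (LK LD1_c1 LD2_c57 LD3_c61) (LK LD1_c4 LD2_c2 LD3_c4) Lrfl Lrfl
theorem f165328 : Led Lsl_ct (LP (LK LD1_c2 LD2_c28 LD3_c44)) = (LP (LK LD1_c5 LD2_c2 LD3_c17)) :=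
  Lre_c IH (LK LD1_c2 LD2_c28 LD3_c44) (LK LD1_c5 LD2_c2 LD3_c17) Lrfl Lrfl
theorem f184654 : Led Lsl_ct (LP (LK LD1_c4 LD2_c2 LD3_c4)) = (LP (LK LD1_c1 LD2_c57 LD3_c61)) :=
  Lre_c IH (LK LD1_c4 LD2_c2 LD3_c4) (LK LD1_c1 LD2_c57 LD3_c61) Lrfl Lrfl
theorem f184655 : Led Lsl_gt (LP (LK LD1_c5 LD2_c2 LD3_c17)) = (LP (LK LD1_c4 LD2_c2 LD3_c4)) :=
  Lgr Lrot150 (Lpe (f165328 IH) (Lpr_gf (K10.f182042 IH) (Lpe (K10.f33561 IH) (Lpr_gt (K10.f184649 IH) (Lpr_ct (K10.f34074 IH) (Lpe (K10.f33672 IH) (Lpr_ct (K10.f34052 IH) (Lpe (f184653 IH) (Lpe (f184654 IH) (Lpn (LP (LK LD1_c4 LD2_c2 LD3_c4))))))))))))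
theorem f165327 : Led Lsl_bt (LP (LK LD1_c2 LD2_c28 LD3_c44)) = (LP (LK LD1_c1 LD2_c11 LD3_c33)) :=
  Lre_b IH (LK LD1_c2 LD2_c28 LD3_c44) (LK LD1_c1 LD2_c11 LD3_c33) Lrfl Lrfl
theorem f184750 : Led Lsl_gt (LP (LK LD1_c2 LD2_c36 LD3_c8)) = (LP (LK LD1_c5 LD2_c6 LD3_c3)) :=
  Lgr Lrot82 (Lpr_bf (f184677 IH) (Lpr_ct (f184680 IH) (Lpe (f184655 IH) (Lpe (f165328 IH) (Lpr_bt (f165327 IH) (Lpe (K9.f21288 IH) (Lpe (f165293 IH) (Lpr_ct (f165294 IH) (Lpe (f165295 IH) (Lpr_cf (f165300 IH) (Lpn (LP (LK LD1_c5 LD2_c6 LD3_c3)))))))))))))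
theorem f28310 : Led Lsl_dt (LP (LK LD1_c2 LD2_c36 LD3_c8)) = (LP (LK LD1_c1 LD2_c15 LD3_c4)) :=
  Lre_d IH (LK LD1_c2 LD2_c36 LD3_c8) (LK LD1_c1 LD2_c15 LD3_c4) Lrfl Lrfl
theorem f192117 : Led Lsl_gt (LP (LK LD1_c0 LD2_c15 LD3_c41)) = (LP (LK LD1_c0 LD2_c33 LD3_c60)) :=
  Lgr Lrot150 (Lpe (K1.f28251 IH) (Lpe (K10.f28280 IH) (Lpe (f28310 IH) (Lpr_gt (f184750 IH) (Lpe (f165300 IH) (Lpr_gt (f165295 IH) (Lpr_ct (f165324 IH) (Lpe (f165326 IH) (Lpr_cf (K10.f192111 IH) (Lpn (LP (LK LD1_c0 LD2_c33 LD3_c60))))))))))))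
theorem f2145 : Led Lsl_bt (LP (LK LD1_c0 LD2_c31 LD3_c41)) = (LP (LK LD1_c1 LD2_c9 LD3_c11)) :=
  Lre_b IH (LK LD1_c0 LD2_c31 LD3_c41) (LK LD1_c1 LD2_c9 LD3_c11) Lrfl Lrfl
theorem f170617 : Led Lsl_df (LP (LK LD1_c0 LD2_c58 LD3_c22)) = (LP (LK LD1_c1 LD2_c9 LD3_c11)) :=
  Lgr Lrot12 (Lpr_bt (f53364 IH) (Lpr_dt (K9.f170613 IH) (Lpr_bt (f2145 IH) (Lpn (LP (LK LD1_c1 LD2_c9 LD3_c11))))))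
theorem f200138 : Led Lsl_ef (LP (LK LD1_c0 LD2_c33 LD3_c60)) = (LP (LK LD1_c1 LD2_c9 LD3_c11)) :=
  Lgr Lrot17 (Lpe (f192117 IH) (Lpe (K1.f28244 IH) (Lpe (K1.f44311 IH) (Lpe (K1.f41832 IH) (Lpr_df (K1.f41770 IH) (Lpe (K8.f47943 IH) (Lpe (K1.f29026 IH) (Lpr_dt (f29022 IH) (Lpr_gf (f200129 IH) (Lpr_df (f170617 IH) (Lpn (LP (LK LD1_c1 LD2_c9 LD3_c11)))))))))))))
theorem f21994 : Led Lsl_et (LP (LK LD1_c0 LD2_c33 LD3_c9)) = (LP (LK LD1_c1 LD2_c11 LD3_c36)) :=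
  Lre_e IH (LK LD1_c0 LD2_c33 LD3_c9) (LK LD1_c1 LD2_c11 LD3_c36) Lrfl Lrfl
theorem f2790 : Led Lsl_et (LP (LK LD1_c1 LD2_c9 LD3_c25)) = (LP (LK LD1_c0 LD2_c31 LD3_c54)) :=
  Lre_e IH (LK LD1_c1 LD2_c9 LD3_c25) (LK LD1_c0 LD2_c31 LD3_c54) Lrfl Lrfl
theorem f166581 : Led Lsl_dt (LP (LK LD1_c1 LD2_c11 LD3_c36)) = (LP (LK LD1_c1 LD2_c9 LD3_c25)) :=
  Lgr Lrot77 (Lpe (f21994 IH) (Lpe (K8.f3784 IH) (Lpe (K9.f165841 IH) (Lpr_df (K9.f166466 IH) (Lpe (f2790 IH) (Lpn (LP (LK LD1_c1 LD2_c9 LD3_c25))))))))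
theorem f166592 : Led Lsl_df (LP (LK LD1_c1 LD2_c11 LD3_c36)) = (LP (LK LD1_c1 LD2_c9 LD3_c25)) :=
  Lgr Lrot38 (Lpr_dt (f166581 IH) (Lpn (LP (LK LD1_c1 LD2_c9 LD3_c25))))
theorem f166599 : Led Lsl_et (LP (LK LD1_c1 LD2_c11 LD3_c36)) = (LP (LK LD1_c0 LD2_c33 LD3_c9)) :=
  Lre_e IH (LK LD1_c1 LD2_c11 LD3_c36) (LK LD1_c0 LD2_c33 LD3_c9) Lrfl Lrfl
theorem f166583 : Led Lsl_et (LP (LK LD1_c0 LD2_c31 LD3_c54)) = (LP (LK LD1_c1 LD2_c9 LD3_c25)) :=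
  Lre_e IH (LK LD1_c0 LD2_c31 LD3_c54) (LK LD1_c1 LD2_c9 LD3_c25) Lrfl Lrfl
theorem f166606 : Led Lsl_et (LP (LK LD1_c0 LD2_c14 LD3_c54)) = (LP (LK LD1_c0 LD2_c26 LD3_c47)) :=
  Lgr Lrot71 (Lpe (K9.f21993 IH) (Lpe (f166599 IH) (Lpr_df (f166592 IH) (Lpe (f166583 IH) (Lpe (K9.f166579 IH) (Lpn (LP (LK LD1_c0 LD2_c26 LD3_c47))))))))
theorem f3789 : Led Lsl_bt (LP (LK LD1_c0 LD2_c33 LD3_c8)) = (LP (LK LD1_c0 LD2_c14 LD3_c54)) :=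
  Lre_b IH (LK LD1_c0 LD2_c33 LD3_c8) (LK LD1_c0 LD2_c14 LD3_c54) Lrfl Lrfl
theorem f51583 : Led Lsl_bt (LP (LK LD1_c0 LD2_c26 LD3_c47)) = (LP (LK LD1_c0 LD2_c58 LD3_c60)) :=
  Lre_b IH (LK LD1_c0 LD2_c26 LD3_c47) (LK LD1_c0 LD2_c58 LD3_c60) Lrfl Lrfl
theorem f166613 : Led Lsl_ef (LP (LK LD1_c0 LD2_c33 LD3_c8)) = (LP (LK LD1_c0 LD2_c58 LD3_c60)) :=
  Lgr Lrot29 (Lpr_bt (f3789 IH) (Lpr_et (f166606 IH) (Lpr_bt (f51583 IH) (Lpn (LP (LK LD1_c0 LD2_c58 LD3_c60))))))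
theorem f166620 : Led Lsl_et (LP (LK LD1_c0 LD2_c33 LD3_c8)) = (LP (LK LD1_c0 LD2_c58 LD3_c60)) :=
  Lgr Lrot87 (Lpr_ef (f166613 IH) (Lpn (LP (LK LD1_c0 LD2_c58 LD3_c60))))
theorem f200140 : Led Lsl_ct (LP (LK LD1_c0 LD2_c58 LD3_c60)) = (LP (LK LD1_c1 LD2_c9 LD3_c11)) :=
  Lgr Lrot15 (Lpe (f166620 IH) (Lpr_cf (K10.f192111 IH) (Lpr_ef (f200138 IH) (Lpn (LP (LK LD1_c1 LD2_c9 LD3_c11))))))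
theorem f170626 : Led Lsl_bt (LP (LK LD1_c1 LD2_c9 LD3_c11)) = (LP (LK LD1_c0 LD2_c31 LD3_c41)) :=
  Lre_b IH (LK LD1_c1 LD2_c9 LD3_c11) (LK LD1_c0 LD2_c31 LD3_c41) Lrfl Lrfl
theorem f2143 : Led Lsl_ct (LP (LK LD1_c0 LD2_c31 LD3_c41)) = (LP (LK LD1_c0 LD2_c14 LD3_c3)) :=
  Lre_c IH (LK LD1_c0 LD2_c31 LD3_c41) (LK LD1_c0 LD2_c14 LD3_c3) Lrfl Lrfl
theorem f200367 : Led Lsl_bf (LP (LK LD1_c0 LD2_c11 LD3_c52)) = (LP (LK LD1_c0 LD2_c14 LD3_c3)) :=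
  Lgr Lrot90 (Lpr_ct (K9.f51577 IH) (Lpr_bt (f51583 IH) (Lpr_ct (f200140 IH) (Lpr_bt (f170626 IH) (Lpr_ct (f2143 IH) (Lpn (LP (LK LD1_c0 LD2_c14 LD3_c3))))))))
theorem f200369 : Led Lsl_bt (LP (LK LD1_c0 LD2_c5 LD3_c27)) = (LP (LK LD1_c0 LD2_c6 LD3_c25)) :=
  Lgr Lrot95 (Lpe (K9.f51587 IH) (Lpr_bf (f200367 IH) (Lpe (K9.f2140 IH) (Lpn (LP (LK LD1_c0 LD2_c6 LD3_c25))))))
theorem f2915 : Led Lsl_gt (LP (LK LD1_c0 LD2_c6 LD3_c30)) = (LP (LK LD1_c0 LD2_c14 LD3_c8)) :=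
  Lre_g IH (LK LD1_c0 LD2_c6 LD3_c30) (LK LD1_c0 LD2_c14 LD3_c8) Lrfl Lrfl
theorem f200375 : Led Lsl_ct (LP (LK LD1_c0 LD2_c14 LD3_c8)) = (LP (LK LD1_c0 LD2_c12 LD3_c42)) :=
  Lgr Lrot91 (Lpe (f2915 IH) (Lpe (K0.f2126 IH) (Lpr_ct (K0.f2200 IH) (Lpr_gf (K9.f178303 IH) (Lpe (K9.f51579 IH) (Lpr_bt (f200369 IH) (Lpr_gf (K9.f2138 IH) (Lpe (K0.f2146 IH) (Lpe (K10.f197385 IH) (Lpr_gf (K10.f197374 IH) (Lpn (LP (LK LD1_c0 LD2_c12 LD3_c42)))))))))))))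
theorem f171153 : Led Lsl_cf (LP (LK LD1_c0 LD2_c11 LD3_c44)) = (LP (LK LD1_c0 LD2_c6 LD3_c25)) :=
  Lgr Lrot11 (Lpr_ct (K9.f171034 IH) (Lpn (LP (LK LD1_c0 LD2_c6 LD3_c25))))
theorem f200633 : Led Lsl_bt (LP (LK LD1_c0 LD2_c14 LD3_c8)) = (LP (LK LD1_c0 LD2_c11 LD3_c23)) :=
  Lgr Lrot92 (Lpr_ct (f200375 IH) (Lpe (K10.f197374 IH) (Lpr_cf (K10.f197385 IH) (Lpr_bt (K0.f2146 IH) (Lpe (K9.f2138 IH) (Lpe (f171153 IH) (Lpr_gt (K9.f524 IH) (Lpe (K9.f51552 IH) (Lpr_bt (K10.f51565 IH) (Lpr_gt (K9.f28781 IH) (Lpn (LP (LK LD1_c0 LD2_c11 LD3_c23)))))))))))))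
theorem f2932 : Led Lsl_et (LP (LK LD1_c0 LD2_c31 LD3_c48)) = (LP (LK LD1_c0 LD2_c14 LD3_c8)) :=
  Lre_e IH (LK LD1_c0 LD2_c31 LD3_c48) (LK LD1_c0 LD2_c14 LD3_c8) Lrfl Lrfl
theorem f200641 : Led Lsl_et (LP (LK LD1_c0 LD2_c11 LD3_c23)) = (LP (LK LD1_c0 LD2_c25 LD3_c35)) :=
  Lre_e IH (LK LD1_c0 LD2_c11 LD3_c23) (LK LD1_c0 LD2_c25 LD3_c35) Lrfl Lrfl
theorem f200642 : Led Lsl_bf (LP (LK LD1_c0 LD2_c31 LD3_c48)) = (LP (LK LD1_c0 LD2_c25 LD3_c35)) :=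
  Lgr Lrot96 (Lpr_et (f2932 IH) (Lpr_bt (f200633 IH) (Lpr_et (f200641 IH) (Lpn (LP (LK LD1_c0 LD2_c25 LD3_c35))))))
theorem f28998 : Led Lsl_ct (LP (LK LD1_c0 LD2_c56 LD3_c21)) = (LP (LK LD1_c0 LD2_c25 LD3_c35)) :=
  Lre_c IH (LK LD1_c0 LD2_c56 LD3_c21) (LK LD1_c0 LD2_c25 LD3_c35) Lrfl Lrfl
theorem f28995 : Led Lsl_dt (LP (LK LD1_c0 LD2_c56 LD3_c21)) = (LP (LK LD1_c1 LD2_c59 LD3_c11)) :=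
  Lre_d IH (LK LD1_c0 LD2_c56 LD3_c21) (LK LD1_c1 LD2_c59 LD3_c11) Lrfl Lrfl
theorem f194208 : Led Lsl_bt (LP (LK LD1_c0 LD2_c28 LD3_c48)) = (LP (LK LD1_c0 LD2_c56 LD3_c21)) :=
  Lgr Lrot95 (Lpe (K9.f167862 IH) (Lpr_bf (K10.f194201 IH) (Lpe (f28995 IH) (Lpn (LP (LK LD1_c0 LD2_c56 LD3_c21))))))
theorem f20708 : Led Lsl_ct (LP (LK LD1_c0 LD2_c12 LD3_c45)) = (LP (LK LD1_c0 LD2_c28 LD3_c48)) :=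
  Lre_c IH (LK LD1_c0 LD2_c12 LD3_c45) (LK LD1_c0 LD2_c28 LD3_c48) Lrfl Lrfl
theorem f20655 : Led Lsl_bt (LP (LK LD1_c0 LD2_c28 LD3_c46)) = (LP (LK LD1_c0 LD2_c12 LD3_c45)) :=
  Lre_b IH (LK LD1_c0 LD2_c28 LD3_c46) (LK LD1_c0 LD2_c12 LD3_c45) Lrfl Lrfl
theorem f200646 : Led Lsl_ct (LP (LK LD1_c0 LD2_c31 LD3_c48)) = (LP (LK LD1_c0 LD2_c28 LD3_c46)) :=
  Lgr Lrot83 (Lpr_bf (f200642 IH) (Lpe (f28998 IH) (Lpe (f194208 IH) (Lpe (f20708 IH) (Lpe (f20655 IH) (Lpn (LP (LK LD1_c0 LD2_c28 LD3_c46))))))))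
theorem f200659 : Led Lsl_ft (LP (LK LD1_c1 LD2_c9 LD3_c16)) = (LP (LK LD1_c0 LD2_c31 LD3_c48)) :=
  Lre_f IH (LK LD1_c1 LD2_c9 LD3_c16) (LK LD1_c0 LD2_c31 LD3_c48) Lrfl Lrfl
theorem f20751 : Led Lsl_ft (LP (LK LD1_c0 LD2_c28 LD3_c46)) = (LP (LK LD1_c1 LD2_c3 LD3_c7)) :=
  Lre_f IH (LK LD1_c0 LD2_c28 LD3_c46) (LK LD1_c1 LD2_c3 LD3_c7) Lrfl Lrfl
theorem f200673 : Led Lsl_cf (LP (LK LD1_c1 LD2_c9 LD3_c16)) = (LP (LK LD1_c1 LD2_c3 LD3_c7)) :=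
  Lgr Lrot108 (Lpr_ft (f200659 IH) (Lpr_ct (f200646 IH) (Lpr_ft (f20751 IH) (Lpn (LP (LK LD1_c1 LD2_c3 LD3_c7))))))
theorem f200679 : Led Lsl_ct (LP (LK LD1_c1 LD2_c9 LD3_c16)) = (LP (LK LD1_c1 LD2_c3 LD3_c7)) :=
  Lgr Lrot59 (Lpr_cf (f200673 IH) (Lpn (LP (LK LD1_c1 LD2_c3 LD3_c7))))
theorem f200650 : Led Lsl_ft (LP (LK LD1_c0 LD2_c31 LD3_c48)) = (LP (LK LD1_c1 LD2_c9 LD3_c16)) :=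
  Lre_f IH (LK LD1_c0 LD2_c31 LD3_c48) (LK LD1_c1 LD2_c9 LD3_c16) Lrfl Lrfl
theorem f200651 : Led Lsl_ft (LP (LK LD1_c0 LD2_c56 LD3_c27)) = (LP (LK LD1_c0 LD2_c25 LD3_c35)) :=
  Lre_f IH (LK LD1_c0 LD2_c56 LD3_c27) (LK LD1_c0 LD2_c25 LD3_c35) Lrfl Lrfl
theorem f200652 : Led Lsl_bt (LP (LK LD1_c1 LD2_c9 LD3_c16)) = (LP (LK LD1_c0 LD2_c56 LD3_c27)) :=
  Lgr Lrot35 (Lpe (f200650 IH) (Lpr_bf (f200642 IH) (Lpe (f200651 IH) (Lpn (LP (LK LD1_c0 LD2_c56 LD3_c27))))))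
theorem f200655 : Led Lsl_bf (LP (LK LD1_c1 LD2_c9 LD3_c16)) = (LP (LK LD1_c0 LD2_c56 LD3_c27)) :=
  Lgr Lrot24 (Lpr_bt (f200652 IH) (Lpn (LP (LK LD1_c0 LD2_c56 LD3_c27))))
theorem f200658 : Led Lsl_ct (LP (LK LD1_c1 LD2_c59 LD3_c12)) = (LP (LK LD1_c0 LD2_c56 LD3_c27)) :=
  Lre_c IH (LK LD1_c1 LD2_c59 LD3_c12) (LK LD1_c0 LD2_c56 LD3_c27) Lrfl Lrfl
theorem f200681 : Led Lsl_bt (LP (LK LD1_c1 LD2_c3 LD3_c7)) = (LP (LK LD1_c0 LD2_c28 LD3_c54)) :=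
  Lre_b IH (LK LD1_c1 LD2_c3 LD3_c7) (LK LD1_c0 LD2_c28 LD3_c54) Lrfl Lrfl
theorem f200682 : Led Lsl_ct (LP (LK LD1_c0 LD2_c28 LD3_c54)) = (LP (LK LD1_c1 LD2_c3 LD3_c11)) :=
  Lre_c IH (LK LD1_c0 LD2_c28 LD3_c54) (LK LD1_c1 LD2_c3 LD3_c11) Lrfl Lrfl
theorem f200683 : Led Lsl_bf (LP (LK LD1_c1 LD2_c59 LD3_c12)) = (LP (LK LD1_c1 LD2_c3 LD3_c11)) :=
  Lgr Lrot90 (Lpr_ct (f200658 IH) (Lpe (f200655 IH) (Lpr_ct (f200679 IH) (Lpr_bt (f200681 IH) (Lpr_ct (f200682 IH) (Lpn (LP (LK LD1_c1 LD2_c3 LD3_c11))))))))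
theorem f200685 : Led Lsl_ft (LP (LK LD1_c1 LD2_c59 LD3_c12)) = (LP (LK LD1_c0 LD2_c56 LD3_c21)) :=
  Lre_f IH (LK LD1_c1 LD2_c59 LD3_c12) (LK LD1_c0 LD2_c56 LD3_c21) Lrfl Lrfl
theorem f167870 : Led Lsl_ft (LP (LK LD1_c0 LD2_c28 LD3_c48)) = (LP (LK LD1_c1 LD2_c3 LD3_c11)) :=
  Lre_f IH (LK LD1_c0 LD2_c28 LD3_c48) (LK LD1_c1 LD2_c3 LD3_c11) Lrfl Lrfl
theorem f200686 : Led Lsl_bt (LP (LK LD1_c0 LD2_c56 LD3_c21)) = (LP (LK LD1_c0 LD2_c28 LD3_c48)) :=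
  Lgr Lrot35 (Lpe (f200685 IH) (Lpr_bf (f200683 IH) (Lpe (f167870 IH) (Lpn (LP (LK LD1_c0 LD2_c28 LD3_c48))))))
theorem f200688 : Led Lsl_et (LP (LK LD1_c0 LD2_c25 LD3_c33)) = (LP (LK LD1_c0 LD2_c56 LD3_c21)) :=
  Lre_e IH (LK LD1_c0 LD2_c25 LD3_c33) (LK LD1_c0 LD2_c56 LD3_c21) Lrfl Lrfl
theorem f200689 : Led Lsl_bf (LP (LK LD1_c0 LD2_c25 LD3_c33)) = (LP (LK LD1_c0 LD2_c12 LD3_c43)) :=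
  Lgr Lrot96 (Lpr_et (f200688 IH) (Lpr_bt (f200686 IH) (Lpr_et (K9.f167858 IH) (Lpn (LP (LK LD1_c0 LD2_c12 LD3_c43))))))
theorem f20644 : Led Lsl_ct (LP (LK LD1_c0 LD2_c5 LD3_c47)) = (LP (LK LD1_c0 LD2_c2 LD3_c37)) :=
  Lre_c IH (LK LD1_c0 LD2_c5 LD3_c47) (LK LD1_c0 LD2_c2 LD3_c37) Lrfl Lrfl
theorem f181957 : Led Lsl_bt (LP (LK LD1_c0 LD2_c5 LD3_c47)) = (LP (LK LD1_c0 LD2_c12 LD3_c37)) :=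
  Lre_b IH (LK LD1_c0 LD2_c5 LD3_c47) (LK LD1_c0 LD2_c12 LD3_c37) Lrfl Lrfl
theorem f187223 : Led Lsl_gt (LP (LK LD1_c0 LD2_c28 LD3_c32)) = (LP (LK LD1_c0 LD2_c12 LD3_c37)) :=
  Lre_g IH (LK LD1_c0 LD2_c28 LD3_c32) (LK LD1_c0 LD2_c12 LD3_c37) Lrfl Lrfl
theorem f27480 : Led Lsl_bt (LP (LK LD1_c0 LD2_c27 LD3_c2)) = (LP (LK LD1_c0 LD2_c59 LD3_c15)) :=
  Lre_b IH (LK LD1_c0 LD2_c27 LD3_c2) (LK LD1_c0 LD2_c59 LD3_c15) Lrfl Lrfl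
theorem f8007 : Led Lsl_ct (LP (LK LD1_c0 LD2_c27 LD3_c32)) = (LP (LK LD1_c0 LD2_c12 LD3_c11)) :=
  Lre_c IH (LK LD1_c0 LD2_c27 LD3_c32) (LK LD1_c0 LD2_c12 LD3_c11) Lrfl Lrfl
theorem f187224 : Led Lsl_bf (LP (LK LD1_c0 LD2_c28 LD3_c32)) = (LP (LK LD1_c0 LD2_c27 LD3_c32)) :=
  Lgr Lrot165 (Lpr_gt (f187223 IH) (Lpr_ct (K10.f173186 IH) (Lpr_gt (K10.f45741 IH) (Lpe (K10.f187186 IH) (Lpr_bt (K10.f187104 IH) (Lpr_gt (K9.f53464 IH) (Lpe (f27480 IH) (Lpr_ct (K10.f27482 IH) (Lpe (K9.f179842 IH) (Lpe (f8007 IH) (Lpn (LP (LK LD1_c0 LD2_c27 LD3_c32)))))))))))))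
theorem f200694 : Led Lsl_gt (LP (LK LD1_c0 LD2_c25 LD3_c33)) = (LP (LK LD1_c0 LD2_c27 LD3_c2)) :=
  Lgr Lrot82 (Lpr_bf (f200689 IH) (Lpr_ct (K9.f20813 IH) (Lpe (K9.f6854 IH) (Lpe (f20644 IH) (Lpr_bt (f181957 IH) (Lpe (f187223 IH) (Lpr_bf (f187224 IH) (Lpr_ct (f8007 IH) (Lpr_gf (K9.f179842 IH) (Lpe (K10.f27482 IH) (Lpn (LP (LK LD1_c0 LD2_c27 LD3_c2)))))))))))))
theorem f53023 : Led Lsl_ct (LP (LK LD1_c0 LD2_c25 LD3_c33)) = (LP (LK LD1_c0 LD2_c11 LD3_c23)) :=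
  Lre_c IH (LK LD1_c0 LD2_c25 LD3_c33) (LK LD1_c0 LD2_c11 LD3_c23) Lrfl Lrfl
theorem f28164 : Led Lsl_gt (LP (LK LD1_c0 LD2_c11 LD3_c23)) = (LP (LK LD1_c0 LD2_c25 LD3_c14)) :=
  Lre_g IH (LK LD1_c0 LD2_c11 LD3_c23) (LK LD1_c0 LD2_c25 LD3_c14) Lrfl Lrfl
theorem f27943 : Led Lsl_at (LP (LK LD1_c0 LD2_c25 LD3_c14)) = (LP (LK LD1_c0 LD2_c11 LD3_c25)) :=
  Lre_a IH (LK LD1_c0 LD2_c25 LD3_c14) (LK LD1_c0 LD2_c11 LD3_c25) Lrfl Lrfl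
theorem f27944 : Led Lsl_at (LP (LK LD1_c0 LD2_c11 LD3_c25)) = (LP (LK LD1_c0 LD2_c25 LD3_c14)) :=
  Lre_a IH (LK LD1_c0 LD2_c11 LD3_c25) (LK LD1_c0 LD2_c25 LD3_c14) Lrfl Lrfl
theorem f52234 : Led Lsl_df (LP (LK LD1_c0 LD2_c25 LD3_c14)) = (LP (LK LD1_c0 LD2_c25 LD3_c14)) :=
  Lgr Lrot18 (Lpr_at (f27943 IH) (Lpr_dt (K10.f51605 IH) (Lpr_at (f27944 IH) (Lpn (LP (LK LD1_c0 LD2_c25 LD3_c14))))))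
theorem f28160 : Led Lsl_gt (LP (LK LD1_c0 LD2_c25 LD3_c14)) = (LP (LK LD1_c0 LD2_c11 LD3_c24)) :=
  Lre_g IH (LK LD1_c0 LD2_c25 LD3_c14) (LK LD1_c0 LD2_c11 LD3_c24) Lrfl Lrfl
theorem f53102 : Led Lsl_ct (LP (LK LD1_c0 LD2_c25 LD3_c37)) = (LP (LK LD1_c0 LD2_c56 LD3_c31)) :=
  Lre_c IH (LK LD1_c0 LD2_c25 LD3_c37) (LK LD1_c0 LD2_c56 LD3_c31) Lrfl Lrfl
theorem f53132 : Led Lsl_dt (LP (LK LD1_c1 LD2_c59 LD3_c26)) = (LP (LK LD1_c0 LD2_c56 LD3_c31)) :=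
  Lre_d IH (LK LD1_c1 LD2_c59 LD3_c26) (LK LD1_c0 LD2_c56 LD3_c31) Lrfl Lrfl
theorem f200696 : Led Lsl_gf (LP (LK LD1_c1 LD2_c59 LD3_c26)) = (LP (LK LD1_c0 LD2_c59 LD3_c24)) :=
  Lgr Lrot143 (Lpr_dt (f53132 IH) (Lpe (f53102 IH) (Lpe (K10.f28161 IH) (Lpe (f28160 IH) (Lpr_df (f52234 IH) (Lpe (f28164 IH) (Lpe (f53023 IH) (Lpr_gt (f200694 IH) (Lpr_dt (K10.f27461 IH) (Lpn (LP (LK LD1_c0 LD2_c59 LD3_c24))))))))))))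
theorem f53081 : Led Lsl_ct (LP (LK LD1_c0 LD2_c25 LD3_c36)) = (LP (LK LD1_c0 LD2_c11 LD3_c24)) :=
  Lre_c IH (LK LD1_c0 LD2_c25 LD3_c36) (LK LD1_c0 LD2_c11 LD3_c24) Lrfl Lrfl
theorem f28912 : Led Lsl_ct (LP (LK LD1_c0 LD2_c5 LD3_c18)) = (LP (LK LD1_c0 LD2_c11 LD3_c22)) :=
  Lre_c IH (LK LD1_c0 LD2_c5 LD3_c18) (LK LD1_c0 LD2_c11 LD3_c22) Lrfl Lrfl
theorem f52292 : Led Lsl_dt (LP (LK LD1_c0 LD2_c25 LD3_c31)) = (LP (LK LD1_c0 LD2_c11 LD3_c22)) :=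
  Lre_d IH (LK LD1_c0 LD2_c25 LD3_c31) (LK LD1_c0 LD2_c11 LD3_c22) Lrfl Lrfl
theorem f52291 : Led Lsl_ct (LP (LK LD1_c0 LD2_c56 LD3_c18)) = (LP (LK LD1_c0 LD2_c25 LD3_c31)) :=
  Lre_c IH (LK LD1_c0 LD2_c56 LD3_c18) (LK LD1_c0 LD2_c25 LD3_c31) Lrfl Lrfl
theorem f52288 : Led Lsl_gt (LP (LK LD1_c1 LD2_c59 LD3_c1)) = (LP (LK LD1_c0 LD2_c56 LD3_c18)) :=
  Lre_g IH (LK LD1_c1 LD2_c59 LD3_c1) (LK LD1_c0 LD2_c56 LD3_c18) Lrfl Lrfl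
theorem f200723 : Led Lsl_ct (LP (LK LD1_c1 LD2_c59 LD3_c26)) = (LP (LK LD1_c1 LD2_c59 LD3_c1)) :=
  Lgr Lrot152 (Lpr_gf (f200696 IH) (Lpe (K10.f27461 IH) (Lpe (K10.f193322 IH) (Lpr_ct (f53081 IH) (Lpr_gt (K10.f53078 IH) (Lpr_ct (f28912 IH) (Lpe (f52292 IH) (Lpe (f52291 IH) (Lpe (f52288 IH) (Lpn (LP (LK LD1_c1 LD2_c59 LD3_c1))))))))))))
theorem f200730 : Led Lsl_cf (LP (LK LD1_c1 LD2_c59 LD3_c26)) = (LP (LK LD1_c1 LD2_c59 LD3_c1)) :=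
  Lgr Lrot11 (Lpr_ct (f200723 IH) (Lpn (LP (LK LD1_c1 LD2_c59 LD3_c1))))
theorem f52683 : Led Lsl_ft (LP (LK LD1_c0 LD2_c59 LD3_c24)) = (LP (LK LD1_c0 LD2_c27 LD3_c1)) :=
  Lre_f IH (LK LD1_c0 LD2_c59 LD3_c24) (LK LD1_c0 LD2_c27 LD3_c1) Lrfl Lrfl
theorem f200721 : Led Lsl_gt (LP (LK LD1_c1 LD2_c59 LD3_c26)) = (LP (LK LD1_c0 LD2_c59 LD3_c1)) :=
  Lgr Lrot46 (Lpr_gf (f200696 IH) (Lpr_ft (f52683 IH) (Lpr_at (K10.f27684 IH) (Lpn (LP (LK LD1_c0 LD2_c59 LD3_c1))))))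
theorem f27676 : Led Lsl_bt (LP (LK LD1_c2 LD2_c4 LD3_c2)) = (LP (LK LD1_c4 LD2_c13 LD3_c26)) :=
  Lre_b IH (LK LD1_c2 LD2_c4 LD3_c2) (LK LD1_c4 LD2_c13 LD3_c26) Lrfl Lrfl
theorem f52849 : Led Lsl_gt (LP (LK LD1_c4 LD2_c13 LD3_c26)) = (LP (LK LD1_c8 LD2_c25 LD3_c48)) :=
  Lre_g IH (LK LD1_c4 LD2_c13 LD3_c26) (LK LD1_c8 LD2_c25 LD3_c48) Lrfl Lrfl
theorem f52877 : Led Lsl_bt (LP (LK LD1_c15 LD2_c50 LD3_c2)) = (LP (LK LD1_c8 LD2_c25 LD3_c48)) :=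
  Lre_b IH (LK LD1_c15 LD2_c50 LD3_c2) (LK LD1_c8 LD2_c25 LD3_c48) Lrfl Lrfl
theorem f52275 : Led Lsl_at (LP (LK LD1_c1 LD2_c57 LD3_c23)) = (LP (LK LD1_c0 LD2_c56 LD3_c18)) :=
  Lre_a IH (LK LD1_c1 LD2_c57 LD3_c23) (LK LD1_c0 LD2_c56 LD3_c18) Lrfl Lrfl
theorem f52289 : Led Lsl_gt (LP (LK LD1_c1 LD2_c59 LD3_c3)) = (LP (LK LD1_c1 LD2_c59 LD3_c1)) :=
  Lgr Lrot5 (Lpr_ft (K10.f52266 IH) (Lpr_at (f52275 IH) (Lpe (f52288 IH) (Lpn (LP (LK LD1_c1 LD2_c59 LD3_c1))))))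
theorem f52276 : Led Lsl_bt (LP (LK LD1_c4 LD2_c4 LD3_c14)) = (LP (LK LD1_c1 LD2_c59 LD3_c3)) :=
  Lre_b IH (LK LD1_c4 LD2_c4 LD3_c14) (LK LD1_c1 LD2_c59 LD3_c3) Lrfl Lrfl
theorem f52298 : Led Lsl_ct (LP (LK LD1_c4 LD2_c4 LD3_c14)) = (LP (LK LD1_c8 LD2_c9 LD3_c19)) :=
  Lre_c IH (LK LD1_c4 LD2_c4 LD3_c14) (LK LD1_c8 LD2_c9 LD3_c19) Lrfl Lrfl
theorem f52299 : Led Lsl_gt (LP (LK LD1_c15 LD2_c21 LD3_c36)) = (LP (LK LD1_c8 LD2_c9 LD3_c19)) :=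
  Lre_g IH (LK LD1_c15 LD2_c21 LD3_c36) (LK LD1_c8 LD2_c9 LD3_c19) Lrfl Lrfl
theorem f200760 : Led Lsl_ct (LP (LK LD1_c15 LD2_c50 LD3_c2)) = (LP (LK LD1_c15 LD2_c21 LD3_c36)) :=
  Lgr Lrot64 (Lpr_bt (f52877 IH) (Lpe (f52849 IH) (Lpe (f27676 IH) (Lpr_ct (K0.f27679 IH) (Lpe (f200721 IH) (Lpr_cf (f200730 IH) (Lpe (f52289 IH) (Lpe (f52276 IH) (Lpr_ct (f52298 IH) (Lpe (f52299 IH) (Lpn (LP (LK LD1_c15 LD2_c21 LD3_c36)))))))))))))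
theorem f52660 : Led Lsl_bt (LP (LK LD1_c4 LD2_c14 LD3_c49)) = (LP (LK LD1_c2 LD2_c4 LD3_c46)) :=
  Lre_b IH (LK LD1_c4 LD2_c14 LD3_c49) (LK LD1_c2 LD2_c4 LD3_c46) Lrfl Lrfl
theorem f52661 : Led Lsl_ft (LP (LK LD1_c4 LD2_c13 LD3_c26)) = (LP (LK LD1_c4 LD2_c14 LD3_c49)) :=
  Lgr Lrot75 (Lpe (f27676 IH) (Lpr_ff (K10.f52657 IH) (Lpe (f52660 IH) (Lpn (LP (LK LD1_c4 LD2_c14 LD3_c49))))))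
theorem f52651 : Led Lsl_at (LP (LK LD1_c4 LD2_c14 LD3_c49)) = (LP (LK LD1_c8 LD2_c28 LD3_c27)) :=
  Lre_a IH (LK LD1_c4 LD2_c14 LD3_c49) (LK LD1_c8 LD2_c28 LD3_c27) Lrfl Lrfl
theorem f52875 : Led Lsl_gt (LP (LK LD1_c8 LD2_c25 LD3_c48)) = (LP (LK LD1_c8 LD2_c28 LD3_c27)) :=
  Lgr Lrot46 (Lpe (f52849 IH) (Lpr_ft (f52661 IH) (Lpr_at (f52651 IH) (Lpn (LP (LK LD1_c8 LD2_c28 LD3_c27))))))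
theorem f52731 : Led Lsl_bf (LP (LK LD1_c8 LD2_c28 LD3_c27)) = (LP (LK LD1_c8 LD2_c28 LD3_c16)) :=
  Lgr Lrot93 (Lpr_dt (K10.f52730 IH) (Lpr_bt (K10.f51141 IH) (Lpr_dt (K10.f52724 IH) (Lpn (LP (LK LD1_c8 LD2_c28 LD3_c16))))))
theorem f52840 : Led Lsl_gt (LP (LK LD1_c15 LD2_c52 LD3_c4)) = (LP (LK LD1_c8 LD2_c27 LD3_c6)) :=
  Lre_g IH (LK LD1_c15 LD2_c52 LD3_c4) (LK LD1_c8 LD2_c27 LD3_c6) Lrfl Lrfl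
theorem f52482 : Led Lsl_ct (LP (LK LD1_c15 LD2_c21 LD3_c28)) = (LP (LK LD1_c8 LD2_c9 LD3_c16)) :=
  Lre_c IH (LK LD1_c15 LD2_c21 LD3_c28) (LK LD1_c8 LD2_c9 LD3_c16) Lrfl Lrfl
theorem f31005 : Led Lsl_ct (LP (LK LD1_c8 LD2_c3 LD3_c5)) = (LP (LK LD1_c15 LD2_c8 LD3_c58)) :=
  Lre_c IH (LK LD1_c8 LD2_c3 LD3_c5) (LK LD1_c15 LD2_c8 LD3_c58) Lrfl Lrfl
theorem f52483 : Led Lsl_ff (LP (LK LD1_c15 LD2_c21 LD3_c28)) = (LP (LK LD1_c15 LD2_c8 LD3_c58)) :=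
  Lgr Lrot23 (Lpr_ct (f52482 IH) (Lpr_ft (K10.f52461 IH) (Lpr_ct (f31005 IH) (Lpn (LP (LK LD1_c15 LD2_c8 LD3_c58))))))
theorem f52929 : Led Lsl_at (LP (LK LD1_c15 LD2_c21 LD3_c28)) = (LP (LK LD1_c8 LD2_c9 LD3_c19)) :=
  Lre_a IH (LK LD1_c15 LD2_c21 LD3_c28) (LK LD1_c8 LD2_c9 LD3_c19) Lrfl Lrfl
theorem f52933 : Led Lsl_gf (LP (LK LD1_c15 LD2_c21 LD3_c36)) = (LP (LK LD1_c15 LD2_c8 LD3_c58)) :=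
  Lgr Lrot47 (Lpr_gt (f52299 IH) (Lpe (f52929 IH) (Lpr_ff (f52483 IH) (Lpn (LP (LK LD1_c15 LD2_c8 LD3_c58))))))
theorem f52316 : Led Lsl_bt (LP (LK LD1_c1 LD2_c59 LD3_c3)) = (LP (LK LD1_c4 LD2_c4 LD3_c14)) :=
  Lre_b IH (LK LD1_c1 LD2_c59 LD3_c3) (LK LD1_c4 LD2_c4 LD3_c14) Lrfl Lrfl
theorem f52256 : Led Lsl_bt (LP (LK LD1_c4 LD2_c1 LD3_c9)) = (LP (LK LD1_c1 LD2_c57 LD3_c23)) :=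
  Lre_b IH (LK LD1_c4 LD2_c1 LD3_c9) (LK LD1_c1 LD2_c57 LD3_c23) Lrfl Lrfl
theorem f52317 : Led Lsl_ft (LP (LK LD1_c4 LD2_c4 LD3_c14)) = (LP (LK LD1_c4 LD2_c1 LD3_c9)) :=
  Lgr Lrot75 (Lpe (f52316 IH) (Lpr_ff (K10.f52286 IH) (Lpe (f52256 IH) (Lpn (LP (LK LD1_c4 LD2_c1 LD3_c9))))))
theorem f53025 : Led Lsl_gt (LP (LK LD1_c4 LD2_c4 LD3_c14)) = (LP (LK LD1_c8 LD2_c9 LD3_c17)) :=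
  Lre_g IH (LK LD1_c4 LD2_c4 LD3_c14) (LK LD1_c8 LD2_c9 LD3_c17) Lrfl Lrfl
theorem f52451 : Led Lsl_at (LP (LK LD1_c4 LD2_c1 LD3_c9)) = (LP (LK LD1_c8 LD2_c3 LD3_c5)) :=
  Lre_a IH (LK LD1_c4 LD2_c1 LD3_c9) (LK LD1_c8 LD2_c3 LD3_c5) Lrfl Lrfl
theorem f53048 : Led Lsl_gt (LP (LK LD1_c8 LD2_c9 LD3_c17)) = (LP (LK LD1_c8 LD2_c3 LD3_c5)) :=
  Lgr Lrot46 (Lpe (f53025 IH) (Lpr_ft (f52317 IH) (Lpr_at (f52451 IH) (Lpn (LP (LK LD1_c8 LD2_c3 LD3_c5))))))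
theorem f53031 : Led Lsl_bt (LP (LK LD1_c15 LD2_c21 LD3_c30)) = (LP (LK LD1_c8 LD2_c9 LD3_c17)) :=
  Lre_b IH (LK LD1_c15 LD2_c21 LD3_c30) (LK LD1_c8 LD2_c9 LD3_c17) Lrfl Lrfl
theorem f200771 : Led Lsl_cf (LP (LK LD1_c8 LD2_c27 LD3_c6)) = (LP (LK LD1_c15 LD2_c21 LD3_c30)) :=
  Lgr Lrot58 (Lpe (f52840 IH) (Lpe (K10.f52723 IH) (Lpe (f52731 IH) (Lpe (f52875 IH) (Lpe (f52877 IH) (Lpr_ct (f200760 IH) (Lpr_gf (f52933 IH) (Lpe (f31005 IH) (Lpe (f53048 IH) (Lpe (f53031 IH) (Lpn (LP (LK LD1_c15 LD2_c21 LD3_c30)))))))))))))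
theorem f200792 : Led Lsl_gt (LP (LK LD1_c8 LD2_c27 LD3_c6)) = (LP (LK LD1_c4 LD2_c14 LD3_c15)) :=
  Lre_g IH (LK LD1_c8 LD2_c27 LD3_c6) (LK LD1_c4 LD2_c14 LD3_c15) Lrfl Lrfl
theorem f200795 : Led Lsl_bt (LP (LK LD1_c2 LD2_c4 LD3_c45)) = (LP (LK LD1_c0 LD2_c59 LD3_c23)) :=
  Lre_b IH (LK LD1_c2 LD2_c4 LD3_c45) (LK LD1_c0 LD2_c59 LD3_c23) Lrfl Lrfl
theorem f52319 : Led Lsl_ft (LP (LK LD1_c1 LD2_c57 LD3_c24)) = (LP (LK LD1_c0 LD2_c55 LD3_c30)) :=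
  Lre_f IH (LK LD1_c1 LD2_c57 LD3_c24) (LK LD1_c0 LD2_c55 LD3_c30) Lrfl Lrfl
theorem f52320 : Led Lsl_ct (LP (LK LD1_c1 LD2_c59 LD3_c3)) = (LP (LK LD1_c1 LD2_c57 LD3_c24)) :=
  Lgr Lrot40 (Lpr_ff (K10.f52286 IH) (Lpe (K10.f52246 IH) (Lpe (f52319 IH) (Lpn (LP (LK LD1_c1 LD2_c57 LD3_c24))))))
theorem f28114 : Led Lsl_gt (LP (LK LD1_c0 LD2_c56 LD3_c16)) = (LP (LK LD1_c1 LD2_c57 LD3_c24)) :=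
  Lre_g IH (LK LD1_c0 LD2_c56 LD3_c16) (LK LD1_c1 LD2_c57 LD3_c24) Lrfl Lrfl
theorem f53027 : Led Lsl_ct (LP (LK LD1_c1 LD2_c58 LD3_c57)) = (LP (LK LD1_c0 LD2_c56 LD3_c16)) :=
  Lre_c IH (LK LD1_c1 LD2_c58 LD3_c57) (LK LD1_c0 LD2_c56 LD3_c16) Lrfl Lrfl
theorem f200796 : Led Lsl_gt (LP (LK LD1_c0 LD2_c59 LD3_c23)) = (LP (LK LD1_c1 LD2_c58 LD3_c57)) :=
  Lgr Lrot82 (Lpe (f200795 IH) (Lpr_ct (K10.f52708 IH) (Lpe (f200792 IH) (Lpr_cf (f200771 IH) (Lpr_bt (f53031 IH) (Lpe (f53025 IH) (Lpe (f52316 IH) (Lpr_ct (f52320 IH) (Lpe (f28114 IH) (Lpe (f53027 IH) (Lpn (LP (LK LD1_c1 LD2_c58 LD3_c57)))))))))))))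
theorem f52659 : Led Lsl_dt (LP (LK LD1_c0 LD2_c59 LD3_c23)) = (LP (LK LD1_c2 LD2_c4 LD3_c46)) :=
  Lre_d IH (LK LD1_c0 LD2_c59 LD3_c23) (LK LD1_c2 LD2_c4 LD3_c46) Lrfl Lrfl
theorem f53056 : Led Lsl_gt (LP (LK LD1_c0 LD2_c56 LD3_c17)) = (LP (LK LD1_c0 LD2_c25 LD3_c31)) :=
  Lre_g IH (LK LD1_c0 LD2_c56 LD3_c17) (LK LD1_c0 LD2_c25 LD3_c31) Lrfl Lrfl
theorem f53032 : Led Lsl_ct (LP (LK LD1_c1 LD2_c58 LD3_c60)) = (LP (LK LD1_c0 LD2_c56 LD3_c17)) :=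
  Lre_c IH (LK LD1_c1 LD2_c58 LD3_c60) (LK LD1_c0 LD2_c56 LD3_c17) Lrfl Lrfl
theorem f200804 : Led Lsl_gt (LP (LK LD1_c2 LD2_c4 LD3_c46)) = (LP (LK LD1_c1 LD2_c58 LD3_c60)) :=
  Lgr Lrot9 (Lpe (f52659 IH) (Lpr_gt (f200796 IH) (Lpr_ct (f53027 IH) (Lpr_gt (f28114 IH) (Lpe (K10.f52280 IH) (Lpe (K10.f52265 IH) (Lpe (K10.f52294 IH) (Lpe (f53056 IH) (Lpe (f53032 IH) (Lpn (LP (LK LD1_c1 LD2_c58 LD3_c60))))))))))))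
theorem f200818 : Led Lsl_gf (LP (LK LD1_c0 LD2_c59 LD3_c23)) = (LP (LK LD1_c1 LD2_c58 LD3_c60)) :=
  Lgr Lrot76 (Lpe (K10.f27675 IH) (Lpr_ff (K10.f52657 IH) (Lpr_gt (f200804 IH) (Lpn (LP (LK LD1_c1 LD2_c58 LD3_c60))))))
theorem f28215 : Led Lsl_gt (LP (LK LD1_c0 LD2_c11 LD3_c60)) = (LP (LK LD1_c0 LD2_c5 LD3_c32)) :=
  Lre_g IH (LK LD1_c0 LD2_c11 LD3_c60) (LK LD1_c0 LD2_c5 LD3_c32) Lrfl Lrfl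
theorem f53022 : Led Lsl_ct (LP (LK LD1_c0 LD2_c56 LD3_c17)) = (LP (LK LD1_c1 LD2_c58 LD3_c60)) :=
  Lre_c IH (LK LD1_c0 LD2_c56 LD3_c17) (LK LD1_c1 LD2_c58 LD3_c60) Lrfl Lrfl
theorem f28119 : Led Lsl_gt (LP (LK LD1_c1 LD2_c57 LD3_c24)) = (LP (LK LD1_c0 LD2_c56 LD3_c17)) :=
  Lre_g IH (LK LD1_c1 LD2_c57 LD3_c24) (LK LD1_c0 LD2_c56 LD3_c17) Lrfl Lrfl
theorem f28106 : Led Lsl_dt (LP (LK LD1_c0 LD2_c55 LD3_c31)) = (LP (LK LD1_c1 LD2_c57 LD3_c24)) :=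
  Lre_d IH (LK LD1_c0 LD2_c55 LD3_c31) (LK LD1_c1 LD2_c57 LD3_c24) Lrfl Lrfl
theorem f28140 : Led Lsl_gt (LP (LK LD1_c0 LD2_c55 LD3_c31)) = (LP (LK LD1_c0 LD2_c25 LD3_c30)) :=
  Lre_g IH (LK LD1_c0 LD2_c55 LD3_c31) (LK LD1_c0 LD2_c25 LD3_c30) Lrfl Lrfl
theorem f201045 : Led Lsl_cf (LP (LK LD1_c0 LD2_c11 LD3_c60)) = (LP (LK LD1_c0 LD2_c25 LD3_c30)) :=
  Lgr Lrot169 (Lpr_gt (f28215 IH) (Lpr_ct (K10.f52668 IH) (Lpe (K10.f52670 IH) (Lpe (K10.f52671 IH) (Lpr_gf (f200818 IH) (Lpe (f53022 IH) (Lpe (f28119 IH) (Lpe (f28106 IH) (Lpr_gt (f28140 IH) (Lpn (LP (LK LD1_c0 LD2_c25 LD3_c30))))))))))))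
theorem f166439 : Led Lsl_bt (LP (LK LD1_c0 LD2_c11 LD3_c59)) = (LP (LK LD1_c0 LD2_c26 LD3_c60)) :=
  Lre_b IH (LK LD1_c0 LD2_c11 LD3_c59) (LK LD1_c0 LD2_c26 LD3_c60) Lrfl Lrfl
theorem f188571 : Led Lsl_ct (LP (LK LD1_c0 LD2_c59 LD3_c12)) = (LP (LK LD1_c2 LD2_c4 LD3_c21)) :=
  Lre_c IH (LK LD1_c0 LD2_c59 LD3_c12) (LK LD1_c2 LD2_c4 LD3_c21) Lrfl Lrfl
theorem f188601 : Led Lsl_ct (LP (LK LD1_c1 LD2_c2 LD3_c49)) = (LP (LK LD1_c2 LD2_c11 LD3_c38)) :=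
  Lre_c IH (LK LD1_c1 LD2_c2 LD3_c49) (LK LD1_c2 LD2_c11 LD3_c38) Lrfl Lrfl
theorem f201074 : Led Lsl_bt (LP (LK LD1_c0 LD2_c25 LD3_c30)) = (LP (LK LD1_c0 LD2_c56 LD3_c13)) :=
  Lre_b IH (LK LD1_c0 LD2_c25 LD3_c30) (LK LD1_c0 LD2_c56 LD3_c13) Lrfl Lrfl
theorem f201075 : Led Lsl_gt (LP (LK LD1_c1 LD2_c58 LD3_c47)) = (LP (LK LD1_c0 LD2_c56 LD3_c13)) :=
  Lre_g IH (LK LD1_c1 LD2_c58 LD3_c47) (LK LD1_c0 LD2_c56 LD3_c13) Lrfl Lrfl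
theorem f201076 : Led Lsl_bt (LP (LK LD1_c1 LD2_c2 LD3_c49)) = (LP (LK LD1_c1 LD2_c58 LD3_c47)) :=
  Lgr Lrot22 (Lpr_ct (f188601 IH) (Lpr_gf (K10.f188592 IH) (Lpe (f188571 IH) (Lpe (K10.f54512 IH) (Lpe (f166439 IH) (Lpr_ct (K10.f52669 IH) (Lpe (f28215 IH) (Lpr_cf (f201045 IH) (Lpr_bt (f201074 IH) (Lpe (f201075 IH) (Lpn (LP (LK LD1_c1 LD2_c58 LD3_c47)))))))))))))
theorem f188569 : Led Lsl_bf (LP (LK LD1_c1 LD2_c9 LD3_c49)) = (LP (LK LD1_c0 LD2_c59 LD3_c12)) :=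
  Lgr Lrot24 (Lpr_bt (K10.f188565 IH) (Lpn (LP (LK LD1_c0 LD2_c59 LD3_c12))))
theorem f201093 : Led Lsl_cf (LP (LK LD1_c0 LD2_c27 LD3_c16)) = (LP (LK LD1_c0 LD2_c56 LD3_c13)) :=
  Lgr Lrot125 (Lpe (f199580 IH) (Lpr_cf (f41893 IH) (Lpr_bt (K1.f41254 IH) (Lpr_gt (K9.f41907 IH) (Lpr_bf (f188569 IH) (Lpr_ct (f188571 IH) (Lpe (K10.f188592 IH) (Lpe (f188601 IH) (Lpr_bt (f201076 IH) (Lpr_gt (f201075 IH) (Lpn (LP (LK LD1_c0 LD2_c56 LD3_c13)))))))))))))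
theorem f7816 : Led Lsl_et (LP (LK LD1_c0 LD2_c27 LD3_c16)) = (LP (LK LD1_c1 LD2_c0 LD3_c1)) :=
  Lre_e IH (LK LD1_c0 LD2_c27 LD3_c16) (LK LD1_c1 LD2_c0 LD3_c1) Lrfl Lrfl
theorem f201106 : Led Lsl_et (LP (LK LD1_c1 LD2_c58 LD3_c50)) = (LP (LK LD1_c0 LD2_c56 LD3_c13)) :=
  Lre_e IH (LK LD1_c1 LD2_c58 LD3_c50) (LK LD1_c0 LD2_c56 LD3_c13) Lrfl Lrfl
theorem f201107 : Led Lsl_ct (LP (LK LD1_c1 LD2_c0 LD3_c1)) = (LP (LK LD1_c1 LD2_c58 LD3_c50)) :=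
  Lgr Lrot15 (Lpe (f7816 IH) (Lpr_cf (f201093 IH) (Lpe (f201106 IH) (Lpn (LP (LK LD1_c1 LD2_c58 LD3_c50))))))
theorem f201228 : Led Lsl_cf (LP (LK LD1_c1 LD2_c0 LD3_c1)) = (LP (LK LD1_c1 LD2_c58 LD3_c50)) :=
  Lgr Lrot11 (Lpr_ct (f201107 IH) (Lpn (LP (LK LD1_c1 LD2_c58 LD3_c50))))
theorem f7717 : Led Lsl_bt (LP (LK LD1_c1 LD2_c0 LD3_c1)) = (LP (LK LD1_c0 LD2_c27 LD3_c18)) :=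
  Lre_b IH (LK LD1_c1 LD2_c0 LD3_c1) (LK LD1_c0 LD2_c27 LD3_c18) Lrfl Lrfl
theorem f201249 : Led Lsl_bt (LP (LK LD1_c0 LD2_c56 LD3_c15)) = (LP (LK LD1_c1 LD2_c58 LD3_c50)) :=
  Lre_b IH (LK LD1_c0 LD2_c56 LD3_c15) (LK LD1_c1 LD2_c58 LD3_c50) Lrfl Lrfl
theorem f201064 : Led Lsl_et (LP (LK LD1_c0 LD2_c11 LD3_c60)) = (LP (LK LD1_c0 LD2_c27 LD3_c4)) :=
  Lre_e IH (LK LD1_c0 LD2_c11 LD3_c60) (LK LD1_c0 LD2_c27 LD3_c4) Lrfl Lrfl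
theorem f28141 : Led Lsl_et (LP (LK LD1_c0 LD2_c56 LD3_c15)) = (LP (LK LD1_c0 LD2_c25 LD3_c30)) :=
  Lre_e IH (LK LD1_c0 LD2_c56 LD3_c15) (LK LD1_c0 LD2_c25 LD3_c30) Lrfl Lrfl
theorem f201065 : Led Lsl_ct (LP (LK LD1_c0 LD2_c27 LD3_c4)) = (LP (LK LD1_c0 LD2_c56 LD3_c15)) :=
  Lgr Lrot15 (Lpe (f201064 IH) (Lpr_cf (f201045 IH) (Lpe (f28141 IH) (Lpn (LP (LK LD1_c0 LD2_c56 LD3_c15))))))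
theorem f201250 : Led Lsl_bt (LP (LK LD1_c0 LD2_c14 LD3_c17)) = (LP (LK LD1_c0 LD2_c27 LD3_c4)) :=
  Lgr Lrot128 (Lpe (K9.f7882 IH) (Lpe (f7717 IH) (Lpr_cf (f201228 IH) (Lpe (f201249 IH) (Lpe (f201065 IH) (Lpn (LP (LK LD1_c0 LD2_c27 LD3_c4))))))))
theorem f28524 : Led Lsl_et (LP (LK LD1_c0 LD2_c27 LD3_c4)) = (LP (LK LD1_c0 LD2_c11 LD3_c60)) :=
  Lre_e IH (LK LD1_c0 LD2_c27 LD3_c4) (LK LD1_c0 LD2_c11 LD3_c60) Lrfl Lrfl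
theorem f201258 : Led Lsl_bf (LP (LK LD1_c0 LD2_c6 LD3_c34)) = (LP (LK LD1_c0 LD2_c11 LD3_c60)) :=
  Lgr Lrot96 (Lpr_et (K0.f7896 IH) (Lpr_bt (f201250 IH) (Lpr_et (f28524 IH) (Lpn (LP (LK LD1_c0 LD2_c11 LD3_c60))))))
theorem f166422 : Led Lsl_gt (LP (LK LD1_c0 LD2_c11 LD3_c47)) = (LP (LK LD1_c0 LD2_c26 LD3_c32)) :=
  Lre_g IH (LK LD1_c0 LD2_c11 LD3_c47) (LK LD1_c0 LD2_c26 LD3_c32) Lrfl Lrfl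
theorem f201060 : Led Lsl_ct (LP (LK LD1_c0 LD2_c11 LD3_c60)) = (LP (LK LD1_c0 LD2_c25 LD3_c30)) :=
  Lgr Lrot59 (Lpr_cf (f201045 IH) (Lpn (LP (LK LD1_c0 LD2_c25 LD3_c30))))
theorem f28129 : Led Lsl_ct (LP (LK LD1_c0 LD2_c25 LD3_c14)) = (LP (LK LD1_c0 LD2_c55 LD3_c31)) :=
  Lre_c IH (LK LD1_c0 LD2_c25 LD3_c14) (LK LD1_c0 LD2_c55 LD3_c31) Lrfl Lrfl
theorem f201282 : Led Lsl_bf (LP (LK LD1_c0 LD2_c26 LD3_c32)) = (LP (LK LD1_c0 LD2_c25 LD3_c14)) :=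
  Lgr Lrot34 (Lpe (f166422 IH) (Lpe (K9.f166441 IH) (Lpr_ct (K9.f51596 IH) (Lpr_gf (K9.f166464 IH) (Lpe (K0.f2200 IH) (Lpe (K0.f3063 IH) (Lpr_bf (f201258 IH) (Lpr_ct (f201060 IH) (Lpe (f28140 IH) (Lpe (f28129 IH) (Lpn (LP (LK LD1_c0 LD2_c25 LD3_c14)))))))))))))
theorem f28137 : Led Lsl_gt (LP (LK LD1_c0 LD2_c25 LD3_c29)) = (LP (LK LD1_c0 LD2_c55 LD3_c31)) :=
  Lre_g IH (LK LD1_c0 LD2_c25 LD3_c29) (LK LD1_c0 LD2_c55 LD3_c31) Lrfl Lrfl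
theorem f27488 : Led Lsl_bt (LP (LK LD1_c0 LD2_c11 LD3_c61)) = (LP (LK LD1_c0 LD2_c5 LD3_c37)) :=
  Lre_b IH (LK LD1_c0 LD2_c11 LD3_c61) (LK LD1_c0 LD2_c5 LD3_c37) Lrfl Lrfl
theorem f51599 : Led Lsl_bt (LP (LK LD1_c0 LD2_c11 LD3_c47)) = (LP (LK LD1_c0 LD2_c5 LD3_c26)) :=
  Lre_b IH (LK LD1_c0 LD2_c11 LD3_c47) (LK LD1_c0 LD2_c5 LD3_c26) Lrfl Lrfl
theorem f193331 : Led Lsl_cf (LP (LK LD1_c0 LD2_c25 LD3_c29)) = (LP (LK LD1_c0 LD2_c11 LD3_c47)) :=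
  Lgr Lrot163 (Lpe (K9.f28814 IH) (Lpe (f28912 IH) (Lpe (K10.f53078 IH) (Lpr_bf (K10.f192801 IH) (Lpr_ct (K10.f53083 IH) (Lpr_gf (K10.f193322 IH) (Lpe (K10.f27481 IH) (Lpr_bt (f27488 IH) (Lpe (K9.f51594 IH) (Lpe (f51599 IH) (Lpn (LP (LK LD1_c0 LD2_c11 LD3_c47)))))))))))))
theorem f52688 : Led Lsl_bt (LP (LK LD1_c0 LD2_c5 LD3_c18)) = (LP (LK LD1_c0 LD2_c2 LD3_c29)) :=
  Lre_b IH (LK LD1_c0 LD2_c5 LD3_c18) (LK LD1_c0 LD2_c2 LD3_c29) Lrfl Lrfl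
theorem f53071 : Led Lsl_gt (LP (LK LD1_c0 LD2_c25 LD3_c30)) = (LP (LK LD1_c0 LD2_c11 LD3_c22)) :=
  Lre_g IH (LK LD1_c0 LD2_c25 LD3_c30) (LK LD1_c0 LD2_c11 LD3_c22) Lrfl Lrfl
theorem f201298 : Led Lsl_gt (LP (LK LD1_c0 LD2_c26 LD3_c32)) = (LP (LK LD1_c0 LD2_c11 LD3_c60)) :=
  Lgr Lrot82 (Lpr_bf (f201282 IH) (Lpr_ct (f28129 IH) (Lpe (f28137 IH) (Lpr_cf (f193331 IH) (Lpr_bt (f51599 IH) (Lpe (K9.f6757 IH) (Lpe (f52688 IH) (Lpr_ct (f28912 IH) (Lpe (f53071 IH) (Lpe (f201060 IH) (Lpn (LP (LK LD1_c0 LD2_c11 LD3_c60)))))))))))))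
theorem f201286 : Led Lsl_bt (LP (LK LD1_c0 LD2_c26 LD3_c32)) = (LP (LK LD1_c0 LD2_c25 LD3_c14)) :=
  Lgr Lrot127 (Lpr_bf (f201282 IH) (Lpn (LP (LK LD1_c0 LD2_c25 LD3_c14))))
theorem f201290 : Led Lsl_dt (LP (LK LD1_c0 LD2_c26 LD3_c32)) = (LP (LK LD1_c0 LD2_c26 LD3_c32)) :=
  Lgr Lrot79 (Lpr_bf (f201282 IH) (Lpr_df (f52234 IH) (Lpe (f201286 IH) (Lpn (LP (LK LD1_c0 LD2_c26 LD3_c32))))))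
theorem f186712 : Led Lsl_bt (LP (LK LD1_c0 LD2_c15 LD3_c12)) = (LP (LK LD1_c0 LD2_c33 LD3_c53)) :=
  Lre_b IH (LK LD1_c0 LD2_c15 LD3_c12) (LK LD1_c0 LD2_c33 LD3_c53) Lrfl Lrfl
theorem f165198 : Led Lsl_bt (LP (LK LD1_c0 LD2_c33 LD3_c19)) = (LP (LK LD1_c0 LD2_c14 LD3_c59)) :=
  Lre_b IH (LK LD1_c0 LD2_c33 LD3_c19) (LK LD1_c0 LD2_c14 LD3_c59) Lrfl Lrfl
theorem f31635 : Led Lsl_ct (LP (LK LD1_c0 LD2_c33 LD3_c19)) = (LP (LK LD1_c1 LD2_c11 LD3_c56)) :=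
  Lre_c IH (LK LD1_c0 LD2_c33 LD3_c19) (LK LD1_c1 LD2_c11 LD3_c56) Lrfl Lrfl
theorem f43830 : Led Lsl_bt (LP (LK LD1_c1 LD2_c9 LD3_c40)) = (LP (LK LD1_c0 LD2_c32 LD3_c16)) :=
  Lre_b IH (LK LD1_c1 LD2_c9 LD3_c40) (LK LD1_c0 LD2_c32 LD3_c16) Lrfl Lrfl
theorem f189556 : Led Lsl_gf (LP (LK LD1_c1 LD2_c11 LD3_c56)) = (LP (LK LD1_c0 LD2_c57 LD3_c42)) :=
  Lgr Lrot126 (Lpe (f31635 IH) (Lpr_bt (f165198 IH) (Lpr_gt (K9.f166410 IH) (Lpr_ct (K1.f32235 IH) (Lpr_gt (K10.f31687 IH) (Lpr_cf (K10.f186713 IH) (Lpr_bt (f186712 IH) (Lpr_gt (K10.f189543 IH) (Lpe (f43830 IH) (Lpe (K9.f47520 IH) (Lpn (LP (LK LD1_c0 LD2_c57 LD3_c42)))))))))))))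
theorem f192530 : Led Lsl_bt (LP (LK LD1_c0 LD2_c33 LD3_c17)) = (LP (LK LD1_c1 LD2_c11 LD3_c56)) :=
  Lre_b IH (LK LD1_c0 LD2_c33 LD3_c17) (LK LD1_c1 LD2_c11 LD3_c56) Lrfl Lrfl
theorem f31626 : Led Lsl_ct (LP (LK LD1_c0 LD2_c33 LD3_c17)) = (LP (LK LD1_c0 LD2_c14 LD3_c58)) :=
  Lre_c IH (LK LD1_c0 LD2_c33 LD3_c17) (LK LD1_c0 LD2_c14 LD3_c58) Lrfl Lrfl
theorem f49314 : Led Lsl_ct (LP (LK LD1_c2 LD2_c1 LD3_c24)) = (LP (LK LD1_c0 LD2_c57 LD3_c45)) :=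
  Lre_c IH (LK LD1_c2 LD2_c1 LD3_c24) (LK LD1_c0 LD2_c57 LD3_c45) Lrfl Lrfl
theorem f192526 : Led Lsl_gt (LP (LK LD1_c1 LD2_c14 LD3_c47)) = (LP (LK LD1_c2 LD2_c0 LD3_c33)) :=
  Lgr Lrot9 (Lpe (K10.f32101 IH) (Lpe (K10.f188520 IH) (Lpe (K10.f188047 IH) (Lpr_gt (K10.f49332 IH) (Lpr_ct (f49314 IH) (Lpe (K9.f1438 IH) (Lpe (K9.f49118 IH) (Lpe (K10.f51334 IH) (Lpr_cf (K10.f192515 IH) (Lpn (LP (LK LD1_c2 LD2_c0 LD3_c33))))))))))))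
theorem f192531 : Led Lsl_gt (LP (LK LD1_c0 LD2_c14 LD3_c58)) = (LP (LK LD1_c0 LD2_c27 LD3_c45)) :=
  Lgr Lrot65 (Lpe (f31626 IH) (Lpr_bt (f192530 IH) (Lpr_gf (f189556 IH) (Lpe (K10.f49589 IH) (Lpr_ct (K9.f49113 IH) (Lpe (K10.f51334 IH) (Lpr_cf (K10.f192515 IH) (Lpe (f192526 IH) (Lpr_bf (K1.f32095 IH) (Lpr_ct (K1.f28481 IH) (Lpn (LP (LK LD1_c0 LD2_c27 LD3_c45)))))))))))))
theorem f28216 : Led Lsl_dt (LP (LK LD1_c0 LD2_c27 LD3_c3)) = (LP (LK LD1_c0 LD2_c11 LD3_c60)) :=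
  Lre_d IH (LK LD1_c0 LD2_c27 LD3_c3) (LK LD1_c0 LD2_c11 LD3_c60) Lrfl Lrfl
theorem f201303 : Led Lsl_ef (LP (LK LD1_c0 LD2_c14 LD3_c58)) = (LP (LK LD1_c0 LD2_c27 LD3_c3)) :=
  Lgr Lrot114 (Lpr_gt (f192531 IH) (Lpr_ef (K1.f28478 IH) (Lpr_dt (K0.f28484 IH) (Lpe (K9.f166415 IH) (Lpe (K9.f53247 IH) (Lpr_et (K9.f166421 IH) (Lpr_gt (f166422 IH) (Lpr_dt (f201290 IH) (Lpr_gt (f201298 IH) (Lpe (f28216 IH) (Lpn (LP (LK LD1_c0 LD2_c27 LD3_c3)))))))))))))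
theorem f27491 : Led Lsl_et (LP (LK LD1_c0 LD2_c5 LD3_c32)) = (LP (LK LD1_c0 LD2_c2 LD3_c31)) :=
  Lre_e IH (LK LD1_c0 LD2_c5 LD3_c32) (LK LD1_c0 LD2_c2 LD3_c31) Lrfl Lrfl
theorem f201311 : Led Lsl_gf (LP (LK LD1_c0 LD2_c14 LD3_c58)) = (LP (LK LD1_c0 LD2_c12 LD3_c18)) :=
  Lgr Lrot141 (Lpr_ef (f201303 IH) (Lpr_dt (f28216 IH) (Lpr_gt (f28215 IH) (Lpr_df (K10.f7996 IH) (Lpr_et (f27491 IH) (Lpr_gt (K0.f28207 IH) (Lpe (K0.f27276 IH) (Lpe (K0.f9568 IH) (Lpr_df (K0.f31059 IH) (Lpr_et (K0.f28727 IH) (Lpn (LP (LK LD1_c0 LD2_c12 LD3_c18)))))))))))))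
theorem f31649 : Led Lsl_dt (LP (LK LD1_c0 LD2_c33 LD3_c18)) = (LP (LK LD1_c0 LD2_c14 LD3_c58)) :=
  Lre_d IH (LK LD1_c0 LD2_c33 LD3_c18) (LK LD1_c0 LD2_c14 LD3_c58) Lrfl Lrfl
theorem f164723 : Led Lsl_bt (LP (LK LD1_c0 LD2_c36 LD3_c13)) = (LP (LK LD1_c0 LD2_c16 LD3_c7)) :=
  Lre_b IH (LK LD1_c0 LD2_c36 LD3_c13) (LK LD1_c0 LD2_c16 LD3_c7) Lrfl Lrfl
theorem f164724 : Led Lsl_bt (LP (LK LD1_c0 LD2_c14 LD3_c60)) = (LP (LK LD1_c0 LD2_c33 LD3_c18)) :=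
  Lre_b IH (LK LD1_c0 LD2_c14 LD3_c60) (LK LD1_c0 LD2_c33 LD3_c18) Lrfl Lrfl
theorem f164725 : Led Lsl_ef (LP (LK LD1_c0 LD2_c36 LD3_c13)) = (LP (LK LD1_c0 LD2_c33 LD3_c18)) :=
  Lgr Lrot29 (Lpr_bt (f164723 IH) (Lpr_et (K9.f164721 IH) (Lpr_bt (f164724 IH) (Lpn (LP (LK LD1_c0 LD2_c33 LD3_c18))))))
theorem f35584 : Led Lsl_et (LP (LK LD1_c0 LD2_c27 LD3_c49)) = (LP (LK LD1_c0 LD2_c24 LD3_c38)) :=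
  Lgr Lrot71 (Lpe (K9.f27824 IH) (Lpe (K0.f28727 IH) (Lpe (K0.f31048 IH) (Lpe (K1.f9572 IH) (Lpr_df (K1.f35574 IH) (Lpn (LP (LK LD1_c0 LD2_c24 LD3_c38))))))))
theorem f201324 : Led Lsl_gt (LP (LK LD1_c0 LD2_c36 LD3_c13)) = (LP (LK LD1_c0 LD2_c32 LD3_c35)) :=
  Lgr Lrot137 (Lpr_ef (f164725 IH) (Lpr_dt (f31649 IH) (Lpr_gf (f201311 IH) (Lpe (K0.f27888 IH) (Lpr_et (f35584 IH) (Lpe (K1.f28523 IH) (Lpe (K9.f35596 IH) (Lpr_dt (K1.f35597 IH) (Lpe (K9.f174986 IH) (Lpe (K9.f56559 IH) (Lpn (LP (LK LD1_c0 LD2_c32 LD3_c35)))))))))))))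
theorem f164962 : Led Lsl_ct (LP (LK LD1_c0 LD2_c36 LD3_c13)) = (LP (LK LD1_c1 LD2_c18 LD3_c36)) :=
  Lre_c IH (LK LD1_c0 LD2_c36 LD3_c13) (LK LD1_c1 LD2_c18 LD3_c36) Lrfl Lrfl
theorem f39255 : Led Lsl_ct (LP (LK LD1_c0 LD2_c54 LD3_c29)) = (LP (LK LD1_c0 LD2_c24 LD3_c35)) :=
  Lre_c IH (LK LD1_c0 LD2_c54 LD3_c29) (LK LD1_c0 LD2_c24 LD3_c35) Lrfl Lrfl
theorem f39256 : Led Lsl_dt (LP (LK LD1_c1 LD2_c55 LD3_c32)) = (LP (LK LD1_c0 LD2_c54 LD3_c29)) :=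
  Lre_d IH (LK LD1_c1 LD2_c55 LD3_c32) (LK LD1_c0 LD2_c54 LD3_c29) Lrfl Lrfl
theorem f35667 : Led Lsl_gt (LP (LK LD1_c3 LD2_c57 LD3_c33)) = (LP (LK LD1_c1 LD2_c55 LD3_c32)) :=
  Lre_g IH (LK LD1_c3 LD2_c57 LD3_c33) (LK LD1_c1 LD2_c55 LD3_c32) Lrfl Lrfl
theorem f193462 : Led Lsl_bt (LP (LK LD1_c0 LD2_c55 LD3_c56)) = (LP (LK LD1_c0 LD2_c26 LD3_c8)) :=
  Lgr Lrot92 (Lpr_ct (K10.f34063 IH) (Lpr_gt (K10.f193441 IH) (Lpe (K1.f46633 IH) (Lpr_bt (K9.f55610 IH) (Lpe (K9.f55615 IH) (Lpr_ct (K9.f177789 IH) (Lpr_gt (K9.f9042 IH) (Lpe (K9.f9074 IH) (Lpe (K9.f56321 IH) (Lpr_gt (K9.f8081 IH) (Lpn (LP (LK LD1_c0 LD2_c26 LD3_c8)))))))))))))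
theorem f56049 : Led Lsl_bt (LP (LK LD1_c0 LD2_c24 LD3_c49)) = (LP (LK LD1_c0 LD2_c54 LD3_c52)) :=
  Lre_b IH (LK LD1_c0 LD2_c24 LD3_c49) (LK LD1_c0 LD2_c54 LD3_c52) Lrfl Lrfl
theorem f193470 : Led Lsl_ef (LP (LK LD1_c0 LD2_c55 LD3_c56)) = (LP (LK LD1_c0 LD2_c54 LD3_c52)) :=
  Lgr Lrot29 (Lpr_bt (f193462 IH) (Lpr_et (K10.f56047 IH) (Lpr_bt (f56049 IH) (Lpn (LP (LK LD1_c0 LD2_c54 LD3_c52))))))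
theorem f193474 : Led Lsl_et (LP (LK LD1_c0 LD2_c55 LD3_c56)) = (LP (LK LD1_c0 LD2_c54 LD3_c52)) :=
  Lgr Lrot87 (Lpr_ef (f193470 IH) (Lpn (LP (LK LD1_c0 LD2_c54 LD3_c52))))
theorem f34067 : Led Lsl_ct (LP (LK LD1_c1 LD2_c58 LD3_c3)) = (LP (LK LD1_c0 LD2_c55 LD3_c56)) :=
  Lre_c IH (LK LD1_c1 LD2_c58 LD3_c3) (LK LD1_c0 LD2_c55 LD3_c56) Lrfl Lrfl
theorem f53320 : Led Lsl_ct (LP (LK LD1_c0 LD2_c54 LD3_c52)) = (LP (LK LD1_c1 LD2_c56 LD3_c11)) :=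
  Lre_c IH (LK LD1_c0 LD2_c54 LD3_c52) (LK LD1_c1 LD2_c56 LD3_c11) Lrfl Lrfl
theorem f193476 : Led Lsl_ef (LP (LK LD1_c1 LD2_c58 LD3_c3)) = (LP (LK LD1_c1 LD2_c56 LD3_c11)) :=
  Lgr Lrot28 (Lpr_ct (f34067 IH) (Lpr_et (f193474 IH) (Lpr_ct (f53320 IH) (Lpn (LP (LK LD1_c1 LD2_c56 LD3_c11))))))
theorem f60507 : Led Lsl_at (LP (LK LD1_c3 LD2_c4 LD3_c5)) = (LP (LK LD1_c2 LD2_c49 LD3_c1)) :=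
  Lgr Lrot100 (Lpr_af (K1.f60501 IH) (Lpn (LP (LK LD1_c2 LD2_c49 LD3_c1))))
theorem f60628 : Led Lsl_ft (LP (LK LD1_c6 LD2_c14 LD3_c28)) = (LP (LK LD1_c3 LD2_c4 LD3_c5)) :=
  Lre_f IH (LK LD1_c6 LD2_c14 LD3_c28) (LK LD1_c3 LD2_c4 LD3_c5) Lrfl Lrfl
theorem f56606 : Led Lsl_gt (LP (LK LD1_c5 LD2_c46 LD3_c41)) = (LP (LK LD1_c2 LD2_c49 LD3_c1)) :=
  Lre_g IH (LK LD1_c5 LD2_c46 LD3_c41) (LK LD1_c2 LD2_c49 LD3_c1) Lrfl Lrfl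
theorem f60768 : Led Lsl_gt (LP (LK LD1_c6 LD2_c14 LD3_c28)) = (LP (LK LD1_c5 LD2_c46 LD3_c41)) :=
  Lgr Lrot5 (Lpr_ft (f60628 IH) (Lpr_at (f60507 IH) (Lpe (f56606 IH) (Lpn (LP (LK LD1_c5 LD2_c46 LD3_c41))))))
theorem f56604 : Led Lsl_et (LP (LK LD1_c1 LD2_c20 LD3_c36)) = (LP (LK LD1_c0 LD2_c37 LD3_c14)) :=
  Lre_e IH (LK LD1_c1 LD2_c20 LD3_c36) (LK LD1_c0 LD2_c37 LD3_c14) Lrfl Lrfl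
theorem f37872 : Led Lsl_et (LP (LK LD1_c0 LD2_c24 LD3_c39)) = (LP (LK LD1_c0 LD2_c54 LD3_c29)) :=
  Lre_e IH (LK LD1_c0 LD2_c24 LD3_c39) (LK LD1_c0 LD2_c54 LD3_c29) Lrfl Lrfl
theorem f59266 : Led Lsl_gt (LP (LK LD1_c0 LD2_c54 LD3_c29)) = (LP (LK LD1_c1 LD2_c55 LD3_c29)) :=
  Lre_g IH (LK LD1_c0 LD2_c54 LD3_c29) (LK LD1_c1 LD2_c55 LD3_c29) Lrfl Lrfl
theorem f59267 : Led Lsl_et (LP (LK LD1_c3 LD2_c57 LD3_c25)) = (LP (LK LD1_c1 LD2_c55 LD3_c29)) :=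
  Lre_e IH (LK LD1_c3 LD2_c57 LD3_c25) (LK LD1_c1 LD2_c55 LD3_c29) Lrfl Lrfl
theorem f59268 : Led Lsl_df (LP (LK LD1_c5 LD2_c46 LD3_c41)) = (LP (LK LD1_c3 LD2_c57 LD3_c25)) :=
  Lgr Lrot170 (Lpr_gt (f56606 IH) (Lpe (K1.f56605 IH) (Lpr_et (f56604 IH) (Lpe (K1.f56591 IH) (Lpr_dt (K1.f38631 IH) (Lpr_gt (K1.f59244 IH) (Lpe (K1.f37040 IH) (Lpr_et (f37872 IH) (Lpr_gt (f59266 IH) (Lpe (f59267 IH) (Lpn (LP (LK LD1_c3 LD2_c57 LD3_c25)))))))))))))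
theorem f101050 : Led Lsl_af (LP (LK LD1_c3 LD2_c3 LD3_c20)) = (LP (LK LD1_c2 LD2_c10 LD3_c38)) :=
  Lgr Lrot0 (Lpr_at (K9.f101040 IH) (Lpn (LP (LK LD1_c2 LD2_c10 LD3_c38))))
theorem f69366 : Led Lsl_gt (LP (LK LD1_c6 LD2_c13 LD3_c9)) = (LP (LK LD1_c3 LD2_c3 LD3_c20)) :=
  Lre_g IH (LK LD1_c6 LD2_c13 LD3_c9) (LK LD1_c3 LD2_c3 LD3_c20) Lrfl Lrfl
theorem f101264 : Led Lsl_ft (LP (LK LD1_c4 LD2_c23 LD3_c44)) = (LP (LK LD1_c2 LD2_c10 LD3_c38)) :=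
  Lre_f IH (LK LD1_c4 LD2_c23 LD3_c44) (LK LD1_c2 LD2_c10 LD3_c38) Lrfl Lrfl
theorem f101328 : Led Lsl_gf (LP (LK LD1_c6 LD2_c13 LD3_c9)) = (LP (LK LD1_c4 LD2_c23 LD3_c44)) :=
  Lgr Lrot47 (Lpr_gt (f69366 IH) (Lpr_af (f101050 IH) (Lpe (f101264 IH) (Lpn (LP (LK LD1_c4 LD2_c23 LD3_c44))))))
theorem f60250 : Led Lsl_et (LP (LK LD1_c0 LD2_c37 LD3_c14)) = (LP (LK LD1_c1 LD2_c20 LD3_c36)) :=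
  Lre_e IH (LK LD1_c0 LD2_c37 LD3_c14) (LK LD1_c1 LD2_c20 LD3_c36) Lrfl Lrfl
theorem f60775 : Led Lsl_et (LP (LK LD1_c5 LD2_c46 LD3_c37)) = (LP (LK LD1_c2 LD2_c48 LD3_c61)) :=
  Lre_e IH (LK LD1_c5 LD2_c46 LD3_c37) (LK LD1_c2 LD2_c48 LD3_c61) Lrfl Lrfl
theorem f69364 : Led Lsl_et (LP (LK LD1_c1 LD2_c27 LD3_c33)) = (LP (LK LD1_c0 LD2_c40 LD3_c30)) :=
  Lre_e IH (LK LD1_c1 LD2_c27 LD3_c33) (LK LD1_c0 LD2_c40 LD3_c30) Lrfl Lrfl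
theorem f69367 : Led Lsl_dt (LP (LK LD1_c5 LD2_c46 LD3_c37)) = (LP (LK LD1_c6 LD2_c13 LD3_c9)) :=
  Lgr Lrot136 (Lpr_et (f60775 IH) (Lpe (K10.f59293 IH) (Lpe (f60250 IH) (Lpr_dt (K4.f56595 IH) (Lpe (K2.f69359 IH) (Lpe (K1.f37996 IH) (Lpr_gf (K2.f69355 IH) (Lpe (f69364 IH) (Lpr_dt (K9.f69365 IH) (Lpe (f69366 IH) (Lpn (LP (LK LD1_c6 LD2_c13 LD3_c9)))))))))))))
theorem f42997 : Led Lsl_dt (LP (LK LD1_c2 LD2_c9 LD3_c16)) = (LP (LK LD1_c4 LD2_c23 LD3_c44)) :=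
  Lre_d IH (LK LD1_c2 LD2_c9 LD3_c16) (LK LD1_c4 LD2_c23 LD3_c44) Lrfl Lrfl
theorem f39200 : Led Lsl_et (LP (LK LD1_c2 LD2_c9 LD3_c16)) = (LP (LK LD1_c1 LD2_c1 LD3_c46)) :=
  Lre_e IH (LK LD1_c2 LD2_c9 LD3_c16) (LK LD1_c1 LD2_c1 LD3_c46) Lrfl Lrfl
theorem f101331 : Led Lsl_gt (LP (LK LD1_c1 LD2_c55 LD3_c29)) = (LP (LK LD1_c1 LD2_c1 LD3_c46)) :=
  Lgr Lrot131 (Lpe (f59267 IH) (Lpe (f59268 IH) (Lpe (f60768 IH) (Lpe (K1.f56457 IH) (Lpr_gf (K10.f60772 IH) (Lpe (f60775 IH) (Lpr_dt (f69367 IH) (Lpr_gf (f101328 IH) (Lpe (f42997 IH) (Lpr_et (f39200 IH) (Lpn (LP (LK LD1_c1 LD2_c1 LD3_c46)))))))))))))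
theorem f39891 : Led Lsl_gf (LP (LK LD1_c3 LD2_c57 LD3_c33)) = (LP (LK LD1_c2 LD2_c9 LD3_c15)) :=
  Lgr Lrot47 (Lpr_gt (f35667 IH) (Lpr_af (K1.f39879 IH) (Lpe (K1.f39265 IH) (Lpn (LP (LK LD1_c2 LD2_c9 LD3_c15))))))
theorem f193480 : Led Lsl_df (LP (LK LD1_c3 LD2_c57 LD3_c33)) = (LP (LK LD1_c1 LD2_c56 LD3_c11)) :=
  Lgr Lrot132 (Lpr_gf (f39891 IH) (Lpe (K9.f38919 IH) (Lpe (f101331 IH) (Lpe (f59267 IH) (Lpe (f59268 IH) (Lpe (f60768 IH) (Lpe (K1.f56457 IH) (Lpr_et (K1.f56468 IH) (Lpe (K10.f193441 IH) (Lpr_ef (f193476 IH) (Lpn (LP (LK LD1_c1 LD2_c56 LD3_c11)))))))))))))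
theorem f201326 : Led Lsl_gt (LP (LK LD1_c1 LD2_c18 LD3_c36)) = (LP (LK LD1_c1 LD2_c56 LD3_c11)) :=
  Lgr Lrot94 (Lpe (f164962 IH) (Lpr_gt (f201324 IH) (Lpr_dt (K9.f56559 IH) (Lpr_gt (K9.f174986 IH) (Lpr_dt (K10.f28469 IH) (Lpe (f39255 IH) (Lpe (f39256 IH) (Lpe (f35667 IH) (Lpr_df (f193480 IH) (Lpn (LP (LK LD1_c1 LD2_c56 LD3_c11))))))))))))
theorem f164742 : Led Lsl_bt (LP (LK LD1_c1 LD2_c18 LD3_c37)) = (LP (LK LD1_c0 LD2_c36 LD3_c14)) :=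
  Lre_b IH (LK LD1_c1 LD2_c18 LD3_c37) (LK LD1_c0 LD2_c36 LD3_c14) Lrfl Lrfl
theorem f3130 : Led Lsl_bt (LP (LK LD1_c0 LD2_c33 LD3_c23)) = (LP (LK LD1_c1 LD2_c12 LD3_c9)) :=
  Lre_b IH (LK LD1_c0 LD2_c33 LD3_c23) (LK LD1_c1 LD2_c12 LD3_c9) Lrfl Lrfl
theorem f164743 : Led Lsl_ef (LP (LK LD1_c1 LD2_c18 LD3_c37)) = (LP (LK LD1_c1 LD2_c12 LD3_c9)) :=
  Lgr Lrot29 (Lpr_bt (f164742 IH) (Lpr_et (K9.f164739 IH) (Lpr_bt (f3130 IH) (Lpn (LP (LK LD1_c1 LD2_c12 LD3_c9))))))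
theorem f164843 : Led Lsl_ct (LP (LK LD1_c1 LD2_c18 LD3_c37)) = (LP (LK LD1_c2 LD2_c44 LD3_c28)) :=
  Lre_c IH (LK LD1_c1 LD2_c18 LD3_c37) (LK LD1_c2 LD2_c44 LD3_c28) Lrfl Lrfl
theorem f164844 : Led Lsl_ct (LP (LK LD1_c2 LD2_c29 LD3_c55)) = (LP (LK LD1_c1 LD2_c12 LD3_c9)) :=
  Lre_c IH (LK LD1_c2 LD2_c29 LD3_c55) (LK LD1_c1 LD2_c12 LD3_c9) Lrfl Lrfl
theorem f164845 : Led Lsl_et (LP (LK LD1_c2 LD2_c44 LD3_c28)) = (LP (LK LD1_c2 LD2_c29 LD3_c55)) :=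
  Lgr Lrot158 (Lpe (f164843 IH) (Lpr_ef (f164743 IH) (Lpe (f164844 IH) (Lpn (LP (LK LD1_c2 LD2_c29 LD3_c55))))))
theorem f164853 : Led Lsl_bt (LP (LK LD1_c1 LD2_c18 LD3_c36)) = (LP (LK LD1_c2 LD2_c44 LD3_c28)) :=
  Lre_b IH (LK LD1_c1 LD2_c18 LD3_c36) (LK LD1_c2 LD2_c44 LD3_c28) Lrfl Lrfl
theorem f164854 : Led Lsl_bt (LP (LK LD1_c2 LD2_c29 LD3_c55)) = (LP (LK LD1_c1 LD2_c11 LD3_c60)) :=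
  Lre_b IH (LK LD1_c2 LD2_c29 LD3_c55) (LK LD1_c1 LD2_c11 LD3_c60) Lrfl Lrfl
theorem f164855 : Led Lsl_ef (LP (LK LD1_c1 LD2_c18 LD3_c36)) = (LP (LK LD1_c1 LD2_c11 LD3_c60)) :=
  Lgr Lrot29 (Lpr_bt (f164853 IH) (Lpr_et (f164845 IH) (Lpr_bt (f164854 IH) (Lpn (LP (LK LD1_c1 LD2_c11 LD3_c60))))))
theorem f164909 : Led Lsl_dt (LP (LK LD1_c1 LD2_c11 LD3_c60)) = (LP (LK LD1_c2 LD2_c29 LD3_c56)) :=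
  Lre_d IH (LK LD1_c1 LD2_c11 LD3_c60) (LK LD1_c2 LD2_c29 LD3_c56) Lrfl Lrfl
theorem f35666 : Led Lsl_dt (LP (LK LD1_c0 LD2_c54 LD3_c29)) = (LP (LK LD1_c1 LD2_c55 LD3_c32)) :=
  Lre_d IH (LK LD1_c0 LD2_c54 LD3_c29) (LK LD1_c1 LD2_c55 LD3_c32) Lrfl Lrfl
theorem f35665 : Led Lsl_et (LP (LK LD1_c0 LD2_c54 LD3_c29)) = (LP (LK LD1_c0 LD2_c24 LD3_c39)) :=
  Lre_e IH (LK LD1_c0 LD2_c54 LD3_c29) (LK LD1_c0 LD2_c24 LD3_c39) Lrfl Lrfl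
theorem f37036 : Led Lsl_et (LP (LK LD1_c1 LD2_c55 LD3_c41)) = (LP (LK LD1_c0 LD2_c54 LD3_c34)) :=
  Lre_e IH (LK LD1_c1 LD2_c55 LD3_c41) (LK LD1_c0 LD2_c54 LD3_c34) Lrfl Lrfl
theorem f36959 : Led Lsl_dt (LP (LK LD1_c1 LD2_c55 LD3_c41)) = (LP (LK LD1_c3 LD2_c57 LD3_c50)) :=
  Lre_d IH (LK LD1_c1 LD2_c55 LD3_c41) (LK LD1_c3 LD2_c57 LD3_c50) Lrfl Lrfl
theorem f201347 : Led Lsl_gf (LP (LK LD1_c2 LD2_c29 LD3_c56)) = (LP (LK LD1_c3 LD2_c57 LD3_c50)) :=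
  Lgr Lrot145 (Lpe (f164909 IH) (Lpe (f164855 IH) (Lpr_gt (f201326 IH) (Lpe (f193480 IH) (Lpr_gt (f35667 IH) (Lpe (f35666 IH) (Lpr_et (f35665 IH) (Lpr_gt (K1.f35549 IH) (Lpe (f37036 IH) (Lpr_dt (f36959 IH) (Lpn (LP (LK LD1_c3 LD2_c57 LD3_c50)))))))))))))
theorem f164953 : Led Lsl_dt (LP (LK LD1_c2 LD2_c29 LD3_c56)) = (LP (LK LD1_c1 LD2_c11 LD3_c60)) :=
  Lre_d IH (LK LD1_c2 LD2_c29 LD3_c56) (LK LD1_c1 LD2_c11 LD3_c60) Lrfl Lrfl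
theorem f31647 : Led Lsl_ct (LP (LK LD1_c1 LD2_c11 LD3_c60)) = (LP (LK LD1_c0 LD2_c33 LD3_c18)) :=
  Lre_c IH (LK LD1_c1 LD2_c11 LD3_c60) (LK LD1_c0 LD2_c33 LD3_c18) Lrfl Lrfl
theorem f31646 : Led Lsl_dt (LP (LK LD1_c0 LD2_c14 LD3_c58)) = (LP (LK LD1_c0 LD2_c33 LD3_c18)) :=
  Lre_d IH (LK LD1_c0 LD2_c14 LD3_c58) (LK LD1_c0 LD2_c33 LD3_c18) Lrfl Lrfl
theorem f53193 : Led Lsl_ct (LP (LK LD1_c0 LD2_c58 LD3_c36)) = (LP (LK LD1_c2 LD2_c3 LD3_c17)) :=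
  Lre_c IH (LK LD1_c0 LD2_c58 LD3_c36) (LK LD1_c2 LD2_c3 LD3_c17) Lrfl Lrfl
theorem f201349 : Led Lsl_gt (LP (LK LD1_c2 LD2_c3 LD3_c17)) = (LP (LK LD1_c1 LD2_c55 LD3_c41)) :=
  Lgr Lrot94 (Lpe (f53193 IH) (Lpr_gt (K9.f166417 IH) (Lpr_dt (K0.f27888 IH) (Lpe (f201311 IH) (Lpr_dt (f31646 IH) (Lpe (f31647 IH) (Lpe (f164953 IH) (Lpr_gf (f201347 IH) (Lpe (f36959 IH) (Lpn (LP (LK LD1_c1 LD2_c55 LD3_c41))))))))))))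
theorem f53192 : Led Lsl_bt (LP (LK LD1_c0 LD2_c58 LD3_c36)) = (LP (LK LD1_c0 LD2_c26 LD3_c42)) :=
  Lre_b IH (LK LD1_c0 LD2_c58 LD3_c36) (LK LD1_c0 LD2_c26 LD3_c42) Lrfl Lrfl
theorem f31575 : Led Lsl_af (LP (LK LD1_c0 LD2_c32 LD3_c2)) = (LP (LK LD1_c0 LD2_c55 LD3_c5)) :=
  Lgr Lrot0 (Lpr_at (K8.f31567 IH) (Lpn (LP (LK LD1_c0 LD2_c55 LD3_c5))))
theorem f31584 : Led Lsl_ft (LP (LK LD1_c0 LD2_c32 LD3_c2)) = (LP (LK LD1_c1 LD2_c9 LD3_c35)) :=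
  Lre_f IH (LK LD1_c0 LD2_c32 LD3_c2) (LK LD1_c1 LD2_c9 LD3_c35) Lrfl Lrfl
theorem f31585 : Led Lsl_at (LP (LK LD1_c1 LD2_c9 LD3_c35)) = (LP (LK LD1_c1 LD2_c56 LD3_c40)) :=
  Lgr Lrot66 (Lpe (f31584 IH) (Lpr_af (f31575 IH) (Lpe (K8.f28641 IH) (Lpn (LP (LK LD1_c1 LD2_c56 LD3_c40))))))
theorem f35653 : Led Lsl_at (LP (LK LD1_c1 LD2_c57 LD3_c7)) = (LP (LK LD1_c1 LD2_c26 LD3_c21)) :=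
  Lgr Lrot100 (Lpr_af (K1.f35649 IH) (Lpn (LP (LK LD1_c1 LD2_c26 LD3_c21))))
theorem f36207 : Led Lsl_ef (LP (LK LD1_c1 LD2_c9 LD3_c35)) = (LP (LK LD1_c1 LD2_c26 LD3_c21)) :=
  Lgr Lrot20 (Lpr_at (f31585 IH) (Lpr_et (K1.f36205 IH) (Lpr_at (f35653 IH) (Lpn (LP (LK LD1_c1 LD2_c26 LD3_c21))))))
theorem f70829 : Led Lsl_ct (LP (LK LD1_c1 LD2_c9 LD3_c35)) = (LP (LK LD1_c2 LD2_c10 LD3_c1)) :=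
  Lgr Lrot15 (Lpr_ef (f36207 IH) (Lpe (K1.f27253 IH) (Lpr_ef (K2.f70818 IH) (Lpn (LP (LK LD1_c2 LD2_c10 LD3_c1))))))
theorem f36925 : Led Lsl_et (LP (LK LD1_c0 LD2_c24 LD3_c61)) = (LP (LK LD1_c0 LD2_c55 LD3_c5)) :=
  Lgr Lrot74 (Lpr_bf (K1.f36921 IH) (Lpe (f35584 IH) (Lpr_bf (K8.f28642 IH) (Lpn (LP (LK LD1_c0 LD2_c55 LD3_c5))))))
theorem f36927 : Led Lsl_ef (LP (LK LD1_c0 LD2_c24 LD3_c61)) = (LP (LK LD1_c0 LD2_c55 LD3_c5)) :=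
  Lgr Lrot88 (Lpr_et (f36925 IH) (Lpn (LP (LK LD1_c0 LD2_c55 LD3_c5))))
theorem f35663 : Led Lsl_et (LP (LK LD1_c0 LD2_c54 LD3_c34)) = (LP (LK LD1_c1 LD2_c55 LD3_c41)) :=
  Lre_e IH (LK LD1_c0 LD2_c54 LD3_c34) (LK LD1_c1 LD2_c55 LD3_c41) Lrfl Lrfl
theorem f36938 : Led Lsl_cf (LP (LK LD1_c0 LD2_c55 LD3_c5)) = (LP (LK LD1_c1 LD2_c55 LD3_c41)) :=
  Lgr Lrot39 (Lpe (f36927 IH) (Lpr_ct (K1.f36931 IH) (Lpr_et (f35663 IH) (Lpn (LP (LK LD1_c1 LD2_c55 LD3_c41))))))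
theorem f36941 : Led Lsl_ct (LP (LK LD1_c0 LD2_c55 LD3_c5)) = (LP (LK LD1_c1 LD2_c55 LD3_c41)) :=
  Lgr Lrot59 (Lpr_cf (f36938 IH) (Lpn (LP (LK LD1_c1 LD2_c55 LD3_c41))))
theorem f166376 : Led Lsl_bt (LP (LK LD1_c0 LD2_c15 LD3_c2)) = (LP (LK LD1_c0 LD2_c33 LD3_c29)) :=
  Lre_b IH (LK LD1_c0 LD2_c15 LD3_c2) (LK LD1_c0 LD2_c33 LD3_c29) Lrfl Lrfl
theorem f201371 : Led Lsl_gf (LP (LK LD1_c0 LD2_c33 LD3_c29)) = (LP (LK LD1_c0 LD2_c27 LD3_c49)) :=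
  Lgr Lrot124 (Lpe (f166376 IH) (Lpr_ct (K9.f3773 IH) (Lpr_gt (K9.f166370 IH) (Lpr_cf (K2.f34992 IH) (Lpr_bt (K2.f32013 IH) (Lpe (K9.f166415 IH) (Lpr_ct (f53193 IH) (Lpr_gt (f201349 IH) (Lpe (f36941 IH) (Lpe (K8.f28642 IH) (Lpn (LP (LK LD1_c0 LD2_c27 LD3_c49)))))))))))))
theorem f3772 : Led Lsl_ct (LP (LK LD1_c0 LD2_c33 LD3_c29)) = (LP (LK LD1_c1 LD2_c12 LD3_c19)) :=
  Lre_c IH (LK LD1_c0 LD2_c33 LD3_c29) (LK LD1_c1 LD2_c12 LD3_c19) Lrfl Lrfl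
theorem f201373 : Led Lsl_gf (LP (LK LD1_c2 LD2_c10 LD3_c1)) = (LP (LK LD1_c1 LD2_c12 LD3_c19)) :=
  Lgr Lrot129 (Lpe (f70829 IH) (Lpr_bt (K2.f31592 IH) (Lpr_gt (K9.f53179 IH) (Lpe (f53192 IH) (Lpr_ct (f53193 IH) (Lpr_gt (f201349 IH) (Lpe (f36941 IH) (Lpe (K8.f28642 IH) (Lpe (f201371 IH) (Lpr_ct (f3772 IH) (Lpn (LP (LK LD1_c1 LD2_c12 LD3_c19)))))))))))))
theorem f201379 : Led Lsl_ct (LP (LK LD1_c2 LD2_c10 LD3_c1)) = (LP (LK LD1_c1 LD2_c9 LD3_c35)) :=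
  Lgr Lrot110 (Lpr_gf (f201373 IH) (Lpe (f3772 IH) (Lpr_gf (f201371 IH) (Lpe (K9.f27824 IH) (Lpe (f201311 IH) (Lpr_ct (K10.f3143 IH) (Lpr_gt (K10.f31622 IH) (Lpe (K0.f31542 IH) (Lpe (K1.f31544 IH) (Lpn (LP (LK LD1_c1 LD2_c9 LD3_c35))))))))))))
theorem f201403 : Led Lsl_ft (LP (LK LD1_c4 LD2_c25 LD3_c12)) = (LP (LK LD1_c2 LD2_c10 LD3_c0)) :=
  Lre_f IH (LK LD1_c4 LD2_c25 LD3_c12) (LK LD1_c2 LD2_c10 LD3_c0) Lrfl Lrfl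
theorem f31139 : Led Lsl_dt (LP (LK LD1_c1 LD2_c1 LD3_c3)) = (LP (LK LD1_c2 LD2_c7 LD3_c55)) :=
  Lre_d IH (LK LD1_c1 LD2_c1 LD3_c3) (LK LD1_c2 LD2_c7 LD3_c55) Lrfl Lrfl
theorem f36943 : Led Lsl_dt (LP (LK LD1_c3 LD2_c57 LD3_c50)) = (LP (LK LD1_c1 LD2_c55 LD3_c41)) :=
  Lre_d IH (LK LD1_c3 LD2_c57 LD3_c50) (LK LD1_c1 LD2_c55 LD3_c41) Lrfl Lrfl
theorem f36944 : Led Lsl_ct (LP (LK LD1_c7 LD2_c57 LD3_c4)) = (LP (LK LD1_c3 LD2_c57 LD3_c50)) :=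
  Lre_c IH (LK LD1_c7 LD2_c57 LD3_c4) (LK LD1_c3 LD2_c57 LD3_c50) Lrfl Lrfl
theorem f36945 : Led Lsl_dt (LP (LK LD1_c4 LD2_c20 LD3_c51)) = (LP (LK LD1_c7 LD2_c57 LD3_c4)) :=
  Lgr Lrot140 (Lpe (K9.f31191 IH) (Lpe (f31139 IH) (Lpe (K0.f31535 IH) (Lpe (K1.f31544 IH) (Lpr_ft (K10.f31547 IH) (Lpr_at (K8.f31567 IH) (Lpr_cf (f36938 IH) (Lpe (f36943 IH) (Lpe (f36944 IH) (Lpn (LP (LK LD1_c7 LD2_c57 LD3_c4))))))))))))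
theorem f201404 : Led Lsl_at (LP (LK LD1_c2 LD2_c10 LD3_c0)) = (LP (LK LD1_c3 LD2_c57 LD3_c50)) :=
  Lgr Lrot33 (Lpe (f201403 IH) (Lpr_dt (K2.f70817 IH) (Lpr_ct (f201379 IH) (Lpr_dt (K1.f31544 IH) (Lpr_ct (K0.f31535 IH) (Lpr_dt (f31139 IH) (Lpr_ct (K9.f31191 IH) (Lpr_dt (f36945 IH) (Lpr_ct (f36944 IH) (Lpn (LP (LK LD1_c3 LD2_c57 LD3_c50))))))))))))
theorem f80912 : Led Lsl_dt (LP (LK LD1_c1 LD2_c2 LD3_c7)) = (LP (LK LD1_c2 LD2_c10 LD3_c0)) :=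
  Lre_d IH (LK LD1_c1 LD2_c2 LD3_c7) (LK LD1_c2 LD2_c10 LD3_c0) Lrfl Lrfl
theorem f201411 : Led Lsl_af (LP (LK LD1_c1 LD2_c2 LD3_c7)) = (LP (LK LD1_c1 LD2_c55 LD3_c41)) :=
  Lgr Lrot117 (Lpr_dt (f80912 IH) (Lpr_at (f201404 IH) (Lpr_dt (f36943 IH) (Lpn (LP (LK LD1_c1 LD2_c55 LD3_c41))))))
theorem f201418 : Led Lsl_ct (LP (LK LD1_c1 LD2_c2 LD3_c7)) = (LP (LK LD1_c0 LD2_c32 LD3_c2)) :=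
  Lgr Lrot111 (Lpr_af (f201411 IH) (Lpe (f36941 IH) (Lpe (K8.f31567 IH) (Lpn (LP (LK LD1_c0 LD2_c32 LD3_c2))))))
theorem f171693 : Led Lsl_ct (LP (LK LD1_c0 LD2_c34 LD3_c13)) = (LP (LK LD1_c1 LD2_c13 LD3_c50)) :=
  Lre_c IH (LK LD1_c0 LD2_c34 LD3_c13) (LK LD1_c1 LD2_c13 LD3_c50) Lrfl Lrfl
theorem f201429 : Led Lsl_gf (LP (LK LD1_c1 LD2_c2 LD3_c7)) = (LP (LK LD1_c1 LD2_c13 LD3_c50)) :=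
  Lgr Lrot104 (Lpr_ct (f201418 IH) (Lpe (K8.f31040 IH) (Lpr_cf (K0.f31428 IH) (Lpr_gf (K9.f171653 IH) (Lpe (K9.f165184 IH) (Lpr_gf (K10.f187889 IH) (Lpe (K0.f28624 IH) (Lpe (K10.f193346 IH) (Lpr_ct (f171693 IH) (Lpn (LP (LK LD1_c1 LD2_c13 LD3_c50))))))))))))
theorem f171694 : Led Lsl_gt (LP (LK LD1_c2 LD2_c33 LD3_c42)) = (LP (LK LD1_c1 LD2_c13 LD3_c50)) :=
  Lre_g IH (LK LD1_c2 LD2_c33 LD3_c42) (LK LD1_c1 LD2_c13 LD3_c50) Lrfl Lrfl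
theorem f201433 : Led Lsl_ff (LP (LK LD1_c1 LD2_c55 LD3_c41)) = (LP (LK LD1_c2 LD2_c33 LD3_c42)) :=
  Lgr Lrot52 (Lpe (f201411 IH) (Lpr_gf (f201429 IH) (Lpe (f171694 IH) (Lpn (LP (LK LD1_c2 LD2_c33 LD3_c42))))))
theorem f201552 : Led Lsl_ft (LP (LK LD1_c1 LD2_c55 LD3_c41)) = (LP (LK LD1_c2 LD2_c33 LD3_c42)) :=
  Lgr Lrot48 (Lpr_ff (f201433 IH) (Lpn (LP (LK LD1_c2 LD2_c33 LD3_c42))))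
theorem f201557 : Led Lsl_cf (LP (LK LD1_c1 LD2_c56 LD3_c40)) = (LP (LK LD1_c2 LD2_c33 LD3_c42)) :=
  Lgr Lrot108 (Lpr_ft (K8.f28641 IH) (Lpr_ct (f36941 IH) (Lpr_ft (f201552 IH) (Lpn (LP (LK LD1_c2 LD2_c33 LD3_c42))))))
theorem f32017 : Led Lsl_gt (LP (LK LD1_c0 LD2_c27 LD3_c44)) = (LP (LK LD1_c1 LD2_c0 LD3_c51)) :=
  Lre_g IH (LK LD1_c0 LD2_c27 LD3_c44) (LK LD1_c1 LD2_c0 LD3_c51) Lrfl Lrfl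
theorem f32021 : Led Lsl_ct (LP (LK LD1_c1 LD2_c0 LD3_c51)) = (LP (LK LD1_c2 LD2_c7 LD3_c32)) :=
  Lre_c IH (LK LD1_c1 LD2_c0 LD3_c51) (LK LD1_c2 LD2_c7 LD3_c32) Lrfl Lrfl
theorem f201574 : Led Lsl_gt (LP (LK LD1_c2 LD2_c7 LD3_c32)) = (LP (LK LD1_c2 LD2_c33 LD3_c42)) :=
  Lgr Lrot150 (Lpe (f32021 IH) (Lpe (f32017 IH) (Lpe (K0.f28464 IH) (Lpr_gt (K10.f32069 IH) (Lpr_ct (K10.f32073 IH) (Lpr_gt (K10.f187897 IH) (Lpe (K0.f28691 IH) (Lpe (K1.f28639 IH) (Lpr_cf (f201557 IH) (Lpn (LP (LK LD1_c2 LD2_c33 LD3_c42))))))))))))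
theorem f32020 : Led Lsl_ct (LP (LK LD1_c2 LD2_c7 LD3_c32)) = (LP (LK LD1_c1 LD2_c0 LD3_c51)) :=
  Lre_c IH (LK LD1_c2 LD2_c7 LD3_c32) (LK LD1_c1 LD2_c0 LD3_c51) Lrfl Lrfl
theorem f32018 : Led Lsl_gf (LP (LK LD1_c1 LD2_c1 LD3_c0)) = (LP (LK LD1_c1 LD2_c0 LD3_c51)) :=
  Lgr Lrot76 (Lpr_af (K0.f32011 IH) (Lpe (K0.f32010 IH) (Lpr_gt (f32017 IH) (Lpn (LP (LK LD1_c1 LD2_c0 LD3_c51))))))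
theorem f171682 : Led Lsl_dt (LP (LK LD1_c0 LD2_c15 LD3_c17)) = (LP (LK LD1_c0 LD2_c34 LD3_c4)) :=
  Lre_d IH (LK LD1_c0 LD2_c15 LD3_c17) (LK LD1_c0 LD2_c34 LD3_c4) Lrfl Lrfl
theorem f181106 : Led Lsl_ct (LP (LK LD1_c0 LD2_c34 LD3_c4)) = (LP (LK LD1_c1 LD2_c13 LD3_c37)) :=
  Lre_c IH (LK LD1_c0 LD2_c34 LD3_c4) (LK LD1_c1 LD2_c13 LD3_c37) Lrfl Lrfl
theorem f181110 : Led Lsl_dt (LP (LK LD1_c2 LD2_c33 LD3_c22)) = (LP (LK LD1_c1 LD2_c13 LD3_c37)) :=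
  Lre_d IH (LK LD1_c2 LD2_c33 LD3_c22) (LK LD1_c1 LD2_c13 LD3_c37) Lrfl Lrfl
theorem f181111 : Led Lsl_gt (LP (LK LD1_c5 LD2_c12 LD3_c61)) = (LP (LK LD1_c2 LD2_c33 LD3_c22)) :=
  Lre_g IH (LK LD1_c5 LD2_c12 LD3_c61) (LK LD1_c2 LD2_c33 LD3_c22) Lrfl Lrfl
theorem f201580 : Led Lsl_df (LP (LK LD1_c5 LD2_c12 LD3_c61)) = (LP (LK LD1_c2 LD2_c33 LD3_c42)) :=
  Lgr Lrot153 (Lpr_gt (f181111 IH) (Lpr_dt (f181110 IH) (Lpe (f181106 IH) (Lpe (f171682 IH) (Lpr_gf (K10.f187889 IH) (Lpe (K0.f28624 IH) (Lpr_gf (f32018 IH) (Lpe (f32020 IH) (Lpr_gt (f201574 IH) (Lpn (LP (LK LD1_c2 LD2_c33 LD3_c42))))))))))))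
theorem f201633 : Led Lsl_ct (LP (LK LD1_c2 LD2_c33 LD3_c22)) = (LP (LK LD1_c5 LD2_c13 LD3_c0)) :=
  Lre_c IH (LK LD1_c2 LD2_c33 LD3_c22) (LK LD1_c5 LD2_c13 LD3_c0) Lrfl Lrfl
theorem f187927 : Led Lsl_ct (LP (LK LD1_c1 LD2_c13 LD3_c50)) = (LP (LK LD1_c0 LD2_c34 LD3_c13)) :=
  Lre_c IH (LK LD1_c1 LD2_c13 LD3_c50) (LK LD1_c0 LD2_c34 LD3_c13) Lrfl Lrfl
theorem f201634 : Led Lsl_gt (LP (LK LD1_c5 LD2_c13 LD3_c0)) = (LP (LK LD1_c4 LD2_c20 LD3_c16)) :=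
  Lgr Lrot150 (Lpe (f201633 IH) (Lpe (f181111 IH) (Lpr_df (f201580 IH) (Lpr_gt (f171694 IH) (Lpr_ct (f187927 IH) (Lpr_gt (K10.f193353 IH) (Lpr_ct (K0.f31721 IH) (Lpe (K0.f31988 IH) (Lpe (K0.f31991 IH) (Lpn (LP (LK LD1_c4 LD2_c20 LD3_c16))))))))))))
theorem f31732 : Led Lsl_ct (LP (LK LD1_c4 LD2_c20 LD3_c43)) = (LP (LK LD1_c2 LD2_c7 LD3_c49)) :=
  Lre_c IH (LK LD1_c4 LD2_c20 LD3_c43) (LK LD1_c2 LD2_c7 LD3_c49) Lrfl Lrfl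
theorem f31803 : Led Lsl_dt (LP (LK LD1_c4 LD2_c20 LD3_c0)) = (LP (LK LD1_c4 LD2_c20 LD3_c43)) :=
  Lgr Lrot173 (Lpe (K0.f31802 IH) (Lpe (K0.f28488 IH) (Lpe (K0.f28480 IH) (Lpe (K0.f28485 IH) (Lpe (K0.f31801 IH) (Lpe (K0.f31768 IH) (Lpr_cf (K0.f31793 IH) (Lpe (K0.f27893 IH) (Lpe (K0.f27891 IH) (Lpe (K0.f27882 IH) (Lpe (K0.f27889 IH) (Lpe (K0.f27888 IH) (Lpe (K0.f28651 IH) (Lpe (K0.f28653 IH) (Lpe (f31732 IH) (Lpn (LP (LK LD1_c4 LD2_c20 LD3_c43))))))))))))))))))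
theorem f31722 : Led Lsl_dt (LP (LK LD1_c1 LD2_c0 LD3_c52)) = (LP (LK LD1_c2 LD2_c7 LD3_c35)) :=
  Lre_d IH (LK LD1_c1 LD2_c0 LD3_c52) (LK LD1_c2 LD2_c7 LD3_c35) Lrfl Lrfl
theorem f31723 : Led Lsl_ct (LP (LK LD1_c2 LD2_c7 LD3_c35)) = (LP (LK LD1_c4 LD2_c20 LD3_c16)) :=
  Lre_c IH (LK LD1_c2 LD2_c7 LD3_c35) (LK LD1_c4 LD2_c20 LD3_c16) Lrfl Lrfl
theorem f31724 : Led Lsl_ct (LP (LK LD1_c4 LD2_c20 LD3_c28)) = (LP (LK LD1_c2 LD2_c7 LD3_c42)) :=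
  Lre_c IH (LK LD1_c4 LD2_c20 LD3_c28) (LK LD1_c2 LD2_c7 LD3_c42) Lrfl Lrfl
theorem f31725 : Led Lsl_dt (LP (LK LD1_c4 LD2_c20 LD3_c16)) = (LP (LK LD1_c4 LD2_c20 LD3_c28)) :=
  Lgr Lrot173 (Lpe (f31723 IH) (Lpe (f31722 IH) (Lpe (K0.f31721 IH) (Lpe (K0.f28464 IH) (Lpe (K0.f31706 IH) (Lpe (K0.f31707 IH) (Lpe (K0.f31708 IH) (Lpe (K0.f31709 IH) (Lpr_cf (K0.f31711 IH) (Lpe (K0.f31710 IH) (Lpe (K0.f28632 IH) (Lpe (K0.f28638 IH) (Lpe (K0.f28622 IH) (Lpe (K10.f28628 IH) (Lpe (f31724 IH) (Lpn (LP (LK LD1_c4 LD2_c20 LD3_c28))))))))))))))))))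
theorem f31832 : Led Lsl_at (LP (LK LD1_c4 LD2_c20 LD3_c43)) = (LP (LK LD1_c4 LD2_c20 LD3_c16)) :=
  Lgr Lrot51 (Lpe (f31803 IH) (Lpr_af (K0.f31813 IH) (Lpe (f31725 IH) (Lpn (LP (LK LD1_c4 LD2_c20 LD3_c16))))))
theorem f31733 : Led Lsl_ft (LP (LK LD1_c4 LD2_c19 LD3_c61)) = (LP (LK LD1_c4 LD2_c20 LD3_c43)) :=
  Lgr Lrot4 (Lpr_cf (K0.f31711 IH) (Lpe (K0.f31731 IH) (Lpe (f31732 IH) (Lpn (LP (LK LD1_c4 LD2_c20 LD3_c43))))))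
theorem f201636 : Led Lsl_gf (LP (LK LD1_c5 LD2_c13 LD3_c0)) = (LP (LK LD1_c4 LD2_c19 LD3_c61)) :=
  Lgr Lrot47 (Lpr_gt (f201634 IH) (Lpe (f31832 IH) (Lpe (f31733 IH) (Lpn (LP (LK LD1_c4 LD2_c19 LD3_c61))))))
theorem f31741 : Led Lsl_dt (LP (LK LD1_c2 LD2_c7 LD3_c28)) = (LP (LK LD1_c4 LD2_c19 LD3_c61)) :=
  Lre_d IH (LK LD1_c2 LD2_c7 LD3_c28) (LK LD1_c4 LD2_c19 LD3_c61) Lrfl Lrfl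
theorem f31742 : Led Lsl_gt (LP (LK LD1_c4 LD2_c19 LD3_c59)) = (LP (LK LD1_c2 LD2_c7 LD3_c28)) :=
  Lre_g IH (LK LD1_c4 LD2_c19 LD3_c59) (LK LD1_c2 LD2_c7 LD3_c28) Lrfl Lrfl
theorem f33048 : Led Lsl_gt (LP (LK LD1_c1 LD2_c14 LD3_c46)) = (LP (LK LD1_c2 LD2_c35 LD3_c27)) :=
  Lre_g IH (LK LD1_c1 LD2_c14 LD3_c46) (LK LD1_c2 LD2_c35 LD3_c27) Lrfl Lrfl
theorem f32964 : Led Lsl_bt (LP (LK LD1_c5 LD2_c17 LD3_c27)) = (LP (LK LD1_c10 LD2_c24 LD3_c26)) :=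
  Lre_b IH (LK LD1_c5 LD2_c17 LD3_c27) (LK LD1_c10 LD2_c24 LD3_c26) Lrfl Lrfl
theorem f31849 : Led Lsl_bt (LP (LK LD1_c8 LD2_c37 LD3_c60)) = (LP (LK LD1_c4 LD2_c20 LD3_c0)) :=
  Lre_b IH (LK LD1_c8 LD2_c37 LD3_c60) (LK LD1_c4 LD2_c20 LD3_c0) Lrfl Lrfl
theorem f32965 : Led Lsl_ct (LP (LK LD1_c10 LD2_c24 LD3_c26)) = (LP (LK LD1_c8 LD2_c37 LD3_c60)) :=
  Lgr Lrot83 (Lpe (f32964 IH) (Lpe (K10.f32963 IH) (Lpr_bf (K10.f32102 IH) (Lpe (K10.f31828 IH) (Lpe (f31849 IH) (Lpn (LP (LK LD1_c8 LD2_c37 LD3_c60))))))))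
theorem f32981 : Led Lsl_ft (LP (LK LD1_c5 LD2_c17 LD3_c25)) = (LP (LK LD1_c10 LD2_c24 LD3_c26)) :=
  Lre_f IH (LK LD1_c5 LD2_c17 LD3_c25) (LK LD1_c10 LD2_c24 LD3_c26) Lrfl Lrfl
theorem f32982 : Led Lsl_ft (LP (LK LD1_c8 LD2_c37 LD3_c60)) = (LP (LK LD1_c4 LD2_c19 LD3_c60)) :=
  Lre_f IH (LK LD1_c8 LD2_c37 LD3_c60) (LK LD1_c4 LD2_c19 LD3_c60) Lrfl Lrfl
theorem f32983 : Led Lsl_cf (LP (LK LD1_c5 LD2_c17 LD3_c25)) = (LP (LK LD1_c4 LD2_c19 LD3_c60)) :=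
  Lgr Lrot108 (Lpr_ft (f32981 IH) (Lpr_ct (f32965 IH) (Lpr_ft (f32982 IH) (Lpn (LP (LK LD1_c4 LD2_c19 LD3_c60))))))
theorem f32997 : Led Lsl_ct (LP (LK LD1_c5 LD2_c17 LD3_c25)) = (LP (LK LD1_c4 LD2_c19 LD3_c60)) :=
  Lgr Lrot59 (Lpr_cf (f32983 IH) (Lpn (LP (LK LD1_c4 LD2_c19 LD3_c60))))
theorem f33026 : Led Lsl_bt (LP (LK LD1_c2 LD2_c35 LD3_c29)) = (LP (LK LD1_c5 LD2_c17 LD3_c25)) :=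
  Lre_b IH (LK LD1_c2 LD2_c35 LD3_c29) (LK LD1_c5 LD2_c17 LD3_c25) Lrfl Lrfl
theorem f31856 : Led Lsl_bt (LP (LK LD1_c4 LD2_c19 LD3_c60)) = (LP (LK LD1_c2 LD2_c7 LD3_c28)) :=
  Lre_b IH (LK LD1_c4 LD2_c19 LD3_c60) (LK LD1_c2 LD2_c7 LD3_c28) Lrfl Lrfl
theorem f33028 : Led Lsl_bf (LP (LK LD1_c1 LD2_c14 LD3_c46)) = (LP (LK LD1_c1 LD2_c0 LD3_c47)) :=
  Lgr Lrot90 (Lpr_ct (K10.f33027 IH) (Lpr_bt (f33026 IH) (Lpr_ct (f32997 IH) (Lpr_bt (f31856 IH) (Lpr_ct (K0.f31708 IH) (Lpn (LP (LK LD1_c1 LD2_c0 LD3_c47))))))))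
theorem f31744 : Led Lsl_ct (LP (LK LD1_c1 LD2_c0 LD3_c47)) = (LP (LK LD1_c2 LD2_c7 LD3_c28)) :=
  Lre_c IH (LK LD1_c1 LD2_c0 LD3_c47) (LK LD1_c2 LD2_c7 LD3_c28) Lrfl Lrfl
theorem f190095 : Led Lsl_ct (LP (LK LD1_c2 LD2_c7 LD3_c53)) = (LP (LK LD1_c4 LD2_c19 LD3_c59)) :=
  Lgr Lrot91 (Lpr_gf (K10.f31421 IH) (Lpe (K10.f31204 IH) (Lpr_ct (K10.f28694 IH) (Lpr_gf (K10.f187977 IH) (Lpe (K10.f182537 IH) (Lpr_bt (K10.f190088 IH) (Lpe (f33048 IH) (Lpr_bf (f33028 IH) (Lpr_ct (f31744 IH) (Lpe (f31742 IH) (Lpn (LP (LK LD1_c4 LD2_c19 LD3_c59)))))))))))))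
theorem f31416 : Led Lsl_dt (LP (LK LD1_c1 LD2_c1 LD3_c2)) = (LP (LK LD1_c0 LD2_c27 LD3_c52)) :=
  Lre_d IH (LK LD1_c1 LD2_c1 LD3_c2) (LK LD1_c0 LD2_c27 LD3_c52) Lrfl Lrfl
theorem f180205 : Led Lsl_dt (LP (LK LD1_c1 LD2_c0 LD3_c49)) = (LP (LK LD1_c2 LD2_c7 LD3_c30)) :=
  Lre_d IH (LK LD1_c1 LD2_c0 LD3_c49) (LK LD1_c2 LD2_c7 LD3_c30) Lrfl Lrfl
theorem f182038 : Led Lsl_ct (LP (LK LD1_c4 LD2_c20 LD3_c2)) = (LP (LK LD1_c2 LD2_c7 LD3_c30)) :=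
  Lre_c IH (LK LD1_c4 LD2_c20 LD3_c2) (LK LD1_c2 LD2_c7 LD3_c30) Lrfl Lrfl
theorem f201650 : Led Lsl_dt (LP (LK LD1_c5 LD2_c13 LD3_c0)) = (LP (LK LD1_c4 LD2_c20 LD3_c2)) :=
  Lgr Lrot105 (Lpr_gf (f201636 IH) (Lpe (f31741 IH) (Lpe (f31742 IH) (Lpe (f190095 IH) (Lpr_gt (K10.f31132 IH) (Lpr_dt (f31416 IH) (Lpe (K10.f187901 IH) (Lpr_dt (f180205 IH) (Lpe (f182038 IH) (Lpn (LP (LK LD1_c4 LD2_c20 LD3_c2))))))))))))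
theorem f201584 : Led Lsl_dt (LP (LK LD1_c1 LD2_c13 LD3_c37)) = (LP (LK LD1_c2 LD2_c33 LD3_c22)) :=
  Lre_d IH (LK LD1_c1 LD2_c13 LD3_c37) (LK LD1_c2 LD2_c33 LD3_c22) Lrfl Lrfl
theorem f171657 : Led Lsl_dt (LP (LK LD1_c1 LD2_c13 LD3_c33)) = (LP (LK LD1_c0 LD2_c34 LD3_c3)) :=
  Lre_d IH (LK LD1_c1 LD2_c13 LD3_c33) (LK LD1_c0 LD2_c34 LD3_c3) Lrfl Lrfl
theorem f171676 : Led Lsl_ct (LP (LK LD1_c2 LD2_c33 LD3_c13)) = (LP (LK LD1_c1 LD2_c13 LD3_c33)) :=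
  Lre_c IH (LK LD1_c2 LD2_c33 LD3_c13) (LK LD1_c1 LD2_c13 LD3_c33) Lrfl Lrfl
theorem f171677 : Led Lsl_dt (LP (LK LD1_c5 LD2_c12 LD3_c45)) = (LP (LK LD1_c2 LD2_c33 LD3_c13)) :=
  Lre_d IH (LK LD1_c5 LD2_c12 LD3_c45) (LK LD1_c2 LD2_c33 LD3_c13) Lrfl Lrfl
theorem f180219 : Led Lsl_dt (LP (LK LD1_c2 LD2_c7 LD3_c30)) = (LP (LK LD1_c1 LD2_c0 LD3_c49)) :=
  Lre_d IH (LK LD1_c2 LD2_c7 LD3_c30) (LK LD1_c1 LD2_c0 LD3_c49) Lrfl Lrfl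
theorem f32070 : Led Lsl_dt (LP (LK LD1_c0 LD2_c27 LD3_c43)) = (LP (LK LD1_c1 LD2_c0 LD3_c50)) :=
  Lre_d IH (LK LD1_c0 LD2_c27 LD3_c43) (LK LD1_c1 LD2_c0 LD3_c50) Lrfl Lrfl
theorem f32071 : Led Lsl_ct (LP (LK LD1_c1 LD2_c0 LD3_c50)) = (LP (LK LD1_c2 LD2_c7 LD3_c31)) :=
  Lre_c IH (LK LD1_c1 LD2_c0 LD3_c50) (LK LD1_c2 LD2_c7 LD3_c31) Lrfl Lrfl
theorem f180141 : Led Lsl_dt (LP (LK LD1_c2 LD2_c7 LD3_c31)) = (LP (LK LD1_c4 LD2_c20 LD3_c5)) :=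
  Lre_d IH (LK LD1_c2 LD2_c7 LD3_c31) (LK LD1_c4 LD2_c20 LD3_c5) Lrfl Lrfl
theorem f201657 : Led Lsl_cf (LP (LK LD1_c5 LD2_c12 LD3_c45)) = (LP (LK LD1_c4 LD2_c20 LD3_c5)) :=
  Lgr Lrot55 (Lpr_dt (f171677 IH) (Lpr_ct (f171676 IH) (Lpr_dt (f171657 IH) (Lpr_ct (K10.f171661 IH) (Lpr_dt (f171682 IH) (Lpr_ct (f181106 IH) (Lpr_dt (f201584 IH) (Lpr_ct (f201633 IH) (Lpr_dt (f201650 IH) (Lpr_ct (f182038 IH) (Lpr_dt (f180219 IH) (Lpr_ct (K10.f32093 IH) (Lpr_dt (f32070 IH) (Lpr_ct (f32071 IH) (Lpr_dt (f180141 IH) (Lpn (LP (LK LD1_c4 LD2_c20 LD3_c5))))))))))))))))))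
theorem f180145 : Led Lsl_ct (LP (LK LD1_c2 LD2_c7 LD3_c31)) = (LP (LK LD1_c1 LD2_c0 LD3_c50)) :=
  Lre_c IH (LK LD1_c2 LD2_c7 LD3_c31) (LK LD1_c1 LD2_c0 LD3_c50) Lrfl Lrfl
theorem f180135 : Led Lsl_dt (LP (LK LD1_c4 LD2_c20 LD3_c5)) = (LP (LK LD1_c2 LD2_c7 LD3_c31)) :=
  Lre_d IH (LK LD1_c4 LD2_c20 LD3_c5) (LK LD1_c2 LD2_c7 LD3_c31) Lrfl Lrfl
theorem f201435 : Led Lsl_gt (LP (LK LD1_c2 LD2_c10 LD3_c0)) = (LP (LK LD1_c4 LD2_c20 LD3_c5)) :=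
  Lgr Lrot49 (Lpe (f80912 IH) (Lpr_gf (f201429 IH) (Lpe (f171693 IH) (Lpr_gt (K10.f193353 IH) (Lpr_dt (K9.f31999 IH) (Lpr_gt (K10.f32069 IH) (Lpr_dt (f32070 IH) (Lpe (f180145 IH) (Lpe (f180135 IH) (Lpn (LP (LK LD1_c4 LD2_c20 LD3_c5))))))))))))
theorem f201546 : Led Lsl_at (LP (LK LD1_c2 LD2_c10 LD3_c1)) = (LP (LK LD1_c2 LD2_c33 LD3_c42)) :=
  Lgr Lrot66 (Lpe (K2.f70833 IH) (Lpr_af (f201411 IH) (Lpr_ff (f201433 IH) (Lpn (LP (LK LD1_c2 LD2_c33 LD3_c42))))))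
theorem f201578 : Led Lsl_gf (LP (LK LD1_c2 LD2_c7 LD3_c32)) = (LP (LK LD1_c1 LD2_c2 LD3_c7)) :=
  Lgr Lrot47 (Lpr_gt (f201574 IH) (Lpe (f201546 IH) (Lpe (K2.f70833 IH) (Lpn (LP (LK LD1_c1 LD2_c2 LD3_c7))))))
theorem f31719 : Led Lsl_ct (LP (LK LD1_c4 LD2_c19 LD3_c61)) = (LP (LK LD1_c4 LD2_c20 LD3_c45)) :=
  Lgr Lrot59 (Lpr_cf (K0.f31711 IH) (Lpn (LP (LK LD1_c4 LD2_c20 LD3_c45))))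
theorem f201731 : Led Lsl_gt (LP (LK LD1_c5 LD2_c12 LD3_c45)) = (LP (LK LD1_c4 LD2_c19 LD3_c61)) :=
  Lgr Lrot150 (Lpr_cf (f201657 IH) (Lpe (f201435 IH) (Lpe (f80912 IH) (Lpe (f201578 IH) (Lpr_ct (f32020 IH) (Lpe (f32018 IH) (Lpr_ct (K0.f28632 IH) (Lpe (K0.f28644 IH) (Lpe (f31719 IH) (Lpn (LP (LK LD1_c4 LD2_c19 LD3_c61))))))))))))
theorem f31789 : Led Lsl_ft (LP (LK LD1_c4 LD2_c20 LD3_c18)) = (LP (LK LD1_c2 LD2_c7 LD3_c35)) :=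
  Lre_f IH (LK LD1_c4 LD2_c20 LD3_c18) (LK LD1_c2 LD2_c7 LD3_c35) Lrfl Lrfl
theorem f31808 : Led Lsl_ft (LP (LK LD1_c4 LD2_c20 LD3_c16)) = (LP (LK LD1_c4 LD2_c20 LD3_c27)) :=
  Lgr Lrot4 (Lpe (f31723 IH) (Lpe (f31789 IH) (Lpr_cf (K0.f31793 IH) (Lpn (LP (LK LD1_c4 LD2_c20 LD3_c27))))))
theorem f201733 : Led Lsl_gf (LP (LK LD1_c5 LD2_c12 LD3_c45)) = (LP (LK LD1_c4 LD2_c20 LD3_c16)) :=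
  Lgr Lrot47 (Lpr_gt (f201731 IH) (Lpr_af (K0.f31861 IH) (Lpe (f31808 IH) (Lpn (LP (LK LD1_c4 LD2_c20 LD3_c16))))))
theorem f201659 : Led Lsl_df (LP (LK LD1_c5 LD2_c13 LD3_c0)) = (LP (LK LD1_c4 LD2_c20 LD3_c2)) :=
  Lgr Lrot38 (Lpr_dt (f201650 IH) (Lpn (LP (LK LD1_c4 LD2_c20 LD3_c2))))
theorem f201638 : Led Lsl_ct (LP (LK LD1_c5 LD2_c13 LD3_c0)) = (LP (LK LD1_c2 LD2_c33 LD3_c22)) :=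
  Lre_c IH (LK LD1_c5 LD2_c13 LD3_c0) (LK LD1_c2 LD2_c33 LD3_c22) Lrfl Lrfl
theorem f171680 : Led Lsl_ct (LP (LK LD1_c1 LD2_c13 LD3_c37)) = (LP (LK LD1_c0 LD2_c34 LD3_c4)) :=
  Lre_c IH (LK LD1_c1 LD2_c13 LD3_c37) (LK LD1_c0 LD2_c34 LD3_c4) Lrfl Lrfl
theorem f171664 : Led Lsl_dt (LP (LK LD1_c0 LD2_c34 LD3_c3)) = (LP (LK LD1_c1 LD2_c13 LD3_c33)) :=
  Lre_d IH (LK LD1_c0 LD2_c34 LD3_c3) (LK LD1_c1 LD2_c13 LD3_c33) Lrfl Lrfl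
theorem f171678 : Led Lsl_ct (LP (LK LD1_c1 LD2_c13 LD3_c33)) = (LP (LK LD1_c2 LD2_c33 LD3_c13)) :=
  Lre_c IH (LK LD1_c1 LD2_c13 LD3_c33) (LK LD1_c2 LD2_c33 LD3_c13) Lrfl Lrfl
theorem f191122 : Led Lsl_dt (LP (LK LD1_c2 LD2_c33 LD3_c13)) = (LP (LK LD1_c5 LD2_c12 LD3_c45)) :=
  Lre_d IH (LK LD1_c2 LD2_c33 LD3_c13) (LK LD1_c5 LD2_c12 LD3_c45) Lrfl Lrfl
theorem f187905 : Led Lsl_ct (LP (LK LD1_c2 LD2_c7 LD3_c30)) = (LP (LK LD1_c4 LD2_c20 LD3_c2)) :=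
  Lre_c IH (LK LD1_c2 LD2_c7 LD3_c30) (LK LD1_c4 LD2_c20 LD3_c2) Lrfl Lrfl
theorem f34776 : Led Lsl_dt (LP (LK LD1_c1 LD2_c0 LD3_c50)) = (LP (LK LD1_c0 LD2_c27 LD3_c43)) :=
  Lre_d IH (LK LD1_c1 LD2_c0 LD3_c50) (LK LD1_c0 LD2_c27 LD3_c43) Lrfl Lrfl
theorem f201678 : Led Lsl_ct (LP (LK LD1_c5 LD2_c12 LD3_c45)) = (LP (LK LD1_c4 LD2_c20 LD3_c5)) :=
  Lgr Lrot176 (Lpe (f191122 IH) (Lpe (f171678 IH) (Lpe (f171664 IH) (Lpe (K9.f165184 IH) (Lpe (K10.f171679 IH) (Lpe (f171680 IH) (Lpe (f181110 IH) (Lpe (f201638 IH) (Lpr_df (f201659 IH) (Lpe (f187905 IH) (Lpe (f180205 IH) (Lpe (K10.f32073 IH) (Lpe (f34776 IH) (Lpe (f180145 IH) (Lpe (f180135 IH) (Lpn (LP (LK LD1_c4 LD2_c20 LD3_c5))))))))))))))))))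
theorem f182558 : Led Lsl_bt (LP (LK LD1_c1 LD2_c59 LD3_c51)) = (LP (LK LD1_c4 LD2_c5 LD3_c17)) :=
  Lre_b IH (LK LD1_c1 LD2_c59 LD3_c51) (LK LD1_c4 LD2_c5 LD3_c17) Lrfl Lrfl
theorem f182553 : Led Lsl_ct (LP (LK LD1_c1 LD2_c59 LD3_c51)) = (LP (LK LD1_c4 LD2_c5 LD3_c18)) :=
  Lre_c IH (LK LD1_c1 LD2_c59 LD3_c51) (LK LD1_c4 LD2_c5 LD3_c18) Lrfl Lrfl
theorem f182554 : Led Lsl_gt (LP (LK LD1_c4 LD2_c5 LD3_c18)) = (LP (LK LD1_c8 LD2_c11 LD3_c25)) :=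
  Lre_g IH (LK LD1_c4 LD2_c5 LD3_c18) (LK LD1_c8 LD2_c11 LD3_c25) Lrfl Lrfl
theorem f191190 : Led Lsl_cf (LP (LK LD1_c8 LD2_c11 LD3_c25)) = (LP (LK LD1_c4 LD2_c7 LD3_c52)) :=
  Lgr Lrot58 (Lpe (f182554 IH) (Lpe (f182553 IH) (Lpr_bt (f182558 IH) (Lpe (K10.f191100 IH) (Lpe (K10.f54059 IH) (Lpr_ct (K10.f54061 IH) (Lpr_gf (K10.f191177 IH) (Lpe (K10.f8551 IH) (Lpe (K10.f191183 IH) (Lpe (f50371 IH) (Lpn (LP (LK LD1_c4 LD2_c7 LD3_c52)))))))))))))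
theorem f191208 : Led Lsl_ft (LP (LK LD1_c8 LD2_c11 LD3_c25)) = (LP (LK LD1_c4 LD2_c7 LD3_c51)) :=
  Lgr Lrot4 (Lpr_cf (f191190 IH) (Lpe (K9.f49233 IH) (Lpe (K9.f49241 IH) (Lpn (LP (LK LD1_c4 LD2_c7 LD3_c51))))))
theorem f30867 : Led Lsl_ct (LP (LK LD1_c4 LD2_c21 LD3_c0)) = (LP (LK LD1_c2 LD2_c8 LD3_c0)) :=
  Lre_c IH (LK LD1_c4 LD2_c21 LD3_c0) (LK LD1_c2 LD2_c8 LD3_c0) Lrfl Lrfl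
theorem f49227 : Led Lsl_ct (LP (LK LD1_c2 LD2_c1 LD3_c16)) = (LP (LK LD1_c4 LD2_c7 LD3_c51)) :=
  Lre_c IH (LK LD1_c2 LD2_c1 LD3_c16) (LK LD1_c4 LD2_c7 LD3_c51) Lrfl Lrfl
theorem f50610 : Led Lsl_af (LP (LK LD1_c4 LD2_c21 LD3_c0)) = (LP (LK LD1_c4 LD2_c7 LD3_c51)) :=
  Lgr Lrot68 (Lpr_ct (f30867 IH) (Lpr_at (K9.f50606 IH) (Lpr_ct (f49227 IH) (Lpn (LP (LK LD1_c4 LD2_c7 LD3_c51))))))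
theorem f31020 : Led Lsl_ft (LP (LK LD1_c4 LD2_c21 LD3_c0)) = (LP (LK LD1_c8 LD2_c39 LD3_c47)) :=
  Lre_f IH (LK LD1_c4 LD2_c21 LD3_c0) (LK LD1_c8 LD2_c39 LD3_c47) Lrfl Lrfl
theorem f191212 : Led Lsl_af (LP (LK LD1_c8 LD2_c11 LD3_c25)) = (LP (LK LD1_c8 LD2_c39 LD3_c47)) :=
  Lgr Lrot45 (Lpr_ft (f191208 IH) (Lpe (f50610 IH) (Lpr_ft (f31020 IH) (Lpn (LP (LK LD1_c8 LD2_c39 LD3_c47))))))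
theorem f191273 : Led Lsl_gf (LP (LK LD1_c4 LD2_c5 LD3_c18)) = (LP (LK LD1_c4 LD2_c21 LD3_c0)) :=
  Lgr Lrot47 (Lpr_gt (f182554 IH) (Lpr_af (f191212 IH) (Lpe (f31020 IH) (Lpn (LP (LK LD1_c4 LD2_c21 LD3_c0))))))
theorem f54037 : Led Lsl_at (LP (LK LD1_c2 LD2_c35 LD3_c13)) = (LP (LK LD1_c1 LD2_c14 LD3_c46)) :=
  Lre_a IH (LK LD1_c2 LD2_c35 LD3_c13) (LK LD1_c1 LD2_c14 LD3_c46) Lrfl Lrfl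
theorem f32078 : Led Lsl_bt (LP (LK LD1_c1 LD2_c14 LD3_c46)) = (LP (LK LD1_c1 LD2_c0 LD3_c47)) :=
  Lgr Lrot95 (Lpe (K9.f32077 IH) (Lpr_bf (K0.f32063 IH) (Lpe (K0.f31707 IH) (Lpn (LP (LK LD1_c1 LD2_c0 LD3_c47))))))
theorem f32040 : Led Lsl_ft (LP (LK LD1_c1 LD2_c0 LD3_c56)) = (LP (LK LD1_c2 LD2_c7 LD3_c42)) :=
  Lre_f IH (LK LD1_c1 LD2_c0 LD3_c56) (LK LD1_c2 LD2_c7 LD3_c42) Lrfl Lrfl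
theorem f32041 : Led Lsl_ft (LP (LK LD1_c2 LD2_c7 LD3_c29)) = (LP (LK LD1_c1 LD2_c0 LD3_c47)) :=
  Lre_f IH (LK LD1_c2 LD2_c7 LD3_c29) (LK LD1_c1 LD2_c0 LD3_c47) Lrfl Lrfl
theorem f32042 : Led Lsl_af (LP (LK LD1_c1 LD2_c0 LD3_c56)) = (LP (LK LD1_c1 LD2_c0 LD3_c47)) :=
  Lgr Lrot45 (Lpr_ft (f32040 IH) (Lpr_at (K10.f32026 IH) (Lpr_ft (f32041 IH) (Lpn (LP (LK LD1_c1 LD2_c0 LD3_c47))))))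
theorem f54057 : Led Lsl_at (LP (LK LD1_c2 LD2_c7 LD3_c37)) = (LP (LK LD1_c4 LD2_c15 LD3_c3)) :=
  Lgr Lrot67 (Lpe (K10.f32044 IH) (Lpr_af (f32042 IH) (Lpe (f32078 IH) (Lpe (f54037 IH) (Lpr_bf (K9.f54053 IH) (Lpn (LP (LK LD1_c4 LD2_c15 LD3_c3))))))))
theorem f183640 : Led Lsl_at (LP (LK LD1_c8 LD2_c13 LD3_c13)) = (LP (LK LD1_c4 LD2_c20 LD3_c22)) :=
  Lgr Lrot66 (Lpr_ff (K10.f183638 IH) (Lpe (f54057 IH) (Lpe (K10.f28698 IH) (Lpn (LP (LK LD1_c4 LD2_c20 LD3_c22))))))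
theorem f191175 : Led Lsl_gf (LP (LK LD1_c4 LD2_c20 LD3_c22)) = (LP (LK LD1_c4 LD2_c5 LD3_c17)) :=
  Lgr Lrot76 (Lpe (f183640 IH) (Lpr_ff (K10.f183638 IH) (Lpr_gt (K10.f191100 IH) (Lpn (LP (LK LD1_c4 LD2_c5 LD3_c17))))))
theorem f49245 : Led Lsl_ft (LP (LK LD1_c4 LD2_c7 LD3_c52)) = (LP (LK LD1_c2 LD2_c1 LD3_c16)) :=
  Lre_f IH (LK LD1_c4 LD2_c7 LD3_c52) (LK LD1_c2 LD2_c1 LD3_c16) Lrfl Lrfl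
theorem f188004 : Led Lsl_gf (LP (LK LD1_c2 LD2_c8 LD3_c0)) = (LP (LK LD1_c4 LD2_c10 LD3_c9)) :=
  Lgr Lrot76 (Lpr_af (K10.f50608 IH) (Lpe (f49245 IH) (Lpr_gt (K10.f188002 IH) (Lpn (LP (LK LD1_c4 LD2_c10 LD3_c9))))))
theorem f170645 : Led Lsl_bt (LP (LK LD1_c0 LD2_c26 LD3_c24)) = (LP (LK LD1_c0 LD2_c58 LD3_c5)) :=
  Lre_b IH (LK LD1_c0 LD2_c26 LD3_c24) (LK LD1_c0 LD2_c58 LD3_c5) Lrfl Lrfl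
theorem f170647 : Led Lsl_bt (LP (LK LD1_c0 LD2_c31 LD3_c37)) = (LP (LK LD1_c0 LD2_c14 LD3_c2)) :=
  Lre_b IH (LK LD1_c0 LD2_c31 LD3_c37) (LK LD1_c0 LD2_c14 LD3_c2) Lrfl Lrfl
theorem f170648 : Led Lsl_ct (LP (LK LD1_c1 LD2_c9 LD3_c6)) = (LP (LK LD1_c0 LD2_c31 LD3_c37)) :=
  Lre_c IH (LK LD1_c1 LD2_c9 LD3_c6) (LK LD1_c0 LD2_c31 LD3_c37) Lrfl Lrfl
theorem f170649 : Led Lsl_bt (LP (LK LD1_c2 LD2_c2 LD3_c17)) = (LP (LK LD1_c1 LD2_c9 LD3_c6)) :=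
  Lgr Lrot128 (Lpe (K10.f170646 IH) (Lpe (f170645 IH) (Lpr_cf (K9.f170611 IH) (Lpe (f170647 IH) (Lpe (f170648 IH) (Lpn (LP (LK LD1_c1 LD2_c9 LD3_c6))))))))
theorem f187925 : Led Lsl_bt (LP (LK LD1_c2 LD2_c7 LD3_c53)) = (LP (LK LD1_c4 LD2_c10 LD3_c9)) :=
  Lgr Lrot95 (Lpr_df (K10.f187923 IH) (Lpe (f170649 IH) (Lpe (K10.f170844 IH) (Lpn (LP (LK LD1_c4 LD2_c10 LD3_c9))))))
theorem f191277 : Led Lsl_gt (LP (LK LD1_c4 LD2_c20 LD3_c28)) = (LP (LK LD1_c4 LD2_c19 LD3_c59)) :=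
  Lgr Lrot65 (Lpe (K0.f31829 IH) (Lpr_bt (K10.f33082 IH) (Lpr_gf (f191175 IH) (Lpe (f182558 IH) (Lpr_ct (f182553 IH) (Lpr_gf (f191273 IH) (Lpe (K9.f30881 IH) (Lpr_gf (f188004 IH) (Lpe (f187925 IH) (Lpr_ct (f190095 IH) (Lpn (LP (LK LD1_c4 LD2_c19 LD3_c59)))))))))))))
theorem f201652 : Led Lsl_cf (LP (LK LD1_c2 LD2_c7 LD3_c53)) = (LP (LK LD1_c4 LD2_c19 LD3_c59)) :=
  Lgr Lrot166 (Lpr_gt (K10.f31132 IH) (Lpr_dt (f31416 IH) (Lpe (K10.f187901 IH) (Lpr_dt (f180205 IH) (Lpr_ct (f187905 IH) (Lpe (f201650 IH) (Lpr_gf (f201636 IH) (Lpe (f31741 IH) (Lpe (f31742 IH) (Lpn (LP (LK LD1_c4 LD2_c19 LD3_c59))))))))))))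
theorem f31283 : Led Lsl_dt (LP (LK LD1_c4 LD2_c20 LD3_c50)) = (LP (LK LD1_c2 LD2_c7 LD3_c54)) :=
  Lre_d IH (LK LD1_c4 LD2_c20 LD3_c50) (LK LD1_c2 LD2_c7 LD3_c54) Lrfl Lrfl
theorem f28635 : Led Lsl_ft (LP (LK LD1_c0 LD2_c55 LD3_c5)) = (LP (LK LD1_c1 LD2_c56 LD3_c40)) :=
  Lre_f IH (LK LD1_c0 LD2_c55 LD3_c5) (LK LD1_c1 LD2_c56 LD3_c40) Lrfl Lrfl
theorem f201548 : Led Lsl_ct (LP (LK LD1_c1 LD2_c56 LD3_c40)) = (LP (LK LD1_c2 LD2_c33 LD3_c42)) :=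
  Lgr Lrot40 (Lpe (f28635 IH) (Lpr_cf (f36938 IH) (Lpr_ff (f201433 IH) (Lpn (LP (LK LD1_c2 LD2_c33 LD3_c42))))))
theorem f31180 : Led Lsl_ct (LP (LK LD1_c2 LD2_c7 LD3_c54)) = (LP (LK LD1_c1 LD2_c1 LD3_c2)) :=
  Lre_c IH (LK LD1_c2 LD2_c7 LD3_c54) (LK LD1_c1 LD2_c1 LD3_c2) Lrfl Lrfl
theorem f201631 : Led Lsl_ct (LP (LK LD1_c5 LD2_c12 LD3_c61)) = (LP (LK LD1_c4 LD2_c20 LD3_c50)) :=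
  Lgr Lrot53 (Lpr_df (f201580 IH) (Lpe (f201548 IH) (Lpe (K1.f28625 IH) (Lpr_cf (K0.f28691 IH) (Lpe (K10.f28699 IH) (Lpr_ft (K10.f28704 IH) (Lpe (K10.f31177 IH) (Lpe (f31180 IH) (Lpe (f31283 IH) (Lpn (LP (LK LD1_c4 LD2_c20 LD3_c50))))))))))))
theorem f201741 : Led Lsl_gt (LP (LK LD1_c4 LD2_c20 LD3_c5)) = (LP (LK LD1_c5 LD2_c12 LD3_c61)) :=
  Lgr Lrot150 (Lpe (f201678 IH) (Lpr_gf (f201733 IH) (Lpe (K0.f31992 IH) (Lpr_gt (f191277 IH) (Lpe (f201652 IH) (Lpr_gt (K10.f31132 IH) (Lpr_ct (K9.f31282 IH) (Lpe (f31283 IH) (Lpe (f201631 IH) (Lpn (LP (LK LD1_c5 LD2_c12 LD3_c61))))))))))))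
theorem f201428 : Led Lsl_ft (LP (LK LD1_c2 LD2_c10 LD3_c0)) = (LP (LK LD1_c4 LD2_c25 LD3_c12)) :=
  Lre_f IH (LK LD1_c2 LD2_c10 LD3_c0) (LK LD1_c4 LD2_c25 LD3_c12) Lrfl Lrfl
theorem f201746 : Led Lsl_at (LP (LK LD1_c4 LD2_c25 LD3_c12)) = (LP (LK LD1_c5 LD2_c12 LD3_c61)) :=
  Lgr Lrot26 (Lpe (f201428 IH) (Lpr_gt (f201435 IH) (Lpr_gt (f201741 IH) (Lpn (LP (LK LD1_c5 LD2_c12 LD3_c61))))))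
theorem f201422 : Led Lsl_dt (LP (LK LD1_c2 LD2_c10 LD3_c0)) = (LP (LK LD1_c1 LD2_c2 LD3_c7)) :=
  Lre_d IH (LK LD1_c2 LD2_c10 LD3_c0) (LK LD1_c1 LD2_c2 LD3_c7) Lrfl Lrfl
theorem f31045 : Led Lsl_dt (LP (LK LD1_c0 LD2_c32 LD3_c2)) = (LP (LK LD1_c0 LD2_c14 LD3_c18)) :=
  Lre_d IH (LK LD1_c0 LD2_c32 LD3_c2) (LK LD1_c0 LD2_c14 LD3_c18) Lrfl Lrfl
theorem f31355 : Led Lsl_dt (LP (LK LD1_c2 LD2_c7 LD3_c54)) = (LP (LK LD1_c4 LD2_c20 LD3_c50)) :=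
  Lre_d IH (LK LD1_c2 LD2_c7 LD3_c54) (LK LD1_c4 LD2_c20 LD3_c50) Lrfl Lrfl
theorem f201861 : Led Lsl_ct (LP (LK LD1_c4 LD2_c20 LD3_c50)) = (LP (LK LD1_c5 LD2_c12 LD3_c61)) :=
  Lgr Lrot98 (Lpe (f31355 IH) (Lpe (K9.f31282 IH) (Lpe (K0.f31131 IH) (Lpe (K9.f31532 IH) (Lpe (f31045 IH) (Lpe (f201418 IH) (Lpe (f201422 IH) (Lpr_ft (f201428 IH) (Lpr_at (f201746 IH) (Lpn (LP (LK LD1_c5 LD2_c12 LD3_c61))))))))))))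
theorem f31356 : Led Lsl_et (LP (LK LD1_c8 LD2_c39 LD3_c23)) = (LP (LK LD1_c4 LD2_c20 LD3_c50)) :=
  Lre_e IH (LK LD1_c8 LD2_c39 LD3_c23) (LK LD1_c4 LD2_c20 LD3_c50) Lrfl Lrfl
theorem f201626 : Led Lsl_et (LP (LK LD1_c5 LD2_c12 LD3_c61)) = (LP (LK LD1_c10 LD2_c16 LD3_c18)) :=
  Lre_e IH (LK LD1_c5 LD2_c12 LD3_c61) (LK LD1_c10 LD2_c16 LD3_c18) Lrfl Lrfl
theorem f201867 : Led Lsl_cf (LP (LK LD1_c8 LD2_c39 LD3_c23)) = (LP (LK LD1_c10 LD2_c16 LD3_c18)) :=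
  Lgr Lrot39 (Lpr_et (f31356 IH) (Lpr_ct (f201861 IH) (Lpr_et (f201626 IH) (Lpn (LP (LK LD1_c10 LD2_c16 LD3_c18))))))
theorem f31365 : Led Lsl_ft (LP (LK LD1_c8 LD2_c39 LD3_c23)) = (LP (LK LD1_c16 LD2_c12 LD3_c48)) :=
  Lre_f IH (LK LD1_c8 LD2_c39 LD3_c23) (LK LD1_c16 LD2_c12 LD3_c48) Lrfl Lrfl
theorem f201888 : Led Lsl_ft (LP (LK LD1_c18 LD2_c40 LD3_c53)) = (LP (LK LD1_c10 LD2_c16 LD3_c18)) :=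
  Lre_f IH (LK LD1_c18 LD2_c40 LD3_c53) (LK LD1_c10 LD2_c16 LD3_c18) Lrfl Lrfl
theorem f201889 : Led Lsl_ct (LP (LK LD1_c16 LD2_c12 LD3_c48)) = (LP (LK LD1_c18 LD2_c40 LD3_c53)) :=
  Lgr Lrot40 (Lpe (f31365 IH) (Lpr_cf (f201867 IH) (Lpe (f201888 IH) (Lpn (LP (LK LD1_c18 LD2_c40 LD3_c53))))))
theorem f36956 : Led Lsl_ff (LP (LK LD1_c4 LD2_c20 LD3_c50)) = (LP (LK LD1_c7 LD2_c57 LD3_c4)) :=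
  Lgr Lrot19 (Lpr_dt (f31283 IH) (Lpr_ft (K9.f31409 IH) (Lpr_dt (f36945 IH) (Lpn (LP (LK LD1_c7 LD2_c57 LD3_c4))))))
theorem f36967 : Led Lsl_ft (LP (LK LD1_c4 LD2_c20 LD3_c50)) = (LP (LK LD1_c7 LD2_c57 LD3_c4)) :=
  Lgr Lrot48 (Lpr_ff (f36956 IH) (Lpn (LP (LK LD1_c7 LD2_c57 LD3_c4))))
theorem f31383 : Led Lsl_ft (LP (LK LD1_c16 LD2_c12 LD3_c48)) = (LP (LK LD1_c8 LD2_c39 LD3_c23)) :=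
  Lre_f IH (LK LD1_c16 LD2_c12 LD3_c48) (LK LD1_c8 LD2_c39 LD3_c23) Lrfl Lrfl
theorem f36952 : Led Lsl_et (LP (LK LD1_c7 LD2_c57 LD3_c4)) = (LP (LK LD1_c14 LD2_c59 LD3_c53)) :=
  Lre_e IH (LK LD1_c7 LD2_c57 LD3_c4) (LK LD1_c14 LD2_c59 LD3_c53) Lrfl Lrfl
theorem f36971 : Led Lsl_ft (LP (LK LD1_c14 LD2_c59 LD3_c53)) = (LP (LK LD1_c24 LD2_c47 LD3_c15)) :=
  Lre_f IH (LK LD1_c14 LD2_c59 LD3_c53) (LK LD1_c24 LD2_c47 LD3_c15) Lrfl Lrfl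
theorem f36972 : Led Lsl_ef (LP (LK LD1_c16 LD2_c12 LD3_c48)) = (LP (LK LD1_c24 LD2_c47 LD3_c15)) :=
  Lgr Lrot21 (Lpr_ft (f31383 IH) (Lpr_et (f31356 IH) (Lpr_ft (f36967 IH) (Lpr_et (f36952 IH) (Lpr_ft (f36971 IH) (Lpn (LP (LK LD1_c24 LD2_c47 LD3_c15))))))))
theorem f36974 : Led Lsl_ct (LP (LK LD1_c14 LD2_c59 LD3_c54)) = (LP (LK LD1_c24 LD2_c47 LD3_c15)) :=
  Lre_c IH (LK LD1_c14 LD2_c59 LD3_c54) (LK LD1_c24 LD2_c47 LD3_c15) Lrfl Lrfl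
theorem f201899 : Led Lsl_ef (LP (LK LD1_c14 LD2_c59 LD3_c54)) = (LP (LK LD1_c18 LD2_c40 LD3_c53)) :=
  Lgr Lrot28 (Lpr_ct (f36974 IH) (Lpe (f36972 IH) (Lpr_ct (f201889 IH) (Lpn (LP (LK LD1_c18 LD2_c40 LD3_c53))))))
theorem f201903 : Led Lsl_et (LP (LK LD1_c14 LD2_c59 LD3_c54)) = (LP (LK LD1_c18 LD2_c40 LD3_c53)) :=
  Lgr Lrot87 (Lpr_ef (f201899 IH) (Lpn (LP (LK LD1_c18 LD2_c40 LD3_c53))))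
theorem f38618 : Led Lsl_dt (LP (LK LD1_c7 LD2_c57 LD3_c3)) = (LP (LK LD1_c14 LD2_c59 LD3_c54)) :=
  Lre_d IH (LK LD1_c7 LD2_c57 LD3_c3) (LK LD1_c14 LD2_c59 LD3_c54) Lrfl Lrfl
theorem f38324 : Led Lsl_et (LP (LK LD1_c16 LD2_c28 LD3_c59)) = (LP (LK LD1_c8 LD2_c48 LD3_c39)) :=
  Lre_e IH (LK LD1_c16 LD2_c28 LD3_c59) (LK LD1_c8 LD2_c48 LD3_c39) Lrfl Lrfl
theorem f201916 : Led Lsl_df (LP (LK LD1_c16 LD2_c28 LD3_c59)) = (LP (LK LD1_c18 LD2_c40 LD3_c53)) :=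
  Lgr Lrot70 (Lpr_et (f38324 IH) (Lpr_dt (K1.f38297 IH) (Lpr_et (K2.f38255 IH) (Lpr_dt (f38618 IH) (Lpr_et (f201903 IH) (Lpn (LP (LK LD1_c18 LD2_c40 LD3_c53))))))))
theorem f38288 : Led Lsl_et (LP (LK LD1_c11 LD2_c59 LD3_c37)) = (LP (LK LD1_c21 LD2_c4 LD3_c19)) :=
  Lre_e IH (LK LD1_c11 LD2_c59 LD3_c37) (LK LD1_c21 LD2_c4 LD3_c19) Lrfl Lrfl
theorem f70785 : Led Lsl_dt (LP (LK LD1_c8 LD2_c47 LD3_c59)) = (LP (LK LD1_c4 LD2_c25 LD3_c10)) :=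
  Lre_d IH (LK LD1_c8 LD2_c47 LD3_c59) (LK LD1_c4 LD2_c25 LD3_c10) Lrfl Lrfl
theorem f70800 : Led Lsl_et (LP (LK LD1_c16 LD2_c28 LD3_c2)) = (LP (LK LD1_c8 LD2_c47 LD3_c59)) :=
  Lre_e IH (LK LD1_c16 LD2_c28 LD3_c2) (LK LD1_c8 LD2_c47 LD3_c59) Lrfl Lrfl
theorem f70801 : Led Lsl_dt (LP (LK LD1_c21 LD2_c4 LD3_c19)) = (LP (LK LD1_c16 LD2_c28 LD3_c2)) :=
  Lgr Lrot77 (Lpe (f38288 IH) (Lpe (K1.f35745 IH) (Lpr_ef (K2.f70793 IH) (Lpe (f70785 IH) (Lpe (f70800 IH) (Lpn (LP (LK LD1_c16 LD2_c28 LD3_c2))))))))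
theorem f201918 : Led Lsl_at (LP (LK LD1_c16 LD2_c28 LD3_c2)) = (LP (LK LD1_c18 LD2_c40 LD3_c53)) :=
  Lgr Lrot51 (Lpe (f70801 IH) (Lpe (K1.f38316 IH) (Lpr_df (f201916 IH) (Lpn (LP (LK LD1_c18 LD2_c40 LD3_c53))))))
theorem f201926 : Led Lsl_af (LP (LK LD1_c8 LD2_c47 LD3_c59)) = (LP (LK LD1_c14 LD2_c59 LD3_c54)) :=
  Lgr Lrot50 (Lpr_et (K2.f70786 IH) (Lpr_at (f201918 IH) (Lpe (f201899 IH) (Lpn (LP (LK LD1_c14 LD2_c59 LD3_c54))))))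
theorem f201932 : Led Lsl_ft (LP (LK LD1_c8 LD2_c47 LD3_c59)) = (LP (LK LD1_c4 LD2_c25 LD3_c9)) :=
  Lre_f IH (LK LD1_c8 LD2_c47 LD3_c59) (LK LD1_c4 LD2_c25 LD3_c9) Lrfl Lrfl
theorem f70281 : Led Lsl_ft (LP (LK LD1_c7 LD2_c57 LD3_c2)) = (LP (LK LD1_c14 LD2_c59 LD3_c54)) :=
  Lre_f IH (LK LD1_c7 LD2_c57 LD3_c2) (LK LD1_c14 LD2_c59 LD3_c54) Lrfl Lrfl
theorem f201933 : Led Lsl_at (LP (LK LD1_c4 LD2_c25 LD3_c9)) = (LP (LK LD1_c7 LD2_c57 LD3_c2)) :=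
  Lgr Lrot66 (Lpe (f201932 IH) (Lpr_af (f201926 IH) (Lpe (f70281 IH) (Lpn (LP (LK LD1_c7 LD2_c57 LD3_c2))))))
theorem f201939 : Led Lsl_gt (LP (LK LD1_c8 LD2_c47 LD3_c59)) = (LP (LK LD1_c12 LD2_c7 LD3_c59)) :=
  Lgr Lrot5 (Lpr_ft (f201932 IH) (Lpr_at (f201933 IH) (Lpe (K6.f59371 IH) (Lpn (LP (LK LD1_c12 LD2_c7 LD3_c59))))))
theorem f59262 : Led Lsl_gt (LP (LK LD1_c3 LD2_c57 LD3_c49)) = (LP (LK LD1_c7 LD2_c57 LD3_c0)) :=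
  Lre_g IH (LK LD1_c3 LD2_c57 LD3_c49) (LK LD1_c7 LD2_c57 LD3_c0) Lrfl Lrfl
theorem f70795 : Led Lsl_gt (LP (LK LD1_c7 LD2_c57 LD3_c0)) = (LP (LK LD1_c4 LD2_c25 LD3_c10)) :=
  Lgr Lrot46 (Lpe (f59262 IH) (Lpr_ft (K2.f38617 IH) (Lpr_at (K2.f70779 IH) (Lpn (LP (LK LD1_c4 LD2_c25 LD3_c10))))))
theorem f59263 : Led Lsl_et (LP (LK LD1_c14 LD2_c59 LD3_c49)) = (LP (LK LD1_c7 LD2_c57 LD3_c0)) :=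
  Lre_e IH (LK LD1_c14 LD2_c59 LD3_c49) (LK LD1_c7 LD2_c57 LD3_c0) Lrfl Lrfl
theorem f59259 : Led Lsl_et (LP (LK LD1_c2 LD2_c18 LD3_c48)) = (LP (LK LD1_c1 LD2_c6 LD3_c24)) :=
  Lre_e IH (LK LD1_c2 LD2_c18 LD3_c48) (LK LD1_c1 LD2_c6 LD3_c24) Lrfl Lrfl
theorem f59260 : Led Lsl_dt (LP (LK LD1_c2 LD2_c18 LD3_c48)) = (LP (LK LD1_c4 LD2_c42 LD3_c41)) :=
  Lre_d IH (LK LD1_c2 LD2_c18 LD3_c48) (LK LD1_c4 LD2_c42 LD3_c41) Lrfl Lrfl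
theorem f59261 : Led Lsl_gt (LP (LK LD1_c9 LD2_c19 LD3_c39)) = (LP (LK LD1_c4 LD2_c42 LD3_c41)) :=
  Lre_g IH (LK LD1_c9 LD2_c19 LD3_c39) (LK LD1_c4 LD2_c42 LD3_c41) Lrfl Lrfl
theorem f59264 : Led Lsl_df (LP (LK LD1_c9 LD2_c19 LD3_c39)) = (LP (LK LD1_c14 LD2_c59 LD3_c49)) :=
  Lgr Lrot170 (Lpr_gt (f59261 IH) (Lpe (f59260 IH) (Lpr_et (f59259 IH) (Lpr_gt (K1.f59244 IH) (Lpr_dt (K1.f36293 IH) (Lpr_gt (K1.f35549 IH) (Lpe (K1.f35657 IH) (Lpr_et (K1.f38616 IH) (Lpr_gt (f59262 IH) (Lpe (f59263 IH) (Lpn (LP (LK LD1_c14 LD2_c59 LD3_c49)))))))))))))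
theorem f38140 : Led Lsl_gt (LP (LK LD1_c3 LD2_c4 LD3_c20)) = (LP (LK LD1_c6 LD2_c13 LD3_c54)) :=
  Lre_g IH (LK LD1_c3 LD2_c4 LD3_c20) (LK LD1_c6 LD2_c13 LD3_c54) Lrfl Lrfl
theorem f38128 : Led Lsl_et (LP (LK LD1_c1 LD2_c2 LD3_c16)) = (LP (LK LD1_c2 LD2_c10 LD3_c29)) :=
  Lre_e IH (LK LD1_c1 LD2_c2 LD3_c16) (LK LD1_c2 LD2_c10 LD3_c29) Lrfl Lrfl
theorem f38129 : Led Lsl_ft (LP (LK LD1_c2 LD2_c10 LD3_c29)) = (LP (LK LD1_c4 LD2_c26 LD3_c34)) :=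
  Lre_f IH (LK LD1_c2 LD2_c10 LD3_c29) (LK LD1_c4 LD2_c26 LD3_c34) Lrfl Lrfl
theorem f38130 : Led Lsl_et (LP (LK LD1_c3 LD2_c3 LD3_c46)) = (LP (LK LD1_c1 LD2_c27 LD3_c52)) :=
  Lre_e IH (LK LD1_c3 LD2_c3 LD3_c46) (LK LD1_c1 LD2_c27 LD3_c52) Lrfl Lrfl
theorem f38131 : Led Lsl_ft (LP (LK LD1_c6 LD2_c13 LD3_c54)) = (LP (LK LD1_c3 LD2_c3 LD3_c46)) :=
  Lre_f IH (LK LD1_c6 LD2_c13 LD3_c54) (LK LD1_c3 LD2_c3 LD3_c46) Lrfl Lrfl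
theorem f38132 : Led Lsl_et (LP (LK LD1_c4 LD2_c26 LD3_c34)) = (LP (LK LD1_c6 LD2_c13 LD3_c54)) :=
  Lgr Lrot69 (Lpe (f38129 IH) (Lpe (f38128 IH) (Lpr_ff (K6.f38120 IH) (Lpe (f38130 IH) (Lpe (f38131 IH) (Lpn (LP (LK LD1_c6 LD2_c13 LD3_c54))))))))
theorem f38139 : Led Lsl_dt (LP (LK LD1_c4 LD2_c26 LD3_c34)) = (LP (LK LD1_c8 LD2_c50 LD3_c43)) :=
  Lre_d IH (LK LD1_c4 LD2_c26 LD3_c34) (LK LD1_c8 LD2_c50 LD3_c43) Lrfl Lrfl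
theorem f201941 : Led Lsl_gf (LP (LK LD1_c9 LD2_c19 LD3_c39)) = (LP (LK LD1_c8 LD2_c50 LD3_c43)) :=
  Lgr Lrot145 (Lpr_df (f59264 IH) (Lpr_et (f59263 IH) (Lpr_gt (f70795 IH) (Lpr_dt (K2.f70783 IH) (Lpr_gt (f201939 IH) (Lpe (K6.f38142 IH) (Lpr_et (K6.f38141 IH) (Lpr_gt (f38140 IH) (Lpe (f38132 IH) (Lpr_dt (f38139 IH) (Lpn (LP (LK LD1_c8 LD2_c50 LD3_c43)))))))))))))
theorem f38407 : Led Lsl_ct (LP (LK LD1_c4 LD2_c25 LD3_c37)) = (LP (LK LD1_c8 LD2_c48 LD3_c48)) :=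
  Lre_c IH (LK LD1_c4 LD2_c25 LD3_c37) (LK LD1_c8 LD2_c48 LD3_c48) Lrfl Lrfl
theorem f38401 : Led Lsl_dt (LP (LK LD1_c4 LD2_c25 LD3_c37)) = (LP (LK LD1_c2 LD2_c10 LD3_c9)) :=
  Lre_d IH (LK LD1_c4 LD2_c25 LD3_c37) (LK LD1_c2 LD2_c10 LD3_c9) Lrfl Lrfl
theorem f38414 : Led Lsl_ft (LP (LK LD1_c4 LD2_c25 LD3_c37)) = (LP (LK LD1_c2 LD2_c10 LD3_c8)) :=
  Lre_f IH (LK LD1_c4 LD2_c25 LD3_c37) (LK LD1_c2 LD2_c10 LD3_c8) Lrfl Lrfl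
theorem f38362 : Led Lsl_at (LP (LK LD1_c2 LD2_c10 LD3_c8)) = (LP (LK LD1_c3 LD2_c0 LD3_c60)) :=
  Lgr Lrot100 (Lpr_af (K1.f38352 IH) (Lpn (LP (LK LD1_c3 LD2_c0 LD3_c60))))
theorem f27260 : Led Lsl_ct (LP (LK LD1_c6 LD2_c9 LD3_c16)) = (LP (LK LD1_c3 LD2_c0 LD3_c60)) :=
  Lre_c IH (LK LD1_c6 LD2_c9 LD3_c16) (LK LD1_c3 LD2_c0 LD3_c60) Lrfl Lrfl
theorem f38415 : Led Lsl_dt (LP (LK LD1_c8 LD2_c48 LD3_c48)) = (LP (LK LD1_c6 LD2_c9 LD3_c16)) :=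
  Lgr Lrot120 (Lpe (f38407 IH) (Lpe (K10.f38348 IH) (Lpr_cf (K1.f38399 IH) (Lpe (K1.f35625 IH) (Lpe (K1.f38405 IH) (Lpe (f38401 IH) (Lpr_ft (f38414 IH) (Lpr_at (f38362 IH) (Lpe (f27260 IH) (Lpn (LP (LK LD1_c6 LD2_c9 LD3_c16))))))))))))
theorem f38347 : Led Lsl_ct (LP (LK LD1_c8 LD2_c48 LD3_c48)) = (LP (LK LD1_c4 LD2_c25 LD3_c37)) :=
  Lre_c IH (LK LD1_c8 LD2_c48 LD3_c48) (LK LD1_c4 LD2_c25 LD3_c37) Lrfl Lrfl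
theorem f38377 : Led Lsl_at (LP (LK LD1_c8 LD2_c48 LD3_c47)) = (LP (LK LD1_c8 LD2_c48 LD3_c48)) :=
  Lgr Lrot107 (Lpr_cf (K1.f38375 IH) (Lpe (K1.f38339 IH) (Lpe (f38347 IH) (Lpn (LP (LK LD1_c8 LD2_c48 LD3_c48))))))
theorem f38419 : Led Lsl_af (LP (LK LD1_c4 LD2_c25 LD3_c36)) = (LP (LK LD1_c6 LD2_c9 LD3_c16)) :=
  Lgr Lrot117 (Lpr_dt (K1.f38381 IH) (Lpr_at (f38377 IH) (Lpr_dt (f38415 IH) (Lpn (LP (LK LD1_c6 LD2_c9 LD3_c16))))))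
theorem f38437 : Led Lsl_et (LP (LK LD1_c4 LD2_c25 LD3_c36)) = (LP (LK LD1_c8 LD2_c48 LD3_c38)) :=
  Lre_e IH (LK LD1_c4 LD2_c25 LD3_c36) (LK LD1_c8 LD2_c48 LD3_c38) Lrfl Lrfl
theorem f38438 : Led Lsl_et (LP (LK LD1_c11 LD2_c59 LD3_c36)) = (LP (LK LD1_c6 LD2_c9 LD3_c16)) :=
  Lre_e IH (LK LD1_c11 LD2_c59 LD3_c36) (LK LD1_c6 LD2_c9 LD3_c16) Lrfl Lrfl
theorem f38439 : Led Lsl_at (LP (LK LD1_c8 LD2_c48 LD3_c38)) = (LP (LK LD1_c11 LD2_c59 LD3_c36)) :=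
  Lgr Lrot80 (Lpe (f38437 IH) (Lpr_af (f38419 IH) (Lpe (f38438 IH) (Lpn (LP (LK LD1_c11 LD2_c59 LD3_c36))))))
theorem f38302 : Led Lsl_ct (LP (LK LD1_c4 LD2_c25 LD3_c32)) = (LP (LK LD1_c8 LD2_c48 LD3_c38)) :=
  Lre_c IH (LK LD1_c4 LD2_c25 LD3_c32) (LK LD1_c8 LD2_c48 LD3_c38) Lrfl Lrfl
theorem f35689 : Led Lsl_ct (LP (LK LD1_c11 LD2_c59 LD3_c36)) = (LP (LK LD1_c6 LD2_c9 LD3_c13)) :=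
  Lre_c IH (LK LD1_c11 LD2_c59 LD3_c36) (LK LD1_c6 LD2_c9 LD3_c13) Lrfl Lrfl
theorem f38447 : Led Lsl_af (LP (LK LD1_c4 LD2_c25 LD3_c32)) = (LP (LK LD1_c6 LD2_c9 LD3_c13)) :=
  Lgr Lrot68 (Lpr_ct (f38302 IH) (Lpr_at (f38439 IH) (Lpr_ct (f35689 IH) (Lpn (LP (LK LD1_c6 LD2_c9 LD3_c13))))))
theorem f38452 : Led Lsl_gt (LP (LK LD1_c8 LD2_c48 LD3_c37)) = (LP (LK LD1_c4 LD2_c25 LD3_c32)) :=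
  Lre_g IH (LK LD1_c8 LD2_c48 LD3_c37) (LK LD1_c4 LD2_c25 LD3_c32) Lrfl Lrfl
theorem f35742 : Led Lsl_ft (LP (LK LD1_c11 LD2_c59 LD3_c37)) = (LP (LK LD1_c6 LD2_c9 LD3_c13)) :=
  Lre_f IH (LK LD1_c11 LD2_c59 LD3_c37) (LK LD1_c6 LD2_c9 LD3_c13) Lrfl Lrfl
theorem f38453 : Led Lsl_gf (LP (LK LD1_c8 LD2_c48 LD3_c37)) = (LP (LK LD1_c11 LD2_c59 LD3_c37)) :=
  Lgr Lrot47 (Lpr_gt (f38452 IH) (Lpr_af (f38447 IH) (Lpe (f35742 IH) (Lpn (LP (LK LD1_c11 LD2_c59 LD3_c37))))))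
theorem f38276 : Led Lsl_dt (LP (LK LD1_c2 LD2_c10 LD3_c7)) = (LP (LK LD1_c4 LD2_c25 LD3_c32)) :=
  Lre_d IH (LK LD1_c2 LD2_c10 LD3_c7) (LK LD1_c4 LD2_c25 LD3_c32) Lrfl Lrfl
theorem f56607 : Led Lsl_et (LP (LK LD1_c1 LD2_c6 LD3_c24)) = (LP (LK LD1_c2 LD2_c18 LD3_c48)) :=
  Lre_e IH (LK LD1_c1 LD2_c6 LD3_c24) (LK LD1_c2 LD2_c18 LD3_c48) Lrfl Lrfl
theorem f56608 : Led Lsl_gt (LP (LK LD1_c2 LD2_c18 LD3_c48)) = (LP (LK LD1_c4 LD2_c42 LD3_c39)) :=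
  Lre_g IH (LK LD1_c2 LD2_c18 LD3_c48) (LK LD1_c4 LD2_c42 LD3_c39) Lrfl Lrfl
theorem f56619 : Led Lsl_et (LP (LK LD1_c9 LD2_c19 LD3_c34)) = (LP (LK LD1_c4 LD2_c42 LD3_c39)) :=
  Lre_e IH (LK LD1_c9 LD2_c19 LD3_c34) (LK LD1_c4 LD2_c42 LD3_c39) Lrfl Lrfl
theorem f69489 : Led Lsl_df (LP (LK LD1_c8 LD2_c48 LD3_c37)) = (LP (LK LD1_c9 LD2_c19 LD3_c34)) :=
  Lgr Lrot170 (Lpr_gt (f38452 IH) (Lpe (f38276 IH) (Lpr_et (K1.f38238 IH) (Lpr_gt (K2.f69359 IH) (Lpr_dt (K1.f56593 IH) (Lpe (K1.f56591 IH) (Lpe (K1.f36312 IH) (Lpr_et (f56607 IH) (Lpr_gt (f56608 IH) (Lpe (f56619 IH) (Lpn (LP (LK LD1_c9 LD2_c19 LD3_c34)))))))))))))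
theorem f201945 : Led Lsl_gt (LP (LK LD1_c4 LD2_c42 LD3_c39)) = (LP (LK LD1_c4 LD2_c26 LD3_c34)) :=
  Lgr Lrot137 (Lpe (f56619 IH) (Lpe (f69489 IH) (Lpr_gf (f38453 IH) (Lpe (K1.f35745 IH) (Lpr_et (K2.f70803 IH) (Lpe (f70795 IH) (Lpe (f59263 IH) (Lpe (f59264 IH) (Lpr_gf (f201941 IH) (Lpe (f38139 IH) (Lpn (LP (LK LD1_c4 LD2_c26 LD3_c34)))))))))))))
theorem f201947 : Led Lsl_ft (LP (LK LD1_c2 LD2_c18 LD3_c48)) = (LP (LK LD1_c4 LD2_c42 LD3_c42)) :=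
  Lre_f IH (LK LD1_c2 LD2_c18 LD3_c48) (LK LD1_c4 LD2_c42 LD3_c42) Lrfl Lrfl
theorem f201948 : Led Lsl_at (LP (LK LD1_c4 LD2_c42 LD3_c42)) = (LP (LK LD1_c4 LD2_c26 LD3_c34)) :=
  Lgr Lrot26 (Lpe (f201947 IH) (Lpr_gt (f56608 IH) (Lpr_gt (f201945 IH) (Lpn (LP (LK LD1_c4 LD2_c26 LD3_c34))))))
theorem f201960 : Led Lsl_af (LP (LK LD1_c2 LD2_c18 LD3_c48)) = (LP (LK LD1_c2 LD2_c10 LD3_c29)) :=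
  Lgr Lrot45 (Lpr_ft (f201947 IH) (Lpr_at (f201948 IH) (Lpr_ft (K4.f38115 IH) (Lpn (LP (LK LD1_c2 LD2_c10 LD3_c29))))))
theorem f201973 : Led Lsl_at (LP (LK LD1_c1 LD2_c6 LD3_c24)) = (LP (LK LD1_c1 LD2_c2 LD3_c16)) :=
  Lgr Lrot80 (Lpe (f59259 IH) (Lpr_af (f201960 IH) (Lpe (f38128 IH) (Lpn (LP (LK LD1_c1 LD2_c2 LD3_c16))))))
theorem f201994 : Led Lsl_ff (LP (LK LD1_c1 LD2_c6 LD3_c24)) = (LP (LK LD1_c0 LD2_c40 LD3_c46)) :=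
  Lgr Lrot30 (Lpr_at (f201973 IH) (Lpr_ft (K6.f38013 IH) (Lpr_at (K6.f38012 IH) (Lpn (LP (LK LD1_c0 LD2_c40 LD3_c46))))))
theorem f202004 : Led Lsl_ft (LP (LK LD1_c1 LD2_c6 LD3_c24)) = (LP (LK LD1_c0 LD2_c40 LD3_c46)) :=
  Lgr Lrot48 (Lpr_ff (f201994 IH) (Lpn (LP (LK LD1_c0 LD2_c40 LD3_c46))))
theorem f38122 : Led Lsl_at (LP (LK LD1_c0 LD2_c40 LD3_c46)) = (LP (LK LD1_c1 LD2_c27 LD3_c52)) :=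
  Lre_a IH (LK LD1_c0 LD2_c40 LD3_c46) (LK LD1_c1 LD2_c27 LD3_c52) Lrfl Lrfl
theorem f202015 : Led Lsl_ct (LP (LK LD1_c0 LD2_c42 LD3_c2)) = (LP (LK LD1_c1 LD2_c27 LD3_c52)) :=
  Lgr Lrot98 (Lpe (K4.f36309 IH) (Lpe (K1.f36308 IH) (Lpe (K1.f36294 IH) (Lpr_cf (K1.f36301 IH) (Lpe (K2.f36310 IH) (Lpe (K1.f36311 IH) (Lpe (K1.f36312 IH) (Lpr_ft (f202004 IH) (Lpr_at (f38122 IH) (Lpn (LP (LK LD1_c1 LD2_c27 LD3_c52))))))))))))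
theorem f149617 : Led Lsl_bt (LP (LK LD1_c0 LD2_c42 LD3_c2)) = (LP (LK LD1_c1 LD2_c31 LD3_c7)) :=
  Lre_b IH (LK LD1_c0 LD2_c42 LD3_c2) (LK LD1_c1 LD2_c31 LD3_c7) Lrfl Lrfl
theorem f161625 : Led Lsl_gf (LP (LK LD1_c2 LD2_c54 LD3_c22)) = (LP (LK LD1_c1 LD2_c31 LD3_c7)) :=
  Lgr Lrot143 (Lpr_dt (K6.f81821 IH) (Lpe (K6.f81820 IH) (Lpe (K6.f81999 IH) (Lpr_gf (K8.f161621 IH) (Lpr_df (K8.f157807 IH) (Lpe (K8.f160877 IH) (Lpe (K5.f117813 IH) (Lpr_gt (K4.f69211 IH) (Lpr_dt (K8.f69196 IH) (Lpn (LP (LK LD1_c1 LD2_c31 LD3_c7))))))))))))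
theorem f119754 : Led Lsl_bt (LP (LK LD1_c5 LD2_c55 LD3_c61)) = (LP (LK LD1_c2 LD2_c54 LD3_c22)) :=
  Lre_b IH (LK LD1_c5 LD2_c55 LD3_c61) (LK LD1_c2 LD2_c54 LD3_c22) Lrfl Lrfl
theorem f202013 : Led Lsl_gt (LP (LK LD1_c0 LD2_c54 LD3_c36)) = (LP (LK LD1_c1 LD2_c27 LD3_c52)) :=
  Lgr Lrot46 (Lpe (K1.f59244 IH) (Lpr_ft (f202004 IH) (Lpr_at (f38122 IH) (Lpn (LP (LK LD1_c1 LD2_c27 LD3_c52))))))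
theorem f202031 : Led Lsl_gf (LP (LK LD1_c1 LD2_c2 LD3_c19)) = (LP (LK LD1_c1 LD2_c27 LD3_c52)) :=
  Lgr Lrot148 (Lpr_dt (K1.f16568 IH) (Lpr_gt (K1.f35533 IH) (Lpr_dt (K1.f27221 IH) (Lpr_ct (K1.f35588 IH) (Lpe (K1.f35598 IH) (Lpe (K1.f35594 IH) (Lpe (K1.f29552 IH) (Lpe (K4.f70439 IH) (Lpr_ct (f202015 IH) (Lpn (LP (LK LD1_c1 LD2_c27 LD3_c52))))))))))))
theorem f202039 : Led Lsl_gt (LP (LK LD1_c11 LD2_c37 LD3_c10)) = (LP (LK LD1_c6 LD2_c13 LD3_c51)) :=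
  Lgr Lrot65 (Lpe (K6.f82054 IH) (Lpr_bt (f119754 IH) (Lpr_gf (f161625 IH) (Lpe (f149617 IH) (Lpr_ct (f202015 IH) (Lpe (f202013 IH) (Lpe (K1.f37875 IH) (Lpr_gf (f202031 IH) (Lpe (K6.f38124 IH) (Lpr_ct (K6.f38150 IH) (Lpn (LP (LK LD1_c6 LD2_c13 LD3_c51)))))))))))))
theorem f38158 : Led Lsl_at (LP (LK LD1_c12 LD2_c6 LD3_c16)) = (LP (LK LD1_c6 LD2_c13 LD3_c51)) :=
  Lre_a IH (LK LD1_c12 LD2_c6 LD3_c16) (LK LD1_c6 LD2_c13 LD3_c51) Lrfl Lrfl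
theorem f38157 : Led Lsl_at (LP (LK LD1_c4 LD2_c26 LD3_c29)) = (LP (LK LD1_c8 LD2_c50 LD3_c25)) :=
  Lre_a IH (LK LD1_c4 LD2_c26 LD3_c29) (LK LD1_c8 LD2_c50 LD3_c25) Lrfl Lrfl
theorem f38159 : Led Lsl_ft (LP (LK LD1_c8 LD2_c50 LD3_c25)) = (LP (LK LD1_c12 LD2_c6 LD3_c16)) :=
  Lgr Lrot101 (Lpe (f38157 IH) (Lpr_ff (K6.f38151 IH) (Lpe (f38158 IH) (Lpn (LP (LK LD1_c12 LD2_c6 LD3_c16))))))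
theorem f202041 : Led Lsl_gf (LP (LK LD1_c11 LD2_c37 LD3_c10)) = (LP (LK LD1_c8 LD2_c50 LD3_c25)) :=
  Lgr Lrot47 (Lpr_gt (f202039 IH) (Lpe (f38158 IH) (Lpe (f38159 IH) (Lpn (LP (LK LD1_c8 LD2_c50 LD3_c25))))))
theorem f161933 : Led Lsl_gf (LP (LK LD1_c5 LD2_c55 LD3_c39)) = (LP (LK LD1_c8 LD2_c45 LD3_c40)) :=
  Lgr Lrot104 (Lpr_ct (K6.f69445 IH) (Lpe (K8.f69443 IH) (Lpe (K6.f69453 IH) (Lpr_gf (K6.f71951 IH) (Lpr_cf (K2.f35220 IH) (Lpr_gf (K6.f81818 IH) (Lpe (K6.f81821 IH) (Lpr_gt (K8.f161922 IH) (Lpr_ct (K8.f36587 IH) (Lpn (LP (LK LD1_c8 LD2_c45 LD3_c40))))))))))))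
theorem f38169 : Led Lsl_ct (LP (LK LD1_c4 LD2_c26 LD3_c28)) = (LP (LK LD1_c8 LD2_c50 LD3_c25)) :=
  Lre_c IH (LK LD1_c4 LD2_c26 LD3_c28) (LK LD1_c8 LD2_c50 LD3_c25) Lrfl Lrfl
theorem f78290 : Led Lsl_at (LP (LK LD1_c4 LD2_c42 LD3_c36)) = (LP (LK LD1_c2 LD2_c18 LD3_c46)) :=
  Lre_a IH (LK LD1_c4 LD2_c42 LD3_c36) (LK LD1_c2 LD2_c18 LD3_c46) Lrfl Lrfl
theorem f38203 : Led Lsl_at (LP (LK LD1_c2 LD2_c10 LD3_c28)) = (LP (LK LD1_c4 LD2_c26 LD3_c28)) :=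
  Lre_a IH (LK LD1_c2 LD2_c10 LD3_c28) (LK LD1_c4 LD2_c26 LD3_c28) Lrfl Lrfl
theorem f201988 : Led Lsl_bf (LP (LK LD1_c4 LD2_c42 LD3_c36)) = (LP (LK LD1_c4 LD2_c26 LD3_c28)) :=
  Lgr Lrot81 (Lpr_at (f78290 IH) (Lpr_bt (K6.f59248 IH) (Lpr_at (f201973 IH) (Lpr_bt (K6.f38123 IH) (Lpr_at (f38203 IH) (Lpn (LP (LK LD1_c4 LD2_c26 LD3_c28))))))))
theorem f202059 : Led Lsl_gt (LP (LK LD1_c2 LD2_c53 LD3_c25)) = (LP (LK LD1_c4 LD2_c42 LD3_c36)) :=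
  Lgr Lrot164 (Lpr_bf (K6.f81906 IH) (Lpr_ct (K8.f69444 IH) (Lpr_gf (f161933 IH) (Lpe (K8.f36587 IH) (Lpe (K8.f161922 IH) (Lpe (f119754 IH) (Lpr_ct (K6.f82054 IH) (Lpr_gf (f202041 IH) (Lpe (f38169 IH) (Lpe (f201988 IH) (Lpn (LP (LK LD1_c4 LD2_c42 LD3_c36)))))))))))))
theorem f149372 : Led Lsl_dt (LP (LK LD1_c4 LD2_c38 LD3_c46)) = (LP (LK LD1_c8 LD2_c0 LD3_c1)) :=
  Lgr Lrot6 (Lpr_gt (K7.f58859 IH) (Lpr_ct (K4.f34765 IH) (Lpe (K4.f104727 IH) (Lpr_ct (K4.f34734 IH) (Lpr_df (K7.f149081 IH) (Lpe (K6.f102343 IH) (Lpe (K7.f102346 IH) (Lpr_cf (K7.f149357 IH) (Lpr_gf (K6.f59888 IH) (Lpn (LP (LK LD1_c8 LD2_c0 LD3_c1))))))))))))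
theorem f139133 : Led Lsl_ft (LP (LK LD1_c4 LD2_c46 LD3_c43)) = (LP (LK LD1_c2 LD2_c56 LD3_c39)) :=
  Lgr Lrot48 (Lpr_ff (K6.f139130 IH) (Lpn (LP (LK LD1_c2 LD2_c56 LD3_c39))))
theorem f139299 : Led Lsl_ff (LP (LK LD1_c3 LD2_c0 LD3_c37)) = (LP (LK LD1_c4 LD2_c40 LD3_c35)) :=
  Lgr Lrot19 (Lpr_dt (K6.f139295 IH) (Lpr_ft (f139133 IH) (Lpe (K2.f74504 IH) (Lpn (LP (LK LD1_c4 LD2_c40 LD3_c35))))))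
theorem f139305 : Led Lsl_bt (LP (LK LD1_c3 LD2_c0 LD3_c37)) = (LP (LK LD1_c6 LD2_c8 LD3_c36)) :=
  Lre_b IH (LK LD1_c3 LD2_c0 LD3_c37) (LK LD1_c6 LD2_c8 LD3_c36) Lrfl Lrfl
theorem f139306 : Led Lsl_ft (LP (LK LD1_c6 LD2_c8 LD3_c36)) = (LP (LK LD1_c9 LD2_c16 LD3_c31)) :=
  Lgr Lrot75 (Lpe (f139305 IH) (Lpr_ff (f139299 IH) (Lpe (K4.f74557 IH) (Lpn (LP (LK LD1_c9 LD2_c16 LD3_c31))))))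
theorem f139446 : Led Lsl_ct (LP (LK LD1_c8 LD2_c0 LD3_c1)) = (LP (LK LD1_c6 LD2_c8 LD3_c36)) :=
  Lgr Lrot40 (Lpr_ff (K6.f139444 IH) (Lpe (K4.f99472 IH) (Lpe (f139306 IH) (Lpn (LP (LK LD1_c6 LD2_c8 LD3_c36))))))
theorem f163306 : Led Lsl_ff (LP (LK LD1_c1 LD2_c22 LD3_c13)) = (LP (LK LD1_c2 LD2_c14 LD3_c22)) :=
  Lgr Lrot23 (Lpr_ct (K8.f22776 IH) (Lpr_ft (K8.f163302 IH) (Lpr_ct (K6.f71053 IH) (Lpn (LP (LK LD1_c2 LD2_c14 LD3_c22))))))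
theorem f163284 : Led Lsl_at (LP (LK LD1_c1 LD2_c22 LD3_c13)) = (LP (LK LD1_c2 LD2_c27 LD3_c17)) :=
  Lgr Lrot100 (Lpr_af (K8.f163282 IH) (Lpn (LP (LK LD1_c2 LD2_c27 LD3_c17))))
theorem f112746 : Led Lsl_dt (LP (LK LD1_c4 LD2_c36 LD3_c5)) = (LP (LK LD1_c2 LD2_c15 LD3_c14)) :=
  Lre_d IH (LK LD1_c4 LD2_c36 LD3_c5) (LK LD1_c2 LD2_c15 LD3_c14) Lrfl Lrfl
theorem f112740 : Led Lsl_ct (LP (LK LD1_c9 LD2_c8 LD3_c23)) = (LP (LK LD1_c4 LD2_c36 LD3_c5)) :=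
  Lre_c IH (LK LD1_c9 LD2_c8 LD3_c23) (LK LD1_c4 LD2_c36 LD3_c5) Lrfl Lrfl
theorem f163344 : Led Lsl_dt (LP (LK LD1_c6 LD2_c8 LD3_c36)) = (LP (LK LD1_c9 LD2_c8 LD3_c23)) :=
  Lgr Lrot140 (Lpe (f139446 IH) (Lpe (f149372 IH) (Lpe (K8.f58860 IH) (Lpr_df (K8.f163336 IH) (Lpe (f163306 IH) (Lpr_at (f163284 IH) (Lpr_cf (K8.f161322 IH) (Lpe (f112746 IH) (Lpe (f112740 IH) (Lpn (LP (LK LD1_c9 LD2_c8 LD3_c23))))))))))))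
theorem f71058 : Led Lsl_dt (LP (LK LD1_c4 LD2_c36 LD3_c7)) = (LP (LK LD1_c2 LD2_c15 LD3_c15)) :=
  Lre_d IH (LK LD1_c4 LD2_c36 LD3_c7) (LK LD1_c2 LD2_c15 LD3_c15) Lrfl Lrfl
theorem f99484 : Led Lsl_dt (LP (LK LD1_c2 LD2_c53 LD3_c28)) = (LP (LK LD1_c1 LD2_c22 LD3_c48)) :=
  Lre_d IH (LK LD1_c2 LD2_c53 LD3_c28) (LK LD1_c1 LD2_c22 LD3_c48) Lrfl Lrfl
theorem f71050 : Led Lsl_dt (LP (LK LD1_c2 LD2_c15 LD3_c15)) = (LP (LK LD1_c4 LD2_c36 LD3_c7)) :=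
  Lre_d IH (LK LD1_c2 LD2_c15 LD3_c15) (LK LD1_c4 LD2_c36 LD3_c7) Lrfl Lrfl
theorem f163308 : Led Lsl_ff (LP (LK LD1_c2 LD2_c53 LD3_c28)) = (LP (LK LD1_c4 LD2_c36 LD3_c7)) :=
  Lgr Lrot19 (Lpr_dt (f99484 IH) (Lpr_ft (K8.f163302 IH) (Lpr_dt (f71050 IH) (Lpn (LP (LK LD1_c4 LD2_c36 LD3_c7))))))
theorem f163350 : Led Lsl_at (LP (LK LD1_c2 LD2_c53 LD3_c28)) = (LP (LK LD1_c4 LD2_c36 LD3_c5)) :=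
  Lgr Lrot33 (Lpr_ff (f163308 IH) (Lpr_dt (f71058 IH) (Lpr_ct (K6.f71053 IH) (Lpe (K8.f163336 IH) (Lpr_ct (K8.f58860 IH) (Lpr_dt (f149372 IH) (Lpr_ct (f139446 IH) (Lpr_dt (f163344 IH) (Lpr_ct (f112740 IH) (Lpn (LP (LK LD1_c4 LD2_c36 LD3_c5))))))))))))
theorem f137499 : Led Lsl_ct (LP (LK LD1_c5 LD2_c54 LD3_c7)) = (LP (LK LD1_c2 LD2_c53 LD3_c28)) :=
  Lre_c IH (LK LD1_c5 LD2_c54 LD3_c7) (LK LD1_c2 LD2_c53 LD3_c28) Lrfl Lrfl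
theorem f112741 : Led Lsl_ct (LP (LK LD1_c4 LD2_c36 LD3_c5)) = (LP (LK LD1_c9 LD2_c8 LD3_c23)) :=
  Lre_c IH (LK LD1_c4 LD2_c36 LD3_c5) (LK LD1_c9 LD2_c8 LD3_c23) Lrfl Lrfl
theorem f163510 : Led Lsl_af (LP (LK LD1_c5 LD2_c54 LD3_c7)) = (LP (LK LD1_c9 LD2_c8 LD3_c23)) :=
  Lgr Lrot68 (Lpr_ct (f137499 IH) (Lpr_at (f163350 IH) (Lpr_ct (f112741 IH) (Lpn (LP (LK LD1_c9 LD2_c8 LD3_c23))))))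
theorem f137498 : Led Lsl_ct (LP (LK LD1_c2 LD2_c53 LD3_c28)) = (LP (LK LD1_c5 LD2_c54 LD3_c7)) :=
  Lre_c IH (LK LD1_c2 LD2_c53 LD3_c28) (LK LD1_c5 LD2_c54 LD3_c7) Lrfl Lrfl
theorem f137494 : Led Lsl_dt (LP (LK LD1_c1 LD2_c22 LD3_c48)) = (LP (LK LD1_c2 LD2_c53 LD3_c28)) :=
  Lre_d IH (LK LD1_c1 LD2_c22 LD3_c48) (LK LD1_c2 LD2_c53 LD3_c28) Lrfl Lrfl
theorem f163522 : Led Lsl_ft (LP (LK LD1_c5 LD2_c54 LD3_c4)) = (LP (LK LD1_c9 LD2_c8 LD3_c23)) :=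
  Lgr Lrot142 (Lpe (K6.f76305 IH) (Lpr_ct (K4.f99472 IH) (Lpe (K7.f139485 IH) (Lpr_ct (K8.f26500 IH) (Lpr_dt (K8.f163324 IH) (Lpr_ct (K8.f22776 IH) (Lpr_dt (f137494 IH) (Lpr_ct (f137498 IH) (Lpr_af (f163510 IH) (Lpn (LP (LK LD1_c9 LD2_c8 LD3_c23))))))))))))
theorem f150234 : Led Lsl_gt (LP (LK LD1_c11 LD2_c58 LD3_c43)) = (LP (LK LD1_c6 LD2_c8 LD3_c36)) :=
  Lre_g IH (LK LD1_c11 LD2_c58 LD3_c43) (LK LD1_c6 LD2_c8 LD3_c36) Lrfl Lrfl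
theorem f112739 : Led Lsl_dt (LP (LK LD1_c2 LD2_c15 LD3_c14)) = (LP (LK LD1_c4 LD2_c36 LD3_c5)) :=
  Lre_d IH (LK LD1_c2 LD2_c15 LD3_c14) (LK LD1_c4 LD2_c36 LD3_c5) Lrfl Lrfl
theorem f112715 : Led Lsl_ct (LP (LK LD1_c6 LD2_c14 LD3_c33)) = (LP (LK LD1_c3 LD2_c4 LD3_c10)) :=
  Lre_c IH (LK LD1_c6 LD2_c14 LD3_c33) (LK LD1_c3 LD2_c4 LD3_c10) Lrfl Lrfl
theorem f112714 : Led Lsl_ct (LP (LK LD1_c3 LD2_c4 LD3_c10)) = (LP (LK LD1_c6 LD2_c14 LD3_c33)) :=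
  Lre_c IH (LK LD1_c3 LD2_c4 LD3_c10) (LK LD1_c6 LD2_c14 LD3_c33) Lrfl Lrfl
theorem f72416 : Led Lsl_ct (LP (LK LD1_c9 LD2_c48 LD3_c9)) = (LP (LK LD1_c4 LD2_c58 LD3_c54)) :=
  Lre_c IH (LK LD1_c9 LD2_c48 LD3_c9) (LK LD1_c4 LD2_c58 LD3_c54) Lrfl Lrfl
theorem f138829 : Led Lsl_gt (LP (LK LD1_c6 LD2_c14 LD3_c33)) = (LP (LK LD1_c9 LD2_c48 LD3_c9)) :=
  Lgr Lrot150 (Lpe (f112714 IH) (Lpr_gf (K6.f112706 IH) (Lpe (K7.f70924 IH) (Lpe (K6.f71048 IH) (Lpr_ct (K6.f71053 IH) (Lpr_gt (K6.f138743 IH) (Lpr_ct (K2.f72404 IH) (Lpe (K8.f72427 IH) (Lpe (f72416 IH) (Lpn (LP (LK LD1_c9 LD2_c48 LD3_c9))))))))))))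
theorem f163352 : Led Lsl_df (LP (LK LD1_c11 LD2_c58 LD3_c43)) = (LP (LK LD1_c9 LD2_c48 LD3_c9)) :=
  Lgr Lrot153 (Lpr_gt (f150234 IH) (Lpr_dt (f163344 IH) (Lpe (f112741 IH) (Lpe (f112739 IH) (Lpe (K8.f112400 IH) (Lpe (K8.f37817 IH) (Lpe (K6.f112710 IH) (Lpe (f112715 IH) (Lpr_gt (f138829 IH) (Lpn (LP (LK LD1_c9 LD2_c48 LD3_c9))))))))))))
theorem f163435 : Led Lsl_ct (LP (LK LD1_c6 LD2_c8 LD3_c36)) = (LP (LK LD1_c8 LD2_c0 LD3_c1)) :=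
  Lgr Lrot152 (Lpe (f150234 IH) (Lpr_df (f163352 IH) (Lpe (K8.f158849 IH) (Lpe (K4.f75092 IH) (Lpe (K4.f112386 IH) (Lpr_ct (K6.f70923 IH) (Lpe (K8.f149369 IH) (Lpr_cf (K7.f149357 IH) (Lpr_gf (K6.f59888 IH) (Lpn (LP (LK LD1_c8 LD2_c0 LD3_c1))))))))))))
theorem f163346 : Led Lsl_df (LP (LK LD1_c6 LD2_c8 LD3_c36)) = (LP (LK LD1_c9 LD2_c8 LD3_c23)) :=
  Lgr Lrot38 (Lpr_dt (f163344 IH) (Lpn (LP (LK LD1_c9 LD2_c8 LD3_c23))))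
theorem f139308 : Led Lsl_ff (LP (LK LD1_c6 LD2_c8 LD3_c36)) = (LP (LK LD1_c9 LD2_c16 LD3_c31)) :=
  Lgr Lrot3 (Lpr_ft (f139306 IH) (Lpn (LP (LK LD1_c9 LD2_c16 LD3_c31))))
theorem f163348 : Led Lsl_ff (LP (LK LD1_c5 LD2_c54 LD3_c4)) = (LP (LK LD1_c9 LD2_c8 LD3_c23)) :=
  Lgr Lrot19 (Lpe (K6.f76305 IH) (Lpe (f139308 IH) (Lpr_dt (f163344 IH) (Lpn (LP (LK LD1_c9 LD2_c8 LD3_c23))))))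
theorem f71051 : Led Lsl_ct (LP (LK LD1_c4 LD2_c36 LD3_c7)) = (LP (LK LD1_c9 LD2_c8 LD3_c25)) :=
  Lre_c IH (LK LD1_c4 LD2_c36 LD3_c7) (LK LD1_c9 LD2_c8 LD3_c25) Lrfl Lrfl
theorem f163444 : Led Lsl_at (LP (LK LD1_c5 LD2_c54 LD3_c4)) = (LP (LK LD1_c9 LD2_c8 LD3_c25)) :=
  Lgr Lrot33 (Lpr_ff (f163348 IH) (Lpe (f163346 IH) (Lpr_ct (f163435 IH) (Lpe (K7.f149374 IH) (Lpe (K8.f58891 IH) (Lpr_dt (K8.f163332 IH) (Lpr_ct (K7.f71054 IH) (Lpr_dt (f71050 IH) (Lpr_ct (f71051 IH) (Lpn (LP (LK LD1_c9 LD2_c8 LD3_c25))))))))))))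
theorem f163468 : Led Lsl_af (LP (LK LD1_c5 LD2_c54 LD3_c4)) = (LP (LK LD1_c9 LD2_c8 LD3_c25)) :=
  Lgr Lrot0 (Lpr_at (f163444 IH) (Lpn (LP (LK LD1_c9 LD2_c8 LD3_c25))))
theorem f163524 : Led Lsl_ff (LP (LK LD1_c9 LD2_c8 LD3_c25)) = (LP (LK LD1_c5 LD2_c54 LD3_c7)) :=
  Lgr Lrot30 (Lpe (f163468 IH) (Lpr_ft (f163522 IH) (Lpe (f163510 IH) (Lpn (LP (LK LD1_c5 LD2_c54 LD3_c7))))))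
theorem f163531 : Led Lsl_gf (LP (LK LD1_c11 LD2_c33 LD3_c56)) = (LP (LK LD1_c5 LD2_c54 LD3_c7)) :=
  Lgr Lrot47 (Lpr_gt (K8.f76315 IH) (Lpr_af (f163468 IH) (Lpr_ff (f163524 IH) (Lpn (LP (LK LD1_c5 LD2_c54 LD3_c7))))))
theorem f137495 : Led Lsl_gt (LP (LK LD1_c2 LD2_c53 LD3_c28)) = (LP (LK LD1_c1 LD2_c28 LD3_c9)) :=
  Lgr Lrot9 (Lpe (f137494 IH) (Lpr_gt (K8.f22775 IH) (Lpr_ct (K2.f22774 IH) (Lpr_gt (K2.f37955 IH) (Lpr_ct (K2.f71210 IH) (Lpe (K6.f72262 IH) (Lpe (K6.f72356 IH) (Lpr_gf (K6.f137489 IH) (Lpe (K6.f38024 IH) (Lpn (LP (LK LD1_c1 LD2_c28 LD3_c9))))))))))))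
theorem f59802 : Led Lsl_dt (LP (LK LD1_c1 LD2_c28 LD3_c9)) = (LP (LK LD1_c0 LD2_c40 LD3_c45)) :=
  Lre_d IH (LK LD1_c1 LD2_c28 LD3_c9) (LK LD1_c0 LD2_c40 LD3_c45) Lrfl Lrfl
theorem f69037 : Led Lsl_gt (LP (LK LD1_c6 LD2_c0 LD3_c38)) = (LP (LK LD1_c2 LD2_c56 LD3_c34)) :=
  Lre_g IH (LK LD1_c6 LD2_c0 LD3_c38) (LK LD1_c2 LD2_c56 LD3_c34) Lrfl Lrfl
theorem f163533 : Led Lsl_dt (LP (LK LD1_c11 LD2_c33 LD3_c56)) = (LP (LK LD1_c6 LD2_c0 LD3_c38)) :=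
  Lgr Lrot57 (Lpr_gf (f163531 IH) (Lpe (f137498 IH) (Lpr_gt (f137495 IH) (Lpr_dt (f59802 IH) (Lpr_gt (K4.f59713 IH) (Lpr_dt (K4.f75082 IH) (Lpr_cf (K4.f75092 IH) (Lpe (K8.f75099 IH) (Lpe (f69037 IH) (Lpn (LP (LK LD1_c6 LD2_c0 LD3_c38))))))))))))
theorem f163537 : Led Lsl_df (LP (LK LD1_c11 LD2_c33 LD3_c56)) = (LP (LK LD1_c6 LD2_c0 LD3_c38)) :=
  Lgr Lrot38 (Lpr_dt (f163533 IH) (Lpn (LP (LK LD1_c6 LD2_c0 LD3_c38))))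
theorem f104870 : Led Lsl_ct (LP (LK LD1_c4 LD2_c42 LD3_c36)) = (LP (LK LD1_c9 LD2_c19 LD3_c26)) :=
  Lre_c IH (LK LD1_c4 LD2_c42 LD3_c36) (LK LD1_c9 LD2_c19 LD3_c26) Lrfl Lrfl
theorem f202070 : Led Lsl_df (LP (LK LD1_c6 LD2_c1 LD3_c50)) = (LP (LK LD1_c9 LD2_c19 LD3_c26)) :=
  Lgr Lrot162 (Lpe (K6.f26518 IH) (Lpr_gf (K6.f79935 IH) (Lpe (K6.f69024 IH) (Lpe (f69037 IH) (Lpe (f163537 IH) (Lpr_gt (K8.f76315 IH) (Lpr_ct (K8.f76303 IH) (Lpr_gt (f202059 IH) (Lpr_ct (f104870 IH) (Lpn (LP (LK LD1_c9 LD2_c19 LD3_c26))))))))))))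
theorem f70867 : Led Lsl_ct (LP (LK LD1_c9 LD2_c8 LD3_c14)) = (LP (LK LD1_c5 LD2_c54 LD3_c14)) :=
  Lgr Lrot59 (Lpr_cf (K2.f70865 IH) (Lpn (LP (LK LD1_c5 LD2_c54 LD3_c14))))
theorem f202089 : Led Lsl_gt (LP (LK LD1_c5 LD2_c53 LD3_c31)) = (LP (LK LD1_c9 LD2_c19 LD3_c26)) :=
  Lgr Lrot49 (Lpr_df (K6.f104456 IH) (Lpe (K8.f102931 IH) (Lpe (f70867 IH) (Lpr_gt (K4.f71174 IH) (Lpe (K7.f139485 IH) (Lpr_gt (K6.f26487 IH) (Lpr_dt (K6.f26503 IH) (Lpe (K6.f69145 IH) (Lpr_df (f202070 IH) (Lpn (LP (LK LD1_c9 LD2_c19 LD3_c26))))))))))))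
theorem f78277 : Led Lsl_at (LP (LK LD1_c4 LD2_c42 LD3_c37)) = (LP (LK LD1_c9 LD2_c19 LD3_c26)) :=
  Lre_a IH (LK LD1_c4 LD2_c42 LD3_c37) (LK LD1_c9 LD2_c19 LD3_c26) Lrfl Lrfl
theorem f202093 : Led Lsl_ft (LP (LK LD1_c3 LD2_c4 LD3_c14)) = (LP (LK LD1_c4 LD2_c42 LD3_c37)) :=
  Lgr Lrot2 (Lpe (K6.f137489 IH) (Lpr_gt (f202089 IH) (Lpe (f78277 IH) (Lpn (LP (LK LD1_c4 LD2_c42 LD3_c37))))))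
theorem f75634 : Led Lsl_dt (LP (LK LD1_c3 LD2_c4 LD3_c14)) = (LP (LK LD1_c6 LD2_c14 LD3_c40)) :=
  Lre_d IH (LK LD1_c3 LD2_c4 LD3_c14) (LK LD1_c6 LD2_c14 LD3_c40) Lrfl Lrfl
theorem f104869 : Led Lsl_dt (LP (LK LD1_c2 LD2_c18 LD3_c45)) = (LP (LK LD1_c4 LD2_c42 LD3_c36)) :=
  Lre_d IH (LK LD1_c2 LD2_c18 LD3_c45) (LK LD1_c4 LD2_c42 LD3_c36) Lrfl Lrfl
theorem f104868 : Led Lsl_ct (LP (LK LD1_c1 LD2_c6 LD3_c31)) = (LP (LK LD1_c2 LD2_c18 LD3_c45)) :=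
  Lre_c IH (LK LD1_c1 LD2_c6 LD3_c31) (LK LD1_c2 LD2_c18 LD3_c45) Lrfl Lrfl
theorem f104807 : Led Lsl_dt (LP (LK LD1_c0 LD2_c30 LD3_c25)) = (LP (LK LD1_c1 LD2_c5 LD3_c6)) :=
  Lgr Lrot6 (Lpr_gt (K4.f56602 IH) (Lpr_ct (K4.f60939 IH) (Lpr_gt (K4.f60940 IH) (Lpe (K4.f60945 IH) (Lpr_df (K4.f104803 IH) (Lpe (K4.f104791 IH) (Lpe (K4.f104779 IH) (Lpe (K4.f34734 IH) (Lpr_gf (K4.f104727 IH) (Lpn (LP (LK LD1_c1 LD2_c5 LD3_c6))))))))))))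
theorem f78289 : Led Lsl_at (LP (LK LD1_c1 LD2_c6 LD3_c31)) = (LP (LK LD1_c0 LD2_c30 LD3_c25)) :=
  Lre_a IH (LK LD1_c1 LD2_c6 LD3_c31) (LK LD1_c0 LD2_c30 LD3_c25) Lrfl Lrfl
theorem f104809 : Led Lsl_at (LP (LK LD1_c1 LD2_c5 LD3_c6)) = (LP (LK LD1_c2 LD2_c16 LD3_c24)) :=
  Lre_a IH (LK LD1_c1 LD2_c5 LD3_c6) (LK LD1_c2 LD2_c16 LD3_c24) Lrfl Lrfl
theorem f104810 : Led Lsl_df (LP (LK LD1_c1 LD2_c6 LD3_c31)) = (LP (LK LD1_c2 LD2_c16 LD3_c24)) :=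
  Lgr Lrot18 (Lpr_at (f78289 IH) (Lpr_dt (f104807 IH) (Lpr_at (f104809 IH) (Lpn (LP (LK LD1_c2 LD2_c16 LD3_c24))))))
theorem f104871 : Led Lsl_ct (LP (LK LD1_c4 LD2_c38 LD3_c43)) = (LP (LK LD1_c2 LD2_c16 LD3_c24)) :=
  Lre_c IH (LK LD1_c4 LD2_c38 LD3_c43) (LK LD1_c2 LD2_c16 LD3_c24) Lrfl Lrfl
theorem f104872 : Led Lsl_dt (LP (LK LD1_c9 LD2_c13 LD3_c15)) = (LP (LK LD1_c4 LD2_c38 LD3_c43)) :=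
  Lre_d IH (LK LD1_c9 LD2_c13 LD3_c15) (LK LD1_c4 LD2_c38 LD3_c43) Lrfl Lrfl
theorem f202107 : Led Lsl_ct (LP (LK LD1_c6 LD2_c14 LD3_c40)) = (LP (LK LD1_c9 LD2_c13 LD3_c15)) :=
  Lgr Lrot133 (Lpe (f75634 IH) (Lpr_ft (f202093 IH) (Lpr_at (f78277 IH) (Lpe (f104870 IH) (Lpe (f104869 IH) (Lpe (f104868 IH) (Lpr_df (f104810 IH) (Lpe (f104871 IH) (Lpe (f104872 IH) (Lpn (LP (LK LD1_c9 LD2_c13 LD3_c15))))))))))))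
theorem f69034 : Led Lsl_dt (LP (LK LD1_c6 LD2_c0 LD3_c41)) = (LP (LK LD1_c2 LD2_c56 LD3_c34)) :=
  Lre_d IH (LK LD1_c6 LD2_c0 LD3_c41) (LK LD1_c2 LD2_c56 LD3_c34) Lrfl Lrfl
theorem f69035 : Led Lsl_ct (LP (LK LD1_c6 LD2_c0 LD3_c40)) = (LP (LK LD1_c2 LD2_c56 LD3_c34)) :=
  Lre_c IH (LK LD1_c6 LD2_c0 LD3_c40) (LK LD1_c2 LD2_c56 LD3_c34) Lrfl Lrfl
theorem f202127 : Led Lsl_gf (LP (LK LD1_c6 LD2_c0 LD3_c40)) = (LP (LK LD1_c9 LD2_c13 LD3_c15)) :=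
  Lgr Lrot104 (Lpr_ct (f69035 IH) (Lpe (f69034 IH) (Lpe (K4.f75084 IH) (Lpe (K4.f112393 IH) (Lpe (K4.f37813 IH) (Lpr_gf (K6.f112401 IH) (Lpe (K6.f102095 IH) (Lpe (K6.f99135 IH) (Lpr_ct (f202107 IH) (Lpn (LP (LK LD1_c9 LD2_c13 LD3_c15))))))))))))
theorem f158505 : Led Lsl_cf (LP (LK LD1_c6 LD2_c0 LD3_c37)) = (LP (LK LD1_c9 LD2_c23 LD3_c42)) :=
  Lgr Lrot97 (Lpr_bt (K8.f158504 IH) (Lpr_ct (K8.f158497 IH) (Lpe (K8.f130403 IH) (Lpr_ct (K6.f130308 IH) (Lpe (K8.f130313 IH) (Lpn (LP (LK LD1_c9 LD2_c23 LD3_c42))))))))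
theorem f130315 : Led Lsl_bt (LP (LK LD1_c9 LD2_c23 LD3_c42)) = (LP (LK LD1_c14 LD2_c13 LD3_c49)) :=
  Lgr Lrot127 (Lpr_bf (K8.f130313 IH) (Lpn (LP (LK LD1_c14 LD2_c13 LD3_c49))))
theorem f104078 : Led Lsl_at (LP (LK LD1_c13 LD2_c17 LD3_c42)) = (LP (LK LD1_c7 LD2_c0 LD3_c27)) :=
  Lre_a IH (LK LD1_c13 LD2_c17 LD3_c42) (LK LD1_c7 LD2_c0 LD3_c27) Lrfl Lrfl
theorem f127837 : Led Lsl_gf (LP (LK LD1_c13 LD2_c17 LD3_c22)) = (LP (LK LD1_c7 LD2_c32 LD3_c45)) :=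
  Lgr Lrot47 (Lpr_gt (K8.f127655 IH) (Lpe (f104078 IH) (Lpr_ff (K5.f127827 IH) (Lpn (LP (LK LD1_c7 LD2_c32 LD3_c45))))))
theorem f151464 : Led Lsl_gf (LP (LK LD1_c13 LD2_c0 LD3_c60)) = (LP (LK LD1_c14 LD2_c13 LD3_c49)) :=
  Lgr Lrot129 (Lpr_cf (K6.f127688 IH) (Lpe (K5.f127686 IH) (Lpe (f127837 IH) (Lpe (K8.f151432 IH) (Lpr_ct (K8.f93866 IH) (Lpe (K8.f93864 IH) (Lpr_cf (K7.f151451 IH) (Lpr_bt (K8.f144766 IH) (Lpe (K8.f145040 IH) (Lpr_ct (K6.f130308 IH) (Lpn (LP (LK LD1_c14 LD2_c13 LD3_c49)))))))))))))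
theorem f61147 : Led Lsl_bt (LP (LK LD1_c17 LD2_c7 LD3_c43)) = (LP (LK LD1_c9 LD2_c13 LD3_c15)) :=
  Lre_b IH (LK LD1_c17 LD2_c7 LD3_c43) (LK LD1_c9 LD2_c13 LD3_c15) Lrfl Lrfl
theorem f75572 : Led Lsl_df (LP (LK LD1_c5 LD2_c59 LD3_c46)) = (LP (LK LD1_c4 LD2_c24 LD3_c21)) :=
  Lgr Lrot38 (Lpr_dt (K6.f75538 IH) (Lpn (LP (LK LD1_c4 LD2_c24 LD3_c21))))
theorem f70231 : Led Lsl_bt (LP (LK LD1_c0 LD2_c40 LD3_c46)) = (LP (LK LD1_c1 LD2_c28 LD3_c9)) :=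
  Lre_b IH (LK LD1_c0 LD2_c40 LD3_c46) (LK LD1_c1 LD2_c28 LD3_c9) Lrfl Lrfl
theorem f70431 : Led Lsl_bt (LP (LK LD1_c3 LD2_c4 LD3_c14)) = (LP (LK LD1_c4 LD2_c24 LD3_c21)) :=
  Lgr Lrot128 (Lpe (K6.f38024 IH) (Lpe (f70231 IH) (Lpr_cf (K2.f70229 IH) (Lpe (K6.f70429 IH) (Lpe (K6.f70430 IH) (Lpn (LP (LK LD1_c4 LD2_c24 LD3_c21))))))))
theorem f75619 : Led Lsl_bt (LP (LK LD1_c5 LD2_c59 LD3_c46)) = (LP (LK LD1_c6 LD2_c14 LD3_c40)) :=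
  Lgr Lrot95 (Lpr_df (f75572 IH) (Lpe (f70431 IH) (Lpe (K6.f38098 IH) (Lpn (LP (LK LD1_c6 LD2_c14 LD3_c40))))))
theorem f61170 : Led Lsl_bt (LP (LK LD1_c9 LD2_c13 LD3_c15)) = (LP (LK LD1_c17 LD2_c7 LD3_c43)) :=
  Lre_b IH (LK LD1_c9 LD2_c13 LD3_c15) (LK LD1_c17 LD2_c7 LD3_c43) Lrfl Lrfl
theorem f202111 : Led Lsl_cf (LP (LK LD1_c20 LD2_c45 LD3_c10)) = (LP (LK LD1_c17 LD2_c7 LD3_c43)) :=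
  Lgr Lrot97 (Lpr_bt (K6.f75627 IH) (Lpr_ct (K6.f26429 IH) (Lpr_bt (f75619 IH) (Lpr_ct (f202107 IH) (Lpr_bt (f61170 IH) (Lpn (LP (LK LD1_c17 LD2_c7 LD3_c43))))))))
theorem f202152 : Led Lsl_gt (LP (LK LD1_c13 LD2_c0 LD3_c61)) = (LP (LK LD1_c20 LD2_c45 LD3_c10)) :=
  Lgr Lrot65 (Lpe (K6.f40562 IH) (Lpr_bt (K6.f79454 IH) (Lpr_gf (f151464 IH) (Lpe (f130315 IH) (Lpe (f158505 IH) (Lpe (K8.f69036 IH) (Lpe (f69035 IH) (Lpr_gf (f202127 IH) (Lpe (f61147 IH) (Lpe (f202111 IH) (Lpn (LP (LK LD1_c20 LD2_c45 LD3_c10)))))))))))))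
theorem f114932 : Led Lsl_bt (LP (LK LD1_c12 LD2_c32 LD3_c60)) = (LP (LK LD1_c13 LD2_c0 LD3_c61)) :=
  Lgr Lrot127 (Lpr_bf (K6.f114930 IH) (Lpn (LP (LK LD1_c13 LD2_c0 LD3_c61))))
theorem f38190 : Led Lsl_bt (LP (LK LD1_c21 LD2_c12 LD3_c20)) = (LP (LK LD1_c12 LD2_c6 LD3_c16)) :=
  Lre_b IH (LK LD1_c21 LD2_c12 LD3_c20) (LK LD1_c12 LD2_c6 LD3_c16) Lrfl Lrfl
theorem f80711 : Led Lsl_df (LP (LK LD1_c21 LD2_c12 LD3_c20)) = (LP (LK LD1_c20 LD2_c45 LD3_c10)) :=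
  Lgr Lrot12 (Lpr_bt (f38190 IH) (Lpr_dt (K6.f80709 IH) (Lpr_bt (K6.f26430 IH) (Lpn (LP (LK LD1_c20 LD2_c45 LD3_c10))))))
theorem f38191 : Led Lsl_ct (LP (LK LD1_c21 LD2_c12 LD3_c20)) = (LP (LK LD1_c12 LD2_c7 LD3_c27)) :=
  Lre_c IH (LK LD1_c21 LD2_c12 LD3_c20) (LK LD1_c12 LD2_c7 LD3_c27) Lrfl Lrfl
theorem f75807 : Led Lsl_bt (LP (LK LD1_c12 LD2_c7 LD3_c27)) = (LP (LK LD1_c6 LD2_c14 LD3_c37)) :=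
  Lre_b IH (LK LD1_c12 LD2_c7 LD3_c27) (LK LD1_c6 LD2_c14 LD3_c37) Lrfl Lrfl
theorem f202155 : Led Lsl_gf (LP (LK LD1_c4 LD2_c44 LD3_c49)) = (LP (LK LD1_c6 LD2_c14 LD3_c37)) :=
  Lgr Lrot85 (Lpr_dt (K7.f102344 IH) (Lpr_ct (K6.f102343 IH) (Lpr_bt (K3.f102342 IH) (Lpe (K3.f99091 IH) (Lpr_dt (K2.f66813 IH) (Lpr_ct (K2.f90950 IH) (Lpr_bt (K7.f90938 IH) (Lpr_gt (K8.f162328 IH) (Lpr_dt (K8.f14740 IH) (Lpr_ct (K8.f16687 IH) (Lpe (K5.f89729 IH) (Lpr_gt (K5.f127906 IH) (Lpe (K5.f93033 IH) (Lpe (K5.f127668 IH) (Lpr_bt (f114932 IH) (Lpr_gt (f202152 IH) (Lpe (f80711 IH) (Lpr_ct (f38191 IH) (Lpr_bt (f75807 IH) (Lpn (LP (LK LD1_c6 LD2_c14 LD3_c37))))))))))))))))))))))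
theorem f80777 : Led Lsl_ct (LP (LK LD1_c3 LD2_c4 LD3_c12)) = (LP (LK LD1_c6 LD2_c14 LD3_c37)) :=
  Lre_c IH (LK LD1_c3 LD2_c4 LD3_c12) (LK LD1_c6 LD2_c14 LD3_c37) Lrfl Lrfl
theorem f202161 : Led Lsl_gf (LP (LK LD1_c4 LD2_c36 LD3_c7)) = (LP (LK LD1_c3 LD2_c4 LD3_c12)) :=
  Lgr Lrot144 (Lpr_dt (f71058 IH) (Lpr_gt (K6.f71047 IH) (Lpr_dt (K4.f37812 IH) (Lpe (K4.f37813 IH) (Lpr_df (K8.f149453 IH) (Lpe (K7.f99087 IH) (Lpe (K7.f102344 IH) (Lpr_gf (f202155 IH) (Lpe (f80777 IH) (Lpn (LP (LK LD1_c3 LD2_c4 LD3_c12))))))))))))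
theorem f149932 : Led Lsl_gt (LP (LK LD1_c4 LD2_c36 LD3_c7)) = (LP (LK LD1_c2 LD2_c18 LD3_c46)) :=
  Lgr Lrot9 (Lpe (f71050 IH) (Lpr_gt (K6.f71047 IH) (Lpr_ct (K7.f35550 IH) (Lpr_gt (K4.f34732 IH) (Lpr_ct (K7.f104777 IH) (Lpe (K7.f104778 IH) (Lpe (K7.f149042 IH) (Lpr_gf (K7.f149926 IH) (Lpe (K6.f59233 IH) (Lpn (LP (LK LD1_c2 LD2_c18 LD3_c46))))))))))))
theorem f202192 : Led Lsl_ff (LP (LK LD1_c4 LD2_c42 LD3_c36)) = (LP (LK LD1_c3 LD2_c4 LD3_c12)) :=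
  Lgr Lrot52 (Lpr_at (f78290 IH) (Lpe (f149932 IH) (Lpr_gf (f202161 IH) (Lpn (LP (LK LD1_c3 LD2_c4 LD3_c12))))))
theorem f202100 : Led Lsl_ff (LP (LK LD1_c6 LD2_c14 LD3_c40)) = (LP (LK LD1_c4 LD2_c45 LD3_c38)) :=
  Lgr Lrot19 (Lpr_dt (K6.f38098 IH) (Lpr_ft (f202093 IH) (Lpe (K8.f78281 IH) (Lpn (LP (LK LD1_c4 LD2_c45 LD3_c38))))))
theorem f69141 : Led Lsl_at (LP (LK LD1_c6 LD2_c1 LD3_c41)) = (LP (LK LD1_c2 LD2_c57 LD3_c1)) :=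
  Lre_a IH (LK LD1_c6 LD2_c1 LD3_c41) (LK LD1_c2 LD2_c57 LD3_c1) Lrfl Lrfl
theorem f202084 : Led Lsl_ff (LP (LK LD1_c6 LD2_c1 LD3_c41)) = (LP (LK LD1_c9 LD2_c13 LD3_c15)) :=
  Lgr Lrot103 (Lpr_at (f69141 IH) (Lpe (K6.f69145 IH) (Lpr_df (f202070 IH) (Lpe (f104870 IH) (Lpe (f104869 IH) (Lpe (f104868 IH) (Lpr_df (f104810 IH) (Lpe (f104871 IH) (Lpe (f104872 IH) (Lpn (LP (LK LD1_c9 LD2_c13 LD3_c15))))))))))))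
theorem f202117 : Led Lsl_cf (LP (LK LD1_c4 LD2_c45 LD3_c38)) = (LP (LK LD1_c6 LD2_c1 LD3_c41)) :=
  Lgr Lrot108 (Lpe (f202100 IH) (Lpr_ct (f202107 IH) (Lpe (f202084 IH) (Lpn (LP (LK LD1_c6 LD2_c1 LD3_c41))))))
theorem f202207 : Led Lsl_dt (LP (LK LD1_c2 LD2_c56 LD3_c59)) = (LP (LK LD1_c6 LD2_c1 LD3_c41)) :=
  Lre_d IH (LK LD1_c2 LD2_c56 LD3_c59) (LK LD1_c6 LD2_c1 LD3_c41) Lrfl Lrfl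
theorem f202208 : Led Lsl_ct (LP (LK LD1_c1 LD2_c24 LD3_c15)) = (LP (LK LD1_c2 LD2_c56 LD3_c59)) :=
  Lre_c IH (LK LD1_c1 LD2_c24 LD3_c15) (LK LD1_c2 LD2_c56 LD3_c59) Lrfl Lrfl
theorem f202184 : Led Lsl_dt (LP (LK LD1_c3 LD2_c4 LD3_c12)) = (LP (LK LD1_c1 LD2_c28 LD3_c8)) :=
  Lre_d IH (LK LD1_c3 LD2_c4 LD3_c12) (LK LD1_c1 LD2_c28 LD3_c8) Lrfl Lrfl
theorem f80728 : Led Lsl_ct (LP (LK LD1_c1 LD2_c28 LD3_c8)) = (LP (LK LD1_c0 LD2_c40 LD3_c59)) :=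
  Lre_c IH (LK LD1_c1 LD2_c28 LD3_c8) (LK LD1_c0 LD2_c40 LD3_c59) Lrfl Lrfl
theorem f202209 : Led Lsl_df (LP (LK LD1_c1 LD2_c24 LD3_c15)) = (LP (LK LD1_c0 LD2_c40 LD3_c59)) :=
  Lgr Lrot106 (Lpr_ct (f202208 IH) (Lpr_dt (f202207 IH) (Lpe (f202117 IH) (Lpr_dt (K6.f78251 IH) (Lpr_ct (K6.f59256 IH) (Lpe (f78290 IH) (Lpr_ff (f202192 IH) (Lpr_dt (f202184 IH) (Lpr_ct (f80728 IH) (Lpn (LP (LK LD1_c0 LD2_c40 LD3_c59))))))))))))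
theorem f27051 : Led Lsl_dt (LP (LK LD1_c2 LD2_c18 LD3_c46)) = (LP (LK LD1_c1 LD2_c6 LD3_c23)) :=
  Lre_d IH (LK LD1_c2 LD2_c18 LD3_c46) (LK LD1_c1 LD2_c6 LD3_c23) Lrfl Lrfl
theorem f202226 : Led Lsl_ff (LP (LK LD1_c1 LD2_c6 LD3_c31)) = (LP (LK LD1_c0 LD2_c40 LD3_c59)) :=
  Lgr Lrot103 (Lpr_at (f78289 IH) (Lpe (K5.f27050 IH) (Lpe (f27051 IH) (Lpe (K6.f59256 IH) (Lpe (K6.f78251 IH) (Lpr_cf (f202117 IH) (Lpe (f202207 IH) (Lpe (f202208 IH) (Lpr_df (f202209 IH) (Lpn (LP (LK LD1_c0 LD2_c40 LD3_c59))))))))))))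
theorem f202241 : Led Lsl_gf (LP (LK LD1_c1 LD2_c6 LD3_c30)) = (LP (LK LD1_c0 LD2_c40 LD3_c59)) :=
  Lgr Lrot47 (Lpr_gt (K5.f59334 IH) (Lpe (f78289 IH) (Lpr_ff (f202226 IH) (Lpn (LP (LK LD1_c0 LD2_c40 LD3_c59))))))
theorem f70889 : Led Lsl_at (LP (LK LD1_c5 LD2_c53 LD3_c51)) = (LP (LK LD1_c2 LD2_c53 LD3_c31)) :=
  Lre_a IH (LK LD1_c5 LD2_c53 LD3_c51) (LK LD1_c2 LD2_c53 LD3_c31) Lrfl Lrfl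
theorem f70890 : Led Lsl_ft (LP (LK LD1_c9 LD2_c8 LD3_c10)) = (LP (LK LD1_c5 LD2_c53 LD3_c51)) :=
  Lgr Lrot101 (Lpe (K2.f70884 IH) (Lpr_ff (K2.f70885 IH) (Lpe (f70889 IH) (Lpn (LP (LK LD1_c5 LD2_c53 LD3_c51))))))
theorem f138157 : Led Lsl_gf (LP (LK LD1_c4 LD2_c45 LD3_c41)) = (LP (LK LD1_c9 LD2_c8 LD3_c10)) :=
  Lgr Lrot47 (Lpr_gt (K8.f138154 IH) (Lpe (f70889 IH) (Lpe (f70890 IH) (Lpn (LP (LK LD1_c9 LD2_c8 LD3_c10))))))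
theorem f138189 : Led Lsl_gf (LP (LK LD1_c4 LD2_c35 LD3_c60)) = (LP (LK LD1_c2 LD2_c53 LD3_c29)) :=
  Lgr Lrot143 (Lpr_dt (K2.f70905 IH) (Lpe (K2.f70858 IH) (Lpe (K2.f70859 IH) (Lpr_gf (K6.f104753 IH) (Lpr_df (K8.f137319 IH) (Lpe (K4.f56602 IH) (Lpe (K5.f27050 IH) (Lpr_gt (K8.f27025 IH) (Lpr_dt (K8.f138179 IH) (Lpn (LP (LK LD1_c2 LD2_c53 LD3_c29))))))))))))
theorem f138183 : Led Lsl_df (LP (LK LD1_c2 LD2_c18 LD3_c43)) = (LP (LK LD1_c2 LD2_c53 LD3_c29)) :=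
  Lgr Lrot38 (Lpr_dt (K8.f138179 IH) (Lpn (LP (LK LD1_c2 LD2_c53 LD3_c29))))
theorem f202249 : Led Lsl_gt (LP (LK LD1_c2 LD2_c18 LD3_c43)) = (LP (LK LD1_c1 LD2_c28 LD3_c8)) :=
  Lgr Lrot9 (Lpr_df (f138183 IH) (Lpe (f138189 IH) (Lpr_ct (K2.f70870 IH) (Lpe (f138157 IH) (Lpe (K6.f133108 IH) (Lpe (K6.f59421 IH) (Lpe (K5.f59399 IH) (Lpr_gf (f202241 IH) (Lpe (f80728 IH) (Lpn (LP (LK LD1_c1 LD2_c28 LD3_c8))))))))))))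
theorem f202306 : Led Lsl_at (LP (LK LD1_c0 LD2_c40 LD3_c45)) = (LP (LK LD1_c1 LD2_c28 LD3_c8)) :=
  Lre_a IH (LK LD1_c0 LD2_c40 LD3_c45) (LK LD1_c1 LD2_c28 LD3_c8) Lrfl Lrfl
theorem f202307 : Led Lsl_ft (LP (LK LD1_c1 LD2_c6 LD3_c23)) = (LP (LK LD1_c0 LD2_c40 LD3_c45)) :=
  Lgr Lrot2 (Lpr_gt (K8.f27025 IH) (Lpr_gt (f202249 IH) (Lpe (f202306 IH) (Lpn (LP (LK LD1_c0 LD2_c40 LD3_c45))))))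
theorem f78293 : Led Lsl_dt (LP (LK LD1_c1 LD2_c6 LD3_c23)) = (LP (LK LD1_c2 LD2_c18 LD3_c46)) :=
  Lre_d IH (LK LD1_c1 LD2_c6 LD3_c23) (LK LD1_c2 LD2_c18 LD3_c46) Lrfl Lrfl
theorem f80727 : Led Lsl_ct (LP (LK LD1_c0 LD2_c40 LD3_c59)) = (LP (LK LD1_c1 LD2_c28 LD3_c8)) :=
  Lre_c IH (LK LD1_c0 LD2_c40 LD3_c59) (LK LD1_c1 LD2_c28 LD3_c8) Lrfl Lrfl
theorem f202214 : Led Lsl_dt (LP (LK LD1_c1 LD2_c24 LD3_c15)) = (LP (LK LD1_c0 LD2_c40 LD3_c59)) :=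
  Lgr Lrot42 (Lpr_df (f202209 IH) (Lpn (LP (LK LD1_c0 LD2_c40 LD3_c59))))
theorem f202229 : Led Lsl_ct (LP (LK LD1_c2 LD2_c56 LD3_c59)) = (LP (LK LD1_c1 LD2_c24 LD3_c15)) :=
  Lre_c IH (LK LD1_c2 LD2_c56 LD3_c59) (LK LD1_c1 LD2_c24 LD3_c15) Lrfl Lrfl
theorem f202228 : Led Lsl_dt (LP (LK LD1_c6 LD2_c1 LD3_c41)) = (LP (LK LD1_c2 LD2_c56 LD3_c59)) :=
  Lre_d IH (LK LD1_c6 LD2_c1 LD3_c41) (LK LD1_c2 LD2_c56 LD3_c59) Lrfl Lrfl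
theorem f202330 : Led Lsl_ct (LP (LK LD1_c4 LD2_c45 LD3_c38)) = (LP (LK LD1_c6 LD2_c1 LD3_c41)) :=
  Lgr Lrot41 (Lpr_df (K8.f78281 IH) (Lpe (K6.f59233 IH) (Lpe (f78293 IH) (Lpr_ft (f202307 IH) (Lpr_at (f202306 IH) (Lpe (f80727 IH) (Lpe (f202214 IH) (Lpe (f202229 IH) (Lpe (f202228 IH) (Lpn (LP (LK LD1_c6 LD2_c1 LD3_c41))))))))))))
theorem f149396 : Led Lsl_df (LP (LK LD1_c4 LD2_c38 LD3_c45)) = (LP (LK LD1_c9 LD2_c8 LD3_c41)) :=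
  Lgr Lrot38 (Lpr_dt (K7.f149394 IH) (Lpn (LP (LK LD1_c9 LD2_c8 LD3_c41))))
theorem f202346 : Led Lsl_gt (LP (LK LD1_c4 LD2_c38 LD3_c45)) = (LP (LK LD1_c2 LD2_c56 LD3_c59)) :=
  Lgr Lrot189 (Lpr_df (f149396 IH) (Lpe (K6.f59893 IH) (Lpe (K7.f149357 IH) (Lpr_gt (K7.f102346 IH) (Lpr_dt (K6.f102923 IH) (Lpr_gt (K7.f149928 IH) (Lpe (K8.f78281 IH) (Lpr_ct (f202330 IH) (Lpe (f202207 IH) (Lpn (LP (LK LD1_c2 LD2_c56 LD3_c59))))))))))))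
theorem f163268 : Led Lsl_cf (LP (LK LD1_c4 LD2_c38 LD3_c45)) = (LP (LK LD1_c4 LD2_c58 LD3_c52)) :=
  Lgr Lrot108 (Lpr_ft (K8.f158866 IH) (Lpr_ct (K6.f69133 IH) (Lpr_ft (K8.f163261 IH) (Lpn (LP (LK LD1_c4 LD2_c58 LD3_c52))))))
theorem f40384 : Led Lsl_ct (LP (LK LD1_c2 LD2_c27 LD3_c36)) = (LP (LK LD1_c4 LD2_c59 LD3_c31)) :=
  Lre_c IH (LK LD1_c2 LD2_c27 LD3_c36) (LK LD1_c4 LD2_c59 LD3_c31) Lrfl Lrfl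
theorem f163338 : Led Lsl_gt (LP (LK LD1_c4 LD2_c33 LD3_c58)) = (LP (LK LD1_c2 LD2_c27 LD3_c36)) :=
  Lgr Lrot146 (Lpr_dt (K8.f163332 IH) (Lpr_gt (K6.f138743 IH) (Lpr_ct (K2.f72404 IH) (Lpr_gt (K6.f101748 IH) (Lpr_ct (K6.f72248 IH) (Lpr_dt (K6.f79353 IH) (Lpe (K6.f69188 IH) (Lpr_gf (K6.f79347 IH) (Lpe (f40384 IH) (Lpn (LP (LK LD1_c2 LD2_c27 LD3_c36))))))))))))
theorem f163552 : Led Lsl_af (LP (LK LD1_c4 LD2_c58 LD3_c52)) = (LP (LK LD1_c2 LD2_c51 LD3_c15)) :=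
  Lgr Lrot45 (Lpe (K8.f163272 IH) (Lpe (K8.f158860 IH) (Lpr_ft (K8.f163342 IH) (Lpn (LP (LK LD1_c2 LD2_c51 LD3_c15))))))
theorem f163556 : Led Lsl_gt (LP (LK LD1_c2 LD2_c27 LD3_c36)) = (LP (LK LD1_c4 LD2_c58 LD3_c52)) :=
  Lgr Lrot46 (Lpe (f163338 IH) (Lpr_ft (K8.f163342 IH) (Lpe (f163552 IH) (Lpn (LP (LK LD1_c4 LD2_c58 LD3_c52))))))
theorem f74393 : Led Lsl_bt (LP (LK LD1_c1 LD2_c10 LD3_c59)) = (LP (LK LD1_c2 LD2_c27 LD3_c36)) :=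
  Lre_b IH (LK LD1_c1 LD2_c10 LD3_c59) (LK LD1_c2 LD2_c27 LD3_c36) Lrfl Lrfl
theorem f161909 : Led Lsl_gf (LP (LK LD1_c1 LD2_c23 LD3_c5)) = (LP (LK LD1_c2 LD2_c16 LD3_c17)) :=
  Lgr Lrot144 (Lpr_dt (K8.f69451 IH) (Lpr_gt (K6.f69439 IH) (Lpr_dt (K6.f24072 IH) (Lpe (K2.f23921 IH) (Lpe (K2.f23922 IH) (Lpr_gf (K6.f80296 IH) (Lpr_df (K8.f149669 IH) (Lpr_gf (K8.f161905 IH) (Lpe (K8.f26892 IH) (Lpn (LP (LK LD1_c2 LD2_c16 LD3_c17))))))))))))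
theorem f202356 : Led Lsl_bf (LP (LK LD1_c2 LD2_c16 LD3_c17)) = (LP (LK LD1_c1 LD2_c24 LD3_c15)) :=
  Lgr Lrot156 (Lpe (f161909 IH) (Lpe (K6.f81957 IH) (Lpe (K6.f81960 IH) (Lpe (K8.f94939 IH) (Lpe (K8.f40385 IH) (Lpr_bt (f74393 IH) (Lpr_gt (f163556 IH) (Lpe (f163268 IH) (Lpr_gt (f202346 IH) (Lpe (f202208 IH) (Lpn (LP (LK LD1_c1 LD2_c24 LD3_c15)))))))))))))
theorem f69260 : Led Lsl_ct (LP (LK LD1_c1 LD2_c24 LD3_c22)) = (LP (LK LD1_c2 LD2_c57 LD3_c12)) :=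
  Lre_c IH (LK LD1_c1 LD2_c24 LD3_c22) (LK LD1_c2 LD2_c57 LD3_c12) Lrfl Lrfl
theorem f26880 : Led Lsl_ct (LP (LK LD1_c4 LD2_c38 LD3_c28)) = (LP (LK LD1_c2 LD2_c16 LD3_c17)) :=
  Lre_c IH (LK LD1_c4 LD2_c38 LD3_c28) (LK LD1_c2 LD2_c16 LD3_c17) Lrfl Lrfl
theorem f161885 : Led Lsl_ff (LP (LK LD1_c1 LD2_c24 LD3_c22)) = (LP (LK LD1_c2 LD2_c16 LD3_c17)) :=
  Lgr Lrot23 (Lpr_ct (f69260 IH) (Lpr_ft (K8.f161870 IH) (Lpr_ct (f26880 IH) (Lpn (LP (LK LD1_c2 LD2_c16 LD3_c17))))))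
theorem f202086 : Led Lsl_at (LP (LK LD1_c1 LD2_c24 LD3_c15)) = (LP (LK LD1_c0 LD2_c38 LD3_c53)) :=
  Lre_a IH (LK LD1_c1 LD2_c24 LD3_c15) (LK LD1_c0 LD2_c38 LD3_c53) Lrfl Lrfl
theorem f202087 : Led Lsl_ff (LP (LK LD1_c1 LD2_c24 LD3_c15)) = (LP (LK LD1_c2 LD2_c16 LD3_c24)) :=
  Lgr Lrot103 (Lpr_at (f202086 IH) (Lpe (K6.f26505 IH) (Lpe (K6.f37430 IH) (Lpe (K6.f69145 IH) (Lpr_df (f202070 IH) (Lpe (f104870 IH) (Lpe (f104869 IH) (Lpe (f104868 IH) (Lpr_df (f104810 IH) (Lpn (LP (LK LD1_c2 LD2_c16 LD3_c24))))))))))))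
theorem f202367 : Led Lsl_bt (LP (LK LD1_c1 LD2_c24 LD3_c22)) = (LP (LK LD1_c2 LD2_c16 LD3_c24)) :=
  Lgr Lrot35 (Lpr_ff (f161885 IH) (Lpr_bf (f202356 IH) (Lpr_ff (f202087 IH) (Lpn (LP (LK LD1_c2 LD2_c16 LD3_c24))))))
theorem f120801 : Led Lsl_bt (LP (LK LD1_c1 LD2_c38 LD3_c18)) = (LP (LK LD1_c3 LD2_c24 LD3_c0)) :=
  Lre_b IH (LK LD1_c1 LD2_c38 LD3_c18) (LK LD1_c3 LD2_c24 LD3_c0) Lrfl Lrfl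
theorem f40405 : Led Lsl_ct (LP (LK LD1_c1 LD2_c38 LD3_c18)) = (LP (LK LD1_c3 LD2_c24 LD3_c1)) :=
  Lre_c IH (LK LD1_c1 LD2_c38 LD3_c18) (LK LD1_c3 LD2_c24 LD3_c1) Lrfl Lrfl
theorem f15534 : Led Lsl_bt (LP (LK LD1_c3 LD2_c23 LD3_c28)) = (LP (LK LD1_c1 LD2_c38 LD3_c5)) :=
  Lre_b IH (LK LD1_c3 LD2_c23 LD3_c28) (LK LD1_c1 LD2_c38 LD3_c5) Lrfl Lrfl
theorem f15535 : Led Lsl_ct (LP (LK LD1_c6 LD2_c50 LD3_c17)) = (LP (LK LD1_c3 LD2_c23 LD3_c28)) :=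
  Lre_c IH (LK LD1_c6 LD2_c50 LD3_c17) (LK LD1_c3 LD2_c23 LD3_c28) Lrfl Lrfl
theorem f120789 : Led Lsl_bt (LP (LK LD1_c4 LD2_c41 LD3_c44)) = (LP (LK LD1_c6 LD2_c50 LD3_c17)) :=
  Lgr Lrot128 (Lpr_cf (K4.f120787 IH) (Lpe (K5.f83740 IH) (Lpr_cf (K2.f83736 IH) (Lpe (f15534 IH) (Lpe (f15535 IH) (Lpn (LP (LK LD1_c6 LD2_c50 LD3_c17))))))))
theorem f69191 : Led Lsl_bt (LP (LK LD1_c2 LD2_c53 LD3_c14)) = (LP (LK LD1_c5 LD2_c53 LD3_c46)) :=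
  Lre_b IH (LK LD1_c2 LD2_c53 LD3_c14) (LK LD1_c5 LD2_c53 LD3_c46) Lrfl Lrfl
theorem f120795 : Led Lsl_gt (LP (LK LD1_c6 LD2_c50 LD3_c17)) = (LP (LK LD1_c5 LD2_c53 LD3_c46)) :=
  Lgr Lrot164 (Lpe (f120789 IH) (Lpr_ct (K5.f120791 IH) (Lpe (K4.f120783 IH) (Lpe (K5.f79109 IH) (Lpe (K2.f69185 IH) (Lpe (K6.f69127 IH) (Lpr_ct (K6.f26505 IH) (Lpe (K4.f68997 IH) (Lpe (K6.f69188 IH) (Lpr_bt (f69191 IH) (Lpn (LP (LK LD1_c5 LD2_c53 LD3_c46)))))))))))))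
theorem f69018 : Led Lsl_ct (LP (LK LD1_c11 LD2_c33 LD3_c21)) = (LP (LK LD1_c5 LD2_c53 LD3_c46)) :=
  Lre_c IH (LK LD1_c11 LD2_c33 LD3_c21) (LK LD1_c5 LD2_c53 LD3_c46) Lrfl Lrfl
theorem f120799 : Led Lsl_gf (LP (LK LD1_c3 LD2_c24 LD3_c1)) = (LP (LK LD1_c5 LD2_c53 LD3_c42)) :=
  Lgr Lrot181 (Lpr_ct (K8.f40409 IH) (Lpr_gt (K8.f40334 IH) (Lpe (K2.f40338 IH) (Lpr_bt (K6.f40372 IH) (Lpr_gt (K2.f83735 IH) (Lpe (f15534 IH) (Lpr_ct (K5.f77314 IH) (Lpr_gt (f120795 IH) (Lpe (f69018 IH) (Lpr_bt (K8.f69017 IH) (Lpn (LP (LK LD1_c5 LD2_c53 LD3_c42)))))))))))))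
theorem f202381 : Led Lsl_gf (LP (LK LD1_c1 LD2_c22 LD3_c43)) = (LP (LK LD1_c2 LD2_c16 LD3_c24)) :=
  Lgr Lrot124 (Lpe (K4.f68998 IH) (Lpr_ct (K4.f68999 IH) (Lpe (f120799 IH) (Lpe (f40405 IH) (Lpr_bt (f120801 IH) (Lpe (K8.f161010 IH) (Lpe (K7.f149703 IH) (Lpr_gt (K8.f160846 IH) (Lpe (f69260 IH) (Lpr_bt (f202367 IH) (Lpn (LP (LK LD1_c2 LD2_c16 LD3_c24)))))))))))))
theorem f79352 : Led Lsl_dt (LP (LK LD1_c1 LD2_c22 LD3_c43)) = (LP (LK LD1_c0 LD2_c38 LD3_c19)) :=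
  Lre_d IH (LK LD1_c1 LD2_c22 LD3_c43) (LK LD1_c0 LD2_c38 LD3_c19) Lrfl Lrfl
theorem f81846 : Led Lsl_ct (LP (LK LD1_c0 LD2_c38 LD3_c19)) = (LP (LK LD1_c1 LD2_c22 LD3_c42)) :=
  Lre_c IH (LK LD1_c0 LD2_c38 LD3_c19) (LK LD1_c1 LD2_c22 LD3_c42) Lrfl Lrfl
theorem f149173 : Led Lsl_dt (LP (LK LD1_c3 LD2_c4 LD3_c54)) = (LP (LK LD1_c5 LD2_c53 LD3_c29)) :=
  Lgr Lrot6 (Lpe (K5.f80258 IH) (Lpr_ct (K5.f60871 IH) (Lpr_gt (K5.f60870 IH) (Lpr_ct (K8.f59803 IH) (Lpe (f59802 IH) (Lpe (K6.f38097 IH) (Lpe (K6.f137492 IH) (Lpe (K6.f101751 IH) (Lpr_gf (K8.f149171 IH) (Lpn (LP (LK LD1_c5 LD2_c53 LD3_c29))))))))))))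
theorem f104873 : Led Lsl_dt (LP (LK LD1_c1 LD2_c6 LD3_c31)) = (LP (LK LD1_c2 LD2_c16 LD3_c24)) :=
  Lgr Lrot42 (Lpr_df (f104810 IH) (Lpn (LP (LK LD1_c2 LD2_c16 LD3_c24))))
theorem f202383 : Led Lsl_gt (LP (LK LD1_c0 LD2_c40 LD3_c57)) = (LP (LK LD1_c1 LD2_c6 LD3_c31)) :=
  Lgr Lrot94 (Lpe (K5.f59365 IH) (Lpr_gt (K5.f58965 IH) (Lpr_dt (f149173 IH) (Lpe (K8.f149171 IH) (Lpr_dt (K6.f81847 IH) (Lpe (f81846 IH) (Lpe (f79352 IH) (Lpr_gf (f202381 IH) (Lpe (f104873 IH) (Lpn (LP (LK LD1_c1 LD2_c6 LD3_c31))))))))))))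
theorem f132505 : Led Lsl_gt (LP (LK LD1_c3 LD2_c4 LD3_c55)) = (LP (LK LD1_c1 LD2_c28 LD3_c32)) :=
  Lre_g IH (LK LD1_c3 LD2_c4 LD3_c55) (LK LD1_c1 LD2_c28 LD3_c32) Lrfl Lrfl
theorem f104878 : Led Lsl_dt (LP (LK LD1_c4 LD2_c42 LD3_c36)) = (LP (LK LD1_c2 LD2_c18 LD3_c45)) :=
  Lre_d IH (LK LD1_c4 LD2_c42 LD3_c36) (LK LD1_c2 LD2_c18 LD3_c45) Lrfl Lrfl
theorem f104885 : Led Lsl_ct (LP (LK LD1_c9 LD2_c19 LD3_c26)) = (LP (LK LD1_c4 LD2_c42 LD3_c36)) :=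
  Lre_c IH (LK LD1_c9 LD2_c19 LD3_c26) (LK LD1_c4 LD2_c42 LD3_c36) Lrfl Lrfl
theorem f72414 : Led Lsl_gt (LP (LK LD1_c5 LD2_c53 LD3_c30)) = (LP (LK LD1_c2 LD2_c53 LD3_c5)) :=
  Lre_g IH (LK LD1_c5 LD2_c53 LD3_c30) (LK LD1_c2 LD2_c53 LD3_c5) Lrfl Lrfl
theorem f202566 : Led Lsl_dt (LP (LK LD1_c3 LD2_c4 LD3_c55)) = (LP (LK LD1_c5 LD2_c53 LD3_c30)) :=
  Lgr Lrot6 (Lpr_gt (f132505 IH) (Lpr_ct (K5.f59365 IH) (Lpr_gt (f202383 IH) (Lpr_ct (f104868 IH) (Lpe (f104878 IH) (Lpe (f104885 IH) (Lpe (f202089 IH) (Lpe (K6.f72359 IH) (Lpe (f72414 IH) (Lpn (LP (LK LD1_c5 LD2_c53 LD3_c30))))))))))))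
theorem f132826 : Led Lsl_ft (LP (LK LD1_c1 LD2_c28 LD3_c36)) = (LP (LK LD1_c2 LD2_c18 LD3_c56)) :=
  Lgr Lrot4 (Lpe (K6.f80267 IH) (Lpr_ff (K5.f132820 IH) (Lpe (K6.f59335 IH) (Lpn (LP (LK LD1_c2 LD2_c18 LD3_c56))))))
theorem f133005 : Led Lsl_gf (LP (LK LD1_c3 LD2_c4 LD3_c55)) = (LP (LK LD1_c1 LD2_c28 LD3_c36)) :=
  Lgr Lrot47 (Lpr_gt (f132505 IH) (Lpr_af (K6.f133001 IH) (Lpe (f132826 IH) (Lpn (LP (LK LD1_c1 LD2_c28 LD3_c36))))))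
theorem f202572 : Led Lsl_dt (LP (LK LD1_c0 LD2_c18 LD3_c20)) = (LP (LK LD1_c0 LD2_c38 LD3_c53)) :=
  Lgr Lrot57 (Lpe (K5.f60870 IH) (Lpe (K5.f60871 IH) (Lpe (f133005 IH) (Lpr_dt (f202566 IH) (Lpr_gt (f72414 IH) (Lpr_dt (K6.f72262 IH) (Lpe (K2.f71210 IH) (Lpe (K6.f71209 IH) (Lpe (K6.f139481 IH) (Lpn (LP (LK LD1_c0 LD2_c38 LD3_c53))))))))))))
theorem f202113 : Led Lsl_cf (LP (LK LD1_c6 LD2_c14 LD3_c40)) = (LP (LK LD1_c9 LD2_c13 LD3_c15)) :=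
  Lgr Lrot11 (Lpr_ct (f202107 IH) (Lpn (LP (LK LD1_c9 LD2_c13 LD3_c15))))
theorem f104887 : Led Lsl_dt (LP (LK LD1_c4 LD2_c38 LD3_c43)) = (LP (LK LD1_c9 LD2_c13 LD3_c15)) :=
  Lre_d IH (LK LD1_c4 LD2_c38 LD3_c43) (LK LD1_c9 LD2_c13 LD3_c15) Lrfl Lrfl
theorem f69182 : Led Lsl_at (LP (LK LD1_c2 LD2_c56 LD3_c59)) = (LP (LK LD1_c1 LD2_c24 LD3_c16)) :=
  Lre_a IH (LK LD1_c2 LD2_c56 LD3_c59) (LK LD1_c1 LD2_c24 LD3_c16) Lrfl Lrfl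
theorem f202615 : Led Lsl_ft (LP (LK LD1_c4 LD2_c38 LD3_c43)) = (LP (LK LD1_c2 LD2_c56 LD3_c59)) :=
  Lgr Lrot142 (Lpr_dt (f104887 IH) (Lpe (f202113 IH) (Lpr_dt (K6.f38098 IH) (Lpr_ct (K6.f38097 IH) (Lpr_dt (f59802 IH) (Lpr_ct (K4.f59364 IH) (Lpr_dt (f202572 IH) (Lpr_ct (K4.f26486 IH) (Lpe (f69182 IH) (Lpn (LP (LK LD1_c2 LD2_c56 LD3_c59))))))))))))
theorem f202676 : Led Lsl_ff (LP (LK LD1_c9 LD2_c13 LD3_c15)) = (LP (LK LD1_c6 LD2_c1 LD3_c41)) :=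
  Lgr Lrot19 (Lpr_dt (f104872 IH) (Lpr_ft (f202615 IH) (Lpr_dt (f202207 IH) (Lpn (LP (LK LD1_c6 LD2_c1 LD3_c41))))))
theorem f202689 : Led Lsl_ft (LP (LK LD1_c6 LD2_c14 LD3_c40)) = (LP (LK LD1_c4 LD2_c45 LD3_c38)) :=
  Lgr Lrot4 (Lpr_cf (f202113 IH) (Lpr_ff (f202676 IH) (Lpe (f202330 IH) (Lpn (LP (LK LD1_c4 LD2_c45 LD3_c38))))))
theorem f23033 : Led Lsl_gt (LP (LK LD1_c4 LD2_c36 LD3_c15)) = (LP (LK LD1_c2 LD2_c15 LD3_c18)) :=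
  Lre_g IH (LK LD1_c4 LD2_c36 LD3_c15) (LK LD1_c2 LD2_c15 LD3_c18) Lrfl Lrfl
theorem f112357 : Led Lsl_df (LP (LK LD1_c4 LD2_c36 LD3_c15)) = (LP (LK LD1_c6 LD2_c0 LD3_c40)) :=
  Lgr Lrot155 (Lpr_gt (f23033 IH) (Lpr_ct (K6.f23031 IH) (Lpr_gt (K4.f112350 IH) (Lpr_ct (K4.f83763 IH) (Lpr_dt (K5.f83791 IH) (Lpe (K6.f91352 IH) (Lpr_gf (K6.f91358 IH) (Lpe (K6.f26518 IH) (Lpr_gf (K6.f79935 IH) (Lpn (LP (LK LD1_c6 LD2_c0 LD3_c40))))))))))))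
theorem f202148 : Led Lsl_gf (LP (LK LD1_c4 LD2_c45 LD3_c40)) = (LP (LK LD1_c6 LD2_c14 LD3_c40)) :=
  Lgr Lrot144 (Lpe (K5.f133138 IH) (Lpr_gt (K7.f112752 IH) (Lpe (K8.f149345 IH) (Lpr_cf (K7.f149357 IH) (Lpe (K8.f59896 IH) (Lpe (f23033 IH) (Lpr_df (f112357 IH) (Lpr_gf (f202127 IH) (Lpe (f202107 IH) (Lpn (LP (LK LD1_c6 LD2_c14 LD3_c40))))))))))))
theorem f202695 : Led Lsl_af (LP (LK LD1_c6 LD2_c1 LD3_c50)) = (LP (LK LD1_c4 LD2_c45 LD3_c38)) :=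
  Lgr Lrot31 (Lpr_gf (K6.f133157 IH) (Lpr_gf (f202148 IH) (Lpr_ft (f202689 IH) (Lpn (LP (LK LD1_c4 LD2_c45 LD3_c38))))))
theorem f61146 : Led Lsl_at (LP (LK LD1_c9 LD2_c13 LD3_c15)) = (LP (LK LD1_c4 LD2_c38 LD3_c47)) :=
  Lre_a IH (LK LD1_c9 LD2_c13 LD3_c15) (LK LD1_c4 LD2_c38 LD3_c47) Lrfl Lrfl
theorem f202109 : Led Lsl_af (LP (LK LD1_c6 LD2_c14 LD3_c40)) = (LP (LK LD1_c4 LD2_c45 LD3_c39)) :=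
  Lgr Lrot68 (Lpr_ct (f202107 IH) (Lpr_at (f61146 IH) (Lpr_ct (K7.f149941 IH) (Lpn (LP (LK LD1_c4 LD2_c45 LD3_c39))))))
theorem f202699 : Led Lsl_ft (LP (LK LD1_c6 LD2_c1 LD3_c50)) = (LP (LK LD1_c4 LD2_c45 LD3_c39)) :=
  Lgr Lrot101 (Lpr_af (f202695 IH) (Lpe (f202689 IH) (Lpr_af (f202109 IH) (Lpn (LP (LK LD1_c4 LD2_c45 LD3_c39))))))
theorem f69146 : Led Lsl_bt (LP (LK LD1_c11 LD2_c48 LD3_c14)) = (LP (LK LD1_c6 LD2_c1 LD3_c50)) :=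
  Lre_b IH (LK LD1_c11 LD2_c48 LD3_c14) (LK LD1_c6 LD2_c1 LD3_c50) Lrfl Lrfl
theorem f149948 : Led Lsl_bt (LP (LK LD1_c4 LD2_c45 LD3_c39)) = (LP (LK LD1_c9 LD2_c23 LD3_c58)) :=
  Lre_b IH (LK LD1_c4 LD2_c45 LD3_c39) (LK LD1_c9 LD2_c23 LD3_c58) Lrfl Lrfl
theorem f202701 : Led Lsl_ff (LP (LK LD1_c11 LD2_c48 LD3_c14)) = (LP (LK LD1_c9 LD2_c23 LD3_c58)) :=
  Lgr Lrot25 (Lpr_bt (f69146 IH) (Lpr_ft (f202699 IH) (Lpr_bt (f149948 IH) (Lpn (LP (LK LD1_c9 LD2_c23 LD3_c58))))))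
theorem f202705 : Led Lsl_ft (LP (LK LD1_c11 LD2_c48 LD3_c14)) = (LP (LK LD1_c9 LD2_c23 LD3_c58)) :=
  Lgr Lrot48 (Lpr_ff (f202701 IH) (Lpn (LP (LK LD1_c9 LD2_c23 LD3_c58))))
theorem f26519 : Led Lsl_bt (LP (LK LD1_c6 LD2_c1 LD3_c50)) = (LP (LK LD1_c11 LD2_c48 LD3_c14)) :=
  Lre_b IH (LK LD1_c6 LD2_c1 LD3_c50) (LK LD1_c11 LD2_c48 LD3_c14) Lrfl Lrfl
theorem f69050 : Led Lsl_bt (LP (LK LD1_c2 LD2_c56 LD3_c34)) = (LP (LK LD1_c1 LD2_c24 LD3_c6)) :=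
  Lre_b IH (LK LD1_c2 LD2_c56 LD3_c34) (LK LD1_c1 LD2_c24 LD3_c6) Lrfl Lrfl
theorem f15591 : Led Lsl_gt (LP (LK LD1_c6 LD2_c33 LD3_c39)) = (LP (LK LD1_c3 LD2_c16 LD3_c15)) :=
  Lre_g IH (LK LD1_c6 LD2_c33 LD3_c39) (LK LD1_c3 LD2_c16 LD3_c15) Lrfl Lrfl
theorem f79938 : Led Lsl_gt (LP (LK LD1_c11 LD2_c48 LD3_c14)) = (LP (LK LD1_c12 LD2_c34 LD3_c14)) :=
  Lgr Lrot82 (Lpe (f26519 IH) (Lpr_ct (K6.f69145 IH) (Lpr_gf (K6.f79935 IH) (Lpe (K6.f69024 IH) (Lpr_bt (f69050 IH) (Lpe (K2.f26424 IH) (Lpe (K7.f75371 IH) (Lpr_ct (K7.f14017 IH) (Lpe (f15591 IH) (Lpe (K7.f79937 IH) (Lpn (LP (LK LD1_c12 LD2_c34 LD3_c14)))))))))))))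
theorem f79221 : Led Lsl_gt (LP (LK LD1_c12 LD2_c34 LD3_c14)) = (LP (LK LD1_c12 LD2_c39 LD3_c15)) :=
  Lre_g IH (LK LD1_c12 LD2_c34 LD3_c14) (LK LD1_c12 LD2_c39 LD3_c15) Lrfl Lrfl
theorem f202709 : Led Lsl_af (LP (LK LD1_c12 LD2_c39 LD3_c15)) = (LP (LK LD1_c9 LD2_c23 LD3_c58)) :=
  Lgr Lrot31 (Lpe (f79221 IH) (Lpe (f79938 IH) (Lpr_ft (f202705 IH) (Lpn (LP (LK LD1_c9 LD2_c23 LD3_c58))))))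
theorem f79225 : Led Lsl_et (LP (LK LD1_c12 LD2_c39 LD3_c15)) = (LP (LK LD1_c21 LD2_c45 LD3_c31)) :=
  Lre_e IH (LK LD1_c12 LD2_c39 LD3_c15) (LK LD1_c21 LD2_c45 LD3_c31) Lrfl Lrfl
theorem f149965 : Led Lsl_et (LP (LK LD1_c17 LD2_c20 LD3_c57)) = (LP (LK LD1_c9 LD2_c23 LD3_c58)) :=
  Lre_e IH (LK LD1_c17 LD2_c20 LD3_c57) (LK LD1_c9 LD2_c23 LD3_c58) Lrfl Lrfl
theorem f202715 : Led Lsl_at (LP (LK LD1_c21 LD2_c45 LD3_c31)) = (LP (LK LD1_c17 LD2_c20 LD3_c57)) :=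
  Lgr Lrot80 (Lpe (f79225 IH) (Lpr_af (f202709 IH) (Lpe (f149965 IH) (Lpn (LP (LK LD1_c17 LD2_c20 LD3_c57))))))
theorem f79213 : Led Lsl_ct (LP (LK LD1_c12 LD2_c39 LD3_c16)) = (LP (LK LD1_c21 LD2_c45 LD3_c31)) :=
  Lre_c IH (LK LD1_c12 LD2_c39 LD3_c16) (LK LD1_c21 LD2_c45 LD3_c31) Lrfl Lrfl
theorem f61167 : Led Lsl_et (LP (LK LD1_c4 LD2_c38 LD3_c47)) = (LP (LK LD1_c9 LD2_c13 LD3_c22)) :=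
  Lre_e IH (LK LD1_c4 LD2_c38 LD3_c47) (LK LD1_c9 LD2_c13 LD3_c22) Lrfl Lrfl
theorem f133166 : Led Lsl_et (LP (LK LD1_c9 LD2_c23 LD3_c59)) = (LP (LK LD1_c4 LD2_c45 LD3_c39)) :=
  Lre_e IH (LK LD1_c9 LD2_c23 LD3_c59) (LK LD1_c4 LD2_c45 LD3_c39) Lrfl Lrfl
theorem f149943 : Led Lsl_ct (LP (LK LD1_c9 LD2_c13 LD3_c22)) = (LP (LK LD1_c9 LD2_c23 LD3_c59)) :=
  Lgr Lrot15 (Lpe (f61167 IH) (Lpr_cf (K7.f149937 IH) (Lpe (f133166 IH) (Lpn (LP (LK LD1_c9 LD2_c23 LD3_c59))))))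
theorem f61156 : Led Lsl_et (LP (LK LD1_c9 LD2_c13 LD3_c22)) = (LP (LK LD1_c4 LD2_c38 LD3_c47)) :=
  Lre_e IH (LK LD1_c9 LD2_c13 LD3_c22) (LK LD1_c4 LD2_c38 LD3_c47) Lrfl Lrfl
theorem f61157 : Led Lsl_et (LP (LK LD1_c2 LD2_c18 LD3_c8)) = (LP (LK LD1_c4 LD2_c41 LD3_c49)) :=
  Lre_e IH (LK LD1_c2 LD2_c18 LD3_c8) (LK LD1_c4 LD2_c41 LD3_c49) Lrfl Lrfl
theorem f61158 : Led Lsl_bf (LP (LK LD1_c9 LD2_c13 LD3_c22)) = (LP (LK LD1_c4 LD2_c41 LD3_c49)) :=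
  Lgr Lrot96 (Lpr_et (f61156 IH) (Lpr_bt (K8.f61139 IH) (Lpr_et (f61157 IH) (Lpn (LP (LK LD1_c4 LD2_c41 LD3_c49))))))
theorem f61162 : Led Lsl_ct (LP (LK LD1_c9 LD2_c18 LD3_c14)) = (LP (LK LD1_c4 LD2_c41 LD3_c49)) :=
  Lre_c IH (LK LD1_c9 LD2_c18 LD3_c14) (LK LD1_c4 LD2_c41 LD3_c49) Lrfl Lrfl
theorem f61163 : Led Lsl_bt (LP (LK LD1_c17 LD2_c13 LD3_c16)) = (LP (LK LD1_c9 LD2_c18 LD3_c14)) :=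
  Lre_b IH (LK LD1_c17 LD2_c13 LD3_c16) (LK LD1_c9 LD2_c18 LD3_c14) Lrfl Lrfl
theorem f149952 : Led Lsl_bt (LP (LK LD1_c9 LD2_c23 LD3_c59)) = (LP (LK LD1_c17 LD2_c20 LD3_c57)) :=
  Lre_b IH (LK LD1_c9 LD2_c23 LD3_c59) (LK LD1_c17 LD2_c20 LD3_c57) Lrfl Lrfl
theorem f149953 : Led Lsl_cf (LP (LK LD1_c17 LD2_c13 LD3_c16)) = (LP (LK LD1_c17 LD2_c20 LD3_c57)) :=
  Lgr Lrot97 (Lpr_bt (f61163 IH) (Lpr_ct (f61162 IH) (Lpe (f61158 IH) (Lpr_ct (f149943 IH) (Lpr_bt (f149952 IH) (Lpn (LP (LK LD1_c17 LD2_c20 LD3_c57))))))))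
theorem f202719 : Led Lsl_af (LP (LK LD1_c12 LD2_c39 LD3_c16)) = (LP (LK LD1_c17 LD2_c13 LD3_c16)) :=
  Lgr Lrot68 (Lpr_ct (f79213 IH) (Lpr_at (f202715 IH) (Lpe (f149953 IH) (Lpn (LP (LK LD1_c17 LD2_c13 LD3_c16))))))
theorem f79207 : Led Lsl_bt (LP (LK LD1_c12 LD2_c39 LD3_c16)) = (LP (LK LD1_c6 LD2_c36 LD3_c45)) :=
  Lre_b IH (LK LD1_c12 LD2_c39 LD3_c16) (LK LD1_c6 LD2_c36 LD3_c45) Lrfl Lrfl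
theorem f61166 : Led Lsl_bt (LP (LK LD1_c9 LD2_c18 LD3_c14)) = (LP (LK LD1_c17 LD2_c13 LD3_c16)) :=
  Lre_b IH (LK LD1_c9 LD2_c18 LD3_c14) (LK LD1_c17 LD2_c13 LD3_c16) Lrfl Lrfl
theorem f128380 : Led Lsl_et (LP (LK LD1_c4 LD2_c43 LD3_c14)) = (LP (LK LD1_c2 LD2_c19 LD3_c18)) :=
  Lre_e IH (LK LD1_c4 LD2_c43 LD3_c14) (LK LD1_c2 LD2_c19 LD3_c18) Lrfl Lrfl
theorem f152402 : Led Lsl_et (LP (LK LD1_c4 LD2_c41 LD3_c48)) = (LP (LK LD1_c9 LD2_c18 LD3_c14)) :=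
  Lre_e IH (LK LD1_c4 LD2_c41 LD3_c48) (LK LD1_c9 LD2_c18 LD3_c14) Lrfl Lrfl
theorem f155782 : Led Lsl_af (LP (LK LD1_c4 LD2_c43 LD3_c14)) = (LP (LK LD1_c9 LD2_c18 LD3_c14)) :=
  Lgr Lrot50 (Lpr_et (f128380 IH) (Lpr_at (K8.f155770 IH) (Lpr_et (f152402 IH) (Lpn (LP (LK LD1_c9 LD2_c18 LD3_c14))))))
theorem f155784 : Led Lsl_at (LP (LK LD1_c4 LD2_c43 LD3_c14)) = (LP (LK LD1_c9 LD2_c18 LD3_c14)) :=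
  Lgr Lrot100 (Lpr_af (f155782 IH) (Lpn (LP (LK LD1_c9 LD2_c18 LD3_c14))))
theorem f149723 : Led Lsl_et (LP (LK LD1_c4 LD2_c38 LD3_c33)) = (LP (LK LD1_c2 LD2_c16 LD3_c18)) :=
  Lre_e IH (LK LD1_c4 LD2_c38 LD3_c33) (LK LD1_c2 LD2_c16 LD3_c18) Lrfl Lrfl
theorem f128384 : Led Lsl_et (LP (LK LD1_c1 LD2_c6 LD3_c46)) = (LP (LK LD1_c2 LD2_c19 LD3_c19)) :=
  Lre_e IH (LK LD1_c1 LD2_c6 LD3_c46) (LK LD1_c2 LD2_c19 LD3_c19) Lrfl Lrfl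
theorem f150457 : Led Lsl_bf (LP (LK LD1_c4 LD2_c38 LD3_c33)) = (LP (LK LD1_c2 LD2_c19 LD3_c19)) :=
  Lgr Lrot96 (Lpr_et (f149723 IH) (Lpr_bt (K8.f150449 IH) (Lpr_et (f128384 IH) (Lpn (LP (LK LD1_c2 LD2_c19 LD3_c19))))))
theorem f149724 : Led Lsl_dt (LP (LK LD1_c4 LD2_c38 LD3_c33)) = (LP (LK LD1_c9 LD2_c12 LD3_c60)) :=
  Lre_d IH (LK LD1_c4 LD2_c38 LD3_c33) (LK LD1_c9 LD2_c12 LD3_c60) Lrfl Lrfl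
theorem f150468 : Led Lsl_dt (LP (LK LD1_c4 LD2_c43 LD3_c16)) = (LP (LK LD1_c2 LD2_c19 LD3_c19)) :=
  Lre_d IH (LK LD1_c4 LD2_c43 LD3_c16) (LK LD1_c2 LD2_c19 LD3_c19) Lrfl Lrfl
theorem f150469 : Led Lsl_bt (LP (LK LD1_c9 LD2_c12 LD3_c60)) = (LP (LK LD1_c4 LD2_c43 LD3_c16)) :=
  Lgr Lrot95 (Lpe (f149724 IH) (Lpr_bf (f150457 IH) (Lpe (f150468 IH) (Lpn (LP (LK LD1_c4 LD2_c43 LD3_c16))))))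
theorem f150528 : Led Lsl_et (LP (LK LD1_c17 LD2_c7 LD3_c23)) = (LP (LK LD1_c9 LD2_c12 LD3_c60)) :=
  Lre_e IH (LK LD1_c17 LD2_c7 LD3_c23) (LK LD1_c9 LD2_c12 LD3_c60) Lrfl Lrfl
theorem f150529 : Led Lsl_et (LP (LK LD1_c4 LD2_c43 LD3_c16)) = (LP (LK LD1_c9 LD2_c20 LD3_c0)) :=
  Lre_e IH (LK LD1_c4 LD2_c43 LD3_c16) (LK LD1_c9 LD2_c20 LD3_c0) Lrfl Lrfl
theorem f150530 : Led Lsl_bf (LP (LK LD1_c17 LD2_c7 LD3_c23)) = (LP (LK LD1_c9 LD2_c20 LD3_c0)) :=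
  Lgr Lrot96 (Lpr_et (f150528 IH) (Lpr_bt (f150469 IH) (Lpr_et (f150529 IH) (Lpn (LP (LK LD1_c9 LD2_c20 LD3_c0))))))
theorem f150539 : Led Lsl_dt (LP (LK LD1_c17 LD2_c7 LD3_c23)) = (LP (LK LD1_c9 LD2_c12 LD3_c57)) :=
  Lre_d IH (LK LD1_c17 LD2_c7 LD3_c23) (LK LD1_c9 LD2_c12 LD3_c57) Lrfl Lrfl
theorem f128381 : Led Lsl_dt (LP (LK LD1_c4 LD2_c43 LD3_c14)) = (LP (LK LD1_c9 LD2_c20 LD3_c0)) :=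
  Lre_d IH (LK LD1_c4 LD2_c43 LD3_c14) (LK LD1_c9 LD2_c20 LD3_c0) Lrfl Lrfl
theorem f150540 : Led Lsl_bt (LP (LK LD1_c9 LD2_c12 LD3_c57)) = (LP (LK LD1_c4 LD2_c43 LD3_c14)) :=
  Lgr Lrot95 (Lpe (f150539 IH) (Lpr_bf (f150530 IH) (Lpe (f128381 IH) (Lpn (LP (LK LD1_c4 LD2_c43 LD3_c14))))))
theorem f202723 : Led Lsl_at (LP (LK LD1_c6 LD2_c36 LD3_c45)) = (LP (LK LD1_c9 LD2_c12 LD3_c57)) :=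
  Lgr Lrot67 (Lpe (f79207 IH) (Lpr_af (f202719 IH) (Lpe (f61166 IH) (Lpe (f155784 IH) (Lpe (f150540 IH) (Lpn (LP (LK LD1_c9 LD2_c12 LD3_c57))))))))
theorem f64588 : Led Lsl_et (LP (LK LD1_c3 LD2_c16 LD3_c42)) = (LP (LK LD1_c6 LD2_c36 LD3_c45)) :=
  Lre_e IH (LK LD1_c3 LD2_c16 LD3_c42) (LK LD1_c6 LD2_c36 LD3_c45) Lrfl Lrfl
theorem f150552 : Led Lsl_et (LP (LK LD1_c9 LD2_c12 LD3_c57)) = (LP (LK LD1_c4 LD2_c38 LD3_c32)) :=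
  Lre_e IH (LK LD1_c9 LD2_c12 LD3_c57) (LK LD1_c4 LD2_c38 LD3_c32) Lrfl Lrfl
theorem f202731 : Led Lsl_af (LP (LK LD1_c3 LD2_c16 LD3_c42)) = (LP (LK LD1_c4 LD2_c38 LD3_c32)) :=
  Lgr Lrot50 (Lpr_et (f64588 IH) (Lpr_at (f202723 IH) (Lpr_et (f150552 IH) (Lpn (LP (LK LD1_c4 LD2_c38 LD3_c32))))))
theorem f202733 : Led Lsl_at (LP (LK LD1_c6 LD2_c24 LD3_c39)) = (LP (LK LD1_c9 LD2_c12 LD3_c56)) :=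
  Lgr Lrot107 (Lpr_cf (K7.f79203 IH) (Lpr_af (f202731 IH) (Lpe (K8.f36522 IH) (Lpn (LP (LK LD1_c9 LD2_c12 LD3_c56))))))
theorem f26863 : Led Lsl_dt (LP (LK LD1_c2 LD2_c16 LD3_c18)) = (LP (LK LD1_c4 LD2_c38 LD3_c32)) :=
  Lre_d IH (LK LD1_c2 LD2_c16 LD3_c18) (LK LD1_c4 LD2_c38 LD3_c32) Lrfl Lrfl
theorem f36528 : Led Lsl_dt (LP (LK LD1_c2 LD2_c9 LD3_c25)) = (LP (LK LD1_c1 LD2_c1 LD3_c50)) :=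
  Lre_d IH (LK LD1_c2 LD2_c9 LD3_c25) (LK LD1_c1 LD2_c1 LD3_c50) Lrfl Lrfl
theorem f202740 : Led Lsl_ff (LP (LK LD1_c6 LD2_c24 LD3_c39)) = (LP (LK LD1_c8 LD2_c45 LD3_c48)) :=
  Lgr Lrot103 (Lpr_at (f202733 IH) (Lpe (K8.f26864 IH) (Lpe (f26863 IH) (Lpe (K7.f26862 IH) (Lpr_df (K8.f26844 IH) (Lpr_cf (K8.f36520 IH) (Lpe (f36528 IH) (Lpe (K4.f36530 IH) (Lpe (K4.f36563 IH) (Lpn (LP (LK LD1_c8 LD2_c45 LD3_c48))))))))))))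
theorem f202744 : Led Lsl_ft (LP (LK LD1_c9 LD2_c25 LD3_c32)) = (LP (LK LD1_c8 LD2_c50 LD3_c29)) :=
  Lgr Lrot75 (Lpr_bf (K7.f78430 IH) (Lpr_ff (f202740 IH) (Lpr_bf (K4.f99243 IH) (Lpn (LP (LK LD1_c8 LD2_c50 LD3_c29))))))
theorem f202750 : Led Lsl_ff (LP (LK LD1_c9 LD2_c25 LD3_c32)) = (LP (LK LD1_c8 LD2_c50 LD3_c29)) :=
  Lgr Lrot3 (Lpr_ft (f202744 IH) (Lpn (LP (LK LD1_c8 LD2_c50 LD3_c29))))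
theorem f112590 : Led Lsl_dt (LP (LK LD1_c7 LD2_c56 LD3_c59)) = (LP (LK LD1_c4 LD2_c0 LD3_c34)) :=
  Lgr Lrot42 (Lpr_df (K4.f112587 IH) (Lpn (LP (LK LD1_c4 LD2_c0 LD3_c34))))
theorem f38186 : Led Lsl_ct (LP (LK LD1_c6 LD2_c13 LD3_c48)) = (LP (LK LD1_c12 LD2_c6 LD3_c16)) :=
  Lre_c IH (LK LD1_c6 LD2_c13 LD3_c48) (LK LD1_c12 LD2_c6 LD3_c16) Lrfl Lrfl
theorem f38187 : Led Lsl_dt (LP (LK LD1_c3 LD2_c3 LD3_c44)) = (LP (LK LD1_c6 LD2_c13 LD3_c48)) :=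
  Lre_d IH (LK LD1_c3 LD2_c3 LD3_c44) (LK LD1_c6 LD2_c13 LD3_c48) Lrfl Lrfl
theorem f80676 : Led Lsl_at (LP (LK LD1_c4 LD2_c0 LD3_c36)) = (LP (LK LD1_c1 LD2_c57 LD3_c2)) :=
  Lre_a IH (LK LD1_c4 LD2_c0 LD3_c36) (LK LD1_c1 LD2_c57 LD3_c2) Lrfl Lrfl
theorem f80715 : Led Lsl_ft (LP (LK LD1_c3 LD2_c3 LD3_c44)) = (LP (LK LD1_c4 LD2_c0 LD3_c36)) :=
  Lgr Lrot142 (Lpr_dt (f38187 IH) (Lpr_ct (f38186 IH) (Lpr_dt (K6.f80709 IH) (Lpr_ct (K6.f26429 IH) (Lpr_dt (K6.f75538 IH) (Lpr_ct (K6.f70430 IH) (Lpr_dt (K6.f70487 IH) (Lpe (K6.f80543 IH) (Lpe (f80676 IH) (Lpn (LP (LK LD1_c4 LD2_c0 LD3_c36))))))))))))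
theorem f80717 : Led Lsl_at (LP (LK LD1_c1 LD2_c27 LD3_c51)) = (LP (LK LD1_c3 LD2_c3 LD3_c44)) :=
  Lre_a IH (LK LD1_c1 LD2_c27 LD3_c51) (LK LD1_c3 LD2_c3 LD3_c44) Lrfl Lrfl
theorem f80718 : Led Lsl_ff (LP (LK LD1_c1 LD2_c27 LD3_c51)) = (LP (LK LD1_c1 LD2_c57 LD3_c2)) :=
  Lgr Lrot30 (Lpr_at (f80717 IH) (Lpr_ft (f80715 IH) (Lpr_at (f80676 IH) (Lpn (LP (LK LD1_c1 LD2_c57 LD3_c2))))))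
theorem f80797 : Led Lsl_gf (LP (LK LD1_c3 LD2_c3 LD3_c44)) = (LP (LK LD1_c4 LD2_c0 LD3_c34)) :=
  Lgr Lrot76 (Lpe (f80717 IH) (Lpr_ff (f80718 IH) (Lpr_gt (K4.f80445 IH) (Lpn (LP (LK LD1_c4 LD2_c0 LD3_c34))))))
theorem f118944 : Led Lsl_gf (LP (LK LD1_c11 LD2_c44 LD3_c1)) = (LP (LK LD1_c9 LD2_c25 LD3_c31)) :=
  Lgr Lrot143 (Lpe (K6.f80713 IH) (Lpe (f38186 IH) (Lpe (f38187 IH) (Lpr_gf (f80797 IH) (Lpe (f112590 IH) (Lpe (K4.f37457 IH) (Lpr_cf (K4.f81778 IH) (Lpr_gt (K5.f112630 IH) (Lpr_dt (K5.f118937 IH) (Lpn (LP (LK LD1_c9 LD2_c25 LD3_c31))))))))))))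
theorem f202756 : Led Lsl_at (LP (LK LD1_c9 LD2_c25 LD3_c32)) = (LP (LK LD1_c11 LD2_c44 LD3_c1)) :=
  Lgr Lrot26 (Lpr_ff (f202750 IH) (Lpr_gt (K7.f118962 IH) (Lpe (f118944 IH) (Lpn (LP (LK LD1_c11 LD2_c44 LD3_c1))))))
theorem f202762 : Led Lsl_af (LP (LK LD1_c9 LD2_c29 LD3_c61)) = (LP (LK LD1_c5 LD2_c59 LD3_c46)) :=
  Lgr Lrot68 (Lpe (K7.f78423 IH) (Lpr_at (f202756 IH) (Lpr_ct (K6.f26429 IH) (Lpn (LP (LK LD1_c5 LD2_c59 LD3_c46))))))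
theorem f202748 : Led Lsl_df (LP (LK LD1_c9 LD2_c25 LD3_c32)) = (LP (LK LD1_c6 LD2_c13 LD3_c51)) :=
  Lgr Lrot78 (Lpr_ft (f202744 IH) (Lpr_dt (K4.f38180 IH) (Lpr_ft (K6.f38164 IH) (Lpn (LP (LK LD1_c6 LD2_c13 LD3_c51))))))
theorem f38218 : Led Lsl_dt (LP (LK LD1_c1 LD2_c27 LD3_c51)) = (LP (LK LD1_c3 LD2_c3 LD3_c45)) :=
  Lre_d IH (LK LD1_c1 LD2_c27 LD3_c51) (LK LD1_c3 LD2_c3 LD3_c45) Lrfl Lrfl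
theorem f202692 : Led Lsl_ff (LP (LK LD1_c5 LD2_c59 LD3_c46)) = (LP (LK LD1_c9 LD2_c23 LD3_c56)) :=
  Lgr Lrot25 (Lpr_bt (f75619 IH) (Lpr_ft (f202689 IH) (Lpr_bt (K8.f78318 IH) (Lpn (LP (LK LD1_c9 LD2_c23 LD3_c56))))))
theorem f78332 : Led Lsl_dt (LP (LK LD1_c3 LD2_c57 LD3_c39)) = (LP (LK LD1_c1 LD2_c55 LD3_c34)) :=
  Lre_d IH (LK LD1_c3 LD2_c57 LD3_c39) (LK LD1_c1 LD2_c55 LD3_c34) Lrfl Lrfl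
theorem f202772 : Led Lsl_cf (LP (LK LD1_c1 LD2_c27 LD3_c51)) = (LP (LK LD1_c1 LD2_c55 LD3_c34)) :=
  Lgr Lrot116 (Lpr_dt (f38218 IH) (Lpr_ct (K6.f38150 IH) (Lpe (f202748 IH) (Lpr_ct (K7.f78419 IH) (Lpr_af (f202762 IH) (Lpr_ff (f202692 IH) (Lpr_dt (K6.f78326 IH) (Lpr_ct (K6.f59235 IH) (Lpr_dt (f78332 IH) (Lpn (LP (LK LD1_c1 LD2_c55 LD3_c34))))))))))))
theorem f80736 : Led Lsl_gt (LP (LK LD1_c3 LD2_c3 LD3_c43)) = (LP (LK LD1_c1 LD2_c27 LD3_c51)) :=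
  Lre_g IH (LK LD1_c3 LD2_c3 LD3_c43) (LK LD1_c1 LD2_c27 LD3_c51) Lrfl Lrfl
theorem f80742 : Led Lsl_ct (LP (LK LD1_c6 LD2_c13 LD3_c46)) = (LP (LK LD1_c3 LD2_c3 LD3_c43)) :=
  Lre_c IH (LK LD1_c6 LD2_c13 LD3_c46) (LK LD1_c3 LD2_c3 LD3_c43) Lrfl Lrfl
theorem f70194 : Led Lsl_bt (LP (LK LD1_c1 LD2_c55 LD3_c34)) = (LP (LK LD1_c0 LD2_c54 LD3_c31)) :=
  Lre_b IH (LK LD1_c1 LD2_c55 LD3_c34) (LK LD1_c0 LD2_c54 LD3_c31) Lrfl Lrfl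
theorem f202795 : Led Lsl_bt (LP (LK LD1_c6 LD2_c13 LD3_c46)) = (LP (LK LD1_c4 LD2_c0 LD3_c34)) :=
  Lgr Lrot92 (Lpr_ct (f80742 IH) (Lpr_gt (f80736 IH) (Lpr_cf (f202772 IH) (Lpr_bt (f70194 IH) (Lpe (K1.f59330 IH) (Lpr_ct (K1.f37184 IH) (Lpe (K4.f80351 IH) (Lpe (K4.f59626 IH) (Lpr_bt (K4.f80444 IH) (Lpr_gt (K4.f80445 IH) (Lpn (LP (LK LD1_c4 LD2_c0 LD3_c34)))))))))))))
theorem f80723 : Led Lsl_ff (LP (LK LD1_c3 LD2_c3 LD3_c44)) = (LP (LK LD1_c4 LD2_c0 LD3_c36)) :=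
  Lgr Lrot3 (Lpr_ft (f80715 IH) (Lpn (LP (LK LD1_c4 LD2_c0 LD3_c36))))
theorem f80730 : Led Lsl_at (LP (LK LD1_c3 LD2_c3 LD3_c44)) = (LP (LK LD1_c1 LD2_c27 LD3_c51)) :=
  Lre_a IH (LK LD1_c3 LD2_c3 LD3_c44) (LK LD1_c1 LD2_c27 LD3_c51) Lrfl Lrfl
theorem f80737 : Led Lsl_gf (LP (LK LD1_c3 LD2_c3 LD3_c43)) = (LP (LK LD1_c4 LD2_c0 LD3_c36)) :=
  Lgr Lrot47 (Lpr_gt (f80736 IH) (Lpe (f80730 IH) (Lpr_ff (f80723 IH) (Lpn (LP (LK LD1_c4 LD2_c0 LD3_c36))))))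
theorem f80677 : Led Lsl_at (LP (LK LD1_c1 LD2_c1 LD3_c55)) = (LP (LK LD1_c2 LD2_c9 LD3_c36)) :=
  Lre_a IH (LK LD1_c1 LD2_c1 LD3_c55) (LK LD1_c2 LD2_c9 LD3_c36) Lrfl Lrfl
theorem f80678 : Led Lsl_cf (LP (LK LD1_c4 LD2_c0 LD3_c36)) = (LP (LK LD1_c2 LD2_c9 LD3_c36)) :=
  Lgr Lrot1 (Lpr_at (f80676 IH) (Lpr_ct (K4.f80674 IH) (Lpr_at (f80677 IH) (Lpn (LP (LK LD1_c2 LD2_c9 LD3_c36))))))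
theorem f80720 : Led Lsl_bt (LP (LK LD1_c1 LD2_c28 LD3_c8)) = (LP (LK LD1_c3 LD2_c3 LD3_c44)) :=
  Lre_b IH (LK LD1_c1 LD2_c28 LD3_c8) (LK LD1_c3 LD2_c3 LD3_c44) Lrfl Lrfl
theorem f202801 : Led Lsl_gf (LP (LK LD1_c2 LD2_c9 LD3_c36)) = (LP (LK LD1_c3 LD2_c57 LD3_c37)) :=
  Lgr Lrot181 (Lpe (f80678 IH) (Lpe (f80737 IH) (Lpe (f80742 IH) (Lpr_bt (f202795 IH) (Lpe (f80797 IH) (Lpe (f80720 IH) (Lpr_ct (f80728 IH) (Lpe (f202241 IH) (Lpe (K6.f59335 IH) (Lpr_bt (K6.f59338 IH) (Lpn (LP (LK LD1_c3 LD2_c57 LD3_c37)))))))))))))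
theorem f202809 : Led Lsl_bf (LP (LK LD1_c2 LD2_c9 LD3_c36)) = (LP (LK LD1_c1 LD2_c31 LD3_c6)) :=
  Lgr Lrot34 (Lpr_gf (f202801 IH) (Lpe (K6.f59338 IH) (Lpr_ct (K6.f59335 IH) (Lpr_gf (f202241 IH) (Lpe (f80728 IH) (Lpe (f202249 IH) (Lpr_bf (K8.f59188 IH) (Lpr_ct (K8.f26868 IH) (Lpe (K8.f161025 IH) (Lpe (K8.f69254 IH) (Lpn (LP (LK LD1_c1 LD2_c31 LD3_c6)))))))))))))
theorem f80704 : Led Lsl_dt (LP (LK LD1_c2 LD2_c9 LD3_c36)) = (LP (LK LD1_c4 LD2_c24 LD3_c17)) :=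
  Lre_d IH (LK LD1_c2 LD2_c9 LD3_c36) (LK LD1_c4 LD2_c24 LD3_c17) Lrfl Lrfl
theorem f69255 : Led Lsl_dt (LP (LK LD1_c3 LD2_c9 LD3_c57)) = (LP (LK LD1_c1 LD2_c31 LD3_c6)) :=
  Lre_d IH (LK LD1_c3 LD2_c9 LD3_c57) (LK LD1_c1 LD2_c31 LD3_c6) Lrfl Lrfl
theorem f202829 : Led Lsl_bt (LP (LK LD1_c4 LD2_c24 LD3_c17)) = (LP (LK LD1_c3 LD2_c9 LD3_c57)) :=
  Lgr Lrot95 (Lpe (f80704 IH) (Lpr_bf (f202809 IH) (Lpe (f69255 IH) (Lpn (LP (LK LD1_c3 LD2_c9 LD3_c57))))))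
theorem f202837 : Led Lsl_et (LP (LK LD1_c8 LD2_c46 LD3_c12)) = (LP (LK LD1_c4 LD2_c24 LD3_c17)) :=
  Lre_e IH (LK LD1_c8 LD2_c46 LD3_c12) (LK LD1_c4 LD2_c24 LD3_c17) Lrfl Lrfl
theorem f161028 : Led Lsl_et (LP (LK LD1_c3 LD2_c9 LD3_c57)) = (LP (LK LD1_c6 LD2_c24 LD3_c38)) :=
  Lre_e IH (LK LD1_c3 LD2_c9 LD3_c57) (LK LD1_c6 LD2_c24 LD3_c38) Lrfl Lrfl
theorem f202838 : Led Lsl_bf (LP (LK LD1_c8 LD2_c46 LD3_c12)) = (LP (LK LD1_c6 LD2_c24 LD3_c38)) :=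
  Lgr Lrot96 (Lpr_et (f202837 IH) (Lpr_bt (f202829 IH) (Lpr_et (f161028 IH) (Lpn (LP (LK LD1_c6 LD2_c24 LD3_c38))))))
theorem f202847 : Led Lsl_ct (LP (LK LD1_c8 LD2_c46 LD3_c12)) = (LP (LK LD1_c16 LD2_c24 LD3_c29)) :=
  Lre_c IH (LK LD1_c8 LD2_c46 LD3_c12) (LK LD1_c16 LD2_c24 LD3_c29) Lrfl Lrfl
theorem f75647 : Led Lsl_bt (LP (LK LD1_c16 LD2_c24 LD3_c29)) = (LP (LK LD1_c26 LD2_c22 LD3_c5)) :=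
  Lre_b IH (LK LD1_c16 LD2_c24 LD3_c29) (LK LD1_c26 LD2_c22 LD3_c5) Lrfl Lrfl
theorem f202848 : Led Lsl_ct (LP (LK LD1_c12 LD2_c22 LD3_c7)) = (LP (LK LD1_c6 LD2_c24 LD3_c38)) :=
  Lre_c IH (LK LD1_c12 LD2_c22 LD3_c7) (LK LD1_c6 LD2_c24 LD3_c38) Lrfl Lrfl
theorem f202849 : Led Lsl_bt (LP (LK LD1_c21 LD2_c28 LD3_c50)) = (LP (LK LD1_c12 LD2_c22 LD3_c7)) :=
  Lre_b IH (LK LD1_c21 LD2_c28 LD3_c50) (LK LD1_c12 LD2_c22 LD3_c7) Lrfl Lrfl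
theorem f202850 : Led Lsl_ct (LP (LK LD1_c26 LD2_c22 LD3_c5)) = (LP (LK LD1_c21 LD2_c28 LD3_c50)) :=
  Lgr Lrot83 (Lpe (f75647 IH) (Lpe (f202847 IH) (Lpr_bf (f202838 IH) (Lpe (f202848 IH) (Lpe (f202849 IH) (Lpn (LP (LK LD1_c21 LD2_c28 LD3_c50))))))))
theorem f202859 : Led Lsl_cf (LP (LK LD1_c26 LD2_c22 LD3_c5)) = (LP (LK LD1_c21 LD2_c28 LD3_c50)) :=
  Lgr Lrot11 (Lpr_ct (f202850 IH) (Lpn (LP (LK LD1_c21 LD2_c28 LD3_c50))))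
theorem f75801 : Led Lsl_et (LP (LK LD1_c26 LD2_c22 LD3_c5)) = (LP (LK LD1_c16 LD2_c24 LD3_c28)) :=
  Lre_e IH (LK LD1_c26 LD2_c22 LD3_c5) (LK LD1_c16 LD2_c24 LD3_c28) Lrfl Lrfl
theorem f202867 : Led Lsl_et (LP (LK LD1_c12 LD2_c22 LD3_c6)) = (LP (LK LD1_c21 LD2_c28 LD3_c50)) :=
  Lre_e IH (LK LD1_c12 LD2_c22 LD3_c6) (LK LD1_c21 LD2_c28 LD3_c50) Lrfl Lrfl
theorem f202868 : Led Lsl_ct (LP (LK LD1_c16 LD2_c24 LD3_c28)) = (LP (LK LD1_c12 LD2_c22 LD3_c6)) :=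
  Lgr Lrot15 (Lpe (f75801 IH) (Lpr_cf (f202859 IH) (Lpe (f202867 IH) (Lpn (LP (LK LD1_c12 LD2_c22 LD3_c6))))))
theorem f75625 : Led Lsl_bf (LP (LK LD1_c5 LD2_c59 LD3_c46)) = (LP (LK LD1_c6 LD2_c14 LD3_c40)) :=
  Lgr Lrot24 (Lpr_bt (f75619 IH) (Lpn (LP (LK LD1_c6 LD2_c14 LD3_c40))))
theorem f75635 : Led Lsl_bt (LP (LK LD1_c4 LD2_c24 LD3_c21)) = (LP (LK LD1_c3 LD2_c4 LD3_c14)) :=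
  Lgr Lrot95 (Lpe (K6.f75538 IH) (Lpr_bf (f75625 IH) (Lpe (f75634 IH) (Lpn (LP (LK LD1_c3 LD2_c4 LD3_c14))))))
theorem f75618 : Led Lsl_at (LP (LK LD1_c8 LD2_c46 LD3_c11)) = (LP (LK LD1_c4 LD2_c24 LD3_c21)) :=
  Lre_a IH (LK LD1_c8 LD2_c46 LD3_c11) (LK LD1_c4 LD2_c24 LD3_c21) Lrfl Lrfl
theorem f75637 : Led Lsl_bt (LP (LK LD1_c16 LD2_c24 LD3_c28)) = (LP (LK LD1_c8 LD2_c46 LD3_c11)) :=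
  Lre_b IH (LK LD1_c16 LD2_c24 LD3_c28) (LK LD1_c8 LD2_c46 LD3_c11) Lrfl Lrfl
theorem f75638 : Led Lsl_at (LP (LK LD1_c3 LD2_c4 LD3_c14)) = (LP (LK LD1_c6 LD2_c14 LD3_c37)) :=
  Lre_a IH (LK LD1_c3 LD2_c4 LD3_c14) (LK LD1_c6 LD2_c14 LD3_c37) Lrfl Lrfl
theorem f75639 : Led Lsl_bt (LP (LK LD1_c6 LD2_c14 LD3_c37)) = (LP (LK LD1_c12 LD2_c7 LD3_c27)) :=
  Lre_b IH (LK LD1_c6 LD2_c14 LD3_c37) (LK LD1_c12 LD2_c7 LD3_c27) Lrfl Lrfl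
theorem f75640 : Led Lsl_af (LP (LK LD1_c16 LD2_c24 LD3_c28)) = (LP (LK LD1_c12 LD2_c7 LD3_c27)) :=
  Lgr Lrot36 (Lpr_bt (f75637 IH) (Lpr_at (f75618 IH) (Lpr_bt (f75635 IH) (Lpr_at (f75638 IH) (Lpr_bt (f75639 IH) (Lpn (LP (LK LD1_c12 LD2_c7 LD3_c27))))))))
theorem f202873 : Led Lsl_af (LP (LK LD1_c21 LD2_c12 LD3_c20)) = (LP (LK LD1_c12 LD2_c22 LD3_c6)) :=
  Lgr Lrot68 (Lpr_ct (f38191 IH) (Lpe (f75640 IH) (Lpr_ct (f202868 IH) (Lpn (LP (LK LD1_c12 LD2_c22 LD3_c6))))))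
theorem f38192 : Led Lsl_bt (LP (LK LD1_c8 LD2_c50 LD3_c25)) = (LP (LK LD1_c16 LD2_c31 LD3_c24)) :=
  Lre_b IH (LK LD1_c8 LD2_c50 LD3_c25) (LK LD1_c16 LD2_c31 LD3_c24) Lrfl Lrfl
theorem f38193 : Led Lsl_ft (LP (LK LD1_c16 LD2_c31 LD3_c24)) = (LP (LK LD1_c21 LD2_c12 LD3_c20)) :=
  Lgr Lrot75 (Lpe (f38192 IH) (Lpr_ff (K6.f38176 IH) (Lpe (f38190 IH) (Lpn (LP (LK LD1_c21 LD2_c12 LD3_c20))))))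
theorem f38214 : Led Lsl_ff (LP (LK LD1_c16 LD2_c31 LD3_c24)) = (LP (LK LD1_c21 LD2_c12 LD3_c20)) :=
  Lgr Lrot3 (Lpr_ft (f38193 IH) (Lpn (LP (LK LD1_c21 LD2_c12 LD3_c20))))
theorem f36527 : Led Lsl_at (LP (LK LD1_c8 LD2_c45 LD3_c40)) = (LP (LK LD1_c4 LD2_c23 LD3_c61)) :=
  Lre_a IH (LK LD1_c8 LD2_c45 LD3_c40) (LK LD1_c4 LD2_c23 LD3_c61) Lrfl Lrfl
theorem f99251 : Led Lsl_bt (LP (LK LD1_c16 LD2_c23 LD3_c51)) = (LP (LK LD1_c8 LD2_c45 LD3_c40)) :=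
  Lre_b IH (LK LD1_c16 LD2_c23 LD3_c51) (LK LD1_c8 LD2_c45 LD3_c40) Lrfl Lrfl
theorem f99252 : Led Lsl_af (LP (LK LD1_c16 LD2_c23 LD3_c51)) = (LP (LK LD1_c16 LD2_c31 LD3_c24)) :=
  Lgr Lrot36 (Lpr_bt (f99251 IH) (Lpr_at (f36527 IH) (Lpr_bt (K4.f99248 IH) (Lpr_at (f38157 IH) (Lpr_bt (f38192 IH) (Lpn (LP (LK LD1_c16 LD2_c31 LD3_c24))))))))
theorem f202880 : Led Lsl_ft (LP (LK LD1_c16 LD2_c23 LD3_c51)) = (LP (LK LD1_c12 LD2_c22 LD3_c6)) :=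
  Lgr Lrot101 (Lpr_af (f99252 IH) (Lpr_ff (f38214 IH) (Lpr_af (f202873 IH) (Lpn (LP (LK LD1_c12 LD2_c22 LD3_c6))))))
theorem f101886 : Led Lsl_bt (LP (LK LD1_c8 LD2_c45 LD3_c40)) = (LP (LK LD1_c16 LD2_c23 LD3_c51)) :=
  Lre_b IH (LK LD1_c8 LD2_c45 LD3_c40) (LK LD1_c16 LD2_c23 LD3_c51) Lrfl Lrfl
theorem f202875 : Led Lsl_bt (LP (LK LD1_c12 LD2_c22 LD3_c6)) = (LP (LK LD1_c6 LD2_c24 LD3_c37)) :=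
  Lre_b IH (LK LD1_c12 LD2_c22 LD3_c6) (LK LD1_c6 LD2_c24 LD3_c37) Lrfl Lrfl
theorem f202882 : Led Lsl_ff (LP (LK LD1_c8 LD2_c45 LD3_c40)) = (LP (LK LD1_c6 LD2_c24 LD3_c37)) :=
  Lgr Lrot25 (Lpr_bt (f101886 IH) (Lpr_ft (f202880 IH) (Lpr_bt (f202875 IH) (Lpn (LP (LK LD1_c6 LD2_c24 LD3_c37))))))
theorem f202890 : Led Lsl_gf (LP (LK LD1_c8 LD2_c45 LD3_c47)) = (LP (LK LD1_c6 LD2_c24 LD3_c37)) :=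
  Lgr Lrot47 (Lpr_gt (K6.f36531 IH) (Lpe (f36527 IH) (Lpr_ff (f202882 IH) (Lpn (LP (LK LD1_c6 LD2_c24 LD3_c37))))))
theorem f161667 : Led Lsl_cf (LP (LK LD1_c8 LD2_c45 LD3_c47)) = (LP (LK LD1_c4 LD2_c35 LD3_c18)) :=
  Lgr Lrot11 (Lpr_ct (K8.f161629 IH) (Lpn (LP (LK LD1_c4 LD2_c35 LD3_c18))))
theorem f37060 : Led Lsl_dt (LP (LK LD1_c2 LD2_c14 LD3_c51)) = (LP (LK LD1_c4 LD2_c35 LD3_c18)) :=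
  Lre_d IH (LK LD1_c2 LD2_c14 LD3_c51) (LK LD1_c4 LD2_c35 LD3_c18) Lrfl Lrfl
theorem f161330 : Led Lsl_bf (LP (LK LD1_c4 LD2_c36 LD3_c5)) = (LP (LK LD1_c4 LD2_c35 LD3_c18)) :=
  Lgr Lrot93 (Lpr_dt (f112746 IH) (Lpr_bt (K8.f161324 IH) (Lpr_dt (f37060 IH) (Lpn (LP (LK LD1_c4 LD2_c35 LD3_c18))))))
theorem f72426 : Led Lsl_dt (LP (LK LD1_c2 LD2_c27 LD3_c20)) = (LP (LK LD1_c1 LD2_c10 LD3_c53)) :=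
  Lre_d IH (LK LD1_c2 LD2_c27 LD3_c20) (LK LD1_c1 LD2_c10 LD3_c53) Lrfl Lrfl
theorem f161342 : Led Lsl_gt (LP (LK LD1_c2 LD2_c15 LD3_c14)) = (LP (LK LD1_c1 LD2_c22 LD3_c44)) :=
  Lgr Lrot150 (Lpr_cf (K8.f161328 IH) (Lpe (K8.f72419 IH) (Lpe (f72426 IH) (Lpr_gt (K8.f72433 IH) (Lpe (K8.f138851 IH) (Lpr_gt (K8.f157059 IH) (Lpr_ct (K2.f70927 IH) (Lpe (K2.f71007 IH) (Lpe (K7.f71006 IH) (Lpn (LP (LK LD1_c1 LD2_c22 LD3_c44))))))))))))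
theorem f202163 : Led Lsl_gt (LP (LK LD1_c4 LD2_c36 LD3_c5)) = (LP (LK LD1_c3 LD2_c4 LD3_c12)) :=
  Lgr Lrot9 (Lpe (f112739 IH) (Lpr_gt (f161342 IH) (Lpr_ct (K7.f71006 IH) (Lpe (K8.f71120 IH) (Lpr_ct (K7.f37820 IH) (Lpe (K8.f37826 IH) (Lpe (K8.f149297 IH) (Lpr_gf (f202155 IH) (Lpe (f80777 IH) (Lpn (LP (LK LD1_c3 LD2_c4 LD3_c12))))))))))))
theorem f69250 : Led Lsl_ct (LP (LK LD1_c3 LD2_c9 LD3_c57)) = (LP (LK LD1_c6 LD2_c24 LD3_c37)) :=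
  Lre_c IH (LK LD1_c3 LD2_c9 LD3_c57) (LK LD1_c6 LD2_c24 LD3_c37) Lrfl Lrfl
theorem f202833 : Led Lsl_bf (LP (LK LD1_c4 LD2_c24 LD3_c17)) = (LP (LK LD1_c3 LD2_c9 LD3_c57)) :=
  Lgr Lrot24 (Lpr_bt (f202829 IH) (Lpn (LP (LK LD1_c3 LD2_c9 LD3_c57))))
theorem f202902 : Led Lsl_gt (LP (LK LD1_c7 LD2_c56 LD3_c42)) = (LP (LK LD1_c4 LD2_c24 LD3_c17)) :=
  Lgr Lrot164 (Lpe (K7.f150029 IH) (Lpe (K7.f149334 IH) (Lpr_gf (f202155 IH) (Lpe (f80777 IH) (Lpe (f202163 IH) (Lpr_bf (f161330 IH) (Lpe (f161667 IH) (Lpr_gf (f202890 IH) (Lpe (f69250 IH) (Lpe (f202833 IH) (Lpn (LP (LK LD1_c4 LD2_c24 LD3_c17)))))))))))))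
theorem f150027 : Led Lsl_ct (LP (LK LD1_c4 LD2_c46 LD3_c52)) = (LP (LK LD1_c7 LD2_c56 LD3_c42)) :=
  Lgr Lrot10 (Lpr_bt (K7.f20063 IH) (Lpr_gt (K3.f13768 IH) (Lpr_ct (K0.f13737 IH) (Lpe (K3.f13769 IH) (Lpr_cf (K3.f102989 IH) (Lpr_bt (K6.f103008 IH) (Lpr_gt (K7.f149928 IH) (Lpr_bf (K8.f78330 IH) (Lpr_ct (K6.f59235 IH) (Lpr_gt (K7.f59249 IH) (Lpn (LP (LK LD1_c7 LD2_c56 LD3_c42)))))))))))))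
theorem f139085 : Led Lsl_af (LP (LK LD1_c4 LD2_c46 LD3_c52)) = (LP (LK LD1_c8 LD2_c46 LD3_c17)) :=
  Lgr Lrot0 (Lpr_at (K7.f139083 IH) (Lpn (LP (LK LD1_c8 LD2_c46 LD3_c17))))
theorem f78348 : Led Lsl_gt (LP (LK LD1_c4 LD2_c46 LD3_c25)) = (LP (LK LD1_c2 LD2_c21 LD3_c11)) :=
  Lre_g IH (LK LD1_c4 LD2_c46 LD3_c25) (LK LD1_c2 LD2_c21 LD3_c11) Lrfl Lrfl
theorem f78427 : Led Lsl_dt (LP (LK LD1_c9 LD2_c25 LD3_c30)) = (LP (LK LD1_c4 LD2_c46 LD3_c25)) :=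
  Lre_d IH (LK LD1_c9 LD2_c25 LD3_c30) (LK LD1_c4 LD2_c46 LD3_c25) Lrfl Lrfl
theorem f137949 : Led Lsl_gt (LP (LK LD1_c14 LD2_c59 LD3_c27)) = (LP (LK LD1_c9 LD2_c25 LD3_c30)) :=
  Lgr Lrot180 (Lpr_ct (K8.f78329 IH) (Lpr_gt (K7.f59247 IH) (Lpr_dt (f78332 IH) (Lpr_gt (K6.f59337 IH) (Lpe (K8.f137947 IH) (Lpr_ct (K6.f137936 IH) (Lpe (K5.f112452 IH) (Lpe (f78348 IH) (Lpe (f78427 IH) (Lpn (LP (LK LD1_c9 LD2_c25 LD3_c30))))))))))))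
theorem f150119 : Led Lsl_gf (LP (LK LD1_c4 LD2_c46 LD3_c52)) = (LP (LK LD1_c9 LD2_c25 LD3_c30)) :=
  Lgr Lrot76 (Lpr_af (f139085 IH) (Lpr_ff (K7.f150108 IH) (Lpr_gt (f137949 IH) (Lpn (LP (LK LD1_c9 LD2_c25 LD3_c30))))))
theorem f78426 : Led Lsl_dt (LP (LK LD1_c4 LD2_c46 LD3_c25)) = (LP (LK LD1_c9 LD2_c25 LD3_c30)) :=
  Lre_d IH (LK LD1_c4 LD2_c46 LD3_c25) (LK LD1_c9 LD2_c25 LD3_c30) Lrfl Lrfl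
theorem f80705 : Led Lsl_ct (LP (LK LD1_c4 LD2_c24 LD3_c17)) = (LP (LK LD1_c8 LD2_c46 LD3_c11)) :=
  Lre_c IH (LK LD1_c4 LD2_c24 LD3_c17) (LK LD1_c8 LD2_c46 LD3_c11) Lrfl Lrfl
theorem f202909 : Led Lsl_df (LP (LK LD1_c9 LD2_c29 LD3_c61)) = (LP (LK LD1_c8 LD2_c46 LD3_c11)) :=
  Lgr Lrot162 (Lpe (K7.f78419 IH) (Lpe (K7.f78418 IH) (Lpe (K7.f78391 IH) (Lpe (f78348 IH) (Lpr_dt (f78426 IH) (Lpe (f150119 IH) (Lpr_ct (f150027 IH) (Lpr_gt (f202902 IH) (Lpr_ct (f80705 IH) (Lpn (LP (LK LD1_c8 LD2_c46 LD3_c11))))))))))))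
theorem f202758 : Led Lsl_af (LP (LK LD1_c9 LD2_c25 LD3_c32)) = (LP (LK LD1_c11 LD2_c44 LD3_c1)) :=
  Lgr Lrot0 (Lpr_at (f202756 IH) (Lpn (LP (LK LD1_c11 LD2_c44 LD3_c1))))
theorem f80698 : Led Lsl_ct (LP (LK LD1_c4 LD2_c0 LD3_c36)) = (LP (LK LD1_c2 LD2_c9 LD3_c36)) :=
  Lgr Lrot59 (Lpr_cf (f80678 IH) (Lpn (LP (LK LD1_c2 LD2_c9 LD3_c36))))
theorem f38145 : Led Lsl_at (LP (LK LD1_c4 LD2_c26 LD3_c28)) = (LP (LK LD1_c2 LD2_c10 LD3_c28)) :=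
  Lre_a IH (LK LD1_c4 LD2_c26 LD3_c28) (LK LD1_c2 LD2_c10 LD3_c28) Lrfl Lrfl
theorem f38147 : Led Lsl_ff (LP (LK LD1_c4 LD2_c26 LD3_c28)) = (LP (LK LD1_c6 LD2_c13 LD3_c48)) :=
  Lgr Lrot30 (Lpr_at (f38145 IH) (Lpr_ft (K6.f38125 IH) (Lpr_at (K6.f38146 IH) (Lpn (LP (LK LD1_c6 LD2_c13 LD3_c48))))))
theorem f80734 : Led Lsl_dt (LP (LK LD1_c4 LD2_c26 LD3_c28)) = (LP (LK LD1_c4 LD2_c0 LD3_c36)) :=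
  Lgr Lrot60 (Lpr_ff (f38147 IH) (Lpe (f38187 IH) (Lpr_ff (f80723 IH) (Lpn (LP (LK LD1_c4 LD2_c0 LD3_c36))))))
theorem f38170 : Led Lsl_ct (LP (LK LD1_c8 LD2_c50 LD3_c25)) = (LP (LK LD1_c4 LD2_c26 LD3_c28)) :=
  Lre_c IH (LK LD1_c8 LD2_c50 LD3_c25) (LK LD1_c4 LD2_c26 LD3_c28) Lrfl Lrfl
theorem f202754 : Led Lsl_dt (LP (LK LD1_c9 LD2_c25 LD3_c32)) = (LP (LK LD1_c6 LD2_c13 LD3_c51)) :=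
  Lgr Lrot60 (Lpr_ff (f202750 IH) (Lpe (K4.f38161 IH) (Lpr_ff (K6.f38151 IH) (Lpn (LP (LK LD1_c6 LD2_c13 LD3_c51))))))
theorem f38179 : Led Lsl_ct (LP (LK LD1_c6 LD2_c13 LD3_c51)) = (LP (LK LD1_c3 LD2_c3 LD3_c45)) :=
  Lre_c IH (LK LD1_c6 LD2_c13 LD3_c51) (LK LD1_c3 LD2_c3 LD3_c45) Lrfl Lrfl
theorem f38153 : Led Lsl_dt (LP (LK LD1_c3 LD2_c3 LD3_c45)) = (LP (LK LD1_c1 LD2_c27 LD3_c51)) :=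
  Lre_d IH (LK LD1_c3 LD2_c3 LD3_c45) (LK LD1_c1 LD2_c27 LD3_c51) Lrfl Lrfl
theorem f202776 : Led Lsl_ct (LP (LK LD1_c1 LD2_c27 LD3_c51)) = (LP (LK LD1_c1 LD2_c55 LD3_c34)) :=
  Lgr Lrot59 (Lpr_cf (f202772 IH) (Lpn (LP (LK LD1_c1 LD2_c55 LD3_c34))))
theorem f78324 : Led Lsl_ct (LP (LK LD1_c3 LD2_c57 LD3_c39)) = (LP (LK LD1_c7 LD2_c56 LD3_c44)) :=
  Lre_c IH (LK LD1_c3 LD2_c57 LD3_c39) (LK LD1_c7 LD2_c56 LD3_c44) Lrfl Lrfl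
theorem f202913 : Led Lsl_dt (LP (LK LD1_c9 LD2_c25 LD3_c33)) = (LP (LK LD1_c8 LD2_c50 LD3_c25)) :=
  Lgr Lrot173 (Lpe (K6.f56979 IH) (Lpr_df (K6.f78279 IH) (Lpe (f78324 IH) (Lpe (K6.f78325 IH) (Lpe (f202776 IH) (Lpe (f38153 IH) (Lpe (f38179 IH) (Lpe (f202754 IH) (Lpr_cf (K7.f78423 IH) (Lpr_df (f202909 IH) (Lpe (f80705 IH) (Lpe (f80704 IH) (Lpe (f80698 IH) (Lpe (f80734 IH) (Lpe (f38170 IH) (Lpn (LP (LK LD1_c8 LD2_c50 LD3_c25))))))))))))))))))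
theorem f202921 : Led Lsl_ff (LP (LK LD1_c11 LD2_c44 LD3_c1)) = (LP (LK LD1_c9 LD2_c25 LD3_c33)) :=
  Lgr Lrot103 (Lpe (f202758 IH) (Lpr_cf (K7.f78423 IH) (Lpr_df (f202909 IH) (Lpe (f80705 IH) (Lpe (f80704 IH) (Lpe (f80698 IH) (Lpe (f80734 IH) (Lpe (f38170 IH) (Lpe (f202913 IH) (Lpn (LP (LK LD1_c9 LD2_c25 LD3_c33))))))))))))
theorem f202930 : Led Lsl_ft (LP (LK LD1_c11 LD2_c44 LD3_c1)) = (LP (LK LD1_c9 LD2_c25 LD3_c33)) :=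
  Lgr Lrot48 (Lpr_ff (f202921 IH) (Lpn (LP (LK LD1_c9 LD2_c25 LD3_c33))))
theorem f56982 : Led Lsl_bt (LP (LK LD1_c9 LD2_c25 LD3_c33)) = (LP (LK LD1_c17 LD2_c22 LD3_c58)) :=
  Lre_b IH (LK LD1_c9 LD2_c25 LD3_c33) (LK LD1_c17 LD2_c22 LD3_c58) Lrfl Lrfl
theorem f202934 : Led Lsl_ff (LP (LK LD1_c20 LD2_c45 LD3_c10)) = (LP (LK LD1_c17 LD2_c22 LD3_c58)) :=
  Lgr Lrot25 (Lpr_bt (K6.f75627 IH) (Lpr_ft (f202930 IH) (Lpr_bt (f56982 IH) (Lpn (LP (LK LD1_c17 LD2_c22 LD3_c58))))))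
theorem f202939 : Led Lsl_dt (LP (LK LD1_c16 LD2_c31 LD3_c24)) = (LP (LK LD1_c17 LD2_c22 LD3_c58)) :=
  Lgr Lrot60 (Lpr_ff (f38214 IH) (Lpr_df (f80711 IH) (Lpr_ff (f202934 IH) (Lpn (LP (LK LD1_c17 LD2_c22 LD3_c58))))))
theorem f56981 : Led Lsl_ct (LP (LK LD1_c9 LD2_c25 LD3_c33)) = (LP (LK LD1_c9 LD2_c23 LD3_c56)) :=
  Lre_c IH (LK LD1_c9 LD2_c25 LD3_c33) (LK LD1_c9 LD2_c23 LD3_c56) Lrfl Lrfl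
theorem f56983 : Led Lsl_gt (LP (LK LD1_c17 LD2_c22 LD3_c58)) = (LP (LK LD1_c22 LD2_c11 LD3_c3)) :=
  Lgr Lrot82 (Lpe (f56982 IH) (Lpr_ct (f56981 IH) (Lpe (K6.f56960 IH) (Lpr_cf (K7.f56872 IH) (Lpr_bt (K7.f56958 IH) (Lpe (K2.f14399 IH) (Lpe (K6.f14398 IH) (Lpr_ct (K0.f14038 IH) (Lpe (K6.f14065 IH) (Lpe (K6.f14066 IH) (Lpn (LP (LK LD1_c22 LD2_c11 LD3_c3)))))))))))))
theorem f13752 : Led Lsl_gt (LP (LK LD1_c9 LD2_c23 LD3_c22)) = (LP (LK LD1_c4 LD2_c45 LD3_c19)) :=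
  Lre_g IH (LK LD1_c9 LD2_c23 LD3_c22) (LK LD1_c4 LD2_c45 LD3_c19) Lrfl Lrfl
theorem f14067 : Led Lsl_ct (LP (LK LD1_c17 LD2_c19 LD3_c56)) = (LP (LK LD1_c9 LD2_c23 LD3_c22)) :=
  Lre_c IH (LK LD1_c17 LD2_c19 LD3_c56) (LK LD1_c9 LD2_c23 LD3_c22) Lrfl Lrfl
theorem f202946 : Led Lsl_gt (LP (LK LD1_c16 LD2_c31 LD3_c24)) = (LP (LK LD1_c17 LD2_c19 LD3_c56)) :=
  Lgr Lrot146 (Lpr_dt (f202939 IH) (Lpr_gt (f56983 IH) (Lpr_ct (K6.f14066 IH) (Lpr_gt (K6.f14065 IH) (Lpr_ct (K4.f14064 IH) (Lpr_dt (K4.f14061 IH) (Lpr_cf (K0.f14005 IH) (Lpe (f13752 IH) (Lpe (f14067 IH) (Lpn (LP (LK LD1_c17 LD2_c19 LD3_c56))))))))))))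
theorem f202876 : Led Lsl_at (LP (LK LD1_c21 LD2_c12 LD3_c20)) = (LP (LK LD1_c12 LD2_c22 LD3_c6)) :=
  Lgr Lrot100 (Lpr_af (f202873 IH) (Lpn (LP (LK LD1_c12 LD2_c22 LD3_c6))))
theorem f202948 : Led Lsl_gf (LP (LK LD1_c12 LD2_c22 LD3_c6)) = (LP (LK LD1_c17 LD2_c19 LD3_c56)) :=
  Lgr Lrot76 (Lpe (f202876 IH) (Lpe (f38193 IH) (Lpr_gt (f202946 IH) (Lpn (LP (LK LD1_c17 LD2_c19 LD3_c56))))))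
theorem f80701 : Led Lsl_ct (LP (LK LD1_c8 LD2_c46 LD3_c11)) = (LP (LK LD1_c4 LD2_c24 LD3_c17)) :=
  Lre_c IH (LK LD1_c8 LD2_c46 LD3_c11) (LK LD1_c4 LD2_c24 LD3_c17) Lrfl Lrfl
theorem f161027 : Led Lsl_bt (LP (LK LD1_c6 LD2_c24 LD3_c37)) = (LP (LK LD1_c12 LD2_c22 LD3_c6)) :=
  Lre_b IH (LK LD1_c6 LD2_c24 LD3_c37) (LK LD1_c12 LD2_c22 LD3_c6) Lrfl Lrfl
theorem f202835 : Led Lsl_cf (LP (LK LD1_c16 LD2_c24 LD3_c28)) = (LP (LK LD1_c12 LD2_c22 LD3_c6)) :=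
  Lgr Lrot97 (Lpr_bt (f75637 IH) (Lpr_ct (f80701 IH) (Lpr_bt (f202829 IH) (Lpr_ct (f69250 IH) (Lpr_bt (f161027 IH) (Lpn (LP (LK LD1_c12 LD2_c22 LD3_c6))))))))
theorem f14115 : Led Lsl_ct (LP (LK LD1_c9 LD2_c23 LD3_c22)) = (LP (LK LD1_c17 LD2_c19 LD3_c56)) :=
  Lre_c IH (LK LD1_c9 LD2_c23 LD3_c22) (LK LD1_c17 LD2_c19 LD3_c56) Lrfl Lrfl
theorem f14114 : Led Lsl_gt (LP (LK LD1_c5 LD2_c59 LD3_c21)) = (LP (LK LD1_c9 LD2_c23 LD3_c22)) :=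
  Lre_g IH (LK LD1_c5 LD2_c59 LD3_c21) (LK LD1_c9 LD2_c23 LD3_c22) Lrfl Lrfl
theorem f79246 : Led Lsl_ct (LP (LK LD1_c4 LD2_c45 LD3_c17)) = (LP (LK LD1_c9 LD2_c23 LD3_c16)) :=
  Lre_c IH (LK LD1_c4 LD2_c45 LD3_c17) (LK LD1_c9 LD2_c23 LD3_c16) Lrfl Lrfl
theorem f64583 : Led Lsl_bt (LP (LK LD1_c3 LD2_c16 LD3_c42)) = (LP (LK LD1_c6 LD2_c36 LD3_c44)) :=
  Lre_b IH (LK LD1_c3 LD2_c16 LD3_c42) (LK LD1_c6 LD2_c36 LD3_c44) Lrfl Lrfl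
theorem f79201 : Led Lsl_bf (LP (LK LD1_c9 LD2_c29 LD3_c61)) = (LP (LK LD1_c12 LD2_c39 LD3_c15)) :=
  Lgr Lrot90 (Lpe (K7.f78423 IH) (Lpr_bt (K7.f78428 IH) (Lpr_ct (K7.f79093 IH) (Lpr_bt (f64583 IH) (Lpr_ct (K7.f64593 IH) (Lpn (LP (LK LD1_c12 LD2_c39 LD3_c15))))))))
theorem f56957 : Led Lsl_bt (LP (LK LD1_c2 LD2_c22 LD3_c16)) = (LP (LK LD1_c4 LD2_c48 LD3_c45)) :=
  Lre_b IH (LK LD1_c2 LD2_c22 LD3_c16) (LK LD1_c4 LD2_c48 LD3_c45) Lrfl Lrfl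
theorem f79247 : Led Lsl_gt (LP (LK LD1_c9 LD2_c23 LD3_c16)) = (LP (LK LD1_c6 LD2_c36 LD3_c44)) :=
  Lgr Lrot149 (Lpe (f79246 IH) (Lpe (K7.f14348 IH) (Lpe (K3.f79245 IH) (Lpr_ct (K3.f79244 IH) (Lpe (K6.f40709 IH) (Lpe (K7.f56869 IH) (Lpr_bt (f56957 IH) (Lpe (K7.f56961 IH) (Lpr_bf (f79201 IH) (Lpr_ct (K7.f64590 IH) (Lpn (LP (LK LD1_c6 LD2_c36 LD3_c44)))))))))))))
theorem f203379 : Led Lsl_dt (LP (LK LD1_c16 LD2_c24 LD3_c28)) = (LP (LK LD1_c12 LD2_c39 LD3_c15)) :=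
  Lgr Lrot27 (Lpr_cf (f202835 IH) (Lpr_gf (f202948 IH) (Lpe (f14115 IH) (Lpe (f14114 IH) (Lpe (K3.f14082 IH) (Lpr_gt (K7.f14348 IH) (Lpr_ct (f79246 IH) (Lpr_gt (f79247 IH) (Lpr_ct (K7.f64593 IH) (Lpn (LP (LK LD1_c12 LD2_c39 LD3_c15))))))))))))
theorem f202711 : Led Lsl_at (LP (LK LD1_c12 LD2_c39 LD3_c15)) = (LP (LK LD1_c9 LD2_c23 LD3_c58)) :=
  Lgr Lrot100 (Lpr_af (f202709 IH) (Lpn (LP (LK LD1_c9 LD2_c23 LD3_c58))))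
theorem f203381 : Led Lsl_df (LP (LK LD1_c12 LD2_c7 LD3_c27)) = (LP (LK LD1_c9 LD2_c23 LD3_c58)) :=
  Lgr Lrot18 (Lpe (f75640 IH) (Lpr_dt (f203379 IH) (Lpr_at (f202711 IH) (Lpn (LP (LK LD1_c9 LD2_c23 LD3_c58))))))
theorem f38201 : Led Lsl_ct (LP (LK LD1_c12 LD2_c7 LD3_c27)) = (LP (LK LD1_c21 LD2_c12 LD3_c20)) :=
  Lre_c IH (LK LD1_c12 LD2_c7 LD3_c27) (LK LD1_c21 LD2_c12 LD3_c20) Lrfl Lrfl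
theorem f78422 : Led Lsl_bt (LP (LK LD1_c17 LD2_c22 LD3_c58)) = (LP (LK LD1_c9 LD2_c25 LD3_c33)) :=
  Lre_b IH (LK LD1_c17 LD2_c22 LD3_c58) (LK LD1_c9 LD2_c25 LD3_c33) Lrfl Lrfl
theorem f69179 : Led Lsl_bt (LP (LK LD1_c6 LD2_c1 LD3_c41)) = (LP (LK LD1_c11 LD2_c48 LD3_c3)) :=
  Lre_b IH (LK LD1_c6 LD2_c1 LD3_c41) (LK LD1_c11 LD2_c48 LD3_c3) Lrfl Lrfl
theorem f202332 : Led Lsl_cf (LP (LK LD1_c17 LD2_c22 LD3_c58)) = (LP (LK LD1_c11 LD2_c48 LD3_c3)) :=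
  Lgr Lrot97 (Lpr_bt (f78422 IH) (Lpr_ct (f56981 IH) (Lpr_bt (K6.f78278 IH) (Lpr_ct (f202330 IH) (Lpr_bt (f69179 IH) (Lpn (LP (LK LD1_c11 LD2_c48 LD3_c3))))))))
theorem f202679 : Led Lsl_ff (LP (LK LD1_c4 LD2_c38 LD3_c43)) = (LP (LK LD1_c2 LD2_c56 LD3_c59)) :=
  Lgr Lrot3 (Lpr_ft (f202615 IH) (Lpn (LP (LK LD1_c2 LD2_c56 LD3_c59))))
theorem f61133 : Led Lsl_bt (LP (LK LD1_c4 LD2_c38 LD3_c43)) = (LP (LK LD1_c9 LD2_c13 LD3_c14)) :=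
  Lre_b IH (LK LD1_c4 LD2_c38 LD3_c43) (LK LD1_c9 LD2_c13 LD3_c14) Lrfl Lrfl
theorem f69183 : Led Lsl_bt (LP (LK LD1_c6 LD2_c1 LD3_c40)) = (LP (LK LD1_c2 LD2_c56 LD3_c59)) :=
  Lre_b IH (LK LD1_c6 LD2_c1 LD3_c40) (LK LD1_c2 LD2_c56 LD3_c59) Lrfl Lrfl
theorem f202681 : Led Lsl_ft (LP (LK LD1_c9 LD2_c13 LD3_c14)) = (LP (LK LD1_c6 LD2_c1 LD3_c40)) :=
  Lgr Lrot75 (Lpe (f61133 IH) (Lpr_ff (f202679 IH) (Lpe (f69183 IH) (Lpn (LP (LK LD1_c6 LD2_c1 LD3_c40))))))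
theorem f61187 : Led Lsl_dt (LP (LK LD1_c17 LD2_c7 LD3_c43)) = (LP (LK LD1_c9 LD2_c13 LD3_c14)) :=
  Lre_d IH (LK LD1_c17 LD2_c7 LD3_c43) (LK LD1_c9 LD2_c13 LD3_c14) Lrfl Lrfl
theorem f202683 : Led Lsl_dt (LP (LK LD1_c6 LD2_c1 LD3_c40)) = (LP (LK LD1_c11 LD2_c48 LD3_c3)) :=
  Lre_d IH (LK LD1_c6 LD2_c1 LD3_c40) (LK LD1_c11 LD2_c48 LD3_c3) Lrfl Lrfl
theorem f202684 : Led Lsl_ff (LP (LK LD1_c17 LD2_c7 LD3_c43)) = (LP (LK LD1_c11 LD2_c48 LD3_c3)) :=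
  Lgr Lrot19 (Lpr_dt (f61187 IH) (Lpr_ft (f202681 IH) (Lpr_dt (f202683 IH) (Lpn (LP (LK LD1_c11 LD2_c48 LD3_c3))))))
theorem f202686 : Led Lsl_ft (LP (LK LD1_c17 LD2_c7 LD3_c43)) = (LP (LK LD1_c11 LD2_c48 LD3_c3)) :=
  Lgr Lrot48 (Lpr_ff (f202684 IH) (Lpn (LP (LK LD1_c11 LD2_c48 LD3_c3))))
theorem f202937 : Led Lsl_ct (LP (LK LD1_c20 LD2_c45 LD3_c10)) = (LP (LK LD1_c17 LD2_c7 LD3_c43)) :=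
  Lgr Lrot40 (Lpr_ff (f202934 IH) (Lpr_cf (f202332 IH) (Lpe (f202686 IH) (Lpn (LP (LK LD1_c17 LD2_c7 LD3_c43))))))
theorem f160856 : Led Lsl_bt (LP (LK LD1_c6 LD2_c2 LD3_c11)) = (LP (LK LD1_c2 LD2_c57 LD3_c12)) :=
  Lre_b IH (LK LD1_c6 LD2_c2 LD3_c11) (LK LD1_c2 LD2_c57 LD3_c12) Lrfl Lrfl
theorem f104886 : Led Lsl_ct (LP (LK LD1_c2 LD2_c16 LD3_c24)) = (LP (LK LD1_c4 LD2_c38 LD3_c43)) :=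
  Lre_c IH (LK LD1_c2 LD2_c16 LD3_c24) (LK LD1_c4 LD2_c38 LD3_c43) Lrfl Lrfl
theorem f202373 : Led Lsl_cf (LP (LK LD1_c6 LD2_c2 LD3_c11)) = (LP (LK LD1_c9 LD2_c13 LD3_c14)) :=
  Lgr Lrot97 (Lpr_bt (f160856 IH) (Lpr_ct (K8.f64589 IH) (Lpr_bt (f202367 IH) (Lpr_ct (f104886 IH) (Lpr_bt (f61133 IH) (Lpn (LP (LK LD1_c9 LD2_c13 LD3_c14))))))))
theorem f64594 : Led Lsl_dt (LP (LK LD1_c6 LD2_c2 LD3_c11)) = (LP (LK LD1_c11 LD2_c48 LD3_c48)) :=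
  Lre_d IH (LK LD1_c6 LD2_c2 LD3_c11) (LK LD1_c11 LD2_c48 LD3_c48) Lrfl Lrfl
theorem f99247 : Led Lsl_bt (LP (LK LD1_c11 LD2_c44 LD3_c3)) = (LP (LK LD1_c5 LD2_c59 LD3_c47)) :=
  Lre_b IH (LK LD1_c11 LD2_c44 LD3_c3) (LK LD1_c5 LD2_c59 LD3_c47) Lrfl Lrfl
theorem f64572 : Led Lsl_bt (LP (LK LD1_c6 LD2_c2 LD3_c12)) = (LP (LK LD1_c11 LD2_c48 LD3_c48)) :=
  Lre_b IH (LK LD1_c6 LD2_c2 LD3_c12) (LK LD1_c11 LD2_c48 LD3_c48) Lrfl Lrfl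
theorem f160830 : Led Lsl_cf (LP (LK LD1_c11 LD2_c44 LD3_c3)) = (LP (LK LD1_c11 LD2_c48 LD3_c48)) :=
  Lgr Lrot97 (Lpr_bt (f99247 IH) (Lpr_ct (K7.f99238 IH) (Lpe (K4.f99243 IH) (Lpr_ct (K8.f160826 IH) (Lpr_bt (f64572 IH) (Lpn (LP (LK LD1_c11 LD2_c48 LD3_c48))))))))
theorem f203385 : Led Lsl_af (LP (LK LD1_c11 LD2_c44 LD3_c3)) = (LP (LK LD1_c11 LD2_c48 LD3_c14)) :=
  Lgr Lrot109 (Lpr_cf (f160830 IH) (Lpe (f64594 IH) (Lpr_cf (f202373 IH) (Lpe (f61187 IH) (Lpe (f202937 IH) (Lpe (K6.f80825 IH) (Lpe (f38201 IH) (Lpr_df (f203381 IH) (Lpe (f202701 IH) (Lpn (LP (LK LD1_c11 LD2_c48 LD3_c14))))))))))))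
theorem f203392 : Led Lsl_ft (LP (LK LD1_c11 LD2_c44 LD3_c3)) = (LP (LK LD1_c12 LD2_c39 LD3_c15)) :=
  Lgr Lrot101 (Lpr_af (f203385 IH) (Lpr_ff (f202701 IH) (Lpe (f202711 IH) (Lpn (LP (LK LD1_c12 LD2_c39 LD3_c15))))))
theorem f203394 : Led Lsl_ff (LP (LK LD1_c11 LD2_c44 LD3_c3)) = (LP (LK LD1_c12 LD2_c39 LD3_c15)) :=
  Lgr Lrot3 (Lpr_ft (f203392 IH) (Lpn (LP (LK LD1_c12 LD2_c39 LD3_c15))))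
theorem f64574 : Led Lsl_ft (LP (LK LD1_c11 LD2_c48 LD3_c48)) = (LP (LK LD1_c6 LD2_c36 LD3_c44)) :=
  Lgr Lrot75 (Lpe (f64572 IH) (Lpr_ff (K8.f64536 IH) (Lpe (K7.f64573 IH) (Lpn (LP (LK LD1_c6 LD2_c36 LD3_c44))))))
theorem f203396 : Led Lsl_ct (LP (LK LD1_c11 LD2_c44 LD3_c3)) = (LP (LK LD1_c11 LD2_c48 LD3_c48)) :=
  Lgr Lrot40 (Lpr_ff (f203394 IH) (Lpe (K7.f64593 IH) (Lpe (f64574 IH) (Lpn (LP (LK LD1_c11 LD2_c48 LD3_c48))))))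
theorem f151075 : Led Lsl_gt (LP (LK LD1_c12 LD2_c34 LD3_c17)) = (LP (LK LD1_c11 LD2_c48 LD3_c14)) :=
  Lgr Lrot5 (Lpr_ft (K7.f151064 IH) (Lpr_at (K7.f150830 IH) (Lpe (f79938 IH) (Lpn (LP (LK LD1_c11 LD2_c48 LD3_c14))))))
theorem f152454 : Led Lsl_bt (LP (LK LD1_c6 LD2_c19 LD3_c36)) = (LP (LK LD1_c3 LD2_c7 LD3_c18)) :=
  Lre_b IH (LK LD1_c6 LD2_c19 LD3_c36) (LK LD1_c3 LD2_c7 LD3_c18) Lrfl Lrfl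
theorem f152605 : Led Lsl_cf (LP (LK LD1_c11 LD2_c48 LD3_c14)) = (LP (LK LD1_c6 LD2_c19 LD3_c36)) :=
  Lgr Lrot163 (Lpe (f151075 IH) (Lpe (K7.f79230 IH) (Lpe (K7.f98890 IH) (Lpe (K7.f130922 IH) (Lpr_ct (K6.f75056 IH) (Lpe (K4.f26401 IH) (Lpe (K7.f40600 IH) (Lpr_bt (K7.f152527 IH) (Lpr_gf (K7.f152598 IH) (Lpe (f152454 IH) (Lpn (LP (LK LD1_c6 LD2_c19 LD3_c36)))))))))))))
theorem f203398 : Led Lsl_af (LP (LK LD1_c6 LD2_c19 LD3_c36)) = (LP (LK LD1_c11 LD2_c48 LD3_c48)) :=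
  Lgr Lrot68 (Lpe (f152605 IH) (Lpe (f203385 IH) (Lpr_ct (f203396 IH) (Lpn (LP (LK LD1_c11 LD2_c48 LD3_c48))))))
theorem f69143 : Led Lsl_bf (LP (LK LD1_c2 LD2_c57 LD3_c1)) = (LP (LK LD1_c1 LD2_c31 LD3_c50)) :=
  Lgr Lrot24 (Lpr_bt (K7.f69130 IH) (Lpn (LP (LK LD1_c1 LD2_c31 LD3_c50))))
theorem f152455 : Led Lsl_ct (LP (LK LD1_c11 LD2_c48 LD3_c14)) = (LP (LK LD1_c6 LD2_c19 LD3_c36)) :=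
  Lgr Lrot83 (Lpe (f26519 IH) (Lpe (K6.f26518 IH) (Lpr_bf (f69143 IH) (Lpr_cf (K7.f152451 IH) (Lpe (f152454 IH) (Lpn (LP (LK LD1_c6 LD2_c19 LD3_c36))))))))
theorem f202703 : Led Lsl_ft (LP (LK LD1_c6 LD2_c19 LD3_c36)) = (LP (LK LD1_c9 LD2_c18 LD3_c13)) :=
  Lgr Lrot4 (Lpe (f152455 IH) (Lpr_ff (f202701 IH) (Lpe (K8.f149939 IH) (Lpn (LP (LK LD1_c9 LD2_c18 LD3_c13))))))
theorem f64582 : Led Lsl_bt (LP (LK LD1_c11 LD2_c48 LD3_c48)) = (LP (LK LD1_c6 LD2_c2 LD3_c12)) :=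
  Lre_b IH (LK LD1_c11 LD2_c48 LD3_c48) (LK LD1_c6 LD2_c2 LD3_c12) Lrfl Lrfl
theorem f64584 : Led Lsl_ff (LP (LK LD1_c11 LD2_c48 LD3_c48)) = (LP (LK LD1_c6 LD2_c36 LD3_c44)) :=
  Lgr Lrot25 (Lpr_bt (f64582 IH) (Lpr_ft (K8.f64579 IH) (Lpr_bt (f64583 IH) (Lpn (LP (LK LD1_c6 LD2_c36 LD3_c44))))))
theorem f203403 : Led Lsl_at (LP (LK LD1_c9 LD2_c18 LD3_c13)) = (LP (LK LD1_c6 LD2_c36 LD3_c44)) :=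
  Lgr Lrot66 (Lpe (f202703 IH) (Lpr_af (f203398 IH) (Lpr_ff (f64584 IH) (Lpn (LP (LK LD1_c6 LD2_c36 LD3_c44))))))
theorem f152475 : Led Lsl_dt (LP (LK LD1_c6 LD2_c19 LD3_c36)) = (LP (LK LD1_c3 LD2_c7 LD3_c17)) :=
  Lre_d IH (LK LD1_c6 LD2_c19 LD3_c36) (LK LD1_c3 LD2_c7 LD3_c17) Lrfl Lrfl
theorem f202735 : Led Lsl_af (LP (LK LD1_c6 LD2_c24 LD3_c39)) = (LP (LK LD1_c9 LD2_c12 LD3_c56)) :=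
  Lgr Lrot0 (Lpr_at (f202733 IH) (Lpn (LP (LK LD1_c9 LD2_c12 LD3_c56))))
theorem f141784 : Led Lsl_bt (LP (LK LD1_c17 LD2_c7 LD3_c21)) = (LP (LK LD1_c9 LD2_c12 LD3_c56)) :=
  Lre_b IH (LK LD1_c17 LD2_c7 LD3_c21) (LK LD1_c9 LD2_c12 LD3_c56) Lrfl Lrfl
theorem f202760 : Led Lsl_af (LP (LK LD1_c17 LD2_c7 LD3_c21)) = (LP (LK LD1_c20 LD2_c45 LD3_c10)) :=
  Lgr Lrot36 (Lpr_bt (f141784 IH) (Lpe (f202735 IH) (Lpe (K7.f78430 IH) (Lpr_at (f202756 IH) (Lpr_bt (K6.f26430 IH) (Lpn (LP (LK LD1_c20 LD2_c45 LD3_c10))))))))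
theorem f202878 : Led Lsl_dt (LP (LK LD1_c17 LD2_c7 LD3_c21)) = (LP (LK LD1_c12 LD2_c22 LD3_c6)) :=
  Lgr Lrot44 (Lpr_af (f202760 IH) (Lpe (K6.f80825 IH) (Lpr_af (f202873 IH) (Lpn (LP (LK LD1_c12 LD2_c22 LD3_c6))))))
theorem f150582 : Led Lsl_bt (LP (LK LD1_c9 LD2_c12 LD3_c56)) = (LP (LK LD1_c17 LD2_c7 LD3_c21)) :=
  Lre_b IH (LK LD1_c9 LD2_c12 LD3_c56) (LK LD1_c17 LD2_c7 LD3_c21) Lrfl Lrfl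
theorem f61172 : Led Lsl_bt (LP (LK LD1_c9 LD2_c18 LD3_c7)) = (LP (LK LD1_c4 LD2_c41 LD3_c41)) :=
  Lre_b IH (LK LD1_c9 LD2_c18 LD3_c7) (LK LD1_c4 LD2_c41 LD3_c41) Lrfl Lrfl
theorem f155794 : Led Lsl_ct (LP (LK LD1_c17 LD2_c7 LD3_c21)) = (LP (LK LD1_c9 LD2_c18 LD3_c7)) :=
  Lgr Lrot83 (Lpe (f150582 IH) (Lpe (K8.f26864 IH) (Lpr_bf (K8.f150455 IH) (Lpr_cf (K8.f155780 IH) (Lpe (f61172 IH) (Lpn (LP (LK LD1_c9 LD2_c18 LD3_c7))))))))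
theorem f155797 : Led Lsl_cf (LP (LK LD1_c17 LD2_c7 LD3_c21)) = (LP (LK LD1_c9 LD2_c18 LD3_c7)) :=
  Lgr Lrot11 (Lpr_ct (f155794 IH) (Lpn (LP (LK LD1_c9 LD2_c18 LD3_c7))))
theorem f61188 : Led Lsl_dt (LP (LK LD1_c4 LD2_c41 LD3_c40)) = (LP (LK LD1_c9 LD2_c18 LD3_c7)) :=
  Lre_d IH (LK LD1_c4 LD2_c41 LD3_c40) (LK LD1_c9 LD2_c18 LD3_c7) Lrfl Lrfl
theorem f203408 : Led Lsl_ct (LP (LK LD1_c3 LD2_c7 LD3_c17)) = (LP (LK LD1_c4 LD2_c41 LD3_c40)) :=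
  Lgr Lrot133 (Lpe (f152475 IH) (Lpr_ft (f202703 IH) (Lpr_at (f203403 IH) (Lpe (K7.f64590 IH) (Lpe (f203379 IH) (Lpr_cf (f202835 IH) (Lpe (f202878 IH) (Lpr_cf (f155797 IH) (Lpe (f61188 IH) (Lpn (LP (LK LD1_c4 LD2_c41 LD3_c40))))))))))))
theorem f152442 : Led Lsl_bt (LP (LK LD1_c3 LD2_c7 LD3_c17)) = (LP (LK LD1_c1 LD2_c29 LD3_c53)) :=
  Lre_b IH (LK LD1_c3 LD2_c7 LD3_c17) (LK LD1_c1 LD2_c29 LD3_c53) Lrfl Lrfl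
theorem f152449 : Led Lsl_gf (LP (LK LD1_c2 LD2_c19 LD3_c17)) = (LP (LK LD1_c1 LD2_c29 LD3_c53)) :=
  Lgr Lrot47 (Lpr_gt (K5.f26267 IH) (Lpe (K7.f150585 IH) (Lpr_ff (K7.f152424 IH) (Lpn (LP (LK LD1_c1 LD2_c29 LD3_c53))))))
theorem f15584 : Led Lsl_bt (LP (LK LD1_c3 LD2_c17 LD3_c48)) = (LP (LK LD1_c6 LD2_c35 LD3_c50)) :=
  Lre_b IH (LK LD1_c3 LD2_c17 LD3_c48) (LK LD1_c6 LD2_c35 LD3_c50) Lrfl Lrfl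
theorem f15575 : Led Lsl_gt (LP (LK LD1_c6 LD2_c35 LD3_c50)) = (LP (LK LD1_c3 LD2_c51 LD3_c28)) :=
  Lre_g IH (LK LD1_c6 LD2_c35 LD3_c50) (LK LD1_c3 LD2_c51 LD3_c28) Lrfl Lrfl
theorem f15600 : Led Lsl_ct (LP (LK LD1_c3 LD2_c51 LD3_c28)) = (LP (LK LD1_c7 LD2_c44 LD3_c24)) :=
  Lre_c IH (LK LD1_c3 LD2_c51 LD3_c28) (LK LD1_c7 LD2_c44 LD3_c24) Lrfl Lrfl
theorem f203417 : Led Lsl_gt (LP (LK LD1_c7 LD2_c44 LD3_c24)) = (LP (LK LD1_c4 LD2_c41 LD3_c40)) :=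
  Lgr Lrot149 (Lpe (f15600 IH) (Lpe (f15575 IH) (Lpe (f15584 IH) (Lpr_ct (K7.f15595 IH) (Lpe (K6.f139769 IH) (Lpr_cf (K6.f141189 IH) (Lpe (K6.f141219 IH) (Lpr_gf (f152449 IH) (Lpe (f152442 IH) (Lpr_ct (f203408 IH) (Lpn (LP (LK LD1_c4 LD2_c41 LD3_c40)))))))))))))
theorem f115518 : Led Lsl_bt (LP (LK LD1_c1 LD2_c35 LD3_c9)) = (LP (LK LD1_c3 LD2_c17 LD3_c2)) :=
  Lre_b IH (LK LD1_c1 LD2_c35 LD3_c9) (LK LD1_c3 LD2_c17 LD3_c2) Lrfl Lrfl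
theorem f203421 : Led Lsl_bt (LP (LK LD1_c3 LD2_c51 LD3_c28)) = (LP (LK LD1_c6 LD2_c37 LD3_c25)) :=
  Lgr Lrot92 (Lpr_ct (f15600 IH) (Lpr_gt (f203417 IH) (Lpe (f203408 IH) (Lpr_bt (f152442 IH) (Lpe (f152449 IH) (Lpr_ct (K7.f124077 IH) (Lpe (K5.f124588 IH) (Lpe (K1.f61934 IH) (Lpr_bt (f115518 IH) (Lpr_gt (K7.f103836 IH) (Lpn (LP (LK LD1_c6 LD2_c37 LD3_c25)))))))))))))
theorem f203428 : Led Lsl_df (LP (LK LD1_c3 LD2_c51 LD3_c28)) = (LP (LK LD1_c6 LD2_c10 LD3_c9)) :=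
  Lgr Lrot12 (Lpr_bt (f203421 IH) (Lpe (K7.f149874 IH) (Lpr_bt (K4.f19125 IH) (Lpn (LP (LK LD1_c6 LD2_c10 LD3_c9))))))
theorem f40578 : Led Lsl_gt (LP (LK LD1_c3 LD2_c51 LD3_c28)) = (LP (LK LD1_c1 LD2_c52 LD3_c32)) :=
  Lre_g IH (LK LD1_c3 LD2_c51 LD3_c28) (LK LD1_c1 LD2_c52 LD3_c32) Lrfl Lrfl
theorem f15544 : Led Lsl_at (LP (LK LD1_c6 LD2_c56 LD3_c38)) = (LP (LK LD1_c3 LD2_c27 LD3_c19)) :=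
  Lre_a IH (LK LD1_c6 LD2_c56 LD3_c38) (LK LD1_c3 LD2_c27 LD3_c19) Lrfl Lrfl
theorem f15545 : Led Lsl_ft (LP (LK LD1_c7 LD2_c43 LD3_c11)) = (LP (LK LD1_c6 LD2_c56 LD3_c38)) :=
  Lgr Lrot142 (Lpe (K0.f14084 IH) (Lpr_ct (K4.f14064 IH) (Lpr_dt (K4.f14061 IH) (Lpe (K4.f13727 IH) (Lpr_dt (K4.f14008 IH) (Lpr_ct (K4.f14346 IH) (Lpr_dt (K4.f14347 IH) (Lpr_ct (K4.f15530 IH) (Lpe (f15544 IH) (Lpn (LP (LK LD1_c6 LD2_c56 LD3_c38))))))))))))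
theorem f40555 : Led Lsl_df (LP (LK LD1_c8 LD2_c0 LD3_c20)) = (LP (LK LD1_c6 LD2_c56 LD3_c38)) :=
  Lgr Lrot78 (Lpr_ft (K6.f40525 IH) (Lpr_dt (K0.f14055 IH) (Lpr_ft (f15545 IH) (Lpn (LP (LK LD1_c6 LD2_c56 LD3_c38))))))
theorem f15556 : Led Lsl_ff (LP (LK LD1_c7 LD2_c43 LD3_c11)) = (LP (LK LD1_c6 LD2_c56 LD3_c38)) :=
  Lgr Lrot3 (Lpr_ft (f15545 IH) (Lpn (LP (LK LD1_c6 LD2_c56 LD3_c38))))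
theorem f15566 : Led Lsl_ft (LP (LK LD1_c3 LD2_c51 LD3_c29)) = (LP (LK LD1_c6 LD2_c35 LD3_c50)) :=
  Lre_f IH (LK LD1_c3 LD2_c51 LD3_c29) (LK LD1_c6 LD2_c35 LD3_c50) Lrfl Lrfl
theorem f15567 : Led Lsl_ct (LP (LK LD1_c6 LD2_c35 LD3_c50)) = (LP (LK LD1_c6 LD2_c56 LD3_c38)) :=
  Lgr Lrot40 (Lpe (f15566 IH) (Lpe (K0.f14054 IH) (Lpr_ff (f15556 IH) (Lpn (LP (LK LD1_c6 LD2_c56 LD3_c38))))))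
theorem f15587 : Led Lsl_dt (LP (LK LD1_c3 LD2_c16 LD3_c15)) = (LP (LK LD1_c6 LD2_c35 LD3_c50)) :=
  Lre_d IH (LK LD1_c3 LD2_c16 LD3_c15) (LK LD1_c6 LD2_c35 LD3_c50) Lrfl Lrfl
theorem f15589 : Led Lsl_ft (LP (LK LD1_c3 LD2_c16 LD3_c15)) = (LP (LK LD1_c4 LD2_c37 LD3_c40)) :=
  Lre_f IH (LK LD1_c3 LD2_c16 LD3_c15) (LK LD1_c4 LD2_c37 LD3_c40) Lrfl Lrfl
theorem f15590 : Led Lsl_at (LP (LK LD1_c4 LD2_c37 LD3_c40)) = (LP (LK LD1_c3 LD2_c15 LD3_c7)) :=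
  Lre_a IH (LK LD1_c4 LD2_c37 LD3_c40) (LK LD1_c3 LD2_c15 LD3_c7) Lrfl Lrfl
theorem f40571 : Led Lsl_dt (LP (LK LD1_c4 LD2_c46 LD3_c54)) = (LP (LK LD1_c4 LD2_c44 LD3_c28)) :=
  Lgr Lrot120 (Lpe (K0.f14003 IH) (Lpe (K6.f14105 IH) (Lpe (K6.f40315 IH) (Lpr_df (f40555 IH) (Lpe (f15567 IH) (Lpe (f15587 IH) (Lpr_ft (f15589 IH) (Lpr_at (f15590 IH) (Lpe (K7.f15574 IH) (Lpn (LP (LK LD1_c4 LD2_c44 LD3_c28))))))))))))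
theorem f74938 : Led Lsl_ff (LP (LK LD1_c9 LD2_c15 LD3_c61)) = (LP (LK LD1_c5 LD2_c58 LD3_c4)) :=
  Lgr Lrot25 (Lpr_bt (K6.f74936 IH) (Lpr_ft (K2.f74931 IH) (Lpr_bt (K8.f74937 IH) (Lpn (LP (LK LD1_c5 LD2_c58 LD3_c4))))))
theorem f18285 : Led Lsl_at (LP (LK LD1_c9 LD2_c15 LD3_c61)) = (LP (LK LD1_c4 LD2_c40 LD3_c17)) :=
  Lre_a IH (LK LD1_c9 LD2_c15 LD3_c61) (LK LD1_c4 LD2_c40 LD3_c17) Lrfl Lrfl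
theorem f18289 : Led Lsl_gt (LP (LK LD1_c9 LD2_c15 LD3_c60)) = (LP (LK LD1_c4 LD2_c40 LD3_c17)) :=
  Lre_g IH (LK LD1_c9 LD2_c15 LD3_c60) (LK LD1_c4 LD2_c40 LD3_c17) Lrfl Lrfl
theorem f76179 : Led Lsl_gf (LP (LK LD1_c9 LD2_c15 LD3_c60)) = (LP (LK LD1_c5 LD2_c58 LD3_c4)) :=
  Lgr Lrot47 (Lpr_gt (f18289 IH) (Lpe (f18285 IH) (Lpr_ff (f74938 IH) (Lpn (LP (LK LD1_c5 LD2_c58 LD3_c4))))))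
theorem f203496 : Led Lsl_df (LP (LK LD1_c9 LD2_c26 LD3_c35)) = (LP (LK LD1_c9 LD2_c15 LD3_c60)) :=
  Lgr Lrot153 (Lpr_gt (K6.f40543 IH) (Lpr_dt (f40571 IH) (Lpe (K6.f14134 IH) (Lpe (K6.f14135 IH) (Lpe (f40578 IH) (Lpr_df (f203428 IH) (Lpe (K6.f100168 IH) (Lpr_cf (K6.f100158 IH) (Lpe (f76179 IH) (Lpn (LP (LK LD1_c9 LD2_c15 LD3_c60))))))))))))
theorem f99081 : Led Lsl_gt (LP (LK LD1_c9 LD2_c26 LD3_c7)) = (LP (LK LD1_c17 LD2_c23 LD3_c42)) :=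
  Lre_g IH (LK LD1_c9 LD2_c26 LD3_c7) (LK LD1_c17 LD2_c23 LD3_c42) Lrfl Lrfl
theorem f65654 : Led Lsl_dt (LP (LK LD1_c21 LD2_c6 LD3_c50)) = (LP (LK LD1_c12 LD2_c1 LD3_c9)) :=
  Lre_d IH (LK LD1_c21 LD2_c6 LD3_c50) (LK LD1_c12 LD2_c1 LD3_c9) Lrfl Lrfl
theorem f203510 : Led Lsl_ct (LP (LK LD1_c17 LD2_c23 LD3_c42)) = (LP (LK LD1_c21 LD2_c6 LD3_c50)) :=
  Lgr Lrot110 (Lpe (f99081 IH) (Lpe (K6.f14103 IH) (Lpe (K6.f40543 IH) (Lpr_df (f203496 IH) (Lpr_gt (f18289 IH) (Lpr_ct (K2.f18288 IH) (Lpr_gt (K7.f65647 IH) (Lpr_ct (K7.f65651 IH) (Lpe (f65654 IH) (Lpn (LP (LK LD1_c21 LD2_c6 LD3_c50))))))))))))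
theorem f65657 : Led Lsl_dt (LP (LK LD1_c12 LD2_c1 LD3_c9)) = (LP (LK LD1_c21 LD2_c6 LD3_c50)) :=
  Lre_d IH (LK LD1_c12 LD2_c1 LD3_c9) (LK LD1_c21 LD2_c6 LD3_c50) Lrfl Lrfl
theorem f151248 : Led Lsl_gt (LP (LK LD1_c12 LD2_c37 LD3_c36)) = (LP (LK LD1_c17 LD2_c0 LD3_c36)) :=
  Lgr Lrot46 (Lpr_gf (K7.f151246 IH) (Lpr_ft (K7.f81642 IH) (Lpr_at (K7.f99454 IH) (Lpn (LP (LK LD1_c17 LD2_c0 LD3_c36))))))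
theorem f76399 : Led Lsl_gt (LP (LK LD1_c12 LD2_c12 LD3_c35)) = (LP (LK LD1_c6 LD2_c18 LD3_c13)) :=
  Lre_g IH (LK LD1_c12 LD2_c12 LD3_c35) (LK LD1_c6 LD2_c18 LD3_c13) Lrfl Lrfl
theorem f76400 : Led Lsl_gt (LP (LK LD1_c11 LD2_c24 LD3_c12)) = (LP (LK LD1_c12 LD2_c12 LD3_c35)) :=
  Lgr Lrot5 (Lpr_ft (K2.f74285 IH) (Lpr_at (K2.f74497 IH) (Lpe (f76399 IH) (Lpn (LP (LK LD1_c12 LD2_c12 LD3_c35))))))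
theorem f203516 : Led Lsl_df (LP (LK LD1_c17 LD2_c23 LD3_c42)) = (LP (LK LD1_c12 LD2_c12 LD3_c35)) :=
  Lgr Lrot174 (Lpr_ct (f203510 IH) (Lpe (f65657 IH) (Lpe (K7.f100181 IH) (Lpe (K7.f71189 IH) (Lpe (f151248 IH) (Lpr_ct (K7.f151240 IH) (Lpr_gt (K7.f72915 IH) (Lpr_dt (K2.f72906 IH) (Lpr_gt (f76400 IH) (Lpn (LP (LK LD1_c12 LD2_c12 LD3_c35))))))))))))
theorem f203518 : Led Lsl_dt (LP (LK LD1_c17 LD2_c23 LD3_c42)) = (LP (LK LD1_c12 LD2_c12 LD3_c35)) :=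
  Lgr Lrot42 (Lpr_df (f203516 IH) (Lpn (LP (LK LD1_c12 LD2_c12 LD3_c35))))
theorem f14009 : Led Lsl_gt (LP (LK LD1_c4 LD2_c46 LD3_c54)) = (LP (LK LD1_c9 LD2_c26 LD3_c34)) :=
  Lre_g IH (LK LD1_c4 LD2_c46 LD3_c54) (LK LD1_c9 LD2_c26 LD3_c34) Lrfl Lrfl
theorem f204051 : Led Lsl_dt (LP (LK LD1_c9 LD2_c26 LD3_c34)) = (LP (LK LD1_c9 LD2_c15 LD3_c59)) :=
  Lgr Lrot57 (Lpe (f14009 IH) (Lpe (K0.f14003 IH) (Lpr_gt (f99081 IH) (Lpr_dt (f203518 IH) (Lpr_gt (f76399 IH) (Lpr_dt (K2.f76392 IH) (Lpe (K2.f76419 IH) (Lpe (K4.f75214 IH) (Lpr_gf (K8.f75311 IH) (Lpn (LP (LK LD1_c9 LD2_c15 LD3_c59))))))))))))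
theorem f13998 : Led Lsl_at (LP (LK LD1_c4 LD2_c45 LD3_c19)) = (LP (LK LD1_c9 LD2_c23 LD3_c19)) :=
  Lre_a IH (LK LD1_c4 LD2_c45 LD3_c19) (LK LD1_c9 LD2_c23 LD3_c19) Lrfl Lrfl
theorem f14010 : Led Lsl_gt (LP (LK LD1_c9 LD2_c26 LD3_c34)) = (LP (LK LD1_c9 LD2_c23 LD3_c19)) :=
  Lgr Lrot46 (Lpe (f14009 IH) (Lpr_ft (K0.f13995 IH) (Lpr_at (f13998 IH) (Lpn (LP (LK LD1_c9 LD2_c23 LD3_c19))))))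
theorem f14131 : Led Lsl_gt (LP (LK LD1_c17 LD2_c23 LD3_c43)) = (LP (LK LD1_c9 LD2_c26 LD3_c7)) :=
  Lre_g IH (LK LD1_c17 LD2_c23 LD3_c43) (LK LD1_c9 LD2_c26 LD3_c7) Lrfl Lrfl
theorem f14132 : Led Lsl_gt (LP (LK LD1_c11 LD2_c45 LD3_c58)) = (LP (LK LD1_c17 LD2_c23 LD3_c43)) :=
  Lgr Lrot5 (Lpr_ft (K8.f14122 IH) (Lpe (K7.f14099 IH) (Lpe (f14131 IH) (Lpn (LP (LK LD1_c17 LD2_c23 LD3_c43))))))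
theorem f100170 : Led Lsl_ct (LP (LK LD1_c6 LD2_c10 LD3_c9)) = (LP (LK LD1_c12 LD2_c1 LD3_c12)) :=
  Lre_c IH (LK LD1_c6 LD2_c10 LD3_c9) (LK LD1_c12 LD2_c1 LD3_c12) Lrfl Lrfl
theorem f100172 : Led Lsl_dt (LP (LK LD1_c12 LD2_c1 LD3_c12)) = (LP (LK LD1_c21 LD2_c6 LD3_c52)) :=
  Lre_d IH (LK LD1_c12 LD2_c1 LD3_c12) (LK LD1_c21 LD2_c6 LD3_c52) Lrfl Lrfl
theorem f204055 : Led Lsl_ct (LP (LK LD1_c17 LD2_c23 LD3_c43)) = (LP (LK LD1_c21 LD2_c6 LD3_c52)) :=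
  Lgr Lrot151 (Lpe (f14132 IH) (Lpr_cf (K8.f14129 IH) (Lpe (f14010 IH) (Lpr_dt (f204051 IH) (Lpe (K8.f75311 IH) (Lpe (K6.f100158 IH) (Lpr_gt (K6.f100168 IH) (Lpr_ct (f100170 IH) (Lpr_dt (f100172 IH) (Lpn (LP (LK LD1_c21 LD2_c6 LD3_c52))))))))))))
theorem f74154 : Led Lsl_ct (LP (LK LD1_c12 LD2_c1 LD3_c12)) = (LP (LK LD1_c6 LD2_c10 LD3_c9)) :=
  Lre_c IH (LK LD1_c12 LD2_c1 LD3_c12) (LK LD1_c6 LD2_c10 LD3_c9) Lrfl Lrfl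
theorem f151252 : Led Lsl_gf (LP (LK LD1_c12 LD2_c1 LD3_c12)) = (LP (LK LD1_c12 LD2_c35 LD3_c11)) :=
  Lgr Lrot147 (Lpr_ct (f74154 IH) (Lpr_gt (K4.f18287 IH) (Lpr_ct (K2.f18278 IH) (Lpe (K2.f19123 IH) (Lpr_cf (K2.f74004 IH) (Lpe (K7.f72915 IH) (Lpe (K7.f151240 IH) (Lpr_gf (K7.f151246 IH) (Lpr_df (K7.f149527 IH) (Lpn (LP (LK LD1_c12 LD2_c35 LD3_c11))))))))))))
theorem f149536 : Led Lsl_dt (LP (LK LD1_c16 LD2_c25 LD3_c57)) = (LP (LK LD1_c12 LD2_c35 LD3_c11)) :=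
  Lgr Lrot60 (Lpr_ff (K2.f81633 IH) (Lpe (K7.f81675 IH) (Lpr_ff (K7.f149532 IH) (Lpn (LP (LK LD1_c12 LD2_c35 LD3_c11))))))
theorem f151131 : Led Lsl_dt (LP (LK LD1_c6 LD2_c35 LD3_c43)) = (LP (LK LD1_c12 LD2_c37 LD3_c28)) :=
  Lre_d IH (LK LD1_c6 LD2_c35 LD3_c43) (LK LD1_c12 LD2_c37 LD3_c28) Lrfl Lrfl
theorem f72916 : Led Lsl_gt (LP (LK LD1_c11 LD2_c58 LD3_c44)) = (LP (LK LD1_c21 LD2_c3 LD3_c25)) :=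
  Lre_g IH (LK LD1_c11 LD2_c58 LD3_c44) (LK LD1_c21 LD2_c3 LD3_c25) Lrfl Lrfl
theorem f151312 : Led Lsl_cf (LP (LK LD1_c12 LD2_c37 LD3_c28)) = (LP (LK LD1_c21 LD2_c3 LD3_c25)) :=
  Lgr Lrot99 (Lpe (f151131 IH) (Lpe (K7.f96668 IH) (Lpe (K7.f96627 IH) (Lpe (K4.f14346 IH) (Lpe (K7.f14062 IH) (Lpe (K7.f14063 IH) (Lpr_gt (K7.f151278 IH) (Lpr_ct (K2.f74001 IH) (Lpr_gt (f72916 IH) (Lpn (LP (LK LD1_c21 LD2_c3 LD3_c25))))))))))))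
theorem f75365 : Led Lsl_cf (LP (LK LD1_c2 LD2_c56 LD3_c36)) = (LP (LK LD1_c4 LD2_c59 LD3_c25)) :=
  Lgr Lrot11 (Lpr_ct (K8.f75342 IH) (Lpn (LP (LK LD1_c4 LD2_c59 LD3_c25))))
theorem f117734 : Led Lsl_bf (LP (LK LD1_c6 LD2_c25 LD3_c12)) = (LP (LK LD1_c4 LD2_c59 LD3_c25)) :=
  Lgr Lrot93 (Lpr_dt (K8.f117723 IH) (Lpr_bt (K4.f56848 IH) (Lpr_dt (K8.f74399 IH) (Lpn (LP (LK LD1_c4 LD2_c59 LD3_c25))))))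
theorem f151322 : Led Lsl_gt (LP (LK LD1_c12 LD2_c37 LD3_c28)) = (LP (LK LD1_c16 LD2_c25 LD3_c57)) :=
  Lgr Lrot149 (Lpr_cf (f151312 IH) (Lpe (f72916 IH) (Lpe (K2.f72905 IH) (Lpr_ct (K2.f72908 IH) (Lpr_gf (K2.f75052 IH) (Lpr_cf (f75365 IH) (Lpe (f117734 IH) (Lpr_gf (K8.f117739 IH) (Lpe (K8.f71895 IH) (Lpe (K2.f81679 IH) (Lpn (LP (LK LD1_c16 LD2_c25 LD3_c57)))))))))))))
theorem f151320 : Led Lsl_ct (LP (LK LD1_c12 LD2_c37 LD3_c28)) = (LP (LK LD1_c21 LD2_c3 LD3_c25)) :=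
  Lgr Lrot59 (Lpr_cf (f151312 IH) (Lpn (LP (LK LD1_c21 LD2_c3 LD3_c25))))
theorem f74020 : Led Lsl_bt (LP (LK LD1_c9 LD2_c16 LD3_c40)) = (LP (LK LD1_c4 LD2_c40 LD3_c39)) :=
  Lre_b IH (LK LD1_c9 LD2_c16 LD3_c40) (LK LD1_c4 LD2_c40 LD3_c39) Lrfl Lrfl
theorem f74804 : Led Lsl_af (LP (LK LD1_c9 LD2_c16 LD3_c40)) = (LP (LK LD1_c11 LD2_c40 LD3_c49)) :=
  Lgr Lrot36 (Lpr_bt (f74020 IH) (Lpr_at (K3.f58218 IH) (Lpe (K6.f58726 IH) (Lpr_at (K2.f74801 IH) (Lpr_bt (K2.f74795 IH) (Lpn (LP (LK LD1_c11 LD2_c40 LD3_c49))))))))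
theorem f74021 : Led Lsl_ct (LP (LK LD1_c9 LD2_c16 LD3_c40)) = (LP (LK LD1_c17 LD2_c11 LD3_c16)) :=
  Lre_c IH (LK LD1_c9 LD2_c16 LD3_c40) (LK LD1_c17 LD2_c11 LD3_c16) Lrfl Lrfl
theorem f76414 : Led Lsl_at (LP (LK LD1_c17 LD2_c11 LD3_c16)) = (LP (LK LD1_c12 LD2_c12 LD3_c36)) :=
  Lgr Lrot107 (Lpe (f74021 IH) (Lpr_af (f74804 IH) (Lpr_cf (K2.f76410 IH) (Lpn (LP (LK LD1_c12 LD2_c12 LD3_c36))))))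
theorem f79652 : Led Lsl_gt (LP (LK LD1_c21 LD2_c3 LD3_c25)) = (LP (LK LD1_c12 LD2_c12 LD3_c36)) :=
  Lgr Lrot46 (Lpe (f72916 IH) (Lpr_ft (K2.f72914 IH) (Lpr_at (f76414 IH) (Lpn (LP (LK LD1_c12 LD2_c12 LD3_c36))))))
theorem f76412 : Led Lsl_gt (LP (LK LD1_c6 LD2_c18 LD3_c13)) = (LP (LK LD1_c12 LD2_c12 LD3_c34)) :=
  Lre_g IH (LK LD1_c6 LD2_c18 LD3_c13) (LK LD1_c12 LD2_c12 LD3_c34) Lrfl Lrfl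
theorem f204060 : Led Lsl_df (LP (LK LD1_c17 LD2_c23 LD3_c43)) = (LP (LK LD1_c12 LD2_c12 LD3_c34)) :=
  Lgr Lrot174 (Lpr_ct (f204055 IH) (Lpe (f100172 IH) (Lpr_gf (f151252 IH) (Lpe (f149536 IH) (Lpe (f151322 IH) (Lpr_ct (f151320 IH) (Lpr_gt (f79652 IH) (Lpr_dt (K4.f76413 IH) (Lpr_gt (f76412 IH) (Lpn (LP (LK LD1_c12 LD2_c12 LD3_c34))))))))))))
theorem f11846 : Led Lsl_bt (LP (LK LD1_c1 LD2_c52 LD3_c22)) = (LP (LK LD1_c3 LD2_c50 LD3_c61)) :=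
  Lre_b IH (LK LD1_c1 LD2_c52 LD3_c22) (LK LD1_c3 LD2_c50 LD3_c61) Lrfl Lrfl
theorem f14995 : Led Lsl_ft (LP (LK LD1_c3 LD2_c50 LD3_c61)) = (LP (LK LD1_c3 LD2_c27 LD3_c19)) :=
  Lgr Lrot75 (Lpe (f11846 IH) (Lpr_ff (K0.f14984 IH) (Lpe (K4.f14994 IH) (Lpn (LP (LK LD1_c3 LD2_c27 LD3_c19))))))
theorem f11847 : Led Lsl_gt (LP (LK LD1_c3 LD2_c50 LD3_c61)) = (LP (LK LD1_c7 LD2_c43 LD3_c9)) :=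
  Lre_g IH (LK LD1_c3 LD2_c50 LD3_c61) (LK LD1_c7 LD2_c43 LD3_c9) Lrfl Lrfl
theorem f15537 : Led Lsl_at (LP (LK LD1_c3 LD2_c27 LD3_c19)) = (LP (LK LD1_c6 LD2_c56 LD3_c38)) :=
  Lre_a IH (LK LD1_c3 LD2_c27 LD3_c19) (LK LD1_c6 LD2_c56 LD3_c38) Lrfl Lrfl
theorem f17160 : Led Lsl_gt (LP (LK LD1_c7 LD2_c43 LD3_c9)) = (LP (LK LD1_c6 LD2_c56 LD3_c38)) :=
  Lgr Lrot46 (Lpe (f11847 IH) (Lpr_ft (f14995 IH) (Lpr_at (f15537 IH) (Lpn (LP (LK LD1_c6 LD2_c56 LD3_c38))))))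
theorem f66735 : Led Lsl_gt (LP (LK LD1_c6 LD2_c29 LD3_c34)) = (LP (LK LD1_c12 LD2_c29 LD3_c7)) :=
  Lre_g IH (LK LD1_c6 LD2_c29 LD3_c34) (LK LD1_c12 LD2_c29 LD3_c7) Lrfl Lrfl
theorem f204064 : Led Lsl_df (LP (LK LD1_c7 LD2_c43 LD3_c9)) = (LP (LK LD1_c12 LD2_c29 LD3_c7)) :=
  Lgr Lrot153 (Lpr_gt (f17160 IH) (Lpe (f40555 IH) (Lpr_cf (K6.f40529 IH) (Lpe (K6.f14141 IH) (Lpe (f14131 IH) (Lpr_df (f204060 IH) (Lpe (f76412 IH) (Lpe (K2.f76402 IH) (Lpr_gt (f66735 IH) (Lpn (LP (LK LD1_c12 LD2_c29 LD3_c7))))))))))))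
theorem f15536 : Led Lsl_at (LP (LK LD1_c6 LD2_c35 LD3_c50)) = (LP (LK LD1_c3 LD2_c16 LD3_c16)) :=
  Lre_a IH (LK LD1_c6 LD2_c35 LD3_c50) (LK LD1_c3 LD2_c16 LD3_c16) Lrfl Lrfl
theorem f15538 : Led Lsl_cf (LP (LK LD1_c6 LD2_c35 LD3_c50)) = (LP (LK LD1_c6 LD2_c56 LD3_c38)) :=
  Lgr Lrot1 (Lpr_at (f15536 IH) (Lpr_ct (K4.f15530 IH) (Lpr_at (f15537 IH) (Lpn (LP (LK LD1_c6 LD2_c56 LD3_c38))))))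
theorem f15601 : Led Lsl_dt (LP (LK LD1_c7 LD2_c44 LD3_c24)) = (LP (LK LD1_c14 LD2_c35 LD3_c49)) :=
  Lre_d IH (LK LD1_c7 LD2_c44 LD3_c24) (LK LD1_c14 LD2_c35 LD3_c49) Lrfl Lrfl
theorem f73999 : Led Lsl_gt (LP (LK LD1_c12 LD2_c29 LD3_c7)) = (LP (LK LD1_c11 LD2_c30 LD3_c41)) :=
  Lgr Lrot46 (Lpe (f66735 IH) (Lpe (K2.f66876 IH) (Lpr_at (K2.f73992 IH) (Lpn (LP (LK LD1_c11 LD2_c30 LD3_c41))))))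
theorem f204068 : Led Lsl_cf (LP (LK LD1_c14 LD2_c35 LD3_c49)) = (LP (LK LD1_c12 LD2_c12 LD3_c35)) :=
  Lgr Lrot99 (Lpe (f15601 IH) (Lpe (f15600 IH) (Lpe (f15575 IH) (Lpr_cf (f15538 IH) (Lpe (f17160 IH) (Lpr_df (f204064 IH) (Lpr_gt (f73999 IH) (Lpe (K2.f73990 IH) (Lpr_gt (f76400 IH) (Lpn (LP (LK LD1_c12 LD2_c12 LD3_c35))))))))))))
theorem f15602 : Led Lsl_dt (LP (LK LD1_c14 LD2_c35 LD3_c49)) = (LP (LK LD1_c7 LD2_c44 LD3_c24)) :=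
  Lre_d IH (LK LD1_c14 LD2_c35 LD3_c49) (LK LD1_c7 LD2_c44 LD3_c24) Lrfl Lrfl
theorem f15603 : Led Lsl_ct (LP (LK LD1_c7 LD2_c44 LD3_c24)) = (LP (LK LD1_c3 LD2_c51 LD3_c28)) :=
  Lre_c IH (LK LD1_c7 LD2_c44 LD3_c24) (LK LD1_c3 LD2_c51 LD3_c28) Lrfl Lrfl
theorem f203491 : Led Lsl_dt (LP (LK LD1_c3 LD2_c51 LD3_c28)) = (LP (LK LD1_c6 LD2_c10 LD3_c9)) :=
  Lgr Lrot42 (Lpr_df (f203428 IH) (Lpn (LP (LK LD1_c6 LD2_c10 LD3_c9))))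
theorem f204058 : Led Lsl_cf (LP (LK LD1_c17 LD2_c23 LD3_c43)) = (LP (LK LD1_c21 LD2_c6 LD3_c52)) :=
  Lgr Lrot11 (Lpr_ct (f204055 IH) (Lpn (LP (LK LD1_c21 LD2_c6 LD3_c52))))
theorem f204062 : Led Lsl_dt (LP (LK LD1_c17 LD2_c23 LD3_c43)) = (LP (LK LD1_c12 LD2_c12 LD3_c34)) :=
  Lgr Lrot42 (Lpr_df (f204060 IH) (Lpn (LP (LK LD1_c12 LD2_c12 LD3_c34))))
theorem f14137 : Led Lsl_gt (LP (LK LD1_c17 LD2_c23 LD3_c42)) = (LP (LK LD1_c11 LD2_c45 LD3_c58)) :=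
  Lre_g IH (LK LD1_c17 LD2_c23 LD3_c42) (LK LD1_c11 LD2_c45 LD3_c58) Lrfl Lrfl
theorem f14034 : Led Lsl_bt (LP (LK LD1_c6 LD2_c0 LD3_c47)) = (LP (LK LD1_c2 LD2_c56 LD3_c40)) :=
  Lre_b IH (LK LD1_c6 LD2_c0 LD3_c47) (LK LD1_c2 LD2_c56 LD3_c40) Lrfl Lrfl
theorem f77221 : Led Lsl_bf (LP (LK LD1_c11 LD2_c45 LD3_c58)) = (LP (LK LD1_c6 LD2_c21 LD3_c8)) :=
  Lgr Lrot81 (Lpr_at (K8.f14046 IH) (Lpr_bt (f14034 IH) (Lpr_at (K6.f77220 IH) (Lpr_bt (K8.f77166 IH) (Lpr_at (K3.f77218 IH) (Lpn (LP (LK LD1_c6 LD2_c21 LD3_c8))))))))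
theorem f78987 : Led Lsl_df (LP (LK LD1_c6 LD2_c36 LD3_c20)) = (LP (LK LD1_c11 LD2_c45 LD3_c58)) :=
  Lgr Lrot12 (Lpr_bt (K6.f64551 IH) (Lpr_dt (K2.f78718 IH) (Lpe (f77221 IH) (Lpn (LP (LK LD1_c11 LD2_c45 LD3_c58))))))
theorem f14076 : Led Lsl_df (LP (LK LD1_c3 LD2_c23 LD3_c6)) = (LP (LK LD1_c3 LD2_c50 LD3_c61)) :=
  Lgr Lrot18 (Lpr_at (K6.f14047 IH) (Lpr_dt (K0.f14055 IH) (Lpr_at (K0.f14075 IH) (Lpn (LP (LK LD1_c3 LD2_c50 LD3_c61))))))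
theorem f15569 : Led Lsl_gt (LP (LK LD1_c7 LD2_c43 LD3_c10)) = (LP (LK LD1_c3 LD2_c50 LD3_c61)) :=
  Lre_g IH (LK LD1_c7 LD2_c43 LD3_c10) (LK LD1_c3 LD2_c50 LD3_c61) Lrfl Lrfl
theorem f66736 : Led Lsl_gt (LP (LK LD1_c12 LD2_c29 LD3_c8)) = (LP (LK LD1_c6 LD2_c29 LD3_c34)) :=
  Lre_g IH (LK LD1_c12 LD2_c29 LD3_c8) (LK LD1_c6 LD2_c29 LD3_c34) Lrfl Lrfl
theorem f74159 : Led Lsl_gf (LP (LK LD1_c12 LD2_c29 LD3_c8)) = (LP (LK LD1_c11 LD2_c30 LD3_c41)) :=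
  Lgr Lrot47 (Lpr_gt (f66736 IH) (Lpr_af (K8.f73544 IH) (Lpr_ff (K8.f73997 IH) (Lpn (LP (LK LD1_c11 LD2_c30 LD3_c41))))))
theorem f203520 : Led Lsl_df (LP (LK LD1_c7 LD2_c43 LD3_c10)) = (LP (LK LD1_c12 LD2_c29 LD3_c8)) :=
  Lgr Lrot153 (Lpr_gt (f15569 IH) (Lpe (f14076 IH) (Lpe (K6.f78709 IH) (Lpr_df (f78987 IH) (Lpe (f14137 IH) (Lpr_df (f203516 IH) (Lpe (f76400 IH) (Lpr_cf (K2.f73990 IH) (Lpe (f74159 IH) (Lpn (LP (LK LD1_c12 LD2_c29 LD3_c8))))))))))))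
theorem f65997 : Led Lsl_gt (LP (LK LD1_c1 LD2_c52 LD3_c32)) = (LP (LK LD1_c3 LD2_c51 LD3_c27)) :=
  Lre_g IH (LK LD1_c1 LD2_c52 LD3_c32) (LK LD1_c3 LD2_c51 LD3_c27) Lrfl Lrfl
theorem f65998 : Led Lsl_ct (LP (LK LD1_c3 LD2_c51 LD3_c27)) = (LP (LK LD1_c7 LD2_c44 LD3_c22)) :=
  Lre_c IH (LK LD1_c3 LD2_c51 LD3_c27) (LK LD1_c7 LD2_c44 LD3_c22) Lrfl Lrfl
theorem f203528 : Led Lsl_dt (LP (LK LD1_c7 LD2_c44 LD3_c22)) = (LP (LK LD1_c14 LD2_c35 LD3_c46)) :=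
  Lre_d IH (LK LD1_c7 LD2_c44 LD3_c22) (LK LD1_c14 LD2_c35 LD3_c46) Lrfl Lrfl
theorem f203529 : Led Lsl_cf (LP (LK LD1_c14 LD2_c35 LD3_c46)) = (LP (LK LD1_c12 LD2_c12 LD3_c34)) :=
  Lgr Lrot99 (Lpe (f203528 IH) (Lpe (f65998 IH) (Lpe (f65997 IH) (Lpe (K6.f14136 IH) (Lpe (f15569 IH) (Lpr_df (f203520 IH) (Lpr_gt (f66736 IH) (Lpr_ct (K2.f76402 IH) (Lpr_gt (f76412 IH) (Lpn (LP (LK LD1_c12 LD2_c12 LD3_c34))))))))))))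
theorem f203488 : Led Lsl_dt (LP (LK LD1_c14 LD2_c35 LD3_c46)) = (LP (LK LD1_c7 LD2_c44 LD3_c22)) :=
  Lre_d IH (LK LD1_c14 LD2_c35 LD3_c46) (LK LD1_c7 LD2_c44 LD3_c22) Lrfl Lrfl
theorem f15592 : Led Lsl_ct (LP (LK LD1_c7 LD2_c44 LD3_c22)) = (LP (LK LD1_c3 LD2_c51 LD3_c27)) :=
  Lre_c IH (LK LD1_c7 LD2_c44 LD3_c22) (LK LD1_c3 LD2_c51 LD3_c27) Lrfl Lrfl
theorem f203512 : Led Lsl_cf (LP (LK LD1_c17 LD2_c23 LD3_c42)) = (LP (LK LD1_c21 LD2_c6 LD3_c50)) :=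
  Lgr Lrot11 (Lpr_ct (f203510 IH) (Lpn (LP (LK LD1_c21 LD2_c6 LD3_c50))))
theorem f204073 : Led Lsl_dt (LP (LK LD1_c3 LD2_c51 LD3_c27)) = (LP (LK LD1_c6 LD2_c10 LD3_c8)) :=
  Lgr Lrot173 (Lpe (f15592 IH) (Lpe (f203488 IH) (Lpr_cf (f203529 IH) (Lpe (f204062 IH) (Lpr_cf (f204058 IH) (Lpe (f100172 IH) (Lpe (f100170 IH) (Lpe (f203491 IH) (Lpe (f15603 IH) (Lpe (f15602 IH) (Lpr_cf (f204068 IH) (Lpe (f203518 IH) (Lpr_cf (f203512 IH) (Lpe (f65657 IH) (Lpe (K7.f65651 IH) (Lpn (LP (LK LD1_c6 LD2_c10 LD3_c8))))))))))))))))))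
theorem f15573 : Led Lsl_dt (LP (LK LD1_c3 LD2_c15 LD3_c7)) = (LP (LK LD1_c1 LD2_c52 LD3_c32)) :=
  Lre_d IH (LK LD1_c3 LD2_c15 LD3_c7) (LK LD1_c1 LD2_c52 LD3_c32) Lrfl Lrfl
theorem f202076 : Led Lsl_bt (LP (LK LD1_c17 LD2_c14 LD3_c60)) = (LP (LK LD1_c9 LD2_c19 LD3_c26)) :=
  Lre_b IH (LK LD1_c17 LD2_c14 LD3_c60) (LK LD1_c9 LD2_c19 LD3_c26) Lrfl Lrfl
theorem f202077 : Led Lsl_dt (LP (LK LD1_c11 LD2_c48 LD3_c14)) = (LP (LK LD1_c17 LD2_c14 LD3_c60)) :=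
  Lgr Lrot79 (Lpe (f26519 IH) (Lpr_df (f202070 IH) (Lpe (f202076 IH) (Lpn (LP (LK LD1_c17 LD2_c14 LD3_c60))))))
theorem f204080 : Led Lsl_gt (LP (LK LD1_c17 LD2_c14 LD3_c60)) = (LP (LK LD1_c21 LD2_c6 LD3_c50)) :=
  Lgr Lrot49 (Lpe (f202077 IH) (Lpe (f151075 IH) (Lpe (K7.f79230 IH) (Lpr_gt (K7.f40579 IH) (Lpr_dt (f15573 IH) (Lpr_gt (f65997 IH) (Lpr_dt (f204073 IH) (Lpe (K7.f65655 IH) (Lpe (f65654 IH) (Lpn (LP (LK LD1_c21 LD2_c6 LD3_c50))))))))))))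
theorem f14030 : Led Lsl_at (LP (LK LD1_c6 LD2_c0 LD3_c47)) = (LP (LK LD1_c11 LD2_c45 LD3_c58)) :=
  Lre_a IH (LK LD1_c6 LD2_c0 LD3_c47) (LK LD1_c11 LD2_c45 LD3_c58) Lrfl Lrfl
theorem f14031 : Led Lsl_at (LP (LK LD1_c9 LD2_c23 LD3_c19)) = (LP (LK LD1_c4 LD2_c45 LD3_c19)) :=
  Lre_a IH (LK LD1_c9 LD2_c23 LD3_c19) (LK LD1_c4 LD2_c45 LD3_c19) Lrfl Lrfl
theorem f14032 : Led Lsl_ct (LP (LK LD1_c11 LD2_c45 LD3_c58)) = (LP (LK LD1_c9 LD2_c23 LD3_c19)) :=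
  Lgr Lrot111 (Lpe (f14030 IH) (Lpr_cf (K0.f14005 IH) (Lpe (f14031 IH) (Lpn (LP (LK LD1_c9 LD2_c23 LD3_c19))))))
theorem f14014 : Led Lsl_ct (LP (LK LD1_c3 LD2_c16 LD3_c15)) = (LP (LK LD1_c4 LD2_c45 LD3_c18)) :=
  Lre_c IH (LK LD1_c3 LD2_c16 LD3_c15) (LK LD1_c4 LD2_c45 LD3_c18) Lrfl Lrfl
theorem f204087 : Led Lsl_dt (LP (LK LD1_c17 LD2_c14 LD3_c60)) = (LP (LK LD1_c11 LD2_c48 LD3_c14)) :=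
  Lgr Lrot6 (Lpr_gt (f204080 IH) (Lpe (f203512 IH) (Lpr_gt (f14137 IH) (Lpr_ct (f14032 IH) (Lpe (K8.f14025 IH) (Lpe (f14014 IH) (Lpe (f15591 IH) (Lpe (K7.f79937 IH) (Lpe (f79938 IH) (Lpn (LP (LK LD1_c11 LD2_c48 LD3_c14))))))))))))
theorem f202943 : Led Lsl_df (LP (LK LD1_c16 LD2_c31 LD3_c24)) = (LP (LK LD1_c17 LD2_c22 LD3_c58)) :=
  Lgr Lrot38 (Lpr_dt (f202939 IH) (Lpn (LP (LK LD1_c17 LD2_c22 LD3_c58))))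
theorem f204091 : Led Lsl_cf (LP (LK LD1_c17 LD2_c14 LD3_c60)) = (LP (LK LD1_c16 LD2_c31 LD3_c24)) :=
  Lgr Lrot118 (Lpr_dt (f204087 IH) (Lpr_ct (f152455 IH) (Lpr_dt (f152475 IH) (Lpr_ct (f203408 IH) (Lpr_dt (f61188 IH) (Lpe (f155797 IH) (Lpr_af (f202760 IH) (Lpr_ff (f202934 IH) (Lpe (f202943 IH) (Lpn (LP (LK LD1_c16 LD2_c31 LD3_c24))))))))))))
theorem f26899 : Led Lsl_bt (LP (LK LD1_c4 LD2_c38 LD3_c28)) = (LP (LK LD1_c9 LD2_c12 LD3_c47)) :=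
  Lre_b IH (LK LD1_c4 LD2_c38 LD3_c28) (LK LD1_c9 LD2_c12 LD3_c47) Lrfl Lrfl
theorem f202360 : Led Lsl_ct (LP (LK LD1_c9 LD2_c12 LD3_c47)) = (LP (LK LD1_c6 LD2_c1 LD3_c40)) :=
  Lgr Lrot83 (Lpe (f26899 IH) (Lpe (K8.f26892 IH) (Lpr_bf (f202356 IH) (Lpe (f202229 IH) (Lpe (f69183 IH) (Lpn (LP (LK LD1_c6 LD2_c1 LD3_c40))))))))
theorem f204093 : Led Lsl_df (LP (LK LD1_c9 LD2_c12 LD3_c47)) = (LP (LK LD1_c6 LD2_c36 LD3_c44)) :=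
  Lgr Lrot157 (Lpr_ct (f202360 IH) (Lpr_dt (f202683 IH) (Lpe (f202332 IH) (Lpe (f202943 IH) (Lpe (f204091 IH) (Lpr_dt (f204087 IH) (Lpr_ct (f152455 IH) (Lpr_af (f203398 IH) (Lpr_ff (f64584 IH) (Lpn (LP (LK LD1_c6 LD2_c36 LD3_c44))))))))))))
theorem f204137 : Led Lsl_dt (LP (LK LD1_c9 LD2_c12 LD3_c47)) = (LP (LK LD1_c6 LD2_c36 LD3_c44)) :=
  Lgr Lrot42 (Lpr_df (f204093 IH) (Lpn (LP (LK LD1_c6 LD2_c36 LD3_c44))))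
theorem f202911 : Led Lsl_dt (LP (LK LD1_c12 LD2_c39 LD3_c15)) = (LP (LK LD1_c16 LD2_c24 LD3_c28)) :=
  Lgr Lrot79 (Lpe (K7.f79215 IH) (Lpr_df (f202909 IH) (Lpe (f75637 IH) (Lpn (LP (LK LD1_c16 LD2_c24 LD3_c28))))))
theorem f161883 : Led Lsl_ff (LP (LK LD1_c6 LD2_c2 LD3_c11)) = (LP (LK LD1_c9 LD2_c12 LD3_c47)) :=
  Lgr Lrot25 (Lpr_bt (f160856 IH) (Lpr_ft (K8.f161870 IH) (Lpr_bt (f26899 IH) (Lpn (LP (LK LD1_c9 LD2_c12 LD3_c47))))))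
theorem f61152 : Led Lsl_bf (LP (LK LD1_c4 LD2_c38 LD3_c47)) = (LP (LK LD1_c2 LD2_c18 LD3_c8)) :=
  Lgr Lrot24 (Lpr_bt (K8.f61139 IH) (Lpn (LP (LK LD1_c2 LD2_c18 LD3_c8))))
theorem f61169 : Led Lsl_at (LP (LK LD1_c4 LD2_c38 LD3_c47)) = (LP (LK LD1_c9 LD2_c13 LD3_c15)) :=
  Lre_a IH (LK LD1_c4 LD2_c38 LD3_c47) (LK LD1_c9 LD2_c13 LD3_c15) Lrfl Lrfl
theorem f61171 : Led Lsl_at (LP (LK LD1_c4 LD2_c41 LD3_c41)) = (LP (LK LD1_c2 LD2_c18 LD3_c8)) :=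
  Lre_a IH (LK LD1_c4 LD2_c41 LD3_c41) (LK LD1_c2 LD2_c18 LD3_c8) Lrfl Lrfl
theorem f61173 : Led Lsl_at (LP (LK LD1_c17 LD2_c7 LD3_c43)) = (LP (LK LD1_c9 LD2_c18 LD3_c7)) :=
  Lgr Lrot67 (Lpe (f61170 IH) (Lpe (f61169 IH) (Lpr_bf (f61152 IH) (Lpe (f61171 IH) (Lpe (f61172 IH) (Lpn (LP (LK LD1_c9 LD2_c18 LD3_c7))))))))
theorem f61178 : Led Lsl_dt (LP (LK LD1_c9 LD2_c13 LD3_c14)) = (LP (LK LD1_c17 LD2_c7 LD3_c43)) :=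
  Lre_d IH (LK LD1_c9 LD2_c13 LD3_c14) (LK LD1_c17 LD2_c7 LD3_c43) Lrfl Lrfl
theorem f61179 : Led Lsl_dt (LP (LK LD1_c9 LD2_c18 LD3_c7)) = (LP (LK LD1_c4 LD2_c41 LD3_c40)) :=
  Lre_d IH (LK LD1_c9 LD2_c18 LD3_c7) (LK LD1_c4 LD2_c41 LD3_c40) Lrfl Lrfl
theorem f61180 : Led Lsl_af (LP (LK LD1_c9 LD2_c13 LD3_c14)) = (LP (LK LD1_c4 LD2_c41 LD3_c40)) :=
  Lgr Lrot117 (Lpr_dt (f61178 IH) (Lpr_at (f61173 IH) (Lpr_dt (f61179 IH) (Lpn (LP (LK LD1_c4 LD2_c41 LD3_c40))))))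
theorem f203410 : Led Lsl_af (LP (LK LD1_c3 LD2_c7 LD3_c17)) = (LP (LK LD1_c6 LD2_c2 LD3_c11)) :=
  Lgr Lrot68 (Lpr_ct (f203408 IH) (Lpe (f61180 IH) (Lpe (f202373 IH) (Lpn (LP (LK LD1_c6 LD2_c2 LD3_c11))))))
theorem f203412 : Led Lsl_cf (LP (LK LD1_c3 LD2_c7 LD3_c17)) = (LP (LK LD1_c4 LD2_c41 LD3_c40)) :=
  Lgr Lrot11 (Lpr_ct (f203408 IH) (Lpn (LP (LK LD1_c4 LD2_c41 LD3_c40))))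
theorem f204139 : Led Lsl_df (LP (LK LD1_c17 LD2_c7 LD3_c21)) = (LP (LK LD1_c12 LD2_c22 LD3_c6)) :=
  Lgr Lrot13 (Lpr_ct (f155794 IH) (Lpr_dt (f61179 IH) (Lpe (f203412 IH) (Lpr_af (f203410 IH) (Lpr_ff (f161883 IH) (Lpr_dt (f204137 IH) (Lpr_ct (K7.f64593 IH) (Lpr_dt (f202911 IH) (Lpr_ct (f202868 IH) (Lpn (LP (LK LD1_c12 LD2_c22 LD3_c6))))))))))))
theorem f202688 : Led Lsl_dt (LP (LK LD1_c11 LD2_c48 LD3_c3)) = (LP (LK LD1_c6 LD2_c1 LD3_c40)) :=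
  Lre_d IH (LK LD1_c11 LD2_c48 LD3_c3) (LK LD1_c6 LD2_c1 LD3_c40) Lrfl Lrfl
theorem f204141 : Led Lsl_cf (LP (LK LD1_c9 LD2_c12 LD3_c47)) = (LP (LK LD1_c6 LD2_c1 LD3_c40)) :=
  Lgr Lrot118 (Lpr_dt (f204137 IH) (Lpr_ct (K7.f64593 IH) (Lpr_dt (f202911 IH) (Lpr_ct (f202868 IH) (Lpe (f204139 IH) (Lpr_ct (f155794 IH) (Lpe (f61173 IH) (Lpr_ff (f202684 IH) (Lpr_dt (f202688 IH) (Lpn (LP (LK LD1_c6 LD2_c1 LD3_c40))))))))))))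
theorem f204182 : Led Lsl_ct (LP (LK LD1_c6 LD2_c2 LD3_c11)) = (LP (LK LD1_c9 LD2_c13 LD3_c14)) :=
  Lgr Lrot40 (Lpr_ff (f161883 IH) (Lpr_cf (f204141 IH) (Lpe (f202681 IH) (Lpn (LP (LK LD1_c9 LD2_c13 LD3_c14))))))
theorem f204184 : Led Lsl_et (LP (LK LD1_c11 LD2_c48 LD3_c49)) = (LP (LK LD1_c6 LD2_c2 LD3_c11)) :=
  Lre_e IH (LK LD1_c11 LD2_c48 LD3_c49) (LK LD1_c6 LD2_c2 LD3_c11) Lrfl Lrfl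
theorem f61186 : Led Lsl_et (LP (LK LD1_c9 LD2_c13 LD3_c14)) = (LP (LK LD1_c17 LD2_c7 LD3_c44)) :=
  Lre_e IH (LK LD1_c9 LD2_c13 LD3_c14) (LK LD1_c17 LD2_c7 LD3_c44) Lrfl Lrfl
theorem f204185 : Led Lsl_cf (LP (LK LD1_c11 LD2_c48 LD3_c49)) = (LP (LK LD1_c17 LD2_c7 LD3_c44)) :=
  Lgr Lrot39 (Lpr_et (f204184 IH) (Lpr_ct (f204182 IH) (Lpr_et (f61186 IH) (Lpn (LP (LK LD1_c17 LD2_c7 LD3_c44))))))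
theorem f204187 : Led Lsl_bt (LP (LK LD1_c11 LD2_c48 LD3_c49)) = (LP (LK LD1_c6 LD2_c2 LD3_c13)) :=
  Lre_b IH (LK LD1_c11 LD2_c48 LD3_c49) (LK LD1_c6 LD2_c2 LD3_c13) Lrfl Lrfl
theorem f161879 : Led Lsl_ct (LP (LK LD1_c6 LD2_c2 LD3_c13)) = (LP (LK LD1_c2 LD2_c57 LD3_c13)) :=
  Lre_c IH (LK LD1_c6 LD2_c2 LD3_c13) (LK LD1_c2 LD2_c57 LD3_c13) Lrfl Lrfl
theorem f61191 : Led Lsl_bt (LP (LK LD1_c9 LD2_c13 LD3_c16)) = (LP (LK LD1_c17 LD2_c7 LD3_c44)) :=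
  Lre_b IH (LK LD1_c9 LD2_c13 LD3_c16) (LK LD1_c17 LD2_c7 LD3_c44) Lrfl Lrfl
theorem f204188 : Led Lsl_ct (LP (LK LD1_c4 LD2_c38 LD3_c44)) = (LP (LK LD1_c9 LD2_c13 LD3_c16)) :=
  Lre_c IH (LK LD1_c4 LD2_c38 LD3_c44) (LK LD1_c9 LD2_c13 LD3_c16) Lrfl Lrfl
theorem f204189 : Led Lsl_bt (LP (LK LD1_c2 LD2_c57 LD3_c13)) = (LP (LK LD1_c4 LD2_c38 LD3_c44)) :=
  Lgr Lrot128 (Lpe (f161879 IH) (Lpe (f204187 IH) (Lpr_cf (f204185 IH) (Lpe (f61191 IH) (Lpe (f204188 IH) (Lpn (LP (LK LD1_c4 LD2_c38 LD3_c44))))))))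
theorem f204203 : Led Lsl_ft (LP (LK LD1_c6 LD2_c2 LD3_c16)) = (LP (LK LD1_c2 LD2_c57 LD3_c13)) :=
  Lre_f IH (LK LD1_c6 LD2_c2 LD3_c16) (LK LD1_c2 LD2_c57 LD3_c13) Lrfl Lrfl
theorem f204204 : Led Lsl_ft (LP (LK LD1_c4 LD2_c38 LD3_c44)) = (LP (LK LD1_c9 LD2_c13 LD3_c19)) :=
  Lre_f IH (LK LD1_c4 LD2_c38 LD3_c44) (LK LD1_c9 LD2_c13 LD3_c19) Lrfl Lrfl
theorem f204205 : Led Lsl_bf (LP (LK LD1_c6 LD2_c2 LD3_c16)) = (LP (LK LD1_c9 LD2_c13 LD3_c19)) :=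
  Lgr Lrot61 (Lpr_ft (f204203 IH) (Lpr_bt (f204189 IH) (Lpr_ft (f204204 IH) (Lpn (LP (LK LD1_c9 LD2_c13 LD3_c19))))))
theorem f204214 : Led Lsl_bt (LP (LK LD1_c6 LD2_c2 LD3_c16)) = (LP (LK LD1_c9 LD2_c13 LD3_c19)) :=
  Lgr Lrot127 (Lpr_bf (f204205 IH) (Lpn (LP (LK LD1_c9 LD2_c13 LD3_c19))))
theorem f204221 : Led Lsl_at (LP (LK LD1_c2 LD2_c57 LD3_c20)) = (LP (LK LD1_c6 LD2_c2 LD3_c16)) :=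
  Lre_a IH (LK LD1_c2 LD2_c57 LD3_c20) (LK LD1_c6 LD2_c2 LD3_c16) Lrfl Lrfl
theorem f204222 : Led Lsl_bt (LP (LK LD1_c1 LD2_c24 LD3_c28)) = (LP (LK LD1_c2 LD2_c57 LD3_c20)) :=
  Lre_b IH (LK LD1_c1 LD2_c24 LD3_c28) (LK LD1_c2 LD2_c57 LD3_c20) Lrfl Lrfl
theorem f204223 : Led Lsl_at (LP (LK LD1_c9 LD2_c13 LD3_c19)) = (LP (LK LD1_c4 LD2_c38 LD3_c52)) :=
  Lre_a IH (LK LD1_c9 LD2_c13 LD3_c19) (LK LD1_c4 LD2_c38 LD3_c52) Lrfl Lrfl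
theorem f61096 : Led Lsl_bt (LP (LK LD1_c4 LD2_c38 LD3_c52)) = (LP (LK LD1_c2 LD2_c16 LD3_c30)) :=
  Lre_b IH (LK LD1_c4 LD2_c38 LD3_c52) (LK LD1_c2 LD2_c16 LD3_c30) Lrfl Lrfl
theorem f204224 : Led Lsl_af (LP (LK LD1_c1 LD2_c24 LD3_c28)) = (LP (LK LD1_c2 LD2_c16 LD3_c30)) :=
  Lgr Lrot36 (Lpr_bt (f204222 IH) (Lpr_at (f204221 IH) (Lpr_bt (f204214 IH) (Lpr_at (f204223 IH) (Lpr_bt (f61096 IH) (Lpn (LP (LK LD1_c2 LD2_c16 LD3_c30))))))))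
theorem f204247 : Led Lsl_ft (LP (LK LD1_c1 LD2_c24 LD3_c28)) = (LP (LK LD1_c0 LD2_c38 LD3_c56)) :=
  Lre_f IH (LK LD1_c1 LD2_c24 LD3_c28) (LK LD1_c0 LD2_c38 LD3_c56) Lrfl Lrfl
theorem f61074 : Led Lsl_ft (LP (LK LD1_c1 LD2_c5 LD3_c7)) = (LP (LK LD1_c2 LD2_c16 LD3_c30)) :=
  Lre_f IH (LK LD1_c1 LD2_c5 LD3_c7) (LK LD1_c2 LD2_c16 LD3_c30) Lrfl Lrfl
theorem f204248 : Led Lsl_at (LP (LK LD1_c0 LD2_c38 LD3_c56)) = (LP (LK LD1_c1 LD2_c5 LD3_c7)) :=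
  Lgr Lrot66 (Lpe (f204247 IH) (Lpr_af (f204224 IH) (Lpe (f61074 IH) (Lpn (LP (LK LD1_c1 LD2_c5 LD3_c7))))))
theorem f68640 : Led Lsl_dt (LP (LK LD1_c1 LD2_c24 LD3_c27)) = (LP (LK LD1_c0 LD2_c38 LD3_c56)) :=
  Lre_d IH (LK LD1_c1 LD2_c24 LD3_c27) (LK LD1_c0 LD2_c38 LD3_c56) Lrfl Lrfl
theorem f26933 : Led Lsl_dt (LP (LK LD1_c1 LD2_c5 LD3_c7)) = (LP (LK LD1_c2 LD2_c16 LD3_c29)) :=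
  Lre_d IH (LK LD1_c1 LD2_c5 LD3_c7) (LK LD1_c2 LD2_c16 LD3_c29) Lrfl Lrfl
theorem f204265 : Led Lsl_af (LP (LK LD1_c1 LD2_c24 LD3_c27)) = (LP (LK LD1_c2 LD2_c16 LD3_c29)) :=
  Lgr Lrot117 (Lpr_dt (f68640 IH) (Lpr_at (f204248 IH) (Lpr_dt (f26933 IH) (Lpn (LP (LK LD1_c2 LD2_c16 LD3_c29))))))
theorem f68919 : Led Lsl_ct (LP (LK LD1_c2 LD2_c57 LD3_c28)) = (LP (LK LD1_c1 LD2_c24 LD3_c27)) :=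
  Lre_c IH (LK LD1_c2 LD2_c57 LD3_c28) (LK LD1_c1 LD2_c24 LD3_c27) Lrfl Lrfl
theorem f68950 : Led Lsl_dt (LP (LK LD1_c6 LD2_c2 LD3_c47)) = (LP (LK LD1_c2 LD2_c57 LD3_c28)) :=
  Lre_d IH (LK LD1_c6 LD2_c2 LD3_c47) (LK LD1_c2 LD2_c57 LD3_c28) Lrfl Lrfl
theorem f61105 : Led Lsl_ft (LP (LK LD1_c4 LD2_c38 LD3_c60)) = (LP (LK LD1_c2 LD2_c16 LD3_c29)) :=
  Lre_f IH (LK LD1_c4 LD2_c38 LD3_c60) (LK LD1_c2 LD2_c16 LD3_c29) Lrfl Lrfl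
theorem f61100 : Led Lsl_dt (LP (LK LD1_c4 LD2_c38 LD3_c60)) = (LP (LK LD1_c2 LD2_c16 LD3_c30)) :=
  Lre_d IH (LK LD1_c4 LD2_c38 LD3_c60) (LK LD1_c2 LD2_c16 LD3_c30) Lrfl Lrfl
theorem f61075 : Led Lsl_ft (LP (LK LD1_c1 LD2_c6 LD3_c14)) = (LP (LK LD1_c0 LD2_c30 LD3_c15)) :=
  Lre_f IH (LK LD1_c1 LD2_c6 LD3_c14) (LK LD1_c0 LD2_c30 LD3_c15) Lrfl Lrfl
theorem f61076 : Led Lsl_ct (LP (LK LD1_c2 LD2_c16 LD3_c30)) = (LP (LK LD1_c1 LD2_c6 LD3_c14)) :=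
  Lgr Lrot40 (Lpe (f61074 IH) (Lpr_cf (K8.f61062 IH) (Lpe (f61075 IH) (Lpn (LP (LK LD1_c1 LD2_c6 LD3_c14))))))
theorem f61102 : Led Lsl_dt (LP (LK LD1_c1 LD2_c6 LD3_c14)) = (LP (LK LD1_c2 LD2_c18 LD3_c27)) :=
  Lre_d IH (LK LD1_c1 LD2_c6 LD3_c14) (LK LD1_c2 LD2_c18 LD3_c27) Lrfl Lrfl
theorem f61104 : Led Lsl_dt (LP (LK LD1_c4 LD2_c42 LD3_c15)) = (LP (LK LD1_c9 LD2_c18 LD3_c51)) :=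
  Lre_d IH (LK LD1_c4 LD2_c42 LD3_c15) (LK LD1_c9 LD2_c18 LD3_c51) Lrfl Lrfl
theorem f204279 : Led Lsl_cf (LP (LK LD1_c6 LD2_c2 LD3_c47)) = (LP (LK LD1_c9 LD2_c18 LD3_c51)) :=
  Lgr Lrot161 (Lpr_dt (f68950 IH) (Lpr_ct (f68919 IH) (Lpr_af (f204265 IH) (Lpe (f61105 IH) (Lpr_dt (f61100 IH) (Lpr_ct (f61076 IH) (Lpr_dt (f61102 IH) (Lpr_ct (K7.f61103 IH) (Lpr_dt (f61104 IH) (Lpn (LP (LK LD1_c9 LD2_c18 LD3_c51))))))))))))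
theorem f61869 : Led Lsl_et (LP (LK LD1_c0 LD2_c17 LD3_c17)) = (LP (LK LD1_c0 LD2_c38 LD3_c56)) :=
  Lre_e IH (LK LD1_c0 LD2_c17 LD3_c17) (LK LD1_c0 LD2_c38 LD3_c56) Lrfl Lrfl
theorem f61870 : Led Lsl_cf (LP (LK LD1_c0 LD2_c18 LD3_c39)) = (LP (LK LD1_c0 LD2_c38 LD3_c56)) :=
  Lgr Lrot39 (Lpr_et (K7.f61835 IH) (Lpr_ct (K1.f61823 IH) (Lpr_et (f61869 IH) (Lpn (LP (LK LD1_c0 LD2_c38 LD3_c56))))))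
theorem f153496 : Led Lsl_ct (LP (LK LD1_c0 LD2_c41 LD3_c48)) = (LP (LK LD1_c1 LD2_c30 LD3_c35)) :=
  Lre_c IH (LK LD1_c0 LD2_c41 LD3_c48) (LK LD1_c1 LD2_c30 LD3_c35) Lrfl Lrfl
theorem f84030 : Led Lsl_dt (LP (LK LD1_c1 LD2_c30 LD3_c35)) = (LP (LK LD1_c3 LD2_c8 LD3_c56)) :=
  Lre_d IH (LK LD1_c1 LD2_c30 LD3_c35) (LK LD1_c3 LD2_c8 LD3_c56) Lrfl Lrfl
theorem f204285 : Led Lsl_ct (LP (LK LD1_c3 LD2_c8 LD3_c56)) = (LP (LK LD1_c6 LD2_c22 LD3_c29)) :=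
  Lre_c IH (LK LD1_c3 LD2_c8 LD3_c56) (LK LD1_c6 LD2_c22 LD3_c29) Lrfl Lrfl
theorem f61101 : Led Lsl_ct (LP (LK LD1_c9 LD2_c13 LD3_c43)) = (LP (LK LD1_c4 LD2_c38 LD3_c60)) :=
  Lre_c IH (LK LD1_c9 LD2_c13 LD3_c43) (LK LD1_c4 LD2_c38 LD3_c60) Lrfl Lrfl
theorem f204286 : Led Lsl_dt (LP (LK LD1_c6 LD2_c22 LD3_c29)) = (LP (LK LD1_c9 LD2_c13 LD3_c43)) :=
  Lgr Lrot173 (Lpe (f204285 IH) (Lpe (f84030 IH) (Lpe (f153496 IH) (Lpe (K9.f61836 IH) (Lpr_cf (f61870 IH) (Lpe (f68640 IH) (Lpe (f68919 IH) (Lpe (f68950 IH) (Lpr_cf (f204279 IH) (Lpe (f61104 IH) (Lpe (K7.f61103 IH) (Lpe (f61102 IH) (Lpe (f61076 IH) (Lpe (f61100 IH) (Lpe (f61101 IH) (Lpn (LP (LK LD1_c9 LD2_c13 LD3_c43))))))))))))))))))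
theorem f204293 : Led Lsl_df (LP (LK LD1_c6 LD2_c22 LD3_c29)) = (LP (LK LD1_c9 LD2_c13 LD3_c43)) :=
  Lgr Lrot38 (Lpr_dt (f204286 IH) (Lpn (LP (LK LD1_c9 LD2_c13 LD3_c43))))
theorem f153561 : Led Lsl_ct (LP (LK LD1_c6 LD2_c22 LD3_c29)) = (LP (LK LD1_c3 LD2_c8 LD3_c56)) :=
  Lre_c IH (LK LD1_c6 LD2_c22 LD3_c29) (LK LD1_c3 LD2_c8 LD3_c56) Lrfl Lrfl
theorem f153499 : Led Lsl_dt (LP (LK LD1_c3 LD2_c8 LD3_c56)) = (LP (LK LD1_c1 LD2_c30 LD3_c35)) :=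
  Lre_d IH (LK LD1_c3 LD2_c8 LD3_c56) (LK LD1_c1 LD2_c30 LD3_c35) Lrfl Lrfl
theorem f153545 : Led Lsl_ct (LP (LK LD1_c1 LD2_c30 LD3_c35)) = (LP (LK LD1_c0 LD2_c41 LD3_c48)) :=
  Lre_c IH (LK LD1_c1 LD2_c30 LD3_c35) (LK LD1_c0 LD2_c41 LD3_c48) Lrfl Lrfl
theorem f67105 : Led Lsl_dt (LP (LK LD1_c0 LD2_c41 LD3_c48)) = (LP (LK LD1_c0 LD2_c18 LD3_c39)) :=
  Lre_d IH (LK LD1_c0 LD2_c41 LD3_c48) (LK LD1_c0 LD2_c18 LD3_c39) Lrfl Lrfl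
theorem f153585 : Led Lsl_af (LP (LK LD1_c0 LD2_c18 LD3_c39)) = (LP (LK LD1_c0 LD2_c30 LD3_c15)) :=
  Lgr Lrot0 (Lpr_at (K7.f153576 IH) (Lpn (LP (LK LD1_c0 LD2_c30 LD3_c15))))
theorem f204263 : Led Lsl_cf (LP (LK LD1_c0 LD2_c38 LD3_c56)) = (LP (LK LD1_c0 LD2_c18 LD3_c39)) :=
  Lgr Lrot1 (Lpr_at (f204248 IH) (Lpe (K8.f60960 IH) (Lpe (f153585 IH) (Lpn (LP (LK LD1_c0 LD2_c18 LD3_c39))))))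
theorem f22976 : Led Lsl_dt (LP (LK LD1_c0 LD2_c38 LD3_c56)) = (LP (LK LD1_c1 LD2_c24 LD3_c27)) :=
  Lre_d IH (LK LD1_c0 LD2_c38 LD3_c56) (LK LD1_c1 LD2_c24 LD3_c27) Lrfl Lrfl
theorem f68939 : Led Lsl_ct (LP (LK LD1_c1 LD2_c24 LD3_c27)) = (LP (LK LD1_c2 LD2_c57 LD3_c28)) :=
  Lre_c IH (LK LD1_c1 LD2_c24 LD3_c27) (LK LD1_c2 LD2_c57 LD3_c28) Lrfl Lrfl
theorem f104860 : Led Lsl_ft (LP (LK LD1_c9 LD2_c13 LD3_c43)) = (LP (LK LD1_c4 LD2_c38 LD3_c59)) :=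
  Lre_f IH (LK LD1_c9 LD2_c13 LD3_c43) (LK LD1_c4 LD2_c38 LD3_c59) Lrfl Lrfl
theorem f204298 : Led Lsl_af (LP (LK LD1_c2 LD2_c57 LD3_c28)) = (LP (LK LD1_c4 LD2_c38 LD3_c59)) :=
  Lgr Lrot109 (Lpe (f68939 IH) (Lpe (f22976 IH) (Lpr_cf (f204263 IH) (Lpe (f67105 IH) (Lpe (f153545 IH) (Lpe (f153499 IH) (Lpe (f153561 IH) (Lpr_df (f204293 IH) (Lpr_ft (f104860 IH) (Lpn (LP (LK LD1_c4 LD2_c38 LD3_c59))))))))))))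
theorem f68980 : Led Lsl_ft (LP (LK LD1_c2 LD2_c57 LD3_c28)) = (LP (LK LD1_c6 LD2_c2 LD3_c48)) :=
  Lre_f IH (LK LD1_c2 LD2_c57 LD3_c28) (LK LD1_c6 LD2_c2 LD3_c48) Lrfl Lrfl
theorem f204305 : Led Lsl_at (LP (LK LD1_c6 LD2_c2 LD3_c48)) = (LP (LK LD1_c9 LD2_c13 LD3_c43)) :=
  Lgr Lrot66 (Lpe (f68980 IH) (Lpr_af (f204298 IH) (Lpe (f104860 IH) (Lpn (LP (LK LD1_c9 LD2_c13 LD3_c43))))))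
theorem f68953 : Led Lsl_et (LP (LK LD1_c11 LD2_c49 LD3_c41)) = (LP (LK LD1_c6 LD2_c2 LD3_c48)) :=
  Lre_e IH (LK LD1_c11 LD2_c49 LD3_c41) (LK LD1_c6 LD2_c2 LD3_c48) Lrfl Lrfl
theorem f104867 : Led Lsl_et (LP (LK LD1_c9 LD2_c13 LD3_c43)) = (LP (LK LD1_c17 LD2_c8 LD3_c1)) :=
  Lre_e IH (LK LD1_c9 LD2_c13 LD3_c43) (LK LD1_c17 LD2_c8 LD3_c1) Lrfl Lrfl
theorem f204317 : Led Lsl_af (LP (LK LD1_c11 LD2_c49 LD3_c41)) = (LP (LK LD1_c17 LD2_c8 LD3_c1)) :=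
  Lgr Lrot50 (Lpr_et (f68953 IH) (Lpr_at (f204305 IH) (Lpr_et (f104867 IH) (Lpn (LP (LK LD1_c17 LD2_c8 LD3_c1))))))
theorem f68935 : Led Lsl_ct (LP (LK LD1_c11 LD2_c49 LD3_c41)) = (LP (LK LD1_c6 LD2_c2 LD3_c49)) :=
  Lre_c IH (LK LD1_c11 LD2_c49 LD3_c41) (LK LD1_c6 LD2_c2 LD3_c49) Lrfl Lrfl
theorem f104851 : Led Lsl_ct (LP (LK LD1_c9 LD2_c13 LD3_c44)) = (LP (LK LD1_c17 LD2_c8 LD3_c1)) :=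
  Lre_c IH (LK LD1_c9 LD2_c13 LD3_c44) (LK LD1_c17 LD2_c8 LD3_c1) Lrfl Lrfl
theorem f204325 : Led Lsl_at (LP (LK LD1_c6 LD2_c2 LD3_c49)) = (LP (LK LD1_c9 LD2_c13 LD3_c44)) :=
  Lgr Lrot107 (Lpe (f68935 IH) (Lpr_af (f204317 IH) (Lpe (f104851 IH) (Lpn (LP (LK LD1_c9 LD2_c13 LD3_c44))))))
theorem f68572 : Led Lsl_et (LP (LK LD1_c0 LD2_c18 LD3_c50)) = (LP (LK LD1_c0 LD2_c8 LD3_c28)) :=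
  Lre_e IH (LK LD1_c0 LD2_c18 LD3_c50) (LK LD1_c0 LD2_c8 LD3_c28) Lrfl Lrfl
theorem f25938 : Led Lsl_dt (LP (LK LD1_c0 LD2_c42 LD3_c10)) = (LP (LK LD1_c0 LD2_c18 LD3_c50)) :=
  Lre_d IH (LK LD1_c0 LD2_c42 LD3_c10) (LK LD1_c0 LD2_c18 LD3_c50) Lrfl Lrfl
theorem f68573 : Led Lsl_et (LP (LK LD1_c1 LD2_c24 LD3_c27)) = (LP (LK LD1_c0 LD2_c42 LD3_c10)) :=
  Lgr Lrot71 (Lpe (f22976 IH) (Lpe (f61869 IH) (Lpr_df (K4.f68535 IH) (Lpe (f68572 IH) (Lpe (f25938 IH) (Lpn (LP (LK LD1_c0 LD2_c42 LD3_c10))))))))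
theorem f68924 : Led Lsl_ft (LP (LK LD1_c2 LD2_c57 LD3_c29)) = (LP (LK LD1_c1 LD2_c24 LD3_c27)) :=
  Lre_f IH (LK LD1_c2 LD2_c57 LD3_c29) (LK LD1_c1 LD2_c24 LD3_c27) Lrfl Lrfl
theorem f68925 : Led Lsl_et (LP (LK LD1_c6 LD2_c2 LD3_c49)) = (LP (LK LD1_c2 LD2_c57 LD3_c29)) :=
  Lre_e IH (LK LD1_c6 LD2_c2 LD3_c49) (LK LD1_c2 LD2_c57 LD3_c29) Lrfl Lrfl
theorem f25985 : Led Lsl_ft (LP (LK LD1_c0 LD2_c42 LD3_c10)) = (LP (LK LD1_c1 LD2_c31 LD3_c24)) :=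
  Lre_f IH (LK LD1_c0 LD2_c42 LD3_c10) (LK LD1_c1 LD2_c31 LD3_c24) Lrfl Lrfl
theorem f68926 : Led Lsl_et (LP (LK LD1_c1 LD2_c31 LD3_c24)) = (LP (LK LD1_c3 LD2_c10 LD3_c23)) :=
  Lre_e IH (LK LD1_c1 LD2_c31 LD3_c24) (LK LD1_c3 LD2_c10 LD3_c23) Lrfl Lrfl
theorem f68927 : Led Lsl_ff (LP (LK LD1_c6 LD2_c2 LD3_c49)) = (LP (LK LD1_c3 LD2_c10 LD3_c23)) :=
  Lgr Lrot72 (Lpr_et (f68925 IH) (Lpr_ft (f68924 IH) (Lpr_et (f68573 IH) (Lpr_ft (f25985 IH) (Lpr_et (f68926 IH) (Lpn (LP (LK LD1_c3 LD2_c10 LD3_c23))))))))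
theorem f104812 : Led Lsl_et (LP (LK LD1_c1 LD2_c6 LD3_c32)) = (LP (LK LD1_c0 LD2_c30 LD3_c25)) :=
  Lre_e IH (LK LD1_c1 LD2_c6 LD3_c32) (LK LD1_c0 LD2_c30 LD3_c25) Lrfl Lrfl
theorem f104813 : Led Lsl_dt (LP (LK LD1_c2 LD2_c18 LD3_c60)) = (LP (LK LD1_c1 LD2_c6 LD3_c32)) :=
  Lre_d IH (LK LD1_c2 LD2_c18 LD3_c60) (LK LD1_c1 LD2_c6 LD3_c32) Lrfl Lrfl
theorem f104814 : Led Lsl_et (LP (LK LD1_c1 LD2_c5 LD3_c6)) = (LP (LK LD1_c2 LD2_c16 LD3_c26)) :=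
  Lre_e IH (LK LD1_c1 LD2_c5 LD3_c6) (LK LD1_c2 LD2_c16 LD3_c26) Lrfl Lrfl
theorem f104783 : Led Lsl_dt (LP (LK LD1_c2 LD2_c16 LD3_c26)) = (LP (LK LD1_c4 LD2_c38 LD3_c51)) :=
  Lre_d IH (LK LD1_c2 LD2_c16 LD3_c26) (LK LD1_c4 LD2_c38 LD3_c51) Lrfl Lrfl
theorem f104815 : Led Lsl_ef (LP (LK LD1_c2 LD2_c18 LD3_c60)) = (LP (LK LD1_c4 LD2_c38 LD3_c51)) :=
  Lgr Lrot73 (Lpr_dt (f104813 IH) (Lpr_et (f104812 IH) (Lpr_dt (f104807 IH) (Lpr_et (f104814 IH) (Lpr_dt (f104783 IH) (Lpn (LP (LK LD1_c4 LD2_c38 LD3_c51))))))))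
theorem f104822 : Led Lsl_bt (LP (LK LD1_c2 LD2_c18 LD3_c60)) = (LP (LK LD1_c1 LD2_c6 LD3_c33)) :=
  Lre_b IH (LK LD1_c2 LD2_c18 LD3_c60) (LK LD1_c1 LD2_c6 LD3_c33) Lrfl Lrfl
theorem f104823 : Led Lsl_bt (LP (LK LD1_c2 LD2_c16 LD3_c29)) = (LP (LK LD1_c4 LD2_c38 LD3_c51)) :=
  Lre_b IH (LK LD1_c2 LD2_c16 LD3_c29) (LK LD1_c4 LD2_c38 LD3_c51) Lrfl Lrfl
theorem f104824 : Led Lsl_et (LP (LK LD1_c1 LD2_c6 LD3_c33)) = (LP (LK LD1_c2 LD2_c16 LD3_c29)) :=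
  Lgr Lrot74 (Lpe (f104822 IH) (Lpr_ef (f104815 IH) (Lpe (f104823 IH) (Lpn (LP (LK LD1_c2 LD2_c16 LD3_c29))))))
theorem f59054 : Led Lsl_ft (LP (LK LD1_c2 LD2_c19 LD3_c3)) = (LP (LK LD1_c1 LD2_c6 LD3_c33)) :=
  Lre_f IH (LK LD1_c2 LD2_c19 LD3_c3) (LK LD1_c1 LD2_c6 LD3_c33) Lrfl Lrfl
theorem f104841 : Led Lsl_et (LP (LK LD1_c4 LD2_c42 LD3_c61)) = (LP (LK LD1_c2 LD2_c19 LD3_c3)) :=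
  Lre_e IH (LK LD1_c4 LD2_c42 LD3_c61) (LK LD1_c2 LD2_c19 LD3_c3) Lrfl Lrfl
theorem f104842 : Led Lsl_ft (LP (LK LD1_c2 LD2_c16 LD3_c29)) = (LP (LK LD1_c4 LD2_c38 LD3_c60)) :=
  Lre_f IH (LK LD1_c2 LD2_c16 LD3_c29) (LK LD1_c4 LD2_c38 LD3_c60) Lrfl Lrfl
theorem f104843 : Led Lsl_et (LP (LK LD1_c4 LD2_c38 LD3_c60)) = (LP (LK LD1_c9 LD2_c13 LD3_c44)) :=
  Lre_e IH (LK LD1_c4 LD2_c38 LD3_c60) (LK LD1_c9 LD2_c13 LD3_c44) Lrfl Lrfl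
theorem f104844 : Led Lsl_ff (LP (LK LD1_c4 LD2_c42 LD3_c61)) = (LP (LK LD1_c9 LD2_c13 LD3_c44)) :=
  Lgr Lrot72 (Lpr_et (f104841 IH) (Lpr_ft (f59054 IH) (Lpr_et (f104824 IH) (Lpr_ft (f104842 IH) (Lpr_et (f104843 IH) (Lpn (LP (LK LD1_c9 LD2_c13 LD3_c44))))))))
theorem f204329 : Led Lsl_af (LP (LK LD1_c3 LD2_c10 LD3_c23)) = (LP (LK LD1_c4 LD2_c42 LD3_c61)) :=
  Lgr Lrot45 (Lpe (f68927 IH) (Lpr_at (f204325 IH) (Lpe (f104844 IH) (Lpn (LP (LK LD1_c4 LD2_c42 LD3_c61))))))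
theorem f68938 : Led Lsl_et (LP (LK LD1_c3 LD2_c10 LD3_c23)) = (LP (LK LD1_c1 LD2_c31 LD3_c24)) :=
  Lre_e IH (LK LD1_c3 LD2_c10 LD3_c23) (LK LD1_c1 LD2_c31 LD3_c24) Lrfl Lrfl
theorem f104852 : Led Lsl_et (LP (LK LD1_c2 LD2_c19 LD3_c3)) = (LP (LK LD1_c4 LD2_c42 LD3_c61)) :=
  Lre_e IH (LK LD1_c2 LD2_c19 LD3_c3) (LK LD1_c4 LD2_c42 LD3_c61) Lrfl Lrfl
theorem f204335 : Led Lsl_at (LP (LK LD1_c1 LD2_c31 LD3_c24)) = (LP (LK LD1_c2 LD2_c19 LD3_c3)) :=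
  Lgr Lrot80 (Lpe (f68938 IH) (Lpr_af (f204329 IH) (Lpe (f104852 IH) (Lpn (LP (LK LD1_c2 LD2_c19 LD3_c3))))))
theorem f25945 : Led Lsl_ct (LP (LK LD1_c0 LD2_c18 LD3_c50)) = (LP (LK LD1_c0 LD2_c8 LD3_c29)) :=
  Lre_c IH (LK LD1_c0 LD2_c18 LD3_c50) (LK LD1_c0 LD2_c8 LD3_c29) Lrfl Lrfl
theorem f25980 : Led Lsl_ct (LP (LK LD1_c0 LD2_c13 LD3_c22)) = (LP (LK LD1_c0 LD2_c30 LD3_c5)) :=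
  Lre_c IH (LK LD1_c0 LD2_c13 LD3_c22) (LK LD1_c0 LD2_c30 LD3_c5) Lrfl Lrfl
theorem f25981 : Led Lsl_dt (LP (LK LD1_c0 LD2_c30 LD3_c5)) = (LP (LK LD1_c1 LD2_c5 LD3_c51)) :=
  Lre_d IH (LK LD1_c0 LD2_c30 LD3_c5) (LK LD1_c1 LD2_c5 LD3_c51) Lrfl Lrfl
theorem f25982 : Led Lsl_ct (LP (LK LD1_c1 LD2_c5 LD3_c51)) = (LP (LK LD1_c2 LD2_c17 LD3_c53)) :=
  Lre_c IH (LK LD1_c1 LD2_c5 LD3_c51) (LK LD1_c2 LD2_c17 LD3_c53) Lrfl Lrfl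
theorem f25983 : Led Lsl_dt (LP (LK LD1_c2 LD2_c17 LD3_c53)) = (LP (LK LD1_c4 LD2_c41 LD3_c36)) :=
  Lre_d IH (LK LD1_c2 LD2_c17 LD3_c53) (LK LD1_c4 LD2_c41 LD3_c36) Lrfl Lrfl
theorem f204349 : Led Lsl_ct (LP (LK LD1_c4 LD2_c41 LD3_c36)) = (LP (LK LD1_c2 LD2_c19 LD3_c3)) :=
  Lgr Lrot98 (Lpe (f25983 IH) (Lpe (f25982 IH) (Lpe (f25981 IH) (Lpe (f25980 IH) (Lpe (K10.f25930 IH) (Lpe (f25945 IH) (Lpe (f25938 IH) (Lpr_ft (f25985 IH) (Lpr_at (f204335 IH) (Lpn (LP (LK LD1_c2 LD2_c19 LD3_c3))))))))))))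
theorem f59044 : Led Lsl_dt (LP (LK LD1_c2 LD2_c19 LD3_c3)) = (LP (LK LD1_c1 LD2_c6 LD3_c34)) :=
  Lre_d IH (LK LD1_c2 LD2_c19 LD3_c3) (LK LD1_c1 LD2_c6 LD3_c34) Lrfl Lrfl
theorem f59045 : Led Lsl_ct (LP (LK LD1_c1 LD2_c6 LD3_c34)) = (LP (LK LD1_c0 LD2_c30 LD3_c29)) :=
  Lre_c IH (LK LD1_c1 LD2_c6 LD3_c34) (LK LD1_c0 LD2_c30 LD3_c29) Lrfl Lrfl
theorem f204365 : Led Lsl_at (LP (LK LD1_c0 LD2_c18 LD3_c53)) = (LP (LK LD1_c0 LD2_c30 LD3_c29)) :=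
  Lgr Lrot33 (Lpe (K1.f25932 IH) (Lpr_dt (K10.f25930 IH) (Lpr_ct (f25980 IH) (Lpr_dt (f25981 IH) (Lpr_ct (f25982 IH) (Lpr_dt (f25983 IH) (Lpr_ct (f204349 IH) (Lpr_dt (f59044 IH) (Lpr_ct (f59045 IH) (Lpn (LP (LK LD1_c0 LD2_c30 LD3_c29))))))))))))
theorem f58993 : Led Lsl_ft (LP (LK LD1_c0 LD2_c30 LD3_c29)) = (LP (LK LD1_c0 LD2_c13 LD3_c32)) :=
  Lre_f IH (LK LD1_c0 LD2_c30 LD3_c29) (LK LD1_c0 LD2_c13 LD3_c32) Lrfl Lrfl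
theorem f204371 : Led Lsl_af (LP (LK LD1_c0 LD2_c8 LD3_c29)) = (LP (LK LD1_c0 LD2_c13 LD3_c32)) :=
  Lgr Lrot45 (Lpr_ft (K1.f25932 IH) (Lpr_at (f204365 IH) (Lpr_ft (f58993 IH) (Lpn (LP (LK LD1_c0 LD2_c13 LD3_c32))))))
theorem f204381 : Led Lsl_at (LP (LK LD1_c0 LD2_c3 LD3_c52)) = (LP (LK LD1_c0 LD2_c6 LD3_c10)) :=
  Lgr Lrot80 (Lpe (K1.f25916 IH) (Lpr_af (f204371 IH) (Lpe (K9.f26596 IH) (Lpn (LP (LK LD1_c0 LD2_c6 LD3_c10))))))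
theorem f204392 : Led Lsl_ff (LP (LK LD1_c0 LD2_c3 LD3_c52)) = (LP (LK LD1_c0 LD2_c6 LD3_c6)) :=
  Lgr Lrot52 (Lpr_at (f204381 IH) (Lpr_gf (K1.f60908 IH) (Lpe (K1.f25958 IH) (Lpn (LP (LK LD1_c0 LD2_c6 LD3_c6))))))
theorem f204402 : Led Lsl_ft (LP (LK LD1_c0 LD2_c3 LD3_c52)) = (LP (LK LD1_c0 LD2_c6 LD3_c6)) :=
  Lgr Lrot48 (Lpr_ff (f204392 IH) (Lpn (LP (LK LD1_c0 LD2_c6 LD3_c6))))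
theorem f59638 : Led Lsl_gf (LP (LK LD1_c0 LD2_c7 LD3_c54)) = (LP (LK LD1_c0 LD2_c3 LD3_c52)) :=
  Lgr Lrot143 (Lpr_dt (K1.f194 IH) (Lpr_cf (K0.f104 IH) (Lpe (K0.f204 IH) (Lpr_gf (K0.f7362 IH) (Lpe (K0.f7305 IH) (Lpe (K0.f7304 IH) (Lpr_cf (K1.f59630 IH) (Lpe (K6.f59531 IH) (Lpr_dt (K4.f25921 IH) (Lpn (LP (LK LD1_c0 LD2_c3 LD3_c52))))))))))))
theorem f204410 : Led Lsl_af (LP (LK LD1_c0 LD2_c3 LD3_c47)) = (LP (LK LD1_c0 LD2_c6 LD3_c6)) :=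
  Lgr Lrot31 (Lpe (K1.f58941 IH) (Lpr_gf (f59638 IH) (Lpr_ft (f204402 IH) (Lpn (LP (LK LD1_c0 LD2_c6 LD3_c6))))))
theorem f204386 : Led Lsl_af (LP (LK LD1_c0 LD2_c3 LD3_c52)) = (LP (LK LD1_c0 LD2_c6 LD3_c10)) :=
  Lgr Lrot0 (Lpr_at (f204381 IH) (Lpn (LP (LK LD1_c0 LD2_c6 LD3_c10))))
theorem f204422 : Led Lsl_ft (LP (LK LD1_c0 LD2_c3 LD3_c47)) = (LP (LK LD1_c0 LD2_c6 LD3_c10)) :=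
  Lgr Lrot101 (Lpr_af (f204410 IH) (Lpe (f204402 IH) (Lpr_af (f204386 IH) (Lpn (LP (LK LD1_c0 LD2_c6 LD3_c10))))))
theorem f204428 : Led Lsl_ff (LP (LK LD1_c0 LD2_c3 LD3_c47)) = (LP (LK LD1_c0 LD2_c6 LD3_c10)) :=
  Lgr Lrot3 (Lpr_ft (f204422 IH) (Lpn (LP (LK LD1_c0 LD2_c6 LD3_c10))))
theorem f58994 : Led Lsl_ft (LP (LK LD1_c0 LD2_c8 LD3_c16)) = (LP (LK LD1_c0 LD2_c18 LD3_c24)) :=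
  Lre_f IH (LK LD1_c0 LD2_c8 LD3_c16) (LK LD1_c0 LD2_c18 LD3_c24) Lrfl Lrfl
theorem f204436 : Led Lsl_et (LP (LK LD1_c0 LD2_c18 LD3_c24)) = (LP (LK LD1_c0 LD2_c30 LD3_c29)) :=
  Lgr Lrot69 (Lpe (f58994 IH) (Lpe (K10.f59108 IH) (Lpr_ff (f204428 IH) (Lpe (K10.f59012 IH) (Lpe (f58993 IH) (Lpn (LP (LK LD1_c0 LD2_c30 LD3_c29))))))))
theorem f59037 : Led Lsl_ct (LP (LK LD1_c0 LD2_c41 LD3_c0)) = (LP (LK LD1_c0 LD2_c18 LD3_c24)) :=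
  Lre_c IH (LK LD1_c0 LD2_c41 LD3_c0) (LK LD1_c0 LD2_c18 LD3_c24) Lrfl Lrfl
theorem f59035 : Led Lsl_ct (LP (LK LD1_c0 LD2_c30 LD3_c29)) = (LP (LK LD1_c1 LD2_c6 LD3_c34)) :=
  Lre_c IH (LK LD1_c0 LD2_c30 LD3_c29) (LK LD1_c1 LD2_c6 LD3_c34) Lrfl Lrfl
theorem f204442 : Led Lsl_ef (LP (LK LD1_c0 LD2_c41 LD3_c0)) = (LP (LK LD1_c1 LD2_c6 LD3_c34)) :=
  Lgr Lrot28 (Lpr_ct (f59037 IH) (Lpr_et (f204436 IH) (Lpr_ct (f59035 IH) (Lpn (LP (LK LD1_c1 LD2_c6 LD3_c34))))))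
theorem f204450 : Led Lsl_et (LP (LK LD1_c0 LD2_c41 LD3_c0)) = (LP (LK LD1_c1 LD2_c6 LD3_c34)) :=
  Lgr Lrot87 (Lpr_ef (f204442 IH) (Lpn (LP (LK LD1_c1 LD2_c6 LD3_c34))))
theorem f175529 : Led Lsl_ft (LP (LK LD1_c0 LD2_c30 LD3_c5)) = (LP (LK LD1_c1 LD2_c5 LD3_c52)) :=
  Lre_f IH (LK LD1_c0 LD2_c30 LD3_c5) (LK LD1_c1 LD2_c5 LD3_c52) Lrfl Lrfl
theorem f58995 : Led Lsl_df (LP (LK LD1_c0 LD2_c30 LD3_c29)) = (LP (LK LD1_c0 LD2_c18 LD3_c24)) :=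
  Lgr Lrot78 (Lpr_ft (f58993 IH) (Lpr_dt (K9.f58979 IH) (Lpr_ft (f58994 IH) (Lpn (LP (LK LD1_c0 LD2_c18 LD3_c24))))))
theorem f59040 : Led Lsl_dt (LP (LK LD1_c0 LD2_c30 LD3_c29)) = (LP (LK LD1_c0 LD2_c18 LD3_c24)) :=
  Lgr Lrot42 (Lpr_df (f58995 IH) (Lpn (LP (LK LD1_c0 LD2_c18 LD3_c24))))
theorem f59051 : Led Lsl_ct (LP (LK LD1_c0 LD2_c18 LD3_c24)) = (LP (LK LD1_c0 LD2_c41 LD3_c0)) :=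
  Lre_c IH (LK LD1_c0 LD2_c18 LD3_c24) (LK LD1_c0 LD2_c41 LD3_c0) Lrfl Lrfl
theorem f204363 : Led Lsl_at (LP (LK LD1_c1 LD2_c5 LD3_c52)) = (LP (LK LD1_c0 LD2_c41 LD3_c0)) :=
  Lgr Lrot33 (Lpe (f175529 IH) (Lpr_dt (f25981 IH) (Lpr_ct (f25982 IH) (Lpr_dt (f25983 IH) (Lpr_ct (f204349 IH) (Lpr_dt (f59044 IH) (Lpr_ct (f59045 IH) (Lpr_dt (f59040 IH) (Lpr_ct (f59051 IH) (Lpn (LP (LK LD1_c0 LD2_c41 LD3_c0))))))))))))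
theorem f25975 : Led Lsl_dt (LP (LK LD1_c0 LD2_c42 LD3_c11)) = (LP (LK LD1_c1 LD2_c31 LD3_c24)) :=
  Lre_d IH (LK LD1_c0 LD2_c42 LD3_c11) (LK LD1_c1 LD2_c31 LD3_c24) Lrfl Lrfl
theorem f204343 : Led Lsl_af (LP (LK LD1_c0 LD2_c42 LD3_c11)) = (LP (LK LD1_c1 LD2_c6 LD3_c34)) :=
  Lgr Lrot117 (Lpr_dt (f25975 IH) (Lpr_at (f204335 IH) (Lpr_dt (f59044 IH) (Lpn (LP (LK LD1_c1 LD2_c6 LD3_c34))))))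
theorem f204453 : Led Lsl_ef (LP (LK LD1_c1 LD2_c5 LD3_c52)) = (LP (LK LD1_c0 LD2_c42 LD3_c11)) :=
  Lgr Lrot20 (Lpr_at (f204363 IH) (Lpr_et (f204450 IH) (Lpe (f204343 IH) (Lpn (LP (LK LD1_c0 LD2_c42 LD3_c11))))))
theorem f204475 : Led Lsl_et (LP (LK LD1_c1 LD2_c5 LD3_c52)) = (LP (LK LD1_c0 LD2_c42 LD3_c11)) :=
  Lgr Lrot87 (Lpr_ef (f204453 IH) (Lpn (LP (LK LD1_c0 LD2_c42 LD3_c11))))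
theorem f25971 : Led Lsl_dt (LP (LK LD1_c2 LD2_c17 LD3_c54)) = (LP (LK LD1_c1 LD2_c5 LD3_c52)) :=
  Lre_d IH (LK LD1_c2 LD2_c17 LD3_c54) (LK LD1_c1 LD2_c5 LD3_c52) Lrfl Lrfl
theorem f26826 : Led Lsl_et (LP (LK LD1_c4 LD2_c41 LD3_c38)) = (LP (LK LD1_c2 LD2_c17 LD3_c54)) :=
  Lre_e IH (LK LD1_c4 LD2_c41 LD3_c38) (LK LD1_c2 LD2_c17 LD3_c54) Lrfl Lrfl
theorem f204478 : Led Lsl_df (LP (LK LD1_c4 LD2_c41 LD3_c38)) = (LP (LK LD1_c3 LD2_c10 LD3_c23)) :=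
  Lgr Lrot70 (Lpr_et (f26826 IH) (Lpr_dt (f25971 IH) (Lpr_et (f204475 IH) (Lpr_dt (f25975 IH) (Lpr_et (f68926 IH) (Lpn (LP (LK LD1_c3 LD2_c10 LD3_c23))))))))
theorem f26807 : Led Lsl_ft (LP (LK LD1_c4 LD2_c38 LD3_c42)) = (LP (LK LD1_c2 LD2_c16 LD3_c22)) :=
  Lre_f IH (LK LD1_c4 LD2_c38 LD3_c42) (LK LD1_c2 LD2_c16 LD3_c22) Lrfl Lrfl
theorem f26808 : Led Lsl_et (LP (LK LD1_c9 LD2_c13 LD3_c13)) = (LP (LK LD1_c4 LD2_c38 LD3_c42)) :=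
  Lre_e IH (LK LD1_c9 LD2_c13 LD3_c13) (LK LD1_c4 LD2_c38 LD3_c42) Lrfl Lrfl
theorem f25936 : Led Lsl_ft (LP (LK LD1_c1 LD2_c5 LD3_c51)) = (LP (LK LD1_c2 LD2_c17 LD3_c54)) :=
  Lre_f IH (LK LD1_c1 LD2_c5 LD3_c51) (LK LD1_c2 LD2_c17 LD3_c54) Lrfl Lrfl
theorem f26809 : Led Lsl_et (LP (LK LD1_c2 LD2_c17 LD3_c54)) = (LP (LK LD1_c4 LD2_c41 LD3_c38)) :=
  Lre_e IH (LK LD1_c2 LD2_c17 LD3_c54) (LK LD1_c4 LD2_c41 LD3_c38) Lrfl Lrfl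
theorem f26810 : Led Lsl_ff (LP (LK LD1_c9 LD2_c13 LD3_c13)) = (LP (LK LD1_c4 LD2_c41 LD3_c38)) :=
  Lgr Lrot72 (Lpr_et (f26808 IH) (Lpr_ft (f26807 IH) (Lpr_et (K8.f26775 IH) (Lpr_ft (f25936 IH) (Lpr_et (f26809 IH) (Lpn (LP (LK LD1_c4 LD2_c41 LD3_c38))))))))
theorem f68932 : Led Lsl_ft (LP (LK LD1_c6 LD2_c2 LD3_c49)) = (LP (LK LD1_c3 LD2_c10 LD3_c23)) :=
  Lgr Lrot48 (Lpr_ff (f68927 IH) (Lpn (LP (LK LD1_c3 LD2_c10 LD3_c23))))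
theorem f204483 : Led Lsl_dt (LP (LK LD1_c9 LD2_c13 LD3_c13)) = (LP (LK LD1_c6 LD2_c2 LD3_c49)) :=
  Lgr Lrot60 (Lpr_ff (f26810 IH) (Lpr_df (f204478 IH) (Lpe (f68932 IH) (Lpn (LP (LK LD1_c6 LD2_c2 LD3_c49))))))
theorem f26824 : Led Lsl_et (LP (LK LD1_c4 LD2_c38 LD3_c42)) = (LP (LK LD1_c9 LD2_c13 LD3_c13)) :=
  Lre_e IH (LK LD1_c4 LD2_c38 LD3_c42) (LK LD1_c9 LD2_c13 LD3_c13) Lrfl Lrfl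
theorem f150501 : Led Lsl_dt (LP (LK LD1_c2 LD2_c16 LD3_c23)) = (LP (LK LD1_c4 LD2_c38 LD3_c42)) :=
  Lre_d IH (LK LD1_c2 LD2_c16 LD3_c23) (LK LD1_c4 LD2_c38 LD3_c42) Lrfl Lrfl
theorem f204259 : Led Lsl_dt (LP (LK LD1_c2 LD2_c57 LD3_c29)) = (LP (LK LD1_c1 LD2_c24 LD3_c28)) :=
  Lre_d IH (LK LD1_c2 LD2_c57 LD3_c29) (LK LD1_c1 LD2_c24 LD3_c28) Lrfl Lrfl
theorem f204489 : Led Lsl_ef (LP (LK LD1_c2 LD2_c16 LD3_c23)) = (LP (LK LD1_c1 LD2_c24 LD3_c28)) :=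
  Lgr Lrot73 (Lpr_dt (f150501 IH) (Lpr_et (f26824 IH) (Lpr_dt (f204483 IH) (Lpr_et (f68925 IH) (Lpr_dt (f204259 IH) (Lpn (LP (LK LD1_c1 LD2_c24 LD3_c28))))))))
theorem f68988 : Led Lsl_et (LP (LK LD1_c0 LD2_c38 LD3_c54)) = (LP (LK LD1_c0 LD2_c17 LD3_c16)) :=
  Lre_e IH (LK LD1_c0 LD2_c38 LD3_c54) (LK LD1_c0 LD2_c17 LD3_c16) Lrfl Lrfl
theorem f61678 : Led Lsl_et (LP (LK LD1_c0 LD2_c8 LD3_c31)) = (LP (LK LD1_c0 LD2_c18 LD3_c59)) :=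
  Lre_e IH (LK LD1_c0 LD2_c8 LD3_c31) (LK LD1_c0 LD2_c18 LD3_c59) Lrfl Lrfl
theorem f68989 : Led Lsl_cf (LP (LK LD1_c0 LD2_c38 LD3_c54)) = (LP (LK LD1_c0 LD2_c18 LD3_c59)) :=
  Lgr Lrot39 (Lpr_et (f68988 IH) (Lpr_ct (K4.f68570 IH) (Lpr_et (f61678 IH) (Lpn (LP (LK LD1_c0 LD2_c18 LD3_c59))))))
theorem f69062 : Led Lsl_ft (LP (LK LD1_c0 LD2_c38 LD3_c54)) = (LP (LK LD1_c1 LD2_c24 LD3_c21)) :=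
  Lre_f IH (LK LD1_c0 LD2_c38 LD3_c54) (LK LD1_c1 LD2_c24 LD3_c21) Lrfl Lrfl
theorem f69064 : Led Lsl_ct (LP (LK LD1_c1 LD2_c24 LD3_c21)) = (LP (LK LD1_c0 LD2_c42 LD3_c38)) :=
  Lgr Lrot40 (Lpe (f69062 IH) (Lpr_cf (f68989 IH) (Lpe (K7.f69063 IH) (Lpn (LP (LK LD1_c0 LD2_c42 LD3_c38))))))
theorem f150471 : Led Lsl_ft (LP (LK LD1_c4 LD2_c38 LD3_c33)) = (LP (LK LD1_c9 LD2_c12 LD3_c61)) :=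
  Lre_f IH (LK LD1_c4 LD2_c38 LD3_c33) (LK LD1_c9 LD2_c12 LD3_c61) Lrfl Lrfl
theorem f150472 : Led Lsl_ft (LP (LK LD1_c4 LD2_c43 LD3_c17)) = (LP (LK LD1_c2 LD2_c19 LD3_c19)) :=
  Lre_f IH (LK LD1_c4 LD2_c43 LD3_c17) (LK LD1_c2 LD2_c19 LD3_c19) Lrfl Lrfl
theorem f150473 : Led Lsl_bt (LP (LK LD1_c9 LD2_c12 LD3_c61)) = (LP (LK LD1_c4 LD2_c43 LD3_c17)) :=
  Lgr Lrot35 (Lpe (f150471 IH) (Lpr_bf (f150457 IH) (Lpe (f150472 IH) (Lpn (LP (LK LD1_c4 LD2_c43 LD3_c17))))))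
theorem f150486 : Led Lsl_ct (LP (LK LD1_c4 LD2_c38 LD3_c37)) = (LP (LK LD1_c9 LD2_c12 LD3_c61)) :=
  Lre_c IH (LK LD1_c4 LD2_c38 LD3_c37) (LK LD1_c9 LD2_c12 LD3_c61) Lrfl Lrfl
theorem f150487 : Led Lsl_bt (LP (LK LD1_c2 LD2_c16 LD3_c23)) = (LP (LK LD1_c4 LD2_c38 LD3_c37)) :=
  Lre_b IH (LK LD1_c2 LD2_c16 LD3_c23) (LK LD1_c4 LD2_c38 LD3_c37) Lrfl Lrfl
theorem f150488 : Led Lsl_ct (LP (LK LD1_c4 LD2_c43 LD3_c17)) = (LP (LK LD1_c2 LD2_c19 LD3_c22)) :=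
  Lre_c IH (LK LD1_c4 LD2_c43 LD3_c17) (LK LD1_c2 LD2_c19 LD3_c22) Lrfl Lrfl
theorem f150489 : Led Lsl_bt (LP (LK LD1_c2 LD2_c19 LD3_c22)) = (LP (LK LD1_c1 LD2_c6 LD3_c54)) :=
  Lre_b IH (LK LD1_c2 LD2_c19 LD3_c22) (LK LD1_c1 LD2_c6 LD3_c54) Lrfl Lrfl
theorem f150490 : Led Lsl_cf (LP (LK LD1_c2 LD2_c16 LD3_c23)) = (LP (LK LD1_c1 LD2_c6 LD3_c54)) :=
  Lgr Lrot97 (Lpr_bt (f150487 IH) (Lpr_ct (f150486 IH) (Lpr_bt (f150473 IH) (Lpr_ct (f150488 IH) (Lpr_bt (f150489 IH) (Lpn (LP (LK LD1_c1 LD2_c6 LD3_c54))))))))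
theorem f153677 : Led Lsl_af (LP (LK LD1_c1 LD2_c24 LD3_c21)) = (LP (LK LD1_c2 LD2_c16 LD3_c23)) :=
  Lgr Lrot68 (Lpr_ct (f69064 IH) (Lpr_at (K7.f153651 IH) (Lpe (f150490 IH) (Lpn (LP (LK LD1_c2 LD2_c16 LD3_c23))))))
theorem f204491 : Led Lsl_et (LP (LK LD1_c1 LD2_c24 LD3_c21)) = (LP (LK LD1_c2 LD2_c16 LD3_c30)) :=
  Lgr Lrot123 (Lpr_af (f153677 IH) (Lpr_ef (f204489 IH) (Lpr_af (f204224 IH) (Lpn (LP (LK LD1_c2 LD2_c16 LD3_c30))))))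
theorem f204639 : Led Lsl_ef (LP (LK LD1_c1 LD2_c24 LD3_c21)) = (LP (LK LD1_c2 LD2_c16 LD3_c30)) :=
  Lgr Lrot88 (Lpr_et (f204491 IH) (Lpn (LP (LK LD1_c2 LD2_c16 LD3_c30))))
theorem f69096 : Led Lsl_dt (LP (LK LD1_c1 LD2_c24 LD3_c21)) = (LP (LK LD1_c2 LD2_c57 LD3_c11)) :=
  Lre_d IH (LK LD1_c1 LD2_c24 LD3_c21) (LK LD1_c2 LD2_c57 LD3_c11) Lrfl Lrfl
theorem f204645 : Led Lsl_et (LP (LK LD1_c2 LD2_c57 LD3_c11)) = (LP (LK LD1_c6 LD2_c2 LD3_c10)) :=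
  Lre_e IH (LK LD1_c2 LD2_c57 LD3_c11) (LK LD1_c6 LD2_c2 LD3_c10) Lrfl Lrfl
theorem f104853 : Led Lsl_et (LP (LK LD1_c9 LD2_c13 LD3_c44)) = (LP (LK LD1_c4 LD2_c38 LD3_c60)) :=
  Lre_e IH (LK LD1_c9 LD2_c13 LD3_c44) (LK LD1_c4 LD2_c38 LD3_c60) Lrfl Lrfl
theorem f204646 : Led Lsl_dt (LP (LK LD1_c6 LD2_c2 LD3_c10)) = (LP (LK LD1_c9 LD2_c13 LD3_c44)) :=
  Lgr Lrot77 (Lpe (f204645 IH) (Lpe (f69096 IH) (Lpr_ef (f204639 IH) (Lpe (f61100 IH) (Lpe (f104853 IH) (Lpn (LP (LK LD1_c9 LD2_c13 LD3_c44))))))))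
theorem f59038 : Led Lsl_dt (LP (LK LD1_c1 LD2_c28 LD3_c47)) = (LP (LK LD1_c0 LD2_c41 LD3_c0)) :=
  Lre_d IH (LK LD1_c1 LD2_c28 LD3_c47) (LK LD1_c0 LD2_c41 LD3_c0) Lrfl Lrfl
theorem f204458 : Led Lsl_et (LP (LK LD1_c3 LD2_c5 LD3_c35)) = (LP (LK LD1_c1 LD2_c28 LD3_c47)) :=
  Lre_e IH (LK LD1_c3 LD2_c5 LD3_c35) (LK LD1_c1 LD2_c28 LD3_c47) Lrfl Lrfl
theorem f59036 : Led Lsl_dt (LP (LK LD1_c1 LD2_c6 LD3_c34)) = (LP (LK LD1_c2 LD2_c19 LD3_c3)) :=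
  Lre_d IH (LK LD1_c1 LD2_c6 LD3_c34) (LK LD1_c2 LD2_c19 LD3_c3) Lrfl Lrfl
theorem f204459 : Led Lsl_df (LP (LK LD1_c3 LD2_c5 LD3_c35)) = (LP (LK LD1_c4 LD2_c42 LD3_c61)) :=
  Lgr Lrot70 (Lpr_et (f204458 IH) (Lpr_dt (f59038 IH) (Lpr_et (f204450 IH) (Lpr_dt (f59036 IH) (Lpr_et (f104852 IH) (Lpn (LP (LK LD1_c4 LD2_c42 LD3_c61))))))))
theorem f204653 : Led Lsl_ff (LP (LK LD1_c6 LD2_c2 LD3_c10)) = (LP (LK LD1_c3 LD2_c5 LD3_c35)) :=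
  Lgr Lrot19 (Lpr_dt (f204646 IH) (Lpe (f104844 IH) (Lpe (f204459 IH) (Lpn (LP (LK LD1_c3 LD2_c5 LD3_c35))))))
theorem f204663 : Led Lsl_ft (LP (LK LD1_c6 LD2_c2 LD3_c10)) = (LP (LK LD1_c3 LD2_c5 LD3_c35)) :=
  Lgr Lrot48 (Lpr_ff (f204653 IH) (Lpn (LP (LK LD1_c3 LD2_c5 LD3_c35))))
theorem f204327 : Led Lsl_af (LP (LK LD1_c6 LD2_c2 LD3_c49)) = (LP (LK LD1_c9 LD2_c13 LD3_c44)) :=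
  Lgr Lrot0 (Lpr_at (f204325 IH) (Lpn (LP (LK LD1_c9 LD2_c13 LD3_c44))))
theorem f204487 : Led Lsl_df (LP (LK LD1_c9 LD2_c13 LD3_c13)) = (LP (LK LD1_c6 LD2_c2 LD3_c49)) :=
  Lgr Lrot38 (Lpr_dt (f204483 IH) (Lpn (LP (LK LD1_c6 LD2_c2 LD3_c49))))
theorem f204650 : Led Lsl_af (LP (LK LD1_c6 LD2_c2 LD3_c10)) = (LP (LK LD1_c9 LD2_c13 LD3_c13)) :=
  Lgr Lrot117 (Lpr_dt (f204646 IH) (Lpe (f204327 IH) (Lpe (f204487 IH) (Lpn (LP (LK LD1_c9 LD2_c13 LD3_c13))))))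
theorem f204667 : Led Lsl_af (LP (LK LD1_c4 LD2_c41 LD3_c38)) = (LP (LK LD1_c3 LD2_c5 LD3_c35)) :=
  Lgr Lrot45 (Lpe (f26810 IH) (Lpe (f204650 IH) (Lpr_ft (f204663 IH) (Lpn (LP (LK LD1_c3 LD2_c5 LD3_c35))))))
theorem f204447 : Led Lsl_et (LP (LK LD1_c1 LD2_c28 LD3_c47)) = (LP (LK LD1_c3 LD2_c5 LD3_c35)) :=
  Lre_e IH (LK LD1_c1 LD2_c28 LD3_c47) (LK LD1_c3 LD2_c5 LD3_c35) Lrfl Lrfl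
theorem f204774 : Led Lsl_at (LP (LK LD1_c2 LD2_c17 LD3_c54)) = (LP (LK LD1_c1 LD2_c28 LD3_c47)) :=
  Lgr Lrot80 (Lpe (f26826 IH) (Lpr_af (f204667 IH) (Lpe (f204447 IH) (Lpn (LP (LK LD1_c1 LD2_c28 LD3_c47))))))
theorem f25923 : Led Lsl_ct (LP (LK LD1_c0 LD2_c8 LD3_c29)) = (LP (LK LD1_c0 LD2_c18 LD3_c50)) :=
  Lre_c IH (LK LD1_c0 LD2_c8 LD3_c29) (LK LD1_c0 LD2_c18 LD3_c50) Lrfl Lrfl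
theorem f25924 : Led Lsl_dt (LP (LK LD1_c0 LD2_c18 LD3_c50)) = (LP (LK LD1_c0 LD2_c42 LD3_c10)) :=
  Lre_d IH (LK LD1_c0 LD2_c18 LD3_c50) (LK LD1_c0 LD2_c42 LD3_c10) Lrfl Lrfl
theorem f25925 : Led Lsl_ct (LP (LK LD1_c0 LD2_c42 LD3_c10)) = (LP (LK LD1_c1 LD2_c31 LD3_c23)) :=
  Lre_c IH (LK LD1_c0 LD2_c42 LD3_c10) (LK LD1_c1 LD2_c31 LD3_c23) Lrfl Lrfl
theorem f59039 : Led Lsl_ct (LP (LK LD1_c3 LD2_c5 LD3_c34)) = (LP (LK LD1_c1 LD2_c28 LD3_c47)) :=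
  Lre_c IH (LK LD1_c3 LD2_c5 LD3_c34) (LK LD1_c1 LD2_c28 LD3_c47) Lrfl Lrfl
theorem f204788 : Led Lsl_dt (LP (LK LD1_c1 LD2_c31 LD3_c23)) = (LP (LK LD1_c3 LD2_c5 LD3_c34)) :=
  Lgr Lrot120 (Lpe (f25925 IH) (Lpe (f25924 IH) (Lpe (f25923 IH) (Lpr_df (K1.f25919 IH) (Lpe (K10.f25926 IH) (Lpe (K8.f25927 IH) (Lpr_ft (f25936 IH) (Lpr_at (f204774 IH) (Lpe (f59039 IH) (Lpn (LP (LK LD1_c3 LD2_c5 LD3_c34))))))))))))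
theorem f169782 : Led Lsl_ft (LP (LK LD1_c0 LD2_c18 LD3_c50)) = (LP (LK LD1_c0 LD2_c42 LD3_c11)) :=
  Lre_f IH (LK LD1_c0 LD2_c18 LD3_c50) (LK LD1_c0 LD2_c42 LD3_c11) Lrfl Lrfl
theorem f204799 : Led Lsl_at (LP (LK LD1_c0 LD2_c42 LD3_c11)) = (LP (LK LD1_c1 LD2_c6 LD3_c34)) :=
  Lgr Lrot33 (Lpe (f169782 IH) (Lpr_dt (f25924 IH) (Lpr_ct (f25925 IH) (Lpr_dt (f204788 IH) (Lpr_ct (f59039 IH) (Lpr_dt (f59038 IH) (Lpr_ct (f59037 IH) (Lpe (f58995 IH) (Lpr_ct (f59035 IH) (Lpn (LP (LK LD1_c1 LD2_c6 LD3_c34))))))))))))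
theorem f204461 : Led Lsl_ft (LP (LK LD1_c1 LD2_c6 LD3_c34)) = (LP (LK LD1_c0 LD2_c30 LD3_c26)) :=
  Lre_f IH (LK LD1_c1 LD2_c6 LD3_c34) (LK LD1_c0 LD2_c30 LD3_c26) Lrfl Lrfl
theorem f204801 : Led Lsl_af (LP (LK LD1_c0 LD2_c18 LD3_c50)) = (LP (LK LD1_c0 LD2_c30 LD3_c26)) :=
  Lgr Lrot45 (Lpr_ft (f169782 IH) (Lpr_at (f204799 IH) (Lpr_ft (f204461 IH) (Lpn (LP (LK LD1_c0 LD2_c30 LD3_c26))))))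
theorem f68596 : Led Lsl_gf (LP (LK LD1_c0 LD2_c36 LD3_c61)) = (LP (LK LD1_c1 LD2_c19 LD3_c39)) :=
  Lgr Lrot144 (Lpr_dt (K10.f68578 IH) (Lpr_gt (K10.f68579 IH) (Lpr_dt (K10.f60122 IH) (Lpe (K1.f60119 IH) (Lpr_df (K9.f60143 IH) (Lpe (K9.f60151 IH) (Lpe (K9.f9458 IH) (Lpe (K9.f60155 IH) (Lpe (K10.f60157 IH) (Lpn (LP (LK LD1_c1 LD2_c19 LD3_c39))))))))))))
theorem f20774 : Led Lsl_ct (LP (LK LD1_c1 LD2_c4 LD3_c3)) = (LP (LK LD1_c2 LD2_c14 LD3_c2)) :=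
  Lre_c IH (LK LD1_c1 LD2_c4 LD3_c3) (LK LD1_c2 LD2_c14 LD3_c2) Lrfl Lrfl
theorem f60175 : Led Lsl_ef (LP (LK LD1_c1 LD2_c19 LD3_c39)) = (LP (LK LD1_c2 LD2_c14 LD3_c2)) :=
  Lgr Lrot28 (Lpr_ct (K10.f60157 IH) (Lpr_et (K9.f60170 IH) (Lpr_ct (f20774 IH) (Lpn (LP (LK LD1_c2 LD2_c14 LD3_c2))))))
theorem f68625 : Led Lsl_gt (LP (LK LD1_c0 LD2_c42 LD3_c10)) = (LP (LK LD1_c1 LD2_c31 LD3_c21)) :=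
  Lre_g IH (LK LD1_c0 LD2_c42 LD3_c10) (LK LD1_c1 LD2_c31 LD3_c21) Lrfl Lrfl
theorem f68626 : Led Lsl_dt (LP (LK LD1_c2 LD2_c14 LD3_c2)) = (LP (LK LD1_c1 LD2_c31 LD3_c21)) :=
  Lgr Lrot37 (Lpe (f60175 IH) (Lpe (f68596 IH) (Lpr_dt (K10.f68578 IH) (Lpr_gt (K10.f68579 IH) (Lpe (K10.f59820 IH) (Lpr_et (K10.f59819 IH) (Lpr_gt (K1.f56567 IH) (Lpe (f68572 IH) (Lpr_dt (f25924 IH) (Lpr_gt (f68625 IH) (Lpn (LP (LK LD1_c1 LD2_c31 LD3_c21)))))))))))))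
theorem f68628 : Led Lsl_df (LP (LK LD1_c2 LD2_c14 LD3_c2)) = (LP (LK LD1_c1 LD2_c31 LD3_c21)) :=
  Lgr Lrot38 (Lpr_dt (f68626 IH) (Lpn (LP (LK LD1_c1 LD2_c31 LD3_c21))))
theorem f60174 : Led Lsl_gt (LP (LK LD1_c0 LD2_c16 LD3_c55)) = (LP (LK LD1_c0 LD2_c7 LD3_c32)) :=
  Lre_g IH (LK LD1_c0 LD2_c16 LD3_c55) (LK LD1_c0 LD2_c7 LD3_c32) Lrfl Lrfl
theorem f68647 : Led Lsl_ct (LP (LK LD1_c0 LD2_c16 LD3_c55)) = (LP (LK LD1_c0 LD2_c37 LD3_c53)) :=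
  Lre_c IH (LK LD1_c0 LD2_c16 LD3_c55) (LK LD1_c0 LD2_c37 LD3_c53) Lrfl Lrfl
theorem f68648 : Led Lsl_gt (LP (LK LD1_c0 LD2_c37 LD3_c53)) = (LP (LK LD1_c0 LD2_c18 LD3_c50)) :=
  Lgr Lrot94 (Lpe (f68647 IH) (Lpr_gt (f60174 IH) (Lpr_dt (K6.f21202 IH) (Lpr_gt (K9.f20769 IH) (Lpr_dt (K9.f20770 IH) (Lpe (K10.f20776 IH) (Lpr_df (f68628 IH) (Lpe (f68625 IH) (Lpe (f25924 IH) (Lpn (LP (LK LD1_c0 LD2_c18 LD3_c50))))))))))))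
theorem f204831 : Led Lsl_gf (LP (LK LD1_c0 LD2_c37 LD3_c53)) = (LP (LK LD1_c1 LD2_c6 LD3_c34)) :=
  Lgr Lrot47 (Lpr_gt (f68648 IH) (Lpr_af (f204801 IH) (Lpe (f204461 IH) (Lpn (LP (LK LD1_c1 LD2_c6 LD3_c34))))))
theorem f68654 : Led Lsl_dt (LP (LK LD1_c0 LD2_c37 LD3_c53)) = (LP (LK LD1_c1 LD2_c21 LD3_c52)) :=
  Lre_d IH (LK LD1_c0 LD2_c37 LD3_c53) (LK LD1_c1 LD2_c21 LD3_c52) Lrfl Lrfl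
theorem f59052 : Led Lsl_dt (LP (LK LD1_c0 LD2_c41 LD3_c0)) = (LP (LK LD1_c1 LD2_c28 LD3_c47)) :=
  Lre_d IH (LK LD1_c0 LD2_c41 LD3_c0) (LK LD1_c1 LD2_c28 LD3_c47) Lrfl Lrfl
theorem f26795 : Led Lsl_gt (LP (LK LD1_c1 LD2_c5 LD3_c51)) = (LP (LK LD1_c2 LD2_c17 LD3_c51)) :=
  Lre_g IH (LK LD1_c1 LD2_c5 LD3_c51) (LK LD1_c2 LD2_c17 LD3_c51) Lrfl Lrfl
theorem f204786 : Led Lsl_gt (LP (LK LD1_c2 LD2_c17 LD3_c51)) = (LP (LK LD1_c1 LD2_c28 LD3_c47)) :=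
  Lgr Lrot46 (Lpe (f26795 IH) (Lpr_ft (f25936 IH) (Lpr_at (f204774 IH) (Lpn (LP (LK LD1_c1 LD2_c28 LD3_c47))))))
theorem f26678 : Led Lsl_ct (LP (LK LD1_c0 LD2_c29 LD3_c16)) = (LP (LK LD1_c1 LD2_c4 LD3_c4)) :=
  Lre_c IH (LK LD1_c0 LD2_c29 LD3_c16) (LK LD1_c1 LD2_c4 LD3_c4) Lrfl Lrfl
theorem f26780 : Led Lsl_et (LP (LK LD1_c0 LD2_c7 LD3_c41)) = (LP (LK LD1_c0 LD2_c17 LD3_c19)) :=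
  Lre_e IH (LK LD1_c0 LD2_c7 LD3_c41) (LK LD1_c0 LD2_c17 LD3_c19) Lrfl Lrfl
theorem f26784 : Led Lsl_gt (LP (LK LD1_c1 LD2_c24 LD3_c38)) = (LP (LK LD1_c2 LD2_c57 LD3_c52)) :=
  Lre_g IH (LK LD1_c1 LD2_c24 LD3_c38) (LK LD1_c2 LD2_c57 LD3_c52) Lrfl Lrfl
theorem f26785 : Led Lsl_et (LP (LK LD1_c2 LD2_c14 LD3_c5)) = (LP (LK LD1_c1 LD2_c4 LD3_c4)) :=
  Lre_e IH (LK LD1_c2 LD2_c14 LD3_c5) (LK LD1_c1 LD2_c4 LD3_c4) Lrfl Lrfl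
theorem f26787 : Led Lsl_gt (LP (LK LD1_c1 LD2_c4 LD3_c4)) = (LP (LK LD1_c0 LD2_c30 LD3_c5)) :=
  Lgr Lrot131 (Lpe (f26785 IH) (Lpr_dt (K10.f26668 IH) (Lpe (f26784 IH) (Lpe (K10.f26783 IH) (Lpe (K10.f26781 IH) (Lpe (f26780 IH) (Lpr_dt (K0.f26607 IH) (Lpe (K0.f21209 IH) (Lpr_df (K0.f26762 IH) (Lpr_et (K10.f26786 IH) (Lpn (LP (LK LD1_c0 LD2_c30 LD3_c5)))))))))))))
theorem f176911 : Led Lsl_ct (LP (LK LD1_c1 LD2_c19 LD3_c47)) = (LP (LK LD1_c0 LD2_c36 LD3_c56)) :=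
  Lre_c IH (LK LD1_c1 LD2_c19 LD3_c47) (LK LD1_c0 LD2_c36 LD3_c56) Lrfl Lrfl
theorem f176912 : Led Lsl_dt (LP (LK LD1_c2 LD2_c17 LD3_c51)) = (LP (LK LD1_c1 LD2_c19 LD3_c47)) :=
  Lgr Lrot105 (Lpe (f26795 IH) (Lpe (f25981 IH) (Lpe (f26787 IH) (Lpe (f26678 IH) (Lpr_gt (K9.f22427 IH) (Lpr_dt (K9.f176871 IH) (Lpr_gt (K9.f22118 IH) (Lpr_dt (K9.f176905 IH) (Lpe (f176911 IH) (Lpn (LP (LK LD1_c1 LD2_c19 LD3_c47))))))))))))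
theorem f176921 : Led Lsl_df (LP (LK LD1_c2 LD2_c17 LD3_c51)) = (LP (LK LD1_c1 LD2_c19 LD3_c47)) :=
  Lgr Lrot38 (Lpr_dt (f176912 IH) (Lpn (LP (LK LD1_c1 LD2_c19 LD3_c47))))
theorem f176944 : Led Lsl_ef (LP (LK LD1_c1 LD2_c12 LD3_c18)) = (LP (LK LD1_c1 LD2_c19 LD3_c47)) :=
  Lgr Lrot167 (Lpr_gt (K9.f176941 IH) (Lpr_dt (K9.f175318 IH) (Lpe (K9.f175312 IH) (Lpe (K0.f8395 IH) (Lpr_et (K1.f26782 IH) (Lpe (K1.f26017 IH) (Lpe (K8.f26766 IH) (Lpr_dt (f25981 IH) (Lpr_gt (f26795 IH) (Lpr_df (f176921 IH) (Lpn (LP (LK LD1_c1 LD2_c19 LD3_c47)))))))))))))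
theorem f204835 : Led Lsl_gt (LP (LK LD1_c1 LD2_c21 LD3_c52)) = (LP (LK LD1_c2 LD2_c51 LD3_c33)) :=
  Lgr Lrot139 (Lpe (f68654 IH) (Lpr_gf (f204831 IH) (Lpe (f204450 IH) (Lpr_dt (f59052 IH) (Lpe (f204786 IH) (Lpr_df (f176921 IH) (Lpe (f176944 IH) (Lpr_gf (f198645 IH) (Lpe (f198622 IH) (Lpe (f198623 IH) (Lpn (LP (LK LD1_c2 LD2_c51 LD3_c33)))))))))))))
theorem f25956 : Led Lsl_gt (LP (LK LD1_c0 LD2_c18 LD3_c52)) = (LP (LK LD1_c0 LD2_c8 LD3_c29)) :=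
  Lre_g IH (LK LD1_c0 LD2_c18 LD3_c52) (LK LD1_c0 LD2_c8 LD3_c29) Lrfl Lrfl
theorem f204383 : Led Lsl_gf (LP (LK LD1_c0 LD2_c18 LD3_c52)) = (LP (LK LD1_c0 LD2_c30 LD3_c29)) :=
  Lgr Lrot47 (Lpr_gt (f25956 IH) (Lpr_af (f204371 IH) (Lpe (f58993 IH) (Lpn (LP (LK LD1_c0 LD2_c30 LD3_c29))))))
theorem f169786 : Led Lsl_dt (LP (LK LD1_c0 LD2_c18 LD3_c52)) = (LP (LK LD1_c0 LD2_c42 LD3_c16)) :=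
  Lre_d IH (LK LD1_c0 LD2_c18 LD3_c52) (LK LD1_c0 LD2_c42 LD3_c16) Lrfl Lrfl
theorem f198625 : Led Lsl_dt (LP (LK LD1_c2 LD2_c51 LD3_c33)) = (LP (LK LD1_c2 LD2_c0 LD3_c5)) :=
  Lgr Lrot42 (Lpr_df (f198623 IH) (Lpn (LP (LK LD1_c2 LD2_c0 LD3_c5))))
theorem f59021 : Led Lsl_ct (LP (LK LD1_c0 LD2_c56 LD3_c61)) = (LP (LK LD1_c2 LD2_c0 LD3_c5)) :=
  Lre_c IH (LK LD1_c0 LD2_c56 LD3_c61) (LK LD1_c2 LD2_c0 LD3_c5) Lrfl Lrfl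
theorem f204839 : Led Lsl_gt (LP (LK LD1_c0 LD2_c42 LD3_c16)) = (LP (LK LD1_c0 LD2_c32 LD3_c41)) :=
  Lgr Lrot49 (Lpe (f169786 IH) (Lpr_gf (f204383 IH) (Lpe (f59045 IH) (Lpe (f204831 IH) (Lpr_dt (f68654 IH) (Lpr_gt (f204835 IH) (Lpr_dt (f198625 IH) (Lpe (f59021 IH) (Lpe (K10.f186453 IH) (Lpn (LP (LK LD1_c0 LD2_c32 LD3_c41))))))))))))
theorem f25942 : Led Lsl_gt (LP (LK LD1_c0 LD2_c8 LD3_c29)) = (LP (LK LD1_c0 LD2_c18 LD3_c51)) :=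
  Lre_g IH (LK LD1_c0 LD2_c8 LD3_c29) (LK LD1_c0 LD2_c18 LD3_c51) Lrfl Lrfl
theorem f204373 : Led Lsl_gt (LP (LK LD1_c0 LD2_c18 LD3_c51)) = (LP (LK LD1_c0 LD2_c30 LD3_c29)) :=
  Lgr Lrot46 (Lpe (f25942 IH) (Lpr_ft (K1.f25932 IH) (Lpr_at (f204365 IH) (Lpn (LP (LK LD1_c0 LD2_c30 LD3_c29))))))
theorem f25952 : Led Lsl_dt (LP (LK LD1_c0 LD2_c42 LD3_c13)) = (LP (LK LD1_c0 LD2_c18 LD3_c51)) :=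
  Lre_d IH (LK LD1_c0 LD2_c42 LD3_c13) (LK LD1_c0 LD2_c18 LD3_c51) Lrfl Lrfl
theorem f186458 : Led Lsl_df (LP (LK LD1_c0 LD2_c32 LD3_c41)) = (LP (LK LD1_c0 LD2_c56 LD3_c61)) :=
  Lgr Lrot38 (Lpr_dt (K10.f186453 IH) (Lpn (LP (LK LD1_c0 LD2_c56 LD3_c61))))
theorem f183218 : Led Lsl_et (LP (LK LD1_c0 LD2_c56 LD3_c61)) = (LP (LK LD1_c0 LD2_c25 LD3_c50)) :=
  Lre_e IH (LK LD1_c0 LD2_c56 LD3_c61) (LK LD1_c0 LD2_c25 LD3_c50) Lrfl Lrfl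
theorem f168999 : Led Lsl_gt (LP (LK LD1_c0 LD2_c25 LD3_c50)) = (LP (LK LD1_c0 LD2_c56 LD3_c58)) :=
  Lre_g IH (LK LD1_c0 LD2_c25 LD3_c50) (LK LD1_c0 LD2_c56 LD3_c58) Lrfl Lrfl
theorem f204849 : Led Lsl_et (LP (LK LD1_c0 LD2_c42 LD3_c13)) = (LP (LK LD1_c0 LD2_c56 LD3_c58)) :=
  Lgr Lrot122 (Lpr_dt (f25952 IH) (Lpr_gt (f204373 IH) (Lpr_df (f58995 IH) (Lpr_et (f204436 IH) (Lpe (f204383 IH) (Lpr_dt (f169786 IH) (Lpr_gt (f204839 IH) (Lpr_df (f186458 IH) (Lpr_et (f183218 IH) (Lpr_gt (f168999 IH) (Lpn (LP (LK LD1_c0 LD2_c56 LD3_c58)))))))))))))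
theorem f204854 : Led Lsl_gf (LP (LK LD1_c0 LD2_c25 LD3_c52)) = (LP (LK LD1_c0 LD2_c56 LD3_c58)) :=
  Lgr Lrot141 (Lpe (K10.f175296 IH) (Lpr_dt (K9.f26030 IH) (Lpe (K10.f26031 IH) (Lpe (K10.f25954 IH) (Lpr_et (K10.f25953 IH) (Lpr_gt (K10.f25940 IH) (Lpe (K1.f25919 IH) (Lpr_gt (f25942 IH) (Lpe (f25952 IH) (Lpr_et (f204849 IH) (Lpn (LP (LK LD1_c0 LD2_c56 LD3_c58)))))))))))))
theorem f177157 : Led Lsl_gt (LP (LK LD1_c0 LD2_c39 LD3_c26)) = (LP (LK LD1_c1 LD2_c25 LD3_c33)) :=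
  Lre_g IH (LK LD1_c0 LD2_c39 LD3_c26) (LK LD1_c1 LD2_c25 LD3_c33) Lrfl Lrfl
theorem f204856 : Led Lsl_ct (LP (LK LD1_c1 LD2_c25 LD3_c33)) = (LP (LK LD1_c0 LD2_c56 LD3_c58)) :=
  Lgr Lrot152 (Lpe (f177157 IH) (Lpe (K10.f177158 IH) (Lpe (f177391 IH) (Lpr_ct (K2.f55626 IH) (Lpe (K9.f182541 IH) (Lpr_ct (K9.f183039 IH) (Lpe (K9.f175318 IH) (Lpe (K9.f55908 IH) (Lpr_gf (f204854 IH) (Lpn (LP (LK LD1_c0 LD2_c56 LD3_c58))))))))))))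
theorem f184901 : Led Lsl_ct (LP (LK LD1_c0 LD2_c15 LD3_c20)) = (LP (LK LD1_c0 LD2_c34 LD3_c8)) :=
  Lre_c IH (LK LD1_c0 LD2_c15 LD3_c20) (LK LD1_c0 LD2_c34 LD3_c8) Lrfl Lrfl
theorem f178267 : Led Lsl_ef (LP (LK LD1_c0 LD2_c26 LD3_c39)) = (LP (LK LD1_c0 LD2_c36 LD3_c10)) :=
  Lgr Lrot88 (Lpr_et (K9.f178259 IH) (Lpn (LP (LK LD1_c0 LD2_c36 LD3_c10))))
theorem f178266 : Led Lsl_dt (LP (LK LD1_c0 LD2_c36 LD3_c10)) = (LP (LK LD1_c1 LD2_c18 LD3_c35)) :=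
  Lre_d IH (LK LD1_c0 LD2_c36 LD3_c10) (LK LD1_c1 LD2_c18 LD3_c35) Lrfl Lrfl
theorem f168976 : Led Lsl_et (LP (LK LD1_c0 LD2_c17 LD3_c38)) = (LP (LK LD1_c0 LD2_c39 LD3_c25)) :=
  Lre_e IH (LK LD1_c0 LD2_c17 LD3_c38) (LK LD1_c0 LD2_c39 LD3_c25) Lrfl Lrfl
theorem f178301 : Led Lsl_gt (LP (LK LD1_c1 LD2_c18 LD3_c35)) = (LP (LK LD1_c0 LD2_c39 LD3_c24)) :=
  Lgr Lrot112 (Lpe (f178266 IH) (Lpe (f178267 IH) (Lpr_gf (K9.f178278 IH) (Lpe (K9.f170083 IH) (Lpr_dt (K9.f170084 IH) (Lpr_gf (K9.f177920 IH) (Lpr_df (K9.f178285 IH) (Lpe (K9.f178297 IH) (Lpe (f168976 IH) (Lpr_dt (K9.f168881 IH) (Lpn (LP (LK LD1_c0 LD2_c39 LD3_c24)))))))))))))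
theorem f7948 : Led Lsl_ct (LP (LK LD1_c0 LD2_c16 LD3_c6)) = (LP (LK LD1_c0 LD2_c7 LD3_c16)) :=
  Lre_c IH (LK LD1_c0 LD2_c16 LD3_c6) (LK LD1_c0 LD2_c7 LD3_c16) Lrfl Lrfl
theorem f185052 : Led Lsl_gf (LP (LK LD1_c0 LD2_c15 LD3_c20)) = (LP (LK LD1_c0 LD2_c7 LD3_c16)) :=
  Lgr Lrot104 (Lpr_ct (f184901 IH) (Lpe (K10.f184897 IH) (Lpe (K10.f184905 IH) (Lpr_gf (K10.f184968 IH) (Lpe (K10.f169001 IH) (Lpe (f178301 IH) (Lpe (f178266 IH) (Lpr_gt (K9.f178243 IH) (Lpr_ct (f7948 IH) (Lpn (LP (LK LD1_c0 LD2_c7 LD3_c16))))))))))))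
theorem f182489 : Led Lsl_dt (LP (LK LD1_c1 LD2_c16 LD3_c33)) = (LP (LK LD1_c2 LD2_c39 LD3_c34)) :=
  Lre_d IH (LK LD1_c1 LD2_c16 LD3_c33) (LK LD1_c2 LD2_c39 LD3_c34) Lrfl Lrfl
theorem f22014 : Led Lsl_et (LP (LK LD1_c0 LD2_c33 LD3_c55)) = (LP (LK LD1_c0 LD2_c15 LD3_c12)) :=
  Lre_e IH (LK LD1_c0 LD2_c33 LD3_c55) (LK LD1_c0 LD2_c15 LD3_c12) Lrfl Lrfl
theorem f22015 : Led Lsl_dt (LP (LK LD1_c0 LD2_c33 LD3_c55)) = (LP (LK LD1_c1 LD2_c13 LD3_c8)) :=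
  Lre_d IH (LK LD1_c0 LD2_c33 LD3_c55) (LK LD1_c1 LD2_c13 LD3_c8) Lrfl Lrfl
theorem f169006 : Led Lsl_gf (LP (LK LD1_c1 LD2_c13 LD3_c8)) = (LP (LK LD1_c0 LD2_c39 LD3_c24)) :=
  Lgr Lrot134 (Lpe (f22015 IH) (Lpr_et (f22014 IH) (Lpr_gt (K10.f21331 IH) (Lpe (K0.f21280 IH) (Lpr_dt (K0.f21278 IH) (Lpr_gt (K0.f3089 IH) (Lpr_df (K9.f27278 IH) (Lpr_et (K9.f28237 IH) (Lpr_gt (K9.f168994 IH) (Lpr_dt (K9.f168881 IH) (Lpn (LP (LK LD1_c0 LD2_c39 LD3_c24)))))))))))))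
theorem f169066 : Led Lsl_ct (LP (LK LD1_c1 LD2_c13 LD3_c8)) = (LP (LK LD1_c2 LD2_c32 LD3_c17)) :=
  Lre_c IH (LK LD1_c1 LD2_c13 LD3_c8) (LK LD1_c2 LD2_c32 LD3_c17) Lrfl Lrfl
theorem f182494 : Led Lsl_gf (LP (LK LD1_c1 LD2_c16 LD3_c33)) = (LP (LK LD1_c2 LD2_c32 LD3_c17)) :=
  Lgr Lrot104 (Lpr_ct (K9.f182493 IH) (Lpe (K9.f8474 IH) (Lpr_cf (K9.f182477 IH) (Lpe (K9.f55622 IH) (Lpe (K2.f47920 IH) (Lpr_gf (K9.f168996 IH) (Lpe (K9.f168977 IH) (Lpe (f169006 IH) (Lpr_ct (f169066 IH) (Lpn (LP (LK LD1_c2 LD2_c32 LD3_c17))))))))))))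
theorem f183079 : Led Lsl_gf (LP (LK LD1_c0 LD2_c39 LD3_c31)) = (LP (LK LD1_c1 LD2_c13 LD3_c8)) :=
  Lgr Lrot144 (Lpr_dt (K10.f9087 IH) (Lpe (K9.f177377 IH) (Lpr_dt (K1.f28225 IH) (Lpe (K1.f55326 IH) (Lpe (K2.f55350 IH) (Lpr_gf (K9.f183074 IH) (Lpe (f182489 IH) (Lpr_gf (f182494 IH) (Lpe (f169066 IH) (Lpn (LP (LK LD1_c1 LD2_c13 LD3_c8))))))))))))
theorem f185058 : Led Lsl_gf (LP (LK LD1_c0 LD2_c33 LD3_c55)) = (LP (LK LD1_c0 LD2_c16 LD3_c6)) :=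
  Lgr Lrot144 (Lpr_dt (f22015 IH) (Lpe (f183079 IH) (Lpr_dt (K10.f9087 IH) (Lpe (K9.f9084 IH) (Lpe (K0.f20567 IH) (Lpr_gf (K9.f181129 IH) (Lpe (K10.f20496 IH) (Lpr_gf (f185052 IH) (Lpe (f7948 IH) (Lpn (LP (LK LD1_c0 LD2_c16 LD3_c6))))))))))))
theorem f31696 : Led Lsl_et (LP (LK LD1_c0 LD2_c32 LD3_c6)) = (LP (LK LD1_c0 LD2_c14 LD3_c20)) :=
  Lre_e IH (LK LD1_c0 LD2_c32 LD3_c6) (LK LD1_c0 LD2_c14 LD3_c20) Lrfl Lrfl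
theorem f185076 : Led Lsl_et (LP (LK LD1_c0 LD2_c15 LD3_c12)) = (LP (LK LD1_c0 LD2_c33 LD3_c55)) :=
  Lre_e IH (LK LD1_c0 LD2_c15 LD3_c12) (LK LD1_c0 LD2_c33 LD3_c55) Lrfl Lrfl
theorem f186717 : Led Lsl_cf (LP (LK LD1_c0 LD2_c32 LD3_c6)) = (LP (LK LD1_c0 LD2_c33 LD3_c55)) :=
  Lgr Lrot39 (Lpr_et (f31696 IH) (Lpr_ct (K10.f186710 IH) (Lpr_et (f185076 IH) (Lpn (LP (LK LD1_c0 LD2_c33 LD3_c55))))))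
theorem f204868 : Led Lsl_df (LP (LK LD1_c0 LD2_c32 LD3_c6)) = (LP (LK LD1_c0 LD2_c56 LD3_c58)) :=
  Lgr Lrot162 (Lpr_cf (f186717 IH) (Lpr_gf (f185058 IH) (Lpe (K9.f7945 IH) (Lpe (K0.f3073 IH) (Lpr_dt (K9.f21262 IH) (Lpr_gt (K9.f177154 IH) (Lpr_ct (K10.f177156 IH) (Lpr_gt (f177157 IH) (Lpr_ct (f204856 IH) (Lpn (LP (LK LD1_c0 LD2_c56 LD3_c58))))))))))))
theorem f25943 : Led Lsl_dt (LP (LK LD1_c0 LD2_c18 LD3_c51)) = (LP (LK LD1_c0 LD2_c42 LD3_c13)) :=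
  Lre_d IH (LK LD1_c0 LD2_c18 LD3_c51) (LK LD1_c0 LD2_c42 LD3_c13) Lrfl Lrfl
theorem f204872 : Led Lsl_et (LP (LK LD1_c0 LD2_c32 LD3_c5)) = (LP (LK LD1_c0 LD2_c18 LD3_c51)) :=
  Lgr Lrot71 (Lpe (K10.f31691 IH) (Lpe (f31696 IH) (Lpr_df (f204868 IH) (Lpe (f204849 IH) (Lpe (f25943 IH) (Lpn (LP (LK LD1_c0 LD2_c18 LD3_c51))))))))
theorem f175534 : Led Lsl_dt (LP (LK LD1_c0 LD2_c30 LD3_c7)) = (LP (LK LD1_c1 LD2_c5 LD3_c56)) :=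
  Lre_d IH (LK LD1_c0 LD2_c30 LD3_c7) (LK LD1_c1 LD2_c5 LD3_c56) Lrfl Lrfl
theorem f185948 : Led Lsl_et (LP (LK LD1_c1 LD2_c5 LD3_c56)) = (LP (LK LD1_c0 LD2_c39 LD3_c55)) :=
  Lgr Lrot71 (Lpe (f175534 IH) (Lpe (K10.f25953 IH) (Lpe (K10.f26033 IH) (Lpr_ef (K10.f185946 IH) (Lpe (K10.f27199 IH) (Lpn (LP (LK LD1_c0 LD2_c39 LD3_c55))))))))
theorem f205210 : Led Lsl_gf (LP (LK LD1_c0 LD2_c30 LD3_c7)) = (LP (LK LD1_c0 LD2_c18 LD3_c24)) :=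
  Lgr Lrot134 (Lpe (K10.f25941 IH) (Lpr_et (f185948 IH) (Lpe (K10.f37715 IH) (Lpr_ef (K1.f37717 IH) (Lpr_dt (K1.f31656 IH) (Lpr_gt (K10.f31687 IH) (Lpe (K9.f31695 IH) (Lpr_et (f204872 IH) (Lpr_gt (f204373 IH) (Lpr_dt (f59040 IH) (Lpn (LP (LK LD1_c0 LD2_c18 LD3_c24)))))))))))))
theorem f59043 : Led Lsl_ft (LP (LK LD1_c0 LD2_c18 LD3_c24)) = (LP (LK LD1_c0 LD2_c8 LD3_c16)) :=
  Lre_f IH (LK LD1_c0 LD2_c18 LD3_c24) (LK LD1_c0 LD2_c8 LD3_c16) Lrfl Lrfl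
theorem f58997 : Led Lsl_ft (LP (LK LD1_c0 LD2_c13 LD3_c32)) = (LP (LK LD1_c0 LD2_c30 LD3_c29)) :=
  Lre_f IH (LK LD1_c0 LD2_c13 LD3_c32) (LK LD1_c0 LD2_c30 LD3_c29) Lrfl Lrfl
theorem f204426 : Led Lsl_ef (LP (LK LD1_c0 LD2_c18 LD3_c24)) = (LP (LK LD1_c0 LD2_c30 LD3_c29)) :=
  Lgr Lrot21 (Lpr_ft (f59043 IH) (Lpr_et (K9.f58976 IH) (Lpr_ft (f204422 IH) (Lpr_et (K9.f26596 IH) (Lpr_ft (f58997 IH) (Lpn (LP (LK LD1_c0 LD2_c30 LD3_c29))))))))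
theorem f205216 : Led Lsl_gt (LP (LK LD1_c0 LD2_c30 LD3_c6)) = (LP (LK LD1_c0 LD2_c18 LD3_c24)) :=
  Lgr Lrot131 (Lpe (K10.f161785 IH) (Lpr_dt (K10.f175545 IH) (Lpe (K10.f37710 IH) (Lpe (K10.f37531 IH) (Lpr_gf (K10.f37715 IH) (Lpe (f185948 IH) (Lpr_dt (K10.f25941 IH) (Lpr_gf (f205210 IH) (Lpe (f59040 IH) (Lpe (f204426 IH) (Lpn (LP (LK LD1_c0 LD2_c18 LD3_c24)))))))))))))
theorem f25950 : Led Lsl_bt (LP (LK LD1_c1 LD2_c5 LD3_c55)) = (LP (LK LD1_c0 LD2_c30 LD3_c7)) :=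
  Lre_b IH (LK LD1_c1 LD2_c5 LD3_c55) (LK LD1_c0 LD2_c30 LD3_c7) Lrfl Lrfl
theorem f36598 : Led Lsl_ct (LP (LK LD1_c1 LD2_c5 LD3_c55)) = (LP (LK LD1_c2 LD2_c17 LD3_c55)) :=
  Lre_c IH (LK LD1_c1 LD2_c5 LD3_c55) (LK LD1_c2 LD2_c17 LD3_c55) Lrfl Lrfl
theorem f59032 : Led Lsl_bt (LP (LK LD1_c0 LD2_c40 LD3_c50)) = (LP (LK LD1_c0 LD2_c18 LD3_c24)) :=
  Lre_b IH (LK LD1_c0 LD2_c40 LD3_c50) (LK LD1_c0 LD2_c18 LD3_c24) Lrfl Lrfl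
theorem f59098 : Led Lsl_ct (LP (LK LD1_c0 LD2_c40 LD3_c50)) = (LP (LK LD1_c1 LD2_c28 LD3_c15)) :=
  Lre_c IH (LK LD1_c0 LD2_c40 LD3_c50) (LK LD1_c1 LD2_c28 LD3_c15) Lrfl Lrfl
theorem f205227 : Led Lsl_gf (LP (LK LD1_c2 LD2_c17 LD3_c55)) = (LP (LK LD1_c1 LD2_c28 LD3_c15)) :=
  Lgr Lrot126 (Lpe (f36598 IH) (Lpr_bt (f25950 IH) (Lpr_gt (K10.f25940 IH) (Lpr_ct (f25980 IH) (Lpr_gt (K10.f175527 IH) (Lpe (K10.f20789 IH) (Lpr_bt (K10.f198323 IH) (Lpr_gt (f205216 IH) (Lpe (f59032 IH) (Lpr_ct (f59098 IH) (Lpn (LP (LK LD1_c1 LD2_c28 LD3_c15)))))))))))))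
theorem f205229 : Led Lsl_ft (LP (LK LD1_c1 LD2_c28 LD3_c15)) = (LP (LK LD1_c0 LD2_c40 LD3_c47)) :=
  Lre_f IH (LK LD1_c1 LD2_c28 LD3_c15) (LK LD1_c0 LD2_c40 LD3_c47) Lrfl Lrfl
theorem f205230 : Led Lsl_at (LP (LK LD1_c0 LD2_c40 LD3_c47)) = (LP (LK LD1_c1 LD2_c27 LD3_c53)) :=
  Lre_a IH (LK LD1_c0 LD2_c40 LD3_c47) (LK LD1_c1 LD2_c27 LD3_c53) Lrfl Lrfl
theorem f205231 : Led Lsl_gt (LP (LK LD1_c2 LD2_c17 LD3_c55)) = (LP (LK LD1_c1 LD2_c27 LD3_c53)) :=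
  Lgr Lrot46 (Lpr_gf (f205227 IH) (Lpr_ft (f205229 IH) (Lpr_at (f205230 IH) (Lpn (LP (LK LD1_c1 LD2_c27 LD3_c53))))))
theorem f176624 : Led Lsl_et (LP (LK LD1_c0 LD2_c37 LD3_c32)) = (LP (LK LD1_c1 LD2_c21 LD3_c22)) :=
  Lre_e IH (LK LD1_c0 LD2_c37 LD3_c32) (LK LD1_c1 LD2_c21 LD3_c22) Lrfl Lrfl
theorem f176625 : Led Lsl_ct (LP (LK LD1_c0 LD2_c30 LD3_c7)) = (LP (LK LD1_c0 LD2_c37 LD3_c32)) :=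
  Lgr Lrot15 (Lpe (K10.f25953 IH) (Lpr_cf (K10.f176600 IH) (Lpe (f176624 IH) (Lpn (LP (LK LD1_c0 LD2_c37 LD3_c32))))))
theorem f61311 : Led Lsl_ct (LP (LK LD1_c0 LD2_c7 LD3_c27)) = (LP (LK LD1_c0 LD2_c16 LD3_c43)) :=
  Lre_c IH (LK LD1_c0 LD2_c7 LD3_c27) (LK LD1_c0 LD2_c16 LD3_c43) Lrfl Lrfl
theorem f59659 : Led Lsl_bf (LP (LK LD1_c0 LD2_c12 LD3_c57)) = (LP (LK LD1_c0 LD2_c12 LD3_c57)) :=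
  Lgr Lrot96 (Lpr_et (K6.f20217 IH) (Lpr_bt (K1.f59652 IH) (Lpr_et (K6.f20476 IH) (Lpn (LP (LK LD1_c0 LD2_c12 LD3_c57))))))
theorem f176873 : Led Lsl_bt (LP (LK LD1_c0 LD2_c7 LD3_c27)) = (LP (LK LD1_c0 LD2_c7 LD3_c27)) :=
  Lgr Lrot95 (Lpr_df (K9.f176834 IH) (Lpr_bf (f59659 IH) (Lpe (K6.f20442 IH) (Lpn (LP (LK LD1_c0 LD2_c7 LD3_c27))))))
theorem f146352 : Led Lsl_bt (LP (LK LD1_c0 LD2_c37 LD3_c35)) = (LP (LK LD1_c0 LD2_c16 LD3_c44)) :=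
  Lre_b IH (LK LD1_c0 LD2_c37 LD3_c35) (LK LD1_c0 LD2_c16 LD3_c44) Lrfl Lrfl
theorem f146355 : Led Lsl_ct (LP (LK LD1_c0 LD2_c37 LD3_c35)) = (LP (LK LD1_c1 LD2_c21 LD3_c27)) :=
  Lre_c IH (LK LD1_c0 LD2_c37 LD3_c35) (LK LD1_c1 LD2_c21 LD3_c27) Lrfl Lrfl
theorem f205214 : Led Lsl_gt (LP (LK LD1_c1 LD2_c21 LD3_c27)) = (LP (LK LD1_c1 LD2_c28 LD3_c15)) :=
  Lgr Lrot65 (Lpe (f146355 IH) (Lpr_bt (f146352 IH) (Lpe (K9.f24438 IH) (Lpe (f176873 IH) (Lpr_ct (f61311 IH) (Lpe (K10.f56687 IH) (Lpe (f176625 IH) (Lpr_gf (f205210 IH) (Lpe (f59032 IH) (Lpr_ct (f59098 IH) (Lpn (LP (LK LD1_c1 LD2_c28 LD3_c15)))))))))))))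
theorem f204827 : Led Lsl_ct (LP (LK LD1_c0 LD2_c40 LD3_c40)) = (LP (LK LD1_c1 LD2_c27 LD3_c53)) :=
  Lre_c IH (LK LD1_c0 LD2_c40 LD3_c40) (LK LD1_c1 LD2_c27 LD3_c53) Lrfl Lrfl
theorem f205239 : Led Lsl_bf (LP (LK LD1_c0 LD2_c54 LD3_c32)) = (LP (LK LD1_c0 LD2_c40 LD3_c40)) :=
  Lgr Lrot165 (Lpr_gt (K10.f198253 IH) (Lpr_ct (f146355 IH) (Lpr_gt (f205214 IH) (Lpe (f59098 IH) (Lpr_bt (f59032 IH) (Lpe (f205210 IH) (Lpe (f25950 IH) (Lpr_ct (f36598 IH) (Lpr_gt (f205231 IH) (Lpe (f204827 IH) (Lpn (LP (LK LD1_c0 LD2_c40 LD3_c40)))))))))))))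
theorem f80808 : Led Lsl_et (LP (LK LD1_c0 LD2_c18 LD3_c12)) = (LP (LK LD1_c0 LD2_c40 LD3_c40)) :=
  Lre_e IH (LK LD1_c0 LD2_c18 LD3_c12) (LK LD1_c0 LD2_c40 LD3_c40) Lrfl Lrfl
theorem f205247 : Led Lsl_bt (LP (LK LD1_c0 LD2_c24 LD3_c37)) = (LP (LK LD1_c0 LD2_c18 LD3_c12)) :=
  Lgr Lrot119 (Lpe (K10.f59342 IH) (Lpr_bf (f205239 IH) (Lpe (f80808 IH) (Lpn (LP (LK LD1_c0 LD2_c18 LD3_c12))))))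
theorem f59689 : Led Lsl_af (LP (LK LD1_c0 LD2_c18 LD3_c14)) = (LP (LK LD1_c0 LD2_c30 LD3_c21)) :=
  Lgr Lrot117 (Lpr_dt (K1.f59685 IH) (Lpe (K0.f33662 IH) (Lpe (K2.f59157 IH) (Lpn (LP (LK LD1_c0 LD2_c30 LD3_c21))))))
theorem f80433 : Led Lsl_gt (LP (LK LD1_c0 LD2_c25 LD3_c5)) = (LP (LK LD1_c0 LD2_c18 LD3_c14)) :=
  Lgr Lrot46 (Lpr_gf (K4.f80351 IH) (Lpr_ft (K2.f69674 IH) (Lpe (f59689 IH) (Lpn (LP (LK LD1_c0 LD2_c18 LD3_c14))))))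
theorem f80540 : Led Lsl_bf (LP (LK LD1_c0 LD2_c25 LD3_c5)) = (LP (LK LD1_c0 LD2_c12 LD3_c29)) :=
  Lgr Lrot24 (Lpr_bt (K4.f80538 IH) (Lpn (LP (LK LD1_c0 LD2_c12 LD3_c29))))
theorem f205255 : Led Lsl_gf (LP (LK LD1_c0 LD2_c30 LD3_c22)) = (LP (LK LD1_c0 LD2_c18 LD3_c12)) :=
  Lgr Lrot124 (Lpr_bf (K9.f70097 IH) (Lpr_ct (K2.f59174 IH) (Lpr_gt (K2.f70216 IH) (Lpe (K4.f59353 IH) (Lpe (f80540 IH) (Lpr_gt (f80433 IH) (Lpr_ct (K1.f59180 IH) (Lpr_gt (K2.f70190 IH) (Lpe (K1.f37909 IH) (Lpr_bt (f205247 IH) (Lpn (LP (LK LD1_c0 LD2_c18 LD3_c12)))))))))))))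
theorem f80815 : Led Lsl_dt (LP (LK LD1_c0 LD2_c8 LD3_c12)) = (LP (LK LD1_c0 LD2_c18 LD3_c12)) :=
  Lre_d IH (LK LD1_c0 LD2_c8 LD3_c12) (LK LD1_c0 LD2_c18 LD3_c12) Lrfl Lrfl
theorem f205267 : Led Lsl_ef (LP (LK LD1_c0 LD2_c11 LD3_c10)) = (LP (LK LD1_c0 LD2_c8 LD3_c12)) :=
  Lgr Lrot17 (Lpr_gf (K4.f80458 IH) (Lpr_ef (K1.f36629 IH) (Lpr_dt (K1.f24963 IH) (Lpr_gf (K1.f37960 IH) (Lpe (K6.f37964 IH) (Lpe (K0.f8190 IH) (Lpr_ef (K2.f35386 IH) (Lpe (K1.f59159 IH) (Lpr_gf (f205255 IH) (Lpe (f80815 IH) (Lpn (LP (LK LD1_c0 LD2_c8 LD3_c12)))))))))))))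
theorem f205275 : Led Lsl_et (LP (LK LD1_c0 LD2_c11 LD3_c10)) = (LP (LK LD1_c0 LD2_c8 LD3_c12)) :=
  Lgr Lrot87 (Lpr_ef (f205267 IH) (Lpn (LP (LK LD1_c0 LD2_c8 LD3_c12))))
theorem f205279 : Led Lsl_df (LP (LK LD1_c0 LD2_c55 LD3_c22)) = (LP (LK LD1_c0 LD2_c40 LD3_c40)) :=
  Lgr Lrot70 (Lpr_et (K4.f80446 IH) (Lpr_dt (K4.f29560 IH) (Lpr_et (f205275 IH) (Lpr_dt (f80815 IH) (Lpr_et (f80808 IH) (Lpn (LP (LK LD1_c0 LD2_c40 LD3_c40))))))))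
theorem f80649 : Led Lsl_ft (LP (LK LD1_c0 LD2_c55 LD3_c22)) = (LP (LK LD1_c1 LD2_c57 LD3_c5)) :=
  Lre_f IH (LK LD1_c0 LD2_c55 LD3_c22) (LK LD1_c1 LD2_c57 LD3_c5) Lrfl Lrfl
theorem f80819 : Led Lsl_ft (LP (LK LD1_c1 LD2_c27 LD3_c56)) = (LP (LK LD1_c0 LD2_c40 LD3_c40)) :=
  Lre_f IH (LK LD1_c1 LD2_c27 LD3_c56) (LK LD1_c0 LD2_c40 LD3_c40) Lrfl Lrfl
theorem f205283 : Led Lsl_dt (LP (LK LD1_c1 LD2_c57 LD3_c5)) = (LP (LK LD1_c1 LD2_c27 LD3_c56)) :=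
  Lgr Lrot60 (Lpe (f80649 IH) (Lpr_df (f205279 IH) (Lpe (f80819 IH) (Lpn (LP (LK LD1_c1 LD2_c27 LD3_c56))))))
theorem f205287 : Led Lsl_df (LP (LK LD1_c1 LD2_c57 LD3_c5)) = (LP (LK LD1_c1 LD2_c27 LD3_c56)) :=
  Lgr Lrot38 (Lpr_dt (f205283 IH) (Lpn (LP (LK LD1_c1 LD2_c27 LD3_c56))))
theorem f59097 : Led Lsl_at (LP (LK LD1_c0 LD2_c40 LD3_c50)) = (LP (LK LD1_c1 LD2_c27 LD3_c56)) :=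
  Lre_a IH (LK LD1_c0 LD2_c40 LD3_c50) (LK LD1_c1 LD2_c27 LD3_c56) Lrfl Lrfl
theorem f59031 : Led Lsl_bt (LP (LK LD1_c0 LD2_c30 LD3_c29)) = (LP (LK LD1_c1 LD2_c6 LD3_c28)) :=
  Lre_b IH (LK LD1_c0 LD2_c30 LD3_c29) (LK LD1_c1 LD2_c6 LD3_c28) Lrfl Lrfl
theorem f59033 : Led Lsl_dt (LP (LK LD1_c1 LD2_c6 LD3_c28)) = (LP (LK LD1_c0 LD2_c40 LD3_c50)) :=
  Lgr Lrot79 (Lpe (f59031 IH) (Lpr_df (f58995 IH) (Lpe (f59032 IH) (Lpn (LP (LK LD1_c0 LD2_c40 LD3_c50))))))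
theorem f205291 : Led Lsl_at (LP (LK LD1_c1 LD2_c57 LD3_c5)) = (LP (LK LD1_c1 LD2_c6 LD3_c28)) :=
  Lgr Lrot51 (Lpr_df (f205287 IH) (Lpe (f59097 IH) (Lpe (f59033 IH) (Lpn (LP (LK LD1_c1 LD2_c6 LD3_c28))))))
theorem f59063 : Led Lsl_ft (LP (LK LD1_c1 LD2_c6 LD3_c28)) = (LP (LK LD1_c0 LD2_c30 LD3_c24)) :=
  Lre_f IH (LK LD1_c1 LD2_c6 LD3_c28) (LK LD1_c0 LD2_c30 LD3_c24) Lrfl Lrfl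
theorem f205296 : Led Lsl_af (LP (LK LD1_c0 LD2_c55 LD3_c22)) = (LP (LK LD1_c0 LD2_c30 LD3_c24)) :=
  Lgr Lrot45 (Lpr_ft (f80649 IH) (Lpr_at (f205291 IH) (Lpr_ft (f59063 IH) (Lpn (LP (LK LD1_c0 LD2_c30 LD3_c24))))))
theorem f80642 : Led Lsl_bt (LP (LK LD1_c0 LD2_c55 LD3_c22)) = (LP (LK LD1_c0 LD2_c28 LD3_c16)) :=
  Lgr Lrot127 (Lpr_bf (K4.f80545 IH) (Lpn (LP (LK LD1_c0 LD2_c28 LD3_c16))))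
theorem f59075 : Led Lsl_bt (LP (LK LD1_c0 LD2_c13 LD3_c32)) = (LP (LK LD1_c0 LD2_c30 LD3_c24)) :=
  Lre_b IH (LK LD1_c0 LD2_c13 LD3_c32) (LK LD1_c0 LD2_c30 LD3_c24) Lrfl Lrfl
theorem f204375 : Led Lsl_at (LP (LK LD1_c0 LD2_c8 LD3_c29)) = (LP (LK LD1_c0 LD2_c13 LD3_c32)) :=
  Lgr Lrot100 (Lpr_af (f204371 IH) (Lpn (LP (LK LD1_c0 LD2_c13 LD3_c32))))
theorem f25978 : Led Lsl_bt (LP (LK LD1_c0 LD2_c18 LD3_c48)) = (LP (LK LD1_c0 LD2_c8 LD3_c29)) :=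
  Lre_b IH (LK LD1_c0 LD2_c18 LD3_c48) (LK LD1_c0 LD2_c8 LD3_c29) Lrfl Lrfl
theorem f205300 : Led Lsl_at (LP (LK LD1_c0 LD2_c28 LD3_c16)) = (LP (LK LD1_c0 LD2_c18 LD3_c48)) :=
  Lgr Lrot67 (Lpe (f80642 IH) (Lpr_af (f205296 IH) (Lpe (f59075 IH) (Lpe (f204375 IH) (Lpe (f25978 IH) (Lpn (LP (LK LD1_c0 LD2_c18 LD3_c48))))))))
theorem f205389 : Led Lsl_af (LP (LK LD1_c0 LD2_c12 LD3_c29)) = (LP (LK LD1_c0 LD2_c8 LD3_c27)) :=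
  Lgr Lrot50 (Lpr_et (K4.f59343 IH) (Lpr_at (f205300 IH) (Lpr_et (K10.f36411 IH) (Lpn (LP (LK LD1_c0 LD2_c8 LD3_c27))))))
theorem f205395 : Led Lsl_at (LP (LK LD1_c0 LD2_c5 LD3_c43)) = (LP (LK LD1_c0 LD2_c3 LD3_c51)) :=
  Lgr Lrot51 (Lpe (K1.f16642 IH) (Lpr_af (f205389 IH) (Lpe (K1.f36294 IH) (Lpn (LP (LK LD1_c0 LD2_c3 LD3_c51))))))
theorem f205403 : Led Lsl_ff (LP (LK LD1_c0 LD2_c5 LD3_c43)) = (LP (LK LD1_c0 LD2_c10 LD3_c58)) :=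
  Lgr Lrot52 (Lpr_at (f205395 IH) (Lpr_gf (K1.f36314 IH) (Lpe (K9.f80920 IH) (Lpn (LP (LK LD1_c0 LD2_c10 LD3_c58))))))
theorem f205407 : Led Lsl_ft (LP (LK LD1_c0 LD2_c5 LD3_c43)) = (LP (LK LD1_c0 LD2_c10 LD3_c58)) :=
  Lgr Lrot48 (Lpr_ff (f205403 IH) (Lpn (LP (LK LD1_c0 LD2_c10 LD3_c58))))
theorem f205409 : Led Lsl_ff (LP (LK LD1_c0 LD2_c12 LD3_c29)) = (LP (LK LD1_c0 LD2_c24 LD3_c37)) :=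
  Lgr Lrot19 (Lpr_dt (K1.f16642 IH) (Lpr_ft (f205407 IH) (Lpr_dt (K1.f28471 IH) (Lpn (LP (LK LD1_c0 LD2_c24 LD3_c37))))))
theorem f205421 : Led Lsl_ft (LP (LK LD1_c0 LD2_c28 LD3_c15)) = (LP (LK LD1_c0 LD2_c54 LD3_c31)) :=
  Lgr Lrot4 (Lpe (K4.f59353 IH) (Lpr_ff (f205409 IH) (Lpe (K1.f37905 IH) (Lpn (LP (LK LD1_c0 LD2_c54 LD3_c31))))))
theorem f21216 : Led Lsl_ct (LP (LK LD1_c0 LD2_c12 LD3_c53)) = (LP (LK LD1_c0 LD2_c29 LD3_c10)) :=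
  Lre_c IH (LK LD1_c0 LD2_c12 LD3_c53) (LK LD1_c0 LD2_c29 LD3_c10) Lrfl Lrfl
theorem f37133 : Led Lsl_ct (LP (LK LD1_c0 LD2_c37 LD3_c44)) = (LP (LK LD1_c0 LD2_c16 LD3_c49)) :=
  Lre_c IH (LK LD1_c0 LD2_c37 LD3_c44) (LK LD1_c0 LD2_c16 LD3_c49) Lrfl Lrfl
theorem f37277 : Led Lsl_gt (LP (LK LD1_c0 LD2_c29 LD3_c10)) = (LP (LK LD1_c0 LD2_c37 LD3_c44)) :=
  Lgr Lrot150 (Lpe (f21216 IH) (Lpe (K1.f37258 IH) (Lpe (K1.f37105 IH) (Lpe (K0.f34676 IH) (Lpe (K0.f20177 IH) (Lpe (K1.f37275 IH) (Lpr_ct (K1.f37260 IH) (Lpr_df (K1.f37144 IH) (Lpe (f37133 IH) (Lpn (LP (LK LD1_c0 LD2_c37 LD3_c44))))))))))))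
theorem f69690 : Led Lsl_bf (LP (LK LD1_c0 LD2_c16 LD3_c48)) = (LP (LK LD1_c0 LD2_c30 LD3_c21)) :=
  Lgr Lrot61 (Lpr_ft (K1.f37137 IH) (Lpr_bt (K1.f37157 IH) (Lpr_ft (K2.f69674 IH) (Lpn (LP (LK LD1_c0 LD2_c30 LD3_c21))))))
theorem f80830 : Led Lsl_gf (LP (LK LD1_c1 LD2_c1 LD3_c49)) = (LP (LK LD1_c0 LD2_c28 LD3_c15)) :=
  Lgr Lrot126 (Lpe (K2.f80298 IH) (Lpe (f69690 IH) (Lpr_gt (K1.f37258 IH) (Lpr_ct (f21216 IH) (Lpr_gt (f37277 IH) (Lpe (K1.f37141 IH) (Lpr_bt (K1.f37157 IH) (Lpe (K4.f80351 IH) (Lpr_bf (f80540 IH) (Lpr_ct (K4.f59353 IH) (Lpn (LP (LK LD1_c0 LD2_c28 LD3_c15)))))))))))))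
theorem f205427 : Led Lsl_af (LP (LK LD1_c0 LD2_c28 LD3_c13)) = (LP (LK LD1_c0 LD2_c54 LD3_c31)) :=
  Lgr Lrot31 (Lpe (K2.f36497 IH) (Lpr_gf (f80830 IH) (Lpr_ft (f205421 IH) (Lpn (LP (LK LD1_c0 LD2_c54 LD3_c31))))))
theorem f205429 : Led Lsl_at (LP (LK LD1_c0 LD2_c28 LD3_c13)) = (LP (LK LD1_c0 LD2_c54 LD3_c31)) :=
  Lgr Lrot100 (Lpr_af (f205427 IH) (Lpn (LP (LK LD1_c0 LD2_c54 LD3_c31))))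
theorem f205425 : Led Lsl_ff (LP (LK LD1_c0 LD2_c28 LD3_c15)) = (LP (LK LD1_c0 LD2_c54 LD3_c31)) :=
  Lgr Lrot3 (Lpr_ft (f205421 IH) (Lpn (LP (LK LD1_c0 LD2_c54 LD3_c31))))
theorem f80680 : Led Lsl_at (LP (LK LD1_c2 LD2_c9 LD3_c36)) = (LP (LK LD1_c1 LD2_c1 LD3_c55)) :=
  Lre_a IH (LK LD1_c2 LD2_c9 LD3_c36) (LK LD1_c1 LD2_c1 LD3_c55) Lrfl Lrfl
theorem f70235 : Led Lsl_bt (LP (LK LD1_c1 LD2_c1 LD3_c55)) = (LP (LK LD1_c0 LD2_c28 LD3_c15)) :=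
  Lre_b IH (LK LD1_c1 LD2_c1 LD3_c55) (LK LD1_c0 LD2_c28 LD3_c15) Lrfl Lrfl
theorem f69253 : Led Lsl_at (LP (LK LD1_c0 LD2_c42 LD3_c1)) = (LP (LK LD1_c1 LD2_c31 LD3_c6)) :=
  Lre_a IH (LK LD1_c0 LD2_c42 LD3_c1) (LK LD1_c1 LD2_c31 LD3_c6) Lrfl Lrfl
theorem f202823 : Led Lsl_at (LP (LK LD1_c0 LD2_c28 LD3_c15)) = (LP (LK LD1_c0 LD2_c18 LD3_c47)) :=
  Lgr Lrot67 (Lpe (f70235 IH) (Lpe (f80680 IH) (Lpr_bf (f202809 IH) (Lpe (f69253 IH) (Lpe (K4.f36320 IH) (Lpn (LP (LK LD1_c0 LD2_c18 LD3_c47))))))))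
theorem f205439 : Led Lsl_ff (LP (LK LD1_c0 LD2_c28 LD3_c13)) = (LP (LK LD1_c0 LD2_c18 LD3_c47)) :=
  Lgr Lrot30 (Lpr_at (f205429 IH) (Lpe (f205425 IH) (Lpr_at (f202823 IH) (Lpn (LP (LK LD1_c0 LD2_c18 LD3_c47))))))
theorem f205444 : Led Lsl_ft (LP (LK LD1_c0 LD2_c28 LD3_c13)) = (LP (LK LD1_c0 LD2_c18 LD3_c47)) :=
  Lgr Lrot48 (Lpr_ff (f205439 IH) (Lpn (LP (LK LD1_c0 LD2_c18 LD3_c47))))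
theorem f205448 : Led Lsl_ff (LP (LK LD1_c1 LD2_c1 LD3_c50)) = (LP (LK LD1_c0 LD2_c42 LD3_c1)) :=
  Lgr Lrot25 (Lpr_bt (K4.f36491 IH) (Lpr_ft (f205444 IH) (Lpr_bt (K4.f36320 IH) (Lpn (LP (LK LD1_c0 LD2_c42 LD3_c1))))))
theorem f205705 : Led Lsl_gf (LP (LK LD1_c2 LD2_c9 LD3_c24)) = (LP (LK LD1_c1 LD2_c31 LD3_c4)) :=
  Lgr Lrot76 (Lpe (K8.f36517 IH) (Lpr_ff (f205448 IH) (Lpr_gt (K4.f36321 IH) (Lpn (LP (LK LD1_c1 LD2_c31 LD3_c4))))))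
theorem f117552 : Led Lsl_ft (LP (LK LD1_c1 LD2_c31 LD3_c4)) = (LP (LK LD1_c2 LD2_c9 LD3_c22)) :=
  Lgr Lrot48 (Lpr_ff (K4.f117545 IH) (Lpn (LP (LK LD1_c2 LD2_c9 LD3_c22))))
theorem f117605 : Led Lsl_af (LP (LK LD1_c1 LD2_c31 LD3_c5)) = (LP (LK LD1_c2 LD2_c9 LD3_c22)) :=
  Lgr Lrot45 (Lpr_ft (K4.f117601 IH) (Lpe (K4.f117556 IH) (Lpr_ft (f117552 IH) (Lpn (LP (LK LD1_c2 LD2_c9 LD3_c22))))))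
theorem f205707 : Led Lsl_gt (LP (LK LD1_c2 LD2_c9 LD3_c24)) = (LP (LK LD1_c1 LD2_c31 LD3_c5)) :=
  Lgr Lrot46 (Lpr_gf (f205705 IH) (Lpr_ft (f117552 IH) (Lpe (f117605 IH) (Lpn (LP (LK LD1_c1 LD2_c31 LD3_c5))))))
theorem f26891 : Led Lsl_at (LP (LK LD1_c0 LD2_c30 LD3_c4)) = (LP (LK LD1_c1 LD2_c5 LD3_c49)) :=
  Lre_a IH (LK LD1_c0 LD2_c30 LD3_c4) (LK LD1_c1 LD2_c5 LD3_c49) Lrfl Lrfl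
theorem f36526 : Led Lsl_at (LP (LK LD1_c2 LD2_c9 LD3_c24)) = (LP (LK LD1_c1 LD2_c1 LD3_c50)) :=
  Lre_a IH (LK LD1_c2 LD2_c9 LD3_c24) (LK LD1_c1 LD2_c1 LD3_c50) Lrfl Lrfl
theorem f36561 : Led Lsl_ct (LP (LK LD1_c1 LD2_c5 LD3_c49)) = (LP (LK LD1_c2 LD2_c9 LD3_c24)) :=
  Lgr Lrot111 (Lpe (f26891 IH) (Lpr_cf (K8.f36520 IH) (Lpe (f36526 IH) (Lpn (LP (LK LD1_c2 LD2_c9 LD3_c24))))))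
theorem f205717 : Led Lsl_gf (LP (LK LD1_c1 LD2_c5 LD3_c49)) = (LP (LK LD1_c0 LD2_c42 LD3_c6)) :=
  Lgr Lrot147 (Lpr_ct (f36561 IH) (Lpr_gt (f205707 IH) (Lpr_ct (K5.f117813 IH) (Lpe (K4.f66264 IH) (Lpe (K4.f66160 IH) (Lpr_gf (K8.f116779 IH) (Lpe (K6.f71842 IH) (Lpr_gf (K4.f112473 IH) (Lpe (K4.f69205 IH) (Lpn (LP (LK LD1_c0 LD2_c42 LD3_c6))))))))))))
theorem f119722 : Led Lsl_ff (LP (LK LD1_c5 LD2_c56 LD3_c10)) = (LP (LK LD1_c6 LD2_c24 LD3_c33)) :=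
  Lgr Lrot3 (Lpr_ft (K6.f119715 IH) (Lpn (LP (LK LD1_c6 LD2_c24 LD3_c33))))
theorem f79086 : Led Lsl_at (LP (LK LD1_c3 LD2_c16 LD3_c31)) = (LP (LK LD1_c6 LD2_c36 LD3_c24)) :=
  Lre_a IH (LK LD1_c3 LD2_c16 LD3_c31) (LK LD1_c6 LD2_c36 LD3_c24) Lrfl Lrfl
theorem f119707 : Led Lsl_at (LP (LK LD1_c5 LD2_c56 LD3_c10)) = (LP (LK LD1_c6 LD2_c24 LD3_c27)) :=
  Lgr Lrot51 (Lpr_df (K4.f119664 IH) (Lpe (f79086 IH) (Lpe (K4.f79078 IH) (Lpn (LP (LK LD1_c6 LD2_c24 LD3_c27))))))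
theorem f138784 : Led Lsl_gt (LP (LK LD1_c11 LD2_c36 LD3_c16)) = (LP (LK LD1_c6 LD2_c24 LD3_c27)) :=
  Lgr Lrot46 (Lpr_gf (K8.f138782 IH) (Lpe (f119722 IH) (Lpr_at (f119707 IH) (Lpn (LP (LK LD1_c6 LD2_c24 LD3_c27))))))
theorem f138813 : Led Lsl_gt (LP (LK LD1_c6 LD2_c33 LD3_c57)) = (LP (LK LD1_c12 LD2_c1 LD3_c30)) :=
  Lgr Lrot94 (Lpe (K7.f137683 IH) (Lpr_gt (K8.f137719 IH) (Lpr_dt (K6.f71913 IH) (Lpe (K8.f116779 IH) (Lpr_dt (K4.f64540 IH) (Lpe (K4.f64538 IH) (Lpe (K4.f79078 IH) (Lpe (f138784 IH) (Lpr_df (K8.f138811 IH) (Lpn (LP (LK LD1_c12 LD2_c1 LD3_c30))))))))))))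
theorem f161502 : Led Lsl_gf (LP (LK LD1_c2 LD2_c54 LD3_c6)) = (LP (LK LD1_c4 LD2_c26 LD3_c13)) :=
  Lgr Lrot144 (Lpr_dt (K8.f59562 IH) (Lpr_gt (K6.f59537 IH) (Lpr_dt (K8.f59547 IH) (Lpe (K8.f59551 IH) (Lpr_df (K8.f138811 IH) (Lpe (f138813 IH) (Lpr_df (K8.f161485 IH) (Lpe (K8.f161500 IH) (Lpe (K8.f16158 IH) (Lpn (LP (LK LD1_c4 LD2_c26 LD3_c13))))))))))))
theorem f116807 : Led Lsl_gt (LP (LK LD1_c3 LD2_c10 LD3_c11)) = (LP (LK LD1_c1 LD2_c31 LD3_c15)) :=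
  Lre_g IH (LK LD1_c3 LD2_c10 LD3_c11) (LK LD1_c1 LD2_c31 LD3_c15) Lrfl Lrfl
theorem f205723 : Led Lsl_df (LP (LK LD1_c4 LD2_c26 LD3_c13)) = (LP (LK LD1_c3 LD2_c10 LD3_c11)) :=
  Lgr Lrot155 (Lpe (f161502 IH) (Lpr_ct (K8.f149615 IH) (Lpr_gt (K8.f161947 IH) (Lpr_ct (K8.f36590 IH) (Lpr_dt (K8.f36589 IH) (Lpe (f36561 IH) (Lpr_gf (f205717 IH) (Lpe (K4.f80354 IH) (Lpe (f116807 IH) (Lpn (LP (LK LD1_c3 LD2_c10 LD3_c11))))))))))))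
theorem f117521 : Led Lsl_ft (LP (LK LD1_c2 LD2_c49 LD3_c50)) = (LP (LK LD1_c3 LD2_c9 LD3_c51)) :=
  Lgr Lrot54 (Lpe (K4.f117520 IH) (Lpr_ff (K4.f117515 IH) (Lpe (K4.f117504 IH) (Lpn (LP (LK LD1_c3 LD2_c9 LD3_c51))))))
theorem f36535 : Led Lsl_gt (LP (LK LD1_c4 LD2_c34 LD3_c19)) = (LP (LK LD1_c2 LD2_c14 LD3_c7)) :=
  Lre_g IH (LK LD1_c4 LD2_c34 LD3_c19) (LK LD1_c2 LD2_c14 LD3_c7) Lrfl Lrfl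
theorem f119887 : Led Lsl_gt (LP (LK LD1_c2 LD2_c49 LD3_c50)) = (LP (LK LD1_c4 LD2_c34 LD3_c19)) :=
  Lgr Lrot5 (Lpr_ft (f117521 IH) (Lpr_at (K5.f117513 IH) (Lpe (f36535 IH) (Lpn (LP (LK LD1_c4 LD2_c34 LD3_c19))))))
theorem f205731 : Led Lsl_ct (LP (LK LD1_c4 LD2_c34 LD3_c19)) = (LP (LK LD1_c3 LD2_c10 LD3_c11)) :=
  Lgr Lrot110 (Lpe (f119887 IH) (Lpr_cf (K4.f117543 IH) (Lpe (K4.f23392 IH) (Lpe (f36528 IH) (Lpr_gt (K6.f36545 IH) (Lpr_ct (K6.f119879 IH) (Lpe (K8.f161507 IH) (Lpr_ct (K8.f27177 IH) (Lpr_df (f205723 IH) (Lpn (LP (LK LD1_c3 LD2_c10 LD3_c11))))))))))))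
theorem f205735 : Led Lsl_cf (LP (LK LD1_c4 LD2_c34 LD3_c19)) = (LP (LK LD1_c3 LD2_c10 LD3_c11)) :=
  Lgr Lrot11 (Lpr_ct (f205731 IH) (Lpn (LP (LK LD1_c3 LD2_c10 LD3_c11))))
theorem f138547 : Led Lsl_af (LP (LK LD1_c4 LD2_c42 LD3_c51)) = (LP (LK LD1_c3 LD2_c9 LD3_c54)) :=
  Lgr Lrot0 (Lpr_at (K8.f138545 IH) (Lpn (LP (LK LD1_c3 LD2_c9 LD3_c54))))
theorem f138572 : Led Lsl_gf (LP (LK LD1_c2 LD2_c49 LD3_c32)) = (LP (LK LD1_c4 LD2_c23 LD3_c56)) :=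
  Lgr Lrot47 (Lpe (K8.f138535 IH) (Lpr_af (f138547 IH) (Lpr_ff (K8.f117607 IH) (Lpn (LP (LK LD1_c4 LD2_c23 LD3_c56))))))
theorem f163009 : Led Lsl_af (LP (LK LD1_c6 LD2_c25 LD3_c4)) = (LP (LK LD1_c5 LD2_c55 LD3_c29)) :=
  Lgr Lrot68 (Lpr_ct (K8.f158826 IH) (Lpr_at (K8.f163007 IH) (Lpr_ct (K8.f59551 IH) (Lpn (LP (LK LD1_c5 LD2_c55 LD3_c29))))))
theorem f163019 : Led Lsl_gt (LP (LK LD1_c6 LD2_c25 LD3_c3)) = (LP (LK LD1_c3 LD2_c10 LD3_c15)) :=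
  Lgr Lrot5 (Lpr_ft (K8.f163015 IH) (Lpe (f163009 IH) (Lpe (K8.f158834 IH) (Lpn (LP (LK LD1_c3 LD2_c10 LD3_c15))))))
theorem f116980 : Led Lsl_dt (LP (LK LD1_c3 LD2_c10 LD3_c15)) = (LP (LK LD1_c1 LD2_c31 LD3_c18)) :=
  Lre_d IH (LK LD1_c3 LD2_c10 LD3_c15) (LK LD1_c1 LD2_c31 LD3_c18) Lrfl Lrfl
theorem f205729 : Led Lsl_gt (LP (LK LD1_c1 LD2_c31 LD3_c18)) = (LP (LK LD1_c3 LD2_c10 LD3_c11)) :=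
  Lgr Lrot49 (Lpe (f116980 IH) (Lpe (f163019 IH) (Lpe (K8.f161809 IH) (Lpr_gt (K6.f81798 IH) (Lpr_dt (K4.f112865 IH) (Lpr_gt (K8.f96632 IH) (Lpr_dt (K8.f116774 IH) (Lpe (K8.f16158 IH) (Lpr_df (f205723 IH) (Lpn (LP (LK LD1_c3 LD2_c10 LD3_c11))))))))))))
theorem f117749 : Led Lsl_bf (LP (LK LD1_c1 LD2_c31 LD3_c18)) = (LP (LK LD1_c1 LD2_c28 LD3_c6)) :=
  Lgr Lrot93 (Lpr_dt (K8.f117721 IH) (Lpr_bt (K8.f117745 IH) (Lpr_dt (K8.f75132 IH) (Lpn (LP (LK LD1_c1 LD2_c28 LD3_c6))))))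
theorem f205752 : Led Lsl_bf (LP (LK LD1_c2 LD2_c49 LD3_c32)) = (LP (LK LD1_c4 LD2_c42 LD3_c46)) :=
  Lgr Lrot34 (Lpr_gf (f138572 IH) (Lpe (K8.f36538 IH) (Lpe (K4.f36539 IH) (Lpe (f36535 IH) (Lpr_cf (f205735 IH) (Lpe (f205729 IH) (Lpr_bf (f117749 IH) (Lpr_ct (K8.f75133 IH) (Lpr_gf (K8.f158851 IH) (Lpr_cf (K4.f60945 IH) (Lpn (LP (LK LD1_c4 LD2_c42 LD3_c46)))))))))))))
theorem f138540 : Led Lsl_dt (LP (LK LD1_c2 LD2_c49 LD3_c32)) = (LP (LK LD1_c5 LD2_c47 LD3_c15)) :=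
  Lre_d IH (LK LD1_c2 LD2_c49 LD3_c32) (LK LD1_c5 LD2_c47 LD3_c15) Lrfl Lrfl
theorem f205758 : Led Lsl_dt (LP (LK LD1_c9 LD2_c7 LD3_c59)) = (LP (LK LD1_c4 LD2_c42 LD3_c46)) :=
  Lgr Lrot79 (Lpe (K8.f161179 IH) (Lpe (f138540 IH) (Lpr_bf (f205752 IH) (Lpn (LP (LK LD1_c4 LD2_c42 LD3_c46))))))
theorem f161332 : Led Lsl_bt (LP (LK LD1_c4 LD2_c36 LD3_c5)) = (LP (LK LD1_c4 LD2_c35 LD3_c18)) :=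
  Lgr Lrot127 (Lpr_bf (f161330 IH) (Lpn (LP (LK LD1_c4 LD2_c35 LD3_c18))))
theorem f161673 : Led Lsl_ft (LP (LK LD1_c2 LD2_c53 LD3_c25)) = (LP (LK LD1_c4 LD2_c36 LD3_c5)) :=
  Lgr Lrot75 (Lpr_bf (K6.f81906 IH) (Lpr_ff (K8.f161671 IH) (Lpe (f161332 IH) (Lpn (LP (LK LD1_c4 LD2_c36 LD3_c5))))))
theorem f163290 : Led Lsl_af (LP (LK LD1_c2 LD2_c53 LD3_c28)) = (LP (LK LD1_c4 LD2_c36 LD3_c5)) :=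
  Lgr Lrot117 (Lpr_dt (f99484 IH) (Lpr_at (K8.f163286 IH) (Lpr_dt (f112739 IH) (Lpn (LP (LK LD1_c4 LD2_c36 LD3_c5))))))
theorem f202062 : Led Lsl_gf (LP (LK LD1_c2 LD2_c53 LD3_c28)) = (LP (LK LD1_c4 LD2_c42 LD3_c36)) :=
  Lgr Lrot76 (Lpr_af (f163290 IH) (Lpe (f161673 IH) (Lpr_gt (f202059 IH) (Lpn (LP (LK LD1_c4 LD2_c42 LD3_c36))))))
theorem f99476 : Led Lsl_cf (LP (LK LD1_c9 LD2_c16 LD3_c31)) = (LP (LK LD1_c5 LD2_c54 LD3_c47)) :=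
  Lgr Lrot11 (Lpr_ct (K4.f99472 IH) (Lpn (LP (LK LD1_c5 LD2_c54 LD3_c47))))
theorem f137508 : Led Lsl_gf (LP (LK LD1_c2 LD2_c53 LD3_c25)) = (LP (LK LD1_c1 LD2_c28 LD3_c9)) :=
  Lgr Lrot104 (Lpr_ct (K6.f69349 IH) (Lpe (K6.f74524 IH) (Lpr_cf (f99476 IH) (Lpe (K4.f71174 IH) (Lpr_cf (K2.f70865 IH) (Lpe (K8.f99482 IH) (Lpe (K6.f104358 IH) (Lpr_gt (K6.f137492 IH) (Lpr_ct (K6.f38097 IH) (Lpn (LP (LK LD1_c1 LD2_c28 LD3_c9))))))))))))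
theorem f59801 : Led Lsl_bt (LP (LK LD1_c0 LD2_c18 LD3_c20)) = (LP (LK LD1_c0 LD2_c8 LD3_c15)) :=
  Lre_b IH (LK LD1_c0 LD2_c18 LD3_c20) (LK LD1_c0 LD2_c8 LD3_c15) Lrfl Lrfl
theorem f16657 : Led Lsl_bt (LP (LK LD1_c0 LD2_c7 LD3_c31)) = (LP (LK LD1_c0 LD2_c16 LD3_c52)) :=
  Lre_b IH (LK LD1_c0 LD2_c7 LD3_c31) (LK LD1_c0 LD2_c16 LD3_c52) Lrfl Lrfl
theorem f16658 : Led Lsl_gt (LP (LK LD1_c0 LD2_c16 LD3_c52)) = (LP (LK LD1_c0 LD2_c37 LD3_c47)) :=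
  Lre_g IH (LK LD1_c0 LD2_c16 LD3_c52) (LK LD1_c0 LD2_c37 LD3_c47) Lrfl Lrfl
theorem f59805 : Led Lsl_bt (LP (LK LD1_c1 LD2_c21 LD3_c38)) = (LP (LK LD1_c0 LD2_c37 LD3_c47)) :=
  Lre_b IH (LK LD1_c1 LD2_c21 LD3_c38) (LK LD1_c0 LD2_c37 LD3_c47) Lrfl Lrfl
theorem f59806 : Led Lsl_cf (LP (LK LD1_c1 LD2_c28 LD3_c7)) = (LP (LK LD1_c1 LD2_c21 LD3_c38)) :=
  Lgr Lrot160 (Lpr_gt (K6.f59804 IH) (Lpe (K8.f59803 IH) (Lpr_bt (f59801 IH) (Lpr_gt (K1.f59724 IH) (Lpr_ct (K6.f59796 IH) (Lpe (K9.f59797 IH) (Lpe (K0.f20274 IH) (Lpr_bt (f16657 IH) (Lpr_gt (f16658 IH) (Lpe (f59805 IH) (Lpn (LP (LK LD1_c1 LD2_c21 LD3_c38)))))))))))))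
theorem f158471 : Led Lsl_gf (LP (LK LD1_c2 LD2_c49 LD3_c19)) = (LP (LK LD1_c1 LD2_c21 LD3_c38)) :=
  Lgr Lrot144 (Lpr_dt (K4.f104799 IH) (Lpr_gt (K8.f158468 IH) (Lpr_dt (K6.f76361 IH) (Lpe (K6.f71024 IH) (Lpe (K8.f71195 IH) (Lpr_gf (f137508 IH) (Lpe (K6.f80263 IH) (Lpe (K6.f59804 IH) (Lpr_cf (f59806 IH) (Lpn (LP (LK LD1_c1 LD2_c21 LD3_c38))))))))))))
theorem f158473 : Led Lsl_cf (LP (LK LD1_c1 LD2_c21 LD3_c38)) = (LP (LK LD1_c1 LD2_c28 LD3_c7)) :=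
  Lgr Lrot166 (Lpe (f158471 IH) (Lpr_dt (K4.f104799 IH) (Lpr_gt (K8.f158468 IH) (Lpr_dt (K6.f76361 IH) (Lpr_ct (K4.f71025 IH) (Lpe (K8.f71195 IH) (Lpr_gf (f137508 IH) (Lpe (K6.f80263 IH) (Lpe (K6.f59804 IH) (Lpn (LP (LK LD1_c1 LD2_c28 LD3_c7))))))))))))
theorem f205764 : Led Lsl_gt (LP (LK LD1_c2 LD2_c18 LD3_c45)) = (LP (LK LD1_c1 LD2_c28 LD3_c7)) :=
  Lgr Lrot146 (Lpr_dt (f104869 IH) (Lpe (f202062 IH) (Lpr_ct (f137498 IH) (Lpe (f163531 IH) (Lpe (K8.f161163 IH) (Lpr_dt (f205758 IH) (Lpe (K4.f60941 IH) (Lpr_gf (f158471 IH) (Lpr_cf (f158473 IH) (Lpn (LP (LK LD1_c1 LD2_c28 LD3_c7))))))))))))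
theorem f112355 : Led Lsl_dt (LP (LK LD1_c4 LD2_c36 LD3_c15)) = (LP (LK LD1_c6 LD2_c0 LD3_c40)) :=
  Lgr Lrot6 (Lpr_gt (f23033 IH) (Lpr_ct (K6.f23031 IH) (Lpr_gt (K4.f112350 IH) (Lpr_ct (K4.f83763 IH) (Lpr_df (K5.f83773 IH) (Lpe (K6.f91352 IH) (Lpr_gf (K6.f91358 IH) (Lpe (K6.f26518 IH) (Lpr_gf (K6.f79935 IH) (Lpn (LP (LK LD1_c6 LD2_c0 LD3_c40))))))))))))
theorem f202617 : Led Lsl_gt (LP (LK LD1_c2 LD2_c53 LD3_c19)) = (LP (LK LD1_c4 LD2_c36 LD3_c15)) :=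
  Lgr Lrot94 (Lpe (K7.f71008 IH) (Lpe (K8.f138483 IH) (Lpr_dt (K6.f80266 IH) (Lpr_gt (K5.f60870 IH) (Lpr_dt (f202572 IH) (Lpe (K6.f26505 IH) (Lpe (K6.f37430 IH) (Lpr_gf (K6.f79935 IH) (Lpe (f112355 IH) (Lpn (LP (LK LD1_c4 LD2_c36 LD3_c15))))))))))))
theorem f112712 : Led Lsl_dt (LP (LK LD1_c2 LD2_c51 LD3_c8)) = (LP (LK LD1_c1 LD2_c21 LD3_c38)) :=
  Lre_d IH (LK LD1_c2 LD2_c51 LD3_c8) (LK LD1_c1 LD2_c21 LD3_c38) Lrfl Lrfl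
theorem f205767 : Led Lsl_ct (LP (LK LD1_c4 LD2_c36 LD3_c15)) = (LP (LK LD1_c2 LD2_c51 LD3_c8)) :=
  Lgr Lrot110 (Lpe (f202617 IH) (Lpe (K7.f71008 IH) (Lpr_gf (K4.f112352 IH) (Lpe (K4.f83762 IH) (Lpr_gt (f202383 IH) (Lpr_ct (f104868 IH) (Lpr_gt (f205764 IH) (Lpe (f158473 IH) (Lpe (f112712 IH) (Lpn (LP (LK LD1_c2 LD2_c51 LD3_c8))))))))))))
theorem f205786 : Led Lsl_gf (LP (LK LD1_c2 LD2_c27 LD3_c20)) = (LP (LK LD1_c2 LD2_c51 LD3_c8)) :=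
  Lgr Lrot148 (Lpr_dt (f72426 IH) (Lpr_gt (K8.f72419 IH) (Lpr_dt (K8.f101750 IH) (Lpe (f163268 IH) (Lpr_df (f149396 IH) (Lpe (K6.f59893 IH) (Lpe (K8.f59896 IH) (Lpe (f23033 IH) (Lpr_ct (f205767 IH) (Lpn (LP (LK LD1_c2 LD2_c51 LD3_c8))))))))))))
theorem f104747 : Led Lsl_at (LP (LK LD1_c4 LD2_c58 LD3_c53)) = (LP (LK LD1_c2 LD2_c27 LD3_c20)) :=
  Lre_a IH (LK LD1_c4 LD2_c58 LD3_c53) (LK LD1_c2 LD2_c27 LD3_c20) Lrfl Lrfl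
theorem f112713 : Led Lsl_gt (LP (LK LD1_c5 LD2_c49 LD3_c60)) = (LP (LK LD1_c2 LD2_c51 LD3_c8)) :=
  Lre_g IH (LK LD1_c5 LD2_c49 LD3_c60) (LK LD1_c2 LD2_c51 LD3_c8) Lrfl Lrfl
theorem f205788 : Led Lsl_ff (LP (LK LD1_c4 LD2_c58 LD3_c53)) = (LP (LK LD1_c5 LD2_c49 LD3_c60)) :=
  Lgr Lrot52 (Lpr_at (f104747 IH) (Lpr_gf (f205786 IH) (Lpe (f112713 IH) (Lpn (LP (LK LD1_c5 LD2_c49 LD3_c60))))))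
theorem f205802 : Led Lsl_ft (LP (LK LD1_c4 LD2_c58 LD3_c53)) = (LP (LK LD1_c5 LD2_c49 LD3_c60)) :=
  Lgr Lrot48 (Lpr_ff (f205788 IH) (Lpn (LP (LK LD1_c5 LD2_c49 LD3_c60))))
theorem f83795 : Led Lsl_gt (LP (LK LD1_c3 LD2_c4 LD3_c59)) = (LP (LK LD1_c6 LD2_c15 LD3_c45)) :=
  Lre_g IH (LK LD1_c3 LD2_c4 LD3_c59) (LK LD1_c6 LD2_c15 LD3_c45) Lrfl Lrfl
theorem f157751 : Led Lsl_dt (LP (LK LD1_c4 LD2_c58 LD3_c16)) = (LP (LK LD1_c2 LD2_c26 LD3_c60)) :=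
  Lre_d IH (LK LD1_c4 LD2_c58 LD3_c16) (LK LD1_c2 LD2_c26 LD3_c60) Lrfl Lrfl
theorem f161118 : Led Lsl_ct (LP (LK LD1_c6 LD2_c15 LD3_c45)) = (LP (LK LD1_c4 LD2_c58 LD3_c16)) :=
  Lgr Lrot110 (Lpe (f83795 IH) (Lpe (K4.f83763 IH) (Lpe (K4.f112350 IH) (Lpe (K8.f59894 IH) (Lpr_gt (K4.f34732 IH) (Lpr_ct (K7.f104777 IH) (Lpr_gt (K8.f149404 IH) (Lpr_ct (K8.f161102 IH) (Lpe (f157751 IH) (Lpn (LP (LK LD1_c4 LD2_c58 LD3_c16))))))))))))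
theorem f138954 : Led Lsl_bt (LP (LK LD1_c4 LD2_c58 LD3_c16)) = (LP (LK LD1_c2 LD2_c26 LD3_c61)) :=
  Lre_b IH (LK LD1_c4 LD2_c58 LD3_c16) (LK LD1_c2 LD2_c26 LD3_c61) Lrfl Lrfl
theorem f107271 : Led Lsl_gt (LP (LK LD1_c4 LD2_c44 LD3_c32)) = (LP (LK LD1_c9 LD2_c21 LD3_c51)) :=
  Lre_g IH (LK LD1_c4 LD2_c44 LD3_c32) (LK LD1_c9 LD2_c21 LD3_c51) Lrfl Lrfl
theorem f161124 : Led Lsl_df (LP (LK LD1_c6 LD2_c15 LD3_c45)) = (LP (LK LD1_c9 LD2_c21 LD3_c51)) :=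
  Lgr Lrot183 (Lpr_ct (f161118 IH) (Lpr_bt (f138954 IH) (Lpe (K8.f139065 IH) (Lpe (K2.f74445 IH) (Lpr_ct (K1.f20240 IH) (Lpr_bt (K5.f68991 IH) (Lpe (K1.f21175 IH) (Lpe (K4.f58957 IH) (Lpr_ct (K4.f68570 IH) (Lpr_bt (K6.f68984 IH) (Lpr_gt (K5.f68992 IH) (Lpe (K5.f125523 IH) (Lpr_ct (K5.f23585 IH) (Lpe (K5.f107272 IH) (Lpr_gt (K3.f107263 IH) (Lpr_dt (K3.f102317 IH) (Lpr_ct (K3.f99090 IH) (Lpr_bt (K8.f102381 IH) (Lpr_gt (f107271 IH) (Lpn (LP (LK LD1_c9 LD2_c21 LD3_c51))))))))))))))))))))))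
theorem f161126 : Led Lsl_dt (LP (LK LD1_c6 LD2_c15 LD3_c45)) = (LP (LK LD1_c9 LD2_c21 LD3_c51)) :=
  Lgr Lrot42 (Lpr_df (f161124 IH) (Lpn (LP (LK LD1_c9 LD2_c21 LD3_c51))))
theorem f158457 : Led Lsl_ft (LP (LK LD1_c4 LD2_c58 LD3_c16)) = (LP (LK LD1_c2 LD2_c27 LD3_c20)) :=
  Lre_f IH (LK LD1_c4 LD2_c58 LD3_c16) (LK LD1_c2 LD2_c27 LD3_c20) Lrfl Lrfl
theorem f161122 : Led Lsl_ff (LP (LK LD1_c6 LD2_c15 LD3_c45)) = (LP (LK LD1_c4 LD2_c58 LD3_c57)) :=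
  Lgr Lrot23 (Lpr_ct (f161118 IH) (Lpr_ft (f158457 IH) (Lpr_ct (K2.f72434 IH) (Lpn (LP (LK LD1_c4 LD2_c58 LD3_c57))))))
theorem f161130 : Led Lsl_ff (LP (LK LD1_c6 LD2_c53 LD3_c54)) = (LP (LK LD1_c9 LD2_c21 LD3_c51)) :=
  Lgr Lrot19 (Lpr_dt (K6.f104737 IH) (Lpe (f161122 IH) (Lpr_dt (f161126 IH) (Lpn (LP (LK LD1_c9 LD2_c21 LD3_c51))))))
theorem f138386 : Led Lsl_af (LP (LK LD1_c3 LD2_c5 LD3_c7)) = (LP (LK LD1_c2 LD2_c53 LD3_c37)) :=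
  Lgr Lrot0 (Lpr_at (K8.f138384 IH) (Lpn (LP (LK LD1_c2 LD2_c53 LD3_c37))))
theorem f138596 : Led Lsl_gf (LP (LK LD1_c3 LD2_c5 LD3_c7)) = (LP (LK LD1_c6 LD2_c15 LD3_c45)) :=
  Lgr Lrot76 (Lpr_af (f138386 IH) (Lpr_ff (K7.f137317 IH) (Lpr_gt (f83795 IH) (Lpn (LP (LK LD1_c6 LD2_c15 LD3_c45))))))
theorem f161128 : Led Lsl_gf (LP (LK LD1_c6 LD2_c53 LD3_c56)) = (LP (LK LD1_c9 LD2_c21 LD3_c51)) :=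
  Lgr Lrot147 (Lpe (K7.f94793 IH) (Lpr_gt (K8.f149470 IH) (Lpr_ct (K8.f149362 IH) (Lpe (K8.f59896 IH) (Lpe (K8.f23021 IH) (Lpe (K8.f138481 IH) (Lpe (K6.f80265 IH) (Lpr_gf (f138596 IH) (Lpr_df (f161124 IH) (Lpn (LP (LK LD1_c9 LD2_c21 LD3_c51))))))))))))
theorem f161134 : Led Lsl_at (LP (LK LD1_c6 LD2_c53 LD3_c54)) = (LP (LK LD1_c9 LD2_c21 LD3_c52)) :=
  Lgr Lrot26 (Lpr_ff (f161130 IH) (Lpe (f161128 IH) (Lpe (K8.f104475 IH) (Lpn (LP (LK LD1_c9 LD2_c21 LD3_c52))))))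
theorem f161136 : Led Lsl_af (LP (LK LD1_c6 LD2_c53 LD3_c54)) = (LP (LK LD1_c9 LD2_c21 LD3_c52)) :=
  Lgr Lrot0 (Lpr_at (f161134 IH) (Lpn (LP (LK LD1_c9 LD2_c21 LD3_c52))))
theorem f94799 : Led Lsl_gt (LP (LK LD1_c6 LD2_c53 LD3_c55)) = (LP (LK LD1_c3 LD2_c26 LD3_c0)) :=
  Lre_g IH (LK LD1_c6 LD2_c53 LD3_c55) (LK LD1_c3 LD2_c26 LD3_c0) Lrfl Lrfl
theorem f161144 : Led Lsl_ft (LP (LK LD1_c6 LD2_c53 LD3_c55)) = (LP (LK LD1_c9 LD2_c21 LD3_c52)) :=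
  Lgr Lrot2 (Lpr_gt (f94799 IH) (Lpr_gt (K6.f26121 IH) (Lpr_af (f161136 IH) (Lpn (LP (LK LD1_c9 LD2_c21 LD3_c52))))))
theorem f161150 : Led Lsl_ff (LP (LK LD1_c6 LD2_c53 LD3_c55)) = (LP (LK LD1_c9 LD2_c21 LD3_c52)) :=
  Lgr Lrot3 (Lpr_ft (f161144 IH) (Lpn (LP (LK LD1_c9 LD2_c21 LD3_c52))))
theorem f70887 : Led Lsl_dt (LP (LK LD1_c4 LD2_c36 LD3_c0)) = (LP (LK LD1_c9 LD2_c8 LD3_c14)) :=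
  Lre_d IH (LK LD1_c4 LD2_c36 LD3_c0) (LK LD1_c9 LD2_c8 LD3_c14) Lrfl Lrfl
theorem f72432 : Led Lsl_gt (LP (LK LD1_c5 LD2_c54 LD3_c27)) = (LP (LK LD1_c2 LD2_c53 LD3_c37)) :=
  Lre_g IH (LK LD1_c5 LD2_c54 LD3_c27) (LK LD1_c2 LD2_c53 LD3_c37) Lrfl Lrfl
theorem f104755 : Led Lsl_dt (LP (LK LD1_c6 LD2_c53 LD3_c55)) = (LP (LK LD1_c5 LD2_c54 LD3_c27)) :=
  Lgr Lrot6 (Lpr_gt (f94799 IH) (Lpe (K6.f94795 IH) (Lpr_gt (K8.f99482 IH) (Lpe (K2.f70865 IH) (Lpe (f70887 IH) (Lpe (K2.f70888 IH) (Lpr_gf (K6.f104753 IH) (Lpe (K7.f22813 IH) (Lpe (f72432 IH) (Lpn (LP (LK LD1_c5 LD2_c54 LD3_c27))))))))))))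
theorem f161154 : Led Lsl_ft (LP (LK LD1_c5 LD2_c54 LD3_c27)) = (LP (LK LD1_c6 LD2_c15 LD3_c46)) :=
  Lgr Lrot54 (Lpe (f104755 IH) (Lpr_ff (f161150 IH) (Lpr_df (K8.f149478 IH) (Lpn (LP (LK LD1_c6 LD2_c15 LD3_c46))))))
theorem f205810 : Led Lsl_cf (LP (LK LD1_c5 LD2_c54 LD3_c27)) = (LP (LK LD1_c5 LD2_c49 LD3_c60)) :=
  Lgr Lrot108 (Lpr_ft (f161154 IH) (Lpe (K8.f158449 IH) (Lpr_ft (f205802 IH) (Lpn (LP (LK LD1_c5 LD2_c49 LD3_c60))))))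
theorem f137306 : Led Lsl_bt (LP (LK LD1_c1 LD2_c22 LD3_c51)) = (LP (LK LD1_c2 LD2_c50 LD3_c0)) :=
  Lgr Lrot127 (Lpr_bf (K6.f137304 IH) (Lpn (LP (LK LD1_c2 LD2_c50 LD3_c0))))
theorem f117863 : Led Lsl_at (LP (LK LD1_c3 LD2_c4 LD3_c52)) = (LP (LK LD1_c2 LD2_c49 LD3_c55)) :=
  Lgr Lrot100 (Lpr_af (K5.f117861 IH) (Lpn (LP (LK LD1_c2 LD2_c49 LD3_c55))))
theorem f132310 : Led Lsl_ff (LP (LK LD1_c3 LD2_c50 LD3_c30)) = (LP (LK LD1_c2 LD2_c51 LD3_c57)) :=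
  Lgr Lrot19 (Lpr_dt (K5.f12284 IH) (Lpr_ft (K5.f132298 IH) (Lpe (K4.f112181 IH) (Lpn (LP (LK LD1_c2 LD2_c51 LD3_c57))))))
theorem f132321 : Led Lsl_ff (LP (LK LD1_c3 LD2_c4 LD3_c52)) = (LP (LK LD1_c2 LD2_c50 LD3_c0)) :=
  Lgr Lrot23 (Lpe (K4.f112347 IH) (Lpe (f132310 IH) (Lpr_ct (K5.f132314 IH) (Lpn (LP (LK LD1_c2 LD2_c50 LD3_c0))))))
theorem f157610 : Led Lsl_gt (LP (LK LD1_c2 LD2_c50 LD3_c0)) = (LP (LK LD1_c1 LD2_c23 LD3_c50)) :=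
  Lgr Lrot5 (Lpe (f132321 IH) (Lpr_at (f117863 IH) (Lpr_gf (K8.f157603 IH) (Lpn (LP (LK LD1_c1 LD2_c23 LD3_c50))))))
theorem f99933 : Led Lsl_ct (LP (LK LD1_c1 LD2_c23 LD3_c50)) = (LP (LK LD1_c2 LD2_c55 LD3_c46)) :=
  Lre_c IH (LK LD1_c1 LD2_c23 LD3_c50) (LK LD1_c2 LD2_c55 LD3_c46) Lrfl Lrfl
theorem f205812 : Led Lsl_bf (LP (LK LD1_c4 LD2_c25 LD3_c48)) = (LP (LK LD1_c5 LD2_c49 LD3_c60)) :=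
  Lgr Lrot34 (Lpr_gf (K8.f157190 IH) (Lpe (K8.f157201 IH) (Lpr_ct (K8.f136257 IH) (Lpe (K8.f157980 IH) (Lpe (f99933 IH) (Lpe (f157610 IH) (Lpe (f137306 IH) (Lpr_ct (K2.f61206 IH) (Lpe (f72432 IH) (Lpr_cf (f205810 IH) (Lpn (LP (LK LD1_c5 LD2_c49 LD3_c60)))))))))))))
theorem f138867 : Led Lsl_ft (LP (LK LD1_c4 LD2_c25 LD3_c50)) = (LP (LK LD1_c2 LD2_c10 LD3_c13)) :=
  Lre_f IH (LK LD1_c4 LD2_c25 LD3_c50) (LK LD1_c2 LD2_c10 LD3_c13) Lrfl Lrfl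
theorem f158146 : Led Lsl_ft (LP (LK LD1_c4 LD2_c25 LD3_c48)) = (LP (LK LD1_c5 LD2_c47 LD3_c55)) :=
  Lgr Lrot54 (Lpe (K6.f99665 IH) (Lpe (f138867 IH) (Lpr_df (K8.f158139 IH) (Lpn (LP (LK LD1_c5 LD2_c47 LD3_c55))))))
theorem f205814 : Led Lsl_bt (LP (LK LD1_c5 LD2_c47 LD3_c55)) = (LP (LK LD1_c4 LD2_c58 LD3_c53)) :=
  Lgr Lrot35 (Lpe (f158146 IH) (Lpr_bf (f205812 IH) (Lpe (f205802 IH) (Lpn (LP (LK LD1_c4 LD2_c58 LD3_c53))))))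
theorem f142094 : Led Lsl_et (LP (LK LD1_c11 LD2_c25 LD3_c27)) = (LP (LK LD1_c5 LD2_c47 LD3_c55)) :=
  Lre_e IH (LK LD1_c11 LD2_c25 LD3_c27) (LK LD1_c5 LD2_c47 LD3_c55) Lrfl Lrfl
theorem f158456 : Led Lsl_et (LP (LK LD1_c4 LD2_c58 LD3_c53)) = (LP (LK LD1_c9 LD2_c48 LD3_c8)) :=
  Lre_e IH (LK LD1_c4 LD2_c58 LD3_c53) (LK LD1_c9 LD2_c48 LD3_c8) Lrfl Lrfl
theorem f205818 : Led Lsl_bf (LP (LK LD1_c11 LD2_c25 LD3_c27)) = (LP (LK LD1_c9 LD2_c48 LD3_c8)) :=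
  Lgr Lrot96 (Lpr_et (f142094 IH) (Lpr_bt (f205814 IH) (Lpr_et (f158456 IH) (Lpn (LP (LK LD1_c9 LD2_c48 LD3_c8))))))
theorem f206715 : Led Lsl_bt (LP (LK LD1_c11 LD2_c25 LD3_c27)) = (LP (LK LD1_c9 LD2_c48 LD3_c8)) :=
  Lgr Lrot127 (Lpr_bf (f205818 IH) (Lpn (LP (LK LD1_c9 LD2_c48 LD3_c8))))
theorem f139048 : Led Lsl_at (LP (LK LD1_c9 LD2_c48 LD3_c8)) = (LP (LK LD1_c4 LD2_c58 LD3_c58)) :=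
  Lre_a IH (LK LD1_c9 LD2_c48 LD3_c8) (LK LD1_c4 LD2_c58 LD3_c58) Lrfl Lrfl
theorem f139047 : Led Lsl_bt (LP (LK LD1_c4 LD2_c58 LD3_c58)) = (LP (LK LD1_c2 LD2_c27 LD3_c25)) :=
  Lre_b IH (LK LD1_c4 LD2_c58 LD3_c58) (LK LD1_c2 LD2_c27 LD3_c25) Lrfl Lrfl
theorem f139046 : Led Lsl_at (LP (LK LD1_c2 LD2_c27 LD3_c25)) = (LP (LK LD1_c4 LD2_c58 LD3_c46)) :=
  Lre_a IH (LK LD1_c2 LD2_c27 LD3_c25) (LK LD1_c4 LD2_c58 LD3_c46) Lrfl Lrfl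
theorem f138984 : Led Lsl_bf (LP (LK LD1_c8 LD2_c49 LD3_c20)) = (LP (LK LD1_c4 LD2_c58 LD3_c46)) :=
  Lgr Lrot24 (Lpr_bt (K8.f138978 IH) (Lpn (LP (LK LD1_c4 LD2_c58 LD3_c46))))
theorem f206717 : Led Lsl_af (LP (LK LD1_c11 LD2_c25 LD3_c27)) = (LP (LK LD1_c8 LD2_c49 LD3_c20)) :=
  Lgr Lrot36 (Lpr_bt (f206715 IH) (Lpr_at (f139048 IH) (Lpr_bt (f139047 IH) (Lpr_at (f139046 IH) (Lpe (f138984 IH) (Lpn (LP (LK LD1_c8 LD2_c49 LD3_c20))))))))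
theorem f206723 : Led Lsl_at (LP (LK LD1_c5 LD2_c47 LD3_c55)) = (LP (LK LD1_c4 LD2_c25 LD3_c61)) :=
  Lgr Lrot80 (Lpe (f142094 IH) (Lpr_af (f206717 IH) (Lpe (K8.f99970 IH) (Lpn (LP (LK LD1_c4 LD2_c25 LD3_c61))))))
theorem f206725 : Led Lsl_af (LP (LK LD1_c4 LD2_c39 LD3_c58)) = (LP (LK LD1_c3 LD2_c2 LD3_c4)) :=
  Lgr Lrot68 (Lpr_ct (K8.f142091 IH) (Lpr_at (f206723 IH) (Lpr_ct (K6.f99968 IH) (Lpn (LP (LK LD1_c3 LD2_c2 LD3_c4))))))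
theorem f150186 : Led Lsl_df (LP (LK LD1_c3 LD2_c17 LD3_c50)) = (LP (LK LD1_c4 LD2_c39 LD3_c58)) :=
  Lgr Lrot162 (Lpe (K7.f139592 IH) (Lpe (K7.f139593 IH) (Lpr_cf (K7.f150175 IH) (Lpe (K7.f100291 IH) (Lpr_dt (K6.f99997 IH) (Lpr_gt (K4.f100249 IH) (Lpe (K4.f100250 IH) (Lpr_gt (K8.f100289 IH) (Lpe (K8.f142089 IH) (Lpn (LP (LK LD1_c4 LD2_c39 LD3_c58))))))))))))
theorem f206729 : Led Lsl_at (LP (LK LD1_c3 LD2_c17 LD3_c50)) = (LP (LK LD1_c4 LD2_c38 LD3_c8)) :=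
  Lgr Lrot51 (Lpr_df (f150186 IH) (Lpr_af (f206725 IH) (Lpe (K6.f99995 IH) (Lpn (LP (LK LD1_c4 LD2_c38 LD3_c8))))))
theorem f206736 : Led Lsl_ff (LP (LK LD1_c3 LD2_c17 LD3_c50)) = (LP (LK LD1_c4 LD2_c38 LD3_c7)) :=
  Lgr Lrot52 (Lpr_at (f206729 IH) (Lpe (K6.f15594 IH) (Lpe (K6.f15577 IH) (Lpn (LP (LK LD1_c4 LD2_c38 LD3_c7))))))
theorem f206745 : Led Lsl_ft (LP (LK LD1_c3 LD2_c17 LD3_c50)) = (LP (LK LD1_c4 LD2_c38 LD3_c7)) :=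
  Lgr Lrot48 (Lpr_ff (f206736 IH) (Lpn (LP (LK LD1_c4 LD2_c38 LD3_c7))))
theorem f206751 : Led Lsl_af (LP (LK LD1_c3 LD2_c17 LD3_c51)) = (LP (LK LD1_c4 LD2_c38 LD3_c7)) :=
  Lgr Lrot31 (Lpe (K8.f14097 IH) (Lpe (K7.f15563 IH) (Lpr_ft (f206745 IH) (Lpn (LP (LK LD1_c4 LD2_c38 LD3_c7))))))
theorem f206731 : Led Lsl_af (LP (LK LD1_c3 LD2_c17 LD3_c50)) = (LP (LK LD1_c4 LD2_c38 LD3_c8)) :=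
  Lgr Lrot0 (Lpr_at (f206729 IH) (Lpn (LP (LK LD1_c4 LD2_c38 LD3_c8))))
theorem f206761 : Led Lsl_ft (LP (LK LD1_c3 LD2_c17 LD3_c51)) = (LP (LK LD1_c4 LD2_c38 LD3_c8)) :=
  Lgr Lrot101 (Lpr_af (f206751 IH) (Lpe (f206745 IH) (Lpr_af (f206731 IH) (Lpn (LP (LK LD1_c4 LD2_c38 LD3_c8))))))
theorem f206768 : Led Lsl_ff (LP (LK LD1_c3 LD2_c17 LD3_c51)) = (LP (LK LD1_c4 LD2_c38 LD3_c8)) :=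
  Lgr Lrot3 (Lpr_ft (f206761 IH) (Lpn (LP (LK LD1_c4 LD2_c38 LD3_c8))))
theorem f17124 : Led Lsl_ct (LP (LK LD1_c3 LD2_c17 LD3_c51)) = (LP (LK LD1_c6 LD2_c39 LD3_c14)) :=
  Lre_c IH (LK LD1_c3 LD2_c17 LD3_c51) (LK LD1_c6 LD2_c39 LD3_c14) Lrfl Lrfl
theorem f206770 : Led Lsl_ft (LP (LK LD1_c6 LD2_c39 LD3_c14)) = (LP (LK LD1_c5 LD2_c50 LD3_c15)) :=
  Lgr Lrot4 (Lpe (f17124 IH) (Lpr_ff (f206768 IH) (Lpe (K6.f139756 IH) (Lpn (LP (LK LD1_c5 LD2_c50 LD3_c15))))))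
theorem f99703 : Led Lsl_at (LP (LK LD1_c8 LD2_c48 LD3_c54)) = (LP (LK LD1_c4 LD2_c25 LD3_c52)) :=
  Lre_a IH (LK LD1_c8 LD2_c48 LD3_c54) (LK LD1_c4 LD2_c25 LD3_c52) Lrfl Lrfl
theorem f158709 : Led Lsl_af (LP (LK LD1_c6 LD2_c39 LD3_c12)) = (LP (LK LD1_c5 LD2_c50 LD3_c15)) :=
  Lgr Lrot117 (Lpr_dt (K8.f158707 IH) (Lpr_at (f99703 IH) (Lpe (K6.f139761 IH) (Lpn (LP (LK LD1_c5 LD2_c50 LD3_c15))))))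
theorem f206776 : Led Lsl_gt (LP (LK LD1_c6 LD2_c39 LD3_c14)) = (LP (LK LD1_c12 LD2_c44 LD3_c7)) :=
  Lgr Lrot5 (Lpr_ft (f206770 IH) (Lpe (f158709 IH) (Lpe (K7.f139593 IH) (Lpn (LP (LK LD1_c12 LD2_c44 LD3_c7))))))
theorem f132535 : Led Lsl_ct (LP (LK LD1_c3 LD2_c17 LD3_c43)) = (LP (LK LD1_c6 LD2_c38 LD3_c57)) :=
  Lre_c IH (LK LD1_c3 LD2_c17 LD3_c43) (LK LD1_c6 LD2_c38 LD3_c57) Lrfl Lrfl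
theorem f150163 : Led Lsl_dt (LP (LK LD1_c12 LD2_c44 LD3_c7)) = (LP (LK LD1_c9 LD2_c9 LD3_c35)) :=
  Lgr Lrot6 (Lpr_gt (K7.f139593 IH) (Lpr_ct (K7.f139592 IH) (Lpr_gt (K7.f15563 IH) (Lpe (K7.f139563 IH) (Lpr_df (K7.f139566 IH) (Lpe (K7.f139590 IH) (Lpe (K7.f37894 IH) (Lpe (K7.f139594 IH) (Lpr_gf (K7.f150161 IH) (Lpn (LP (LK LD1_c9 LD2_c9 LD3_c35))))))))))))
theorem f206780 : Led Lsl_df (LP (LK LD1_c6 LD2_c38 LD3_c57)) = (LP (LK LD1_c8 LD2_c49 LD3_c35)) :=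
  Lgr Lrot84 (Lpe (f132535 IH) (Lpe (K8.f132534 IH) (Lpe (K7.f26508 IH) (Lpe (K6.f139612 IH) (Lpe (K8.f65995 IH) (Lpe (K8.f139736 IH) (Lpr_gt (f206776 IH) (Lpr_dt (f150163 IH) (Lpe (K7.f150161 IH) (Lpn (LP (LK LD1_c8 LD2_c49 LD3_c35))))))))))))
theorem f206782 : Led Lsl_dt (LP (LK LD1_c6 LD2_c38 LD3_c57)) = (LP (LK LD1_c8 LD2_c49 LD3_c35)) :=
  Lgr Lrot42 (Lpr_df (f206780 IH) (Lpn (LP (LK LD1_c8 LD2_c49 LD3_c35))))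
theorem f17278 : Led Lsl_ct (LP (LK LD1_c4 LD2_c26 LD3_c8)) = (LP (LK LD1_c2 LD2_c10 LD3_c21)) :=
  Lre_c IH (LK LD1_c4 LD2_c26 LD3_c8) (LK LD1_c2 LD2_c10 LD3_c21) Lrfl Lrfl
theorem f206789 : Led Lsl_df (LP (LK LD1_c6 LD2_c44 LD3_c34)) = (LP (LK LD1_c8 LD2_c49 LD3_c38)) :=
  Lgr Lrot155 (Lpe (K8.f141883 IH) (Lpr_ct (K5.f63514 IH) (Lpr_gt (K8.f147490 IH) (Lpr_ct (f132535 IH) (Lpr_dt (f206782 IH) (Lpe (K7.f40088 IH) (Lpe (K7.f40086 IH) (Lpe (f17278 IH) (Lpe (K8.f14762 IH) (Lpn (LP (LK LD1_c8 LD2_c49 LD3_c38))))))))))))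
theorem f56831 : Led Lsl_dt (LP (LK LD1_c3 LD2_c20 LD3_c20)) = (LP (LK LD1_c1 LD2_c36 LD3_c33)) :=
  Lre_d IH (LK LD1_c3 LD2_c20 LD3_c20) (LK LD1_c1 LD2_c36 LD3_c33) Lrfl Lrfl
theorem f161531 : Led Lsl_ct (LP (LK LD1_c5 LD2_c46 LD3_c47)) = (LP (LK LD1_c8 LD2_c49 LD3_c38)) :=
  Lgr Lrot8 (Lpr_gt (K8.f161527 IH) (Lpr_dt (K7.f24202 IH) (Lpe (K7.f149001 IH) (Lpr_dt (K7.f141258 IH) (Lpe (K6.f141288 IH) (Lpe (K6.f139671 IH) (Lpr_gf (K7.f139668 IH) (Lpe (K8.f114923 IH) (Lpe (K8.f14762 IH) (Lpn (LP (LK LD1_c8 LD2_c49 LD3_c38))))))))))))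
theorem f206791 : Led Lsl_dt (LP (LK LD1_c0 LD2_c44 LD3_c44)) = (LP (LK LD1_c1 LD2_c20 LD3_c40)) :=
  Lgr Lrot173 (Lpe (K6.f57107 IH) (Lpe (f56831 IH) (Lpr_cf (K6.f147492 IH) (Lpe (K8.f147478 IH) (Lpe (K6.f147473 IH) (Lpe (K6.f72987 IH) (Lpe (K7.f72986 IH) (Lpe (K6.f116865 IH) (Lpe (K6.f62198 IH) (Lpe (K8.f116892 IH) (Lpe (K8.f116893 IH) (Lpr_df (f206789 IH) (Lpe (f161531 IH) (Lpe (K8.f142085 IH) (Lpe (K4.f73024 IH) (Lpn (LP (LK LD1_c1 LD2_c20 LD3_c40))))))))))))))))))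
theorem f156919 : Led Lsl_ft (LP (LK LD1_c6 LD2_c31 LD3_c23)) = (LP (LK LD1_c4 LD2_c26 LD3_c17)) :=
  Lgr Lrot48 (Lpr_ff (K7.f156899 IH) (Lpn (LP (LK LD1_c4 LD2_c26 LD3_c17))))
theorem f206808 : Led Lsl_at (LP (LK LD1_c4 LD2_c26 LD3_c17)) = (LP (LK LD1_c8 LD2_c49 LD3_c38)) :=
  Lgr Lrot33 (Lpe (f156919 IH) (Lpr_dt (K8.f147478 IH) (Lpe (K6.f147492 IH) (Lpr_dt (f56831 IH) (Lpr_ct (K6.f57107 IH) (Lpr_dt (f206791 IH) (Lpr_ct (K4.f73024 IH) (Lpr_dt (K8.f142085 IH) (Lpr_ct (f161531 IH) (Lpn (LP (LK LD1_c8 LD2_c49 LD3_c38))))))))))))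
theorem f206836 : Led Lsl_af (LP (LK LD1_c3 LD2_c43 LD3_c10)) = (LP (LK LD1_c6 LD2_c44 LD3_c34)) :=
  Lgr Lrot117 (Lpe (K8.f156943 IH) (Lpr_at (f206808 IH) (Lpe (f206789 IH) (Lpn (LP (LK LD1_c6 LD2_c44 LD3_c34))))))
theorem f156926 : Led Lsl_ct (LP (LK LD1_c3 LD2_c12 LD3_c27)) = (LP (LK LD1_c3 LD2_c43 LD3_c10)) :=
  Lgr Lrot59 (Lpr_cf (K7.f156923 IH) (Lpn (LP (LK LD1_c3 LD2_c43 LD3_c10))))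
theorem f152564 : Led Lsl_dt (LP (LK LD1_c2 LD2_c16 LD3_c4)) = (LP (LK LD1_c3 LD2_c12 LD3_c27)) :=
  Lgr Lrot42 (Lpr_df (K7.f152532 IH) (Lpn (LP (LK LD1_c3 LD2_c12 LD3_c27))))
theorem f60859 : Led Lsl_ct (LP (LK LD1_c2 LD2_c17 LD3_c0)) = (LP (LK LD1_c1 LD2_c5 LD3_c26)) :=
  Lre_c IH (LK LD1_c2 LD2_c17 LD3_c0) (LK LD1_c1 LD2_c5 LD3_c26) Lrfl Lrfl
theorem f156956 : Led Lsl_ff (LP (LK LD1_c3 LD2_c13 LD3_c55)) = (LP (LK LD1_c3 LD2_c43 LD3_c10)) :=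
  Lgr Lrot3 (Lpr_ft (K8.f156946 IH) (Lpn (LP (LK LD1_c3 LD2_c43 LD3_c10))))
theorem f206840 : Led Lsl_at (LP (LK LD1_c3 LD2_c13 LD3_c55)) = (LP (LK LD1_c6 LD2_c31 LD3_c22)) :=
  Lre_a IH (LK LD1_c3 LD2_c13 LD3_c55) (LK LD1_c6 LD2_c31 LD3_c22) Lrfl Lrfl
theorem f206841 : Led Lsl_ft (LP (LK LD1_c6 LD2_c31 LD3_c22)) = (LP (LK LD1_c6 LD2_c44 LD3_c34)) :=
  Lgr Lrot101 (Lpe (f206840 IH) (Lpr_ff (f156956 IH) (Lpr_af (f206836 IH) (Lpn (LP (LK LD1_c6 LD2_c44 LD3_c34))))))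
theorem f206845 : Led Lsl_df (LP (LK LD1_c4 LD2_c26 LD3_c16)) = (LP (LK LD1_c6 LD2_c31 LD3_c22)) :=
  Lgr Lrot157 (Lpe (K7.f80121 IH) (Lpr_dt (K7.f79955 IH) (Lpr_ct (f60859 IH) (Lpr_dt (K8.f79943 IH) (Lpr_ct (K5.f40639 IH) (Lpr_dt (f152564 IH) (Lpr_ct (f156926 IH) (Lpr_af (f206836 IH) (Lpe (f206841 IH) (Lpn (LP (LK LD1_c6 LD2_c31 LD3_c22))))))))))))
theorem f206847 : Led Lsl_at (LP (LK LD1_c4 LD2_c26 LD3_c16)) = (LP (LK LD1_c6 LD2_c31 LD3_c23)) :=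
  Lgr Lrot51 (Lpr_df (f206845 IH) (Lpe (f206840 IH) (Lpe (K8.f147478 IH) (Lpn (LP (LK LD1_c6 LD2_c31 LD3_c23))))))
theorem f16125 : Led Lsl_bt (LP (LK LD1_c8 LD2_c49 LD3_c60)) = (LP (LK LD1_c4 LD2_c26 LD3_c16)) :=
  Lre_b IH (LK LD1_c8 LD2_c49 LD3_c60) (LK LD1_c4 LD2_c26 LD3_c16) Lrfl Lrfl
theorem f148133 : Led Lsl_bt (LP (LK LD1_c3 LD2_c43 LD3_c17)) = (LP (LK LD1_c7 LD2_c27 LD3_c11)) :=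
  Lre_b IH (LK LD1_c3 LD2_c43 LD3_c17) (LK LD1_c7 LD2_c27 LD3_c11) Lrfl Lrfl
theorem f209314 : Led Lsl_af (LP (LK LD1_c8 LD2_c49 LD3_c60)) = (LP (LK LD1_c7 LD2_c27 LD3_c11)) :=
  Lgr Lrot36 (Lpr_bt (f16125 IH) (Lpr_at (f206847 IH) (Lpr_bt (K6.f147436 IH) (Lpr_at (K7.f148118 IH) (Lpr_bt (f148133 IH) (Lpn (LP (LK LD1_c7 LD2_c27 LD3_c11))))))))
theorem f159010 : Led Lsl_dt (LP (LK LD1_c3 LD2_c43 LD3_c16)) = (LP (LK LD1_c7 LD2_c27 LD3_c11)) :=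
  Lre_d IH (LK LD1_c3 LD2_c43 LD3_c16) (LK LD1_c7 LD2_c27 LD3_c11) Lrfl Lrfl
theorem f209325 : Led Lsl_at (LP (LK LD1_c7 LD2_c27 LD3_c10)) = (LP (LK LD1_c3 LD2_c43 LD3_c16)) :=
  Lre_a IH (LK LD1_c7 LD2_c27 LD3_c10) (LK LD1_c3 LD2_c43 LD3_c16) Lrfl Lrfl
theorem f209326 : Led Lsl_dt (LP (LK LD1_c8 LD2_c49 LD3_c60)) = (LP (LK LD1_c7 LD2_c27 LD3_c10)) :=
  Lgr Lrot44 (Lpr_af (f209314 IH) (Lpe (f159010 IH) (Lpe (f209325 IH) (Lpn (LP (LK LD1_c7 LD2_c27 LD3_c10))))))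
theorem f209330 : Led Lsl_df (LP (LK LD1_c8 LD2_c49 LD3_c60)) = (LP (LK LD1_c7 LD2_c27 LD3_c10)) :=
  Lgr Lrot38 (Lpr_dt (f209326 IH) (Lpn (LP (LK LD1_c7 LD2_c27 LD3_c10))))
theorem f206849 : Led Lsl_dt (LP (LK LD1_c4 LD2_c26 LD3_c16)) = (LP (LK LD1_c6 LD2_c31 LD3_c22)) :=
  Lgr Lrot42 (Lpr_df (f206845 IH) (Lpn (LP (LK LD1_c6 LD2_c31 LD3_c22))))
theorem f209333 : Led Lsl_bt (LP (LK LD1_c6 LD2_c31 LD3_c22)) = (LP (LK LD1_c7 LD2_c27 LD3_c10)) :=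
  Lgr Lrot95 (Lpe (f206849 IH) (Lpe (f16125 IH) (Lpr_df (f209330 IH) (Lpn (LP (LK LD1_c7 LD2_c27 LD3_c10))))))
theorem f148114 : Led Lsl_bt (LP (LK LD1_c3 LD2_c43 LD3_c16)) = (LP (LK LD1_c1 LD2_c48 LD3_c42)) :=
  Lre_b IH (LK LD1_c3 LD2_c43 LD3_c16) (LK LD1_c1 LD2_c48 LD3_c42) Lrfl Lrfl
theorem f209335 : Led Lsl_af (LP (LK LD1_c1 LD2_c33 LD3_c31)) = (LP (LK LD1_c1 LD2_c48 LD3_c42)) :=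
  Lgr Lrot36 (Lpr_bt (K6.f22623 IH) (Lpr_at (f206840 IH) (Lpr_bt (f209333 IH) (Lpr_at (f209325 IH) (Lpr_bt (f148114 IH) (Lpn (LP (LK LD1_c1 LD2_c48 LD3_c42))))))))
theorem f148049 : Led Lsl_gf (LP (LK LD1_c3 LD2_c13 LD3_c54)) = (LP (LK LD1_c1 LD2_c33 LD3_c34)) :=
  Lgr Lrot144 (Lpr_dt (K7.f148045 IH) (Lpr_gt (K7.f23615 IH) (Lpr_dt (K7.f23614 IH) (Lpe (K4.f23616 IH) (Lpe (K4.f23601 IH) (Lpe (K0.f20870 IH) (Lpe (K0.f23675 IH) (Lpe (K2.f22503 IH) (Lpe (K7.f22627 IH) (Lpn (LP (LK LD1_c1 LD2_c33 LD3_c34))))))))))))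
theorem f209339 : Led Lsl_ft (LP (LK LD1_c1 LD2_c33 LD3_c34)) = (LP (LK LD1_c1 LD2_c48 LD3_c42)) :=
  Lgr Lrot2 (Lpe (f148049 IH) (Lpr_gt (K7.f147466 IH) (Lpr_af (f209335 IH) (Lpn (LP (LK LD1_c1 LD2_c48 LD3_c42))))))
theorem f209343 : Led Lsl_ff (LP (LK LD1_c0 LD2_c43 LD3_c23)) = (LP (LK LD1_c0 LD2_c51 LD3_c7)) :=
  Lgr Lrot23 (Lpr_ct (K6.f94213 IH) (Lpr_ft (f209339 IH) (Lpr_ct (K7.f148090 IH) (Lpn (LP (LK LD1_c0 LD2_c51 LD3_c7))))))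
theorem f94210 : Led Lsl_bt (LP (LK LD1_c0 LD2_c43 LD3_c23)) = (LP (LK LD1_c1 LD2_c33 LD3_c33)) :=
  Lre_b IH (LK LD1_c0 LD2_c43 LD3_c23) (LK LD1_c1 LD2_c33 LD3_c33) Lrfl Lrfl
theorem f64389 : Led Lsl_bt (LP (LK LD1_c1 LD2_c48 LD3_c41)) = (LP (LK LD1_c0 LD2_c51 LD3_c7)) :=
  Lre_b IH (LK LD1_c1 LD2_c48 LD3_c41) (LK LD1_c0 LD2_c51 LD3_c7) Lrfl Lrfl
theorem f209528 : Led Lsl_ft (LP (LK LD1_c1 LD2_c33 LD3_c33)) = (LP (LK LD1_c1 LD2_c48 LD3_c41)) :=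
  Lgr Lrot75 (Lpe (f94210 IH) (Lpr_ff (f209343 IH) (Lpe (f64389 IH) (Lpn (LP (LK LD1_c1 LD2_c48 LD3_c41))))))
theorem f91978 : Led Lsl_gt (LP (LK LD1_c0 LD2_c46 LD3_c12)) = (LP (LK LD1_c1 LD2_c39 LD3_c24)) :=
  Lre_g IH (LK LD1_c0 LD2_c46 LD3_c12) (LK LD1_c1 LD2_c39 LD3_c24) Lrfl Lrfl
theorem f209535 : Led Lsl_af (LP (LK LD1_c1 LD2_c39 LD3_c24)) = (LP (LK LD1_c1 LD2_c48 LD3_c41)) :=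
  Lgr Lrot31 (Lpe (f91978 IH) (Lpe (K2.f94205 IH) (Lpr_ft (f209528 IH) (Lpn (LP (LK LD1_c1 LD2_c48 LD3_c41))))))
theorem f148113 : Led Lsl_bt (LP (LK LD1_c0 LD2_c51 LD3_c7)) = (LP (LK LD1_c1 LD2_c48 LD3_c41)) :=
  Lre_b IH (LK LD1_c0 LD2_c51 LD3_c7) (LK LD1_c1 LD2_c48 LD3_c41) Lrfl Lrfl
theorem f109382 : Led Lsl_af (LP (LK LD1_c0 LD2_c45 LD3_c18)) = (LP (LK LD1_c0 LD2_c39 LD3_c59)) :=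
  Lgr Lrot68 (Lpr_ct (K3.f109380 IH) (Lpr_at (K3.f21161 IH) (Lpr_ct (K2.f21157 IH) (Lpn (LP (LK LD1_c0 LD2_c39 LD3_c59))))))
theorem f148086 : Led Lsl_at (LP (LK LD1_c0 LD2_c43 LD3_c22)) = (LP (LK LD1_c0 LD2_c51 LD3_c7)) :=
  Lgr Lrot51 (Lpe (K6.f147508 IH) (Lpr_af (f109382 IH) (Lpr_df (K7.f148075 IH) (Lpn (LP (LK LD1_c0 LD2_c51 LD3_c7))))))
theorem f206852 : Led Lsl_ft (LP (LK LD1_c4 LD2_c26 LD3_c16)) = (LP (LK LD1_c8 LD2_c49 LD3_c38)) :=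
  Lgr Lrot54 (Lpr_df (f206845 IH) (Lpe (K8.f147488 IH) (Lpr_df (f206789 IH) (Lpn (LP (LK LD1_c8 LD2_c49 LD3_c38))))))
theorem f206856 : Led Lsl_ff (LP (LK LD1_c4 LD2_c26 LD3_c16)) = (LP (LK LD1_c8 LD2_c49 LD3_c38)) :=
  Lgr Lrot3 (Lpr_ft (f206852 IH) (Lpn (LP (LK LD1_c8 LD2_c49 LD3_c38))))
theorem f206858 : Led Lsl_ft (LP (LK LD1_c4 LD2_c39 LD3_c56)) = (LP (LK LD1_c5 LD2_c46 LD3_c47)) :=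
  Lgr Lrot4 (Lpr_cf (K7.f80121 IH) (Lpr_ff (f206856 IH) (Lpe (f161531 IH) (Lpn (LP (LK LD1_c5 LD2_c46 LD3_c47))))))
theorem f142086 : Led Lsl_dt (LP (LK LD1_c5 LD2_c46 LD3_c47)) = (LP (LK LD1_c2 LD2_c49 LD3_c5)) :=
  Lre_d IH (LK LD1_c5 LD2_c46 LD3_c47) (LK LD1_c2 LD2_c49 LD3_c5) Lrfl Lrfl
theorem f206860 : Led Lsl_ff (LP (LK LD1_c2 LD2_c17 LD3_c0)) = (LP (LK LD1_c2 LD2_c49 LD3_c5)) :=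
  Lgr Lrot19 (Lpr_dt (K7.f79949 IH) (Lpr_ft (f206858 IH) (Lpr_dt (f142086 IH) (Lpn (LP (LK LD1_c2 LD2_c49 LD3_c5))))))
theorem f206866 : Led Lsl_at (LP (LK LD1_c2 LD2_c17 LD3_c0)) = (LP (LK LD1_c2 LD2_c49 LD3_c6)) :=
  Lgr Lrot26 (Lpr_ff (f206860 IH) (Lpr_gt (K4.f73025 IH) (Lpr_gt (K5.f132574 IH) (Lpn (LP (LK LD1_c2 LD2_c49 LD3_c6))))))
theorem f206870 : Led Lsl_af (LP (LK LD1_c1 LD2_c5 LD3_c26)) = (LP (LK LD1_c1 LD2_c20 LD3_c41)) :=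
  Lgr Lrot68 (Lpr_ct (K7.f60862 IH) (Lpr_at (f206866 IH) (Lpr_ct (K5.f56600 IH) (Lpn (LP (LK LD1_c1 LD2_c20 LD3_c41))))))
theorem f206878 : Led Lsl_at (LP (LK LD1_c1 LD2_c4 LD3_c61)) = (LP (LK LD1_c0 LD2_c44 LD3_c45)) :=
  Lgr Lrot51 (Lpe (K8.f79943 IH) (Lpr_af (f206870 IH) (Lpe (K6.f116865 IH) (Lpn (LP (LK LD1_c0 LD2_c44 LD3_c45))))))
theorem f206886 : Led Lsl_ff (LP (LK LD1_c1 LD2_c4 LD3_c61)) = (LP (LK LD1_c0 LD2_c44 LD3_c44)) :=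
  Lgr Lrot52 (Lpr_at (f206878 IH) (Lpe (K6.f96652 IH) (Lpe (K4.f40100 IH) (Lpn (LP (LK LD1_c0 LD2_c44 LD3_c44))))))
theorem f206896 : Led Lsl_ft (LP (LK LD1_c1 LD2_c4 LD3_c61)) = (LP (LK LD1_c0 LD2_c44 LD3_c44)) :=
  Lgr Lrot48 (Lpr_ff (f206886 IH) (Lpn (LP (LK LD1_c0 LD2_c44 LD3_c44))))
theorem f80052 : Led Lsl_gt (LP (LK LD1_c0 LD2_c44 LD3_c46)) = (LP (LK LD1_c1 LD2_c5 LD3_c0)) :=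
  Lre_g IH (LK LD1_c0 LD2_c44 LD3_c46) (LK LD1_c1 LD2_c5 LD3_c0) Lrfl Lrfl
theorem f206908 : Led Lsl_af (LP (LK LD1_c1 LD2_c5 LD3_c0)) = (LP (LK LD1_c0 LD2_c44 LD3_c44)) :=
  Lgr Lrot31 (Lpe (f80052 IH) (Lpe (K4.f26401 IH) (Lpr_ft (f206896 IH) (Lpn (LP (LK LD1_c0 LD2_c44 LD3_c44))))))
theorem f80054 : Led Lsl_dt (LP (LK LD1_c4 LD2_c37 LD3_c56)) = (LP (LK LD1_c2 LD2_c16 LD3_c6)) :=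
  Lre_d IH (LK LD1_c4 LD2_c37 LD3_c56) (LK LD1_c2 LD2_c16 LD3_c6) Lrfl Lrfl
theorem f206910 : Led Lsl_ct (LP (LK LD1_c6 LD2_c31 LD3_c22)) = (LP (LK LD1_c4 LD2_c37 LD3_c56)) :=
  Lgr Lrot53 (Lpe (f206849 IH) (Lpe (K7.f80112 IH) (Lpe (K7.f79949 IH) (Lpe (K7.f60862 IH) (Lpr_df (K4.f79947 IH) (Lpr_ft (f206896 IH) (Lpe (f206908 IH) (Lpe (K7.f93905 IH) (Lpe (f80054 IH) (Lpn (LP (LK LD1_c4 LD2_c37 LD3_c56))))))))))))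
theorem f156953 : Led Lsl_ff (LP (LK LD1_c3 LD2_c20 LD3_c20)) = (LP (LK LD1_c3 LD2_c12 LD3_c27)) :=
  Lgr Lrot23 (Lpr_ct (K7.f147495 IH) (Lpr_ft (K8.f156946 IH) (Lpe (K7.f156923 IH) (Lpn (LP (LK LD1_c3 LD2_c12 LD3_c27))))))
theorem f206918 : Led Lsl_at (LP (LK LD1_c3 LD2_c20 LD3_c20)) = (LP (LK LD1_c4 LD2_c37 LD3_c56)) :=
  Lgr Lrot33 (Lpr_ff (f156953 IH) (Lpe (K7.f152532 IH) (Lpr_ct (K7.f40600 IH) (Lpe (K4.f79947 IH) (Lpr_ct (K7.f60862 IH) (Lpr_dt (K7.f79949 IH) (Lpr_ct (K7.f80112 IH) (Lpr_dt (f206849 IH) (Lpr_ct (f206910 IH) (Lpn (LP (LK LD1_c4 LD2_c37 LD3_c56))))))))))))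
theorem f206916 : Led Lsl_ff (LP (LK LD1_c3 LD2_c20 LD3_c25)) = (LP (LK LD1_c4 LD2_c37 LD3_c56)) :=
  Lgr Lrot23 (Lpr_ct (K8.f116967 IH) (Lpr_ft (K8.f147488 IH) (Lpr_ct (f206910 IH) (Lpn (LP (LK LD1_c4 LD2_c37 LD3_c56))))))
theorem f206924 : Led Lsl_af (LP (LK LD1_c3 LD2_c12 LD3_c27)) = (LP (LK LD1_c3 LD2_c20 LD3_c25)) :=
  Lgr Lrot45 (Lpe (f156953 IH) (Lpr_at (f206918 IH) (Lpe (f206916 IH) (Lpn (LP (LK LD1_c3 LD2_c20 LD3_c25))))))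
theorem f206926 : Led Lsl_at (LP (LK LD1_c2 LD2_c16 LD3_c4)) = (LP (LK LD1_c1 LD2_c36 LD3_c35)) :=
  Lgr Lrot51 (Lpr_df (K7.f152532 IH) (Lpr_af (f206924 IH) (Lpe (K8.f116966 IH) (Lpn (LP (LK LD1_c1 LD2_c36 LD3_c35))))))
theorem f206900 : Led Lsl_ff (LP (LK LD1_c2 LD2_c16 LD3_c4)) = (LP (LK LD1_c1 LD2_c36 LD3_c33)) :=
  Lgr Lrot23 (Lpr_ct (K7.f40600 IH) (Lpr_ft (f206896 IH) (Lpr_ct (K6.f56752 IH) (Lpn (LP (LK LD1_c1 LD2_c36 LD3_c33))))))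
theorem f206920 : Led Lsl_af (LP (LK LD1_c1 LD2_c36 LD3_c33)) = (LP (LK LD1_c2 LD2_c16 LD3_c6)) :=
  Lgr Lrot117 (Lpr_dt (K6.f56829 IH) (Lpr_at (f206918 IH) (Lpr_dt (f80054 IH) (Lpn (LP (LK LD1_c2 LD2_c16 LD3_c6))))))
theorem f207284 : Led Lsl_ff (LP (LK LD1_c2 LD2_c16 LD3_c6)) = (LP (LK LD1_c1 LD2_c36 LD3_c35)) :=
  Lgr Lrot30 (Lpe (f206920 IH) (Lpe (f206900 IH) (Lpr_at (f206926 IH) (Lpn (LP (LK LD1_c1 LD2_c36 LD3_c35))))))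
theorem f207293 : Led Lsl_ft (LP (LK LD1_c2 LD2_c16 LD3_c6)) = (LP (LK LD1_c1 LD2_c36 LD3_c35)) :=
  Lgr Lrot48 (Lpr_ff (f207284 IH) (Lpn (LP (LK LD1_c1 LD2_c36 LD3_c35))))
theorem f207301 : Led Lsl_ff (LP (LK LD1_c4 LD2_c37 LD3_c56)) = (LP (LK LD1_c3 LD2_c20 LD3_c25)) :=
  Lgr Lrot19 (Lpr_dt (f80054 IH) (Lpr_ft (f207293 IH) (Lpr_dt (K8.f116966 IH) (Lpn (LP (LK LD1_c3 LD2_c20 LD3_c25))))))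
theorem f206912 : Led Lsl_af (LP (LK LD1_c3 LD2_c20 LD3_c20)) = (LP (LK LD1_c4 LD2_c37 LD3_c56)) :=
  Lgr Lrot68 (Lpr_ct (K7.f147495 IH) (Lpr_at (f206840 IH) (Lpr_ct (f206910 IH) (Lpn (LP (LK LD1_c4 LD2_c37 LD3_c56))))))
theorem f206838 : Led Lsl_at (LP (LK LD1_c3 LD2_c12 LD3_c27)) = (LP (LK LD1_c3 LD2_c20 LD3_c25)) :=
  Lgr Lrot107 (Lpr_cf (K7.f156923 IH) (Lpr_af (f206836 IH) (Lpe (K8.f116967 IH) (Lpn (LP (LK LD1_c3 LD2_c20 LD3_c25))))))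
theorem f207401 : Led Lsl_ft (LP (LK LD1_c3 LD2_c20 LD3_c20)) = (LP (LK LD1_c3 LD2_c12 LD3_c27)) :=
  Lgr Lrot101 (Lpr_af (f206912 IH) (Lpr_ff (f207301 IH) (Lpe (f206838 IH) (Lpn (LP (LK LD1_c3 LD2_c12 LD3_c27))))))
theorem f83005 : Led Lsl_bt (LP (LK LD1_c3 LD2_c12 LD3_c27)) = (LP (LK LD1_c1 LD2_c32 LD3_c41)) :=
  Lre_b IH (LK LD1_c3 LD2_c12 LD3_c27) (LK LD1_c1 LD2_c32 LD3_c41) Lrfl Lrfl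
theorem f207409 : Led Lsl_ff (LP (LK LD1_c2 LD2_c19 LD3_c50)) = (LP (LK LD1_c1 LD2_c32 LD3_c41)) :=
  Lgr Lrot25 (Lpe (K8.f160763 IH) (Lpr_ft (f207401 IH) (Lpr_bt (f83005 IH) (Lpn (LP (LK LD1_c1 LD2_c32 LD3_c41))))))
theorem f207435 : Led Lsl_at (LP (LK LD1_c2 LD2_c19 LD3_c50)) = (LP (LK LD1_c1 LD2_c32 LD3_c40)) :=
  Lgr Lrot26 (Lpr_ff (f207409 IH) (Lpr_gt (K7.f26108 IH) (Lpr_gt (K5.f82364 IH) (Lpn (LP (LK LD1_c1 LD2_c32 LD3_c40))))))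
theorem f207440 : Led Lsl_af (LP (LK LD1_c1 LD2_c33 LD3_c30)) = (LP (LK LD1_c1 LD2_c31 LD3_c35)) :=
  Lgr Lrot68 (Lpr_ct (K8.f160759 IH) (Lpr_at (f207435 IH) (Lpe (K5.f128371 IH) (Lpn (LP (LK LD1_c1 LD2_c31 LD3_c35))))))
theorem f209539 : Led Lsl_bt (LP (LK LD1_c1 LD2_c39 LD3_c24)) = (LP (LK LD1_c1 LD2_c31 LD3_c35)) :=
  Lgr Lrot62 (Lpr_af (f209535 IH) (Lpe (f148113 IH) (Lpe (f148086 IH) (Lpe (K8.f22500 IH) (Lpr_af (f207440 IH) (Lpn (LP (LK LD1_c1 LD2_c31 LD3_c35))))))))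
theorem f91979 : Led Lsl_ct (LP (LK LD1_c1 LD2_c39 LD3_c24)) = (LP (LK LD1_c3 LD2_c25 LD3_c31)) :=
  Lre_c IH (LK LD1_c1 LD2_c39 LD3_c24) (LK LD1_c3 LD2_c25 LD3_c31) Lrfl Lrfl
theorem f68344 : Led Lsl_bt (LP (LK LD1_c0 LD2_c52 LD3_c0)) = (LP (LK LD1_c0 LD2_c23 LD3_c34)) :=
  Lre_b IH (LK LD1_c0 LD2_c52 LD3_c0) (LK LD1_c0 LD2_c23 LD3_c34) Lrfl Lrfl
theorem f209550 : Led Lsl_gt (LP (LK LD1_c3 LD2_c25 LD3_c31)) = (LP (LK LD1_c1 LD2_c50 LD3_c20)) :=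
  Lgr Lrot65 (Lpe (f91979 IH) (Lpr_bt (f209539 IH) (Lpr_gf (K5.f128349 IH) (Lpe (K5.f96236 IH) (Lpr_ct (K3.f58456 IH) (Lpe (K3.f96194 IH) (Lpe (K3.f65669 IH) (Lpe (K3.f65668 IH) (Lpe (f68344 IH) (Lpr_ct (K2.f23365 IH) (Lpn (LP (LK LD1_c1 LD2_c50 LD3_c20)))))))))))))
theorem f91980 : Led Lsl_ct (LP (LK LD1_c3 LD2_c25 LD3_c31)) = (LP (LK LD1_c1 LD2_c39 LD3_c24)) :=
  Lre_c IH (LK LD1_c3 LD2_c25 LD3_c31) (LK LD1_c1 LD2_c39 LD3_c24) Lrfl Lrfl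
theorem f23704 : Led Lsl_ct (LP (LK LD1_c3 LD2_c13 LD3_c43)) = (LP (LK LD1_c1 LD2_c33 LD3_c25)) :=
  Lre_c IH (LK LD1_c3 LD2_c13 LD3_c43) (LK LD1_c1 LD2_c33 LD3_c25) Lrfl Lrfl
theorem f23705 : Led Lsl_dt (LP (LK LD1_c6 LD2_c31 LD3_c6)) = (LP (LK LD1_c3 LD2_c13 LD3_c43)) :=
  Lre_d IH (LK LD1_c6 LD2_c31 LD3_c6) (LK LD1_c3 LD2_c13 LD3_c43) Lrfl Lrfl
theorem f104302 : Led Lsl_bf (LP (LK LD1_c3 LD2_c44 LD3_c58)) = (LP (LK LD1_c2 LD2_c18 LD3_c7)) :=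
  Lgr Lrot90 (Lpr_ct (K2.f65861 IH) (Lpr_bt (K3.f91769 IH) (Lpr_ct (K3.f26160 IH) (Lpr_bt (K3.f26156 IH) (Lpr_ct (K3.f104299 IH) (Lpn (LP (LK LD1_c2 LD2_c18 LD3_c7))))))))
theorem f104306 : Led Lsl_gf (LP (LK LD1_c6 LD2_c31 LD3_c6)) = (LP (LK LD1_c3 LD2_c44 LD3_c58)) :=
  Lgr Lrot85 (Lpr_dt (f23705 IH) (Lpr_ct (f23704 IH) (Lpr_bt (K1.f66565 IH) (Lpr_gt (K1.f66557 IH) (Lpr_dt (K5.f24850 IH) (Lpe (K2.f21081 IH) (Lpr_bt (K2.f12705 IH) (Lpe (K0.f12684 IH) (Lpr_dt (K0.f167 IH) (Lpr_ct (K0.f11064 IH) (Lpr_bt (K2.f11075 IH) (Lpr_gt (K2.f11078 IH) (Lpe (K3.f98653 IH) (Lpr_ct (K3.f98696 IH) (Lpr_bt (K3.f98709 IH) (Lpe (K3.f98830 IH) (Lpr_dt (K3.f26166 IH) (Lpr_ct (K3.f104299 IH) (Lpe (f104302 IH) (Lpn (LP (LK LD1_c3 LD2_c44 LD3_c58))))))))))))))))))))))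
theorem f209554 : Led Lsl_gt (LP (LK LD1_c1 LD2_c39 LD3_c24)) = (LP (LK LD1_c0 LD2_c46 LD3_c22)) :=
  Lgr Lrot94 (Lpe (f91980 IH) (Lpr_gt (f209550 IH) (Lpe (K2.f95289 IH) (Lpe (f104306 IH) (Lpr_dt (f23705 IH) (Lpe (K1.f23701 IH) (Lpe (K2.f23700 IH) (Lpe (K2.f94653 IH) (Lpe (K3.f90887 IH) (Lpn (LP (LK LD1_c0 LD2_c46 LD3_c22))))))))))))
theorem f209546 : Led Lsl_df (LP (LK LD1_c1 LD2_c39 LD3_c24)) = (LP (LK LD1_c1 LD2_c31 LD3_c34)) :=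
  Lgr Lrot12 (Lpr_bt (f209539 IH) (Lpr_dt (K5.f82402 IH) (Lpr_bt (K5.f82405 IH) (Lpn (LP (LK LD1_c1 LD2_c31 LD3_c34))))))
theorem f97368 : Led Lsl_dt (LP (LK LD1_c1 LD2_c48 LD3_c34)) = (LP (LK LD1_c0 LD2_c51 LD3_c3)) :=
  Lre_d IH (LK LD1_c1 LD2_c48 LD3_c34) (LK LD1_c0 LD2_c51 LD3_c3) Lrfl Lrfl
theorem f124881 : Led Lsl_ct (LP (LK LD1_c1 LD2_c31 LD3_c34)) = (LP (LK LD1_c0 LD2_c45 LD3_c55)) :=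
  Lgr Lrot8 (Lpr_gt (K5.f82406 IH) (Lpe (K3.f78197 IH) (Lpe (K5.f124687 IH) (Lpr_dt (f97368 IH) (Lpe (K3.f97364 IH) (Lpe (K3.f86820 IH) (Lpr_gf (K3.f97366 IH) (Lpr_df (K2.f88644 IH) (Lpr_gf (K5.f124875 IH) (Lpn (LP (LK LD1_c0 LD2_c45 LD3_c55))))))))))))
theorem f124885 : Led Lsl_gt (LP (LK LD1_c0 LD2_c47 LD3_c48)) = (LP (LK LD1_c1 LD2_c31 LD3_c34)) :=
  Lgr Lrot9 (Lpe (K3.f17661 IH) (Lpe (K5.f107269 IH) (Lpr_ct (K5.f107332 IH) (Lpr_gt (K5.f90582 IH) (Lpr_ct (K2.f69277 IH) (Lpr_df (K3.f90567 IH) (Lpr_cf (K2.f90094 IH) (Lpr_gf (K5.f124875 IH) (Lpe (f124881 IH) (Lpn (LP (LK LD1_c1 LD2_c31 LD3_c34))))))))))))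
theorem f126081 : Led Lsl_ft (LP (LK LD1_c3 LD2_c27 LD3_c51)) = (LP (LK LD1_c3 LD2_c31 LD3_c54)) :=
  Lgr Lrot54 (Lpe (K7.f90279 IH) (Lpr_ff (K5.f126075 IH) (Lpe (K7.f12645 IH) (Lpn (LP (LK LD1_c3 LD2_c31 LD3_c54))))))
theorem f105945 : Led Lsl_ct (LP (LK LD1_c6 LD2_c57 LD3_c56)) = (LP (LK LD1_c3 LD2_c27 LD3_c51)) :=
  Lre_c IH (LK LD1_c6 LD2_c57 LD3_c56) (LK LD1_c3 LD2_c27 LD3_c51) Lrfl Lrfl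
theorem f154706 : Led Lsl_ff (LP (LK LD1_c6 LD2_c57 LD3_c56)) = (LP (LK LD1_c6 LD2_c22 LD3_c51)) :=
  Lgr Lrot23 (Lpr_ct (f105945 IH) (Lpr_ft (f126081 IH) (Lpr_ct (K7.f154696 IH) (Lpn (LP (LK LD1_c6 LD2_c22 LD3_c51))))))
theorem f154710 : Led Lsl_at (LP (LK LD1_c6 LD2_c57 LD3_c56)) = (LP (LK LD1_c6 LD2_c22 LD3_c52)) :=
  Lgr Lrot66 (Lpr_ff (f154706 IH) (Lpr_af (K7.f154694 IH) (Lpe (K7.f154663 IH) (Lpn (LP (LK LD1_c6 LD2_c22 LD3_c52))))))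
theorem f105944 : Led Lsl_ct (LP (LK LD1_c3 LD2_c27 LD3_c51)) = (LP (LK LD1_c6 LD2_c57 LD3_c56)) :=
  Lre_c IH (LK LD1_c3 LD2_c27 LD3_c51) (LK LD1_c6 LD2_c57 LD3_c56) Lrfl Lrfl
theorem f154657 : Led Lsl_ct (LP (LK LD1_c6 LD2_c22 LD3_c52)) = (LP (LK LD1_c3 LD2_c24 LD3_c25)) :=
  Lgr Lrot59 (Lpr_cf (K7.f154649 IH) (Lpn (LP (LK LD1_c3 LD2_c24 LD3_c25))))
theorem f154738 : Led Lsl_af (LP (LK LD1_c3 LD2_c27 LD3_c51)) = (LP (LK LD1_c3 LD2_c24 LD3_c25)) :=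
  Lgr Lrot68 (Lpr_ct (f105944 IH) (Lpr_at (f154710 IH) (Lpr_ct (f154657 IH) (Lpn (LP (LK LD1_c3 LD2_c24 LD3_c25))))))
theorem f153284 : Led Lsl_gf (LP (LK LD1_c6 LD2_c48 LD3_c4)) = (LP (LK LD1_c3 LD2_c27 LD3_c52)) :=
  Lgr Lrot147 (Lpr_ct (K7.f153280 IH) (Lpr_gt (K7.f83911 IH) (Lpr_ct (K7.f83808 IH) (Lpe (K3.f68357 IH) (Lpe (K7.f90182 IH) (Lpe (K5.f86726 IH) (Lpe (K3.f86730 IH) (Lpr_gf (K4.f106364 IH) (Lpe (K7.f19174 IH) (Lpn (LP (LK LD1_c3 LD2_c27 LD3_c52))))))))))))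
theorem f154740 : Led Lsl_gf (LP (LK LD1_c3 LD2_c27 LD3_c51)) = (LP (LK LD1_c6 LD2_c48 LD3_c4)) :=
  Lgr Lrot76 (Lpr_af (f154738 IH) (Lpe (K7.f126067 IH) (Lpe (f153284 IH) (Lpn (LP (LK LD1_c6 LD2_c48 LD3_c4))))))
theorem f94267 : Led Lsl_gt (LP (LK LD1_c0 LD2_c46 LD3_c23)) = (LP (LK LD1_c1 LD2_c39 LD3_c41)) :=
  Lre_g IH (LK LD1_c0 LD2_c46 LD3_c23) (LK LD1_c1 LD2_c39 LD3_c41) Lrfl Lrfl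
theorem f209558 : Led Lsl_et (LP (LK LD1_c3 LD2_c26 LD3_c1)) = (LP (LK LD1_c1 LD2_c39 LD3_c41)) :=
  Lre_e IH (LK LD1_c3 LD2_c26 LD3_c1) (LK LD1_c1 LD2_c39 LD3_c41) Lrfl Lrfl
theorem f209559 : Led Lsl_df (LP (LK LD1_c6 LD2_c48 LD3_c4)) = (LP (LK LD1_c3 LD2_c26 LD3_c1)) :=
  Lgr Lrot170 (Lpe (f154740 IH) (Lpe (K7.f90279 IH) (Lpr_et (K5.f90268 IH) (Lpr_gt (f124885 IH) (Lpe (f209546 IH) (Lpr_gt (f209554 IH) (Lpe (K2.f26118 IH) (Lpr_et (K3.f94265 IH) (Lpr_gt (f94267 IH) (Lpe (f209558 IH) (Lpn (LP (LK LD1_c3 LD2_c26 LD3_c1)))))))))))))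
theorem f153282 : Led Lsl_cf (LP (LK LD1_c6 LD2_c48 LD3_c4)) = (LP (LK LD1_c12 LD2_c13 LD3_c49)) :=
  Lgr Lrot11 (Lpr_ct (K7.f153280 IH) (Lpn (LP (LK LD1_c12 LD2_c13 LD3_c49))))
theorem f154957 : Led Lsl_gt (LP (LK LD1_c0 LD2_c41 LD3_c52)) = (LP (LK LD1_c1 LD2_c29 LD3_c31)) :=
  Lgr Lrot180 (Lpr_ct (K7.f154101 IH) (Lpr_gt (K7.f154955 IH) (Lpr_dt (K3.f18154 IH) (Lpe (K3.f92249 IH) (Lpr_dt (K2.f18081 IH) (Lpr_ct (K5.f68154 IH) (Lpe (K2.f68014 IH) (Lpr_gf (K2.f90612 IH) (Lpe (K2.f66815 IH) (Lpn (LP (LK LD1_c1 LD2_c29 LD3_c31))))))))))))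
theorem f88844 : Led Lsl_at (LP (LK LD1_c3 LD2_c28 LD3_c26)) = (LP (LK LD1_c1 LD2_c40 LD3_c58)) :=
  Lre_a IH (LK LD1_c3 LD2_c28 LD3_c26) (LK LD1_c1 LD2_c40 LD3_c58) Lrfl Lrfl
theorem f155055 : Led Lsl_gf (LP (LK LD1_c1 LD2_c43 LD3_c56)) = (LP (LK LD1_c1 LD2_c40 LD3_c52)) :=
  Lgr Lrot47 (Lpr_gt (K7.f155053 IH) (Lpe (f88844 IH) (Lpe (K3.f19419 IH) (Lpn (LP (LK LD1_c1 LD2_c40 LD3_c52))))))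
theorem f209566 : Led Lsl_ct (LP (LK LD1_c1 LD2_c43 LD3_c56)) = (LP (LK LD1_c3 LD2_c26 LD3_c1)) :=
  Lgr Lrot110 (Lpr_gf (f155055 IH) (Lpe (K2.f90106 IH) (Lpe (f154957 IH) (Lpe (K7.f154671 IH) (Lpr_gt (K7.f154796 IH) (Lpr_ct (K7.f154821 IH) (Lpe (K7.f154892 IH) (Lpe (f153282 IH) (Lpr_df (f209559 IH) (Lpn (LP (LK LD1_c3 LD2_c26 LD3_c1))))))))))))
theorem f209572 : Led Lsl_cf (LP (LK LD1_c1 LD2_c43 LD3_c56)) = (LP (LK LD1_c3 LD2_c26 LD3_c1)) :=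
  Lgr Lrot11 (Lpr_ct (f209566 IH) (Lpn (LP (LK LD1_c3 LD2_c26 LD3_c1))))
theorem f155038 : Led Lsl_ct (LP (LK LD1_c1 LD2_c30 LD3_c42)) = (LP (LK LD1_c1 LD2_c40 LD3_c58)) :=
  Lgr Lrot59 (Lpr_cf (K7.f155034 IH) (Lpn (LP (LK LD1_c1 LD2_c40 LD3_c58))))
theorem f85594 : Led Lsl_ct (LP (LK LD1_c1 LD2_c41 LD3_c7)) = (LP (LK LD1_c0 LD2_c47 LD3_c7)) :=
  Lre_c IH (LK LD1_c1 LD2_c41 LD3_c7) (LK LD1_c0 LD2_c47 LD3_c7) Lrfl Lrfl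
theorem f145636 : Led Lsl_ft (LP (LK LD1_c1 LD2_c53 LD3_c24)) = (LP (LK LD1_c3 LD2_c11 LD3_c60)) :=
  Lgr Lrot54 (Lpe (K3.f88763 IH) (Lpr_ff (K6.f145551 IH) (Lpe (K6.f145506 IH) (Lpn (LP (LK LD1_c3 LD2_c11 LD3_c60))))))
theorem f145695 : Led Lsl_af (LP (LK LD1_c3 LD2_c7 LD3_c1)) = (LP (LK LD1_c3 LD2_c11 LD3_c60)) :=
  Lgr Lrot45 (Lpr_ft (K7.f145693 IH) (Lpe (K3.f90358 IH) (Lpr_ft (f145636 IH) (Lpn (LP (LK LD1_c3 LD2_c11 LD3_c60))))))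
theorem f90204 : Led Lsl_bt (LP (LK LD1_c1 LD2_c29 LD3_c33)) = (LP (LK LD1_c3 LD2_c6 LD3_c50)) :=
  Lre_b IH (LK LD1_c1 LD2_c29 LD3_c33) (LK LD1_c3 LD2_c6 LD3_c50) Lrfl Lrfl
theorem f126636 : Led Lsl_ff (LP (LK LD1_c3 LD2_c7 LD3_c1)) = (LP (LK LD1_c3 LD2_c6 LD3_c50)) :=
  Lgr Lrot25 (Lpr_bt (K5.f126628 IH) (Lpr_ft (K2.f90206 IH) (Lpr_bt (f90204 IH) (Lpn (LP (LK LD1_c3 LD2_c6 LD3_c50))))))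
theorem f145681 : Led Lsl_et (LP (LK LD1_c3 LD2_c7 LD3_c1)) = (LP (LK LD1_c3 LD2_c7 LD3_c60)) :=
  Lgr Lrot69 (Lpr_ff (f126636 IH) (Lpe (K3.f83898 IH) (Lpe (K2.f90190 IH) (Lpe (K3.f76787 IH) (Lpr_ff (K7.f145675 IH) (Lpn (LP (LK LD1_c3 LD2_c7 LD3_c60))))))))
theorem f145673 : Led Lsl_af (LP (LK LD1_c3 LD2_c28 LD3_c38)) = (LP (LK LD1_c3 LD2_c7 LD3_c60)) :=
  Lgr Lrot0 (Lpr_at (K7.f145646 IH) (Lpn (LP (LK LD1_c3 LD2_c7 LD3_c60))))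
theorem f145705 : Led Lsl_et (LP (LK LD1_c3 LD2_c28 LD3_c38)) = (LP (LK LD1_c3 LD2_c11 LD3_c60)) :=
  Lgr Lrot123 (Lpr_af (f145673 IH) (Lpe (f145681 IH) (Lpr_af (f145695 IH) (Lpn (LP (LK LD1_c3 LD2_c11 LD3_c60))))))
theorem f145709 : Led Lsl_cf (LP (LK LD1_c3 LD2_c28 LD3_c38)) = (LP (LK LD1_c3 LD2_c7 LD3_c60)) :=
  Lgr Lrot39 (Lpr_et (f145705 IH) (Lpe (K6.f126623 IH) (Lpr_et (f145681 IH) (Lpn (LP (LK LD1_c3 LD2_c7 LD3_c60))))))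
theorem f155036 : Led Lsl_bt (LP (LK LD1_c1 LD2_c30 LD3_c42)) = (LP (LK LD1_c3 LD2_c7 LD3_c60)) :=
  Lgr Lrot128 (Lpr_cf (K7.f155034 IH) (Lpe (K3.f88840 IH) (Lpe (f85594 IH) (Lpe (K7.f88832 IH) (Lpr_cf (f145709 IH) (Lpn (LP (LK LD1_c3 LD2_c7 LD3_c60))))))))
theorem f10748 : Led Lsl_bt (LP (LK LD1_c0 LD2_c48 LD3_c31)) = (LP (LK LD1_c0 LD2_c21 LD3_c42)) :=
  Lre_b IH (LK LD1_c0 LD2_c48 LD3_c31) (LK LD1_c0 LD2_c21 LD3_c42) Lrfl Lrfl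
theorem f209570 : Led Lsl_bf (LP (LK LD1_c1 LD2_c43 LD3_c54)) = (LP (LK LD1_c3 LD2_c26 LD3_c1)) :=
  Lgr Lrot90 (Lpr_ct (K7.f156303 IH) (Lpr_bt (f10748 IH) (Lpr_ct (K3.f106015 IH) (Lpr_bt (K7.f155033 IH) (Lpr_ct (f209566 IH) (Lpn (LP (LK LD1_c3 LD2_c26 LD3_c1))))))))
theorem f104613 : Led Lsl_at (LP (LK LD1_c1 LD2_c6 LD3_c10)) = (LP (LK LD1_c2 LD2_c18 LD3_c2)) :=
  Lre_a IH (LK LD1_c1 LD2_c6 LD3_c10) (LK LD1_c2 LD2_c18 LD3_c2) Lrfl Lrfl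
theorem f104614 : Led Lsl_at (LP (LK LD1_c1 LD2_c29 LD3_c58)) = (LP (LK LD1_c0 LD2_c41 LD3_c43)) :=
  Lre_a IH (LK LD1_c1 LD2_c29 LD3_c58) (LK LD1_c0 LD2_c41 LD3_c43) Lrfl Lrfl
theorem f104615 : Led Lsl_ct (LP (LK LD1_c2 LD2_c18 LD3_c2)) = (LP (LK LD1_c1 LD2_c29 LD3_c58)) :=
  Lgr Lrot111 (Lpe (f104613 IH) (Lpr_cf (K6.f104596 IH) (Lpe (f104614 IH) (Lpn (LP (LK LD1_c1 LD2_c29 LD3_c58))))))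
theorem f104663 : Led Lsl_gt (LP (LK LD1_c1 LD2_c29 LD3_c58)) = (LP (LK LD1_c0 LD2_c41 LD3_c41)) :=
  Lre_g IH (LK LD1_c1 LD2_c29 LD3_c58) (LK LD1_c0 LD2_c41 LD3_c41) Lrfl Lrfl
theorem f104610 : Led Lsl_bt (LP (LK LD1_c1 LD2_c30 LD3_c15)) = (LP (LK LD1_c3 LD2_c8 LD3_c6)) :=
  Lre_b IH (LK LD1_c1 LD2_c30 LD3_c15) (LK LD1_c3 LD2_c8 LD3_c6) Lrfl Lrfl
theorem f152357 : Led Lsl_gt (LP (LK LD1_c3 LD2_c8 LD3_c6)) = (LP (LK LD1_c1 LD2_c37 LD3_c42)) :=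
  Lgr Lrot164 (Lpe (f104610 IH) (Lpr_ct (K7.f104609 IH) (Lpe (f104663 IH) (Lpe (f104615 IH) (Lpe (K7.f104669 IH) (Lpe (K7.f152329 IH) (Lpr_ct (K7.f152331 IH) (Lpr_gf (K7.f152336 IH) (Lpr_cf (K5.f21070 IH) (Lpe (K6.f142999 IH) (Lpn (LP (LK LD1_c1 LD2_c37 LD3_c42)))))))))))))
theorem f209574 : Led Lsl_ct (LP (LK LD1_c3 LD2_c28 LD3_c36)) = (LP (LK LD1_c3 LD2_c8 LD3_c6)) :=
  Lgr Lrot91 (Lpr_gf (K7.f145685 IH) (Lpe (f155036 IH) (Lpr_ct (f155038 IH) (Lpe (K7.f155053 IH) (Lpr_cf (f209572 IH) (Lpe (f209570 IH) (Lpr_gf (K7.f156332 IH) (Lpe (K6.f143009 IH) (Lpr_ct (K6.f135809 IH) (Lpe (f152357 IH) (Lpn (LP (LK LD1_c3 LD2_c8 LD3_c6)))))))))))))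
theorem f209576 : Led Lsl_cf (LP (LK LD1_c3 LD2_c28 LD3_c36)) = (LP (LK LD1_c3 LD2_c8 LD3_c6)) :=
  Lgr Lrot11 (Lpr_ct (f209574 IH) (Lpn (LP (LK LD1_c3 LD2_c8 LD3_c6))))
theorem f104608 : Led Lsl_bt (LP (LK LD1_c0 LD2_c30 LD3_c14)) = (LP (LK LD1_c0 LD2_c13 LD3_c27)) :=
  Lre_b IH (LK LD1_c0 LD2_c30 LD3_c14) (LK LD1_c0 LD2_c13 LD3_c27) Lrfl Lrfl
theorem f10375 : Led Lsl_ct (LP (LK LD1_c0 LD2_c21 LD3_c50)) = (LP (LK LD1_c0 LD2_c48 LD3_c46)) :=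
  Lre_c IH (LK LD1_c0 LD2_c21 LD3_c50) (LK LD1_c0 LD2_c48 LD3_c46) Lrfl Lrfl
theorem f154357 : Led Lsl_bf (LP (LK LD1_c0 LD2_c30 LD3_c16)) = (LP (LK LD1_c0 LD2_c48 LD3_c46)) :=
  Lgr Lrot90 (Lpr_ct (K7.f154086 IH) (Lpr_bt (K7.f154092 IH) (Lpr_ct (K7.f154354 IH) (Lpr_bt (K7.f154356 IH) (Lpr_ct (f10375 IH) (Lpn (LP (LK LD1_c0 LD2_c48 LD3_c46))))))))
theorem f430172 : Led Lsl_bt (LP (LK LD1_c1 LD2_c44 LD3_c19)) = (LP (LK LD1_c3 LD2_c8 LD3_c1)) :=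
  Lgr Lrot130 (Lpr_ct (K7.f430102 IH) (Lpe (K7.f154361 IH) (Lpe (K7.f10373 IH) (Lpe (f154357 IH) (Lpe (K6.f25813 IH) (Lpe (f104608 IH) (Lpr_ct (K5.f104318 IH) (Lpe (K7.f104231 IH) (Lpe (K7.f104609 IH) (Lpr_gf (K7.f430170 IH) (Lpn (LP (LK LD1_c3 LD2_c8 LD3_c1)))))))))))))
theorem f430174 : Led Lsl_gt (LP (LK LD1_c1 LD2_c40 LD3_c54)) = (LP (LK LD1_c0 LD2_c48 LD3_c46)) :=
  Lgr Lrot82 (Lpe (K7.f76759 IH) (Lpr_ct (K7.f76788 IH) (Lpe (K6.f62327 IH) (Lpr_cf (f209576 IH) (Lpr_bt (K7.f133695 IH) (Lpr_gf (K7.f430170 IH) (Lpe (f430172 IH) (Lpr_ct (K7.f430102 IH) (Lpe (K7.f154361 IH) (Lpe (K7.f10373 IH) (Lpn (LP (LK LD1_c0 LD2_c48 LD3_c46)))))))))))))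
theorem f76769 : Led Lsl_et (LP (LK LD1_c0 LD2_c46 LD3_c58)) = (LP (LK LD1_c1 LD2_c40 LD3_c54)) :=
  Lre_e IH (LK LD1_c0 LD2_c46 LD3_c58) (LK LD1_c1 LD2_c40 LD3_c54) Lrfl Lrfl
theorem f154372 : Led Lsl_dt (LP (LK LD1_c0 LD2_c48 LD3_c46)) = (LP (LK LD1_c1 LD2_c44 LD3_c22)) :=
  Lre_d IH (LK LD1_c0 LD2_c48 LD3_c46) (LK LD1_c1 LD2_c44 LD3_c22) Lrfl Lrfl
theorem f430182 : Led Lsl_gf (LP (LK LD1_c3 LD2_c23 LD3_c58)) = (LP (LK LD1_c1 LD2_c44 LD3_c22)) :=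
  Lgr Lrot134 (Lpe (K7.f7330 IH) (Lpr_et (K2.f90218 IH) (Lpe (K2.f66825 IH) (Lpe (K2.f76741 IH) (Lpr_dt (K0.f15039 IH) (Lpr_gt (K3.f23355 IH) (Lpr_df (K2.f90230 IH) (Lpr_et (f76769 IH) (Lpr_gt (f430174 IH) (Lpr_dt (f154372 IH) (Lpn (LP (LK LD1_c1 LD2_c44 LD3_c22)))))))))))))
theorem f430190 : Led Lsl_gt (LP (LK LD1_c0 LD2_c45 LD3_c25)) = (LP (LK LD1_c0 LD2_c43 LD3_c10)) :=
  Lgr Lrot131 (Lpe (K7.f91967 IH) (Lpr_dt (K2.f13519 IH) (Lpe (K2.f91950 IH) (Lpe (K1.f66831 IH) (Lpr_gf (K2.f66825 IH) (Lpe (K2.f90218 IH) (Lpr_dt (K7.f7330 IH) (Lpr_gf (f430182 IH) (Lpe (f154372 IH) (Lpr_et (K7.f429026 IH) (Lpn (LP (LK LD1_c0 LD2_c43 LD3_c10)))))))))))))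
theorem f4004 : Led Lsl_gt (LP (LK LD1_c0 LD2_c10 LD3_c11)) = (LP (LK LD1_c0 LD2_c22 LD3_c37)) :=
  Lre_g IH (LK LD1_c0 LD2_c10 LD3_c11) (LK LD1_c0 LD2_c22 LD3_c37) Lrfl Lrfl
theorem f4007 : Led Lsl_ct (LP (LK LD1_c0 LD2_c50 LD3_c10)) = (LP (LK LD1_c0 LD2_c22 LD3_c37)) :=
  Lre_c IH (LK LD1_c0 LD2_c50 LD3_c10) (LK LD1_c0 LD2_c22 LD3_c37) Lrfl Lrfl
theorem f4010 : Led Lsl_bt (LP (LK LD1_c0 LD2_c50 LD3_c10)) = (LP (LK LD1_c1 LD2_c46 LD3_c52)) :=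
  Lre_b IH (LK LD1_c0 LD2_c50 LD3_c10) (LK LD1_c1 LD2_c46 LD3_c52) Lrfl Lrfl
theorem f430194 : Led Lsl_gf (LP (LK LD1_c0 LD2_c51 LD3_c39)) = (LP (LK LD1_c1 LD2_c46 LD3_c52)) :=
  Lgr Lrot181 (Lpr_ct (K7.f107324 IH) (Lpr_gt (f430190 IH) (Lpr_cf (K7.f156415 IH) (Lpr_bt (K7.f4921 IH) (Lpe (K7.f4919 IH) (Lpe (K7.f3982 IH) (Lpe (K7.f5705 IH) (Lpr_gt (f4004 IH) (Lpe (f4007 IH) (Lpr_bt (f4010 IH) (Lpn (LP (LK LD1_c1 LD2_c46 LD3_c52)))))))))))))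
theorem f85056 : Led Lsl_gt (LP (LK LD1_c0 LD2_c52 LD3_c5)) = (LP (LK LD1_c0 LD2_c23 LD3_c35)) :=
  Lre_g IH (LK LD1_c0 LD2_c52 LD3_c5) (LK LD1_c0 LD2_c23 LD3_c35) Lrfl Lrfl
theorem f85057 : Led Lsl_gf (LP (LK LD1_c0 LD2_c52 LD3_c5)) = (LP (LK LD1_c0 LD2_c51 LD3_c50)) :=
  Lgr Lrot47 (Lpr_gt (f85056 IH) (Lpe (K2.f85046 IH) (Lpr_ff (K2.f85039 IH) (Lpn (LP (LK LD1_c0 LD2_c51 LD3_c50))))))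
theorem f4014 : Led Lsl_gt (LP (LK LD1_c0 LD2_c22 LD3_c38)) = (LP (LK LD1_c0 LD2_c10 LD3_c11)) :=
  Lre_g IH (LK LD1_c0 LD2_c22 LD3_c38) (LK LD1_c0 LD2_c10 LD3_c11) Lrfl Lrfl
theorem f4019 : Led Lsl_bt (LP (LK LD1_c0 LD2_c50 LD3_c11)) = (LP (LK LD1_c0 LD2_c22 LD3_c38)) :=
  Lre_b IH (LK LD1_c0 LD2_c50 LD3_c11) (LK LD1_c0 LD2_c22 LD3_c38) Lrfl Lrfl
theorem f430198 : Led Lsl_cf (LP (LK LD1_c0 LD2_c52 LD3_c5)) = (LP (LK LD1_c0 LD2_c50 LD3_c11)) :=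
  Lgr Lrot58 (Lpr_gf (f85057 IH) (Lpe (K2.f85038 IH) (Lpr_bt (K7.f85034 IH) (Lpr_gf (f430194 IH) (Lpe (f4010 IH) (Lpr_ct (f4007 IH) (Lpe (f4004 IH) (Lpr_cf (K7.f5705 IH) (Lpe (f4014 IH) (Lpe (f4019 IH) (Lpn (LP (LK LD1_c0 LD2_c50 LD3_c11)))))))))))))
theorem f85059 : Led Lsl_ct (LP (LK LD1_c0 LD2_c10 LD3_c36)) = (LP (LK LD1_c0 LD2_c23 LD3_c35)) :=
  Lre_c IH (LK LD1_c0 LD2_c10 LD3_c36) (LK LD1_c0 LD2_c23 LD3_c35) Lrfl Lrfl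
theorem f3984 : Led Lsl_ff (LP (LK LD1_c0 LD2_c10 LD3_c11)) = (LP (LK LD1_c0 LD2_c10 LD3_c11)) :=
  Lgr Lrot25 (Lpr_bt (K7.f3982 IH) (Lpr_ft (K7.f3977 IH) (Lpr_bt (K7.f3983 IH) (Lpn (LP (LK LD1_c0 LD2_c10 LD3_c11))))))
theorem f4000 : Led Lsl_ft (LP (LK LD1_c0 LD2_c22 LD3_c34)) = (LP (LK LD1_c0 LD2_c22 LD3_c34)) :=
  Lgr Lrot101 (Lpe (K7.f3998 IH) (Lpr_ff (f3984 IH) (Lpe (K7.f3999 IH) (Lpn (LP (LK LD1_c0 LD2_c22 LD3_c34))))))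
theorem f4015 : Led Lsl_gt (LP (LK LD1_c0 LD2_c22 LD3_c34)) = (LP (LK LD1_c0 LD2_c22 LD3_c38)) :=
  Lgr Lrot5 (Lpr_ft (f4000 IH) (Lpr_at (K7.f3999 IH) (Lpe (f4014 IH) (Lpn (LP (LK LD1_c0 LD2_c22 LD3_c38))))))
theorem f4913 : Led Lsl_bt (LP (LK LD1_c0 LD2_c22 LD3_c34)) = (LP (LK LD1_c0 LD2_c22 LD3_c34)) :=
  Lgr Lrot62 (Lpe (K7.f3998 IH) (Lpe (K7.f3983 IH) (Lpr_af (K0.f4911 IH) (Lpe (K7.f3982 IH) (Lpe (K7.f3999 IH) (Lpn (LP (LK LD1_c0 LD2_c22 LD3_c34))))))))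
theorem f4005 : Led Lsl_gf (LP (LK LD1_c0 LD2_c22 LD3_c34)) = (LP (LK LD1_c0 LD2_c22 LD3_c37)) :=
  Lgr Lrot76 (Lpe (K7.f3998 IH) (Lpr_ff (f3984 IH) (Lpr_gt (f4004 IH) (Lpn (LP (LK LD1_c0 LD2_c22 LD3_c37))))))
theorem f430205 : Led Lsl_gt (LP (LK LD1_c0 LD2_c23 LD3_c32)) = (LP (LK LD1_c0 LD2_c50 LD3_c10)) :=
  Lgr Lrot82 (Lpe (K2.f85182 IH) (Lpr_ct (f85059 IH) (Lpe (f85056 IH) (Lpr_cf (f430198 IH) (Lpr_bt (f4019 IH) (Lpe (f4015 IH) (Lpe (f4913 IH) (Lpr_ct (K7.f5002 IH) (Lpr_gf (f4005 IH) (Lpe (f4007 IH) (Lpn (LP (LK LD1_c0 LD2_c50 LD3_c10)))))))))))))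
theorem f430207 : Led Lsl_gf (LP (LK LD1_c0 LD2_c51 LD3_c59)) = (LP (LK LD1_c0 LD2_c50 LD3_c10)) :=
  Lgr Lrot76 (Lpe (K7.f85189 IH) (Lpe (K2.f85184 IH) (Lpr_gt (f430205 IH) (Lpn (LP (LK LD1_c0 LD2_c50 LD3_c10))))))
theorem f4008 : Led Lsl_ct (LP (LK LD1_c0 LD2_c22 LD3_c37)) = (LP (LK LD1_c0 LD2_c50 LD3_c10)) :=
  Lre_c IH (LK LD1_c0 LD2_c22 LD3_c37) (LK LD1_c0 LD2_c50 LD3_c10) Lrfl Lrfl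
def v77 : LQ := Led Lsl_ct (LP (LK LD1_c0 LD2_c4 LD3_c50))
theorem f446770 : Led Lsl_ct (LP (LK LD1_c0 LD2_c4 LD3_c50)) = v77 :=
  Lrfl
theorem f446771 : Led Lsl_cf (LP (LK LD1_c0 LD2_c4 LD3_c50)) = v77 :=
  Lgr Lrot11 (Lpr_ct (f446770 IH) (Lpn v77))
theorem f447696 : Led Lsl_bt v77 = K7.v98 :=
  Lgr Lrot92 (Lpe (f446771 IH) (Lpr_gt (K0.f4922 IH) (Lpe (K0.f3976 IH) (Lpr_bt (K7.f3983 IH) (Lpr_gt (f4004 IH) (Lpr_ct (f4008 IH) (Lpe (f430207 IH) (Lpe (K7.f124413 IH) (Lpr_bt (K2.f85183 IH) (Lpr_gt (K7.f447691 IH) (Lpn K7.v98)))))))))))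
theorem f447697 : Led Lsl_bf v77 = K7.v98 :=
  Lgr Lrot24 (Lpr_bt (f447696 IH) (Lpn K7.v98))
theorem f446775 : Led Lsl_gf (LP (LK LD1_c0 LD2_c4 LD3_c55)) = v77 :=
  Lgr Lrot129 (Lpe (K7.f124172 IH) (Lpr_bt (K7.f156388 IH) (Lpr_gt (K6.f13436 IH) (Lpr_bf (K7.f156402 IH) (Lpr_ct (K7.f156412 IH) (Lpe (K7.f4919 IH) (Lpe (K0.f3975 IH) (Lpr_bt (K7.f5707 IH) (Lpr_gt (K0.f3980 IH) (Lpr_ct (f446770 IH) (Lpn v77)))))))))))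
theorem f124164 : Led Lsl_gt (LP (LK LD1_c0 LD2_c23 LD3_c6)) = (LP (LK LD1_c0 LD2_c51 LD3_c10)) :=
  Lre_g IH (LK LD1_c0 LD2_c23 LD3_c6) (LK LD1_c0 LD2_c51 LD3_c10) Lrfl Lrfl
theorem f154167 : Led Lsl_bt (LP (LK LD1_c0 LD2_c41 LD3_c57)) = (LP (LK LD1_c1 LD2_c30 LD3_c54)) :=
  Lre_b IH (LK LD1_c0 LD2_c41 LD3_c57) (LK LD1_c1 LD2_c30 LD3_c54) Lrfl Lrfl
theorem f430180 : Led Lsl_gf (LP (LK LD1_c3 LD2_c8 LD3_c6)) = (LP (LK LD1_c1 LD2_c30 LD3_c54)) :=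
  Lgr Lrot181 (Lpe (f209576 IH) (Lpr_gt (K6.f62327 IH) (Lpe (K7.f76788 IH) (Lpr_bt (K7.f76759 IH) (Lpr_gt (f430174 IH) (Lpr_bf (K7.f429032 IH) (Lpr_ct (K7.f154086 IH) (Lpe (K7.f152176 IH) (Lpe (K7.f154168 IH) (Lpr_bt (f154167 IH) (Lpn (LP (LK LD1_c1 LD2_c30 LD3_c54)))))))))))))
theorem f76784 : Led Lsl_ct (LP (LK LD1_c1 LD2_c41 LD3_c0)) = (LP (LK LD1_c3 LD2_c28 LD3_c27)) :=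
  Lre_c IH (LK LD1_c1 LD2_c41 LD3_c0) (LK LD1_c3 LD2_c28 LD3_c27) Lrfl Lrfl
theorem f430387 : Led Lsl_df (LP (LK LD1_c1 LD2_c37 LD3_c28)) = (LP (LK LD1_c1 LD2_c30 LD3_c54)) :=
  Lgr Lrot155 (Lpe (K6.f134061 IH) (Lpr_ct (K5.f120063 IH) (Lpr_gt (K6.f120064 IH) (Lpr_ct (K7.f134403 IH) (Lpr_dt (K7.f76760 IH) (Lpe (f76784 IH) (Lpe (K6.f62327 IH) (Lpr_cf (f209576 IH) (Lpr_gf (f430180 IH) (Lpn (LP (LK LD1_c1 LD2_c30 LD3_c54))))))))))))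
theorem f156456 : Led Lsl_gt (LP (LK LD1_c0 LD2_c43 LD3_c34)) = (LP (LK LD1_c1 LD2_c7 LD3_c18)) :=
  Lgr Lrot49 (Lpe (K7.f24301 IH) (Lpr_gf (K7.f156454 IH) (Lpe (K3.f23503 IH) (Lpr_gt (K7.f104150 IH) (Lpr_dt (K7.f104192 IH) (Lpe (K5.f116722 IH) (Lpr_dt (K5.f25036 IH) (Lpr_cf (K2.f62331 IH) (Lpe (K5.f127119 IH) (Lpn (LP (LK LD1_c1 LD2_c7 LD3_c18))))))))))))
theorem f430406 : Led Lsl_ef (LP (LK LD1_c0 LD2_c45 LD3_c4)) = (LP (LK LD1_c1 LD2_c30 LD3_c54)) :=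
  Lgr Lrot17 (Lpr_gf (K7.f155900 IH) (Lpe (K2.f62333 IH) (Lpe (K7.f127125 IH) (Lpe (f156456 IH) (Lpe (K7.f24301 IH) (Lpr_gf (K7.f156454 IH) (Lpe (K3.f23554 IH) (Lpr_dt (K3.f107441 IH) (Lpr_gf (K6.f134061 IH) (Lpr_df (f430387 IH) (Lpn (LP (LK LD1_c1 LD2_c30 LD3_c54)))))))))))))
theorem f155912 : Led Lsl_at (LP (LK LD1_c0 LD2_c45 LD3_c4)) = (LP (LK LD1_c1 LD2_c33 LD3_c56)) :=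
  Lgr Lrot100 (Lpr_af (K7.f155902 IH) (Lpn (LP (LK LD1_c1 LD2_c33 LD3_c56))))
theorem f430399 : Led Lsl_at (LP (LK LD1_c3 LD2_c9 LD3_c31)) = (LP (LK LD1_c1 LD2_c30 LD3_c54)) :=
  Lre_a IH (LK LD1_c3 LD2_c9 LD3_c31) (LK LD1_c1 LD2_c30 LD3_c54) Lrfl Lrfl
theorem f430408 : Led Lsl_et (LP (LK LD1_c1 LD2_c33 LD3_c56)) = (LP (LK LD1_c3 LD2_c9 LD3_c31)) :=
  Lgr Lrot123 (Lpe (f155912 IH) (Lpr_ef (f430406 IH) (Lpe (f430399 IH) (Lpn (LP (LK LD1_c3 LD2_c9 LD3_c31))))))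
theorem f62339 : Led Lsl_at (LP (LK LD1_c0 LD2_c40 LD3_c4)) = (LP (LK LD1_c0 LD2_c17 LD3_c59)) :=
  Lre_a IH (LK LD1_c0 LD2_c40 LD3_c4) (LK LD1_c0 LD2_c17 LD3_c59) Lrfl Lrfl
theorem f135792 : Led Lsl_ft (LP (LK LD1_c0 LD2_c45 LD3_c15)) = (LP (LK LD1_c0 LD2_c40 LD3_c4)) :=
  Lgr Lrot142 (Lpr_dt (K6.f113293 IH) (Lpr_ct (K6.f113298 IH) (Lpr_dt (K6.f135774 IH) (Lpe (K5.f64414 IH) (Lpr_dt (K1.f353 IH) (Lpr_ct (K1.f352 IH) (Lpr_dt (K2.f57532 IH) (Lpr_ct (K2.f57571 IH) (Lpe (f62339 IH) (Lpn (LP (LK LD1_c0 LD2_c40 LD3_c4))))))))))))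
theorem f430414 : Led Lsl_ff (LP (LK LD1_c1 LD2_c37 LD3_c42)) = (LP (LK LD1_c3 LD2_c9 LD3_c31)) :=
  Lgr Lrot72 (Lpr_et (K6.f113290 IH) (Lpr_ft (f135792 IH) (Lpr_et (K6.f62589 IH) (Lpe (K7.f126785 IH) (Lpr_et (f430408 IH) (Lpn (LP (LK LD1_c3 LD2_c9 LD3_c31))))))))
theorem f135812 : Led Lsl_at (LP (LK LD1_c1 LD2_c37 LD3_c42)) = (LP (LK LD1_c0 LD2_c45 LD3_c16)) :=
  Lre_a IH (LK LD1_c1 LD2_c37 LD3_c42) (LK LD1_c0 LD2_c45 LD3_c16) Lrfl Lrfl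
theorem f135813 : Led Lsl_cf (LP (LK LD1_c0 LD2_c45 LD3_c16)) = (LP (LK LD1_c0 LD2_c45 LD3_c16)) :=
  Lgr Lrot1 (Lpr_at (K6.f135811 IH) (Lpr_ct (K6.f135809 IH) (Lpr_at (f135812 IH) (Lpn (LP (LK LD1_c0 LD2_c45 LD3_c16))))))
theorem f113302 : Led Lsl_dt (LP (LK LD1_c6 LD2_c49 LD3_c11)) = (LP (LK LD1_c3 LD2_c22 LD3_c48)) :=
  Lre_d IH (LK LD1_c6 LD2_c49 LD3_c11) (LK LD1_c3 LD2_c22 LD3_c48) Lrfl Lrfl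
theorem f113174 : Led Lsl_dt (LP (LK LD1_c3 LD2_c22 LD3_c48)) = (LP (LK LD1_c6 LD2_c49 LD3_c11)) :=
  Lre_d IH (LK LD1_c3 LD2_c22 LD3_c48) (LK LD1_c6 LD2_c49 LD3_c11) Lrfl Lrfl
theorem f143845 : Led Lsl_ff (LP (LK LD1_c6 LD2_c48 LD3_c30)) = (LP (LK LD1_c6 LD2_c49 LD3_c11)) :=
  Lgr Lrot19 (Lpr_dt (K6.f10005 IH) (Lpr_ft (K6.f143839 IH) (Lpr_dt (f113174 IH) (Lpn (LP (LK LD1_c6 LD2_c49 LD3_c11))))))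
theorem f143856 : Led Lsl_ct (LP (LK LD1_c12 LD2_c33 LD3_c20)) = (LP (LK LD1_c6 LD2_c49 LD3_c11)) :=
  Lgr Lrot40 (Lpe (K6.f143768 IH) (Lpe (K6.f126922 IH) (Lpr_ff (f143845 IH) (Lpn (LP (LK LD1_c6 LD2_c49 LD3_c11))))))
theorem f430423 : Led Lsl_df (LP (LK LD1_c3 LD2_c14 LD3_c47)) = (LP (LK LD1_c3 LD2_c9 LD3_c31)) :=
  Lgr Lrot157 (Lpr_ct (K6.f126730 IH) (Lpr_dt (K6.f133731 IH) (Lpr_ct (f143856 IH) (Lpr_dt (f113302 IH) (Lpr_ct (K6.f113161 IH) (Lpr_dt (K6.f113130 IH) (Lpe (f135813 IH) (Lpe (f135812 IH) (Lpr_ff (f430414 IH) (Lpn (LP (LK LD1_c3 LD2_c9 LD3_c31))))))))))))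
theorem f143738 : Led Lsl_et (LP (LK LD1_c3 LD2_c14 LD3_c47)) = (LP (LK LD1_c6 LD2_c33 LD3_c2)) :=
  Lre_e IH (LK LD1_c3 LD2_c14 LD3_c47) (LK LD1_c6 LD2_c33 LD3_c2) Lrfl Lrfl
theorem f126794 : Led Lsl_et (LP (LK LD1_c6 LD2_c33 LD3_c0)) = (LP (LK LD1_c3 LD2_c14 LD3_c46)) :=
  Lre_e IH (LK LD1_c6 LD2_c33 LD3_c0) (LK LD1_c3 LD2_c14 LD3_c46) Lrfl Lrfl
theorem f430427 : Led Lsl_dt (LP (LK LD1_c6 LD2_c33 LD3_c2)) = (LP (LK LD1_c6 LD2_c33 LD3_c0)) :=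
  Lgr Lrot77 (Lpe (f143738 IH) (Lpr_df (f430423 IH) (Lpe (f430408 IH) (Lpe (K5.f24361 IH) (Lpe (f126794 IH) (Lpn (LP (LK LD1_c6 LD2_c33 LD3_c0))))))))
theorem f430429 : Led Lsl_df (LP (LK LD1_c6 LD2_c33 LD3_c2)) = (LP (LK LD1_c6 LD2_c33 LD3_c0)) :=
  Lgr Lrot38 (Lpr_dt (f430427 IH) (Lpn (LP (LK LD1_c6 LD2_c33 LD3_c0))))
theorem f146162 : Led Lsl_et (LP (LK LD1_c1 LD2_c37 LD3_c25)) = (LP (LK LD1_c3 LD2_c22 LD3_c19)) :=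
  Lre_e IH (LK LD1_c1 LD2_c37 LD3_c25) (LK LD1_c3 LD2_c22 LD3_c19) Lrfl Lrfl
theorem f155988 : Led Lsl_at (LP (LK LD1_c3 LD2_c22 LD3_c19)) = (LP (LK LD1_c6 LD2_c33 LD3_c0)) :=
  Lgr Lrot80 (Lpe (f146162 IH) (Lpr_af (K7.f155927 IH) (Lpe (f126794 IH) (Lpn (LP (LK LD1_c6 LD2_c33 LD3_c0))))))
theorem f57683 : Led Lsl_bt (LP (LK LD1_c3 LD2_c22 LD3_c19)) = (LP (LK LD1_c1 LD2_c37 LD3_c27)) :=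
  Lre_b IH (LK LD1_c3 LD2_c22 LD3_c19) (LK LD1_c1 LD2_c37 LD3_c27) Lrfl Lrfl
theorem f143908 : Led Lsl_bt (LP (LK LD1_c1 LD2_c37 LD3_c30)) = (LP (LK LD1_c3 LD2_c22 LD3_c24)) :=
  Lre_b IH (LK LD1_c1 LD2_c37 LD3_c30) (LK LD1_c3 LD2_c22 LD3_c24) Lrfl Lrfl
theorem f146114 : Led Lsl_df (LP (LK LD1_c3 LD2_c22 LD3_c19)) = (LP (LK LD1_c3 LD2_c22 LD3_c24)) :=
  Lgr Lrot12 (Lpr_bt (f57683 IH) (Lpr_dt (K6.f146098 IH) (Lpr_bt (f143908 IH) (Lpn (LP (LK LD1_c3 LD2_c22 LD3_c24))))))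
theorem f430432 : Led Lsl_at (LP (LK LD1_c6 LD2_c33 LD3_c2)) = (LP (LK LD1_c3 LD2_c22 LD3_c24)) :=
  Lgr Lrot51 (Lpr_df (f430429 IH) (Lpe (f155988 IH) (Lpr_df (f146114 IH) (Lpn (LP (LK LD1_c3 LD2_c22 LD3_c24))))))
theorem f430434 : Led Lsl_af (LP (LK LD1_c6 LD2_c33 LD3_c2)) = (LP (LK LD1_c3 LD2_c22 LD3_c24)) :=
  Lgr Lrot0 (Lpr_at (f430432 IH) (Lpn (LP (LK LD1_c3 LD2_c22 LD3_c24))))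
theorem f84196 : Led Lsl_bt (LP (LK LD1_c1 LD2_c37 LD3_c27)) = (LP (LK LD1_c3 LD2_c22 LD3_c19)) :=
  Lre_b IH (LK LD1_c1 LD2_c37 LD3_c27) (LK LD1_c3 LD2_c22 LD3_c19) Lrfl Lrfl
theorem f146127 : Led Lsl_bt (LP (LK LD1_c3 LD2_c22 LD3_c24)) = (LP (LK LD1_c1 LD2_c37 LD3_c30)) :=
  Lre_b IH (LK LD1_c3 LD2_c22 LD3_c24) (LK LD1_c1 LD2_c37 LD3_c30) Lrfl Lrfl
theorem f146128 : Led Lsl_dt (LP (LK LD1_c3 LD2_c22 LD3_c19)) = (LP (LK LD1_c3 LD2_c22 LD3_c24)) :=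
  Lgr Lrot79 (Lpe (f84196 IH) (Lpr_df (K6.f146116 IH) (Lpe (f146127 IH) (Lpn (LP (LK LD1_c3 LD2_c22 LD3_c24))))))
theorem f430437 : Led Lsl_at (LP (LK LD1_c6 LD2_c33 LD3_c0)) = (LP (LK LD1_c3 LD2_c22 LD3_c19)) :=
  Lgr Lrot51 (Lpe (f430427 IH) (Lpr_af (f430434 IH) (Lpe (f146128 IH) (Lpn (LP (LK LD1_c3 LD2_c22 LD3_c19))))))
theorem f126817 : Led Lsl_et (LP (LK LD1_c3 LD2_c14 LD3_c46)) = (LP (LK LD1_c6 LD2_c33 LD3_c0)) :=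
  Lre_e IH (LK LD1_c3 LD2_c14 LD3_c46) (LK LD1_c6 LD2_c33 LD3_c0) Lrfl Lrfl
theorem f126865 : Led Lsl_et (LP (LK LD1_c7 LD2_c26 LD3_c14)) = (LP (LK LD1_c3 LD2_c42 LD3_c47)) :=
  Lre_e IH (LK LD1_c7 LD2_c26 LD3_c14) (LK LD1_c3 LD2_c42 LD3_c47) Lrfl Lrfl
theorem f126866 : Led Lsl_bt (LP (LK LD1_c6 LD2_c33 LD3_c0)) = (LP (LK LD1_c7 LD2_c26 LD3_c14)) :=
  Lgr Lrot119 (Lpe (f126817 IH) (Lpr_bf (K7.f126855 IH) (Lpe (f126865 IH) (Lpn (LP (LK LD1_c7 LD2_c26 LD3_c14))))))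
theorem f126869 : Led Lsl_bf (LP (LK LD1_c6 LD2_c33 LD3_c0)) = (LP (LK LD1_c7 LD2_c26 LD3_c14)) :=
  Lgr Lrot24 (Lpr_bt (f126866 IH) (Lpn (LP (LK LD1_c7 LD2_c26 LD3_c14))))
theorem f121410 : Led Lsl_et (LP (LK LD1_c2 LD2_c22 LD3_c58)) = (LP (LK LD1_c1 LD2_c8 LD3_c35)) :=
  Lre_e IH (LK LD1_c2 LD2_c22 LD3_c58) (LK LD1_c1 LD2_c8 LD3_c35) Lrfl Lrfl
theorem f94395 : Led Lsl_et (LP (LK LD1_c1 LD2_c55 LD3_c5)) = (LP (LK LD1_c3 LD2_c56 LD3_c46)) :=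
  Lre_e IH (LK LD1_c1 LD2_c55 LD3_c5) (LK LD1_c3 LD2_c56 LD3_c46) Lrfl Lrfl
theorem f121411 : Led Lsl_bf (LP (LK LD1_c2 LD2_c22 LD3_c58)) = (LP (LK LD1_c3 LD2_c56 LD3_c46)) :=
  Lgr Lrot96 (Lpr_et (f121410 IH) (Lpr_bt (K7.f121385 IH) (Lpr_et (f94395 IH) (Lpn (LP (LK LD1_c3 LD2_c56 LD3_c46))))))
theorem f121413 : Led Lsl_bt (LP (LK LD1_c2 LD2_c22 LD3_c58)) = (LP (LK LD1_c3 LD2_c56 LD3_c46)) :=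
  Lgr Lrot127 (Lpr_bf (f121411 IH) (Lpn (LP (LK LD1_c3 LD2_c56 LD3_c46))))
theorem f430441 : Led Lsl_af (LP (LK LD1_c7 LD2_c26 LD3_c14)) = (LP (LK LD1_c3 LD2_c56 LD3_c46)) :=
  Lgr Lrot36 (Lpe (f126869 IH) (Lpr_at (f430437 IH) (Lpr_bt (f57683 IH) (Lpr_at (K6.f146125 IH) (Lpr_bt (f121413 IH) (Lpn (LP (LK LD1_c3 LD2_c56 LD3_c46))))))))
theorem f430447 : Led Lsl_at (LP (LK LD1_c3 LD2_c42 LD3_c47)) = (LP (LK LD1_c1 LD2_c55 LD3_c5)) :=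
  Lgr Lrot80 (Lpe (f126865 IH) (Lpr_af (f430441 IH) (Lpe (f94395 IH) (Lpn (LP (LK LD1_c1 LD2_c55 LD3_c5))))))
theorem f430453 : Led Lsl_ff (LP (LK LD1_c3 LD2_c42 LD3_c47)) = (LP (LK LD1_c3 LD2_c13 LD3_c41)) :=
  Lgr Lrot52 (Lpr_at (f430447 IH) (Lpr_gf (K7.f156009 IH) (Lpr_gf (K7.f156032 IH) (Lpn (LP (LK LD1_c3 LD2_c13 LD3_c41))))))
theorem f144125 : Led Lsl_ct (LP (LK LD1_c1 LD2_c33 LD3_c23)) = (LP (LK LD1_c0 LD2_c46 LD3_c4)) :=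
  Lgr Lrot8 (Lpr_gt (K6.f144119 IH) (Lpr_dt (K4.f84631 IH) (Lpe (K5.f121391 IH) (Lpr_dt (K7.f134883 IH) (Lpe (K5.f21043 IH) (Lpr_df (K5.f135047 IH) (Lpe (K5.f121379 IH) (Lpe (K5.f84775 IH) (Lpr_gf (K6.f142734 IH) (Lpn (LP (LK LD1_c0 LD2_c46 LD3_c4))))))))))))
theorem f84920 : Led Lsl_dt (LP (LK LD1_c0 LD2_c46 LD3_c4)) = (LP (LK LD1_c1 LD2_c39 LD3_c15)) :=
  Lre_d IH (LK LD1_c0 LD2_c46 LD3_c4) (LK LD1_c1 LD2_c39 LD3_c15) Lrfl Lrfl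
theorem f84869 : Led Lsl_ct (LP (LK LD1_c1 LD2_c39 LD3_c15)) = (LP (LK LD1_c3 LD2_c25 LD3_c18)) :=
  Lre_c IH (LK LD1_c1 LD2_c39 LD3_c15) (LK LD1_c3 LD2_c25 LD3_c18) Lrfl Lrfl
theorem f84875 : Led Lsl_dt (LP (LK LD1_c3 LD2_c25 LD3_c18)) = (LP (LK LD1_c6 LD2_c52 LD3_c50)) :=
  Lre_d IH (LK LD1_c3 LD2_c25 LD3_c18) (LK LD1_c6 LD2_c52 LD3_c50) Lrfl Lrfl
theorem f94389 : Led Lsl_dt (LP (LK LD1_c7 LD2_c55 LD3_c15)) = (LP (LK LD1_c3 LD2_c56 LD3_c45)) :=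
  Lre_d IH (LK LD1_c7 LD2_c55 LD3_c15) (LK LD1_c3 LD2_c56 LD3_c45) Lrfl Lrfl
theorem f430455 : Led Lsl_ct (LP (LK LD1_c6 LD2_c52 LD3_c50)) = (LP (LK LD1_c7 LD2_c55 LD3_c15)) :=
  Lgr Lrot53 (Lpe (f84875 IH) (Lpe (f84869 IH) (Lpe (f84920 IH) (Lpe (f144125 IH) (Lpe (K7.f121402 IH) (Lpe (f430453 IH) (Lpr_at (f430447 IH) (Lpe (K7.f94388 IH) (Lpe (f94389 IH) (Lpn (LP (LK LD1_c7 LD2_c55 LD3_c15))))))))))))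
theorem f142746 : Led Lsl_af (LP (LK LD1_c0 LD2_c24 LD3_c29)) = (LP (LK LD1_c0 LD2_c50 LD3_c57)) :=
  Lgr Lrot50 (Lpr_et (K6.f142744 IH) (Lpr_at (K5.f21053 IH) (Lpe (K5.f134697 IH) (Lpn (LP (LK LD1_c0 LD2_c50 LD3_c57))))))
theorem f430463 : Led Lsl_ft (LP (LK LD1_c0 LD2_c46 LD3_c4)) = (LP (LK LD1_c0 LD2_c50 LD3_c57)) :=
  Lgr Lrot142 (Lpr_dt (f84920 IH) (Lpr_ct (f84869 IH) (Lpr_dt (f84875 IH) (Lpr_ct (f430455 IH) (Lpr_dt (f94389 IH) (Lpr_ct (K7.f94388 IH) (Lpr_dt (K7.f94394 IH) (Lpr_ct (K5.f94391 IH) (Lpr_af (f142746 IH) (Lpn (LP (LK LD1_c0 LD2_c50 LD3_c57))))))))))))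
theorem f430467 : Led Lsl_ff (LP (LK LD1_c1 LD2_c33 LD3_c23)) = (LP (LK LD1_c1 LD2_c48 LD3_c24)) :=
  Lgr Lrot23 (Lpr_ct (f144125 IH) (Lpr_ft (f430463 IH) (Lpr_ct (K5.f124263 IH) (Lpn (LP (LK LD1_c1 LD2_c48 LD3_c24))))))
theorem f144111 : Led Lsl_at (LP (LK LD1_c1 LD2_c33 LD3_c23)) = (LP (LK LD1_c0 LD2_c45 LD3_c2)) :=
  Lgr Lrot67 (Lpr_bf (K6.f144041 IH) (Lpe (K6.f126735 IH) (Lpe (K5.f57559 IH) (Lpr_af (K6.f135434 IH) (Lpe (K2.f84284 IH) (Lpn (LP (LK LD1_c0 LD2_c45 LD3_c2))))))))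
theorem f146196 : Led Lsl_at (LP (LK LD1_c0 LD2_c19 LD3_c60)) = (LP (LK LD1_c0 LD2_c31 LD3_c22)) :=
  Lgr Lrot66 (Lpr_ff (K6.f146194 IH) (Lpr_af (K6.f135434 IH) (Lpe (K6.f135442 IH) (Lpn (LP (LK LD1_c0 LD2_c31 LD3_c22))))))
theorem f121383 : Led Lsl_bt (LP (LK LD1_c0 LD2_c31 LD3_c22)) = (LP (LK LD1_c0 LD2_c54 LD3_c16)) :=
  Lgr Lrot127 (Lpr_bf (K5.f121381 IH) (Lpn (LP (LK LD1_c0 LD2_c54 LD3_c16))))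
theorem f155914 : Led Lsl_at (LP (LK LD1_c0 LD2_c54 LD3_c16)) = (LP (LK LD1_c1 LD2_c48 LD3_c24)) :=
  Lgr Lrot67 (Lpe (f121383 IH) (Lpe (f146196 IH) (Lpe (K7.f25751 IH) (Lpr_af (K7.f155902 IH) (Lpr_bf (K5.f126850 IH) (Lpn (LP (LK LD1_c1 LD2_c48 LD3_c24))))))))
theorem f430469 : Led Lsl_ft (LP (LK LD1_c0 LD2_c45 LD3_c2)) = (LP (LK LD1_c0 LD2_c54 LD3_c16)) :=
  Lgr Lrot101 (Lpe (f144111 IH) (Lpr_ff (f430467 IH) (Lpe (f155914 IH) (Lpn (LP (LK LD1_c0 LD2_c54 LD3_c16))))))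
theorem f430471 : Led Lsl_ff (LP (LK LD1_c1 LD2_c37 LD3_c23)) = (LP (LK LD1_c1 LD2_c55 LD3_c5)) :=
  Lgr Lrot19 (Lpr_dt (K7.f84482 IH) (Lpr_ft (f430469 IH) (Lpr_dt (K7.f94387 IH) (Lpn (LP (LK LD1_c1 LD2_c55 LD3_c5))))))
theorem f430479 : Led Lsl_ft (LP (LK LD1_c1 LD2_c37 LD3_c23)) = (LP (LK LD1_c1 LD2_c55 LD3_c5)) :=
  Lgr Lrot48 (Lpr_ff (f430471 IH) (Lpn (LP (LK LD1_c1 LD2_c55 LD3_c5))))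
theorem f84098 : Led Lsl_gt (LP (LK LD1_c1 LD2_c37 LD3_c23)) = (LP (LK LD1_c3 LD2_c22 LD3_c13)) :=
  Lre_g IH (LK LD1_c1 LD2_c37 LD3_c23) (LK LD1_c3 LD2_c22 LD3_c13) Lrfl Lrfl
theorem f430449 : Led Lsl_af (LP (LK LD1_c3 LD2_c42 LD3_c47)) = (LP (LK LD1_c1 LD2_c55 LD3_c5)) :=
  Lgr Lrot0 (Lpr_at (f430447 IH) (Lpn (LP (LK LD1_c1 LD2_c55 LD3_c5))))
theorem f430485 : Led Lsl_gt (LP (LK LD1_c3 LD2_c22 LD3_c13)) = (LP (LK LD1_c3 LD2_c42 LD3_c47)) :=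
  Lgr Lrot46 (Lpe (f84098 IH) (Lpr_ft (f430479 IH) (Lpe (f430449 IH) (Lpn (LP (LK LD1_c3 LD2_c42 LD3_c47))))))
theorem f84527 : Led Lsl_ct (LP (LK LD1_c3 LD2_c22 LD3_c13)) = (LP (LK LD1_c6 LD2_c48 LD3_c2)) :=
  Lre_c IH (LK LD1_c3 LD2_c22 LD3_c13) (LK LD1_c6 LD2_c48 LD3_c2) Lrfl Lrfl
theorem f430487 : Led Lsl_gt (LP (LK LD1_c6 LD2_c48 LD3_c2)) = (LP (LK LD1_c7 LD2_c20 LD3_c7)) :=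
  Lgr Lrot94 (Lpe (f84527 IH) (Lpr_gt (f430485 IH) (Lpr_dt (K6.f126889 IH) (Lpr_gt (K5.f124264 IH) (Lpr_dt (K3.f86737 IH) (Lpe (K3.f86770 IH) (Lpe (K6.f106380 IH) (Lpr_gf (K5.f131291 IH) (Lpe (K5.f106788 IH) (Lpn (LP (LK LD1_c7 LD2_c20 LD3_c7))))))))))))
theorem f430540 : Led Lsl_bf (LP (LK LD1_c3 LD2_c8 LD3_c60)) = (LP (LK LD1_c3 LD2_c39 LD3_c60)) :=
  Lgr Lrot156 (Lpr_gt (K7.f83129 IH) (Lpe (K7.f84526 IH) (Lpr_ct (K6.f25815 IH) (Lpr_gt (K6.f84519 IH) (Lpe (K6.f84094 IH) (Lpr_bt (K5.f84097 IH) (Lpr_gt (f84098 IH) (Lpr_ct (f84527 IH) (Lpr_gt (f430487 IH) (Lpe (K5.f106787 IH) (Lpn (LP (LK LD1_c3 LD2_c39 LD3_c60)))))))))))))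
theorem f155430 : Led Lsl_ct (LP (LK LD1_c3 LD2_c8 LD3_c60)) = (LP (LK LD1_c6 LD2_c22 LD3_c33)) :=
  Lre_c IH (LK LD1_c3 LD2_c8 LD3_c60) (LK LD1_c6 LD2_c22 LD3_c33) Lrfl Lrfl
theorem f155445 : Led Lsl_bt (LP (LK LD1_c6 LD2_c22 LD3_c33)) = (LP (LK LD1_c12 LD2_c18 LD3_c34)) :=
  Lre_b IH (LK LD1_c6 LD2_c22 LD3_c33) (LK LD1_c12 LD2_c18 LD3_c34) Lrfl Lrfl
theorem f106793 : Led Lsl_ct (LP (LK LD1_c7 LD2_c20 LD3_c7)) = (LP (LK LD1_c3 LD2_c39 LD3_c60)) :=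
  Lre_c IH (LK LD1_c7 LD2_c20 LD3_c7) (LK LD1_c3 LD2_c39 LD3_c60) Lrfl Lrfl
theorem f125144 : Led Lsl_bt (LP (LK LD1_c13 LD2_c52 LD3_c29)) = (LP (LK LD1_c7 LD2_c20 LD3_c7)) :=
  Lre_b IH (LK LD1_c13 LD2_c52 LD3_c29) (LK LD1_c7 LD2_c20 LD3_c7) Lrfl Lrfl
theorem f430542 : Led Lsl_ct (LP (LK LD1_c12 LD2_c18 LD3_c34)) = (LP (LK LD1_c13 LD2_c52 LD3_c29)) :=
  Lgr Lrot83 (Lpe (f155445 IH) (Lpe (f155430 IH) (Lpr_bf (f430540 IH) (Lpe (f106793 IH) (Lpe (f125144 IH) (Lpn (LP (LK LD1_c13 LD2_c52 LD3_c29))))))))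
theorem f125214 : Led Lsl_bt (LP (LK LD1_c14 LD2_c2 LD3_c44)) = (LP (LK LD1_c7 LD2_c25 LD3_c42)) :=
  Lre_b IH (LK LD1_c14 LD2_c2 LD3_c44) (LK LD1_c7 LD2_c25 LD3_c42) Lrfl Lrfl
theorem f108846 : Led Lsl_bt (LP (LK LD1_c7 LD2_c20 LD3_c7)) = (LP (LK LD1_c13 LD2_c52 LD3_c29)) :=
  Lre_b IH (LK LD1_c7 LD2_c20 LD3_c7) (LK LD1_c13 LD2_c52 LD3_c29) Lrfl Lrfl
theorem f131234 : Led Lsl_ff (LP (LK LD1_c14 LD2_c2 LD3_c44)) = (LP (LK LD1_c13 LD2_c52 LD3_c29)) :=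
  Lgr Lrot25 (Lpr_bt (f125214 IH) (Lpr_ft (K7.f131230 IH) (Lpr_bt (f108846 IH) (Lpn (LP (LK LD1_c13 LD2_c52 LD3_c29))))))
theorem f144159 : Led Lsl_dt (LP (LK LD1_c1 LD2_c48 LD3_c1)) = (LP (LK LD1_c1 LD2_c39 LD3_c10)) :=
  Lgr Lrot27 (Lpr_cf (K6.f124094 IH) (Lpe (K4.f23617 IH) (Lpe (K4.f23616 IH) (Lpe (K4.f124063 IH) (Lpr_df (K4.f24606 IH) (Lpr_gt (K3.f21026 IH) (Lpr_ct (K4.f109162 IH) (Lpr_gt (K6.f144151 IH) (Lpe (K6.f144157 IH) (Lpn (LP (LK LD1_c1 LD2_c39 LD3_c10))))))))))))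
theorem f114961 : Led Lsl_et (LP (LK LD1_c3 LD2_c42 LD3_c4)) = (LP (LK LD1_c1 LD2_c48 LD3_c1)) :=
  Lre_e IH (LK LD1_c3 LD2_c42 LD3_c4) (LK LD1_c1 LD2_c48 LD3_c1) Lrfl Lrfl
theorem f114943 : Led Lsl_dt (LP (LK LD1_c7 LD2_c24 LD3_c55)) = (LP (LK LD1_c3 LD2_c42 LD3_c4)) :=
  Lre_d IH (LK LD1_c7 LD2_c24 LD3_c55) (LK LD1_c3 LD2_c42 LD3_c4) Lrfl Lrfl
theorem f144201 : Led Lsl_et (LP (LK LD1_c3 LD2_c42 LD3_c31)) = (LP (LK LD1_c7 LD2_c24 LD3_c55)) :=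
  Lgr Lrot71 (Lpe (K5.f124136 IH) (Lpr_ef (K7.f144197 IH) (Lpe (f144159 IH) (Lpe (f114961 IH) (Lpe (f114943 IH) (Lpn (LP (LK LD1_c7 LD2_c24 LD3_c55))))))))
theorem f144205 : Led Lsl_ef (LP (LK LD1_c3 LD2_c42 LD3_c31)) = (LP (LK LD1_c7 LD2_c24 LD3_c55)) :=
  Lgr Lrot88 (Lpr_et (f144201 IH) (Lpn (LP (LK LD1_c7 LD2_c24 LD3_c55))))
theorem f114957 : Led Lsl_ct (LP (LK LD1_c14 LD2_c1 LD3_c34)) = (LP (LK LD1_c7 LD2_c24 LD3_c55)) :=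
  Lre_c IH (LK LD1_c14 LD2_c1 LD3_c34) (LK LD1_c7 LD2_c24 LD3_c55) Lrfl Lrfl
theorem f144208 : Led Lsl_et (LP (LK LD1_c7 LD2_c25 LD3_c42)) = (LP (LK LD1_c14 LD2_c1 LD3_c34)) :=
  Lgr Lrot158 (Lpe (K7.f125104 IH) (Lpr_ef (f144205 IH) (Lpe (f114957 IH) (Lpn (LP (LK LD1_c14 LD2_c1 LD3_c34))))))
theorem f114950 : Led Lsl_bt (LP (LK LD1_c14 LD2_c1 LD3_c34)) = (LP (LK LD1_c23 LD2_c34 LD3_c27)) :=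
  Lre_b IH (LK LD1_c14 LD2_c1 LD3_c34) (LK LD1_c23 LD2_c34 LD3_c27) Lrfl Lrfl
theorem f144210 : Led Lsl_ef (LP (LK LD1_c14 LD2_c2 LD3_c44)) = (LP (LK LD1_c23 LD2_c34 LD3_c27)) :=
  Lgr Lrot29 (Lpr_bt (f125214 IH) (Lpr_et (f144208 IH) (Lpr_bt (f114950 IH) (Lpn (LP (LK LD1_c23 LD2_c34 LD3_c27))))))
theorem f114938 : Led Lsl_et (LP (LK LD1_c1 LD2_c48 LD3_c1)) = (LP (LK LD1_c3 LD2_c42 LD3_c4)) :=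
  Lre_e IH (LK LD1_c1 LD2_c48 LD3_c1) (LK LD1_c3 LD2_c42 LD3_c4) Lrfl Lrfl
theorem f114939 : Led Lsl_bf (LP (LK LD1_c3 LD2_c22 LD3_c39)) = (LP (LK LD1_c3 LD2_c42 LD3_c4)) :=
  Lgr Lrot96 (Lpr_et (K4.f77782 IH) (Lpr_bt (K4.f114928 IH) (Lpr_et (f114938 IH) (Lpn (LP (LK LD1_c3 LD2_c42 LD3_c4))))))
theorem f99226 : Led Lsl_et (LP (LK LD1_c1 LD2_c29 LD3_c24)) = (LP (LK LD1_c1 LD2_c5 LD3_c59)) :=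
  Lgr Lrot87 (Lpr_ef (K4.f99222 IH) (Lpn (LP (LK LD1_c1 LD2_c5 LD3_c59))))
theorem f99229 : Led Lsl_df (LP (LK LD1_c6 LD2_c18 LD3_c44)) = (LP (LK LD1_c3 LD2_c22 LD3_c39)) :=
  Lgr Lrot70 (Lpr_et (K4.f99228 IH) (Lpr_dt (K5.f25092 IH) (Lpr_et (f99226 IH) (Lpr_dt (K4.f79621 IH) (Lpr_et (K4.f79625 IH) (Lpn (LP (LK LD1_c3 LD2_c22 LD3_c39))))))))
theorem f114944 : Led Lsl_bt (LP (LK LD1_c6 LD2_c18 LD3_c44)) = (LP (LK LD1_c7 LD2_c24 LD3_c55)) :=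
  Lgr Lrot95 (Lpr_df (f99229 IH) (Lpr_bf (f114939 IH) (Lpe (f114943 IH) (Lpn (LP (LK LD1_c7 LD2_c24 LD3_c55))))))
theorem f99232 : Led Lsl_ct (LP (LK LD1_c12 LD2_c13 LD3_c19)) = (LP (LK LD1_c6 LD2_c18 LD3_c44)) :=
  Lre_c IH (LK LD1_c12 LD2_c13 LD3_c19) (LK LD1_c6 LD2_c18 LD3_c44) Lrfl Lrfl
theorem f114948 : Led Lsl_bt (LP (LK LD1_c21 LD2_c19 LD3_c11)) = (LP (LK LD1_c12 LD2_c13 LD3_c19)) :=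
  Lre_b IH (LK LD1_c21 LD2_c19 LD3_c11) (LK LD1_c12 LD2_c13 LD3_c19) Lrfl Lrfl
theorem f114949 : Led Lsl_ct (LP (LK LD1_c7 LD2_c24 LD3_c55)) = (LP (LK LD1_c14 LD2_c1 LD3_c34)) :=
  Lre_c IH (LK LD1_c7 LD2_c24 LD3_c55) (LK LD1_c14 LD2_c1 LD3_c34) Lrfl Lrfl
theorem f114951 : Led Lsl_cf (LP (LK LD1_c21 LD2_c19 LD3_c11)) = (LP (LK LD1_c23 LD2_c34 LD3_c27)) :=
  Lgr Lrot97 (Lpr_bt (f114948 IH) (Lpr_ct (f99232 IH) (Lpr_bt (f114944 IH) (Lpr_ct (f114949 IH) (Lpr_bt (f114950 IH) (Lpn (LP (LK LD1_c23 LD2_c34 LD3_c27))))))))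
theorem f114953 : Led Lsl_ct (LP (LK LD1_c21 LD2_c19 LD3_c11)) = (LP (LK LD1_c23 LD2_c34 LD3_c27)) :=
  Lgr Lrot59 (Lpr_cf (f114951 IH) (Lpn (LP (LK LD1_c23 LD2_c34 LD3_c27))))
theorem f114958 : Led Lsl_et (LP (LK LD1_c12 LD2_c13 LD3_c17)) = (LP (LK LD1_c21 LD2_c19 LD3_c11)) :=
  Lre_e IH (LK LD1_c12 LD2_c13 LD3_c17) (LK LD1_c21 LD2_c19 LD3_c11) Lrfl Lrfl
theorem f144213 : Led Lsl_ct (LP (LK LD1_c14 LD2_c2 LD3_c44)) = (LP (LK LD1_c12 LD2_c13 LD3_c17)) :=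
  Lgr Lrot15 (Lpr_ef (f144210 IH) (Lpe (f114953 IH) (Lpe (f114958 IH) (Lpn (LP (LK LD1_c12 LD2_c13 LD3_c17))))))
theorem f430571 : Led Lsl_ff (LP (LK LD1_c12 LD2_c18 LD3_c34)) = (LP (LK LD1_c12 LD2_c13 LD3_c17)) :=
  Lgr Lrot23 (Lpr_ct (f430542 IH) (Lpe (f131234 IH) (Lpr_ct (f144213 IH) (Lpn (LP (LK LD1_c12 LD2_c13 LD3_c17))))))
theorem f430574 : Led Lsl_bt (LP (LK LD1_c12 LD2_c18 LD3_c34)) = (LP (LK LD1_c6 LD2_c22 LD3_c33)) :=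
  Lre_b IH (LK LD1_c12 LD2_c18 LD3_c34) (LK LD1_c6 LD2_c22 LD3_c33) Lrfl Lrfl
theorem f67896 : Led Lsl_bt (LP (LK LD1_c6 LD2_c18 LD3_c43)) = (LP (LK LD1_c12 LD2_c13 LD3_c17)) :=
  Lre_b IH (LK LD1_c6 LD2_c18 LD3_c43) (LK LD1_c12 LD2_c13 LD3_c17) Lrfl Lrfl
theorem f430578 : Led Lsl_ft (LP (LK LD1_c6 LD2_c22 LD3_c33)) = (LP (LK LD1_c6 LD2_c18 LD3_c43)) :=
  Lgr Lrot75 (Lpe (f430574 IH) (Lpr_ff (f430571 IH) (Lpe (f67896 IH) (Lpn (LP (LK LD1_c6 LD2_c18 LD3_c43))))))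
theorem f430684 : Led Lsl_ff (LP (LK LD1_c3 LD2_c8 LD3_c60)) = (LP (LK LD1_c3 LD2_c6 LD3_c36)) :=
  Lgr Lrot23 (Lpr_ct (f155430 IH) (Lpr_ft (f430578 IH) (Lpr_ct (K7.f67894 IH) (Lpn (LP (LK LD1_c3 LD2_c6 LD3_c36))))))
theorem f78176 : Led Lsl_dt (LP (LK LD1_c3 LD2_c6 LD3_c35)) = (LP (LK LD1_c1 LD2_c29 LD3_c23)) :=
  Lre_d IH (LK LD1_c3 LD2_c6 LD3_c35) (LK LD1_c1 LD2_c29 LD3_c23) Lrfl Lrfl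
theorem f155426 : Led Lsl_at (LP (LK LD1_c3 LD2_c8 LD3_c60)) = (LP (LK LD1_c3 LD2_c6 LD3_c35)) :=
  Lgr Lrot51 (Lpr_df (K7.f155424 IH) (Lpe (K4.f113911 IH) (Lpe (f78176 IH) (Lpn (LP (LK LD1_c3 LD2_c6 LD3_c35))))))
theorem f152249 : Led Lsl_bt (LP (LK LD1_c1 LD2_c6 LD3_c17)) = (LP (LK LD1_c2 LD2_c18 LD3_c31)) :=
  Lre_b IH (LK LD1_c1 LD2_c6 LD3_c17) (LK LD1_c2 LD2_c18 LD3_c31) Lrfl Lrfl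
theorem f86323 : Led Lsl_bt (LP (LK LD1_c3 LD2_c6 LD3_c35)) = (LP (LK LD1_c4 LD2_c47 LD3_c33)) :=
  Lgr Lrot95 (Lpe (K7.f25070 IH) (Lpr_bf (K3.f86316 IH) (Lpe (K7.f58166 IH) (Lpn (LP (LK LD1_c4 LD2_c47 LD3_c33))))))
theorem f86327 : Led Lsl_bf (LP (LK LD1_c3 LD2_c6 LD3_c35)) = (LP (LK LD1_c4 LD2_c47 LD3_c33)) :=
  Lgr Lrot24 (Lpr_bt (f86323 IH) (Lpn (LP (LK LD1_c4 LD2_c47 LD3_c33))))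
theorem f153034 : Led Lsl_gt (LP (LK LD1_c2 LD2_c18 LD3_c31)) = (LP (LK LD1_c3 LD2_c6 LD3_c35)) :=
  Lgr Lrot164 (Lpe (f152249 IH) (Lpr_ct (K7.f82865 IH) (Lpr_gf (K7.f152243 IH) (Lpe (K5.f57562 IH) (Lpr_gf (K7.f152309 IH) (Lpe (K7.f152813 IH) (Lpr_ct (K7.f152814 IH) (Lpe (K7.f152852 IH) (Lpr_cf (K7.f152967 IH) (Lpe (f86327 IH) (Lpn (LP (LK LD1_c3 LD2_c6 LD3_c35)))))))))))))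
theorem f430686 : Led Lsl_gf (LP (LK LD1_c2 LD2_c18 LD3_c31)) = (LP (LK LD1_c3 LD2_c6 LD3_c36)) :=
  Lgr Lrot47 (Lpr_gt (f153034 IH) (Lpe (f155426 IH) (Lpr_ff (f430684 IH) (Lpn (LP (LK LD1_c3 LD2_c6 LD3_c36))))))
theorem f152275 : Led Lsl_dt (LP (LK LD1_c1 LD2_c6 LD3_c16)) = (LP (LK LD1_c2 LD2_c18 LD3_c31)) :=
  Lre_d IH (LK LD1_c1 LD2_c6 LD3_c16) (LK LD1_c2 LD2_c18 LD3_c31) Lrfl Lrfl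
theorem f82868 : Led Lsl_bt (LP (LK LD1_c1 LD2_c6 LD3_c16)) = (LP (LK LD1_c0 LD2_c30 LD3_c17)) :=
  Lre_b IH (LK LD1_c1 LD2_c6 LD3_c16) (LK LD1_c0 LD2_c30 LD3_c17) Lrfl Lrfl
theorem f82863 : Led Lsl_bt (LP (LK LD1_c0 LD2_c30 LD3_c17)) = (LP (LK LD1_c1 LD2_c6 LD3_c16)) :=
  Lre_b IH (LK LD1_c0 LD2_c30 LD3_c17) (LK LD1_c1 LD2_c6 LD3_c16) Lrfl Lrfl
theorem f152186 : Led Lsl_ef (LP (LK LD1_c1 LD2_c6 LD3_c16)) = (LP (LK LD1_c1 LD2_c6 LD3_c16)) :=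
  Lgr Lrot29 (Lpr_bt (f82868 IH) (Lpr_et (K7.f152184 IH) (Lpr_bt (f82863 IH) (Lpn (LP (LK LD1_c1 LD2_c6 LD3_c16))))))
theorem f430692 : Led Lsl_gt (LP (LK LD1_c1 LD2_c6 LD3_c16)) = (LP (LK LD1_c2 LD2_c17 LD3_c59)) :=
  Lgr Lrot137 (Lpr_ef (f152186 IH) (Lpr_dt (f152275 IH) (Lpr_gf (f430686 IH) (Lpe (K4.f25091 IH) (Lpr_et (f99226 IH) (Lpr_gf (K4.f79619 IH) (Lpe (K4.f25123 IH) (Lpr_dt (K4.f25126 IH) (Lpr_gf (K4.f67668 IH) (Lpe (K4.f79385 IH) (Lpn (LP (LK LD1_c2 LD2_c17 LD3_c59)))))))))))))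
theorem f154161 : Led Lsl_cf (LP (LK LD1_c1 LD2_c6 LD3_c16)) = (LP (LK LD1_c1 LD2_c6 LD3_c16)) :=
  Lgr Lrot97 (Lpr_bt (f82868 IH) (Lpr_ct (K7.f82818 IH) (Lpr_bt (K7.f154159 IH) (Lpe (K7.f82820 IH) (Lpr_bt (f82863 IH) (Lpn (LP (LK LD1_c1 LD2_c6 LD3_c16))))))))
theorem f82869 : Led Lsl_gt (LP (LK LD1_c2 LD2_c18 LD3_c29)) = (LP (LK LD1_c1 LD2_c6 LD3_c16)) :=
  Lre_g IH (LK LD1_c2 LD2_c18 LD3_c29) (LK LD1_c1 LD2_c6 LD3_c16) Lrfl Lrfl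
theorem f430700 : Led Lsl_df (LP (LK LD1_c2 LD2_c18 LD3_c29)) = (LP (LK LD1_c3 LD2_c11 LD3_c51)) :=
  Lgr Lrot155 (Lpr_gt (f82869 IH) (Lpe (f154161 IH) (Lpr_gt (f430692 IH) (Lpe (K7.f114910 IH) (Lpr_dt (K5.f78785 IH) (Lpr_cf (K7.f133846 IH) (Lpe (K7.f67956 IH) (Lpe (K2.f67638 IH) (Lpe (K5.f67906 IH) (Lpn (LP (LK LD1_c3 LD2_c11 LD3_c51))))))))))))
theorem f67656 : Led Lsl_gt (LP (LK LD1_c6 LD2_c27 LD3_c56)) = (LP (LK LD1_c3 LD2_c11 LD3_c52)) :=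
  Lre_g IH (LK LD1_c6 LD2_c27 LD3_c56) (LK LD1_c3 LD2_c11 LD3_c52) Lrfl Lrfl
theorem f67688 : Led Lsl_bt (LP (LK LD1_c1 LD2_c32 LD3_c17)) = (LP (LK LD1_c0 LD2_c42 LD3_c42)) :=
  Lre_b IH (LK LD1_c1 LD2_c32 LD3_c17) (LK LD1_c0 LD2_c42 LD3_c42) Lrfl Lrfl
theorem f114325 : Led Lsl_bt (LP (LK LD1_c6 LD2_c9 LD3_c60)) = (LP (LK LD1_c3 LD2_c1 LD3_c37)) :=
  Lre_b IH (LK LD1_c6 LD2_c9 LD3_c60) (LK LD1_c3 LD2_c1 LD3_c37) Lrfl Lrfl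
theorem f114397 : Led Lsl_cf (LP (LK LD1_c6 LD2_c27 LD3_c56)) = (LP (LK LD1_c6 LD2_c9 LD3_c60)) :=
  Lgr Lrot160 (Lpr_gt (f67656 IH) (Lpe (K2.f67638 IH) (Lpr_bt (f67688 IH) (Lpe (K3.f82789 IH) (Lpr_ct (K3.f25777 IH) (Lpr_gt (K3.f86019 IH) (Lpe (K0.f7466 IH) (Lpr_bt (K5.f86038 IH) (Lpr_gt (K4.f114387 IH) (Lpe (f114325 IH) (Lpn (LP (LK LD1_c6 LD2_c9 LD3_c60)))))))))))))
theorem f125409 : Led Lsl_gf (LP (LK LD1_c6 LD2_c9 LD3_c60)) = (LP (LK LD1_c6 LD2_c19 LD3_c16)) :=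
  Lgr Lrot147 (Lpe (f114397 IH) (Lpr_gt (f67656 IH) (Lpr_ct (K2.f67635 IH) (Lpe (K2.f67637 IH) (Lpe (K2.f67357 IH) (Lpe (K3.f67365 IH) (Lpr_cf (K3.f86063 IH) (Lpr_gf (K5.f125404 IH) (Lpe (K5.f62643 IH) (Lpn (LP (LK LD1_c6 LD2_c19 LD3_c16))))))))))))
theorem f125420 : Led Lsl_dt (LP (LK LD1_c6 LD2_c9 LD3_c60)) = (LP (LK LD1_c3 LD2_c1 LD3_c31)) :=
  Lre_d IH (LK LD1_c6 LD2_c9 LD3_c60) (LK LD1_c3 LD2_c1 LD3_c31) Lrfl Lrfl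
theorem f430714 : Led Lsl_cf (LP (LK LD1_c2 LD2_c18 LD3_c29)) = (LP (LK LD1_c3 LD2_c1 LD3_c31)) :=
  Lgr Lrot14 (Lpr_df (f430700 IH) (Lpe (K5.f67907 IH) (Lpe (K4.f25126 IH) (Lpr_gf (K3.f79387 IH) (Lpr_ct (K2.f77858 IH) (Lpr_gt (K5.f125407 IH) (Lpr_dt (K5.f62635 IH) (Lpe (f125409 IH) (Lpr_dt (f125420 IH) (Lpn (LP (LK LD1_c3 LD2_c1 LD3_c31))))))))))))
theorem f104611 : Led Lsl_ct (LP (LK LD1_c1 LD2_c30 LD3_c12)) = (LP (LK LD1_c0 LD2_c41 LD3_c40)) :=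
  Lre_c IH (LK LD1_c1 LD2_c30 LD3_c12) (LK LD1_c0 LD2_c41 LD3_c40) Lrfl Lrfl
theorem f104612 : Led Lsl_bt (LP (LK LD1_c1 LD2_c30 LD3_c12)) = (LP (LK LD1_c3 LD2_c8 LD3_c2)) :=
  Lre_b IH (LK LD1_c1 LD2_c30 LD3_c12) (LK LD1_c3 LD2_c8 LD3_c2) Lrfl Lrfl
theorem f430721 : Led Lsl_gt (LP (LK LD1_c3 LD2_c8 LD3_c2)) = (LP (LK LD1_c3 LD2_c1 LD3_c31)) :=
  Lgr Lrot82 (Lpe (f104612 IH) (Lpr_ct (f104611 IH) (Lpe (K5.f91485 IH) (Lpe (K5.f104318 IH) (Lpr_bt (f104608 IH) (Lpe (K7.f25788 IH) (Lpe (f82868 IH) (Lpe (f154161 IH) (Lpe (f82869 IH) (Lpr_cf (f430714 IH) (Lpn (LP (LK LD1_c3 LD2_c1 LD3_c31)))))))))))))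
theorem f61738 : Led Lsl_gt (LP (LK LD1_c1 LD2_c26 LD3_c45)) = (LP (LK LD1_c3 LD2_c1 LD3_c28)) :=
  Lre_g IH (LK LD1_c1 LD2_c26 LD3_c45) (LK LD1_c3 LD2_c1 LD3_c28) Lrfl Lrfl
theorem f430723 : Led Lsl_cf (LP (LK LD1_c3 LD2_c8 LD3_c2)) = (LP (LK LD1_c3 LD2_c1 LD3_c28)) :=
  Lgr Lrot169 (Lpr_gt (f430721 IH) (Lpe (f430714 IH) (Lpr_df (f430700 IH) (Lpe (K5.f67913 IH) (Lpe (K5.f134055 IH) (Lpe (K5.f62647 IH) (Lpr_gf (K5.f126610 IH) (Lpe (K5.f61733 IH) (Lpr_gt (f61738 IH) (Lpn (LP (LK LD1_c3 LD2_c1 LD3_c28))))))))))))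
theorem f114702 : Led Lsl_et (LP (LK LD1_c12 LD2_c27 LD3_c3)) = (LP (LK LD1_c21 LD2_c34 LD3_c24)) :=
  Lre_e IH (LK LD1_c12 LD2_c27 LD3_c3) (LK LD1_c21 LD2_c34 LD3_c24) Lrfl Lrfl
theorem f133857 : Led Lsl_et (LP (LK LD1_c21 LD2_c34 LD3_c26)) = (LP (LK LD1_c12 LD2_c27 LD3_c7)) :=
  Lre_e IH (LK LD1_c21 LD2_c34 LD3_c26) (LK LD1_c12 LD2_c27 LD3_c7) Lrfl Lrfl
theorem f133858 : Led Lsl_ct (LP (LK LD1_c21 LD2_c34 LD3_c24)) = (LP (LK LD1_c21 LD2_c34 LD3_c26)) :=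
  Lgr Lrot15 (Lpe (f114702 IH) (Lpr_cf (K7.f133851 IH) (Lpe (f133857 IH) (Lpn (LP (LK LD1_c21 LD2_c34 LD3_c26))))))
theorem f133862 : Led Lsl_cf (LP (LK LD1_c21 LD2_c34 LD3_c24)) = (LP (LK LD1_c21 LD2_c34 LD3_c26)) :=
  Lgr Lrot11 (Lpr_ct (f133858 IH) (Lpn (LP (LK LD1_c21 LD2_c34 LD3_c26))))
theorem f114541 : Led Lsl_et (LP (LK LD1_c21 LD2_c19 LD3_c17)) = (LP (LK LD1_c12 LD2_c13 LD3_c21)) :=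
  Lre_e IH (LK LD1_c21 LD2_c19 LD3_c17) (LK LD1_c12 LD2_c13 LD3_c21) Lrfl Lrfl
theorem f114703 : Led Lsl_af (LP (LK LD1_c21 LD2_c19 LD3_c17)) = (LP (LK LD1_c21 LD2_c34 LD3_c24)) :=
  Lgr Lrot50 (Lpr_et (f114541 IH) (Lpr_at (K5.f114622 IH) (Lpr_et (f114702 IH) (Lpn (LP (LK LD1_c21 LD2_c34 LD3_c24))))))
theorem f114526 : Led Lsl_et (LP (LK LD1_c12 LD2_c13 LD3_c21)) = (LP (LK LD1_c21 LD2_c19 LD3_c17)) :=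
  Lre_e IH (LK LD1_c12 LD2_c13 LD3_c21) (LK LD1_c21 LD2_c19 LD3_c17) Lrfl Lrfl
theorem f78816 : Led Lsl_et (LP (LK LD1_c21 LD2_c6 LD3_c2)) = (LP (LK LD1_c12 LD2_c0 LD3_c48)) :=
  Lre_e IH (LK LD1_c21 LD2_c6 LD3_c2) (LK LD1_c12 LD2_c0 LD3_c48) Lrfl Lrfl
theorem f114527 : Led Lsl_ct (LP (LK LD1_c21 LD2_c19 LD3_c17)) = (LP (LK LD1_c21 LD2_c6 LD3_c2)) :=
  Lgr Lrot15 (Lpe (f114526 IH) (Lpr_cf (K5.f114519 IH) (Lpe (f78816 IH) (Lpn (LP (LK LD1_c21 LD2_c6 LD3_c2))))))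
theorem f133865 : Led Lsl_at (LP (LK LD1_c21 LD2_c6 LD3_c2)) = (LP (LK LD1_c21 LD2_c34 LD3_c26)) :=
  Lgr Lrot107 (Lpe (f114527 IH) (Lpr_af (f114703 IH) (Lpr_cf (f133862 IH) (Lpn (LP (LK LD1_c21 LD2_c34 LD3_c26))))))
theorem f78802 : Led Lsl_et (LP (LK LD1_c12 LD2_c0 LD3_c48)) = (LP (LK LD1_c21 LD2_c6 LD3_c2)) :=
  Lre_e IH (LK LD1_c12 LD2_c0 LD3_c48) (LK LD1_c21 LD2_c6 LD3_c2) Lrfl Lrfl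
theorem f133868 : Led Lsl_af (LP (LK LD1_c12 LD2_c0 LD3_c48)) = (LP (LK LD1_c12 LD2_c27 LD3_c7)) :=
  Lgr Lrot50 (Lpr_et (f78802 IH) (Lpr_at (f133865 IH) (Lpr_et (f133857 IH) (Lpn (LP (LK LD1_c12 LD2_c27 LD3_c7))))))
theorem f133879 : Led Lsl_at (LP (LK LD1_c6 LD2_c9 LD3_c59)) = (LP (LK LD1_c6 LD2_c27 LD3_c55)) :=
  Lgr Lrot51 (Lpe (K5.f61754 IH) (Lpr_af (f133868 IH) (Lpe (K7.f67960 IH) (Lpn (LP (LK LD1_c6 LD2_c27 LD3_c55))))))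
theorem f133883 : Led Lsl_ff (LP (LK LD1_c6 LD2_c9 LD3_c59)) = (LP (LK LD1_c6 LD2_c27 LD3_c56)) :=
  Lgr Lrot52 (Lpr_at (f133879 IH) (Lpe (K7.f67956 IH) (Lpe (f67656 IH) (Lpn (LP (LK LD1_c6 LD2_c27 LD3_c56))))))
theorem f67817 : Led Lsl_dt (LP (LK LD1_c6 LD2_c27 LD3_c56)) = (LP (LK LD1_c12 LD2_c27 LD3_c10)) :=
  Lre_d IH (LK LD1_c6 LD2_c27 LD3_c56) (LK LD1_c12 LD2_c27 LD3_c10) Lrfl Lrfl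
theorem f133885 : Led Lsl_ct (LP (LK LD1_c12 LD2_c27 LD3_c10)) = (LP (LK LD1_c12 LD2_c27 LD3_c1)) :=
  Lgr Lrot133 (Lpe (f67817 IH) (Lpe (f133883 IH) (Lpr_at (f133879 IH) (Lpe (K7.f133836 IH) (Lpe (K5.f78785 IH) (Lpr_cf (K7.f114910 IH) (Lpr_df (K4.f79394 IH) (Lpe (K7.f67670 IH) (Lpe (K5.f79397 IH) (Lpn (LP (LK LD1_c12 LD2_c27 LD3_c1))))))))))))
theorem f133828 : Led Lsl_dt (LP (LK LD1_c3 LD2_c1 LD3_c31)) = (LP (LK LD1_c6 LD2_c9 LD3_c60)) :=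
  Lre_d IH (LK LD1_c3 LD2_c1 LD3_c31) (LK LD1_c6 LD2_c9 LD3_c60) Lrfl Lrfl
theorem f430708 : Led Lsl_ct (LP (LK LD1_c2 LD2_c18 LD3_c29)) = (LP (LK LD1_c3 LD2_c1 LD3_c31)) :=
  Lgr Lrot176 (Lpr_df (f430700 IH) (Lpe (K5.f67913 IH) (Lpe (K5.f67910 IH) (Lpr_cf (K7.f133851 IH) (Lpe (K7.f67960 IH) (Lpe (K7.f133836 IH) (Lpe (K5.f78785 IH) (Lpr_cf (K7.f114910 IH) (Lpr_df (K4.f79394 IH) (Lpe (K7.f67670 IH) (Lpe (K5.f79397 IH) (Lpe (f133885 IH) (Lpe (f67817 IH) (Lpr_cf (f114397 IH) (Lpe (f133828 IH) (Lpn (LP (LK LD1_c3 LD2_c1 LD3_c31))))))))))))))))))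
theorem f430706 : Led Lsl_bt (LP (LK LD1_c2 LD2_c18 LD3_c29)) = (LP (LK LD1_c3 LD2_c39 LD3_c61)) :=
  Lgr Lrot95 (Lpr_df (f430700 IH) (Lpe (K5.f134541 IH) (Lpr_df (K6.f134597 IH) (Lpn (LP (LK LD1_c3 LD2_c39 LD3_c61))))))
theorem f430725 : Led Lsl_bt (LP (LK LD1_c3 LD2_c1 LD3_c28)) = (LP (LK LD1_c1 LD2_c34 LD3_c9)) :=
  Lgr Lrot92 (Lpe (f430723 IH) (Lpr_gt (f430721 IH) (Lpe (f430708 IH) (Lpr_bt (f430706 IH) (Lpe (K6.f142981 IH) (Lpr_ct (K6.f21067 IH) (Lpr_gt (K6.f21125 IH) (Lpr_cf (K5.f21070 IH) (Lpe (K6.f142999 IH) (Lpr_gt (K6.f135807 IH) (Lpn (LP (LK LD1_c1 LD2_c34 LD3_c9)))))))))))))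
theorem f104604 : Led Lsl_ct (LP (LK LD1_c0 LD2_c41 LD3_c40)) = (LP (LK LD1_c1 LD2_c30 LD3_c12)) :=
  Lre_c IH (LK LD1_c0 LD2_c41 LD3_c40) (LK LD1_c1 LD2_c30 LD3_c12) Lrfl Lrfl
theorem f430727 : Led Lsl_cf (LP (LK LD1_c3 LD2_c1 LD3_c28)) = (LP (LK LD1_c3 LD2_c8 LD3_c2)) :=
  Lgr Lrot97 (Lpr_bt (f430725 IH) (Lpr_ct (K7.f145499 IH) (Lpr_bt (K6.f104668 IH) (Lpr_ct (f104604 IH) (Lpr_bt (f104612 IH) (Lpn (LP (LK LD1_c3 LD2_c8 LD3_c2))))))))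
theorem f134394 : Led Lsl_bt (LP (LK LD1_c3 LD2_c8 LD3_c2)) = (LP (LK LD1_c1 LD2_c30 LD3_c12)) :=
  Lre_b IH (LK LD1_c3 LD2_c8 LD3_c2) (LK LD1_c1 LD2_c30 LD3_c12) Lrfl Lrfl
theorem f126933 : Led Lsl_gt (LP (LK LD1_c1 LD2_c30 LD3_c12)) = (LP (LK LD1_c3 LD2_c8 LD3_c1)) :=
  Lre_g IH (LK LD1_c1 LD2_c30 LD3_c12) (LK LD1_c3 LD2_c8 LD3_c1) Lrfl Lrfl
theorem f124238 : Led Lsl_ft (LP (LK LD1_c1 LD2_c35 LD3_c53)) = (LP (LK LD1_c1 LD2_c26 LD3_c53)) :=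
  Lgr Lrot2 (Lpe (K4.f121512 IH) (Lpr_gt (K4.f124236 IH) (Lpe (K3.f77852 IH) (Lpn (LP (LK LD1_c1 LD2_c26 LD3_c53))))))
theorem f61976 : Led Lsl_et (LP (LK LD1_c1 LD2_c26 LD3_c53)) = (LP (LK LD1_c0 LD2_c40 LD3_c13)) :=
  Lre_e IH (LK LD1_c1 LD2_c26 LD3_c53) (LK LD1_c0 LD2_c40 LD3_c13) Lrfl Lrfl
theorem f155145 : Led Lsl_ft (LP (LK LD1_c3 LD2_c1 LD3_c25)) = (LP (LK LD1_c3 LD2_c9 LD3_c40)) :=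
  Lgr Lrot86 (Lpe (K5.f118727 IH) (Lpe (K3.f61962 IH) (Lpe (f61976 IH) (Lpe (f124238 IH) (Lpr_ef (K7.f155141 IH) (Lpn (LP (LK LD1_c3 LD2_c9 LD3_c40))))))))
theorem f155147 : Led Lsl_ff (LP (LK LD1_c3 LD2_c1 LD3_c25)) = (LP (LK LD1_c3 LD2_c9 LD3_c40)) :=
  Lgr Lrot3 (Lpr_ft (f155145 IH) (Lpn (LP (LK LD1_c3 LD2_c9 LD3_c40))))
theorem f61238 : Led Lsl_bt (LP (LK LD1_c3 LD2_c5 LD3_c49)) = (LP (LK LD1_c1 LD2_c29 LD3_c0)) :=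
  Lre_b IH (LK LD1_c3 LD2_c5 LD3_c49) (LK LD1_c1 LD2_c29 LD3_c0) Lrfl Lrfl
theorem f102247 : Led Lsl_et (LP (LK LD1_c1 LD2_c28 LD3_c60)) = (LP (LK LD1_c3 LD2_c5 LD3_c49)) :=
  Lre_e IH (LK LD1_c1 LD2_c28 LD3_c60) (LK LD1_c3 LD2_c5 LD3_c49) Lrfl Lrfl
theorem f125471 : Led Lsl_cf (LP (LK LD1_c3 LD2_c10 LD3_c32)) = (LP (LK LD1_c3 LD2_c5 LD3_c49)) :=
  Lgr Lrot39 (Lpr_et (K5.f125470 IH) (Lpr_ct (K5.f125465 IH) (Lpr_et (f102247 IH) (Lpn (LP (LK LD1_c3 LD2_c5 LD3_c49))))))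
theorem f25898 : Led Lsl_bt (LP (LK LD1_c0 LD2_c18 LD3_c44)) = (LP (LK LD1_c0 LD2_c41 LD3_c58)) :=
  Lre_b IH (LK LD1_c0 LD2_c18 LD3_c44) (LK LD1_c0 LD2_c41 LD3_c58) Lrfl Lrfl
theorem f25915 : Led Lsl_gt (LP (LK LD1_c1 LD2_c6 LD3_c10)) = (LP (LK LD1_c2 LD2_c18 LD3_c0)) :=
  Lre_g IH (LK LD1_c1 LD2_c6 LD3_c10) (LK LD1_c2 LD2_c18 LD3_c0) Lrfl Lrfl
theorem f104637 : Led Lsl_ct (LP (LK LD1_c2 LD2_c18 LD3_c0)) = (LP (LK LD1_c4 LD2_c41 LD3_c42)) :=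
  Lre_c IH (LK LD1_c2 LD2_c18 LD3_c0) (LK LD1_c4 LD2_c41 LD3_c42) Lrfl Lrfl
theorem f152868 : Led Lsl_gf (LP (LK LD1_c3 LD2_c10 LD3_c32)) = (LP (LK LD1_c4 LD2_c41 LD3_c42)) :=
  Lgr Lrot129 (Lpr_cf (f125471 IH) (Lpr_bt (f61238 IH) (Lpr_gt (K7.f152863 IH) (Lpe (f25898 IH) (Lpr_ct (K7.f25797 IH) (Lpe (K7.f152662 IH) (Lpe (K7.f25902 IH) (Lpr_bt (K7.f25914 IH) (Lpr_gt (f25915 IH) (Lpr_ct (f104637 IH) (Lpn (LP (LK LD1_c4 LD2_c41 LD3_c42)))))))))))))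
theorem f155149 : Led Lsl_gf (LP (LK LD1_c4 LD2_c41 LD3_c42)) = (LP (LK LD1_c3 LD2_c9 LD3_c40)) :=
  Lgr Lrot47 (Lpe (f152868 IH) (Lpr_af (K5.f125492 IH) (Lpr_ff (f155147 IH) (Lpn (LP (LK LD1_c3 LD2_c9 LD3_c40))))))
theorem f430902 : Led Lsl_bf (LP (LK LD1_c1 LD2_c39 LD3_c5)) = (LP (LK LD1_c2 LD2_c18 LD3_c0)) :=
  Lgr Lrot156 (Lpe (K7.f134688 IH) (Lpe (K2.f61747 IH) (Lpr_ct (K2.f61719 IH) (Lpr_gt (f61738 IH) (Lpr_cf (f430727 IH) (Lpr_bt (f134394 IH) (Lpr_gt (f126933 IH) (Lpr_ct (K7.f126934 IH) (Lpe (f155149 IH) (Lpe (f104637 IH) (Lpn (LP (LK LD1_c2 LD2_c18 LD3_c0)))))))))))))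
theorem f134690 : Led Lsl_bt (LP (LK LD1_c0 LD2_c45 LD3_c58)) = (LP (LK LD1_c1 LD2_c39 LD3_c4)) :=
  Lre_b IH (LK LD1_c0 LD2_c45 LD3_c58) (LK LD1_c1 LD2_c39 LD3_c4) Lrfl Lrfl
theorem f21095 : Led Lsl_ct (LP (LK LD1_c1 LD2_c39 LD3_c4)) = (LP (LK LD1_c3 LD2_c25 LD3_c7)) :=
  Lre_c IH (LK LD1_c1 LD2_c39 LD3_c4) (LK LD1_c3 LD2_c25 LD3_c7) Lrfl Lrfl
theorem f104638 : Led Lsl_ct (LP (LK LD1_c4 LD2_c41 LD3_c42)) = (LP (LK LD1_c2 LD2_c18 LD3_c0)) :=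
  Lre_c IH (LK LD1_c4 LD2_c41 LD3_c42) (LK LD1_c2 LD2_c18 LD3_c0) Lrfl Lrfl
theorem f430904 : Led Lsl_bt (LP (LK LD1_c3 LD2_c25 LD3_c7)) = (LP (LK LD1_c4 LD2_c41 LD3_c42)) :=
  Lgr Lrot128 (Lpe (f21095 IH) (Lpe (f134690 IH) (Lpe (K7.f21090 IH) (Lpr_bf (f430902 IH) (Lpe (f104638 IH) (Lpn (LP (LK LD1_c4 LD2_c41 LD3_c42))))))))
theorem f430940 : Led Lsl_ct (LP (LK LD1_c3 LD2_c25 LD3_c7)) = (LP (LK LD1_c1 LD2_c39 LD3_c4)) :=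
  Lre_c IH (LK LD1_c3 LD2_c25 LD3_c7) (LK LD1_c1 LD2_c39 LD3_c4) Lrfl Lrfl
theorem f125489 : Led Lsl_ct (LP (LK LD1_c3 LD2_c10 LD3_c32)) = (LP (LK LD1_c3 LD2_c5 LD3_c49)) :=
  Lgr Lrot83 (Lpr_bf (K5.f125483 IH) (Lpr_cf (K7.f114910 IH) (Lpr_bf (K6.f61232 IH) (Lpe (K5.f61237 IH) (Lpe (f61238 IH) (Lpn (LP (LK LD1_c3 LD2_c5 LD3_c49))))))))
theorem f134364 : Led Lsl_cf (LP (LK LD1_c4 LD2_c43 LD3_c21)) = (LP (LK LD1_c4 LD2_c41 LD3_c59)) :=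
  Lgr Lrot11 (Lpr_ct (K7.f134356 IH) (Lpn (LP (LK LD1_c4 LD2_c41 LD3_c59))))
theorem f131360 : Led Lsl_ct (LP (LK LD1_c3 LD2_c10 LD3_c58)) = (LP (LK LD1_c6 LD2_c26 LD3_c12)) :=
  Lre_c IH (LK LD1_c3 LD2_c10 LD3_c58) (LK LD1_c6 LD2_c26 LD3_c12) Lrfl Lrfl
theorem f134371 : Led Lsl_gt (LP (LK LD1_c6 LD2_c26 LD3_c12)) = (LP (LK LD1_c4 LD2_c41 LD3_c59)) :=
  Lgr Lrot150 (Lpe (f131360 IH) (Lpe (K5.f79148 IH) (Lpe (K6.f79147 IH) (Lpr_gt (K5.f108840 IH) (Lpr_ct (K5.f131531 IH) (Lpe (K5.f131527 IH) (Lpr_ct (K5.f120044 IH) (Lpe (K5.f120048 IH) (Lpr_cf (f134364 IH) (Lpn (LP (LK LD1_c4 LD2_c41 LD3_c59))))))))))))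
theorem f113390 : Led Lsl_af (LP (LK LD1_c4 LD2_c43 LD3_c1)) = (LP (LK LD1_c3 LD2_c7 LD3_c5)) :=
  Lgr Lrot0 (Lpr_at (K7.f113387 IH) (Lpn (LP (LK LD1_c3 LD2_c7 LD3_c5))))
theorem f79316 : Led Lsl_dt (LP (LK LD1_c1 LD2_c32 LD3_c28)) = (LP (LK LD1_c3 LD2_c12 LD3_c2)) :=
  Lre_d IH (LK LD1_c1 LD2_c32 LD3_c28) (LK LD1_c3 LD2_c12 LD3_c2) Lrfl Lrfl
theorem f125378 : Led Lsl_ft (LP (LK LD1_c3 LD2_c12 LD3_c2)) = (LP (LK LD1_c3 LD2_c7 LD3_c5)) :=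
  Lgr Lrot54 (Lpe (f79316 IH) (Lpr_ff (K5.f125374 IH) (Lpe (K7.f113386 IH) (Lpn (LP (LK LD1_c3 LD2_c7 LD3_c5))))))
theorem f133713 : Led Lsl_af (LP (LK LD1_c3 LD2_c12 LD3_c2)) = (LP (LK LD1_c4 LD2_c43 LD3_c21)) :=
  Lgr Lrot45 (Lpr_ft (f125378 IH) (Lpe (f113390 IH) (Lpr_ft (K5.f133709 IH) (Lpn (LP (LK LD1_c4 LD2_c43 LD3_c21))))))
theorem f125450 : Led Lsl_ct (LP (LK LD1_c3 LD2_c12 LD3_c2)) = (LP (LK LD1_c6 LD2_c28 LD3_c10)) :=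
  Lre_c IH (LK LD1_c3 LD2_c12 LD3_c2) (LK LD1_c6 LD2_c28 LD3_c10) Lrfl Lrfl
theorem f134367 : Led Lsl_at (LP (LK LD1_c6 LD2_c28 LD3_c10)) = (LP (LK LD1_c4 LD2_c41 LD3_c59)) :=
  Lgr Lrot107 (Lpe (f125450 IH) (Lpr_af (f133713 IH) (Lpr_cf (f134364 IH) (Lpn (LP (LK LD1_c4 LD2_c41 LD3_c59))))))
theorem f113392 : Led Lsl_bt (LP (LK LD1_c3 LD2_c7 LD3_c5)) = (LP (LK LD1_c6 LD2_c19 LD3_c16)) :=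
  Lre_b IH (LK LD1_c3 LD2_c7 LD3_c5) (LK LD1_c6 LD2_c19 LD3_c16) Lrfl Lrfl
theorem f82803 : Led Lsl_gt (LP (LK LD1_c2 LD2_c18 LD3_c18)) = (LP (LK LD1_c4 LD2_c41 LD3_c58)) :=
  Lre_g IH (LK LD1_c2 LD2_c18 LD3_c18) (LK LD1_c4 LD2_c41 LD3_c58) Lrfl Lrfl
theorem f125402 : Led Lsl_ct (LP (LK LD1_c4 LD2_c41 LD3_c58)) = (LP (LK LD1_c3 LD2_c7 LD3_c5)) :=
  Lgr Lrot110 (Lpe (f82803 IH) (Lpe (K7.f82802 IH) (Lpr_gf (K5.f114394 IH) (Lpe (K5.f82462 IH) (Lpr_gt (K3.f82461 IH) (Lpr_ct (K2.f82395 IH) (Lpr_gt (K5.f125396 IH) (Lpr_ct (K5.f62608 IH) (Lpe (K7.f113386 IH) (Lpn (LP (LK LD1_c3 LD2_c7 LD3_c5))))))))))))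
theorem f125421 : Led Lsl_bt (LP (LK LD1_c9 LD2_c18 LD3_c23)) = (LP (LK LD1_c4 LD2_c41 LD3_c58)) :=
  Lre_b IH (LK LD1_c9 LD2_c18 LD3_c23) (LK LD1_c4 LD2_c41 LD3_c58) Lrfl Lrfl
theorem f125422 : Led Lsl_ct (LP (LK LD1_c17 LD2_c13 LD3_c29)) = (LP (LK LD1_c9 LD2_c18 LD3_c23)) :=
  Lre_c IH (LK LD1_c17 LD2_c13 LD3_c29) (LK LD1_c9 LD2_c18 LD3_c23) Lrfl Lrfl
theorem f125423 : Led Lsl_bt (LP (LK LD1_c12 LD2_c12 LD3_c31)) = (LP (LK LD1_c17 LD2_c13 LD3_c29)) :=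
  Lgr Lrot128 (Lpr_cf (K5.f125418 IH) (Lpe (f113392 IH) (Lpe (f125402 IH) (Lpe (f125421 IH) (Lpe (f125422 IH) (Lpn (LP (LK LD1_c17 LD2_c13 LD3_c29))))))))
theorem f125425 : Led Lsl_bf (LP (LK LD1_c12 LD2_c12 LD3_c31)) = (LP (LK LD1_c17 LD2_c13 LD3_c29)) :=
  Lgr Lrot24 (Lpr_bt (f125423 IH) (Lpn (LP (LK LD1_c17 LD2_c13 LD3_c29))))
theorem f125434 : Led Lsl_ct (LP (LK LD1_c9 LD2_c18 LD3_c23)) = (LP (LK LD1_c17 LD2_c13 LD3_c29)) :=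
  Lre_c IH (LK LD1_c9 LD2_c18 LD3_c23) (LK LD1_c17 LD2_c13 LD3_c29) Lrfl Lrfl
theorem f125435 : Led Lsl_bt (LP (LK LD1_c4 LD2_c41 LD3_c58)) = (LP (LK LD1_c9 LD2_c18 LD3_c23)) :=
  Lre_b IH (LK LD1_c4 LD2_c41 LD3_c58) (LK LD1_c9 LD2_c18 LD3_c23) Lrfl Lrfl
theorem f125436 : Led Lsl_ct (LP (LK LD1_c3 LD2_c7 LD3_c5)) = (LP (LK LD1_c4 LD2_c41 LD3_c58)) :=
  Lgr Lrot83 (Lpe (K6.f113393 IH) (Lpe (K5.f125415 IH) (Lpr_bf (f125425 IH) (Lpe (f125434 IH) (Lpe (f125435 IH) (Lpn (LP (LK LD1_c4 LD2_c41 LD3_c58))))))))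
theorem f120076 : Led Lsl_ct (LP (LK LD1_c6 LD2_c28 LD3_c10)) = (LP (LK LD1_c3 LD2_c12 LD3_c2)) :=
  Lre_c IH (LK LD1_c6 LD2_c28 LD3_c10) (LK LD1_c3 LD2_c12 LD3_c2) Lrfl Lrfl
theorem f125440 : Led Lsl_ff (LP (LK LD1_c6 LD2_c28 LD3_c10)) = (LP (LK LD1_c4 LD2_c41 LD3_c58)) :=
  Lgr Lrot23 (Lpr_ct (f120076 IH) (Lpr_ft (f125378 IH) (Lpr_ct (f125436 IH) (Lpn (LP (LK LD1_c4 LD2_c41 LD3_c58))))))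
theorem f134377 : Led Lsl_gf (LP (LK LD1_c6 LD2_c26 LD3_c12)) = (LP (LK LD1_c4 LD2_c41 LD3_c58)) :=
  Lgr Lrot47 (Lpr_gt (f134371 IH) (Lpe (f134367 IH) (Lpr_ff (f125440 IH) (Lpn (LP (LK LD1_c4 LD2_c41 LD3_c58))))))
theorem f131368 : Led Lsl_ct (LP (LK LD1_c6 LD2_c26 LD3_c12)) = (LP (LK LD1_c3 LD2_c10 LD3_c58)) :=
  Lre_c IH (LK LD1_c6 LD2_c26 LD3_c12) (LK LD1_c3 LD2_c10 LD3_c58) Lrfl Lrfl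
theorem f104624 : Led Lsl_dt (LP (LK LD1_c1 LD2_c6 LD3_c10)) = (LP (LK LD1_c2 LD2_c18 LD3_c19)) :=
  Lre_d IH (LK LD1_c1 LD2_c6 LD3_c10) (LK LD1_c2 LD2_c18 LD3_c19) Lrfl Lrfl
theorem f131363 : Led Lsl_df (LP (LK LD1_c2 LD2_c18 LD3_c2)) = (LP (LK LD1_c3 LD2_c10 LD3_c58)) :=
  Lgr Lrot18 (Lpr_at (K6.f104627 IH) (Lpr_dt (f104624 IH) (Lpr_at (K5.f131338 IH) (Lpn (LP (LK LD1_c3 LD2_c10 LD3_c58))))))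
theorem f134385 : Led Lsl_gf (LP (LK LD1_c1 LD2_c30 LD3_c12)) = (LP (LK LD1_c3 LD2_c5 LD3_c49)) :=
  Lgr Lrot147 (Lpr_ct (f104611 IH) (Lpr_gt (K6.f104665 IH) (Lpe (K6.f104642 IH) (Lpr_df (f131363 IH) (Lpe (f131368 IH) (Lpr_gf (f134377 IH) (Lpe (f125436 IH) (Lpe (K7.f133689 IH) (Lpe (K7.f102248 IH) (Lpn (LP (LK LD1_c3 LD2_c5 LD3_c49))))))))))))
theorem f134392 : Led Lsl_bt (LP (LK LD1_c0 LD2_c41 LD3_c40)) = (LP (LK LD1_c1 LD2_c30 LD3_c11)) :=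
  Lre_b IH (LK LD1_c0 LD2_c41 LD3_c40) (LK LD1_c1 LD2_c30 LD3_c11) Lrfl Lrfl
theorem f430941 : Led Lsl_gf (LP (LK LD1_c1 LD2_c39 LD3_c4)) = (LP (LK LD1_c1 LD2_c40 LD3_c58)) :=
  Lgr Lrot126 (Lpe (f430940 IH) (Lpr_bt (f430904 IH) (Lpe (f152868 IH) (Lpr_ct (f125489 IH) (Lpe (f134385 IH) (Lpe (f104604 IH) (Lpr_bt (f134392 IH) (Lpr_gt (K7.f134393 IH) (Lpe (f155036 IH) (Lpr_ct (f155038 IH) (Lpn (LP (LK LD1_c1 LD2_c40 LD3_c58)))))))))))))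
theorem f19405 : Led Lsl_at (LP (LK LD1_c1 LD2_c40 LD3_c57)) = (LP (LK LD1_c3 LD2_c28 LD3_c25)) :=
  Lre_a IH (LK LD1_c1 LD2_c40 LD3_c57) (LK LD1_c3 LD2_c28 LD3_c25) Lrfl Lrfl
theorem f94104 : Led Lsl_ft (LP (LK LD1_c3 LD2_c28 LD3_c31)) = (LP (LK LD1_c1 LD2_c40 LD3_c57)) :=
  Lre_f IH (LK LD1_c3 LD2_c28 LD3_c31) (LK LD1_c1 LD2_c40 LD3_c57) Lrfl Lrfl
theorem f120864 : Led Lsl_gt (LP (LK LD1_c3 LD2_c28 LD3_c31)) = (LP (LK LD1_c1 LD2_c48 LD3_c13)) :=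
  Lgr Lrot5 (Lpr_ft (f94104 IH) (Lpr_at (f19405 IH) (Lpr_gf (K4.f120862 IH) (Lpn (LP (LK LD1_c1 LD2_c48 LD3_c13))))))
theorem f430948 : Led Lsl_gt (LP (LK LD1_c3 LD2_c25 LD3_c7)) = (LP (LK LD1_c1 LD2_c42 LD3_c33)) :=
  Lgr Lrot150 (Lpe (f21095 IH) (Lpr_gf (f430941 IH) (Lpe (K5.f88845 IH) (Lpr_gt (f120864 IH) (Lpr_ct (K5.f120869 IH) (Lpr_gt (K5.f124280 IH) (Lpr_ct (K5.f64370 IH) (Lpe (K2.f18140 IH) (Lpe (K3.f12104 IH) (Lpn (LP (LK LD1_c1 LD2_c42 LD3_c33))))))))))))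
theorem f430950 : Led Lsl_dt (LP (LK LD1_c3 LD2_c25 LD3_c7)) = (LP (LK LD1_c6 LD2_c52 LD3_c32)) :=
  Lre_d IH (LK LD1_c3 LD2_c25 LD3_c7) (LK LD1_c6 LD2_c52 LD3_c32) Lrfl Lrfl
theorem f12097 : Led Lsl_bt (LP (LK LD1_c1 LD2_c42 LD3_c32)) = (LP (LK LD1_c0 LD2_c47 LD3_c51)) :=
  Lre_b IH (LK LD1_c1 LD2_c42 LD3_c32) (LK LD1_c0 LD2_c47 LD3_c51) Lrfl Lrfl
theorem f154368 : Led Lsl_gf (LP (LK LD1_c0 LD2_c21 LD3_c50)) = (LP (LK LD1_c0 LD2_c47 LD3_c51)) :=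
  Lgr Lrot124 (Lpe (K7.f154356 IH) (Lpr_ct (K7.f143261 IH) (Lpr_gt (K7.f154359 IH) (Lpe (K2.f20858 IH) (Lpr_bt (K5.f20859 IH) (Lpr_gt (K5.f20860 IH) (Lpr_ct (K5.f21066 IH) (Lpe (K5.f135045 IH) (Lpr_cf (K3.f12099 IH) (Lpr_bt (f12097 IH) (Lpn (LP (LK LD1_c0 LD2_c47 LD3_c51)))))))))))))
theorem f10374 : Led Lsl_dt (LP (LK LD1_c1 LD2_c44 LD3_c22)) = (LP (LK LD1_c0 LD2_c48 LD3_c46)) :=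
  Lre_d IH (LK LD1_c1 LD2_c44 LD3_c22) (LK LD1_c0 LD2_c48 LD3_c46) Lrfl Lrfl
theorem f154373 : Led Lsl_ct (LP (LK LD1_c3 LD2_c35 LD3_c8)) = (LP (LK LD1_c1 LD2_c44 LD3_c22)) :=
  Lre_c IH (LK LD1_c3 LD2_c35 LD3_c8) (LK LD1_c1 LD2_c44 LD3_c22) Lrfl Lrfl
theorem f90536 : Led Lsl_at (LP (LK LD1_c3 LD2_c6 LD3_c51)) = (LP (LK LD1_c3 LD2_c23 LD3_c58)) :=
  Lgr Lrot107 (Lpe (K7.f83808 IH) (Lpr_af (K7.f90530 IH) (Lpe (K7.f7331 IH) (Lpn (LP (LK LD1_c3 LD2_c23 LD3_c58))))))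
theorem f430184 : Led Lsl_gt (LP (LK LD1_c3 LD2_c23 LD3_c59)) = (LP (LK LD1_c1 LD2_c44 LD3_c22)) :=
  Lgr Lrot5 (Lpr_ft (K6.f94164 IH) (Lpr_at (f90536 IH) (Lpr_gf (f430182 IH) (Lpn (LP (LK LD1_c1 LD2_c44 LD3_c22))))))
theorem f76750 : Led Lsl_dt (LP (LK LD1_c3 LD2_c23 LD3_c59)) = (LP (LK LD1_c1 LD2_c38 LD3_c16)) :=
  Lre_d IH (LK LD1_c3 LD2_c23 LD3_c59) (LK LD1_c1 LD2_c38 LD3_c16) Lrfl Lrfl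
theorem f430177 : Led Lsl_ct (LP (LK LD1_c1 LD2_c44 LD3_c22)) = (LP (LK LD1_c3 LD2_c35 LD3_c8)) :=
  Lre_c IH (LK LD1_c1 LD2_c44 LD3_c22) (LK LD1_c3 LD2_c35 LD3_c8) Lrfl Lrfl
theorem f430368 : Led Lsl_gf (LP (LK LD1_c6 LD2_c57 LD3_c56)) = (LP (LK LD1_c3 LD2_c35 LD3_c8)) :=
  Lgr Lrot104 (Lpr_ct (f105945 IH) (Lpe (K7.f90279 IH) (Lpe (K4.f90267 IH) (Lpe (K4.f17277 IH) (Lpe (K3.f11931 IH) (Lpe (K2.f11933 IH) (Lpe (f76750 IH) (Lpr_gt (f430184 IH) (Lpr_ct (f430177 IH) (Lpn (LP (LK LD1_c3 LD2_c35 LD3_c8))))))))))))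
theorem f154652 : Led Lsl_at (LP (LK LD1_c6 LD2_c22 LD3_c52)) = (LP (LK LD1_c6 LD2_c57 LD3_c56)) :=
  Lgr Lrot107 (Lpr_cf (K7.f154649 IH) (Lpe (K7.f126059 IH) (Lpe (f105945 IH) (Lpn (LP (LK LD1_c6 LD2_c57 LD3_c56))))))
theorem f154692 : Led Lsl_ff (LP (LK LD1_c6 LD2_c22 LD3_c52)) = (LP (LK LD1_c6 LD2_c57 LD3_c57)) :=
  Lgr Lrot3 (Lpr_ft (K7.f154663 IH) (Lpn (LP (LK LD1_c6 LD2_c57 LD3_c57))))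
theorem f430371 : Led Lsl_gt (LP (LK LD1_c6 LD2_c57 LD3_c57)) = (LP (LK LD1_c3 LD2_c35 LD3_c8)) :=
  Lgr Lrot5 (Lpe (f154692 IH) (Lpr_at (f154652 IH) (Lpr_gf (f430368 IH) (Lpn (LP (LK LD1_c3 LD2_c35 LD3_c8))))))
theorem f83946 : Led Lsl_ct (LP (LK LD1_c3 LD2_c27 LD3_c52)) = (LP (LK LD1_c6 LD2_c57 LD3_c57)) :=
  Lre_c IH (LK LD1_c3 LD2_c27 LD3_c52) (LK LD1_c6 LD2_c57 LD3_c57) Lrfl Lrfl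
theorem f430953 : Led Lsl_gt (LP (LK LD1_c6 LD2_c52 LD3_c32)) = (LP (LK LD1_c3 LD2_c27 LD3_c52)) :=
  Lgr Lrot9 (Lpe (f430950 IH) (Lpr_gt (f430948 IH) (Lpr_ct (K3.f12104 IH) (Lpe (f154368 IH) (Lpr_ct (f10375 IH) (Lpe (f10374 IH) (Lpe (f154373 IH) (Lpe (f430371 IH) (Lpe (f83946 IH) (Lpn (LP (LK LD1_c3 LD2_c27 LD3_c52))))))))))))
theorem f156213 : Led Lsl_et (LP (LK LD1_c1 LD2_c40 LD3_c32)) = (LP (LK LD1_c1 LD2_c44 LD3_c23)) :=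
  Lgr Lrot69 (Lpr_ff (K5.f126065 IH) (Lpe (K2.f91315 IH) (Lpe (K5.f126029 IH) (Lpe (K3.f66762 IH) (Lpr_ff (K7.f156207 IH) (Lpn (LP (LK LD1_c1 LD2_c44 LD3_c23))))))))
theorem f430114 : Led Lsl_ef (LP (LK LD1_c1 LD2_c44 LD3_c19)) = (LP (LK LD1_c1 LD2_c42 LD3_c36)) :=
  Lgr Lrot28 (Lpr_ct (K7.f430102 IH) (Lpr_et (K7.f430112 IH) (Lpr_ct (K4.f12633 IH) (Lpn (LP (LK LD1_c1 LD2_c42 LD3_c36))))))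
theorem f430951 : Led Lsl_gf (LP (LK LD1_c3 LD2_c25 LD3_c7)) = (LP (LK LD1_c1 LD2_c44 LD3_c19)) :=
  Lgr Lrot47 (Lpr_gt (f430948 IH) (Lpr_af (K7.f156219 IH) (Lpe (K7.f430132 IH) (Lpn (LP (LK LD1_c1 LD2_c44 LD3_c19))))))
theorem f430957 : Led Lsl_et (LP (LK LD1_c3 LD2_c25 LD3_c7)) = (LP (LK LD1_c3 LD2_c25 LD3_c7)) :=
  Lgr Lrot122 (Lpr_dt (f430950 IH) (Lpr_gt (f430953 IH) (Lpe (K7.f19176 IH) (Lpr_et (f156213 IH) (Lpe (K7.f156188 IH) (Lpr_dt (K7.f156021 IH) (Lpr_gt (K7.f156024 IH) (Lpe (K7.f83458 IH) (Lpe (f430114 IH) (Lpe (f430951 IH) (Lpn (LP (LK LD1_c3 LD2_c25 LD3_c7)))))))))))))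
theorem f430961 : Led Lsl_ef (LP (LK LD1_c1 LD2_c39 LD3_c4)) = (LP (LK LD1_c1 LD2_c39 LD3_c4)) :=
  Lgr Lrot28 (Lpr_ct (f21095 IH) (Lpr_et (f430957 IH) (Lpr_ct (f430940 IH) (Lpn (LP (LK LD1_c1 LD2_c39 LD3_c4))))))
theorem f21094 : Led Lsl_bt (LP (LK LD1_c1 LD2_c39 LD3_c4)) = (LP (LK LD1_c0 LD2_c45 LD3_c58)) :=
  Lre_b IH (LK LD1_c1 LD2_c39 LD3_c4) (LK LD1_c0 LD2_c45 LD3_c58) Lrfl Lrfl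
theorem f430963 : Led Lsl_et (LP (LK LD1_c0 LD2_c45 LD3_c58)) = (LP (LK LD1_c0 LD2_c45 LD3_c58)) :=
  Lgr Lrot74 (Lpe (f21094 IH) (Lpr_ef (f430961 IH) (Lpe (f134690 IH) (Lpn (LP (LK LD1_c0 LD2_c45 LD3_c58))))))
theorem f430967 : Led Lsl_gf (LP (LK LD1_c1 LD2_c39 LD3_c6)) = (LP (LK LD1_c1 LD2_c39 LD3_c15)) :=
  Lgr Lrot134 (Lpe (K7.f21089 IH) (Lpr_et (f430963 IH) (Lpr_gt (K7.f21088 IH) (Lpe (K2.f21079 IH) (Lpr_dt (K5.f124866 IH) (Lpr_gt (K5.f90077 IH) (Lpe (K4.f4899 IH) (Lpr_et (K6.f12356 IH) (Lpe (K7.f144129 IH) (Lpr_dt (f84920 IH) (Lpn (LP (LK LD1_c1 LD2_c39 LD3_c15)))))))))))))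
theorem f21092 : Led Lsl_dt (LP (LK LD1_c1 LD2_c39 LD3_c6)) = (LP (LK LD1_c0 LD2_c45 LD3_c58)) :=
  Lre_d IH (LK LD1_c1 LD2_c39 LD3_c6) (LK LD1_c0 LD2_c45 LD3_c58) Lrfl Lrfl
theorem f430969 : Led Lsl_df (LP (LK LD1_c1 LD2_c39 LD3_c5)) = (LP (LK LD1_c3 LD2_c11 LD3_c1)) :=
  Lgr Lrot84 (Lpe (K7.f21137 IH) (Lpe (f21092 IH) (Lpr_gf (f430967 IH) (Lpe (f84920 IH) (Lpr_gf (K7.f144129 IH) (Lpe (K3.f12431 IH) (Lpr_gt (K4.f12436 IH) (Lpr_dt (K5.f12437 IH) (Lpe (K7.f152808 IH) (Lpn (LP (LK LD1_c3 LD2_c11 LD3_c1))))))))))))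
theorem f153374 : Led Lsl_dt (LP (LK LD1_c12 LD2_c30 LD3_c41)) = (LP (LK LD1_c6 LD2_c31 LD3_c1)) :=
  Lre_d IH (LK LD1_c12 LD2_c30 LD3_c41) (LK LD1_c6 LD2_c31 LD3_c1) Lrfl Lrfl
theorem f430489 : Led Lsl_ct (LP (LK LD1_c6 LD2_c48 LD3_c2)) = (LP (LK LD1_c3 LD2_c22 LD3_c13)) :=
  Lre_c IH (LK LD1_c6 LD2_c48 LD3_c2) (LK LD1_c3 LD2_c22 LD3_c13) Lrfl Lrfl
theorem f126868 : Led Lsl_ct (LP (LK LD1_c3 LD2_c42 LD3_c47)) = (LP (LK LD1_c7 LD2_c26 LD3_c13)) :=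
  Lre_c IH (LK LD1_c3 LD2_c42 LD3_c47) (LK LD1_c7 LD2_c26 LD3_c13) Lrfl Lrfl
theorem f430490 : Led Lsl_gf (LP (LK LD1_c6 LD2_c48 LD3_c2)) = (LP (LK LD1_c7 LD2_c20 LD3_c6)) :=
  Lgr Lrot147 (Lpr_ct (f430489 IH) (Lpr_gt (f430485 IH) (Lpr_ct (f126868 IH) (Lpr_df (K6.f142760 IH) (Lpe (K6.f84611 IH) (Lpe (K7.f142794 IH) (Lpe (K7.f153301 IH) (Lpr_gf (K7.f153260 IH) (Lpe (K7.f114181 IH) (Lpn (LP (LK LD1_c7 LD2_c20 LD3_c6))))))))))))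
theorem f430514 : Led Lsl_dt (LP (LK LD1_c6 LD2_c48 LD3_c2)) = (LP (LK LD1_c12 LD2_c58 LD3_c49)) :=
  Lre_d IH (LK LD1_c6 LD2_c48 LD3_c2) (LK LD1_c12 LD2_c58 LD3_c49) Lrfl Lrfl
theorem f430979 : Led Lsl_gf (LP (LK LD1_c12 LD2_c30 LD3_c41)) = (LP (LK LD1_c12 LD2_c58 LD3_c49)) :=
  Lgr Lrot143 (Lpr_dt (f153374 IH) (Lpe (K7.f153361 IH) (Lpr_df (K7.f143728 IH) (Lpr_gf (K7.f134688 IH) (Lpr_df (f430969 IH) (Lpr_gf (K7.f152808 IH) (Lpe (K7.f114182 IH) (Lpe (f430490 IH) (Lpr_dt (f430514 IH) (Lpn (LP (LK LD1_c12 LD2_c58 LD3_c49))))))))))))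
theorem f134865 : Led Lsl_dt (LP (LK LD1_c6 LD2_c31 LD3_c1)) = (LP (LK LD1_c12 LD2_c30 LD3_c41)) :=
  Lre_d IH (LK LD1_c6 LD2_c31 LD3_c1) (LK LD1_c12 LD2_c30 LD3_c41) Lrfl Lrfl
theorem f153370 : Led Lsl_cf (LP (LK LD1_c7 LD2_c26 LD3_c20)) = (LP (LK LD1_c12 LD2_c30 LD3_c41)) :=
  Lgr Lrot161 (Lpr_dt (K7.f120896 IH) (Lpe (K7.f131135 IH) (Lpr_af (K5.f115499 IH) (Lpe (K5.f120887 IH) (Lpr_dt (K3.f87529 IH) (Lpr_ct (K2.f87548 IH) (Lpe (K7.f143728 IH) (Lpr_ct (K7.f153361 IH) (Lpr_dt (f134865 IH) (Lpn (LP (LK LD1_c12 LD2_c30 LD3_c41))))))))))))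
theorem f430519 : Led Lsl_dt (LP (LK LD1_c12 LD2_c58 LD3_c49)) = (LP (LK LD1_c6 LD2_c48 LD3_c2)) :=
  Lre_d IH (LK LD1_c12 LD2_c58 LD3_c49) (LK LD1_c6 LD2_c48 LD3_c2) Lrfl Lrfl
theorem f430995 : Led Lsl_df (LP (LK LD1_c11 LD2_c59 LD3_c56)) = (LP (LK LD1_c6 LD2_c52 LD3_c31)) :=
  Lgr Lrot162 (Lpr_cf (K7.f143238 IH) (Lpe (K7.f143232 IH) (Lpr_cf (f153370 IH) (Lpr_gf (f430979 IH) (Lpr_dt (f430519 IH) (Lpr_gt (f430487 IH) (Lpr_ct (f106793 IH) (Lpr_gt (K7.f144235 IH) (Lpr_ct (K7.f144237 IH) (Lpn (LP (LK LD1_c6 LD2_c52 LD3_c31))))))))))))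
theorem f21136 : Led Lsl_gt (LP (LK LD1_c1 LD2_c26 LD3_c27)) = (LP (LK LD1_c3 LD2_c1 LD3_c5)) :=
  Lre_g IH (LK LD1_c1 LD2_c26 LD3_c27) (LK LD1_c3 LD2_c1 LD3_c5) Lrfl Lrfl
theorem f21138 : Led Lsl_dt (LP (LK LD1_c3 LD2_c1 LD3_c7)) = (LP (LK LD1_c1 LD2_c26 LD3_c27)) :=
  Lre_d IH (LK LD1_c3 LD2_c1 LD3_c7) (LK LD1_c1 LD2_c26 LD3_c27) Lrfl Lrfl
theorem f431002 : Led Lsl_gf (LP (LK LD1_c3 LD2_c1 LD3_c7)) = (LP (LK LD1_c1 LD2_c55 LD3_c5)) :=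
  Lgr Lrot144 (Lpr_dt (f21138 IH) (Lpr_gt (f21136 IH) (Lpe (K5.f86801 IH) (Lpr_cf (K5.f134887 IH) (Lpe (K5.f134667 IH) (Lpe (K7.f135081 IH) (Lpr_df (f430995 IH) (Lpe (K7.f156007 IH) (Lpe (K7.f94390 IH) (Lpn (LP (LK LD1_c1 LD2_c55 LD3_c5))))))))))))
theorem f430473 : Led Lsl_at (LP (LK LD1_c1 LD2_c37 LD3_c23)) = (LP (LK LD1_c3 LD2_c13 LD3_c41)) :=
  Lgr Lrot66 (Lpr_ff (f430471 IH) (Lpe (f430447 IH) (Lpr_ff (f430453 IH) (Lpn (LP (LK LD1_c3 LD2_c13 LD3_c41))))))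
theorem f431004 : Led Lsl_gt (LP (LK LD1_c3 LD2_c1 LD3_c7)) = (LP (LK LD1_c3 LD2_c13 LD3_c41)) :=
  Lgr Lrot46 (Lpr_gf (f431002 IH) (Lpe (f430471 IH) (Lpr_at (f430473 IH) (Lpn (LP (LK LD1_c3 LD2_c13 LD3_c41))))))
theorem f21040 : Led Lsl_dt (LP (LK LD1_c1 LD2_c26 LD3_c27)) = (LP (LK LD1_c3 LD2_c1 LD3_c7)) :=
  Lre_d IH (LK LD1_c1 LD2_c26 LD3_c27) (LK LD1_c3 LD2_c1 LD3_c7) Lrfl Lrfl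
theorem f143198 : Led Lsl_gf (LP (LK LD1_c0 LD2_c39 LD3_c59)) = (LP (LK LD1_c0 LD2_c45 LD3_c20)) :=
  Lgr Lrot129 (Lpe (K2.f21157 IH) (Lpr_bt (K2.f10303 IH) (Lpe (K2.f10294 IH) (Lpe (K2.f10431 IH) (Lpr_ct (K0.f17960 IH) (Lpr_gt (K0.f10755 IH) (Lpe (K0.f10766 IH) (Lpe (K0.f17646 IH) (Lpr_gt (K6.f143188 IH) (Lpr_ct (K6.f84633 IH) (Lpn (LP (LK LD1_c0 LD2_c45 LD3_c20)))))))))))))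
theorem f148073 : Led Lsl_dt (LP (LK LD1_c0 LD2_c39 LD3_c59)) = (LP (LK LD1_c0 LD2_c51 LD3_c7)) :=
  Lgr Lrot6 (Lpr_gt (K2.f21024 IH) (Lpe (K2.f21081 IH) (Lpr_gt (K0.f17645 IH) (Lpr_ct (K4.f17696 IH) (Lpe (K7.f17732 IH) (Lpr_cf (K7.f148056 IH) (Lpe (K7.f116076 IH) (Lpe (K5.f97369 IH) (Lpe (K7.f64388 IH) (Lpn (LP (LK LD1_c0 LD2_c51 LD3_c7))))))))))))
theorem f431018 : Led Lsl_et (LP (LK LD1_c1 LD2_c26 LD3_c27)) = (LP (LK LD1_c0 LD2_c51 LD3_c10)) :=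
  Lgr Lrot122 (Lpr_dt (f21040 IH) (Lpr_gt (f431004 IH) (Lpe (K7.f95821 IH) (Lpr_et (K7.f144135 IH) (Lpe (f143198 IH) (Lpr_dt (f148073 IH) (Lpr_gt (K7.f64388 IH) (Lpe (K4.f86814 IH) (Lpr_et (K7.f124174 IH) (Lpr_gt (f124164 IH) (Lpn (LP (LK LD1_c0 LD2_c51 LD3_c10)))))))))))))
theorem f148441 : Led Lsl_gt (LP (LK LD1_c0 LD2_c50 LD3_c59)) = (LP (LK LD1_c0 LD2_c43 LD3_c23)) :=
  Lgr Lrot150 (Lpe (K8.f148440 IH) (Lpr_gf (K7.f148435 IH) (Lpe (K7.f146850 IH) (Lpe (K6.f146858 IH) (Lpr_ct (K6.f121002 IH) (Lpr_gt (K7.f146876 IH) (Lpe (K6.f146904 IH) (Lpe (K6.f146899 IH) (Lpe (K6.f94213 IH) (Lpn (LP (LK LD1_c0 LD2_c43 LD3_c23))))))))))))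
theorem f431022 : Led Lsl_gf (LP (LK LD1_c0 LD2_c50 LD3_c60)) = (LP (LK LD1_c0 LD2_c51 LD3_c10)) :=
  Lgr Lrot141 (Lpe (K7.f156343 IH) (Lpr_dt (K7.f148437 IH) (Lpr_gt (f148441 IH) (Lpr_df (K6.f134849 IH) (Lpr_et (K2.f84757 IH) (Lpr_gt (K5.f94385 IH) (Lpr_dt (K7.f94387 IH) (Lpe (f431002 IH) (Lpe (f21040 IH) (Lpr_et (f431018 IH) (Lpn (LP (LK LD1_c0 LD2_c51 LD3_c10)))))))))))))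
theorem f156384 : Led Lsl_bf (LP (LK LD1_c0 LD2_c23 LD3_c2)) = (LP (LK LD1_c0 LD2_c23 LD3_c2)) :=
  Lgr Lrot81 (Lpr_at (K7.f156356 IH) (Lpr_bt (K7.f124160 IH) (Lpr_at (K7.f156382 IH) (Lpr_bt (K7.f124171 IH) (Lpr_at (K7.f156355 IH) (Lpn (LP (LK LD1_c0 LD2_c23 LD3_c2))))))))
theorem f156359 : Led Lsl_gt (LP (LK LD1_c0 LD2_c23 LD3_c2)) = (LP (LK LD1_c0 LD2_c23 LD3_c12)) :=
  Lgr Lrot5 (Lpr_ft (K7.f156352 IH) (Lpr_at (K7.f156356 IH) (Lpe (K7.f124175 IH) (Lpn (LP (LK LD1_c0 LD2_c23 LD3_c12))))))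
theorem f124181 : Led Lsl_bt (LP (LK LD1_c0 LD2_c51 LD3_c25)) = (LP (LK LD1_c0 LD2_c23 LD3_c12)) :=
  Lre_b IH (LK LD1_c0 LD2_c51 LD3_c25) (LK LD1_c0 LD2_c23 LD3_c12) Lrfl Lrfl
theorem f430196 : Led Lsl_gt (LP (LK LD1_c1 LD2_c48 LD3_c9)) = (LP (LK LD1_c1 LD2_c46 LD3_c52)) :=
  Lgr Lrot5 (Lpr_ft (K7.f124399 IH) (Lpe (K7.f124401 IH) (Lpr_gf (f430194 IH) (Lpn (LP (LK LD1_c1 LD2_c46 LD3_c52))))))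
theorem f95568 : Led Lsl_bt (LP (LK LD1_c1 LD2_c37 LD3_c53)) = (LP (LK LD1_c0 LD2_c45 LD3_c25)) :=
  Lre_b IH (LK LD1_c1 LD2_c37 LD3_c53) (LK LD1_c0 LD2_c45 LD3_c25) Lrfl Lrfl
theorem f95563 : Led Lsl_bt (LP (LK LD1_c0 LD2_c45 LD3_c25)) = (LP (LK LD1_c1 LD2_c37 LD3_c53)) :=
  Lre_b IH (LK LD1_c0 LD2_c45 LD3_c25) (LK LD1_c1 LD2_c37 LD3_c53) Lrfl Lrfl
theorem f95569 : Led Lsl_ft (LP (LK LD1_c0 LD2_c45 LD3_c25)) = (LP (LK LD1_c0 LD2_c45 LD3_c25)) :=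
  Lgr Lrot75 (Lpe (f95568 IH) (Lpr_ff (K2.f95566 IH) (Lpe (f95563 IH) (Lpn (LP (LK LD1_c0 LD2_c45 LD3_c25))))))
theorem f430192 : Led Lsl_gf (LP (LK LD1_c0 LD2_c52 LD3_c1)) = (LP (LK LD1_c0 LD2_c43 LD3_c10)) :=
  Lgr Lrot76 (Lpe (K7.f95308 IH) (Lpe (f95569 IH) (Lpr_gt (f430190 IH) (Lpn (LP (LK LD1_c0 LD2_c43 LD3_c10))))))
theorem f61272 : Led Lsl_bt (LP (LK LD1_c0 LD2_c19 LD3_c15)) = (LP (LK LD1_c0 LD2_c43 LD3_c10)) :=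
  Lre_b IH (LK LD1_c0 LD2_c19 LD3_c15) (LK LD1_c0 LD2_c43 LD3_c10) Lrfl Lrfl
theorem f209565 : Led Lsl_et (LP (LK LD1_c1 LD2_c39 LD3_c41)) = (LP (LK LD1_c3 LD2_c26 LD3_c1)) :=
  Lre_e IH (LK LD1_c1 LD2_c39 LD3_c41) (LK LD1_c3 LD2_c26 LD3_c1) Lrfl Lrfl
theorem f209679 : Led Lsl_bt (LP (LK LD1_c0 LD2_c51 LD3_c11)) = (LP (LK LD1_c1 LD2_c39 LD3_c41)) :=
  Lgr Lrot119 (Lpe (K7.f156341 IH) (Lpr_bf (f209570 IH) (Lpe (f209565 IH) (Lpn (LP (LK LD1_c1 LD2_c39 LD3_c41))))))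
theorem f209681 : Led Lsl_bf (LP (LK LD1_c0 LD2_c51 LD3_c11)) = (LP (LK LD1_c1 LD2_c39 LD3_c41)) :=
  Lgr Lrot24 (Lpr_bt (f209679 IH) (Lpn (LP (LK LD1_c1 LD2_c39 LD3_c41))))
theorem f430221 : Led Lsl_ct (LP (LK LD1_c1 LD2_c39 LD3_c41)) = (LP (LK LD1_c1 LD2_c46 LD3_c52)) :=
  Lgr Lrot63 (Lpe (f209681 IH) (Lpr_gt (K7.f124165 IH) (Lpe (K7.f124154 IH) (Lpe (K7.f13586 IH) (Lpr_gt (K6.f13436 IH) (Lpr_cf (K7.f156406 IH) (Lpr_bt (f61272 IH) (Lpe (f430192 IH) (Lpr_ct (K7.f124405 IH) (Lpr_gt (f430196 IH) (Lpn (LP (LK LD1_c1 LD2_c46 LD3_c52)))))))))))))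
theorem f124156 : Led Lsl_at (LP (LK LD1_c0 LD2_c23 LD3_c6)) = (LP (LK LD1_c0 LD2_c50 LD3_c60)) :=
  Lre_a IH (LK LD1_c0 LD2_c23 LD3_c6) (LK LD1_c0 LD2_c50 LD3_c60) Lrfl Lrfl
theorem f156432 : Led Lsl_bf (LP (LK LD1_c0 LD2_c43 LD3_c35)) = (LP (LK LD1_c0 LD2_c50 LD3_c60)) :=
  Lgr Lrot81 (Lpr_at (K7.f24284 IH) (Lpr_bt (K7.f24277 IH) (Lpr_at (K7.f156423 IH) (Lpr_bt (K7.f124154 IH) (Lpr_at (f124156 IH) (Lpn (LP (LK LD1_c0 LD2_c50 LD3_c60))))))))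
theorem f156492 : Led Lsl_bf (LP (LK LD1_c0 LD2_c50 LD3_c60)) = (LP (LK LD1_c0 LD2_c43 LD3_c35)) :=
  Lgr Lrot61 (Lpe (K7.f156346 IH) (Lpe (f156432 IH) (Lpr_ft (K7.f156488 IH) (Lpn (LP (LK LD1_c0 LD2_c43 LD3_c35))))))
theorem f24289 : Led Lsl_gt (LP (LK LD1_c0 LD2_c19 LD3_c28)) = (LP (LK LD1_c0 LD2_c43 LD3_c39)) :=
  Lre_g IH (LK LD1_c0 LD2_c19 LD3_c28) (LK LD1_c0 LD2_c43 LD3_c39) Lrfl Lrfl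
theorem f156496 : Led Lsl_gf (LP (LK LD1_c0 LD2_c43 LD3_c35)) = (LP (LK LD1_c0 LD2_c43 LD3_c39)) :=
  Lgr Lrot76 (Lpe (K7.f24283 IH) (Lpr_ff (K7.f156490 IH) (Lpr_gt (f24289 IH) (Lpn (LP (LK LD1_c0 LD2_c43 LD3_c39))))))
theorem f24293 : Led Lsl_ct (LP (LK LD1_c1 LD2_c34 LD3_c5)) = (LP (LK LD1_c0 LD2_c43 LD3_c39)) :=
  Lre_c IH (LK LD1_c1 LD2_c34 LD3_c5) (LK LD1_c0 LD2_c43 LD3_c39) Lrfl Lrfl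
theorem f95564 : Led Lsl_af (LP (LK LD1_c0 LD2_c45 LD3_c25)) = (LP (LK LD1_c0 LD2_c52 LD3_c1)) :=
  Lgr Lrot36 (Lpr_bt (f95563 IH) (Lpr_at (K2.f95555 IH) (Lpr_bt (K2.f85050 IH) (Lpr_at (K2.f85046 IH) (Lpr_bt (K2.f85169 IH) (Lpn (LP (LK LD1_c0 LD2_c52 LD3_c1))))))))
theorem f124411 : Led Lsl_ct (LP (LK LD1_c0 LD2_c45 LD3_c25)) = (LP (LK LD1_c0 LD2_c51 LD3_c39)) :=
  Lgr Lrot111 (Lpr_af (f95564 IH) (Lpr_cf (K7.f124409 IH) (Lpe (K7.f124395 IH) (Lpn (LP (LK LD1_c0 LD2_c51 LD3_c39))))))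
theorem f430283 : Led Lsl_gf (LP (LK LD1_c1 LD2_c34 LD3_c5)) = (LP (LK LD1_c1 LD2_c37 LD3_c53)) :=
  Lgr Lrot181 (Lpr_ct (f24293 IH) (Lpe (f156496 IH) (Lpe (K7.f24285 IH) (Lpe (f156492 IH) (Lpe (K7.f156344 IH) (Lpr_bf (f209681 IH) (Lpr_ct (f430221 IH) (Lpe (f430194 IH) (Lpe (f124411 IH) (Lpr_bt (f95563 IH) (Lpn (LP (LK LD1_c1 LD2_c37 LD3_c53)))))))))))))
theorem f83183 : Led Lsl_bt (LP (LK LD1_c0 LD2_c43 LD3_c14)) = (LP (LK LD1_c0 LD2_c19 LD3_c18)) :=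
  Lre_b IH (LK LD1_c0 LD2_c43 LD3_c14) (LK LD1_c0 LD2_c19 LD3_c18) Lrfl Lrfl
theorem f153134 : Led Lsl_cf (LP (LK LD1_c0 LD2_c43 LD3_c14)) = (LP (LK LD1_c0 LD2_c43 LD3_c14)) :=
  Lgr Lrot39 (Lpe (K7.f83154 IH) (Lpr_ct (K7.f153126 IH) (Lpr_et (K7.f83180 IH) (Lpn (LP (LK LD1_c0 LD2_c43 LD3_c14))))))
theorem f102279 : Led Lsl_ct (LP (LK LD1_c1 LD2_c7 LD3_c39)) = (LP (LK LD1_c0 LD2_c31 LD3_c4)) :=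
  Lre_c IH (LK LD1_c1 LD2_c7 LD3_c39) (LK LD1_c0 LD2_c31 LD3_c4) Lrfl Lrfl
theorem f154151 : Led Lsl_bf (LP (LK LD1_c2 LD2_c20 LD3_c36)) = (LP (LK LD1_c1 LD2_c34 LD3_c5)) :=
  Lgr Lrot165 (Lpr_gt (K5.f102287 IH) (Lpr_ct (f102279 IH) (Lpr_gt (K7.f152861 IH) (Lpr_cf (f153134 IH) (Lpr_bt (f83183 IH) (Lpr_gt (K7.f154146 IH) (Lpe (K7.f24277 IH) (Lpe (K7.f24280 IH) (Lpr_gt (f24289 IH) (Lpe (f24293 IH) (Lpn (LP (LK LD1_c1 LD2_c34 LD3_c5)))))))))))))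
theorem f154155 : Led Lsl_bt (LP (LK LD1_c2 LD2_c20 LD3_c36)) = (LP (LK LD1_c1 LD2_c34 LD3_c5)) :=
  Lgr Lrot127 (Lpr_bf (f154151 IH) (Lpn (LP (LK LD1_c1 LD2_c34 LD3_c5))))
theorem f152931 : Led Lsl_ct (LP (LK LD1_c2 LD2_c20 LD3_c36)) = (LP (LK LD1_c2 LD2_c19 LD3_c52)) :=
  Lgr Lrot59 (Lpr_cf (K7.f152929 IH) (Lpn (LP (LK LD1_c2 LD2_c19 LD3_c52))))
theorem f430287 : Led Lsl_bt (LP (LK LD1_c1 LD2_c7 LD3_c37)) = (LP (LK LD1_c0 LD2_c46 LD3_c23)) :=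
  Lgr Lrot130 (Lpr_ct (K5.f102274 IH) (Lpr_gf (K7.f152941 IH) (Lpe (f152931 IH) (Lpr_bt (f154155 IH) (Lpr_gf (f430283 IH) (Lpe (f95563 IH) (Lpr_ct (f124411 IH) (Lpr_gf (f430194 IH) (Lpe (f430221 IH) (Lpe (f94267 IH) (Lpn (LP (LK LD1_c0 LD2_c46 LD3_c23)))))))))))))
theorem f23430 : Led Lsl_ct (LP (LK LD1_c1 LD2_c33 LD3_c12)) = (LP (LK LD1_c0 LD2_c43 LD3_c8)) :=
  Lre_c IH (LK LD1_c1 LD2_c33 LD3_c12) (LK LD1_c0 LD2_c43 LD3_c8) Lrfl Lrfl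
theorem f95707 : Led Lsl_gt (LP (LK LD1_c1 LD2_c39 LD3_c42)) = (LP (LK LD1_c0 LD2_c46 LD3_c23)) :=
  Lre_g IH (LK LD1_c1 LD2_c39 LD3_c42) (LK LD1_c0 LD2_c46 LD3_c23) Lrfl Lrfl
theorem f430291 : Led Lsl_bt (LP (LK LD1_c1 LD2_c33 LD3_c12)) = (LP (LK LD1_c1 LD2_c39 LD3_c42)) :=
  Lgr Lrot22 (Lpr_ct (f23430 IH) (Lpe (K7.f23413 IH) (Lpe (K2.f23407 IH) (Lpe (K7.f23419 IH) (Lpe (K7.f23429 IH) (Lpe (K7.f152929 IH) (Lpr_gf (K5.f102288 IH) (Lpe (K5.f102274 IH) (Lpr_bt (f430287 IH) (Lpe (f95707 IH) (Lpn (LP (LK LD1_c1 LD2_c39 LD3_c42)))))))))))))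
theorem f104704 : Led Lsl_ct (LP (LK LD1_c1 LD2_c6 LD3_c7)) = (LP (LK LD1_c2 LD2_c18 LD3_c14)) :=
  Lre_c IH (LK LD1_c1 LD2_c6 LD3_c7) (LK LD1_c2 LD2_c18 LD3_c14) Lrfl Lrfl
theorem f131430 : Led Lsl_ef (LP (LK LD1_c1 LD2_c33 LD3_c12)) = (LP (LK LD1_c2 LD2_c18 LD3_c14)) :=
  Lgr Lrot28 (Lpr_ct (f23430 IH) (Lpr_et (K7.f131428 IH) (Lpr_ct (f104704 IH) (Lpn (LP (LK LD1_c2 LD2_c18 LD3_c14))))))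
theorem f430127 : Led Lsl_at (LP (LK LD1_c1 LD2_c44 LD3_c19)) = (LP (LK LD1_c1 LD2_c44 LD3_c23)) :=
  Lgr Lrot66 (Lpr_ff (K7.f430125 IH) (Lpe (K7.f156217 IH) (Lpr_ff (K7.f156207 IH) (Lpn (LP (LK LD1_c1 LD2_c44 LD3_c23))))))
theorem f94656 : Led Lsl_gt (LP (LK LD1_c1 LD2_c38 LD3_c34)) = (LP (LK LD1_c3 LD2_c24 LD3_c20)) :=
  Lre_g IH (LK LD1_c1 LD2_c38 LD3_c34) (LK LD1_c3 LD2_c24 LD3_c20) Lrfl Lrfl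
theorem f430134 : Led Lsl_gf (LP (LK LD1_c1 LD2_c44 LD3_c23)) = (LP (LK LD1_c3 LD2_c24 LD3_c20)) :=
  Lgr Lrot76 (Lpe (f430127 IH) (Lpr_ff (K7.f430125 IH) (Lpr_gt (f94656 IH) (Lpn (LP (LK LD1_c3 LD2_c24 LD3_c20))))))
theorem f67145 : Led Lsl_bt (LP (LK LD1_c0 LD2_c41 LD3_c52)) = (LP (LK LD1_c0 LD2_c18 LD3_c41)) :=
  Lre_b IH (LK LD1_c0 LD2_c41 LD3_c52) (LK LD1_c0 LD2_c18 LD3_c41) Lrfl Lrfl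
theorem f104670 : Led Lsl_ct (LP (LK LD1_c2 LD2_c18 LD3_c14)) = (LP (LK LD1_c1 LD2_c6 LD3_c7)) :=
  Lre_c IH (LK LD1_c2 LD2_c18 LD3_c14) (LK LD1_c1 LD2_c6 LD3_c7) Lrfl Lrfl
theorem f430138 : Led Lsl_bt (LP (LK LD1_c2 LD2_c18 LD3_c14)) = (LP (LK LD1_c3 LD2_c24 LD3_c20)) :=
  Lgr Lrot130 (Lpr_ct (f104670 IH) (Lpe (K5.f25790 IH) (Lpr_cf (K5.f104590 IH) (Lpr_bt (K6.f104587 IH) (Lpe (K1.f58935 IH) (Lpe (f67145 IH) (Lpr_ct (K7.f154101 IH) (Lpe (K7.f10929 IH) (Lpe (K7.f154996 IH) (Lpr_gf (f430134 IH) (Lpn (LP (LK LD1_c3 LD2_c24 LD3_c20)))))))))))))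
theorem f430140 : Led Lsl_bf (LP (LK LD1_c2 LD2_c18 LD3_c14)) = (LP (LK LD1_c3 LD2_c24 LD3_c20)) :=
  Lgr Lrot24 (Lpr_bt (f430138 IH) (Lpn (LP (LK LD1_c3 LD2_c24 LD3_c20))))
theorem f430297 : Led Lsl_ef (LP (LK LD1_c3 LD2_c24 LD3_c20)) = (LP (LK LD1_c1 LD2_c39 LD3_c42)) :=
  Lgr Lrot29 (Lpe (f430140 IH) (Lpe (f131430 IH) (Lpr_bt (f430291 IH) (Lpn (LP (LK LD1_c1 LD2_c39 LD3_c42))))))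
theorem f156166 : Led Lsl_dt (LP (LK LD1_c1 LD2_c44 LD3_c23)) = (LP (LK LD1_c3 LD2_c35 LD3_c10)) :=
  Lre_d IH (LK LD1_c1 LD2_c44 LD3_c23) (LK LD1_c3 LD2_c35 LD3_c10) Lrfl Lrfl
theorem f156153 : Led Lsl_dt (LP (LK LD1_c3 LD2_c35 LD3_c10)) = (LP (LK LD1_c1 LD2_c44 LD3_c23)) :=
  Lre_d IH (LK LD1_c3 LD2_c35 LD3_c10) (LK LD1_c1 LD2_c44 LD3_c23) Lrfl Lrfl
theorem f156195 : Led Lsl_gf (LP (LK LD1_c3 LD2_c43 LD3_c2)) = (LP (LK LD1_c3 LD2_c35 LD3_c10)) :=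
  Lgr Lrot147 (Lpr_ct (K5.f86756 IH) (Lpe (K6.f90452 IH) (Lpr_ct (K7.f76771 IH) (Lpr_df (K2.f76756 IH) (Lpe (K3.f76763 IH) (Lpe (K7.f76772 IH) (Lpr_cf (K7.f156122 IH) (Lpr_gf (K7.f156188 IH) (Lpe (f156153 IH) (Lpn (LP (LK LD1_c3 LD2_c35 LD3_c10))))))))))))
theorem f94096 : Led Lsl_gt (LP (LK LD1_c1 LD2_c40 LD3_c55)) = (LP (LK LD1_c3 LD2_c28 LD3_c26)) :=
  Lre_g IH (LK LD1_c1 LD2_c40 LD3_c55) (LK LD1_c3 LD2_c28 LD3_c26) Lrfl Lrfl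
theorem f430136 : Led Lsl_cf (LP (LK LD1_c1 LD2_c40 LD3_c55)) = (LP (LK LD1_c3 LD2_c24 LD3_c20)) :=
  Lgr Lrot166 (Lpr_gt (f94096 IH) (Lpe (K3.f94087 IH) (Lpr_gt (K3.f94102 IH) (Lpe (K4.f86818 IH) (Lpr_ct (K4.f86729 IH) (Lpe (K5.f86751 IH) (Lpr_gf (f156195 IH) (Lpe (f156166 IH) (Lpr_gf (f430134 IH) (Lpn (LP (LK LD1_c3 LD2_c24 LD3_c20))))))))))))
theorem f86352 : Led Lsl_ct (LP (LK LD1_c4 LD2_c50 LD3_c22)) = (LP (LK LD1_c2 LD2_c22 LD3_c59)) :=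
  Lre_c IH (LK LD1_c4 LD2_c50 LD3_c22) (LK LD1_c2 LD2_c22 LD3_c59) Lrfl Lrfl
theorem f25658 : Led Lsl_bt (LP (LK LD1_c1 LD2_c8 LD3_c2)) = (LP (LK LD1_c0 LD2_c31 LD3_c23)) :=
  Lre_b IH (LK LD1_c1 LD2_c8 LD3_c2) (LK LD1_c0 LD2_c31 LD3_c23) Lrfl Lrfl
theorem f131301 : Led Lsl_gf (LP (LK LD1_c4 LD2_c50 LD3_c22)) = (LP (LK LD1_c6 LD2_c26 LD3_c10)) :=
  Lgr Lrot129 (Lpe (K5.f86023 IH) (Lpr_bt (K5.f86022 IH) (Lpr_gt (K3.f7471 IH) (Lpe (f25658 IH) (Lpr_ct (K5.f25010 IH) (Lpr_gt (K5.f58052 IH) (Lpr_cf (K5.f115147 IH) (Lpe (K5.f115135 IH) (Lpr_gt (K5.f131297 IH) (Lpr_ct (K5.f108874 IH) (Lpn (LP (LK LD1_c6 LD2_c26 LD3_c10)))))))))))))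
theorem f152340 : Led Lsl_gf (LP (LK LD1_c1 LD2_c49 LD3_c19)) = (LP (LK LD1_c3 LD2_c25 LD3_c14)) :=
  Lgr Lrot147 (Lpr_ct (K7.f152331 IH) (Lpr_gt (K7.f152334 IH) (Lpr_ct (K5.f21043 IH) (Lpe (K7.f134883 IH) (Lpe (f86352 IH) (Lpr_gf (f131301 IH) (Lpe (K5.f108874 IH) (Lpe (K5.f131297 IH) (Lpr_df (K6.f115137 IH) (Lpn (LP (LK LD1_c3 LD2_c25 LD3_c14))))))))))))
theorem f152332 : Led Lsl_ct (LP (LK LD1_c0 LD2_c51 LD3_c27)) = (LP (LK LD1_c1 LD2_c49 LD3_c19)) :=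
  Lre_c IH (LK LD1_c0 LD2_c51 LD3_c27) (LK LD1_c1 LD2_c49 LD3_c19) Lrfl Lrfl
theorem f152344 : Led Lsl_bt (LP (LK LD1_c0 LD2_c51 LD3_c27)) = (LP (LK LD1_c1 LD2_c40 LD3_c55)) :=
  Lgr Lrot22 (Lpr_ct (f152332 IH) (Lpr_gf (f152340 IH) (Lpr_cf (K3.f12099 IH) (Lpe (K7.f143282 IH) (Lpe (K7.f106096 IH) (Lpr_ct (K3.f10359 IH) (Lpe (K3.f106085 IH) (Lpe (K3.f106017 IH) (Lpr_bt (K3.f106749 IH) (Lpe (f94096 IH) (Lpn (LP (LK LD1_c1 LD2_c40 LD3_c55)))))))))))))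
theorem f152342 : Led Lsl_et (LP (LK LD1_c0 LD2_c23 LD3_c12)) = (LP (LK LD1_c0 LD2_c51 LD3_c27)) :=
  Lre_e IH (LK LD1_c0 LD2_c23 LD3_c12) (LK LD1_c0 LD2_c51 LD3_c27) Lrfl Lrfl
theorem f152348 : Led Lsl_ef (LP (LK LD1_c0 LD2_c51 LD3_c25)) = (LP (LK LD1_c1 LD2_c40 LD3_c55)) :=
  Lgr Lrot29 (Lpr_bt (f124181 IH) (Lpr_et (f152342 IH) (Lpr_bt (f152344 IH) (Lpn (LP (LK LD1_c1 LD2_c40 LD3_c55))))))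
theorem f430303 : Led Lsl_ct (LP (LK LD1_c0 LD2_c51 LD3_c25)) = (LP (LK LD1_c1 LD2_c39 LD3_c42)) :=
  Lgr Lrot15 (Lpr_ef (f152348 IH) (Lpr_cf (f430136 IH) (Lpr_ef (f430297 IH) (Lpn (LP (LK LD1_c1 LD2_c39 LD3_c42))))))
theorem f94278 : Led Lsl_gt (LP (LK LD1_c0 LD2_c46 LD3_c21)) = (LP (LK LD1_c1 LD2_c39 LD3_c39)) :=
  Lre_g IH (LK LD1_c0 LD2_c46 LD3_c21) (LK LD1_c1 LD2_c39 LD3_c39) Lrfl Lrfl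
theorem f431024 : Led Lsl_ct (LP (LK LD1_c1 LD2_c39 LD3_c39)) = (LP (LK LD1_c0 LD2_c51 LD3_c10)) :=
  Lgr Lrot91 (Lpe (f94278 IH) (Lpe (K3.f94256 IH) (Lpr_ct (K3.f94260 IH) (Lpe (f95707 IH) (Lpe (f430303 IH) (Lpr_bt (f124181 IH) (Lpe (f156359 IH) (Lpr_bf (f156384 IH) (Lpr_ct (K7.f156348 IH) (Lpr_gf (f431022 IH) (Lpn (LP (LK LD1_c0 LD2_c51 LD3_c10)))))))))))))
theorem f430210 : Led Lsl_bt (LP (LK LD1_c0 LD2_c22 LD3_c37)) = (LP (LK LD1_c0 LD2_c50 LD3_c9)) :=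
  Lre_b IH (LK LD1_c0 LD2_c22 LD3_c37) (LK LD1_c0 LD2_c50 LD3_c9) Lrfl Lrfl
theorem f124177 : Led Lsl_gt (LP (LK LD1_c0 LD2_c10 LD3_c25)) = (LP (LK LD1_c0 LD2_c23 LD3_c11)) :=
  Lre_g IH (LK LD1_c0 LD2_c10 LD3_c25) (LK LD1_c0 LD2_c23 LD3_c11) Lrfl Lrfl
theorem f124178 : Led Lsl_ct (LP (LK LD1_c0 LD2_c51 LD3_c24)) = (LP (LK LD1_c0 LD2_c23 LD3_c11)) :=
  Lre_c IH (LK LD1_c0 LD2_c51 LD3_c24) (LK LD1_c0 LD2_c23 LD3_c11) Lrfl Lrfl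
theorem f430225 : Led Lsl_bf (LP (LK LD1_c0 LD2_c52 LD3_c5)) = (LP (LK LD1_c0 LD2_c51 LD3_c24)) :=
  Lgr Lrot156 (Lpr_gt (f85056 IH) (Lpe (K2.f85168 IH) (Lpr_ct (K7.f124405 IH) (Lpr_gt (f430196 IH) (Lpe (f430221 IH) (Lpe (f209681 IH) (Lpr_gt (K7.f124165 IH) (Lpr_ct (K7.f124159 IH) (Lpr_gt (f124177 IH) (Lpe (f124178 IH) (Lpn (LP (LK LD1_c0 LD2_c51 LD3_c24)))))))))))))
theorem f430201 : Led Lsl_ct (LP (LK LD1_c0 LD2_c52 LD3_c5)) = (LP (LK LD1_c0 LD2_c50 LD3_c11)) :=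
  Lgr Lrot59 (Lpr_cf (f430198 IH) (Lpn (LP (LK LD1_c0 LD2_c50 LD3_c11))))
theorem f4017 : Led Lsl_ct (LP (LK LD1_c0 LD2_c22 LD3_c38)) = (LP (LK LD1_c0 LD2_c50 LD3_c12)) :=
  Lre_c IH (LK LD1_c0 LD2_c22 LD3_c38) (LK LD1_c0 LD2_c50 LD3_c12) Lrfl Lrfl
theorem f124182 : Led Lsl_ct (LP (LK LD1_c0 LD2_c23 LD3_c11)) = (LP (LK LD1_c0 LD2_c51 LD3_c24)) :=
  Lre_c IH (LK LD1_c0 LD2_c23 LD3_c11) (LK LD1_c0 LD2_c51 LD3_c24) Lrfl Lrfl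
theorem f430229 : Led Lsl_bt (LP (LK LD1_c0 LD2_c50 LD3_c12)) = (LP (LK LD1_c0 LD2_c23 LD3_c11)) :=
  Lgr Lrot128 (Lpe (f4017 IH) (Lpe (f4019 IH) (Lpe (f430201 IH) (Lpr_bf (f430225 IH) (Lpe (f124182 IH) (Lpn (LP (LK LD1_c0 LD2_c23 LD3_c11))))))))
theorem f4018 : Led Lsl_ct (LP (LK LD1_c0 LD2_c50 LD3_c12)) = (LP (LK LD1_c0 LD2_c22 LD3_c38)) :=
  Lre_c IH (LK LD1_c0 LD2_c50 LD3_c12) (LK LD1_c0 LD2_c22 LD3_c38) Lrfl Lrfl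
theorem f4009 : Led Lsl_bt (LP (LK LD1_c0 LD2_c50 LD3_c9)) = (LP (LK LD1_c0 LD2_c22 LD3_c37)) :=
  Lre_b IH (LK LD1_c0 LD2_c50 LD3_c9) (LK LD1_c0 LD2_c22 LD3_c37) Lrfl Lrfl
theorem f156366 : Led Lsl_gf (LP (LK LD1_c0 LD2_c23 LD3_c2)) = (LP (LK LD1_c0 LD2_c23 LD3_c11)) :=
  Lgr Lrot76 (Lpe (K7.f156355 IH) (Lpr_ff (K7.f156357 IH) (Lpr_gt (f124177 IH) (Lpn (LP (LK LD1_c0 LD2_c23 LD3_c11))))))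
theorem f430251 : Led Lsl_ct (LP (LK LD1_c0 LD2_c50 LD3_c9)) = (LP (LK LD1_c0 LD2_c51 LD3_c11)) :=
  Lgr Lrot10 (Lpr_bt (f4009 IH) (Lpe (f4005 IH) (Lpr_ct (K7.f5002 IH) (Lpr_gt (f4015 IH) (Lpe (f4018 IH) (Lpr_bt (f430229 IH) (Lpe (f156366 IH) (Lpr_bf (f156384 IH) (Lpr_ct (K7.f156348 IH) (Lpe (K7.f156344 IH) (Lpn (LP (LK LD1_c0 LD2_c51 LD3_c11)))))))))))))
theorem f156337 : Led Lsl_df (LP (LK LD1_c1 LD2_c43 LD3_c54)) = (LP (LK LD1_c3 LD2_c22 LD3_c14)) :=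
  Lgr Lrot38 (Lpr_dt (K7.f156335 IH) (Lpn (LP (LK LD1_c3 LD2_c22 LD3_c14))))
theorem f209561 : Led Lsl_bt (LP (LK LD1_c1 LD2_c43 LD3_c54)) = (LP (LK LD1_c3 LD2_c26 LD3_c1)) :=
  Lgr Lrot95 (Lpr_df (f156337 IH) (Lpe (K7.f84614 IH) (Lpr_df (f209559 IH) (Lpn (LP (LK LD1_c3 LD2_c26 LD3_c1))))))
theorem f209683 : Led Lsl_et (LP (LK LD1_c0 LD2_c51 LD3_c11)) = (LP (LK LD1_c1 LD2_c43 LD3_c54)) :=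
  Lgr Lrot74 (Lpr_bf (f209681 IH) (Lpe (f209558 IH) (Lpe (f209561 IH) (Lpn (LP (LK LD1_c1 LD2_c43 LD3_c54))))))
theorem f430255 : Led Lsl_ef (LP (LK LD1_c0 LD2_c50 LD3_c9)) = (LP (LK LD1_c0 LD2_c48 LD3_c31)) :=
  Lgr Lrot28 (Lpr_ct (f430251 IH) (Lpr_et (f209683 IH) (Lpr_ct (K7.f156303 IH) (Lpn (LP (LK LD1_c0 LD2_c48 LD3_c31))))))
theorem f430260 : Led Lsl_et (LP (LK LD1_c0 LD2_c50 LD3_c9)) = (LP (LK LD1_c0 LD2_c48 LD3_c31)) :=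
  Lgr Lrot87 (Lpr_ef (f430255 IH) (Lpn (LP (LK LD1_c0 LD2_c48 LD3_c31))))
theorem f430263 : Led Lsl_ef (LP (LK LD1_c0 LD2_c22 LD3_c37)) = (LP (LK LD1_c0 LD2_c21 LD3_c42)) :=
  Lgr Lrot29 (Lpr_bt (f430210 IH) (Lpr_et (f430260 IH) (Lpr_bt (f10748 IH) (Lpn (LP (LK LD1_c0 LD2_c21 LD3_c42))))))
theorem f430265 : Led Lsl_et (LP (LK LD1_c0 LD2_c50 LD3_c10)) = (LP (LK LD1_c0 LD2_c48 LD3_c32)) :=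
  Lgr Lrot158 (Lpe (f4008 IH) (Lpr_ef (f430263 IH) (Lpe (K3.f106641 IH) (Lpn (LP (LK LD1_c0 LD2_c48 LD3_c32))))))
theorem f430209 : Led Lsl_bt (LP (LK LD1_c1 LD2_c46 LD3_c52)) = (LP (LK LD1_c0 LD2_c50 LD3_c10)) :=
  Lre_b IH (LK LD1_c1 LD2_c46 LD3_c52) (LK LD1_c0 LD2_c50 LD3_c10) Lrfl Lrfl
theorem f430267 : Led Lsl_ef (LP (LK LD1_c1 LD2_c46 LD3_c52)) = (LP (LK LD1_c1 LD2_c43 LD3_c56)) :=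
  Lgr Lrot29 (Lpr_bt (f430209 IH) (Lpr_et (f430265 IH) (Lpr_bt (K7.f155033 IH) (Lpn (LP (LK LD1_c1 LD2_c43 LD3_c56))))))
theorem f430275 : Led Lsl_ct (LP (LK LD1_c1 LD2_c46 LD3_c52)) = (LP (LK LD1_c1 LD2_c39 LD3_c41)) :=
  Lgr Lrot15 (Lpr_ef (f430267 IH) (Lpr_cf (f209572 IH) (Lpe (f209565 IH) (Lpn (LP (LK LD1_c1 LD2_c39 LD3_c41))))))
theorem f124407 : Led Lsl_cf (LP (LK LD1_c0 LD2_c23 LD3_c32)) = (LP (LK LD1_c0 LD2_c51 LD3_c59)) :=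
  Lgr Lrot97 (Lpr_bt (K2.f85183 IH) (Lpr_ct (f85059 IH) (Lpr_bt (K2.f85169 IH) (Lpr_ct (K7.f124405 IH) (Lpe (K7.f124392 IH) (Lpn (LP (LK LD1_c0 LD2_c51 LD3_c59))))))))
theorem f430277 : Led Lsl_gt (LP (LK LD1_c0 LD2_c50 LD3_c9)) = (LP (LK LD1_c0 LD2_c46 LD3_c21)) :=
  Lgr Lrot164 (Lpe (f430210 IH) (Lpr_ct (f4008 IH) (Lpe (f430205 IH) (Lpr_cf (f124407 IH) (Lpr_gf (f430207 IH) (Lpe (f430209 IH) (Lpr_ct (f430275 IH) (Lpe (f94267 IH) (Lpe (K3.f94260 IH) (Lpr_bt (K3.f94256 IH) (Lpn (LP (LK LD1_c0 LD2_c46 LD3_c21)))))))))))))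
theorem f430279 : Led Lsl_gf (LP (LK LD1_c0 LD2_c50 LD3_c9)) = (LP (LK LD1_c1 LD2_c39 LD3_c35)) :=
  Lgr Lrot47 (Lpr_gt (f430277 IH) (Lpe (K3.f94268 IH) (Lpr_ff (K3.f94270 IH) (Lpn (LP (LK LD1_c1 LD2_c39 LD3_c35))))))
theorem f107788 : Led Lsl_gt (LP (LK LD1_c1 LD2_c44 LD3_c3)) = (LP (LK LD1_c3 LD2_c32 LD3_c31)) :=
  Lgr Lrot5 (Lpr_ft (K3.f106448 IH) (Lpr_at (K3.f107709 IH) (Lpe (K4.f106759 IH) (Lpn (LP (LK LD1_c3 LD2_c32 LD3_c31))))))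
theorem f115102 : Led Lsl_gt (LP (LK LD1_c3 LD2_c28 LD3_c25)) = (LP (LK LD1_c3 LD2_c32 LD3_c9)) :=
  Lgr Lrot82 (Lpr_bf (K2.f19399 IH) (Lpr_ct (K4.f106760 IH) (Lpe (f107788 IH) (Lpe (K3.f106447 IH) (Lpr_bt (K3.f106444 IH) (Lpr_gf (K5.f114148 IH) (Lpe (K5.f85644 IH) (Lpr_ct (K5.f19333 IH) (Lpr_gf (K5.f115100 IH) (Lpe (K5.f115096 IH) (Lpn (LP (LK LD1_c3 LD2_c32 LD3_c9)))))))))))))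
theorem f430108 : Led Lsl_gf (LP (LK LD1_c1 LD2_c44 LD3_c19)) = (LP (LK LD1_c3 LD2_c26 LD3_c1)) :=
  Lgr Lrot172 (Lpr_ct (K7.f430102 IH) (Lpr_dt (K7.f430098 IH) (Lpe (K5.f19334 IH) (Lpr_gf (K5.f115100 IH) (Lpe (K5.f115096 IH) (Lpe (f115102 IH) (Lpr_dt (K3.f19403 IH) (Lpe (f155055 IH) (Lpr_ct (f209566 IH) (Lpn (LP (LK LD1_c3 LD2_c26 LD3_c1))))))))))))
theorem f430120 : Led Lsl_ct (LP (LK LD1_c0 LD2_c48 LD3_c44)) = (LP (LK LD1_c1 LD2_c44 LD3_c19)) :=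
  Lre_c IH (LK LD1_c0 LD2_c48 LD3_c44) (LK LD1_c1 LD2_c44 LD3_c19) Lrfl Lrfl
theorem f106095 : Led Lsl_bt (LP (LK LD1_c1 LD2_c43 LD3_c56)) = (LP (LK LD1_c0 LD2_c48 LD3_c32)) :=
  Lre_b IH (LK LD1_c1 LD2_c43 LD3_c56) (LK LD1_c0 LD2_c48 LD3_c32) Lrfl Lrfl
theorem f19415 : Led Lsl_bt (LP (LK LD1_c0 LD2_c46 LD3_c55)) = (LP (LK LD1_c1 LD2_c40 LD3_c48)) :=
  Lre_b IH (LK LD1_c0 LD2_c46 LD3_c55) (LK LD1_c1 LD2_c40 LD3_c48) Lrfl Lrfl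
theorem f88680 : Led Lsl_ft (LP (LK LD1_c1 LD2_c41 LD3_c7)) = (LP (LK LD1_c0 LD2_c47 LD3_c3)) :=
  Lre_f IH (LK LD1_c1 LD2_c41 LD3_c7) (LK LD1_c0 LD2_c47 LD3_c3) Lrfl Lrfl
theorem f90396 : Led Lsl_at (LP (LK LD1_c0 LD2_c47 LD3_c3)) = (LP (LK LD1_c1 LD2_c40 LD3_c49)) :=
  Lre_a IH (LK LD1_c0 LD2_c47 LD3_c3) (LK LD1_c1 LD2_c40 LD3_c49) Lrfl Lrfl
theorem f155059 : Led Lsl_gt (LP (LK LD1_c1 LD2_c43 LD3_c60)) = (LP (LK LD1_c1 LD2_c40 LD3_c49)) :=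
  Lgr Lrot46 (Lpr_gf (K7.f155057 IH) (Lpr_ft (f88680 IH) (Lpr_at (f90396 IH) (Lpn (LP (LK LD1_c1 LD2_c40 LD3_c49))))))
theorem f155080 : Led Lsl_gt (LP (LK LD1_c1 LD2_c43 LD3_c58)) = (LP (LK LD1_c0 LD2_c48 LD3_c33)) :=
  Lre_g IH (LK LD1_c1 LD2_c43 LD3_c58) (LK LD1_c0 LD2_c48 LD3_c33) Lrfl Lrfl
theorem f432769 : Led Lsl_bt (LP (LK LD1_c0 LD2_c48 LD3_c44)) = (LP (LK LD1_c1 LD2_c43 LD3_c58)) :=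
  Lgr Lrot130 (Lpr_ct (f430120 IH) (Lpr_gf (f430108 IH) (Lpe (f209566 IH) (Lpr_bt (f106095 IH) (Lpe (K3.f106648 IH) (Lpe (f19415 IH) (Lpr_ct (K3.f85347 IH) (Lpe (f155059 IH) (Lpe (K7.f10751 IH) (Lpe (f155080 IH) (Lpn (LP (LK LD1_c1 LD2_c43 LD3_c58)))))))))))))
theorem f430106 : Led Lsl_ff (LP (LK LD1_c0 LD2_c48 LD3_c44)) = (LP (LK LD1_c0 LD2_c45 LD3_c41)) :=
  Lgr Lrot19 (Lpr_dt (K7.f430098 IH) (Lpe (K5.f115235 IH) (Lpr_dt (K5.f92033 IH) (Lpn (LP (LK LD1_c0 LD2_c45 LD3_c41))))))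
theorem f432781 : Led Lsl_ff (LP (LK LD1_c1 LD2_c38 LD3_c30)) = (LP (LK LD1_c1 LD2_c43 LD3_c58)) :=
  Lgr Lrot25 (Lpr_bt (K7.f114014 IH) (Lpe (f430106 IH) (Lpr_bt (f432769 IH) (Lpn (LP (LK LD1_c1 LD2_c43 LD3_c58))))))
theorem f106282 : Led Lsl_cf (LP (LK LD1_c3 LD2_c24 LD3_c17)) = (LP (LK LD1_c3 LD2_c31 LD3_c8)) :=
  Lgr Lrot11 (Lpr_ct (K3.f106276 IH) (Lpn (LP (LK LD1_c3 LD2_c31 LD3_c8))))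
theorem f114079 : Led Lsl_ff (LP (LK LD1_c3 LD2_c31 LD3_c56)) = (LP (LK LD1_c3 LD2_c24 LD3_c17)) :=
  Lgr Lrot23 (Lpr_ct (K3.f85642 IH) (Lpr_ft (K4.f114037 IH) (Lpe (f106282 IH) (Lpn (LP (LK LD1_c3 LD2_c24 LD3_c17))))))
theorem f432790 : Led Lsl_dt (LP (LK LD1_c3 LD2_c31 LD3_c56)) = (LP (LK LD1_c1 LD2_c43 LD3_c58)) :=
  Lgr Lrot60 (Lpr_ff (f114079 IH) (Lpe (K3.f92031 IH) (Lpr_ff (f432781 IH) (Lpn (LP (LK LD1_c1 LD2_c43 LD3_c58))))))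
theorem f64299 : Led Lsl_gt (LP (LK LD1_c0 LD2_c21 LD3_c4)) = (LP (LK LD1_c0 LD2_c47 LD3_c5)) :=
  Lre_g IH (LK LD1_c0 LD2_c21 LD3_c4) (LK LD1_c0 LD2_c47 LD3_c5) Lrfl Lrfl
theorem f78958 : Led Lsl_at (LP (LK LD1_c3 LD2_c1 LD3_c26)) = (LP (LK LD1_c1 LD2_c26 LD3_c49)) :=
  Lre_a IH (LK LD1_c3 LD2_c1 LD3_c26) (LK LD1_c1 LD2_c26 LD3_c49) Lrfl Lrfl
theorem f114208 : Led Lsl_ff (LP (LK LD1_c3 LD2_c1 LD3_c26)) = (LP (LK LD1_c1 LD2_c35 LD3_c56)) :=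
  Lgr Lrot52 (Lpr_at (f78958 IH) (Lpr_gf (K4.f114159 IH) (Lpe (K7.f12167 IH) (Lpn (LP (LK LD1_c1 LD2_c35 LD3_c56))))))
theorem f155128 : Led Lsl_ft (LP (LK LD1_c1 LD2_c26 LD3_c42)) = (LP (LK LD1_c1 LD2_c30 LD3_c60)) :=
  Lgr Lrot54 (Lpe (K4.f114002 IH) (Lpr_ff (f114208 IH) (Lpr_df (K7.f155124 IH) (Lpn (LP (LK LD1_c1 LD2_c30 LD3_c60))))))
theorem f432788 : Led Lsl_ct (LP (LK LD1_c1 LD2_c30 LD3_c60)) = (LP (LK LD1_c1 LD2_c43 LD3_c58)) :=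
  Lgr Lrot40 (Lpe (f155128 IH) (Lpe (K7.f110040 IH) (Lpr_ff (f432781 IH) (Lpn (LP (LK LD1_c1 LD2_c43 LD3_c58))))))
theorem f432800 : Led Lsl_ct (LP (LK LD1_c0 LD2_c47 LD3_c5)) = (LP (LK LD1_c1 LD2_c26 LD3_c48)) :=
  Lgr Lrot186 (Lpe (f64299 IH) (Lpr_dt (K3.f62670 IH) (Lpe (K3.f84985 IH) (Lpr_ct (K3.f85296 IH) (Lpr_gt (K3.f85297 IH) (Lpe (K4.f85649 IH) (Lpr_dt (f432790 IH) (Lpe (f432788 IH) (Lpe (K7.f155160 IH) (Lpn (LP (LK LD1_c1 LD2_c26 LD3_c48))))))))))))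
theorem f12166 : Led Lsl_dt (LP (LK LD1_c0 LD2_c44 LD3_c29)) = (LP (LK LD1_c0 LD2_c19 LD3_c48)) :=
  Lre_d IH (LK LD1_c0 LD2_c44 LD3_c29) (LK LD1_c0 LD2_c19 LD3_c48) Lrfl Lrfl
theorem f106079 : Led Lsl_bt (LP (LK LD1_c1 LD2_c44 LD3_c33)) = (LP (LK LD1_c0 LD2_c48 LD3_c55)) :=
  Lre_b IH (LK LD1_c1 LD2_c44 LD3_c33) (LK LD1_c0 LD2_c48 LD3_c55) Lrfl Lrfl
theorem f106080 : Led Lsl_dt (LP (LK LD1_c0 LD2_c48 LD3_c55)) = (LP (LK LD1_c0 LD2_c53 LD3_c21)) :=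
  Lgr Lrot79 (Lpe (f106079 IH) (Lpr_df (K3.f106072 IH) (Lpe (K3.f85315 IH) (Lpn (LP (LK LD1_c0 LD2_c53 LD3_c21))))))
theorem f432804 : Led Lsl_gt (LP (LK LD1_c0 LD2_c47 LD3_c5)) = (LP (LK LD1_c0 LD2_c48 LD3_c55)) :=
  Lgr Lrot180 (Lpr_ct (f432800 IH) (Lpr_gt (K7.f155160 IH) (Lpe (K7.f155124 IH) (Lpr_gt (K7.f12167 IH) (Lpr_dt (f12166 IH) (Lpr_ct (K2.f12165 IH) (Lpe (K3.f18014 IH) (Lpe (K3.f11906 IH) (Lpe (f106080 IH) (Lpn (LP (LK LD1_c0 LD2_c48 LD3_c55))))))))))))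
theorem f10024 : Led Lsl_at (LP (LK LD1_c0 LD2_c48 LD3_c56)) = (LP (LK LD1_c0 LD2_c21 LD3_c57)) :=
  Lre_a IH (LK LD1_c0 LD2_c48 LD3_c56) (LK LD1_c0 LD2_c21 LD3_c57) Lrfl Lrfl
theorem f433134 : Led Lsl_ft (LP (LK LD1_c0 LD2_c47 LD3_c5)) = (LP (LK LD1_c0 LD2_c48 LD3_c56)) :=
  Lgr Lrot2 (Lpr_gt (f432804 IH) (Lpr_gt (K7.f10029 IH) (Lpe (f10024 IH) (Lpn (LP (LK LD1_c0 LD2_c48 LD3_c56))))))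
theorem f433136 : Led Lsl_ff (LP (LK LD1_c0 LD2_c47 LD3_c5)) = (LP (LK LD1_c0 LD2_c48 LD3_c56)) :=
  Lgr Lrot3 (Lpr_ft (f433134 IH) (Lpn (LP (LK LD1_c0 LD2_c48 LD3_c56))))
theorem f155062 : Led Lsl_ct (LP (LK LD1_c1 LD2_c43 LD3_c60)) = (LP (LK LD1_c0 LD2_c48 LD3_c33)) :=
  Lre_c IH (LK LD1_c1 LD2_c43 LD3_c60) (LK LD1_c0 LD2_c48 LD3_c33) Lrfl Lrfl
theorem f85595 : Led Lsl_dt (LP (LK LD1_c3 LD2_c28 LD3_c46)) = (LP (LK LD1_c1 LD2_c41 LD3_c7)) :=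
  Lre_d IH (LK LD1_c3 LD2_c28 LD3_c46) (LK LD1_c1 LD2_c41 LD3_c7) Lrfl Lrfl
theorem f155063 : Led Lsl_gt (LP (LK LD1_c0 LD2_c48 LD3_c33)) = (LP (LK LD1_c1 LD2_c26 LD3_c47)) :=
  Lgr Lrot150 (Lpe (f155062 IH) (Lpr_gf (K7.f155057 IH) (Lpe (f85595 IH) (Lpr_gt (K3.f105648 IH) (Lpr_ct (K5.f12446 IH) (Lpe (K5.f114366 IH) (Lpr_ct (K6.f78951 IH) (Lpe (K4.f78963 IH) (Lpe (K2.f61750 IH) (Lpn (LP (LK LD1_c1 LD2_c26 LD3_c47))))))))))))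
theorem f10752 : Led Lsl_ct (LP (LK LD1_c0 LD2_c21 LD3_c43)) = (LP (LK LD1_c0 LD2_c48 LD3_c34)) :=
  Lre_c IH (LK LD1_c0 LD2_c21 LD3_c43) (LK LD1_c0 LD2_c48 LD3_c34) Lrfl Lrfl
theorem f106745 : Led Lsl_bf (LP (LK LD1_c1 LD2_c43 LD3_c55)) = (LP (LK LD1_c3 LD2_c28 LD3_c26)) :=
  Lgr Lrot96 (Lpr_et (K3.f106743 IH) (Lpr_bt (K5.f94356 IH) (Lpr_et (K4.f94085 IH) (Lpn (LP (LK LD1_c3 LD2_c28 LD3_c26))))))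
theorem f429055 : Led Lsl_gf (LP (LK LD1_c0 LD2_c48 LD3_c34)) = (LP (LK LD1_c1 LD2_c43 LD3_c55)) :=
  Lgr Lrot124 (Lpr_bf (K7.f155078 IH) (Lpr_ct (K5.f21066 IH) (Lpe (K5.f135045 IH) (Lpr_cf (K3.f12099 IH) (Lpr_bt (f12097 IH) (Lpe (f154368 IH) (Lpr_ct (f10375 IH) (Lpr_gt (K7.f154371 IH) (Lpr_cf (K7.f429047 IH) (Lpe (f106745 IH) (Lpn (LP (LK LD1_c1 LD2_c43 LD3_c55)))))))))))))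
theorem f432808 : Led Lsl_bt (LP (LK LD1_c0 LD2_c47 LD3_c5)) = (LP (LK LD1_c0 LD2_c47 LD3_c5)) :=
  Lgr Lrot22 (Lpr_ct (f432800 IH) (Lpe (K7.f61742 IH) (Lpe (K2.f61750 IH) (Lpe (f155063 IH) (Lpe (K7.f155077 IH) (Lpr_ct (f10752 IH) (Lpr_gf (f429055 IH) (Lpe (K7.f106082 IH) (Lpr_bt (f106079 IH) (Lpe (f432804 IH) (Lpn (LP (LK LD1_c0 LD2_c47 LD3_c5)))))))))))))
theorem f433138 : Led Lsl_bt (LP (LK LD1_c0 LD2_c48 LD3_c56)) = (LP (LK LD1_c0 LD2_c48 LD3_c56)) :=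
  Lgr Lrot35 (Lpe (f433134 IH) (Lpe (f432808 IH) (Lpr_ff (f433136 IH) (Lpn (LP (LK LD1_c0 LD2_c48 LD3_c56))))))
theorem f10023 : Led Lsl_at (LP (LK LD1_c0 LD2_c21 LD3_c57)) = (LP (LK LD1_c0 LD2_c48 LD3_c56)) :=
  Lre_a IH (LK LD1_c0 LD2_c21 LD3_c57) (LK LD1_c0 LD2_c48 LD3_c56) Lrfl Lrfl
theorem f10020 : Led Lsl_bt (LP (LK LD1_c0 LD2_c21 LD3_c57)) = (LP (LK LD1_c0 LD2_c9 LD3_c55)) :=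
  Lre_b IH (LK LD1_c0 LD2_c21 LD3_c57) (LK LD1_c0 LD2_c9 LD3_c55) Lrfl Lrfl
theorem f433146 : Led Lsl_af (LP (LK LD1_c0 LD2_c9 LD3_c55)) = (LP (LK LD1_c0 LD2_c9 LD3_c55)) :=
  Lgr Lrot36 (Lpr_bt (K7.f9998 IH) (Lpr_at (f10023 IH) (Lpr_bt (f433138 IH) (Lpr_at (f10024 IH) (Lpr_bt (f10020 IH) (Lpn (LP (LK LD1_c0 LD2_c9 LD3_c55))))))))
theorem f154362 : Led Lsl_gf (LP (LK LD1_c0 LD2_c9 LD3_c55)) = (LP (LK LD1_c0 LD2_c20 LD3_c36)) :=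
  Lgr Lrot104 (Lpr_ct (K7.f9959 IH) (Lpe (K0.f9989 IH) (Lpe (K6.f4936 IH) (Lpr_gf (K6.f143286 IH) (Lpe (K6.f12719 IH) (Lpe (K0.f12696 IH) (Lpe (K7.f143259 IH) (Lpr_gt (K7.f154359 IH) (Lpr_ct (K5.f20856 IH) (Lpn (LP (LK LD1_c0 LD2_c20 LD3_c36))))))))))))
theorem f433162 : Led Lsl_ft (LP (LK LD1_c0 LD2_c9 LD3_c54)) = (LP (LK LD1_c0 LD2_c9 LD3_c55)) :=
  Lgr Lrot2 (Lpe (K7.f154105 IH) (Lpe (f154362 IH) (Lpr_af (f433146 IH) (Lpn (LP (LK LD1_c0 LD2_c9 LD3_c55))))))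
theorem f433168 : Led Lsl_ff (LP (LK LD1_c0 LD2_c9 LD3_c54)) = (LP (LK LD1_c0 LD2_c9 LD3_c55)) :=
  Lgr Lrot3 (Lpr_ft (f433162 IH) (Lpn (LP (LK LD1_c0 LD2_c9 LD3_c55))))
theorem f433174 : Led Lsl_ft (LP (LK LD1_c0 LD2_c4 LD3_c38)) = (LP (LK LD1_c0 LD2_c4 LD3_c39)) :=
  Lgr Lrot4 (Lpe (K6.f4936 IH) (Lpr_ff (f433168 IH) (Lpe (K7.f9961 IH) (Lpn (LP (LK LD1_c0 LD2_c4 LD3_c39))))))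
theorem f433166 : Led Lsl_ff (LP (LK LD1_c0 LD2_c4 LD3_c38)) = (LP (LK LD1_c0 LD2_c4 LD3_c39)) :=
  Lgr Lrot23 (Lpr_ct (K7.f4932 IH) (Lpr_ft (f433162 IH) (Lpr_ct (K7.f9959 IH) (Lpn (LP (LK LD1_c0 LD2_c4 LD3_c39))))))
theorem f433180 : Led Lsl_ff (LP (LK LD1_c0 LD2_c4 LD3_c50)) = (LP (LK LD1_c0 LD2_c4 LD3_c50)) :=
  Lgr Lrot72 (Lpr_et (K0.f4929 IH) (Lpr_ft (f433174 IH) (Lpe (K0.f9994 IH) (Lpe (f433166 IH) (Lpe (K0.f4933 IH) (Lpn (LP (LK LD1_c0 LD2_c4 LD3_c50))))))))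
theorem f154128 : Led Lsl_bf (LP (LK LD1_c0 LD2_c8 LD3_c40)) = (LP (LK LD1_c0 LD2_c4 LD3_c50)) :=
  Lgr Lrot96 (Lpr_et (K7.f154126 IH) (Lpr_bt (K7.f4935 IH) (Lpe (K0.f4933 IH) (Lpn (LP (LK LD1_c0 LD2_c4 LD3_c50))))))
theorem f433182 : Led Lsl_ft (LP (LK LD1_c0 LD2_c8 LD3_c40)) = (LP (LK LD1_c0 LD2_c8 LD3_c40)) :=
  Lgr Lrot75 (Lpr_bf (f154128 IH) (Lpr_ff (f433180 IH) (Lpe (K7.f154134 IH) (Lpn (LP (LK LD1_c0 LD2_c8 LD3_c40))))))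
theorem f433190 : Led Lsl_af (LP (LK LD1_c0 LD2_c8 LD3_c41)) = (LP (LK LD1_c0 LD2_c8 LD3_c40)) :=
  Lgr Lrot31 (Lpe (K7.f83138 IH) (Lpr_gf (K7.f82540 IH) (Lpr_ft (f433182 IH) (Lpn (LP (LK LD1_c0 LD2_c8 LD3_c40))))))
theorem f433192 : Led Lsl_at (LP (LK LD1_c0 LD2_c8 LD3_c41)) = (LP (LK LD1_c0 LD2_c8 LD3_c40)) :=
  Lgr Lrot100 (Lpr_af (f433190 IH) (Lpn (LP (LK LD1_c0 LD2_c8 LD3_c40))))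
theorem f433198 : Led Lsl_ft (LP (LK LD1_c0 LD2_c8 LD3_c41)) = (LP (LK LD1_c0 LD2_c8 LD3_c41)) :=
  Lgr Lrot101 (Lpr_af (f433190 IH) (Lpe (f433182 IH) (Lpe (f433192 IH) (Lpn (LP (LK LD1_c0 LD2_c8 LD3_c41))))))
theorem f433200 : Led Lsl_ff (LP (LK LD1_c0 LD2_c19 LD3_c18)) = (LP (LK LD1_c0 LD2_c19 LD3_c18)) :=
  Lgr Lrot23 (Lpr_ct (K7.f83143 IH) (Lpr_ft (f433198 IH) (Lpr_ct (K7.f83140 IH) (Lpn (LP (LK LD1_c0 LD2_c19 LD3_c18))))))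
theorem f83141 : Led Lsl_dt (LP (LK LD1_c0 LD2_c43 LD3_c15)) = (LP (LK LD1_c0 LD2_c19 LD3_c18)) :=
  Lre_d IH (LK LD1_c0 LD2_c43 LD3_c15) (LK LD1_c0 LD2_c19 LD3_c18) Lrfl Lrfl
theorem f433206 : Led Lsl_ft (LP (LK LD1_c0 LD2_c43 LD3_c15)) = (LP (LK LD1_c0 LD2_c43 LD3_c15)) :=
  Lgr Lrot54 (Lpe (K7.f83142 IH) (Lpr_ff (f433200 IH) (Lpe (f83141 IH) (Lpn (LP (LK LD1_c0 LD2_c43 LD3_c15))))))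
theorem f433208 : Led Lsl_af (LP (LK LD1_c0 LD2_c43 LD3_c13)) = (LP (LK LD1_c0 LD2_c43 LD3_c15)) :=
  Lgr Lrot31 (Lpr_gf (K7.f154144 IH) (Lpr_gf (K7.f152315 IH) (Lpr_ft (f433206 IH) (Lpn (LP (LK LD1_c0 LD2_c43 LD3_c15))))))
theorem f433210 : Led Lsl_at (LP (LK LD1_c0 LD2_c43 LD3_c13)) = (LP (LK LD1_c0 LD2_c43 LD3_c15)) :=
  Lgr Lrot100 (Lpr_af (f433208 IH) (Lpn (LP (LK LD1_c0 LD2_c43 LD3_c15))))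
theorem f433213 : Led Lsl_ft (LP (LK LD1_c0 LD2_c43 LD3_c13)) = (LP (LK LD1_c0 LD2_c43 LD3_c13)) :=
  Lgr Lrot101 (Lpr_af (f433208 IH) (Lpe (f433206 IH) (Lpe (f433210 IH) (Lpn (LP (LK LD1_c0 LD2_c43 LD3_c13))))))
theorem f154148 : Led Lsl_bt (LP (LK LD1_c1 LD2_c33 LD3_c17)) = (LP (LK LD1_c0 LD2_c43 LD3_c13)) :=
  Lre_b IH (LK LD1_c1 LD2_c33 LD3_c17) (LK LD1_c0 LD2_c43 LD3_c13) Lrfl Lrfl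
theorem f433212 : Led Lsl_bt (LP (LK LD1_c0 LD2_c43 LD3_c13)) = (LP (LK LD1_c1 LD2_c33 LD3_c17)) :=
  Lre_b IH (LK LD1_c0 LD2_c43 LD3_c13) (LK LD1_c1 LD2_c33 LD3_c17) Lrfl Lrfl
theorem f433215 : Led Lsl_ff (LP (LK LD1_c1 LD2_c33 LD3_c17)) = (LP (LK LD1_c1 LD2_c33 LD3_c17)) :=
  Lgr Lrot25 (Lpr_bt (f154148 IH) (Lpr_ft (f433213 IH) (Lpr_bt (f433212 IH) (Lpn (LP (LK LD1_c1 LD2_c33 LD3_c17))))))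
theorem f154943 : Led Lsl_dt (LP (LK LD1_c1 LD2_c33 LD3_c17)) = (LP (LK LD1_c0 LD2_c43 LD3_c12)) :=
  Lre_d IH (LK LD1_c1 LD2_c33 LD3_c17) (LK LD1_c0 LD2_c43 LD3_c12) Lrfl Lrfl
theorem f154944 : Led Lsl_dt (LP (LK LD1_c0 LD2_c43 LD3_c12)) = (LP (LK LD1_c1 LD2_c33 LD3_c17)) :=
  Lre_d IH (LK LD1_c0 LD2_c43 LD3_c12) (LK LD1_c1 LD2_c33 LD3_c17) Lrfl Lrfl
theorem f433217 : Led Lsl_ft (LP (LK LD1_c0 LD2_c43 LD3_c12)) = (LP (LK LD1_c0 LD2_c43 LD3_c12)) :=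
  Lgr Lrot54 (Lpe (f154943 IH) (Lpr_ff (f433215 IH) (Lpe (f154944 IH) (Lpn (LP (LK LD1_c0 LD2_c43 LD3_c12))))))
theorem f154138 : Led Lsl_bt (LP (LK LD1_c0 LD2_c43 LD3_c12)) = (LP (LK LD1_c0 LD2_c19 LD3_c17)) :=
  Lre_b IH (LK LD1_c0 LD2_c43 LD3_c12) (LK LD1_c0 LD2_c19 LD3_c17) Lrfl Lrfl
theorem f143296 : Led Lsl_bt (LP (LK LD1_c0 LD2_c21 LD3_c55)) = (LP (LK LD1_c0 LD2_c48 LD3_c53)) :=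
  Lre_b IH (LK LD1_c0 LD2_c21 LD3_c55) (LK LD1_c0 LD2_c48 LD3_c53) Lrfl Lrfl
theorem f154139 : Led Lsl_ef (LP (LK LD1_c0 LD2_c43 LD3_c12)) = (LP (LK LD1_c0 LD2_c48 LD3_c53)) :=
  Lgr Lrot29 (Lpr_bt (f154138 IH) (Lpr_et (K7.f154136 IH) (Lpr_bt (f143296 IH) (Lpn (LP (LK LD1_c0 LD2_c48 LD3_c53))))))
theorem f154939 : Led Lsl_gt (LP (LK LD1_c0 LD2_c43 LD3_c12)) = (LP (LK LD1_c0 LD2_c43 LD3_c58)) :=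
  Lgr Lrot131 (Lpr_ef (f154139 IH) (Lpr_dt (K7.f106104 IH) (Lpr_gf (K7.f154928 IH) (Lpe (K5.f86166 IH) (Lpe (K4.f12639 IH) (Lpe (K4.f103590 IH) (Lpr_dt (K1.f58394 IH) (Lpe (K3.f18897 IH) (Lpr_df (K4.f103578 IH) (Lpr_et (K4.f65413 IH) (Lpn (LP (LK LD1_c0 LD2_c43 LD3_c58)))))))))))))
theorem f62883 : Led Lsl_gt (LP (LK LD1_c0 LD2_c44 LD3_c5)) = (LP (LK LD1_c0 LD2_c19 LD3_c41)) :=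
  Lre_g IH (LK LD1_c0 LD2_c44 LD3_c5) (LK LD1_c0 LD2_c19 LD3_c41) Lrfl Lrfl
theorem f65429 : Led Lsl_gf (LP (LK LD1_c0 LD2_c44 LD3_c5)) = (LP (LK LD1_c0 LD2_c43 LD3_c58)) :=
  Lgr Lrot47 (Lpr_gt (f62883 IH) (Lpe (K4.f65417 IH) (Lpr_ff (K4.f65414 IH) (Lpn (LP (LK LD1_c0 LD2_c43 LD3_c58))))))
theorem f433219 : Led Lsl_af (LP (LK LD1_c0 LD2_c44 LD3_c5)) = (LP (LK LD1_c0 LD2_c43 LD3_c12)) :=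
  Lgr Lrot31 (Lpr_gf (f65429 IH) (Lpe (f154939 IH) (Lpr_ft (f433217 IH) (Lpn (LP (LK LD1_c0 LD2_c43 LD3_c12))))))
theorem f89117 : Led Lsl_ft (LP (LK LD1_c1 LD2_c41 LD3_c6)) = (LP (LK LD1_c3 LD2_c28 LD3_c46)) :=
  Lre_f IH (LK LD1_c1 LD2_c41 LD3_c6) (LK LD1_c3 LD2_c28 LD3_c46) Lrfl Lrfl
theorem f90657 : Led Lsl_cf (LP (LK LD1_c6 LD2_c11 LD3_c46)) = (LP (LK LD1_c3 LD2_c28 LD3_c46)) :=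
  Lgr Lrot108 (Lpr_ft (K6.f90652 IH) (Lpe (K7.f88990 IH) (Lpr_ft (f89117 IH) (Lpn (LP (LK LD1_c3 LD2_c28 LD3_c46))))))
theorem f105667 : Led Lsl_gt (LP (LK LD1_c6 LD2_c33 LD3_c52)) = (LP (LK LD1_c6 LD2_c59 LD3_c31)) :=
  Lgr Lrot49 (Lpe (K5.f90632 IH) (Lpe (K6.f90651 IH) (Lpr_cf (f90657 IH) (Lpr_gt (K3.f105648 IH) (Lpr_dt (K1.f12433 IH) (Lpe (K3.f105642 IH) (Lpr_dt (K7.f84997 IH) (Lpe (K3.f84998 IH) (Lpe (K3.f88757 IH) (Lpn (LP (LK LD1_c6 LD2_c59 LD3_c31))))))))))))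
theorem f105697 : Led Lsl_ft (LP (LK LD1_c6 LD2_c33 LD3_c52)) = (LP (LK LD1_c3 LD2_c53 LD3_c52)) :=
  Lre_f IH (LK LD1_c6 LD2_c33 LD3_c52) (LK LD1_c3 LD2_c53 LD3_c52) Lrfl Lrfl
theorem f105698 : Led Lsl_at (LP (LK LD1_c3 LD2_c53 LD3_c52)) = (LP (LK LD1_c6 LD2_c11 LD3_c49)) :=
  Lre_a IH (LK LD1_c3 LD2_c53 LD3_c52) (LK LD1_c6 LD2_c11 LD3_c49) Lrfl Lrfl
theorem f105699 : Led Lsl_gf (LP (LK LD1_c6 LD2_c11 LD3_c49)) = (LP (LK LD1_c6 LD2_c59 LD3_c31)) :=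
  Lgr Lrot76 (Lpe (f105698 IH) (Lpe (f105697 IH) (Lpr_gt (f105667 IH) (Lpn (LP (LK LD1_c6 LD2_c59 LD3_c31))))))
theorem f88714 : Led Lsl_dt (LP (LK LD1_c3 LD2_c28 LD3_c58)) = (LP (LK LD1_c6 LD2_c59 LD3_c31)) :=
  Lre_d IH (LK LD1_c3 LD2_c28 LD3_c58) (LK LD1_c6 LD2_c59 LD3_c31) Lrfl Lrfl
theorem f105709 : Led Lsl_gt (LP (LK LD1_c6 LD2_c9 LD3_c61)) = (LP (LK LD1_c3 LD2_c28 LD3_c58)) :=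
  Lgr Lrot94 (Lpe (K7.f61744 IH) (Lpr_gt (K7.f64487 IH) (Lpr_dt (K5.f61990 IH) (Lpr_gt (K3.f64496 IH) (Lpr_dt (K3.f64511 IH) (Lpe (K3.f64512 IH) (Lpe (K6.f64513 IH) (Lpr_gf (f105699 IH) (Lpe (f88714 IH) (Lpn (LP (LK LD1_c3 LD2_c28 LD3_c58))))))))))))
theorem f105719 : Led Lsl_gf (LP (LK LD1_c3 LD2_c1 LD3_c35)) = (LP (LK LD1_c3 LD2_c2 LD3_c27)) :=
  Lgr Lrot147 (Lpr_ct (K7.f61744 IH) (Lpr_gt (f105709 IH) (Lpr_ct (K3.f84998 IH) (Lpe (K7.f84997 IH) (Lpe (K4.f84996 IH) (Lpr_gf (K2.f84987 IH) (Lpe (K3.f64502 IH) (Lpe (K3.f64494 IH) (Lpe (K4.f84999 IH) (Lpn (LP (LK LD1_c3 LD2_c2 LD3_c27))))))))))))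
theorem f62882 : Led Lsl_et (LP (LK LD1_c0 LD2_c8 LD3_c49)) = (LP (LK LD1_c0 LD2_c19 LD3_c41)) :=
  Lre_e IH (LK LD1_c0 LD2_c8 LD3_c49) (LK LD1_c0 LD2_c19 LD3_c41) Lrfl Lrfl
theorem f105728 : Led Lsl_et (LP (LK LD1_c1 LD2_c26 LD3_c48)) = (LP (LK LD1_c0 LD2_c44 LD3_c5)) :=
  Lgr Lrot185 (Lpr_dt (K7.f61743 IH) (Lpr_gf (f105719 IH) (Lpe (K5.f62881 IH) (Lpe (K3.f12162 IH) (Lpe (K3.f62880 IH) (Lpr_dt (K3.f62879 IH) (Lpr_gf (K1.f62814 IH) (Lpe (K1.f62813 IH) (Lpr_et (f62882 IH) (Lpe (f62883 IH) (Lpn (LP (LK LD1_c0 LD2_c44 LD3_c5)))))))))))))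
theorem f105730 : Led Lsl_ef (LP (LK LD1_c1 LD2_c26 LD3_c48)) = (LP (LK LD1_c0 LD2_c44 LD3_c5)) :=
  Lgr Lrot88 (Lpr_et (f105728 IH) (Lpn (LP (LK LD1_c0 LD2_c44 LD3_c5))))
theorem f433223 : Led Lsl_at (LP (LK LD1_c1 LD2_c26 LD3_c48)) = (LP (LK LD1_c0 LD2_c48 LD3_c53)) :=
  Lgr Lrot80 (Lpr_ef (f105730 IH) (Lpr_af (f433219 IH) (Lpr_ef (f154139 IH) (Lpn (LP (LK LD1_c0 LD2_c48 LD3_c53))))))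
theorem f155166 : Led Lsl_ff (LP (LK LD1_c1 LD2_c26 LD3_c48)) = (LP (LK LD1_c1 LD2_c30 LD3_c61)) :=
  Lgr Lrot3 (Lpr_ft (K7.f155162 IH) (Lpn (LP (LK LD1_c1 LD2_c30 LD3_c61))))
theorem f433235 : Led Lsl_gt (LP (LK LD1_c1 LD2_c30 LD3_c61)) = (LP (LK LD1_c1 LD2_c26 LD3_c42)) :=
  Lgr Lrot5 (Lpe (f155166 IH) (Lpr_at (f433223 IH) (Lpr_gf (K7.f154953 IH) (Lpn (LP (LK LD1_c1 LD2_c26 LD3_c42))))))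
theorem f84275 : Led Lsl_dt (LP (LK LD1_c0 LD2_c41 LD3_c61)) = (LP (LK LD1_c0 LD2_c18 LD3_c45)) :=
  Lre_d IH (LK LD1_c0 LD2_c41 LD3_c61) (LK LD1_c0 LD2_c18 LD3_c45) Lrfl Lrfl
theorem f154203 : Led Lsl_et (LP (LK LD1_c1 LD2_c31 LD3_c2)) = (LP (LK LD1_c0 LD2_c41 LD3_c61)) :=
  Lre_e IH (LK LD1_c1 LD2_c31 LD3_c2) (LK LD1_c0 LD2_c41 LD3_c61) Lrfl Lrfl
theorem f154192 : Led Lsl_et (LP (LK LD1_c0 LD2_c41 LD3_c61)) = (LP (LK LD1_c1 LD2_c31 LD3_c2)) :=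
  Lre_e IH (LK LD1_c0 LD2_c41 LD3_c61) (LK LD1_c1 LD2_c31 LD3_c2) Lrfl Lrfl
theorem f154204 : Led Lsl_df (LP (LK LD1_c1 LD2_c31 LD3_c2)) = (LP (LK LD1_c1 LD2_c31 LD3_c2)) :=
  Lgr Lrot70 (Lpr_et (f154203 IH) (Lpr_dt (f84275 IH) (Lpr_et (K7.f154196 IH) (Lpr_dt (K7.f154178 IH) (Lpr_et (f154192 IH) (Lpn (LP (LK LD1_c1 LD2_c31 LD3_c2))))))))
theorem f154212 : Led Lsl_ft (LP (LK LD1_c1 LD2_c31 LD3_c2)) = (LP (LK LD1_c3 LD2_c9 LD3_c48)) :=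
  Lre_f IH (LK LD1_c1 LD2_c31 LD3_c2) (LK LD1_c3 LD2_c9 LD3_c48) Lrfl Lrfl
theorem f154213 : Led Lsl_ft (LP (LK LD1_c3 LD2_c9 LD3_c48)) = (LP (LK LD1_c1 LD2_c31 LD3_c2)) :=
  Lre_f IH (LK LD1_c3 LD2_c9 LD3_c48) (LK LD1_c1 LD2_c31 LD3_c2) Lrfl Lrfl
theorem f154214 : Led Lsl_dt (LP (LK LD1_c3 LD2_c9 LD3_c48)) = (LP (LK LD1_c3 LD2_c9 LD3_c48)) :=
  Lgr Lrot60 (Lpe (f154212 IH) (Lpr_df (f154204 IH) (Lpe (f154213 IH) (Lpn (LP (LK LD1_c3 LD2_c9 LD3_c48))))))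
theorem f154251 : Led Lsl_bt (LP (LK LD1_c6 LD2_c24 LD3_c11)) = (LP (LK LD1_c3 LD2_c9 LD3_c48)) :=
  Lre_b IH (LK LD1_c6 LD2_c24 LD3_c11) (LK LD1_c3 LD2_c9 LD3_c48) Lrfl Lrfl
theorem f154252 : Led Lsl_bt (LP (LK LD1_c3 LD2_c9 LD3_c48)) = (LP (LK LD1_c6 LD2_c24 LD3_c11)) :=
  Lre_b IH (LK LD1_c3 LD2_c9 LD3_c48) (LK LD1_c6 LD2_c24 LD3_c11) Lrfl Lrfl
theorem f154253 : Led Lsl_df (LP (LK LD1_c6 LD2_c24 LD3_c11)) = (LP (LK LD1_c6 LD2_c24 LD3_c11)) :=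
  Lgr Lrot12 (Lpr_bt (f154251 IH) (Lpr_dt (f154214 IH) (Lpr_bt (f154252 IH) (Lpn (LP (LK LD1_c6 LD2_c24 LD3_c11))))))
theorem f154261 : Led Lsl_ct (LP (LK LD1_c6 LD2_c24 LD3_c11)) = (LP (LK LD1_c12 LD2_c21 LD3_c34)) :=
  Lre_c IH (LK LD1_c6 LD2_c24 LD3_c11) (LK LD1_c12 LD2_c21 LD3_c34) Lrfl Lrfl
theorem f154262 : Led Lsl_dt (LP (LK LD1_c12 LD2_c21 LD3_c34)) = (LP (LK LD1_c21 LD2_c28 LD3_c12)) :=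
  Lre_d IH (LK LD1_c12 LD2_c21 LD3_c34) (LK LD1_c21 LD2_c28 LD3_c12) Lrfl Lrfl
theorem f154263 : Led Lsl_ct (LP (LK LD1_c21 LD2_c28 LD3_c12)) = (LP (LK LD1_c30 LD2_c2 LD3_c20)) :=
  Lre_c IH (LK LD1_c21 LD2_c28 LD3_c12) (LK LD1_c30 LD2_c2 LD3_c20) Lrfl Lrfl
theorem f154264 : Led Lsl_ct (LP (LK LD1_c12 LD2_c21 LD3_c34)) = (LP (LK LD1_c6 LD2_c24 LD3_c11)) :=
  Lre_c IH (LK LD1_c12 LD2_c21 LD3_c34) (LK LD1_c6 LD2_c24 LD3_c11) Lrfl Lrfl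
theorem f154265 : Led Lsl_dt (LP (LK LD1_c21 LD2_c28 LD3_c12)) = (LP (LK LD1_c12 LD2_c21 LD3_c34)) :=
  Lre_d IH (LK LD1_c21 LD2_c28 LD3_c12) (LK LD1_c12 LD2_c21 LD3_c34) Lrfl Lrfl
theorem f154269 : Led Lsl_ft (LP (LK LD1_c21 LD2_c28 LD3_c12)) = (LP (LK LD1_c12 LD2_c21 LD3_c33)) :=
  Lre_f IH (LK LD1_c21 LD2_c28 LD3_c12) (LK LD1_c12 LD2_c21 LD3_c33) Lrfl Lrfl
theorem f154270 : Led Lsl_at (LP (LK LD1_c12 LD2_c21 LD3_c33)) = (LP (LK LD1_c21 LD2_c27 LD3_c47)) :=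
  Lre_a IH (LK LD1_c12 LD2_c21 LD3_c33) (LK LD1_c21 LD2_c27 LD3_c47) Lrfl Lrfl
theorem f154271 : Led Lsl_ct (LP (LK LD1_c30 LD2_c1 LD3_c54)) = (LP (LK LD1_c21 LD2_c27 LD3_c47)) :=
  Lre_c IH (LK LD1_c30 LD2_c1 LD3_c54) (LK LD1_c21 LD2_c27 LD3_c47) Lrfl Lrfl
theorem f154272 : Led Lsl_dt (LP (LK LD1_c30 LD2_c2 LD3_c20)) = (LP (LK LD1_c30 LD2_c1 LD3_c54)) :=
  Lgr Lrot120 (Lpe (f154263 IH) (Lpe (f154262 IH) (Lpe (f154261 IH) (Lpr_df (f154253 IH) (Lpe (f154264 IH) (Lpe (f154265 IH) (Lpr_ft (f154269 IH) (Lpr_at (f154270 IH) (Lpe (f154271 IH) (Lpn (LP (LK LD1_c30 LD2_c1 LD3_c54))))))))))))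
theorem f154289 : Led Lsl_ft (LP (LK LD1_c30 LD2_c2 LD3_c20)) = (LP (LK LD1_c21 LD2_c28 LD3_c11)) :=
  Lre_f IH (LK LD1_c30 LD2_c2 LD3_c20) (LK LD1_c21 LD2_c28 LD3_c11) Lrfl Lrfl
theorem f154290 : Led Lsl_at (LP (LK LD1_c21 LD2_c28 LD3_c11)) = (LP (LK LD1_c30 LD2_c1 LD3_c54)) :=
  Lre_a IH (LK LD1_c21 LD2_c28 LD3_c11) (LK LD1_c30 LD2_c1 LD3_c54) Lrfl Lrfl
theorem f154291 : Led Lsl_ct (LP (LK LD1_c21 LD2_c27 LD3_c47)) = (LP (LK LD1_c30 LD2_c1 LD3_c54)) :=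
  Lre_c IH (LK LD1_c21 LD2_c27 LD3_c47) (LK LD1_c30 LD2_c1 LD3_c54) Lrfl Lrfl
theorem f154292 : Led Lsl_dt (LP (LK LD1_c12 LD2_c21 LD3_c20)) = (LP (LK LD1_c21 LD2_c27 LD3_c47)) :=
  Lre_d IH (LK LD1_c12 LD2_c21 LD3_c20) (LK LD1_c21 LD2_c27 LD3_c47) Lrfl Lrfl
theorem f154293 : Led Lsl_ct (LP (LK LD1_c6 LD2_c24 LD3_c4)) = (LP (LK LD1_c12 LD2_c21 LD3_c20)) :=
  Lre_c IH (LK LD1_c6 LD2_c24 LD3_c4) (LK LD1_c12 LD2_c21 LD3_c20) Lrfl Lrfl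
theorem f154274 : Led Lsl_dt (LP (LK LD1_c21 LD2_c27 LD3_c47)) = (LP (LK LD1_c12 LD2_c21 LD3_c20)) :=
  Lre_d IH (LK LD1_c21 LD2_c27 LD3_c47) (LK LD1_c12 LD2_c21 LD3_c20) Lrfl Lrfl
theorem f154275 : Led Lsl_ct (LP (LK LD1_c12 LD2_c21 LD3_c20)) = (LP (LK LD1_c6 LD2_c24 LD3_c4)) :=
  Lre_c IH (LK LD1_c12 LD2_c21 LD3_c20) (LK LD1_c6 LD2_c24 LD3_c4) Lrfl Lrfl
theorem f154294 : Led Lsl_df (LP (LK LD1_c6 LD2_c24 LD3_c4)) = (LP (LK LD1_c6 LD2_c24 LD3_c4)) :=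
  Lgr Lrot13 (Lpr_ct (f154293 IH) (Lpr_dt (f154292 IH) (Lpr_ct (f154291 IH) (Lpe (f154290 IH) (Lpe (f154289 IH) (Lpr_dt (f154272 IH) (Lpr_ct (f154271 IH) (Lpr_dt (f154274 IH) (Lpr_ct (f154275 IH) (Lpn (LP (LK LD1_c6 LD2_c24 LD3_c4))))))))))))
theorem f154299 : Led Lsl_et (LP (LK LD1_c6 LD2_c24 LD3_c4)) = (LP (LK LD1_c3 LD2_c9 LD3_c41)) :=
  Lre_e IH (LK LD1_c6 LD2_c24 LD3_c4) (LK LD1_c3 LD2_c9 LD3_c41) Lrfl Lrfl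
theorem f154300 : Led Lsl_dt (LP (LK LD1_c3 LD2_c9 LD3_c41)) = (LP (LK LD1_c1 LD2_c30 LD3_c61)) :=
  Lre_d IH (LK LD1_c3 LD2_c9 LD3_c41) (LK LD1_c1 LD2_c30 LD3_c61) Lrfl Lrfl
theorem f154301 : Led Lsl_et (LP (LK LD1_c3 LD2_c9 LD3_c41)) = (LP (LK LD1_c6 LD2_c24 LD3_c4)) :=
  Lre_e IH (LK LD1_c3 LD2_c9 LD3_c41) (LK LD1_c6 LD2_c24 LD3_c4) Lrfl Lrfl
theorem f154302 : Led Lsl_dt (LP (LK LD1_c1 LD2_c30 LD3_c61)) = (LP (LK LD1_c3 LD2_c9 LD3_c41)) :=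
  Lre_d IH (LK LD1_c1 LD2_c30 LD3_c61) (LK LD1_c3 LD2_c9 LD3_c41) Lrfl Lrfl
theorem f154303 : Led Lsl_et (LP (LK LD1_c1 LD2_c30 LD3_c61)) = (LP (LK LD1_c1 LD2_c30 LD3_c61)) :=
  Lgr Lrot71 (Lpe (f154300 IH) (Lpe (f154299 IH) (Lpr_df (f154294 IH) (Lpe (f154301 IH) (Lpe (f154302 IH) (Lpn (LP (LK LD1_c1 LD2_c30 LD3_c61))))))))
theorem f433245 : Led Lsl_gf (LP (LK LD1_c3 LD2_c9 LD3_c41)) = (LP (LK LD1_c1 LD2_c35 LD3_c52)) :=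
  Lgr Lrot145 (Lpe (f154302 IH) (Lpr_et (f154303 IH) (Lpr_gt (f433235 IH) (Lpr_dt (K4.f110033 IH) (Lpr_gt (K4.f113995 IH) (Lpe (K3.f64511 IH) (Lpr_et (K4.f113994 IH) (Lpr_gt (K4.f113990 IH) (Lpe (K4.f113965 IH) (Lpr_dt (K4.f7446 IH) (Lpn (LP (LK LD1_c1 LD2_c35 LD3_c52)))))))))))))
theorem f84618 : Led Lsl_ct (LP (LK LD1_c3 LD2_c53 LD3_c38)) = (LP (LK LD1_c1 LD2_c53 LD3_c26)) :=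
  Lre_c IH (LK LD1_c3 LD2_c53 LD3_c38) (LK LD1_c1 LD2_c53 LD3_c26) Lrfl Lrfl
theorem f433250 : Led Lsl_gt (LP (LK LD1_c6 LD2_c24 LD3_c3)) = (LP (LK LD1_c3 LD2_c53 LD3_c38)) :=
  Lgr Lrot150 (Lpe (K7.f155196 IH) (Lpr_gf (f433245 IH) (Lpe (K4.f7446 IH) (Lpr_gt (K3.f84302 IH) (Lpr_ct (K3.f58172 IH) (Lpr_gt (K3.f84301 IH) (Lpr_ct (K2.f84299 IH) (Lpe (K7.f84300 IH) (Lpe (f84618 IH) (Lpn (LP (LK LD1_c3 LD2_c53 LD3_c38))))))))))))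
theorem f433262 : Led Lsl_at (LP (LK LD1_c6 LD2_c9 LD3_c61)) = (LP (LK LD1_c3 LD2_c35 LD3_c19)) :=
  Lgr Lrot26 (Lpr_ff (K7.f155190 IH) (Lpr_gt (f433250 IH) (Lpe (K7.f154906 IH) (Lpn (LP (LK LD1_c3 LD2_c35 LD3_c19))))))
theorem f155192 : Led Lsl_at (LP (LK LD1_c3 LD2_c9 LD3_c42)) = (LP (LK LD1_c6 LD2_c24 LD3_c3)) :=
  Lre_a IH (LK LD1_c3 LD2_c9 LD3_c42) (LK LD1_c6 LD2_c24 LD3_c3) Lrfl Lrfl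
theorem f433285 : Led Lsl_ff (LP (LK LD1_c3 LD2_c9 LD3_c42)) = (LP (LK LD1_c3 LD2_c35 LD3_c19)) :=
  Lgr Lrot30 (Lpr_at (f155192 IH) (Lpe (K7.f155190 IH) (Lpr_at (f433262 IH) (Lpn (LP (LK LD1_c3 LD2_c35 LD3_c19))))))
theorem f433294 : Led Lsl_ft (LP (LK LD1_c3 LD2_c9 LD3_c42)) = (LP (LK LD1_c3 LD2_c35 LD3_c19)) :=
  Lgr Lrot48 (Lpr_ff (f433285 IH) (Lpn (LP (LK LD1_c3 LD2_c35 LD3_c19))))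
theorem f155253 : Led Lsl_bt (LP (LK LD1_c6 LD2_c24 LD3_c6)) = (LP (LK LD1_c3 LD2_c9 LD3_c42)) :=
  Lre_b IH (LK LD1_c6 LD2_c24 LD3_c6) (LK LD1_c3 LD2_c9 LD3_c42) Lrfl Lrfl
theorem f154936 : Led Lsl_bt (LP (LK LD1_c3 LD2_c35 LD3_c19)) = (LP (LK LD1_c7 LD2_c11 LD3_c38)) :=
  Lre_b IH (LK LD1_c3 LD2_c35 LD3_c19) (LK LD1_c7 LD2_c11 LD3_c38) Lrfl Lrfl
theorem f433421 : Led Lsl_ff (LP (LK LD1_c6 LD2_c24 LD3_c6)) = (LP (LK LD1_c7 LD2_c11 LD3_c38)) :=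
  Lgr Lrot25 (Lpr_bt (f155253 IH) (Lpr_ft (f433294 IH) (Lpr_bt (f154936 IH) (Lpn (LP (LK LD1_c7 LD2_c11 LD3_c38))))))
theorem f155254 : Led Lsl_ct (LP (LK LD1_c6 LD2_c24 LD3_c6)) = (LP (LK LD1_c3 LD2_c9 LD3_c44)) :=
  Lre_c IH (LK LD1_c6 LD2_c24 LD3_c6) (LK LD1_c3 LD2_c9 LD3_c44) Lrfl Lrfl
theorem f154930 : Led Lsl_ct (LP (LK LD1_c3 LD2_c35 LD3_c21)) = (LP (LK LD1_c7 LD2_c11 LD3_c38)) :=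
  Lre_c IH (LK LD1_c3 LD2_c35 LD3_c21) (LK LD1_c7 LD2_c11 LD3_c38) Lrfl Lrfl
theorem f433458 : Led Lsl_ft (LP (LK LD1_c3 LD2_c9 LD3_c44)) = (LP (LK LD1_c3 LD2_c35 LD3_c21)) :=
  Lgr Lrot4 (Lpe (f155254 IH) (Lpr_ff (f433421 IH) (Lpe (f154930 IH) (Lpn (LP (LK LD1_c3 LD2_c35 LD3_c21))))))
theorem f433477 : Led Lsl_ff (LP (LK LD1_c3 LD2_c9 LD3_c44)) = (LP (LK LD1_c3 LD2_c35 LD3_c21)) :=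
  Lgr Lrot3 (Lpr_ft (f433458 IH) (Lpn (LP (LK LD1_c3 LD2_c35 LD3_c21))))
theorem f154395 : Led Lsl_bt (LP (LK LD1_c3 LD2_c9 LD3_c44)) = (LP (LK LD1_c1 LD2_c31 LD3_c1)) :=
  Lre_b IH (LK LD1_c3 LD2_c9 LD3_c44) (LK LD1_c1 LD2_c31 LD3_c1) Lrfl Lrfl
theorem f154634 : Led Lsl_bt (LP (LK LD1_c1 LD2_c44 LD3_c31)) = (LP (LK LD1_c3 LD2_c35 LD3_c21)) :=
  Lre_b IH (LK LD1_c1 LD2_c44 LD3_c31) (LK LD1_c3 LD2_c35 LD3_c21) Lrfl Lrfl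
theorem f433488 : Led Lsl_ft (LP (LK LD1_c1 LD2_c31 LD3_c1)) = (LP (LK LD1_c1 LD2_c44 LD3_c31)) :=
  Lgr Lrot75 (Lpe (f154395 IH) (Lpr_ff (f433477 IH) (Lpe (f154634 IH) (Lpn (LP (LK LD1_c1 LD2_c44 LD3_c31))))))
theorem f84013 : Led Lsl_ft (LP (LK LD1_c0 LD2_c41 LD3_c55)) = (LP (LK LD1_c1 LD2_c30 LD3_c52)) :=
  Lre_f IH (LK LD1_c0 LD2_c41 LD3_c55) (LK LD1_c1 LD2_c30 LD3_c52) Lrfl Lrfl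
theorem f152757 : Led Lsl_ff (LP (LK LD1_c1 LD2_c30 LD3_c51)) = (LP (LK LD1_c0 LD2_c42 LD3_c43)) :=
  Lgr Lrot19 (Lpr_dt (K7.f67154 IH) (Lpr_ft (f84013 IH) (Lpr_dt (K7.f152743 IH) (Lpn (LP (LK LD1_c0 LD2_c42 LD3_c43))))))
theorem f154386 : Led Lsl_gt (LP (LK LD1_c1 LD2_c31 LD3_c1)) = (LP (LK LD1_c2 LD2_c18 LD3_c35)) :=
  Lgr Lrot46 (Lpr_gf (K7.f154383 IH) (Lpe (f152757 IH) (Lpr_at (K7.f153483 IH) (Lpn (LP (LK LD1_c2 LD2_c18 LD3_c35))))))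
theorem f433500 : Led Lsl_af (LP (LK LD1_c1 LD2_c30 LD3_c58)) = (LP (LK LD1_c1 LD2_c44 LD3_c31)) :=
  Lgr Lrot31 (Lpe (K7.f154640 IH) (Lpe (f154386 IH) (Lpr_ft (f433488 IH) (Lpn (LP (LK LD1_c1 LD2_c44 LD3_c31))))))
theorem f25621 : Led Lsl_gt (LP (LK LD1_c0 LD2_c41 LD3_c14)) = (LP (LK LD1_c0 LD2_c45 LD3_c6)) :=
  Lgr Lrot5 (Lpr_ft (K0.f25602 IH) (Lpr_at (K0.f25608 IH) (Lpe (K2.f7442 IH) (Lpn (LP (LK LD1_c0 LD2_c45 LD3_c6))))))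
theorem f154174 : Led Lsl_df (LP (LK LD1_c0 LD2_c41 LD3_c57)) = (LP (LK LD1_c0 LD2_c45 LD3_c6)) :=
  Lgr Lrot84 (Lpr_cf (K7.f154163 IH) (Lpr_df (K6.f20912 IH) (Lpe (K6.f146215 IH) (Lpe (K0.f7326 IH) (Lpr_gf (K0.f9689 IH) (Lpe (K2.f84282 IH) (Lpr_gt (K5.f84329 IH) (Lpr_dt (K0.f25441 IH) (Lpr_gt (f25621 IH) (Lpn (LP (LK LD1_c0 LD2_c45 LD3_c6))))))))))))
theorem f154182 : Led Lsl_dt (LP (LK LD1_c2 LD2_c18 LD3_c40)) = (LP (LK LD1_c1 LD2_c31 LD3_c1)) :=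
  Lgr Lrot105 (Lpe (K7.f153440 IH) (Lpr_df (K7.f153453 IH) (Lpr_gf (K7.f152656 IH) (Lpe (K0.f25625 IH) (Lpr_gt (f25621 IH) (Lpe (f154174 IH) (Lpr_gt (K7.f154176 IH) (Lpr_dt (K7.f154178 IH) (Lpe (K7.f154181 IH) (Lpn (LP (LK LD1_c1 LD2_c31 LD3_c1))))))))))))
theorem f433497 : Led Lsl_ff (LP (LK LD1_c2 LD2_c18 LD3_c40)) = (LP (LK LD1_c1 LD2_c30 LD3_c58)) :=
  Lgr Lrot19 (Lpr_dt (f154182 IH) (Lpr_ft (f433488 IH) (Lpr_dt (K7.f154637 IH) (Lpn (LP (LK LD1_c1 LD2_c30 LD3_c58))))))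
theorem f433511 : Led Lsl_at (LP (LK LD1_c2 LD2_c18 LD3_c40)) = (LP (LK LD1_c1 LD2_c31 LD3_c1)) :=
  Lgr Lrot66 (Lpr_ff (f433497 IH) (Lpr_af (f433500 IH) (Lpe (f433488 IH) (Lpn (LP (LK LD1_c1 LD2_c31 LD3_c1))))))
theorem f153460 : Led Lsl_et (LP (LK LD1_c4 LD2_c42 LD3_c31)) = (LP (LK LD1_c2 LD2_c18 LD3_c40)) :=
  Lre_e IH (LK LD1_c4 LD2_c42 LD3_c31) (LK LD1_c2 LD2_c18 LD3_c40) Lrfl Lrfl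
theorem f154410 : Led Lsl_et (LP (LK LD1_c1 LD2_c31 LD3_c1)) = (LP (LK LD1_c3 LD2_c9 LD3_c45)) :=
  Lre_e IH (LK LD1_c1 LD2_c31 LD3_c1) (LK LD1_c3 LD2_c9 LD3_c45) Lrfl Lrfl
theorem f433520 : Led Lsl_af (LP (LK LD1_c4 LD2_c42 LD3_c31)) = (LP (LK LD1_c3 LD2_c9 LD3_c45)) :=
  Lgr Lrot50 (Lpr_et (f153460 IH) (Lpr_at (f433511 IH) (Lpr_et (f154410 IH) (Lpn (LP (LK LD1_c3 LD2_c9 LD3_c45))))))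
theorem f433531 : Led Lsl_ft (LP (LK LD1_c4 LD2_c42 LD3_c31)) = (LP (LK LD1_c9 LD2_c19 LD3_c22)) :=
  Lre_f IH (LK LD1_c4 LD2_c42 LD3_c31) (LK LD1_c9 LD2_c19 LD3_c22) Lrfl Lrfl
theorem f433499 : Led Lsl_ft (LP (LK LD1_c6 LD2_c24 LD3_c16)) = (LP (LK LD1_c3 LD2_c9 LD3_c45)) :=
  Lre_f IH (LK LD1_c6 LD2_c24 LD3_c16) (LK LD1_c3 LD2_c9 LD3_c45) Lrfl Lrfl
theorem f433532 : Led Lsl_at (LP (LK LD1_c9 LD2_c19 LD3_c22)) = (LP (LK LD1_c6 LD2_c24 LD3_c16)) :=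
  Lgr Lrot66 (Lpe (f433531 IH) (Lpr_af (f433520 IH) (Lpe (f433499 IH) (Lpn (LP (LK LD1_c6 LD2_c24 LD3_c16))))))
theorem f86103 : Led Lsl_ct (LP (LK LD1_c4 LD2_c42 LD3_c34)) = (LP (LK LD1_c9 LD2_c19 LD3_c22)) :=
  Lre_c IH (LK LD1_c4 LD2_c42 LD3_c34) (LK LD1_c9 LD2_c19 LD3_c22) Lrfl Lrfl
theorem f154255 : Led Lsl_ct (LP (LK LD1_c6 LD2_c24 LD3_c16)) = (LP (LK LD1_c3 LD2_c9 LD3_c48)) :=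
  Lre_c IH (LK LD1_c6 LD2_c24 LD3_c16) (LK LD1_c3 LD2_c9 LD3_c48) Lrfl Lrfl
theorem f433537 : Led Lsl_af (LP (LK LD1_c4 LD2_c42 LD3_c34)) = (LP (LK LD1_c3 LD2_c9 LD3_c48)) :=
  Lgr Lrot68 (Lpr_ct (f86103 IH) (Lpr_at (f433532 IH) (Lpr_ct (f154255 IH) (Lpn (LP (LK LD1_c3 LD2_c9 LD3_c48))))))
theorem f433539 : Led Lsl_at (LP (LK LD1_c4 LD2_c42 LD3_c34)) = (LP (LK LD1_c3 LD2_c9 LD3_c48)) :=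
  Lgr Lrot100 (Lpr_af (f433537 IH) (Lpn (LP (LK LD1_c3 LD2_c9 LD3_c48))))
theorem f86092 : Led Lsl_ft (LP (LK LD1_c2 LD2_c18 LD3_c41)) = (LP (LK LD1_c4 LD2_c42 LD3_c34)) :=
  Lre_f IH (LK LD1_c2 LD2_c18 LD3_c41) (LK LD1_c4 LD2_c42 LD3_c34) Lrfl Lrfl
theorem f433545 : Led Lsl_af (LP (LK LD1_c2 LD2_c18 LD3_c41)) = (LP (LK LD1_c1 LD2_c31 LD3_c2)) :=
  Lgr Lrot45 (Lpr_ft (f86092 IH) (Lpr_at (f433539 IH) (Lpr_ft (f154213 IH) (Lpn (LP (LK LD1_c1 LD2_c31 LD3_c2))))))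
theorem f86082 : Led Lsl_et (LP (LK LD1_c2 LD2_c18 LD3_c41)) = (LP (LK LD1_c1 LD2_c6 LD3_c21)) :=
  Lre_e IH (LK LD1_c2 LD2_c18 LD3_c41) (LK LD1_c1 LD2_c6 LD3_c21) Lrfl Lrfl
theorem f433551 : Led Lsl_at (LP (LK LD1_c1 LD2_c6 LD3_c21)) = (LP (LK LD1_c0 LD2_c41 LD3_c61)) :=
  Lgr Lrot80 (Lpe (f86082 IH) (Lpr_af (f433545 IH) (Lpe (f154192 IH) (Lpn (LP (LK LD1_c0 LD2_c41 LD3_c61))))))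
theorem f154115 : Led Lsl_gt (LP (LK LD1_c0 LD2_c40 LD3_c6)) = (LP (LK LD1_c0 LD2_c41 LD3_c61)) :=
  Lgr Lrot49 (Lpe (K5.f24956 IH) (Lpe (K3.f57544 IH) (Lpe (K0.f7452 IH) (Lpr_gt (K3.f24978 IH) (Lpr_dt (K1.f25773 IH) (Lpr_gt (K7.f154109 IH) (Lpe (K7.f154113 IH) (Lpe (K7.f82526 IH) (Lpe (f84275 IH) (Lpn (LP (LK LD1_c0 LD2_c41 LD3_c61))))))))))))
theorem f433560 : Led Lsl_ff (LP (LK LD1_c1 LD2_c6 LD3_c21)) = (LP (LK LD1_c0 LD2_c41 LD3_c59)) :=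
  Lgr Lrot52 (Lpr_at (f433551 IH) (Lpe (f154115 IH) (Lpr_gf (K7.f152309 IH) (Lpn (LP (LK LD1_c0 LD2_c41 LD3_c59))))))
theorem f433568 : Led Lsl_ft (LP (LK LD1_c1 LD2_c6 LD3_c21)) = (LP (LK LD1_c0 LD2_c41 LD3_c59)) :=
  Lgr Lrot48 (Lpr_ff (f433560 IH) (Lpn (LP (LK LD1_c0 LD2_c41 LD3_c59))))
theorem f25798 : Led Lsl_dt (LP (LK LD1_c0 LD2_c41 LD3_c59)) = (LP (LK LD1_c0 LD2_c18 LD3_c44)) :=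
  Lre_d IH (LK LD1_c0 LD2_c41 LD3_c59) (LK LD1_c0 LD2_c18 LD3_c44) Lrfl Lrfl
theorem f433572 : Led Lsl_ff (LP (LK LD1_c0 LD2_c30 LD3_c20)) = (LP (LK LD1_c0 LD2_c18 LD3_c44)) :=
  Lgr Lrot19 (Lpr_dt (K7.f25801 IH) (Lpr_ft (f433568 IH) (Lpr_dt (f25798 IH) (Lpn (LP (LK LD1_c0 LD2_c18 LD3_c44))))))
theorem f433578 : Led Lsl_at (LP (LK LD1_c0 LD2_c30 LD3_c20)) = (LP (LK LD1_c0 LD2_c18 LD3_c45)) :=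
  Lgr Lrot26 (Lpr_ff (f433572 IH) (Lpr_gt (K7.f82527 IH) (Lpr_gt (K7.f154176 IH) (Lpn (LP (LK LD1_c0 LD2_c18 LD3_c45))))))
theorem f433582 : Led Lsl_af (LP (LK LD1_c0 LD2_c13 LD3_c28)) = (LP (LK LD1_c0 LD2_c8 LD3_c25)) :=
  Lgr Lrot68 (Lpr_ct (K7.f25800 IH) (Lpr_at (f433578 IH) (Lpr_ct (K7.f82526 IH) (Lpn (LP (LK LD1_c0 LD2_c8 LD3_c25))))))
theorem f433584 : Led Lsl_at (LP (LK LD1_c0 LD2_c13 LD3_c28)) = (LP (LK LD1_c0 LD2_c8 LD3_c25)) :=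
  Lgr Lrot100 (Lpr_af (f433582 IH) (Lpn (LP (LK LD1_c0 LD2_c8 LD3_c25))))
theorem f154185 : Led Lsl_df (LP (LK LD1_c0 LD2_c9 LD3_c53)) = (LP (LK LD1_c0 LD2_c8 LD3_c25)) :=
  Lgr Lrot162 (Lpe (K7.f10355 IH) (Lpe (K7.f154103 IH) (Lpe (K6.f20924 IH) (Lpe (K1.f9691 IH) (Lpe (K1.f20930 IH) (Lpe (K7.f152176 IH) (Lpe (K7.f154163 IH) (Lpr_gt (K7.f154176 IH) (Lpr_ct (K7.f82526 IH) (Lpn (LP (LK LD1_c0 LD2_c8 LD3_c25))))))))))))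
theorem f433586 : Led Lsl_af (LP (LK LD1_c0 LD2_c8 LD3_c24)) = (LP (LK LD1_c0 LD2_c9 LD3_c53)) :=
  Lgr Lrot117 (Lpr_dt (K1.f25795 IH) (Lpr_at (f433584 IH) (Lpe (f154185 IH) (Lpn (LP (LK LD1_c0 LD2_c9 LD3_c53))))))
theorem f433590 : Led Lsl_at (LP (LK LD1_c0 LD2_c18 LD3_c44)) = (LP (LK LD1_c0 LD2_c21 LD3_c55)) :=
  Lgr Lrot107 (Lpe (K7.f25894 IH) (Lpr_af (f433586 IH) (Lpe (K7.f10355 IH) (Lpn (LP (LK LD1_c0 LD2_c21 LD3_c55))))))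
theorem f433596 : Led Lsl_af (LP (LK LD1_c0 LD2_c41 LD3_c59)) = (LP (LK LD1_c0 LD2_c48 LD3_c54)) :=
  Lgr Lrot117 (Lpr_dt (f25798 IH) (Lpr_at (f433590 IH) (Lpr_dt (K7.f154122 IH) (Lpn (LP (LK LD1_c0 LD2_c48 LD3_c54))))))
theorem f433617 : Led Lsl_at (LP (LK LD1_c1 LD2_c30 LD3_c57)) = (LP (LK LD1_c3 LD2_c9 LD3_c33)) :=
  Lre_a IH (LK LD1_c1 LD2_c30 LD3_c57) (LK LD1_c3 LD2_c9 LD3_c33) Lrfl Lrfl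
theorem f155112 : Led Lsl_ct (LP (LK LD1_c0 LD2_c48 LD3_c56)) = (LP (LK LD1_c1 LD2_c30 LD3_c61)) :=
  Lgr Lrot111 (Lpe (f10023 IH) (Lpr_cf (K7.f155109 IH) (Lpe (K7.f154312 IH) (Lpn (LP (LK LD1_c1 LD2_c30 LD3_c61))))))
theorem f10030 : Led Lsl_dt (LP (LK LD1_c1 LD2_c44 LD3_c35)) = (LP (LK LD1_c0 LD2_c48 LD3_c56)) :=
  Lre_d IH (LK LD1_c1 LD2_c44 LD3_c35) (LK LD1_c0 LD2_c48 LD3_c56) Lrfl Lrfl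
theorem f433145 : Led Lsl_ct (LP (LK LD1_c3 LD2_c35 LD3_c27)) = (LP (LK LD1_c1 LD2_c44 LD3_c35)) :=
  Lre_c IH (LK LD1_c3 LD2_c35 LD3_c27) (LK LD1_c1 LD2_c44 LD3_c35) Lrfl Lrfl
theorem f433157 : Led Lsl_dt (LP (LK LD1_c7 LD2_c11 LD3_c48)) = (LP (LK LD1_c3 LD2_c35 LD3_c27)) :=
  Lre_d IH (LK LD1_c7 LD2_c11 LD3_c48) (LK LD1_c3 LD2_c35 LD3_c27) Lrfl Lrfl
theorem f154915 : Led Lsl_dt (LP (LK LD1_c3 LD2_c35 LD3_c19)) = (LP (LK LD1_c7 LD2_c11 LD3_c39)) :=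
  Lre_d IH (LK LD1_c3 LD2_c35 LD3_c19) (LK LD1_c7 LD2_c11 LD3_c39) Lrfl Lrfl
theorem f433296 : Led Lsl_cf (LP (LK LD1_c7 LD2_c11 LD3_c48)) = (LP (LK LD1_c7 LD2_c11 LD3_c39)) :=
  Lgr Lrot118 (Lpr_dt (f433157 IH) (Lpr_ct (f433145 IH) (Lpr_dt (f10030 IH) (Lpr_ct (f155112 IH) (Lpr_dt (f154302 IH) (Lpr_ct (K7.f155196 IH) (Lpe (f155192 IH) (Lpr_ff (f433285 IH) (Lpr_dt (f154915 IH) (Lpn (LP (LK LD1_c7 LD2_c11 LD3_c39))))))))))))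
theorem f433303 : Led Lsl_ct (LP (LK LD1_c7 LD2_c11 LD3_c48)) = (LP (LK LD1_c7 LD2_c11 LD3_c39)) :=
  Lgr Lrot59 (Lpr_cf (f433296 IH) (Lpn (LP (LK LD1_c7 LD2_c11 LD3_c39))))
theorem f433143 : Led Lsl_dt (LP (LK LD1_c3 LD2_c35 LD3_c27)) = (LP (LK LD1_c7 LD2_c11 LD3_c48)) :=
  Lre_d IH (LK LD1_c3 LD2_c35 LD3_c27) (LK LD1_c7 LD2_c11 LD3_c48) Lrfl Lrfl
theorem f433142 : Led Lsl_ct (LP (LK LD1_c1 LD2_c44 LD3_c35)) = (LP (LK LD1_c3 LD2_c35 LD3_c27)) :=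
  Lre_c IH (LK LD1_c1 LD2_c44 LD3_c35) (LK LD1_c3 LD2_c35 LD3_c27) Lrfl Lrfl
theorem f10031 : Led Lsl_dt (LP (LK LD1_c0 LD2_c48 LD3_c56)) = (LP (LK LD1_c1 LD2_c44 LD3_c35)) :=
  Lre_d IH (LK LD1_c0 LD2_c48 LD3_c56) (LK LD1_c1 LD2_c44 LD3_c35) Lrfl Lrfl
theorem f433140 : Led Lsl_ct (LP (LK LD1_c1 LD2_c30 LD3_c61)) = (LP (LK LD1_c0 LD2_c48 LD3_c56)) :=
  Lgr Lrot40 (Lpe (K7.f155162 IH) (Lpe (f432800 IH) (Lpr_ff (f433136 IH) (Lpn (LP (LK LD1_c0 LD2_c48 LD3_c56))))))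
theorem f64528 : Led Lsl_dt (LP (LK LD1_c3 LD2_c1 LD3_c35)) = (LP (LK LD1_c1 LD2_c26 LD3_c48)) :=
  Lre_d IH (LK LD1_c3 LD2_c1 LD3_c35) (LK LD1_c1 LD2_c26 LD3_c48) Lrfl Lrfl
theorem f155164 : Led Lsl_ff (LP (LK LD1_c3 LD2_c1 LD3_c35)) = (LP (LK LD1_c3 LD2_c9 LD3_c41)) :=
  Lgr Lrot19 (Lpr_dt (f64528 IH) (Lpr_ft (K7.f155162 IH) (Lpr_dt (f154302 IH) (Lpn (LP (LK LD1_c3 LD2_c9 LD3_c41))))))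
theorem f154922 : Led Lsl_dt (LP (LK LD1_c7 LD2_c11 LD3_c39)) = (LP (LK LD1_c3 LD2_c35 LD3_c19)) :=
  Lre_d IH (LK LD1_c7 LD2_c11 LD3_c39) (LK LD1_c3 LD2_c35 LD3_c19) Lrfl Lrfl
theorem f106103 : Led Lsl_ct (LP (LK LD1_c3 LD2_c35 LD3_c19)) = (LP (LK LD1_c1 LD2_c44 LD3_c30)) :=
  Lre_c IH (LK LD1_c3 LD2_c35 LD3_c19) (LK LD1_c1 LD2_c44 LD3_c30) Lrfl Lrfl
theorem f433418 : Led Lsl_at (LP (LK LD1_c3 LD2_c1 LD3_c35)) = (LP (LK LD1_c1 LD2_c44 LD3_c30)) :=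
  Lgr Lrot33 (Lpr_ff (f155164 IH) (Lpr_dt (f154300 IH) (Lpr_ct (f433140 IH) (Lpr_dt (f10031 IH) (Lpr_ct (f433142 IH) (Lpr_dt (f433143 IH) (Lpr_ct (f433303 IH) (Lpr_dt (f154922 IH) (Lpr_ct (f106103 IH) (Lpn (LP (LK LD1_c1 LD2_c44 LD3_c30))))))))))))
theorem f433618 : Led Lsl_bt (LP (LK LD1_c3 LD2_c9 LD3_c33)) = (LP (LK LD1_c3 LD2_c1 LD3_c35)) :=
  Lgr Lrot62 (Lpe (f433617 IH) (Lpe (K7.f152799 IH) (Lpr_af (f433596 IH) (Lpe (K7.f154904 IH) (Lpe (f433418 IH) (Lpn (LP (LK LD1_c3 LD2_c1 LD3_c35))))))))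
theorem f433555 : Led Lsl_at (LP (LK LD1_c4 LD2_c42 LD3_c27)) = (LP (LK LD1_c2 LD2_c18 LD3_c39)) :=
  Lre_a IH (LK LD1_c4 LD2_c42 LD3_c27) (LK LD1_c2 LD2_c18 LD3_c39) Lrfl Lrfl
theorem f433247 : Led Lsl_at (LP (LK LD1_c1 LD2_c31 LD3_c0)) = (LP (LK LD1_c3 LD2_c9 LD3_c41)) :=
  Lre_a IH (LK LD1_c1 LD2_c31 LD3_c0) (LK LD1_c3 LD2_c9 LD3_c41) Lrfl Lrfl
theorem f433556 : Led Lsl_bf (LP (LK LD1_c4 LD2_c42 LD3_c27)) = (LP (LK LD1_c3 LD2_c9 LD3_c41)) :=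
  Lgr Lrot81 (Lpr_at (f433555 IH) (Lpr_bt (K7.f135516 IH) (Lpr_at (f433551 IH) (Lpr_bt (K7.f154394 IH) (Lpr_at (f433247 IH) (Lpn (LP (LK LD1_c3 LD2_c9 LD3_c41))))))))
theorem f433664 : Led Lsl_ff (LP (LK LD1_c3 LD2_c9 LD3_c33)) = (LP (LK LD1_c4 LD2_c42 LD3_c27)) :=
  Lgr Lrot25 (Lpr_bt (f433618 IH) (Lpr_ft (K7.f155197 IH) (Lpe (f433556 IH) (Lpn (LP (LK LD1_c4 LD2_c42 LD3_c27))))))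
theorem f153123 : Led Lsl_at (LP (LK LD1_c3 LD2_c9 LD3_c33)) = (LP (LK LD1_c1 LD2_c30 LD3_c57)) :=
  Lre_a IH (LK LD1_c3 LD2_c9 LD3_c33) (LK LD1_c1 LD2_c30 LD3_c57) Lrfl Lrfl
theorem f433675 : Led Lsl_gf (LP (LK LD1_c2 LD2_c21 LD3_c41)) = (LP (LK LD1_c4 LD2_c42 LD3_c27)) :=
  Lgr Lrot47 (Lpr_gt (K7.f152849 IH) (Lpe (f153123 IH) (Lpr_ff (f433664 IH) (Lpn (LP (LK LD1_c4 LD2_c42 LD3_c27))))))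
theorem f79590 : Led Lsl_dt (LP (LK LD1_c4 LD2_c47 LD3_c34)) = (LP (LK LD1_c9 LD2_c28 LD3_c9)) :=
  Lre_d IH (LK LD1_c4 LD2_c47 LD3_c34) (LK LD1_c9 LD2_c28 LD3_c9) Lrfl Lrfl
theorem f152838 : Led Lsl_dt (LP (LK LD1_c9 LD2_c28 LD3_c24)) = (LP (LK LD1_c6 LD2_c23 LD3_c54)) :=
  Lgr Lrot42 (Lpr_df (K7.f152831 IH) (Lpn (LP (LK LD1_c6 LD2_c23 LD3_c54))))
theorem f433668 : Led Lsl_ct (LP (LK LD1_c9 LD2_c19 LD3_c12)) = (LP (LK LD1_c4 LD2_c42 LD3_c27)) :=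
  Lre_c IH (LK LD1_c9 LD2_c19 LD3_c12) (LK LD1_c4 LD2_c42 LD3_c27) Lrfl Lrfl
theorem f433686 : Led Lsl_gt (LP (LK LD1_c6 LD2_c23 LD3_c54)) = (LP (LK LD1_c9 LD2_c19 LD3_c12)) :=
  Lgr Lrot9 (Lpe (f152838 IH) (Lpe (K5.f86280 IH) (Lpr_ct (K5.f58120 IH) (Lpr_gt (K5.f85957 IH) (Lpr_ct (K5.f113597 IH) (Lpe (f79590 IH) (Lpe (K5.f58162 IH) (Lpr_gf (f433675 IH) (Lpe (f433668 IH) (Lpn (LP (LK LD1_c9 LD2_c19 LD3_c12))))))))))))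
theorem f156002 : Led Lsl_bt (LP (LK LD1_c3 LD2_c28 LD3_c44)) = (LP (LK LD1_c3 LD2_c25 LD3_c6)) :=
  Lgr Lrot127 (Lpr_bf (K7.f155997 IH) (Lpn (LP (LK LD1_c3 LD2_c25 LD3_c6))))
theorem f126129 : Led Lsl_gf (LP (LK LD1_c6 LD2_c41 LD3_c32)) = (LP (LK LD1_c3 LD2_c18 LD3_c51)) :=
  Lgr Lrot47 (Lpr_gt (K7.f119228 IH) (Lpe (K5.f119215 IH) (Lpr_ff (K5.f126120 IH) (Lpn (LP (LK LD1_c3 LD2_c18 LD3_c51))))))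
theorem f86167 : Led Lsl_ct (LP (LK LD1_c1 LD2_c35 LD3_c55)) = (LP (LK LD1_c3 LD2_c18 LD3_c51)) :=
  Lre_c IH (LK LD1_c1 LD2_c35 LD3_c55) (LK LD1_c3 LD2_c18 LD3_c51) Lrfl Lrfl
theorem f85325 : Led Lsl_ct (LP (LK LD1_c1 LD2_c53 LD3_c28)) = (LP (LK LD1_c0 LD2_c53 LD3_c21)) :=
  Lre_c IH (LK LD1_c1 LD2_c53 LD3_c28) (LK LD1_c0 LD2_c53 LD3_c21) Lrfl Lrfl
theorem f155105 : Led Lsl_gt (LP (LK LD1_c1 LD2_c38 LD3_c30)) = (LP (LK LD1_c1 LD2_c43 LD3_c11)) :=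
  Lgr Lrot9 (Lpe (K4.f92029 IH) (Lpr_gt (K4.f106342 IH) (Lpr_ct (K3.f86695 IH) (Lpe (K3.f85579 IH) (Lpr_ct (f85325 IH) (Lpe (f106080 IH) (Lpe (K7.f106092 IH) (Lpr_gf (K7.f155095 IH) (Lpe (K7.f155087 IH) (Lpn (LP (LK LD1_c1 LD2_c43 LD3_c11))))))))))))
theorem f126161 : Led Lsl_ct (LP (LK LD1_c6 LD2_c41 LD3_c32)) = (LP (LK LD1_c3 LD2_c28 LD3_c44)) :=
  Lgr Lrot8 (Lpr_gt (K7.f119228 IH) (Lpr_dt (K7.f114199 IH) (Lpr_gt (K7.f126159 IH) (Lpr_dt (K5.f114277 IH) (Lpr_cf (K6.f114275 IH) (Lpe (K7.f109191 IH) (Lpr_gf (K4.f109188 IH) (Lpe (K3.f85000 IH) (Lpe (K7.f105638 IH) (Lpn (LP (LK LD1_c3 LD2_c28 LD3_c44))))))))))))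
theorem f433241 : Led Lsl_gt (LP (LK LD1_c3 LD2_c9 LD3_c41)) = (LP (LK LD1_c1 LD2_c35 LD3_c55)) :=
  Lgr Lrot9 (Lpe (f154302 IH) (Lpr_gt (f433235 IH) (Lpr_ct (K4.f114010 IH) (Lpr_gt (f155105 IH) (Lpr_ct (K7.f155087 IH) (Lpe (K7.f88986 IH) (Lpe (f126161 IH) (Lpr_gf (f126129 IH) (Lpe (f86167 IH) (Lpn (LP (LK LD1_c1 LD2_c35 LD3_c55))))))))))))
theorem f433683 : Led Lsl_ct (LP (LK LD1_c4 LD2_c42 LD3_c27)) = (LP (LK LD1_c9 LD2_c19 LD3_c12)) :=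
  Lre_c IH (LK LD1_c4 LD2_c42 LD3_c27) (LK LD1_c9 LD2_c19 LD3_c12) Lrfl Lrfl
theorem f433707 : Led Lsl_bf (LP (LK LD1_c3 LD2_c9 LD3_c41)) = (LP (LK LD1_c4 LD2_c42 LD3_c27)) :=
  Lgr Lrot165 (Lpr_gt (f433241 IH) (Lpr_ct (f86167 IH) (Lpe (f126129 IH) (Lpr_cf (K7.f126163 IH) (Lpr_bt (f156002 IH) (Lpe (K7.f144233 IH) (Lpr_bf (K5.f114183 IH) (Lpr_ct (K7.f152816 IH) (Lpr_gt (f433686 IH) (Lpe (f433683 IH) (Lpn (LP (LK LD1_c4 LD2_c42 LD3_c27)))))))))))))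
theorem f155185 : Led Lsl_bt (LP (LK LD1_c6 LD2_c24 LD3_c3)) = (LP (LK LD1_c12 LD2_c21 LD3_c19)) :=
  Lre_b IH (LK LD1_c6 LD2_c24 LD3_c3) (LK LD1_c12 LD2_c21 LD3_c19) Lrfl Lrfl
theorem f433699 : Led Lsl_bt (LP (LK LD1_c17 LD2_c14 LD3_c41)) = (LP (LK LD1_c9 LD2_c19 LD3_c12)) :=
  Lre_b IH (LK LD1_c17 LD2_c14 LD3_c41) (LK LD1_c9 LD2_c19 LD3_c12) Lrfl Lrfl
theorem f433711 : Led Lsl_ct (LP (LK LD1_c12 LD2_c21 LD3_c19)) = (LP (LK LD1_c17 LD2_c14 LD3_c41)) :=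
  Lgr Lrot83 (Lpe (f155185 IH) (Lpe (K7.f155196 IH) (Lpr_bf (f433707 IH) (Lpe (f433668 IH) (Lpe (f433699 IH) (Lpn (LP (LK LD1_c17 LD2_c14 LD3_c41))))))))
theorem f433720 : Led Lsl_cf (LP (LK LD1_c12 LD2_c21 LD3_c19)) = (LP (LK LD1_c17 LD2_c14 LD3_c41)) :=
  Lgr Lrot11 (Lpr_ct (f433711 IH) (Lpn (LP (LK LD1_c17 LD2_c14 LD3_c41))))
theorem f105721 : Led Lsl_bt (LP (LK LD1_c12 LD2_c0 LD3_c49)) = (LP (LK LD1_c6 LD2_c9 LD3_c61)) :=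
  Lre_b IH (LK LD1_c12 LD2_c0 LD3_c49) (LK LD1_c6 LD2_c9 LD3_c61) Lrfl Lrfl
theorem f155186 : Led Lsl_ff (LP (LK LD1_c12 LD2_c0 LD3_c49)) = (LP (LK LD1_c12 LD2_c21 LD3_c19)) :=
  Lgr Lrot25 (Lpr_bt (f105721 IH) (Lpr_ft (K7.f155181 IH) (Lpr_bt (f155185 IH) (Lpn (LP (LK LD1_c12 LD2_c21 LD3_c19))))))
theorem f152908 : Led Lsl_ct (LP (LK LD1_c6 LD2_c23 LD3_c53)) = (LP (LK LD1_c3 LD2_c9 LD3_c33)) :=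
  Lre_c IH (LK LD1_c6 LD2_c23 LD3_c53) (LK LD1_c3 LD2_c9 LD3_c33) Lrfl Lrfl
theorem f433660 : Led Lsl_bt (LP (LK LD1_c12 LD2_c20 LD3_c57)) = (LP (LK LD1_c6 LD2_c23 LD3_c53)) :=
  Lre_b IH (LK LD1_c12 LD2_c20 LD3_c57) (LK LD1_c6 LD2_c23 LD3_c53) Lrfl Lrfl
theorem f61745 : Led Lsl_bt (LP (LK LD1_c6 LD2_c9 LD3_c61)) = (LP (LK LD1_c12 LD2_c0 LD3_c49)) :=
  Lre_b IH (LK LD1_c6 LD2_c9 LD3_c61) (LK LD1_c12 LD2_c0 LD3_c49) Lrfl Lrfl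
theorem f433661 : Led Lsl_cf (LP (LK LD1_c12 LD2_c20 LD3_c57)) = (LP (LK LD1_c12 LD2_c0 LD3_c49)) :=
  Lgr Lrot97 (Lpr_bt (f433660 IH) (Lpr_ct (f152908 IH) (Lpr_bt (f433618 IH) (Lpr_ct (K7.f61744 IH) (Lpr_bt (f61745 IH) (Lpn (LP (LK LD1_c12 LD2_c0 LD3_c49))))))))
theorem f433730 : Led Lsl_ft (LP (LK LD1_c12 LD2_c20 LD3_c57)) = (LP (LK LD1_c17 LD2_c14 LD3_c41)) :=
  Lgr Lrot4 (Lpr_cf (f433661 IH) (Lpr_ff (f155186 IH) (Lpr_cf (f433720 IH) (Lpn (LP (LK LD1_c17 LD2_c14 LD3_c41))))))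
theorem f433740 : Led Lsl_ff (LP (LK LD1_c12 LD2_c20 LD3_c57)) = (LP (LK LD1_c17 LD2_c14 LD3_c41)) :=
  Lgr Lrot3 (Lpr_ft (f433730 IH) (Lpn (LP (LK LD1_c17 LD2_c14 LD3_c41))))
theorem f433749 : Led Lsl_at (LP (LK LD1_c12 LD2_c20 LD3_c57)) = (LP (LK LD1_c21 LD2_c27 LD3_c3)) :=
  Lre_a IH (LK LD1_c12 LD2_c20 LD3_c57) (LK LD1_c21 LD2_c27 LD3_c3) Lrfl Lrfl
theorem f433723 : Led Lsl_at (LP (LK LD1_c27 LD2_c4 LD3_c53)) = (LP (LK LD1_c17 LD2_c14 LD3_c41)) :=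
  Lre_a IH (LK LD1_c27 LD2_c4 LD3_c53) (LK LD1_c17 LD2_c14 LD3_c41) Lrfl Lrfl
theorem f433750 : Led Lsl_ft (LP (LK LD1_c21 LD2_c27 LD3_c3)) = (LP (LK LD1_c27 LD2_c4 LD3_c53)) :=
  Lgr Lrot101 (Lpe (f433749 IH) (Lpr_ff (f433740 IH) (Lpe (f433723 IH) (Lpn (LP (LK LD1_c27 LD2_c4 LD3_c53))))))
theorem f433645 : Led Lsl_bt (LP (LK LD1_c12 LD2_c21 LD3_c2)) = (LP (LK LD1_c21 LD2_c27 LD3_c3)) :=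
  Lre_b IH (LK LD1_c12 LD2_c21 LD3_c2) (LK LD1_c21 LD2_c27 LD3_c3) Lrfl Lrfl
theorem f433763 : Led Lsl_bt (LP (LK LD1_c27 LD2_c4 LD3_c53)) = (LP (LK LD1_c17 LD2_c14 LD3_c45)) :=
  Lre_b IH (LK LD1_c27 LD2_c4 LD3_c53) (LK LD1_c17 LD2_c14 LD3_c45) Lrfl Lrfl
theorem f433797 : Led Lsl_ff (LP (LK LD1_c12 LD2_c21 LD3_c2)) = (LP (LK LD1_c17 LD2_c14 LD3_c45)) :=
  Lgr Lrot25 (Lpr_bt (f433645 IH) (Lpr_ft (f433750 IH) (Lpr_bt (f433763 IH) (Lpn (LP (LK LD1_c17 LD2_c14 LD3_c45))))))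
theorem f433811 : Led Lsl_ft (LP (LK LD1_c12 LD2_c21 LD3_c2)) = (LP (LK LD1_c17 LD2_c14 LD3_c45)) :=
  Lgr Lrot48 (Lpr_ff (f433797 IH) (Lpn (LP (LK LD1_c17 LD2_c14 LD3_c45))))
theorem f433815 : Led Lsl_at (LP (LK LD1_c6 LD2_c23 LD3_c56)) = (LP (LK LD1_c12 LD2_c21 LD3_c2)) :=
  Lre_a IH (LK LD1_c6 LD2_c23 LD3_c56) (LK LD1_c12 LD2_c21 LD3_c2) Lrfl Lrfl
theorem f433816 : Led Lsl_at (LP (LK LD1_c17 LD2_c14 LD3_c45)) = (LP (LK LD1_c9 LD2_c19 LD3_c15)) :=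
  Lre_a IH (LK LD1_c17 LD2_c14 LD3_c45) (LK LD1_c9 LD2_c19 LD3_c15) Lrfl Lrfl
theorem f433817 : Led Lsl_ff (LP (LK LD1_c6 LD2_c23 LD3_c56)) = (LP (LK LD1_c9 LD2_c19 LD3_c15)) :=
  Lgr Lrot30 (Lpr_at (f433815 IH) (Lpr_ft (f433811 IH) (Lpr_at (f433816 IH) (Lpn (LP (LK LD1_c9 LD2_c19 LD3_c15))))))
theorem f433453 : Led Lsl_dt (LP (LK LD1_c6 LD2_c23 LD3_c56)) = (LP (LK LD1_c12 LD2_c21 LD3_c3)) :=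
  Lre_d IH (LK LD1_c6 LD2_c23 LD3_c56) (LK LD1_c12 LD2_c21 LD3_c3) Lrfl Lrfl
theorem f154408 : Led Lsl_dt (LP (LK LD1_c17 LD2_c14 LD3_c46)) = (LP (LK LD1_c9 LD2_c19 LD3_c15)) :=
  Lre_d IH (LK LD1_c17 LD2_c14 LD3_c46) (LK LD1_c9 LD2_c19 LD3_c15) Lrfl Lrfl
theorem f433838 : Led Lsl_ft (LP (LK LD1_c12 LD2_c21 LD3_c3)) = (LP (LK LD1_c17 LD2_c14 LD3_c46)) :=
  Lgr Lrot54 (Lpe (f433453 IH) (Lpr_ff (f433817 IH) (Lpe (f154408 IH) (Lpn (LP (LK LD1_c17 LD2_c14 LD3_c46))))))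
theorem f433851 : Led Lsl_ff (LP (LK LD1_c12 LD2_c21 LD3_c3)) = (LP (LK LD1_c17 LD2_c14 LD3_c46)) :=
  Lgr Lrot3 (Lpr_ft (f433838 IH) (Lpn (LP (LK LD1_c17 LD2_c14 LD3_c46))))
theorem f152880 : Led Lsl_bt (LP (LK LD1_c12 LD2_c21 LD3_c3)) = (LP (LK LD1_c6 LD2_c23 LD3_c57)) :=
  Lre_b IH (LK LD1_c12 LD2_c21 LD3_c3) (LK LD1_c6 LD2_c23 LD3_c57) Lrfl Lrfl
theorem f433854 : Led Lsl_bt (LP (LK LD1_c9 LD2_c19 LD3_c16)) = (LP (LK LD1_c17 LD2_c14 LD3_c46)) :=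
  Lre_b IH (LK LD1_c9 LD2_c19 LD3_c16) (LK LD1_c17 LD2_c14 LD3_c46) Lrfl Lrfl
theorem f433855 : Led Lsl_ft (LP (LK LD1_c6 LD2_c23 LD3_c57)) = (LP (LK LD1_c9 LD2_c19 LD3_c16)) :=
  Lgr Lrot75 (Lpe (f152880 IH) (Lpr_ff (f433851 IH) (Lpe (f433854 IH) (Lpn (LP (LK LD1_c9 LD2_c19 LD3_c16))))))
theorem f153425 : Led Lsl_dt (LP (LK LD1_c9 LD2_c19 LD3_c16)) = (LP (LK LD1_c4 LD2_c42 LD3_c28)) :=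
  Lre_d IH (LK LD1_c9 LD2_c19 LD3_c16) (LK LD1_c4 LD2_c42 LD3_c28) Lrfl Lrfl
theorem f433966 : Led Lsl_ff (LP (LK LD1_c3 LD2_c9 LD3_c34)) = (LP (LK LD1_c4 LD2_c42 LD3_c28)) :=
  Lgr Lrot19 (Lpr_dt (K7.f152882 IH) (Lpr_ft (f433855 IH) (Lpr_dt (f153425 IH) (Lpn (LP (LK LD1_c4 LD2_c42 LD3_c28))))))
theorem f433978 : Led Lsl_at (LP (LK LD1_c3 LD2_c9 LD3_c34)) = (LP (LK LD1_c6 LD2_c23 LD3_c53)) :=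
  Lre_a IH (LK LD1_c3 LD2_c9 LD3_c34) (LK LD1_c6 LD2_c23 LD3_c53) Lrfl Lrfl
theorem f135518 : Led Lsl_gt (LP (LK LD1_c4 LD2_c42 LD3_c28)) = (LP (LK LD1_c9 LD2_c19 LD3_c14)) :=
  Lre_g IH (LK LD1_c4 LD2_c42 LD3_c28) (LK LD1_c9 LD2_c19 LD3_c14) Lrfl Lrfl
theorem f433979 : Led Lsl_gf (LP (LK LD1_c6 LD2_c23 LD3_c53)) = (LP (LK LD1_c9 LD2_c19 LD3_c14)) :=
  Lgr Lrot76 (Lpe (f433978 IH) (Lpr_ff (f433966 IH) (Lpr_gt (f135518 IH) (Lpn (LP (LK LD1_c9 LD2_c19 LD3_c14))))))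
theorem f152909 : Led Lsl_dt (LP (LK LD1_c3 LD2_c9 LD3_c33)) = (LP (LK LD1_c1 LD2_c30 LD3_c56)) :=
  Lre_d IH (LK LD1_c3 LD2_c9 LD3_c33) (LK LD1_c1 LD2_c30 LD3_c56) Lrfl Lrfl
theorem f83182 : Led Lsl_at (LP (LK LD1_c1 LD2_c30 LD3_c56)) = (LP (LK LD1_c0 LD2_c41 LD3_c58)) :=
  Lre_a IH (LK LD1_c1 LD2_c30 LD3_c56) (LK LD1_c0 LD2_c41 LD3_c58) Lrfl Lrfl
theorem f83177 : Led Lsl_at (LP (LK LD1_c0 LD2_c41 LD3_c58)) = (LP (LK LD1_c1 LD2_c30 LD3_c56)) :=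
  Lre_a IH (LK LD1_c0 LD2_c41 LD3_c58) (LK LD1_c1 LD2_c30 LD3_c56) Lrfl Lrfl
theorem f153130 : Led Lsl_cf (LP (LK LD1_c1 LD2_c30 LD3_c56)) = (LP (LK LD1_c1 LD2_c30 LD3_c56)) :=
  Lgr Lrot1 (Lpr_at (f83182 IH) (Lpr_ct (K7.f153126 IH) (Lpr_at (f83177 IH) (Lpn (LP (LK LD1_c1 LD2_c30 LD3_c56))))))
theorem f67918 : Led Lsl_et (LP (LK LD1_c6 LD2_c27 LD3_c54)) = (LP (LK LD1_c3 LD2_c11 LD3_c51)) :=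
  Lre_e IH (LK LD1_c6 LD2_c27 LD3_c54) (LK LD1_c3 LD2_c11 LD3_c51) Lrfl Lrfl
theorem f155434 : Led Lsl_et (LP (LK LD1_c3 LD2_c8 LD3_c60)) = (LP (LK LD1_c6 LD2_c22 LD3_c34)) :=
  Lre_e IH (LK LD1_c3 LD2_c8 LD3_c60) (LK LD1_c6 LD2_c22 LD3_c34) Lrfl Lrfl
theorem f125140 : Led Lsl_et (LP (LK LD1_c7 LD2_c20 LD3_c8)) = (LP (LK LD1_c3 LD2_c39 LD3_c60)) :=
  Lre_e IH (LK LD1_c7 LD2_c20 LD3_c8) (LK LD1_c3 LD2_c39 LD3_c60) Lrfl Lrfl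
theorem f430544 : Led Lsl_bt (LP (LK LD1_c6 LD2_c22 LD3_c34)) = (LP (LK LD1_c7 LD2_c20 LD3_c8)) :=
  Lgr Lrot119 (Lpe (f155434 IH) (Lpr_bf (f430540 IH) (Lpe (f125140 IH) (Lpn (LP (LK LD1_c7 LD2_c20 LD3_c8))))))
theorem f134547 : Led Lsl_et (LP (LK LD1_c3 LD2_c40 LD3_c1)) = (LP (LK LD1_c7 LD2_c20 LD3_c12)) :=
  Lre_e IH (LK LD1_c3 LD2_c40 LD3_c1) (LK LD1_c7 LD2_c20 LD3_c12) Lrfl Lrfl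
theorem f134601 : Led Lsl_dt (LP (LK LD1_c7 LD2_c20 LD3_c12)) = (LP (LK LD1_c7 LD2_c20 LD3_c8)) :=
  Lgr Lrot77 (Lpe (f134547 IH) (Lpr_df (K6.f134597 IH) (Lpe (K7.f106789 IH) (Lpe (K7.f106790 IH) (Lpe (f125140 IH) (Lpn (LP (LK LD1_c7 LD2_c20 LD3_c8))))))))
theorem f134603 : Led Lsl_df (LP (LK LD1_c7 LD2_c20 LD3_c12)) = (LP (LK LD1_c7 LD2_c20 LD3_c8)) :=
  Lgr Lrot38 (Lpr_dt (f134601 IH) (Lpn (LP (LK LD1_c7 LD2_c20 LD3_c8))))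
theorem f134548 : Led Lsl_bt (LP (LK LD1_c7 LD2_c20 LD3_c12)) = (LP (LK LD1_c6 LD2_c27 LD3_c54)) :=
  Lgr Lrot119 (Lpe (f134547 IH) (Lpr_bf (K5.f134538 IH) (Lpe (f67918 IH) (Lpn (LP (LK LD1_c6 LD2_c27 LD3_c54))))))
theorem f430549 : Led Lsl_df (LP (LK LD1_c6 LD2_c22 LD3_c34)) = (LP (LK LD1_c6 LD2_c27 LD3_c54)) :=
  Lgr Lrot12 (Lpr_bt (f430544 IH) (Lpe (f134603 IH) (Lpr_bt (f134548 IH) (Lpn (LP (LK LD1_c6 LD2_c27 LD3_c54))))))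
theorem f430555 : Led Lsl_dt (LP (LK LD1_c6 LD2_c22 LD3_c34)) = (LP (LK LD1_c6 LD2_c27 LD3_c54)) :=
  Lgr Lrot42 (Lpr_df (f430549 IH) (Lpn (LP (LK LD1_c6 LD2_c27 LD3_c54))))
theorem f430710 : Led Lsl_et (LP (LK LD1_c2 LD2_c18 LD3_c29)) = (LP (LK LD1_c1 LD2_c32 LD3_c15)) :=
  Lgr Lrot71 (Lpr_df (f430700 IH) (Lpe (f67918 IH) (Lpe (f430555 IH) (Lpe (f155434 IH) (Lpr_df (K7.f155424 IH) (Lpn (LP (LK LD1_c1 LD2_c32 LD3_c15))))))))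
theorem f431130 : Led Lsl_ff (LP (LK LD1_c2 LD2_c18 LD3_c29)) = (LP (LK LD1_c1 LD2_c29 LD3_c17)) :=
  Lgr Lrot72 (Lpr_et (f430710 IH) (Lpe (K4.f113918 IH) (Lpr_et (f99226 IH) (Lpr_ft (K4.f114476 IH) (Lpr_et (K2.f61717 IH) (Lpn (LP (LK LD1_c1 LD2_c29 LD3_c17))))))))
theorem f83137 : Led Lsl_gt (LP (LK LD1_c0 LD2_c41 LD3_c50)) = (LP (LK LD1_c1 LD2_c30 LD3_c37)) :=
  Lre_g IH (LK LD1_c0 LD2_c41 LD3_c50) (LK LD1_c1 LD2_c30 LD3_c37) Lrfl Lrfl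
theorem f431132 : Led Lsl_at (LP (LK LD1_c2 LD2_c18 LD3_c29)) = (LP (LK LD1_c1 LD2_c30 LD3_c37)) :=
  Lgr Lrot26 (Lpr_ff (f431130 IH) (Lpr_gt (K7.f153394 IH) (Lpr_gt (f83137 IH) (Lpn (LP (LK LD1_c1 LD2_c30 LD3_c37))))))
theorem f431142 : Led Lsl_ff (LP (LK LD1_c2 LD2_c17 LD3_c59)) = (LP (LK LD1_c1 LD2_c30 LD3_c37)) :=
  Lgr Lrot30 (Lpr_at (K4.f114490 IH) (Lpe (f431130 IH) (Lpr_at (f431132 IH) (Lpn (LP (LK LD1_c1 LD2_c30 LD3_c37))))))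
theorem f431150 : Led Lsl_ft (LP (LK LD1_c2 LD2_c17 LD3_c59)) = (LP (LK LD1_c1 LD2_c30 LD3_c37)) :=
  Lgr Lrot48 (Lpr_ff (f431142 IH) (Lpn (LP (LK LD1_c1 LD2_c30 LD3_c37))))
theorem f61724 : Led Lsl_at (LP (LK LD1_c1 LD2_c26 LD3_c45)) = (LP (LK LD1_c3 LD2_c1 LD3_c27)) :=
  Lre_a IH (LK LD1_c1 LD2_c26 LD3_c45) (LK LD1_c3 LD2_c1 LD3_c27) Lrfl Lrfl
theorem f114494 : Led Lsl_cf (LP (LK LD1_c2 LD2_c17 LD3_c59)) = (LP (LK LD1_c3 LD2_c1 LD3_c27)) :=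
  Lgr Lrot1 (Lpr_at (K4.f114490 IH) (Lpr_ct (K2.f61719 IH) (Lpr_at (f61724 IH) (Lpn (LP (LK LD1_c3 LD2_c1 LD3_c27))))))
theorem f153405 : Led Lsl_ct (LP (LK LD1_c1 LD2_c30 LD3_c37)) = (LP (LK LD1_c3 LD2_c8 LD3_c58)) :=
  Lre_c IH (LK LD1_c1 LD2_c30 LD3_c37) (LK LD1_c3 LD2_c8 LD3_c58) Lrfl Lrfl
theorem f431152 : Led Lsl_ff (LP (LK LD1_c3 LD2_c1 LD3_c27)) = (LP (LK LD1_c3 LD2_c8 LD3_c58)) :=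
  Lgr Lrot23 (Lpe (f114494 IH) (Lpr_ft (f431150 IH) (Lpr_ct (f153405 IH) (Lpn (LP (LK LD1_c3 LD2_c8 LD3_c58))))))
theorem f61736 : Led Lsl_ft (LP (LK LD1_c1 LD2_c26 LD3_c45)) = (LP (LK LD1_c3 LD2_c1 LD3_c31)) :=
  Lre_f IH (LK LD1_c1 LD2_c26 LD3_c45) (LK LD1_c3 LD2_c1 LD3_c31) Lrfl Lrfl
theorem f431154 : Led Lsl_at (LP (LK LD1_c3 LD2_c1 LD3_c31)) = (LP (LK LD1_c3 LD2_c8 LD3_c58)) :=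
  Lgr Lrot66 (Lpe (f61736 IH) (Lpe (K5.f61737 IH) (Lpr_ff (f431152 IH) (Lpn (LP (LK LD1_c3 LD2_c8 LD3_c58))))))
theorem f431273 : Led Lsl_gt (LP (LK LD1_c3 LD2_c1 LD3_c28)) = (LP (LK LD1_c3 LD2_c8 LD3_c58)) :=
  Lgr Lrot46 (Lpe (f61738 IH) (Lpr_ft (f61736 IH) (Lpr_at (f431154 IH) (Lpn (LP (LK LD1_c3 LD2_c8 LD3_c58))))))
theorem f133812 : Led Lsl_dt (LP (LK LD1_c6 LD2_c59 LD3_c4)) = (LP (LK LD1_c3 LD2_c28 LD3_c36)) :=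
  Lre_d IH (LK LD1_c6 LD2_c59 LD3_c4) (LK LD1_c3 LD2_c28 LD3_c36) Lrfl Lrfl
theorem f143836 : Led Lsl_ft (LP (LK LD1_c6 LD2_c48 LD3_c30)) = (LP (LK LD1_c6 LD2_c49 LD3_c11)) :=
  Lgr Lrot54 (Lpe (K7.f126921 IH) (Lpr_ff (K6.f143785 IH) (Lpe (f113302 IH) (Lpn (LP (LK LD1_c6 LD2_c49 LD3_c11))))))
theorem f143773 : Led Lsl_at (LP (LK LD1_c6 LD2_c48 LD3_c30)) = (LP (LK LD1_c12 LD2_c33 LD3_c20)) :=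
  Lgr Lrot100 (Lpr_af (K6.f143770 IH) (Lpn (LP (LK LD1_c12 LD2_c33 LD3_c20))))
theorem f143859 : Led Lsl_af (LP (LK LD1_c12 LD2_c59 LD3_c37)) = (LP (LK LD1_c6 LD2_c49 LD3_c11)) :=
  Lgr Lrot68 (Lpr_ct (K6.f126923 IH) (Lpr_at (f143773 IH) (Lpr_ct (f143856 IH) (Lpn (LP (LK LD1_c6 LD2_c49 LD3_c11))))))
theorem f145770 : Led Lsl_gf (LP (LK LD1_c12 LD2_c59 LD3_c37)) = (LP (LK LD1_c12 LD2_c0 LD3_c21)) :=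
  Lgr Lrot76 (Lpr_af (f143859 IH) (Lpe (f143836 IH) (Lpr_gt (K7.f145755 IH) (Lpn (LP (LK LD1_c12 LD2_c0 LD3_c21))))))
theorem f126798 : Led Lsl_dt (LP (LK LD1_c6 LD2_c9 LD3_c40)) = (LP (LK LD1_c12 LD2_c0 LD3_c19)) :=
  Lre_d IH (LK LD1_c6 LD2_c9 LD3_c40) (LK LD1_c12 LD2_c0 LD3_c19) Lrfl Lrfl
theorem f145774 : Led Lsl_cf (LP (LK LD1_c12 LD2_c0 LD3_c19)) = (LP (LK LD1_c12 LD2_c0 LD3_c21)) :=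
  Lgr Lrot99 (Lpe (f126798 IH) (Lpe (K6.f126797 IH) (Lpr_gf (K6.f126795 IH) (Lpe (K5.f126758 IH) (Lpr_gf (K7.f145772 IH) (Lpe (K7.f145752 IH) (Lpe (f145770 IH) (Lpr_ct (K6.f126923 IH) (Lpr_gt (K7.f145755 IH) (Lpn (LP (LK LD1_c12 LD2_c0 LD3_c21))))))))))))
theorem f145780 : Led Lsl_ct (LP (LK LD1_c12 LD2_c0 LD3_c19)) = (LP (LK LD1_c12 LD2_c0 LD3_c21)) :=
  Lgr Lrot59 (Lpr_cf (f145774 IH) (Lpn (LP (LK LD1_c12 LD2_c0 LD3_c21))))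
theorem f209578 : Led Lsl_df (LP (LK LD1_c3 LD2_c1 LD3_c18)) = (LP (LK LD1_c3 LD2_c8 LD3_c6)) :=
  Lgr Lrot43 (Lpr_ct (K6.f86414 IH) (Lpr_dt (K6.f145655 IH) (Lpr_ct (K6.f145667 IH) (Lpr_dt (K6.f126759 IH) (Lpr_ct (K6.f145524 IH) (Lpr_dt (K6.f145501 IH) (Lpe (K6.f145496 IH) (Lpe (K6.f126844 IH) (Lpr_ct (K6.f126797 IH) (Lpr_dt (f126798 IH) (Lpr_ct (f145780 IH) (Lpr_dt (K7.f145752 IH) (Lpe (K6.f145747 IH) (Lpr_dt (f133812 IH) (Lpr_ct (f209574 IH) (Lpn (LP (LK LD1_c3 LD2_c8 LD3_c6))))))))))))))))))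
theorem f209582 : Led Lsl_dt (LP (LK LD1_c3 LD2_c1 LD3_c18)) = (LP (LK LD1_c3 LD2_c8 LD3_c6)) :=
  Lgr Lrot113 (Lpe (K6.f62369 IH) (Lpe (K5.f62383 IH) (Lpe (K5.f126723 IH) (Lpe (K3.f24338 IH) (Lpr_gt (K5.f126897 IH) (Lpr_dt (K3.f83897 IH) (Lpe (K7.f145725 IH) (Lpr_dt (f133812 IH) (Lpr_ct (f209574 IH) (Lpn (LP (LK LD1_c3 LD2_c8 LD3_c6))))))))))))
theorem f209589 : Led Lsl_gt (LP (LK LD1_c3 LD2_c1 LD3_c18)) = (LP (LK LD1_c3 LD2_c14 LD3_c46)) :=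
  Lgr Lrot146 (Lpr_dt (f209582 IH) (Lpr_gt (f152357 IH) (Lpr_ct (K6.f135809 IH) (Lpr_gt (K6.f135807 IH) (Lpr_ct (K7.f145499 IH) (Lpr_dt (K6.f145521 IH) (Lpe (K6.f145524 IH) (Lpr_gf (K6.f126755 IH) (Lpe (K5.f126740 IH) (Lpn (LP (LK LD1_c3 LD2_c14 LD3_c46))))))))))))
theorem f430381 : Led Lsl_ct (LP (LK LD1_c1 LD2_c30 LD3_c54)) = (LP (LK LD1_c1 LD2_c30 LD3_c54)) :=
  Lgr Lrot8 (Lpe (f430180 IH) (Lpe (f209578 IH) (Lpr_gt (f209589 IH) (Lpr_dt (K5.f24361 IH) (Lpe (K5.f126783 IH) (Lpe (K5.f24361 IH) (Lpe (f209589 IH) (Lpr_df (f209578 IH) (Lpr_gf (f430180 IH) (Lpn (LP (LK LD1_c1 LD2_c30 LD3_c54))))))))))))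
theorem f430385 : Led Lsl_gt (LP (LK LD1_c1 LD2_c34 LD3_c9)) = (LP (LK LD1_c1 LD2_c30 LD3_c54)) :=
  Lgr Lrot9 (Lpe (K6.f126847 IH) (Lpr_gt (K6.f62367 IH) (Lpr_ct (K5.f62360 IH) (Lpr_gt (K6.f62409 IH) (Lpe (K6.f145747 IH) (Lpe (K6.f145711 IH) (Lpr_cf (f209576 IH) (Lpr_gf (f430180 IH) (Lpe (f430381 IH) (Lpn (LP (LK LD1_c1 LD2_c30 LD3_c54))))))))))))
theorem f430733 : Led Lsl_gf (LP (LK LD1_c3 LD2_c8 LD3_c2)) = (LP (LK LD1_c3 LD2_c1 LD3_c27)) :=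
  Lgr Lrot129 (Lpr_cf (f430723 IH) (Lpr_bt (f430725 IH) (Lpr_gt (f430385 IH) (Lpe (f154167 IH) (Lpr_ct (K7.f154168 IH) (Lpe (K7.f152174 IH) (Lpe (K7.f82818 IH) (Lpr_bt (f82863 IH) (Lpr_gt (f430692 IH) (Lpe (K7.f114910 IH) (Lpn (LP (LK LD1_c3 LD2_c1 LD3_c27)))))))))))))
theorem f104593 : Led Lsl_dt (LP (LK LD1_c0 LD2_c18 LD3_c37)) = (LP (LK LD1_c0 LD2_c41 LD3_c42)) :=
  Lre_d IH (LK LD1_c0 LD2_c18 LD3_c37) (LK LD1_c0 LD2_c41 LD3_c42) Lrfl Lrfl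
theorem f133693 : Led Lsl_gf (LP (LK LD1_c3 LD2_c5 LD3_c49)) = (LP (LK LD1_c1 LD2_c30 LD3_c15)) :=
  Lgr Lrot144 (Lpr_dt (K7.f102248 IH) (Lpr_gt (K7.f133689 IH) (Lpr_dt (K7.f113386 IH) (Lpe (K5.f62608 IH) (Lpe (K7.f113408 IH) (Lpe (K5.f126924 IH) (Lpe (f104593 IH) (Lpe (K7.f104231 IH) (Lpe (K7.f104609 IH) (Lpn (LP (LK LD1_c1 LD2_c30 LD3_c15))))))))))))
theorem f104695 : Led Lsl_ct (LP (LK LD1_c0 LD2_c41 LD3_c41)) = (LP (LK LD1_c1 LD2_c30 LD3_c15)) :=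
  Lre_c IH (LK LD1_c0 LD2_c41 LD3_c41) (LK LD1_c1 LD2_c30 LD3_c15) Lrfl Lrfl
theorem f133696 : Led Lsl_bt (LP (LK LD1_c0 LD2_c41 LD3_c41)) = (LP (LK LD1_c1 LD2_c30 LD3_c14)) :=
  Lre_b IH (LK LD1_c0 LD2_c41 LD3_c41) (LK LD1_c1 LD2_c30 LD3_c14) Lrfl Lrfl
theorem f133697 : Led Lsl_gt (LP (LK LD1_c3 LD2_c8 LD3_c3)) = (LP (LK LD1_c1 LD2_c30 LD3_c14)) :=
  Lre_g IH (LK LD1_c3 LD2_c8 LD3_c3) (LK LD1_c1 LD2_c30 LD3_c14) Lrfl Lrfl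
theorem f431275 : Led Lsl_bf (LP (LK LD1_c3 LD2_c8 LD3_c3)) = (LP (LK LD1_c1 LD2_c30 LD3_c37)) :=
  Lgr Lrot156 (Lpr_gt (f133697 IH) (Lpe (f133696 IH) (Lpr_ct (f104695 IH) (Lpe (f133693 IH) (Lpe (f125489 IH) (Lpr_bt (K5.f125487 IH) (Lpe (f430733 IH) (Lpe (f430727 IH) (Lpr_gt (f431273 IH) (Lpe (f153405 IH) (Lpn (LP (LK LD1_c1 LD2_c30 LD3_c37)))))))))))))
theorem f431283 : Led Lsl_ft (LP (LK LD1_c3 LD2_c8 LD3_c3)) = (LP (LK LD1_c3 LD2_c5 LD3_c51)) :=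
  Lgr Lrot75 (Lpr_bf (f431275 IH) (Lpe (f431150 IH) (Lpr_bf (K6.f61232 IH) (Lpn (LP (LK LD1_c3 LD2_c5 LD3_c51))))))
theorem f113429 : Led Lsl_at (LP (LK LD1_c3 LD2_c5 LD3_c51)) = (LP (LK LD1_c2 LD2_c17 LD3_c9)) :=
  Lgr Lrot107 (Lpe (K5.f61237 IH) (Lpr_af (K4.f113425 IH) (Lpe (K3.f66767 IH) (Lpn (LP (LK LD1_c2 LD2_c17 LD3_c9))))))
theorem f431291 : Led Lsl_gt (LP (LK LD1_c1 LD2_c30 LD3_c14)) = (LP (LK LD1_c2 LD2_c17 LD3_c9)) :=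
  Lgr Lrot46 (Lpe (f133697 IH) (Lpr_ft (f431283 IH) (Lpr_at (f113429 IH) (Lpn (LP (LK LD1_c2 LD2_c17 LD3_c9))))))
theorem f145727 : Led Lsl_et (LP (LK LD1_c3 LD2_c28 LD3_c36)) = (LP (LK LD1_c3 LD2_c28 LD3_c36)) :=
  Lgr Lrot121 (Lpr_dt (K6.f145711 IH) (Lpr_gf (K7.f145725 IH) (Lpe (K3.f83897 IH) (Lpr_et (K2.f83912 IH) (Lpe (K4.f90366 IH) (Lpe (K2.f25042 IH) (Lpr_dt (K5.f25043 IH) (Lpe (K5.f126917 IH) (Lpe (K5.f25035 IH) (Lpe (K6.f62327 IH) (Lpn (LP (LK LD1_c3 LD2_c28 LD3_c36)))))))))))))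
theorem f209580 : Led Lsl_ef (LP (LK LD1_c3 LD2_c8 LD3_c6)) = (LP (LK LD1_c3 LD2_c8 LD3_c6)) :=
  Lgr Lrot28 (Lpe (f209576 IH) (Lpr_et (f145727 IH) (Lpr_ct (f209574 IH) (Lpn (LP (LK LD1_c3 LD2_c8 LD3_c6))))))
theorem f209638 : Led Lsl_et (LP (LK LD1_c1 LD2_c30 LD3_c15)) = (LP (LK LD1_c1 LD2_c30 LD3_c15)) :=
  Lgr Lrot74 (Lpe (K7.f133695 IH) (Lpr_ef (f209580 IH) (Lpe (f104610 IH) (Lpn (LP (LK LD1_c1 LD2_c30 LD3_c15))))))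
theorem f209640 : Led Lsl_ef (LP (LK LD1_c0 LD2_c41 LD3_c41)) = (LP (LK LD1_c0 LD2_c41 LD3_c41)) :=
  Lgr Lrot28 (Lpr_ct (f104695 IH) (Lpr_et (f209638 IH) (Lpr_ct (K7.f104609 IH) (Lpn (LP (LK LD1_c0 LD2_c41 LD3_c41))))))
theorem f104707 : Led Lsl_bt (LP (LK LD1_c1 LD2_c30 LD3_c14)) = (LP (LK LD1_c0 LD2_c41 LD3_c41)) :=
  Lre_b IH (LK LD1_c1 LD2_c30 LD3_c14) (LK LD1_c0 LD2_c41 LD3_c41) Lrfl Lrfl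
theorem f209642 : Led Lsl_et (LP (LK LD1_c1 LD2_c30 LD3_c14)) = (LP (LK LD1_c1 LD2_c30 LD3_c14)) :=
  Lgr Lrot74 (Lpe (f133696 IH) (Lpr_ef (f209640 IH) (Lpe (f104707 IH) (Lpn (LP (LK LD1_c1 LD2_c30 LD3_c14))))))
theorem f209667 : Led Lsl_dt (LP (LK LD1_c1 LD2_c30 LD3_c14)) = (LP (LK LD1_c3 LD2_c8 LD3_c5)) :=
  Lre_d IH (LK LD1_c1 LD2_c30 LD3_c14) (LK LD1_c3 LD2_c8 LD3_c5) Lrfl Lrfl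
theorem f431293 : Led Lsl_gf (LP (LK LD1_c3 LD2_c8 LD3_c5)) = (LP (LK LD1_c4 LD2_c40 LD3_c15)) :=
  Lgr Lrot134 (Lpe (f209667 IH) (Lpr_et (f209642 IH) (Lpr_gt (f431291 IH) (Lpe (K3.f66793 IH) (Lpr_dt (K3.f13670 IH) (Lpr_gt (K3.f103115 IH) (Lpe (K2.f23490 IH) (Lpr_et (K2.f23494 IH) (Lpe (K5.f125267 IH) (Lpr_dt (K5.f77942 IH) (Lpn (LP (LK LD1_c4 LD2_c40 LD3_c15)))))))))))))
theorem f209651 : Led Lsl_ct (LP (LK LD1_c3 LD2_c8 LD3_c5)) = (LP (LK LD1_c6 LD2_c20 LD3_c55)) :=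
  Lre_c IH (LK LD1_c3 LD2_c8 LD3_c5) (LK LD1_c6 LD2_c20 LD3_c55) Lrfl Lrfl
theorem f431302 : Led Lsl_gt (LP (LK LD1_c6 LD2_c20 LD3_c55)) = (LP (LK LD1_c4 LD2_c47 LD3_c34)) :=
  Lgr Lrot150 (Lpe (f209651 IH) (Lpr_gf (f431293 IH) (Lpe (K5.f77942 IH) (Lpe (K5.f120021 IH) (Lpe (K5.f61651 IH) (Lpe (K5.f125300 IH) (Lpr_ct (K3.f24998 IH) (Lpe (K7.f58175 IH) (Lpe (K5.f58164 IH) (Lpn (LP (LK LD1_c4 LD2_c47 LD3_c34))))))))))))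
theorem f133635 : Led Lsl_af (LP (LK LD1_c4 LD2_c47 LD3_c34)) = (LP (LK LD1_c6 LD2_c17 LD3_c38)) :=
  Lgr Lrot45 (Lpr_ft (K5.f133633 IH) (Lpe (K5.f133227 IH) (Lpr_ft (K5.f133284 IH) (Lpn (LP (LK LD1_c6 LD2_c17 LD3_c38))))))
theorem f431308 : Led Lsl_gf (LP (LK LD1_c6 LD2_c20 LD3_c55)) = (LP (LK LD1_c4 LD2_c47 LD3_c32)) :=
  Lgr Lrot47 (Lpr_gt (f431302 IH) (Lpr_af (f133635 IH) (Lpe (K5.f133284 IH) (Lpn (LP (LK LD1_c4 LD2_c47 LD3_c32))))))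
theorem f431306 : Led Lsl_ct (LP (LK LD1_c6 LD2_c20 LD3_c55)) = (LP (LK LD1_c3 LD2_c8 LD3_c5)) :=
  Lre_c IH (LK LD1_c6 LD2_c20 LD3_c55) (LK LD1_c3 LD2_c8 LD3_c5) Lrfl Lrfl
theorem f152959 : Led Lsl_ft (LP (LK LD1_c4 LD2_c40 LD3_c15)) = (LP (LK LD1_c4 LD2_c47 LD3_c33)) :=
  Lgr Lrot48 (Lpr_ff (K7.f152947 IH) (Lpn (LP (LK LD1_c4 LD2_c47 LD3_c33))))
theorem f152961 : Led Lsl_af (LP (LK LD1_c6 LD2_c17 LD3_c37)) = (LP (LK LD1_c4 LD2_c47 LD3_c33)) :=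
  Lgr Lrot45 (Lpe (K5.f125257 IH) (Lpr_at (K5.f125223 IH) (Lpr_ft (f152959 IH) (Lpn (LP (LK LD1_c4 LD2_c47 LD3_c33))))))
theorem f431298 : Led Lsl_gt (LP (LK LD1_c3 LD2_c8 LD3_c5)) = (LP (LK LD1_c6 LD2_c17 LD3_c37)) :=
  Lgr Lrot46 (Lpr_gf (f431293 IH) (Lpr_ft (f152959 IH) (Lpe (f152961 IH) (Lpn (LP (LK LD1_c6 LD2_c17 LD3_c37))))))
theorem f84010 : Led Lsl_dt (LP (LK LD1_c3 LD2_c6 LD3_c1)) = (LP (LK LD1_c1 LD2_c29 LD3_c5)) :=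
  Lre_d IH (LK LD1_c3 LD2_c6 LD3_c1) (LK LD1_c1 LD2_c29 LD3_c5) Lrfl Lrfl
theorem f153435 : Led Lsl_df (LP (LK LD1_c12 LD2_c11 LD3_c55)) = (LP (LK LD1_c9 LD2_c19 LD3_c14)) :=
  Lgr Lrot153 (Lpe (K5.f58021 IH) (Lpr_dt (K5.f58024 IH) (Lpe (K1.f58027 IH) (Lpe (K1.f58026 IH) (Lpe (K4.f86159 IH) (Lpe (f84010 IH) (Lpr_gf (K7.f153417 IH) (Lpe (K7.f153416 IH) (Lpr_gt (f135518 IH) (Lpn (LP (LK LD1_c9 LD2_c19 LD3_c14))))))))))))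
theorem f431324 : Led Lsl_ct (LP (LK LD1_c6 LD2_c17 LD3_c37)) = (LP (LK LD1_c9 LD2_c19 LD3_c14)) :=
  Lgr Lrot110 (Lpe (f431298 IH) (Lpe (f431306 IH) (Lpr_gf (f431308 IH) (Lpe (K5.f102195 IH) (Lpr_gt (K5.f115168 IH) (Lpe (K5.f127000 IH) (Lpr_gt (K5.f113471 IH) (Lpr_ct (K5.f113487 IH) (Lpr_df (f153435 IH) (Lpn (LP (LK LD1_c9 LD2_c19 LD3_c14))))))))))))
theorem f433987 : Led Lsl_gf (LP (LK LD1_c1 LD2_c30 LD3_c56)) = (LP (LK LD1_c1 LD2_c5 LD3_c31)) :=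
  Lgr Lrot104 (Lpe (f153130 IH) (Lpe (f152909 IH) (Lpe (f152908 IH) (Lpr_gf (f433979 IH) (Lpe (f431324 IH) (Lpe (f431298 IH) (Lpe (f209667 IH) (Lpr_gt (f431291 IH) (Lpr_ct (K3.f66767 IH) (Lpn (LP (LK LD1_c1 LD2_c5 LD3_c31))))))))))))
theorem f209666 : Led Lsl_dt (LP (LK LD1_c3 LD2_c8 LD3_c5)) = (LP (LK LD1_c1 LD2_c30 LD3_c14)) :=
  Lre_d IH (LK LD1_c3 LD2_c8 LD3_c5) (LK LD1_c1 LD2_c30 LD3_c14) Lrfl Lrfl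
theorem f153415 : Led Lsl_dt (LP (LK LD1_c4 LD2_c42 LD3_c28)) = (LP (LK LD1_c9 LD2_c19 LD3_c16)) :=
  Lre_d IH (LK LD1_c4 LD2_c42 LD3_c28) (LK LD1_c9 LD2_c19 LD3_c16) Lrfl Lrfl
theorem f431300 : Led Lsl_gf (LP (LK LD1_c9 LD2_c28 LD3_c16)) = (LP (LK LD1_c9 LD2_c19 LD3_c16)) :=
  Lgr Lrot143 (Lpr_dt (K5.f58058 IH) (Lpr_cf (K5.f115147 IH) (Lpe (K5.f66790 IH) (Lpe (f431291 IH) (Lpe (f209666 IH) (Lpr_gf (f431293 IH) (Lpe (K5.f77936 IH) (Lpr_gt (K7.f153409 IH) (Lpr_dt (f153415 IH) (Lpn (LP (LK LD1_c9 LD2_c19 LD3_c16))))))))))))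
theorem f133317 : Led Lsl_af (LP (LK LD1_c9 LD2_c28 LD3_c16)) = (LP (LK LD1_c12 LD2_c11 LD3_c50)) :=
  Lgr Lrot68 (Lpr_ct (K5.f115155 IH) (Lpe (K5.f113557 IH) (Lpr_ct (K5.f133312 IH) (Lpn (LP (LK LD1_c12 LD2_c11 LD3_c50))))))
theorem f431437 : Led Lsl_gt (LP (LK LD1_c9 LD2_c28 LD3_c19)) = (LP (LK LD1_c9 LD2_c19 LD3_c16)) :=
  Lgr Lrot5 (Lpe (K5.f133478 IH) (Lpe (f133317 IH) (Lpr_gf (f431300 IH) (Lpn (LP (LK LD1_c9 LD2_c19 LD3_c16))))))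
theorem f86116 : Led Lsl_dt (LP (LK LD1_c1 LD2_c6 LD3_c20)) = (LP (LK LD1_c2 LD2_c18 LD3_c39)) :=
  Lre_d IH (LK LD1_c1 LD2_c6 LD3_c20) (LK LD1_c2 LD2_c18 LD3_c39) Lrfl Lrfl
theorem f86143 : Led Lsl_gt (LP (LK LD1_c2 LD2_c18 LD3_c37)) = (LP (LK LD1_c1 LD2_c6 LD3_c20)) :=
  Lre_g IH (LK LD1_c2 LD2_c18 LD3_c37) (LK LD1_c1 LD2_c6 LD3_c20) Lrfl Lrfl
theorem f431445 : Led Lsl_dt (LP (LK LD1_c2 LD2_c21 LD3_c42)) = (LP (LK LD1_c2 LD2_c18 LD3_c37)) :=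
  Lgr Lrot57 (Lpr_gf (K5.f58118 IH) (Lpe (K1.f58060 IH) (Lpr_gt (K5.f133611 IH) (Lpr_dt (K5.f79596 IH) (Lpr_gt (f431437 IH) (Lpr_dt (f153425 IH) (Lpe (K7.f135517 IH) (Lpe (f86116 IH) (Lpe (f86143 IH) (Lpn (LP (LK LD1_c2 LD2_c18 LD3_c37))))))))))))
theorem f431285 : Led Lsl_af (LP (LK LD1_c3 LD2_c8 LD3_c3)) = (LP (LK LD1_c3 LD2_c9 LD3_c32)) :=
  Lgr Lrot45 (Lpr_ft (f431283 IH) (Lpr_at (f113429 IH) (Lpr_ft (K7.f153169 IH) (Lpn (LP (LK LD1_c3 LD2_c9 LD3_c32))))))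
theorem f431568 : Led Lsl_cf (LP (LK LD1_c3 LD2_c8 LD3_c3)) = (LP (LK LD1_c2 LD2_c18 LD3_c37)) :=
  Lgr Lrot102 (Lpr_af (f431285 IH) (Lpe (K7.f153169 IH) (Lpr_dt (K5.f66790 IH) (Lpe (K5.f115147 IH) (Lpr_dt (K5.f58059 IH) (Lpr_ct (K5.f115155 IH) (Lpr_dt (K5.f58123 IH) (Lpr_ct (K4.f58132 IH) (Lpr_dt (f431445 IH) (Lpn (LP (LK LD1_c2 LD2_c18 LD3_c37))))))))))))
theorem f431126 : Led Lsl_bf (LP (LK LD1_c2 LD2_c18 LD3_c29)) = (LP (LK LD1_c3 LD2_c39 LD3_c61)) :=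
  Lgr Lrot96 (Lpr_et (f430710 IH) (Lpr_bt (K5.f106795 IH) (Lpr_et (K7.f106789 IH) (Lpn (LP (LK LD1_c3 LD2_c39 LD3_c61))))))
theorem f156318 : Led Lsl_at (LP (LK LD1_c3 LD2_c25 LD3_c5)) = (LP (LK LD1_c3 LD2_c39 LD3_c61)) :=
  Lgr Lrot51 (Lpr_df (K7.f156314 IH) (Lpr_af (K7.f153197 IH) (Lpr_df (K6.f134597 IH) (Lpn (LP (LK LD1_c3 LD2_c39 LD3_c61))))))
theorem f156330 : Led Lsl_gt (LP (LK LD1_c3 LD2_c25 LD3_c5)) = (LP (LK LD1_c1 LD2_c39 LD3_c5)) :=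
  Lgr Lrot9 (Lpr_df (K7.f156314 IH) (Lpr_gt (K7.f134655 IH) (Lpr_ct (K5.f124244 IH) (Lpe (K5.f134651 IH) (Lpr_ct (K5.f21091 IH) (Lpe (K5.f21076 IH) (Lpe (K2.f21059 IH) (Lpe (K7.f21088 IH) (Lpe (K7.f21090 IH) (Lpn (LP (LK LD1_c1 LD2_c39 LD3_c5))))))))))))
theorem f153142 : Led Lsl_ct (LP (LK LD1_c3 LD2_c9 LD3_c32)) = (LP (LK LD1_c1 LD2_c30 LD3_c55)) :=
  Lre_c IH (LK LD1_c3 LD2_c9 LD3_c32) (LK LD1_c1 LD2_c30 LD3_c55) Lrfl Lrfl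
theorem f430908 : Led Lsl_bf (LP (LK LD1_c3 LD2_c25 LD3_c5)) = (LP (LK LD1_c3 LD2_c9 LD3_c32)) :=
  Lgr Lrot156 (Lpr_gt (f156330 IH) (Lpr_bf (f430902 IH) (Lpr_ct (f104637 IH) (Lpe (f152868 IH) (Lpr_cf (f125471 IH) (Lpr_bt (f61238 IH) (Lpr_gt (K7.f152863 IH) (Lpr_ct (K7.f153126 IH) (Lpr_gt (K7.f25899 IH) (Lpe (f153142 IH) (Lpn (LP (LK LD1_c3 LD2_c9 LD3_c32)))))))))))))
theorem f431277 : Led Lsl_at (LP (LK LD1_c3 LD2_c8 LD3_c3)) = (LP (LK LD1_c3 LD2_c9 LD3_c32)) :=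
  Lgr Lrot67 (Lpr_bf (f431275 IH) (Lpe (f431132 IH) (Lpr_bf (f431126 IH) (Lpe (f156318 IH) (Lpr_bf (f430908 IH) (Lpn (LP (LK LD1_c3 LD2_c9 LD3_c32))))))))
theorem f431570 : Led Lsl_at (LP (LK LD1_c1 LD2_c30 LD3_c55)) = (LP (LK LD1_c2 LD2_c18 LD3_c37)) :=
  Lgr Lrot107 (Lpe (f153142 IH) (Lpe (f431277 IH) (Lpr_cf (f431568 IH) (Lpn (LP (LK LD1_c2 LD2_c18 LD3_c37))))))
theorem f433990 : Led Lsl_gt (LP (LK LD1_c1 LD2_c30 LD3_c56)) = (LP (LK LD1_c2 LD2_c18 LD3_c37)) :=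
  Lgr Lrot46 (Lpr_gf (f433987 IH) (Lpr_ft (K7.f153175 IH) (Lpr_at (f431570 IH) (Lpn (LP (LK LD1_c2 LD2_c18 LD3_c37))))))
theorem f431562 : Led Lsl_df (LP (LK LD1_c2 LD2_c21 LD3_c42)) = (LP (LK LD1_c2 LD2_c18 LD3_c37)) :=
  Lgr Lrot38 (Lpr_dt (f431445 IH) (Lpn (LP (LK LD1_c2 LD2_c18 LD3_c37))))
theorem f78444 : Led Lsl_gt (LP (LK LD1_c9 LD2_c15 LD3_c50)) = (LP (LK LD1_c17 LD2_c10 LD3_c19)) :=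
  Lre_g IH (LK LD1_c9 LD2_c15 LD3_c50) (LK LD1_c17 LD2_c10 LD3_c19) Lrfl Lrfl
theorem f113566 : Led Lsl_gt (LP (LK LD1_c17 LD2_c10 LD3_c19)) = (LP (LK LD1_c9 LD2_c28 LD3_c13)) :=
  Lgr Lrot46 (Lpe (f78444 IH) (Lpe (K5.f113483 IH) (Lpr_at (K5.f113552 IH) (Lpn (LP (LK LD1_c9 LD2_c28 LD3_c13))))))
theorem f152951 : Led Lsl_ct (LP (LK LD1_c9 LD2_c15 LD3_c56)) = (LP (LK LD1_c4 LD2_c43 LD3_c24)) :=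
  Lgr Lrot152 (Lpr_gf (K7.f133286 IH) (Lpe (K7.f83966 IH) (Lpe (K5.f133300 IH) (Lpr_ct (K5.f127011 IH) (Lpr_gt (K5.f79571 IH) (Lpe (K5.f113592 IH) (Lpr_df (K7.f152831 IH) (Lpe (K7.f152816 IH) (Lpr_gf (K7.f152945 IH) (Lpn (LP (LK LD1_c4 LD2_c43 LD3_c24))))))))))))
theorem f152949 : Led Lsl_gt (LP (LK LD1_c3 LD2_c5 LD3_c51)) = (LP (LK LD1_c3 LD2_c7 LD3_c24)) :=
  Lgr Lrot94 (Lpe (K5.f61237 IH) (Lpr_gt (K7.f152863 IH) (Lpr_dt (K7.f83178 IH) (Lpe (K7.f152842 IH) (Lpr_dt (K5.f102185 IH) (Lpe (K4.f86318 IH) (Lpe (K5.f86314 IH) (Lpr_gf (K7.f152945 IH) (Lpr_df (K7.f152518 IH) (Lpn (LP (LK LD1_c3 LD2_c7 LD3_c24))))))))))))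
theorem f23512 : Led Lsl_bt (LP (LK LD1_c4 LD2_c44 LD3_c36)) = (LP (LK LD1_c4 LD2_c43 LD3_c59)) :=
  Lgr Lrot127 (Lpr_bf (K2.f23510 IH) (Lpn (LP (LK LD1_c4 LD2_c43 LD3_c59))))
theorem f113447 : Led Lsl_bt (LP (LK LD1_c2 LD2_c21 LD3_c42)) = (LP (LK LD1_c4 LD2_c47 LD3_c36)) :=
  Lre_b IH (LK LD1_c2 LD2_c21 LD3_c42) (LK LD1_c4 LD2_c47 LD3_c36) Lrfl Lrfl
theorem f133818 : Led Lsl_ct (LP (LK LD1_c4 LD2_c44 LD3_c36)) = (LP (LK LD1_c9 LD2_c15 LD3_c48)) :=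
  Lgr Lrot10 (Lpr_bt (f23512 IH) (Lpe (K6.f133813 IH) (Lpr_ct (K5.f133799 IH) (Lpe (K5.f133794 IH) (Lpe (K5.f57568 IH) (Lpe (K5.f133715 IH) (Lpr_gt (K5.f131323 IH) (Lpe (f113447 IH) (Lpr_ct (K4.f58121 IH) (Lpr_gt (K5.f113616 IH) (Lpn (LP (LK LD1_c9 LD2_c15 LD3_c48)))))))))))))
theorem f152953 : Led Lsl_df (LP (LK LD1_c9 LD2_c15 LD3_c56)) = (LP (LK LD1_c17 LD2_c10 LD3_c19)) :=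
  Lgr Lrot174 (Lpr_ct (f152951 IH) (Lpr_df (K7.f152518 IH) (Lpe (f152949 IH) (Lpe (K4.f61239 IH) (Lpr_gf (K4.f120019 IH) (Lpr_ct (f133818 IH) (Lpr_gt (K5.f66787 IH) (Lpr_dt (K5.f78442 IH) (Lpr_gt (f78444 IH) (Lpn (LP (LK LD1_c17 LD2_c10 LD3_c19))))))))))))
theorem f152955 : Led Lsl_dt (LP (LK LD1_c9 LD2_c15 LD3_c56)) = (LP (LK LD1_c17 LD2_c10 LD3_c19)) :=
  Lgr Lrot42 (Lpr_df (f152953 IH) (Lpn (LP (LK LD1_c17 LD2_c10 LD3_c19))))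
theorem f434027 : Led Lsl_gf (LP (LK LD1_c3 LD2_c9 LD3_c33)) = (LP (LK LD1_c3 LD2_c6 LD3_c1)) :=
  Lgr Lrot144 (Lpr_dt (f152909 IH) (Lpr_gt (f433990 IH) (Lpe (f431562 IH) (Lpe (K4.f58132 IH) (Lpe (K5.f58123 IH) (Lpe (f113566 IH) (Lpe (f152955 IH) (Lpr_gf (K7.f133286 IH) (Lpe (K5.f25714 IH) (Lpn (LP (LK LD1_c3 LD2_c6 LD3_c1))))))))))))
theorem f433663 : Led Lsl_dt (LP (LK LD1_c1 LD2_c30 LD3_c56)) = (LP (LK LD1_c3 LD2_c9 LD3_c33)) :=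
  Lre_d IH (LK LD1_c1 LD2_c30 LD3_c56) (LK LD1_c3 LD2_c9 LD3_c33) Lrfl Lrfl
theorem f98951 : Led Lsl_gt (LP (LK LD1_c1 LD2_c7 LD3_c41)) = (LP (LK LD1_c0 LD2_c31 LD3_c4)) :=
  Lre_g IH (LK LD1_c1 LD2_c7 LD3_c41) (LK LD1_c0 LD2_c31 LD3_c4) Lrfl Lrfl
theorem f434029 : Led Lsl_et (LP (LK LD1_c1 LD2_c30 LD3_c56)) = (LP (LK LD1_c1 LD2_c7 LD3_c41)) :=
  Lgr Lrot185 (Lpr_dt (f433663 IH) (Lpr_gf (f434027 IH) (Lpe (K5.f25713 IH) (Lpe (K4.f25712 IH) (Lpe (K3.f58745 IH) (Lpr_dt (K1.f58280 IH) (Lpe (K3.f98935 IH) (Lpe (K3.f97556 IH) (Lpr_et (K7.f98950 IH) (Lpe (f98951 IH) (Lpn (LP (LK LD1_c1 LD2_c7 LD3_c41)))))))))))))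
theorem f433994 : Led Lsl_bt (LP (LK LD1_c1 LD2_c30 LD3_c56)) = (LP (LK LD1_c1 LD2_c26 LD3_c48)) :=
  Lgr Lrot130 (Lpe (f153130 IH) (Lpr_gf (f433987 IH) (Lpe (K3.f66767 IH) (Lpr_bt (K3.f66788 IH) (Lpr_gf (K5.f135045 IH) (Lpe (K7.f155075 IH) (Lpr_ct (f155062 IH) (Lpe (f155080 IH) (Lpe (f432788 IH) (Lpe (K7.f155160 IH) (Lpn (LP (LK LD1_c1 LD2_c26 LD3_c48)))))))))))))
theorem f86079 : Led Lsl_bt (LP (LK LD1_c1 LD2_c6 LD3_c20)) = (LP (LK LD1_c0 LD2_c30 LD3_c20)) :=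
  Lre_b IH (LK LD1_c1 LD2_c6 LD3_c20) (LK LD1_c0 LD2_c30 LD3_c20) Lrfl Lrfl
theorem f86142 : Led Lsl_at (LP (LK LD1_c2 LD2_c18 LD3_c38)) = (LP (LK LD1_c1 LD2_c6 LD3_c20)) :=
  Lre_a IH (LK LD1_c2 LD2_c18 LD3_c38) (LK LD1_c1 LD2_c6 LD3_c20) Lrfl Lrfl
theorem f154123 : Led Lsl_bt (LP (LK LD1_c0 LD2_c18 LD3_c45)) = (LP (LK LD1_c0 LD2_c41 LD3_c60)) :=
  Lre_b IH (LK LD1_c0 LD2_c18 LD3_c45) (LK LD1_c0 LD2_c41 LD3_c60) Lrfl Lrfl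
theorem f154311 : Led Lsl_at (LP (LK LD1_c0 LD2_c41 LD3_c60)) = (LP (LK LD1_c1 LD2_c30 LD3_c61)) :=
  Lre_a IH (LK LD1_c0 LD2_c41 LD3_c60) (LK LD1_c1 LD2_c30 LD3_c61) Lrfl Lrfl
theorem f433580 : Led Lsl_bf (LP (LK LD1_c2 LD2_c18 LD3_c38)) = (LP (LK LD1_c1 LD2_c30 LD3_c61)) :=
  Lgr Lrot81 (Lpr_at (f86142 IH) (Lpr_bt (f86079 IH) (Lpr_at (f433578 IH) (Lpr_bt (f154123 IH) (Lpr_at (f154311 IH) (Lpn (LP (LK LD1_c1 LD2_c30 LD3_c61))))))))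
theorem f433996 : Led Lsl_ff (LP (LK LD1_c1 LD2_c30 LD3_c56)) = (LP (LK LD1_c2 LD2_c18 LD3_c38)) :=
  Lgr Lrot25 (Lpr_bt (f433994 IH) (Lpr_ft (K7.f155162 IH) (Lpe (f433580 IH) (Lpn (LP (LK LD1_c2 LD2_c18 LD3_c38))))))
theorem f86083 : Led Lsl_et (LP (LK LD1_c1 LD2_c6 LD3_c21)) = (LP (LK LD1_c2 LD2_c18 LD3_c41)) :=
  Lre_e IH (LK LD1_c1 LD2_c6 LD3_c21) (LK LD1_c2 LD2_c18 LD3_c41) Lrfl Lrfl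
theorem f86084 : Led Lsl_df (LP (LK LD1_c2 LD2_c18 LD3_c41)) = (LP (LK LD1_c2 LD2_c18 LD3_c41)) :=
  Lgr Lrot70 (Lpr_et (f86082 IH) (Lpr_dt (K7.f25811 IH) (Lpr_et (K7.f86067 IH) (Lpr_dt (K7.f25801 IH) (Lpr_et (f86083 IH) (Lpn (LP (LK LD1_c2 LD2_c18 LD3_c41))))))))
theorem f86086 : Led Lsl_bt (LP (LK LD1_c2 LD2_c18 LD3_c41)) = (LP (LK LD1_c4 LD2_c42 LD3_c29)) :=
  Lre_b IH (LK LD1_c2 LD2_c18 LD3_c41) (LK LD1_c4 LD2_c42 LD3_c29) Lrfl Lrfl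
theorem f86087 : Led Lsl_bt (LP (LK LD1_c4 LD2_c42 LD3_c29)) = (LP (LK LD1_c2 LD2_c18 LD3_c41)) :=
  Lre_b IH (LK LD1_c4 LD2_c42 LD3_c29) (LK LD1_c2 LD2_c18 LD3_c41) Lrfl Lrfl
theorem f86088 : Led Lsl_dt (LP (LK LD1_c4 LD2_c42 LD3_c29)) = (LP (LK LD1_c4 LD2_c42 LD3_c29)) :=
  Lgr Lrot79 (Lpe (f86086 IH) (Lpr_df (f86084 IH) (Lpe (f86087 IH) (Lpn (LP (LK LD1_c4 LD2_c42 LD3_c29))))))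
theorem f86105 : Led Lsl_at (LP (LK LD1_c9 LD2_c19 LD3_c13)) = (LP (LK LD1_c4 LD2_c42 LD3_c29)) :=
  Lre_a IH (LK LD1_c9 LD2_c19 LD3_c13) (LK LD1_c4 LD2_c42 LD3_c29) Lrfl Lrfl
theorem f86106 : Led Lsl_at (LP (LK LD1_c4 LD2_c42 LD3_c29)) = (LP (LK LD1_c9 LD2_c19 LD3_c13)) :=
  Lre_a IH (LK LD1_c4 LD2_c42 LD3_c29) (LK LD1_c9 LD2_c19 LD3_c13) Lrfl Lrfl
theorem f86107 : Led Lsl_df (LP (LK LD1_c9 LD2_c19 LD3_c13)) = (LP (LK LD1_c9 LD2_c19 LD3_c13)) :=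
  Lgr Lrot18 (Lpr_at (f86105 IH) (Lpr_dt (f86088 IH) (Lpr_at (f86106 IH) (Lpn (LP (LK LD1_c9 LD2_c19 LD3_c13))))))
theorem f86134 : Led Lsl_et (LP (LK LD1_c9 LD2_c19 LD3_c13)) = (LP (LK LD1_c4 LD2_c42 LD3_c27)) :=
  Lre_e IH (LK LD1_c9 LD2_c19 LD3_c13) (LK LD1_c4 LD2_c42 LD3_c27) Lrfl Lrfl
theorem f86135 : Led Lsl_dt (LP (LK LD1_c4 LD2_c42 LD3_c27)) = (LP (LK LD1_c2 LD2_c18 LD3_c38)) :=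
  Lre_d IH (LK LD1_c4 LD2_c42 LD3_c27) (LK LD1_c2 LD2_c18 LD3_c38) Lrfl Lrfl
theorem f86136 : Led Lsl_et (LP (LK LD1_c4 LD2_c42 LD3_c27)) = (LP (LK LD1_c9 LD2_c19 LD3_c13)) :=
  Lre_e IH (LK LD1_c4 LD2_c42 LD3_c27) (LK LD1_c9 LD2_c19 LD3_c13) Lrfl Lrfl
theorem f86137 : Led Lsl_dt (LP (LK LD1_c2 LD2_c18 LD3_c38)) = (LP (LK LD1_c4 LD2_c42 LD3_c27)) :=
  Lre_d IH (LK LD1_c2 LD2_c18 LD3_c38) (LK LD1_c4 LD2_c42 LD3_c27) Lrfl Lrfl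
theorem f86138 : Led Lsl_et (LP (LK LD1_c2 LD2_c18 LD3_c38)) = (LP (LK LD1_c2 LD2_c18 LD3_c38)) :=
  Lgr Lrot71 (Lpe (f86135 IH) (Lpe (f86134 IH) (Lpr_df (f86107 IH) (Lpe (f86136 IH) (Lpe (f86137 IH) (Lpn (LP (LK LD1_c2 LD2_c18 LD3_c38))))))))
theorem f433671 : Led Lsl_ft (LP (LK LD1_c1 LD2_c30 LD3_c56)) = (LP (LK LD1_c2 LD2_c18 LD3_c38)) :=
  Lgr Lrot54 (Lpe (f152909 IH) (Lpr_ff (f433664 IH) (Lpe (f86137 IH) (Lpn (LP (LK LD1_c2 LD2_c18 LD3_c38))))))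
theorem f434035 : Led Lsl_ef (LP (LK LD1_c1 LD2_c30 LD3_c56)) = (LP (LK LD1_c1 LD2_c7 LD3_c41)) :=
  Lgr Lrot88 (Lpr_et (f434029 IH) (Lpn (LP (LK LD1_c1 LD2_c7 LD3_c41))))
theorem f434037 : Led Lsl_ff (LP (LK LD1_c1 LD2_c7 LD3_c41)) = (LP (LK LD1_c1 LD2_c7 LD3_c41)) :=
  Lgr Lrot72 (Lpe (f434035 IH) (Lpr_ft (f433671 IH) (Lpr_et (f86138 IH) (Lpe (f433996 IH) (Lpr_et (f434029 IH) (Lpn (LP (LK LD1_c1 LD2_c7 LD3_c41))))))))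
theorem f433227 : Led Lsl_af (LP (LK LD1_c1 LD2_c26 LD3_c48)) = (LP (LK LD1_c0 LD2_c48 LD3_c53)) :=
  Lgr Lrot0 (Lpr_at (f433223 IH) (Lpn (LP (LK LD1_c0 LD2_c48 LD3_c53))))
theorem f433594 : Led Lsl_bf (LP (LK LD1_c1 LD2_c30 LD3_c56)) = (LP (LK LD1_c1 LD2_c26 LD3_c48)) :=
  Lgr Lrot81 (Lpr_at (f83182 IH) (Lpr_bt (K7.f83153 IH) (Lpr_at (f433590 IH) (Lpr_bt (f143296 IH) (Lpe (f433227 IH) (Lpn (LP (LK LD1_c1 LD2_c26 LD3_c48))))))))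
theorem f434033 : Led Lsl_bf (LP (LK LD1_c0 LD2_c44 LD3_c5)) = (LP (LK LD1_c1 LD2_c7 LD3_c41)) :=
  Lgr Lrot96 (Lpe (f105730 IH) (Lpe (f433594 IH) (Lpr_et (f434029 IH) (Lpn (LP (LK LD1_c1 LD2_c7 LD3_c41))))))
theorem f433221 : Led Lsl_at (LP (LK LD1_c0 LD2_c44 LD3_c5)) = (LP (LK LD1_c0 LD2_c43 LD3_c12)) :=
  Lgr Lrot100 (Lpr_af (f433219 IH) (Lpn (LP (LK LD1_c0 LD2_c43 LD3_c12))))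
theorem f433225 : Led Lsl_ft (LP (LK LD1_c0 LD2_c44 LD3_c5)) = (LP (LK LD1_c0 LD2_c44 LD3_c5)) :=
  Lgr Lrot101 (Lpr_af (f433219 IH) (Lpe (f433217 IH) (Lpe (f433221 IH) (Lpn (LP (LK LD1_c0 LD2_c44 LD3_c5))))))
theorem f434041 : Led Lsl_bt (LP (LK LD1_c0 LD2_c44 LD3_c5)) = (LP (LK LD1_c1 LD2_c7 LD3_c41)) :=
  Lgr Lrot35 (Lpe (f433225 IH) (Lpr_bf (f434033 IH) (Lpr_ff (f434037 IH) (Lpn (LP (LK LD1_c1 LD2_c7 LD3_c41))))))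
theorem f102290 : Led Lsl_ct (LP (LK LD1_c0 LD2_c31 LD3_c4)) = (LP (LK LD1_c1 LD2_c7 LD3_c39)) :=
  Lre_c IH (LK LD1_c0 LD2_c31 LD3_c4) (LK LD1_c1 LD2_c7 LD3_c39) Lrfl Lrfl
theorem f430285 : Led Lsl_gt (LP (LK LD1_c1 LD2_c34 LD3_c5)) = (LP (LK LD1_c1 LD2_c49 LD3_c48)) :=
  Lgr Lrot46 (Lpr_gf (f430283 IH) (Lpe (K2.f95566 IH) (Lpr_at (K2.f95555 IH) (Lpn (LP (LK LD1_c1 LD2_c49 LD3_c48))))))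
theorem f62828 : Led Lsl_gt (LP (LK LD1_c0 LD2_c23 LD3_c38)) = (LP (LK LD1_c0 LD2_c10 LD3_c36)) :=
  Lre_g IH (LK LD1_c0 LD2_c23 LD3_c38) (LK LD1_c0 LD2_c10 LD3_c36) Lrfl Lrfl
theorem f85041 : Led Lsl_gt (LP (LK LD1_c0 LD2_c23 LD3_c29)) = (LP (LK LD1_c0 LD2_c23 LD3_c38)) :=
  Lgr Lrot5 (Lpr_ft (K2.f85026 IH) (Lpr_at (K2.f85030 IH) (Lpe (f62828 IH) (Lpn (LP (LK LD1_c0 LD2_c23 LD3_c38))))))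
theorem f434043 : Led Lsl_ct (LP (LK LD1_c0 LD2_c44 LD3_c5)) = (LP (LK LD1_c0 LD2_c23 LD3_c38)) :=
  Lgr Lrot10 (Lpr_bt (f434041 IH) (Lpr_gt (f98951 IH) (Lpr_ct (f102290 IH) (Lpr_gt (K7.f152943 IH) (Lpe (f152931 IH) (Lpr_bt (f154155 IH) (Lpr_gt (f430285 IH) (Lpe (K2.f85045 IH) (Lpr_ct (K2.f85037 IH) (Lpr_gt (f85041 IH) (Lpn (LP (LK LD1_c0 LD2_c23 LD3_c38)))))))))))))
theorem f434045 : Led Lsl_cf (LP (LK LD1_c0 LD2_c44 LD3_c5)) = (LP (LK LD1_c0 LD2_c23 LD3_c38)) :=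
  Lgr Lrot11 (Lpr_ct (f434043 IH) (Lpn (LP (LK LD1_c0 LD2_c23 LD3_c38))))
theorem f434049 : Led Lsl_ff (LP (LK LD1_c0 LD2_c23 LD3_c38)) = (LP (LK LD1_c0 LD2_c23 LD3_c38)) :=
  Lgr Lrot23 (Lpe (f434045 IH) (Lpr_ft (f433225 IH) (Lpr_ct (f434043 IH) (Lpn (LP (LK LD1_c0 LD2_c23 LD3_c38))))))
theorem f434047 : Led Lsl_ef (LP (LK LD1_c0 LD2_c47 LD3_c5)) = (LP (LK LD1_c0 LD2_c23 LD3_c38)) :=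
  Lgr Lrot28 (Lpr_ct (f432800 IH) (Lpr_et (f105728 IH) (Lpr_ct (f434043 IH) (Lpn (LP (LK LD1_c0 LD2_c23 LD3_c38))))))
theorem f9999 : Led Lsl_et (LP (LK LD1_c0 LD2_c9 LD3_c55)) = (LP (LK LD1_c0 LD2_c9 LD3_c55)) :=
  Lgr Lrot158 (Lpe (K7.f9961 IH) (Lpr_ef (K0.f9994 IH) (Lpe (K7.f9959 IH) (Lpn (LP (LK LD1_c0 LD2_c9 LD3_c55))))))
theorem f10021 : Led Lsl_ef (LP (LK LD1_c0 LD2_c21 LD3_c57)) = (LP (LK LD1_c0 LD2_c21 LD3_c57)) :=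
  Lgr Lrot29 (Lpr_bt (f10020 IH) (Lpr_et (f9999 IH) (Lpr_bt (K7.f9998 IH) (Lpn (LP (LK LD1_c0 LD2_c21 LD3_c57))))))
theorem f10025 : Led Lsl_et (LP (LK LD1_c0 LD2_c48 LD3_c56)) = (LP (LK LD1_c0 LD2_c48 LD3_c56)) :=
  Lgr Lrot123 (Lpe (f10023 IH) (Lpr_ef (f10021 IH) (Lpe (f10024 IH) (Lpn (LP (LK LD1_c0 LD2_c48 LD3_c56))))))
theorem f434051 : Led Lsl_et (LP (LK LD1_c0 LD2_c47 LD3_c5)) = (LP (LK LD1_c0 LD2_c23 LD3_c38)) :=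
  Lgr Lrot69 (Lpr_ff (f433136 IH) (Lpe (f10025 IH) (Lpe (f433134 IH) (Lpr_ef (f434047 IH) (Lpr_ff (f434049 IH) (Lpn (LP (LK LD1_c0 LD2_c23 LD3_c38))))))))
theorem f434053 : Led Lsl_bf (LP (LK LD1_c0 LD2_c23 LD3_c38)) = (LP (LK LD1_c0 LD2_c23 LD3_c38)) :=
  Lgr Lrot96 (Lpe (f434047 IH) (Lpr_bt (f432808 IH) (Lpr_et (f434051 IH) (Lpn (LP (LK LD1_c0 LD2_c23 LD3_c38))))))
theorem f430223 : Led Lsl_gf (LP (LK LD1_c0 LD2_c23 LD3_c32)) = (LP (LK LD1_c0 LD2_c50 LD3_c12)) :=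
  Lgr Lrot129 (Lpr_cf (f124407 IH) (Lpr_bt (K7.f124397 IH) (Lpr_gt (f430196 IH) (Lpe (f4010 IH) (Lpr_ct (f4007 IH) (Lpe (f4005 IH) (Lpe (K7.f5002 IH) (Lpr_bt (f4913 IH) (Lpr_gt (f4015 IH) (Lpr_ct (f4017 IH) (Lpn (LP (LK LD1_c0 LD2_c50 LD3_c12)))))))))))))
theorem f430281 : Led Lsl_gt (LP (LK LD1_c0 LD2_c51 LD3_c59)) = (LP (LK LD1_c0 LD2_c50 LD3_c12)) :=
  Lgr Lrot5 (Lpe (K7.f85190 IH) (Lpr_at (K7.f85188 IH) (Lpr_gf (f430223 IH) (Lpn (LP (LK LD1_c0 LD2_c50 LD3_c12))))))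
theorem f430200 : Led Lsl_bt (LP (LK LD1_c0 LD2_c22 LD3_c38)) = (LP (LK LD1_c0 LD2_c50 LD3_c11)) :=
  Lre_b IH (LK LD1_c0 LD2_c22 LD3_c38) (LK LD1_c0 LD2_c50 LD3_c11) Lrfl Lrfl
theorem f65426 : Led Lsl_ct (LP (LK LD1_c1 LD2_c34 LD3_c28)) = (LP (LK LD1_c0 LD2_c43 LD3_c58)) :=
  Lre_c IH (LK LD1_c1 LD2_c34 LD3_c28) (LK LD1_c0 LD2_c43 LD3_c58) Lrfl Lrfl
theorem f434057 : Led Lsl_gt (LP (LK LD1_c0 LD2_c50 LD3_c11)) = (LP (LK LD1_c1 LD2_c34 LD3_c28)) :=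
  Lgr Lrot82 (Lpe (f430200 IH) (Lpr_ct (f4017 IH) (Lpe (f430281 IH) (Lpe (K7.f124413 IH) (Lpr_bt (K2.f85183 IH) (Lpe (f62828 IH) (Lpr_bf (f434053 IH) (Lpe (f434045 IH) (Lpr_gf (f65429 IH) (Lpe (f65426 IH) (Lpn (LP (LK LD1_c1 LD2_c34 LD3_c28)))))))))))))
theorem f85147 : Led Lsl_et (LP (LK LD1_c0 LD2_c10 LD3_c34)) = (LP (LK LD1_c0 LD2_c23 LD3_c35)) :=
  Lre_e IH (LK LD1_c0 LD2_c10 LD3_c34) (LK LD1_c0 LD2_c23 LD3_c35) Lrfl Lrfl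
theorem f126170 : Led Lsl_ef (LP (LK LD1_c0 LD2_c52 LD3_c5)) = (LP (LK LD1_c1 LD2_c41 LD3_c4)) :=
  Lgr Lrot114 (Lpr_gt (f85056 IH) (Lpe (f85147 IH) (Lpr_dt (K1.f12416 IH) (Lpr_gt (K3.f65668 IH) (Lpe (K3.f109196 IH) (Lpr_et (K3.f109194 IH) (Lpr_gt (K3.f109186 IH) (Lpr_dt (K7.f64519 IH) (Lpr_gt (K7.f126168 IH) (Lpe (K7.f62661 IH) (Lpn (LP (LK LD1_c1 LD2_c41 LD3_c4)))))))))))))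
theorem f126172 : Led Lsl_et (LP (LK LD1_c0 LD2_c52 LD3_c5)) = (LP (LK LD1_c1 LD2_c41 LD3_c4)) :=
  Lgr Lrot87 (Lpr_ef (f126170 IH) (Lpn (LP (LK LD1_c1 LD2_c41 LD3_c4))))
theorem f143268 : Led Lsl_bt (LP (LK LD1_c0 LD2_c45 LD3_c57)) = (LP (LK LD1_c1 LD2_c39 LD3_c2)) :=
  Lre_b IH (LK LD1_c0 LD2_c45 LD3_c57) (LK LD1_c1 LD2_c39 LD3_c2) Lrfl Lrfl
theorem f155089 : Led Lsl_bf (LP (LK LD1_c1 LD2_c39 LD3_c3)) = (LP (LK LD1_c1 LD2_c41 LD3_c4)) :=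
  Lgr Lrot90 (Lpr_ct (K7.f21141 IH) (Lpr_bt (f143268 IH) (Lpe (K6.f143265 IH) (Lpr_bt (K7.f143267 IH) (Lpr_ct (K7.f155087 IH) (Lpn (LP (LK LD1_c1 LD2_c41 LD3_c4))))))))
theorem f430231 : Led Lsl_et (LP (LK LD1_c1 LD2_c39 LD3_c3)) = (LP (LK LD1_c0 LD2_c51 LD3_c24)) :=
  Lgr Lrot74 (Lpr_bf (f155089 IH) (Lpe (f126172 IH) (Lpr_bf (f430225 IH) (Lpn (LP (LK LD1_c0 LD2_c51 LD3_c24))))))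
theorem f430243 : Led Lsl_ef (LP (LK LD1_c1 LD2_c39 LD3_c3)) = (LP (LK LD1_c0 LD2_c51 LD3_c24)) :=
  Lgr Lrot88 (Lpr_et (f430231 IH) (Lpn (LP (LK LD1_c0 LD2_c51 LD3_c24))))
theorem f430247 : Led Lsl_et (LP (LK LD1_c0 LD2_c45 LD3_c57)) = (LP (LK LD1_c0 LD2_c23 LD3_c11)) :=
  Lgr Lrot158 (Lpe (K7.f21141 IH) (Lpr_ef (f430243 IH) (Lpe (f124182 IH) (Lpn (LP (LK LD1_c0 LD2_c23 LD3_c11))))))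
theorem f430203 : Led Lsl_et (LP (LK LD1_c1 LD2_c43 LD3_c11)) = (LP (LK LD1_c0 LD2_c50 LD3_c11)) :=
  Lgr Lrot158 (Lpr_cf (K7.f155083 IH) (Lpe (f126172 IH) (Lpr_cf (f430198 IH) (Lpn (LP (LK LD1_c0 LD2_c50 LD3_c11))))))
theorem f430213 : Led Lsl_ef (LP (LK LD1_c1 LD2_c43 LD3_c11)) = (LP (LK LD1_c0 LD2_c50 LD3_c11)) :=
  Lgr Lrot88 (Lpr_et (f430203 IH) (Lpn (LP (LK LD1_c0 LD2_c50 LD3_c11))))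
theorem f430215 : Led Lsl_et (LP (LK LD1_c0 LD2_c48 LD3_c13)) = (LP (LK LD1_c0 LD2_c22 LD3_c38)) :=
  Lgr Lrot74 (Lpe (K7.f10363 IH) (Lpr_ef (f430213 IH) (Lpe (f430200 IH) (Lpn (LP (LK LD1_c0 LD2_c22 LD3_c38))))))
theorem f430217 : Led Lsl_ef (LP (LK LD1_c1 LD2_c39 LD3_c2)) = (LP (LK LD1_c0 LD2_c50 LD3_c12)) :=
  Lgr Lrot28 (Lpe (K6.f143265 IH) (Lpr_et (f430215 IH) (Lpr_ct (f4017 IH) (Lpn (LP (LK LD1_c0 LD2_c50 LD3_c12))))))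
theorem f430249 : Led Lsl_bf (LP (LK LD1_c0 LD2_c50 LD3_c12)) = (LP (LK LD1_c0 LD2_c23 LD3_c11)) :=
  Lgr Lrot96 (Lpe (f430217 IH) (Lpr_bt (K6.f21143 IH) (Lpr_et (f430247 IH) (Lpn (LP (LK LD1_c0 LD2_c23 LD3_c11))))))
theorem f107211 : Led Lsl_et (LP (LK LD1_c0 LD2_c50 LD3_c46)) = (LP (LK LD1_c1 LD2_c47 LD3_c61)) :=
  Lre_e IH (LK LD1_c0 LD2_c50 LD3_c46) (LK LD1_c1 LD2_c47 LD3_c61) Lrfl Lrfl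
theorem f430245 : Led Lsl_gt (LP (LK LD1_c1 LD2_c47 LD3_c61)) = (LP (LK LD1_c0 LD2_c51 LD3_c24)) :=
  Lgr Lrot131 (Lpe (f107211 IH) (Lpr_dt (K7.f107210 IH) (Lpr_gf (K7.f124873 IH) (Lpe (K5.f124837 IH) (Lpe (K5.f124833 IH) (Lpe (K7.f144199 IH) (Lpr_dt (K5.f12437 IH) (Lpr_gf (K7.f144233 IH) (Lpe (K7.f21151 IH) (Lpr_et (f430231 IH) (Lpn (LP (LK LD1_c0 LD2_c51 LD3_c24)))))))))))))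
theorem f107218 : Led Lsl_et (LP (LK LD1_c1 LD2_c47 LD3_c61)) = (LP (LK LD1_c0 LD2_c50 LD3_c46)) :=
  Lre_e IH (LK LD1_c1 LD2_c47 LD3_c61) (LK LD1_c0 LD2_c50 LD3_c46) Lrfl Lrfl
theorem f107219 : Led Lsl_cf (LP (LK LD1_c1 LD2_c47 LD3_c61)) = (LP (LK LD1_c1 LD2_c39 LD3_c35)) :=
  Lgr Lrot39 (Lpr_et (f107218 IH) (Lpr_ct (K3.f107208 IH) (Lpr_et (K3.f94281 IH) (Lpn (LP (LK LD1_c1 LD2_c39 LD3_c35))))))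
theorem f434063 : Led Lsl_bt (LP (LK LD1_c1 LD2_c39 LD3_c35)) = (LP (LK LD1_c1 LD2_c34 LD3_c28)) :=
  Lgr Lrot92 (Lpe (f107219 IH) (Lpr_gt (f430245 IH) (Lpe (f124182 IH) (Lpe (f430249 IH) (Lpe (f430223 IH) (Lpr_ct (K7.f124413 IH) (Lpr_gt (f430281 IH) (Lpe (f4017 IH) (Lpr_bt (f430200 IH) (Lpr_gt (f434057 IH) (Lpn (LP (LK LD1_c1 LD2_c34 LD3_c28)))))))))))))
theorem f434065 : Led Lsl_bf (LP (LK LD1_c1 LD2_c39 LD3_c35)) = (LP (LK LD1_c1 LD2_c34 LD3_c28)) :=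
  Lgr Lrot24 (Lpr_bt (f434063 IH) (Lpn (LP (LK LD1_c1 LD2_c34 LD3_c28))))
theorem f447694 : Led Lsl_cf (LP (LK LD1_c0 LD2_c43 LD3_c12)) = K7.v98 :=
  Lgr Lrot125 (Lpr_gt (f154939 IH) (Lpe (f65426 IH) (Lpe (f434065 IH) (Lpe (f430279 IH) (Lpe (f430210 IH) (Lpr_ct (f4008 IH) (Lpe (f430207 IH) (Lpe (K7.f124413 IH) (Lpr_bt (K2.f85183 IH) (Lpr_gt (K7.f447691 IH) (Lpn K7.v98)))))))))))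
theorem f154941 : Led Lsl_gf (LP (LK LD1_c0 LD2_c43 LD3_c12)) = (LP (LK LD1_c0 LD2_c19 LD3_c41)) :=
  Lgr Lrot47 (Lpr_gt (f154939 IH) (Lpe (K4.f65418 IH) (Lpe (K4.f65419 IH) (Lpn (LP (LK LD1_c0 LD2_c19 LD3_c41))))))
theorem f65431 : Led Lsl_ct (LP (LK LD1_c0 LD2_c44 LD3_c2)) = (LP (LK LD1_c0 LD2_c19 LD3_c41)) :=
  Lre_c IH (LK LD1_c0 LD2_c44 LD3_c2) (LK LD1_c0 LD2_c19 LD3_c41) Lrfl Lrfl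
theorem f65439 : Led Lsl_gt (LP (LK LD1_c1 LD2_c34 LD3_c40)) = (LP (LK LD1_c0 LD2_c44 LD3_c2)) :=
  Lre_g IH (LK LD1_c1 LD2_c34 LD3_c40) (LK LD1_c0 LD2_c44 LD3_c2) Lrfl Lrfl
theorem f447702 : Led Lsl_bt (LP (LK LD1_c1 LD2_c39 LD3_c39)) = (LP (LK LD1_c1 LD2_c34 LD3_c40)) :=
  Lgr Lrot130 (Lpr_ct (f431024 IH) (Lpe (f124164 IH) (Lpe (K7.f124170 IH) (Lpr_bt (K7.f124160 IH) (Lpr_gf (f446775 IH) (Lpr_bf (f447697 IH) (Lpe (f447694 IH) (Lpr_gf (f154941 IH) (Lpe (f65431 IH) (Lpe (f65439 IH) (Lpn (LP (LK LD1_c1 LD2_c34 LD3_c40)))))))))))))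
theorem f447703 : Led Lsl_bt (LP (LK LD1_c1 LD2_c39 LD3_c39)) = (LP (LK LD1_c1 LD2_c34 LD3_c40)) :=
  Leop (Lpe (f447702 IH) (Lpn (LP (LK LD1_c1 LD2_c39 LD3_c39))))
theorem seed_17 : LEOK LG_b (LK LD1_c1 LD2_c39 LD3_c39) :=
  Leoe_b (LK LD1_c1 LD2_c39 LD3_c39) (f447703 IH)
def v106 : LQ := Led Lsl_dt (LP (LK LD1_c0 LD2_c10 LD3_c54))
theorem f448781 : Led Lsl_dt (LP (LK LD1_c0 LD2_c10 LD3_c54)) = v106 :=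
  Lrfl
def v86 : LQ := Led Lsl_dt (LP (LK LD1_c0 LD2_c9 LD3_c54))
theorem f447632 : Led Lsl_dt (LP (LK LD1_c0 LD2_c9 LD3_c54)) = v86 :=
  Lrfl
theorem f447633 : Led Lsl_df (LP (LK LD1_c0 LD2_c9 LD3_c54)) = v86 :=
  Lgr Lrot38 (Lpr_dt (f447632 IH) (Lpn v86))
theorem f448784 : Led Lsl_gf v86 = v106 :=
  Lgr Lrot143 (Lpe (f447633 IH) (Lpe (K7.f4932 IH) (Lpr_df (K0.f9992 IH) (Lpr_gf (K6.f10360 IH) (Lpe (K0.f9954 IH) (Lpr_gf (K0.f10989 IH) (Lpe (K0.f7398 IH) (Lpr_gt (K5.f11109 IH) (Lpr_dt (f448781 IH) (Lpn v106))))))))))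
theorem f9997 : Led Lsl_dt (LP (LK LD1_c0 LD2_c21 LD3_c58)) = (LP (LK LD1_c0 LD2_c9 LD3_c55)) :=
  Lre_d IH (LK LD1_c0 LD2_c21 LD3_c58) (LK LD1_c0 LD2_c9 LD3_c55) Lrfl Lrfl
theorem f447634 : Led Lsl_ff (LP (LK LD1_c0 LD2_c21 LD3_c58)) = v86 :=
  Lgr Lrot19 (Lpr_dt (f9997 IH) (Lpe (f433168 IH) (Lpr_dt (f447632 IH) (Lpn v86))))
theorem f447636 : Led Lsl_ft (LP (LK LD1_c0 LD2_c21 LD3_c58)) = v86 :=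
  Lgr Lrot48 (Lpr_ff (f447634 IH) (Lpn v86))
theorem f433148 : Led Lsl_bf (LP (LK LD1_c1 LD2_c44 LD3_c35)) = (LP (LK LD1_c1 LD2_c44 LD3_c35)) :=
  Lgr Lrot93 (Lpr_dt (f10030 IH) (Lpr_bt (f433138 IH) (Lpr_dt (f10031 IH) (Lpn (LP (LK LD1_c1 LD2_c44 LD3_c35))))))
theorem f155183 : Led Lsl_at (LP (LK LD1_c1 LD2_c44 LD3_c35)) = (LP (LK LD1_c0 LD2_c48 LD3_c57)) :=
  Lre_a IH (LK LD1_c1 LD2_c44 LD3_c35) (LK LD1_c0 LD2_c48 LD3_c57) Lrfl Lrfl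
theorem f12176 : Led Lsl_bt (LP (LK LD1_c0 LD2_c48 LD3_c57)) = (LP (LK LD1_c0 LD2_c21 LD3_c58)) :=
  Lre_b IH (LK LD1_c0 LD2_c48 LD3_c57) (LK LD1_c0 LD2_c21 LD3_c58) Lrfl Lrfl
theorem f433150 : Led Lsl_at (LP (LK LD1_c0 LD2_c48 LD3_c57)) = (LP (LK LD1_c1 LD2_c44 LD3_c35)) :=
  Lre_a IH (LK LD1_c0 LD2_c48 LD3_c57) (LK LD1_c1 LD2_c44 LD3_c35) Lrfl Lrfl
theorem f432844 : Led Lsl_bt (LP (LK LD1_c0 LD2_c21 LD3_c58)) = (LP (LK LD1_c0 LD2_c48 LD3_c57)) :=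
  Lre_b IH (LK LD1_c0 LD2_c21 LD3_c58) (LK LD1_c0 LD2_c48 LD3_c57) Lrfl Lrfl
theorem f433151 : Led Lsl_at (LP (LK LD1_c0 LD2_c21 LD3_c58)) = (LP (LK LD1_c0 LD2_c21 LD3_c58)) :=
  Lgr Lrot67 (Lpe (f12176 IH) (Lpe (f155183 IH) (Lpr_bf (f433148 IH) (Lpe (f433150 IH) (Lpe (f432844 IH) (Lpn (LP (LK LD1_c0 LD2_c21 LD3_c58))))))))
theorem f447637 : Led Lsl_af v86 = v86 :=
  Lgr Lrot45 (Lpe (f447634 IH) (Lpr_at (f433151 IH) (Lpr_ft (f447636 IH) (Lpn v86))))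
theorem f448785 : Led Lsl_gt (LP (LK LD1_c0 LD2_c21 LD3_c58)) = v106 :=
  Lgr Lrot5 (Lpr_ft (f447636 IH) (Lpe (f447637 IH) (Lpr_gf (f448784 IH) (Lpn v106))))
theorem f429049 : Led Lsl_et (LP (LK LD1_c1 LD2_c44 LD3_c21)) = (LP (LK LD1_c1 LD2_c32 LD3_c10)) :=
  Lgr Lrot158 (Lpr_cf (K7.f429047 IH) (Lpe (K4.f94085 IH) (Lpe (K2.f83506 IH) (Lpn (LP (LK LD1_c1 LD2_c32 LD3_c10))))))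
theorem f154816 : Led Lsl_et (LP (LK LD1_c3 LD2_c9 LD3_c6)) = (LP (LK LD1_c6 LD2_c22 LD3_c50)) :=
  Lre_e IH (LK LD1_c3 LD2_c9 LD3_c6) (LK LD1_c6 LD2_c22 LD3_c50) Lrfl Lrfl
theorem f83643 : Led Lsl_et (LP (LK LD1_c6 LD2_c27 LD3_c32)) = (LP (LK LD1_c3 LD2_c11 LD3_c40)) :=
  Lre_e IH (LK LD1_c6 LD2_c27 LD3_c32) (LK LD1_c3 LD2_c11 LD3_c40) Lrfl Lrfl
theorem f429660 : Led Lsl_dt (LP (LK LD1_c6 LD2_c22 LD3_c50)) = (LP (LK LD1_c6 LD2_c27 LD3_c32)) :=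
  Lgr Lrot77 (Lpe (f154816 IH) (Lpe (K7.f154808 IH) (Lpe (f429049 IH) (Lpr_df (K7.f429053 IH) (Lpe (f83643 IH) (Lpn (LP (LK LD1_c6 LD2_c27 LD3_c32))))))))
theorem f429662 : Led Lsl_df (LP (LK LD1_c6 LD2_c22 LD3_c50)) = (LP (LK LD1_c6 LD2_c27 LD3_c32)) :=
  Lgr Lrot38 (Lpr_dt (f429660 IH) (Lpn (LP (LK LD1_c6 LD2_c27 LD3_c32))))
theorem f154810 : Led Lsl_et (LP (LK LD1_c6 LD2_c22 LD3_c50)) = (LP (LK LD1_c3 LD2_c9 LD3_c6)) :=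
  Lre_e IH (LK LD1_c6 LD2_c22 LD3_c50) (LK LD1_c3 LD2_c9 LD3_c6) Lrfl Lrfl
theorem f90414 : Led Lsl_et (LP (LK LD1_c3 LD2_c11 LD3_c40)) = (LP (LK LD1_c6 LD2_c27 LD3_c32)) :=
  Lre_e IH (LK LD1_c3 LD2_c11 LD3_c40) (LK LD1_c6 LD2_c27 LD3_c32) Lrfl Lrfl
theorem f429664 : Led Lsl_et (LP (LK LD1_c1 LD2_c32 LD3_c10)) = (LP (LK LD1_c1 LD2_c44 LD3_c21)) :=
  Lgr Lrot71 (Lpr_df (K7.f154797 IH) (Lpe (f154810 IH) (Lpr_df (f429662 IH) (Lpe (f90414 IH) (Lpe (K7.f429658 IH) (Lpn (LP (LK LD1_c1 LD2_c44 LD3_c21))))))))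
theorem f429666 : Led Lsl_ef (LP (LK LD1_c0 LD2_c53 LD3_c20)) = (LP (LK LD1_c1 LD2_c44 LD3_c34)) :=
  Lgr Lrot29 (Lpr_bt (K2.f84295 IH) (Lpr_et (f429664 IH) (Lpr_bt (K7.f429045 IH) (Lpn (LP (LK LD1_c1 LD2_c44 LD3_c34))))))
theorem f155099 : Led Lsl_dt (LP (LK LD1_c1 LD2_c44 LD3_c34)) = (LP (LK LD1_c3 LD2_c35 LD3_c26)) :=
  Lre_d IH (LK LD1_c1 LD2_c44 LD3_c34) (LK LD1_c3 LD2_c35 LD3_c26) Lrfl Lrfl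
theorem f429675 : Led Lsl_gt (LP (LK LD1_c3 LD2_c28 LD3_c33)) = (LP (LK LD1_c3 LD2_c35 LD3_c26)) :=
  Lgr Lrot112 (Lpe (K5.f17748 IH) (Lpr_et (K0.f17740 IH) (Lpe (K0.f9929 IH) (Lpe (K3.f88679 IH) (Lpr_dt (K3.f85328 IH) (Lpr_gf (K3.f88972 IH) (Lpe (K3.f86346 IH) (Lpe (K3.f88970 IH) (Lpr_ef (f429666 IH) (Lpr_dt (f155099 IH) (Lpn (LP (LK LD1_c3 LD2_c35 LD3_c26)))))))))))))
theorem f17751 : Led Lsl_bt (LP (LK LD1_c3 LD2_c25 LD3_c1)) = (LP (LK LD1_c3 LD2_c28 LD3_c33)) :=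
  Lgr Lrot127 (Lpr_bf (K6.f17749 IH) (Lpn (LP (LK LD1_c3 LD2_c28 LD3_c33))))
theorem f429681 : Led Lsl_bt (LP (LK LD1_c3 LD2_c11 LD3_c40)) = (LP (LK LD1_c3 LD2_c35 LD3_c26)) :=
  Lgr Lrot92 (Lpr_ct (K5.f83638 IH) (Lpe (K5.f86749 IH) (Lpe (K5.f86756 IH) (Lpr_bt (K5.f86757 IH) (Lpr_gt (K5.f86761 IH) (Lpr_ct (K5.f21077 IH) (Lpr_gt (K5.f24798 IH) (Lpe (K5.f86782 IH) (Lpr_bt (f17751 IH) (Lpr_gt (f429675 IH) (Lpn (LP (LK LD1_c3 LD2_c35 LD3_c26)))))))))))))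
theorem f429685 : Led Lsl_ff (LP (LK LD1_c3 LD2_c28 LD3_c22)) = (LP (LK LD1_c3 LD2_c35 LD3_c26)) :=
  Lgr Lrot25 (Lpr_bt (K3.f90390 IH) (Lpe (K6.f90410 IH) (Lpr_bt (f429681 IH) (Lpn (LP (LK LD1_c3 LD2_c35 LD3_c26))))))
theorem f79578 : Led Lsl_gt (LP (LK LD1_c6 LD2_c9 LD3_c54)) = (LP (LK LD1_c3 LD2_c18 LD3_c54)) :=
  Lre_g IH (LK LD1_c6 LD2_c9 LD3_c54) (LK LD1_c3 LD2_c18 LD3_c54) Lrfl Lrfl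
theorem f90666 : Led Lsl_at (LP (LK LD1_c6 LD2_c11 LD3_c46)) = (LP (LK LD1_c3 LD2_c18 LD3_c54)) :=
  Lgr Lrot26 (Lpr_ff (K6.f90659 IH) (Lpr_gt (K3.f58131 IH) (Lpr_gt (f79578 IH) (Lpn (LP (LK LD1_c3 LD2_c18 LD3_c54))))))
theorem f90616 : Led Lsl_at (LP (LK LD1_c6 LD2_c11 LD3_c47)) = (LP (LK LD1_c3 LD2_c18 LD3_c53)) :=
  Lgr Lrot107 (Lpr_cf (K3.f90614 IH) (Lpe (K3.f89116 IH) (Lpr_cf (K7.f88990 IH) (Lpn (LP (LK LD1_c3 LD2_c18 LD3_c53))))))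
theorem f90676 : Led Lsl_ff (LP (LK LD1_c6 LD2_c11 LD3_c47)) = (LP (LK LD1_c3 LD2_c18 LD3_c54)) :=
  Lgr Lrot30 (Lpr_at (f90616 IH) (Lpe (K6.f90659 IH) (Lpr_at (f90666 IH) (Lpn (LP (LK LD1_c3 LD2_c18 LD3_c54))))))
theorem f90683 : Led Lsl_ft (LP (LK LD1_c6 LD2_c11 LD3_c47)) = (LP (LK LD1_c3 LD2_c18 LD3_c54)) :=
  Lgr Lrot48 (Lpr_ff (f90676 IH) (Lpn (LP (LK LD1_c3 LD2_c18 LD3_c54))))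
theorem f429687 : Led Lsl_ct (LP (LK LD1_c3 LD2_c18 LD3_c54)) = (LP (LK LD1_c3 LD2_c35 LD3_c26)) :=
  Lgr Lrot40 (Lpe (f90683 IH) (Lpr_cf (K3.f90614 IH) (Lpr_ff (f429685 IH) (Lpn (LP (LK LD1_c3 LD2_c35 LD3_c26))))))
theorem f90680 : Led Lsl_dt (LP (LK LD1_c6 LD2_c41 LD3_c41)) = (LP (LK LD1_c3 LD2_c18 LD3_c54)) :=
  Lre_d IH (LK LD1_c6 LD2_c41 LD3_c41) (LK LD1_c3 LD2_c18 LD3_c54) Lrfl Lrfl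
theorem f155244 : Led Lsl_ct (LP (LK LD1_c3 LD2_c31 LD3_c4)) = (LP (LK LD1_c6 LD2_c24 LD3_c5)) :=
  Lgr Lrot59 (Lpr_cf (K7.f155208 IH) (Lpn (LP (LK LD1_c6 LD2_c24 LD3_c5))))
theorem f155282 : Led Lsl_gf (LP (LK LD1_c6 LD2_c9 LD3_c61)) = (LP (LK LD1_c6 LD2_c24 LD3_c5)) :=
  Lgr Lrot47 (Lpr_gt (f105709 IH) (Lpe (K7.f88704 IH) (Lpr_ff (K7.f155276 IH) (Lpn (LP (LK LD1_c6 LD2_c24 LD3_c5))))))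
theorem f429714 : Led Lsl_gf (LP (LK LD1_c6 LD2_c41 LD3_c41)) = (LP (LK LD1_c7 LD2_c11 LD3_c52)) :=
  Lgr Lrot154 (Lpr_dt (f90680 IH) (Lpr_ct (f429687 IH) (Lpe (f155099 IH) (Lpr_gf (K7.f155095 IH) (Lpe (K7.f88986 IH) (Lpe (K7.f126168 IH) (Lpr_ct (f155244 IH) (Lpe (f155282 IH) (Lpr_dt (K7.f155170 IH) (Lpn (LP (LK LD1_c7 LD2_c11 LD3_c52))))))))))))
theorem f85291 : Led Lsl_ct (LP (LK LD1_c1 LD2_c41 LD3_c8)) = (LP (LK LD1_c0 LD2_c47 LD3_c6)) :=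
  Lre_c IH (LK LD1_c1 LD2_c41 LD3_c8) (LK LD1_c0 LD2_c47 LD3_c6) Lrfl Lrfl
theorem f85338 : Led Lsl_dt (LP (LK LD1_c3 LD2_c28 LD3_c50)) = (LP (LK LD1_c1 LD2_c41 LD3_c8)) :=
  Lre_d IH (LK LD1_c3 LD2_c28 LD3_c50) (LK LD1_c1 LD2_c41 LD3_c8) Lrfl Lrfl
theorem f85851 : Led Lsl_dt (LP (LK LD1_c3 LD2_c18 LD3_c54)) = (LP (LK LD1_c6 LD2_c41 LD3_c41)) :=
  Lre_d IH (LK LD1_c3 LD2_c18 LD3_c54) (LK LD1_c6 LD2_c41 LD3_c41) Lrfl Lrfl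
theorem f90685 : Led Lsl_cf (LP (LK LD1_c3 LD2_c28 LD3_c50)) = (LP (LK LD1_c6 LD2_c41 LD3_c41)) :=
  Lgr Lrot118 (Lpr_dt (f85338 IH) (Lpr_ct (f85291 IH) (Lpr_dt (K3.f64290 IH) (Lpr_ct (K3.f85327 IH) (Lpr_dt (K3.f85328 IH) (Lpr_ct (K3.f88979 IH) (Lpe (f90616 IH) (Lpr_ff (f90676 IH) (Lpr_dt (f85851 IH) (Lpn (LP (LK LD1_c6 LD2_c41 LD3_c41))))))))))))
theorem f85603 : Led Lsl_dt (LP (LK LD1_c1 LD2_c53 LD3_c31)) = (LP (LK LD1_c3 LD2_c53 LD3_c47)) :=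
  Lre_d IH (LK LD1_c1 LD2_c53 LD3_c31) (LK LD1_c3 LD2_c53 LD3_c47) Lrfl Lrfl
theorem f155115 : Led Lsl_ct (LP (LK LD1_c3 LD2_c35 LD3_c30)) = (LP (LK LD1_c7 LD2_c11 LD3_c52)) :=
  Lre_c IH (LK LD1_c3 LD2_c35 LD3_c30) (LK LD1_c7 LD2_c11 LD3_c52) Lrfl Lrfl
theorem f429719 : Led Lsl_gt (LP (LK LD1_c3 LD2_c53 LD3_c47)) = (LP (LK LD1_c3 LD2_c35 LD3_c30)) :=
  Lgr Lrot9 (Lpe (f85603 IH) (Lpr_gt (K4.f12727 IH) (Lpr_ct (K4.f12722 IH) (Lpr_gt (K3.f85286 IH) (Lpr_ct (K3.f85295 IH) (Lpe (f85338 IH) (Lpr_cf (f90685 IH) (Lpr_gf (f429714 IH) (Lpe (f155115 IH) (Lpn (LP (LK LD1_c3 LD2_c35 LD3_c30))))))))))))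
theorem f114043 : Led Lsl_bt (LP (LK LD1_c7 LD2_c49 LD3_c8)) = (LP (LK LD1_c3 LD2_c53 LD3_c47)) :=
  Lre_b IH (LK LD1_c7 LD2_c49 LD3_c8) (LK LD1_c3 LD2_c53 LD3_c47) Lrfl Lrfl
theorem f86644 : Led Lsl_ct (LP (LK LD1_c14 LD2_c45 LD3_c11)) = (LP (LK LD1_c7 LD2_c49 LD3_c8)) :=
  Lre_c IH (LK LD1_c14 LD2_c45 LD3_c11) (LK LD1_c7 LD2_c49 LD3_c8) Lrfl Lrfl
theorem f448782 : Led Lsl_df (LP (LK LD1_c0 LD2_c10 LD3_c54)) = v106 :=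
  Lgr Lrot38 (Lpr_dt (f448781 IH) (Lpn v106))
theorem f145454 : Led Lsl_cf (LP (LK LD1_c0 LD2_c9 LD3_c23)) = (LP (LK LD1_c0 LD2_c10 LD3_c54)) :=
  Lgr Lrot11 (Lpr_ct (K6.f145452 IH) (Lpn (LP (LK LD1_c0 LD2_c10 LD3_c54))))
theorem f7333 : Led Lsl_gt (LP (LK LD1_c13 LD2_c2 LD3_c5)) = (LP (LK LD1_c22 LD2_c11 LD3_c45)) :=
  Lre_g IH (LK LD1_c13 LD2_c2 LD3_c5) (LK LD1_c22 LD2_c11 LD3_c45) Lrfl Lrfl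
theorem f448786 : Led Lsl_df (LP (LK LD1_c14 LD2_c45 LD3_c11)) = (LP (LK LD1_c22 LD2_c11 LD3_c45)) :=
  Lgr Lrot183 (Lpr_ct (f86644 IH) (Lpr_bt (f114043 IH) (Lpr_gt (f429719 IH) (Lpr_dt (K7.f155168 IH) (Lpr_ct (K7.f155120 IH) (Lpr_bt (f12176 IH) (Lpr_gt (f448785 IH) (Lpe (f448782 IH) (Lpe (f145454 IH) (Lpr_bt (K6.f20013 IH) (Lpr_gt (K7.f145458 IH) (Lpe (K0.f7311 IH) (Lpr_ct (K1.f7318 IH) (Lpr_bt (K5.f7328 IH) (Lpr_gt (K2.f7329 IH) (Lpr_dt (K7.f7330 IH) (Lpr_ct (K7.f7331 IH) (Lpr_bt (K7.f7332 IH) (Lpr_gt (f7333 IH) (Lpn (LP (LK LD1_c22 LD2_c11 LD3_c45))))))))))))))))))))))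
theorem f448787 : Led Lsl_dt (LP (LK LD1_c22 LD2_c11 LD3_c45)) = (LP (LK LD1_c14 LD2_c45 LD3_c11)) :=
  Leop (Lpr_df (f448786 IH) (Lpn (LP (LK LD1_c22 LD2_c11 LD3_c45))))
theorem seed_18 : LEOK LG_d (LK LD1_c22 LD2_c11 LD3_c45) :=
  Leoe_d (LK LD1_c22 LD2_c11 LD3_c45) (f448787 IH)
def v114 : LQ := Led Lsl_at (LP (LK LD1_c0 LD2_c16 LD3_c52))
theorem f448935 : Led Lsl_at (LP (LK LD1_c0 LD2_c16 LD3_c52)) = v114 :=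
  Lrfl
theorem f16645 : Led Lsl_bt (LP (LK LD1_c0 LD2_c12 LD3_c54)) = (LP (LK LD1_c0 LD2_c29 LD3_c12)) :=
  Lre_b IH (LK LD1_c0 LD2_c12 LD3_c54) (LK LD1_c0 LD2_c29 LD3_c12) Lrfl Lrfl
theorem f146373 : Led Lsl_at (LP (LK LD1_c0 LD2_c29 LD3_c12)) = (LP (LK LD1_c1 LD2_c3 LD3_c59)) :=
  Lre_a IH (LK LD1_c0 LD2_c29 LD3_c12) (LK LD1_c1 LD2_c3 LD3_c59) Lrfl Lrfl
theorem f60935 : Led Lsl_bt (LP (LK LD1_c0 LD2_c16 LD3_c41)) = (LP (LK LD1_c0 LD2_c7 LD3_c26)) :=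
  Lre_b IH (LK LD1_c0 LD2_c16 LD3_c41) (LK LD1_c0 LD2_c7 LD3_c26) Lrfl Lrfl
theorem f146374 : Led Lsl_bt (LP (LK LD1_c1 LD2_c3 LD3_c59)) = (LP (LK LD1_c0 LD2_c37 LD3_c27)) :=
  Lgr Lrot62 (Lpe (f146373 IH) (Lpe (f16645 IH) (Lpr_af (K6.f146371 IH) (Lpe (f60935 IH) (Lpe (K6.f135887 IH) (Lpn (LP (LK LD1_c0 LD2_c37 LD3_c27))))))))
theorem f437498 : Led Lsl_bf (LP (LK LD1_c1 LD2_c3 LD3_c59)) = (LP (LK LD1_c0 LD2_c37 LD3_c27)) :=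
  Lgr Lrot24 (Lpr_bt (f146374 IH) (Lpn (LP (LK LD1_c0 LD2_c37 LD3_c27))))
theorem f22495 : Led Lsl_gt (LP (LK LD1_c0 LD2_c38 LD3_c8)) = (LP (LK LD1_c1 LD2_c22 LD3_c16)) :=
  Lre_g IH (LK LD1_c0 LD2_c38 LD3_c8) (LK LD1_c1 LD2_c22 LD3_c16) Lrfl Lrfl
theorem f22753 : Led Lsl_bt (LP (LK LD1_c2 LD2_c52 LD3_c20)) = (LP (LK LD1_c1 LD2_c22 LD3_c16)) :=
  Lre_b IH (LK LD1_c2 LD2_c52 LD3_c20) (LK LD1_c1 LD2_c22 LD3_c16) Lrfl Lrfl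
theorem f22754 : Led Lsl_cf (LP (LK LD1_c2 LD2_c53 LD3_c43)) = (LP (LK LD1_c2 LD2_c52 LD3_c20)) :=
  Lgr Lrot160 (Lpr_gt (K7.f22466 IH) (Lpe (K2.f22465 IH) (Lpr_bt (K4.f22461 IH) (Lpe (K0.f22445 IH) (Lpr_ct (K1.f20072 IH) (Lpe (K0.f20068 IH) (Lpr_cf (K1.f22488 IH) (Lpr_bt (K7.f22484 IH) (Lpr_gt (f22495 IH) (Lpe (f22753 IH) (Lpn (LP (LK LD1_c2 LD2_c52 LD3_c20)))))))))))))
theorem f205820 : Led Lsl_gf (LP (LK LD1_c2 LD2_c52 LD3_c20)) = (LP (LK LD1_c4 LD2_c58 LD3_c53)) :=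
  Lgr Lrot181 (Lpe (f22754 IH) (Lpr_gt (K7.f22466 IH) (Lpe (K2.f22465 IH) (Lpr_bt (K4.f22461 IH) (Lpe (K0.f22445 IH) (Lpe (K8.f22468 IH) (Lpr_ct (K8.f22469 IH) (Lpr_gt (K8.f22470 IH) (Lpr_cf (K8.f142089 IH) (Lpr_bt (f205814 IH) (Lpn (LP (LK LD1_c4 LD2_c58 LD3_c53)))))))))))))
theorem f22765 : Led Lsl_dt (LP (LK LD1_c2 LD2_c53 LD3_c43)) = (LP (LK LD1_c5 LD2_c54 LD3_c44)) :=
  Lre_d IH (LK LD1_c2 LD2_c53 LD3_c43) (LK LD1_c5 LD2_c54 LD3_c44) Lrfl Lrfl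
theorem f138172 : Led Lsl_bt (LP (LK LD1_c2 LD2_c21 LD3_c15)) = (LP (LK LD1_c4 LD2_c46 LD3_c37)) :=
  Lre_b IH (LK LD1_c2 LD2_c21 LD3_c15) (LK LD1_c4 LD2_c46 LD3_c37) Lrfl Lrfl
theorem f149984 : Led Lsl_bt (LP (LK LD1_c1 LD2_c56 LD3_c31)) = (LP (LK LD1_c3 LD2_c59 LD3_c41)) :=
  Lre_b IH (LK LD1_c1 LD2_c56 LD3_c31) (LK LD1_c3 LD2_c59 LD3_c41) Lrfl Lrfl
theorem f149975 : Led Lsl_bt (LP (LK LD1_c5 LD2_c54 LD3_c44)) = (LP (LK LD1_c3 LD2_c59 LD3_c42)) :=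
  Lgr Lrot127 (Lpr_bf (K7.f149973 IH) (Lpn (LP (LK LD1_c3 LD2_c59 LD3_c42))))
theorem f156775 : Led Lsl_ct (LP (LK LD1_c4 LD2_c46 LD3_c37)) = (LP (LK LD1_c5 LD2_c54 LD3_c44)) :=
  Lgr Lrot83 (Lpe (f138172 IH) (Lpr_cf (K7.f156754 IH) (Lpe (f149984 IH) (Lpe (K7.f40425 IH) (Lpe (f149975 IH) (Lpn (LP (LK LD1_c5 LD2_c54 LD3_c44))))))))
theorem f83794 : Led Lsl_gt (LP (LK LD1_c6 LD2_c50 LD3_c19)) = (LP (LK LD1_c3 LD2_c23 LD3_c31)) :=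
  Lre_g IH (LK LD1_c6 LD2_c50 LD3_c19) (LK LD1_c3 LD2_c23 LD3_c31) Lrfl Lrfl
theorem f137436 : Led Lsl_gt (LP (LK LD1_c6 LD2_c16 LD3_c3)) = (LP (LK LD1_c6 LD2_c50 LD3_c19)) :=
  Lgr Lrot5 (Lpe (K6.f137422 IH) (Lpr_at (K8.f137430 IH) (Lpe (f83794 IH) (Lpn (LP (LK LD1_c6 LD2_c50 LD3_c19))))))
theorem f78059 : Led Lsl_bt (LP (LK LD1_c1 LD2_c7 LD3_c52)) = (LP (LK LD1_c2 LD2_c21 LD3_c8)) :=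
  Lre_b IH (LK LD1_c1 LD2_c7 LD3_c52) (LK LD1_c2 LD2_c21 LD3_c8) Lrfl Lrfl
theorem f78060 : Led Lsl_gt (LP (LK LD1_c2 LD2_c21 LD3_c8)) = (LP (LK LD1_c4 LD2_c46 LD3_c15)) :=
  Lre_g IH (LK LD1_c2 LD2_c21 LD3_c8) (LK LD1_c4 LD2_c46 LD3_c15) Lrfl Lrfl
theorem f78063 : Led Lsl_bt (LP (LK LD1_c9 LD2_c25 LD3_c2)) = (LP (LK LD1_c4 LD2_c46 LD3_c15)) :=
  Lre_b IH (LK LD1_c9 LD2_c25 LD3_c2) (LK LD1_c4 LD2_c46 LD3_c15) Lrfl Lrfl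
theorem f98853 : Led Lsl_cf (LP (LK LD1_c6 LD2_c50 LD3_c19)) = (LP (LK LD1_c9 LD2_c25 LD3_c2)) :=
  Lgr Lrot160 (Lpr_gt (f83794 IH) (Lpe (K6.f91352 IH) (Lpr_bt (K5.f61894 IH) (Lpe (K3.f61887 IH) (Lpr_ct (K3.f61892 IH) (Lpr_gt (K5.f98842 IH) (Lpe (K3.f78007 IH) (Lpr_bt (f78059 IH) (Lpr_gt (f78060 IH) (Lpe (f78063 IH) (Lpn (LP (LK LD1_c9 LD2_c25 LD3_c2)))))))))))))
theorem f98858 : Led Lsl_ct (LP (LK LD1_c6 LD2_c50 LD3_c19)) = (LP (LK LD1_c9 LD2_c25 LD3_c2)) :=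
  Lgr Lrot59 (Lpr_cf (f98853 IH) (Lpn (LP (LK LD1_c9 LD2_c25 LD3_c2))))
theorem f205824 : Led Lsl_gf (LP (LK LD1_c4 LD2_c46 LD3_c37)) = (LP (LK LD1_c9 LD2_c25 LD3_c2)) :=
  Lgr Lrot104 (Lpr_ct (f156775 IH) (Lpe (f22765 IH) (Lpr_cf (f22754 IH) (Lpr_gf (f205820 IH) (Lpr_cf (K8.f158449 IH) (Lpe (K8.f149481 IH) (Lpe (K6.f102101 IH) (Lpr_gt (f137436 IH) (Lpr_ct (f98858 IH) (Lpn (LP (LK LD1_c9 LD2_c25 LD3_c2))))))))))))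
theorem f99254 : Led Lsl_bf (LP (LK LD1_c4 LD2_c23 LD3_c61)) = (LP (LK LD1_c4 LD2_c26 LD3_c29)) :=
  Lgr Lrot24 (Lpr_bt (K4.f99248 IH) (Lpn (LP (LK LD1_c4 LD2_c26 LD3_c29))))
theorem f137627 : Led Lsl_bt (LP (LK LD1_c9 LD2_c26 LD3_c5)) = (LP (LK LD1_c8 LD2_c45 LD3_c47)) :=
  Lgr Lrot22 (Lpr_ct (K6.f105007 IH) (Lpe (K6.f14119 IH) (Lpe (K6.f26448 IH) (Lpe (K6.f137601 IH) (Lpr_bf (K6.f137573 IH) (Lpr_ct (K6.f70511 IH) (Lpr_gf (K6.f137623 IH) (Lpe (K4.f38149 IH) (Lpe (f99254 IH) (Lpe (K6.f36531 IH) (Lpn (LP (LK LD1_c8 LD2_c45 LD3_c47)))))))))))))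
theorem f161665 : Led Lsl_bf (LP (LK LD1_c4 LD2_c46 LD3_c43)) = (LP (LK LD1_c9 LD2_c8 LD3_c23)) :=
  Lgr Lrot90 (Lpr_ct (K6.f14120 IH) (Lpr_bt (f137627 IH) (Lpr_ct (K8.f161629 IH) (Lpe (f161330 IH) (Lpr_ct (f112741 IH) (Lpn (LP (LK LD1_c9 LD2_c8 LD3_c23))))))))
theorem f14060 : Led Lsl_gt (LP (LK LD1_c6 LD2_c0 LD3_c47)) = (LP (LK LD1_c11 LD2_c45 LD3_c56)) :=
  Lre_g IH (LK LD1_c6 LD2_c0 LD3_c47) (LK LD1_c11 LD2_c45 LD3_c56) Lrfl Lrfl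
theorem f14112 : Led Lsl_gt (LP (LK LD1_c11 LD2_c45 LD3_c56)) = (LP (LK LD1_c11 LD2_c43 LD3_c15)) :=
  Lgr Lrot46 (Lpe (f14060 IH) (Lpr_ft (K0.f14004 IH) (Lpr_at (K7.f14088 IH) (Lpn (LP (LK LD1_c11 LD2_c43 LD3_c15))))))
theorem f14073 : Led Lsl_ct (LP (LK LD1_c20 LD2_c47 LD3_c23)) = (LP (LK LD1_c11 LD2_c45 LD3_c56)) :=
  Lre_c IH (LK LD1_c20 LD2_c47 LD3_c23) (LK LD1_c11 LD2_c45 LD3_c56) Lrfl Lrfl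
theorem f80776 : Led Lsl_ct (LP (LK LD1_c6 LD2_c14 LD3_c37)) = (LP (LK LD1_c3 LD2_c4 LD3_c12)) :=
  Lre_c IH (LK LD1_c6 LD2_c14 LD3_c37) (LK LD1_c3 LD2_c4 LD3_c12) Lrfl Lrfl
theorem f202185 : Led Lsl_gf (LP (LK LD1_c20 LD2_c47 LD3_c23)) = (LP (LK LD1_c12 LD2_c7 LD3_c27)) :=
  Lgr Lrot181 (Lpr_ct (f14073 IH) (Lpr_gt (f14112 IH) (Lpe (K3.f14083 IH) (Lpr_bt (K8.f14118 IH) (Lpr_gt (K6.f14119 IH) (Lpr_bf (f161665 IH) (Lpr_ct (f112740 IH) (Lpr_gt (f202163 IH) (Lpe (f80776 IH) (Lpr_bt (f75639 IH) (Lpn (LP (LK LD1_c12 LD2_c7 LD3_c27)))))))))))))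
theorem f203387 : Led Lsl_gf (LP (LK LD1_c6 LD2_c35 LD3_c43)) = (LP (LK LD1_c9 LD2_c23 LD3_c58)) :=
  Lgr Lrot147 (Lpr_ct (K7.f14116 IH) (Lpr_gt (K7.f14093 IH) (Lpr_ct (K7.f14058 IH) (Lpe (K4.f14117 IH) (Lpe (K4.f14104 IH) (Lpe (f14112 IH) (Lpe (f14073 IH) (Lpr_gf (f202185 IH) (Lpr_df (f203381 IH) (Lpn (LP (LK LD1_c9 LD2_c23 LD3_c58))))))))))))
theorem f98855 : Led Lsl_bt (LP (LK LD1_c4 LD2_c46 LD3_c15)) = (LP (LK LD1_c9 LD2_c25 LD3_c2)) :=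
  Lre_b IH (LK LD1_c4 LD2_c46 LD3_c15) (LK LD1_c9 LD2_c25 LD3_c2) Lrfl Lrfl
theorem f78061 : Led Lsl_ct (LP (LK LD1_c4 LD2_c46 LD3_c15)) = (LP (LK LD1_c9 LD2_c25 LD3_c3)) :=
  Lre_c IH (LK LD1_c4 LD2_c46 LD3_c15) (LK LD1_c9 LD2_c25 LD3_c3) Lrfl Lrfl
theorem f205833 : Led Lsl_gt (LP (LK LD1_c12 LD2_c49 LD3_c11)) = (LP (LK LD1_c9 LD2_c25 LD3_c3)) :=
  Lgr Lrot65 (Lpe (K7.f156831 IH) (Lpr_bt (K7.f156829 IH) (Lpr_gf (f203387 IH) (Lpe (f149948 IH) (Lpe (K7.f149937 IH) (Lpr_gf (K7.f149971 IH) (Lpe (f156775 IH) (Lpr_gf (f205824 IH) (Lpe (f98855 IH) (Lpr_ct (f78061 IH) (Lpn (LP (LK LD1_c9 LD2_c25 LD3_c3)))))))))))))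
theorem f130939 : Led Lsl_bt (LP (LK LD1_c14 LD2_c1 LD3_c36)) = (LP (LK LD1_c7 LD2_c24 LD3_c57)) :=
  Lre_b IH (LK LD1_c14 LD2_c1 LD3_c36) (LK LD1_c7 LD2_c24 LD3_c57) Lrfl Lrfl
theorem f150749 : Led Lsl_ft (LP (LK LD1_c12 LD2_c49 LD3_c11)) = (LP (LK LD1_c14 LD2_c1 LD3_c36)) :=
  Lgr Lrot75 (Lpe (K7.f96640 IH) (Lpr_ff (K7.f150747 IH) (Lpe (f130939 IH) (Lpn (LP (LK LD1_c14 LD2_c1 LD3_c36))))))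
theorem f78062 : Led Lsl_gt (LP (LK LD1_c9 LD2_c25 LD3_c3)) = (LP (LK LD1_c17 LD2_c22 LD3_c18)) :=
  Lre_g IH (LK LD1_c9 LD2_c25 LD3_c3) (LK LD1_c17 LD2_c22 LD3_c18) Lrfl Lrfl
theorem f205836 : Led Lsl_at (LP (LK LD1_c14 LD2_c1 LD3_c36)) = (LP (LK LD1_c17 LD2_c22 LD3_c18)) :=
  Lgr Lrot26 (Lpe (f150749 IH) (Lpr_gt (f205833 IH) (Lpr_gt (f78062 IH) (Lpn (LP (LK LD1_c17 LD2_c22 LD3_c18))))))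
theorem f142108 : Led Lsl_dt (LP (LK LD1_c16 LD2_c30 LD3_c27)) = (LP (LK LD1_c20 LD2_c26 LD3_c2)) :=
  Lgr Lrot42 (Lpr_df (K7.f142106 IH) (Lpn (LP (LK LD1_c20 LD2_c26 LD3_c2))))
theorem f150733 : Led Lsl_af (LP (LK LD1_c12 LD2_c49 LD3_c11)) = (LP (LK LD1_c20 LD2_c26 LD3_c2)) :=
  Lgr Lrot117 (Lpr_dt (K7.f150729 IH) (Lpr_at (K7.f139091 IH) (Lpr_dt (f142108 IH) (Lpn (LP (LK LD1_c20 LD2_c26 LD3_c2))))))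
theorem f205848 : Led Lsl_ff (LP (LK LD1_c20 LD2_c26 LD3_c2)) = (LP (LK LD1_c17 LD2_c22 LD3_c18)) :=
  Lgr Lrot30 (Lpe (f150733 IH) (Lpr_ft (f150749 IH) (Lpr_at (f205836 IH) (Lpn (LP (LK LD1_c17 LD2_c22 LD3_c18))))))
theorem f205854 : Led Lsl_ft (LP (LK LD1_c20 LD2_c26 LD3_c2)) = (LP (LK LD1_c17 LD2_c22 LD3_c18)) :=
  Lgr Lrot48 (Lpr_ff (f205848 IH) (Lpn (LP (LK LD1_c17 LD2_c22 LD3_c18))))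
theorem f16681 : Led Lsl_bt (LP (LK LD1_c6 LD2_c39 LD3_c16)) = (LP (LK LD1_c3 LD2_c17 LD3_c52)) :=
  Lre_b IH (LK LD1_c6 LD2_c39 LD3_c16) (LK LD1_c3 LD2_c17 LD3_c52) Lrfl Lrfl
theorem f14735 : Led Lsl_gt (LP (LK LD1_c6 LD2_c39 LD3_c45)) = (LP (LK LD1_c3 LD2_c17 LD3_c61)) :=
  Lre_g IH (LK LD1_c6 LD2_c39 LD3_c45) (LK LD1_c3 LD2_c17 LD3_c61) Lrfl Lrfl
theorem f24855 : Led Lsl_gt (LP (LK LD1_c3 LD2_c18 LD3_c57)) = (LP (LK LD1_c6 LD2_c41 LD3_c51)) :=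
  Lre_g IH (LK LD1_c3 LD2_c18 LD3_c57) (LK LD1_c6 LD2_c41 LD3_c51) Lrfl Lrfl
theorem f139674 : Led Lsl_ct (LP (LK LD1_c6 LD2_c41 LD3_c51)) = (LP (LK LD1_c6 LD2_c39 LD3_c45)) :=
  Lgr Lrot91 (Lpe (f24855 IH) (Lpe (K6.f24854 IH) (Lpr_ct (K6.f24847 IH) (Lpr_gf (K7.f134796 IH) (Lpe (K4.f120805 IH) (Lpr_bt (K6.f13599 IH) (Lpr_gf (K7.f139668 IH) (Lpe (f16681 IH) (Lpr_ct (K0.f14715 IH) (Lpe (f14735 IH) (Lpn (LP (LK LD1_c6 LD2_c39 LD3_c45)))))))))))))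
theorem f139687 : Led Lsl_bt (LP (LK LD1_c6 LD2_c41 LD3_c51)) = (LP (LK LD1_c12 LD2_c48 LD3_c56)) :=
  Lre_b IH (LK LD1_c6 LD2_c41 LD3_c51) (LK LD1_c12 LD2_c48 LD3_c56) Lrfl Lrfl
theorem f142000 : Led Lsl_gf (LP (LK LD1_c12 LD2_c48 LD3_c56)) = (LP (LK LD1_c20 LD2_c26 LD3_c2)) :=
  Lgr Lrot124 (Lpe (f139687 IH) (Lpr_ct (f139674 IH) (Lpr_gt (f14735 IH) (Lpe (K0.f14715 IH) (Lpr_bt (f16681 IH) (Lpe (K7.f139668 IH) (Lpr_ct (K6.f128948 IH) (Lpr_gt (K6.f128957 IH) (Lpr_cf (K7.f141986 IH) (Lpr_bt (K7.f141999 IH) (Lpn (LP (LK LD1_c20 LD2_c26 LD3_c2)))))))))))))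
theorem f205842 : Led Lsl_af (LP (LK LD1_c14 LD2_c1 LD3_c36)) = (LP (LK LD1_c17 LD2_c22 LD3_c18)) :=
  Lgr Lrot0 (Lpr_at (f205836 IH) (Lpn (LP (LK LD1_c17 LD2_c22 LD3_c18))))
theorem f205858 : Led Lsl_gt (LP (LK LD1_c12 LD2_c48 LD3_c56)) = (LP (LK LD1_c14 LD2_c1 LD3_c36)) :=
  Lgr Lrot46 (Lpr_gf (f142000 IH) (Lpr_ft (f205854 IH) (Lpe (f205842 IH) (Lpn (LP (LK LD1_c14 LD2_c1 LD3_c36))))))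
theorem f139681 : Led Lsl_cf (LP (LK LD1_c6 LD2_c41 LD3_c51)) = (LP (LK LD1_c6 LD2_c39 LD3_c45)) :=
  Lgr Lrot11 (Lpr_ct (f139674 IH) (Lpn (LP (LK LD1_c6 LD2_c39 LD3_c45))))
theorem f96649 : Led Lsl_dt (LP (LK LD1_c12 LD2_c49 LD3_c12)) = (LP (LK LD1_c6 LD2_c42 LD3_c3)) :=
  Lre_d IH (LK LD1_c12 LD2_c49 LD3_c12) (LK LD1_c6 LD2_c42 LD3_c3) Lrfl Lrfl
theorem f150761 : Led Lsl_df (LP (LK LD1_c9 LD2_c22 LD3_c39)) = (LP (LK LD1_c7 LD2_c24 LD3_c57)) :=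
  Lgr Lrot78 (Lpe (K7.f150713 IH) (Lpr_dt (f96649 IH) (Lpr_ft (K7.f150755 IH) (Lpn (LP (LK LD1_c7 LD2_c24 LD3_c57))))))
theorem f99022 : Led Lsl_ct (LP (LK LD1_c4 LD2_c44 LD3_c60)) = (LP (LK LD1_c4 LD2_c46 LD3_c51)) :=
  Lgr Lrot59 (Lpr_cf (K7.f99010 IH) (Lpn (LP (LK LD1_c4 LD2_c46 LD3_c51))))
theorem f99047 : Led Lsl_bt (LP (LK LD1_c9 LD2_c22 LD3_c40)) = (LP (LK LD1_c4 LD2_c44 LD3_c60)) :=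
  Lre_b IH (LK LD1_c9 LD2_c22 LD3_c40) (LK LD1_c4 LD2_c44 LD3_c60) Lrfl Lrfl
theorem f99048 : Led Lsl_ct (LP (LK LD1_c17 LD2_c19 LD3_c8)) = (LP (LK LD1_c9 LD2_c22 LD3_c40)) :=
  Lre_c IH (LK LD1_c17 LD2_c19 LD3_c8) (LK LD1_c9 LD2_c22 LD3_c40) Lrfl Lrfl
theorem f99034 : Led Lsl_bt (LP (LK LD1_c4 LD2_c46 LD3_c51)) = (LP (LK LD1_c9 LD2_c26 LD3_c25)) :=
  Lre_b IH (LK LD1_c4 LD2_c46 LD3_c51) (LK LD1_c9 LD2_c26 LD3_c25) Lrfl Lrfl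
theorem f99049 : Led Lsl_ct (LP (LK LD1_c9 LD2_c26 LD3_c25)) = (LP (LK LD1_c17 LD2_c24 LD3_c20)) :=
  Lre_c IH (LK LD1_c9 LD2_c26 LD3_c25) (LK LD1_c17 LD2_c24 LD3_c20) Lrfl Lrfl
theorem f99050 : Led Lsl_bf (LP (LK LD1_c17 LD2_c19 LD3_c8)) = (LP (LK LD1_c17 LD2_c24 LD3_c20)) :=
  Lgr Lrot90 (Lpr_ct (f99048 IH) (Lpr_bt (f99047 IH) (Lpr_ct (f99022 IH) (Lpr_bt (f99034 IH) (Lpr_ct (f99049 IH) (Lpn (LP (LK LD1_c17 LD2_c24 LD3_c20))))))))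
theorem f99056 : Led Lsl_et (LP (LK LD1_c17 LD2_c19 LD3_c8)) = (LP (LK LD1_c9 LD2_c22 LD3_c39)) :=
  Lre_e IH (LK LD1_c17 LD2_c19 LD3_c8) (LK LD1_c9 LD2_c22 LD3_c39) Lrfl Lrfl
theorem f99057 : Led Lsl_et (LP (LK LD1_c9 LD2_c26 LD3_c24)) = (LP (LK LD1_c17 LD2_c24 LD3_c20)) :=
  Lre_e IH (LK LD1_c9 LD2_c26 LD3_c24) (LK LD1_c17 LD2_c24 LD3_c20) Lrfl Lrfl
theorem f99058 : Led Lsl_bt (LP (LK LD1_c9 LD2_c22 LD3_c39)) = (LP (LK LD1_c9 LD2_c26 LD3_c24)) :=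
  Lgr Lrot119 (Lpe (f99056 IH) (Lpr_bf (f99050 IH) (Lpe (f99057 IH) (Lpn (LP (LK LD1_c9 LD2_c26 LD3_c24))))))
theorem f150806 : Led Lsl_dt (LP (LK LD1_c9 LD2_c26 LD3_c24)) = (LP (LK LD1_c14 LD2_c1 LD3_c36)) :=
  Lgr Lrot79 (Lpe (f99058 IH) (Lpr_df (f150761 IH) (Lpe (f130939 IH) (Lpn (LP (LK LD1_c14 LD2_c1 LD3_c36))))))
theorem f150812 : Led Lsl_df (LP (LK LD1_c9 LD2_c26 LD3_c24)) = (LP (LK LD1_c14 LD2_c1 LD3_c36)) :=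
  Lgr Lrot38 (Lpr_dt (f150806 IH) (Lpn (LP (LK LD1_c14 LD2_c1 LD3_c36))))
theorem f99064 : Led Lsl_ct (LP (LK LD1_c9 LD2_c26 LD3_c24)) = (LP (LK LD1_c4 LD2_c46 LD3_c50)) :=
  Lre_c IH (LK LD1_c9 LD2_c26 LD3_c24) (LK LD1_c4 LD2_c46 LD3_c50) Lrfl Lrfl
theorem f98893 : Led Lsl_bt (LP (LK LD1_c4 LD2_c46 LD3_c50)) = (LP (LK LD1_c2 LD2_c21 LD3_c19)) :=
  Lre_b IH (LK LD1_c4 LD2_c46 LD3_c50) (LK LD1_c2 LD2_c21 LD3_c19) Lrfl Lrfl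
theorem f205860 : Led Lsl_df (LP (LK LD1_c6 LD2_c39 LD3_c45)) = (LP (LK LD1_c3 LD2_c29 LD3_c1)) :=
  Lgr Lrot183 (Lpe (f139681 IH) (Lpr_bt (f139687 IH) (Lpr_gt (f205858 IH) (Lpe (f150812 IH) (Lpr_ct (f99064 IH) (Lpr_bt (f98893 IH) (Lpr_gt (K3.f99074 IH) (Lpe (K0.f13775 IH) (Lpr_ct (K0.f13774 IH) (Lpr_bt (K5.f13805 IH) (Lpr_gt (K3.f13806 IH) (Lpe (K1.f61987 IH) (Lpr_ct (K2.f61996 IH) (Lpe (K4.f64361 IH) (Lpr_gt (K2.f18160 IH) (Lpr_dt (K3.f15858 IH) (Lpr_ct (K2.f15851 IH) (Lpr_bt (K2.f15852 IH) (Lpe (K2.f18648 IH) (Lpn (LP (LK LD1_c3 LD2_c29 LD3_c1))))))))))))))))))))))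
theorem f205862 : Led Lsl_dt (LP (LK LD1_c6 LD2_c39 LD3_c45)) = (LP (LK LD1_c3 LD2_c29 LD3_c1)) :=
  Lgr Lrot42 (Lpr_df (f205860 IH) (Lpn (LP (LK LD1_c3 LD2_c29 LD3_c1))))
theorem f15605 : Led Lsl_bt (LP (LK LD1_c3 LD2_c17 LD3_c61)) = (LP (LK LD1_c1 LD2_c35 LD3_c31)) :=
  Lre_b IH (LK LD1_c3 LD2_c17 LD3_c61) (LK LD1_c1 LD2_c35 LD3_c31) Lrfl Lrfl
theorem f15033 : Led Lsl_bt (LP (LK LD1_c1 LD2_c39 LD3_c48)) = (LP (LK LD1_c3 LD2_c26 LD3_c12)) :=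
  Lre_b IH (LK LD1_c1 LD2_c39 LD3_c48) (LK LD1_c3 LD2_c26 LD3_c12) Lrfl Lrfl
theorem f15606 : Led Lsl_af (LP (LK LD1_c3 LD2_c17 LD3_c61)) = (LP (LK LD1_c3 LD2_c26 LD3_c12)) :=
  Lgr Lrot36 (Lpr_bt (f15605 IH) (Lpr_at (K3.f15604 IH) (Lpr_bt (K0.f15528 IH) (Lpr_at (K2.f15051 IH) (Lpr_bt (f15033 IH) (Lpn (LP (LK LD1_c3 LD2_c26 LD3_c12))))))))
theorem f15053 : Led Lsl_ft (LP (LK LD1_c3 LD2_c47 LD3_c37)) = (LP (LK LD1_c3 LD2_c26 LD3_c12)) :=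
  Lgr Lrot75 (Lpe (K6.f14546 IH) (Lpr_ff (K0.f15042 IH) (Lpe (K6.f15052 IH) (Lpn (LP (LK LD1_c3 LD2_c26 LD3_c12))))))
theorem f16772 : Led Lsl_gf (LP (LK LD1_c6 LD2_c39 LD3_c45)) = (LP (LK LD1_c3 LD2_c47 LD3_c37)) :=
  Lgr Lrot47 (Lpr_gt (f14735 IH) (Lpr_af (f15606 IH) (Lpe (f15053 IH) (Lpn (LP (LK LD1_c3 LD2_c47 LD3_c37))))))
theorem f135821 : Led Lsl_df (LP (LK LD1_c9 LD2_c5 LD3_c49)) = (LP (LK LD1_c7 LD2_c37 LD3_c61)) :=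
  Lgr Lrot18 (Lpr_at (K6.f92188 IH) (Lpr_dt (K6.f135819 IH) (Lpr_at (K6.f64457 IH) (Lpn (LP (LK LD1_c7 LD2_c37 LD3_c61))))))
theorem f144018 : Led Lsl_cf (LP (LK LD1_c4 LD2_c48 LD3_c12)) = (LP (LK LD1_c3 LD2_c19 LD3_c42)) :=
  Lgr Lrot97 (Lpr_bt (K8.f143190 IH) (Lpr_ct (K6.f84599 IH) (Lpr_bt (K6.f144012 IH) (Lpr_ct (K7.f62584 IH) (Lpr_bt (K6.f57246 IH) (Lpn (LP (LK LD1_c3 LD2_c19 LD3_c42))))))))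
theorem f57451 : Led Lsl_gt (LP (LK LD1_c6 LD2_c43 LD3_c11)) = (LP (LK LD1_c3 LD2_c19 LD3_c42)) :=
  Lre_g IH (LK LD1_c6 LD2_c43 LD3_c11) (LK LD1_c3 LD2_c19 LD3_c42) Lrfl Lrfl
theorem f157313 : Led Lsl_dt (LP (LK LD1_c6 LD2_c43 LD3_c11)) = (LP (LK LD1_c6 LD2_c59 LD3_c46)) :=
  Lgr Lrot6 (Lpr_gt (f57451 IH) (Lpe (f144018 IH) (Lpr_gt (K7.f156883 IH) (Lpr_ct (K7.f16109 IH) (Lpr_df (K7.f156657 IH) (Lpr_cf (K7.f94627 IH) (Lpe (K7.f115896 IH) (Lpe (K8.f156475 IH) (Lpr_gf (K8.f157308 IH) (Lpn (LP (LK LD1_c6 LD2_c59 LD3_c46))))))))))))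
theorem f205881 : Led Lsl_gt (LP (LK LD1_c9 LD2_c5 LD3_c49)) = (LP (LK LD1_c6 LD2_c43 LD3_c11)) :=
  Lgr Lrot49 (Lpr_df (f135821 IH) (Lpe (K6.f145249 IH) (Lpe (K6.f14739 IH) (Lpr_gt (K5.f14771 IH) (Lpr_dt (K0.f14752 IH) (Lpe (f16772 IH) (Lpr_dt (f205862 IH) (Lpe (K2.f18651 IH) (Lpe (f157313 IH) (Lpn (LP (LK LD1_c6 LD2_c43 LD3_c11))))))))))))
theorem f14736 : Led Lsl_gt (LP (LK LD1_c12 LD2_c44 LD3_c12)) = (LP (LK LD1_c6 LD2_c39 LD3_c16)) :=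
  Lre_g IH (LK LD1_c12 LD2_c44 LD3_c12) (LK LD1_c6 LD2_c39 LD3_c16) Lrfl Lrfl
theorem f205899 : Led Lsl_cf (LP (LK LD1_c12 LD2_c44 LD3_c12)) = (LP (LK LD1_c6 LD2_c43 LD3_c11)) :=
  Lgr Lrot169 (Lpr_gt (f14736 IH) (Lpr_ct (K0.f14715 IH) (Lpe (K0.f14711 IH) (Lpr_cf (K0.f14664 IH) (Lpe (K5.f14737 IH) (Lpe (K5.f14738 IH) (Lpe (K8.f157344 IH) (Lpr_df (K6.f145124 IH) (Lpr_gt (f205881 IH) (Lpn (LP (LK LD1_c6 LD2_c43 LD3_c11))))))))))))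
theorem f157315 : Led Lsl_df (LP (LK LD1_c6 LD2_c43 LD3_c11)) = (LP (LK LD1_c6 LD2_c59 LD3_c46)) :=
  Lgr Lrot155 (Lpr_gt (f57451 IH) (Lpe (f144018 IH) (Lpr_gt (K7.f156883 IH) (Lpr_ct (K7.f16109 IH) (Lpr_dt (K7.f156662 IH) (Lpr_cf (K7.f94627 IH) (Lpe (K7.f115896 IH) (Lpe (K8.f156475 IH) (Lpr_gf (K8.f157308 IH) (Lpn (LP (LK LD1_c6 LD2_c59 LD3_c46))))))))))))
theorem f151489 : Led Lsl_at (LP (LK LD1_c6 LD2_c53 LD3_c14)) = (LP (LK LD1_c6 LD2_c33 LD3_c9)) :=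
  Lgr Lrot100 (Lpr_af (K7.f151487 IH) (Lpn (LP (LK LD1_c6 LD2_c33 LD3_c9))))
theorem f157311 : Led Lsl_gt (LP (LK LD1_c7 LD2_c32 LD3_c27)) = (LP (LK LD1_c6 LD2_c59 LD3_c46)) :=
  Lgr Lrot5 (Lpe (K8.f151502 IH) (Lpr_at (f151489 IH) (Lpr_gf (K8.f157308 IH) (Lpn (LP (LK LD1_c6 LD2_c59 LD3_c46))))))
theorem f157301 : Led Lsl_ct (LP (LK LD1_c12 LD2_c33 LD3_c33)) = (LP (LK LD1_c6 LD2_c33 LD3_c7)) :=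
  Lre_c IH (LK LD1_c12 LD2_c33 LD3_c33) (LK LD1_c6 LD2_c33 LD3_c7) Lrfl Lrfl
theorem f156481 : Led Lsl_ct (LP (LK LD1_c6 LD2_c33 LD3_c7)) = (LP (LK LD1_c12 LD2_c33 LD3_c33)) :=
  Lre_c IH (LK LD1_c6 LD2_c33 LD3_c7) (LK LD1_c12 LD2_c33 LD3_c33) Lrfl Lrfl
theorem f116701 : Led Lsl_bf (LP (LK LD1_c1 LD2_c51 LD3_c7)) = (LP (LK LD1_c2 LD2_c20 LD3_c1)) :=
  Lgr Lrot93 (Lpr_dt (K3.f11837 IH) (Lpr_bt (K2.f17298 IH) (Lpr_dt (K4.f116699 IH) (Lpn (LP (LK LD1_c2 LD2_c20 LD3_c1))))))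
theorem f15863 : Led Lsl_ct (LP (LK LD1_c6 LD2_c51 LD3_c32)) = (LP (LK LD1_c13 LD2_c2 LD3_c47)) :=
  Lre_c IH (LK LD1_c6 LD2_c51 LD3_c32) (LK LD1_c13 LD2_c2 LD3_c47) Lrfl Lrfl
theorem f156482 : Led Lsl_gt (LP (LK LD1_c12 LD2_c33 LD3_c33)) = (LP (LK LD1_c13 LD2_c2 LD3_c47)) :=
  Lgr Lrot149 (Lpe (f156481 IH) (Lpe (K8.f156462 IH) (Lpe (K8.f24199 IH) (Lpr_ct (K7.f24305 IH) (Lpr_gf (K7.f156479 IH) (Lpe (K5.f25297 IH) (Lpe (f116701 IH) (Lpe (K3.f97549 IH) (Lpe (K7.f19129 IH) (Lpr_ct (f15863 IH) (Lpn (LP (LK LD1_c13 LD2_c2 LD3_c47)))))))))))))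
theorem f73546 : Led Lsl_bf (LP (LK LD1_c3 LD2_c12 LD3_c48)) = (LP (LK LD1_c5 LD2_c47 LD3_c32)) :=
  Lgr Lrot93 (Lpr_dt (K3.f66667 IH) (Lpr_bt (K8.f73533 IH) (Lpr_dt (K2.f73297 IH) (Lpn (LP (LK LD1_c5 LD2_c47 LD3_c32))))))
theorem f73414 : Led Lsl_ct (LP (LK LD1_c11 LD2_c24 LD3_c58)) = (LP (LK LD1_c5 LD2_c47 LD3_c32)) :=
  Lre_c IH (LK LD1_c11 LD2_c24 LD3_c58) (LK LD1_c5 LD2_c47 LD3_c32) Lrfl Lrfl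
theorem f73550 : Led Lsl_bt (LP (LK LD1_c13 LD2_c2 LD3_c47)) = (LP (LK LD1_c11 LD2_c24 LD3_c58)) :=
  Lgr Lrot128 (Lpe (f15863 IH) (Lpe (K7.f19126 IH) (Lpe (K1.f66665 IH) (Lpr_bf (f73546 IH) (Lpe (f73414 IH) (Lpn (LP (LK LD1_c11 LD2_c24 LD3_c58))))))))
theorem f60671 : Led Lsl_bt (LP (LK LD1_c12 LD2_c6 LD3_c59)) = (LP (LK LD1_c21 LD2_c13 LD3_c6)) :=
  Lre_b IH (LK LD1_c12 LD2_c6 LD3_c59) (LK LD1_c21 LD2_c13 LD3_c6) Lrfl Lrfl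
theorem f73554 : Led Lsl_df (LP (LK LD1_c13 LD2_c2 LD3_c47)) = (LP (LK LD1_c21 LD2_c13 LD3_c6)) :=
  Lgr Lrot12 (Lpr_bt (f73550 IH) (Lpe (K2.f73299 IH) (Lpr_bt (f60671 IH) (Lpn (LP (LK LD1_c21 LD2_c13 LD3_c6))))))
theorem f73558 : Led Lsl_dt (LP (LK LD1_c13 LD2_c2 LD3_c47)) = (LP (LK LD1_c21 LD2_c13 LD3_c6)) :=
  Lgr Lrot42 (Lpr_df (f73554 IH) (Lpn (LP (LK LD1_c21 LD2_c13 LD3_c6))))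
theorem f12919 : Led Lsl_bt (LP (LK LD1_c3 LD2_c41 LD3_c29)) = (LP (LK LD1_c1 LD2_c47 LD3_c40)) :=
  Lre_b IH (LK LD1_c3 LD2_c41 LD3_c29) (LK LD1_c1 LD2_c47 LD3_c40) Lrfl Lrfl
theorem f12977 : Led Lsl_ct (LP (LK LD1_c3 LD2_c44 LD3_c15)) = (LP (LK LD1_c7 LD2_c29 LD3_c18)) :=
  Lre_c IH (LK LD1_c3 LD2_c44 LD3_c15) (LK LD1_c7 LD2_c29 LD3_c18) Lrfl Lrfl
theorem f12978 : Led Lsl_bt (LP (LK LD1_c7 LD2_c29 LD3_c18)) = (LP (LK LD1_c14 LD2_c8 LD3_c2)) :=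
  Lre_b IH (LK LD1_c7 LD2_c29 LD3_c18) (LK LD1_c14 LD2_c8 LD3_c2) Lrfl Lrfl
theorem f12979 : Led Lsl_ct (LP (LK LD1_c7 LD2_c23 LD3_c36)) = (LP (LK LD1_c3 LD2_c41 LD3_c34)) :=
  Lre_c IH (LK LD1_c7 LD2_c23 LD3_c36) (LK LD1_c3 LD2_c41 LD3_c34) Lrfl Lrfl
theorem f12980 : Led Lsl_bt (LP (LK LD1_c13 LD2_c58 LD3_c41)) = (LP (LK LD1_c7 LD2_c23 LD3_c36)) :=
  Lre_b IH (LK LD1_c13 LD2_c58 LD3_c41) (LK LD1_c7 LD2_c23 LD3_c36) Lrfl Lrfl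
theorem f12981 : Led Lsl_ct (LP (LK LD1_c14 LD2_c8 LD3_c2)) = (LP (LK LD1_c13 LD2_c58 LD3_c41)) :=
  Lgr Lrot83 (Lpe (f12978 IH) (Lpe (f12977 IH) (Lpr_bf (K7.f12950 IH) (Lpe (f12979 IH) (Lpe (f12980 IH) (Lpn (LP (LK LD1_c13 LD2_c58 LD3_c41))))))))
theorem f13294 : Led Lsl_cf (LP (LK LD1_c14 LD2_c8 LD3_c2)) = (LP (LK LD1_c13 LD2_c58 LD3_c41)) :=
  Lgr Lrot11 (Lpr_ct (f12981 IH) (Lpn (LP (LK LD1_c13 LD2_c58 LD3_c41))))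
theorem f13301 : Led Lsl_ft (LP (LK LD1_c14 LD2_c8 LD3_c2)) = (LP (LK LD1_c7 LD2_c29 LD3_c14)) :=
  Lre_f IH (LK LD1_c14 LD2_c8 LD3_c2) (LK LD1_c7 LD2_c29 LD3_c14) Lrfl Lrfl
theorem f13302 : Led Lsl_ft (LP (LK LD1_c7 LD2_c23 LD3_c33)) = (LP (LK LD1_c13 LD2_c58 LD3_c41)) :=
  Lre_f IH (LK LD1_c7 LD2_c23 LD3_c33) (LK LD1_c13 LD2_c58 LD3_c41) Lrfl Lrfl
theorem f13303 : Led Lsl_ct (LP (LK LD1_c7 LD2_c29 LD3_c14)) = (LP (LK LD1_c7 LD2_c23 LD3_c33)) :=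
  Lgr Lrot40 (Lpe (f13301 IH) (Lpr_cf (f13294 IH) (Lpe (f13302 IH) (Lpn (LP (LK LD1_c7 LD2_c23 LD3_c33))))))
theorem f13310 : Led Lsl_et (LP (LK LD1_c3 LD2_c44 LD3_c10)) = (LP (LK LD1_c7 LD2_c29 LD3_c14)) :=
  Lre_e IH (LK LD1_c3 LD2_c44 LD3_c10) (LK LD1_c7 LD2_c29 LD3_c14) Lrfl Lrfl
theorem f13311 : Led Lsl_et (LP (LK LD1_c7 LD2_c23 LD3_c33)) = (LP (LK LD1_c3 LD2_c41 LD3_c29)) :=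
  Lre_e IH (LK LD1_c7 LD2_c23 LD3_c33) (LK LD1_c3 LD2_c41 LD3_c29) Lrfl Lrfl
theorem f13312 : Led Lsl_cf (LP (LK LD1_c3 LD2_c44 LD3_c10)) = (LP (LK LD1_c3 LD2_c41 LD3_c29)) :=
  Lgr Lrot39 (Lpr_et (f13310 IH) (Lpr_ct (f13303 IH) (Lpr_et (f13311 IH) (Lpn (LP (LK LD1_c3 LD2_c41 LD3_c29))))))
theorem f13334 : Led Lsl_gt (LP (LK LD1_c7 LD2_c29 LD3_c13)) = (LP (LK LD1_c3 LD2_c44 LD3_c10)) :=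
  Lre_g IH (LK LD1_c7 LD2_c29 LD3_c13) (LK LD1_c3 LD2_c44 LD3_c10) Lrfl Lrfl
theorem f13335 : Led Lsl_ct (LP (LK LD1_c14 LD2_c7 LD3_c61)) = (LP (LK LD1_c7 LD2_c29 LD3_c13)) :=
  Lre_c IH (LK LD1_c14 LD2_c7 LD3_c61) (LK LD1_c7 LD2_c29 LD3_c13) Lrfl Lrfl
theorem f159531 : Led Lsl_gf (LP (LK LD1_c14 LD2_c7 LD3_c61)) = (LP (LK LD1_c21 LD2_c13 LD3_c6)) :=
  Lgr Lrot181 (Lpr_ct (f13335 IH) (Lpr_gt (f13334 IH) (Lpr_cf (f13312 IH) (Lpr_bt (f12919 IH) (Lpr_gt (K8.f159525 IH) (Lpe (K8.f22641 IH) (Lpe (K8.f99520 IH) (Lpe (K8.f73327 IH) (Lpe (K2.f60874 IH) (Lpr_bt (f60671 IH) (Lpn (LP (LK LD1_c21 LD2_c13 LD3_c6)))))))))))))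
theorem f205927 : Led Lsl_df (LP (LK LD1_c12 LD2_c44 LD3_c12)) = (LP (LK LD1_c14 LD2_c7 LD3_c61)) :=
  Lgr Lrot84 (Lpr_cf (f205899 IH) (Lpr_df (f157315 IH) (Lpe (f157311 IH) (Lpr_df (K8.f157385 IH) (Lpr_gf (K8.f162620 IH) (Lpe (f157301 IH) (Lpr_gt (f156482 IH) (Lpr_dt (f73558 IH) (Lpe (f159531 IH) (Lpn (LP (LK LD1_c14 LD2_c7 LD3_c61))))))))))))
theorem f205929 : Led Lsl_dt (LP (LK LD1_c12 LD2_c44 LD3_c12)) = (LP (LK LD1_c14 LD2_c7 LD3_c61)) :=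
  Lgr Lrot42 (Lpr_df (f205927 IH) (Lpn (LP (LK LD1_c14 LD2_c7 LD3_c61))))
theorem f16090 : Led Lsl_ff (LP (LK LD1_c6 LD2_c54 LD3_c19)) = (LP (LK LD1_c7 LD2_c36 LD3_c4)) :=
  Lgr Lrot3 (Lpr_ft (K0.f16082 IH) (Lpn (LP (LK LD1_c7 LD2_c36 LD3_c4))))
theorem f16074 : Led Lsl_at (LP (LK LD1_c6 LD2_c54 LD3_c19)) = (LP (LK LD1_c6 LD2_c39 LD3_c16)) :=
  Lgr Lrot100 (Lpr_af (K0.f16072 IH) (Lpn (LP (LK LD1_c6 LD2_c39 LD3_c16))))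
theorem f16679 : Led Lsl_gf (LP (LK LD1_c12 LD2_c44 LD3_c12)) = (LP (LK LD1_c7 LD2_c36 LD3_c4)) :=
  Lgr Lrot47 (Lpr_gt (f14736 IH) (Lpe (f16074 IH) (Lpr_ff (f16090 IH) (Lpn (LP (LK LD1_c7 LD2_c36 LD3_c4))))))
theorem f18774 : Led Lsl_dt (LP (LK LD1_c13 LD2_c16 LD3_c35)) = (LP (LK LD1_c6 LD2_c59 LD3_c49)) :=
  Lre_d IH (LK LD1_c13 LD2_c16 LD3_c35) (LK LD1_c6 LD2_c59 LD3_c49) Lrfl Lrfl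
theorem f205931 : Led Lsl_gf (LP (LK LD1_c13 LD2_c16 LD3_c35)) = (LP (LK LD1_c14 LD2_c7 LD3_c61)) :=
  Lgr Lrot143 (Lpr_dt (f18774 IH) (Lpe (K8.f18632 IH) (Lpe (K8.f18631 IH) (Lpe (K2.f18647 IH) (Lpe (f205862 IH) (Lpr_gf (f16772 IH) (Lpe (K0.f14730 IH) (Lpe (f16679 IH) (Lpr_dt (f205929 IH) (Lpn (LP (LK LD1_c14 LD2_c7 LD3_c61))))))))))))
theorem f18633 : Led Lsl_dt (LP (LK LD1_c6 LD2_c59 LD3_c49)) = (LP (LK LD1_c13 LD2_c16 LD3_c35)) :=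
  Lre_d IH (LK LD1_c6 LD2_c59 LD3_c49) (LK LD1_c13 LD2_c16 LD3_c35) Lrfl Lrfl
theorem f73560 : Led Lsl_ct (LP (LK LD1_c13 LD2_c16 LD3_c35)) = (LP (LK LD1_c21 LD2_c13 LD3_c6)) :=
  Lgr Lrot53 (Lpe (f18633 IH) (Lpe (K8.f18632 IH) (Lpe (K8.f18631 IH) (Lpr_cf (K2.f18750 IH) (Lpe (K8.f18772 IH) (Lpr_ft (K8.f63197 IH) (Lpe (K8.f63410 IH) (Lpe (K8.f15861 IH) (Lpr_df (f73554 IH) (Lpn (LP (LK LD1_c21 LD2_c13 LD3_c6))))))))))))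
theorem f205933 : Led Lsl_df (LP (LK LD1_c6 LD2_c41 LD3_c52)) = (LP (LK LD1_c7 LD2_c29 LD3_c13)) :=
  Lgr Lrot162 (Lpe (K6.f145256 IH) (Lpe (K6.f104284 IH) (Lpe (K0.f14715 IH) (Lpe (f14736 IH) (Lpr_dt (f205929 IH) (Lpe (f205931 IH) (Lpr_ct (f73560 IH) (Lpe (f159531 IH) (Lpr_ct (f13335 IH) (Lpn (LP (LK LD1_c7 LD2_c29 LD3_c13))))))))))))
theorem f12917 : Led Lsl_bt (LP (LK LD1_c1 LD2_c49 LD3_c8)) = (LP (LK LD1_c3 LD2_c44 LD3_c10)) :=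
  Lre_b IH (LK LD1_c1 LD2_c49 LD3_c8) (LK LD1_c3 LD2_c44 LD3_c10) Lrfl Lrfl
theorem f12920 : Led Lsl_ct (LP (LK LD1_c3 LD2_c44 LD3_c10)) = (LP (LK LD1_c3 LD2_c41 LD3_c29)) :=
  Lgr Lrot83 (Lpe (f12917 IH) (Lpe (K6.f12916 IH) (Lpr_bf (K5.f12896 IH) (Lpe (K5.f12918 IH) (Lpe (f12919 IH) (Lpn (LP (LK LD1_c3 LD2_c41 LD3_c29))))))))
theorem f13329 : Led Lsl_gt (LP (LK LD1_c3 LD2_c41 LD3_c29)) = (LP (LK LD1_c7 LD2_c23 LD3_c30)) :=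
  Lre_g IH (LK LD1_c3 LD2_c41 LD3_c29) (LK LD1_c7 LD2_c23 LD3_c30) Lrfl Lrfl
theorem f13387 : Led Lsl_ct (LP (LK LD1_c7 LD2_c23 LD3_c30)) = (LP (LK LD1_c13 LD2_c58 LD3_c36)) :=
  Lre_c IH (LK LD1_c7 LD2_c23 LD3_c30) (LK LD1_c13 LD2_c58 LD3_c36) Lrfl Lrfl
theorem f205937 : Led Lsl_dt (LP (LK LD1_c7 LD2_c36 LD3_c16)) = (LP (LK LD1_c13 LD2_c58 LD3_c36)) :=
  Lgr Lrot27 (Lpe (K6.f135805 IH) (Lpe (K6.f113300 IH) (Lpr_cf (K6.f135764 IH) (Lpe (K6.f134804 IH) (Lpr_df (f205933 IH) (Lpr_gt (f13334 IH) (Lpr_ct (f12920 IH) (Lpr_gt (f13329 IH) (Lpr_ct (f13387 IH) (Lpn (LP (LK LD1_c13 LD2_c58 LD3_c36))))))))))))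
theorem f205941 : Led Lsl_dt (LP (LK LD1_c7 LD2_c36 LD3_c14)) = (LP (LK LD1_c7 LD2_c23 LD3_c30)) :=
  Lgr Lrot105 (Lpe (K7.f156883 IH) (Lpr_df (K6.f145274 IH) (Lpe (K7.f122986 IH) (Lpe (K7.f156723 IH) (Lpr_gt (K7.f16111 IH) (Lpr_dt (K0.f16094 IH) (Lpr_gt (K6.f16084 IH) (Lpr_dt (f205937 IH) (Lpe (f13387 IH) (Lpn (LP (LK LD1_c7 LD2_c23 LD3_c30))))))))))))
theorem f205948 : Led Lsl_df (LP (LK LD1_c7 LD2_c36 LD3_c14)) = (LP (LK LD1_c7 LD2_c23 LD3_c30)) :=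
  Lgr Lrot38 (Lpr_dt (f205941 IH) (Lpn (LP (LK LD1_c7 LD2_c23 LD3_c30))))
theorem f205953 : Led Lsl_dt (LP (LK LD1_c3 LD2_c42 LD3_c53)) = (LP (LK LD1_c3 LD2_c41 LD3_c29)) :=
  Lgr Lrot57 (Lpe (K8.f162565 IH) (Lpe (K8.f162568 IH) (Lpr_gt (K7.f156622 IH) (Lpe (K8.f90939 IH) (Lpr_gt (K7.f18666 IH) (Lpe (K7.f156657 IH) (Lpe (K7.f16109 IH) (Lpr_df (f205948 IH) (Lpe (f13329 IH) (Lpn (LP (LK LD1_c3 LD2_c41 LD3_c29))))))))))))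
theorem f162612 : Led Lsl_ff (LP (LK LD1_c3 LD2_c13 LD3_c48)) = (LP (LK LD1_c3 LD2_c42 LD3_c53)) :=
  Lgr Lrot52 (Lpr_at (K8.f22666 IH) (Lpr_gf (K8.f162610 IH) (Lpe (K8.f155517 IH) (Lpn (LP (LK LD1_c3 LD2_c42 LD3_c53))))))
theorem f205959 : Led Lsl_df (LP (LK LD1_c3 LD2_c13 LD3_c48)) = (LP (LK LD1_c3 LD2_c44 LD3_c10)) :=
  Lgr Lrot106 (Lpr_ct (K8.f156526 IH) (Lpe (K8.f157352 IH) (Lpr_ct (K8.f157324 IH) (Lpr_dt (K8.f157359 IH) (Lpr_ct (K8.f151990 IH) (Lpe (K8.f22666 IH) (Lpr_ff (f162612 IH) (Lpr_dt (f205953 IH) (Lpe (f13312 IH) (Lpn (LP (LK LD1_c3 LD2_c44 LD3_c10))))))))))))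
theorem f205961 : Led Lsl_cf (LP (LK LD1_c3 LD2_c42 LD3_c53)) = (LP (LK LD1_c3 LD2_c14 LD3_c49)) :=
  Lgr Lrot118 (Lpr_dt (f205953 IH) (Lpe (f13312 IH) (Lpe (f205959 IH) (Lpr_ct (K8.f156526 IH) (Lpe (K8.f157352 IH) (Lpr_ct (K8.f157324 IH) (Lpe (K8.f58838 IH) (Lpe (K8.f58794 IH) (Lpr_dt (K8.f24200 IH) (Lpn (LP (LK LD1_c3 LD2_c14 LD3_c49))))))))))))
theorem f24196 : Led Lsl_gt (LP (LK LD1_c6 LD2_c33 LD3_c8)) = (LP (LK LD1_c3 LD2_c14 LD3_c49)) :=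
  Lre_g IH (LK LD1_c6 LD2_c33 LD3_c8) (LK LD1_c3 LD2_c14 LD3_c49) Lrfl Lrfl
theorem f157333 : Led Lsl_ct (LP (LK LD1_c12 LD2_c33 LD3_c35)) = (LP (LK LD1_c6 LD2_c33 LD3_c8)) :=
  Lre_c IH (LK LD1_c12 LD2_c33 LD3_c35) (LK LD1_c6 LD2_c33 LD3_c8) Lrfl Lrfl
theorem f205965 : Led Lsl_gf (LP (LK LD1_c12 LD2_c33 LD3_c35)) = (LP (LK LD1_c13 LD2_c2 LD3_c47)) :=
  Lgr Lrot179 (Lpr_ct (f157333 IH) (Lpr_gt (f24196 IH) (Lpe (f205961 IH) (Lpr_dt (f205953 IH) (Lpe (f12920 IH) (Lpe (f13334 IH) (Lpe (f13335 IH) (Lpr_gf (f159531 IH) (Lpe (f73554 IH) (Lpn (LP (LK LD1_c13 LD2_c2 LD3_c47))))))))))))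
theorem f73552 : Led Lsl_bf (LP (LK LD1_c13 LD2_c2 LD3_c47)) = (LP (LK LD1_c11 LD2_c24 LD3_c58)) :=
  Lgr Lrot24 (Lpr_bt (f73550 IH) (Lpn (LP (LK LD1_c11 LD2_c24 LD3_c58))))
theorem f22825 : Led Lsl_bt (LP (LK LD1_c3 LD2_c14 LD3_c7)) = (LP (LK LD1_c1 LD2_c33 LD3_c37)) :=
  Lre_b IH (LK LD1_c3 LD2_c14 LD3_c7) (LK LD1_c1 LD2_c33 LD3_c37) Lrfl Lrfl
theorem f148448 : Led Lsl_bt (LP (LK LD1_c3 LD2_c42 LD3_c53)) = (LP (LK LD1_c1 LD2_c48 LD3_c27)) :=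
  Lre_b IH (LK LD1_c3 LD2_c42 LD3_c53) (LK LD1_c1 LD2_c48 LD3_c27) Lrfl Lrfl
theorem f205977 : Led Lsl_cf (LP (LK LD1_c3 LD2_c14 LD3_c49)) = (LP (LK LD1_c3 LD2_c42 LD3_c53)) :=
  Lgr Lrot163 (Lpe (f24196 IH) (Lpe (f157333 IH) (Lpr_gf (f205965 IH) (Lpr_bf (f73552 IH) (Lpr_ct (f73414 IH) (Lpe (K8.f157789 IH) (Lpe (K8.f68462 IH) (Lpr_bt (f22825 IH) (Lpe (K8.f159527 IH) (Lpe (f148448 IH) (Lpn (LP (LK LD1_c3 LD2_c42 LD3_c53)))))))))))))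
theorem f162376 : Led Lsl_gt (LP (LK LD1_c6 LD2_c59 LD3_c49)) = (LP (LK LD1_c12 LD2_c33 LD3_c33)) :=
  Lgr Lrot150 (Lpe (K8.f18632 IH) (Lpr_gf (K8.f162370 IH) (Lpe (K8.f15658 IH) (Lpr_gt (K3.f15274 IH) (Lpr_ct (K0.f14723 IH) (Lpr_gt (K5.f16760 IH) (Lpr_ct (K6.f16763 IH) (Lpe (K8.f157297 IH) (Lpe (f157301 IH) (Lpn (LP (LK LD1_c12 LD2_c33 LD3_c33))))))))))))
theorem f18773 : Led Lsl_ct (LP (LK LD1_c6 LD2_c59 LD3_c49)) = (LP (LK LD1_c3 LD2_c29 LD3_c3)) :=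
  Lre_c IH (LK LD1_c6 LD2_c59 LD3_c49) (LK LD1_c3 LD2_c29 LD3_c3) Lrfl Lrfl
theorem f162378 : Led Lsl_df (LP (LK LD1_c14 LD2_c20 LD3_c11)) = (LP (LK LD1_c12 LD2_c33 LD3_c33)) :=
  Lgr Lrot153 (Lpe (K7.f16131 IH) (Lpr_dt (K0.f16064 IH) (Lpe (K0.f16060 IH) (Lpe (K0.f16059 IH) (Lpe (K5.f16761 IH) (Lpe (K8.f16764 IH) (Lpe (K8.f129435 IH) (Lpe (f18773 IH) (Lpr_gt (f162376 IH) (Lpn (LP (LK LD1_c12 LD2_c33 LD3_c33))))))))))))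
theorem f162380 : Led Lsl_dt (LP (LK LD1_c14 LD2_c20 LD3_c11)) = (LP (LK LD1_c12 LD2_c33 LD3_c33)) :=
  Lgr Lrot42 (Lpr_df (f162378 IH) (Lpn (LP (LK LD1_c12 LD2_c33 LD3_c33))))
theorem f122989 : Led Lsl_gt (LP (LK LD1_c7 LD2_c51 LD3_c56)) = (LP (LK LD1_c3 LD2_c55 LD3_c7)) :=
  Lre_g IH (LK LD1_c7 LD2_c51 LD3_c56) (LK LD1_c3 LD2_c55 LD3_c7) Lrfl Lrfl
theorem f205989 : Led Lsl_df (LP (LK LD1_c7 LD2_c51 LD3_c56)) = (LP (LK LD1_c7 LD2_c26 LD3_c28)) :=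
  Lgr Lrot155 (Lpr_gt (f122989 IH) (Lpr_ct (K6.f122982 IH) (Lpr_gt (K7.f122985 IH) (Lpr_ct (K7.f156885 IH) (Lpr_dt (f162380 IH) (Lpe (f156481 IH) (Lpe (K8.f156462 IH) (Lpr_cf (f205977 IH) (Lpe (K8.f162565 IH) (Lpn (LP (LK LD1_c7 LD2_c26 LD3_c28))))))))))))
theorem f16766 : Led Lsl_dt (LP (LK LD1_c1 LD2_c50 LD3_c51)) = (LP (LK LD1_c3 LD2_c47 LD3_c31)) :=
  Lre_d IH (LK LD1_c1 LD2_c50 LD3_c51) (LK LD1_c3 LD2_c47 LD3_c31) Lrfl Lrfl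
theorem f15659 : Led Lsl_ct (LP (LK LD1_c1 LD2_c50 LD3_c52)) = (LP (LK LD1_c3 LD2_c47 LD3_c34)) :=
  Lre_c IH (LK LD1_c1 LD2_c50 LD3_c52) (LK LD1_c3 LD2_c47 LD3_c34) Lrfl Lrfl
theorem f205973 : Led Lsl_dt (LP (LK LD1_c6 LD2_c33 LD3_c8)) = (LP (LK LD1_c3 LD2_c47 LD3_c34)) :=
  Lgr Lrot27 (Lpe (f157333 IH) (Lpr_gf (f205965 IH) (Lpe (f15863 IH) (Lpr_gf (K8.f129425 IH) (Lpe (f16766 IH) (Lpr_gt (K5.f16761 IH) (Lpe (K0.f15914 IH) (Lpe (K3.f17110 IH) (Lpr_ct (f15659 IH) (Lpn (LP (LK LD1_c3 LD2_c47 LD3_c34))))))))))))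
theorem f205997 : Led Lsl_gf (LP (LK LD1_c6 LD2_c33 LD3_c8)) = (LP (LK LD1_c9 LD2_c6 LD3_c15)) :=
  Lgr Lrot144 (Lpr_dt (f205973 IH) (Lpe (K8.f145118 IH) (Lpe (K6.f135781 IH) (Lpr_cf (K6.f135764 IH) (Lpe (K7.f144366 IH) (Lpe (f122989 IH) (Lpr_df (f205989 IH) (Lpe (K8.f162614 IH) (Lpe (K8.f151990 IH) (Lpn (LP (LK LD1_c9 LD2_c6 LD3_c15))))))))))))
theorem f157332 : Led Lsl_ct (LP (LK LD1_c6 LD2_c33 LD3_c8)) = (LP (LK LD1_c12 LD2_c33 LD3_c35)) :=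
  Lre_c IH (LK LD1_c6 LD2_c33 LD3_c8) (LK LD1_c12 LD2_c33 LD3_c35) Lrfl Lrfl
theorem f90959 : Led Lsl_ft (LP (LK LD1_c13 LD2_c2 LD3_c47)) = (LP (LK LD1_c13 LD2_c10 LD3_c14)) :=
  Lgr Lrot4 (Lpe (f15863 IH) (Lpr_ff (K7.f90954 IH) (Lpe (K8.f90958 IH) (Lpn (LP (LK LD1_c13 LD2_c10 LD3_c14))))))
theorem f90968 : Led Lsl_af (LP (LK LD1_c6 LD2_c59 LD3_c49)) = (LP (LK LD1_c13 LD2_c10 LD3_c14)) :=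
  Lgr Lrot0 (Lpr_at (K8.f90966 IH) (Lpn (LP (LK LD1_c13 LD2_c10 LD3_c14))))
theorem f205969 : Led Lsl_gt (LP (LK LD1_c12 LD2_c33 LD3_c35)) = (LP (LK LD1_c6 LD2_c59 LD3_c49)) :=
  Lgr Lrot46 (Lpr_gf (f205965 IH) (Lpr_ft (f90959 IH) (Lpe (f90968 IH) (Lpn (LP (LK LD1_c6 LD2_c59 LD3_c49))))))
theorem f63600 : Led Lsl_bt (LP (LK LD1_c3 LD2_c29 LD3_c3)) = (LP (LK LD1_c1 LD2_c41 LD3_c16)) :=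
  Lre_b IH (LK LD1_c3 LD2_c29 LD3_c3) (LK LD1_c1 LD2_c41 LD3_c16) Lrfl Lrfl
theorem f206001 : Led Lsl_gt (LP (LK LD1_c1 LD2_c21 LD3_c59)) = (LP (LK LD1_c2 LD2_c14 LD3_c30)) :=
  Lgr Lrot65 (Lpe (K4.f24063 IH) (Lpr_bt (K4.f112096 IH) (Lpe (K3.f93466 IH) (Lpe (f63600 IH) (Lpr_ct (K8.f18632 IH) (Lpe (f205969 IH) (Lpe (f157332 IH) (Lpr_gf (f205997 IH) (Lpe (K8.f25289 IH) (Lpr_ct (K7.f20375 IH) (Lpn (LP (LK LD1_c2 LD2_c14 LD3_c30)))))))))))))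
theorem f75042 : Led Lsl_dt (LP (LK LD1_c0 LD2_c39 LD3_c45)) = (LP (LK LD1_c0 LD2_c38 LD3_c49)) :=
  Lgr Lrot42 (Lpr_df (K2.f75036 IH) (Lpn (LP (LK LD1_c0 LD2_c38 LD3_c49))))
theorem f72662 : Led Lsl_bt (LP (LK LD1_c0 LD2_c38 LD3_c49)) = (LP (LK LD1_c1 LD2_c24 LD3_c2)) :=
  Lre_b IH (LK LD1_c0 LD2_c38 LD3_c49) (LK LD1_c1 LD2_c24 LD3_c2) Lrfl Lrfl
theorem f76140 : Led Lsl_df (LP (LK LD1_c1 LD2_c26 LD3_c5)) = (LP (LK LD1_c1 LD2_c24 LD3_c2)) :=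
  Lgr Lrot12 (Lpr_bt (K8.f20560 IH) (Lpr_dt (f75042 IH) (Lpr_bt (f72662 IH) (Lpn (LP (LK LD1_c1 LD2_c24 LD3_c2))))))
theorem f160972 : Led Lsl_ct (LP (LK LD1_c2 LD2_c55 LD3_c43)) = (LP (LK LD1_c4 LD2_c34 LD3_c31)) :=
  Lgr Lrot176 (Lpe (K8.f160968 IH) (Lpr_cf (K8.f160966 IH) (Lpe (K8.f109940 IH) (Lpr_cf (K3.f109929 IH) (Lpe (K6.f109916 IH) (Lpr_cf (K6.f115838 IH) (Lpe (K5.f95244 IH) (Lpe (K5.f94980 IH) (Lpe (K5.f72398 IH) (Lpe (K5.f72259 IH) (Lpe (K5.f130546 IH) (Lpr_cf (K5.f130537 IH) (Lpe (K5.f65976 IH) (Lpr_cf (K4.f65942 IH) (Lpe (K5.f130209 IH) (Lpn (LP (LK LD1_c4 LD2_c34 LD3_c31))))))))))))))))))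
theorem f161002 : Led Lsl_gt (LP (LK LD1_c1 LD2_c4 LD3_c7)) = (LP (LK LD1_c0 LD2_c37 LD3_c27)) :=
  Lgr Lrot150 (Lpe (K5.f36537 IH) (Lpr_gf (K8.f161000 IH) (Lpr_df (f76140 IH) (Lpe (K8.f160992 IH) (Lpr_ct (f160972 IH) (Lpr_gt (K6.f146480 IH) (Lpr_ct (K6.f135840 IH) (Lpe (K6.f135846 IH) (Lpr_cf (K6.f135904 IH) (Lpn (LP (LK LD1_c0 LD2_c37 LD3_c27))))))))))))
theorem f151671 : Led Lsl_gt (LP (LK LD1_c2 LD2_c14 LD3_c30)) = (LP (LK LD1_c1 LD2_c21 LD3_c60)) :=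
  Lgr Lrot5 (Lpr_ft (K7.f151661 IH) (Lpr_at (K7.f151664 IH) (Lpe (K8.f8360 IH) (Lpn (LP (LK LD1_c1 LD2_c21 LD3_c60))))))
theorem f157936 : Led Lsl_gt (LP (LK LD1_c4 LD2_c34 LD3_c49)) = (LP (LK LD1_c2 LD2_c51 LD3_c57)) :=
  Lgr Lrot94 (Lpe (K7.f20373 IH) (Lpr_gt (f151671 IH) (Lpr_dt (K8.f157928 IH) (Lpr_gt (K5.f92058 IH) (Lpr_dt (K6.f92048 IH) (Lpe (K3.f58944 IH) (Lpr_df (K3.f92034 IH) (Lpe (K3.f12059 IH) (Lpe (K6.f112119 IH) (Lpn (LP (LK LD1_c2 LD2_c51 LD3_c57))))))))))))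
theorem f206003 : Led Lsl_gt (LP (LK LD1_c0 LD2_c37 LD3_c27)) = (LP (LK LD1_c1 LD2_c4 LD3_c8)) :=
  Lgr Lrot150 (Lpr_cf (K6.f135904 IH) (Lpe (f161002 IH) (Lpe (K4.f112929 IH) (Lpr_gt (f206001 IH) (Lpr_ct (K7.f20373 IH) (Lpr_gt (f157936 IH) (Lpr_ct (K5.f112117 IH) (Lpe (K5.f112188 IH) (Lpe (K5.f132493 IH) (Lpn (LP (LK LD1_c1 LD2_c4 LD3_c8))))))))))))
theorem f132484 : Led Lsl_cf (LP (LK LD1_c1 LD2_c4 LD3_c8)) = (LP (LK LD1_c1 LD2_c28 LD3_c31)) :=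
  Lgr Lrot108 (Lpr_ft (K5.f132478 IH) (Lpr_ct (K8.f117294 IH) (Lpe (K5.f132391 IH) (Lpn (LP (LK LD1_c1 LD2_c28 LD3_c31))))))
theorem f437501 : Led Lsl_gf (LP (LK LD1_c1 LD2_c3 LD3_c59)) = (LP (LK LD1_c0 LD2_c37 LD3_c47)) :=
  Lgr Lrot124 (Lpr_bf (f437498 IH) (Lpe (K6.f135904 IH) (Lpr_gt (f206003 IH) (Lpr_cf (f132484 IH) (Lpr_bt (K5.f58962 IH) (Lpr_gt (f202383 IH) (Lpr_ct (f104868 IH) (Lpr_gt (f205764 IH) (Lpr_cf (f59806 IH) (Lpr_bt (f59805 IH) (Lpn (LP (LK LD1_c0 LD2_c37 LD3_c47)))))))))))))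
theorem f437503 : Led Lsl_ff (LP (LK LD1_c0 LD2_c29 LD3_c12)) = (LP (LK LD1_c0 LD2_c16 LD3_c52)) :=
  Lgr Lrot52 (Lpr_at (f146373 IH) (Lpr_gf (f437501 IH) (Lpe (f16658 IH) (Lpn (LP (LK LD1_c0 LD2_c16 LD3_c52))))))
theorem f437506 : Led Lsl_ft (LP (LK LD1_c0 LD2_c29 LD3_c12)) = (LP (LK LD1_c0 LD2_c16 LD3_c52)) :=
  Lgr Lrot48 (Lpr_ff (f437503 IH) (Lpn (LP (LK LD1_c0 LD2_c16 LD3_c52))))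
theorem f437500 : Led Lsl_at (LP (LK LD1_c1 LD2_c3 LD3_c59)) = (LP (LK LD1_c0 LD2_c29 LD3_c12)) :=
  Lre_a IH (LK LD1_c1 LD2_c3 LD3_c59) (LK LD1_c0 LD2_c29 LD3_c12) Lrfl Lrfl
theorem f448938 : Led Lsl_ff (LP (LK LD1_c1 LD2_c3 LD3_c59)) = v114 :=
  Lgr Lrot30 (Lpr_at (f437500 IH) (Lpr_ft (f437506 IH) (Lpr_at (f448935 IH) (Lpn v114))))
theorem f448940 : Led Lsl_ft (LP (LK LD1_c1 LD2_c3 LD3_c59)) = v114 :=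
  Lgr Lrot48 (Lpr_ff (f448938 IH) (Lpn v114))
theorem f448936 : Led Lsl_af (LP (LK LD1_c0 LD2_c16 LD3_c52)) = v114 :=
  Lgr Lrot0 (Lpr_at (f448935 IH) (Lpn v114))
theorem f21185 : Led Lsl_gt (LP (LK LD1_c0 LD2_c37 LD3_c48)) = (LP (LK LD1_c0 LD2_c16 LD3_c52)) :=
  Lre_g IH (LK LD1_c0 LD2_c37 LD3_c48) (LK LD1_c0 LD2_c16 LD3_c52) Lrfl Lrfl
theorem f448941 : Led Lsl_gt (LP (LK LD1_c1 LD2_c3 LD3_c59)) = (LP (LK LD1_c0 LD2_c37 LD3_c48)) :=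
  Lgr Lrot5 (Lpr_ft (f448940 IH) (Lpe (f448936 IH) (Lpe (f21185 IH) (Lpn (LP (LK LD1_c0 LD2_c37 LD3_c48))))))
theorem f448942 : Led Lsl_gt (LP (LK LD1_c1 LD2_c3 LD3_c59)) = (LP (LK LD1_c0 LD2_c37 LD3_c48)) :=
  Leop (Lpe (f448941 IH) (Lpn (LP (LK LD1_c1 LD2_c3 LD3_c59))))
theorem seed_19 : LEOK LG_g (LK LD1_c1 LD2_c3 LD3_c59) :=
  Leoe_g (LK LD1_c1 LD2_c3 LD3_c59) (f448942 IH)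
def v123 : LQ := Led Lsl_at (LP (LK LD1_c0 LD2_c18 LD3_c22))
theorem f449007 : Led Lsl_at (LP (LK LD1_c0 LD2_c18 LD3_c22)) = v123 :=
  Lrfl
theorem f449008 : Led Lsl_af (LP (LK LD1_c0 LD2_c18 LD3_c22)) = v123 :=
  Lgr Lrot0 (Lpr_at (f449007 IH) (Lpn v123))
theorem f449009 : Led Lsl_ft (LP (LK LD1_c0 LD2_c18 LD3_c23)) = v123 :=
  Lgr Lrot2 (Lpr_gt (K9.f59013 IH) (Lpr_gt (K10.f59000 IH) (Lpr_af (f449008 IH) (Lpn v123))))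
theorem f449011 : Led Lsl_ff (LP (LK LD1_c0 LD2_c18 LD3_c23)) = v123 :=
  Lgr Lrot3 (Lpr_ft (f449009 IH) (Lpn v123))
def v109 : LQ := Led Lsl_at (LP (LK LD1_c0 LD2_c16 LD3_c44))
theorem f448909 : Led Lsl_at (LP (LK LD1_c0 LD2_c16 LD3_c44)) = v109 :=
  Lrfl
theorem f448910 : Led Lsl_af (LP (LK LD1_c0 LD2_c16 LD3_c44)) = v109 :=
  Lgr Lrot0 (Lpr_at (f448909 IH) (Lpn v109))
theorem f448911 : Led Lsl_ft (LP (LK LD1_c0 LD2_c16 LD3_c45)) = v109 :=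
  Lgr Lrot2 (Lpr_gt (K9.f146326 IH) (Lpr_gt (K9.f24438 IH) (Lpr_af (f448910 IH) (Lpn v109))))
theorem f449012 : Led Lsl_bt v109 = v123 :=
  Lgr Lrot35 (Lpe (f448911 IH) (Lpr_bf (f198359 IH) (Lpr_ff (f449011 IH) (Lpn v123))))
theorem f210308 : Led Lsl_bt (LP (LK LD1_c0 LD2_c18 LD3_c22)) = (LP (LK LD1_c0 LD2_c41 LD3_c1)) :=
  Lre_b IH (LK LD1_c0 LD2_c18 LD3_c22) (LK LD1_c0 LD2_c41 LD3_c1) Lrfl Lrfl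
theorem f449013 : Led Lsl_af (LP (LK LD1_c0 LD2_c37 LD3_c35)) = (LP (LK LD1_c0 LD2_c41 LD3_c1)) :=
  Lgr Lrot36 (Lpr_bt (f146352 IH) (Lpr_at (f448909 IH) (Lpr_bt (f449012 IH) (Lpe (f449008 IH) (Lpr_bt (f210308 IH) (Lpn (LP (LK LD1_c0 LD2_c41 LD3_c1))))))))
theorem f449014 : Led Lsl_at (LP (LK LD1_c0 LD2_c41 LD3_c1)) = (LP (LK LD1_c0 LD2_c37 LD3_c35)) :=
  Leop (Lpr_af (f449013 IH) (Lpn (LP (LK LD1_c0 LD2_c41 LD3_c1))))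
theorem seed_20 : LEOK LG_a (LK LD1_c0 LD2_c41 LD3_c1) :=
  Leoe_a (LK LD1_c0 LD2_c41 LD3_c1) (f449014 IH)
def v167 : LQ := Led Lsl_gf (LP (LK LD1_c0 LD2_c22 LD3_c11))
theorem f450855 : Led Lsl_gf (LP (LK LD1_c0 LD2_c22 LD3_c11)) = v167 :=
  Lrfl
theorem f10942 : Led Lsl_ct (LP (LK LD1_c0 LD2_c22 LD3_c11)) = (LP (LK LD1_c0 LD2_c49 LD3_c32)) :=
  Lre_c IH (LK LD1_c0 LD2_c22 LD3_c11) (LK LD1_c0 LD2_c49 LD3_c32) Lrfl Lrfl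
theorem f10964 : Led Lsl_gt (LP (LK LD1_c0 LD2_c49 LD3_c32)) = (LP (LK LD1_c1 LD2_c45 LD3_c44)) :=
  Lre_g IH (LK LD1_c0 LD2_c49 LD3_c32) (LK LD1_c1 LD2_c45 LD3_c44) Lrfl Lrfl
theorem f10940 : Led Lsl_ct (LP (LK LD1_c0 LD2_c49 LD3_c32)) = (LP (LK LD1_c0 LD2_c22 LD3_c11)) :=
  Lre_c IH (LK LD1_c0 LD2_c49 LD3_c32) (LK LD1_c0 LD2_c22 LD3_c11) Lrfl Lrfl
theorem f10965 : Led Lsl_dt (LP (LK LD1_c1 LD2_c45 LD3_c44)) = (LP (LK LD1_c3 LD2_c37 LD3_c48)) :=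
  Lre_d IH (LK LD1_c1 LD2_c45 LD3_c44) (LK LD1_c3 LD2_c37 LD3_c48) Lrfl Lrfl
theorem f156076 : Led Lsl_gf (LP (LK LD1_c3 LD2_c32 LD3_c60)) = (LP (LK LD1_c3 LD2_c37 LD3_c48)) :=
  Lgr Lrot143 (Lpr_dt (K0.f10404 IH) (Lpe (K0.f10393 IH) (Lpe (K0.f10308 IH) (Lpe (K3.f10435 IH) (Lpr_df (K7.f156065 IH) (Lpe (K7.f10087 IH) (Lpe (f10940 IH) (Lpr_gt (f10964 IH) (Lpr_dt (f10965 IH) (Lpn (LP (LK LD1_c3 LD2_c37 LD3_c48))))))))))))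
theorem f19459 : Led Lsl_at (LP (LK LD1_c1 LD2_c44 LD3_c8)) = (LP (LK LD1_c3 LD2_c32 LD3_c60)) :=
  Lre_a IH (LK LD1_c1 LD2_c44 LD3_c8) (LK LD1_c3 LD2_c32 LD3_c60) Lrfl Lrfl
theorem f19458 : Led Lsl_ft (LP (LK LD1_c3 LD2_c34 LD3_c51)) = (LP (LK LD1_c1 LD2_c44 LD3_c8)) :=
  Lre_f IH (LK LD1_c3 LD2_c34 LD3_c51) (LK LD1_c1 LD2_c44 LD3_c8) Lrfl Lrfl
theorem f156081 : Led Lsl_gt (LP (LK LD1_c3 LD2_c34 LD3_c51)) = (LP (LK LD1_c3 LD2_c37 LD3_c48)) :=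
  Lgr Lrot5 (Lpr_ft (f19458 IH) (Lpr_at (f19459 IH) (Lpr_gf (f156076 IH) (Lpn (LP (LK LD1_c3 LD2_c37 LD3_c48))))))
theorem f156083 : Led Lsl_dt (LP (LK LD1_c3 LD2_c37 LD3_c48)) = (LP (LK LD1_c1 LD2_c45 LD3_c44)) :=
  Lre_d IH (LK LD1_c3 LD2_c37 LD3_c48) (LK LD1_c1 LD2_c45 LD3_c44) Lrfl Lrfl
theorem f156105 : Led Lsl_ct (LP (LK LD1_c1 LD2_c45 LD3_c44)) = (LP (LK LD1_c3 LD2_c28 LD3_c53)) :=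
  Lgr Lrot7 (Lpe (f156083 IH) (Lpe (f156081 IH) (Lpe (K0.f19431 IH) (Lpr_gf (K3.f105855 IH) (Lpe (K3.f105883 IH) (Lpe (K3.f106107 IH) (Lpe (K3.f106072 IH) (Lpr_gt (K3.f106085 IH) (Lpr_dt (K7.f156101 IH) (Lpn (LP (LK LD1_c3 LD2_c28 LD3_c53))))))))))))
theorem f450858 : Led Lsl_df (LP (LK LD1_c0 LD2_c48 LD3_c13)) = v167 :=
  Lgr Lrot155 (Lpr_gt (K6.f10362 IH) (Lpe (K0.f19448 IH) (Lpr_gt (K3.f9976 IH) (Lpr_ct (K3.f10359 IH) (Lpr_dt (K7.f156101 IH) (Lpe (f156105 IH) (Lpe (f10964 IH) (Lpe (f10942 IH) (Lpr_gf (f450855 IH) (Lpn v167))))))))))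
theorem f447704 : Led Lsl_bf (LP (LK LD1_c1 LD2_c39 LD3_c39)) = (LP (LK LD1_c1 LD2_c34 LD3_c40)) :=
  Lgr Lrot24 (Lpr_bt (f447702 IH) (Lpn (LP (LK LD1_c1 LD2_c34 LD3_c40))))
theorem f94279 : Led Lsl_gt (LP (LK LD1_c1 LD2_c39 LD3_c39)) = (LP (LK LD1_c1 LD2_c39 LD3_c35)) :=
  Lgr Lrot46 (Lpe (f94278 IH) (Lpr_ft (K3.f94258 IH) (Lpr_at (K3.f94269 IH) (Lpn (LP (LK LD1_c1 LD2_c39 LD3_c35))))))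
theorem f85174 : Led Lsl_gt (LP (LK LD1_c0 LD2_c23 LD3_c35)) = (LP (LK LD1_c0 LD2_c52 LD3_c4)) :=
  Lre_g IH (LK LD1_c0 LD2_c23 LD3_c35) (LK LD1_c0 LD2_c52 LD3_c4) Lrfl Lrfl
theorem f447708 : Led Lsl_cf (LP (LK LD1_c0 LD2_c52 LD3_c4)) = (LP (LK LD1_c1 LD2_c34 LD3_c40)) :=
  Lgr Lrot58 (Lpe (f85174 IH) (Lpe (f85059 IH) (Lpr_bt (K2.f85182 IH) (Lpr_gf (f430223 IH) (Lpr_bf (f430249 IH) (Lpr_ct (f124182 IH) (Lpe (f430245 IH) (Lpr_cf (f107219 IH) (Lpe (f94279 IH) (Lpr_bf (f447704 IH) (Lpn (LP (LK LD1_c1 LD2_c34 LD3_c40)))))))))))))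
theorem f447716 : Led Lsl_ct (LP (LK LD1_c0 LD2_c52 LD3_c4)) = (LP (LK LD1_c1 LD2_c34 LD3_c40)) :=
  Lgr Lrot59 (Lpr_cf (f447708 IH) (Lpn (LP (LK LD1_c1 LD2_c34 LD3_c40))))
theorem f83112 : Led Lsl_bt (LP (LK LD1_c0 LD2_c19 LD3_c16)) = (LP (LK LD1_c0 LD2_c43 LD3_c11)) :=
  Lre_b IH (LK LD1_c0 LD2_c19 LD3_c16) (LK LD1_c0 LD2_c43 LD3_c11) Lrfl Lrfl
theorem f83114 : Led Lsl_et (LP (LK LD1_c0 LD2_c43 LD3_c11)) = (LP (LK LD1_c0 LD2_c41 LD3_c50)) :=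
  Lgr Lrot74 (Lpe (f83112 IH) (Lpr_ef (K7.f83110 IH) (Lpe (K7.f83113 IH) (Lpn (LP (LK LD1_c0 LD2_c41 LD3_c50))))))
theorem f23418 : Led Lsl_bt (LP (LK LD1_c0 LD2_c43 LD3_c11)) = (LP (LK LD1_c0 LD2_c19 LD3_c16)) :=
  Lre_b IH (LK LD1_c0 LD2_c43 LD3_c11) (LK LD1_c0 LD2_c19 LD3_c16) Lrfl Lrfl
theorem f83119 : Led Lsl_ef (LP (LK LD1_c0 LD2_c43 LD3_c11)) = (LP (LK LD1_c0 LD2_c41 LD3_c50)) :=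
  Lgr Lrot29 (Lpr_bt (f23418 IH) (Lpr_et (K7.f83116 IH) (Lpr_bt (K7.f83118 IH) (Lpn (LP (LK LD1_c0 LD2_c41 LD3_c50))))))
theorem f155451 : Led Lsl_cf (LP (LK LD1_c0 LD2_c43 LD3_c11)) = (LP (LK LD1_c0 LD2_c43 LD3_c11)) :=
  Lgr Lrot39 (Lpr_et (f83114 IH) (Lpr_ct (K7.f155443 IH) (Lpe (f83119 IH) (Lpn (LP (LK LD1_c0 LD2_c43 LD3_c11))))))
theorem f434602 : Led Lsl_ct (LP (LK LD1_c0 LD2_c19 LD3_c16)) = (LP (LK LD1_c0 LD2_c20 LD3_c13)) :=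
  Lgr Lrot83 (Lpe (f23418 IH) (Lpr_cf (f155451 IH) (Lpe (f83112 IH) (Lpr_cf (K7.f152170 IH) (Lpe (K7.f154149 IH) (Lpn (LP (LK LD1_c0 LD2_c20 LD3_c13))))))))
theorem f23414 : Led Lsl_gt (LP (LK LD1_c0 LD2_c43 LD3_c9)) = (LP (LK LD1_c0 LD2_c19 LD3_c14)) :=
  Lre_g IH (LK LD1_c0 LD2_c43 LD3_c9) (LK LD1_c0 LD2_c19 LD3_c14) Lrfl Lrfl
theorem f23415 : Led Lsl_ct (LP (LK LD1_c1 LD2_c33 LD3_c13)) = (LP (LK LD1_c0 LD2_c43 LD3_c9)) :=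
  Lre_c IH (LK LD1_c1 LD2_c33 LD3_c13) (LK LD1_c0 LD2_c43 LD3_c9) Lrfl Lrfl
theorem f434606 : Led Lsl_bt (LP (LK LD1_c1 LD2_c33 LD3_c13)) = (LP (LK LD1_c0 LD2_c51 LD3_c10)) :=
  Lgr Lrot92 (Lpr_ct (f23415 IH) (Lpr_gt (f23414 IH) (Lpe (K2.f23407 IH) (Lpr_bt (K2.f23396 IH) (Lpe (K7.f83108 IH) (Lpr_ct (f434602 IH) (Lpr_gt (K7.f13435 IH) (Lpr_cf (K7.f13586 IH) (Lpr_bt (K7.f124154 IH) (Lpr_gt (f124164 IH) (Lpn (LP (LK LD1_c0 LD2_c51 LD3_c10)))))))))))))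
theorem f434608 : Led Lsl_bf (LP (LK LD1_c1 LD2_c33 LD3_c13)) = (LP (LK LD1_c0 LD2_c51 LD3_c10)) :=
  Lgr Lrot24 (Lpr_bt (f434606 IH) (Lpn (LP (LK LD1_c0 LD2_c51 LD3_c10))))
theorem f447719 : Led Lsl_bf (LP (LK LD1_c0 LD2_c52 LD3_c4)) = (LP (LK LD1_c0 LD2_c43 LD3_c9)) :=
  Lgr Lrot90 (Lpr_ct (f447716 IH) (Lpe (f447704 IH) (Lpr_ct (f431024 IH) (Lpe (f434608 IH) (Lpr_ct (f23415 IH) (Lpn (LP (LK LD1_c0 LD2_c43 LD3_c9))))))))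
theorem f447718 : Led Lsl_et (LP (LK LD1_c0 LD2_c52 LD3_c4)) = (LP (LK LD1_c1 LD2_c50 LD3_c23)) :=
  Lre_e IH (LK LD1_c0 LD2_c52 LD3_c4) (LK LD1_c1 LD2_c50 LD3_c23) Lrfl Lrfl
theorem f434618 : Led Lsl_et (LP (LK LD1_c1 LD2_c33 LD3_c14)) = (LP (LK LD1_c0 LD2_c43 LD3_c9)) :=
  Lre_e IH (LK LD1_c1 LD2_c33 LD3_c14) (LK LD1_c0 LD2_c43 LD3_c9) Lrfl Lrfl
theorem f447723 : Led Lsl_bt (LP (LK LD1_c1 LD2_c50 LD3_c23)) = (LP (LK LD1_c1 LD2_c33 LD3_c14)) :=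
  Lgr Lrot119 (Lpe (f447718 IH) (Lpr_bf (f447719 IH) (Lpe (f434618 IH) (Lpn (LP (LK LD1_c1 LD2_c33 LD3_c14))))))
theorem f431020 : Led Lsl_ef (LP (LK LD1_c1 LD2_c26 LD3_c27)) = (LP (LK LD1_c0 LD2_c51 LD3_c10)) :=
  Lgr Lrot88 (Lpr_et (f431018 IH) (Lpn (LP (LK LD1_c0 LD2_c51 LD3_c10))))
theorem f431028 : Led Lsl_bt (LP (LK LD1_c1 LD2_c26 LD3_c27)) = (LP (LK LD1_c3 LD2_c1 LD3_c6)) :=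
  Lre_b IH (LK LD1_c1 LD2_c26 LD3_c27) (LK LD1_c3 LD2_c1 LD3_c6) Lrfl Lrfl
theorem f434611 : Led Lsl_ef (LP (LK LD1_c1 LD2_c33 LD3_c13)) = (LP (LK LD1_c3 LD2_c1 LD3_c6)) :=
  Lgr Lrot29 (Lpr_bt (f434606 IH) (Lpe (f431020 IH) (Lpr_bt (f431028 IH) (Lpn (LP (LK LD1_c3 LD2_c1 LD3_c6))))))
theorem f434616 : Led Lsl_et (LP (LK LD1_c1 LD2_c33 LD3_c13)) = (LP (LK LD1_c3 LD2_c1 LD3_c6)) :=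
  Lgr Lrot87 (Lpr_ef (f434611 IH) (Lpn (LP (LK LD1_c3 LD2_c1 LD3_c6))))
theorem f434610 : Led Lsl_ct (LP (LK LD1_c0 LD2_c43 LD3_c9)) = (LP (LK LD1_c1 LD2_c33 LD3_c13)) :=
  Lre_c IH (LK LD1_c0 LD2_c43 LD3_c9) (LK LD1_c1 LD2_c33 LD3_c13) Lrfl Lrfl
theorem f434619 : Led Lsl_cf (LP (LK LD1_c1 LD2_c33 LD3_c14)) = (LP (LK LD1_c3 LD2_c1 LD3_c6)) :=
  Lgr Lrot39 (Lpr_et (f434618 IH) (Lpr_ct (f434610 IH) (Lpr_et (f434616 IH) (Lpn (LP (LK LD1_c3 LD2_c1 LD3_c6))))))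
theorem f21139 : Led Lsl_bt (LP (LK LD1_c3 LD2_c1 LD3_c6)) = (LP (LK LD1_c1 LD2_c26 LD3_c27)) :=
  Lre_b IH (LK LD1_c3 LD2_c1 LD3_c6) (LK LD1_c1 LD2_c26 LD3_c27) Lrfl Lrfl
theorem f430410 : Led Lsl_bf (LP (LK LD1_c3 LD2_c1 LD3_c5)) = (LP (LK LD1_c3 LD2_c9 LD3_c31)) :=
  Lgr Lrot96 (Lpe (K5.f134691 IH) (Lpe (K5.f126850 IH) (Lpr_et (f430408 IH) (Lpn (LP (LK LD1_c3 LD2_c9 LD3_c31))))))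
theorem f112966 : Led Lsl_dt (LP (LK LD1_c0 LD2_c45 LD3_c16)) = (LP (LK LD1_c1 LD2_c37 LD3_c44)) :=
  Lre_d IH (LK LD1_c0 LD2_c45 LD3_c16) (LK LD1_c1 LD2_c37 LD3_c44) Lrfl Lrfl
theorem f143764 : Led Lsl_at (LP (LK LD1_c12 LD2_c59 LD3_c37)) = (LP (LK LD1_c6 LD2_c49 LD3_c11)) :=
  Lgr Lrot51 (Lpr_df (K6.f143762 IH) (Lpe (K6.f113166 IH) (Lpe (f113302 IH) (Lpn (LP (LK LD1_c6 LD2_c49 LD3_c11))))))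
theorem f143776 : Led Lsl_ct (LP (LK LD1_c6 LD2_c49 LD3_c11)) = (LP (LK LD1_c12 LD2_c33 LD3_c20)) :=
  Lgr Lrot111 (Lpe (f143764 IH) (Lpe (K6.f126922 IH) (Lpr_af (K6.f143770 IH) (Lpn (LP (LK LD1_c12 LD2_c33 LD3_c20))))))
theorem f143869 : Led Lsl_at (LP (LK LD1_c1 LD2_c37 LD3_c28)) = (LP (LK LD1_c3 LD2_c14 LD3_c47)) :=
  Lgr Lrot66 (Lpr_ff (K6.f143843 IH) (Lpe (K6.f113153 IH) (Lpe (K6.f143739 IH) (Lpn (LP (LK LD1_c3 LD2_c14 LD3_c47))))))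
theorem f430400 : Led Lsl_dt (LP (LK LD1_c3 LD2_c14 LD3_c47)) = (LP (LK LD1_c3 LD2_c9 LD3_c31)) :=
  Lgr Lrot44 (Lpe (f143869 IH) (Lpr_df (f430387 IH) (Lpe (f430399 IH) (Lpn (LP (LK LD1_c3 LD2_c9 LD3_c31))))))
theorem f430425 : Led Lsl_ct (LP (LK LD1_c3 LD2_c9 LD3_c31)) = (LP (LK LD1_c3 LD2_c9 LD3_c31)) :=
  Lgr Lrot176 (Lpe (f430400 IH) (Lpe (K6.f126731 IH) (Lpe (K6.f133730 IH) (Lpe (f143776 IH) (Lpe (f113174 IH) (Lpe (K6.f113144 IH) (Lpe (f112966 IH) (Lpr_cf (f135813 IH) (Lpe (K6.f113130 IH) (Lpe (K6.f113161 IH) (Lpe (f113302 IH) (Lpe (f143856 IH) (Lpe (K6.f133731 IH) (Lpe (K6.f126730 IH) (Lpr_df (f430423 IH) (Lpn (LP (LK LD1_c3 LD2_c9 LD3_c31))))))))))))))))))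
theorem f113135 : Led Lsl_gt (LP (LK LD1_c1 LD2_c37 LD3_c43)) = (LP (LK LD1_c0 LD2_c45 LD3_c16)) :=
  Lre_g IH (LK LD1_c1 LD2_c37 LD3_c43) (LK LD1_c0 LD2_c45 LD3_c16) Lrfl Lrfl
theorem f430421 : Led Lsl_gf (LP (LK LD1_c1 LD2_c37 LD3_c43)) = (LP (LK LD1_c3 LD2_c9 LD3_c31)) :=
  Lgr Lrot47 (Lpr_gt (f113135 IH) (Lpe (f135812 IH) (Lpr_ff (f430414 IH) (Lpn (LP (LK LD1_c3 LD2_c9 LD3_c31))))))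
theorem f431158 : Led Lsl_gf (LP (LK LD1_c3 LD2_c1 LD3_c29)) = (LP (LK LD1_c3 LD2_c8 LD3_c58)) :=
  Lgr Lrot47 (Lpr_gt (K7.f61748 IH) (Lpe (K5.f61737 IH) (Lpr_ff (f431152 IH) (Lpn (LP (LK LD1_c3 LD2_c8 LD3_c58))))))
theorem f135815 : Led Lsl_bt (LP (LK LD1_c3 LD2_c22 LD3_c47)) = (LP (LK LD1_c1 LD2_c37 LD3_c43)) :=
  Lre_b IH (LK LD1_c3 LD2_c22 LD3_c47) (LK LD1_c1 LD2_c37 LD3_c43) Lrfl Lrfl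
theorem f431160 : Led Lsl_cf (LP (LK LD1_c3 LD2_c1 LD3_c29)) = (LP (LK LD1_c3 LD2_c22 LD3_c47)) :=
  Lgr Lrot163 (Lpr_gf (f431158 IH) (Lpe (f153405 IH) (Lpe (f83137 IH) (Lpe (K7.f83118 IH) (Lpr_ct (K6.f145490 IH) (Lpe (K6.f7378 IH) (Lpe (K6.f20907 IH) (Lpr_bt (K6.f20925 IH) (Lpe (f113135 IH) (Lpe (f135815 IH) (Lpn (LP (LK LD1_c3 LD2_c22 LD3_c47)))))))))))))
theorem f155461 : Led Lsl_bt (LP (LK LD1_c1 LD2_c29 LD3_c56)) = (LP (LK LD1_c3 LD2_c7 LD3_c25)) :=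
  Lre_b IH (LK LD1_c1 LD2_c29 LD3_c56) (LK LD1_c3 LD2_c7 LD3_c25) Lrfl Lrfl
theorem f431162 : Led Lsl_bt (LP (LK LD1_c1 LD2_c37 LD3_c43)) = (LP (LK LD1_c3 LD2_c22 LD3_c47)) :=
  Lre_b IH (LK LD1_c1 LD2_c37 LD3_c43) (LK LD1_c3 LD2_c22 LD3_c47) Lrfl Lrfl
theorem f431163 : Led Lsl_ct (LP (LK LD1_c3 LD2_c7 LD3_c25)) = (LP (LK LD1_c1 LD2_c37 LD3_c43)) :=
  Lgr Lrot83 (Lpe (f155461 IH) (Lpe (K7.f104656 IH) (Lpr_bf (K7.f155459 IH) (Lpr_cf (f431160 IH) (Lpe (f431162 IH) (Lpn (LP (LK LD1_c1 LD2_c37 LD3_c43))))))))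
theorem f104712 : Led Lsl_bt (LP (LK LD1_c3 LD2_c7 LD3_c25)) = (LP (LK LD1_c1 LD2_c29 LD3_c56)) :=
  Lre_b IH (LK LD1_c3 LD2_c7 LD3_c25) (LK LD1_c1 LD2_c29 LD3_c56) Lrfl Lrfl
theorem f104583 : Led Lsl_at (LP (LK LD1_c1 LD2_c6 LD3_c2)) = (LP (LK LD1_c0 LD2_c30 LD3_c14)) :=
  Lre_a IH (LK LD1_c1 LD2_c6 LD3_c2) (LK LD1_c0 LD2_c30 LD3_c14) Lrfl Lrfl
theorem f104584 : Led Lsl_at (LP (LK LD1_c0 LD2_c18 LD3_c37)) = (LP (LK LD1_c0 LD2_c41 LD3_c35)) :=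
  Lre_a IH (LK LD1_c0 LD2_c18 LD3_c37) (LK LD1_c0 LD2_c41 LD3_c35) Lrfl Lrfl
theorem f104585 : Led Lsl_cf (LP (LK LD1_c1 LD2_c6 LD3_c2)) = (LP (LK LD1_c0 LD2_c41 LD3_c35)) :=
  Lgr Lrot1 (Lpr_at (f104583 IH) (Lpr_ct (K5.f104318 IH) (Lpr_at (f104584 IH) (Lpn (LP (LK LD1_c0 LD2_c41 LD3_c35))))))
theorem f434623 : Led Lsl_gf (LP (LK LD1_c1 LD2_c33 LD3_c14)) = (LP (LK LD1_c1 LD2_c6 LD3_c2)) :=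
  Lgr Lrot129 (Lpr_cf (f434619 IH) (Lpr_bt (f21139 IH) (Lpr_gt (f21136 IH) (Lpr_bf (f430410 IH) (Lpr_ct (f430425 IH) (Lpe (f430421 IH) (Lpe (f431163 IH) (Lpr_bt (f104712 IH) (Lpr_gt (K7.f104680 IH) (Lpe (f104585 IH) (Lpn (LP (LK LD1_c1 LD2_c6 LD3_c2)))))))))))))
theorem f152374 : Led Lsl_bf (LP (LK LD1_c1 LD2_c6 LD3_c2)) = (LP (LK LD1_c0 LD2_c41 LD3_c35)) :=
  Lgr Lrot24 (Lpr_bt (K7.f152367 IH) (Lpn (LP (LK LD1_c0 LD2_c41 LD3_c35))))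
theorem f104679 : Led Lsl_gt (LP (LK LD1_c2 LD2_c18 LD3_c0)) = (LP (LK LD1_c1 LD2_c6 LD3_c2)) :=
  Lre_g IH (LK LD1_c2 LD2_c18 LD3_c0) (LK LD1_c1 LD2_c6 LD3_c2) Lrfl Lrfl
theorem f432786 : Led Lsl_at (LP (LK LD1_c3 LD2_c1 LD3_c34)) = (LP (LK LD1_c1 LD2_c43 LD3_c58)) :=
  Lgr Lrot66 (Lpe (K4.f87533 IH) (Lpr_af (K4.f114019 IH) (Lpr_ff (f432781 IH) (Lpn (LP (LK LD1_c1 LD2_c43 LD3_c58))))))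
theorem f64527 : Led Lsl_gt (LP (LK LD1_c1 LD2_c26 LD3_c47)) = (LP (LK LD1_c3 LD2_c1 LD3_c32)) :=
  Lre_g IH (LK LD1_c1 LD2_c26 LD3_c47) (LK LD1_c3 LD2_c1 LD3_c32) Lrfl Lrfl
theorem f434195 : Led Lsl_gt (LP (LK LD1_c3 LD2_c1 LD3_c32)) = (LP (LK LD1_c1 LD2_c43 LD3_c58)) :=
  Lgr Lrot46 (Lpe (f64527 IH) (Lpr_ft (K4.f87533 IH) (Lpr_at (f432786 IH) (Lpn (LP (LK LD1_c1 LD2_c43 LD3_c58))))))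
theorem f447727 : Led Lsl_ct (LP (LK LD1_c1 LD2_c50 LD3_c23)) = (LP (LK LD1_c3 LD2_c1 LD3_c32)) :=
  Lgr Lrot64 (Lpr_bt (f447723 IH) (Lpr_gf (f434623 IH) (Lpr_bf (f152374 IH) (Lpe (f104585 IH) (Lpe (f104679 IH) (Lpe (f104638 IH) (Lpr_gf (f155149 IH) (Lpe (K7.f155140 IH) (Lpr_ct (f432788 IH) (Lpe (f434195 IH) (Lpn (LP (LK LD1_c3 LD2_c1 LD3_c32)))))))))))))
theorem f447731 : Led Lsl_ef (LP (LK LD1_c1 LD2_c34 LD3_c40)) = (LP (LK LD1_c3 LD2_c1 LD3_c32)) :=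
  Lgr Lrot28 (Lpe (f447708 IH) (Lpr_et (f447718 IH) (Lpr_ct (f447727 IH) (Lpn (LP (LK LD1_c3 LD2_c1 LD3_c32))))))
theorem f432986 : Led Lsl_at (LP (LK LD1_c1 LD2_c43 LD3_c59)) = (LP (LK LD1_c0 LD2_c48 LD3_c33)) :=
  Lre_a IH (LK LD1_c1 LD2_c43 LD3_c59) (LK LD1_c0 LD2_c48 LD3_c33) Lrfl Lrfl
theorem f434197 : Led Lsl_ft (LP (LK LD1_c3 LD2_c1 LD3_c32)) = (LP (LK LD1_c1 LD2_c43 LD3_c59)) :=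
  Lgr Lrot2 (Lpr_gt (f434195 IH) (Lpr_gt (f155080 IH) (Lpe (f432986 IH) (Lpn (LP (LK LD1_c1 LD2_c43 LD3_c59))))))
theorem f434199 : Led Lsl_ff (LP (LK LD1_c3 LD2_c1 LD3_c32)) = (LP (LK LD1_c1 LD2_c43 LD3_c59)) :=
  Lgr Lrot3 (Lpr_ft (f434197 IH) (Lpn (LP (LK LD1_c1 LD2_c43 LD3_c59))))
theorem f85364 : Led Lsl_ct (LP (LK LD1_c0 LD2_c47 LD3_c3)) = (LP (LK LD1_c0 LD2_c21 LD3_c4)) :=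
  Lre_c IH (LK LD1_c0 LD2_c47 LD3_c3) (LK LD1_c0 LD2_c21 LD3_c4) Lrfl Lrfl
theorem f66438 : Led Lsl_gt (LP (LK LD1_c1 LD2_c41 LD3_c5)) = (LP (LK LD1_c0 LD2_c47 LD3_c3)) :=
  Lre_g IH (LK LD1_c1 LD2_c41 LD3_c5) (LK LD1_c0 LD2_c47 LD3_c3) Lrfl Lrfl
theorem f429701 : Led Lsl_dt (LP (LK LD1_c1 LD2_c41 LD3_c5)) = (LP (LK LD1_c3 LD2_c28 LD3_c45)) :=
  Lre_d IH (LK LD1_c1 LD2_c41 LD3_c5) (LK LD1_c3 LD2_c28 LD3_c45) Lrfl Lrfl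
theorem f432806 : Led Lsl_gt (LP (LK LD1_c3 LD2_c28 LD3_c45)) = (LP (LK LD1_c3 LD2_c31 LD3_c4)) :=
  Lgr Lrot9 (Lpe (f429701 IH) (Lpr_gt (f66438 IH) (Lpr_ct (f85364 IH) (Lpr_gt (f64299 IH) (Lpr_ct (f432800 IH) (Lpe (f64528 IH) (Lpe (K7.f64514 IH) (Lpr_gf (f155282 IH) (Lpe (f155244 IH) (Lpn (LP (LK LD1_c3 LD2_c31 LD3_c4))))))))))))
theorem f88858 : Led Lsl_at (LP (LK LD1_c1 LD2_c53 LD3_c26)) = (LP (LK LD1_c3 LD2_c31 LD3_c4)) :=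
  Lgr Lrot100 (Lpr_af (K7.f88856 IH) (Lpn (LP (LK LD1_c3 LD2_c31 LD3_c4))))
theorem f432810 : Led Lsl_gf (LP (LK LD1_c3 LD2_c28 LD3_c45)) = (LP (LK LD1_c1 LD2_c41 LD3_c13)) :=
  Lgr Lrot47 (Lpr_gt (f432806 IH) (Lpe (f88858 IH) (Lpr_ff (K7.f88870 IH) (Lpn (LP (LK LD1_c1 LD2_c41 LD3_c13))))))
theorem f432964 : Led Lsl_et (LP (LK LD1_c1 LD2_c41 LD3_c5)) = (LP (LK LD1_c1 LD2_c41 LD3_c5)) :=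
  Lgr Lrot121 (Lpr_dt (f429701 IH) (Lpr_gf (f432810 IH) (Lpe (K7.f84997 IH) (Lpr_et (K3.f88670 IH) (Lpe (K2.f10767 IH) (Lpe (K0.f17740 IH) (Lpr_dt (K5.f17748 IH) (Lpr_gf (K5.f105640 IH) (Lpe (K3.f85328 IH) (Lpe (f66438 IH) (Lpn (LP (LK LD1_c1 LD2_c41 LD3_c5)))))))))))))
theorem f88836 : Led Lsl_ef (LP (LK LD1_c1 LD2_c41 LD3_c7)) = (LP (LK LD1_c1 LD2_c42 LD3_c5)) :=
  Lgr Lrot88 (Lpr_et (K3.f88830 IH) (Lpn (LP (LK LD1_c1 LD2_c42 LD3_c5))))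
theorem f155061 : Led Lsl_dt (LP (LK LD1_c1 LD2_c43 LD3_c60)) = (LP (LK LD1_c3 LD2_c34 LD3_c24)) :=
  Lre_d IH (LK LD1_c1 LD2_c43 LD3_c60) (LK LD1_c3 LD2_c34 LD3_c24) Lrfl Lrfl
theorem f429689 : Led Lsl_ft (LP (LK LD1_c3 LD2_c28 LD3_c22)) = (LP (LK LD1_c3 LD2_c35 LD3_c26)) :=
  Lgr Lrot48 (Lpr_ff (f429685 IH) (Lpn (LP (LK LD1_c3 LD2_c35 LD3_c26))))
theorem f106093 : Led Lsl_dt (LP (LK LD1_c3 LD2_c35 LD3_c26)) = (LP (LK LD1_c1 LD2_c44 LD3_c34)) :=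
  Lre_d IH (LK LD1_c3 LD2_c35 LD3_c26) (LK LD1_c1 LD2_c44 LD3_c34) Lrfl Lrfl
theorem f429693 : Led Lsl_ff (LP (LK LD1_c1 LD2_c40 LD3_c49)) = (LP (LK LD1_c1 LD2_c44 LD3_c34)) :=
  Lgr Lrot19 (Lpr_dt (K3.f85348 IH) (Lpr_ft (f429689 IH) (Lpr_dt (f106093 IH) (Lpn (LP (LK LD1_c1 LD2_c44 LD3_c34))))))
theorem f90379 : Led Lsl_at (LP (LK LD1_c1 LD2_c40 LD3_c49)) = (LP (LK LD1_c0 LD2_c47 LD3_c3)) :=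
  Lre_a IH (LK LD1_c1 LD2_c40 LD3_c49) (LK LD1_c0 LD2_c47 LD3_c3) Lrfl Lrfl
theorem f429699 : Led Lsl_gf (LP (LK LD1_c1 LD2_c41 LD3_c5)) = (LP (LK LD1_c1 LD2_c44 LD3_c34)) :=
  Lgr Lrot47 (Lpr_gt (f66438 IH) (Lpe (f90379 IH) (Lpr_ff (f429693 IH) (Lpn (LP (LK LD1_c1 LD2_c44 LD3_c34))))))
theorem f429671 : Led Lsl_et (LP (LK LD1_c0 LD2_c53 LD3_c20)) = (LP (LK LD1_c1 LD2_c44 LD3_c34)) :=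
  Lgr Lrot87 (Lpr_ef (f429666 IH) (Lpn (LP (LK LD1_c1 LD2_c44 LD3_c34))))
theorem f432968 : Led Lsl_gt (LP (LK LD1_c3 LD2_c34 LD3_c24)) = (LP (LK LD1_c1 LD2_c53 LD3_c26)) :=
  Lgr Lrot139 (Lpe (f155061 IH) (Lpr_gf (K7.f155057 IH) (Lpr_ef (f88836 IH) (Lpr_dt (K7.f64519 IH) (Lpe (f432806 IH) (Lpe (f429701 IH) (Lpr_et (f432964 IH) (Lpr_gf (f429699 IH) (Lpe (f429671 IH) (Lpr_dt (K7.f84320 IH) (Lpn (LP (LK LD1_c1 LD2_c53 LD3_c26)))))))))))))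
theorem f432977 : Led Lsl_et (LP (LK LD1_c1 LD2_c43 LD3_c60)) = (LP (LK LD1_c1 LD2_c43 LD3_c60)) :=
  Lgr Lrot122 (Lpr_dt (f155061 IH) (Lpr_gt (f432968 IH) (Lpe (K7.f84320 IH) (Lpr_et (f429671 IH) (Lpe (f429699 IH) (Lpr_dt (f429701 IH) (Lpr_gt (f432806 IH) (Lpe (K7.f64519 IH) (Lpe (f88836 IH) (Lpe (K7.f155057 IH) (Lpn (LP (LK LD1_c1 LD2_c43 LD3_c60)))))))))))))
theorem f432981 : Led Lsl_ef (LP (LK LD1_c0 LD2_c48 LD3_c33)) = (LP (LK LD1_c0 LD2_c48 LD3_c33)) :=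
  Lgr Lrot28 (Lpr_ct (K7.f10751 IH) (Lpr_et (f432977 IH) (Lpr_ct (f155062 IH) (Lpn (LP (LK LD1_c0 LD2_c48 LD3_c33))))))
theorem f432985 : Led Lsl_at (LP (LK LD1_c0 LD2_c48 LD3_c33)) = (LP (LK LD1_c1 LD2_c43 LD3_c59)) :=
  Lre_a IH (LK LD1_c0 LD2_c48 LD3_c33) (LK LD1_c1 LD2_c43 LD3_c59) Lrfl Lrfl
theorem f432987 : Led Lsl_et (LP (LK LD1_c1 LD2_c43 LD3_c59)) = (LP (LK LD1_c1 LD2_c43 LD3_c59)) :=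
  Lgr Lrot123 (Lpe (f432985 IH) (Lpr_ef (f432981 IH) (Lpe (f432986 IH) (Lpn (LP (LK LD1_c1 LD2_c43 LD3_c59))))))
theorem f447737 : Led Lsl_et (LP (LK LD1_c1 LD2_c34 LD3_c40)) = (LP (LK LD1_c3 LD2_c1 LD3_c32)) :=
  Lgr Lrot87 (Lpr_ef (f447731 IH) (Lpn (LP (LK LD1_c3 LD2_c1 LD3_c32))))
theorem f447739 : Led Lsl_ft (LP (LK LD1_c1 LD2_c34 LD3_c40)) = (LP (LK LD1_c1 LD2_c34 LD3_c40)) :=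
  Lgr Lrot86 (Lpr_ef (f447731 IH) (Lpr_ff (f434199 IH) (Lpe (f432987 IH) (Lpe (f434197 IH) (Lpe (f447737 IH) (Lpn (LP (LK LD1_c1 LD2_c34 LD3_c40))))))))
theorem f65432 : Led Lsl_at (LP (LK LD1_c0 LD2_c44 LD3_c2)) = (LP (LK LD1_c1 LD2_c34 LD3_c28)) :=
  Lre_a IH (LK LD1_c0 LD2_c44 LD3_c2) (LK LD1_c1 LD2_c34 LD3_c28) Lrfl Lrfl
theorem f65425 : Led Lsl_ct (LP (LK LD1_c0 LD2_c43 LD3_c58)) = (LP (LK LD1_c1 LD2_c34 LD3_c28)) :=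
  Lre_c IH (LK LD1_c0 LD2_c43 LD3_c58) (LK LD1_c1 LD2_c34 LD3_c28) Lrfl Lrfl
theorem f65427 : Led Lsl_ft (LP (LK LD1_c1 LD2_c34 LD3_c28)) = (LP (LK LD1_c1 LD2_c34 LD3_c28)) :=
  Lgr Lrot4 (Lpe (f65425 IH) (Lpr_ff (K4.f65414 IH) (Lpe (f65426 IH) (Lpn (LP (LK LD1_c1 LD2_c34 LD3_c28))))))
theorem f65433 : Led Lsl_at (LP (LK LD1_c1 LD2_c34 LD3_c28)) = (LP (LK LD1_c0 LD2_c44 LD3_c2)) :=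
  Lre_a IH (LK LD1_c1 LD2_c34 LD3_c28) (LK LD1_c0 LD2_c44 LD3_c2) Lrfl Lrfl
theorem f65434 : Led Lsl_ff (LP (LK LD1_c0 LD2_c44 LD3_c2)) = (LP (LK LD1_c0 LD2_c44 LD3_c2)) :=
  Lgr Lrot30 (Lpr_at (f65432 IH) (Lpr_ft (f65427 IH) (Lpr_at (f65433 IH) (Lpn (LP (LK LD1_c0 LD2_c44 LD3_c2))))))
theorem f434059 : Led Lsl_gf (LP (LK LD1_c0 LD2_c50 LD3_c11)) = (LP (LK LD1_c0 LD2_c44 LD3_c2)) :=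
  Lgr Lrot47 (Lpr_gt (f434057 IH) (Lpe (f65432 IH) (Lpr_ff (f65434 IH) (Lpn (LP (LK LD1_c0 LD2_c44 LD3_c2))))))
theorem f447745 : Led Lsl_af (LP (LK LD1_c0 LD2_c50 LD3_c11)) = (LP (LK LD1_c1 LD2_c34 LD3_c40)) :=
  Lgr Lrot31 (Lpr_gf (f434059 IH) (Lpe (f65439 IH) (Lpr_ft (f447739 IH) (Lpn (LP (LK LD1_c1 LD2_c34 LD3_c40))))))
theorem f447747 : Led Lsl_at (LP (LK LD1_c0 LD2_c50 LD3_c11)) = (LP (LK LD1_c1 LD2_c34 LD3_c40)) :=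
  Lgr Lrot100 (Lpr_af (f447745 IH) (Lpn (LP (LK LD1_c1 LD2_c34 LD3_c40))))
theorem f447753 : Led Lsl_ft (LP (LK LD1_c0 LD2_c50 LD3_c11)) = (LP (LK LD1_c0 LD2_c50 LD3_c11)) :=
  Lgr Lrot101 (Lpr_af (f447745 IH) (Lpe (f447739 IH) (Lpe (f447747 IH) (Lpn (LP (LK LD1_c0 LD2_c50 LD3_c11))))))
theorem f447757 : Led Lsl_ff (LP (LK LD1_c0 LD2_c52 LD3_c5)) = (LP (LK LD1_c0 LD2_c52 LD3_c5)) :=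
  Lgr Lrot23 (Lpr_ct (f430201 IH) (Lpr_ft (f447753 IH) (Lpe (f430198 IH) (Lpn (LP (LK LD1_c0 LD2_c52 LD3_c5))))))
theorem f430227 : Led Lsl_bt (LP (LK LD1_c0 LD2_c52 LD3_c5)) = (LP (LK LD1_c0 LD2_c51 LD3_c24)) :=
  Lgr Lrot127 (Lpr_bf (f430225 IH) (Lpn (LP (LK LD1_c0 LD2_c51 LD3_c24))))
theorem f447761 : Led Lsl_ft (LP (LK LD1_c0 LD2_c51 LD3_c24)) = (LP (LK LD1_c0 LD2_c51 LD3_c24)) :=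
  Lgr Lrot75 (Lpe (f430227 IH) (Lpr_ff (f447757 IH) (Lpr_bf (f430225 IH) (Lpn (LP (LK LD1_c0 LD2_c51 LD3_c24))))))
theorem f447763 : Led Lsl_ff (LP (LK LD1_c0 LD2_c23 LD3_c11)) = (LP (LK LD1_c0 LD2_c23 LD3_c11)) :=
  Lgr Lrot23 (Lpr_ct (f124182 IH) (Lpr_ft (f447761 IH) (Lpr_ct (f124178 IH) (Lpn (LP (LK LD1_c0 LD2_c23 LD3_c11))))))
theorem f447767 : Led Lsl_at (LP (LK LD1_c0 LD2_c23 LD3_c11)) = (LP (LK LD1_c0 LD2_c23 LD3_c12)) :=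
  Lgr Lrot26 (Lpr_ff (f447763 IH) (Lpe (f156366 IH) (Lpr_gt (f156359 IH) (Lpn (LP (LK LD1_c0 LD2_c23 LD3_c12))))))
theorem f447769 : Led Lsl_af (LP (LK LD1_c0 LD2_c23 LD3_c11)) = (LP (LK LD1_c0 LD2_c23 LD3_c12)) :=
  Lgr Lrot0 (Lpr_at (f447767 IH) (Lpn (LP (LK LD1_c0 LD2_c23 LD3_c12))))
theorem f447775 : Led Lsl_ff (LP (LK LD1_c0 LD2_c23 LD3_c12)) = (LP (LK LD1_c0 LD2_c23 LD3_c12)) :=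
  Lgr Lrot30 (Lpe (f447769 IH) (Lpe (f447763 IH) (Lpr_at (f447767 IH) (Lpn (LP (LK LD1_c0 LD2_c23 LD3_c12))))))
theorem f152325 : Led Lsl_ct (LP (LK LD1_c0 LD2_c23 LD3_c12)) = (LP (LK LD1_c0 LD2_c51 LD3_c26)) :=
  Lre_c IH (LK LD1_c0 LD2_c23 LD3_c12) (LK LD1_c0 LD2_c51 LD3_c26) Lrfl Lrfl
theorem f447779 : Led Lsl_ft (LP (LK LD1_c0 LD2_c51 LD3_c26)) = (LP (LK LD1_c0 LD2_c51 LD3_c26)) :=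
  Lgr Lrot4 (Lpe (f152325 IH) (Lpr_ff (f447775 IH) (Lpe (K7.f124176 IH) (Lpn (LP (LK LD1_c0 LD2_c51 LD3_c26))))))
theorem f152323 : Led Lsl_bf (LP (LK LD1_c0 LD2_c51 LD3_c26)) = (LP (LK LD1_c0 LD2_c43 LD3_c8)) :=
  Lgr Lrot24 (Lpr_bt (K7.f152321 IH) (Lpn (LP (LK LD1_c0 LD2_c43 LD3_c8))))
theorem f447783 : Led Lsl_ff (LP (LK LD1_c0 LD2_c43 LD3_c8)) = (LP (LK LD1_c0 LD2_c43 LD3_c8)) :=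
  Lgr Lrot25 (Lpe (f152323 IH) (Lpr_ft (f447779 IH) (Lpr_bt (K7.f152321 IH) (Lpn (LP (LK LD1_c0 LD2_c43 LD3_c8))))))
theorem f23428 : Led Lsl_ct (LP (LK LD1_c0 LD2_c43 LD3_c8)) = (LP (LK LD1_c1 LD2_c33 LD3_c12)) :=
  Lre_c IH (LK LD1_c0 LD2_c43 LD3_c8) (LK LD1_c1 LD2_c33 LD3_c12) Lrfl Lrfl
theorem f447785 : Led Lsl_ft (LP (LK LD1_c1 LD2_c33 LD3_c12)) = (LP (LK LD1_c1 LD2_c33 LD3_c12)) :=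
  Lgr Lrot4 (Lpe (f23428 IH) (Lpr_ff (f447783 IH) (Lpe (f23430 IH) (Lpn (LP (LK LD1_c1 LD2_c33 LD3_c12))))))
theorem f430293 : Led Lsl_bf (LP (LK LD1_c1 LD2_c33 LD3_c12)) = (LP (LK LD1_c1 LD2_c39 LD3_c42)) :=
  Lgr Lrot24 (Lpr_bt (f430291 IH) (Lpn (LP (LK LD1_c1 LD2_c39 LD3_c42))))
theorem f447787 : Led Lsl_ff (LP (LK LD1_c1 LD2_c39 LD3_c42)) = (LP (LK LD1_c1 LD2_c39 LD3_c42)) :=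
  Lgr Lrot25 (Lpe (f430293 IH) (Lpr_ft (f447785 IH) (Lpr_bt (f430291 IH) (Lpn (LP (LK LD1_c1 LD2_c39 LD3_c42))))))
theorem f447789 : Led Lsl_at (LP (LK LD1_c1 LD2_c39 LD3_c42)) = (LP (LK LD1_c1 LD2_c39 LD3_c41)) :=
  Lgr Lrot26 (Lpr_ff (f447787 IH) (Lpr_gt (f95707 IH) (Lpr_gt (f94267 IH) (Lpn (LP (LK LD1_c1 LD2_c39 LD3_c41))))))
theorem f447791 : Led Lsl_af (LP (LK LD1_c1 LD2_c39 LD3_c42)) = (LP (LK LD1_c1 LD2_c39 LD3_c41)) :=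
  Lgr Lrot0 (Lpr_at (f447789 IH) (Lpn (LP (LK LD1_c1 LD2_c39 LD3_c41))))
theorem f447797 : Led Lsl_ff (LP (LK LD1_c1 LD2_c39 LD3_c41)) = (LP (LK LD1_c1 LD2_c39 LD3_c41)) :=
  Lgr Lrot30 (Lpe (f447791 IH) (Lpe (f447787 IH) (Lpr_at (f447789 IH) (Lpn (LP (LK LD1_c1 LD2_c39 LD3_c41))))))
theorem f447801 : Led Lsl_ft (LP (LK LD1_c1 LD2_c46 LD3_c52)) = (LP (LK LD1_c1 LD2_c46 LD3_c52)) :=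
  Lgr Lrot4 (Lpe (f430221 IH) (Lpr_ff (f447797 IH) (Lpe (f430275 IH) (Lpn (LP (LK LD1_c1 LD2_c46 LD3_c52))))))
theorem f447805 : Led Lsl_ff (LP (LK LD1_c0 LD2_c50 LD3_c10)) = (LP (LK LD1_c0 LD2_c50 LD3_c10)) :=
  Lgr Lrot25 (Lpr_bt (f4010 IH) (Lpr_ft (f447801 IH) (Lpr_bt (f430209 IH) (Lpn (LP (LK LD1_c0 LD2_c50 LD3_c10))))))
theorem f447809 : Led Lsl_at (LP (LK LD1_c0 LD2_c50 LD3_c10)) = (LP (LK LD1_c0 LD2_c50 LD3_c12)) :=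
  Lgr Lrot26 (Lpr_ff (f447805 IH) (Lpe (f430207 IH) (Lpr_gt (f430281 IH) (Lpn (LP (LK LD1_c0 LD2_c50 LD3_c12))))))
theorem f430269 : Led Lsl_ef (LP (LK LD1_c0 LD2_c50 LD3_c10)) = (LP (LK LD1_c0 LD2_c48 LD3_c32)) :=
  Lgr Lrot88 (Lpr_et (f430265 IH) (Lpn (LP (LK LD1_c0 LD2_c48 LD3_c32))))
theorem f447815 : Led Lsl_af (LP (LK LD1_c0 LD2_c48 LD3_c32)) = (LP (LK LD1_c1 LD2_c39 LD3_c2)) :=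
  Lgr Lrot50 (Lpe (f430269 IH) (Lpr_at (f447809 IH) (Lpe (f430217 IH) (Lpn (LP (LK LD1_c1 LD2_c39 LD3_c2))))))
theorem f447823 : Led Lsl_ft (LP (LK LD1_c0 LD2_c48 LD3_c34)) = (LP (LK LD1_c1 LD2_c39 LD3_c2)) :=
  Lgr Lrot2 (Lpe (K7.f106012 IH) (Lpr_gt (K3.f106648 IH) (Lpr_af (f447815 IH) (Lpn (LP (LK LD1_c1 LD2_c39 LD3_c2))))))
theorem f447827 : Led Lsl_ff (LP (LK LD1_c0 LD2_c21 LD3_c43)) = (LP (LK LD1_c0 LD2_c48 LD3_c13)) :=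
  Lgr Lrot23 (Lpr_ct (f10752 IH) (Lpr_ft (f447823 IH) (Lpe (K6.f143265 IH) (Lpn (LP (LK LD1_c0 LD2_c48 LD3_c13))))))
theorem f10741 : Led Lsl_dt (LP (LK LD1_c0 LD2_c21 LD3_c43)) = (LP (LK LD1_c0 LD2_c48 LD3_c35)) :=
  Lre_d IH (LK LD1_c0 LD2_c21 LD3_c43) (LK LD1_c0 LD2_c48 LD3_c35) Lrfl Lrfl
theorem f450861 : Led Lsl_ft (LP (LK LD1_c0 LD2_c48 LD3_c35)) = v167 :=
  Lgr Lrot54 (Lpe (f10741 IH) (Lpr_ff (f447827 IH) (Lpr_df (f450858 IH) (Lpn v167))))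
theorem f432989 : Led Lsl_et (LP (LK LD1_c0 LD2_c21 LD3_c43)) = (LP (LK LD1_c0 LD2_c21 LD3_c43)) :=
  Lgr Lrot74 (Lpe (K7.f10750 IH) (Lpr_ef (f432981 IH) (Lpe (K7.f155077 IH) (Lpn (LP (LK LD1_c0 LD2_c21 LD3_c43))))))
theorem f432991 : Led Lsl_ef (LP (LK LD1_c0 LD2_c48 LD3_c34)) = (LP (LK LD1_c0 LD2_c48 LD3_c34)) :=
  Lgr Lrot28 (Lpr_ct (K7.f106011 IH) (Lpr_et (f432989 IH) (Lpr_ct (f10752 IH) (Lpn (LP (LK LD1_c0 LD2_c48 LD3_c34))))))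
theorem f430219 : Led Lsl_et (LP (LK LD1_c1 LD2_c39 LD3_c2)) = (LP (LK LD1_c0 LD2_c50 LD3_c12)) :=
  Lgr Lrot87 (Lpr_ef (f430217 IH) (Lpn (LP (LK LD1_c0 LD2_c50 LD3_c12))))
theorem f447765 : Led Lsl_ft (LP (LK LD1_c0 LD2_c50 LD3_c12)) = (LP (LK LD1_c0 LD2_c50 LD3_c12)) :=
  Lgr Lrot75 (Lpr_bf (f430249 IH) (Lpr_ff (f447763 IH) (Lpe (f430229 IH) (Lpn (LP (LK LD1_c0 LD2_c50 LD3_c12))))))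
theorem f447829 : Led Lsl_ff (LP (LK LD1_c0 LD2_c48 LD3_c34)) = (LP (LK LD1_c1 LD2_c39 LD3_c2)) :=
  Lgr Lrot72 (Lpe (f432991 IH) (Lpr_ft (f447823 IH) (Lpr_et (f430219 IH) (Lpr_ft (f447765 IH) (Lpe (f430217 IH) (Lpn (LP (LK LD1_c1 LD2_c39 LD3_c2))))))))
theorem f143271 : Led Lsl_gf (LP (LK LD1_c1 LD2_c44 LD3_c33)) = (LP (LK LD1_c1 LD2_c39 LD3_c2)) :=
  Lgr Lrot144 (Lpr_dt (K3.f106070 IH) (Lpr_gt (K3.f105766 IH) (Lpr_dt (K4.f17993 IH) (Lpe (K3.f17995 IH) (Lpe (K3.f17974 IH) (Lpe (K3.f17969 IH) (Lpe (K0.f10318 IH) (Lpe (K6.f10362 IH) (Lpr_cf (K6.f143265 IH) (Lpn (LP (LK LD1_c1 LD2_c39 LD3_c2))))))))))))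
theorem f447835 : Led Lsl_at (LP (LK LD1_c0 LD2_c48 LD3_c34)) = (LP (LK LD1_c1 LD2_c43 LD3_c13)) :=
  Lgr Lrot26 (Lpr_ff (f447829 IH) (Lpe (f143271 IH) (Lpr_gt (K3.f106085 IH) (Lpn (LP (LK LD1_c1 LD2_c43 LD3_c13))))))
theorem f447817 : Led Lsl_at (LP (LK LD1_c0 LD2_c48 LD3_c32)) = (LP (LK LD1_c1 LD2_c39 LD3_c2)) :=
  Lgr Lrot100 (Lpr_af (f447815 IH) (Lpn (LP (LK LD1_c1 LD2_c39 LD3_c2))))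
theorem f447843 : Led Lsl_ff (LP (LK LD1_c0 LD2_c48 LD3_c32)) = (LP (LK LD1_c1 LD2_c43 LD3_c13)) :=
  Lgr Lrot30 (Lpr_at (f447817 IH) (Lpe (f447829 IH) (Lpr_at (f447835 IH) (Lpn (LP (LK LD1_c1 LD2_c43 LD3_c13))))))
theorem f447851 : Led Lsl_ft (LP (LK LD1_c0 LD2_c48 LD3_c32)) = (LP (LK LD1_c1 LD2_c43 LD3_c13)) :=
  Lgr Lrot86 (Lpe (f430265 IH) (Lpr_ff (f447805 IH) (Lpr_ef (f430269 IH) (Lpr_ff (f447843 IH) (Lpr_ef (K7.f156057 IH) (Lpn (LP (LK LD1_c1 LD2_c43 LD3_c13))))))))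
theorem f447855 : Led Lsl_ff (LP (LK LD1_c0 LD2_c21 LD3_c42)) = (LP (LK LD1_c0 LD2_c48 LD3_c14)) :=
  Lgr Lrot23 (Lpr_ct (K3.f106015 IH) (Lpr_ft (f447851 IH) (Lpr_ct (K3.f19436 IH) (Lpn (LP (LK LD1_c0 LD2_c48 LD3_c14))))))
theorem f447861 : Led Lsl_ft (LP (LK LD1_c0 LD2_c48 LD3_c31)) = (LP (LK LD1_c1 LD2_c43 LD3_c12)) :=
  Lgr Lrot75 (Lpe (K7.f156126 IH) (Lpr_ff (f447855 IH) (Lpe (K6.f10358 IH) (Lpn (LP (LK LD1_c1 LD2_c43 LD3_c12))))))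
theorem f447867 : Led Lsl_ff (LP (LK LD1_c0 LD2_c48 LD3_c31)) = (LP (LK LD1_c1 LD2_c43 LD3_c12)) :=
  Lgr Lrot3 (Lpr_ft (f447861 IH) (Lpn (LP (LK LD1_c1 LD2_c43 LD3_c12))))
theorem f430262 : Led Lsl_at (LP (LK LD1_c0 LD2_c48 LD3_c31)) = (LP (LK LD1_c1 LD2_c43 LD3_c53)) :=
  Lre_a IH (LK LD1_c0 LD2_c48 LD3_c31) (LK LD1_c1 LD2_c43 LD3_c53) Lrfl Lrfl
theorem f430129 : Led Lsl_dt (LP (LK LD1_c1 LD2_c44 LD3_c19)) = (LP (LK LD1_c3 LD2_c35 LD3_c6)) :=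
  Lre_d IH (LK LD1_c1 LD2_c44 LD3_c19) (LK LD1_c3 LD2_c35 LD3_c6) Lrfl Lrfl
theorem f155155 : Led Lsl_dt (LP (LK LD1_c6 LD2_c19 LD3_c17)) = (LP (LK LD1_c3 LD2_c8 LD3_c1)) :=
  Lgr Lrot42 (Lpr_df (K7.f155153 IH) (Lpn (LP (LK LD1_c3 LD2_c8 LD3_c1))))
theorem f430166 : Led Lsl_bf (LP (LK LD1_c1 LD2_c44 LD3_c19)) = (LP (LK LD1_c3 LD2_c8 LD3_c1)) :=
  Lgr Lrot93 (Lpr_dt (f430129 IH) (Lpr_bt (K7.f430160 IH) (Lpr_dt (f155155 IH) (Lpn (LP (LK LD1_c3 LD2_c8 LD3_c1))))))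
theorem f430906 : Led Lsl_gt (LP (LK LD1_c1 LD2_c42 LD3_c41)) = (LP (LK LD1_c0 LD2_c48 LD3_c31)) :=
  Lgr Lrot149 (Lpr_cf (K2.f87527 IH) (Lpr_gf (K7.f134688 IH) (Lpr_bf (f430902 IH) (Lpr_ct (f104637 IH) (Lpr_gf (f155149 IH) (Lpe (K7.f126934 IH) (Lpe (f430166 IH) (Lpr_gf (f430108 IH) (Lpe (f209561 IH) (Lpr_ct (K7.f156303 IH) (Lpn (LP (LK LD1_c0 LD2_c48 LD3_c31)))))))))))))
theorem f430257 : Led Lsl_at (LP (LK LD1_c1 LD2_c43 LD3_c53)) = (LP (LK LD1_c0 LD2_c48 LD3_c31)) :=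
  Lre_a IH (LK LD1_c1 LD2_c43 LD3_c53) (LK LD1_c0 LD2_c48 LD3_c31) Lrfl Lrfl
theorem f430932 : Led Lsl_ft (LP (LK LD1_c3 LD2_c31 LD3_c61)) = (LP (LK LD1_c1 LD2_c43 LD3_c53)) :=
  Lgr Lrot2 (Lpr_gt (K7.f84926 IH) (Lpr_gt (f430906 IH) (Lpe (f430257 IH) (Lpn (LP (LK LD1_c1 LD2_c43 LD3_c53))))))
theorem f430934 : Led Lsl_ff (LP (LK LD1_c3 LD2_c31 LD3_c61)) = (LP (LK LD1_c1 LD2_c43 LD3_c53)) :=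
  Lgr Lrot3 (Lpr_ft (f430932 IH) (Lpn (LP (LK LD1_c1 LD2_c43 LD3_c53))))
theorem f447869 : Led Lsl_at (LP (LK LD1_c3 LD2_c31 LD3_c61)) = (LP (LK LD1_c1 LD2_c43 LD3_c12)) :=
  Lgr Lrot66 (Lpr_ff (f430934 IH) (Lpe (f430262 IH) (Lpr_ff (f447867 IH) (Lpn (LP (LK LD1_c1 LD2_c43 LD3_c12))))))
theorem f156071 : Led Lsl_bt (LP (LK LD1_c1 LD2_c45 LD3_c42)) = (LP (LK LD1_c0 LD2_c49 LD3_c31)) :=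
  Lre_b IH (LK LD1_c1 LD2_c45 LD3_c42) (LK LD1_c0 LD2_c49 LD3_c31) Lrfl Lrfl
theorem f156072 : Led Lsl_dt (LP (LK LD1_c1 LD2_c43 LD3_c12)) = (LP (LK LD1_c1 LD2_c45 LD3_c42)) :=
  Lgr Lrot79 (Lpe (K7.f106096 IH) (Lpr_df (K7.f156065 IH) (Lpe (f156071 IH) (Lpn (LP (LK LD1_c1 LD2_c45 LD3_c42))))))
theorem f156175 : Led Lsl_at (LP (LK LD1_c1 LD2_c45 LD3_c42)) = (LP (LK LD1_c3 LD2_c37 LD3_c43)) :=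
  Lre_a IH (LK LD1_c1 LD2_c45 LD3_c42) (LK LD1_c3 LD2_c37 LD3_c43) Lrfl Lrfl
theorem f448612 : Led Lsl_df (LP (LK LD1_c3 LD2_c31 LD3_c61)) = (LP (LK LD1_c3 LD2_c37 LD3_c43)) :=
  Lgr Lrot18 (Lpr_at (f447869 IH) (Lpr_dt (f156072 IH) (Lpr_at (f156175 IH) (Lpn (LP (LK LD1_c3 LD2_c37 LD3_c43))))))
theorem f153390 : Led Lsl_ct (LP (LK LD1_c3 LD2_c31 LD3_c61)) = (LP (LK LD1_c3 LD2_c1 LD3_c3)) :=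
  Lgr Lrot8 (Lpr_gt (K7.f84926 IH) (Lpr_dt (K3.f87547 IH) (Lpr_gt (K5.f109129 IH) (Lpr_dt (K4.f87492 IH) (Lpr_cf (K2.f84758 IH) (Lpe (K3.f87488 IH) (Lpr_gf (K7.f153384 IH) (Lpe (K5.f21116 IH) (Lpe (K6.f21127 IH) (Lpn (LP (LK LD1_c3 LD2_c1 LD3_c3))))))))))))
theorem f447875 : Led Lsl_gf (LP (LK LD1_c1 LD2_c43 LD3_c53)) = (LP (LK LD1_c1 LD2_c42 LD3_c32)) :=
  Lgr Lrot76 (Lpe (f430262 IH) (Lpr_ff (f447867 IH) (Lpr_gt (K7.f143282 IH) (Lpn (LP (LK LD1_c1 LD2_c42 LD3_c32))))))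
theorem f12098 : Led Lsl_ct (LP (LK LD1_c0 LD2_c47 LD3_c51)) = (LP (LK LD1_c1 LD2_c42 LD3_c33)) :=
  Lre_c IH (LK LD1_c0 LD2_c47 LD3_c51) (LK LD1_c1 LD2_c42 LD3_c33) Lrfl Lrfl
theorem f430104 : Led Lsl_df (LP (LK LD1_c0 LD2_c48 LD3_c44)) = (LP (LK LD1_c1 LD2_c42 LD3_c38)) :=
  Lgr Lrot38 (Lpr_dt (K7.f430098 IH) (Lpn (LP (LK LD1_c1 LD2_c42 LD3_c38))))
theorem f432777 : Led Lsl_df (LP (LK LD1_c3 LD2_c31 LD3_c56)) = (LP (LK LD1_c1 LD2_c43 LD3_c58)) :=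
  Lgr Lrot12 (Lpr_bt (K3.f19335 IH) (Lpe (f430104 IH) (Lpr_bt (f432769 IH) (Lpn (LP (LK LD1_c1 LD2_c43 LD3_c58))))))
theorem f447733 : Led Lsl_gt (LP (LK LD1_c1 LD2_c50 LD3_c23)) = (LP (LK LD1_c1 LD2_c41 LD3_c7)) :=
  Lgr Lrot180 (Lpr_ct (f447727 IH) (Lpr_gt (f434195 IH) (Lpe (f432777 IH) (Lpe (K5.f114148 IH) (Lpe (K3.f106677 IH) (Lpr_ct (K3.f105732 IH) (Lpe (K1.f12433 IH) (Lpe (K3.f105648 IH) (Lpe (K3.f88838 IH) (Lpn (LP (LK LD1_c1 LD2_c41 LD3_c7))))))))))))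
theorem f447729 : Led Lsl_cf (LP (LK LD1_c1 LD2_c50 LD3_c23)) = (LP (LK LD1_c3 LD2_c1 LD3_c32)) :=
  Lgr Lrot11 (Lpr_ct (f447727 IH) (Lpn (LP (LK LD1_c3 LD2_c1 LD3_c32))))
theorem f447883 : Led Lsl_bf (LP (LK LD1_c1 LD2_c43 LD3_c53)) = (LP (LK LD1_c3 LD2_c1 LD3_c32)) :=
  Lgr Lrot34 (Lpr_gf (f447875 IH) (Lpe (K3.f12103 IH) (Lpr_ct (f12098 IH) (Lpe (f430948 IH) (Lpe (f21095 IH) (Lpr_gf (f430941 IH) (Lpe (K3.f88840 IH) (Lpr_ct (K3.f88833 IH) (Lpe (f447733 IH) (Lpr_cf (f447729 IH) (Lpn (LP (LK LD1_c3 LD2_c1 LD3_c32)))))))))))))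
theorem f447889 : Led Lsl_bt (LP (LK LD1_c3 LD2_c31 LD3_c61)) = (LP (LK LD1_c1 LD2_c43 LD3_c59)) :=
  Lgr Lrot35 (Lpr_ff (f430934 IH) (Lpr_bf (f447883 IH) (Lpr_ff (f434199 IH) (Lpn (LP (LK LD1_c1 LD2_c43 LD3_c59))))))
theorem f152346 : Led Lsl_bf (LP (LK LD1_c0 LD2_c51 LD3_c27)) = (LP (LK LD1_c1 LD2_c40 LD3_c55)) :=
  Lgr Lrot24 (Lpr_bt (f152344 IH) (Lpn (LP (LK LD1_c1 LD2_c40 LD3_c55))))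
theorem f154963 : Led Lsl_ct (LP (LK LD1_c1 LD2_c40 LD3_c55)) = (LP (LK LD1_c3 LD2_c24 LD3_c20)) :=
  Lgr Lrot63 (Lpe (f152346 IH) (Lpr_gt (K7.f152334 IH) (Lpe (K5.f20859 IH) (Lpr_ct (K2.f20858 IH) (Lpe (K7.f154124 IH) (Lpe (K6.f143224 IH) (Lpr_bt (K7.f10920 IH) (Lpr_gt (K7.f154955 IH) (Lpr_ct (K7.f92264 IH) (Lpr_gt (f94656 IH) (Lpn (LP (LK LD1_c3 LD2_c24 LD3_c20)))))))))))))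
theorem f106381 : Led Lsl_bt (LP (LK LD1_c0 LD2_c45 LD3_c41)) = (LP (LK LD1_c1 LD2_c38 LD3_c30)) :=
  Lre_b IH (LK LD1_c0 LD2_c45 LD3_c41) (LK LD1_c1 LD2_c38 LD3_c30) Lrfl Lrfl
theorem f447895 : Led Lsl_gf (LP (LK LD1_c1 LD2_c38 LD3_c30)) = (LP (LK LD1_c1 LD2_c43 LD3_c59)) :=
  Lgr Lrot124 (Lpe (f106381 IH) (Lpr_ct (K7.f92264 IH) (Lpr_gt (f94656 IH) (Lpe (f154963 IH) (Lpe (f152346 IH) (Lpr_gt (K7.f152334 IH) (Lpr_ct (K5.f21043 IH) (Lpr_gt (K6.f21048 IH) (Lpe (f153390 IH) (Lpr_bt (f447889 IH) (Lpn (LP (LK LD1_c1 LD2_c43 LD3_c59)))))))))))))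
theorem f447901 : Led Lsl_cf (LP (LK LD1_c1 LD2_c41 LD3_c5)) = (LP (LK LD1_c1 LD2_c43 LD3_c59)) :=
  Lgr Lrot166 (Lpr_gt (f66438 IH) (Lpr_dt (K3.f85328 IH) (Lpe (K5.f105640 IH) (Lpr_dt (K5.f17759 IH) (Lpe (K0.f17746 IH) (Lpe (K3.f17769 IH) (Lpe (K4.f106342 IH) (Lpe (K3.f92031 IH) (Lpr_gf (f447895 IH) (Lpn (LP (LK LD1_c1 LD2_c43 LD3_c59))))))))))))
theorem f447943 : Led Lsl_ft (LP (LK LD1_c1 LD2_c41 LD3_c5)) = (LP (LK LD1_c1 LD2_c50 LD3_c23)) :=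
  Lgr Lrot4 (Lpr_cf (f447901 IH) (Lpe (f434197 IH) (Lpe (f447727 IH) (Lpn (LP (LK LD1_c1 LD2_c50 LD3_c23))))))
theorem f447949 : Led Lsl_af (LP (LK LD1_c1 LD2_c41 LD3_c4)) = (LP (LK LD1_c1 LD2_c50 LD3_c23)) :=
  Lgr Lrot31 (Lpe (K7.f62660 IH) (Lpe (f66438 IH) (Lpr_ft (f447943 IH) (Lpn (LP (LK LD1_c1 LD2_c50 LD3_c23))))))
theorem f447951 : Led Lsl_at (LP (LK LD1_c1 LD2_c41 LD3_c4)) = (LP (LK LD1_c1 LD2_c50 LD3_c23)) :=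
  Lgr Lrot100 (Lpr_af (f447949 IH) (Lpn (LP (LK LD1_c1 LD2_c50 LD3_c23))))
theorem f85177 : Led Lsl_et (LP (LK LD1_c1 LD2_c50 LD3_c23)) = (LP (LK LD1_c0 LD2_c52 LD3_c4)) :=
  Lre_e IH (LK LD1_c1 LD2_c50 LD3_c23) (LK LD1_c0 LD2_c52 LD3_c4) Lrfl Lrfl
theorem f447743 : Led Lsl_ff (LP (LK LD1_c0 LD2_c52 LD3_c4)) = (LP (LK LD1_c0 LD2_c52 LD3_c4)) :=
  Lgr Lrot23 (Lpr_ct (f447716 IH) (Lpr_ft (f447739 IH) (Lpe (f447708 IH) (Lpn (LP (LK LD1_c0 LD2_c52 LD3_c4))))))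
theorem f447947 : Led Lsl_ff (LP (LK LD1_c1 LD2_c41 LD3_c5)) = (LP (LK LD1_c1 LD2_c50 LD3_c23)) :=
  Lgr Lrot72 (Lpr_et (f432964 IH) (Lpr_ft (f447943 IH) (Lpr_et (f85177 IH) (Lpe (f447743 IH) (Lpr_et (f447718 IH) (Lpn (LP (LK LD1_c1 LD2_c50 LD3_c23))))))))
theorem f447941 : Led Lsl_at (LP (LK LD1_c1 LD2_c41 LD3_c5)) = (LP (LK LD1_c1 LD2_c43 LD3_c60)) :=
  Lgr Lrot107 (Lpr_cf (f447901 IH) (Lpe (f432985 IH) (Lpe (f155062 IH) (Lpn (LP (LK LD1_c1 LD2_c43 LD3_c60))))))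
theorem f447953 : Led Lsl_ff (LP (LK LD1_c1 LD2_c41 LD3_c4)) = (LP (LK LD1_c1 LD2_c43 LD3_c60)) :=
  Lgr Lrot30 (Lpr_at (f447951 IH) (Lpe (f447947 IH) (Lpr_at (f447941 IH) (Lpn (LP (LK LD1_c1 LD2_c43 LD3_c60))))))
theorem f447961 : Led Lsl_ft (LP (LK LD1_c1 LD2_c41 LD3_c4)) = (LP (LK LD1_c1 LD2_c43 LD3_c60)) :=
  Lgr Lrot86 (Lpe (f126172 IH) (Lpr_ff (f447757 IH) (Lpr_ef (f126170 IH) (Lpr_ff (f447953 IH) (Lpe (f432977 IH) (Lpn (LP (LK LD1_c1 LD2_c43 LD3_c60))))))))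
theorem f447969 : Led Lsl_ff (LP (LK LD1_c3 LD2_c28 LD3_c44)) = (LP (LK LD1_c3 LD2_c34 LD3_c24)) :=
  Lgr Lrot19 (Lpr_dt (K7.f88986 IH) (Lpr_ft (f447961 IH) (Lpr_dt (f155061 IH) (Lpn (LP (LK LD1_c3 LD2_c34 LD3_c24))))))
theorem f430974 : Led Lsl_at (LP (LK LD1_c6 LD2_c26 LD3_c18)) = (LP (LK LD1_c3 LD2_c11 LD3_c1)) :=
  Lre_a IH (LK LD1_c6 LD2_c26 LD3_c18) (LK LD1_c3 LD2_c11 LD3_c1) Lrfl Lrfl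
theorem f435902 : Led Lsl_ff (LP (LK LD1_c6 LD2_c26 LD3_c18)) = (LP (LK LD1_c3 LD2_c25 LD3_c6)) :=
  Lgr Lrot52 (Lpr_at (f430974 IH) (Lpr_gf (K7.f152808 IH) (Lpr_gf (K7.f144233 IH) (Lpn (LP (LK LD1_c3 LD2_c25 LD3_c6))))))
theorem f448089 : Led Lsl_bt (LP (LK LD1_c6 LD2_c26 LD3_c18)) = (LP (LK LD1_c3 LD2_c34 LD3_c24)) :=
  Lgr Lrot35 (Lpr_ff (f435902 IH) (Lpe (f156002 IH) (Lpr_ff (f447969 IH) (Lpn (LP (LK LD1_c3 LD2_c34 LD3_c24))))))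
theorem f432970 : Led Lsl_gf (LP (LK LD1_c3 LD2_c34 LD3_c24)) = (LP (LK LD1_c1 LD2_c53 LD3_c25)) :=
  Lgr Lrot47 (Lpr_gt (f432968 IH) (Lpr_af (K7.f88856 IH) (Lpe (K3.f88822 IH) (Lpn (LP (LK LD1_c1 LD2_c53 LD3_c25))))))
theorem f84469 : Led Lsl_ct (LP (LK LD1_c1 LD2_c37 LD3_c23)) = (LP (LK LD1_c3 LD2_c22 LD3_c15)) :=
  Lre_c IH (LK LD1_c1 LD2_c37 LD3_c23) (LK LD1_c3 LD2_c22 LD3_c15) Lrfl Lrfl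
theorem f430475 : Led Lsl_ft (LP (LK LD1_c3 LD2_c22 LD3_c15)) = (LP (LK LD1_c3 LD2_c56 LD3_c45)) :=
  Lgr Lrot4 (Lpe (f84469 IH) (Lpr_ff (f430471 IH) (Lpe (K7.f94388 IH) (Lpn (LP (LK LD1_c3 LD2_c56 LD3_c45))))))
theorem f84456 : Led Lsl_gt (LP (LK LD1_c3 LD2_c22 LD3_c15)) = (LP (LK LD1_c6 LD2_c48 LD3_c6)) :=
  Lre_g IH (LK LD1_c3 LD2_c22 LD3_c15) (LK LD1_c6 LD2_c48 LD3_c6) Lrfl Lrfl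
theorem f430451 : Led Lsl_af (LP (LK LD1_c7 LD2_c26 LD3_c13)) = (LP (LK LD1_c3 LD2_c56 LD3_c45)) :=
  Lgr Lrot68 (Lpr_ct (K6.f126861 IH) (Lpr_at (f430447 IH) (Lpr_ct (K7.f94390 IH) (Lpn (LP (LK LD1_c3 LD2_c56 LD3_c45))))))
theorem f432504 : Led Lsl_gt (LP (LK LD1_c6 LD2_c48 LD3_c6)) = (LP (LK LD1_c7 LD2_c26 LD3_c13)) :=
  Lgr Lrot46 (Lpe (f84456 IH) (Lpr_ft (f430475 IH) (Lpe (f430451 IH) (Lpn (LP (LK LD1_c7 LD2_c26 LD3_c13))))))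
theorem f448097 : Led Lsl_ct (LP (LK LD1_c6 LD2_c26 LD3_c18)) = (LP (LK LD1_c6 LD2_c48 LD3_c6)) :=
  Lgr Lrot64 (Lpr_bt (f448089 IH) (Lpr_gf (f432970 IH) (Lpe (K7.f88758 IH) (Lpr_ct (K6.f90205 IH) (Lpe (K6.f126903 IH) (Lpe (K6.f126797 IH) (Lpr_gf (K6.f126795 IH) (Lpr_bf (K7.f126855 IH) (Lpr_ct (f126868 IH) (Lpe (f432504 IH) (Lpn (LP (LK LD1_c6 LD2_c48 LD3_c6)))))))))))))
theorem f448111 : Led Lsl_gf (LP (LK LD1_c6 LD2_c26 LD3_c18)) = (LP (LK LD1_c3 LD2_c42 LD3_c31)) :=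
  Lgr Lrot147 (Lpr_ct (f448097 IH) (Lpr_gt (f432504 IH) (Lpr_ct (K6.f126861 IH) (Lpe (K6.f126854 IH) (Lpe (K5.f124263 IH) (Lpr_gf (K5.f126893 IH) (Lpe (K3.f17703 IH) (Lpr_gf (K5.f125095 IH) (Lpe (K5.f125097 IH) (Lpn (LP (LK LD1_c3 LD2_c42 LD3_c31))))))))))))
theorem f19769 : Led Lsl_gt (LP (LK LD1_c0 LD2_c46 LD3_c5)) = (LP (LK LD1_c1 LD2_c39 LD3_c16)) :=
  Lre_g IH (LK LD1_c0 LD2_c46 LD3_c5) (LK LD1_c1 LD2_c39 LD3_c16) Lrfl Lrfl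
theorem f154364 : Led Lsl_bt (LP (LK LD1_c0 LD2_c48 LD3_c34)) = (LP (LK LD1_c1 LD2_c38 LD3_c61)) :=
  Lgr Lrot92 (Lpr_ct (K7.f106011 IH) (Lpr_gt (K7.f106010 IH) (Lpe (K7.f19427 IH) (Lpr_bt (K7.f10429 IH) (Lpr_gt (K7.f9996 IH) (Lpr_ct (K7.f143261 IH) (Lpr_gt (K7.f154359 IH) (Lpe (K2.f20858 IH) (Lpr_bt (K5.f20859 IH) (Lpr_gt (K5.f20860 IH) (Lpn (LP (LK LD1_c1 LD2_c38 LD3_c61)))))))))))))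
theorem f433014 : Led Lsl_et (LP (LK LD1_c1 LD2_c38 LD3_c61)) = (LP (LK LD1_c1 LD2_c38 LD3_c61)) :=
  Lgr Lrot74 (Lpe (f154364 IH) (Lpr_ef (f432991 IH) (Lpr_bf (K7.f155078 IH) (Lpn (LP (LK LD1_c1 LD2_c38 LD3_c61))))))
theorem f120986 : Led Lsl_dt (LP (LK LD1_c0 LD2_c10 LD3_c21)) = (LP (LK LD1_c0 LD2_c22 LD3_c60)) :=
  Lre_d IH (LK LD1_c0 LD2_c10 LD3_c21) (LK LD1_c0 LD2_c22 LD3_c60) Lrfl Lrfl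
theorem f121007 : Led Lsl_et (LP (LK LD1_c0 LD2_c10 LD3_c21)) = (LP (LK LD1_c0 LD2_c22 LD3_c61)) :=
  Lre_e IH (LK LD1_c0 LD2_c10 LD3_c21) (LK LD1_c0 LD2_c22 LD3_c61) Lrfl Lrfl
theorem f433016 : Led Lsl_dt (LP (LK LD1_c1 LD2_c38 LD3_c61)) = (LP (LK LD1_c1 LD2_c39 LD3_c16)) :=
  Lgr Lrot56 (Lpr_et (f433014 IH) (Lpr_gt (K6.f21125 IH) (Lpe (K5.f21108 IH) (Lpr_dt (K5.f134775 IH) (Lpr_gt (K6.f142285 IH) (Lpe (f120986 IH) (Lpr_et (f121007 IH) (Lpr_gt (K5.f124247 IH) (Lpr_dt (K6.f19768 IH) (Lpr_gt (f19769 IH) (Lpn (LP (LK LD1_c1 LD2_c39 LD3_c16)))))))))))))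
theorem f433021 : Led Lsl_df (LP (LK LD1_c1 LD2_c38 LD3_c61)) = (LP (LK LD1_c1 LD2_c39 LD3_c16)) :=
  Lgr Lrot38 (Lpr_dt (f433016 IH) (Lpn (LP (LK LD1_c1 LD2_c39 LD3_c16))))
theorem f448113 : Led Lsl_dt (LP (LK LD1_c6 LD2_c26 LD3_c18)) = (LP (LK LD1_c3 LD2_c25 LD3_c3)) :=
  Lgr Lrot105 (Lpr_gf (f448111 IH) (Lpe (K5.f124136 IH) (Lpe (K5.f124135 IH) (Lpe (K4.f120913 IH) (Lpr_gt (K5.f124247 IH) (Lpr_dt (K6.f19768 IH) (Lpr_gt (f19769 IH) (Lpe (f433021 IH) (Lpe (K6.f21067 IH) (Lpn (LP (LK LD1_c3 LD2_c25 LD3_c3))))))))))))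
theorem f431048 : Led Lsl_at (LP (LK LD1_c3 LD2_c11 LD3_c1)) = (LP (LK LD1_c6 LD2_c26 LD3_c18)) :=
  Lre_a IH (LK LD1_c3 LD2_c11 LD3_c1) (LK LD1_c6 LD2_c26 LD3_c18) Lrfl Lrfl
theorem f430977 : Led Lsl_dt (LP (LK LD1_c1 LD2_c39 LD3_c5)) = (LP (LK LD1_c3 LD2_c11 LD3_c1)) :=
  Lgr Lrot42 (Lpr_df (f430969 IH) (Lpn (LP (LK LD1_c3 LD2_c11 LD3_c1))))
theorem f448115 : Led Lsl_af (LP (LK LD1_c1 LD2_c39 LD3_c5)) = (LP (LK LD1_c3 LD2_c25 LD3_c3)) :=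
  Lgr Lrot117 (Lpr_dt (f430977 IH) (Lpr_at (f431048 IH) (Lpr_dt (f448113 IH) (Lpn (LP (LK LD1_c3 LD2_c25 LD3_c3))))))
theorem f448121 : Led Lsl_at (LP (LK LD1_c0 LD2_c45 LD3_c58)) = (LP (LK LD1_c1 LD2_c38 LD3_c61)) :=
  Lgr Lrot107 (Lpe (K7.f21090 IH) (Lpr_af (f448115 IH) (Lpe (K5.f21066 IH) (Lpn (LP (LK LD1_c1 LD2_c38 LD3_c61))))))
theorem f448129 : Led Lsl_ff (LP (LK LD1_c0 LD2_c45 LD3_c58)) = (LP (LK LD1_c0 LD2_c51 LD3_c27)) :=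
  Lgr Lrot52 (Lpr_at (f448121 IH) (Lpe (K5.f20860 IH) (Lpe (K7.f152334 IH) (Lpn (LP (LK LD1_c0 LD2_c51 LD3_c27))))))
theorem f152356 : Led Lsl_et (LP (LK LD1_c0 LD2_c51 LD3_c27)) = (LP (LK LD1_c0 LD2_c23 LD3_c12)) :=
  Lre_e IH (LK LD1_c0 LD2_c51 LD3_c27) (LK LD1_c0 LD2_c23 LD3_c12) Lrfl Lrfl
theorem f448137 : Led Lsl_ft (LP (LK LD1_c0 LD2_c45 LD3_c58)) = (LP (LK LD1_c0 LD2_c51 LD3_c27)) :=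
  Lgr Lrot86 (Lpe (f430963 IH) (Lpr_ff (f448129 IH) (Lpe (f152342 IH) (Lpr_ff (f447775 IH) (Lpe (f152356 IH) (Lpn (LP (LK LD1_c0 LD2_c51 LD3_c27))))))))
theorem f448141 : Led Lsl_ff (LP (LK LD1_c1 LD2_c39 LD3_c5)) = (LP (LK LD1_c1 LD2_c49 LD3_c19)) :=
  Lgr Lrot23 (Lpr_ct (K7.f21090 IH) (Lpr_ft (f448137 IH) (Lpr_ct (f152332 IH) (Lpn (LP (LK LD1_c1 LD2_c49 LD3_c19))))))
theorem f152671 : Led Lsl_bf (LP (LK LD1_c2 LD2_c18 LD3_c0)) = (LP (LK LD1_c1 LD2_c39 LD3_c5)) :=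
  Lgr Lrot34 (Lpe (f25915 IH) (Lpe (K7.f25914 IH) (Lpr_ct (K7.f25902 IH) (Lpr_gf (K7.f152662 IH) (Lpe (K7.f25797 IH) (Lpe (K7.f152305 IH) (Lpe (K6.f21073 IH) (Lpe (K5.f21028 IH) (Lpe (K7.f21088 IH) (Lpe (K7.f21090 IH) (Lpn (LP (LK LD1_c1 LD2_c39 LD3_c5)))))))))))))
theorem f448145 : Led Lsl_ft (LP (LK LD1_c2 LD2_c18 LD3_c0)) = (LP (LK LD1_c1 LD2_c6 LD3_c7)) :=
  Lgr Lrot75 (Lpr_bf (f152671 IH) (Lpr_ff (f448141 IH) (Lpr_bf (K7.f152327 IH) (Lpn (LP (LK LD1_c1 LD2_c6 LD3_c7))))))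
theorem f448153 : Led Lsl_af (LP (LK LD1_c1 LD2_c33 LD3_c14)) = (LP (LK LD1_c1 LD2_c6 LD3_c7)) :=
  Lgr Lrot31 (Lpr_gf (f434623 IH) (Lpe (f104679 IH) (Lpr_ft (f448145 IH) (Lpn (LP (LK LD1_c1 LD2_c6 LD3_c7))))))
theorem f447899 : Led Lsl_ct (LP (LK LD1_c1 LD2_c41 LD3_c5)) = (LP (LK LD1_c1 LD2_c43 LD3_c59)) :=
  Lgr Lrot8 (Lpr_gt (f66438 IH) (Lpr_dt (K3.f85328 IH) (Lpe (K5.f105640 IH) (Lpr_dt (K5.f17759 IH) (Lpe (K0.f17762 IH) (Lpe (K3.f17769 IH) (Lpe (K4.f106342 IH) (Lpe (K3.f92031 IH) (Lpr_gf (f447895 IH) (Lpn (LP (LK LD1_c1 LD2_c43 LD3_c59))))))))))))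
theorem f94097 : Led Lsl_gt (LP (LK LD1_c3 LD2_c28 LD3_c26)) = (LP (LK LD1_c1 LD2_c40 LD3_c56)) :=
  Lre_g IH (LK LD1_c3 LD2_c28 LD3_c26) (LK LD1_c1 LD2_c40 LD3_c56) Lrfl Lrfl
theorem f429039 : Led Lsl_ct (LP (LK LD1_c1 LD2_c44 LD3_c21)) = (LP (LK LD1_c3 LD2_c28 LD3_c26)) :=
  Lgr Lrot91 (Lpe (K7.f154371 IH) (Lpr_bf (K7.f429032 IH) (Lpr_ct (K7.f154086 IH) (Lpe (K1.f12725 IH) (Lpr_cf (K6.f21030 IH) (Lpr_bt (K5.f21027 IH) (Lpe (K6.f21093 IH) (Lpe (K7.f21145 IH) (Lpe (K7.f156122 IH) (Lpe (f94097 IH) (Lpn (LP (LK LD1_c3 LD2_c28 LD3_c26)))))))))))))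
theorem f447903 : Led Lsl_gt (LP (LK LD1_c3 LD2_c1 LD3_c25)) = (LP (LK LD1_c2 LD2_c18 LD3_c14)) :=
  Lgr Lrot164 (Lpe (K5.f114022 IH) (Lpr_ct (K4.f114010 IH) (Lpr_gf (f447895 IH) (Lpe (f447899 IH) (Lpr_gf (f429699 IH) (Lpe (K7.f429045 IH) (Lpr_ct (f429039 IH) (Lpe (f94096 IH) (Lpr_cf (f430136 IH) (Lpe (f430140 IH) (Lpn (LP (LK LD1_c2 LD2_c18 LD3_c14)))))))))))))
theorem f447905 : Led Lsl_bt (LP (LK LD1_c1 LD2_c41 LD3_c5)) = (LP (LK LD1_c1 LD2_c6 LD3_c8)) :=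
  Lgr Lrot92 (Lpr_ct (f447899 IH) (Lpe (f447895 IH) (Lpe (K4.f114010 IH) (Lpr_bt (K5.f114022 IH) (Lpr_gt (f447903 IH) (Lpr_ct (f104670 IH) (Lpr_gt (K7.f104669 IH) (Lpr_cf (K6.f104642 IH) (Lpe (K7.f152359 IH) (Lpr_gt (K6.f104662 IH) (Lpn (LP (LK LD1_c1 LD2_c6 LD3_c8)))))))))))))
theorem f447907 : Led Lsl_bf (LP (LK LD1_c1 LD2_c41 LD3_c5)) = (LP (LK LD1_c1 LD2_c6 LD3_c8)) :=
  Lgr Lrot24 (Lpr_bt (f447905 IH) (Lpn (LP (LK LD1_c1 LD2_c6 LD3_c8))))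
theorem f447945 : Led Lsl_ff (LP (LK LD1_c1 LD2_c6 LD3_c8)) = (LP (LK LD1_c1 LD2_c33 LD3_c14)) :=
  Lgr Lrot25 (Lpe (f447907 IH) (Lpr_ft (f447943 IH) (Lpr_bt (f447723 IH) (Lpn (LP (LK LD1_c1 LD2_c33 LD3_c14))))))
theorem f448161 : Led Lsl_at (LP (LK LD1_c1 LD2_c6 LD3_c8)) = (LP (LK LD1_c2 LD2_c18 LD3_c0)) :=
  Lgr Lrot66 (Lpr_ff (f447945 IH) (Lpr_af (f448153 IH) (Lpe (f448145 IH) (Lpn (LP (LK LD1_c2 LD2_c18 LD3_c0))))))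
theorem f448163 : Led Lsl_af (LP (LK LD1_c2 LD2_c18 LD3_c16)) = (LP (LK LD1_c4 LD2_c41 LD3_c42)) :=
  Lgr Lrot68 (Lpr_ct (K6.f104605 IH) (Lpr_at (f448161 IH) (Lpr_ct (f104637 IH) (Lpn (LP (LK LD1_c4 LD2_c41 LD3_c42))))))
theorem f448147 : Led Lsl_ff (LP (LK LD1_c4 LD2_c41 LD3_c42)) = (LP (LK LD1_c2 LD2_c18 LD3_c14)) :=
  Lgr Lrot23 (Lpr_ct (f104638 IH) (Lpr_ft (f448145 IH) (Lpr_ct (f104704 IH) (Lpn (LP (LK LD1_c2 LD2_c18 LD3_c14))))))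
theorem f434613 : Led Lsl_et (LP (LK LD1_c0 LD2_c43 LD3_c9)) = (LP (LK LD1_c1 LD2_c33 LD3_c14)) :=
  Lre_e IH (LK LD1_c0 LD2_c43 LD3_c9) (LK LD1_c1 LD2_c33 LD3_c14) Lrfl Lrfl
theorem f434614 : Led Lsl_ct (LP (LK LD1_c1 LD2_c33 LD3_c14)) = (LP (LK LD1_c3 LD2_c1 LD3_c6)) :=
  Lgr Lrot15 (Lpe (f434613 IH) (Lpe (f23415 IH) (Lpr_ef (f434611 IH) (Lpn (LP (LK LD1_c3 LD2_c1 LD3_c6))))))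
theorem f448157 : Led Lsl_at (LP (LK LD1_c3 LD2_c1 LD3_c6)) = (LP (LK LD1_c2 LD2_c18 LD3_c14)) :=
  Lgr Lrot107 (Lpe (f434614 IH) (Lpr_af (f448153 IH) (Lpe (f104670 IH) (Lpn (LP (LK LD1_c2 LD2_c18 LD3_c14))))))
theorem f448182 : Led Lsl_ft (LP (LK LD1_c2 LD2_c18 LD3_c16)) = (LP (LK LD1_c3 LD2_c1 LD3_c6)) :=
  Lgr Lrot101 (Lpr_af (f448163 IH) (Lpr_ff (f448147 IH) (Lpe (f448157 IH) (Lpn (LP (LK LD1_c3 LD2_c1 LD3_c6))))))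
theorem f448186 : Led Lsl_ff (LP (LK LD1_c2 LD2_c18 LD3_c16)) = (LP (LK LD1_c3 LD2_c1 LD3_c6)) :=
  Lgr Lrot3 (Lpr_ft (f448182 IH) (Lpn (LP (LK LD1_c3 LD2_c1 LD3_c6))))
theorem f142742 : Led Lsl_et (LP (LK LD1_c0 LD2_c54 LD3_c16)) = (LP (LK LD1_c1 LD2_c26 LD3_c30)) :=
  Lgr Lrot158 (Lpe (K5.f10007 IH) (Lpr_ef (K6.f142736 IH) (Lpr_cf (K2.f21050 IH) (Lpn (LP (LK LD1_c1 LD2_c26 LD3_c30))))))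
theorem f430492 : Led Lsl_df (LP (LK LD1_c3 LD2_c22 LD3_c13)) = (LP (LK LD1_c3 LD2_c1 LD3_c3)) :=
  Lgr Lrot135 (Lpr_gt (f430485 IH) (Lpe (K6.f126854 IH) (Lpr_et (K5.f134695 IH) (Lpr_gt (K6.f21134 IH) (Lpe (K7.f156039 IH) (Lpr_dt (K7.f21135 IH) (Lpe (K7.f156009 IH) (Lpe (K7.f94387 IH) (Lpr_et (f142742 IH) (Lpr_gt (K6.f21048 IH) (Lpn (LP (LK LD1_c3 LD2_c1 LD3_c3)))))))))))))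
theorem f430494 : Led Lsl_et (LP (LK LD1_c3 LD2_c1 LD3_c3)) = (LP (LK LD1_c3 LD2_c1 LD3_c3)) :=
  Lgr Lrot122 (Lpe (f430492 IH) (Lpr_gt (f430485 IH) (Lpe (K6.f126854 IH) (Lpr_et (K5.f134695 IH) (Lpr_gt (K6.f21134 IH) (Lpr_dt (K7.f21135 IH) (Lpe (K7.f156009 IH) (Lpe (K7.f94387 IH) (Lpr_et (f142742 IH) (Lpr_gt (K6.f21048 IH) (Lpn (LP (LK LD1_c3 LD2_c1 LD3_c3)))))))))))))
theorem f145494 : Led Lsl_bt (LP (LK LD1_c3 LD2_c1 LD3_c3)) = (LP (LK LD1_c2 LD2_c18 LD3_c16)) :=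
  Lgr Lrot127 (Lpr_bf (K6.f145492 IH) (Lpn (LP (LK LD1_c2 LD2_c18 LD3_c16))))
theorem f430496 : Led Lsl_ef (LP (LK LD1_c2 LD2_c18 LD3_c16)) = (LP (LK LD1_c2 LD2_c18 LD3_c16)) :=
  Lgr Lrot29 (Lpe (K6.f145492 IH) (Lpr_et (f430494 IH) (Lpr_bt (f145494 IH) (Lpn (LP (LK LD1_c2 LD2_c18 LD3_c16))))))
theorem f448192 : Led Lsl_ft (LP (LK LD1_c1 LD2_c33 LD3_c13)) = (LP (LK LD1_c1 LD2_c33 LD3_c13)) :=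
  Lgr Lrot86 (Lpr_ef (f434611 IH) (Lpe (f448182 IH) (Lpr_ef (f430496 IH) (Lpr_ff (f448186 IH) (Lpe (f434616 IH) (Lpn (LP (LK LD1_c1 LD2_c33 LD3_c13))))))))
theorem f448196 : Led Lsl_ff (LP (LK LD1_c0 LD2_c43 LD3_c9)) = (LP (LK LD1_c0 LD2_c43 LD3_c9)) :=
  Lgr Lrot23 (Lpr_ct (f434610 IH) (Lpr_ft (f448192 IH) (Lpr_ct (f23415 IH) (Lpn (LP (LK LD1_c0 LD2_c43 LD3_c9))))))
theorem f448159 : Led Lsl_at (LP (LK LD1_c0 LD2_c43 LD3_c9)) = (LP (LK LD1_c0 LD2_c43 LD3_c8)) :=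
  Lgr Lrot80 (Lpe (f434618 IH) (Lpr_af (f448153 IH) (Lpe (K7.f131428 IH) (Lpn (LP (LK LD1_c0 LD2_c43 LD3_c8))))))
theorem f448198 : Led Lsl_at (LP (LK LD1_c0 LD2_c43 LD3_c8)) = (LP (LK LD1_c0 LD2_c43 LD3_c9)) :=
  Lgr Lrot66 (Lpr_ff (f447783 IH) (Lpe (f448159 IH) (Lpr_ff (f448196 IH) (Lpn (LP (LK LD1_c0 LD2_c43 LD3_c9))))))
theorem f448200 : Led Lsl_af (LP (LK LD1_c1 LD2_c33 LD3_c12)) = (LP (LK LD1_c1 LD2_c33 LD3_c13)) :=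
  Lgr Lrot68 (Lpr_ct (f23430 IH) (Lpr_at (f448198 IH) (Lpr_ct (f434610 IH) (Lpn (LP (LK LD1_c1 LD2_c33 LD3_c13))))))
theorem f131426 : Led Lsl_et (LP (LK LD1_c1 LD2_c33 LD3_c12)) = (LP (LK LD1_c2 LD2_c18 LD3_c14)) :=
  Lgr Lrot158 (Lpe (f23428 IH) (Lpr_ef (K7.f131424 IH) (Lpe (f104670 IH) (Lpn (LP (LK LD1_c2 LD2_c18 LD3_c14))))))
theorem f448206 : Led Lsl_at (LP (LK LD1_c2 LD2_c18 LD3_c14)) = (LP (LK LD1_c3 LD2_c1 LD3_c6)) :=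
  Lgr Lrot80 (Lpe (f131426 IH) (Lpr_af (f448200 IH) (Lpr_ef (f434611 IH) (Lpn (LP (LK LD1_c3 LD2_c1 LD3_c6))))))
theorem f448180 : Led Lsl_at (LP (LK LD1_c2 LD2_c18 LD3_c16)) = (LP (LK LD1_c4 LD2_c41 LD3_c42)) :=
  Lgr Lrot100 (Lpr_af (f448163 IH) (Lpn (LP (LK LD1_c4 LD2_c41 LD3_c42))))
theorem f448212 : Led Lsl_ff (LP (LK LD1_c2 LD2_c18 LD3_c14)) = (LP (LK LD1_c4 LD2_c41 LD3_c42)) :=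
  Lgr Lrot30 (Lpr_at (f448206 IH) (Lpe (f448186 IH) (Lpr_at (f448180 IH) (Lpn (LP (LK LD1_c4 LD2_c41 LD3_c42))))))
theorem f448214 : Led Lsl_ft (LP (LK LD1_c3 LD2_c24 LD3_c20)) = (LP (LK LD1_c3 LD2_c25 LD3_c7)) :=
  Lgr Lrot75 (Lpe (f430138 IH) (Lpr_ff (f448212 IH) (Lpe (f430904 IH) (Lpn (LP (LK LD1_c3 LD2_c25 LD3_c7))))))
theorem f448218 : Led Lsl_af (LP (LK LD1_c3 LD2_c1 LD3_c8)) = (LP (LK LD1_c3 LD2_c25 LD3_c7)) :=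
  Lgr Lrot31 (Lpr_gf (K7.f156188 IH) (Lpr_gf (f430134 IH) (Lpr_ft (f448214 IH) (Lpn (LP (LK LD1_c3 LD2_c25 LD3_c7))))))
theorem f430936 : Led Lsl_bf (LP (LK LD1_c3 LD2_c25 LD3_c7)) = (LP (LK LD1_c4 LD2_c41 LD3_c42)) :=
  Lgr Lrot24 (Lpr_bt (f430904 IH) (Lpn (LP (LK LD1_c4 LD2_c41 LD3_c42))))
theorem f448222 : Led Lsl_at (LP (LK LD1_c1 LD2_c26 LD3_c28)) = (LP (LK LD1_c3 LD2_c1 LD3_c3)) :=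
  Lgr Lrot67 (Lpe (K7.f21145 IH) (Lpr_af (f448218 IH) (Lpr_bf (f430936 IH) (Lpe (f448180 IH) (Lpe (f145494 IH) (Lpn (LP (LK LD1_c3 LD2_c1 LD3_c3))))))))
theorem f10749 : Led Lsl_ct (LP (LK LD1_c0 LD2_c48 LD3_c31)) = (LP (LK LD1_c1 LD2_c43 LD3_c54)) :=
  Lre_c IH (LK LD1_c0 LD2_c48 LD3_c31) (LK LD1_c1 LD2_c43 LD3_c54) Lrfl Lrfl
theorem f447871 : Led Lsl_ft (LP (LK LD1_c1 LD2_c43 LD3_c54)) = (LP (LK LD1_c1 LD2_c26 LD3_c28)) :=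
  Lgr Lrot4 (Lpe (f10749 IH) (Lpr_ff (f447867 IH) (Lpr_cf (K7.f143279 IH) (Lpn (LP (LK LD1_c1 LD2_c26 LD3_c28))))))
theorem f153295 : Led Lsl_dt (LP (LK LD1_c6 LD2_c52 LD3_c54)) = (LP (LK LD1_c3 LD2_c25 LD3_c20)) :=
  Lre_d IH (LK LD1_c6 LD2_c52 LD3_c54) (LK LD1_c3 LD2_c25 LD3_c20) Lrfl Lrfl
theorem f448618 : Led Lsl_ct (LP (LK LD1_c3 LD2_c25 LD3_c20)) = (LP (LK LD1_c3 LD2_c37 LD3_c43)) :=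
  Lgr Lrot53 (Lpe (f153295 IH) (Lpe (K7.f153286 IH) (Lpe (K7.f153271 IH) (Lpe (K7.f153264 IH) (Lpe (K7.f156335 IH) (Lpr_ft (f447871 IH) (Lpr_at (f448222 IH) (Lpe (f153390 IH) (Lpr_df (f448612 IH) (Lpn (LP (LK LD1_c3 LD2_c37 LD3_c43))))))))))))
theorem f448627 : Led Lsl_cf (LP (LK LD1_c3 LD2_c25 LD3_c20)) = (LP (LK LD1_c3 LD2_c37 LD3_c43)) :=
  Lgr Lrot11 (Lpr_ct (f448618 IH) (Lpn (LP (LK LD1_c3 LD2_c37 LD3_c43))))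
theorem f448622 : Led Lsl_bt (LP (LK LD1_c3 LD2_c25 LD3_c20)) = (LP (LK LD1_c6 LD2_c52 LD3_c53)) :=
  Lre_b IH (LK LD1_c3 LD2_c25 LD3_c20) (LK LD1_c6 LD2_c52 LD3_c53) Lrfl Lrfl
theorem f433049 : Led Lsl_dt (LP (LK LD1_c1 LD2_c43 LD3_c59)) = (LP (LK LD1_c3 LD2_c34 LD3_c23)) :=
  Lre_d IH (LK LD1_c1 LD2_c43 LD3_c59) (LK LD1_c3 LD2_c34 LD3_c23) Lrfl Lrfl
theorem f448614 : Led Lsl_bt (LP (LK LD1_c3 LD2_c34 LD3_c23)) = (LP (LK LD1_c3 LD2_c37 LD3_c43)) :=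
  Lgr Lrot95 (Lpe (f433049 IH) (Lpe (f447889 IH) (Lpr_df (f448612 IH) (Lpn (LP (LK LD1_c3 LD2_c37 LD3_c43))))))
theorem f126131 : Led Lsl_dt (LP (LK LD1_c6 LD2_c41 LD3_c32)) = (LP (LK LD1_c12 LD2_c48 LD3_c12)) :=
  Lre_d IH (LK LD1_c6 LD2_c41 LD3_c32) (LK LD1_c12 LD2_c48 LD3_c12) Lrfl Lrfl
theorem f89000 : Led Lsl_dt (LP (LK LD1_c3 LD2_c28 LD3_c45)) = (LP (LK LD1_c1 LD2_c41 LD3_c5)) :=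
  Lre_d IH (LK LD1_c3 LD2_c28 LD3_c45) (LK LD1_c1 LD2_c41 LD3_c5) Lrfl Lrfl
theorem f88981 : Led Lsl_dt (LP (LK LD1_c6 LD2_c41 LD3_c38)) = (LP (LK LD1_c3 LD2_c18 LD3_c53)) :=
  Lre_d IH (LK LD1_c6 LD2_c41 LD3_c38) (LK LD1_c3 LD2_c18 LD3_c53) Lrfl Lrfl
theorem f155175 : Led Lsl_dt (LP (LK LD1_c3 LD2_c9 LD3_c42)) = (LP (LK LD1_c6 LD2_c24 LD3_c7)) :=
  Lre_d IH (LK LD1_c3 LD2_c9 LD3_c42) (LK LD1_c6 LD2_c24 LD3_c7) Lrfl Lrfl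
theorem f432959 : Led Lsl_gf (LP (LK LD1_c6 LD2_c41 LD3_c38)) = (LP (LK LD1_c6 LD2_c24 LD3_c7)) :=
  Lgr Lrot143 (Lpr_dt (f88981 IH) (Lpe (K3.f88979 IH) (Lpe (K3.f85328 IH) (Lpe (f66438 IH) (Lpe (f89000 IH) (Lpr_gf (f432810 IH) (Lpe (K3.f84998 IH) (Lpe (K7.f155103 IH) (Lpr_dt (f155175 IH) (Lpn (LP (LK LD1_c6 LD2_c24 LD3_c7))))))))))))
theorem f85326 : Led Lsl_dt (LP (LK LD1_c3 LD2_c53 LD3_c42)) = (LP (LK LD1_c1 LD2_c53 LD3_c28)) :=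
  Lre_d IH (LK LD1_c3 LD2_c53 LD3_c42) (LK LD1_c1 LD2_c53 LD3_c28) Lrfl Lrfl
theorem f57775 : Led Lsl_dt (LP (LK LD1_c3 LD2_c18 LD3_c53)) = (LP (LK LD1_c6 LD2_c41 LD3_c38)) :=
  Lre_d IH (LK LD1_c3 LD2_c18 LD3_c53) (LK LD1_c6 LD2_c41 LD3_c38) Lrfl Lrfl
theorem f88996 : Led Lsl_cf (LP (LK LD1_c3 LD2_c53 LD3_c42)) = (LP (LK LD1_c6 LD2_c41 LD3_c38)) :=
  Lgr Lrot161 (Lpr_dt (f85326 IH) (Lpr_ct (f85325 IH) (Lpr_af (K3.f85289 IH) (Lpe (K3.f85288 IH) (Lpr_dt (K3.f64290 IH) (Lpr_ct (K3.f85327 IH) (Lpr_dt (K3.f85328 IH) (Lpr_ct (K3.f88979 IH) (Lpr_dt (f57775 IH) (Lpn (LP (LK LD1_c6 LD2_c41 LD3_c38))))))))))))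
theorem f85357 : Led Lsl_dt (LP (LK LD1_c3 LD2_c28 LD3_c23)) = (LP (LK LD1_c6 LD2_c58 LD3_c53)) :=
  Lre_d IH (LK LD1_c3 LD2_c28 LD3_c23) (LK LD1_c6 LD2_c58 LD3_c53) Lrfl Lrfl
theorem f85358 : Led Lsl_ff (LP (LK LD1_c3 LD2_c53 LD3_c42)) = (LP (LK LD1_c6 LD2_c58 LD3_c53)) :=
  Lgr Lrot19 (Lpr_dt (f85326 IH) (Lpr_ft (K3.f85343 IH) (Lpr_dt (f85357 IH) (Lpn (LP (LK LD1_c6 LD2_c58 LD3_c53))))))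
theorem f85385 : Led Lsl_ft (LP (LK LD1_c3 LD2_c53 LD3_c42)) = (LP (LK LD1_c6 LD2_c58 LD3_c53)) :=
  Lgr Lrot48 (Lpr_ff (f85358 IH) (Lpn (LP (LK LD1_c6 LD2_c58 LD3_c53))))
theorem f85388 : Led Lsl_at (LP (LK LD1_c6 LD2_c58 LD3_c53)) = (LP (LK LD1_c3 LD2_c28 LD3_c50)) :=
  Lre_a IH (LK LD1_c6 LD2_c58 LD3_c53) (LK LD1_c3 LD2_c28 LD3_c50) Lrfl Lrfl
theorem f85402 : Led Lsl_gt (LP (LK LD1_c6 LD2_c59 LD3_c20)) = (LP (LK LD1_c3 LD2_c28 LD3_c50)) :=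
  Lre_g IH (LK LD1_c6 LD2_c59 LD3_c20) (LK LD1_c3 LD2_c28 LD3_c50) Lrfl Lrfl
theorem f85403 : Led Lsl_gt (LP (LK LD1_c3 LD2_c53 LD3_c42)) = (LP (LK LD1_c6 LD2_c59 LD3_c20)) :=
  Lgr Lrot5 (Lpr_ft (f85385 IH) (Lpr_at (f85388 IH) (Lpe (f85402 IH) (Lpn (LP (LK LD1_c6 LD2_c59 LD3_c20))))))
theorem f126133 : Led Lsl_dt (LP (LK LD1_c12 LD2_c48 LD3_c12)) = (LP (LK LD1_c6 LD2_c41 LD3_c32)) :=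
  Lre_d IH (LK LD1_c12 LD2_c48 LD3_c12) (LK LD1_c6 LD2_c41 LD3_c32) Lrfl Lrfl
theorem f433077 : Led Lsl_ct (LP (LK LD1_c6 LD2_c59 LD3_c20)) = (LP (LK LD1_c12 LD2_c48 LD3_c12)) :=
  Lgr Lrot110 (Lpe (f85403 IH) (Lpr_cf (f88996 IH) (Lpr_gf (f432959 IH) (Lpe (f155175 IH) (Lpr_gt (K7.f155207 IH) (Lpe (K7.f155208 IH) (Lpr_gt (K7.f126168 IH) (Lpe (K7.f126163 IH) (Lpe (f126133 IH) (Lpn (LP (LK LD1_c12 LD2_c48 LD3_c12))))))))))))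
theorem f433087 : Led Lsl_cf (LP (LK LD1_c6 LD2_c59 LD3_c20)) = (LP (LK LD1_c12 LD2_c48 LD3_c12)) :=
  Lgr Lrot11 (Lpr_ct (f433077 IH) (Lpn (LP (LK LD1_c12 LD2_c48 LD3_c12))))
theorem f143377 : Led Lsl_af (LP (LK LD1_c6 LD2_c59 LD3_c13)) = (LP (LK LD1_c6 LD2_c59 LD3_c39)) :=
  Lgr Lrot109 (Lpr_cf (K5.f126217 IH) (Lpe (K5.f126202 IH) (Lpe (K5.f17756 IH) (Lpe (K5.f17748 IH) (Lpe (K0.f17762 IH) (Lpe (K3.f17769 IH) (Lpr_cf (K3.f85601 IH) (Lpe (K6.f85582 IH) (Lpr_ft (K6.f143349 IH) (Lpn (LP (LK LD1_c6 LD2_c59 LD3_c39))))))))))))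
theorem f143380 : Led Lsl_ct (LP (LK LD1_c12 LD2_c0 LD3_c51)) = (LP (LK LD1_c6 LD2_c59 LD3_c39)) :=
  Lgr Lrot111 (Lpr_af (K6.f126284 IH) (Lpe (K5.f126211 IH) (Lpr_af (f143377 IH) (Lpn (LP (LK LD1_c6 LD2_c59 LD3_c39))))))
theorem f86948 : Led Lsl_gt (LP (LK LD1_c1 LD2_c41 LD3_c14)) = (LP (LK LD1_c3 LD2_c28 LD3_c59)) :=
  Lre_g IH (LK LD1_c1 LD2_c41 LD3_c14) (LK LD1_c3 LD2_c28 LD3_c59) Lrfl Lrfl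
theorem f433091 : Led Lsl_df (LP (LK LD1_c6 LD2_c59 LD3_c20)) = (LP (LK LD1_c3 LD2_c28 LD3_c59)) :=
  Lgr Lrot174 (Lpr_ct (f433077 IH) (Lpe (f126131 IH) (Lpr_gf (f126129 IH) (Lpe (K5.f114314 IH) (Lpe (K7.f114315 IH) (Lpr_ct (f143380 IH) (Lpr_gt (K5.f84994 IH) (Lpr_dt (K5.f84993 IH) (Lpr_gt (f86948 IH) (Lpn (LP (LK LD1_c3 LD2_c28 LD3_c59))))))))))))
theorem f433097 : Led Lsl_dt (LP (LK LD1_c6 LD2_c59 LD3_c20)) = (LP (LK LD1_c3 LD2_c28 LD3_c59)) :=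
  Lgr Lrot42 (Lpr_df (f433091 IH) (Lpn (LP (LK LD1_c3 LD2_c28 LD3_c59))))
theorem f447963 : Led Lsl_af (LP (LK LD1_c1 LD2_c41 LD3_c5)) = (LP (LK LD1_c1 LD2_c43 LD3_c60)) :=
  Lgr Lrot45 (Lpr_ft (f447943 IH) (Lpe (f447949 IH) (Lpr_ft (f447961 IH) (Lpn (LP (LK LD1_c1 LD2_c43 LD3_c60))))))
theorem f433048 : Led Lsl_dt (LP (LK LD1_c3 LD2_c34 LD3_c23)) = (LP (LK LD1_c1 LD2_c43 LD3_c59)) :=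
  Lre_d IH (LK LD1_c3 LD2_c34 LD3_c23) (LK LD1_c1 LD2_c43 LD3_c59) Lrfl Lrfl
theorem f447971 : Led Lsl_ct (LP (LK LD1_c3 LD2_c28 LD3_c59)) = (LP (LK LD1_c3 LD2_c34 LD3_c23)) :=
  Lgr Lrot53 (Lpe (f433097 IH) (Lpr_cf (f433087 IH) (Lpe (f126131 IH) (Lpr_cf (K7.f126163 IH) (Lpe (K7.f62661 IH) (Lpr_ft (f447961 IH) (Lpe (f447963 IH) (Lpr_cf (f447901 IH) (Lpe (f433048 IH) (Lpn (LP (LK LD1_c3 LD2_c34 LD3_c23))))))))))))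
theorem f433094 : Led Lsl_bt (LP (LK LD1_c6 LD2_c59 LD3_c32)) = (LP (LK LD1_c3 LD2_c28 LD3_c59)) :=
  Lre_b IH (LK LD1_c6 LD2_c59 LD3_c32) (LK LD1_c3 LD2_c28 LD3_c59) Lrfl Lrfl
theorem f448633 : Led Lsl_ct (LP (LK LD1_c6 LD2_c52 LD3_c53)) = (LP (LK LD1_c6 LD2_c59 LD3_c32)) :=
  Lgr Lrot83 (Lpe (f448622 IH) (Lpr_cf (f448627 IH) (Lpe (f448614 IH) (Lpe (f447971 IH) (Lpe (f433094 IH) (Lpn (LP (LK LD1_c6 LD2_c59 LD3_c32))))))))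
theorem f448660 : Led Lsl_cf (LP (LK LD1_c6 LD2_c52 LD3_c53)) = (LP (LK LD1_c6 LD2_c59 LD3_c32)) :=
  Lgr Lrot11 (Lpr_ct (f448633 IH) (Lpn (LP (LK LD1_c6 LD2_c59 LD3_c32))))
theorem f448626 : Led Lsl_bt (LP (LK LD1_c6 LD2_c52 LD3_c53)) = (LP (LK LD1_c3 LD2_c25 LD3_c20)) :=
  Lre_b IH (LK LD1_c6 LD2_c52 LD3_c53) (LK LD1_c3 LD2_c25 LD3_c20) Lrfl Lrfl
theorem f433111 : Led Lsl_bt (LP (LK LD1_c3 LD2_c28 LD3_c59)) = (LP (LK LD1_c6 LD2_c59 LD3_c32)) :=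
  Lre_b IH (LK LD1_c3 LD2_c28 LD3_c59) (LK LD1_c6 LD2_c59 LD3_c32) Lrfl Lrfl
theorem f447975 : Led Lsl_cf (LP (LK LD1_c3 LD2_c28 LD3_c59)) = (LP (LK LD1_c3 LD2_c34 LD3_c23)) :=
  Lgr Lrot11 (Lpr_ct (f447971 IH) (Lpn (LP (LK LD1_c3 LD2_c34 LD3_c23))))
theorem f448666 : Led Lsl_bt (LP (LK LD1_c3 LD2_c37 LD3_c43)) = (LP (LK LD1_c3 LD2_c34 LD3_c23)) :=
  Lgr Lrot128 (Lpe (f448618 IH) (Lpe (f448626 IH) (Lpr_cf (f448660 IH) (Lpe (f433111 IH) (Lpr_cf (f447975 IH) (Lpn (LP (LK LD1_c3 LD2_c34 LD3_c23))))))))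
theorem f156061 : Led Lsl_bt (LP (LK LD1_c0 LD2_c49 LD3_c31)) = (LP (LK LD1_c1 LD2_c45 LD3_c42)) :=
  Lre_b IH (LK LD1_c0 LD2_c49 LD3_c31) (LK LD1_c1 LD2_c45 LD3_c42) Lrfl Lrfl
theorem f432924 : Led Lsl_at (LP (LK LD1_c3 LD2_c34 LD3_c23)) = (LP (LK LD1_c1 LD2_c43 LD3_c61)) :=
  Lre_a IH (LK LD1_c3 LD2_c34 LD3_c23) (LK LD1_c1 LD2_c43 LD3_c61) Lrfl Lrfl
theorem f433000 : Led Lsl_bt (LP (LK LD1_c1 LD2_c43 LD3_c61)) = (LP (LK LD1_c0 LD2_c48 LD3_c35)) :=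
  Lre_b IH (LK LD1_c1 LD2_c43 LD3_c61) (LK LD1_c0 LD2_c48 LD3_c35) Lrfl Lrfl
theorem f448670 : Led Lsl_af (LP (LK LD1_c0 LD2_c49 LD3_c31)) = (LP (LK LD1_c0 LD2_c48 LD3_c35)) :=
  Lgr Lrot36 (Lpr_bt (f156061 IH) (Lpr_at (f156175 IH) (Lpr_bt (f448666 IH) (Lpr_at (f432924 IH) (Lpr_bt (f433000 IH) (Lpn (LP (LK LD1_c0 LD2_c48 LD3_c35))))))))
theorem f448672 : Led Lsl_at (LP (LK LD1_c0 LD2_c49 LD3_c31)) = (LP (LK LD1_c0 LD2_c48 LD3_c35)) :=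
  Lgr Lrot100 (Lpr_af (f448670 IH) (Lpn (LP (LK LD1_c0 LD2_c48 LD3_c35))))
def v150 : LQ := Led Lsl_dt (LP (LK LD1_c0 LD2_c21 LD3_c42))
theorem f450759 : Led Lsl_dt (LP (LK LD1_c0 LD2_c21 LD3_c42)) = v150 :=
  Lrfl
theorem f450761 : Led Lsl_ff (LP (LK LD1_c0 LD2_c49 LD3_c31)) = v150 :=
  Lgr Lrot19 (Lpe (K7.f156065 IH) (Lpe (f447855 IH) (Lpr_dt (f450759 IH) (Lpn v150))))
theorem f450862 : Led Lsl_af v150 = v167 :=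
  Lgr Lrot45 (Lpe (f450761 IH) (Lpr_at (f448672 IH) (Lpr_ft (f450861 IH) (Lpn v167))))
theorem f450763 : Led Lsl_gt (LP (LK LD1_c0 LD2_c49 LD3_c33)) = v150 :=
  Lgr Lrot139 (Lpe (K0.f10314 IH) (Lpr_gf (K3.f18002 IH) (Lpe (K3.f17967 IH) (Lpr_dt (K0.f10757 IH) (Lpr_gf (K2.f17958 IH) (Lpe (K0.f4012 IH) (Lpr_et (K7.f4011 IH) (Lpr_gf (f4005 IH) (Lpr_ef (f430263 IH) (Lpr_dt (f450759 IH) (Lpn v150)))))))))))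
theorem f450863 : Led Lsl_gt (LP (LK LD1_c0 LD2_c48 LD3_c35)) = (LP (LK LD1_c0 LD2_c49 LD3_c33)) :=
  Lgr Lrot5 (Lpr_ft (f450861 IH) (Lpe (f450862 IH) (Lpe (f450763 IH) (Lpn (LP (LK LD1_c0 LD2_c49 LD3_c33))))))
theorem f450864 : Led Lsl_gt (LP (LK LD1_c0 LD2_c48 LD3_c35)) = (LP (LK LD1_c0 LD2_c49 LD3_c33)) :=
  Leop (Lpe (f450863 IH) (Lpn (LP (LK LD1_c0 LD2_c48 LD3_c35))))
theorem seed_21 : LEOK LG_g (LK LD1_c0 LD2_c48 LD3_c35) :=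
  Leoe_g (LK LD1_c0 LD2_c48 LD3_c35) (f450864 IH)
def v253 : LQ := Led Lsl_gt (LP (LK LD1_c0 LD2_c24 LD3_c26))
theorem f451366 : Led Lsl_gt (LP (LK LD1_c0 LD2_c24 LD3_c26)) = v253 :=
  Lrfl
def v95 : LQ := Led Lsl_gf (LP (LK LD1_c0 LD2_c10 LD3_c26))
def v300 : LQ := Led Lsl_et v95
theorem f451577 : Led Lsl_et v95 = v300 :=
  Lrfl
theorem f451578 : Led Lsl_ef v95 = v300 :=
  Lgr Lrot88 (Lpr_et (f451577 IH) (Lpn v300))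
def v97 : LQ := Led Lsl_ft (LP (LK LD1_c0 LD2_c10 LD3_c26))
theorem f447682 : Led Lsl_ft (LP (LK LD1_c0 LD2_c10 LD3_c26)) = v97 :=
  Lrfl
theorem f447685 : Led Lsl_ff (LP (LK LD1_c0 LD2_c10 LD3_c26)) = v97 :=
  Lgr Lrot3 (Lpr_ft (f447682 IH) (Lpn v97))
theorem f4828 : Led Lsl_et (LP (LK LD1_c0 LD2_c50 LD3_c27)) = (LP (LK LD1_c0 LD2_c22 LD3_c48)) :=
  Lre_e IH (LK LD1_c0 LD2_c50 LD3_c27) (LK LD1_c0 LD2_c22 LD3_c48) Lrfl Lrfl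
theorem f4830 : Led Lsl_et (LP (LK LD1_c0 LD2_c22 LD3_c48)) = (LP (LK LD1_c0 LD2_c50 LD3_c27)) :=
  Lre_e IH (LK LD1_c0 LD2_c22 LD3_c48) (LK LD1_c0 LD2_c50 LD3_c27) Lrfl Lrfl
theorem f148278 : Led Lsl_bf (LP (LK LD1_c0 LD2_c50 LD3_c27)) = (LP (LK LD1_c0 LD2_c50 LD3_c27)) :=
  Lgr Lrot96 (Lpr_et (f4828 IH) (Lpr_bt (K7.f148238 IH) (Lpr_et (f4830 IH) (Lpn (LP (LK LD1_c0 LD2_c50 LD3_c27))))))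
theorem f4645 : Led Lsl_at (LP (LK LD1_c0 LD2_c50 LD3_c27)) = (LP (LK LD1_c0 LD2_c22 LD3_c52)) :=
  Lre_a IH (LK LD1_c0 LD2_c50 LD3_c27) (LK LD1_c0 LD2_c22 LD3_c52) Lrfl Lrfl
theorem f4484 : Led Lsl_bt (LP (LK LD1_c0 LD2_c22 LD3_c52)) = (LP (LK LD1_c0 LD2_c10 LD3_c19)) :=
  Lre_b IH (LK LD1_c0 LD2_c22 LD3_c52) (LK LD1_c0 LD2_c10 LD3_c19) Lrfl Lrfl
theorem f4528 : Led Lsl_at (LP (LK LD1_c0 LD2_c22 LD3_c52)) = (LP (LK LD1_c0 LD2_c50 LD3_c27)) :=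
  Lre_a IH (LK LD1_c0 LD2_c22 LD3_c52) (LK LD1_c0 LD2_c50 LD3_c27) Lrfl Lrfl
theorem f436781 : Led Lsl_at (LP (LK LD1_c0 LD2_c10 LD3_c19)) = (LP (LK LD1_c0 LD2_c10 LD3_c19)) :=
  Lgr Lrot67 (Lpe (f4484 IH) (Lpe (f4645 IH) (Lpr_bf (f148278 IH) (Lpe (f4528 IH) (Lpe (K4.f4483 IH) (Lpn (LP (LK LD1_c0 LD2_c10 LD3_c19))))))))
theorem f436819 : Led Lsl_af (LP (LK LD1_c0 LD2_c10 LD3_c26)) = (LP (LK LD1_c0 LD2_c10 LD3_c26)) :=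
  Lgr Lrot68 (Lpr_ct (K4.f12851 IH) (Lpr_at (f436781 IH) (Lpe (K4.f12758 IH) (Lpn (LP (LK LD1_c0 LD2_c10 LD3_c26))))))
theorem f447676 : Led Lsl_gf (LP (LK LD1_c0 LD2_c10 LD3_c26)) = v95 :=
  Lrfl
theorem f447689 : Led Lsl_gf v95 = v97 :=
  Lgr Lrot47 (Lpe (f447676 IH) (Lpr_af (f436819 IH) (Lpr_ff (f447685 IH) (Lpn v97))))
theorem f434303 : Led Lsl_ff (LP (LK LD1_c0 LD2_c4 LD3_c52)) = (LP (LK LD1_c0 LD2_c4 LD3_c54)) :=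
  Lgr Lrot19 (Lpr_dt (K0.f4455 IH) (Lpr_ft (K7.f156375 IH) (Lpr_dt (K0.f5825 IH) (Lpn (LP (LK LD1_c0 LD2_c4 LD3_c54))))))
theorem f4487 : Led Lsl_ft (LP (LK LD1_c0 LD2_c10 LD3_c19)) = (LP (LK LD1_c0 LD2_c22 LD3_c55)) :=
  Lre_f IH (LK LD1_c0 LD2_c10 LD3_c19) (LK LD1_c0 LD2_c22 LD3_c55) Lrfl Lrfl
theorem f447688 : Led Lsl_et (LP (LK LD1_c0 LD2_c22 LD3_c55)) = v97 :=
  Lgr Lrot69 (Lpe (f4487 IH) (Lpe (K4.f4480 IH) (Lpr_ff (f434303 IH) (Lpe (K4.f11307 IH) (Lpr_ff (f447685 IH) (Lpn v97))))))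
theorem f4468 : Led Lsl_et (LP (LK LD1_c0 LD2_c10 LD3_c19)) = (LP (LK LD1_c0 LD2_c4 LD3_c52)) :=
  Lre_e IH (LK LD1_c0 LD2_c10 LD3_c19) (LK LD1_c0 LD2_c4 LD3_c52) Lrfl Lrfl
theorem f4481 : Led Lsl_df (LP (LK LD1_c0 LD2_c10 LD3_c19)) = (LP (LK LD1_c0 LD2_c10 LD3_c19)) :=
  Lgr Lrot70 (Lpr_et (f4468 IH) (Lpr_dt (K0.f4455 IH) (Lpr_et (K0.f4470 IH) (Lpr_dt (K0.f345 IH) (Lpr_et (K4.f4480 IH) (Lpn (LP (LK LD1_c0 LD2_c10 LD3_c19))))))))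
theorem f4488 : Led Lsl_ft (LP (LK LD1_c0 LD2_c22 LD3_c55)) = (LP (LK LD1_c0 LD2_c10 LD3_c19)) :=
  Lre_f IH (LK LD1_c0 LD2_c22 LD3_c55) (LK LD1_c0 LD2_c10 LD3_c19) Lrfl Lrfl
theorem f4489 : Led Lsl_dt (LP (LK LD1_c0 LD2_c22 LD3_c55)) = (LP (LK LD1_c0 LD2_c22 LD3_c55)) :=
  Lgr Lrot60 (Lpe (f4487 IH) (Lpr_df (f4481 IH) (Lpe (f4488 IH) (Lpn (LP (LK LD1_c0 LD2_c22 LD3_c55))))))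
theorem f4834 : Led Lsl_ft (LP (LK LD1_c0 LD2_c50 LD3_c27)) = (LP (LK LD1_c1 LD2_c47 LD3_c20)) :=
  Lre_f IH (LK LD1_c0 LD2_c50 LD3_c27) (LK LD1_c1 LD2_c47 LD3_c20) Lrfl Lrfl
theorem f4646 : Led Lsl_ft (LP (LK LD1_c1 LD2_c47 LD3_c20)) = (LP (LK LD1_c0 LD2_c50 LD3_c27)) :=
  Lre_f IH (LK LD1_c1 LD2_c47 LD3_c20) (LK LD1_c0 LD2_c50 LD3_c27) Lrfl Lrfl
theorem f436785 : Led Lsl_bt (LP (LK LD1_c1 LD2_c47 LD3_c20)) = (LP (LK LD1_c1 LD2_c47 LD3_c20)) :=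
  Lgr Lrot35 (Lpe (f4834 IH) (Lpr_bf (f148278 IH) (Lpe (f4646 IH) (Lpn (LP (LK LD1_c1 LD2_c47 LD3_c20))))))
theorem f4503 : Led Lsl_at (LP (LK LD1_c0 LD2_c50 LD3_c39)) = (LP (LK LD1_c1 LD2_c47 LD3_c20)) :=
  Lre_a IH (LK LD1_c0 LD2_c50 LD3_c39) (LK LD1_c1 LD2_c47 LD3_c20) Lrfl Lrfl
theorem f4500 : Led Lsl_bt (LP (LK LD1_c0 LD2_c22 LD3_c55)) = (LP (LK LD1_c0 LD2_c50 LD3_c39)) :=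
  Lre_b IH (LK LD1_c0 LD2_c22 LD3_c55) (LK LD1_c0 LD2_c50 LD3_c39) Lrfl Lrfl
theorem f4504 : Led Lsl_at (LP (LK LD1_c1 LD2_c47 LD3_c20)) = (LP (LK LD1_c0 LD2_c50 LD3_c39)) :=
  Lre_a IH (LK LD1_c1 LD2_c47 LD3_c20) (LK LD1_c0 LD2_c50 LD3_c39) Lrfl Lrfl
theorem f4499 : Led Lsl_bt (LP (LK LD1_c0 LD2_c50 LD3_c39)) = (LP (LK LD1_c0 LD2_c22 LD3_c55)) :=
  Lre_b IH (LK LD1_c0 LD2_c50 LD3_c39) (LK LD1_c0 LD2_c22 LD3_c55) Lrfl Lrfl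
theorem f436787 : Led Lsl_af (LP (LK LD1_c0 LD2_c22 LD3_c55)) = (LP (LK LD1_c0 LD2_c22 LD3_c55)) :=
  Lgr Lrot36 (Lpr_bt (f4500 IH) (Lpr_at (f4503 IH) (Lpr_bt (f436785 IH) (Lpr_at (f4504 IH) (Lpr_bt (f4499 IH) (Lpn (LP (LK LD1_c0 LD2_c22 LD3_c55))))))))
theorem f4492 : Led Lsl_gt (LP (LK LD1_c0 LD2_c10 LD3_c19)) = (LP (LK LD1_c0 LD2_c22 LD3_c53)) :=
  Lre_g IH (LK LD1_c0 LD2_c10 LD3_c19) (LK LD1_c0 LD2_c22 LD3_c53) Lrfl Lrfl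
theorem f436798 : Led Lsl_gf (LP (LK LD1_c0 LD2_c22 LD3_c55)) = (LP (LK LD1_c0 LD2_c22 LD3_c53)) :=
  Lgr Lrot76 (Lpr_af (f436787 IH) (Lpe (f4487 IH) (Lpr_gt (f4492 IH) (Lpn (LP (LK LD1_c0 LD2_c22 LD3_c53))))))
theorem f4497 : Led Lsl_dt (LP (LK LD1_c0 LD2_c50 LD3_c41)) = (LP (LK LD1_c0 LD2_c22 LD3_c53)) :=
  Lre_d IH (LK LD1_c0 LD2_c50 LD3_c41) (LK LD1_c0 LD2_c22 LD3_c53) Lrfl Lrfl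
theorem f11295 : Led Lsl_et (LP (LK LD1_c0 LD2_c4 LD3_c54)) = (LP (LK LD1_c0 LD2_c10 LD3_c26)) :=
  Lre_e IH (LK LD1_c0 LD2_c4 LD3_c54) (LK LD1_c0 LD2_c10 LD3_c26) Lrfl Lrfl
theorem f4474 : Led Lsl_gt (LP (LK LD1_c0 LD2_c5 LD3_c2)) = (LP (LK LD1_c0 LD2_c10 LD3_c50)) :=
  Lre_g IH (LK LD1_c0 LD2_c5 LD3_c2) (LK LD1_c0 LD2_c10 LD3_c50) Lrfl Lrfl
theorem f11199 : Led Lsl_dt (LP (LK LD1_c0 LD2_c10 LD3_c50)) = (LP (LK LD1_c0 LD2_c24 LD3_c22)) :=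
  Lre_d IH (LK LD1_c0 LD2_c10 LD3_c50) (LK LD1_c0 LD2_c24 LD3_c22) Lrfl Lrfl
def v243 : LQ := Led Lsl_gt (LP (LK LD1_c0 LD2_c24 LD3_c22))
theorem f451306 : Led Lsl_gt (LP (LK LD1_c0 LD2_c24 LD3_c22)) = v243 :=
  Lrfl
theorem f451579 : Led Lsl_df v243 = v300 :=
  Lgr Lrot132 (Lpe (f451306 IH) (Lpe (f11199 IH) (Lpe (f4474 IH) (Lpe (K0.f11229 IH) (Lpr_dt (K0.f3880 IH) (Lpe (K0.f3831 IH) (Lpe (K0.f5826 IH) (Lpr_et (f11295 IH) (Lpr_gf (f447676 IH) (Lpr_ef (f451578 IH) (Lpn v300)))))))))))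
def v248 : LQ := Led Lsl_ft (LP (LK LD1_c0 LD2_c24 LD3_c22))
theorem f451338 : Led Lsl_ft (LP (LK LD1_c0 LD2_c24 LD3_c22)) = v248 :=
  Lrfl
def v245 : LQ := Led Lsl_at (LP (LK LD1_c0 LD2_c24 LD3_c22))
theorem f451311 : Led Lsl_at (LP (LK LD1_c0 LD2_c24 LD3_c22)) = v245 :=
  Lrfl
theorem f451312 : Led Lsl_af (LP (LK LD1_c0 LD2_c24 LD3_c22)) = v245 :=
  Lgr Lrot0 (Lpr_at (f451311 IH) (Lpn v245))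
def v102 : LQ := Led Lsl_at (LP (LK LD1_c0 LD2_c10 LD3_c50))
theorem f448766 : Led Lsl_at (LP (LK LD1_c0 LD2_c10 LD3_c50)) = v102 :=
  Lrfl
theorem f448767 : Led Lsl_af (LP (LK LD1_c0 LD2_c10 LD3_c50)) = v102 :=
  Lgr Lrot0 (Lpr_at (f448766 IH) (Lpn v102))
theorem f451314 : Led Lsl_df v102 = v245 :=
  Lgr Lrot18 (Lpe (f448767 IH) (Lpr_dt (f11199 IH) (Lpr_at (f451311 IH) (Lpn v245))))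
theorem f11233 : Led Lsl_gt (LP (LK LD1_c0 LD2_c10 LD3_c51)) = (LP (LK LD1_c0 LD2_c5 LD3_c2)) :=
  Lre_g IH (LK LD1_c0 LD2_c10 LD3_c51) (LK LD1_c0 LD2_c5 LD3_c2) Lrfl Lrfl
theorem f448771 : Led Lsl_ft (LP (LK LD1_c0 LD2_c10 LD3_c51)) = v102 :=
  Lgr Lrot2 (Lpr_gt (f11233 IH) (Lpr_gt (f4474 IH) (Lpr_af (f448767 IH) (Lpn v102))))
theorem f448772 : Led Lsl_ff (LP (LK LD1_c0 LD2_c10 LD3_c51)) = v102 :=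
  Lgr Lrot3 (Lpr_ft (f448771 IH) (Lpn v102))
theorem f4472 : Led Lsl_et (LP (LK LD1_c0 LD2_c9 LD3_c38)) = (LP (LK LD1_c0 LD2_c4 LD3_c31)) :=
  Lre_e IH (LK LD1_c0 LD2_c9 LD3_c38) (LK LD1_c0 LD2_c4 LD3_c31) Lrfl Lrfl
theorem f4473 : Led Lsl_dt (LP (LK LD1_c0 LD2_c9 LD3_c38)) = (LP (LK LD1_c0 LD2_c5 LD3_c2)) :=
  Lre_d IH (LK LD1_c0 LD2_c9 LD3_c38) (LK LD1_c0 LD2_c5 LD3_c2) Lrfl Lrfl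
theorem f11215 : Led Lsl_et (LP (LK LD1_c0 LD2_c24 LD3_c23)) = (LP (LK LD1_c0 LD2_c10 LD3_c50)) :=
  Lre_e IH (LK LD1_c0 LD2_c24 LD3_c23) (LK LD1_c0 LD2_c10 LD3_c50) Lrfl Lrfl
theorem f11314 : Led Lsl_df (LP (LK LD1_c0 LD2_c10 LD3_c51)) = (LP (LK LD1_c0 LD2_c24 LD3_c23)) :=
  Lgr Lrot170 (Lpr_gt (f11233 IH) (Lpe (f4473 IH) (Lpr_et (f4472 IH) (Lpr_gt (K0.f11297 IH) (Lpr_dt (K0.f5826 IH) (Lpr_gt (K0.f3831 IH) (Lpe (K0.f3880 IH) (Lpr_et (K0.f11229 IH) (Lpr_gt (f4474 IH) (Lpe (f11215 IH) (Lpn (LP (LK LD1_c0 LD2_c24 LD3_c23)))))))))))))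
theorem f11320 : Led Lsl_dt (LP (LK LD1_c0 LD2_c10 LD3_c51)) = (LP (LK LD1_c0 LD2_c24 LD3_c23)) :=
  Lgr Lrot42 (Lpr_df (f11314 IH) (Lpn (LP (LK LD1_c0 LD2_c24 LD3_c23))))
theorem f451316 : Led Lsl_ft (LP (LK LD1_c0 LD2_c24 LD3_c23)) = v245 :=
  Lgr Lrot54 (Lpe (f11320 IH) (Lpr_ff (f448772 IH) (Lpr_df (f451314 IH) (Lpn v245))))
theorem f451339 : Led Lsl_af (LP (LK LD1_c0 LD2_c24 LD3_c23)) = v248 :=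
  Lgr Lrot45 (Lpr_ft (f451316 IH) (Lpe (f451312 IH) (Lpr_ft (f451338 IH) (Lpn v248))))
theorem f451342 : Led Lsl_gt v243 = (LP (LK LD1_c0 LD2_c24 LD3_c23)) :=
  Lgr Lrot46 (Lpe (f451306 IH) (Lpr_ft (f451338 IH) (Lpe (f451339 IH) (Lpn (LP (LK LD1_c0 LD2_c24 LD3_c23))))))
theorem f11322 : Led Lsl_et (LP (LK LD1_c0 LD2_c10 LD3_c51)) = (LP (LK LD1_c0 LD2_c24 LD3_c26)) :=
  Lre_e IH (LK LD1_c0 LD2_c10 LD3_c51) (LK LD1_c0 LD2_c24 LD3_c26) Lrfl Lrfl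
theorem f451580 : (LP (LK LD1_c0 LD2_c50 LD3_c41)) = v253 :=
  (Llr Lrot135 (Lpr_dt (f4497 IH) (Lpe (f436798 IH) (Lpe (f4489 IH) (Lpr_et (f447688 IH) (Lpe (f447689 IH) (Lpr_ef (f451578 IH) (Lpe (f451579 IH) (Lpr_gt (f451342 IH) (Lpe (f11320 IH) (Lpr_et (f11322 IH) (Lpr_gt (f451366 IH) (Lpn v253))))))))))))).symm
theorem f451581 : Led Lsl_gt (LP (LK LD1_c0 LD2_c24 LD3_c26)) = (LP (LK LD1_c0 LD2_c50 LD3_c41)) :=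
  Leop (Lpqs (f451580 IH) (Lpe (f451366 IH) (Lpn (LP (LK LD1_c0 LD2_c24 LD3_c26)))))
theorem seed_22 : LEOK LG_g (LK LD1_c0 LD2_c24 LD3_c26) :=
  Leoe_g (LK LD1_c0 LD2_c24 LD3_c26) (f451581 IH)
def v255 : LQ := Led Lsl_at (LP (LK LD1_c0 LD2_c24 LD3_c26))
theorem f451371 : Led Lsl_at (LP (LK LD1_c0 LD2_c24 LD3_c26)) = v255 :=
  Lrfl
theorem f451341 : Led Lsl_ff (LP (LK LD1_c0 LD2_c24 LD3_c22)) = v248 :=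
  Lgr Lrot3 (Lpr_ft (f451338 IH) (Lpn v248))
theorem f451317 : Led Lsl_ff (LP (LK LD1_c0 LD2_c24 LD3_c23)) = v245 :=
  Lgr Lrot3 (Lpr_ft (f451316 IH) (Lpn v245))
theorem f451344 : Led Lsl_at (LP (LK LD1_c0 LD2_c24 LD3_c23)) = v248 :=
  Lgr Lrot66 (Lpr_ff (f451317 IH) (Lpe (f451311 IH) (Lpr_ff (f451341 IH) (Lpn v248))))
theorem f11323 : Led Lsl_et (LP (LK LD1_c0 LD2_c10 LD3_c50)) = (LP (LK LD1_c0 LD2_c24 LD3_c23)) :=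
  Lre_e IH (LK LD1_c0 LD2_c10 LD3_c50) (LK LD1_c0 LD2_c24 LD3_c23) Lrfl Lrfl
theorem f451346 : Led Lsl_ef v102 = v248 :=
  Lgr Lrot20 (Lpe (f448767 IH) (Lpr_et (f11323 IH) (Lpr_at (f451344 IH) (Lpn v248))))
def v247 : LQ := Led Lsl_et (LP (LK LD1_c0 LD2_c24 LD3_c22))
theorem f451327 : Led Lsl_et (LP (LK LD1_c0 LD2_c24 LD3_c22)) = v247 :=
  Lrfl
theorem f451329 : Led Lsl_ef (LP (LK LD1_c0 LD2_c24 LD3_c22)) = v247 :=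
  Lgr Lrot88 (Lpr_et (f451327 IH) (Lpn v247))
theorem f451348 : Led Lsl_ft (LP (LK LD1_c0 LD2_c24 LD3_c26)) = v247 :=
  Lgr Lrot86 (Lpe (f11322 IH) (Lpr_ff (f448772 IH) (Lpr_ef (f451346 IH) (Lpe (f451338 IH) (Lpr_ef (f451329 IH) (Lpn v247))))))
theorem f4475 : Led Lsl_dt (LP (LK LD1_c0 LD2_c24 LD3_c22)) = (LP (LK LD1_c0 LD2_c10 LD3_c50)) :=
  Lre_d IH (LK LD1_c0 LD2_c24 LD3_c22) (LK LD1_c0 LD2_c10 LD3_c50) Lrfl Lrfl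
theorem f451331 : Led Lsl_dt (LP (LK LD1_c0 LD2_c24 LD3_c26)) = v247 :=
  Lgr Lrot77 (Lpe (f11322 IH) (Lpr_df (f11314 IH) (Lpe (f11323 IH) (Lpe (f4475 IH) (Lpr_ef (f451329 IH) (Lpn v247))))))
theorem f11248 : Led Lsl_et (LP (LK LD1_c0 LD2_c24 LD3_c26)) = (LP (LK LD1_c0 LD2_c10 LD3_c51)) :=
  Lre_e IH (LK LD1_c0 LD2_c24 LD3_c26) (LK LD1_c0 LD2_c10 LD3_c51) Lrfl Lrfl
theorem f4493 : Led Lsl_dt (LP (LK LD1_c0 LD2_c22 LD3_c53)) = (LP (LK LD1_c0 LD2_c50 LD3_c41)) :=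
  Lre_d IH (LK LD1_c0 LD2_c22 LD3_c53) (LK LD1_c0 LD2_c50 LD3_c41) Lrfl Lrfl
theorem f451333 : Led Lsl_gt (LP (LK LD1_c0 LD2_c50 LD3_c41)) = v247 :=
  Lgr Lrot139 (Lpe (f4493 IH) (Lpe (f4492 IH) (Lpe (K4.f4480 IH) (Lpr_dt (K0.f4455 IH) (Lpe (K0.f344 IH) (Lpe (K0.f3880 IH) (Lpr_et (K0.f11229 IH) (Lpe (f11233 IH) (Lpe (f11248 IH) (Lpr_dt (f451331 IH) (Lpn v247)))))))))))
theorem f451587 : Led Lsl_at v247 = v247 :=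
  Lgr Lrot26 (Lpe (f451348 IH) (Lpr_gt (f451366 IH) (Lpq (f451580 IH) (Lpr_gt (f451333 IH) (Lpn v247)))))
theorem f451372 : Led Lsl_af (LP (LK LD1_c0 LD2_c24 LD3_c26)) = v255 :=
  Lgr Lrot0 (Lpr_at (f451371 IH) (Lpn v255))
theorem f451328 : Led Lsl_df (LP (LK LD1_c0 LD2_c24 LD3_c26)) = v247 :=
  Lgr Lrot70 (Lpr_et (f11248 IH) (Lpr_dt (f11320 IH) (Lpr_et (f11215 IH) (Lpr_dt (f11199 IH) (Lpr_et (f451327 IH) (Lpn v247))))))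
theorem f451588 : v255 = (LP (LK LD1_c0 LD2_c24 LD3_c26)) :=
  (Llr Lrot117 (Lpe (f451372 IH) (Lpr_dt (f451331 IH) (Lpr_at (f451587 IH) (Lpe (f451328 IH) (Lpn (LP (LK LD1_c0 LD2_c24 LD3_c26)))))))).symm
theorem f451589 : Led Lsl_at (LP (LK LD1_c0 LD2_c24 LD3_c26)) = (LP (LK LD1_c0 LD2_c24 LD3_c26)) :=
  Leop (Lpq (f451588 IH) (Lpe (f451371 IH) (Lpn (LP (LK LD1_c0 LD2_c24 LD3_c26)))))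
theorem seed_23 : LEOK LG_a (LK LD1_c0 LD2_c24 LD3_c26) :=
  Leoe_a (LK LD1_c0 LD2_c24 LD3_c26) (f451589 IH)
def v342 : LQ := Led Lsl_gf (LP (LK LD1_c0 LD2_c29 LD3_c57))
theorem f452277 : Led Lsl_gf (LP (LK LD1_c0 LD2_c29 LD3_c57)) = v342 :=
  Lrfl
theorem f79977 : Led Lsl_et (LP (LK LD1_c1 LD2_c5 LD3_c28)) = (LP (LK LD1_c2 LD2_c17 LD3_c3)) :=
  Lre_e IH (LK LD1_c1 LD2_c5 LD3_c28) (LK LD1_c2 LD2_c17 LD3_c3) Lrfl Lrfl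
theorem f100192 : Led Lsl_gt (LP (LK LD1_c2 LD2_c17 LD3_c3)) = (LP (LK LD1_c4 LD2_c40 LD3_c0)) :=
  Lre_g IH (LK LD1_c2 LD2_c17 LD3_c3) (LK LD1_c4 LD2_c40 LD3_c0) Lrfl Lrfl
theorem f100199 : Led Lsl_dt (LP (LK LD1_c4 LD2_c40 LD3_c0)) = (LP (LK LD1_c9 LD2_c15 LD3_c33)) :=
  Lre_d IH (LK LD1_c4 LD2_c40 LD3_c0) (LK LD1_c9 LD2_c15 LD3_c33) Lrfl Lrfl
theorem f452280 : Led Lsl_dt (LP (LK LD1_c1 LD2_c5 LD3_c0)) = v342 :=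
  Lgr Lrot57 (Lpe (f80052 IH) (Lpe (K6.f75056 IH) (Lpr_gt (K0.f14019 IH) (Lpr_dt (K7.f14020 IH) (Lpr_gt (K8.f141831 IH) (Lpr_dt (K8.f23910 IH) (Lpe (K8.f22469 IH) (Lpe (K8.f60956 IH) (Lpr_gf (f452277 IH) (Lpn v342))))))))))
theorem f207315 : Led Lsl_et (LP (LK LD1_c1 LD2_c5 LD3_c0)) = (LP (LK LD1_c2 LD2_c16 LD3_c7)) :=
  Lre_e IH (LK LD1_c1 LD2_c5 LD3_c0) (LK LD1_c2 LD2_c16 LD3_c7) Lrfl Lrfl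
theorem f207344 : Led Lsl_gt (LP (LK LD1_c4 LD2_c37 LD3_c59)) = (LP (LK LD1_c2 LD2_c16 LD3_c7)) :=
  Lre_g IH (LK LD1_c4 LD2_c37 LD3_c59) (LK LD1_c2 LD2_c16 LD3_c7) Lrfl Lrfl
theorem f207356 : Led Lsl_et (LP (LK LD1_c9 LD2_c11 LD3_c38)) = (LP (LK LD1_c4 LD2_c37 LD3_c59)) :=
  Lre_e IH (LK LD1_c9 LD2_c11 LD3_c38) (LK LD1_c4 LD2_c37 LD3_c59) Lrfl Lrfl
theorem f207357 : Led Lsl_dt (LP (LK LD1_c9 LD2_c11 LD3_c38)) = (LP (LK LD1_c17 LD2_c5 LD3_c18)) :=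
  Lre_d IH (LK LD1_c9 LD2_c11 LD3_c38) (LK LD1_c17 LD2_c5 LD3_c18) Lrfl Lrfl
theorem f452282 : Led Lsl_gt (LP (LK LD1_c9 LD2_c15 LD3_c33)) = (LP (LK LD1_c17 LD2_c5 LD3_c18)) :=
  Lgr Lrot139 (Lpe (f100199 IH) (Lpe (f100192 IH) (Lpe (f79977 IH) (Lpr_dt (K8.f59362 IH) (Lpr_gf (f452277 IH) (Lpe (f452280 IH) (Lpr_et (f207315 IH) (Lpe (f207344 IH) (Lpe (f207356 IH) (Lpr_dt (f207357 IH) (Lpn (LP (LK LD1_c17 LD2_c5 LD3_c18)))))))))))))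
theorem f452283 : Led Lsl_gt (LP (LK LD1_c9 LD2_c15 LD3_c33)) = (LP (LK LD1_c17 LD2_c5 LD3_c18)) :=
  Leop (Lpe (f452282 IH) (Lpn (LP (LK LD1_c9 LD2_c15 LD3_c33))))
theorem seed_24 : LEOK LG_g (LK LD1_c9 LD2_c15 LD3_c33) :=
  Leoe_g (LK LD1_c9 LD2_c15 LD3_c33) (f452283 IH)
def v343 : LQ := Led Lsl_ft (LP (LK LD1_c0 LD2_c30 LD3_c42))
theorem f452298 : Led Lsl_ft (LP (LK LD1_c0 LD2_c30 LD3_c42)) = v343 :=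
  Lrfl
theorem f452302 : Led Lsl_ff (LP (LK LD1_c0 LD2_c30 LD3_c42)) = v343 :=
  Lgr Lrot3 (Lpr_ft (f452298 IH) (Lpn v343))
theorem f82680 : Led Lsl_gt (LP (LK LD1_c0 LD2_c43 LD3_c1)) = (LP (LK LD1_c0 LD2_c19 LD3_c9)) :=
  Lre_g IH (LK LD1_c0 LD2_c43 LD3_c1) (LK LD1_c0 LD2_c19 LD3_c9) Lrfl Lrfl
theorem f452307 : Led Lsl_gf (LP (LK LD1_c0 LD2_c43 LD3_c1)) = v343 :=
  Lgr Lrot47 (Lpr_gt (f82680 IH) (Lpe (K4.f82884 IH) (Lpr_ff (f452302 IH) (Lpn v343))))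
theorem f82681 : Led Lsl_dt (LP (LK LD1_c1 LD2_c33 LD3_c1)) = (LP (LK LD1_c0 LD2_c43 LD3_c1)) :=
  Lre_d IH (LK LD1_c1 LD2_c33 LD3_c1) (LK LD1_c0 LD2_c43 LD3_c1) Lrfl Lrfl
theorem f26107 : Led Lsl_dt (LP (LK LD1_c0 LD2_c8 LD3_c35)) = (LP (LK LD1_c0 LD2_c19 LD3_c6)) :=
  Lre_d IH (LK LD1_c0 LD2_c8 LD3_c35) (LK LD1_c0 LD2_c19 LD3_c6) Lrfl Lrfl
theorem f82379 : Led Lsl_et (LP (LK LD1_c0 LD2_c19 LD3_c6)) = (LP (LK LD1_c0 LD2_c42 LD3_c57)) :=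
  Lre_e IH (LK LD1_c0 LD2_c19 LD3_c6) (LK LD1_c0 LD2_c42 LD3_c57) Lrfl Lrfl
theorem f26080 : Led Lsl_dt (LP (LK LD1_c0 LD2_c19 LD3_c6)) = (LP (LK LD1_c0 LD2_c8 LD3_c35)) :=
  Lre_d IH (LK LD1_c0 LD2_c19 LD3_c6) (LK LD1_c0 LD2_c8 LD3_c35) Lrfl Lrfl
theorem f82654 : Led Lsl_et (LP (LK LD1_c0 LD2_c42 LD3_c57)) = (LP (LK LD1_c0 LD2_c19 LD3_c6)) :=
  Lre_e IH (LK LD1_c0 LD2_c42 LD3_c57) (LK LD1_c0 LD2_c19 LD3_c6) Lrfl Lrfl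
theorem f82655 : Led Lsl_dt (LP (LK LD1_c0 LD2_c42 LD3_c57)) = (LP (LK LD1_c0 LD2_c42 LD3_c57)) :=
  Lgr Lrot77 (Lpe (f82379 IH) (Lpe (f26107 IH) (Lpr_ef (K3.f82556 IH) (Lpe (f26080 IH) (Lpe (f82654 IH) (Lpn (LP (LK LD1_c0 LD2_c42 LD3_c57))))))))
theorem f82664 : Led Lsl_bt (LP (LK LD1_c0 LD2_c42 LD3_c57)) = (LP (LK LD1_c0 LD2_c19 LD3_c9)) :=
  Lre_b IH (LK LD1_c0 LD2_c42 LD3_c57) (LK LD1_c0 LD2_c19 LD3_c9) Lrfl Lrfl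
theorem f82665 : Led Lsl_df (LP (LK LD1_c0 LD2_c19 LD3_c9)) = (LP (LK LD1_c0 LD2_c19 LD3_c9)) :=
  Lgr Lrot12 (Lpr_bt (K4.f82663 IH) (Lpr_dt (f82655 IH) (Lpr_bt (f82664 IH) (Lpn (LP (LK LD1_c0 LD2_c19 LD3_c9))))))
theorem f61013 : Led Lsl_et (LP (LK LD1_c0 LD2_c19 LD3_c9)) = (LP (LK LD1_c0 LD2_c8 LD3_c36)) :=
  Lre_e IH (LK LD1_c0 LD2_c19 LD3_c9) (LK LD1_c0 LD2_c8 LD3_c36) Lrfl Lrfl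
theorem f82691 : Led Lsl_et (LP (LK LD1_c1 LD2_c33 LD3_c1)) = (LP (LK LD1_c1 LD2_c6 LD3_c11)) :=
  Lgr Lrot122 (Lpr_dt (f82681 IH) (Lpr_gt (f82680 IH) (Lpr_df (f82665 IH) (Lpr_et (f61013 IH) (Lpr_gt (K1.f13541 IH) (Lpe (K1.f60962 IH) (Lpr_gt (K1.f20967 IH) (Lpe (K0.f25731 IH) (Lpr_et (K7.f59487 IH) (Lpr_gt (K8.f61012 IH) (Lpn (LP (LK LD1_c1 LD2_c6 LD3_c11)))))))))))))
theorem f153578 : Led Lsl_gf (LP (LK LD1_c0 LD2_c41 LD3_c49)) = (LP (LK LD1_c1 LD2_c6 LD3_c11)) :=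
  Lgr Lrot76 (Lpr_af (K7.f153565 IH) (Lpe (K7.f61116 IH) (Lpr_gt (K8.f61012 IH) (Lpn (LP (LK LD1_c1 LD2_c6 LD3_c11))))))
theorem f153704 : Led Lsl_af (LP (LK LD1_c0 LD2_c42 LD3_c37)) = (LP (LK LD1_c1 LD2_c6 LD3_c53)) :=
  Lgr Lrot0 (Lpr_at (K7.f153697 IH) (Lpn (LP (LK LD1_c1 LD2_c6 LD3_c53))))
theorem f69072 : Led Lsl_gt (LP (LK LD1_c1 LD2_c32 LD3_c7)) = (LP (LK LD1_c0 LD2_c42 LD3_c37)) :=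
  Lre_g IH (LK LD1_c1 LD2_c32 LD3_c7) (LK LD1_c0 LD2_c42 LD3_c37) Lrfl Lrfl
theorem f150508 : Led Lsl_ft (LP (LK LD1_c2 LD2_c19 LD3_c35)) = (LP (LK LD1_c1 LD2_c6 LD3_c53)) :=
  Lre_f IH (LK LD1_c2 LD2_c19 LD3_c35) (LK LD1_c1 LD2_c6 LD3_c53) Lrfl Lrfl
theorem f435285 : Led Lsl_gf (LP (LK LD1_c1 LD2_c32 LD3_c7)) = (LP (LK LD1_c2 LD2_c19 LD3_c35)) :=
  Lgr Lrot47 (Lpr_gt (f69072 IH) (Lpr_af (f153704 IH) (Lpe (f150508 IH) (Lpn (LP (LK LD1_c2 LD2_c19 LD3_c35))))))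
theorem f66979 : Led Lsl_dt (LP (LK LD1_c3 LD2_c6 LD3_c60)) = (LP (LK LD1_c1 LD2_c29 LD3_c37)) :=
  Lre_d IH (LK LD1_c3 LD2_c6 LD3_c60) (LK LD1_c1 LD2_c29 LD3_c37) Lrfl Lrfl
theorem f13561 : Led Lsl_gt (LP (LK LD1_c0 LD2_c45 LD3_c36)) = (LP (LK LD1_c0 LD2_c20 LD3_c20)) :=
  Lre_g IH (LK LD1_c0 LD2_c45 LD3_c36) (LK LD1_c0 LD2_c20 LD3_c20) Lrfl Lrfl
theorem f13562 : Led Lsl_et (LP (LK LD1_c1 LD2_c38 LD3_c27)) = (LP (LK LD1_c0 LD2_c45 LD3_c36)) :=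
  Lre_e IH (LK LD1_c1 LD2_c38 LD3_c27) (LK LD1_c0 LD2_c45 LD3_c36) Lrfl Lrfl
theorem f13558 : Led Lsl_gt (LP (LK LD1_c0 LD2_c19 LD3_c9)) = (LP (LK LD1_c0 LD2_c43 LD3_c0)) :=
  Lre_g IH (LK LD1_c0 LD2_c19 LD3_c9) (LK LD1_c0 LD2_c43 LD3_c0) Lrfl Lrfl
theorem f13563 : Led Lsl_dt (LP (LK LD1_c0 LD2_c43 LD3_c0)) = (LP (LK LD1_c1 LD2_c32 LD3_c59)) :=
  Lre_d IH (LK LD1_c0 LD2_c43 LD3_c0) (LK LD1_c1 LD2_c32 LD3_c59) Lrfl Lrfl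
theorem f13564 : Led Lsl_gt (LP (LK LD1_c1 LD2_c32 LD3_c59)) = (LP (LK LD1_c3 LD2_c13 LD3_c1)) :=
  Lre_g IH (LK LD1_c1 LD2_c32 LD3_c59) (LK LD1_c3 LD2_c13 LD3_c1) Lrfl Lrfl
theorem f13565 : Led Lsl_dt (LP (LK LD1_c1 LD2_c38 LD3_c27)) = (LP (LK LD1_c3 LD2_c13 LD3_c1)) :=
  Lgr Lrot56 (Lpr_et (f13562 IH) (Lpr_gt (f13561 IH) (Lpe (K9.f13560 IH) (Lpr_dt (K1.f3826 IH) (Lpr_gt (K0.f13536 IH) (Lpe (K1.f13556 IH) (Lpr_et (K4.f13557 IH) (Lpr_gt (f13558 IH) (Lpr_dt (f13563 IH) (Lpr_gt (f13564 IH) (Lpn (LP (LK LD1_c3 LD2_c13 LD3_c1)))))))))))))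
theorem f13571 : Led Lsl_et (LP (LK LD1_c0 LD2_c43 LD3_c0)) = (LP (LK LD1_c1 LD2_c32 LD3_c60)) :=
  Lre_e IH (LK LD1_c0 LD2_c43 LD3_c0) (LK LD1_c1 LD2_c32 LD3_c60) Lrfl Lrfl
theorem f13572 : Led Lsl_gt (LP (LK LD1_c3 LD2_c13 LD3_c5)) = (LP (LK LD1_c1 LD2_c32 LD3_c60)) :=
  Lre_g IH (LK LD1_c3 LD2_c13 LD3_c5) (LK LD1_c1 LD2_c32 LD3_c60) Lrfl Lrfl
theorem f79726 : Led Lsl_et (LP (LK LD1_c3 LD2_c6 LD3_c60)) = (LP (LK LD1_c3 LD2_c13 LD3_c5)) :=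
  Lgr Lrot185 (Lpr_dt (f66979 IH) (Lpe (K9.f66976 IH) (Lpr_df (K9.f73734 IH) (Lpe (f13561 IH) (Lpe (f13562 IH) (Lpr_dt (f13565 IH) (Lpe (f13564 IH) (Lpe (f13563 IH) (Lpr_et (f13571 IH) (Lpe (f13572 IH) (Lpn (LP (LK LD1_c3 LD2_c13 LD3_c5)))))))))))))
theorem f67067 : Led Lsl_dt (LP (LK LD1_c0 LD2_c18 LD3_c59)) = (LP (LK LD1_c0 LD2_c42 LD3_c37)) :=
  Lre_d IH (LK LD1_c0 LD2_c18 LD3_c59) (LK LD1_c0 LD2_c42 LD3_c37) Lrfl Lrfl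
theorem f79728 : Led Lsl_dt (LP (LK LD1_c1 LD2_c32 LD3_c60)) = (LP (LK LD1_c1 LD2_c32 LD3_c7)) :=
  Lgr Lrot171 (Lpe (f13572 IH) (Lpe (f79726 IH) (Lpr_dt (f66979 IH) (Lpe (K9.f66976 IH) (Lpr_df (K9.f73734 IH) (Lpr_et (K2.f61834 IH) (Lpr_gf (K1.f61662 IH) (Lpe (K7.f67066 IH) (Lpr_dt (f67067 IH) (Lpe (f69072 IH) (Lpn (LP (LK LD1_c1 LD2_c32 LD3_c7)))))))))))))
theorem f13559 : Led Lsl_et (LP (LK LD1_c1 LD2_c32 LD3_c60)) = (LP (LK LD1_c0 LD2_c43 LD3_c0)) :=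
  Lre_e IH (LK LD1_c1 LD2_c32 LD3_c60) (LK LD1_c0 LD2_c43 LD3_c0) Lrfl Lrfl
theorem f82558 : Led Lsl_et (LP (LK LD1_c1 LD2_c6 LD3_c61)) = (LP (LK LD1_c0 LD2_c30 LD3_c41)) :=
  Lre_e IH (LK LD1_c1 LD2_c6 LD3_c61) (LK LD1_c0 LD2_c30 LD3_c41) Lrfl Lrfl
theorem f82559 : Led Lsl_et (LP (LK LD1_c0 LD2_c30 LD3_c41)) = (LP (LK LD1_c1 LD2_c6 LD3_c61)) :=
  Lre_e IH (LK LD1_c0 LD2_c30 LD3_c41) (LK LD1_c1 LD2_c6 LD3_c61) Lrfl Lrfl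
theorem f82560 : Led Lsl_df (LP (LK LD1_c1 LD2_c6 LD3_c61)) = (LP (LK LD1_c1 LD2_c6 LD3_c61)) :=
  Lgr Lrot70 (Lpr_et (f82558 IH) (Lpr_dt (K2.f26085 IH) (Lpr_et (K3.f82552 IH) (Lpr_dt (K2.f26076 IH) (Lpr_et (f82559 IH) (Lpn (LP (LK LD1_c1 LD2_c6 LD3_c61))))))))
theorem f82564 : Led Lsl_bt (LP (LK LD1_c1 LD2_c6 LD3_c61)) = (LP (LK LD1_c0 LD2_c30 LD3_c42)) :=
  Lre_b IH (LK LD1_c1 LD2_c6 LD3_c61) (LK LD1_c0 LD2_c30 LD3_c42) Lrfl Lrfl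
theorem f82565 : Led Lsl_bt (LP (LK LD1_c0 LD2_c30 LD3_c42)) = (LP (LK LD1_c1 LD2_c6 LD3_c61)) :=
  Lre_b IH (LK LD1_c0 LD2_c30 LD3_c42) (LK LD1_c1 LD2_c6 LD3_c61) Lrfl Lrfl
theorem f82566 : Led Lsl_dt (LP (LK LD1_c0 LD2_c30 LD3_c42)) = (LP (LK LD1_c0 LD2_c30 LD3_c42)) :=
  Lgr Lrot79 (Lpe (f82564 IH) (Lpr_df (f82560 IH) (Lpe (f82565 IH) (Lpn (LP (LK LD1_c0 LD2_c30 LD3_c42))))))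
theorem f452305 : Led Lsl_dt v343 = v343 :=
  Lgr Lrot60 (Lpe (f452298 IH) (Lpe (f82566 IH) (Lpr_ff (f452302 IH) (Lpn v343))))
theorem f452308 : Led Lsl_gt (LP (LK LD1_c0 LD2_c43 LD3_c0)) = v343 :=
  Lgr Lrot137 (Lpe (f13559 IH) (Lpr_dt (f79728 IH) (Lpr_gf (f435285 IH) (Lpe (K7.f150514 IH) (Lpe (K7.f153649 IH) (Lpr_gf (f153578 IH) (Lpe (f82691 IH) (Lpr_dt (f82681 IH) (Lpr_gf (f452307 IH) (Lpe (f452305 IH) (Lpn v343)))))))))))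
theorem f79748 : Led Lsl_dt (LP (LK LD1_c1 LD2_c32 LD3_c59)) = (LP (LK LD1_c0 LD2_c43 LD3_c0)) :=
  Lre_d IH (LK LD1_c1 LD2_c32 LD3_c59) (LK LD1_c0 LD2_c43 LD3_c0) Lrfl Lrfl
theorem f79774 : Led Lsl_gt (LP (LK LD1_c3 LD2_c13 LD3_c2)) = (LP (LK LD1_c1 LD2_c32 LD3_c59)) :=
  Lre_g IH (LK LD1_c3 LD2_c13 LD3_c2) (LK LD1_c1 LD2_c32 LD3_c59) Lrfl Lrfl
theorem f26813 : Led Lsl_gt (LP (LK LD1_c1 LD2_c5 LD3_c5)) = (LP (LK LD1_c2 LD2_c16 LD3_c20)) :=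
  Lre_g IH (LK LD1_c1 LD2_c5 LD3_c5) (LK LD1_c2 LD2_c16 LD3_c20) Lrfl Lrfl
theorem f59499 : Led Lsl_dt (LP (LK LD1_c2 LD2_c16 LD3_c20)) = (LP (LK LD1_c4 LD2_c38 LD3_c39)) :=
  Lre_d IH (LK LD1_c2 LD2_c16 LD3_c20) (LK LD1_c4 LD2_c38 LD3_c39) Lrfl Lrfl
theorem f59500 : Led Lsl_gt (LP (LK LD1_c4 LD2_c38 LD3_c39)) = (LP (LK LD1_c9 LD2_c13 LD3_c8)) :=
  Lre_g IH (LK LD1_c4 LD2_c38 LD3_c39) (LK LD1_c9 LD2_c13 LD3_c8) Lrfl Lrfl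
theorem f198670 : Led Lsl_gt (LP (LK LD1_c2 LD2_c17 LD3_c5)) = (LP (LK LD1_c1 LD2_c5 LD3_c29)) :=
  Lre_g IH (LK LD1_c2 LD2_c17 LD3_c5) (LK LD1_c1 LD2_c5 LD3_c29) Lrfl Lrfl
theorem f445892 : Led Lsl_et (LP (LK LD1_c4 LD2_c40 LD3_c8)) = (LP (LK LD1_c2 LD2_c17 LD3_c5)) :=
  Lre_e IH (LK LD1_c4 LD2_c40 LD3_c8) (LK LD1_c2 LD2_c17 LD3_c5) Lrfl Lrfl
theorem f445893 : Led Lsl_df (LP (LK LD1_c9 LD2_c13 LD3_c8)) = (LP (LK LD1_c4 LD2_c40 LD3_c8)) :=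
  Lgr Lrot132 (Lpe (f59500 IH) (Lpe (f59499 IH) (Lpe (f26813 IH) (Lpe (K8.f26767 IH) (Lpr_dt (K0.f26756 IH) (Lpr_gf (K1.f26017 IH) (Lpe (K0.f22444 IH) (Lpr_et (K0.f27060 IH) (Lpe (f198670 IH) (Lpe (f445892 IH) (Lpn (LP (LK LD1_c4 LD2_c40 LD3_c8)))))))))))))
theorem f445898 : Led Lsl_dt (LP (LK LD1_c9 LD2_c13 LD3_c8)) = (LP (LK LD1_c4 LD2_c40 LD3_c8)) :=
  Lgr Lrot42 (Lpr_df (f445893 IH) (Lpn (LP (LK LD1_c4 LD2_c40 LD3_c8))))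
theorem f149734 : Led Lsl_ct (LP (LK LD1_c4 LD2_c38 LD3_c33)) = (LP (LK LD1_c2 LD2_c16 LD3_c19)) :=
  Lre_c IH (LK LD1_c4 LD2_c38 LD3_c33) (LK LD1_c2 LD2_c16 LD3_c19) Lrfl Lrfl
theorem f150463 : Led Lsl_bt (LP (LK LD1_c2 LD2_c16 LD3_c19)) = (LP (LK LD1_c1 LD2_c5 LD3_c5)) :=
  Lre_b IH (LK LD1_c2 LD2_c16 LD3_c19) (LK LD1_c1 LD2_c5 LD3_c5) Lrfl Lrfl
theorem f150464 : Led Lsl_ct (LP (LK LD1_c1 LD2_c6 LD3_c47)) = (LP (LK LD1_c2 LD2_c19 LD3_c19)) :=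
  Lre_c IH (LK LD1_c1 LD2_c6 LD3_c47) (LK LD1_c2 LD2_c19 LD3_c19) Lrfl Lrfl
theorem f150465 : Led Lsl_bt (LP (LK LD1_c0 LD2_c30 LD3_c35)) = (LP (LK LD1_c1 LD2_c6 LD3_c47)) :=
  Lre_b IH (LK LD1_c0 LD2_c30 LD3_c35) (LK LD1_c1 LD2_c6 LD3_c47) Lrfl Lrfl
theorem f150466 : Led Lsl_ct (LP (LK LD1_c1 LD2_c5 LD3_c5)) = (LP (LK LD1_c0 LD2_c30 LD3_c35)) :=
  Lgr Lrot83 (Lpe (f150463 IH) (Lpe (f149734 IH) (Lpr_bf (f150457 IH) (Lpe (f150464 IH) (Lpe (f150465 IH) (Lpn (LP (LK LD1_c0 LD2_c30 LD3_c35))))))))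
theorem f26310 : Led Lsl_gt (LP (LK LD1_c0 LD2_c30 LD3_c35)) = (LP (LK LD1_c1 LD2_c6 LD3_c51)) :=
  Lre_g IH (LK LD1_c0 LD2_c30 LD3_c35) (LK LD1_c1 LD2_c6 LD3_c51) Lrfl Lrfl
theorem f26311 : Led Lsl_dt (LP (LK LD1_c1 LD2_c6 LD3_c51)) = (LP (LK LD1_c2 LD2_c19 LD3_c28)) :=
  Lre_d IH (LK LD1_c1 LD2_c6 LD3_c51) (LK LD1_c2 LD2_c19 LD3_c28) Lrfl Lrfl
theorem f26312 : Led Lsl_gt (LP (LK LD1_c2 LD2_c19 LD3_c28)) = (LP (LK LD1_c4 LD2_c43 LD3_c27)) :=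
  Lre_g IH (LK LD1_c2 LD2_c19 LD3_c28) (LK LD1_c4 LD2_c43 LD3_c27) Lrfl Lrfl
theorem f59482 : Led Lsl_gt (LP (LK LD1_c1 LD2_c32 LD3_c55)) = (LP (LK LD1_c0 LD2_c42 LD3_c61)) :=
  Lre_g IH (LK LD1_c1 LD2_c32 LD3_c55) (LK LD1_c0 LD2_c42 LD3_c61) Lrfl Lrfl
theorem f59483 : Led Lsl_et (LP (LK LD1_c3 LD2_c12 LD3_c56)) = (LP (LK LD1_c1 LD2_c32 LD3_c55)) :=
  Lre_e IH (LK LD1_c3 LD2_c12 LD3_c56) (LK LD1_c1 LD2_c32 LD3_c55) Lrfl Lrfl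
theorem f59484 : Led Lsl_df (LP (LK LD1_c4 LD2_c43 LD3_c27)) = (LP (LK LD1_c3 LD2_c12 LD3_c56)) :=
  Lgr Lrot132 (Lpe (f26312 IH) (Lpe (f26311 IH) (Lpe (f26310 IH) (Lpe (K7.f26309 IH) (Lpr_dt (K0.f26047 IH) (Lpr_gf (K0.f26263 IH) (Lpr_df (K1.f59460 IH) (Lpr_et (K1.f59481 IH) (Lpe (f59482 IH) (Lpe (f59483 IH) (Lpn (LP (LK LD1_c3 LD2_c12 LD3_c56)))))))))))))
theorem f59491 : Led Lsl_dt (LP (LK LD1_c4 LD2_c43 LD3_c27)) = (LP (LK LD1_c3 LD2_c12 LD3_c56)) :=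
  Lgr Lrot42 (Lpr_df (f59484 IH) (Lpn (LP (LK LD1_c3 LD2_c12 LD3_c56))))
theorem f445904 : Led Lsl_ct (LP (LK LD1_c3 LD2_c12 LD3_c56)) = (LP (LK LD1_c4 LD2_c40 LD3_c8)) :=
  Lgr Lrot7 (Lpe (f59491 IH) (Lpe (f26312 IH) (Lpe (f26311 IH) (Lpe (f26310 IH) (Lpe (f150466 IH) (Lpr_gt (f26813 IH) (Lpr_dt (f59499 IH) (Lpr_gt (f59500 IH) (Lpr_dt (f445898 IH) (Lpn (LP (LK LD1_c4 LD2_c40 LD3_c8))))))))))))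
theorem f20226 : Led Lsl_ct (LP (LK LD1_c2 LD2_c12 LD3_c59)) = (LP (LK LD1_c1 LD2_c3 LD3_c32)) :=
  Lre_c IH (LK LD1_c2 LD2_c12 LD3_c59) (LK LD1_c1 LD2_c3 LD3_c32) Lrfl Lrfl
theorem f176893 : Led Lsl_et (LP (LK LD1_c1 LD2_c21 LD3_c31)) = (LP (LK LD1_c2 LD2_c12 LD3_c59)) :=
  Lgr Lrot158 (Lpe (f176879 IH) (Lpr_ef (K9.f176890 IH) (Lpe (f20226 IH) (Lpn (LP (LK LD1_c2 LD2_c12 LD3_c59))))))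
theorem f26930 : Led Lsl_et (LP (LK LD1_c0 LD2_c30 LD3_c26)) = (LP (LK LD1_c0 LD2_c13 LD3_c31)) :=
  Lre_e IH (LK LD1_c0 LD2_c30 LD3_c26) (LK LD1_c0 LD2_c13 LD3_c31) Lrfl Lrfl
theorem f26975 : Led Lsl_dt (LP (LK LD1_c0 LD2_c30 LD3_c26)) = (LP (LK LD1_c1 LD2_c6 LD3_c33)) :=
  Lre_d IH (LK LD1_c0 LD2_c30 LD3_c26) (LK LD1_c1 LD2_c6 LD3_c33) Lrfl Lrfl
theorem f26976 : Led Lsl_gt (LP (LK LD1_c1 LD2_c6 LD3_c33)) = (LP (LK LD1_c2 LD2_c19 LD3_c0)) :=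
  Lre_g IH (LK LD1_c1 LD2_c6 LD3_c33) (LK LD1_c2 LD2_c19 LD3_c0) Lrfl Lrfl
theorem f177073 : Led Lsl_dt (LP (LK LD1_c1 LD2_c21 LD3_c31)) = (LP (LK LD1_c2 LD2_c19 LD3_c0)) :=
  Lgr Lrot37 (Lpr_et (f176893 IH) (Lpr_gt (K10.f26947 IH) (Lpr_dt (K10.f23962 IH) (Lpe (K10.f26942 IH) (Lpe (K9.f9527 IH) (Lpr_et (K10.f26769 IH) (Lpe (K0.f26936 IH) (Lpe (f26930 IH) (Lpr_dt (f26975 IH) (Lpr_gt (f26976 IH) (Lpn (LP (LK LD1_c2 LD2_c19 LD3_c0)))))))))))))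
theorem f177076 : Led Lsl_df (LP (LK LD1_c1 LD2_c21 LD3_c31)) = (LP (LK LD1_c2 LD2_c19 LD3_c0)) :=
  Lgr Lrot38 (Lpr_dt (f177073 IH) (Lpn (LP (LK LD1_c2 LD2_c19 LD3_c0))))
theorem f26931 : Led Lsl_dt (LP (LK LD1_c1 LD2_c6 LD3_c33)) = (LP (LK LD1_c0 LD2_c30 LD3_c26)) :=
  Lre_d IH (LK LD1_c1 LD2_c6 LD3_c33) (LK LD1_c0 LD2_c30 LD3_c26) Lrfl Lrfl
theorem f26934 : Led Lsl_ef (LP (LK LD1_c1 LD2_c6 LD3_c33)) = (LP (LK LD1_c2 LD2_c16 LD3_c29)) :=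
  Lgr Lrot73 (Lpr_dt (f26931 IH) (Lpr_et (f26930 IH) (Lpr_dt (K0.f26772 IH) (Lpr_et (K8.f26932 IH) (Lpr_dt (f26933 IH) (Lpn (LP (LK LD1_c2 LD2_c16 LD3_c29))))))))
theorem f61080 : Led Lsl_dt (LP (LK LD1_c2 LD2_c16 LD3_c29)) = (LP (LK LD1_c1 LD2_c5 LD3_c7)) :=
  Lre_d IH (LK LD1_c2 LD2_c16 LD3_c29) (LK LD1_c1 LD2_c5 LD3_c7) Lrfl Lrfl
theorem f27064 : Led Lsl_gt (LP (LK LD1_c2 LD2_c16 LD3_c28)) = (LP (LK LD1_c1 LD2_c5 LD3_c7)) :=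
  Lre_g IH (LK LD1_c2 LD2_c16 LD3_c28) (LK LD1_c1 LD2_c5 LD3_c7) Lrfl Lrfl
theorem f27088 : Led Lsl_dt (LP (LK LD1_c4 LD2_c38 LD3_c55)) = (LP (LK LD1_c2 LD2_c16 LD3_c28)) :=
  Lre_d IH (LK LD1_c4 LD2_c38 LD3_c55) (LK LD1_c2 LD2_c16 LD3_c28) Lrfl Lrfl
theorem f177088 : Led Lsl_et (LP (LK LD1_c4 LD2_c38 LD3_c55)) = (LP (LK LD1_c9 LD2_c13 LD3_c37)) :=
  Lre_e IH (LK LD1_c4 LD2_c38 LD3_c55) (LK LD1_c9 LD2_c13 LD3_c37) Lrfl Lrfl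
theorem f198627 : Led Lsl_et (LP (LK LD1_c2 LD2_c51 LD3_c33)) = (LP (LK LD1_c5 LD2_c50 LD3_c44)) :=
  Lre_e IH (LK LD1_c2 LD2_c51 LD3_c33) (LK LD1_c5 LD2_c50 LD3_c44) Lrfl Lrfl
theorem f420998 : Led Lsl_gf (LP (LK LD1_c9 LD2_c13 LD3_c37)) = (LP (LK LD1_c5 LD2_c50 LD3_c44)) :=
  Lgr Lrot141 (Lpe (f177088 IH) (Lpr_dt (f27088 IH) (Lpr_gt (f27064 IH) (Lpe (f61080 IH) (Lpe (f26934 IH) (Lpr_gt (f26976 IH) (Lpe (f177076 IH) (Lpr_gt (f198630 IH) (Lpe (f198625 IH) (Lpr_et (f198627 IH) (Lpn (LP (LK LD1_c5 LD2_c50 LD3_c44)))))))))))))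
theorem f27081 : Led Lsl_dt (LP (LK LD1_c17 LD2_c7 LD3_c59)) = (LP (LK LD1_c9 LD2_c13 LD3_c37)) :=
  Lre_d IH (LK LD1_c17 LD2_c7 LD3_c59) (LK LD1_c9 LD2_c13 LD3_c37) Lrfl Lrfl
theorem f27080 : Led Lsl_et (LP (LK LD1_c17 LD2_c7 LD3_c59)) = (LP (LK LD1_c9 LD2_c13 LD3_c38)) :=
  Lre_e IH (LK LD1_c17 LD2_c7 LD3_c59) (LK LD1_c9 LD2_c13 LD3_c38) Lrfl Lrfl
theorem f169065 : Led Lsl_dt (LP (LK LD1_c1 LD2_c13 LD3_c8)) = (LP (LK LD1_c0 LD2_c33 LD3_c55)) :=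
  Lre_d IH (LK LD1_c1 LD2_c13 LD3_c8) (LK LD1_c0 LD2_c33 LD3_c55) Lrfl Lrfl
theorem f204874 : Led Lsl_ct (LP (LK LD1_c0 LD2_c32 LD3_c6)) = (LP (LK LD1_c0 LD2_c33 LD3_c55)) :=
  Lgr Lrot7 (Lpr_df (f204868 IH) (Lpe (f168999 IH) (Lpe (K9.f168998 IH) (Lpe (K9.f47067 IH) (Lpe (K1.f47049 IH) (Lpr_gt (K9.f168994 IH) (Lpr_dt (K9.f168881 IH) (Lpe (f169006 IH) (Lpr_dt (f169065 IH) (Lpn (LP (LK LD1_c0 LD2_c33 LD3_c55))))))))))))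
theorem f204876 : Led Lsl_bt (LP (LK LD1_c0 LD2_c33 LD3_c55)) = (LP (LK LD1_c1 LD2_c13 LD3_c5)) :=
  Lre_b IH (LK LD1_c0 LD2_c33 LD3_c55) (LK LD1_c1 LD2_c13 LD3_c5) Lrfl Lrfl
theorem f189565 : Led Lsl_ct (LP (LK LD1_c1 LD2_c13 LD3_c5)) = (LP (LK LD1_c1 LD2_c12 LD3_c12)) :=
  Lgr Lrot7 (Lpe (K10.f189564 IH) (Lpr_gf (K10.f189561 IH) (Lpe (K10.f182211 IH) (Lpe (K9.f54529 IH) (Lpe (K9.f183845 IH) (Lpr_gt (K1.f41756 IH) (Lpr_dt (K10.f41785 IH) (Lpe (K10.f184633 IH) (Lpr_dt (K10.f184635 IH) (Lpn (LP (LK LD1_c1 LD2_c12 LD3_c12))))))))))))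
theorem f189571 : Led Lsl_bt (LP (LK LD1_c1 LD2_c12 LD3_c12)) = (LP (LK LD1_c0 LD2_c33 LD3_c26)) :=
  Lre_b IH (LK LD1_c1 LD2_c12 LD3_c12) (LK LD1_c0 LD2_c33 LD3_c26) Lrfl Lrfl
theorem f204878 : Led Lsl_bf (LP (LK LD1_c0 LD2_c32 LD3_c6)) = (LP (LK LD1_c0 LD2_c15 LD3_c1)) :=
  Lgr Lrot90 (Lpr_ct (f204874 IH) (Lpr_bt (f204876 IH) (Lpr_ct (f189565 IH) (Lpr_bt (f189571 IH) (Lpr_ct (f166129 IH) (Lpn (LP (LK LD1_c0 LD2_c15 LD3_c1))))))))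
theorem f22135 : Led Lsl_et (LP (LK LD1_c0 LD2_c6 LD3_c52)) = (LP (LK LD1_c0 LD2_c15 LD3_c1)) :=
  Lre_e IH (LK LD1_c0 LD2_c6 LD3_c52) (LK LD1_c0 LD2_c15 LD3_c1) Lrfl Lrfl
theorem f204882 : Led Lsl_bt (LP (LK LD1_c0 LD2_c14 LD3_c20)) = (LP (LK LD1_c0 LD2_c6 LD3_c52)) :=
  Lgr Lrot119 (Lpe (f31696 IH) (Lpr_bf (f204878 IH) (Lpe (f22135 IH) (Lpn (LP (LK LD1_c0 LD2_c6 LD3_c52))))))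
theorem f204885 : Led Lsl_bf (LP (LK LD1_c0 LD2_c32 LD3_c5)) = (LP (LK LD1_c0 LD2_c15 LD3_c0)) :=
  Lgr Lrot93 (Lpr_dt (K9.f31695 IH) (Lpr_bt (f204882 IH) (Lpr_dt (K9.f22126 IH) (Lpn (LP (LK LD1_c0 LD2_c15 LD3_c0))))))
theorem f204893 : Led Lsl_bt (LP (LK LD1_c0 LD2_c18 LD3_c51)) = (LP (LK LD1_c0 LD2_c16 LD3_c54)) :=
  Lgr Lrot119 (Lpe (f204872 IH) (Lpr_bf (f204885 IH) (Lpe (K9.f22129 IH) (Lpn (LP (LK LD1_c0 LD2_c16 LD3_c54))))))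
theorem f68658 : Led Lsl_ct (LP (LK LD1_c0 LD2_c42 LD3_c12)) = (LP (LK LD1_c0 LD2_c18 LD3_c51)) :=
  Lre_c IH (LK LD1_c0 LD2_c42 LD3_c12) (LK LD1_c0 LD2_c18 LD3_c51) Lrfl Lrfl
theorem f205095 : Led Lsl_bt (LP (LK LD1_c1 LD2_c31 LD3_c25)) = (LP (LK LD1_c0 LD2_c42 LD3_c12)) :=
  Lre_b IH (LK LD1_c1 LD2_c31 LD3_c25) (LK LD1_c0 LD2_c42 LD3_c12) Lrfl Lrfl
theorem f22137 : Led Lsl_bt (LP (LK LD1_c0 LD2_c37 LD3_c51)) = (LP (LK LD1_c1 LD2_c21 LD3_c49)) :=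
  Lre_b IH (LK LD1_c0 LD2_c37 LD3_c51) (LK LD1_c1 LD2_c21 LD3_c49) Lrfl Lrfl
theorem f205096 : Led Lsl_cf (LP (LK LD1_c1 LD2_c31 LD3_c25)) = (LP (LK LD1_c1 LD2_c21 LD3_c49)) :=
  Lgr Lrot97 (Lpr_bt (f205095 IH) (Lpr_ct (f68658 IH) (Lpr_bt (f204893 IH) (Lpr_ct (f22122 IH) (Lpr_bt (f22137 IH) (Lpn (LP (LK LD1_c1 LD2_c21 LD3_c49))))))))
theorem f22133 : Led Lsl_ef (LP (LK LD1_c0 LD2_c37 LD3_c51)) = (LP (LK LD1_c0 LD2_c33 LD3_c27)) :=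
  Lgr Lrot28 (Lpr_ct (f22131 IH) (Lpr_et (K9.f22129 IH) (Lpr_ct (K9.f22132 IH) (Lpn (LP (LK LD1_c0 LD2_c33 LD3_c27))))))
theorem f22142 : Led Lsl_et (LP (LK LD1_c1 LD2_c21 LD3_c50)) = (LP (LK LD1_c2 LD2_c51 LD3_c35)) :=
  Lre_e IH (LK LD1_c1 LD2_c21 LD3_c50) (LK LD1_c2 LD2_c51 LD3_c35) Lrfl Lrfl
theorem f22144 : Led Lsl_et (LP (LK LD1_c2 LD2_c30 LD3_c35)) = (LP (LK LD1_c1 LD2_c12 LD3_c17)) :=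
  Lre_e IH (LK LD1_c2 LD2_c30 LD3_c35) (LK LD1_c1 LD2_c12 LD3_c17) Lrfl Lrfl
theorem f22145 : Led Lsl_dt (LP (LK LD1_c2 LD2_c51 LD3_c35)) = (LP (LK LD1_c2 LD2_c30 LD3_c35)) :=
  Lgr Lrot77 (Lpe (f22142 IH) (Lpe (f22141 IH) (Lpr_ef (f22133 IH) (Lpe (K9.f22143 IH) (Lpe (f22144 IH) (Lpn (LP (LK LD1_c2 LD2_c30 LD3_c35))))))))
theorem f22152 : Led Lsl_df (LP (LK LD1_c2 LD2_c51 LD3_c35)) = (LP (LK LD1_c2 LD2_c30 LD3_c35)) :=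
  Lgr Lrot38 (Lpr_dt (f22145 IH) (Lpn (LP (LK LD1_c2 LD2_c30 LD3_c35))))
theorem f22177 : Led Lsl_bt (LP (LK LD1_c2 LD2_c51 LD3_c35)) = (LP (LK LD1_c5 LD2_c50 LD3_c41)) :=
  Lre_b IH (LK LD1_c2 LD2_c51 LD3_c35) (LK LD1_c5 LD2_c50 LD3_c41) Lrfl Lrfl
theorem f22178 : Led Lsl_bt (LP (LK LD1_c5 LD2_c6 LD3_c35)) = (LP (LK LD1_c2 LD2_c30 LD3_c35)) :=
  Lre_b IH (LK LD1_c5 LD2_c6 LD3_c35) (LK LD1_c2 LD2_c30 LD3_c35) Lrfl Lrfl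
theorem f22179 : Led Lsl_dt (LP (LK LD1_c5 LD2_c50 LD3_c41)) = (LP (LK LD1_c5 LD2_c6 LD3_c35)) :=
  Lgr Lrot79 (Lpe (f22177 IH) (Lpr_df (f22152 IH) (Lpe (f22178 IH) (Lpn (LP (LK LD1_c5 LD2_c6 LD3_c35))))))
theorem f22187 : Led Lsl_et (LP (LK LD1_c2 LD2_c51 LD3_c31)) = (LP (LK LD1_c5 LD2_c50 LD3_c41)) :=
  Lre_e IH (LK LD1_c2 LD2_c51 LD3_c31) (LK LD1_c5 LD2_c50 LD3_c41) Lrfl Lrfl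
theorem f22188 : Led Lsl_dt (LP (LK LD1_c1 LD2_c21 LD3_c49)) = (LP (LK LD1_c2 LD2_c51 LD3_c31)) :=
  Lre_d IH (LK LD1_c1 LD2_c21 LD3_c49) (LK LD1_c2 LD2_c51 LD3_c31) Lrfl Lrfl
theorem f22189 : Led Lsl_et (LP (LK LD1_c5 LD2_c6 LD3_c35)) = (LP (LK LD1_c2 LD2_c30 LD3_c34)) :=
  Lre_e IH (LK LD1_c5 LD2_c6 LD3_c35) (LK LD1_c2 LD2_c30 LD3_c34) Lrfl Lrfl
theorem f22190 : Led Lsl_dt (LP (LK LD1_c2 LD2_c30 LD3_c34)) = (LP (LK LD1_c1 LD2_c12 LD3_c16)) :=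
  Lre_d IH (LK LD1_c2 LD2_c30 LD3_c34) (LK LD1_c1 LD2_c12 LD3_c16) Lrfl Lrfl
theorem f22191 : Led Lsl_ef (LP (LK LD1_c1 LD2_c21 LD3_c49)) = (LP (LK LD1_c1 LD2_c12 LD3_c16)) :=
  Lgr Lrot73 (Lpr_dt (f22188 IH) (Lpr_et (f22187 IH) (Lpr_dt (f22179 IH) (Lpr_et (f22189 IH) (Lpr_dt (f22190 IH) (Lpn (LP (LK LD1_c1 LD2_c12 LD3_c16))))))))
theorem f31694 : Led Lsl_bt (LP (LK LD1_c1 LD2_c9 LD3_c37)) = (LP (LK LD1_c2 LD2_c24 LD3_c48)) :=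
  Lre_b IH (LK LD1_c1 LD2_c9 LD3_c37) (LK LD1_c2 LD2_c24 LD3_c48) Lrfl Lrfl
theorem f22138 : Led Lsl_bt (LP (LK LD1_c1 LD2_c12 LD3_c16)) = (LP (LK LD1_c0 LD2_c33 LD3_c27)) :=
  Lre_b IH (LK LD1_c1 LD2_c12 LD3_c16) (LK LD1_c0 LD2_c33 LD3_c27) Lrfl Lrfl
theorem f204891 : Led Lsl_ct (LP (LK LD1_c2 LD2_c24 LD3_c48)) = (LP (LK LD1_c1 LD2_c12 LD3_c16)) :=
  Lgr Lrot83 (Lpe (f31694 IH) (Lpe (K10.f31693 IH) (Lpr_bf (f204885 IH) (Lpe (K9.f22123 IH) (Lpe (f22138 IH) (Lpn (LP (LK LD1_c1 LD2_c12 LD3_c16))))))))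
theorem f205121 : Led Lsl_et (LP (LK LD1_c1 LD2_c31 LD3_c25)) = (LP (LK LD1_c2 LD2_c24 LD3_c48)) :=
  Lgr Lrot158 (Lpr_cf (f205096 IH) (Lpr_ef (f22191 IH) (Lpe (f204891 IH) (Lpn (LP (LK LD1_c2 LD2_c24 LD3_c48))))))
theorem f68659 : Led Lsl_bt (LP (LK LD1_c0 LD2_c42 LD3_c12)) = (LP (LK LD1_c1 LD2_c31 LD3_c25)) :=
  Lre_b IH (LK LD1_c0 LD2_c42 LD3_c12) (LK LD1_c1 LD2_c31 LD3_c25) Lrfl Lrfl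
theorem f180682 : Led Lsl_bt (LP (LK LD1_c2 LD2_c24 LD3_c48)) = (LP (LK LD1_c1 LD2_c9 LD3_c37)) :=
  Lre_b IH (LK LD1_c2 LD2_c24 LD3_c48) (LK LD1_c1 LD2_c9 LD3_c37) Lrfl Lrfl
theorem f205126 : Led Lsl_ef (LP (LK LD1_c0 LD2_c42 LD3_c12)) = (LP (LK LD1_c1 LD2_c9 LD3_c37)) :=
  Lgr Lrot29 (Lpr_bt (f68659 IH) (Lpr_et (f205121 IH) (Lpr_bt (f180682 IH) (Lpn (LP (LK LD1_c1 LD2_c9 LD3_c37))))))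
theorem f205143 : Led Lsl_et (LP (LK LD1_c0 LD2_c18 LD3_c51)) = (LP (LK LD1_c0 LD2_c32 LD3_c5)) :=
  Lgr Lrot158 (Lpe (f68658 IH) (Lpr_ef (f205126 IH) (Lpe (K10.f31693 IH) (Lpn (LP (LK LD1_c0 LD2_c32 LD3_c5))))))
theorem f205154 : Led Lsl_gf (LP (LK LD1_c0 LD2_c42 LD3_c13)) = (LP (LK LD1_c0 LD2_c32 LD3_c41)) :=
  Lgr Lrot134 (Lpe (f25943 IH) (Lpr_et (f205143 IH) (Lpe (K10.f180533 IH) (Lpr_ef (K10.f180264 IH) (Lpe (K9.f161776 IH) (Lpr_gt (K10.f161782 IH) (Lpe (K10.f186464 IH) (Lpr_et (K10.f186463 IH) (Lpr_gt (K10.f186460 IH) (Lpe (f186458 IH) (Lpn (LP (LK LD1_c0 LD2_c32 LD3_c41)))))))))))))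
theorem f25944 : Led Lsl_ct (LP (LK LD1_c0 LD2_c42 LD3_c13)) = (LP (LK LD1_c1 LD2_c31 LD3_c27)) :=
  Lre_c IH (LK LD1_c0 LD2_c42 LD3_c13) (LK LD1_c1 LD2_c31 LD3_c27) Lrfl Lrfl
theorem f25946 : Led Lsl_ct (LP (LK LD1_c1 LD2_c31 LD3_c27)) = (LP (LK LD1_c0 LD2_c42 LD3_c13)) :=
  Lre_c IH (LK LD1_c1 LD2_c31 LD3_c27) (LK LD1_c0 LD2_c42 LD3_c13) Lrfl Lrfl
theorem f73198 : Led Lsl_gt (LP (LK LD1_c0 LD2_c37 LD3_c33)) = (LP (LK LD1_c1 LD2_c21 LD3_c23)) :=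
  Lre_g IH (LK LD1_c0 LD2_c37 LD3_c33) (LK LD1_c1 LD2_c21 LD3_c23) Lrfl Lrfl
theorem f176638 : Led Lsl_df (LP (LK LD1_c1 LD2_c31 LD3_c27)) = (LP (LK LD1_c1 LD2_c21 LD3_c23)) :=
  Lgr Lrot174 (Lpr_ct (f25946 IH) (Lpe (f25943 IH) (Lpe (f25942 IH) (Lpr_df (K1.f25919 IH) (Lpe (K10.f25940 IH) (Lpr_ct (f176625 IH) (Lpr_gt (K10.f56687 IH) (Lpr_dt (K6.f61293 IH) (Lpr_gt (f73198 IH) (Lpn (LP (LK LD1_c1 LD2_c21 LD3_c23))))))))))))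
theorem f176647 : Led Lsl_dt (LP (LK LD1_c1 LD2_c31 LD3_c27)) = (LP (LK LD1_c1 LD2_c21 LD3_c23)) :=
  Lgr Lrot42 (Lpr_df (f176638 IH) (Lpn (LP (LK LD1_c1 LD2_c21 LD3_c23))))
theorem f176646 : Led Lsl_ct (LP (LK LD1_c2 LD2_c50 LD3_c47)) = (LP (LK LD1_c1 LD2_c21 LD3_c23)) :=
  Lre_c IH (LK LD1_c2 LD2_c50 LD3_c47) (LK LD1_c1 LD2_c21 LD3_c23) Lrfl Lrfl
theorem f172421 : Led Lsl_et (LP (LK LD1_c0 LD2_c14 LD3_c40)) = (LP (LK LD1_c0 LD2_c32 LD3_c41)) :=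
  Lre_e IH (LK LD1_c0 LD2_c14 LD3_c40) (LK LD1_c0 LD2_c32 LD3_c41) Lrfl Lrfl
theorem f172422 : Led Lsl_et (LP (LK LD1_c0 LD2_c37 LD3_c2)) = (LP (LK LD1_c0 LD2_c16 LD3_c31)) :=
  Lre_e IH (LK LD1_c0 LD2_c37 LD3_c2) (LK LD1_c0 LD2_c16 LD3_c31) Lrfl Lrfl
theorem f172423 : Led Lsl_ct (LP (LK LD1_c0 LD2_c32 LD3_c41)) = (LP (LK LD1_c0 LD2_c37 LD3_c2)) :=
  Lgr Lrot15 (Lpe (f172421 IH) (Lpr_cf (K9.f172410 IH) (Lpe (f172422 IH) (Lpn (LP (LK LD1_c0 LD2_c37 LD3_c2))))))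
theorem f172699 : Led Lsl_cf (LP (LK LD1_c0 LD2_c32 LD3_c41)) = (LP (LK LD1_c0 LD2_c37 LD3_c2)) :=
  Lgr Lrot11 (Lpr_ct (f172423 IH) (Lpn (LP (LK LD1_c0 LD2_c37 LD3_c2))))
theorem f146311 : Led Lsl_gt (LP (LK LD1_c0 LD2_c16 LD3_c54)) = (LP (LK LD1_c0 LD2_c29 LD3_c23)) :=
  Lgr Lrot46 (Lpe (K9.f22118 IH) (Lpr_ft (K6.f146284 IH) (Lpr_at (K6.f146302 IH) (Lpn (LP (LK LD1_c0 LD2_c29 LD3_c23))))))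
theorem f22385 : Led Lsl_et (LP (LK LD1_c0 LD2_c33 LD3_c31)) = (LP (LK LD1_c0 LD2_c15 LD3_c2)) :=
  Lre_e IH (LK LD1_c0 LD2_c33 LD3_c31) (LK LD1_c0 LD2_c15 LD3_c2) Lrfl Lrfl
theorem f146304 : Led Lsl_gf (LP (LK LD1_c0 LD2_c16 LD3_c55)) = (LP (LK LD1_c0 LD2_c29 LD3_c23)) :=
  Lgr Lrot47 (Lpr_gt (f60174 IH) (Lpr_af (K6.f146294 IH) (Lpe (K6.f146301 IH) (Lpn (LP (LK LD1_c0 LD2_c29 LD3_c23))))))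
theorem f177101 : Led Lsl_dt (LP (LK LD1_c0 LD2_c33 LD3_c31)) = (LP (LK LD1_c0 LD2_c16 LD3_c55)) :=
  Lgr Lrot37 (Lpr_et (f22385 IH) (Lpr_gt (K9.f165471 IH) (Lpr_dt (K8.f163679 IH) (Lpe (K9.f163677 IH) (Lpe (K9.f22119 IH) (Lpe (K9.f22120 IH) (Lpr_gt (f146311 IH) (Lpr_ef (K6.f146358 IH) (Lpr_dt (K9.f176876 IH) (Lpe (f146304 IH) (Lpn (LP (LK LD1_c0 LD2_c16 LD3_c55)))))))))))))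
theorem f177107 : Led Lsl_df (LP (LK LD1_c0 LD2_c33 LD3_c31)) = (LP (LK LD1_c0 LD2_c16 LD3_c55)) :=
  Lgr Lrot38 (Lpr_dt (f177101 IH) (Lpn (LP (LK LD1_c0 LD2_c16 LD3_c55))))
theorem f176915 : Led Lsl_ef (LP (LK LD1_c0 LD2_c29 LD3_c52)) = (LP (LK LD1_c0 LD2_c36 LD3_c57)) :=
  Lgr Lrot17 (Lpe (K9.f164686 IH) (Lpe (K9.f20701 IH) (Lpr_dt (K9.f20679 IH) (Lpe (K9.f164685 IH) (Lpe (K9.f164679 IH) (Lpr_gf (K9.f165845 IH) (Lpe (K9.f22129 IH) (Lpr_dt (K9.f176905 IH) (Lpe (K9.f176832 IH) (Lpe (K9.f9496 IH) (Lpn (LP (LK LD1_c0 LD2_c36 LD3_c57)))))))))))))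
theorem f177114 : Led Lsl_gt (LP (LK LD1_c0 LD2_c33 LD3_c31)) = (LP (LK LD1_c0 LD2_c16 LD3_c29)) :=
  Lgr Lrot139 (Lpr_df (f177107 IH) (Lpr_gf (f146304 IH) (Lpr_ef (K6.f146358 IH) (Lpr_dt (K9.f176876 IH) (Lpe (f146311 IH) (Lpr_df (K9.f176907 IH) (Lpe (K9.f176909 IH) (Lpe (K9.f166126 IH) (Lpr_ef (f176915 IH) (Lpr_dt (K9.f9496 IH) (Lpn (LP (LK LD1_c0 LD2_c16 LD3_c29)))))))))))))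
theorem f166388 : Led Lsl_ct (LP (LK LD1_c0 LD2_c33 LD3_c31)) = (LP (LK LD1_c1 LD2_c12 LD3_c23)) :=
  Lre_c IH (LK LD1_c0 LD2_c33 LD3_c31) (LK LD1_c1 LD2_c12 LD3_c23) Lrfl Lrfl
theorem f146337 : Led Lsl_ct (LP (LK LD1_c0 LD2_c37 LD3_c38)) = (LP (LK LD1_c0 LD2_c16 LD3_c45)) :=
  Lre_c IH (LK LD1_c0 LD2_c37 LD3_c38) (LK LD1_c0 LD2_c16 LD3_c45) Lrfl Lrfl
theorem f146334 : Led Lsl_dt (LP (LK LD1_c1 LD2_c21 LD3_c33)) = (LP (LK LD1_c0 LD2_c37 LD3_c38)) :=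
  Lre_d IH (LK LD1_c1 LD2_c21 LD3_c33) (LK LD1_c0 LD2_c37 LD3_c38) Lrfl Lrfl
theorem f176850 : Led Lsl_et (LP (LK LD1_c0 LD2_c37 LD3_c38)) = (LP (LK LD1_c1 LD2_c21 LD3_c34)) :=
  Lre_e IH (LK LD1_c0 LD2_c37 LD3_c38) (LK LD1_c1 LD2_c21 LD3_c34) Lrfl Lrfl
theorem f146336 : Led Lsl_dt (LP (LK LD1_c0 LD2_c37 LD3_c38)) = (LP (LK LD1_c1 LD2_c21 LD3_c33)) :=
  Lre_d IH (LK LD1_c0 LD2_c37 LD3_c38) (LK LD1_c1 LD2_c21 LD3_c33) Lrfl Lrfl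
theorem f172678 : Led Lsl_dt (LP (LK LD1_c0 LD2_c37 LD3_c2)) = (LP (LK LD1_c1 LD2_c20 LD3_c4)) :=
  Lre_d IH (LK LD1_c0 LD2_c37 LD3_c2) (LK LD1_c1 LD2_c20 LD3_c4) Lrfl Lrfl
theorem f176851 : Led Lsl_gf (LP (LK LD1_c1 LD2_c21 LD3_c33)) = (LP (LK LD1_c1 LD2_c20 LD3_c4)) :=
  Lgr Lrot145 (Lpe (f146336 IH) (Lpr_et (f176850 IH) (Lpr_gt (f176839 IH) (Lpe (K10.f175693 IH) (Lpr_gt (K10.f9427 IH) (Lpe (K0.f9363 IH) (Lpr_et (K10.f68911 IH) (Lpr_gt (K9.f172409 IH) (Lpe (f172422 IH) (Lpr_dt (f172678 IH) (Lpn (LP (LK LD1_c1 LD2_c20 LD3_c4)))))))))))))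
theorem f177116 : Led Lsl_gt (LP (LK LD1_c1 LD2_c12 LD3_c23)) = (LP (LK LD1_c0 LD2_c37 LD3_c2)) :=
  Lgr Lrot94 (Lpe (f166388 IH) (Lpr_gt (f177114 IH) (Lpr_dt (K10.f9461 IH) (Lpe (K9.f176829 IH) (Lpr_dt (K9.f146339 IH) (Lpe (f146337 IH) (Lpe (f146334 IH) (Lpr_gf (f176851 IH) (Lpe (f172678 IH) (Lpn (LP (LK LD1_c0 LD2_c37 LD3_c2))))))))))))
theorem f166383 : Led Lsl_et (LP (LK LD1_c1 LD2_c12 LD3_c23)) = (LP (LK LD1_c0 LD2_c33 LD3_c30)) :=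
  Lre_e IH (LK LD1_c1 LD2_c12 LD3_c23) (LK LD1_c0 LD2_c33 LD3_c30) Lrfl Lrfl
theorem f25988 : Led Lsl_gt (LP (LK LD1_c2 LD2_c17 LD3_c52)) = (LP (LK LD1_c1 LD2_c5 LD3_c51)) :=
  Lre_g IH (LK LD1_c2 LD2_c17 LD3_c52) (LK LD1_c1 LD2_c5 LD3_c51) Lrfl Lrfl
theorem f166384 : Led Lsl_dt (LP (LK LD1_c1 LD2_c12 LD3_c23)) = (LP (LK LD1_c2 LD2_c17 LD3_c52)) :=
  Lgr Lrot136 (Lpr_et (f166383 IH) (Lpr_gf (K9.f166367 IH) (Lpe (K9.f22475 IH) (Lpr_dt (K0.f8328 IH) (Lpe (K0.f22451 IH) (Lpe (K0.f22833 IH) (Lpr_gf (K0.f26754 IH) (Lpe (K8.f26766 IH) (Lpr_dt (f25981 IH) (Lpe (f25988 IH) (Lpn (LP (LK LD1_c2 LD2_c17 LD3_c52)))))))))))))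
theorem f166389 : Led Lsl_df (LP (LK LD1_c1 LD2_c12 LD3_c23)) = (LP (LK LD1_c2 LD2_c17 LD3_c52)) :=
  Lgr Lrot38 (Lpr_dt (f166384 IH) (Lpn (LP (LK LD1_c2 LD2_c17 LD3_c52))))
theorem f205158 : Led Lsl_gf (LP (LK LD1_c2 LD2_c50 LD3_c47)) = (LP (LK LD1_c2 LD2_c17 LD3_c53)) :=
  Lgr Lrot104 (Lpr_ct (f176646 IH) (Lpe (f176647 IH) (Lpe (f25944 IH) (Lpr_gf (f205154 IH) (Lpr_cf (f172699 IH) (Lpe (f177116 IH) (Lpr_df (f166389 IH) (Lpr_gt (f25988 IH) (Lpr_ct (f25982 IH) (Lpn (LP (LK LD1_c2 LD2_c17 LD3_c53))))))))))))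
theorem f204360 : Led Lsl_ft (LP (LK LD1_c2 LD2_c17 LD3_c53)) = (LP (LK LD1_c4 LD2_c41 LD3_c37)) :=
  Lre_f IH (LK LD1_c2 LD2_c17 LD3_c53) (LK LD1_c4 LD2_c41 LD3_c37) Lrfl Lrfl
theorem f59053 : Led Lsl_ct (LP (LK LD1_c1 LD2_c28 LD3_c47)) = (LP (LK LD1_c3 LD2_c5 LD3_c34)) :=
  Lre_c IH (LK LD1_c1 LD2_c28 LD3_c47) (LK LD1_c3 LD2_c5 LD3_c34) Lrfl Lrfl
theorem f204361 : Led Lsl_at (LP (LK LD1_c4 LD2_c41 LD3_c37)) = (LP (LK LD1_c3 LD2_c5 LD3_c34)) :=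
  Lgr Lrot33 (Lpe (f204360 IH) (Lpr_dt (f25983 IH) (Lpr_ct (f204349 IH) (Lpr_dt (f59044 IH) (Lpr_ct (f59045 IH) (Lpr_dt (f59040 IH) (Lpr_ct (f59051 IH) (Lpr_dt (f59052 IH) (Lpr_ct (f59053 IH) (Lpn (LP (LK LD1_c3 LD2_c5 LD3_c34))))))))))))
theorem f205161 : Led Lsl_gt (LP (LK LD1_c2 LD2_c50 LD3_c47)) = (LP (LK LD1_c3 LD2_c5 LD3_c34)) :=
  Lgr Lrot46 (Lpr_gf (f205158 IH) (Lpr_ft (f204360 IH) (Lpr_at (f204361 IH) (Lpn (LP (LK LD1_c3 LD2_c5 LD3_c34))))))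
theorem f176658 : Led Lsl_ct (LP (LK LD1_c1 LD2_c21 LD3_c23)) = (LP (LK LD1_c2 LD2_c50 LD3_c47)) :=
  Lre_c IH (LK LD1_c1 LD2_c21 LD3_c23) (LK LD1_c2 LD2_c50 LD3_c47) Lrfl Lrfl
theorem f61333 : Led Lsl_gt (LP (LK LD1_c0 LD2_c16 LD3_c43)) = (LP (LK LD1_c0 LD2_c37 LD3_c31)) :=
  Lre_g IH (LK LD1_c0 LD2_c16 LD3_c43) (LK LD1_c0 LD2_c37 LD3_c31) Lrfl Lrfl
theorem f205222 : Led Lsl_cf (LP (LK LD1_c0 LD2_c30 LD3_c6)) = (LP (LK LD1_c0 LD2_c37 LD3_c31)) :=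
  Lgr Lrot169 (Lpr_gt (f205216 IH) (Lpr_ct (f59051 IH) (Lpe (f59038 IH) (Lpe (f59039 IH) (Lpe (f205161 IH) (Lpe (f176658 IH) (Lpe (f73198 IH) (Lpe (K6.f61293 IH) (Lpr_gt (f61333 IH) (Lpn (LP (LK LD1_c0 LD2_c37 LD3_c31))))))))))))
theorem f210986 : Led Lsl_ct (LP (LK LD1_c0 LD2_c30 LD3_c6)) = (LP (LK LD1_c0 LD2_c37 LD3_c31)) :=
  Lgr Lrot59 (Lpr_cf (f205222 IH) (Lpn (LP (LK LD1_c0 LD2_c37 LD3_c31))))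
theorem f177110 : Led Lsl_gt (LP (LK LD1_c0 LD2_c29 LD3_c15)) = (LP (LK LD1_c0 LD2_c16 LD3_c46)) :=
  Lgr Lrot137 (Lpr_ef (K10.f20787 IH) (Lpe (K9.f164267 IH) (Lpe (K9.f164672 IH) (Lpr_df (K9.f24424 IH) (Lpr_et (K9.f164298 IH) (Lpe (K9.f165471 IH) (Lpe (f22385 IH) (Lpr_dt (f177101 IH) (Lpr_gf (f146304 IH) (Lpe (K9.f176876 IH) (Lpn (LP (LK LD1_c0 LD2_c16 LD3_c46)))))))))))))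
theorem f146357 : Led Lsl_ct (LP (LK LD1_c0 LD2_c16 LD3_c46)) = (LP (LK LD1_c0 LD2_c37 LD3_c34)) :=
  Lre_c IH (LK LD1_c0 LD2_c16 LD3_c46) (LK LD1_c0 LD2_c37 LD3_c34) Lrfl Lrfl
theorem f59026 : Led Lsl_ct (LP (LK LD1_c0 LD2_c18 LD3_c23)) = (LP (LK LD1_c0 LD2_c41 LD3_c5)) :=
  Lre_c IH (LK LD1_c0 LD2_c18 LD3_c23) (LK LD1_c0 LD2_c41 LD3_c5) Lrfl Lrfl
theorem f211004 : Led Lsl_gt (LP (LK LD1_c0 LD2_c37 LD3_c34)) = (LP (LK LD1_c0 LD2_c41 LD3_c5)) :=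
  Lgr Lrot149 (Lpe (f146357 IH) (Lpe (f177110 IH) (Lpr_bf (K10.f198325 IH) (Lpr_ct (f210986 IH) (Lpe (f61333 IH) (Lpe (f61311 IH) (Lpr_bt (f176873 IH) (Lpe (K9.f146326 IH) (Lpr_bf (f198359 IH) (Lpr_ct (f59026 IH) (Lpn (LP (LK LD1_c0 LD2_c41 LD3_c5)))))))))))))
theorem f146367 : Led Lsl_ft (LP (LK LD1_c0 LD2_c37 LD3_c34)) = (LP (LK LD1_c0 LD2_c16 LD3_c43)) :=
  Lre_f IH (LK LD1_c0 LD2_c37 LD3_c34) (LK LD1_c0 LD2_c16 LD3_c43) Lrfl Lrfl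
theorem f20777 : Led Lsl_ct (LP (LK LD1_c0 LD2_c29 LD3_c14)) = (LP (LK LD1_c0 LD2_c12 LD3_c55)) :=
  Lre_c IH (LK LD1_c0 LD2_c29 LD3_c14) (LK LD1_c0 LD2_c12 LD3_c55) Lrfl Lrfl
theorem f146319 : Led Lsl_af (LP (LK LD1_c0 LD2_c29 LD3_c14)) = (LP (LK LD1_c0 LD2_c16 LD3_c43)) :=
  Lgr Lrot68 (Lpr_ct (f20777 IH) (Lpr_at (K6.f146299 IH) (Lpr_ct (f61311 IH) (Lpn (LP (LK LD1_c0 LD2_c16 LD3_c43))))))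
theorem f211010 : Led Lsl_gf (LP (LK LD1_c0 LD2_c29 LD3_c14)) = (LP (LK LD1_c0 LD2_c41 LD3_c5)) :=
  Lgr Lrot76 (Lpr_af (f146319 IH) (Lpe (f146367 IH) (Lpr_gt (f211004 IH) (Lpn (LP (LK LD1_c0 LD2_c41 LD3_c5))))))
theorem f20775 : Led Lsl_ct (LP (LK LD1_c0 LD2_c12 LD3_c55)) = (LP (LK LD1_c0 LD2_c29 LD3_c14)) :=
  Lre_c IH (LK LD1_c0 LD2_c12 LD3_c55) (LK LD1_c0 LD2_c29 LD3_c14) Lrfl Lrfl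
theorem f211019 : Led Lsl_bt (LP (LK LD1_c0 LD2_c12 LD3_c55)) = (LP (LK LD1_c0 LD2_c29 LD3_c11)) :=
  Lre_b IH (LK LD1_c0 LD2_c12 LD3_c55) (LK LD1_c0 LD2_c29 LD3_c11) Lrfl Lrfl
theorem f37101 : Led Lsl_gt (LP (LK LD1_c0 LD2_c29 LD3_c11)) = (LP (LK LD1_c1 LD2_c3 LD3_c57)) :=
  Lre_g IH (LK LD1_c0 LD2_c29 LD3_c11) (LK LD1_c1 LD2_c3 LD3_c57) Lrfl Lrfl
theorem f205719 : Led Lsl_ff (LP (LK LD1_c0 LD2_c30 LD3_c4)) = (LP (LK LD1_c0 LD2_c18 LD3_c49)) :=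
  Lgr Lrot52 (Lpr_at (f26891 IH) (Lpr_gf (f205717 IH) (Lpe (K4.f68538 IH) (Lpn (LP (LK LD1_c0 LD2_c18 LD3_c49))))))
theorem f210048 : Led Lsl_ft (LP (LK LD1_c1 LD2_c5 LD3_c49)) = (LP (LK LD1_c0 LD2_c42 LD3_c8)) :=
  Lgr Lrot101 (Lpe (f26891 IH) (Lpr_ff (f205719 IH) (Lpe (K8.f69236 IH) (Lpn (LP (LK LD1_c0 LD2_c42 LD3_c8))))))
theorem f206037 : Led Lsl_bt (LP (LK LD1_c0 LD2_c42 LD3_c8)) = (LP (LK LD1_c1 LD2_c6 LD3_c31)) :=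
  Lgr Lrot92 (Lpr_ct (K8.f69248 IH) (Lpr_gt (K8.f161023 IH) (Lpe (K4.f36533 IH) (Lpr_bt (K4.f20210 IH) (Lpr_gt (f161002 IH) (Lpe (K6.f135904 IH) (Lpr_gt (f206003 IH) (Lpr_cf (f132484 IH) (Lpr_bt (K5.f58962 IH) (Lpr_gt (f202383 IH) (Lpn (LP (LK LD1_c1 LD2_c6 LD3_c31)))))))))))))
theorem f202239 : Led Lsl_ft (LP (LK LD1_c1 LD2_c6 LD3_c31)) = (LP (LK LD1_c0 LD2_c40 LD3_c59)) :=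
  Lgr Lrot48 (Lpr_ff (f202226 IH) (Lpn (LP (LK LD1_c0 LD2_c40 LD3_c59))))
theorem f210050 : Led Lsl_bf (LP (LK LD1_c1 LD2_c5 LD3_c49)) = (LP (LK LD1_c0 LD2_c40 LD3_c59)) :=
  Lgr Lrot61 (Lpr_ft (f210048 IH) (Lpr_bt (f206037 IH) (Lpr_ft (f202239 IH) (Lpn (LP (LK LD1_c0 LD2_c40 LD3_c59))))))
theorem f26886 : Led Lsl_et (LP (LK LD1_c1 LD2_c5 LD3_c49)) = (LP (LK LD1_c2 LD2_c17 LD3_c47)) :=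
  Lre_e IH (LK LD1_c1 LD2_c5 LD3_c49) (LK LD1_c2 LD2_c17 LD3_c47) Lrfl Lrfl
theorem f202218 : Led Lsl_et (LP (LK LD1_c1 LD2_c28 LD3_c39)) = (LP (LK LD1_c0 LD2_c40 LD3_c59)) :=
  Lre_e IH (LK LD1_c1 LD2_c28 LD3_c39) (LK LD1_c0 LD2_c40 LD3_c59) Lrfl Lrfl
theorem f210056 : Led Lsl_bt (LP (LK LD1_c2 LD2_c17 LD3_c47)) = (LP (LK LD1_c1 LD2_c28 LD3_c39)) :=
  Lgr Lrot119 (Lpe (f26886 IH) (Lpr_bf (f210050 IH) (Lpe (f202218 IH) (Lpn (LP (LK LD1_c1 LD2_c28 LD3_c39))))))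
theorem f26895 : Led Lsl_dt (LP (LK LD1_c4 LD2_c41 LD3_c24)) = (LP (LK LD1_c2 LD2_c17 LD3_c47)) :=
  Lre_d IH (LK LD1_c4 LD2_c41 LD3_c24) (LK LD1_c2 LD2_c17 LD3_c47) Lrfl Lrfl
theorem f202251 : Led Lsl_dt (LP (LK LD1_c1 LD2_c28 LD3_c39)) = (LP (LK LD1_c3 LD2_c5 LD3_c14)) :=
  Lre_d IH (LK LD1_c1 LD2_c28 LD3_c39) (LK LD1_c3 LD2_c5 LD3_c14) Lrfl Lrfl
theorem f210063 : Led Lsl_bf (LP (LK LD1_c4 LD2_c41 LD3_c24)) = (LP (LK LD1_c3 LD2_c5 LD3_c14)) :=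
  Lgr Lrot93 (Lpr_dt (f26895 IH) (Lpr_bt (f210056 IH) (Lpr_dt (f202251 IH) (Lpn (LP (LK LD1_c3 LD2_c5 LD3_c14))))))
theorem f26901 : Led Lsl_at (LP (LK LD1_c4 LD2_c41 LD3_c24)) = (LP (LK LD1_c2 LD2_c17 LD3_c49)) :=
  Lre_a IH (LK LD1_c4 LD2_c41 LD3_c24) (LK LD1_c2 LD2_c17 LD3_c49) Lrfl Lrfl
theorem f202255 : Led Lsl_at (LP (LK LD1_c1 LD2_c28 LD3_c42)) = (LP (LK LD1_c3 LD2_c5 LD3_c14)) :=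
  Lre_a IH (LK LD1_c1 LD2_c28 LD3_c42) (LK LD1_c3 LD2_c5 LD3_c14) Lrfl Lrfl
theorem f204734 : Led Lsl_bt (LP (LK LD1_c0 LD2_c40 LD3_c61)) = (LP (LK LD1_c1 LD2_c28 LD3_c42)) :=
  Lre_b IH (LK LD1_c0 LD2_c40 LD3_c61) (LK LD1_c1 LD2_c28 LD3_c42) Lrfl Lrfl
theorem f210066 : Led Lsl_at (LP (LK LD1_c1 LD2_c5 LD3_c51)) = (LP (LK LD1_c0 LD2_c40 LD3_c61)) :=
  Lgr Lrot67 (Lpe (K8.f26828 IH) (Lpe (f26901 IH) (Lpr_bf (f210063 IH) (Lpe (f202255 IH) (Lpe (f204734 IH) (Lpn (LP (LK LD1_c0 LD2_c40 LD3_c61))))))))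
theorem f25977 : Led Lsl_ft (LP (LK LD1_c2 LD2_c17 LD3_c54)) = (LP (LK LD1_c1 LD2_c5 LD3_c51)) :=
  Lre_f IH (LK LD1_c2 LD2_c17 LD3_c54) (LK LD1_c1 LD2_c5 LD3_c51) Lrfl Lrfl
theorem f25970 : Led Lsl_ct (LP (LK LD1_c1 LD2_c5 LD3_c52)) = (LP (LK LD1_c0 LD2_c30 LD3_c8)) :=
  Lre_c IH (LK LD1_c1 LD2_c5 LD3_c52) (LK LD1_c0 LD2_c30 LD3_c8) Lrfl Lrfl
theorem f25974 : Led Lsl_ct (LP (LK LD1_c0 LD2_c18 LD3_c53)) = (LP (LK LD1_c0 LD2_c42 LD3_c11)) :=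
  Lre_c IH (LK LD1_c0 LD2_c18 LD3_c53) (LK LD1_c0 LD2_c42 LD3_c11) Lrfl Lrfl
theorem f59106 : Led Lsl_ct (LP (LK LD1_c1 LD2_c28 LD3_c46)) = (LP (LK LD1_c0 LD2_c40 LD3_c61)) :=
  Lre_c IH (LK LD1_c1 LD2_c28 LD3_c46) (LK LD1_c0 LD2_c40 LD3_c61) Lrfl Lrfl
theorem f59107 : Led Lsl_dt (LP (LK LD1_c3 LD2_c5 LD3_c33)) = (LP (LK LD1_c1 LD2_c28 LD3_c46)) :=
  Lre_d IH (LK LD1_c3 LD2_c5 LD3_c33) (LK LD1_c1 LD2_c28 LD3_c46) Lrfl Lrfl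
theorem f210158 : Led Lsl_ct (LP (LK LD1_c1 LD2_c31 LD3_c24)) = (LP (LK LD1_c3 LD2_c5 LD3_c33)) :=
  Lgr Lrot53 (Lpe (f25975 IH) (Lpe (f25974 IH) (Lpr_df (K1.f25966 IH) (Lpe (f25970 IH) (Lpe (f25971 IH) (Lpr_ft (f25977 IH) (Lpr_at (f210066 IH) (Lpe (f59106 IH) (Lpe (f59107 IH) (Lpn (LP (LK LD1_c3 LD2_c5 LD3_c33))))))))))))
theorem f210167 : Led Lsl_et (LP (LK LD1_c3 LD2_c5 LD3_c33)) = (LP (LK LD1_c6 LD2_c16 LD3_c56)) :=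
  Lre_e IH (LK LD1_c3 LD2_c5 LD3_c33) (LK LD1_c6 LD2_c16 LD3_c56) Lrfl Lrfl
theorem f210168 : Led Lsl_cf (LP (LK LD1_c3 LD2_c10 LD3_c23)) = (LP (LK LD1_c6 LD2_c16 LD3_c56)) :=
  Lgr Lrot39 (Lpr_et (f68938 IH) (Lpr_ct (f210158 IH) (Lpr_et (f210167 IH) (Lpn (LP (LK LD1_c6 LD2_c16 LD3_c56))))))
theorem f68931 : Led Lsl_ct (LP (LK LD1_c6 LD2_c2 LD3_c49)) = (LP (LK LD1_c11 LD2_c49 LD3_c41)) :=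
  Lre_c IH (LK LD1_c6 LD2_c2 LD3_c49) (LK LD1_c11 LD2_c49 LD3_c41) Lrfl Lrfl
theorem f210183 : Led Lsl_ft (LP (LK LD1_c11 LD2_c49 LD3_c41)) = (LP (LK LD1_c6 LD2_c16 LD3_c56)) :=
  Lgr Lrot4 (Lpe (f68931 IH) (Lpr_ff (f68927 IH) (Lpr_cf (f210168 IH) (Lpn (LP (LK LD1_c6 LD2_c16 LD3_c56))))))
theorem f210191 : Led Lsl_ff (LP (LK LD1_c11 LD2_c49 LD3_c41)) = (LP (LK LD1_c6 LD2_c16 LD3_c56)) :=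
  Lgr Lrot3 (Lpr_ft (f210183 IH) (Lpn (LP (LK LD1_c6 LD2_c16 LD3_c56))))
theorem f204322 : Led Lsl_at (LP (LK LD1_c11 LD2_c49 LD3_c41)) = (LP (LK LD1_c17 LD2_c8 LD3_c1)) :=
  Lgr Lrot100 (Lpr_af (f204317 IH) (Lpn (LP (LK LD1_c17 LD2_c8 LD3_c1))))
theorem f25976 : Led Lsl_ct (LP (LK LD1_c4 LD2_c41 LD3_c37)) = (LP (LK LD1_c2 LD2_c17 LD3_c54)) :=
  Lre_c IH (LK LD1_c4 LD2_c41 LD3_c37) (LK LD1_c2 LD2_c17 LD3_c54) Lrfl Lrfl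
theorem f59004 : Led Lsl_dt (LP (LK LD1_c0 LD2_c40 LD3_c61)) = (LP (LK LD1_c0 LD2_c18 LD3_c21)) :=
  Lre_d IH (LK LD1_c0 LD2_c40 LD3_c61) (LK LD1_c0 LD2_c18 LD3_c21) Lrfl Lrfl
theorem f59003 : Led Lsl_ct (LP (LK LD1_c0 LD2_c18 LD3_c21)) = (LP (LK LD1_c0 LD2_c8 LD3_c16)) :=
  Lre_c IH (LK LD1_c0 LD2_c18 LD3_c21) (LK LD1_c0 LD2_c8 LD3_c16) Lrfl Lrfl
theorem f59025 : Led Lsl_ct (LP (LK LD1_c0 LD2_c13 LD3_c32)) = (LP (LK LD1_c0 LD2_c30 LD3_c26)) :=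
  Lre_c IH (LK LD1_c0 LD2_c13 LD3_c32) (LK LD1_c0 LD2_c30 LD3_c26) Lrfl Lrfl
theorem f59105 : Led Lsl_ct (LP (LK LD1_c1 LD2_c6 LD3_c33)) = (LP (LK LD1_c2 LD2_c19 LD3_c2)) :=
  Lre_c IH (LK LD1_c1 LD2_c6 LD3_c33) (LK LD1_c2 LD2_c19 LD3_c2) Lrfl Lrfl
theorem f210165 : Led Lsl_df (LP (LK LD1_c4 LD2_c41 LD3_c37)) = (LP (LK LD1_c2 LD2_c19 LD3_c2)) :=
  Lgr Lrot43 (Lpr_ct (f25976 IH) (Lpr_dt (f25971 IH) (Lpr_ct (f25970 IH) (Lpe (K1.f25966 IH) (Lpr_ct (f25974 IH) (Lpr_dt (f25975 IH) (Lpr_ct (f210158 IH) (Lpr_dt (f59107 IH) (Lpr_ct (f59106 IH) (Lpr_dt (f59004 IH) (Lpr_ct (f59003 IH) (Lpe (K9.f58991 IH) (Lpr_ct (f59025 IH) (Lpr_dt (f26975 IH) (Lpr_ct (f59105 IH) (Lpn (LP (LK LD1_c2 LD2_c19 LD3_c2))))))))))))))))))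
theorem f204358 : Led Lsl_ff (LP (LK LD1_c4 LD2_c41 LD3_c36)) = (LP (LK LD1_c2 LD2_c19 LD3_c2)) :=
  Lgr Lrot23 (Lpr_ct (f204349 IH) (Lpr_ft (f59054 IH) (Lpr_ct (f59105 IH) (Lpn (LP (LK LD1_c2 LD2_c19 LD3_c2))))))
theorem f210170 : Led Lsl_at (LP (LK LD1_c4 LD2_c41 LD3_c36)) = (LP (LK LD1_c3 LD2_c5 LD3_c33)) :=
  Lgr Lrot33 (Lpr_ff (f204358 IH) (Lpe (f210165 IH) (Lpr_ct (f25976 IH) (Lpr_dt (f25971 IH) (Lpr_ct (f25970 IH) (Lpe (K1.f25966 IH) (Lpr_ct (f25974 IH) (Lpr_dt (f25975 IH) (Lpr_ct (f210158 IH) (Lpn (LP (LK LD1_c3 LD2_c5 LD3_c33))))))))))))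
theorem f204355 : Led Lsl_et (LP (LK LD1_c9 LD2_c18 LD3_c3)) = (LP (LK LD1_c4 LD2_c41 LD3_c36)) :=
  Lre_e IH (LK LD1_c9 LD2_c18 LD3_c3) (LK LD1_c4 LD2_c41 LD3_c36) Lrfl Lrfl
theorem f210173 : Led Lsl_af (LP (LK LD1_c9 LD2_c18 LD3_c3)) = (LP (LK LD1_c6 LD2_c16 LD3_c56)) :=
  Lgr Lrot50 (Lpr_et (f204355 IH) (Lpr_at (f210170 IH) (Lpr_et (f210167 IH) (Lpn (LP (LK LD1_c6 LD2_c16 LD3_c56))))))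
theorem f210175 : Led Lsl_at (LP (LK LD1_c9 LD2_c18 LD3_c3)) = (LP (LK LD1_c6 LD2_c16 LD3_c56)) :=
  Lgr Lrot100 (Lpr_af (f210173 IH) (Lpn (LP (LK LD1_c6 LD2_c16 LD3_c56))))
theorem f210193 : Led Lsl_ft (LP (LK LD1_c17 LD2_c8 LD3_c1)) = (LP (LK LD1_c9 LD2_c18 LD3_c3)) :=
  Lgr Lrot101 (Lpe (f204322 IH) (Lpr_ff (f210191 IH) (Lpe (f210175 IH) (Lpn (LP (LK LD1_c9 LD2_c18 LD3_c3))))))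
theorem f104866 : Led Lsl_ft (LP (LK LD1_c4 LD2_c38 LD3_c59)) = (LP (LK LD1_c9 LD2_c13 LD3_c43)) :=
  Lre_f IH (LK LD1_c4 LD2_c38 LD3_c59) (LK LD1_c9 LD2_c13 LD3_c43) Lrfl Lrfl
theorem f58986 : Led Lsl_ct (LP (LK LD1_c2 LD2_c19 LD3_c2)) = (LP (LK LD1_c1 LD2_c6 LD3_c33)) :=
  Lre_c IH (LK LD1_c2 LD2_c19 LD3_c2) (LK LD1_c1 LD2_c6 LD3_c33) Lrfl Lrfl
theorem f61070 : Led Lsl_ct (LP (LK LD1_c2 LD2_c16 LD3_c29)) = (LP (LK LD1_c4 LD2_c38 LD3_c59)) :=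
  Lre_c IH (LK LD1_c2 LD2_c16 LD3_c29) (LK LD1_c4 LD2_c38 LD3_c59) Lrfl Lrfl
theorem f104839 : Led Lsl_ef (LP (LK LD1_c2 LD2_c19 LD3_c2)) = (LP (LK LD1_c4 LD2_c38 LD3_c59)) :=
  Lgr Lrot28 (Lpr_ct (f58986 IH) (Lpr_et (f104824 IH) (Lpr_ct (f61070 IH) (Lpn (LP (LK LD1_c4 LD2_c38 LD3_c59))))))
theorem f104858 : Led Lsl_et (LP (LK LD1_c2 LD2_c19 LD3_c2)) = (LP (LK LD1_c4 LD2_c38 LD3_c59)) :=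
  Lgr Lrot87 (Lpr_ef (f104839 IH) (Lpn (LP (LK LD1_c4 LD2_c38 LD3_c59))))
theorem f210262 : Led Lsl_ff (LP (LK LD1_c2 LD2_c19 LD3_c2)) = (LP (LK LD1_c4 LD2_c41 LD3_c36)) :=
  Lgr Lrot72 (Lpr_et (f104858 IH) (Lpr_ft (f104866 IH) (Lpr_et (f104867 IH) (Lpr_ft (f210193 IH) (Lpr_et (f204355 IH) (Lpn (LP (LK LD1_c4 LD2_c41 LD3_c36))))))))
theorem f204341 : Led Lsl_af (LP (LK LD1_c1 LD2_c31 LD3_c24)) = (LP (LK LD1_c2 LD2_c19 LD3_c3)) :=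
  Lgr Lrot0 (Lpr_at (f204335 IH) (Lpn (LP (LK LD1_c2 LD2_c19 LD3_c3))))
theorem f210160 : Led Lsl_af (LP (LK LD1_c4 LD2_c41 LD3_c36)) = (LP (LK LD1_c3 LD2_c5 LD3_c33)) :=
  Lgr Lrot68 (Lpr_ct (f204349 IH) (Lpe (f204341 IH) (Lpr_ct (f210158 IH) (Lpn (LP (LK LD1_c3 LD2_c5 LD3_c33))))))
theorem f68952 : Led Lsl_ft (LP (LK LD1_c6 LD2_c2 LD3_c48)) = (LP (LK LD1_c2 LD2_c57 LD3_c28)) :=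
  Lre_f IH (LK LD1_c6 LD2_c2 LD3_c48) (LK LD1_c2 LD2_c57 LD3_c28) Lrfl Lrfl
theorem f68922 : Led Lsl_ef (LP (LK LD1_c1 LD2_c24 LD3_c27)) = (LP (LK LD1_c0 LD2_c42 LD3_c10)) :=
  Lgr Lrot88 (Lpr_et (f68573 IH) (Lpn (LP (LK LD1_c0 LD2_c42 LD3_c10))))
theorem f25979 : Led Lsl_ct (LP (LK LD1_c1 LD2_c31 LD3_c23)) = (LP (LK LD1_c0 LD2_c42 LD3_c10)) :=
  Lre_c IH (LK LD1_c1 LD2_c31 LD3_c23) (LK LD1_c0 LD2_c42 LD3_c10) Lrfl Lrfl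
theorem f68940 : Led Lsl_et (LP (LK LD1_c2 LD2_c57 LD3_c28)) = (LP (LK LD1_c1 LD2_c31 LD3_c23)) :=
  Lgr Lrot158 (Lpe (f68939 IH) (Lpr_ef (f68922 IH) (Lpe (f25979 IH) (Lpn (LP (LK LD1_c1 LD2_c31 LD3_c23))))))
theorem f210197 : Led Lsl_ft (LP (LK LD1_c1 LD2_c31 LD3_c23)) = (LP (LK LD1_c3 LD2_c5 LD3_c33)) :=
  Lgr Lrot86 (Lpe (f68940 IH) (Lpe (f68952 IH) (Lpe (f68953 IH) (Lpr_ff (f210191 IH) (Lpe (f210167 IH) (Lpn (LP (LK LD1_c3 LD2_c5 LD3_c33))))))))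
theorem f210266 : Led Lsl_at (LP (LK LD1_c2 LD2_c19 LD3_c2)) = (LP (LK LD1_c1 LD2_c31 LD3_c23)) :=
  Lgr Lrot66 (Lpr_ff (f210262 IH) (Lpr_af (f210160 IH) (Lpe (f210197 IH) (Lpn (LP (LK LD1_c1 LD2_c31 LD3_c23))))))
theorem f204780 : Led Lsl_af (LP (LK LD1_c4 LD2_c41 LD3_c37)) = (LP (LK LD1_c3 LD2_c5 LD3_c34)) :=
  Lgr Lrot68 (Lpr_ct (f25976 IH) (Lpr_at (f204774 IH) (Lpr_ct (f59053 IH) (Lpn (LP (LK LD1_c3 LD2_c5 LD3_c34))))))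
theorem f210269 : Led Lsl_df (LP (LK LD1_c2 LD2_c19 LD3_c2)) = (LP (LK LD1_c4 LD2_c41 LD3_c37)) :=
  Lgr Lrot18 (Lpr_at (f210266 IH) (Lpr_dt (f204788 IH) (Lpe (f204780 IH) (Lpn (LP (LK LD1_c4 LD2_c41 LD3_c37))))))
theorem f58985 : Led Lsl_ct (LP (LK LD1_c0 LD2_c30 LD3_c26)) = (LP (LK LD1_c0 LD2_c13 LD3_c32)) :=
  Lre_c IH (LK LD1_c0 LD2_c30 LD3_c26) (LK LD1_c0 LD2_c13 LD3_c32) Lrfl Lrfl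
theorem f58987 : Led Lsl_ct (LP (LK LD1_c0 LD2_c8 LD3_c16)) = (LP (LK LD1_c0 LD2_c18 LD3_c21)) :=
  Lre_c IH (LK LD1_c0 LD2_c8 LD3_c16) (LK LD1_c0 LD2_c18 LD3_c21) Lrfl Lrfl
theorem f25965 : Led Lsl_ct (LP (LK LD1_c2 LD2_c17 LD3_c54)) = (LP (LK LD1_c4 LD2_c41 LD3_c37)) :=
  Lre_c IH (LK LD1_c2 LD2_c17 LD3_c54) (LK LD1_c4 LD2_c41 LD3_c37) Lrfl Lrfl
theorem f25964 : Led Lsl_dt (LP (LK LD1_c1 LD2_c5 LD3_c52)) = (LP (LK LD1_c2 LD2_c17 LD3_c54)) :=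
  Lre_d IH (LK LD1_c1 LD2_c5 LD3_c52) (LK LD1_c2 LD2_c17 LD3_c54) Lrfl Lrfl
theorem f204477 : Led Lsl_ft (LP (LK LD1_c1 LD2_c5 LD3_c52)) = (LP (LK LD1_c0 LD2_c30 LD3_c5)) :=
  Lre_f IH (LK LD1_c1 LD2_c5 LD3_c52) (LK LD1_c0 LD2_c30 LD3_c5) Lrfl Lrfl
theorem f210275 : Led Lsl_af (LP (LK LD1_c0 LD2_c18 LD3_c21)) = (LP (LK LD1_c0 LD2_c30 LD3_c5)) :=
  Lgr Lrot109 (Lpe (f58987 IH) (Lpe (K9.f58979 IH) (Lpe (f58985 IH) (Lpe (f26931 IH) (Lpe (f58986 IH) (Lpr_df (f210269 IH) (Lpe (f25965 IH) (Lpe (f25964 IH) (Lpr_ft (f204477 IH) (Lpn (LP (LK LD1_c0 LD2_c30 LD3_c5))))))))))))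
theorem f185968 : Led Lsl_ct (LP (LK LD1_c2 LD2_c51 LD3_c5)) = (LP (LK LD1_c5 LD2_c49 LD3_c58)) :=
  Lre_c IH (LK LD1_c2 LD2_c51 LD3_c5) (LK LD1_c5 LD2_c49 LD3_c58) Lrfl Lrfl
theorem f186113 : Led Lsl_gt (LP (LK LD1_c5 LD2_c49 LD3_c58)) = (LP (LK LD1_c4 LD2_c39 LD3_c32)) :=
  Lgr Lrot94 (Lpe (f185968 IH) (Lpr_gt (f186109 IH) (Lpr_dt (f176076 IH) (Lpr_gt (K9.f68587 IH) (Lpr_dt (K9.f23928 IH) (Lpe (K0.f9335 IH) (Lpe (K10.f9182 IH) (Lpe (K10.f176450 IH) (Lpr_df (K10.f177701 IH) (Lpn (LP (LK LD1_c4 LD2_c39 LD3_c32))))))))))))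
theorem f176615 : Led Lsl_ct (LP (LK LD1_c4 LD2_c39 LD3_c32)) = (LP (LK LD1_c2 LD2_c16 LD3_c45)) :=
  Lre_c IH (LK LD1_c4 LD2_c39 LD3_c32) (LK LD1_c2 LD2_c16 LD3_c45) Lrfl Lrfl
theorem f186322 : Led Lsl_gf (LP (LK LD1_c2 LD2_c51 LD3_c5)) = (LP (LK LD1_c2 LD2_c16 LD3_c36)) :=
  Lgr Lrot147 (Lpr_ct (f185968 IH) (Lpr_gt (f186113 IH) (Lpr_ct (f176615 IH) (Lpe (K10.f176617 IH) (Lpe (K9.f24449 IH) (Lpe (K9.f20235 IH) (Lpe (K10.f26665 IH) (Lpe (K9.f23958 IH) (Lpe (K10.f23975 IH) (Lpn (LP (LK LD1_c2 LD2_c16 LD3_c36))))))))))))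
theorem f186129 : Led Lsl_et (LP (LK LD1_c1 LD2_c21 LD3_c34)) = (LP (LK LD1_c0 LD2_c37 LD3_c38)) :=
  Lre_e IH (LK LD1_c1 LD2_c21 LD3_c34) (LK LD1_c0 LD2_c37 LD3_c38) Lrfl Lrfl
theorem f179929 : Led Lsl_et (LP (LK LD1_c0 LD2_c8 LD3_c15)) = (LP (LK LD1_c0 LD2_c18 LD3_c21)) :=
  Lre_e IH (LK LD1_c0 LD2_c8 LD3_c15) (LK LD1_c0 LD2_c18 LD3_c21) Lrfl Lrfl
theorem f186325 : Led Lsl_gt (LP (LK LD1_c0 LD2_c37 LD3_c38)) = (LP (LK LD1_c0 LD2_c18 LD3_c21)) :=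
  Lgr Lrot131 (Lpe (f186129 IH) (Lpr_dt (f176846 IH) (Lpr_gf (f186322 IH) (Lpe (K10.f175897 IH) (Lpe (K9.f23974 IH) (Lpe (K9.f68586 IH) (Lpr_dt (K0.f22827 IH) (Lpe (K1.f20554 IH) (Lpr_df (K4.f58957 IH) (Lpr_et (f179929 IH) (Lpn (LP (LK LD1_c0 LD2_c18 LD3_c21)))))))))))))
theorem f210291 : Led Lsl_gf (LP (LK LD1_c0 LD2_c37 LD3_c38)) = (LP (LK LD1_c1 LD2_c5 LD3_c52)) :=
  Lgr Lrot47 (Lpr_gt (f186325 IH) (Lpr_af (f210275 IH) (Lpe (f204477 IH) (Lpn (LP (LK LD1_c1 LD2_c5 LD3_c52))))))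
theorem f146331 : Led Lsl_ct (LP (LK LD1_c1 LD2_c21 LD3_c35)) = (LP (LK LD1_c0 LD2_c37 LD3_c39)) :=
  Lre_c IH (LK LD1_c1 LD2_c21 LD3_c35) (LK LD1_c0 LD2_c37 LD3_c39) Lrfl Lrfl
theorem f146332 : Led Lsl_ct (LP (LK LD1_c0 LD2_c37 LD3_c39)) = (LP (LK LD1_c1 LD2_c21 LD3_c35)) :=
  Lre_c IH (LK LD1_c0 LD2_c37 LD3_c39) (LK LD1_c1 LD2_c21 LD3_c35) Lrfl Lrfl
theorem f176825 : Led Lsl_et (LP (LK LD1_c1 LD2_c21 LD3_c35)) = (LP (LK LD1_c0 LD2_c38 LD3_c15)) :=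
  Lgr Lrot158 (Lpe (f146332 IH) (Lpr_ef (K9.f176823 IH) (Lpe (K10.f24238 IH) (Lpn (LP (LK LD1_c0 LD2_c38 LD3_c15))))))
theorem f27056 : Led Lsl_gt (LP (LK LD1_c2 LD2_c19 LD3_c1)) = (LP (LK LD1_c1 LD2_c6 LD3_c33)) :=
  Lre_g IH (LK LD1_c2 LD2_c19 LD3_c1) (LK LD1_c1 LD2_c6 LD3_c33) Lrfl Lrfl
theorem f198513 : Led Lsl_dt (LP (LK LD1_c1 LD2_c21 LD3_c35)) = (LP (LK LD1_c2 LD2_c19 LD3_c1)) :=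
  Lgr Lrot136 (Lpr_et (f176825 IH) (Lpr_gf (f198501 IH) (Lpe (K2.f23916 IH) (Lpr_dt (K0.f23915 IH) (Lpr_gf (K0.f23895 IH) (Lpe (K1.f20073 IH) (Lpe (K0.f27020 IH) (Lpe (f26930 IH) (Lpr_dt (f26975 IH) (Lpe (f27056 IH) (Lpn (LP (LK LD1_c2 LD2_c19 LD3_c1)))))))))))))
theorem f59024 : Led Lsl_ct (LP (LK LD1_c2 LD2_c0 LD3_c5)) = (LP (LK LD1_c0 LD2_c56 LD3_c61)) :=
  Lre_c IH (LK LD1_c2 LD2_c0 LD3_c5) (LK LD1_c0 LD2_c56 LD3_c61) Lrfl Lrfl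
theorem f198517 : Led Lsl_gf (LP (LK LD1_c1 LD2_c21 LD3_c35)) = (LP (LK LD1_c2 LD2_c0 LD3_c5)) :=
  Lgr Lrot144 (Lpr_dt (f198513 IH) (Lpr_gt (f27056 IH) (Lpr_dt (f26931 IH) (Lpe (f59025 IH) (Lpr_df (K9.f58991 IH) (Lpe (K9.f59013 IH) (Lpe (K10.f59014 IH) (Lpe (K10.f59017 IH) (Lpe (f59024 IH) (Lpn (LP (LK LD1_c2 LD2_c0 LD3_c5))))))))))))
theorem f59019 : Led Lsl_dt (LP (LK LD1_c0 LD2_c41 LD3_c3)) = (LP (LK LD1_c0 LD2_c18 LD3_c22)) :=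
  Lre_d IH (LK LD1_c0 LD2_c41 LD3_c3) (LK LD1_c0 LD2_c18 LD3_c22) Lrfl Lrfl
theorem f25963 : Led Lsl_ct (LP (LK LD1_c0 LD2_c30 LD3_c8)) = (LP (LK LD1_c1 LD2_c5 LD3_c52)) :=
  Lre_c IH (LK LD1_c0 LD2_c30 LD3_c8) (LK LD1_c1 LD2_c5 LD3_c52) Lrfl Lrfl
theorem f210296 : Led Lsl_gt (LP (LK LD1_c0 LD2_c18 LD3_c22)) = (LP (LK LD1_c0 LD2_c30 LD3_c8)) :=
  Lgr Lrot9 (Lpe (f59019 IH) (Lpr_gt (K10.f186460 IH) (Lpr_ct (f59021 IH) (Lpe (f198517 IH) (Lpr_ct (f146331 IH) (Lpe (K10.f146330 IH) (Lpe (f146337 IH) (Lpr_gf (f210291 IH) (Lpe (f25963 IH) (Lpn (LP (LK LD1_c0 LD2_c30 LD3_c8))))))))))))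
theorem f25984 : Led Lsl_et (LP (LK LD1_c0 LD2_c3 LD3_c52)) = (LP (LK LD1_c0 LD2_c8 LD3_c29)) :=
  Lre_e IH (LK LD1_c0 LD2_c3 LD3_c52) (LK LD1_c0 LD2_c8 LD3_c29) Lrfl Lrfl
theorem f25955 : Led Lsl_et (LP (LK LD1_c0 LD2_c13 LD3_c22)) = (LP (LK LD1_c0 LD2_c6 LD3_c6)) :=
  Lre_e IH (LK LD1_c0 LD2_c13 LD3_c22) (LK LD1_c0 LD2_c6 LD3_c6) Lrfl Lrfl
theorem f204400 : Led Lsl_et (LP (LK LD1_c0 LD2_c18 LD3_c53)) = (LP (LK LD1_c0 LD2_c30 LD3_c8)) :=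
  Lgr Lrot69 (Lpe (K1.f25932 IH) (Lpe (f25984 IH) (Lpr_ff (f204392 IH) (Lpe (f25955 IH) (Lpe (K1.f25933 IH) (Lpn (LP (LK LD1_c0 LD2_c30 LD3_c8))))))))
theorem f210471 : Led Lsl_gf (LP (LK LD1_c0 LD2_c18 LD3_c23)) = (LP (LK LD1_c0 LD2_c30 LD3_c8)) :=
  Lgr Lrot145 (Lpe (K10.f59014 IH) (Lpe (K10.f59519 IH) (Lpr_gt (f37721 IH) (Lpr_dt (K1.f27234 IH) (Lpr_gt (K10.f186493 IH) (Lpe (K10.f186475 IH) (Lpr_et (K10.f186479 IH) (Lpr_gt (f210296 IH) (Lpe (f204400 IH) (Lpr_dt (K1.f25934 IH) (Lpn (LP (LK LD1_c0 LD2_c30 LD3_c8)))))))))))))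
theorem f36477 : Led Lsl_ct (LP (LK LD1_c1 LD2_c1 LD3_c54)) = (LP (LK LD1_c2 LD2_c9 LD3_c31)) :=
  Lre_c IH (LK LD1_c1 LD2_c1 LD3_c54) (LK LD1_c2 LD2_c9 LD3_c31) Lrfl Lrfl
theorem f198474 : Led Lsl_bt (LP (LK LD1_c0 LD2_c16 LD3_c45)) = (LP (LK LD1_c0 LD2_c18 LD3_c23)) :=
  Lgr Lrot127 (Lpr_bf (f198359 IH) (Lpn (LP (LK LD1_c0 LD2_c18 LD3_c23))))
theorem f146333 : Led Lsl_ct (LP (LK LD1_c0 LD2_c16 LD3_c45)) = (LP (LK LD1_c0 LD2_c37 LD3_c38)) :=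
  Lre_c IH (LK LD1_c0 LD2_c16 LD3_c45) (LK LD1_c0 LD2_c37 LD3_c38) Lrfl Lrfl
theorem f58982 : Led Lsl_bt (LP (LK LD1_c0 LD2_c8 LD3_c16)) = (LP (LK LD1_c0 LD2_c18 LD3_c16)) :=
  Lre_b IH (LK LD1_c0 LD2_c8 LD3_c16) (LK LD1_c0 LD2_c18 LD3_c16) Lrfl Lrfl
theorem f59086 : Led Lsl_gt (LP (LK LD1_c0 LD2_c18 LD3_c16)) = (LP (LK LD1_c0 LD2_c40 LD3_c48)) :=
  Lre_g IH (LK LD1_c0 LD2_c18 LD3_c16) (LK LD1_c0 LD2_c40 LD3_c48) Lrfl Lrfl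
theorem f59091 : Led Lsl_ct (LP (LK LD1_c0 LD2_c40 LD3_c48)) = (LP (LK LD1_c1 LD2_c28 LD3_c16)) :=
  Lre_c IH (LK LD1_c0 LD2_c40 LD3_c48) (LK LD1_c1 LD2_c28 LD3_c16) Lrfl Lrfl
theorem f210473 : Led Lsl_gt (LP (LK LD1_c1 LD2_c28 LD3_c16)) = (LP (LK LD1_c2 LD2_c9 LD3_c31)) :=
  Lgr Lrot149 (Lpe (f59091 IH) (Lpe (f59086 IH) (Lpe (f58982 IH) (Lpr_ct (f58987 IH) (Lpe (f186325 IH) (Lpe (f146333 IH) (Lpr_bt (f198474 IH) (Lpr_gf (f210471 IH) (Lpr_bf (K1.f36475 IH) (Lpr_ct (f36477 IH) (Lpn (LP (LK LD1_c2 LD2_c9 LD3_c31)))))))))))))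
theorem f211020 : Led Lsl_bf (LP (LK LD1_c1 LD2_c3 LD3_c57)) = (LP (LK LD1_c0 LD2_c40 LD3_c48)) :=
  Lgr Lrot34 (Lpe (f37101 IH) (Lpe (f211019 IH) (Lpr_ct (f20775 IH) (Lpr_gf (f211010 IH) (Lpe (f59026 IH) (Lpr_gf (f210471 IH) (Lpr_bf (K1.f36475 IH) (Lpr_ct (f36477 IH) (Lpe (f210473 IH) (Lpe (f59091 IH) (Lpn (LP (LK LD1_c0 LD2_c40 LD3_c48)))))))))))))
theorem f211023 : Led Lsl_bt (LP (LK LD1_c1 LD2_c3 LD3_c57)) = (LP (LK LD1_c0 LD2_c40 LD3_c48)) :=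
  Lgr Lrot127 (Lpr_bf (f211020 IH) (Lpn (LP (LK LD1_c0 LD2_c40 LD3_c48))))
theorem f24585 : Led Lsl_et (LP (LK LD1_c0 LD2_c16 LD3_c60)) = (LP (LK LD1_c0 LD2_c7 LD3_c34)) :=
  Lre_e IH (LK LD1_c0 LD2_c16 LD3_c60) (LK LD1_c0 LD2_c7 LD3_c34) Lrfl Lrfl
theorem f24252 : Led Lsl_bt (LP (LK LD1_c0 LD2_c16 LD3_c60)) = (LP (LK LD1_c0 LD2_c7 LD3_c36)) :=
  Lre_b IH (LK LD1_c0 LD2_c16 LD3_c60) (LK LD1_c0 LD2_c7 LD3_c36) Lrfl Lrfl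
theorem f24417 : Led Lsl_bt (LP (LK LD1_c0 LD2_c7 LD3_c36)) = (LP (LK LD1_c0 LD2_c16 LD3_c60)) :=
  Lre_b IH (LK LD1_c0 LD2_c7 LD3_c36) (LK LD1_c0 LD2_c16 LD3_c60) Lrfl Lrfl
theorem f24418 : Led Lsl_df (LP (LK LD1_c0 LD2_c16 LD3_c60)) = (LP (LK LD1_c0 LD2_c16 LD3_c60)) :=
  Lgr Lrot12 (Lpr_bt (f24252 IH) (Lpr_dt (K9.f24415 IH) (Lpr_bt (f24417 IH) (Lpn (LP (LK LD1_c0 LD2_c16 LD3_c60))))))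
theorem f24587 : Led Lsl_gt (LP (LK LD1_c0 LD2_c38 LD3_c3)) = (LP (LK LD1_c0 LD2_c16 LD3_c60)) :=
  Lre_g IH (LK LD1_c0 LD2_c38 LD3_c3) (LK LD1_c0 LD2_c16 LD3_c60) Lrfl Lrfl
theorem f24588 : Led Lsl_dt (LP (LK LD1_c1 LD2_c22 LD3_c12)) = (LP (LK LD1_c0 LD2_c38 LD3_c3)) :=
  Lre_d IH (LK LD1_c1 LD2_c22 LD3_c12) (LK LD1_c0 LD2_c38 LD3_c3) Lrfl Lrfl
theorem f37097 : Led Lsl_dt (LP (LK LD1_c0 LD2_c12 LD3_c53)) = (LP (LK LD1_c0 LD2_c5 LD3_c52)) :=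
  Lre_d IH (LK LD1_c0 LD2_c12 LD3_c53) (LK LD1_c0 LD2_c5 LD3_c52) Lrfl Lrfl
theorem f37100 : Led Lsl_et (LP (LK LD1_c0 LD2_c12 LD3_c53)) = (LP (LK LD1_c0 LD2_c29 LD3_c11)) :=
  Lre_e IH (LK LD1_c0 LD2_c12 LD3_c53) (LK LD1_c0 LD2_c29 LD3_c11) Lrfl Lrfl
theorem f37102 : Led Lsl_et (LP (LK LD1_c1 LD2_c22 LD3_c12)) = (LP (LK LD1_c1 LD2_c3 LD3_c57)) :=
  Lgr Lrot122 (Lpr_dt (f24588 IH) (Lpr_gt (f24587 IH) (Lpr_df (f24418 IH) (Lpr_et (f24585 IH) (Lpr_gt (K0.f34686 IH) (Lpr_dt (K1.f3051 IH) (Lpr_gt (K1.f37089 IH) (Lpe (f37097 IH) (Lpr_et (f37100 IH) (Lpr_gt (f37101 IH) (Lpn (LP (LK LD1_c1 LD2_c3 LD3_c57)))))))))))))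
theorem f211025 : Led Lsl_et (LP (LK LD1_c0 LD2_c40 LD3_c48)) = (LP (LK LD1_c1 LD2_c28 LD3_c17)) :=
  Lre_e IH (LK LD1_c0 LD2_c40 LD3_c48) (LK LD1_c1 LD2_c28 LD3_c17) Lrfl Lrfl
theorem f211026 : Led Lsl_bf (LP (LK LD1_c1 LD2_c22 LD3_c12)) = (LP (LK LD1_c1 LD2_c28 LD3_c17)) :=
  Lgr Lrot96 (Lpr_et (f37102 IH) (Lpr_bt (f211023 IH) (Lpr_et (f211025 IH) (Lpn (LP (LK LD1_c1 LD2_c28 LD3_c17))))))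
theorem f211032 : Led Lsl_bt (LP (LK LD1_c0 LD2_c38 LD3_c3)) = (LP (LK LD1_c1 LD2_c22 LD3_c11)) :=
  Lre_b IH (LK LD1_c0 LD2_c38 LD3_c3) (LK LD1_c1 LD2_c22 LD3_c11) Lrfl Lrfl
theorem f211033 : Led Lsl_dt (LP (LK LD1_c1 LD2_c22 LD3_c11)) = (LP (LK LD1_c1 LD2_c28 LD3_c17)) :=
  Lgr Lrot79 (Lpe (f211032 IH) (Lpe (f24588 IH) (Lpr_bf (f211026 IH) (Lpn (LP (LK LD1_c1 LD2_c28 LD3_c17))))))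
theorem f211036 : Led Lsl_df (LP (LK LD1_c1 LD2_c22 LD3_c11)) = (LP (LK LD1_c1 LD2_c28 LD3_c17)) :=
  Lgr Lrot38 (Lpr_dt (f211033 IH) (Lpn (LP (LK LD1_c1 LD2_c28 LD3_c17))))
theorem f80824 : Led Lsl_et (LP (LK LD1_c1 LD2_c28 LD3_c17)) = (LP (LK LD1_c0 LD2_c40 LD3_c48)) :=
  Lre_e IH (LK LD1_c1 LD2_c28 LD3_c17) (LK LD1_c0 LD2_c40 LD3_c48) Lrfl Lrfl
theorem f80823 : Led Lsl_gt (LP (LK LD1_c0 LD2_c40 LD3_c48)) = (LP (LK LD1_c1 LD2_c27 LD3_c56)) :=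
  Lre_g IH (LK LD1_c0 LD2_c40 LD3_c48) (LK LD1_c1 LD2_c27 LD3_c56) Lrfl Lrfl
theorem f80794 : Led Lsl_bt (LP (LK LD1_c1 LD2_c27 LD3_c51)) = (LP (LK LD1_c0 LD2_c40 LD3_c39)) :=
  Lre_b IH (LK LD1_c1 LD2_c27 LD3_c51) (LK LD1_c0 LD2_c40 LD3_c39) Lrfl Lrfl
theorem f80795 : Led Lsl_ft (LP (LK LD1_c0 LD2_c40 LD3_c39)) = (LP (LK LD1_c0 LD2_c55 LD3_c21)) :=
  Lgr Lrot75 (Lpe (f80794 IH) (Lpr_ff (f80718 IH) (Lpe (K4.f80444 IH) (Lpn (LP (LK LD1_c0 LD2_c55 LD3_c21))))))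
theorem f80802 : Led Lsl_ct (LP (LK LD1_c0 LD2_c18 LD3_c12)) = (LP (LK LD1_c0 LD2_c40 LD3_c39)) :=
  Lre_c IH (LK LD1_c0 LD2_c18 LD3_c12) (LK LD1_c0 LD2_c40 LD3_c39) Lrfl Lrfl
theorem f80803 : Led Lsl_ff (LP (LK LD1_c0 LD2_c18 LD3_c12)) = (LP (LK LD1_c0 LD2_c25 LD3_c5)) :=
  Lgr Lrot23 (Lpr_ct (f80802 IH) (Lpr_ft (f80795 IH) (Lpr_ct (K4.f59626 IH) (Lpn (LP (LK LD1_c0 LD2_c25 LD3_c5))))))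
theorem f80812 : Led Lsl_ft (LP (LK LD1_c0 LD2_c18 LD3_c12)) = (LP (LK LD1_c0 LD2_c25 LD3_c5)) :=
  Lgr Lrot48 (Lpr_ff (f80803 IH) (Lpn (LP (LK LD1_c0 LD2_c25 LD3_c5))))
theorem f80818 : Led Lsl_et (LP (LK LD1_c0 LD2_c40 LD3_c40)) = (LP (LK LD1_c0 LD2_c18 LD3_c12)) :=
  Lre_e IH (LK LD1_c0 LD2_c40 LD3_c40) (LK LD1_c0 LD2_c18 LD3_c12) Lrfl Lrfl
theorem f80534 : Led Lsl_et (LP (LK LD1_c0 LD2_c25 LD3_c5)) = (LP (LK LD1_c0 LD2_c55 LD3_c22)) :=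
  Lre_e IH (LK LD1_c0 LD2_c25 LD3_c5) (LK LD1_c0 LD2_c55 LD3_c22) Lrfl Lrfl
theorem f80820 : Led Lsl_ef (LP (LK LD1_c1 LD2_c27 LD3_c56)) = (LP (LK LD1_c1 LD2_c57 LD3_c5)) :=
  Lgr Lrot21 (Lpr_ft (f80819 IH) (Lpr_et (f80818 IH) (Lpr_ft (f80812 IH) (Lpr_et (f80534 IH) (Lpr_ft (f80649 IH) (Lpn (LP (LK LD1_c1 LD2_c57 LD3_c5))))))))
theorem f69686 : Led Lsl_gt (LP (LK LD1_c1 LD2_c27 LD3_c56)) = (LP (LK LD1_c0 LD2_c40 LD3_c49)) :=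
  Lre_g IH (LK LD1_c1 LD2_c27 LD3_c56) (LK LD1_c0 LD2_c40 LD3_c49) Lrfl Lrfl
theorem f59096 : Led Lsl_dt (LP (LK LD1_c1 LD2_c28 LD3_c19)) = (LP (LK LD1_c0 LD2_c40 LD3_c49)) :=
  Lre_d IH (LK LD1_c1 LD2_c28 LD3_c19) (LK LD1_c0 LD2_c40 LD3_c49) Lrfl Lrfl
theorem f35622 : Led Lsl_gt (LP (LK LD1_c0 LD2_c55 LD3_c23)) = (LP (LK LD1_c1 LD2_c57 LD3_c6)) :=
  Lre_g IH (LK LD1_c0 LD2_c55 LD3_c23) (LK LD1_c1 LD2_c57 LD3_c6) Lrfl Lrfl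
theorem f59094 : Led Lsl_et (LP (LK LD1_c0 LD2_c30 LD3_c24)) = (LP (LK LD1_c0 LD2_c13 LD3_c30)) :=
  Lre_e IH (LK LD1_c0 LD2_c30 LD3_c24) (LK LD1_c0 LD2_c13 LD3_c30) Lrfl Lrfl
theorem f59047 : Led Lsl_bt (LP (LK LD1_c1 LD2_c6 LD3_c28)) = (LP (LK LD1_c0 LD2_c30 LD3_c29)) :=
  Lre_b IH (LK LD1_c1 LD2_c6 LD3_c28) (LK LD1_c0 LD2_c30 LD3_c29) Lrfl Lrfl
theorem f59048 : Led Lsl_bt (LP (LK LD1_c0 LD2_c18 LD3_c24)) = (LP (LK LD1_c0 LD2_c40 LD3_c50)) :=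
  Lre_b IH (LK LD1_c0 LD2_c18 LD3_c24) (LK LD1_c0 LD2_c40 LD3_c50) Lrfl Lrfl
theorem f59049 : Led Lsl_df (LP (LK LD1_c1 LD2_c6 LD3_c28)) = (LP (LK LD1_c0 LD2_c40 LD3_c50)) :=
  Lgr Lrot12 (Lpr_bt (f59047 IH) (Lpr_dt (f59040 IH) (Lpr_bt (f59048 IH) (Lpn (LP (LK LD1_c0 LD2_c40 LD3_c50))))))
theorem f59064 : Led Lsl_ft (LP (LK LD1_c0 LD2_c18 LD3_c16)) = (LP (LK LD1_c0 LD2_c40 LD3_c50)) :=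
  Lre_f IH (LK LD1_c0 LD2_c18 LD3_c16) (LK LD1_c0 LD2_c40 LD3_c50) Lrfl Lrfl
theorem f59065 : Led Lsl_dt (LP (LK LD1_c0 LD2_c30 LD3_c24)) = (LP (LK LD1_c0 LD2_c18 LD3_c16)) :=
  Lgr Lrot60 (Lpe (f59063 IH) (Lpr_df (f59049 IH) (Lpe (f59064 IH) (Lpn (LP (LK LD1_c0 LD2_c18 LD3_c16))))))
theorem f59095 : Led Lsl_gt (LP (LK LD1_c0 LD2_c40 LD3_c49)) = (LP (LK LD1_c0 LD2_c18 LD3_c16)) :=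
  Lre_g IH (LK LD1_c0 LD2_c40 LD3_c49) (LK LD1_c0 LD2_c18 LD3_c16) Lrfl Lrfl
theorem f69680 : Led Lsl_ef (LP (LK LD1_c1 LD2_c57 LD3_c6)) = (LP (LK LD1_c1 LD2_c28 LD3_c19)) :=
  Lgr Lrot17 (Lpe (f35622 IH) (Lpe (K1.f35619 IH) (Lpr_dt (K1.f35599 IH) (Lpr_gf (K1.f34692 IH) (Lpr_df (K2.f69506 IH) (Lpe (K2.f27023 IH) (Lpe (f59094 IH) (Lpr_dt (f59065 IH) (Lpe (f59095 IH) (Lpe (f59096 IH) (Lpn (LP (LK LD1_c1 LD2_c28 LD3_c19)))))))))))))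
theorem f35655 : Led Lsl_gt (LP (LK LD1_c1 LD2_c57 LD3_c6)) = (LP (LK LD1_c1 LD2_c26 LD3_c21)) :=
  Lgr Lrot46 (Lpe (f35622 IH) (Lpr_ft (K1.f35623 IH) (Lpr_at (f35653 IH) (Lpn (LP (LK LD1_c1 LD2_c26 LD3_c21))))))
theorem f211040 : Led Lsl_gf (LP (LK LD1_c1 LD2_c22 LD3_c11)) = (LP (LK LD1_c1 LD2_c26 LD3_c21)) :=
  Lgr Lrot134 (Lpr_df (f211036 IH) (Lpr_et (f80824 IH) (Lpr_gt (f80823 IH) (Lpr_ef (f80820 IH) (Lpr_dt (f205283 IH) (Lpr_gt (f69686 IH) (Lpe (f59096 IH) (Lpe (f69680 IH) (Lpr_gt (f35655 IH) (Lpe (K1.f27249 IH) (Lpn (LP (LK LD1_c1 LD2_c26 LD3_c21)))))))))))))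
theorem f198503 : Led Lsl_gt (LP (LK LD1_c0 LD2_c38 LD3_c15)) = (LP (LK LD1_c1 LD2_c4 LD3_c48)) :=
  Lgr Lrot46 (Lpr_gf (f198501 IH) (Lpr_ft (K2.f71451 IH) (Lpe (K10.f71413 IH) (Lpn (LP (LK LD1_c1 LD2_c4 LD3_c48))))))
theorem f37684 : Led Lsl_ct (LP (LK LD1_c0 LD2_c32 LD3_c47)) = (LP (LK LD1_c1 LD2_c10 LD3_c43)) :=
  Lre_c IH (LK LD1_c0 LD2_c32 LD3_c47) (LK LD1_c1 LD2_c10 LD3_c43) Lrfl Lrfl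
theorem f37693 : Led Lsl_gt (LP (LK LD1_c2 LD2_c26 LD3_c53)) = (LP (LK LD1_c1 LD2_c10 LD3_c43)) :=
  Lre_g IH (LK LD1_c2 LD2_c26 LD3_c53) (LK LD1_c1 LD2_c10 LD3_c43) Lrfl Lrfl
theorem f211043 : Led Lsl_ct (LP (LK LD1_c1 LD2_c22 LD3_c11)) = (LP (LK LD1_c2 LD2_c26 LD3_c53)) :=
  Lgr Lrot91 (Lpr_gf (f211040 IH) (Lpe (K1.f27248 IH) (Lpe (K10.f71477 IH) (Lpe (f198503 IH) (Lpe (f24257 IH) (Lpr_bt (f198485 IH) (Lpe (K10.f37720 IH) (Lpe (K1.f37698 IH) (Lpr_ct (f37684 IH) (Lpe (f37693 IH) (Lpn (LP (LK LD1_c2 LD2_c26 LD3_c53)))))))))))))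
theorem f24591 : Led Lsl_bt (LP (LK LD1_c1 LD2_c22 LD3_c11)) = (LP (LK LD1_c0 LD2_c38 LD3_c3)) :=
  Lre_b IH (LK LD1_c1 LD2_c22 LD3_c11) (LK LD1_c0 LD2_c38 LD3_c3) Lrfl Lrfl
theorem f24244 : Led Lsl_ct (LP (LK LD1_c0 LD2_c7 LD3_c36)) = (LP (LK LD1_c0 LD2_c17 LD3_c1)) :=
  Lre_c IH (LK LD1_c0 LD2_c7 LD3_c36) (LK LD1_c0 LD2_c17 LD3_c1) Lrfl Lrfl
theorem f24245 : Led Lsl_gt (LP (LK LD1_c0 LD2_c17 LD3_c1)) = (LP (LK LD1_c0 LD2_c38 LD3_c11)) :=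
  Lre_g IH (LK LD1_c0 LD2_c17 LD3_c1) (LK LD1_c0 LD2_c38 LD3_c11) Lrfl Lrfl
theorem f59005 : Led Lsl_gt (LP (LK LD1_c1 LD2_c28 LD3_c45)) = (LP (LK LD1_c0 LD2_c40 LD3_c61)) :=
  Lre_g IH (LK LD1_c1 LD2_c28 LD3_c45) (LK LD1_c0 LD2_c40 LD3_c61) Lrfl Lrfl
theorem f210156 : Led Lsl_gt (LP (LK LD1_c2 LD2_c17 LD3_c54)) = (LP (LK LD1_c1 LD2_c28 LD3_c45)) :=
  Lgr Lrot5 (Lpr_ft (f25977 IH) (Lpr_at (f210066 IH) (Lpe (f59005 IH) (Lpn (LP (LK LD1_c1 LD2_c28 LD3_c45))))))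
theorem f59811 : Led Lsl_et (LP (LK LD1_c0 LD2_c18 LD3_c21)) = (LP (LK LD1_c0 LD2_c8 LD3_c15)) :=
  Lre_e IH (LK LD1_c0 LD2_c18 LD3_c21) (LK LD1_c0 LD2_c8 LD3_c15) Lrfl Lrfl
theorem f58988 : Led Lsl_dt (LP (LK LD1_c0 LD2_c18 LD3_c21)) = (LP (LK LD1_c0 LD2_c40 LD3_c61)) :=
  Lre_d IH (LK LD1_c0 LD2_c18 LD3_c21) (LK LD1_c0 LD2_c40 LD3_c61) Lrfl Lrfl
theorem f185749 : Led Lsl_et (LP (LK LD1_c1 LD2_c13 LD3_c49)) = (LP (LK LD1_c0 LD2_c34 LD3_c11)) :=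
  Lre_e IH (LK LD1_c1 LD2_c13 LD3_c49) (LK LD1_c0 LD2_c34 LD3_c11) Lrfl Lrfl
theorem f185769 : Led Lsl_df (LP (LK LD1_c1 LD2_c28 LD3_c45)) = (LP (LK LD1_c1 LD2_c13 LD3_c49)) :=
  Lgr Lrot170 (Lpr_gt (f59005 IH) (Lpe (f58988 IH) (Lpr_et (f59811 IH) (Lpr_gt (K1.f59724 IH) (Lpe (K10.f59794 IH) (Lpe (K0.f27150 IH) (Lpe (K0.f20603 IH) (Lpr_et (K10.f27163 IH) (Lpr_gt (K10.f185750 IH) (Lpe (f185749 IH) (Lpn (LP (LK LD1_c1 LD2_c13 LD3_c49)))))))))))))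
theorem f20492 : Led Lsl_ct (LP (LK LD1_c1 LD2_c4 LD3_c13)) = (LP (LK LD1_c0 LD2_c29 LD3_c21)) :=
  Lre_c IH (LK LD1_c1 LD2_c4 LD3_c13) (LK LD1_c0 LD2_c29 LD3_c21) Lrfl Lrfl
theorem f20493 : Led Lsl_et (LP (LK LD1_c0 LD2_c34 LD3_c9)) = (LP (LK LD1_c1 LD2_c4 LD3_c13)) :=
  Lgr Lrot158 (Lpe (K10.f20491 IH) (Lpr_ef (K9.f20488 IH) (Lpe (f20492 IH) (Lpn (LP (LK LD1_c1 LD2_c4 LD3_c13))))))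
theorem f210559 : Led Lsl_gf (LP (LK LD1_c0 LD2_c42 LD3_c11)) = (LP (LK LD1_c1 LD2_c4 LD3_c13)) :=
  Lgr Lrot141 (Lpe (f204475 IH) (Lpr_dt (f25964 IH) (Lpr_gt (f210156 IH) (Lpr_df (f185769 IH) (Lpr_et (f185749 IH) (Lpe (K10.f185747 IH) (Lpr_dt (K9.f71280 IH) (Lpr_gt (K10.f185158 IH) (Lpe (K10.f20504 IH) (Lpr_et (f20493 IH) (Lpn (LP (LK LD1_c1 LD2_c4 LD3_c13)))))))))))))
theorem f59077 : Led Lsl_ct (LP (LK LD1_c1 LD2_c6 LD3_c25)) = (LP (LK LD1_c0 LD2_c30 LD3_c24)) :=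
  Lre_c IH (LK LD1_c1 LD2_c6 LD3_c25) (LK LD1_c0 LD2_c30 LD3_c24) Lrfl Lrfl
theorem f205302 : Led Lsl_at (LP (LK LD1_c1 LD2_c57 LD3_c3)) = (LP (LK LD1_c1 LD2_c6 LD3_c25)) :=
  Lgr Lrot107 (Lpe (K4.f80644 IH) (Lpr_af (f205296 IH) (Lpe (f59077 IH) (Lpn (LP (LK LD1_c1 LD2_c6 LD3_c25))))))
theorem f205304 : Led Lsl_af (LP (LK LD1_c1 LD2_c57 LD3_c3)) = (LP (LK LD1_c1 LD2_c6 LD3_c25)) :=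
  Lgr Lrot0 (Lpr_at (f205302 IH) (Lpn (LP (LK LD1_c1 LD2_c6 LD3_c25))))
theorem f205183 : Led Lsl_ft (LP (LK LD1_c2 LD2_c18 LD3_c50)) = (LP (LK LD1_c1 LD2_c6 LD3_c25)) :=
  Lre_f IH (LK LD1_c2 LD2_c18 LD3_c50) (LK LD1_c1 LD2_c6 LD3_c25) Lrfl Lrfl
theorem f205093 : Led Lsl_bf (LP (LK LD1_c0 LD2_c18 LD3_c51)) = (LP (LK LD1_c0 LD2_c16 LD3_c54)) :=
  Lgr Lrot24 (Lpr_bt (f204893 IH) (Lpn (LP (LK LD1_c0 LD2_c16 LD3_c54))))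
theorem f59059 : Led Lsl_ct (LP (LK LD1_c1 LD2_c6 LD3_c28)) = (LP (LK LD1_c2 LD2_c18 LD3_c50)) :=
  Lre_c IH (LK LD1_c1 LD2_c6 LD3_c28) (LK LD1_c2 LD2_c18 LD3_c50) Lrfl Lrfl
theorem f68583 : Led Lsl_et (LP (LK LD1_c0 LD2_c8 LD3_c28)) = (LP (LK LD1_c0 LD2_c18 LD3_c50)) :=
  Lre_e IH (LK LD1_c0 LD2_c8 LD3_c28) (LK LD1_c0 LD2_c18 LD3_c50) Lrfl Lrfl
theorem f169780 : Led Lsl_gf (LP (LK LD1_c0 LD2_c37 LD3_c51)) = (LP (LK LD1_c0 LD2_c18 LD3_c50)) :=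
  Lgr Lrot141 (Lpr_ef (f22133 IH) (Lpr_dt (K9.f22147 IH) (Lpr_gt (K9.f169748 IH) (Lpe (K9.f68585 IH) (Lpr_et (K9.f68584 IH) (Lpr_gt (K0.f22453 IH) (Lpr_dt (K0.f22827 IH) (Lpr_gt (K1.f22974 IH) (Lpr_df (K4.f68535 IH) (Lpr_et (f68583 IH) (Lpn (LP (LK LD1_c0 LD2_c18 LD3_c50)))))))))))))
theorem f25990 : Led Lsl_bt (LP (LK LD1_c0 LD2_c42 LD3_c14)) = (LP (LK LD1_c0 LD2_c18 LD3_c52)) :=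
  Lre_b IH (LK LD1_c0 LD2_c42 LD3_c14) (LK LD1_c0 LD2_c18 LD3_c52) Lrfl Lrfl
theorem f169790 : Led Lsl_ct (LP (LK LD1_c0 LD2_c42 LD3_c14)) = (LP (LK LD1_c1 LD2_c31 LD3_c28)) :=
  Lre_c IH (LK LD1_c0 LD2_c42 LD3_c14) (LK LD1_c1 LD2_c31 LD3_c28) Lrfl Lrfl
theorem f205181 : Led Lsl_gt (LP (LK LD1_c2 LD2_c18 LD3_c50)) = (LP (LK LD1_c1 LD2_c31 LD3_c28)) :=
  Lgr Lrot65 (Lpe (f59059 IH) (Lpr_bt (f59047 IH) (Lpe (f204373 IH) (Lpr_bf (f205093 IH) (Lpr_ct (f22122 IH) (Lpr_gf (f169780 IH) (Lpe (f25923 IH) (Lpe (f25956 IH) (Lpe (f25990 IH) (Lpr_ct (f169790 IH) (Lpn (LP (LK LD1_c1 LD2_c31 LD3_c28)))))))))))))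
theorem f205315 : Led Lsl_gf (LP (LK LD1_c1 LD2_c57 LD3_c3)) = (LP (LK LD1_c1 LD2_c31 LD3_c28)) :=
  Lgr Lrot76 (Lpr_af (f205304 IH) (Lpe (f205183 IH) (Lpr_gt (f205181 IH) (Lpn (LP (LK LD1_c1 LD2_c31 LD3_c28))))))
theorem f59388 : Led Lsl_gt (LP (LK LD1_c0 LD2_c28 LD3_c16)) = (LP (LK LD1_c1 LD2_c1 LD3_c58)) :=
  Lre_g IH (LK LD1_c0 LD2_c28 LD3_c16) (LK LD1_c1 LD2_c1 LD3_c58) Lrfl Lrfl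
theorem f59390 : Led Lsl_ct (LP (LK LD1_c1 LD2_c1 LD3_c58)) = (LP (LK LD1_c2 LD2_c9 LD3_c43)) :=
  Lre_c IH (LK LD1_c1 LD2_c1 LD3_c58) (LK LD1_c2 LD2_c9 LD3_c43) Lrfl Lrfl
theorem f205317 : Led Lsl_gt (LP (LK LD1_c2 LD2_c9 LD3_c43)) = (LP (LK LD1_c2 LD2_c18 LD3_c50)) :=
  Lgr Lrot149 (Lpe (f59390 IH) (Lpe (f59388 IH) (Lpe (f80642 IH) (Lpr_ct (K4.f80644 IH) (Lpr_gf (f205315 IH) (Lpe (f169790 IH) (Lpr_bt (f25990 IH) (Lpr_gf (f204383 IH) (Lpe (f59047 IH) (Lpr_ct (f59059 IH) (Lpn (LP (LK LD1_c2 LD2_c18 LD3_c50)))))))))))))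
theorem f25986 : Led Lsl_ct (LP (LK LD1_c0 LD2_c18 LD3_c52)) = (LP (LK LD1_c0 LD2_c42 LD3_c15)) :=
  Lre_c IH (LK LD1_c0 LD2_c18 LD3_c52) (LK LD1_c0 LD2_c42 LD3_c15) Lrfl Lrfl
theorem f61313 : Led Lsl_ct (LP (LK LD1_c0 LD2_c16 LD3_c43)) = (LP (LK LD1_c0 LD2_c7 LD3_c27)) :=
  Lre_c IH (LK LD1_c0 LD2_c16 LD3_c43) (LK LD1_c0 LD2_c7 LD3_c27) Lrfl Lrfl
theorem f146298 : Led Lsl_ct (LP (LK LD1_c0 LD2_c29 LD3_c20)) = (LP (LK LD1_c0 LD2_c12 LD3_c57)) :=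
  Lre_c IH (LK LD1_c0 LD2_c29 LD3_c20) (LK LD1_c0 LD2_c12 LD3_c57) Lrfl Lrfl
theorem f205212 : Led Lsl_gf (LP (LK LD1_c0 LD2_c29 LD3_c20)) = (LP (LK LD1_c0 LD2_c42 LD3_c15)) :=
  Lgr Lrot104 (Lpr_ct (f146298 IH) (Lpe (K6.f20442 IH) (Lpe (f61313 IH) (Lpe (K10.f56687 IH) (Lpe (f176625 IH) (Lpr_gf (f205210 IH) (Lpe (f59040 IH) (Lpe (f204383 IH) (Lpr_ct (f25986 IH) (Lpn (LP (LK LD1_c0 LD2_c42 LD3_c15))))))))))))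
theorem f146348 : Led Lsl_ct (LP (LK LD1_c0 LD2_c12 LD3_c57)) = (LP (LK LD1_c0 LD2_c29 LD3_c20)) :=
  Lre_c IH (LK LD1_c0 LD2_c12 LD3_c57) (LK LD1_c0 LD2_c29 LD3_c20) Lrfl Lrfl
theorem f205324 : Led Lsl_bt (LP (LK LD1_c1 LD2_c1 LD3_c58)) = (LP (LK LD1_c0 LD2_c29 LD3_c21)) :=
  Lgr Lrot92 (Lpr_ct (f59390 IH) (Lpr_gt (f205317 IH) (Lpe (f59059 IH) (Lpr_bt (f59047 IH) (Lpe (f204383 IH) (Lpr_ct (f25986 IH) (Lpe (f205212 IH) (Lpe (f146348 IH) (Lpe (f59659 IH) (Lpr_gt (K9.f20477 IH) (Lpn (LP (LK LD1_c0 LD2_c29 LD3_c21)))))))))))))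
theorem f205329 : Led Lsl_bf (LP (LK LD1_c1 LD2_c1 LD3_c58)) = (LP (LK LD1_c0 LD2_c29 LD3_c21)) :=
  Lgr Lrot24 (Lpr_bt (f205324 IH) (Lpn (LP (LK LD1_c0 LD2_c29 LD3_c21))))
theorem f210563 : Led Lsl_gt (LP (LK LD1_c0 LD2_c42 LD3_c5)) = (LP (LK LD1_c0 LD2_c42 LD3_c14)) :=
  Lgr Lrot82 (Lpe (K1.f25973 IH) (Lpr_ct (f25974 IH) (Lpr_gf (f210559 IH) (Lpe (K10.f20482 IH) (Lpe (f205329 IH) (Lpe (f59388 IH) (Lpe (f80642 IH) (Lpr_ct (K4.f80644 IH) (Lpr_gf (f205315 IH) (Lpe (f169790 IH) (Lpn (LP (LK LD1_c0 LD2_c42 LD3_c14)))))))))))))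
theorem f80671 : Led Lsl_ct (LP (LK LD1_c1 LD2_c57 LD3_c3)) = (LP (LK LD1_c0 LD2_c55 LD3_c22)) :=
  Lre_c IH (LK LD1_c1 LD2_c57 LD3_c3) (LK LD1_c0 LD2_c55 LD3_c22) Lrfl Lrfl
theorem f59070 : Led Lsl_ct (LP (LK LD1_c1 LD2_c27 LD3_c53)) = (LP (LK LD1_c0 LD2_c40 LD3_c40)) :=
  Lre_c IH (LK LD1_c1 LD2_c27 LD3_c53) (LK LD1_c0 LD2_c40 LD3_c40) Lrfl Lrfl
theorem f210575 : Led Lsl_gt (LP (LK LD1_c1 LD2_c1 LD3_c54)) = (LP (LK LD1_c1 LD2_c5 LD3_c55)) :=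
  Lgr Lrot9 (Lpe (K1.f36470 IH) (Lpr_gt (f210563 IH) (Lpr_ct (f169790 IH) (Lpe (f205315 IH) (Lpr_ct (f80671 IH) (Lpr_df (f205279 IH) (Lpe (f59070 IH) (Lpe (f205231 IH) (Lpe (f36598 IH) (Lpn (LP (LK LD1_c1 LD2_c5 LD3_c55))))))))))))
theorem f205450 : Led Lsl_ff (LP (LK LD1_c1 LD2_c1 LD3_c51)) = (LP (LK LD1_c0 LD2_c42 LD3_c2)) :=
  Lgr Lrot19 (Lpr_dt (K1.f35823 IH) (Lpr_ft (f205444 IH) (Lpr_dt (K4.f36309 IH) (Lpn (LP (LK LD1_c0 LD2_c42 LD3_c2))))))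
theorem f80325 : Led Lsl_et (LP (LK LD1_c1 LD2_c1 LD3_c51)) = (LP (LK LD1_c2 LD2_c9 LD3_c27)) :=
  Lre_e IH (LK LD1_c1 LD2_c1 LD3_c51) (LK LD1_c2 LD2_c9 LD3_c27) Lrfl Lrfl
theorem f59753 : Led Lsl_et (LP (LK LD1_c1 LD2_c31 LD3_c9)) = (LP (LK LD1_c0 LD2_c42 LD3_c2)) :=
  Lre_e IH (LK LD1_c1 LD2_c31 LD3_c9) (LK LD1_c0 LD2_c42 LD3_c2) Lrfl Lrfl
theorem f205462 : Led Lsl_ft (LP (LK LD1_c3 LD2_c10 LD3_c3)) = (LP (LK LD1_c1 LD2_c31 LD3_c9)) :=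
  Lre_f IH (LK LD1_c3 LD2_c10 LD3_c3) (LK LD1_c1 LD2_c31 LD3_c9) Lrfl Lrfl
theorem f205463 : Led Lsl_et (LP (LK LD1_c4 LD2_c24 LD3_c7)) = (LP (LK LD1_c3 LD2_c10 LD3_c3)) :=
  Lgr Lrot69 (Lpe (K4.f99302 IH) (Lpe (f80325 IH) (Lpr_ff (f205450 IH) (Lpe (f59753 IH) (Lpe (f205462 IH) (Lpn (LP (LK LD1_c3 LD2_c10 LD3_c3))))))))
theorem f205472 : Led Lsl_ef (LP (LK LD1_c4 LD2_c24 LD3_c7)) = (LP (LK LD1_c3 LD2_c10 LD3_c3)) :=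
  Lgr Lrot88 (Lpr_et (f205463 IH) (Lpn (LP (LK LD1_c3 LD2_c10 LD3_c3))))
theorem f205477 : Led Lsl_ct (LP (LK LD1_c6 LD2_c13 LD3_c54)) = (LP (LK LD1_c3 LD2_c10 LD3_c3)) :=
  Lgr Lrot15 (Lpe (f38132 IH) (Lpe (K4.f99292 IH) (Lpr_ef (f205472 IH) (Lpn (LP (LK LD1_c3 LD2_c10 LD3_c3))))))
theorem f38117 : Led Lsl_ft (LP (LK LD1_c3 LD2_c3 LD3_c46)) = (LP (LK LD1_c6 LD2_c13 LD3_c54)) :=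
  Lre_f IH (LK LD1_c3 LD2_c3 LD3_c46) (LK LD1_c6 LD2_c13 LD3_c54) Lrfl Lrfl
theorem f205486 : Led Lsl_cf (LP (LK LD1_c3 LD2_c3 LD3_c46)) = (LP (LK LD1_c1 LD2_c31 LD3_c9)) :=
  Lgr Lrot108 (Lpr_ft (f38117 IH) (Lpr_ct (f205477 IH) (Lpr_ft (f205462 IH) (Lpn (LP (LK LD1_c1 LD2_c31 LD3_c9))))))
theorem f75761 : Led Lsl_at (LP (LK LD1_c1 LD2_c28 LD3_c11)) = (LP (LK LD1_c3 LD2_c3 LD3_c46)) :=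
  Lre_a IH (LK LD1_c1 LD2_c28 LD3_c11) (LK LD1_c3 LD2_c3 LD3_c46) Lrfl Lrfl
theorem f75747 : Led Lsl_ft (LP (LK LD1_c3 LD2_c4 LD3_c23)) = (LP (LK LD1_c1 LD2_c28 LD3_c11)) :=
  Lre_f IH (LK LD1_c3 LD2_c4 LD3_c23) (LK LD1_c1 LD2_c28 LD3_c11) Lrfl Lrfl
theorem f75743 : Led Lsl_dt (LP (LK LD1_c3 LD2_c4 LD3_c23)) = (LP (LK LD1_c6 LD2_c14 LD3_c58)) :=
  Lre_d IH (LK LD1_c3 LD2_c4 LD3_c23) (LK LD1_c6 LD2_c14 LD3_c58) Lrfl Lrfl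
theorem f75744 : Led Lsl_ct (LP (LK LD1_c6 LD2_c14 LD3_c58)) = (LP (LK LD1_c12 LD2_c8 LD3_c17)) :=
  Lre_c IH (LK LD1_c6 LD2_c14 LD3_c58) (LK LD1_c12 LD2_c8 LD3_c17) Lrfl Lrfl
theorem f75745 : Led Lsl_dt (LP (LK LD1_c12 LD2_c8 LD3_c17)) = (LP (LK LD1_c21 LD2_c14 LD3_c37)) :=
  Lre_d IH (LK LD1_c12 LD2_c8 LD3_c17) (LK LD1_c21 LD2_c14 LD3_c37) Lrfl Lrfl
theorem f205493 : Led Lsl_dt (LP (LK LD1_c3 LD2_c10 LD3_c2)) = (LP (LK LD1_c1 LD2_c31 LD3_c9)) :=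
  Lre_d IH (LK LD1_c3 LD2_c10 LD3_c2) (LK LD1_c1 LD2_c31 LD3_c9) Lrfl Lrfl
theorem f205494 : Led Lsl_ct (LP (LK LD1_c6 LD2_c24 LD3_c54)) = (LP (LK LD1_c3 LD2_c10 LD3_c2)) :=
  Lre_c IH (LK LD1_c6 LD2_c24 LD3_c54) (LK LD1_c3 LD2_c10 LD3_c2) Lrfl Lrfl
theorem f205495 : Led Lsl_dt (LP (LK LD1_c12 LD2_c22 LD3_c49)) = (LP (LK LD1_c6 LD2_c24 LD3_c54)) :=
  Lre_d IH (LK LD1_c12 LD2_c22 LD3_c49) (LK LD1_c6 LD2_c24 LD3_c54) Lrfl Lrfl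
theorem f205496 : Led Lsl_ct (LP (LK LD1_c21 LD2_c14 LD3_c37)) = (LP (LK LD1_c12 LD2_c22 LD3_c49)) :=
  Lgr Lrot41 (Lpe (f75745 IH) (Lpe (f75744 IH) (Lpe (f75743 IH) (Lpr_ft (f75747 IH) (Lpr_at (f75761 IH) (Lpr_cf (f205486 IH) (Lpe (f205493 IH) (Lpe (f205494 IH) (Lpe (f205495 IH) (Lpn (LP (LK LD1_c12 LD2_c22 LD3_c49))))))))))))
theorem f75606 : Led Lsl_et (LP (LK LD1_c8 LD2_c46 LD3_c20)) = (LP (LK LD1_c4 LD2_c24 LD3_c21)) :=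
  Lre_e IH (LK LD1_c8 LD2_c46 LD3_c20) (LK LD1_c4 LD2_c24 LD3_c21) Lrfl Lrfl
theorem f75642 : Led Lsl_et (LP (LK LD1_c3 LD2_c4 LD3_c14)) = (LP (LK LD1_c6 LD2_c14 LD3_c41)) :=
  Lre_e IH (LK LD1_c3 LD2_c4 LD3_c14) (LK LD1_c6 LD2_c14 LD3_c41) Lrfl Lrfl
theorem f75643 : Led Lsl_bf (LP (LK LD1_c8 LD2_c46 LD3_c20)) = (LP (LK LD1_c6 LD2_c14 LD3_c41)) :=
  Lgr Lrot96 (Lpr_et (f75606 IH) (Lpr_bt (f75635 IH) (Lpr_et (f75642 IH) (Lpn (LP (LK LD1_c6 LD2_c14 LD3_c41))))))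
theorem f75663 : Led Lsl_ft (LP (LK LD1_c8 LD2_c46 LD3_c20)) = (LP (LK LD1_c16 LD2_c24 LD3_c44)) :=
  Lre_f IH (LK LD1_c8 LD2_c46 LD3_c20) (LK LD1_c16 LD2_c24 LD3_c44) Lrfl Lrfl
theorem f75664 : Led Lsl_ft (LP (LK LD1_c12 LD2_c7 LD3_c37)) = (LP (LK LD1_c6 LD2_c14 LD3_c41)) :=
  Lre_f IH (LK LD1_c12 LD2_c7 LD3_c37) (LK LD1_c6 LD2_c14 LD3_c41) Lrfl Lrfl
theorem f75665 : Led Lsl_bt (LP (LK LD1_c16 LD2_c24 LD3_c44)) = (LP (LK LD1_c12 LD2_c7 LD3_c37)) :=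
  Lgr Lrot35 (Lpe (f75663 IH) (Lpr_bf (f75643 IH) (Lpe (f75664 IH) (Lpn (LP (LK LD1_c12 LD2_c7 LD3_c37))))))
theorem f75678 : Led Lsl_ct (LP (LK LD1_c8 LD2_c46 LD3_c24)) = (LP (LK LD1_c16 LD2_c24 LD3_c44)) :=
  Lre_c IH (LK LD1_c8 LD2_c46 LD3_c24) (LK LD1_c16 LD2_c24 LD3_c44) Lrfl Lrfl
theorem f75679 : Led Lsl_bt (LP (LK LD1_c4 LD2_c24 LD3_c27)) = (LP (LK LD1_c8 LD2_c46 LD3_c24)) :=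
  Lre_b IH (LK LD1_c4 LD2_c24 LD3_c27) (LK LD1_c8 LD2_c46 LD3_c24) Lrfl Lrfl
theorem f75680 : Led Lsl_ct (LP (LK LD1_c12 LD2_c7 LD3_c37)) = (LP (LK LD1_c6 LD2_c14 LD3_c45)) :=
  Lre_c IH (LK LD1_c12 LD2_c7 LD3_c37) (LK LD1_c6 LD2_c14 LD3_c45) Lrfl Lrfl
theorem f75681 : Led Lsl_bt (LP (LK LD1_c6 LD2_c14 LD3_c45)) = (LP (LK LD1_c3 LD2_c4 LD3_c23)) :=
  Lre_b IH (LK LD1_c6 LD2_c14 LD3_c45) (LK LD1_c3 LD2_c4 LD3_c23) Lrfl Lrfl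
theorem f75682 : Led Lsl_cf (LP (LK LD1_c4 LD2_c24 LD3_c27)) = (LP (LK LD1_c3 LD2_c4 LD3_c23)) :=
  Lgr Lrot97 (Lpr_bt (f75679 IH) (Lpr_ct (f75678 IH) (Lpr_bt (f75665 IH) (Lpr_ct (f75680 IH) (Lpr_bt (f75681 IH) (Lpn (LP (LK LD1_c3 LD2_c4 LD3_c23))))))))
theorem f75720 : Led Lsl_ct (LP (LK LD1_c4 LD2_c24 LD3_c27)) = (LP (LK LD1_c3 LD2_c4 LD3_c23)) :=
  Lgr Lrot59 (Lpr_cf (f75682 IH) (Lpn (LP (LK LD1_c3 LD2_c4 LD3_c23))))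
theorem f75733 : Led Lsl_dt (LP (LK LD1_c8 LD2_c46 LD3_c35)) = (LP (LK LD1_c4 LD2_c24 LD3_c27)) :=
  Lre_d IH (LK LD1_c8 LD2_c46 LD3_c35) (LK LD1_c4 LD2_c24 LD3_c27) Lrfl Lrfl
theorem f75748 : Led Lsl_ft (LP (LK LD1_c8 LD2_c46 LD3_c35)) = (LP (LK LD1_c4 LD2_c24 LD3_c26)) :=
  Lre_f IH (LK LD1_c8 LD2_c46 LD3_c35) (LK LD1_c4 LD2_c24 LD3_c26) Lrfl Lrfl
theorem f205514 : Led Lsl_at (LP (LK LD1_c4 LD2_c24 LD3_c26)) = (LP (LK LD1_c3 LD2_c10 LD3_c2)) :=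
  Lgr Lrot33 (Lpe (f75748 IH) (Lpr_dt (f75733 IH) (Lpr_ct (f75720 IH) (Lpr_dt (f75743 IH) (Lpr_ct (f75744 IH) (Lpr_dt (f75745 IH) (Lpr_ct (f205496 IH) (Lpr_dt (f205495 IH) (Lpr_ct (f205494 IH) (Lpn (LP (LK LD1_c3 LD2_c10 LD3_c2))))))))))))
theorem f205499 : Led Lsl_ft (LP (LK LD1_c3 LD2_c10 LD3_c2)) = (LP (LK LD1_c6 LD2_c24 LD3_c55)) :=
  Lre_f IH (LK LD1_c3 LD2_c10 LD3_c2) (LK LD1_c6 LD2_c24 LD3_c55) Lrfl Lrfl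
theorem f205535 : Led Lsl_af (LP (LK LD1_c8 LD2_c46 LD3_c35)) = (LP (LK LD1_c6 LD2_c24 LD3_c55)) :=
  Lgr Lrot45 (Lpr_ft (f75748 IH) (Lpr_at (f205514 IH) (Lpr_ft (f205499 IH) (Lpn (LP (LK LD1_c6 LD2_c24 LD3_c55))))))
theorem f75723 : Led Lsl_ct (LP (LK LD1_c8 LD2_c46 LD3_c35)) = (LP (LK LD1_c16 LD2_c25 LD3_c11)) :=
  Lre_c IH (LK LD1_c8 LD2_c46 LD3_c35) (LK LD1_c16 LD2_c25 LD3_c11) Lrfl Lrfl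
theorem f205488 : Led Lsl_ct (LP (LK LD1_c12 LD2_c22 LD3_c50)) = (LP (LK LD1_c6 LD2_c24 LD3_c55)) :=
  Lre_c IH (LK LD1_c12 LD2_c22 LD3_c50) (LK LD1_c6 LD2_c24 LD3_c55) Lrfl Lrfl
theorem f205540 : Led Lsl_at (LP (LK LD1_c16 LD2_c25 LD3_c11)) = (LP (LK LD1_c12 LD2_c22 LD3_c50)) :=
  Lgr Lrot107 (Lpe (f75723 IH) (Lpr_af (f205535 IH) (Lpe (f205488 IH) (Lpn (LP (LK LD1_c12 LD2_c22 LD3_c50))))))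
theorem f205554 : Led Lsl_af (LP (LK LD1_c16 LD2_c25 LD3_c11)) = (LP (LK LD1_c12 LD2_c22 LD3_c50)) :=
  Lgr Lrot0 (Lpr_at (f205540 IH) (Lpn (LP (LK LD1_c12 LD2_c22 LD3_c50))))
theorem f205564 : Led Lsl_ft (LP (LK LD1_c16 LD2_c25 LD3_c11)) = (LP (LK LD1_c8 LD2_c46 LD3_c34)) :=
  Lre_f IH (LK LD1_c16 LD2_c25 LD3_c11) (LK LD1_c8 LD2_c46 LD3_c34) Lrfl Lrfl
theorem f205565 : Led Lsl_ft (LP (LK LD1_c6 LD2_c24 LD3_c54)) = (LP (LK LD1_c12 LD2_c22 LD3_c50)) :=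
  Lre_f IH (LK LD1_c6 LD2_c24 LD3_c54) (LK LD1_c12 LD2_c22 LD3_c50) Lrfl Lrfl
theorem f205566 : Led Lsl_at (LP (LK LD1_c8 LD2_c46 LD3_c34)) = (LP (LK LD1_c6 LD2_c24 LD3_c54)) :=
  Lgr Lrot66 (Lpe (f205564 IH) (Lpr_af (f205554 IH) (Lpe (f205565 IH) (Lpn (LP (LK LD1_c6 LD2_c24 LD3_c54))))))
theorem f205578 : Led Lsl_et (LP (LK LD1_c4 LD2_c24 LD3_c30)) = (LP (LK LD1_c8 LD2_c46 LD3_c34)) :=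
  Lre_e IH (LK LD1_c4 LD2_c24 LD3_c30) (LK LD1_c8 LD2_c46 LD3_c34) Lrfl Lrfl
theorem f205579 : Led Lsl_et (LP (LK LD1_c6 LD2_c24 LD3_c54)) = (LP (LK LD1_c3 LD2_c10 LD3_c6)) :=
  Lre_e IH (LK LD1_c6 LD2_c24 LD3_c54) (LK LD1_c3 LD2_c10 LD3_c6) Lrfl Lrfl
theorem f205580 : Led Lsl_af (LP (LK LD1_c4 LD2_c24 LD3_c30)) = (LP (LK LD1_c3 LD2_c10 LD3_c6)) :=
  Lgr Lrot50 (Lpr_et (f205578 IH) (Lpr_at (f205566 IH) (Lpr_et (f205579 IH) (Lpn (LP (LK LD1_c3 LD2_c10 LD3_c6))))))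
theorem f59393 : Led Lsl_ct (LP (LK LD1_c4 LD2_c24 LD3_c30)) = (LP (LK LD1_c2 LD2_c9 LD3_c41)) :=
  Lre_c IH (LK LD1_c4 LD2_c24 LD3_c30) (LK LD1_c2 LD2_c9 LD3_c41) Lrfl Lrfl
theorem f205590 : Led Lsl_ct (LP (LK LD1_c1 LD2_c31 LD3_c11)) = (LP (LK LD1_c3 LD2_c10 LD3_c6)) :=
  Lre_c IH (LK LD1_c1 LD2_c31 LD3_c11) (LK LD1_c3 LD2_c10 LD3_c6) Lrfl Lrfl
theorem f205591 : Led Lsl_at (LP (LK LD1_c2 LD2_c9 LD3_c41)) = (LP (LK LD1_c1 LD2_c31 LD3_c11)) :=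
  Lgr Lrot107 (Lpe (f59393 IH) (Lpr_af (f205580 IH) (Lpe (f205590 IH) (Lpn (LP (LK LD1_c1 LD2_c31 LD3_c11))))))
theorem f205598 : Led Lsl_ft (LP (LK LD1_c4 LD2_c24 LD3_c31)) = (LP (LK LD1_c2 LD2_c9 LD3_c41)) :=
  Lre_f IH (LK LD1_c4 LD2_c24 LD3_c31) (LK LD1_c2 LD2_c9 LD3_c41) Lrfl Lrfl
theorem f36437 : Led Lsl_ft (LP (LK LD1_c1 LD2_c31 LD3_c11)) = (LP (LK LD1_c3 LD2_c10 LD3_c7)) :=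
  Lre_f IH (LK LD1_c1 LD2_c31 LD3_c11) (LK LD1_c3 LD2_c10 LD3_c7) Lrfl Lrfl
theorem f205599 : Led Lsl_af (LP (LK LD1_c4 LD2_c24 LD3_c31)) = (LP (LK LD1_c3 LD2_c10 LD3_c7)) :=
  Lgr Lrot45 (Lpr_ft (f205598 IH) (Lpr_at (f205591 IH) (Lpr_ft (f36437 IH) (Lpn (LP (LK LD1_c3 LD2_c10 LD3_c7))))))
theorem f80657 : Led Lsl_dt (LP (LK LD1_c4 LD2_c24 LD3_c31)) = (LP (LK LD1_c2 LD2_c9 LD3_c42)) :=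
  Lre_d IH (LK LD1_c4 LD2_c24 LD3_c31) (LK LD1_c2 LD2_c9 LD3_c42) Lrfl Lrfl
theorem f36468 : Led Lsl_dt (LP (LK LD1_c1 LD2_c31 LD3_c12)) = (LP (LK LD1_c3 LD2_c10 LD3_c7)) :=
  Lre_d IH (LK LD1_c1 LD2_c31 LD3_c12) (LK LD1_c3 LD2_c10 LD3_c7) Lrfl Lrfl
theorem f205603 : Led Lsl_at (LP (LK LD1_c2 LD2_c9 LD3_c42)) = (LP (LK LD1_c1 LD2_c31 LD3_c12)) :=
  Lgr Lrot51 (Lpe (f80657 IH) (Lpr_af (f205599 IH) (Lpe (f36468 IH) (Lpn (LP (LK LD1_c1 LD2_c31 LD3_c12))))))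
theorem f205613 : Led Lsl_af (LP (LK LD1_c2 LD2_c9 LD3_c42)) = (LP (LK LD1_c1 LD2_c31 LD3_c12)) :=
  Lgr Lrot0 (Lpr_at (f205603 IH) (Lpn (LP (LK LD1_c1 LD2_c31 LD3_c12))))
theorem f80655 : Led Lsl_ct (LP (LK LD1_c2 LD2_c9 LD3_c42)) = (LP (LK LD1_c1 LD2_c1 LD3_c59)) :=
  Lre_c IH (LK LD1_c2 LD2_c9 LD3_c42) (LK LD1_c1 LD2_c1 LD3_c59) Lrfl Lrfl
theorem f36467 : Led Lsl_ct (LP (LK LD1_c0 LD2_c42 LD3_c5)) = (LP (LK LD1_c1 LD2_c31 LD3_c12)) :=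
  Lre_c IH (LK LD1_c0 LD2_c42 LD3_c5) (LK LD1_c1 LD2_c31 LD3_c12) Lrfl Lrfl
theorem f205616 : Led Lsl_at (LP (LK LD1_c1 LD2_c1 LD3_c59)) = (LP (LK LD1_c0 LD2_c42 LD3_c5)) :=
  Lgr Lrot107 (Lpe (f80655 IH) (Lpr_af (f205613 IH) (Lpe (f36467 IH) (Lpn (LP (LK LD1_c0 LD2_c42 LD3_c5))))))
theorem f59385 : Led Lsl_ft (LP (LK LD1_c0 LD2_c28 LD3_c16)) = (LP (LK LD1_c1 LD2_c1 LD3_c59)) :=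
  Lre_f IH (LK LD1_c0 LD2_c28 LD3_c16) (LK LD1_c1 LD2_c1 LD3_c59) Lrfl Lrfl
theorem f205626 : Led Lsl_gt (LP (LK LD1_c1 LD2_c1 LD3_c58)) = (LP (LK LD1_c0 LD2_c42 LD3_c5)) :=
  Lgr Lrot46 (Lpe (f59388 IH) (Lpr_ft (f59385 IH) (Lpr_at (f205616 IH) (Lpn (LP (LK LD1_c0 LD2_c42 LD3_c5))))))
theorem f205331 : Led Lsl_ef (LP (LK LD1_c1 LD2_c1 LD3_c58)) = (LP (LK LD1_c0 LD2_c34 LD3_c4)) :=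
  Lgr Lrot29 (Lpr_bt (f205324 IH) (Lpe (K9.f20488 IH) (Lpr_bt (K10.f20490 IH) (Lpn (LP (LK LD1_c0 LD2_c34 LD3_c4))))))
theorem f35796 : Led Lsl_et (LP (LK LD1_c1 LD2_c1 LD3_c0)) = (LP (LK LD1_c1 LD2_c2 LD3_c5)) :=
  Lgr Lrot158 (Lpe (K0.f28636 IH) (Lpr_ef (K1.f35792 IH) (Lpe (K1.f35483 IH) (Lpn (LP (LK LD1_c1 LD2_c2 LD3_c5))))))
theorem f176685 : Led Lsl_dt (LP (LK LD1_c2 LD2_c17 LD3_c56)) = (LP (LK LD1_c1 LD2_c5 LD3_c55)) :=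
  Lre_d IH (LK LD1_c2 LD2_c17 LD3_c56) (LK LD1_c1 LD2_c5 LD3_c55) Lrfl Lrfl
theorem f210618 : Led Lsl_gf (LP (LK LD1_c1 LD2_c2 LD3_c5)) = (LP (LK LD1_c1 LD2_c10 LD3_c44)) :=
  Lgr Lrot141 (Lpe (f35796 IH) (Lpr_dt (K0.f28624 IH) (Lpe (K10.f187889 IH) (Lpe (K10.f171679 IH) (Lpe (f205331 IH) (Lpr_gt (f205626 IH) (Lpr_dt (K1.f36470 IH) (Lpr_gt (f210575 IH) (Lpe (f176685 IH) (Lpe (K10.f198050 IH) (Lpn (LP (LK LD1_c1 LD2_c10 LD3_c44)))))))))))))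
theorem f38367 : Led Lsl_at (LP (LK LD1_c1 LD2_c2 LD3_c10)) = (LP (LK LD1_c1 LD2_c26 LD3_c19)) :=
  Lgr Lrot51 (Lpe (K1.f38056 IH) (Lpr_af (K1.f38352 IH) (Lpe (K10.f27262 IH) (Lpn (LP (LK LD1_c1 LD2_c26 LD3_c19))))))
theorem f38408 : Led Lsl_ft (LP (LK LD1_c2 LD2_c10 LD3_c9)) = (LP (LK LD1_c1 LD2_c2 LD3_c10)) :=
  Lre_f IH (LK LD1_c2 LD2_c10 LD3_c9) (LK LD1_c1 LD2_c2 LD3_c10) Lrfl Lrfl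
theorem f198272 : Led Lsl_gt (LP (LK LD1_c2 LD2_c10 LD3_c9)) = (LP (LK LD1_c1 LD2_c22 LD3_c34)) :=
  Lgr Lrot5 (Lpr_ft (f38408 IH) (Lpr_at (f38367 IH) (Lpr_gf (K10.f198264 IH) (Lpn (LP (LK LD1_c1 LD2_c22 LD3_c34))))))
theorem f198060 : Led Lsl_et (LP (LK LD1_c1 LD2_c10 LD3_c44)) = (LP (LK LD1_c2 LD2_c17 LD3_c56)) :=
  Lgr Lrot87 (Lpr_ef (K10.f198050 IH) (Lpn (LP (LK LD1_c2 LD2_c17 LD3_c56))))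
theorem f186450 : Led Lsl_bt (LP (LK LD1_c2 LD2_c17 LD3_c56)) = (LP (LK LD1_c1 LD2_c5 LD3_c56)) :=
  Lre_b IH (LK LD1_c2 LD2_c17 LD3_c56) (LK LD1_c1 LD2_c5 LD3_c56) Lrfl Lrfl
theorem f198066 : Led Lsl_bf (LP (LK LD1_c1 LD2_c10 LD3_c44)) = (LP (LK LD1_c0 LD2_c39 LD3_c55)) :=
  Lgr Lrot96 (Lpr_et (f198060 IH) (Lpr_bt (f186450 IH) (Lpr_et (f185948 IH) (Lpn (LP (LK LD1_c0 LD2_c39 LD3_c55))))))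
theorem f210625 : Led Lsl_cf (LP (LK LD1_c0 LD2_c38 LD3_c11)) = (LP (LK LD1_c0 LD2_c39 LD3_c55)) :=
  Lgr Lrot163 (Lpe (f24245 IH) (Lpe (f24244 IH) (Lpe (K9.f24221 IH) (Lpe (K10.f24431 IH) (Lpr_ct (K10.f24559 IH) (Lpe (f198272 IH) (Lpr_cf (K1.f38399 IH) (Lpr_bt (K1.f35636 IH) (Lpr_gf (f210618 IH) (Lpr_bf (f198066 IH) (Lpn (LP (LK LD1_c0 LD2_c39 LD3_c55)))))))))))))
theorem f211056 : Led Lsl_gt (LP (LK LD1_c2 LD2_c9 LD3_c58)) = (LP (LK LD1_c2 LD2_c26 LD3_c53)) :=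
  Lgr Lrot149 (Lpe (K1.f35483 IH) (Lpr_gf (f210618 IH) (Lpr_bf (f198066 IH) (Lpe (f210625 IH) (Lpe (f24245 IH) (Lpe (f24244 IH) (Lpr_bt (f24417 IH) (Lpe (f24587 IH) (Lpe (f24591 IH) (Lpr_ct (f211043 IH) (Lpn (LP (LK LD1_c2 LD2_c26 LD3_c53)))))))))))))
theorem f28537 : Led Lsl_ct (LP (LK LD1_c1 LD2_c55 LD3_c25)) = (LP (LK LD1_c3 LD2_c57 LD3_c19)) :=
  Lre_c IH (LK LD1_c1 LD2_c55 LD3_c25) (LK LD1_c3 LD2_c57 LD3_c19) Lrfl Lrfl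
theorem f211049 : Led Lsl_cf (LP (LK LD1_c1 LD2_c22 LD3_c11)) = (LP (LK LD1_c2 LD2_c26 LD3_c53)) :=
  Lgr Lrot11 (Lpr_ct (f211043 IH) (Lpn (LP (LK LD1_c2 LD2_c26 LD3_c53))))
theorem f211031 : Led Lsl_ct (LP (LK LD1_c3 LD2_c4 LD3_c34)) = (LP (LK LD1_c1 LD2_c28 LD3_c17)) :=
  Lre_c IH (LK LD1_c3 LD2_c4 LD3_c34) (LK LD1_c1 LD2_c28 LD3_c17) Lrfl Lrfl
theorem f211100 : Led Lsl_gt (LP (LK LD1_c3 LD2_c57 LD3_c19)) = (LP (LK LD1_c3 LD2_c4 LD3_c34)) :=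
  Lgr Lrot150 (Lpe (f28537 IH) (Lpr_gf (K10.f56072 IH) (Lpe (K10.f56071 IH) (Lpe (f210618 IH) (Lpr_ct (K1.f35483 IH) (Lpr_gt (f211056 IH) (Lpe (f211049 IH) (Lpr_df (f211036 IH) (Lpe (f211031 IH) (Lpn (LP (LK LD1_c3 LD2_c4 LD3_c34))))))))))))
theorem f211109 : Led Lsl_et (LP (LK LD1_c1 LD2_c55 LD3_c24)) = (LP (LK LD1_c3 LD2_c57 LD3_c19)) :=
  Lre_e IH (LK LD1_c1 LD2_c55 LD3_c24) (LK LD1_c3 LD2_c57 LD3_c19) Lrfl Lrfl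
theorem f211110 : Led Lsl_dt (LP (LK LD1_c1 LD2_c55 LD3_c24)) = (LP (LK LD1_c3 LD2_c57 LD3_c18)) :=
  Lre_d IH (LK LD1_c1 LD2_c55 LD3_c24) (LK LD1_c3 LD2_c57 LD3_c18) Lrfl Lrfl
theorem f28542 : Led Lsl_ct (LP (LK LD1_c3 LD2_c57 LD3_c19)) = (LP (LK LD1_c1 LD2_c55 LD3_c25)) :=
  Lre_c IH (LK LD1_c3 LD2_c57 LD3_c19) (LK LD1_c1 LD2_c55 LD3_c25) Lrfl Lrfl
theorem f198270 : Led Lsl_gt (LP (LK LD1_c1 LD2_c55 LD3_c25)) = (LP (LK LD1_c1 LD2_c18 LD3_c55)) :=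
  Lgr Lrot137 (Lpe (K10.f28546 IH) (Lpr_dt (K10.f28531 IH) (Lpe (K10.f28518 IH) (Lpe (K1.f35597 IH) (Lpr_et (K9.f35596 IH) (Lpe (K1.f37903 IH) (Lpe (K10.f37432 IH) (Lpr_dt (K10.f37534 IH) (Lpr_gf (K10.f198260 IH) (Lpe (K10.f24550 IH) (Lpn (LP (LK LD1_c1 LD2_c18 LD3_c55)))))))))))))
theorem f37386 : Led Lsl_gt (LP (LK LD1_c4 LD2_c58 LD3_c8)) = (LP (LK LD1_c2 LD2_c26 LD3_c54)) :=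
  Lre_g IH (LK LD1_c4 LD2_c58 LD3_c8) (LK LD1_c2 LD2_c26 LD3_c54) Lrfl Lrfl
theorem f211107 : Led Lsl_df (LP (LK LD1_c4 LD2_c58 LD3_c8)) = (LP (LK LD1_c3 LD2_c4 LD3_c34)) :=
  Lgr Lrot153 (Lpr_gt (f37386 IH) (Lpr_dt (K1.f37682 IH) (Lpe (f37684 IH) (Lpe (K10.f37534 IH) (Lpr_gf (K10.f198260 IH) (Lpe (K10.f24550 IH) (Lpe (f198270 IH) (Lpe (f28542 IH) (Lpr_gt (f211100 IH) (Lpn (LP (LK LD1_c3 LD2_c4 LD3_c34))))))))))))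
theorem f37334 : Led Lsl_et (LP (LK LD1_c1 LD2_c10 LD3_c43)) = (LP (LK LD1_c0 LD2_c32 LD3_c46)) :=
  Lre_e IH (LK LD1_c1 LD2_c10 LD3_c43) (LK LD1_c0 LD2_c32 LD3_c46) Lrfl Lrfl
theorem f211111 : Led Lsl_gf (LP (LK LD1_c3 LD2_c57 LD3_c18)) = (LP (LK LD1_c1 LD2_c56 LD3_c61)) :=
  Lgr Lrot145 (Lpe (f211110 IH) (Lpr_et (f211109 IH) (Lpr_gt (f211100 IH) (Lpe (f211107 IH) (Lpr_gt (f37386 IH) (Lpe (K2.f37335 IH) (Lpr_et (f37334 IH) (Lpe (K1.f37324 IH) (Lpe (K1.f29567 IH) (Lpr_dt (K1.f29572 IH) (Lpn (LP (LK LD1_c1 LD2_c56 LD3_c61)))))))))))))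
theorem f29269 : Led Lsl_ft (LP (LK LD1_c1 LD2_c56 LD3_c61)) = (LP (LK LD1_c4 LD2_c0 LD3_c32)) :=
  Lre_f IH (LK LD1_c1 LD2_c56 LD3_c61) (LK LD1_c4 LD2_c0 LD3_c32) Lrfl Lrfl
theorem f29258 : Led Lsl_ct (LP (LK LD1_c0 LD2_c55 LD3_c19)) = (LP (LK LD1_c0 LD2_c25 LD3_c3)) :=
  Lre_c IH (LK LD1_c0 LD2_c55 LD3_c19) (LK LD1_c0 LD2_c25 LD3_c3) Lrfl Lrfl
theorem f29259 : Led Lsl_dt (LP (LK LD1_c1 LD2_c56 LD3_c61)) = (LP (LK LD1_c0 LD2_c55 LD3_c19)) :=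
  Lre_d IH (LK LD1_c1 LD2_c56 LD3_c61) (LK LD1_c0 LD2_c55 LD3_c19) Lrfl Lrfl
theorem f29270 : Led Lsl_at (LP (LK LD1_c4 LD2_c0 LD3_c32)) = (LP (LK LD1_c4 LD2_c0 LD3_c5)) :=
  Lgr Lrot33 (Lpe (f29269 IH) (Lpr_dt (f29259 IH) (Lpr_ct (f29258 IH) (Lpr_dt (K1.f29257 IH) (Lpr_ct (K1.f28939 IH) (Lpr_dt (K1.f28758 IH) (Lpr_ct (K1.f29245 IH) (Lpr_dt (K1.f29246 IH) (Lpr_ct (K1.f29247 IH) (Lpn (LP (LK LD1_c4 LD2_c0 LD3_c5))))))))))))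
theorem f211115 : Led Lsl_gt (LP (LK LD1_c3 LD2_c57 LD3_c18)) = (LP (LK LD1_c4 LD2_c0 LD3_c5)) :=
  Lgr Lrot46 (Lpr_gf (f211111 IH) (Lpr_ft (f29269 IH) (Lpr_at (f29270 IH) (Lpn (LP (LK LD1_c4 LD2_c0 LD3_c5))))))
theorem f182324 : Led Lsl_dt (LP (LK LD1_c0 LD2_c32 LD3_c28)) = (LP (LK LD1_c0 LD2_c14 LD3_c33)) :=
  Lre_d IH (LK LD1_c0 LD2_c32 LD3_c28) (LK LD1_c0 LD2_c14 LD3_c33) Lrfl Lrfl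
theorem f180287 : Led Lsl_gt (LP (LK LD1_c1 LD2_c10 LD3_c12)) = (LP (LK LD1_c0 LD2_c32 LD3_c28)) :=
  Lre_g IH (LK LD1_c1 LD2_c10 LD3_c12) (LK LD1_c0 LD2_c32 LD3_c28) Lrfl Lrfl
theorem f182326 : Led Lsl_ct (LP (LK LD1_c2 LD2_c26 LD3_c3)) = (LP (LK LD1_c1 LD2_c10 LD3_c12)) :=
  Lre_c IH (LK LD1_c2 LD2_c26 LD3_c3) (LK LD1_c1 LD2_c10 LD3_c12) Lrfl Lrfl
theorem f211123 : Led Lsl_gf (LP (LK LD1_c1 LD2_c55 LD3_c24)) = (LP (LK LD1_c2 LD2_c26 LD3_c3)) :=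
  Lgr Lrot144 (Lpr_dt (f211110 IH) (Lpr_gt (f211115 IH) (Lpr_dt (K1.f6939 IH) (Lpe (K1.f6950 IH) (Lpe (K1.f6943 IH) (Lpe (K9.f182320 IH) (Lpe (f182324 IH) (Lpe (f180287 IH) (Lpe (f182326 IH) (Lpn (LP (LK LD1_c2 LD2_c26 LD3_c3))))))))))))
theorem f174950 : Led Lsl_ct (LP (LK LD1_c0 LD2_c54 LD3_c26)) = (LP (LK LD1_c1 LD2_c55 LD3_c24)) :=
  Lre_c IH (LK LD1_c0 LD2_c54 LD3_c26) (LK LD1_c1 LD2_c55 LD3_c24) Lrfl Lrfl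
theorem f182325 : Led Lsl_ct (LP (LK LD1_c1 LD2_c10 LD3_c12)) = (LP (LK LD1_c2 LD2_c26 LD3_c3)) :=
  Lre_c IH (LK LD1_c1 LD2_c10 LD3_c12) (LK LD1_c2 LD2_c26 LD3_c3) Lrfl Lrfl
theorem f174948 : Led Lsl_ct (LP (LK LD1_c1 LD2_c55 LD3_c24)) = (LP (LK LD1_c0 LD2_c54 LD3_c26)) :=
  Lre_c IH (LK LD1_c1 LD2_c55 LD3_c24) (LK LD1_c0 LD2_c54 LD3_c26) Lrfl Lrfl
theorem f42870 : Led Lsl_ct (LP (LK LD1_c0 LD2_c54 LD3_c25)) = (LP (LK LD1_c0 LD2_c24 LD3_c34)) :=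
  Lre_c IH (LK LD1_c0 LD2_c54 LD3_c25) (LK LD1_c0 LD2_c24 LD3_c34) Lrfl Lrfl
theorem f28935 : Led Lsl_dt (LP (LK LD1_c0 LD2_c25 LD3_c2)) = (LP (LK LD1_c0 LD2_c55 LD3_c16)) :=
  Lre_d IH (LK LD1_c0 LD2_c25 LD3_c2) (LK LD1_c0 LD2_c55 LD3_c16) Lrfl Lrfl
theorem f211128 : Led Lsl_gt (LP (LK LD1_c0 LD2_c55 LD3_c16)) = (LP (LK LD1_c1 LD2_c10 LD3_c12)) :=
  Lgr Lrot9 (Lpe (f28935 IH) (Lpr_gt (K9.f28937 IH) (Lpr_ct (K1.f28939 IH) (Lpr_gt (K10.f196316 IH) (Lpr_ct (f42870 IH) (Lpe (K10.f28531 IH) (Lpe (f174948 IH) (Lpr_gf (f211123 IH) (Lpe (f182325 IH) (Lpn (LP (LK LD1_c1 LD2_c10 LD3_c12))))))))))))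
theorem f180212 : Led Lsl_ct (LP (LK LD1_c0 LD2_c28 LD3_c7)) = (LP (LK LD1_c1 LD2_c1 LD3_c37)) :=
  Lre_c IH (LK LD1_c0 LD2_c28 LD3_c7) (LK LD1_c1 LD2_c1 LD3_c37) Lrfl Lrfl
theorem f180216 : Led Lsl_ct (LP (LK LD1_c1 LD2_c1 LD3_c37)) = (LP (LK LD1_c0 LD2_c28 LD3_c7)) :=
  Lre_c IH (LK LD1_c1 LD2_c1 LD3_c37) (LK LD1_c0 LD2_c28 LD3_c7) Lrfl Lrfl
theorem f29239 : Led Lsl_af (LP (LK LD1_c0 LD2_c25 LD3_c4)) = (LP (LK LD1_c0 LD2_c24 LD3_c60)) :=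
  Lgr Lrot68 (Lpr_ct (K1.f29176 IH) (Lpr_at (K1.f29190 IH) (Lpr_ct (K0.f6935 IH) (Lpn (LP (LK LD1_c0 LD2_c24 LD3_c60))))))
theorem f30816 : Led Lsl_gf (LP (LK LD1_c0 LD2_c25 LD3_c4)) = (LP (LK LD1_c0 LD2_c24 LD3_c58)) :=
  Lgr Lrot76 (Lpr_af (f29239 IH) (Lpe (K0.f2982 IH) (Lpr_gt (K10.f2983 IH) (Lpn (LP (LK LD1_c0 LD2_c24 LD3_c58))))))
theorem f30818 : Led Lsl_dt (LP (LK LD1_c0 LD2_c55 LD3_c7)) = (LP (LK LD1_c0 LD2_c24 LD3_c58)) :=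
  Lre_d IH (LK LD1_c0 LD2_c55 LD3_c7) (LK LD1_c0 LD2_c24 LD3_c58) Lrfl Lrfl
theorem f30819 : Led Lsl_ct (LP (LK LD1_c0 LD2_c56 LD3_c33)) = (LP (LK LD1_c1 LD2_c59 LD3_c27)) :=
  Lre_c IH (LK LD1_c0 LD2_c56 LD3_c33) (LK LD1_c1 LD2_c59 LD3_c27) Lrfl Lrfl
theorem f187090 : Led Lsl_gf (LP (LK LD1_c1 LD2_c1 LD3_c37)) = (LP (LK LD1_c1 LD2_c59 LD3_c27)) :=
  Lgr Lrot104 (Lpr_ct (f180216 IH) (Lpe (K9.f166460 IH) (Lpe (K10.f180209 IH) (Lpr_gf (K10.f187080 IH) (Lpe (K1.f29176 IH) (Lpr_gf (f30816 IH) (Lpe (f30818 IH) (Lpr_gt (K10.f6928 IH) (Lpr_ct (f30819 IH) (Lpn (LP (LK LD1_c1 LD2_c59 LD3_c27))))))))))))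
theorem f211133 : Led Lsl_bt (LP (LK LD1_c0 LD2_c54 LD3_c26)) = (LP (LK LD1_c0 LD2_c55 LD3_c7)) :=
  Lgr Lrot22 (Lpr_ct (f174950 IH) (Lpr_gf (f211123 IH) (Lpe (f182325 IH) (Lpe (f211128 IH) (Lpr_bf (K9.f181975 IH) (Lpr_ct (f180212 IH) (Lpr_gf (f187090 IH) (Lpe (f30819 IH) (Lpe (K10.f192791 IH) (Lpe (K10.f6928 IH) (Lpn (LP (LK LD1_c0 LD2_c55 LD3_c7)))))))))))))
theorem f211148 : Led Lsl_bt (LP (LK LD1_c1 LD2_c10 LD3_c12)) = (LP (LK LD1_c1 LD2_c10 LD3_c12)) :=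
  Lgr Lrot92 (Lpr_ct (f182325 IH) (Lpe (f211123 IH) (Lpe (f174950 IH) (Lpr_bt (f211133 IH) (Lpr_gt (K10.f6928 IH) (Lpr_ct (f30819 IH) (Lpe (f187090 IH) (Lpe (f180212 IH) (Lpe (K9.f181975 IH) (Lpr_gt (f211128 IH) (Lpn (LP (LK LD1_c1 LD2_c10 LD3_c12)))))))))))))
theorem f172557 : Led Lsl_bt (LP (LK LD1_c0 LD2_c14 LD3_c34)) = (LP (LK LD1_c0 LD2_c32 LD3_c28)) :=
  Lre_b IH (LK LD1_c0 LD2_c14 LD3_c34) (LK LD1_c0 LD2_c32 LD3_c28) Lrfl Lrfl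
theorem f164978 : Led Lsl_bt (LP (LK LD1_c0 LD2_c16 LD3_c7)) = (LP (LK LD1_c0 LD2_c36 LD3_c13)) :=
  Lre_b IH (LK LD1_c0 LD2_c16 LD3_c7) (LK LD1_c0 LD2_c36 LD3_c13) Lrfl Lrfl
theorem f56561 : Led Lsl_ct (LP (LK LD1_c0 LD2_c32 LD3_c35)) = (LP (LK LD1_c1 LD2_c10 LD3_c24)) :=
  Lre_c IH (LK LD1_c0 LD2_c32 LD3_c35) (LK LD1_c1 LD2_c10 LD3_c24) Lrfl Lrfl
theorem f211153 : Led Lsl_gf (LP (LK LD1_c2 LD2_c26 LD3_c3)) = (LP (LK LD1_c1 LD2_c10 LD3_c24)) :=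
  Lgr Lrot129 (Lpe (f182325 IH) (Lpr_bt (f211148 IH) (Lpr_gt (f180287 IH) (Lpe (f172557 IH) (Lpr_ct (K9.f172425 IH) (Lpe (K10.f180278 IH) (Lpe (K9.f164745 IH) (Lpr_bt (f164978 IH) (Lpr_gt (f201324 IH) (Lpr_ct (f56561 IH) (Lpn (LP (LK LD1_c1 LD2_c10 LD3_c24)))))))))))))
theorem f56521 : Led Lsl_bt (LP (LK LD1_c0 LD2_c32 LD3_c35)) = (LP (LK LD1_c0 LD2_c14 LD3_c37)) :=
  Lre_b IH (LK LD1_c0 LD2_c32 LD3_c35) (LK LD1_c0 LD2_c14 LD3_c37) Lrfl Lrfl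
theorem f179876 : Led Lsl_bt (LP (LK LD1_c1 LD2_c0 LD3_c34)) = (LP (LK LD1_c0 LD2_c27 LD3_c40)) :=
  Lre_b IH (LK LD1_c1 LD2_c0 LD3_c34) (LK LD1_c0 LD2_c27 LD3_c40) Lrfl Lrfl
theorem f179877 : Led Lsl_ct (LP (LK LD1_c1 LD2_c0 LD3_c34)) = (LP (LK LD1_c2 LD2_c7 LD3_c4)) :=
  Lre_c IH (LK LD1_c1 LD2_c0 LD3_c34) (LK LD1_c2 LD2_c7 LD3_c4) Lrfl Lrfl
theorem f179873 : Led Lsl_ct (LP (LK LD1_c0 LD2_c32 LD3_c28)) = (LP (LK LD1_c1 LD2_c10 LD3_c13)) :=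
  Lre_c IH (LK LD1_c0 LD2_c32 LD3_c28) (LK LD1_c1 LD2_c10 LD3_c13) Lrfl Lrfl
theorem f211155 : Led Lsl_gf (LP (LK LD1_c2 LD2_c7 LD3_c4)) = (LP (LK LD1_c1 LD2_c10 LD3_c13)) :=
  Lgr Lrot129 (Lpe (f179877 IH) (Lpr_bt (f179876 IH) (Lpr_gt (K9.f180227 IH) (Lpe (f56521 IH) (Lpr_ct (f56561 IH) (Lpe (f211153 IH) (Lpe (f182325 IH) (Lpr_bt (f211148 IH) (Lpr_gt (f180287 IH) (Lpr_ct (f179873 IH) (Lpn (LP (LK LD1_c1 LD2_c10 LD3_c13)))))))))))))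
theorem f180122 : Led Lsl_et (LP (LK LD1_c0 LD2_c12 LD3_c11)) = (LP (LK LD1_c0 LD2_c27 LD3_c34)) :=
  Lre_e IH (LK LD1_c0 LD2_c12 LD3_c11) (LK LD1_c0 LD2_c27 LD3_c34) Lrfl Lrfl
theorem f180123 : Led Lsl_et (LP (LK LD1_c1 LD2_c0 LD3_c34)) = (LP (LK LD1_c1 LD2_c0 LD3_c50)) :=
  Lgr Lrot71 (Lpe (K9.f180105 IH) (Lpe (f180122 IH) (Lpe (K10.f180103 IH) (Lpr_ef (K10.f180118 IH) (Lpe (f34776 IH) (Lpn (LP (LK LD1_c1 LD2_c0 LD3_c50))))))))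
theorem f180126 : Led Lsl_ct (LP (LK LD1_c2 LD2_c7 LD3_c4)) = (LP (LK LD1_c1 LD2_c0 LD3_c34)) :=
  Lre_c IH (LK LD1_c2 LD2_c7 LD3_c4) (LK LD1_c1 LD2_c0 LD3_c34) Lrfl Lrfl
theorem f180127 : Led Lsl_ef (LP (LK LD1_c2 LD2_c7 LD3_c4)) = (LP (LK LD1_c2 LD2_c7 LD3_c31)) :=
  Lgr Lrot28 (Lpr_ct (f180126 IH) (Lpr_et (f180123 IH) (Lpr_ct (f32071 IH) (Lpn (LP (LK LD1_c2 LD2_c7 LD3_c31))))))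
theorem f35643 : Led Lsl_at (LP (LK LD1_c0 LD2_c25 LD3_c6)) = (LP (LK LD1_c0 LD2_c17 LD3_c55)) :=
  Lgr Lrot100 (Lpr_af (K1.f35614 IH) (Lpn (LP (LK LD1_c0 LD2_c17 LD3_c55))))
theorem f36915 : Led Lsl_ft (LP (LK LD1_c0 LD2_c24 LD3_c61)) = (LP (LK LD1_c0 LD2_c25 LD3_c6)) :=
  Lgr Lrot2 (Lpr_gt (K1.f36913 IH) (Lpr_gt (K1.f34707 IH) (Lpe (f35643 IH) (Lpn (LP (LK LD1_c0 LD2_c25 LD3_c6))))))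
theorem f38000 : Led Lsl_ft (LP (LK LD1_c0 LD2_c28 LD3_c22)) = (LP (LK LD1_c0 LD2_c54 LD3_c34)) :=
  Lgr Lrot4 (Lpr_cf (K1.f37987 IH) (Lpe (f36915 IH) (Lpr_cf (K1.f36936 IH) (Lpn (LP (LK LD1_c0 LD2_c54 LD3_c34))))))
theorem f38033 : Led Lsl_et (LP (LK LD1_c1 LD2_c2 LD3_c10)) = (LP (LK LD1_c0 LD2_c28 LD3_c22)) :=
  Lre_e IH (LK LD1_c1 LD2_c2 LD3_c10) (LK LD1_c0 LD2_c28 LD3_c22) Lrfl Lrfl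
theorem f201559 : Led Lsl_ef (LP (LK LD1_c2 LD2_c10 LD3_c9)) = (LP (LK LD1_c2 LD2_c33 LD3_c42)) :=
  Lgr Lrot21 (Lpr_ft (f38408 IH) (Lpr_et (f38033 IH) (Lpr_ft (f38000 IH) (Lpr_et (f35663 IH) (Lpr_ft (f201552 IH) (Lpn (LP (LK LD1_c2 LD2_c33 LD3_c42))))))))
theorem f24560 : Led Lsl_dt (LP (LK LD1_c1 LD2_c22 LD3_c34)) = (LP (LK LD1_c2 LD2_c52 LD3_c60)) :=
  Lre_d IH (LK LD1_c1 LD2_c22 LD3_c34) (LK LD1_c2 LD2_c52 LD3_c60) Lrfl Lrfl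
theorem f210332 : Led Lsl_et (LP (LK LD1_c2 LD2_c26 LD3_c5)) = (LP (LK LD1_c1 LD2_c10 LD3_c13)) :=
  Lre_e IH (LK LD1_c2 LD2_c26 LD3_c5) (LK LD1_c1 LD2_c10 LD3_c13) Lrfl Lrfl
theorem f182386 : Led Lsl_dt (LP (LK LD1_c2 LD2_c26 LD3_c5)) = (LP (LK LD1_c4 LD2_c56 LD3_c37)) :=
  Lre_d IH (LK LD1_c2 LD2_c26 LD3_c5) (LK LD1_c4 LD2_c56 LD3_c37) Lrfl Lrfl
theorem f211167 : Led Lsl_gt (LP (LK LD1_c2 LD2_c52 LD3_c60)) = (LP (LK LD1_c4 LD2_c56 LD3_c37)) :=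
  Lgr Lrot139 (Lpe (f24560 IH) (Lpe (f198272 IH) (Lpr_ef (f201559 IH) (Lpe (f201580 IH) (Lpe (f201741 IH) (Lpe (f180141 IH) (Lpe (f180127 IH) (Lpr_gf (f211155 IH) (Lpe (f210332 IH) (Lpr_dt (f182386 IH) (Lpn (LP (LK LD1_c4 LD2_c56 LD3_c37)))))))))))))
theorem f27267 : Led Lsl_gt (LP (LK LD1_c1 LD2_c26 LD3_c20)) = (LP (LK LD1_c0 LD2_c39 LD3_c54)) :=
  Lre_g IH (LK LD1_c1 LD2_c26 LD3_c20) (LK LD1_c0 LD2_c39 LD3_c54) Lrfl Lrfl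
theorem f35651 : Led Lsl_gt (LP (LK LD1_c1 LD2_c57 LD3_c7)) = (LP (LK LD1_c1 LD2_c26 LD3_c20)) :=
  Lgr Lrot5 (Lpr_ft (K1.f35624 IH) (Lpr_at (K1.f35645 IH) (Lpe (f27267 IH) (Lpn (LP (LK LD1_c1 LD2_c26 LD3_c20))))))
theorem f34719 : Led Lsl_dt (LP (LK LD1_c1 LD2_c26 LD3_c20)) = (LP (LK LD1_c3 LD2_c1 LD3_c0)) :=
  Lre_d IH (LK LD1_c1 LD2_c26 LD3_c20) (LK LD1_c3 LD2_c1 LD3_c0) Lrfl Lrfl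
theorem f182393 : Led Lsl_dt (LP (LK LD1_c4 LD2_c56 LD3_c37)) = (LP (LK LD1_c2 LD2_c26 LD3_c5)) :=
  Lre_d IH (LK LD1_c4 LD2_c56 LD3_c37) (LK LD1_c2 LD2_c26 LD3_c5) Lrfl Lrfl
theorem f182385 : Led Lsl_ct (LP (LK LD1_c1 LD2_c10 LD3_c14)) = (LP (LK LD1_c2 LD2_c26 LD3_c5)) :=
  Lre_c IH (LK LD1_c1 LD2_c10 LD3_c14) (LK LD1_c2 LD2_c26 LD3_c5) Lrfl Lrfl
theorem f182362 : Led Lsl_et (LP (LK LD1_c0 LD2_c14 LD3_c33)) = (LP (LK LD1_c0 LD2_c32 LD3_c29)) :=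
  Lre_e IH (LK LD1_c0 LD2_c14 LD3_c33) (LK LD1_c0 LD2_c32 LD3_c29) Lrfl Lrfl
theorem f182363 : Led Lsl_et (LP (LK LD1_c1 LD2_c10 LD3_c14)) = (LP (LK LD1_c0 LD2_c32 LD3_c28)) :=
  Lre_e IH (LK LD1_c1 LD2_c10 LD3_c14) (LK LD1_c0 LD2_c32 LD3_c28) Lrfl Lrfl
theorem f182364 : Led Lsl_et (LP (LK LD1_c0 LD2_c55 LD3_c43)) = (LP (LK LD1_c1 LD2_c57 LD3_c41)) :=
  Lre_e IH (LK LD1_c0 LD2_c55 LD3_c43) (LK LD1_c1 LD2_c57 LD3_c41) Lrfl Lrfl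
theorem f182365 : Led Lsl_df (LP (LK LD1_c1 LD2_c10 LD3_c14)) = (LP (LK LD1_c1 LD2_c57 LD3_c41)) :=
  Lgr Lrot70 (Lpr_et (f182363 IH) (Lpr_dt (f182324 IH) (Lpr_et (f182362 IH) (Lpr_dt (K9.f182354 IH) (Lpr_et (f182364 IH) (Lpn (LP (LK LD1_c1 LD2_c57 LD3_c41))))))))
theorem f211206 : Led Lsl_gt (LP (LK LD1_c3 LD2_c1 LD3_c0)) = (LP (LK LD1_c1 LD2_c57 LD3_c41)) :=
  Lgr Lrot49 (Lpe (f34719 IH) (Lpe (f35651 IH) (Lpe (K1.f38405 IH) (Lpr_gt (f198272 IH) (Lpr_dt (f24560 IH) (Lpr_gt (f211167 IH) (Lpr_dt (f182393 IH) (Lpe (f182385 IH) (Lpr_df (f182365 IH) (Lpn (LP (LK LD1_c1 LD2_c57 LD3_c41))))))))))))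
theorem f31566 : Led Lsl_dt (LP (LK LD1_c1 LD2_c9 LD3_c30)) = (LP (LK LD1_c0 LD2_c32 LD3_c0)) :=
  Lre_d IH (LK LD1_c1 LD2_c9 LD3_c30) (LK LD1_c0 LD2_c32 LD3_c0) Lrfl Lrfl
theorem f182391 : Led Lsl_dt (LP (LK LD1_c1 LD2_c10 LD3_c14)) = (LP (LK LD1_c1 LD2_c57 LD3_c41)) :=
  Lgr Lrot42 (Lpr_df (f182365 IH) (Lpn (LP (LK LD1_c1 LD2_c57 LD3_c41))))
theorem f172558 : Led Lsl_gt (LP (LK LD1_c0 LD2_c32 LD3_c28)) = (LP (LK LD1_c1 LD2_c10 LD3_c11)) :=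
  Lre_g IH (LK LD1_c0 LD2_c32 LD3_c28) (LK LD1_c1 LD2_c10 LD3_c11) Lrfl Lrfl
theorem f211224 : Led Lsl_et (LP (LK LD1_c1 LD2_c9 LD3_c30)) = (LP (LK LD1_c1 LD2_c10 LD3_c11)) :=
  Lgr Lrot122 (Lpr_dt (f31566 IH) (Lpr_gt (K10.f31564 IH) (Lpe (K1.f28639 IH) (Lpr_et (K1.f36205 IH) (Lpr_gt (f35651 IH) (Lpr_dt (f34719 IH) (Lpr_gt (f211206 IH) (Lpe (f182391 IH) (Lpr_et (f182363 IH) (Lpr_gt (f172558 IH) (Lpn (LP (LK LD1_c1 LD2_c10 LD3_c11)))))))))))))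
theorem f211232 : Led Lsl_ef (LP (LK LD1_c1 LD2_c9 LD3_c30)) = (LP (LK LD1_c1 LD2_c10 LD3_c11)) :=
  Lgr Lrot88 (Lpr_et (f211224 IH) (Lpn (LP (LK LD1_c1 LD2_c10 LD3_c11))))
theorem f182327 : Led Lsl_dt (LP (LK LD1_c0 LD2_c14 LD3_c33)) = (LP (LK LD1_c0 LD2_c32 LD3_c28)) :=
  Lre_d IH (LK LD1_c0 LD2_c14 LD3_c33) (LK LD1_c0 LD2_c32 LD3_c28) Lrfl Lrfl
theorem f28158 : Led Lsl_et (LP (LK LD1_c0 LD2_c5 LD3_c14)) = (LP (LK LD1_c0 LD2_c11 LD3_c14)) :=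
  Lre_e IH (LK LD1_c0 LD2_c5 LD3_c14) (LK LD1_c0 LD2_c11 LD3_c14) Lrfl Lrfl
theorem f27956 : Led Lsl_et (LP (LK LD1_c0 LD2_c55 LD3_c35)) = (LP (LK LD1_c0 LD2_c25 LD3_c13)) :=
  Lre_e IH (LK LD1_c0 LD2_c55 LD3_c35) (LK LD1_c0 LD2_c25 LD3_c13) Lrfl Lrfl
theorem f182352 : Led Lsl_df (LP (LK LD1_c1 LD2_c10 LD3_c11)) = (LP (LK LD1_c0 LD2_c55 LD3_c35)) :=
  Lgr Lrot132 (Lpe (f172558 IH) (Lpe (f182327 IH) (Lpr_gf (K9.f182322 IH) (Lpe (K9.f28563 IH) (Lpr_dt (K0.f27809 IH) (Lpe (K0.f28555 IH) (Lpe (K0.f27914 IH) (Lpr_et (f28158 IH) (Lpe (K9.f28566 IH) (Lpe (f27956 IH) (Lpn (LP (LK LD1_c0 LD2_c55 LD3_c35)))))))))))))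
theorem f182184 : Led Lsl_et (LP (LK LD1_c0 LD2_c25 LD3_c13)) = (LP (LK LD1_c0 LD2_c55 LD3_c35)) :=
  Lre_e IH (LK LD1_c0 LD2_c25 LD3_c13) (LK LD1_c0 LD2_c55 LD3_c35) Lrfl Lrfl
theorem f52250 : Led Lsl_dt (LP (LK LD1_c0 LD2_c55 LD3_c34)) = (LP (LK LD1_c0 LD2_c25 LD3_c13)) :=
  Lre_d IH (LK LD1_c0 LD2_c55 LD3_c34) (LK LD1_c0 LD2_c25 LD3_c13) Lrfl Lrfl
theorem f211236 : Led Lsl_et (LP (LK LD1_c0 LD2_c32 LD3_c0)) = (LP (LK LD1_c0 LD2_c55 LD3_c34)) :=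
  Lgr Lrot71 (Lpe (f31566 IH) (Lpr_ef (f211232 IH) (Lpr_df (f182352 IH) (Lpe (f182184 IH) (Lpe (f52250 IH) (Lpn (LP (LK LD1_c0 LD2_c55 LD3_c34))))))))
theorem f200648 : Led Lsl_dt (LP (LK LD1_c0 LD2_c31 LD3_c48)) = (LP (LK LD1_c0 LD2_c33 LD3_c44)) :=
  Lgr Lrot79 (Lpr_bf (f200642 IH) (Lpe (K10.f28791 IH) (Lpe (K10.f194091 IH) (Lpn (LP (LK LD1_c0 LD2_c33 LD3_c44))))))
theorem f3055 : Led Lsl_gf (LP (LK LD1_c0 LD2_c14 LD3_c10)) = (LP (LK LD1_c0 LD2_c14 LD3_c8)) :=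
  Lgr Lrot76 (Lpr_af (K10.f2151 IH) (Lpe (K0.f2887 IH) (Lpr_gt (f2915 IH) (Lpn (LP (LK LD1_c0 LD2_c14 LD3_c8))))))
theorem f2914 : Led Lsl_dt (LP (LK LD1_c0 LD2_c31 LD3_c49)) = (LP (LK LD1_c0 LD2_c14 LD3_c9)) :=
  Lre_d IH (LK LD1_c0 LD2_c31 LD3_c49) (LK LD1_c0 LD2_c14 LD3_c9) Lrfl Lrfl
theorem f164350 : Led Lsl_dt (LP (LK LD1_c0 LD2_c15 LD3_c9)) = (LP (LK LD1_c0 LD2_c33 LD3_c46)) :=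
  Lre_d IH (LK LD1_c0 LD2_c15 LD3_c9) (LK LD1_c0 LD2_c33 LD3_c46) Lrfl Lrfl
theorem f200667 : Led Lsl_et (LP (LK LD1_c0 LD2_c31 LD3_c49)) = (LP (LK LD1_c0 LD2_c15 LD3_c6)) :=
  Lgr Lrot185 (Lpr_dt (f2914 IH) (Lpe (K10.f3080 IH) (Lpe (K0.f2907 IH) (Lpr_gf (f3055 IH) (Lpe (f2932 IH) (Lpr_dt (f200648 IH) (Lpe (K10.f165230 IH) (Lpe (f164350 IH) (Lpe (K10.f164185 IH) (Lpr_gf (K10.f165491 IH) (Lpn (LP (LK LD1_c0 LD2_c15 LD3_c6)))))))))))))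
theorem f211238 : Led Lsl_bf (LP (LK LD1_c0 LD2_c31 LD3_c49)) = (LP (LK LD1_c0 LD2_c55 LD3_c34)) :=
  Lgr Lrot96 (Lpr_et (f200667 IH) (Lpe (K10.f190254 IH) (Lpr_et (f211236 IH) (Lpn (LP (LK LD1_c0 LD2_c55 LD3_c34))))))
theorem f200669 : Led Lsl_ef (LP (LK LD1_c0 LD2_c31 LD3_c49)) = (LP (LK LD1_c0 LD2_c15 LD3_c6)) :=
  Lgr Lrot88 (Lpr_et (f200667 IH) (Lpn (LP (LK LD1_c0 LD2_c15 LD3_c6))))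
theorem f200671 : Led Lsl_ct (LP (LK LD1_c0 LD2_c31 LD3_c49)) = (LP (LK LD1_c0 LD2_c36 LD3_c50)) :=
  Lgr Lrot15 (Lpr_ef (f200669 IH) (Lpe (K10.f190263 IH) (Lpr_ef (K10.f193685 IH) (Lpn (LP (LK LD1_c0 LD2_c36 LD3_c50))))))
theorem f9491 : Led Lsl_bt (LP (LK LD1_c0 LD2_c36 LD3_c50)) = (LP (LK LD1_c0 LD2_c16 LD3_c28)) :=
  Lre_b IH (LK LD1_c0 LD2_c36 LD3_c50) (LK LD1_c0 LD2_c16 LD3_c28) Lrfl Lrfl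
theorem f177864 : Led Lsl_ct (LP (LK LD1_c0 LD2_c16 LD3_c28)) = (LP (LK LD1_c0 LD2_c36 LD3_c55)) :=
  Lre_c IH (LK LD1_c0 LD2_c16 LD3_c28) (LK LD1_c0 LD2_c36 LD3_c55) Lrfl Lrfl
theorem f178879 : Led Lsl_bt (LP (LK LD1_c0 LD2_c36 LD3_c55)) = (LP (LK LD1_c1 LD2_c19 LD3_c46)) :=
  Lre_b IH (LK LD1_c0 LD2_c36 LD3_c55) (LK LD1_c1 LD2_c19 LD3_c46) Lrfl Lrfl
theorem f211242 : Led Lsl_ct (LP (LK LD1_c1 LD2_c19 LD3_c46)) = (LP (LK LD1_c0 LD2_c55 LD3_c34)) :=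
  Lgr Lrot83 (Lpe (f178879 IH) (Lpe (f177864 IH) (Lpe (f9491 IH) (Lpe (f200671 IH) (Lpr_bf (f211238 IH) (Lpn (LP (LK LD1_c0 LD2_c55 LD3_c34))))))))
theorem f31054 : Led Lsl_dt (LP (LK LD1_c0 LD2_c32 LD3_c0)) = (LP (LK LD1_c1 LD2_c9 LD3_c30)) :=
  Lre_d IH (LK LD1_c0 LD2_c32 LD3_c0) (LK LD1_c1 LD2_c9 LD3_c30) Lrfl Lrfl
theorem f27781 : Led Lsl_dt (LP (LK LD1_c0 LD2_c11 LD3_c59)) = (LP (LK LD1_c0 LD2_c27 LD3_c1)) :=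
  Lre_d IH (LK LD1_c0 LD2_c11 LD3_c59) (LK LD1_c0 LD2_c27 LD3_c1) Lrfl Lrfl
theorem f190952 : Led Lsl_gt (LP (LK LD1_c0 LD2_c27 LD3_c1)) = (LP (LK LD1_c0 LD2_c59 LD3_c21)) :=
  Lre_g IH (LK LD1_c0 LD2_c27 LD3_c1) (LK LD1_c0 LD2_c59 LD3_c21) Lrfl Lrfl
theorem f27486 : Led Lsl_et (LP (LK LD1_c0 LD2_c11 LD3_c59)) = (LP (LK LD1_c0 LD2_c5 LD3_c31)) :=
  Lre_e IH (LK LD1_c0 LD2_c11 LD3_c59) (LK LD1_c0 LD2_c5 LD3_c31) Lrfl Lrfl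
theorem f175075 : Led Lsl_gt (LP (LK LD1_c1 LD2_c10 LD3_c16)) = (LP (LK LD1_c0 LD2_c32 LD3_c29)) :=
  Lre_g IH (LK LD1_c1 LD2_c10 LD3_c16) (LK LD1_c0 LD2_c32 LD3_c29) Lrfl Lrfl
theorem f182369 : Led Lsl_ct (LP (LK LD1_c1 LD2_c10 LD3_c16)) = (LP (LK LD1_c2 LD2_c26 LD3_c7)) :=
  Lre_c IH (LK LD1_c1 LD2_c10 LD3_c16) (LK LD1_c2 LD2_c26 LD3_c7) Lrfl Lrfl
theorem f196345 : Led Lsl_gt (LP (LK LD1_c2 LD2_c26 LD3_c7)) = (LP (LK LD1_c1 LD2_c55 LD3_c23)) :=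
  Lgr Lrot94 (Lpe (f182369 IH) (Lpr_gt (f175075 IH) (Lpr_dt (K9.f182354 IH) (Lpr_gt (K9.f27940 IH) (Lpr_dt (K0.f33666 IH) (Lpe (K0.f34085 IH) (Lpe (K0.f21853 IH) (Lpe (K10.f22006 IH) (Lpr_df (K10.f196331 IH) (Lpn (LP (LK LD1_c1 LD2_c55 LD3_c23))))))))))))
theorem f27942 : Led Lsl_et (LP (LK LD1_c0 LD2_c11 LD3_c14)) = (LP (LK LD1_c0 LD2_c5 LD3_c14)) :=
  Lre_e IH (LK LD1_c0 LD2_c11 LD3_c14) (LK LD1_c0 LD2_c5 LD3_c14) Lrfl Lrfl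
theorem f34703 : Led Lsl_dt (LP (LK LD1_c0 LD2_c11 LD3_c14)) = (LP (LK LD1_c0 LD2_c11 LD3_c14)) :=
  Lgr Lrot77 (Lpe (f28158 IH) (Lpe (K0.f27941 IH) (Lpr_ef (K0.f34697 IH) (Lpe (K0.f27914 IH) (Lpe (f27942 IH) (Lpn (LP (LK LD1_c0 LD2_c11 LD3_c14))))))))
theorem f28571 : Led Lsl_gt (LP (LK LD1_c0 LD2_c11 LD3_c14)) = (LP (LK LD1_c0 LD2_c25 LD3_c12)) :=
  Lre_g IH (LK LD1_c0 LD2_c11 LD3_c14) (LK LD1_c0 LD2_c25 LD3_c12) Lrfl Lrfl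
theorem f52249 : Led Lsl_dt (LP (LK LD1_c0 LD2_c55 LD3_c32)) = (LP (LK LD1_c0 LD2_c25 LD3_c12)) :=
  Lre_d IH (LK LD1_c0 LD2_c55 LD3_c32) (LK LD1_c0 LD2_c25 LD3_c12) Lrfl Lrfl
theorem f182373 : Led Lsl_ef (LP (LK LD1_c1 LD2_c10 LD3_c16)) = (LP (LK LD1_c0 LD2_c55 LD3_c32)) :=
  Lgr Lrot167 (Lpr_gt (f175075 IH) (Lpr_dt (K9.f182354 IH) (Lpr_gt (K9.f27940 IH) (Lpe (K0.f27939 IH) (Lpr_et (K0.f27938 IH) (Lpe (K0.f27935 IH) (Lpe (f27942 IH) (Lpr_dt (f34703 IH) (Lpr_gt (f28571 IH) (Lpe (f52249 IH) (Lpn (LP (LK LD1_c0 LD2_c55 LD3_c32)))))))))))))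
theorem f182378 : Led Lsl_et (LP (LK LD1_c1 LD2_c10 LD3_c16)) = (LP (LK LD1_c0 LD2_c55 LD3_c32)) :=
  Lgr Lrot87 (Lpr_ef (f182373 IH) (Lpn (LP (LK LD1_c0 LD2_c55 LD3_c32))))
theorem f182371 : Led Lsl_ct (LP (LK LD1_c2 LD2_c26 LD3_c7)) = (LP (LK LD1_c1 LD2_c10 LD3_c16)) :=
  Lre_c IH (LK LD1_c2 LD2_c26 LD3_c7) (LK LD1_c1 LD2_c10 LD3_c16) Lrfl Lrfl
theorem f52691 : Led Lsl_ct (LP (LK LD1_c0 LD2_c55 LD3_c32)) = (LP (LK LD1_c1 LD2_c57 LD3_c25)) :=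
  Lre_c IH (LK LD1_c0 LD2_c55 LD3_c32) (LK LD1_c1 LD2_c57 LD3_c25) Lrfl Lrfl
theorem f182380 : Led Lsl_ef (LP (LK LD1_c2 LD2_c26 LD3_c7)) = (LP (LK LD1_c1 LD2_c57 LD3_c25)) :=
  Lgr Lrot28 (Lpr_ct (f182371 IH) (Lpr_et (f182378 IH) (Lpr_ct (f52691 IH) (Lpn (LP (LK LD1_c1 LD2_c57 LD3_c25))))))
theorem f196347 : Led Lsl_df (LP (LK LD1_c0 LD2_c59 LD3_c21)) = (LP (LK LD1_c1 LD2_c57 LD3_c25)) :=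
  Lgr Lrot168 (Lpe (f190952 IH) (Lpe (f27781 IH) (Lpr_et (f27486 IH) (Lpe (K1.f33108 IH) (Lpe (K0.f22003 IH) (Lpr_dt (K0.f21846 IH) (Lpe (K10.f22006 IH) (Lpr_df (K10.f196331 IH) (Lpe (f196345 IH) (Lpr_ef (f182380 IH) (Lpn (LP (LK LD1_c1 LD2_c57 LD3_c25)))))))))))))
theorem f196339 : Led Lsl_et (LP (LK LD1_c0 LD2_c54 LD3_c25)) = (LP (LK LD1_c1 LD2_c55 LD3_c23)) :=
  Lre_e IH (LK LD1_c0 LD2_c54 LD3_c25) (LK LD1_c1 LD2_c55 LD3_c23) Lrfl Lrfl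
theorem f196319 : Led Lsl_dt (LP (LK LD1_c0 LD2_c54 LD3_c25)) = (LP (LK LD1_c1 LD2_c55 LD3_c22)) :=
  Lre_d IH (LK LD1_c0 LD2_c54 LD3_c25) (LK LD1_c1 LD2_c55 LD3_c22) Lrfl Lrfl
theorem f182183 : Led Lsl_et (LP (LK LD1_c0 LD2_c36 LD3_c33)) = (LP (LK LD1_c0 LD2_c16 LD3_c17)) :=
  Lre_e IH (LK LD1_c0 LD2_c36 LD3_c33) (LK LD1_c0 LD2_c16 LD3_c17) Lrfl Lrfl
theorem f194684 : Led Lsl_dt (LP (LK LD1_c0 LD2_c36 LD3_c33)) = (LP (LK LD1_c1 LD2_c19 LD3_c11)) :=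
  Lre_d IH (LK LD1_c0 LD2_c36 LD3_c33) (LK LD1_c1 LD2_c19 LD3_c11) Lrfl Lrfl
theorem f196952 : Led Lsl_gt (LP (LK LD1_c1 LD2_c55 LD3_c22)) = (LP (LK LD1_c1 LD2_c19 LD3_c11)) :=
  Lgr Lrot112 (Lpe (f196319 IH) (Lpr_et (f196339 IH) (Lpe (f196345 IH) (Lpr_ef (f182380 IH) (Lpe (f196347 IH) (Lpe (f190952 IH) (Lpe (f27781 IH) (Lpr_gf (K10.f196932 IH) (Lpe (f182183 IH) (Lpr_dt (f194684 IH) (Lpn (LP (LK LD1_c1 LD2_c19 LD3_c11)))))))))))))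
theorem f196957 : Led Lsl_dt (LP (LK LD1_c1 LD2_c19 LD3_c11)) = (LP (LK LD1_c0 LD2_c36 LD3_c33)) :=
  Lre_d IH (LK LD1_c1 LD2_c19 LD3_c11) (LK LD1_c0 LD2_c36 LD3_c33) Lrfl Lrfl
theorem f182185 : Led Lsl_cf (LP (LK LD1_c0 LD2_c36 LD3_c33)) = (LP (LK LD1_c0 LD2_c55 LD3_c35)) :=
  Lgr Lrot39 (Lpr_et (f182183 IH) (Lpr_ct (K9.f182174 IH) (Lpr_et (f182184 IH) (Lpn (LP (LK LD1_c0 LD2_c55 LD3_c35))))))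
theorem f196958 : Led Lsl_dt (LP (LK LD1_c1 LD2_c10 LD3_c11)) = (LP (LK LD1_c0 LD2_c55 LD3_c35)) :=
  Lgr Lrot105 (Lpe (f172558 IH) (Lpe (f182327 IH) (Lpr_gf (K9.f182322 IH) (Lpe (K1.f28944 IH) (Lpr_gt (K10.f196316 IH) (Lpr_dt (f196319 IH) (Lpr_gt (f196952 IH) (Lpr_dt (f196957 IH) (Lpr_cf (f182185 IH) (Lpn (LP (LK LD1_c0 LD2_c55 LD3_c35))))))))))))
theorem f27957 : Led Lsl_dt (LP (LK LD1_c0 LD2_c25 LD3_c13)) = (LP (LK LD1_c0 LD2_c55 LD3_c34)) :=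
  Lre_d IH (LK LD1_c0 LD2_c25 LD3_c13) (LK LD1_c0 LD2_c55 LD3_c34) Lrfl Lrfl
theorem f211230 : Led Lsl_ef (LP (LK LD1_c0 LD2_c32 LD3_c0)) = (LP (LK LD1_c0 LD2_c55 LD3_c34)) :=
  Lgr Lrot73 (Lpr_dt (f31054 IH) (Lpr_et (f211224 IH) (Lpr_dt (f196958 IH) (Lpr_et (f27956 IH) (Lpr_dt (f27957 IH) (Lpn (LP (LK LD1_c0 LD2_c55 LD3_c34))))))))
theorem f211246 : Led Lsl_ef (LP (LK LD1_c1 LD2_c19 LD3_c46)) = (LP (LK LD1_c0 LD2_c57 LD3_c18)) :=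
  Lgr Lrot28 (Lpr_ct (f211242 IH) (Lpe (f211230 IH) (Lpe (K10.f190248 IH) (Lpn (LP (LK LD1_c0 LD2_c57 LD3_c18))))))
theorem f211256 : Led Lsl_et (LP (LK LD1_c1 LD2_c19 LD3_c46)) = (LP (LK LD1_c0 LD2_c57 LD3_c18)) :=
  Lgr Lrot87 (Lpr_ef (f211246 IH) (Lpn (LP (LK LD1_c0 LD2_c57 LD3_c18))))
theorem f31081 : Led Lsl_et (LP (LK LD1_c0 LD2_c12 LD3_c17)) = (LP (LK LD1_c0 LD2_c27 LD3_c47)) :=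
  Lre_e IH (LK LD1_c0 LD2_c12 LD3_c17) (LK LD1_c0 LD2_c27 LD3_c47) Lrfl Lrfl
theorem f27782 : Led Lsl_gt (LP (LK LD1_c0 LD2_c59 LD3_c22)) = (LP (LK LD1_c0 LD2_c27 LD3_c1)) :=
  Lre_g IH (LK LD1_c0 LD2_c59 LD3_c22) (LK LD1_c0 LD2_c27 LD3_c1) Lrfl Lrfl
theorem f211260 : Led Lsl_dt (LP (LK LD1_c1 LD2_c19 LD3_c46)) = (LP (LK LD1_c0 LD2_c59 LD3_c22)) :=
  Lgr Lrot136 (Lpr_et (f211256 IH) (Lpr_gf (K10.f190222 IH) (Lpe (f31081 IH) (Lpr_dt (K0.f33124 IH) (Lpr_gf (K0.f33342 IH) (Lpe (K0.f33346 IH) (Lpr_gf (K0.f27773 IH) (Lpe (f27486 IH) (Lpr_dt (f27781 IH) (Lpe (f27782 IH) (Lpn (LP (LK LD1_c0 LD2_c59 LD3_c22)))))))))))))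
theorem f52667 : Led Lsl_ct (LP (LK LD1_c0 LD2_c27 LD3_c1)) = (LP (LK LD1_c0 LD2_c59 LD3_c23)) :=
  Lre_c IH (LK LD1_c0 LD2_c27 LD3_c1) (LK LD1_c0 LD2_c59 LD3_c23) Lrfl Lrfl
theorem f166433 : Led Lsl_dt (LP (LK LD1_c0 LD2_c11 LD3_c47)) = (LP (LK LD1_c0 LD2_c26 LD3_c33)) :=
  Lre_d IH (LK LD1_c0 LD2_c11 LD3_c47) (LK LD1_c0 LD2_c26 LD3_c33) Lrfl Lrfl
theorem f53336 : Led Lsl_ct (LP (LK LD1_c0 LD2_c26 LD3_c33)) = (LP (LK LD1_c0 LD2_c58 LD3_c32)) :=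
  Lre_c IH (LK LD1_c0 LD2_c26 LD3_c33) (LK LD1_c0 LD2_c58 LD3_c32) Lrfl Lrfl
theorem f52293 : Led Lsl_dt (LP (LK LD1_c0 LD2_c11 LD3_c22)) = (LP (LK LD1_c0 LD2_c25 LD3_c31)) :=
  Lre_d IH (LK LD1_c0 LD2_c11 LD3_c22) (LK LD1_c0 LD2_c25 LD3_c31) Lrfl Lrfl
theorem f199144 : Led Lsl_gt (LP (LK LD1_c0 LD2_c25 LD3_c31)) = (LP (LK LD1_c0 LD2_c56 LD3_c16)) :=
  Lre_g IH (LK LD1_c0 LD2_c25 LD3_c31) (LK LD1_c0 LD2_c56 LD3_c16) Lrfl Lrfl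
theorem f201067 : Led Lsl_df (LP (LK LD1_c0 LD2_c58 LD3_c32)) = (LP (LK LD1_c0 LD2_c56 LD3_c16)) :=
  Lgr Lrot84 (Lpe (f53336 IH) (Lpe (f166433 IH) (Lpr_gf (K9.f166429 IH) (Lpr_df (K10.f7996 IH) (Lpe (f28215 IH) (Lpr_cf (f201045 IH) (Lpr_gt (f53071 IH) (Lpr_dt (f52293 IH) (Lpr_gt (f199144 IH) (Lpn (LP (LK LD1_c0 LD2_c56 LD3_c16))))))))))))
theorem f201256 : Led Lsl_df (LP (LK LD1_c0 LD2_c36 LD3_c13)) = (LP (LK LD1_c0 LD2_c27 LD3_c4)) :=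
  Lgr Lrot12 (Lpr_bt (f164723 IH) (Lpr_dt (K0.f7881 IH) (Lpr_bt (f201250 IH) (Lpn (LP (LK LD1_c0 LD2_c27 LD3_c4))))))
theorem f27945 : Led Lsl_ef (LP (LK LD1_c0 LD2_c25 LD3_c14)) = (LP (LK LD1_c0 LD2_c25 LD3_c14)) :=
  Lgr Lrot20 (Lpr_at (f27943 IH) (Lpr_et (K1.f27933 IH) (Lpr_at (f27944 IH) (Lpn (LP (LK LD1_c0 LD2_c25 LD3_c14))))))
theorem f201292 : Led Lsl_et (LP (LK LD1_c0 LD2_c26 LD3_c32)) = (LP (LK LD1_c0 LD2_c26 LD3_c32)) :=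
  Lgr Lrot74 (Lpr_bf (f201282 IH) (Lpr_ef (f27945 IH) (Lpe (f201286 IH) (Lpn (LP (LK LD1_c0 LD2_c26 LD3_c32))))))
theorem f166446 : Led Lsl_dt (LP (LK LD1_c0 LD2_c26 LD3_c33)) = (LP (LK LD1_c0 LD2_c11 LD3_c47)) :=
  Lre_d IH (LK LD1_c0 LD2_c26 LD3_c33) (LK LD1_c0 LD2_c11 LD3_c47) Lrfl Lrfl
theorem f56557 : Led Lsl_dt (LP (LK LD1_c0 LD2_c14 LD3_c36)) = (LP (LK LD1_c0 LD2_c32 LD3_c35)) :=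
  Lre_d IH (LK LD1_c0 LD2_c14 LD3_c36) (LK LD1_c0 LD2_c32 LD3_c35) Lrfl Lrfl
theorem f56562 : Led Lsl_et (LP (LK LD1_c0 LD2_c14 LD3_c36)) = (LP (LK LD1_c0 LD2_c32 LD3_c36)) :=
  Lre_e IH (LK LD1_c0 LD2_c14 LD3_c36) (LK LD1_c0 LD2_c32 LD3_c36) Lrfl Lrfl
theorem f201329 : Led Lsl_gf (LP (LK LD1_c0 LD2_c26 LD3_c33)) = (LP (LK LD1_c0 LD2_c32 LD3_c36)) :=
  Lgr Lrot138 (Lpr_dt (f166446 IH) (Lpr_gt (f166422 IH) (Lpe (f201290 IH) (Lpr_et (f201292 IH) (Lpr_gt (f201298 IH) (Lpe (f28524 IH) (Lpe (f201256 IH) (Lpr_gt (f201324 IH) (Lpe (f56557 IH) (Lpr_et (f56562 IH) (Lpn (LP (LK LD1_c0 LD2_c32 LD3_c36)))))))))))))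
theorem f168315 : Led Lsl_ct (LP (LK LD1_c1 LD2_c10 LD3_c22)) = (LP (LK LD1_c0 LD2_c32 LD3_c36)) :=
  Lre_c IH (LK LD1_c1 LD2_c10 LD3_c22) (LK LD1_c0 LD2_c32 LD3_c36) Lrfl Lrfl
theorem f211270 : Led Lsl_gt (LP (LK LD1_c1 LD2_c19 LD3_c46)) = (LP (LK LD1_c1 LD2_c10 LD3_c22)) :=
  Lgr Lrot146 (Lpr_dt (f211260 IH) (Lpr_gt (f27782 IH) (Lpr_ct (f52667 IH) (Lpr_gt (f200796 IH) (Lpr_ct (f53027 IH) (Lpe (f201067 IH) (Lpe (f53336 IH) (Lpr_gf (f201329 IH) (Lpe (f168315 IH) (Lpn (LP (LK LD1_c1 LD2_c10 LD3_c22))))))))))))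
theorem f211263 : Led Lsl_df (LP (LK LD1_c1 LD2_c19 LD3_c46)) = (LP (LK LD1_c0 LD2_c59 LD3_c22)) :=
  Lgr Lrot38 (Lpr_dt (f211260 IH) (Lpn (LP (LK LD1_c0 LD2_c59 LD3_c22))))
theorem f211272 : Led Lsl_df (LP (LK LD1_c0 LD2_c56 LD3_c16)) = (LP (LK LD1_c0 LD2_c58 LD3_c32)) :=
  Lgr Lrot162 (Lpe (f53027 IH) (Lpe (f200796 IH) (Lpe (f52667 IH) (Lpe (f27782 IH) (Lpe (f211263 IH) (Lpr_gt (f211270 IH) (Lpr_ct (f168315 IH) (Lpe (f201329 IH) (Lpr_ct (f53336 IH) (Lpn (LP (LK LD1_c0 LD2_c58 LD3_c32))))))))))))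
theorem f199145 : Led Lsl_ct (LP (LK LD1_c0 LD2_c56 LD3_c16)) = (LP (LK LD1_c1 LD2_c58 LD3_c57)) :=
  Lre_c IH (LK LD1_c0 LD2_c56 LD3_c16) (LK LD1_c1 LD2_c58 LD3_c57) Lrfl Lrfl
theorem f200798 : Led Lsl_gf (LP (LK LD1_c2 LD2_c4 LD3_c46)) = (LP (LK LD1_c1 LD2_c58 LD3_c57)) :=
  Lgr Lrot76 (Lpe (K10.f52644 IH) (Lpe (K10.f52656 IH) (Lpr_gt (f200796 IH) (Lpn (LP (LK LD1_c1 LD2_c58 LD3_c57))))))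
theorem f28105 : Led Lsl_dt (LP (LK LD1_c1 LD2_c57 LD3_c24)) = (LP (LK LD1_c0 LD2_c55 LD3_c31)) :=
  Lre_d IH (LK LD1_c1 LD2_c57 LD3_c24) (LK LD1_c0 LD2_c55 LD3_c31) Lrfl Lrfl
theorem f28143 : Led Lsl_dt (LP (LK LD1_c0 LD2_c25 LD3_c30)) = (LP (LK LD1_c0 LD2_c56 LD3_c14)) :=
  Lre_d IH (LK LD1_c0 LD2_c25 LD3_c30) (LK LD1_c0 LD2_c56 LD3_c14) Lrfl Lrfl
theorem f200800 : Led Lsl_ct (LP (LK LD1_c0 LD2_c56 LD3_c14)) = (LP (LK LD1_c1 LD2_c58 LD3_c51)) :=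
  Lre_c IH (LK LD1_c0 LD2_c56 LD3_c14) (LK LD1_c1 LD2_c58 LD3_c51) Lrfl Lrfl
theorem f200801 : Led Lsl_df (LP (LK LD1_c1 LD2_c58 LD3_c51)) = (LP (LK LD1_c1 LD2_c58 LD3_c57)) :=
  Lgr Lrot84 (Lpe (f200800 IH) (Lpe (f28143 IH) (Lpe (f28140 IH) (Lpe (f28105 IH) (Lpe (f28114 IH) (Lpe (f53027 IH) (Lpe (f200798 IH) (Lpr_dt (K10.f52655 IH) (Lpr_gt (f200796 IH) (Lpn (LP (LK LD1_c1 LD2_c58 LD3_c57))))))))))))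
theorem f200803 : Led Lsl_ct (LP (LK LD1_c1 LD2_c58 LD3_c51)) = (LP (LK LD1_c0 LD2_c56 LD3_c14)) :=
  Lre_c IH (LK LD1_c1 LD2_c58 LD3_c51) (LK LD1_c0 LD2_c56 LD3_c14) Lrfl Lrfl
theorem f53072 : Led Lsl_dt (LP (LK LD1_c0 LD2_c56 LD3_c14)) = (LP (LK LD1_c0 LD2_c25 LD3_c30)) :=
  Lre_d IH (LK LD1_c0 LD2_c56 LD3_c14) (LK LD1_c0 LD2_c25 LD3_c30) Lrfl Lrfl
theorem f201062 : Led Lsl_dt (LP (LK LD1_c0 LD2_c11 LD3_c60)) = (LP (LK LD1_c0 LD2_c27 LD3_c3)) :=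
  Lre_d IH (LK LD1_c0 LD2_c11 LD3_c60) (LK LD1_c0 LD2_c27 LD3_c3) Lrfl Lrfl
theorem f201063 : Led Lsl_ct (LP (LK LD1_c0 LD2_c27 LD3_c3)) = (LP (LK LD1_c0 LD2_c59 LD3_c25)) :=
  Lre_c IH (LK LD1_c0 LD2_c27 LD3_c3) (LK LD1_c0 LD2_c59 LD3_c25) Lrfl Lrfl
theorem f199125 : Led Lsl_bt (LP (LK LD1_c0 LD2_c25 LD3_c29)) = (LP (LK LD1_c0 LD2_c56 LD3_c10)) :=
  Lre_b IH (LK LD1_c0 LD2_c25 LD3_c29) (LK LD1_c0 LD2_c56 LD3_c10) Lrfl Lrfl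
theorem f174935 : Led Lsl_bt (LP (LK LD1_c0 LD2_c12 LD3_c41)) = (LP (LK LD1_c0 LD2_c28 LD3_c34)) :=
  Lre_b IH (LK LD1_c0 LD2_c12 LD3_c41) (LK LD1_c0 LD2_c28 LD3_c34) Lrfl Lrfl
theorem f199132 : Led Lsl_ct (LP (LK LD1_c0 LD2_c25 LD3_c29)) = (LP (LK LD1_c0 LD2_c11 LD3_c47)) :=
  Lgr Lrot63 (Lpr_bt (f199125 IH) (Lpr_gt (f199118 IH) (Lpe (f174935 IH) (Lpr_ct (K9.f9471 IH) (Lpr_gt (K9.f9486 IH) (Lpe (K9.f165205 IH) (Lpr_bt (K10.f165212 IH) (Lpe (K10.f196932 IH) (Lpr_ct (K10.f52669 IH) (Lpe (K9.f166429 IH) (Lpn (LP (LK LD1_c0 LD2_c11 LD3_c47)))))))))))))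
theorem f53019 : Led Lsl_dt (LP (LK LD1_c0 LD2_c56 LD3_c11)) = (LP (LK LD1_c0 LD2_c25 LD3_c29)) :=
  Lre_d IH (LK LD1_c0 LD2_c56 LD3_c11) (LK LD1_c0 LD2_c25 LD3_c29) Lrfl Lrfl
theorem f28918 : Led Lsl_ct (LP (LK LD1_c1 LD2_c58 LD3_c42)) = (LP (LK LD1_c0 LD2_c56 LD3_c11)) :=
  Lre_c IH (LK LD1_c1 LD2_c58 LD3_c42) (LK LD1_c0 LD2_c56 LD3_c11) Lrfl Lrfl
theorem f28922 : Led Lsl_ct (LP (LK LD1_c0 LD2_c56 LD3_c11)) = (LP (LK LD1_c1 LD2_c58 LD3_c42)) :=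
  Lre_c IH (LK LD1_c0 LD2_c56 LD3_c11) (LK LD1_c1 LD2_c58 LD3_c42) Lrfl Lrfl
theorem f200820 : Led Lsl_df (LP (LK LD1_c1 LD2_c58 LD3_c42)) = (LP (LK LD1_c1 LD2_c58 LD3_c60)) :=
  Lgr Lrot84 (Lpe (f28922 IH) (Lpe (K9.f28822 IH) (Lpe (K9.f28814 IH) (Lpe (f52292 IH) (Lpe (f53056 IH) (Lpe (f53032 IH) (Lpe (f200818 IH) (Lpr_dt (f52659 IH) (Lpr_gt (f200804 IH) (Lpn (LP (LK LD1_c1 LD2_c58 LD3_c60))))))))))))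
theorem f211278 : Led Lsl_dt (LP (LK LD1_c0 LD2_c59 LD3_c25)) = (LP (LK LD1_c0 LD2_c56 LD3_c17)) :=
  Lgr Lrot173 (Lpe (f201063 IH) (Lpe (f201062 IH) (Lpr_cf (f201045 IH) (Lpe (f53072 IH) (Lpe (f200803 IH) (Lpr_df (f200801 IH) (Lpe (f199145 IH) (Lpr_df (f211272 IH) (Lpe (f53336 IH) (Lpe (f166433 IH) (Lpe (f199132 IH) (Lpe (f53019 IH) (Lpe (f28918 IH) (Lpr_df (f200820 IH) (Lpe (f53022 IH) (Lpn (LP (LK LD1_c0 LD2_c56 LD3_c17))))))))))))))))))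
theorem f31189 : Led Lsl_gt (LP (LK LD1_c2 LD2_c7 LD3_c55)) = (LP (LK LD1_c1 LD2_c58 LD3_c45)) :=
  Lgr Lrot5 (Lpr_ft (K0.f31185 IH) (Lpr_at (K0.f31174 IH) (Lpr_gf (f28815 IH) (Lpn (LP (LK LD1_c1 LD2_c58 LD3_c45))))))
theorem f211293 : Led Lsl_et (LP (LK LD1_c0 LD2_c59 LD3_c25)) = (LP (LK LD1_c0 LD2_c33 LD3_c17)) :=
  Lgr Lrot121 (Lpr_dt (f211278 IH) (Lpe (f28119 IH) (Lpe (f28106 IH) (Lpr_et (K1.f27960 IH) (Lpe (f28137 IH) (Lpe (f28138 IH) (Lpr_dt (f28139 IH) (Lpe (f31189 IH) (Lpe (f31139 IH) (Lpe (K10.f31622 IH) (Lpn (LP (LK LD1_c0 LD2_c33 LD3_c17)))))))))))))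
theorem f201069 : Led Lsl_ct (LP (LK LD1_c0 LD2_c59 LD3_c25)) = (LP (LK LD1_c0 LD2_c27 LD3_c3)) :=
  Lre_c IH (LK LD1_c0 LD2_c59 LD3_c25) (LK LD1_c0 LD2_c27 LD3_c3) Lrfl Lrfl
theorem f201300 : Led Lsl_dt (LP (LK LD1_c0 LD2_c56 LD3_c17)) = (LP (LK LD1_c0 LD2_c59 LD3_c25)) :=
  Lgr Lrot105 (Lpe (f28119 IH) (Lpe (f28106 IH) (Lpe (f28137 IH) (Lpr_cf (f193331 IH) (Lpr_gt (f166422 IH) (Lpr_dt (f201290 IH) (Lpr_gt (f201298 IH) (Lpr_dt (f201062 IH) (Lpe (f201069 IH) (Lpn (LP (LK LD1_c0 LD2_c59 LD3_c25))))))))))))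
theorem f28120 : Led Lsl_et (LP (LK LD1_c1 LD2_c58 LD3_c61)) = (LP (LK LD1_c0 LD2_c56 LD3_c17)) :=
  Lre_e IH (LK LD1_c1 LD2_c58 LD3_c61) (LK LD1_c0 LD2_c56 LD3_c17) Lrfl Lrfl
theorem f31640 : Led Lsl_et (LP (LK LD1_c1 LD2_c11 LD3_c57)) = (LP (LK LD1_c2 LD2_c29 LD3_c49)) :=
  Lre_e IH (LK LD1_c1 LD2_c11 LD3_c57) (LK LD1_c2 LD2_c29 LD3_c49) Lrfl Lrfl
theorem f211297 : Led Lsl_df (LP (LK LD1_c1 LD2_c58 LD3_c61)) = (LP (LK LD1_c2 LD2_c29 LD3_c49)) :=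
  Lgr Lrot70 (Lpr_et (f28120 IH) (Lpr_dt (f201300 IH) (Lpr_et (f211293 IH) (Lpr_dt (K10.f31631 IH) (Lpr_et (f31640 IH) (Lpn (LP (LK LD1_c2 LD2_c29 LD3_c49))))))))
theorem f211305 : Led Lsl_ft (LP (LK LD1_c1 LD2_c58 LD3_c61)) = (LP (LK LD1_c4 LD2_c4 LD3_c6)) :=
  Lre_f IH (LK LD1_c1 LD2_c58 LD3_c61) (LK LD1_c4 LD2_c4 LD3_c6) Lrfl Lrfl
theorem f211306 : Led Lsl_ft (LP (LK LD1_c5 LD2_c5 LD3_c3)) = (LP (LK LD1_c2 LD2_c29 LD3_c49)) :=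
  Lre_f IH (LK LD1_c5 LD2_c5 LD3_c3) (LK LD1_c2 LD2_c29 LD3_c49) Lrfl Lrfl
theorem f211307 : Led Lsl_dt (LP (LK LD1_c4 LD2_c4 LD3_c6)) = (LP (LK LD1_c5 LD2_c5 LD3_c3)) :=
  Lgr Lrot60 (Lpe (f211305 IH) (Lpr_df (f211297 IH) (Lpe (f211306 IH) (Lpn (LP (LK LD1_c5 LD2_c5 LD3_c3))))))
theorem f211335 : Led Lsl_df (LP (LK LD1_c4 LD2_c4 LD3_c6)) = (LP (LK LD1_c5 LD2_c5 LD3_c3)) :=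
  Lgr Lrot38 (Lpr_dt (f211307 IH) (Lpn (LP (LK LD1_c5 LD2_c5 LD3_c3))))
theorem f211341 : Led Lsl_bt (LP (LK LD1_c4 LD2_c4 LD3_c6)) = (LP (LK LD1_c8 LD2_c8 LD3_c39)) :=
  Lre_b IH (LK LD1_c4 LD2_c4 LD3_c6) (LK LD1_c8 LD2_c8 LD3_c39) Lrfl Lrfl
theorem f211342 : Led Lsl_bt (LP (LK LD1_c10 LD2_c0 LD3_c48)) = (LP (LK LD1_c5 LD2_c5 LD3_c3)) :=
  Lre_b IH (LK LD1_c10 LD2_c0 LD3_c48) (LK LD1_c5 LD2_c5 LD3_c3) Lrfl Lrfl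
theorem f211343 : Led Lsl_dt (LP (LK LD1_c8 LD2_c8 LD3_c39)) = (LP (LK LD1_c10 LD2_c0 LD3_c48)) :=
  Lgr Lrot79 (Lpe (f211341 IH) (Lpr_df (f211335 IH) (Lpe (f211342 IH) (Lpn (LP (LK LD1_c10 LD2_c0 LD3_c48))))))
theorem f211352 : Led Lsl_ft (LP (LK LD1_c4 LD2_c4 LD3_c1)) = (LP (LK LD1_c8 LD2_c8 LD3_c39)) :=
  Lre_f IH (LK LD1_c4 LD2_c4 LD3_c1) (LK LD1_c8 LD2_c8 LD3_c39) Lrfl Lrfl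
theorem f211353 : Led Lsl_ft (LP (LK LD1_c10 LD2_c0 LD3_c48)) = (LP (LK LD1_c5 LD2_c4 LD3_c52)) :=
  Lre_f IH (LK LD1_c10 LD2_c0 LD3_c48) (LK LD1_c5 LD2_c4 LD3_c52) Lrfl Lrfl
theorem f211354 : Led Lsl_df (LP (LK LD1_c4 LD2_c4 LD3_c1)) = (LP (LK LD1_c5 LD2_c4 LD3_c52)) :=
  Lgr Lrot78 (Lpr_ft (f211352 IH) (Lpr_dt (f211343 IH) (Lpr_ft (f211353 IH) (Lpn (LP (LK LD1_c5 LD2_c4 LD3_c52))))))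
theorem f201121 : Led Lsl_et (LP (LK LD1_c4 LD2_c4 LD3_c1)) = (LP (LK LD1_c1 LD2_c58 LD3_c59)) :=
  Lre_e IH (LK LD1_c4 LD2_c4 LD3_c1) (LK LD1_c1 LD2_c58 LD3_c59) Lrfl Lrfl
theorem f211284 : Led Lsl_bt (LP (LK LD1_c2 LD2_c4 LD3_c49)) = (LP (LK LD1_c0 LD2_c59 LD3_c25)) :=
  Lre_b IH (LK LD1_c2 LD2_c4 LD3_c49) (LK LD1_c0 LD2_c59 LD3_c25) Lrfl Lrfl
theorem f200826 : Led Lsl_bt (LP (LK LD1_c0 LD2_c56 LD3_c17)) = (LP (LK LD1_c1 LD2_c58 LD3_c59)) :=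
  Lre_b IH (LK LD1_c0 LD2_c56 LD3_c17) (LK LD1_c1 LD2_c58 LD3_c59) Lrfl Lrfl
theorem f211285 : Led Lsl_df (LP (LK LD1_c2 LD2_c4 LD3_c49)) = (LP (LK LD1_c1 LD2_c58 LD3_c59)) :=
  Lgr Lrot12 (Lpr_bt (f211284 IH) (Lpr_dt (f211278 IH) (Lpr_bt (f200826 IH) (Lpn (LP (LK LD1_c1 LD2_c58 LD3_c59))))))
theorem f194613 : Led Lsl_et (LP (LK LD1_c2 LD2_c29 LD3_c45)) = (LP (LK LD1_c5 LD2_c4 LD3_c52)) :=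
  Lre_e IH (LK LD1_c2 LD2_c29 LD3_c45) (LK LD1_c5 LD2_c4 LD3_c52) Lrfl Lrfl
theorem f191777 : Led Lsl_dt (LP (LK LD1_c1 LD2_c11 LD3_c56)) = (LP (LK LD1_c2 LD2_c29 LD3_c45)) :=
  Lre_d IH (LK LD1_c1 LD2_c11 LD3_c56) (LK LD1_c2 LD2_c29 LD3_c45) Lrfl Lrfl
theorem f211364 : Led Lsl_et (LP (LK LD1_c2 LD2_c4 LD3_c49)) = (LP (LK LD1_c1 LD2_c11 LD3_c56)) :=
  Lgr Lrot71 (Lpr_df (f211285 IH) (Lpe (f201121 IH) (Lpr_df (f211354 IH) (Lpe (f194613 IH) (Lpe (f191777 IH) (Lpn (LP (LK LD1_c1 LD2_c11 LD3_c56))))))))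
theorem f165188 : Led Lsl_bt (LP (LK LD1_c1 LD2_c9 LD3_c29)) = (LP (LK LD1_c0 LD2_c31 LD3_c60)) :=
  Lre_b IH (LK LD1_c1 LD2_c9 LD3_c29) (LK LD1_c0 LD2_c31 LD3_c60) Lrfl Lrfl
theorem f163709 : Led Lsl_bt (LP (LK LD1_c0 LD2_c14 LD3_c59)) = (LP (LK LD1_c0 LD2_c33 LD3_c19)) :=
  Lre_b IH (LK LD1_c0 LD2_c14 LD3_c59) (LK LD1_c0 LD2_c33 LD3_c19) Lrfl Lrfl
theorem f165189 : Led Lsl_ef (LP (LK LD1_c1 LD2_c9 LD3_c29)) = (LP (LK LD1_c0 LD2_c33 LD3_c19)) :=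
  Lgr Lrot29 (Lpr_bt (f165188 IH) (Lpr_et (K9.f165186 IH) (Lpr_bt (f163709 IH) (Lpn (LP (LK LD1_c0 LD2_c33 LD3_c19))))))
theorem f211381 : Led Lsl_cf (LP (LK LD1_c2 LD2_c4 LD3_c49)) = (LP (LK LD1_c1 LD2_c9 LD3_c29)) :=
  Lgr Lrot39 (Lpr_et (f211364 IH) (Lpr_ct (K10.f31638 IH) (Lpe (f165189 IH) (Lpn (LP (LK LD1_c1 LD2_c9 LD3_c29))))))
theorem f3088 : Led Lsl_bt (LP (LK LD1_c0 LD2_c31 LD3_c60)) = (LP (LK LD1_c1 LD2_c9 LD3_c29)) :=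
  Lre_b IH (LK LD1_c0 LD2_c31 LD3_c60) (LK LD1_c1 LD2_c9 LD3_c29) Lrfl Lrfl
theorem f211387 : Led Lsl_bt (LP (LK LD1_c0 LD2_c27 LD3_c3)) = (LP (LK LD1_c0 LD2_c14 LD3_c16)) :=
  Lgr Lrot128 (Lpe (f201069 IH) (Lpe (f211284 IH) (Lpr_cf (f211381 IH) (Lpe (f3088 IH) (Lpe (K9.f3087 IH) (Lpn (LP (LK LD1_c0 LD2_c14 LD3_c16))))))))
theorem f177893 : Led Lsl_bt (LP (LK LD1_c0 LD2_c12 LD3_c48)) = (LP (LK LD1_c0 LD2_c12 LD3_c48)) :=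
  Lgr Lrot119 (Lpe (K9.f174634 IH) (Lpr_bf (K9.f177874 IH) (Lpe (K9.f6847 IH) (Lpn (LP (LK LD1_c0 LD2_c12 LD3_c48))))))
theorem f177903 : Led Lsl_bf (LP (LK LD1_c0 LD2_c28 LD3_c59)) = (LP (LK LD1_c0 LD2_c28 LD3_c59)) :=
  Lgr Lrot93 (Lpr_dt (K9.f20594 IH) (Lpr_bt (f177893 IH) (Lpr_dt (K9.f6848 IH) (Lpn (LP (LK LD1_c0 LD2_c28 LD3_c59))))))
theorem f166461 : Led Lsl_bt (LP (LK LD1_c0 LD2_c11 LD3_c49)) = (LP (LK LD1_c0 LD2_c26 LD3_c33)) :=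
  Lre_b IH (LK LD1_c0 LD2_c11 LD3_c49) (LK LD1_c0 LD2_c26 LD3_c33) Lrfl Lrfl
theorem f53326 : Led Lsl_gt (LP (LK LD1_c0 LD2_c26 LD3_c39)) = (LP (LK LD1_c0 LD2_c58 LD3_c49)) :=
  Lre_g IH (LK LD1_c0 LD2_c26 LD3_c39) (LK LD1_c0 LD2_c58 LD3_c49) Lrfl Lrfl
theorem f168328 : Led Lsl_bt (LP (LK LD1_c0 LD2_c14 LD3_c38)) = (LP (LK LD1_c0 LD2_c32 LD3_c36)) :=
  Lre_b IH (LK LD1_c0 LD2_c14 LD3_c38) (LK LD1_c0 LD2_c32 LD3_c36) Lrfl Lrfl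
theorem f179100 : Led Lsl_gt (LP (LK LD1_c0 LD2_c31 LD3_c60)) = (LP (LK LD1_c0 LD2_c15 LD3_c61)) :=
  Lgr Lrot94 (Lpe (K9.f3087 IH) (Lpr_gt (K9.f179098 IH) (Lpr_dt (K9.f9488 IH) (Lpe (K9.f179080 IH) (Lpr_dt (K9.f266 IH) (Lpe (K9.f171034 IH) (Lpe (K9.f525 IH) (Lpr_gf (K9.f178830 IH) (Lpe (K9.f168322 IH) (Lpn (LP (LK LD1_c0 LD2_c15 LD3_c61))))))))))))
theorem f201331 : Led Lsl_cf (LP (LK LD1_c0 LD2_c58 LD3_c49)) = (LP (LK LD1_c0 LD2_c28 LD3_c59)) :=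
  Lgr Lrot58 (Lpe (f53326 IH) (Lpe (K9.f53156 IH) (Lpr_bt (f166461 IH) (Lpr_gf (f201329 IH) (Lpe (f168328 IH) (Lpr_ct (K9.f168183 IH) (Lpe (f179100 IH) (Lpe (K9.f3087 IH) (Lpr_gf (K9.f164719 IH) (Lpr_bf (f177903 IH) (Lpn (LP (LK LD1_c0 LD2_c28 LD3_c59)))))))))))))
theorem f6801 : Led Lsl_bt (LP (LK LD1_c0 LD2_c54 LD3_c53)) = (LP (LK LD1_c0 LD2_c24 LD3_c50)) :=
  Lre_b IH (LK LD1_c0 LD2_c54 LD3_c53) (LK LD1_c0 LD2_c24 LD3_c50) Lrfl Lrfl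
theorem f173352 : Led Lsl_et (LP (LK LD1_c0 LD2_c54 LD3_c22)) = (LP (LK LD1_c1 LD2_c55 LD3_c16)) :=
  Lre_e IH (LK LD1_c0 LD2_c54 LD3_c22) (LK LD1_c1 LD2_c55 LD3_c16) Lrfl Lrfl
theorem f6830 : Led Lsl_et (LP (LK LD1_c0 LD2_c54 LD3_c53)) = (LP (LK LD1_c0 LD2_c24 LD3_c48)) :=
  Lre_e IH (LK LD1_c0 LD2_c54 LD3_c53) (LK LD1_c0 LD2_c24 LD3_c48) Lrfl Lrfl
theorem f173353 : Led Lsl_ct (LP (LK LD1_c1 LD2_c55 LD3_c16)) = (LP (LK LD1_c0 LD2_c54 LD3_c53)) :=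
  Lgr Lrot15 (Lpe (f173352 IH) (Lpr_cf (K10.f173208 IH) (Lpe (f6830 IH) (Lpn (LP (LK LD1_c0 LD2_c54 LD3_c53))))))
theorem f173356 : Led Lsl_cf (LP (LK LD1_c1 LD2_c55 LD3_c16)) = (LP (LK LD1_c0 LD2_c54 LD3_c53)) :=
  Lgr Lrot11 (Lpr_ct (f173353 IH) (Lpn (LP (LK LD1_c0 LD2_c54 LD3_c53))))
theorem f211393 : Led Lsl_gt (LP (LK LD1_c0 LD2_c59 LD3_c25)) = (LP (LK LD1_c1 LD2_c55 LD3_c16)) :=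
  Lgr Lrot65 (Lpe (f201063 IH) (Lpr_bt (f211387 IH) (Lpr_gf (K9.f164719 IH) (Lpr_bf (f177903 IH) (Lpe (f201331 IH) (Lpe (f53326 IH) (Lpe (K9.f53156 IH) (Lpe (K9.f53321 IH) (Lpe (f6801 IH) (Lpe (f173356 IH) (Lpn (LP (LK LD1_c1 LD2_c55 LD3_c16)))))))))))))
theorem f28130 : Led Lsl_ct (LP (LK LD1_c0 LD2_c55 LD3_c31)) = (LP (LK LD1_c0 LD2_c25 LD3_c14)) :=
  Lre_c IH (LK LD1_c0 LD2_c55 LD3_c31) (LK LD1_c0 LD2_c25 LD3_c14) Lrfl Lrfl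
theorem f196538 : Led Lsl_bf (LP (LK LD1_c0 LD2_c55 LD3_c31)) = (LP (LK LD1_c1 LD2_c15 LD3_c53)) :=
  Lgr Lrot93 (Lpr_dt (f28106 IH) (Lpr_bt (K10.f196414 IH) (Lpr_dt (K10.f194625 IH) (Lpn (LP (LK LD1_c1 LD2_c15 LD3_c53))))))
theorem f182176 : Led Lsl_ct (LP (LK LD1_c1 LD2_c19 LD3_c3)) = (LP (LK LD1_c1 LD2_c15 LD3_c53)) :=
  Lre_c IH (LK LD1_c1 LD2_c19 LD3_c3) (LK LD1_c1 LD2_c15 LD3_c53) Lrfl Lrfl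
theorem f194658 : Led Lsl_bt (LP (LK LD1_c0 LD2_c36 LD3_c31)) = (LP (LK LD1_c1 LD2_c19 LD3_c3)) :=
  Lre_b IH (LK LD1_c0 LD2_c36 LD3_c31) (LK LD1_c1 LD2_c19 LD3_c3) Lrfl Lrfl
theorem f201288 : Led Lsl_ct (LP (LK LD1_c0 LD2_c26 LD3_c32)) = (LP (LK LD1_c0 LD2_c36 LD3_c31)) :=
  Lgr Lrot83 (Lpr_bf (f201282 IH) (Lpe (f28130 IH) (Lpr_bf (f196538 IH) (Lpe (f182176 IH) (Lpe (f194658 IH) (Lpn (LP (LK LD1_c0 LD2_c36 LD3_c31))))))))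
theorem f166434 : Led Lsl_gt (LP (LK LD1_c0 LD2_c26 LD3_c33)) = (LP (LK LD1_c0 LD2_c58 LD3_c31)) :=
  Lre_g IH (LK LD1_c0 LD2_c26 LD3_c33) (LK LD1_c0 LD2_c58 LD3_c31) Lrfl Lrfl
theorem f166451 : Led Lsl_ct (LP (LK LD1_c0 LD2_c58 LD3_c31)) = (LP (LK LD1_c2 LD2_c3 LD3_c13)) :=
  Lre_c IH (LK LD1_c0 LD2_c58 LD3_c31) (LK LD1_c2 LD2_c3 LD3_c13) Lrfl Lrfl
theorem f211248 : Led Lsl_gf (LP (LK LD1_c1 LD2_c19 LD3_c46)) = (LP (LK LD1_c2 LD2_c3 LD3_c13)) :=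
  Lgr Lrot104 (Lpr_ct (f211242 IH) (Lpe (f27957 IH) (Lpe (K9.f182174 IH) (Lpe (K10.f182178 IH) (Lpe (f201288 IH) (Lpe (f166422 IH) (Lpe (f166446 IH) (Lpr_gt (f166434 IH) (Lpr_ct (f166451 IH) (Lpn (LP (LK LD1_c2 LD2_c3 LD3_c13))))))))))))
theorem f166456 : Led Lsl_ct (LP (LK LD1_c2 LD2_c3 LD3_c13)) = (LP (LK LD1_c0 LD2_c58 LD3_c31)) :=
  Lre_c IH (LK LD1_c2 LD2_c3 LD3_c13) (LK LD1_c0 LD2_c58 LD3_c31) Lrfl Lrfl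
theorem f211268 : Led Lsl_gt (LP (LK LD1_c0 LD2_c58 LD3_c31)) = (LP (LK LD1_c0 LD2_c27 LD3_c3)) :=
  Lgr Lrot94 (Lpe (f166456 IH) (Lpe (f211248 IH) (Lpr_dt (f211260 IH) (Lpr_gt (f27782 IH) (Lpr_dt (K10.f52670 IH) (Lpe (K10.f52668 IH) (Lpr_df (K10.f7996 IH) (Lpe (f28215 IH) (Lpe (f28216 IH) (Lpn (LP (LK LD1_c0 LD2_c27 LD3_c3))))))))))))
theorem f27827 : Led Lsl_et (LP (LK LD1_c0 LD2_c28 LD3_c8)) = (LP (LK LD1_c0 LD2_c12 LD3_c25)) :=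
  Lre_e IH (LK LD1_c0 LD2_c28 LD3_c8) (LK LD1_c0 LD2_c12 LD3_c25) Lrfl Lrfl
theorem f166444 : Led Lsl_df (LP (LK LD1_c0 LD2_c58 LD3_c31)) = (LP (LK LD1_c0 LD2_c28 LD3_c8)) :=
  Lgr Lrot132 (Lpe (f166434 IH) (Lpe (f166433 IH) (Lpr_gf (K9.f166429 IH) (Lpe (K9.f27492 IH) (Lpr_dt (K0.f27537 IH) (Lpe (K0.f27810 IH) (Lpe (K0.f16671 IH) (Lpr_et (K9.f27825 IH) (Lpe (K9.f27826 IH) (Lpe (f27827 IH) (Lpn (LP (LK LD1_c0 LD2_c28 LD3_c8)))))))))))))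
theorem f166453 : Led Lsl_dt (LP (LK LD1_c0 LD2_c58 LD3_c31)) = (LP (LK LD1_c0 LD2_c28 LD3_c8)) :=
  Lgr Lrot42 (Lpr_df (f166444 IH) (Lpn (LP (LK LD1_c0 LD2_c28 LD3_c8))))
theorem f27406 : Led Lsl_ft (LP (LK LD1_c2 LD2_c4 LD3_c20)) = (LP (LK LD1_c0 LD2_c59 LD3_c11)) :=
  Lre_f IH (LK LD1_c2 LD2_c4 LD3_c20) (LK LD1_c0 LD2_c59 LD3_c11) Lrfl Lrfl
theorem f27407 : Led Lsl_et (LP (LK LD1_c2 LD2_c4 LD3_c20)) = (LP (LK LD1_c2 LD2_c4 LD3_c20)) :=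
  Lgr Lrot69 (Lpe (K9.f27404 IH) (Lpe (K10.f27403 IH) (Lpr_ff (K0.f27385 IH) (Lpe (K10.f27405 IH) (Lpe (f27406 IH) (Lpn (LP (LK LD1_c2 LD2_c4 LD3_c20))))))))
theorem f27413 : Led Lsl_dt (LP (LK LD1_c4 LD2_c13 LD3_c57)) = (LP (LK LD1_c2 LD2_c4 LD3_c20)) :=
  Lre_d IH (LK LD1_c4 LD2_c13 LD3_c57) (LK LD1_c2 LD2_c4 LD3_c20) Lrfl Lrfl
theorem f27414 : Led Lsl_et (LP (LK LD1_c8 LD2_c26 LD3_c31)) = (LP (LK LD1_c4 LD2_c13 LD3_c57)) :=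
  Lre_e IH (LK LD1_c8 LD2_c26 LD3_c31) (LK LD1_c4 LD2_c13 LD3_c57) Lrfl Lrfl
theorem f27415 : Led Lsl_dt (LP (LK LD1_c2 LD2_c4 LD3_c20)) = (LP (LK LD1_c4 LD2_c13 LD3_c57)) :=
  Lre_d IH (LK LD1_c2 LD2_c4 LD3_c20) (LK LD1_c4 LD2_c13 LD3_c57) Lrfl Lrfl
theorem f27417 : Led Lsl_df (LP (LK LD1_c8 LD2_c26 LD3_c31)) = (LP (LK LD1_c8 LD2_c26 LD3_c31)) :=
  Lgr Lrot70 (Lpr_et (f27414 IH) (Lpr_dt (f27413 IH) (Lpr_et (f27407 IH) (Lpr_dt (f27415 IH) (Lpr_et (f27416 IH) (Lpn (LP (LK LD1_c8 LD2_c26 LD3_c31))))))))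
theorem f27423 : Led Lsl_ft (LP (LK LD1_c8 LD2_c26 LD3_c31)) = (LP (LK LD1_c4 LD2_c14 LD3_c18)) :=
  Lre_f IH (LK LD1_c8 LD2_c26 LD3_c31) (LK LD1_c4 LD2_c14 LD3_c18) Lrfl Lrfl
theorem f27425 : Led Lsl_dt (LP (LK LD1_c4 LD2_c14 LD3_c18)) = (LP (LK LD1_c4 LD2_c14 LD3_c18)) :=
  Lgr Lrot60 (Lpe (f27423 IH) (Lpr_df (f27417 IH) (Lpe (f27424 IH) (Lpn (LP (LK LD1_c4 LD2_c14 LD3_c18))))))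
theorem f27431 : Led Lsl_bt (LP (LK LD1_c2 LD2_c4 LD3_c48)) = (LP (LK LD1_c4 LD2_c14 LD3_c18)) :=
  Lre_b IH (LK LD1_c2 LD2_c4 LD3_c48) (LK LD1_c4 LD2_c14 LD3_c18) Lrfl Lrfl
theorem f27432 : Led Lsl_bt (LP (LK LD1_c4 LD2_c14 LD3_c18)) = (LP (LK LD1_c2 LD2_c4 LD3_c48)) :=
  Lre_b IH (LK LD1_c4 LD2_c14 LD3_c18) (LK LD1_c2 LD2_c4 LD3_c48) Lrfl Lrfl
theorem f27433 : Led Lsl_df (LP (LK LD1_c2 LD2_c4 LD3_c48)) = (LP (LK LD1_c2 LD2_c4 LD3_c48)) :=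
  Lgr Lrot12 (Lpr_bt (f27431 IH) (Lpr_dt (f27425 IH) (Lpr_bt (f27432 IH) (Lpn (LP (LK LD1_c2 LD2_c4 LD3_c48))))))
theorem f27458 : Led Lsl_et (LP (LK LD1_c2 LD2_c4 LD3_c48)) = (LP (LK LD1_c0 LD2_c59 LD3_c24)) :=
  Lre_e IH (LK LD1_c2 LD2_c4 LD3_c48) (LK LD1_c0 LD2_c59 LD3_c24) Lrfl Lrfl
theorem f27460 : Led Lsl_et (LP (LK LD1_c0 LD2_c59 LD3_c24)) = (LP (LK LD1_c2 LD2_c4 LD3_c48)) :=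
  Lre_e IH (LK LD1_c0 LD2_c59 LD3_c24) (LK LD1_c2 LD2_c4 LD3_c48) Lrfl Lrfl
theorem f27462 : Led Lsl_et (LP (LK LD1_c0 LD2_c27 LD3_c2)) = (LP (LK LD1_c0 LD2_c27 LD3_c2)) :=
  Lgr Lrot71 (Lpe (K10.f27459 IH) (Lpe (f27458 IH) (Lpr_df (f27433 IH) (Lpe (f27460 IH) (Lpe (K10.f27461 IH) (Lpn (LP (LK LD1_c0 LD2_c27 LD3_c2))))))))
theorem f27483 : Led Lsl_ef (LP (LK LD1_c0 LD2_c11 LD3_c61)) = (LP (LK LD1_c0 LD2_c11 LD3_c61)) :=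
  Lgr Lrot28 (Lpr_ct (K10.f27481 IH) (Lpr_et (f27462 IH) (Lpr_ct (K10.f27482 IH) (Lpn (LP (LK LD1_c0 LD2_c11 LD3_c61))))))
theorem f180099 : Led Lsl_dt (LP (LK LD1_c0 LD2_c12 LD3_c11)) = (LP (LK LD1_c0 LD2_c27 LD3_c33)) :=
  Lre_d IH (LK LD1_c0 LD2_c12 LD3_c11) (LK LD1_c0 LD2_c27 LD3_c33) Lrfl Lrfl
theorem f180115 : Led Lsl_dt (LP (LK LD1_c1 LD2_c0 LD3_c34)) = (LP (LK LD1_c0 LD2_c27 LD3_c34)) :=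
  Lre_d IH (LK LD1_c1 LD2_c0 LD3_c34) (LK LD1_c0 LD2_c27 LD3_c34) Lrfl Lrfl
theorem f180116 : Led Lsl_ef (LP (LK LD1_c1 LD2_c0 LD3_c34)) = (LP (LK LD1_c1 LD2_c0 LD3_c50)) :=
  Lgr Lrot73 (Lpr_dt (f180115 IH) (Lpr_et (K9.f180104 IH) (Lpr_dt (f180099 IH) (Lpr_et (K10.f180110 IH) (Lpr_dt (f32070 IH) (Lpn (LP (LK LD1_c1 LD2_c0 LD3_c50))))))))
theorem f34767 : Led Lsl_et (LP (LK LD1_c0 LD2_c12 LD3_c26)) = (LP (LK LD1_c0 LD2_c5 LD3_c44)) :=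
  Lre_e IH (LK LD1_c0 LD2_c12 LD3_c26) (LK LD1_c0 LD2_c5 LD3_c44) Lrfl Lrfl
theorem f180207 : Led Lsl_gt (LP (LK LD1_c1 LD2_c0 LD3_c34)) = (LP (LK LD1_c0 LD2_c28 LD3_c7)) :=
  Lgr Lrot137 (Lpr_ef (f180116 IH) (Lpr_dt (f34776 IH) (Lpe (K10.f32069 IH) (Lpe (K9.f31999 IH) (Lpe (K1.f34761 IH) (Lpe (K0.f27912 IH) (Lpe (f34767 IH) (Lpr_dt (K1.f28952 IH) (Lpe (K9.f27826 IH) (Lpe (K9.f34768 IH) (Lpn (LP (LK LD1_c0 LD2_c28 LD3_c7)))))))))))))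
theorem f166455 : Led Lsl_et (LP (LK LD1_c0 LD2_c12 LD3_c25)) = (LP (LK LD1_c0 LD2_c28 LD3_c8)) :=
  Lre_e IH (LK LD1_c0 LD2_c12 LD3_c25) (LK LD1_c0 LD2_c28 LD3_c8) Lrfl Lrfl
theorem f193348 : Led Lsl_gf (LP (LK LD1_c0 LD2_c31 LD3_c36)) = (LP (LK LD1_c0 LD2_c28 LD3_c8)) :=
  Lgr Lrot138 (Lpr_dt (K10.f170859 IH) (Lpr_gt (K10.f193333 IH) (Lpe (K10.f52676 IH) (Lpe (f27483 IH) (Lpe (K9.f179842 IH) (Lpe (K9.f180104 IH) (Lpr_dt (K9.f180105 IH) (Lpr_gt (f180207 IH) (Lpe (K9.f166460 IH) (Lpr_et (f166455 IH) (Lpn (LP (LK LD1_c0 LD2_c28 LD3_c8)))))))))))))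

end

end K11

end

end Cfsg.Agent.Helper28.S1692
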