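import Cfsg.Agent.Lib.Helper28.S1692.Seeds11

set_option autoImplicit false
set_option maxRecDepth 100000
set_option linter.all false

namespace Cfsg.Agent.Helper28.S1692

open Cfsg.Agent.Helper28
open Cfsg.Spor.ON (Gen)

noncomputable section

namespace K12
abbrev LD1_c0 := D1.c0
abbrev LD1_c1 := D1.c1
abbrev LD1_c2 := D1.c2
abbrev LD1_c3 := D1.c3
abbrev LD1_c4 := D1.c4
abbrev LD1_c5 := D1.c5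
abbrev LD1_c6 := D1.c6
abbrev LD1_c7 := D1.c7
abbrev LD1_c8 := D1.c8
abbrev LD1_c9 := D1.c9
abbrev LD1_c10 := D1.c10
abbrev LD1_c11 := D1.c11
abbrev LD1_c12 := D1.c12
abbrev LD1_c13 := D1.c13
abbrev LD1_c14 := D1.c14
abbrev LD1_c15 := D1.c15
abbrev LD1_c16 := D1.c16
abbrev LD1_c17 := D1.c17
abbrev LD1_c18 := D1.c18
abbrev LD1_c19 := D1.c19
abbrev LD1_c20 := D1.c20
abbrev LD1_c21 := D1.c21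
abbrev LD1_c22 := D1.c22
abbrev LD1_c23 := D1.c23
abbrev LD1_c24 := D1.c24
abbrev LD1_c25 := D1.c25
abbrev LD1_c26 := D1.c26
abbrev LD1_c27 := D1.c27
abbrev LD1_c28 := D1.c28
abbrev LD1_c29 := D1.c29
abbrev LD1_c30 := D1.c30
abbrev LD1_c31 := D1.c31
abbrev LD1_c32 := D1.c32
abbrev LD2_c0 := D2.c0
abbrev LD2_c1 := D2.c1
abbrev LD2_c2 := D2.c2
abbrev LD2_c3 := D2.c3
abbrev LD2_c4 := D2.c4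
abbrev LD2_c5 := D2.c5
abbrev LD2_c6 := D2.c6
abbrev LD2_c7 := D2.c7
abbrev LD2_c8 := D2.c8
abbrev LD2_c9 := D2.c9
abbrev LD2_c10 := D2.c10
abbrev LD2_c11 := D2.c11
abbrev LD2_c12 := D2.c12
abbrev LD2_c13 := D2.c13
abbrev LD2_c14 := D2.c14
abbrev LD2_c15 := D2.c15
abbrev LD2_c16 := D2.c16
abbrev LD2_c17 := D2.c17
abbrev LD2_c18 := D2.c18
abbrev LD2_c19 := D2.c19
abbrev LD2_c20 := D2.c20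
abbrev LD2_c21 := D2.c21
abbrev LD2_c22 := D2.c22
abbrev LD2_c23 := D2.c23
abbrev LD2_c24 := D2.c24
abbrev LD2_c25 := D2.c25
abbrev LD2_c26 := D2.c26
abbrev LD2_c27 := D2.c27
abbrev LD2_c28 := D2.c28
abbrev LD2_c29 := D2.c29
abbrev LD2_c30 := D2.c30
abbrev LD2_c31 := D2.c31
abbrev LD2_c32 := D2.c32
abbrev LD2_c33 := D2.c33
abbrev LD2_c34 := D2.c34
abbrev LD2_c35 := D2.c35
abbrev LD2_c36 := D2.c36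
abbrev LD2_c37 := D2.c37
abbrev LD2_c38 := D2.c38
abbrev LD2_c39 := D2.c39
abbrev LD2_c40 := D2.c40
abbrev LD2_c41 := D2.c41
abbrev LD2_c42 := D2.c42
abbrev LD2_c43 := D2.c43
abbrev LD2_c44 := D2.c44
abbrev LD2_c45 := D2.c45
abbrev LD2_c46 := D2.c46
abbrev LD2_c47 := D2.c47
abbrev LD2_c48 := D2.c48
abbrev LD2_c49 := D2.c49
abbrev LD2_c50 := D2.c50
abbrev LD2_c51 := D2.c51
abbrev LD2_c52 := D2.c52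
abbrev LD2_c53 := D2.c53
abbrev LD2_c54 := D2.c54
abbrev LD2_c55 := D2.c55
abbrev LD2_c56 := D2.c56
abbrev LD2_c57 := D2.c57
abbrev LD2_c58 := D2.c58
abbrev LD2_c59 := D2.c59
abbrev LD3_c0 := D3.c0
abbrev LD3_c1 := D3.c1
abbrev LD3_c2 := D3.c2
abbrev LD3_c3 := D3.c3
abbrev LD3_c4 := D3.c4
abbrev LD3_c5 := D3.c5
abbrev LD3_c6 := D3.c6
abbrev LD3_c7 := D3.c7
abbrev LD3_c8 := D3.c8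
abbrev LD3_c9 := D3.c9
abbrev LD3_c10 := D3.c10
abbrev LD3_c11 := D3.c11
abbrev LD3_c12 := D3.c12
abbrev LD3_c13 := D3.c13
abbrev LD3_c14 := D3.c14
abbrev LD3_c15 := D3.c15
abbrev LD3_c16 := D3.c16
abbrev LD3_c17 := D3.c17
abbrev LD3_c18 := D3.c18
abbrev LD3_c19 := D3.c19
abbrev LD3_c20 := D3.c20
abbrev LD3_c21 := D3.c21
abbrev LD3_c22 := D3.c22
abbrev LD3_c23 := D3.c23
abbrev LD3_c24 := D3.c24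
abbrev LD3_c25 := D3.c25
abbrev LD3_c26 := D3.c26
abbrev LD3_c27 := D3.c27
abbrev LD3_c28 := D3.c28
abbrev LD3_c29 := D3.c29
abbrev LD3_c30 := D3.c30
abbrev LD3_c31 := D3.c31
abbrev LD3_c32 := D3.c32
abbrev LD3_c33 := D3.c33
abbrev LD3_c34 := D3.c34
abbrev LD3_c35 := D3.c35
abbrev LD3_c36 := D3.c36
abbrev LD3_c37 := D3.c37
abbrev LD3_c38 := D3.c38
abbrev LD3_c39 := D3.c39
abbrev LD3_c40 := D3.c40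
abbrev LD3_c41 := D3.c41
abbrev LD3_c42 := D3.c42
abbrev LD3_c43 := D3.c43
abbrev LD3_c44 := D3.c44
abbrev LD3_c45 := D3.c45
abbrev LD3_c46 := D3.c46
abbrev LD3_c47 := D3.c47
abbrev LD3_c48 := D3.c48
abbrev LD3_c49 := D3.c49
abbrev LD3_c50 := D3.c50
abbrev LD3_c51 := D3.c51
abbrev LD3_c52 := D3.c52
abbrev LD3_c53 := D3.c53
abbrev LD3_c54 := D3.c54
abbrev LD3_c55 := D3.c55
abbrev LD3_c56 := D3.c56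
abbrev LD3_c57 := D3.c57
abbrev LD3_c58 := D3.c58
abbrev LD3_c59 := D3.c59
abbrev LD3_c60 := D3.c60
abbrev LD3_c61 := D3.c61
abbrev LG_g := Gen.g
abbrev Lsl_gt : Gen × Bool := sl_gt
alias Lfl_gt := fl_gt
alias Lpr_gt := pr_gt
abbrev Lsl_gf : Gen × Bool := sl_gf
alias Lfl_gf := fl_gf
alias Lpr_gf := pr_gf
alias Lre_g := re_g
alias Leoe_g := eoe_g
abbrev LG_a := Gen.a
abbrev Lsl_at : Gen × Bool := sl_at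
alias Lfl_at := fl_at
alias Lpr_at := pr_at
abbrev Lsl_af : Gen × Bool := sl_af
alias Lfl_af := fl_af
alias Lpr_af := pr_af
alias Lre_a := re_a
alias Leoe_a := eoe_a
abbrev LG_b := Gen.b
abbrev Lsl_bt : Gen × Bool := sl_bt
alias Lfl_bt := fl_bt
alias Lpr_bt := pr_bt
abbrev Lsl_bf : Gen × Bool := sl_bf
alias Lfl_bf := fl_bf
alias Lpr_bf := pr_bf
alias Lre_b := re_b
alias Leoe_b := eoe_b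
abbrev LG_c := Gen.c
abbrev Lsl_ct : Gen × Bool := sl_ct
alias Lfl_ct := fl_ct
alias Lpr_ct := pr_ct
abbrev Lsl_cf : Gen × Bool := sl_cf
alias Lfl_cf := fl_cf
alias Lpr_cf := pr_cf
alias Lre_c := re_c
alias Leoe_c := eoe_c
abbrev LG_d := Gen.d
abbrev Lsl_dt : Gen × Bool := sl_dt
alias Lfl_dt := fl_dt
alias Lpr_dt := pr_dt
abbrev Lsl_df : Gen × Bool := sl_df
alias Lfl_df := fl_df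
alias Lpr_df := pr_df
alias Lre_d := re_d
alias Leoe_d := eoe_d
abbrev LG_e := Gen.e
abbrev Lsl_et : Gen × Bool := sl_et
alias Lfl_et := fl_et
alias Lpr_et := pr_et
abbrev Lsl_ef : Gen × Bool := sl_ef
alias Lfl_ef := fl_ef
alias Lpr_ef := pr_ef
alias Lre_e := re_e
alias Leoe_e := eoe_e
abbrev LG_f := Gen.f
abbrev Lsl_ft : Gen × Bool := sl_ft
alias Lfl_ft := fl_ft
alias Lpr_ft := pr_ft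
abbrev Lsl_ff : Gen × Bool := sl_ff
alias Lfl_ff := fl_ff
alias Lpr_ff := pr_ff
alias Lre_f := re_f
alias Leoe_f := eoe_f
abbrev LK := Pt.mk
abbrev LQ : Type := Qt rels S
abbrev LP (p : Pt) : LQ := P p
abbrev Led (l : Gen × Bool) (c : LQ) : LQ := ed l c
abbrev LEOK (x : Gen) (p : Pt) : Prop := EntryOK rels S fwd inv o plet idx x p
alias Lpe := pe
alias Lpn := pn
alias Lgr := gr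
alias Lpq := pq
alias Lpqs := pqs
alias Llr := lr
alias Leop := eop
alias Lefun := efun
alias Lecon := econ
theorem Lrfl {α : Sort _} {a : α} : a = a := rfl
alias Lrot0 := rot0
alias Lrot1 := rot1
alias Lrot2 := rot2
alias Lrot3 := rot3
alias Lrot4 := rot4
alias Lrot5 := rot5
alias Lrot6 := rot6
alias Lrot7 := rot7
alias Lrot8 := rot8
alias Lrot9 := rot9
alias Lrot10 := rot10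
alias Lrot11 := rot11
alias Lrot12 := rot12
alias Lrot13 := rot13
alias Lrot14 := rot14
alias Lrot15 := rot15
alias Lrot17 := rot17
alias Lrot18 := rot18
alias Lrot19 := rot19
alias Lrot20 := rot20
alias Lrot21 := rot21
alias Lrot22 := rot22
alias Lrot23 := rot23
alias Lrot24 := rot24
alias Lrot25 := rot25
alias Lrot26 := rot26
alias Lrot27 := rot27
alias Lrot28 := rot28
alias Lrot29 := rot29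
alias Lrot30 := rot30
alias Lrot31 := rot31
alias Lrot32 := rot32
alias Lrot33 := rot33
alias Lrot34 := rot34
alias Lrot35 := rot35
alias Lrot36 := rot36
alias Lrot37 := rot37
alias Lrot38 := rot38
alias Lrot39 := rot39
alias Lrot40 := rot40
alias Lrot41 := rot41
alias Lrot42 := rot42
alias Lrot43 := rot43
alias Lrot44 := rot44
alias Lrot45 := rot45
alias Lrot46 := rot46
alias Lrot47 := rot47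
alias Lrot48 := rot48
alias Lrot49 := rot49
alias Lrot50 := rot50
alias Lrot51 := rot51
alias Lrot52 := rot52
alias Lrot53 := rot53
alias Lrot54 := rot54
alias Lrot55 := rot55
alias Lrot56 := rot56
alias Lrot57 := rot57
alias Lrot58 := rot58
alias Lrot59 := rot59
alias Lrot60 := rot60
alias Lrot61 := rot61
alias Lrot62 := rot62
alias Lrot63 := rot63
alias Lrot64 := rot64
alias Lrot65 := rot65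
alias Lrot66 := rot66
alias Lrot67 := rot67
alias Lrot68 := rot68
alias Lrot69 := rot69
alias Lrot70 := rot70
alias Lrot71 := rot71
alias Lrot72 := rot72
alias Lrot73 := rot73
alias Lrot74 := rot74
alias Lrot75 := rot75
alias Lrot76 := rot76
alias Lrot77 := rot77
alias Lrot78 := rot78
alias Lrot79 := rot79
alias Lrot80 := rot80
alias Lrot81 := rot81
alias Lrot82 := rot82
alias Lrot83 := rot83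
alias Lrot84 := rot84
alias Lrot86 := rot86
alias Lrot87 := rot87
alias Lrot88 := rot88
alias Lrot90 := rot90
alias Lrot91 := rot91
alias Lrot92 := rot92
alias Lrot93 := rot93
alias Lrot94 := rot94
alias Lrot95 := rot95
alias Lrot96 := rot96
alias Lrot97 := rot97
alias Lrot98 := rot98
alias Lrot99 := rot99
alias Lrot100 := rot100
alias Lrot101 := rot101
alias Lrot102 := rot102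
alias Lrot103 := rot103
alias Lrot104 := rot104
alias Lrot105 := rot105
alias Lrot106 := rot106
alias Lrot107 := rot107
alias Lrot108 := rot108
alias Lrot109 := rot109
alias Lrot110 := rot110
alias Lrot111 := rot111
alias Lrot112 := rot112
alias Lrot114 := rot114
alias Lrot115 := rot115
alias Lrot116 := rot116
alias Lrot117 := rot117
alias Lrot119 := rot119
alias Lrot120 := rot120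
alias Lrot121 := rot121
alias Lrot122 := rot122
alias Lrot123 := rot123
alias Lrot124 := rot124
alias Lrot125 := rot125
alias Lrot126 := rot126
alias Lrot127 := rot127
alias Lrot128 := rot128
alias Lrot129 := rot129
alias Lrot130 := rot130
alias Lrot131 := rot131
alias Lrot132 := rot132
alias Lrot133 := rot133
alias Lrot134 := rot134
alias Lrot135 := rot135
alias Lrot136 := rot136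
alias Lrot137 := rot137
alias Lrot138 := rot138
alias Lrot139 := rot139
alias Lrot141 := rot141
alias Lrot142 := rot142
alias Lrot143 := rot143
alias Lrot144 := rot144
alias Lrot145 := rot145
alias Lrot146 := rot146
alias Lrot147 := rot147
alias Lrot148 := rot148
alias Lrot149 := rot149
alias Lrot150 := rot150
alias Lrot151 := rot151
alias Lrot152 := rot152
alias Lrot153 := rot153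
alias Lrot154 := rot154
alias Lrot155 := rot155
alias Lrot156 := rot156
alias Lrot157 := rot157
alias Lrot158 := rot158
alias Lrot160 := rot160
alias Lrot161 := rot161
alias Lrot162 := rot162
alias Lrot163 := rot163
alias Lrot164 := rot164
alias Lrot165 := rot165
alias Lrot166 := rot166
alias Lrot167 := rot167
alias Lrot168 := rot168
alias Lrot169 := rot169
alias Lrot170 := rot170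
alias Lrot171 := rot171
alias Lrot172 := rot172
alias Lrot173 := rot173
alias Lrot174 := rot174
alias Lrot175 := rot175
alias Lrot176 := rot176
alias Lrot179 := rot179
alias Lrot180 := rot180
alias Lrot181 := rot181
alias Lrot185 := rot185
alias Lrot186 := rot186
alias Lrot188 := rot188
alias Lrot189 := rot189

section
variable (IH : IHT)
include IH

theorem f178977 : Led Lsl_ct (LP (LK LD1_c0 LD2_c31 LD3_c36)) = (LP (LK LD1_c1 LD2_c9 LD3_c7)) :=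
  Lre_c IH (LK LD1_c0 LD2_c31 LD3_c36) (LK LD1_c1 LD2_c9 LD3_c7) Lrfl Lrfl
theorem f6802 : Led Lsl_bt (LP (LK LD1_c0 LD2_c27 LD3_c26)) = (LP (LK LD1_c1 LD2_c0 LD3_c25)) :=
  Lre_b IH (LK LD1_c0 LD2_c27 LD3_c26) (LK LD1_c1 LD2_c0 LD3_c25) Lrfl Lrfl
theorem f6803 : Led Lsl_df (LP (LK LD1_c0 LD2_c54 LD3_c53)) = (LP (LK LD1_c1 LD2_c0 LD3_c25)) :=
  Lgr Lrot12 (Lpr_bt (K11.f6801 IH) (Lpr_dt (K9.f6799 IH) (Lpr_bt (f6802 IH) (Lpn (LP (LK LD1_c1 LD2_c0 LD3_c25))))))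
theorem f6829 : Led Lsl_ct (LP (LK LD1_c2 LD2_c6 LD3_c54)) = (LP (LK LD1_c1 LD2_c0 LD3_c25)) :=
  Lre_c IH (LK LD1_c2 LD2_c6 LD3_c54) (LK LD1_c1 LD2_c0 LD3_c25) Lrfl Lrfl
theorem f211433 : Led Lsl_gt (LP (LK LD1_c1 LD2_c9 LD3_c7)) = (LP (LK LD1_c2 LD2_c6 LD3_c54)) :=
  Lgr Lrot150 (Lpe (f178977 IH) (Lpr_gf (K11.f193348 IH) (Lpe (K11.f166453 IH) (Lpr_gt (K11.f211268 IH) (Lpr_ct (K11.f201063 IH) (Lpr_gt (K11.f211393 IH) (Lpr_ct (K11.f173353 IH) (Lpr_df (f6803 IH) (Lpe (f6829 IH) (Lpn (LP (LK LD1_c2 LD2_c6 LD3_c54))))))))))))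
theorem f53089 : Led Lsl_dt (LP (LK LD1_c0 LD2_c25 LD3_c34)) = (LP (LK LD1_c0 LD2_c11 LD3_c23)) :=
  Lre_d IH (LK LD1_c0 LD2_c25 LD3_c34) (LK LD1_c0 LD2_c11 LD3_c23) Lrfl Lrfl
theorem f28957 : Led Lsl_ct (LP (LK LD1_c0 LD2_c56 LD3_c22)) = (LP (LK LD1_c1 LD2_c59 LD3_c13)) :=
  Lre_c IH (LK LD1_c0 LD2_c56 LD3_c22) (LK LD1_c1 LD2_c59 LD3_c13) Lrfl Lrfl
theorem f201070 : Led Lsl_gf (LP (LK LD1_c0 LD2_c59 LD3_c25)) = (LP (LK LD1_c1 LD2_c59 LD3_c13)) :=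
  Lgr Lrot104 (Lpr_ct (K11.f201069 IH) (Lpe (K11.f201062 IH) (Lpr_cf (K11.f201045 IH) (Lpe (K11.f28140 IH) (Lpe (K11.f28129 IH) (Lpe (K11.f28164 IH) (Lpe (f53089 IH) (Lpr_gt (K9.f28914 IH) (Lpr_ct (f28957 IH) (Lpn (LP (LK LD1_c1 LD2_c59 LD3_c13))))))))))))
theorem f211395 : Led Lsl_bt (LP (LK LD1_c0 LD2_c56 LD3_c22)) = (LP (LK LD1_c0 LD2_c58 LD3_c31)) :=
  Lgr Lrot92 (Lpr_ct (f28957 IH) (Lpe (f201070 IH) (Lpe (K11.f201063 IH) (Lpr_bt (K11.f211387 IH) (Lpr_gt (K9.f179098 IH) (Lpr_ct (K9.f165221 IH) (Lpe (K9.f178278 IH) (Lpe (K9.f53156 IH) (Lpr_bt (K11.f166461 IH) (Lpr_gt (K11.f166434 IH) (Lpn (LP (LK LD1_c0 LD2_c58 LD3_c31)))))))))))))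
theorem f211397 : Led Lsl_bf (LP (LK LD1_c0 LD2_c56 LD3_c22)) = (LP (LK LD1_c0 LD2_c58 LD3_c31)) :=
  Lgr Lrot24 (Lpr_bt (f211395 IH) (Lpn (LP (LK LD1_c0 LD2_c58 LD3_c31))))
theorem f211409 : Led Lsl_bt (LP (LK LD1_c0 LD2_c55 LD3_c17)) = (LP (LK LD1_c0 LD2_c28 LD3_c8)) :=
  Lgr Lrot95 (Lpe (K9.f28915 IH) (Lpr_bf (f211397 IH) (Lpr_df (K11.f166444 IH) (Lpn (LP (LK LD1_c0 LD2_c28 LD3_c8))))))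
theorem f6826 : Led Lsl_ct (LP (LK LD1_c1 LD2_c0 LD3_c25)) = (LP (LK LD1_c2 LD2_c6 LD3_c54)) :=
  Lre_c IH (LK LD1_c1 LD2_c0 LD3_c25) (LK LD1_c2 LD2_c6 LD3_c54) Lrfl Lrfl
theorem f6817 : Led Lsl_bt (LP (LK LD1_c1 LD2_c0 LD3_c25)) = (LP (LK LD1_c0 LD2_c27 LD3_c26)) :=
  Lre_b IH (LK LD1_c1 LD2_c0 LD3_c25) (LK LD1_c0 LD2_c27 LD3_c26) Lrfl Lrfl
theorem f211441 : Led Lsl_gf (LP (LK LD1_c1 LD2_c1 LD3_c21)) = (LP (LK LD1_c1 LD2_c0 LD3_c32)) :=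
  Lgr Lrot126 (Lpr_cf (K9.f28920 IH) (Lpr_bt (f211409 IH) (Lpe (K11.f193348 IH) (Lpr_ct (f178977 IH) (Lpr_gt (f211433 IH) (Lpe (f6826 IH) (Lpr_bt (f6817 IH) (Lpe (K9.f170283 IH) (Lpe (K10.f170293 IH) (Lpr_ct (K10.f170294 IH) (Lpn (LP (LK LD1_c1 LD2_c0 LD3_c32)))))))))))))
theorem f28916 : Led Lsl_ct (LP (LK LD1_c1 LD2_c1 LD3_c21)) = (LP (LK LD1_c0 LD2_c55 LD3_c17)) :=
  Lgr Lrot7 (Lpr_df (K9.f28828 IH) (Lpe (K9.f28823 IH) (Lpe (K9.f28822 IH) (Lpe (K9.f28814 IH) (Lpe (K11.f28912 IH) (Lpr_gt (K9.f28781 IH) (Lpr_dt (K9.f28913 IH) (Lpr_gt (K9.f28914 IH) (Lpr_dt (K9.f28915 IH) (Lpn (LP (LK LD1_c0 LD2_c55 LD3_c17))))))))))))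
theorem f28956 : Led Lsl_dt (LP (LK LD1_c0 LD2_c55 LD3_c17)) = (LP (LK LD1_c0 LD2_c56 LD3_c22)) :=
  Lre_d IH (LK LD1_c0 LD2_c55 LD3_c17) (LK LD1_c0 LD2_c56 LD3_c22) Lrfl Lrfl
theorem f28926 : Led Lsl_ct (LP (LK LD1_c1 LD2_c59 LD3_c13)) = (LP (LK LD1_c0 LD2_c56 LD3_c22)) :=
  Lre_c IH (LK LD1_c1 LD2_c59 LD3_c13) (LK LD1_c0 LD2_c56 LD3_c22) Lrfl Lrfl
theorem f201280 : Led Lsl_bt (LP (LK LD1_c0 LD2_c14 LD3_c16)) = (LP (LK LD1_c0 LD2_c27 LD3_c3)) :=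
  Lgr Lrot95 (Lpe (K9.f3085 IH) (Lpr_bf (K11.f201258 IH) (Lpe (K11.f28216 IH) (Lpn (LP (LK LD1_c0 LD2_c27 LD3_c3))))))
theorem f211401 : Led Lsl_gf (LP (LK LD1_c1 LD2_c59 LD3_c13)) = (LP (LK LD1_c0 LD2_c58 LD3_c32)) :=
  Lgr Lrot129 (Lpe (f28957 IH) (Lpr_bt (f211395 IH) (Lpr_gt (K11.f211268 IH) (Lpe (f201280 IH) (Lpr_ct (K9.f3087 IH) (Lpr_gt (K11.f179100 IH) (Lpe (K9.f168183 IH) (Lpr_bt (K11.f168328 IH) (Lpe (K11.f201329 IH) (Lpr_ct (K11.f53336 IH) (Lpn (LP (LK LD1_c0 LD2_c58 LD3_c32)))))))))))))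
theorem f178493 : Led Lsl_bt (LP (LK LD1_c0 LD2_c58 LD3_c48)) = (LP (LK LD1_c0 LD2_c26 LD3_c38)) :=
  Lre_b IH (LK LD1_c0 LD2_c58 LD3_c48) (LK LD1_c0 LD2_c26 LD3_c38) Lrfl Lrfl
theorem f178494 : Led Lsl_df (LP (LK LD1_c0 LD2_c58 LD3_c48)) = (LP (LK LD1_c0 LD2_c32 LD3_c36)) :=
  Lgr Lrot12 (Lpr_bt (f178493 IH) (Lpr_dt (K9.f178489 IH) (Lpr_bt (K11.f168328 IH) (Lpn (LP (LK LD1_c0 LD2_c32 LD3_c36))))))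
theorem f211445 : Led Lsl_gt (LP (LK LD1_c0 LD2_c58 LD3_c48)) = (LP (LK LD1_c0 LD2_c27 LD3_c33)) :=
  Lgr Lrot9 (Lpr_df (f178494 IH) (Lpe (K11.f201329 IH) (Lpr_ct (K11.f53336 IH) (Lpe (f211401 IH) (Lpr_ct (f28926 IH) (Lpe (f28956 IH) (Lpe (f28916 IH) (Lpr_gf (f211441 IH) (Lpe (K10.f170294 IH) (Lpn (LP (LK LD1_c0 LD2_c27 LD3_c33))))))))))))
theorem f56558 : Led Lsl_et (LP (LK LD1_c0 LD2_c32 LD3_c36)) = (LP (LK LD1_c0 LD2_c14 LD3_c36)) :=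
  Lre_e IH (LK LD1_c0 LD2_c32 LD3_c36) (LK LD1_c0 LD2_c14 LD3_c36) Lrfl Lrfl
theorem f43087 : Led Lsl_dt (LP (LK LD1_c0 LD2_c12 LD3_c27)) = (LP (LK LD1_c0 LD2_c28 LD3_c12)) :=
  Lre_d IH (LK LD1_c0 LD2_c12 LD3_c27) (LK LD1_c0 LD2_c28 LD3_c12) Lrfl Lrfl
theorem f39244 : Led Lsl_gt (LP (LK LD1_c0 LD2_c54 LD3_c28)) = (LP (LK LD1_c0 LD2_c28 LD3_c12)) :=
  Lgr Lrot46 (Lpe (K10.f28470 IH) (Lpr_ft (K1.f39240 IH) (Lpr_at (K1.f39197 IH) (Lpn (LP (LK LD1_c0 LD2_c28 LD3_c12))))))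
theorem f179857 : Led Lsl_gt (LP (LK LD1_c0 LD2_c27 LD3_c34)) = (LP (LK LD1_c1 LD2_c0 LD3_c33)) :=
  Lre_g IH (LK LD1_c0 LD2_c27 LD3_c34) (LK LD1_c1 LD2_c0 LD3_c33) Lrfl Lrfl
theorem f211466 : Led Lsl_df (LP (LK LD1_c0 LD2_c54 LD3_c28)) = (LP (LK LD1_c1 LD2_c0 LD3_c33)) :=
  Lgr Lrot135 (Lpr_gt (f39244 IH) (Lpe (f43087 IH) (Lpe (K9.f9469 IH) (Lpe (K9.f174984 IH) (Lpe (f56558 IH) (Lpe (f178494 IH) (Lpr_gt (f211445 IH) (Lpe (K11.f180099 IH) (Lpr_et (K11.f180122 IH) (Lpr_gt (f179857 IH) (Lpn (LP (LK LD1_c1 LD2_c0 LD3_c33)))))))))))))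
theorem f39273 : Led Lsl_ct (LP (LK LD1_c1 LD2_c55 LD3_c27)) = (LP (LK LD1_c0 LD2_c54 LD3_c28)) :=
  Lre_c IH (LK LD1_c1 LD2_c55 LD3_c27) (LK LD1_c0 LD2_c54 LD3_c28) Lrfl Lrfl
theorem f196298 : Led Lsl_gt (LP (LK LD1_c0 LD2_c55 LD3_c19)) = (LP (LK LD1_c1 LD2_c55 LD3_c27)) :=
  Lgr Lrot5 (Lpr_ft (K1.f29576 IH) (Lpe (K1.f29577 IH) (Lpr_gf (K10.f196296 IH) (Lpn (LP (LK LD1_c1 LD2_c55 LD3_c27))))))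
theorem f29302 : Led Lsl_gt (LP (LK LD1_c0 LD2_c55 LD3_c18)) = (LP (LK LD1_c0 LD2_c25 LD3_c3)) :=
  Lre_g IH (LK LD1_c0 LD2_c55 LD3_c18) (LK LD1_c0 LD2_c25 LD3_c3) Lrfl Lrfl
theorem f192588 : Led Lsl_gf (LP (LK LD1_c0 LD2_c55 LD3_c43)) = (LP (LK LD1_c0 LD2_c55 LD3_c59)) :=
  Lgr Lrot147 (Lpr_ct (K9.f182358 IH) (Lpe (K9.f182451 IH) (Lpr_ct (K1.f46617 IH) (Lpe (K1.f28217 IH) (Lpe (K1.f28182 IH) (Lpr_gf (K10.f192584 IH) (Lpe (K10.f171524 IH) (Lpe (K10.f171530 IH) (Lpe (K0.f33603 IH) (Lpn (LP (LK LD1_c0 LD2_c55 LD3_c59))))))))))))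
theorem f29303 : Led Lsl_gf (LP (LK LD1_c0 LD2_c55 LD3_c18)) = (LP (LK LD1_c0 LD2_c55 LD3_c11)) :=
  Lgr Lrot47 (Lpr_gt (f29302 IH) (Lpr_af (K1.f29290 IH) (Lpe (K1.f2976 IH) (Lpn (LP (LK LD1_c0 LD2_c55 LD3_c11))))))
theorem f34076 : Led Lsl_gf (LP (LK LD1_c0 LD2_c25 LD3_c23)) = (LP (LK LD1_c0 LD2_c25 LD3_c15)) :=
  Lgr Lrot76 (Lpr_af (K0.f34059 IH) (Lpe (K0.f33646 IH) (Lpr_gt (K9.f33187 IH) (Lpn (LP (LK LD1_c0 LD2_c25 LD3_c15))))))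
theorem f192836 : Led Lsl_et (LP (LK LD1_c0 LD2_c55 LD3_c38)) = (LP (LK LD1_c0 LD2_c25 LD3_c15)) :=
  Lre_e IH (LK LD1_c0 LD2_c55 LD3_c38) (LK LD1_c0 LD2_c25 LD3_c15) Lrfl Lrfl
theorem f192837 : Led Lsl_df (LP (LK LD1_c0 LD2_c55 LD3_c18)) = (LP (LK LD1_c0 LD2_c55 LD3_c38)) :=
  Lgr Lrot132 (Lpr_gf (f29303 IH) (Lpe (K1.f6943 IH) (Lpe (K9.f182320 IH) (Lpe (K9.f182330 IH) (Lpr_dt (K9.f182354 IH) (Lpr_gf (f192588 IH) (Lpe (K0.f33624 IH) (Lpr_et (K0.f33608 IH) (Lpr_gf (f34076 IH) (Lpe (f192836 IH) (Lpn (LP (LK LD1_c0 LD2_c55 LD3_c38)))))))))))))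
theorem f192840 : Led Lsl_dt (LP (LK LD1_c0 LD2_c55 LD3_c18)) = (LP (LK LD1_c0 LD2_c55 LD3_c38)) :=
  Lgr Lrot42 (Lpr_df (f192837 IH) (Lpn (LP (LK LD1_c0 LD2_c55 LD3_c38))))
theorem f196240 : Led Lsl_gf (LP (LK LD1_c0 LD2_c25 LD3_c38)) = (LP (LK LD1_c0 LD2_c55 LD3_c38)) :=
  Lgr Lrot134 (Lpe (K10.f6929 IH) (Lpr_et (K10.f53104 IH) (Lpr_gt (K10.f192634 IH) (Lpe (K10.f192651 IH) (Lpr_dt (K10.f192658 IH) (Lpr_gt (K10.f196230 IH) (Lpe (K1.f36729 IH) (Lpr_et (K1.f36713 IH) (Lpe (f29303 IH) (Lpr_dt (f192840 IH) (Lpn (LP (LK LD1_c0 LD2_c55 LD3_c38)))))))))))))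
theorem f6930 : Led Lsl_ct (LP (LK LD1_c0 LD2_c25 LD3_c38)) = (LP (LK LD1_c0 LD2_c56 LD3_c30)) :=
  Lre_c IH (LK LD1_c0 LD2_c25 LD3_c38) (LK LD1_c0 LD2_c56 LD3_c30) Lrfl Lrfl
theorem f192807 : Led Lsl_gt (LP (LK LD1_c0 LD2_c56 LD3_c30)) = (LP (LK LD1_c1 LD2_c59 LD3_c22)) :=
  Lre_g IH (LK LD1_c0 LD2_c56 LD3_c30) (LK LD1_c1 LD2_c59 LD3_c22) Lrfl Lrfl
theorem f211472 : Led Lsl_ct (LP (LK LD1_c1 LD2_c59 LD3_c22)) = (LP (LK LD1_c1 LD2_c0 LD3_c33)) :=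
  Lgr Lrot110 (Lpe (f192807 IH) (Lpe (f6930 IH) (Lpr_gf (f196240 IH) (Lpe (f192840 IH) (Lpr_gt (f29302 IH) (Lpr_ct (K1.f29296 IH) (Lpr_gt (f196298 IH) (Lpr_ct (f39273 IH) (Lpr_df (f211466 IH) (Lpn (LP (LK LD1_c1 LD2_c0 LD3_c33))))))))))))
theorem f211470 : Led Lsl_dt (LP (LK LD1_c0 LD2_c54 LD3_c28)) = (LP (LK LD1_c1 LD2_c0 LD3_c33)) :=
  Lgr Lrot42 (Lpr_df (f211466 IH) (Lpn (LP (LK LD1_c1 LD2_c0 LD3_c33))))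
theorem f29243 : Led Lsl_af (LP (LK LD1_c0 LD2_c25 LD3_c1)) = (LP (LK LD1_c0 LD2_c14 LD3_c11)) :=
  Lgr Lrot45 (Lpr_ft (K1.f29169 IH) (Lpr_at (K1.f29190 IH) (Lpr_ft (K0.f2426 IH) (Lpn (LP (LK LD1_c0 LD2_c14 LD3_c11))))))
theorem f182314 : Led Lsl_gt (LP (LK LD1_c0 LD2_c32 LD3_c34)) = (LP (LK LD1_c0 LD2_c25 LD3_c1)) :=
  Lgr Lrot46 (Lpr_gf (K9.f182200 IH) (Lpr_ft (K0.f2426 IH) (Lpe (f29243 IH) (Lpn (LP (LK LD1_c0 LD2_c25 LD3_c1))))))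
theorem f29643 : Led Lsl_gt (LP (LK LD1_c0 LD2_c55 LD3_c14)) = (LP (LK LD1_c1 LD2_c56 LD3_c54)) :=
  Lre_g IH (LK LD1_c0 LD2_c55 LD3_c14) (LK LD1_c1 LD2_c56 LD3_c54) Lrfl Lrfl
theorem f211481 : Led Lsl_df (LP (LK LD1_c1 LD2_c59 LD3_c22)) = (LP (LK LD1_c1 LD2_c56 LD3_c54)) :=
  Lgr Lrot174 (Lpr_ct (f211472 IH) (Lpe (f211470 IH) (Lpe (K10.f28470 IH) (Lpe (K10.f28469 IH) (Lpe (K9.f174986 IH) (Lpr_ct (K9.f167852 IH) (Lpr_gt (f182314 IH) (Lpr_dt (K1.f28758 IH) (Lpr_gt (f29643 IH) (Lpn (LP (LK LD1_c1 LD2_c56 LD3_c54))))))))))))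
theorem f211486 : Led Lsl_dt (LP (LK LD1_c1 LD2_c59 LD3_c22)) = (LP (LK LD1_c1 LD2_c56 LD3_c54)) :=
  Lgr Lrot42 (Lpr_df (f211481 IH) (Lpn (LP (LK LD1_c1 LD2_c56 LD3_c54))))
theorem f53109 : Led Lsl_gt (LP (LK LD1_c0 LD2_c25 LD3_c38)) = (LP (LK LD1_c0 LD2_c56 LD3_c32)) :=
  Lre_g IH (LK LD1_c0 LD2_c25 LD3_c38) (LK LD1_c0 LD2_c56 LD3_c32) Lrfl Lrfl
theorem f29644 : Led Lsl_gf (LP (LK LD1_c1 LD2_c9 LD3_c21)) = (LP (LK LD1_c1 LD2_c56 LD3_c54)) :=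
  Lgr Lrot76 (Lpr_af (K1.f29596 IH) (Lpe (K1.f29595 IH) (Lpr_gt (f29643 IH) (Lpn (LP (LK LD1_c1 LD2_c56 LD3_c54))))))
theorem f211493 : Led Lsl_dt (LP (LK LD1_c0 LD2_c56 LD3_c32)) = (LP (LK LD1_c0 LD2_c32 LD3_c38)) :=
  Lgr Lrot57 (Lpe (f53109 IH) (Lpe (K10.f6957 IH) (Lpr_gt (f192807 IH) (Lpr_dt (f211486 IH) (Lpe (f29644 IH) (Lpr_dt (K0.f2411 IH) (Lpr_cf (K0.f6926 IH) (Lpe (K1.f6937 IH) (Lpe (K10.f197799 IH) (Lpn (LP (LK LD1_c0 LD2_c32 LD3_c38))))))))))))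
theorem f211498 : Led Lsl_df (LP (LK LD1_c0 LD2_c56 LD3_c32)) = (LP (LK LD1_c0 LD2_c32 LD3_c38)) :=
  Lgr Lrot38 (Lpr_dt (f211493 IH) (Lpn (LP (LK LD1_c0 LD2_c32 LD3_c38))))
theorem f53128 : Led Lsl_et (LP (LK LD1_c1 LD2_c56 LD3_c42)) = (LP (LK LD1_c0 LD2_c55 LD3_c7)) :=
  Lre_e IH (LK LD1_c1 LD2_c56 LD3_c42) (LK LD1_c0 LD2_c55 LD3_c7) Lrfl Lrfl
theorem f34718 : Led Lsl_dt (LP (LK LD1_c1 LD2_c56 LD3_c42)) = (LP (LK LD1_c1 LD2_c58 LD3_c5)) :=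
  Lre_d IH (LK LD1_c1 LD2_c56 LD3_c42) (LK LD1_c1 LD2_c58 LD3_c5) Lrfl Lrfl
theorem f211045 : Led Lsl_gt (LP (LK LD1_c1 LD2_c28 LD3_c17)) = (LP (LK LD1_c1 LD2_c58 LD3_c5)) :=
  Lgr Lrot139 (Lpe (K11.f211033 IH) (Lpr_gf (K11.f211040 IH) (Lpe (K1.f36211 IH) (Lpr_dt (K1.f31544 IH) (Lpr_gf (K10.f31595 IH) (Lpe (K10.f28792 IH) (Lpe (K10.f53098 IH) (Lpe (K10.f6928 IH) (Lpe (f53128 IH) (Lpr_dt (f34718 IH) (Lpn (LP (LK LD1_c1 LD2_c58 LD3_c5)))))))))))))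
theorem f181675 : Led Lsl_et (LP (LK LD1_c0 LD2_c32 LD3_c38)) = (LP (LK LD1_c1 LD2_c10 LD3_c26)) :=
  Lre_e IH (LK LD1_c0 LD2_c32 LD3_c38) (LK LD1_c1 LD2_c10 LD3_c26) Lrfl Lrfl
theorem f175485 : Led Lsl_gt (LP (LK LD1_c1 LD2_c10 LD3_c26)) = (LP (LK LD1_c2 LD2_c26 LD3_c21)) :=
  Lre_g IH (LK LD1_c1 LD2_c10 LD3_c26) (LK LD1_c2 LD2_c26 LD3_c21) Lrfl Lrfl
theorem f211663 : Led Lsl_et (LP (LK LD1_c1 LD2_c22 LD3_c11)) = (LP (LK LD1_c2 LD2_c26 LD3_c21)) :=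
  Lgr Lrot122 (Lpr_dt (K11.f211033 IH) (Lpr_gt (f211045 IH) (Lpe (f34718 IH) (Lpr_et (f53128 IH) (Lpr_gt (K10.f6928 IH) (Lpr_dt (K10.f6929 IH) (Lpr_gt (f53109 IH) (Lpr_df (f211498 IH) (Lpr_et (f181675 IH) (Lpr_gt (f175485 IH) (Lpn (LP (LK LD1_c2 LD2_c26 LD3_c21)))))))))))))
theorem f197863 : Led Lsl_dt (LP (LK LD1_c12 LD2_c6 LD3_c47)) = (LP (LK LD1_c12 LD2_c6 LD3_c39)) :=
  Lgr Lrot42 (Lpr_df (K10.f197856 IH) (Lpn (LP (LK LD1_c12 LD2_c6 LD3_c39))))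
theorem f197872 : Led Lsl_at (LP (LK LD1_c2 LD2_c26 LD3_c23)) = (LP (LK LD1_c3 LD2_c3 LD3_c54)) :=
  Lgr Lrot33 (Lpe (K10.f181601 IH) (Lpr_dt (K10.f197805 IH) (Lpr_ct (K10.f37240 IH) (Lpr_dt (K10.f197809 IH) (Lpr_ct (K10.f197810 IH) (Lpr_dt (f197863 IH) (Lpe (K10.f197852 IH) (Lpr_dt (K10.f197827 IH) (Lpr_ct (K10.f37241 IH) (Lpn (LP (LK LD1_c3 LD2_c3 LD3_c54))))))))))))
theorem f197878 : Led Lsl_gt (LP (LK LD1_c2 LD2_c26 LD3_c21)) = (LP (LK LD1_c3 LD2_c3 LD3_c54)) :=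
  Lgr Lrot46 (Lpe (f175485 IH) (Lpr_ft (K10.f181601 IH) (Lpr_at (f197872 IH) (Lpn (LP (LK LD1_c3 LD2_c3 LD3_c54))))))
theorem f197909 : Led Lsl_gf (LP (LK LD1_c1 LD2_c58 LD3_c11)) = (LP (LK LD1_c1 LD2_c27 LD3_c60)) :=
  Lgr Lrot104 (Lpr_ct (K2.f69777 IH) (Lpe (K2.f69781 IH) (Lpr_cf (K2.f69821 IH) (Lpe (K10.f69842 IH) (Lpe (K10.f197854 IH) (Lpe (K10.f60503 IH) (Lpe (K1.f60449 IH) (Lpr_gt (K10.f197903 IH) (Lpr_ct (K10.f197837 IH) (Lpn (LP (LK LD1_c1 LD2_c27 LD3_c60))))))))))))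
theorem f69712 : Led Lsl_et (LP (LK LD1_c1 LD2_c57 LD3_c41)) = (LP (LK LD1_c0 LD2_c55 LD3_c43)) :=
  Lre_e IH (LK LD1_c1 LD2_c57 LD3_c41) (LK LD1_c0 LD2_c55 LD3_c43) Lrfl Lrfl
theorem f211667 : Led Lsl_gf (LP (LK LD1_c1 LD2_c28 LD3_c17)) = (LP (LK LD1_c1 LD2_c10 LD3_c14)) :=
  Lgr Lrot145 (Lpe (K11.f211033 IH) (Lpr_et (f211663 IH) (Lpr_gt (f197878 IH) (Lpr_dt (K10.f37202 IH) (Lpe (f197909 IH) (Lpr_df (K2.f33626 IH) (Lpr_et (K2.f33623 IH) (Lpe (f192588 IH) (Lpe (f69712 IH) (Lpe (K11.f182365 IH) (Lpn (LP (LK LD1_c1 LD2_c10 LD3_c14)))))))))))))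
theorem f211035 : Led Lsl_ct (LP (LK LD1_c1 LD2_c28 LD3_c17)) = (LP (LK LD1_c3 LD2_c4 LD3_c34)) :=
  Lre_c IH (LK LD1_c1 LD2_c28 LD3_c17) (LK LD1_c3 LD2_c4 LD3_c34) Lrfl Lrfl
theorem f179894 : Led Lsl_bt (LP (LK LD1_c0 LD2_c32 LD3_c32)) = (LP (LK LD1_c1 LD2_c10 LD3_c14)) :=
  Lre_b IH (LK LD1_c0 LD2_c32 LD3_c32) (LK LD1_c1 LD2_c10 LD3_c14) Lrfl Lrfl
theorem f179896 : Led Lsl_ct (LP (LK LD1_c0 LD2_c32 LD3_c32)) = (LP (LK LD1_c1 LD2_c10 LD3_c19)) :=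
  Lre_c IH (LK LD1_c0 LD2_c32 LD3_c32) (LK LD1_c1 LD2_c10 LD3_c19) Lrfl Lrfl
theorem f185964 : Led Lsl_dt (LP (LK LD1_c2 LD2_c57 LD3_c53)) = (LP (LK LD1_c2 LD2_c45 LD3_c17)) :=
  Lgr Lrot6 (Lpr_gt (K10.f9419 IH) (Lpr_ct (K10.f175385 IH) (Lpr_gt (K10.f177709 IH) (Lpr_ct (K10.f176606 IH) (Lpe (K10.f56689 IH) (Lpe (K10.f176598 IH) (Lpr_gf (K10.f185956 IH) (Lpe (K9.f175901 IH) (Lpr_gf (K9.f24447 IH) (Lpn (LP (LK LD1_c2 LD2_c45 LD3_c17))))))))))))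
theorem f9451 : Led Lsl_dt (LP (LK LD1_c0 LD2_c17 LD3_c21)) = (LP (LK LD1_c0 LD2_c39 LD3_c3)) :=
  Lre_d IH (LK LD1_c0 LD2_c17 LD3_c21) (LK LD1_c0 LD2_c39 LD3_c3) Lrfl Lrfl
theorem f9450 : Led Lsl_gt (LP (LK LD1_c0 LD2_c29 LD3_c9)) = (LP (LK LD1_c0 LD2_c17 LD3_c21)) :=
  Lre_g IH (LK LD1_c0 LD2_c29 LD3_c9) (LK LD1_c0 LD2_c17 LD3_c21) Lrfl Lrfl
theorem f185969 : Led Lsl_gf (LP (LK LD1_c2 LD2_c57 LD3_c53)) = (LP (LK LD1_c1 LD2_c24 LD3_c39)) :=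
  Lgr Lrot143 (Lpr_dt (f185964 IH) (Lpe (K9.f24452 IH) (Lpe (K9.f176815 IH) (Lpr_gf (K11.f176847 IH) (Lpe (f9451 IH) (Lpe (f9450 IH) (Lpe (K0.f9381 IH) (Lpr_gt (K9.f101494 IH) (Lpr_dt (K10.f172679 IH) (Lpn (LP (LK LD1_c1 LD2_c24 LD3_c39))))))))))))
theorem f172547 : Led Lsl_dt (LP (LK LD1_c0 LD2_c32 LD3_c31)) = (LP (LK LD1_c0 LD2_c37 LD3_c8)) :=
  Lgr Lrot42 (Lpr_df (K9.f172427 IH) (Lpn (LP (LK LD1_c0 LD2_c37 LD3_c8))))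
theorem f172549 : Led Lsl_et (LP (LK LD1_c0 LD2_c32 LD3_c31)) = (LP (LK LD1_c1 LD2_c10 LD3_c19)) :=
  Lre_e IH (LK LD1_c0 LD2_c32 LD3_c31) (LK LD1_c1 LD2_c10 LD3_c19) Lrfl Lrfl
theorem f185976 : Led Lsl_gt (LP (LK LD1_c1 LD2_c18 LD3_c57)) = (LP (LK LD1_c1 LD2_c10 LD3_c19)) :=
  Lgr Lrot131 (Lpe (K11.f24464 IH) (Lpe (K10.f185966 IH) (Lpr_gf (f185969 IH) (Lpe (K10.f172679 IH) (Lpe (K9.f101494 IH) (Lpe (K9.f168219 IH) (Lpr_dt (K9.f68912 IH) (Lpe (K9.f172555 IH) (Lpe (f172547 IH) (Lpr_et (f172549 IH) (Lpn (LP (LK LD1_c1 LD2_c10 LD3_c19)))))))))))))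
theorem f198487 : Led Lsl_bt (LP (LK LD1_c0 LD2_c36 LD3_c22)) = (LP (LK LD1_c1 LD2_c10 LD3_c20)) :=
  Lgr Lrot95 (Lpe (K9.f24217 IH) (Lpr_bf (K11.f198483 IH) (Lpr_df (K10.f179904 IH) (Lpn (LP (LK LD1_c1 LD2_c10 LD3_c20))))))
theorem f177807 : Led Lsl_bf (LP (LK LD1_c0 LD2_c57 LD3_c32)) = (LP (LK LD1_c1 LD2_c59 LD3_c32)) :=
  Lgr Lrot96 (Lpr_et (K10.f55617 IH) (Lpr_bt (K9.f177800 IH) (Lpr_et (K10.f177806 IH) (Lpn (LP (LK LD1_c1 LD2_c59 LD3_c32))))))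
theorem f211669 : Led Lsl_gt (LP (LK LD1_c3 LD2_c4 LD3_c34)) = (LP (LK LD1_c4 LD2_c2 LD3_c15)) :=
  Lgr Lrot149 (Lpe (f211035 IH) (Lpr_gf (f211667 IH) (Lpe (f179894 IH) (Lpr_ct (f179896 IH) (Lpe (f185976 IH) (Lpe (K10.f24240 IH) (Lpr_bt (f198487 IH) (Lpe (K11.f183223 IH) (Lpr_bf (f177807 IH) (Lpe (K10.f193395 IH) (Lpn (LP (LK LD1_c4 LD2_c2 LD3_c15)))))))))))))
theorem f20754 : Led Lsl_et (LP (LK LD1_c0 LD2_c28 LD3_c45)) = (LP (LK LD1_c1 LD2_c3 LD3_c5)) :=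
  Lre_e IH (LK LD1_c0 LD2_c28 LD3_c45) (LK LD1_c1 LD2_c3 LD3_c5) Lrfl Lrfl
theorem f197370 : Led Lsl_gf (LP (LK LD1_c1 LD2_c22 LD3_c12)) = (LP (LK LD1_c1 LD2_c3 LD3_c5)) :=
  Lgr Lrot138 (Lpr_dt (K11.f24588 IH) (Lpr_gt (K11.f24587 IH) (Lpr_df (K11.f24418 IH) (Lpr_et (K11.f24585 IH) (Lpr_gt (K0.f34686 IH) (Lpe (K0.f2958 IH) (Lpr_dt (K0.f2972 IH) (Lpr_gt (K10.f197360 IH) (Lpe (K10.f20742 IH) (Lpr_et (f20754 IH) (Lpn (LP (LK LD1_c1 LD2_c3 LD3_c5)))))))))))))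
theorem f20713 : Led Lsl_bt (LP (LK LD1_c0 LD2_c28 LD3_c52)) = (LP (LK LD1_c1 LD2_c3 LD3_c5)) :=
  Lre_b IH (LK LD1_c0 LD2_c28 LD3_c52) (LK LD1_c1 LD2_c3 LD3_c5) Lrfl Lrfl
theorem f20717 : Led Lsl_ct (LP (LK LD1_c0 LD2_c28 LD3_c52)) = (LP (LK LD1_c1 LD2_c3 LD3_c17)) :=
  Lre_c IH (LK LD1_c0 LD2_c28 LD3_c52) (LK LD1_c1 LD2_c3 LD3_c17) Lrfl Lrfl
theorem f20727 : Led Lsl_gt (LP (LK LD1_c2 LD2_c12 LD3_c33)) = (LP (LK LD1_c1 LD2_c3 LD3_c17)) :=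
  Lre_g IH (LK LD1_c2 LD2_c12 LD3_c33) (LK LD1_c1 LD2_c3 LD3_c17) Lrfl Lrfl
theorem f211671 : Led Lsl_cf (LP (LK LD1_c2 LD2_c12 LD3_c33)) = (LP (LK LD1_c1 LD2_c10 LD3_c20)) :=
  Lgr Lrot125 (Lpr_gt (f20727 IH) (Lpe (f20717 IH) (Lpr_bt (f20713 IH) (Lpe (f197370 IH) (Lpr_bf (K11.f211026 IH) (Lpr_ct (f211035 IH) (Lpr_gt (f211669 IH) (Lpr_cf (K10.f193395 IH) (Lpe (f177807 IH) (Lpr_gt (K11.f183223 IH) (Lpn (LP (LK LD1_c1 LD2_c10 LD3_c20)))))))))))))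
theorem f20725 : Led Lsl_ct (LP (LK LD1_c1 LD2_c3 LD3_c17)) = (LP (LK LD1_c0 LD2_c28 LD3_c52)) :=
  Lre_c IH (LK LD1_c1 LD2_c3 LD3_c17) (LK LD1_c0 LD2_c28 LD3_c52) Lrfl Lrfl
theorem f20719 : Led Lsl_ct (LP (LK LD1_c1 LD2_c25 LD3_c44)) = (LP (LK LD1_c0 LD2_c39 LD3_c37)) :=
  Lre_c IH (LK LD1_c1 LD2_c25 LD3_c44) (LK LD1_c0 LD2_c39 LD3_c37) Lrfl Lrfl
theorem f171778 : Led Lsl_et (LP (LK LD1_c0 LD2_c36 LD3_c54)) = (LP (LK LD1_c0 LD2_c16 LD3_c27)) :=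
  Lre_e IH (LK LD1_c0 LD2_c36 LD3_c54) (LK LD1_c0 LD2_c16 LD3_c27) Lrfl Lrfl
theorem f171779 : Led Lsl_dt (LP (LK LD1_c0 LD2_c36 LD3_c54)) = (LP (LK LD1_c1 LD2_c19 LD3_c45)) :=
  Lre_d IH (LK LD1_c0 LD2_c36 LD3_c54) (LK LD1_c1 LD2_c19 LD3_c45) Lrfl Lrfl
theorem f171780 : Led Lsl_gt (LP (LK LD1_c1 LD2_c21 LD3_c19)) = (LP (LK LD1_c1 LD2_c19 LD3_c45)) :=
  Lre_g IH (LK LD1_c1 LD2_c21 LD3_c19) (LK LD1_c1 LD2_c19 LD3_c45) Lrfl Lrfl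
theorem f171781 : Led Lsl_dt (LP (LK LD1_c0 LD2_c37 LD3_c31)) = (LP (LK LD1_c1 LD2_c21 LD3_c19)) :=
  Lre_d IH (LK LD1_c0 LD2_c37 LD3_c31) (LK LD1_c1 LD2_c21 LD3_c19) Lrfl Lrfl
theorem f24533 : Led Lsl_et (LP (LK LD1_c0 LD2_c16 LD3_c9)) = (LP (LK LD1_c0 LD2_c36 LD3_c20)) :=
  Lre_e IH (LK LD1_c0 LD2_c16 LD3_c9) (LK LD1_c0 LD2_c36 LD3_c20) Lrfl Lrfl
theorem f24251 : Led Lsl_gt (LP (LK LD1_c0 LD2_c36 LD3_c20)) = (LP (LK LD1_c1 LD2_c18 LD3_c51)) :=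
  Lre_g IH (LK LD1_c0 LD2_c36 LD3_c20) (LK LD1_c1 LD2_c18 LD3_c51) Lrfl Lrfl
theorem f171782 : Led Lsl_et (LP (LK LD1_c0 LD2_c37 LD3_c31)) = (LP (LK LD1_c1 LD2_c18 LD3_c51)) :=
  Lgr Lrot122 (Lpr_dt (f171781 IH) (Lpr_gt (f171780 IH) (Lpe (f171779 IH) (Lpr_et (f171778 IH) (Lpr_gt (K9.f171757 IH) (Lpr_dt (K9.f35536 IH) (Lpe (K9.f171769 IH) (Lpe (K9.f24534 IH) (Lpr_et (f24533 IH) (Lpr_gt (f24251 IH) (Lpn (LP (LK LD1_c1 LD2_c18 LD3_c51)))))))))))))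
theorem f171790 : Led Lsl_ef (LP (LK LD1_c0 LD2_c37 LD3_c31)) = (LP (LK LD1_c1 LD2_c18 LD3_c51)) :=
  Lgr Lrot88 (Lpr_et (f171782 IH) (Lpn (LP (LK LD1_c1 LD2_c18 LD3_c51))))
theorem f210988 : Led Lsl_ct (LP (LK LD1_c1 LD2_c5 LD3_c54)) = (LP (LK LD1_c1 LD2_c18 LD3_c51)) :=
  Lgr Lrot15 (Lpe (K10.f161788 IH) (Lpr_cf (K11.f205222 IH) (Lpr_ef (f171790 IH) (Lpn (LP (LK LD1_c1 LD2_c18 LD3_c51))))))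
theorem f211682 : Led Lsl_gf (LP (LK LD1_c1 LD2_c25 LD3_c44)) = (LP (LK LD1_c1 LD2_c18 LD3_c51)) :=
  Lgr Lrot104 (Lpr_ct (f20719 IH) (Lpe (K10.f20721 IH) (Lpe (f20725 IH) (Lpe (f20727 IH) (Lpr_cf (f211671 IH) (Lpe (K11.f183223 IH) (Lpe (K10.f53316 IH) (Lpe (K10.f175543 IH) (Lpr_ct (f210988 IH) (Lpn (LP (LK LD1_c1 LD2_c18 LD3_c51))))))))))))
theorem f211684 : Led Lsl_ft (LP (LK LD1_c0 LD2_c36 LD3_c20)) = (LP (LK LD1_c1 LD2_c18 LD3_c54)) :=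
  Lre_f IH (LK LD1_c0 LD2_c36 LD3_c20) (LK LD1_c1 LD2_c18 LD3_c54) Lrfl Lrfl
theorem f211685 : Led Lsl_af (LP (LK LD1_c1 LD2_c25 LD3_c44)) = (LP (LK LD1_c1 LD2_c18 LD3_c54)) :=
  Lgr Lrot31 (Lpr_gf (f211682 IH) (Lpe (f24251 IH) (Lpr_ft (f211684 IH) (Lpn (LP (LK LD1_c1 LD2_c18 LD3_c54))))))
theorem f20736 : Led Lsl_dt (LP (LK LD1_c1 LD2_c25 LD3_c44)) = (LP (LK LD1_c2 LD2_c59 LD3_c56)) :=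
  Lre_d IH (LK LD1_c1 LD2_c25 LD3_c44) (LK LD1_c2 LD2_c59 LD3_c56) Lrfl Lrfl
theorem f211691 : Led Lsl_dt (LP (LK LD1_c2 LD2_c45 LD3_c13)) = (LP (LK LD1_c1 LD2_c18 LD3_c54)) :=
  Lre_d IH (LK LD1_c2 LD2_c45 LD3_c13) (LK LD1_c1 LD2_c18 LD3_c54) Lrfl Lrfl
theorem f211692 : Led Lsl_at (LP (LK LD1_c2 LD2_c59 LD3_c56)) = (LP (LK LD1_c2 LD2_c45 LD3_c13)) :=
  Lgr Lrot51 (Lpe (f20736 IH) (Lpr_af (f211685 IH) (Lpe (f211691 IH) (Lpn (LP (LK LD1_c2 LD2_c45 LD3_c13))))))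
theorem f211694 : Led Lsl_af (LP (LK LD1_c2 LD2_c59 LD3_c56)) = (LP (LK LD1_c2 LD2_c45 LD3_c13)) :=
  Lgr Lrot0 (Lpr_at (f211692 IH) (Lpn (LP (LK LD1_c2 LD2_c45 LD3_c13))))
theorem f20735 : Led Lsl_ct (LP (LK LD1_c0 LD2_c39 LD3_c37)) = (LP (LK LD1_c1 LD2_c25 LD3_c44)) :=
  Lre_c IH (LK LD1_c0 LD2_c39 LD3_c37) (LK LD1_c1 LD2_c25 LD3_c44) Lrfl Lrfl
theorem f20720 : Led Lsl_dt (LP (LK LD1_c2 LD2_c59 LD3_c56)) = (LP (LK LD1_c1 LD2_c25 LD3_c44)) :=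
  Lre_d IH (LK LD1_c2 LD2_c59 LD3_c56) (LK LD1_c1 LD2_c25 LD3_c44) Lrfl Lrfl
theorem f20310 : Led Lsl_ct (LP (LK LD1_c0 LD2_c29 LD3_c29)) = (LP (LK LD1_c0 LD2_c12 LD3_c61)) :=
  Lre_c IH (LK LD1_c0 LD2_c29 LD3_c29) (LK LD1_c0 LD2_c12 LD3_c61) Lrfl Lrfl
theorem f20322 : Led Lsl_gt (LP (LK LD1_c0 LD2_c29 LD3_c29)) = (LP (LK LD1_c1 LD2_c4 LD3_c26)) :=
  Lre_g IH (LK LD1_c0 LD2_c29 LD3_c29) (LK LD1_c1 LD2_c4 LD3_c26) Lrfl Lrfl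
theorem f20395 : Led Lsl_dt (LP (LK LD1_c1 LD2_c4 LD3_c26)) = (LP (LK LD1_c2 LD2_c14 LD3_c40)) :=
  Lre_d IH (LK LD1_c1 LD2_c4 LD3_c26) (LK LD1_c2 LD2_c14 LD3_c40) Lrfl Lrfl
theorem f26635 : Led Lsl_gf (LP (LK LD1_c2 LD2_c59 LD3_c56)) = (LP (LK LD1_c2 LD2_c14 LD3_c40)) :=
  Lgr Lrot143 (Lpr_dt (f20720 IH) (Lpe (f20735 IH) (Lpe (K10.f20721 IH) (Lpe (K9.f20729 IH) (Lpr_df (K9.f26625 IH) (Lpe (K9.f20321 IH) (Lpe (f20310 IH) (Lpr_gt (f20322 IH) (Lpr_dt (f20395 IH) (Lpn (LP (LK LD1_c2 LD2_c14 LD3_c40))))))))))))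
theorem f211708 : Led Lsl_ft (LP (LK LD1_c1 LD2_c18 LD3_c53)) = (LP (LK LD1_c2 LD2_c45 LD3_c13)) :=
  Lre_f IH (LK LD1_c1 LD2_c18 LD3_c53) (LK LD1_c2 LD2_c45 LD3_c13) Lrfl Lrfl
theorem f211709 : Led Lsl_gf (LP (LK LD1_c2 LD2_c14 LD3_c40)) = (LP (LK LD1_c1 LD2_c18 LD3_c53)) :=
  Lgr Lrot47 (Lpe (f26635 IH) (Lpr_af (f211694 IH) (Lpe (f211708 IH) (Lpn (LP (LK LD1_c1 LD2_c18 LD3_c53))))))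
theorem f26638 : Led Lsl_dt (LP (LK LD1_c2 LD2_c14 LD3_c40)) = (LP (LK LD1_c1 LD2_c4 LD3_c26)) :=
  Lre_d IH (LK LD1_c2 LD2_c14 LD3_c40) (LK LD1_c1 LD2_c4 LD3_c26) Lrfl Lrfl
theorem f164313 : Led Lsl_ff (LP (LK LD1_c0 LD2_c3 LD3_c25)) = (LP (LK LD1_c0 LD2_c5 LD3_c55)) :=
  Lgr Lrot72 (Lpr_et (K9.f24215 IH) (Lpr_ft (K9.f24423 IH) (Lpr_et (K9.f164298 IH) (Lpr_ft (K9.f20468 IH) (Lpr_et (K0.f20453 IH) (Lpn (LP (LK LD1_c0 LD2_c5 LD3_c55))))))))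
theorem f164315 : Led Lsl_ft (LP (LK LD1_c0 LD2_c7 LD3_c34)) = (LP (LK LD1_c0 LD2_c12 LD3_c58)) :=
  Lgr Lrot75 (Lpe (K0.f24402 IH) (Lpr_ff (f164313 IH) (Lpe (K0.f6723 IH) (Lpn (LP (LK LD1_c0 LD2_c12 LD3_c58))))))
theorem f164324 : Led Lsl_af (LP (LK LD1_c0 LD2_c12 LD3_c58)) = (LP (LK LD1_c0 LD2_c12 LD3_c58)) :=
  Lgr Lrot31 (Lpr_gf (K1.f37282 IH) (Lpe (K0.f34686 IH) (Lpr_ft (f164315 IH) (Lpn (LP (LK LD1_c0 LD2_c12 LD3_c58))))))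
theorem f164326 : Led Lsl_at (LP (LK LD1_c0 LD2_c29 LD3_c24)) = (LP (LK LD1_c0 LD2_c29 LD3_c24)) :=
  Lgr Lrot107 (Lpe (K0.f26576 IH) (Lpr_af (f164324 IH) (Lpe (K1.f6724 IH) (Lpn (LP (LK LD1_c0 LD2_c29 LD3_c24))))))
theorem f38629 : Led Lsl_gt (LP (LK LD1_c0 LD2_c16 LD3_c59)) = (LP (LK LD1_c0 LD2_c31 LD3_c44)) :=
  Lgr Lrot65 (Lpe (K1.f34679 IH) (Lpr_bt (K0.f24207 IH) (Lpe (K0.f20267 IH) (Lpe (K1.f8344 IH) (Lpr_ct (K1.f8345 IH) (Lpr_gf (K1.f38619 IH) (Lpe (K1.f36931 IH) (Lpe (K1.f2962 IH) (Lpe (K0.f2948 IH) (Lpr_ct (K0.f2963 IH) (Lpn (LP (LK LD1_c0 LD2_c31 LD3_c44)))))))))))))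
theorem f164330 : Led Lsl_ff (LP (LK LD1_c0 LD2_c29 LD3_c24)) = (LP (LK LD1_c0 LD2_c16 LD3_c59)) :=
  Lgr Lrot52 (Lpr_at (f164326 IH) (Lpr_gf (K0.f34688 IH) (Lpe (f38629 IH) (Lpn (LP (LK LD1_c0 LD2_c16 LD3_c59))))))
theorem f164317 : Led Lsl_ff (LP (LK LD1_c0 LD2_c16 LD3_c59)) = (LP (LK LD1_c0 LD2_c29 LD3_c24)) :=
  Lgr Lrot23 (Lpr_ct (K1.f34681 IH) (Lpr_ft (f164315 IH) (Lpr_ct (K0.f26576 IH) (Lpn (LP (LK LD1_c0 LD2_c29 LD3_c24))))))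
theorem f164332 : Led Lsl_at (LP (LK LD1_c0 LD2_c16 LD3_c59)) = (LP (LK LD1_c0 LD2_c16 LD3_c59)) :=
  Lgr Lrot66 (Lpr_ff (f164317 IH) (Lpe (f164326 IH) (Lpr_ff (f164330 IH) (Lpn (LP (LK LD1_c0 LD2_c16 LD3_c59))))))
theorem f164334 : Led Lsl_et (LP (LK LD1_c0 LD2_c38 LD3_c1)) = (LP (LK LD1_c0 LD2_c16 LD3_c59)) :=
  Lre_e IH (LK LD1_c0 LD2_c38 LD3_c1) (LK LD1_c0 LD2_c16 LD3_c59) Lrfl Lrfl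
theorem f164337 : Led Lsl_et (LP (LK LD1_c0 LD2_c16 LD3_c59)) = (LP (LK LD1_c0 LD2_c38 LD3_c1)) :=
  Lre_e IH (LK LD1_c0 LD2_c16 LD3_c59) (LK LD1_c0 LD2_c38 LD3_c1) Lrfl Lrfl
theorem f164338 : Led Lsl_af (LP (LK LD1_c0 LD2_c38 LD3_c1)) = (LP (LK LD1_c0 LD2_c38 LD3_c1)) :=
  Lgr Lrot50 (Lpr_et (f164334 IH) (Lpr_at (f164332 IH) (Lpr_et (f164337 IH) (Lpn (LP (LK LD1_c0 LD2_c38 LD3_c1))))))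
theorem f24253 : Led Lsl_ct (LP (LK LD1_c0 LD2_c38 LD3_c1)) = (LP (LK LD1_c0 LD2_c16 LD3_c60)) :=
  Lre_c IH (LK LD1_c0 LD2_c38 LD3_c1) (LK LD1_c0 LD2_c16 LD3_c60) Lrfl Lrfl
theorem f24583 : Led Lsl_ct (LP (LK LD1_c0 LD2_c16 LD3_c60)) = (LP (LK LD1_c0 LD2_c38 LD3_c1)) :=
  Lre_c IH (LK LD1_c0 LD2_c16 LD3_c60) (LK LD1_c0 LD2_c38 LD3_c1) Lrfl Lrfl
theorem f164340 : Led Lsl_at (LP (LK LD1_c0 LD2_c16 LD3_c60)) = (LP (LK LD1_c0 LD2_c16 LD3_c60)) :=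
  Lgr Lrot107 (Lpe (f24253 IH) (Lpr_af (f164338 IH) (Lpe (f24583 IH) (Lpn (LP (LK LD1_c0 LD2_c16 LD3_c60))))))
theorem f24582 : Led Lsl_ft (LP (LK LD1_c0 LD2_c38 LD3_c4)) = (LP (LK LD1_c0 LD2_c16 LD3_c60)) :=
  Lre_f IH (LK LD1_c0 LD2_c38 LD3_c4) (LK LD1_c0 LD2_c16 LD3_c60) Lrfl Lrfl
theorem f164344 : Led Lsl_gt (LP (LK LD1_c0 LD2_c38 LD3_c4)) = (LP (LK LD1_c0 LD2_c38 LD3_c3)) :=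
  Lgr Lrot5 (Lpr_ft (f24582 IH) (Lpr_at (f164340 IH) (Lpe (K11.f24587 IH) (Lpn (LP (LK LD1_c0 LD2_c38 LD3_c3))))))
theorem f24572 : Led Lsl_bt (LP (LK LD1_c0 LD2_c17 LD3_c4)) = (LP (LK LD1_c0 LD2_c38 LD3_c4)) :=
  Lre_b IH (LK LD1_c0 LD2_c17 LD3_c4) (LK LD1_c0 LD2_c38 LD3_c4) Lrfl Lrfl
theorem f24576 : Led Lsl_ct (LP (LK LD1_c0 LD2_c17 LD3_c4)) = (LP (LK LD1_c0 LD2_c38 LD3_c14)) :=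
  Lre_c IH (LK LD1_c0 LD2_c17 LD3_c4) (LK LD1_c0 LD2_c38 LD3_c14) Lrfl Lrfl
theorem f151840 : Led Lsl_gt (LP (LK LD1_c1 LD2_c4 LD3_c26)) = (LP (LK LD1_c0 LD2_c38 LD3_c14)) :=
  Lgr Lrot46 (Lpe (f20322 IH) (Lpr_ft (K7.f151804 IH) (Lpr_at (K7.f151828 IH) (Lpn (LP (LK LD1_c0 LD2_c38 LD3_c14))))))
theorem f211058 : Led Lsl_cf (LP (LK LD1_c1 LD2_c4 LD3_c26)) = (LP (LK LD1_c0 LD2_c32 LD3_c48)) :=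
  Lgr Lrot125 (Lpr_gt (f151840 IH) (Lpe (f24576 IH) (Lpr_bt (f24572 IH) (Lpr_gt (f164344 IH) (Lpe (K11.f24591 IH) (Lpr_ct (K11.f211043 IH) (Lpr_gt (K11.f37693 IH) (Lpe (K11.f37684 IH) (Lpr_bt (K1.f37698 IH) (Lpr_gt (K10.f37720 IH) (Lpn (LP (LK LD1_c0 LD2_c32 LD3_c48)))))))))))))
theorem f171850 : Led Lsl_gt (LP (LK LD1_c1 LD2_c18 LD3_c52)) = (LP (LK LD1_c0 LD2_c36 LD3_c20)) :=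
  Lre_g IH (LK LD1_c1 LD2_c18 LD3_c52) (LK LD1_c0 LD2_c36 LD3_c20) Lrfl Lrfl
theorem f211713 : Led Lsl_cf (LP (LK LD1_c1 LD2_c26 LD3_c22)) = (LP (LK LD1_c1 LD2_c18 LD3_c52)) :=
  Lgr Lrot166 (Lpe (K10.f56042 IH) (Lpr_dt (K10.f53316 IH) (Lpr_gt (K11.f183223 IH) (Lpe (K10.f179904 IH) (Lpe (f211058 IH) (Lpe (f26638 IH) (Lpr_gf (f211709 IH) (Lpe (K9.f164999 IH) (Lpe (f171850 IH) (Lpn (LP (LK LD1_c1 LD2_c18 LD3_c52))))))))))))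
theorem f171851 : Led Lsl_et (LP (LK LD1_c2 LD2_c45 LD3_c11)) = (LP (LK LD1_c1 LD2_c18 LD3_c52)) :=
  Lre_e IH (LK LD1_c2 LD2_c45 LD3_c11) (LK LD1_c1 LD2_c18 LD3_c52) Lrfl Lrfl
theorem f211724 : Led Lsl_ct (LP (LK LD1_c2 LD2_c17 LD3_c58)) = (LP (LK LD1_c2 LD2_c45 LD3_c11)) :=
  Lgr Lrot15 (Lpr_ef (K10.f185946 IH) (Lpr_cf (f211713 IH) (Lpe (f171851 IH) (Lpn (LP (LK LD1_c2 LD2_c45 LD3_c11))))))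
theorem f176731 : Led Lsl_dt (LP (LK LD1_c2 LD2_c16 LD3_c46)) = (LP (LK LD1_c2 LD2_c27 LD3_c57)) :=
  Lgr Lrot42 (Lpr_df (K10.f176718 IH) (Lpn (LP (LK LD1_c2 LD2_c27 LD3_c57))))
theorem f211730 : Led Lsl_gf (LP (LK LD1_c2 LD2_c16 LD3_c46)) = (LP (LK LD1_c2 LD2_c45 LD3_c11)) :=
  Lgr Lrot148 (Lpr_dt (f176731 IH) (Lpr_gt (K9.f26578 IH) (Lpr_dt (K9.f100600 IH) (Lpr_ct (K9.f26035 IH) (Lpe (K9.f9361 IH) (Lpe (K9.f27239 IH) (Lpe (K9.f27240 IH) (Lpe (K10.f185952 IH) (Lpr_ct (f211724 IH) (Lpn (LP (LK LD1_c2 LD2_c45 LD3_c11))))))))))))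
theorem f24535 : Led Lsl_et (LP (LK LD1_c0 LD2_c17 LD3_c1)) = (LP (LK LD1_c0 LD2_c7 LD3_c35)) :=
  Lre_e IH (LK LD1_c0 LD2_c17 LD3_c1) (LK LD1_c0 LD2_c7 LD3_c35) Lrfl Lrfl
theorem f24421 : Led Lsl_dt (LP (LK LD1_c0 LD2_c17 LD3_c1)) = (LP (LK LD1_c0 LD2_c38 LD3_c13)) :=
  Lre_d IH (LK LD1_c0 LD2_c17 LD3_c1) (LK LD1_c0 LD2_c38 LD3_c13) Lrfl Lrfl
theorem f26579 : Led Lsl_gt (LP (LK LD1_c0 LD2_c38 LD3_c13)) = (LP (LK LD1_c1 LD2_c22 LD3_c29)) :=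
  Lre_g IH (LK LD1_c0 LD2_c38 LD3_c13) (LK LD1_c1 LD2_c22 LD3_c29) Lrfl Lrfl
theorem f211733 : Led Lsl_et (LP (LK LD1_c1 LD2_c18 LD3_c52)) = (LP (LK LD1_c2 LD2_c45 LD3_c11)) :=
  Lre_e IH (LK LD1_c1 LD2_c18 LD3_c52) (LK LD1_c2 LD2_c45 LD3_c11) Lrfl Lrfl
theorem f211734 : Led Lsl_df (LP (LK LD1_c1 LD2_c22 LD3_c29)) = (LP (LK LD1_c1 LD2_c18 LD3_c52)) :=
  Lgr Lrot168 (Lpe (f26579 IH) (Lpe (f24421 IH) (Lpr_et (f24535 IH) (Lpr_gf (K0.f26476 IH) (Lpe (K10.f20293 IH) (Lpr_dt (K9.f20294 IH) (Lpe (K9.f26578 IH) (Lpe (f176731 IH) (Lpr_gf (f211730 IH) (Lpe (f211733 IH) (Lpn (LP (LK LD1_c1 LD2_c18 LD3_c52)))))))))))))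
theorem f211739 : Led Lsl_dt (LP (LK LD1_c1 LD2_c22 LD3_c29)) = (LP (LK LD1_c1 LD2_c18 LD3_c52)) :=
  Lgr Lrot42 (Lpr_df (f211734 IH) (Lpn (LP (LK LD1_c1 LD2_c18 LD3_c52))))
theorem f24430 : Led Lsl_gt (LP (LK LD1_c0 LD2_c38 LD3_c12)) = (LP (LK LD1_c0 LD2_c17 LD3_c1)) :=
  Lre_g IH (LK LD1_c0 LD2_c38 LD3_c12) (LK LD1_c0 LD2_c17 LD3_c1) Lrfl Lrfl
theorem f211755 : Led Lsl_cf (LP (LK LD1_c0 LD2_c38 LD3_c12)) = (LP (LK LD1_c0 LD2_c39 LD3_c56)) :=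
  Lgr Lrot166 (Lpr_gt (f24430 IH) (Lpr_dt (f24421 IH) (Lpr_gt (f26579 IH) (Lpr_dt (f211739 IH) (Lpe (f211713 IH) (Lpe (K10.f27199 IH) (Lpe (K10.f27196 IH) (Lpr_df (K1.f27205 IH) (Lpe (K10.f27236 IH) (Lpn (LP (LK LD1_c0 LD2_c39 LD3_c56))))))))))))
theorem f198307 : Led Lsl_bf (LP (LK LD1_c0 LD2_c29 LD3_c31)) = (LP (LK LD1_c0 LD2_c39 LD3_c56)) :=
  Lgr Lrot24 (Lpr_bt (K10.f198305 IH) (Lpn (LP (LK LD1_c0 LD2_c39 LD3_c56))))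
theorem f20312 : Led Lsl_ct (LP (LK LD1_c0 LD2_c12 LD3_c61)) = (LP (LK LD1_c0 LD2_c29 LD3_c29)) :=
  Lre_c IH (LK LD1_c0 LD2_c12 LD3_c61) (LK LD1_c0 LD2_c29 LD3_c29) Lrfl Lrfl
theorem f211765 : Led Lsl_gf (LP (LK LD1_c0 LD2_c38 LD3_c12)) = (LP (LK LD1_c1 LD2_c4 LD3_c29)) :=
  Lgr Lrot129 (Lpr_cf (f211755 IH) (Lpe (f198307 IH) (Lpr_gt (K9.f20323 IH) (Lpe (K7.f20304 IH) (Lpr_ct (f20312 IH) (Lpr_gt (f20322 IH) (Lpr_cf (f211058 IH) (Lpe (K11.f198483 IH) (Lpr_gt (K9.f177138 IH) (Lpr_ct (K7.f20326 IH) (Lpn (LP (LK LD1_c1 LD2_c4 LD3_c29)))))))))))))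
theorem f211763 : Led Lsl_dt (LP (LK LD1_c0 LD2_c38 LD3_c12)) = (LP (LK LD1_c1 LD2_c22 LD3_c28)) :=
  Lre_d IH (LK LD1_c0 LD2_c38 LD3_c12) (LK LD1_c1 LD2_c22 LD3_c28) Lrfl Lrfl
theorem f24426 : Led Lsl_ft (LP (LK LD1_c0 LD2_c38 LD3_c13)) = (LP (LK LD1_c1 LD2_c22 LD3_c31)) :=
  Lre_f IH (LK LD1_c0 LD2_c38 LD3_c13) (LK LD1_c1 LD2_c22 LD3_c31) Lrfl Lrfl
theorem f151850 : Led Lsl_gf (LP (LK LD1_c2 LD2_c14 LD3_c44)) = (LP (LK LD1_c1 LD2_c22 LD3_c29)) :=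
  Lgr Lrot76 (Lpr_af (K7.f151838 IH) (Lpe (f24426 IH) (Lpr_gt (f26579 IH) (Lpn (LP (LK LD1_c1 LD2_c22 LD3_c29))))))
theorem f211742 : Led Lsl_gt (LP (LK LD1_c1 LD2_c25 LD3_c44)) = (LP (LK LD1_c1 LD2_c18 LD3_c52)) :=
  Lgr Lrot94 (Lpe (f20735 IH) (Lpr_gt (K10.f178991 IH) (Lpe (K9.f24241 IH) (Lpr_gt (K9.f177138 IH) (Lpr_dt (K9.f164255 IH) (Lpe (K7.f20328 IH) (Lpe (K7.f20332 IH) (Lpr_gf (f151850 IH) (Lpr_df (f211734 IH) (Lpn (LP (LK LD1_c1 LD2_c18 LD3_c52))))))))))))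
theorem f210669 : Led Lsl_ct (LP (LK LD1_c0 LD2_c38 LD3_c11)) = (LP (LK LD1_c0 LD2_c39 LD3_c55)) :=
  Lgr Lrot59 (Lpr_cf (K11.f210625 IH) (Lpn (LP (LK LD1_c0 LD2_c39 LD3_c55))))
theorem f211746 : Led Lsl_gf (LP (LK LD1_c0 LD2_c39 LD3_c37)) = (LP (LK LD1_c0 LD2_c36 LD3_c21)) :=
  Lgr Lrot147 (Lpr_ct (f20735 IH) (Lpr_gt (f211742 IH) (Lpe (f211713 IH) (Lpe (K10.f27199 IH) (Lpe (f210669 IH) (Lpe (K11.f24245 IH) (Lpe (K11.f24244 IH) (Lpe (K9.f24221 IH) (Lpe (K9.f24440 IH) (Lpn (LP (LK LD1_c0 LD2_c36 LD3_c21))))))))))))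
theorem f20723 : Led Lsl_dt (LP (LK LD1_c2 LD2_c12 LD3_c34)) = (LP (LK LD1_c1 LD2_c3 LD3_c17)) :=
  Lre_d IH (LK LD1_c2 LD2_c12 LD3_c34) (LK LD1_c1 LD2_c3 LD3_c17) Lrfl Lrfl
theorem f211767 : Led Lsl_gt (LP (LK LD1_c1 LD2_c22 LD3_c28)) = (LP (LK LD1_c2 LD2_c12 LD3_c34)) :=
  Lgr Lrot49 (Lpe (f211763 IH) (Lpr_gf (f211765 IH) (Lpe (K7.f20326 IH) (Lpr_gt (K9.f177140 IH) (Lpe (K9.f24517 IH) (Lpe (f211746 IH) (Lpe (K9.f20668 IH) (Lpe (f20725 IH) (Lpe (f20723 IH) (Lpn (LP (LK LD1_c2 LD2_c12 LD3_c34))))))))))))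
theorem f20718 : Led Lsl_dt (LP (LK LD1_c1 LD2_c3 LD3_c17)) = (LP (LK LD1_c2 LD2_c12 LD3_c34)) :=
  Lre_d IH (LK LD1_c1 LD2_c3 LD3_c17) (LK LD1_c2 LD2_c12 LD3_c34) Lrfl Lrfl
theorem f211770 : Led Lsl_et (LP (LK LD1_c1 LD2_c3 LD3_c17)) = (LP (LK LD1_c0 LD2_c28 LD3_c51)) :=
  Lre_e IH (LK LD1_c1 LD2_c3 LD3_c17) (LK LD1_c0 LD2_c28 LD3_c51) Lrfl Lrfl
theorem f164253 : Led Lsl_et (LP (LK LD1_c0 LD2_c33 LD3_c38)) = (LP (LK LD1_c1 LD2_c4 LD3_c29)) :=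
  Lgr Lrot158 (Lpe (K8.f3157 IH) (Lpr_ef (K9.f164247 IH) (Lpe (K7.f20328 IH) (Lpn (LP (LK LD1_c1 LD2_c4 LD3_c29))))))
theorem f211771 : Led Lsl_gt (LP (LK LD1_c0 LD2_c28 LD3_c51)) = (LP (LK LD1_c1 LD2_c0 LD3_c45)) :=
  Lgr Lrot131 (Lpe (f211770 IH) (Lpr_dt (f20718 IH) (Lpe (f211767 IH) (Lpe (f211763 IH) (Lpr_gf (f211765 IH) (Lpe (f164253 IH) (Lpr_dt (K8.f163740 IH) (Lpr_gf (K9.f165455 IH) (Lpr_df (K9.f181094 IH) (Lpe (K9.f181087 IH) (Lpn (LP (LK LD1_c1 LD2_c0 LD3_c45)))))))))))))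
theorem f174924 : Led Lsl_dt (LP (LK LD1_c0 LD2_c28 LD3_c51)) = (LP (LK LD1_c1 LD2_c3 LD3_c16)) :=
  Lre_d IH (LK LD1_c0 LD2_c28 LD3_c51) (LK LD1_c1 LD2_c3 LD3_c16) Lrfl Lrfl
theorem f40851 : Led Lsl_ct (LP (LK LD1_c1 LD2_c56 LD3_c21)) = (LP (LK LD1_c1 LD2_c10 LD3_c8)) :=
  Lgr Lrot59 (Lpr_cf (K1.f40844 IH) (Lpn (LP (LK LD1_c1 LD2_c10 LD3_c8))))
theorem f211776 : Led Lsl_gt (LP (LK LD1_c1 LD2_c3 LD3_c16)) = (LP (LK LD1_c1 LD2_c56 LD3_c21)) :=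
  Lgr Lrot9 (Lpe (f174924 IH) (Lpr_gt (f211771 IH) (Lpr_ct (K9.f179874 IH) (Lpr_gt (K9.f180227 IH) (Lpr_ct (K9.f56536 IH) (Lpr_df (K9.f168223 IH) (Lpe (K9.f172404 IH) (Lpe (K9.f168092 IH) (Lpe (f40851 IH) (Lpn (LP (LK LD1_c1 LD2_c56 LD3_c21))))))))))))
theorem f167843 : Led Lsl_gt (LP (LK LD1_c1 LD2_c3 LD3_c14)) = (LP (LK LD1_c0 LD2_c28 LD3_c51)) :=
  Lre_g IH (LK LD1_c1 LD2_c3 LD3_c14) (LK LD1_c0 LD2_c28 LD3_c51) Lrfl Lrfl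
theorem f172556 : Led Lsl_gt (LP (LK LD1_c0 LD2_c32 LD3_c30)) = (LP (LK LD1_c0 LD2_c14 LD3_c34)) :=
  Lre_g IH (LK LD1_c0 LD2_c32 LD3_c30) (LK LD1_c0 LD2_c14 LD3_c34) Lrfl Lrfl
theorem f211805 : Led Lsl_ct (LP (LK LD1_c1 LD2_c3 LD3_c14)) = (LP (LK LD1_c0 LD2_c32 LD3_c30)) :=
  Lgr Lrot8 (Lpr_gt (f167843 IH) (Lpr_dt (f174924 IH) (Lpr_gt (f211776 IH) (Lpr_dt (K1.f40841 IH) (Lpe (K9.f40867 IH) (Lpe (K9.f41077 IH) (Lpr_gf (K9.f181954 IH) (Lpe (K9.f172546 IH) (Lpe (f172556 IH) (Lpn (LP (LK LD1_c0 LD2_c32 LD3_c30))))))))))))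
theorem f211982 : Led Lsl_gf (LP (LK LD1_c1 LD2_c3 LD3_c14)) = (LP (LK LD1_c0 LD2_c28 LD3_c58)) :=
  Lgr Lrot147 (Lpr_ct (f211805 IH) (Lpr_gt (f172556 IH) (Lpr_ct (K9.f172425 IH) (Lpr_df (K9.f172427 IH) (Lpr_cf (K9.f174970 IH) (Lpe (K9.f175085 IH) (Lpe (K1.f40983 IH) (Lpr_gf (K9.f168848 IH) (Lpe (K9.f168836 IH) (Lpn (LP (LK LD1_c0 LD2_c28 LD3_c58))))))))))))
theorem f211807 : Led Lsl_cf (LP (LK LD1_c1 LD2_c3 LD3_c14)) = (LP (LK LD1_c0 LD2_c32 LD3_c30)) :=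
  Lgr Lrot166 (Lpr_gt (f167843 IH) (Lpr_dt (f174924 IH) (Lpr_gt (f211776 IH) (Lpr_dt (K1.f40841 IH) (Lpr_ct (K1.f40840 IH) (Lpe (K9.f41077 IH) (Lpr_gf (K9.f181954 IH) (Lpe (K9.f172546 IH) (Lpe (f172556 IH) (Lpn (LP (LK LD1_c0 LD2_c32 LD3_c30))))))))))))
theorem f20696 : Led Lsl_ct (LP (LK LD1_c0 LD2_c28 LD3_c51)) = (LP (LK LD1_c0 LD2_c12 LD3_c44)) :=
  Lre_c IH (LK LD1_c0 LD2_c28 LD3_c51) (LK LD1_c0 LD2_c12 LD3_c44) Lrfl Lrfl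
theorem f211834 : Led Lsl_gt (LP (LK LD1_c0 LD2_c14 LD3_c37)) = (LP (LK LD1_c0 LD2_c32 LD3_c30)) :=
  Lgr Lrot9 (Lpe (K9.f56528 IH) (Lpr_gt (K9.f7022 IH) (Lpr_ct (K1.f40853 IH) (Lpr_gt (K9.f167832 IH) (Lpr_ct (K9.f20813 IH) (Lpe (K9.f20665 IH) (Lpe (f20696 IH) (Lpe (f167843 IH) (Lpr_cf (f211807 IH) (Lpn (LP (LK LD1_c0 LD2_c32 LD3_c30))))))))))))
theorem f172681 : Led Lsl_ct (LP (LK LD1_c1 LD2_c10 LD3_c11)) = (LP (LK LD1_c2 LD2_c26 LD3_c2)) :=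
  Lre_c IH (LK LD1_c1 LD2_c10 LD3_c11) (LK LD1_c2 LD2_c26 LD3_c2) Lrfl Lrfl
theorem f56556 : Led Lsl_ct (LP (LK LD1_c1 LD2_c10 LD3_c24)) = (LP (LK LD1_c0 LD2_c32 LD3_c35)) :=
  Lre_c IH (LK LD1_c1 LD2_c10 LD3_c24) (LK LD1_c0 LD2_c32 LD3_c35) Lrfl Lrfl
theorem f182328 : Led Lsl_gt (LP (LK LD1_c2 LD2_c26 LD3_c2)) = (LP (LK LD1_c1 LD2_c10 LD3_c24)) :=
  Lgr Lrot150 (Lpe (f172681 IH) (Lpe (K11.f172558 IH) (Lpe (K11.f182327 IH) (Lpr_gt (K9.f182320 IH) (Lpe (K0.f6926 IH) (Lpe (K9.f182200 IH) (Lpr_ct (K9.f168348 IH) (Lpe (K9.f56559 IH) (Lpe (f56556 IH) (Lpn (LP (LK LD1_c1 LD2_c10 LD3_c24))))))))))))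
theorem f164307 : Led Lsl_gt (LP (LK LD1_c0 LD2_c16 LD3_c8)) = (LP (LK LD1_c0 LD2_c7 LD3_c15)) :=
  Lre_g IH (LK LD1_c0 LD2_c16 LD3_c8) (LK LD1_c0 LD2_c7 LD3_c15) Lrfl Lrfl
theorem f172672 : Led Lsl_ct (LP (LK LD1_c0 LD2_c36 LD3_c15)) = (LP (LK LD1_c0 LD2_c16 LD3_c8)) :=
  Lre_c IH (LK LD1_c0 LD2_c36 LD3_c15) (LK LD1_c0 LD2_c16 LD3_c8) Lrfl Lrfl
theorem f172673 : Led Lsl_gf (LP (LK LD1_c0 LD2_c32 LD3_c31)) = (LP (LK LD1_c0 LD2_c36 LD3_c15)) :=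
  Lgr Lrot144 (Lpr_dt (f172547 IH) (Lpr_gt (K9.f172555 IH) (Lpr_dt (K9.f172299 IH) (Lpe (K9.f172298 IH) (Lpe (K0.f9444 IH) (Lpe (K0.f9481 IH) (Lpe (K9.f24442 IH) (Lpe (f164307 IH) (Lpe (f172672 IH) (Lpn (LP (LK LD1_c0 LD2_c36 LD3_c15))))))))))))
theorem f172676 : Led Lsl_ct (LP (LK LD1_c0 LD2_c16 LD3_c8)) = (LP (LK LD1_c0 LD2_c36 LD3_c15)) :=
  Lre_c IH (LK LD1_c0 LD2_c16 LD3_c8) (LK LD1_c0 LD2_c36 LD3_c15) Lrfl Lrfl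
theorem f211840 : Led Lsl_bt (LP (LK LD1_c0 LD2_c16 LD3_c8)) = (LP (LK LD1_c0 LD2_c32 LD3_c30)) :=
  Lgr Lrot92 (Lpr_ct (f172676 IH) (Lpe (f172673 IH) (Lpe (K9.f172425 IH) (Lpr_bt (K11.f172557 IH) (Lpr_gt (K11.f172558 IH) (Lpr_ct (f172681 IH) (Lpr_gt (f182328 IH) (Lpe (K11.f56561 IH) (Lpr_bt (K11.f56521 IH) (Lpr_gt (f211834 IH) (Lpn (LP (LK LD1_c0 LD2_c32 LD3_c30)))))))))))))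
theorem f211842 : Led Lsl_bf (LP (LK LD1_c0 LD2_c16 LD3_c8)) = (LP (LK LD1_c0 LD2_c32 LD3_c30)) :=
  Lgr Lrot24 (Lpr_bt (f211840 IH) (Lpn (LP (LK LD1_c0 LD2_c32 LD3_c30))))
theorem f211984 : Led Lsl_bt (LP (LK LD1_c0 LD2_c26 LD3_c49)) = (LP (LK LD1_c0 LD2_c28 LD3_c49)) :=
  Lgr Lrot22 (Lpe (K9.f165077 IH) (Lpe (K9.f164710 IH) (Lpe (K9.f164709 IH) (Lpe (f164307 IH) (Lpr_bf (f211842 IH) (Lpe (f211807 IH) (Lpr_gf (f211982 IH) (Lpe (K9.f168834 IH) (Lpr_bt (K9.f177813 IH) (Lpe (K9.f178954 IH) (Lpn (LP (LK LD1_c0 LD2_c28 LD3_c49)))))))))))))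
theorem f179013 : Led Lsl_et (LP (LK LD1_c0 LD2_c28 LD3_c49)) = (LP (LK LD1_c0 LD2_c15 LD3_c16)) :=
  Lgr Lrot71 (Lpr_df (K9.f20684 IH) (Lpe (K9.f20689 IH) (Lpe (K9.f266 IH) (Lpr_ef (K9.f179009 IH) (Lpe (K9.f20471 IH) (Lpn (LP (LK LD1_c0 LD2_c15 LD3_c16))))))))
theorem f211992 : Led Lsl_bf (LP (LK LD1_c0 LD2_c32 LD3_c9)) = (LP (LK LD1_c0 LD2_c15 LD3_c16)) :=
  Lgr Lrot96 (Lpr_et (K9.f53175 IH) (Lpr_bt (f211984 IH) (Lpr_et (f179013 IH) (Lpn (LP (LK LD1_c0 LD2_c15 LD3_c16))))))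
theorem f164980 : Led Lsl_gt (LP (LK LD1_c0 LD2_c33 LD3_c18)) = (LP (LK LD1_c1 LD2_c11 LD3_c58)) :=
  Lre_g IH (LK LD1_c0 LD2_c33 LD3_c18) (LK LD1_c1 LD2_c11 LD3_c58) Lrfl Lrfl
theorem f204895 : Led Lsl_bf (LP (LK LD1_c1 LD2_c11 LD3_c58)) = (LP (LK LD1_c0 LD2_c57 LD3_c31)) :=
  Lgr Lrot34 (Lpe (f164980 IH) (Lpe (K11.f164724 IH) (Lpr_ct (K9.f3129 IH) (Lpe (K10.f164751 IH) (Lpe (K10.f180259 IH) (Lpr_gf (K10.f180533 IH) (Lpr_bf (K11.f204885 IH) (Lpr_ct (K9.f22132 IH) (Lpe (K9.f177757 IH) (Lpr_cf (K9.f177769 IH) (Lpn (LP (LK LD1_c0 LD2_c57 LD3_c31)))))))))))))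
theorem f176791 : Led Lsl_bt (LP (LK LD1_c2 LD2_c10 LD3_c40)) = (LP (LK LD1_c1 LD2_c27 LD3_c42)) :=
  Lgr Lrot95 (Lpe (K10.f80926 IH) (Lpr_bf (K9.f176787 IH) (Lpe (K9.f59128 IH) (Lpn (LP (LK LD1_c1 LD2_c27 LD3_c42))))))
theorem f204899 : Led Lsl_et (LP (LK LD1_c1 LD2_c11 LD3_c58)) = (LP (LK LD1_c2 LD2_c10 LD3_c40)) :=
  Lgr Lrot74 (Lpr_bf (f204895 IH) (Lpe (K9.f59131 IH) (Lpe (f176791 IH) (Lpn (LP (LK LD1_c2 LD2_c10 LD3_c40))))))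
theorem f204905 : Led Lsl_ef (LP (LK LD1_c1 LD2_c11 LD3_c58)) = (LP (LK LD1_c2 LD2_c10 LD3_c40)) :=
  Lgr Lrot88 (Lpr_et (f204899 IH) (Lpn (LP (LK LD1_c2 LD2_c10 LD3_c40))))
theorem f80940 : Led Lsl_dt (LP (LK LD1_c2 LD2_c10 LD3_c40)) = (LP (LK LD1_c1 LD2_c2 LD3_c21)) :=
  Lre_d IH (LK LD1_c2 LD2_c10 LD3_c40) (LK LD1_c1 LD2_c2 LD3_c21) Lrfl Lrfl
theorem f36223 : Led Lsl_dt (LP (LK LD1_c1 LD2_c0 LD3_c59)) = (LP (LK LD1_c0 LD2_c27 LD3_c48)) :=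
  Lre_d IH (LK LD1_c1 LD2_c0 LD3_c59) (LK LD1_c0 LD2_c27 LD3_c48) Lrfl Lrfl
theorem f204911 : Led Lsl_gt (LP (LK LD1_c1 LD2_c11 LD3_c58)) = (LP (LK LD1_c1 LD2_c0 LD3_c59)) :=
  Lgr Lrot137 (Lpr_ef (f204905 IH) (Lpr_dt (f80940 IH) (Lpe (K9.f80923 IH) (Lpe (K9.f101022 IH) (Lpr_et (K9.f35580 IH) (Lpr_gf (K1.f35541 IH) (Lpe (K11.f35584 IH) (Lpr_dt (K0.f27888 IH) (Lpe (K10.f28619 IH) (Lpe (f36223 IH) (Lpn (LP (LK LD1_c1 LD2_c0 LD3_c59)))))))))))))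
theorem f36339 : Led Lsl_dt (LP (LK LD1_c0 LD2_c27 LD3_c48)) = (LP (LK LD1_c1 LD2_c0 LD3_c59)) :=
  Lre_d IH (LK LD1_c0 LD2_c27 LD3_c48) (LK LD1_c1 LD2_c0 LD3_c59) Lrfl Lrfl
theorem f164135 : Led Lsl_bf (LP (LK LD1_c0 LD2_c32 LD3_c10)) = (LP (LK LD1_c1 LD2_c0 LD3_c59)) :=
  Lgr Lrot93 (Lpr_dt (K9.f28350 IH) (Lpr_bt (K10.f164130 IH) (Lpr_dt (f36339 IH) (Lpn (LP (LK LD1_c1 LD2_c0 LD3_c59))))))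
theorem f164143 : Led Lsl_bt (LP (LK LD1_c0 LD2_c32 LD3_c10)) = (LP (LK LD1_c1 LD2_c0 LD3_c59)) :=
  Lgr Lrot127 (Lpr_bf (f164135 IH) (Lpn (LP (LK LD1_c1 LD2_c0 LD3_c59))))
theorem f204913 : Led Lsl_bf (LP (LK LD1_c0 LD2_c33 LD3_c22)) = (LP (LK LD1_c0 LD2_c33 LD3_c22)) :=
  Lgr Lrot165 (Lpr_gt (K9.f163699 IH) (Lpr_ct (K9.f3129 IH) (Lpr_gt (K9.f164693 IH) (Lpr_cf (K9.f177769 IH) (Lpe (f204895 IH) (Lpr_gt (f204911 IH) (Lpe (f164143 IH) (Lpr_ct (K9.f28369 IH) (Lpr_gt (K9.f177201 IH) (Lpe (K9.f163700 IH) (Lpn (LP (LK LD1_c0 LD2_c33 LD3_c22)))))))))))))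
theorem f164156 : Led Lsl_bt (LP (LK LD1_c0 LD2_c33 LD3_c18)) = (LP (LK LD1_c0 LD2_c14 LD3_c60)) :=
  Lre_b IH (LK LD1_c0 LD2_c33 LD3_c18) (LK LD1_c0 LD2_c14 LD3_c60) Lrfl Lrfl
theorem f164157 : Led Lsl_ct (LP (LK LD1_c0 LD2_c33 LD3_c18)) = (LP (LK LD1_c1 LD2_c11 LD3_c60)) :=
  Lre_c IH (LK LD1_c0 LD2_c33 LD3_c18) (LK LD1_c1 LD2_c11 LD3_c60) Lrfl Lrfl
theorem f164963 : Led Lsl_gt (LP (LK LD1_c1 LD2_c11 LD3_c60)) = (LP (LK LD1_c2 LD2_c29 LD3_c53)) :=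
  Lre_g IH (LK LD1_c1 LD2_c11 LD3_c60) (LK LD1_c2 LD2_c29 LD3_c53) Lrfl Lrfl
theorem f204921 : Led Lsl_cf (LP (LK LD1_c2 LD2_c29 LD3_c53)) = (LP (LK LD1_c1 LD2_c57 LD3_c38)) :=
  Lgr Lrot58 (Lpe (f164963 IH) (Lpe (f164157 IH) (Lpr_bt (f164156 IH) (Lpe (K9.f163699 IH) (Lpr_bf (f204913 IH) (Lpr_ct (K9.f163700 IH) (Lpe (K9.f177201 IH) (Lpe (K9.f28369 IH) (Lpr_gf (K10.f175302 IH) (Lpr_bf (K10.f192647 IH) (Lpn (LP (LK LD1_c1 LD2_c57 LD3_c38)))))))))))))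
theorem f36336 : Led Lsl_ct (LP (LK LD1_c2 LD2_c7 LD3_c45)) = (LP (LK LD1_c1 LD2_c0 LD3_c59)) :=
  Lre_c IH (LK LD1_c2 LD2_c7 LD3_c45) (LK LD1_c1 LD2_c0 LD3_c59) Lrfl Lrfl
theorem f204930 : Led Lsl_gt (LP (LK LD1_c2 LD2_c29 LD3_c53)) = (LP (LK LD1_c2 LD2_c7 LD3_c45)) :=
  Lgr Lrot150 (Lpr_cf (f204921 IH) (Lpe (K10.f192634 IH) (Lpe (K10.f28711 IH) (Lpe (K10.f31595 IH) (Lpr_ct (K0.f31535 IH) (Lpr_gt (K10.f192264 IH) (Lpr_ct (K10.f164159 IH) (Lpe (f36223 IH) (Lpe (f36336 IH) (Lpn (LP (LK LD1_c2 LD2_c7 LD3_c45))))))))))))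
theorem f36344 : Led Lsl_ct (LP (LK LD1_c1 LD2_c0 LD3_c59)) = (LP (LK LD1_c2 LD2_c7 LD3_c45)) :=
  Lre_c IH (LK LD1_c1 LD2_c0 LD3_c59) (LK LD1_c2 LD2_c7 LD3_c45) Lrfl Lrfl
theorem f71486 : Led Lsl_ct (LP (LK LD1_c0 LD2_c38 LD3_c26)) = (LP (LK LD1_c0 LD2_c32 LD3_c8)) :=
  Lgr Lrot59 (Lpr_cf (K2.f71479 IH) (Lpn (LP (LK LD1_c0 LD2_c32 LD3_c8))))
theorem f186506 : Led Lsl_ct (LP (LK LD1_c1 LD2_c0 LD3_c29)) = (LP (LK LD1_c1 LD2_c13 LD3_c29)) :=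
  Lgr Lrot8 (Lpe (K10.f185841 IH) (Lpr_dt (K9.f28344 IH) (Lpr_gt (K9.f31661 IH) (Lpr_dt (K1.f31556 IH) (Lpe (f71486 IH) (Lpe (K10.f71296 IH) (Lpr_gf (K10.f186502 IH) (Lpe (K10.f185098 IH) (Lpe (K10.f185133 IH) (Lpn (LP (LK LD1_c1 LD2_c13 LD3_c29))))))))))))
theorem f212000 : Led Lsl_gt (LP (LK LD1_c0 LD2_c32 LD3_c10)) = (LP (LK LD1_c1 LD2_c0 LD3_c29)) :=
  Lgr Lrot82 (Lpr_bf (f164135 IH) (Lpr_ct (f36344 IH) (Lpe (f204930 IH) (Lpr_cf (f204921 IH) (Lpe (K10.f192647 IH) (Lpr_gf (K9.f28339 IH) (Lpr_bf (f211992 IH) (Lpr_ct (K10.f185084 IH) (Lpe (K10.f185133 IH) (Lpe (f186506 IH) (Lpn (LP (LK LD1_c1 LD2_c0 LD3_c29)))))))))))))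
theorem f61305 : Led Lsl_dt (LP (LK LD1_c1 LD2_c13 LD3_c56)) = (LP (LK LD1_c0 LD2_c34 LD3_c16)) :=
  Lre_d IH (LK LD1_c1 LD2_c13 LD3_c56) (LK LD1_c0 LD2_c34 LD3_c16) Lrfl Lrfl
theorem f186656 : Led Lsl_gt (LP (LK LD1_c2 LD2_c30 LD3_c9)) = (LP (LK LD1_c1 LD2_c13 LD3_c56)) :=
  Lgr Lrot94 (Lpr_cf (K9.f177184 IH) (Lpr_gt (K10.f186608 IH) (Lpr_dt (K10.f163741 IH) (Lpr_gt (K10.f22000 IH) (Lpr_dt (K8.f21387 IH) (Lpe (K10.f163724 IH) (Lpe (K8.f163740 IH) (Lpr_gf (K10.f164076 IH) (Lpe (f61305 IH) (Lpn (LP (LK LD1_c1 LD2_c13 LD3_c56))))))))))))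
theorem f180739 : Led Lsl_gt (LP (LK LD1_c1 LD2_c15 LD3_c1)) = (LP (LK LD1_c1 LD2_c13 LD3_c13)) :=
  Lgr Lrot5 (Lpr_ft (K2.f32588 IH) (Lpr_at (K2.f32590 IH) (Lpr_gf (K10.f180631 IH) (Lpn (LP (LK LD1_c1 LD2_c13 LD3_c13))))))
theorem f61289 : Led Lsl_dt (LP (LK LD1_c0 LD2_c34 LD3_c16)) = (LP (LK LD1_c1 LD2_c13 LD3_c56)) :=
  Lre_d IH (LK LD1_c0 LD2_c34 LD3_c16) (LK LD1_c1 LD2_c13 LD3_c56) Lrfl Lrfl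
theorem f165258 : Led Lsl_dt (LP (LK LD1_c1 LD2_c13 LD3_c13)) = (LP (LK LD1_c2 LD2_c32 LD3_c30)) :=
  Lre_d IH (LK LD1_c1 LD2_c13 LD3_c13) (LK LD1_c2 LD2_c32 LD3_c30) Lrfl Lrfl
theorem f181041 : Led Lsl_ct (LP (LK LD1_c1 LD2_c13 LD3_c56)) = (LP (LK LD1_c2 LD2_c32 LD3_c30)) :=
  Lgr Lrot7 (Lpe (f61289 IH) (Lpe (K10.f61288 IH) (Lpe (K9.f163633 IH) (Lpe (K10.f59574 IH) (Lpr_cf (K10.f180633 IH) (Lpe (K10.f180570 IH) (Lpr_dt (K9.f71531 IH) (Lpr_gt (f180739 IH) (Lpr_dt (f165258 IH) (Lpn (LP (LK LD1_c2 LD2_c32 LD3_c30))))))))))))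
theorem f194024 : Led Lsl_df (LP (LK LD1_c1 LD2_c13 LD3_c29)) = (LP (LK LD1_c2 LD2_c30 LD3_c43)) :=
  Lgr Lrot38 (Lpr_dt (K10.f194019 IH) (Lpn (LP (LK LD1_c2 LD2_c30 LD3_c43))))
theorem f165626 : Led Lsl_gt (LP (LK LD1_c1 LD2_c11 LD3_c35)) = (LP (LK LD1_c2 LD2_c28 LD3_c49)) :=
  Lre_g IH (LK LD1_c1 LD2_c11 LD3_c35) (LK LD1_c2 LD2_c28 LD3_c49) Lrfl Lrfl
theorem f165627 : Led Lsl_dt (LP (LK LD1_c2 LD2_c28 LD3_c49)) = (LP (LK LD1_c5 LD2_c2 LD3_c29)) :=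
  Lre_d IH (LK LD1_c2 LD2_c28 LD3_c49) (LK LD1_c5 LD2_c2 LD3_c29) Lrfl Lrfl
theorem f194031 : Led Lsl_ct (LP (LK LD1_c5 LD2_c2 LD3_c29)) = (LP (LK LD1_c2 LD2_c30 LD3_c43)) :=
  Lgr Lrot7 (Lpe (f165627 IH) (Lpe (f165626 IH) (Lpe (K8.f165604 IH) (Lpr_gf (K8.f165605 IH) (Lpe (K10.f71488 IH) (Lpr_gt (K10.f185158 IH) (Lpr_dt (K10.f20498 IH) (Lpe (K10.f193990 IH) (Lpr_dt (K10.f194019 IH) (Lpn (LP (LK LD1_c2 LD2_c30 LD3_c43))))))))))))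
theorem f212006 : Led Lsl_gt (LP (LK LD1_c2 LD2_c32 LD3_c30)) = (LP (LK LD1_c5 LD2_c2 LD3_c29)) :=
  Lgr Lrot150 (Lpe (f181041 IH) (Lpe (f186656 IH) (Lpe (K9.f164163 IH) (Lpe (K9.f164125 IH) (Lpr_ct (K9.f28370 IH) (Lpr_gt (f212000 IH) (Lpr_ct (f186506 IH) (Lpr_df (f194024 IH) (Lpe (f194031 IH) (Lpn (LP (LK LD1_c5 LD2_c2 LD3_c29))))))))))))
theorem f165630 : Led Lsl_dt (LP (LK LD1_c5 LD2_c2 LD3_c29)) = (LP (LK LD1_c2 LD2_c28 LD3_c49)) :=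
  Lre_d IH (LK LD1_c5 LD2_c2 LD3_c29) (LK LD1_c2 LD2_c28 LD3_c49) Lrfl Lrfl
theorem f182490 : Led Lsl_et (LP (LK LD1_c0 LD2_c15 LD3_c53)) = (LP (LK LD1_c0 LD2_c35 LD3_c27)) :=
  Lre_e IH (LK LD1_c0 LD2_c15 LD3_c53) (LK LD1_c0 LD2_c35 LD3_c27) Lrfl Lrfl
theorem f182491 : Led Lsl_ct (LP (LK LD1_c0 LD2_c35 LD3_c27)) = (LP (LK LD1_c0 LD2_c25 LD3_c53)) :=
  Lgr Lrot15 (Lpe (f182490 IH) (Lpr_cf (K9.f182477 IH) (Lpe (K9.f28336 IH) (Lpn (LP (LK LD1_c0 LD2_c25 LD3_c53))))))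
theorem f182511 : Led Lsl_cf (LP (LK LD1_c0 LD2_c35 LD3_c27)) = (LP (LK LD1_c0 LD2_c25 LD3_c53)) :=
  Lgr Lrot11 (Lpr_ct (f182491 IH) (Lpn (LP (LK LD1_c0 LD2_c25 LD3_c53))))
theorem f185578 : Led Lsl_gt (LP (LK LD1_c0 LD2_c33 LD3_c61)) = (LP (LK LD1_c1 LD2_c13 LD3_c22)) :=
  Lre_g IH (LK LD1_c0 LD2_c33 LD3_c61) (LK LD1_c1 LD2_c13 LD3_c22) Lrfl Lrfl
theorem f182514 : Led Lsl_et (LP (LK LD1_c0 LD2_c35 LD3_c27)) = (LP (LK LD1_c0 LD2_c15 LD3_c53)) :=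
  Lre_e IH (LK LD1_c0 LD2_c35 LD3_c27) (LK LD1_c0 LD2_c15 LD3_c53) Lrfl Lrfl
theorem f185585 : Led Lsl_df (LP (LK LD1_c1 LD2_c13 LD3_c22)) = (LP (LK LD1_c0 LD2_c35 LD3_c27)) :=
  Lgr Lrot132 (Lpe (f185578 IH) (Lpe (K10.f185014 IH) (Lpr_gf (K10.f185574 IH) (Lpe (K0.f28413 IH) (Lpr_dt (K0.f28425 IH) (Lpe (K0.f7705 IH) (Lpe (K0.f460 IH) (Lpr_et (K0.f7667 IH) (Lpe (K9.f8472 IH) (Lpe (f182514 IH) (Lpn (LP (LK LD1_c0 LD2_c35 LD3_c27)))))))))))))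
theorem f185942 : Led Lsl_cf (LP (LK LD1_c1 LD2_c13 LD3_c22)) = (LP (LK LD1_c2 LD2_c28 LD3_c49)) :=
  Lgr Lrot99 (Lpr_df (f185585 IH) (Lpr_cf (f182511 IH) (Lpr_gf (K10.f185839 IH) (Lpe (K9.f31681 IH) (Lpe (K9.f171223 IH) (Lpr_df (K9.f171233 IH) (Lpr_gt (K9.f165276 IH) (Lpr_ct (K8.f3785 IH) (Lpr_gt (f165626 IH) (Lpn (LP (LK LD1_c2 LD2_c28 LD3_c49))))))))))))
theorem f212096 : Led Lsl_gt (LP (LK LD1_c0 LD2_c27 LD3_c15)) = (LP (LK LD1_c0 LD2_c35 LD3_c27)) :=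
  Lgr Lrot189 (Lpr_df (K10.f167618 IH) (Lpe (K9.f32853 IH) (Lpr_ct (K2.f32271 IH) (Lpr_gt (f180739 IH) (Lpr_dt (f165258 IH) (Lpr_gt (f212006 IH) (Lpr_dt (f165630 IH) (Lpe (f185942 IH) (Lpr_df (f185585 IH) (Lpn (LP (LK LD1_c0 LD2_c35 LD3_c27))))))))))))
theorem f212104 : Led Lsl_cf (LP (LK LD1_c2 LD2_c28 LD3_c49)) = (LP (LK LD1_c1 LD2_c13 LD3_c22)) :=
  Lgr Lrot14 (Lpe (f165630 IH) (Lpe (f212006 IH) (Lpe (f165258 IH) (Lpe (f180739 IH) (Lpr_ct (K10.f32240 IH) (Lpr_gt (K9.f32853 IH) (Lpe (K10.f167618 IH) (Lpr_gt (f212096 IH) (Lpe (f185585 IH) (Lpn (LP (LK LD1_c1 LD2_c13 LD3_c22))))))))))))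
theorem f212223 : Led Lsl_gt (LP (LK LD1_c2 LD2_c28 LD3_c49)) = (LP (LK LD1_c1 LD2_c11 LD3_c41)) :=
  Lgr Lrot150 (Lpr_cf (f212104 IH) (Lpe (f185578 IH) (Lpe (K10.f185014 IH) (Lpe (K10.f179002 IH) (Lpe (K1.f32290 IH) (Lpe (K9.f31615 IH) (Lpe (K9.f28365 IH) (Lpe (K9.f21989 IH) (Lpe (K9.f28367 IH) (Lpn (LP (LK LD1_c1 LD2_c11 LD3_c41))))))))))))
theorem f212225 : Led Lsl_bt (LP (LK LD1_c0 LD2_c33 LD3_c11)) = (LP (LK LD1_c1 LD2_c11 LD3_c39)) :=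
  Lre_b IH (LK LD1_c0 LD2_c33 LD3_c11) (LK LD1_c1 LD2_c11 LD3_c39) Lrfl Lrfl
theorem f169961 : Led Lsl_gt (LP (LK LD1_c1 LD2_c11 LD3_c39)) = (LP (LK LD1_c2 LD2_c28 LD3_c60)) :=
  Lre_g IH (LK LD1_c1 LD2_c11 LD3_c39) (LK LD1_c2 LD2_c28 LD3_c60) Lrfl Lrfl
theorem f192128 : Led Lsl_ct (LP (LK LD1_c2 LD2_c28 LD3_c60)) = (LP (LK LD1_c5 LD2_c2 LD3_c51)) :=
  Lre_c IH (LK LD1_c2 LD2_c28 LD3_c60) (LK LD1_c5 LD2_c2 LD3_c51) Lrfl Lrfl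
theorem f45749 : Led Lsl_ct (LP (LK LD1_c8 LD2_c51 LD3_c60)) = (LP (LK LD1_c4 LD2_c27 LD3_c7)) :=
  Lre_c IH (LK LD1_c8 LD2_c51 LD3_c60) (LK LD1_c4 LD2_c27 LD3_c7) Lrfl Lrfl
theorem f169858 : Led Lsl_dt (LP (LK LD1_c1 LD2_c11 LD3_c39)) = (LP (LK LD1_c0 LD2_c33 LD3_c10)) :=
  Lre_d IH (LK LD1_c1 LD2_c11 LD3_c39) (LK LD1_c0 LD2_c33 LD3_c10) Lrfl Lrfl
theorem f192129 : Led Lsl_gf (LP (LK LD1_c8 LD2_c51 LD3_c60)) = (LP (LK LD1_c5 LD2_c2 LD3_c51)) :=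
  Lgr Lrot104 (Lpr_ct (f45749 IH) (Lpe (K9.f44246 IH) (Lpr_cf (K9.f179063 IH) (Lpr_gf (K10.f183711 IH) (Lpe (K9.f31470 IH) (Lpr_gf (K10.f192121 IH) (Lpe (f169858 IH) (Lpr_gt (f169961 IH) (Lpr_ct (f192128 IH) (Lpn (LP (LK LD1_c5 LD2_c2 LD3_c51))))))))))))
theorem f45747 : Led Lsl_ct (LP (LK LD1_c4 LD2_c27 LD3_c7)) = (LP (LK LD1_c8 LD2_c51 LD3_c60)) :=
  Lre_c IH (LK LD1_c4 LD2_c27 LD3_c7) (LK LD1_c8 LD2_c51 LD3_c60) Lrfl Lrfl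
theorem f185622 : Led Lsl_bt (LP (LK LD1_c1 LD2_c13 LD3_c22)) = (LP (LK LD1_c2 LD2_c32 LD3_c55)) :=
  Lre_b IH (LK LD1_c1 LD2_c13 LD3_c22) (LK LD1_c2 LD2_c32 LD3_c55) Lrfl Lrfl
theorem f185685 : Led Lsl_et (LP (LK LD1_c1 LD2_c16 LD3_c32)) = (LP (LK LD1_c0 LD2_c35 LD3_c25)) :=
  Lre_e IH (LK LD1_c1 LD2_c16 LD3_c32) (LK LD1_c0 LD2_c35 LD3_c25) Lrfl Lrfl
theorem f185625 : Led Lsl_et (LP (LK LD1_c1 LD2_c13 LD3_c22)) = (LP (LK LD1_c2 LD2_c32 LD3_c56)) :=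
  Lre_e IH (LK LD1_c1 LD2_c13 LD3_c22) (LK LD1_c2 LD2_c32 LD3_c56) Lrfl Lrfl
theorem f185626 : Led Lsl_et (LP (LK LD1_c1 LD2_c16 LD3_c34)) = (LP (LK LD1_c0 LD2_c35 LD3_c26)) :=
  Lre_e IH (LK LD1_c1 LD2_c16 LD3_c34) (LK LD1_c0 LD2_c35 LD3_c26) Lrfl Lrfl
theorem f185627 : Led Lsl_dt (LP (LK LD1_c2 LD2_c32 LD3_c56)) = (LP (LK LD1_c1 LD2_c16 LD3_c34)) :=
  Lgr Lrot77 (Lpe (f185625 IH) (Lpr_df (f185585 IH) (Lpe (f182490 IH) (Lpe (K9.f8473 IH) (Lpe (f185626 IH) (Lpn (LP (LK LD1_c1 LD2_c16 LD3_c34))))))))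
theorem f185634 : Led Lsl_ft (LP (LK LD1_c5 LD2_c12 LD3_c13)) = (LP (LK LD1_c2 LD2_c32 LD3_c56)) :=
  Lre_f IH (LK LD1_c5 LD2_c12 LD3_c13) (LK LD1_c2 LD2_c32 LD3_c56) Lrfl Lrfl
theorem f185635 : Led Lsl_ft (LP (LK LD1_c1 LD2_c16 LD3_c34)) = (LP (LK LD1_c2 LD2_c39 LD3_c37)) :=
  Lre_f IH (LK LD1_c1 LD2_c16 LD3_c34) (LK LD1_c2 LD2_c39 LD3_c37) Lrfl Lrfl
theorem f185636 : Led Lsl_df (LP (LK LD1_c5 LD2_c12 LD3_c13)) = (LP (LK LD1_c2 LD2_c39 LD3_c37)) :=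
  Lgr Lrot78 (Lpr_ft (f185634 IH) (Lpr_dt (f185627 IH) (Lpr_ft (f185635 IH) (Lpn (LP (LK LD1_c2 LD2_c39 LD3_c37))))))
theorem f185650 : Led Lsl_dt (LP (LK LD1_c5 LD2_c12 LD3_c13)) = (LP (LK LD1_c2 LD2_c39 LD3_c37)) :=
  Lgr Lrot42 (Lpr_df (f185636 IH) (Lpn (LP (LK LD1_c2 LD2_c39 LD3_c37))))
theorem f185653 : Led Lsl_bt (LP (LK LD1_c10 LD2_c15 LD3_c7)) = (LP (LK LD1_c5 LD2_c12 LD3_c13)) :=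
  Lre_b IH (LK LD1_c10 LD2_c15 LD3_c7) (LK LD1_c5 LD2_c12 LD3_c13) Lrfl Lrfl
theorem f185654 : Led Lsl_bt (LP (LK LD1_c2 LD2_c39 LD3_c37)) = (LP (LK LD1_c5 LD2_c26 LD3_c13)) :=
  Lre_b IH (LK LD1_c2 LD2_c39 LD3_c37) (LK LD1_c5 LD2_c26 LD3_c13) Lrfl Lrfl
theorem f185655 : Led Lsl_df (LP (LK LD1_c10 LD2_c15 LD3_c7)) = (LP (LK LD1_c5 LD2_c26 LD3_c13)) :=
  Lgr Lrot12 (Lpr_bt (f185653 IH) (Lpr_dt (f185650 IH) (Lpr_bt (f185654 IH) (Lpn (LP (LK LD1_c5 LD2_c26 LD3_c13))))))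
theorem f185659 : Led Lsl_ft (LP (LK LD1_c10 LD2_c15 LD3_c7)) = (LP (LK LD1_c5 LD2_c12 LD3_c10)) :=
  Lre_f IH (LK LD1_c10 LD2_c15 LD3_c7) (LK LD1_c5 LD2_c12 LD3_c10) Lrfl Lrfl
theorem f185660 : Led Lsl_ft (LP (LK LD1_c2 LD2_c39 LD3_c32)) = (LP (LK LD1_c5 LD2_c26 LD3_c13)) :=
  Lre_f IH (LK LD1_c2 LD2_c39 LD3_c32) (LK LD1_c5 LD2_c26 LD3_c13) Lrfl Lrfl
theorem f185661 : Led Lsl_dt (LP (LK LD1_c5 LD2_c12 LD3_c10)) = (LP (LK LD1_c2 LD2_c39 LD3_c32)) :=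
  Lgr Lrot60 (Lpe (f185659 IH) (Lpr_df (f185655 IH) (Lpe (f185660 IH) (Lpn (LP (LK LD1_c2 LD2_c39 LD3_c32))))))
theorem f185668 : Led Lsl_et (LP (LK LD1_c2 LD2_c32 LD3_c55)) = (LP (LK LD1_c5 LD2_c12 LD3_c10)) :=
  Lre_e IH (LK LD1_c2 LD2_c32 LD3_c55) (LK LD1_c5 LD2_c12 LD3_c10) Lrfl Lrfl
theorem f185669 : Led Lsl_et (LP (LK LD1_c2 LD2_c39 LD3_c32)) = (LP (LK LD1_c1 LD2_c16 LD3_c31)) :=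
  Lre_e IH (LK LD1_c2 LD2_c39 LD3_c32) (LK LD1_c1 LD2_c16 LD3_c31) Lrfl Lrfl
theorem f185670 : Led Lsl_dt (LP (LK LD1_c1 LD2_c16 LD3_c31)) = (LP (LK LD1_c0 LD2_c35 LD3_c25)) :=
  Lre_d IH (LK LD1_c1 LD2_c16 LD3_c31) (LK LD1_c0 LD2_c35 LD3_c25) Lrfl Lrfl
theorem f185671 : Led Lsl_et (LP (LK LD1_c0 LD2_c35 LD3_c25)) = (LP (LK LD1_c1 LD2_c16 LD3_c32)) :=
  Lre_e IH (LK LD1_c0 LD2_c35 LD3_c25) (LK LD1_c1 LD2_c16 LD3_c32) Lrfl Lrfl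
theorem f185672 : Led Lsl_df (LP (LK LD1_c2 LD2_c32 LD3_c55)) = (LP (LK LD1_c1 LD2_c16 LD3_c32)) :=
  Lgr Lrot70 (Lpr_et (f185668 IH) (Lpr_dt (f185661 IH) (Lpr_et (f185669 IH) (Lpr_dt (f185670 IH) (Lpr_et (f185671 IH) (Lpn (LP (LK LD1_c1 LD2_c16 LD3_c32))))))))
theorem f49596 : Led Lsl_et (LP (LK LD1_c0 LD2_c11 LD3_c39)) = (LP (LK LD1_c0 LD2_c26 LD3_c13)) :=
  Lre_e IH (LK LD1_c0 LD2_c11 LD3_c39) (LK LD1_c0 LD2_c26 LD3_c13) Lrfl Lrfl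
theorem f478 : Led Lsl_dt (LP (LK LD1_c0 LD2_c5 LD3_c24)) = (LP (LK LD1_c0 LD2_c5 LD3_c33)) :=
  Lgr Lrot79 (Lpe (K1.f476 IH) (Lpr_df (K0.f474 IH) (Lpe (K1.f477 IH) (Lpn (LP (LK LD1_c0 LD2_c5 LD3_c33))))))
theorem f45088 : Led Lsl_df (LP (LK LD1_c0 LD2_c11 LD3_c20)) = (LP (LK LD1_c0 LD2_c11 LD3_c39)) :=
  Lgr Lrot13 (Lpr_ct (K1.f742 IH) (Lpr_dt (f478 IH) (Lpr_ct (K0.f1426 IH) (Lpe (K1.f1428 IH) (Lpr_ff (K1.f27380 IH) (Lpr_dt (K1.f45081 IH) (Lpr_ct (K1.f8084 IH) (Lpe (K1.f44959 IH) (Lpr_ct (K1.f33091 IH) (Lpn (LP (LK LD1_c0 LD2_c11 LD3_c39))))))))))))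
theorem f32429 : Led Lsl_dt (LP (LK LD1_c1 LD2_c14 LD3_c11)) = (LP (LK LD1_c2 LD2_c34 LD3_c22)) :=
  Lre_d IH (LK LD1_c1 LD2_c14 LD3_c11) (LK LD1_c2 LD2_c34 LD3_c22) Lrfl Lrfl
theorem f191158 : Led Lsl_gf (LP (LK LD1_c2 LD2_c32 LD3_c55)) = (LP (LK LD1_c2 LD2_c34 LD3_c22)) :=
  Lgr Lrot134 (Lpr_df (f185672 IH) (Lpr_et (f185685 IH) (Lpr_gt (K10.f191145 IH) (Lpe (f49596 IH) (Lpe (f45088 IH) (Lpe (K1.f33089 IH) (Lpe (K8.f47494 IH) (Lpr_et (K1.f32319 IH) (Lpr_gt (K10.f32428 IH) (Lpr_dt (f32429 IH) (Lpn (LP (LK LD1_c2 LD2_c34 LD3_c22)))))))))))))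
theorem f212229 : Led Lsl_bt (LP (LK LD1_c4 LD2_c27 LD3_c7)) = (LP (LK LD1_c2 LD2_c34 LD3_c22)) :=
  Lgr Lrot22 (Lpr_ct (f45747 IH) (Lpr_gf (f192129 IH) (Lpe (f192128 IH) (Lpe (f169961 IH) (Lpe (f212225 IH) (Lpr_ct (K9.f28374 IH) (Lpe (f212223 IH) (Lpr_cf (f212104 IH) (Lpr_bt (f185622 IH) (Lpr_gf (f191158 IH) (Lpn (LP (LK LD1_c2 LD2_c34 LD3_c22)))))))))))))
theorem f48936 : Led Lsl_dt (LP (LK LD1_c2 LD2_c34 LD3_c22)) = (LP (LK LD1_c1 LD2_c14 LD3_c11)) :=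
  Lre_d IH (LK LD1_c2 LD2_c34 LD3_c22) (LK LD1_c1 LD2_c14 LD3_c11) Lrfl Lrfl
theorem f212237 : Led Lsl_bf (LP (LK LD1_c2 LD2_c10 LD3_c44)) = (LP (LK LD1_c1 LD2_c14 LD3_c11)) :=
  Lgr Lrot93 (Lpr_dt (K9.f44246 IH) (Lpr_bt (f212229 IH) (Lpr_dt (f48936 IH) (Lpn (LP (LK LD1_c1 LD2_c14 LD3_c11))))))
theorem f45811 : Led Lsl_bt (LP (LK LD1_c0 LD2_c56 LD3_c2)) = (LP (LK LD1_c1 LD2_c15 LD3_c40)) :=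
  Lgr Lrot127 (Lpr_bf (K1.f45807 IH) (Lpn (LP (LK LD1_c1 LD2_c15 LD3_c40))))
theorem f31598 : Led Lsl_bt (LP (LK LD1_c0 LD2_c15 LD3_c28)) = (LP (LK LD1_c0 LD2_c7 LD3_c1)) :=
  Lre_b IH (LK LD1_c0 LD2_c15 LD3_c28) (LK LD1_c0 LD2_c7 LD3_c1) Lrfl Lrfl
theorem f51049 : Led Lsl_cf (LP (LK LD1_c2 LD2_c8 LD3_c1)) = (LP (LK LD1_c4 LD2_c13 LD3_c43)) :=
  Lgr Lrot11 (Lpr_ct (K10.f51047 IH) (Lpn (LP (LK LD1_c4 LD2_c13 LD3_c43))))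
theorem f183817 : Led Lsl_gt (LP (LK LD1_c1 LD2_c11 LD3_c56)) = (LP (LK LD1_c2 LD2_c8 LD3_c1)) :=
  Lgr Lrot65 (Lpe (K11.f31635 IH) (Lpr_bt (K11.f165198 IH) (Lpe (K9.f167611 IH) (Lpe (f31598 IH) (Lpr_ct (K1.f45382 IH) (Lpe (K9.f183670 IH) (Lpe (K10.f181426 IH) (Lpr_gf (K9.f183707 IH) (Lpe (K9.f49447 IH) (Lpe (f51049 IH) (Lpn (LP (LK LD1_c2 LD2_c8 LD3_c1)))))))))))))
theorem f192364 : Led Lsl_bt (LP (LK LD1_c0 LD2_c55 LD3_c47)) = (LP (LK LD1_c1 LD2_c25 LD3_c12)) :=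
  Lgr Lrot92 (Lpe (K10.f190756 IH) (Lpr_gt (K9.f47063 IH) (Lpe (K1.f28182 IH) (Lpr_bt (K1.f47051 IH) (Lpr_gt (K10.f192357 IH) (Lpr_ct (K11.f31635 IH) (Lpr_gt (f183817 IH) (Lpr_cf (f51049 IH) (Lpr_bt (K9.f49447 IH) (Lpe (K9.f183707 IH) (Lpn (LP (LK LD1_c1 LD2_c25 LD3_c12)))))))))))))
theorem f32435 : Led Lsl_ct (LP (LK LD1_c1 LD2_c14 LD3_c11)) = (LP (LK LD1_c2 LD2_c34 LD3_c21)) :=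
  Lre_c IH (LK LD1_c1 LD2_c14 LD3_c11) (LK LD1_c2 LD2_c34 LD3_c21) Lrfl Lrfl
theorem f212245 : Led Lsl_gt (LP (LK LD1_c2 LD2_c4 LD3_c8)) = (LP (LK LD1_c2 LD2_c34 LD3_c21)) :=
  Lgr Lrot149 (Lpe (K9.f49462 IH) (Lpe (K9.f183705 IH) (Lpe (f192364 IH) (Lpe (K10.f190756 IH) (Lpe (K9.f181420 IH) (Lpr_cf (K1.f27852 IH) (Lpr_bt (f45811 IH) (Lpe (K9.f46478 IH) (Lpr_bf (f212237 IH) (Lpr_ct (f32435 IH) (Lpn (LP (LK LD1_c2 LD2_c34 LD3_c21)))))))))))))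
theorem f189590 : Led Lsl_af (LP (LK LD1_c2 LD2_c4 LD3_c20)) = (LP (LK LD1_c2 LD2_c34 LD3_c29)) :=
  Lgr Lrot68 (Lpr_ct (K9.f50888 IH) (Lpe (K9.f49435 IH) (Lpr_ct (K10.f189588 IH) (Lpn (LP (LK LD1_c2 LD2_c34 LD3_c29))))))
theorem f212247 : Led Lsl_gf (LP (LK LD1_c2 LD2_c4 LD3_c20)) = (LP (LK LD1_c2 LD2_c34 LD3_c21)) :=
  Lgr Lrot76 (Lpr_af (f189590 IH) (Lpe (K11.f189603 IH) (Lpr_gt (f212245 IH) (Lpn (LP (LK LD1_c2 LD2_c34 LD3_c21))))))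
theorem f43328 : Led Lsl_at (LP (LK LD1_c0 LD2_c32 LD3_c16)) = (LP (LK LD1_c0 LD2_c32 LD3_c18)) :=
  Lgr Lrot80 (Lpe (K9.f43327 IH) (Lpr_af (K1.f43318 IH) (Lpe (K9.f41392 IH) (Lpn (LP (LK LD1_c0 LD2_c32 LD3_c18))))))
theorem f50852 : Led Lsl_af (LP (LK LD1_c1 LD2_c9 LD3_c40)) = (LP (LK LD1_c2 LD2_c4 LD3_c12)) :=
  Lgr Lrot36 (Lpr_bt (K11.f43830 IH) (Lpr_at (f43328 IH) (Lpr_bt (K9.f50850 IH) (Lpr_at (K8.f49425 IH) (Lpr_bt (K10.f49429 IH) (Lpn (LP (LK LD1_c2 LD2_c4 LD3_c12))))))))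
theorem f44458 : Led Lsl_gt (LP (LK LD1_c2 LD2_c24 LD3_c52)) = (LP (LK LD1_c1 LD2_c9 LD3_c40)) :=
  Lre_g IH (LK LD1_c2 LD2_c24 LD3_c52) (LK LD1_c1 LD2_c9 LD3_c40) Lrfl Lrfl
theorem f51285 : Led Lsl_gf (LP (LK LD1_c2 LD2_c24 LD3_c52)) = (LP (LK LD1_c4 LD2_c13 LD3_c43)) :=
  Lgr Lrot47 (Lpr_gt (f44458 IH) (Lpr_af (f50852 IH) (Lpe (K10.f50067 IH) (Lpn (LP (LK LD1_c4 LD2_c13 LD3_c43))))))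
theorem f46243 : Led Lsl_gt (LP (LK LD1_c1 LD2_c59 LD3_c41)) = (LP (LK LD1_c0 LD2_c56 LD3_c47)) :=
  Lre_g IH (LK LD1_c1 LD2_c59 LD3_c41) (LK LD1_c0 LD2_c56 LD3_c47) Lrfl Lrfl
theorem f212254 : Led Lsl_ct (LP (LK LD1_c2 LD2_c24 LD3_c52)) = (LP (LK LD1_c1 LD2_c59 LD3_c41)) :=
  Lgr Lrot91 (Lpr_gf (f51285 IH) (Lpe (K9.f49541 IH) (Lpe (K10.f50905 IH) (Lpr_gf (f212247 IH) (Lpe (f32435 IH) (Lpe (f212237 IH) (Lpe (K9.f44245 IH) (Lpe (K10.f46152 IH) (Lpe (K10.f46223 IH) (Lpe (f46243 IH) (Lpn (LP (LK LD1_c1 LD2_c59 LD3_c41)))))))))))))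
theorem f44119 : Led Lsl_ct (LP (LK LD1_c2 LD2_c10 LD3_c51)) = (LP (LK LD1_c1 LD2_c2 LD3_c25)) :=
  Lre_c IH (LK LD1_c2 LD2_c10 LD3_c51) (LK LD1_c1 LD2_c2 LD3_c25) Lrfl Lrfl
theorem f44128 : Led Lsl_gt (LP (LK LD1_c4 LD2_c27 LD3_c17)) = (LP (LK LD1_c2 LD2_c10 LD3_c51)) :=
  Lre_g IH (LK LD1_c4 LD2_c27 LD3_c17) (LK LD1_c2 LD2_c10 LD3_c51) Lrfl Lrfl
theorem f212260 : Led Lsl_ct (LP (LK LD1_c4 LD2_c53 LD3_c59)) = (LP (LK LD1_c4 LD2_c27 LD3_c17)) :=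
  Lgr Lrot152 (Lpr_gf (K10.f51326 IH) (Lpe (K9.f50062 IH) (Lpe (f51285 IH) (Lpr_ct (f212254 IH) (Lpr_gt (f46243 IH) (Lpr_ct (K1.f46212 IH) (Lpe (K1.f44049 IH) (Lpe (f44119 IH) (Lpe (f44128 IH) (Lpn (LP (LK LD1_c4 LD2_c27 LD3_c17))))))))))))
theorem f190788 : Led Lsl_bf (LP (LK LD1_c4 LD2_c7 LD3_c55)) = (LP (LK LD1_c4 LD2_c53 LD3_c59)) :=
  Lgr Lrot24 (Lpr_bt (K10.f190785 IH) (Lpn (LP (LK LD1_c4 LD2_c53 LD3_c59))))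
theorem f165615 : Led Lsl_ct (LP (LK LD1_c1 LD2_c14 LD3_c53)) = (LP (LK LD1_c2 LD2_c35 LD3_c39)) :=
  Lre_c IH (LK LD1_c1 LD2_c14 LD3_c53) (LK LD1_c2 LD2_c35 LD3_c39) Lrfl Lrfl
theorem f46256 : Led Lsl_gt (LP (LK LD1_c4 LD2_c27 LD3_c30)) = (LP (LK LD1_c4 LD2_c27 LD3_c17)) :=
  Lgr Lrot5 (Lpr_ft (K1.f44903 IH) (Lpr_at (K1.f46239 IH) (Lpe (f44128 IH) (Lpn (LP (LK LD1_c4 LD2_c27 LD3_c17))))))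
theorem f47106 : Led Lsl_bf (LP (LK LD1_c1 LD2_c58 LD3_c15)) = (LP (LK LD1_c2 LD2_c10 LD3_c57)) :=
  Lgr Lrot93 (Lpr_dt (K1.f46028 IH) (Lpr_bt (K1.f47096 IH) (Lpr_dt (K1.f46078 IH) (Lpn (LP (LK LD1_c2 LD2_c10 LD3_c57))))))
theorem f28154 : Led Lsl_gt (LP (LK LD1_c0 LD2_c56 LD3_c1)) = (LP (LK LD1_c1 LD2_c58 LD3_c19)) :=
  Lre_g IH (LK LD1_c0 LD2_c56 LD3_c1) (LK LD1_c1 LD2_c58 LD3_c19) Lrfl Lrfl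
theorem f46962 : Led Lsl_gt (LP (LK LD1_c1 LD2_c58 LD3_c19)) = (LP (LK LD1_c1 LD2_c58 LD3_c15)) :=
  Lgr Lrot46 (Lpe (f28154 IH) (Lpr_ft (K1.f27846 IH) (Lpr_at (K1.f46953 IH) (Lpn (LP (LK LD1_c1 LD2_c58 LD3_c15))))))
theorem f212296 : Led Lsl_bt (LP (LK LD1_c1 LD2_c14 LD3_c53)) = (LP (LK LD1_c1 LD2_c58 LD3_c19)) :=
  Lgr Lrot22 (Lpr_ct (f165615 IH) (Lpr_gf (K10.f188289 IH) (Lpe (K9.f49124 IH) (Lpe (K10.f49154 IH) (Lpr_bf (f190788 IH) (Lpr_ct (f212260 IH) (Lpe (f46256 IH) (Lpe (K1.f46157 IH) (Lpe (f47106 IH) (Lpe (f46962 IH) (Lpn (LP (LK LD1_c1 LD2_c58 LD3_c19)))))))))))))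
theorem f190447 : Led Lsl_bt (LP (LK LD1_c1 LD2_c12 LD3_c55)) = (LP (LK LD1_c2 LD2_c31 LD3_c41)) :=
  Lre_b IH (LK LD1_c1 LD2_c12 LD3_c55) (LK LD1_c2 LD2_c31 LD3_c41) Lrfl Lrfl
theorem f212308 : Led Lsl_gf (LP (LK LD1_c2 LD2_c24 LD3_c56)) = (LP (LK LD1_c2 LD2_c31 LD3_c41)) :=
  Lgr Lrot124 (Lpr_bf (K9.f49835 IH) (Lpr_ct (K9.f49124 IH) (Lpe (K10.f188289 IH) (Lpe (f165615 IH) (Lpr_bt (f212296 IH) (Lpr_gt (f46962 IH) (Lpr_ct (K1.f46932 IH) (Lpr_gt (K10.f190441 IH) (Lpe (K10.f34002 IH) (Lpr_bt (f190447 IH) (Lpn (LP (LK LD1_c2 LD2_c31 LD3_c41)))))))))))))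
theorem f43409 : Led Lsl_at (LP (LK LD1_c2 LD2_c25 LD3_c1)) = (LP (LK LD1_c2 LD2_c24 LD3_c56)) :=
  Lgr Lrot51 (Lpe (K1.f31464 IH) (Lpr_af (K9.f43401 IH) (Lpe (K9.f43408 IH) (Lpn (LP (LK LD1_c2 LD2_c24 LD3_c56))))))
theorem f31480 : Led Lsl_ft (LP (LK LD1_c4 LD2_c54 LD3_c19)) = (LP (LK LD1_c2 LD2_c25 LD3_c1)) :=
  Lre_f IH (LK LD1_c4 LD2_c54 LD3_c19) (LK LD1_c2 LD2_c25 LD3_c1) Lrfl Lrfl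
theorem f212310 : Led Lsl_gt (LP (LK LD1_c4 LD2_c54 LD3_c19)) = (LP (LK LD1_c2 LD2_c31 LD3_c41)) :=
  Lgr Lrot5 (Lpr_ft (f31480 IH) (Lpr_at (f43409 IH) (Lpr_gf (f212308 IH) (Lpn (LP (LK LD1_c2 LD2_c31 LD3_c41))))))
theorem f46014 : Led Lsl_af (LP (LK LD1_c0 LD2_c25 LD3_c26)) = (LP (LK LD1_c0 LD2_c25 LD3_c24)) :=
  Lgr Lrot50 (Lpr_et (K1.f27875 IH) (Lpr_at (K1.f46006 IH) (Lpr_et (K1.f28180 IH) (Lpn (LP (LK LD1_c0 LD2_c25 LD3_c24))))))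
theorem f190876 : Led Lsl_gt (LP (LK LD1_c0 LD2_c55 LD3_c53)) = (LP (LK LD1_c0 LD2_c25 LD3_c26)) :=
  Lgr Lrot46 (Lpr_gf (K10.f190874 IH) (Lpr_ft (K1.f46025 IH) (Lpe (f46014 IH) (Lpn (LP (LK LD1_c0 LD2_c25 LD3_c26))))))
theorem f184663 : Led Lsl_bt (LP (LK LD1_c1 LD2_c15 LD3_c4)) = (LP (LK LD1_c0 LD2_c55 LD3_c53)) :=
  Lgr Lrot127 (Lpr_bf (K10.f184658 IH) (Lpn (LP (LK LD1_c0 LD2_c55 LD3_c53))))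
theorem f190921 : Led Lsl_gf (LP (LK LD1_c1 LD2_c12 LD3_c51)) = (LP (LK LD1_c2 LD2_c25 LD3_c2)) :=
  Lgr Lrot126 (Lpr_cf (K10.f190282 IH) (Lpr_bt (f184663 IH) (Lpr_gt (f190876 IH) (Lpe (K1.f27832 IH) (Lpe (K10.f190883 IH) (Lpr_cf (K10.f190888 IH) (Lpr_bt (K10.f190892 IH) (Lpr_gt (K10.f190897 IH) (Lpe (K9.f50837 IH) (Lpr_ct (K10.f43282 IH) (Lpn (LP (LK LD1_c2 LD2_c25 LD3_c2)))))))))))))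
theorem f28309 : Led Lsl_gt (LP (LK LD1_c2 LD2_c36 LD3_c42)) = (LP (LK LD1_c1 LD2_c15 LD3_c20)) :=
  Lre_g IH (LK LD1_c2 LD2_c36 LD3_c42) (LK LD1_c1 LD2_c15 LD3_c20) Lrfl Lrfl
theorem f212313 : Led Lsl_cf (LP (LK LD1_c2 LD2_c36 LD3_c42)) = (LP (LK LD1_c2 LD2_c31 LD3_c41)) :=
  Lgr Lrot169 (Lpr_gt (f28309 IH) (Lpr_ct (K9.f28256 IH) (Lpe (K1.f28301 IH) (Lpe (K1.f28251 IH) (Lpe (K10.f28280 IH) (Lpe (K10.f190304 IH) (Lpr_gf (f190921 IH) (Lpe (K9.f43286 IH) (Lpr_gt (f212310 IH) (Lpn (LP (LK LD1_c2 LD2_c31 LD3_c41))))))))))))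
theorem f46274 : Led Lsl_gf (LP (LK LD1_c2 LD2_c36 LD3_c42)) = (LP (LK LD1_c2 LD2_c36 LD3_c28)) :=
  Lgr Lrot47 (Lpr_gt (f28309 IH) (Lpr_af (K1.f46254 IH) (Lpe (K1.f44108 IH) (Lpn (LP (LK LD1_c2 LD2_c36 LD3_c28))))))
theorem f34008 : Led Lsl_bt (LP (LK LD1_c2 LD2_c31 LD3_c41)) = (LP (LK LD1_c1 LD2_c12 LD3_c55)) :=
  Lre_b IH (LK LD1_c2 LD2_c31 LD3_c41) (LK LD1_c1 LD2_c12 LD3_c55) Lrfl Lrfl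
theorem f21844 : Led Lsl_bt (LP (LK LD1_c0 LD2_c15 LD3_c13)) = (LP (LK LD1_c0 LD2_c33 LD3_c49)) :=
  Lre_b IH (LK LD1_c0 LD2_c15 LD3_c13) (LK LD1_c0 LD2_c33 LD3_c49) Lrfl Lrfl
theorem f185184 : Led Lsl_bt (LP (LK LD1_c0 LD2_c34 LD3_c46)) = (LP (LK LD1_c1 LD2_c14 LD3_c57)) :=
  Lre_b IH (LK LD1_c0 LD2_c34 LD3_c46) (LK LD1_c1 LD2_c14 LD3_c57) Lrfl Lrfl
theorem f212324 : Led Lsl_gf (LP (LK LD1_c1 LD2_c15 LD3_c14)) = (LP (LK LD1_c1 LD2_c14 LD3_c57)) :=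
  Lgr Lrot181 (Lpr_ct (K9.f46277 IH) (Lpe (f46274 IH) (Lpr_cf (f212313 IH) (Lpr_bt (f34008 IH) (Lpr_gt (K10.f22006 IH) (Lpe (f21844 IH) (Lpr_ct (K8.f21379 IH) (Lpr_gt (K10.f21996 IH) (Lpr_cf (K10.f185187 IH) (Lpr_bt (f185184 IH) (Lpn (LP (LK LD1_c1 LD2_c14 LD3_c57)))))))))))))
theorem f46335 : Led Lsl_bt (LP (LK LD1_c2 LD2_c36 LD3_c13)) = (LP (LK LD1_c1 LD2_c15 LD3_c14)) :=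
  Lre_b IH (LK LD1_c2 LD2_c36 LD3_c13) (LK LD1_c1 LD2_c15 LD3_c14) Lrfl Lrfl
theorem f165265 : Led Lsl_bt (LP (LK LD1_c1 LD2_c13 LD3_c12)) = (LP (LK LD1_c0 LD2_c33 LD3_c57)) :=
  Lre_b IH (LK LD1_c1 LD2_c13 LD3_c12) (LK LD1_c0 LD2_c33 LD3_c57) Lrfl Lrfl
theorem f165266 : Led Lsl_ct (LP (LK LD1_c1 LD2_c13 LD3_c12)) = (LP (LK LD1_c2 LD2_c32 LD3_c27)) :=
  Lre_c IH (LK LD1_c1 LD2_c13 LD3_c12) (LK LD1_c2 LD2_c32 LD3_c27) Lrfl Lrfl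
theorem f171477 : Led Lsl_gt (LP (LK LD1_c5 LD2_c10 LD3_c52)) = (LP (LK LD1_c2 LD2_c32 LD3_c27)) :=
  Lre_g IH (LK LD1_c5 LD2_c10 LD3_c52) (LK LD1_c2 LD2_c32 LD3_c27) Lrfl Lrfl
theorem f212326 : Led Lsl_ct (LP (LK LD1_c2 LD2_c36 LD3_c13)) = (LP (LK LD1_c5 LD2_c10 LD3_c52)) :=
  Lgr Lrot64 (Lpr_bt (f46335 IH) (Lpr_gf (f212324 IH) (Lpe (f185184 IH) (Lpe (K10.f185187 IH) (Lpe (K10.f21996 IH) (Lpe (K8.f21379 IH) (Lpe (K9.f20822 IH) (Lpe (f165265 IH) (Lpr_ct (f165266 IH) (Lpe (f171477 IH) (Lpn (LP (LK LD1_c5 LD2_c10 LD3_c52)))))))))))))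
theorem f28307 : Led Lsl_ft (LP (LK LD1_c1 LD2_c15 LD3_c5)) = (LP (LK LD1_c2 LD2_c36 LD3_c13)) :=
  Lre_f IH (LK LD1_c1 LD2_c15 LD3_c5) (LK LD1_c2 LD2_c36 LD3_c13) Lrfl Lrfl
theorem f212335 : Led Lsl_ff (LP (LK LD1_c2 LD2_c36 LD3_c12)) = (LP (LK LD1_c5 LD2_c10 LD3_c52)) :=
  Lgr Lrot23 (Lpr_ct (K1.f28270 IH) (Lpr_ft (f28307 IH) (Lpr_ct (f212326 IH) (Lpn (LP (LK LD1_c5 LD2_c10 LD3_c52))))))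
theorem f212433 : Led Lsl_gf (LP (LK LD1_c2 LD2_c36 LD3_c17)) = (LP (LK LD1_c2 LD2_c32 LD3_c27)) :=
  Lgr Lrot76 (Lpe (K1.f46521 IH) (Lpr_ff (f212335 IH) (Lpr_gt (f171477 IH) (Lpn (LP (LK LD1_c2 LD2_c32 LD3_c27))))))
theorem f45856 : Led Lsl_bf (LP (LK LD1_c1 LD2_c58 LD3_c17)) = (LP (LK LD1_c1 LD2_c15 LD3_c8)) :=
  Lgr Lrot24 (Lpr_bt (K1.f45854 IH) (Lpn (LP (LK LD1_c1 LD2_c15 LD3_c8))))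
theorem f212443 : Led Lsl_gt (LP (LK LD1_c1 LD2_c58 LD3_c17)) = (LP (LK LD1_c2 LD2_c34 LD3_c43)) :=
  Lgr Lrot82 (Lpr_bf (f45856 IH) (Lpr_ct (K1.f43957 IH) (Lpr_gf (f212433 IH) (Lpe (f165266 IH) (Lpr_bt (f165265 IH) (Lpe (K9.f165254 IH) (Lpe (K10.f3396 IH) (Lpr_ct (K0.f3308 IH) (Lpe (K10.f3334 IH) (Lpe (K10.f180748 IH) (Lpn (LP (LK LD1_c2 LD2_c34 LD3_c43)))))))))))))
theorem f180753 : Led Lsl_bt (LP (LK LD1_c1 LD2_c14 LD3_c23)) = (LP (LK LD1_c2 LD2_c34 LD3_c43)) :=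
  Lre_b IH (LK LD1_c1 LD2_c14 LD3_c23) (LK LD1_c2 LD2_c34 LD3_c43) Lrfl Lrfl
theorem f180746 : Led Lsl_ct (LP (LK LD1_c1 LD2_c14 LD3_c23)) = (LP (LK LD1_c2 LD2_c34 LD3_c44)) :=
  Lre_c IH (LK LD1_c1 LD2_c14 LD3_c23) (LK LD1_c2 LD2_c34 LD3_c44) Lrfl Lrfl
theorem f180747 : Led Lsl_gt (LP (LK LD1_c2 LD2_c34 LD3_c44)) = (LP (LK LD1_c5 LD2_c15 LD3_c45)) :=
  Lre_g IH (LK LD1_c2 LD2_c34 LD3_c44) (LK LD1_c5 LD2_c15 LD3_c45) Lrfl Lrfl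
theorem f43294 : Led Lsl_dt (LP (LK LD1_c1 LD2_c9 LD3_c48)) = (LP (LK LD1_c2 LD2_c25 LD3_c7)) :=
  Lre_d IH (LK LD1_c1 LD2_c9 LD3_c48) (LK LD1_c2 LD2_c25 LD3_c7) Lrfl Lrfl
theorem f212435 : Led Lsl_gt (LP (LK LD1_c2 LD2_c25 LD3_c7)) = (LP (LK LD1_c1 LD2_c13 LD3_c12)) :=
  Lgr Lrot9 (Lpe (f43294 IH) (Lpe (K10.f189549 IH) (Lpr_ct (K10.f189581 IH) (Lpr_gt (K10.f184620 IH) (Lpr_ct (K1.f28249 IH) (Lpe (K1.f43944 IH) (Lpe (K1.f43932 IH) (Lpr_gf (f212433 IH) (Lpe (f165266 IH) (Lpn (LP (LK LD1_c1 LD2_c13 LD3_c12))))))))))))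
theorem f212445 : Led Lsl_cf (LP (LK LD1_c5 LD2_c15 LD3_c45)) = (LP (LK LD1_c4 LD2_c13 LD3_c41)) :=
  Lgr Lrot58 (Lpe (f180747 IH) (Lpe (f180746 IH) (Lpr_bt (f180753 IH) (Lpe (f212443 IH) (Lpr_bf (f45856 IH) (Lpr_ct (K1.f43957 IH) (Lpr_gf (f212433 IH) (Lpe (f165266 IH) (Lpe (f212435 IH) (Lpr_bf (K9.f50831 IH) (Lpn (LP (LK LD1_c4 LD2_c13 LD3_c41)))))))))))))
theorem f45006 : Led Lsl_ct (LP (LK LD1_c4 LD2_c13 LD3_c40)) = (LP (LK LD1_c2 LD2_c4 LD3_c10)) :=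
  Lre_c IH (LK LD1_c4 LD2_c13 LD3_c40) (LK LD1_c2 LD2_c4 LD3_c10) Lrfl Lrfl
theorem f212456 : Led Lsl_ft (LP (LK LD1_c5 LD2_c15 LD3_c45)) = (LP (LK LD1_c4 LD2_c13 LD3_c40)) :=
  Lgr Lrot4 (Lpr_cf (f212445 IH) (Lpe (K9.f44984 IH) (Lpe (f45006 IH) (Lpn (LP (LK LD1_c4 LD2_c13 LD3_c40))))))
theorem f49451 : Led Lsl_ct (LP (LK LD1_c2 LD2_c4 LD3_c14)) = (LP (LK LD1_c4 LD2_c13 LD3_c47)) :=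
  Lre_c IH (LK LD1_c2 LD2_c4 LD3_c14) (LK LD1_c4 LD2_c13 LD3_c47) Lrfl Lrfl
theorem f49478 : Led Lsl_af (LP (LK LD1_c4 LD2_c13 LD3_c40)) = (LP (LK LD1_c4 LD2_c13 LD3_c47)) :=
  Lgr Lrot68 (Lpr_ct (f45006 IH) (Lpr_at (K9.f49475 IH) (Lpr_ct (f49451 IH) (Lpn (LP (LK LD1_c4 LD2_c13 LD3_c47))))))
theorem f49517 : Led Lsl_at (LP (LK LD1_c4 LD2_c13 LD3_c40)) = (LP (LK LD1_c4 LD2_c13 LD3_c47)) :=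
  Lgr Lrot100 (Lpr_af (f49478 IH) (Lpn (LP (LK LD1_c4 LD2_c13 LD3_c47))))
theorem f212466 : Led Lsl_gt (LP (LK LD1_c5 LD2_c15 LD3_c45)) = (LP (LK LD1_c2 LD2_c34 LD3_c47)) :=
  Lgr Lrot5 (Lpr_ft (f212456 IH) (Lpr_at (f49517 IH) (Lpr_gf (K10.f49849 IH) (Lpn (LP (LK LD1_c2 LD2_c34 LD3_c47))))))
theorem f197162 : Led Lsl_gf (LP (LK LD1_c4 LD2_c13 LD3_c41)) = (LP (LK LD1_c2 LD2_c31 LD3_c38)) :=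
  Lgr Lrot76 (Lpr_af (K9.f49453 IH) (Lpe (K9.f49474 IH) (Lpr_gt (K10.f197154 IH) (Lpn (LP (LK LD1_c2 LD2_c31 LD3_c38))))))
theorem f46927 : Led Lsl_at (LP (LK LD1_c4 LD2_c2 LD3_c41)) = (LP (LK LD1_c4 LD2_c2 LD3_c31)) :=
  Lgr Lrot51 (Lpe (K1.f46593 IH) (Lpe (K1.f46684 IH) (Lpr_df (K1.f46901 IH) (Lpn (LP (LK LD1_c4 LD2_c2 LD3_c31))))))
theorem f197174 : Led Lsl_gt (LP (LK LD1_c1 LD2_c58 LD3_c21)) = (LP (LK LD1_c2 LD2_c31 LD3_c39)) :=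
  Lgr Lrot5 (Lpr_ft (K1.f46661 IH) (Lpr_at (f46927 IH) (Lpr_gf (K10.f197170 IH) (Lpn (LP (LK LD1_c2 LD2_c31 LD3_c39))))))
theorem f47559 : Led Lsl_bt (LP (LK LD1_c1 LD2_c14 LD3_c24)) = (LP (LK LD1_c2 LD2_c34 LD3_c46)) :=
  Lre_b IH (LK LD1_c1 LD2_c14 LD3_c24) (LK LD1_c2 LD2_c34 LD3_c46) Lrfl Lrfl
theorem f212468 : Led Lsl_gf (LP (LK LD1_c1 LD2_c15 LD3_c39)) = (LP (LK LD1_c2 LD2_c34 LD3_c46)) :=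
  Lgr Lrot124 (Lpe (K10.f45954 IH) (Lpr_ct (K1.f27872 IH) (Lpr_gt (f197174 IH) (Lpe (K10.f33989 IH) (Lpr_bt (K10.f197169 IH) (Lpe (f197162 IH) (Lpe (f212445 IH) (Lpr_gt (f212466 IH) (Lpe (K10.f32868 IH) (Lpr_bt (f47559 IH) (Lpn (LP (LK LD1_c2 LD2_c34 LD3_c46)))))))))))))
theorem f47788 : Led Lsl_dt (LP (LK LD1_c0 LD2_c35 LD3_c4)) = (LP (LK LD1_c0 LD2_c27 LD3_c53)) :=
  Lgr Lrot173 (Lpr_cf (K8.f44548 IH) (Lpe (K8.f44556 IH) (Lpe (K1.f8076 IH) (Lpr_df (K8.f47439 IH) (Lpe (K1.f43344 IH) (Lpr_df (K1.f47741 IH) (Lpe (K1.f8075 IH) (Lpe (K1.f45097 IH) (Lpe (K8.f45768 IH) (Lpr_df (K8.f47502 IH) (Lpe (K1.f44483 IH) (Lpe (K10.f41867 IH) (Lpe (K1.f44576 IH) (Lpr_df (K1.f45781 IH) (Lpr_cf (K0.f28600 IH) (Lpn (LP (LK LD1_c0 LD2_c27 LD3_c53))))))))))))))))))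
theorem f41839 : Led Lsl_et (LP (LK LD1_c0 LD2_c27 LD3_c57)) = (LP (LK LD1_c1 LD2_c1 LD3_c9)) :=
  Lre_e IH (LK LD1_c0 LD2_c27 LD3_c57) (LK LD1_c1 LD2_c1 LD3_c9) Lrfl Lrfl
theorem f47589 : Led Lsl_ft (LP (LK LD1_c5 LD2_c15 LD3_c59)) = (LP (LK LD1_c2 LD2_c34 LD3_c48)) :=
  Lre_f IH (LK LD1_c5 LD2_c15 LD3_c59) (LK LD1_c2 LD2_c34 LD3_c48) Lrfl Lrfl
theorem f47590 : Led Lsl_ft (LP (LK LD1_c4 LD2_c8 LD3_c14)) = (LP (LK LD1_c8 LD2_c16 LD3_c31)) :=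
  Lre_f IH (LK LD1_c4 LD2_c8 LD3_c14) (LK LD1_c8 LD2_c16 LD3_c31) Lrfl Lrfl
theorem f47591 : Led Lsl_df (LP (LK LD1_c5 LD2_c15 LD3_c59)) = (LP (LK LD1_c8 LD2_c16 LD3_c31)) :=
  Lgr Lrot78 (Lpr_ft (f47589 IH) (Lpr_dt (K10.f47570 IH) (Lpr_ft (f47590 IH) (Lpn (LP (LK LD1_c8 LD2_c16 LD3_c31))))))
theorem f47617 : Led Lsl_dt (LP (LK LD1_c5 LD2_c15 LD3_c59)) = (LP (LK LD1_c8 LD2_c16 LD3_c31)) :=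
  Lgr Lrot42 (Lpr_df (f47591 IH) (Lpn (LP (LK LD1_c8 LD2_c16 LD3_c31))))
theorem f47625 : Led Lsl_bt (LP (LK LD1_c10 LD2_c21 LD3_c8)) = (LP (LK LD1_c5 LD2_c15 LD3_c59)) :=
  Lre_b IH (LK LD1_c10 LD2_c21 LD3_c8) (LK LD1_c5 LD2_c15 LD3_c59) Lrfl Lrfl
theorem f47626 : Led Lsl_bt (LP (LK LD1_c8 LD2_c16 LD3_c31)) = (LP (LK LD1_c15 LD2_c33 LD3_c18)) :=
  Lre_b IH (LK LD1_c8 LD2_c16 LD3_c31) (LK LD1_c15 LD2_c33 LD3_c18) Lrfl Lrfl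
theorem f47627 : Led Lsl_df (LP (LK LD1_c10 LD2_c21 LD3_c8)) = (LP (LK LD1_c15 LD2_c33 LD3_c18)) :=
  Lgr Lrot12 (Lpr_bt (f47625 IH) (Lpr_dt (f47617 IH) (Lpr_bt (f47626 IH) (Lpn (LP (LK LD1_c15 LD2_c33 LD3_c18))))))
theorem f47633 : Led Lsl_ft (LP (LK LD1_c10 LD2_c21 LD3_c8)) = (LP (LK LD1_c5 LD2_c15 LD3_c53)) :=
  Lre_f IH (LK LD1_c10 LD2_c21 LD3_c8) (LK LD1_c5 LD2_c15 LD3_c53) Lrfl Lrfl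
theorem f47634 : Led Lsl_ft (LP (LK LD1_c8 LD2_c16 LD3_c23)) = (LP (LK LD1_c15 LD2_c33 LD3_c18)) :=
  Lre_f IH (LK LD1_c8 LD2_c16 LD3_c23) (LK LD1_c15 LD2_c33 LD3_c18) Lrfl Lrfl
theorem f47635 : Led Lsl_dt (LP (LK LD1_c5 LD2_c15 LD3_c53)) = (LP (LK LD1_c8 LD2_c16 LD3_c23)) :=
  Lgr Lrot60 (Lpe (f47633 IH) (Lpr_df (f47627 IH) (Lpe (f47634 IH) (Lpn (LP (LK LD1_c8 LD2_c16 LD3_c23))))))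
theorem f47643 : Led Lsl_et (LP (LK LD1_c2 LD2_c34 LD3_c46)) = (LP (LK LD1_c5 LD2_c15 LD3_c53)) :=
  Lre_e IH (LK LD1_c2 LD2_c34 LD3_c46) (LK LD1_c5 LD2_c15 LD3_c53) Lrfl Lrfl
theorem f47644 : Led Lsl_et (LP (LK LD1_c8 LD2_c16 LD3_c23)) = (LP (LK LD1_c4 LD2_c8 LD3_c8)) :=
  Lre_e IH (LK LD1_c8 LD2_c16 LD3_c23) (LK LD1_c4 LD2_c8 LD3_c8) Lrfl Lrfl
theorem f47645 : Led Lsl_dt (LP (LK LD1_c4 LD2_c8 LD3_c8)) = (LP (LK LD1_c2 LD2_c1 LD3_c26)) :=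
  Lre_d IH (LK LD1_c4 LD2_c8 LD3_c8) (LK LD1_c2 LD2_c1 LD3_c26) Lrfl Lrfl
theorem f47646 : Led Lsl_et (LP (LK LD1_c2 LD2_c1 LD3_c26)) = (LP (LK LD1_c4 LD2_c8 LD3_c9)) :=
  Lre_e IH (LK LD1_c2 LD2_c1 LD3_c26) (LK LD1_c4 LD2_c8 LD3_c9) Lrfl Lrfl
theorem f47647 : Led Lsl_df (LP (LK LD1_c2 LD2_c34 LD3_c46)) = (LP (LK LD1_c4 LD2_c8 LD3_c9)) :=
  Lgr Lrot70 (Lpr_et (f47643 IH) (Lpr_dt (f47635 IH) (Lpr_et (f47644 IH) (Lpr_dt (f47645 IH) (Lpr_et (f47646 IH) (Lpn (LP (LK LD1_c4 LD2_c8 LD3_c9))))))))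
theorem f47659 : Led Lsl_et (LP (LK LD1_c4 LD2_c8 LD3_c9)) = (LP (LK LD1_c2 LD2_c1 LD3_c26)) :=
  Lre_e IH (LK LD1_c4 LD2_c8 LD3_c9) (LK LD1_c2 LD2_c1 LD3_c26) Lrfl Lrfl
theorem f212480 : Led Lsl_gt (LP (LK LD1_c1 LD2_c1 LD3_c9)) = (LP (LK LD1_c2 LD2_c1 LD3_c26)) :=
  Lgr Lrot131 (Lpe (f41839 IH) (Lpe (K1.f41852 IH) (Lpe (K0.f29035 IH) (Lpe (f47788 IH) (Lpe (K1.f7707 IH) (Lpe (K1.f43921 IH) (Lpr_dt (K10.f43960 IH) (Lpr_gf (f212468 IH) (Lpr_df (f47647 IH) (Lpr_et (f47659 IH) (Lpn (LP (LK LD1_c2 LD2_c1 LD3_c26)))))))))))))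
theorem f47814 : Led Lsl_et (LP (LK LD1_c0 LD2_c35 LD3_c4)) = (LP (LK LD1_c1 LD2_c15 LD3_c37)) :=
  Lre_e IH (LK LD1_c0 LD2_c35 LD3_c4) (LK LD1_c1 LD2_c15 LD3_c37) Lrfl Lrfl
theorem f47677 : Led Lsl_dt (LP (LK LD1_c2 LD2_c1 LD3_c26)) = (LP (LK LD1_c4 LD2_c8 LD3_c8)) :=
  Lre_d IH (LK LD1_c2 LD2_c1 LD3_c26) (LK LD1_c4 LD2_c8 LD3_c8) Lrfl Lrfl
theorem f199005 : Led Lsl_dt (LP (LK LD1_c0 LD2_c56 LD3_c10)) = (LP (LK LD1_c1 LD2_c58 LD3_c38)) :=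
  Lre_d IH (LK LD1_c0 LD2_c56 LD3_c10) (LK LD1_c1 LD2_c58 LD3_c38) Lrfl Lrfl
theorem f7851 : Led Lsl_et (LP (LK LD1_c1 LD2_c0 LD3_c1)) = (LP (LK LD1_c0 LD2_c27 LD3_c16)) :=
  Lre_e IH (LK LD1_c1 LD2_c0 LD3_c1) (LK LD1_c0 LD2_c27 LD3_c16) Lrfl Lrfl
theorem f7725 : Led Lsl_et (LP (LK LD1_c0 LD2_c12 LD3_c5)) = (LP (LK LD1_c0 LD2_c27 LD3_c18)) :=
  Lre_e IH (LK LD1_c0 LD2_c12 LD3_c5) (LK LD1_c0 LD2_c27 LD3_c18) Lrfl Lrfl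
theorem f7726 : Led Lsl_et (LP (LK LD1_c1 LD2_c0 LD3_c3)) = (LP (LK LD1_c0 LD2_c27 LD3_c17)) :=
  Lre_e IH (LK LD1_c1 LD2_c0 LD3_c3) (LK LD1_c0 LD2_c27 LD3_c17) Lrfl Lrfl
theorem f7727 : Led Lsl_et (LP (LK LD1_c0 LD2_c35 LD3_c36)) = (LP (LK LD1_c1 LD2_c16 LD3_c60)) :=
  Lre_e IH (LK LD1_c0 LD2_c35 LD3_c36) (LK LD1_c1 LD2_c16 LD3_c60) Lrfl Lrfl
theorem f7728 : Led Lsl_df (LP (LK LD1_c1 LD2_c0 LD3_c3)) = (LP (LK LD1_c1 LD2_c16 LD3_c60)) :=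
  Lgr Lrot70 (Lpr_et (f7726 IH) (Lpr_dt (K9.f1387 IH) (Lpr_et (f7725 IH) (Lpr_dt (K0.f7715 IH) (Lpr_et (f7727 IH) (Lpn (LP (LK LD1_c1 LD2_c16 LD3_c60))))))))
theorem f7749 : Led Lsl_ft (LP (LK LD1_c1 LD2_c0 LD3_c3)) = (LP (LK LD1_c2 LD2_c6 LD3_c9)) :=
  Lre_f IH (LK LD1_c1 LD2_c0 LD3_c3) (LK LD1_c2 LD2_c6 LD3_c9) Lrfl Lrfl
theorem f7750 : Led Lsl_ft (LP (LK LD1_c2 LD2_c40 LD3_c37)) = (LP (LK LD1_c1 LD2_c16 LD3_c60)) :=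
  Lre_f IH (LK LD1_c2 LD2_c40 LD3_c37) (LK LD1_c1 LD2_c16 LD3_c60) Lrfl Lrfl
theorem f7751 : Led Lsl_dt (LP (LK LD1_c2 LD2_c6 LD3_c9)) = (LP (LK LD1_c2 LD2_c40 LD3_c37)) :=
  Lgr Lrot60 (Lpe (f7749 IH) (Lpr_df (f7728 IH) (Lpe (f7750 IH) (Lpn (LP (LK LD1_c2 LD2_c40 LD3_c37))))))
theorem f7775 : Led Lsl_df (LP (LK LD1_c2 LD2_c6 LD3_c9)) = (LP (LK LD1_c2 LD2_c40 LD3_c37)) :=
  Lgr Lrot38 (Lpr_dt (f7751 IH) (Lpn (LP (LK LD1_c2 LD2_c40 LD3_c37))))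
theorem f7782 : Led Lsl_bt (LP (LK LD1_c2 LD2_c6 LD3_c9)) = (LP (LK LD1_c4 LD2_c17 LD3_c28)) :=
  Lre_b IH (LK LD1_c2 LD2_c6 LD3_c9) (LK LD1_c4 LD2_c17 LD3_c28) Lrfl Lrfl
theorem f7783 : Led Lsl_bt (LP (LK LD1_c5 LD2_c28 LD3_c25)) = (LP (LK LD1_c2 LD2_c40 LD3_c37)) :=
  Lre_b IH (LK LD1_c5 LD2_c28 LD3_c25) (LK LD1_c2 LD2_c40 LD3_c37) Lrfl Lrfl
theorem f7784 : Led Lsl_dt (LP (LK LD1_c4 LD2_c17 LD3_c28)) = (LP (LK LD1_c5 LD2_c28 LD3_c25)) :=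
  Lgr Lrot79 (Lpe (f7782 IH) (Lpr_df (f7775 IH) (Lpe (f7783 IH) (Lpn (LP (LK LD1_c5 LD2_c28 LD3_c25))))))
theorem f7792 : Led Lsl_ft (LP (LK LD1_c2 LD2_c6 LD3_c2)) = (LP (LK LD1_c4 LD2_c17 LD3_c28)) :=
  Lre_f IH (LK LD1_c2 LD2_c6 LD3_c2) (LK LD1_c4 LD2_c17 LD3_c28) Lrfl Lrfl
theorem f7793 : Led Lsl_ft (LP (LK LD1_c5 LD2_c28 LD3_c25)) = (LP (LK LD1_c2 LD2_c40 LD3_c31)) :=
  Lre_f IH (LK LD1_c5 LD2_c28 LD3_c25) (LK LD1_c2 LD2_c40 LD3_c31) Lrfl Lrfl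
theorem f7794 : Led Lsl_df (LP (LK LD1_c2 LD2_c6 LD3_c2)) = (LP (LK LD1_c2 LD2_c40 LD3_c31)) :=
  Lgr Lrot78 (Lpr_ft (f7792 IH) (Lpr_dt (f7784 IH) (Lpr_ft (f7793 IH) (Lpn (LP (LK LD1_c2 LD2_c40 LD3_c31))))))
theorem f7814 : Led Lsl_et (LP (LK LD1_c2 LD2_c6 LD3_c2)) = (LP (LK LD1_c1 LD2_c0 LD3_c0)) :=
  Lre_e IH (LK LD1_c2 LD2_c6 LD3_c2) (LK LD1_c1 LD2_c0 LD3_c0) Lrfl Lrfl
theorem f7815 : Led Lsl_dt (LP (LK LD1_c1 LD2_c0 LD3_c0)) = (LP (LK LD1_c0 LD2_c27 LD3_c16)) :=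
  Lre_d IH (LK LD1_c1 LD2_c0 LD3_c0) (LK LD1_c0 LD2_c27 LD3_c16) Lrfl Lrfl
theorem f7817 : Led Lsl_et (LP (LK LD1_c1 LD2_c16 LD3_c58)) = (LP (LK LD1_c2 LD2_c40 LD3_c31)) :=
  Lre_e IH (LK LD1_c1 LD2_c16 LD3_c58) (LK LD1_c2 LD2_c40 LD3_c31) Lrfl Lrfl
theorem f7818 : Led Lsl_dt (LP (LK LD1_c1 LD2_c0 LD3_c1)) = (LP (LK LD1_c1 LD2_c16 LD3_c58)) :=
  Lgr Lrot77 (Lpe (K11.f7816 IH) (Lpe (f7815 IH) (Lpe (f7814 IH) (Lpr_df (f7794 IH) (Lpe (f7817 IH) (Lpn (LP (LK LD1_c1 LD2_c16 LD3_c58))))))))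
theorem f199588 : Led Lsl_gt (LP (LK LD1_c1 LD2_c58 LD3_c38)) = (LP (LK LD1_c1 LD2_c16 LD3_c58)) :=
  Lgr Lrot139 (Lpe (f199005 IH) (Lpr_gf (K11.f199120 IH) (Lpe (K1.f41768 IH) (Lpr_dt (K1.f41747 IH) (Lpe (K8.f47943 IH) (Lpe (K1.f29031 IH) (Lpr_et (K1.f41879 IH) (Lpr_gf (K11.f199580 IH) (Lpe (f7851 IH) (Lpr_dt (f7818 IH) (Lpn (LP (LK LD1_c1 LD2_c16 LD3_c58)))))))))))))
theorem f7718 : Led Lsl_bt (LP (LK LD1_c0 LD2_c35 LD3_c36)) = (LP (LK LD1_c1 LD2_c16 LD3_c58)) :=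
  Lre_b IH (LK LD1_c0 LD2_c35 LD3_c36) (LK LD1_c1 LD2_c16 LD3_c58) Lrfl Lrfl
theorem f7719 : Led Lsl_df (LP (LK LD1_c1 LD2_c0 LD3_c1)) = (LP (LK LD1_c1 LD2_c16 LD3_c58)) :=
  Lgr Lrot12 (Lpr_bt (K11.f7717 IH) (Lpr_dt (K0.f7715 IH) (Lpr_bt (f7718 IH) (Lpn (LP (LK LD1_c1 LD2_c16 LD3_c58))))))
theorem f201236 : Led Lsl_dt (LP (LK LD1_c4 LD2_c3 LD3_c44)) = (LP (LK LD1_c1 LD2_c58 LD3_c50)) :=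
  Lre_d IH (LK LD1_c4 LD2_c3 LD3_c44) (LK LD1_c1 LD2_c58 LD3_c50) Lrfl Lrfl
theorem f212482 : Led Lsl_gf (LP (LK LD1_c4 LD2_c3 LD3_c44)) = (LP (LK LD1_c4 LD2_c8 LD3_c8)) :=
  Lgr Lrot143 (Lpr_dt (f201236 IH) (Lpe (K11.f201107 IH) (Lpr_df (f7719 IH) (Lpe (f199588 IH) (Lpe (f199005 IH) (Lpr_gf (K11.f199120 IH) (Lpe (K11.f41258 IH) (Lpr_gt (f212480 IH) (Lpr_dt (f47677 IH) (Lpn (LP (LK LD1_c4 LD2_c8 LD3_c8))))))))))))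
theorem f201230 : Led Lsl_dt (LP (LK LD1_c1 LD2_c58 LD3_c50)) = (LP (LK LD1_c4 LD2_c3 LD3_c44)) :=
  Lre_d IH (LK LD1_c1 LD2_c58 LD3_c50) (LK LD1_c4 LD2_c3 LD3_c44) Lrfl Lrfl
theorem f212487 : Led Lsl_gf (LP (LK LD1_c1 LD2_c15 LD3_c37)) = (LP (LK LD1_c0 LD2_c56 LD3_c13)) :=
  Lgr Lrot141 (Lpe (f47814 IH) (Lpr_dt (f47788 IH) (Lpr_gt (K0.f29035 IH) (Lpr_df (K1.f41852 IH) (Lpr_et (f41839 IH) (Lpr_gt (f212480 IH) (Lpr_dt (f47677 IH) (Lpe (f212482 IH) (Lpe (f201230 IH) (Lpr_et (K11.f201106 IH) (Lpn (LP (LK LD1_c0 LD2_c56 LD3_c13)))))))))))))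
theorem f201101 : Led Lsl_ct (LP (LK LD1_c0 LD2_c27 LD3_c16)) = (LP (LK LD1_c0 LD2_c56 LD3_c13)) :=
  Lgr Lrot59 (Lpr_cf (K11.f201093 IH) (Lpn (LP (LK LD1_c0 LD2_c56 LD3_c13))))
theorem f7907 : Led Lsl_bt (LP (LK LD1_c0 LD2_c27 LD3_c16)) = (LP (LK LD1_c0 LD2_c12 LD3_c5)) :=
  Lre_b IH (LK LD1_c0 LD2_c27 LD3_c16) (LK LD1_c0 LD2_c12 LD3_c5) Lrfl Lrfl
theorem f28121 : Led Lsl_ct (LP (LK LD1_c0 LD2_c26 LD3_c21)) = (LP (LK LD1_c0 LD2_c56 LD3_c5)) :=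
  Lre_c IH (LK LD1_c0 LD2_c26 LD3_c21) (LK LD1_c0 LD2_c56 LD3_c5) Lrfl Lrfl
theorem f173187 : Led Lsl_bt (LP (LK LD1_c0 LD2_c12 LD3_c38)) = (LP (LK LD1_c0 LD2_c28 LD3_c35)) :=
  Lre_b IH (LK LD1_c0 LD2_c12 LD3_c38) (LK LD1_c0 LD2_c28 LD3_c35) Lrfl Lrfl
theorem f27962 : Led Lsl_bt (LP (LK LD1_c0 LD2_c25 LD3_c32)) = (LP (LK LD1_c0 LD2_c56 LD3_c5)) :=
  Lre_b IH (LK LD1_c0 LD2_c25 LD3_c32) (LK LD1_c0 LD2_c56 LD3_c5) Lrfl Lrfl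
theorem f182189 : Led Lsl_gt (LP (LK LD1_c0 LD2_c28 LD3_c35)) = (LP (LK LD1_c0 LD2_c56 LD3_c5)) :=
  Lgr Lrot164 (Lpe (f173187 IH) (Lpe (K9.f173165 IH) (Lpe (K9.f27243 IH) (Lpe (K1.f28388 IH) (Lpe (K9.f171200 IH) (Lpe (K9.f171759 IH) (Lpr_ct (K9.f182174 IH) (Lpe (K9.f27955 IH) (Lpe (K1.f27949 IH) (Lpr_bt (f27962 IH) (Lpn (LP (LK LD1_c0 LD2_c56 LD3_c5)))))))))))))
theorem f173177 : Led Lsl_bt (LP (LK LD1_c0 LD2_c28 LD3_c35)) = (LP (LK LD1_c0 LD2_c12 LD3_c38)) :=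
  Lre_b IH (LK LD1_c0 LD2_c28 LD3_c35) (LK LD1_c0 LD2_c12 LD3_c38) Lrfl Lrfl
theorem f167781 : Led Lsl_ct (LP (LK LD1_c0 LD2_c12 LD3_c24)) = (LP (LK LD1_c0 LD2_c28 LD3_c3)) :=
  Lre_c IH (LK LD1_c0 LD2_c12 LD3_c24) (LK LD1_c0 LD2_c28 LD3_c3) Lrfl Lrfl
theorem f173214 : Led Lsl_bt (LP (LK LD1_c0 LD2_c28 LD3_c3)) = (LP (LK LD1_c1 LD2_c1 LD3_c26)) :=
  Lre_b IH (LK LD1_c0 LD2_c28 LD3_c3) (LK LD1_c1 LD2_c1 LD3_c26) Lrfl Lrfl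
theorem f173215 : Led Lsl_cf (LP (LK LD1_c0 LD2_c28 LD3_c35)) = (LP (LK LD1_c1 LD2_c1 LD3_c26)) :=
  Lgr Lrot97 (Lpr_bt (f173177 IH) (Lpe (K9.f173165 IH) (Lpr_bt (K9.f173210 IH) (Lpr_ct (f167781 IH) (Lpr_bt (f173214 IH) (Lpn (LP (LK LD1_c1 LD2_c1 LD3_c26))))))))
theorem f212495 : Led Lsl_gt (LP (LK LD1_c1 LD2_c14 LD3_c43)) = (LP (LK LD1_c1 LD2_c1 LD3_c26)) :=
  Lgr Lrot82 (Lpe (K10.f48162 IH) (Lpe (K8.f44552 IH) (Lpr_gf (f212487 IH) (Lpe (f201101 IH) (Lpr_bt (f7907 IH) (Lpr_gf (K9.f170279 IH) (Lpe (K9.f27312 IH) (Lpr_ct (f28121 IH) (Lpe (f182189 IH) (Lpr_cf (f173215 IH) (Lpn (LP (LK LD1_c1 LD2_c1 LD3_c26)))))))))))))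
theorem f173201 : Led Lsl_ft (LP (LK LD1_c0 LD2_c24 LD3_c47)) = (LP (LK LD1_c0 LD2_c54 LD3_c51)) :=
  Lre_f IH (LK LD1_c0 LD2_c24 LD3_c47) (LK LD1_c0 LD2_c54 LD3_c51) Lrfl Lrfl
theorem f173228 : Led Lsl_ft (LP (LK LD1_c1 LD2_c1 LD3_c33)) = (LP (LK LD1_c0 LD2_c28 LD3_c5)) :=
  Lre_f IH (LK LD1_c1 LD2_c1 LD3_c33) (LK LD1_c0 LD2_c28 LD3_c5) Lrfl Lrfl
theorem f173229 : Led Lsl_bt (LP (LK LD1_c0 LD2_c54 LD3_c51)) = (LP (LK LD1_c1 LD2_c1 LD3_c33)) :=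
  Lgr Lrot35 (Lpe (f173201 IH) (Lpr_bf (K10.f173220 IH) (Lpe (f173228 IH) (Lpn (LP (LK LD1_c1 LD2_c1 LD3_c33))))))
theorem f173191 : Led Lsl_ft (LP (LK LD1_c0 LD2_c54 LD3_c51)) = (LP (LK LD1_c0 LD2_c24 LD3_c47)) :=
  Lre_f IH (LK LD1_c0 LD2_c54 LD3_c51) (LK LD1_c0 LD2_c24 LD3_c47) Lrfl Lrfl
theorem f173192 : Led Lsl_ft (LP (LK LD1_c0 LD2_c28 LD3_c37)) = (LP (LK LD1_c1 LD2_c2 LD3_c48)) :=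
  Lre_f IH (LK LD1_c0 LD2_c28 LD3_c37) (LK LD1_c1 LD2_c2 LD3_c48) Lrfl Lrfl
theorem f173193 : Led Lsl_cf (LP (LK LD1_c0 LD2_c54 LD3_c51)) = (LP (LK LD1_c1 LD2_c2 LD3_c48)) :=
  Lgr Lrot108 (Lpr_ft (f173191 IH) (Lpr_ct (K11.f173182 IH) (Lpr_ft (f173192 IH) (Lpn (LP (LK LD1_c1 LD2_c2 LD3_c48))))))
theorem f173197 : Led Lsl_bt (LP (LK LD1_c2 LD2_c11 LD3_c30)) = (LP (LK LD1_c1 LD2_c2 LD3_c48)) :=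
  Lre_b IH (LK LD1_c2 LD2_c11 LD3_c30) (LK LD1_c1 LD2_c2 LD3_c48) Lrfl Lrfl
theorem f173234 : Led Lsl_ct (LP (LK LD1_c1 LD2_c1 LD3_c33)) = (LP (LK LD1_c2 LD2_c8 LD3_c39)) :=
  Lre_c IH (LK LD1_c1 LD2_c1 LD3_c33) (LK LD1_c2 LD2_c8 LD3_c39) Lrfl Lrfl
theorem f173235 : Led Lsl_bt (LP (LK LD1_c2 LD2_c8 LD3_c39)) = (LP (LK LD1_c4 LD2_c22 LD3_c21)) :=
  Lre_b IH (LK LD1_c2 LD2_c8 LD3_c39) (LK LD1_c4 LD2_c22 LD3_c21) Lrfl Lrfl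
theorem f173236 : Led Lsl_cf (LP (LK LD1_c2 LD2_c11 LD3_c30)) = (LP (LK LD1_c4 LD2_c22 LD3_c21)) :=
  Lgr Lrot97 (Lpr_bt (f173197 IH) (Lpe (f173193 IH) (Lpr_bt (f173229 IH) (Lpr_ct (f173234 IH) (Lpr_bt (f173235 IH) (Lpn (LP (LK LD1_c4 LD2_c22 LD3_c21))))))))
theorem f173238 : Led Lsl_ct (LP (LK LD1_c2 LD2_c11 LD3_c30)) = (LP (LK LD1_c4 LD2_c22 LD3_c21)) :=
  Lgr Lrot59 (Lpr_cf (f173236 IH) (Lpn (LP (LK LD1_c4 LD2_c22 LD3_c21))))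
theorem f173244 : Led Lsl_ft (LP (LK LD1_c1 LD2_c2 LD3_c43)) = (LP (LK LD1_c2 LD2_c11 LD3_c30)) :=
  Lre_f IH (LK LD1_c1 LD2_c2 LD3_c43) (LK LD1_c2 LD2_c11 LD3_c30) Lrfl Lrfl
theorem f173245 : Led Lsl_ft (LP (LK LD1_c4 LD2_c22 LD3_c21)) = (LP (LK LD1_c2 LD2_c8 LD3_c36)) :=
  Lre_f IH (LK LD1_c4 LD2_c22 LD3_c21) (LK LD1_c2 LD2_c8 LD3_c36) Lrfl Lrfl
theorem f173246 : Led Lsl_cf (LP (LK LD1_c1 LD2_c2 LD3_c43)) = (LP (LK LD1_c2 LD2_c8 LD3_c36)) :=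
  Lgr Lrot108 (Lpr_ft (f173244 IH) (Lpr_ct (f173238 IH) (Lpr_ft (f173245 IH) (Lpn (LP (LK LD1_c2 LD2_c8 LD3_c36))))))
theorem f173249 : Led Lsl_et (LP (LK LD1_c1 LD2_c2 LD3_c43)) = (LP (LK LD1_c0 LD2_c28 LD3_c35)) :=
  Lre_e IH (LK LD1_c1 LD2_c2 LD3_c43) (LK LD1_c0 LD2_c28 LD3_c35) Lrfl Lrfl
theorem f173250 : Led Lsl_et (LP (LK LD1_c1 LD2_c1 LD3_c26)) = (LP (LK LD1_c2 LD2_c8 LD3_c36)) :=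
  Lre_e IH (LK LD1_c1 LD2_c1 LD3_c26) (LK LD1_c2 LD2_c8 LD3_c36) Lrfl Lrfl
theorem f173251 : Led Lsl_ct (LP (LK LD1_c0 LD2_c28 LD3_c35)) = (LP (LK LD1_c1 LD2_c1 LD3_c26)) :=
  Lgr Lrot15 (Lpe (f173249 IH) (Lpr_cf (f173246 IH) (Lpe (f173250 IH) (Lpn (LP (LK LD1_c1 LD2_c1 LD3_c26))))))
theorem f172032 : Led Lsl_bt (LP (LK LD1_c0 LD2_c12 LD3_c46)) = (LP (LK LD1_c0 LD2_c28 LD3_c55)) :=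
  Lre_b IH (LK LD1_c0 LD2_c12 LD3_c46) (LK LD1_c0 LD2_c28 LD3_c55) Lrfl Lrfl
theorem f212506 : Led Lsl_gf (LP (LK LD1_c0 LD2_c33 LD3_c0)) = (LP (LK LD1_c0 LD2_c28 LD3_c55)) :=
  Lgr Lrot124 (Lpe (K9.f53627 IH) (Lpr_ct (K8.f48159 IH) (Lpr_gt (f212495 IH) (Lpe (f173251 IH) (Lpr_bt (f173177 IH) (Lpr_gt (K9.f40803 IH) (Lpr_ct (K9.f40798 IH) (Lpr_gt (K0.f20232 IH) (Lpe (K9.f172031 IH) (Lpr_bt (f172032 IH) (Lpn (LP (LK LD1_c0 LD2_c28 LD3_c55)))))))))))))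
theorem f177915 : Led Lsl_gt (LP (LK LD1_c1 LD2_c3 LD3_c20)) = (LP (LK LD1_c0 LD2_c28 LD3_c55)) :=
  Lre_g IH (LK LD1_c1 LD2_c3 LD3_c20) (LK LD1_c0 LD2_c28 LD3_c55) Lrfl Lrfl
theorem f212538 : Led Lsl_ff (LP (LK LD1_c0 LD2_c33 LD3_c2)) = (LP (LK LD1_c1 LD2_c3 LD3_c20)) :=
  Lgr Lrot52 (Lpe (K10.f53653 IH) (Lpr_gf (f212506 IH) (Lpe (f177915 IH) (Lpn (LP (LK LD1_c1 LD2_c3 LD3_c20))))))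
theorem f212632 : Led Lsl_ft (LP (LK LD1_c0 LD2_c33 LD3_c2)) = (LP (LK LD1_c1 LD2_c3 LD3_c20)) :=
  Lgr Lrot48 (Lpr_ff (f212538 IH) (Lpn (LP (LK LD1_c1 LD2_c3 LD3_c20))))
theorem f178177 : Led Lsl_gt (LP (LK LD1_c0 LD2_c16 LD3_c4)) = (LP (LK LD1_c0 LD2_c36 LD3_c2)) :=
  Lre_g IH (LK LD1_c0 LD2_c16 LD3_c4) (LK LD1_c0 LD2_c36 LD3_c2) Lrfl Lrfl
theorem f212749 : Led Lsl_af (LP (LK LD1_c0 LD2_c36 LD3_c2)) = (LP (LK LD1_c1 LD2_c3 LD3_c20)) :=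
  Lgr Lrot31 (Lpe (f178177 IH) (Lpr_gf (K10.f189097 IH) (Lpr_ft (f212632 IH) (Lpn (LP (LK LD1_c1 LD2_c3 LD3_c20))))))
theorem f212758 : Led Lsl_ft (LP (LK LD1_c0 LD2_c36 LD3_c2)) = (LP (LK LD1_c0 LD2_c33 LD3_c0)) :=
  Lgr Lrot101 (Lpr_af (f212749 IH) (Lpe (f212632 IH) (Lpe (K9.f53648 IH) (Lpn (LP (LK LD1_c0 LD2_c33 LD3_c0))))))
theorem f166458 : Led Lsl_et (LP (LK LD1_c0 LD2_c11 LD3_c47)) = (LP (LK LD1_c0 LD2_c26 LD3_c34)) :=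
  Lre_e IH (LK LD1_c0 LD2_c11 LD3_c47) (LK LD1_c0 LD2_c26 LD3_c34) Lrfl Lrfl
theorem f199142 : Led Lsl_cf (LP (LK LD1_c0 LD2_c56 LD3_c12)) = (LP (LK LD1_c0 LD2_c26 LD3_c34)) :=
  Lgr Lrot39 (Lpr_et (K11.f28138 IH) (Lpr_ct (K11.f199132 IH) (Lpr_et (f166458 IH) (Lpn (LP (LK LD1_c0 LD2_c26 LD3_c34))))))
theorem f199151 : Led Lsl_ft (LP (LK LD1_c0 LD2_c56 LD3_c12)) = (LP (LK LD1_c1 LD2_c58 LD3_c46)) :=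
  Lre_f IH (LK LD1_c0 LD2_c56 LD3_c12) (LK LD1_c1 LD2_c58 LD3_c46) Lrfl Lrfl
theorem f199152 : Led Lsl_ft (LP (LK LD1_c0 LD2_c58 LD3_c37)) = (LP (LK LD1_c0 LD2_c26 LD3_c34)) :=
  Lre_f IH (LK LD1_c0 LD2_c58 LD3_c37) (LK LD1_c0 LD2_c26 LD3_c34) Lrfl Lrfl
theorem f199153 : Led Lsl_ct (LP (LK LD1_c1 LD2_c58 LD3_c46)) = (LP (LK LD1_c0 LD2_c58 LD3_c37)) :=
  Lgr Lrot40 (Lpe (f199151 IH) (Lpr_cf (f199142 IH) (Lpe (f199152 IH) (Lpn (LP (LK LD1_c0 LD2_c58 LD3_c37))))))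
theorem f199161 : Led Lsl_cf (LP (LK LD1_c1 LD2_c58 LD3_c46)) = (LP (LK LD1_c0 LD2_c58 LD3_c37)) :=
  Lgr Lrot11 (Lpr_ct (f199153 IH) (Lpn (LP (LK LD1_c0 LD2_c58 LD3_c37))))
theorem f199163 : Led Lsl_bt (LP (LK LD1_c1 LD2_c58 LD3_c46)) = (LP (LK LD1_c4 LD2_c3 LD3_c23)) :=
  Lre_b IH (LK LD1_c1 LD2_c58 LD3_c46) (LK LD1_c4 LD2_c3 LD3_c23) Lrfl Lrfl
theorem f199164 : Led Lsl_bt (LP (LK LD1_c0 LD2_c26 LD3_c43)) = (LP (LK LD1_c0 LD2_c58 LD3_c37)) :=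
  Lre_b IH (LK LD1_c0 LD2_c26 LD3_c43) (LK LD1_c0 LD2_c58 LD3_c37) Lrfl Lrfl
theorem f199165 : Led Lsl_ct (LP (LK LD1_c0 LD2_c58 LD3_c47)) = (LP (LK LD1_c0 LD2_c26 LD3_c43)) :=
  Lre_c IH (LK LD1_c0 LD2_c58 LD3_c47) (LK LD1_c0 LD2_c26 LD3_c43) Lrfl Lrfl
theorem f199166 : Led Lsl_bt (LP (LK LD1_c2 LD2_c3 LD3_c29)) = (LP (LK LD1_c0 LD2_c58 LD3_c47)) :=
  Lre_b IH (LK LD1_c2 LD2_c3 LD3_c29) (LK LD1_c0 LD2_c58 LD3_c47) Lrfl Lrfl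
theorem f199167 : Led Lsl_ct (LP (LK LD1_c4 LD2_c3 LD3_c23)) = (LP (LK LD1_c2 LD2_c3 LD3_c29)) :=
  Lgr Lrot83 (Lpe (f199163 IH) (Lpr_cf (f199161 IH) (Lpe (f199164 IH) (Lpe (f199165 IH) (Lpe (f199166 IH) (Lpn (LP (LK LD1_c2 LD2_c3 LD3_c29))))))))
theorem f199017 : Led Lsl_ft (LP (LK LD1_c1 LD2_c58 LD3_c39)) = (LP (LK LD1_c4 LD2_c3 LD3_c23)) :=
  Lre_f IH (LK LD1_c1 LD2_c58 LD3_c39) (LK LD1_c4 LD2_c3 LD3_c23) Lrfl Lrfl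
theorem f166886 : Led Lsl_ft (LP (LK LD1_c2 LD2_c3 LD3_c29)) = (LP (LK LD1_c0 LD2_c58 LD3_c41)) :=
  Lre_f IH (LK LD1_c2 LD2_c3 LD3_c29) (LK LD1_c0 LD2_c58 LD3_c41) Lrfl Lrfl
theorem f199171 : Led Lsl_cf (LP (LK LD1_c1 LD2_c58 LD3_c39)) = (LP (LK LD1_c0 LD2_c58 LD3_c41)) :=
  Lgr Lrot108 (Lpr_ft (f199017 IH) (Lpr_ct (f199167 IH) (Lpr_ft (f166886 IH) (Lpn (LP (LK LD1_c0 LD2_c58 LD3_c41))))))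
theorem f199174 : Led Lsl_ct (LP (LK LD1_c0 LD2_c56 LD3_c10)) = (LP (LK LD1_c0 LD2_c26 LD3_c35)) :=
  Lgr Lrot15 (Lpe (K11.f199006 IH) (Lpr_cf (f199171 IH) (Lpe (K10.f166853 IH) (Lpn (LP (LK LD1_c0 LD2_c26 LD3_c35))))))
theorem f53057 : Led Lsl_bt (LP (LK LD1_c0 LD2_c56 LD3_c10)) = (LP (LK LD1_c0 LD2_c25 LD3_c29)) :=
  Lre_b IH (LK LD1_c0 LD2_c56 LD3_c10) (LK LD1_c0 LD2_c25 LD3_c29) Lrfl Lrfl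
theorem f192816 : Led Lsl_bt (LP (LK LD1_c0 LD2_c25 LD3_c36)) = (LP (LK LD1_c0 LD2_c56 LD3_c28)) :=
  Lre_b IH (LK LD1_c0 LD2_c25 LD3_c36) (LK LD1_c0 LD2_c56 LD3_c28) Lrfl Lrfl
theorem f53632 : Led Lsl_bt (LP (LK LD1_c1 LD2_c11 LD3_c14)) = (LP (LK LD1_c0 LD2_c33 LD3_c2)) :=
  Lre_b IH (LK LD1_c1 LD2_c11 LD3_c14) (LK LD1_c0 LD2_c33 LD3_c2) Lrfl Lrfl
theorem f199181 : Led Lsl_gt (LP (LK LD1_c0 LD2_c56 LD3_c28)) = (LP (LK LD1_c0 LD2_c33 LD3_c2)) :=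
  Lgr Lrot164 (Lpe (f192816 IH) (Lpr_ct (K11.f53081 IH) (Lpe (K11.f28160 IH) (Lpe (K11.f28130 IH) (Lpe (K11.f28137 IH) (Lpe (f53057 IH) (Lpr_ct (f199174 IH) (Lpr_gf (K10.f189095 IH) (Lpe (K10.f53956 IH) (Lpr_bt (f53632 IH) (Lpn (LP (LK LD1_c0 LD2_c33 LD3_c2)))))))))))))
theorem f212770 : Led Lsl_gt (LP (LK LD1_c0 LD2_c36 LD3_c2)) = (LP (LK LD1_c0 LD2_c56 LD3_c28)) :=
  Lgr Lrot5 (Lpr_ft (f212758 IH) (Lpr_at (K9.f53648 IH) (Lpe (f199181 IH) (Lpn (LP (LK LD1_c0 LD2_c56 LD3_c28))))))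
theorem f178178 : Led Lsl_ct (LP (LK LD1_c1 LD2_c18 LD3_c10)) = (LP (LK LD1_c0 LD2_c36 LD3_c2)) :=
  Lre_c IH (LK LD1_c1 LD2_c18 LD3_c10) (LK LD1_c0 LD2_c36 LD3_c2) Lrfl Lrfl
theorem f192817 : Led Lsl_bt (LP (LK LD1_c0 LD2_c56 LD3_c28)) = (LP (LK LD1_c0 LD2_c25 LD3_c36)) :=
  Lre_b IH (LK LD1_c0 LD2_c56 LD3_c28) (LK LD1_c0 LD2_c25 LD3_c36) Lrfl Lrfl
theorem f192818 : Led Lsl_ct (LP (LK LD1_c0 LD2_c56 LD3_c28)) = (LP (LK LD1_c0 LD2_c56 LD3_c28)) :=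
  Lgr Lrot83 (Lpe (f192816 IH) (Lpe (K10.f53083 IH) (Lpr_bf (K10.f192801 IH) (Lpe (K11.f53081 IH) (Lpe (f192817 IH) (Lpn (LP (LK LD1_c0 LD2_c56 LD3_c28))))))))
theorem f2880 : Led Lsl_ct (LP (LK LD1_c0 LD2_c31 LD3_c35)) = (LP (LK LD1_c0 LD2_c14 LD3_c0)) :=
  Lre_c IH (LK LD1_c0 LD2_c31 LD3_c35) (LK LD1_c0 LD2_c14 LD3_c0) Lrfl Lrfl
theorem f53443 : Led Lsl_bt (LP (LK LD1_c0 LD2_c26 LD3_c22)) = (LP (LK LD1_c0 LD2_c11 LD3_c43)) :=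
  Lre_b IH (LK LD1_c0 LD2_c26 LD3_c22) (LK LD1_c0 LD2_c11 LD3_c43) Lrfl Lrfl
theorem f170606 : Led Lsl_bf (LP (LK LD1_c0 LD2_c58 LD3_c3)) = (LP (LK LD1_c0 LD2_c31 LD3_c35)) :=
  Lgr Lrot90 (Lpr_ct (K9.f53444 IH) (Lpr_bt (f53443 IH) (Lpr_ct (K9.f170594 IH) (Lpr_bt (K10.f170605 IH) (Lpr_ct (K9.f1710 IH) (Lpn (LP (LK LD1_c0 LD2_c31 LD3_c35))))))))
theorem f170855 : Led Lsl_gt (LP (LK LD1_c0 LD2_c58 LD3_c3)) = (LP (LK LD1_c2 LD2_c2 LD3_c15)) :=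
  Lre_g IH (LK LD1_c0 LD2_c58 LD3_c3) (LK LD1_c2 LD2_c2 LD3_c15) Lrfl Lrfl
theorem f212781 : Led Lsl_bt (LP (LK LD1_c1 LD2_c18 LD3_c10)) = (LP (LK LD1_c2 LD2_c2 LD3_c15)) :=
  Lgr Lrot92 (Lpr_ct (f178178 IH) (Lpr_gt (f212770 IH) (Lpe (f192818 IH) (Lpr_bt (f192817 IH) (Lpr_gt (K10.f193287 IH) (Lpr_ct (K10.f52679 IH) (Lpe (K10.f193362 IH) (Lpe (f2880 IH) (Lpe (f170606 IH) (Lpr_gt (f170855 IH) (Lpn (LP (LK LD1_c2 LD2_c2 LD3_c15)))))))))))))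
theorem f212763 : Led Lsl_ff (LP (LK LD1_c1 LD2_c18 LD3_c10)) = (LP (LK LD1_c1 LD2_c1 LD3_c5)) :=
  Lgr Lrot23 (Lpr_ct (f178178 IH) (Lpr_ft (f212758 IH) (Lpr_ct (K10.f53952 IH) (Lpn (LP (LK LD1_c1 LD2_c1 LD3_c5))))))
theorem f212790 : Led Lsl_ff (LP (LK LD1_c1 LD2_c15 LD3_c37)) = (LP (LK LD1_c2 LD2_c2 LD3_c15)) :=
  Lgr Lrot25 (Lpr_bt (K8.f48041 IH) (Lpe (f212763 IH) (Lpr_bt (f212781 IH) (Lpn (LP (LK LD1_c2 LD2_c2 LD3_c15))))))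
theorem f212799 : Led Lsl_ft (LP (LK LD1_c1 LD2_c15 LD3_c37)) = (LP (LK LD1_c2 LD2_c2 LD3_c15)) :=
  Lgr Lrot48 (Lpr_ff (f212790 IH) (Lpn (LP (LK LD1_c2 LD2_c2 LD3_c15))))
theorem f48023 : Led Lsl_ff (LP (LK LD1_c0 LD2_c35 LD3_c4)) = (LP (LK LD1_c0 LD2_c35 LD3_c4)) :=
  Lgr Lrot23 (Lpr_ct (K1.f44546 IH) (Lpr_ft (K8.f48021 IH) (Lpe (K8.f44548 IH) (Lpn (LP (LK LD1_c0 LD2_c35 LD3_c4))))))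
theorem f212810 : Led Lsl_ef (LP (LK LD1_c2 LD2_c2 LD3_c15)) = (LP (LK LD1_c2 LD2_c2 LD3_c15)) :=
  Lgr Lrot21 (Lpe (f212790 IH) (Lpr_et (K8.f44550 IH) (Lpe (f48023 IH) (Lpr_et (f47814 IH) (Lpr_ft (f212799 IH) (Lpn (LP (LK LD1_c2 LD2_c2 LD3_c15))))))))
theorem f189127 : Led Lsl_ct (LP (LK LD1_c0 LD2_c36 LD3_c2)) = (LP (LK LD1_c1 LD2_c18 LD3_c10)) :=
  Lre_c IH (LK LD1_c0 LD2_c36 LD3_c2) (LK LD1_c1 LD2_c18 LD3_c10) Lrfl Lrfl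
theorem f212760 : Led Lsl_bt (LP (LK LD1_c1 LD2_c18 LD3_c9)) = (LP (LK LD1_c0 LD2_c36 LD3_c2)) :=
  Lre_b IH (LK LD1_c1 LD2_c18 LD3_c9) (LK LD1_c0 LD2_c36 LD3_c2) Lrfl Lrfl
theorem f212773 : Led Lsl_ct (LP (LK LD1_c1 LD2_c17 LD3_c14)) = (LP (LK LD1_c1 LD2_c18 LD3_c9)) :=
  Lre_c IH (LK LD1_c1 LD2_c17 LD3_c14) (LK LD1_c1 LD2_c18 LD3_c9) Lrfl Lrfl
theorem f168538 : Led Lsl_bt (LP (LK LD1_c2 LD2_c41 LD3_c1)) = (LP (LK LD1_c1 LD2_c17 LD3_c14)) :=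
  Lre_b IH (LK LD1_c2 LD2_c41 LD3_c1) (LK LD1_c1 LD2_c17 LD3_c14) Lrfl Lrfl
theorem f212786 : Led Lsl_cf (LP (LK LD1_c2 LD2_c41 LD3_c1)) = (LP (LK LD1_c2 LD2_c2 LD3_c15)) :=
  Lgr Lrot97 (Lpr_bt (f168538 IH) (Lpr_ct (f212773 IH) (Lpr_bt (f212760 IH) (Lpr_ct (f189127 IH) (Lpr_bt (f212781 IH) (Lpn (LP (LK LD1_c2 LD2_c2 LD3_c15))))))))
theorem f168173 : Led Lsl_bt (LP (LK LD1_c0 LD2_c15 LD3_c59)) = (LP (LK LD1_c0 LD2_c7 LD3_c11)) :=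
  Lre_b IH (LK LD1_c0 LD2_c15 LD3_c59) (LK LD1_c0 LD2_c7 LD3_c11) Lrfl Lrfl
theorem f168174 : Led Lsl_ct (LP (LK LD1_c0 LD2_c35 LD3_c44)) = (LP (LK LD1_c0 LD2_c15 LD3_c59)) :=
  Lre_c IH (LK LD1_c0 LD2_c35 LD3_c44) (LK LD1_c0 LD2_c15 LD3_c59) Lrfl Lrfl
theorem f168175 : Led Lsl_bt (LP (LK LD1_c0 LD2_c32 LD3_c34)) = (LP (LK LD1_c0 LD2_c35 LD3_c44)) :=
  Lgr Lrot128 (Lpe (K9.f167852 IH) (Lpe (K9.f168172 IH) (Lpr_cf (K9.f168096 IH) (Lpe (f168173 IH) (Lpe (f168174 IH) (Lpn (LP (LK LD1_c0 LD2_c35 LD3_c44))))))))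
theorem f168537 : Led Lsl_gt (LP (LK LD1_c1 LD2_c17 LD3_c14)) = (LP (LK LD1_c0 LD2_c35 LD3_c44)) :=
  Lre_g IH (LK LD1_c1 LD2_c17 LD3_c14) (LK LD1_c0 LD2_c35 LD3_c44) Lrfl Lrfl
theorem f53446 : Led Lsl_ct (LP (LK LD1_c0 LD2_c26 LD3_c22)) = (LP (LK LD1_c0 LD2_c58 LD3_c3)) :=
  Lre_c IH (LK LD1_c0 LD2_c26 LD3_c22) (LK LD1_c0 LD2_c58 LD3_c3) Lrfl Lrfl
theorem f182196 : Led Lsl_ct (LP (LK LD1_c2 LD2_c41 LD3_c1)) = (LP (LK LD1_c2 LD2_c2 LD3_c15)) :=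
  Lgr Lrot63 (Lpr_bt (f168538 IH) (Lpr_gt (f168537 IH) (Lpe (f168175 IH) (Lpr_ct (K9.f168348 IH) (Lpr_gt (K9.f174986 IH) (Lpe (K9.f42722 IH) (Lpe (K9.f42743 IH) (Lpr_gt (K9.f182191 IH) (Lpr_ct (f53446 IH) (Lpr_gt (f170855 IH) (Lpn (LP (LK LD1_c2 LD2_c2 LD3_c15)))))))))))))
theorem f212814 : Led Lsl_et (LP (LK LD1_c2 LD2_c41 LD3_c1)) = (LP (LK LD1_c2 LD2_c41 LD3_c1)) :=
  Lgr Lrot158 (Lpr_cf (f212786 IH) (Lpr_ef (f212810 IH) (Lpe (f182196 IH) (Lpn (LP (LK LD1_c2 LD2_c41 LD3_c1))))))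
theorem f212825 : Led Lsl_bt (LP (LK LD1_c1 LD2_c17 LD3_c14)) = (LP (LK LD1_c2 LD2_c41 LD3_c1)) :=
  Lre_b IH (LK LD1_c1 LD2_c17 LD3_c14) (LK LD1_c2 LD2_c41 LD3_c1) Lrfl Lrfl
theorem f212826 : Led Lsl_ef (LP (LK LD1_c1 LD2_c17 LD3_c14)) = (LP (LK LD1_c1 LD2_c17 LD3_c14)) :=
  Lgr Lrot29 (Lpr_bt (f212825 IH) (Lpr_et (f212814 IH) (Lpr_bt (f168538 IH) (Lpn (LP (LK LD1_c1 LD2_c17 LD3_c14))))))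
theorem f212775 : Led Lsl_ct (LP (LK LD1_c1 LD2_c18 LD3_c9)) = (LP (LK LD1_c1 LD2_c17 LD3_c14)) :=
  Lre_c IH (LK LD1_c1 LD2_c18 LD3_c9) (LK LD1_c1 LD2_c17 LD3_c14) Lrfl Lrfl
theorem f212846 : Led Lsl_et (LP (LK LD1_c1 LD2_c18 LD3_c9)) = (LP (LK LD1_c1 LD2_c18 LD3_c9)) :=
  Lgr Lrot158 (Lpe (f212773 IH) (Lpr_ef (f212826 IH) (Lpe (f212775 IH) (Lpn (LP (LK LD1_c1 LD2_c18 LD3_c9))))))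
theorem f212761 : Led Lsl_ff (LP (LK LD1_c1 LD2_c18 LD3_c9)) = (LP (LK LD1_c1 LD2_c11 LD3_c12)) :=
  Lgr Lrot25 (Lpr_bt (f212760 IH) (Lpr_ft (f212758 IH) (Lpr_bt (K8.f48158 IH) (Lpn (LP (LK LD1_c1 LD2_c11 LD3_c12))))))
theorem f33284 : Led Lsl_bt (LP (LK LD1_c0 LD2_c14 LD3_c50)) = (LP (LK LD1_c0 LD2_c32 LD3_c61)) :=
  Lre_b IH (LK LD1_c0 LD2_c14 LD3_c50) (LK LD1_c0 LD2_c32 LD3_c61) Lrfl Lrfl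
theorem f33287 : Led Lsl_ff (LP (LK LD1_c0 LD2_c32 LD3_c61)) = (LP (LK LD1_c0 LD2_c32 LD3_c61)) :=
  Lgr Lrot25 (Lpr_bt (K1.f32929 IH) (Lpr_ft (K0.f33282 IH) (Lpr_bt (f33284 IH) (Lpn (LP (LK LD1_c0 LD2_c32 LD3_c61))))))
theorem f212855 : Led Lsl_ff (LP (LK LD1_c1 LD2_c11 LD3_c12)) = (LP (LK LD1_c1 LD2_c18 LD3_c9)) :=
  Lgr Lrot72 (Lpr_et (K9.f49155 IH) (Lpe (f33287 IH) (Lpr_et (K9.f49151 IH) (Lpe (f212761 IH) (Lpr_et (f212846 IH) (Lpn (LP (LK LD1_c1 LD2_c18 LD3_c9))))))))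
theorem f212857 : Led Lsl_ft (LP (LK LD1_c1 LD2_c14 LD3_c43)) = (LP (LK LD1_c1 LD2_c17 LD3_c14)) :=
  Lgr Lrot4 (Lpe (K8.f48159 IH) (Lpr_ff (f212855 IH) (Lpe (f212773 IH) (Lpn (LP (LK LD1_c1 LD2_c17 LD3_c14))))))
theorem f32930 : Led Lsl_et (LP (LK LD1_c1 LD2_c14 LD3_c43)) = (LP (LK LD1_c0 LD2_c34 LD3_c40)) :=
  Lre_e IH (LK LD1_c1 LD2_c14 LD3_c43) (LK LD1_c0 LD2_c34 LD3_c40) Lrfl Lrfl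
theorem f213761 : Led Lsl_ff (LP (LK LD1_c1 LD2_c14 LD3_c43)) = (LP (LK LD1_c1 LD2_c17 LD3_c14)) :=
  Lgr Lrot72 (Lpr_et (f32930 IH) (Lpe (K8.f48179 IH) (Lpr_et (K8.f48167 IH) (Lpr_ft (f212857 IH) (Lpe (f212826 IH) (Lpn (LP (LK LD1_c1 LD2_c17 LD3_c14))))))))
theorem f53620 : Led Lsl_af (LP (LK LD1_c1 LD2_c14 LD3_c42)) = (LP (LK LD1_c1 LD2_c14 LD3_c43)) :=
  Lgr Lrot0 (Lpr_at (K10.f53612 IH) (Lpn (LP (LK LD1_c1 LD2_c14 LD3_c43))))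
theorem f213765 : Led Lsl_gf (LP (LK LD1_c1 LD2_c14 LD3_c42)) = (LP (LK LD1_c0 LD2_c35 LD3_c44)) :=
  Lgr Lrot76 (Lpr_af (f53620 IH) (Lpr_ff (f213761 IH) (Lpr_gt (f168537 IH) (Lpn (LP (LK LD1_c0 LD2_c35 LD3_c44))))))
theorem f168349 : Led Lsl_ct (LP (LK LD1_c0 LD2_c15 LD3_c59)) = (LP (LK LD1_c0 LD2_c35 LD3_c44)) :=
  Lre_c IH (LK LD1_c0 LD2_c15 LD3_c59) (LK LD1_c0 LD2_c35 LD3_c44) Lrfl Lrfl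
theorem f168192 : Led Lsl_bt (LP (LK LD1_c0 LD2_c28 LD3_c34)) = (LP (LK LD1_c0 LD2_c12 LD3_c41)) :=
  Lre_b IH (LK LD1_c0 LD2_c28 LD3_c34) (LK LD1_c0 LD2_c12 LD3_c41) Lrfl Lrfl
theorem f42885 : Led Lsl_ct (LP (LK LD1_c0 LD2_c28 LD3_c34)) = (LP (LK LD1_c1 LD2_c1 LD3_c13)) :=
  Lre_c IH (LK LD1_c0 LD2_c28 LD3_c34) (LK LD1_c1 LD2_c1 LD3_c13) Lrfl Lrfl
theorem f27586 : Led Lsl_af (LP (LK LD1_c1 LD2_c8 LD3_c41)) = (LP (LK LD1_c0 LD2_c59 LD3_c17)) :=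
  Lgr Lrot117 (Lpr_dt (K10.f27585 IH) (Lpr_at (K0.f27545 IH) (Lpr_dt (K10.f8099 IH) (Lpn (LP (LK LD1_c0 LD2_c59 LD3_c17))))))
theorem f50864 : Led Lsl_af (LP (LK LD1_c2 LD2_c4 LD3_c19)) = (LP (LK LD1_c4 LD2_c13 LD3_c36)) :=
  Lgr Lrot36 (Lpr_bt (K10.f43263 IH) (Lpe (f27586 IH) (Lpr_bt (K0.f27688 IH) (Lpr_at (K10.f43255 IH) (Lpr_bt (K11.f50862 IH) (Lpn (LP (LK LD1_c4 LD2_c13 LD3_c36))))))))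
theorem f45729 : Led Lsl_gt (LP (LK LD1_c4 LD2_c13 LD3_c55)) = (LP (LK LD1_c2 LD2_c4 LD3_c19)) :=
  Lre_g IH (LK LD1_c4 LD2_c13 LD3_c55) (LK LD1_c2 LD2_c4 LD3_c19) Lrfl Lrfl
theorem f189620 : Led Lsl_gf (LP (LK LD1_c4 LD2_c13 LD3_c55)) = (LP (LK LD1_c5 LD2_c15 LD3_c15)) :=
  Lgr Lrot47 (Lpr_gt (f45729 IH) (Lpr_af (f50864 IH) (Lpr_ff (K11.f189612 IH) (Lpn (LP (LK LD1_c5 LD2_c15 LD3_c15))))))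
theorem f47565 : Led Lsl_dt (LP (LK LD1_c1 LD2_c14 LD3_c24)) = (LP (LK LD1_c2 LD2_c1 LD3_c29)) :=
  Lgr Lrot42 (Lpr_df (K10.f47557 IH) (Lpn (LP (LK LD1_c2 LD2_c1 LD3_c29))))
theorem f47564 : Led Lsl_ct (LP (LK LD1_c4 LD2_c8 LD3_c11)) = (LP (LK LD1_c2 LD2_c1 LD3_c29)) :=
  Lre_c IH (LK LD1_c4 LD2_c8 LD3_c11) (LK LD1_c2 LD2_c1 LD3_c29) Lrfl Lrfl
theorem f189622 : Led Lsl_dt (LP (LK LD1_c4 LD2_c13 LD3_c55)) = (LP (LK LD1_c4 LD2_c8 LD3_c11)) :=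
  Lgr Lrot105 (Lpr_gf (f189620 IH) (Lpe (K11.f47684 IH) (Lpe (K10.f47683 IH) (Lpe (K10.f47682 IH) (Lpr_gt (K10.f32340 IH) (Lpr_dt (K1.f32335 IH) (Lpr_gt (K10.f32339 IH) (Lpr_dt (f47565 IH) (Lpe (f47564 IH) (Lpn (LP (LK LD1_c4 LD2_c8 LD3_c11))))))))))))
theorem f189655 : Led Lsl_df (LP (LK LD1_c4 LD2_c13 LD3_c55)) = (LP (LK LD1_c4 LD2_c8 LD3_c11)) :=
  Lgr Lrot38 (Lpr_dt (f189622 IH) (Lpn (LP (LK LD1_c4 LD2_c8 LD3_c11))))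
theorem f44937 : Led Lsl_et (LP (LK LD1_c0 LD2_c57 LD3_c37)) = (LP (LK LD1_c2 LD2_c1 LD3_c5)) :=
  Lre_e IH (LK LD1_c0 LD2_c57 LD3_c37) (LK LD1_c2 LD2_c1 LD3_c5) Lrfl Lrfl
theorem f189657 : Led Lsl_et (LP (LK LD1_c4 LD2_c8 LD3_c11)) = (LP (LK LD1_c2 LD2_c1 LD3_c27)) :=
  Lre_e IH (LK LD1_c4 LD2_c8 LD3_c11) (LK LD1_c2 LD2_c1 LD3_c27) Lrfl Lrfl
theorem f189685 : Led Lsl_gt (LP (LK LD1_c2 LD2_c1 LD3_c5)) = (LP (LK LD1_c2 LD2_c1 LD3_c27)) :=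
  Lgr Lrot131 (Lpe (f44937 IH) (Lpe (K8.f47739 IH) (Lpe (K1.f32132 IH) (Lpe (K1.f44920 IH) (Lpr_gf (K1.f45716 IH) (Lpe (K10.f27405 IH) (Lpr_dt (K10.f45728 IH) (Lpe (f45729 IH) (Lpr_df (f189655 IH) (Lpr_et (f189657 IH) (Lpn (LP (LK LD1_c2 LD2_c1 LD3_c27)))))))))))))
theorem f47726 : Led Lsl_ct (LP (LK LD1_c0 LD2_c57 LD3_c47)) = (LP (LK LD1_c2 LD2_c1 LD3_c27)) :=
  Lre_c IH (LK LD1_c0 LD2_c57 LD3_c47) (LK LD1_c2 LD2_c1 LD3_c27) Lrfl Lrfl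
theorem f189689 : Led Lsl_bt (LP (LK LD1_c0 LD2_c57 LD3_c47)) = (LP (LK LD1_c2 LD2_c1 LD3_c26)) :=
  Lre_b IH (LK LD1_c0 LD2_c57 LD3_c47) (LK LD1_c2 LD2_c1 LD3_c26) Lrfl Lrfl
theorem f42879 : Led Lsl_ct (LP (LK LD1_c0 LD2_c28 LD3_c2)) = (LP (LK LD1_c0 LD2_c12 LD3_c27)) :=
  Lre_c IH (LK LD1_c0 LD2_c28 LD3_c2) (LK LD1_c0 LD2_c12 LD3_c27) Lrfl Lrfl
theorem f43096 : Led Lsl_bt (LP (LK LD1_c0 LD2_c28 LD3_c2)) = (LP (LK LD1_c1 LD2_c1 LD3_c13)) :=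
  Lre_b IH (LK LD1_c0 LD2_c28 LD3_c2) (LK LD1_c1 LD2_c1 LD3_c13) Lrfl Lrfl
theorem f213773 : Led Lsl_gt (LP (LK LD1_c2 LD2_c1 LD3_c26)) = (LP (LK LD1_c1 LD2_c1 LD3_c13)) :=
  Lgr Lrot164 (Lpe (f189689 IH) (Lpr_ct (f47726 IH) (Lpe (f189685 IH) (Lpr_cf (K10.f44933 IH) (Lpr_gf (f213765 IH) (Lpe (f168175 IH) (Lpr_ct (K9.f168348 IH) (Lpr_gf (K9.f174984 IH) (Lpe (f42879 IH) (Lpr_bt (f43096 IH) (Lpn (LP (LK LD1_c1 LD2_c1 LD3_c13)))))))))))))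
theorem f41257 : Led Lsl_bt (LP (LK LD1_c0 LD2_c28 LD3_c30)) = (LP (LK LD1_c0 LD2_c15 LD3_c43)) :=
  Lre_b IH (LK LD1_c0 LD2_c28 LD3_c30) (LK LD1_c0 LD2_c15 LD3_c43) Lrfl Lrfl
theorem f41408 : Led Lsl_gt (LP (LK LD1_c0 LD2_c32 LD3_c20)) = (LP (LK LD1_c1 LD2_c9 LD3_c52)) :=
  Lre_g IH (LK LD1_c0 LD2_c32 LD3_c20) (LK LD1_c1 LD2_c9 LD3_c52) Lrfl Lrfl
theorem f167834 : Led Lsl_bt (LP (LK LD1_c1 LD2_c9 LD3_c53)) = (LP (LK LD1_c0 LD2_c32 LD3_c20)) :=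
  Lre_b IH (LK LD1_c1 LD2_c9 LD3_c53) (LK LD1_c0 LD2_c32 LD3_c20) Lrfl Lrfl
theorem f212485 : Led Lsl_ct (LP (LK LD1_c1 LD2_c9 LD3_c53)) = (LP (LK LD1_c2 LD2_c1 LD3_c26)) :=
  Lgr Lrot10 (Lpr_bt (f167834 IH) (Lpr_gt (f41408 IH) (Lpr_ct (K1.f41399 IH) (Lpr_gt (K9.f41437 IH) (Lpe (K9.f167808 IH) (Lpr_bt (K9.f167809 IH) (Lpr_gt (K9.f41274 IH) (Lpe (f41257 IH) (Lpr_ct (K1.f41890 IH) (Lpr_gt (f212480 IH) (Lpn (LP (LK LD1_c2 LD2_c1 LD3_c26)))))))))))))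
theorem f213775 : Led Lsl_gt (LP (LK LD1_c1 LD2_c59 LD3_c37)) = (LP (LK LD1_c1 LD2_c9 LD3_c53)) :=
  Lgr Lrot82 (Lpe (K10.f53726 IH) (Lpr_ct (K10.f44938 IH) (Lpr_gf (f213765 IH) (Lpe (f168349 IH) (Lpr_bt (f168173 IH) (Lpe (K9.f43097 IH) (Lpe (f168192 IH) (Lpr_ct (f42885 IH) (Lpe (f213773 IH) (Lpe (f212485 IH) (Lpn (LP (LK LD1_c1 LD2_c9 LD3_c53)))))))))))))
theorem f189103 : Led Lsl_ct (LP (LK LD1_c8 LD2_c16 LD3_c22)) = (LP (LK LD1_c4 LD2_c8 LD3_c8)) :=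
  Lre_c IH (LK LD1_c8 LD2_c16 LD3_c22) (LK LD1_c4 LD2_c8 LD3_c8) Lrfl Lrfl
theorem f167753 : Led Lsl_et (LP (LK LD1_c1 LD2_c2 LD3_c51)) = (LP (LK LD1_c0 LD2_c28 LD3_c38)) :=
  Lre_e IH (LK LD1_c1 LD2_c2 LD3_c51) (LK LD1_c0 LD2_c28 LD3_c38) Lrfl Lrfl
theorem f167643 : Led Lsl_et (LP (LK LD1_c0 LD2_c59 LD3_c54)) = (LP (LK LD1_c2 LD2_c5 LD3_c50)) :=
  Lre_e IH (LK LD1_c0 LD2_c59 LD3_c54) (LK LD1_c2 LD2_c5 LD3_c50) Lrfl Lrfl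
theorem f167645 : Led Lsl_et (LP (LK LD1_c1 LD2_c2 LD3_c53)) = (LP (LK LD1_c0 LD2_c28 LD3_c39)) :=
  Lre_e IH (LK LD1_c1 LD2_c2 LD3_c53) (LK LD1_c0 LD2_c28 LD3_c39) Lrfl Lrfl
theorem f167646 : Led Lsl_dt (LP (LK LD1_c2 LD2_c5 LD3_c50)) = (LP (LK LD1_c1 LD2_c2 LD3_c53)) :=
  Lgr Lrot77 (Lpe (f167643 IH) (Lpr_df (K9.f167635 IH) (Lpe (K9.f167644 IH) (Lpe (K9.f8575 IH) (Lpe (f167645 IH) (Lpn (LP (LK LD1_c1 LD2_c2 LD3_c53))))))))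
theorem f167708 : Led Lsl_df (LP (LK LD1_c2 LD2_c5 LD3_c50)) = (LP (LK LD1_c1 LD2_c2 LD3_c53)) :=
  Lgr Lrot38 (Lpr_dt (f167646 IH) (Lpn (LP (LK LD1_c1 LD2_c2 LD3_c53))))
theorem f167725 : Led Lsl_bt (LP (LK LD1_c2 LD2_c5 LD3_c50)) = (LP (LK LD1_c4 LD2_c17 LD3_c0)) :=
  Lre_b IH (LK LD1_c2 LD2_c5 LD3_c50) (LK LD1_c4 LD2_c17 LD3_c0) Lrfl Lrfl
theorem f167700 : Led Lsl_bt (LP (LK LD1_c2 LD2_c11 LD3_c42)) = (LP (LK LD1_c1 LD2_c2 LD3_c53)) :=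
  Lre_b IH (LK LD1_c2 LD2_c11 LD3_c42) (LK LD1_c1 LD2_c2 LD3_c53) Lrfl Lrfl
theorem f167726 : Led Lsl_dt (LP (LK LD1_c4 LD2_c17 LD3_c0)) = (LP (LK LD1_c2 LD2_c11 LD3_c42)) :=
  Lgr Lrot79 (Lpe (f167725 IH) (Lpr_df (f167708 IH) (Lpe (f167700 IH) (Lpn (LP (LK LD1_c2 LD2_c11 LD3_c42))))))
theorem f167729 : Led Lsl_et (LP (LK LD1_c2 LD2_c5 LD3_c48)) = (LP (LK LD1_c4 LD2_c17 LD3_c0)) :=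
  Lre_e IH (LK LD1_c2 LD2_c5 LD3_c48) (LK LD1_c4 LD2_c17 LD3_c0) Lrfl Lrfl
theorem f167730 : Led Lsl_et (LP (LK LD1_c2 LD2_c11 LD3_c42)) = (LP (LK LD1_c1 LD2_c2 LD3_c50)) :=
  Lre_e IH (LK LD1_c2 LD2_c11 LD3_c42) (LK LD1_c1 LD2_c2 LD3_c50) Lrfl Lrfl
theorem f167731 : Led Lsl_dt (LP (LK LD1_c1 LD2_c2 LD3_c50)) = (LP (LK LD1_c0 LD2_c28 LD3_c38)) :=
  Lre_d IH (LK LD1_c1 LD2_c2 LD3_c50) (LK LD1_c0 LD2_c28 LD3_c38) Lrfl Lrfl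
theorem f167732 : Led Lsl_et (LP (LK LD1_c0 LD2_c28 LD3_c38)) = (LP (LK LD1_c1 LD2_c2 LD3_c51)) :=
  Lre_e IH (LK LD1_c0 LD2_c28 LD3_c38) (LK LD1_c1 LD2_c2 LD3_c51) Lrfl Lrfl
theorem f167733 : Led Lsl_df (LP (LK LD1_c2 LD2_c5 LD3_c48)) = (LP (LK LD1_c1 LD2_c2 LD3_c51)) :=
  Lgr Lrot70 (Lpr_et (f167729 IH) (Lpr_dt (f167726 IH) (Lpr_et (f167730 IH) (Lpr_dt (f167731 IH) (Lpr_et (f167732 IH) (Lpn (LP (LK LD1_c1 LD2_c2 LD3_c51))))))))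
theorem f772 : Led Lsl_et (LP (LK LD1_c0 LD2_c11 LD3_c41)) = (LP (LK LD1_c0 LD2_c26 LD3_c17)) :=
  Lre_e IH (LK LD1_c0 LD2_c11 LD3_c41) (LK LD1_c0 LD2_c26 LD3_c17) Lrfl Lrfl
theorem f773 : Led Lsl_gt (LP (LK LD1_c0 LD2_c26 LD3_c17)) = (LP (LK LD1_c0 LD2_c57 LD3_c47)) :=
  Lre_g IH (LK LD1_c0 LD2_c26 LD3_c17) (LK LD1_c0 LD2_c57 LD3_c47) Lrfl Lrfl
theorem f774 : Led Lsl_dt (LP (LK LD1_c0 LD2_c57 LD3_c47)) = (LP (LK LD1_c2 LD2_c1 LD3_c28)) :=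
  Lre_d IH (LK LD1_c0 LD2_c57 LD3_c47) (LK LD1_c2 LD2_c1 LD3_c28) Lrfl Lrfl
theorem f189099 : Led Lsl_gf (LP (LK LD1_c2 LD2_c5 LD3_c48)) = (LP (LK LD1_c2 LD2_c1 LD3_c28)) :=
  Lgr Lrot134 (Lpr_df (f167733 IH) (Lpr_et (f167753 IH) (Lpr_gt (K10.f188919 IH) (Lpe (K8.f33395 IH) (Lpe (K1.f45714 IH) (Lpe (K1.f27376 IH) (Lpe (K1.f733 IH) (Lpr_et (f772 IH) (Lpr_gt (f773 IH) (Lpr_dt (f774 IH) (Lpn (LP (LK LD1_c2 LD2_c1 LD3_c28)))))))))))))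
theorem f167637 : Led Lsl_bt (LP (LK LD1_c0 LD2_c59 LD3_c54)) = (LP (LK LD1_c2 LD2_c5 LD3_c48)) :=
  Lre_b IH (LK LD1_c0 LD2_c59 LD3_c54) (LK LD1_c2 LD2_c5 LD3_c48) Lrfl Lrfl
theorem f53388 : Led Lsl_ct (LP (LK LD1_c0 LD2_c59 LD3_c54)) = (LP (LK LD1_c2 LD2_c5 LD3_c49)) :=
  Lre_c IH (LK LD1_c0 LD2_c59 LD3_c54) (LK LD1_c2 LD2_c5 LD3_c49) Lrfl Lrfl
theorem f179543 : Led Lsl_ct (LP (LK LD1_c1 LD2_c0 LD3_c40)) = (LP (LK LD1_c0 LD2_c27 LD3_c36)) :=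
  Lre_c IH (LK LD1_c1 LD2_c0 LD3_c40) (LK LD1_c0 LD2_c27 LD3_c36) Lrfl Lrfl
theorem f180239 : Led Lsl_gf (LP (LK LD1_c1 LD2_c0 LD3_c40)) = (LP (LK LD1_c2 LD2_c5 LD3_c49)) :=
  Lgr Lrot104 (Lpr_ct (f179543 IH) (Lpe (K9.f179528 IH) (Lpe (K9.f8002 IH) (Lpr_gf (K9.f180235 IH) (Lpe (K9.f27317 IH) (Lpr_gf (K9.f53383 IH) (Lpe (K9.f1393 IH) (Lpr_gt (K9.f500 IH) (Lpr_ct (f53388 IH) (Lpn (LP (LK LD1_c2 LD2_c5 LD3_c49))))))))))))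
theorem f179560 : Led Lsl_bt (LP (LK LD1_c0 LD2_c27 LD3_c36)) = (LP (LK LD1_c1 LD2_c0 LD3_c38)) :=
  Lre_b IH (LK LD1_c0 LD2_c27 LD3_c36) (LK LD1_c1 LD2_c0 LD3_c38) Lrfl Lrfl
theorem f179561 : Led Lsl_gt (LP (LK LD1_c1 LD2_c0 LD3_c38)) = (LP (LK LD1_c2 LD2_c7 LD3_c9)) :=
  Lre_g IH (LK LD1_c1 LD2_c0 LD3_c38) (LK LD1_c2 LD2_c7 LD3_c9) Lrfl Lrfl
theorem f189106 : Led Lsl_ct (LP (LK LD1_c2 LD2_c7 LD3_c9)) = (LP (LK LD1_c4 LD2_c19 LD3_c28)) :=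
  Lre_c IH (LK LD1_c2 LD2_c7 LD3_c9) (LK LD1_c4 LD2_c19 LD3_c28) Lrfl Lrfl
theorem f189102 : Led Lsl_bt (LP (LK LD1_c4 LD2_c8 LD3_c8)) = (LP (LK LD1_c2 LD2_c1 LD3_c28)) :=
  Lre_b IH (LK LD1_c4 LD2_c8 LD3_c8) (LK LD1_c2 LD2_c1 LD3_c28) Lrfl Lrfl
theorem f189104 : Led Lsl_ct (LP (LK LD1_c4 LD2_c8 LD3_c8)) = (LP (LK LD1_c8 LD2_c16 LD3_c22)) :=
  Lre_c IH (LK LD1_c4 LD2_c8 LD3_c8) (LK LD1_c8 LD2_c16 LD3_c22) Lrfl Lrfl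
theorem f189107 : Led Lsl_gt (LP (LK LD1_c4 LD2_c19 LD3_c28)) = (LP (LK LD1_c8 LD2_c16 LD3_c22)) :=
  Lgr Lrot149 (Lpe (f189106 IH) (Lpe (f179561 IH) (Lpe (f179560 IH) (Lpr_ct (K9.f179533 IH) (Lpr_gf (f180239 IH) (Lpe (f53388 IH) (Lpr_bt (f167637 IH) (Lpr_gf (f189099 IH) (Lpe (f189102 IH) (Lpr_ct (f189104 IH) (Lpn (LP (LK LD1_c8 LD2_c16 LD3_c22)))))))))))))
theorem f189114 : Led Lsl_dt (LP (LK LD1_c0 LD2_c27 LD3_c35)) = (LP (LK LD1_c1 LD2_c0 LD3_c38)) :=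
  Lre_d IH (LK LD1_c0 LD2_c27 LD3_c35) (LK LD1_c1 LD2_c0 LD3_c38) Lrfl Lrfl
theorem f213902 : Led Lsl_gf (LP (LK LD1_c0 LD2_c56 LD3_c45)) = (LP (LK LD1_c0 LD2_c27 LD3_c35)) :=
  Lgr Lrot147 (Lpr_ct (K10.f44490 IH) (Lpr_gt (f213775 IH) (Lpr_ct (f212485 IH) (Lpe (f47645 IH) (Lpe (f189103 IH) (Lpe (f189107 IH) (Lpe (f189106 IH) (Lpe (f179561 IH) (Lpe (f189114 IH) (Lpn (LP (LK LD1_c0 LD2_c27 LD3_c35))))))))))))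
theorem f170288 : Led Lsl_bt (LP (LK LD1_c0 LD2_c12 LD3_c12)) = (LP (LK LD1_c0 LD2_c27 LD3_c35)) :=
  Lre_b IH (LK LD1_c0 LD2_c12 LD3_c12) (LK LD1_c0 LD2_c27 LD3_c35) Lrfl Lrfl
theorem f8004 : Led Lsl_ct (LP (LK LD1_c0 LD2_c12 LD3_c12)) = (LP (LK LD1_c0 LD2_c5 LD3_c36)) :=
  Lre_c IH (LK LD1_c0 LD2_c12 LD3_c12) (LK LD1_c0 LD2_c5 LD3_c36) Lrfl Lrfl
theorem f53456 : Led Lsl_bt (LP (LK LD1_c2 LD2_c1 LD3_c26)) = (LP (LK LD1_c0 LD2_c57 LD3_c47)) :=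
  Lre_b IH (LK LD1_c2 LD2_c1 LD3_c26) (LK LD1_c0 LD2_c57 LD3_c47) Lrfl Lrfl
theorem f213906 : Led Lsl_ct (LP (LK LD1_c2 LD2_c1 LD3_c26)) = (LP (LK LD1_c1 LD2_c9 LD3_c53)) :=
  Lgr Lrot63 (Lpr_bt (f53456 IH) (Lpr_gt (K10.f47556 IH) (Lpe (K9.f27313 IH) (Lpr_ct (K9.f27317 IH) (Lpe (K9.f180235 IH) (Lpe (f8004 IH) (Lpr_bt (f170288 IH) (Lpe (f213902 IH) (Lpr_ct (K10.f44490 IH) (Lpr_gt (f213775 IH) (Lpn (LP (LK LD1_c1 LD2_c9 LD3_c53)))))))))))))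
theorem f213921 : Led Lsl_et (LP (LK LD1_c1 LD2_c9 LD3_c53)) = (LP (LK LD1_c2 LD2_c25 LD3_c16)) :=
  Lre_e IH (LK LD1_c1 LD2_c9 LD3_c53) (LK LD1_c2 LD2_c25 LD3_c16) Lrfl Lrfl
theorem f213994 : Led Lsl_cf (LP (LK LD1_c4 LD2_c8 LD3_c9)) = (LP (LK LD1_c2 LD2_c25 LD3_c16)) :=
  Lgr Lrot39 (Lpr_et (f47659 IH) (Lpr_ct (f213906 IH) (Lpr_et (f213921 IH) (Lpn (LP (LK LD1_c2 LD2_c25 LD3_c16))))))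
theorem f213999 : Led Lsl_ct (LP (LK LD1_c4 LD2_c8 LD3_c9)) = (LP (LK LD1_c2 LD2_c25 LD3_c16)) :=
  Lgr Lrot59 (Lpr_cf (f213994 IH) (Lpn (LP (LK LD1_c2 LD2_c25 LD3_c16))))
theorem f47655 : Led Lsl_bt (LP (LK LD1_c2 LD2_c1 LD3_c29)) = (LP (LK LD1_c4 LD2_c8 LD3_c9)) :=
  Lre_b IH (LK LD1_c2 LD2_c1 LD3_c29) (LK LD1_c4 LD2_c8 LD3_c9) Lrfl Lrfl
theorem f213976 : Led Lsl_bt (LP (LK LD1_c2 LD2_c25 LD3_c16)) = (LP (LK LD1_c1 LD2_c9 LD3_c56)) :=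
  Lre_b IH (LK LD1_c2 LD2_c25 LD3_c16) (LK LD1_c1 LD2_c9 LD3_c56) Lrfl Lrfl
theorem f214001 : Led Lsl_ct (LP (LK LD1_c1 LD2_c9 LD3_c56)) = (LP (LK LD1_c2 LD2_c25 LD3_c19)) :=
  Lre_c IH (LK LD1_c1 LD2_c9 LD3_c56) (LK LD1_c2 LD2_c25 LD3_c19) Lrfl Lrfl
theorem f214002 : Led Lsl_bf (LP (LK LD1_c4 LD2_c8 LD3_c11)) = (LP (LK LD1_c2 LD2_c25 LD3_c19)) :=
  Lgr Lrot90 (Lpr_ct (f47564 IH) (Lpr_bt (f47655 IH) (Lpr_ct (f213999 IH) (Lpr_bt (f213976 IH) (Lpr_ct (f214001 IH) (Lpn (LP (LK LD1_c2 LD2_c25 LD3_c19))))))))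
theorem f214007 : Led Lsl_et (LP (LK LD1_c1 LD2_c9 LD3_c54)) = (LP (LK LD1_c2 LD2_c25 LD3_c19)) :=
  Lre_e IH (LK LD1_c1 LD2_c9 LD3_c54) (LK LD1_c2 LD2_c25 LD3_c19) Lrfl Lrfl
theorem f214008 : Led Lsl_bt (LP (LK LD1_c2 LD2_c1 LD3_c27)) = (LP (LK LD1_c1 LD2_c9 LD3_c54)) :=
  Lgr Lrot119 (Lpe (f189657 IH) (Lpr_bf (f214002 IH) (Lpe (f214007 IH) (Lpn (LP (LK LD1_c1 LD2_c9 LD3_c54))))))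
theorem f51417 : Led Lsl_dt (LP (LK LD1_c4 LD2_c8 LD3_c10)) = (LP (LK LD1_c2 LD2_c1 LD3_c27)) :=
  Lre_d IH (LK LD1_c4 LD2_c8 LD3_c10) (LK LD1_c2 LD2_c1 LD3_c27) Lrfl Lrfl
theorem f214012 : Led Lsl_dt (LP (LK LD1_c1 LD2_c9 LD3_c54)) = (LP (LK LD1_c2 LD2_c25 LD3_c18)) :=
  Lre_d IH (LK LD1_c1 LD2_c9 LD3_c54) (LK LD1_c2 LD2_c25 LD3_c18) Lrfl Lrfl
theorem f214013 : Led Lsl_bf (LP (LK LD1_c4 LD2_c8 LD3_c10)) = (LP (LK LD1_c2 LD2_c25 LD3_c18)) :=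
  Lgr Lrot93 (Lpr_dt (f51417 IH) (Lpr_bt (f214008 IH) (Lpr_dt (f214012 IH) (Lpn (LP (LK LD1_c2 LD2_c25 LD3_c18))))))
theorem f189658 : Led Lsl_et (LP (LK LD1_c4 LD2_c8 LD3_c10)) = (LP (LK LD1_c8 LD2_c16 LD3_c25)) :=
  Lre_e IH (LK LD1_c4 LD2_c8 LD3_c10) (LK LD1_c8 LD2_c16 LD3_c25) Lrfl Lrfl
theorem f214022 : Led Lsl_et (LP (LK LD1_c4 LD2_c54 LD3_c51)) = (LP (LK LD1_c2 LD2_c25 LD3_c18)) :=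
  Lre_e IH (LK LD1_c4 LD2_c54 LD3_c51) (LK LD1_c2 LD2_c25 LD3_c18) Lrfl Lrfl
theorem f214023 : Led Lsl_bt (LP (LK LD1_c8 LD2_c16 LD3_c25)) = (LP (LK LD1_c4 LD2_c54 LD3_c51)) :=
  Lgr Lrot119 (Lpe (f189658 IH) (Lpr_bf (f214013 IH) (Lpe (f214022 IH) (Lpn (LP (LK LD1_c4 LD2_c54 LD3_c51))))))
theorem f189665 : Led Lsl_ft (LP (LK LD1_c15 LD2_c33 LD3_c22)) = (LP (LK LD1_c8 LD2_c16 LD3_c25)) :=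
  Lre_f IH (LK LD1_c15 LD2_c33 LD3_c22) (LK LD1_c8 LD2_c16 LD3_c25) Lrfl Lrfl
theorem f214033 : Led Lsl_ft (LP (LK LD1_c4 LD2_c54 LD3_c51)) = (LP (LK LD1_c9 LD2_c41 LD3_c12)) :=
  Lre_f IH (LK LD1_c4 LD2_c54 LD3_c51) (LK LD1_c9 LD2_c41 LD3_c12) Lrfl Lrfl
theorem f214034 : Led Lsl_bf (LP (LK LD1_c15 LD2_c33 LD3_c22)) = (LP (LK LD1_c9 LD2_c41 LD3_c12)) :=
  Lgr Lrot61 (Lpr_ft (f189665 IH) (Lpr_bt (f214023 IH) (Lpr_ft (f214033 IH) (Lpn (LP (LK LD1_c9 LD2_c41 LD3_c12))))))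
theorem f189629 : Led Lsl_et (LP (LK LD1_c8 LD2_c26 LD3_c28)) = (LP (LK LD1_c4 LD2_c13 LD3_c55)) :=
  Lre_e IH (LK LD1_c8 LD2_c26 LD3_c28) (LK LD1_c4 LD2_c13 LD3_c55) Lrfl Lrfl
theorem f51415 : Led Lsl_dt (LP (LK LD1_c2 LD2_c1 LD3_c27)) = (LP (LK LD1_c4 LD2_c8 LD3_c10)) :=
  Lre_d IH (LK LD1_c2 LD2_c1 LD3_c27) (LK LD1_c4 LD2_c8 LD3_c10) Lrfl Lrfl
theorem f189659 : Led Lsl_df (LP (LK LD1_c8 LD2_c26 LD3_c28)) = (LP (LK LD1_c8 LD2_c16 LD3_c25)) :=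
  Lgr Lrot70 (Lpr_et (f189629 IH) (Lpr_dt (f189622 IH) (Lpr_et (f189657 IH) (Lpr_dt (f51415 IH) (Lpr_et (f189658 IH) (Lpn (LP (LK LD1_c8 LD2_c16 LD3_c25))))))))
theorem f189641 : Led Lsl_ft (LP (LK LD1_c8 LD2_c26 LD3_c28)) = (LP (LK LD1_c15 LD2_c51 LD3_c11)) :=
  Lre_f IH (LK LD1_c8 LD2_c26 LD3_c28) (LK LD1_c15 LD2_c51 LD3_c11) Lrfl Lrfl
theorem f189666 : Led Lsl_dt (LP (LK LD1_c15 LD2_c51 LD3_c11)) = (LP (LK LD1_c15 LD2_c33 LD3_c22)) :=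
  Lgr Lrot60 (Lpe (f189641 IH) (Lpr_df (f189659 IH) (Lpe (f189665 IH) (Lpn (LP (LK LD1_c15 LD2_c33 LD3_c22))))))
theorem f189672 : Led Lsl_df (LP (LK LD1_c15 LD2_c51 LD3_c11)) = (LP (LK LD1_c15 LD2_c33 LD3_c22)) :=
  Lgr Lrot38 (Lpr_dt (f189666 IH) (Lpn (LP (LK LD1_c15 LD2_c33 LD3_c22))))
theorem f214039 : Led Lsl_dt (LP (LK LD1_c17 LD2_c49 LD3_c0)) = (LP (LK LD1_c9 LD2_c41 LD3_c12)) :=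
  Lre_d IH (LK LD1_c17 LD2_c49 LD3_c0) (LK LD1_c9 LD2_c41 LD3_c12) Lrfl Lrfl
theorem f214040 : Led Lsl_bt (LP (LK LD1_c15 LD2_c51 LD3_c11)) = (LP (LK LD1_c17 LD2_c49 LD3_c0)) :=
  Lgr Lrot95 (Lpr_df (f189672 IH) (Lpr_bf (f214034 IH) (Lpe (f214039 IH) (Lpn (LP (LK LD1_c17 LD2_c49 LD3_c0))))))
theorem f214042 : Led Lsl_bf (LP (LK LD1_c15 LD2_c51 LD3_c11)) = (LP (LK LD1_c17 LD2_c49 LD3_c0)) :=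
  Lgr Lrot24 (Lpr_bt (f214040 IH) (Lpn (LP (LK LD1_c17 LD2_c49 LD3_c0))))
theorem f189649 : Led Lsl_ft (LP (LK LD1_c15 LD2_c51 LD3_c11)) = (LP (LK LD1_c8 LD2_c26 LD3_c28)) :=
  Lre_f IH (LK LD1_c15 LD2_c51 LD3_c11) (LK LD1_c8 LD2_c26 LD3_c28) Lrfl Lrfl
theorem f214046 : Led Lsl_ft (LP (LK LD1_c9 LD2_c41 LD3_c11)) = (LP (LK LD1_c17 LD2_c49 LD3_c0)) :=
  Lre_f IH (LK LD1_c9 LD2_c41 LD3_c11) (LK LD1_c17 LD2_c49 LD3_c0) Lrfl Lrfl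
theorem f214047 : Led Lsl_bt (LP (LK LD1_c8 LD2_c26 LD3_c28)) = (LP (LK LD1_c9 LD2_c41 LD3_c11)) :=
  Lgr Lrot35 (Lpe (f189649 IH) (Lpr_bf (f214042 IH) (Lpe (f214046 IH) (Lpn (LP (LK LD1_c9 LD2_c41 LD3_c11))))))
theorem f189651 : Led Lsl_et (LP (LK LD1_c4 LD2_c13 LD3_c55)) = (LP (LK LD1_c8 LD2_c26 LD3_c28)) :=
  Lre_e IH (LK LD1_c4 LD2_c13 LD3_c55) (LK LD1_c8 LD2_c26 LD3_c28) Lrfl Lrfl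
theorem f214050 : Led Lsl_et (LP (LK LD1_c9 LD2_c41 LD3_c11)) = (LP (LK LD1_c4 LD2_c54 LD3_c52)) :=
  Lre_e IH (LK LD1_c9 LD2_c41 LD3_c11) (LK LD1_c4 LD2_c54 LD3_c52) Lrfl Lrfl
theorem f214051 : Led Lsl_bf (LP (LK LD1_c4 LD2_c13 LD3_c55)) = (LP (LK LD1_c4 LD2_c54 LD3_c52)) :=
  Lgr Lrot96 (Lpr_et (f189651 IH) (Lpr_bt (f214047 IH) (Lpr_et (f214050 IH) (Lpn (LP (LK LD1_c4 LD2_c54 LD3_c52))))))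
theorem f8524 : Led Lsl_gt (LP (LK LD1_c2 LD2_c58 LD3_c49)) = (LP (LK LD1_c6 LD2_c4 LD3_c29)) :=
  Lre_g IH (LK LD1_c2 LD2_c58 LD3_c49) (LK LD1_c6 LD2_c4 LD3_c29) Lrfl Lrfl
theorem f214055 : Led Lsl_cf (LP (LK LD1_c6 LD2_c4 LD3_c29)) = (LP (LK LD1_c4 LD2_c54 LD3_c52)) :=
  Lgr Lrot58 (Lpe (f8524 IH) (Lpe (K9.f8523 IH) (Lpr_bt (K9.f8522 IH) (Lpr_gf (K9.f8505 IH) (Lpe (K11.f8512 IH) (Lpr_ct (K11.f8517 IH) (Lpr_gf (K11.f195795 IH) (Lpe (K10.f49885 IH) (Lpe (f45729 IH) (Lpr_bf (f214051 IH) (Lpn (LP (LK LD1_c4 LD2_c54 LD3_c52)))))))))))))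
theorem f190973 : Led Lsl_gt (LP (LK LD1_c6 LD2_c4 LD3_c29)) = (LP (LK LD1_c2 LD2_c58 LD3_c26)) :=
  Lre_g IH (LK LD1_c6 LD2_c4 LD3_c29) (LK LD1_c2 LD2_c58 LD3_c26) Lrfl Lrfl
theorem f41740 : Led Lsl_ct (LP (LK LD1_c2 LD2_c58 LD3_c26)) = (LP (LK LD1_c1 LD2_c24 LD3_c56)) :=
  Lre_c IH (LK LD1_c2 LD2_c58 LD3_c26) (LK LD1_c1 LD2_c24 LD3_c56) Lrfl Lrfl
theorem f45239 : Led Lsl_bt (LP (LK LD1_c1 LD2_c14 LD3_c20)) = (LP (LK LD1_c2 LD2_c34 LD3_c37)) :=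
  Lre_b IH (LK LD1_c1 LD2_c14 LD3_c20) (LK LD1_c2 LD2_c34 LD3_c37) Lrfl Lrfl
theorem f187908 : Led Lsl_gt (LP (LK LD1_c2 LD2_c7 LD3_c38)) = (LP (LK LD1_c2 LD2_c34 LD3_c37)) :=
  Lgr Lrot164 (Lpe (K0.f28648 IH) (Lpr_ct (K0.f28622 IH) (Lpe (K10.f182091 IH) (Lpe (K10.f32093 IH) (Lpr_gf (K10.f187901 IH) (Lpr_bf (K1.f45387 IH) (Lpr_ct (K1.f44536 IH) (Lpe (K10.f45402 IH) (Lpe (K10.f45238 IH) (Lpr_bt (f45239 IH) (Lpn (LP (LK LD1_c2 LD2_c34 LD3_c37)))))))))))))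
theorem f28683 : Led Lsl_dt (LP (LK LD1_c2 LD2_c7 LD3_c38)) = (LP (LK LD1_c4 LD2_c20 LD3_c22)) :=
  Lre_d IH (LK LD1_c2 LD2_c7 LD3_c38) (LK LD1_c4 LD2_c20 LD3_c22) Lrfl Lrfl
theorem f214068 : Led Lsl_gt (LP (LK LD1_c4 LD2_c20 LD3_c22)) = (LP (LK LD1_c4 LD2_c54 LD3_c52)) :=
  Lgr Lrot9 (Lpe (f28683 IH) (Lpr_gt (f187908 IH) (Lpr_ct (K10.f190968 IH) (Lpr_gt (K10.f54527 IH) (Lpe (K10.f183850 IH) (Lpe (K1.f41751 IH) (Lpe (f41740 IH) (Lpe (f190973 IH) (Lpr_cf (f214055 IH) (Lpn (LP (LK LD1_c4 LD2_c54 LD3_c52))))))))))))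
theorem f214070 : Led Lsl_gf (LP (LK LD1_c4 LD2_c15 LD3_c3)) = (LP (LK LD1_c4 LD2_c54 LD3_c52)) :=
  Lgr Lrot76 (Lpe (K11.f54057 IH) (Lpe (K10.f28698 IH) (Lpr_gt (f214068 IH) (Lpn (LP (LK LD1_c4 LD2_c54 LD3_c52))))))
theorem f214054 : Led Lsl_dt (LP (LK LD1_c2 LD2_c25 LD3_c19)) = (LP (LK LD1_c4 LD2_c54 LD3_c52)) :=
  Lre_d IH (LK LD1_c2 LD2_c25 LD3_c19) (LK LD1_c4 LD2_c54 LD3_c52) Lrfl Lrfl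
theorem f214074 : Led Lsl_et (LP (LK LD1_c2 LD2_c25 LD3_c19)) = (LP (LK LD1_c1 LD2_c9 LD3_c54)) :=
  Lre_e IH (LK LD1_c2 LD2_c25 LD3_c19) (LK LD1_c1 LD2_c9 LD3_c54) Lrfl Lrfl
theorem f216296 : Led Lsl_gt (LP (LK LD1_c0 LD2_c59 LD3_c0)) = (LP (LK LD1_c1 LD2_c9 LD3_c54)) :=
  Lgr Lrot131 (Lpe (K0.f27725 IH) (Lpe (K0.f27704 IH) (Lpe (K1.f45785 IH) (Lpr_df (K8.f47502 IH) (Lpe (K1.f47498 IH) (Lpe (K9.f8088 IH) (Lpr_dt (K9.f8089 IH) (Lpr_gf (f214070 IH) (Lpe (f214054 IH) (Lpr_et (f214074 IH) (Lpn (LP (LK LD1_c1 LD2_c9 LD3_c54)))))))))))))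
theorem f47722 : Led Lsl_ct (LP (LK LD1_c2 LD2_c1 LD3_c27)) = (LP (LK LD1_c0 LD2_c57 LD3_c47)) :=
  Lre_c IH (LK LD1_c2 LD2_c1 LD3_c27) (LK LD1_c0 LD2_c57 LD3_c47) Lrfl Lrfl
theorem f28122 : Led Lsl_ct (LP (LK LD1_c0 LD2_c56 LD3_c5)) = (LP (LK LD1_c0 LD2_c26 LD3_c21)) :=
  Lre_c IH (LK LD1_c0 LD2_c56 LD3_c5) (LK LD1_c0 LD2_c26 LD3_c21) Lrfl Lrfl
theorem f27963 : Led Lsl_bt (LP (LK LD1_c0 LD2_c56 LD3_c5)) = (LP (LK LD1_c0 LD2_c25 LD3_c32)) :=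
  Lre_b IH (LK LD1_c0 LD2_c56 LD3_c5) (LK LD1_c0 LD2_c25 LD3_c32) Lrfl Lrfl
theorem f216309 : Led Lsl_gf (LP (LK LD1_c0 LD2_c27 LD3_c32)) = (LP (LK LD1_c0 LD2_c25 LD3_c32)) :=
  Lgr Lrot181 (Lpr_ct (K11.f8007 IH) (Lpr_gt (K9.f180097 IH) (Lpe (K10.f52679 IH) (Lpr_bt (K10.f52687 IH) (Lpr_gt (f216296 IH) (Lpe (f214008 IH) (Lpr_ct (f47722 IH) (Lpr_gt (K10.f47556 IH) (Lpe (f28122 IH) (Lpr_bt (f27963 IH) (Lpn (LP (LK LD1_c0 LD2_c25 LD3_c32)))))))))))))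
theorem f180100 : Led Lsl_ct (LP (LK LD1_c1 LD2_c0 LD3_c32)) = (LP (LK LD1_c0 LD2_c27 LD3_c33)) :=
  Lre_c IH (LK LD1_c1 LD2_c0 LD3_c32) (LK LD1_c0 LD2_c27 LD3_c33) Lrfl Lrfl
theorem f200377 : Led Lsl_bf (LP (LK LD1_c0 LD2_c6 LD3_c33)) = (LP (LK LD1_c0 LD2_c5 LD3_c35)) :=
  Lgr Lrot165 (Lpe (K9.f3058 IH) (Lpr_ct (K0.f278 IH) (Lpe (K9.f167236 IH) (Lpe (K9.f51579 IH) (Lpr_bt (K11.f200369 IH) (Lpr_gt (K9.f262 IH) (Lpr_bf (K0.f1697 IH) (Lpr_ct (K0.f253 IH) (Lpe (K9.f171185 IH) (Lpe (K9.f8005 IH) (Lpn (LP (LK LD1_c0 LD2_c5 LD3_c35)))))))))))))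
theorem f200379 : Led Lsl_bt (LP (LK LD1_c0 LD2_c14 LD3_c14)) = (LP (LK LD1_c0 LD2_c12 LD3_c9)) :=
  Lgr Lrot95 (Lpe (K0.f3061 IH) (Lpr_bf (f200377 IH) (Lpe (K9.f8015 IH) (Lpn (LP (LK LD1_c0 LD2_c12 LD3_c9))))))
theorem f200389 : Led Lsl_gf (LP (LK LD1_c1 LD2_c0 LD3_c32)) = (LP (LK LD1_c2 LD2_c6 LD3_c54)) :=
  Lgr Lrot126 (Lpe (K10.f170294 IH) (Lpr_bt (K10.f170293 IH) (Lpe (K10.f179113 IH) (Lpr_ct (K9.f168183 IH) (Lpr_gt (K9.f179106 IH) (Lpe (K0.f3066 IH) (Lpr_bt (f200379 IH) (Lpr_gt (K9.f6798 IH) (Lpe (f6817 IH) (Lpr_ct (f6826 IH) (Lpn (LP (LK LD1_c2 LD2_c6 LD3_c54)))))))))))))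
theorem f27953 : Led Lsl_gt (LP (LK LD1_c0 LD2_c25 LD3_c12)) = (LP (LK LD1_c0 LD2_c11 LD3_c25)) :=
  Lre_g IH (LK LD1_c0 LD2_c25 LD3_c12) (LK LD1_c0 LD2_c11 LD3_c25) Lrfl Lrfl
theorem f216325 : Led Lsl_gf (LP (LK LD1_c1 LD2_c0 LD3_c25)) = (LP (LK LD1_c0 LD2_c55 LD3_c32)) :=
  Lgr Lrot147 (Lpr_ct (f6826 IH) (Lpe (f200389 IH) (Lpr_ct (f180100 IH) (Lpe (K11.f180099 IH) (Lpe (K11.f8007 IH) (Lpr_gf (f216309 IH) (Lpe (K1.f27950 IH) (Lpe (f27953 IH) (Lpe (K11.f52249 IH) (Lpn (LP (LK LD1_c0 LD2_c55 LD3_c32))))))))))))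
theorem f6816 : Led Lsl_bt (LP (LK LD1_c0 LD2_c24 LD3_c50)) = (LP (LK LD1_c0 LD2_c54 LD3_c53)) :=
  Lre_b IH (LK LD1_c0 LD2_c24 LD3_c50) (LK LD1_c0 LD2_c54 LD3_c53) Lrfl Lrfl
theorem f6818 : Led Lsl_dt (LP (LK LD1_c0 LD2_c54 LD3_c53)) = (LP (LK LD1_c1 LD2_c0 LD3_c25)) :=
  Lgr Lrot79 (Lpe (f6816 IH) (Lpr_df (K9.f6806 IH) (Lpe (f6817 IH) (Lpn (LP (LK LD1_c1 LD2_c0 LD3_c25))))))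
theorem f173212 : Led Lsl_bf (LP (LK LD1_c0 LD2_c11 LD3_c0)) = (LP (LK LD1_c0 LD2_c12 LD3_c24)) :=
  Lgr Lrot24 (Lpr_bt (K9.f173210 IH) (Lpn (LP (LK LD1_c0 LD2_c12 LD3_c24))))
theorem f167780 : Led Lsl_bt (LP (LK LD1_c0 LD2_c11 LD3_c1)) = (LP (LK LD1_c0 LD2_c24 LD3_c48)) :=
  Lre_b IH (LK LD1_c0 LD2_c11 LD3_c1) (LK LD1_c0 LD2_c24 LD3_c48) Lrfl Lrfl
theorem f193283 : Led Lsl_gt (LP (LK LD1_c0 LD2_c24 LD3_c48)) = (LP (LK LD1_c0 LD2_c11 LD3_c6)) :=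
  Lgr Lrot82 (Lpe (f167780 IH) (Lpr_ct (K9.f167771 IH) (Lpe (K9.f40823 IH) (Lpe (K9.f40802 IH) (Lpr_bt (K9.f40797 IH) (Lpe (K9.f40816 IH) (Lpr_bf (f173212 IH) (Lpr_ct (f167781 IH) (Lpr_gf (K10.f193264 IH) (Lpr_cf (K1.f6920 IH) (Lpn (LP (LK LD1_c0 LD2_c11 LD3_c6)))))))))))))
theorem f3046 : Led Lsl_gt (LP (LK LD1_c0 LD2_c24 LD3_c59)) = (LP (LK LD1_c0 LD2_c55 LD3_c9)) :=
  Lre_g IH (LK LD1_c0 LD2_c24 LD3_c59) (LK LD1_c0 LD2_c55 LD3_c9) Lrfl Lrfl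
theorem f30809 : Led Lsl_dt (LP (LK LD1_c1 LD2_c56 LD3_c44)) = (LP (LK LD1_c0 LD2_c55 LD3_c9)) :=
  Lre_d IH (LK LD1_c1 LD2_c56 LD3_c44) (LK LD1_c0 LD2_c55 LD3_c9) Lrfl Lrfl
theorem f28572 : Led Lsl_dt (LP (LK LD1_c0 LD2_c25 LD3_c12)) = (LP (LK LD1_c0 LD2_c55 LD3_c32)) :=
  Lre_d IH (LK LD1_c0 LD2_c25 LD3_c12) (LK LD1_c0 LD2_c55 LD3_c32) Lrfl Lrfl
theorem f182382 : Led Lsl_et (LP (LK LD1_c0 LD2_c25 LD3_c12)) = (LP (LK LD1_c0 LD2_c55 LD3_c33)) :=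
  Lre_e IH (LK LD1_c0 LD2_c25 LD3_c12) (LK LD1_c0 LD2_c55 LD3_c33) Lrfl Lrfl
theorem f211592 : Led Lsl_gt (LP (LK LD1_c1 LD2_c57 LD3_c26)) = (LP (LK LD1_c0 LD2_c55 LD3_c33)) :=
  Lre_g IH (LK LD1_c1 LD2_c57 LD3_c26) (LK LD1_c0 LD2_c55 LD3_c33) Lrfl Lrfl
theorem f216350 : Led Lsl_et (LP (LK LD1_c1 LD2_c56 LD3_c44)) = (LP (LK LD1_c1 LD2_c57 LD3_c26)) :=
  Lgr Lrot185 (Lpr_dt (f30809 IH) (Lpe (f3046 IH) (Lpe (K0.f2973 IH) (Lpe (f193283 IH) (Lpe (K11.f6830 IH) (Lpr_dt (f6818 IH) (Lpr_gf (f216325 IH) (Lpe (f28572 IH) (Lpr_et (f182382 IH) (Lpe (f211592 IH) (Lpn (LP (LK LD1_c1 LD2_c57 LD3_c26)))))))))))))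
theorem f31537 : Led Lsl_gt (LP (LK LD1_c1 LD2_c9 LD3_c34)) = (LP (LK LD1_c0 LD2_c32 LD3_c2)) :=
  Lre_g IH (LK LD1_c1 LD2_c9 LD3_c34) (LK LD1_c0 LD2_c32 LD3_c2) Lrfl Lrfl
theorem f216354 : Led Lsl_df (LP (LK LD1_c1 LD2_c9 LD3_c34)) = (LP (LK LD1_c0 LD2_c55 LD3_c33)) :=
  Lgr Lrot135 (Lpr_gt (f31537 IH) (Lpe (K8.f31040 IH) (Lpr_et (K0.f31039 IH) (Lpr_gt (K0.f28594 IH) (Lpe (K0.f2981 IH) (Lpr_dt (K0.f2973 IH) (Lpr_gt (f3046 IH) (Lpe (f30809 IH) (Lpr_et (f216350 IH) (Lpr_gt (f211592 IH) (Lpn (LP (LK LD1_c0 LD2_c55 LD3_c33)))))))))))))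
theorem f216356 : Led Lsl_dt (LP (LK LD1_c1 LD2_c9 LD3_c34)) = (LP (LK LD1_c0 LD2_c55 LD3_c33)) :=
  Lgr Lrot42 (Lpr_df (f216354 IH) (Lpn (LP (LK LD1_c0 LD2_c55 LD3_c33))))
theorem f31587 : Led Lsl_gf (LP (LK LD1_c1 LD2_c9 LD3_c34)) = (LP (LK LD1_c1 LD2_c56 LD3_c40)) :=
  Lgr Lrot47 (Lpr_gt (f31537 IH) (Lpr_af (K11.f31575 IH) (Lpe (K8.f28641 IH) (Lpn (LP (LK LD1_c1 LD2_c56 LD3_c40))))))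
theorem f27881 : Led Lsl_et (LP (LK LD1_c0 LD2_c27 LD3_c47)) = (LP (LK LD1_c0 LD2_c12 LD3_c17)) :=
  Lre_e IH (LK LD1_c0 LD2_c27 LD3_c47) (LK LD1_c0 LD2_c12 LD3_c17) Lrfl Lrfl
theorem f8095 : Led Lsl_et (LP (LK LD1_c0 LD2_c5 LD3_c31)) = (LP (LK LD1_c0 LD2_c11 LD3_c59)) :=
  Lre_e IH (LK LD1_c0 LD2_c5 LD3_c31) (LK LD1_c0 LD2_c11 LD3_c59) Lrfl Lrfl
theorem f8096 : Led Lsl_gt (LP (LK LD1_c0 LD2_c11 LD3_c59)) = (LP (LK LD1_c0 LD2_c27 LD3_c0)) :=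
  Lre_g IH (LK LD1_c0 LD2_c11 LD3_c59) (LK LD1_c0 LD2_c27 LD3_c0) Lrfl Lrfl
theorem f8101 : Led Lsl_et (LP (LK LD1_c0 LD2_c59 LD3_c20)) = (LP (LK LD1_c0 LD2_c27 LD3_c0)) :=
  Lre_e IH (LK LD1_c0 LD2_c59 LD3_c20) (LK LD1_c0 LD2_c27 LD3_c0) Lrfl Lrfl
theorem f8102 : Led Lsl_dt (LP (LK LD1_c0 LD2_c59 LD3_c20)) = (LP (LK LD1_c2 LD2_c4 LD3_c38)) :=
  Lre_d IH (LK LD1_c0 LD2_c59 LD3_c20) (LK LD1_c2 LD2_c4 LD3_c38) Lrfl Lrfl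
theorem f27883 : Led Lsl_gf (LP (LK LD1_c1 LD2_c0 LD3_c56)) = (LP (LK LD1_c2 LD2_c4 LD3_c38)) :=
  Lgr Lrot145 (Lpe (K0.f27882 IH) (Lpr_et (f27881 IH) (Lpr_gt (K0.f27815 IH) (Lpe (K0.f2432 IH) (Lpe (K0.f8069 IH) (Lpe (K0.f8094 IH) (Lpr_et (f8095 IH) (Lpr_gt (f8096 IH) (Lpe (f8101 IH) (Lpr_dt (f8102 IH) (Lpn (LP (LK LD1_c2 LD2_c4 LD3_c38)))))))))))))
theorem f32045 : Led Lsl_gf (LP (LK LD1_c2 LD2_c4 LD3_c38)) = (LP (LK LD1_c2 LD2_c7 LD3_c29)) :=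
  Lgr Lrot47 (Lpe (f27883 IH) (Lpr_af (K11.f32042 IH) (Lpe (K11.f32041 IH) (Lpn (LP (LK LD1_c2 LD2_c7 LD3_c29))))))
theorem f27895 : Led Lsl_dt (LP (LK LD1_c2 LD2_c4 LD3_c38)) = (LP (LK LD1_c0 LD2_c59 LD3_c20)) :=
  Lre_d IH (LK LD1_c2 LD2_c4 LD3_c38) (LK LD1_c0 LD2_c59 LD3_c20) Lrfl Lrfl
theorem f216367 : Led Lsl_cf (LP (LK LD1_c0 LD2_c59 LD3_c20)) = (LP (LK LD1_c0 LD2_c55 LD3_c33)) :=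
  Lgr Lrot14 (Lpe (f27895 IH) (Lpr_gf (f32045 IH) (Lpe (K0.f28488 IH) (Lpe (K10.f190226 IH) (Lpe (K9.f183887 IH) (Lpr_gt (K10.f31564 IH) (Lpr_dt (K1.f28625 IH) (Lpe (f31587 IH) (Lpr_dt (f216356 IH) (Lpn (LP (LK LD1_c0 LD2_c55 LD3_c33))))))))))))
theorem f216369 : Led Lsl_ct (LP (LK LD1_c0 LD2_c27 LD3_c0)) = (LP (LK LD1_c0 LD2_c25 LD3_c12)) :=
  Lgr Lrot15 (Lpe (f8101 IH) (Lpr_cf (f216367 IH) (Lpe (f182382 IH) (Lpn (LP (LK LD1_c0 LD2_c25 LD3_c12))))))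
theorem f216382 : Led Lsl_cf (LP (LK LD1_c0 LD2_c27 LD3_c0)) = (LP (LK LD1_c0 LD2_c25 LD3_c12)) :=
  Lgr Lrot11 (Lpr_ct (f216369 IH) (Lpn (LP (LK LD1_c0 LD2_c25 LD3_c12))))
theorem f52684 : Led Lsl_bt (LP (LK LD1_c0 LD2_c11 LD3_c55)) = (LP (LK LD1_c0 LD2_c11 LD3_c14)) :=
  Lgr Lrot95 (Lpr_df (K10.f52680 IH) (Lpe (K10.f51568 IH) (Lpe (K11.f34703 IH) (Lpn (LP (LK LD1_c0 LD2_c11 LD3_c14))))))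
theorem f216397 : Led Lsl_gt (LP (LK LD1_c0 LD2_c27 LD3_c0)) = (LP (LK LD1_c0 LD2_c36 LD3_c31)) :=
  Lgr Lrot149 (Lpr_cf (f216382 IH) (Lpe (K11.f28571 IH) (Lpe (f52684 IH) (Lpr_ct (K10.f52678 IH) (Lpe (K10.f193287 IH) (Lpe (K10.f53083 IH) (Lpe (K10.f192801 IH) (Lpe (K11.f28160 IH) (Lpe (K11.f201286 IH) (Lpr_ct (K11.f201288 IH) (Lpn (LP (LK LD1_c0 LD2_c36 LD3_c31)))))))))))))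
theorem f216399 : Led Lsl_bf (LP (LK LD1_c0 LD2_c25 LD3_c12)) = (LP (LK LD1_c0 LD2_c25 LD3_c12)) :=
  Lgr Lrot34 (Lpe (K11.f28571 IH) (Lpe (f52684 IH) (Lpr_ct (K10.f52678 IH) (Lpe (K10.f193287 IH) (Lpe (K10.f53083 IH) (Lpe (K11.f28160 IH) (Lpe (K11.f201286 IH) (Lpr_ct (K11.f201288 IH) (Lpe (f216397 IH) (Lpr_cf (f216382 IH) (Lpn (LP (LK LD1_c0 LD2_c25 LD3_c12)))))))))))))
theorem f216401 : Led Lsl_bt (LP (LK LD1_c0 LD2_c55 LD3_c32)) = (LP (LK LD1_c0 LD2_c55 LD3_c32)) :=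
  Lgr Lrot95 (Lpe (f28572 IH) (Lpr_bf (f216399 IH) (Lpe (K11.f52249 IH) (Lpn (LP (LK LD1_c0 LD2_c55 LD3_c32))))))
theorem f168314 : Led Lsl_bt (LP (LK LD1_c0 LD2_c32 LD3_c36)) = (LP (LK LD1_c0 LD2_c14 LD3_c38)) :=
  Lre_b IH (LK LD1_c0 LD2_c32 LD3_c36) (LK LD1_c0 LD2_c14 LD3_c38) Lrfl Lrfl
theorem f168329 : Led Lsl_ct (LP (LK LD1_c0 LD2_c32 LD3_c36)) = (LP (LK LD1_c1 LD2_c10 LD3_c22)) :=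
  Lre_c IH (LK LD1_c0 LD2_c32 LD3_c36) (LK LD1_c1 LD2_c10 LD3_c22) Lrfl Lrfl
theorem f216413 : Led Lsl_gf (LP (LK LD1_c1 LD2_c57 LD3_c25)) = (LP (LK LD1_c1 LD2_c10 LD3_c22)) :=
  Lgr Lrot126 (Lpe (K11.f52691 IH) (Lpr_bt (f216401 IH) (Lpe (f216325 IH) (Lpr_ct (f6826 IH) (Lpe (f200389 IH) (Lpe (K10.f170294 IH) (Lpr_bt (K10.f170293 IH) (Lpe (K10.f179113 IH) (Lpe (f168314 IH) (Lpr_ct (f168329 IH) (Lpn (LP (LK LD1_c1 LD2_c10 LD3_c22)))))))))))))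
theorem f49839 : Led Lsl_et (LP (LK LD1_c8 LD2_c15 LD3_c51)) = (LP (LK LD1_c4 LD2_c7 LD3_c55)) :=
  Lre_e IH (LK LD1_c8 LD2_c15 LD3_c51) (LK LD1_c4 LD2_c7 LD3_c55) Lrfl Lrfl
theorem f190792 : Led Lsl_et (LP (LK LD1_c4 LD2_c53 LD3_c59)) = (LP (LK LD1_c9 LD2_c39 LD3_c25)) :=
  Lre_e IH (LK LD1_c4 LD2_c53 LD3_c59) (LK LD1_c9 LD2_c39 LD3_c25) Lrfl Lrfl
theorem f190793 : Led Lsl_bf (LP (LK LD1_c8 LD2_c15 LD3_c51)) = (LP (LK LD1_c9 LD2_c39 LD3_c25)) :=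
  Lgr Lrot96 (Lpr_et (f49839 IH) (Lpr_bt (K10.f190785 IH) (Lpr_et (f190792 IH) (Lpn (LP (LK LD1_c9 LD2_c39 LD3_c25))))))
theorem f188589 : Led Lsl_dt (LP (LK LD1_c2 LD2_c4 LD3_c21)) = (LP (LK LD1_c4 LD2_c13 LD3_c58)) :=
  Lre_d IH (LK LD1_c2 LD2_c4 LD3_c21) (LK LD1_c4 LD2_c13 LD3_c58) Lrfl Lrfl
theorem f188604 : Led Lsl_et (LP (LK LD1_c4 LD2_c13 LD3_c58)) = (LP (LK LD1_c8 LD2_c26 LD3_c33)) :=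
  Lre_e IH (LK LD1_c4 LD2_c13 LD3_c58) (LK LD1_c8 LD2_c26 LD3_c33) Lrfl Lrfl
theorem f188725 : Led Lsl_df (LP (LK LD1_c8 LD2_c15 LD3_c51)) = (LP (LK LD1_c8 LD2_c26 LD3_c33)) :=
  Lgr Lrot70 (Lpr_et (f49839 IH) (Lpr_dt (K10.f188720 IH) (Lpr_et (K10.f188583 IH) (Lpr_dt (f188589 IH) (Lpr_et (f188604 IH) (Lpn (LP (LK LD1_c8 LD2_c26 LD3_c33))))))))
theorem f188727 : Led Lsl_dt (LP (LK LD1_c8 LD2_c15 LD3_c51)) = (LP (LK LD1_c8 LD2_c26 LD3_c33)) :=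
  Lgr Lrot42 (Lpr_df (f188725 IH) (Lpn (LP (LK LD1_c8 LD2_c26 LD3_c33))))
theorem f42755 : Led Lsl_dt (LP (LK LD1_c3 LD2_c58 LD3_c14)) = (LP (LK LD1_c1 LD2_c55 LD3_c55)) :=
  Lre_d IH (LK LD1_c3 LD2_c58 LD3_c14) (LK LD1_c1 LD2_c55 LD3_c55) Lrfl Lrfl
theorem f188590 : Led Lsl_bf (LP (LK LD1_c3 LD2_c58 LD3_c14)) = (LP (LK LD1_c4 LD2_c13 LD3_c58)) :=
  Lgr Lrot93 (Lpr_dt (f42755 IH) (Lpr_bt (K10.f188586 IH) (Lpr_dt (f188589 IH) (Lpn (LP (LK LD1_c4 LD2_c13 LD3_c58))))))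
theorem f188641 : Led Lsl_et (LP (LK LD1_c3 LD2_c58 LD3_c14)) = (LP (LK LD1_c7 LD2_c57 LD3_c52)) :=
  Lre_e IH (LK LD1_c3 LD2_c58 LD3_c14) (LK LD1_c7 LD2_c57 LD3_c52) Lrfl Lrfl
theorem f188642 : Led Lsl_et (LP (LK LD1_c8 LD2_c26 LD3_c33)) = (LP (LK LD1_c4 LD2_c13 LD3_c58)) :=
  Lre_e IH (LK LD1_c8 LD2_c26 LD3_c33) (LK LD1_c4 LD2_c13 LD3_c58) Lrfl Lrfl
theorem f188643 : Led Lsl_bt (LP (LK LD1_c7 LD2_c57 LD3_c52)) = (LP (LK LD1_c8 LD2_c26 LD3_c33)) :=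
  Lgr Lrot119 (Lpe (f188641 IH) (Lpr_bf (f188590 IH) (Lpe (f188642 IH) (Lpn (LP (LK LD1_c8 LD2_c26 LD3_c33))))))
theorem f188646 : Led Lsl_bf (LP (LK LD1_c7 LD2_c57 LD3_c52)) = (LP (LK LD1_c8 LD2_c26 LD3_c33)) :=
  Lgr Lrot24 (Lpr_bt (f188643 IH) (Lpn (LP (LK LD1_c8 LD2_c26 LD3_c33))))
theorem f190797 : Led Lsl_dt (LP (LK LD1_c7 LD2_c57 LD3_c52)) = (LP (LK LD1_c9 LD2_c39 LD3_c25)) :=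
  Lgr Lrot79 (Lpr_bf (f188646 IH) (Lpe (f188727 IH) (Lpr_bf (f190793 IH) (Lpn (LP (LK LD1_c9 LD2_c39 LD3_c25))))))
theorem f190801 : Led Lsl_df (LP (LK LD1_c7 LD2_c57 LD3_c52)) = (LP (LK LD1_c9 LD2_c39 LD3_c25)) :=
  Lgr Lrot38 (Lpr_dt (f190797 IH) (Lpn (LP (LK LD1_c9 LD2_c39 LD3_c25))))
theorem f188693 : Led Lsl_et (LP (LK LD1_c7 LD2_c57 LD3_c52)) = (LP (LK LD1_c3 LD2_c58 LD3_c14)) :=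
  Lre_e IH (LK LD1_c7 LD2_c57 LD3_c52) (LK LD1_c3 LD2_c58 LD3_c14) Lrfl Lrfl
theorem f188582 : Led Lsl_et (LP (LK LD1_c1 LD2_c55 LD3_c55)) = (LP (LK LD1_c3 LD2_c58 LD3_c15)) :=
  Lre_e IH (LK LD1_c1 LD2_c55 LD3_c55) (LK LD1_c3 LD2_c58 LD3_c15) Lrfl Lrfl
theorem f190811 : Led Lsl_dt (LP (LK LD1_c3 LD2_c58 LD3_c15)) = (LP (LK LD1_c4 LD2_c53 LD3_c59)) :=
  Lgr Lrot77 (Lpe (f188582 IH) (Lpe (f42755 IH) (Lpe (f188693 IH) (Lpr_df (f190801 IH) (Lpe (f190792 IH) (Lpn (LP (LK LD1_c4 LD2_c53 LD3_c59))))))))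
theorem f190813 : Led Lsl_gf (LP (LK LD1_c1 LD2_c55 LD3_c55)) = (LP (LK LD1_c2 LD2_c23 LD3_c1)) :=
  Lgr Lrot141 (Lpe (K10.f188584 IH) (Lpr_dt (f190811 IH) (Lpr_gt (K10.f44450 IH) (Lpe (K9.f44463 IH) (Lpr_et (K1.f43397 IH) (Lpe (K1.f44573 IH) (Lpe (K1.f33127 IH) (Lpe (K1.f45775 IH) (Lpr_df (K1.f44558 IH) (Lpr_et (K8.f44551 IH) (Lpn (LP (LK LD1_c2 LD2_c23 LD3_c1)))))))))))))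
theorem f42754 : Led Lsl_ct (LP (LK LD1_c0 LD2_c54 LD3_c41)) = (LP (LK LD1_c1 LD2_c55 LD3_c55)) :=
  Lre_c IH (LK LD1_c0 LD2_c54 LD3_c41) (LK LD1_c1 LD2_c55 LD3_c55) Lrfl Lrfl
theorem f167794 : Led Lsl_bt (LP (LK LD1_c0 LD2_c54 LD3_c41)) = (LP (LK LD1_c1 LD2_c55 LD3_c54)) :=
  Lre_b IH (LK LD1_c0 LD2_c54 LD3_c41) (LK LD1_c1 LD2_c55 LD3_c54) Lrfl Lrfl
theorem f167795 : Led Lsl_cf (LP (LK LD1_c1 LD2_c55 LD3_c54)) = (LP (LK LD1_c1 LD2_c9 LD3_c49)) :=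
  Lgr Lrot11 (Lpr_ct (K9.f167792 IH) (Lpn (LP (LK LD1_c1 LD2_c9 LD3_c49))))
theorem f201072 : Led Lsl_gt (LP (LK LD1_c1 LD2_c55 LD3_c54)) = (LP (LK LD1_c1 LD2_c19 LD3_c3)) :=
  Lgr Lrot65 (Lpr_cf (f167795 IH) (Lpr_bt (K10.f188565 IH) (Lpe (K10.f54512 IH) (Lpe (K11.f166439 IH) (Lpr_ct (K10.f52669 IH) (Lpe (K11.f28215 IH) (Lpr_cf (K11.f201045 IH) (Lpe (K11.f28140 IH) (Lpr_bf (K11.f196538 IH) (Lpr_ct (K10.f172016 IH) (Lpn (LP (LK LD1_c1 LD2_c19 LD3_c3)))))))))))))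
theorem f212493 : Led Lsl_ct (LP (LK LD1_c0 LD2_c36 LD3_c31)) = (LP (LK LD1_c0 LD2_c26 LD3_c32)) :=
  Lgr Lrot64 (Lpr_bt (K11.f194658 IH) (Lpe (f201072 IH) (Lpe (f167794 IH) (Lpr_ct (f42754 IH) (Lpr_gf (f190813 IH) (Lpr_cf (K10.f53948 IH) (Lpr_gf (f212487 IH) (Lpe (K11.f201074 IH) (Lpe (K11.f201045 IH) (Lpe (K11.f201298 IH) (Lpn (LP (LK LD1_c0 LD2_c26 LD3_c32)))))))))))))
theorem f182188 : Led Lsl_dt (LP (LK LD1_c1 LD2_c19 LD3_c4)) = (LP (LK LD1_c0 LD2_c36 LD3_c31)) :=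
  Lre_d IH (LK LD1_c1 LD2_c19 LD3_c4) (LK LD1_c0 LD2_c36 LD3_c31) Lrfl Lrfl
theorem f216415 : Led Lsl_gt (LP (LK LD1_c0 LD2_c59 LD3_c21)) = (LP (LK LD1_c1 LD2_c19 LD3_c4)) :=
  Lgr Lrot49 (Lpr_df (K11.f196347 IH) (Lpr_gf (f216413 IH) (Lpe (f168329 IH) (Lpe (K11.f201329 IH) (Lpr_dt (K11.f166446 IH) (Lpr_gt (K11.f166422 IH) (Lpr_dt (K11.f201290 IH) (Lpe (f212493 IH) (Lpe (f182188 IH) (Lpn (LP (LK LD1_c1 LD2_c19 LD3_c4))))))))))))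
theorem f194650 : Led Lsl_ef (LP (LK LD1_c1 LD2_c19 LD3_c3)) = (LP (LK LD1_c1 LD2_c19 LD3_c3)) :=
  Lgr Lrot28 (Lpr_ct (K11.f182176 IH) (Lpr_et (K10.f194645 IH) (Lpr_ct (K10.f172016 IH) (Lpn (LP (LK LD1_c1 LD2_c19 LD3_c3))))))
theorem f182177 : Led Lsl_bt (LP (LK LD1_c1 LD2_c19 LD3_c3)) = (LP (LK LD1_c0 LD2_c36 LD3_c31)) :=
  Lre_b IH (LK LD1_c1 LD2_c19 LD3_c3) (LK LD1_c0 LD2_c36 LD3_c31) Lrfl Lrfl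
theorem f194659 : Led Lsl_et (LP (LK LD1_c0 LD2_c36 LD3_c31)) = (LP (LK LD1_c0 LD2_c36 LD3_c31)) :=
  Lgr Lrot74 (Lpe (f182177 IH) (Lpr_ef (f194650 IH) (Lpe (K11.f194658 IH) (Lpn (LP (LK LD1_c0 LD2_c36 LD3_c31))))))
theorem f168339 : Led Lsl_et (LP (LK LD1_c0 LD2_c32 LD3_c34)) = (LP (LK LD1_c1 LD2_c10 LD3_c22)) :=
  Lre_e IH (LK LD1_c0 LD2_c32 LD3_c34) (LK LD1_c1 LD2_c10 LD3_c22) Lrfl Lrfl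
theorem f168350 : Led Lsl_dt (LP (LK LD1_c0 LD2_c32 LD3_c34)) = (LP (LK LD1_c1 LD2_c10 LD3_c21)) :=
  Lre_d IH (LK LD1_c0 LD2_c32 LD3_c34) (LK LD1_c1 LD2_c10 LD3_c21) Lrfl Lrfl
theorem f216419 : Led Lsl_gt (LP (LK LD1_c1 LD2_c19 LD3_c11)) = (LP (LK LD1_c1 LD2_c10 LD3_c21)) :=
  Lgr Lrot112 (Lpe (K11.f194684 IH) (Lpr_et (K11.f182183 IH) (Lpe (K10.f182178 IH) (Lpe (f194659 IH) (Lpr_dt (K10.f182187 IH) (Lpe (f216415 IH) (Lpr_df (K11.f196347 IH) (Lpr_gf (f216413 IH) (Lpe (f168339 IH) (Lpr_dt (f168350 IH) (Lpn (LP (LK LD1_c1 LD2_c10 LD3_c21)))))))))))))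
theorem f179542 : Led Lsl_ct (LP (LK LD1_c1 LD2_c19 LD3_c11)) = (LP (LK LD1_c2 LD2_c45 LD3_c39)) :=
  Lre_c IH (LK LD1_c1 LD2_c19 LD3_c11) (LK LD1_c2 LD2_c45 LD3_c39) Lrfl Lrfl
theorem f196318 : Led Lsl_dt (LP (LK LD1_c1 LD2_c55 LD3_c22)) = (LP (LK LD1_c0 LD2_c54 LD3_c25)) :=
  Lre_d IH (LK LD1_c1 LD2_c55 LD3_c22) (LK LD1_c0 LD2_c54 LD3_c25) Lrfl Lrfl
theorem f28903 : Led Lsl_dt (LP (LK LD1_c0 LD2_c28 LD3_c0)) = (LP (LK LD1_c1 LD2_c1 LD3_c20)) :=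
  Lre_d IH (LK LD1_c0 LD2_c28 LD3_c0) (LK LD1_c1 LD2_c1 LD3_c20) Lrfl Lrfl
theorem f28933 : Led Lsl_ct (LP (LK LD1_c2 LD2_c8 LD3_c22)) = (LP (LK LD1_c1 LD2_c1 LD3_c20)) :=
  Lre_c IH (LK LD1_c2 LD2_c8 LD3_c22) (LK LD1_c1 LD2_c1 LD3_c20) Lrfl Lrfl
theorem f196962 : Led Lsl_gf (LP (LK LD1_c2 LD2_c8 LD3_c22)) = (LP (LK LD1_c2 LD2_c45 LD3_c39)) :=
  Lgr Lrot104 (Lpr_ct (f28933 IH) (Lpe (f28903 IH) (Lpr_cf (K9.f28931 IH) (Lpe (K10.f29603 IH) (Lpe (K0.f6935 IH) (Lpr_gf (K10.f196303 IH) (Lpe (f196318 IH) (Lpr_gt (K11.f196952 IH) (Lpr_ct (f179542 IH) (Lpn (LP (LK LD1_c2 LD2_c45 LD3_c39))))))))))))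
theorem f28946 : Led Lsl_dt (LP (LK LD1_c2 LD2_c8 LD3_c22)) = (LP (LK LD1_c4 LD2_c21 LD3_c42)) :=
  Lre_d IH (LK LD1_c2 LD2_c8 LD3_c22) (LK LD1_c4 LD2_c21 LD3_c42) Lrfl Lrfl
theorem f168525 : Led Lsl_dt (LP (LK LD1_c1 LD2_c10 LD3_c21)) = (LP (LK LD1_c0 LD2_c32 LD3_c34)) :=
  Lre_d IH (LK LD1_c1 LD2_c10 LD3_c21) (LK LD1_c0 LD2_c32 LD3_c34) Lrfl Lrfl
theorem f28941 : Led Lsl_ct (LP (LK LD1_c1 LD2_c56 LD3_c56)) = (LP (LK LD1_c0 LD2_c55 LD3_c14)) :=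
  Lre_c IH (LK LD1_c1 LD2_c56 LD3_c56) (LK LD1_c0 LD2_c55 LD3_c14) Lrfl Lrfl
theorem f216424 : Led Lsl_gt (LP (LK LD1_c4 LD2_c21 LD3_c42)) = (LP (LK LD1_c4 LD2_c0 LD3_c19)) :=
  Lgr Lrot49 (Lpe (f28946 IH) (Lpr_gf (f196962 IH) (Lpe (f179542 IH) (Lpr_gt (f216419 IH) (Lpr_dt (f168525 IH) (Lpr_gt (f182314 IH) (Lpr_dt (K1.f28758 IH) (Lpe (f28941 IH) (Lpe (K1.f29579 IH) (Lpn (LP (LK LD1_c4 LD2_c0 LD3_c19))))))))))))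
theorem f6951 : Led Lsl_dt (LP (LK LD1_c1 LD2_c56 LD3_c48)) = (LP (LK LD1_c4 LD2_c0 LD3_c5)) :=
  Lre_d IH (LK LD1_c1 LD2_c56 LD3_c48) (LK LD1_c4 LD2_c0 LD3_c5) Lrfl Lrfl
theorem f174956 : Led Lsl_ct (LP (LK LD1_c0 LD2_c36 LD3_c59)) = (LP (LK LD1_c1 LD2_c19 LD3_c51)) :=
  Lre_c IH (LK LD1_c0 LD2_c36 LD3_c59) (LK LD1_c1 LD2_c19 LD3_c51) Lrfl Lrfl
theorem f172849 : Led Lsl_bt (LP (LK LD1_c0 LD2_c32 LD3_c38)) = (LP (LK LD1_c0 LD2_c14 LD3_c39)) :=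
  Lre_b IH (LK LD1_c0 LD2_c32 LD3_c38) (LK LD1_c0 LD2_c14 LD3_c39) Lrfl Lrfl
theorem f181568 : Led Lsl_cf (LP (LK LD1_c0 LD2_c32 LD3_c38)) = (LP (LK LD1_c1 LD2_c1 LD3_c42)) :=
  Lgr Lrot97 (Lpr_bt (f172849 IH) (Lpr_ct (K9.f174953 IH) (Lpr_bt (K10.f174955 IH) (Lpr_ct (f174956 IH) (Lpr_bt (K10.f181562 IH) (Lpn (LP (LK LD1_c1 LD2_c1 LD3_c42))))))))
theorem f29617 : Led Lsl_gt (LP (LK LD1_c1 LD2_c1 LD3_c45)) = (LP (LK LD1_c2 LD2_c9 LD3_c11)) :=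
  Lre_g IH (LK LD1_c1 LD2_c1 LD3_c45) (LK LD1_c2 LD2_c9 LD3_c11) Lrfl Lrfl
theorem f216590 : Led Lsl_cf (LP (LK LD1_c4 LD2_c21 LD3_c42)) = (LP (LK LD1_c2 LD2_c9 LD3_c11)) :=
  Lgr Lrot169 (Lpr_gt (f216424 IH) (Lpr_ct (K1.f29247 IH) (Lpe (f6951 IH) (Lpe (K1.f6950 IH) (Lpe (K10.f197799 IH) (Lpr_cf (f181568 IH) (Lpe (K10.f39202 IH) (Lpe (K1.f38928 IH) (Lpr_gt (f29617 IH) (Lpn (LP (LK LD1_c2 LD2_c9 LD3_c11))))))))))))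
theorem f216646 : Led Lsl_ct (LP (LK LD1_c4 LD2_c21 LD3_c42)) = (LP (LK LD1_c2 LD2_c9 LD3_c11)) :=
  Lgr Lrot59 (Lpr_cf (f216590 IH) (Lpn (LP (LK LD1_c2 LD2_c9 LD3_c11))))
theorem f29663 : Led Lsl_at (LP (LK LD1_c2 LD2_c24 LD3_c24)) = (LP (LK LD1_c4 LD2_c0 LD3_c19)) :=
  Lgr Lrot51 (Lpe (K1.f2493 IH) (Lpr_af (K1.f29650 IH) (Lpe (K1.f29579 IH) (Lpn (LP (LK LD1_c4 LD2_c0 LD3_c19))))))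
theorem f29961 : Led Lsl_et (LP (LK LD1_c15 LD2_c6 LD3_c3)) = (LP (LK LD1_c8 LD2_c1 LD3_c12)) :=
  Lre_e IH (LK LD1_c15 LD2_c6 LD3_c3) (LK LD1_c8 LD2_c1 LD3_c12) Lrfl Lrfl
theorem f29963 : Led Lsl_af (LP (LK LD1_c15 LD2_c6 LD3_c3)) = (LP (LK LD1_c15 LD2_c7 LD3_c45)) :=
  Lgr Lrot50 (Lpr_et (f29961 IH) (Lpr_at (K1.f29947 IH) (Lpr_et (K1.f29962 IH) (Lpn (LP (LK LD1_c15 LD2_c7 LD3_c45))))))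
theorem f30160 : Led Lsl_ft (LP (LK LD1_c15 LD2_c6 LD3_c3)) = (LP (LK LD1_c8 LD2_c1 LD3_c13)) :=
  Lre_f IH (LK LD1_c15 LD2_c6 LD3_c3) (LK LD1_c8 LD2_c1 LD3_c13) Lrfl Lrfl
theorem f30161 : Led Lsl_ft (LP (LK LD1_c8 LD2_c2 LD3_c2)) = (LP (LK LD1_c15 LD2_c7 LD3_c45)) :=
  Lre_f IH (LK LD1_c8 LD2_c2 LD3_c2) (LK LD1_c15 LD2_c7 LD3_c45) Lrfl Lrfl
theorem f30162 : Led Lsl_at (LP (LK LD1_c8 LD2_c1 LD3_c13)) = (LP (LK LD1_c8 LD2_c2 LD3_c2)) :=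
  Lgr Lrot66 (Lpe (f30160 IH) (Lpr_af (f29963 IH) (Lpe (f30161 IH) (Lpn (LP (LK LD1_c8 LD2_c2 LD3_c2))))))
theorem f30174 : Led Lsl_af (LP (LK LD1_c8 LD2_c1 LD3_c13)) = (LP (LK LD1_c8 LD2_c2 LD3_c2)) :=
  Lgr Lrot0 (Lpr_at (f30162 IH) (Lpn (LP (LK LD1_c8 LD2_c2 LD3_c2))))
theorem f29264 : Led Lsl_et (LP (LK LD1_c4 LD2_c0 LD3_c5)) = (LP (LK LD1_c8 LD2_c1 LD3_c13)) :=
  Lre_e IH (LK LD1_c4 LD2_c0 LD3_c5) (LK LD1_c8 LD2_c1 LD3_c13) Lrfl Lrfl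
theorem f29265 : Led Lsl_cf (LP (LK LD1_c8 LD2_c1 LD3_c39)) = (LP (LK LD1_c8 LD2_c1 LD3_c13)) :=
  Lgr Lrot39 (Lpr_et (K1.f29263 IH) (Lpr_ct (K1.f29247 IH) (Lpr_et (f29264 IH) (Lpn (LP (LK LD1_c8 LD2_c1 LD3_c13))))))
theorem f29727 : Led Lsl_at (LP (LK LD1_c8 LD2_c1 LD3_c39)) = (LP (LK LD1_c4 LD2_c53 LD3_c15)) :=
  Lgr Lrot100 (Lpr_af (K1.f29718 IH) (Lpn (LP (LK LD1_c4 LD2_c53 LD3_c15))))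
theorem f30194 : Led Lsl_ct (LP (LK LD1_c4 LD2_c53 LD3_c15)) = (LP (LK LD1_c8 LD2_c2 LD3_c2)) :=
  Lgr Lrot111 (Lpe (f29727 IH) (Lpr_cf (f29265 IH) (Lpr_af (f30174 IH) (Lpn (LP (LK LD1_c8 LD2_c2 LD3_c2))))))
theorem f30212 : Led Lsl_cf (LP (LK LD1_c9 LD2_c38 LD3_c32)) = (LP (LK LD1_c15 LD2_c7 LD3_c45)) :=
  Lgr Lrot108 (Lpr_ft (K1.f2510 IH) (Lpr_ct (f30194 IH) (Lpr_ft (f30161 IH) (Lpn (LP (LK LD1_c15 LD2_c7 LD3_c45))))))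
theorem f29930 : Led Lsl_ct (LP (LK LD1_c15 LD2_c7 LD3_c39)) = (LP (LK LD1_c8 LD2_c2 LD3_c1)) :=
  Lre_c IH (LK LD1_c15 LD2_c7 LD3_c39) (LK LD1_c8 LD2_c2 LD3_c1) Lrfl Lrfl
theorem f30223 : Led Lsl_et (LP (LK LD1_c9 LD2_c38 LD3_c32)) = (LP (LK LD1_c15 LD2_c7 LD3_c39)) :=
  Lgr Lrot158 (Lpr_cf (f30212 IH) (Lpe (K1.f29962 IH) (Lpe (f29930 IH) (Lpn (LP (LK LD1_c15 LD2_c7 LD3_c39))))))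
theorem f2513 : Led Lsl_ft (LP (LK LD1_c4 LD2_c53 LD3_c15)) = (LP (LK LD1_c9 LD2_c38 LD3_c32)) :=
  Lre_f IH (LK LD1_c4 LD2_c53 LD3_c15) (LK LD1_c9 LD2_c38 LD3_c32) Lrfl Lrfl
theorem f30154 : Led Lsl_ft (LP (LK LD1_c15 LD2_c7 LD3_c39)) = (LP (LK LD1_c8 LD2_c1 LD3_c60)) :=
  Lre_f IH (LK LD1_c15 LD2_c7 LD3_c39) (LK LD1_c8 LD2_c1 LD3_c60) Lrfl Lrfl
theorem f30235 : Led Lsl_ff (LP (LK LD1_c2 LD2_c24 LD3_c24)) = (LP (LK LD1_c4 LD2_c0 LD3_c30)) :=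
  Lgr Lrot72 (Lpr_et (K1.f2494 IH) (Lpr_ft (f2513 IH) (Lpr_et (f30223 IH) (Lpr_ft (f30154 IH) (Lpr_et (K1.f29589 IH) (Lpn (LP (LK LD1_c4 LD2_c0 LD3_c30))))))))
theorem f216588 : Led Lsl_gf (LP (LK LD1_c4 LD2_c21 LD3_c42)) = (LP (LK LD1_c4 LD2_c0 LD3_c30)) :=
  Lgr Lrot47 (Lpr_gt (f216424 IH) (Lpe (f29663 IH) (Lpr_ff (f30235 IH) (Lpn (LP (LK LD1_c4 LD2_c0 LD3_c30))))))
theorem f38926 : Led Lsl_gf (LP (LK LD1_c3 LD2_c57 LD3_c36)) = (LP (LK LD1_c2 LD2_c9 LD3_c11)) :=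
  Lgr Lrot76 (Lpr_af (K1.f38904 IH) (Lpe (K1.f38923 IH) (Lpr_gt (f29617 IH) (Lpn (LP (LK LD1_c2 LD2_c9 LD3_c11))))))
theorem f216699 : Led Lsl_gt (LP (LK LD1_c1 LD2_c1 LD3_c23)) = (LP (LK LD1_c0 LD2_c28 LD3_c1)) :=
  Lre_g IH (LK LD1_c1 LD2_c1 LD3_c23) (LK LD1_c0 LD2_c28 LD3_c1) Lrfl Lrfl
theorem f216700 : Led Lsl_ct (LP (LK LD1_c2 LD2_c8 LD3_c27)) = (LP (LK LD1_c1 LD2_c1 LD3_c23)) :=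
  Lre_c IH (LK LD1_c2 LD2_c8 LD3_c27) (LK LD1_c1 LD2_c1 LD3_c23) Lrfl Lrfl
theorem f216701 : Led Lsl_gt (LP (LK LD1_c2 LD2_c24 LD3_c25)) = (LP (LK LD1_c2 LD2_c8 LD3_c27)) :=
  Lgr Lrot9 (Lpr_df (K1.f29584 IH) (Lpe (f216588 IH) (Lpr_ct (f216646 IH) (Lpe (f38926 IH) (Lpr_ct (K1.f38938 IH) (Lpe (K1.f38930 IH) (Lpe (K1.f38929 IH) (Lpe (f216699 IH) (Lpe (f216700 IH) (Lpn (LP (LK LD1_c2 LD2_c8 LD3_c27))))))))))))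
theorem f2167 : Led Lsl_ct (LP (LK LD1_c1 LD2_c9 LD3_c21)) = (LP (LK LD1_c2 LD2_c24 LD3_c25)) :=
  Lre_c IH (LK LD1_c1 LD2_c9 LD3_c21) (LK LD1_c2 LD2_c24 LD3_c25) Lrfl Lrfl
theorem f29646 : Led Lsl_bt (LP (LK LD1_c4 LD2_c0 LD3_c14)) = (LP (LK LD1_c1 LD2_c56 LD3_c54)) :=
  Lre_b IH (LK LD1_c4 LD2_c0 LD3_c14) (LK LD1_c1 LD2_c56 LD3_c54) Lrfl Lrfl
theorem f42091 : Led Lsl_gt (LP (LK LD1_c2 LD2_c58 LD3_c21)) = (LP (LK LD1_c6 LD2_c4 LD3_c16)) :=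
  Lre_g IH (LK LD1_c2 LD2_c58 LD3_c21) (LK LD1_c6 LD2_c4 LD3_c16) Lrfl Lrfl
theorem f170625 : Led Lsl_bt (LP (LK LD1_c0 LD2_c26 LD3_c29)) = (LP (LK LD1_c0 LD2_c58 LD3_c22)) :=
  Lre_b IH (LK LD1_c0 LD2_c26 LD3_c29) (LK LD1_c0 LD2_c58 LD3_c22) Lrfl Lrfl
theorem f200132 : Led Lsl_cf (LP (LK LD1_c6 LD2_c4 LD3_c16)) = (LP (LK LD1_c4 LD2_c0 LD3_c14)) :=
  Lgr Lrot163 (Lpe (f42091 IH) (Lpe (K9.f29023 IH) (Lpr_gf (K11.f200129 IH) (Lpe (f170625 IH) (Lpr_ct (K9.f53146 IH) (Lpr_gf (K9.f170917 IH) (Lpr_cf (K9.f2170 IH) (Lpr_bt (K9.f2166 IH) (Lpr_gf (f29644 IH) (Lpe (f29646 IH) (Lpn (LP (LK LD1_c4 LD2_c0 LD3_c14)))))))))))))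
theorem f216719 : Led Lsl_ct (LP (LK LD1_c1 LD2_c1 LD3_c23)) = (LP (LK LD1_c2 LD2_c8 LD3_c27)) :=
  Lre_c IH (LK LD1_c1 LD2_c1 LD3_c23) (LK LD1_c2 LD2_c8 LD3_c27) Lrfl Lrfl
theorem f216720 : Led Lsl_bt (LP (LK LD1_c1 LD2_c1 LD3_c23)) = (LP (LK LD1_c2 LD2_c8 LD3_c26)) :=
  Lre_b IH (LK LD1_c1 LD2_c1 LD3_c23) (LK LD1_c2 LD2_c8 LD3_c26) Lrfl Lrfl
theorem f216721 : Led Lsl_gf (LP (LK LD1_c2 LD2_c58 LD3_c20)) = (LP (LK LD1_c2 LD2_c8 LD3_c26)) :=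
  Lgr Lrot124 (Lpe (K1.f42046 IH) (Lpr_ct (K9.f29023 IH) (Lpr_gt (f42091 IH) (Lpr_cf (f200132 IH) (Lpr_bt (f29646 IH) (Lpe (f29644 IH) (Lpr_ct (f2167 IH) (Lpr_gt (f216701 IH) (Lpe (f216719 IH) (Lpr_bt (f216720 IH) (Lpn (LP (LK LD1_c2 LD2_c8 LD3_c26)))))))))))))
theorem f29040 : Led Lsl_dt (LP (LK LD1_c1 LD2_c24 LD3_c51)) = (LP (LK LD1_c2 LD2_c58 LD3_c20)) :=
  Lre_d IH (LK LD1_c1 LD2_c24 LD3_c51) (LK LD1_c2 LD2_c58 LD3_c20) Lrfl Lrfl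
theorem f43919 : Led Lsl_df (LP (LK LD1_c0 LD2_c15 LD3_c46)) = (LP (LK LD1_c0 LD2_c15 LD3_c38)) :=
  Lgr Lrot38 (Lpr_dt (K1.f43915 IH) (Lpn (LP (LK LD1_c0 LD2_c15 LD3_c38))))
theorem f44019 : Led Lsl_et (LP (LK LD1_c2 LD2_c36 LD3_c15)) = (LP (LK LD1_c1 LD2_c15 LD3_c7)) :=
  Lre_e IH (LK LD1_c2 LD2_c36 LD3_c15) (LK LD1_c1 LD2_c15 LD3_c7) Lrfl Lrfl
theorem f216734 : Led Lsl_dt (LP (LK LD1_c2 LD2_c36 LD3_c15)) = (LP (LK LD1_c2 LD2_c8 LD3_c26)) :=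
  Lgr Lrot136 (Lpr_et (f44019 IH) (Lpe (K10.f43946 IH) (Lpe (K1.f43923 IH) (Lpe (f43919 IH) (Lpe (K8.f45790 IH) (Lpe (K8.f47504 IH) (Lpr_gf (K1.f45732 IH) (Lpe (K0.f29039 IH) (Lpr_dt (f29040 IH) (Lpr_gf (f216721 IH) (Lpn (LP (LK LD1_c2 LD2_c8 LD3_c26)))))))))))))
theorem f192997 : Led Lsl_et (LP (LK LD1_c0 LD2_c55 LD3_c36)) = (LP (LK LD1_c1 LD2_c57 LD3_c30)) :=
  Lre_e IH (LK LD1_c0 LD2_c55 LD3_c36) (LK LD1_c1 LD2_c57 LD3_c30) Lrfl Lrfl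
theorem f192998 : Led Lsl_bt (LP (LK LD1_c1 LD2_c57 LD3_c30)) = (LP (LK LD1_c2 LD2_c36 LD3_c15)) :=
  Lgr Lrot119 (Lpe (f192997 IH) (Lpr_bf (K10.f192988 IH) (Lpe (f44019 IH) (Lpn (LP (LK LD1_c2 LD2_c36 LD3_c15))))))
theorem f216736 : Led Lsl_bt (LP (LK LD1_c2 LD2_c8 LD3_c26)) = (LP (LK LD1_c1 LD2_c1 LD3_c23)) :=
  Lre_b IH (LK LD1_c2 LD2_c8 LD3_c26) (LK LD1_c1 LD2_c1 LD3_c23) Lrfl Lrfl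
theorem f216737 : Led Lsl_df (LP (LK LD1_c1 LD2_c57 LD3_c30)) = (LP (LK LD1_c1 LD2_c1 LD3_c23)) :=
  Lgr Lrot12 (Lpr_bt (f192998 IH) (Lpr_dt (f216734 IH) (Lpr_bt (f216736 IH) (Lpn (LP (LK LD1_c1 LD2_c1 LD3_c23))))))
theorem f192849 : Led Lsl_ct (LP (LK LD1_c0 LD2_c55 LD3_c38)) = (LP (LK LD1_c1 LD2_c57 LD3_c30)) :=
  Lre_c IH (LK LD1_c0 LD2_c55 LD3_c38) (LK LD1_c1 LD2_c57 LD3_c30) Lrfl Lrfl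
theorem f192839 : Led Lsl_ct (LP (LK LD1_c1 LD2_c57 LD3_c30)) = (LP (LK LD1_c0 LD2_c55 LD3_c38)) :=
  Lre_c IH (LK LD1_c1 LD2_c57 LD3_c30) (LK LD1_c0 LD2_c55 LD3_c38) Lrfl Lrfl
theorem f168535 : Led Lsl_bt (LP (LK LD1_c0 LD2_c14 LD3_c33)) = (LP (LK LD1_c0 LD2_c6 LD3_c41)) :=
  Lre_b IH (LK LD1_c0 LD2_c14 LD3_c33) (LK LD1_c0 LD2_c6 LD3_c41) Lrfl Lrfl
theorem f177899 : Led Lsl_gt (LP (LK LD1_c0 LD2_c12 LD3_c23)) = (LP (LK LD1_c0 LD2_c27 LD3_c61)) :=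
  Lre_g IH (LK LD1_c0 LD2_c12 LD3_c23) (LK LD1_c0 LD2_c27 LD3_c61) Lrfl Lrfl
theorem f181958 : Led Lsl_ct (LP (LK LD1_c0 LD2_c14 LD3_c33)) = (LP (LK LD1_c0 LD2_c27 LD3_c61)) :=
  Lgr Lrot10 (Lpr_bt (f168535 IH) (Lpe (K9.f181954 IH) (Lpr_ct (K1.f40839 IH) (Lpr_gt (K9.f181948 IH) (Lpe (K9.f174915 IH) (Lpe (K9.f177874 IH) (Lpr_gt (K0.f6846 IH) (Lpe (K9.f28954 IH) (Lpr_ct (K1.f28953 IH) (Lpr_gt (f177899 IH) (Lpn (LP (LK LD1_c0 LD2_c27 LD3_c61)))))))))))))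
theorem f29165 : Led Lsl_bt (LP (LK LD1_c0 LD2_c11 LD3_c9)) = (LP (LK LD1_c0 LD2_c11 LD3_c9)) :=
  Lgr Lrot128 (Lpe (K1.f28944 IH) (Lpr_bf (K1.f29159 IH) (Lpr_cf (K0.f1748 IH) (Lpe (K11.f29163 IH) (Lpe (K1.f28939 IH) (Lpn (LP (LK LD1_c0 LD2_c11 LD3_c9))))))))
theorem f40810 : Led Lsl_bt (LP (LK LD1_c0 LD2_c24 LD3_c36)) = (LP (LK LD1_c0 LD2_c11 LD3_c3)) :=
  Lre_b IH (LK LD1_c0 LD2_c24 LD3_c36) (LK LD1_c0 LD2_c11 LD3_c3) Lrfl Lrfl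
theorem f182350 : Led Lsl_gt (LP (LK LD1_c0 LD2_c27 LD3_c61)) = (LP (LK LD1_c0 LD2_c54 LD3_c24)) :=
  Lgr Lrot149 (Lpe (f181958 IH) (Lpr_gf (K9.f182322 IH) (Lpe (f29165 IH) (Lpr_ct (K1.f28939 IH) (Lpe (f182314 IH) (Lpe (K9.f167852 IH) (Lpr_bt (K9.f167851 IH) (Lpe (K9.f175279 IH) (Lpe (f40810 IH) (Lpr_ct (K1.f38942 IH) (Lpn (LP (LK LD1_c0 LD2_c54 LD3_c24)))))))))))))
theorem f216806 : Led Lsl_gt (LP (LK LD1_c1 LD2_c55 LD3_c20)) = (LP (LK LD1_c1 LD2_c1 LD3_c23)) :=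
  Lgr Lrot49 (Lpe (K1.f38943 IH) (Lpe (f182350 IH) (Lpe (f181958 IH) (Lpr_gt (K9.f182320 IH) (Lpr_dt (K1.f6943 IH) (Lpe (f29303 IH) (Lpr_dt (f192840 IH) (Lpe (f192839 IH) (Lpr_df (f216737 IH) (Lpn (LP (LK LD1_c1 LD2_c1 LD3_c23))))))))))))
theorem f216808 : Led Lsl_cf (LP (LK LD1_c0 LD2_c14 LD3_c33)) = (LP (LK LD1_c0 LD2_c27 LD3_c61)) :=
  Lgr Lrot166 (Lpr_gt (K9.f182320 IH) (Lpr_dt (K1.f6943 IH) (Lpe (f29303 IH) (Lpr_dt (f192840 IH) (Lpr_ct (f192849 IH) (Lpr_df (f216737 IH) (Lpe (f216806 IH) (Lpe (K1.f38943 IH) (Lpe (f182350 IH) (Lpn (LP (LK LD1_c0 LD2_c27 LD3_c61))))))))))))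
theorem f168330 : Led Lsl_bt (LP (LK LD1_c0 LD2_c35 LD3_c46)) = (LP (LK LD1_c0 LD2_c15 LD3_c61)) :=
  Lre_b IH (LK LD1_c0 LD2_c35 LD3_c46) (LK LD1_c0 LD2_c15 LD3_c61) Lrfl Lrfl
theorem f168331 : Led Lsl_ct (LP (LK LD1_c1 LD2_c17 LD3_c16)) = (LP (LK LD1_c0 LD2_c35 LD3_c46)) :=
  Lre_c IH (LK LD1_c1 LD2_c17 LD3_c16) (LK LD1_c0 LD2_c35 LD3_c46) Lrfl Lrfl
theorem f168332 : Led Lsl_bt (LP (LK LD1_c1 LD2_c10 LD3_c22)) = (LP (LK LD1_c1 LD2_c17 LD3_c16)) :=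
  Lgr Lrot128 (Lpe (f168329 IH) (Lpe (K11.f168328 IH) (Lpr_cf (K9.f168320 IH) (Lpe (f168330 IH) (Lpe (f168331 IH) (Lpn (LP (LK LD1_c1 LD2_c17 LD3_c16))))))))
theorem f168340 : Led Lsl_et (LP (LK LD1_c1 LD2_c17 LD3_c16)) = (LP (LK LD1_c0 LD2_c35 LD3_c44)) :=
  Lre_e IH (LK LD1_c1 LD2_c17 LD3_c16) (LK LD1_c0 LD2_c35 LD3_c44) Lrfl Lrfl
theorem f168341 : Led Lsl_bf (LP (LK LD1_c0 LD2_c32 LD3_c34)) = (LP (LK LD1_c0 LD2_c35 LD3_c44)) :=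
  Lgr Lrot96 (Lpr_et (f168339 IH) (Lpr_bt (f168332 IH) (Lpr_et (f168340 IH) (Lpn (LP (LK LD1_c0 LD2_c35 LD3_c44))))))
theorem f168196 : Led Lsl_gt (LP (LK LD1_c0 LD2_c35 LD3_c42)) = (LP (LK LD1_c0 LD2_c15 LD3_c59)) :=
  Lre_g IH (LK LD1_c0 LD2_c35 LD3_c42) (LK LD1_c0 LD2_c15 LD3_c59) Lrfl Lrfl
theorem f179554 : Led Lsl_gf (LP (LK LD1_c0 LD2_c12 LD3_c12)) = (LP (LK LD1_c0 LD2_c14 LD3_c13)) :=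
  Lgr Lrot143 (Lpr_dt (K9.f179528 IH) (Lpe (f179543 IH) (Lpr_df (K9.f179536 IH) (Lpe (K9.f1128 IH) (Lpe (K9.f51613 IH) (Lpr_gf (K9.f52225 IH) (Lpr_cf (K9.f171194 IH) (Lpr_gt (K9.f2872 IH) (Lpr_dt (K0.f2161 IH) (Lpn (LP (LK LD1_c0 LD2_c14 LD3_c13))))))))))))
theorem f8010 : Led Lsl_bt (LP (LK LD1_c0 LD2_c5 LD3_c34)) = (LP (LK LD1_c0 LD2_c12 LD3_c3)) :=
  Lre_b IH (LK LD1_c0 LD2_c5 LD3_c34) (LK LD1_c0 LD2_c12 LD3_c3) Lrfl Lrfl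
theorem f216826 : Led Lsl_bf (LP (LK LD1_c0 LD2_c27 LD3_c9)) = (LP (LK LD1_c0 LD2_c27 LD3_c61)) :=
  Lgr Lrot34 (Lpe (K10.f634 IH) (Lpe (f8010 IH) (Lpr_ct (K0.f6821 IH) (Lpe (K9.f6771 IH) (Lpe (f8004 IH) (Lpr_gf (f179554 IH) (Lpe (K10.f2425 IH) (Lpr_ct (K0.f6935 IH) (Lpe (K9.f182320 IH) (Lpr_cf (f216808 IH) (Lpn (LP (LK LD1_c0 LD2_c27 LD3_c61)))))))))))))
theorem f834 : Led Lsl_gt (LP (LK LD1_c0 LD2_c27 LD3_c9)) = (LP (LK LD1_c0 LD2_c59 LD3_c39)) :=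
  Lre_g IH (LK LD1_c0 LD2_c27 LD3_c9) (LK LD1_c0 LD2_c59 LD3_c39) Lrfl Lrfl
theorem f51437 : Led Lsl_bt (LP (LK LD1_c0 LD2_c57 LD3_c50)) = (LP (LK LD1_c0 LD2_c59 LD3_c39)) :=
  Lgr Lrot127 (Lpr_bf (K9.f51431 IH) (Lpn (LP (LK LD1_c0 LD2_c59 LD3_c39))))
theorem f216828 : Led Lsl_cf (LP (LK LD1_c0 LD2_c35 LD3_c42)) = (LP (LK LD1_c0 LD2_c57 LD3_c50)) :=
  Lgr Lrot160 (Lpr_gt (f168196 IH) (Lpe (f168174 IH) (Lpe (f168341 IH) (Lpr_gt (f182314 IH) (Lpr_ct (K1.f28944 IH) (Lpe (K9.f182322 IH) (Lpr_cf (f216808 IH) (Lpe (f216826 IH) (Lpr_gt (f834 IH) (Lpe (f51437 IH) (Lpn (LP (LK LD1_c0 LD2_c57 LD3_c50)))))))))))))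
theorem f213772 : Led Lsl_dt (LP (LK LD1_c0 LD2_c35 LD3_c42)) = (LP (LK LD1_c1 LD2_c17 LD3_c10)) :=
  Lre_d IH (LK LD1_c0 LD2_c35 LD3_c42) (LK LD1_c1 LD2_c17 LD3_c10) Lrfl Lrfl
theorem f216834 : Led Lsl_ct (LP (LK LD1_c1 LD2_c17 LD3_c10)) = (LP (LK LD1_c2 LD2_c40 LD3_c55)) :=
  Lre_c IH (LK LD1_c1 LD2_c17 LD3_c10) (LK LD1_c2 LD2_c40 LD3_c55) Lrfl Lrfl
theorem f573 : Led Lsl_dt (LP (LK LD1_c2 LD2_c1 LD3_c35)) = (LP (LK LD1_c0 LD2_c57 LD3_c50)) :=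
  Lre_d IH (LK LD1_c2 LD2_c1 LD3_c35) (LK LD1_c0 LD2_c57 LD3_c50) Lrfl Lrfl
theorem f51475 : Led Lsl_ct (LP (LK LD1_c4 LD2_c8 LD3_c26)) = (LP (LK LD1_c2 LD2_c1 LD3_c35)) :=
  Lre_c IH (LK LD1_c4 LD2_c8 LD3_c26) (LK LD1_c2 LD2_c1 LD3_c35) Lrfl Lrfl
theorem f51483 : Led Lsl_dt (LP (LK LD1_c8 LD2_c6 LD3_c27)) = (LP (LK LD1_c4 LD2_c8 LD3_c26)) :=
  Lre_d IH (LK LD1_c8 LD2_c6 LD3_c27) (LK LD1_c4 LD2_c8 LD3_c26) Lrfl Lrfl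
theorem f50408 : Led Lsl_ct (LP (LK LD1_c4 LD2_c2 LD3_c54)) = (LP (LK LD1_c8 LD2_c6 LD3_c27)) :=
  Lre_c IH (LK LD1_c4 LD2_c2 LD3_c54) (LK LD1_c8 LD2_c6 LD3_c27) Lrfl Lrfl
theorem f50189 : Led Lsl_dt (LP (LK LD1_c1 LD2_c58 LD3_c27)) = (LP (LK LD1_c4 LD2_c2 LD3_c54)) :=
  Lre_d IH (LK LD1_c1 LD2_c58 LD3_c27) (LK LD1_c4 LD2_c2 LD3_c54) Lrfl Lrfl
theorem f216843 : Led Lsl_af (LP (LK LD1_c2 LD2_c40 LD3_c55)) = (LP (LK LD1_c4 LD2_c2 LD3_c55)) :=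
  Lgr Lrot109 (Lpe (f216834 IH) (Lpe (f213772 IH) (Lpr_cf (f216828 IH) (Lpe (f573 IH) (Lpe (f51475 IH) (Lpe (f51483 IH) (Lpe (f50408 IH) (Lpe (f50189 IH) (Lpr_ft (K9.f50196 IH) (Lpn (LP (LK LD1_c4 LD2_c2 LD3_c55))))))))))))
theorem f50154 : Led Lsl_af (LP (LK LD1_c1 LD2_c58 LD3_c27)) = (LP (LK LD1_c2 LD2_c35 LD3_c12)) :=
  Lgr Lrot0 (Lpr_at (K9.f50151 IH) (Lpn (LP (LK LD1_c2 LD2_c35 LD3_c12))))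
theorem f216874 : Led Lsl_ft (LP (LK LD1_c2 LD2_c40 LD3_c55)) = (LP (LK LD1_c2 LD2_c35 LD3_c12)) :=
  Lgr Lrot101 (Lpr_af (f216843 IH) (Lpe (K9.f50196 IH) (Lpr_af (f50154 IH) (Lpn (LP (LK LD1_c2 LD2_c35 LD3_c12))))))
theorem f216893 : Led Lsl_ff (LP (LK LD1_c2 LD2_c40 LD3_c55)) = (LP (LK LD1_c2 LD2_c35 LD3_c12)) :=
  Lgr Lrot3 (Lpr_ft (f216874 IH) (Lpn (LP (LK LD1_c2 LD2_c35 LD3_c12))))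
theorem f216863 : Led Lsl_at (LP (LK LD1_c2 LD2_c40 LD3_c55)) = (LP (LK LD1_c4 LD2_c2 LD3_c55)) :=
  Lgr Lrot100 (Lpr_af (f216843 IH) (Lpn (LP (LK LD1_c4 LD2_c2 LD3_c55))))
theorem f49352 : Led Lsl_gt (LP (LK LD1_c2 LD2_c35 LD3_c12)) = (LP (LK LD1_c5 LD2_c16 LD3_c56)) :=
  Lre_g IH (LK LD1_c2 LD2_c35 LD3_c12) (LK LD1_c5 LD2_c16 LD3_c56) Lrfl Lrfl
theorem f216909 : Led Lsl_gf (LP (LK LD1_c4 LD2_c2 LD3_c55)) = (LP (LK LD1_c5 LD2_c16 LD3_c56)) :=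
  Lgr Lrot76 (Lpe (f216863 IH) (Lpr_ff (f216893 IH) (Lpr_gt (f49352 IH) (Lpn (LP (LK LD1_c5 LD2_c16 LD3_c56))))))
theorem f50175 : Led Lsl_bt (LP (LK LD1_c1 LD2_c58 LD3_c28)) = (LP (LK LD1_c0 LD2_c56 LD3_c19)) :=
  Lre_b IH (LK LD1_c1 LD2_c58 LD3_c28) (LK LD1_c0 LD2_c56 LD3_c19) Lrfl Lrfl
theorem f187915 : Led Lsl_ct (LP (LK LD1_c1 LD2_c57 LD3_c22)) = (LP (LK LD1_c4 LD2_c1 LD3_c7)) :=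
  Lre_c IH (LK LD1_c1 LD2_c57 LD3_c22) (LK LD1_c4 LD2_c1 LD3_c7) Lrfl Lrfl
theorem f216323 : Led Lsl_gf (LP (LK LD1_c2 LD2_c4 LD3_c2)) = (LP (LK LD1_c4 LD2_c1 LD3_c7)) :=
  Lgr Lrot104 (Lpr_ct (K0.f27679 IH) (Lpe (K10.f27693 IH) (Lpe (K10.f52678 IH) (Lpe (K9.f180097 IH) (Lpe (K11.f8007 IH) (Lpr_gf (f216309 IH) (Lpe (K9.f27968 IH) (Lpr_gt (K10.f27977 IH) (Lpr_ct (f187915 IH) (Lpn (LP (LK LD1_c4 LD2_c1 LD3_c7))))))))))))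
theorem f27719 : Led Lsl_bt (LP (LK LD1_c0 LD2_c59 LD3_c1)) = (LP (LK LD1_c2 LD2_c4 LD3_c1)) :=
  Lre_b IH (LK LD1_c0 LD2_c59 LD3_c1) (LK LD1_c2 LD2_c4 LD3_c1) Lrfl Lrfl
theorem f214011 : Led Lsl_ct (LP (LK LD1_c1 LD2_c9 LD3_c54)) = (LP (LK LD1_c0 LD2_c32 LD3_c20)) :=
  Lre_c IH (LK LD1_c1 LD2_c9 LD3_c54) (LK LD1_c0 LD2_c32 LD3_c20) Lrfl Lrfl
theorem f216301 : Led Lsl_ct (LP (LK LD1_c2 LD2_c37 LD3_c9)) = (LP (LK LD1_c1 LD2_c15 LD3_c34)) :=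
  Lre_c IH (LK LD1_c2 LD2_c37 LD3_c9) (LK LD1_c1 LD2_c15 LD3_c34) Lrfl Lrfl
theorem f216302 : Led Lsl_gt (LP (LK LD1_c1 LD2_c16 LD3_c20)) = (LP (LK LD1_c2 LD2_c37 LD3_c9)) :=
  Lre_g IH (LK LD1_c1 LD2_c16 LD3_c20) (LK LD1_c2 LD2_c37 LD3_c9) Lrfl Lrfl
theorem f213030 : Led Lsl_ct (LP (LK LD1_c2 LD2_c38 LD3_c60)) = (LP (LK LD1_c1 LD2_c16 LD3_c20)) :=
  Lre_c IH (LK LD1_c2 LD2_c38 LD3_c60) (LK LD1_c1 LD2_c16 LD3_c20) Lrfl Lrfl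
theorem f216303 : Led Lsl_gt (LP (LK LD1_c2 LD2_c4 LD3_c1)) = (LP (LK LD1_c2 LD2_c38 LD3_c60)) :=
  Lgr Lrot9 (Lpe (K0.f27724 IH) (Lpr_gt (f216296 IH) (Lpr_ct (f214011 IH) (Lpr_gt (f41408 IH) (Lpr_ct (K1.f41399 IH) (Lpe (K1.f41420 IH) (Lpe (f216301 IH) (Lpe (f216302 IH) (Lpe (f213030 IH) (Lpn (LP (LK LD1_c2 LD2_c38 LD3_c60))))))))))))
theorem f216913 : Led Lsl_bt (LP (LK LD1_c5 LD2_c24 LD3_c57)) = (LP (LK LD1_c2 LD2_c38 LD3_c60)) :=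
  Lre_b IH (LK LD1_c5 LD2_c24 LD3_c57) (LK LD1_c2 LD2_c38 LD3_c60) Lrfl Lrfl
theorem f216914 : Led Lsl_ct (LP (LK LD1_c5 LD2_c24 LD3_c57)) = (LP (LK LD1_c5 LD2_c16 LD3_c56)) :=
  Lgr Lrot64 (Lpr_bt (f216913 IH) (Lpe (f216303 IH) (Lpe (f27719 IH) (Lpr_ct (K10.f27660 IH) (Lpr_gf (f216323 IH) (Lpe (f187915 IH) (Lpe (K10.f27977 IH) (Lpe (f50175 IH) (Lpr_ct (K9.f50135 IH) (Lpr_gf (f216909 IH) (Lpn (LP (LK LD1_c5 LD2_c16 LD3_c56)))))))))))))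
theorem f50168 : Led Lsl_ct (LP (LK LD1_c4 LD2_c2 LD3_c55)) = (LP (LK LD1_c1 LD2_c58 LD3_c28)) :=
  Lre_c IH (LK LD1_c4 LD2_c2 LD3_c55) (LK LD1_c1 LD2_c58 LD3_c28) Lrfl Lrfl
theorem f216927 : Led Lsl_gf (LP (LK LD1_c5 LD2_c24 LD3_c57)) = (LP (LK LD1_c4 LD2_c7 LD3_c29)) :=
  Lgr Lrot147 (Lpr_ct (f216914 IH) (Lpe (f216909 IH) (Lpr_ct (f50168 IH) (Lpe (K9.f28092 IH) (Lpe (f28121 IH) (Lpe (K10.f47556 IH) (Lpe (f47722 IH) (Lpe (f189685 IH) (Lpe (K10.f44943 IH) (Lpn (LP (LK LD1_c4 LD2_c7 LD3_c29))))))))))))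
theorem f216922 : Led Lsl_cf (LP (LK LD1_c5 LD2_c24 LD3_c57)) = (LP (LK LD1_c5 LD2_c16 LD3_c56)) :=
  Lgr Lrot11 (Lpr_ct (f216914 IH) (Lpn (LP (LK LD1_c5 LD2_c16 LD3_c56))))
theorem f213031 : Led Lsl_bt (LP (LK LD1_c2 LD2_c38 LD3_c60)) = (LP (LK LD1_c5 LD2_c24 LD3_c57)) :=
  Lre_b IH (LK LD1_c2 LD2_c38 LD3_c60) (LK LD1_c5 LD2_c24 LD3_c57) Lrfl Lrfl
theorem f213035 : Led Lsl_ct (LP (LK LD1_c1 LD2_c16 LD3_c20)) = (LP (LK LD1_c2 LD2_c38 LD3_c60)) :=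
  Lre_c IH (LK LD1_c1 LD2_c16 LD3_c20) (LK LD1_c2 LD2_c38 LD3_c60) Lrfl Lrfl
theorem f216918 : Led Lsl_bt (LP (LK LD1_c2 LD2_c38 LD3_c59)) = (LP (LK LD1_c1 LD2_c16 LD3_c20)) :=
  Lre_b IH (LK LD1_c2 LD2_c38 LD3_c59) (LK LD1_c1 LD2_c16 LD3_c20) Lrfl Lrfl
theorem f216919 : Led Lsl_ct (LP (LK LD1_c5 LD2_c24 LD3_c54)) = (LP (LK LD1_c2 LD2_c38 LD3_c59)) :=
  Lre_c IH (LK LD1_c5 LD2_c24 LD3_c54) (LK LD1_c2 LD2_c38 LD3_c59) Lrfl Lrfl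
theorem f216920 : Led Lsl_bf (LP (LK LD1_c5 LD2_c24 LD3_c54)) = (LP (LK LD1_c5 LD2_c16 LD3_c56)) :=
  Lgr Lrot90 (Lpr_ct (f216919 IH) (Lpr_bt (f216918 IH) (Lpr_ct (f213035 IH) (Lpr_bt (f213031 IH) (Lpr_ct (f216914 IH) (Lpn (LP (LK LD1_c5 LD2_c16 LD3_c56))))))))
theorem f216929 : Led Lsl_gt (LP (LK LD1_c5 LD2_c24 LD3_c54)) = (LP (LK LD1_c10 LD2_c40 LD3_c29)) :=
  Lre_g IH (LK LD1_c5 LD2_c24 LD3_c54) (LK LD1_c10 LD2_c40 LD3_c29) Lrfl Lrfl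
theorem f175223 : Led Lsl_bt (LP (LK LD1_c5 LD2_c32 LD3_c37)) = (LP (LK LD1_c10 LD2_c40 LD3_c29)) :=
  Lre_b IH (LK LD1_c5 LD2_c32 LD3_c37) (LK LD1_c10 LD2_c40 LD3_c29) Lrfl Lrfl
theorem f175184 : Led Lsl_ct (LP (LK LD1_c5 LD2_c32 LD3_c37)) = (LP (LK LD1_c2 LD2_c42 LD3_c28)) :=
  Lre_c IH (LK LD1_c5 LD2_c32 LD3_c37) (LK LD1_c2 LD2_c42 LD3_c28) Lrfl Lrfl
theorem f174380 : Led Lsl_gt (LP (LK LD1_c2 LD2_c42 LD3_c28)) = (LP (LK LD1_c1 LD2_c17 LD3_c48)) :=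
  Lre_g IH (LK LD1_c2 LD2_c42 LD3_c28) (LK LD1_c1 LD2_c17 LD3_c48) Lrfl Lrfl
theorem f168101 : Led Lsl_ct (LP (LK LD1_c2 LD2_c42 LD3_c21)) = (LP (LK LD1_c1 LD2_c17 LD3_c48)) :=
  Lre_c IH (LK LD1_c2 LD2_c42 LD3_c21) (LK LD1_c1 LD2_c17 LD3_c48) Lrfl Lrfl
theorem f213386 : Led Lsl_bt (LP (LK LD1_c2 LD2_c42 LD3_c21)) = (LP (LK LD1_c1 LD2_c17 LD3_c46)) :=
  Lre_b IH (LK LD1_c2 LD2_c42 LD3_c21) (LK LD1_c1 LD2_c17 LD3_c46) Lrfl Lrfl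
theorem f168084 : Led Lsl_gt (LP (LK LD1_c1 LD2_c17 LD3_c46)) = (LP (LK LD1_c2 LD2_c42 LD3_c19)) :=
  Lre_g IH (LK LD1_c1 LD2_c17 LD3_c46) (LK LD1_c2 LD2_c42 LD3_c19) Lrfl Lrfl
theorem f216933 : Led Lsl_ct (LP (LK LD1_c2 LD2_c42 LD3_c19)) = (LP (LK LD1_c4 LD2_c7 LD3_c29)) :=
  Lgr Lrot91 (Lpe (f168084 IH) (Lpe (f213386 IH) (Lpr_ct (f168101 IH) (Lpe (f174380 IH) (Lpe (f175184 IH) (Lpr_bt (f175223 IH) (Lpe (f216929 IH) (Lpr_bf (f216920 IH) (Lpe (f216922 IH) (Lpr_gf (f216927 IH) (Lpn (LP (LK LD1_c4 LD2_c7 LD3_c29)))))))))))))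
theorem f168083 : Led Lsl_ct (LP (LK LD1_c0 LD2_c35 LD3_c55)) = (LP (LK LD1_c1 LD2_c17 LD3_c46)) :=
  Lre_c IH (LK LD1_c0 LD2_c35 LD3_c55) (LK LD1_c1 LD2_c17 LD3_c46) Lrfl Lrfl
theorem f213771 : Led Lsl_dt (LP (LK LD1_c1 LD2_c17 LD3_c10)) = (LP (LK LD1_c0 LD2_c35 LD3_c42)) :=
  Lre_d IH (LK LD1_c1 LD2_c17 LD3_c10) (LK LD1_c0 LD2_c35 LD3_c42) Lrfl Lrfl
theorem f216940 : Led Lsl_gf (LP (LK LD1_c0 LD2_c35 LD3_c55)) = (LP (LK LD1_c1 LD2_c17 LD3_c10)) :=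
  Lgr Lrot147 (Lpr_ct (f168083 IH) (Lpr_gt (f168084 IH) (Lpr_ct (f216933 IH) (Lpe (K9.f44940 IH) (Lpr_cf (K10.f44933 IH) (Lpr_gf (f213765 IH) (Lpe (f168349 IH) (Lpe (f168196 IH) (Lpe (f213771 IH) (Lpn (LP (LK LD1_c1 LD2_c17 LD3_c10))))))))))))
theorem f213356 : Led Lsl_at (LP (LK LD1_c1 LD2_c17 LD3_c45)) = (LP (LK LD1_c0 LD2_c35 LD3_c55)) :=
  Lre_a IH (LK LD1_c1 LD2_c17 LD3_c45) (LK LD1_c0 LD2_c35 LD3_c55) Lrfl Lrfl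
theorem f49156 : Led Lsl_dt (LP (LK LD1_c1 LD2_c11 LD3_c12)) = (LP (LK LD1_c2 LD2_c28 LD3_c3)) :=
  Lre_d IH (LK LD1_c1 LD2_c11 LD3_c12) (LK LD1_c2 LD2_c28 LD3_c3) Lrfl Lrfl
theorem f212849 : Led Lsl_dt (LP (LK LD1_c2 LD2_c43 LD3_c31)) = (LP (LK LD1_c1 LD2_c18 LD3_c9)) :=
  Lre_d IH (LK LD1_c2 LD2_c43 LD3_c31) (LK LD1_c1 LD2_c18 LD3_c9) Lrfl Lrfl
theorem f212859 : Led Lsl_ft (LP (LK LD1_c2 LD2_c28 LD3_c3)) = (LP (LK LD1_c2 LD2_c43 LD3_c31)) :=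
  Lgr Lrot54 (Lpe (f49156 IH) (Lpr_ff (f212855 IH) (Lpe (f212849 IH) (Lpn (LP (LK LD1_c2 LD2_c43 LD3_c31))))))
theorem f212866 : Led Lsl_ff (LP (LK LD1_c2 LD2_c28 LD3_c3)) = (LP (LK LD1_c2 LD2_c43 LD3_c31)) :=
  Lgr Lrot3 (Lpr_ft (f212859 IH) (Lpn (LP (LK LD1_c2 LD2_c43 LD3_c31))))
theorem f33047 : Led Lsl_ft (LP (LK LD1_c1 LD2_c14 LD3_c46)) = (LP (LK LD1_c2 LD2_c35 LD3_c30)) :=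
  Lre_f IH (LK LD1_c1 LD2_c14 LD3_c46) (LK LD1_c2 LD2_c35 LD3_c30) Lrfl Lrfl
theorem f212850 : Led Lsl_et (LP (LK LD1_c5 LD2_c35 LD3_c11)) = (LP (LK LD1_c2 LD2_c43 LD3_c31)) :=
  Lre_e IH (LK LD1_c5 LD2_c35 LD3_c11) (LK LD1_c2 LD2_c43 LD3_c31) Lrfl Lrfl
theorem f212869 : Led Lsl_ft (LP (LK LD1_c5 LD2_c17 LD3_c28)) = (LP (LK LD1_c5 LD2_c35 LD3_c11)) :=
  Lgr Lrot86 (Lpe (K10.f32117 IH) (Lpe (f33047 IH) (Lpr_ef (K9.f54042 IH) (Lpr_ff (f212866 IH) (Lpe (f212850 IH) (Lpn (LP (LK LD1_c5 LD2_c35 LD3_c11))))))))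
theorem f212873 : Led Lsl_bt (LP (LK LD1_c5 LD2_c35 LD3_c11)) = (LP (LK LD1_c2 LD2_c43 LD3_c34)) :=
  Lre_b IH (LK LD1_c5 LD2_c35 LD3_c11) (LK LD1_c2 LD2_c43 LD3_c34) Lrfl Lrfl
theorem f212874 : Led Lsl_ff (LP (LK LD1_c4 LD2_c20 LD3_c1)) = (LP (LK LD1_c2 LD2_c43 LD3_c34)) :=
  Lgr Lrot25 (Lpe (K10.f32971 IH) (Lpr_ft (f212869 IH) (Lpr_bt (f212873 IH) (Lpn (LP (LK LD1_c2 LD2_c43 LD3_c34))))))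
theorem f212881 : Led Lsl_ft (LP (LK LD1_c4 LD2_c20 LD3_c1)) = (LP (LK LD1_c2 LD2_c43 LD3_c34)) :=
  Lgr Lrot48 (Lpr_ff (f212874 IH) (Lpn (LP (LK LD1_c2 LD2_c43 LD3_c34))))
theorem f28497 : Led Lsl_ct (LP (LK LD1_c8 LD2_c38 LD3_c0)) = (LP (LK LD1_c4 LD2_c20 LD3_c1)) :=
  Lre_c IH (LK LD1_c8 LD2_c38 LD3_c0) (LK LD1_c4 LD2_c20 LD3_c1) Lrfl Lrfl
theorem f212898 : Led Lsl_ct (LP (LK LD1_c2 LD2_c43 LD3_c34)) = (LP (LK LD1_c5 LD2_c35 LD3_c16)) :=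
  Lre_c IH (LK LD1_c2 LD2_c43 LD3_c34) (LK LD1_c5 LD2_c35 LD3_c16) Lrfl Lrfl
theorem f212899 : Led Lsl_ff (LP (LK LD1_c8 LD2_c38 LD3_c0)) = (LP (LK LD1_c5 LD2_c35 LD3_c16)) :=
  Lgr Lrot23 (Lpr_ct (f28497 IH) (Lpr_ft (f212881 IH) (Lpr_ct (f212898 IH) (Lpn (LP (LK LD1_c5 LD2_c35 LD3_c16))))))
theorem f31853 : Led Lsl_et (LP (LK LD1_c8 LD2_c38 LD3_c0)) = (LP (LK LD1_c4 LD2_c20 LD3_c0)) :=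
  Lre_e IH (LK LD1_c8 LD2_c38 LD3_c0) (LK LD1_c4 LD2_c20 LD3_c0) Lrfl Lrfl
theorem f54079 : Led Lsl_et (LP (LK LD1_c2 LD2_c7 LD3_c37)) = (LP (LK LD1_c2 LD2_c28 LD3_c5)) :=
  Lgr Lrot123 (Lpr_af (K10.f54074 IH) (Lpe (K9.f47791 IH) (Lpr_af (K9.f53634 IH) (Lpn (LP (LK LD1_c2 LD2_c28 LD3_c5))))))
theorem f54083 : Led Lsl_ef (LP (LK LD1_c2 LD2_c7 LD3_c37)) = (LP (LK LD1_c2 LD2_c28 LD3_c5)) :=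
  Lgr Lrot88 (Lpr_et (f54079 IH) (Lpn (LP (LK LD1_c2 LD2_c28 LD3_c5))))
theorem f53642 : Led Lsl_ct (LP (LK LD1_c5 LD2_c0 LD3_c41)) = (LP (LK LD1_c2 LD2_c28 LD3_c5)) :=
  Lre_c IH (LK LD1_c5 LD2_c0 LD3_c41) (LK LD1_c2 LD2_c28 LD3_c5) Lrfl Lrfl
theorem f54089 : Led Lsl_et (LP (LK LD1_c4 LD2_c20 LD3_c21)) = (LP (LK LD1_c5 LD2_c0 LD3_c41)) :=
  Lgr Lrot158 (Lpe (K10.f27903 IH) (Lpr_ef (f54083 IH) (Lpe (f53642 IH) (Lpn (LP (LK LD1_c5 LD2_c0 LD3_c41))))))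
theorem f54094 : Led Lsl_bt (LP (LK LD1_c8 LD2_c38 LD3_c33)) = (LP (LK LD1_c4 LD2_c20 LD3_c21)) :=
  Lre_b IH (LK LD1_c8 LD2_c38 LD3_c33) (LK LD1_c4 LD2_c20 LD3_c21) Lrfl Lrfl
theorem f54095 : Led Lsl_bt (LP (LK LD1_c5 LD2_c0 LD3_c41)) = (LP (LK LD1_c9 LD2_c51 LD3_c42)) :=
  Lre_b IH (LK LD1_c5 LD2_c0 LD3_c41) (LK LD1_c9 LD2_c51 LD3_c42) Lrfl Lrfl
theorem f54096 : Led Lsl_ef (LP (LK LD1_c8 LD2_c38 LD3_c33)) = (LP (LK LD1_c9 LD2_c51 LD3_c42)) :=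
  Lgr Lrot29 (Lpr_bt (f54094 IH) (Lpr_et (f54089 IH) (Lpr_bt (f54095 IH) (Lpn (LP (LK LD1_c9 LD2_c51 LD3_c42))))))
theorem f54127 : Led Lsl_et (LP (LK LD1_c8 LD2_c38 LD3_c33)) = (LP (LK LD1_c9 LD2_c51 LD3_c42)) :=
  Lgr Lrot87 (Lpr_ef (f54096 IH) (Lpn (LP (LK LD1_c9 LD2_c51 LD3_c42))))
theorem f54141 : Led Lsl_ct (LP (LK LD1_c4 LD2_c20 LD3_c26)) = (LP (LK LD1_c8 LD2_c38 LD3_c33)) :=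
  Lre_c IH (LK LD1_c4 LD2_c20 LD3_c26) (LK LD1_c8 LD2_c38 LD3_c33) Lrfl Lrfl
theorem f54142 : Led Lsl_ct (LP (LK LD1_c9 LD2_c51 LD3_c42)) = (LP (LK LD1_c5 LD2_c0 LD3_c43)) :=
  Lre_c IH (LK LD1_c9 LD2_c51 LD3_c42) (LK LD1_c5 LD2_c0 LD3_c43) Lrfl Lrfl
theorem f54143 : Led Lsl_ef (LP (LK LD1_c4 LD2_c20 LD3_c26)) = (LP (LK LD1_c5 LD2_c0 LD3_c43)) :=
  Lgr Lrot28 (Lpr_ct (f54141 IH) (Lpr_et (f54127 IH) (Lpr_ct (f54142 IH) (Lpn (LP (LK LD1_c5 LD2_c0 LD3_c43))))))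
theorem f54157 : Led Lsl_dt (LP (LK LD1_c4 LD2_c20 LD3_c26)) = (LP (LK LD1_c8 LD2_c38 LD3_c44)) :=
  Lre_d IH (LK LD1_c4 LD2_c20 LD3_c26) (LK LD1_c8 LD2_c38 LD3_c44) Lrfl Lrfl
theorem f54158 : Led Lsl_et (LP (LK LD1_c8 LD2_c38 LD3_c44)) = (LP (LK LD1_c16 LD2_c11 LD3_c40)) :=
  Lre_e IH (LK LD1_c8 LD2_c38 LD3_c44) (LK LD1_c16 LD2_c11 LD3_c40) Lrfl Lrfl
theorem f54159 : Led Lsl_dt (LP (LK LD1_c9 LD2_c51 LD3_c49)) = (LP (LK LD1_c5 LD2_c0 LD3_c43)) :=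
  Lre_d IH (LK LD1_c9 LD2_c51 LD3_c49) (LK LD1_c5 LD2_c0 LD3_c43) Lrfl Lrfl
theorem f54160 : Led Lsl_et (LP (LK LD1_c18 LD2_c3 LD3_c14)) = (LP (LK LD1_c9 LD2_c51 LD3_c49)) :=
  Lre_e IH (LK LD1_c18 LD2_c3 LD3_c14) (LK LD1_c9 LD2_c51 LD3_c49) Lrfl Lrfl
theorem f54161 : Led Lsl_dt (LP (LK LD1_c16 LD2_c11 LD3_c40)) = (LP (LK LD1_c18 LD2_c3 LD3_c14)) :=
  Lgr Lrot77 (Lpe (f54158 IH) (Lpe (f54157 IH) (Lpr_ef (f54143 IH) (Lpe (f54159 IH) (Lpe (f54160 IH) (Lpn (LP (LK LD1_c18 LD2_c3 LD3_c14))))))))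
theorem f54177 : Led Lsl_df (LP (LK LD1_c16 LD2_c11 LD3_c40)) = (LP (LK LD1_c18 LD2_c3 LD3_c14)) :=
  Lgr Lrot38 (Lpr_dt (f54161 IH) (Lpn (LP (LK LD1_c18 LD2_c3 LD3_c14))))
theorem f31899 : Led Lsl_bt (LP (LK LD1_c16 LD2_c11 LD3_c40)) = (LP (LK LD1_c8 LD2_c38 LD3_c46)) :=
  Lre_b IH (LK LD1_c16 LD2_c11 LD3_c40) (LK LD1_c8 LD2_c38 LD3_c46) Lrfl Lrfl
theorem f53693 : Led Lsl_bt (LP (LK LD1_c9 LD2_c51 LD3_c51)) = (LP (LK LD1_c18 LD2_c3 LD3_c14)) :=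
  Lre_b IH (LK LD1_c9 LD2_c51 LD3_c51) (LK LD1_c18 LD2_c3 LD3_c14) Lrfl Lrfl
theorem f54183 : Led Lsl_dt (LP (LK LD1_c8 LD2_c38 LD3_c46)) = (LP (LK LD1_c9 LD2_c51 LD3_c51)) :=
  Lgr Lrot79 (Lpe (f31899 IH) (Lpr_df (f54177 IH) (Lpe (f53693 IH) (Lpn (LP (LK LD1_c9 LD2_c51 LD3_c51))))))
theorem f31903 : Led Lsl_et (LP (LK LD1_c4 LD2_c20 LD3_c27)) = (LP (LK LD1_c8 LD2_c38 LD3_c46)) :=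
  Lre_e IH (LK LD1_c4 LD2_c20 LD3_c27) (LK LD1_c8 LD2_c38 LD3_c46) Lrfl Lrfl
theorem f53687 : Led Lsl_et (LP (LK LD1_c9 LD2_c51 LD3_c51)) = (LP (LK LD1_c5 LD2_c0 LD3_c44)) :=
  Lre_e IH (LK LD1_c9 LD2_c51 LD3_c51) (LK LD1_c5 LD2_c0 LD3_c44) Lrfl Lrfl
theorem f53711 : Led Lsl_dt (LP (LK LD1_c5 LD2_c0 LD3_c44)) = (LP (LK LD1_c2 LD2_c28 LD3_c6)) :=
  Lre_d IH (LK LD1_c5 LD2_c0 LD3_c44) (LK LD1_c2 LD2_c28 LD3_c6) Lrfl Lrfl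
theorem f54189 : Led Lsl_ef (LP (LK LD1_c2 LD2_c7 LD3_c41)) = (LP (LK LD1_c2 LD2_c28 LD3_c6)) :=
  Lgr Lrot73 (Lpr_dt (K0.f27893 IH) (Lpr_et (f31903 IH) (Lpr_dt (f54183 IH) (Lpr_et (f53687 IH) (Lpr_dt (f53711 IH) (Lpn (LP (LK LD1_c2 LD2_c28 LD3_c6))))))))
theorem f31854 : Led Lsl_af (LP (LK LD1_c2 LD2_c7 LD3_c28)) = (LP (LK LD1_c2 LD2_c7 LD3_c41)) :=
  Lgr Lrot0 (Lpr_at (K0.f31839 IH) (Lpn (LP (LK LD1_c2 LD2_c7 LD3_c41))))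
theorem f53663 : Led Lsl_ct (LP (LK LD1_c1 LD2_c11 LD3_c13)) = (LP (LK LD1_c2 LD2_c28 LD3_c4)) :=
  Lre_c IH (LK LD1_c1 LD2_c11 LD3_c13) (LK LD1_c2 LD2_c28 LD3_c4) Lrfl Lrfl
theorem f53664 : Led Lsl_ct (LP (LK LD1_c2 LD2_c28 LD3_c6)) = (LP (LK LD1_c1 LD2_c11 LD3_c15)) :=
  Lre_c IH (LK LD1_c2 LD2_c28 LD3_c6) (LK LD1_c1 LD2_c11 LD3_c15) Lrfl Lrfl
theorem f53665 : Led Lsl_at (LP (LK LD1_c2 LD2_c28 LD3_c4)) = (LP (LK LD1_c2 LD2_c28 LD3_c6)) :=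
  Lgr Lrot107 (Lpe (f53663 IH) (Lpr_af (K9.f53657 IH) (Lpe (f53664 IH) (Lpn (LP (LK LD1_c2 LD2_c28 LD3_c6))))))
theorem f54200 : Led Lsl_et (LP (LK LD1_c2 LD2_c7 LD3_c28)) = (LP (LK LD1_c2 LD2_c28 LD3_c4)) :=
  Lgr Lrot123 (Lpr_af (f31854 IH) (Lpr_ef (f54189 IH) (Lpe (f53665 IH) (Lpn (LP (LK LD1_c2 LD2_c28 LD3_c4))))))
theorem f212918 : Led Lsl_et (LP (LK LD1_c2 LD2_c43 LD3_c33)) = (LP (LK LD1_c5 LD2_c35 LD3_c16)) :=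
  Lre_e IH (LK LD1_c2 LD2_c43 LD3_c33) (LK LD1_c5 LD2_c35 LD3_c16) Lrfl Lrfl
theorem f212919 : Led Lsl_ft (LP (LK LD1_c2 LD2_c28 LD3_c4)) = (LP (LK LD1_c2 LD2_c43 LD3_c33)) :=
  Lgr Lrot86 (Lpe (f54200 IH) (Lpe (K0.f31838 IH) (Lpe (f31853 IH) (Lpr_ff (f212899 IH) (Lpe (f212918 IH) (Lpn (LP (LK LD1_c2 LD2_c43 LD3_c33))))))))
theorem f212935 : Led Lsl_ff (LP (LK LD1_c2 LD2_c28 LD3_c4)) = (LP (LK LD1_c2 LD2_c43 LD3_c33)) :=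
  Lgr Lrot3 (Lpr_ft (f212919 IH) (Lpn (LP (LK LD1_c2 LD2_c43 LD3_c33))))
theorem f53710 : Led Lsl_dt (LP (LK LD1_c2 LD2_c28 LD3_c4)) = (LP (LK LD1_c5 LD2_c0 LD3_c40)) :=
  Lre_d IH (LK LD1_c2 LD2_c28 LD3_c4) (LK LD1_c5 LD2_c0 LD3_c40) Lrfl Lrfl
theorem f199517 : Led Lsl_dt (LP (LK LD1_c5 LD2_c35 LD3_c15)) = (LP (LK LD1_c2 LD2_c43 LD3_c33)) :=
  Lre_d IH (LK LD1_c5 LD2_c35 LD3_c15) (LK LD1_c2 LD2_c43 LD3_c33) Lrfl Lrfl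
theorem f212947 : Led Lsl_ft (LP (LK LD1_c5 LD2_c0 LD3_c40)) = (LP (LK LD1_c5 LD2_c35 LD3_c15)) :=
  Lgr Lrot54 (Lpe (f53710 IH) (Lpr_ff (f212935 IH) (Lpe (f199517 IH) (Lpn (LP (LK LD1_c5 LD2_c35 LD3_c15))))))
theorem f53668 : Led Lsl_dt (LP (LK LD1_c5 LD2_c0 LD3_c40)) = (LP (LK LD1_c2 LD2_c28 LD3_c4)) :=
  Lre_d IH (LK LD1_c5 LD2_c0 LD3_c40) (LK LD1_c2 LD2_c28 LD3_c4) Lrfl Lrfl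
theorem f53677 : Led Lsl_dt (LP (LK LD1_c2 LD2_c28 LD3_c6)) = (LP (LK LD1_c5 LD2_c0 LD3_c44)) :=
  Lre_d IH (LK LD1_c2 LD2_c28 LD3_c6) (LK LD1_c5 LD2_c0 LD3_c44) Lrfl Lrfl
theorem f53678 : Led Lsl_af (LP (LK LD1_c5 LD2_c0 LD3_c40)) = (LP (LK LD1_c5 LD2_c0 LD3_c44)) :=
  Lgr Lrot117 (Lpr_dt (f53668 IH) (Lpr_at (f53665 IH) (Lpr_dt (f53677 IH) (Lpn (LP (LK LD1_c5 LD2_c0 LD3_c44))))))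
theorem f31169 : Led Lsl_ct (LP (LK LD1_c4 LD2_c20 LD3_c56)) = (LP (LK LD1_c2 LD2_c7 LD3_c58)) :=
  Lre_c IH (LK LD1_c4 LD2_c20 LD3_c56) (LK LD1_c2 LD2_c7 LD3_c58) Lrfl Lrfl
theorem f31297 : Led Lsl_dt (LP (LK LD1_c8 LD2_c39 LD3_c32)) = (LP (LK LD1_c4 LD2_c20 LD3_c56)) :=
  Lre_d IH (LK LD1_c8 LD2_c39 LD3_c32) (LK LD1_c4 LD2_c20 LD3_c56) Lrfl Lrfl
theorem f177916 : Led Lsl_dt (LP (LK LD1_c1 LD2_c3 LD3_c20)) = (LP (LK LD1_c2 LD2_c12 LD3_c37)) :=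
  Lre_d IH (LK LD1_c1 LD2_c3 LD3_c20) (LK LD1_c2 LD2_c12 LD3_c37) Lrfl Lrfl
theorem f212634 : Led Lsl_ct (LP (LK LD1_c2 LD2_c12 LD3_c37)) = (LP (LK LD1_c4 LD2_c31 LD3_c16)) :=
  Lre_c IH (LK LD1_c2 LD2_c12 LD3_c37) (LK LD1_c4 LD2_c31 LD3_c16) Lrfl Lrfl
theorem f212635 : Led Lsl_dt (LP (LK LD1_c4 LD2_c31 LD3_c16)) = (LP (LK LD1_c9 LD2_c0 LD3_c30)) :=
  Lre_d IH (LK LD1_c4 LD2_c31 LD3_c16) (LK LD1_c9 LD2_c0 LD3_c30) Lrfl Lrfl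
theorem f212636 : Led Lsl_cf (LP (LK LD1_c8 LD2_c39 LD3_c32)) = (LP (LK LD1_c9 LD2_c0 LD3_c30)) :=
  Lgr Lrot116 (Lpr_dt (f31297 IH) (Lpr_ct (f31169 IH) (Lpr_dt (K10.f28982 IH) (Lpr_ct (K8.f33280 IH) (Lpr_af (K10.f53653 IH) (Lpr_ff (f212538 IH) (Lpr_dt (f177916 IH) (Lpr_ct (f212634 IH) (Lpr_dt (f212635 IH) (Lpn (LP (LK LD1_c9 LD2_c0 LD3_c30))))))))))))
theorem f33318 : Led Lsl_dt (LP (LK LD1_c0 LD2_c33 LD3_c0)) = (LP (LK LD1_c1 LD2_c11 LD3_c13)) :=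
  Lre_d IH (LK LD1_c0 LD2_c33 LD3_c0) (LK LD1_c1 LD2_c11 LD3_c13) Lrfl Lrfl
theorem f53669 : Led Lsl_af (LP (LK LD1_c2 LD2_c28 LD3_c4)) = (LP (LK LD1_c2 LD2_c28 LD3_c6)) :=
  Lgr Lrot0 (Lpr_at (f53665 IH) (Lpn (LP (LK LD1_c2 LD2_c28 LD3_c6))))
theorem f212644 : Led Lsl_ff (LP (LK LD1_c2 LD2_c28 LD3_c6)) = (LP (LK LD1_c4 LD2_c31 LD3_c16)) :=
  Lgr Lrot103 (Lpe (f53669 IH) (Lpe (f53663 IH) (Lpe (f33318 IH) (Lpe (K8.f33280 IH) (Lpe (K10.f28982 IH) (Lpe (f31169 IH) (Lpe (f31297 IH) (Lpr_cf (f212636 IH) (Lpe (f212635 IH) (Lpn (LP (LK LD1_c4 LD2_c31 LD3_c16))))))))))))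
theorem f212657 : Led Lsl_ft (LP (LK LD1_c2 LD2_c28 LD3_c6)) = (LP (LK LD1_c4 LD2_c31 LD3_c16)) :=
  Lgr Lrot48 (Lpr_ff (f212644 IH) (Lpn (LP (LK LD1_c4 LD2_c31 LD3_c16))))
theorem f212672 : Led Lsl_ff (LP (LK LD1_c5 LD2_c0 LD3_c44)) = (LP (LK LD1_c9 LD2_c0 LD3_c30)) :=
  Lgr Lrot19 (Lpr_dt (f53711 IH) (Lpr_ft (f212657 IH) (Lpr_dt (f212635 IH) (Lpn (LP (LK LD1_c9 LD2_c0 LD3_c30))))))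
theorem f212950 : Led Lsl_af (LP (LK LD1_c9 LD2_c0 LD3_c30)) = (LP (LK LD1_c5 LD2_c35 LD3_c15)) :=
  Lgr Lrot45 (Lpe (f212672 IH) (Lpe (f53678 IH) (Lpr_ft (f212947 IH) (Lpn (LP (LK LD1_c5 LD2_c35 LD3_c15))))))
theorem f212958 : Led Lsl_at (LP (LK LD1_c9 LD2_c0 LD3_c30)) = (LP (LK LD1_c5 LD2_c35 LD3_c15)) :=
  Lgr Lrot100 (Lpr_af (f212950 IH) (Lpn (LP (LK LD1_c5 LD2_c35 LD3_c15))))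
theorem f212651 : Led Lsl_dt (LP (LK LD1_c9 LD2_c0 LD3_c30)) = (LP (LK LD1_c4 LD2_c31 LD3_c16)) :=
  Lre_d IH (LK LD1_c9 LD2_c0 LD3_c30) (LK LD1_c4 LD2_c31 LD3_c16) Lrfl Lrfl
theorem f212652 : Led Lsl_ft (LP (LK LD1_c5 LD2_c0 LD3_c44)) = (LP (LK LD1_c9 LD2_c0 LD3_c30)) :=
  Lgr Lrot54 (Lpe (f53677 IH) (Lpr_ff (f212644 IH) (Lpe (f212651 IH) (Lpn (LP (LK LD1_c9 LD2_c0 LD3_c30))))))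
theorem f54202 : Led Lsl_gt (LP (LK LD1_c5 LD2_c0 LD3_c44)) = (LP (LK LD1_c9 LD2_c51 LD3_c50)) :=
  Lre_g IH (LK LD1_c5 LD2_c0 LD3_c44) (LK LD1_c9 LD2_c51 LD3_c50) Lrfl Lrfl
theorem f212960 : Led Lsl_gt (LP (LK LD1_c9 LD2_c51 LD3_c50)) = (LP (LK LD1_c5 LD2_c35 LD3_c15)) :=
  Lgr Lrot46 (Lpe (f54202 IH) (Lpr_ft (f212652 IH) (Lpr_at (f212958 IH) (Lpn (LP (LK LD1_c5 LD2_c35 LD3_c15))))))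
theorem f199518 : Led Lsl_ct (LP (LK LD1_c1 LD2_c18 LD3_c11)) = (LP (LK LD1_c2 LD2_c43 LD3_c33)) :=
  Lre_c IH (LK LD1_c1 LD2_c18 LD3_c11) (LK LD1_c2 LD2_c43 LD3_c33) Lrfl Lrfl
theorem f189280 : Led Lsl_dt (LP (LK LD1_c0 LD2_c36 LD3_c2)) = (LP (LK LD1_c1 LD2_c18 LD3_c11)) :=
  Lre_d IH (LK LD1_c0 LD2_c36 LD3_c2) (LK LD1_c1 LD2_c18 LD3_c11) Lrfl Lrfl
theorem f177870 : Led Lsl_dt (LP (LK LD1_c0 LD2_c36 LD3_c4)) = (LP (LK LD1_c0 LD2_c16 LD3_c4)) :=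
  Lre_d IH (LK LD1_c0 LD2_c36 LD3_c4) (LK LD1_c0 LD2_c16 LD3_c4) Lrfl Lrfl
theorem f177871 : Led Lsl_gt (LP (LK LD1_c1 LD2_c18 LD3_c15)) = (LP (LK LD1_c0 LD2_c36 LD3_c4)) :=
  Lre_g IH (LK LD1_c1 LD2_c18 LD3_c15) (LK LD1_c0 LD2_c36 LD3_c4) Lrfl Lrfl
theorem f199487 : Led Lsl_ct (LP (LK LD1_c2 LD2_c43 LD3_c43)) = (LP (LK LD1_c1 LD2_c18 LD3_c15)) :=
  Lre_c IH (LK LD1_c2 LD2_c43 LD3_c43) (LK LD1_c1 LD2_c18 LD3_c15) Lrfl Lrfl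
theorem f189124 : Led Lsl_at (LP (LK LD1_c0 LD2_c36 LD3_c3)) = (LP (LK LD1_c0 LD2_c16 LD3_c4)) :=
  Lre_a IH (LK LD1_c0 LD2_c36 LD3_c3) (LK LD1_c0 LD2_c16 LD3_c4) Lrfl Lrfl
theorem f199184 : Led Lsl_ft (LP (LK LD1_c0 LD2_c56 LD3_c28)) = (LP (LK LD1_c0 LD2_c36 LD3_c3)) :=
  Lgr Lrot2 (Lpr_gt (f199181 IH) (Lpe (K10.f189097 IH) (Lpe (f189124 IH) (Lpn (LP (LK LD1_c0 LD2_c36 LD3_c3))))))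
theorem f192825 : Led Lsl_dt (LP (LK LD1_c0 LD2_c56 LD3_c28)) = (LP (LK LD1_c1 LD2_c59 LD3_c18)) :=
  Lre_d IH (LK LD1_c0 LD2_c56 LD3_c28) (LK LD1_c1 LD2_c59 LD3_c18) Lrfl Lrfl
theorem f192826 : Led Lsl_ct (LP (LK LD1_c1 LD2_c59 LD3_c18)) = (LP (LK LD1_c4 LD2_c4 LD3_c36)) :=
  Lre_c IH (LK LD1_c1 LD2_c59 LD3_c18) (LK LD1_c4 LD2_c4 LD3_c36) Lrfl Lrfl
theorem f177955 : Led Lsl_ct (LP (LK LD1_c1 LD2_c18 LD3_c16)) = (LP (LK LD1_c0 LD2_c36 LD3_c4)) :=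
  Lre_c IH (LK LD1_c1 LD2_c18 LD3_c16) (LK LD1_c0 LD2_c36 LD3_c4) Lrfl Lrfl
theorem f189125 : Led Lsl_dt (LP (LK LD1_c2 LD2_c43 LD3_c48)) = (LP (LK LD1_c1 LD2_c18 LD3_c16)) :=
  Lre_d IH (LK LD1_c2 LD2_c43 LD3_c48) (LK LD1_c1 LD2_c18 LD3_c16) Lrfl Lrfl
theorem f199347 : Led Lsl_ct (LP (LK LD1_c5 LD2_c35 LD3_c51)) = (LP (LK LD1_c2 LD2_c43 LD3_c48)) :=
  Lre_c IH (LK LD1_c5 LD2_c35 LD3_c51) (LK LD1_c2 LD2_c43 LD3_c48) Lrfl Lrfl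
theorem f199348 : Led Lsl_dt (LP (LK LD1_c4 LD2_c4 LD3_c36)) = (LP (LK LD1_c5 LD2_c35 LD3_c51)) :=
  Lgr Lrot32 (Lpe (f192826 IH) (Lpe (f192825 IH) (Lpr_ft (f199184 IH) (Lpr_at (f189124 IH) (Lpe (K10.f177850 IH) (Lpe (f177870 IH) (Lpe (f177955 IH) (Lpe (f189125 IH) (Lpe (f199347 IH) (Lpn (LP (LK LD1_c5 LD2_c35 LD3_c51))))))))))))
theorem f192823 : Led Lsl_dt (LP (LK LD1_c1 LD2_c59 LD3_c18)) = (LP (LK LD1_c0 LD2_c56 LD3_c28)) :=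
  Lre_d IH (LK LD1_c1 LD2_c59 LD3_c18) (LK LD1_c0 LD2_c56 LD3_c28) Lrfl Lrfl
theorem f199360 : Led Lsl_at (LP (LK LD1_c1 LD2_c18 LD3_c12)) = (LP (LK LD1_c0 LD2_c36 LD3_c4)) :=
  Lre_a IH (LK LD1_c1 LD2_c18 LD3_c12) (LK LD1_c0 LD2_c36 LD3_c4) Lrfl Lrfl
theorem f199361 : Led Lsl_ft (LP (LK LD1_c1 LD2_c59 LD3_c18)) = (LP (LK LD1_c1 LD2_c18 LD3_c12)) :=
  Lgr Lrot142 (Lpr_dt (f192823 IH) (Lpr_ct (f192818 IH) (Lpr_dt (f192825 IH) (Lpr_ct (f192826 IH) (Lpr_dt (f199348 IH) (Lpr_ct (f199347 IH) (Lpr_dt (f189125 IH) (Lpr_ct (f177955 IH) (Lpe (f199360 IH) (Lpn (LP (LK LD1_c1 LD2_c18 LD3_c12))))))))))))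
theorem f199480 : Led Lsl_gt (LP (LK LD1_c1 LD2_c59 LD3_c18)) = (LP (LK LD1_c1 LD2_c18 LD3_c15)) :=
  Lgr Lrot5 (Lpr_ft (f199361 IH) (Lpr_at (f199360 IH) (Lpe (f177871 IH) (Lpn (LP (LK LD1_c1 LD2_c18 LD3_c15))))))
theorem f53655 : Led Lsl_cf (LP (LK LD1_c1 LD2_c1 LD3_c1)) = (LP (LK LD1_c0 LD2_c33 LD3_c2)) :=
  Lgr Lrot1 (Lpr_at (K0.f31158 IH) (Lpr_ct (K8.f33280 IH) (Lpr_at (K9.f53648 IH) (Lpn (LP (LK LD1_c0 LD2_c33 LD3_c2))))))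
theorem f196560 : Led Lsl_bt (LP (LK LD1_c0 LD2_c55 LD3_c31)) = (LP (LK LD1_c1 LD2_c15 LD3_c53)) :=
  Lgr Lrot35 (Lpe (K1.f28131 IH) (Lpe (K10.f50124 IH) (Lpr_ff (K10.f196558 IH) (Lpn (LP (LK LD1_c1 LD2_c15 LD3_c53))))))
theorem f171879 : Led Lsl_bt (LP (LK LD1_c1 LD2_c15 LD3_c54)) = (LP (LK LD1_c0 LD2_c35 LD3_c11)) :=
  Lre_b IH (LK LD1_c1 LD2_c15 LD3_c54) (LK LD1_c0 LD2_c35 LD3_c11) Lrfl Lrfl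
theorem f42452 : Led Lsl_et (LP (LK LD1_c1 LD2_c15 LD3_c25)) = (LP (LK LD1_c2 LD2_c36 LD3_c52)) :=
  Lre_e IH (LK LD1_c1 LD2_c15 LD3_c25) (LK LD1_c2 LD2_c36 LD3_c52) Lrfl Lrfl
theorem f172003 : Led Lsl_ct (LP (LK LD1_c1 LD2_c15 LD3_c54)) = (LP (LK LD1_c1 LD2_c15 LD3_c25)) :=
  Lgr Lrot15 (Lpe (K10.f172002 IH) (Lpr_cf (K10.f171998 IH) (Lpe (f42452 IH) (Lpn (LP (LK LD1_c1 LD2_c15 LD3_c25))))))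
theorem f199186 : Led Lsl_gf (LP (LK LD1_c1 LD2_c15 LD3_c25)) = (LP (LK LD1_c1 LD2_c1 LD3_c1)) :=
  Lgr Lrot129 (Lpe (f172003 IH) (Lpr_bt (f171879 IH) (Lpr_gt (K10.f172015 IH) (Lpe (f196560 IH) (Lpr_ct (K11.f28130 IH) (Lpr_gt (K11.f28160 IH) (Lpe (K11.f53081 IH) (Lpr_bt (f192816 IH) (Lpr_gt (f199181 IH) (Lpe (f53655 IH) (Lpn (LP (LK LD1_c1 LD2_c1 LD3_c1)))))))))))))
theorem f171877 : Led Lsl_bt (LP (LK LD1_c0 LD2_c15 LD3_c48)) = (LP (LK LD1_c0 LD2_c35 LD3_c10)) :=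
  Lre_b IH (LK LD1_c0 LD2_c15 LD3_c48) (LK LD1_c0 LD2_c35 LD3_c10) Lrfl Lrfl
theorem f171880 : Led Lsl_bt (LP (LK LD1_c0 LD2_c34 LD3_c60)) = (LP (LK LD1_c1 LD2_c15 LD3_c25)) :=
  Lre_b IH (LK LD1_c0 LD2_c34 LD3_c60) (LK LD1_c1 LD2_c15 LD3_c25) Lrfl Lrfl
theorem f171881 : Led Lsl_cf (LP (LK LD1_c1 LD2_c15 LD3_c54)) = (LP (LK LD1_c1 LD2_c15 LD3_c25)) :=
  Lgr Lrot97 (Lpr_bt (f171879 IH) (Lpr_ct (K10.f171878 IH) (Lpr_bt (f171877 IH) (Lpr_ct (K9.f171874 IH) (Lpr_bt (f171880 IH) (Lpn (LP (LK LD1_c1 LD2_c15 LD3_c25))))))))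
theorem f172011 : Led Lsl_ct (LP (LK LD1_c5 LD2_c22 LD3_c28)) = (LP (LK LD1_c2 LD2_c37 LD3_c47)) :=
  Lre_c IH (LK LD1_c5 LD2_c22 LD3_c28) (LK LD1_c2 LD2_c37 LD3_c47) Lrfl Lrfl
theorem f199482 : Led Lsl_ct (LP (LK LD1_c1 LD2_c18 LD3_c15)) = (LP (LK LD1_c2 LD2_c43 LD3_c43)) :=
  Lre_c IH (LK LD1_c1 LD2_c18 LD3_c15) (LK LD1_c2 LD2_c43 LD3_c43) Lrfl Lrfl
theorem f199483 : Led Lsl_gf (LP (LK LD1_c5 LD2_c22 LD3_c28)) = (LP (LK LD1_c2 LD2_c43 LD3_c43)) :=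
  Lgr Lrot104 (Lpr_ct (f172011 IH) (Lpe (K10.f172027 IH) (Lpr_cf (f171881 IH) (Lpr_gf (f199186 IH) (Lpr_cf (f53655 IH) (Lpe (f199181 IH) (Lpe (f192823 IH) (Lpr_gt (f199480 IH) (Lpr_ct (f199482 IH) (Lpn (LP (LK LD1_c2 LD2_c43 LD3_c43))))))))))))
theorem f212962 : Led Lsl_df (LP (LK LD1_c9 LD2_c51 LD3_c50)) = (LP (LK LD1_c5 LD2_c22 LD3_c28)) :=
  Lgr Lrot153 (Lpr_gt (f212960 IH) (Lpr_dt (f199517 IH) (Lpe (f199518 IH) (Lpe (f189280 IH) (Lpe (f178177 IH) (Lpe (f177870 IH) (Lpe (f177871 IH) (Lpe (f199487 IH) (Lpe (f199483 IH) (Lpn (LP (LK LD1_c5 LD2_c22 LD3_c28))))))))))))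
theorem f212991 : Led Lsl_dt (LP (LK LD1_c9 LD2_c51 LD3_c50)) = (LP (LK LD1_c5 LD2_c22 LD3_c28)) :=
  Lgr Lrot42 (Lpr_df (f212962 IH) (Lpn (LP (LK LD1_c5 LD2_c22 LD3_c28))))
theorem f172028 : Led Lsl_ct (LP (LK LD1_c2 LD2_c37 LD3_c47)) = (LP (LK LD1_c5 LD2_c22 LD3_c28)) :=
  Lre_c IH (LK LD1_c2 LD2_c37 LD3_c47) (LK LD1_c5 LD2_c22 LD3_c28) Lrfl Lrfl
theorem f177911 : Led Lsl_dt (LP (LK LD1_c1 LD2_c3 LD3_c21)) = (LP (LK LD1_c0 LD2_c28 LD3_c55)) :=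
  Lre_d IH (LK LD1_c1 LD2_c3 LD3_c21) (LK LD1_c0 LD2_c28 LD3_c55) Lrfl Lrfl
theorem f183315 : Led Lsl_gt (LP (LK LD1_c1 LD2_c3 LD3_c21)) = (LP (LK LD1_c2 LD2_c12 LD3_c38)) :=
  Lre_g IH (LK LD1_c1 LD2_c3 LD3_c21) (LK LD1_c2 LD2_c12 LD3_c38) Lrfl Lrfl
theorem f187035 : Led Lsl_ct (LP (LK LD1_c2 LD2_c12 LD3_c38)) = (LP (LK LD1_c4 LD2_c31 LD3_c18)) :=
  Lre_c IH (LK LD1_c2 LD2_c12 LD3_c38) (LK LD1_c4 LD2_c31 LD3_c18) Lrfl Lrfl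
theorem f187021 : Led Lsl_et (LP (LK LD1_c0 LD2_c58 LD3_c14)) = (LP (LK LD1_c0 LD2_c26 LD3_c25)) :=
  Lre_e IH (LK LD1_c0 LD2_c58 LD3_c14) (LK LD1_c0 LD2_c26 LD3_c25) Lrfl Lrfl
theorem f187022 : Led Lsl_dt (LP (LK LD1_c0 LD2_c58 LD3_c14)) = (LP (LK LD1_c2 LD2_c2 LD3_c40)) :=
  Lre_d IH (LK LD1_c0 LD2_c58 LD3_c14) (LK LD1_c2 LD2_c2 LD3_c40) Lrfl Lrfl
theorem f42132 : Led Lsl_dt (LP (LK LD1_c0 LD2_c34 LD3_c60)) = (LP (LK LD1_c1 LD2_c15 LD3_c26)) :=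
  Lre_d IH (LK LD1_c0 LD2_c34 LD3_c60) (LK LD1_c1 LD2_c15 LD3_c26) Lrfl Lrfl
theorem f187023 : Led Lsl_gf (LP (LK LD1_c2 LD2_c2 LD3_c40)) = (LP (LK LD1_c1 LD2_c15 LD3_c26)) :=
  Lgr Lrot134 (Lpe (f187022 IH) (Lpr_et (f187021 IH) (Lpr_gt (K10.f187015 IH) (Lpe (K0.f29006 IH) (Lpr_dt (K1.f42081 IH) (Lpe (K1.f42130 IH) (Lpe (K1.f41531 IH) (Lpr_et (K9.f41427 IH) (Lpr_gt (K9.f41277 IH) (Lpr_dt (f42132 IH) (Lpn (LP (LK LD1_c1 LD2_c15 LD3_c26)))))))))))))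
theorem f187034 : Led Lsl_bt (LP (LK LD1_c0 LD2_c58 LD3_c17)) = (LP (LK LD1_c2 LD2_c2 LD3_c40)) :=
  Lre_b IH (LK LD1_c0 LD2_c58 LD3_c17) (LK LD1_c2 LD2_c2 LD3_c40) Lrfl Lrfl
theorem f178882 : Led Lsl_ct (LP (LK LD1_c0 LD2_c58 LD3_c17)) = (LP (LK LD1_c2 LD2_c2 LD3_c47)) :=
  Lre_c IH (LK LD1_c0 LD2_c58 LD3_c17) (LK LD1_c2 LD2_c2 LD3_c47) Lrfl Lrfl
theorem f174739 : Led Lsl_dt (LP (LK LD1_c0 LD2_c28 LD3_c56)) = (LP (LK LD1_c0 LD2_c12 LD3_c46)) :=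
  Lre_d IH (LK LD1_c0 LD2_c28 LD3_c56) (LK LD1_c0 LD2_c12 LD3_c46) Lrfl Lrfl
theorem f174740 : Led Lsl_ct (LP (LK LD1_c1 LD2_c3 LD3_c23)) = (LP (LK LD1_c0 LD2_c28 LD3_c56)) :=
  Lre_c IH (LK LD1_c1 LD2_c3 LD3_c23) (LK LD1_c0 LD2_c28 LD3_c56) Lrfl Lrfl
theorem f183312 : Led Lsl_gt (LP (LK LD1_c2 LD2_c2 LD3_c47)) = (LP (LK LD1_c1 LD2_c3 LD3_c23)) :=
  Lgr Lrot150 (Lpe (f178882 IH) (Lpr_gf (K9.f183304 IH) (Lpe (K9.f20695 IH) (Lpr_gt (K9.f40803 IH) (Lpr_ct (K9.f40798 IH) (Lpr_gt (K0.f20232 IH) (Lpr_ct (K9.f174915 IH) (Lpe (f174739 IH) (Lpe (f174740 IH) (Lpn (LP (LK LD1_c1 LD2_c3 LD3_c23))))))))))))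
theorem f175034 : Led Lsl_ct (LP (LK LD1_c0 LD2_c28 LD3_c56)) = (LP (LK LD1_c1 LD2_c3 LD3_c23)) :=
  Lre_c IH (LK LD1_c0 LD2_c28 LD3_c56) (LK LD1_c1 LD2_c3 LD3_c23) Lrfl Lrfl
theorem f183314 : Led Lsl_bt (LP (LK LD1_c0 LD2_c28 LD3_c56)) = (LP (LK LD1_c1 LD2_c3 LD3_c21)) :=
  Lre_b IH (LK LD1_c0 LD2_c28 LD3_c56) (LK LD1_c1 LD2_c3 LD3_c21) Lrfl Lrfl
theorem f187028 : Led Lsl_bt (LP (LK LD1_c2 LD2_c36 LD3_c51)) = (LP (LK LD1_c1 LD2_c15 LD3_c26)) :=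
  Lre_b IH (LK LD1_c2 LD2_c36 LD3_c51) (LK LD1_c1 LD2_c15 LD3_c26) Lrfl Lrfl
theorem f172012 : Led Lsl_ct (LP (LK LD1_c2 LD2_c36 LD3_c51)) = (LP (LK LD1_c5 LD2_c20 LD3_c25)) :=
  Lre_c IH (LK LD1_c2 LD2_c36 LD3_c51) (LK LD1_c5 LD2_c20 LD3_c25) Lrfl Lrfl
theorem f187036 : Led Lsl_gt (LP (LK LD1_c4 LD2_c31 LD3_c18)) = (LP (LK LD1_c5 LD2_c20 LD3_c25)) :=
  Lgr Lrot149 (Lpe (f187035 IH) (Lpe (f183315 IH) (Lpe (f183314 IH) (Lpr_ct (f175034 IH) (Lpe (f183312 IH) (Lpe (f178882 IH) (Lpr_bt (f187034 IH) (Lpr_gf (f187023 IH) (Lpe (f187028 IH) (Lpr_ct (f172012 IH) (Lpn (LP (LK LD1_c5 LD2_c20 LD3_c25)))))))))))))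
theorem f172013 : Led Lsl_ct (LP (LK LD1_c5 LD2_c20 LD3_c25)) = (LP (LK LD1_c2 LD2_c36 LD3_c51)) :=
  Lre_c IH (LK LD1_c5 LD2_c20 LD3_c25) (LK LD1_c2 LD2_c36 LD3_c51) Lrfl Lrfl
theorem f42473 : Led Lsl_dt (LP (LK LD1_c1 LD2_c15 LD3_c25)) = (LP (LK LD1_c2 LD2_c36 LD3_c51)) :=
  Lre_d IH (LK LD1_c1 LD2_c15 LD3_c25) (LK LD1_c2 LD2_c36 LD3_c51) Lrfl Lrfl
theorem f212542 : Led Lsl_gt (LP (LK LD1_c1 LD2_c1 LD3_c5)) = (LP (LK LD1_c1 LD2_c15 LD3_c54)) :=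
  Lgr Lrot150 (Lpe (K10.f53952 IH) (Lpr_gf (f212506 IH) (Lpe (f177911 IH) (Lpr_gt (f183315 IH) (Lpr_ct (f187035 IH) (Lpr_gt (f187036 IH) (Lpr_ct (f172013 IH) (Lpe (f42473 IH) (Lpe (f172003 IH) (Lpn (LP (LK LD1_c1 LD2_c15 LD3_c54))))))))))))
theorem f167846 : Led Lsl_bt (LP (LK LD1_c1 LD2_c16 LD3_c16)) = (LP (LK LD1_c0 LD2_c35 LD3_c19)) :=
  Lre_b IH (LK LD1_c1 LD2_c16 LD3_c16) (LK LD1_c0 LD2_c35 LD3_c19) Lrfl Lrfl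
theorem f194422 : Led Lsl_df (LP (LK LD1_c1 LD2_c16 LD3_c16)) = (LP (LK LD1_c1 LD2_c58 LD3_c30)) :=
  Lgr Lrot12 (Lpr_bt (f167846 IH) (Lpr_dt (K10.f41480 IH) (Lpr_bt (K10.f194418 IH) (Lpn (LP (LK LD1_c1 LD2_c58 LD3_c30))))))
theorem f194439 : Led Lsl_gt (LP (LK LD1_c1 LD2_c16 LD3_c16)) = (LP (LK LD1_c2 LD2_c7 LD3_c58)) :=
  Lgr Lrot112 (Lpr_df (f194422 IH) (Lpr_et (K10.f28071 IH) (Lpe (K10.f50807 IH) (Lpe (K9.f27789 IH) (Lpr_dt (K0.f9633 IH) (Lpe (K0.f27798 IH) (Lpe (K1.f27799 IH) (Lpr_gf (K1.f44029 IH) (Lpe (K0.f31157 IH) (Lpr_dt (K0.f31163 IH) (Lpn (LP (LK LD1_c2 LD2_c7 LD3_c58)))))))))))))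
theorem f167847 : Led Lsl_ct (LP (LK LD1_c2 LD2_c38 LD3_c49)) = (LP (LK LD1_c1 LD2_c16 LD3_c16)) :=
  Lre_c IH (LK LD1_c2 LD2_c38 LD3_c49) (LK LD1_c1 LD2_c16 LD3_c16) Lrfl Lrfl
theorem f212994 : Led Lsl_gf (LP (LK LD1_c2 LD2_c28 LD3_c6)) = (LP (LK LD1_c2 LD2_c38 LD3_c49)) :=
  Lgr Lrot144 (Lpr_dt (f53677 IH) (Lpr_gt (f54202 IH) (Lpr_dt (f212991 IH) (Lpe (f172028 IH) (Lpe (K10.f172027 IH) (Lpe (f212542 IH) (Lpe (K10.f28982 IH) (Lpe (f194439 IH) (Lpe (f167847 IH) (Lpn (LP (LK LD1_c2 LD2_c38 LD3_c49))))))))))))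
theorem f212996 : Led Lsl_gt (LP (LK LD1_c2 LD2_c43 LD3_c33)) = (LP (LK LD1_c2 LD2_c38 LD3_c49)) :=
  Lgr Lrot5 (Lpe (f212935 IH) (Lpr_at (f53665 IH) (Lpr_gf (f212994 IH) (Lpn (LP (LK LD1_c2 LD2_c38 LD3_c49))))))
theorem f212868 : Led Lsl_bt (LP (LK LD1_c1 LD2_c18 LD3_c11)) = (LP (LK LD1_c2 LD2_c43 LD3_c31)) :=
  Lre_b IH (LK LD1_c1 LD2_c18 LD3_c11) (LK LD1_c2 LD2_c43 LD3_c31) Lrfl Lrfl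
theorem f194427 : Led Lsl_ct (LP (LK LD1_c1 LD2_c16 LD3_c16)) = (LP (LK LD1_c2 LD2_c38 LD3_c49)) :=
  Lre_c IH (LK LD1_c1 LD2_c16 LD3_c16) (LK LD1_c2 LD2_c38 LD3_c49) Lrfl Lrfl
theorem f195888 : Led Lsl_gt (LP (LK LD1_c0 LD2_c35 LD3_c20)) = (LP (LK LD1_c1 LD2_c16 LD3_c20)) :=
  Lre_g IH (LK LD1_c0 LD2_c35 LD3_c20) (LK LD1_c1 LD2_c16 LD3_c20) Lrfl Lrfl
theorem f213032 : Led Lsl_gf (LP (LK LD1_c2 LD2_c43 LD3_c31)) = (LP (LK LD1_c5 LD2_c24 LD3_c57)) :=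
  Lgr Lrot124 (Lpe (f212868 IH) (Lpr_ct (f199518 IH) (Lpr_gt (f212996 IH) (Lpe (f194427 IH) (Lpr_bt (f167846 IH) (Lpr_gt (K1.f42557 IH) (Lpr_ct (K9.f173087 IH) (Lpr_gt (f195888 IH) (Lpe (f213030 IH) (Lpr_bt (f213031 IH) (Lpn (LP (LK LD1_c5 LD2_c24 LD3_c57)))))))))))))
theorem f196395 : Led Lsl_gt (LP (LK LD1_c2 LD2_c42 LD3_c20)) = (LP (LK LD1_c1 LD2_c17 LD3_c46)) :=
  Lre_g IH (LK LD1_c2 LD2_c42 LD3_c20) (LK LD1_c1 LD2_c17 LD3_c46) Lrfl Lrfl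
theorem f213041 : Led Lsl_ct (LP (LK LD1_c2 LD2_c43 LD3_c31)) = (LP (LK LD1_c2 LD2_c42 LD3_c20)) :=
  Lgr Lrot91 (Lpr_gf (f213032 IH) (Lpe (f213031 IH) (Lpr_ct (f213030 IH) (Lpe (f195888 IH) (Lpe (K9.f173087 IH) (Lpr_bt (K9.f173086 IH) (Lpe (K9.f168089 IH) (Lpe (K10.f168082 IH) (Lpr_ct (f168083 IH) (Lpe (f196395 IH) (Lpn (LP (LK LD1_c2 LD2_c42 LD3_c20)))))))))))))
theorem f213049 : Led Lsl_cf (LP (LK LD1_c2 LD2_c43 LD3_c31)) = (LP (LK LD1_c2 LD2_c42 LD3_c20)) :=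
  Lgr Lrot11 (Lpr_ct (f213041 IH) (Lpn (LP (LK LD1_c2 LD2_c42 LD3_c20))))
theorem f50122 : Led Lsl_bt (LP (LK LD1_c0 LD2_c11 LD3_c22)) = (LP (LK LD1_c0 LD2_c25 LD3_c27)) :=
  Lre_b IH (LK LD1_c0 LD2_c11 LD3_c22) (LK LD1_c0 LD2_c25 LD3_c27) Lrfl Lrfl
theorem f51399 : Led Lsl_gt (LP (LK LD1_c0 LD2_c25 LD3_c27)) = (LP (LK LD1_c0 LD2_c56 LD3_c3)) :=
  Lre_g IH (LK LD1_c0 LD2_c25 LD3_c27) (LK LD1_c0 LD2_c56 LD3_c3) Lrfl Lrfl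
theorem f212778 : Led Lsl_ct (LP (LK LD1_c0 LD2_c56 LD3_c3)) = (LP (LK LD1_c1 LD2_c58 LD3_c23)) :=
  Lre_c IH (LK LD1_c0 LD2_c56 LD3_c3) (LK LD1_c1 LD2_c58 LD3_c23) Lrfl Lrfl
theorem f212779 : Led Lsl_gf (LP (LK LD1_c1 LD2_c17 LD3_c14)) = (LP (LK LD1_c1 LD2_c58 LD3_c23)) :=
  Lgr Lrot129 (Lpe (f212775 IH) (Lpr_bt (f212760 IH) (Lpr_gt (f212770 IH) (Lpe (f192816 IH) (Lpr_ct (K11.f53081 IH) (Lpr_gt (K10.f53078 IH) (Lpe (K9.f28919 IH) (Lpr_bt (f50122 IH) (Lpr_gt (f51399 IH) (Lpr_ct (f212778 IH) (Lpn (LP (LK LD1_c1 LD2_c58 LD3_c23)))))))))))))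
theorem f33099 : Led Lsl_gt (LP (LK LD1_c0 LD2_c56 LD3_c4)) = (LP (LK LD1_c1 LD2_c58 LD3_c26)) :=
  Lre_g IH (LK LD1_c0 LD2_c56 LD3_c4) (LK LD1_c1 LD2_c58 LD3_c26) Lrfl Lrfl
theorem f200736 : Led Lsl_ct (LP (LK LD1_c1 LD2_c58 LD3_c26)) = (LP (LK LD1_c4 LD2_c2 LD3_c48)) :=
  Lre_c IH (LK LD1_c1 LD2_c58 LD3_c26) (LK LD1_c4 LD2_c2 LD3_c48) Lrfl Lrfl
theorem f213141 : Led Lsl_gt (LP (LK LD1_c4 LD2_c2 LD3_c48)) = (LP (LK LD1_c2 LD2_c42 LD3_c20)) :=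
  Lgr Lrot150 (Lpe (f200736 IH) (Lpe (f33099 IH) (Lpe (K10.f33098 IH) (Lpr_gt (f51399 IH) (Lpr_ct (f212778 IH) (Lpe (f212779 IH) (Lpr_ct (f212773 IH) (Lpe (f212849 IH) (Lpr_cf (f213049 IH) (Lpn (LP (LK LD1_c2 LD2_c42 LD3_c20))))))))))))
theorem f213148 : Led Lsl_at (LP (LK LD1_c2 LD2_c42 LD3_c17)) = (LP (LK LD1_c1 LD2_c17 LD3_c46)) :=
  Lre_a IH (LK LD1_c2 LD2_c42 LD3_c17) (LK LD1_c1 LD2_c17 LD3_c46) Lrfl Lrfl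
theorem f213149 : Led Lsl_ft (LP (LK LD1_c4 LD2_c2 LD3_c48)) = (LP (LK LD1_c2 LD2_c42 LD3_c17)) :=
  Lgr Lrot2 (Lpr_gt (f213141 IH) (Lpr_gt (f196395 IH) (Lpe (f213148 IH) (Lpn (LP (LK LD1_c2 LD2_c42 LD3_c17))))))
theorem f213169 : Led Lsl_ff (LP (LK LD1_c4 LD2_c2 LD3_c48)) = (LP (LK LD1_c2 LD2_c42 LD3_c17)) :=
  Lgr Lrot3 (Lpr_ft (f213149 IH) (Lpn (LP (LK LD1_c2 LD2_c42 LD3_c17))))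
theorem f213151 : Led Lsl_ct (LP (LK LD1_c4 LD2_c2 LD3_c48)) = (LP (LK LD1_c1 LD2_c58 LD3_c26)) :=
  Lre_c IH (LK LD1_c4 LD2_c2 LD3_c48) (LK LD1_c1 LD2_c58 LD3_c26) Lrfl Lrfl
theorem f213232 : Led Lsl_ct (LP (LK LD1_c1 LD2_c17 LD3_c45)) = (LP (LK LD1_c2 LD2_c42 LD3_c17)) :=
  Lre_c IH (LK LD1_c1 LD2_c17 LD3_c45) (LK LD1_c2 LD2_c42 LD3_c17) Lrfl Lrfl
theorem f213233 : Led Lsl_ft (LP (LK LD1_c1 LD2_c58 LD3_c26)) = (LP (LK LD1_c1 LD2_c17 LD3_c45)) :=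
  Lgr Lrot4 (Lpe (f213151 IH) (Lpr_ff (f213169 IH) (Lpe (f213232 IH) (Lpn (LP (LK LD1_c1 LD2_c17 LD3_c45))))))
theorem f216947 : Led Lsl_gt (LP (LK LD1_c1 LD2_c58 LD3_c26)) = (LP (LK LD1_c1 LD2_c17 LD3_c10)) :=
  Lgr Lrot5 (Lpr_ft (f213233 IH) (Lpr_at (f213356 IH) (Lpr_gf (f216940 IH) (Lpn (LP (LK LD1_c1 LD2_c17 LD3_c10))))))
theorem f50394 : Led Lsl_ft (LP (LK LD1_c0 LD2_c56 LD3_c4)) = (LP (LK LD1_c1 LD2_c58 LD3_c28)) :=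
  Lre_f IH (LK LD1_c0 LD2_c56 LD3_c4) (LK LD1_c1 LD2_c58 LD3_c28) Lrfl Lrfl
theorem f216959 : Led Lsl_at (LP (LK LD1_c1 LD2_c58 LD3_c28)) = (LP (LK LD1_c1 LD2_c17 LD3_c10)) :=
  Lgr Lrot26 (Lpe (f50394 IH) (Lpr_gt (f33099 IH) (Lpr_gt (f216947 IH) (Lpn (LP (LK LD1_c1 LD2_c17 LD3_c10))))))
theorem f28090 : Led Lsl_et (LP (LK LD1_c4 LD2_c2 LD3_c56)) = (LP (LK LD1_c1 LD2_c58 LD3_c28)) :=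
  Lre_e IH (LK LD1_c4 LD2_c2 LD3_c56) (LK LD1_c1 LD2_c58 LD3_c28) Lrfl Lrfl
theorem f217159 : Led Lsl_et (LP (LK LD1_c1 LD2_c17 LD3_c10)) = (LP (LK LD1_c2 LD2_c40 LD3_c56)) :=
  Lre_e IH (LK LD1_c1 LD2_c17 LD3_c10) (LK LD1_c2 LD2_c40 LD3_c56) Lrfl Lrfl
theorem f217160 : Led Lsl_af (LP (LK LD1_c4 LD2_c2 LD3_c56)) = (LP (LK LD1_c2 LD2_c40 LD3_c56)) :=
  Lgr Lrot50 (Lpr_et (f28090 IH) (Lpr_at (f216959 IH) (Lpr_et (f217159 IH) (Lpn (LP (LK LD1_c2 LD2_c40 LD3_c56))))))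
theorem f50224 : Led Lsl_ft (LP (LK LD1_c4 LD2_c2 LD3_c56)) = (LP (LK LD1_c4 LD2_c7 LD3_c46)) :=
  Lgr Lrot142 (Lpe (K9.f27984 IH) (Lpr_ct (K9.f28084 IH) (Lpr_dt (K9.f28085 IH) (Lpr_ct (K9.f28086 IH) (Lpr_dt (K9.f50220 IH) (Lpr_ct (K9.f49760 IH) (Lpr_dt (K9.f49757 IH) (Lpr_ct (K9.f50099 IH) (Lpe (K9.f49771 IH) (Lpn (LP (LK LD1_c4 LD2_c7 LD3_c46))))))))))))
theorem f217171 : Led Lsl_ft (LP (LK LD1_c4 LD2_c8 LD3_c7)) = (LP (LK LD1_c2 LD2_c40 LD3_c56)) :=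
  Lgr Lrot101 (Lpe (K9.f49771 IH) (Lpe (f50224 IH) (Lpr_af (f217160 IH) (Lpn (LP (LK LD1_c2 LD2_c40 LD3_c56))))))
theorem f50095 : Led Lsl_bt (LP (LK LD1_c8 LD2_c15 LD3_c46)) = (LP (LK LD1_c4 LD2_c8 LD3_c7)) :=
  Lre_b IH (LK LD1_c8 LD2_c15 LD3_c46) (LK LD1_c4 LD2_c8 LD3_c7) Lrfl Lrfl
theorem f171893 : Led Lsl_gt (LP (LK LD1_c0 LD2_c35 LD3_c10)) = (LP (LK LD1_c1 LD2_c15 LD3_c50)) :=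
  Lre_g IH (LK LD1_c0 LD2_c35 LD3_c10) (LK LD1_c1 LD2_c15 LD3_c50) Lrfl Lrfl
theorem f196575 : Led Lsl_af (LP (LK LD1_c1 LD2_c15 LD3_c50)) = (LP (LK LD1_c1 LD2_c15 LD3_c53)) :=
  Lgr Lrot31 (Lpe (f171893 IH) (Lpr_gf (K9.f182167 IH) (Lpr_ft (K10.f196564 IH) (Lpn (LP (LK LD1_c1 LD2_c15 LD3_c53))))))
theorem f50123 : Led Lsl_at (LP (LK LD1_c0 LD2_c25 LD3_c11)) = (LP (LK LD1_c0 LD2_c11 LD3_c22)) :=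
  Lre_a IH (LK LD1_c0 LD2_c25 LD3_c11) (LK LD1_c0 LD2_c11 LD3_c22) Lrfl Lrfl
theorem f50125 : Led Lsl_bt (LP (LK LD1_c0 LD2_c34 LD3_c36)) = (LP (LK LD1_c1 LD2_c14 LD3_c35)) :=
  Lre_b IH (LK LD1_c0 LD2_c34 LD3_c36) (LK LD1_c1 LD2_c14 LD3_c35) Lrfl Lrfl
theorem f50126 : Led Lsl_af (LP (LK LD1_c0 LD2_c55 LD3_c28)) = (LP (LK LD1_c1 LD2_c14 LD3_c35)) :=
  Lgr Lrot36 (Lpr_bt (K10.f50124 IH) (Lpr_at (f50123 IH) (Lpr_bt (f50122 IH) (Lpr_at (K9.f50118 IH) (Lpr_bt (f50125 IH) (Lpn (LP (LK LD1_c1 LD2_c14 LD3_c35))))))))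
theorem f196583 : Led Lsl_ft (LP (LK LD1_c1 LD2_c15 LD3_c50)) = (LP (LK LD1_c1 LD2_c14 LD3_c35)) :=
  Lgr Lrot101 (Lpr_af (f196575 IH) (Lpe (K10.f196564 IH) (Lpr_af (f50126 IH) (Lpn (LP (LK LD1_c1 LD2_c14 LD3_c35))))))
theorem f196577 : Led Lsl_at (LP (LK LD1_c1 LD2_c15 LD3_c50)) = (LP (LK LD1_c1 LD2_c15 LD3_c53)) :=
  Lgr Lrot100 (Lpr_af (f196575 IH) (Lpn (LP (LK LD1_c1 LD2_c15 LD3_c53))))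
theorem f196581 : Led Lsl_et (LP (LK LD1_c1 LD2_c15 LD3_c50)) = (LP (LK LD1_c1 LD2_c15 LD3_c50)) :=
  Lgr Lrot123 (Lpr_af (f196575 IH) (Lpe (K10.f194645 IH) (Lpe (f196577 IH) (Lpn (LP (LK LD1_c1 LD2_c15 LD3_c50))))))
theorem f47486 : Led Lsl_ff (LP (LK LD1_c0 LD2_c34 LD3_c35)) = (LP (LK LD1_c0 LD2_c34 LD3_c35)) :=
  Lgr Lrot23 (Lpr_ct (K1.f47474 IH) (Lpr_ft (K1.f27742 IH) (Lpe (K8.f47481 IH) (Lpn (LP (LK LD1_c0 LD2_c34 LD3_c35))))))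
theorem f196588 : Led Lsl_ff (LP (LK LD1_c1 LD2_c15 LD3_c50)) = (LP (LK LD1_c1 LD2_c14 LD3_c35)) :=
  Lgr Lrot72 (Lpr_et (f196581 IH) (Lpr_ft (f196583 IH) (Lpr_et (K9.f47483 IH) (Lpe (f47486 IH) (Lpr_et (K9.f47816 IH) (Lpn (LP (LK LD1_c1 LD2_c14 LD3_c35))))))))
theorem f171894 : Led Lsl_dt (LP (LK LD1_c1 LD2_c15 LD3_c50)) = (LP (LK LD1_c2 LD2_c37 LD3_c38)) :=
  Lre_d IH (LK LD1_c1 LD2_c15 LD3_c50) (LK LD1_c2 LD2_c37 LD3_c38) Lrfl Lrfl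
theorem f49236 : Led Lsl_dt (LP (LK LD1_c2 LD2_c35 LD3_c11)) = (LP (LK LD1_c1 LD2_c14 LD3_c35)) :=
  Lre_d IH (LK LD1_c2 LD2_c35 LD3_c11) (LK LD1_c1 LD2_c14 LD3_c35) Lrfl Lrfl
theorem f196590 : Led Lsl_ft (LP (LK LD1_c2 LD2_c37 LD3_c38)) = (LP (LK LD1_c2 LD2_c35 LD3_c11)) :=
  Lgr Lrot54 (Lpe (f171894 IH) (Lpr_ff (f196588 IH) (Lpe (f49236 IH) (Lpn (LP (LK LD1_c2 LD2_c35 LD3_c11))))))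
theorem f196765 : Led Lsl_et (LP (LK LD1_c5 LD2_c22 LD3_c15)) = (LP (LK LD1_c2 LD2_c37 LD3_c38)) :=
  Lre_e IH (LK LD1_c5 LD2_c22 LD3_c15) (LK LD1_c2 LD2_c37 LD3_c38) Lrfl Lrfl
theorem f49234 : Led Lsl_et (LP (LK LD1_c4 LD2_c7 LD3_c52)) = (LP (LK LD1_c8 LD2_c15 LD3_c46)) :=
  Lre_e IH (LK LD1_c4 LD2_c7 LD3_c52) (LK LD1_c8 LD2_c15 LD3_c46) Lrfl Lrfl
theorem f196766 : Led Lsl_ff (LP (LK LD1_c5 LD2_c22 LD3_c15)) = (LP (LK LD1_c8 LD2_c15 LD3_c46)) :=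
  Lgr Lrot72 (Lpr_et (f196765 IH) (Lpr_ft (f196590 IH) (Lpe (K9.f49218 IH) (Lpr_ft (K9.f49233 IH) (Lpr_et (f49234 IH) (Lpn (LP (LK LD1_c8 LD2_c15 LD3_c46))))))))
theorem f196800 : Led Lsl_ft (LP (LK LD1_c5 LD2_c22 LD3_c15)) = (LP (LK LD1_c8 LD2_c15 LD3_c46)) :=
  Lgr Lrot48 (Lpr_ff (f196766 IH) (Lpn (LP (LK LD1_c8 LD2_c15 LD3_c46))))
theorem f217173 : Led Lsl_bf (LP (LK LD1_c5 LD2_c22 LD3_c15)) = (LP (LK LD1_c2 LD2_c40 LD3_c56)) :=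
  Lgr Lrot61 (Lpr_ft (f196800 IH) (Lpr_bt (f50095 IH) (Lpr_ft (f217171 IH) (Lpn (LP (LK LD1_c2 LD2_c40 LD3_c56))))))
theorem f217291 : Led Lsl_bt (LP (LK LD1_c2 LD2_c37 LD3_c38)) = (LP (LK LD1_c1 LD2_c17 LD3_c10)) :=
  Lgr Lrot119 (Lpe (f196765 IH) (Lpr_bf (f217173 IH) (Lpe (f217159 IH) (Lpn (LP (LK LD1_c1 LD2_c17 LD3_c10))))))
theorem f168111 : Led Lsl_ct (LP (LK LD1_c1 LD2_c9 LD3_c61)) = (LP (LK LD1_c2 LD2_c25 LD3_c33)) :=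
  Lre_c IH (LK LD1_c1 LD2_c9 LD3_c61) (LK LD1_c2 LD2_c25 LD3_c33) Lrfl Lrfl
theorem f168112 : Led Lsl_gt (LP (LK LD1_c2 LD2_c25 LD3_c33)) = (LP (LK LD1_c4 LD2_c55 LD3_c17)) :=
  Lre_g IH (LK LD1_c2 LD2_c25 LD3_c33) (LK LD1_c4 LD2_c55 LD3_c17) Lrfl Lrfl
theorem f217295 : Led Lsl_ct (LP (LK LD1_c2 LD2_c37 LD3_c38)) = (LP (LK LD1_c4 LD2_c55 LD3_c17)) :=
  Lgr Lrot63 (Lpr_bt (f217291 IH) (Lpe (f216940 IH) (Lpe (K10.f168113 IH) (Lpr_ct (K9.f168086 IH) (Lpe (K9.f168087 IH) (Lpe (K1.f40842 IH) (Lpr_bt (K9.f41066 IH) (Lpr_gt (K9.f168085 IH) (Lpr_ct (f168111 IH) (Lpr_gt (f168112 IH) (Lpn (LP (LK LD1_c4 LD2_c55 LD3_c17)))))))))))))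
theorem f217302 : Led Lsl_cf (LP (LK LD1_c2 LD2_c37 LD3_c38)) = (LP (LK LD1_c4 LD2_c55 LD3_c17)) :=
  Lgr Lrot11 (Lpr_ct (f217295 IH) (Lpn (LP (LK LD1_c4 LD2_c55 LD3_c17))))
theorem f196763 : Led Lsl_af (LP (LK LD1_c2 LD2_c37 LD3_c38)) = (LP (LK LD1_c2 LD2_c37 LD3_c46)) :=
  Lgr Lrot45 (Lpr_ft (f196590 IH) (Lpe (K9.f50402 IH) (Lpr_ft (K10.f196554 IH) (Lpn (LP (LK LD1_c2 LD2_c37 LD3_c46))))))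
theorem f55279 : Led Lsl_dt (LP (LK LD1_c0 LD2_c32 LD3_c23)) = (LP (LK LD1_c1 LD2_c10 LD3_c2)) :=
  Lre_d IH (LK LD1_c0 LD2_c32 LD3_c23) (LK LD1_c1 LD2_c10 LD3_c2) Lrfl Lrfl
theorem f169315 : Led Lsl_ct (LP (LK LD1_c2 LD2_c25 LD3_c42)) = (LP (LK LD1_c1 LD2_c10 LD3_c2)) :=
  Lre_c IH (LK LD1_c2 LD2_c25 LD3_c42) (LK LD1_c1 LD2_c10 LD3_c2) Lrfl Lrfl
theorem f173114 : Led Lsl_at (LP (LK LD1_c4 LD2_c54 LD3_c41)) = (LP (LK LD1_c2 LD2_c25 LD3_c42)) :=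
  Lre_a IH (LK LD1_c4 LD2_c54 LD3_c41) (LK LD1_c2 LD2_c25 LD3_c42) Lrfl Lrfl
theorem f173115 : Led Lsl_gf (LP (LK LD1_c2 LD2_c25 LD3_c42)) = (LP (LK LD1_c2 LD2_c38 LD3_c33)) :=
  Lgr Lrot76 (Lpe (f173114 IH) (Lpe (K1.f55119 IH) (Lpr_gt (K9.f173112 IH) (Lpn (LP (LK LD1_c2 LD2_c38 LD3_c33))))))
theorem f182170 : Led Lsl_gf (LP (LK LD1_c1 LD2_c16 LD3_c12)) = (LP (LK LD1_c1 LD2_c57 LD3_c17)) :=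
  Lgr Lrot147 (Lpr_ct (K9.f173111 IH) (Lpe (f173115 IH) (Lpr_ct (f169315 IH) (Lpe (f55279 IH) (Lpe (K9.f167791 IH) (Lpe (K9.f42157 IH) (Lpe (K9.f171874 IH) (Lpr_gf (K9.f182167 IH) (Lpe (K9.f30858 IH) (Lpn (LP (LK LD1_c1 LD2_c57 LD3_c17))))))))))))
theorem f196814 : Led Lsl_gf (LP (LK LD1_c2 LD2_c37 LD3_c38)) = (LP (LK LD1_c1 LD2_c16 LD3_c12)) :=
  Lgr Lrot76 (Lpr_af (f196763 IH) (Lpe (K10.f196554 IH) (Lpe (f182170 IH) (Lpn (LP (LK LD1_c1 LD2_c16 LD3_c12))))))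
theorem f173119 : Led Lsl_ct (LP (LK LD1_c2 LD2_c38 LD3_c33)) = (LP (LK LD1_c1 LD2_c16 LD3_c12)) :=
  Lre_c IH (LK LD1_c2 LD2_c38 LD3_c33) (LK LD1_c1 LD2_c16 LD3_c12) Lrfl Lrfl
theorem f41166 : Led Lsl_bt (LP (LK LD1_c4 LD2_c54 LD3_c39)) = (LP (LK LD1_c2 LD2_c25 LD3_c13)) :=
  Lre_b IH (LK LD1_c4 LD2_c54 LD3_c39) (LK LD1_c2 LD2_c25 LD3_c13) Lrfl Lrfl
theorem f41181 : Led Lsl_gt (LP (LK LD1_c15 LD2_c1 LD3_c8)) = (LP (LK LD1_c7 LD2_c57 LD3_c45)) :=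
  Lre_g IH (LK LD1_c15 LD2_c1 LD3_c8) (LK LD1_c7 LD2_c57 LD3_c45) Lrfl Lrfl
theorem f41185 : Led Lsl_ct (LP (LK LD1_c24 LD2_c48 LD3_c56)) = (LP (LK LD1_c15 LD2_c1 LD3_c8)) :=
  Lre_c IH (LK LD1_c24 LD2_c48 LD3_c56) (LK LD1_c15 LD2_c1 LD3_c8) Lrfl Lrfl
theorem f217299 : Led Lsl_bt (LP (LK LD1_c4 LD2_c55 LD3_c17)) = (LP (LK LD1_c9 LD2_c42 LD3_c6)) :=
  Lre_b IH (LK LD1_c4 LD2_c55 LD3_c17) (LK LD1_c9 LD2_c42 LD3_c6) Lrfl Lrfl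
theorem f217309 : Led Lsl_gt (LP (LK LD1_c9 LD2_c42 LD3_c6)) = (LP (LK LD1_c17 LD2_c50 LD3_c38)) :=
  Lre_g IH (LK LD1_c9 LD2_c42 LD3_c6) (LK LD1_c17 LD2_c50 LD3_c38) Lrfl Lrfl
theorem f217419 : Led Lsl_bt (LP (LK LD1_c24 LD2_c48 LD3_c56)) = (LP (LK LD1_c17 LD2_c50 LD3_c38)) :=
  Lgr Lrot92 (Lpr_ct (f41185 IH) (Lpr_gt (f41181 IH) (Lpr_cf (K1.f41167 IH) (Lpr_bt (f41166 IH) (Lpr_gt (K9.f173112 IH) (Lpr_ct (f173119 IH) (Lpe (f196814 IH) (Lpr_cf (f217302 IH) (Lpr_bt (f217299 IH) (Lpr_gt (f217309 IH) (Lpn (LP (LK LD1_c17 LD2_c50 LD3_c38)))))))))))))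
theorem f54759 : Led Lsl_dt (LP (LK LD1_c15 LD2_c2 LD3_c55)) = (LP (LK LD1_c7 LD2_c58 LD3_c34)) :=
  Lre_d IH (LK LD1_c15 LD2_c2 LD3_c55) (LK LD1_c7 LD2_c58 LD3_c34) Lrfl Lrfl
theorem f173637 : Led Lsl_dt (LP (LK LD1_c10 LD2_c54 LD3_c36)) = (LP (LK LD1_c19 LD2_c42 LD3_c40)) :=
  Lre_d IH (LK LD1_c10 LD2_c54 LD3_c36) (LK LD1_c19 LD2_c42 LD3_c40) Lrfl Lrfl
theorem f173752 : Led Lsl_ff (LP (LK LD1_c15 LD2_c2 LD3_c55)) = (LP (LK LD1_c19 LD2_c42 LD3_c40)) :=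
  Lgr Lrot19 (Lpr_dt (f54759 IH) (Lpr_ft (K9.f173748 IH) (Lpr_dt (f173637 IH) (Lpn (LP (LK LD1_c19 LD2_c42 LD3_c40))))))
theorem f173761 : Led Lsl_ft (LP (LK LD1_c15 LD2_c2 LD3_c55)) = (LP (LK LD1_c19 LD2_c42 LD3_c40)) :=
  Lgr Lrot48 (Lpr_ff (f173752 IH) (Lpn (LP (LK LD1_c19 LD2_c42 LD3_c40))))
theorem f42860 : Led Lsl_bt (LP (LK LD1_c24 LD2_c48 LD3_c59)) = (LP (LK LD1_c15 LD2_c2 LD3_c55)) :=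
  Lre_b IH (LK LD1_c24 LD2_c48 LD3_c59) (LK LD1_c15 LD2_c2 LD3_c55) Lrfl Lrfl
theorem f42645 : Led Lsl_dt (LP (LK LD1_c1 LD2_c15 LD3_c36)) = (LP (LK LD1_c0 LD2_c35 LD3_c3)) :=
  Lre_d IH (LK LD1_c1 LD2_c15 LD3_c36) (LK LD1_c0 LD2_c35 LD3_c3) Lrfl Lrfl
theorem f42640 : Led Lsl_ct (LP (LK LD1_c2 LD2_c37 LD3_c12)) = (LP (LK LD1_c1 LD2_c15 LD3_c36)) :=
  Lre_c IH (LK LD1_c2 LD2_c37 LD3_c12) (LK LD1_c1 LD2_c15 LD3_c36) Lrfl Lrfl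
theorem f41250 : Led Lsl_at (LP (LK LD1_c0 LD2_c54 LD3_c40)) = (LP (LK LD1_c0 LD2_c24 LD3_c43)) :=
  Lre_a IH (LK LD1_c0 LD2_c54 LD3_c40) (LK LD1_c0 LD2_c24 LD3_c43) Lrfl Lrfl
theorem f41233 : Led Lsl_ct (LP (LK LD1_c3 LD2_c58 LD3_c11)) = (LP (LK LD1_c7 LD2_c57 LD3_c47)) :=
  Lre_c IH (LK LD1_c3 LD2_c58 LD3_c11) (LK LD1_c7 LD2_c57 LD3_c47) Lrfl Lrfl
theorem f42750 : Led Lsl_df (LP (LK LD1_c10 LD2_c32 LD3_c52)) = (LP (LK LD1_c7 LD2_c57 LD3_c47)) :=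
  Lgr Lrot106 (Lpr_ct (K9.f42697 IH) (Lpr_dt (K9.f42658 IH) (Lpr_ct (f42640 IH) (Lpr_dt (f42645 IH) (Lpr_ct (K9.f42725 IH) (Lpe (f41250 IH) (Lpe (K1.f41366 IH) (Lpr_dt (K1.f41358 IH) (Lpr_ct (f41233 IH) (Lpn (LP (LK LD1_c7 LD2_c57 LD3_c47))))))))))))
theorem f42702 : Led Lsl_bt (LP (LK LD1_c10 LD2_c32 LD3_c52)) = (LP (LK LD1_c19 LD2_c6 LD3_c9)) :=
  Lre_b IH (LK LD1_c10 LD2_c32 LD3_c52) (LK LD1_c19 LD2_c6 LD3_c9) Lrfl Lrfl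
theorem f41134 : Led Lsl_bt (LP (LK LD1_c15 LD2_c1 LD3_c11)) = (LP (LK LD1_c7 LD2_c57 LD3_c47)) :=
  Lre_b IH (LK LD1_c15 LD2_c1 LD3_c11) (LK LD1_c7 LD2_c57 LD3_c47) Lrfl Lrfl
theorem f42762 : Led Lsl_dt (LP (LK LD1_c19 LD2_c6 LD3_c9)) = (LP (LK LD1_c15 LD2_c1 LD3_c11)) :=
  Lgr Lrot79 (Lpe (f42702 IH) (Lpr_df (f42750 IH) (Lpe (f41134 IH) (Lpn (LP (LK LD1_c15 LD2_c1 LD3_c11))))))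
theorem f41203 : Led Lsl_dt (LP (LK LD1_c7 LD2_c57 LD3_c45)) = (LP (LK LD1_c15 LD2_c1 LD3_c10)) :=
  Lre_d IH (LK LD1_c7 LD2_c57 LD3_c45) (LK LD1_c15 LD2_c1 LD3_c10) Lrfl Lrfl
theorem f42801 : Led Lsl_ff (LP (LK LD1_c19 LD2_c6 LD3_c9)) = (LP (LK LD1_c15 LD2_c1 LD3_c10)) :=
  Lgr Lrot19 (Lpr_dt (f42762 IH) (Lpr_ft (K1.f41143 IH) (Lpr_dt (f41203 IH) (Lpn (LP (LK LD1_c15 LD2_c1 LD3_c10))))))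
theorem f42703 : Led Lsl_at (LP (LK LD1_c19 LD2_c6 LD3_c9)) = (LP (LK LD1_c28 LD2_c31 LD3_c37)) :=
  Lre_a IH (LK LD1_c19 LD2_c6 LD3_c9) (LK LD1_c28 LD2_c31 LD3_c37) Lrfl Lrfl
theorem f42809 : Led Lsl_at (LP (LK LD1_c24 LD2_c48 LD3_c59)) = (LP (LK LD1_c15 LD2_c1 LD3_c10)) :=
  Lre_a IH (LK LD1_c24 LD2_c48 LD3_c59) (LK LD1_c15 LD2_c1 LD3_c10) Lrfl Lrfl
theorem f42810 : Led Lsl_ft (LP (LK LD1_c28 LD2_c31 LD3_c37)) = (LP (LK LD1_c24 LD2_c48 LD3_c59)) :=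
  Lgr Lrot101 (Lpe (f42703 IH) (Lpr_ff (f42801 IH) (Lpe (f42809 IH) (Lpn (LP (LK LD1_c24 LD2_c48 LD3_c59))))))
theorem f173770 : Led Lsl_bf (LP (LK LD1_c28 LD2_c31 LD3_c37)) = (LP (LK LD1_c19 LD2_c42 LD3_c40)) :=
  Lgr Lrot61 (Lpr_ft (f42810 IH) (Lpr_bt (f42860 IH) (Lpr_ft (f173761 IH) (Lpn (LP (LK LD1_c19 LD2_c42 LD3_c40))))))
theorem f173775 : Led Lsl_bt (LP (LK LD1_c19 LD2_c42 LD3_c39)) = (LP (LK LD1_c10 LD2_c54 LD3_c36)) :=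
  Lre_b IH (LK LD1_c19 LD2_c42 LD3_c39) (LK LD1_c10 LD2_c54 LD3_c36) Lrfl Lrfl
theorem f173776 : Led Lsl_dt (LP (LK LD1_c28 LD2_c31 LD3_c37)) = (LP (LK LD1_c19 LD2_c42 LD3_c39)) :=
  Lgr Lrot79 (Lpr_bf (f173770 IH) (Lpe (f173637 IH) (Lpe (f173775 IH) (Lpn (LP (LK LD1_c19 LD2_c42 LD3_c39))))))
theorem f173780 : Led Lsl_df (LP (LK LD1_c28 LD2_c31 LD3_c37)) = (LP (LK LD1_c19 LD2_c42 LD3_c39)) :=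
  Lgr Lrot38 (Lpr_dt (f173776 IH) (Lpn (LP (LK LD1_c19 LD2_c42 LD3_c39))))
theorem f42793 : Led Lsl_at (LP (LK LD1_c28 LD2_c31 LD3_c37)) = (LP (LK LD1_c19 LD2_c6 LD3_c9)) :=
  Lre_a IH (LK LD1_c28 LD2_c31 LD3_c37) (LK LD1_c19 LD2_c6 LD3_c9) Lrfl Lrfl
theorem f173782 : Led Lsl_at (LP (LK LD1_c15 LD2_c1 LD3_c11)) = (LP (LK LD1_c19 LD2_c42 LD3_c39)) :=
  Lgr Lrot51 (Lpe (f42762 IH) (Lpe (f42793 IH) (Lpr_df (f173780 IH) (Lpn (LP (LK LD1_c19 LD2_c42 LD3_c39))))))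
theorem f41176 : Led Lsl_gt (LP (LK LD1_c7 LD2_c57 LD3_c45)) = (LP (LK LD1_c15 LD2_c1 LD3_c7)) :=
  Lre_g IH (LK LD1_c7 LD2_c57 LD3_c45) (LK LD1_c15 LD2_c1 LD3_c7) Lrfl Lrfl
theorem f173820 : Led Lsl_gt (LP (LK LD1_c15 LD2_c1 LD3_c7)) = (LP (LK LD1_c19 LD2_c42 LD3_c39)) :=
  Lgr Lrot46 (Lpe (f41176 IH) (Lpr_ft (K1.f41205 IH) (Lpr_at (f173782 IH) (Lpn (LP (LK LD1_c19 LD2_c42 LD3_c39))))))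
theorem f173822 : Led Lsl_ft (LP (LK LD1_c15 LD2_c1 LD3_c7)) = (LP (LK LD1_c24 LD2_c48 LD3_c54)) :=
  Lre_f IH (LK LD1_c15 LD2_c1 LD3_c7) (LK LD1_c24 LD2_c48 LD3_c54) Lrfl Lrfl
theorem f173823 : Led Lsl_at (LP (LK LD1_c24 LD2_c48 LD3_c54)) = (LP (LK LD1_c15 LD2_c1 LD3_c8)) :=
  Lre_a IH (LK LD1_c24 LD2_c48 LD3_c54) (LK LD1_c15 LD2_c1 LD3_c8) Lrfl Lrfl
theorem f173824 : Led Lsl_gf (LP (LK LD1_c15 LD2_c1 LD3_c8)) = (LP (LK LD1_c19 LD2_c42 LD3_c39)) :=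
  Lgr Lrot76 (Lpe (f173823 IH) (Lpe (f173822 IH) (Lpr_gt (f173820 IH) (Lpn (LP (LK LD1_c19 LD2_c42 LD3_c39))))))
theorem f42832 : Led Lsl_dt (LP (LK LD1_c24 LD2_c48 LD3_c59)) = (LP (LK LD1_c15 LD2_c1 LD3_c9)) :=
  Lre_d IH (LK LD1_c24 LD2_c48 LD3_c59) (LK LD1_c15 LD2_c1 LD3_c9) Lrfl Lrfl
theorem f173784 : Led Lsl_ft (LP (LK LD1_c15 LD2_c1 LD3_c9)) = (LP (LK LD1_c19 LD2_c42 LD3_c39)) :=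
  Lgr Lrot54 (Lpe (f42832 IH) (Lpe (f42810 IH) (Lpr_df (f173780 IH) (Lpn (LP (LK LD1_c19 LD2_c42 LD3_c39))))))
theorem f41159 : Led Lsl_at (LP (LK LD1_c15 LD2_c1 LD3_c9)) = (LP (LK LD1_c7 LD2_c57 LD3_c45)) :=
  Lre_a IH (LK LD1_c15 LD2_c1 LD3_c9) (LK LD1_c7 LD2_c57 LD3_c45) Lrfl Lrfl
theorem f41160 : Led Lsl_at (LP (LK LD1_c4 LD2_c54 LD3_c39)) = (LP (LK LD1_c9 LD2_c40 LD3_c56)) :=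
  Lre_a IH (LK LD1_c4 LD2_c54 LD3_c39) (LK LD1_c9 LD2_c40 LD3_c56) Lrfl Lrfl
theorem f41161 : Led Lsl_cf (LP (LK LD1_c15 LD2_c1 LD3_c9)) = (LP (LK LD1_c9 LD2_c40 LD3_c56)) :=
  Lgr Lrot1 (Lpr_at (f41159 IH) (Lpr_ct (K1.f41145 IH) (Lpr_at (f41160 IH) (Lpn (LP (LK LD1_c9 LD2_c40 LD3_c56))))))
theorem f41174 : Led Lsl_ft (LP (LK LD1_c17 LD2_c48 LD3_c32)) = (LP (LK LD1_c9 LD2_c40 LD3_c56)) :=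
  Lre_f IH (LK LD1_c17 LD2_c48 LD3_c32) (LK LD1_c9 LD2_c40 LD3_c56) Lrfl Lrfl
theorem f173786 : Led Lsl_cf (LP (LK LD1_c17 LD2_c48 LD3_c32)) = (LP (LK LD1_c19 LD2_c42 LD3_c39)) :=
  Lgr Lrot108 (Lpr_ft (f41174 IH) (Lpe (f41161 IH) (Lpr_ft (f173784 IH) (Lpn (LP (LK LD1_c19 LD2_c42 LD3_c39))))))
theorem f173792 : Led Lsl_ct (LP (LK LD1_c17 LD2_c48 LD3_c32)) = (LP (LK LD1_c19 LD2_c42 LD3_c39)) :=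
  Lgr Lrot59 (Lpr_cf (f173786 IH) (Lpn (LP (LK LD1_c19 LD2_c42 LD3_c39))))
theorem f173788 : Led Lsl_bt (LP (LK LD1_c17 LD2_c48 LD3_c32)) = (LP (LK LD1_c9 LD2_c43 LD3_c2)) :=
  Lre_b IH (LK LD1_c17 LD2_c48 LD3_c32) (LK LD1_c9 LD2_c43 LD3_c2) Lrfl Lrfl
theorem f173806 : Led Lsl_gt (LP (LK LD1_c4 LD2_c55 LD3_c40)) = (LP (LK LD1_c9 LD2_c43 LD3_c2)) :=
  Lre_g IH (LK LD1_c4 LD2_c55 LD3_c40) (LK LD1_c9 LD2_c43 LD3_c2) Lrfl Lrfl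
theorem f173807 : Led Lsl_bt (LP (LK LD1_c9 LD2_c43 LD3_c3)) = (LP (LK LD1_c4 LD2_c55 LD3_c40)) :=
  Lre_b IH (LK LD1_c9 LD2_c43 LD3_c3) (LK LD1_c4 LD2_c55 LD3_c40) Lrfl Lrfl
theorem f196585 : Led Lsl_dt (LP (LK LD1_c2 LD2_c37 LD3_c38)) = (LP (LK LD1_c1 LD2_c15 LD3_c50)) :=
  Lre_d IH (LK LD1_c2 LD2_c37 LD3_c38) (LK LD1_c1 LD2_c15 LD3_c50) Lrfl Lrfl
theorem f196586 : Led Lsl_ff (LP (LK LD1_c2 LD2_c37 LD3_c38)) = (LP (LK LD1_c2 LD2_c35 LD3_c11)) :=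
  Lgr Lrot19 (Lpr_dt (f196585 IH) (Lpr_ft (f196583 IH) (Lpr_dt (K9.f49217 IH) (Lpn (LP (LK LD1_c2 LD2_c35 LD3_c11))))))
theorem f49228 : Led Lsl_ct (LP (LK LD1_c5 LD2_c16 LD3_c55)) = (LP (LK LD1_c2 LD2_c35 LD3_c11)) :=
  Lre_c IH (LK LD1_c5 LD2_c16 LD3_c55) (LK LD1_c2 LD2_c35 LD3_c11) Lrfl Lrfl
theorem f217307 : Led Lsl_ff (LP (LK LD1_c5 LD2_c16 LD3_c55)) = (LP (LK LD1_c4 LD2_c55 LD3_c17)) :=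
  Lgr Lrot23 (Lpr_ct (f49228 IH) (Lpe (f196586 IH) (Lpr_ct (f217295 IH) (Lpn (LP (LK LD1_c4 LD2_c55 LD3_c17))))))
theorem f217316 : Led Lsl_ft (LP (LK LD1_c5 LD2_c16 LD3_c55)) = (LP (LK LD1_c4 LD2_c55 LD3_c17)) :=
  Lgr Lrot48 (Lpr_ff (f217307 IH) (Lpn (LP (LK LD1_c4 LD2_c55 LD3_c17))))
theorem f217318 : Led Lsl_ff (LP (LK LD1_c10 LD2_c23 LD3_c22)) = (LP (LK LD1_c9 LD2_c42 LD3_c6)) :=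
  Lgr Lrot25 (Lpr_bt (K9.f49250 IH) (Lpr_ft (f217316 IH) (Lpr_bt (f217299 IH) (Lpn (LP (LK LD1_c9 LD2_c42 LD3_c6))))))
theorem f49258 : Led Lsl_at (LP (LK LD1_c10 LD2_c23 LD3_c22)) = (LP (LK LD1_c18 LD2_c50 LD3_c59)) :=
  Lre_a IH (LK LD1_c10 LD2_c23 LD3_c22) (LK LD1_c18 LD2_c50 LD3_c59) Lrfl Lrfl
theorem f217411 : Led Lsl_gf (LP (LK LD1_c18 LD2_c50 LD3_c59)) = (LP (LK LD1_c17 LD2_c50 LD3_c38)) :=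
  Lgr Lrot76 (Lpe (f49258 IH) (Lpr_ff (f217318 IH) (Lpr_gt (f217309 IH) (Lpn (LP (LK LD1_c17 LD2_c50 LD3_c38))))))
theorem f49390 : Led Lsl_ct (LP (LK LD1_c18 LD2_c50 LD3_c59)) = (LP (LK LD1_c10 LD2_c23 LD3_c31)) :=
  Lre_c IH (LK LD1_c18 LD2_c50 LD3_c59) (LK LD1_c10 LD2_c23 LD3_c31) Lrfl Lrfl
theorem f217162 : Led Lsl_at (LP (LK LD1_c4 LD2_c2 LD3_c56)) = (LP (LK LD1_c2 LD2_c40 LD3_c56)) :=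
  Lgr Lrot100 (Lpr_af (f217160 IH) (Lpn (LP (LK LD1_c2 LD2_c40 LD3_c56))))
theorem f217169 : Led Lsl_dt (LP (LK LD1_c2 LD2_c40 LD3_c56)) = (LP (LK LD1_c2 LD2_c40 LD3_c56)) :=
  Lgr Lrot44 (Lpe (f217162 IH) (Lpr_df (K9.f27984 IH) (Lpr_af (f217160 IH) (Lpn (LP (LK LD1_c2 LD2_c40 LD3_c56))))))
theorem f217176 : Led Lsl_ff (LP (LK LD1_c4 LD2_c8 LD3_c7)) = (LP (LK LD1_c2 LD2_c40 LD3_c56)) :=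
  Lgr Lrot19 (Lpe (K9.f50089 IH) (Lpr_ft (f217171 IH) (Lpr_dt (f217169 IH) (Lpn (LP (LK LD1_c2 LD2_c40 LD3_c56))))))
theorem f50091 : Led Lsl_dt (LP (LK LD1_c15 LD2_c31 LD3_c61)) = (LP (LK LD1_c8 LD2_c15 LD3_c38)) :=
  Lre_d IH (LK LD1_c15 LD2_c31 LD3_c61) (LK LD1_c8 LD2_c15 LD3_c38) Lrfl Lrfl
theorem f49752 : Led Lsl_ct (LP (LK LD1_c25 LD2_c25 LD3_c17)) = (LP (LK LD1_c15 LD2_c31 LD3_c61)) :=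
  Lre_c IH (LK LD1_c25 LD2_c25 LD3_c17) (LK LD1_c15 LD2_c31 LD3_c61) Lrfl Lrfl
theorem f217175 : Led Lsl_ct (LP (LK LD1_c2 LD2_c40 LD3_c56)) = (LP (LK LD1_c5 LD2_c29 LD3_c19)) :=
  Lre_c IH (LK LD1_c2 LD2_c40 LD3_c56) (LK LD1_c5 LD2_c29 LD3_c19) Lrfl Lrfl
theorem f216883 : Led Lsl_dt (LP (LK LD1_c5 LD2_c29 LD3_c19)) = (LP (LK LD1_c10 LD2_c49 LD3_c61)) :=
  Lre_d IH (LK LD1_c5 LD2_c29 LD3_c19) (LK LD1_c10 LD2_c49 LD3_c61) Lrfl Lrfl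
theorem f217178 : Led Lsl_ct (LP (LK LD1_c10 LD2_c49 LD3_c61)) = (LP (LK LD1_c19 LD2_c34 LD3_c61)) :=
  Lre_c IH (LK LD1_c10 LD2_c49 LD3_c61) (LK LD1_c19 LD2_c34 LD3_c61) Lrfl Lrfl
theorem f217179 : Led Lsl_df (LP (LK LD1_c25 LD2_c25 LD3_c17)) = (LP (LK LD1_c19 LD2_c34 LD3_c61)) :=
  Lgr Lrot13 (Lpr_ct (f49752 IH) (Lpr_dt (f50091 IH) (Lpr_ct (K9.f49769 IH) (Lpr_af (K9.f49627 IH) (Lpr_ff (f217176 IH) (Lpr_dt (f217169 IH) (Lpr_ct (f217175 IH) (Lpr_dt (f216883 IH) (Lpr_ct (f217178 IH) (Lpn (LP (LK LD1_c19 LD2_c34 LD3_c61))))))))))))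
theorem f49776 : Led Lsl_ct (LP (LK LD1_c4 LD2_c7 LD3_c46)) = (LP (LK LD1_c8 LD2_c15 LD3_c38)) :=
  Lre_c IH (LK LD1_c4 LD2_c7 LD3_c46) (LK LD1_c8 LD2_c15 LD3_c38) Lrfl Lrfl
theorem f50092 : Led Lsl_ct (LP (LK LD1_c15 LD2_c31 LD3_c61)) = (LP (LK LD1_c25 LD2_c25 LD3_c17)) :=
  Lre_c IH (LK LD1_c15 LD2_c31 LD3_c61) (LK LD1_c25 LD2_c25 LD3_c17) Lrfl Lrfl
theorem f49753 : Led Lsl_ct (LP (LK LD1_c15 LD2_c33 LD3_c14)) = (LP (LK LD1_c25 LD2_c26 LD3_c51)) :=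
  Lre_c IH (LK LD1_c15 LD2_c33 LD3_c14) (LK LD1_c25 LD2_c26 LD3_c51) Lrfl Lrfl
theorem f49754 : Led Lsl_af (LP (LK LD1_c25 LD2_c25 LD3_c17)) = (LP (LK LD1_c25 LD2_c26 LD3_c51)) :=
  Lgr Lrot68 (Lpr_ct (f49752 IH) (Lpr_at (K9.f49746 IH) (Lpr_ct (f49753 IH) (Lpn (LP (LK LD1_c25 LD2_c26 LD3_c51))))))
theorem f217191 : Led Lsl_ff (LP (LK LD1_c25 LD2_c26 LD3_c51)) = (LP (LK LD1_c19 LD2_c34 LD3_c61)) :=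
  Lgr Lrot103 (Lpe (f49754 IH) (Lpe (f50092 IH) (Lpe (K9.f49756 IH) (Lpe (f49776 IH) (Lpe (K9.f50087 IH) (Lpe (K9.f49769 IH) (Lpe (f50091 IH) (Lpe (f49752 IH) (Lpr_df (f217179 IH) (Lpn (LP (LK LD1_c19 LD2_c34 LD3_c61))))))))))))
theorem f217195 : Led Lsl_ft (LP (LK LD1_c15 LD2_c33 LD3_c14)) = (LP (LK LD1_c10 LD2_c49 LD3_c61)) :=
  Lgr Lrot4 (Lpe (K9.f49760 IH) (Lpr_ff (f217191 IH) (Lpe (f217178 IH) (Lpn (LP (LK LD1_c10 LD2_c49 LD3_c61))))))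
theorem f50240 : Led Lsl_bt (LP (LK LD1_c25 LD2_c26 LD3_c35)) = (LP (LK LD1_c15 LD2_c33 LD3_c14)) :=
  Lre_b IH (LK LD1_c25 LD2_c26 LD3_c35) (LK LD1_c15 LD2_c33 LD3_c14) Lrfl Lrfl
theorem f217201 : Led Lsl_bt (LP (LK LD1_c10 LD2_c49 LD3_c61)) = (LP (LK LD1_c19 LD2_c34 LD3_c53)) :=
  Lre_b IH (LK LD1_c10 LD2_c49 LD3_c61) (LK LD1_c19 LD2_c34 LD3_c53) Lrfl Lrfl
theorem f217204 : Led Lsl_ff (LP (LK LD1_c25 LD2_c26 LD3_c35)) = (LP (LK LD1_c19 LD2_c34 LD3_c53)) :=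
  Lgr Lrot25 (Lpr_bt (f50240 IH) (Lpr_ft (f217195 IH) (Lpr_bt (f217201 IH) (Lpn (LP (LK LD1_c19 LD2_c34 LD3_c53))))))
theorem f217211 : Led Lsl_ft (LP (LK LD1_c25 LD2_c26 LD3_c35)) = (LP (LK LD1_c19 LD2_c34 LD3_c53)) :=
  Lgr Lrot48 (Lpr_ff (f217204 IH) (Lpn (LP (LK LD1_c19 LD2_c34 LD3_c53))))
theorem f191243 : Led Lsl_dt (LP (LK LD1_c15 LD2_c33 LD3_c3)) = (LP (LK LD1_c25 LD2_c26 LD3_c35)) :=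
  Lre_d IH (LK LD1_c15 LD2_c33 LD3_c3) (LK LD1_c25 LD2_c26 LD3_c35) Lrfl Lrfl
theorem f217213 : Led Lsl_dt (LP (LK LD1_c19 LD2_c34 LD3_c53)) = (LP (LK LD1_c10 LD2_c49 LD3_c58)) :=
  Lre_d IH (LK LD1_c19 LD2_c34 LD3_c53) (LK LD1_c10 LD2_c49 LD3_c58) Lrfl Lrfl
theorem f217215 : Led Lsl_ff (LP (LK LD1_c15 LD2_c33 LD3_c3)) = (LP (LK LD1_c10 LD2_c49 LD3_c58)) :=
  Lgr Lrot19 (Lpr_dt (f191243 IH) (Lpr_ft (f217211 IH) (Lpr_dt (f217213 IH) (Lpn (LP (LK LD1_c10 LD2_c49 LD3_c58))))))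
theorem f50686 : Led Lsl_at (LP (LK LD1_c15 LD2_c33 LD3_c3)) = (LP (LK LD1_c25 LD2_c26 LD3_c10)) :=
  Lre_a IH (LK LD1_c15 LD2_c33 LD3_c3) (LK LD1_c25 LD2_c26 LD3_c10) Lrfl Lrfl
theorem f217217 : Led Lsl_at (LP (LK LD1_c19 LD2_c34 LD3_c50)) = (LP (LK LD1_c10 LD2_c49 LD3_c58)) :=
  Lre_a IH (LK LD1_c19 LD2_c34 LD3_c50) (LK LD1_c10 LD2_c49 LD3_c58) Lrfl Lrfl
theorem f217218 : Led Lsl_ft (LP (LK LD1_c25 LD2_c26 LD3_c10)) = (LP (LK LD1_c19 LD2_c34 LD3_c50)) :=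
  Lgr Lrot101 (Lpe (f50686 IH) (Lpr_ff (f217215 IH) (Lpe (f217217 IH) (Lpn (LP (LK LD1_c19 LD2_c34 LD3_c50))))))
theorem f217232 : Led Lsl_ff (LP (LK LD1_c25 LD2_c26 LD3_c10)) = (LP (LK LD1_c19 LD2_c34 LD3_c50)) :=
  Lgr Lrot3 (Lpr_ft (f217218 IH) (Lpn (LP (LK LD1_c19 LD2_c34 LD3_c50))))
theorem f49402 : Led Lsl_et (LP (LK LD1_c25 LD2_c26 LD3_c10)) = (LP (LK LD1_c15 LD2_c32 LD3_c53)) :=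
  Lre_e IH (LK LD1_c25 LD2_c26 LD3_c10) (LK LD1_c15 LD2_c32 LD3_c53) Lrfl Lrfl
theorem f49401 : Led Lsl_ft (LP (LK LD1_c15 LD2_c32 LD3_c53)) = (LP (LK LD1_c8 LD2_c16 LD3_c13)) :=
  Lre_f IH (LK LD1_c15 LD2_c32 LD3_c53) (LK LD1_c8 LD2_c16 LD3_c13) Lrfl Lrfl
theorem f49291 : Led Lsl_at (LP (LK LD1_c8 LD2_c16 LD3_c13)) = (LP (LK LD1_c4 LD2_c8 LD3_c4)) :=
  Lre_a IH (LK LD1_c8 LD2_c16 LD3_c13) (LK LD1_c4 LD2_c8 LD3_c4) Lrfl Lrfl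
theorem f49292 : Led Lsl_at (LP (LK LD1_c5 LD2_c16 LD3_c58)) = (LP (LK LD1_c10 LD2_c23 LD3_c31)) :=
  Lre_a IH (LK LD1_c5 LD2_c16 LD3_c58) (LK LD1_c10 LD2_c23 LD3_c31) Lrfl Lrfl
theorem f49293 : Led Lsl_ef (LP (LK LD1_c8 LD2_c16 LD3_c13)) = (LP (LK LD1_c10 LD2_c23 LD3_c31)) :=
  Lgr Lrot20 (Lpr_at (f49291 IH) (Lpr_et (K9.f49283 IH) (Lpr_at (f49292 IH) (Lpn (LP (LK LD1_c10 LD2_c23 LD3_c31))))))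
theorem f49392 : Led Lsl_et (LP (LK LD1_c8 LD2_c16 LD3_c13)) = (LP (LK LD1_c10 LD2_c23 LD3_c31)) :=
  Lgr Lrot87 (Lpr_ef (f49293 IH) (Lpn (LP (LK LD1_c10 LD2_c23 LD3_c31))))
theorem f217240 : Led Lsl_et (LP (LK LD1_c10 LD2_c49 LD3_c57)) = (LP (LK LD1_c19 LD2_c34 LD3_c50)) :=
  Lre_e IH (LK LD1_c10 LD2_c49 LD3_c57) (LK LD1_c19 LD2_c34 LD3_c50) Lrfl Lrfl
theorem f217241 : Led Lsl_ft (LP (LK LD1_c10 LD2_c23 LD3_c31)) = (LP (LK LD1_c10 LD2_c49 LD3_c57)) :=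
  Lgr Lrot86 (Lpe (f49392 IH) (Lpe (f49401 IH) (Lpe (f49402 IH) (Lpr_ff (f217232 IH) (Lpe (f217240 IH) (Lpn (LP (LK LD1_c10 LD2_c49 LD3_c57))))))))
theorem f217245 : Led Lsl_at (LP (LK LD1_c10 LD2_c49 LD3_c57)) = (LP (LK LD1_c5 LD2_c29 LD3_c18)) :=
  Lre_a IH (LK LD1_c10 LD2_c49 LD3_c57) (LK LD1_c5 LD2_c29 LD3_c18) Lrfl Lrfl
theorem f216949 : Led Lsl_gt (LP (LK LD1_c10 LD2_c49 LD3_c56)) = (LP (LK LD1_c5 LD2_c29 LD3_c18)) :=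
  Lre_g IH (LK LD1_c10 LD2_c49 LD3_c56) (LK LD1_c5 LD2_c29 LD3_c18) Lrfl Lrfl
theorem f217248 : Led Lsl_gt (LP (LK LD1_c10 LD2_c23 LD3_c31)) = (LP (LK LD1_c10 LD2_c49 LD3_c56)) :=
  Lgr Lrot5 (Lpr_ft (f217241 IH) (Lpr_at (f217245 IH) (Lpe (f216949 IH) (Lpn (LP (LK LD1_c10 LD2_c49 LD3_c56))))))
theorem f217428 : Led Lsl_ct (LP (LK LD1_c9 LD2_c43 LD3_c3)) = (LP (LK LD1_c10 LD2_c49 LD3_c56)) :=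
  Lgr Lrot63 (Lpr_bt (f173807 IH) (Lpr_gt (f173806 IH) (Lpe (f173788 IH) (Lpr_ct (f173792 IH) (Lpe (f173824 IH) (Lpe (f41185 IH) (Lpr_bt (f217419 IH) (Lpe (f217411 IH) (Lpr_ct (f49390 IH) (Lpr_gt (f217248 IH) (Lpn (LP (LK LD1_c10 LD2_c49 LD3_c56)))))))))))))
theorem f168114 : Led Lsl_gt (LP (LK LD1_c2 LD2_c25 LD3_c40)) = (LP (LK LD1_c4 LD2_c55 LD3_c40)) :=
  Lre_g IH (LK LD1_c2 LD2_c25 LD3_c40) (LK LD1_c4 LD2_c55 LD3_c40) Lrfl Lrfl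
theorem f55158 : Led Lsl_bt (LP (LK LD1_c1 LD2_c10 LD3_c1)) = (LP (LK LD1_c2 LD2_c25 LD3_c40)) :=
  Lre_b IH (LK LD1_c1 LD2_c10 LD3_c1) (LK LD1_c2 LD2_c25 LD3_c40) Lrfl Lrfl
theorem f55159 : Led Lsl_ct (LP (LK LD1_c1 LD2_c10 LD3_c1)) = (LP (LK LD1_c0 LD2_c32 LD3_c22)) :=
  Lre_c IH (LK LD1_c1 LD2_c10 LD3_c1) (LK LD1_c0 LD2_c32 LD3_c22) Lrfl Lrfl
theorem f44326 : Led Lsl_gt (LP (LK LD1_c1 LD2_c10 LD3_c0)) = (LP (LK LD1_c0 LD2_c32 LD3_c22)) :=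
  Lre_g IH (LK LD1_c1 LD2_c10 LD3_c0) (LK LD1_c0 LD2_c32 LD3_c22) Lrfl Lrfl
theorem f217443 : Led Lsl_ct (LP (LK LD1_c2 LD2_c25 LD3_c36)) = (LP (LK LD1_c1 LD2_c10 LD3_c0)) :=
  Lre_c IH (LK LD1_c2 LD2_c25 LD3_c36) (LK LD1_c1 LD2_c10 LD3_c0) Lrfl Lrfl
theorem f52272 : Led Lsl_bt (LP (LK LD1_c0 LD2_c56 LD3_c19)) = (LP (LK LD1_c1 LD2_c58 LD3_c28)) :=
  Lre_b IH (LK LD1_c0 LD2_c56 LD3_c19) (LK LD1_c1 LD2_c58 LD3_c28) Lrfl Lrfl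
theorem f52268 : Led Lsl_at (LP (LK LD1_c1 LD2_c57 LD3_c24)) = (LP (LK LD1_c0 LD2_c56 LD3_c19)) :=
  Lre_a IH (LK LD1_c1 LD2_c57 LD3_c24) (LK LD1_c0 LD2_c56 LD3_c19) Lrfl Lrfl
theorem f196534 : Led Lsl_bf (LP (LK LD1_c1 LD2_c57 LD3_c24)) = (LP (LK LD1_c2 LD2_c37 LD3_c46)) :=
  Lgr Lrot24 (Lpr_bt (K10.f196414 IH) (Lpn (LP (LK LD1_c2 LD2_c37 LD3_c46))))
theorem f196579 : Led Lsl_at (LP (LK LD1_c2 LD2_c37 LD3_c38)) = (LP (LK LD1_c2 LD2_c37 LD3_c46)) :=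
  Lgr Lrot51 (Lpe (f171894 IH) (Lpr_af (f196575 IH) (Lpe (K10.f194625 IH) (Lpn (LP (LK LD1_c2 LD2_c37 LD3_c46))))))
theorem f217157 : Led Lsl_bf (LP (LK LD1_c2 LD2_c37 LD3_c38)) = (LP (LK LD1_c1 LD2_c17 LD3_c10)) :=
  Lgr Lrot81 (Lpr_at (f196579 IH) (Lpe (f196534 IH) (Lpr_at (f52268 IH) (Lpr_bt (f52272 IH) (Lpr_at (f216959 IH) (Lpn (LP (LK LD1_c1 LD2_c17 LD3_c10))))))))
theorem f216848 : Led Lsl_ct (LP (LK LD1_c2 LD2_c40 LD3_c55)) = (LP (LK LD1_c1 LD2_c17 LD3_c10)) :=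
  Lre_c IH (LK LD1_c2 LD2_c40 LD3_c55) (LK LD1_c1 LD2_c17 LD3_c10) Lrfl Lrfl
theorem f216879 : Led Lsl_bt (LP (LK LD1_c5 LD2_c29 LD3_c18)) = (LP (LK LD1_c2 LD2_c40 LD3_c55)) :=
  Lre_b IH (LK LD1_c5 LD2_c29 LD3_c18) (LK LD1_c2 LD2_c40 LD3_c55) Lrfl Lrfl
theorem f217300 : Led Lsl_cf (LP (LK LD1_c5 LD2_c29 LD3_c18)) = (LP (LK LD1_c9 LD2_c42 LD3_c6)) :=
  Lgr Lrot97 (Lpr_bt (f216879 IH) (Lpr_ct (f216848 IH) (Lpe (f217157 IH) (Lpr_ct (f217295 IH) (Lpr_bt (f217299 IH) (Lpn (LP (LK LD1_c9 LD2_c42 LD3_c6))))))))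
theorem f168632 : Led Lsl_bt (LP (LK LD1_c9 LD2_c42 LD3_c6)) = (LP (LK LD1_c4 LD2_c55 LD3_c17)) :=
  Lre_b IH (LK LD1_c9 LD2_c42 LD3_c6) (LK LD1_c4 LD2_c55 LD3_c17) Lrfl Lrfl
theorem f217444 : Led Lsl_gf (LP (LK LD1_c2 LD2_c25 LD3_c36)) = (LP (LK LD1_c4 LD2_c55 LD3_c17)) :=
  Lgr Lrot181 (Lpr_ct (f217443 IH) (Lpr_gt (f44326 IH) (Lpe (f55159 IH) (Lpr_bt (f55158 IH) (Lpr_gt (f168114 IH) (Lpe (f173807 IH) (Lpr_ct (f217428 IH) (Lpr_gt (f216949 IH) (Lpr_cf (f217300 IH) (Lpr_bt (f168632 IH) (Lpn (LP (LK LD1_c4 LD2_c55 LD3_c17)))))))))))))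
theorem f30896 : Led Lsl_ft (LP (LK LD1_c8 LD2_c39 LD3_c47)) = (LP (LK LD1_c4 LD2_c21 LD3_c0)) :=
  Lre_f IH (LK LD1_c8 LD2_c39 LD3_c47) (LK LD1_c4 LD2_c21 LD3_c0) Lrfl Lrfl
theorem f47812 : Led Lsl_dt (LP (LK LD1_c0 LD2_c57 LD3_c42)) = (LP (LK LD1_c2 LD2_c1 LD3_c16)) :=
  Lre_d IH (LK LD1_c0 LD2_c57 LD3_c42) (LK LD1_c2 LD2_c1 LD3_c16) Lrfl Lrfl
theorem f50635 : Led Lsl_at (LP (LK LD1_c4 LD2_c21 LD3_c0)) = (LP (LK LD1_c4 LD2_c7 LD3_c51)) :=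
  Lgr Lrot33 (Lpe (f30896 IH) (Lpr_dt (K9.f50620 IH) (Lpr_ct (K9.f50630 IH) (Lpr_dt (K9.f44396 IH) (Lpr_ct (K9.f44399 IH) (Lpr_dt (K1.f44442 IH) (Lpe (K9.f47520 IH) (Lpr_dt (f47812 IH) (Lpr_ct (K11.f49227 IH) (Lpn (LP (LK LD1_c4 LD2_c7 LD3_c51))))))))))))
theorem f30866 : Led Lsl_ct (LP (LK LD1_c1 LD2_c57 LD3_c17)) = (LP (LK LD1_c4 LD2_c0 LD3_c60)) :=
  Lre_c IH (LK LD1_c1 LD2_c57 LD3_c17) (LK LD1_c4 LD2_c0 LD3_c60) Lrfl Lrfl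
theorem f30868 : Led Lsl_et (LP (LK LD1_c4 LD2_c0 LD3_c60)) = (LP (LK LD1_c4 LD2_c21 LD3_c0)) :=
  Lgr Lrot158 (Lpe (f30866 IH) (Lpr_ef (K9.f30860 IH) (Lpe (K11.f30867 IH) (Lpn (LP (LK LD1_c4 LD2_c21 LD3_c0))))))
theorem f49229 : Led Lsl_et (LP (LK LD1_c4 LD2_c7 LD3_c51)) = (LP (LK LD1_c5 LD2_c16 LD3_c55)) :=
  Lgr Lrot158 (Lpe (K11.f49227 IH) (Lpr_ef (K9.f49218 IH) (Lpe (f49228 IH) (Lpn (LP (LK LD1_c5 LD2_c16 LD3_c55))))))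
theorem f50641 : Led Lsl_af (LP (LK LD1_c4 LD2_c0 LD3_c60)) = (LP (LK LD1_c5 LD2_c16 LD3_c55)) :=
  Lgr Lrot50 (Lpr_et (f30868 IH) (Lpr_at (f50635 IH) (Lpr_et (f49229 IH) (Lpn (LP (LK LD1_c5 LD2_c16 LD3_c55))))))
theorem f217446 : Led Lsl_gt (LP (LK LD1_c2 LD2_c25 LD3_c36)) = (LP (LK LD1_c4 LD2_c0 LD3_c60)) :=
  Lgr Lrot46 (Lpr_gf (f217444 IH) (Lpe (f217307 IH) (Lpe (f50641 IH) (Lpn (LP (LK LD1_c4 LD2_c0 LD3_c60))))))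
theorem f217450 : Led Lsl_ct (LP (LK LD1_c1 LD2_c10 LD3_c0)) = (LP (LK LD1_c2 LD2_c25 LD3_c36)) :=
  Lre_c IH (LK LD1_c1 LD2_c10 LD3_c0) (LK LD1_c2 LD2_c25 LD3_c36) Lrfl Lrfl
theorem f41411 : Led Lsl_gt (LP (LK LD1_c2 LD2_c25 LD3_c14)) = (LP (LK LD1_c1 LD2_c10 LD3_c0)) :=
  Lre_g IH (LK LD1_c2 LD2_c25 LD3_c14) (LK LD1_c1 LD2_c10 LD3_c0) Lrfl Lrfl
theorem f41403 : Led Lsl_dt (LP (LK LD1_c2 LD2_c25 LD3_c14)) = (LP (LK LD1_c1 LD2_c9 LD3_c52)) :=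
  Lre_d IH (LK LD1_c2 LD2_c25 LD3_c14) (LK LD1_c1 LD2_c9 LD3_c52) Lrfl Lrfl
theorem f41404 : Led Lsl_gt (LP (LK LD1_c1 LD2_c9 LD3_c52)) = (LP (LK LD1_c0 LD2_c32 LD3_c21)) :=
  Lre_g IH (LK LD1_c1 LD2_c9 LD3_c52) (LK LD1_c0 LD2_c32 LD3_c21) Lrfl Lrfl
theorem f171903 : Led Lsl_ct (LP (LK LD1_c0 LD2_c32 LD3_c21)) = (LP (LK LD1_c1 LD2_c9 LD3_c58)) :=
  Lre_c IH (LK LD1_c0 LD2_c32 LD3_c21) (LK LD1_c1 LD2_c9 LD3_c58) Lrfl Lrfl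
theorem f217464 : Led Lsl_gt (LP (LK LD1_c1 LD2_c9 LD3_c58)) = (LP (LK LD1_c0 LD2_c59 LD3_c0)) :=
  Lgr Lrot150 (Lpe (f171903 IH) (Lpe (f41404 IH) (Lpe (f41403 IH) (Lpr_gt (f41411 IH) (Lpr_ct (f217450 IH) (Lpr_gt (f217446 IH) (Lpr_ct (K9.f30880 IH) (Lpe (K10.f30884 IH) (Lpr_cf (K10.f53137 IH) (Lpn (LP (LK LD1_c0 LD2_c59 LD3_c0))))))))))))
theorem f44564 : Led Lsl_ct (LP (LK LD1_c0 LD2_c55 LD3_c28)) = (LP (LK LD1_c0 LD2_c59 LD3_c0)) :=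
  Lgr Lrot15 (Lpe (K9.f28156 IH) (Lpr_cf (K1.f44562 IH) (Lpe (K0.f27703 IH) (Lpn (LP (LK LD1_c0 LD2_c59 LD3_c0))))))
theorem f52259 : Led Lsl_ct (LP (LK LD1_c0 LD2_c11 LD3_c14)) = (LP (LK LD1_c0 LD2_c25 LD3_c11)) :=
  Lre_c IH (LK LD1_c0 LD2_c11 LD3_c14) (LK LD1_c0 LD2_c25 LD3_c11) Lrfl Lrfl
theorem f180106 : Led Lsl_gf (LP (LK LD1_c0 LD2_c31 LD3_c35)) = (LP (LK LD1_c0 LD2_c25 LD3_c11)) :=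
  Lgr Lrot126 (Lpe (K9.f1710 IH) (Lpr_bt (K9.f1709 IH) (Lpr_gt (K9.f2159 IH) (Lpr_ct (K0.f2144 IH) (Lpe (f179554 IH) (Lpe (K9.f8002 IH) (Lpr_bt (K9.f179538 IH) (Lpr_gt (K9.f180097 IH) (Lpe (K10.f51568 IH) (Lpr_ct (f52259 IH) (Lpn (LP (LK LD1_c0 LD2_c25 LD3_c11)))))))))))))
theorem f170616 : Led Lsl_gt (LP (LK LD1_c0 LD2_c26 LD3_c22)) = (LP (LK LD1_c0 LD2_c58 LD3_c1)) :=
  Lre_g IH (LK LD1_c0 LD2_c26 LD3_c22) (LK LD1_c0 LD2_c58 LD3_c1) Lrfl Lrfl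
theorem f219075 : Led Lsl_ct (LP (LK LD1_c1 LD2_c55 LD3_c53)) = (LP (LK LD1_c0 LD2_c58 LD3_c1)) :=
  Lgr Lrot10 (Lpr_bt (K9.f40832 IH) (Lpr_gt (f41404 IH) (Lpr_ct (f171903 IH) (Lpr_gt (f217464 IH) (Lpe (f44564 IH) (Lpr_bt (K10.f50124 IH) (Lpe (f180106 IH) (Lpe (K9.f170688 IH) (Lpr_ct (K9.f53444 IH) (Lpr_gt (f170616 IH) (Lpn (LP (LK LD1_c0 LD2_c58 LD3_c1)))))))))))))
theorem f219119 : Led Lsl_cf (LP (LK LD1_c1 LD2_c55 LD3_c53)) = (LP (LK LD1_c0 LD2_c58 LD3_c1)) :=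
  Lgr Lrot11 (Lpr_ct (f219075 IH) (Lpn (LP (LK LD1_c0 LD2_c58 LD3_c1))))
theorem f47825 : Led Lsl_et (LP (LK LD1_c0 LD2_c57 LD3_c43)) = (LP (LK LD1_c0 LD2_c26 LD3_c15)) :=
  Lre_e IH (LK LD1_c0 LD2_c57 LD3_c43) (LK LD1_c0 LD2_c26 LD3_c15) Lrfl Lrfl
theorem f33506 : Led Lsl_et (LP (LK LD1_c0 LD2_c34 LD3_c21)) = (LP (LK LD1_c1 LD2_c14 LD3_c6)) :=
  Lre_e IH (LK LD1_c0 LD2_c34 LD3_c21) (LK LD1_c1 LD2_c14 LD3_c6) Lrfl Lrfl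
theorem f188729 : Led Lsl_gt (LP (LK LD1_c1 LD2_c14 LD3_c6)) = (LP (LK LD1_c2 LD2_c4 LD3_c21)) :=
  Lgr Lrot131 (Lpe (f33506 IH) (Lpr_dt (K1.f44920 IH) (Lpe (K1.f28503 IH) (Lpr_df (K8.f49143 IH) (Lpe (K8.f49149 IH) (Lpe (f47825 IH) (Lpr_dt (K8.f47826 IH) (Lpe (K10.f49154 IH) (Lpr_df (K10.f188723 IH) (Lpr_et (K10.f188583 IH) (Lpn (LP (LK LD1_c2 LD2_c4 LD3_c21)))))))))))))
theorem f44583 : Led Lsl_cf (LP (LK LD1_c1 LD2_c11 LD3_c14)) = (LP (LK LD1_c0 LD2_c56 LD3_c46)) :=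
  Lgr Lrot39 (Lpr_et (K9.f44528 IH) (Lpr_ct (K1.f44576 IH) (Lpr_et (K10.f44582 IH) (Lpn (LP (LK LD1_c0 LD2_c56 LD3_c46))))))
theorem f188572 : Led Lsl_bf (LP (LK LD1_c1 LD2_c55 LD3_c55)) = (LP (LK LD1_c2 LD2_c4 LD3_c21)) :=
  Lgr Lrot90 (Lpr_ct (K10.f42760 IH) (Lpr_bt (f167794 IH) (Lpr_ct (K9.f167792 IH) (Lpr_bt (K10.f188565 IH) (Lpr_ct (K11.f188571 IH) (Lpn (LP (LK LD1_c2 LD2_c4 LD3_c21))))))))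
theorem f51450 : Led Lsl_ct (LP (LK LD1_c2 LD2_c4 LD3_c21)) = (LP (LK LD1_c0 LD2_c59 LD3_c12)) :=
  Lre_c IH (LK LD1_c2 LD2_c4 LD3_c21) (LK LD1_c0 LD2_c59 LD3_c12) Lrfl Lrfl
theorem f27516 : Led Lsl_gt (LP (LK LD1_c0 LD2_c59 LD3_c12)) = (LP (LK LD1_c2 LD2_c4 LD3_c18)) :=
  Lre_g IH (LK LD1_c0 LD2_c59 LD3_c12) (LK LD1_c2 LD2_c4 LD3_c18) Lrfl Lrfl
theorem f27511 : Led Lsl_ct (LP (LK LD1_c0 LD2_c59 LD3_c39)) = (LP (LK LD1_c2 LD2_c4 LD3_c18)) :=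
  Lre_c IH (LK LD1_c0 LD2_c59 LD3_c39) (LK LD1_c2 LD2_c4 LD3_c18) Lrfl Lrfl
theorem f574 : Led Lsl_gt (LP (LK LD1_c0 LD2_c57 LD3_c50)) = (LP (LK LD1_c0 LD2_c26 LD3_c19)) :=
  Lre_g IH (LK LD1_c0 LD2_c57 LD3_c50) (LK LD1_c0 LD2_c26 LD3_c19) Lrfl Lrfl
theorem f51449 : Led Lsl_ct (LP (LK LD1_c0 LD2_c26 LD3_c19)) = (LP (LK LD1_c0 LD2_c57 LD3_c56)) :=
  Lre_c IH (LK LD1_c0 LD2_c26 LD3_c19) (LK LD1_c0 LD2_c57 LD3_c56) Lrfl Lrfl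
theorem f190817 : Led Lsl_gt (LP (LK LD1_c0 LD2_c57 LD3_c56)) = (LP (LK LD1_c1 LD2_c11 LD3_c12)) :=
  Lgr Lrot149 (Lpe (f51449 IH) (Lpe (f574 IH) (Lpr_bf (K9.f51431 IH) (Lpr_ct (f27511 IH) (Lpe (f27516 IH) (Lpe (f51450 IH) (Lpe (f188572 IH) (Lpr_gf (f190813 IH) (Lpr_bf (K8.f48160 IH) (Lpr_ct (K10.f48172 IH) (Lpn (LP (LK LD1_c1 LD2_c11 LD3_c12)))))))))))))
theorem f190826 : Led Lsl_bt (LP (LK LD1_c0 LD2_c26 LD3_c19)) = (LP (LK LD1_c0 LD2_c57 LD3_c55)) :=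
  Lre_b IH (LK LD1_c0 LD2_c26 LD3_c19) (LK LD1_c0 LD2_c57 LD3_c55) Lrfl Lrfl
theorem f190827 : Led Lsl_gt (LP (LK LD1_c2 LD2_c1 LD3_c48)) = (LP (LK LD1_c0 LD2_c57 LD3_c55)) :=
  Lre_g IH (LK LD1_c2 LD2_c1 LD3_c48) (LK LD1_c0 LD2_c57 LD3_c55) Lrfl Lrfl
theorem f219282 : Led Lsl_bf (LP (LK LD1_c2 LD2_c1 LD3_c48)) = (LP (LK LD1_c0 LD2_c58 LD3_c1)) :=
  Lgr Lrot156 (Lpr_gt (f190827 IH) (Lpe (f190826 IH) (Lpr_ct (f51449 IH) (Lpr_gt (f190817 IH) (Lpe (K10.f48172 IH) (Lpe (K8.f48160 IH) (Lpe (f190813 IH) (Lpr_ct (K10.f42760 IH) (Lpr_gt (K9.f41369 IH) (Lpr_cf (f219119 IH) (Lpn (LP (LK LD1_c0 LD2_c58 LD3_c1)))))))))))))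
theorem f51452 : Led Lsl_ct (LP (LK LD1_c0 LD2_c57 LD3_c55)) = (LP (LK LD1_c2 LD2_c1 LD3_c50)) :=
  Lre_c IH (LK LD1_c0 LD2_c57 LD3_c55) (LK LD1_c2 LD2_c1 LD3_c50) Lrfl Lrfl
theorem f219284 : Led Lsl_gf (LP (LK LD1_c1 LD2_c11 LD3_c14)) = (LP (LK LD1_c2 LD2_c1 LD3_c50)) :=
  Lgr Lrot129 (Lpr_cf (f44583 IH) (Lpr_bt (K10.f47983 IH) (Lpr_gt (f188729 IH) (Lpe (K10.f188586 IH) (Lpr_ct (K10.f42760 IH) (Lpr_gt (K9.f41369 IH) (Lpr_cf (f219119 IH) (Lpe (f219282 IH) (Lpr_gt (f190827 IH) (Lpr_ct (f51452 IH) (Lpn (LP (LK LD1_c2 LD2_c1 LD3_c50)))))))))))))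
theorem f219286 : Led Lsl_gt (LP (LK LD1_c2 LD2_c3 LD3_c19)) = (LP (LK LD1_c2 LD2_c1 LD3_c50)) :=
  Lre_g IH (LK LD1_c2 LD2_c3 LD3_c19) (LK LD1_c2 LD2_c1 LD3_c50) Lrfl Lrfl
theorem f219287 : Led Lsl_ff (LP (LK LD1_c1 LD2_c59 LD3_c37)) = (LP (LK LD1_c2 LD2_c3 LD3_c19)) :=
  Lgr Lrot52 (Lpr_at (K9.f53628 IH) (Lpr_gf (f219284 IH) (Lpe (f219286 IH) (Lpn (LP (LK LD1_c2 LD2_c3 LD3_c19))))))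
theorem f219333 : Led Lsl_ft (LP (LK LD1_c1 LD2_c59 LD3_c37)) = (LP (LK LD1_c2 LD2_c3 LD3_c19)) :=
  Lgr Lrot48 (Lpr_ff (f219287 IH) (Lpn (LP (LK LD1_c2 LD2_c3 LD3_c19))))
theorem f199180 : Led Lsl_dt (LP (LK LD1_c2 LD2_c3 LD3_c19)) = (LP (LK LD1_c4 LD2_c12 LD3_c11)) :=
  Lre_d IH (LK LD1_c2 LD2_c3 LD3_c19) (LK LD1_c4 LD2_c12 LD3_c11) Lrfl Lrfl
theorem f219337 : Led Lsl_ff (LP (LK LD1_c4 LD2_c4 LD3_c61)) = (LP (LK LD1_c4 LD2_c12 LD3_c11)) :=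
  Lgr Lrot19 (Lpr_dt (K9.f53633 IH) (Lpr_ft (f219333 IH) (Lpr_dt (f199180 IH) (Lpn (LP (LK LD1_c4 LD2_c12 LD3_c11))))))
theorem f187305 : Led Lsl_dt (LP (LK LD1_c2 LD2_c25 LD3_c9)) = (LP (LK LD1_c2 LD2_c0 LD3_c38)) :=
  Lgr Lrot42 (Lpr_df (K10.f187301 IH) (Lpn (LP (LK LD1_c2 LD2_c0 LD3_c38))))
theorem f47857 : Led Lsl_et (LP (LK LD1_c2 LD2_c0 LD3_c32)) = (LP (LK LD1_c0 LD2_c57 LD3_c14)) :=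
  Lre_e IH (LK LD1_c2 LD2_c0 LD3_c32) (LK LD1_c0 LD2_c57 LD3_c14) Lrfl Lrfl
theorem f187340 : Led Lsl_df (LP (LK LD1_c2 LD2_c25 LD3_c12)) = (LP (LK LD1_c2 LD2_c0 LD3_c32)) :=
  Lgr Lrot132 (Lpe (K9.f55290 IH) (Lpe (f55279 IH) (Lpe (K9.f40805 IH) (Lpe (K10.f169269 IH) (Lpr_dt (f187305 IH) (Lpe (K10.f47855 IH) (Lpe (K1.f47851 IH) (Lpr_et (K1.f47843 IH) (Lpe (K9.f47856 IH) (Lpe (f47857 IH) (Lpn (LP (LK LD1_c2 LD2_c0 LD3_c32)))))))))))))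
theorem f173154 : Led Lsl_et (LP (LK LD1_c2 LD2_c25 LD3_c12)) = (LP (LK LD1_c4 LD2_c54 LD3_c37)) :=
  Lre_e IH (LK LD1_c2 LD2_c25 LD3_c12) (LK LD1_c4 LD2_c54 LD3_c37) Lrfl Lrfl
theorem f187349 : Led Lsl_et (LP (LK LD1_c0 LD2_c57 LD3_c14)) = (LP (LK LD1_c2 LD2_c0 LD3_c32)) :=
  Lre_e IH (LK LD1_c0 LD2_c57 LD3_c14) (LK LD1_c2 LD2_c0 LD3_c32) Lrfl Lrfl
theorem f54550 : Led Lsl_dt (LP (LK LD1_c2 LD2_c0 LD3_c31)) = (LP (LK LD1_c0 LD2_c57 LD3_c14)) :=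
  Lre_d IH (LK LD1_c2 LD2_c0 LD3_c31) (LK LD1_c0 LD2_c57 LD3_c14) Lrfl Lrfl
theorem f187350 : Led Lsl_et (LP (LK LD1_c4 LD2_c6 LD3_c25)) = (LP (LK LD1_c2 LD2_c0 LD3_c31)) :=
  Lre_e IH (LK LD1_c4 LD2_c6 LD3_c25) (LK LD1_c2 LD2_c0 LD3_c31) Lrfl Lrfl
theorem f187351 : Led Lsl_dt (LP (LK LD1_c4 LD2_c54 LD3_c37)) = (LP (LK LD1_c4 LD2_c6 LD3_c25)) :=
  Lgr Lrot77 (Lpe (f173154 IH) (Lpr_df (f187340 IH) (Lpe (f187349 IH) (Lpe (f54550 IH) (Lpe (f187350 IH) (Lpn (LP (LK LD1_c4 LD2_c6 LD3_c25))))))))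
theorem f187362 : Led Lsl_df (LP (LK LD1_c4 LD2_c54 LD3_c37)) = (LP (LK LD1_c4 LD2_c6 LD3_c25)) :=
  Lgr Lrot38 (Lpr_dt (f187351 IH) (Lpn (LP (LK LD1_c4 LD2_c6 LD3_c25))))
theorem f173155 : Led Lsl_et (LP (LK LD1_c8 LD2_c55 LD3_c1)) = (LP (LK LD1_c4 LD2_c28 LD3_c27)) :=
  Lre_e IH (LK LD1_c8 LD2_c55 LD3_c1) (LK LD1_c4 LD2_c28 LD3_c27) Lrfl Lrfl
theorem f173156 : Led Lsl_bt (LP (LK LD1_c4 LD2_c54 LD3_c37)) = (LP (LK LD1_c8 LD2_c55 LD3_c1)) :=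
  Lgr Lrot119 (Lpe (f173154 IH) (Lpr_bf (K9.f173126 IH) (Lpe (f173155 IH) (Lpn (LP (LK LD1_c8 LD2_c55 LD3_c1))))))
theorem f187394 : Led Lsl_bt (LP (LK LD1_c8 LD2_c13 LD3_c12)) = (LP (LK LD1_c4 LD2_c6 LD3_c25)) :=
  Lre_b IH (LK LD1_c8 LD2_c13 LD3_c12) (LK LD1_c4 LD2_c6 LD3_c25) Lrfl Lrfl
theorem f187395 : Led Lsl_dt (LP (LK LD1_c8 LD2_c55 LD3_c1)) = (LP (LK LD1_c8 LD2_c13 LD3_c12)) :=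
  Lgr Lrot79 (Lpe (f173156 IH) (Lpr_df (f187362 IH) (Lpe (f187394 IH) (Lpn (LP (LK LD1_c8 LD2_c13 LD3_c12))))))
theorem f187412 : Led Lsl_et (LP (LK LD1_c4 LD2_c28 LD3_c27)) = (LP (LK LD1_c8 LD2_c55 LD3_c1)) :=
  Lre_e IH (LK LD1_c4 LD2_c28 LD3_c27) (LK LD1_c8 LD2_c55 LD3_c1) Lrfl Lrfl
theorem f187413 : Led Lsl_et (LP (LK LD1_c8 LD2_c13 LD3_c12)) = (LP (LK LD1_c4 LD2_c6 LD3_c17)) :=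
  Lre_e IH (LK LD1_c8 LD2_c13 LD3_c12) (LK LD1_c4 LD2_c6 LD3_c17) Lrfl Lrfl
theorem f179070 : Led Lsl_dt (LP (LK LD1_c4 LD2_c6 LD3_c17)) = (LP (LK LD1_c2 LD2_c0 LD3_c29)) :=
  Lre_d IH (LK LD1_c4 LD2_c6 LD3_c17) (LK LD1_c2 LD2_c0 LD3_c29) Lrfl Lrfl
theorem f179077 : Led Lsl_et (LP (LK LD1_c2 LD2_c0 LD3_c29)) = (LP (LK LD1_c4 LD2_c6 LD3_c18)) :=
  Lre_e IH (LK LD1_c2 LD2_c0 LD3_c29) (LK LD1_c4 LD2_c6 LD3_c18) Lrfl Lrfl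
theorem f187414 : Led Lsl_df (LP (LK LD1_c4 LD2_c28 LD3_c27)) = (LP (LK LD1_c4 LD2_c6 LD3_c18)) :=
  Lgr Lrot70 (Lpr_et (f187412 IH) (Lpr_dt (f187395 IH) (Lpr_et (f187413 IH) (Lpr_dt (f179070 IH) (Lpr_et (f179077 IH) (Lpn (LP (LK LD1_c4 LD2_c6 LD3_c18))))))))
theorem f179072 : Led Lsl_et (LP (LK LD1_c4 LD2_c6 LD3_c18)) = (LP (LK LD1_c2 LD2_c0 LD3_c29)) :=
  Lre_e IH (LK LD1_c4 LD2_c6 LD3_c18) (LK LD1_c2 LD2_c0 LD3_c29) Lrfl Lrfl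
theorem f187448 : Led Lsl_gt (LP (LK LD1_c4 LD2_c28 LD3_c27)) = (LP (LK LD1_c2 LD2_c28 LD3_c5)) :=
  Lgr Lrot112 (Lpr_df (f187414 IH) (Lpr_et (f179072 IH) (Lpr_gf (K10.f183711 IH) (Lpe (K9.f43242 IH) (Lpe (K8.f43244 IH) (Lpr_gf (K1.f44542 IH) (Lpe (K1.f44568 IH) (Lpr_gf (K1.f44526 IH) (Lpe (K9.f44528 IH) (Lpr_dt (K9.f44529 IH) (Lpn (LP (LK LD1_c2 LD2_c28 LD3_c5)))))))))))))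
theorem f219381 : Led Lsl_gf (LP (LK LD1_c4 LD2_c28 LD3_c27)) = (LP (LK LD1_c4 LD2_c12 LD3_c11)) :=
  Lgr Lrot47 (Lpr_gt (f187448 IH) (Lpe (K9.f53639 IH) (Lpr_ff (f219337 IH) (Lpn (LP (LK LD1_c4 LD2_c12 LD3_c11))))))
theorem f165040 : Led Lsl_ct (LP (LK LD1_c1 LD2_c2 LD3_c40)) = (LP (LK LD1_c0 LD2_c28 LD3_c33)) :=
  Lre_c IH (LK LD1_c1 LD2_c2 LD3_c40) (LK LD1_c0 LD2_c28 LD3_c33) Lrfl Lrfl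
theorem f42297 : Led Lsl_dt (LP (LK LD1_c0 LD2_c28 LD3_c33)) = (LP (LK LD1_c0 LD2_c12 LD3_c37)) :=
  Lre_d IH (LK LD1_c0 LD2_c28 LD3_c33) (LK LD1_c0 LD2_c12 LD3_c37) Lrfl Lrfl
theorem f211432 : Led Lsl_ct (LP (LK LD1_c0 LD2_c27 LD3_c59)) = (LP (LK LD1_c0 LD2_c12 LD3_c37)) :=
  Lre_c IH (LK LD1_c0 LD2_c27 LD3_c59) (LK LD1_c0 LD2_c12 LD3_c37) Lrfl Lrfl
theorem f219290 : Led Lsl_ct (LP (LK LD1_c2 LD2_c1 LD3_c50)) = (LP (LK LD1_c0 LD2_c57 LD3_c55)) :=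
  Lre_c IH (LK LD1_c2 LD2_c1 LD3_c50) (LK LD1_c0 LD2_c57 LD3_c55) Lrfl Lrfl
theorem f219584 : Led Lsl_gf (LP (LK LD1_c0 LD2_c27 LD3_c59)) = (LP (LK LD1_c0 LD2_c57 LD3_c55)) :=
  Lgr Lrot104 (Lpr_ct (f211432 IH) (Lpe (f42297 IH) (Lpe (f165040 IH) (Lpe (K9.f173159 IH) (Lpe (K9.f173125 IH) (Lpr_gf (f219381 IH) (Lpe (f199180 IH) (Lpr_gt (f219286 IH) (Lpr_ct (f219290 IH) (Lpn (LP (LK LD1_c0 LD2_c57 LD3_c55))))))))))))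
theorem f40804 : Led Lsl_bt (LP (LK LD1_c0 LD2_c14 LD3_c32)) = (LP (LK LD1_c0 LD2_c32 LD3_c23)) :=
  Lre_b IH (LK LD1_c0 LD2_c14 LD3_c32) (LK LD1_c0 LD2_c32 LD3_c23) Lrfl Lrfl
theorem f40822 : Led Lsl_gt (LP (LK LD1_c0 LD2_c32 LD3_c23)) = (LP (LK LD1_c1 LD2_c9 LD3_c50)) :=
  Lre_g IH (LK LD1_c0 LD2_c32 LD3_c23) (LK LD1_c1 LD2_c9 LD3_c50) Lrfl Lrfl
theorem f219597 : Led Lsl_bf (LP (LK LD1_c1 LD2_c9 LD3_c50)) = (LP (LK LD1_c2 LD2_c1 LD3_c50)) :=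
  Lgr Lrot34 (Lpe (f40822 IH) (Lpe (f40804 IH) (Lpr_ct (K9.f40750 IH) (Lpe (K9.f40816 IH) (Lpr_cf (K9.f173165 IH) (Lpe (K9.f8579 IH) (Lpe (K10.f173185 IH) (Lpr_ct (K10.f173186 IH) (Lpr_gf (f219584 IH) (Lpe (f219290 IH) (Lpn (LP (LK LD1_c2 LD2_c1 LD3_c50)))))))))))))
theorem f41974 : Led Lsl_gt (LP (LK LD1_c1 LD2_c9 LD3_c50)) = (LP (LK LD1_c0 LD2_c32 LD3_c19)) :=
  Lre_g IH (LK LD1_c1 LD2_c9 LD3_c50) (LK LD1_c0 LD2_c32 LD3_c19) Lrfl Lrfl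
theorem f41416 : Led Lsl_bt (LP (LK LD1_c1 LD2_c2 LD3_c32)) = (LP (LK LD1_c0 LD2_c35 LD3_c1)) :=
  Lre_b IH (LK LD1_c1 LD2_c2 LD3_c32) (LK LD1_c0 LD2_c35 LD3_c1) Lrfl Lrfl
theorem f219609 : Led Lsl_ct (LP (LK LD1_c1 LD2_c2 LD3_c32)) = (LP (LK LD1_c2 LD2_c1 LD3_c48)) :=
  Lgr Lrot64 (Lpr_bt (f41416 IH) (Lpe (K1.f41432 IH) (Lpe (K9.f171873 IH) (Lpr_ct (K9.f171874 IH) (Lpe (K9.f41277 IH) (Lpe (K1.f41273 IH) (Lpe (f41974 IH) (Lpr_bf (f219597 IH) (Lpr_ct (f219290 IH) (Lpe (f190827 IH) (Lpn (LP (LK LD1_c2 LD2_c1 LD3_c48)))))))))))))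
theorem f41550 : Led Lsl_dt (LP (LK LD1_c2 LD2_c11 LD3_c0)) = (LP (LK LD1_c1 LD2_c2 LD3_c32)) :=
  Lre_d IH (LK LD1_c2 LD2_c11 LD3_c0) (LK LD1_c1 LD2_c2 LD3_c32) Lrfl Lrfl
theorem f191894 : Led Lsl_ct (LP (LK LD1_c4 LD2_c27 LD3_c40)) = (LP (LK LD1_c2 LD2_c11 LD3_c0)) :=
  Lre_c IH (LK LD1_c4 LD2_c27 LD3_c40) (LK LD1_c2 LD2_c11 LD3_c0) Lrfl Lrfl
theorem f187454 : Led Lsl_dt (LP (LK LD1_c8 LD2_c40 LD3_c10)) = (LP (LK LD1_c4 LD2_c27 LD3_c40)) :=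
  Lre_d IH (LK LD1_c8 LD2_c40 LD3_c10) (LK LD1_c4 LD2_c27 LD3_c40) Lrfl Lrfl
theorem f219618 : Led Lsl_ct (LP (LK LD1_c4 LD2_c21 LD3_c15)) = (LP (LK LD1_c8 LD2_c40 LD3_c10)) :=
  Lre_c IH (LK LD1_c4 LD2_c21 LD3_c15) (LK LD1_c8 LD2_c40 LD3_c10) Lrfl Lrfl
theorem f219619 : Led Lsl_dt (LP (LK LD1_c2 LD2_c8 LD3_c8)) = (LP (LK LD1_c4 LD2_c21 LD3_c15)) :=
  Lre_d IH (LK LD1_c2 LD2_c8 LD3_c8) (LK LD1_c4 LD2_c21 LD3_c15) Lrfl Lrfl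
theorem f219588 : Led Lsl_ct (LP (LK LD1_c1 LD2_c1 LD3_c12)) = (LP (LK LD1_c2 LD2_c8 LD3_c8)) :=
  Lre_c IH (LK LD1_c1 LD2_c1 LD3_c12) (LK LD1_c2 LD2_c8 LD3_c8) Lrfl Lrfl
theorem f31029 : Led Lsl_dt (LP (LK LD1_c0 LD2_c27 LD3_c59)) = (LP (LK LD1_c1 LD2_c1 LD3_c12)) :=
  Lre_d IH (LK LD1_c0 LD2_c27 LD3_c59) (LK LD1_c1 LD2_c1 LD3_c12) Lrfl Lrfl
theorem f41847 : Led Lsl_ft (LP (LK LD1_c0 LD2_c27 LD3_c59)) = (LP (LK LD1_c1 LD2_c1 LD3_c13)) :=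
  Lre_f IH (LK LD1_c0 LD2_c27 LD3_c59) (LK LD1_c1 LD2_c1 LD3_c13) Lrfl Lrfl
theorem f219622 : Led Lsl_at (LP (LK LD1_c1 LD2_c1 LD3_c13)) = (LP (LK LD1_c2 LD2_c1 LD3_c48)) :=
  Lgr Lrot33 (Lpe (f41847 IH) (Lpr_dt (f31029 IH) (Lpr_ct (f219588 IH) (Lpr_dt (f219619 IH) (Lpr_ct (f219618 IH) (Lpr_dt (f187454 IH) (Lpr_ct (f191894 IH) (Lpr_dt (f41550 IH) (Lpr_ct (f219609 IH) (Lpn (LP (LK LD1_c2 LD2_c1 LD3_c48))))))))))))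
theorem f43078 : Led Lsl_dt (LP (LK LD1_c2 LD2_c8 LD3_c9)) = (LP (LK LD1_c1 LD2_c1 LD3_c13)) :=
  Lre_d IH (LK LD1_c2 LD2_c8 LD3_c9) (LK LD1_c1 LD2_c1 LD3_c13) Lrfl Lrfl
theorem f219294 : Led Lsl_dt (LP (LK LD1_c2 LD2_c1 LD3_c48)) = (LP (LK LD1_c4 LD2_c8 LD3_c52)) :=
  Lre_d IH (LK LD1_c2 LD2_c1 LD3_c48) (LK LD1_c4 LD2_c8 LD3_c52) Lrfl Lrfl
theorem f219733 : Led Lsl_af (LP (LK LD1_c2 LD2_c8 LD3_c9)) = (LP (LK LD1_c4 LD2_c8 LD3_c52)) :=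
  Lgr Lrot117 (Lpr_dt (f43078 IH) (Lpr_at (f219622 IH) (Lpr_dt (f219294 IH) (Lpn (LP (LK LD1_c4 LD2_c8 LD3_c52))))))
theorem f219735 : Led Lsl_at (LP (LK LD1_c2 LD2_c8 LD3_c9)) = (LP (LK LD1_c4 LD2_c8 LD3_c52)) :=
  Lgr Lrot100 (Lpr_af (f219733 IH) (Lpn (LP (LK LD1_c4 LD2_c8 LD3_c52))))
theorem f219750 : Led Lsl_ft (LP (LK LD1_c1 LD2_c1 LD3_c12)) = (LP (LK LD1_c2 LD2_c8 LD3_c9)) :=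
  Lre_f IH (LK LD1_c1 LD2_c1 LD3_c12) (LK LD1_c2 LD2_c8 LD3_c9) Lrfl Lrfl
theorem f47815 : Led Lsl_gt (LP (LK LD1_c1 LD2_c1 LD3_c12)) = (LP (LK LD1_c2 LD2_c8 LD3_c7)) :=
  Lre_g IH (LK LD1_c1 LD2_c1 LD3_c12) (LK LD1_c2 LD2_c8 LD3_c7) Lrfl Lrfl
theorem f219761 : Led Lsl_gt (LP (LK LD1_c2 LD2_c8 LD3_c7)) = (LP (LK LD1_c4 LD2_c8 LD3_c52)) :=
  Lgr Lrot46 (Lpe (f47815 IH) (Lpr_ft (f219750 IH) (Lpr_at (f219735 IH) (Lpn (LP (LK LD1_c4 LD2_c8 LD3_c52))))))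
theorem f53646 : Led Lsl_dt (LP (LK LD1_c9 LD2_c51 LD3_c43)) = (LP (LK LD1_c5 LD2_c0 LD3_c41)) :=
  Lre_d IH (LK LD1_c9 LD2_c51 LD3_c43) (LK LD1_c5 LD2_c0 LD3_c41) Lrfl Lrfl
theorem f199179 : Led Lsl_dt (LP (LK LD1_c4 LD2_c12 LD3_c11)) = (LP (LK LD1_c2 LD2_c3 LD3_c19)) :=
  Lre_d IH (LK LD1_c4 LD2_c12 LD3_c11) (LK LD1_c2 LD2_c3 LD3_c19) Lrfl Lrfl
theorem f199183 : Led Lsl_ct (LP (LK LD1_c2 LD2_c3 LD3_c19)) = (LP (LK LD1_c0 LD2_c58 LD3_c38)) :=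
  Lre_c IH (LK LD1_c2 LD2_c3 LD3_c19) (LK LD1_c0 LD2_c58 LD3_c38) Lrfl Lrfl
theorem f53328 : Led Lsl_dt (LP (LK LD1_c0 LD2_c58 LD3_c38)) = (LP (LK LD1_c2 LD2_c3 LD3_c20)) :=
  Lre_d IH (LK LD1_c0 LD2_c58 LD3_c38) (LK LD1_c2 LD2_c3 LD3_c20) Lrfl Lrfl
theorem f53329 : Led Lsl_ct (LP (LK LD1_c2 LD2_c3 LD3_c20)) = (LP (LK LD1_c4 LD2_c12 LD3_c12)) :=
  Lre_c IH (LK LD1_c2 LD2_c3 LD3_c20) (LK LD1_c4 LD2_c12 LD3_c12) Lrfl Lrfl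
theorem f219383 : Led Lsl_dt (LP (LK LD1_c4 LD2_c12 LD3_c12)) = (LP (LK LD1_c8 LD2_c24 LD3_c0)) :=
  Lre_d IH (LK LD1_c4 LD2_c12 LD3_c12) (LK LD1_c8 LD2_c24 LD3_c0) Lrfl Lrfl
theorem f219384 : Led Lsl_cf (LP (LK LD1_c9 LD2_c51 LD3_c43)) = (LP (LK LD1_c8 LD2_c24 LD3_c0)) :=
  Lgr Lrot161 (Lpr_dt (f53646 IH) (Lpr_ct (f53642 IH) (Lpe (K9.f53639 IH) (Lpr_ff (f219337 IH) (Lpr_dt (f199179 IH) (Lpr_ct (f199183 IH) (Lpr_dt (f53328 IH) (Lpr_ct (f53329 IH) (Lpr_dt (f219383 IH) (Lpn (LP (LK LD1_c8 LD2_c24 LD3_c0))))))))))))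
theorem f53645 : Led Lsl_dt (LP (LK LD1_c2 LD2_c28 LD3_c5)) = (LP (LK LD1_c1 LD2_c11 LD3_c14)) :=
  Lre_d IH (LK LD1_c2 LD2_c28 LD3_c5) (LK LD1_c1 LD2_c11 LD3_c14) Lrfl Lrfl
theorem f47957 : Led Lsl_dt (LP (LK LD1_c0 LD2_c56 LD3_c46)) = (LP (LK LD1_c1 LD2_c59 LD3_c39)) :=
  Lre_d IH (LK LD1_c0 LD2_c56 LD3_c46) (LK LD1_c1 LD2_c59 LD3_c39) Lrfl Lrfl
theorem f53961 : Led Lsl_ct (LP (LK LD1_c1 LD2_c59 LD3_c39)) = (LP (LK LD1_c4 LD2_c5 LD3_c1)) :=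
  Lre_c IH (LK LD1_c1 LD2_c59 LD3_c39) (LK LD1_c4 LD2_c5 LD3_c1) Lrfl Lrfl
theorem f47448 : Led Lsl_dt (LP (LK LD1_c0 LD2_c56 LD3_c45)) = (LP (LK LD1_c1 LD2_c59 LD3_c38)) :=
  Lre_d IH (LK LD1_c0 LD2_c56 LD3_c45) (LK LD1_c1 LD2_c59 LD3_c38) Lrfl Lrfl
theorem f53636 : Led Lsl_dt (LP (LK LD1_c1 LD2_c59 LD3_c39)) = (LP (LK LD1_c0 LD2_c56 LD3_c46)) :=
  Lre_d IH (LK LD1_c1 LD2_c59 LD3_c39) (LK LD1_c0 LD2_c56 LD3_c46) Lrfl Lrfl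
theorem f53965 : Led Lsl_at (LP (LK LD1_c1 LD2_c59 LD3_c38)) = (LP (LK LD1_c1 LD2_c59 LD3_c39)) :=
  Lgr Lrot51 (Lpe (f47448 IH) (Lpr_af (K10.f53959 IH) (Lpe (f53636 IH) (Lpn (LP (LK LD1_c1 LD2_c59 LD3_c39))))))
theorem f49145 : Led Lsl_ef (LP (LK LD1_c2 LD2_c34 LD3_c19)) = (LP (LK LD1_c2 LD2_c35 LD3_c21)) :=
  Lgr Lrot73 (Lpr_dt (K10.f33431 IH) (Lpr_et (K10.f33420 IH) (Lpr_dt (K8.f49141 IH) (Lpr_et (K8.f48167 IH) (Lpr_dt (K10.f32931 IH) (Lpn (LP (LK LD1_c2 LD2_c35 LD3_c21))))))))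
theorem f53835 : Led Lsl_et (LP (LK LD1_c4 LD2_c6 LD3_c9)) = (LP (LK LD1_c4 LD2_c50 LD3_c30)) :=
  Lgr Lrot74 (Lpr_bf (K10.f53833 IH) (Lpr_ef (f49145 IH) (Lpe (K10.f48165 IH) (Lpn (LP (LK LD1_c4 LD2_c50 LD3_c30))))))
theorem f53839 : Led Lsl_ef (LP (LK LD1_c4 LD2_c6 LD3_c9)) = (LP (LK LD1_c4 LD2_c50 LD3_c30)) :=
  Lgr Lrot88 (Lpr_et (f53835 IH) (Lpn (LP (LK LD1_c4 LD2_c50 LD3_c30))))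
theorem f44496 : Led Lsl_dt (LP (LK LD1_c1 LD2_c59 LD3_c36)) = (LP (LK LD1_c4 LD2_c4 LD3_c60)) :=
  Lre_d IH (LK LD1_c1 LD2_c59 LD3_c36) (LK LD1_c4 LD2_c4 LD3_c60) Lrfl Lrfl
theorem f53823 : Led Lsl_af (LP (LK LD1_c4 LD2_c6 LD3_c9)) = (LP (LK LD1_c4 LD2_c4 LD3_c60)) :=
  Lgr Lrot117 (Lpr_dt (K10.f53811 IH) (Lpr_at (K10.f53817 IH) (Lpr_dt (f44496 IH) (Lpn (LP (LK LD1_c4 LD2_c4 LD3_c60))))))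
theorem f53825 : Led Lsl_at (LP (LK LD1_c4 LD2_c6 LD3_c9)) = (LP (LK LD1_c4 LD2_c4 LD3_c60)) :=
  Lgr Lrot100 (Lpr_af (f53823 IH) (Lpn (LP (LK LD1_c4 LD2_c4 LD3_c60))))
theorem f53841 : Led Lsl_et (LP (LK LD1_c4 LD2_c4 LD3_c60)) = (LP (LK LD1_c4 LD2_c6 LD3_c8)) :=
  Lgr Lrot123 (Lpe (f53825 IH) (Lpr_ef (f53839 IH) (Lpr_af (K10.f48029 IH) (Lpn (LP (LK LD1_c4 LD2_c6 LD3_c8))))))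
theorem f53827 : Led Lsl_bt (LP (LK LD1_c1 LD2_c59 LD3_c38)) = (LP (LK LD1_c4 LD2_c4 LD3_c60)) :=
  Lre_b IH (LK LD1_c1 LD2_c59 LD3_c38) (LK LD1_c4 LD2_c4 LD3_c60) Lrfl Lrfl
theorem f48034 : Led Lsl_bt (LP (LK LD1_c4 LD2_c6 LD3_c8)) = (LP (LK LD1_c2 LD2_c0 LD3_c23)) :=
  Lre_b IH (LK LD1_c4 LD2_c6 LD3_c8) (LK LD1_c2 LD2_c0 LD3_c23) Lrfl Lrfl
theorem f53885 : Led Lsl_ef (LP (LK LD1_c1 LD2_c59 LD3_c38)) = (LP (LK LD1_c2 LD2_c0 LD3_c23)) :=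
  Lgr Lrot29 (Lpr_bt (f53827 IH) (Lpr_et (f53841 IH) (Lpr_bt (f48034 IH) (Lpn (LP (LK LD1_c2 LD2_c0 LD3_c23))))))
theorem f53973 : Led Lsl_ef (LP (LK LD1_c2 LD2_c0 LD3_c24)) = (LP (LK LD1_c1 LD2_c59 LD3_c39)) :=
  Lgr Lrot20 (Lpe (K10.f53736 IH) (Lpe (f53885 IH) (Lpr_at (f53965 IH) (Lpn (LP (LK LD1_c1 LD2_c59 LD3_c39))))))
theorem f53979 : Led Lsl_et (LP (LK LD1_c2 LD2_c0 LD3_c24)) = (LP (LK LD1_c1 LD2_c59 LD3_c39)) :=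
  Lgr Lrot87 (Lpr_ef (f53973 IH) (Lpn (LP (LK LD1_c1 LD2_c59 LD3_c39))))
theorem f44494 : Led Lsl_ct (LP (LK LD1_c4 LD2_c6 LD3_c11)) = (LP (LK LD1_c2 LD2_c0 LD3_c24)) :=
  Lre_c IH (LK LD1_c4 LD2_c6 LD3_c11) (LK LD1_c2 LD2_c0 LD3_c24) Lrfl Lrfl
theorem f53981 : Led Lsl_ef (LP (LK LD1_c4 LD2_c6 LD3_c11)) = (LP (LK LD1_c4 LD2_c5 LD3_c1)) :=
  Lgr Lrot28 (Lpr_ct (f44494 IH) (Lpr_et (f53979 IH) (Lpr_ct (f53961 IH) (Lpn (LP (LK LD1_c4 LD2_c5 LD3_c1))))))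
theorem f53771 : Led Lsl_ct (LP (LK LD1_c2 LD2_c0 LD3_c23)) = (LP (LK LD1_c4 LD2_c6 LD3_c10)) :=
  Lre_c IH (LK LD1_c2 LD2_c0 LD3_c23) (LK LD1_c4 LD2_c6 LD3_c10) Lrfl Lrfl
theorem f53772 : Led Lsl_at (LP (LK LD1_c4 LD2_c6 LD3_c10)) = (LP (LK LD1_c4 LD2_c6 LD3_c11)) :=
  Lgr Lrot107 (Lpe (f53771 IH) (Lpr_af (K10.f53736 IH) (Lpe (f44494 IH) (Lpn (LP (LK LD1_c4 LD2_c6 LD3_c11))))))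
theorem f53777 : Led Lsl_af (LP (LK LD1_c4 LD2_c6 LD3_c10)) = (LP (LK LD1_c4 LD2_c6 LD3_c11)) :=
  Lgr Lrot0 (Lpr_at (f53772 IH) (Lpn (LP (LK LD1_c4 LD2_c6 LD3_c11))))
theorem f53890 : Led Lsl_et (LP (LK LD1_c1 LD2_c59 LD3_c38)) = (LP (LK LD1_c2 LD2_c0 LD3_c23)) :=
  Lgr Lrot87 (Lpr_ef (f53885 IH) (Lpn (LP (LK LD1_c2 LD2_c0 LD3_c23))))
theorem f53651 : Led Lsl_ct (LP (LK LD1_c4 LD2_c5 LD3_c0)) = (LP (LK LD1_c1 LD2_c59 LD3_c38)) :=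
  Lre_c IH (LK LD1_c4 LD2_c5 LD3_c0) (LK LD1_c1 LD2_c59 LD3_c38) Lrfl Lrfl
theorem f53892 : Led Lsl_ef (LP (LK LD1_c4 LD2_c5 LD3_c0)) = (LP (LK LD1_c4 LD2_c6 LD3_c10)) :=
  Lgr Lrot28 (Lpr_ct (f53651 IH) (Lpr_et (f53890 IH) (Lpr_ct (f53771 IH) (Lpn (LP (LK LD1_c4 LD2_c6 LD3_c10))))))
theorem f53983 : Led Lsl_at (LP (LK LD1_c4 LD2_c5 LD3_c0)) = (LP (LK LD1_c4 LD2_c5 LD3_c1)) :=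
  Lgr Lrot80 (Lpr_ef (f53892 IH) (Lpr_af (f53777 IH) (Lpr_ef (f53981 IH) (Lpn (LP (LK LD1_c4 LD2_c5 LD3_c1))))))
theorem f219393 : Led Lsl_ff (LP (LK LD1_c4 LD2_c5 LD3_c0)) = (LP (LK LD1_c4 LD2_c12 LD3_c12)) :=
  Lgr Lrot103 (Lpr_at (f53983 IH) (Lpe (f53961 IH) (Lpe (f47957 IH) (Lpe (K10.f53956 IH) (Lpe (f53645 IH) (Lpe (f53642 IH) (Lpe (f53646 IH) (Lpr_cf (f219384 IH) (Lpe (f219383 IH) (Lpn (LP (LK LD1_c4 LD2_c12 LD3_c12))))))))))))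
theorem f219408 : Led Lsl_ft (LP (LK LD1_c4 LD2_c5 LD3_c0)) = (LP (LK LD1_c4 LD2_c12 LD3_c12)) :=
  Lgr Lrot48 (Lpr_ff (f219393 IH) (Lpn (LP (LK LD1_c4 LD2_c12 LD3_c12))))
theorem f188842 : Led Lsl_ft (LP (LK LD1_c1 LD2_c0 LD3_c16)) = (LP (LK LD1_c0 LD2_c57 LD3_c11)) :=
  Lgr Lrot4 (Lpe (K10.f188759 IH) (Lpr_ff (K10.f188838 IH) (Lpe (K10.f53816 IH) (Lpn (LP (LK LD1_c0 LD2_c57 LD3_c11))))))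
theorem f188762 : Led Lsl_bf (LP (LK LD1_c2 LD2_c6 LD3_c35)) = (LP (LK LD1_c2 LD2_c11 LD3_c38)) :=
  Lgr Lrot24 (Lpr_bt (K10.f188760 IH) (Lpn (LP (LK LD1_c2 LD2_c11 LD3_c38))))
theorem f188768 : Led Lsl_ef (LP (LK LD1_c2 LD2_c6 LD3_c35)) = (LP (LK LD1_c2 LD2_c6 LD3_c35)) :=
  Lgr Lrot29 (Lpr_bt (K10.f188760 IH) (Lpe (K10.f188742 IH) (Lpe (f188762 IH) (Lpn (LP (LK LD1_c2 LD2_c6 LD3_c35))))))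
theorem f188696 : Led Lsl_ct (LP (LK LD1_c1 LD2_c0 LD3_c16)) = (LP (LK LD1_c2 LD2_c6 LD3_c35)) :=
  Lre_c IH (LK LD1_c1 LD2_c0 LD3_c16) (LK LD1_c2 LD2_c6 LD3_c35) Lrfl Lrfl
theorem f188771 : Led Lsl_et (LP (LK LD1_c1 LD2_c0 LD3_c16)) = (LP (LK LD1_c1 LD2_c0 LD3_c16)) :=
  Lgr Lrot158 (Lpe (K10.f188759 IH) (Lpr_ef (f188768 IH) (Lpe (f188696 IH) (Lpn (LP (LK LD1_c1 LD2_c0 LD3_c16))))))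
theorem f48011 : Led Lsl_et (LP (LK LD1_c0 LD2_c57 LD3_c11)) = (LP (LK LD1_c0 LD2_c25 LD3_c58)) :=
  Lre_e IH (LK LD1_c0 LD2_c57 LD3_c11) (LK LD1_c0 LD2_c25 LD3_c58) Lrfl Lrfl
theorem f47449 : Led Lsl_et (LP (LK LD1_c0 LD2_c25 LD3_c58)) = (LP (LK LD1_c0 LD2_c57 LD3_c11)) :=
  Lre_e IH (LK LD1_c0 LD2_c25 LD3_c58) (LK LD1_c0 LD2_c57 LD3_c11) Lrfl Lrfl
theorem f188848 : Led Lsl_ff (LP (LK LD1_c1 LD2_c0 LD3_c16)) = (LP (LK LD1_c0 LD2_c57 LD3_c11)) :=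
  Lgr Lrot72 (Lpr_et (f188771 IH) (Lpr_ft (f188842 IH) (Lpr_et (f48011 IH) (Lpe (K8.f48005 IH) (Lpr_et (f47449 IH) (Lpn (LP (LK LD1_c0 LD2_c57 LD3_c11))))))))
theorem f171483 : Led Lsl_dt (LP (LK LD1_c1 LD2_c0 LD3_c16)) = (LP (LK LD1_c2 LD2_c6 LD3_c36)) :=
  Lre_d IH (LK LD1_c1 LD2_c0 LD3_c16) (LK LD1_c2 LD2_c6 LD3_c36) Lrfl Lrfl
theorem f53774 : Led Lsl_dt (LP (LK LD1_c2 LD2_c0 LD3_c23)) = (LP (LK LD1_c0 LD2_c57 LD3_c11)) :=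
  Lre_d IH (LK LD1_c2 LD2_c0 LD3_c23) (LK LD1_c0 LD2_c57 LD3_c11) Lrfl Lrfl
theorem f188852 : Led Lsl_ft (LP (LK LD1_c2 LD2_c6 LD3_c36)) = (LP (LK LD1_c2 LD2_c0 LD3_c23)) :=
  Lgr Lrot54 (Lpe (f171483 IH) (Lpr_ff (f188848 IH) (Lpe (f53774 IH) (Lpn (LP (LK LD1_c2 LD2_c0 LD3_c23))))))
theorem f188812 : Led Lsl_ct (LP (LK LD1_c4 LD2_c18 LD3_c37)) = (LP (LK LD1_c2 LD2_c6 LD3_c36)) :=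
  Lre_c IH (LK LD1_c4 LD2_c18 LD3_c37) (LK LD1_c2 LD2_c6 LD3_c36) Lrfl Lrfl
theorem f188857 : Led Lsl_ff (LP (LK LD1_c4 LD2_c18 LD3_c37)) = (LP (LK LD1_c4 LD2_c6 LD3_c10)) :=
  Lgr Lrot23 (Lpr_ct (f188812 IH) (Lpr_ft (f188852 IH) (Lpr_ct (f53771 IH) (Lpn (LP (LK LD1_c4 LD2_c6 LD3_c10))))))
theorem f188865 : Led Lsl_ft (LP (LK LD1_c4 LD2_c18 LD3_c37)) = (LP (LK LD1_c4 LD2_c6 LD3_c10)) :=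
  Lgr Lrot48 (Lpr_ff (f188857 IH) (Lpn (LP (LK LD1_c4 LD2_c6 LD3_c10))))
theorem f188872 : Led Lsl_et (LP (LK LD1_c8 LD2_c35 LD3_c58)) = (LP (LK LD1_c4 LD2_c18 LD3_c37)) :=
  Lre_e IH (LK LD1_c8 LD2_c35 LD3_c58) (LK LD1_c4 LD2_c18 LD3_c37) Lrfl Lrfl
theorem f219417 : Led Lsl_et (LP (LK LD1_c4 LD2_c12 LD3_c12)) = (LP (LK LD1_c8 LD2_c24 LD3_c1)) :=
  Lre_e IH (LK LD1_c4 LD2_c12 LD3_c12) (LK LD1_c8 LD2_c24 LD3_c1) Lrfl Lrfl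
theorem f219418 : Led Lsl_ff (LP (LK LD1_c8 LD2_c35 LD3_c58)) = (LP (LK LD1_c8 LD2_c24 LD3_c1)) :=
  Lgr Lrot72 (Lpr_et (f188872 IH) (Lpr_ft (f188865 IH) (Lpe (f53892 IH) (Lpr_ft (f219408 IH) (Lpr_et (f219417 IH) (Lpn (LP (LK LD1_c8 LD2_c24 LD3_c1))))))))
theorem f188791 : Led Lsl_ct (LP (LK LD1_c8 LD2_c35 LD3_c58)) = (LP (LK LD1_c4 LD2_c18 LD3_c38)) :=
  Lre_c IH (LK LD1_c8 LD2_c35 LD3_c58) (LK LD1_c4 LD2_c18 LD3_c38) Lrfl Lrfl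
theorem f219363 : Led Lsl_ct (LP (LK LD1_c4 LD2_c12 LD3_c13)) = (LP (LK LD1_c8 LD2_c24 LD3_c1)) :=
  Lre_c IH (LK LD1_c4 LD2_c12 LD3_c13) (LK LD1_c8 LD2_c24 LD3_c1) Lrfl Lrfl
theorem f219423 : Led Lsl_ft (LP (LK LD1_c4 LD2_c18 LD3_c38)) = (LP (LK LD1_c4 LD2_c12 LD3_c13)) :=
  Lgr Lrot4 (Lpe (f188791 IH) (Lpr_ff (f219418 IH) (Lpe (f219363 IH) (Lpn (LP (LK LD1_c4 LD2_c12 LD3_c13))))))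
theorem f188770 : Led Lsl_dt (LP (LK LD1_c2 LD2_c6 LD3_c36)) = (LP (LK LD1_c1 LD2_c0 LD3_c16)) :=
  Lre_d IH (LK LD1_c2 LD2_c6 LD3_c36) (LK LD1_c1 LD2_c0 LD3_c16) Lrfl Lrfl
theorem f188782 : Led Lsl_et (LP (LK LD1_c4 LD2_c18 LD3_c38)) = (LP (LK LD1_c2 LD2_c6 LD3_c36)) :=
  Lre_e IH (LK LD1_c4 LD2_c18 LD3_c38) (LK LD1_c2 LD2_c6 LD3_c36) Lrfl Lrfl
theorem f188783 : Led Lsl_et (LP (LK LD1_c2 LD2_c6 LD3_c36)) = (LP (LK LD1_c4 LD2_c18 LD3_c38)) :=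
  Lre_e IH (LK LD1_c2 LD2_c6 LD3_c36) (LK LD1_c4 LD2_c18 LD3_c38) Lrfl Lrfl
theorem f188784 : Led Lsl_df (LP (LK LD1_c4 LD2_c18 LD3_c38)) = (LP (LK LD1_c4 LD2_c18 LD3_c38)) :=
  Lgr Lrot70 (Lpr_et (f188782 IH) (Lpr_dt (f188770 IH) (Lpr_et (f188771 IH) (Lpr_dt (f171483 IH) (Lpr_et (f188783 IH) (Lpn (LP (LK LD1_c4 LD2_c18 LD3_c38))))))))
theorem f47461 : Led Lsl_et (LP (LK LD1_c1 LD2_c59 LD3_c37)) = (LP (LK LD1_c0 LD2_c56 LD3_c44)) :=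
  Lre_e IH (LK LD1_c1 LD2_c59 LD3_c37) (LK LD1_c0 LD2_c56 LD3_c44) Lrfl Lrfl
theorem f219339 : Led Lsl_ef (LP (LK LD1_c2 LD2_c3 LD3_c19)) = (LP (LK LD1_c2 LD2_c3 LD3_c19)) :=
  Lgr Lrot21 (Lpe (f219287 IH) (Lpr_et (f47461 IH) (Lpe (K10.f47470 IH) (Lpr_et (K9.f47467 IH) (Lpr_ft (f219333 IH) (Lpn (LP (LK LD1_c2 LD2_c3 LD3_c19))))))))
theorem f199178 : Led Lsl_ct (LP (LK LD1_c0 LD2_c58 LD3_c38)) = (LP (LK LD1_c2 LD2_c3 LD3_c19)) :=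
  Lre_c IH (LK LD1_c0 LD2_c58 LD3_c38) (LK LD1_c2 LD2_c3 LD3_c19) Lrfl Lrfl
theorem f219341 : Led Lsl_et (LP (LK LD1_c0 LD2_c58 LD3_c38)) = (LP (LK LD1_c0 LD2_c58 LD3_c38)) :=
  Lgr Lrot158 (Lpe (f199183 IH) (Lpr_ef (f219339 IH) (Lpe (f199178 IH) (Lpn (LP (LK LD1_c0 LD2_c58 LD3_c38))))))
theorem f219354 : Led Lsl_dt (LP (LK LD1_c2 LD2_c3 LD3_c20)) = (LP (LK LD1_c0 LD2_c58 LD3_c38)) :=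
  Lre_d IH (LK LD1_c2 LD2_c3 LD3_c20) (LK LD1_c0 LD2_c58 LD3_c38) Lrfl Lrfl
theorem f219355 : Led Lsl_et (LP (LK LD1_c4 LD2_c12 LD3_c13)) = (LP (LK LD1_c2 LD2_c3 LD3_c20)) :=
  Lre_e IH (LK LD1_c4 LD2_c12 LD3_c13) (LK LD1_c2 LD2_c3 LD3_c20) Lrfl Lrfl
theorem f219356 : Led Lsl_et (LP (LK LD1_c2 LD2_c3 LD3_c20)) = (LP (LK LD1_c4 LD2_c12 LD3_c13)) :=
  Lre_e IH (LK LD1_c2 LD2_c3 LD3_c20) (LK LD1_c4 LD2_c12 LD3_c13) Lrfl Lrfl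
theorem f219357 : Led Lsl_df (LP (LK LD1_c4 LD2_c12 LD3_c13)) = (LP (LK LD1_c4 LD2_c12 LD3_c13)) :=
  Lgr Lrot70 (Lpr_et (f219355 IH) (Lpr_dt (f219354 IH) (Lpr_et (f219341 IH) (Lpr_dt (f53328 IH) (Lpr_et (f219356 IH) (Lpn (LP (LK LD1_c4 LD2_c12 LD3_c13))))))))
theorem f219428 : Led Lsl_ff (LP (LK LD1_c4 LD2_c18 LD3_c38)) = (LP (LK LD1_c4 LD2_c12 LD3_c13)) :=
  Lgr Lrot19 (Lpe (f188784 IH) (Lpr_ft (f219423 IH) (Lpe (f219357 IH) (Lpn (LP (LK LD1_c4 LD2_c12 LD3_c13))))))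
theorem f188786 : Led Lsl_bt (LP (LK LD1_c4 LD2_c18 LD3_c38)) = (LP (LK LD1_c8 LD2_c35 LD3_c54)) :=
  Lre_b IH (LK LD1_c4 LD2_c18 LD3_c38) (LK LD1_c8 LD2_c35 LD3_c54) Lrfl Lrfl
theorem f219360 : Led Lsl_bt (LP (LK LD1_c8 LD2_c23 LD3_c59)) = (LP (LK LD1_c4 LD2_c12 LD3_c13)) :=
  Lre_b IH (LK LD1_c8 LD2_c23 LD3_c59) (LK LD1_c4 LD2_c12 LD3_c13) Lrfl Lrfl
theorem f219430 : Led Lsl_ft (LP (LK LD1_c8 LD2_c35 LD3_c54)) = (LP (LK LD1_c8 LD2_c23 LD3_c59)) :=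
  Lgr Lrot75 (Lpe (f188786 IH) (Lpr_ff (f219428 IH) (Lpe (f219360 IH) (Lpn (LP (LK LD1_c8 LD2_c23 LD3_c59))))))
theorem f188702 : Led Lsl_et (LP (LK LD1_c4 LD2_c18 LD3_c35)) = (LP (LK LD1_c8 LD2_c35 LD3_c54)) :=
  Lre_e IH (LK LD1_c4 LD2_c18 LD3_c35) (LK LD1_c8 LD2_c35 LD3_c54) Lrfl Lrfl
theorem f188854 : Led Lsl_bt (LP (LK LD1_c4 LD2_c18 LD3_c35)) = (LP (LK LD1_c2 LD2_c6 LD3_c36)) :=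
  Lre_b IH (LK LD1_c4 LD2_c18 LD3_c35) (LK LD1_c2 LD2_c6 LD3_c36) Lrfl Lrfl
theorem f188855 : Led Lsl_ff (LP (LK LD1_c4 LD2_c18 LD3_c35)) = (LP (LK LD1_c4 LD2_c6 LD3_c8)) :=
  Lgr Lrot25 (Lpr_bt (f188854 IH) (Lpr_ft (f188852 IH) (Lpr_bt (K10.f48033 IH) (Lpn (LP (LK LD1_c4 LD2_c6 LD3_c8))))))
theorem f219376 : Led Lsl_et (LP (LK LD1_c8 LD2_c23 LD3_c59)) = (LP (LK LD1_c4 LD2_c12 LD3_c10)) :=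
  Lre_e IH (LK LD1_c8 LD2_c23 LD3_c59) (LK LD1_c4 LD2_c12 LD3_c10) Lrfl Lrfl
theorem f219434 : Led Lsl_ff (LP (LK LD1_c4 LD2_c4 LD3_c60)) = (LP (LK LD1_c4 LD2_c12 LD3_c10)) :=
  Lgr Lrot72 (Lpr_et (f53841 IH) (Lpe (f188855 IH) (Lpr_et (f188702 IH) (Lpr_ft (f219430 IH) (Lpr_et (f219376 IH) (Lpn (LP (LK LD1_c4 LD2_c12 LD3_c10))))))))
theorem f219441 : Led Lsl_ft (LP (LK LD1_c4 LD2_c4 LD3_c60)) = (LP (LK LD1_c4 LD2_c12 LD3_c10)) :=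
  Lgr Lrot48 (Lpr_ff (f219434 IH) (Lpn (LP (LK LD1_c4 LD2_c12 LD3_c10))))
theorem f219375 : Led Lsl_dt (LP (LK LD1_c4 LD2_c12 LD3_c10)) = (LP (LK LD1_c2 LD2_c3 LD3_c18)) :=
  Lre_d IH (LK LD1_c4 LD2_c12 LD3_c10) (LK LD1_c2 LD2_c3 LD3_c18) Lrfl Lrfl
theorem f219446 : Led Lsl_ff (LP (LK LD1_c1 LD2_c59 LD3_c36)) = (LP (LK LD1_c2 LD2_c3 LD3_c18)) :=
  Lgr Lrot19 (Lpr_dt (f44496 IH) (Lpr_ft (f219441 IH) (Lpr_dt (f219375 IH) (Lpn (LP (LK LD1_c2 LD2_c3 LD3_c18))))))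
theorem f28826 : Led Lsl_bt (LP (LK LD1_c2 LD2_c8 LD3_c21)) = (LP (LK LD1_c1 LD2_c1 LD3_c21)) :=
  Lre_b IH (LK LD1_c2 LD2_c8 LD3_c21) (LK LD1_c1 LD2_c1 LD3_c21) Lrfl Lrfl
theorem f166459 : Led Lsl_ct (LP (LK LD1_c0 LD2_c28 LD3_c8)) = (LP (LK LD1_c1 LD2_c1 LD3_c36)) :=
  Lre_c IH (LK LD1_c0 LD2_c28 LD3_c8) (LK LD1_c1 LD2_c1 LD3_c36) Lrfl Lrfl
theorem f166462 : Led Lsl_bt (LP (LK LD1_c1 LD2_c1 LD3_c36)) = (LP (LK LD1_c2 LD2_c8 LD3_c47)) :=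
  Lre_b IH (LK LD1_c1 LD2_c1 LD3_c36) (LK LD1_c2 LD2_c8 LD3_c47) Lrfl Lrfl
theorem f211411 : Led Lsl_cf (LP (LK LD1_c2 LD2_c8 LD3_c21)) = (LP (LK LD1_c2 LD2_c8 LD3_c47)) :=
  Lgr Lrot97 (Lpr_bt (f28826 IH) (Lpr_ct (f28916 IH) (Lpr_bt (f211409 IH) (Lpr_ct (f166459 IH) (Lpr_bt (f166462 IH) (Lpn (LP (LK LD1_c2 LD2_c8 LD3_c47))))))))
theorem f196592 : Led Lsl_gf (LP (LK LD1_c0 LD2_c35 LD3_c11)) = (LP (LK LD1_c1 LD2_c14 LD3_c35)) :=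
  Lgr Lrot47 (Lpr_gt (K10.f172015 IH) (Lpe (f196577 IH) (Lpr_ff (f196588 IH) (Lpn (LP (LK LD1_c1 LD2_c14 LD3_c35))))))
theorem f196595 : Led Lsl_dt (LP (LK LD1_c0 LD2_c35 LD3_c11)) = (LP (LK LD1_c1 LD2_c15 LD3_c55)) :=
  Lre_d IH (LK LD1_c0 LD2_c35 LD3_c11) (LK LD1_c1 LD2_c15 LD3_c55) Lrfl Lrfl
theorem f196596 : Led Lsl_gt (LP (LK LD1_c1 LD2_c15 LD3_c55)) = (LP (LK LD1_c2 LD2_c37 LD3_c49)) :=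
  Lre_g IH (LK LD1_c1 LD2_c15 LD3_c55) (LK LD1_c2 LD2_c37 LD3_c49) Lrfl Lrfl
theorem f29058 : Led Lsl_et (LP (LK LD1_c0 LD2_c39 LD3_c5)) = (LP (LK LD1_c1 LD2_c24 LD3_c51)) :=
  Lre_e IH (LK LD1_c0 LD2_c39 LD3_c5) (LK LD1_c1 LD2_c24 LD3_c51) Lrfl Lrfl
theorem f187082 : Led Lsl_et (LP (LK LD1_c2 LD2_c8 LD3_c21)) = (LP (LK LD1_c1 LD2_c1 LD3_c19)) :=
  Lre_e IH (LK LD1_c2 LD2_c8 LD3_c21) (LK LD1_c1 LD2_c1 LD3_c19) Lrfl Lrfl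
theorem f196609 : Led Lsl_df (LP (LK LD1_c2 LD2_c37 LD3_c49)) = (LP (LK LD1_c2 LD2_c8 LD3_c21)) :=
  Lgr Lrot132 (Lpe (f196596 IH) (Lpe (f196595 IH) (Lpr_gf (f196592 IH) (Lpe (K9.f47816 IH) (Lpe (K10.f47517 IH) (Lpr_gf (K9.f47530 IH) (Lpe (K1.f41877 IH) (Lpr_et (f29058 IH) (Lpe (K10.f187071 IH) (Lpe (f187082 IH) (Lpn (LP (LK LD1_c2 LD2_c8 LD3_c21)))))))))))))
theorem f196616 : Led Lsl_dt (LP (LK LD1_c2 LD2_c37 LD3_c49)) = (LP (LK LD1_c2 LD2_c8 LD3_c21)) :=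
  Lgr Lrot42 (Lpr_df (f196609 IH) (Lpn (LP (LK LD1_c2 LD2_c8 LD3_c21))))
theorem f50604 : Led Lsl_at (LP (LK LD1_c0 LD2_c55 LD3_c28)) = (LP (LK LD1_c1 LD2_c14 LD3_c35)) :=
  Lgr Lrot51 (Lpe (K9.f30858 IH) (Lpr_af (K9.f50402 IH) (Lpe (K9.f49217 IH) (Lpn (LP (LK LD1_c1 LD2_c14 LD3_c35))))))
theorem f53139 : Led Lsl_at (LP (LK LD1_c2 LD2_c4 LD3_c0)) = (LP (LK LD1_c0 LD2_c59 LD3_c0)) :=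
  Lre_a IH (LK LD1_c2 LD2_c4 LD3_c0) (LK LD1_c0 LD2_c59 LD3_c0) Lrfl Lrfl
theorem f53140 : Led Lsl_ct (LP (LK LD1_c1 LD2_c14 LD3_c35)) = (LP (LK LD1_c2 LD2_c4 LD3_c0)) :=
  Lgr Lrot111 (Lpe (f50604 IH) (Lpr_cf (K10.f53137 IH) (Lpe (f53139 IH) (Lpn (LP (LK LD1_c2 LD2_c4 LD3_c0))))))
theorem f169270 : Led Lsl_dt (LP (LK LD1_c1 LD2_c55 LD3_c54)) = (LP (LK LD1_c3 LD2_c58 LD3_c12)) :=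
  Lre_d IH (LK LD1_c1 LD2_c55 LD3_c54) (LK LD1_c3 LD2_c58 LD3_c12) Lrfl Lrfl
theorem f52241 : Led Lsl_dt (LP (LK LD1_c0 LD2_c55 LD3_c30)) = (LP (LK LD1_c0 LD2_c25 LD3_c11)) :=
  Lre_d IH (LK LD1_c0 LD2_c55 LD3_c30) (LK LD1_c0 LD2_c25 LD3_c11) Lrfl Lrfl
theorem f200391 : Led Lsl_gf (LP (LK LD1_c0 LD2_c55 LD3_c34)) = (LP (LK LD1_c1 LD2_c0 LD3_c25)) :=
  Lgr Lrot144 (Lpr_dt (K11.f52250 IH) (Lpr_gt (K9.f28566 IH) (Lpr_dt (K11.f34703 IH) (Lpe (K9.f52240 IH) (Lpe (f52241 IH) (Lpe (K10.f28152 IH) (Lpe (K10.f187913 IH) (Lpr_gf (f200389 IH) (Lpe (f6826 IH) (Lpn (LP (LK LD1_c1 LD2_c0 LD3_c25))))))))))))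
theorem f39233 : Led Lsl_bt (LP (LK LD1_c0 LD2_c28 LD3_c12)) = (LP (LK LD1_c0 LD2_c12 LD3_c52)) :=
  Lre_b IH (LK LD1_c0 LD2_c28 LD3_c12) (LK LD1_c0 LD2_c12 LD3_c52) Lrfl Lrfl
theorem f197418 : Led Lsl_cf (LP (LK LD1_c1 LD2_c55 LD3_c29)) = (LP (LK LD1_c0 LD2_c55 LD3_c9)) :=
  Lgr Lrot125 (Lpr_gt (K11.f101331 IH) (Lpe (K1.f39196 IH) (Lpr_bt (f39233 IH) (Lpr_gt (K0.f9459 IH) (Lpe (K10.f101335 IH) (Lpr_ct (K10.f101336 IH) (Lpr_gt (K10.f197410 IH) (Lpe (K8.f2966 IH) (Lpr_bt (K10.f2964 IH) (Lpr_gt (f3046 IH) (Lpn (LP (LK LD1_c0 LD2_c55 LD3_c9)))))))))))))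
theorem f193485 : Led Lsl_dt (LP (LK LD1_c3 LD2_c57 LD3_c33)) = (LP (LK LD1_c1 LD2_c56 LD3_c11)) :=
  Lgr Lrot42 (Lpr_df (K11.f193480 IH) (Lpn (LP (LK LD1_c1 LD2_c56 LD3_c11))))
theorem f173351 : Led Lsl_ct (LP (LK LD1_c1 LD2_c56 LD3_c11)) = (LP (LK LD1_c0 LD2_c54 LD3_c52)) :=
  Lre_c IH (LK LD1_c1 LD2_c56 LD3_c11) (LK LD1_c0 LD2_c54 LD3_c52) Lrfl Lrfl
theorem f6831 : Led Lsl_dt (LP (LK LD1_c0 LD2_c24 LD3_c48)) = (LP (LK LD1_c0 LD2_c54 LD3_c52)) :=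
  Lre_d IH (LK LD1_c0 LD2_c24 LD3_c48) (LK LD1_c0 LD2_c54 LD3_c52) Lrfl Lrfl
theorem f29285 : Led Lsl_af (LP (LK LD1_c0 LD2_c55 LD3_c20)) = (LP (LK LD1_c0 LD2_c55 LD3_c11)) :=
  Lgr Lrot0 (Lpr_at (K1.f29276 IH) (Lpn (LP (LK LD1_c0 LD2_c55 LD3_c11))))
theorem f3045 : Led Lsl_ft (LP (LK LD1_c0 LD2_c24 LD3_c59)) = (LP (LK LD1_c0 LD2_c55 LD3_c11)) :=
  Lre_f IH (LK LD1_c0 LD2_c24 LD3_c59) (LK LD1_c0 LD2_c55 LD3_c11) Lrfl Lrfl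
theorem f30807 : Led Lsl_gf (LP (LK LD1_c0 LD2_c55 LD3_c20)) = (LP (LK LD1_c0 LD2_c55 LD3_c9)) :=
  Lgr Lrot76 (Lpr_af (f29285 IH) (Lpe (f3045 IH) (Lpr_gt (f3046 IH) (Lpn (LP (LK LD1_c0 LD2_c55 LD3_c9))))))
theorem f197427 : Led Lsl_gf (LP (LK LD1_c0 LD2_c24 LD3_c48)) = (LP (LK LD1_c0 LD2_c25 LD3_c4)) :=
  Lgr Lrot143 (Lpr_dt (f6831 IH) (Lpe (f173351 IH) (Lpe (f193485 IH) (Lpr_gf (K11.f39891 IH) (Lpe (K9.f38919 IH) (Lpe (K11.f101331 IH) (Lpr_cf (f197418 IH) (Lpe (f30807 IH) (Lpr_dt (K1.f29185 IH) (Lpn (LP (LK LD1_c0 LD2_c25 LD3_c4))))))))))))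
theorem f200397 : Led Lsl_gt (LP (LK LD1_c0 LD2_c55 LD3_c35)) = (LP (LK LD1_c1 LD2_c56 LD3_c44)) :=
  Lgr Lrot137 (Lpe (K11.f182184 IH) (Lpr_dt (K11.f27957 IH) (Lpr_gf (f200391 IH) (Lpe (f6818 IH) (Lpr_et (K11.f6830 IH) (Lpr_gf (f197427 IH) (Lpe (K1.f29192 IH) (Lpr_dt (K1.f29205 IH) (Lpr_gf (f30807 IH) (Lpe (f30809 IH) (Lpn (LP (LK LD1_c1 LD2_c56 LD3_c44)))))))))))))
theorem f179104 : Led Lsl_gt (LP (LK LD1_c0 LD2_c36 LD3_c33)) = (LP (LK LD1_c1 LD2_c19 LD3_c9)) :=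
  Lre_g IH (LK LD1_c0 LD2_c36 LD3_c33) (LK LD1_c1 LD2_c19 LD3_c9) Lrfl Lrfl
theorem f29241 : Led Lsl_af (LP (LK LD1_c1 LD2_c56 LD3_c57)) = (LP (LK LD1_c1 LD2_c9 LD3_c21)) :=
  Lgr Lrot117 (Lpr_dt (K1.f29180 IH) (Lpr_at (K1.f29190 IH) (Lpr_dt (K0.f2409 IH) (Lpn (LP (LK LD1_c1 LD2_c9 LD3_c21))))))
theorem f2232 : Led Lsl_gt (LP (LK LD1_c0 LD2_c31 LD3_c51)) = (LP (LK LD1_c1 LD2_c9 LD3_c18)) :=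
  Lre_g IH (LK LD1_c0 LD2_c31 LD3_c51) (LK LD1_c1 LD2_c9 LD3_c18) Lrfl Lrfl
theorem f30813 : Led Lsl_gf (LP (LK LD1_c1 LD2_c56 LD3_c57)) = (LP (LK LD1_c1 LD2_c9 LD3_c18)) :=
  Lgr Lrot76 (Lpr_af (f29241 IH) (Lpe (K1.f2446 IH) (Lpr_gt (f2232 IH) (Lpn (LP (LK LD1_c1 LD2_c9 LD3_c18))))))
theorem f200399 : Led Lsl_dt (LP (LK LD1_c1 LD2_c19 LD3_c9)) = (LP (LK LD1_c1 LD2_c9 LD3_c18)) :=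
  Lgr Lrot57 (Lpe (f179104 IH) (Lpr_cf (K11.f182185 IH) (Lpr_gt (f200397 IH) (Lpr_dt (f30809 IH) (Lpe (f30807 IH) (Lpr_dt (K1.f29185 IH) (Lpe (K1.f29177 IH) (Lpe (K1.f29180 IH) (Lpr_gf (f30813 IH) (Lpn (LP (LK LD1_c1 LD2_c9 LD3_c18))))))))))))
theorem f196984 : Led Lsl_et (LP (LK LD1_c0 LD2_c16 LD3_c17)) = (LP (LK LD1_c0 LD2_c36 LD3_c33)) :=
  Lre_e IH (LK LD1_c0 LD2_c16 LD3_c17) (LK LD1_c0 LD2_c36 LD3_c33) Lrfl Lrfl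
theorem f194685 : Led Lsl_dt (LP (LK LD1_c0 LD2_c16 LD3_c17)) = (LP (LK LD1_c0 LD2_c36 LD3_c32)) :=
  Lre_d IH (LK LD1_c0 LD2_c16 LD3_c17) (LK LD1_c0 LD2_c36 LD3_c32) Lrfl Lrfl
theorem f179308 : Led Lsl_gt (LP (LK LD1_c1 LD2_c19 LD3_c6)) = (LP (LK LD1_c0 LD2_c36 LD3_c32)) :=
  Lre_g IH (LK LD1_c1 LD2_c19 LD3_c6) (LK LD1_c0 LD2_c36 LD3_c32) Lrfl Lrfl
theorem f29194 : Led Lsl_dt (LP (LK LD1_c0 LD2_c55 LD3_c15)) = (LP (LK LD1_c1 LD2_c56 LD3_c57)) :=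
  Lre_d IH (LK LD1_c0 LD2_c55 LD3_c15) (LK LD1_c1 LD2_c56 LD3_c57) Lrfl Lrfl
theorem f187100 : Led Lsl_et (LP (LK LD1_c1 LD2_c1 LD3_c36)) = (LP (LK LD1_c0 LD2_c28 LD3_c6)) :=
  Lre_e IH (LK LD1_c1 LD2_c1 LD3_c36) (LK LD1_c0 LD2_c28 LD3_c6) Lrfl Lrfl
theorem f200412 : Led Lsl_df (LP (LK LD1_c1 LD2_c19 LD3_c6)) = (LP (LK LD1_c1 LD2_c1 LD3_c36)) :=
  Lgr Lrot170 (Lpr_gt (f179308 IH) (Lpe (f194685 IH) (Lpr_et (f196984 IH) (Lpr_gt (f179104 IH) (Lpr_dt (f200399 IH) (Lpe (f30813 IH) (Lpe (f29194 IH) (Lpe (K1.f29183 IH) (Lpe (K10.f187080 IH) (Lpe (f187100 IH) (Lpn (LP (LK LD1_c1 LD2_c1 LD3_c36)))))))))))))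
theorem f200414 : Led Lsl_bt (LP (LK LD1_c1 LD2_c19 LD3_c6)) = (LP (LK LD1_c2 LD2_c45 LD3_c26)) :=
  Lre_b IH (LK LD1_c1 LD2_c19 LD3_c6) (LK LD1_c2 LD2_c45 LD3_c26) Lrfl Lrfl
theorem f200415 : Led Lsl_bt (LP (LK LD1_c2 LD2_c8 LD3_c47)) = (LP (LK LD1_c1 LD2_c1 LD3_c36)) :=
  Lre_b IH (LK LD1_c2 LD2_c8 LD3_c47) (LK LD1_c1 LD2_c1 LD3_c36) Lrfl Lrfl
theorem f200416 : Led Lsl_dt (LP (LK LD1_c2 LD2_c45 LD3_c26)) = (LP (LK LD1_c2 LD2_c8 LD3_c47)) :=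
  Lgr Lrot79 (Lpe (f200414 IH) (Lpr_df (f200412 IH) (Lpe (f200415 IH) (Lpn (LP (LK LD1_c2 LD2_c8 LD3_c47))))))
theorem f211417 : Led Lsl_gt (LP (LK LD1_c3 LD2_c58 LD3_c12)) = (LP (LK LD1_c2 LD2_c45 LD3_c26)) :=
  Lgr Lrot49 (Lpe (f169270 IH) (Lpr_gf (K10.f187242 IH) (Lpe (f53140 IH) (Lpe (f196592 IH) (Lpr_dt (f196595 IH) (Lpr_gt (f196596 IH) (Lpr_dt (f196616 IH) (Lpr_cf (f211411 IH) (Lpe (f200416 IH) (Lpn (LP (LK LD1_c2 LD2_c45 LD3_c26))))))))))))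
theorem f200420 : Led Lsl_et (LP (LK LD1_c1 LD2_c19 LD3_c6)) = (LP (LK LD1_c2 LD2_c45 LD3_c28)) :=
  Lre_e IH (LK LD1_c1 LD2_c19 LD3_c6) (LK LD1_c2 LD2_c45 LD3_c28) Lrfl Lrfl
theorem f200421 : Led Lsl_et (LP (LK LD1_c0 LD2_c28 LD3_c6)) = (LP (LK LD1_c1 LD2_c1 LD3_c36)) :=
  Lre_e IH (LK LD1_c0 LD2_c28 LD3_c6) (LK LD1_c1 LD2_c1 LD3_c36) Lrfl Lrfl
theorem f180210 : Led Lsl_dt (LP (LK LD1_c1 LD2_c1 LD3_c35)) = (LP (LK LD1_c0 LD2_c28 LD3_c6)) :=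
  Lre_d IH (LK LD1_c1 LD2_c1 LD3_c35) (LK LD1_c0 LD2_c28 LD3_c6) Lrfl Lrfl
theorem f200422 : Led Lsl_et (LP (LK LD1_c2 LD2_c8 LD3_c49)) = (LP (LK LD1_c1 LD2_c1 LD3_c35)) :=
  Lre_e IH (LK LD1_c2 LD2_c8 LD3_c49) (LK LD1_c1 LD2_c1 LD3_c35) Lrfl Lrfl
theorem f200423 : Led Lsl_dt (LP (LK LD1_c2 LD2_c45 LD3_c28)) = (LP (LK LD1_c2 LD2_c8 LD3_c49)) :=
  Lgr Lrot77 (Lpe (f200420 IH) (Lpr_df (f200412 IH) (Lpe (f200421 IH) (Lpe (f180210 IH) (Lpe (f200422 IH) (Lpn (LP (LK LD1_c2 LD2_c8 LD3_c49))))))))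
theorem f200448 : Led Lsl_ft (LP (LK LD1_c5 LD2_c38 LD3_c61)) = (LP (LK LD1_c2 LD2_c45 LD3_c28)) :=
  Lre_f IH (LK LD1_c5 LD2_c38 LD3_c61) (LK LD1_c2 LD2_c45 LD3_c28) Lrfl Lrfl
theorem f200449 : Led Lsl_ft (LP (LK LD1_c2 LD2_c8 LD3_c49)) = (LP (LK LD1_c4 LD2_c22 LD3_c45)) :=
  Lre_f IH (LK LD1_c2 LD2_c8 LD3_c49) (LK LD1_c4 LD2_c22 LD3_c45) Lrfl Lrfl
theorem f200450 : Led Lsl_df (LP (LK LD1_c5 LD2_c38 LD3_c61)) = (LP (LK LD1_c4 LD2_c22 LD3_c45)) :=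
  Lgr Lrot78 (Lpr_ft (f200448 IH) (Lpr_dt (f200423 IH) (Lpr_ft (f200449 IH) (Lpn (LP (LK LD1_c4 LD2_c22 LD3_c45))))))
theorem f200497 : Led Lsl_dt (LP (LK LD1_c5 LD2_c38 LD3_c61)) = (LP (LK LD1_c4 LD2_c22 LD3_c45)) :=
  Lgr Lrot42 (Lpr_df (f200450 IH) (Lpn (LP (LK LD1_c4 LD2_c22 LD3_c45))))
theorem f200505 : Led Lsl_bt (LP (LK LD1_c11 LD2_c8 LD3_c49)) = (LP (LK LD1_c5 LD2_c38 LD3_c61)) :=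
  Lre_b IH (LK LD1_c11 LD2_c8 LD3_c49) (LK LD1_c5 LD2_c38 LD3_c61) Lrfl Lrfl
theorem f200506 : Led Lsl_bt (LP (LK LD1_c4 LD2_c22 LD3_c45)) = (LP (LK LD1_c8 LD2_c43 LD3_c14)) :=
  Lre_b IH (LK LD1_c4 LD2_c22 LD3_c45) (LK LD1_c8 LD2_c43 LD3_c14) Lrfl Lrfl
theorem f200507 : Led Lsl_df (LP (LK LD1_c11 LD2_c8 LD3_c49)) = (LP (LK LD1_c8 LD2_c43 LD3_c14)) :=
  Lgr Lrot12 (Lpr_bt (f200505 IH) (Lpr_dt (f200497 IH) (Lpr_bt (f200506 IH) (Lpn (LP (LK LD1_c8 LD2_c43 LD3_c14))))))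
theorem f200514 : Led Lsl_ft (LP (LK LD1_c11 LD2_c8 LD3_c49)) = (LP (LK LD1_c5 LD2_c38 LD3_c57)) :=
  Lre_f IH (LK LD1_c11 LD2_c8 LD3_c49) (LK LD1_c5 LD2_c38 LD3_c57) Lrfl Lrfl
theorem f200515 : Led Lsl_ft (LP (LK LD1_c4 LD2_c22 LD3_c41)) = (LP (LK LD1_c8 LD2_c43 LD3_c14)) :=
  Lre_f IH (LK LD1_c4 LD2_c22 LD3_c41) (LK LD1_c8 LD2_c43 LD3_c14) Lrfl Lrfl
theorem f200516 : Led Lsl_dt (LP (LK LD1_c5 LD2_c38 LD3_c57)) = (LP (LK LD1_c4 LD2_c22 LD3_c41)) :=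
  Lgr Lrot60 (Lpe (f200514 IH) (Lpr_df (f200507 IH) (Lpe (f200515 IH) (Lpn (LP (LK LD1_c4 LD2_c22 LD3_c41))))))
theorem f200524 : Led Lsl_et (LP (LK LD1_c2 LD2_c45 LD3_c26)) = (LP (LK LD1_c5 LD2_c38 LD3_c57)) :=
  Lre_e IH (LK LD1_c2 LD2_c45 LD3_c26) (LK LD1_c5 LD2_c38 LD3_c57) Lrfl Lrfl
theorem f200525 : Led Lsl_et (LP (LK LD1_c4 LD2_c22 LD3_c41)) = (LP (LK LD1_c2 LD2_c8 LD3_c46)) :=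
  Lre_e IH (LK LD1_c4 LD2_c22 LD3_c41) (LK LD1_c2 LD2_c8 LD3_c46) Lrfl Lrfl
theorem f200526 : Led Lsl_dt (LP (LK LD1_c2 LD2_c8 LD3_c46)) = (LP (LK LD1_c1 LD2_c1 LD3_c34)) :=
  Lre_d IH (LK LD1_c2 LD2_c8 LD3_c46) (LK LD1_c1 LD2_c1 LD3_c34) Lrfl Lrfl
theorem f200527 : Led Lsl_et (LP (LK LD1_c1 LD2_c1 LD3_c34)) = (LP (LK LD1_c2 LD2_c8 LD3_c47)) :=
  Lre_e IH (LK LD1_c1 LD2_c1 LD3_c34) (LK LD1_c2 LD2_c8 LD3_c47) Lrfl Lrfl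
theorem f200528 : Led Lsl_df (LP (LK LD1_c2 LD2_c45 LD3_c26)) = (LP (LK LD1_c2 LD2_c8 LD3_c47)) :=
  Lgr Lrot70 (Lpr_et (f200524 IH) (Lpr_dt (f200516 IH) (Lpr_et (f200525 IH) (Lpr_dt (f200526 IH) (Lpr_et (f200527 IH) (Lpn (LP (LK LD1_c2 LD2_c8 LD3_c47))))))))
theorem f200540 : Led Lsl_et (LP (LK LD1_c2 LD2_c8 LD3_c47)) = (LP (LK LD1_c1 LD2_c1 LD3_c34)) :=
  Lre_e IH (LK LD1_c2 LD2_c8 LD3_c47) (LK LD1_c1 LD2_c1 LD3_c34) Lrfl Lrfl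
theorem f211422 : Led Lsl_gf (LP (LK LD1_c2 LD2_c0 LD3_c22)) = (LP (LK LD1_c1 LD2_c1 LD3_c34)) :=
  Lgr Lrot141 (Lpe (K10.f45770 IH) (Lpr_dt (K8.f44556 IH) (Lpr_gt (K1.f43248 IH) (Lpe (K10.f43268 IH) (Lpr_et (K9.f27767 IH) (Lpe (K10.f187242 IH) (Lpr_dt (f169270 IH) (Lpr_gt (f211417 IH) (Lpr_df (f200528 IH) (Lpr_et (f200540 IH) (Lpn (LP (LK LD1_c1 LD2_c1 LD3_c34)))))))))))))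
theorem f219450 : Led Lsl_gf (LP (LK LD1_c1 LD2_c1 LD3_c34)) = (LP (LK LD1_c2 LD2_c3 LD3_c18)) :=
  Lgr Lrot47 (Lpe (f211422 IH) (Lpr_af (K10.f53819 IH) (Lpr_ff (f219446 IH) (Lpn (LP (LK LD1_c2 LD2_c3 LD3_c18))))))
theorem f187101 : Led Lsl_bt (LP (LK LD1_c1 LD2_c1 LD3_c11)) = (LP (LK LD1_c1 LD2_c8 LD3_c48)) :=
  Lgr Lrot127 (Lpr_bf (K10.f187097 IH) (Lpn (LP (LK LD1_c1 LD2_c8 LD3_c48))))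
theorem f219351 : Led Lsl_bt (LP (LK LD1_c0 LD2_c58 LD3_c38)) = (LP (LK LD1_c2 LD2_c3 LD3_c18)) :=
  Lre_b IH (LK LD1_c0 LD2_c58 LD3_c38) (LK LD1_c2 LD2_c3 LD3_c18) Lrfl Lrfl
theorem f219456 : Led Lsl_gt (LP (LK LD1_c2 LD2_c8 LD3_c4)) = (LP (LK LD1_c2 LD2_c3 LD3_c19)) :=
  Lgr Lrot65 (Lpe (K10.f187103 IH) (Lpr_bt (f187101 IH) (Lpr_gf (K10.f186918 IH) (Lpe (K10.f29066 IH) (Lpr_ct (K0.f29046 IH) (Lpe (K10.f187071 IH) (Lpr_cf (K10.f181973 IH) (Lpr_gf (f219450 IH) (Lpe (f219351 IH) (Lpr_ct (f199178 IH) (Lpn (LP (LK LD1_c2 LD2_c3 LD3_c19)))))))))))))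
theorem f219459 : Led Lsl_ct (LP (LK LD1_c2 LD2_c8 LD3_c7)) = (LP (LK LD1_c4 LD2_c21 LD3_c11)) :=
  Lre_c IH (LK LD1_c2 LD2_c8 LD3_c7) (LK LD1_c4 LD2_c21 LD3_c11) Lrfl Lrfl
theorem f219412 : Led Lsl_ct (LP (LK LD1_c4 LD2_c12 LD3_c12)) = (LP (LK LD1_c2 LD2_c3 LD3_c20)) :=
  Lre_c IH (LK LD1_c4 LD2_c12 LD3_c12) (LK LD1_c2 LD2_c3 LD3_c20) Lrfl Lrfl
theorem f219460 : Led Lsl_gt (LP (LK LD1_c4 LD2_c21 LD3_c11)) = (LP (LK LD1_c4 LD2_c12 LD3_c12)) :=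
  Lgr Lrot150 (Lpe (f219459 IH) (Lpe (f47815 IH) (Lpe (f31029 IH) (Lpr_gt (K10.f45741 IH) (Lpr_ct (K10.f187103 IH) (Lpr_gt (f219456 IH) (Lpr_ct (f199183 IH) (Lpe (f219354 IH) (Lpe (f219412 IH) (Lpn (LP (LK LD1_c4 LD2_c12 LD3_c12))))))))))))
theorem f219438 : Led Lsl_bt (LP (LK LD1_c2 LD2_c3 LD3_c20)) = (LP (LK LD1_c4 LD2_c12 LD3_c10)) :=
  Lre_b IH (LK LD1_c2 LD2_c3 LD3_c20) (LK LD1_c4 LD2_c12 LD3_c10) Lrfl Lrfl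
theorem f1797 : Led Lsl_ct (LP (LK LD1_c4 LD2_c50 LD3_c60)) = (LP (LK LD1_c2 LD2_c23 LD3_c19)) :=
  Lre_c IH (LK LD1_c4 LD2_c50 LD3_c60) (LK LD1_c2 LD2_c23 LD3_c19) Lrfl Lrfl
theorem f1800 : Led Lsl_gt (LP (LK LD1_c2 LD2_c23 LD3_c43)) = (LP (LK LD1_c4 LD2_c50 LD3_c60)) :=
  Lre_g IH (LK LD1_c2 LD2_c23 LD3_c43) (LK LD1_c4 LD2_c50 LD3_c60) Lrfl Lrfl
theorem f29084 : Led Lsl_gt (LP (LK LD1_c1 LD2_c55 LD3_c10)) = (LP (LK LD1_c3 LD2_c56 LD3_c52)) :=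
  Lre_g IH (LK LD1_c1 LD2_c55 LD3_c10) (LK LD1_c3 LD2_c56 LD3_c52) Lrfl Lrfl
theorem f186923 : Led Lsl_cf (LP (LK LD1_c2 LD2_c23 LD3_c43)) = (LP (LK LD1_c3 LD2_c56 LD3_c52)) :=
  Lgr Lrot169 (Lpr_gt (f1800 IH) (Lpr_ct (f1797 IH) (Lpe (K0.f1578 IH) (Lpe (K9.f1713 IH) (Lpe (K9.f1600 IH) (Lpe (K10.f2086 IH) (Lpr_gf (K10.f186918 IH) (Lpe (K1.f29070 IH) (Lpr_gt (f29084 IH) (Lpn (LP (LK LD1_c3 LD2_c56 LD3_c52))))))))))))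
theorem f1798 : Led Lsl_ct (LP (LK LD1_c2 LD2_c23 LD3_c19)) = (LP (LK LD1_c4 LD2_c50 LD3_c60)) :=
  Lre_c IH (LK LD1_c2 LD2_c23 LD3_c19) (LK LD1_c4 LD2_c50 LD3_c60) Lrfl Lrfl
theorem f29181 : Led Lsl_bf (LP (LK LD1_c1 LD2_c56 LD3_c57)) = (LP (LK LD1_c2 LD2_c23 LD3_c19)) :=
  Lgr Lrot93 (Lpr_dt (K1.f29180 IH) (Lpr_bt (K1.f29170 IH) (Lpr_dt (K0.f1578 IH) (Lpn (LP (LK LD1_c2 LD2_c23 LD3_c19))))))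
theorem f29648 : Led Lsl_af (LP (LK LD1_c0 LD2_c31 LD3_c51)) = (LP (LK LD1_c0 LD2_c55 LD3_c14)) :=
  Lgr Lrot0 (Lpr_at (K1.f29641 IH) (Lpn (LP (LK LD1_c0 LD2_c55 LD3_c14))))
theorem f2451 : Led Lsl_gt (LP (LK LD1_c1 LD2_c9 LD3_c19)) = (LP (LK LD1_c0 LD2_c31 LD3_c51)) :=
  Lre_g IH (LK LD1_c1 LD2_c9 LD3_c19) (LK LD1_c0 LD2_c31 LD3_c51) Lrfl Lrfl
theorem f29794 : Led Lsl_ft (LP (LK LD1_c1 LD2_c56 LD3_c57)) = (LP (LK LD1_c0 LD2_c55 LD3_c14)) :=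
  Lre_f IH (LK LD1_c1 LD2_c56 LD3_c57) (LK LD1_c0 LD2_c55 LD3_c14) Lrfl Lrfl
theorem f30683 : Led Lsl_gf (LP (LK LD1_c1 LD2_c9 LD3_c19)) = (LP (LK LD1_c1 LD2_c56 LD3_c57)) :=
  Lgr Lrot47 (Lpr_gt (f2451 IH) (Lpr_af (f29648 IH) (Lpe (f29794 IH) (Lpn (LP (LK LD1_c1 LD2_c56 LD3_c57))))))
theorem f6932 : Led Lsl_bt (LP (LK LD1_c2 LD2_c24 LD3_c19)) = (LP (LK LD1_c1 LD2_c9 LD3_c19)) :=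
  Lre_b IH (LK LD1_c2 LD2_c24 LD3_c19) (LK LD1_c1 LD2_c9 LD3_c19) Lrfl Lrfl
theorem f30685 : Led Lsl_ct (LP (LK LD1_c2 LD2_c24 LD3_c19)) = (LP (LK LD1_c4 LD2_c52 LD3_c60)) :=
  Lre_c IH (LK LD1_c2 LD2_c24 LD3_c19) (LK LD1_c4 LD2_c52 LD3_c60) Lrfl Lrfl
theorem f186941 : Led Lsl_gt (LP (LK LD1_c4 LD2_c52 LD3_c60)) = (LP (LK LD1_c2 LD2_c58 LD3_c22)) :=
  Lgr Lrot65 (Lpe (f30685 IH) (Lpr_bt (f6932 IH) (Lpr_gf (f30683 IH) (Lpr_bf (f29181 IH) (Lpr_ct (f1798 IH) (Lpe (f1800 IH) (Lpr_cf (f186923 IH) (Lpe (f29084 IH) (Lpe (K1.f29071 IH) (Lpr_ct (K11.f29055 IH) (Lpn (LP (LK LD1_c2 LD2_c58 LD3_c22)))))))))))))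
theorem f219453 : Led Lsl_gf (LP (LK LD1_c2 LD2_c24 LD3_c19)) = (LP (LK LD1_c4 LD2_c12 LD3_c10)) :=
  Lgr Lrot147 (Lpr_ct (f30685 IH) (Lpr_gt (f186941 IH) (Lpr_ct (K9.f29051 IH) (Lpe (K1.f29054 IH) (Lpr_cf (K10.f29048 IH) (Lpe (K10.f187071 IH) (Lpr_cf (K10.f181973 IH) (Lpr_gf (f219450 IH) (Lpe (f219375 IH) (Lpn (LP (LK LD1_c4 LD2_c12 LD3_c10))))))))))))
theorem f219467 : Led Lsl_bt (LP (LK LD1_c2 LD2_c8 LD3_c7)) = (LP (LK LD1_c3 LD2_c56 LD3_c52)) :=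
  Lgr Lrot92 (Lpr_ct (f219459 IH) (Lpr_gt (f219460 IH) (Lpe (f53329 IH) (Lpr_bt (f219438 IH) (Lpe (f219453 IH) (Lpr_ct (f30685 IH) (Lpr_gt (f186941 IH) (Lpe (K11.f29055 IH) (Lpr_bt (K1.f29071 IH) (Lpr_gt (f29084 IH) (Lpn (LP (LK LD1_c3 LD2_c56 LD3_c52)))))))))))))
theorem f219472 : Led Lsl_bf (LP (LK LD1_c2 LD2_c8 LD3_c7)) = (LP (LK LD1_c3 LD2_c56 LD3_c52)) :=
  Lgr Lrot24 (Lpr_bt (f219467 IH) (Lpn (LP (LK LD1_c3 LD2_c56 LD3_c52))))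
theorem f2793 : Led Lsl_gt (LP (LK LD1_c1 LD2_c8 LD3_c57)) = (LP (LK LD1_c2 LD2_c23 LD3_c43)) :=
  Lre_g IH (LK LD1_c1 LD2_c8 LD3_c57) (LK LD1_c2 LD2_c23 LD3_c43) Lrfl Lrfl
theorem f1921 : Led Lsl_ct (LP (LK LD1_c0 LD2_c31 LD3_c29)) = (LP (LK LD1_c1 LD2_c8 LD3_c57)) :=
  Lre_c IH (LK LD1_c0 LD2_c31 LD3_c29) (LK LD1_c1 LD2_c8 LD3_c57) Lrfl Lrfl
theorem f2042 : Led Lsl_gt (LP (LK LD1_c1 LD2_c8 LD3_c56)) = (LP (LK LD1_c0 LD2_c31 LD3_c29)) :=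
  Lre_g IH (LK LD1_c1 LD2_c8 LD3_c56) (LK LD1_c0 LD2_c31 LD3_c29) Lrfl Lrfl
theorem f2112 : Led Lsl_bt (LP (LK LD1_c2 LD2_c23 LD3_c40)) = (LP (LK LD1_c1 LD2_c8 LD3_c56)) :=
  Lre_b IH (LK LD1_c2 LD2_c23 LD3_c40) (LK LD1_c1 LD2_c8 LD3_c56) Lrfl Lrfl
theorem f29811 : Led Lsl_ct (LP (LK LD1_c2 LD2_c23 LD3_c40)) = (LP (LK LD1_c4 LD2_c51 LD3_c40)) :=
  Lre_c IH (LK LD1_c2 LD2_c23 LD3_c40) (LK LD1_c4 LD2_c51 LD3_c40) Lrfl Lrfl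
theorem f39159 : Led Lsl_bt (LP (LK LD1_c2 LD2_c8 LD3_c9)) = (LP (LK LD1_c1 LD2_c1 LD3_c25)) :=
  Lre_b IH (LK LD1_c2 LD2_c8 LD3_c9) (LK LD1_c1 LD2_c1 LD3_c25) Lrfl Lrfl
theorem f41135 : Led Lsl_ct (LP (LK LD1_c7 LD2_c57 LD3_c47)) = (LP (LK LD1_c3 LD2_c58 LD3_c11)) :=
  Lre_c IH (LK LD1_c7 LD2_c57 LD3_c47) (LK LD1_c3 LD2_c58 LD3_c11) Lrfl Lrfl
theorem f42704 : Led Lsl_at (LP (LK LD1_c7 LD2_c57 LD3_c47)) = (LP (LK LD1_c3 LD2_c58 LD3_c34)) :=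
  Lre_a IH (LK LD1_c7 LD2_c57 LD3_c47) (LK LD1_c3 LD2_c58 LD3_c34) Lrfl Lrfl
theorem f42705 : Led Lsl_dt (LP (LK LD1_c10 LD2_c32 LD3_c52)) = (LP (LK LD1_c7 LD2_c57 LD3_c47)) :=
  Lgr Lrot44 (Lpr_af (K9.f42698 IH) (Lpe (K9.f41901 IH) (Lpe (f42704 IH) (Lpn (LP (LK LD1_c7 LD2_c57 LD3_c47))))))
theorem f170850 : Led Lsl_dt (LP (LK LD1_c0 LD2_c58 LD3_c1)) = (LP (LK LD1_c2 LD2_c2 LD3_c12)) :=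
  Lre_d IH (LK LD1_c0 LD2_c58 LD3_c1) (LK LD1_c2 LD2_c2 LD3_c12) Lrfl Lrfl
theorem f170851 : Led Lsl_ct (LP (LK LD1_c2 LD2_c2 LD3_c12)) = (LP (LK LD1_c4 LD2_c9 LD3_c60)) :=
  Lre_c IH (LK LD1_c2 LD2_c2 LD3_c12) (LK LD1_c4 LD2_c9 LD3_c60) Lrfl Lrfl
theorem f219129 : Led Lsl_at (LP (LK LD1_c4 LD2_c17 LD3_c12)) = (LP (LK LD1_c4 LD2_c9 LD3_c60)) :=
  Lgr Lrot33 (Lpe (K11.f199794 IH) (Lpr_dt (K9.f42662 IH) (Lpr_ct (K9.f42714 IH) (Lpr_dt (f42705 IH) (Lpr_ct (f41135 IH) (Lpr_dt (K1.f41236 IH) (Lpr_ct (f219075 IH) (Lpr_dt (f170850 IH) (Lpr_ct (f170851 IH) (Lpn (LP (LK LD1_c4 LD2_c9 LD3_c60))))))))))))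
theorem f42049 : Led Lsl_af (LP (LK LD1_c2 LD2_c58 LD3_c21)) = (LP (LK LD1_c2 LD2_c58 LD3_c22)) :=
  Lgr Lrot0 (Lpr_at (K9.f42047 IH) (Lpn (LP (LK LD1_c2 LD2_c58 LD3_c22))))
theorem f42079 : Led Lsl_et (LP (LK LD1_c2 LD2_c58 LD3_c21)) = (LP (LK LD1_c2 LD2_c37 LD3_c11)) :=
  Lgr Lrot158 (Lpe (K9.f29023 IH) (Lpr_ef (K1.f42077 IH) (Lpe (K9.f41896 IH) (Lpn (LP (LK LD1_c2 LD2_c37 LD3_c11))))))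
theorem f42653 : Led Lsl_af (LP (LK LD1_c2 LD2_c37 LD3_c12)) = (LP (LK LD1_c2 LD2_c37 LD3_c11)) :=
  Lgr Lrot50 (Lpr_et (K9.f42651 IH) (Lpe (f42049 IH) (Lpr_et (f42079 IH) (Lpn (LP (LK LD1_c2 LD2_c37 LD3_c11))))))
theorem f219142 : Led Lsl_ff (LP (LK LD1_c2 LD2_c37 LD3_c11)) = (LP (LK LD1_c4 LD2_c9 LD3_c60)) :=
  Lgr Lrot30 (Lpe (f42653 IH) (Lpr_ft (K11.f199794 IH) (Lpr_at (f219129 IH) (Lpn (LP (LK LD1_c4 LD2_c9 LD3_c60))))))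
theorem f219158 : Led Lsl_ft (LP (LK LD1_c2 LD2_c37 LD3_c11)) = (LP (LK LD1_c4 LD2_c9 LD3_c60)) :=
  Lgr Lrot48 (Lpr_ff (f219142 IH) (Lpn (LP (LK LD1_c4 LD2_c9 LD3_c60))))
theorem f219132 : Led Lsl_ct (LP (LK LD1_c4 LD2_c9 LD3_c60)) = (LP (LK LD1_c2 LD2_c2 LD3_c12)) :=
  Lre_c IH (LK LD1_c4 LD2_c9 LD3_c60) (LK LD1_c2 LD2_c2 LD3_c12) Lrfl Lrfl
theorem f219162 : Led Lsl_ff (LP (LK LD1_c1 LD2_c15 LD3_c35)) = (LP (LK LD1_c2 LD2_c2 LD3_c12)) :=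
  Lgr Lrot23 (Lpr_ct (K9.f41928 IH) (Lpr_ft (f219158 IH) (Lpr_ct (f219132 IH) (Lpn (LP (LK LD1_c2 LD2_c2 LD3_c12))))))
theorem f42636 : Led Lsl_af (LP (LK LD1_c1 LD2_c15 LD3_c36)) = (LP (LK LD1_c1 LD2_c15 LD3_c35)) :=
  Lgr Lrot50 (Lpr_et (K9.f42488 IH) (Lpe (K1.f42042 IH) (Lpr_et (K9.f42083 IH) (Lpn (LP (LK LD1_c1 LD2_c15 LD3_c35))))))
theorem f219199 : Led Lsl_at (LP (LK LD1_c2 LD2_c5 LD3_c58)) = (LP (LK LD1_c2 LD2_c2 LD3_c12)) :=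
  Lgr Lrot66 (Lpe (K11.f199765 IH) (Lpr_af (f42636 IH) (Lpr_ff (f219162 IH) (Lpn (LP (LK LD1_c2 LD2_c2 LD3_c12))))))
theorem f219737 : Led Lsl_bt (LP (LK LD1_c2 LD2_c2 LD3_c12)) = (LP (LK LD1_c4 LD2_c8 LD3_c52)) :=
  Lgr Lrot62 (Lpe (f219199 IH) (Lpe (K11.f199822 IH) (Lpr_af (K1.f39141 IH) (Lpe (f39159 IH) (Lpr_af (f219733 IH) (Lpn (LP (LK LD1_c4 LD2_c8 LD3_c52))))))))
theorem f219771 : Led Lsl_gf (LP (LK LD1_c4 LD2_c51 LD3_c40)) = (LP (LK LD1_c4 LD2_c9 LD3_c60)) :=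
  Lgr Lrot126 (Lpe (f29811 IH) (Lpr_bt (f2112 IH) (Lpr_gt (f2042 IH) (Lpr_ct (f1921 IH) (Lpr_gt (f2793 IH) (Lpr_cf (f186923 IH) (Lpe (f219472 IH) (Lpr_gt (f219761 IH) (Lpe (f219737 IH) (Lpr_ct (f170851 IH) (Lpn (LP (LK LD1_c4 LD2_c9 LD3_c60)))))))))))))
theorem f170602 : Led Lsl_bt (LP (LK LD1_c0 LD2_c26 LD3_c28)) = (LP (LK LD1_c0 LD2_c58 LD3_c19)) :=
  Lre_b IH (LK LD1_c0 LD2_c26 LD3_c28) (LK LD1_c0 LD2_c58 LD3_c19) Lrfl Lrfl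
theorem f219779 : Led Lsl_gt (LP (LK LD1_c0 LD2_c58 LD3_c19)) = (LP (LK LD1_c2 LD2_c2 LD3_c12)) :=
  Lgr Lrot82 (Lpe (f170602 IH) (Lpr_ct (K9.f51521 IH) (Lpr_gf (K9.f170590 IH) (Lpe (K0.f255 IH) (Lpr_bt (K11.f2437 IH) (Lpe (f2042 IH) (Lpe (f2112 IH) (Lpr_ct (f29811 IH) (Lpr_gf (f219771 IH) (Lpe (f170851 IH) (Lpn (LP (LK LD1_c2 LD2_c2 LD3_c12)))))))))))))
theorem f219783 : Led Lsl_gf (LP (LK LD1_c0 LD2_c58 LD3_c19)) = (LP (LK LD1_c1 LD2_c15 LD3_c36)) :=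
  Lgr Lrot47 (Lpr_gt (f219779 IH) (Lpe (f219199 IH) (Lpe (K11.f199765 IH) (Lpn (LP (LK LD1_c1 LD2_c15 LD3_c36))))))
theorem f51528 : Led Lsl_ct (LP (LK LD1_c0 LD2_c58 LD3_c19)) = (LP (LK LD1_c2 LD2_c2 LD3_c49)) :=
  Lre_c IH (LK LD1_c0 LD2_c58 LD3_c19) (LK LD1_c2 LD2_c2 LD3_c49) Lrfl Lrfl
theorem f170587 : Led Lsl_gt (LP (LK LD1_c2 LD2_c2 LD3_c49)) = (LP (LK LD1_c4 LD2_c11 LD3_c3)) :=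
  Lre_g IH (LK LD1_c2 LD2_c2 LD3_c49) (LK LD1_c4 LD2_c11 LD3_c3) Lrfl Lrfl
theorem f212828 : Led Lsl_dt (LP (LK LD1_c5 LD2_c29 LD3_c30)) = (LP (LK LD1_c2 LD2_c41 LD3_c1)) :=
  Lre_d IH (LK LD1_c5 LD2_c29 LD3_c30) (LK LD1_c2 LD2_c41 LD3_c1) Lrfl Lrfl
theorem f219789 : Led Lsl_ct (LP (LK LD1_c4 LD2_c11 LD3_c3)) = (LP (LK LD1_c5 LD2_c29 LD3_c30)) :=
  Lgr Lrot110 (Lpe (f170587 IH) (Lpe (f51528 IH) (Lpr_gf (f219783 IH) (Lpe (K9.f41536 IH) (Lpr_gt (K9.f182191 IH) (Lpr_ct (f53446 IH) (Lpr_gt (f170855 IH) (Lpe (f212786 IH) (Lpe (f212828 IH) (Lpn (LP (LK LD1_c5 LD2_c29 LD3_c30))))))))))))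
theorem f219820 : Led Lsl_cf (LP (LK LD1_c4 LD2_c11 LD3_c3)) = (LP (LK LD1_c5 LD2_c29 LD3_c30)) :=
  Lgr Lrot11 (Lpr_ct (f219789 IH) (Lpn (LP (LK LD1_c5 LD2_c29 LD3_c30))))
theorem f29082 : Led Lsl_et (LP (LK LD1_c1 LD2_c55 LD3_c10)) = (LP (LK LD1_c0 LD2_c54 LD3_c23)) :=
  Lre_e IH (LK LD1_c1 LD2_c55 LD3_c10) (LK LD1_c0 LD2_c54 LD3_c23) Lrfl Lrfl
theorem f42638 : Led Lsl_bf (LP (LK LD1_c1 LD2_c15 LD3_c36)) = (LP (LK LD1_c0 LD2_c54 LD3_c23)) :=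
  Lgr Lrot96 (Lpr_et (K9.f42488 IH) (Lpr_bt (K1.f29071 IH) (Lpr_et (f29082 IH) (Lpn (LP (LK LD1_c0 LD2_c54 LD3_c23))))))
theorem f39271 : Led Lsl_gt (LP (LK LD1_c3 LD2_c57 LD3_c6)) = (LP (LK LD1_c1 LD2_c55 LD3_c19)) :=
  Lre_g IH (LK LD1_c3 LD2_c57 LD3_c6) (LK LD1_c1 LD2_c55 LD3_c19) Lrfl Lrfl
theorem f43103 : Led Lsl_ct (LP (LK LD1_c1 LD2_c55 LD3_c19)) = (LP (LK LD1_c0 LD2_c54 LD3_c23)) :=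
  Lre_c IH (LK LD1_c1 LD2_c55 LD3_c19) (LK LD1_c0 LD2_c54 LD3_c23) Lrfl Lrfl
theorem f182316 : Led Lsl_cf (LP (LK LD1_c3 LD2_c57 LD3_c6)) = (LP (LK LD1_c1 LD2_c56 LD3_c55)) :=
  Lgr Lrot169 (Lpr_gt (f39271 IH) (Lpr_ct (f43103 IH) (Lpe (K1.f31135 IH) (Lpe (K1.f39246 IH) (Lpe (K9.f174986 IH) (Lpe (K9.f168348 IH) (Lpr_gf (K9.f182200 IH) (Lpe (K0.f2411 IH) (Lpr_gt (K9.f29653 IH) (Lpn (LP (LK LD1_c1 LD2_c56 LD3_c55))))))))))))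
theorem f33197 : Led Lsl_bt (LP (LK LD1_c1 LD2_c56 LD3_c55)) = (LP (LK LD1_c4 LD2_c0 LD3_c16)) :=
  Lre_b IH (LK LD1_c1 LD2_c56 LD3_c55) (LK LD1_c4 LD2_c0 LD3_c16) Lrfl Lrfl
theorem f218091 : Led Lsl_bt (LP (LK LD1_c5 LD2_c29 LD3_c30)) = (LP (LK LD1_c2 LD2_c41 LD3_c2)) :=
  Lre_b IH (LK LD1_c5 LD2_c29 LD3_c30) (LK LD1_c2 LD2_c41 LD3_c2) Lrfl Lrfl
theorem f219928 : Led Lsl_gf (LP (LK LD1_c4 LD2_c0 LD3_c16)) = (LP (LK LD1_c2 LD2_c41 LD3_c2)) :=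
  Lgr Lrot124 (Lpe (f33197 IH) (Lpe (f182316 IH) (Lpr_gt (f39271 IH) (Lpe (K1.f39027 IH) (Lpe (f42638 IH) (Lpe (f219783 IH) (Lpr_ct (f51528 IH) (Lpr_gt (f170587 IH) (Lpr_cf (f219820 IH) (Lpr_bt (f218091 IH) (Lpn (LP (LK LD1_c2 LD2_c41 LD3_c2)))))))))))))
theorem f33203 : Led Lsl_et (LP (LK LD1_c1 LD2_c56 LD3_c55)) = (LP (LK LD1_c4 LD2_c0 LD3_c17)) :=
  Lre_e IH (LK LD1_c1 LD2_c56 LD3_c55) (LK LD1_c4 LD2_c0 LD3_c17) Lrfl Lrfl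
theorem f33161 : Led Lsl_et (LP (LK LD1_c0 LD2_c33 LD3_c47)) = (LP (LK LD1_c1 LD2_c12 LD3_c50)) :=
  Lre_e IH (LK LD1_c0 LD2_c33 LD3_c47) (LK LD1_c1 LD2_c12 LD3_c50) Lrfl Lrfl
theorem f21855 : Led Lsl_dt (LP (LK LD1_c1 LD2_c12 LD3_c49)) = (LP (LK LD1_c0 LD2_c33 LD3_c47)) :=
  Lre_d IH (LK LD1_c1 LD2_c12 LD3_c49) (LK LD1_c0 LD2_c33 LD3_c47) Lrfl Lrfl
theorem f33180 : Led Lsl_et (LP (LK LD1_c2 LD2_c31 LD3_c32)) = (LP (LK LD1_c1 LD2_c12 LD3_c49)) :=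
  Lre_e IH (LK LD1_c2 LD2_c31 LD3_c32) (LK LD1_c1 LD2_c12 LD3_c49) Lrfl Lrfl
theorem f33204 : Led Lsl_dt (LP (LK LD1_c4 LD2_c0 LD3_c17)) = (LP (LK LD1_c2 LD2_c31 LD3_c32)) :=
  Lgr Lrot77 (Lpe (f33203 IH) (Lpr_df (K10.f33142 IH) (Lpe (f33161 IH) (Lpe (f21855 IH) (Lpe (f33180 IH) (Lpn (LP (LK LD1_c2 LD2_c31 LD3_c32))))))))
theorem f33214 : Led Lsl_ft (LP (LK LD1_c8 LD2_c1 LD3_c33)) = (LP (LK LD1_c4 LD2_c0 LD3_c17)) :=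
  Lre_f IH (LK LD1_c8 LD2_c1 LD3_c33) (LK LD1_c4 LD2_c0 LD3_c17) Lrfl Lrfl
theorem f33215 : Led Lsl_ft (LP (LK LD1_c2 LD2_c31 LD3_c32)) = (LP (LK LD1_c5 LD2_c8 LD3_c42)) :=
  Lre_f IH (LK LD1_c2 LD2_c31 LD3_c32) (LK LD1_c5 LD2_c8 LD3_c42) Lrfl Lrfl
theorem f33216 : Led Lsl_df (LP (LK LD1_c8 LD2_c1 LD3_c33)) = (LP (LK LD1_c5 LD2_c8 LD3_c42)) :=
  Lgr Lrot78 (Lpr_ft (f33214 IH) (Lpr_dt (f33204 IH) (Lpr_ft (f33215 IH) (Lpn (LP (LK LD1_c5 LD2_c8 LD3_c42))))))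
theorem f33232 : Led Lsl_dt (LP (LK LD1_c8 LD2_c1 LD3_c33)) = (LP (LK LD1_c5 LD2_c8 LD3_c42)) :=
  Lgr Lrot42 (Lpr_df (f33216 IH) (Lpn (LP (LK LD1_c5 LD2_c8 LD3_c42))))
theorem f33235 : Led Lsl_bt (LP (LK LD1_c15 LD2_c6 LD3_c45)) = (LP (LK LD1_c8 LD2_c1 LD3_c33)) :=
  Lre_b IH (LK LD1_c15 LD2_c6 LD3_c45) (LK LD1_c8 LD2_c1 LD3_c33) Lrfl Lrfl
theorem f33236 : Led Lsl_bt (LP (LK LD1_c5 LD2_c8 LD3_c42)) = (LP (LK LD1_c10 LD2_c7 LD3_c26)) :=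
  Lre_b IH (LK LD1_c5 LD2_c8 LD3_c42) (LK LD1_c10 LD2_c7 LD3_c26) Lrfl Lrfl
theorem f33237 : Led Lsl_df (LP (LK LD1_c15 LD2_c6 LD3_c45)) = (LP (LK LD1_c10 LD2_c7 LD3_c26)) :=
  Lgr Lrot12 (Lpr_bt (f33235 IH) (Lpr_dt (f33232 IH) (Lpr_bt (f33236 IH) (Lpn (LP (LK LD1_c10 LD2_c7 LD3_c26))))))
theorem f33240 : Led Lsl_ft (LP (LK LD1_c15 LD2_c6 LD3_c45)) = (LP (LK LD1_c8 LD2_c1 LD3_c31)) :=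
  Lre_f IH (LK LD1_c15 LD2_c6 LD3_c45) (LK LD1_c8 LD2_c1 LD3_c31) Lrfl Lrfl
theorem f33241 : Led Lsl_ft (LP (LK LD1_c5 LD2_c8 LD3_c31)) = (LP (LK LD1_c10 LD2_c7 LD3_c26)) :=
  Lre_f IH (LK LD1_c5 LD2_c8 LD3_c31) (LK LD1_c10 LD2_c7 LD3_c26) Lrfl Lrfl
theorem f33242 : Led Lsl_dt (LP (LK LD1_c8 LD2_c1 LD3_c31)) = (LP (LK LD1_c5 LD2_c8 LD3_c31)) :=
  Lgr Lrot60 (Lpe (f33240 IH) (Lpr_df (f33237 IH) (Lpe (f33241 IH) (Lpn (LP (LK LD1_c5 LD2_c8 LD3_c31))))))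
theorem f33248 : Led Lsl_et (LP (LK LD1_c4 LD2_c0 LD3_c16)) = (LP (LK LD1_c8 LD2_c1 LD3_c31)) :=
  Lre_e IH (LK LD1_c4 LD2_c0 LD3_c16) (LK LD1_c8 LD2_c1 LD3_c31) Lrfl Lrfl
theorem f33249 : Led Lsl_et (LP (LK LD1_c5 LD2_c8 LD3_c31)) = (LP (LK LD1_c2 LD2_c31 LD3_c27)) :=
  Lre_e IH (LK LD1_c5 LD2_c8 LD3_c31) (LK LD1_c2 LD2_c31 LD3_c27) Lrfl Lrfl
theorem f33250 : Led Lsl_dt (LP (LK LD1_c2 LD2_c31 LD3_c27)) = (LP (LK LD1_c1 LD2_c12 LD3_c48)) :=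
  Lre_d IH (LK LD1_c2 LD2_c31 LD3_c27) (LK LD1_c1 LD2_c12 LD3_c48) Lrfl Lrfl
theorem f33251 : Led Lsl_et (LP (LK LD1_c1 LD2_c12 LD3_c48)) = (LP (LK LD1_c2 LD2_c31 LD3_c28)) :=
  Lre_e IH (LK LD1_c1 LD2_c12 LD3_c48) (LK LD1_c2 LD2_c31 LD3_c28) Lrfl Lrfl
theorem f33252 : Led Lsl_df (LP (LK LD1_c4 LD2_c0 LD3_c16)) = (LP (LK LD1_c2 LD2_c31 LD3_c28)) :=
  Lgr Lrot70 (Lpr_et (f33248 IH) (Lpr_dt (f33242 IH) (Lpr_et (f33249 IH) (Lpr_dt (f33250 IH) (Lpr_et (f33251 IH) (Lpn (LP (LK LD1_c2 LD2_c31 LD3_c28))))))))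
theorem f33261 : Led Lsl_et (LP (LK LD1_c2 LD2_c31 LD3_c28)) = (LP (LK LD1_c1 LD2_c12 LD3_c48)) :=
  Lre_e IH (LK LD1_c2 LD2_c31 LD3_c28) (LK LD1_c1 LD2_c12 LD3_c48) Lrfl Lrfl
theorem f212843 : Led Lsl_dt (LP (LK LD1_c1 LD2_c17 LD3_c14)) = (LP (LK LD1_c2 LD2_c41 LD3_c2)) :=
  Lre_d IH (LK LD1_c1 LD2_c17 LD3_c14) (LK LD1_c2 LD2_c41 LD3_c2) Lrfl Lrfl
theorem f212848 : Led Lsl_et (LP (LK LD1_c4 LD2_c2 LD3_c44)) = (LP (LK LD1_c1 LD2_c58 LD3_c23)) :=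
  Lre_e IH (LK LD1_c4 LD2_c2 LD3_c44) (LK LD1_c1 LD2_c58 LD3_c23) Lrfl Lrfl
theorem f219933 : Led Lsl_df (LP (LK LD1_c4 LD2_c13 LD3_c46)) = (LP (LK LD1_c4 LD2_c2 LD3_c44)) :=
  Lgr Lrot132 (Lpe (K10.f49480 IH) (Lpe (K9.f49439 IH) (Lpe (K10.f190897 IH) (Lpe (f33261 IH) (Lpe (f33252 IH) (Lpr_gf (f219928 IH) (Lpe (f212843 IH) (Lpe (f212826 IH) (Lpr_gf (f212779 IH) (Lpe (f212848 IH) (Lpn (LP (LK LD1_c4 LD2_c2 LD3_c44)))))))))))))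
theorem f219945 : Led Lsl_gt (LP (LK LD1_c1 LD2_c14 LD3_c42)) = (LP (LK LD1_c1 LD2_c58 LD3_c23)) :=
  Lgr Lrot131 (Lpe (K10.f44929 IH) (Lpe (K1.f44916 IH) (Lpr_gf (K1.f45716 IH) (Lpe (K0.f1427 IH) (Lpe (K1.f746 IH) (Lpe (K8.f45708 IH) (Lpr_dt (K8.f45709 IH) (Lpe (K10.f45731 IH) (Lpr_df (f219933 IH) (Lpr_et (f212848 IH) (Lpn (LP (LK LD1_c1 LD2_c58 LD3_c23)))))))))))))
theorem f32136 : Led Lsl_et (LP (LK LD1_c1 LD2_c14 LD3_c42)) = (LP (LK LD1_c0 LD2_c34 LD3_c39)) :=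
  Lre_e IH (LK LD1_c1 LD2_c14 LD3_c42) (LK LD1_c0 LD2_c34 LD3_c39) Lrfl Lrfl
theorem f190904 : Led Lsl_gt (LP (LK LD1_c4 LD2_c0 LD3_c16)) = (LP (LK LD1_c2 LD2_c35 LD3_c20)) :=
  Lgr Lrot112 (Lpr_df (f33252 IH) (Lpr_et (f33261 IH) (Lpr_gf (K10.f190893 IH) (Lpe (K10.f49158 IH) (Lpe (K8.f49152 IH) (Lpr_gf (K1.f47810 IH) (Lpe (K9.f45722 IH) (Lpe (K1.f32132 IH) (Lpe (f32136 IH) (Lpr_dt (K10.f32137 IH) (Lpn (LP (LK LD1_c2 LD2_c35 LD3_c20)))))))))))))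
theorem f1038 : Led Lsl_dt (LP (LK LD1_c0 LD2_c57 LD3_c61)) = (LP (LK LD1_c2 LD2_c2 LD3_c9)) :=
  Lre_d IH (LK LD1_c0 LD2_c57 LD3_c61) (LK LD1_c2 LD2_c2 LD3_c9) Lrfl Lrfl
theorem f1039 : Led Lsl_gt (LP (LK LD1_c2 LD2_c2 LD3_c9)) = (LP (LK LD1_c4 LD2_c9 LD3_c52)) :=
  Lre_g IH (LK LD1_c2 LD2_c2 LD3_c9) (LK LD1_c4 LD2_c9 LD3_c52) Lrfl Lrfl
theorem f219947 : Led Lsl_dt (LP (LK LD1_c1 LD2_c58 LD3_c23)) = (LP (LK LD1_c4 LD2_c2 LD3_c43)) :=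
  Lre_d IH (LK LD1_c1 LD2_c58 LD3_c23) (LK LD1_c4 LD2_c2 LD3_c43) Lrfl Lrfl
theorem f219948 : Led Lsl_ct (LP (LK LD1_c8 LD2_c6 LD3_c1)) = (LP (LK LD1_c4 LD2_c2 LD3_c43)) :=
  Lre_c IH (LK LD1_c8 LD2_c6 LD3_c1) (LK LD1_c4 LD2_c2 LD3_c43) Lrfl Lrfl
theorem f219949 : Led Lsl_dt (LP (LK LD1_c4 LD2_c9 LD3_c52)) = (LP (LK LD1_c8 LD2_c6 LD3_c1)) :=
  Lgr Lrot105 (Lpe (f1039 IH) (Lpe (f1038 IH) (Lpe (K9.f1318 IH) (Lpr_cf (K9.f167273 IH) (Lpr_gt (f190904 IH) (Lpr_dt (K10.f44922 IH) (Lpr_gt (f219945 IH) (Lpr_dt (f219947 IH) (Lpe (f219948 IH) (Lpn (LP (LK LD1_c8 LD2_c6 LD3_c1))))))))))))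
theorem f219978 : Led Lsl_df (LP (LK LD1_c4 LD2_c9 LD3_c52)) = (LP (LK LD1_c8 LD2_c6 LD3_c1)) :=
  Lgr Lrot38 (Lpr_dt (f219949 IH) (Lpn (LP (LK LD1_c8 LD2_c6 LD3_c1))))
theorem f216847 : Led Lsl_dt (LP (LK LD1_c0 LD2_c15 LD3_c59)) = (LP (LK LD1_c0 LD2_c35 LD3_c45)) :=
  Lre_d IH (LK LD1_c0 LD2_c15 LD3_c59) (LK LD1_c0 LD2_c35 LD3_c45) Lrfl Lrfl
theorem f216961 : Led Lsl_ct (LP (LK LD1_c1 LD2_c17 LD3_c19)) = (LP (LK LD1_c0 LD2_c35 LD3_c45)) :=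
  Lre_c IH (LK LD1_c1 LD2_c17 LD3_c19) (LK LD1_c0 LD2_c35 LD3_c45) Lrfl Lrfl
theorem f216962 : Led Lsl_dt (LP (LK LD1_c2 LD2_c41 LD3_c19)) = (LP (LK LD1_c1 LD2_c17 LD3_c19)) :=
  Lre_d IH (LK LD1_c2 LD2_c41 LD3_c19) (LK LD1_c1 LD2_c17 LD3_c19) Lrfl Lrfl
theorem f216963 : Led Lsl_gt (LP (LK LD1_c5 LD2_c30 LD3_c4)) = (LP (LK LD1_c2 LD2_c41 LD3_c19)) :=
  Lre_g IH (LK LD1_c5 LD2_c30 LD3_c4) (LK LD1_c2 LD2_c41 LD3_c19) Lrfl Lrfl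
theorem f216964 : Led Lsl_dt (LP (LK LD1_c2 LD2_c42 LD3_c20)) = (LP (LK LD1_c5 LD2_c30 LD3_c4)) :=
  Lgr Lrot57 (Lpe (f213141 IH) (Lpe (f200736 IH) (Lpr_gt (f216947 IH) (Lpr_dt (f213771 IH) (Lpr_gt (f168196 IH) (Lpr_dt (f216847 IH) (Lpe (f216961 IH) (Lpe (f216962 IH) (Lpe (f216963 IH) (Lpn (LP (LK LD1_c5 LD2_c30 LD3_c4))))))))))))
theorem f168168 : Led Lsl_ct (LP (LK LD1_c1 LD2_c17 LD3_c46)) = (LP (LK LD1_c0 LD2_c35 LD3_c55)) :=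
  Lre_c IH (LK LD1_c1 LD2_c17 LD3_c46) (LK LD1_c0 LD2_c35 LD3_c55) Lrfl Lrfl
theorem f50160 : Led Lsl_ct (LP (LK LD1_c0 LD2_c56 LD3_c4)) = (LP (LK LD1_c1 LD2_c58 LD3_c27)) :=
  Lre_c IH (LK LD1_c0 LD2_c56 LD3_c4) (LK LD1_c1 LD2_c58 LD3_c27) Lrfl Lrfl
theorem f50161 : Led Lsl_dt (LP (LK LD1_c4 LD2_c2 LD3_c54)) = (LP (LK LD1_c1 LD2_c58 LD3_c27)) :=
  Lre_d IH (LK LD1_c4 LD2_c2 LD3_c54) (LK LD1_c1 LD2_c58 LD3_c27) Lrfl Lrfl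
theorem f50438 : Led Lsl_ct (LP (LK LD1_c8 LD2_c6 LD3_c27)) = (LP (LK LD1_c4 LD2_c2 LD3_c54)) :=
  Lre_c IH (LK LD1_c8 LD2_c6 LD3_c27) (LK LD1_c4 LD2_c2 LD3_c54) Lrfl Lrfl
theorem f857 : Led Lsl_gt (LP (LK LD1_c4 LD2_c9 LD3_c52)) = (LP (LK LD1_c8 LD2_c6 LD3_c27)) :=
  Lre_g IH (LK LD1_c4 LD2_c9 LD3_c52) (LK LD1_c8 LD2_c6 LD3_c27) Lrfl Lrfl
theorem f216982 : Led Lsl_cf (LP (LK LD1_c4 LD2_c9 LD3_c52)) = (LP (LK LD1_c2 LD2_c41 LD3_c19)) :=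
  Lgr Lrot188 (Lpr_gt (f857 IH) (Lpr_ct (f50438 IH) (Lpr_dt (f50161 IH) (Lpe (f50160 IH) (Lpr_gf (K10.f196391 IH) (Lpe (f168168 IH) (Lpe (f196395 IH) (Lpr_dt (f216964 IH) (Lpr_gt (f216963 IH) (Lpn (LP (LK LD1_c2 LD2_c41 LD3_c19))))))))))))
theorem f216998 : Led Lsl_ct (LP (LK LD1_c4 LD2_c9 LD3_c52)) = (LP (LK LD1_c2 LD2_c41 LD3_c19)) :=
  Lgr Lrot59 (Lpr_cf (f216982 IH) (Lpn (LP (LK LD1_c2 LD2_c41 LD3_c19))))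
theorem f168354 : Led Lsl_dt (LP (LK LD1_c0 LD2_c35 LD3_c45)) = (LP (LK LD1_c0 LD2_c15 LD3_c59)) :=
  Lre_d IH (LK LD1_c0 LD2_c35 LD3_c45) (LK LD1_c0 LD2_c15 LD3_c59) Lrfl Lrfl
theorem f168526 : Led Lsl_dt (LP (LK LD1_c0 LD2_c35 LD3_c44)) = (LP (LK LD1_c1 LD2_c17 LD3_c15)) :=
  Lre_d IH (LK LD1_c0 LD2_c35 LD3_c44) (LK LD1_c1 LD2_c17 LD3_c15) Lrfl Lrfl
theorem f168361 : Led Lsl_ct (LP (LK LD1_c1 LD2_c17 LD3_c15)) = (LP (LK LD1_c2 LD2_c41 LD3_c5)) :=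
  Lre_c IH (LK LD1_c1 LD2_c17 LD3_c15) (LK LD1_c2 LD2_c41 LD3_c5) Lrfl Lrfl
theorem f216852 : Led Lsl_at (LP (LK LD1_c5 LD2_c29 LD3_c21)) = (LP (LK LD1_c2 LD2_c41 LD3_c5)) :=
  Lre_a IH (LK LD1_c5 LD2_c29 LD3_c21) (LK LD1_c2 LD2_c41 LD3_c5) Lrfl Lrfl
theorem f220036 : Led Lsl_ff (LP (LK LD1_c5 LD2_c29 LD3_c21)) = (LP (LK LD1_c8 LD2_c6 LD3_c1)) :=
  Lgr Lrot103 (Lpr_at (f216852 IH) (Lpe (f168361 IH) (Lpe (f168526 IH) (Lpe (f168349 IH) (Lpe (f168354 IH) (Lpe (f216961 IH) (Lpe (f216962 IH) (Lpe (f216998 IH) (Lpr_df (f219978 IH) (Lpn (LP (LK LD1_c8 LD2_c6 LD3_c1))))))))))))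
theorem f220489 : Led Lsl_ft (LP (LK LD1_c5 LD2_c29 LD3_c21)) = (LP (LK LD1_c8 LD2_c6 LD3_c1)) :=
  Lgr Lrot48 (Lpr_ff (f220036 IH) (Lpn (LP (LK LD1_c8 LD2_c6 LD3_c1))))
theorem f220497 : Led Lsl_ct (LP (LK LD1_c2 LD2_c40 LD3_c57)) = (LP (LK LD1_c5 LD2_c29 LD3_c21)) :=
  Lre_c IH (LK LD1_c2 LD2_c40 LD3_c57) (LK LD1_c5 LD2_c29 LD3_c21) Lrfl Lrfl
theorem f220498 : Led Lsl_ff (LP (LK LD1_c2 LD2_c40 LD3_c57)) = (LP (LK LD1_c4 LD2_c2 LD3_c43)) :=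
  Lgr Lrot23 (Lpr_ct (f220497 IH) (Lpr_ft (f220489 IH) (Lpr_ct (f219948 IH) (Lpn (LP (LK LD1_c4 LD2_c2 LD3_c43))))))
theorem f168524 : Led Lsl_at (LP (LK LD1_c2 LD2_c40 LD3_c57)) = (LP (LK LD1_c1 LD2_c17 LD3_c15)) :=
  Lre_a IH (LK LD1_c2 LD2_c40 LD3_c57) (LK LD1_c1 LD2_c17 LD3_c15) Lrfl Lrfl
theorem f168373 : Led Lsl_gt (LP (LK LD1_c2 LD2_c41 LD3_c4)) = (LP (LK LD1_c1 LD2_c17 LD3_c15)) :=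
  Lre_g IH (LK LD1_c2 LD2_c41 LD3_c4) (LK LD1_c1 LD2_c17 LD3_c15) Lrfl Lrfl
theorem f220509 : Led Lsl_gf (LP (LK LD1_c2 LD2_c41 LD3_c4)) = (LP (LK LD1_c4 LD2_c2 LD3_c43)) :=
  Lgr Lrot47 (Lpr_gt (f168373 IH) (Lpe (f168524 IH) (Lpr_ff (f220498 IH) (Lpn (LP (LK LD1_c4 LD2_c2 LD3_c43))))))
theorem f27519 : Led Lsl_et (LP (LK LD1_c2 LD2_c4 LD3_c27)) = (LP (LK LD1_c0 LD2_c59 LD3_c13)) :=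
  Lre_e IH (LK LD1_c2 LD2_c4 LD3_c27) (LK LD1_c0 LD2_c59 LD3_c13) Lrfl Lrfl
theorem f220515 : Led Lsl_df (LP (LK LD1_c2 LD2_c41 LD3_c4)) = (LP (LK LD1_c2 LD2_c4 LD3_c27)) :=
  Lgr Lrot132 (Lpr_gf (f220509 IH) (Lpe (f219947 IH) (Lpe (f219945 IH) (Lpe (K10.f44929 IH) (Lpe (K1.f44916 IH) (Lpr_gf (K1.f45716 IH) (Lpe (K0.f1427 IH) (Lpr_et (K10.f27390 IH) (Lpe (K10.f45730 IH) (Lpe (f27519 IH) (Lpn (LP (LK LD1_c2 LD2_c4 LD3_c27)))))))))))))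
theorem f168531 : Led Lsl_et (LP (LK LD1_c0 LD2_c35 LD3_c44)) = (LP (LK LD1_c1 LD2_c17 LD3_c16)) :=
  Lre_e IH (LK LD1_c0 LD2_c35 LD3_c44) (LK LD1_c1 LD2_c17 LD3_c16) Lrfl Lrfl
theorem f168344 : Led Lsl_gt (LP (LK LD1_c1 LD2_c17 LD3_c16)) = (LP (LK LD1_c2 LD2_c41 LD3_c7)) :=
  Lre_g IH (LK LD1_c1 LD2_c17 LD3_c16) (LK LD1_c2 LD2_c41 LD3_c7) Lrfl Lrfl
theorem f27518 : Led Lsl_gt (LP (LK LD1_c2 LD2_c4 LD3_c18)) = (LP (LK LD1_c0 LD2_c59 LD3_c13)) :=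
  Lre_g IH (LK LD1_c2 LD2_c4 LD3_c18) (LK LD1_c0 LD2_c59 LD3_c13) Lrfl Lrfl
theorem f27427 : Led Lsl_at (LP (LK LD1_c4 LD2_c14 LD3_c18)) = (LP (LK LD1_c8 LD2_c26 LD3_c26)) :=
  Lre_a IH (LK LD1_c4 LD2_c14 LD3_c18) (LK LD1_c8 LD2_c26 LD3_c26) Lrfl Lrfl
theorem f27429 : Led Lsl_df (LP (LK LD1_c8 LD2_c26 LD3_c26)) = (LP (LK LD1_c8 LD2_c26 LD3_c26)) :=
  Lgr Lrot18 (Lpr_at (K11.f27428 IH) (Lpr_dt (K11.f27425 IH) (Lpr_at (f27427 IH) (Lpn (LP (LK LD1_c8 LD2_c26 LD3_c26))))))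
theorem f27494 : Led Lsl_et (LP (LK LD1_c8 LD2_c26 LD3_c26)) = (LP (LK LD1_c4 LD2_c13 LD3_c53)) :=
  Lre_e IH (LK LD1_c8 LD2_c26 LD3_c26) (LK LD1_c4 LD2_c13 LD3_c53) Lrfl Lrfl
theorem f27495 : Led Lsl_dt (LP (LK LD1_c4 LD2_c13 LD3_c53)) = (LP (LK LD1_c2 LD2_c4 LD3_c18)) :=
  Lre_d IH (LK LD1_c4 LD2_c13 LD3_c53) (LK LD1_c2 LD2_c4 LD3_c18) Lrfl Lrfl
theorem f27497 : Led Lsl_dt (LP (LK LD1_c2 LD2_c4 LD3_c18)) = (LP (LK LD1_c4 LD2_c13 LD3_c53)) :=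
  Lre_d IH (LK LD1_c2 LD2_c4 LD3_c18) (LK LD1_c4 LD2_c13 LD3_c53) Lrfl Lrfl
theorem f27498 : Led Lsl_et (LP (LK LD1_c2 LD2_c4 LD3_c18)) = (LP (LK LD1_c2 LD2_c4 LD3_c18)) :=
  Lgr Lrot71 (Lpe (f27495 IH) (Lpe (f27494 IH) (Lpr_df (f27429 IH) (Lpe (K11.f27496 IH) (Lpe (f27497 IH) (Lpn (LP (LK LD1_c2 LD2_c4 LD3_c18))))))))
theorem f27503 : Led Lsl_gt (LP (LK LD1_c2 LD2_c4 LD3_c28)) = (LP (LK LD1_c4 LD2_c13 LD3_c53)) :=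
  Lre_g IH (LK LD1_c2 LD2_c4 LD3_c28) (LK LD1_c4 LD2_c13 LD3_c53) Lrfl Lrfl
theorem f220526 : Led Lsl_dt (LP (LK LD1_c2 LD2_c41 LD3_c7)) = (LP (LK LD1_c2 LD2_c4 LD3_c28)) :=
  Lgr Lrot171 (Lpe (f168344 IH) (Lpe (f168531 IH) (Lpr_dt (f168526 IH) (Lpe (f168373 IH) (Lpr_df (f220515 IH) (Lpr_et (f27519 IH) (Lpe (f27518 IH) (Lpe (f27498 IH) (Lpr_dt (f27497 IH) (Lpe (f27503 IH) (Lpn (LP (LK LD1_c2 LD2_c4 LD3_c28)))))))))))))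
theorem f168327 : Led Lsl_gt (LP (LK LD1_c0 LD2_c35 LD3_c46)) = (LP (LK LD1_c1 LD2_c17 LD3_c21)) :=
  Lre_g IH (LK LD1_c0 LD2_c35 LD3_c46) (LK LD1_c1 LD2_c17 LD3_c21) Lrfl Lrfl
theorem f51467 : Led Lsl_gt (LP (LK LD1_c0 LD2_c59 LD3_c46)) = (LP (LK LD1_c2 LD2_c5 LD3_c9)) :=
  Lre_g IH (LK LD1_c0 LD2_c59 LD3_c46) (LK LD1_c2 LD2_c5 LD3_c9) Lrfl Lrfl
theorem f220530 : Led Lsl_dt (LP (LK LD1_c1 LD2_c17 LD3_c21)) = (LP (LK LD1_c0 LD2_c59 LD3_c46)) :=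
  Lgr Lrot57 (Lpe (f168327 IH) (Lpe (f168331 IH) (Lpr_gt (f168344 IH) (Lpr_dt (f220526 IH) (Lpr_gt (f27503 IH) (Lpr_dt (f27495 IH) (Lpe (f27511 IH) (Lpe (K9.f833 IH) (Lpe (f51467 IH) (Lpn (LP (LK LD1_c0 LD2_c59 LD3_c46))))))))))))
theorem f220561 : Led Lsl_et (LP (LK LD1_c0 LD2_c15 LD3_c59)) = (LP (LK LD1_c0 LD2_c35 LD3_c46)) :=
  Lre_e IH (LK LD1_c0 LD2_c15 LD3_c59) (LK LD1_c0 LD2_c35 LD3_c46) Lrfl Lrfl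
theorem f168355 : Led Lsl_gt (LP (LK LD1_c1 LD2_c17 LD3_c18)) = (LP (LK LD1_c0 LD2_c35 LD3_c45)) :=
  Lre_g IH (LK LD1_c1 LD2_c17 LD3_c18) (LK LD1_c0 LD2_c35 LD3_c45) Lrfl Lrfl
theorem f51465 : Led Lsl_dt (LP (LK LD1_c0 LD2_c59 LD3_c39)) = (LP (LK LD1_c2 LD2_c5 LD3_c9)) :=
  Lre_d IH (LK LD1_c0 LD2_c59 LD3_c39) (LK LD1_c2 LD2_c5 LD3_c9) Lrfl Lrfl
theorem f27353 : Led Lsl_at (LP (LK LD1_c0 LD2_c59 LD3_c39)) = (LP (LK LD1_c0 LD2_c27 LD3_c12)) :=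
  Lre_a IH (LK LD1_c0 LD2_c59 LD3_c39) (LK LD1_c0 LD2_c27 LD3_c12) Lrfl Lrfl
theorem f27355 : Led Lsl_ef (LP (LK LD1_c0 LD2_c59 LD3_c39)) = (LP (LK LD1_c0 LD2_c59 LD3_c39)) :=
  Lgr Lrot20 (Lpr_at (f27353 IH) (Lpr_et (K0.f27347 IH) (Lpr_at (K9.f27354 IH) (Lpn (LP (LK LD1_c0 LD2_c59 LD3_c39))))))
theorem f1380 : Led Lsl_gt (LP (LK LD1_c0 LD2_c59 LD3_c39)) = (LP (LK LD1_c0 LD2_c27 LD3_c10)) :=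
  Lre_g IH (LK LD1_c0 LD2_c59 LD3_c39) (LK LD1_c0 LD2_c27 LD3_c10) Lrfl Lrfl
theorem f756 : Led Lsl_et (LP (LK LD1_c0 LD2_c59 LD3_c45)) = (LP (LK LD1_c0 LD2_c27 LD3_c10)) :=
  Lre_e IH (LK LD1_c0 LD2_c59 LD3_c45) (LK LD1_c0 LD2_c27 LD3_c10) Lrfl Lrfl
theorem f220562 : Led Lsl_df (LP (LK LD1_c1 LD2_c17 LD3_c18)) = (LP (LK LD1_c0 LD2_c59 LD3_c45)) :=
  Lgr Lrot170 (Lpr_gt (f168355 IH) (Lpe (f216847 IH) (Lpr_et (f220561 IH) (Lpr_gt (f168327 IH) (Lpr_dt (f220530 IH) (Lpr_gt (f51467 IH) (Lpe (f51465 IH) (Lpe (f27355 IH) (Lpr_gt (f1380 IH) (Lpe (f756 IH) (Lpn (LP (LK LD1_c0 LD2_c59 LD3_c45)))))))))))))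
theorem f755 : Led Lsl_gt (LP (LK LD1_c0 LD2_c27 LD3_c10)) = (LP (LK LD1_c0 LD2_c12 LD3_c3)) :=
  Lre_g IH (LK LD1_c0 LD2_c27 LD3_c10) (LK LD1_c0 LD2_c12 LD3_c3) Lrfl Lrfl
theorem f53085 : Led Lsl_dt (LP (LK LD1_c0 LD2_c56 LD3_c3)) = (LP (LK LD1_c1 LD2_c58 LD3_c24)) :=
  Lre_d IH (LK LD1_c0 LD2_c56 LD3_c3) (LK LD1_c1 LD2_c58 LD3_c24) Lrfl Lrfl
theorem f220582 : Led Lsl_gf (LP (LK LD1_c1 LD2_c17 LD3_c18)) = (LP (LK LD1_c1 LD2_c58 LD3_c24)) :=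
  Lgr Lrot134 (Lpr_df (f220562 IH) (Lpr_et (f756 IH) (Lpr_gt (f755 IH) (Lpe (K0.f754 IH) (Lpe (K1.f592 IH) (Lpr_gt (K1.f741 IH) (Lpr_df (K1.f44952 IH) (Lpr_et (K9.f28124 IH) (Lpr_gt (f51399 IH) (Lpr_dt (f53085 IH) (Lpn (LP (LK LD1_c1 LD2_c58 LD3_c24)))))))))))))
theorem f220584 : Led Lsl_et (LP (LK LD1_c0 LD2_c56 LD3_c3)) = (LP (LK LD1_c1 LD2_c58 LD3_c25)) :=
  Lre_e IH (LK LD1_c0 LD2_c56 LD3_c3) (LK LD1_c1 LD2_c58 LD3_c25) Lrfl Lrfl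
theorem f1403 : Led Lsl_dt (LP (LK LD1_c0 LD2_c12 LD3_c3)) = (LP (LK LD1_c0 LD2_c27 LD3_c11)) :=
  Lre_d IH (LK LD1_c0 LD2_c12 LD3_c3) (LK LD1_c0 LD2_c27 LD3_c11) Lrfl Lrfl
theorem f606 : Led Lsl_gt (LP (LK LD1_c0 LD2_c27 LD3_c11)) = (LP (LK LD1_c0 LD2_c59 LD3_c46)) :=
  Lre_g IH (LK LD1_c0 LD2_c27 LD3_c11) (LK LD1_c0 LD2_c59 LD3_c46) Lrfl Lrfl
theorem f220560 : Led Lsl_et (LP (LK LD1_c1 LD2_c17 LD3_c21)) = (LP (LK LD1_c2 LD2_c41 LD3_c25)) :=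
  Lre_e IH (LK LD1_c1 LD2_c17 LD3_c21) (LK LD1_c2 LD2_c41 LD3_c25) Lrfl Lrfl
theorem f220585 : Led Lsl_gf (LP (LK LD1_c1 LD2_c58 LD3_c25)) = (LP (LK LD1_c2 LD2_c41 LD3_c25)) :=
  Lgr Lrot141 (Lpe (f220584 IH) (Lpr_dt (f53085 IH) (Lpe (f220582 IH) (Lpr_df (f220562 IH) (Lpr_et (f756 IH) (Lpr_gt (f755 IH) (Lpr_dt (f1403 IH) (Lpr_gt (f606 IH) (Lpe (f220530 IH) (Lpr_et (f220560 IH) (Lpn (LP (LK LD1_c2 LD2_c41 LD3_c25)))))))))))))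
theorem f220588 : Led Lsl_dt (LP (LK LD1_c1 LD2_c58 LD3_c25)) = (LP (LK LD1_c2 LD2_c4 LD3_c60)) :=
  Lgr Lrot171 (Lpr_gf (f220585 IH) (Lpe (f220560 IH) (Lpr_dt (f220530 IH) (Lpe (f606 IH) (Lpe (f1403 IH) (Lpr_et (K0.f591 IH) (Lpe (K1.f740 IH) (Lpe (K1.f751 IH) (Lpr_dt (K1.f752 IH) (Lpe (K10.f753 IH) (Lpn (LP (LK LD1_c2 LD2_c4 LD3_c60)))))))))))))
theorem f220597 : Led Lsl_et (LP (LK LD1_c1 LD2_c58 LD3_c25)) = (LP (LK LD1_c0 LD2_c56 LD3_c3)) :=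
  Lre_e IH (LK LD1_c1 LD2_c58 LD3_c25) (LK LD1_c0 LD2_c56 LD3_c3) Lrfl Lrfl
theorem f220598 : Led Lsl_gt (LP (LK LD1_c0 LD2_c56 LD3_c3)) = (LP (LK LD1_c0 LD2_c35 LD3_c42)) :=
  Lgr Lrot137 (Lpe (f220597 IH) (Lpr_dt (f220588 IH) (Lpe (K10.f45369 IH) (Lpe (K1.f45139 IH) (Lpr_et (K10.f45157 IH) (Lpe (K10.f192353 IH) (Lpe (K10.f190964 IH) (Lpr_dt (K10.f183248 IH) (Lpr_gf (f216940 IH) (Lpe (f213772 IH) (Lpn (LP (LK LD1_c0 LD2_c35 LD3_c42)))))))))))))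
theorem f219930 : Led Lsl_ct (LP (LK LD1_c1 LD2_c58 LD3_c23)) = (LP (LK LD1_c0 LD2_c56 LD3_c3)) :=
  Lre_c IH (LK LD1_c1 LD2_c58 LD3_c23) (LK LD1_c0 LD2_c56 LD3_c3) Lrfl Lrfl
theorem f216832 : Led Lsl_ct (LP (LK LD1_c0 LD2_c35 LD3_c42)) = (LP (LK LD1_c0 LD2_c57 LD3_c50)) :=
  Lgr Lrot59 (Lpr_cf (f216828 IH) (Lpn (LP (LK LD1_c0 LD2_c57 LD3_c50))))
theorem f51487 : Led Lsl_gt (LP (LK LD1_c2 LD2_c2 LD3_c6)) = (LP (LK LD1_c4 LD2_c8 LD3_c26)) :=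
  Lre_g IH (LK LD1_c2 LD2_c2 LD3_c6) (LK LD1_c4 LD2_c8 LD3_c26) Lrfl Lrfl
theorem f51488 : Led Lsl_ct (LP (LK LD1_c4 LD2_c9 LD3_c41)) = (LP (LK LD1_c2 LD2_c2 LD3_c6)) :=
  Lre_c IH (LK LD1_c4 LD2_c9 LD3_c41) (LK LD1_c2 LD2_c2 LD3_c6) Lrfl Lrfl
theorem f220608 : Led Lsl_gt (LP (LK LD1_c2 LD2_c35 LD3_c20)) = (LP (LK LD1_c4 LD2_c9 LD3_c41)) :=
  Lgr Lrot9 (Lpe (K10.f32137 IH) (Lpr_gt (f219945 IH) (Lpr_ct (f219930 IH) (Lpr_gt (f220598 IH) (Lpr_ct (f216832 IH) (Lpe (f573 IH) (Lpe (f51475 IH) (Lpe (f51487 IH) (Lpe (f51488 IH) (Lpn (LP (LK LD1_c4 LD2_c9 LD3_c41))))))))))))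
theorem f53738 : Led Lsl_bf (LP (LK LD1_c2 LD2_c35 LD3_c20)) = (LP (LK LD1_c2 LD2_c0 LD3_c24)) :=
  Lgr Lrot24 (Lpr_bt (K10.f53734 IH) (Lpn (LP (LK LD1_c2 LD2_c0 LD3_c24))))
theorem f44501 : Led Lsl_ct (LP (LK LD1_c2 LD2_c0 LD3_c24)) = (LP (LK LD1_c4 LD2_c6 LD3_c11)) :=
  Lre_c IH (LK LD1_c2 LD2_c0 LD3_c24) (LK LD1_c4 LD2_c6 LD3_c11) Lrfl Lrfl
theorem f51466 : Led Lsl_gt (LP (LK LD1_c2 LD2_c5 LD3_c9)) = (LP (LK LD1_c0 LD2_c59 LD3_c47)) :=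
  Lre_g IH (LK LD1_c2 LD2_c5 LD3_c9) (LK LD1_c0 LD2_c59 LD3_c47) Lrfl Lrfl
theorem f51489 : Led Lsl_bt (LP (LK LD1_c2 LD2_c5 LD3_c28)) = (LP (LK LD1_c0 LD2_c59 LD3_c47)) :=
  Lre_b IH (LK LD1_c2 LD2_c5 LD3_c28) (LK LD1_c0 LD2_c59 LD3_c47) Lrfl Lrfl
theorem f51490 : Led Lsl_ct (LP (LK LD1_c2 LD2_c5 LD3_c28)) = (LP (LK LD1_c4 LD2_c16 LD3_c12)) :=
  Lre_c IH (LK LD1_c2 LD2_c5 LD3_c28) (LK LD1_c4 LD2_c16 LD3_c12) Lrfl Lrfl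
theorem f221805 : Led Lsl_gf (LP (LK LD1_c4 LD2_c6 LD3_c11)) = (LP (LK LD1_c4 LD2_c16 LD3_c12)) :=
  Lgr Lrot126 (Lpe (f44501 IH) (Lpe (f53738 IH) (Lpr_gt (f220608 IH) (Lpr_ct (f51488 IH) (Lpr_gt (f51487 IH) (Lpe (K9.f50516 IH) (Lpr_bt (K9.f51439 IH) (Lpr_gt (f51466 IH) (Lpe (f51489 IH) (Lpr_ct (f51490 IH) (Lpn (LP (LK LD1_c4 LD2_c16 LD3_c12)))))))))))))
theorem f221812 : Led Lsl_gt (LP (LK LD1_c4 LD2_c18 LD3_c37)) = (LP (LK LD1_c4 LD2_c16 LD3_c12)) :=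
  Lgr Lrot5 (Lpr_ft (f188865 IH) (Lpr_at (f53772 IH) (Lpr_gf (f221805 IH) (Lpn (LP (LK LD1_c4 LD2_c16 LD3_c12))))))
theorem f188827 : Led Lsl_ct (LP (LK LD1_c2 LD2_c6 LD3_c36)) = (LP (LK LD1_c4 LD2_c18 LD3_c37)) :=
  Lre_c IH (LK LD1_c2 LD2_c6 LD3_c36) (LK LD1_c4 LD2_c18 LD3_c37) Lrfl Lrfl
theorem f188889 : Led Lsl_bt (LP (LK LD1_c2 LD2_c6 LD3_c36)) = (LP (LK LD1_c4 LD2_c18 LD3_c35)) :=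
  Lre_b IH (LK LD1_c2 LD2_c6 LD3_c36) (LK LD1_c4 LD2_c18 LD3_c35) Lrfl Lrfl
theorem f600 : Led Lsl_gt (LP (LK LD1_c0 LD2_c59 LD3_c47)) = (LP (LK LD1_c0 LD2_c27 LD3_c11)) :=
  Lre_g IH (LK LD1_c0 LD2_c59 LD3_c47) (LK LD1_c0 LD2_c27 LD3_c11) Lrfl Lrfl
theorem f1044 : Led Lsl_gt (LP (LK LD1_c0 LD2_c59 LD3_c48)) = (LP (LK LD1_c2 LD2_c5 LD3_c31)) :=
  Lre_g IH (LK LD1_c0 LD2_c59 LD3_c48) (LK LD1_c2 LD2_c5 LD3_c31) Lrfl Lrfl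
theorem f53417 : Led Lsl_ct (LP (LK LD1_c4 LD2_c16 LD3_c22)) = (LP (LK LD1_c2 LD2_c5 LD3_c31)) :=
  Lre_c IH (LK LD1_c4 LD2_c16 LD3_c22) (LK LD1_c2 LD2_c5 LD3_c31) Lrfl Lrfl
theorem f53418 : Led Lsl_bt (LP (LK LD1_c4 LD2_c16 LD3_c22)) = (LP (LK LD1_c8 LD2_c31 LD3_c57)) :=
  Lre_b IH (LK LD1_c4 LD2_c16 LD3_c22) (LK LD1_c8 LD2_c31 LD3_c57) Lrfl Lrfl
theorem f221832 : Led Lsl_gf (LP (LK LD1_c4 LD2_c18 LD3_c35)) = (LP (LK LD1_c8 LD2_c31 LD3_c57)) :=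
  Lgr Lrot124 (Lpe (f188889 IH) (Lpr_ct (f188827 IH) (Lpr_gt (f221812 IH) (Lpe (f51490 IH) (Lpr_bt (f51489 IH) (Lpr_gt (f600 IH) (Lpr_ct (K9.f585 IH) (Lpr_gt (f1044 IH) (Lpe (f53417 IH) (Lpr_bt (f53418 IH) (Lpn (LP (LK LD1_c8 LD2_c31 LD3_c57)))))))))))))
theorem f53379 : Led Lsl_bt (LP (LK LD1_c1 LD2_c0 LD3_c9)) = (LP (LK LD1_c0 LD2_c27 LD3_c20)) :=
  Lre_b IH (LK LD1_c1 LD2_c0 LD3_c9) (LK LD1_c0 LD2_c27 LD3_c20) Lrfl Lrfl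
theorem f53380 : Led Lsl_ct (LP (LK LD1_c1 LD2_c0 LD3_c9)) = (LP (LK LD1_c2 LD2_c6 LD3_c19)) :=
  Lre_c IH (LK LD1_c1 LD2_c0 LD3_c9) (LK LD1_c2 LD2_c6 LD3_c19) Lrfl Lrfl
theorem f167529 : Led Lsl_gt (LP (LK LD1_c4 LD2_c18 LD3_c1)) = (LP (LK LD1_c2 LD2_c6 LD3_c19)) :=
  Lre_g IH (LK LD1_c4 LD2_c18 LD3_c1) (LK LD1_c2 LD2_c6 LD3_c19) Lrfl Lrfl
theorem f221838 : Led Lsl_ct (LP (LK LD1_c4 LD2_c18 LD3_c35)) = (LP (LK LD1_c4 LD2_c18 LD3_c1)) :=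
  Lgr Lrot91 (Lpr_gf (f221832 IH) (Lpe (f53418 IH) (Lpr_ct (f53417 IH) (Lpe (f1044 IH) (Lpe (K9.f585 IH) (Lpr_bt (K9.f583 IH) (Lpe (K9.f522 IH) (Lpe (f53379 IH) (Lpr_ct (f53380 IH) (Lpe (f167529 IH) (Lpn (LP (LK LD1_c4 LD2_c18 LD3_c1)))))))))))))
theorem f217451 : Led Lsl_bt (LP (LK LD1_c1 LD2_c10 LD3_c0)) = (LP (LK LD1_c2 LD2_c25 LD3_c35)) :=
  Lre_b IH (LK LD1_c1 LD2_c10 LD3_c0) (LK LD1_c2 LD2_c25 LD3_c35) Lrfl Lrfl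
theorem f28175 : Led Lsl_gt (LP (LK LD1_c0 LD2_c55 LD3_c30)) = (LP (LK LD1_c1 LD2_c57 LD3_c21)) :=
  Lre_g IH (LK LD1_c0 LD2_c55 LD3_c30) (LK LD1_c1 LD2_c57 LD3_c21) Lrfl Lrfl
theorem f193339 : Led Lsl_ct (LP (LK LD1_c1 LD2_c57 LD3_c21)) = (LP (LK LD1_c4 LD2_c1 LD3_c5)) :=
  Lre_c IH (LK LD1_c1 LD2_c57 LD3_c21) (LK LD1_c4 LD2_c1 LD3_c5) Lrfl Lrfl
theorem f193340 : Led Lsl_gt (LP (LK LD1_c4 LD2_c1 LD3_c5)) = (LP (LK LD1_c2 LD2_c4 LD3_c47)) :=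
  Lgr Lrot150 (Lpe (f193339 IH) (Lpe (f28175 IH) (Lpe (K10.f28151 IH) (Lpe (f180106 IH) (Lpr_ct (f2880 IH) (Lpr_gt (K10.f193333 IH) (Lpr_ct (K10.f27481 IH) (Lpe (K10.f27459 IH) (Lpe (K10.f52675 IH) (Lpn (LP (LK LD1_c2 LD2_c4 LD3_c47))))))))))))
theorem f52917 : Led Lsl_bt (LP (LK LD1_c0 LD2_c59 LD3_c24)) = (LP (LK LD1_c2 LD2_c4 LD3_c31)) :=
  Lre_b IH (LK LD1_c0 LD2_c59 LD3_c24) (LK LD1_c2 LD2_c4 LD3_c31) Lrfl Lrfl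
theorem f217477 : Led Lsl_gf (LP (LK LD1_c2 LD2_c25 LD3_c35)) = (LP (LK LD1_c2 LD2_c4 LD3_c31)) :=
  Lgr Lrot124 (Lpe (f217451 IH) (Lpr_ct (f217450 IH) (Lpr_gt (f217446 IH) (Lpe (f30866 IH) (Lpr_bt (K9.f30862 IH) (Lpr_gt (f28175 IH) (Lpr_ct (f193339 IH) (Lpr_gt (f193340 IH) (Lpe (K10.f52654 IH) (Lpr_bt (f52917 IH) (Lpn (LP (LK LD1_c2 LD2_c4 LD3_c31)))))))))))))
theorem f217484 : Led Lsl_ft (LP (LK LD1_c2 LD2_c4 LD3_c31)) = (LP (LK LD1_c0 LD2_c59 LD3_c14)) :=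
  Lre_f IH (LK LD1_c2 LD2_c4 LD3_c31) (LK LD1_c0 LD2_c59 LD3_c14) Lrfl Lrfl
theorem f50873 : Led Lsl_at (LP (LK LD1_c0 LD2_c59 LD3_c14)) = (LP (LK LD1_c2 LD2_c4 LD3_c17)) :=
  Lre_a IH (LK LD1_c0 LD2_c59 LD3_c14) (LK LD1_c2 LD2_c4 LD3_c17) Lrfl Lrfl
theorem f217485 : Led Lsl_gt (LP (LK LD1_c2 LD2_c25 LD3_c35)) = (LP (LK LD1_c2 LD2_c4 LD3_c17)) :=
  Lgr Lrot46 (Lpr_gf (f217477 IH) (Lpr_ft (f217484 IH) (Lpr_at (f50873 IH) (Lpn (LP (LK LD1_c2 LD2_c4 LD3_c17))))))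
theorem f196818 : Led Lsl_bt (LP (LK LD1_c0 LD2_c35 LD3_c18)) = (LP (LK LD1_c1 LD2_c16 LD3_c12)) :=
  Lre_b IH (LK LD1_c0 LD2_c35 LD3_c18) (LK LD1_c1 LD2_c16 LD3_c12) Lrfl Lrfl
theorem f196824 : Led Lsl_ct (LP (LK LD1_c0 LD2_c35 LD3_c18)) = (LP (LK LD1_c1 LD2_c16 LD3_c13)) :=
  Lre_c IH (LK LD1_c0 LD2_c35 LD3_c18) (LK LD1_c1 LD2_c16 LD3_c13) Lrfl Lrfl
theorem f196825 : Led Lsl_gt (LP (LK LD1_c2 LD2_c38 LD3_c37)) = (LP (LK LD1_c1 LD2_c16 LD3_c13)) :=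
  Lre_g IH (LK LD1_c2 LD2_c38 LD3_c37) (LK LD1_c1 LD2_c16 LD3_c13) Lrfl Lrfl
theorem f217621 : Led Lsl_cf (LP (LK LD1_c2 LD2_c38 LD3_c37)) = (LP (LK LD1_c4 LD2_c13 LD3_c24)) :=
  Lgr Lrot160 (Lpr_gt (f196825 IH) (Lpe (f196824 IH) (Lpr_bt (f196818 IH) (Lpe (f196814 IH) (Lpr_ct (f217295 IH) (Lpe (f217444 IH) (Lpe (f217450 IH) (Lpr_bt (f217451 IH) (Lpr_gt (f217485 IH) (Lpe (K11.f43266 IH) (Lpn (LP (LK LD1_c4 LD2_c13 LD3_c24)))))))))))))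
theorem f217630 : Led Lsl_et (LP (LK LD1_c2 LD2_c38 LD3_c37)) = (LP (LK LD1_c5 LD2_c21 LD3_c47)) :=
  Lgr Lrot158 (Lpr_cf (f217621 IH) (Lpr_ef (K10.f43264 IH) (Lpr_cf (K11.f198874 IH) (Lpn (LP (LK LD1_c5 LD2_c21 LD3_c47))))))
theorem f198878 : Led Lsl_et (LP (LK LD1_c5 LD2_c21 LD3_c56)) = (LP (LK LD1_c2 LD2_c37 LD3_c30)) :=
  Lre_e IH (LK LD1_c5 LD2_c21 LD3_c56) (LK LD1_c2 LD2_c37 LD3_c30) Lrfl Lrfl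
theorem f198879 : Led Lsl_dt (LP (LK LD1_c5 LD2_c21 LD3_c56)) = (LP (LK LD1_c10 LD2_c34 LD3_c10)) :=
  Lre_d IH (LK LD1_c5 LD2_c21 LD3_c56) (LK LD1_c10 LD2_c34 LD3_c10) Lrfl Lrfl
theorem f198944 : Led Lsl_et (LP (LK LD1_c1 LD2_c58 LD3_c45)) = (LP (LK LD1_c4 LD2_c3 LD3_c32)) :=
  Lre_e IH (LK LD1_c1 LD2_c58 LD3_c45) (LK LD1_c4 LD2_c3 LD3_c32) Lrfl Lrfl
theorem f41512 : Led Lsl_et (LP (LK LD1_c2 LD2_c37 LD3_c31)) = (LP (LK LD1_c1 LD2_c15 LD3_c47)) :=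
  Lre_e IH (LK LD1_c2 LD2_c37 LD3_c31) (LK LD1_c1 LD2_c15 LD3_c47) Lrfl Lrfl
theorem f198945 : Led Lsl_bt (LP (LK LD1_c4 LD2_c3 LD3_c32)) = (LP (LK LD1_c2 LD2_c37 LD3_c31)) :=
  Lgr Lrot119 (Lpe (f198944 IH) (Lpr_bf (K11.f198935 IH) (Lpe (f41512 IH) (Lpn (LP (LK LD1_c2 LD2_c37 LD3_c31))))))
theorem f28874 : Led Lsl_dt (LP (LK LD1_c1 LD2_c58 LD3_c43)) = (LP (LK LD1_c4 LD2_c3 LD3_c32)) :=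
  Lre_d IH (LK LD1_c1 LD2_c58 LD3_c43) (LK LD1_c4 LD2_c3 LD3_c32) Lrfl Lrfl
theorem f198955 : Led Lsl_bt (LP (LK LD1_c4 LD2_c3 LD3_c21)) = (LP (LK LD1_c1 LD2_c58 LD3_c43)) :=
  Lre_b IH (LK LD1_c4 LD2_c3 LD3_c21) (LK LD1_c1 LD2_c58 LD3_c43) Lrfl Lrfl
theorem f198956 : Led Lsl_df (LP (LK LD1_c4 LD2_c3 LD3_c21)) = (LP (LK LD1_c2 LD2_c37 LD3_c31)) :=
  Lgr Lrot12 (Lpr_bt (f198955 IH) (Lpr_dt (f28874 IH) (Lpr_bt (f198945 IH) (Lpn (LP (LK LD1_c2 LD2_c37 LD3_c31))))))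
theorem f199035 : Led Lsl_et (LP (LK LD1_c0 LD2_c15 LD3_c50)) = (LP (LK LD1_c0 LD2_c35 LD3_c8)) :=
  Lre_e IH (LK LD1_c0 LD2_c15 LD3_c50) (LK LD1_c0 LD2_c35 LD3_c8) Lrfl Lrfl
theorem f167845 : Led Lsl_dt (LP (LK LD1_c0 LD2_c15 LD3_c50)) = (LP (LK LD1_c0 LD2_c7 LD3_c8)) :=
  Lre_d IH (LK LD1_c0 LD2_c15 LD3_c50) (LK LD1_c0 LD2_c7 LD3_c8) Lrfl Lrfl
theorem f196604 : Led Lsl_dt (LP (LK LD1_c0 LD2_c35 LD3_c12)) = (LP (LK LD1_c0 LD2_c15 LD3_c48)) :=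
  Lre_d IH (LK LD1_c0 LD2_c35 LD3_c12) (LK LD1_c0 LD2_c15 LD3_c48) Lrfl Lrfl
theorem f199036 : Led Lsl_et (LP (LK LD1_c0 LD2_c35 LD3_c12)) = (LP (LK LD1_c1 LD2_c15 LD3_c60)) :=
  Lre_e IH (LK LD1_c0 LD2_c35 LD3_c12) (LK LD1_c1 LD2_c15 LD3_c60) Lrfl Lrfl
theorem f42540 : Led Lsl_gt (LP (LK LD1_c1 LD2_c15 LD3_c60)) = (LP (LK LD1_c2 LD2_c38 LD3_c3)) :=
  Lre_g IH (LK LD1_c1 LD2_c15 LD3_c60) (LK LD1_c2 LD2_c38 LD3_c3) Lrfl Lrfl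
theorem f199037 : Led Lsl_dt (LP (LK LD1_c2 LD2_c38 LD3_c3)) = (LP (LK LD1_c5 LD2_c23 LD3_c12)) :=
  Lre_d IH (LK LD1_c2 LD2_c38 LD3_c3) (LK LD1_c5 LD2_c23 LD3_c12) Lrfl Lrfl
theorem f199038 : Led Lsl_gf (LP (LK LD1_c4 LD2_c3 LD3_c21)) = (LP (LK LD1_c5 LD2_c23 LD3_c12)) :=
  Lgr Lrot134 (Lpr_df (f198956 IH) (Lpr_et (f41512 IH) (Lpr_gt (K11.f47949 IH) (Lpe (f199035 IH) (Lpr_dt (f167845 IH) (Lpr_gt (K1.f42490 IH) (Lpe (f196604 IH) (Lpr_et (f199036 IH) (Lpr_gt (f42540 IH) (Lpr_dt (f199037 IH) (Lpn (LP (LK LD1_c5 LD2_c23 LD3_c12)))))))))))))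
theorem f198958 : Led Lsl_ft (LP (LK LD1_c8 LD2_c7 LD3_c43)) = (LP (LK LD1_c4 LD2_c3 LD3_c32)) :=
  Lre_f IH (LK LD1_c8 LD2_c7 LD3_c43) (LK LD1_c4 LD2_c3 LD3_c32) Lrfl Lrfl
theorem f198959 : Led Lsl_ft (LP (LK LD1_c2 LD2_c37 LD3_c31)) = (LP (LK LD1_c5 LD2_c21 LD3_c59)) :=
  Lre_f IH (LK LD1_c2 LD2_c37 LD3_c31) (LK LD1_c5 LD2_c21 LD3_c59) Lrfl Lrfl
theorem f198960 : Led Lsl_bf (LP (LK LD1_c8 LD2_c7 LD3_c43)) = (LP (LK LD1_c5 LD2_c21 LD3_c59)) :=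
  Lgr Lrot61 (Lpr_ft (f198958 IH) (Lpr_bt (f198945 IH) (Lpr_ft (f198959 IH) (Lpn (LP (LK LD1_c5 LD2_c21 LD3_c59))))))
theorem f198973 : Led Lsl_dt (LP (LK LD1_c8 LD2_c7 LD3_c43)) = (LP (LK LD1_c4 LD2_c3 LD3_c33)) :=
  Lre_d IH (LK LD1_c8 LD2_c7 LD3_c43) (LK LD1_c4 LD2_c3 LD3_c33) Lrfl Lrfl
theorem f198974 : Led Lsl_bt (LP (LK LD1_c4 LD2_c3 LD3_c33)) = (LP (LK LD1_c8 LD2_c7 LD3_c19)) :=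
  Lre_b IH (LK LD1_c4 LD2_c3 LD3_c33) (LK LD1_c8 LD2_c7 LD3_c19) Lrfl Lrfl
theorem f198975 : Led Lsl_dt (LP (LK LD1_c8 LD2_c7 LD3_c19)) = (LP (LK LD1_c5 LD2_c21 LD3_c59)) :=
  Lgr Lrot79 (Lpe (f198974 IH) (Lpe (f198973 IH) (Lpr_bf (f198960 IH) (Lpn (LP (LK LD1_c5 LD2_c21 LD3_c59))))))
theorem f198983 : Led Lsl_df (LP (LK LD1_c8 LD2_c7 LD3_c19)) = (LP (LK LD1_c5 LD2_c21 LD3_c59)) :=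
  Lgr Lrot38 (Lpr_dt (f198975 IH) (Lpn (LP (LK LD1_c5 LD2_c21 LD3_c59))))
theorem f198987 : Led Lsl_ft (LP (LK LD1_c8 LD2_c7 LD3_c19)) = (LP (LK LD1_c4 LD2_c3 LD3_c21)) :=
  Lre_f IH (LK LD1_c8 LD2_c7 LD3_c19) (LK LD1_c4 LD2_c3 LD3_c21) Lrfl Lrfl
theorem f198995 : Led Lsl_dt (LP (LK LD1_c4 LD2_c3 LD3_c21)) = (LP (LK LD1_c2 LD2_c37 LD3_c31)) :=
  Lgr Lrot60 (Lpe (f198987 IH) (Lpr_df (f198983 IH) (Lpe (f198959 IH) (Lpn (LP (LK LD1_c2 LD2_c37 LD3_c31))))))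
theorem f198951 : Led Lsl_ct (LP (LK LD1_c2 LD2_c37 LD3_c31)) = (LP (LK LD1_c5 LD2_c21 LD3_c56)) :=
  Lre_c IH (LK LD1_c2 LD2_c37 LD3_c31) (LK LD1_c5 LD2_c21 LD3_c56) Lrfl Lrfl
theorem f199011 : Led Lsl_dt (LP (LK LD1_c10 LD2_c34 LD3_c10)) = (LP (LK LD1_c5 LD2_c21 LD3_c56)) :=
  Lre_d IH (LK LD1_c10 LD2_c34 LD3_c10) (LK LD1_c5 LD2_c21 LD3_c56) Lrfl Lrfl
theorem f199042 : Led Lsl_ct (LP (LK LD1_c2 LD2_c38 LD3_c2)) = (LP (LK LD1_c1 LD2_c15 LD3_c60)) :=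
  Lre_c IH (LK LD1_c2 LD2_c38 LD3_c2) (LK LD1_c1 LD2_c15 LD3_c60) Lrfl Lrfl
theorem f199043 : Led Lsl_gt (LP (LK LD1_c2 LD2_c38 LD3_c2)) = (LP (LK LD1_c5 LD2_c23 LD3_c7)) :=
  Lre_g IH (LK LD1_c2 LD2_c38 LD3_c2) (LK LD1_c5 LD2_c23 LD3_c7) Lrfl Lrfl
theorem f199044 : Led Lsl_dt (LP (LK LD1_c5 LD2_c23 LD3_c7)) = (LP (LK LD1_c10 LD2_c36 LD3_c47)) :=
  Lre_d IH (LK LD1_c5 LD2_c23 LD3_c7) (LK LD1_c10 LD2_c36 LD3_c47) Lrfl Lrfl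
theorem f199045 : Led Lsl_gf (LP (LK LD1_c10 LD2_c34 LD3_c10)) = (LP (LK LD1_c10 LD2_c36 LD3_c47)) :=
  Lgr Lrot143 (Lpr_dt (f199011 IH) (Lpe (f198951 IH) (Lpe (f198995 IH) (Lpr_gf (f199038 IH) (Lpe (f199037 IH) (Lpe (f42540 IH) (Lpe (f199042 IH) (Lpr_gt (f199043 IH) (Lpr_dt (f199044 IH) (Lpn (LP (LK LD1_c10 LD2_c36 LD3_c47))))))))))))
theorem f199069 : Led Lsl_et (LP (LK LD1_c1 LD2_c15 LD3_c59)) = (LP (LK LD1_c2 LD2_c38 LD3_c2)) :=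
  Lre_e IH (LK LD1_c1 LD2_c15 LD3_c59) (LK LD1_c2 LD2_c38 LD3_c2) Lrfl Lrfl
theorem f196711 : Led Lsl_dt (LP (LK LD1_c1 LD2_c15 LD3_c59)) = (LP (LK LD1_c2 LD2_c38 LD3_c1)) :=
  Lre_d IH (LK LD1_c1 LD2_c15 LD3_c59) (LK LD1_c2 LD2_c38 LD3_c1) Lrfl Lrfl
theorem f199070 : Led Lsl_gt (LP (LK LD1_c5 LD2_c23 LD3_c5)) = (LP (LK LD1_c2 LD2_c38 LD3_c1)) :=
  Lre_g IH (LK LD1_c5 LD2_c23 LD3_c5) (LK LD1_c2 LD2_c38 LD3_c1) Lrfl Lrfl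
theorem f217643 : Led Lsl_dt (LP (LK LD1_c2 LD2_c38 LD3_c37)) = (LP (LK LD1_c5 LD2_c23 LD3_c5)) :=
  Lgr Lrot136 (Lpr_et (f217630 IH) (Lpe (K11.f198866 IH) (Lpe (f198878 IH) (Lpr_dt (f198879 IH) (Lpr_gf (f199045 IH) (Lpe (f199044 IH) (Lpe (f199043 IH) (Lpe (f199069 IH) (Lpr_dt (f196711 IH) (Lpe (f199070 IH) (Lpn (LP (LK LD1_c5 LD2_c23 LD3_c5)))))))))))))
theorem f196729 : Led Lsl_dt (LP (LK LD1_c2 LD2_c38 LD3_c1)) = (LP (LK LD1_c1 LD2_c15 LD3_c59)) :=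
  Lre_d IH (LK LD1_c2 LD2_c38 LD3_c1) (LK LD1_c1 LD2_c15 LD3_c59) Lrfl Lrfl
theorem f196710 : Led Lsl_ct (LP (LK LD1_c0 LD2_c35 LD3_c12)) = (LP (LK LD1_c1 LD2_c15 LD3_c59)) :=
  Lre_c IH (LK LD1_c0 LD2_c35 LD3_c12) (LK LD1_c1 LD2_c15 LD3_c59) Lrfl Lrfl
theorem f42493 : Led Lsl_dt (LP (LK LD1_c0 LD2_c15 LD3_c48)) = (LP (LK LD1_c0 LD2_c35 LD3_c12)) :=
  Lre_d IH (LK LD1_c0 LD2_c15 LD3_c48) (LK LD1_c0 LD2_c35 LD3_c12) Lrfl Lrfl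
theorem f194442 : Led Lsl_ct (LP (LK LD1_c1 LD2_c16 LD3_c17)) = (LP (LK LD1_c0 LD2_c35 LD3_c19)) :=
  Lre_c IH (LK LD1_c1 LD2_c16 LD3_c17) (LK LD1_c0 LD2_c35 LD3_c19) Lrfl Lrfl
theorem f217657 : Led Lsl_gf (LP (LK LD1_c2 LD2_c38 LD3_c37)) = (LP (LK LD1_c1 LD2_c16 LD3_c17)) :=
  Lgr Lrot144 (Lpr_dt (f217643 IH) (Lpr_gt (f199070 IH) (Lpr_dt (f196729 IH) (Lpe (f196710 IH) (Lpe (f42493 IH) (Lpe (K1.f42490 IH) (Lpe (f167845 IH) (Lpe (K1.f42557 IH) (Lpe (f194442 IH) (Lpn (LP (LK LD1_c1 LD2_c16 LD3_c17))))))))))))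
theorem f27399 : Led Lsl_gt (LP (LK LD1_c2 LD2_c4 LD3_c17)) = (LP (LK LD1_c4 LD2_c13 LD3_c51)) :=
  Lre_g IH (LK LD1_c2 LD2_c4 LD3_c17) (LK LD1_c4 LD2_c13 LD3_c51) Lrfl Lrfl
theorem f194444 : Led Lsl_ct (LP (LK LD1_c0 LD2_c35 LD3_c19)) = (LP (LK LD1_c1 LD2_c16 LD3_c17)) :=
  Lre_c IH (LK LD1_c0 LD2_c35 LD3_c19) (LK LD1_c1 LD2_c16 LD3_c17) Lrfl Lrfl
theorem f41697 : Led Lsl_gt (LP (LK LD1_c2 LD2_c11 LD3_c18)) = (LP (LK LD1_c4 LD2_c27 LD3_c40)) :=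
  Lre_g IH (LK LD1_c2 LD2_c11 LD3_c18) (LK LD1_c4 LD2_c27 LD3_c40) Lrfl Lrfl
theorem f213008 : Led Lsl_ct (LP (LK LD1_c4 LD2_c28 LD3_c23)) = (LP (LK LD1_c2 LD2_c11 LD3_c18)) :=
  Lre_c IH (LK LD1_c4 LD2_c28 LD3_c23) (LK LD1_c2 LD2_c11 LD3_c18) Lrfl Lrfl
theorem f217932 : Led Lsl_bf (LP (LK LD1_c4 LD2_c13 LD3_c51)) = (LP (LK LD1_c4 LD2_c28 LD3_c23)) :=
  Lgr Lrot34 (Lpe (f27399 IH) (Lpe (K11.f43266 IH) (Lpe (f217621 IH) (Lpr_gf (f217657 IH) (Lpe (f194444 IH) (Lpe (K1.f41430 IH) (Lpe (K9.f173122 IH) (Lpr_ct (K9.f173123 IH) (Lpe (f41697 IH) (Lpe (f213008 IH) (Lpn (LP (LK LD1_c4 LD2_c28 LD3_c23)))))))))))))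
theorem f27450 : Led Lsl_gt (LP (LK LD1_c4 LD2_c13 LD3_c51)) = (LP (LK LD1_c2 LD2_c4 LD3_c31)) :=
  Lre_g IH (LK LD1_c4 LD2_c13 LD3_c51) (LK LD1_c2 LD2_c4 LD3_c31) Lrfl Lrfl
theorem f187221 : Led Lsl_ct (LP (LK LD1_c2 LD2_c4 LD3_c31)) = (LP (LK LD1_c4 LD2_c14 LD3_c17)) :=
  Lre_c IH (LK LD1_c2 LD2_c4 LD3_c31) (LK LD1_c4 LD2_c14 LD3_c17) Lrfl Lrfl
theorem f217944 : Led Lsl_gt (LP (LK LD1_c1 LD2_c2 LD3_c40)) = (LP (LK LD1_c2 LD2_c11 LD3_c18)) :=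
  Lre_g IH (LK LD1_c1 LD2_c2 LD3_c40) (LK LD1_c2 LD2_c11 LD3_c18) Lrfl Lrfl
theorem f167923 : Led Lsl_bt (LP (LK LD1_c1 LD2_c2 LD3_c57)) = (LP (LK LD1_c0 LD2_c28 LD3_c42)) :=
  Lre_b IH (LK LD1_c1 LD2_c2 LD3_c57) (LK LD1_c0 LD2_c28 LD3_c42) Lrfl Lrfl
theorem f167924 : Led Lsl_ct (LP (LK LD1_c1 LD2_c2 LD3_c57)) = (LP (LK LD1_c2 LD2_c11 LD3_c58)) :=
  Lre_c IH (LK LD1_c1 LD2_c2 LD3_c57) (LK LD1_c2 LD2_c11 LD3_c58) Lrfl Lrfl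
theorem f217945 : Led Lsl_gt (LP (LK LD1_c4 LD2_c14 LD3_c17)) = (LP (LK LD1_c2 LD2_c11 LD3_c58)) :=
  Lgr Lrot149 (Lpe (f187221 IH) (Lpe (f27450 IH) (Lpr_bf (f217932 IH) (Lpr_ct (f213008 IH) (Lpe (f217944 IH) (Lpe (K9.f173160 IH) (Lpr_bt (K9.f8555 IH) (Lpe (K9.f20642 IH) (Lpe (f167923 IH) (Lpr_ct (f167924 IH) (Lpn (LP (LK LD1_c2 LD2_c11 LD3_c58)))))))))))))
theorem f183788 : Led Lsl_ft (LP (LK LD1_c4 LD2_c14 LD3_c17)) = (LP (LK LD1_c2 LD2_c4 LD3_c30)) :=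
  Lre_f IH (LK LD1_c4 LD2_c14 LD3_c17) (LK LD1_c2 LD2_c4 LD3_c30) Lrfl Lrfl
theorem f183738 : Led Lsl_at (LP (LK LD1_c2 LD2_c4 LD3_c30)) = (LP (LK LD1_c4 LD2_c13 LD3_c52)) :=
  Lre_a IH (LK LD1_c2 LD2_c4 LD3_c30) (LK LD1_c4 LD2_c13 LD3_c52) Lrfl Lrfl
theorem f217947 : Led Lsl_gf (LP (LK LD1_c4 LD2_c13 LD3_c52)) = (LP (LK LD1_c2 LD2_c11 LD3_c58)) :=
  Lgr Lrot76 (Lpe (f183738 IH) (Lpe (f183788 IH) (Lpr_gt (f217945 IH) (Lpn (LP (LK LD1_c2 LD2_c11 LD3_c58))))))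
theorem f183742 : Led Lsl_ct (LP (LK LD1_c2 LD2_c4 LD3_c17)) = (LP (LK LD1_c4 LD2_c13 LD3_c52)) :=
  Lre_c IH (LK LD1_c2 LD2_c4 LD3_c17) (LK LD1_c4 LD2_c13 LD3_c52) Lrfl Lrfl
theorem f43272 : Led Lsl_bt (LP (LK LD1_c2 LD2_c4 LD3_c17)) = (LP (LK LD1_c4 LD2_c13 LD3_c24)) :=
  Lre_b IH (LK LD1_c2 LD2_c4 LD3_c17) (LK LD1_c4 LD2_c13 LD3_c24) Lrfl Lrfl
theorem f42259 : Led Lsl_ct (LP (LK LD1_c1 LD2_c16 LD3_c24)) = (LP (LK LD1_c0 LD2_c35 LD3_c21)) :=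
  Lre_c IH (LK LD1_c1 LD2_c16 LD3_c24) (LK LD1_c0 LD2_c35 LD3_c21) Lrfl Lrfl
theorem f167806 : Led Lsl_gt (LP (LK LD1_c2 LD2_c37 LD3_c5)) = (LP (LK LD1_c1 LD2_c16 LD3_c24)) :=
  Lre_g IH (LK LD1_c2 LD2_c37 LD3_c5) (LK LD1_c1 LD2_c16 LD3_c24) Lrfl Lrfl
theorem f41222 : Led Lsl_ft (LP (LK LD1_c3 LD2_c58 LD3_c11)) = (LP (LK LD1_c1 LD2_c55 LD3_c52)) :=
  Lre_f IH (LK LD1_c3 LD2_c58 LD3_c11) (LK LD1_c1 LD2_c55 LD3_c52) Lrfl Lrfl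
theorem f41224 : Led Lsl_bf (LP (LK LD1_c3 LD2_c58 LD3_c11)) = (LP (LK LD1_c2 LD2_c25 LD3_c14)) :=
  Lgr Lrot61 (Lpr_ft (f41222 IH) (Lpr_bt (K1.f41201 IH) (Lpr_ft (K1.f41223 IH) (Lpn (LP (LK LD1_c2 LD2_c25 LD3_c14))))))
theorem f41248 : Led Lsl_gt (LP (LK LD1_c1 LD2_c55 LD3_c61)) = (LP (LK LD1_c3 LD2_c58 LD3_c11)) :=
  Lre_g IH (LK LD1_c1 LD2_c55 LD3_c61) (LK LD1_c3 LD2_c58 LD3_c11) Lrfl Lrfl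
theorem f41249 : Led Lsl_bt (LP (LK LD1_c3 LD2_c58 LD3_c24)) = (LP (LK LD1_c1 LD2_c55 LD3_c61)) :=
  Lre_b IH (LK LD1_c3 LD2_c58 LD3_c24) (LK LD1_c1 LD2_c55 LD3_c61) Lrfl Lrfl
theorem f42176 : Led Lsl_ct (LP (LK LD1_c0 LD2_c35 LD3_c0)) = (LP (LK LD1_c1 LD2_c15 LD3_c33)) :=
  Lre_c IH (LK LD1_c0 LD2_c35 LD3_c0) (LK LD1_c1 LD2_c15 LD3_c33) Lrfl Lrfl
theorem f42177 : Led Lsl_gt (LP (LK LD1_c1 LD2_c15 LD3_c33)) = (LP (LK LD1_c2 LD2_c37 LD3_c5)) :=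
  Lre_g IH (LK LD1_c1 LD2_c15 LD3_c33) (LK LD1_c2 LD2_c37 LD3_c5) Lrfl Lrfl
theorem f167943 : Led Lsl_ct (LP (LK LD1_c3 LD2_c58 LD3_c24)) = (LP (LK LD1_c2 LD2_c37 LD3_c5)) :=
  Lgr Lrot63 (Lpr_bt (f41249 IH) (Lpr_gt (f41248 IH) (Lpr_bf (f41224 IH) (Lpr_ct (K9.f41136 IH) (Lpr_gt (K9.f41157 IH) (Lpr_cf (K9.f167926 IH) (Lpr_bt (K9.f41272 IH) (Lpr_gt (K9.f41271 IH) (Lpr_ct (f42176 IH) (Lpr_gt (f42177 IH) (Lpn (LP (LK LD1_c2 LD2_c37 LD3_c5)))))))))))))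
theorem f187244 : Led Lsl_gf (LP (LK LD1_c3 LD2_c58 LD3_c24)) = (LP (LK LD1_c4 LD2_c13 LD3_c24)) :=
  Lgr Lrot147 (Lpr_ct (f167943 IH) (Lpr_gt (f167806 IH) (Lpr_ct (f42259 IH) (Lpe (K10.f42158 IH) (Lpe (K9.f167804 IH) (Lpe (K9.f40805 IH) (Lpe (K9.f167792 IH) (Lpr_gf (K10.f187242 IH) (Lpe (K10.f43267 IH) (Lpn (LP (LK LD1_c4 LD2_c13 LD3_c24))))))))))))
theorem f167945 : Led Lsl_bt (LP (LK LD1_c1 LD2_c55 LD3_c61)) = (LP (LK LD1_c3 LD2_c58 LD3_c24)) :=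
  Lre_b IH (LK LD1_c1 LD2_c55 LD3_c61) (LK LD1_c3 LD2_c58 LD3_c24) Lrfl Lrfl
theorem f168005 : Led Lsl_ct (LP (LK LD1_c1 LD2_c55 LD3_c61)) = (LP (LK LD1_c3 LD2_c58 LD3_c25)) :=
  Lre_c IH (LK LD1_c1 LD2_c55 LD3_c61) (LK LD1_c3 LD2_c58 LD3_c25) Lrfl Lrfl
theorem f168019 : Led Lsl_gt (LP (LK LD1_c3 LD2_c58 LD3_c25)) = (LP (LK LD1_c7 LD2_c58 LD3_c11)) :=
  Lre_g IH (LK LD1_c3 LD2_c58 LD3_c25) (LK LD1_c7 LD2_c58 LD3_c11) Lrfl Lrfl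
theorem f187238 : Led Lsl_dt (LP (LK LD1_c1 LD2_c2 LD3_c49)) = (LP (LK LD1_c2 LD2_c11 LD3_c39)) :=
  Lre_d IH (LK LD1_c1 LD2_c2 LD3_c49) (LK LD1_c2 LD2_c11 LD3_c39) Lrfl Lrfl
theorem f217961 : Led Lsl_gt (LP (LK LD1_c2 LD2_c11 LD3_c39)) = (LP (LK LD1_c1 LD2_c2 LD3_c57)) :=
  Lgr Lrot9 (Lpe (f187238 IH) (Lpr_gt (K10.f167754 IH) (Lpr_ct (K10.f187226 IH) (Lpr_gt (K10.f785 IH) (Lpr_ct (K9.f48248 IH) (Lpe (K11.f45084 IH) (Lpe (K11.f50874 IH) (Lpr_gf (f217947 IH) (Lpe (f167924 IH) (Lpn (LP (LK LD1_c1 LD2_c2 LD3_c57))))))))))))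
theorem f187241 : Led Lsl_dt (LP (LK LD1_c2 LD2_c11 LD3_c39)) = (LP (LK LD1_c1 LD2_c2 LD3_c49)) :=
  Lre_d IH (LK LD1_c2 LD2_c11 LD3_c39) (LK LD1_c1 LD2_c2 LD3_c49) Lrfl Lrfl
theorem f201082 : Led Lsl_dt (LP (LK LD1_c1 LD2_c58 LD3_c47)) = (LP (LK LD1_c4 LD2_c3 LD3_c35)) :=
  Lre_d IH (LK LD1_c1 LD2_c58 LD3_c47) (LK LD1_c4 LD2_c3 LD3_c35) Lrfl Lrfl
theorem f201083 : Led Lsl_bf (LP (LK LD1_c2 LD2_c11 LD3_c39)) = (LP (LK LD1_c4 LD2_c3 LD3_c35)) :=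
  Lgr Lrot93 (Lpr_dt (f187241 IH) (Lpr_bt (K11.f201076 IH) (Lpr_dt (f201082 IH) (Lpn (LP (LK LD1_c4 LD2_c3 LD3_c35))))))
theorem f217965 : Led Lsl_cf (LP (LK LD1_c7 LD2_c58 LD3_c11)) = (LP (LK LD1_c4 LD2_c3 LD3_c35)) :=
  Lgr Lrot58 (Lpe (f168019 IH) (Lpe (f168005 IH) (Lpr_bt (f167945 IH) (Lpr_gf (f187244 IH) (Lpe (f43272 IH) (Lpr_ct (f183742 IH) (Lpr_gf (f217947 IH) (Lpe (f167924 IH) (Lpe (f217961 IH) (Lpr_bf (f201083 IH) (Lpn (LP (LK LD1_c4 LD2_c3 LD3_c35)))))))))))))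
theorem f217973 : Led Lsl_ct (LP (LK LD1_c7 LD2_c58 LD3_c11)) = (LP (LK LD1_c4 LD2_c3 LD3_c35)) :=
  Lgr Lrot59 (Lpr_cf (f217965 IH) (Lpn (LP (LK LD1_c4 LD2_c3 LD3_c35))))
theorem f54972 : Led Lsl_gt (LP (LK LD1_c0 LD2_c54 LD3_c43)) = (LP (LK LD1_c1 LD2_c55 LD3_c61)) :=
  Lre_g IH (LK LD1_c0 LD2_c54 LD3_c43) (LK LD1_c1 LD2_c55 LD3_c61) Lrfl Lrfl
theorem f53435 : Led Lsl_bt (LP (LK LD1_c0 LD2_c59 LD3_c42)) = (LP (LK LD1_c0 LD2_c27 LD3_c10)) :=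
  Lre_b IH (LK LD1_c0 LD2_c59 LD3_c42) (LK LD1_c0 LD2_c27 LD3_c10) Lrfl Lrfl
theorem f53436 : Led Lsl_ct (LP (LK LD1_c0 LD2_c59 LD3_c42)) = (LP (LK LD1_c2 LD2_c5 LD3_c17)) :=
  Lre_c IH (LK LD1_c0 LD2_c59 LD3_c42) (LK LD1_c2 LD2_c5 LD3_c17) Lrfl Lrfl
theorem f188695 : Led Lsl_gt (LP (LK LD1_c2 LD2_c6 LD3_c35)) = (LP (LK LD1_c2 LD2_c5 LD3_c17)) :=
  Lre_g IH (LK LD1_c2 LD2_c6 LD3_c35) (LK LD1_c2 LD2_c5 LD3_c17) Lrfl Lrfl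
theorem f188697 : Led Lsl_bt (LP (LK LD1_c1 LD2_c0 LD3_c16)) = (LP (LK LD1_c2 LD2_c6 LD3_c34)) :=
  Lre_b IH (LK LD1_c1 LD2_c0 LD3_c16) (LK LD1_c2 LD2_c6 LD3_c34) Lrfl Lrfl
theorem f188698 : Led Lsl_gt (LP (LK LD1_c1 LD2_c55 LD3_c55)) = (LP (LK LD1_c2 LD2_c6 LD3_c34)) :=
  Lgr Lrot164 (Lpr_bf (f188572 IH) (Lpr_ct (f51450 IH) (Lpe (K10.f54512 IH) (Lpe (K10.f167315 IH) (Lpe (f755 IH) (Lpe (f53435 IH) (Lpr_ct (f53436 IH) (Lpe (f188695 IH) (Lpe (f188696 IH) (Lpr_bt (f188697 IH) (Lpn (LP (LK LD1_c2 LD2_c6 LD3_c34)))))))))))))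
theorem f218077 : Led Lsl_ct (LP (LK LD1_c2 LD2_c6 LD3_c34)) = (LP (LK LD1_c1 LD2_c58 LD3_c47)) :=
  Lgr Lrot110 (Lpe (f188698 IH) (Lpe (f42754 IH) (Lpe (K9.f42729 IH) (Lpe (K9.f42717 IH) (Lpr_gt (f54972 IH) (Lpr_ct (f168005 IH) (Lpr_gt (f168019 IH) (Lpr_ct (f217973 IH) (Lpe (f201082 IH) (Lpn (LP (LK LD1_c1 LD2_c58 LD3_c47))))))))))))
theorem f48039 : Led Lsl_at (LP (LK LD1_c1 LD2_c15 LD3_c37)) = (LP (LK LD1_c1 LD2_c14 LD3_c8)) :=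
  Lgr Lrot100 (Lpr_af (K8.f48037 IH) (Lpn (LP (LK LD1_c1 LD2_c14 LD3_c8))))
theorem f196416 : Led Lsl_bt (LP (LK LD1_c1 LD2_c58 LD3_c59)) = (LP (LK LD1_c0 LD2_c56 LD3_c17)) :=
  Lre_b IH (LK LD1_c1 LD2_c58 LD3_c59) (LK LD1_c0 LD2_c56 LD3_c17) Lrfl Lrfl
theorem f196417 : Led Lsl_ct (LP (LK LD1_c1 LD2_c58 LD3_c59)) = (LP (LK LD1_c4 LD2_c4 LD3_c0)) :=
  Lre_c IH (LK LD1_c1 LD2_c58 LD3_c59) (LK LD1_c4 LD2_c4 LD3_c0) Lrfl Lrfl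
theorem f41078 : Led Lsl_bt (LP (LK LD1_c1 LD2_c56 LD3_c2)) = (LP (LK LD1_c0 LD2_c54 LD3_c48)) :=
  Lre_b IH (LK LD1_c1 LD2_c56 LD3_c2) (LK LD1_c0 LD2_c54 LD3_c48) Lrfl Lrfl
theorem f196418 : Led Lsl_gf (LP (LK LD1_c4 LD2_c4 LD3_c0)) = (LP (LK LD1_c3 LD2_c58 LD3_c34)) :=
  Lgr Lrot126 (Lpe (f196417 IH) (Lpr_bt (f196416 IH) (Lpr_gt (K11.f53056 IH) (Lpr_ct (K10.f52294 IH) (Lpr_gt (K10.f52295 IH) (Lpr_cf (K10.f196399 IH) (Lpr_bt (K10.f41099 IH) (Lpe (K9.f41096 IH) (Lpe (f41078 IH) (Lpr_ct (K9.f41081 IH) (Lpn (LP (LK LD1_c3 LD2_c58 LD3_c34)))))))))))))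
theorem f41904 : Led Lsl_ft (LP (LK LD1_c3 LD2_c58 LD3_c34)) = (LP (LK LD1_c1 LD2_c56 LD3_c1)) :=
  Lre_f IH (LK LD1_c3 LD2_c58 LD3_c34) (LK LD1_c1 LD2_c56 LD3_c1) Lrfl Lrfl
theorem f41905 : Led Lsl_at (LP (LK LD1_c1 LD2_c56 LD3_c1)) = (LP (LK LD1_c3 LD2_c58 LD3_c10)) :=
  Lre_a IH (LK LD1_c1 LD2_c56 LD3_c1) (LK LD1_c3 LD2_c58 LD3_c10) Lrfl Lrfl
theorem f196420 : Led Lsl_gt (LP (LK LD1_c4 LD2_c4 LD3_c0)) = (LP (LK LD1_c3 LD2_c58 LD3_c10)) :=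
  Lgr Lrot46 (Lpr_gf (f196418 IH) (Lpr_ft (f41904 IH) (Lpr_at (f41905 IH) (Lpn (LP (LK LD1_c3 LD2_c58 LD3_c10))))))
theorem f201112 : Led Lsl_dt (LP (LK LD1_c4 LD2_c3 LD3_c35)) = (LP (LK LD1_c1 LD2_c58 LD3_c47)) :=
  Lre_d IH (LK LD1_c4 LD2_c3 LD3_c35) (LK LD1_c1 LD2_c58 LD3_c47) Lrfl Lrfl
theorem f201113 : Led Lsl_gf (LP (LK LD1_c1 LD2_c58 LD3_c59)) = (LP (LK LD1_c4 LD2_c3 LD3_c35)) :=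
  Lgr Lrot147 (Lpr_ct (f196417 IH) (Lpr_gt (f196420 IH) (Lpr_ct (K1.f41198 IH) (Lpe (K1.f41218 IH) (Lpe (K1.f41887 IH) (Lpr_gf (K11.f199580 IH) (Lpr_cf (K11.f201093 IH) (Lpe (K11.f201075 IH) (Lpe (f201112 IH) (Lpn (LP (LK LD1_c4 LD2_c3 LD3_c35))))))))))))
theorem f188617 : Led Lsl_bt (LP (LK LD1_c0 LD2_c27 LD3_c1)) = (LP (LK LD1_c0 LD2_c59 LD3_c14)) :=
  Lre_b IH (LK LD1_c0 LD2_c27 LD3_c1) (LK LD1_c0 LD2_c59 LD3_c14) Lrfl Lrfl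
theorem f49893 : Led Lsl_gt (LP (LK LD1_c0 LD2_c59 LD3_c14)) = (LP (LK LD1_c2 LD2_c4 LD3_c28)) :=
  Lre_g IH (LK LD1_c0 LD2_c59 LD3_c14) (LK LD1_c2 LD2_c4 LD3_c28) Lrfl Lrfl
theorem f188598 : Led Lsl_ct (LP (LK LD1_c2 LD2_c4 LD3_c28)) = (LP (LK LD1_c4 LD2_c14 LD3_c9)) :=
  Lre_c IH (LK LD1_c2 LD2_c4 LD3_c28) (LK LD1_c4 LD2_c14 LD3_c9) Lrfl Lrfl
theorem f188596 : Led Lsl_ct (LP (LK LD1_c4 LD2_c29 LD3_c2)) = (LP (LK LD1_c2 LD2_c11 LD3_c39)) :=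
  Lre_c IH (LK LD1_c4 LD2_c29 LD3_c2) (LK LD1_c2 LD2_c11 LD3_c39) Lrfl Lrfl
theorem f188597 : Led Lsl_dt (LP (LK LD1_c0 LD2_c59 LD3_c14)) = (LP (LK LD1_c0 LD2_c26 LD3_c60)) :=
  Lre_d IH (LK LD1_c0 LD2_c59 LD3_c14) (LK LD1_c0 LD2_c26 LD3_c60) Lrfl Lrfl
theorem f188599 : Led Lsl_gf (LP (LK LD1_c4 LD2_c29 LD3_c2)) = (LP (LK LD1_c4 LD2_c14 LD3_c9)) :=
  Lgr Lrot104 (Lpr_ct (f188596 IH) (Lpe (f187238 IH) (Lpe (K10.f187239 IH) (Lpr_gf (K10.f188592 IH) (Lpe (K11.f188571 IH) (Lpe (K10.f54512 IH) (Lpe (f188597 IH) (Lpr_gt (f49893 IH) (Lpr_ct (f188598 IH) (Lpn (LP (LK LD1_c4 LD2_c14 LD3_c9))))))))))))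
theorem f188615 : Led Lsl_ct (LP (LK LD1_c2 LD2_c11 LD3_c39)) = (LP (LK LD1_c4 LD2_c29 LD3_c2)) :=
  Lre_c IH (LK LD1_c2 LD2_c11 LD3_c39) (LK LD1_c4 LD2_c29 LD3_c2) Lrfl Lrfl
theorem f201118 : Led Lsl_bt (LP (LK LD1_c2 LD2_c11 LD3_c39)) = (LP (LK LD1_c4 LD2_c3 LD3_c35)) :=
  Lgr Lrot22 (Lpr_ct (f188615 IH) (Lpr_gf (f188599 IH) (Lpe (f188598 IH) (Lpe (f49893 IH) (Lpe (f188617 IH) (Lpr_ct (K11.f52667 IH) (Lpr_gf (K11.f200818 IH) (Lpe (K11.f53022 IH) (Lpr_bt (K11.f200826 IH) (Lpr_gf (f201113 IH) (Lpn (LP (LK LD1_c4 LD2_c3 LD3_c35)))))))))))))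
theorem f188917 : Led Lsl_ff (LP (LK LD1_c2 LD2_c11 LD3_c39)) = (LP (LK LD1_c1 LD2_c14 LD3_c10)) :=
  Lgr Lrot19 (Lpr_dt (f187241 IH) (Lpr_ft (K10.f188915 IH) (Lpr_dt (K10.f32329 IH) (Lpn (LP (LK LD1_c1 LD2_c14 LD3_c10))))))
theorem f33454 : Led Lsl_bt (LP (LK LD1_c2 LD2_c34 LD3_c18)) = (LP (LK LD1_c1 LD2_c14 LD3_c10)) :=
  Lre_b IH (LK LD1_c2 LD2_c34 LD3_c18) (LK LD1_c1 LD2_c14 LD3_c10) Lrfl Lrfl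
theorem f201125 : Led Lsl_ff (LP (LK LD1_c2 LD2_c34 LD3_c18)) = (LP (LK LD1_c4 LD2_c3 LD3_c35)) :=
  Lgr Lrot25 (Lpr_bt (f33454 IH) (Lpe (f188917 IH) (Lpr_bt (f201118 IH) (Lpn (LP (LK LD1_c4 LD2_c3 LD3_c35))))))
theorem f201210 : Led Lsl_ft (LP (LK LD1_c1 LD2_c14 LD3_c8)) = (LP (LK LD1_c1 LD2_c58 LD3_c47)) :=
  Lgr Lrot54 (Lpe (K10.f48044 IH) (Lpr_ff (f201125 IH) (Lpe (f201082 IH) (Lpn (LP (LK LD1_c1 LD2_c58 LD3_c47))))))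
theorem f212792 : Led Lsl_at (LP (LK LD1_c1 LD2_c58 LD3_c47)) = (LP (LK LD1_c2 LD2_c2 LD3_c15)) :=
  Lgr Lrot66 (Lpe (f201210 IH) (Lpe (f48039 IH) (Lpr_ff (f212790 IH) (Lpn (LP (LK LD1_c2 LD2_c2 LD3_c15))))))
theorem f218080 : Led Lsl_af (LP (LK LD1_c2 LD2_c6 LD3_c34)) = (LP (LK LD1_c2 LD2_c41 LD3_c1)) :=
  Lgr Lrot68 (Lpr_ct (f218077 IH) (Lpr_at (f212792 IH) (Lpe (f212786 IH) (Lpn (LP (LK LD1_c2 LD2_c41 LD3_c1))))))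
theorem f188700 : Led Lsl_dt (LP (LK LD1_c2 LD2_c6 LD3_c34)) = (LP (LK LD1_c4 LD2_c18 LD3_c35)) :=
  Lre_d IH (LK LD1_c2 LD2_c6 LD3_c34) (LK LD1_c4 LD2_c18 LD3_c35) Lrfl Lrfl
theorem f218087 : Led Lsl_at (LP (LK LD1_c4 LD2_c18 LD3_c35)) = (LP (LK LD1_c5 LD2_c29 LD3_c30)) :=
  Lgr Lrot51 (Lpe (f188700 IH) (Lpr_af (f218080 IH) (Lpe (f212828 IH) (Lpn (LP (LK LD1_c5 LD2_c29 LD3_c30))))))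
theorem f218089 : Led Lsl_af (LP (LK LD1_c4 LD2_c18 LD3_c35)) = (LP (LK LD1_c5 LD2_c29 LD3_c30)) :=
  Lgr Lrot0 (Lpr_at (f218087 IH) (Lpn (LP (LK LD1_c5 LD2_c29 LD3_c30))))
theorem f221841 : Led Lsl_af (LP (LK LD1_c4 LD2_c11 LD3_c3)) = (LP (LK LD1_c4 LD2_c18 LD3_c1)) :=
  Lgr Lrot68 (Lpr_ct (f219789 IH) (Lpe (f218089 IH) (Lpr_ct (f221838 IH) (Lpn (LP (LK LD1_c4 LD2_c18 LD3_c1))))))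
theorem f51529 : Led Lsl_gt (LP (LK LD1_c4 LD2_c11 LD3_c4)) = (LP (LK LD1_c2 LD2_c2 LD3_c49)) :=
  Lre_g IH (LK LD1_c4 LD2_c11 LD3_c4) (LK LD1_c2 LD2_c2 LD3_c49) Lrfl Lrfl
theorem f221904 : Led Lsl_ft (LP (LK LD1_c4 LD2_c11 LD3_c4)) = (LP (LK LD1_c4 LD2_c18 LD3_c1)) :=
  Lgr Lrot2 (Lpr_gt (f51529 IH) (Lpr_gt (f170587 IH) (Lpr_af (f221841 IH) (Lpn (LP (LK LD1_c4 LD2_c18 LD3_c1))))))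
theorem f221846 : Led Lsl_cf (LP (LK LD1_c4 LD2_c18 LD3_c35)) = (LP (LK LD1_c4 LD2_c18 LD3_c1)) :=
  Lgr Lrot11 (Lpr_ct (f221838 IH) (Lpn (LP (LK LD1_c4 LD2_c18 LD3_c1))))
theorem f188887 : Led Lsl_ft (LP (LK LD1_c4 LD2_c18 LD3_c35)) = (LP (LK LD1_c4 LD2_c6 LD3_c8)) :=
  Lgr Lrot48 (Lpr_ff (f188855 IH) (Lpn (LP (LK LD1_c4 LD2_c6 LD3_c8))))
theorem f221910 : Led Lsl_cf (LP (LK LD1_c4 LD2_c11 LD3_c4)) = (LP (LK LD1_c4 LD2_c6 LD3_c8)) :=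
  Lgr Lrot108 (Lpr_ft (f221904 IH) (Lpe (f221846 IH) (Lpr_ft (f188887 IH) (Lpn (LP (LK LD1_c4 LD2_c6 LD3_c8))))))
theorem f51523 : Led Lsl_bt (LP (LK LD1_c0 LD2_c58 LD3_c19)) = (LP (LK LD1_c0 LD2_c26 LD3_c28)) :=
  Lre_b IH (LK LD1_c0 LD2_c58 LD3_c19) (LK LD1_c0 LD2_c26 LD3_c28) Lrfl Lrfl
theorem f166632 : Led Lsl_bt (LP (LK LD1_c0 LD2_c31 LD3_c54)) = (LP (LK LD1_c1 LD2_c9 LD3_c24)) :=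
  Lre_b IH (LK LD1_c0 LD2_c31 LD3_c54) (LK LD1_c1 LD2_c9 LD3_c24) Lrfl Lrfl
theorem f221994 : Led Lsl_gt (LP (LK LD1_c1 LD2_c9 LD3_c24)) = (LP (LK LD1_c2 LD2_c0 LD3_c23)) :=
  Lgr Lrot164 (Lpe (f166632 IH) (Lpe (K9.f167044 IH) (Lpr_gf (K9.f52223 IH) (Lpr_cf (K9.f51542 IH) (Lpe (K9.f51518 IH) (Lpe (f51523 IH) (Lpr_ct (f51528 IH) (Lpe (f51529 IH) (Lpr_cf (f221910 IH) (Lpr_bt (f48034 IH) (Lpn (LP (LK LD1_c2 LD2_c0 LD3_c23)))))))))))))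
theorem f167240 : Led Lsl_ct (LP (LK LD1_c0 LD2_c57 LD3_c59)) = (LP (LK LD1_c2 LD2_c1 LD3_c61)) :=
  Lre_c IH (LK LD1_c0 LD2_c57 LD3_c59) (LK LD1_c2 LD2_c1 LD3_c61) Lrfl Lrfl
theorem f167241 : Led Lsl_gt (LP (LK LD1_c2 LD2_c1 LD3_c61)) = (LP (LK LD1_c4 LD2_c9 LD3_c18)) :=
  Lre_g IH (LK LD1_c2 LD2_c1 LD3_c61) (LK LD1_c4 LD2_c9 LD3_c18) Lrfl Lrfl
theorem f167242 : Led Lsl_ct (LP (LK LD1_c4 LD2_c12 LD3_c55)) = (LP (LK LD1_c4 LD2_c9 LD3_c18)) :=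
  Lre_c IH (LK LD1_c4 LD2_c12 LD3_c55) (LK LD1_c4 LD2_c9 LD3_c18) Lrfl Lrfl
theorem f167243 : Led Lsl_bt (LP (LK LD1_c4 LD2_c12 LD3_c55)) = (LP (LK LD1_c2 LD2_c3 LD3_c45)) :=
  Lre_b IH (LK LD1_c4 LD2_c12 LD3_c55) (LK LD1_c2 LD2_c3 LD3_c45) Lrfl Lrfl
theorem f167244 : Led Lsl_gt (LP (LK LD1_c2 LD2_c3 LD3_c45)) = (LP (LK LD1_c1 LD2_c9 LD3_c24)) :=
  Lgr Lrot164 (Lpe (f167243 IH) (Lpr_ct (f167242 IH) (Lpe (f167241 IH) (Lpe (f167240 IH) (Lpe (K9.f1404 IH) (Lpe (K9.f582 IH) (Lpr_ct (K9.f1119 IH) (Lpe (K9.f1401 IH) (Lpr_cf (K9.f167044 IH) (Lpr_bt (f166632 IH) (Lpn (LP (LK LD1_c1 LD2_c9 LD3_c24)))))))))))))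
theorem f221996 : Led Lsl_ft (LP (LK LD1_c2 LD2_c3 LD3_c45)) = (LP (LK LD1_c2 LD2_c0 LD3_c24)) :=
  Lgr Lrot2 (Lpr_gt (f167244 IH) (Lpr_gt (f221994 IH) (Lpr_af (K10.f53736 IH) (Lpn (LP (LK LD1_c2 LD2_c0 LD3_c24))))))
theorem f222077 : Led Lsl_ff (LP (LK LD1_c2 LD2_c3 LD3_c45)) = (LP (LK LD1_c2 LD2_c0 LD3_c24)) :=
  Lgr Lrot3 (Lpr_ft (f221996 IH) (Lpn (LP (LK LD1_c2 LD2_c0 LD3_c24))))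
theorem f167249 : Led Lsl_dt (LP (LK LD1_c2 LD2_c3 LD3_c45)) = (LP (LK LD1_c0 LD2_c58 LD3_c52)) :=
  Lre_d IH (LK LD1_c2 LD2_c3 LD3_c45) (LK LD1_c0 LD2_c58 LD3_c52) Lrfl Lrfl
theorem f44500 : Led Lsl_dt (LP (LK LD1_c0 LD2_c57 LD3_c12)) = (LP (LK LD1_c2 LD2_c0 LD3_c24)) :=
  Lre_d IH (LK LD1_c0 LD2_c57 LD3_c12) (LK LD1_c2 LD2_c0 LD3_c24) Lrfl Lrfl
theorem f222086 : Led Lsl_ft (LP (LK LD1_c0 LD2_c58 LD3_c52)) = (LP (LK LD1_c0 LD2_c57 LD3_c12)) :=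
  Lgr Lrot54 (Lpe (f167249 IH) (Lpr_ff (f222077 IH) (Lpe (f44500 IH) (Lpn (LP (LK LD1_c0 LD2_c57 LD3_c12))))))
theorem f44503 : Led Lsl_et (LP (LK LD1_c0 LD2_c57 LD3_c12)) = (LP (LK LD1_c0 LD2_c25 LD3_c59)) :=
  Lre_e IH (LK LD1_c0 LD2_c57 LD3_c12) (LK LD1_c0 LD2_c25 LD3_c59) Lrfl Lrfl
theorem f47989 : Led Lsl_ff (LP (LK LD1_c0 LD2_c25 LD3_c59)) = (LP (LK LD1_c0 LD2_c25 LD3_c59)) :=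
  Lgr Lrot19 (Lpe (K9.f41869 IH) (Lpr_ft (K8.f47985 IH) (Lpr_dt (K10.f41867 IH) (Lpn (LP (LK LD1_c0 LD2_c25 LD3_c59))))))
theorem f167247 : Led Lsl_dt (LP (LK LD1_c0 LD2_c58 LD3_c52)) = (LP (LK LD1_c2 LD2_c3 LD3_c45)) :=
  Lre_d IH (LK LD1_c0 LD2_c58 LD3_c52) (LK LD1_c2 LD2_c3 LD3_c45) Lrfl Lrfl
theorem f222075 : Led Lsl_ff (LP (LK LD1_c0 LD2_c58 LD3_c52)) = (LP (LK LD1_c0 LD2_c57 LD3_c12)) :=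
  Lgr Lrot19 (Lpr_dt (f167247 IH) (Lpr_ft (f221996 IH) (Lpr_dt (K10.f44493 IH) (Lpn (LP (LK LD1_c0 LD2_c57 LD3_c12))))))
theorem f222153 : Led Lsl_ef (LP (LK LD1_c0 LD2_c58 LD3_c52)) = (LP (LK LD1_c0 LD2_c58 LD3_c52)) :=
  Lgr Lrot21 (Lpr_ft (f222086 IH) (Lpr_et (f44503 IH) (Lpe (f47989 IH) (Lpr_et (K10.f44485 IH) (Lpe (f222075 IH) (Lpn (LP (LK LD1_c0 LD2_c58 LD3_c52))))))))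
theorem f44497 : Led Lsl_dt (LP (LK LD1_c4 LD2_c4 LD3_c60)) = (LP (LK LD1_c1 LD2_c59 LD3_c36)) :=
  Lre_d IH (LK LD1_c4 LD2_c4 LD3_c60) (LK LD1_c1 LD2_c59 LD3_c36) Lrfl Lrfl
theorem f219374 : Led Lsl_dt (LP (LK LD1_c2 LD2_c3 LD3_c18)) = (LP (LK LD1_c4 LD2_c12 LD3_c10)) :=
  Lre_d IH (LK LD1_c2 LD2_c3 LD3_c18) (LK LD1_c4 LD2_c12 LD3_c10) Lrfl Lrfl
theorem f219439 : Led Lsl_ft (LP (LK LD1_c1 LD2_c59 LD3_c36)) = (LP (LK LD1_c2 LD2_c3 LD3_c18)) :=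
  Lgr Lrot54 (Lpe (f44497 IH) (Lpr_ff (f219434 IH) (Lpe (f219374 IH) (Lpn (LP (LK LD1_c2 LD2_c3 LD3_c18))))))
theorem f222151 : Led Lsl_cf (LP (LK LD1_c0 LD2_c58 LD3_c52)) = (LP (LK LD1_c2 LD2_c3 LD3_c18)) :=
  Lgr Lrot108 (Lpr_ft (f222086 IH) (Lpr_ct (K10.f44487 IH) (Lpr_ft (f219439 IH) (Lpn (LP (LK LD1_c2 LD2_c3 LD3_c18))))))
theorem f219350 : Led Lsl_bt (LP (LK LD1_c2 LD2_c3 LD3_c18)) = (LP (LK LD1_c0 LD2_c58 LD3_c38)) :=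
  Lre_b IH (LK LD1_c2 LD2_c3 LD3_c18) (LK LD1_c0 LD2_c58 LD3_c38) Lrfl Lrfl
theorem f219352 : Led Lsl_ef (LP (LK LD1_c2 LD2_c3 LD3_c18)) = (LP (LK LD1_c2 LD2_c3 LD3_c18)) :=
  Lgr Lrot29 (Lpr_bt (f219350 IH) (Lpr_et (f219341 IH) (Lpr_bt (f219351 IH) (Lpn (LP (LK LD1_c2 LD2_c3 LD3_c18))))))
theorem f222192 : Led Lsl_ct (LP (LK LD1_c0 LD2_c58 LD3_c52)) = (LP (LK LD1_c2 LD2_c3 LD3_c18)) :=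
  Lgr Lrot15 (Lpr_ef (f222153 IH) (Lpr_cf (f222151 IH) (Lpr_ef (f219352 IH) (Lpn (LP (LK LD1_c2 LD2_c3 LD3_c18))))))
theorem f222189 : Led Lsl_bt (LP (LK LD1_c0 LD2_c58 LD3_c52)) = (LP (LK LD1_c2 LD2_c3 LD3_c44)) :=
  Lre_b IH (LK LD1_c0 LD2_c58 LD3_c52) (LK LD1_c2 LD2_c3 LD3_c44) Lrfl Lrfl
theorem f211415 : Led Lsl_ct (LP (LK LD1_c1 LD2_c1 LD3_c19)) = (LP (LK LD1_c1 LD2_c1 LD3_c34)) :=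
  Lgr Lrot15 (Lpe (f187082 IH) (Lpr_cf (f211411 IH) (Lpe (f200527 IH) (Lpn (LP (LK LD1_c1 LD2_c1 LD3_c34))))))
theorem f173254 : Led Lsl_ct (LP (LK LD1_c0 LD2_c28 LD3_c3)) = (LP (LK LD1_c0 LD2_c12 LD3_c24)) :=
  Lre_c IH (LK LD1_c0 LD2_c28 LD3_c3) (LK LD1_c0 LD2_c12 LD3_c24) Lrfl Lrfl
theorem f222214 : Led Lsl_gf (LP (LK LD1_c2 LD2_c3 LD3_c44)) = (LP (LK LD1_c1 LD2_c1 LD3_c26)) :=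
  Lgr Lrot124 (Lpe (f222189 IH) (Lpr_ct (f222192 IH) (Lpe (f219450 IH) (Lpe (f211415 IH) (Lpr_bt (K10.f28930 IH) (Lpr_gt (K9.f28820 IH) (Lpr_ct (K1.f28948 IH) (Lpr_gt (K9.f27910 IH) (Lpe (f173254 IH) (Lpr_bt (f173214 IH) (Lpn (LP (LK LD1_c1 LD2_c1 LD3_c26)))))))))))))
theorem f199624 : Led Lsl_ct (LP (LK LD1_c2 LD2_c1 LD3_c38)) = (LP (LK LD1_c2 LD2_c3 LD3_c44)) :=
  Lre_c IH (LK LD1_c2 LD2_c1 LD3_c38) (LK LD1_c2 LD2_c3 LD3_c44) Lrfl Lrfl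
theorem f222226 : Led Lsl_bt (LP (LK LD1_c2 LD2_c1 LD3_c38)) = (LP (LK LD1_c2 LD2_c3 LD3_c19)) :=
  Lgr Lrot130 (Lpr_ct (f199624 IH) (Lpr_gf (f222214 IH) (Lpe (f173251 IH) (Lpr_bt (f173177 IH) (Lpe (K9.f8579 IH) (Lpe (K10.f173185 IH) (Lpr_ct (K10.f173186 IH) (Lpr_gf (f219584 IH) (Lpe (f219290 IH) (Lpe (f219286 IH) (Lpn (LP (LK LD1_c2 LD2_c3 LD3_c19)))))))))))))
theorem f222232 : Led Lsl_ff (LP (LK LD1_c2 LD2_c1 LD3_c38)) = (LP (LK LD1_c2 LD2_c1 LD3_c5)) :=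
  Lgr Lrot25 (Lpr_bt (f222226 IH) (Lpe (f219287 IH) (Lpe (K9.f47468 IH) (Lpn (LP (LK LD1_c2 LD2_c1 LD3_c5))))))
theorem f222148 : Led Lsl_bt (LP (LK LD1_c2 LD2_c3 LD3_c44)) = (LP (LK LD1_c0 LD2_c58 LD3_c52)) :=
  Lre_b IH (LK LD1_c2 LD2_c3 LD3_c44) (LK LD1_c0 LD2_c58 LD3_c52) Lrfl Lrfl
theorem f222211 : Led Lsl_bf (LP (LK LD1_c2 LD2_c1 LD3_c38)) = (LP (LK LD1_c2 LD2_c3 LD3_c19)) :=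
  Lgr Lrot90 (Lpr_ct (f199624 IH) (Lpr_bt (f222148 IH) (Lpr_ct (f222192 IH) (Lpr_bt (f219350 IH) (Lpr_ct (f199178 IH) (Lpn (LP (LK LD1_c2 LD2_c3 LD3_c19))))))))
theorem f222230 : Led Lsl_ef (LP (LK LD1_c2 LD2_c1 LD3_c38)) = (LP (LK LD1_c2 LD2_c1 LD3_c38)) :=
  Lgr Lrot29 (Lpr_bt (f222226 IH) (Lpe (f219339 IH) (Lpe (f222211 IH) (Lpn (LP (LK LD1_c2 LD2_c1 LD3_c38))))))
theorem f222240 : Led Lsl_ft (LP (LK LD1_c2 LD2_c1 LD3_c38)) = (LP (LK LD1_c2 LD2_c1 LD3_c5)) :=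
  Lgr Lrot86 (Lpr_ef (f222230 IH) (Lpr_ff (f222232 IH) (Lpe (f44937 IH) (Lpr_ff (K9.f44935 IH) (Lpe (K9.f44932 IH) (Lpn (LP (LK LD1_c2 LD2_c1 LD3_c5))))))))
theorem f222221 : Led Lsl_dt (LP (LK LD1_c4 LD2_c8 LD3_c31)) = (LP (LK LD1_c2 LD2_c1 LD3_c38)) :=
  Lre_d IH (LK LD1_c4 LD2_c8 LD3_c31) (LK LD1_c2 LD2_c1 LD3_c38) Lrfl Lrfl
theorem f222431 : Led Lsl_ff (LP (LK LD1_c4 LD2_c8 LD3_c31)) = (LP (LK LD1_c4 LD2_c7 LD3_c29)) :=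
  Lgr Lrot19 (Lpr_dt (f222221 IH) (Lpr_ft (f222240 IH) (Lpr_dt (K9.f44940 IH) (Lpn (LP (LK LD1_c4 LD2_c7 LD3_c29))))))
theorem f222435 : Led Lsl_bt (LP (LK LD1_c4 LD2_c8 LD3_c31)) = (LP (LK LD1_c4 LD2_c12 LD3_c11)) :=
  Lgr Lrot35 (Lpr_ff (f222431 IH) (Lpr_bf (K10.f53724 IH) (Lpr_ff (f219337 IH) (Lpn (LP (LK LD1_c4 LD2_c12 LD3_c11))))))
theorem f173146 : Led Lsl_bt (LP (LK LD1_c2 LD2_c25 LD3_c12)) = (LP (LK LD1_c4 LD2_c28 LD3_c27)) :=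
  Lgr Lrot127 (Lpr_bf (K9.f173126 IH) (Lpn (LP (LK LD1_c4 LD2_c28 LD3_c27))))
theorem f173148 : Led Lsl_ct (LP (LK LD1_c2 LD2_c25 LD3_c12)) = (LP (LK LD1_c4 LD2_c54 LD3_c36)) :=
  Lre_c IH (LK LD1_c2 LD2_c25 LD3_c12) (LK LD1_c4 LD2_c54 LD3_c36) Lrfl Lrfl
theorem f41087 : Led Lsl_at (LP (LK LD1_c1 LD2_c56 LD3_c2)) = (LP (LK LD1_c3 LD2_c58 LD3_c11)) :=
  Lre_a IH (LK LD1_c1 LD2_c56 LD3_c2) (LK LD1_c3 LD2_c58 LD3_c11) Lrfl Lrfl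
theorem f41088 : Led Lsl_bt (LP (LK LD1_c1 LD2_c10 LD3_c2)) = (LP (LK LD1_c0 LD2_c32 LD3_c27)) :=
  Lre_b IH (LK LD1_c1 LD2_c10 LD3_c2) (LK LD1_c0 LD2_c32 LD3_c27) Lrfl Lrfl
theorem f41089 : Led Lsl_at (LP (LK LD1_c2 LD2_c25 LD3_c14)) = (LP (LK LD1_c1 LD2_c10 LD3_c2)) :=
  Lre_a IH (LK LD1_c2 LD2_c25 LD3_c14) (LK LD1_c1 LD2_c10 LD3_c2) Lrfl Lrfl
theorem f41090 : Led Lsl_bt (LP (LK LD1_c3 LD2_c58 LD3_c11)) = (LP (LK LD1_c2 LD2_c25 LD3_c14)) :=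
  Lgr Lrot62 (Lpe (f41087 IH) (Lpe (K9.f41086 IH) (Lpr_af (K1.f41072 IH) (Lpe (f41088 IH) (Lpe (f41089 IH) (Lpn (LP (LK LD1_c2 LD2_c25 LD3_c14))))))))
theorem f42768 : Led Lsl_gt (LP (LK LD1_c3 LD2_c58 LD3_c30)) = (LP (LK LD1_c7 LD2_c57 LD3_c47)) :=
  Lre_g IH (LK LD1_c3 LD2_c58 LD3_c30) (LK LD1_c7 LD2_c57 LD3_c47) Lrfl Lrfl
theorem f50176 : Led Lsl_bt (LP (LK LD1_c4 LD2_c1 LD3_c4)) = (LP (LK LD1_c1 LD2_c57 LD3_c21)) :=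
  Lre_b IH (LK LD1_c4 LD2_c1 LD3_c4) (LK LD1_c1 LD2_c57 LD3_c21) Lrfl Lrfl
theorem f217473 : Led Lsl_cf (LP (LK LD1_c3 LD2_c58 LD3_c30)) = (LP (LK LD1_c4 LD2_c1 LD3_c4)) :=
  Lgr Lrot160 (Lpr_gt (f42768 IH) (Lpe (f41233 IH) (Lpr_bt (f41090 IH) (Lpr_gt (f41411 IH) (Lpr_ct (f217450 IH) (Lpr_gt (f217446 IH) (Lpe (f30866 IH) (Lpr_bt (K9.f30862 IH) (Lpr_gt (f28175 IH) (Lpe (f50176 IH) (Lpn (LP (LK LD1_c4 LD2_c1 LD3_c4)))))))))))))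
theorem f54668 : Led Lsl_gt (LP (LK LD1_c1 LD2_c56 LD3_c1)) = (LP (LK LD1_c3 LD2_c58 LD3_c30)) :=
  Lre_g IH (LK LD1_c1 LD2_c56 LD3_c1) (LK LD1_c3 LD2_c58 LD3_c30) Lrfl Lrfl
theorem f42746 : Led Lsl_ct (LP (LK LD1_c0 LD2_c54 LD3_c43)) = (LP (LK LD1_c1 LD2_c56 LD3_c1)) :=
  Lre_c IH (LK LD1_c0 LD2_c54 LD3_c43) (LK LD1_c1 LD2_c56 LD3_c1) Lrfl Lrfl
theorem f42732 : Led Lsl_gt (LP (LK LD1_c1 LD2_c56 LD3_c0)) = (LP (LK LD1_c0 LD2_c54 LD3_c43)) :=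
  Lre_g IH (LK LD1_c1 LD2_c56 LD3_c0) (LK LD1_c0 LD2_c54 LD3_c43) Lrfl Lrfl
theorem f41247 : Led Lsl_bt (LP (LK LD1_c3 LD2_c58 LD3_c27)) = (LP (LK LD1_c1 LD2_c56 LD3_c0)) :=
  Lre_b IH (LK LD1_c3 LD2_c58 LD3_c27) (LK LD1_c1 LD2_c56 LD3_c0) Lrfl Lrfl
theorem f27976 : Led Lsl_gt (LP (LK LD1_c1 LD2_c57 LD3_c21)) = (LP (LK LD1_c0 LD2_c56 LD3_c19)) :=
  Lre_g IH (LK LD1_c1 LD2_c57 LD3_c21) (LK LD1_c0 LD2_c56 LD3_c19) Lrfl Lrfl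
theorem f49348 : Led Lsl_gt (LP (LK LD1_c5 LD2_c16 LD3_c57)) = (LP (LK LD1_c2 LD2_c35 LD3_c12)) :=
  Lre_g IH (LK LD1_c5 LD2_c16 LD3_c57) (LK LD1_c2 LD2_c35 LD3_c12) Lrfl Lrfl
theorem f50166 : Led Lsl_gt (LP (LK LD1_c4 LD2_c2 LD3_c55)) = (LP (LK LD1_c5 LD2_c16 LD3_c57)) :=
  Lgr Lrot5 (Lpr_ft (K9.f50150 IH) (Lpr_at (K9.f50151 IH) (Lpe (f49348 IH) (Lpn (LP (LK LD1_c5 LD2_c16 LD3_c57))))))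
theorem f218709 : Led Lsl_ct (LP (LK LD1_c3 LD2_c58 LD3_c27)) = (LP (LK LD1_c5 LD2_c16 LD3_c57)) :=
  Lgr Lrot10 (Lpr_bt (f41247 IH) (Lpr_gt (f42732 IH) (Lpr_ct (f42746 IH) (Lpr_gt (f54668 IH) (Lpr_cf (f217473 IH) (Lpr_bt (f50176 IH) (Lpr_gt (f27976 IH) (Lpe (f50175 IH) (Lpr_ct (K9.f50135 IH) (Lpr_gt (f50166 IH) (Lpn (LP (LK LD1_c5 LD2_c16 LD3_c57)))))))))))))
theorem f41215 : Led Lsl_bt (LP (LK LD1_c0 LD2_c24 LD3_c44)) = (LP (LK LD1_c0 LD2_c54 LD3_c43)) :=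
  Lre_b IH (LK LD1_c0 LD2_c24 LD3_c44) (LK LD1_c0 LD2_c54 LD3_c43) Lrfl Lrfl
theorem f165002 : Led Lsl_bt (LP (LK LD1_c0 LD2_c28 LD3_c41)) = (LP (LK LD1_c1 LD2_c2 LD3_c54)) :=
  Lre_b IH (LK LD1_c0 LD2_c28 LD3_c41) (LK LD1_c1 LD2_c2 LD3_c54) Lrfl Lrfl
theorem f218724 : Led Lsl_gt (LP (LK LD1_c1 LD2_c2 LD3_c54)) = (LP (LK LD1_c1 LD2_c58 LD3_c28)) :=
  Lgr Lrot82 (Lpe (f165002 IH) (Lpr_ct (K9.f165003 IH) (Lpe (K9.f173402 IH) (Lpe (K1.f40770 IH) (Lpr_bt (f41215 IH) (Lpe (f42732 IH) (Lpe (f41247 IH) (Lpr_ct (f218709 IH) (Lpe (f50166 IH) (Lpe (K9.f50135 IH) (Lpn (LP (LK LD1_c1 LD2_c58 LD3_c28)))))))))))))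
theorem f216869 : Led Lsl_at (LP (LK LD1_c1 LD2_c17 LD3_c10)) = (LP (LK LD1_c1 LD2_c58 LD3_c28)) :=
  Lgr Lrot107 (Lpe (f216848 IH) (Lpr_af (f216843 IH) (Lpe (K9.f50135 IH) (Lpn (LP (LK LD1_c1 LD2_c58 LD3_c28))))))
theorem f49339 : Led Lsl_ct (LP (LK LD1_c2 LD2_c35 LD3_c12)) = (LP (LK LD1_c1 LD2_c14 LD3_c36)) :=
  Lre_c IH (LK LD1_c2 LD2_c35 LD3_c12) (LK LD1_c1 LD2_c14 LD3_c36) Lrfl Lrfl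
theorem f216887 : Led Lsl_ff (LP (LK LD1_c1 LD2_c17 LD3_c10)) = (LP (LK LD1_c1 LD2_c14 LD3_c36)) :=
  Lgr Lrot23 (Lpr_ct (f216834 IH) (Lpr_ft (f216874 IH) (Lpr_ct (f49339 IH) (Lpn (LP (LK LD1_c1 LD2_c14 LD3_c36))))))
theorem f218726 : Led Lsl_gf (LP (LK LD1_c1 LD2_c2 LD3_c54)) = (LP (LK LD1_c1 LD2_c14 LD3_c36)) :=
  Lgr Lrot47 (Lpr_gt (f218724 IH) (Lpe (f216869 IH) (Lpr_ff (f216887 IH) (Lpn (LP (LK LD1_c1 LD2_c14 LD3_c36))))))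
theorem f49240 : Led Lsl_bt (LP (LK LD1_c2 LD2_c35 LD3_c11)) = (LP (LK LD1_c1 LD2_c14 LD3_c36)) :=
  Lre_b IH (LK LD1_c2 LD2_c35 LD3_c11) (LK LD1_c1 LD2_c14 LD3_c36) Lrfl Lrfl
theorem f218735 : Led Lsl_gt (LP (LK LD1_c4 LD2_c54 LD3_c36)) = (LP (LK LD1_c5 LD2_c16 LD3_c55)) :=
  Lgr Lrot149 (Lpe (f173148 IH) (Lpe (K9.f55290 IH) (Lpe (K9.f41231 IH) (Lpr_ct (K9.f41039 IH) (Lpr_gf (K9.f173161 IH) (Lpe (K9.f165003 IH) (Lpr_bt (f165002 IH) (Lpr_gf (f218726 IH) (Lpe (f49240 IH) (Lpr_ct (K9.f49242 IH) (Lpn (LP (LK LD1_c5 LD2_c16 LD3_c55)))))))))))))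
theorem f218728 : Led Lsl_ct (LP (LK LD1_c1 LD2_c2 LD3_c54)) = (LP (LK LD1_c2 LD2_c11 LD3_c48)) :=
  Lre_c IH (LK LD1_c1 LD2_c2 LD3_c54) (LK LD1_c2 LD2_c11 LD3_c48) Lrfl Lrfl
theorem f218729 : Led Lsl_gt (LP (LK LD1_c2 LD2_c11 LD3_c48)) = (LP (LK LD1_c4 LD2_c29 LD3_c24)) :=
  Lre_g IH (LK LD1_c2 LD2_c11 LD3_c48) (LK LD1_c4 LD2_c29 LD3_c24) Lrfl Lrfl
theorem f222471 : Led Lsl_ct (LP (LK LD1_c4 LD2_c8 LD3_c31)) = (LP (LK LD1_c4 LD2_c29 LD3_c24)) :=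
  Lgr Lrot63 (Lpr_bt (f222435 IH) (Lpe (f219381 IH) (Lpe (f173146 IH) (Lpr_ct (f173148 IH) (Lpr_gt (f218735 IH) (Lpe (K9.f49242 IH) (Lpr_bt (f49240 IH) (Lpe (f218726 IH) (Lpr_ct (f218728 IH) (Lpr_gt (f218729 IH) (Lpn (LP (LK LD1_c4 LD2_c29 LD3_c24)))))))))))))
theorem f222480 : Led Lsl_ff (LP (LK LD1_c2 LD2_c42 LD3_c19)) = (LP (LK LD1_c4 LD2_c29 LD3_c24)) :=
  Lgr Lrot23 (Lpr_ct (f216933 IH) (Lpe (f222431 IH) (Lpr_ct (f222471 IH) (Lpn (LP (LK LD1_c4 LD2_c29 LD3_c24))))))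
theorem f222485 : Led Lsl_ft (LP (LK LD1_c2 LD2_c42 LD3_c19)) = (LP (LK LD1_c4 LD2_c29 LD3_c24)) :=
  Lgr Lrot48 (Lpr_ff (f222480 IH) (Lpn (LP (LK LD1_c4 LD2_c29 LD3_c24))))
theorem f222437 : Led Lsl_et (LP (LK LD1_c4 LD2_c8 LD3_c31)) = (LP (LK LD1_c8 LD2_c17 LD3_c8)) :=
  Lre_e IH (LK LD1_c4 LD2_c8 LD3_c31) (LK LD1_c8 LD2_c17 LD3_c8) Lrfl Lrfl
theorem f32949 : Led Lsl_et (LP (LK LD1_c10 LD2_c23 LD3_c39)) = (LP (LK LD1_c5 LD2_c17 LD3_c0)) :=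
  Lre_e IH (LK LD1_c10 LD2_c23 LD3_c39) (LK LD1_c5 LD2_c17 LD3_c0) Lrfl Lrfl
theorem f222438 : Led Lsl_ft (LP (LK LD1_c8 LD2_c17 LD3_c8)) = (LP (LK LD1_c10 LD2_c23 LD3_c39)) :=
  Lgr Lrot86 (Lpe (f222437 IH) (Lpr_ff (f222431 IH) (Lpe (K9.f54051 IH) (Lpe (K10.f54056 IH) (Lpe (f32949 IH) (Lpn (LP (LK LD1_c10 LD2_c23 LD3_c39))))))))
theorem f222444 : Led Lsl_ff (LP (LK LD1_c8 LD2_c17 LD3_c8)) = (LP (LK LD1_c10 LD2_c23 LD3_c39)) :=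
  Lgr Lrot3 (Lpr_ft (f222438 IH) (Lpn (LP (LK LD1_c10 LD2_c23 LD3_c39))))
theorem f212852 : Led Lsl_et (LP (LK LD1_c2 LD2_c43 LD3_c31)) = (LP (LK LD1_c5 LD2_c35 LD3_c11)) :=
  Lre_e IH (LK LD1_c2 LD2_c43 LD3_c31) (LK LD1_c5 LD2_c35 LD3_c11) Lrfl Lrfl
theorem f212864 : Led Lsl_ff (LP (LK LD1_c5 LD2_c17 LD3_c28)) = (LP (LK LD1_c5 LD2_c35 LD3_c11)) :=
  Lgr Lrot72 (Lpr_et (K10.f32118 IH) (Lpr_ft (K10.f32969 IH) (Lpr_et (K9.f54035 IH) (Lpr_ft (f212859 IH) (Lpr_et (f212852 IH) (Lpn (LP (LK LD1_c5 LD2_c35 LD3_c11))))))))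
theorem f222450 : Led Lsl_at (LP (LK LD1_c8 LD2_c17 LD3_c8)) = (LP (LK LD1_c5 LD2_c35 LD3_c11)) :=
  Lgr Lrot66 (Lpr_ff (f222444 IH) (Lpe (K10.f32933 IH) (Lpr_ff (f212864 IH) (Lpn (LP (LK LD1_c5 LD2_c35 LD3_c11))))))
theorem f222459 : Led Lsl_af (LP (LK LD1_c4 LD2_c8 LD3_c31)) = (LP (LK LD1_c2 LD2_c43 LD3_c31)) :=
  Lgr Lrot50 (Lpr_et (f222437 IH) (Lpr_at (f222450 IH) (Lpr_et (f212850 IH) (Lpn (LP (LK LD1_c2 LD2_c43 LD3_c31))))))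
theorem f222473 : Led Lsl_af (LP (LK LD1_c2 LD2_c42 LD3_c20)) = (LP (LK LD1_c4 LD2_c29 LD3_c24)) :=
  Lgr Lrot68 (Lpe (f213049 IH) (Lpe (f222459 IH) (Lpr_ct (f222471 IH) (Lpn (LP (LK LD1_c4 LD2_c29 LD3_c24))))))
theorem f222491 : Led Lsl_gt (LP (LK LD1_c2 LD2_c42 LD3_c19)) = (LP (LK LD1_c4 LD2_c2 LD3_c48)) :=
  Lgr Lrot5 (Lpr_ft (f222485 IH) (Lpe (f222473 IH) (Lpe (f213141 IH) (Lpn (LP (LK LD1_c4 LD2_c2 LD3_c48))))))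
theorem f213144 : Led Lsl_dt (LP (LK LD1_c4 LD2_c2 LD3_c48)) = (LP (LK LD1_c8 LD2_c6 LD3_c9)) :=
  Lre_d IH (LK LD1_c4 LD2_c2 LD3_c48) (LK LD1_c8 LD2_c6 LD3_c9) Lrfl Lrfl
theorem f190965 : Led Lsl_ct (LP (LK LD1_c2 LD2_c31 LD3_c28)) = (LP (LK LD1_c1 LD2_c16 LD3_c27)) :=
  Lgr Lrot15 (Lpe (f33251 IH) (Lpr_cf (K10.f190950 IH) (Lpe (K10.f190964 IH) (Lpn (LP (LK LD1_c1 LD2_c16 LD3_c27))))))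
theorem f33198 : Led Lsl_bt (LP (LK LD1_c2 LD2_c31 LD3_c28)) = (LP (LK LD1_c1 LD2_c12 LD3_c50)) :=
  Lre_b IH (LK LD1_c2 LD2_c31 LD3_c28) (LK LD1_c1 LD2_c12 LD3_c50) Lrfl Lrfl
theorem f33199 : Led Lsl_dt (LP (LK LD1_c4 LD2_c0 LD3_c16)) = (LP (LK LD1_c2 LD2_c31 LD3_c28)) :=
  Lgr Lrot79 (Lpe (f33197 IH) (Lpr_df (K10.f33142 IH) (Lpe (f33198 IH) (Lpn (LP (LK LD1_c2 LD2_c31 LD3_c28))))))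
theorem f170579 : Led Lsl_ct (LP (LK LD1_c2 LD2_c2 LD3_c7)) = (LP (LK LD1_c4 LD2_c0 LD3_c16)) :=
  Lgr Lrot59 (Lpr_cf (K9.f167273 IH) (Lpn (LP (LK LD1_c4 LD2_c0 LD3_c16))))
theorem f170584 : Led Lsl_dt (LP (LK LD1_c4 LD2_c9 LD3_c45)) = (LP (LK LD1_c2 LD2_c2 LD3_c7)) :=
  Lre_d IH (LK LD1_c4 LD2_c9 LD3_c45) (LK LD1_c2 LD2_c2 LD3_c7) Lrfl Lrfl
theorem f213171 : Led Lsl_ct (LP (LK LD1_c8 LD2_c6 LD3_c9)) = (LP (LK LD1_c4 LD2_c9 LD3_c45)) :=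
  Lgr Lrot133 (Lpe (f213144 IH) (Lpr_ft (f213149 IH) (Lpr_at (f213148 IH) (Lpe (f168083 IH) (Lpe (K10.f183248 IH) (Lpe (f190965 IH) (Lpe (f33199 IH) (Lpe (f170579 IH) (Lpe (f170584 IH) (Lpn (LP (LK LD1_c4 LD2_c9 LD3_c45))))))))))))
theorem f213179 : Led Lsl_cf (LP (LK LD1_c8 LD2_c6 LD3_c9)) = (LP (LK LD1_c4 LD2_c9 LD3_c45)) :=
  Lgr Lrot11 (Lpr_ct (f213171 IH) (Lpn (LP (LK LD1_c4 LD2_c9 LD3_c45))))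
theorem f53400 : Led Lsl_dt (LP (LK LD1_c2 LD2_c2 LD3_c7)) = (LP (LK LD1_c4 LD2_c9 LD3_c45)) :=
  Lre_d IH (LK LD1_c2 LD2_c2 LD3_c7) (LK LD1_c4 LD2_c9 LD3_c45) Lrfl Lrfl
theorem f217004 : Led Lsl_gt (LP (LK LD1_c2 LD2_c41 LD3_c19)) = (LP (LK LD1_c5 LD2_c30 LD3_c3)) :=
  Lre_g IH (LK LD1_c2 LD2_c41 LD3_c19) (LK LD1_c5 LD2_c30 LD3_c3) Lrfl Lrfl
theorem f222493 : Led Lsl_df (LP (LK LD1_c2 LD2_c42 LD3_c19)) = (LP (LK LD1_c5 LD2_c30 LD3_c3)) :=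
  Lgr Lrot153 (Lpr_gt (f222491 IH) (Lpr_dt (f213144 IH) (Lpr_cf (f213179 IH) (Lpe (f53400 IH) (Lpe (K9.f51486 IH) (Lpe (f51483 IH) (Lpe (f857 IH) (Lpr_cf (f216982 IH) (Lpr_gt (f217004 IH) (Lpn (LP (LK LD1_c5 LD2_c30 LD3_c3))))))))))))
theorem f222502 : Led Lsl_dt (LP (LK LD1_c2 LD2_c42 LD3_c19)) = (LP (LK LD1_c5 LD2_c30 LD3_c3)) :=
  Lgr Lrot42 (Lpr_df (f222493 IH) (Lpn (LP (LK LD1_c5 LD2_c30 LD3_c3))))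
theorem f49328 : Led Lsl_dt (LP (LK LD1_c2 LD2_c35 LD3_c12)) = (LP (LK LD1_c5 LD2_c16 LD3_c59)) :=
  Lre_d IH (LK LD1_c2 LD2_c35 LD3_c12) (LK LD1_c5 LD2_c16 LD3_c59) Lrfl Lrfl
theorem f50404 : Led Lsl_ft (LP (LK LD1_c1 LD2_c58 LD3_c28)) = (LP (LK LD1_c0 LD2_c56 LD3_c4)) :=
  Lre_f IH (LK LD1_c1 LD2_c58 LD3_c28) (LK LD1_c0 LD2_c56 LD3_c4) Lrfl Lrfl
theorem f28091 : Led Lsl_dt (LP (LK LD1_c1 LD2_c58 LD3_c28)) = (LP (LK LD1_c0 LD2_c56 LD3_c5)) :=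
  Lre_d IH (LK LD1_c1 LD2_c58 LD3_c28) (LK LD1_c0 LD2_c56 LD3_c5) Lrfl Lrfl
theorem f47727 : Led Lsl_ct (LP (LK LD1_c0 LD2_c58 LD3_c0)) = (LP (LK LD1_c2 LD2_c2 LD3_c10)) :=
  Lre_c IH (LK LD1_c0 LD2_c58 LD3_c0) (LK LD1_c2 LD2_c2 LD3_c10) Lrfl Lrfl
theorem f50405 : Led Lsl_dt (LP (LK LD1_c2 LD2_c2 LD3_c10)) = (LP (LK LD1_c4 LD2_c9 LD3_c56)) :=
  Lre_d IH (LK LD1_c2 LD2_c2 LD3_c10) (LK LD1_c4 LD2_c9 LD3_c56) Lrfl Lrfl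
theorem f49318 : Led Lsl_dt (LP (LK LD1_c5 LD2_c16 LD3_c59)) = (LP (LK LD1_c2 LD2_c35 LD3_c12)) :=
  Lre_d IH (LK LD1_c5 LD2_c16 LD3_c59) (LK LD1_c2 LD2_c35 LD3_c12) Lrfl Lrfl
theorem f50406 : Led Lsl_ct (LP (LK LD1_c4 LD2_c9 LD3_c56)) = (LP (LK LD1_c5 LD2_c16 LD3_c59)) :=
  Lgr Lrot53 (Lpe (f50405 IH) (Lpe (f47727 IH) (Lpe (K10.f47555 IH) (Lpe (f28122 IH) (Lpe (f28091 IH) (Lpr_ft (f50404 IH) (Lpr_at (K9.f50392 IH) (Lpe (f49339 IH) (Lpe (f49318 IH) (Lpn (LP (LK LD1_c5 LD2_c16 LD3_c59))))))))))))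
theorem f50419 : Led Lsl_ft (LP (LK LD1_c2 LD2_c2 LD3_c9)) = (LP (LK LD1_c4 LD2_c9 LD3_c56)) :=
  Lre_f IH (LK LD1_c2 LD2_c2 LD3_c9) (LK LD1_c4 LD2_c9 LD3_c56) Lrfl Lrfl
theorem f50420 : Led Lsl_ct (LP (LK LD1_c4 LD2_c9 LD3_c54)) = (LP (LK LD1_c2 LD2_c2 LD3_c9)) :=
  Lre_c IH (LK LD1_c4 LD2_c9 LD3_c54) (LK LD1_c2 LD2_c2 LD3_c9) Lrfl Lrfl
theorem f50421 : Led Lsl_ff (LP (LK LD1_c4 LD2_c9 LD3_c54)) = (LP (LK LD1_c5 LD2_c16 LD3_c59)) :=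
  Lgr Lrot23 (Lpr_ct (f50420 IH) (Lpr_ft (f50419 IH) (Lpr_ct (f50406 IH) (Lpn (LP (LK LD1_c5 LD2_c16 LD3_c59))))))
theorem f216889 : Led Lsl_df (LP (LK LD1_c2 LD2_c40 LD3_c55)) = (LP (LK LD1_c4 LD2_c9 LD3_c54)) :=
  Lgr Lrot78 (Lpr_ft (f216874 IH) (Lpr_dt (f49328 IH) (Lpe (f50421 IH) (Lpn (LP (LK LD1_c4 LD2_c9 LD3_c54))))))
theorem f50510 : Led Lsl_ct (LP (LK LD1_c2 LD2_c2 LD3_c9)) = (LP (LK LD1_c4 LD2_c9 LD3_c54)) :=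
  Lre_c IH (LK LD1_c2 LD2_c2 LD3_c9) (LK LD1_c4 LD2_c9 LD3_c54) Lrfl Lrfl
theorem f1043 : Led Lsl_gt (LP (LK LD1_c4 LD2_c9 LD3_c53)) = (LP (LK LD1_c2 LD2_c2 LD3_c9)) :=
  Lre_g IH (LK LD1_c4 LD2_c9 LD3_c53) (LK LD1_c2 LD2_c2 LD3_c9) Lrfl Lrfl
theorem f50132 : Led Lsl_dt (LP (LK LD1_c0 LD2_c56 LD3_c4)) = (LP (LK LD1_c0 LD2_c25 LD3_c27)) :=
  Lre_d IH (LK LD1_c0 LD2_c56 LD3_c4) (LK LD1_c0 LD2_c25 LD3_c27) Lrfl Lrfl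
theorem f53086 : Led Lsl_ct (LP (LK LD1_c1 LD2_c58 LD3_c24)) = (LP (LK LD1_c4 LD2_c2 LD3_c45)) :=
  Lre_c IH (LK LD1_c1 LD2_c58 LD3_c24) (LK LD1_c4 LD2_c2 LD3_c45) Lrfl Lrfl
theorem f196393 : Led Lsl_dt (LP (LK LD1_c8 LD2_c6 LD3_c5)) = (LP (LK LD1_c4 LD2_c2 LD3_c45)) :=
  Lre_d IH (LK LD1_c8 LD2_c6 LD3_c5) (LK LD1_c4 LD2_c2 LD3_c45) Lrfl Lrfl
theorem f222517 : Led Lsl_gf (LP (LK LD1_c8 LD2_c6 LD3_c5)) = (LP (LK LD1_c5 LD2_c30 LD3_c3)) :=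
  Lgr Lrot143 (Lpr_dt (f196393 IH) (Lpe (f53086 IH) (Lpe (f53085 IH) (Lpe (f51399 IH) (Lpe (f50132 IH) (Lpr_gf (K10.f196391 IH) (Lpe (f168168 IH) (Lpr_gt (f168084 IH) (Lpr_dt (f222502 IH) (Lpn (LP (LK LD1_c5 LD2_c30 LD3_c3))))))))))))
theorem f222519 : Led Lsl_cf (LP (LK LD1_c4 LD2_c9 LD3_c53)) = (LP (LK LD1_c8 LD2_c6 LD3_c5)) :=
  Lgr Lrot188 (Lpr_gt (f1043 IH) (Lpr_ct (f50510 IH) (Lpe (f216889 IH) (Lpe (f216834 IH) (Lpe (f216947 IH) (Lpe (f213151 IH) (Lpe (f222491 IH) (Lpr_dt (f222502 IH) (Lpe (f222517 IH) (Lpn (LP (LK LD1_c8 LD2_c6 LD3_c5))))))))))))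
theorem f219977 : Led Lsl_dt (LP (LK LD1_c4 LD2_c2 LD3_c45)) = (LP (LK LD1_c8 LD2_c6 LD3_c5)) :=
  Lre_d IH (LK LD1_c4 LD2_c2 LD3_c45) (LK LD1_c8 LD2_c6 LD3_c5) Lrfl Lrfl
theorem f219939 : Led Lsl_dt (LP (LK LD1_c4 LD2_c2 LD3_c43)) = (LP (LK LD1_c1 LD2_c58 LD3_c23)) :=
  Lre_d IH (LK LD1_c4 LD2_c2 LD3_c43) (LK LD1_c1 LD2_c58 LD3_c23) Lrfl Lrfl
theorem f216985 : Led Lsl_dt (LP (LK LD1_c1 LD2_c17 LD3_c19)) = (LP (LK LD1_c2 LD2_c41 LD3_c19)) :=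
  Lre_d IH (LK LD1_c1 LD2_c17 LD3_c19) (LK LD1_c2 LD2_c41 LD3_c19) Lrfl Lrfl
theorem f179128 : Led Lsl_ct (LP (LK LD1_c0 LD2_c35 LD3_c45)) = (LP (LK LD1_c1 LD2_c17 LD3_c19)) :=
  Lre_c IH (LK LD1_c0 LD2_c35 LD3_c45) (LK LD1_c1 LD2_c17 LD3_c19) Lrfl Lrfl
theorem f168351 : Led Lsl_dt (LP (LK LD1_c1 LD2_c17 LD3_c15)) = (LP (LK LD1_c0 LD2_c35 LD3_c44)) :=
  Lre_d IH (LK LD1_c1 LD2_c17 LD3_c15) (LK LD1_c0 LD2_c35 LD3_c44) Lrfl Lrfl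
theorem f168456 : Led Lsl_ct (LP (LK LD1_c2 LD2_c41 LD3_c5)) = (LP (LK LD1_c1 LD2_c17 LD3_c15)) :=
  Lre_c IH (LK LD1_c2 LD2_c41 LD3_c5) (LK LD1_c1 LD2_c17 LD3_c15) Lrfl Lrfl
theorem f222531 : Led Lsl_dt (LP (LK LD1_c4 LD2_c9 LD3_c53)) = (LP (LK LD1_c2 LD2_c41 LD3_c5)) :=
  Lgr Lrot173 (Lpr_cf (f222519 IH) (Lpe (f219977 IH) (Lpe (f53086 IH) (Lpe (f53085 IH) (Lpe (f219930 IH) (Lpe (f219939 IH) (Lpe (f219948 IH) (Lpe (f219949 IH) (Lpr_cf (f216982 IH) (Lpe (f216985 IH) (Lpe (f179128 IH) (Lpe (f216847 IH) (Lpe (f168174 IH) (Lpe (f168351 IH) (Lpe (f168456 IH) (Lpn (LP (LK LD1_c2 LD2_c41 LD3_c5))))))))))))))))))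
theorem f50497 : Led Lsl_ft (LP (LK LD1_c4 LD2_c9 LD3_c54)) = (LP (LK LD1_c5 LD2_c16 LD3_c59)) :=
  Lgr Lrot48 (Lpr_ff (f50421 IH) (Lpn (LP (LK LD1_c5 LD2_c16 LD3_c59))))
theorem f50162 : Led Lsl_af (LP (LK LD1_c4 LD2_c2 LD3_c54)) = (LP (LK LD1_c5 LD2_c16 LD3_c59)) :=
  Lgr Lrot117 (Lpr_dt (f50161 IH) (Lpr_at (K9.f50151 IH) (Lpr_dt (f49328 IH) (Lpn (LP (LK LD1_c5 LD2_c16 LD3_c59))))))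
theorem f50513 : Led Lsl_gt (LP (LK LD1_c8 LD2_c6 LD3_c26)) = (LP (LK LD1_c4 LD2_c2 LD3_c54)) :=
  Lre_g IH (LK LD1_c8 LD2_c6 LD3_c26) (LK LD1_c4 LD2_c2 LD3_c54) Lrfl Lrfl
theorem f50514 : Led Lsl_gt (LP (LK LD1_c4 LD2_c9 LD3_c54)) = (LP (LK LD1_c8 LD2_c6 LD3_c26)) :=
  Lgr Lrot5 (Lpr_ft (f50497 IH) (Lpe (f50162 IH) (Lpe (f50513 IH) (Lpn (LP (LK LD1_c8 LD2_c6 LD3_c26))))))
theorem f1359 : Led Lsl_gt (LP (LK LD1_c0 LD2_c26 LD3_c18)) = (LP (LK LD1_c0 LD2_c57 LD3_c50)) :=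
  Lre_g IH (LK LD1_c0 LD2_c26 LD3_c18) (LK LD1_c0 LD2_c57 LD3_c50) Lrfl Lrfl
theorem f596 : Led Lsl_dt (LP (LK LD1_c0 LD2_c57 LD3_c53)) = (LP (LK LD1_c0 LD2_c26 LD3_c18)) :=
  Lre_d IH (LK LD1_c0 LD2_c57 LD3_c53) (LK LD1_c0 LD2_c26 LD3_c18) Lrfl Lrfl
theorem f1363 : Led Lsl_gt (LP (LK LD1_c2 LD2_c1 LD3_c42)) = (LP (LK LD1_c0 LD2_c57 LD3_c53)) :=
  Lre_g IH (LK LD1_c2 LD2_c1 LD3_c42) (LK LD1_c0 LD2_c57 LD3_c53) Lrfl Lrfl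
theorem f220038 : Led Lsl_ct (LP (LK LD1_c2 LD2_c1 LD3_c42)) = (LP (LK LD1_c4 LD2_c8 LD3_c40)) :=
  Lre_c IH (LK LD1_c2 LD2_c1 LD3_c42) (LK LD1_c4 LD2_c8 LD3_c40) Lrfl Lrfl
theorem f220039 : Led Lsl_gt (LP (LK LD1_c4 LD2_c8 LD3_c40)) = (LP (LK LD1_c8 LD2_c6 LD3_c1)) :=
  Lgr Lrot94 (Lpe (f220038 IH) (Lpr_gt (f1363 IH) (Lpr_dt (f596 IH) (Lpr_gt (f1359 IH) (Lpr_dt (K9.f50517 IH) (Lpe (f51475 IH) (Lpe (f51483 IH) (Lpe (f857 IH) (Lpr_df (f219978 IH) (Lpn (LP (LK LD1_c8 LD2_c6 LD3_c1))))))))))))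
theorem f605 : Led Lsl_gt (LP (LK LD1_c0 LD2_c26 LD3_c19)) = (LP (LK LD1_c0 LD2_c11 LD3_c42)) :=
  Lre_g IH (LK LD1_c0 LD2_c26 LD3_c19) (LK LD1_c0 LD2_c11 LD3_c42) Lrfl Lrfl
theorem f575 : Led Lsl_dt (LP (LK LD1_c0 LD2_c57 LD3_c57)) = (LP (LK LD1_c0 LD2_c26 LD3_c19)) :=
  Lre_d IH (LK LD1_c0 LD2_c57 LD3_c57) (LK LD1_c0 LD2_c26 LD3_c19) Lrfl Lrfl
theorem f220046 : Led Lsl_gf (LP (LK LD1_c2 LD2_c1 LD3_c42)) = (LP (LK LD1_c0 LD2_c57 LD3_c57)) :=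
  Lgr Lrot147 (Lpr_ct (f220038 IH) (Lpr_gt (f220039 IH) (Lpr_ct (f219948 IH) (Lpe (f219947 IH) (Lpe (f212778 IH) (Lpe (f51399 IH) (Lpe (K9.f50128 IH) (Lpe (f605 IH) (Lpe (f575 IH) (Lpn (LP (LK LD1_c0 LD2_c57 LD3_c57))))))))))))
theorem f167094 : Led Lsl_bt (LP (LK LD1_c2 LD2_c1 LD3_c51)) = (LP (LK LD1_c0 LD2_c57 LD3_c57)) :=
  Lre_b IH (LK LD1_c2 LD2_c1 LD3_c51) (LK LD1_c0 LD2_c57 LD3_c57) Lrfl Lrfl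
theorem f167093 : Led Lsl_ct (LP (LK LD1_c2 LD2_c1 LD3_c51)) = (LP (LK LD1_c4 LD2_c8 LD3_c59)) :=
  Lre_c IH (LK LD1_c2 LD2_c1 LD3_c51) (LK LD1_c4 LD2_c8 LD3_c59) Lrfl Lrfl
theorem f167092 : Led Lsl_gt (LP (LK LD1_c4 LD2_c12 LD3_c19)) = (LP (LK LD1_c4 LD2_c8 LD3_c59)) :=
  Lre_g IH (LK LD1_c4 LD2_c12 LD3_c19) (LK LD1_c4 LD2_c8 LD3_c59) Lrfl Lrfl
theorem f167091 : Led Lsl_ct (LP (LK LD1_c2 LD2_c3 LD3_c23)) = (LP (LK LD1_c4 LD2_c12 LD3_c19)) :=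
  Lre_c IH (LK LD1_c2 LD2_c3 LD3_c23) (LK LD1_c4 LD2_c12 LD3_c19) Lrfl Lrfl
theorem f166569 : Led Lsl_gt (LP (LK LD1_c0 LD2_c58 LD3_c40)) = (LP (LK LD1_c2 LD2_c3 LD3_c23)) :=
  Lre_g IH (LK LD1_c0 LD2_c58 LD3_c40) (LK LD1_c2 LD2_c3 LD3_c23) Lrfl Lrfl
theorem f167073 : Led Lsl_bt (LP (LK LD1_c0 LD2_c26 LD3_c36)) = (LP (LK LD1_c0 LD2_c58 LD3_c40)) :=
  Lre_b IH (LK LD1_c0 LD2_c26 LD3_c36) (LK LD1_c0 LD2_c58 LD3_c40) Lrfl Lrfl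
theorem f220052 : Led Lsl_bf (LP (LK LD1_c2 LD2_c1 LD3_c42)) = (LP (LK LD1_c0 LD2_c58 LD3_c6)) :=
  Lgr Lrot34 (Lpr_gf (f220046 IH) (Lpe (f167094 IH) (Lpr_ct (f167093 IH) (Lpe (f167092 IH) (Lpe (f167091 IH) (Lpe (f166569 IH) (Lpe (f167073 IH) (Lpr_ct (K9.f166992 IH) (Lpe (K9.f167076 IH) (Lpe (K9.f53441 IH) (Lpn (LP (LK LD1_c0 LD2_c58 LD3_c6)))))))))))))
theorem f220058 : Led Lsl_bt (LP (LK LD1_c2 LD2_c1 LD3_c42)) = (LP (LK LD1_c0 LD2_c58 LD3_c6)) :=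
  Lgr Lrot127 (Lpr_bf (f220052 IH) (Lpn (LP (LK LD1_c0 LD2_c58 LD3_c6))))
theorem f178389 : Led Lsl_bt (LP (LK LD1_c0 LD2_c36 LD3_c36)) = (LP (LK LD1_c1 LD2_c19 LD3_c11)) :=
  Lre_b IH (LK LD1_c0 LD2_c36 LD3_c36) (LK LD1_c1 LD2_c19 LD3_c11) Lrfl Lrfl
theorem f168352 : Led Lsl_bt (LP (LK LD1_c1 LD2_c10 LD3_c21)) = (LP (LK LD1_c1 LD2_c17 LD3_c15)) :=
  Lgr Lrot95 (Lpe (f168350 IH) (Lpr_bf (f168341 IH) (Lpe (f168351 IH) (Lpn (LP (LK LD1_c1 LD2_c17 LD3_c15))))))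
theorem f168357 : Led Lsl_bf (LP (LK LD1_c1 LD2_c10 LD3_c21)) = (LP (LK LD1_c1 LD2_c17 LD3_c15)) :=
  Lgr Lrot24 (Lpr_bt (f168352 IH) (Lpn (LP (LK LD1_c1 LD2_c17 LD3_c15))))
theorem f220338 : Led Lsl_gf (LP (LK LD1_c4 LD2_c8 LD3_c40)) = (LP (LK LD1_c2 LD2_c41 LD3_c5)) :=
  Lgr Lrot126 (Lpe (f220038 IH) (Lpr_bt (f220058 IH) (Lpr_gt (K9.f53440 IH) (Lpr_ct (K9.f170848 IH) (Lpr_gt (K9.f179102 IH) (Lpe (K9.f170074 IH) (Lpr_bt (f178389 IH) (Lpr_gt (f216419 IH) (Lpr_bf (f168357 IH) (Lpr_ct (f168361 IH) (Lpn (LP (LK LD1_c2 LD2_c41 LD3_c5)))))))))))))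
theorem f220042 : Led Lsl_ct (LP (LK LD1_c4 LD2_c8 LD3_c40)) = (LP (LK LD1_c2 LD2_c1 LD3_c42)) :=
  Lre_c IH (LK LD1_c4 LD2_c8 LD3_c40) (LK LD1_c2 LD2_c1 LD3_c42) Lrfl Lrfl
theorem f53157 : Led Lsl_ct (LP (LK LD1_c0 LD2_c57 LD3_c53)) = (LP (LK LD1_c2 LD2_c1 LD3_c43)) :=
  Lre_c IH (LK LD1_c0 LD2_c57 LD3_c53) (LK LD1_c2 LD2_c1 LD3_c43) Lrfl Lrfl
theorem f724 : Led Lsl_dt (LP (LK LD1_c2 LD2_c1 LD3_c43)) = (LP (LK LD1_c4 LD2_c8 LD3_c45)) :=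
  Lre_d IH (LK LD1_c2 LD2_c1 LD3_c43) (LK LD1_c4 LD2_c8 LD3_c45) Lrfl Lrfl
theorem f222682 : Led Lsl_ct (LP (LK LD1_c8 LD2_c6 LD3_c26)) = (LP (LK LD1_c4 LD2_c8 LD3_c45)) :=
  Lgr Lrot151 (Lpe (f50514 IH) (Lpe (f50510 IH) (Lpe (f1043 IH) (Lpr_dt (f222531 IH) (Lpe (f220338 IH) (Lpr_ct (f220042 IH) (Lpr_gt (f1363 IH) (Lpr_ct (f53157 IH) (Lpr_dt (f724 IH) (Lpn (LP (LK LD1_c4 LD2_c8 LD3_c45))))))))))))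
theorem f222689 : Led Lsl_cf (LP (LK LD1_c8 LD2_c6 LD3_c26)) = (LP (LK LD1_c4 LD2_c8 LD3_c45)) :=
  Lgr Lrot11 (Lpr_ct (f222682 IH) (Lpn (LP (LK LD1_c4 LD2_c8 LD3_c45))))
theorem f190861 : Led Lsl_ct (LP (LK LD1_c2 LD2_c1 LD3_c61)) = (LP (LK LD1_c0 LD2_c57 LD3_c59)) :=
  Lre_c IH (LK LD1_c2 LD2_c1 LD3_c61) (LK LD1_c0 LD2_c57 LD3_c59) Lrfl Lrfl
theorem f222743 : Led Lsl_gt (LP (LK LD1_c4 LD2_c9 LD3_c19)) = (LP (LK LD1_c2 LD2_c1 LD3_c61)) :=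
  Lre_g IH (LK LD1_c4 LD2_c9 LD3_c19) (LK LD1_c2 LD2_c1 LD3_c61) Lrfl Lrfl
theorem f725 : Led Lsl_gt (LP (LK LD1_c8 LD2_c17 LD3_c38)) = (LP (LK LD1_c4 LD2_c8 LD3_c45)) :=
  Lre_g IH (LK LD1_c8 LD2_c17 LD3_c38) (LK LD1_c4 LD2_c8 LD3_c45) Lrfl Lrfl
theorem f222744 : Led Lsl_dt (LP (LK LD1_c4 LD2_c9 LD3_c19)) = (LP (LK LD1_c8 LD2_c17 LD3_c38)) :=
  Lgr Lrot6 (Lpr_gt (f222743 IH) (Lpr_ct (f190861 IH) (Lpr_gt (K9.f51460 IH) (Lpr_ct (K9.f50516 IH) (Lpe (f51483 IH) (Lpe (f50408 IH) (Lpe (f50513 IH) (Lpr_cf (f222689 IH) (Lpe (f725 IH) (Lpn (LP (LK LD1_c8 LD2_c17 LD3_c38))))))))))))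
theorem f220131 : Led Lsl_dt (LP (LK LD1_c4 LD2_c8 LD3_c45)) = (LP (LK LD1_c2 LD2_c1 LD3_c43)) :=
  Lre_d IH (LK LD1_c4 LD2_c8 LD3_c45) (LK LD1_c2 LD2_c1 LD3_c43) Lrfl Lrfl
theorem f1433 : Led Lsl_dt (LP (LK LD1_c0 LD2_c26 LD3_c18)) = (LP (LK LD1_c0 LD2_c57 LD3_c53)) :=
  Lre_d IH (LK LD1_c0 LD2_c26 LD3_c18) (LK LD1_c0 LD2_c57 LD3_c53) Lrfl Lrfl
theorem f595 : Led Lsl_gt (LP (LK LD1_c0 LD2_c11 LD3_c42)) = (LP (LK LD1_c0 LD2_c26 LD3_c18)) :=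
  Lre_g IH (LK LD1_c0 LD2_c11 LD3_c42) (LK LD1_c0 LD2_c26 LD3_c18) Lrfl Lrfl
theorem f594 : Led Lsl_dt (LP (LK LD1_c0 LD2_c26 LD3_c20)) = (LP (LK LD1_c0 LD2_c11 LD3_c42)) :=
  Lre_d IH (LK LD1_c0 LD2_c26 LD3_c20) (LK LD1_c0 LD2_c11 LD3_c42) Lrfl Lrfl
theorem f651 : Led Lsl_gt (LP (LK LD1_c0 LD2_c57 LD3_c60)) = (LP (LK LD1_c0 LD2_c26 LD3_c20)) :=
  Lre_g IH (LK LD1_c0 LD2_c57 LD3_c60) (LK LD1_c0 LD2_c26 LD3_c20) Lrfl Lrfl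
theorem f222785 : Led Lsl_ct (LP (LK LD1_c2 LD2_c2 LD3_c3)) = (LP (LK LD1_c0 LD2_c57 LD3_c60)) :=
  Lre_c IH (LK LD1_c2 LD2_c2 LD3_c3) (LK LD1_c0 LD2_c57 LD3_c60) Lrfl Lrfl
theorem f222786 : Led Lsl_gf (LP (LK LD1_c4 LD2_c9 LD3_c19)) = (LP (LK LD1_c2 LD2_c2 LD3_c3)) :=
  Lgr Lrot144 (Lpr_dt (f222744 IH) (Lpr_gt (f725 IH) (Lpr_dt (f220131 IH) (Lpe (f53157 IH) (Lpe (f1433 IH) (Lpe (f595 IH) (Lpe (f594 IH) (Lpe (f651 IH) (Lpe (f222785 IH) (Lpn (LP (LK LD1_c2 LD2_c2 LD3_c3))))))))))))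
theorem f53416 : Led Lsl_ct (LP (LK LD1_c0 LD2_c57 LD3_c60)) = (LP (LK LD1_c2 LD2_c2 LD3_c3)) :=
  Lre_c IH (LK LD1_c0 LD2_c57 LD3_c60) (LK LD1_c2 LD2_c2 LD3_c3) Lrfl Lrfl
theorem f51458 : Led Lsl_gt (LP (LK LD1_c2 LD2_c1 LD3_c35)) = (LP (LK LD1_c0 LD2_c57 LD3_c60)) :=
  Lre_g IH (LK LD1_c2 LD2_c1 LD3_c35) (LK LD1_c0 LD2_c57 LD3_c60) Lrfl Lrfl
theorem f53401 : Led Lsl_gt (LP (LK LD1_c2 LD2_c5 LD3_c31)) = (LP (LK LD1_c4 LD2_c15 LD3_c35)) :=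
  Lre_g IH (LK LD1_c2 LD2_c5 LD3_c31) (LK LD1_c4 LD2_c15 LD3_c35) Lrfl Lrfl
theorem f48031 : Led Lsl_at (LP (LK LD1_c4 LD2_c50 LD3_c30)) = (LP (LK LD1_c4 LD2_c6 LD3_c8)) :=
  Lgr Lrot100 (Lpr_af (K10.f48029 IH) (Lpn (LP (LK LD1_c4 LD2_c6 LD3_c8))))
theorem f218094 : Led Lsl_ff (LP (LK LD1_c4 LD2_c50 LD3_c30)) = (LP (LK LD1_c5 LD2_c29 LD3_c30)) :=
  Lgr Lrot30 (Lpr_at (f48031 IH) (Lpe (f188855 IH) (Lpr_at (f218087 IH) (Lpn (LP (LK LD1_c5 LD2_c29 LD3_c30))))))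
theorem f218099 : Led Lsl_ft (LP (LK LD1_c4 LD2_c50 LD3_c30)) = (LP (LK LD1_c5 LD2_c29 LD3_c30)) :=
  Lgr Lrot48 (Lpr_ff (f218094 IH) (Lpn (LP (LK LD1_c5 LD2_c29 LD3_c30))))
theorem f221836 : Led Lsl_gt (LP (LK LD1_c4 LD2_c50 LD3_c30)) = (LP (LK LD1_c8 LD2_c31 LD3_c57)) :=
  Lgr Lrot5 (Lpr_ft (f218099 IH) (Lpe (f218089 IH) (Lpr_gf (f221832 IH) (Lpn (LP (LK LD1_c8 LD2_c31 LD3_c57))))))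
theorem f53624 : Led Lsl_at (LP (LK LD1_c2 LD2_c35 LD3_c20)) = (LP (LK LD1_c2 LD2_c35 LD3_c21)) :=
  Lgr Lrot100 (Lpr_af (K10.f53622 IH) (Lpn (LP (LK LD1_c2 LD2_c35 LD3_c21))))
theorem f53812 : Led Lsl_bf (LP (LK LD1_c4 LD2_c50 LD3_c30)) = (LP (LK LD1_c2 LD2_c35 LD3_c21)) :=
  Lgr Lrot81 (Lpr_at (f48031 IH) (Lpr_bt (f48034 IH) (Lpr_at (K10.f53769 IH) (Lpe (f53738 IH) (Lpr_at (f53624 IH) (Lpn (LP (LK LD1_c2 LD2_c35 LD3_c21))))))))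
theorem f222805 : Led Lsl_cf (LP (LK LD1_c4 LD2_c9 LD3_c19)) = (LP (LK LD1_c2 LD2_c35 LD3_c21)) :=
  Lgr Lrot163 (Lpr_gf (f222786 IH) (Lpe (f53416 IH) (Lpe (f51458 IH) (Lpr_bf (K9.f51473 IH) (Lpr_ct (K9.f51477 IH) (Lpe (f53401 IH) (Lpe (f53417 IH) (Lpr_bt (f53418 IH) (Lpe (f221836 IH) (Lpr_bf (f53812 IH) (Lpn (LP (LK LD1_c2 LD2_c35 LD3_c21)))))))))))))
theorem f213759 : Led Lsl_ff (LP (LK LD1_c2 LD2_c35 LD3_c21)) = (LP (LK LD1_c2 LD2_c41 LD3_c2)) :=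
  Lgr Lrot19 (Lpr_dt (K10.f48164 IH) (Lpr_ft (f212857 IH) (Lpr_dt (f212843 IH) (Lpn (LP (LK LD1_c2 LD2_c41 LD3_c2))))))
theorem f213051 : Led Lsl_ct (LP (LK LD1_c5 LD2_c29 LD3_c31)) = (LP (LK LD1_c2 LD2_c41 LD3_c2)) :=
  Lre_c IH (LK LD1_c5 LD2_c29 LD3_c31) (LK LD1_c2 LD2_c41 LD3_c2) Lrfl Lrfl
theorem f222814 : Led Lsl_ft (LP (LK LD1_c4 LD2_c9 LD3_c19)) = (LP (LK LD1_c5 LD2_c29 LD3_c31)) :=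
  Lgr Lrot4 (Lpr_cf (f222805 IH) (Lpr_ff (f213759 IH) (Lpe (f213051 IH) (Lpn (LP (LK LD1_c5 LD2_c29 LD3_c31))))))
theorem f222823 : Led Lsl_af (LP (LK LD1_c4 LD2_c9 LD3_c18)) = (LP (LK LD1_c5 LD2_c29 LD3_c31)) :=
  Lgr Lrot31 (Lpe (f167241 IH) (Lpe (f222743 IH) (Lpr_ft (f222814 IH) (Lpn (LP (LK LD1_c5 LD2_c29 LD3_c31))))))
theorem f222830 : Led Lsl_et (LP (LK LD1_c4 LD2_c9 LD3_c18)) = (LP (LK LD1_c8 LD2_c18 LD3_c38)) :=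
  Lre_e IH (LK LD1_c4 LD2_c9 LD3_c18) (LK LD1_c8 LD2_c18 LD3_c38) Lrfl Lrfl
theorem f222265 : Led Lsl_et (LP (LK LD1_c10 LD2_c50 LD3_c20)) = (LP (LK LD1_c5 LD2_c29 LD3_c31)) :=
  Lre_e IH (LK LD1_c10 LD2_c50 LD3_c20) (LK LD1_c5 LD2_c29 LD3_c31) Lrfl Lrfl
theorem f222831 : Led Lsl_at (LP (LK LD1_c8 LD2_c18 LD3_c38)) = (LP (LK LD1_c10 LD2_c50 LD3_c20)) :=
  Lgr Lrot80 (Lpe (f222830 IH) (Lpr_af (f222823 IH) (Lpe (f222265 IH) (Lpn (LP (LK LD1_c10 LD2_c50 LD3_c20))))))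
theorem f222205 : Led Lsl_ct (LP (LK LD1_c8 LD2_c25 LD3_c6)) = (LP (LK LD1_c8 LD2_c18 LD3_c38)) :=
  Lre_c IH (LK LD1_c8 LD2_c25 LD3_c6) (LK LD1_c8 LD2_c18 LD3_c38) Lrfl Lrfl
theorem f212838 : Led Lsl_ct (LP (LK LD1_c10 LD2_c50 LD3_c20)) = (LP (LK LD1_c5 LD2_c29 LD3_c32)) :=
  Lre_c IH (LK LD1_c10 LD2_c50 LD3_c20) (LK LD1_c5 LD2_c29 LD3_c32) Lrfl Lrfl
theorem f222835 : Led Lsl_af (LP (LK LD1_c8 LD2_c25 LD3_c6)) = (LP (LK LD1_c5 LD2_c29 LD3_c32)) :=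
  Lgr Lrot68 (Lpr_ct (f222205 IH) (Lpr_at (f222831 IH) (Lpr_ct (f212838 IH) (Lpn (LP (LK LD1_c5 LD2_c29 LD3_c32))))))
theorem f222196 : Led Lsl_bt (LP (LK LD1_c8 LD2_c25 LD3_c6)) = (LP (LK LD1_c4 LD2_c12 LD3_c57)) :=
  Lre_b IH (LK LD1_c8 LD2_c25 LD3_c6) (LK LD1_c4 LD2_c12 LD3_c57) Lrfl Lrfl
theorem f212834 : Led Lsl_bt (LP (LK LD1_c10 LD2_c50 LD3_c17)) = (LP (LK LD1_c5 LD2_c29 LD3_c32)) :=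
  Lre_b IH (LK LD1_c10 LD2_c50 LD3_c17) (LK LD1_c5 LD2_c29 LD3_c32) Lrfl Lrfl
theorem f188796 : Led Lsl_et (LP (LK LD1_c8 LD2_c35 LD3_c54)) = (LP (LK LD1_c4 LD2_c18 LD3_c35)) :=
  Lre_e IH (LK LD1_c8 LD2_c35 LD3_c54) (LK LD1_c4 LD2_c18 LD3_c35) Lrfl Lrfl
theorem f212831 : Led Lsl_et (LP (LK LD1_c5 LD2_c29 LD3_c30)) = (LP (LK LD1_c10 LD2_c50 LD3_c17)) :=
  Lre_e IH (LK LD1_c5 LD2_c29 LD3_c30) (LK LD1_c10 LD2_c50 LD3_c17) Lrfl Lrfl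
theorem f218092 : Led Lsl_af (LP (LK LD1_c8 LD2_c35 LD3_c54)) = (LP (LK LD1_c10 LD2_c50 LD3_c17)) :=
  Lgr Lrot50 (Lpr_et (f188796 IH) (Lpr_at (f218087 IH) (Lpr_et (f212831 IH) (Lpn (LP (LK LD1_c10 LD2_c50 LD3_c17))))))
theorem f218110 : Led Lsl_at (LP (LK LD1_c8 LD2_c35 LD3_c54)) = (LP (LK LD1_c10 LD2_c50 LD3_c17)) :=
  Lgr Lrot100 (Lpr_af (f218092 IH) (Lpn (LP (LK LD1_c10 LD2_c50 LD3_c17))))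
theorem f222839 : Led Lsl_at (LP (LK LD1_c4 LD2_c12 LD3_c57)) = (LP (LK LD1_c4 LD2_c18 LD3_c38)) :=
  Lgr Lrot67 (Lpe (f222196 IH) (Lpr_af (f222835 IH) (Lpe (f212834 IH) (Lpe (f218110 IH) (Lpe (f188786 IH) (Lpn (LP (LK LD1_c4 LD2_c18 LD3_c38))))))))
theorem f222200 : Led Lsl_ct (LP (LK LD1_c8 LD2_c25 LD3_c9)) = (LP (LK LD1_c4 LD2_c12 LD3_c57)) :=
  Lre_c IH (LK LD1_c8 LD2_c25 LD3_c9) (LK LD1_c4 LD2_c12 LD3_c57) Lrfl Lrfl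
theorem f188790 : Led Lsl_ct (LP (LK LD1_c4 LD2_c18 LD3_c38)) = (LP (LK LD1_c8 LD2_c35 LD3_c58)) :=
  Lre_c IH (LK LD1_c4 LD2_c18 LD3_c38) (LK LD1_c8 LD2_c35 LD3_c58) Lrfl Lrfl
theorem f222843 : Led Lsl_af (LP (LK LD1_c8 LD2_c25 LD3_c9)) = (LP (LK LD1_c8 LD2_c35 LD3_c58)) :=
  Lgr Lrot68 (Lpr_ct (f222200 IH) (Lpr_at (f222839 IH) (Lpr_ct (f188790 IH) (Lpn (LP (LK LD1_c8 LD2_c35 LD3_c58))))))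
theorem f222847 : Led Lsl_et (LP (LK LD1_c8 LD2_c25 LD3_c9)) = (LP (LK LD1_c4 LD2_c12 LD3_c56)) :=
  Lre_e IH (LK LD1_c8 LD2_c25 LD3_c9) (LK LD1_c4 LD2_c12 LD3_c56) Lrfl Lrfl
theorem f188864 : Led Lsl_et (LP (LK LD1_c4 LD2_c18 LD3_c37)) = (LP (LK LD1_c8 LD2_c35 LD3_c58)) :=
  Lre_e IH (LK LD1_c4 LD2_c18 LD3_c37) (LK LD1_c8 LD2_c35 LD3_c58) Lrfl Lrfl
theorem f222848 : Led Lsl_at (LP (LK LD1_c4 LD2_c12 LD3_c56)) = (LP (LK LD1_c4 LD2_c18 LD3_c37)) :=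
  Lgr Lrot80 (Lpe (f222847 IH) (Lpr_af (f222843 IH) (Lpe (f188864 IH) (Lpn (LP (LK LD1_c4 LD2_c18 LD3_c37))))))
theorem f222213 : Led Lsl_dt (LP (LK LD1_c8 LD2_c25 LD3_c8)) = (LP (LK LD1_c4 LD2_c12 LD3_c56)) :=
  Lre_d IH (LK LD1_c8 LD2_c25 LD3_c8) (LK LD1_c4 LD2_c12 LD3_c56) Lrfl Lrfl
theorem f188828 : Led Lsl_dt (LP (LK LD1_c4 LD2_c18 LD3_c37)) = (LP (LK LD1_c8 LD2_c35 LD3_c57)) :=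
  Lre_d IH (LK LD1_c4 LD2_c18 LD3_c37) (LK LD1_c8 LD2_c35 LD3_c57) Lrfl Lrfl
theorem f222859 : Led Lsl_af (LP (LK LD1_c8 LD2_c25 LD3_c8)) = (LP (LK LD1_c8 LD2_c35 LD3_c57)) :=
  Lgr Lrot117 (Lpr_dt (f222213 IH) (Lpr_at (f222848 IH) (Lpr_dt (f188828 IH) (Lpn (LP (LK LD1_c8 LD2_c35 LD3_c57))))))
theorem f188813 : Led Lsl_dt (LP (LK LD1_c8 LD2_c35 LD3_c57)) = (LP (LK LD1_c4 LD2_c18 LD3_c37)) :=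
  Lre_d IH (LK LD1_c8 LD2_c35 LD3_c57) (LK LD1_c4 LD2_c18 LD3_c37) Lrfl Lrfl
theorem f53804 : Led Lsl_dt (LP (LK LD1_c4 LD2_c6 LD3_c10)) = (LP (LK LD1_c8 LD2_c12 LD3_c60)) :=
  Lre_d IH (LK LD1_c4 LD2_c6 LD3_c10) (LK LD1_c8 LD2_c12 LD3_c60) Lrfl Lrfl
theorem f188870 : Led Lsl_ff (LP (LK LD1_c8 LD2_c35 LD3_c57)) = (LP (LK LD1_c8 LD2_c12 LD3_c60)) :=
  Lgr Lrot19 (Lpr_dt (f188813 IH) (Lpr_ft (f188865 IH) (Lpr_dt (f53804 IH) (Lpn (LP (LK LD1_c8 LD2_c12 LD3_c60))))))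
theorem f53776 : Led Lsl_dt (LP (LK LD1_c8 LD2_c12 LD3_c60)) = (LP (LK LD1_c4 LD2_c6 LD3_c10)) :=
  Lre_d IH (LK LD1_c8 LD2_c12 LD3_c60) (LK LD1_c4 LD2_c6 LD3_c10) Lrfl Lrfl
theorem f44502 : Led Lsl_dt (LP (LK LD1_c4 LD2_c6 LD3_c11)) = (LP (LK LD1_c8 LD2_c13 LD3_c0)) :=
  Lre_d IH (LK LD1_c4 LD2_c6 LD3_c11) (LK LD1_c8 LD2_c13 LD3_c0) Lrfl Lrfl
theorem f53783 : Led Lsl_af (LP (LK LD1_c8 LD2_c12 LD3_c60)) = (LP (LK LD1_c8 LD2_c13 LD3_c0)) :=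
  Lgr Lrot117 (Lpr_dt (f53776 IH) (Lpr_at (f53772 IH) (Lpr_dt (f44502 IH) (Lpn (LP (LK LD1_c8 LD2_c13 LD3_c0))))))
theorem f222867 : Led Lsl_ft (LP (LK LD1_c8 LD2_c25 LD3_c8)) = (LP (LK LD1_c8 LD2_c13 LD3_c0)) :=
  Lgr Lrot101 (Lpr_af (f222859 IH) (Lpr_ff (f188870 IH) (Lpr_af (f53783 IH) (Lpn (LP (LK LD1_c8 LD2_c13 LD3_c0))))))
theorem f222876 : Led Lsl_ff (LP (LK LD1_c8 LD2_c25 LD3_c8)) = (LP (LK LD1_c8 LD2_c13 LD3_c0)) :=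
  Lgr Lrot3 (Lpr_ft (f222867 IH) (Lpn (LP (LK LD1_c8 LD2_c13 LD3_c0))))
theorem f222863 : Led Lsl_bt (LP (LK LD1_c8 LD2_c25 LD3_c8)) = (LP (LK LD1_c15 LD2_c49 LD3_c11)) :=
  Lre_b IH (LK LD1_c8 LD2_c25 LD3_c8) (LK LD1_c15 LD2_c49 LD3_c11) Lrfl Lrfl
theorem f53788 : Led Lsl_bt (LP (LK LD1_c15 LD2_c27 LD3_c24)) = (LP (LK LD1_c8 LD2_c13 LD3_c0)) :=
  Lre_b IH (LK LD1_c15 LD2_c27 LD3_c24) (LK LD1_c8 LD2_c13 LD3_c0) Lrfl Lrfl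
theorem f222878 : Led Lsl_ft (LP (LK LD1_c15 LD2_c49 LD3_c11)) = (LP (LK LD1_c15 LD2_c27 LD3_c24)) :=
  Lgr Lrot75 (Lpe (f222863 IH) (Lpr_ff (f222876 IH) (Lpe (f53788 IH) (Lpn (LP (LK LD1_c15 LD2_c27 LD3_c24))))))
theorem f222880 : Led Lsl_dt (LP (LK LD1_c8 LD2_c25 LD3_c7)) = (LP (LK LD1_c15 LD2_c49 LD3_c11)) :=
  Lre_d IH (LK LD1_c8 LD2_c25 LD3_c7) (LK LD1_c15 LD2_c49 LD3_c11) Lrfl Lrfl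
theorem f53751 : Led Lsl_dt (LP (LK LD1_c15 LD2_c27 LD3_c24)) = (LP (LK LD1_c8 LD2_c12 LD3_c61)) :=
  Lre_d IH (LK LD1_c15 LD2_c27 LD3_c24) (LK LD1_c8 LD2_c12 LD3_c61) Lrfl Lrfl
theorem f222881 : Led Lsl_ff (LP (LK LD1_c8 LD2_c25 LD3_c7)) = (LP (LK LD1_c8 LD2_c12 LD3_c61)) :=
  Lgr Lrot19 (Lpr_dt (f222880 IH) (Lpr_ft (f222878 IH) (Lpr_dt (f53751 IH) (Lpn (LP (LK LD1_c8 LD2_c12 LD3_c61))))))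
theorem f222888 : Led Lsl_ft (LP (LK LD1_c8 LD2_c25 LD3_c7)) = (LP (LK LD1_c8 LD2_c12 LD3_c61)) :=
  Lgr Lrot48 (Lpr_ff (f222881 IH) (Lpn (LP (LK LD1_c8 LD2_c12 LD3_c61))))
theorem f222890 : Led Lsl_ct (LP (LK LD1_c8 LD2_c18 LD3_c37)) = (LP (LK LD1_c8 LD2_c25 LD3_c7)) :=
  Lre_c IH (LK LD1_c8 LD2_c18 LD3_c37) (LK LD1_c8 LD2_c25 LD3_c7) Lrfl Lrfl
theorem f44941 : Led Lsl_ct (LP (LK LD1_c5 LD2_c17 LD3_c11)) = (LP (LK LD1_c2 LD2_c35 LD3_c20)) :=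
  Lre_c IH (LK LD1_c5 LD2_c17 LD3_c11) (LK LD1_c2 LD2_c35 LD3_c20) Lrfl Lrfl
theorem f53740 : Led Lsl_bt (LP (LK LD1_c10 LD2_c24 LD3_c0)) = (LP (LK LD1_c5 LD2_c17 LD3_c11)) :=
  Lre_b IH (LK LD1_c10 LD2_c24 LD3_c0) (LK LD1_c5 LD2_c17 LD3_c11) Lrfl Lrfl
theorem f53741 : Led Lsl_bt (LP (LK LD1_c4 LD2_c6 LD3_c11)) = (LP (LK LD1_c8 LD2_c12 LD3_c61)) :=
  Lre_b IH (LK LD1_c4 LD2_c6 LD3_c11) (LK LD1_c8 LD2_c12 LD3_c61) Lrfl Lrfl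
theorem f53742 : Led Lsl_cf (LP (LK LD1_c10 LD2_c24 LD3_c0)) = (LP (LK LD1_c8 LD2_c12 LD3_c61)) :=
  Lgr Lrot97 (Lpr_bt (f53740 IH) (Lpr_ct (f44941 IH) (Lpr_bt (K10.f53734 IH) (Lpr_ct (f44501 IH) (Lpr_bt (f53741 IH) (Lpn (LP (LK LD1_c8 LD2_c12 LD3_c61))))))))
theorem f222891 : Led Lsl_ff (LP (LK LD1_c8 LD2_c18 LD3_c37)) = (LP (LK LD1_c10 LD2_c24 LD3_c0)) :=
  Lgr Lrot23 (Lpr_ct (f222890 IH) (Lpr_ft (f222888 IH) (Lpe (f53742 IH) (Lpn (LP (LK LD1_c10 LD2_c24 LD3_c0))))))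
theorem f222896 : Led Lsl_bt (LP (LK LD1_c8 LD2_c18 LD3_c37)) = (LP (LK LD1_c4 LD2_c9 LD3_c18)) :=
  Lre_b IH (LK LD1_c8 LD2_c18 LD3_c37) (LK LD1_c4 LD2_c9 LD3_c18) Lrfl Lrfl
theorem f53763 : Led Lsl_bt (LP (LK LD1_c5 LD2_c17 LD3_c11)) = (LP (LK LD1_c10 LD2_c24 LD3_c0)) :=
  Lre_b IH (LK LD1_c5 LD2_c17 LD3_c11) (LK LD1_c10 LD2_c24 LD3_c0) Lrfl Lrfl
theorem f222897 : Led Lsl_ft (LP (LK LD1_c4 LD2_c9 LD3_c18)) = (LP (LK LD1_c5 LD2_c17 LD3_c11)) :=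
  Lgr Lrot75 (Lpe (f222896 IH) (Lpr_ff (f222891 IH) (Lpe (f53763 IH) (Lpn (LP (LK LD1_c5 LD2_c17 LD3_c11))))))
theorem f222901 : Led Lsl_af (LP (LK LD1_c4 LD2_c9 LD3_c19)) = (LP (LK LD1_c5 LD2_c17 LD3_c11)) :=
  Lgr Lrot45 (Lpr_ft (f222814 IH) (Lpe (f222823 IH) (Lpr_ft (f222897 IH) (Lpn (LP (LK LD1_c5 LD2_c17 LD3_c11))))))
theorem f44942 : Led Lsl_dt (LP (LK LD1_c10 LD2_c24 LD3_c1)) = (LP (LK LD1_c5 LD2_c17 LD3_c11)) :=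
  Lre_d IH (LK LD1_c10 LD2_c24 LD3_c1) (LK LD1_c5 LD2_c17 LD3_c11) Lrfl Lrfl
theorem f222961 : Led Lsl_at (LP (LK LD1_c8 LD2_c17 LD3_c38)) = (LP (LK LD1_c10 LD2_c24 LD3_c1)) :=
  Lgr Lrot51 (Lpe (f222744 IH) (Lpr_af (f222901 IH) (Lpe (f44942 IH) (Lpn (LP (LK LD1_c10 LD2_c24 LD3_c1))))))
theorem f856 : Led Lsl_dt (LP (LK LD1_c4 LD2_c8 LD3_c26)) = (LP (LK LD1_c8 LD2_c6 LD3_c27)) :=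
  Lre_d IH (LK LD1_c4 LD2_c8 LD3_c26) (LK LD1_c8 LD2_c6 LD3_c27) Lrfl Lrfl
theorem f222746 : Led Lsl_df (LP (LK LD1_c4 LD2_c9 LD3_c19)) = (LP (LK LD1_c8 LD2_c17 LD3_c38)) :=
  Lgr Lrot155 (Lpr_gt (f222743 IH) (Lpr_ct (f190861 IH) (Lpr_gt (K9.f51460 IH) (Lpr_ct (K9.f50516 IH) (Lpr_dt (f856 IH) (Lpe (f50408 IH) (Lpe (f50513 IH) (Lpr_cf (f222689 IH) (Lpe (f725 IH) (Lpn (LP (LK LD1_c8 LD2_c17 LD3_c38))))))))))))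
theorem f212872 : Led Lsl_dt (LP (LK LD1_c5 LD2_c29 LD3_c31)) = (LP (LK LD1_c10 LD2_c50 LD3_c19)) :=
  Lre_d IH (LK LD1_c5 LD2_c29 LD3_c31) (LK LD1_c10 LD2_c50 LD3_c19) Lrfl Lrfl
theorem f222819 : Led Lsl_ff (LP (LK LD1_c8 LD2_c17 LD3_c38)) = (LP (LK LD1_c10 LD2_c50 LD3_c19)) :=
  Lgr Lrot19 (Lpe (f222746 IH) (Lpr_ft (f222814 IH) (Lpr_dt (f212872 IH) (Lpn (LP (LK LD1_c10 LD2_c50 LD3_c19))))))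
theorem f222234 : Led Lsl_at (LP (LK LD1_c2 LD2_c1 LD3_c38)) = (LP (LK LD1_c1 LD2_c18 LD3_c9)) :=
  Lgr Lrot66 (Lpr_ff (f222232 IH) (Lpr_af (K9.f53608 IH) (Lpr_ff (f212855 IH) (Lpn (LP (LK LD1_c1 LD2_c18 LD3_c9))))))
theorem f222242 : Led Lsl_gf (LP (LK LD1_c1 LD2_c18 LD3_c9)) = (LP (LK LD1_c2 LD2_c1 LD3_c27)) :=
  Lgr Lrot76 (Lpe (f222234 IH) (Lpr_ff (f222232 IH) (Lpr_gt (f189685 IH) (Lpn (LP (LK LD1_c2 LD2_c1 LD3_c27))))))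
theorem f1325 : Led Lsl_gt (LP (LK LD1_c0 LD2_c57 LD3_c49)) = (LP (LK LD1_c2 LD2_c1 LD3_c32)) :=
  Lre_g IH (LK LD1_c0 LD2_c57 LD3_c49) (LK LD1_c2 LD2_c1 LD3_c32) Lrfl Lrfl
theorem f53450 : Led Lsl_ct (LP (LK LD1_c2 LD2_c1 LD3_c32)) = (LP (LK LD1_c4 LD2_c8 LD3_c18)) :=
  Lre_c IH (LK LD1_c2 LD2_c1 LD3_c32) (LK LD1_c4 LD2_c8 LD3_c18) Lrfl Lrfl
theorem f222246 : Led Lsl_gf (LP (LK LD1_c5 LD2_c29 LD3_c31)) = (LP (LK LD1_c4 LD2_c8 LD3_c18)) :=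
  Lgr Lrot104 (Lpr_ct (f213051 IH) (Lpe (f212843 IH) (Lpe (f212775 IH) (Lpr_gf (f222242 IH) (Lpe (f47726 IH) (Lpe (f773 IH) (Lpe (K9.f766 IH) (Lpr_gt (f1325 IH) (Lpr_ct (f53450 IH) (Lpn (LP (LK LD1_c4 LD2_c8 LD3_c18))))))))))))
theorem f51409 : Led Lsl_gt (LP (LK LD1_c2 LD2_c1 LD3_c32)) = (LP (LK LD1_c0 LD2_c58 LD3_c0)) :=
  Lre_g IH (LK LD1_c2 LD2_c1 LD3_c32) (LK LD1_c0 LD2_c58 LD3_c0) Lrfl Lrfl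
theorem f50142 : Led Lsl_dt (LP (LK LD1_c0 LD2_c58 LD3_c0)) = (LP (LK LD1_c0 LD2_c26 LD3_c21)) :=
  Lre_d IH (LK LD1_c0 LD2_c58 LD3_c0) (LK LD1_c0 LD2_c26 LD3_c21) Lrfl Lrfl
theorem f50153 : Led Lsl_dt (LP (LK LD1_c0 LD2_c57 LD3_c48)) = (LP (LK LD1_c2 LD2_c1 LD3_c30)) :=
  Lre_d IH (LK LD1_c0 LD2_c57 LD3_c48) (LK LD1_c2 LD2_c1 LD3_c30) Lrfl Lrfl
theorem f222250 : Led Lsl_ct (LP (LK LD1_c4 LD2_c8 LD3_c15)) = (LP (LK LD1_c2 LD2_c1 LD3_c30)) :=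
  Lre_c IH (LK LD1_c4 LD2_c8 LD3_c15) (LK LD1_c2 LD2_c1 LD3_c30) Lrfl Lrfl
theorem f222251 : Led Lsl_dt (LP (LK LD1_c8 LD2_c16 LD3_c33)) = (LP (LK LD1_c4 LD2_c8 LD3_c15)) :=
  Lre_d IH (LK LD1_c8 LD2_c16 LD3_c33) (LK LD1_c4 LD2_c8 LD3_c15) Lrfl Lrfl
theorem f222252 : Led Lsl_gt (LP (LK LD1_c10 LD2_c50 LD3_c19)) = (LP (LK LD1_c8 LD2_c16 LD3_c33)) :=
  Lgr Lrot49 (Lpe (f212872 IH) (Lpr_gf (f222246 IH) (Lpe (f53450 IH) (Lpr_gt (f51409 IH) (Lpr_dt (f50142 IH) (Lpr_gt (K9.f51615 IH) (Lpr_dt (f50153 IH) (Lpe (f222250 IH) (Lpe (f222251 IH) (Lpn (LP (LK LD1_c8 LD2_c16 LD3_c33))))))))))))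
theorem f222970 : Led Lsl_gt (LP (LK LD1_c8 LD2_c16 LD3_c33)) = (LP (LK LD1_c10 LD2_c24 LD3_c1)) :=
  Lgr Lrot46 (Lpe (f222252 IH) (Lpe (f222819 IH) (Lpr_at (f222961 IH) (Lpn (LP (LK LD1_c10 LD2_c24 LD3_c1))))))
theorem f222258 : Led Lsl_dt (LP (LK LD1_c4 LD2_c8 LD3_c15)) = (LP (LK LD1_c8 LD2_c16 LD3_c33)) :=
  Lre_d IH (LK LD1_c4 LD2_c8 LD3_c15) (LK LD1_c8 LD2_c16 LD3_c33) Lrfl Lrfl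
theorem f44944 : Led Lsl_ct (LP (LK LD1_c2 LD2_c35 LD3_c20)) = (LP (LK LD1_c5 LD2_c17 LD3_c11)) :=
  Lre_c IH (LK LD1_c2 LD2_c35 LD3_c20) (LK LD1_c5 LD2_c17 LD3_c11) Lrfl Lrfl
theorem f213767 : Led Lsl_ct (LP (LK LD1_c5 LD2_c29 LD3_c36)) = (LP (LK LD1_c2 LD2_c41 LD3_c4)) :=
  Lre_c IH (LK LD1_c5 LD2_c29 LD3_c36) (LK LD1_c2 LD2_c41 LD3_c4) Lrfl Lrfl
theorem f222972 : Led Lsl_gf (LP (LK LD1_c4 LD2_c8 LD3_c15)) = (LP (LK LD1_c5 LD2_c29 LD3_c36)) :=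
  Lgr Lrot144 (Lpr_dt (f222258 IH) (Lpr_gt (f222970 IH) (Lpr_dt (f44942 IH) (Lpe (f44944 IH) (Lpe (K10.f32137 IH) (Lpr_gf (f213765 IH) (Lpe (f168351 IH) (Lpe (f168373 IH) (Lpe (f213767 IH) (Lpn (LP (LK LD1_c5 LD2_c29 LD3_c36))))))))))))
theorem f806 : Led Lsl_dt (LP (LK LD1_c2 LD2_c1 LD3_c30)) = (LP (LK LD1_c0 LD2_c57 LD3_c48)) :=
  Lre_d IH (LK LD1_c2 LD2_c1 LD3_c30) (LK LD1_c0 LD2_c57 LD3_c48) Lrfl Lrfl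
theorem f42733 : Led Lsl_gt (LP (LK LD1_c0 LD2_c54 LD3_c42)) = (LP (LK LD1_c0 LD2_c24 LD3_c43)) :=
  Lre_g IH (LK LD1_c0 LD2_c54 LD3_c42) (LK LD1_c0 LD2_c24 LD3_c43) Lrfl Lrfl
theorem f42740 : Led Lsl_bt (LP (LK LD1_c1 LD2_c55 LD3_c58)) = (LP (LK LD1_c0 LD2_c54 LD3_c42)) :=
  Lre_b IH (LK LD1_c1 LD2_c55 LD3_c58) (LK LD1_c0 LD2_c54 LD3_c42) Lrfl Lrfl
theorem f182198 : Led Lsl_ct (LP (LK LD1_c1 LD2_c55 LD3_c58)) = (LP (LK LD1_c0 LD2_c57 LD3_c48)) :=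
  Lgr Lrot10 (Lpr_bt (f42740 IH) (Lpr_gt (f42733 IH) (Lpe (K9.f42718 IH) (Lpr_gt (K9.f182191 IH) (Lpe (K9.f53444 IH) (Lpr_bt (K9.f170688 IH) (Lpr_gt (K9.f180241 IH) (Lpe (f27963 IH) (Lpr_ct (f28122 IH) (Lpr_gt (K9.f51615 IH) (Lpn (LP (LK LD1_c0 LD2_c57 LD3_c48)))))))))))))
theorem f213768 : Led Lsl_ct (LP (LK LD1_c2 LD2_c41 LD3_c4)) = (LP (LK LD1_c5 LD2_c29 LD3_c36)) :=
  Lre_c IH (LK LD1_c2 LD2_c41 LD3_c4) (LK LD1_c5 LD2_c29 LD3_c36) Lrfl Lrfl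
theorem f223064 : Led Lsl_gf (LP (LK LD1_c1 LD2_c55 LD3_c58)) = (LP (LK LD1_c1 LD2_c18 LD3_c9)) :=
  Lgr Lrot104 (Lpr_ct (f182198 IH) (Lpe (f806 IH) (Lpe (f222250 IH) (Lpr_gf (f222972 IH) (Lpe (f213768 IH) (Lpr_gf (f220509 IH) (Lpe (f219947 IH) (Lpe (f212779 IH) (Lpr_ct (f212773 IH) (Lpn (LP (LK LD1_c1 LD2_c18 LD3_c9))))))))))))
theorem f223075 : Led Lsl_gf (LP (LK LD1_c3 LD2_c58 LD3_c27)) = (LP (LK LD1_c2 LD2_c43 LD3_c31)) :=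
  Lgr Lrot147 (Lpr_ct (f218709 IH) (Lpr_gt (f49348 IH) (Lpr_ct (f49339 IH) (Lpe (K9.f32161 IH) (Lpe (K9.f50138 IH) (Lpe (K9.f776 IH) (Lpe (f182198 IH) (Lpr_gf (f223064 IH) (Lpe (f212849 IH) (Lpn (LP (LK LD1_c2 LD2_c43 LD3_c31))))))))))))
theorem f218711 : Led Lsl_bt (LP (LK LD1_c1 LD2_c56 LD3_c0)) = (LP (LK LD1_c3 LD2_c58 LD3_c27)) :=
  Lre_b IH (LK LD1_c1 LD2_c56 LD3_c0) (LK LD1_c3 LD2_c58 LD3_c27) Lrfl Lrfl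
theorem f41246 : Led Lsl_ct (LP (LK LD1_c1 LD2_c56 LD3_c0)) = (LP (LK LD1_c3 LD2_c58 LD3_c28)) :=
  Lre_c IH (LK LD1_c1 LD2_c56 LD3_c0) (LK LD1_c3 LD2_c58 LD3_c28) Lrfl Lrfl
theorem f212942 : Led Lsl_at (LP (LK LD1_c4 LD2_c31 LD3_c16)) = (LP (LK LD1_c2 LD2_c43 LD3_c33)) :=
  Lgr Lrot66 (Lpe (f212657 IH) (Lpe (f53665 IH) (Lpr_ff (f212935 IH) (Lpn (LP (LK LD1_c2 LD2_c43 LD3_c33))))))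
theorem f54256 : Led Lsl_gt (LP (LK LD1_c2 LD2_c28 LD3_c6)) = (LP (LK LD1_c5 LD2_c0 LD3_c42)) :=
  Lre_g IH (LK LD1_c2 LD2_c28 LD3_c6) (LK LD1_c5 LD2_c0 LD3_c42) Lrfl Lrfl
theorem f213439 : Led Lsl_gt (LP (LK LD1_c5 LD2_c0 LD3_c42)) = (LP (LK LD1_c2 LD2_c43 LD3_c33)) :=
  Lgr Lrot46 (Lpe (f54256 IH) (Lpr_ft (f212657 IH) (Lpr_at (f212942 IH) (Lpn (LP (LK LD1_c2 LD2_c43 LD3_c33))))))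
theorem f199516 : Led Lsl_ct (LP (LK LD1_c2 LD2_c43 LD3_c33)) = (LP (LK LD1_c1 LD2_c18 LD3_c11)) :=
  Lre_c IH (LK LD1_c2 LD2_c43 LD3_c33) (LK LD1_c1 LD2_c18 LD3_c11) Lrfl Lrfl
theorem f52690 : Led Lsl_bt (LP (LK LD1_c0 LD2_c59 LD3_c0)) = (LP (LK LD1_c0 LD2_c26 LD3_c52)) :=
  Lre_b IH (LK LD1_c0 LD2_c59 LD3_c0) (LK LD1_c0 LD2_c26 LD3_c52) Lrfl Lrfl
theorem f171883 : Led Lsl_cf (LP (LK LD1_c0 LD2_c35 LD3_c10)) = (LP (LK LD1_c0 LD2_c34 LD3_c60)) :=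
  Lgr Lrot11 (Lpr_ct (K9.f171874 IH) (Lpn (LP (LK LD1_c0 LD2_c34 LD3_c60))))
theorem f212776 : Led Lsl_gf (LP (LK LD1_c1 LD2_c18 LD3_c10)) = (LP (LK LD1_c1 LD2_c15 LD3_c25)) :=
  Lgr Lrot181 (Lpr_ct (f178178 IH) (Lpr_gt (f212770 IH) (Lpe (f192818 IH) (Lpr_bt (f192817 IH) (Lpr_gt (K10.f193287 IH) (Lpe (f52690 IH) (Lpe (K10.f53137 IH) (Lpe (K9.f182167 IH) (Lpr_cf (f171883 IH) (Lpr_bt (f171880 IH) (Lpn (LP (LK LD1_c1 LD2_c15 LD3_c25)))))))))))))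
theorem f48129 : Led Lsl_gt (LP (LK LD1_c2 LD2_c7 LD3_c58)) = (LP (LK LD1_c4 LD2_c20 LD3_c55)) :=
  Lre_g IH (LK LD1_c2 LD2_c7 LD3_c58) (LK LD1_c4 LD2_c20 LD3_c55) Lrfl Lrfl
theorem f213442 : Led Lsl_cf (LP (LK LD1_c5 LD2_c0 LD3_c42)) = (LP (LK LD1_c4 LD2_c20 LD3_c55)) :=
  Lgr Lrot169 (Lpr_gt (f213439 IH) (Lpr_ct (f199516 IH) (Lpe (f189280 IH) (Lpe (f178178 IH) (Lpr_gf (f212776 IH) (Lpe (f172003 IH) (Lpe (f212542 IH) (Lpe (K10.f28982 IH) (Lpr_gt (f48129 IH) (Lpn (LP (LK LD1_c4 LD2_c20 LD3_c55))))))))))))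
theorem f48068 : Led Lsl_ct (LP (LK LD1_c2 LD2_c37 LD3_c13)) = (LP (LK LD1_c5 LD2_c21 LD3_c18)) :=
  Lre_c IH (LK LD1_c2 LD2_c37 LD3_c13) (LK LD1_c5 LD2_c21 LD3_c18) Lrfl Lrfl
theorem f223086 : Led Lsl_gt (LP (LK LD1_c3 LD2_c58 LD3_c28)) = (LP (LK LD1_c5 LD2_c21 LD3_c18)) :=
  Lgr Lrot65 (Lpe (f41246 IH) (Lpr_bt (f218711 IH) (Lpr_gf (f223075 IH) (Lpe (f212868 IH) (Lpr_ct (f199518 IH) (Lpe (f213439 IH) (Lpr_cf (f213442 IH) (Lpe (f48129 IH) (Lpe (K10.f48120 IH) (Lpr_ct (f48068 IH) (Lpn (LP (LK LD1_c5 LD2_c21 LD3_c18)))))))))))))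
theorem f201214 : Led Lsl_ft (LP (LK LD1_c2 LD2_c34 LD3_c18)) = (LP (LK LD1_c4 LD2_c3 LD3_c35)) :=
  Lgr Lrot48 (Lpr_ff (f201125 IH) (Lpn (LP (LK LD1_c4 LD2_c3 LD3_c35))))
theorem f48055 : Led Lsl_ct (LP (LK LD1_c5 LD2_c14 LD3_c57)) = (LP (LK LD1_c2 LD2_c34 LD3_c18)) :=
  Lre_c IH (LK LD1_c5 LD2_c14 LD3_c57) (LK LD1_c2 LD2_c34 LD3_c18) Lrfl Lrfl
theorem f217978 : Led Lsl_ft (LP (LK LD1_c7 LD2_c58 LD3_c11)) = (LP (LK LD1_c5 LD2_c14 LD3_c57)) :=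
  Lgr Lrot4 (Lpr_cf (f217965 IH) (Lpe (f201214 IH) (Lpe (f48055 IH) (Lpn (LP (LK LD1_c5 LD2_c14 LD3_c57))))))
theorem f223126 : Led Lsl_gf (LP (LK LD1_c3 LD2_c58 LD3_c28)) = (LP (LK LD1_c7 LD2_c58 LD3_c11)) :=
  Lgr Lrot47 (Lpr_gt (f223086 IH) (Lpr_af (K10.f48053 IH) (Lpe (f217978 IH) (Lpn (LP (LK LD1_c7 LD2_c58 LD3_c11))))))
theorem f218712 : Led Lsl_ct (LP (LK LD1_c3 LD2_c58 LD3_c28)) = (LP (LK LD1_c1 LD2_c56 LD3_c0)) :=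
  Lre_c IH (LK LD1_c3 LD2_c58 LD3_c28) (LK LD1_c1 LD2_c56 LD3_c0) Lrfl Lrfl
theorem f54657 : Led Lsl_bt (LP (LK LD1_c1 LD2_c56 LD3_c1)) = (LP (LK LD1_c3 LD2_c58 LD3_c32)) :=
  Lre_b IH (LK LD1_c1 LD2_c56 LD3_c1) (LK LD1_c3 LD2_c58 LD3_c32) Lrfl Lrfl
theorem f54900 : Led Lsl_gt (LP (LK LD1_c3 LD2_c58 LD3_c32)) = (LP (LK LD1_c7 LD2_c58 LD3_c32)) :=
  Lre_g IH (LK LD1_c3 LD2_c58 LD3_c32) (LK LD1_c7 LD2_c58 LD3_c32) Lrfl Lrfl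
theorem f173901 : Led Lsl_bt (LP (LK LD1_c15 LD2_c2 LD3_c49)) = (LP (LK LD1_c7 LD2_c58 LD3_c32)) :=
  Lre_b IH (LK LD1_c15 LD2_c2 LD3_c49) (LK LD1_c7 LD2_c58 LD3_c32) Lrfl Lrfl
theorem f168021 : Led Lsl_bt (LP (LK LD1_c15 LD2_c2 LD3_c2)) = (LP (LK LD1_c7 LD2_c58 LD3_c11)) :=
  Lre_b IH (LK LD1_c15 LD2_c2 LD3_c2) (LK LD1_c7 LD2_c58 LD3_c11) Lrfl Lrfl
theorem f217970 : Led Lsl_bt (LP (LK LD1_c7 LD2_c58 LD3_c11)) = (LP (LK LD1_c15 LD2_c2 LD3_c2)) :=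
  Lre_b IH (LK LD1_c7 LD2_c58 LD3_c11) (LK LD1_c15 LD2_c2 LD3_c2) Lrfl Lrfl
theorem f188616 : Led Lsl_bt (LP (LK LD1_c8 LD2_c56 LD3_c23)) = (LP (LK LD1_c4 LD2_c29 LD3_c2)) :=
  Lre_b IH (LK LD1_c8 LD2_c56 LD3_c23) (LK LD1_c4 LD2_c29 LD3_c2) Lrfl Lrfl
theorem f217971 : Led Lsl_ct (LP (LK LD1_c15 LD2_c2 LD3_c2)) = (LP (LK LD1_c8 LD2_c56 LD3_c23)) :=
  Lgr Lrot83 (Lpe (f217970 IH) (Lpr_cf (f217965 IH) (Lpe (f201118 IH) (Lpe (f188596 IH) (Lpe (f188616 IH) (Lpn (LP (LK LD1_c8 LD2_c56 LD3_c23))))))))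
theorem f189037 : Led Lsl_gt (LP (LK LD1_c16 LD2_c44 LD3_c1)) = (LP (LK LD1_c8 LD2_c56 LD3_c23)) :=
  Lre_g IH (LK LD1_c16 LD2_c44 LD3_c1) (LK LD1_c8 LD2_c56 LD3_c23) Lrfl Lrfl
theorem f223173 : Led Lsl_ct (LP (LK LD1_c15 LD2_c2 LD3_c49)) = (LP (LK LD1_c16 LD2_c44 LD3_c1)) :=
  Lgr Lrot64 (Lpr_bt (f173901 IH) (Lpe (f54900 IH) (Lpe (f54657 IH) (Lpr_ct (K9.f42716 IH) (Lpe (f42732 IH) (Lpe (f218712 IH) (Lpr_gf (f223126 IH) (Lpe (f168021 IH) (Lpr_ct (f217971 IH) (Lpe (f189037 IH) (Lpn (LP (LK LD1_c16 LD2_c44 LD3_c1)))))))))))))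
theorem f173766 : Led Lsl_at (LP (LK LD1_c7 LD2_c58 LD3_c35)) = (LP (LK LD1_c15 LD2_c2 LD3_c55)) :=
  Lre_a IH (LK LD1_c7 LD2_c58 LD3_c35) (LK LD1_c15 LD2_c2 LD3_c55) Lrfl Lrfl
theorem f173767 : Led Lsl_at (LP (LK LD1_c19 LD2_c42 LD3_c40)) = (LP (LK LD1_c10 LD2_c54 LD3_c39)) :=
  Lre_a IH (LK LD1_c19 LD2_c42 LD3_c40) (LK LD1_c10 LD2_c54 LD3_c39) Lrfl Lrfl
theorem f173768 : Led Lsl_ff (LP (LK LD1_c7 LD2_c58 LD3_c35)) = (LP (LK LD1_c10 LD2_c54 LD3_c39)) :=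
  Lgr Lrot30 (Lpr_at (f173766 IH) (Lpr_ft (f173761 IH) (Lpr_at (f173767 IH) (Lpn (LP (LK LD1_c10 LD2_c54 LD3_c39))))))
theorem f54915 : Led Lsl_dt (LP (LK LD1_c7 LD2_c58 LD3_c35)) = (LP (LK LD1_c3 LD2_c58 LD3_c32)) :=
  Lre_d IH (LK LD1_c7 LD2_c58 LD3_c35) (LK LD1_c3 LD2_c58 LD3_c32) Lrfl Lrfl
theorem f173694 : Led Lsl_dt (LP (LK LD1_c5 LD2_c31 LD3_c30)) = (LP (LK LD1_c10 LD2_c54 LD3_c39)) :=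
  Lre_d IH (LK LD1_c5 LD2_c31 LD3_c30) (LK LD1_c10 LD2_c54 LD3_c39) Lrfl Lrfl
theorem f173896 : Led Lsl_ft (LP (LK LD1_c3 LD2_c58 LD3_c32)) = (LP (LK LD1_c5 LD2_c31 LD3_c30)) :=
  Lgr Lrot54 (Lpe (f54915 IH) (Lpr_ff (f173768 IH) (Lpe (f173694 IH) (Lpn (LP (LK LD1_c5 LD2_c31 LD3_c30))))))
theorem f173826 : Led Lsl_at (LP (LK LD1_c5 LD2_c31 LD3_c30)) = (LP (LK LD1_c10 LD2_c54 LD3_c36)) :=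
  Lre_a IH (LK LD1_c5 LD2_c31 LD3_c30) (LK LD1_c10 LD2_c54 LD3_c36) Lrfl Lrfl
theorem f173898 : Led Lsl_gt (LP (LK LD1_c7 LD2_c58 LD3_c32)) = (LP (LK LD1_c10 LD2_c54 LD3_c36)) :=
  Lgr Lrot46 (Lpe (f54900 IH) (Lpr_ft (f173896 IH) (Lpr_at (f173826 IH) (Lpn (LP (LK LD1_c10 LD2_c54 LD3_c36))))))
theorem f173795 : Led Lsl_gt (LP (LK LD1_c17 LD2_c48 LD3_c32)) = (LP (LK LD1_c9 LD2_c40 LD3_c55)) :=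
  Lre_g IH (LK LD1_c17 LD2_c48 LD3_c32) (LK LD1_c9 LD2_c40 LD3_c55) Lrfl Lrfl
theorem f41192 : Led Lsl_ct (LP (LK LD1_c17 LD2_c48 LD3_c38)) = (LP (LK LD1_c9 LD2_c40 LD3_c55)) :=
  Lre_c IH (LK LD1_c17 LD2_c48 LD3_c38) (LK LD1_c9 LD2_c40 LD3_c55) Lrfl Lrfl
theorem f188605 : Led Lsl_dt (LP (LK LD1_c4 LD2_c29 LD3_c2)) = (LP (LK LD1_c8 LD2_c56 LD3_c24)) :=
  Lre_d IH (LK LD1_c4 LD2_c29 LD3_c2) (LK LD1_c8 LD2_c56 LD3_c24) Lrfl Lrfl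
theorem f33446 : Led Lsl_dt (LP (LK LD1_c2 LD2_c34 LD3_c16)) = (LP (LK LD1_c1 LD2_c14 LD3_c6)) :=
  Lre_d IH (LK LD1_c2 LD2_c34 LD3_c16) (LK LD1_c1 LD2_c14 LD3_c6) Lrfl Lrfl
theorem f33442 : Led Lsl_ct (LP (LK LD1_c5 LD2_c14 LD3_c54)) = (LP (LK LD1_c2 LD2_c34 LD3_c16)) :=
  Lre_c IH (LK LD1_c5 LD2_c14 LD3_c54) (LK LD1_c2 LD2_c34 LD3_c16) Lrfl Lrfl
theorem f33447 : Led Lsl_dt (LP (LK LD1_c10 LD2_c19 LD3_c11)) = (LP (LK LD1_c5 LD2_c14 LD3_c54)) :=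
  Lre_d IH (LK LD1_c10 LD2_c19 LD3_c11) (LK LD1_c5 LD2_c14 LD3_c54) Lrfl Lrfl
theorem f188921 : Led Lsl_ct (LP (LK LD1_c8 LD2_c56 LD3_c24)) = (LP (LK LD1_c10 LD2_c19 LD3_c11)) :=
  Lgr Lrot41 (Lpe (f188605 IH) (Lpe (f188615 IH) (Lpe (f187238 IH) (Lpr_ft (K10.f188915 IH) (Lpe (K10.f33410 IH) (Lpe (K8.f33428 IH) (Lpe (f33446 IH) (Lpe (f33442 IH) (Lpe (f33447 IH) (Lpn (LP (LK LD1_c10 LD2_c19 LD3_c11))))))))))))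
theorem f32315 : Led Lsl_dt (LP (LK LD1_c0 LD2_c34 LD3_c22)) = (LP (LK LD1_c1 LD2_c14 LD3_c7)) :=
  Lre_d IH (LK LD1_c0 LD2_c34 LD3_c22) (LK LD1_c1 LD2_c14 LD3_c7) Lrfl Lrfl
theorem f33459 : Led Lsl_at (LP (LK LD1_c2 LD2_c34 LD3_c20)) = (LP (LK LD1_c2 LD2_c34 LD3_c17)) :=
  Lgr Lrot100 (Lpr_af (K10.f33457 IH) (Lpn (LP (LK LD1_c2 LD2_c34 LD3_c17))))
theorem f188928 : Led Lsl_ft (LP (LK LD1_c4 LD2_c29 LD3_c2)) = (LP (LK LD1_c2 LD2_c34 LD3_c20)) :=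
  Lgr Lrot142 (Lpr_dt (f188605 IH) (Lpr_ct (f188921 IH) (Lpr_dt (f33447 IH) (Lpr_ct (f33442 IH) (Lpr_dt (f33446 IH) (Lpr_ct (K8.f33428 IH) (Lpr_dt (f32315 IH) (Lpr_ct (K10.f33456 IH) (Lpe (f33459 IH) (Lpn (LP (LK LD1_c2 LD2_c34 LD3_c20))))))))))))
theorem f188937 : Led Lsl_ff (LP (LK LD1_c4 LD2_c29 LD3_c2)) = (LP (LK LD1_c2 LD2_c34 LD3_c20)) :=
  Lgr Lrot3 (Lpr_ft (f188928 IH) (Lpn (LP (LK LD1_c2 LD2_c34 LD3_c20))))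
theorem f188632 : Led Lsl_et (LP (LK LD1_c4 LD2_c29 LD3_c2)) = (LP (LK LD1_c8 LD2_c56 LD3_c25)) :=
  Lre_e IH (LK LD1_c4 LD2_c29 LD3_c2) (LK LD1_c8 LD2_c56 LD3_c25) Lrfl Lrfl
theorem f48056 : Led Lsl_dt (LP (LK LD1_c10 LD2_c19 LD3_c18)) = (LP (LK LD1_c5 LD2_c14 LD3_c57)) :=
  Lre_d IH (LK LD1_c10 LD2_c19 LD3_c18) (LK LD1_c5 LD2_c14 LD3_c57) Lrfl Lrfl
theorem f48080 : Led Lsl_et (LP (LK LD1_c18 LD2_c44 LD3_c17)) = (LP (LK LD1_c10 LD2_c19 LD3_c18)) :=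
  Lre_e IH (LK LD1_c18 LD2_c44 LD3_c17) (LK LD1_c10 LD2_c19 LD3_c18) Lrfl Lrfl
theorem f54388 : Led Lsl_dt (LP (LK LD1_c4 LD2_c15 LD3_c5)) = (LP (LK LD1_c8 LD2_c29 LD3_c9)) :=
  Lre_d IH (LK LD1_c4 LD2_c15 LD3_c5) (LK LD1_c8 LD2_c29 LD3_c9) Lrfl Lrfl
theorem f54389 : Led Lsl_et (LP (LK LD1_c8 LD2_c29 LD3_c9)) = (LP (LK LD1_c15 LD2_c56 LD3_c10)) :=
  Lre_e IH (LK LD1_c8 LD2_c29 LD3_c9) (LK LD1_c15 LD2_c56 LD3_c10) Lrfl Lrfl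
theorem f54390 : Led Lsl_df (LP (LK LD1_c18 LD2_c44 LD3_c17)) = (LP (LK LD1_c15 LD2_c56 LD3_c10)) :=
  Lgr Lrot70 (Lpr_et (f48080 IH) (Lpr_dt (f48056 IH) (Lpr_et (K11.f54380 IH) (Lpr_dt (f54388 IH) (Lpr_et (f54389 IH) (Lpn (LP (LK LD1_c15 LD2_c56 LD3_c10))))))))
theorem f54394 : Led Lsl_dt (LP (LK LD1_c18 LD2_c44 LD3_c17)) = (LP (LK LD1_c15 LD2_c56 LD3_c10)) :=
  Lgr Lrot42 (Lpr_df (f54390 IH) (Lpn (LP (LK LD1_c15 LD2_c56 LD3_c10))))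
theorem f48065 : Led Lsl_dt (LP (LK LD1_c5 LD2_c21 LD3_c18)) = (LP (LK LD1_c10 LD2_c32 LD3_c55)) :=
  Lre_d IH (LK LD1_c5 LD2_c21 LD3_c18) (LK LD1_c10 LD2_c32 LD3_c55) Lrfl Lrfl
theorem f48066 : Led Lsl_at (LP (LK LD1_c10 LD2_c32 LD3_c55)) = (LP (LK LD1_c10 LD2_c19 LD3_c18)) :=
  Lgr Lrot51 (Lpe (f48065 IH) (Lpr_af (K10.f48053 IH) (Lpe (f48056 IH) (Lpn (LP (LK LD1_c10 LD2_c19 LD3_c18))))))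
theorem f48073 : Led Lsl_et (LP (LK LD1_c19 LD2_c6 LD3_c16)) = (LP (LK LD1_c10 LD2_c32 LD3_c55)) :=
  Lre_e IH (LK LD1_c19 LD2_c6 LD3_c16) (LK LD1_c10 LD2_c32 LD3_c55) Lrfl Lrfl
theorem f48074 : Led Lsl_et (LP (LK LD1_c10 LD2_c19 LD3_c18)) = (LP (LK LD1_c18 LD2_c44 LD3_c17)) :=
  Lre_e IH (LK LD1_c10 LD2_c19 LD3_c18) (LK LD1_c18 LD2_c44 LD3_c17) Lrfl Lrfl
theorem f48075 : Led Lsl_af (LP (LK LD1_c19 LD2_c6 LD3_c16)) = (LP (LK LD1_c18 LD2_c44 LD3_c17)) :=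
  Lgr Lrot50 (Lpr_et (f48073 IH) (Lpr_at (f48066 IH) (Lpr_et (f48074 IH) (Lpn (LP (LK LD1_c18 LD2_c44 LD3_c17))))))
theorem f48077 : Led Lsl_at (LP (LK LD1_c19 LD2_c6 LD3_c16)) = (LP (LK LD1_c18 LD2_c44 LD3_c17)) :=
  Lgr Lrot100 (Lpr_af (f48075 IH) (Lpn (LP (LK LD1_c18 LD2_c44 LD3_c17))))
theorem f28981 : Led Lsl_et (LP (LK LD1_c2 LD2_c7 LD3_c58)) = (LP (LK LD1_c1 LD2_c1 LD3_c6)) :=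
  Lre_e IH (LK LD1_c2 LD2_c7 LD3_c58) (LK LD1_c1 LD2_c1 LD3_c6) Lrfl Lrfl
theorem f48127 : Led Lsl_ef (LP (LK LD1_c2 LD2_c37 LD3_c13)) = (LP (LK LD1_c2 LD2_c7 LD3_c56)) :=
  Lgr Lrot29 (Lpr_bt (K10.f48120 IH) (Lpr_et (f28981 IH) (Lpr_bt (K10.f31179 IH) (Lpn (LP (LK LD1_c2 LD2_c7 LD3_c56))))))
theorem f28675 : Led Lsl_ct (LP (LK LD1_c4 LD2_c20 LD3_c53)) = (LP (LK LD1_c2 LD2_c7 LD3_c56)) :=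
  Lre_c IH (LK LD1_c4 LD2_c20 LD3_c53) (LK LD1_c2 LD2_c7 LD3_c56) Lrfl Lrfl
theorem f48130 : Led Lsl_et (LP (LK LD1_c5 LD2_c21 LD3_c18)) = (LP (LK LD1_c4 LD2_c20 LD3_c53)) :=
  Lgr Lrot158 (Lpe (f48068 IH) (Lpr_ef (f48127 IH) (Lpe (f28675 IH) (Lpn (LP (LK LD1_c4 LD2_c20 LD3_c53))))))
theorem f48083 : Led Lsl_dt (LP (LK LD1_c10 LD2_c32 LD3_c55)) = (LP (LK LD1_c5 LD2_c21 LD3_c18)) :=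
  Lre_d IH (LK LD1_c10 LD2_c32 LD3_c55) (LK LD1_c5 LD2_c21 LD3_c18) Lrfl Lrfl
theorem f28665 : Led Lsl_dt (LP (LK LD1_c4 LD2_c20 LD3_c53)) = (LP (LK LD1_c8 LD2_c39 LD3_c27)) :=
  Lre_d IH (LK LD1_c4 LD2_c20 LD3_c53) (LK LD1_c8 LD2_c39 LD3_c27) Lrfl Lrfl
theorem f48136 : Led Lsl_et (LP (LK LD1_c8 LD2_c39 LD3_c27)) = (LP (LK LD1_c16 LD2_c12 LD3_c56)) :=
  Lre_e IH (LK LD1_c8 LD2_c39 LD3_c27) (LK LD1_c16 LD2_c12 LD3_c56) Lrfl Lrfl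
theorem f48137 : Led Lsl_df (LP (LK LD1_c19 LD2_c6 LD3_c16)) = (LP (LK LD1_c16 LD2_c12 LD3_c56)) :=
  Lgr Lrot70 (Lpr_et (f48073 IH) (Lpr_dt (f48083 IH) (Lpr_et (f48130 IH) (Lpr_dt (f28665 IH) (Lpr_et (f48136 IH) (Lpn (LP (LK LD1_c16 LD2_c12 LD3_c56))))))))
theorem f54398 : Led Lsl_af (LP (LK LD1_c16 LD2_c12 LD3_c56)) = (LP (LK LD1_c15 LD2_c56 LD3_c10)) :=
  Lgr Lrot117 (Lpe (f48137 IH) (Lpr_at (f48077 IH) (Lpr_dt (f54394 IH) (Lpn (LP (LK LD1_c15 LD2_c56 LD3_c10))))))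
theorem f48147 : Led Lsl_et (LP (LK LD1_c16 LD2_c12 LD3_c56)) = (LP (LK LD1_c8 LD2_c39 LD3_c27)) :=
  Lre_e IH (LK LD1_c16 LD2_c12 LD3_c56) (LK LD1_c8 LD2_c39 LD3_c27) Lrfl Lrfl
theorem f54400 : Led Lsl_at (LP (LK LD1_c8 LD2_c39 LD3_c27)) = (LP (LK LD1_c8 LD2_c29 LD3_c9)) :=
  Lgr Lrot80 (Lpe (f48147 IH) (Lpr_af (f54398 IH) (Lpe (f54389 IH) (Lpn (LP (LK LD1_c8 LD2_c29 LD3_c9))))))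
theorem f54402 : Led Lsl_af (LP (LK LD1_c8 LD2_c39 LD3_c27)) = (LP (LK LD1_c8 LD2_c29 LD3_c9)) :=
  Lgr Lrot0 (Lpr_at (f54400 IH) (Lpn (LP (LK LD1_c8 LD2_c29 LD3_c9))))
theorem f28718 : Led Lsl_dt (LP (LK LD1_c8 LD2_c39 LD3_c27)) = (LP (LK LD1_c4 LD2_c20 LD3_c53)) :=
  Lre_d IH (LK LD1_c8 LD2_c39 LD3_c27) (LK LD1_c4 LD2_c20 LD3_c53) Lrfl Lrfl
theorem f54406 : Led Lsl_at (LP (LK LD1_c4 LD2_c20 LD3_c53)) = (LP (LK LD1_c4 LD2_c15 LD3_c5)) :=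
  Lgr Lrot51 (Lpe (f28718 IH) (Lpr_af (f54402 IH) (Lpe (f54388 IH) (Lpn (LP (LK LD1_c4 LD2_c15 LD3_c5))))))
theorem f48096 : Led Lsl_at (LP (LK LD1_c16 LD2_c12 LD3_c54)) = (LP (LK LD1_c8 LD2_c39 LD3_c26)) :=
  Lre_a IH (LK LD1_c16 LD2_c12 LD3_c54) (LK LD1_c8 LD2_c39 LD3_c26) Lrfl Lrfl
theorem f54385 : Led Lsl_bt (LP (LK LD1_c4 LD2_c15 LD3_c5)) = (LP (LK LD1_c8 LD2_c29 LD3_c8)) :=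
  Lre_b IH (LK LD1_c4 LD2_c15 LD3_c5) (LK LD1_c8 LD2_c29 LD3_c8) Lrfl Lrfl
theorem f54408 : Led Lsl_at (LP (LK LD1_c8 LD2_c29 LD3_c8)) = (LP (LK LD1_c15 LD2_c56 LD3_c8)) :=
  Lre_a IH (LK LD1_c8 LD2_c29 LD3_c8) (LK LD1_c15 LD2_c56 LD3_c8) Lrfl Lrfl
theorem f54409 : Led Lsl_bf (LP (LK LD1_c16 LD2_c12 LD3_c54)) = (LP (LK LD1_c15 LD2_c56 LD3_c8)) :=
  Lgr Lrot81 (Lpr_at (f48096 IH) (Lpr_bt (K11.f48104 IH) (Lpr_at (f54406 IH) (Lpr_bt (f54385 IH) (Lpr_at (f54408 IH) (Lpn (LP (LK LD1_c15 LD2_c56 LD3_c8))))))))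
theorem f54415 : Led Lsl_et (LP (LK LD1_c18 LD2_c44 LD3_c15)) = (LP (LK LD1_c15 LD2_c56 LD3_c8)) :=
  Lgr Lrot74 (Lpe (K10.f48063 IH) (Lpr_ef (K10.f48099 IH) (Lpr_bf (f54409 IH) (Lpn (LP (LK LD1_c15 LD2_c56 LD3_c8))))))
theorem f54421 : Led Lsl_ef (LP (LK LD1_c18 LD2_c44 LD3_c15)) = (LP (LK LD1_c15 LD2_c56 LD3_c8)) :=
  Lgr Lrot88 (Lpr_et (f54415 IH) (Lpn (LP (LK LD1_c15 LD2_c56 LD3_c8))))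
theorem f45687 : Led Lsl_ct (LP (LK LD1_c8 LD2_c29 LD3_c27)) = (LP (LK LD1_c15 LD2_c56 LD3_c8)) :=
  Lre_c IH (LK LD1_c8 LD2_c29 LD3_c27) (LK LD1_c15 LD2_c56 LD3_c8) Lrfl Lrfl
theorem f54425 : Led Lsl_et (LP (LK LD1_c10 LD2_c19 LD3_c24)) = (LP (LK LD1_c8 LD2_c29 LD3_c27)) :=
  Lgr Lrot158 (Lpe (K10.f33503 IH) (Lpr_ef (f54421 IH) (Lpe (f45687 IH) (Lpn (LP (LK LD1_c8 LD2_c29 LD3_c27))))))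
theorem f45663 : Led Lsl_at (LP (LK LD1_c8 LD2_c29 LD3_c27)) = (LP (LK LD1_c4 LD2_c15 LD3_c15)) :=
  Lre_a IH (LK LD1_c8 LD2_c29 LD3_c27) (LK LD1_c4 LD2_c15 LD3_c15) Lrfl Lrfl
theorem f54427 : Led Lsl_ef (LP (LK LD1_c5 LD2_c14 LD3_c60)) = (LP (LK LD1_c4 LD2_c15 LD3_c15)) :=
  Lgr Lrot20 (Lpr_at (K10.f33462 IH) (Lpr_et (f54425 IH) (Lpr_at (f45663 IH) (Lpn (LP (LK LD1_c4 LD2_c15 LD3_c15))))))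
theorem f54432 : Led Lsl_et (LP (LK LD1_c5 LD2_c14 LD3_c60)) = (LP (LK LD1_c4 LD2_c15 LD3_c15)) :=
  Lgr Lrot87 (Lpr_ef (f54427 IH) (Lpn (LP (LK LD1_c4 LD2_c15 LD3_c15))))
theorem f45684 : Led Lsl_bt (LP (LK LD1_c4 LD2_c15 LD3_c15)) = (LP (LK LD1_c2 LD2_c4 LD3_c61)) :=
  Lre_b IH (LK LD1_c4 LD2_c15 LD3_c15) (LK LD1_c2 LD2_c4 LD3_c61) Lrfl Lrfl
theorem f54441 : Led Lsl_ef (LP (LK LD1_c2 LD2_c34 LD3_c20)) = (LP (LK LD1_c2 LD2_c4 LD3_c61)) :=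
  Lgr Lrot29 (Lpr_bt (K10.f33461 IH) (Lpr_et (f54432 IH) (Lpr_bt (f45684 IH) (Lpn (LP (LK LD1_c2 LD2_c4 LD3_c61))))))
theorem f45215 : Led Lsl_ft (LP (LK LD1_c4 LD2_c15 LD3_c17)) = (LP (LK LD1_c2 LD2_c4 LD3_c61)) :=
  Lre_f IH (LK LD1_c4 LD2_c15 LD3_c17) (LK LD1_c2 LD2_c4 LD3_c61) Lrfl Lrfl
theorem f45528 : Led Lsl_et (LP (LK LD1_c8 LD2_c29 LD3_c33)) = (LP (LK LD1_c4 LD2_c15 LD3_c17)) :=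
  Lre_e IH (LK LD1_c8 LD2_c29 LD3_c33) (LK LD1_c4 LD2_c15 LD3_c17) Lrfl Lrfl
theorem f188974 : Led Lsl_ft (LP (LK LD1_c8 LD2_c56 LD3_c25)) = (LP (LK LD1_c8 LD2_c29 LD3_c33)) :=
  Lgr Lrot86 (Lpe (f188632 IH) (Lpr_ff (f188937 IH) (Lpr_ef (f54441 IH) (Lpe (f45215 IH) (Lpe (f45528 IH) (Lpn (LP (LK LD1_c8 LD2_c29 LD3_c33))))))))
theorem f188626 : Led Lsl_dt (LP (LK LD1_c8 LD2_c56 LD3_c25)) = (LP (LK LD1_c16 LD2_c44 LD3_c6)) :=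
  Lre_d IH (LK LD1_c8 LD2_c56 LD3_c25) (LK LD1_c16 LD2_c44 LD3_c6) Lrfl Lrfl
theorem f188753 : Led Lsl_ct (LP (LK LD1_c16 LD2_c44 LD3_c6)) = (LP (LK LD1_c26 LD2_c42 LD3_c49)) :=
  Lre_c IH (LK LD1_c16 LD2_c44 LD3_c6) (LK LD1_c26 LD2_c42 LD3_c49) Lrfl Lrfl
theorem f45165 : Led Lsl_ct (LP (LK LD1_c4 LD2_c15 LD3_c2)) = (LP (LK LD1_c8 LD2_c29 LD3_c5)) :=
  Lre_c IH (LK LD1_c4 LD2_c15 LD3_c2) (LK LD1_c8 LD2_c29 LD3_c5) Lrfl Lrfl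
theorem f45169 : Led Lsl_dt (LP (LK LD1_c15 LD2_c56 LD3_c3)) = (LP (LK LD1_c8 LD2_c29 LD3_c5)) :=
  Lre_d IH (LK LD1_c15 LD2_c56 LD3_c3) (LK LD1_c8 LD2_c29 LD3_c5) Lrfl Lrfl
theorem f45170 : Led Lsl_ct (LP (LK LD1_c25 LD2_c52 LD3_c24)) = (LP (LK LD1_c15 LD2_c56 LD3_c3)) :=
  Lre_c IH (LK LD1_c25 LD2_c52 LD3_c24) (LK LD1_c15 LD2_c56 LD3_c3) Lrfl Lrfl
theorem f188985 : Led Lsl_dt (LP (LK LD1_c26 LD2_c42 LD3_c49)) = (LP (LK LD1_c25 LD2_c52 LD3_c24)) :=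
  Lgr Lrot32 (Lpe (f188753 IH) (Lpe (f188626 IH) (Lpr_ft (f188974 IH) (Lpr_at (K10.f45514 IH) (Lpe (f45165 IH) (Lpr_df (K10.f45162 IH) (Lpe (K10.f45168 IH) (Lpe (f45169 IH) (Lpe (f45170 IH) (Lpn (LP (LK LD1_c25 LD2_c52 LD3_c24))))))))))))
theorem f188752 : Led Lsl_ct (LP (LK LD1_c4 LD2_c29 LD3_c3)) = (LP (LK LD1_c8 LD2_c56 LD3_c25)) :=
  Lre_c IH (LK LD1_c4 LD2_c29 LD3_c3) (LK LD1_c8 LD2_c56 LD3_c25) Lrfl Lrfl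
theorem f188744 : Led Lsl_et (LP (LK LD1_c1 LD2_c2 LD3_c49)) = (LP (LK LD1_c1 LD2_c2 LD3_c49)) :=
  Lgr Lrot158 (Lpe (K10.f187239 IH) (Lpr_ef (K10.f188742 IH) (Lpe (K11.f188601 IH) (Lpn (LP (LK LD1_c1 LD2_c2 LD3_c49))))))
theorem f188748 : Led Lsl_et (LP (LK LD1_c4 LD2_c29 LD3_c3)) = (LP (LK LD1_c2 LD2_c11 LD3_c39)) :=
  Lre_e IH (LK LD1_c4 LD2_c29 LD3_c3) (LK LD1_c2 LD2_c11 LD3_c39) Lrfl Lrfl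
theorem f188749 : Led Lsl_et (LP (LK LD1_c2 LD2_c11 LD3_c39)) = (LP (LK LD1_c4 LD2_c29 LD3_c3)) :=
  Lre_e IH (LK LD1_c2 LD2_c11 LD3_c39) (LK LD1_c4 LD2_c29 LD3_c3) Lrfl Lrfl
theorem f188750 : Led Lsl_df (LP (LK LD1_c4 LD2_c29 LD3_c3)) = (LP (LK LD1_c4 LD2_c29 LD3_c3)) :=
  Lgr Lrot70 (Lpr_et (f188748 IH) (Lpr_dt (f187241 IH) (Lpr_et (f188744 IH) (Lpr_dt (f187238 IH) (Lpr_et (f188749 IH) (Lpn (LP (LK LD1_c4 LD2_c29 LD3_c3))))))))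
theorem f188754 : Led Lsl_ct (LP (LK LD1_c8 LD2_c56 LD3_c25)) = (LP (LK LD1_c4 LD2_c29 LD3_c3)) :=
  Lre_c IH (LK LD1_c8 LD2_c56 LD3_c25) (LK LD1_c4 LD2_c29 LD3_c3) Lrfl Lrfl
theorem f188755 : Led Lsl_dt (LP (LK LD1_c16 LD2_c44 LD3_c6)) = (LP (LK LD1_c8 LD2_c56 LD3_c25)) :=
  Lre_d IH (LK LD1_c16 LD2_c44 LD3_c6) (LK LD1_c8 LD2_c56 LD3_c25) Lrfl Lrfl
theorem f45539 : Led Lsl_dt (LP (LK LD1_c15 LD2_c56 LD3_c44)) = (LP (LK LD1_c8 LD2_c29 LD3_c33)) :=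
  Lre_d IH (LK LD1_c15 LD2_c56 LD3_c44) (LK LD1_c8 LD2_c29 LD3_c33) Lrfl Lrfl
theorem f45166 : Led Lsl_dt (LP (LK LD1_c8 LD2_c29 LD3_c5)) = (LP (LK LD1_c15 LD2_c56 LD3_c3)) :=
  Lre_d IH (LK LD1_c8 LD2_c29 LD3_c5) (LK LD1_c15 LD2_c56 LD3_c3) Lrfl Lrfl
theorem f45540 : Led Lsl_af (LP (LK LD1_c15 LD2_c56 LD3_c44)) = (LP (LK LD1_c15 LD2_c56 LD3_c3)) :=
  Lgr Lrot117 (Lpr_dt (f45539 IH) (Lpr_at (K10.f45514 IH) (Lpr_dt (f45166 IH) (Lpn (LP (LK LD1_c15 LD2_c56 LD3_c3))))))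
theorem f45542 : Led Lsl_at (LP (LK LD1_c15 LD2_c56 LD3_c44)) = (LP (LK LD1_c15 LD2_c56 LD3_c3)) :=
  Lgr Lrot100 (Lpr_af (f45540 IH) (Lpn (LP (LK LD1_c15 LD2_c56 LD3_c3))))
theorem f188993 : Led Lsl_ft (LP (LK LD1_c16 LD2_c44 LD3_c6)) = (LP (LK LD1_c15 LD2_c56 LD3_c44)) :=
  Lgr Lrot142 (Lpr_dt (f188755 IH) (Lpr_ct (f188754 IH) (Lpe (f188750 IH) (Lpr_ct (f188752 IH) (Lpr_dt (f188626 IH) (Lpr_ct (f188753 IH) (Lpr_dt (f188985 IH) (Lpr_ct (f45170 IH) (Lpe (f45542 IH) (Lpn (LP (LK LD1_c15 LD2_c56 LD3_c44))))))))))))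
theorem f188996 : Led Lsl_bt (LP (LK LD1_c26 LD2_c42 LD3_c47)) = (LP (LK LD1_c16 LD2_c44 LD3_c6)) :=
  Lre_b IH (LK LD1_c26 LD2_c42 LD3_c47) (LK LD1_c16 LD2_c44 LD3_c6) Lrfl Lrfl
theorem f45544 : Led Lsl_bt (LP (LK LD1_c15 LD2_c56 LD3_c44)) = (LP (LK LD1_c25 LD2_c53 LD3_c13)) :=
  Lre_b IH (LK LD1_c15 LD2_c56 LD3_c44) (LK LD1_c25 LD2_c53 LD3_c13) Lrfl Lrfl
theorem f188997 : Led Lsl_ff (LP (LK LD1_c26 LD2_c42 LD3_c47)) = (LP (LK LD1_c25 LD2_c53 LD3_c13)) :=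
  Lgr Lrot25 (Lpr_bt (f188996 IH) (Lpr_ft (f188993 IH) (Lpr_bt (f45544 IH) (Lpn (LP (LK LD1_c25 LD2_c53 LD3_c13))))))
theorem f189005 : Led Lsl_dt (LP (LK LD1_c26 LD2_c42 LD3_c47)) = (LP (LK LD1_c16 LD2_c44 LD3_c4)) :=
  Lre_d IH (LK LD1_c26 LD2_c42 LD3_c47) (LK LD1_c16 LD2_c44 LD3_c4) Lrfl Lrfl
theorem f45586 : Led Lsl_dt (LP (LK LD1_c15 LD2_c56 LD3_c39)) = (LP (LK LD1_c25 LD2_c53 LD3_c13)) :=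
  Lre_d IH (LK LD1_c15 LD2_c56 LD3_c39) (LK LD1_c25 LD2_c53 LD3_c13) Lrfl Lrfl
theorem f189006 : Led Lsl_ft (LP (LK LD1_c16 LD2_c44 LD3_c4)) = (LP (LK LD1_c15 LD2_c56 LD3_c39)) :=
  Lgr Lrot54 (Lpe (f189005 IH) (Lpr_ff (f188997 IH) (Lpe (f45586 IH) (Lpn (LP (LK LD1_c15 LD2_c56 LD3_c39))))))
theorem f189012 : Led Lsl_at (LP (LK LD1_c26 LD2_c42 LD3_c43)) = (LP (LK LD1_c16 LD2_c44 LD3_c4)) :=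
  Lre_a IH (LK LD1_c26 LD2_c42 LD3_c43) (LK LD1_c16 LD2_c44 LD3_c4) Lrfl Lrfl
theorem f45621 : Led Lsl_at (LP (LK LD1_c15 LD2_c56 LD3_c39)) = (LP (LK LD1_c25 LD2_c52 LD3_c59)) :=
  Lre_a IH (LK LD1_c15 LD2_c56 LD3_c39) (LK LD1_c25 LD2_c52 LD3_c59) Lrfl Lrfl
theorem f189013 : Led Lsl_ff (LP (LK LD1_c26 LD2_c42 LD3_c43)) = (LP (LK LD1_c25 LD2_c52 LD3_c59)) :=
  Lgr Lrot30 (Lpr_at (f189012 IH) (Lpr_ft (f189006 IH) (Lpr_at (f45621 IH) (Lpn (LP (LK LD1_c25 LD2_c52 LD3_c59))))))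
theorem f189025 : Led Lsl_ft (LP (LK LD1_c26 LD2_c42 LD3_c43)) = (LP (LK LD1_c25 LD2_c52 LD3_c59)) :=
  Lgr Lrot48 (Lpr_ff (f189013 IH) (Lpn (LP (LK LD1_c25 LD2_c52 LD3_c59))))
theorem f189031 : Led Lsl_et (LP (LK LD1_c16 LD2_c44 LD3_c2)) = (LP (LK LD1_c26 LD2_c42 LD3_c43)) :=
  Lre_e IH (LK LD1_c16 LD2_c44 LD3_c2) (LK LD1_c26 LD2_c42 LD3_c43) Lrfl Lrfl
theorem f45619 : Led Lsl_et (LP (LK LD1_c25 LD2_c52 LD3_c59)) = (LP (LK LD1_c15 LD2_c56 LD3_c29)) :=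
  Lre_e IH (LK LD1_c25 LD2_c52 LD3_c59) (LK LD1_c15 LD2_c56 LD3_c29) Lrfl Lrfl
theorem f45631 : Led Lsl_ft (LP (LK LD1_c15 LD2_c56 LD3_c29)) = (LP (LK LD1_c8 LD2_c29 LD3_c27)) :=
  Lre_f IH (LK LD1_c15 LD2_c56 LD3_c29) (LK LD1_c8 LD2_c29 LD3_c27) Lrfl Lrfl
theorem f33499 : Led Lsl_ct (LP (LK LD1_c10 LD2_c19 LD3_c24)) = (LP (LK LD1_c18 LD2_c44 LD3_c15)) :=
  Lre_c IH (LK LD1_c10 LD2_c19 LD3_c24) (LK LD1_c18 LD2_c44 LD3_c15) Lrfl Lrfl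
theorem f54417 : Led Lsl_ct (LP (LK LD1_c15 LD2_c56 LD3_c8)) = (LP (LK LD1_c8 LD2_c29 LD3_c27)) :=
  Lre_c IH (LK LD1_c15 LD2_c56 LD3_c8) (LK LD1_c8 LD2_c29 LD3_c27) Lrfl Lrfl
theorem f54419 : Led Lsl_ef (LP (LK LD1_c10 LD2_c19 LD3_c24)) = (LP (LK LD1_c8 LD2_c29 LD3_c27)) :=
  Lgr Lrot28 (Lpr_ct (f33499 IH) (Lpr_et (f54415 IH) (Lpr_ct (f54417 IH) (Lpn (LP (LK LD1_c8 LD2_c29 LD3_c27))))))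
theorem f189032 : Led Lsl_ff (LP (LK LD1_c16 LD2_c44 LD3_c2)) = (LP (LK LD1_c10 LD2_c19 LD3_c24)) :=
  Lgr Lrot72 (Lpr_et (f189031 IH) (Lpr_ft (f189025 IH) (Lpr_et (f45619 IH) (Lpr_ft (f45631 IH) (Lpe (f54419 IH) (Lpn (LP (LK LD1_c10 LD2_c19 LD3_c24))))))))
theorem f189036 : Led Lsl_at (LP (LK LD1_c16 LD2_c44 LD3_c2)) = (LP (LK LD1_c8 LD2_c56 LD3_c23)) :=
  Lre_a IH (LK LD1_c16 LD2_c44 LD3_c2) (LK LD1_c8 LD2_c56 LD3_c23) Lrfl Lrfl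
theorem f189038 : Led Lsl_gf (LP (LK LD1_c16 LD2_c44 LD3_c1)) = (LP (LK LD1_c10 LD2_c19 LD3_c24)) :=
  Lgr Lrot47 (Lpr_gt (f189037 IH) (Lpe (f189036 IH) (Lpr_ff (f189032 IH) (Lpn (LP (LK LD1_c10 LD2_c19 LD3_c24))))))
theorem f217986 : Led Lsl_ff (LP (LK LD1_c7 LD2_c58 LD3_c11)) = (LP (LK LD1_c5 LD2_c14 LD3_c57)) :=
  Lgr Lrot3 (Lpr_ft (f217978 IH) (Lpn (LP (LK LD1_c5 LD2_c14 LD3_c57))))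
theorem f217988 : Led Lsl_ft (LP (LK LD1_c15 LD2_c2 LD3_c2)) = (LP (LK LD1_c10 LD2_c19 LD3_c17)) :=
  Lgr Lrot75 (Lpe (f217970 IH) (Lpr_ff (f217986 IH) (Lpe (K10.f48061 IH) (Lpn (LP (LK LD1_c10 LD2_c19 LD3_c17))))))
theorem f217980 : Led Lsl_gt (LP (LK LD1_c15 LD2_c2 LD3_c2)) = (LP (LK LD1_c24 LD2_c50 LD3_c30)) :=
  Lre_g IH (LK LD1_c15 LD2_c2 LD3_c2) (LK LD1_c24 LD2_c50 LD3_c30) Lrfl Lrfl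
theorem f48157 : Led Lsl_at (LP (LK LD1_c10 LD2_c19 LD3_c17)) = (LP (LK LD1_c18 LD2_c44 LD3_c15)) :=
  Lre_a IH (LK LD1_c10 LD2_c19 LD3_c17) (LK LD1_c18 LD2_c44 LD3_c15) Lrfl Lrfl
theorem f218071 : Led Lsl_gt (LP (LK LD1_c24 LD2_c50 LD3_c30)) = (LP (LK LD1_c18 LD2_c44 LD3_c15)) :=
  Lgr Lrot46 (Lpe (f217980 IH) (Lpr_ft (f217988 IH) (Lpr_at (f48157 IH) (Lpn (LP (LK LD1_c18 LD2_c44 LD3_c15))))))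
theorem f223187 : Led Lsl_bt (LP (LK LD1_c17 LD2_c48 LD3_c38)) = (LP (LK LD1_c24 LD2_c50 LD3_c30)) :=
  Lgr Lrot130 (Lpr_ct (f41192 IH) (Lpe (f173795 IH) (Lpr_cf (f173786 IH) (Lpr_bt (f173775 IH) (Lpe (f173898 IH) (Lpe (f173901 IH) (Lpr_ct (f223173 IH) (Lpr_gf (f189038 IH) (Lpe (K10.f33503 IH) (Lpe (f218071 IH) (Lpn (LP (LK LD1_c24 LD2_c50 LD3_c30)))))))))))))
theorem f41191 : Led Lsl_gt (LP (LK LD1_c9 LD2_c40 LD3_c55)) = (LP (LK LD1_c4 LD2_c54 LD3_c39)) :=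
  Lre_g IH (LK LD1_c9 LD2_c40 LD3_c55) (LK LD1_c4 LD2_c54 LD3_c39) Lrfl Lrfl
theorem f41164 : Led Lsl_ct (LP (LK LD1_c1 LD2_c55 LD3_c52)) = (LP (LK LD1_c3 LD2_c58 LD3_c10)) :=
  Lre_c IH (LK LD1_c1 LD2_c55 LD3_c52) (LK LD1_c3 LD2_c58 LD3_c10) Lrfl Lrfl
theorem f173105 : Led Lsl_bt (LP (LK LD1_c1 LD2_c15 LD3_c34)) = (LP (LK LD1_c2 LD2_c11 LD3_c0)) :=
  Lre_b IH (LK LD1_c1 LD2_c15 LD3_c34) (LK LD1_c2 LD2_c11 LD3_c0) Lrfl Lrfl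
theorem f41558 : Led Lsl_gt (LP (LK LD1_c1 LD2_c2 LD3_c38)) = (LP (LK LD1_c2 LD2_c11 LD3_c0)) :=
  Lre_g IH (LK LD1_c1 LD2_c2 LD3_c38) (LK LD1_c2 LD2_c11 LD3_c0) Lrfl Lrfl
theorem f173106 : Led Lsl_bt (LP (LK LD1_c2 LD2_c11 LD3_c13)) = (LP (LK LD1_c1 LD2_c2 LD3_c38)) :=
  Lre_b IH (LK LD1_c2 LD2_c11 LD3_c13) (LK LD1_c1 LD2_c2 LD3_c38) Lrfl Lrfl
theorem f173107 : Led Lsl_ct (LP (LK LD1_c2 LD2_c11 LD3_c13)) = (LP (LK LD1_c4 LD2_c28 LD3_c4)) :=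
  Lre_c IH (LK LD1_c2 LD2_c11 LD3_c13) (LK LD1_c4 LD2_c28 LD3_c4) Lrfl Lrfl
theorem f173108 : Led Lsl_gt (LP (LK LD1_c3 LD2_c58 LD3_c10)) = (LP (LK LD1_c4 LD2_c28 LD3_c4)) :=
  Lgr Lrot149 (Lpe (f41164 IH) (Lpe (K9.f41379 IH) (Lpr_bf (K9.f173090 IH) (Lpr_ct (K9.f173089 IH) (Lpe (K9.f173104 IH) (Lpe (K9.f172025 IH) (Lpr_bt (f173105 IH) (Lpe (f41558 IH) (Lpe (f173106 IH) (Lpr_ct (f173107 IH) (Lpn (LP (LK LD1_c4 LD2_c28 LD3_c4)))))))))))))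
theorem f219632 : Led Lsl_ct (LP (LK LD1_c4 LD2_c28 LD3_c4)) = (LP (LK LD1_c2 LD2_c11 LD3_c13)) :=
  Lre_c IH (LK LD1_c4 LD2_c28 LD3_c4) (LK LD1_c2 LD2_c11 LD3_c13) Lrfl Lrfl
theorem f223194 : Led Lsl_gt (LP (LK LD1_c2 LD2_c11 LD3_c13)) = (LP (LK LD1_c4 LD2_c3 LD3_c35)) :=
  Lgr Lrot149 (Lpe (f219632 IH) (Lpe (f173108 IH) (Lpe (K1.f41190 IH) (Lpr_ct (K1.f41145 IH) (Lpe (f41191 IH) (Lpe (f41192 IH) (Lpr_bt (f223187 IH) (Lpe (f217980 IH) (Lpe (f217970 IH) (Lpr_ct (f217973 IH) (Lpn (LP (LK LD1_c4 LD2_c3 LD3_c35)))))))))))))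
theorem f223198 : Led Lsl_bt (LP (LK LD1_c1 LD2_c2 LD3_c38)) = (LP (LK LD1_c2 LD2_c11 LD3_c13)) :=
  Lre_b IH (LK LD1_c1 LD2_c2 LD3_c38) (LK LD1_c2 LD2_c11 LD3_c13) Lrfl Lrfl
theorem f223203 : Led Lsl_ct (LP (LK LD1_c1 LD2_c2 LD3_c38)) = (LP (LK LD1_c2 LD2_c11 LD3_c14)) :=
  Lre_c IH (LK LD1_c1 LD2_c2 LD3_c38) (LK LD1_c2 LD2_c11 LD3_c14) Lrfl Lrfl
theorem f223204 : Led Lsl_gt (LP (LK LD1_c4 LD2_c28 LD3_c7)) = (LP (LK LD1_c2 LD2_c11 LD3_c14)) :=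
  Lre_g IH (LK LD1_c4 LD2_c28 LD3_c7) (LK LD1_c2 LD2_c11 LD3_c14) Lrfl Lrfl
theorem f223082 : Led Lsl_gt (LP (LK LD1_c3 LD2_c58 LD3_c27)) = (LP (LK LD1_c4 LD2_c7 LD3_c29)) :=
  Lgr Lrot46 (Lpr_gf (f223075 IH) (Lpe (f212866 IH) (Lpe (K9.f53616 IH) (Lpn (LP (LK LD1_c4 LD2_c7 LD3_c29))))))
theorem f223205 : Led Lsl_cf (LP (LK LD1_c4 LD2_c28 LD3_c7)) = (LP (LK LD1_c4 LD2_c4 LD3_c61)) :=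
  Lgr Lrot160 (Lpr_gt (f223204 IH) (Lpe (f223203 IH) (Lpr_bt (f223198 IH) (Lpr_gt (f223194 IH) (Lpe (f217965 IH) (Lpe (f223126 IH) (Lpe (f41246 IH) (Lpr_bt (f218711 IH) (Lpr_gt (f223082 IH) (Lpr_bf (K10.f53724 IH) (Lpn (LP (LK LD1_c4 LD2_c4 LD3_c61)))))))))))))
theorem f41555 : Led Lsl_gt (LP (LK LD1_c2 LD2_c11 LD3_c0)) = (LP (LK LD1_c1 LD2_c2 LD3_c39)) :=
  Lre_g IH (LK LD1_c2 LD2_c11 LD3_c0) (LK LD1_c1 LD2_c2 LD3_c39) Lrfl Lrfl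
theorem f216932 : Led Lsl_ct (LP (LK LD1_c1 LD2_c2 LD3_c39)) = (LP (LK LD1_c2 LD2_c11 LD3_c16)) :=
  Lre_c IH (LK LD1_c1 LD2_c2 LD3_c39) (LK LD1_c2 LD2_c11 LD3_c16) Lrfl Lrfl
theorem f223379 : Led Lsl_gf (LP (LK LD1_c4 LD2_c28 LD3_c7)) = (LP (LK LD1_c2 LD2_c11 LD3_c16)) :=
  Lgr Lrot129 (Lpr_cf (f223205 IH) (Lpe (K10.f53724 IH) (Lpe (f216927 IH) (Lpe (f213031 IH) (Lpr_ct (f213030 IH) (Lpr_gt (f216302 IH) (Lpe (K9.f172025 IH) (Lpr_bt (f173105 IH) (Lpr_gt (f41555 IH) (Lpr_ct (f216932 IH) (Lpn (LP (LK LD1_c2 LD2_c11 LD3_c16)))))))))))))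
theorem f223381 : Led Lsl_bt (LP (LK LD1_c1 LD2_c2 LD3_c39)) = (LP (LK LD1_c1 LD2_c57 LD3_c22)) :=
  Lgr Lrot92 (Lpr_ct (f216932 IH) (Lpe (f223379 IH) (Lpr_cf (f223205 IH) (Lpe (K10.f53724 IH) (Lpe (f216927 IH) (Lpr_ct (f216914 IH) (Lpe (f216909 IH) (Lpe (K9.f50135 IH) (Lpr_bt (f50175 IH) (Lpr_gt (K10.f27977 IH) (Lpn (LP (LK LD1_c1 LD2_c57 LD3_c22)))))))))))))
theorem f223383 : Led Lsl_bf (LP (LK LD1_c1 LD2_c2 LD3_c39)) = (LP (LK LD1_c1 LD2_c57 LD3_c22)) :=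
  Lgr Lrot24 (Lpr_bt (f223381 IH) (Lpn (LP (LK LD1_c1 LD2_c57 LD3_c22))))
theorem f42315 : Led Lsl_gt (LP (LK LD1_c1 LD2_c2 LD3_c39)) = (LP (LK LD1_c0 LD2_c28 LD3_c33)) :=
  Lre_g IH (LK LD1_c1 LD2_c2 LD3_c39) (LK LD1_c0 LD2_c28 LD3_c33) Lrfl Lrfl
theorem f223586 : Led Lsl_gt (LP (LK LD1_c2 LD2_c4 LD3_c47)) = (LP (LK LD1_c4 LD2_c1 LD3_c7)) :=
  Lgr Lrot65 (Lpe (K10.f52654 IH) (Lpr_bt (f52917 IH) (Lpe (f27450 IH) (Lpr_bf (f217932 IH) (Lpr_ct (f213008 IH) (Lpe (f217944 IH) (Lpe (K9.f173160 IH) (Lpe (f42315 IH) (Lpr_bf (f223383 IH) (Lpr_ct (f187915 IH) (Lpn (LP (LK LD1_c4 LD2_c1 LD3_c7)))))))))))))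
theorem f52271 : Led Lsl_ct (LP (LK LD1_c4 LD2_c1 LD3_c7)) = (LP (LK LD1_c1 LD2_c57 LD3_c22)) :=
  Lre_c IH (LK LD1_c4 LD2_c1 LD3_c7) (LK LD1_c1 LD2_c57 LD3_c22) Lrfl Lrfl
theorem f52237 : Led Lsl_ct (LP (LK LD1_c0 LD2_c56 LD3_c19)) = (LP (LK LD1_c1 LD2_c59 LD3_c4)) :=
  Lre_c IH (LK LD1_c0 LD2_c56 LD3_c19) (LK LD1_c1 LD2_c59 LD3_c4) Lrfl Lrfl
theorem f52243 : Led Lsl_df (LP (LK LD1_c1 LD2_c57 LD3_c23)) = (LP (LK LD1_c1 LD2_c59 LD3_c4)) :=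
  Lgr Lrot13 (Lpr_ct (K10.f52242 IH) (Lpr_dt (f52241 IH) (Lpr_ct (K9.f52240 IH) (Lpe (K10.f51566 IH) (Lpe (K1.f27932 IH) (Lpr_dt (K10.f51605 IH) (Lpr_ct (K1.f27950 IH) (Lpr_dt (K9.f27966 IH) (Lpr_ct (f52237 IH) (Lpn (LP (LK LD1_c1 LD2_c59 LD3_c4))))))))))))
theorem f52270 : Led Lsl_ct (LP (LK LD1_c4 LD2_c1 LD3_c5)) = (LP (LK LD1_c1 LD2_c57 LD3_c21)) :=
  Lre_c IH (LK LD1_c4 LD2_c1 LD3_c5) (LK LD1_c1 LD2_c57 LD3_c21) Lrfl Lrfl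
theorem f223590 : Led Lsl_gt (LP (LK LD1_c2 LD2_c4 LD3_c2)) = (LP (LK LD1_c4 LD2_c1 LD3_c5)) :=
  Lgr Lrot9 (Lpe (K10.f52588 IH) (Lpr_gt (f223586 IH) (Lpr_ct (f52271 IH) (Lpr_gt (K10.f28152 IH) (Lpr_ct (K10.f52246 IH) (Lpr_df (f52243 IH) (Lpe (f52237 IH) (Lpe (f27976 IH) (Lpe (f52270 IH) (Lpn (LP (LK LD1_c4 LD2_c1 LD3_c5))))))))))))
theorem f180101 : Led Lsl_dt (LP (LK LD1_c0 LD2_c27 LD3_c32)) = (LP (LK LD1_c1 LD2_c0 LD3_c30)) :=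
  Lre_d IH (LK LD1_c0 LD2_c27 LD3_c32) (LK LD1_c1 LD2_c0 LD3_c30) Lrfl Lrfl
theorem f200714 : Led Lsl_ct (LP (LK LD1_c1 LD2_c0 LD3_c30)) = (LP (LK LD1_c2 LD2_c6 LD3_c61)) :=
  Lre_c IH (LK LD1_c1 LD2_c0 LD3_c30) (LK LD1_c2 LD2_c6 LD3_c61) Lrfl Lrfl
theorem f223593 : Led Lsl_df (LP (LK LD1_c2 LD2_c6 LD3_c61)) = (LP (LK LD1_c4 LD2_c1 LD3_c5)) :=
  Lgr Lrot84 (Lpe (f200714 IH) (Lpe (f180101 IH) (Lpr_gf (f216309 IH) (Lpe (K9.f27968 IH) (Lpe (f27976 IH) (Lpe (f52270 IH) (Lpr_gt (f193340 IH) (Lpr_dt (K10.f52588 IH) (Lpr_gt (f223590 IH) (Lpn (LP (LK LD1_c4 LD2_c1 LD3_c5))))))))))))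
theorem f223601 : Led Lsl_dt (LP (LK LD1_c2 LD2_c6 LD3_c61)) = (LP (LK LD1_c4 LD2_c1 LD3_c5)) :=
  Lgr Lrot42 (Lpr_df (f223593 IH) (Lpn (LP (LK LD1_c4 LD2_c1 LD3_c5))))
theorem f200691 : Led Lsl_dt (LP (LK LD1_c0 LD2_c25 LD3_c33)) = (LP (LK LD1_c0 LD2_c56 LD3_c20)) :=
  Lre_d IH (LK LD1_c0 LD2_c25 LD3_c33) (LK LD1_c0 LD2_c56 LD3_c20) Lrfl Lrfl
theorem f200702 : Led Lsl_gt (LP (LK LD1_c0 LD2_c56 LD3_c20)) = (LP (LK LD1_c1 LD2_c59 LD3_c6)) :=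
  Lre_g IH (LK LD1_c0 LD2_c56 LD3_c20) (LK LD1_c1 LD2_c59 LD3_c6) Lrfl Lrfl
theorem f200703 : Led Lsl_ct (LP (LK LD1_c1 LD2_c59 LD3_c6)) = (LP (LK LD1_c4 LD2_c4 LD3_c20)) :=
  Lre_c IH (LK LD1_c1 LD2_c59 LD3_c6) (LK LD1_c4 LD2_c4 LD3_c20) Lrfl Lrfl
theorem f170068 : Led Lsl_ct (LP (LK LD1_c0 LD2_c12 LD3_c11)) = (LP (LK LD1_c0 LD2_c27 LD3_c32)) :=
  Lre_c IH (LK LD1_c0 LD2_c12 LD3_c11) (LK LD1_c0 LD2_c27 LD3_c32) Lrfl Lrfl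
theorem f8008 : Led Lsl_dt (LP (LK LD1_c1 LD2_c0 LD3_c30)) = (LP (LK LD1_c0 LD2_c27 LD3_c32)) :=
  Lre_d IH (LK LD1_c1 LD2_c0 LD3_c30) (LK LD1_c0 LD2_c27 LD3_c32) Lrfl Lrfl
theorem f180102 : Led Lsl_ct (LP (LK LD1_c2 LD2_c6 LD3_c61)) = (LP (LK LD1_c1 LD2_c0 LD3_c30)) :=
  Lre_c IH (LK LD1_c2 LD2_c6 LD3_c61) (LK LD1_c1 LD2_c0 LD3_c30) Lrfl Lrfl
theorem f200704 : Led Lsl_gt (LP (LK LD1_c4 LD2_c4 LD3_c20)) = (LP (LK LD1_c2 LD2_c6 LD3_c61)) :=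
  Lgr Lrot150 (Lpe (f200703 IH) (Lpe (f200702 IH) (Lpe (f200691 IH) (Lpr_gt (K11.f200694 IH) (Lpr_ct (K10.f27482 IH) (Lpe (K9.f179842 IH) (Lpr_ct (f170068 IH) (Lpe (f8008 IH) (Lpe (f180102 IH) (Lpn (LP (LK LD1_c2 LD2_c6 LD3_c61))))))))))))
theorem f200711 : Led Lsl_ct (LP (LK LD1_c4 LD2_c4 LD3_c20)) = (LP (LK LD1_c1 LD2_c59 LD3_c6)) :=
  Lre_c IH (LK LD1_c4 LD2_c4 LD3_c20) (LK LD1_c1 LD2_c59 LD3_c6) Lrfl Lrfl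
theorem f192822 : Led Lsl_dt (LP (LK LD1_c0 LD2_c56 LD3_c29)) = (LP (LK LD1_c0 LD2_c25 LD3_c36)) :=
  Lre_d IH (LK LD1_c0 LD2_c56 LD3_c29) (LK LD1_c0 LD2_c25 LD3_c36) Lrfl Lrfl
theorem f223666 : Led Lsl_gt (LP (LK LD1_c1 LD2_c59 LD3_c6)) = (LP (LK LD1_c0 LD2_c56 LD3_c29)) :=
  Lgr Lrot94 (Lpe (f200711 IH) (Lpr_gt (f200704 IH) (Lpr_dt (f223601 IH) (Lpr_gt (f193340 IH) (Lpr_dt (K10.f52588 IH) (Lpe (K10.f27660 IH) (Lpe (K10.f27693 IH) (Lpe (K10.f193287 IH) (Lpe (f192822 IH) (Lpn (LP (LK LD1_c0 LD2_c56 LD3_c29))))))))))))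
theorem f193324 : Led Lsl_dt (LP (LK LD1_c0 LD2_c25 LD3_c36)) = (LP (LK LD1_c0 LD2_c56 LD3_c29)) :=
  Lre_d IH (LK LD1_c0 LD2_c25 LD3_c36) (LK LD1_c0 LD2_c56 LD3_c29) Lrfl Lrfl
theorem f211495 : Led Lsl_et (LP (LK LD1_c0 LD2_c25 LD3_c36)) = (LP (LK LD1_c0 LD2_c56 LD3_c30)) :=
  Lre_e IH (LK LD1_c0 LD2_c25 LD3_c36) (LK LD1_c0 LD2_c56 LD3_c30) Lrfl Lrfl
theorem f168530 : Led Lsl_et (LP (LK LD1_c1 LD2_c10 LD3_c22)) = (LP (LK LD1_c0 LD2_c32 LD3_c34)) :=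
  Lre_e IH (LK LD1_c1 LD2_c10 LD3_c22) (LK LD1_c0 LD2_c32 LD3_c34) Lrfl Lrfl
theorem f223689 : Led Lsl_df (LP (LK LD1_c1 LD2_c59 LD3_c6)) = (LP (LK LD1_c1 LD2_c10 LD3_c22)) :=
  Lgr Lrot170 (Lpr_gt (f223666 IH) (Lpe (f193324 IH) (Lpr_et (f211495 IH) (Lpr_gt (f192807 IH) (Lpr_dt (f211486 IH) (Lpe (f29644 IH) (Lpe (K0.f2409 IH) (Lpe (K0.f2412 IH) (Lpe (K9.f182200 IH) (Lpe (f168530 IH) (Lpn (LP (LK LD1_c1 LD2_c10 LD3_c22)))))))))))))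
theorem f223703 : Led Lsl_gf (LP (LK LD1_c0 LD2_c25 LD3_c33)) = (LP (LK LD1_c0 LD2_c26 LD3_c52)) :=
  Lgr Lrot138 (Lpr_dt (f200691 IH) (Lpr_gt (f200702 IH) (Lpr_df (f223689 IH) (Lpr_et (f168530 IH) (Lpr_gt (f182314 IH) (Lpe (K10.f28757 IH) (Lpe (K0.f28755 IH) (Lpr_gt (K0.f1608 IH) (Lpr_df (K0.f27735 IH) (Lpr_et (K10.f27692 IH) (Lpn (LP (LK LD1_c0 LD2_c26 LD3_c52)))))))))))))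
theorem f223735 : Led Lsl_gf (LP (LK LD1_c1 LD2_c10 LD3_c3)) = (LP (LK LD1_c0 LD2_c59 LD3_c1)) :=
  Lgr Lrot147 (Lpe (K10.f196399 IH) (Lpr_gt (K10.f53069 IH) (Lpr_ct (K11.f52320 IH) (Lpe (K11.f28106 IH) (Lpe (K11.f28129 IH) (Lpe (K11.f28164 IH) (Lpe (K11.f53023 IH) (Lpr_gf (f223703 IH) (Lpe (K10.f27694 IH) (Lpn (LP (LK LD1_c0 LD2_c59 LD3_c1))))))))))))
theorem f27751 : Led Lsl_et (LP (LK LD1_c0 LD2_c26 LD3_c52)) = (LP (LK LD1_c0 LD2_c11 LD3_c54)) :=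
  Lre_e IH (LK LD1_c0 LD2_c26 LD3_c52) (LK LD1_c0 LD2_c11 LD3_c54) Lrfl Lrfl
theorem f34047 : Led Lsl_gt (LP (LK LD1_c0 LD2_c55 LD3_c57)) = (LP (LK LD1_c0 LD2_c25 LD3_c22)) :=
  Lre_g IH (LK LD1_c0 LD2_c55 LD3_c57) (LK LD1_c0 LD2_c25 LD3_c22) Lrfl Lrfl
theorem f30821 : Led Lsl_dt (LP (LK LD1_c0 LD2_c55 LD3_c8)) = (LP (LK LD1_c0 LD2_c55 LD3_c57)) :=
  Lre_d IH (LK LD1_c0 LD2_c55 LD3_c8) (LK LD1_c0 LD2_c55 LD3_c57) Lrfl Lrfl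
theorem f53090 : Led Lsl_et (LP (LK LD1_c0 LD2_c25 LD3_c34)) = (LP (LK LD1_c0 LD2_c56 LD3_c24)) :=
  Lre_e IH (LK LD1_c0 LD2_c25 LD3_c34) (LK LD1_c0 LD2_c56 LD3_c24) Lrfl Lrfl
theorem f53091 : Led Lsl_et (LP (LK LD1_c0 LD2_c24 LD3_c58)) = (LP (LK LD1_c0 LD2_c55 LD3_c8)) :=
  Lre_e IH (LK LD1_c0 LD2_c24 LD3_c58) (LK LD1_c0 LD2_c55 LD3_c8) Lrfl Lrfl
theorem f53092 : Led Lsl_gt (LP (LK LD1_c0 LD2_c56 LD3_c24)) = (LP (LK LD1_c0 LD2_c55 LD3_c8)) :=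
  Lgr Lrot131 (Lpe (f53090 IH) (Lpr_dt (f53089 IH) (Lpe (K9.f28781 IH) (Lpr_df (K10.f52238 IH) (Lpe (K10.f53078 IH) (Lpe (K10.f28162 IH) (Lpr_dt (K10.f28163 IH) (Lpe (K10.f6928 IH) (Lpe (K10.f2984 IH) (Lpr_et (f53091 IH) (Lpn (LP (LK LD1_c0 LD2_c55 LD3_c8)))))))))))))
theorem f53130 : Led Lsl_ct (LP (LK LD1_c1 LD2_c59 LD3_c15)) = (LP (LK LD1_c0 LD2_c56 LD3_c24)) :=
  Lre_c IH (LK LD1_c1 LD2_c59 LD3_c15) (LK LD1_c0 LD2_c56 LD3_c24) Lrfl Lrfl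
theorem f193261 : Led Lsl_gf (LP (LK LD1_c1 LD2_c1 LD3_c28)) = (LP (LK LD1_c1 LD2_c59 LD3_c15)) :=
  Lgr Lrot144 (Lpr_dt (K10.f193188 IH) (Lpr_gt (K10.f27772 IH) (Lpr_dt (K0.f33553 IH) (Lpe (K0.f33580 IH) (Lpe (K0.f34019 IH) (Lpe (f34047 IH) (Lpe (f30821 IH) (Lpe (f53092 IH) (Lpe (f53130 IH) (Lpn (LP (LK LD1_c1 LD2_c59 LD3_c15))))))))))))
theorem f193263 : Led Lsl_et (LP (LK LD1_c0 LD2_c56 LD3_c23)) = (LP (LK LD1_c1 LD2_c59 LD3_c15)) :=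
  Lre_e IH (LK LD1_c0 LD2_c56 LD3_c23) (LK LD1_c1 LD2_c59 LD3_c15) Lrfl Lrfl
theorem f224862 : Led Lsl_df (LP (LK LD1_c1 LD2_c10 LD3_c3)) = (LP (LK LD1_c0 LD2_c56 LD3_c23)) :=
  Lgr Lrot168 (Lpr_gf (f223735 IH) (Lpe (K10.f27693 IH) (Lpr_et (f27751 IH) (Lpe (K0.f27768 IH) (Lpe (K0.f27770 IH) (Lpr_dt (K0.f27771 IH) (Lpe (K10.f27772 IH) (Lpe (K10.f193188 IH) (Lpr_gf (f193261 IH) (Lpe (f193263 IH) (Lpn (LP (LK LD1_c0 LD2_c56 LD3_c23)))))))))))))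
theorem f196407 : Led Lsl_ct (LP (LK LD1_c1 LD2_c59 LD3_c0)) = (LP (LK LD1_c1 LD2_c10 LD3_c3)) :=
  Lgr Lrot59 (Lpr_cf (K10.f196399 IH) (Lpn (LP (LK LD1_c1 LD2_c10 LD3_c3))))
theorem f53080 : Led Lsl_ct (LP (LK LD1_c0 LD2_c25 LD3_c34)) = (LP (LK LD1_c0 LD2_c56 LD3_c23)) :=
  Lre_c IH (LK LD1_c0 LD2_c25 LD3_c34) (LK LD1_c0 LD2_c56 LD3_c23) Lrfl Lrfl
theorem f224875 : Led Lsl_gt (LP (LK LD1_c0 LD2_c54 LD3_c53)) = (LP (LK LD1_c0 LD2_c25 LD3_c34)) :=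
  Lgr Lrot150 (Lpe (K11.f173353 IH) (Lpe (K11.f211393 IH) (Lpe (K11.f201300 IH) (Lpr_gt (K11.f53056 IH) (Lpr_ct (K10.f52294 IH) (Lpr_gt (K10.f52295 IH) (Lpr_ct (f196407 IH) (Lpr_df (f224862 IH) (Lpe (f53080 IH) (Lpn (LP (LK LD1_c0 LD2_c25 LD3_c34))))))))))))
theorem f6827 : Led Lsl_et (LP (LK LD1_c0 LD2_c24 LD3_c48)) = (LP (LK LD1_c0 LD2_c54 LD3_c53)) :=
  Lre_e IH (LK LD1_c0 LD2_c24 LD3_c48) (LK LD1_c0 LD2_c54 LD3_c53) Lrfl Lrfl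
theorem f224990 : Led Lsl_gf (LP (LK LD1_c0 LD2_c54 LD3_c52)) = (LP (LK LD1_c0 LD2_c56 LD3_c33)) :=
  Lgr Lrot145 (Lpe (f6831 IH) (Lpr_et (f6827 IH) (Lpr_gt (f224875 IH) (Lpr_dt (f53089 IH) (Lpr_gt (K11.f28164 IH) (Lpr_df (K11.f52234 IH) (Lpe (K11.f27945 IH) (Lpr_gt (K11.f28160 IH) (Lpe (K10.f28162 IH) (Lpr_dt (K10.f28163 IH) (Lpn (LP (LK LD1_c0 LD2_c56 LD3_c33)))))))))))))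
theorem f6828 : Led Lsl_dt (LP (LK LD1_c0 LD2_c54 LD3_c52)) = (LP (LK LD1_c0 LD2_c24 LD3_c48)) :=
  Lre_d IH (LK LD1_c0 LD2_c54 LD3_c52) (LK LD1_c0 LD2_c24 LD3_c48) Lrfl Lrfl
theorem f53106 : Led Lsl_ct (LP (LK LD1_c1 LD2_c59 LD3_c27)) = (LP (LK LD1_c0 LD2_c56 LD3_c33)) :=
  Lre_c IH (LK LD1_c1 LD2_c59 LD3_c27) (LK LD1_c0 LD2_c56 LD3_c33) Lrfl Lrfl
theorem f180214 : Led Lsl_dt (LP (LK LD1_c1 LD2_c1 LD3_c37)) = (LP (LK LD1_c2 LD2_c8 LD3_c51)) :=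
  Lre_d IH (LK LD1_c1 LD2_c1 LD3_c37) (LK LD1_c2 LD2_c8 LD3_c51) Lrfl Lrfl
theorem f224992 : Led Lsl_gf (LP (LK LD1_c1 LD2_c56 LD3_c47)) = (LP (LK LD1_c2 LD2_c8 LD3_c51)) :=
  Lgr Lrot143 (Lpr_dt (K1.f2977 IH) (Lpe (K1.f2978 IH) (Lpe (K0.f2973 IH) (Lpe (f193283 IH) (Lpe (f6828 IH) (Lpr_gf (f224990 IH) (Lpe (f53106 IH) (Lpe (K11.f187090 IH) (Lpr_dt (f180214 IH) (Lpn (LP (LK LD1_c2 LD2_c8 LD3_c51))))))))))))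
theorem f30803 : Led Lsl_et (LP (LK LD1_c0 LD2_c55 LD3_c10)) = (LP (LK LD1_c0 LD2_c25 LD3_c0)) :=
  Lre_e IH (LK LD1_c0 LD2_c55 LD3_c10) (LK LD1_c0 LD2_c25 LD3_c0) Lrfl Lrfl
theorem f34788 : Led Lsl_gt (LP (LK LD1_c2 LD2_c7 LD3_c35)) = (LP (LK LD1_c4 LD2_c20 LD3_c15)) :=
  Lre_g IH (LK LD1_c2 LD2_c7 LD3_c35) (LK LD1_c4 LD2_c20 LD3_c15) Lrfl Lrfl
theorem f53107 : Led Lsl_ef (LP (LK LD1_c1 LD2_c59 LD3_c27)) = (LP (LK LD1_c3 LD2_c59 LD3_c58)) :=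
  Lgr Lrot28 (Lpr_ct (f53106 IH) (Lpr_et (K10.f53104 IH) (Lpr_ct (K10.f28728 IH) (Lpn (LP (LK LD1_c3 LD2_c59 LD3_c58))))))
theorem f225010 : Led Lsl_df (LP (LK LD1_c4 LD2_c20 LD3_c15)) = (LP (LK LD1_c3 LD2_c59 LD3_c58)) :=
  Lgr Lrot168 (Lpe (f34788 IH) (Lpe (K11.f31722 IH) (Lpe (K1.f34779 IH) (Lpr_gf (K0.f35345 IH) (Lpe (f30803 IH) (Lpr_dt (K1.f6922 IH) (Lpr_gf (f224992 IH) (Lpe (f180214 IH) (Lpr_gf (K11.f187090 IH) (Lpr_ef (f53107 IH) (Lpn (LP (LK LD1_c3 LD2_c59 LD3_c58)))))))))))))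
theorem f212008 : Led Lsl_bt (LP (LK LD1_c1 LD2_c13 LD3_c35)) = (LP (LK LD1_c1 LD2_c0 LD3_c29)) :=
  Lgr Lrot92 (Lpr_ct (K10.f185152 IH) (Lpe (K10.f189869 IH) (Lpe (K10.f28728 IH) (Lpr_bt (K10.f192787 IH) (Lpr_gt (K10.f192634 IH) (Lpe (f204921 IH) (Lpr_gt (f204930 IH) (Lpe (f36344 IH) (Lpe (f164135 IH) (Lpr_gt (f212000 IH) (Lpn (LP (LK LD1_c1 LD2_c0 LD3_c29)))))))))))))
theorem f212015 : Led Lsl_ef (LP (LK LD1_c1 LD2_c13 LD3_c35)) = (LP (LK LD1_c1 LD2_c28 LD3_c22)) :=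
  Lgr Lrot29 (Lpr_bt (f212008 IH) (Lpr_et (K10.f193781 IH) (Lpe (K10.f193775 IH) (Lpn (LP (LK LD1_c1 LD2_c28 LD3_c22))))))
theorem f24562 : Led Lsl_et (LP (LK LD1_c0 LD2_c37 LD3_c35)) = (LP (LK LD1_c1 LD2_c18 LD3_c55)) :=
  Lre_e IH (LK LD1_c0 LD2_c37 LD3_c35) (LK LD1_c1 LD2_c18 LD3_c55) Lrfl Lrfl
theorem f176989 : Led Lsl_bt (LP (LK LD1_c1 LD2_c19 LD3_c37)) = (LP (LK LD1_c0 LD2_c36 LD3_c45)) :=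
  Lre_b IH (LK LD1_c1 LD2_c19 LD3_c37) (LK LD1_c0 LD2_c36 LD3_c45) Lrfl Lrfl
theorem f176990 : Led Lsl_ef (LP (LK LD1_c1 LD2_c19 LD3_c37)) = (LP (LK LD1_c0 LD2_c38 LD3_c16)) :=
  Lgr Lrot29 (Lpr_bt (f176989 IH) (Lpr_et (K9.f176901 IH) (Lpr_bt (K11.f24486 IH) (Lpn (LP (LK LD1_c0 LD2_c38 LD3_c16))))))
theorem f198246 : Led Lsl_df (LP (LK LD1_c2 LD2_c8 LD3_c56)) = (LP (LK LD1_c1 LD2_c19 LD3_c37)) :=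
  Lgr Lrot70 (Lpr_et (K10.f198242 IH) (Lpr_dt (K10.f24563 IH) (Lpr_et (f24562 IH) (Lpr_dt (K10.f24550 IH) (Lpe (f176990 IH) (Lpn (LP (LK LD1_c1 LD2_c19 LD3_c37))))))))
theorem f176994 : Led Lsl_ef (LP (LK LD1_c0 LD2_c36 LD3_c45)) = (LP (LK LD1_c0 LD2_c17 LD3_c3)) :=
  Lgr Lrot88 (Lpr_et (K9.f176901 IH) (Lpn (LP (LK LD1_c0 LD2_c17 LD3_c3))))
theorem f176897 : Led Lsl_bt (LP (LK LD1_c0 LD2_c36 LD3_c45)) = (LP (LK LD1_c1 LD2_c19 LD3_c37)) :=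
  Lre_b IH (LK LD1_c0 LD2_c36 LD3_c45) (LK LD1_c1 LD2_c19 LD3_c37) Lrfl Lrfl
theorem f176996 : Led Lsl_et (LP (LK LD1_c1 LD2_c19 LD3_c37)) = (LP (LK LD1_c0 LD2_c38 LD3_c16)) :=
  Lgr Lrot74 (Lpe (f176897 IH) (Lpr_ef (f176994 IH) (Lpe (K10.f24431 IH) (Lpn (LP (LK LD1_c0 LD2_c38 LD3_c16))))))
theorem f212021 : Led Lsl_gt (LP (LK LD1_c1 LD2_c13 LD3_c35)) = (LP (LK LD1_c1 LD2_c0 LD3_c50)) :=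
  Lgr Lrot137 (Lpr_ef (f212015 IH) (Lpe (K10.f80962 IH) (Lpe (K10.f80922 IH) (Lpr_df (f198246 IH) (Lpr_et (f176996 IH) (Lpe (K10.f198262 IH) (Lpe (K11.f35796 IH) (Lpr_dt (K0.f28624 IH) (Lpe (K10.f182091 IH) (Lpe (K11.f34776 IH) (Lpn (LP (LK LD1_c1 LD2_c0 LD3_c50)))))))))))))
theorem f225020 : Led Lsl_gt (LP (LK LD1_c4 LD2_c20 LD3_c15)) = (LP (LK LD1_c4 LD2_c20 LD3_c45)) :=
  Lgr Lrot49 (Lpr_df (f225010 IH) (Lpr_gf (K10.f189869 IH) (Lpe (K10.f185152 IH) (Lpr_gt (f212021 IH) (Lpr_dt (K11.f34776 IH) (Lpr_gt (K10.f182091 IH) (Lpr_dt (K0.f28638 IH) (Lpe (K0.f28636 IH) (Lpe (K0.f28644 IH) (Lpn (LP (LK LD1_c4 LD2_c20 LD3_c45))))))))))))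
theorem f211051 : Led Lsl_dt (LP (LK LD1_c2 LD2_c26 LD3_c53)) = (LP (LK LD1_c4 LD2_c58 LD3_c6)) :=
  Lre_d IH (LK LD1_c2 LD2_c26 LD3_c53) (LK LD1_c4 LD2_c58 LD3_c6) Lrfl Lrfl
theorem f24512 : Led Lsl_bt (LP (LK LD1_c1 LD2_c18 LD3_c55)) = (LP (LK LD1_c0 LD2_c36 LD3_c21)) :=
  Lre_b IH (LK LD1_c1 LD2_c18 LD3_c55) (LK LD1_c0 LD2_c36 LD3_c21) Lrfl Lrfl
theorem f24513 : Led Lsl_df (LP (LK LD1_c1 LD2_c18 LD3_c55)) = (LP (LK LD1_c0 LD2_c38 LD3_c16)) :=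
  Lgr Lrot12 (Lpr_bt (f24512 IH) (Lpr_dt (K9.f24440 IH) (Lpr_bt (K11.f24486 IH) (Lpn (LP (LK LD1_c0 LD2_c38 LD3_c16))))))
theorem f24515 : Led Lsl_ct (LP (LK LD1_c1 LD2_c18 LD3_c56)) = (LP (LK LD1_c0 LD2_c36 LD3_c21)) :=
  Lre_c IH (LK LD1_c1 LD2_c18 LD3_c56) (LK LD1_c0 LD2_c36 LD3_c21) Lrfl Lrfl
theorem f179909 : Led Lsl_gf (LP (LK LD1_c1 LD2_c18 LD3_c56)) = (LP (LK LD1_c1 LD2_c10 LD3_c19)) :=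
  Lgr Lrot172 (Lpr_ct (f24515 IH) (Lpr_dt (K9.f24440 IH) (Lpe (K10.f24429 IH) (Lpe (K10.f71452 IH) (Lpr_cf (K10.f71477 IH) (Lpe (K11.f37721 IH) (Lpr_dt (K10.f179902 IH) (Lpr_gt (K10.f179901 IH) (Lpr_ct (f179896 IH) (Lpn (LP (LK LD1_c1 LD2_c10 LD3_c19))))))))))))
theorem f24552 : Led Lsl_ct (LP (LK LD1_c0 LD2_c36 LD3_c21)) = (LP (LK LD1_c1 LD2_c18 LD3_c56)) :=
  Lre_c IH (LK LD1_c0 LD2_c36 LD3_c21) (LK LD1_c1 LD2_c18 LD3_c56) Lrfl Lrfl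
theorem f173291 : Led Lsl_bf (LP (LK LD1_c0 LD2_c54 LD3_c50)) = (LP (LK LD1_c1 LD2_c1 LD3_c31)) :=
  Lgr Lrot24 (Lpr_bt (K11.f173276 IH) (Lpn (LP (LK LD1_c1 LD2_c1 LD3_c31))))
theorem f193380 : Led Lsl_bf (LP (LK LD1_c1 LD2_c59 LD3_c32)) = (LP (LK LD1_c0 LD2_c57 LD3_c32)) :=
  Lgr Lrot93 (Lpr_dt (K10.f193378 IH) (Lpe (f173291 IH) (Lpr_dt (K10.f53316 IH) (Lpn (LP (LK LD1_c0 LD2_c57 LD3_c32))))))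
theorem f198565 : Led Lsl_gt (LP (LK LD1_c1 LD2_c18 LD3_c55)) = (LP (LK LD1_c1 LD2_c59 LD3_c32)) :=
  Lgr Lrot164 (Lpe (K10.f24549 IH) (Lpr_ct (f24552 IH) (Lpr_gf (f179909 IH) (Lpe (f179896 IH) (Lpe (K10.f179901 IH) (Lpe (f198487 IH) (Lpr_ct (K10.f24240 IH) (Lpr_gf (K11.f198508 IH) (Lpr_cf (K11.f193820 IH) (Lpe (f193380 IH) (Lpn (LP (LK LD1_c1 LD2_c59 LD3_c32)))))))))))))
theorem f173294 : Led Lsl_ct (LP (LK LD1_c1 LD2_c1 LD3_c31)) = (LP (LK LD1_c2 LD2_c8 LD3_c44)) :=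
  Lre_c IH (LK LD1_c1 LD2_c1 LD3_c31) (LK LD1_c2 LD2_c8 LD3_c44) Lrfl Lrfl
theorem f173335 : Led Lsl_dt (LP (LK LD1_c4 LD2_c22 LD3_c37)) = (LP (LK LD1_c2 LD2_c8 LD3_c44)) :=
  Lre_d IH (LK LD1_c4 LD2_c22 LD3_c37) (LK LD1_c2 LD2_c8 LD3_c44) Lrfl Lrfl
theorem f211098 : Led Lsl_gf (LP (LK LD1_c4 LD2_c22 LD3_c37)) = (LP (LK LD1_c4 LD2_c58 LD3_c6)) :=
  Lgr Lrot143 (Lpr_dt (f173335 IH) (Lpe (f173294 IH) (Lpe (K10.f193378 IH) (Lpe (f198565 IH) (Lpr_df (f24513 IH) (Lpe (K10.f198262 IH) (Lpe (K1.f35486 IH) (Lpr_gt (K11.f211056 IH) (Lpr_dt (f211051 IH) (Lpn (LP (LK LD1_c4 LD2_c58 LD3_c6))))))))))))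
theorem f193382 : Led Lsl_dt (LP (LK LD1_c2 LD2_c8 LD3_c44)) = (LP (LK LD1_c4 LD2_c22 LD3_c37)) :=
  Lre_d IH (LK LD1_c2 LD2_c8 LD3_c44) (LK LD1_c4 LD2_c22 LD3_c37) Lrfl Lrfl
theorem f211103 : Led Lsl_et (LP (LK LD1_c2 LD2_c8 LD3_c44)) = (LP (LK LD1_c1 LD2_c1 LD3_c30)) :=
  Lre_e IH (LK LD1_c2 LD2_c8 LD3_c44) (LK LD1_c1 LD2_c1 LD3_c30) Lrfl Lrfl
theorem f225024 : Led Lsl_gt (LP (LK LD1_c1 LD2_c1 LD3_c30)) = (LP (LK LD1_c1 LD2_c59 LD3_c27)) :=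
  Lgr Lrot131 (Lpe (f211103 IH) (Lpr_dt (f193382 IH) (Lpr_gf (f211098 IH) (Lpe (f211051 IH) (Lpe (K11.f211056 IH) (Lpe (K1.f35801 IH) (Lpr_dt (K0.f31710 IH) (Lpe (f225020 IH) (Lpr_df (f225010 IH) (Lpe (f53107 IH) (Lpn (LP (LK LD1_c1 LD2_c59 LD3_c27)))))))))))))
theorem f173281 : Led Lsl_ct (LP (LK LD1_c0 LD2_c28 LD3_c4)) = (LP (LK LD1_c1 LD2_c1 LD3_c30)) :=
  Lre_c IH (LK LD1_c0 LD2_c28 LD3_c4) (LK LD1_c1 LD2_c1 LD3_c30) Lrfl Lrfl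
theorem f173342 : Led Lsl_gt (LP (LK LD1_c1 LD2_c1 LD3_c29)) = (LP (LK LD1_c0 LD2_c28 LD3_c4)) :=
  Lre_g IH (LK LD1_c1 LD2_c1 LD3_c29) (LK LD1_c0 LD2_c28 LD3_c4) Lrfl Lrfl
theorem f59076 : Led Lsl_bt (LP (LK LD1_c0 LD2_c18 LD3_c16)) = (LP (LK LD1_c0 LD2_c8 LD3_c16)) :=
  Lre_b IH (LK LD1_c0 LD2_c18 LD3_c16) (LK LD1_c0 LD2_c8 LD3_c16) Lrfl Lrfl
theorem f59079 : Led Lsl_ct (LP (LK LD1_c0 LD2_c18 LD3_c16)) = (LP (LK LD1_c0 LD2_c40 LD3_c47)) :=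
  Lre_c IH (LK LD1_c0 LD2_c18 LD3_c16) (LK LD1_c0 LD2_c40 LD3_c47) Lrfl Lrfl
theorem f38037 : Led Lsl_gt (LP (LK LD1_c0 LD2_c40 LD3_c47)) = (LP (LK LD1_c1 LD2_c28 LD3_c12)) :=
  Lre_g IH (LK LD1_c0 LD2_c40 LD3_c47) (LK LD1_c1 LD2_c28 LD3_c12) Lrfl Lrfl
theorem f210304 : Led Lsl_bt (LP (LK LD1_c0 LD2_c41 LD3_c1)) = (LP (LK LD1_c0 LD2_c18 LD3_c22)) :=
  Lre_b IH (LK LD1_c0 LD2_c41 LD3_c1) (LK LD1_c0 LD2_c18 LD3_c22) Lrfl Lrfl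
theorem f210305 : Led Lsl_cf (LP (LK LD1_c1 LD2_c28 LD3_c12)) = (LP (LK LD1_c0 LD2_c41 LD3_c1)) :=
  Lgr Lrot58 (Lpe (f38037 IH) (Lpe (f59079 IH) (Lpr_bt (f59076 IH) (Lpe (K9.f59013 IH) (Lpe (K11.f198474 IH) (Lpr_ct (K11.f146333 IH) (Lpr_gf (K11.f210291 IH) (Lpe (K11.f25963 IH) (Lpe (K11.f210296 IH) (Lpe (f210304 IH) (Lpn (LP (LK LD1_c0 LD2_c41 LD3_c1)))))))))))))
theorem f38051 : Led Lsl_et (LP (LK LD1_c1 LD2_c28 LD3_c12)) = (LP (LK LD1_c3 LD2_c4 LD3_c25)) :=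
  Lre_e IH (LK LD1_c1 LD2_c28 LD3_c12) (LK LD1_c3 LD2_c4 LD3_c25) Lrfl Lrfl
theorem f210313 : Led Lsl_et (LP (LK LD1_c1 LD2_c28 LD3_c50)) = (LP (LK LD1_c0 LD2_c41 LD3_c1)) :=
  Lre_e IH (LK LD1_c1 LD2_c28 LD3_c50) (LK LD1_c0 LD2_c41 LD3_c1) Lrfl Lrfl
theorem f210314 : Led Lsl_ct (LP (LK LD1_c3 LD2_c4 LD3_c25)) = (LP (LK LD1_c1 LD2_c28 LD3_c50)) :=
  Lgr Lrot15 (Lpe (f38051 IH) (Lpr_cf (f210305 IH) (Lpe (f210313 IH) (Lpn (LP (LK LD1_c1 LD2_c28 LD3_c50))))))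
theorem f210317 : Led Lsl_cf (LP (LK LD1_c3 LD2_c4 LD3_c25)) = (LP (LK LD1_c1 LD2_c28 LD3_c50)) :=
  Lgr Lrot11 (Lpr_ct (f210314 IH) (Lpn (LP (LK LD1_c1 LD2_c28 LD3_c50))))
theorem f186474 : Led Lsl_bt (LP (LK LD1_c1 LD2_c28 LD3_c50)) = (LP (LK LD1_c0 LD2_c41 LD3_c4)) :=
  Lre_b IH (LK LD1_c1 LD2_c28 LD3_c50) (LK LD1_c0 LD2_c41 LD3_c4) Lrfl Lrfl
theorem f179953 : Led Lsl_bt (LP (LK LD1_c1 LD2_c10 LD3_c14)) = (LP (LK LD1_c0 LD2_c32 LD3_c32)) :=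
  Lre_b IH (LK LD1_c1 LD2_c10 LD3_c14) (LK LD1_c0 LD2_c32 LD3_c32) Lrfl Lrfl
theorem f210321 : Led Lsl_gf (LP (LK LD1_c3 LD2_c4 LD3_c25)) = (LP (LK LD1_c2 LD2_c26 LD3_c5)) :=
  Lgr Lrot126 (Lpr_cf (f210317 IH) (Lpr_bt (f186474 IH) (Lpe (K10.f186489 IH) (Lpe (K11.f193820 IH) (Lpe (K11.f198508 IH) (Lpe (K10.f24240 IH) (Lpr_bt (f198487 IH) (Lpr_gt (K10.f179901 IH) (Lpe (f179953 IH) (Lpr_ct (K11.f182385 IH) (Lpn (LP (LK LD1_c2 LD2_c26 LD3_c5)))))))))))))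
theorem f38035 : Led Lsl_gt (LP (LK LD1_c4 LD2_c25 LD3_c35)) = (LP (LK LD1_c2 LD2_c10 LD3_c8)) :=
  Lre_g IH (LK LD1_c4 LD2_c25 LD3_c35) (LK LD1_c2 LD2_c10 LD3_c8) Lrfl Lrfl
theorem f38036 : Led Lsl_et (LP (LK LD1_c0 LD2_c18 LD3_c15)) = (LP (LK LD1_c0 LD2_c40 LD3_c47)) :=
  Lre_e IH (LK LD1_c0 LD2_c18 LD3_c15) (LK LD1_c0 LD2_c40 LD3_c47) Lrfl Lrfl
theorem f38038 : Led Lsl_et (LP (LK LD1_c3 LD2_c4 LD3_c25)) = (LP (LK LD1_c1 LD2_c28 LD3_c12)) :=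
  Lre_e IH (LK LD1_c3 LD2_c4 LD3_c25) (LK LD1_c1 LD2_c28 LD3_c12) Lrfl Lrfl
theorem f38039 : Led Lsl_df (LP (LK LD1_c4 LD2_c25 LD3_c35)) = (LP (LK LD1_c3 LD2_c4 LD3_c25)) :=
  Lgr Lrot170 (Lpr_gt (f38035 IH) (Lpe (K1.f38034 IH) (Lpr_et (K11.f38033 IH) (Lpr_gt (K1.f16641 IH) (Lpr_dt (K0.f16621 IH) (Lpr_gt (K2.f38005 IH) (Lpe (K2.f36606 IH) (Lpr_et (f38036 IH) (Lpr_gt (f38037 IH) (Lpe (f38038 IH) (Lpn (LP (LK LD1_c3 LD2_c4 LD3_c25)))))))))))))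
theorem f37871 : Led Lsl_et (LP (LK LD1_c0 LD2_c28 LD3_c11)) = (LP (LK LD1_c0 LD2_c12 LD3_c32)) :=
  Lre_e IH (LK LD1_c0 LD2_c28 LD3_c11) (LK LD1_c0 LD2_c12 LD3_c32) Lrfl Lrfl
theorem f210325 : Led Lsl_et (LP (LK LD1_c1 LD2_c10 LD3_c13)) = (LP (LK LD1_c2 LD2_c26 LD3_c5)) :=
  Lre_e IH (LK LD1_c1 LD2_c10 LD3_c13) (LK LD1_c2 LD2_c26 LD3_c5) Lrfl Lrfl
theorem f210326 : Led Lsl_df (LP (LK LD1_c2 LD2_c9 LD3_c11)) = (LP (LK LD1_c1 LD2_c10 LD3_c13)) :=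
  Lgr Lrot168 (Lpe (f29617 IH) (Lpe (K1.f29616 IH) (Lpr_et (f37871 IH) (Lpe (K1.f16641 IH) (Lpe (K11.f38033 IH) (Lpr_dt (K1.f38034 IH) (Lpe (f38035 IH) (Lpr_df (f38039 IH) (Lpr_gf (f210321 IH) (Lpe (f210325 IH) (Lpn (LP (LK LD1_c1 LD2_c10 LD3_c13)))))))))))))
theorem f181966 : Led Lsl_ct (LP (LK LD1_c1 LD2_c1 LD3_c29)) = (LP (LK LD1_c2 LD2_c8 LD3_c40)) :=
  Lre_c IH (LK LD1_c1 LD2_c1 LD3_c29) (LK LD1_c2 LD2_c8 LD3_c40) Lrfl Lrfl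
theorem f210335 : Led Lsl_gt (LP (LK LD1_c2 LD2_c8 LD3_c40)) = (LP (LK LD1_c1 LD2_c10 LD3_c13)) :=
  Lgr Lrot94 (Lpe (f181966 IH) (Lpr_gt (f173342 IH) (Lpr_dt (K10.f35481 IH) (Lpe (K9.f181960 IH) (Lpr_dt (K1.f39177 IH) (Lpe (K1.f38940 IH) (Lpe (K1.f38918 IH) (Lpr_gf (f38926 IH) (Lpr_df (f210326 IH) (Lpn (LP (LK LD1_c1 LD2_c10 LD3_c13))))))))))))
theorem f179871 : Led Lsl_bt (LP (LK LD1_c0 LD2_c32 LD3_c28)) = (LP (LK LD1_c0 LD2_c14 LD3_c34)) :=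
  Lre_b IH (LK LD1_c0 LD2_c32 LD3_c28) (LK LD1_c0 LD2_c14 LD3_c34) Lrfl Lrfl
theorem f210341 : Led Lsl_bt (LP (LK LD1_c1 LD2_c1 LD3_c29)) = (LP (LK LD1_c0 LD2_c28 LD3_c50)) :=
  Lgr Lrot92 (Lpr_ct (f181966 IH) (Lpr_gt (f210335 IH) (Lpe (K11.f179873 IH) (Lpr_bt (f179871 IH) (Lpe (K9.f179854 IH) (Lpr_ct (K9.f179869 IH) (Lpr_gt (K9.f180225 IH) (Lpe (K9.f168834 IH) (Lpr_bt (K9.f177813 IH) (Lpr_gt (K9.f174629 IH) (Lpn (LP (LK LD1_c0 LD2_c28 LD3_c50)))))))))))))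
theorem f210360 : Led Lsl_bf (LP (LK LD1_c1 LD2_c1 LD3_c29)) = (LP (LK LD1_c0 LD2_c28 LD3_c50)) :=
  Lgr Lrot24 (Lpr_bt (f210341 IH) (Lpn (LP (LK LD1_c0 LD2_c28 LD3_c50))))
theorem f225153 : Led Lsl_gf (LP (LK LD1_c1 LD2_c3 LD3_c13)) = (LP (LK LD1_c0 LD2_c54 LD3_c54)) :=
  Lgr Lrot126 (Lpe (K9.f174623 IH) (Lpe (f210360 IH) (Lpr_gt (f173342 IH) (Lpr_ct (f173281 IH) (Lpr_gt (f225024 IH) (Lpe (K11.f30819 IH) (Lpe (K10.f192791 IH) (Lpe (f224990 IH) (Lpe (K11.f56049 IH) (Lpr_ct (K9.f40791 IH) (Lpn (LP (LK LD1_c0 LD2_c54 LD3_c54)))))))))))))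
theorem f20694 : Led Lsl_ct (LP (LK LD1_c0 LD2_c12 LD3_c44)) = (LP (LK LD1_c0 LD2_c28 LD3_c51)) :=
  Lre_c IH (LK LD1_c0 LD2_c12 LD3_c44) (LK LD1_c0 LD2_c28 LD3_c51) Lrfl Lrfl
theorem f167917 : Led Lsl_gt (LP (LK LD1_c1 LD2_c3 LD3_c52)) = (LP (LK LD1_c2 LD2_c12 LD3_c16)) :=
  Lre_g IH (LK LD1_c1 LD2_c3 LD3_c52) (LK LD1_c2 LD2_c12 LD3_c16) Lrfl Lrfl
theorem f225160 : Led Lsl_cf (LP (LK LD1_c1 LD2_c3 LD3_c16)) = (LP (LK LD1_c2 LD2_c12 LD3_c16)) :=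
  Lgr Lrot99 (Lpe (f174924 IH) (Lpe (f20694 IH) (Lpe (K9.f20740 IH) (Lpe (K9.f174620 IH) (Lpr_gf (f225153 IH) (Lpr_df (K9.f173365 IH) (Lpr_gt (K9.f173380 IH) (Lpr_ct (K9.f173381 IH) (Lpr_gt (f167917 IH) (Lpn (LP (LK LD1_c2 LD2_c12 LD3_c16))))))))))))
theorem f165013 : Led Lsl_gt (LP (LK LD1_c0 LD2_c36 LD3_c0)) = (LP (LK LD1_c1 LD2_c2 LD3_c61)) :=
  Lre_g IH (LK LD1_c0 LD2_c36 LD3_c0) (LK LD1_c1 LD2_c2 LD3_c61) Lrfl Lrfl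
theorem f225172 : Led Lsl_cf (LP (LK LD1_c0 LD2_c32 LD3_c25)) = (LP (LK LD1_c1 LD2_c2 LD3_c61)) :=
  Lgr Lrot169 (Lpr_gt (K9.f28238 IH) (Lpr_ct (K1.f40842 IH) (Lpe (K1.f40995 IH) (Lpe (f40851 IH) (Lpe (f211776 IH) (Lpr_cf (f225160 IH) (Lpe (f167917 IH) (Lpe (K9.f167916 IH) (Lpr_gt (f165013 IH) (Lpn (LP (LK LD1_c1 LD2_c2 LD3_c61))))))))))))
theorem f167839 : Led Lsl_ct (LP (LK LD1_c0 LD2_c28 LD3_c47)) = (LP (LK LD1_c1 LD2_c3 LD3_c9)) :=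
  Lre_c IH (LK LD1_c0 LD2_c28 LD3_c47) (LK LD1_c1 LD2_c3 LD3_c9) Lrfl Lrfl
theorem f177504 : Led Lsl_gt (LP (LK LD1_c1 LD2_c2 LD3_c61)) = (LP (LK LD1_c0 LD2_c28 LD3_c43)) :=
  Lre_g IH (LK LD1_c1 LD2_c2 LD3_c61) (LK LD1_c0 LD2_c28 LD3_c43) Lrfl Lrfl
theorem f9214 : Led Lsl_dt (LP (LK LD1_c0 LD2_c28 LD3_c43)) = (LP (LK LD1_c1 LD2_c3 LD3_c1)) :=
  Lre_d IH (LK LD1_c0 LD2_c28 LD3_c43) (LK LD1_c1 LD2_c3 LD3_c1) Lrfl Lrfl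
theorem f225187 : Led Lsl_df (LP (LK LD1_c1 LD2_c3 LD3_c9)) = (LP (LK LD1_c2 LD2_c12 LD3_c15)) :=
  Lgr Lrot84 (Lpe (f167839 IH) (Lpe (K9.f167837 IH) (Lpe (K9.f167832 IH) (Lpe (K1.f40993 IH) (Lpe (K9.f28238 IH) (Lpr_cf (f225172 IH) (Lpr_gt (f177504 IH) (Lpr_dt (f9214 IH) (Lpr_gt (K9.f9232 IH) (Lpn (LP (LK LD1_c2 LD2_c12 LD3_c15))))))))))))
theorem f225241 : Led Lsl_dt (LP (LK LD1_c1 LD2_c3 LD3_c9)) = (LP (LK LD1_c2 LD2_c12 LD3_c15)) :=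
  Lgr Lrot42 (Lpr_df (f225187 IH) (Lpn (LP (LK LD1_c2 LD2_c12 LD3_c15))))
theorem f42262 : Led Lsl_dt (LP (LK LD1_c1 LD2_c3 LD3_c52)) = (LP (LK LD1_c0 LD2_c36 LD3_c0)) :=
  Lre_d IH (LK LD1_c1 LD2_c3 LD3_c52) (LK LD1_c0 LD2_c36 LD3_c0) Lrfl Lrfl
theorem f173184 : Led Lsl_gt (LP (LK LD1_c1 LD2_c2 LD3_c44)) = (LP (LK LD1_c0 LD2_c28 LD3_c36)) :=
  Lre_g IH (LK LD1_c1 LD2_c2 LD3_c44) (LK LD1_c0 LD2_c28 LD3_c36) Lrfl Lrfl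
theorem f174517 : Led Lsl_ct (LP (LK LD1_c2 LD2_c11 LD3_c31)) = (LP (LK LD1_c1 LD2_c2 LD3_c44)) :=
  Lre_c IH (LK LD1_c2 LD2_c11 LD3_c31) (LK LD1_c1 LD2_c2 LD3_c44) Lrfl Lrfl
theorem f225703 : Led Lsl_gf (LP (LK LD1_c1 LD2_c3 LD3_c9)) = (LP (LK LD1_c2 LD2_c11 LD3_c31)) :=
  Lgr Lrot144 (Lpr_dt (f225241 IH) (Lpr_gt (K9.f42263 IH) (Lpr_dt (f42262 IH) (Lpe (K9.f165012 IH) (Lpe (K9.f7600 IH) (Lpe (K9.f40803 IH) (Lpe (K9.f8580 IH) (Lpe (f173184 IH) (Lpe (f174517 IH) (Lpn (LP (LK LD1_c2 LD2_c11 LD3_c31))))))))))))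
theorem f167907 : Led Lsl_gt (LP (LK LD1_c1 LD2_c3 LD3_c8)) = (LP (LK LD1_c0 LD2_c28 LD3_c47)) :=
  Lre_g IH (LK LD1_c1 LD2_c3 LD3_c8) (LK LD1_c0 LD2_c28 LD3_c47) Lrfl Lrfl
theorem f168549 : Led Lsl_gt (LP (LK LD1_c1 LD2_c17 LD3_c2)) = (LP (LK LD1_c0 LD2_c35 LD3_c38)) :=
  Lre_g IH (LK LD1_c1 LD2_c17 LD3_c2) (LK LD1_c0 LD2_c35 LD3_c38) Lrfl Lrfl
theorem f167855 : Led Lsl_dt (LP (LK LD1_c0 LD2_c28 LD3_c47)) = (LP (LK LD1_c0 LD2_c12 LD3_c43)) :=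
  Lre_d IH (LK LD1_c0 LD2_c28 LD3_c47) (LK LD1_c0 LD2_c12 LD3_c43) Lrfl Lrfl
theorem f173928 : Led Lsl_ct (LP (LK LD1_c1 LD2_c17 LD3_c2)) = (LP (LK LD1_c1 LD2_c3 LD3_c8)) :=
  Lgr Lrot8 (Lpr_gt (f168549 IH) (Lpr_dt (K9.f168115 IH) (Lpe (K9.f168539 IH) (Lpr_dt (K9.f173647 IH) (Lpe (K9.f173074 IH) (Lpe (K1.f40834 IH) (Lpr_gf (K9.f167835 IH) (Lpe (f167855 IH) (Lpe (f167907 IH) (Lpn (LP (LK LD1_c1 LD2_c3 LD3_c8))))))))))))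
theorem f225246 : Led Lsl_gf (LP (LK LD1_c1 LD2_c17 LD3_c2)) = (LP (LK LD1_c0 LD2_c35 LD3_c47)) :=
  Lgr Lrot147 (Lpr_ct (f173928 IH) (Lpr_gt (f167907 IH) (Lpr_ct (f167839 IH) (Lpr_df (f225187 IH) (Lpe (K9.f174735 IH) (Lpe (K9.f168832 IH) (Lpr_cf (K1.f40844 IH) (Lpr_gf (K9.f175243 IH) (Lpe (K9.f168295 IH) (Lpn (LP (LK LD1_c0 LD2_c35 LD3_c47))))))))))))
theorem f173950 : Led Lsl_dt (LP (LK LD1_c1 LD2_c17 LD3_c2)) = (LP (LK LD1_c2 LD2_c40 LD3_c45)) :=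
  Lre_d IH (LK LD1_c1 LD2_c17 LD3_c2) (LK LD1_c2 LD2_c40 LD3_c45) Lrfl Lrfl
theorem f168181 : Led Lsl_dt (LP (LK LD1_c1 LD2_c17 LD3_c26)) = (LP (LK LD1_c0 LD2_c35 LD3_c47)) :=
  Lre_d IH (LK LD1_c1 LD2_c17 LD3_c26) (LK LD1_c0 LD2_c35 LD3_c47) Lrfl Lrfl
theorem f174912 : Led Lsl_dt (LP (LK LD1_c1 LD2_c3 LD3_c16)) = (LP (LK LD1_c0 LD2_c28 LD3_c51)) :=
  Lre_d IH (LK LD1_c1 LD2_c3 LD3_c16) (LK LD1_c0 LD2_c28 LD3_c51) Lrfl Lrfl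
theorem f174913 : Led Lsl_gt (LP (LK LD1_c0 LD2_c32 LD3_c43)) = (LP (LK LD1_c1 LD2_c3 LD3_c16)) :=
  Lgr Lrot49 (Lpe (K1.f40991 IH) (Lpr_gf (K9.f174886 IH) (Lpe (K9.f20629 IH) (Lpr_gt (K9.f20624 IH) (Lpr_dt (K0.f20473 IH) (Lpr_gt (K9.f6854 IH) (Lpr_dt (K9.f6855 IH) (Lpe (f20696 IH) (Lpe (f174912 IH) (Lpn (LP (LK LD1_c1 LD2_c3 LD3_c16))))))))))))
theorem f171267 : Led Lsl_dt (LP (LK LD1_c0 LD2_c36 LD3_c42)) = (LP (LK LD1_c0 LD2_c16 LD3_c23)) :=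
  Lre_d IH (LK LD1_c0 LD2_c36 LD3_c42) (LK LD1_c0 LD2_c16 LD3_c23) Lrfl Lrfl
theorem f174941 : Led Lsl_gt (LP (LK LD1_c1 LD2_c19 LD3_c30)) = (LP (LK LD1_c0 LD2_c36 LD3_c42)) :=
  Lre_g IH (LK LD1_c1 LD2_c19 LD3_c30) (LK LD1_c0 LD2_c36 LD3_c42) Lrfl Lrfl
theorem f211774 : Led Lsl_df (LP (LK LD1_c1 LD2_c19 LD3_c30)) = (LP (LK LD1_c1 LD2_c0 LD3_c45)) :=
  Lgr Lrot153 (Lpr_gt (f174941 IH) (Lpr_dt (f171267 IH) (Lpe (K9.f171299 IH) (Lpe (K9.f9485 IH) (Lpe (K9.f178867 IH) (Lpe (K9.f20687 IH) (Lpe (K9.f6856 IH) (Lpe (f20696 IH) (Lpr_gt (f211771 IH) (Lpn (LP (LK LD1_c1 LD2_c0 LD3_c45))))))))))))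
theorem f225252 : Led Lsl_cf (LP (LK LD1_c2 LD2_c40 LD3_c45)) = (LP (LK LD1_c1 LD2_c19 LD3_c30)) :=
  Lgr Lrot14 (Lpe (f173950 IH) (Lpr_gf (f225246 IH) (Lpe (f168181 IH) (Lpe (K9.f175085 IH) (Lpr_ct (K9.f40760 IH) (Lpr_gt (f174913 IH) (Lpr_dt (f174912 IH) (Lpr_gt (f211771 IH) (Lpe (f211774 IH) (Lpn (LP (LK LD1_c1 LD2_c19 LD3_c30))))))))))))
theorem f169279 : Led Lsl_dt (LP (LK LD1_c2 LD2_c11 LD3_c61)) = (LP (LK LD1_c1 LD2_c2 LD3_c58)) :=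
  Lre_d IH (LK LD1_c2 LD2_c11 LD3_c61) (LK LD1_c1 LD2_c2 LD3_c58) Lrfl Lrfl
theorem f225338 : Led Lsl_gt (LP (LK LD1_c2 LD2_c40 LD3_c45)) = (LP (LK LD1_c2 LD2_c11 LD3_c61)) :=
  Lgr Lrot94 (Lpr_cf (f225252 IH) (Lpr_gt (f174941 IH) (Lpr_dt (f171267 IH) (Lpr_gt (K9.f172137 IH) (Lpr_dt (K1.f40736 IH) (Lpe (K9.f40745 IH) (Lpe (K9.f40769 IH) (Lpr_gf (K9.f167787 IH) (Lpe (f169279 IH) (Lpn (LP (LK LD1_c2 LD2_c11 LD3_c61))))))))))))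
theorem f169282 : Led Lsl_dt (LP (LK LD1_c1 LD2_c2 LD3_c58)) = (LP (LK LD1_c2 LD2_c11 LD3_c61)) :=
  Lre_d IH (LK LD1_c1 LD2_c2 LD3_c58) (LK LD1_c2 LD2_c11 LD3_c61) Lrfl Lrfl
theorem f173399 : Led Lsl_dt (LP (LK LD1_c0 LD2_c29 LD3_c7)) = (LP (LK LD1_c0 LD2_c12 LD3_c51)) :=
  Lre_d IH (LK LD1_c0 LD2_c29 LD3_c7) (LK LD1_c0 LD2_c12 LD3_c51) Lrfl Lrfl
theorem f173400 : Led Lsl_cf (LP (LK LD1_c2 LD2_c11 LD3_c61)) = (LP (LK LD1_c1 LD2_c3 LD3_c40)) :=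
  Lgr Lrot14 (Lpe (f169282 IH) (Lpe (K9.f169273 IH) (Lpe (K9.f40753 IH) (Lpr_gf (K9.f169291 IH) (Lpr_ct (K9.f173382 IH) (Lpr_gt (K9.f173380 IH) (Lpr_dt (f173399 IH) (Lpr_gt (K9.f20646 IH) (Lpr_dt (K10.f26944 IH) (Lpn (LP (LK LD1_c1 LD2_c3 LD3_c40))))))))))))
theorem f174445 : Led Lsl_ct (LP (LK LD1_c2 LD2_c11 LD3_c61)) = (LP (LK LD1_c1 LD2_c3 LD3_c40)) :=
  Lgr Lrot59 (Lpr_cf (f173400 IH) (Lpn (LP (LK LD1_c1 LD2_c3 LD3_c40))))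
theorem f171772 : Led Lsl_dt (LP (LK LD1_c0 LD2_c16 LD3_c27)) = (LP (LK LD1_c0 LD2_c36 LD3_c53)) :=
  Lre_d IH (LK LD1_c0 LD2_c16 LD3_c27) (LK LD1_c0 LD2_c36 LD3_c53) Lrfl Lrfl
theorem f225340 : Led Lsl_gt (LP (LK LD1_c0 LD2_c36 LD3_c53)) = (LP (LK LD1_c1 LD2_c19 LD3_c30)) :=
  Lgr Lrot9 (Lpe (f171772 IH) (Lpr_gt (K9.f171757 IH) (Lpr_ct (K1.f40723 IH) (Lpr_gt (K9.f6813 IH) (Lpr_ct (K9.f173206 IH) (Lpe (K10.f173367 IH) (Lpe (f174445 IH) (Lpe (f225338 IH) (Lpr_cf (f225252 IH) (Lpn (LP (LK LD1_c1 LD2_c19 LD3_c30))))))))))))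
theorem f20815 : Led Lsl_ct (LP (LK LD1_c0 LD2_c32 LD3_c44)) = (LP (LK LD1_c0 LD2_c14 LD3_c42)) :=
  Lre_c IH (LK LD1_c0 LD2_c32 LD3_c44) (LK LD1_c0 LD2_c14 LD3_c42) Lrfl Lrfl
theorem f225425 : Led Lsl_df (LP (LK LD1_c1 LD2_c0 LD3_c45)) = (LP (LK LD1_c1 LD2_c19 LD3_c30)) :=
  Lgr Lrot84 (Lpe (K9.f179869 IH) (Lpe (K9.f6773 IH) (Lpe (K9.f181209 IH) (Lpr_df (K9.f28382 IH) (Lpr_gf (K9.f181216 IH) (Lpe (f20815 IH) (Lpe (K9.f171766 IH) (Lpr_dt (f171772 IH) (Lpr_gt (f225340 IH) (Lpn (LP (LK LD1_c1 LD2_c19 LD3_c30))))))))))))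
theorem f172328 : Led Lsl_cf (LP (LK LD1_c0 LD2_c36 LD3_c53)) = (LP (LK LD1_c1 LD2_c17 LD3_c55)) :=
  Lgr Lrot14 (Lpe (f171772 IH) (Lpr_gf (K9.f171766 IH) (Lpe (K9.f20816 IH) (Lpe (K9.f171810 IH) (Lpr_ct (K9.f172301 IH) (Lpr_gt (K9.f172300 IH) (Lpr_dt (K9.f172325 IH) (Lpr_gt (K9.f172326 IH) (Lpr_dt (K9.f172327 IH) (Lpn (LP (LK LD1_c1 LD2_c17 LD3_c55))))))))))))
theorem f225705 : Led Lsl_df (LP (LK LD1_c2 LD2_c11 LD3_c31)) = (LP (LK LD1_c2 LD2_c42 LD3_c46)) :=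
  Lgr Lrot153 (Lpe (f225703 IH) (Lpr_dt (f225241 IH) (Lpe (K9.f174735 IH) (Lpe (K9.f168836 IH) (Lpe (K9.f180225 IH) (Lpr_df (f225425 IH) (Lpe (f225340 IH) (Lpr_cf (f172328 IH) (Lpr_gt (K9.f174127 IH) (Lpn (LP (LK LD1_c2 LD2_c42 LD3_c46))))))))))))
theorem f225707 : Led Lsl_ct (LP (LK LD1_c1 LD2_c2 LD3_c44)) = (LP (LK LD1_c2 LD2_c11 LD3_c31)) :=
  Lre_c IH (LK LD1_c1 LD2_c2 LD3_c44) (LK LD1_c2 LD2_c11 LD3_c31) Lrfl Lrfl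
theorem f173036 : Led Lsl_dt (LP (LK LD1_c0 LD2_c35 LD3_c52)) = (LP (LK LD1_c1 LD2_c17 LD3_c39)) :=
  Lre_d IH (LK LD1_c0 LD2_c35 LD3_c52) (LK LD1_c1 LD2_c17 LD3_c39) Lrfl Lrfl
theorem f175271 : Led Lsl_ct (LP (LK LD1_c1 LD2_c17 LD3_c39)) = (LP (LK LD1_c0 LD2_c37 LD3_c1)) :=
  Lgr Lrot7 (Lpe (f173036 IH) (Lpe (K9.f172861 IH) (Lpe (K1.f40995 IH) (Lpr_gf (K9.f175243 IH) (Lpe (K9.f175080 IH) (Lpr_gt (K9.f172555 IH) (Lpr_dt (K9.f172299 IH) (Lpr_gt (K9.f172409 IH) (Lpr_dt (K9.f172843 IH) (Lpn (LP (LK LD1_c0 LD2_c37 LD3_c1))))))))))))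
theorem f173933 : Led Lsl_gt (LP (LK LD1_c2 LD2_c42 LD3_c4)) = (LP (LK LD1_c1 LD2_c17 LD3_c39)) :=
  Lre_g IH (LK LD1_c2 LD2_c42 LD3_c4) (LK LD1_c1 LD2_c17 LD3_c39) Lrfl Lrfl
theorem f173052 : Led Lsl_dt (LP (LK LD1_c1 LD2_c17 LD3_c39)) = (LP (LK LD1_c0 LD2_c35 LD3_c52)) :=
  Lre_d IH (LK LD1_c1 LD2_c17 LD3_c39) (LK LD1_c0 LD2_c35 LD3_c52) Lrfl Lrfl
theorem f177922 : Led Lsl_ct (LP (LK LD1_c1 LD2_c18 LD3_c23)) = (LP (LK LD1_c0 LD2_c36 LD3_c6)) :=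
  Lre_c IH (LK LD1_c1 LD2_c18 LD3_c23) (LK LD1_c0 LD2_c36 LD3_c6) Lrfl Lrfl
theorem f179191 : Led Lsl_gt (LP (LK LD1_c1 LD2_c2 LD3_c45)) = (LP (LK LD1_c1 LD2_c18 LD3_c23)) :=
  Lgr Lrot9 (Lpe (K9.f169276 IH) (Lpe (K9.f169291 IH) (Lpr_ct (K1.f40982 IH) (Lpe (K9.f171769 IH) (Lpr_ct (K9.f172301 IH) (Lpr_df (K9.f179120 IH) (Lpe (K9.f171860 IH) (Lpr_gf (K9.f177920 IH) (Lpe (f177922 IH) (Lpn (LP (LK LD1_c1 LD2_c18 LD3_c23))))))))))))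
theorem f183310 : Led Lsl_df (LP (LK LD1_c2 LD2_c42 LD3_c4)) = (LP (LK LD1_c1 LD2_c18 LD3_c23)) :=
  Lgr Lrot153 (Lpr_gt (f173933 IH) (Lpr_dt (f173052 IH) (Lpe (K9.f173044 IH) (Lpe (K9.f173038 IH) (Lpe (K9.f178848 IH) (Lpe (K9.f178865 IH) (Lpr_gf (K9.f183304 IH) (Lpe (K9.f169275 IH) (Lpr_gt (f179191 IH) (Lpn (LP (LK LD1_c1 LD2_c18 LD3_c23))))))))))))
theorem f225821 : Led Lsl_gf (LP (LK LD1_c1 LD2_c2 LD3_c44)) = (LP (LK LD1_c0 LD2_c28 LD3_c39)) :=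
  Lgr Lrot104 (Lpr_ct (f225707 IH) (Lpr_df (f225705 IH) (Lpr_cf (K9.f174147 IH) (Lpr_gf (K9.f174220 IH) (Lpe (f175271 IH) (Lpe (f173933 IH) (Lpr_df (f183310 IH) (Lpe (K9.f177867 IH) (Lpr_ct (K9.f167779 IH) (Lpn (LP (LK LD1_c0 LD2_c28 LD3_c39))))))))))))
theorem f225818 : Led Lsl_dt (LP (LK LD1_c2 LD2_c11 LD3_c31)) = (LP (LK LD1_c2 LD2_c42 LD3_c46)) :=
  Lgr Lrot42 (Lpr_df (f225705 IH) (Lpn (LP (LK LD1_c2 LD2_c42 LD3_c46))))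
theorem f225824 : Led Lsl_dt (LP (LK LD1_c2 LD2_c42 LD3_c4)) = (LP (LK LD1_c1 LD2_c18 LD3_c23)) :=
  Lgr Lrot6 (Lpr_gt (f173933 IH) (Lpr_ct (f175271 IH) (Lpe (K9.f174220 IH) (Lpe (K9.f174147 IH) (Lpe (f225818 IH) (Lpe (f225707 IH) (Lpr_gf (f225821 IH) (Lpe (K9.f167779 IH) (Lpr_gf (K9.f177867 IH) (Lpn (LP (LK LD1_c1 LD2_c18 LD3_c23))))))))))))
theorem f40835 : Led Lsl_at (LP (LK LD1_c0 LD2_c54 LD3_c48)) = (LP (LK LD1_c0 LD2_c32 LD3_c27)) :=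
  Lgr Lrot51 (Lpe (K1.f40834 IH) (Lpr_af (K1.f40813 IH) (Lpe (K9.f40751 IH) (Lpn (LP (LK LD1_c0 LD2_c32 LD3_c27))))))
theorem f173065 : Led Lsl_cf (LP (LK LD1_c0 LD2_c54 LD3_c48)) = (LP (LK LD1_c1 LD2_c17 LD3_c37)) :=
  Lgr Lrot1 (Lpr_at (f40835 IH) (Lpr_ct (K9.f41039 IH) (Lpr_at (K9.f173034 IH) (Lpn (LP (LK LD1_c1 LD2_c17 LD3_c37))))))
theorem f225924 : Led Lsl_gf (LP (LK LD1_c2 LD2_c42 LD3_c4)) = (LP (LK LD1_c1 LD2_c17 LD3_c49)) :=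
  Lgr Lrot143 (Lpr_dt (f225824 IH) (Lpe (K9.f177866 IH) (Lpr_df (K9.f178285 IH) (Lpe (K9.f178297 IH) (Lpe (K9.f168824 IH) (Lpe (K9.f41074 IH) (Lpr_cf (f173065 IH) (Lpe (K9.f174106 IH) (Lpr_dt (K9.f168099 IH) (Lpn (LP (LK LD1_c1 LD2_c17 LD3_c49))))))))))))
theorem f68582 : Led Lsl_gt (LP (LK LD1_c0 LD2_c36 LD3_c60)) = (LP (LK LD1_c1 LD2_c19 LD3_c54)) :=
  Lre_g IH (LK LD1_c0 LD2_c36 LD3_c60) (LK LD1_c1 LD2_c19 LD3_c54) Lrfl Lrfl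
theorem f169280 : Led Lsl_ct (LP (LK LD1_c0 LD2_c28 LD3_c36)) = (LP (LK LD1_c1 LD2_c2 LD3_c45)) :=
  Lre_c IH (LK LD1_c0 LD2_c28 LD3_c36) (LK LD1_c1 LD2_c2 LD3_c45) Lrfl Lrfl
theorem f169289 : Led Lsl_dt (LP (LK LD1_c1 LD2_c2 LD3_c45)) = (LP (LK LD1_c2 LD2_c11 LD3_c34)) :=
  Lre_d IH (LK LD1_c1 LD2_c2 LD3_c45) (LK LD1_c2 LD2_c11 LD3_c34) Lrfl Lrfl
theorem f167776 : Led Lsl_ct (LP (LK LD1_c0 LD2_c28 LD3_c39)) = (LP (LK LD1_c1 LD2_c2 LD3_c52)) :=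
  Lre_c IH (LK LD1_c0 LD2_c28 LD3_c39) (LK LD1_c1 LD2_c2 LD3_c52) Lrfl Lrfl
theorem f174595 : Led Lsl_ct (LP (LK LD1_c2 LD2_c11 LD3_c44)) = (LP (LK LD1_c1 LD2_c3 LD3_c50)) :=
  Lgr Lrot176 (Lpe (K9.f167777 IH) (Lpe (f167776 IH) (Lpe (K9.f165019 IH) (Lpe (K9.f167771 IH) (Lpe (K9.f6809 IH) (Lpe (K9.f40793 IH) (Lpr_df (K9.f173365 IH) (Lpe (K9.f173382 IH) (Lpe (f169289 IH) (Lpe (f169280 IH) (Lpe (K9.f20695 IH) (Lpe (K9.f173178 IH) (Lpe (K9.f27244 IH) (Lpe (K9.f165143 IH) (Lpr_df (K9.f174531 IH) (Lpn (LP (LK LD1_c1 LD2_c3 LD3_c50))))))))))))))))))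
theorem f225926 : Led Lsl_dt (LP (LK LD1_c1 LD2_c19 LD3_c54)) = (LP (LK LD1_c1 LD2_c3 LD3_c13)) :=
  Lgr Lrot115 (Lpe (f68582 IH) (Lpe (K9.f174110 IH) (Lpe (f225924 IH) (Lpr_dt (f225824 IH) (Lpe (K9.f177867 IH) (Lpr_dt (K9.f167777 IH) (Lpr_ct (f174595 IH) (Lpe (K9.f174597 IH) (Lpr_gf (K9.f174621 IH) (Lpn (LP (LK LD1_c1 LD2_c3 LD3_c13))))))))))))
theorem f225933 : Led Lsl_df (LP (LK LD1_c1 LD2_c19 LD3_c54)) = (LP (LK LD1_c1 LD2_c3 LD3_c13)) :=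
  Lgr Lrot38 (Lpr_dt (f225926 IH) (Lpn (LP (LK LD1_c1 LD2_c3 LD3_c13))))
theorem f226010 : Led Lsl_ef (LP (LK LD1_c0 LD2_c37 LD3_c53)) = (LP (LK LD1_c1 LD2_c3 LD3_c13)) :=
  Lgr Lrot114 (Lpr_gt (K11.f68648 IH) (Lpe (K11.f68583 IH) (Lpe (K4.f68535 IH) (Lpr_gt (K1.f13545 IH) (Lpe (K1.f23908 IH) (Lpr_et (K10.f68575 IH) (Lpr_gt (K9.f68576 IH) (Lpr_dt (K9.f68581 IH) (Lpr_gt (f68582 IH) (Lpr_df (f225933 IH) (Lpn (LP (LK LD1_c1 LD2_c3 LD3_c13)))))))))))))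
theorem f25957 : Led Lsl_dt (LP (LK LD1_c0 LD2_c42 LD3_c16)) = (LP (LK LD1_c0 LD2_c18 LD3_c52)) :=
  Lre_d IH (LK LD1_c0 LD2_c42 LD3_c16) (LK LD1_c0 LD2_c18 LD3_c52) Lrfl Lrfl
theorem f204844 : Led Lsl_gf (LP (LK LD1_c1 LD2_c19 LD3_c47)) = (LP (LK LD1_c0 LD2_c37 LD3_c2)) :=
  Lgr Lrot104 (Lpr_ct (K11.f176911 IH) (Lpe (K9.f176905 IH) (Lpe (K11.f22131 IH) (Lpr_gf (K11.f169780 IH) (Lpe (K11.f25923 IH) (Lpe (K11.f25956 IH) (Lpe (f25957 IH) (Lpr_gt (K11.f204839 IH) (Lpr_ct (K11.f172423 IH) (Lpn (LP (LK LD1_c0 LD2_c37 LD3_c2))))))))))))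
theorem f172728 : Led Lsl_et (LP (LK LD1_c0 LD2_c16 LD3_c31)) = (LP (LK LD1_c0 LD2_c37 LD3_c2)) :=
  Lre_e IH (LK LD1_c0 LD2_c16 LD3_c31) (LK LD1_c0 LD2_c37 LD3_c2) Lrfl Lrfl
theorem f226018 : Led Lsl_gf (LP (LK LD1_c0 LD2_c37 LD3_c1)) = (LP (LK LD1_c1 LD2_c19 LD3_c54)) :=
  Lgr Lrot145 (Lpe (K9.f172843 IH) (Lpr_et (f172728 IH) (Lpe (f204844 IH) (Lpe (K11.f176921 IH) (Lpr_gt (K11.f204786 IH) (Lpe (K11.f59052 IH) (Lpr_et (K11.f204450 IH) (Lpe (K11.f204831 IH) (Lpr_ef (f226010 IH) (Lpe (f225933 IH) (Lpn (LP (LK LD1_c1 LD2_c19 LD3_c54)))))))))))))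
theorem f175273 : Led Lsl_cf (LP (LK LD1_c1 LD2_c17 LD3_c39)) = (LP (LK LD1_c0 LD2_c37 LD3_c1)) :=
  Lgr Lrot14 (Lpe (f173036 IH) (Lpe (K9.f172861 IH) (Lpe (K1.f40995 IH) (Lpr_gf (K9.f175243 IH) (Lpe (K9.f174970 IH) (Lpr_gt (K9.f172555 IH) (Lpr_dt (K9.f172299 IH) (Lpr_gt (K9.f172409 IH) (Lpr_dt (K9.f172843 IH) (Lpn (LP (LK LD1_c0 LD2_c37 LD3_c1))))))))))))
theorem f173037 : Led Lsl_gt (LP (LK LD1_c1 LD2_c17 LD3_c39)) = (LP (LK LD1_c2 LD2_c42 LD3_c3)) :=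
  Lre_g IH (LK LD1_c1 LD2_c17 LD3_c39) (LK LD1_c2 LD2_c42 LD3_c3) Lrfl Lrfl
theorem f164989 : Led Lsl_dt (LP (LK LD1_c1 LD2_c18 LD3_c42)) = (LP (LK LD1_c0 LD2_c36 LD3_c16)) :=
  Lre_d IH (LK LD1_c1 LD2_c18 LD3_c42) (LK LD1_c0 LD2_c36 LD3_c16) Lrfl Lrfl
theorem f226020 : Led Lsl_ct (LP (LK LD1_c2 LD2_c42 LD3_c3)) = (LP (LK LD1_c1 LD2_c18 LD3_c42)) :=
  Lgr Lrot110 (Lpe (f173037 IH) (Lpr_cf (f175273 IH) (Lpr_gf (f226018 IH) (Lpr_df (f225933 IH) (Lpe (K9.f174621 IH) (Lpr_ct (K9.f165143 IH) (Lpr_gt (K9.f40819 IH) (Lpe (K9.f165077 IH) (Lpe (f164989 IH) (Lpn (LP (LK LD1_c1 LD2_c18 LD3_c42))))))))))))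
theorem f177852 : Led Lsl_gt (LP (LK LD1_c0 LD2_c36 LD3_c7)) = (LP (LK LD1_c0 LD2_c16 LD3_c5)) :=
  Lre_g IH (LK LD1_c0 LD2_c36 LD3_c7) (LK LD1_c0 LD2_c16 LD3_c5) Lrfl Lrfl
theorem f177860 : Led Lsl_ct (LP (LK LD1_c1 LD2_c18 LD3_c26)) = (LP (LK LD1_c0 LD2_c36 LD3_c7)) :=
  Lre_c IH (LK LD1_c1 LD2_c18 LD3_c26) (LK LD1_c0 LD2_c36 LD3_c7) Lrfl Lrfl
theorem f177861 : Led Lsl_gf (LP (LK LD1_c1 LD2_c2 LD3_c45)) = (LP (LK LD1_c1 LD2_c18 LD3_c26)) :=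
  Lgr Lrot144 (Lpr_dt (f169289 IH) (Lpe (K9.f169291 IH) (Lpr_dt (K9.f40753 IH) (Lpe (K9.f41039 IH) (Lpe (K9.f40820 IH) (Lpr_gf (K9.f177858 IH) (Lpe (K9.f172320 IH) (Lpe (f177852 IH) (Lpe (f177860 IH) (Lpn (LP (LK LD1_c1 LD2_c18 LD3_c26))))))))))))
theorem f178885 : Led Lsl_df (LP (LK LD1_c1 LD2_c18 LD3_c26)) = (LP (LK LD1_c2 LD2_c42 LD3_c3)) :=
  Lgr Lrot153 (Lpe (f177861 IH) (Lpr_dt (f169289 IH) (Lpr_cf (K9.f173397 IH) (Lpe (K9.f173377 IH) (Lpr_gf (K10.f167784 IH) (Lpr_df (K9.f178876 IH) (Lpr_gf (K9.f174220 IH) (Lpe (f175271 IH) (Lpr_gt (f173037 IH) (Lpn (LP (LK LD1_c2 LD2_c42 LD3_c3))))))))))))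
theorem f178890 : Led Lsl_dt (LP (LK LD1_c1 LD2_c18 LD3_c26)) = (LP (LK LD1_c2 LD2_c42 LD3_c3)) :=
  Lgr Lrot42 (Lpr_df (f178885 IH) (Lpn (LP (LK LD1_c2 LD2_c42 LD3_c3))))
theorem f164711 : Led Lsl_dt (LP (LK LD1_c0 LD2_c36 LD3_c16)) = (LP (LK LD1_c1 LD2_c18 LD3_c42)) :=
  Lre_d IH (LK LD1_c0 LD2_c36 LD3_c16) (LK LD1_c1 LD2_c18 LD3_c42) Lrfl Lrfl
theorem f173163 : Led Lsl_gt (LP (LK LD1_c1 LD2_c56 LD3_c19)) = (LP (LK LD1_c2 LD2_c11 LD3_c44)) :=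
  Lgr Lrot49 (Lpr_df (K1.f41025 IH) (Lpr_gf (K9.f173161 IH) (Lpe (K9.f165003 IH) (Lpr_gt (K9.f7630 IH) (Lpr_dt (K9.f7598 IH) (Lpr_gt (K9.f40823 IH) (Lpr_dt (K9.f165019 IH) (Lpe (K9.f167779 IH) (Lpe (K9.f167783 IH) (Lpn (LP (LK LD1_c2 LD2_c11 LD3_c44))))))))))))
theorem f226401 : Led Lsl_gf (LP (LK LD1_c1 LD2_c18 LD3_c26)) = (LP (LK LD1_c1 LD2_c2 LD3_c52)) :=
  Lgr Lrot154 (Lpr_dt (f178890 IH) (Lpr_ct (f226020 IH) (Lpe (f164711 IH) (Lpe (K9.f164710 IH) (Lpe (K9.f165159 IH) (Lpr_gf (K9.f171769 IH) (Lpr_ct (K9.f40747 IH) (Lpr_gt (f173163 IH) (Lpr_dt (K9.f167783 IH) (Lpn (LP (LK LD1_c1 LD2_c2 LD3_c52))))))))))))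
theorem f178170 : Led Lsl_ct (LP (LK LD1_c0 LD2_c16 LD3_c5)) = (LP (LK LD1_c0 LD2_c36 LD3_c8)) :=
  Lre_c IH (LK LD1_c0 LD2_c16 LD3_c5) (LK LD1_c0 LD2_c36 LD3_c8) Lrfl Lrfl
theorem f226409 : Led Lsl_dt (LP (LK LD1_c0 LD2_c36 LD3_c8)) = (LP (LK LD1_c1 LD2_c18 LD3_c3)) :=
  Lgr Lrot27 (Lpe (f178170 IH) (Lpe (f177852 IH) (Lpe (f177860 IH) (Lpr_gf (f226401 IH) (Lpe (K9.f167783 IH) (Lpr_gt (K9.f174642 IH) (Lpr_ct (K9.f40745 IH) (Lpe (K9.f172135 IH) (Lpr_ct (K9.f172139 IH) (Lpn (LP (LK LD1_c1 LD2_c18 LD3_c3))))))))))))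
theorem f226537 : Led Lsl_gt (LP (LK LD1_c0 LD2_c36 LD3_c8)) = (LP (LK LD1_c1 LD2_c16 LD3_c59)) :=
  Lgr Lrot146 (Lpr_dt (f226409 IH) (Lpr_gt (K9.f44741 IH) (Lpr_ct (K9.f171852 IH) (Lpr_gt (K9.f172426 IH) (Lpr_ct (K9.f175080 IH) (Lpr_dt (f168181 IH) (Lpe (K9.f168294 IH) (Lpr_gf (K9.f179116 IH) (Lpe (K9.f7732 IH) (Lpn (LP (LK LD1_c1 LD2_c16 LD3_c59))))))))))))
theorem f172321 : Led Lsl_ct (LP (LK LD1_c0 LD2_c36 LD3_c8)) = (LP (LK LD1_c0 LD2_c16 LD3_c5)) :=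
  Lre_c IH (LK LD1_c0 LD2_c36 LD3_c8) (LK LD1_c0 LD2_c16 LD3_c5) Lrfl Lrfl
theorem f165209 : Led Lsl_ct (LP (LK LD1_c0 LD2_c7 LD3_c19)) = (LP (LK LD1_c0 LD2_c16 LD3_c20)) :=
  Lre_c IH (LK LD1_c0 LD2_c7 LD3_c19) (LK LD1_c0 LD2_c16 LD3_c20) Lrfl Lrfl
theorem f179508 : Led Lsl_df (LP (LK LD1_c0 LD2_c36 LD3_c8)) = (LP (LK LD1_c1 LD2_c18 LD3_c3)) :=
  Lgr Lrot43 (Lpr_ct (f172321 IH) (Lpr_dt (K9.f172320 IH) (Lpr_ct (K9.f172319 IH) (Lpr_dt (K0.f3071 IH) (Lpr_ct (K9.f164709 IH) (Lpr_dt (K9.f24534 IH) (Lpr_ct (K9.f172301 IH) (Lpr_dt (K9.f179182 IH) (Lpr_ct (K9.f171861 IH) (Lpr_dt (K9.f165206 IH) (Lpr_ct (K9.f165205 IH) (Lpr_dt (K9.f9490 IH) (Lpr_ct (f165209 IH) (Lpr_dt (K9.f165211 IH) (Lpr_ct (K9.f172139 IH) (Lpn (LP (LK LD1_c1 LD2_c18 LD3_c3))))))))))))))))))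
theorem f168297 : Led Lsl_gt (LP (LK LD1_c0 LD2_c35 LD3_c61)) = (LP (LK LD1_c1 LD2_c18 LD3_c3)) :=
  Lre_g IH (LK LD1_c0 LD2_c35 LD3_c61) (LK LD1_c1 LD2_c18 LD3_c3) Lrfl Lrfl
theorem f211846 : Led Lsl_gf (LP (LK LD1_c0 LD2_c36 LD3_c15)) = (LP (LK LD1_c0 LD2_c32 LD3_c37)) :=
  Lgr Lrot129 (Lpe (f172676 IH) (Lpr_bt (f211840 IH) (Lpr_gt (f172556 IH) (Lpe (f179871 IH) (Lpr_ct (K11.f179873 IH) (Lpe (K11.f211155 IH) (Lpe (K11.f179877 IH) (Lpr_bt (K11.f179876 IH) (Lpr_gt (K9.f180227 IH) (Lpr_ct (K9.f56536 IH) (Lpn (LP (LK LD1_c0 LD2_c32 LD3_c37)))))))))))))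
theorem f172680 : Led Lsl_dt (LP (LK LD1_c0 LD2_c36 LD3_c15)) = (LP (LK LD1_c1 LD2_c18 LD3_c40)) :=
  Lre_d IH (LK LD1_c0 LD2_c36 LD3_c15) (LK LD1_c1 LD2_c18 LD3_c40) Lrfl Lrfl
theorem f7722 : Led Lsl_dt (LP (LK LD1_c1 LD2_c16 LD3_c59)) = (LP (LK LD1_c2 LD2_c40 LD3_c33)) :=
  Lre_d IH (LK LD1_c1 LD2_c16 LD3_c59) (LK LD1_c2 LD2_c40 LD3_c33) Lrfl Lrfl
theorem f226556 : Led Lsl_cf (LP (LK LD1_c1 LD2_c18 LD3_c40)) = (LP (LK LD1_c2 LD2_c40 LD3_c33)) :=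
  Lgr Lrot14 (Lpe (f172680 IH) (Lpr_gf (f211846 IH) (Lpr_df (K9.f168223 IH) (Lpe (K9.f68913 IH) (Lpr_ct (K9.f168298 IH) (Lpr_gt (f168297 IH) (Lpe (f179508 IH) (Lpr_gt (f226537 IH) (Lpr_dt (f7722 IH) (Lpn (LP (LK LD1_c2 LD2_c40 LD3_c33))))))))))))
theorem f178168 : Led Lsl_df (LP (LK LD1_c0 LD2_c26 LD3_c46)) = (LP (LK LD1_c0 LD2_c36 LD3_c6)) :=
  Lgr Lrot84 (Lpe (K9.f165158 IH) (Lpe (K9.f53174 IH) (Lpe (K9.f40819 IH) (Lpe (K9.f40818 IH) (Lpe (K9.f27243 IH) (Lpe (K1.f28388 IH) (Lpr_gt (K9.f177856 IH) (Lpr_dt (K9.f177869 IH) (Lpr_gt (K9.f177865 IH) (Lpn (LP (LK LD1_c0 LD2_c36 LD3_c6))))))))))))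
theorem f167918 : Led Lsl_dt (LP (LK LD1_c2 LD2_c12 LD3_c5)) = (LP (LK LD1_c1 LD2_c2 LD3_c60)) :=
  Lre_d IH (LK LD1_c2 LD2_c12 LD3_c5) (LK LD1_c1 LD2_c2 LD3_c60) Lrfl Lrfl
theorem f226552 : Led Lsl_gf (LP (LK LD1_c2 LD2_c12 LD3_c5)) = (LP (LK LD1_c2 LD2_c40 LD3_c33)) :=
  Lgr Lrot143 (Lpr_dt (f167918 IH) (Lpe (K9.f167841 IH) (Lpr_df (K9.f178475 IH) (Lpe (K9.f178299 IH) (Lpr_df (f178168 IH) (Lpe (K9.f177865 IH) (Lpe (f172321 IH) (Lpr_gt (f226537 IH) (Lpr_dt (f7722 IH) (Lpn (LP (LK LD1_c2 LD2_c40 LD3_c33))))))))))))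
theorem f174526 : Led Lsl_dt (LP (LK LD1_c1 LD2_c3 LD3_c43)) = (LP (LK LD1_c0 LD2_c29 LD3_c5)) :=
  Lre_d IH (LK LD1_c1 LD2_c3 LD3_c43) (LK LD1_c0 LD2_c29 LD3_c5) Lrfl Lrfl
theorem f226691 : Led Lsl_gt (LP (LK LD1_c1 LD2_c18 LD3_c40)) = (LP (LK LD1_c1 LD2_c3 LD3_c43)) :=
  Lgr Lrot94 (Lpr_cf (f226556 IH) (Lpe (f226552 IH) (Lpr_dt (f167918 IH) (Lpr_gt (K9.f167840 IH) (Lpr_dt (K9.f167916 IH) (Lpe (K9.f173381 IH) (Lpe (K9.f174529 IH) (Lpe (K9.f26792 IH) (Lpe (f174526 IH) (Lpn (LP (LK LD1_c1 LD2_c3 LD3_c43))))))))))))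
theorem f172675 : Led Lsl_dt (LP (LK LD1_c1 LD2_c18 LD3_c40)) = (LP (LK LD1_c0 LD2_c36 LD3_c15)) :=
  Lre_d IH (LK LD1_c1 LD2_c18 LD3_c40) (LK LD1_c0 LD2_c36 LD3_c15) Lrfl Lrfl
theorem f225250 : Led Lsl_ct (LP (LK LD1_c2 LD2_c40 LD3_c45)) = (LP (LK LD1_c1 LD2_c19 LD3_c30)) :=
  Lgr Lrot7 (Lpe (f173950 IH) (Lpr_gf (f225246 IH) (Lpe (f168181 IH) (Lpe (K9.f175085 IH) (Lpe (K1.f40983 IH) (Lpr_gt (f174913 IH) (Lpr_dt (f174912 IH) (Lpr_gt (f211771 IH) (Lpe (f211774 IH) (Lpn (LP (LK LD1_c1 LD2_c19 LD3_c30))))))))))))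
theorem f167629 : Led Lsl_cf (LP (LK LD1_c0 LD2_c59 LD3_c58)) = (LP (LK LD1_c0 LD2_c27 LD3_c29)) :=
  Lgr Lrot166 (Lpr_gt (K9.f167626 IH) (Lpr_dt (K9.f167613 IH) (Lpr_gt (K9.f31448 IH) (Lpr_dt (K9.f31447 IH) (Lpr_ct (K1.f28429 IH) (Lpe (K2.f31443 IH) (Lpr_gf (K9.f31440 IH) (Lpe (K9.f6793 IH) (Lpe (K10.f6815 IH) (Lpn (LP (LK LD1_c0 LD2_c27 LD3_c29))))))))))))
theorem f170310 : Led Lsl_cf (LP (LK LD1_c0 LD2_c27 LD3_c39)) = (LP (LK LD1_c1 LD2_c0 LD3_c4)) :=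
  Lgr Lrot39 (Lpr_et (K10.f170308 IH) (Lpe (f167629 IH) (Lpr_et (K10.f167633 IH) (Lpn (LP (LK LD1_c1 LD2_c0 LD3_c4))))))
theorem f165005 : Led Lsl_df (LP (LK LD1_c1 LD2_c0 LD3_c4)) = (LP (LK LD1_c0 LD2_c28 LD3_c41)) :=
  Lgr Lrot38 (Lpr_dt (K9.f164707 IH) (Lpn (LP (LK LD1_c0 LD2_c28 LD3_c41))))
theorem f165009 : Led Lsl_dt (LP (LK LD1_c2 LD2_c11 LD3_c51)) = (LP (LK LD1_c1 LD2_c2 LD3_c55)) :=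
  Lre_d IH (LK LD1_c2 LD2_c11 LD3_c51) (LK LD1_c1 LD2_c2 LD3_c55) Lrfl Lrfl
theorem f181786 : Led Lsl_ct (LP (LK LD1_c1 LD2_c3 LD3_c43)) = (LP (LK LD1_c2 LD2_c11 LD3_c51)) :=
  Lgr Lrot176 (Lpe (K9.f20810 IH) (Lpe (K9.f174524 IH) (Lpe (K9.f28327 IH) (Lpe (K9.f181185 IH) (Lpr_df (K9.f181218 IH) (Lpe (K9.f169281 IH) (Lpe (f169279 IH) (Lpr_cf (f173400 IH) (Lpe (K10.f26944 IH) (Lpe (K9.f173206 IH) (Lpe (K9.f170297 IH) (Lpr_cf (f170310 IH) (Lpr_df (f165005 IH) (Lpe (K9.f165008 IH) (Lpe (f165009 IH) (Lpn (LP (LK LD1_c2 LD2_c11 LD3_c51))))))))))))))))))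
theorem f226699 : Led Lsl_gf (LP (LK LD1_c2 LD2_c40 LD3_c45)) = (LP (LK LD1_c2 LD2_c11 LD3_c51)) :=
  Lgr Lrot104 (Lpr_ct (f225250 IH) (Lpr_df (f211774 IH) (Lpe (K9.f179869 IH) (Lpr_gf (K9.f179854 IH) (Lpe (K9.f172545 IH) (Lpr_gf (f172673 IH) (Lpe (f172675 IH) (Lpr_gt (f226691 IH) (Lpr_ct (f181786 IH) (Lpn (LP (LK LD1_c2 LD2_c11 LD3_c51))))))))))))
theorem f172406 : Led Lsl_dt (LP (LK LD1_c2 LD2_c40 LD3_c45)) = (LP (LK LD1_c1 LD2_c17 LD3_c2)) :=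
  Lre_d IH (LK LD1_c2 LD2_c40 LD3_c45) (LK LD1_c1 LD2_c17 LD3_c2) Lrfl Lrfl
theorem f226705 : Led Lsl_cf (LP (LK LD1_c1 LD2_c3 LD3_c43)) = (LP (LK LD1_c2 LD2_c11 LD3_c51)) :=
  Lgr Lrot166 (Lpe (K9.f177162 IH) (Lpr_dt (K9.f7895 IH) (Lpe (K9.f168189 IH) (Lpr_dt (K9.f168197 IH) (Lpe (K9.f172399 IH) (Lpe (K9.f168115 IH) (Lpe (f168549 IH) (Lpe (f172406 IH) (Lpr_gf (f226699 IH) (Lpn (LP (LK LD1_c2 LD2_c11 LD3_c51))))))))))))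
theorem f172293 : Led Lsl_gt (LP (LK LD1_c0 LD2_c36 LD3_c42)) = (LP (LK LD1_c1 LD2_c19 LD3_c29)) :=
  Lre_g IH (LK LD1_c0 LD2_c36 LD3_c42) (LK LD1_c1 LD2_c19 LD3_c29) Lrfl Lrfl
theorem f7885 : Led Lsl_gt (LP (LK LD1_c0 LD2_c35 LD3_c38)) = (LP (LK LD1_c1 LD2_c17 LD3_c1)) :=
  Lre_g IH (LK LD1_c0 LD2_c35 LD3_c38) (LK LD1_c1 LD2_c17 LD3_c1) Lrfl Lrfl
theorem f7886 : Led Lsl_dt (LP (LK LD1_c1 LD2_c17 LD3_c1)) = (LP (LK LD1_c2 LD2_c40 LD3_c42)) :=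
  Lre_d IH (LK LD1_c1 LD2_c17 LD3_c1) (LK LD1_c2 LD2_c40 LD3_c42) Lrfl Lrfl
theorem f165010 : Led Lsl_gt (LP (LK LD1_c2 LD2_c40 LD3_c42)) = (LP (LK LD1_c2 LD2_c11 LD3_c51)) :=
  Lgr Lrot49 (Lpe (f7886 IH) (Lpe (f7885 IH) (Lpe (K9.f7890 IH) (Lpr_gt (K0.f7714 IH) (Lpe (K0.f7723 IH) (Lpr_gt (K9.f7734 IH) (Lpr_dt (K9.f164707 IH) (Lpe (K9.f165008 IH) (Lpe (f165009 IH) (Lpn (LP (LK LD1_c2 LD2_c11 LD3_c51))))))))))))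
theorem f226736 : Led Lsl_ct (LP (LK LD1_c1 LD2_c19 LD3_c29)) = (LP (LK LD1_c2 LD2_c40 LD3_c42)) :=
  Lgr Lrot152 (Lpe (f172293 IH) (Lpe (K9.f171300 IH) (Lpr_gt (K9.f172137 IH) (Lpr_ct (f20815 IH) (Lpe (K9.f181216 IH) (Lpr_ct (K9.f174524 IH) (Lpe (f174526 IH) (Lpr_cf (f226705 IH) (Lpe (f165010 IH) (Lpn (LP (LK LD1_c2 LD2_c40 LD3_c42))))))))))))
theorem f167838 : Led Lsl_ct (LP (LK LD1_c1 LD2_c3 LD3_c9)) = (LP (LK LD1_c0 LD2_c28 LD3_c47)) :=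
  Lre_c IH (LK LD1_c1 LD2_c3 LD3_c9) (LK LD1_c0 LD2_c28 LD3_c47) Lrfl Lrfl
theorem f226754 : Led Lsl_ct (LP (LK LD1_c1 LD2_c0 LD3_c42)) = (LP (LK LD1_c1 LD2_c17 LD3_c1)) :=
  Lgr Lrot110 (Lpr_gf (K9.f179849 IH) (Lpe (f167838 IH) (Lpr_gf (f225703 IH) (Lpr_df (f225705 IH) (Lpr_gt (K9.f174155 IH) (Lpr_ct (K9.f172296 IH) (Lpr_gt (f172293 IH) (Lpr_ct (f226736 IH) (Lpe (f7886 IH) (Lpn (LP (LK LD1_c1 LD2_c17 LD3_c1))))))))))))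
theorem f200692 : Led Lsl_bt (LP (LK LD1_c0 LD2_c56 LD3_c20)) = (LP (LK LD1_c0 LD2_c28 LD3_c47)) :=
  Lgr Lrot95 (Lpe (f200691 IH) (Lpr_bf (K11.f200689 IH) (Lpe (f167855 IH) (Lpn (LP (LK LD1_c0 LD2_c28 LD3_c47))))))
theorem f223732 : Led Lsl_ct (LP (LK LD1_c0 LD2_c56 LD3_c20)) = (LP (LK LD1_c1 LD2_c59 LD3_c8)) :=
  Lre_c IH (LK LD1_c0 LD2_c56 LD3_c20) (LK LD1_c1 LD2_c59 LD3_c8) Lrfl Lrfl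
theorem f168180 : Led Lsl_ct (LP (LK LD1_c0 LD2_c35 LD3_c47)) = (LP (LK LD1_c0 LD2_c15 LD3_c60)) :=
  Lre_c IH (LK LD1_c0 LD2_c35 LD3_c47) (LK LD1_c0 LD2_c15 LD3_c60) Lrfl Lrfl
theorem f226771 : Led Lsl_gf (LP (LK LD1_c0 LD2_c35 LD3_c47)) = (LP (LK LD1_c1 LD2_c17 LD3_c1)) :=
  Lgr Lrot104 (Lpr_ct (f168180 IH) (Lpe (K9.f168293 IH) (Lpe (K9.f168177 IH) (Lpe (K9.f175279 IH) (Lpe (K1.f40812 IH) (Lpr_gf (K9.f167835 IH) (Lpe (f167855 IH) (Lpe (K9.f179849 IH) (Lpr_ct (f226754 IH) (Lpn (LP (LK LD1_c1 LD2_c17 LD3_c1))))))))))))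
theorem f175245 : Led Lsl_bt (LP (LK LD1_c0 LD2_c15 LD3_c60)) = (LP (LK LD1_c0 LD2_c35 LD3_c45)) :=
  Lre_b IH (LK LD1_c0 LD2_c15 LD3_c60) (LK LD1_c0 LD2_c35 LD3_c45) Lrfl Lrfl
theorem f175246 : Led Lsl_gt (LP (LK LD1_c0 LD2_c35 LD3_c45)) = (LP (LK LD1_c1 LD2_c17 LD3_c17)) :=
  Lre_g IH (LK LD1_c0 LD2_c35 LD3_c45) (LK LD1_c1 LD2_c17 LD3_c17) Lrfl Lrfl
theorem f170285 : Led Lsl_bt (LP (LK LD1_c2 LD2_c6 LD3_c55)) = (LP (LK LD1_c1 LD2_c0 LD3_c26)) :=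
  Lre_b IH (LK LD1_c2 LD2_c6 LD3_c55) (LK LD1_c1 LD2_c0 LD3_c26) Lrfl Lrfl
theorem f220062 : Led Lsl_dt (LP (LK LD1_c2 LD2_c1 LD3_c42)) = (LP (LK LD1_c2 LD2_c6 LD3_c55)) :=
  Lgr Lrot79 (Lpr_bf (f220052 IH) (Lpe (K9.f179021 IH) (Lpe (f170285 IH) (Lpn (LP (LK LD1_c2 LD2_c6 LD3_c55))))))
theorem f51443 : Led Lsl_dt (LP (LK LD1_c0 LD2_c26 LD3_c19)) = (LP (LK LD1_c0 LD2_c57 LD3_c57)) :=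
  Lre_d IH (LK LD1_c0 LD2_c26 LD3_c19) (LK LD1_c0 LD2_c57 LD3_c57) Lrfl Lrfl
theorem f175247 : Led Lsl_dt (LP (LK LD1_c1 LD2_c17 LD3_c17)) = (LP (LK LD1_c2 LD2_c41 LD3_c12)) :=
  Lre_d IH (LK LD1_c1 LD2_c17 LD3_c17) (LK LD1_c2 LD2_c41 LD3_c12) Lrfl Lrfl
theorem f220209 : Led Lsl_cf (LP (LK LD1_c2 LD2_c41 LD3_c12)) = (LP (LK LD1_c2 LD2_c6 LD3_c55)) :=
  Lgr Lrot14 (Lpe (f175247 IH) (Lpe (f175246 IH) (Lpe (f216847 IH) (Lpe (f168196 IH) (Lpr_ct (f216832 IH) (Lpr_gt (f574 IH) (Lpr_dt (f51443 IH) (Lpe (f220046 IH) (Lpr_dt (f220062 IH) (Lpn (LP (LK LD1_c2 LD2_c6 LD3_c55))))))))))))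
theorem f6811 : Led Lsl_bt (LP (LK LD1_c1 LD2_c0 LD3_c26)) = (LP (LK LD1_c2 LD2_c6 LD3_c55)) :=
  Lre_b IH (LK LD1_c1 LD2_c0 LD3_c26) (LK LD1_c2 LD2_c6 LD3_c55) Lrfl Lrfl
theorem f220211 : Led Lsl_bt (LP (LK LD1_c2 LD2_c41 LD3_c12)) = (LP (LK LD1_c2 LD2_c6 LD3_c54)) :=
  Lgr Lrot128 (Lpr_cf (f220209 IH) (Lpe (f6811 IH) (Lpe (K9.f6805 IH) (Lpe (f6817 IH) (Lpe (f6829 IH) (Lpn (LP (LK LD1_c2 LD2_c6 LD3_c54))))))))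
theorem f193350 : Led Lsl_ct (LP (LK LD1_c1 LD2_c9 LD3_c7)) = (LP (LK LD1_c0 LD2_c31 LD3_c36)) :=
  Lre_c IH (LK LD1_c1 LD2_c9 LD3_c7) (LK LD1_c0 LD2_c31 LD3_c36) Lrfl Lrfl
theorem f193338 : Led Lsl_dt (LP (LK LD1_c0 LD2_c14 LD3_c0)) = (LP (LK LD1_c0 LD2_c31 LD3_c36)) :=
  Lre_d IH (LK LD1_c0 LD2_c14 LD3_c0) (LK LD1_c0 LD2_c31 LD3_c36) Lrfl Lrfl
theorem f193366 : Led Lsl_gt (LP (LK LD1_c0 LD2_c31 LD3_c36)) = (LP (LK LD1_c0 LD2_c58 LD3_c48)) :=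
  Lgr Lrot139 (Lpe (f193338 IH) (Lpr_gf (K10.f193362 IH) (Lpe (K9.f27756 IH) (Lpr_dt (K0.f27556 IH) (Lpr_gf (K0.f28509 IH) (Lpe (K0.f28459 IH) (Lpr_et (K10.f28517 IH) (Lpe (K9.f174986 IH) (Lpe (f56558 IH) (Lpe (f178494 IH) (Lpn (LP (LK LD1_c0 LD2_c58 LD3_c48)))))))))))))
theorem f178486 : Led Lsl_bt (LP (LK LD1_c0 LD2_c26 LD3_c38)) = (LP (LK LD1_c0 LD2_c58 LD3_c48)) :=
  Lre_b IH (LK LD1_c0 LD2_c26 LD3_c38) (LK LD1_c0 LD2_c58 LD3_c48) Lrfl Lrfl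
theorem f178487 : Led Lsl_dt (LP (LK LD1_c0 LD2_c58 LD3_c48)) = (LP (LK LD1_c0 LD2_c32 LD3_c36)) :=
  Lgr Lrot79 (Lpe (f178486 IH) (Lpr_df (K9.f178484 IH) (Lpe (f168314 IH) (Lpn (LP (LK LD1_c0 LD2_c32 LD3_c36))))))
theorem f53020 : Led Lsl_gt (LP (LK LD1_c1 LD2_c58 LD3_c41)) = (LP (LK LD1_c0 LD2_c56 LD3_c11)) :=
  Lre_g IH (LK LD1_c1 LD2_c58 LD3_c41) (LK LD1_c0 LD2_c56 LD3_c11) Lrfl Lrfl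
theorem f211435 : Led Lsl_df (LP (LK LD1_c1 LD2_c58 LD3_c41)) = (LP (LK LD1_c2 LD2_c6 LD3_c54)) :=
  Lgr Lrot153 (Lpr_gt (f53020 IH) (Lpr_dt (K11.f53019 IH) (Lpr_cf (K11.f193331 IH) (Lpe (K11.f166446 IH) (Lpr_gf (K11.f201329 IH) (Lpe (f178487 IH) (Lpe (f193366 IH) (Lpe (f193350 IH) (Lpr_gt (f211433 IH) (Lpn (LP (LK LD1_c2 LD2_c6 LD3_c54))))))))))))
theorem f220218 : Led Lsl_bf (LP (LK LD1_c1 LD2_c17 LD3_c17)) = (LP (LK LD1_c1 LD2_c58 LD3_c41)) :=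
  Lgr Lrot93 (Lpr_dt (f175247 IH) (Lpr_bt (f220211 IH) (Lpe (f211435 IH) (Lpn (LP (LK LD1_c1 LD2_c58 LD3_c41))))))
theorem f53021 : Led Lsl_ct (LP (LK LD1_c1 LD2_c58 LD3_c41)) = (LP (LK LD1_c4 LD2_c3 LD3_c26)) :=
  Lre_c IH (LK LD1_c1 LD2_c58 LD3_c41) (LK LD1_c4 LD2_c3 LD3_c26) Lrfl Lrfl
theorem f226776 : Led Lsl_gf (LP (LK LD1_c1 LD2_c59 LD3_c8)) = (LP (LK LD1_c4 LD2_c3 LD3_c26)) :=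
  Lgr Lrot126 (Lpe (f223732 IH) (Lpr_bt (f200692 IH) (Lpe (K9.f179849 IH) (Lpr_ct (f226754 IH) (Lpe (f226771 IH) (Lpe (K9.f168294 IH) (Lpr_bt (f175245 IH) (Lpr_gt (f175246 IH) (Lpr_bf (f220218 IH) (Lpr_ct (f53021 IH) (Lpn (LP (LK LD1_c4 LD2_c3 LD3_c26)))))))))))))
theorem f211474 : Led Lsl_ct (LP (LK LD1_c1 LD2_c59 LD3_c8)) = (LP (LK LD1_c0 LD2_c56 LD3_c20)) :=
  Lre_c IH (LK LD1_c1 LD2_c59 LD3_c8) (LK LD1_c0 LD2_c56 LD3_c20) Lrfl Lrfl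
theorem f200698 : Led Lsl_dt (LP (LK LD1_c0 LD2_c56 LD3_c20)) = (LP (LK LD1_c0 LD2_c25 LD3_c33)) :=
  Lre_d IH (LK LD1_c0 LD2_c56 LD3_c20) (LK LD1_c0 LD2_c25 LD3_c33) Lrfl Lrfl
theorem f53084 : Led Lsl_ct (LP (LK LD1_c0 LD2_c11 LD3_c23)) = (LP (LK LD1_c0 LD2_c25 LD3_c33)) :=
  Lre_c IH (LK LD1_c0 LD2_c11 LD3_c23) (LK LD1_c0 LD2_c25 LD3_c33) Lrfl Lrfl
theorem f226780 : Led Lsl_gt (LP (LK LD1_c0 LD2_c56 LD3_c14)) = (LP (LK LD1_c1 LD2_c58 LD3_c41)) :=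
  Lgr Lrot9 (Lpe (K11.f28143 IH) (Lpr_gt (K11.f53071 IH) (Lpr_ct (K9.f28919 IH) (Lpr_gt (K9.f28781 IH) (Lpr_ct (f53084 IH) (Lpe (f200698 IH) (Lpe (f211474 IH) (Lpr_gf (f226776 IH) (Lpe (f53021 IH) (Lpn (LP (LK LD1_c1 LD2_c58 LD3_c41))))))))))))
theorem f220220 : Led Lsl_bt (LP (LK LD1_c1 LD2_c17 LD3_c17)) = (LP (LK LD1_c1 LD2_c58 LD3_c41)) :=
  Lgr Lrot127 (Lpr_bf (f220218 IH) (Lpn (LP (LK LD1_c1 LD2_c58 LD3_c41))))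
theorem f216970 : Led Lsl_dt (LP (LK LD1_c2 LD2_c41 LD3_c12)) = (LP (LK LD1_c1 LD2_c17 LD3_c17)) :=
  Lre_d IH (LK LD1_c2 LD2_c41 LD3_c12) (LK LD1_c1 LD2_c17 LD3_c17) Lrfl Lrfl
theorem f220216 : Led Lsl_bf (LP (LK LD1_c2 LD2_c41 LD3_c12)) = (LP (LK LD1_c2 LD2_c6 LD3_c54)) :=
  Lgr Lrot24 (Lpr_bt (f220211 IH) (Lpn (LP (LK LD1_c2 LD2_c6 LD3_c54))))
theorem f220320 : Led Lsl_df (LP (LK LD1_c2 LD2_c6 LD3_c54)) = (LP (LK LD1_c1 LD2_c58 LD3_c41)) :=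
  Lgr Lrot12 (Lpe (f220216 IH) (Lpr_dt (f216970 IH) (Lpr_bt (f220220 IH) (Lpn (LP (LK LD1_c1 LD2_c58 LD3_c41))))))
theorem f226855 : Led Lsl_gt (LP (LK LD1_c0 LD2_c25 LD3_c37)) = (LP (LK LD1_c0 LD2_c54 LD3_c53)) :=
  Lgr Lrot49 (Lpe (K10.f28161 IH) (Lpe (K11.f28160 IH) (Lpe (K11.f28130 IH) (Lpr_gt (K11.f28140 IH) (Lpr_dt (K11.f28143 IH) (Lpr_gt (f226780 IH) (Lpe (f220320 IH) (Lpe (f6826 IH) (Lpe (f6818 IH) (Lpn (LP (LK LD1_c0 LD2_c54 LD3_c53))))))))))))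
theorem f182182 : Led Lsl_dt (LP (LK LD1_c0 LD2_c36 LD3_c32)) = (LP (LK LD1_c0 LD2_c16 LD3_c17)) :=
  Lre_d IH (LK LD1_c0 LD2_c36 LD3_c32) (LK LD1_c0 LD2_c16 LD3_c17) Lrfl Lrfl
theorem f226877 : Led Lsl_gt (LP (LK LD1_c0 LD2_c56 LD3_c31)) = (LP (LK LD1_c1 LD2_c1 LD3_c36)) :=
  Lgr Lrot94 (Lpe (K11.f53102 IH) (Lpr_gt (f226855 IH) (Lpr_dt (f6818 IH) (Lpe (f200391 IH) (Lpr_dt (K11.f52250 IH) (Lpe (K9.f182174 IH) (Lpe (f182182 IH) (Lpe (f179308 IH) (Lpr_df (f200412 IH) (Lpn (LP (LK LD1_c1 LD2_c1 LD3_c36))))))))))))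
theorem f211290 : Led Lsl_gt (LP (LK LD1_c0 LD2_c56 LD3_c22)) = (LP (LK LD1_c0 LD2_c25 LD3_c37)) :=
  Lgr Lrot94 (Lpe (f28926 IH) (Lpe (f201070 IH) (Lpr_dt (K11.f211278 IH) (Lpr_gt (K11.f53056 IH) (Lpr_dt (K11.f52292 IH) (Lpe (K11.f28912 IH) (Lpr_df (K10.f52238 IH) (Lpe (K10.f53078 IH) (Lpe (K10.f53079 IH) (Lpn (LP (LK LD1_c0 LD2_c25 LD3_c37))))))))))))
theorem f56522 : Led Lsl_et (LP (LK LD1_c0 LD2_c57 LD3_c2)) = (LP (LK LD1_c0 LD2_c32 LD3_c35)) :=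
  Lgr Lrot74 (Lpe (K9.f56520 IH) (Lpr_ef (K9.f56516 IH) (Lpe (K11.f56521 IH) (Lpn (LP (LK LD1_c0 LD2_c32 LD3_c35))))))
theorem f197246 : Led Lsl_ef (LP (LK LD1_c1 LD2_c57 LD3_c42)) = (LP (LK LD1_c1 LD2_c10 LD3_c24)) :=
  Lgr Lrot28 (Lpr_ct (K10.f197237 IH) (Lpr_et (f56522 IH) (Lpr_ct (K11.f56561 IH) (Lpn (LP (LK LD1_c1 LD2_c10 LD3_c24))))))
theorem f80307 : Led Lsl_ef (LP (LK LD1_c0 LD2_c55 LD3_c44)) = (LP (LK LD1_c1 LD2_c1 LD3_c49)) :=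
  Lgr Lrot28 (Lpr_ct (K0.f33764 IH) (Lpr_et (K2.f69672 IH) (Lpr_ct (K2.f80298 IH) (Lpn (LP (LK LD1_c1 LD2_c1 LD3_c49))))))
theorem f182333 : Led Lsl_dt (LP (LK LD1_c1 LD2_c10 LD3_c24)) = (LP (LK LD1_c2 LD2_c26 LD3_c18)) :=
  Lre_d IH (LK LD1_c1 LD2_c10 LD3_c24) (LK LD1_c2 LD2_c26 LD3_c18) Lrfl Lrfl
theorem f197257 : Led Lsl_gf (LP (LK LD1_c1 LD2_c56 LD3_c61)) = (LP (LK LD1_c2 LD2_c26 LD3_c18)) :=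
  Lgr Lrot145 (Lpe (K1.f29572 IH) (Lpr_et (K1.f29567 IH) (Lpr_gt (K1.f35594 IH) (Lpr_dt (K1.f35598 IH) (Lpr_gt (K2.f80315 IH) (Lpe (K2.f59664 IH) (Lpe (f80307 IH) (Lpr_gt (K10.f69754 IH) (Lpr_ef (f197246 IH) (Lpr_dt (f182333 IH) (Lpn (LP (LK LD1_c2 LD2_c26 LD3_c18)))))))))))))
theorem f197259 : Led Lsl_gf (LP (LK LD1_c0 LD2_c55 LD3_c16)) = (LP (LK LD1_c1 LD2_c10 LD3_c11)) :=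
  Lgr Lrot144 (Lpr_dt (K9.f28938 IH) (Lpr_gt (K9.f28937 IH) (Lpr_dt (K1.f28787 IH) (Lpe (K11.f29258 IH) (Lpe (K11.f29259 IH) (Lpr_gf (f197257 IH) (Lpe (f182333 IH) (Lpe (f182328 IH) (Lpe (f172681 IH) (Lpn (LP (LK LD1_c1 LD2_c10 LD3_c11))))))))))))
theorem f197265 : Led Lsl_gt (LP (LK LD1_c0 LD2_c55 LD3_c17)) = (LP (LK LD1_c0 LD2_c55 LD3_c32)) :=
  Lgr Lrot137 (Lpe (K9.f28927 IH) (Lpr_dt (K11.f28935 IH) (Lpr_gf (f197259 IH) (Lpr_df (K11.f182352 IH) (Lpr_et (K11.f27956 IH) (Lpe (K9.f27955 IH) (Lpe (K1.f27933 IH) (Lpr_dt (K10.f51605 IH) (Lpe (f27953 IH) (Lpe (K11.f52249 IH) (Lpn (LP (LK LD1_c0 LD2_c55 LD3_c32)))))))))))))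
theorem f166452 : Led Lsl_ct (LP (LK LD1_c1 LD2_c1 LD3_c36)) = (LP (LK LD1_c0 LD2_c28 LD3_c8)) :=
  Lre_c IH (LK LD1_c1 LD2_c1 LD3_c36) (LK LD1_c0 LD2_c28 LD3_c8) Lrfl Lrfl
theorem f226883 : Led Lsl_gt (LP (LK LD1_c1 LD2_c57 LD3_c25)) = (LP (LK LD1_c2 LD2_c3 LD3_c13)) :=
  Lgr Lrot150 (Lpe (K11.f52691 IH) (Lpe (f197265 IH) (Lpe (K9.f28915 IH) (Lpr_gt (f211290 IH) (Lpr_ct (K11.f53102 IH) (Lpr_gt (f226877 IH) (Lpr_ct (f166452 IH) (Lpe (K11.f166453 IH) (Lpe (K11.f166456 IH) (Lpn (LP (LK LD1_c2 LD2_c3 LD3_c13))))))))))))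
theorem f182375 : Led Lsl_ct (LP (LK LD1_c1 LD2_c57 LD3_c25)) = (LP (LK LD1_c0 LD2_c55 LD3_c32)) :=
  Lre_c IH (LK LD1_c1 LD2_c57 LD3_c25) (LK LD1_c0 LD2_c55 LD3_c32) Lrfl Lrfl
theorem f200699 : Led Lsl_gt (LP (LK LD1_c1 LD2_c59 LD3_c7)) = (LP (LK LD1_c0 LD2_c56 LD3_c20)) :=
  Lre_g IH (LK LD1_c1 LD2_c59 LD3_c7) (LK LD1_c0 LD2_c56 LD3_c20) Lrfl Lrfl
theorem f226885 : Led Lsl_df (LP (LK LD1_c1 LD2_c59 LD3_c7)) = (LP (LK LD1_c2 LD2_c3 LD3_c13)) :=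
  Lgr Lrot153 (Lpr_gt (f200699 IH) (Lpr_dt (f200698 IH) (Lpe (f53084 IH) (Lpe (f53089 IH) (Lpe (f224875 IH) (Lpr_df (f6803 IH) (Lpr_gf (f216325 IH) (Lpe (f182375 IH) (Lpr_gt (f226883 IH) (Lpn (LP (LK LD1_c2 LD2_c3 LD3_c13))))))))))))
theorem f211244 : Led Lsl_cf (LP (LK LD1_c1 LD2_c19 LD3_c46)) = (LP (LK LD1_c0 LD2_c55 LD3_c34)) :=
  Lgr Lrot11 (Lpr_ct (K11.f211242 IH) (Lpn (LP (LK LD1_c0 LD2_c55 LD3_c34))))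
theorem f223698 : Led Lsl_gf (LP (LK LD1_c0 LD2_c55 LD3_c17)) = (LP (LK LD1_c0 LD2_c55 LD3_c34)) :=
  Lgr Lrot144 (Lpr_dt (f28956 IH) (Lpr_gt (f211290 IH) (Lpr_dt (K10.f53079 IH) (Lpe (K11.f53081 IH) (Lpe (f192822 IH) (Lpe (f223666 IH) (Lpr_df (f223689 IH) (Lpe (K11.f211270 IH) (Lpr_cf (f211244 IH) (Lpn (LP (LK LD1_c0 LD2_c55 LD3_c34))))))))))))
theorem f28836 : Led Lsl_ct (LP (LK LD1_c4 LD2_c3 LD3_c24)) = (LP (LK LD1_c1 LD2_c58 LD3_c40)) :=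
  Lre_c IH (LK LD1_c4 LD2_c3 LD3_c24) (LK LD1_c1 LD2_c58 LD3_c40) Lrfl Lrfl
theorem f226897 : Led Lsl_gt (LP (LK LD1_c1 LD2_c59 LD3_c8)) = (LP (LK LD1_c4 LD2_c3 LD3_c24)) :=
  Lgr Lrot150 (Lpe (f223732 IH) (Lpe (f200699 IH) (Lpr_df (f226885 IH) (Lpe (K11.f211248 IH) (Lpr_ct (K11.f211242 IH) (Lpe (f223698 IH) (Lpe (K9.f28920 IH) (Lpr_df (K9.f28828 IH) (Lpe (f28836 IH) (Lpn (LP (LK LD1_c4 LD2_c3 LD3_c24))))))))))))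
theorem f226778 : Led Lsl_dt (LP (LK LD1_c1 LD2_c59 LD3_c8)) = (LP (LK LD1_c1 LD2_c59 LD3_c1)) :=
  Lgr Lrot57 (Lpr_gf (f226776 IH) (Lpe (f53021 IH) (Lpr_gt (f53020 IH) (Lpr_dt (K11.f53019 IH) (Lpr_gt (K11.f28137 IH) (Lpr_dt (K11.f28106 IH) (Lpe (K11.f52320 IH) (Lpe (K10.f52265 IH) (Lpe (K11.f52288 IH) (Lpn (LP (LK LD1_c1 LD2_c59 LD3_c1))))))))))))
theorem f226899 : Led Lsl_gf (LP (LK LD1_c0 LD2_c56 LD3_c14)) = (LP (LK LD1_c1 LD2_c58 LD3_c40)) :=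
  Lgr Lrot104 (Lpr_ct (K11.f200800 IH) (Lpr_df (K11.f200801 IH) (Lpe (K11.f199145 IH) (Lpe (K11.f199144 IH) (Lpe (K11.f52291 IH) (Lpe (K11.f52288 IH) (Lpe (f226778 IH) (Lpr_gt (f226897 IH) (Lpr_ct (f28836 IH) (Lpn (LP (LK LD1_c1 LD2_c58 LD3_c40))))))))))))
theorem f201279 : Led Lsl_et (LP (LK LD1_c0 LD2_c25 LD3_c30)) = (LP (LK LD1_c0 LD2_c56 LD3_c15)) :=
  Lre_e IH (LK LD1_c0 LD2_c25 LD3_c30) (LK LD1_c0 LD2_c56 LD3_c15) Lrfl Lrfl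
theorem f201237 : Led Lsl_gt (LP (LK LD1_c0 LD2_c56 LD3_c15)) = (LP (LK LD1_c1 LD2_c58 LD3_c53)) :=
  Lre_g IH (LK LD1_c0 LD2_c56 LD3_c15) (LK LD1_c1 LD2_c58 LD3_c53) Lrfl Lrfl
theorem f28839 : Led Lsl_gt (LP (LK LD1_c0 LD2_c28 LD3_c1)) = (LP (LK LD1_c1 LD2_c1 LD3_c22)) :=
  Lre_g IH (LK LD1_c0 LD2_c28 LD3_c1) (LK LD1_c1 LD2_c1 LD3_c22) Lrfl Lrfl
theorem f39168 : Led Lsl_gf (LP (LK LD1_c1 LD2_c55 LD3_c20)) = (LP (LK LD1_c1 LD2_c1 LD3_c22)) :=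
  Lgr Lrot76 (Lpr_af (K1.f39141 IH) (Lpe (K1.f39165 IH) (Lpr_gt (f28839 IH) (Lpn (LP (LK LD1_c1 LD2_c1 LD3_c22))))))
theorem f227192 : Led Lsl_dt (LP (LK LD1_c1 LD2_c58 LD3_c53)) = (LP (LK LD1_c1 LD2_c1 LD3_c22)) :=
  Lgr Lrot171 (Lpe (f201237 IH) (Lpe (f201279 IH) (Lpr_dt (K11.f28143 IH) (Lpr_gf (f226899 IH) (Lpe (K9.f28824 IH) (Lpr_et (K9.f28821 IH) (Lpr_gf (K9.f43115 IH) (Lpr_ef (K9.f42900 IH) (Lpr_dt (K1.f38943 IH) (Lpr_gf (f39168 IH) (Lpn (LP (LK LD1_c1 LD2_c1 LD3_c22)))))))))))))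
theorem f7899 : Led Lsl_ft (LP (LK LD1_c0 LD2_c31 LD3_c61)) = (LP (LK LD1_c0 LD2_c14 LD3_c17)) :=
  Lre_f IH (LK LD1_c0 LD2_c31 LD3_c61) (LK LD1_c0 LD2_c14 LD3_c17) Lrfl Lrfl
theorem f201260 : Led Lsl_ft (LP (LK LD1_c0 LD2_c27 LD3_c4)) = (LP (LK LD1_c0 LD2_c59 LD3_c27)) :=
  Lre_f IH (LK LD1_c0 LD2_c27 LD3_c4) (LK LD1_c0 LD2_c59 LD3_c27) Lrfl Lrfl
theorem f201261 : Led Lsl_bf (LP (LK LD1_c0 LD2_c31 LD3_c61)) = (LP (LK LD1_c0 LD2_c59 LD3_c27)) :=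
  Lgr Lrot61 (Lpr_ft (f7899 IH) (Lpr_bt (K11.f201250 IH) (Lpr_ft (f201260 IH) (Lpn (LP (LK LD1_c0 LD2_c59 LD3_c27))))))
theorem f7731 : Led Lsl_ft (LP (LK LD1_c0 LD2_c27 LD3_c18)) = (LP (LK LD1_c1 LD2_c0 LD3_c5)) :=
  Lre_f IH (LK LD1_c0 LD2_c27 LD3_c18) (LK LD1_c1 LD2_c0 LD3_c5) Lrfl Lrfl
theorem f7900 : Led Lsl_ct (LP (LK LD1_c1 LD2_c0 LD3_c5)) = (LP (LK LD1_c0 LD2_c31 LD3_c61)) :=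
  Lgr Lrot40 (Lpe (f7731 IH) (Lpr_cf (K0.f7888 IH) (Lpe (f7899 IH) (Lpn (LP (LK LD1_c0 LD2_c31 LD3_c61))))))
theorem f7903 : Led Lsl_cf (LP (LK LD1_c1 LD2_c0 LD3_c5)) = (LP (LK LD1_c0 LD2_c31 LD3_c61)) :=
  Lgr Lrot11 (Lpr_ct (f7900 IH) (Lpn (LP (LK LD1_c0 LD2_c31 LD3_c61))))
theorem f7905 : Led Lsl_bt (LP (LK LD1_c1 LD2_c0 LD3_c5)) = (LP (LK LD1_c2 LD2_c6 LD3_c5)) :=
  Lre_b IH (LK LD1_c1 LD2_c0 LD3_c5) (LK LD1_c2 LD2_c6 LD3_c5) Lrfl Lrfl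
theorem f7842 : Led Lsl_ft (LP (LK LD1_c2 LD2_c6 LD3_c5)) = (LP (LK LD1_c1 LD2_c0 LD3_c1)) :=
  Lre_f IH (LK LD1_c2 LD2_c6 LD3_c5) (LK LD1_c1 LD2_c0 LD3_c1) Lrfl Lrfl
theorem f201231 : Led Lsl_ft (LP (LK LD1_c1 LD2_c58 LD3_c50)) = (LP (LK LD1_c4 LD2_c3 LD3_c45)) :=
  Lre_f IH (LK LD1_c1 LD2_c58 LD3_c50) (LK LD1_c4 LD2_c3 LD3_c45) Lrfl Lrfl
theorem f201232 : Led Lsl_cf (LP (LK LD1_c2 LD2_c6 LD3_c5)) = (LP (LK LD1_c4 LD2_c3 LD3_c45)) :=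
  Lgr Lrot108 (Lpr_ft (f7842 IH) (Lpr_ct (K11.f201107 IH) (Lpr_ft (f201231 IH) (Lpn (LP (LK LD1_c4 LD2_c3 LD3_c45))))))
theorem f201240 : Led Lsl_ct (LP (LK LD1_c2 LD2_c6 LD3_c5)) = (LP (LK LD1_c4 LD2_c3 LD3_c45)) :=
  Lgr Lrot59 (Lpr_cf (f201232 IH) (Lpn (LP (LK LD1_c4 LD2_c3 LD3_c45))))
theorem f201244 : Led Lsl_bt (LP (LK LD1_c4 LD2_c3 LD3_c45)) = (LP (LK LD1_c1 LD2_c58 LD3_c55)) :=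
  Lre_b IH (LK LD1_c4 LD2_c3 LD3_c45) (LK LD1_c1 LD2_c58 LD3_c55) Lrfl Lrfl
theorem f201266 : Led Lsl_ct (LP (LK LD1_c1 LD2_c58 LD3_c55)) = (LP (LK LD1_c0 LD2_c59 LD3_c27)) :=
  Lgr Lrot83 (Lpe (f201244 IH) (Lpe (f201240 IH) (Lpe (f7905 IH) (Lpr_cf (f7903 IH) (Lpr_bf (f201261 IH) (Lpn (LP (LK LD1_c0 LD2_c59 LD3_c27))))))))
theorem f201268 : Led Lsl_cf (LP (LK LD1_c1 LD2_c58 LD3_c55)) = (LP (LK LD1_c0 LD2_c59 LD3_c27)) :=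
  Lgr Lrot11 (Lpr_ct (f201266 IH) (Lpn (LP (LK LD1_c0 LD2_c59 LD3_c27))))
theorem f201272 : Led Lsl_ft (LP (LK LD1_c1 LD2_c58 LD3_c55)) = (LP (LK LD1_c0 LD2_c56 LD3_c15)) :=
  Lre_f IH (LK LD1_c1 LD2_c58 LD3_c55) (LK LD1_c0 LD2_c56 LD3_c15) Lrfl Lrfl
theorem f201273 : Led Lsl_ct (LP (LK LD1_c0 LD2_c56 LD3_c15)) = (LP (LK LD1_c0 LD2_c27 LD3_c4)) :=
  Lgr Lrot40 (Lpe (f201272 IH) (Lpr_cf (f201268 IH) (Lpe (f201260 IH) (Lpn (LP (LK LD1_c0 LD2_c27 LD3_c4))))))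
theorem f201263 : Led Lsl_gt (LP (LK LD1_c0 LD2_c27 LD3_c4)) = (LP (LK LD1_c0 LD2_c59 LD3_c26)) :=
  Lre_g IH (LK LD1_c0 LD2_c27 LD3_c4) (LK LD1_c0 LD2_c59 LD3_c26) Lrfl Lrfl
theorem f227214 : Led Lsl_dt (LP (LK LD1_c0 LD2_c59 LD3_c26)) = (LP (LK LD1_c0 LD2_c28 LD3_c9)) :=
  Lgr Lrot57 (Lpe (f201263 IH) (Lpe (f201273 IH) (Lpr_gt (f201237 IH) (Lpr_dt (f227192 IH) (Lpe (f39168 IH) (Lpr_dt (K1.f39005 IH) (Lpe (K1.f38942 IH) (Lpe (K1.f38941 IH) (Lpe (K9.f181414 IH) (Lpn (LP (LK LD1_c0 LD2_c28 LD3_c9))))))))))))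
theorem f43110 : Led Lsl_et (LP (LK LD1_c0 LD2_c5 LD3_c41)) = (LP (LK LD1_c0 LD2_c2 LD3_c34)) :=
  Lre_e IH (LK LD1_c0 LD2_c5 LD3_c41) (LK LD1_c0 LD2_c2 LD3_c34) Lrfl Lrfl
theorem f53248 : Led Lsl_gt (LP (LK LD1_c0 LD2_c58 LD3_c35)) = (LP (LK LD1_c0 LD2_c26 LD3_c34)) :=
  Lre_g IH (LK LD1_c0 LD2_c58 LD3_c35) (LK LD1_c0 LD2_c26 LD3_c34) Lrfl Lrfl
theorem f227279 : Led Lsl_et (LP (LK LD1_c0 LD2_c59 LD3_c26)) = (LP (LK LD1_c0 LD2_c58 LD3_c35)) :=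
  Lgr Lrot121 (Lpr_dt (f227214 IH) (Lpe (K9.f80916 IH) (Lpe (K1.f28949 IH) (Lpr_et (f43110 IH) (Lpe (K0.f16674 IH) (Lpe (K0.f27823 IH) (Lpr_dt (K9.f27824 IH) (Lpe (K9.f166417 IH) (Lpe (K9.f53247 IH) (Lpe (f53248 IH) (Lpn (LP (LK LD1_c0 LD2_c58 LD3_c35)))))))))))))
theorem f227287 : Led Lsl_ef (LP (LK LD1_c0 LD2_c59 LD3_c26)) = (LP (LK LD1_c0 LD2_c58 LD3_c35)) :=
  Lgr Lrot88 (Lpr_et (f227279 IH) (Lpn (LP (LK LD1_c0 LD2_c58 LD3_c35))))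
theorem f227291 : Led Lsl_dt (LP (LK LD1_c1 LD2_c13 LD3_c35)) = (LP (LK LD1_c0 LD2_c58 LD3_c35)) :=
  Lgr Lrot77 (Lpr_ef (f212015 IH) (Lpe (K9.f80918 IH) (Lpe (K10.f80964 IH) (Lpe (f227214 IH) (Lpr_ef (f227287 IH) (Lpn (LP (LK LD1_c0 LD2_c58 LD3_c35))))))))
theorem f212019 : Led Lsl_et (LP (LK LD1_c1 LD2_c13 LD3_c35)) = (LP (LK LD1_c1 LD2_c28 LD3_c22)) :=
  Lgr Lrot87 (Lpr_ef (f212015 IH) (Lpn (LP (LK LD1_c1 LD2_c28 LD3_c22))))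
theorem f60717 : Led Lsl_gt (LP (LK LD1_c1 LD2_c59 LD3_c28)) = (LP (LK LD1_c0 LD2_c56 LD3_c35)) :=
  Lre_g IH (LK LD1_c1 LD2_c59 LD3_c28) (LK LD1_c0 LD2_c56 LD3_c35) Lrfl Lrfl
theorem f166419 : Led Lsl_dt (LP (LK LD1_c0 LD2_c58 LD3_c36)) = (LP (LK LD1_c0 LD2_c26 LD3_c34)) :=
  Lre_d IH (LK LD1_c0 LD2_c58 LD3_c36) (LK LD1_c0 LD2_c26 LD3_c34) Lrfl Lrfl
theorem f227297 : Led Lsl_ef (LP (LK LD1_c1 LD2_c59 LD3_c28)) = (LP (LK LD1_c0 LD2_c58 LD3_c36)) :=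
  Lgr Lrot167 (Lpr_gt (f60717 IH) (Lpr_dt (K10.f56329 IH) (Lpe (K10.f60715 IH) (Lpe (K1.f27854 IH) (Lpr_et (K1.f60218 IH) (Lpe (K9.f60699 IH) (Lpe (f212019 IH) (Lpr_dt (f227291 IH) (Lpr_gt (f53248 IH) (Lpe (f166419 IH) (Lpn (LP (LK LD1_c0 LD2_c58 LD3_c36)))))))))))))
theorem f227303 : Led Lsl_et (LP (LK LD1_c1 LD2_c59 LD3_c28)) = (LP (LK LD1_c0 LD2_c58 LD3_c36)) :=
  Lgr Lrot87 (Lpr_ef (f227297 IH) (Lpn (LP (LK LD1_c0 LD2_c58 LD3_c36))))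
theorem f166463 : Led Lsl_et (LP (LK LD1_c0 LD2_c58 LD3_c33)) = (LP (LK LD1_c0 LD2_c26 LD3_c33)) :=
  Lre_e IH (LK LD1_c0 LD2_c58 LD3_c33) (LK LD1_c0 LD2_c26 LD3_c33) Lrfl Lrfl
theorem f227301 : Led Lsl_dt (LP (LK LD1_c1 LD2_c59 LD3_c28)) = (LP (LK LD1_c0 LD2_c58 LD3_c33)) :=
  Lgr Lrot77 (Lpr_ef (f227297 IH) (Lpe (K9.f53247 IH) (Lpe (f166458 IH) (Lpe (K11.f166446 IH) (Lpe (f166463 IH) (Lpn (LP (LK LD1_c0 LD2_c58 LD3_c33))))))))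
theorem f166447 : Led Lsl_et (LP (LK LD1_c0 LD2_c26 LD3_c33)) = (LP (LK LD1_c0 LD2_c58 LD3_c33)) :=
  Lre_e IH (LK LD1_c0 LD2_c26 LD3_c33) (LK LD1_c0 LD2_c58 LD3_c33) Lrfl Lrfl
theorem f166448 : Led Lsl_gt (LP (LK LD1_c0 LD2_c58 LD3_c33)) = (LP (LK LD1_c0 LD2_c54 LD3_c27)) :=
  Lgr Lrot137 (Lpe (f166447 IH) (Lpr_dt (K11.f166446 IH) (Lpr_gf (K9.f166429 IH) (Lpr_df (K10.f7996 IH) (Lpr_et (K11.f27491 IH) (Lpe (K0.f27758 IH) (Lpe (K1.f27764 IH) (Lpr_dt (K1.f27765 IH) (Lpe (K10.f27848 IH) (Lpr_df (K10.f28520 IH) (Lpn (LP (LK LD1_c0 LD2_c54 LD3_c27)))))))))))))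
theorem f28527 : Led Lsl_dt (LP (LK LD1_c0 LD2_c59 LD3_c3)) = (LP (LK LD1_c0 LD2_c54 LD3_c27)) :=
  Lgr Lrot42 (Lpr_df (K10.f28520 IH) (Lpn (LP (LK LD1_c0 LD2_c54 LD3_c27))))
theorem f28393 : Led Lsl_ct (LP (LK LD1_c0 LD2_c57 LD3_c29)) = (LP (LK LD1_c2 LD2_c0 LD3_c56)) :=
  Lre_c IH (LK LD1_c0 LD2_c57 LD3_c29) (LK LD1_c2 LD2_c0 LD3_c56) Lrfl Lrfl
theorem f25939 : Led Lsl_gt (LP (LK LD1_c1 LD2_c31 LD3_c22)) = (LP (LK LD1_c0 LD2_c42 LD3_c10)) :=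
  Lre_g IH (LK LD1_c1 LD2_c31 LD3_c22) (LK LD1_c0 LD2_c42 LD3_c10) Lrfl Lrfl
theorem f26671 : Led Lsl_ct (LP (LK LD1_c1 LD2_c4 LD3_c5)) = (LP (LK LD1_c2 LD2_c14 LD3_c6)) :=
  Lre_c IH (LK LD1_c1 LD2_c4 LD3_c5) (LK LD1_c2 LD2_c14 LD3_c6) Lrfl Lrfl
theorem f26672 : Led Lsl_ef (LP (LK LD1_c1 LD2_c4 LD3_c30)) = (LP (LK LD1_c2 LD2_c14 LD3_c6)) :=
  Lgr Lrot28 (Lpr_ct (K11.f26627 IH) (Lpr_et (K9.f26658 IH) (Lpr_ct (f26671 IH) (Lpn (LP (LK LD1_c2 LD2_c14 LD3_c6))))))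
theorem f193814 : Led Lsl_df (LP (LK LD1_c1 LD2_c31 LD3_c22)) = (LP (LK LD1_c2 LD2_c14 LD3_c6)) :=
  Lgr Lrot170 (Lpr_gt (f25939 IH) (Lpe (K11.f25924 IH) (Lpr_et (K11.f68572 IH) (Lpe (K5.f59808 IH) (Lpr_dt (K0.f21177 IH) (Lpr_gt (K0.f23002 IH) (Lpe (K0.f23023 IH) (Lpr_et (K11.f23024 IH) (Lpr_gt (K11.f193806 IH) (Lpr_ef (f26672 IH) (Lpn (LP (LK LD1_c2 LD2_c14 LD3_c6)))))))))))))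
theorem f186448 : Led Lsl_gf (LP (LK LD1_c1 LD2_c5 LD3_c56)) = (LP (LK LD1_c0 LD2_c57 LD3_c29)) :=
  Lgr Lrot145 (Lpe (K11.f175534 IH) (Lpr_et (K10.f176679 IH) (Lpr_gt (K10.f186048 IH) (Lpr_dt (K9.f59128 IH) (Lpe (K9.f101495 IH) (Lpr_df (K9.f100675 IH) (Lpr_et (K9.f100685 IH) (Lpe (K9.f181216 IH) (Lpe (K10.f28399 IH) (Lpe (K10.f28386 IH) (Lpn (LP (LK LD1_c0 LD2_c57 LD3_c29)))))))))))))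
theorem f193818 : Led Lsl_gt (LP (LK LD1_c2 LD2_c0 LD3_c56)) = (LP (LK LD1_c2 LD2_c14 LD3_c6)) :=
  Lgr Lrot94 (Lpe (f28393 IH) (Lpe (f186448 IH) (Lpr_dt (K10.f25941 IH) (Lpr_gt (K10.f25940 IH) (Lpe (K1.f25919 IH) (Lpe (K11.f25945 IH) (Lpe (K11.f25938 IH) (Lpe (f25939 IH) (Lpr_df (f193814 IH) (Lpn (LP (LK LD1_c2 LD2_c14 LD3_c6))))))))))))
theorem f26680 : Led Lsl_ct (LP (LK LD1_c2 LD2_c14 LD3_c6)) = (LP (LK LD1_c1 LD2_c4 LD3_c5)) :=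
  Lre_c IH (LK LD1_c2 LD2_c14 LD3_c6) (LK LD1_c1 LD2_c4 LD3_c5) Lrfl Lrfl
theorem f26676 : Led Lsl_ct (LP (LK LD1_c1 LD2_c4 LD3_c4)) = (LP (LK LD1_c0 LD2_c29 LD3_c16)) :=
  Lre_c IH (LK LD1_c1 LD2_c4 LD3_c4) (LK LD1_c0 LD2_c29 LD3_c16) Lrfl Lrfl
theorem f205220 : Led Lsl_gf (LP (LK LD1_c1 LD2_c4 LD3_c4)) = (LP (LK LD1_c0 LD2_c41 LD3_c0)) :=
  Lgr Lrot104 (Lpr_ct (f26676 IH) (Lpe (K9.f26622 IH) (Lpe (f26680 IH) (Lpe (f193818 IH) (Lpe (f28393 IH) (Lpe (K10.f175530 IH) (Lpe (K10.f25987 IH) (Lpr_gt (K11.f205216 IH) (Lpr_ct (K11.f59051 IH) (Lpn (LP (LK LD1_c0 LD2_c41 LD3_c0))))))))))))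
theorem f205224 : Led Lsl_bf (LP (LK LD1_c1 LD2_c1 LD3_c53)) = (LP (LK LD1_c0 LD2_c29 LD3_c16)) :=
  Lgr Lrot156 (Lpr_gt (K10.f36443 IH) (Lpe (K1.f36483 IH) (Lpr_ct (K11.f25980 IH) (Lpr_gt (K10.f175527 IH) (Lpe (K10.f20789 IH) (Lpr_bt (K10.f198323 IH) (Lpr_gt (K11.f205216 IH) (Lpr_ct (K11.f59051 IH) (Lpe (f205220 IH) (Lpe (K11.f26678 IH) (Lpn (LP (LK LD1_c0 LD2_c29 LD3_c16)))))))))))))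
theorem f36450 : Led Lsl_dt (LP (LK LD1_c1 LD2_c1 LD3_c53)) = (LP (LK LD1_c2 LD2_c9 LD3_c32)) :=
  Lre_d IH (LK LD1_c1 LD2_c1 LD3_c53) (LK LD1_c2 LD2_c9 LD3_c32) Lrfl Lrfl
theorem f210942 : Led Lsl_bt (LP (LK LD1_c2 LD2_c9 LD3_c32)) = (LP (LK LD1_c1 LD2_c4 LD3_c5)) :=
  Lgr Lrot95 (Lpe (f36450 IH) (Lpr_bf (f205224 IH) (Lpe (K9.f26622 IH) (Lpn (LP (LK LD1_c1 LD2_c4 LD3_c5))))))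
theorem f210967 : Led Lsl_bf (LP (LK LD1_c1 LD2_c2 LD3_c3)) = (LP (LK LD1_c0 LD2_c29 LD3_c30)) :=
  Lgr Lrot96 (Lpr_et (K10.f36452 IH) (Lpr_bt (f210942 IH) (Lpr_et (K9.f26623 IH) (Lpn (LP (LK LD1_c0 LD2_c29 LD3_c30))))))
theorem f20325 : Led Lsl_ct (LP (LK LD1_c0 LD2_c29 LD3_c30)) = (LP (LK LD1_c1 LD2_c4 LD3_c30)) :=
  Lre_c IH (LK LD1_c0 LD2_c29 LD3_c30) (LK LD1_c1 LD2_c4 LD3_c30) Lrfl Lrfl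
theorem f210971 : Led Lsl_gt (LP (LK LD1_c1 LD2_c2 LD3_c3)) = (LP (LK LD1_c1 LD2_c10 LD3_c45)) :=
  Lgr Lrot164 (Lpr_bf (f210967 IH) (Lpr_ct (f20325 IH) (Lpe (K11.f193806 IH) (Lpr_cf (K2.f71449 IH) (Lpe (K10.f27236 IH) (Lpe (K10.f198305 IH) (Lpr_ct (K10.f164264 IH) (Lpe (K10.f175509 IH) (Lpr_cf (K10.f71473 IH) (Lpr_bt (K10.f37530 IH) (Lpn (LP (LK LD1_c1 LD2_c10 LD3_c45)))))))))))))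
theorem f227309 : Led Lsl_gt (LP (LK LD1_c2 LD2_c4 LD3_c4)) = (LP (LK LD1_c2 LD2_c8 LD3_c45)) :=
  Lgr Lrot137 (Lpe (K10.f28529 IH) (Lpr_dt (f28527 IH) (Lpe (f166448 IH) (Lpe (f227301 IH) (Lpr_et (f227303 IH) (Lpr_gf (K9.f166415 IH) (Lpr_ef (K1.f37507 IH) (Lpe (K1.f37525 IH) (Lpe (f210971 IH) (Lpr_df (K11.f193390 IH) (Lpn (LP (LK LD1_c2 LD2_c8 LD3_c45)))))))))))))
theorem f198345 : Led Lsl_ef (LP (LK LD1_c2 LD2_c8 LD3_c45)) = (LP (LK LD1_c2 LD2_c58 LD3_c9)) :=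
  Lgr Lrot88 (Lpr_et (K11.f198339 IH) (Lpn (LP (LK LD1_c2 LD2_c58 LD3_c9))))
theorem f36451 : Led Lsl_et (LP (LK LD1_c2 LD2_c9 LD3_c33)) = (LP (LK LD1_c1 LD2_c1 LD3_c53)) :=
  Lre_e IH (LK LD1_c2 LD2_c9 LD3_c33) (LK LD1_c1 LD2_c1 LD3_c53) Lrfl Lrfl
theorem f198343 : Led Lsl_df (LP (LK LD1_c2 LD2_c9 LD3_c33)) = (LP (LK LD1_c2 LD2_c58 LD3_c9)) :=
  Lgr Lrot70 (Lpr_et (f36451 IH) (Lpr_dt (f36450 IH) (Lpe (K10.f36445 IH) (Lpr_dt (K10.f193386 IH) (Lpr_et (K11.f198339 IH) (Lpn (LP (LK LD1_c2 LD2_c58 LD3_c9))))))))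
theorem f36458 : Led Lsl_et (LP (LK LD1_c1 LD2_c1 LD3_c53)) = (LP (LK LD1_c2 LD2_c9 LD3_c33)) :=
  Lre_e IH (LK LD1_c1 LD2_c1 LD3_c53) (LK LD1_c2 LD2_c9 LD3_c33) Lrfl Lrfl
theorem f210944 : Led Lsl_bt (LP (LK LD1_c2 LD2_c9 LD3_c33)) = (LP (LK LD1_c1 LD2_c4 LD3_c6)) :=
  Lgr Lrot119 (Lpe (f36458 IH) (Lpr_bf (f205224 IH) (Lpe (K9.f22426 IH) (Lpn (LP (LK LD1_c1 LD2_c4 LD3_c6))))))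
theorem f210946 : Led Lsl_bf (LP (LK LD1_c2 LD2_c9 LD3_c33)) = (LP (LK LD1_c1 LD2_c4 LD3_c6)) :=
  Lgr Lrot24 (Lpr_bt (f210944 IH) (Lpn (LP (LK LD1_c1 LD2_c4 LD3_c6))))
theorem f26666 : Led Lsl_ct (LP (LK LD1_c1 LD2_c4 LD3_c6)) = (LP (LK LD1_c2 LD2_c14 LD3_c5)) :=
  Lre_c IH (LK LD1_c1 LD2_c4 LD3_c6) (LK LD1_c2 LD2_c14 LD3_c5) Lrfl Lrfl
theorem f198489 : Led Lsl_bf (LP (LK LD1_c0 LD2_c36 LD3_c22)) = (LP (LK LD1_c1 LD2_c10 LD3_c20)) :=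
  Lgr Lrot24 (Lpr_bt (f198487 IH) (Lpn (LP (LK LD1_c1 LD2_c10 LD3_c20))))
theorem f179945 : Led Lsl_et (LP (LK LD1_c1 LD2_c28 LD3_c58)) = (LP (LK LD1_c1 LD2_c10 LD3_c20)) :=
  Lgr Lrot87 (Lpr_ef (K10.f179906 IH) (Lpn (LP (LK LD1_c1 LD2_c10 LD3_c20))))
theorem f198491 : Led Lsl_bt (LP (LK LD1_c1 LD2_c18 LD3_c58)) = (LP (LK LD1_c1 LD2_c28 LD3_c58)) :=
  Lgr Lrot119 (Lpe (K9.f24243 IH) (Lpr_bf (f198489 IH) (Lpe (f179945 IH) (Lpn (LP (LK LD1_c1 LD2_c28 LD3_c58))))))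
theorem f186011 : Led Lsl_cf (LP (LK LD1_c2 LD2_c30 LD3_c13)) = (LP (LK LD1_c1 LD2_c27 LD3_c42)) :=
  Lgr Lrot11 (Lpr_ct (K10.f186007 IH) (Lpn (LP (LK LD1_c1 LD2_c27 LD3_c42))))
theorem f204897 : Led Lsl_bt (LP (LK LD1_c1 LD2_c11 LD3_c58)) = (LP (LK LD1_c0 LD2_c57 LD3_c31)) :=
  Lgr Lrot127 (Lpr_bf (f204895 IH) (Lpn (LP (LK LD1_c0 LD2_c57 LD3_c31))))
theorem f204907 : Led Lsl_bt (LP (LK LD1_c1 LD2_c27 LD3_c42)) = (LP (LK LD1_c2 LD2_c10 LD3_c40)) :=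
  Lgr Lrot119 (Lpr_ef (K9.f59129 IH) (Lpe (f204897 IH) (Lpr_ef (f204905 IH) (Lpn (LP (LK LD1_c2 LD2_c10 LD3_c40))))))
theorem f210953 : Led Lsl_gt (LP (LK LD1_c2 LD2_c9 LD3_c33)) = (LP (LK LD1_c2 LD2_c10 LD3_c40)) :=
  Lgr Lrot164 (Lpr_bf (f210946 IH) (Lpr_ct (f26666 IH) (Lpe (K10.f177687 IH) (Lpr_cf (K10.f175905 IH) (Lpe (K10.f179947 IH) (Lpe (f198491 IH) (Lpr_ct (K9.f24452 IH) (Lpe (K10.f177755 IH) (Lpr_cf (f186011 IH) (Lpr_bt (f204907 IH) (Lpn (LP (LK LD1_c2 LD2_c10 LD3_c40)))))))))))))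
theorem f227315 : Led Lsl_gf (LP (LK LD1_c1 LD2_c59 LD3_c28)) = (LP (LK LD1_c0 LD2_c56 LD3_c37)) :=
  Lgr Lrot138 (Lpr_dt (f227301 IH) (Lpr_gt (f166448 IH) (Lpe (f28527 IH) (Lpr_et (K10.f28529 IH) (Lpr_gt (f227309 IH) (Lpr_ef (f198345 IH) (Lpe (f198343 IH) (Lpr_gt (f210953 IH) (Lpe (K10.f80926 IH) (Lpe (K10.f80933 IH) (Lpn (LP (LK LD1_c0 LD2_c56 LD3_c37)))))))))))))
theorem f34628 : Led Lsl_ct (LP (LK LD1_c0 LD2_c55 LD3_c36)) = (LP (LK LD1_c0 LD2_c25 LD3_c15)) :=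
  Lre_c IH (LK LD1_c0 LD2_c55 LD3_c36) (LK LD1_c0 LD2_c25 LD3_c15) Lrfl Lrfl
theorem f182398 : Led Lsl_dt (LP (LK LD1_c0 LD2_c55 LD3_c37)) = (LP (LK LD1_c0 LD2_c25 LD3_c15)) :=
  Lre_d IH (LK LD1_c0 LD2_c55 LD3_c37) (LK LD1_c0 LD2_c25 LD3_c15) Lrfl Lrfl
theorem f182458 : Led Lsl_ct (LP (LK LD1_c1 LD2_c57 LD3_c33)) = (LP (LK LD1_c0 LD2_c55 LD3_c37)) :=
  Lre_c IH (LK LD1_c1 LD2_c57 LD3_c33) (LK LD1_c0 LD2_c55 LD3_c37) Lrfl Lrfl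
theorem f193101 : Led Lsl_gt (LP (LK LD1_c4 LD2_c1 LD3_c16)) = (LP (LK LD1_c1 LD2_c57 LD3_c33)) :=
  Lre_g IH (LK LD1_c4 LD2_c1 LD3_c16) (LK LD1_c1 LD2_c57 LD3_c33) Lrfl Lrfl
theorem f227317 : Led Lsl_ct (LP (LK LD1_c1 LD2_c59 LD3_c28)) = (LP (LK LD1_c4 LD2_c1 LD3_c16)) :=
  Lgr Lrot152 (Lpr_gf (f227315 IH) (Lpe (K10.f47065 IH) (Lpr_gt (K9.f47063 IH) (Lpe (K1.f47046 IH) (Lpr_gt (K10.f182001 IH) (Lpr_ct (f34628 IH) (Lpe (f182398 IH) (Lpe (f182458 IH) (Lpe (f193101 IH) (Lpn (LP (LK LD1_c4 LD2_c1 LD3_c16))))))))))))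
theorem f227299 : Led Lsl_bt (LP (LK LD1_c1 LD2_c59 LD3_c28)) = (LP (LK LD1_c0 LD2_c56 LD3_c59)) :=
  Lgr Lrot119 (Lpr_ef (f227297 IH) (Lpe (K9.f53206 IH) (Lpe (K9.f183216 IH) (Lpn (LP (LK LD1_c0 LD2_c56 LD3_c59))))))
theorem f185073 : Led Lsl_bt (LP (LK LD1_c1 LD2_c13 LD3_c5)) = (LP (LK LD1_c0 LD2_c33 LD3_c55)) :=
  Lre_b IH (LK LD1_c1 LD2_c13 LD3_c5) (LK LD1_c0 LD2_c33 LD3_c55) Lrfl Lrfl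
theorem f166157 : Led Lsl_bt (LP (LK LD1_c0 LD2_c33 LD3_c26)) = (LP (LK LD1_c1 LD2_c12 LD3_c12)) :=
  Lre_b IH (LK LD1_c0 LD2_c33 LD3_c26) (LK LD1_c1 LD2_c12 LD3_c12) Lrfl Lrfl
theorem f189578 : Led Lsl_bt (LP (LK LD1_c0 LD2_c32 LD3_c6)) = (LP (LK LD1_c0 LD2_c15 LD3_c1)) :=
  Lgr Lrot128 (Lpr_cf (K11.f186717 IH) (Lpe (f185073 IH) (Lpr_cf (K10.f189567 IH) (Lpe (f166157 IH) (Lpe (K9.f166125 IH) (Lpn (LP (LK LD1_c0 LD2_c15 LD3_c1))))))))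
theorem f22136 : Led Lsl_dt (LP (LK LD1_c0 LD2_c15 LD3_c1)) = (LP (LK LD1_c0 LD2_c33 LD3_c28)) :=
  Lre_d IH (LK LD1_c0 LD2_c15 LD3_c1) (LK LD1_c0 LD2_c33 LD3_c28) Lrfl Lrfl
theorem f204870 : Led Lsl_bt (LP (LK LD1_c0 LD2_c33 LD3_c28)) = (LP (LK LD1_c0 LD2_c56 LD3_c58)) :=
  Lgr Lrot95 (Lpe (f22136 IH) (Lpe (f189578 IH) (Lpr_df (K11.f204868 IH) (Lpn (LP (LK LD1_c0 LD2_c56 LD3_c58))))))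
theorem f227327 : Led Lsl_gt (LP (LK LD1_c1 LD2_c57 LD3_c37)) = (LP (LK LD1_c4 LD2_c1 LD3_c16)) :=
  Lgr Lrot65 (Lpe (K10.f171535 IH) (Lpe (K10.f192662 IH) (Lpr_gf (K11.f204854 IH) (Lpe (f204870 IH) (Lpr_ct (K9.f166153 IH) (Lpr_gf (K11.f198645 IH) (Lpe (K9.f182476 IH) (Lpe (K9.f183201 IH) (Lpe (f227299 IH) (Lpr_ct (f227317 IH) (Lpn (LP (LK LD1_c4 LD2_c1 LD3_c16)))))))))))))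
theorem f192717 : Led Lsl_et (LP (LK LD1_c2 LD2_c10 LD3_c36)) = (LP (LK LD1_c1 LD2_c57 LD3_c37)) :=
  Lgr Lrot158 (Lpe (K9.f175810 IH) (Lpr_ef (K10.f192654 IH) (Lpe (K10.f171533 IH) (Lpn (LP (LK LD1_c1 LD2_c57 LD3_c37))))))
theorem f101409 : Led Lsl_dt (LP (LK LD1_c2 LD2_c10 LD3_c36)) = (LP (LK LD1_c4 LD2_c26 LD3_c55)) :=
  Lre_d IH (LK LD1_c2 LD2_c10 LD3_c36) (LK LD1_c4 LD2_c26 LD3_c55) Lrfl Lrfl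
theorem f101402 : Led Lsl_gt (LP (LK LD1_c8 LD2_c51 LD3_c37)) = (LP (LK LD1_c4 LD2_c26 LD3_c55)) :=
  Lre_g IH (LK LD1_c8 LD2_c51 LD3_c37) (LK LD1_c4 LD2_c26 LD3_c55) Lrfl Lrfl
theorem f37203 : Led Lsl_ct (LP (LK LD1_c3 LD2_c3 LD3_c55)) = (LP (LK LD1_c6 LD2_c14 LD3_c5)) :=
  Lre_c IH (LK LD1_c3 LD2_c3 LD3_c55) (LK LD1_c6 LD2_c14 LD3_c5) Lrfl Lrfl
theorem f197991 : Led Lsl_bf (LP (LK LD1_c2 LD2_c10 LD3_c42)) = (LP (LK LD1_c3 LD2_c3 LD3_c55)) :=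
  Lgr Lrot24 (Lpr_bt (K10.f197989 IH) (Lpn (LP (LK LD1_c3 LD2_c3 LD3_c55))))
theorem f210955 : Led Lsl_gf (LP (LK LD1_c2 LD2_c9 LD3_c33)) = (LP (LK LD1_c2 LD2_c10 LD3_c42)) :=
  Lgr Lrot124 (Lpr_bf (f210946 IH) (Lpr_ct (f26666 IH) (Lpe (K10.f177753 IH) (Lpr_cf (f186011 IH) (Lpr_bt (f204907 IH) (Lpr_gt (K10.f80927 IH) (Lpr_ct (K10.f101421 IH) (Lpr_gt (K10.f198030 IH) (Lpe (f37203 IH) (Lpe (f197991 IH) (Lpn (LP (LK LD1_c2 LD2_c10 LD3_c42)))))))))))))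
theorem f210948 : Led Lsl_dt (LP (LK LD1_c2 LD2_c9 LD3_c33)) = (LP (LK LD1_c2 LD2_c58 LD3_c9)) :=
  Lgr Lrot79 (Lpr_bf (f210946 IH) (Lpe (K9.f26632 IH) (Lpe (K11.f26653 IH) (Lpn (LP (LK LD1_c2 LD2_c58 LD3_c9))))))
theorem f164295 : Led Lsl_ct (LP (LK LD1_c2 LD2_c58 LD3_c9)) = (LP (LK LD1_c6 LD2_c4 LD3_c9)) :=
  Lre_c IH (LK LD1_c2 LD2_c58 LD3_c9) (LK LD1_c6 LD2_c4 LD3_c9) Lrfl Lrfl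
theorem f101314 : Led Lsl_dt (LP (LK LD1_c2 LD2_c10 LD3_c37)) = (LP (LK LD1_c4 LD2_c26 LD3_c57)) :=
  Lre_d IH (LK LD1_c2 LD2_c10 LD3_c37) (LK LD1_c4 LD2_c26 LD3_c57) Lrfl Lrfl
theorem f198069 : Led Lsl_bt (LP (LK LD1_c2 LD2_c26 LD3_c57)) = (LP (LK LD1_c1 LD2_c26 LD3_c22)) :=
  Lgr Lrot95 (Lpe (K10.f56071 IH) (Lpr_bf (K11.f198066 IH) (Lpe (K10.f27237 IH) (Lpn (LP (LK LD1_c1 LD2_c26 LD3_c22))))))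
theorem f198071 : Led Lsl_bf (LP (LK LD1_c2 LD2_c26 LD3_c57)) = (LP (LK LD1_c1 LD2_c26 LD3_c22)) :=
  Lgr Lrot24 (Lpr_bt (f198069 IH) (Lpn (LP (LK LD1_c1 LD2_c26 LD3_c22))))
theorem f198073 : Led Lsl_bt (LP (LK LD1_c4 LD2_c27 LD3_c2)) = (LP (LK LD1_c2 LD2_c17 LD3_c58)) :=
  Lgr Lrot119 (Lpr_ef (K10.f198035 IH) (Lpr_bf (f198071 IH) (Lpe (K10.f185950 IH) (Lpn (LP (LK LD1_c2 LD2_c17 LD3_c58))))))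
theorem f26039 : Led Lsl_bt (LP (LK LD1_c2 LD2_c27 LD3_c59)) = (LP (LK LD1_c1 LD2_c11 LD3_c8)) :=
  Lre_b IH (LK LD1_c2 LD2_c27 LD3_c59) (LK LD1_c1 LD2_c11 LD3_c8) Lrfl Lrfl
theorem f26041 : Led Lsl_ct (LP (LK LD1_c2 LD2_c27 LD3_c59)) = (LP (LK LD1_c5 LD2_c0 LD3_c30)) :=
  Lre_c IH (LK LD1_c2 LD2_c27 LD3_c59) (LK LD1_c5 LD2_c0 LD3_c30) Lrfl Lrfl
theorem f198361 : Led Lsl_gf (LP (LK LD1_c8 LD2_c51 LD3_c55)) = (LP (LK LD1_c5 LD2_c0 LD3_c30)) :=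
  Lgr Lrot126 (Lpe (K10.f101421 IH) (Lpr_bt (f198073 IH) (Lpr_gt (K10.f185952 IH) (Lpr_ct (K10.f100655 IH) (Lpe (K11.f186104 IH) (Lpe (K11.f176838 IH) (Lpr_bt (K11.f198351 IH) (Lpe (K10.f186013 IH) (Lpe (f26039 IH) (Lpr_ct (f26041 IH) (Lpn (LP (LK LD1_c5 LD2_c0 LD3_c30)))))))))))))
theorem f38637 : Led Lsl_gt (LP (LK LD1_c2 LD2_c10 LD3_c38)) = (LP (LK LD1_c4 LD2_c26 LD3_c59)) :=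
  Lre_g IH (LK LD1_c2 LD2_c10 LD3_c38) (LK LD1_c4 LD2_c26 LD3_c59) Lrfl Lrfl
theorem f36727 : Led Lsl_at (LP (LK LD1_c1 LD2_c27 LD3_c50)) = (LP (LK LD1_c1 LD2_c57 LD3_c1)) :=
  Lgr Lrot80 (Lpr_ef (K1.f36722 IH) (Lpe (K1.f29276 IH) (Lpe (K1.f29204 IH) (Lpn (LP (LK LD1_c1 LD2_c57 LD3_c1))))))
theorem f36733 : Led Lsl_af (LP (LK LD1_c1 LD2_c27 LD3_c50)) = (LP (LK LD1_c1 LD2_c57 LD3_c1)) :=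
  Lgr Lrot117 (Lpr_dt (K1.f36729 IH) (Lpr_at (f36727 IH) (Lpe (K1.f29207 IH) (Lpn (LP (LK LD1_c1 LD2_c57 LD3_c1))))))
theorem f196232 : Led Lsl_gf (LP (LK LD1_c1 LD2_c11 LD3_c7)) = (LP (LK LD1_c0 LD2_c55 LD3_c27)) :=
  Lgr Lrot47 (Lpr_gt (K10.f196230 IH) (Lpr_af (f36733 IH) (Lpe (K1.f29216 IH) (Lpn (LP (LK LD1_c0 LD2_c55 LD3_c27))))))
theorem f26040 : Led Lsl_ct (LP (LK LD1_c5 LD2_c0 LD3_c30)) = (LP (LK LD1_c2 LD2_c27 LD3_c59)) :=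
  Lre_c IH (LK LD1_c5 LD2_c0 LD3_c30) (LK LD1_c2 LD2_c27 LD3_c59) Lrfl Lrfl
theorem f198006 : Led Lsl_dt (LP (LK LD1_c4 LD2_c26 LD3_c59)) = (LP (LK LD1_c5 LD2_c0 LD3_c30)) :=
  Lgr Lrot105 (Lpe (f38637 IH) (Lpe (K9.f35553 IH) (Lpe (K10.f43027 IH) (Lpr_cf (K10.f197997 IH) (Lpr_gt (K10.f29234 IH) (Lpr_dt (K1.f29217 IH) (Lpe (f196232 IH) (Lpr_dt (K10.f192653 IH) (Lpe (f26040 IH) (Lpn (LP (LK LD1_c5 LD2_c0 LD3_c30))))))))))))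
theorem f101042 : Led Lsl_gf (LP (LK LD1_c6 LD2_c13 LD3_c11)) = (LP (LK LD1_c4 LD2_c26 LD3_c59)) :=
  Lgr Lrot76 (Lpr_af (K9.f101027 IH) (Lpe (K9.f101026 IH) (Lpr_gt (f38637 IH) (Lpn (LP (LK LD1_c4 LD2_c26 LD3_c59))))))
theorem f16576 : Led Lsl_et (LP (LK LD1_c2 LD2_c10 LD3_c38)) = (LP (LK LD1_c4 LD2_c26 LD3_c54)) :=
  Lre_e IH (LK LD1_c2 LD2_c10 LD3_c38) (LK LD1_c4 LD2_c26 LD3_c54) Lrfl Lrfl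
theorem f101059 : Led Lsl_ef (LP (LK LD1_c3 LD2_c3 LD3_c20)) = (LP (LK LD1_c4 LD2_c26 LD3_c41)) :=
  Lgr Lrot20 (Lpr_at (K9.f101040 IH) (Lpr_et (f16576 IH) (Lpr_at (K2.f16184 IH) (Lpn (LP (LK LD1_c4 LD2_c26 LD3_c41))))))
theorem f69381 : Led Lsl_ct (LP (LK LD1_c3 LD2_c3 LD3_c20)) = (LP (LK LD1_c6 LD2_c13 LD3_c10)) :=
  Lre_c IH (LK LD1_c3 LD2_c3 LD3_c20) (LK LD1_c6 LD2_c13 LD3_c10) Lrfl Lrfl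
theorem f101070 : Led Lsl_et (LP (LK LD1_c6 LD2_c13 LD3_c10)) = (LP (LK LD1_c8 LD2_c50 LD3_c59)) :=
  Lgr Lrot158 (Lpe (f69381 IH) (Lpr_ef (f101059 IH) (Lpe (K1.f16211 IH) (Lpn (LP (LK LD1_c8 LD2_c50 LD3_c59))))))
theorem f16391 : Led Lsl_et (LP (LK LD1_c16 LD2_c32 LD3_c35)) = (LP (LK LD1_c26 LD2_c29 LD3_c20)) :=
  Lre_e IH (LK LD1_c16 LD2_c32 LD3_c35) (LK LD1_c26 LD2_c29 LD3_c20) Lrfl Lrfl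
theorem f101090 : Led Lsl_ff (LP (LK LD1_c6 LD2_c13 LD3_c10)) = (LP (LK LD1_c8 LD2_c51 LD3_c51)) :=
  Lgr Lrot72 (Lpr_et (f101070 IH) (Lpr_ft (K9.f16407 IH) (Lpr_et (f16391 IH) (Lpe (K9.f42942 IH) (Lpr_et (K9.f42952 IH) (Lpn (LP (LK LD1_c8 LD2_c51 LD3_c51))))))))
theorem f42979 : Led Lsl_et (LP (LK LD1_c8 LD2_c45 LD3_c23)) = (LP (LK LD1_c16 LD2_c23 LD3_c30)) :=
  Lre_e IH (LK LD1_c8 LD2_c45 LD3_c23) (LK LD1_c16 LD2_c23 LD3_c30) Lrfl Lrfl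
theorem f42980 : Led Lsl_at (LP (LK LD1_c8 LD2_c51 LD3_c51)) = (LP (LK LD1_c8 LD2_c45 LD3_c23)) :=
  Lgr Lrot80 (Lpe (K9.f42952 IH) (Lpr_af (K9.f42961 IH) (Lpe (f42979 IH) (Lpn (LP (LK LD1_c8 LD2_c45 LD3_c23))))))
theorem f42985 : Led Lsl_af (LP (LK LD1_c8 LD2_c51 LD3_c51)) = (LP (LK LD1_c8 LD2_c45 LD3_c23)) :=
  Lgr Lrot0 (Lpr_at (f42980 IH) (Lpn (LP (LK LD1_c8 LD2_c45 LD3_c23))))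
theorem f43022 : Led Lsl_ft (LP (LK LD1_c4 LD2_c26 LD3_c61)) = (LP (LK LD1_c8 LD2_c45 LD3_c23)) :=
  Lre_f IH (LK LD1_c4 LD2_c26 LD3_c61) (LK LD1_c8 LD2_c45 LD3_c23) Lrfl Lrfl
theorem f101092 : Led Lsl_at (LP (LK LD1_c6 LD2_c13 LD3_c10)) = (LP (LK LD1_c4 LD2_c26 LD3_c61)) :=
  Lgr Lrot66 (Lpr_ff (f101090 IH) (Lpr_af (f42985 IH) (Lpe (f43022 IH) (Lpn (LP (LK LD1_c4 LD2_c26 LD3_c61))))))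
theorem f101031 : Led Lsl_gt (LP (LK LD1_c8 LD2_c51 LD3_c49)) = (LP (LK LD1_c4 LD2_c26 LD3_c61)) :=
  Lre_g IH (LK LD1_c8 LD2_c51 LD3_c49) (LK LD1_c4 LD2_c26 LD3_c61) Lrfl Lrfl
theorem f101099 : Led Lsl_gf (LP (LK LD1_c8 LD2_c51 LD3_c49)) = (LP (LK LD1_c8 LD2_c51 LD3_c51)) :=
  Lgr Lrot47 (Lpr_gt (f101031 IH) (Lpe (f101092 IH) (Lpr_ff (f101090 IH) (Lpn (LP (LK LD1_c8 LD2_c51 LD3_c51))))))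
theorem f198363 : Led Lsl_cf (LP (LK LD1_c6 LD2_c13 LD3_c39)) = (LP (LK LD1_c8 LD2_c51 LD3_c49)) :=
  Lgr Lrot99 (Lpr_df (K10.f193731 IH) (Lpe (K10.f101300 IH) (Lpe (K10.f198033 IH) (Lpe (K10.f198032 IH) (Lpr_gf (f198361 IH) (Lpe (f198006 IH) (Lpe (f101042 IH) (Lpr_ct (K9.f101017 IH) (Lpe (f101099 IH) (Lpn (LP (LK LD1_c8 LD2_c51 LD3_c49))))))))))))
theorem f36710 : Led Lsl_at (LP (LK LD1_c3 LD2_c3 LD3_c40)) = (LP (LK LD1_c4 LD2_c0 LD3_c33)) :=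
  Lgr Lrot80 (Lpr_ef (K1.f36704 IH) (Lpr_af (K1.f29577 IH) (Lpe (K10.f29582 IH) (Lpn (LP (LK LD1_c4 LD2_c0 LD3_c33))))))
theorem f36725 : Led Lsl_ft (LP (LK LD1_c1 LD2_c27 LD3_c48)) = (LP (LK LD1_c3 LD2_c3 LD3_c40)) :=
  Lre_f IH (LK LD1_c1 LD2_c27 LD3_c48) (LK LD1_c3 LD2_c3 LD3_c40) Lrfl Lrfl
theorem f193747 : Led Lsl_gf (LP (LK LD1_c2 LD2_c10 LD3_c39)) = (LP (LK LD1_c1 LD2_c27 LD3_c48)) :=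
  Lgr Lrot47 (Lpr_gt (K10.f193741 IH) (Lpe (f36710 IH) (Lpe (f36725 IH) (Lpn (LP (LK LD1_c1 LD2_c27 LD3_c48))))))
theorem f80945 : Led Lsl_dt (LP (LK LD1_c2 LD2_c10 LD3_c39)) = (LP (LK LD1_c4 LD2_c27 LD3_c1)) :=
  Lre_d IH (LK LD1_c2 LD2_c10 LD3_c39) (LK LD1_c4 LD2_c27 LD3_c1) Lrfl Lrfl
theorem f198371 : Led Lsl_ct (LP (LK LD1_c4 LD2_c27 LD3_c1)) = (LP (LK LD1_c8 LD2_c51 LD3_c53)) :=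
  Lre_c IH (LK LD1_c4 LD2_c27 LD3_c1) (LK LD1_c8 LD2_c51 LD3_c53) Lrfl Lrfl
theorem f198372 : Led Lsl_df (LP (LK LD1_c8 LD2_c51 LD3_c53)) = (LP (LK LD1_c8 LD2_c51 LD3_c49)) :=
  Lgr Lrot84 (Lpe (f198371 IH) (Lpe (f80945 IH) (Lpr_gf (f193747 IH) (Lpe (K1.f36888 IH) (Lpe (K10.f36896 IH) (Lpr_cf (f198363 IH) (Lpr_gt (f101031 IH) (Lpr_dt (K9.f42994 IH) (Lpe (f101099 IH) (Lpn (LP (LK LD1_c8 LD2_c51 LD3_c49))))))))))))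
theorem f198382 : Led Lsl_dt (LP (LK LD1_c8 LD2_c51 LD3_c53)) = (LP (LK LD1_c8 LD2_c51 LD3_c49)) :=
  Lgr Lrot42 (Lpr_df (f198372 IH) (Lpn (LP (LK LD1_c8 LD2_c51 LD3_c49))))
theorem f101401 : Led Lsl_dt (LP (LK LD1_c4 LD2_c26 LD3_c55)) = (LP (LK LD1_c2 LD2_c10 LD3_c36)) :=
  Lre_d IH (LK LD1_c4 LD2_c26 LD3_c55) (LK LD1_c2 LD2_c10 LD3_c36) Lrfl Lrfl
theorem f101403 : Led Lsl_ct (LP (LK LD1_c16 LD2_c33 LD3_c54)) = (LP (LK LD1_c8 LD2_c51 LD3_c37)) :=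
  Lre_c IH (LK LD1_c16 LD2_c33 LD3_c54) (LK LD1_c8 LD2_c51 LD3_c37) Lrfl Lrfl
theorem f198391 : Led Lsl_gf (LP (LK LD1_c8 LD2_c51 LD3_c53)) = (LP (LK LD1_c16 LD2_c33 LD3_c54)) :=
  Lgr Lrot144 (Lpr_dt (f198382 IH) (Lpr_gt (f101031 IH) (Lpr_dt (K9.f42994 IH) (Lpe (K9.f101017 IH) (Lpe (K9.f100971 IH) (Lpr_gf (K9.f101399 IH) (Lpe (f101401 IH) (Lpe (f101402 IH) (Lpe (f101403 IH) (Lpn (LP (LK LD1_c16 LD2_c33 LD3_c54))))))))))))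
theorem f198381 : Led Lsl_ct (LP (LK LD1_c8 LD2_c51 LD3_c53)) = (LP (LK LD1_c4 LD2_c27 LD3_c1)) :=
  Lre_c IH (LK LD1_c8 LD2_c51 LD3_c53) (LK LD1_c4 LD2_c27 LD3_c1) Lrfl Lrfl
theorem f80956 : Led Lsl_dt (LP (LK LD1_c4 LD2_c27 LD3_c1)) = (LP (LK LD1_c2 LD2_c10 LD3_c39)) :=
  Lre_d IH (LK LD1_c4 LD2_c27 LD3_c1) (LK LD1_c2 LD2_c10 LD3_c39) Lrfl Lrfl
theorem f101404 : Led Lsl_ct (LP (LK LD1_c8 LD2_c51 LD3_c37)) = (LP (LK LD1_c16 LD2_c33 LD3_c54)) :=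
  Lre_c IH (LK LD1_c8 LD2_c51 LD3_c37) (LK LD1_c16 LD2_c33 LD3_c54) Lrfl Lrfl
theorem f198394 : Led Lsl_gt (LP (LK LD1_c4 LD2_c26 LD3_c57)) = (LP (LK LD1_c8 LD2_c51 LD3_c37)) :=
  Lgr Lrot9 (Lpe (f101314 IH) (Lpr_gt (K10.f43027 IH) (Lpr_ct (K9.f101020 IH) (Lpr_gt (K9.f80923 IH) (Lpr_ct (K10.f80929 IH) (Lpe (f80956 IH) (Lpe (f198381 IH) (Lpr_gf (f198391 IH) (Lpe (f101404 IH) (Lpn (LP (LK LD1_c8 LD2_c51 LD3_c37))))))))))))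
theorem f210957 : Led Lsl_df (LP (LK LD1_c6 LD2_c4 LD3_c9)) = (LP (LK LD1_c8 LD2_c51 LD3_c37)) :=
  Lgr Lrot84 (Lpe (f164295 IH) (Lpe (f210948 IH) (Lpr_gf (f210955 IH) (Lpe (K10.f101298 IH) (Lpe (K9.f101296 IH) (Lpe (K9.f100659 IH) (Lpr_gt (K10.f101312 IH) (Lpr_dt (f101314 IH) (Lpr_gt (f198394 IH) (Lpn (LP (LK LD1_c8 LD2_c51 LD3_c37))))))))))))
theorem f210959 : Led Lsl_dt (LP (LK LD1_c6 LD2_c4 LD3_c9)) = (LP (LK LD1_c8 LD2_c51 LD3_c37)) :=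
  Lgr Lrot42 (Lpr_df (f210957 IH) (Lpn (LP (LK LD1_c8 LD2_c51 LD3_c37))))
theorem f193394 : Led Lsl_ct (LP (LK LD1_c4 LD2_c22 LD3_c38)) = (LP (LK LD1_c2 LD2_c8 LD3_c45)) :=
  Lre_c IH (LK LD1_c4 LD2_c22 LD3_c38) (LK LD1_c2 LD2_c8 LD3_c45) Lrfl Lrfl
theorem f198341 : Led Lsl_ef (LP (LK LD1_c4 LD2_c22 LD3_c38)) = (LP (LK LD1_c6 LD2_c4 LD3_c9)) :=
  Lgr Lrot28 (Lpr_ct (f193394 IH) (Lpr_et (K11.f198339 IH) (Lpr_ct (f164295 IH) (Lpn (LP (LK LD1_c6 LD2_c4 LD3_c9))))))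
theorem f227319 : Led Lsl_dt (LP (LK LD1_c4 LD2_c1 LD3_c16)) = (LP (LK LD1_c8 LD2_c3 LD3_c16)) :=
  Lre_d IH (LK LD1_c4 LD2_c1 LD3_c16) (LK LD1_c8 LD2_c3 LD3_c16) Lrfl Lrfl
theorem f197801 : Led Lsl_gf (LP (LK LD1_c0 LD2_c32 LD3_c38)) = (LP (LK LD1_c0 LD2_c25 LD3_c3)) :=
  Lgr Lrot47 (Lpr_gt (K10.f197799 IH) (Lpe (K1.f29276 IH) (Lpe (K1.f29275 IH) (Lpn (LP (LK LD1_c0 LD2_c25 LD3_c3))))))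
theorem f28786 : Led Lsl_et (LP (LK LD1_c0 LD2_c11 LD3_c9)) = (LP (LK LD1_c0 LD2_c5 LD3_c12)) :=
  Lre_e IH (LK LD1_c0 LD2_c11 LD3_c9) (LK LD1_c0 LD2_c5 LD3_c12) Lrfl Lrfl
theorem f28785 : Led Lsl_gt (LP (LK LD1_c0 LD2_c56 LD3_c25)) = (LP (LK LD1_c0 LD2_c25 LD3_c35)) :=
  Lre_g IH (LK LD1_c0 LD2_c56 LD3_c25) (LK LD1_c0 LD2_c25 LD3_c35) Lrfl Lrfl
theorem f211500 : Led Lsl_et (LP (LK LD1_c0 LD2_c56 LD3_c32)) = (LP (LK LD1_c0 LD2_c56 LD3_c25)) :=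
  Lgr Lrot121 (Lpr_dt (f211493 IH) (Lpr_gf (f197801 IH) (Lpe (K1.f28787 IH) (Lpr_et (f28786 IH) (Lpe (K0.f28775 IH) (Lpe (K0.f28578 IH) (Lpr_dt (K10.f28647 IH) (Lpr_gf (K10.f28782 IH) (Lpe (K10.f28166 IH) (Lpe (f28785 IH) (Lpn (LP (LK LD1_c0 LD2_c56 LD3_c25)))))))))))))
theorem f28992 : Led Lsl_dt (LP (LK LD1_c0 LD2_c56 LD3_c25)) = (LP (LK LD1_c1 LD2_c59 LD3_c16)) :=
  Lre_d IH (LK LD1_c0 LD2_c56 LD3_c25) (LK LD1_c1 LD2_c59 LD3_c16) Lrfl Lrfl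
theorem f211504 : Led Lsl_ef (LP (LK LD1_c1 LD2_c27 LD3_c61)) = (LP (LK LD1_c1 LD2_c59 LD3_c16)) :=
  Lgr Lrot73 (Lpe (K10.f197811 IH) (Lpr_et (K10.f181604 IH) (Lpe (f211498 IH) (Lpr_et (f211500 IH) (Lpr_dt (f28992 IH) (Lpn (LP (LK LD1_c1 LD2_c59 LD3_c16))))))))
theorem f192848 : Led Lsl_gt (LP (LK LD1_c1 LD2_c57 LD3_c32)) = (LP (LK LD1_c0 LD2_c55 LD3_c37)) :=
  Lre_g IH (LK LD1_c1 LD2_c57 LD3_c32) (LK LD1_c0 LD2_c55 LD3_c37) Lrfl Lrfl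
theorem f28993 : Led Lsl_dt (LP (LK LD1_c1 LD2_c59 LD3_c16)) = (LP (LK LD1_c0 LD2_c56 LD3_c25)) :=
  Lre_d IH (LK LD1_c1 LD2_c59 LD3_c16) (LK LD1_c0 LD2_c56 LD3_c25) Lrfl Lrfl
theorem f211567 : Led Lsl_ef (LP (LK LD1_c1 LD2_c57 LD3_c32)) = (LP (LK LD1_c0 LD2_c56 LD3_c26)) :=
  Lgr Lrot167 (Lpr_gt (f192848 IH) (Lpr_dt (f182398 IH) (Lpe (f34076 IH) (Lpe (K0.f33603 IH) (Lpr_et (K2.f33625 IH) (Lpr_gt (K10.f69811 IH) (Lpr_ef (f211504 IH) (Lpr_dt (f28993 IH) (Lpr_gt (f28785 IH) (Lpe (K10.f28791 IH) (Lpn (LP (LK LD1_c0 LD2_c56 LD3_c26)))))))))))))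
theorem f211574 : Led Lsl_et (LP (LK LD1_c1 LD2_c57 LD3_c32)) = (LP (LK LD1_c0 LD2_c56 LD3_c26)) :=
  Lgr Lrot87 (Lpr_ef (f211567 IH) (Lpn (LP (LK LD1_c0 LD2_c56 LD3_c26))))
theorem f197269 : Led Lsl_et (LP (LK LD1_c0 LD2_c56 LD3_c24)) = (LP (LK LD1_c0 LD2_c25 LD3_c34)) :=
  Lre_e IH (LK LD1_c0 LD2_c56 LD3_c24) (LK LD1_c0 LD2_c25 LD3_c34) Lrfl Lrfl
theorem f211572 : Led Lsl_dt (LP (LK LD1_c1 LD2_c57 LD3_c32)) = (LP (LK LD1_c0 LD2_c56 LD3_c24)) :=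
  Lgr Lrot77 (Lpr_ef (f211567 IH) (Lpe (K10.f28166 IH) (Lpe (K11.f200641 IH) (Lpe (f53089 IH) (Lpe (f197269 IH) (Lpn (LP (LK LD1_c0 LD2_c56 LD3_c24))))))))
theorem f34050 : Led Lsl_dt (LP (LK LD1_c0 LD2_c55 LD3_c57)) = (LP (LK LD1_c0 LD2_c55 LD3_c8)) :=
  Lre_d IH (LK LD1_c0 LD2_c55 LD3_c57) (LK LD1_c0 LD2_c55 LD3_c8) Lrfl Lrfl
theorem f53131 : Led Lsl_et (LP (LK LD1_c0 LD2_c55 LD3_c57)) = (LP (LK LD1_c1 LD2_c58 LD3_c5)) :=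
  Lre_e IH (LK LD1_c0 LD2_c55 LD3_c57) (LK LD1_c1 LD2_c58 LD3_c5) Lrfl Lrfl
theorem f179916 : Led Lsl_gt (LP (LK LD1_c2 LD2_c26 LD3_c6)) = (LP (LK LD1_c1 LD2_c10 LD3_c14)) :=
  Lre_g IH (LK LD1_c2 LD2_c26 LD3_c6) (LK LD1_c1 LD2_c10 LD3_c14) Lrfl Lrfl
theorem f182396 : Led Lsl_df (LP (LK LD1_c2 LD2_c26 LD3_c6)) = (LP (LK LD1_c1 LD2_c57 LD3_c6)) :=
  Lgr Lrot135 (Lpr_gt (f179916 IH) (Lpr_df (K11.f182365 IH) (Lpr_et (f69712 IH) (Lpr_gt (K9.f27940 IH) (Lpe (K2.f69708 IH) (Lpe (K2.f69506 IH) (Lpe (K1.f34692 IH) (Lpe (K1.f35599 IH) (Lpr_et (K1.f35619 IH) (Lpr_gt (K11.f35622 IH) (Lpn (LP (LK LD1_c1 LD2_c57 LD3_c6)))))))))))))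
theorem f182407 : Led Lsl_dt (LP (LK LD1_c2 LD2_c26 LD3_c6)) = (LP (LK LD1_c1 LD2_c57 LD3_c6)) :=
  Lgr Lrot42 (Lpr_df (f182396 IH) (Lpn (LP (LK LD1_c1 LD2_c57 LD3_c6))))
theorem f211581 : Led Lsl_gt (LP (LK LD1_c1 LD2_c58 LD3_c5)) = (LP (LK LD1_c2 LD2_c26 LD3_c6)) :=
  Lgr Lrot137 (Lpe (f53131 IH) (Lpr_dt (f34050 IH) (Lpe (f53092 IH) (Lpe (f211572 IH) (Lpr_et (f211574 IH) (Lpe (K10.f31578 IH) (Lpr_ef (K11.f36207 IH) (Lpe (K1.f27249 IH) (Lpe (K11.f35655 IH) (Lpe (f182407 IH) (Lpn (LP (LK LD1_c2 LD2_c26 LD3_c6)))))))))))))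
theorem f69682 : Led Lsl_dt (LP (LK LD1_c0 LD2_c40 LD3_c49)) = (LP (LK LD1_c1 LD2_c28 LD3_c19)) :=
  Lre_d IH (LK LD1_c0 LD2_c40 LD3_c49) (LK LD1_c1 LD2_c28 LD3_c19) Lrfl Lrfl
theorem f59148 : Led Lsl_et (LP (LK LD1_c1 LD2_c28 LD3_c20)) = (LP (LK LD1_c0 LD2_c40 LD3_c49)) :=
  Lre_e IH (LK LD1_c1 LD2_c28 LD3_c20) (LK LD1_c0 LD2_c40 LD3_c49) Lrfl Lrfl
theorem f69683 : Led Lsl_dt (LP (LK LD1_c3 LD2_c4 LD3_c38)) = (LP (LK LD1_c1 LD2_c28 LD3_c20)) :=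
  Lre_d IH (LK LD1_c3 LD2_c4 LD3_c38) (LK LD1_c1 LD2_c28 LD3_c20) Lrfl Lrfl
theorem f182409 : Led Lsl_et (LP (LK LD1_c2 LD2_c26 LD3_c6)) = (LP (LK LD1_c3 LD2_c4 LD3_c38)) :=
  Lgr Lrot71 (Lpr_df (f182396 IH) (Lpr_ef (K11.f69680 IH) (Lpe (f69682 IH) (Lpe (f59148 IH) (Lpe (f69683 IH) (Lpn (LP (LK LD1_c3 LD2_c4 LD3_c38))))))))
theorem f182414 : Led Lsl_ef (LP (LK LD1_c2 LD2_c26 LD3_c6)) = (LP (LK LD1_c3 LD2_c4 LD3_c38)) :=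
  Lgr Lrot88 (Lpr_et (f182409 IH) (Lpn (LP (LK LD1_c3 LD2_c4 LD3_c38))))
theorem f29306 : Led Lsl_et (LP (LK LD1_c1 LD2_c56 LD3_c59)) = (LP (LK LD1_c0 LD2_c55 LD3_c18)) :=
  Lre_e IH (LK LD1_c1 LD2_c56 LD3_c59) (LK LD1_c0 LD2_c55 LD3_c18) Lrfl Lrfl
theorem f29630 : Led Lsl_et (LP (LK LD1_c0 LD2_c55 LD3_c18)) = (LP (LK LD1_c1 LD2_c56 LD3_c59)) :=
  Lre_e IH (LK LD1_c0 LD2_c55 LD3_c18) (LK LD1_c1 LD2_c56 LD3_c59) Lrfl Lrfl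
theorem f192842 : Led Lsl_et (LP (LK LD1_c0 LD2_c25 LD3_c15)) = (LP (LK LD1_c0 LD2_c55 LD3_c38)) :=
  Lre_e IH (LK LD1_c0 LD2_c25 LD3_c15) (LK LD1_c0 LD2_c55 LD3_c38) Lrfl Lrfl
theorem f192843 : Led Lsl_et (LP (LK LD1_c1 LD2_c57 LD3_c34)) = (LP (LK LD1_c0 LD2_c55 LD3_c37)) :=
  Lre_e IH (LK LD1_c1 LD2_c57 LD3_c34) (LK LD1_c0 LD2_c55 LD3_c37) Lrfl Lrfl
theorem f192844 : Led Lsl_dt (LP (LK LD1_c1 LD2_c56 LD3_c59)) = (LP (LK LD1_c1 LD2_c57 LD3_c34)) :=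
  Lgr Lrot77 (Lpe (f29630 IH) (Lpr_df (f192837 IH) (Lpe (f192842 IH) (Lpe (f182398 IH) (Lpe (f192843 IH) (Lpn (LP (LK LD1_c1 LD2_c57 LD3_c34))))))))
theorem f69684 : Led Lsl_et (LP (LK LD1_c1 LD2_c57 LD3_c6)) = (LP (LK LD1_c1 LD2_c28 LD3_c19)) :=
  Lgr Lrot87 (Lpr_ef (K11.f69680 IH) (Lpn (LP (LK LD1_c1 LD2_c28 LD3_c19))))
theorem f182399 : Led Lsl_et (LP (LK LD1_c0 LD2_c55 LD3_c37)) = (LP (LK LD1_c1 LD2_c57 LD3_c34)) :=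
  Lre_e IH (LK LD1_c0 LD2_c55 LD3_c37) (LK LD1_c1 LD2_c57 LD3_c34) Lrfl Lrfl
theorem f182400 : Led Lsl_gf (LP (LK LD1_c1 LD2_c28 LD3_c19)) = (LP (LK LD1_c1 LD2_c57 LD3_c34)) :=
  Lgr Lrot141 (Lpe (f69684 IH) (Lpe (f182396 IH) (Lpr_gt (f179916 IH) (Lpr_df (K11.f182365 IH) (Lpr_et (f69712 IH) (Lpr_gt (K9.f27940 IH) (Lpr_dt (K0.f33666 IH) (Lpr_gt (K9.f33187 IH) (Lpe (f182398 IH) (Lpr_et (f182399 IH) (Lpn (LP (LK LD1_c1 LD2_c57 LD3_c34)))))))))))))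
theorem f69687 : Led Lsl_et (LP (LK LD1_c0 LD2_c40 LD3_c49)) = (LP (LK LD1_c1 LD2_c28 LD3_c20)) :=
  Lre_e IH (LK LD1_c0 LD2_c40 LD3_c49) (LK LD1_c1 LD2_c28 LD3_c20) Lrfl Lrfl
theorem f196238 : Led Lsl_gf (LP (LK LD1_c2 LD2_c27 LD3_c59)) = (LP (LK LD1_c1 LD2_c28 LD3_c20)) :=
  Lgr Lrot138 (Lpr_dt (K10.f192658 IH) (Lpr_gt (K10.f196230 IH) (Lpe (K1.f36729 IH) (Lpr_et (K1.f36713 IH) (Lpe (f29303 IH) (Lpe (f29306 IH) (Lpr_dt (f192844 IH) (Lpe (f182400 IH) (Lpe (f69682 IH) (Lpr_et (f69687 IH) (Lpn (LP (LK LD1_c1 LD2_c28 LD3_c20)))))))))))))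
theorem f211583 : Led Lsl_gf (LP (LK LD1_c1 LD2_c57 LD3_c32)) = (LP (LK LD1_c0 LD2_c55 LD3_c40)) :=
  Lgr Lrot138 (Lpr_dt (f211572 IH) (Lpr_gt (f53092 IH) (Lpe (f34050 IH) (Lpr_et (f53131 IH) (Lpr_gt (f211581 IH) (Lpr_ef (f182414 IH) (Lpr_dt (f69683 IH) (Lpe (f196238 IH) (Lpe (K10.f192653 IH) (Lpr_et (K10.f192660 IH) (Lpn (LP (LK LD1_c0 LD2_c55 LD3_c40)))))))))))))
theorem f34051 : Led Lsl_ct (LP (LK LD1_c0 LD2_c55 LD3_c57)) = (LP (LK LD1_c1 LD2_c58 LD3_c4)) :=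
  Lre_c IH (LK LD1_c0 LD2_c55 LD3_c57) (LK LD1_c1 LD2_c58 LD3_c4) Lrfl Lrfl
theorem f34054 : Led Lsl_dt (LP (LK LD1_c4 LD2_c2 LD3_c10)) = (LP (LK LD1_c1 LD2_c58 LD3_c4)) :=
  Lre_d IH (LK LD1_c4 LD2_c2 LD3_c10) (LK LD1_c1 LD2_c58 LD3_c4) Lrfl Lrfl
theorem f227329 : Led Lsl_gf (LP (LK LD1_c4 LD2_c2 LD3_c10)) = (LP (LK LD1_c8 LD2_c3 LD3_c16)) :=
  Lgr Lrot143 (Lpr_dt (f34054 IH) (Lpe (f34051 IH) (Lpe (f30821 IH) (Lpe (f53092 IH) (Lpe (f211572 IH) (Lpr_gf (f211583 IH) (Lpe (K10.f171533 IH) (Lpr_gt (f227327 IH) (Lpr_dt (f227319 IH) (Lpn (LP (LK LD1_c8 LD2_c3 LD3_c16))))))))))))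
theorem f34053 : Led Lsl_dt (LP (LK LD1_c1 LD2_c58 LD3_c4)) = (LP (LK LD1_c4 LD2_c2 LD3_c10)) :=
  Lre_d IH (LK LD1_c1 LD2_c58 LD3_c4) (LK LD1_c4 LD2_c2 LD3_c10) Lrfl Lrfl
theorem f227331 : Led Lsl_et (LP (LK LD1_c1 LD2_c58 LD3_c4)) = (LP (LK LD1_c4 LD2_c2 LD3_c11)) :=
  Lre_e IH (LK LD1_c1 LD2_c58 LD3_c4) (LK LD1_c4 LD2_c2 LD3_c11) Lrfl Lrfl
theorem f227332 : Led Lsl_gf (LP (LK LD1_c4 LD2_c22 LD3_c38)) = (LP (LK LD1_c4 LD2_c2 LD3_c11)) :=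
  Lgr Lrot141 (Lpr_ef (f198341 IH) (Lpr_dt (f210959 IH) (Lpr_gt (f101402 IH) (Lpe (f101409 IH) (Lpr_et (f192717 IH) (Lpr_gt (f227327 IH) (Lpr_dt (f227319 IH) (Lpe (f227329 IH) (Lpe (f34053 IH) (Lpr_et (f227331 IH) (Lpn (LP (LK LD1_c4 LD2_c2 LD3_c11)))))))))))))
theorem f36454 : Led Lsl_ct (LP (LK LD1_c2 LD2_c9 LD3_c59)) = (LP (LK LD1_c1 LD2_c2 LD3_c3)) :=
  Lre_c IH (LK LD1_c2 LD2_c9 LD3_c59) (LK LD1_c1 LD2_c2 LD3_c3) Lrfl Lrfl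
theorem f211047 : Led Lsl_ct (LP (LK LD1_c1 LD2_c58 LD3_c5)) = (LP (LK LD1_c4 LD2_c2 LD3_c11)) :=
  Lre_c IH (LK LD1_c1 LD2_c58 LD3_c5) (LK LD1_c4 LD2_c2 LD3_c11) Lrfl Lrfl
theorem f59139 : Led Lsl_et (LP (LK LD1_c0 LD2_c8 LD3_c13)) = (LP (LK LD1_c0 LD2_c18 LD3_c16)) :=
  Lre_e IH (LK LD1_c0 LD2_c8 LD3_c13) (LK LD1_c0 LD2_c18 LD3_c16) Lrfl Lrfl
theorem f211038 : Led Lsl_gt (LP (LK LD1_c1 LD2_c22 LD3_c11)) = (LP (LK LD1_c0 LD2_c55 LD3_c23)) :=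
  Lgr Lrot112 (Lpr_df (K11.f211036 IH) (Lpr_et (K11.f80824 IH) (Lpe (K11.f59086 IH) (Lpe (f59139 IH) (Lpr_dt (K1.f36611 IH) (Lpe (K2.f37087 IH) (Lpe (K1.f29324 IH) (Lpe (K1.f29559 IH) (Lpe (K1.f35618 IH) (Lpe (K1.f35620 IH) (Lpn (LP (LK LD1_c0 LD2_c55 LD3_c23)))))))))))))
theorem f227337 : Led Lsl_gf (LP (LK LD1_c2 LD2_c9 LD3_c59)) = (LP (LK LD1_c1 LD2_c2 LD3_c10)) :=
  Lgr Lrot104 (Lpr_ct (f36454 IH) (Lpr_df (K11.f193390 IH) (Lpe (f193394 IH) (Lpr_gf (f227332 IH) (Lpe (f211047 IH) (Lpe (f211045 IH) (Lpe (K11.f211033 IH) (Lpr_gt (f211038 IH) (Lpr_ct (K1.f38382 IH) (Lpn (LP (LK LD1_c1 LD2_c2 LD3_c10))))))))))))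
theorem f227392 : Led Lsl_gt (LP (LK LD1_c2 LD2_c9 LD3_c59)) = (LP (LK LD1_c3 LD2_c0 LD3_c61)) :=
  Lgr Lrot46 (Lpr_gf (f227337 IH) (Lpr_ft (K1.f38395 IH) (Lpr_at (K1.f38396 IH) (Lpn (LP (LK LD1_c3 LD2_c0 LD3_c61))))))
theorem f35473 : Led Lsl_ct (LP (LK LD1_c1 LD2_c2 LD3_c3)) = (LP (LK LD1_c2 LD2_c9 LD3_c59)) :=
  Lre_c IH (LK LD1_c1 LD2_c2 LD3_c3) (LK LD1_c2 LD2_c9 LD3_c59) Lrfl Lrfl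
theorem f198337 : Led Lsl_bt (LP (LK LD1_c1 LD2_c2 LD3_c3)) = (LP (LK LD1_c0 LD2_c29 LD3_c30)) :=
  Lgr Lrot95 (Lpr_df (K11.f193390 IH) (Lpr_bf (K11.f198331 IH) (Lpr_df (K9.f26625 IH) (Lpn (LP (LK LD1_c0 LD2_c29 LD3_c30))))))
theorem f227453 : Led Lsl_cf (LP (LK LD1_c1 LD2_c4 LD3_c27)) = (LP (LK LD1_c0 LD2_c32 LD3_c49)) :=
  Lgr Lrot125 (Lpr_gt (K9.f20324 IH) (Lpe (f20312 IH) (Lpr_bt (K7.f20304 IH) (Lpr_gt (K9.f20321 IH) (Lpe (f198337 IH) (Lpr_ct (f35473 IH) (Lpr_gt (f227392 IH) (Lpe (K1.f27251 IH) (Lpr_bt (K1.f27247 IH) (Lpr_gt (K10.f186493 IH) (Lpn (LP (LK LD1_c0 LD2_c32 LD3_c49)))))))))))))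
theorem f24573 : Led Lsl_bt (LP (LK LD1_c0 LD2_c38 LD3_c4)) = (LP (LK LD1_c0 LD2_c17 LD3_c4)) :=
  Lre_b IH (LK LD1_c0 LD2_c38 LD3_c4) (LK LD1_c0 LD2_c17 LD3_c4) Lrfl Lrfl
theorem f164296 : Led Lsl_at (LP (LK LD1_c0 LD2_c38 LD3_c4)) = (LP (LK LD1_c0 LD2_c38 LD3_c4)) :=
  Lgr Lrot67 (Lpe (f24572 IH) (Lpr_af (K9.f164257 IH) (Lpr_bf (K7.f20318 IH) (Lpr_af (K9.f151836 IH) (Lpe (f24573 IH) (Lpn (LP (LK LD1_c0 LD2_c38 LD3_c4))))))))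
theorem f24581 : Led Lsl_ft (LP (LK LD1_c0 LD2_c16 LD3_c60)) = (LP (LK LD1_c0 LD2_c38 LD3_c4)) :=
  Lre_f IH (LK LD1_c0 LD2_c16 LD3_c60) (LK LD1_c0 LD2_c38 LD3_c4) Lrfl Lrfl
theorem f24589 : Led Lsl_gt (LP (LK LD1_c0 LD2_c16 LD3_c60)) = (LP (LK LD1_c0 LD2_c38 LD3_c2)) :=
  Lre_g IH (LK LD1_c0 LD2_c16 LD3_c60) (LK LD1_c0 LD2_c38 LD3_c2) Lrfl Lrfl
theorem f164652 : Led Lsl_gt (LP (LK LD1_c0 LD2_c38 LD3_c2)) = (LP (LK LD1_c0 LD2_c38 LD3_c4)) :=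
  Lgr Lrot46 (Lpe (f24589 IH) (Lpr_ft (f24581 IH) (Lpr_at (f164296 IH) (Lpn (LP (LK LD1_c0 LD2_c38 LD3_c4))))))
theorem f164654 : Led Lsl_bt (LP (LK LD1_c1 LD2_c22 LD3_c9)) = (LP (LK LD1_c0 LD2_c38 LD3_c2)) :=
  Lre_b IH (LK LD1_c1 LD2_c22 LD3_c9) (LK LD1_c0 LD2_c38 LD3_c2) Lrfl Lrfl
theorem f35469 : Led Lsl_gt (LP (LK LD1_c1 LD2_c2 LD3_c4)) = (LP (LK LD1_c0 LD2_c28 LD3_c20)) :=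
  Lre_g IH (LK LD1_c1 LD2_c2 LD3_c4) (LK LD1_c0 LD2_c28 LD3_c20) Lrfl Lrfl
theorem f227463 : Led Lsl_bf (LP (LK LD1_c1 LD2_c2 LD3_c4)) = (LP (LK LD1_c0 LD2_c32 LD3_c49)) :=
  Lgr Lrot156 (Lpr_gt (f35469 IH) (Lpe (K1.f35630 IH) (Lpr_ct (K1.f38382 IH) (Lpe (f227337 IH) (Lpe (f35473 IH) (Lpr_bt (f198337 IH) (Lpe (K9.f164300 IH) (Lpr_ct (f24576 IH) (Lpe (K9.f151830 IH) (Lpr_cf (f227453 IH) (Lpn (LP (LK LD1_c0 LD2_c32 LD3_c49)))))))))))))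
theorem f35460 : Led Lsl_ct (LP (LK LD1_c0 LD2_c28 LD3_c20)) = (LP (LK LD1_c1 LD2_c2 LD3_c2)) :=
  Lre_c IH (LK LD1_c0 LD2_c28 LD3_c20) (LK LD1_c1 LD2_c2 LD3_c2) Lrfl Lrfl
theorem f227465 : Led Lsl_ct (LP (LK LD1_c1 LD2_c22 LD3_c9)) = (LP (LK LD1_c2 LD2_c9 LD3_c55)) :=
  Lgr Lrot63 (Lpr_bt (f164654 IH) (Lpr_gt (f164652 IH) (Lpe (f24572 IH) (Lpr_ct (f24576 IH) (Lpe (K9.f151830 IH) (Lpr_cf (f227453 IH) (Lpe (f227463 IH) (Lpr_gt (f35469 IH) (Lpr_ct (f35460 IH) (Lpr_gt (K10.f35642 IH) (Lpn (LP (LK LD1_c2 LD2_c9 LD3_c55)))))))))))))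
theorem f227471 : Led Lsl_gf (LP (LK LD1_c2 LD2_c26 LD3_c55)) = (LP (LK LD1_c2 LD2_c9 LD3_c55)) :=
  Lgr Lrot126 (Lpe (K1.f37514 IH) (Lpr_bt (K2.f37522 IH) (Lpr_gt (K10.f37710 IH) (Lpe (f211755 IH) (Lpr_gt (f24430 IH) (Lpe (K11.f24244 IH) (Lpr_bt (K11.f24417 IH) (Lpr_gt (f24589 IH) (Lpe (f164654 IH) (Lpr_ct (f227465 IH) (Lpn (LP (LK LD1_c2 LD2_c9 LD3_c55)))))))))))))
theorem f227473 : Led Lsl_gt (LP (LK LD1_c0 LD2_c39 LD3_c54)) = (LP (LK LD1_c1 LD2_c22 LD3_c9)) :=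
  Lgr Lrot82 (Lpe (K1.f27228 IH) (Lpe (K2.f71449 IH) (Lpr_gf (K10.f175503 IH) (Lpe (K10.f164264 IH) (Lpr_bt (K10.f198305 IH) (Lpe (K10.f37710 IH) (Lpe (K2.f37522 IH) (Lpr_ct (K1.f37514 IH) (Lpr_gf (f227471 IH) (Lpe (f227465 IH) (Lpn (LP (LK LD1_c1 LD2_c22 LD3_c9)))))))))))))
theorem f227477 : Led Lsl_gf (LP (LK LD1_c1 LD2_c57 LD3_c7)) = (LP (LK LD1_c1 LD2_c22 LD3_c9)) :=
  Lgr Lrot76 (Lpr_af (K1.f35649 IH) (Lpe (K1.f27256 IH) (Lpr_gt (f227473 IH) (Lpn (LP (LK LD1_c1 LD2_c22 LD3_c9))))))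
theorem f227468 : Led Lsl_cf (LP (LK LD1_c1 LD2_c22 LD3_c9)) = (LP (LK LD1_c2 LD2_c9 LD3_c55)) :=
  Lgr Lrot11 (Lpr_ct (f227465 IH) (Lpn (LP (LK LD1_c2 LD2_c9 LD3_c55))))
theorem f35897 : Led Lsl_gt (LP (LK LD1_c2 LD2_c9 LD3_c57)) = (LP (LK LD1_c4 LD2_c24 LD3_c61)) :=
  Lre_g IH (LK LD1_c2 LD2_c9 LD3_c57) (LK LD1_c4 LD2_c24 LD3_c61) Lrfl Lrfl
theorem f37590 : Led Lsl_ct (LP (LK LD1_c4 LD2_c24 LD3_c61)) = (LP (LK LD1_c8 LD2_c47 LD3_c32)) :=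
  Lre_c IH (LK LD1_c4 LD2_c24 LD3_c61) (LK LD1_c8 LD2_c47 LD3_c32) Lrfl Lrfl
theorem f227486 : Led Lsl_gf (LP (LK LD1_c8 LD2_c48 LD3_c48)) = (LP (LK LD1_c8 LD2_c47 LD3_c32)) :=
  Lgr Lrot104 (Lpr_ct (K11.f38347 IH) (Lpe (K10.f38348 IH) (Lpr_cf (K1.f38399 IH) (Lpr_gf (f227477 IH) (Lpr_cf (f227468 IH) (Lpe (K10.f35642 IH) (Lpe (K1.f35457 IH) (Lpr_gt (f35897 IH) (Lpr_ct (f37590 IH) (Lpn (LP (LK LD1_c8 LD2_c47 LD3_c32))))))))))))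
theorem f27263 : Led Lsl_ct (LP (LK LD1_c3 LD2_c0 LD3_c60)) = (LP (LK LD1_c6 LD2_c9 LD3_c16)) :=
  Lre_c IH (LK LD1_c3 LD2_c0 LD3_c60) (LK LD1_c6 LD2_c9 LD3_c16) Lrfl Lrfl
theorem f38410 : Led Lsl_dt (LP (LK LD1_c6 LD2_c9 LD3_c16)) = (LP (LK LD1_c8 LD2_c48 LD3_c48)) :=
  Lgr Lrot32 (Lpe (f27263 IH) (Lpe (K10.f27262 IH) (Lpr_ft (K10.f38409 IH) (Lpe (K10.f38349 IH) (Lpr_cf (K1.f38399 IH) (Lpe (K1.f35625 IH) (Lpe (K1.f38405 IH) (Lpe (K11.f38401 IH) (Lpe (K11.f38347 IH) (Lpn (LP (LK LD1_c8 LD2_c48 LD3_c48))))))))))))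
theorem f38412 : Led Lsl_ff (LP (LK LD1_c8 LD2_c48 LD3_c47)) = (LP (LK LD1_c6 LD2_c9 LD3_c16)) :=
  Lgr Lrot103 (Lpr_at (K11.f38377 IH) (Lpe (K11.f38407 IH) (Lpe (K10.f38348 IH) (Lpr_cf (K1.f38399 IH) (Lpe (K1.f35625 IH) (Lpe (K1.f38405 IH) (Lpe (K11.f38401 IH) (Lpe (K11.f38347 IH) (Lpe (f38410 IH) (Lpn (LP (LK LD1_c6 LD2_c9 LD3_c16))))))))))))
theorem f227513 : Led Lsl_gt (LP (LK LD1_c6 LD2_c9 LD3_c16)) = (LP (LK LD1_c8 LD2_c47 LD3_c32)) :=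
  Lgr Lrot5 (Lpe (f38412 IH) (Lpr_at (K11.f38377 IH) (Lpr_gf (f227486 IH) (Lpn (LP (LK LD1_c8 LD2_c47 LD3_c32))))))
theorem f37589 : Led Lsl_ct (LP (LK LD1_c8 LD2_c47 LD3_c32)) = (LP (LK LD1_c4 LD2_c24 LD3_c61)) :=
  Lre_c IH (LK LD1_c8 LD2_c47 LD3_c32) (LK LD1_c4 LD2_c24 LD3_c61) Lrfl Lrfl
theorem f37587 : Led Lsl_gf (LP (LK LD1_c4 LD2_c58 LD3_c10)) = (LP (LK LD1_c4 LD2_c24 LD3_c61)) :=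
  Lgr Lrot76 (Lpr_af (K1.f37570 IH) (Lpe (K1.f35468 IH) (Lpr_gt (f35897 IH) (Lpn (LP (LK LD1_c4 LD2_c24 LD3_c61))))))
theorem f35462 : Led Lsl_ct (LP (LK LD1_c2 LD2_c9 LD3_c57)) = (LP (LK LD1_c4 LD2_c25 LD3_c1)) :=
  Lre_c IH (LK LD1_c2 LD2_c9 LD3_c57) (LK LD1_c4 LD2_c25 LD3_c1) Lrfl Lrfl
theorem f35471 : Led Lsl_gt (LP (LK LD1_c4 LD2_c25 LD3_c0)) = (LP (LK LD1_c2 LD2_c9 LD3_c57)) :=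
  Lre_g IH (LK LD1_c4 LD2_c25 LD3_c0) (LK LD1_c2 LD2_c9 LD3_c57) Lrfl Lrfl
theorem f37557 : Led Lsl_ct (LP (LK LD1_c8 LD2_c47 LD3_c35)) = (LP (LK LD1_c4 LD2_c25 LD3_c0)) :=
  Lre_c IH (LK LD1_c8 LD2_c47 LD3_c35) (LK LD1_c4 LD2_c25 LD3_c0) Lrfl Lrfl
theorem f227520 : Led Lsl_gt (LP (LK LD1_c8 LD2_c48 LD3_c48)) = (LP (LK LD1_c8 LD2_c47 LD3_c35)) :=
  Lgr Lrot9 (Lpe (f38410 IH) (Lpr_gt (f227513 IH) (Lpr_ct (f37589 IH) (Lpe (f37587 IH) (Lpr_ct (K1.f37540 IH) (Lpe (K1.f35463 IH) (Lpe (f35462 IH) (Lpe (f35471 IH) (Lpe (f37557 IH) (Lpn (LP (LK LD1_c8 LD2_c47 LD3_c35))))))))))))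
theorem f38427 : Led Lsl_ft (LP (LK LD1_c8 LD2_c48 LD3_c48)) = (LP (LK LD1_c4 LD2_c25 LD3_c36)) :=
  Lre_f IH (LK LD1_c8 LD2_c48 LD3_c48) (LK LD1_c4 LD2_c25 LD3_c36) Lrfl Lrfl
theorem f38365 : Led Lsl_at (LP (LK LD1_c4 LD2_c25 LD3_c36)) = (LP (LK LD1_c6 LD2_c9 LD3_c16)) :=
  Lgr Lrot107 (Lpe (K1.f38057 IH) (Lpr_af (K1.f38352 IH) (Lpe (K11.f27260 IH) (Lpn (LP (LK LD1_c6 LD2_c9 LD3_c16))))))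
theorem f227522 : Led Lsl_gf (LP (LK LD1_c6 LD2_c9 LD3_c16)) = (LP (LK LD1_c8 LD2_c47 LD3_c35)) :=
  Lgr Lrot76 (Lpe (f38365 IH) (Lpe (f38427 IH) (Lpr_gt (f227520 IH) (Lpn (LP (LK LD1_c8 LD2_c47 LD3_c35))))))
theorem f38499 : Led Lsl_ct (LP (LK LD1_c4 LD2_c24 LD3_c58)) = (LP (LK LD1_c8 LD2_c47 LD3_c26)) :=
  Lre_c IH (LK LD1_c4 LD2_c24 LD3_c58) (LK LD1_c8 LD2_c47 LD3_c26) Lrfl Lrfl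
theorem f227524 : Led Lsl_df (LP (LK LD1_c8 LD2_c47 LD3_c26)) = (LP (LK LD1_c8 LD2_c47 LD3_c35)) :=
  Lgr Lrot84 (Lpe (f38499 IH) (Lpe (K10.f38498 IH) (Lpe (K10.f35642 IH) (Lpe (K1.f35457 IH) (Lpe (f35471 IH) (Lpe (f37557 IH) (Lpe (f227522 IH) (Lpr_dt (f38410 IH) (Lpr_gt (f227520 IH) (Lpn (LP (LK LD1_c8 LD2_c47 LD3_c35))))))))))))
theorem f227532 : Led Lsl_dt (LP (LK LD1_c8 LD2_c47 LD3_c26)) = (LP (LK LD1_c8 LD2_c47 LD3_c35)) :=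
  Lgr Lrot42 (Lpr_df (f227524 IH) (Lpn (LP (LK LD1_c8 LD2_c47 LD3_c35))))
theorem f27258 : Led Lsl_ct (LP (LK LD1_c1 LD2_c26 LD3_c19)) = (LP (LK LD1_c0 LD2_c39 LD3_c54)) :=
  Lre_c IH (LK LD1_c1 LD2_c26 LD3_c19) (LK LD1_c0 LD2_c39 LD3_c54) Lrfl Lrfl
theorem f182387 : Led Lsl_ct (LP (LK LD1_c4 LD2_c56 LD3_c37)) = (LP (LK LD1_c9 LD2_c44 LD3_c38)) :=
  Lre_c IH (LK LD1_c4 LD2_c56 LD3_c37) (LK LD1_c9 LD2_c44 LD3_c38) Lrfl Lrfl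
theorem f80392 : Led Lsl_dt (LP (LK LD1_c4 LD2_c24 LD3_c58)) = (LP (LK LD1_c2 LD2_c9 LD3_c55)) :=
  Lre_d IH (LK LD1_c4 LD2_c24 LD3_c58) (LK LD1_c2 LD2_c9 LD3_c55) Lrfl Lrfl
theorem f81211 : Led Lsl_ct (LP (LK LD1_c8 LD2_c47 LD3_c26)) = (LP (LK LD1_c4 LD2_c24 LD3_c58)) :=
  Lre_c IH (LK LD1_c8 LD2_c47 LD3_c26) (LK LD1_c4 LD2_c24 LD3_c58) Lrfl Lrfl
theorem f227480 : Led Lsl_gt (LP (LK LD1_c9 LD2_c44 LD3_c38)) = (LP (LK LD1_c8 LD2_c47 LD3_c26)) :=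
  Lgr Lrot150 (Lpe (f182387 IH) (Lpe (K11.f211167 IH) (Lpe (K11.f24560 IH) (Lpe (K10.f198264 IH) (Lpr_ct (f27258 IH) (Lpr_gt (f227473 IH) (Lpr_ct (f227465 IH) (Lpe (f80392 IH) (Lpe (f81211 IH) (Lpn (LP (LK LD1_c8 LD2_c47 LD3_c26))))))))))))
theorem f182418 : Led Lsl_ct (LP (LK LD1_c9 LD2_c44 LD3_c38)) = (LP (LK LD1_c4 LD2_c56 LD3_c37)) :=
  Lre_c IH (LK LD1_c9 LD2_c44 LD3_c38) (LK LD1_c4 LD2_c56 LD3_c37) Lrfl Lrfl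
theorem f198075 : Led Lsl_dt (LP (LK LD1_c4 LD2_c58 LD3_c11)) = (LP (LK LD1_c2 LD2_c26 LD3_c56)) :=
  Lre_d IH (LK LD1_c4 LD2_c58 LD3_c11) (LK LD1_c2 LD2_c26 LD3_c56) Lrfl Lrfl
theorem f227536 : Led Lsl_gt (LP (LK LD1_c4 LD2_c56 LD3_c37)) = (LP (LK LD1_c4 LD2_c58 LD3_c11)) :=
  Lgr Lrot94 (Lpe (f182418 IH) (Lpr_gt (f227480 IH) (Lpr_dt (f227532 IH) (Lpe (f227522 IH) (Lpr_dt (f38410 IH) (Lpe (K11.f38407 IH) (Lpe (K10.f38348 IH) (Lpe (K10.f198278 IH) (Lpe (f198075 IH) (Lpn (LP (LK LD1_c4 LD2_c58 LD3_c11))))))))))))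
theorem f100954 : Led Lsl_ef (LP (LK LD1_c3 LD2_c3 LD3_c21)) = (LP (LK LD1_c1 LD2_c55 LD3_c33)) :=
  Lgr Lrot28 (Lpr_ct (K9.f100659 IH) (Lpr_et (K9.f100949 IH) (Lpr_ct (K1.f38967 IH) (Lpn (LP (LK LD1_c1 LD2_c55 LD3_c33))))))
theorem f210961 : Led Lsl_gt (LP (LK LD1_c4 LD2_c22 LD3_c38)) = (LP (LK LD1_c2 LD2_c26 LD3_c5)) :=
  Lgr Lrot131 (Lpr_ef (f198341 IH) (Lpr_dt (f210959 IH) (Lpe (f198394 IH) (Lpe (f101314 IH) (Lpe (K10.f101312 IH) (Lpr_ef (f100954 IH) (Lpr_dt (K1.f38964 IH) (Lpr_gf (f38926 IH) (Lpr_df (f210326 IH) (Lpr_et (f210325 IH) (Lpn (LP (LK LD1_c2 LD2_c26 LD3_c5)))))))))))))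
theorem f227538 : Led Lsl_gt (LP (LK LD1_c1 LD2_c59 LD3_c32)) = (LP (LK LD1_c2 LD2_c26 LD3_c57)) :=
  Lgr Lrot49 (Lpr_df (K10.f193384 IH) (Lpe (K10.f173298 IH) (Lpe (f193394 IH) (Lpr_gt (f210961 IH) (Lpr_dt (K11.f182386 IH) (Lpr_gt (f227536 IH) (Lpr_dt (f198075 IH) (Lpe (K10.f82190 IH) (Lpe (K10.f56078 IH) (Lpn (LP (LK LD1_c2 LD2_c26 LD3_c57))))))))))))
theorem f193392 : Led Lsl_ct (LP (LK LD1_c4 LD2_c2 LD3_c15)) = (LP (LK LD1_c1 LD2_c59 LD3_c32)) :=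
  Lgr Lrot7 (Lpe (K10.f81210 IH) (Lpe (K10.f81208 IH) (Lpe (K10.f38498 IH) (Lpe (K10.f35642 IH) (Lpe (f35460 IH) (Lpr_gt (K10.f35446 IH) (Lpr_dt (K10.f193386 IH) (Lpr_gt (K10.f173298 IH) (Lpe (K10.f193384 IH) (Lpn (LP (LK LD1_c1 LD2_c59 LD3_c32))))))))))))
theorem f37670 : Led Lsl_ct (LP (LK LD1_c2 LD2_c26 LD3_c54)) = (LP (LK LD1_c4 LD2_c58 LD3_c9)) :=
  Lre_c IH (LK LD1_c2 LD2_c26 LD3_c54) (LK LD1_c4 LD2_c58 LD3_c9) Lrfl Lrfl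
theorem f37695 : Led Lsl_gt (LP (LK LD1_c4 LD2_c58 LD3_c9)) = (LP (LK LD1_c9 LD2_c47 LD3_c12)) :=
  Lre_g IH (LK LD1_c4 LD2_c58 LD3_c9) (LK LD1_c9 LD2_c47 LD3_c12) Lrfl Lrfl
theorem f227548 : Led Lsl_ct (LP (LK LD1_c9 LD2_c47 LD3_c12)) = (LP (LK LD1_c6 LD2_c9 LD3_c15)) :=
  Lgr Lrot110 (Lpe (f37695 IH) (Lpe (f37670 IH) (Lpe (K11.f37386 IH) (Lpr_df (K11.f211107 IH) (Lpr_gt (f211669 IH) (Lpr_ct (f193392 IH) (Lpr_gt (f227538 IH) (Lpr_ct (K10.f56077 IH) (Lpe (K10.f198079 IH) (Lpn (LP (LK LD1_c6 LD2_c9 LD3_c15))))))))))))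
theorem f227550 : Led Lsl_df (LP (LK LD1_c3 LD2_c4 LD3_c34)) = (LP (LK LD1_c4 LD2_c58 LD3_c8)) :=
  Lgr Lrot155 (Lpr_gt (f211669 IH) (Lpr_ct (f193392 IH) (Lpr_gt (f227538 IH) (Lpr_ct (K10.f56077 IH) (Lpe (K10.f198076 IH) (Lpe (f227548 IH) (Lpe (f37695 IH) (Lpe (f37670 IH) (Lpe (K11.f37386 IH) (Lpn (LP (LK LD1_c4 LD2_c58 LD3_c8))))))))))))
theorem f182394 : Led Lsl_ct (LP (LK LD1_c2 LD2_c26 LD3_c5)) = (LP (LK LD1_c1 LD2_c10 LD3_c14)) :=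
  Lre_c IH (LK LD1_c2 LD2_c26 LD3_c5) (LK LD1_c1 LD2_c10 LD3_c14) Lrfl Lrfl
theorem f38354 : Led Lsl_gt (LP (LK LD1_c2 LD2_c10 LD3_c8)) = (LP (LK LD1_c4 LD2_c25 LD3_c34)) :=
  Lre_g IH (LK LD1_c2 LD2_c10 LD3_c8) (LK LD1_c4 LD2_c25 LD3_c34) Lrfl Lrfl
theorem f38355 : Led Lsl_gt (LP (LK LD1_c4 LD2_c25 LD3_c34)) = (LP (LK LD1_c6 LD2_c9 LD3_c17)) :=
  Lgr Lrot46 (Lpe (f38354 IH) (Lpr_ft (K1.f38351 IH) (Lpr_at (K1.f38339 IH) (Lpn (LP (LK LD1_c6 LD2_c9 LD3_c17))))))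
theorem f227335 : Led Lsl_dt (LP (LK LD1_c4 LD2_c22 LD3_c38)) = (LP (LK LD1_c4 LD2_c25 LD3_c34)) :=
  Lgr Lrot57 (Lpr_gf (f227332 IH) (Lpe (f211047 IH) (Lpr_gt (f211581 IH) (Lpr_dt (f182407 IH) (Lpr_gt (K11.f35655 IH) (Lpe (K1.f27249 IH) (Lpe (K1.f27253 IH) (Lpe (K1.f27254 IH) (Lpe (f38355 IH) (Lpn (LP (LK LD1_c4 LD2_c25 LD3_c34))))))))))))
theorem f38392 : Led Lsl_gt (LP (LK LD1_c8 LD2_c48 LD3_c45)) = (LP (LK LD1_c4 LD2_c25 LD3_c36)) :=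
  Lre_g IH (LK LD1_c8 LD2_c48 LD3_c45) (LK LD1_c4 LD2_c25 LD3_c36) Lrfl Lrfl
theorem f27266 : Led Lsl_ft (LP (LK LD1_c3 LD2_c0 LD3_c60)) = (LP (LK LD1_c6 LD2_c9 LD3_c17)) :=
  Lre_f IH (LK LD1_c3 LD2_c0 LD3_c60) (LK LD1_c6 LD2_c9 LD3_c17) Lrfl Lrfl
theorem f38384 : Led Lsl_ft (LP (LK LD1_c8 LD2_c48 LD3_c47)) = (LP (LK LD1_c6 LD2_c9 LD3_c16)) :=
  Lgr Lrot4 (Lpr_cf (K1.f38375 IH) (Lpe (f27266 IH) (Lpe (K11.f27260 IH) (Lpn (LP (LK LD1_c6 LD2_c9 LD3_c16))))))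
theorem f38441 : Led Lsl_gf (LP (LK LD1_c8 LD2_c48 LD3_c45)) = (LP (LK LD1_c8 LD2_c48 LD3_c47)) :=
  Lgr Lrot47 (Lpr_gt (f38392 IH) (Lpr_af (K11.f38419 IH) (Lpe (f38384 IH) (Lpn (LP (LK LD1_c8 LD2_c48 LD3_c47))))))
theorem f227592 : Led Lsl_ct (LP (LK LD1_c8 LD2_c48 LD3_c45)) = (LP (LK LD1_c4 LD2_c58 LD3_c8)) :=
  Lgr Lrot110 (Lpr_gf (f38441 IH) (Lpr_cf (K1.f38375 IH) (Lpe (f38355 IH) (Lpe (f227335 IH) (Lpr_gt (f210961 IH) (Lpr_ct (f182394 IH) (Lpe (f211667 IH) (Lpr_ct (f211035 IH) (Lpr_df (f227550 IH) (Lpn (LP (LK LD1_c4 LD2_c58 LD3_c8))))))))))))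
theorem f227601 : Led Lsl_dt (LP (LK LD1_c4 LD2_c25 LD3_c34)) = (LP (LK LD1_c4 LD2_c22 LD3_c38)) :=
  Lgr Lrot6 (Lpr_gt (f38355 IH) (Lpe (K1.f38375 IH) (Lpe (f38441 IH) (Lpr_ct (f227592 IH) (Lpr_df (K11.f211107 IH) (Lpe (f211035 IH) (Lpr_gf (f211667 IH) (Lpe (f182394 IH) (Lpe (f210961 IH) (Lpn (LP (LK LD1_c4 LD2_c22 LD3_c38))))))))))))
theorem f193389 : Led Lsl_ct (LP (LK LD1_c2 LD2_c8 LD3_c45)) = (LP (LK LD1_c4 LD2_c22 LD3_c38)) :=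
  Lre_c IH (LK LD1_c2 LD2_c8 LD3_c45) (LK LD1_c4 LD2_c22 LD3_c38) Lrfl Lrfl
theorem f35472 : Led Lsl_ct (LP (LK LD1_c2 LD2_c9 LD3_c60)) = (LP (LK LD1_c1 LD2_c2 LD3_c4)) :=
  Lre_c IH (LK LD1_c2 LD2_c9 LD3_c60) (LK LD1_c1 LD2_c2 LD3_c4) Lrfl Lrfl
theorem f227609 : Led Lsl_gf (LP (LK LD1_c1 LD2_c2 LD3_c10)) = (LP (LK LD1_c2 LD2_c9 LD3_c60)) :=
  Lgr Lrot144 (Lpr_dt (K1.f38034 IH) (Lpr_gt (f38354 IH) (Lpr_dt (f227601 IH) (Lpe (f193389 IH) (Lpe (K10.f193386 IH) (Lpe (K10.f35446 IH) (Lpe (K1.f35454 IH) (Lpe (f35469 IH) (Lpe (f35472 IH) (Lpn (LP (LK LD1_c2 LD2_c9 LD3_c60))))))))))))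
theorem f82191 : Led Lsl_at (LP (LK LD1_c1 LD2_c4 LD3_c48)) = (LP (LK LD1_c0 LD2_c38 LD3_c35)) :=
  Lgr Lrot107 (Lpr_cf (K10.f71477 IH) (Lpe (K1.f37713 IH) (Lpr_cf (K2.f82186 IH) (Lpn (LP (LK LD1_c0 LD2_c38 LD3_c35))))))
theorem f193808 : Led Lsl_gf (LP (LK LD1_c0 LD2_c38 LD3_c35)) = (LP (LK LD1_c1 LD2_c4 LD3_c30)) :=
  Lgr Lrot76 (Lpe (f82191 IH) (Lpe (K2.f71292 IH) (Lpr_gt (K11.f193806 IH) (Lpn (LP (LK LD1_c1 LD2_c4 LD3_c30))))))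
theorem f35470 : Led Lsl_ct (LP (LK LD1_c1 LD2_c2 LD3_c4)) = (LP (LK LD1_c2 LD2_c9 LD3_c60)) :=
  Lre_c IH (LK LD1_c1 LD2_c2 LD3_c4) (LK LD1_c2 LD2_c9 LD3_c60) Lrfl Lrfl
theorem f227663 : Led Lsl_gt (LP (LK LD1_c1 LD2_c10 LD3_c45)) = (LP (LK LD1_c1 LD2_c2 LD3_c4)) :=
  Lgr Lrot82 (Lpe (K10.f37530 IH) (Lpe (K10.f71473 IH) (Lpr_gf (f193808 IH) (Lpe (f20325 IH) (Lpe (f210967 IH) (Lpe (K10.f35446 IH) (Lpe (K1.f35630 IH) (Lpr_ct (K1.f38382 IH) (Lpr_gf (f227609 IH) (Lpe (f35470 IH) (Lpn (LP (LK LD1_c1 LD2_c2 LD3_c4)))))))))))))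
theorem f39258 : Led Lsl_ct (LP (LK LD1_c0 LD2_c12 LD3_c27)) = (LP (LK LD1_c0 LD2_c28 LD3_c2)) :=
  Lre_c IH (LK LD1_c0 LD2_c12 LD3_c27) (LK LD1_c0 LD2_c28 LD3_c2) Lrfl Lrfl
theorem f201343 : Led Lsl_gf (LP (LK LD1_c0 LD2_c36 LD3_c13)) = (LP (LK LD1_c0 LD2_c54 LD3_c26)) :=
  Lgr Lrot147 (Lpr_ct (K11.f164962 IH) (Lpr_gt (K11.f201326 IH) (Lpr_ct (f173351 IH) (Lpe (f6831 IH) (Lpe (K10.f173349 IH) (Lpe (K11.f42877 IH) (Lpe (f39258 IH) (Lpr_gf (K10.f43091 IH) (Lpe (K10.f28531 IH) (Lpn (LP (LK LD1_c0 LD2_c54 LD3_c26))))))))))))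
theorem f28540 : Led Lsl_df (LP (LK LD1_c2 LD2_c4 LD3_c4)) = (LP (LK LD1_c1 LD2_c55 LD3_c25)) :=
  Lgr Lrot38 (Lpr_dt (K10.f28533 IH) (Lpn (LP (LK LD1_c1 LD2_c55 LD3_c25))))
theorem f38371 : Led Lsl_gf (LP (LK LD1_c4 LD2_c25 LD3_c35)) = (LP (LK LD1_c6 LD2_c9 LD3_c17)) :=
  Lgr Lrot47 (Lpr_gt (f38035 IH) (Lpr_af (K1.f38352 IH) (Lpe (K1.f27257 IH) (Lpn (LP (LK LD1_c6 LD2_c9 LD3_c17))))))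
theorem f38048 : Led Lsl_dt (LP (LK LD1_c4 LD2_c25 LD3_c35)) = (LP (LK LD1_c3 LD2_c4 LD3_c25)) :=
  Lgr Lrot42 (Lpr_df (f38039 IH) (Lpn (LP (LK LD1_c3 LD2_c4 LD3_c25))))
theorem f227669 : Led Lsl_df (LP (LK LD1_c1 LD2_c28 LD3_c50)) = (LP (LK LD1_c1 LD2_c2 LD3_c4)) :=
  Lgr Lrot84 (Lpe (f210314 IH) (Lpe (f38048 IH) (Lpr_gf (f38371 IH) (Lpe (K1.f27252 IH) (Lpe (f227392 IH) (Lpe (f35473 IH) (Lpr_gt (f210971 IH) (Lpe (K1.f37525 IH) (Lpr_gt (f227663 IH) (Lpn (LP (LK LD1_c1 LD2_c2 LD3_c4))))))))))))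
theorem f227675 : Led Lsl_gf (LP (LK LD1_c2 LD2_c4 LD3_c4)) = (LP (LK LD1_c1 LD2_c28 LD3_c50)) :=
  Lgr Lrot134 (Lpr_df (f28540 IH) (Lpr_et (K10.f28532 IH) (Lpe (f201343 IH) (Lpr_ef (K11.f164725 IH) (Lpr_dt (K11.f31649 IH) (Lpr_gt (K11.f192531 IH) (Lpe (K0.f28485 IH) (Lpr_et (K1.f37515 IH) (Lpr_gt (f227663 IH) (Lpe (f227669 IH) (Lpn (LP (LK LD1_c1 LD2_c28 LD3_c50)))))))))))))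
theorem f201307 : Led Lsl_dt (LP (LK LD1_c0 LD2_c36 LD3_c13)) = (LP (LK LD1_c0 LD2_c27 LD3_c4)) :=
  Lgr Lrot77 (Lpr_ef (K11.f164725 IH) (Lpe (K11.f31646 IH) (Lpr_ef (K11.f201303 IH) (Lpe (K11.f201062 IH) (Lpe (K11.f28524 IH) (Lpn (LP (LK LD1_c0 LD2_c27 LD3_c4))))))))
theorem f227277 : Led Lsl_df (LP (LK LD1_c0 LD2_c59 LD3_c26)) = (LP (LK LD1_c0 LD2_c28 LD3_c9)) :=
  Lgr Lrot38 (Lpr_dt (f227214 IH) (Lpn (LP (LK LD1_c0 LD2_c28 LD3_c9))))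
theorem f227677 : Led Lsl_ef (LP (LK LD1_c2 LD2_c8 LD3_c55)) = (LP (LK LD1_c1 LD2_c2 LD3_c4)) :=
  Lgr Lrot17 (Lpe (K10.f80971 IH) (Lpe (K10.f80964 IH) (Lpe (f227277 IH) (Lpe (f201263 IH) (Lpe (f201307 IH) (Lpr_gf (f201343 IH) (Lpe (K10.f28532 IH) (Lpe (f28540 IH) (Lpr_gf (f227675 IH) (Lpr_df (f227669 IH) (Lpn (LP (LK LD1_c1 LD2_c2 LD3_c4)))))))))))))
theorem f227681 : Led Lsl_et (LP (LK LD1_c2 LD2_c8 LD3_c55)) = (LP (LK LD1_c1 LD2_c2 LD3_c4)) :=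
  Lgr Lrot87 (Lpr_ef (f227677 IH) (Lpn (LP (LK LD1_c1 LD2_c2 LD3_c4))))
theorem f210463 : Led Lsl_dt (LP (LK LD1_c0 LD2_c41 LD3_c1)) = (LP (LK LD1_c1 LD2_c28 LD3_c49)) :=
  Lre_d IH (LK LD1_c0 LD2_c41 LD3_c1) (LK LD1_c1 LD2_c28 LD3_c49) Lrfl Lrfl
theorem f227688 : Led Lsl_et (LP (LK LD1_c1 LD2_c28 LD3_c49)) = (LP (LK LD1_c3 LD2_c5 LD3_c37)) :=
  Lre_e IH (LK LD1_c1 LD2_c28 LD3_c49) (LK LD1_c3 LD2_c5 LD3_c37) Lrfl Lrfl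
theorem f227689 : Led Lsl_df (LP (LK LD1_c2 LD2_c8 LD3_c55)) = (LP (LK LD1_c3 LD2_c5 LD3_c37)) :=
  Lgr Lrot70 (Lpr_et (f227681 IH) (Lpe (f227669 IH) (Lpr_et (f210313 IH) (Lpr_dt (f210463 IH) (Lpr_et (f227688 IH) (Lpn (LP (LK LD1_c3 LD2_c5 LD3_c37))))))))
theorem f227692 : Led Lsl_dt (LP (LK LD1_c2 LD2_c8 LD3_c55)) = (LP (LK LD1_c3 LD2_c5 LD3_c37)) :=
  Lgr Lrot42 (Lpr_df (f227689 IH) (Lpn (LP (LK LD1_c3 LD2_c5 LD3_c37))))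
theorem f227694 : Led Lsl_et (LP (LK LD1_c3 LD2_c5 LD3_c37)) = (LP (LK LD1_c1 LD2_c28 LD3_c49)) :=
  Lre_e IH (LK LD1_c3 LD2_c5 LD3_c37) (LK LD1_c1 LD2_c28 LD3_c49) Lrfl Lrfl
theorem f210312 : Led Lsl_dt (LP (LK LD1_c1 LD2_c28 LD3_c49)) = (LP (LK LD1_c0 LD2_c41 LD3_c1)) :=
  Lre_d IH (LK LD1_c1 LD2_c28 LD3_c49) (LK LD1_c0 LD2_c41 LD3_c1) Lrfl Lrfl
theorem f210320 : Led Lsl_et (LP (LK LD1_c0 LD2_c41 LD3_c1)) = (LP (LK LD1_c1 LD2_c28 LD3_c50)) :=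
  Lre_e IH (LK LD1_c0 LD2_c41 LD3_c1) (LK LD1_c1 LD2_c28 LD3_c50) Lrfl Lrfl
theorem f227699 : Led Lsl_df (LP (LK LD1_c1 LD2_c2 LD3_c4)) = (LP (LK LD1_c1 LD2_c28 LD3_c50)) :=
  Lgr Lrot70 (Lpe (f227677 IH) (Lpr_dt (f227692 IH) (Lpr_et (f227694 IH) (Lpr_dt (f210312 IH) (Lpr_et (f210320 IH) (Lpn (LP (LK LD1_c1 LD2_c28 LD3_c50))))))))
theorem f204928 : Led Lsl_et (LP (LK LD1_c2 LD2_c29 LD3_c53)) = (LP (LK LD1_c5 LD2_c0 LD3_c30)) :=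
  Lgr Lrot158 (Lpr_cf (f204921 IH) (Lpe (K10.f192651 IH) (Lpe (f26040 IH) (Lpn (LP (LK LD1_c5 LD2_c0 LD3_c30))))))
theorem f204941 : Led Lsl_ef (LP (LK LD1_c2 LD2_c29 LD3_c53)) = (LP (LK LD1_c5 LD2_c0 LD3_c30)) :=
  Lgr Lrot88 (Lpr_et (f204928 IH) (Lpn (LP (LK LD1_c5 LD2_c0 LD3_c30))))
theorem f36355 : Led Lsl_dt (LP (LK LD1_c2 LD2_c7 LD3_c45)) = (LP (LK LD1_c4 LD2_c20 LD3_c32)) :=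
  Lre_d IH (LK LD1_c2 LD2_c7 LD3_c45) (LK LD1_c4 LD2_c20 LD3_c32) Lrfl Lrfl
theorem f198010 : Led Lsl_df (LP (LK LD1_c4 LD2_c26 LD3_c59)) = (LP (LK LD1_c5 LD2_c0 LD3_c30)) :=
  Lgr Lrot38 (Lpr_dt (f198006 IH) (Lpn (LP (LK LD1_c5 LD2_c0 LD3_c30))))
theorem f204947 : Led Lsl_gt (LP (LK LD1_c4 LD2_c20 LD3_c32)) = (LP (LK LD1_c3 LD2_c57 LD3_c50)) :=
  Lgr Lrot139 (Lpe (f36355 IH) (Lpe (f204930 IH) (Lpr_ef (f204941 IH) (Lpe (f198010 IH) (Lpe (f38637 IH) (Lpe (K9.f35553 IH) (Lpr_et (K10.f35552 IH) (Lpr_gf (K1.f38619 IH) (Lpe (K11.f37036 IH) (Lpr_dt (K11.f36959 IH) (Lpn (LP (LK LD1_c3 LD2_c57 LD3_c50)))))))))))))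
theorem f204949 : Led Lsl_gf (LP (LK LD1_c4 LD2_c20 LD3_c32)) = (LP (LK LD1_c4 LD2_c25 LD3_c12)) :=
  Lgr Lrot47 (Lpr_gt (f204947 IH) (Lpe (K11.f201404 IH) (Lpe (K11.f201403 IH) (Lpn (LP (LK LD1_c4 LD2_c25 LD3_c12))))))
theorem f36351 : Led Lsl_dt (LP (LK LD1_c4 LD2_c20 LD3_c32)) = (LP (LK LD1_c2 LD2_c7 LD3_c45)) :=
  Lre_d IH (LK LD1_c4 LD2_c20 LD3_c32) (LK LD1_c2 LD2_c7 LD3_c45) Lrfl Lrfl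
theorem f164174 : Led Lsl_bt (LP (LK LD1_c0 LD2_c6 LD3_c51)) = (LP (LK LD1_c0 LD2_c14 LD3_c58)) :=
  Lre_b IH (LK LD1_c0 LD2_c6 LD3_c51) (LK LD1_c0 LD2_c14 LD3_c58) Lrfl Lrfl
theorem f32057 : Led Lsl_bt (LP (LK LD1_c0 LD2_c14 LD3_c26)) = (LP (LK LD1_c0 LD2_c27 LD3_c45)) :=
  Lgr Lrot127 (Lpr_bf (K0.f32022 IH) (Lpn (LP (LK LD1_c0 LD2_c27 LD3_c45))))
theorem f192327 : Led Lsl_gf (LP (LK LD1_c0 LD2_c27 LD3_c55)) = (LP (LK LD1_c1 LD2_c0 LD3_c58)) :=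
  Lgr Lrot76 (Lpr_af (K10.f31116 IH) (Lpe (K0.f31126 IH) (Lpr_gt (K10.f192264 IH) (Lpn (LP (LK LD1_c1 LD2_c0 LD3_c58))))))
theorem f201320 : Led Lsl_gt (LP (LK LD1_c0 LD2_c27 LD3_c45)) = (LP (LK LD1_c0 LD2_c27 LD3_c48)) :=
  Lgr Lrot82 (Lpe (f32057 IH) (Lpe (K1.f32099 IH) (Lpe (K9.f166410 IH) (Lpe (K9.f3140 IH) (Lpr_bt (f164174 IH) (Lpr_gf (K11.f201311 IH) (Lpr_bf (K0.f28603 IH) (Lpr_ct (K0.f28702 IH) (Lpr_gf (f192327 IH) (Lpe (K10.f164134 IH) (Lpn (LP (LK LD1_c0 LD2_c27 LD3_c48)))))))))))))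
theorem f70836 : Led Lsl_dt (LP (LK LD1_c2 LD2_c10 LD3_c1)) = (LP (LK LD1_c4 LD2_c25 LD3_c12)) :=
  Lre_d IH (LK LD1_c2 LD2_c10 LD3_c1) (LK LD1_c4 LD2_c25 LD3_c12) Lrfl Lrfl
theorem f204981 : Led Lsl_gf (LP (LK LD1_c1 LD2_c0 LD3_c53)) = (LP (LK LD1_c0 LD2_c33 LD3_c29)) :=
  Lgr Lrot144 (Lpr_dt (K0.f28485 IH) (Lpr_gt (f201320 IH) (Lpr_dt (f36339 IH) (Lpe (f36336 IH) (Lpe (f36351 IH) (Lpr_gf (f204949 IH) (Lpe (f70836 IH) (Lpr_gf (K11.f201373 IH) (Lpe (K11.f3772 IH) (Lpn (LP (LK LD1_c0 LD2_c33 LD3_c29))))))))))))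
theorem f177133 : Led Lsl_et (LP (LK LD1_c1 LD2_c12 LD3_c20)) = (LP (LK LD1_c0 LD2_c33 LD3_c29)) :=
  Lre_e IH (LK LD1_c1 LD2_c12 LD3_c20) (LK LD1_c0 LD2_c33 LD3_c29) Lrfl Lrfl
theorem f166407 : Led Lsl_bt (LP (LK LD1_c0 LD2_c33 LD3_c31)) = (LP (LK LD1_c1 LD2_c12 LD3_c20)) :=
  Lre_b IH (LK LD1_c0 LD2_c33 LD3_c31) (LK LD1_c1 LD2_c12 LD3_c20) Lrfl Lrfl
theorem f146307 : Led Lsl_bt (LP (LK LD1_c0 LD2_c37 LD3_c52)) = (LP (LK LD1_c0 LD2_c16 LD3_c55)) :=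
  Lre_b IH (LK LD1_c0 LD2_c37 LD3_c52) (LK LD1_c0 LD2_c16 LD3_c55) Lrfl Lrfl
theorem f177112 : Led Lsl_dt (LP (LK LD1_c1 LD2_c12 LD3_c20)) = (LP (LK LD1_c0 LD2_c37 LD3_c52)) :=
  Lgr Lrot79 (Lpe (f166407 IH) (Lpr_df (K11.f177107 IH) (Lpe (f146307 IH) (Lpn (LP (LK LD1_c0 LD2_c37 LD3_c52))))))
theorem f59395 : Led Lsl_ft (LP (LK LD1_c1 LD2_c1 LD3_c59)) = (LP (LK LD1_c0 LD2_c28 LD3_c16)) :=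
  Lre_f IH (LK LD1_c1 LD2_c1 LD3_c59) (LK LD1_c0 LD2_c28 LD3_c16) Lrfl Lrfl
theorem f68663 : Led Lsl_bt (LP (LK LD1_c0 LD2_c16 LD3_c55)) = (LP (LK LD1_c0 LD2_c37 LD3_c52)) :=
  Lre_b IH (LK LD1_c0 LD2_c16 LD3_c55) (LK LD1_c0 LD2_c37 LD3_c52) Lrfl Lrfl
theorem f25922 : Led Lsl_bt (LP (LK LD1_c0 LD2_c8 LD3_c29)) = (LP (LK LD1_c0 LD2_c18 LD3_c48)) :=
  Lre_b IH (LK LD1_c0 LD2_c8 LD3_c29) (LK LD1_c0 LD2_c18 LD3_c48) Lrfl Lrfl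
theorem f205179 : Led Lsl_gt (LP (LK LD1_c0 LD2_c37 LD3_c52)) = (LP (LK LD1_c0 LD2_c18 LD3_c48)) :=
  Lgr Lrot164 (Lpe (f68663 IH) (Lpr_ct (K11.f68647 IH) (Lpr_gf (K11.f204831 IH) (Lpe (K11.f59035 IH) (Lpe (K11.f204373 IH) (Lpr_bf (K11.f205093 IH) (Lpr_ct (K11.f22122 IH) (Lpr_gf (K11.f169780 IH) (Lpe (K11.f25923 IH) (Lpr_bt (f25922 IH) (Lpn (LP (LK LD1_c0 LD2_c18 LD3_c48)))))))))))))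
theorem f205391 : Led Lsl_gt (LP (LK LD1_c1 LD2_c1 LD3_c59)) = (LP (LK LD1_c0 LD2_c37 LD3_c52)) :=
  Lgr Lrot5 (Lpr_ft (f59395 IH) (Lpr_at (K11.f205300 IH) (Lpe (f205179 IH) (Lpn (LP (LK LD1_c0 LD2_c37 LD3_c52))))))
theorem f210316 : Led Lsl_gt (LP (LK LD1_c0 LD2_c41 LD3_c1)) = (LP (LK LD1_c1 LD2_c28 LD3_c48)) :=
  Lre_g IH (LK LD1_c0 LD2_c41 LD3_c1) (LK LD1_c1 LD2_c28 LD3_c48) Lrfl Lrfl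
theorem f227706 : Led Lsl_df (LP (LK LD1_c1 LD2_c1 LD3_c59)) = (LP (LK LD1_c1 LD2_c28 LD3_c48)) :=
  Lgr Lrot135 (Lpr_gt (f205391 IH) (Lpe (f177112 IH) (Lpr_et (f177133 IH) (Lpe (f204981 IH) (Lpr_ef (K1.f37507 IH) (Lpe (K1.f37525 IH) (Lpr_gt (f227663 IH) (Lpr_df (f227699 IH) (Lpr_et (f210313 IH) (Lpr_gt (f210316 IH) (Lpn (LP (LK LD1_c1 LD2_c28 LD3_c48)))))))))))))
theorem f36328 : Led Lsl_gt (LP (LK LD1_c0 LD2_c18 LD3_c48)) = (LP (LK LD1_c0 LD2_c42 LD3_c4)) :=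
  Lre_g IH (LK LD1_c0 LD2_c18 LD3_c48) (LK LD1_c0 LD2_c42 LD3_c4) Lrfl Lrfl
theorem f36333 : Led Lsl_ef (LP (LK LD1_c0 LD2_c42 LD3_c4)) = (LP (LK LD1_c1 LD2_c0 LD3_c59)) :=
  Lgr Lrot17 (Lpe (f36328 IH) (Lpe (K1.f36305 IH) (Lpr_dt (K1.f36292 IH) (Lpr_gf (K1.f36314 IH) (Lpe (K1.f16652 IH) (Lpr_gf (K1.f35541 IH) (Lpe (K11.f35584 IH) (Lpr_dt (K0.f27888 IH) (Lpe (K10.f28619 IH) (Lpe (f36223 IH) (Lpn (LP (LK LD1_c1 LD2_c0 LD3_c59)))))))))))))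
theorem f80650 : Led Lsl_bt (LP (LK LD1_c1 LD2_c57 LD3_c5)) = (LP (LK LD1_c1 LD2_c1 LD3_c59)) :=
  Lgr Lrot35 (Lpe (K11.f80649 IH) (Lpr_bf (K4.f80545 IH) (Lpe (f59395 IH) (Lpn (LP (LK LD1_c1 LD2_c1 LD3_c59))))))
theorem f80652 : Led Lsl_bf (LP (LK LD1_c1 LD2_c57 LD3_c5)) = (LP (LK LD1_c1 LD2_c1 LD3_c59)) :=
  Lgr Lrot24 (Lpr_bt (f80650 IH) (Lpn (LP (LK LD1_c1 LD2_c1 LD3_c59))))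
theorem f204367 : Led Lsl_af (LP (LK LD1_c0 LD2_c18 LD3_c53)) = (LP (LK LD1_c0 LD2_c30 LD3_c29)) :=
  Lgr Lrot0 (Lpr_at (K11.f204365 IH) (Lpn (LP (LK LD1_c0 LD2_c30 LD3_c29))))
theorem f205294 : Led Lsl_af (LP (LK LD1_c1 LD2_c1 LD3_c59)) = (LP (LK LD1_c0 LD2_c42 LD3_c5)) :=
  Lgr Lrot36 (Lpe (f80652 IH) (Lpr_at (K11.f205291 IH) (Lpr_bt (K11.f59047 IH) (Lpe (f204367 IH) (Lpr_bt (K1.f25973 IH) (Lpn (LP (LK LD1_c0 LD2_c42 LD3_c5))))))))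
theorem f36436 : Led Lsl_ft (LP (LK LD1_c0 LD2_c18 LD3_c48)) = (LP (LK LD1_c0 LD2_c42 LD3_c5)) :=
  Lre_f IH (LK LD1_c0 LD2_c18 LD3_c48) (LK LD1_c0 LD2_c42 LD3_c5) Lrfl Lrfl
theorem f210867 : Led Lsl_gf (LP (LK LD1_c1 LD2_c1 LD3_c59)) = (LP (LK LD1_c0 LD2_c42 LD3_c4)) :=
  Lgr Lrot76 (Lpr_af (f205294 IH) (Lpe (f36436 IH) (Lpr_gt (f36328 IH) (Lpn (LP (LK LD1_c0 LD2_c42 LD3_c4))))))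
theorem f227716 : Led Lsl_ef (LP (LK LD1_c1 LD2_c1 LD3_c59)) = (LP (LK LD1_c1 LD2_c28 LD3_c48)) :=
  Lgr Lrot17 (Lpr_gf (f210867 IH) (Lpr_ef (f36333 IH) (Lpr_dt (f36223 IH) (Lpe (f201320 IH) (Lpe (K0.f28485 IH) (Lpr_gf (f204981 IH) (Lpe (f177133 IH) (Lpr_dt (f177112 IH) (Lpe (f205391 IH) (Lpr_df (f227706 IH) (Lpn (LP (LK LD1_c1 LD2_c28 LD3_c48)))))))))))))
theorem f227720 : Led Lsl_et (LP (LK LD1_c1 LD2_c1 LD3_c59)) = (LP (LK LD1_c1 LD2_c28 LD3_c48)) :=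
  Lgr Lrot87 (Lpr_ef (f227716 IH) (Lpn (LP (LK LD1_c1 LD2_c28 LD3_c48))))
theorem f227712 : Led Lsl_dt (LP (LK LD1_c1 LD2_c1 LD3_c59)) = (LP (LK LD1_c1 LD2_c28 LD3_c48)) :=
  Lgr Lrot42 (Lpr_df (f227706 IH) (Lpn (LP (LK LD1_c1 LD2_c28 LD3_c48))))
theorem f227730 : Led Lsl_gt (LP (LK LD1_c1 LD2_c28 LD3_c48)) = (LP (LK LD1_c1 LD2_c1 LD3_c53)) :=
  Lgr Lrot112 (Lpe (f227712 IH) (Lpr_et (f227720 IH) (Lpe (f210316 IH) (Lpe (f210313 IH) (Lpe (f227699 IH) (Lpe (f227663 IH) (Lpr_df (K1.f37525 IH) (Lpe (f210971 IH) (Lpr_ef (K10.f36445 IH) (Lpr_dt (K10.f36444 IH) (Lpn (LP (LK LD1_c1 LD2_c1 LD3_c53)))))))))))))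
theorem f227710 : Led Lsl_bt (LP (LK LD1_c1 LD2_c27 LD3_c56)) = (LP (LK LD1_c1 LD2_c28 LD3_c48)) :=
  Lgr Lrot95 (Lpe (K11.f205283 IH) (Lpr_bf (f80652 IH) (Lpr_df (f227706 IH) (Lpn (LP (LK LD1_c1 LD2_c28 LD3_c48))))))
theorem f80822 : Led Lsl_ct (LP (LK LD1_c1 LD2_c27 LD3_c56)) = (LP (LK LD1_c3 LD2_c3 LD3_c47)) :=
  Lre_c IH (LK LD1_c1 LD2_c27 LD3_c56) (LK LD1_c3 LD2_c3 LD3_c47) Lrfl Lrfl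
theorem f38059 : Led Lsl_gt (LP (LK LD1_c1 LD2_c28 LD3_c12)) = (LP (LK LD1_c3 LD2_c3 LD3_c47)) :=
  Lre_g IH (LK LD1_c1 LD2_c28 LD3_c12) (LK LD1_c3 LD2_c3 LD3_c47) Lrfl Lrfl
theorem f38106 : Led Lsl_gt (LP (LK LD1_c1 LD2_c28 LD3_c13)) = (LP (LK LD1_c0 LD2_c40 LD3_c47)) :=
  Lre_g IH (LK LD1_c1 LD2_c28 LD3_c13) (LK LD1_c0 LD2_c40 LD3_c47) Lrfl Lrfl
theorem f227743 : Led Lsl_cf (LP (LK LD1_c1 LD2_c28 LD3_c13)) = (LP (LK LD1_c1 LD2_c1 LD3_c53)) :=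
  Lgr Lrot125 (Lpr_gt (f38106 IH) (Lpe (f59079 IH) (Lpr_bt (f59076 IH) (Lpr_gt (K10.f59000 IH) (Lpe (f210304 IH) (Lpe (f210305 IH) (Lpr_gt (f38059 IH) (Lpe (f80822 IH) (Lpr_bt (f227710 IH) (Lpr_gt (f227730 IH) (Lpn (LP (LK LD1_c1 LD2_c1 LD3_c53)))))))))))))
theorem f211028 : Led Lsl_gt (LP (LK LD1_c3 LD2_c3 LD3_c47)) = (LP (LK LD1_c1 LD2_c28 LD3_c13)) :=
  Lre_g IH (LK LD1_c3 LD2_c3 LD3_c47) (LK LD1_c1 LD2_c28 LD3_c13) Lrfl Lrfl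
theorem f59006 : Led Lsl_ct (LP (LK LD1_c0 LD2_c18 LD3_c22)) = (LP (LK LD1_c0 LD2_c41 LD3_c2)) :=
  Lre_c IH (LK LD1_c0 LD2_c18 LD3_c22) (LK LD1_c0 LD2_c41 LD3_c2) Lrfl Lrfl
theorem f210940 : Led Lsl_bt (LP (LK LD1_c1 LD2_c1 LD3_c53)) = (LP (LK LD1_c0 LD2_c29 LD3_c16)) :=
  Lgr Lrot127 (Lpr_bf (f205224 IH) (Lpn (LP (LK LD1_c0 LD2_c29 LD3_c16))))
theorem f227761 : Led Lsl_gf (LP (LK LD1_c0 LD2_c41 LD3_c2)) = (LP (LK LD1_c0 LD2_c29 LD3_c14)) :=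
  Lgr Lrot129 (Lpe (f59006 IH) (Lpr_bt (K11.f210308 IH) (Lpr_gt (f210316 IH) (Lpe (f227710 IH) (Lpr_ct (f80822 IH) (Lpr_gt (f211028 IH) (Lpr_cf (f227743 IH) (Lpr_bt (f210940 IH) (Lpr_gt (K9.f22427 IH) (Lpr_ct (K11.f20775 IH) (Lpn (LP (LK LD1_c0 LD2_c29 LD3_c14)))))))))))))
theorem f186332 : Led Lsl_dt (LP (LK LD1_c0 LD2_c41 LD3_c2)) = (LP (LK LD1_c1 LD2_c28 LD3_c52)) :=
  Lre_d IH (LK LD1_c0 LD2_c41 LD3_c2) (LK LD1_c1 LD2_c28 LD3_c52) Lrfl Lrfl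
theorem f20760 : Led Lsl_dt (LP (LK LD1_c2 LD2_c13 LD3_c4)) = (LP (LK LD1_c1 LD2_c3 LD3_c36)) :=
  Lre_d IH (LK LD1_c2 LD2_c13 LD3_c4) (LK LD1_c1 LD2_c3 LD3_c36) Lrfl Lrfl
theorem f227763 : Led Lsl_gt (LP (LK LD1_c1 LD2_c28 LD3_c52)) = (LP (LK LD1_c2 LD2_c13 LD3_c4)) :=
  Lgr Lrot49 (Lpe (f186332 IH) (Lpr_gf (f227761 IH) (Lpe (K11.f20775 IH) (Lpr_gt (K9.f20769 IH) (Lpr_dt (K9.f20770 IH) (Lpr_gt (K9.f20771 IH) (Lpe (K9.f20761 IH) (Lpe (K10.f20759 IH) (Lpe (f20760 IH) (Lpn (LP (LK LD1_c2 LD2_c13 LD3_c4))))))))))))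
theorem f227769 : Led Lsl_et (LP (LK LD1_c0 LD2_c41 LD3_c2)) = (LP (LK LD1_c1 LD2_c28 LD3_c53)) :=
  Lre_e IH (LK LD1_c0 LD2_c41 LD3_c2) (LK LD1_c1 LD2_c28 LD3_c53) Lrfl Lrfl
theorem f20805 : Led Lsl_dt (LP (LK LD1_c1 LD2_c3 LD3_c36)) = (LP (LK LD1_c2 LD2_c13 LD3_c4)) :=
  Lre_d IH (LK LD1_c1 LD2_c3 LD3_c36) (LK LD1_c2 LD2_c13 LD3_c4) Lrfl Lrfl
theorem f174898 : Led Lsl_et (LP (LK LD1_c1 LD2_c3 LD3_c36)) = (LP (LK LD1_c0 LD2_c29 LD3_c2)) :=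
  Lre_e IH (LK LD1_c1 LD2_c3 LD3_c36) (LK LD1_c0 LD2_c29 LD3_c2) Lrfl Lrfl
theorem f174925 : Led Lsl_et (LP (LK LD1_c0 LD2_c28 LD3_c51)) = (LP (LK LD1_c1 LD2_c3 LD3_c17)) :=
  Lre_e IH (LK LD1_c0 LD2_c28 LD3_c51) (LK LD1_c1 LD2_c3 LD3_c17) Lrfl Lrfl
theorem f227770 : Led Lsl_gf (LP (LK LD1_c1 LD2_c28 LD3_c53)) = (LP (LK LD1_c1 LD2_c3 LD3_c17)) :=
  Lgr Lrot141 (Lpe (f227769 IH) (Lpr_dt (f186332 IH) (Lpr_gt (f227763 IH) (Lpe (f20805 IH) (Lpr_et (f174898 IH) (Lpe (K9.f174886 IH) (Lpr_dt (K1.f40991 IH) (Lpr_gt (f174913 IH) (Lpe (f174924 IH) (Lpr_et (f174925 IH) (Lpn (LP (LK LD1_c1 LD2_c3 LD3_c17)))))))))))))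
theorem f186469 : Led Lsl_ct (LP (LK LD1_c0 LD2_c41 LD3_c4)) = (LP (LK LD1_c1 LD2_c28 LD3_c53)) :=
  Lre_c IH (LK LD1_c0 LD2_c41 LD3_c4) (LK LD1_c1 LD2_c28 LD3_c53) Lrfl Lrfl
theorem f186480 : Led Lsl_bt (LP (LK LD1_c0 LD2_c41 LD3_c4)) = (LP (LK LD1_c1 LD2_c28 LD3_c50)) :=
  Lre_b IH (LK LD1_c0 LD2_c41 LD3_c4) (LK LD1_c1 LD2_c28 LD3_c50) Lrfl Lrfl
theorem f198333 : Led Lsl_bt (LP (LK LD1_c2 LD2_c8 LD3_c45)) = (LP (LK LD1_c1 LD2_c3 LD3_c19)) :=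
  Lgr Lrot127 (Lpr_bf (K11.f198331 IH) (Lpn (LP (LK LD1_c1 LD2_c3 LD3_c19))))
theorem f227772 : Led Lsl_bf (LP (LK LD1_c2 LD2_c4 LD3_c4)) = (LP (LK LD1_c1 LD2_c58 LD3_c5)) :=
  Lgr Lrot34 (Lpr_gf (f227675 IH) (Lpe (f186480 IH) (Lpr_ct (f186469 IH) (Lpr_gf (f227770 IH) (Lpe (f20717 IH) (Lpe (K9.f20729 IH) (Lpe (f198333 IH) (Lpr_ct (f193389 IH) (Lpr_gf (f227332 IH) (Lpe (f211047 IH) (Lpn (LP (LK LD1_c1 LD2_c58 LD3_c5)))))))))))))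
theorem f227780 : Led Lsl_gt (LP (LK LD1_c3 LD2_c4 LD3_c25)) = (LP (LK LD1_c4 LD2_c2 LD3_c11)) :=
  Lgr Lrot65 (Lpr_cf (f210317 IH) (Lpr_bt (f186474 IH) (Lpr_gf (K10.f186467 IH) (Lpe (f179953 IH) (Lpr_ct (K11.f182385 IH) (Lpe (f210961 IH) (Lpe (f193389 IH) (Lpe (f227309 IH) (Lpr_bf (f227772 IH) (Lpr_ct (f211047 IH) (Lpn (LP (LK LD1_c4 LD2_c2 LD3_c11)))))))))))))
theorem f38058 : Led Lsl_gt (LP (LK LD1_c4 LD2_c25 LD3_c36)) = (LP (LK LD1_c8 LD2_c48 LD3_c44)) :=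
  Lre_g IH (LK LD1_c4 LD2_c25 LD3_c36) (LK LD1_c8 LD2_c48 LD3_c44) Lrfl Lrfl
theorem f211048 : Led Lsl_ct (LP (LK LD1_c4 LD2_c2 LD3_c11)) = (LP (LK LD1_c1 LD2_c58 LD3_c5)) :=
  Lre_c IH (LK LD1_c4 LD2_c2 LD3_c11) (LK LD1_c1 LD2_c58 LD3_c5) Lrfl Lrfl
theorem f182406 : Led Lsl_ct (LP (LK LD1_c2 LD2_c26 LD3_c6)) = (LP (LK LD1_c4 LD2_c56 LD3_c38)) :=
  Lre_c IH (LK LD1_c2 LD2_c26 LD3_c6) (LK LD1_c4 LD2_c56 LD3_c38) Lrfl Lrfl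
theorem f182412 : Led Lsl_ct (LP (LK LD1_c4 LD2_c56 LD3_c38)) = (LP (LK LD1_c2 LD2_c26 LD3_c6)) :=
  Lre_c IH (LK LD1_c4 LD2_c56 LD3_c38) (LK LD1_c2 LD2_c26 LD3_c6) Lrfl Lrfl
theorem f37336 : Led Lsl_gt (LP (LK LD1_c2 LD2_c26 LD3_c54)) = (LP (LK LD1_c4 LD2_c58 LD3_c7)) :=
  Lre_g IH (LK LD1_c2 LD2_c26 LD3_c54) (LK LD1_c4 LD2_c58 LD3_c7) Lrfl Lrfl
theorem f211053 : Led Lsl_df (LP (LK LD1_c4 LD2_c56 LD3_c38)) = (LP (LK LD1_c4 LD2_c58 LD3_c7)) :=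
  Lgr Lrot174 (Lpr_ct (f182412 IH) (Lpr_df (f182396 IH) (Lpe (K11.f35622 IH) (Lpr_df (K1.f35620 IH) (Lpe (f211038 IH) (Lpr_ct (K11.f211043 IH) (Lpr_gt (K11.f37693 IH) (Lpr_dt (K2.f37335 IH) (Lpr_gt (f37336 IH) (Lpn (LP (LK LD1_c4 LD2_c58 LD3_c7))))))))))))
theorem f227784 : Led Lsl_ct (LP (LK LD1_c8 LD2_c48 LD3_c44)) = (LP (LK LD1_c4 LD2_c58 LD3_c7)) :=
  Lgr Lrot110 (Lpe (f38058 IH) (Lpe (K1.f38057 IH) (Lpe (f38035 IH) (Lpr_df (f38039 IH) (Lpr_gt (f227780 IH) (Lpr_ct (f211048 IH) (Lpr_gt (f211581 IH) (Lpr_ct (f182406 IH) (Lpr_df (f211053 IH) (Lpn (LP (LK LD1_c4 LD2_c58 LD3_c7))))))))))))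
theorem f35487 : Led Lsl_dt (LP (LK LD1_c4 LD2_c25 LD3_c2)) = (LP (LK LD1_c2 LD2_c9 LD3_c58)) :=
  Lre_d IH (LK LD1_c4 LD2_c25 LD3_c2) (LK LD1_c2 LD2_c9 LD3_c58) Lrfl Lrfl
theorem f37685 : Led Lsl_dt (LP (LK LD1_c4 LD2_c58 LD3_c9)) = (LP (LK LD1_c8 LD2_c47 LD3_c41)) :=
  Lgr Lrot173 (Lpe (f37670 IH) (Lpe (K2.f37335 IH) (Lpe (K11.f37684 IH) (Lpe (K10.f37534 IH) (Lpe (K1.f37683 IH) (Lpe (K1.f37682 IH) (Lpe (K1.f37547 IH) (Lpr_df (K1.f37671 IH) (Lpe (K1.f35485 IH) (Lpe (K1.f35484 IH) (Lpe (K1.f35483 IH) (Lpr_df (K1.f35466 IH) (Lpe (K1.f35486 IH) (Lpe (f35487 IH) (Lpe (K1.f35488 IH) (Lpn (LP (LK LD1_c8 LD2_c47 LD3_c41))))))))))))))))))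
theorem f227806 : Led Lsl_gf (LP (LK LD1_c4 LD2_c25 LD3_c2)) = (LP (LK LD1_c4 LD2_c58 LD3_c7)) :=
  Lgr Lrot104 (Lpr_ct (K1.f35485 IH) (Lpe (f37685 IH) (Lpe (f37670 IH) (Lpe (K11.f37386 IH) (Lpe (f227592 IH) (Lpr_gf (f38441 IH) (Lpe (K1.f38381 IH) (Lpr_gt (f38058 IH) (Lpr_ct (f227784 IH) (Lpn (LP (LK LD1_c4 LD2_c58 LD3_c7))))))))))))
theorem f227786 : Led Lsl_df (LP (LK LD1_c4 LD2_c58 LD3_c7)) = (LP (LK LD1_c4 LD2_c56 LD3_c38)) :=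
  Lgr Lrot162 (Lpe (f227784 IH) (Lpe (f38058 IH) (Lpe (K1.f38057 IH) (Lpe (f38035 IH) (Lpr_dt (f38048 IH) (Lpr_gt (f227780 IH) (Lpr_ct (f211048 IH) (Lpr_gt (f211581 IH) (Lpr_ct (f182406 IH) (Lpn (LP (LK LD1_c4 LD2_c56 LD3_c38))))))))))))
theorem f227812 : Led Lsl_gt (LP (LK LD1_c4 LD2_c2 LD3_c15)) = (LP (LK LD1_c4 LD2_c56 LD3_c38)) :=
  Lgr Lrot94 (Lpr_cf (K10.f193395 IH) (Lpr_gt (f227538 IH) (Lpr_dt (K10.f56078 IH) (Lpe (K11.f210618 IH) (Lpe (K1.f35466 IH) (Lpe (K1.f35486 IH) (Lpe (f35487 IH) (Lpr_gf (f227806 IH) (Lpr_df (f227786 IH) (Lpn (LP (LK LD1_c4 LD2_c56 LD3_c38))))))))))))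
theorem f227830 : Led Lsl_bf (LP (LK LD1_c2 LD2_c26 LD3_c6)) = (LP (LK LD1_c2 LD2_c26 LD3_c6)) :=
  Lgr Lrot156 (Lpr_gt (f179916 IH) (Lpe (f179894 IH) (Lpr_ct (f179896 IH) (Lpe (f179909 IH) (Lpe (f24552 IH) (Lpr_bt (K10.f24549 IH) (Lpr_gt (f198565 IH) (Lpe (K10.f193395 IH) (Lpr_gt (f227812 IH) (Lpe (f182406 IH) (Lpn (LP (LK LD1_c2 LD2_c26 LD3_c6)))))))))))))
theorem f227838 : Led Lsl_bt (LP (LK LD1_c3 LD2_c4 LD3_c38)) = (LP (LK LD1_c3 LD2_c4 LD3_c38)) :=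
  Lgr Lrot119 (Lpe (f182409 IH) (Lpr_bf (f227830 IH) (Lpr_ef (f182414 IH) (Lpn (LP (LK LD1_c3 LD2_c4 LD3_c38))))))
theorem f59149 : Led Lsl_dt (LP (LK LD1_c1 LD2_c28 LD3_c20)) = (LP (LK LD1_c3 LD2_c4 LD3_c38)) :=
  Lre_d IH (LK LD1_c1 LD2_c28 LD3_c20) (LK LD1_c3 LD2_c4 LD3_c38) Lrfl Lrfl
theorem f227842 : Led Lsl_bf (LP (LK LD1_c1 LD2_c28 LD3_c20)) = (LP (LK LD1_c1 LD2_c28 LD3_c20)) :=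
  Lgr Lrot93 (Lpr_dt (f59149 IH) (Lpr_bt (f227838 IH) (Lpr_dt (f69683 IH) (Lpn (LP (LK LD1_c1 LD2_c28 LD3_c20))))))
theorem f175818 : Led Lsl_ct (LP (LK LD1_c2 LD2_c28 LD3_c0)) = (LP (LK LD1_c5 LD2_c0 LD3_c33)) :=
  Lre_c IH (LK LD1_c2 LD2_c28 LD3_c0) (LK LD1_c5 LD2_c0 LD3_c33) Lrfl Lrfl
theorem f196244 : Led Lsl_ct (LP (LK LD1_c1 LD2_c28 LD3_c20)) = (LP (LK LD1_c3 LD2_c4 LD3_c37)) :=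
  Lre_c IH (LK LD1_c1 LD2_c28 LD3_c20) (LK LD1_c3 LD2_c4 LD3_c37) Lrfl Lrfl
theorem f227849 : Led Lsl_gt (LP (LK LD1_c5 LD2_c0 LD3_c33)) = (LP (LK LD1_c3 LD2_c4 LD3_c37)) :=
  Lgr Lrot65 (Lpe (f175818 IH) (Lpr_bt (K10.f175288 IH) (Lpe (K10.f185952 IH) (Lpe (f198073 IH) (Lpr_ct (K10.f101421 IH) (Lpr_gf (f198361 IH) (Lpe (f26041 IH) (Lpr_gf (f196238 IH) (Lpr_bf (f227842 IH) (Lpr_ct (f196244 IH) (Lpn (LP (LK LD1_c3 LD2_c4 LD3_c37)))))))))))))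
theorem f196243 : Led Lsl_ct (LP (LK LD1_c3 LD2_c4 LD3_c37)) = (LP (LK LD1_c1 LD2_c28 LD3_c20)) :=
  Lre_c IH (LK LD1_c3 LD2_c4 LD3_c37) (LK LD1_c1 LD2_c28 LD3_c20) Lrfl Lrfl
theorem f101044 : Led Lsl_ct (LP (LK LD1_c8 LD2_c51 LD3_c44)) = (LP (LK LD1_c4 LD2_c26 LD3_c59)) :=
  Lre_c IH (LK LD1_c8 LD2_c51 LD3_c44) (LK LD1_c4 LD2_c26 LD3_c59) Lrfl Lrfl
theorem f101061 : Led Lsl_gt (LP (LK LD1_c6 LD2_c13 LD3_c11)) = (LP (LK LD1_c4 LD2_c26 LD3_c60)) :=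
  Lgr Lrot5 (Lpr_ft (K9.f100972 IH) (Lpr_at (K9.f101040 IH) (Lpe (K10.f35554 IH) (Lpn (LP (LK LD1_c4 LD2_c26 LD3_c60))))))
theorem f101063 : Led Lsl_ct (LP (LK LD1_c4 LD2_c26 LD3_c60)) = (LP (LK LD1_c8 LD2_c51 LD3_c46)) :=
  Lre_c IH (LK LD1_c4 LD2_c26 LD3_c60) (LK LD1_c8 LD2_c51 LD3_c46) Lrfl Lrfl
theorem f198028 : Led Lsl_gt (LP (LK LD1_c8 LD2_c51 LD3_c46)) = (LP (LK LD1_c8 LD2_c2 LD3_c42)) :=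
  Lgr Lrot150 (Lpe (f101063 IH) (Lpe (f101061 IH) (Lpe (K9.f100971 IH) (Lpr_gt (K10.f101312 IH) (Lpr_ct (K10.f198003 IH) (Lpr_gt (K10.f29234 IH) (Lpr_ct (K1.f29224 IH) (Lpe (K1.f29222 IH) (Lpe (K1.f29223 IH) (Lpn (LP (LK LD1_c8 LD2_c2 LD3_c42))))))))))))
theorem f101046 : Led Lsl_ct (LP (LK LD1_c8 LD2_c51 LD3_c46)) = (LP (LK LD1_c4 LD2_c26 LD3_c60)) :=
  Lre_c IH (LK LD1_c8 LD2_c51 LD3_c46) (LK LD1_c4 LD2_c26 LD3_c60) Lrfl Lrfl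
theorem f192769 : Led Lsl_ct (LP (LK LD1_c4 LD2_c26 LD3_c55)) = (LP (LK LD1_c8 LD2_c51 LD3_c38)) :=
  Lre_c IH (LK LD1_c4 LD2_c26 LD3_c55) (LK LD1_c8 LD2_c51 LD3_c38) Lrfl Lrfl
theorem f36750 : Led Lsl_ft (LP (LK LD1_c12 LD2_c6 LD3_c7)) = (LP (LK LD1_c6 LD2_c13 LD3_c40)) :=
  Lre_f IH (LK LD1_c12 LD2_c6 LD3_c7) (LK LD1_c6 LD2_c13 LD3_c40) Lrfl Lrfl
theorem f198090 : Led Lsl_gf (LP (LK LD1_c8 LD2_c51 LD3_c46)) = (LP (LK LD1_c12 LD2_c6 LD3_c7)) :=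
  Lgr Lrot47 (Lpr_gt (f198028 IH) (Lpe (K1.f36860 IH) (Lpe (f36750 IH) (Lpn (LP (LK LD1_c12 LD2_c6 LD3_c7))))))
theorem f198092 : Led Lsl_df (LP (LK LD1_c8 LD2_c51 LD3_c38)) = (LP (LK LD1_c8 LD2_c51 LD3_c46)) :=
  Lgr Lrot84 (Lpe (f192769 IH) (Lpe (f101409 IH) (Lpe (K9.f101398 IH) (Lpe (K9.f101019 IH) (Lpe (K10.f35554 IH) (Lpe (f101046 IH) (Lpr_gt (f198028 IH) (Lpe (K1.f36742 IH) (Lpe (f198090 IH) (Lpn (LP (LK LD1_c8 LD2_c51 LD3_c46))))))))))))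
theorem f192773 : Led Lsl_ct (LP (LK LD1_c8 LD2_c51 LD3_c38)) = (LP (LK LD1_c4 LD2_c26 LD3_c55)) :=
  Lre_c IH (LK LD1_c8 LD2_c51 LD3_c38) (LK LD1_c4 LD2_c26 LD3_c55) Lrfl Lrfl
theorem f192726 : Led Lsl_ef (LP (LK LD1_c2 LD2_c10 LD3_c36)) = (LP (LK LD1_c1 LD2_c57 LD3_c37)) :=
  Lgr Lrot88 (Lpr_et (f192717 IH) (Lpn (LP (LK LD1_c1 LD2_c57 LD3_c37))))
theorem f192730 : Led Lsl_ct (LP (LK LD1_c2 LD2_c10 LD3_c36)) = (LP (LK LD1_c1 LD2_c11 LD3_c7)) :=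
  Lgr Lrot15 (Lpr_ef (f192726 IH) (Lpe (K10.f171535 IH) (Lpe (K10.f192660 IH) (Lpn (LP (LK LD1_c1 LD2_c11 LD3_c7))))))
theorem f101045 : Led Lsl_ct (LP (LK LD1_c4 LD2_c26 LD3_c59)) = (LP (LK LD1_c8 LD2_c51 LD3_c44)) :=
  Lre_c IH (LK LD1_c4 LD2_c26 LD3_c59) (LK LD1_c8 LD2_c51 LD3_c44) Lrfl Lrfl
theorem f37199 : Led Lsl_dt (LP (LK LD1_c1 LD2_c57 LD3_c16)) = (LP (LK LD1_c3 LD2_c3 LD3_c55)) :=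
  Lgr Lrot42 (Lpr_df (K10.f37196 IH) (Lpn (LP (LK LD1_c3 LD2_c3 LD3_c55))))
theorem f43028 : Led Lsl_dt (LP (LK LD1_c4 LD2_c26 LD3_c57)) = (LP (LK LD1_c2 LD2_c10 LD3_c37)) :=
  Lre_d IH (LK LD1_c4 LD2_c26 LD3_c57) (LK LD1_c2 LD2_c10 LD3_c37) Lrfl Lrfl
theorem f101315 : Led Lsl_ct (LP (LK LD1_c8 LD2_c51 LD3_c41)) = (LP (LK LD1_c4 LD2_c26 LD3_c57)) :=
  Lre_c IH (LK LD1_c8 LD2_c51 LD3_c41) (LK LD1_c4 LD2_c26 LD3_c57) Lrfl Lrfl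
theorem f198100 : Led Lsl_dt (LP (LK LD1_c8 LD2_c51 LD3_c44)) = (LP (LK LD1_c8 LD2_c51 LD3_c41)) :=
  Lgr Lrot173 (Lpe (f101045 IH) (Lpr_df (f198010 IH) (Lpe (f26041 IH) (Lpe (K10.f192653 IH) (Lpe (f192730 IH) (Lpe (f101401 IH) (Lpe (f192773 IH) (Lpr_df (f198092 IH) (Lpe (f101063 IH) (Lpr_df (K10.f197918 IH) (Lpe (f37203 IH) (Lpe (f37199 IH) (Lpe (K10.f198003 IH) (Lpe (f43028 IH) (Lpe (f101315 IH) (Lpn (LP (LK LD1_c8 LD2_c51 LD3_c41))))))))))))))))))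
theorem f101316 : Led Lsl_ct (LP (LK LD1_c4 LD2_c26 LD3_c57)) = (LP (LK LD1_c8 LD2_c51 LD3_c41)) :=
  Lre_c IH (LK LD1_c4 LD2_c26 LD3_c57) (LK LD1_c8 LD2_c51 LD3_c41) Lrfl Lrfl
theorem f196234 : Led Lsl_gt (LP (LK LD1_c8 LD2_c51 LD3_c44)) = (LP (LK LD1_c12 LD2_c6 LD3_c7)) :=
  Lgr Lrot150 (Lpe (f101045 IH) (Lpe (f38637 IH) (Lpe (K9.f35553 IH) (Lpr_gt (K9.f101398 IH) (Lpr_ct (f192730 IH) (Lpr_gt (K10.f196230 IH) (Lpr_ct (K1.f36721 IH) (Lpe (K1.f36724 IH) (Lpe (K1.f36735 IH) (Lpn (LP (LK LD1_c12 LD2_c6 LD3_c7))))))))))))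
theorem f36747 : Led Lsl_dt (LP (LK LD1_c12 LD2_c6 LD3_c7)) = (LP (LK LD1_c8 LD2_c2 LD3_c42)) :=
  Lgr Lrot173 (Lpe (K1.f36736 IH) (Lpe (K1.f36703 IH) (Lpe (K1.f36721 IH) (Lpe (K1.f36729 IH) (Lpe (K1.f36712 IH) (Lpe (K1.f36724 IH) (Lpe (K1.f36735 IH) (Lpr_df (K1.f36742 IH) (Lpe (K1.f29226 IH) (Lpe (K1.f29225 IH) (Lpe (K1.f29224 IH) (Lpe (K1.f29217 IH) (Lpe (K1.f29221 IH) (Lpe (K1.f29222 IH) (Lpe (K1.f29223 IH) (Lpn (LP (LK LD1_c8 LD2_c2 LD3_c42))))))))))))))))))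
theorem f198150 : Led Lsl_gf (LP (LK LD1_c8 LD2_c51 LD3_c44)) = (LP (LK LD1_c8 LD2_c2 LD3_c42)) :=
  Lgr Lrot143 (Lpr_dt (f198100 IH) (Lpe (f101316 IH) (Lpe (f101314 IH) (Lpe (K10.f101312 IH) (Lpe (K9.f100660 IH) (Lpr_gf (f101042 IH) (Lpe (f101044 IH) (Lpr_gt (f196234 IH) (Lpr_dt (f36747 IH) (Lpn (LP (LK LD1_c8 LD2_c2 LD3_c42))))))))))))
theorem f29235 : Led Lsl_gt (LP (LK LD1_c8 LD2_c2 LD3_c41)) = (LP (LK LD1_c4 LD2_c0 LD3_c58)) :=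
  Lre_g IH (LK LD1_c8 LD2_c2 LD3_c41) (LK LD1_c4 LD2_c0 LD3_c58) Lrfl Lrfl
theorem f227856 : Led Lsl_df (LP (LK LD1_c5 LD2_c0 LD3_c33)) = (LP (LK LD1_c8 LD2_c2 LD3_c41)) :=
  Lgr Lrot155 (Lpr_gt (f227849 IH) (Lpr_ct (f196243 IH) (Lpe (f196238 IH) (Lpr_ct (f26041 IH) (Lpe (f198010 IH) (Lpe (f101044 IH) (Lpr_gf (f198150 IH) (Lpe (K1.f29226 IH) (Lpe (f29235 IH) (Lpn (LP (LK LD1_c8 LD2_c2 LD3_c41))))))))))))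
theorem f175817 : Led Lsl_ct (LP (LK LD1_c5 LD2_c0 LD3_c33)) = (LP (LK LD1_c2 LD2_c28 LD3_c0)) :=
  Lre_c IH (LK LD1_c5 LD2_c0 LD3_c33) (LK LD1_c2 LD2_c28 LD3_c0) Lrfl Lrfl
theorem f9439 : Led Lsl_dt (LP (LK LD1_c1 LD2_c1 LD3_c47)) = (LP (LK LD1_c1 LD2_c1 LD3_c47)) :=
  Lgr Lrot79 (Lpe (K9.f9437 IH) (Lpr_df (K0.f9409 IH) (Lpe (K9.f9438 IH) (Lpn (LP (LK LD1_c1 LD2_c1 LD3_c47))))))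
theorem f9436 : Led Lsl_at (LP (LK LD1_c0 LD2_c29 LD3_c9)) = (LP (LK LD1_c0 LD2_c16 LD3_c35)) :=
  Lre_a IH (LK LD1_c0 LD2_c29 LD3_c9) (LK LD1_c0 LD2_c16 LD3_c35) Lrfl Lrfl
theorem f100670 : Led Lsl_af (LP (LK LD1_c1 LD2_c1 LD3_c47)) = (LP (LK LD1_c1 LD2_c27 LD3_c35)) :=
  Lgr Lrot36 (Lpr_bt (K9.f9438 IH) (Lpr_at (f9436 IH) (Lpr_bt (K9.f100668 IH) (Lpr_at (K9.f100650 IH) (Lpr_bt (K9.f100669 IH) (Lpn (LP (LK LD1_c1 LD2_c27 LD3_c35))))))))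
theorem f100958 : Led Lsl_ft (LP (LK LD1_c0 LD2_c40 LD3_c31)) = (LP (LK LD1_c1 LD2_c27 LD3_c35)) :=
  Lre_f IH (LK LD1_c0 LD2_c40 LD3_c31) (LK LD1_c1 LD2_c27 LD3_c35) Lrfl Lrfl
theorem f101488 : Led Lsl_gt (LP (LK LD1_c0 LD2_c40 LD3_c31)) = (LP (LK LD1_c1 LD2_c27 LD3_c34)) :=
  Lre_g IH (LK LD1_c0 LD2_c40 LD3_c31) (LK LD1_c1 LD2_c27 LD3_c34) Lrfl Lrfl
theorem f101489 : Led Lsl_gf (LP (LK LD1_c1 LD2_c1 LD3_c47)) = (LP (LK LD1_c1 LD2_c27 LD3_c34)) :=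
  Lgr Lrot76 (Lpr_af (f100670 IH) (Lpe (f100958 IH) (Lpr_gt (f101488 IH) (Lpn (LP (LK LD1_c1 LD2_c27 LD3_c34))))))
theorem f101492 : Led Lsl_ct (LP (LK LD1_c1 LD2_c27 LD3_c34)) = (LP (LK LD1_c3 LD2_c3 LD3_c22)) :=
  Lre_c IH (LK LD1_c1 LD2_c27 LD3_c34) (LK LD1_c3 LD2_c3 LD3_c22) Lrfl Lrfl
theorem f36779 : Led Lsl_gt (LP (LK LD1_c6 LD2_c13 LD3_c41)) = (LP (LK LD1_c8 LD2_c2 LD3_c41)) :=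
  Lgr Lrot5 (Lpr_ft (K1.f36740 IH) (Lpr_at (K1.f36761 IH) (Lpe (f29235 IH) (Lpn (LP (LK LD1_c8 LD2_c2 LD3_c41))))))
theorem f227879 : Led Lsl_gt (LP (LK LD1_c3 LD2_c3 LD3_c22)) = (LP (LK LD1_c3 LD2_c3 LD3_c40)) :=
  Lgr Lrot94 (Lpe (f101492 IH) (Lpe (f101489 IH) (Lpr_dt (f9439 IH) (Lpr_gt (K9.f175812 IH) (Lpr_dt (K10.f175816 IH) (Lpe (f175817 IH) (Lpr_df (f227856 IH) (Lpe (f36779 IH) (Lpe (K1.f36703 IH) (Lpn (LP (LK LD1_c3 LD2_c3 LD3_c40))))))))))))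
theorem f227891 : Led Lsl_gf (LP (LK LD1_c3 LD2_c3 LD3_c22)) = (LP (LK LD1_c1 LD2_c57 LD3_c15)) :=
  Lgr Lrot47 (Lpr_gt (f227879 IH) (Lpr_af (K1.f36719 IH) (Lpe (K1.f36741 IH) (Lpn (LP (LK LD1_c1 LD2_c57 LD3_c15))))))
theorem f27879 : Led Lsl_dt (LP (LK LD1_c0 LD2_c59 LD3_c2)) = (LP (LK LD1_c0 LD2_c26 LD3_c53)) :=
  Lre_d IH (LK LD1_c0 LD2_c59 LD3_c2) (LK LD1_c0 LD2_c26 LD3_c53) Lrfl Lrfl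
theorem f175000 : Led Lsl_ef (LP (LK LD1_c1 LD2_c27 LD3_c34)) = (LP (LK LD1_c0 LD2_c59 LD3_c2)) :=
  Lgr Lrot114 (Lpe (f101489 IH) (Lpe (K9.f39239 IH) (Lpr_dt (K10.f39238 IH) (Lpe (K9.f174984 IH) (Lpe (K9.f56559 IH) (Lpe (K9.f56533 IH) (Lpr_gt (K10.f174998 IH) (Lpr_dt (K1.f46655 IH) (Lpe (K10.f47082 IH) (Lpe (f27879 IH) (Lpn (LP (LK LD1_c0 LD2_c59 LD3_c2)))))))))))))
theorem f175012 : Led Lsl_et (LP (LK LD1_c1 LD2_c27 LD3_c34)) = (LP (LK LD1_c0 LD2_c59 LD3_c2)) :=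
  Lgr Lrot87 (Lpr_ef (f175000 IH) (Lpn (LP (LK LD1_c0 LD2_c59 LD3_c2))))
theorem f101491 : Led Lsl_ct (LP (LK LD1_c3 LD2_c3 LD3_c22)) = (LP (LK LD1_c1 LD2_c27 LD3_c34)) :=
  Lre_c IH (LK LD1_c3 LD2_c3 LD3_c22) (LK LD1_c1 LD2_c27 LD3_c34) Lrfl Lrfl
theorem f47084 : Led Lsl_ct (LP (LK LD1_c0 LD2_c59 LD3_c2)) = (LP (LK LD1_c2 LD2_c4 LD3_c3)) :=
  Lre_c IH (LK LD1_c0 LD2_c59 LD3_c2) (LK LD1_c2 LD2_c4 LD3_c3) Lrfl Lrfl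
theorem f175014 : Led Lsl_ef (LP (LK LD1_c3 LD2_c3 LD3_c22)) = (LP (LK LD1_c2 LD2_c4 LD3_c3)) :=
  Lgr Lrot28 (Lpr_ct (f101491 IH) (Lpr_et (f175012 IH) (Lpr_ct (f47084 IH) (Lpn (LP (LK LD1_c2 LD2_c4 LD3_c3))))))
theorem f30719 : Led Lsl_et (LP (LK LD1_c0 LD2_c55 LD3_c26)) = (LP (LK LD1_c1 LD2_c57 LD3_c15)) :=
  Lre_e IH (LK LD1_c0 LD2_c55 LD3_c26) (LK LD1_c1 LD2_c57 LD3_c15) Lrfl Lrfl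
theorem f35826 : Led Lsl_dt (LP (LK LD1_c0 LD2_c28 LD3_c13)) = (LP (LK LD1_c1 LD2_c1 LD3_c51)) :=
  Lre_d IH (LK LD1_c0 LD2_c28 LD3_c13) (LK LD1_c1 LD2_c1 LD3_c51) Lrfl Lrfl
theorem f33990 : Led Lsl_gt (LP (LK LD1_c4 LD2_c1 LD3_c35)) = (LP (LK LD1_c1 LD2_c57 LD3_c45)) :=
  Lre_g IH (LK LD1_c4 LD2_c1 LD3_c35) (LK LD1_c1 LD2_c57 LD3_c45) Lrfl Lrfl
theorem f227906 : Led Lsl_dt (LP (LK LD1_c2 LD2_c4 LD3_c3)) = (LP (LK LD1_c4 LD2_c1 LD3_c35)) :=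
  Lgr Lrot136 (Lpe (f175014 IH) (Lpr_gf (f227891 IH) (Lpe (f30719 IH) (Lpr_dt (K1.f29554 IH) (Lpr_gf (K1.f36665 IH) (Lpe (f35826 IH) (Lpe (K2.f36497 IH) (Lpr_ef (K10.f81198 IH) (Lpr_dt (K0.f33822 IH) (Lpe (f33990 IH) (Lpn (LP (LK LD1_c4 LD2_c1 LD3_c35)))))))))))))
theorem f27878 : Led Lsl_dt (LP (LK LD1_c0 LD2_c26 LD3_c53)) = (LP (LK LD1_c0 LD2_c59 LD3_c2)) :=
  Lre_d IH (LK LD1_c0 LD2_c26 LD3_c53) (LK LD1_c0 LD2_c59 LD3_c2) Lrfl Lrfl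
theorem f47085 : Led Lsl_ct (LP (LK LD1_c2 LD2_c4 LD3_c3)) = (LP (LK LD1_c0 LD2_c59 LD3_c2)) :=
  Lre_c IH (LK LD1_c2 LD2_c4 LD3_c3) (LK LD1_c0 LD2_c59 LD3_c2) Lrfl Lrfl
theorem f33189 : Led Lsl_gt (LP (LK LD1_c0 LD2_c55 LD3_c37)) = (LP (LK LD1_c1 LD2_c57 LD3_c31)) :=
  Lre_g IH (LK LD1_c0 LD2_c55 LD3_c37) (LK LD1_c1 LD2_c57 LD3_c31) Lrfl Lrfl
theorem f190342 : Led Lsl_ct (LP (LK LD1_c1 LD2_c57 LD3_c31)) = (LP (LK LD1_c4 LD2_c1 LD3_c14)) :=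
  Lre_c IH (LK LD1_c1 LD2_c57 LD3_c31) (LK LD1_c4 LD2_c1 LD3_c14) Lrfl Lrfl
theorem f190343 : Led Lsl_gf (LP (LK LD1_c2 LD2_c4 LD3_c3)) = (LP (LK LD1_c4 LD2_c1 LD3_c14)) :=
  Lgr Lrot104 (Lpr_ct (f47085 IH) (Lpe (f27878 IH) (Lpr_cf (K10.f190272 IH) (Lpr_gf (K10.f190337 IH) (Lpe (K0.f33594 IH) (Lpr_gf (f34076 IH) (Lpe (f182398 IH) (Lpr_gt (f33189 IH) (Lpr_ct (f190342 IH) (Lpn (LP (LK LD1_c4 LD2_c1 LD3_c14))))))))))))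
theorem f190439 : Led Lsl_ct (LP (LK LD1_c4 LD2_c1 LD3_c14)) = (LP (LK LD1_c1 LD2_c57 LD3_c31)) :=
  Lre_c IH (LK LD1_c4 LD2_c1 LD3_c14) (LK LD1_c1 LD2_c57 LD3_c31) Lrfl Lrfl
theorem f227918 : Led Lsl_gt (LP (LK LD1_c1 LD2_c57 LD3_c31)) = (LP (LK LD1_c0 LD2_c55 LD3_c40)) :=
  Lgr Lrot94 (Lpe (f190439 IH) (Lpe (f190343 IH) (Lpr_dt (f227906 IH) (Lpr_gt (f33990 IH) (Lpr_dt (K0.f33713 IH) (Lpe (K0.f33712 IH) (Lpe (K0.f27939 IH) (Lpe (K10.f34623 IH) (Lpe (K10.f171529 IH) (Lpn (LP (LK LD1_c0 LD2_c55 LD3_c40))))))))))))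
theorem f204877 : Led Lsl_bt (LP (LK LD1_c0 LD2_c56 LD3_c56)) = (LP (LK LD1_c0 LD2_c25 LD3_c50)) :=
  Lre_b IH (LK LD1_c0 LD2_c56 LD3_c56) (LK LD1_c0 LD2_c25 LD3_c50) Lrfl Lrfl
theorem f211589 : Led Lsl_ct (LP (LK LD1_c0 LD2_c56 LD3_c56)) = (LP (LK LD1_c2 LD2_c0 LD3_c1)) :=
  Lre_c IH (LK LD1_c0 LD2_c56 LD3_c56) (LK LD1_c2 LD2_c0 LD3_c1) Lrfl Lrfl
theorem f34214 : Led Lsl_ct (LP (LK LD1_c1 LD2_c57 LD3_c40)) = (LP (LK LD1_c0 LD2_c55 LD3_c43)) :=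
  Lre_c IH (LK LD1_c1 LD2_c57 LD3_c40) (LK LD1_c0 LD2_c55 LD3_c43) Lrfl Lrfl
theorem f33692 : Led Lsl_ct (LP (LK LD1_c4 LD2_c1 LD3_c36)) = (LP (LK LD1_c1 LD2_c57 LD3_c45)) :=
  Lre_c IH (LK LD1_c4 LD2_c1 LD3_c36) (LK LD1_c1 LD2_c57 LD3_c45) Lrfl Lrfl
theorem f21722 : Led Lsl_gt (LP (LK LD1_c2 LD2_c31 LD3_c47)) = (LP (LK LD1_c5 LD2_c9 LD3_c20)) :=
  Lre_g IH (LK LD1_c2 LD2_c31 LD3_c47) (LK LD1_c5 LD2_c9 LD3_c20) Lrfl Lrfl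
theorem f34212 : Led Lsl_gt (LP (LK LD1_c5 LD2_c9 LD3_c20)) = (LP (LK LD1_c4 LD2_c1 LD3_c36)) :=
  Lgr Lrot46 (Lpe (f21722 IH) (Lpr_ft (K2.f34099 IH) (Lpr_at (K2.f34080 IH) (Lpn (LP (LK LD1_c4 LD2_c1 LD3_c36))))))
theorem f196154 : Led Lsl_ct (LP (LK LD1_c4 LD2_c1 LD3_c22)) = (LP (LK LD1_c5 LD2_c9 LD3_c20)) :=
  Lgr Lrot152 (Lpr_gf (K10.f196130 IH) (Lpe (K1.f27865 IH) (Lpr_gt (K9.f182449 IH) (Lpr_ct (f34214 IH) (Lpr_gt (K9.f27940 IH) (Lpr_ct (K0.f33712 IH) (Lpe (K0.f33713 IH) (Lpe (f33692 IH) (Lpe (f34212 IH) (Lpn (LP (LK LD1_c5 LD2_c9 LD3_c20))))))))))))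
theorem f196159 : Led Lsl_cf (LP (LK LD1_c4 LD2_c1 LD3_c22)) = (LP (LK LD1_c5 LD2_c9 LD3_c20)) :=
  Lgr Lrot11 (Lpr_ct (f196154 IH) (Lpn (LP (LK LD1_c5 LD2_c9 LD3_c20))))
theorem f211569 : Led Lsl_ct (LP (LK LD1_c1 LD2_c57 LD3_c32)) = (LP (LK LD1_c4 LD2_c1 LD3_c15)) :=
  Lre_c IH (LK LD1_c1 LD2_c57 LD3_c32) (LK LD1_c4 LD2_c1 LD3_c15) Lrfl Lrfl
theorem f190885 : Led Lsl_dt (LP (LK LD1_c0 LD2_c56 LD3_c56)) = (LP (LK LD1_c0 LD2_c25 LD3_c49)) :=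
  Lre_d IH (LK LD1_c0 LD2_c56 LD3_c56) (LK LD1_c0 LD2_c25 LD3_c49) Lrfl Lrfl
theorem f196361 : Led Lsl_ct (LP (LK LD1_c2 LD2_c0 LD3_c1)) = (LP (LK LD1_c0 LD2_c56 LD3_c56)) :=
  Lre_c IH (LK LD1_c2 LD2_c0 LD3_c1) (LK LD1_c0 LD2_c56 LD3_c56) Lrfl Lrfl
theorem f211585 : Led Lsl_gt (LP (LK LD1_c4 LD2_c1 LD3_c15)) = (LP (LK LD1_c2 LD2_c0 LD3_c1)) :=
  Lgr Lrot150 (Lpe (f211569 IH) (Lpr_gf (f211583 IH) (Lpe (K10.f171532 IH) (Lpr_gt (K10.f34623 IH) (Lpe (K0.f33106 IH) (Lpr_gt (K10.f21854 IH) (Lpe (K10.f190888 IH) (Lpe (f190885 IH) (Lpe (f196361 IH) (Lpn (LP (LK LD1_c2 LD2_c0 LD3_c1))))))))))))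
theorem f211576 : Led Lsl_ct (LP (LK LD1_c4 LD2_c1 LD3_c15)) = (LP (LK LD1_c1 LD2_c57 LD3_c32)) :=
  Lre_c IH (LK LD1_c4 LD2_c1 LD3_c15) (LK LD1_c1 LD2_c57 LD3_c32) Lrfl Lrfl
theorem f211594 : Led Lsl_df (LP (LK LD1_c4 LD2_c1 LD3_c34)) = (LP (LK LD1_c2 LD2_c0 LD3_c1)) :=
  Lgr Lrot153 (Lpe (K10.f33762 IH) (Lpr_dt (K0.f33740 IH) (Lpe (K0.f33737 IH) (Lpe (K0.f33624 IH) (Lpr_gf (f34076 IH) (Lpe (f182398 IH) (Lpe (f192848 IH) (Lpe (f211576 IH) (Lpr_gt (f211585 IH) (Lpn (LP (LK LD1_c2 LD2_c0 LD3_c1))))))))))))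
theorem f227925 : Led Lsl_gf (LP (LK LD1_c4 LD2_c1 LD3_c14)) = (LP (LK LD1_c2 LD2_c0 LD3_c1)) :=
  Lgr Lrot147 (Lpr_ct (f190439 IH) (Lpr_gt (f227918 IH) (Lpr_ct (K10.f171535 IH) (Lpe (K10.f171534 IH) (Lpr_cf (f196159 IH) (Lpe (f21722 IH) (Lpe (K0.f33774 IH) (Lpr_gf (K10.f33762 IH) (Lpr_df (f211594 IH) (Lpn (LP (LK LD1_c2 LD2_c0 LD3_c1))))))))))))
theorem f227927 : Led Lsl_bf (LP (LK LD1_c1 LD2_c57 LD3_c31)) = (LP (LK LD1_c1 LD2_c57 LD3_c31)) :=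
  Lgr Lrot165 (Lpr_gt (f227918 IH) (Lpr_ct (K10.f171535 IH) (Lpr_gt (f227327 IH) (Lpe (f227317 IH) (Lpr_bt (f227299 IH) (Lpr_gt (K9.f183201 IH) (Lpe (f204877 IH) (Lpr_ct (f211589 IH) (Lpe (f227925 IH) (Lpe (f190342 IH) (Lpn (LP (LK LD1_c1 LD2_c57 LD3_c31)))))))))))))
theorem f192639 : Led Lsl_bt (LP (LK LD1_c0 LD2_c25 LD3_c52)) = (LP (LK LD1_c0 LD2_c55 LD3_c40)) :=
  Lgr Lrot95 (Lpe (K9.f55905 IH) (Lpr_bf (K10.f192590 IH) (Lpe (K10.f171529 IH) (Lpn (LP (LK LD1_c0 LD2_c55 LD3_c40))))))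
theorem f20709 : Led Lsl_bt (LP (LK LD1_c0 LD2_c34 LD3_c15)) = (LP (LK LD1_c1 LD2_c13 LD3_c51)) :=
  Lre_b IH (LK LD1_c0 LD2_c34 LD3_c15) (LK LD1_c1 LD2_c13 LD3_c51) Lrfl Lrfl
theorem f227929 : Led Lsl_gf (LP (LK LD1_c0 LD2_c56 LD3_c56)) = (LP (LK LD1_c1 LD2_c13 LD3_c51)) :=
  Lgr Lrot181 (Lpr_ct (f211589 IH) (Lpe (f227925 IH) (Lpe (f190342 IH) (Lpe (f227927 IH) (Lpr_gt (f227918 IH) (Lpe (f192639 IH) (Lpr_ct (K9.f55908 IH) (Lpr_gt (K11.f198570 IH) (Lpe (K11.f20710 IH) (Lpr_bt (f20709 IH) (Lpn (LP (LK LD1_c1 LD2_c13 LD3_c51)))))))))))))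
theorem f190886 : Led Lsl_dt (LP (LK LD1_c0 LD2_c25 LD3_c49)) = (LP (LK LD1_c0 LD2_c56 LD3_c56)) :=
  Lre_d IH (LK LD1_c0 LD2_c25 LD3_c49) (LK LD1_c0 LD2_c56 LD3_c56) Lrfl Lrfl
theorem f196375 : Led Lsl_et (LP (LK LD1_c0 LD2_c25 LD3_c49)) = (LP (LK LD1_c0 LD2_c56 LD3_c57)) :=
  Lre_e IH (LK LD1_c0 LD2_c25 LD3_c49) (LK LD1_c0 LD2_c56 LD3_c57) Lrfl Lrfl
theorem f170691 : Led Lsl_dt (LP (LK LD1_c0 LD2_c34 LD3_c13)) = (LP (LK LD1_c0 LD2_c31 LD3_c37)) :=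
  Lre_d IH (LK LD1_c0 LD2_c34 LD3_c13) (LK LD1_c0 LD2_c31 LD3_c37) Lrfl Lrfl
theorem f193357 : Led Lsl_et (LP (LK LD1_c1 LD2_c13 LD3_c51)) = (LP (LK LD1_c0 LD2_c34 LD3_c13)) :=
  Lre_e IH (LK LD1_c1 LD2_c13 LD3_c51) (LK LD1_c0 LD2_c34 LD3_c13) Lrfl Lrfl
theorem f193372 : Led Lsl_df (LP (LK LD1_c1 LD2_c13 LD3_c51)) = (LP (LK LD1_c1 LD2_c1 LD3_c32)) :=
  Lgr Lrot70 (Lpr_et (f193357 IH) (Lpr_dt (f170691 IH) (Lpr_et (K10.f193344 IH) (Lpr_dt (f193338 IH) (Lpr_et (K10.f193368 IH) (Lpn (LP (LK LD1_c1 LD2_c1 LD3_c32))))))))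
theorem f193374 : Led Lsl_ef (LP (LK LD1_c0 LD2_c31 LD3_c36)) = (LP (LK LD1_c1 LD2_c1 LD3_c32)) :=
  Lgr Lrot88 (Lpr_et (K10.f193368 IH) (Lpn (LP (LK LD1_c1 LD2_c1 LD3_c32))))
theorem f227934 : Led Lsl_gt (LP (LK LD1_c0 LD2_c56 LD3_c57)) = (LP (LK LD1_c0 LD2_c27 LD3_c34)) :=
  Lgr Lrot137 (Lpe (f196375 IH) (Lpr_dt (f190886 IH) (Lpr_gf (f227929 IH) (Lpr_df (f193372 IH) (Lpe (f193374 IH) (Lpr_gf (K11.f193348 IH) (Lpe (K11.f166455 IH) (Lpr_dt (K9.f166460 IH) (Lpe (K11.f180207 IH) (Lpe (K9.f180105 IH) (Lpn (LP (LK LD1_c0 LD2_c27 LD3_c34)))))))))))))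
theorem f33596 : Led Lsl_bf (LP (LK LD1_c0 LD2_c25 LD3_c23)) = (LP (LK LD1_c0 LD2_c25 LD3_c23)) :=
  Lgr Lrot90 (Lpr_ct (K0.f33594 IH) (Lpr_bt (K0.f33586 IH) (Lpr_ct (K9.f3305 IH) (Lpe (K0.f33592 IH) (Lpr_ct (K0.f33595 IH) (Lpn (LP (LK LD1_c0 LD2_c25 LD3_c23))))))))
theorem f47068 : Led Lsl_bt (LP (LK LD1_c0 LD2_c25 LD3_c49)) = (LP (LK LD1_c0 LD2_c11 LD3_c29)) :=
  Lre_b IH (LK LD1_c0 LD2_c25 LD3_c49) (LK LD1_c0 LD2_c11 LD3_c29) Lrfl Lrfl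
theorem f196359 : Led Lsl_ct (LP (LK LD1_c0 LD2_c25 LD3_c49)) = (LP (LK LD1_c0 LD2_c33 LD3_c47)) :=
  Lgr Lrot64 (Lpr_bt (f47068 IH) (Lpe (K9.f47067 IH) (Lpe (K10.f47066 IH) (Lpe (K1.f47046 IH) (Lpr_gf (K10.f192584 IH) (Lpe (K10.f171524 IH) (Lpe (K10.f171530 IH) (Lpr_bf (f33596 IH) (Lpr_ct (K0.f33594 IH) (Lpr_gf (K10.f196349 IH) (Lpn (LP (LK LD1_c0 LD2_c33 LD3_c47)))))))))))))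
theorem f190895 : Led Lsl_et (LP (LK LD1_c0 LD2_c56 LD3_c57)) = (LP (LK LD1_c0 LD2_c25 LD3_c49)) :=
  Lre_e IH (LK LD1_c0 LD2_c56 LD3_c57) (LK LD1_c0 LD2_c25 LD3_c49) Lrfl Lrfl
theorem f196362 : Led Lsl_cf (LP (LK LD1_c0 LD2_c56 LD3_c57)) = (LP (LK LD1_c1 LD2_c12 LD3_c50)) :=
  Lgr Lrot39 (Lpr_et (f190895 IH) (Lpr_ct (f196359 IH) (Lpr_et (f33161 IH) (Lpn (LP (LK LD1_c1 LD2_c12 LD3_c50))))))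
theorem f33201 : Led Lsl_dt (LP (LK LD1_c1 LD2_c56 LD3_c55)) = (LP (LK LD1_c1 LD2_c12 LD3_c50)) :=
  Lgr Lrot42 (Lpr_df (K10.f33142 IH) (Lpn (LP (LK LD1_c1 LD2_c12 LD3_c50))))
theorem f196369 : Led Lsl_df (LP (LK LD1_c0 LD2_c56 LD3_c57)) = (LP (LK LD1_c0 LD2_c32 LD3_c40)) :=
  Lgr Lrot84 (Lpr_cf (f196362 IH) (Lpe (f33201 IH) (Lpe (K9.f29653 IH) (Lpe (K0.f2409 IH) (Lpr_gf (K10.f196303 IH) (Lpe (K10.f43094 IH) (Lpe (K10.f43091 IH) (Lpr_dt (f43087 IH) (Lpe (K9.f174946 IH) (Lpn (LP (LK LD1_c0 LD2_c32 LD3_c40))))))))))))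
theorem f196372 : Led Lsl_dt (LP (LK LD1_c0 LD2_c56 LD3_c57)) = (LP (LK LD1_c0 LD2_c32 LD3_c40)) :=
  Lgr Lrot42 (Lpr_df (f196369 IH) (Lpn (LP (LK LD1_c0 LD2_c32 LD3_c40))))
theorem f43093 : Led Lsl_ct (LP (LK LD1_c0 LD2_c24 LD3_c35)) = (LP (LK LD1_c0 LD2_c54 LD3_c29)) :=
  Lre_c IH (LK LD1_c0 LD2_c24 LD3_c35) (LK LD1_c0 LD2_c54 LD3_c29) Lrfl Lrfl
theorem f197423 : Led Lsl_ct (LP (LK LD1_c1 LD2_c55 LD3_c29)) = (LP (LK LD1_c0 LD2_c55 LD3_c9)) :=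
  Lgr Lrot59 (Lpr_cf (f197418 IH) (Lpn (LP (LK LD1_c0 LD2_c55 LD3_c9))))
theorem f3047 : Led Lsl_dt (LP (LK LD1_c0 LD2_c55 LD3_c9)) = (LP (LK LD1_c1 LD2_c56 LD3_c44)) :=
  Lre_d IH (LK LD1_c0 LD2_c55 LD3_c9) (LK LD1_c1 LD2_c56 LD3_c44) Lrfl Lrfl
theorem f170318 : Led Lsl_ct (LP (LK LD1_c0 LD2_c27 LD3_c34)) = (LP (LK LD1_c1 LD2_c0 LD3_c31)) :=
  Lre_c IH (LK LD1_c0 LD2_c27 LD3_c34) (LK LD1_c1 LD2_c0 LD3_c31) Lrfl Lrfl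
theorem f181212 : Led Lsl_gt (LP (LK LD1_c1 LD2_c0 LD3_c31)) = (LP (LK LD1_c2 LD2_c7 LD3_c1)) :=
  Lre_g IH (LK LD1_c1 LD2_c0 LD3_c31) (LK LD1_c2 LD2_c7 LD3_c1) Lrfl Lrfl
theorem f227940 : Led Lsl_cf (LP (LK LD1_c1 LD2_c56 LD3_c44)) = (LP (LK LD1_c2 LD2_c7 LD3_c1)) :=
  Lgr Lrot99 (Lpe (f3047 IH) (Lpe (f197423 IH) (Lpe (K11.f59266 IH) (Lpe (f43093 IH) (Lpe (K9.f174944 IH) (Lpe (f196372 IH) (Lpr_gt (f227934 IH) (Lpr_ct (f170318 IH) (Lpr_gt (f181212 IH) (Lpn (LP (LK LD1_c2 LD2_c7 LD3_c1))))))))))))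
theorem f31136 : Led Lsl_gt (LP (LK LD1_c0 LD2_c54 LD3_c23)) = (LP (LK LD1_c1 LD2_c55 LD3_c17)) :=
  Lre_g IH (LK LD1_c0 LD2_c54 LD3_c23) (LK LD1_c1 LD2_c55 LD3_c17) Lrfl Lrfl
theorem f227950 : Led Lsl_dt (LP (LK LD1_c1 LD2_c55 LD3_c17)) = (LP (LK LD1_c2 LD2_c7 LD3_c1)) :=
  Lgr Lrot105 (Lpe (f31136 IH) (Lpe (K1.f31135 IH) (Lpe (K10.f28799 IH) (Lpr_cf (K10.f173208 IH) (Lpr_gt (f193283 IH) (Lpr_dt (K0.f2973 IH) (Lpr_gt (f3046 IH) (Lpr_dt (f3047 IH) (Lpr_cf (f227940 IH) (Lpn (LP (LK LD1_c2 LD2_c7 LD3_c1))))))))))))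
theorem f227955 : Led Lsl_df (LP (LK LD1_c1 LD2_c55 LD3_c17)) = (LP (LK LD1_c2 LD2_c7 LD3_c1)) :=
  Lgr Lrot38 (Lpr_dt (f227950 IH) (Lpn (LP (LK LD1_c2 LD2_c7 LD3_c1))))
theorem f170847 : Led Lsl_gt (LP (LK LD1_c2 LD2_c24 LD3_c9)) = (LP (LK LD1_c1 LD2_c9 LD3_c6)) :=
  Lre_g IH (LK LD1_c2 LD2_c24 LD3_c9) (LK LD1_c1 LD2_c9 LD3_c6) Lrfl Lrfl
theorem f227974 : Led Lsl_ef (LP (LK LD1_c2 LD2_c24 LD3_c9)) = (LP (LK LD1_c2 LD2_c7 LD3_c1)) :=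
  Lgr Lrot167 (Lpr_gt (f170847 IH) (Lpe (K10.f187923 IH) (Lpr_gt (K10.f31132 IH) (Lpe (K0.f31131 IH) (Lpr_et (K0.f31125 IH) (Lpe (K1.f31129 IH) (Lpe (K9.f31134 IH) (Lpr_dt (K1.f31135 IH) (Lpr_gt (f31136 IH) (Lpr_df (f227955 IH) (Lpn (LP (LK LD1_c2 LD2_c7 LD3_c1)))))))))))))
theorem f28800 : Led Lsl_et (LP (LK LD1_c1 LD2_c55 LD3_c16)) = (LP (LK LD1_c0 LD2_c54 LD3_c22)) :=
  Lre_e IH (LK LD1_c1 LD2_c55 LD3_c16) (LK LD1_c0 LD2_c54 LD3_c22) Lrfl Lrfl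
theorem f42881 : Led Lsl_dt (LP (LK LD1_c1 LD2_c1 LD3_c25)) = (LP (LK LD1_c0 LD2_c28 LD3_c2)) :=
  Lre_d IH (LK LD1_c1 LD2_c1 LD3_c25) (LK LD1_c0 LD2_c28 LD3_c2) Lrfl Lrfl
theorem f227969 : Led Lsl_gt (LP (LK LD1_c1 LD2_c55 LD3_c17)) = (LP (LK LD1_c1 LD2_c1 LD3_c25)) :=
  Lgr Lrot49 (Lpr_df (f227955 IH) (Lpe (f181212 IH) (Lpe (f170318 IH) (Lpr_gt (f179857 IH) (Lpe (f211466 IH) (Lpr_gt (f39244 IH) (Lpr_dt (K10.f39238 IH) (Lpe (f42879 IH) (Lpe (f42881 IH) (Lpn (LP (LK LD1_c1 LD2_c1 LD3_c25))))))))))))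
theorem f39161 : Led Lsl_dt (LP (LK LD1_c0 LD2_c28 LD3_c2)) = (LP (LK LD1_c1 LD2_c1 LD3_c25)) :=
  Lre_d IH (LK LD1_c0 LD2_c28 LD3_c2) (LK LD1_c1 LD2_c1 LD3_c25) Lrfl Lrfl
theorem f39162 : Led Lsl_at (LP (LK LD1_c0 LD2_c54 LD3_c24)) = (LP (LK LD1_c0 LD2_c28 LD3_c2)) :=
  Lgr Lrot51 (Lpe (K1.f39005 IH) (Lpr_af (K1.f39141 IH) (Lpe (f39161 IH) (Lpn (LP (LK LD1_c0 LD2_c28 LD3_c2))))))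
theorem f38957 : Led Lsl_ft (LP (LK LD1_c0 LD2_c12 LD3_c23)) = (LP (LK LD1_c0 LD2_c28 LD3_c2)) :=
  Lre_f IH (LK LD1_c0 LD2_c12 LD3_c23) (LK LD1_c0 LD2_c28 LD3_c2) Lrfl Lrfl
theorem f38958 : Led Lsl_af (LP (LK LD1_c0 LD2_c54 LD3_c24)) = (LP (LK LD1_c0 LD2_c28 LD3_c2)) :=
  Lgr Lrot109 (Lpe (K1.f38942 IH) (Lpe (K1.f38941 IH) (Lpe (K1.f38940 IH) (Lpe (K1.f38918 IH) (Lpr_cf (K1.f38931 IH) (Lpe (K1.f38930 IH) (Lpe (K1.f38929 IH) (Lpe (K1.f28838 IH) (Lpr_ft (f38957 IH) (Lpn (LP (LK LD1_c0 LD2_c28 LD3_c2))))))))))))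
theorem f42902 : Led Lsl_et (LP (LK LD1_c0 LD2_c28 LD3_c2)) = (LP (LK LD1_c0 LD2_c28 LD3_c2)) :=
  Lgr Lrot123 (Lpe (f39162 IH) (Lpr_ef (K9.f42900 IH) (Lpr_af (f38958 IH) (Lpn (LP (LK LD1_c0 LD2_c28 LD3_c2))))))
theorem f227971 : Led Lsl_et (LP (LK LD1_c0 LD2_c27 LD3_c32)) = (LP (LK LD1_c1 LD2_c0 LD3_c31)) :=
  Lre_e IH (LK LD1_c0 LD2_c27 LD3_c32) (LK LD1_c1 LD2_c0 LD3_c31) Lrfl Lrfl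
theorem f8009 : Led Lsl_gt (LP (LK LD1_c2 LD2_c6 LD3_c60)) = (LP (LK LD1_c1 LD2_c0 LD3_c30)) :=
  Lre_g IH (LK LD1_c2 LD2_c6 LD3_c60) (LK LD1_c1 LD2_c0 LD3_c30) Lrfl Lrfl
theorem f227972 : Led Lsl_dt (LP (LK LD1_c1 LD2_c55 LD3_c16)) = (LP (LK LD1_c2 LD2_c6 LD3_c60)) :=
  Lgr Lrot136 (Lpr_et (f28800 IH) (Lpe (K11.f42877 IH) (Lpe (f42902 IH) (Lpr_dt (f39161 IH) (Lpe (f227969 IH) (Lpr_df (f227955 IH) (Lpe (f181212 IH) (Lpe (f227971 IH) (Lpr_dt (f180101 IH) (Lpe (f8009 IH) (Lpn (LP (LK LD1_c2 LD2_c6 LD3_c60)))))))))))))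
theorem f227976 : Led Lsl_gt (LP (LK LD1_c1 LD2_c9 LD3_c5)) = (LP (LK LD1_c2 LD2_c6 LD3_c60)) :=
  Lgr Lrot112 (Lpe (K10.f170692 IH) (Lpr_et (K9.f170687 IH) (Lpe (f170847 IH) (Lpr_ef (f227974 IH) (Lpe (f227955 IH) (Lpe (f31136 IH) (Lpe (K1.f31135 IH) (Lpe (K10.f28799 IH) (Lpe (f28800 IH) (Lpr_dt (f227972 IH) (Lpn (LP (LK LD1_c2 LD2_c6 LD3_c60)))))))))))))
theorem f170697 : Led Lsl_bt (LP (LK LD1_c2 LD2_c2 LD3_c16)) = (LP (LK LD1_c1 LD2_c9 LD3_c5)) :=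
  Lgr Lrot127 (Lpr_bf (K10.f170693 IH) (Lpn (LP (LK LD1_c1 LD2_c9 LD3_c5))))
theorem f170699 : Led Lsl_ct (LP (LK LD1_c2 LD2_c2 LD3_c16)) = (LP (LK LD1_c4 LD2_c10 LD3_c6)) :=
  Lre_c IH (LK LD1_c2 LD2_c2 LD3_c16) (LK LD1_c4 LD2_c10 LD3_c6) Lrfl Lrfl
theorem f182180 : Led Lsl_cf (LP (LK LD1_c0 LD2_c16 LD3_c17)) = (LP (LK LD1_c0 LD2_c25 LD3_c13)) :=
  Lgr Lrot11 (Lpr_ct (K9.f182174 IH) (Lpn (LP (LK LD1_c0 LD2_c25 LD3_c13))))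
theorem f178112 : Led Lsl_ct (LP (LK LD1_c1 LD2_c19 LD3_c7)) = (LP (LK LD1_c0 LD2_c36 LD3_c32)) :=
  Lre_c IH (LK LD1_c1 LD2_c19 LD3_c7) (LK LD1_c0 LD2_c36 LD3_c32) Lrfl Lrfl
theorem f178108 : Led Lsl_gt (LP (LK LD1_c2 LD2_c45 LD3_c30)) = (LP (LK LD1_c1 LD2_c19 LD3_c7)) :=
  Lre_g IH (LK LD1_c2 LD2_c45 LD3_c30) (LK LD1_c1 LD2_c19 LD3_c7) Lrfl Lrfl
theorem f227980 : Led Lsl_cf (LP (LK LD1_c2 LD2_c45 LD3_c30)) = (LP (LK LD1_c2 LD2_c6 LD3_c60)) :=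
  Lgr Lrot169 (Lpr_gt (f178108 IH) (Lpr_ct (f178112 IH) (Lpe (f194685 IH) (Lpr_cf (f182180 IH) (Lpe (K9.f27955 IH) (Lpe (K1.f27949 IH) (Lpe (K9.f180241 IH) (Lpe (K10.f2881 IH) (Lpr_gt (f227976 IH) (Lpn (LP (LK LD1_c2 LD2_c6 LD3_c60))))))))))))
theorem f178081 : Led Lsl_ct (LP (LK LD1_c0 LD2_c36 LD3_c32)) = (LP (LK LD1_c1 LD2_c19 LD3_c7)) :=
  Lre_c IH (LK LD1_c0 LD2_c36 LD3_c32) (LK LD1_c1 LD2_c19 LD3_c7) Lrfl Lrfl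
theorem f178080 : Led Lsl_bt (LP (LK LD1_c0 LD2_c36 LD3_c32)) = (LP (LK LD1_c0 LD2_c16 LD3_c18)) :=
  Lre_b IH (LK LD1_c0 LD2_c36 LD3_c32) (LK LD1_c0 LD2_c16 LD3_c18) Lrfl Lrfl
theorem f177863 : Led Lsl_ct (LP (LK LD1_c0 LD2_c36 LD3_c7)) = (LP (LK LD1_c1 LD2_c18 LD3_c26)) :=
  Lre_c IH (LK LD1_c0 LD2_c36 LD3_c7) (LK LD1_c1 LD2_c18 LD3_c26) Lrfl Lrfl
theorem f178096 : Led Lsl_gt (LP (LK LD1_c0 LD2_c16 LD3_c18)) = (LP (LK LD1_c0 LD2_c36 LD3_c7)) :=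
  Lgr Lrot9 (Lpe (K9.f170084 IH) (Lpr_gt (K9.f171200 IH) (Lpr_ct (K1.f28388 IH) (Lpr_gt (K9.f27243 IH) (Lpr_ct (K9.f173178 IH) (Lpe (K9.f8580 IH) (Lpe (K9.f169275 IH) (Lpr_gf (f177861 IH) (Lpe (f177863 IH) (Lpn (LP (LK LD1_c0 LD2_c36 LD3_c7))))))))))))
theorem f177853 : Led Lsl_bt (LP (LK LD1_c1 LD2_c18 LD3_c25)) = (LP (LK LD1_c0 LD2_c36 LD3_c7)) :=
  Lre_b IH (LK LD1_c1 LD2_c18 LD3_c25) (LK LD1_c0 LD2_c36 LD3_c7) Lrfl Lrfl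
theorem f178121 : Led Lsl_ct (LP (LK LD1_c1 LD2_c18 LD3_c25)) = (LP (LK LD1_c2 LD2_c44 LD3_c8)) :=
  Lre_c IH (LK LD1_c1 LD2_c18 LD3_c25) (LK LD1_c2 LD2_c44 LD3_c8) Lrfl Lrfl
theorem f227982 : Led Lsl_gf (LP (LK LD1_c4 LD2_c10 LD3_c6)) = (LP (LK LD1_c2 LD2_c44 LD3_c8)) :=
  Lgr Lrot126 (Lpe (f170699 IH) (Lpr_bt (f170697 IH) (Lpr_gt (f227976 IH) (Lpe (f227980 IH) (Lpr_gt (f178108 IH) (Lpe (f178081 IH) (Lpr_bt (f178080 IH) (Lpr_gt (f178096 IH) (Lpe (f177853 IH) (Lpr_ct (f178121 IH) (Lpn (LP (LK LD1_c2 LD2_c44 LD3_c8)))))))))))))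
theorem f170791 : Led Lsl_ct (LP (LK LD1_c4 LD2_c10 LD3_c6)) = (LP (LK LD1_c2 LD2_c2 LD3_c16)) :=
  Lre_c IH (LK LD1_c4 LD2_c10 LD3_c6) (LK LD1_c2 LD2_c2 LD3_c16) Lrfl Lrfl
theorem f41374 : Led Lsl_dt (LP (LK LD1_c0 LD2_c54 LD3_c42)) = (LP (LK LD1_c1 LD2_c55 LD3_c59)) :=
  Lre_d IH (LK LD1_c0 LD2_c54 LD3_c42) (LK LD1_c1 LD2_c55 LD3_c59) Lrfl Lrfl
theorem f227988 : Led Lsl_gt (LP (LK LD1_c1 LD2_c55 LD3_c59)) = (LP (LK LD1_c1 LD2_c18 LD3_c25)) :=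
  Lgr Lrot9 (Lpe (f41374 IH) (Lpr_gt (f42733 IH) (Lpe (K9.f42718 IH) (Lpr_gt (K9.f182191 IH) (Lpr_ct (f53446 IH) (Lpe (K10.f53445 IH) (Lpe (f170791 IH) (Lpr_gf (f227982 IH) (Lpe (f178121 IH) (Lpn (LP (LK LD1_c1 LD2_c18 LD3_c25))))))))))))
theorem f227992 : Led Lsl_bt (LP (LK LD1_c3 LD2_c58 LD3_c20)) = (LP (LK LD1_c1 LD2_c55 LD3_c59)) :=
  Lre_b IH (LK LD1_c3 LD2_c58 LD3_c20) (LK LD1_c1 LD2_c55 LD3_c59) Lrfl Lrfl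
theorem f223072 : Led Lsl_ct (LP (LK LD1_c3 LD2_c58 LD3_c20)) = (LP (LK LD1_c7 LD2_c58 LD3_c3)) :=
  Lre_c IH (LK LD1_c3 LD2_c58 LD3_c20) (LK LD1_c7 LD2_c58 LD3_c3) Lrfl Lrfl
theorem f178104 : Led Lsl_bt (LP (LK LD1_c0 LD2_c36 LD3_c7)) = (LP (LK LD1_c1 LD2_c18 LD3_c25)) :=
  Lre_b IH (LK LD1_c0 LD2_c36 LD3_c7) (LK LD1_c1 LD2_c18 LD3_c25) Lrfl Lrfl
theorem f169293 : Led Lsl_bt (LP (LK LD1_c0 LD2_c28 LD3_c36)) = (LP (LK LD1_c1 LD2_c2 LD3_c42)) :=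
  Lre_b IH (LK LD1_c0 LD2_c28 LD3_c36) (LK LD1_c1 LD2_c2 LD3_c42) Lrfl Lrfl
theorem f169294 : Led Lsl_gt (LP (LK LD1_c1 LD2_c2 LD3_c42)) = (LP (LK LD1_c2 LD2_c11 LD3_c24)) :=
  Lre_g IH (LK LD1_c1 LD2_c2 LD3_c42) (LK LD1_c2 LD2_c11 LD3_c24) Lrfl Lrfl
theorem f178103 : Led Lsl_ct (LP (LK LD1_c2 LD2_c11 LD3_c24)) = (LP (LK LD1_c4 LD2_c28 LD3_c43)) :=
  Lre_c IH (LK LD1_c2 LD2_c11 LD3_c24) (LK LD1_c4 LD2_c28 LD3_c43) Lrfl Lrfl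
theorem f228019 : Led Lsl_gf (LP (LK LD1_c7 LD2_c58 LD3_c3)) = (LP (LK LD1_c4 LD2_c28 LD3_c43)) :=
  Lgr Lrot129 (Lpe (f223072 IH) (Lpr_bt (f227992 IH) (Lpr_gt (f227988 IH) (Lpe (f178104 IH) (Lpr_ct (f177863 IH) (Lpe (f177861 IH) (Lpe (f169280 IH) (Lpr_bt (f169293 IH) (Lpr_gt (f169294 IH) (Lpr_ct (f178103 IH) (Lpn (LP (LK LD1_c4 LD2_c28 LD3_c43)))))))))))))
theorem f228028 : Led Lsl_bf (LP (LK LD1_c2 LD2_c6 LD3_c60)) = (LP (LK LD1_c2 LD2_c11 LD3_c24)) :=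
  Lgr Lrot34 (Lpe (f227976 IH) (Lpe (f170697 IH) (Lpr_ct (f170699 IH) (Lpr_gf (f227982 IH) (Lpe (f178121 IH) (Lpe (f227988 IH) (Lpe (f227992 IH) (Lpr_ct (f223072 IH) (Lpr_gf (f228019 IH) (Lpe (f178103 IH) (Lpn (LP (LK LD1_c2 LD2_c11 LD3_c24)))))))))))))
theorem f228038 : Led Lsl_bt (LP (LK LD1_c2 LD2_c45 LD3_c30)) = (LP (LK LD1_c5 LD2_c39 LD3_c2)) :=
  Lre_b IH (LK LD1_c2 LD2_c45 LD3_c30) (LK LD1_c5 LD2_c39 LD3_c2) Lrfl Lrfl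
theorem f179290 : Led Lsl_ct (LP (LK LD1_c4 LD2_c28 LD3_c43)) = (LP (LK LD1_c2 LD2_c11 LD3_c24)) :=
  Lre_c IH (LK LD1_c4 LD2_c28 LD3_c43) (LK LD1_c2 LD2_c11 LD3_c24) Lrfl Lrfl
theorem f228027 : Led Lsl_bt (LP (LK LD1_c8 LD2_c55 LD3_c42)) = (LP (LK LD1_c4 LD2_c28 LD3_c43)) :=
  Lre_b IH (LK LD1_c8 LD2_c55 LD3_c42) (LK LD1_c4 LD2_c28 LD3_c43) Lrfl Lrfl
theorem f228039 : Led Lsl_ct (LP (LK LD1_c5 LD2_c39 LD3_c2)) = (LP (LK LD1_c8 LD2_c55 LD3_c42)) :=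
  Lgr Lrot83 (Lpe (f228038 IH) (Lpr_cf (f227980 IH) (Lpr_bf (f228028 IH) (Lpe (f179290 IH) (Lpe (f228027 IH) (Lpn (LP (LK LD1_c8 LD2_c55 LD3_c42))))))))
theorem f228089 : Led Lsl_et (LP (LK LD1_c11 LD2_c9 LD3_c5)) = (LP (LK LD1_c5 LD2_c39 LD3_c2)) :=
  Lre_e IH (LK LD1_c11 LD2_c9 LD3_c5) (LK LD1_c5 LD2_c39 LD3_c2) Lrfl Lrfl
theorem f228090 : Led Lsl_et (LP (LK LD1_c8 LD2_c55 LD3_c42)) = (LP (LK LD1_c16 LD2_c42 LD3_c49)) :=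
  Lre_e IH (LK LD1_c8 LD2_c55 LD3_c42) (LK LD1_c16 LD2_c42 LD3_c49) Lrfl Lrfl
theorem f228091 : Led Lsl_cf (LP (LK LD1_c11 LD2_c9 LD3_c5)) = (LP (LK LD1_c16 LD2_c42 LD3_c49)) :=
  Lgr Lrot39 (Lpr_et (f228089 IH) (Lpr_ct (f228039 IH) (Lpr_et (f228090 IH) (Lpn (LP (LK LD1_c16 LD2_c42 LD3_c49))))))
theorem f228113 : Led Lsl_ft (LP (LK LD1_c11 LD2_c9 LD3_c5)) = (LP (LK LD1_c20 LD2_c3 LD3_c2)) :=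
  Lre_f IH (LK LD1_c11 LD2_c9 LD3_c5) (LK LD1_c20 LD2_c3 LD3_c2) Lrfl Lrfl
theorem f228114 : Led Lsl_ft (LP (LK LD1_c26 LD2_c41 LD3_c35)) = (LP (LK LD1_c16 LD2_c42 LD3_c49)) :=
  Lre_f IH (LK LD1_c26 LD2_c41 LD3_c35) (LK LD1_c16 LD2_c42 LD3_c49) Lrfl Lrfl
theorem f228115 : Led Lsl_ct (LP (LK LD1_c20 LD2_c3 LD3_c2)) = (LP (LK LD1_c26 LD2_c41 LD3_c35)) :=
  Lgr Lrot40 (Lpe (f228113 IH) (Lpr_cf (f228091 IH) (Lpe (f228114 IH) (Lpn (LP (LK LD1_c26 LD2_c41 LD3_c35))))))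
theorem f228129 : Led Lsl_cf (LP (LK LD1_c20 LD2_c3 LD3_c2)) = (LP (LK LD1_c26 LD2_c41 LD3_c35)) :=
  Lgr Lrot11 (Lpr_ct (f228115 IH) (Lpn (LP (LK LD1_c26 LD2_c41 LD3_c35))))
theorem f228133 : Led Lsl_bt (LP (LK LD1_c20 LD2_c3 LD3_c2)) = (LP (LK LD1_c11 LD2_c9 LD3_c7)) :=
  Lre_b IH (LK LD1_c20 LD2_c3 LD3_c2) (LK LD1_c11 LD2_c9 LD3_c7) Lrfl Lrfl
theorem f197619 : Led Lsl_bt (LP (LK LD1_c16 LD2_c42 LD3_c52)) = (LP (LK LD1_c26 LD2_c41 LD3_c35)) :=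
  Lre_b IH (LK LD1_c16 LD2_c42 LD3_c52) (LK LD1_c26 LD2_c41 LD3_c35) Lrfl Lrfl
theorem f197614 : Led Lsl_ct (LP (LK LD1_c8 LD2_c55 LD3_c46)) = (LP (LK LD1_c16 LD2_c42 LD3_c52)) :=
  Lre_c IH (LK LD1_c8 LD2_c55 LD3_c46) (LK LD1_c16 LD2_c42 LD3_c52) Lrfl Lrfl
theorem f228041 : Led Lsl_et (LP (LK LD1_c2 LD2_c6 LD3_c60)) = (LP (LK LD1_c4 LD2_c19 LD3_c10)) :=
  Lre_e IH (LK LD1_c2 LD2_c6 LD3_c60) (LK LD1_c4 LD2_c19 LD3_c10) Lrfl Lrfl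
theorem f197583 : Led Lsl_et (LP (LK LD1_c4 LD2_c28 LD3_c44)) = (LP (LK LD1_c2 LD2_c11 LD3_c24)) :=
  Lre_e IH (LK LD1_c4 LD2_c28 LD3_c44) (LK LD1_c2 LD2_c11 LD3_c24) Lrfl Lrfl
theorem f228042 : Led Lsl_bt (LP (LK LD1_c4 LD2_c19 LD3_c10)) = (LP (LK LD1_c4 LD2_c28 LD3_c44)) :=
  Lgr Lrot119 (Lpe (f228041 IH) (Lpr_bf (f228028 IH) (Lpe (f197583 IH) (Lpn (LP (LK LD1_c4 LD2_c28 LD3_c44))))))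
theorem f228048 : Led Lsl_ft (LP (LK LD1_c8 LD2_c36 LD3_c46)) = (LP (LK LD1_c4 LD2_c19 LD3_c10)) :=
  Lre_f IH (LK LD1_c8 LD2_c36 LD3_c46) (LK LD1_c4 LD2_c19 LD3_c10) Lrfl Lrfl
theorem f197605 : Led Lsl_ft (LP (LK LD1_c4 LD2_c28 LD3_c44)) = (LP (LK LD1_c8 LD2_c55 LD3_c46)) :=
  Lre_f IH (LK LD1_c4 LD2_c28 LD3_c44) (LK LD1_c8 LD2_c55 LD3_c46) Lrfl Lrfl
theorem f228049 : Led Lsl_bf (LP (LK LD1_c8 LD2_c36 LD3_c46)) = (LP (LK LD1_c8 LD2_c55 LD3_c46)) :=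
  Lgr Lrot61 (Lpr_ft (f228048 IH) (Lpr_bt (f228042 IH) (Lpr_ft (f197605 IH) (Lpn (LP (LK LD1_c8 LD2_c55 LD3_c46))))))
theorem f228051 : Led Lsl_bt (LP (LK LD1_c8 LD2_c36 LD3_c46)) = (LP (LK LD1_c8 LD2_c55 LD3_c46)) :=
  Lgr Lrot127 (Lpr_bf (f228049 IH) (Lpn (LP (LK LD1_c8 LD2_c55 LD3_c46))))
theorem f228135 : Led Lsl_ct (LP (LK LD1_c11 LD2_c9 LD3_c7)) = (LP (LK LD1_c8 LD2_c36 LD3_c46)) :=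
  Lgr Lrot83 (Lpe (f228133 IH) (Lpr_cf (f228129 IH) (Lpe (f197619 IH) (Lpe (f197614 IH) (Lpe (f228051 IH) (Lpn (LP (LK LD1_c8 LD2_c36 LD3_c46))))))))
theorem f228142 : Led Lsl_ft (LP (LK LD1_c5 LD2_c39 LD3_c3)) = (LP (LK LD1_c11 LD2_c9 LD3_c7)) :=
  Lre_f IH (LK LD1_c5 LD2_c39 LD3_c3) (LK LD1_c11 LD2_c9 LD3_c7) Lrfl Lrfl
theorem f228143 : Led Lsl_cf (LP (LK LD1_c5 LD2_c39 LD3_c3)) = (LP (LK LD1_c4 LD2_c19 LD3_c10)) :=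
  Lgr Lrot108 (Lpr_ft (f228142 IH) (Lpr_ct (f228135 IH) (Lpr_ft (f228048 IH) (Lpn (LP (LK LD1_c4 LD2_c19 LD3_c10))))))
theorem f228149 : Led Lsl_et (LP (LK LD1_c5 LD2_c39 LD3_c3)) = (LP (LK LD1_c2 LD2_c45 LD3_c30)) :=
  Lre_e IH (LK LD1_c5 LD2_c39 LD3_c3) (LK LD1_c2 LD2_c45 LD3_c30) Lrfl Lrfl
theorem f228150 : Led Lsl_ct (LP (LK LD1_c2 LD2_c45 LD3_c30)) = (LP (LK LD1_c2 LD2_c6 LD3_c60)) :=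
  Lgr Lrot15 (Lpe (f228149 IH) (Lpr_cf (f228143 IH) (Lpe (f228041 IH) (Lpn (LP (LK LD1_c2 LD2_c6 LD3_c60))))))
theorem f8006 : Led Lsl_bt (LP (LK LD1_c0 LD2_c12 LD3_c11)) = (LP (LK LD1_c0 LD2_c5 LD3_c36)) :=
  Lre_b IH (LK LD1_c0 LD2_c12 LD3_c11) (LK LD1_c0 LD2_c5 LD3_c36) Lrfl Lrfl
theorem f193364 : Led Lsl_gt (LP (LK LD1_c0 LD2_c27 LD3_c32)) = (LP (LK LD1_c0 LD2_c25 LD3_c11)) :=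
  Lgr Lrot65 (Lpe (f170068 IH) (Lpr_bt (f8006 IH) (Lpr_gf (K9.f180235 IH) (Lpe (K9.f27948 IH) (Lpr_ct (K1.f27950 IH) (Lpe (K9.f180241 IH) (Lpe (K9.f1710 IH) (Lpr_gf (K10.f193362 IH) (Lpe (K10.f51568 IH) (Lpr_ct (f52259 IH) (Lpn (LP (LK LD1_c0 LD2_c25 LD3_c11)))))))))))))
theorem f200888 : Led Lsl_ct (LP (LK LD1_c0 LD2_c59 LD3_c21)) = (LP (LK LD1_c2 LD2_c4 LD3_c41)) :=
  Lre_c IH (LK LD1_c0 LD2_c59 LD3_c21) (LK LD1_c2 LD2_c4 LD3_c41) Lrfl Lrfl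
theorem f216384 : Led Lsl_gt (LP (LK LD1_c2 LD2_c4 LD3_c41)) = (LP (LK LD1_c1 LD2_c59 LD3_c4)) :=
  Lgr Lrot150 (Lpe (f200888 IH) (Lpe (K11.f190952 IH) (Lpe (K11.f27781 IH) (Lpr_gt (f8096 IH) (Lpr_ct (f216369 IH) (Lpr_gt (f27953 IH) (Lpr_ct (K1.f27950 IH) (Lpe (K9.f27968 IH) (Lpe (K10.f52236 IH) (Lpn (LP (LK LD1_c1 LD2_c59 LD3_c4))))))))))))
theorem f228154 : Led Lsl_dt (LP (LK LD1_c1 LD2_c19 LD3_c7)) = (LP (LK LD1_c2 LD2_c4 LD3_c41)) :=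
  Lgr Lrot115 (Lpe (f178108 IH) (Lpr_ct (f228150 IH) (Lpr_gt (f8009 IH) (Lpr_dt (f8008 IH) (Lpr_gt (f193364 IH) (Lpr_dt (K10.f28151 IH) (Lpr_ct (K10.f52246 IH) (Lpr_df (f52243 IH) (Lpe (f216384 IH) (Lpn (LP (LK LD1_c2 LD2_c4 LD3_c41))))))))))))
theorem f196936 : Led Lsl_ct (LP (LK LD1_c2 LD2_c45 LD3_c27)) = (LP (LK LD1_c1 LD2_c19 LD3_c6)) :=
  Lre_c IH (LK LD1_c2 LD2_c45 LD3_c27) (LK LD1_c1 LD2_c19 LD3_c6) Lrfl Lrfl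
theorem f228267 : Led Lsl_gf (LP (LK LD1_c2 LD2_c45 LD3_c27)) = (LP (LK LD1_c1 LD2_c58 LD3_c42)) :=
  Lgr Lrot179 (Lpr_ct (f196936 IH) (Lpr_gt (f179308 IH) (Lpr_ct (f178081 IH) (Lpr_dt (f228154 IH) (Lpe (f200888 IH) (Lpe (K11.f190952 IH) (Lpe (K10.f52671 IH) (Lpr_gf (K11.f200818 IH) (Lpe (K11.f200820 IH) (Lpn (LP (LK LD1_c1 LD2_c58 LD3_c42))))))))))))
theorem f196937 : Led Lsl_ct (LP (LK LD1_c1 LD2_c19 LD3_c6)) = (LP (LK LD1_c2 LD2_c45 LD3_c27)) :=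
  Lre_c IH (LK LD1_c1 LD2_c19 LD3_c6) (LK LD1_c2 LD2_c45 LD3_c27) Lrfl Lrfl
theorem f199591 : Led Lsl_bt (LP (LK LD1_c0 LD2_c56 LD3_c11)) = (LP (LK LD1_c1 LD2_c58 LD3_c38)) :=
  Lre_b IH (LK LD1_c0 LD2_c56 LD3_c11) (LK LD1_c1 LD2_c58 LD3_c38) Lrfl Lrfl
theorem f199015 : Led Lsl_gt (LP (LK LD1_c4 LD2_c3 LD3_c19)) = (LP (LK LD1_c1 LD2_c58 LD3_c38)) :=
  Lre_g IH (LK LD1_c4 LD2_c3 LD3_c19) (LK LD1_c1 LD2_c58 LD3_c38) Lrfl Lrfl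
theorem f188894 : Led Lsl_gt (LP (LK LD1_c2 LD2_c4 LD3_c25)) = (LP (LK LD1_c1 LD2_c14 LD3_c6)) :=
  Lgr Lrot46 (Lpr_gf (K10.f188736 IH) (Lpr_ft (K10.f188840 IH) (Lpr_at (K8.f33423 IH) (Lpn (LP (LK LD1_c1 LD2_c14 LD3_c6))))))
theorem f167320 : Led Lsl_ct (LP (LK LD1_c0 LD2_c59 LD3_c13)) = (LP (LK LD1_c2 LD2_c4 LD3_c25)) :=
  Lre_c IH (LK LD1_c0 LD2_c59 LD3_c13) (LK LD1_c2 LD2_c4 LD3_c25) Lrfl Lrfl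
theorem f27506 : Led Lsl_gt (LP (LK LD1_c4 LD2_c13 LD3_c53)) = (LP (LK LD1_c2 LD2_c4 LD3_c29)) :=
  Lre_g IH (LK LD1_c4 LD2_c13 LD3_c53) (LK LD1_c2 LD2_c4 LD3_c29) Lrfl Lrfl
theorem f188896 : Led Lsl_ct (LP (LK LD1_c2 LD2_c4 LD3_c29)) = (LP (LK LD1_c4 LD2_c14 LD3_c12)) :=
  Lre_c IH (LK LD1_c2 LD2_c4 LD3_c29) (LK LD1_c4 LD2_c14 LD3_c12) Lrfl Lrfl
theorem f188897 : Led Lsl_gt (LP (LK LD1_c4 LD2_c14 LD3_c12)) = (LP (LK LD1_c2 LD2_c34 LD3_c17)) :=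
  Lgr Lrot150 (Lpe (f188896 IH) (Lpe (f27506 IH) (Lpe (f27497 IH) (Lpr_gt (f27518 IH) (Lpr_ct (f167320 IH) (Lpr_gt (f188894 IH) (Lpr_ct (K8.f33428 IH) (Lpe (K10.f33436 IH) (Lpe (K11.f33437 IH) (Lpn (LP (LK LD1_c2 LD2_c34 LD3_c17))))))))))))
theorem f188939 : Led Lsl_gt (LP (LK LD1_c4 LD2_c29 LD3_c2)) = (LP (LK LD1_c4 LD2_c14 LD3_c12)) :=
  Lgr Lrot5 (Lpr_ft (f188928 IH) (Lpr_at (f33459 IH) (Lpe (f188897 IH) (Lpn (LP (LK LD1_c4 LD2_c14 LD3_c12))))))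
theorem f188907 : Led Lsl_bt (LP (LK LD1_c2 LD2_c4 LD3_c29)) = (LP (LK LD1_c4 LD2_c14 LD3_c11)) :=
  Lre_b IH (LK LD1_c2 LD2_c4 LD3_c29) (LK LD1_c4 LD2_c14 LD3_c11) Lrfl Lrfl
theorem f223207 : Led Lsl_gf (LP (LK LD1_c4 LD2_c4 LD3_c61)) = (LP (LK LD1_c4 LD2_c14 LD3_c11)) :=
  Lgr Lrot181 (Lpe (f223205 IH) (Lpr_gt (f223204 IH) (Lpe (f223203 IH) (Lpr_bt (f223198 IH) (Lpr_gt (f223194 IH) (Lpe (f201118 IH) (Lpr_ct (f188615 IH) (Lpr_gt (f188939 IH) (Lpe (f188896 IH) (Lpr_bt (f188907 IH) (Lpn (LP (LK LD1_c4 LD2_c14 LD3_c11)))))))))))))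
theorem f213898 : Led Lsl_dt (LP (LK LD1_c1 LD2_c9 LD3_c53)) = (LP (LK LD1_c2 LD2_c25 LD3_c15)) :=
  Lre_d IH (LK LD1_c1 LD2_c9 LD3_c53) (LK LD1_c2 LD2_c25 LD3_c15) Lrfl Lrfl
theorem f169261 : Led Lsl_ct (LP (LK LD1_c2 LD2_c25 LD3_c15)) = (LP (LK LD1_c4 LD2_c54 LD3_c44)) :=
  Lre_c IH (LK LD1_c2 LD2_c25 LD3_c15) (LK LD1_c4 LD2_c54 LD3_c44) Lrfl Lrfl
theorem f220610 : Led Lsl_gf (LP (LK LD1_c1 LD2_c59 LD3_c36)) = (LP (LK LD1_c2 LD2_c5 LD3_c17)) :=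
  Lgr Lrot126 (Lpe (K10.f44487 IH) (Lpe (K10.f53728 IH) (Lpr_gt (f219945 IH) (Lpr_ct (f219930 IH) (Lpr_gt (f220598 IH) (Lpr_cf (f216828 IH) (Lpr_bt (f51437 IH) (Lpr_gt (f1380 IH) (Lpe (f53435 IH) (Lpr_ct (f53436 IH) (Lpn (LP (LK LD1_c2 LD2_c5 LD3_c17)))))))))))))
theorem f44504 : Led Lsl_et (LP (LK LD1_c0 LD2_c56 LD3_c43)) = (LP (LK LD1_c1 LD2_c59 LD3_c36)) :=
  Lre_e IH (LK LD1_c0 LD2_c56 LD3_c43) (LK LD1_c1 LD2_c59 LD3_c36) Lrfl Lrfl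
theorem f216300 : Led Lsl_gt (LP (LK LD1_c2 LD2_c25 LD3_c18)) = (LP (LK LD1_c4 LD2_c54 LD3_c49)) :=
  Lre_g IH (LK LD1_c2 LD2_c25 LD3_c18) (LK LD1_c4 LD2_c54 LD3_c49) Lrfl Lrfl
theorem f188779 : Led Lsl_et (LP (LK LD1_c4 LD2_c15 LD3_c52)) = (LP (LK LD1_c2 LD2_c5 LD3_c17)) :=
  Lre_e IH (LK LD1_c4 LD2_c15 LD3_c52) (LK LD1_c2 LD2_c5 LD3_c17) Lrfl Lrfl
theorem f220615 : Led Lsl_df (LP (LK LD1_c4 LD2_c54 LD3_c49)) = (LP (LK LD1_c4 LD2_c15 LD3_c52)) :=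
  Lgr Lrot132 (Lpe (f216300 IH) (Lpe (f214012 IH) (Lpe (f216296 IH) (Lpe (K0.f27725 IH) (Lpe (K0.f27704 IH) (Lpe (K1.f45785 IH) (Lpr_df (K8.f47502 IH) (Lpr_et (f44504 IH) (Lpr_gf (f220610 IH) (Lpe (f188779 IH) (Lpn (LP (LK LD1_c4 LD2_c15 LD3_c52)))))))))))))
theorem f220618 : Led Lsl_dt (LP (LK LD1_c4 LD2_c54 LD3_c49)) = (LP (LK LD1_c4 LD2_c15 LD3_c52)) :=
  Lgr Lrot42 (Lpr_df (f220615 IH) (Lpn (LP (LK LD1_c4 LD2_c15 LD3_c52))))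
theorem f172020 : Led Lsl_dt (LP (LK LD1_c0 LD2_c35 LD3_c10)) = (LP (LK LD1_c1 LD2_c15 LD3_c51)) :=
  Lre_d IH (LK LD1_c0 LD2_c35 LD3_c10) (LK LD1_c1 LD2_c15 LD3_c51) Lrfl Lrfl
theorem f182169 : Led Lsl_gt (LP (LK LD1_c1 LD2_c15 LD3_c51)) = (LP (LK LD1_c2 LD2_c37 LD3_c39)) :=
  Lre_g IH (LK LD1_c1 LD2_c15 LD3_c51) (LK LD1_c2 LD2_c37 LD3_c39) Lrfl Lrfl
theorem f220617 : Led Lsl_ct (LP (LK LD1_c2 LD2_c5 LD3_c19)) = (LP (LK LD1_c4 LD2_c15 LD3_c52)) :=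
  Lre_c IH (LK LD1_c2 LD2_c5 LD3_c19) (LK LD1_c4 LD2_c15 LD3_c52) Lrfl Lrfl
theorem f220632 : Led Lsl_dt (LP (LK LD1_c2 LD2_c37 LD3_c39)) = (LP (LK LD1_c2 LD2_c5 LD3_c19)) :=
  Lgr Lrot105 (Lpe (f182169 IH) (Lpe (f172020 IH) (Lpr_gf (K9.f182167 IH) (Lpr_cf (K10.f53137 IH) (Lpr_gt (f216296 IH) (Lpr_dt (f214012 IH) (Lpr_gt (f216300 IH) (Lpr_dt (f220618 IH) (Lpe (f220617 IH) (Lpn (LP (LK LD1_c2 LD2_c5 LD3_c19))))))))))))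
theorem f220564 : Led Lsl_bt (LP (LK LD1_c2 LD2_c5 LD3_c19)) = (LP (LK LD1_c0 LD2_c59 LD3_c45)) :=
  Lre_b IH (LK LD1_c2 LD2_c5 LD3_c19) (LK LD1_c0 LD2_c59 LD3_c45) Lrfl Lrfl
theorem f220634 : Led Lsl_bf (LP (LK LD1_c2 LD2_c37 LD3_c39)) = (LP (LK LD1_c1 LD2_c17 LD3_c18)) :=
  Lgr Lrot93 (Lpr_dt (f220632 IH) (Lpr_bt (f220564 IH) (Lpe (f220562 IH) (Lpn (LP (LK LD1_c1 LD2_c17 LD3_c18))))))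
theorem f220645 : Led Lsl_bt (LP (LK LD1_c0 LD2_c35 LD3_c12)) = (LP (LK LD1_c1 LD2_c15 LD3_c51)) :=
  Lre_b IH (LK LD1_c0 LD2_c35 LD3_c12) (LK LD1_c1 LD2_c15 LD3_c51) Lrfl Lrfl
theorem f196602 : Led Lsl_gt (LP (LK LD1_c2 LD2_c37 LD3_c61)) = (LP (LK LD1_c1 LD2_c15 LD3_c59)) :=
  Lre_g IH (LK LD1_c2 LD2_c37 LD3_c61) (LK LD1_c1 LD2_c15 LD3_c59) Lrfl Lrfl
theorem f196603 : Led Lsl_ct (LP (LK LD1_c5 LD2_c22 LD3_c58)) = (LP (LK LD1_c2 LD2_c37 LD3_c61)) :=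
  Lre_c IH (LK LD1_c5 LD2_c22 LD3_c58) (LK LD1_c2 LD2_c37 LD3_c61) Lrfl Lrfl
theorem f220565 : Led Lsl_ct (LP (LK LD1_c1 LD2_c17 LD3_c18)) = (LP (LK LD1_c2 LD2_c41 LD3_c14)) :=
  Lre_c IH (LK LD1_c1 LD2_c17 LD3_c18) (LK LD1_c2 LD2_c41 LD3_c14) Lrfl Lrfl
theorem f190822 : Led Lsl_dt (LP (LK LD1_c2 LD2_c1 LD3_c54)) = (LP (LK LD1_c0 LD2_c57 LD3_c56)) :=
  Lre_d IH (LK LD1_c2 LD2_c1 LD3_c54) (LK LD1_c0 LD2_c57 LD3_c56) Lrfl Lrfl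
theorem f220605 : Led Lsl_ct (LP (LK LD1_c4 LD2_c9 LD3_c2)) = (LP (LK LD1_c2 LD2_c1 LD3_c54)) :=
  Lre_c IH (LK LD1_c4 LD2_c9 LD3_c2) (LK LD1_c2 LD2_c1 LD3_c54) Lrfl Lrfl
theorem f220606 : Led Lsl_gt (LP (LK LD1_c2 LD2_c41 LD3_c14)) = (LP (LK LD1_c4 LD2_c9 LD3_c2)) :=
  Lgr Lrot150 (Lpe (f220565 IH) (Lpr_gf (f220582 IH) (Lpe (f53085 IH) (Lpr_gt (f220598 IH) (Lpr_ct (f216832 IH) (Lpr_gt (f574 IH) (Lpr_ct (f51449 IH) (Lpe (f190822 IH) (Lpe (f220605 IH) (Lpn (LP (LK LD1_c4 LD2_c9 LD3_c2))))))))))))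
theorem f220732 : Led Lsl_ct (LP (LK LD1_c2 LD2_c1 LD3_c54)) = (LP (LK LD1_c4 LD2_c9 LD3_c2)) :=
  Lre_c IH (LK LD1_c2 LD2_c1 LD3_c54) (LK LD1_c4 LD2_c9 LD3_c2) Lrfl Lrfl
theorem f220733 : Led Lsl_bt (LP (LK LD1_c2 LD2_c1 LD3_c54)) = (LP (LK LD1_c4 LD2_c9 LD3_c0)) :=
  Lre_b IH (LK LD1_c2 LD2_c1 LD3_c54) (LK LD1_c4 LD2_c9 LD3_c0) Lrfl Lrfl
theorem f220734 : Led Lsl_gf (LP (LK LD1_c5 LD2_c22 LD3_c58)) = (LP (LK LD1_c4 LD2_c9 LD3_c0)) :=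
  Lgr Lrot181 (Lpr_ct (f196603 IH) (Lpr_gt (f196602 IH) (Lpe (f196710 IH) (Lpr_bt (f220645 IH) (Lpr_gt (f182169 IH) (Lpr_bf (f220634 IH) (Lpr_ct (f220565 IH) (Lpr_gt (f220606 IH) (Lpe (f220732 IH) (Lpr_bt (f220733 IH) (Lpn (LP (LK LD1_c4 LD2_c9 LD3_c0)))))))))))))
theorem f196601 : Led Lsl_ct (LP (LK LD1_c1 LD2_c15 LD3_c59)) = (LP (LK LD1_c0 LD2_c35 LD3_c12)) :=
  Lre_c IH (LK LD1_c1 LD2_c15 LD3_c59) (LK LD1_c0 LD2_c35 LD3_c12) Lrfl Lrfl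
theorem f220736 : Led Lsl_dt (LP (LK LD1_c2 LD2_c1 LD3_c53)) = (LP (LK LD1_c4 LD2_c9 LD3_c0)) :=
  Lre_d IH (LK LD1_c2 LD2_c1 LD3_c53) (LK LD1_c4 LD2_c9 LD3_c0) Lrfl Lrfl
theorem f220738 : Led Lsl_gf (LP (LK LD1_c2 LD2_c4 LD3_c0)) = (LP (LK LD1_c2 LD2_c1 LD3_c53)) :=
  Lgr Lrot147 (Lpe (K9.f47484 IH) (Lpe (f196592 IH) (Lpr_ct (K10.f171878 IH) (Lpe (f196604 IH) (Lpe (f196601 IH) (Lpe (f196602 IH) (Lpe (f196603 IH) (Lpr_gf (f220734 IH) (Lpe (f220736 IH) (Lpn (LP (LK LD1_c2 LD2_c1 LD3_c53))))))))))))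
theorem f53143 : Led Lsl_at (LP (LK LD1_c0 LD2_c59 LD3_c0)) = (LP (LK LD1_c2 LD2_c4 LD3_c0)) :=
  Lre_a IH (LK LD1_c0 LD2_c59 LD3_c0) (LK LD1_c2 LD2_c4 LD3_c0) Lrfl Lrfl
theorem f220746 : Led Lsl_gt (LP (LK LD1_c1 LD2_c19 LD3_c3)) = (LP (LK LD1_c2 LD2_c1 LD3_c53)) :=
  Lgr Lrot5 (Lpe (K10.f196573 IH) (Lpr_at (f53143 IH) (Lpr_gf (f220738 IH) (Lpn (LP (LK LD1_c2 LD2_c1 LD3_c53))))))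
theorem f194661 : Led Lsl_dt (LP (LK LD1_c1 LD2_c19 LD3_c3)) = (LP (LK LD1_c2 LD2_c45 LD3_c21)) :=
  Lre_d IH (LK LD1_c1 LD2_c19 LD3_c3) (LK LD1_c2 LD2_c45 LD3_c21) Lrfl Lrfl
theorem f190825 : Led Lsl_bt (LP (LK LD1_c2 LD2_c1 LD3_c53)) = (LP (LK LD1_c0 LD2_c57 LD3_c56)) :=
  Lre_b IH (LK LD1_c2 LD2_c1 LD3_c53) (LK LD1_c0 LD2_c57 LD3_c56) Lrfl Lrfl
theorem f212504 : Led Lsl_ct (LP (LK LD1_c2 LD2_c1 LD3_c53)) = (LP (LK LD1_c1 LD2_c9 LD3_c50)) :=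
  Lgr Lrot10 (Lpr_bt (f190825 IH) (Lpr_gt (f190817 IH) (Lpr_ct (K8.f48159 IH) (Lpr_gt (f212495 IH) (Lpe (f173251 IH) (Lpr_bt (f173177 IH) (Lpr_gt (K9.f40803 IH) (Lpe (K9.f167790 IH) (Lpr_ct (K9.f167791 IH) (Lpr_gt (f40822 IH) (Lpn (LP (LK LD1_c1 LD2_c9 LD3_c50)))))))))))))
theorem f41270 : Led Lsl_dt (LP (LK LD1_c0 LD2_c35 LD3_c0)) = (LP (LK LD1_c0 LD2_c15 LD3_c43)) :=
  Lre_d IH (LK LD1_c0 LD2_c35 LD3_c0) (LK LD1_c0 LD2_c15 LD3_c43) Lrfl Lrfl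
theorem f220752 : Led Lsl_ct (LP (LK LD1_c1 LD2_c15 LD3_c33)) = (LP (LK LD1_c0 LD2_c35 LD3_c0)) :=
  Lre_c IH (LK LD1_c1 LD2_c15 LD3_c33) (LK LD1_c0 LD2_c35 LD3_c0) Lrfl Lrfl
theorem f191951 : Led Lsl_gt (LP (LK LD1_c2 LD2_c37 LD3_c6)) = (LP (LK LD1_c1 LD2_c15 LD3_c33)) :=
  Lre_g IH (LK LD1_c2 LD2_c37 LD3_c6) (LK LD1_c1 LD2_c15 LD3_c33) Lrfl Lrfl
theorem f218843 : Led Lsl_ct (LP (LK LD1_c5 LD2_c20 LD3_c59)) = (LP (LK LD1_c2 LD2_c37 LD3_c6)) :=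
  Lre_c IH (LK LD1_c5 LD2_c20 LD3_c59) (LK LD1_c2 LD2_c37 LD3_c6) Lrfl Lrfl
theorem f220753 : Led Lsl_gt (LP (LK LD1_c2 LD2_c45 LD3_c21)) = (LP (LK LD1_c5 LD2_c20 LD3_c59)) :=
  Lgr Lrot9 (Lpe (f194661 IH) (Lpr_gt (f220746 IH) (Lpr_ct (f212504 IH) (Lpr_gt (f41974 IH) (Lpr_ct (K1.f41273 IH) (Lpe (f41270 IH) (Lpe (f220752 IH) (Lpe (f191951 IH) (Lpe (f218843 IH) (Lpn (LP (LK LD1_c5 LD2_c20 LD3_c59))))))))))))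
theorem f196843 : Led Lsl_bt (LP (LK LD1_c1 LD2_c19 LD3_c4)) = (LP (LK LD1_c2 LD2_c45 LD3_c21)) :=
  Lre_b IH (LK LD1_c1 LD2_c19 LD3_c4) (LK LD1_c2 LD2_c45 LD3_c21) Lrfl Lrfl
theorem f200808 : Led Lsl_bt (LP (LK LD1_c0 LD2_c56 LD3_c16)) = (LP (LK LD1_c1 LD2_c58 LD3_c56)) :=
  Lre_b IH (LK LD1_c0 LD2_c56 LD3_c16) (LK LD1_c1 LD2_c58 LD3_c56) Lrfl Lrfl
theorem f41759 : Led Lsl_bt (LP (LK LD1_c0 LD2_c35 LD3_c0)) = (LP (LK LD1_c1 LD2_c2 LD3_c31)) :=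
  Lre_b IH (LK LD1_c0 LD2_c35 LD3_c0) (LK LD1_c1 LD2_c2 LD3_c31) Lrfl Lrfl
theorem f220767 : Led Lsl_gf (LP (LK LD1_c1 LD2_c58 LD3_c56)) = (LP (LK LD1_c1 LD2_c2 LD3_c31)) :=
  Lgr Lrot124 (Lpe (f200808 IH) (Lpr_ct (K11.f199145 IH) (Lpe (K11.f200798 IH) (Lpr_cf (K10.f196905 IH) (Lpr_bt (f196843 IH) (Lpr_gt (f220753 IH) (Lpr_ct (f218843 IH) (Lpr_gt (f191951 IH) (Lpe (f42176 IH) (Lpr_bt (f41759 IH) (Lpn (LP (LK LD1_c1 LD2_c2 LD3_c31)))))))))))))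
theorem f220795 : Led Lsl_at (LP (LK LD1_c2 LD2_c11 LD3_c0)) = (LP (LK LD1_c1 LD2_c2 LD3_c41)) :=
  Lre_a IH (LK LD1_c2 LD2_c11 LD3_c0) (LK LD1_c1 LD2_c2 LD3_c41) Lrfl Lrfl
theorem f220796 : Led Lsl_gt (LP (LK LD1_c1 LD2_c58 LD3_c56)) = (LP (LK LD1_c1 LD2_c2 LD3_c41)) :=
  Lgr Lrot46 (Lpr_gf (f220767 IH) (Lpr_ft (K1.f41707 IH) (Lpr_at (f220795 IH) (Lpn (LP (LK LD1_c1 LD2_c2 LD3_c41))))))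
theorem f44971 : Led Lsl_gt (LP (LK LD1_c2 LD2_c4 LD3_c29)) = (LP (LK LD1_c0 LD2_c59 LD3_c14)) :=
  Lre_g IH (LK LD1_c2 LD2_c4 LD3_c29) (LK LD1_c0 LD2_c59 LD3_c14) Lrfl Lrfl
theorem f200813 : Led Lsl_bt (LP (LK LD1_c4 LD2_c14 LD3_c11)) = (LP (LK LD1_c2 LD2_c4 LD3_c29)) :=
  Lre_b IH (LK LD1_c4 LD2_c14 LD3_c11) (LK LD1_c2 LD2_c4 LD3_c29) Lrfl Lrfl
theorem f44735 : Led Lsl_gt (LP (LK LD1_c2 LD2_c11 LD3_c22)) = (LP (LK LD1_c4 LD2_c27 LD3_c37)) :=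
  Lre_g IH (LK LD1_c2 LD2_c11 LD3_c22) (LK LD1_c4 LD2_c27 LD3_c37) Lrfl Lrfl
theorem f220858 : Led Lsl_ct (LP (LK LD1_c4 LD2_c14 LD3_c11)) = (LP (LK LD1_c4 LD2_c27 LD3_c37)) :=
  Lgr Lrot63 (Lpr_bt (f200813 IH) (Lpr_gt (f44971 IH) (Lpe (f188617 IH) (Lpr_ct (K11.f52667 IH) (Lpr_gt (K11.f200796 IH) (Lpe (K11.f199145 IH) (Lpr_bt (f200808 IH) (Lpr_gt (f220796 IH) (Lpr_ct (K9.f44737 IH) (Lpr_gt (f44735 IH) (Lpn (LP (LK LD1_c4 LD2_c27 LD3_c37)))))))))))))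
theorem f220864 : Led Lsl_cf (LP (LK LD1_c4 LD2_c14 LD3_c11)) = (LP (LK LD1_c4 LD2_c27 LD3_c37)) :=
  Lgr Lrot11 (Lpr_ct (f220858 IH) (Lpn (LP (LK LD1_c4 LD2_c27 LD3_c37))))
theorem f220800 : Led Lsl_gt (LP (LK LD1_c4 LD2_c27 LD3_c37)) = (LP (LK LD1_c2 LD2_c10 LD3_c61)) :=
  Lre_g IH (LK LD1_c4 LD2_c27 LD3_c37) (LK LD1_c2 LD2_c10 LD3_c61) Lrfl Lrfl
theorem f168602 : Led Lsl_dt (LP (LK LD1_c2 LD2_c10 LD3_c61)) = (LP (LK LD1_c4 LD2_c27 LD3_c39)) :=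
  Lre_d IH (LK LD1_c2 LD2_c10 LD3_c61) (LK LD1_c4 LD2_c27 LD3_c39) Lrfl Lrfl
theorem f168601 : Led Lsl_gt (LP (LK LD1_c4 LD2_c27 LD3_c39)) = (LP (LK LD1_c8 LD2_c53 LD3_c12)) :=
  Lre_g IH (LK LD1_c4 LD2_c27 LD3_c39) (LK LD1_c8 LD2_c53 LD3_c12) Lrfl Lrfl
theorem f223215 : Led Lsl_df (LP (LK LD1_c4 LD2_c54 LD3_c44)) = (LP (LK LD1_c8 LD2_c53 LD3_c12)) :=
  Lgr Lrot84 (Lpe (f169261 IH) (Lpe (f213898 IH) (Lpe (f213775 IH) (Lpe (K9.f53633 IH) (Lpr_gf (f223207 IH) (Lpr_cf (f220864 IH) (Lpr_gt (f220800 IH) (Lpr_dt (f168602 IH) (Lpr_gt (f168601 IH) (Lpn (LP (LK LD1_c8 LD2_c53 LD3_c12))))))))))))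
theorem f223256 : Led Lsl_dt (LP (LK LD1_c4 LD2_c54 LD3_c44)) = (LP (LK LD1_c8 LD2_c53 LD3_c12)) :=
  Lgr Lrot42 (Lpr_df (f223215 IH) (Lpn (LP (LK LD1_c8 LD2_c53 LD3_c12))))
theorem f183260 : Led Lsl_gt (LP (LK LD1_c8 LD2_c53 LD3_c12)) = (LP (LK LD1_c4 LD2_c28 LD3_c39)) :=
  Lre_g IH (LK LD1_c8 LD2_c53 LD3_c12) (LK LD1_c4 LD2_c28 LD3_c39) Lrfl Lrfl
theorem f183259 : Led Lsl_dt (LP (LK LD1_c4 LD2_c28 LD3_c39)) = (LP (LK LD1_c2 LD2_c11 LD3_c22)) :=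
  Lre_d IH (LK LD1_c4 LD2_c28 LD3_c39) (LK LD1_c2 LD2_c11 LD3_c22) Lrfl Lrfl
theorem f199027 : Led Lsl_dt (LP (LK LD1_c1 LD2_c58 LD3_c38)) = (LP (LK LD1_c0 LD2_c56 LD3_c10)) :=
  Lre_d IH (LK LD1_c1 LD2_c58 LD3_c38) (LK LD1_c0 LD2_c56 LD3_c10) Lrfl Lrfl
theorem f199127 : Led Lsl_ct (LP (LK LD1_c8 LD2_c7 LD3_c14)) = (LP (LK LD1_c4 LD2_c3 LD3_c19)) :=
  Lre_c IH (LK LD1_c8 LD2_c7 LD3_c14) (LK LD1_c4 LD2_c3 LD3_c19) Lrfl Lrfl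
theorem f223288 : Led Lsl_gf (LP (LK LD1_c4 LD2_c54 LD3_c44)) = (LP (LK LD1_c8 LD2_c7 LD3_c14)) :=
  Lgr Lrot144 (Lpr_dt (f223256 IH) (Lpr_gt (f183260 IH) (Lpr_dt (f183259 IH) (Lpe (K9.f44737 IH) (Lpe (K11.f41572 IH) (Lpe (K11.f199118 IH) (Lpe (f199027 IH) (Lpe (f199015 IH) (Lpe (f199127 IH) (Lpn (LP (LK LD1_c8 LD2_c7 LD3_c14))))))))))))
theorem f169260 : Led Lsl_bt (LP (LK LD1_c2 LD2_c25 LD3_c15)) = (LP (LK LD1_c1 LD2_c9 LD3_c55)) :=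
  Lre_b IH (LK LD1_c2 LD2_c25 LD3_c15) (LK LD1_c1 LD2_c9 LD3_c55) Lrfl Lrfl
theorem f169259 : Led Lsl_gt (LP (LK LD1_c1 LD2_c9 LD3_c55)) = (LP (LK LD1_c2 LD2_c25 LD3_c20)) :=
  Lre_g IH (LK LD1_c1 LD2_c9 LD3_c55) (LK LD1_c2 LD2_c25 LD3_c20) Lrfl Lrfl
theorem f169258 : Led Lsl_ct (LP (LK LD1_c2 LD2_c25 LD3_c20)) = (LP (LK LD1_c4 LD2_c54 LD3_c54)) :=
  Lre_c IH (LK LD1_c2 LD2_c25 LD3_c20) (LK LD1_c4 LD2_c54 LD3_c54) Lrfl Lrfl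
theorem f169254 : Led Lsl_gt (LP (LK LD1_c4 LD2_c54 LD3_c54)) = (LP (LK LD1_c2 LD2_c38 LD3_c19)) :=
  Lre_g IH (LK LD1_c4 LD2_c54 LD3_c54) (LK LD1_c2 LD2_c38 LD3_c19) Lrfl Lrfl
theorem f169161 : Led Lsl_ct (LP (LK LD1_c1 LD2_c16 LD3_c6)) = (LP (LK LD1_c2 LD2_c38 LD3_c19)) :=
  Lre_c IH (LK LD1_c1 LD2_c16 LD3_c6) (LK LD1_c2 LD2_c38 LD3_c19) Lrfl Lrfl
theorem f167816 : Led Lsl_dt (LP (LK LD1_c1 LD2_c16 LD3_c6)) = (LP (LK LD1_c0 LD2_c35 LD3_c15)) :=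
  Lre_d IH (LK LD1_c1 LD2_c16 LD3_c6) (LK LD1_c0 LD2_c35 LD3_c15) Lrfl Lrfl
theorem f167817 : Led Lsl_dt (LP (LK LD1_c0 LD2_c34 LD3_c61)) = (LP (LK LD1_c1 LD2_c15 LD3_c29)) :=
  Lre_d IH (LK LD1_c0 LD2_c34 LD3_c61) (LK LD1_c1 LD2_c15 LD3_c29) Lrfl Lrfl
theorem f167818 : Led Lsl_bf (LP (LK LD1_c1 LD2_c16 LD3_c6)) = (LP (LK LD1_c1 LD2_c15 LD3_c29)) :=
  Lgr Lrot93 (Lpr_dt (f167816 IH) (Lpr_bt (K9.f167809 IH) (Lpr_dt (f167817 IH) (Lpn (LP (LK LD1_c1 LD2_c15 LD3_c29))))))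
theorem f169159 : Led Lsl_bt (LP (LK LD1_c1 LD2_c16 LD3_c6)) = (LP (LK LD1_c1 LD2_c15 LD3_c29)) :=
  Lgr Lrot127 (Lpr_bf (f167818 IH) (Lpn (LP (LK LD1_c1 LD2_c15 LD3_c29))))
theorem f27696 : Led Lsl_at (LP (LK LD1_c2 LD2_c4 LD3_c1)) = (LP (LK LD1_c4 LD2_c13 LD3_c24)) :=
  Lre_a IH (LK LD1_c2 LD2_c4 LD3_c1) (LK LD1_c4 LD2_c13 LD3_c24) Lrfl Lrfl
theorem f220763 : Led Lsl_gf (LP (LK LD1_c4 LD2_c13 LD3_c24)) = (LP (LK LD1_c5 LD2_c20 LD3_c59)) :=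
  Lgr Lrot76 (Lpe (f27696 IH) (Lpr_ff (K10.f196841 IH) (Lpr_gt (f220753 IH) (Lpn (LP (LK LD1_c5 LD2_c20 LD3_c59))))))
theorem f169271 : Led Lsl_ct (LP (LK LD1_c3 LD2_c58 LD3_c12)) = (LP (LK LD1_c7 LD2_c57 LD3_c49)) :=
  Lre_c IH (LK LD1_c3 LD2_c58 LD3_c12) (LK LD1_c7 LD2_c57 LD3_c49) Lrfl Lrfl
theorem f218808 : Led Lsl_ct (LP (LK LD1_c2 LD2_c37 LD3_c6)) = (LP (LK LD1_c5 LD2_c20 LD3_c59)) :=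
  Lre_c IH (LK LD1_c2 LD2_c37 LD3_c6) (LK LD1_c5 LD2_c20 LD3_c59) Lrfl Lrfl
theorem f168043 : Led Lsl_dt (LP (LK LD1_c1 LD2_c15 LD3_c33)) = (LP (LK LD1_c2 LD2_c37 LD3_c8)) :=
  Lre_d IH (LK LD1_c1 LD2_c15 LD3_c33) (LK LD1_c2 LD2_c37 LD3_c8) Lrfl Lrfl
theorem f168042 : Led Lsl_gt (LP (LK LD1_c2 LD2_c37 LD3_c8)) = (LP (LK LD1_c5 LD2_c21 LD3_c5)) :=
  Lre_g IH (LK LD1_c2 LD2_c37 LD3_c8) (LK LD1_c5 LD2_c21 LD3_c5) Lrfl Lrfl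
theorem f221543 : Led Lsl_df (LP (LK LD1_c7 LD2_c57 LD3_c49)) = (LP (LK LD1_c5 LD2_c21 LD3_c5)) :=
  Lgr Lrot84 (Lpe (f169271 IH) (Lpe (f169270 IH) (Lpr_gf (K10.f187242 IH) (Lpe (K10.f43267 IH) (Lpr_gf (f220763 IH) (Lpe (f218808 IH) (Lpr_gt (f191951 IH) (Lpr_dt (f168043 IH) (Lpr_gt (f168042 IH) (Lpn (LP (LK LD1_c5 LD2_c21 LD3_c5))))))))))))
theorem f221594 : Led Lsl_dt (LP (LK LD1_c7 LD2_c57 LD3_c49)) = (LP (LK LD1_c5 LD2_c21 LD3_c5)) :=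
  Lgr Lrot42 (Lpr_df (f221543 IH) (Lpn (LP (LK LD1_c5 LD2_c21 LD3_c5))))
theorem f181797 : Led Lsl_gt (LP (LK LD1_c5 LD2_c21 LD3_c5)) = (LP (LK LD1_c2 LD2_c39 LD3_c14)) :=
  Lre_g IH (LK LD1_c5 LD2_c21 LD3_c5) (LK LD1_c2 LD2_c39 LD3_c14) Lrfl Lrfl
theorem f181796 : Led Lsl_dt (LP (LK LD1_c2 LD2_c39 LD3_c14)) = (LP (LK LD1_c1 LD2_c16 LD3_c24)) :=
  Lre_d IH (LK LD1_c2 LD2_c39 LD3_c14) (LK LD1_c1 LD2_c16 LD3_c24) Lrfl Lrfl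
theorem f42256 : Led Lsl_ct (LP (LK LD1_c0 LD2_c35 LD3_c21)) = (LP (LK LD1_c1 LD2_c16 LD3_c24)) :=
  Lre_c IH (LK LD1_c0 LD2_c35 LD3_c21) (LK LD1_c1 LD2_c16 LD3_c24) Lrfl Lrfl
theorem f42146 : Led Lsl_dt (LP (LK LD1_c1 LD2_c15 LD3_c26)) = (LP (LK LD1_c0 LD2_c34 LD3_c60)) :=
  Lre_d IH (LK LD1_c1 LD2_c15 LD3_c26) (LK LD1_c0 LD2_c34 LD3_c60) Lrfl Lrfl
theorem f42471 : Led Lsl_gt (LP (LK LD1_c2 LD2_c36 LD3_c53)) = (LP (LK LD1_c1 LD2_c15 LD3_c26)) :=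
  Lre_g IH (LK LD1_c2 LD2_c36 LD3_c53) (LK LD1_c1 LD2_c15 LD3_c26) Lrfl Lrfl
theorem f221667 : Led Lsl_ct (LP (LK LD1_c5 LD2_c20 LD3_c27)) = (LP (LK LD1_c2 LD2_c36 LD3_c53)) :=
  Lre_c IH (LK LD1_c5 LD2_c20 LD3_c27) (LK LD1_c2 LD2_c36 LD3_c53) Lrfl Lrfl
theorem f221668 : Led Lsl_gf (LP (LK LD1_c7 LD2_c57 LD3_c49)) = (LP (LK LD1_c5 LD2_c20 LD3_c27)) :=
  Lgr Lrot144 (Lpr_dt (f221594 IH) (Lpr_gt (f181797 IH) (Lpr_dt (f181796 IH) (Lpe (f42256 IH) (Lpe (K10.f42158 IH) (Lpe (K9.f42157 IH) (Lpe (f42146 IH) (Lpe (f42471 IH) (Lpe (f221667 IH) (Lpn (LP (LK LD1_c5 LD2_c20 LD3_c27))))))))))))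
theorem f167798 : Led Lsl_ct (LP (LK LD1_c7 LD2_c57 LD3_c49)) = (LP (LK LD1_c3 LD2_c58 LD3_c12)) :=
  Lre_c IH (LK LD1_c7 LD2_c57 LD3_c49) (LK LD1_c3 LD2_c58 LD3_c12) Lrfl Lrfl
theorem f221670 : Led Lsl_ct (LP (LK LD1_c2 LD2_c36 LD3_c53)) = (LP (LK LD1_c5 LD2_c20 LD3_c27)) :=
  Lre_c IH (LK LD1_c2 LD2_c36 LD3_c53) (LK LD1_c5 LD2_c20 LD3_c27) Lrfl Lrfl
theorem f221676 : Led Lsl_gt (LP (LK LD1_c1 LD2_c15 LD3_c29)) = (LP (LK LD1_c2 LD2_c36 LD3_c53)) :=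
  Lgr Lrot9 (Lpe (f167817 IH) (Lpr_gt (K9.f41274 IH) (Lpr_ct (K9.f41256 IH) (Lpr_gt (K9.f41907 IH) (Lpe (f167795 IH) (Lpe (K10.f167797 IH) (Lpe (f167798 IH) (Lpr_gf (f221668 IH) (Lpe (f221670 IH) (Lpn (LP (LK LD1_c2 LD2_c36 LD3_c53))))))))))))
theorem f199126 : Led Lsl_ct (LP (LK LD1_c4 LD2_c3 LD3_c19)) = (LP (LK LD1_c8 LD2_c7 LD3_c14)) :=
  Lre_c IH (LK LD1_c4 LD2_c3 LD3_c19) (LK LD1_c8 LD2_c7 LD3_c14) Lrfl Lrfl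
theorem f223294 : Led Lsl_bf (LP (LK LD1_c2 LD2_c36 LD3_c53)) = (LP (LK LD1_c4 LD2_c3 LD3_c19)) :=
  Lgr Lrot34 (Lpe (f221676 IH) (Lpe (f169159 IH) (Lpr_ct (f169161 IH) (Lpe (f169254 IH) (Lpe (f169258 IH) (Lpe (f169259 IH) (Lpe (f169260 IH) (Lpr_ct (f169261 IH) (Lpr_gf (f223288 IH) (Lpe (f199126 IH) (Lpn (LP (LK LD1_c4 LD2_c3 LD3_c19)))))))))))))
theorem f223300 : Led Lsl_bt (LP (LK LD1_c2 LD2_c36 LD3_c53)) = (LP (LK LD1_c4 LD2_c3 LD3_c19)) :=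
  Lgr Lrot127 (Lpr_bf (f223294 IH) (Lpn (LP (LK LD1_c4 LD2_c3 LD3_c19))))
theorem f167938 : Led Lsl_dt (LP (LK LD1_c0 LD2_c32 LD3_c22)) = (LP (LK LD1_c0 LD2_c14 LD3_c30)) :=
  Lre_d IH (LK LD1_c0 LD2_c32 LD3_c22) (LK LD1_c0 LD2_c14 LD3_c30) Lrfl Lrfl
theorem f167844 : Led Lsl_ct (LP (LK LD1_c0 LD2_c7 LD3_c8)) = (LP (LK LD1_c0 LD2_c14 LD3_c30)) :=
  Lre_c IH (LK LD1_c0 LD2_c7 LD3_c8) (LK LD1_c0 LD2_c14 LD3_c30) Lrfl Lrfl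
theorem f194623 : Led Lsl_gf (LP (LK LD1_c0 LD2_c35 LD3_c15)) = (LP (LK LD1_c1 LD2_c15 LD3_c53)) :=
  Lgr Lrot147 (Lpr_ct (K9.f167808 IH) (Lpr_gt (K9.f42112 IH) (Lpr_ct (f167844 IH) (Lpe (f167938 IH) (Lpe (f55159 IH) (Lpe (K9.f55165 IH) (Lpr_cf (K9.f167926 IH) (Lpr_gf (K10.f194616 IH) (Lpe (K10.f172029 IH) (Lpn (LP (LK LD1_c1 LD2_c15 LD3_c53))))))))))))
theorem f167811 : Led Lsl_bf (LP (LK LD1_c0 LD2_c35 LD3_c15)) = (LP (LK LD1_c0 LD2_c34 LD3_c61)) :=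
  Lgr Lrot24 (Lpr_bt (K9.f167809 IH) (Lpn (LP (LK LD1_c0 LD2_c34 LD3_c61))))
theorem f167815 : Led Lsl_ct (LP (LK LD1_c0 LD2_c34 LD3_c61)) = (LP (LK LD1_c1 LD2_c15 LD3_c28)) :=
  Lre_c IH (LK LD1_c0 LD2_c34 LD3_c61) (LK LD1_c1 LD2_c15 LD3_c28) Lrfl Lrfl
theorem f223739 : Led Lsl_gt (LP (LK LD1_c1 LD2_c15 LD3_c28)) = (LP (LK LD1_c0 LD2_c55 LD3_c28)) :=
  Lgr Lrot65 (Lpe (f167815 IH) (Lpe (f167811 IH) (Lpr_gf (f194623 IH) (Lpe (f196560 IH) (Lpr_ct (K11.f28130 IH) (Lpe (K11.f28164 IH) (Lpe (K11.f53023 IH) (Lpr_gf (f223703 IH) (Lpe (f52690 IH) (Lpe (K10.f53137 IH) (Lpn (LP (LK LD1_c0 LD2_c55 LD3_c28)))))))))))))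
theorem f223741 : Led Lsl_gf (LP (LK LD1_c1 LD2_c15 LD3_c28)) = (LP (LK LD1_c1 LD2_c15 LD3_c50)) :=
  Lgr Lrot47 (Lpr_gt (f223739 IH) (Lpr_af (f50126 IH) (Lpe (f196583 IH) (Lpn (LP (LK LD1_c1 LD2_c15 LD3_c50))))))
theorem f196566 : Led Lsl_gf (LP (LK LD1_c1 LD2_c14 LD3_c35)) = (LP (LK LD1_c0 LD2_c35 LD3_c15)) :=
  Lgr Lrot76 (Lpe (f50604 IH) (Lpr_ff (K10.f196558 IH) (Lpe (f194623 IH) (Lpn (LP (LK LD1_c0 LD2_c35 LD3_c15))))))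
theorem f44325 : Led Lsl_dt (LP (LK LD1_c0 LD2_c14 LD3_c30)) = (LP (LK LD1_c0 LD2_c32 LD3_c22)) :=
  Lre_d IH (LK LD1_c0 LD2_c14 LD3_c30) (LK LD1_c0 LD2_c32 LD3_c22) Lrfl Lrfl
theorem f168191 : Led Lsl_gt (LP (LK LD1_c0 LD2_c14 LD3_c30)) = (LP (LK LD1_c0 LD2_c32 LD3_c20)) :=
  Lre_g IH (LK LD1_c0 LD2_c14 LD3_c30) (LK LD1_c0 LD2_c32 LD3_c20) Lrfl Lrfl
theorem f168193 : Led Lsl_ct (LP (LK LD1_c0 LD2_c32 LD3_c20)) = (LP (LK LD1_c1 LD2_c9 LD3_c54)) :=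
  Lre_c IH (LK LD1_c0 LD2_c32 LD3_c20) (LK LD1_c1 LD2_c9 LD3_c54) Lrfl Lrfl
theorem f168194 : Led Lsl_gt (LP (LK LD1_c1 LD2_c9 LD3_c54)) = (LP (LK LD1_c2 LD2_c25 LD3_c17)) :=
  Lre_g IH (LK LD1_c1 LD2_c9 LD3_c54) (LK LD1_c2 LD2_c25 LD3_c17) Lrfl Lrfl
theorem f217417 : Led Lsl_cf (LP (LK LD1_c1 LD2_c15 LD3_c50)) = (LP (LK LD1_c2 LD2_c25 LD3_c17)) :=
  Lgr Lrot99 (Lpe (f196585 IH) (Lpr_cf (f217302 IH) (Lpe (f168112 IH) (Lpe (f168111 IH) (Lpe (K9.f168085 IH) (Lpe (f44325 IH) (Lpr_gt (f168191 IH) (Lpr_ct (f168193 IH) (Lpr_gt (f168194 IH) (Lpn (LP (LK LD1_c2 LD2_c25 LD3_c17))))))))))))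
theorem f223874 : Led Lsl_bf (LP (LK LD1_c2 LD2_c4 LD3_c18)) = (LP (LK LD1_c2 LD2_c25 LD3_c17)) :=
  Lgr Lrot34 (Lpe (f27516 IH) (Lpe (K10.f188565 IH) (Lpe (f167795 IH) (Lpr_gf (K10.f187242 IH) (Lpe (f53140 IH) (Lpr_gf (f196566 IH) (Lpr_bf (f167811 IH) (Lpr_ct (f167815 IH) (Lpr_gf (f223741 IH) (Lpr_cf (f217417 IH) (Lpn (LP (LK LD1_c2 LD2_c25 LD3_c17)))))))))))))
theorem f27515 : Led Lsl_ft (LP (LK LD1_c2 LD2_c4 LD3_c18)) = (LP (LK LD1_c0 LD2_c59 LD3_c10)) :=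
  Lre_f IH (LK LD1_c2 LD2_c4 LD3_c18) (LK LD1_c0 LD2_c59 LD3_c10) Lrfl Lrfl
theorem f223884 : Led Lsl_ft (LP (LK LD1_c2 LD2_c4 LD3_c0)) = (LP (LK LD1_c2 LD2_c25 LD3_c17)) :=
  Lgr Lrot75 (Lpe (K9.f51411 IH) (Lpe (f27515 IH) (Lpr_bf (f223874 IH) (Lpn (LP (LK LD1_c2 LD2_c25 LD3_c17))))))
theorem f223876 : Led Lsl_bt (LP (LK LD1_c2 LD2_c4 LD3_c18)) = (LP (LK LD1_c2 LD2_c25 LD3_c17)) :=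
  Lgr Lrot127 (Lpr_bf (f223874 IH) (Lpn (LP (LK LD1_c2 LD2_c25 LD3_c17))))
theorem f223882 : Led Lsl_et (LP (LK LD1_c2 LD2_c25 LD3_c17)) = (LP (LK LD1_c2 LD2_c25 LD3_c17)) :=
  Lgr Lrot74 (Lpe (f223876 IH) (Lpe (f27498 IH) (Lpr_bf (f223874 IH) (Lpn (LP (LK LD1_c2 LD2_c25 LD3_c17))))))
theorem f223891 : Led Lsl_ff (LP (LK LD1_c2 LD2_c4 LD3_c0)) = (LP (LK LD1_c2 LD2_c25 LD3_c17)) :=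
  Lgr Lrot72 (Lpr_et (K10.f27766 IH) (Lpr_ft (K1.f27742 IH) (Lpr_et (K9.f27767 IH) (Lpr_ft (f223884 IH) (Lpr_et (f223882 IH) (Lpn (LP (LK LD1_c2 LD2_c25 LD3_c17))))))))
theorem f43273 : Led Lsl_dt (LP (LK LD1_c2 LD2_c4 LD3_c0)) = (LP (LK LD1_c4 LD2_c13 LD3_c24)) :=
  Lre_d IH (LK LD1_c2 LD2_c4 LD3_c0) (LK LD1_c4 LD2_c13 LD3_c24) Lrfl Lrfl
theorem f223822 : Led Lsl_dt (LP (LK LD1_c4 LD2_c54 LD3_c48)) = (LP (LK LD1_c2 LD2_c25 LD3_c17)) :=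
  Lre_d IH (LK LD1_c4 LD2_c54 LD3_c48) (LK LD1_c2 LD2_c25 LD3_c17) Lrfl Lrfl
theorem f223893 : Led Lsl_ft (LP (LK LD1_c4 LD2_c13 LD3_c24)) = (LP (LK LD1_c4 LD2_c54 LD3_c48)) :=
  Lgr Lrot54 (Lpe (f43273 IH) (Lpr_ff (f223891 IH) (Lpe (f223822 IH) (Lpn (LP (LK LD1_c4 LD2_c54 LD3_c48))))))
theorem f50875 : Led Lsl_ft (LP (LK LD1_c4 LD2_c13 LD3_c53)) = (LP (LK LD1_c2 LD2_c4 LD3_c17)) :=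
  Lre_f IH (LK LD1_c4 LD2_c13 LD3_c53) (LK LD1_c2 LD2_c4 LD3_c17) Lrfl Lrfl
theorem f224214 : Led Lsl_bf (LP (LK LD1_c4 LD2_c13 LD3_c53)) = (LP (LK LD1_c4 LD2_c54 LD3_c48)) :=
  Lgr Lrot61 (Lpr_ft (f50875 IH) (Lpr_bt (f43272 IH) (Lpr_ft (f223893 IH) (Lpn (LP (LK LD1_c4 LD2_c54 LD3_c48))))))
theorem f41227 : Led Lsl_gt (LP (LK LD1_c1 LD2_c9 LD3_c51)) = (LP (LK LD1_c2 LD2_c25 LD3_c11)) :=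
  Lre_g IH (LK LD1_c1 LD2_c9 LD3_c51) (LK LD1_c2 LD2_c25 LD3_c11) Lrfl Lrfl
theorem f201127 : Led Lsl_bt (LP (LK LD1_c2 LD2_c4 LD3_c28)) = (LP (LK LD1_c2 LD2_c25 LD3_c11)) :=
  Lgr Lrot92 (Lpr_ct (f188598 IH) (Lpe (f188599 IH) (Lpe (f188615 IH) (Lpr_bt (f201118 IH) (Lpe (f201113 IH) (Lpr_ct (f196417 IH) (Lpr_gt (f196420 IH) (Lpe (f41164 IH) (Lpr_bt (K1.f41201 IH) (Lpr_gt (f41227 IH) (Lpn (LP (LK LD1_c2 LD2_c25 LD3_c11)))))))))))))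
theorem f201129 : Led Lsl_bf (LP (LK LD1_c2 LD2_c4 LD3_c28)) = (LP (LK LD1_c2 LD2_c25 LD3_c11)) :=
  Lgr Lrot24 (Lpr_bt (f201127 IH) (Lpn (LP (LK LD1_c2 LD2_c25 LD3_c11))))
theorem f41229 : Led Lsl_ct (LP (LK LD1_c2 LD2_c25 LD3_c11)) = (LP (LK LD1_c4 LD2_c54 LD3_c34)) :=
  Lre_c IH (LK LD1_c2 LD2_c25 LD3_c11) (LK LD1_c4 LD2_c54 LD3_c34) Lrfl Lrfl
theorem f194618 : Led Lsl_ct (LP (LK LD1_c5 LD2_c22 LD3_c26)) = (LP (LK LD1_c2 LD2_c37 LD3_c46)) :=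
  Lre_c IH (LK LD1_c5 LD2_c22 LD3_c26) (LK LD1_c2 LD2_c37 LD3_c46) Lrfl Lrfl
theorem f217297 : Led Lsl_af (LP (LK LD1_c5 LD2_c22 LD3_c26)) = (LP (LK LD1_c4 LD2_c55 LD3_c17)) :=
  Lgr Lrot68 (Lpr_ct (f194618 IH) (Lpe (f196763 IH) (Lpr_ct (f217295 IH) (Lpn (LP (LK LD1_c4 LD2_c55 LD3_c17))))))
theorem f172030 : Led Lsl_ct (LP (LK LD1_c2 LD2_c37 LD3_c46)) = (LP (LK LD1_c5 LD2_c22 LD3_c26)) :=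
  Lre_c IH (LK LD1_c2 LD2_c37 LD3_c46) (LK LD1_c5 LD2_c22 LD3_c26) Lrfl Lrfl
theorem f201187 : Led Lsl_gf (LP (LK LD1_c5 LD2_c22 LD3_c26)) = (LP (LK LD1_c4 LD2_c54 LD3_c34)) :=
  Lgr Lrot126 (Lpe (f172030 IH) (Lpe (f196534 IH) (Lpr_gt (K11.f28119 IH) (Lpr_ct (K11.f53022 IH) (Lpe (K11.f200818 IH) (Lpe (K11.f52667 IH) (Lpr_bt (f188617 IH) (Lpr_gt (f49893 IH) (Lpr_bf (f201129 IH) (Lpr_ct (f41229 IH) (Lpn (LP (LK LD1_c4 LD2_c54 LD3_c34)))))))))))))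
theorem f217322 : Led Lsl_gt (LP (LK LD1_c5 LD2_c16 LD3_c55)) = (LP (LK LD1_c4 LD2_c54 LD3_c34)) :=
  Lgr Lrot5 (Lpr_ft (f217316 IH) (Lpe (f217297 IH) (Lpr_gf (f201187 IH) (Lpn (LP (LK LD1_c4 LD2_c54 LD3_c34))))))
theorem f194609 : Led Lsl_gt (LP (LK LD1_c2 LD2_c37 LD3_c2)) = (LP (LK LD1_c2 LD2_c35 LD3_c11)) :=
  Lgr Lrot112 (Lpr_df (K10.f194603 IH) (Lpr_et (K10.f194178 IH) (Lpe (K10.f194180 IH) (Lpe (K0.f28720 IH) (Lpe (K8.f47806 IH) (Lpe (K1.f7707 IH) (Lpr_df (f43919 IH) (Lpr_gf (K10.f47490 IH) (Lpe (K9.f47483 IH) (Lpr_dt (K9.f49217 IH) (Lpn (LP (LK LD1_c2 LD2_c35 LD3_c11)))))))))))))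
theorem f42162 : Led Lsl_bt (LP (LK LD1_c1 LD2_c15 LD3_c32)) = (LP (LK LD1_c2 LD2_c37 LD3_c2)) :=
  Lre_b IH (LK LD1_c1 LD2_c15 LD3_c32) (LK LD1_c2 LD2_c37 LD3_c2) Lrfl Lrfl
theorem f42163 : Led Lsl_ct (LP (LK LD1_c1 LD2_c15 LD3_c32)) = (LP (LK LD1_c2 LD2_c37 LD3_c3)) :=
  Lre_c IH (LK LD1_c1 LD2_c15 LD3_c32) (LK LD1_c2 LD2_c37 LD3_c3) Lrfl Lrfl
theorem f44308 : Led Lsl_gt (LP (LK LD1_c0 LD2_c35 LD3_c0)) = (LP (LK LD1_c1 LD2_c15 LD3_c31)) :=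
  Lre_g IH (LK LD1_c0 LD2_c35 LD3_c0) (LK LD1_c1 LD2_c15 LD3_c31) Lrfl Lrfl
theorem f172023 : Led Lsl_ct (LP (LK LD1_c1 LD2_c15 LD3_c31)) = (LP (LK LD1_c2 LD2_c36 LD3_c61)) :=
  Lre_c IH (LK LD1_c1 LD2_c15 LD3_c31) (LK LD1_c2 LD2_c36 LD3_c61) Lrfl Lrfl
theorem f172024 : Led Lsl_gt (LP (LK LD1_c2 LD2_c36 LD3_c61)) = (LP (LK LD1_c5 LD2_c20 LD3_c43)) :=
  Lre_g IH (LK LD1_c2 LD2_c36 LD3_c61) (LK LD1_c5 LD2_c20 LD3_c43) Lrfl Lrfl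
theorem f224435 : Led Lsl_cf (LP (LK LD1_c5 LD2_c20 LD3_c43)) = (LP (LK LD1_c4 LD2_c54 LD3_c48)) :=
  Lgr Lrot163 (Lpe (f172024 IH) (Lpe (f172023 IH) (Lpe (f44308 IH) (Lpe (K9.f41737 IH) (Lpr_ct (K9.f41739 IH) (Lpe (f220800 IH) (Lpe (f220858 IH) (Lpr_bt (f200813 IH) (Lpe (f27506 IH) (Lpr_bf (f224214 IH) (Lpn (LP (LK LD1_c4 LD2_c54 LD3_c48)))))))))))))
theorem f224437 : Led Lsl_gf (LP (LK LD1_c2 LD2_c37 LD3_c3)) = (LP (LK LD1_c5 LD2_c20 LD3_c43)) :=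
  Lgr Lrot126 (Lpe (f42163 IH) (Lpr_bt (f42162 IH) (Lpr_gt (f194609 IH) (Lpr_ct (K9.f49242 IH) (Lpr_gt (f217322 IH) (Lpe (f41229 IH) (Lpe (f201129 IH) (Lpr_gt (f27503 IH) (Lpr_bf (f224214 IH) (Lpe (f224435 IH) (Lpn (LP (LK LD1_c5 LD2_c20 LD3_c43)))))))))))))
theorem f42175 : Led Lsl_ct (LP (LK LD1_c2 LD2_c37 LD3_c3)) = (LP (LK LD1_c1 LD2_c15 LD3_c32)) :=
  Lre_c IH (LK LD1_c2 LD2_c37 LD3_c3) (LK LD1_c1 LD2_c15 LD3_c32) Lrfl Lrfl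
theorem f167825 : Led Lsl_bt (LP (LK LD1_c1 LD2_c15 LD3_c33)) = (LP (LK LD1_c2 LD2_c37 LD3_c7)) :=
  Lre_b IH (LK LD1_c1 LD2_c15 LD3_c33) (LK LD1_c2 LD2_c37 LD3_c7) Lrfl Lrfl
theorem f167826 : Led Lsl_gt (LP (LK LD1_c2 LD2_c37 LD3_c7)) = (LP (LK LD1_c5 LD2_c21 LD3_c0)) :=
  Lre_g IH (LK LD1_c2 LD2_c37 LD3_c7) (LK LD1_c5 LD2_c21 LD3_c0) Lrfl Lrfl
theorem f218318 : Led Lsl_bt (LP (LK LD1_c10 LD2_c32 LD3_c6)) = (LP (LK LD1_c5 LD2_c21 LD3_c0)) :=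
  Lre_b IH (LK LD1_c10 LD2_c32 LD3_c6) (LK LD1_c5 LD2_c21 LD3_c0) Lrfl Lrfl
theorem f188941 : Led Lsl_ct (LP (LK LD1_c0 LD2_c59 LD3_c14)) = (LP (LK LD1_c2 LD2_c4 LD3_c30)) :=
  Lre_c IH (LK LD1_c0 LD2_c59 LD3_c14) (LK LD1_c2 LD2_c4 LD3_c30) Lrfl Lrfl
theorem f174990 : Led Lsl_bt (LP (LK LD1_c0 LD2_c35 LD3_c51)) = (LP (LK LD1_c0 LD2_c16 LD3_c0)) :=
  Lre_b IH (LK LD1_c0 LD2_c35 LD3_c51) (LK LD1_c0 LD2_c16 LD3_c0) Lrfl Lrfl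
theorem f220871 : Led Lsl_ct (LP (LK LD1_c0 LD2_c35 LD3_c51)) = (LP (LK LD1_c1 LD2_c17 LD3_c34)) :=
  Lre_c IH (LK LD1_c0 LD2_c35 LD3_c51) (LK LD1_c1 LD2_c17 LD3_c34) Lrfl Lrfl
theorem f220872 : Led Lsl_gt (LP (LK LD1_c2 LD2_c4 LD3_c30)) = (LP (LK LD1_c1 LD2_c17 LD3_c34)) :=
  Lgr Lrot149 (Lpe (f188941 IH) (Lpe (f44971 IH) (Lpe (f200813 IH) (Lpr_ct (f220858 IH) (Lpe (f44735 IH) (Lpe (K9.f44737 IH) (Lpr_bt (K9.f168081 IH) (Lpe (K9.f172859 IH) (Lpe (f174990 IH) (Lpr_ct (f220871 IH) (Lpn (LP (LK LD1_c1 LD2_c17 LD3_c34)))))))))))))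
theorem f183776 : Led Lsl_ft (LP (LK LD1_c2 LD2_c4 LD3_c30)) = (LP (LK LD1_c4 LD2_c14 LD3_c17)) :=
  Lre_f IH (LK LD1_c2 LD2_c4 LD3_c30) (LK LD1_c4 LD2_c14 LD3_c17) Lrfl Lrfl
theorem f220877 : Led Lsl_gt (LP (LK LD1_c1 LD2_c17 LD3_c34)) = (LP (LK LD1_c2 LD2_c41 LD3_c49)) :=
  Lre_g IH (LK LD1_c1 LD2_c17 LD3_c34) (LK LD1_c2 LD2_c41 LD3_c49) Lrfl Lrfl
theorem f220878 : Led Lsl_at (LP (LK LD1_c4 LD2_c14 LD3_c17)) = (LP (LK LD1_c2 LD2_c41 LD3_c49)) :=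
  Lgr Lrot26 (Lpe (f183776 IH) (Lpr_gt (f220872 IH) (Lpr_gt (f220877 IH) (Lpn (LP (LK LD1_c2 LD2_c41 LD3_c49))))))
theorem f50904 : Led Lsl_dt (LP (LK LD1_c2 LD2_c4 LD3_c30)) = (LP (LK LD1_c4 LD2_c14 LD3_c16)) :=
  Lre_d IH (LK LD1_c2 LD2_c4 LD3_c30) (LK LD1_c4 LD2_c14 LD3_c16) Lrfl Lrfl
theorem f188961 : Led Lsl_ct (LP (LK LD1_c4 LD2_c14 LD3_c16)) = (LP (LK LD1_c8 LD2_c27 LD3_c11)) :=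
  Lre_c IH (LK LD1_c4 LD2_c14 LD3_c16) (LK LD1_c8 LD2_c27 LD3_c11) Lrfl Lrfl
theorem f53412 : Led Lsl_dt (LP (LK LD1_c8 LD2_c27 LD3_c11)) = (LP (LK LD1_c4 LD2_c15 LD3_c35)) :=
  Lre_d IH (LK LD1_c8 LD2_c27 LD3_c11) (LK LD1_c4 LD2_c15 LD3_c35) Lrfl Lrfl
theorem f52203 : Led Lsl_ct (LP (LK LD1_c4 LD2_c15 LD3_c35)) = (LP (LK LD1_c2 LD2_c5 LD3_c9)) :=
  Lre_c IH (LK LD1_c4 LD2_c15 LD3_c35) (LK LD1_c2 LD2_c5 LD3_c9) Lrfl Lrfl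
theorem f221061 : Led Lsl_ct (LP (LK LD1_c4 LD2_c13 LD3_c53)) = (LP (LK LD1_c2 LD2_c41 LD3_c49)) :=
  Lgr Lrot98 (Lpe (f27497 IH) (Lpe (f27511 IH) (Lpe (K9.f833 IH) (Lpe (f52203 IH) (Lpe (f53412 IH) (Lpe (f188961 IH) (Lpe (f50904 IH) (Lpr_ft (f183776 IH) (Lpr_at (f220878 IH) (Lpn (LP (LK LD1_c2 LD2_c41 LD3_c49))))))))))))
theorem f188612 : Led Lsl_ct (LP (LK LD1_c4 LD2_c14 LD3_c9)) = (LP (LK LD1_c2 LD2_c4 LD3_c28)) :=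
  Lre_c IH (LK LD1_c4 LD2_c14 LD3_c9) (LK LD1_c2 LD2_c4 LD3_c28) Lrfl Lrfl
theorem f33470 : Led Lsl_ct (LP (LK LD1_c1 LD2_c14 LD3_c10)) = (LP (LK LD1_c2 LD2_c34 LD3_c20)) :=
  Lre_c IH (LK LD1_c1 LD2_c14 LD3_c10) (LK LD1_c2 LD2_c34 LD3_c20) Lrfl Lrfl
theorem f188970 : Led Lsl_ft (LP (LK LD1_c2 LD2_c11 LD3_c39)) = (LP (LK LD1_c1 LD2_c14 LD3_c10)) :=
  Lgr Lrot4 (Lpe (f188596 IH) (Lpr_ff (f188937 IH) (Lpe (f33470 IH) (Lpn (LP (LK LD1_c1 LD2_c14 LD3_c10))))))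
theorem f218133 : Led Lsl_gf (LP (LK LD1_c1 LD2_c14 LD3_c7)) = (LP (LK LD1_c1 LD2_c2 LD3_c57)) :=
  Lgr Lrot76 (Lpe (K10.f33449 IH) (Lpe (f188970 IH) (Lpr_gt (f217961 IH) (Lpn (LP (LK LD1_c1 LD2_c2 LD3_c57))))))
theorem f169288 : Led Lsl_bt (LP (LK LD1_c0 LD2_c28 LD3_c42)) = (LP (LK LD1_c1 LD2_c2 LD3_c57)) :=
  Lre_b IH (LK LD1_c0 LD2_c28 LD3_c42) (LK LD1_c1 LD2_c2 LD3_c57) Lrfl Lrfl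
theorem f55291 : Led Lsl_gt (LP (LK LD1_c2 LD2_c25 LD3_c11)) = (LP (LK LD1_c1 LD2_c10 LD3_c2)) :=
  Lre_g IH (LK LD1_c2 LD2_c25 LD3_c11) (LK LD1_c1 LD2_c10 LD3_c2) Lrfl Lrfl
theorem f218138 : Led Lsl_gt (LP (LK LD1_c2 LD2_c34 LD3_c17)) = (LP (LK LD1_c4 LD2_c14 LD3_c9)) :=
  Lgr Lrot149 (Lpe (K10.f33456 IH) (Lpr_gf (f218133 IH) (Lpe (f169288 IH) (Lpr_ct (K9.f167786 IH) (Lpe (K9.f169273 IH) (Lpe (K9.f41039 IH) (Lpr_bt (K9.f41231 IH) (Lpe (f55291 IH) (Lpe (f201127 IH) (Lpr_ct (f188598 IH) (Lpn (LP (LK LD1_c4 LD2_c14 LD3_c9)))))))))))))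
theorem f33438 : Led Lsl_dt (LP (LK LD1_c5 LD2_c14 LD3_c56)) = (LP (LK LD1_c2 LD2_c34 LD3_c17)) :=
  Lre_d IH (LK LD1_c5 LD2_c14 LD3_c56) (LK LD1_c2 LD2_c34 LD3_c17) Lrfl Lrfl
theorem f188899 : Led Lsl_ct (LP (LK LD1_c4 LD2_c14 LD3_c12)) = (LP (LK LD1_c2 LD2_c4 LD3_c29)) :=
  Lre_c IH (LK LD1_c4 LD2_c14 LD3_c12) (LK LD1_c2 LD2_c4 LD3_c29) Lrfl Lrfl
theorem f188568 : Led Lsl_ct (LP (LK LD1_c2 LD2_c4 LD3_c22)) = (LP (LK LD1_c4 LD2_c13 LD3_c61)) :=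
  Lre_c IH (LK LD1_c2 LD2_c4 LD3_c22) (LK LD1_c4 LD2_c13 LD3_c61) Lrfl Lrfl
theorem f188567 : Led Lsl_dt (LP (LK LD1_c8 LD2_c26 LD3_c36)) = (LP (LK LD1_c4 LD2_c13 LD3_c61)) :=
  Lre_d IH (LK LD1_c8 LD2_c26 LD3_c36) (LK LD1_c4 LD2_c13 LD3_c61) Lrfl Lrfl
theorem f33501 : Led Lsl_dt (LP (LK LD1_c2 LD2_c34 LD3_c17)) = (LP (LK LD1_c5 LD2_c14 LD3_c56)) :=
  Lre_d IH (LK LD1_c2 LD2_c34 LD3_c17) (LK LD1_c5 LD2_c14 LD3_c56) Lrfl Lrfl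
theorem f188900 : Led Lsl_gf (LP (LK LD1_c8 LD2_c26 LD3_c36)) = (LP (LK LD1_c5 LD2_c14 LD3_c56)) :=
  Lgr Lrot143 (Lpr_dt (f188567 IH) (Lpe (f188568 IH) (Lpe (K10.f54513 IH) (Lpe (K10.f54512 IH) (Lpe (f188597 IH) (Lpe (f44971 IH) (Lpe (f188899 IH) (Lpr_gt (f188897 IH) (Lpr_dt (f33501 IH) (Lpn (LP (LK LD1_c5 LD2_c14 LD3_c56))))))))))))
theorem f200727 : Led Lsl_dt (LP (LK LD1_c8 LD2_c27 LD3_c13)) = (LP (LK LD1_c4 LD2_c14 LD3_c17)) :=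
  Lre_d IH (LK LD1_c8 LD2_c27 LD3_c13) (LK LD1_c4 LD2_c14 LD3_c17) Lrfl Lrfl
theorem f221053 : Led Lsl_at (LP (LK LD1_c4 LD2_c16 LD3_c35)) = (LP (LK LD1_c8 LD2_c27 LD3_c13)) :=
  Lre_a IH (LK LD1_c4 LD2_c16 LD3_c35) (LK LD1_c8 LD2_c27 LD3_c13) Lrfl Lrfl
theorem f221054 : Led Lsl_df (LP (LK LD1_c4 LD2_c16 LD3_c35)) = (LP (LK LD1_c2 LD2_c41 LD3_c49)) :=
  Lgr Lrot18 (Lpr_at (f221053 IH) (Lpr_dt (f200727 IH) (Lpr_at (f220878 IH) (Lpn (LP (LK LD1_c2 LD2_c41 LD3_c49))))))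
theorem f221069 : Led Lsl_ct (LP (LK LD1_c2 LD2_c5 LD3_c34)) = (LP (LK LD1_c4 LD2_c16 LD3_c35)) :=
  Lre_c IH (LK LD1_c2 LD2_c5 LD3_c34) (LK LD1_c4 LD2_c16 LD3_c35) Lrfl Lrfl
theorem f1021 : Led Lsl_gt (LP (LK LD1_c4 LD2_c16 LD3_c34)) = (LP (LK LD1_c2 LD2_c5 LD3_c34)) :=
  Lre_g IH (LK LD1_c4 LD2_c16 LD3_c34) (LK LD1_c2 LD2_c5 LD3_c34) Lrfl Lrfl
theorem f221070 : Led Lsl_ct (LP (LK LD1_c8 LD2_c26 LD3_c36)) = (LP (LK LD1_c4 LD2_c16 LD3_c34)) :=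
  Lgr Lrot186 (Lpr_gf (f188900 IH) (Lpr_dt (f33438 IH) (Lpr_gt (f218138 IH) (Lpr_ct (f188612 IH) (Lpr_gt (f27503 IH) (Lpr_ct (f221061 IH) (Lpe (f221054 IH) (Lpe (f221069 IH) (Lpe (f1021 IH) (Lpn (LP (LK LD1_c4 LD2_c16 LD3_c34))))))))))))
theorem f221080 : Led Lsl_df (LP (LK LD1_c2 LD2_c41 LD3_c49)) = (LP (LK LD1_c4 LD2_c16 LD3_c35)) :=
  Lgr Lrot162 (Lpe (f221061 IH) (Lpe (f27503 IH) (Lpe (f188612 IH) (Lpe (f218138 IH) (Lpr_dt (f33501 IH) (Lpe (f188900 IH) (Lpr_ct (f221070 IH) (Lpr_gt (f1021 IH) (Lpr_ct (f221069 IH) (Lpn (LP (LK LD1_c4 LD2_c16 LD3_c35))))))))))))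
theorem f221046 : Led Lsl_bt (LP (LK LD1_c2 LD2_c41 LD3_c49)) = (LP (LK LD1_c5 LD2_c31 LD3_c4)) :=
  Lre_b IH (LK LD1_c2 LD2_c41 LD3_c49) (LK LD1_c5 LD2_c31 LD3_c4) Lrfl Lrfl
theorem f52086 : Led Lsl_bt (LP (LK LD1_c8 LD2_c32 LD3_c24)) = (LP (LK LD1_c4 LD2_c16 LD3_c35)) :=
  Lre_b IH (LK LD1_c8 LD2_c32 LD3_c24) (LK LD1_c4 LD2_c16 LD3_c35) Lrfl Lrfl
theorem f221093 : Led Lsl_dt (LP (LK LD1_c5 LD2_c31 LD3_c4)) = (LP (LK LD1_c8 LD2_c32 LD3_c24)) :=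
  Lgr Lrot79 (Lpe (f221046 IH) (Lpr_df (f221080 IH) (Lpe (f52086 IH) (Lpn (LP (LK LD1_c8 LD2_c32 LD3_c24))))))
theorem f51982 : Led Lsl_ft (LP (LK LD1_c8 LD2_c32 LD3_c24)) = (LP (LK LD1_c15 LD2_c51 LD3_c5)) :=
  Lre_f IH (LK LD1_c8 LD2_c32 LD3_c24) (LK LD1_c15 LD2_c51 LD3_c5) Lrfl Lrfl
theorem f52007 : Led Lsl_dt (LP (LK LD1_c15 LD2_c51 LD3_c5)) = (LP (LK LD1_c8 LD2_c26 LD3_c24)) :=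
  Lre_d IH (LK LD1_c15 LD2_c51 LD3_c5) (LK LD1_c8 LD2_c26 LD3_c24) Lrfl Lrfl
theorem f221139 : Led Lsl_ff (LP (LK LD1_c5 LD2_c31 LD3_c4)) = (LP (LK LD1_c8 LD2_c26 LD3_c24)) :=
  Lgr Lrot19 (Lpr_dt (f221093 IH) (Lpr_ft (f51982 IH) (Lpr_dt (f52007 IH) (Lpn (LP (LK LD1_c8 LD2_c26 LD3_c24))))))
theorem f221154 : Led Lsl_ft (LP (LK LD1_c5 LD2_c31 LD3_c4)) = (LP (LK LD1_c8 LD2_c26 LD3_c24)) :=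
  Lgr Lrot48 (Lpr_ff (f221139 IH) (Lpn (LP (LK LD1_c8 LD2_c26 LD3_c24))))
theorem f221131 : Led Lsl_at (LP (LK LD1_c10 LD2_c53 LD3_c41)) = (LP (LK LD1_c5 LD2_c31 LD3_c4)) :=
  Lre_a IH (LK LD1_c10 LD2_c53 LD3_c41) (LK LD1_c5 LD2_c31 LD3_c4) Lrfl Lrfl
theorem f183748 : Led Lsl_at (LP (LK LD1_c8 LD2_c26 LD3_c24)) = (LP (LK LD1_c15 LD2_c51 LD3_c4)) :=
  Lre_a IH (LK LD1_c8 LD2_c26 LD3_c24) (LK LD1_c15 LD2_c51 LD3_c4) Lrfl Lrfl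
theorem f221159 : Led Lsl_ff (LP (LK LD1_c10 LD2_c53 LD3_c41)) = (LP (LK LD1_c15 LD2_c51 LD3_c4)) :=
  Lgr Lrot30 (Lpr_at (f221131 IH) (Lpr_ft (f221154 IH) (Lpr_at (f183748 IH) (Lpn (LP (LK LD1_c15 LD2_c51 LD3_c4))))))
theorem f221141 : Led Lsl_gt (LP (LK LD1_c10 LD2_c53 LD3_c40)) = (LP (LK LD1_c5 LD2_c31 LD3_c4)) :=
  Lre_g IH (LK LD1_c10 LD2_c53 LD3_c40) (LK LD1_c5 LD2_c31 LD3_c4) Lrfl Lrfl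
theorem f221192 : Led Lsl_gf (LP (LK LD1_c10 LD2_c53 LD3_c40)) = (LP (LK LD1_c15 LD2_c51 LD3_c4)) :=
  Lgr Lrot47 (Lpr_gt (f221141 IH) (Lpe (f221131 IH) (Lpr_ff (f221159 IH) (Lpn (LP (LK LD1_c15 LD2_c51 LD3_c4))))))
theorem f196819 : Led Lsl_ct (LP (LK LD1_c1 LD2_c16 LD3_c13)) = (LP (LK LD1_c0 LD2_c35 LD3_c18)) :=
  Lre_c IH (LK LD1_c1 LD2_c16 LD3_c13) (LK LD1_c0 LD2_c35 LD3_c18) Lrfl Lrfl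
theorem f217659 : Led Lsl_dt (LP (LK LD1_c4 LD2_c55 LD3_c47)) = (LP (LK LD1_c2 LD2_c37 LD3_c9)) :=
  Lre_d IH (LK LD1_c4 LD2_c55 LD3_c47) (LK LD1_c2 LD2_c37 LD3_c9) Lrfl Lrfl
theorem f168711 : Led Lsl_ct (LP (LK LD1_c2 LD2_c25 LD3_c41)) = (LP (LK LD1_c4 LD2_c55 LD3_c47)) :=
  Lre_c IH (LK LD1_c2 LD2_c25 LD3_c41) (LK LD1_c4 LD2_c55 LD3_c47) Lrfl Lrfl
theorem f55192 : Led Lsl_gt (LP (LK LD1_c4 LD2_c55 LD3_c46)) = (LP (LK LD1_c2 LD2_c25 LD3_c41)) :=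
  Lre_g IH (LK LD1_c4 LD2_c55 LD3_c46) (LK LD1_c2 LD2_c25 LD3_c41) Lrfl Lrfl
theorem f217660 : Led Lsl_cf (LP (LK LD1_c4 LD2_c55 LD3_c46)) = (LP (LK LD1_c2 LD2_c38 LD3_c1)) :=
  Lgr Lrot188 (Lpr_gt (f55192 IH) (Lpr_ct (f168711 IH) (Lpr_dt (f217659 IH) (Lpe (K9.f172025 IH) (Lpe (K9.f41435 IH) (Lpe (f196819 IH) (Lpe (f196825 IH) (Lpr_dt (f217643 IH) (Lpr_gt (f199070 IH) (Lpn (LP (LK LD1_c2 LD2_c38 LD3_c1))))))))))))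
theorem f217668 : Led Lsl_ct (LP (LK LD1_c4 LD2_c55 LD3_c46)) = (LP (LK LD1_c2 LD2_c38 LD3_c1)) :=
  Lgr Lrot59 (Lpr_cf (f217660 IH) (Lpn (LP (LK LD1_c2 LD2_c38 LD3_c1))))
theorem f55142 : Led Lsl_gt (LP (LK LD1_c2 LD2_c39 LD3_c12)) = (LP (LK LD1_c4 LD2_c55 LD3_c46)) :=
  Lre_g IH (LK LD1_c2 LD2_c39 LD3_c12) (LK LD1_c4 LD2_c55 LD3_c46) Lrfl Lrfl
theorem f41241 : Led Lsl_dt (LP (LK LD1_c2 LD2_c39 LD3_c12)) = (LP (LK LD1_c4 LD2_c54 LD3_c41)) :=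
  Lre_d IH (LK LD1_c2 LD2_c39 LD3_c12) (LK LD1_c4 LD2_c54 LD3_c41) Lrfl Lrfl
theorem f167932 : Led Lsl_ct (LP (LK LD1_c2 LD2_c25 LD3_c39)) = (LP (LK LD1_c2 LD2_c37 LD3_c2)) :=
  Lgr Lrot59 (Lpr_cf (K9.f167926 IH) (Lpn (LP (LK LD1_c2 LD2_c37 LD3_c2))))
theorem f49256 : Led Lsl_dt (LP (LK LD1_c5 LD2_c16 LD3_c55)) = (LP (LK LD1_c10 LD2_c23 LD3_c23)) :=
  Lre_d IH (LK LD1_c5 LD2_c16 LD3_c55) (LK LD1_c10 LD2_c23 LD3_c23) Lrfl Lrfl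
theorem f217674 : Led Lsl_gt (LP (LK LD1_c2 LD2_c38 LD3_c1)) = (LP (LK LD1_c5 LD2_c23 LD3_c4)) :=
  Lre_g IH (LK LD1_c2 LD2_c38 LD3_c1) (LK LD1_c5 LD2_c23 LD3_c4) Lrfl Lrfl
theorem f217716 : Led Lsl_cf (LP (LK LD1_c10 LD2_c23 LD3_c23)) = (LP (LK LD1_c5 LD2_c23 LD3_c4)) :=
  Lgr Lrot99 (Lpe (f49256 IH) (Lpe (K9.f49242 IH) (Lpe (f194609 IH) (Lpe (f167932 IH) (Lpe (K9.f41157 IH) (Lpe (f41241 IH) (Lpr_gt (f55142 IH) (Lpr_ct (f217668 IH) (Lpr_gt (f217674 IH) (Lpn (LP (LK LD1_c5 LD2_c23 LD3_c4))))))))))))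
theorem f49255 : Led Lsl_dt (LP (LK LD1_c10 LD2_c23 LD3_c23)) = (LP (LK LD1_c5 LD2_c16 LD3_c55)) :=
  Lre_d IH (LK LD1_c10 LD2_c23 LD3_c23) (LK LD1_c5 LD2_c16 LD3_c55) Lrfl Lrfl
theorem f196828 : Led Lsl_dt (LP (LK LD1_c10 LD2_c35 LD3_c16)) = (LP (LK LD1_c5 LD2_c22 LD3_c26)) :=
  Lre_d IH (LK LD1_c10 LD2_c35 LD3_c16) (LK LD1_c5 LD2_c22 LD3_c26) Lrfl Lrfl
theorem f217655 : Led Lsl_cf (LP (LK LD1_c10 LD2_c35 LD3_c16)) = (LP (LK LD1_c5 LD2_c23 LD3_c5)) :=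
  Lgr Lrot161 (Lpr_dt (f196828 IH) (Lpr_ct (f194618 IH) (Lpe (f196579 IH) (Lpr_ff (f196586 IH) (Lpr_dt (f49236 IH) (Lpr_ct (f53140 IH) (Lpr_dt (f43273 IH) (Lpe (f217621 IH) (Lpr_dt (f217643 IH) (Lpn (LP (LK LD1_c5 LD2_c23 LD3_c5))))))))))))
theorem f196833 : Led Lsl_ct (LP (LK LD1_c2 LD2_c45 LD3_c21)) = (LP (LK LD1_c2 LD2_c38 LD3_c36)) :=
  Lre_c IH (LK LD1_c2 LD2_c45 LD3_c21) (LK LD1_c2 LD2_c38 LD3_c36) Lrfl Lrfl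
theorem f217725 : Led Lsl_dt (LP (LK LD1_c2 LD2_c38 LD3_c36)) = (LP (LK LD1_c5 LD2_c23 LD3_c4)) :=
  Lgr Lrot173 (Lpe (f196833 IH) (Lpe (f194661 IH) (Lpe (K10.f172016 IH) (Lpe (K10.f194625 IH) (Lpe (f194618 IH) (Lpe (f196828 IH) (Lpr_cf (f217655 IH) (Lpe (f217643 IH) (Lpr_cf (f217621 IH) (Lpe (f43273 IH) (Lpe (f53140 IH) (Lpe (f49236 IH) (Lpe (f49228 IH) (Lpe (f49255 IH) (Lpr_cf (f217716 IH) (Lpn (LP (LK LD1_c5 LD2_c23 LD3_c4))))))))))))))))))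
theorem f217735 : Led Lsl_df (LP (LK LD1_c2 LD2_c38 LD3_c36)) = (LP (LK LD1_c5 LD2_c23 LD3_c4)) :=
  Lgr Lrot38 (Lpr_dt (f217725 IH) (Lpn (LP (LK LD1_c5 LD2_c23 LD3_c4))))
theorem f196568 : Led Lsl_dt (LP (LK LD1_c5 LD2_c22 LD3_c26)) = (LP (LK LD1_c10 LD2_c35 LD3_c16)) :=
  Lre_d IH (LK LD1_c5 LD2_c22 LD3_c26) (LK LD1_c10 LD2_c35 LD3_c16) Lrfl Lrfl
theorem f217723 : Led Lsl_ct (LP (LK LD1_c10 LD2_c23 LD3_c23)) = (LP (LK LD1_c5 LD2_c23 LD3_c4)) :=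
  Lgr Lrot59 (Lpr_cf (f217716 IH) (Lpn (LP (LK LD1_c5 LD2_c23 LD3_c4))))
theorem f217628 : Led Lsl_ct (LP (LK LD1_c2 LD2_c38 LD3_c37)) = (LP (LK LD1_c4 LD2_c13 LD3_c24)) :=
  Lgr Lrot59 (Lpr_cf (f217621 IH) (Lpn (LP (LK LD1_c4 LD2_c13 LD3_c24))))
theorem f217650 : Led Lsl_df (LP (LK LD1_c2 LD2_c38 LD3_c37)) = (LP (LK LD1_c5 LD2_c23 LD3_c5)) :=
  Lgr Lrot38 (Lpr_dt (f217643 IH) (Lpn (LP (LK LD1_c5 LD2_c23 LD3_c5))))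
theorem f217820 : Led Lsl_ct (LP (LK LD1_c10 LD2_c35 LD3_c16)) = (LP (LK LD1_c5 LD2_c23 LD3_c5)) :=
  Lgr Lrot176 (Lpe (f196568 IH) (Lpe (f172030 IH) (Lpe (K10.f172029 IH) (Lpe (K11.f182176 IH) (Lpe (K10.f194663 IH) (Lpe (K10.f196594 IH) (Lpr_df (f217735 IH) (Lpe (f217723 IH) (Lpe (f49256 IH) (Lpe (K9.f49242 IH) (Lpe (K9.f49217 IH) (Lpr_cf (K9.f47484 IH) (Lpe (K10.f43267 IH) (Lpe (f217628 IH) (Lpr_df (f217650 IH) (Lpn (LP (LK LD1_c5 LD2_c23 LD3_c5))))))))))))))))))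
theorem f27698 : Led Lsl_ct (LP (LK LD1_c2 LD2_c4 LD3_c1)) = (LP (LK LD1_c4 LD2_c13 LD3_c25)) :=
  Lre_c IH (LK LD1_c2 LD2_c4 LD3_c1) (LK LD1_c4 LD2_c13 LD3_c25) Lrfl Lrfl
theorem f196846 : Led Lsl_ft (LP (LK LD1_c4 LD2_c13 LD3_c25)) = (LP (LK LD1_c2 LD2_c38 LD3_c36)) :=
  Lgr Lrot4 (Lpe (f27698 IH) (Lpr_ff (K10.f196841 IH) (Lpe (K10.f196594 IH) (Lpn (LP (LK LD1_c2 LD2_c38 LD3_c36))))))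
theorem f51225 : Led Lsl_dt (LP (LK LD1_c8 LD2_c25 LD3_c47)) = (LP (LK LD1_c4 LD2_c13 LD3_c25)) :=
  Lre_d IH (LK LD1_c8 LD2_c25 LD3_c47) (LK LD1_c4 LD2_c13 LD3_c25) Lrfl Lrfl
theorem f217741 : Led Lsl_ff (LP (LK LD1_c8 LD2_c25 LD3_c47)) = (LP (LK LD1_c5 LD2_c23 LD3_c4)) :=
  Lgr Lrot19 (Lpr_dt (f51225 IH) (Lpr_ft (f196846 IH) (Lpr_dt (f217725 IH) (Lpn (LP (LK LD1_c5 LD2_c23 LD3_c4))))))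
theorem f217822 : Led Lsl_af (LP (LK LD1_c5 LD2_c23 LD3_c5)) = (LP (LK LD1_c8 LD2_c25 LD3_c47)) :=
  Lgr Lrot109 (Lpe (f217820 IH) (Lpe (f196568 IH) (Lpe (f172030 IH) (Lpe (K10.f172029 IH) (Lpe (K11.f182176 IH) (Lpe (K10.f194663 IH) (Lpe (K10.f196594 IH) (Lpr_df (f217735 IH) (Lpe (f217741 IH) (Lpn (LP (LK LD1_c8 LD2_c25 LD3_c47))))))))))))
theorem f217652 : Led Lsl_et (LP (LK LD1_c5 LD2_c23 LD3_c5)) = (LP (LK LD1_c10 LD2_c36 LD3_c41)) :=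
  Lre_e IH (LK LD1_c5 LD2_c23 LD3_c5) (LK LD1_c10 LD2_c36 LD3_c41) Lrfl Lrfl
theorem f51217 : Led Lsl_et (LP (LK LD1_c15 LD2_c50 LD3_c1)) = (LP (LK LD1_c8 LD2_c25 LD3_c47)) :=
  Lre_e IH (LK LD1_c15 LD2_c50 LD3_c1) (LK LD1_c8 LD2_c25 LD3_c47) Lrfl Lrfl
theorem f217838 : Led Lsl_at (LP (LK LD1_c10 LD2_c36 LD3_c41)) = (LP (LK LD1_c15 LD2_c50 LD3_c1)) :=
  Lgr Lrot80 (Lpe (f217652 IH) (Lpr_af (f217822 IH) (Lpe (f51217 IH) (Lpn (LP (LK LD1_c15 LD2_c50 LD3_c1))))))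
theorem f51176 : Led Lsl_ef (LP (LK LD1_c9 LD2_c33 LD3_c20)) = (LP (LK LD1_c8 LD2_c25 LD3_c46)) :=
  Lgr Lrot88 (Lpr_et (K10.f51161 IH) (Lpn (LP (LK LD1_c8 LD2_c25 LD3_c46))))
theorem f51178 : Led Lsl_dt (LP (LK LD1_c9 LD2_c33 LD3_c20)) = (LP (LK LD1_c17 LD2_c35 LD3_c50)) :=
  Lre_d IH (LK LD1_c9 LD2_c33 LD3_c20) (LK LD1_c17 LD2_c35 LD3_c50) Lrfl Lrfl
theorem f51189 : Led Lsl_et (LP (LK LD1_c17 LD2_c35 LD3_c50)) = (LP (LK LD1_c27 LD2_c23 LD3_c56)) :=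
  Lre_e IH (LK LD1_c17 LD2_c35 LD3_c50) (LK LD1_c27 LD2_c23 LD3_c56) Lrfl Lrfl
theorem f51191 : Led Lsl_et (LP (LK LD1_c25 LD2_c46 LD3_c7)) = (LP (LK LD1_c15 LD2_c50 LD3_c0)) :=
  Lre_e IH (LK LD1_c25 LD2_c46 LD3_c7) (LK LD1_c15 LD2_c50 LD3_c0) Lrfl Lrfl
theorem f51192 : Led Lsl_dt (LP (LK LD1_c27 LD2_c23 LD3_c56)) = (LP (LK LD1_c25 LD2_c46 LD3_c7)) :=
  Lgr Lrot77 (Lpe (f51189 IH) (Lpe (f51178 IH) (Lpr_ef (f51176 IH) (Lpe (K10.f51190 IH) (Lpe (f51191 IH) (Lpn (LP (LK LD1_c25 LD2_c46 LD3_c7))))))))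
theorem f51202 : Led Lsl_bt (LP (LK LD1_c17 LD2_c35 LD3_c51)) = (LP (LK LD1_c27 LD2_c23 LD3_c56)) :=
  Lre_b IH (LK LD1_c17 LD2_c35 LD3_c51) (LK LD1_c27 LD2_c23 LD3_c56) Lrfl Lrfl
theorem f51203 : Led Lsl_bt (LP (LK LD1_c25 LD2_c46 LD3_c7)) = (LP (LK LD1_c15 LD2_c50 LD3_c1)) :=
  Lre_b IH (LK LD1_c25 LD2_c46 LD3_c7) (LK LD1_c15 LD2_c50 LD3_c1) Lrfl Lrfl
theorem f51204 : Led Lsl_df (LP (LK LD1_c17 LD2_c35 LD3_c51)) = (LP (LK LD1_c15 LD2_c50 LD3_c1)) :=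
  Lgr Lrot12 (Lpr_bt (f51202 IH) (Lpr_dt (f51192 IH) (Lpr_bt (f51203 IH) (Lpn (LP (LK LD1_c15 LD2_c50 LD3_c1))))))
theorem f47883 : Led Lsl_dt (LP (LK LD1_c0 LD2_c57 LD3_c17)) = (LP (LK LD1_c2 LD2_c0 LD3_c40)) :=
  Lre_d IH (LK LD1_c0 LD2_c57 LD3_c17) (LK LD1_c2 LD2_c0 LD3_c40) Lrfl Lrfl
theorem f214004 : Led Lsl_dt (LP (LK LD1_c4 LD2_c54 LD3_c52)) = (LP (LK LD1_c2 LD2_c25 LD3_c19)) :=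
  Lre_d IH (LK LD1_c4 LD2_c54 LD3_c52) (LK LD1_c2 LD2_c25 LD3_c19) Lrfl Lrfl
theorem f213915 : Led Lsl_dt (LP (LK LD1_c2 LD2_c25 LD3_c23)) = (LP (LK LD1_c1 LD2_c9 LD3_c56)) :=
  Lre_d IH (LK LD1_c2 LD2_c25 LD3_c23) (LK LD1_c1 LD2_c9 LD3_c56) Lrfl Lrfl
theorem f214072 : Led Lsl_gt (LP (LK LD1_c2 LD2_c0 LD3_c40)) = (LP (LK LD1_c2 LD2_c25 LD3_c23)) :=
  Lgr Lrot49 (Lpe (f47883 IH) (Lpe (K9.f47937 IH) (Lpr_cf (K9.f182520 IH) (Lpr_gt (K10.f183908 IH) (Lpr_dt (f28683 IH) (Lpr_gt (f214068 IH) (Lpr_dt (f214004 IH) (Lpe (f214001 IH) (Lpe (f213915 IH) (Lpn (LP (LK LD1_c2 LD2_c25 LD3_c23))))))))))))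
theorem f183070 : Led Lsl_bt (LP (LK LD1_c0 LD2_c35 LD3_c8)) = (LP (LK LD1_c0 LD2_c15 LD3_c54)) :=
  Lre_b IH (LK LD1_c0 LD2_c35 LD3_c8) (LK LD1_c0 LD2_c15 LD3_c54) Lrfl Lrfl
theorem f46470 : Led Lsl_ct (LP (LK LD1_c0 LD2_c35 LD3_c8)) = (LP (LK LD1_c1 LD2_c15 LD3_c48)) :=
  Lre_c IH (LK LD1_c0 LD2_c35 LD3_c8) (LK LD1_c1 LD2_c15 LD3_c48) Lrfl Lrfl
theorem f183071 : Led Lsl_gt (LP (LK LD1_c2 LD2_c37 LD3_c33)) = (LP (LK LD1_c1 LD2_c15 LD3_c48)) :=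
  Lre_g IH (LK LD1_c2 LD2_c37 LD3_c33) (LK LD1_c1 LD2_c15 LD3_c48) Lrfl Lrfl
theorem f27731 : Led Lsl_gt (LP (LK LD1_c4 LD2_c50 LD3_c35)) = (LP (LK LD1_c2 LD2_c23 LD3_c4)) :=
  Lre_g IH (LK LD1_c4 LD2_c50 LD3_c35) (LK LD1_c2 LD2_c23 LD3_c4) Lrfl Lrfl
theorem f213911 : Led Lsl_et (LP (LK LD1_c2 LD2_c25 LD3_c16)) = (LP (LK LD1_c1 LD2_c9 LD3_c53)) :=
  Lre_e IH (LK LD1_c2 LD2_c25 LD3_c16) (LK LD1_c1 LD2_c9 LD3_c53) Lrfl Lrfl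
theorem f213912 : Led Lsl_df (LP (LK LD1_c4 LD2_c50 LD3_c35)) = (LP (LK LD1_c2 LD2_c25 LD3_c16)) :=
  Lgr Lrot170 (Lpr_gt (f27731 IH) (Lpe (K0.f27701 IH) (Lpr_et (K0.f27578 IH) (Lpr_gt (K1.f27580 IH) (Lpe (K1.f44558 IH) (Lpe (K1.f8077 IH) (Lpr_df (K8.f47455 IH) (Lpr_et (K9.f47467 IH) (Lpr_gt (f213775 IH) (Lpe (f213911 IH) (Lpn (LP (LK LD1_c2 LD2_c25 LD3_c16)))))))))))))
theorem f213914 : Led Lsl_bt (LP (LK LD1_c1 LD2_c9 LD3_c56)) = (LP (LK LD1_c2 LD2_c25 LD3_c16)) :=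
  Lre_b IH (LK LD1_c1 LD2_c9 LD3_c56) (LK LD1_c2 LD2_c25 LD3_c16) Lrfl Lrfl
theorem f213916 : Led Lsl_bt (LP (LK LD1_c4 LD2_c50 LD3_c35)) = (LP (LK LD1_c2 LD2_c25 LD3_c23)) :=
  Lgr Lrot95 (Lpr_df (f213912 IH) (Lpe (f213914 IH) (Lpe (f213915 IH) (Lpn (LP (LK LD1_c2 LD2_c25 LD3_c23))))))
theorem f214081 : Led Lsl_cf (LP (LK LD1_c2 LD2_c37 LD3_c33)) = (LP (LK LD1_c4 LD2_c50 LD3_c35)) :=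
  Lgr Lrot160 (Lpr_gt (f183071 IH) (Lpe (f46470 IH) (Lpr_bt (f183070 IH) (Lpr_gt (K9.f7712 IH) (Lpr_ct (K9.f8510 IH) (Lpe (K9.f183054 IH) (Lpe (K1.f55389 IH) (Lpr_bt (K10.f55035 IH) (Lpr_gt (f214072 IH) (Lpe (f213916 IH) (Lpn (LP (LK LD1_c4 LD2_c50 LD3_c35)))))))))))))
theorem f46458 : Led Lsl_ct (LP (LK LD1_c1 LD2_c15 LD3_c48)) = (LP (LK LD1_c0 LD2_c35 LD3_c8)) :=
  Lre_c IH (LK LD1_c1 LD2_c15 LD3_c48) (LK LD1_c0 LD2_c35 LD3_c8) Lrfl Lrfl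
theorem f46457 : Led Lsl_dt (LP (LK LD1_c0 LD2_c35 LD3_c8)) = (LP (LK LD1_c0 LD2_c15 LD3_c47)) :=
  Lre_d IH (LK LD1_c0 LD2_c35 LD3_c8) (LK LD1_c0 LD2_c15 LD3_c47) Lrfl Lrfl
theorem f191006 : Led Lsl_dt (LP (LK LD1_c2 LD2_c31 LD3_c50)) = (LP (LK LD1_c5 LD2_c9 LD3_c26)) :=
  Lre_d IH (LK LD1_c2 LD2_c31 LD3_c50) (LK LD1_c5 LD2_c9 LD3_c26) Lrfl Lrfl
theorem f214094 : Led Lsl_gt (LP (LK LD1_c5 LD2_c9 LD3_c26)) = (LP (LK LD1_c4 LD2_c50 LD3_c35)) :=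
  Lgr Lrot9 (Lpe (f191006 IH) (Lpe (K10.f191018 IH) (Lpr_ct (K10.f191024 IH) (Lpe (K10.f190919 IH) (Lpr_ct (K10.f8445 IH) (Lpe (f46457 IH) (Lpe (f46458 IH) (Lpe (f183071 IH) (Lpr_cf (f214081 IH) (Lpn (LP (LK LD1_c4 LD2_c50 LD3_c35))))))))))))
theorem f213918 : Led Lsl_dt (LP (LK LD1_c4 LD2_c50 LD3_c35)) = (LP (LK LD1_c2 LD2_c25 LD3_c16)) :=
  Lgr Lrot42 (Lpr_df (f213912 IH) (Lpn (LP (LK LD1_c2 LD2_c25 LD3_c16))))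
theorem f47560 : Led Lsl_bt (LP (LK LD1_c4 LD2_c8 LD3_c9)) = (LP (LK LD1_c2 LD2_c1 LD3_c29)) :=
  Lre_b IH (LK LD1_c4 LD2_c8 LD3_c9) (LK LD1_c2 LD2_c1 LD3_c29) Lrfl Lrfl
theorem f47561 : Led Lsl_dt (LP (LK LD1_c2 LD2_c34 LD3_c46)) = (LP (LK LD1_c4 LD2_c8 LD3_c9)) :=
  Lgr Lrot79 (Lpe (f47559 IH) (Lpr_df (K10.f47557 IH) (Lpe (f47560 IH) (Lpn (LP (LK LD1_c4 LD2_c8 LD3_c9))))))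
theorem f44261 : Led Lsl_ft (LP (LK LD1_c4 LD2_c27 LD3_c11)) = (LP (LK LD1_c2 LD2_c10 LD3_c46)) :=
  Lre_f IH (LK LD1_c4 LD2_c27 LD3_c11) (LK LD1_c2 LD2_c10 LD3_c46) Lrfl Lrfl
theorem f212473 : Led Lsl_gt (LP (LK LD1_c4 LD2_c27 LD3_c11)) = (LP (LK LD1_c2 LD2_c34 LD3_c46)) :=
  Lgr Lrot5 (Lpr_ft (f44261 IH) (Lpr_at (K10.f46399 IH) (Lpr_gf (f212468 IH) (Lpn (LP (LK LD1_c2 LD2_c34 LD3_c46))))))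
theorem f214099 : Led Lsl_gf (LP (LK LD1_c2 LD2_c31 LD3_c50)) = (LP (LK LD1_c2 LD2_c23 LD3_c2)) :=
  Lgr Lrot144 (Lpr_dt (f191006 IH) (Lpr_gt (f214094 IH) (Lpr_dt (f213918 IH) (Lpe (f213999 IH) (Lpe (f47561 IH) (Lpe (f212473 IH) (Lpe (K1.f46126 IH) (Lpr_gf (K10.f194156 IH) (Lpr_cf (K10.f190430 IH) (Lpn (LP (LK LD1_c2 LD2_c23 LD3_c2))))))))))))
theorem f190350 : Led Lsl_bt (LP (LK LD1_c1 LD2_c15 LD3_c38)) = (LP (LK LD1_c1 LD2_c11 LD3_c21)) :=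
  Lgr Lrot127 (Lpr_bf (K10.f190346 IH) (Lpn (LP (LK LD1_c1 LD2_c11 LD3_c21))))
theorem f214105 : Led Lsl_bt (LP (LK LD1_c1 LD2_c12 LD3_c58)) = (LP (LK LD1_c2 LD2_c25 LD3_c2)) :=
  Lgr Lrot130 (Lpr_ct (K10.f171521 IH) (Lpr_gf (f214099 IH) (Lpe (K10.f190352 IH) (Lpr_bt (f190350 IH) (Lpr_gf (K9.f184614 IH) (Lpe (K10.f28279 IH) (Lpe (K1.f28245 IH) (Lpe (K10.f28280 IH) (Lpe (K10.f190304 IH) (Lpr_gf (f190921 IH) (Lpn (LP (LK LD1_c2 LD2_c25 LD3_c2)))))))))))))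
theorem f31524 : Led Lsl_ft (LP (LK LD1_c2 LD2_c25 LD3_c2)) = (LP (LK LD1_c1 LD2_c9 LD3_c45)) :=
  Lre_f IH (LK LD1_c2 LD2_c25 LD3_c2) (LK LD1_c1 LD2_c9 LD3_c45) Lrfl Lrfl
theorem f43280 : Led Lsl_et (LP (LK LD1_c2 LD2_c25 LD3_c2)) = (LP (LK LD1_c2 LD2_c25 LD3_c2)) :=
  Lgr Lrot69 (Lpe (K9.f31468 IH) (Lpe (K1.f31522 IH) (Lpr_ff (K1.f43233 IH) (Lpe (K1.f31456 IH) (Lpe (f31524 IH) (Lpn (LP (LK LD1_c2 LD2_c25 LD3_c2))))))))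
theorem f190983 : Led Lsl_bt (LP (LK LD1_c2 LD2_c25 LD3_c2)) = (LP (LK LD1_c1 LD2_c12 LD3_c58)) :=
  Lgr Lrot128 (Lpe (K10.f43282 IH) (Lpr_bf (K9.f50846 IH) (Lpr_cf (K10.f189592 IH) (Lpr_bf (K10.f190977 IH) (Lpe (K10.f171521 IH) (Lpn (LP (LK LD1_c1 LD2_c12 LD3_c58))))))))
theorem f214109 : Led Lsl_ef (LP (LK LD1_c1 LD2_c12 LD3_c58)) = (LP (LK LD1_c1 LD2_c12 LD3_c58)) :=
  Lgr Lrot29 (Lpr_bt (f214105 IH) (Lpr_et (f43280 IH) (Lpr_bt (f190983 IH) (Lpn (LP (LK LD1_c1 LD2_c12 LD3_c58))))))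
theorem f214111 : Led Lsl_at (LP (LK LD1_c1 LD2_c12 LD3_c58)) = (LP (LK LD1_c1 LD2_c11 LD3_c37)) :=
  Lgr Lrot80 (Lpr_ef (f214109 IH) (Lpr_af (K10.f192562 IH) (Lpr_ef (K10.f192549 IH) (Lpn (LP (LK LD1_c1 LD2_c11 LD3_c37))))))
theorem f190992 : Led Lsl_dt (LP (LK LD1_c2 LD2_c31 LD3_c51)) = (LP (LK LD1_c1 LD2_c12 LD3_c58)) :=
  Lre_d IH (LK LD1_c2 LD2_c31 LD3_c51) (LK LD1_c1 LD2_c12 LD3_c58) Lrfl Lrfl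
theorem f192546 : Led Lsl_dt (LP (LK LD1_c1 LD2_c11 LD3_c37)) = (LP (LK LD1_c2 LD2_c28 LD3_c57)) :=
  Lre_d IH (LK LD1_c1 LD2_c11 LD3_c37) (LK LD1_c2 LD2_c28 LD3_c57) Lrfl Lrfl
theorem f214124 : Led Lsl_af (LP (LK LD1_c2 LD2_c31 LD3_c51)) = (LP (LK LD1_c2 LD2_c28 LD3_c57)) :=
  Lgr Lrot117 (Lpr_dt (f190992 IH) (Lpr_at (f214111 IH) (Lpr_dt (f192546 IH) (Lpn (LP (LK LD1_c2 LD2_c28 LD3_c57))))))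
theorem f192556 : Led Lsl_dt (LP (LK LD1_c2 LD2_c28 LD3_c57)) = (LP (LK LD1_c1 LD2_c11 LD3_c37)) :=
  Lre_d IH (LK LD1_c2 LD2_c28 LD3_c57) (LK LD1_c1 LD2_c11 LD3_c37) Lrfl Lrfl
theorem f194152 : Led Lsl_gf (LP (LK LD1_c1 LD2_c11 LD3_c47)) = (LP (LK LD1_c2 LD2_c28 LD3_c57)) :=
  Lgr Lrot147 (Lpr_ct (K10.f165592 IH) (Lpe (K10.f190620 IH) (Lpr_ct (K1.f43956 IH) (Lpe (K10.f43960 IH) (Lpe (K10.f44632 IH) (Lpe (K10.f8482 IH) (Lpr_cf (K10.f194139 IH) (Lpe (K10.f28372 IH) (Lpe (f192556 IH) (Lpn (LP (LK LD1_c2 LD2_c28 LD3_c57))))))))))))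
theorem f212306 : Led Lsl_bt (LP (LK LD1_c4 LD2_c7 LD3_c36)) = (LP (LK LD1_c2 LD2_c28 LD3_c57)) :=
  Lgr Lrot130 (Lpe (K10.f188325 IH) (Lpe (K10.f165616 IH) (Lpe (f165615 IH) (Lpr_bt (f212296 IH) (Lpe (f28154 IH) (Lpr_bf (K10.f45804 IH) (Lpr_ct (K10.f43931 IH) (Lpr_gf (K10.f190620 IH) (Lpe (K10.f165592 IH) (Lpr_gf (f194152 IH) (Lpn (LP (LK LD1_c2 LD2_c28 LD3_c57)))))))))))))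
theorem f43552 : Led Lsl_af (LP (LK LD1_c4 LD2_c54 LD3_c4)) = (LP (LK LD1_c4 LD2_c54 LD3_c19)) :=
  Lgr Lrot45 (Lpr_ft (K10.f43551 IH) (Lpr_at (K10.f43546 IH) (Lpr_ft (K9.f31517 IH) (Lpn (LP (LK LD1_c4 LD2_c54 LD3_c19))))))
theorem f214128 : Led Lsl_bt (LP (LK LD1_c2 LD2_c31 LD3_c51)) = (LP (LK LD1_c4 LD2_c54 LD3_c19)) :=
  Lgr Lrot62 (Lpr_af (f214124 IH) (Lpe (f212306 IH) (Lpr_af (K10.f49556 IH) (Lpe (K9.f50027 IH) (Lpr_af (f43552 IH) (Lpn (LP (LK LD1_c4 LD2_c54 LD3_c19))))))))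
theorem f171650 : Led Lsl_ct (LP (LK LD1_c2 LD2_c31 LD3_c51)) = (LP (LK LD1_c5 LD2_c9 LD3_c27)) :=
  Lre_c IH (LK LD1_c2 LD2_c31 LD3_c51) (LK LD1_c5 LD2_c9 LD3_c27) Lrfl Lrfl
theorem f32866 : Led Lsl_bt (LP (LK LD1_c2 LD2_c34 LD3_c46)) = (LP (LK LD1_c1 LD2_c14 LD3_c24)) :=
  Lre_b IH (LK LD1_c2 LD2_c34 LD3_c46) (LK LD1_c1 LD2_c14 LD3_c24) Lrfl Lrfl
theorem f32867 : Led Lsl_ct (LP (LK LD1_c2 LD2_c34 LD3_c46)) = (LP (LK LD1_c5 LD2_c15 LD3_c52)) :=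
  Lre_c IH (LK LD1_c2 LD2_c34 LD3_c46) (LK LD1_c5 LD2_c15 LD3_c52) Lrfl Lrfl
theorem f214270 : Led Lsl_gt (LP (LK LD1_c5 LD2_c9 LD3_c27)) = (LP (LK LD1_c5 LD2_c15 LD3_c52)) :=
  Lgr Lrot65 (Lpe (f171650 IH) (Lpr_bt (f214128 IH) (Lpr_gf (K9.f43811 IH) (Lpe (K9.f184074 IH) (Lpr_ct (K9.f184062 IH) (Lpe (K9.f47574 IH) (Lpe (K1.f45192 IH) (Lpe (K10.f45401 IH) (Lpe (f32866 IH) (Lpr_ct (f32867 IH) (Lpn (LP (LK LD1_c5 LD2_c15 LD3_c52)))))))))))))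
theorem f171629 : Led Lsl_bt (LP (LK LD1_c0 LD2_c33 LD3_c56)) = (LP (LK LD1_c1 LD2_c13 LD3_c9)) :=
  Lre_b IH (LK LD1_c0 LD2_c33 LD3_c56) (LK LD1_c1 LD2_c13 LD3_c9) Lrfl Lrfl
theorem f214272 : Led Lsl_gf (LP (LK LD1_c2 LD2_c31 LD3_c51)) = (LP (LK LD1_c1 LD2_c13 LD3_c9)) :=
  Lgr Lrot181 (Lpr_ct (f171650 IH) (Lpr_gt (f214270 IH) (Lpe (f32867 IH) (Lpr_bt (f32866 IH) (Lpr_gt (K10.f45401 IH) (Lpe (K9.f32441 IH) (Lpr_ct (K2.f32285 IH) (Lpr_gt (K10.f171618 IH) (Lpe (K10.f165245 IH) (Lpr_bt (f171629 IH) (Lpn (LP (LK LD1_c1 LD2_c13 LD3_c9)))))))))))))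
theorem f197030 : Led Lsl_ct (LP (LK LD1_c2 LD2_c5 LD3_c15)) = (LP (LK LD1_c4 LD2_c15 LD3_c50)) :=
  Lre_c IH (LK LD1_c2 LD2_c5 LD3_c15) (LK LD1_c4 LD2_c15 LD3_c50) Lrfl Lrfl
theorem f44976 : Led Lsl_ct (LP (LK LD1_c4 LD2_c7 LD3_c35)) = (LP (LK LD1_c2 LD2_c1 LD3_c8)) :=
  Lre_c IH (LK LD1_c4 LD2_c7 LD3_c35) (LK LD1_c2 LD2_c1 LD3_c8) Lrfl Lrfl
theorem f197031 : Led Lsl_gt (LP (LK LD1_c4 LD2_c15 LD3_c50)) = (LP (LK LD1_c4 LD2_c7 LD3_c35)) :=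
  Lgr Lrot150 (Lpe (f197030 IH) (Lpr_gf (K10.f197022 IH) (Lpe (K10.f32203 IH) (Lpr_gt (K10.f32109 IH) (Lpe (K10.f192572 IH) (Lpr_gt (K10.f191145 IH) (Lpr_ct (K9.f49633 IH) (Lpe (K9.f44988 IH) (Lpe (f44976 IH) (Lpn (LP (LK LD1_c4 LD2_c7 LD3_c35))))))))))))
theorem f197034 : Led Lsl_gt (LP (LK LD1_c1 LD2_c55 LD3_c49)) = (LP (LK LD1_c1 LD2_c13 LD3_c9)) :=
  Lgr Lrot164 (Lpr_bf (K9.f50816 IH) (Lpr_ct (K9.f45005 IH) (Lpe (f197031 IH) (Lpe (f197030 IH) (Lpr_gf (K10.f197022 IH) (Lpe (K10.f32801 IH) (Lpr_ct (K2.f32271 IH) (Lpr_gf (K10.f171515 IH) (Lpe (K10.f165245 IH) (Lpr_bt (f171629 IH) (Lpn (LP (LK LD1_c1 LD2_c13 LD3_c9)))))))))))))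
theorem f214278 : Led Lsl_ff (LP (LK LD1_c2 LD2_c28 LD3_c57)) = (LP (LK LD1_c1 LD2_c55 LD3_c49)) :=
  Lgr Lrot52 (Lpe (f214124 IH) (Lpr_gf (f214272 IH) (Lpe (f197034 IH) (Lpn (LP (LK LD1_c1 LD2_c55 LD3_c49))))))
theorem f214102 : Led Lsl_ct (LP (LK LD1_c5 LD2_c9 LD3_c27)) = (LP (LK LD1_c2 LD2_c31 LD3_c51)) :=
  Lre_c IH (LK LD1_c5 LD2_c9 LD3_c27) (LK LD1_c2 LD2_c31 LD3_c51) Lrfl Lrfl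
theorem f214135 : Led Lsl_dt (LP (LK LD1_c10 LD2_c9 LD3_c38)) = (LP (LK LD1_c5 LD2_c9 LD3_c27)) :=
  Lre_d IH (LK LD1_c10 LD2_c9 LD3_c38) (LK LD1_c5 LD2_c9 LD3_c27) Lrfl Lrfl
theorem f43904 : Led Lsl_dt (LP (LK LD1_c4 LD2_c50 LD3_c36)) = (LP (LK LD1_c9 LD2_c33 LD3_c21)) :=
  Lre_d IH (LK LD1_c4 LD2_c50 LD3_c36) (LK LD1_c9 LD2_c33 LD3_c21) Lrfl Lrfl
theorem f214306 : Led Lsl_cf (LP (LK LD1_c10 LD2_c9 LD3_c38)) = (LP (LK LD1_c9 LD2_c33 LD3_c21)) :=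
  Lgr Lrot161 (Lpr_dt (f214135 IH) (Lpr_ct (f214102 IH) (Lpr_af (f214124 IH) (Lpr_ff (f214278 IH) (Lpr_dt (K9.f43257 IH) (Lpr_ct (K10.f43219 IH) (Lpr_dt (K0.f27701 IH) (Lpr_ct (K11.f27720 IH) (Lpr_dt (f43904 IH) (Lpn (LP (LK LD1_c9 LD2_c33 LD3_c21))))))))))))
theorem f214113 : Led Lsl_et (LP (LK LD1_c2 LD2_c31 LD3_c51)) = (LP (LK LD1_c5 LD2_c9 LD3_c28)) :=
  Lre_e IH (LK LD1_c2 LD2_c31 LD3_c51) (LK LD1_c5 LD2_c9 LD3_c28) Lrfl Lrfl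
theorem f192557 : Led Lsl_et (LP (LK LD1_c5 LD2_c2 LD3_c47)) = (LP (LK LD1_c2 LD2_c28 LD3_c57)) :=
  Lre_e IH (LK LD1_c5 LD2_c2 LD3_c47) (LK LD1_c2 LD2_c28 LD3_c57) Lrfl Lrfl
theorem f214133 : Led Lsl_at (LP (LK LD1_c5 LD2_c9 LD3_c28)) = (LP (LK LD1_c5 LD2_c2 LD3_c47)) :=
  Lgr Lrot80 (Lpe (f214113 IH) (Lpr_af (f214124 IH) (Lpe (f192557 IH) (Lpn (LP (LK LD1_c5 LD2_c2 LD3_c47))))))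
theorem f214117 : Led Lsl_ct (LP (LK LD1_c10 LD2_c9 LD3_c39)) = (LP (LK LD1_c5 LD2_c9 LD3_c28)) :=
  Lre_c IH (LK LD1_c10 LD2_c9 LD3_c39) (LK LD1_c5 LD2_c9 LD3_c28) Lrfl Lrfl
theorem f214138 : Led Lsl_ct (LP (LK LD1_c5 LD2_c2 LD3_c47)) = (LP (LK LD1_c9 LD2_c56 LD3_c25)) :=
  Lre_c IH (LK LD1_c5 LD2_c2 LD3_c47) (LK LD1_c9 LD2_c56 LD3_c25) Lrfl Lrfl
theorem f214139 : Led Lsl_af (LP (LK LD1_c10 LD2_c9 LD3_c39)) = (LP (LK LD1_c9 LD2_c56 LD3_c25)) :=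
  Lgr Lrot68 (Lpr_ct (f214117 IH) (Lpr_at (f214133 IH) (Lpr_ct (f214138 IH) (Lpn (LP (LK LD1_c9 LD2_c56 LD3_c25))))))
theorem f214121 : Led Lsl_dt (LP (LK LD1_c10 LD2_c9 LD3_c39)) = (LP (LK LD1_c18 LD2_c30 LD3_c35)) :=
  Lre_d IH (LK LD1_c10 LD2_c9 LD3_c39) (LK LD1_c18 LD2_c30 LD3_c35) Lrfl Lrfl
theorem f214142 : Led Lsl_dt (LP (LK LD1_c18 LD2_c11 LD3_c20)) = (LP (LK LD1_c9 LD2_c56 LD3_c25)) :=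
  Lre_d IH (LK LD1_c18 LD2_c11 LD3_c20) (LK LD1_c9 LD2_c56 LD3_c25) Lrfl Lrfl
theorem f214148 : Led Lsl_at (LP (LK LD1_c18 LD2_c30 LD3_c35)) = (LP (LK LD1_c18 LD2_c11 LD3_c20)) :=
  Lgr Lrot51 (Lpe (f214121 IH) (Lpr_af (f214139 IH) (Lpe (f214142 IH) (Lpn (LP (LK LD1_c18 LD2_c11 LD3_c20))))))
theorem f214160 : Led Lsl_et (LP (LK LD1_c28 LD2_c4 LD3_c38)) = (LP (LK LD1_c18 LD2_c30 LD3_c35)) :=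
  Lre_e IH (LK LD1_c28 LD2_c4 LD3_c38) (LK LD1_c18 LD2_c30 LD3_c35) Lrfl Lrfl
theorem f214161 : Led Lsl_et (LP (LK LD1_c18 LD2_c11 LD3_c20)) = (LP (LK LD1_c27 LD2_c51 LD3_c36)) :=
  Lre_e IH (LK LD1_c18 LD2_c11 LD3_c20) (LK LD1_c27 LD2_c51 LD3_c36) Lrfl Lrfl
theorem f214162 : Led Lsl_af (LP (LK LD1_c28 LD2_c4 LD3_c38)) = (LP (LK LD1_c27 LD2_c51 LD3_c36)) :=
  Lgr Lrot50 (Lpr_et (f214160 IH) (Lpr_at (f214148 IH) (Lpr_et (f214161 IH) (Lpn (LP (LK LD1_c27 LD2_c51 LD3_c36))))))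
theorem f214168 : Led Lsl_dt (LP (LK LD1_c28 LD2_c4 LD3_c38)) = (LP (LK LD1_c18 LD2_c30 LD3_c34)) :=
  Lre_d IH (LK LD1_c28 LD2_c4 LD3_c38) (LK LD1_c18 LD2_c30 LD3_c34) Lrfl Lrfl
theorem f214169 : Led Lsl_dt (LP (LK LD1_c18 LD2_c11 LD3_c19)) = (LP (LK LD1_c27 LD2_c51 LD3_c36)) :=
  Lre_d IH (LK LD1_c18 LD2_c11 LD3_c19) (LK LD1_c27 LD2_c51 LD3_c36) Lrfl Lrfl
theorem f214170 : Led Lsl_at (LP (LK LD1_c18 LD2_c30 LD3_c34)) = (LP (LK LD1_c18 LD2_c11 LD3_c19)) :=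
  Lgr Lrot51 (Lpe (f214168 IH) (Lpr_af (f214162 IH) (Lpe (f214169 IH) (Lpn (LP (LK LD1_c18 LD2_c11 LD3_c19))))))
theorem f214178 : Led Lsl_et (LP (LK LD1_c10 LD2_c9 LD3_c38)) = (LP (LK LD1_c18 LD2_c30 LD3_c34)) :=
  Lre_e IH (LK LD1_c10 LD2_c9 LD3_c38) (LK LD1_c18 LD2_c30 LD3_c34) Lrfl Lrfl
theorem f214179 : Led Lsl_et (LP (LK LD1_c18 LD2_c11 LD3_c19)) = (LP (LK LD1_c9 LD2_c56 LD3_c24)) :=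
  Lre_e IH (LK LD1_c18 LD2_c11 LD3_c19) (LK LD1_c9 LD2_c56 LD3_c24) Lrfl Lrfl
theorem f214180 : Led Lsl_af (LP (LK LD1_c10 LD2_c9 LD3_c38)) = (LP (LK LD1_c9 LD2_c56 LD3_c24)) :=
  Lgr Lrot50 (Lpr_et (f214178 IH) (Lpr_at (f214170 IH) (Lpr_et (f214179 IH) (Lpn (LP (LK LD1_c9 LD2_c56 LD3_c24))))))
theorem f43258 : Led Lsl_ct (LP (LK LD1_c3 LD2_c58 LD3_c5)) = (LP (LK LD1_c1 LD2_c55 LD3_c49)) :=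
  Lre_c IH (LK LD1_c3 LD2_c58 LD3_c5) (LK LD1_c1 LD2_c55 LD3_c49) Lrfl Lrfl
theorem f43259 : Led Lsl_dt (LP (LK LD1_c7 LD2_c57 LD3_c36)) = (LP (LK LD1_c3 LD2_c58 LD3_c5)) :=
  Lre_d IH (LK LD1_c7 LD2_c57 LD3_c36) (LK LD1_c3 LD2_c58 LD3_c5) Lrfl Lrfl
theorem f214316 : Led Lsl_ff (LP (LK LD1_c9 LD2_c56 LD3_c24)) = (LP (LK LD1_c7 LD2_c57 LD3_c36)) :=
  Lgr Lrot103 (Lpe (f214180 IH) (Lpr_cf (f214306 IH) (Lpe (f43904 IH) (Lpe (K11.f27720 IH) (Lpe (K0.f27701 IH) (Lpe (K10.f43219 IH) (Lpe (K9.f43257 IH) (Lpe (f43258 IH) (Lpe (f43259 IH) (Lpn (LP (LK LD1_c7 LD2_c57 LD3_c36))))))))))))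
theorem f214326 : Led Lsl_ft (LP (LK LD1_c9 LD2_c56 LD3_c24)) = (LP (LK LD1_c7 LD2_c57 LD3_c36)) :=
  Lgr Lrot48 (Lpr_ff (f214316 IH) (Lpn (LP (LK LD1_c7 LD2_c57 LD3_c36))))
theorem f214202 : Led Lsl_at (LP (LK LD1_c10 LD2_c9 LD3_c38)) = (LP (LK LD1_c9 LD2_c56 LD3_c24)) :=
  Lgr Lrot100 (Lpr_af (f214180 IH) (Lpn (LP (LK LD1_c9 LD2_c56 LD3_c24))))
theorem f43845 : Led Lsl_af (LP (LK LD1_c1 LD2_c55 LD3_c48)) = (LP (LK LD1_c1 LD2_c55 LD3_c49)) :=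
  Lgr Lrot117 (Lpr_dt (K1.f31465 IH) (Lpr_at (K9.f43229 IH) (Lpr_dt (K9.f41381 IH) (Lpn (LP (LK LD1_c1 LD2_c55 LD3_c49))))))
theorem f31476 : Led Lsl_ct (LP (LK LD1_c1 LD2_c55 LD3_c48)) = (LP (LK LD1_c3 LD2_c58 LD3_c4)) :=
  Lre_c IH (LK LD1_c1 LD2_c55 LD3_c48) (LK LD1_c3 LD2_c58 LD3_c4) Lrfl Lrfl
theorem f43849 : Led Lsl_at (LP (LK LD1_c3 LD2_c58 LD3_c4)) = (LP (LK LD1_c3 LD2_c58 LD3_c5)) :=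
  Lgr Lrot107 (Lpe (f31476 IH) (Lpr_af (f43845 IH) (Lpe (f43258 IH) (Lpn (LP (LK LD1_c3 LD2_c58 LD3_c5))))))
theorem f31518 : Led Lsl_dt (LP (LK LD1_c7 LD2_c57 LD3_c34)) = (LP (LK LD1_c3 LD2_c58 LD3_c4)) :=
  Lre_d IH (LK LD1_c7 LD2_c57 LD3_c34) (LK LD1_c3 LD2_c58 LD3_c4) Lrfl Lrfl
theorem f43857 : Led Lsl_dt (LP (LK LD1_c3 LD2_c58 LD3_c5)) = (LP (LK LD1_c7 LD2_c57 LD3_c36)) :=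
  Lre_d IH (LK LD1_c3 LD2_c58 LD3_c5) (LK LD1_c7 LD2_c57 LD3_c36) Lrfl Lrfl
theorem f43858 : Led Lsl_af (LP (LK LD1_c7 LD2_c57 LD3_c34)) = (LP (LK LD1_c7 LD2_c57 LD3_c36)) :=
  Lgr Lrot117 (Lpr_dt (f31518 IH) (Lpr_at (f43849 IH) (Lpr_dt (f43857 IH) (Lpn (LP (LK LD1_c7 LD2_c57 LD3_c36))))))
theorem f214328 : Led Lsl_ff (LP (LK LD1_c10 LD2_c9 LD3_c38)) = (LP (LK LD1_c7 LD2_c57 LD3_c34)) :=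
  Lgr Lrot30 (Lpr_at (f214202 IH) (Lpr_ft (f214326 IH) (Lpe (f43858 IH) (Lpn (LP (LK LD1_c7 LD2_c57 LD3_c34))))))
theorem f31509 : Led Lsl_ct (LP (LK LD1_c3 LD2_c58 LD3_c4)) = (LP (LK LD1_c1 LD2_c55 LD3_c48)) :=
  Lre_c IH (LK LD1_c3 LD2_c58 LD3_c4) (LK LD1_c1 LD2_c55 LD3_c48) Lrfl Lrfl
theorem f194820 : Led Lsl_ct (LP (LK LD1_c2 LD2_c37 LD3_c30)) = (LP (LK LD1_c1 LD2_c15 LD3_c47)) :=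
  Lre_c IH (LK LD1_c2 LD2_c37 LD3_c30) (LK LD1_c1 LD2_c15 LD3_c47) Lrfl Lrfl
theorem f8398 : Led Lsl_dt (LP (LK LD1_c0 LD2_c35 LD3_c6)) = (LP (LK LD1_c1 LD2_c15 LD3_c42)) :=
  Lre_d IH (LK LD1_c0 LD2_c35 LD3_c6) (LK LD1_c1 LD2_c15 LD3_c42) Lrfl Lrfl
theorem f8399 : Led Lsl_ct (LP (LK LD1_c1 LD2_c15 LD3_c42)) = (LP (LK LD1_c2 LD2_c37 LD3_c23)) :=
  Lre_c IH (LK LD1_c1 LD2_c15 LD3_c42) (LK LD1_c2 LD2_c37 LD3_c23) Lrfl Lrfl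
theorem f198868 : Led Lsl_dt (LP (LK LD1_c5 LD2_c21 LD3_c34)) = (LP (LK LD1_c2 LD2_c37 LD3_c23)) :=
  Lre_d IH (LK LD1_c5 LD2_c21 LD3_c34) (LK LD1_c2 LD2_c37 LD3_c23) Lrfl Lrfl
theorem f198869 : Led Lsl_gt (LP (LK LD1_c10 LD2_c33 LD3_c29)) = (LP (LK LD1_c5 LD2_c21 LD3_c34)) :=
  Lre_g IH (LK LD1_c10 LD2_c33 LD3_c29) (LK LD1_c5 LD2_c21 LD3_c34) Lrfl Lrfl
theorem f198870 : Led Lsl_df (LP (LK LD1_c10 LD2_c33 LD3_c29)) = (LP (LK LD1_c5 LD2_c21 LD3_c47)) :=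
  Lgr Lrot153 (Lpr_gt (f198869 IH) (Lpr_dt (f198868 IH) (Lpe (f8399 IH) (Lpe (f8398 IH) (Lpe (K10.f8397 IH) (Lpe (f46457 IH) (Lpe (K11.f47949 IH) (Lpe (f194820 IH) (Lpr_gt (K11.f198866 IH) (Lpn (LP (LK LD1_c5 LD2_c21 LD3_c47))))))))))))
theorem f215615 : Led Lsl_cf (LP (LK LD1_c9 LD2_c56 LD3_c24)) = (LP (LK LD1_c10 LD2_c33 LD3_c29)) :=
  Lgr Lrot102 (Lpe (f214202 IH) (Lpr_ff (f214328 IH) (Lpr_dt (f31518 IH) (Lpr_ct (f31509 IH) (Lpr_dt (K1.f31465 IH) (Lpr_ct (K9.f31470 IH) (Lpr_dt (K10.f43252 IH) (Lpr_ct (K11.f194381 IH) (Lpe (f198870 IH) (Lpn (LP (LK LD1_c10 LD2_c33 LD3_c29))))))))))))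
theorem f214242 : Led Lsl_et (LP (LK LD1_c9 LD2_c56 LD3_c24)) = (LP (LK LD1_c18 LD2_c11 LD3_c19)) :=
  Lre_e IH (LK LD1_c9 LD2_c56 LD3_c24) (LK LD1_c18 LD2_c11 LD3_c19) Lrfl Lrfl
theorem f215621 : Led Lsl_et (LP (LK LD1_c19 LD2_c7 LD3_c20)) = (LP (LK LD1_c10 LD2_c33 LD3_c29)) :=
  Lre_e IH (LK LD1_c19 LD2_c7 LD3_c20) (LK LD1_c10 LD2_c33 LD3_c29) Lrfl Lrfl
theorem f215622 : Led Lsl_ct (LP (LK LD1_c18 LD2_c11 LD3_c19)) = (LP (LK LD1_c19 LD2_c7 LD3_c20)) :=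
  Lgr Lrot15 (Lpe (f214242 IH) (Lpr_cf (f215615 IH) (Lpe (f215621 IH) (Lpn (LP (LK LD1_c19 LD2_c7 LD3_c20))))))
theorem f215654 : Led Lsl_cf (LP (LK LD1_c18 LD2_c11 LD3_c19)) = (LP (LK LD1_c19 LD2_c7 LD3_c20)) :=
  Lgr Lrot11 (Lpr_ct (f215622 IH) (Lpn (LP (LK LD1_c19 LD2_c7 LD3_c20))))
theorem f214174 : Led Lsl_af (LP (LK LD1_c18 LD2_c30 LD3_c34)) = (LP (LK LD1_c18 LD2_c11 LD3_c19)) :=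
  Lgr Lrot0 (Lpr_at (f214170 IH) (Lpn (LP (LK LD1_c18 LD2_c11 LD3_c19))))
theorem f51208 : Led Lsl_et (LP (LK LD1_c17 LD2_c35 LD3_c51)) = (LP (LK LD1_c9 LD2_c33 LD3_c21)) :=
  Lre_e IH (LK LD1_c17 LD2_c35 LD3_c51) (LK LD1_c9 LD2_c33 LD3_c21) Lrfl Lrfl
theorem f214314 : Led Lsl_ct (LP (LK LD1_c18 LD2_c30 LD3_c34)) = (LP (LK LD1_c17 LD2_c35 LD3_c51)) :=
  Lgr Lrot15 (Lpe (f214178 IH) (Lpr_cf (f214306 IH) (Lpe (f51208 IH) (Lpn (LP (LK LD1_c17 LD2_c35 LD3_c51))))))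
theorem f215658 : Led Lsl_at (LP (LK LD1_c17 LD2_c35 LD3_c51)) = (LP (LK LD1_c19 LD2_c7 LD3_c20)) :=
  Lgr Lrot107 (Lpe (f214314 IH) (Lpr_af (f214174 IH) (Lpr_cf (f215654 IH) (Lpn (LP (LK LD1_c19 LD2_c7 LD3_c20))))))
theorem f217868 : Led Lsl_df (LP (LK LD1_c10 LD2_c36 LD3_c41)) = (LP (LK LD1_c19 LD2_c7 LD3_c20)) :=
  Lgr Lrot18 (Lpr_at (f217838 IH) (Lpe (f51204 IH) (Lpr_at (f215658 IH) (Lpn (LP (LK LD1_c19 LD2_c7 LD3_c20))))))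
theorem f217870 : Led Lsl_bt (LP (LK LD1_c10 LD2_c36 LD3_c41)) = (LP (LK LD1_c19 LD2_c13 LD3_c13)) :=
  Lre_b IH (LK LD1_c10 LD2_c36 LD3_c41) (LK LD1_c19 LD2_c13 LD3_c13) Lrfl Lrfl
theorem f215660 : Led Lsl_bt (LP (LK LD1_c28 LD2_c32 LD3_c52)) = (LP (LK LD1_c19 LD2_c7 LD3_c20)) :=
  Lre_b IH (LK LD1_c28 LD2_c32 LD3_c52) (LK LD1_c19 LD2_c7 LD3_c20) Lrfl Lrfl
theorem f217871 : Led Lsl_dt (LP (LK LD1_c19 LD2_c13 LD3_c13)) = (LP (LK LD1_c28 LD2_c32 LD3_c52)) :=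
  Lgr Lrot79 (Lpe (f217870 IH) (Lpr_df (f217868 IH) (Lpe (f215660 IH) (Lpn (LP (LK LD1_c28 LD2_c32 LD3_c52))))))
theorem f217878 : Led Lsl_et (LP (LK LD1_c10 LD2_c36 LD3_c40)) = (LP (LK LD1_c19 LD2_c13 LD3_c13)) :=
  Lre_e IH (LK LD1_c10 LD2_c36 LD3_c40) (LK LD1_c19 LD2_c13 LD3_c13) Lrfl Lrfl
theorem f215637 : Led Lsl_et (LP (LK LD1_c28 LD2_c32 LD3_c52)) = (LP (LK LD1_c19 LD2_c7 LD3_c19)) :=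
  Lre_e IH (LK LD1_c28 LD2_c32 LD3_c52) (LK LD1_c19 LD2_c7 LD3_c19) Lrfl Lrfl
theorem f214312 : Led Lsl_ct (LP (LK LD1_c10 LD2_c9 LD3_c38)) = (LP (LK LD1_c9 LD2_c33 LD3_c21)) :=
  Lgr Lrot59 (Lpr_cf (f214306 IH) (Lpn (LP (LK LD1_c9 LD2_c33 LD3_c21))))
theorem f215617 : Led Lsl_at (LP (LK LD1_c9 LD2_c33 LD3_c21)) = (LP (LK LD1_c10 LD2_c33 LD3_c29)) :=
  Lgr Lrot107 (Lpe (f214312 IH) (Lpr_af (f214180 IH) (Lpr_cf (f215615 IH) (Lpn (LP (LK LD1_c10 LD2_c33 LD3_c29))))))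
theorem f183723 : Led Lsl_bt (LP (LK LD1_c6 LD2_c6 LD3_c16)) = (LP (LK LD1_c11 LD2_c55 LD3_c53)) :=
  Lre_b IH (LK LD1_c6 LD2_c6 LD3_c16) (LK LD1_c11 LD2_c55 LD3_c53) Lrfl Lrfl
theorem f198877 : Led Lsl_bt (LP (LK LD1_c10 LD2_c33 LD3_c47)) = (LP (LK LD1_c5 LD2_c21 LD3_c47)) :=
  Lre_b IH (LK LD1_c10 LD2_c33 LD3_c47) (LK LD1_c5 LD2_c21 LD3_c47) Lrfl Lrfl
theorem f198886 : Led Lsl_ct (LP (LK LD1_c11 LD2_c55 LD3_c53)) = (LP (LK LD1_c10 LD2_c33 LD3_c47)) :=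
  Lgr Lrot83 (Lpe (f183723 IH) (Lpr_cf (K11.f183719 IH) (Lpe (K11.f50862 IH) (Lpr_cf (K11.f198874 IH) (Lpe (f198877 IH) (Lpn (LP (LK LD1_c10 LD2_c33 LD3_c47))))))))
theorem f198897 : Led Lsl_cf (LP (LK LD1_c11 LD2_c55 LD3_c53)) = (LP (LK LD1_c10 LD2_c33 LD3_c47)) :=
  Lgr Lrot11 (Lpr_ct (f198886 IH) (Lpn (LP (LK LD1_c10 LD2_c33 LD3_c47))))
theorem f183759 : Led Lsl_at (LP (LK LD1_c11 LD2_c55 LD3_c53)) = (LP (LK LD1_c21 LD2_c0 LD3_c46)) :=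
  Lre_a IH (LK LD1_c11 LD2_c55 LD3_c53) (LK LD1_c21 LD2_c0 LD3_c46) Lrfl Lrfl
theorem f198899 : Led Lsl_at (LP (LK LD1_c19 LD2_c7 LD3_c51)) = (LP (LK LD1_c10 LD2_c33 LD3_c47)) :=
  Lre_a IH (LK LD1_c19 LD2_c7 LD3_c51) (LK LD1_c10 LD2_c33 LD3_c47) Lrfl Lrfl
theorem f198900 : Led Lsl_ct (LP (LK LD1_c21 LD2_c0 LD3_c46)) = (LP (LK LD1_c19 LD2_c7 LD3_c51)) :=
  Lgr Lrot111 (Lpe (f183759 IH) (Lpr_cf (f198897 IH) (Lpe (f198899 IH) (Lpn (LP (LK LD1_c19 LD2_c7 LD3_c51))))))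
theorem f183735 : Led Lsl_ef (LP (LK LD1_c6 LD2_c6 LD3_c16)) = (LP (LK LD1_c4 LD2_c13 LD3_c52)) :=
  Lgr Lrot88 (Lpr_et (K11.f183724 IH) (Lpn (LP (LK LD1_c4 LD2_c13 LD3_c52))))
theorem f183739 : Led Lsl_bt (LP (LK LD1_c8 LD2_c26 LD3_c24)) = (LP (LK LD1_c4 LD2_c13 LD3_c52)) :=
  Lre_b IH (LK LD1_c8 LD2_c26 LD3_c24) (LK LD1_c4 LD2_c13 LD3_c52) Lrfl Lrfl
theorem f183740 : Led Lsl_et (LP (LK LD1_c11 LD2_c55 LD3_c53)) = (LP (LK LD1_c8 LD2_c26 LD3_c24)) :=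
  Lgr Lrot74 (Lpe (f183723 IH) (Lpr_ef (f183735 IH) (Lpe (f183739 IH) (Lpn (LP (LK LD1_c8 LD2_c26 LD3_c24))))))
theorem f183747 : Led Lsl_at (LP (LK LD1_c21 LD2_c0 LD3_c46)) = (LP (LK LD1_c11 LD2_c55 LD3_c53)) :=
  Lre_a IH (LK LD1_c21 LD2_c0 LD3_c46) (LK LD1_c11 LD2_c55 LD3_c53) Lrfl Lrfl
theorem f183749 : Led Lsl_ef (LP (LK LD1_c21 LD2_c0 LD3_c46)) = (LP (LK LD1_c15 LD2_c51 LD3_c4)) :=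
  Lgr Lrot20 (Lpr_at (f183747 IH) (Lpr_et (f183740 IH) (Lpr_at (f183748 IH) (Lpn (LP (LK LD1_c15 LD2_c51 LD3_c4))))))
theorem f183755 : Led Lsl_et (LP (LK LD1_c21 LD2_c0 LD3_c46)) = (LP (LK LD1_c15 LD2_c51 LD3_c4)) :=
  Lgr Lrot87 (Lpr_ef (f183749 IH) (Lpn (LP (LK LD1_c15 LD2_c51 LD3_c4))))
theorem f183761 : Led Lsl_bt (LP (LK LD1_c15 LD2_c51 LD3_c4)) = (LP (LK LD1_c8 LD2_c27 LD3_c7)) :=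
  Lre_b IH (LK LD1_c15 LD2_c51 LD3_c4) (LK LD1_c8 LD2_c27 LD3_c7) Lrfl Lrfl
theorem f183762 : Led Lsl_et (LP (LK LD1_c8 LD2_c27 LD3_c7)) = (LP (LK LD1_c15 LD2_c51 LD3_c14)) :=
  Lre_e IH (LK LD1_c8 LD2_c27 LD3_c7) (LK LD1_c15 LD2_c51 LD3_c14) Lrfl Lrfl
theorem f183763 : Led Lsl_bf (LP (LK LD1_c21 LD2_c0 LD3_c46)) = (LP (LK LD1_c15 LD2_c51 LD3_c14)) :=
  Lgr Lrot96 (Lpr_et (f183755 IH) (Lpr_bt (f183761 IH) (Lpr_et (f183762 IH) (Lpn (LP (LK LD1_c15 LD2_c51 LD3_c14))))))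
theorem f51107 : Led Lsl_ct (LP (LK LD1_c8 LD2_c27 LD3_c31)) = (LP (LK LD1_c15 LD2_c51 LD3_c14)) :=
  Lre_c IH (LK LD1_c8 LD2_c27 LD3_c31) (LK LD1_c15 LD2_c51 LD3_c14) Lrfl Lrfl
theorem f198903 : Led Lsl_bf (LP (LK LD1_c17 LD2_c35 LD3_c49)) = (LP (LK LD1_c19 LD2_c7 LD3_c51)) :=
  Lgr Lrot90 (Lpr_ct (K10.f51140 IH) (Lpr_bt (K10.f51118 IH) (Lpr_ct (f51107 IH) (Lpe (f183763 IH) (Lpr_ct (f198900 IH) (Lpn (LP (LK LD1_c19 LD2_c7 LD3_c51))))))))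
theorem f198905 : Led Lsl_bt (LP (LK LD1_c17 LD2_c35 LD3_c49)) = (LP (LK LD1_c19 LD2_c7 LD3_c51)) :=
  Lgr Lrot127 (Lpr_bf (f198903 IH) (Lpn (LP (LK LD1_c19 LD2_c7 LD3_c51))))
theorem f51183 : Led Lsl_at (LP (LK LD1_c9 LD2_c33 LD3_c20)) = (LP (LK LD1_c17 LD2_c35 LD3_c49)) :=
  Lre_a IH (LK LD1_c9 LD2_c33 LD3_c20) (LK LD1_c17 LD2_c35 LD3_c49) Lrfl Lrfl
theorem f51166 : Led Lsl_bt (LP (LK LD1_c4 LD2_c50 LD3_c36)) = (LP (LK LD1_c9 LD2_c33 LD3_c20)) :=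
  Lre_b IH (LK LD1_c4 LD2_c50 LD3_c36) (LK LD1_c9 LD2_c33 LD3_c20) Lrfl Lrfl
theorem f198927 : Led Lsl_af (LP (LK LD1_c4 LD2_c50 LD3_c36)) = (LP (LK LD1_c5 LD2_c21 LD3_c47)) :=
  Lgr Lrot36 (Lpr_bt (f51166 IH) (Lpr_at (f51183 IH) (Lpr_bt (f198905 IH) (Lpr_at (f198899 IH) (Lpr_bt (f198877 IH) (Lpn (LP (LK LD1_c5 LD2_c21 LD3_c47))))))))
theorem f215674 : Led Lsl_df (LP (LK LD1_c5 LD2_c21 LD3_c47)) = (LP (LK LD1_c10 LD2_c33 LD3_c29)) :=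
  Lgr Lrot18 (Lpe (f198927 IH) (Lpr_dt (f43904 IH) (Lpr_at (f215617 IH) (Lpn (LP (LK LD1_c10 LD2_c33 LD3_c29))))))
theorem f198890 : Led Lsl_bt (LP (LK LD1_c5 LD2_c21 LD3_c47)) = (LP (LK LD1_c10 LD2_c33 LD3_c47)) :=
  Lre_b IH (LK LD1_c5 LD2_c21 LD3_c47) (LK LD1_c10 LD2_c33 LD3_c47) Lrfl Lrfl
theorem f215619 : Led Lsl_bt (LP (LK LD1_c19 LD2_c7 LD3_c19)) = (LP (LK LD1_c10 LD2_c33 LD3_c29)) :=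
  Lre_b IH (LK LD1_c19 LD2_c7 LD3_c19) (LK LD1_c10 LD2_c33 LD3_c29) Lrfl Lrfl
theorem f215676 : Led Lsl_dt (LP (LK LD1_c10 LD2_c33 LD3_c47)) = (LP (LK LD1_c19 LD2_c7 LD3_c19)) :=
  Lgr Lrot79 (Lpe (f198890 IH) (Lpr_df (f215674 IH) (Lpe (f215619 IH) (Lpn (LP (LK LD1_c19 LD2_c7 LD3_c19))))))
theorem f215779 : Led Lsl_df (LP (LK LD1_c10 LD2_c33 LD3_c47)) = (LP (LK LD1_c19 LD2_c7 LD3_c19)) :=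
  Lgr Lrot38 (Lpr_dt (f215676 IH) (Lpn (LP (LK LD1_c19 LD2_c7 LD3_c19))))
theorem f217638 : Led Lsl_bt (LP (LK LD1_c5 LD2_c24 LD3_c9)) = (LP (LK LD1_c2 LD2_c38 LD3_c37)) :=
  Lre_b IH (LK LD1_c5 LD2_c24 LD3_c9) (LK LD1_c2 LD2_c38 LD3_c37) Lrfl Lrfl
theorem f217639 : Led Lsl_ef (LP (LK LD1_c5 LD2_c24 LD3_c9)) = (LP (LK LD1_c10 LD2_c33 LD3_c47)) :=
  Lgr Lrot29 (Lpr_bt (f217638 IH) (Lpr_et (f217630 IH) (Lpr_bt (f198890 IH) (Lpn (LP (LK LD1_c10 LD2_c33 LD3_c47))))))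
theorem f217879 : Led Lsl_df (LP (LK LD1_c10 LD2_c36 LD3_c40)) = (LP (LK LD1_c5 LD2_c24 LD3_c9)) :=
  Lgr Lrot70 (Lpr_et (f217878 IH) (Lpr_dt (f217871 IH) (Lpr_et (f215637 IH) (Lpe (f215779 IH) (Lpe (f217639 IH) (Lpn (LP (LK LD1_c5 LD2_c24 LD3_c9))))))))
theorem f217835 : Led Lsl_at (LP (LK LD1_c10 LD2_c36 LD3_c40)) = (LP (LK LD1_c19 LD2_c13 LD3_c11)) :=
  Lre_a IH (LK LD1_c10 LD2_c36 LD3_c40) (LK LD1_c19 LD2_c13 LD3_c11) Lrfl Lrfl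
theorem f217883 : Led Lsl_at (LP (LK LD1_c10 LD2_c39 LD3_c3)) = (LP (LK LD1_c5 LD2_c24 LD3_c9)) :=
  Lre_a IH (LK LD1_c10 LD2_c39 LD3_c3) (LK LD1_c5 LD2_c24 LD3_c9) Lrfl Lrfl
theorem f217884 : Led Lsl_dt (LP (LK LD1_c19 LD2_c13 LD3_c11)) = (LP (LK LD1_c10 LD2_c39 LD3_c3)) :=
  Lgr Lrot44 (Lpe (f217835 IH) (Lpr_df (f217879 IH) (Lpe (f217883 IH) (Lpn (LP (LK LD1_c10 LD2_c39 LD3_c3))))))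
theorem f217894 : Led Lsl_df (LP (LK LD1_c19 LD2_c13 LD3_c11)) = (LP (LK LD1_c10 LD2_c39 LD3_c3)) :=
  Lgr Lrot38 (Lpr_dt (f217884 IH) (Lpn (LP (LK LD1_c10 LD2_c39 LD3_c3))))
theorem f217647 : Led Lsl_bt (LP (LK LD1_c5 LD2_c23 LD3_c5)) = (LP (LK LD1_c10 LD2_c36 LD3_c40)) :=
  Lre_b IH (LK LD1_c5 LD2_c23 LD3_c5) (LK LD1_c10 LD2_c36 LD3_c40) Lrfl Lrfl
theorem f52785 : Led Lsl_bt (LP (LK LD1_c15 LD2_c50 LD3_c0)) = (LP (LK LD1_c8 LD2_c25 LD3_c47)) :=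
  Lre_b IH (LK LD1_c15 LD2_c50 LD3_c0) (LK LD1_c8 LD2_c25 LD3_c47) Lrfl Lrfl
theorem f52714 : Led Lsl_at (LP (LK LD1_c25 LD2_c46 LD3_c3)) = (LP (LK LD1_c15 LD2_c50 LD3_c0)) :=
  Lre_a IH (LK LD1_c25 LD2_c46 LD3_c3) (LK LD1_c15 LD2_c50 LD3_c0) Lrfl Lrfl
theorem f217836 : Led Lsl_bt (LP (LK LD1_c19 LD2_c13 LD3_c11)) = (LP (LK LD1_c25 LD2_c46 LD3_c3)) :=
  Lgr Lrot62 (Lpe (f217835 IH) (Lpe (f217647 IH) (Lpr_af (f217822 IH) (Lpe (f52785 IH) (Lpe (f52714 IH) (Lpn (LP (LK LD1_c25 LD2_c46 LD3_c3))))))))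
theorem f217898 : Led Lsl_bt (LP (LK LD1_c15 LD2_c49 LD3_c61)) = (LP (LK LD1_c10 LD2_c39 LD3_c3)) :=
  Lgr Lrot95 (Lpe (K10.f51164 IH) (Lpe (f217836 IH) (Lpr_df (f217894 IH) (Lpn (LP (LK LD1_c10 LD2_c39 LD3_c3))))))
theorem f217902 : Led Lsl_cf (LP (LK LD1_c15 LD2_c51 LD3_c4)) = (LP (LK LD1_c10 LD2_c39 LD3_c3)) :=
  Lgr Lrot97 (Lpr_bt (f183761 IH) (Lpr_ct (K10.f52793 IH) (Lpr_bt (K10.f51141 IH) (Lpr_ct (K10.f51156 IH) (Lpr_bt (f217898 IH) (Lpn (LP (LK LD1_c10 LD2_c39 LD3_c3))))))))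
theorem f217900 : Led Lsl_bf (LP (LK LD1_c15 LD2_c49 LD3_c61)) = (LP (LK LD1_c10 LD2_c39 LD3_c3)) :=
  Lgr Lrot24 (Lpr_bt (f217898 IH) (Lpn (LP (LK LD1_c10 LD2_c39 LD3_c3))))
theorem f50602 : Led Lsl_at (LP (LK LD1_c4 LD2_c0 LD3_c60)) = (LP (LK LD1_c5 LD2_c16 LD3_c55)) :=
  Lgr Lrot107 (Lpe (f30866 IH) (Lpr_af (K9.f50402 IH) (Lpe (f49228 IH) (Lpn (LP (LK LD1_c5 LD2_c16 LD3_c55))))))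
theorem f196556 : Led Lsl_ff (LP (LK LD1_c4 LD2_c0 LD3_c60)) = (LP (LK LD1_c5 LD2_c22 LD3_c26)) :=
  Lgr Lrot23 (Lpr_ct (K9.f30880 IH) (Lpr_ft (K10.f196554 IH) (Lpr_ct (f172030 IH) (Lpn (LP (LK LD1_c5 LD2_c22 LD3_c26))))))
theorem f218754 : Led Lsl_gf (LP (LK LD1_c4 LD2_c54 LD3_c36)) = (LP (LK LD1_c5 LD2_c22 LD3_c26)) :=
  Lgr Lrot47 (Lpr_gt (f218735 IH) (Lpe (f50602 IH) (Lpr_ff (f196556 IH) (Lpn (LP (LK LD1_c5 LD2_c22 LD3_c26))))))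
theorem f169316 : Led Lsl_ct (LP (LK LD1_c4 LD2_c54 LD3_c36)) = (LP (LK LD1_c2 LD2_c25 LD3_c12)) :=
  Lre_c IH (LK LD1_c4 LD2_c54 LD3_c36) (LK LD1_c2 LD2_c25 LD3_c12) Lrfl Lrfl
theorem f55114 : Led Lsl_dt (LP (LK LD1_c2 LD2_c25 LD3_c13)) = (LP (LK LD1_c4 LD2_c54 LD3_c40)) :=
  Lre_d IH (LK LD1_c2 LD2_c25 LD3_c13) (LK LD1_c4 LD2_c54 LD3_c40) Lrfl Lrfl
theorem f168017 : Led Lsl_ct (LP (LK LD1_c2 LD2_c39 LD3_c14)) = (LP (LK LD1_c4 LD2_c54 LD3_c40)) :=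
  Lre_c IH (LK LD1_c2 LD2_c39 LD3_c14) (LK LD1_c4 LD2_c54 LD3_c40) Lrfl Lrfl
theorem f55280 : Led Lsl_dt (LP (LK LD1_c1 LD2_c10 LD3_c2)) = (LP (LK LD1_c0 LD2_c32 LD3_c23)) :=
  Lre_d IH (LK LD1_c1 LD2_c10 LD3_c2) (LK LD1_c0 LD2_c32 LD3_c23) Lrfl Lrfl
theorem f101436 : Led Lsl_dt (LP (LK LD1_c1 LD2_c9 LD3_c50)) = (LP (LK LD1_c2 LD2_c25 LD3_c10)) :=
  Lre_d IH (LK LD1_c1 LD2_c9 LD3_c50) (LK LD1_c2 LD2_c25 LD3_c10) Lrfl Lrfl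
theorem f201189 : Led Lsl_ct (LP (LK LD1_c4 LD2_c54 LD3_c32)) = (LP (LK LD1_c2 LD2_c25 LD3_c10)) :=
  Lre_c IH (LK LD1_c4 LD2_c54 LD3_c32) (LK LD1_c2 LD2_c25 LD3_c10) Lrfl Lrfl
theorem f201190 : Led Lsl_dt (LP (LK LD1_c9 LD2_c40 LD3_c40)) = (LP (LK LD1_c4 LD2_c54 LD3_c32)) :=
  Lre_d IH (LK LD1_c9 LD2_c40 LD3_c40) (LK LD1_c4 LD2_c54 LD3_c32) Lrfl Lrfl
theorem f201191 : Led Lsl_gt (LP (LK LD1_c10 LD2_c35 LD3_c16)) = (LP (LK LD1_c9 LD2_c40 LD3_c40)) :=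
  Lgr Lrot49 (Lpe (f196568 IH) (Lpr_gf (f201187 IH) (Lpe (f41229 IH) (Lpr_gt (f55291 IH) (Lpr_dt (f55280 IH) (Lpr_gt (f40822 IH) (Lpr_dt (f101436 IH) (Lpe (f201189 IH) (Lpe (f201190 IH) (Lpn (LP (LK LD1_c9 LD2_c40 LD3_c40))))))))))))
theorem f218812 : Led Lsl_cf (LP (LK LD1_c5 LD2_c21 LD3_c5)) = (LP (LK LD1_c9 LD2_c40 LD3_c40)) :=
  Lgr Lrot169 (Lpr_gt (f181797 IH) (Lpr_ct (f168017 IH) (Lpe (f55114 IH) (Lpe (K1.f41200 IH) (Lpe (K9.f41228 IH) (Lpe (f169316 IH) (Lpr_gf (f218754 IH) (Lpe (f196828 IH) (Lpr_gt (f201191 IH) (Lpn (LP (LK LD1_c9 LD2_c40 LD3_c40))))))))))))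
theorem f218829 : Led Lsl_ct (LP (LK LD1_c5 LD2_c21 LD3_c5)) = (LP (LK LD1_c9 LD2_c40 LD3_c40)) :=
  Lgr Lrot59 (Lpr_cf (f218812 IH) (Lpn (LP (LK LD1_c9 LD2_c40 LD3_c40))))
theorem f168041 : Led Lsl_dt (LP (LK LD1_c2 LD2_c37 LD3_c8)) = (LP (LK LD1_c1 LD2_c15 LD3_c33)) :=
  Lre_d IH (LK LD1_c2 LD2_c37 LD3_c8) (LK LD1_c1 LD2_c15 LD3_c33) Lrfl Lrfl
theorem f167950 : Led Lsl_cf (LP (LK LD1_c3 LD2_c58 LD3_c24)) = (LP (LK LD1_c2 LD2_c37 LD3_c5)) :=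
  Lgr Lrot11 (Lpr_ct (f167943 IH) (Lpn (LP (LK LD1_c2 LD2_c37 LD3_c5))))
theorem f191216 : Led Lsl_et (LP (LK LD1_c15 LD2_c25 LD3_c10)) = (LP (LK LD1_c8 LD2_c11 LD3_c25)) :=
  Lre_e IH (LK LD1_c15 LD2_c25 LD3_c10) (LK LD1_c8 LD2_c11 LD3_c25) Lrfl Lrfl
theorem f217304 : Led Lsl_et (LP (LK LD1_c4 LD2_c55 LD3_c17)) = (LP (LK LD1_c9 LD2_c42 LD3_c7)) :=
  Lre_e IH (LK LD1_c4 LD2_c55 LD3_c17) (LK LD1_c9 LD2_c42 LD3_c7) Lrfl Lrfl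
theorem f217320 : Led Lsl_ff (LP (LK LD1_c15 LD2_c25 LD3_c10)) = (LP (LK LD1_c9 LD2_c42 LD3_c7)) :=
  Lgr Lrot72 (Lpr_et (f191216 IH) (Lpr_ft (K11.f191208 IH) (Lpr_et (f49229 IH) (Lpr_ft (f217316 IH) (Lpr_et (f217304 IH) (Lpn (LP (LK LD1_c9 LD2_c42 LD3_c7))))))))
theorem f191205 : Led Lsl_et (LP (LK LD1_c8 LD2_c11 LD3_c25)) = (LP (LK LD1_c15 LD2_c25 LD3_c10)) :=
  Lre_e IH (LK LD1_c8 LD2_c11 LD3_c25) (LK LD1_c15 LD2_c25 LD3_c10) Lrfl Lrfl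
theorem f49246 : Led Lsl_et (LP (LK LD1_c8 LD2_c15 LD3_c46)) = (LP (LK LD1_c4 LD2_c7 LD3_c52)) :=
  Lre_e IH (LK LD1_c8 LD2_c15 LD3_c46) (LK LD1_c4 LD2_c7 LD3_c52) Lrfl Lrfl
theorem f191206 : Led Lsl_ct (LP (LK LD1_c15 LD2_c25 LD3_c10)) = (LP (LK LD1_c8 LD2_c15 LD3_c46)) :=
  Lgr Lrot15 (Lpe (f191205 IH) (Lpr_cf (K11.f191190 IH) (Lpe (f49246 IH) (Lpn (LP (LK LD1_c8 LD2_c15 LD3_c46))))))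
theorem f217329 : Led Lsl_ct (LP (LK LD1_c5 LD2_c22 LD3_c15)) = (LP (LK LD1_c9 LD2_c42 LD3_c7)) :=
  Lgr Lrot40 (Lpr_ff (f196766 IH) (Lpe (f191206 IH) (Lpr_ff (f217320 IH) (Lpn (LP (LK LD1_c9 LD2_c42 LD3_c7))))))
theorem f30986 : Led Lsl_bf (LP (LK LD1_c8 LD2_c2 LD3_c52)) = (LP (LK LD1_c8 LD2_c39 LD3_c48)) :=
  Lgr Lrot24 (Lpr_bt (K10.f30981 IH) (Lpn (LP (LK LD1_c8 LD2_c39 LD3_c48))))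
theorem f50094 : Led Lsl_bt (LP (LK LD1_c4 LD2_c8 LD3_c7)) = (LP (LK LD1_c8 LD2_c15 LD3_c46)) :=
  Lre_b IH (LK LD1_c4 LD2_c8 LD3_c7) (LK LD1_c8 LD2_c15 LD3_c46) Lrfl Lrfl
theorem f50367 : Led Lsl_af (LP (LK LD1_c8 LD2_c39 LD3_c48)) = (LP (LK LD1_c8 LD2_c15 LD3_c46)) :=
  Lgr Lrot36 (Lpe (f30986 IH) (Lpr_at (K10.f28021 IH) (Lpr_bt (K9.f50365 IH) (Lpr_at (K9.f49771 IH) (Lpr_bt (f50094 IH) (Lpn (LP (LK LD1_c8 LD2_c15 LD3_c46))))))))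
theorem f196804 : Led Lsl_af (LP (LK LD1_c5 LD2_c22 LD3_c15)) = (LP (LK LD1_c5 LD2_c22 LD3_c27)) :=
  Lgr Lrot45 (Lpr_ft (f196800 IH) (Lpe (f50367 IH) (Lpr_ft (K10.f196546 IH) (Lpn (LP (LK LD1_c5 LD2_c22 LD3_c27))))))
theorem f194656 : Led Lsl_ct (LP (LK LD1_c10 LD2_c35 LD3_c17)) = (LP (LK LD1_c5 LD2_c22 LD3_c27)) :=
  Lre_c IH (LK LD1_c10 LD2_c35 LD3_c17) (LK LD1_c5 LD2_c22 LD3_c27) Lrfl Lrfl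
theorem f217331 : Led Lsl_af (LP (LK LD1_c10 LD2_c35 LD3_c17)) = (LP (LK LD1_c9 LD2_c42 LD3_c7)) :=
  Lgr Lrot68 (Lpr_ct (f194656 IH) (Lpe (f196804 IH) (Lpr_ct (f217329 IH) (Lpn (LP (LK LD1_c9 LD2_c42 LD3_c7))))))
theorem f201201 : Led Lsl_et (LP (LK LD1_c10 LD2_c35 LD3_c17)) = (LP (LK LD1_c5 LD2_c22 LD3_c26)) :=
  Lre_e IH (LK LD1_c10 LD2_c35 LD3_c17) (LK LD1_c5 LD2_c22 LD3_c26) Lrfl Lrfl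
theorem f217334 : Led Lsl_at (LP (LK LD1_c5 LD2_c22 LD3_c26)) = (LP (LK LD1_c4 LD2_c55 LD3_c17)) :=
  Lgr Lrot80 (Lpe (f201201 IH) (Lpr_af (f217331 IH) (Lpe (f217304 IH) (Lpn (LP (LK LD1_c4 LD2_c55 LD3_c17))))))
theorem f217337 : Led Lsl_ff (LP (LK LD1_c5 LD2_c22 LD3_c26)) = (LP (LK LD1_c4 LD2_c0 LD3_c60)) :=
  Lgr Lrot30 (Lpr_at (f217334 IH) (Lpe (f217307 IH) (Lpe (f50641 IH) (Lpn (LP (LK LD1_c4 LD2_c0 LD3_c60))))))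
theorem f30904 : Led Lsl_dt (LP (LK LD1_c8 LD2_c2 LD3_c45)) = (LP (LK LD1_c4 LD2_c0 LD3_c60)) :=
  Lre_d IH (LK LD1_c8 LD2_c2 LD3_c45) (LK LD1_c4 LD2_c0 LD3_c60) Lrfl Lrfl
theorem f217350 : Led Lsl_ft (LP (LK LD1_c10 LD2_c35 LD3_c16)) = (LP (LK LD1_c8 LD2_c2 LD3_c45)) :=
  Lgr Lrot54 (Lpe (f196568 IH) (Lpr_ff (f217337 IH) (Lpe (f30904 IH) (Lpn (LP (LK LD1_c8 LD2_c2 LD3_c45))))))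
theorem f30890 : Led Lsl_dt (LP (LK LD1_c4 LD2_c0 LD3_c60)) = (LP (LK LD1_c8 LD2_c2 LD3_c45)) :=
  Lre_d IH (LK LD1_c4 LD2_c0 LD3_c60) (LK LD1_c8 LD2_c2 LD3_c45) Lrfl Lrfl
theorem f50645 : Led Lsl_at (LP (LK LD1_c8 LD2_c2 LD3_c45)) = (LP (LK LD1_c10 LD2_c23 LD3_c23)) :=
  Lgr Lrot51 (Lpe (f30890 IH) (Lpr_af (f50641 IH) (Lpe (f49255 IH) (Lpn (LP (LK LD1_c10 LD2_c23 LD3_c23))))))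
theorem f217356 : Led Lsl_gt (LP (LK LD1_c9 LD2_c40 LD3_c40)) = (LP (LK LD1_c10 LD2_c23 LD3_c23)) :=
  Lgr Lrot46 (Lpe (f201191 IH) (Lpr_ft (f217350 IH) (Lpr_at (f50645 IH) (Lpn (LP (LK LD1_c10 LD2_c23 LD3_c23))))))
theorem f218871 : Led Lsl_gt (LP (LK LD1_c3 LD2_c58 LD3_c24)) = (LP (LK LD1_c2 LD2_c45 LD3_c21)) :=
  Lgr Lrot150 (Lpr_cf (f167950 IH) (Lpe (f42177 IH) (Lpe (f168041 IH) (Lpr_gt (f168042 IH) (Lpr_ct (f218829 IH) (Lpr_gt (f217356 IH) (Lpr_ct (f217723 IH) (Lpe (f217725 IH) (Lpe (f196833 IH) (Lpn (LP (LK LD1_c2 LD2_c45 LD3_c21))))))))))))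
theorem f168044 : Led Lsl_bt (LP (LK LD1_c2 LD2_c37 LD3_c7)) = (LP (LK LD1_c1 LD2_c15 LD3_c33)) :=
  Lre_b IH (LK LD1_c2 LD2_c37 LD3_c7) (LK LD1_c1 LD2_c15 LD3_c33) Lrfl Lrfl
theorem f168045 : Led Lsl_ct (LP (LK LD1_c2 LD2_c37 LD3_c7)) = (LP (LK LD1_c4 LD2_c27 LD3_c38)) :=
  Lre_c IH (LK LD1_c2 LD2_c37 LD3_c7) (LK LD1_c4 LD2_c27 LD3_c38) Lrfl Lrfl
theorem f168046 : Led Lsl_gt (LP (LK LD1_c8 LD2_c53 LD3_c8)) = (LP (LK LD1_c4 LD2_c27 LD3_c38)) :=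
  Lre_g IH (LK LD1_c8 LD2_c53 LD3_c8) (LK LD1_c4 LD2_c27 LD3_c38) Lrfl Lrfl
theorem f168047 : Led Lsl_ct (LP (LK LD1_c16 LD2_c36 LD3_c52)) = (LP (LK LD1_c8 LD2_c53 LD3_c8)) :=
  Lre_c IH (LK LD1_c16 LD2_c36 LD3_c52) (LK LD1_c8 LD2_c53 LD3_c8) Lrfl Lrfl
theorem f200877 : Led Lsl_bt (LP (LK LD1_c2 LD2_c38 LD3_c36)) = (LP (LK LD1_c5 LD2_c24 LD3_c7)) :=
  Lre_b IH (LK LD1_c2 LD2_c38 LD3_c36) (LK LD1_c5 LD2_c24 LD3_c7) Lrfl Lrfl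
theorem f196910 : Led Lsl_gt (LP (LK LD1_c5 LD2_c24 LD3_c7)) = (LP (LK LD1_c10 LD2_c38 LD3_c58)) :=
  Lre_g IH (LK LD1_c5 LD2_c24 LD3_c7) (LK LD1_c10 LD2_c38 LD3_c58) Lrfl Lrfl
theorem f218879 : Led Lsl_bt (LP (LK LD1_c16 LD2_c36 LD3_c52)) = (LP (LK LD1_c10 LD2_c38 LD3_c58)) :=
  Lgr Lrot92 (Lpr_ct (f168047 IH) (Lpr_gt (f168046 IH) (Lpe (f168045 IH) (Lpr_bt (f168044 IH) (Lpr_gt (f42177 IH) (Lpe (f167950 IH) (Lpr_gt (f218871 IH) (Lpe (K10.f196594 IH) (Lpr_bt (f200877 IH) (Lpr_gt (f196910 IH) (Lpn (LP (LK LD1_c10 LD2_c38 LD3_c58)))))))))))))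
theorem f218301 : Led Lsl_gt (LP (LK LD1_c16 LD2_c36 LD3_c44)) = (LP (LK LD1_c8 LD2_c53 LD3_c8)) :=
  Lre_g IH (LK LD1_c16 LD2_c36 LD3_c44) (LK LD1_c8 LD2_c53 LD3_c8) Lrfl Lrfl
theorem f218300 : Led Lsl_ct (LP (LK LD1_c10 LD2_c32 LD3_c4)) = (LP (LK LD1_c16 LD2_c36 LD3_c44)) :=
  Lre_c IH (LK LD1_c10 LD2_c32 LD3_c4) (LK LD1_c16 LD2_c36 LD3_c44) Lrfl Lrfl
theorem f218299 : Led Lsl_bt (LP (LK LD1_c10 LD2_c32 LD3_c4)) = (LP (LK LD1_c5 LD2_c25 LD3_c11)) :=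
  Lre_b IH (LK LD1_c10 LD2_c32 LD3_c4) (LK LD1_c5 LD2_c25 LD3_c11) Lrfl Lrfl
theorem f218298 : Led Lsl_gt (LP (LK LD1_c2 LD2_c39 LD3_c5)) = (LP (LK LD1_c5 LD2_c25 LD3_c11)) :=
  Lre_g IH (LK LD1_c2 LD2_c39 LD3_c5) (LK LD1_c5 LD2_c25 LD3_c11) Lrfl Lrfl
theorem f218240 : Led Lsl_bt (LP (LK LD1_c5 LD2_c25 LD3_c13)) = (LP (LK LD1_c2 LD2_c39 LD3_c5)) :=
  Lre_b IH (LK LD1_c5 LD2_c25 LD3_c13) (LK LD1_c2 LD2_c39 LD3_c5) Lrfl Lrfl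
theorem f27721 : Led Lsl_ct (LP (LK LD1_c4 LD2_c13 LD3_c25)) = (LP (LK LD1_c2 LD2_c4 LD3_c1)) :=
  Lre_c IH (LK LD1_c4 LD2_c13 LD3_c25) (LK LD1_c2 LD2_c4 LD3_c1) Lrfl Lrfl
theorem f27722 : Led Lsl_et (LP (LK LD1_c4 LD2_c50 LD3_c36)) = (LP (LK LD1_c4 LD2_c13 LD3_c25)) :=
  Lgr Lrot158 (Lpe (K11.f27720 IH) (Lpr_ef (K0.f27706 IH) (Lpe (f27721 IH) (Lpn (LP (LK LD1_c4 LD2_c13 LD3_c25))))))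
theorem f217636 : Led Lsl_af (LP (LK LD1_c2 LD2_c38 LD3_c37)) = (LP (LK LD1_c4 LD2_c13 LD3_c25)) :=
  Lgr Lrot50 (Lpr_et (f217630 IH) (Lpe (f198927 IH) (Lpr_et (f27722 IH) (Lpn (LP (LK LD1_c4 LD2_c13 LD3_c25))))))
theorem f196837 : Led Lsl_ff (LP (LK LD1_c4 LD2_c13 LD3_c25)) = (LP (LK LD1_c2 LD2_c38 LD3_c36)) :=
  Lgr Lrot23 (Lpr_ct (f27721 IH) (Lpr_ft (K10.f196831 IH) (Lpr_ct (f196833 IH) (Lpn (LP (LK LD1_c2 LD2_c38 LD3_c36))))))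
theorem f217930 : Led Lsl_gt (LP (LK LD1_c2 LD2_c38 LD3_c36)) = (LP (LK LD1_c1 LD2_c16 LD3_c17)) :=
  Lgr Lrot5 (Lpe (f196837 IH) (Lpe (f217636 IH) (Lpr_gf (f217657 IH) (Lpn (LP (LK LD1_c1 LD2_c16 LD3_c17))))))
theorem f51188 : Led Lsl_ct (LP (LK LD1_c4 LD2_c13 LD3_c26)) = (LP (LK LD1_c8 LD2_c25 LD3_c46)) :=
  Lre_c IH (LK LD1_c4 LD2_c13 LD3_c26) (LK LD1_c8 LD2_c25 LD3_c46) Lrfl Lrfl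
theorem f196873 : Led Lsl_cf (LP (LK LD1_c4 LD2_c14 LD3_c49)) = (LP (LK LD1_c5 LD2_c24 LD3_c7)) :=
  Lgr Lrot108 (Lpe (K10.f52672 IH) (Lpr_ct (f51188 IH) (Lpr_ft (K10.f196867 IH) (Lpn (LP (LK LD1_c5 LD2_c24 LD3_c7))))))
theorem f52869 : Led Lsl_gt (LP (LK LD1_c8 LD2_c28 LD3_c29)) = (LP (LK LD1_c4 LD2_c14 LD3_c49)) :=
  Lre_g IH (LK LD1_c8 LD2_c28 LD3_c29) (LK LD1_c4 LD2_c14 LD3_c49) Lrfl Lrfl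
theorem f218237 : Led Lsl_ct (LP (LK LD1_c0 LD2_c35 LD3_c20)) = (LP (LK LD1_c0 LD2_c15 LD3_c50)) :=
  Lre_c IH (LK LD1_c0 LD2_c35 LD3_c20) (LK LD1_c0 LD2_c15 LD3_c50) Lrfl Lrfl
theorem f218238 : Led Lsl_bt (LP (LK LD1_c0 LD2_c35 LD3_c20)) = (LP (LK LD1_c1 LD2_c16 LD3_c22)) :=
  Lre_b IH (LK LD1_c0 LD2_c35 LD3_c20) (LK LD1_c1 LD2_c16 LD3_c22) Lrfl Lrfl
theorem f218239 : Led Lsl_gt (LP (LK LD1_c1 LD2_c16 LD3_c22)) = (LP (LK LD1_c2 LD2_c39 LD3_c5)) :=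
  Lre_g IH (LK LD1_c1 LD2_c16 LD3_c22) (LK LD1_c2 LD2_c39 LD3_c5) Lrfl Lrfl
theorem f218241 : Led Lsl_cf (LP (LK LD1_c8 LD2_c28 LD3_c29)) = (LP (LK LD1_c5 LD2_c25 LD3_c13)) :=
  Lgr Lrot160 (Lpr_gt (f52869 IH) (Lpr_cf (f196873 IH) (Lpr_bt (K10.f196872 IH) (Lpr_gt (f217930 IH) (Lpr_ct (f194442 IH) (Lpr_gt (K1.f42557 IH) (Lpe (f218237 IH) (Lpr_bt (f218238 IH) (Lpr_gt (f218239 IH) (Lpe (f218240 IH) (Lpn (LP (LK LD1_c5 LD2_c25 LD3_c13)))))))))))))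
theorem f52692 : Led Lsl_at (LP (LK LD1_c8 LD2_c28 LD3_c27)) = (LP (LK LD1_c4 LD2_c14 LD3_c49)) :=
  Lre_a IH (LK LD1_c8 LD2_c28 LD3_c27) (LK LD1_c4 LD2_c14 LD3_c49) Lrfl Lrfl
theorem f52693 : Led Lsl_ft (LP (LK LD1_c8 LD2_c25 LD3_c50)) = (LP (LK LD1_c8 LD2_c28 LD3_c27)) :=
  Lgr Lrot101 (Lpe (K10.f51146 IH) (Lpr_ff (K10.f52672 IH) (Lpe (f52692 IH) (Lpn (LP (LK LD1_c8 LD2_c28 LD3_c27))))))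
theorem f52870 : Led Lsl_gt (LP (LK LD1_c8 LD2_c25 LD3_c50)) = (LP (LK LD1_c8 LD2_c28 LD3_c29)) :=
  Lgr Lrot5 (Lpr_ft (f52693 IH) (Lpr_at (f52692 IH) (Lpe (f52869 IH) (Lpn (LP (LK LD1_c8 LD2_c28 LD3_c29))))))
theorem f218887 : Led Lsl_gf (LP (LK LD1_c15 LD2_c49 LD3_c61)) = (LP (LK LD1_c10 LD2_c38 LD3_c58)) :=
  Lgr Lrot181 (Lpr_ct (K10.f51147 IH) (Lpr_gt (f52870 IH) (Lpr_cf (f218241 IH) (Lpr_bt (f218240 IH) (Lpr_gt (f218298 IH) (Lpe (f218299 IH) (Lpr_ct (f218300 IH) (Lpr_gt (f218301 IH) (Lpe (f168047 IH) (Lpr_bt (f218879 IH) (Lpn (LP (LK LD1_c10 LD2_c38 LD3_c58)))))))))))))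
theorem f218317 : Led Lsl_gt (LP (LK LD1_c5 LD2_c21 LD3_c0)) = (LP (LK LD1_c10 LD2_c32 LD3_c4)) :=
  Lre_g IH (LK LD1_c5 LD2_c21 LD3_c0) (LK LD1_c10 LD2_c32 LD3_c4) Lrfl Lrfl
theorem f221198 : Led Lsl_cf (LP (LK LD1_c10 LD2_c53 LD3_c40)) = (LP (LK LD1_c10 LD2_c32 LD3_c6)) :=
  Lgr Lrot58 (Lpr_gf (f221192 IH) (Lpr_cf (f217902 IH) (Lpe (f217900 IH) (Lpr_gf (f218887 IH) (Lpe (f218879 IH) (Lpr_ct (f168047 IH) (Lpe (f218301 IH) (Lpe (f218300 IH) (Lpe (f218317 IH) (Lpe (f218318 IH) (Lpn (LP (LK LD1_c10 LD2_c32 LD3_c6)))))))))))))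
theorem f224441 : Led Lsl_bt (LP (LK LD1_c10 LD2_c31 LD3_c29)) = (LP (LK LD1_c5 LD2_c20 LD3_c43)) :=
  Lre_b IH (LK LD1_c10 LD2_c31 LD3_c29) (LK LD1_c5 LD2_c20 LD3_c43) Lrfl Lrfl
theorem f224442 : Led Lsl_cf (LP (LK LD1_c5 LD2_c31 LD3_c4)) = (LP (LK LD1_c10 LD2_c31 LD3_c29)) :=
  Lgr Lrot58 (Lpe (f221141 IH) (Lpr_cf (f221198 IH) (Lpr_bt (f218318 IH) (Lpe (f167826 IH) (Lpe (f167825 IH) (Lpr_ct (f220752 IH) (Lpe (K9.f41271 IH) (Lpe (f42175 IH) (Lpr_gf (f224437 IH) (Lpe (f224441 IH) (Lpn (LP (LK LD1_c10 LD2_c31 LD3_c29)))))))))))))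
theorem f51145 : Led Lsl_ct (LP (LK LD1_c9 LD2_c33 LD3_c36)) = (LP (LK LD1_c17 LD2_c35 LD3_c49)) :=
  Lre_c IH (LK LD1_c9 LD2_c33 LD3_c36) (LK LD1_c17 LD2_c35 LD3_c49) Lrfl Lrfl
theorem f51148 : Led Lsl_et (LP (LK LD1_c17 LD2_c35 LD3_c49)) = (LP (LK LD1_c15 LD2_c49 LD3_c61)) :=
  Lgr Lrot158 (Lpe (f51145 IH) (Lpr_ef (K10.f51142 IH) (Lpe (K10.f51147 IH) (Lpn (LP (LK LD1_c15 LD2_c49 LD3_c61))))))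
theorem f217904 : Led Lsl_ef (LP (LK LD1_c19 LD2_c7 LD3_c51)) = (LP (LK LD1_c10 LD2_c39 LD3_c3)) :=
  Lgr Lrot29 (Lpe (f198903 IH) (Lpr_et (f51148 IH) (Lpr_bt (f217898 IH) (Lpn (LP (LK LD1_c10 LD2_c39 LD3_c3))))))
theorem f217908 : Led Lsl_et (LP (LK LD1_c19 LD2_c7 LD3_c51)) = (LP (LK LD1_c10 LD2_c39 LD3_c3)) :=
  Lgr Lrot87 (Lpr_ef (f217904 IH) (Lpn (LP (LK LD1_c10 LD2_c39 LD3_c3))))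
theorem f198894 : Led Lsl_at (LP (LK LD1_c10 LD2_c33 LD3_c47)) = (LP (LK LD1_c19 LD2_c7 LD3_c51)) :=
  Lre_a IH (LK LD1_c10 LD2_c33 LD3_c47) (LK LD1_c19 LD2_c7 LD3_c51) Lrfl Lrfl
theorem f217910 : Led Lsl_ef (LP (LK LD1_c10 LD2_c33 LD3_c47)) = (LP (LK LD1_c5 LD2_c24 LD3_c9)) :=
  Lgr Lrot20 (Lpr_at (f198894 IH) (Lpr_et (f217908 IH) (Lpr_at (f217883 IH) (Lpn (LP (LK LD1_c5 LD2_c24 LD3_c9))))))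
theorem f217912 : Led Lsl_ct (LP (LK LD1_c8 LD2_c26 LD3_c24)) = (LP (LK LD1_c5 LD2_c24 LD3_c9)) :=
  Lgr Lrot15 (Lpe (f183740 IH) (Lpr_cf (f198897 IH) (Lpr_ef (f217910 IH) (Lpn (LP (LK LD1_c5 LD2_c24 LD3_c9))))))
theorem f224455 : Led Lsl_ft (LP (LK LD1_c5 LD2_c24 LD3_c9)) = (LP (LK LD1_c10 LD2_c31 LD3_c29)) :=
  Lgr Lrot4 (Lpe (f217912 IH) (Lpe (f221154 IH) (Lpr_cf (f224442 IH) (Lpn (LP (LK LD1_c10 LD2_c31 LD3_c29))))))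
theorem f224465 : Led Lsl_ff (LP (LK LD1_c5 LD2_c24 LD3_c9)) = (LP (LK LD1_c10 LD2_c31 LD3_c29)) :=
  Lgr Lrot3 (Lpr_ft (f224455 IH) (Lpn (LP (LK LD1_c10 LD2_c31 LD3_c29))))
theorem f217897 : Led Lsl_at (LP (LK LD1_c5 LD2_c24 LD3_c9)) = (LP (LK LD1_c10 LD2_c39 LD3_c3)) :=
  Lre_a IH (LK LD1_c5 LD2_c24 LD3_c9) (LK LD1_c10 LD2_c39 LD3_c3) Lrfl Lrfl
theorem f218302 : Led Lsl_ct (LP (LK LD1_c5 LD2_c25 LD3_c11)) = (LP (LK LD1_c2 LD2_c42 LD3_c59)) :=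
  Lre_c IH (LK LD1_c5 LD2_c25 LD3_c11) (LK LD1_c2 LD2_c42 LD3_c59) Lrfl Lrfl
theorem f218303 : Led Lsl_gt (LP (LK LD1_c2 LD2_c42 LD3_c59)) = (LP (LK LD1_c1 LD2_c17 LD3_c61)) :=
  Lre_g IH (LK LD1_c2 LD2_c42 LD3_c59) (LK LD1_c1 LD2_c17 LD3_c61) Lrfl Lrfl
theorem f218304 : Led Lsl_ct (LP (LK LD1_c2 LD2_c43 LD3_c5)) = (LP (LK LD1_c1 LD2_c17 LD3_c61)) :=
  Lre_c IH (LK LD1_c2 LD2_c43 LD3_c5) (LK LD1_c1 LD2_c17 LD3_c61) Lrfl Lrfl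
theorem f218305 : Led Lsl_bt (LP (LK LD1_c2 LD2_c43 LD3_c5)) = (LP (LK LD1_c5 LD2_c34 LD3_c13)) :=
  Lre_b IH (LK LD1_c2 LD2_c43 LD3_c5) (LK LD1_c5 LD2_c34 LD3_c13) Lrfl Lrfl
theorem f218306 : Led Lsl_gf (LP (LK LD1_c10 LD2_c39 LD3_c3)) = (LP (LK LD1_c5 LD2_c34 LD3_c13)) :=
  Lgr Lrot124 (Lpe (f217898 IH) (Lpr_ct (K10.f51147 IH) (Lpr_gt (f52870 IH) (Lpr_cf (f218241 IH) (Lpr_bt (f218240 IH) (Lpr_gt (f218298 IH) (Lpr_ct (f218302 IH) (Lpr_gt (f218303 IH) (Lpe (f218304 IH) (Lpr_bt (f218305 IH) (Lpn (LP (LK LD1_c5 LD2_c34 LD3_c13)))))))))))))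
theorem f224476 : Led Lsl_gf (LP (LK LD1_c5 LD2_c34 LD3_c13)) = (LP (LK LD1_c10 LD2_c31 LD3_c29)) :=
  Lgr Lrot47 (Lpe (f218306 IH) (Lpe (f217897 IH) (Lpr_ff (f224465 IH) (Lpn (LP (LK LD1_c10 LD2_c31 LD3_c29))))))
theorem f218311 : Led Lsl_ct (LP (LK LD1_c5 LD2_c34 LD3_c13)) = (LP (LK LD1_c11 LD2_c0 LD3_c29)) :=
  Lre_c IH (LK LD1_c5 LD2_c34 LD3_c13) (LK LD1_c11 LD2_c0 LD3_c29) Lrfl Lrfl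
theorem f218309 : Led Lsl_gt (LP (LK LD1_c11 LD2_c0 LD3_c29)) = (LP (LK LD1_c19 LD2_c19 LD3_c38)) :=
  Lre_g IH (LK LD1_c11 LD2_c0 LD3_c29) (LK LD1_c19 LD2_c19 LD3_c38) Lrfl Lrfl
theorem f224260 : Led Lsl_ct (LP (LK LD1_c10 LD2_c40 LD3_c23)) = (LP (LK LD1_c19 LD2_c19 LD3_c38)) :=
  Lre_c IH (LK LD1_c10 LD2_c40 LD3_c23) (LK LD1_c19 LD2_c19 LD3_c38) Lrfl Lrfl
theorem f224259 : Led Lsl_bt (LP (LK LD1_c10 LD2_c40 LD3_c23)) = (LP (LK LD1_c5 LD2_c24 LD3_c52)) :=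
  Lre_b IH (LK LD1_c10 LD2_c40 LD3_c23) (LK LD1_c5 LD2_c24 LD3_c52) Lrfl Lrfl
theorem f224258 : Led Lsl_gt (LP (LK LD1_c5 LD2_c24 LD3_c52)) = (LP (LK LD1_c2 LD2_c38 LD3_c59)) :=
  Lre_g IH (LK LD1_c5 LD2_c24 LD3_c52) (LK LD1_c2 LD2_c38 LD3_c59) Lrfl Lrfl
theorem f223754 : Led Lsl_bt (LP (LK LD1_c1 LD2_c16 LD3_c20)) = (LP (LK LD1_c2 LD2_c38 LD3_c59)) :=
  Lre_b IH (LK LD1_c1 LD2_c16 LD3_c20) (LK LD1_c2 LD2_c38 LD3_c59) Lrfl Lrfl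
theorem f191007 : Led Lsl_ff (LP (LK LD1_c3 LD2_c58 LD3_c3)) = (LP (LK LD1_c5 LD2_c9 LD3_c26)) :=
  Lgr Lrot19 (Lpr_dt (K10.f31469 IH) (Lpr_ft (K10.f190990 IH) (Lpr_dt (f191006 IH) (Lpn (LP (LK LD1_c5 LD2_c9 LD3_c26))))))
theorem f195839 : Led Lsl_et (LP (LK LD1_c10 LD2_c9 LD3_c36)) = (LP (LK LD1_c5 LD2_c9 LD3_c26)) :=
  Lre_e IH (LK LD1_c10 LD2_c9 LD3_c36) (LK LD1_c5 LD2_c9 LD3_c26) Lrfl Lrfl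
theorem f223899 : Led Lsl_et (LP (LK LD1_c4 LD2_c54 LD3_c48)) = (LP (LK LD1_c9 LD2_c41 LD3_c6)) :=
  Lre_e IH (LK LD1_c4 LD2_c54 LD3_c48) (LK LD1_c9 LD2_c41 LD3_c6) Lrfl Lrfl
theorem f224216 : Led Lsl_ff (LP (LK LD1_c10 LD2_c9 LD3_c36)) = (LP (LK LD1_c9 LD2_c41 LD3_c6)) :=
  Lgr Lrot72 (Lpr_et (f195839 IH) (Lpe (f191007 IH) (Lpe (K10.f43264 IH) (Lpr_ft (f223893 IH) (Lpr_et (f223899 IH) (Lpn (LP (LK LD1_c9 LD2_c41 LD3_c6))))))))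
theorem f224222 : Led Lsl_ft (LP (LK LD1_c10 LD2_c9 LD3_c36)) = (LP (LK LD1_c9 LD2_c41 LD3_c6)) :=
  Lgr Lrot48 (Lpr_ff (f224216 IH) (Lpn (LP (LK LD1_c9 LD2_c41 LD3_c6))))
theorem f191028 : Led Lsl_et (LP (LK LD1_c5 LD2_c9 LD3_c26)) = (LP (LK LD1_c10 LD2_c9 LD3_c36)) :=
  Lre_e IH (LK LD1_c5 LD2_c9 LD3_c26) (LK LD1_c10 LD2_c9 LD3_c36) Lrfl Lrfl
theorem f195938 : Led Lsl_at (LP (LK LD1_c10 LD2_c9 LD3_c36)) = (LP (LK LD1_c9 LD2_c33 LD3_c22)) :=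
  Lgr Lrot80 (Lpe (f191028 IH) (Lpr_af (K11.f195835 IH) (Lpe (K10.f27571 IH) (Lpn (LP (LK LD1_c9 LD2_c33 LD3_c22))))))
theorem f195940 : Led Lsl_af (LP (LK LD1_c10 LD2_c9 LD3_c36)) = (LP (LK LD1_c9 LD2_c33 LD3_c22)) :=
  Lgr Lrot0 (Lpr_at (f195938 IH) (Lpn (LP (LK LD1_c9 LD2_c33 LD3_c22))))
theorem f194662 : Led Lsl_et (LP (LK LD1_c2 LD2_c45 LD3_c21)) = (LP (LK LD1_c5 LD2_c38 LD3_c51)) :=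
  Lre_e IH (LK LD1_c2 LD2_c45 LD3_c21) (LK LD1_c5 LD2_c38 LD3_c51) Lrfl Lrfl
theorem f196839 : Led Lsl_ff (LP (LK LD1_c9 LD2_c33 LD3_c22)) = (LP (LK LD1_c5 LD2_c38 LD3_c51)) :=
  Lgr Lrot72 (Lpr_et (K10.f27571 IH) (Lpr_ft (K11.f27708 IH) (Lpr_et (K0.f27690 IH) (Lpr_ft (K10.f196831 IH) (Lpr_et (f194662 IH) (Lpn (LP (LK LD1_c5 LD2_c38 LD3_c51))))))))
theorem f224224 : Led Lsl_af (LP (LK LD1_c5 LD2_c38 LD3_c51)) = (LP (LK LD1_c9 LD2_c41 LD3_c6)) :=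
  Lgr Lrot45 (Lpe (f196839 IH) (Lpe (f195940 IH) (Lpr_ft (f224222 IH) (Lpn (LP (LK LD1_c9 LD2_c41 LD3_c6))))))
theorem f224250 : Led Lsl_at (LP (LK LD1_c2 LD2_c45 LD3_c21)) = (LP (LK LD1_c4 LD2_c54 LD3_c48)) :=
  Lgr Lrot80 (Lpe (K10.f194664 IH) (Lpr_af (f224224 IH) (Lpe (f223899 IH) (Lpn (LP (LK LD1_c4 LD2_c54 LD3_c48))))))
theorem f224252 : Led Lsl_gt (LP (LK LD1_c2 LD2_c38 LD3_c60)) = (LP (LK LD1_c4 LD2_c54 LD3_c48)) :=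
  Lgr Lrot46 (Lpe (f216303 IH) (Lpr_ft (K10.f196831 IH) (Lpr_at (f224250 IH) (Lpn (LP (LK LD1_c4 LD2_c54 LD3_c48))))))
theorem f224449 : Led Lsl_bt (LP (LK LD1_c5 LD2_c20 LD3_c43)) = (LP (LK LD1_c10 LD2_c31 LD3_c29)) :=
  Lre_b IH (LK LD1_c5 LD2_c20 LD3_c43) (LK LD1_c10 LD2_c31 LD3_c29) Lrfl Lrfl
theorem f224487 : Led Lsl_cf (LP (LK LD1_c4 LD2_c54 LD3_c48)) = (LP (LK LD1_c5 LD2_c20 LD3_c43)) :=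
  Lgr Lrot58 (Lpe (f224252 IH) (Lpe (f213035 IH) (Lpr_bt (f223754 IH) (Lpe (f224258 IH) (Lpe (f224259 IH) (Lpr_ct (f224260 IH) (Lpe (f218309 IH) (Lpe (f218311 IH) (Lpr_gf (f224476 IH) (Lpe (f224449 IH) (Lpn (LP (LK LD1_c5 LD2_c20 LD3_c43)))))))))))))
theorem f224212 : Led Lsl_af (LP (LK LD1_c2 LD2_c45 LD3_c21)) = (LP (LK LD1_c4 LD2_c54 LD3_c48)) :=
  Lgr Lrot45 (Lpe (K10.f196841 IH) (Lpr_at (f27696 IH) (Lpr_ft (f223893 IH) (Lpn (LP (LK LD1_c4 LD2_c54 LD3_c48))))))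
theorem f224538 : Led Lsl_at (LP (LK LD1_c2 LD2_c38 LD3_c36)) = (LP (LK LD1_c5 LD2_c20 LD3_c43)) :=
  Lgr Lrot107 (Lpe (f196833 IH) (Lpr_af (f224212 IH) (Lpr_cf (f224487 IH) (Lpn (LP (LK LD1_c5 LD2_c20 LD3_c43))))))
theorem f224644 : Led Lsl_gt (LP (LK LD1_c4 LD2_c13 LD3_c25)) = (LP (LK LD1_c2 LD2_c36 LD3_c61)) :=
  Lgr Lrot5 (Lpr_ft (f196846 IH) (Lpr_at (f224538 IH) (Lpe (f172024 IH) (Lpn (LP (LK LD1_c2 LD2_c36 LD3_c61))))))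
theorem f51209 : Led Lsl_dt (LP (LK LD1_c4 LD2_c13 LD3_c25)) = (LP (LK LD1_c8 LD2_c25 LD3_c47)) :=
  Lre_d IH (LK LD1_c4 LD2_c13 LD3_c25) (LK LD1_c8 LD2_c25 LD3_c47) Lrfl Lrfl
theorem f223748 : Led Lsl_gt (LP (LK LD1_c2 LD2_c37 LD3_c3)) = (LP (LK LD1_c4 LD2_c13 LD3_c25)) :=
  Lgr Lrot150 (Lpe (f42163 IH) (Lpe (K9.f42159 IH) (Lpe (K10.f42158 IH) (Lpr_gt (K9.f167830 IH) (Lpr_ct (f167815 IH) (Lpr_gt (f223739 IH) (Lpr_ct (f44564 IH) (Lpe (K0.f27702 IH) (Lpe (f27721 IH) (Lpn (LP (LK LD1_c4 LD2_c13 LD3_c25))))))))))))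
theorem f171888 : Led Lsl_ct (LP (LK LD1_c1 LD2_c15 LD3_c26)) = (LP (LK LD1_c2 LD2_c36 LD3_c54)) :=
  Lre_c IH (LK LD1_c1 LD2_c15 LD3_c26) (LK LD1_c2 LD2_c36 LD3_c54) Lrfl Lrfl
theorem f172022 : Led Lsl_dt (LP (LK LD1_c5 LD2_c20 LD3_c31)) = (LP (LK LD1_c2 LD2_c36 LD3_c54)) :=
  Lre_d IH (LK LD1_c5 LD2_c20 LD3_c31) (LK LD1_c2 LD2_c36 LD3_c54) Lrfl Lrfl
theorem f223752 : Led Lsl_gf (LP (LK LD1_c5 LD2_c20 LD3_c31)) = (LP (LK LD1_c8 LD2_c25 LD3_c47)) :=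
  Lgr Lrot143 (Lpr_dt (f172022 IH) (Lpe (f171888 IH) (Lpe (f42132 IH) (Lpe (K9.f41277 IH) (Lpe (f41270 IH) (Lpe (K9.f41271 IH) (Lpe (f42175 IH) (Lpr_gt (f223748 IH) (Lpr_dt (f51209 IH) (Lpn (LP (LK LD1_c8 LD2_c25 LD3_c47))))))))))))
theorem f223848 : Led Lsl_ct (LP (LK LD1_c2 LD2_c36 LD3_c61)) = (LP (LK LD1_c1 LD2_c15 LD3_c31)) :=
  Lre_c IH (LK LD1_c2 LD2_c36 LD3_c61) (LK LD1_c1 LD2_c15 LD3_c31) Lrfl Lrfl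
theorem f171870 : Led Lsl_gt (LP (LK LD1_c1 LD2_c15 LD3_c31)) = (LP (LK LD1_c0 LD2_c35 LD3_c21)) :=
  Lre_g IH (LK LD1_c1 LD2_c15 LD3_c31) (LK LD1_c0 LD2_c35 LD3_c21) Lrfl Lrfl
theorem f218777 : Led Lsl_ct (LP (LK LD1_c4 LD2_c54 LD3_c40)) = (LP (LK LD1_c2 LD2_c39 LD3_c14)) :=
  Lre_c IH (LK LD1_c4 LD2_c54 LD3_c40) (LK LD1_c2 LD2_c39 LD3_c14) Lrfl Lrfl
theorem f173118 : Led Lsl_gt (LP (LK LD1_c9 LD2_c40 LD3_c59)) = (LP (LK LD1_c4 LD2_c54 LD3_c40)) :=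
  Lre_g IH (LK LD1_c9 LD2_c40 LD3_c59) (LK LD1_c4 LD2_c54 LD3_c40) Lrfl Lrfl
theorem f224646 : Led Lsl_ct (LP (LK LD1_c5 LD2_c20 LD3_c31)) = (LP (LK LD1_c9 LD2_c40 LD3_c59)) :=
  Lgr Lrot152 (Lpr_gf (f223752 IH) (Lpe (f51209 IH) (Lpr_gt (f224644 IH) (Lpr_ct (f223848 IH) (Lpr_gt (f171870 IH) (Lpr_ct (f42256 IH) (Lpe (f181796 IH) (Lpe (f218777 IH) (Lpe (f173118 IH) (Lpn (LP (LK LD1_c9 LD2_c40 LD3_c59))))))))))))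
theorem f224652 : Led Lsl_cf (LP (LK LD1_c5 LD2_c20 LD3_c31)) = (LP (LK LD1_c9 LD2_c40 LD3_c59)) :=
  Lgr Lrot11 (Lpr_ct (f224646 IH) (Lpn (LP (LK LD1_c9 LD2_c40 LD3_c59))))
theorem f196817 : Led Lsl_gt (LP (LK LD1_c4 LD2_c55 LD3_c49)) = (LP (LK LD1_c9 LD2_c40 LD3_c59)) :=
  Lre_g IH (LK LD1_c4 LD2_c55 LD3_c49) (LK LD1_c9 LD2_c40 LD3_c59) Lrfl Lrfl
theorem f217325 : Led Lsl_ct (LP (LK LD1_c2 LD2_c37 LD3_c8)) = (LP (LK LD1_c4 LD2_c55 LD3_c49)) :=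
  Lre_c IH (LK LD1_c2 LD2_c37 LD3_c8) (LK LD1_c4 LD2_c55 LD3_c49) Lrfl Lrfl
theorem f217326 : Led Lsl_gt (LP (LK LD1_c5 LD2_c21 LD3_c6)) = (LP (LK LD1_c2 LD2_c37 LD3_c8)) :=
  Lre_g IH (LK LD1_c5 LD2_c21 LD3_c6) (LK LD1_c2 LD2_c37 LD3_c8) Lrfl Lrfl
theorem f167807 : Led Lsl_ct (LP (LK LD1_c4 LD2_c54 LD3_c30)) = (LP (LK LD1_c2 LD2_c25 LD3_c8)) :=
  Lre_c IH (LK LD1_c4 LD2_c54 LD3_c30) (LK LD1_c2 LD2_c25 LD3_c8) Lrfl Lrfl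
theorem f169272 : Led Lsl_dt (LP (LK LD1_c9 LD2_c40 LD3_c37)) = (LP (LK LD1_c4 LD2_c54 LD3_c30)) :=
  Lre_d IH (LK LD1_c9 LD2_c40 LD3_c37) (LK LD1_c4 LD2_c54 LD3_c30) Lrfl Lrfl
theorem f41909 : Led Lsl_ct (LP (LK LD1_c2 LD2_c25 LD3_c8)) = (LP (LK LD1_c4 LD2_c54 LD3_c30)) :=
  Lre_c IH (LK LD1_c2 LD2_c25 LD3_c8) (LK LD1_c4 LD2_c54 LD3_c30) Lrfl Lrfl
theorem f218756 : Led Lsl_gf (LP (LK LD1_c9 LD2_c40 LD3_c37)) = (LP (LK LD1_c10 LD2_c23 LD3_c23)) :=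
  Lgr Lrot143 (Lpr_dt (f169272 IH) (Lpe (f41909 IH) (Lpe (K10.f41908 IH) (Lpe (K9.f41907 IH) (Lpe (K1.f41219 IH) (Lpe (K9.f41228 IH) (Lpe (f169316 IH) (Lpr_gt (f218735 IH) (Lpr_dt (f49256 IH) (Lpn (LP (LK LD1_c10 LD2_c23 LD3_c23))))))))))))
theorem f201183 : Led Lsl_ct (LP (LK LD1_c4 LD2_c54 LD3_c34)) = (LP (LK LD1_c2 LD2_c25 LD3_c11)) :=
  Lre_c IH (LK LD1_c4 LD2_c54 LD3_c34) (LK LD1_c2 LD2_c25 LD3_c11) Lrfl Lrfl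
theorem f179524 : Led Lsl_ct (LP (LK LD1_c1 LD2_c10 LD3_c2)) = (LP (LK LD1_c2 LD2_c25 LD3_c42)) :=
  Lre_c IH (LK LD1_c1 LD2_c10 LD3_c2) (LK LD1_c2 LD2_c25 LD3_c42) Lrfl Lrfl
theorem f217324 : Led Lsl_dt (LP (LK LD1_c4 LD2_c55 LD3_c49)) = (LP (LK LD1_c2 LD2_c25 LD3_c42)) :=
  Lre_d IH (LK LD1_c4 LD2_c55 LD3_c49) (LK LD1_c2 LD2_c25 LD3_c42) Lrfl Lrfl
theorem f218761 : Led Lsl_ct (LP (LK LD1_c9 LD2_c40 LD3_c37)) = (LP (LK LD1_c5 LD2_c21 LD3_c6)) :=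
  Lgr Lrot152 (Lpr_gf (f218756 IH) (Lpe (f49256 IH) (Lpr_gt (f217322 IH) (Lpr_ct (f201183 IH) (Lpr_gt (f55291 IH) (Lpr_ct (f179524 IH) (Lpe (f217324 IH) (Lpe (f217325 IH) (Lpe (f217326 IH) (Lpn (LP (LK LD1_c5 LD2_c21 LD3_c6))))))))))))
theorem f218770 : Led Lsl_cf (LP (LK LD1_c9 LD2_c40 LD3_c37)) = (LP (LK LD1_c5 LD2_c21 LD3_c6)) :=
  Lgr Lrot11 (Lpr_ct (f218761 IH) (Lpn (LP (LK LD1_c5 LD2_c21 LD3_c6))))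
theorem f55103 : Led Lsl_dt (LP (LK LD1_c2 LD2_c25 LD3_c10)) = (LP (LK LD1_c1 LD2_c9 LD3_c50)) :=
  Lre_d IH (LK LD1_c2 LD2_c25 LD3_c10) (LK LD1_c1 LD2_c9 LD3_c50) Lrfl Lrfl
theorem f190819 : Led Lsl_ct (LP (LK LD1_c0 LD2_c57 LD3_c56)) = (LP (LK LD1_c0 LD2_c26 LD3_c19)) :=
  Lre_c IH (LK LD1_c0 LD2_c57 LD3_c56) (LK LD1_c0 LD2_c26 LD3_c19) Lrfl Lrfl
theorem f219605 : Led Lsl_ct (LP (LK LD1_c1 LD2_c9 LD3_c50)) = (LP (LK LD1_c2 LD2_c1 LD3_c53)) :=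
  Lgr Lrot83 (Lpr_bf (f219597 IH) (Lpe (f51452 IH) (Lpe (f190826 IH) (Lpe (f190819 IH) (Lpe (f190825 IH) (Lpn (LP (LK LD1_c2 LD2_c1 LD3_c53))))))))
theorem f220737 : Led Lsl_ct (LP (LK LD1_c4 LD2_c9 LD3_c0)) = (LP (LK LD1_c8 LD2_c18 LD3_c5)) :=
  Lre_c IH (LK LD1_c4 LD2_c9 LD3_c0) (LK LD1_c8 LD2_c18 LD3_c5) Lrfl Lrfl
theorem f221665 : Led Lsl_df (LP (LK LD1_c5 LD2_c21 LD3_c6)) = (LP (LK LD1_c8 LD2_c18 LD3_c5)) :=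
  Lgr Lrot43 (Lpe (f218770 IH) (Lpr_dt (f169272 IH) (Lpr_ct (f167807 IH) (Lpr_dt (K10.f55106 IH) (Lpe (f167795 IH) (Lpr_dt (f169270 IH) (Lpr_ct (f169271 IH) (Lpr_dt (f221594 IH) (Lpr_ct (f218829 IH) (Lpr_dt (f201190 IH) (Lpr_ct (f201189 IH) (Lpr_dt (f55103 IH) (Lpr_ct (f219605 IH) (Lpr_dt (f220736 IH) (Lpr_ct (f220737 IH) (Lpn (LP (LK LD1_c8 LD2_c18 LD3_c5))))))))))))))))))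
theorem f224819 : Led Lsl_gf (LP (LK LD1_c5 LD2_c20 LD3_c27)) = (LP (LK LD1_c8 LD2_c18 LD3_c5)) :=
  Lgr Lrot147 (Lpr_ct (f221667 IH) (Lpr_gt (f42471 IH) (Lpr_ct (f171888 IH) (Lpe (f172022 IH) (Lpr_cf (f224652 IH) (Lpe (f196817 IH) (Lpe (f217325 IH) (Lpe (f217326 IH) (Lpr_df (f221665 IH) (Lpn (LP (LK LD1_c8 LD2_c18 LD3_c5))))))))))))
theorem f228398 : Led Lsl_gt (LP (LK LD1_c2 LD2_c45 LD3_c26)) = (LP (LK LD1_c4 LD2_c9 LD3_c0)) :=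
  Lgr Lrot82 (Lpe (f200414 IH) (Lpr_ct (f196937 IH) (Lpr_gf (f228267 IH) (Lpe (K11.f28922 IH) (Lpr_bt (f199591 IH) (Lpe (f199015 IH) (Lpe (f223300 IH) (Lpr_ct (f221670 IH) (Lpr_gf (f224819 IH) (Lpe (f220737 IH) (Lpn (LP (LK LD1_c4 LD2_c9 LD3_c0)))))))))))))
theorem f167957 : Led Lsl_dt (LP (LK LD1_c1 LD2_c16 LD3_c24)) = (LP (LK LD1_c2 LD2_c39 LD3_c14)) :=
  Lre_d IH (LK LD1_c1 LD2_c16 LD3_c24) (LK LD1_c2 LD2_c39 LD3_c14) Lrfl Lrfl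
theorem f167958 : Led Lsl_gt (LP (LK LD1_c2 LD2_c39 LD3_c14)) = (LP (LK LD1_c5 LD2_c21 LD3_c6)) :=
  Lre_g IH (LK LD1_c2 LD2_c39 LD3_c14) (LK LD1_c5 LD2_c21 LD3_c6) Lrfl Lrfl
theorem f218832 : Led Lsl_ct (LP (LK LD1_c8 LD2_c18 LD3_c5)) = (LP (LK LD1_c4 LD2_c9 LD3_c0)) :=
  Lre_c IH (LK LD1_c8 LD2_c18 LD3_c5) (LK LD1_c4 LD2_c9 LD3_c0) Lrfl Lrfl
theorem f220750 : Led Lsl_dt (LP (LK LD1_c5 LD2_c21 LD3_c6)) = (LP (LK LD1_c8 LD2_c18 LD3_c5)) :=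
  Lgr Lrot105 (Lpe (f167958 IH) (Lpe (f167957 IH) (Lpe (f167806 IH) (Lpe (f167943 IH) (Lpr_gt (f218871 IH) (Lpr_dt (K10.f194663 IH) (Lpr_gt (f220746 IH) (Lpr_dt (f220736 IH) (Lpe (f218832 IH) (Lpn (LP (LK LD1_c8 LD2_c18 LD3_c5))))))))))))
theorem f217729 : Led Lsl_gt (LP (LK LD1_c1 LD2_c15 LD3_c59)) = (LP (LK LD1_c2 LD2_c37 LD3_c60)) :=
  Lre_g IH (LK LD1_c1 LD2_c15 LD3_c59) (LK LD1_c2 LD2_c37 LD3_c60) Lrfl Lrfl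
theorem f228406 : Led Lsl_cf (LP (LK LD1_c2 LD2_c45 LD3_c26)) = (LP (LK LD1_c2 LD2_c37 LD3_c60)) :=
  Lgr Lrot169 (Lpr_gt (f228398 IH) (Lpr_ct (f220737 IH) (Lpe (f220750 IH) (Lpe (f218761 IH) (Lpr_gf (f218756 IH) (Lpr_cf (f217716 IH) (Lpe (f217674 IH) (Lpe (f196711 IH) (Lpr_gt (f217729 IH) (Lpn (LP (LK LD1_c2 LD2_c37 LD3_c60))))))))))))
theorem f228418 : Led Lsl_ct (LP (LK LD1_c2 LD2_c45 LD3_c26)) = (LP (LK LD1_c2 LD2_c37 LD3_c60)) :=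
  Lgr Lrot59 (Lpr_cf (f228406 IH) (Lpn (LP (LK LD1_c2 LD2_c37 LD3_c60))))
theorem f179309 : Led Lsl_bt (LP (LK LD1_c2 LD2_c45 LD3_c26)) = (LP (LK LD1_c1 LD2_c19 LD3_c6)) :=
  Lre_b IH (LK LD1_c2 LD2_c45 LD3_c26) (LK LD1_c1 LD2_c19 LD3_c6) Lrfl Lrfl
theorem f179307 : Led Lsl_bt (LP (LK LD1_c0 LD2_c16 LD3_c18)) = (LP (LK LD1_c0 LD2_c36 LD3_c32)) :=
  Lre_b IH (LK LD1_c0 LD2_c16 LD3_c18) (LK LD1_c0 LD2_c36 LD3_c32) Lrfl Lrfl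
theorem f172407 : Led Lsl_gt (LP (LK LD1_c0 LD2_c35 LD3_c37)) = (LP (LK LD1_c0 LD2_c15 LD3_c57)) :=
  Lre_g IH (LK LD1_c0 LD2_c35 LD3_c37) (LK LD1_c0 LD2_c15 LD3_c57) Lrfl Lrfl
theorem f172408 : Led Lsl_ct (LP (LK LD1_c1 LD2_c16 LD3_c61)) = (LP (LK LD1_c0 LD2_c35 LD3_c37)) :=
  Lre_c IH (LK LD1_c1 LD2_c16 LD3_c61) (LK LD1_c0 LD2_c35 LD3_c37) Lrfl Lrfl
theorem f179189 : Led Lsl_gf (LP (LK LD1_c1 LD2_c16 LD3_c61)) = (LP (LK LD1_c0 LD2_c36 LD3_c34)) :=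
  Lgr Lrot147 (Lpr_ct (f172408 IH) (Lpr_gt (f172407 IH) (Lpr_ct (K9.f7890 IH) (Lpe (K9.f168091 IH) (Lpr_cf (K9.f172399 IH) (Lpe (K9.f68913 IH) (Lpe (K9.f168296 IH) (Lpe (K9.f172300 IH) (Lpr_df (K9.f179120 IH) (Lpn (LP (LK LD1_c0 LD2_c36 LD3_c34))))))))))))
theorem f179306 : Led Lsl_ct (LP (LK LD1_c0 LD2_c35 LD3_c37)) = (LP (LK LD1_c1 LD2_c16 LD3_c61)) :=
  Lre_c IH (LK LD1_c0 LD2_c35 LD3_c37) (LK LD1_c1 LD2_c16 LD3_c61) Lrfl Lrfl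
theorem f217718 : Led Lsl_gt (LP (LK LD1_c1 LD2_c15 LD3_c58)) = (LP (LK LD1_c0 LD2_c35 LD3_c12)) :=
  Lre_g IH (LK LD1_c1 LD2_c15 LD3_c58) (LK LD1_c0 LD2_c35 LD3_c12) Lrfl Lrfl
theorem f228671 : Led Lsl_bt (LP (LK LD1_c0 LD2_c35 LD3_c37)) = (LP (LK LD1_c1 LD2_c15 LD3_c58)) :=
  Lgr Lrot130 (Lpr_ct (f179306 IH) (Lpr_gf (f179189 IH) (Lpe (K9.f171860 IH) (Lpr_bt (f179307 IH) (Lpe (f179308 IH) (Lpe (f179309 IH) (Lpr_ct (f228418 IH) (Lpe (f217729 IH) (Lpe (f196710 IH) (Lpe (f217718 IH) (Lpn (LP (LK LD1_c1 LD2_c15 LD3_c58)))))))))))))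
theorem f177959 : Led Lsl_bt (LP (LK LD1_c1 LD2_c18 LD3_c22)) = (LP (LK LD1_c0 LD2_c36 LD3_c6)) :=
  Lre_b IH (LK LD1_c1 LD2_c18 LD3_c22) (LK LD1_c0 LD2_c36 LD3_c6) Lrfl Lrfl
theorem f177960 : Led Lsl_ct (LP (LK LD1_c1 LD2_c18 LD3_c22)) = (LP (LK LD1_c2 LD2_c44 LD3_c0)) :=
  Lre_c IH (LK LD1_c1 LD2_c18 LD3_c22) (LK LD1_c2 LD2_c44 LD3_c0) Lrfl Lrfl
theorem f171981 : Led Lsl_bt (LP (LK LD1_c1 LD2_c15 LD3_c51)) = (LP (LK LD1_c0 LD2_c35 LD3_c12)) :=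
  Lre_b IH (LK LD1_c1 LD2_c15 LD3_c51) (LK LD1_c0 LD2_c35 LD3_c12) Lrfl Lrfl
theorem f171982 : Led Lsl_ct (LP (LK LD1_c1 LD2_c15 LD3_c51)) = (LP (LK LD1_c2 LD2_c37 LD3_c41)) :=
  Lre_c IH (LK LD1_c1 LD2_c15 LD3_c51) (LK LD1_c2 LD2_c37 LD3_c41) Lrfl Lrfl
theorem f228681 : Led Lsl_gf (LP (LK LD1_c2 LD2_c44 LD3_c0)) = (LP (LK LD1_c2 LD2_c37 LD3_c41)) :=
  Lgr Lrot126 (Lpe (f177960 IH) (Lpr_bt (f177959 IH) (Lpe (K9.f177920 IH) (Lpr_ct (K9.f171860 IH) (Lpe (f179189 IH) (Lpe (f179306 IH) (Lpr_bt (f228671 IH) (Lpr_gt (f217718 IH) (Lpe (f171981 IH) (Lpr_ct (f171982 IH) (Lpn (LP (LK LD1_c2 LD2_c37 LD3_c41)))))))))))))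
theorem f178071 : Led Lsl_ct (LP (LK LD1_c2 LD2_c44 LD3_c0)) = (LP (LK LD1_c1 LD2_c18 LD3_c22)) :=
  Lre_c IH (LK LD1_c2 LD2_c44 LD3_c0) (LK LD1_c1 LD2_c18 LD3_c22) Lrfl Lrfl
theorem f171887 : Led Lsl_dt (LP (LK LD1_c5 LD2_c22 LD3_c20)) = (LP (LK LD1_c2 LD2_c37 LD3_c41)) :=
  Lre_d IH (LK LD1_c5 LD2_c22 LD3_c20) (LK LD1_c2 LD2_c37 LD3_c41) Lrfl Lrfl
theorem f223796 : Led Lsl_gt (LP (LK LD1_c5 LD2_c20 LD3_c31)) = (LP (LK LD1_c10 LD2_c31 LD3_c3)) :=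
  Lre_g IH (LK LD1_c5 LD2_c20 LD3_c31) (LK LD1_c10 LD2_c31 LD3_c3) Lrfl Lrfl
theorem f217775 : Led Lsl_ft (LP (LK LD1_c8 LD2_c25 LD3_c47)) = (LP (LK LD1_c5 LD2_c23 LD3_c4)) :=
  Lgr Lrot48 (Lpr_ff (f217741 IH) (Lpn (LP (LK LD1_c5 LD2_c23 LD3_c4))))
theorem f223797 : Led Lsl_af (LP (LK LD1_c10 LD2_c31 LD3_c3)) = (LP (LK LD1_c5 LD2_c23 LD3_c4)) :=
  Lgr Lrot31 (Lpe (f223796 IH) (Lpr_gf (f223752 IH) (Lpr_ft (f217775 IH) (Lpn (LP (LK LD1_c5 LD2_c23 LD3_c4))))))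
theorem f223818 : Led Lsl_cf (LP (LK LD1_c10 LD2_c31 LD3_c3)) = (LP (LK LD1_c8 LD2_c2 LD3_c45)) :=
  Lgr Lrot102 (Lpr_af (f223797 IH) (Lpe (f217775 IH) (Lpr_dt (f51225 IH) (Lpr_ct (f27721 IH) (Lpr_dt (K0.f27702 IH) (Lpe (K10.f53137 IH) (Lpr_dt (K10.f30884 IH) (Lpr_ct (f30866 IH) (Lpr_dt (f30890 IH) (Lpn (LP (LK LD1_c8 LD2_c2 LD3_c45))))))))))))
theorem f224542 : Led Lsl_dt (LP (LK LD1_c10 LD2_c31 LD3_c3)) = (LP (LK LD1_c5 LD2_c20 LD3_c43)) :=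
  Lgr Lrot120 (Lpr_cf (f223818 IH) (Lpe (f30890 IH) (Lpe (f30866 IH) (Lpe (K10.f30884 IH) (Lpr_cf (K10.f53137 IH) (Lpe (K0.f27702 IH) (Lpr_ft (K10.f196831 IH) (Lpr_at (f224250 IH) (Lpr_cf (f224487 IH) (Lpn (LP (LK LD1_c5 LD2_c20 LD3_c43))))))))))))
theorem f42164 : Led Lsl_dt (LP (LK LD1_c2 LD2_c37 LD3_c3)) = (LP (LK LD1_c5 LD2_c20 LD3_c51)) :=
  Lre_d IH (LK LD1_c2 LD2_c37 LD3_c3) (LK LD1_c5 LD2_c20 LD3_c51) Lrfl Lrfl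
theorem f55225 : Led Lsl_dt (LP (LK LD1_c4 LD2_c54 LD3_c40)) = (LP (LK LD1_c2 LD2_c25 LD3_c13)) :=
  Lre_d IH (LK LD1_c4 LD2_c54 LD3_c40) (LK LD1_c2 LD2_c25 LD3_c13) Lrfl Lrfl
theorem f173117 : Led Lsl_dt (LP (LK LD1_c2 LD2_c38 LD3_c33)) = (LP (LK LD1_c5 LD2_c24 LD3_c1)) :=
  Lre_d IH (LK LD1_c2 LD2_c38 LD3_c33) (LK LD1_c5 LD2_c24 LD3_c1) Lrfl Lrfl
theorem f224656 : Led Lsl_cf (LP (LK LD1_c5 LD2_c20 LD3_c51)) = (LP (LK LD1_c5 LD2_c24 LD3_c1)) :=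
  Lgr Lrot14 (Lpe (f42164 IH) (Lpr_gf (f224437 IH) (Lpe (f224542 IH) (Lpe (f223796 IH) (Lpr_ct (f224646 IH) (Lpr_gt (f173118 IH) (Lpr_dt (f55225 IH) (Lpr_gt (K9.f173112 IH) (Lpr_dt (f173117 IH) (Lpn (LP (LK LD1_c5 LD2_c24 LD3_c1))))))))))))
theorem f42174 : Led Lsl_dt (LP (LK LD1_c5 LD2_c20 LD3_c51)) = (LP (LK LD1_c2 LD2_c37 LD3_c3)) :=
  Lre_d IH (LK LD1_c5 LD2_c20 LD3_c51) (LK LD1_c2 LD2_c37 LD3_c3) Lrfl Lrfl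
theorem f42255 : Led Lsl_ct (LP (LK LD1_c1 LD2_c24 LD3_c61)) = (LP (LK LD1_c2 LD2_c58 LD3_c30)) :=
  Lre_c IH (LK LD1_c1 LD2_c24 LD3_c61) (LK LD1_c2 LD2_c58 LD3_c30) Lrfl Lrfl
theorem f30874 : Led Lsl_gt (LP (LK LD1_c4 LD2_c0 LD3_c59)) = (LP (LK LD1_c1 LD2_c57 LD3_c17)) :=
  Lre_g IH (LK LD1_c4 LD2_c0 LD3_c59) (LK LD1_c1 LD2_c57 LD3_c17) Lrfl Lrfl
theorem f196768 : Led Lsl_gt (LP (LK LD1_c2 LD2_c37 LD3_c38)) = (LP (LK LD1_c4 LD2_c0 LD3_c59)) :=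
  Lgr Lrot5 (Lpr_ft (f196590 IH) (Lpe (K9.f50402 IH) (Lpe (f30874 IH) (Lpn (LP (LK LD1_c4 LD2_c0 LD3_c59))))))
theorem f31095 : Led Lsl_ef (LP (LK LD1_c2 LD2_c7 LD3_c57)) = (LP (LK LD1_c2 LD2_c7 LD3_c57)) :=
  Lgr Lrot28 (Lpe (K0.f28670 IH) (Lpr_et (K0.f31073 IH) (Lpr_ct (K0.f28681 IH) (Lpn (LP (LK LD1_c2 LD2_c7 LD3_c57))))))
theorem f196772 : Led Lsl_dt (LP (LK LD1_c2 LD2_c58 LD3_c30)) = (LP (LK LD1_c4 LD2_c0 LD3_c59)) :=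
  Lgr Lrot56 (Lpr_et (K10.f182102 IH) (Lpr_gt (K9.f182089 IH) (Lpr_ef (f31095 IH) (Lpr_dt (K9.f28693 IH) (Lpe (K9.f182095 IH) (Lpe (K9.f171992 IH) (Lpr_et (K9.f171890 IH) (Lpr_gt (f171893 IH) (Lpr_dt (f171894 IH) (Lpr_gt (f196768 IH) (Lpn (LP (LK LD1_c4 LD2_c0 LD3_c59)))))))))))))
theorem f41275 : Led Lsl_ct (LP (LK LD1_c1 LD2_c15 LD3_c28)) = (LP (LK LD1_c0 LD2_c34 LD3_c61)) :=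
  Lre_c IH (LK LD1_c1 LD2_c15 LD3_c28) (LK LD1_c0 LD2_c34 LD3_c61) Lrfl Lrfl
theorem f41391 : Led Lsl_dt (LP (LK LD1_c0 LD2_c32 LD3_c19)) = (LP (LK LD1_c1 LD2_c9 LD3_c51)) :=
  Lre_d IH (LK LD1_c0 LD2_c32 LD3_c19) (LK LD1_c1 LD2_c9 LD3_c51) Lrfl Lrfl
theorem f41212 : Led Lsl_gt (LP (LK LD1_c4 LD2_c54 LD3_c38)) = (LP (LK LD1_c2 LD2_c25 LD3_c13)) :=
  Lre_g IH (LK LD1_c4 LD2_c54 LD3_c38) (LK LD1_c2 LD2_c25 LD3_c13) Lrfl Lrfl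
theorem f223870 : Led Lsl_cf (LP (LK LD1_c4 LD2_c54 LD3_c38)) = (LP (LK LD1_c4 LD2_c0 LD3_c59)) :=
  Lgr Lrot169 (Lpr_gt (f41212 IH) (Lpr_ct (K1.f41165 IH) (Lpe (f41391 IH) (Lpe (K9.f41256 IH) (Lpe (K9.f41274 IH) (Lpe (f41275 IH) (Lpr_gf (f223741 IH) (Lpe (f196585 IH) (Lpr_gt (f196768 IH) (Lpn (LP (LK LD1_c4 LD2_c0 LD3_c59))))))))))))
theorem f41037 : Led Lsl_dt (LP (LK LD1_c4 LD2_c54 LD3_c38)) = (LP (LK LD1_c9 LD2_c40 LD3_c52)) :=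
  Lre_d IH (LK LD1_c4 LD2_c54 LD3_c38) (LK LD1_c9 LD2_c40 LD3_c52) Lrfl Lrfl
theorem f173120 : Led Lsl_dt (LP (LK LD1_c2 LD2_c38 LD3_c34)) = (LP (LK LD1_c1 LD2_c16 LD3_c12)) :=
  Lre_d IH (LK LD1_c2 LD2_c38 LD3_c34) (LK LD1_c1 LD2_c16 LD3_c12) Lrfl Lrfl
theorem f42180 : Led Lsl_dt (LP (LK LD1_c0 LD2_c15 LD3_c43)) = (LP (LK LD1_c0 LD2_c35 LD3_c0)) :=
  Lre_d IH (LK LD1_c0 LD2_c15 LD3_c43) (LK LD1_c0 LD2_c35 LD3_c0) Lrfl Lrfl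
theorem f184504 : Led Lsl_dt (LP (LK LD1_c1 LD2_c15 LD3_c31)) = (LP (LK LD1_c2 LD2_c37 LD3_c0)) :=
  Lre_d IH (LK LD1_c1 LD2_c15 LD3_c31) (LK LD1_c2 LD2_c37 LD3_c0) Lrfl Lrfl
theorem f173121 : Led Lsl_dt (LP (LK LD1_c1 LD2_c16 LD3_c12)) = (LP (LK LD1_c2 LD2_c38 LD3_c34)) :=
  Lre_d IH (LK LD1_c1 LD2_c16 LD3_c12) (LK LD1_c2 LD2_c38 LD3_c34) Lrfl Lrfl
theorem f223743 : Led Lsl_ct (LP (LK LD1_c2 LD2_c37 LD3_c0)) = (LP (LK LD1_c2 LD2_c38 LD3_c34)) :=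
  Lgr Lrot7 (Lpe (f184504 IH) (Lpe (f44308 IH) (Lpe (f42180 IH) (Lpe (K9.f41274 IH) (Lpe (f41275 IH) (Lpr_gt (f223739 IH) (Lpr_dt (K10.f30884 IH) (Lpe (f182170 IH) (Lpr_dt (f173121 IH) (Lpn (LP (LK LD1_c2 LD2_c38 LD3_c34))))))))))))
theorem f223864 : Led Lsl_dt (LP (LK LD1_c5 LD2_c20 LD3_c45)) = (LP (LK LD1_c2 LD2_c36 LD3_c61)) :=
  Lre_d IH (LK LD1_c5 LD2_c20 LD3_c45) (LK LD1_c2 LD2_c36 LD3_c61) Lrfl Lrfl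
theorem f224676 : Led Lsl_ct (LP (LK LD1_c9 LD2_c40 LD3_c52)) = (LP (LK LD1_c5 LD2_c20 LD3_c45)) :=
  Lgr Lrot176 (Lpe (f41037 IH) (Lpr_cf (f223870 IH) (Lpe (f196772 IH) (Lpe (f42255 IH) (Lpe (K10.f42166 IH) (Lpe (f42175 IH) (Lpe (f42174 IH) (Lpr_cf (f224656 IH) (Lpe (f173117 IH) (Lpe (K9.f173111 IH) (Lpe (f173120 IH) (Lpe (f223743 IH) (Lpe (f184504 IH) (Lpe (f223848 IH) (Lpe (f223864 IH) (Lpn (LP (LK LD1_c5 LD2_c20 LD3_c45))))))))))))))))))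
theorem f41036 : Led Lsl_gt (LP (LK LD1_c2 LD2_c25 LD3_c42)) = (LP (LK LD1_c4 LD2_c54 LD3_c38)) :=
  Lre_g IH (LK LD1_c2 LD2_c25 LD3_c42) (LK LD1_c4 LD2_c54 LD3_c38) Lrfl Lrfl
theorem f223845 : Led Lsl_dt (LP (LK LD1_c2 LD2_c36 LD3_c61)) = (LP (LK LD1_c5 LD2_c20 LD3_c45)) :=
  Lre_d IH (LK LD1_c2 LD2_c36 LD3_c61) (LK LD1_c5 LD2_c20 LD3_c45) Lrfl Lrfl
theorem f224548 : Led Lsl_df (LP (LK LD1_c10 LD2_c31 LD3_c3)) = (LP (LK LD1_c5 LD2_c20 LD3_c43)) :=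
  Lgr Lrot38 (Lpr_dt (f224542 IH) (Lpn (LP (LK LD1_c5 LD2_c20 LD3_c43))))
theorem f167805 : Led Lsl_dt (LP (LK LD1_c0 LD2_c35 LD3_c21)) = (LP (LK LD1_c0 LD2_c15 LD3_c51)) :=
  Lre_d IH (LK LD1_c0 LD2_c35 LD3_c21) (LK LD1_c0 LD2_c15 LD3_c51) Lrfl Lrfl
theorem f169163 : Led Lsl_ct (LP (LK LD1_c2 LD2_c36 LD3_c58)) = (LP (LK LD1_c1 LD2_c15 LD3_c29)) :=
  Lre_c IH (LK LD1_c2 LD2_c36 LD3_c58) (LK LD1_c1 LD2_c15 LD3_c29) Lrfl Lrfl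
theorem f169171 : Led Lsl_dt (LP (LK LD1_c5 LD2_c20 LD3_c38)) = (LP (LK LD1_c2 LD2_c36 LD3_c58)) :=
  Lre_d IH (LK LD1_c5 LD2_c20 LD3_c38) (LK LD1_c2 LD2_c36 LD3_c58) Lrfl Lrfl
theorem f224553 : Led Lsl_gt (LP (LK LD1_c10 LD2_c31 LD3_c3)) = (LP (LK LD1_c5 LD2_c20 LD3_c38)) :=
  Lgr Lrot49 (Lpr_df (f224548 IH) (Lpe (f172024 IH) (Lpe (f172023 IH) (Lpr_gt (f171870 IH) (Lpr_dt (f167805 IH) (Lpr_gt (K9.f167830 IH) (Lpr_dt (f167817 IH) (Lpe (f169163 IH) (Lpe (f169171 IH) (Lpn (LP (LK LD1_c5 LD2_c20 LD3_c38))))))))))))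
theorem f217645 : Led Lsl_af (LP (LK LD1_c8 LD2_c25 LD3_c47)) = (LP (LK LD1_c5 LD2_c23 LD3_c5)) :=
  Lgr Lrot117 (Lpr_dt (f51225 IH) (Lpe (f217636 IH) (Lpr_dt (f217643 IH) (Lpn (LP (LK LD1_c5 LD2_c23 LD3_c5))))))
theorem f223816 : Led Lsl_ft (LP (LK LD1_c10 LD2_c31 LD3_c3)) = (LP (LK LD1_c5 LD2_c23 LD3_c5)) :=
  Lgr Lrot101 (Lpr_af (f223797 IH) (Lpe (f217775 IH) (Lpr_af (f217645 IH) (Lpn (LP (LK LD1_c5 LD2_c23 LD3_c5))))))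
theorem f224571 : Led Lsl_gf (LP (LK LD1_c8 LD2_c25 LD3_c47)) = (LP (LK LD1_c5 LD2_c20 LD3_c38)) :=
  Lgr Lrot76 (Lpr_af (f217645 IH) (Lpe (f223816 IH) (Lpr_gt (f224553 IH) (Lpn (LP (LK LD1_c5 LD2_c20 LD3_c38))))))
theorem f171889 : Led Lsl_dt (LP (LK LD1_c2 LD2_c36 LD3_c54)) = (LP (LK LD1_c5 LD2_c20 LD3_c31)) :=
  Lre_d IH (LK LD1_c2 LD2_c36 LD3_c54) (LK LD1_c5 LD2_c20 LD3_c31) Lrfl Lrfl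
theorem f171885 : Led Lsl_dt (LP (LK LD1_c1 LD2_c15 LD3_c51)) = (LP (LK LD1_c0 LD2_c35 LD3_c10)) :=
  Lre_d IH (LK LD1_c1 LD2_c15 LD3_c51) (LK LD1_c0 LD2_c35 LD3_c10) Lrfl Lrfl
theorem f171886 : Led Lsl_ct (LP (LK LD1_c2 LD2_c37 LD3_c41)) = (LP (LK LD1_c1 LD2_c15 LD3_c51)) :=
  Lre_c IH (LK LD1_c2 LD2_c37 LD3_c41) (LK LD1_c1 LD2_c15 LD3_c51) Lrfl Lrfl
theorem f223747 : Led Lsl_dt (LP (LK LD1_c1 LD2_c15 LD3_c28)) = (LP (LK LD1_c2 LD2_c36 LD3_c56)) :=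
  Lre_d IH (LK LD1_c1 LD2_c15 LD3_c28) (LK LD1_c2 LD2_c36 LD3_c56) Lrfl Lrfl
theorem f223866 : Led Lsl_ct (LP (LK LD1_c2 LD2_c36 LD3_c56)) = (LP (LK LD1_c5 LD2_c20 LD3_c35)) :=
  Lre_c IH (LK LD1_c2 LD2_c36 LD3_c56) (LK LD1_c5 LD2_c20 LD3_c35) Lrfl Lrfl
theorem f196816 : Led Lsl_dt (LP (LK LD1_c2 LD2_c25 LD3_c42)) = (LP (LK LD1_c4 LD2_c55 LD3_c49)) :=
  Lre_d IH (LK LD1_c2 LD2_c25 LD3_c42) (LK LD1_c4 LD2_c55 LD3_c49) Lrfl Lrfl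
theorem f223867 : Led Lsl_df (LP (LK LD1_c5 LD2_c20 LD3_c35)) = (LP (LK LD1_c9 LD2_c40 LD3_c59)) :=
  Lgr Lrot84 (Lpe (f223866 IH) (Lpe (f223747 IH) (Lpr_gf (f223741 IH) (Lpe (f196585 IH) (Lpr_gf (f196814 IH) (Lpe (f173119 IH) (Lpe (f173115 IH) (Lpr_dt (f196816 IH) (Lpr_gt (f196817 IH) (Lpn (LP (LK LD1_c9 LD2_c40 LD3_c59))))))))))))
theorem f223869 : Led Lsl_ct (LP (LK LD1_c5 LD2_c20 LD3_c35)) = (LP (LK LD1_c2 LD2_c36 LD3_c56)) :=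
  Lre_c IH (LK LD1_c5 LD2_c20 LD3_c35) (LK LD1_c2 LD2_c36 LD3_c56) Lrfl Lrfl
theorem f169263 : Led Lsl_dt (LP (LK LD1_c2 LD2_c36 LD3_c56)) = (LP (LK LD1_c1 LD2_c15 LD3_c28)) :=
  Lre_d IH (LK LD1_c2 LD2_c36 LD3_c56) (LK LD1_c1 LD2_c15 LD3_c28) Lrfl Lrfl
theorem f169172 : Led Lsl_ct (LP (LK LD1_c1 LD2_c15 LD3_c29)) = (LP (LK LD1_c2 LD2_c36 LD3_c58)) :=
  Lre_c IH (LK LD1_c1 LD2_c15 LD3_c29) (LK LD1_c2 LD2_c36 LD3_c58) Lrfl Lrfl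
theorem f215520 : Led Lsl_dt (LP (LK LD1_c2 LD2_c36 LD3_c58)) = (LP (LK LD1_c5 LD2_c20 LD3_c38)) :=
  Lre_d IH (LK LD1_c2 LD2_c36 LD3_c58) (LK LD1_c5 LD2_c20 LD3_c38) Lrfl Lrfl
theorem f224654 : Led Lsl_cf (LP (LK LD1_c5 LD2_c22 LD3_c20)) = (LP (LK LD1_c5 LD2_c20 LD3_c38)) :=
  Lgr Lrot55 (Lpr_dt (f171887 IH) (Lpr_ct (f171886 IH) (Lpr_dt (f171885 IH) (Lpr_ct (K9.f171874 IH) (Lpr_dt (f42132 IH) (Lpr_ct (f171888 IH) (Lpr_dt (f171889 IH) (Lpr_ct (f224646 IH) (Lpe (f223867 IH) (Lpr_ct (f223869 IH) (Lpr_dt (f169263 IH) (Lpr_ct (f41275 IH) (Lpr_dt (f167817 IH) (Lpr_ct (f169172 IH) (Lpr_dt (f215520 IH) (Lpn (LP (LK LD1_c5 LD2_c20 LD3_c38))))))))))))))))))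
theorem f224699 : Led Lsl_gf (LP (LK LD1_c4 LD2_c55 LD3_c49)) = (LP (LK LD1_c5 LD2_c22 LD3_c20)) :=
  Lgr Lrot148 (Lpr_dt (f217324 IH) (Lpr_gt (f41036 IH) (Lpr_dt (f41037 IH) (Lpr_ct (f224676 IH) (Lpe (f223845 IH) (Lpe (f224644 IH) (Lpe (f51225 IH) (Lpr_gf (f224571 IH) (Lpe (f224654 IH) (Lpn (LP (LK LD1_c5 LD2_c22 LD3_c20))))))))))))
theorem f218763 : Led Lsl_ct (LP (LK LD1_c4 LD2_c55 LD3_c49)) = (LP (LK LD1_c2 LD2_c37 LD3_c8)) :=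
  Lre_c IH (LK LD1_c4 LD2_c55 LD3_c49) (LK LD1_c2 LD2_c37 LD3_c8) Lrfl Lrfl
theorem f201196 : Led Lsl_dt (LP (LK LD1_c4 LD2_c54 LD3_c32)) = (LP (LK LD1_c9 LD2_c40 LD3_c40)) :=
  Lre_d IH (LK LD1_c4 LD2_c54 LD3_c32) (LK LD1_c9 LD2_c40 LD3_c40) Lrfl Lrfl
theorem f101437 : Led Lsl_ct (LP (LK LD1_c2 LD2_c25 LD3_c10)) = (LP (LK LD1_c4 LD2_c54 LD3_c32)) :=
  Lre_c IH (LK LD1_c2 LD2_c25 LD3_c10) (LK LD1_c4 LD2_c54 LD3_c32) Lrfl Lrfl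
theorem f228684 : Led Lsl_gt (LP (LK LD1_c1 LD2_c18 LD3_c22)) = (LP (LK LD1_c2 LD2_c25 LD3_c10)) :=
  Lgr Lrot150 (Lpe (f178071 IH) (Lpr_gf (f228681 IH) (Lpe (f171887 IH) (Lpe (f224699 IH) (Lpr_ct (f218763 IH) (Lpr_gt (f168042 IH) (Lpr_ct (f218829 IH) (Lpe (f201196 IH) (Lpe (f101437 IH) (Lpn (LP (LK LD1_c2 LD2_c25 LD3_c10))))))))))))
theorem f224697 : Led Lsl_cf (LP (LK LD1_c9 LD2_c40 LD3_c52)) = (LP (LK LD1_c5 LD2_c20 LD3_c45)) :=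
  Lgr Lrot11 (Lpr_ct (f224676 IH) (Lpn (LP (LK LD1_c5 LD2_c20 LD3_c45))))
theorem f224706 : Led Lsl_cf (LP (LK LD1_c5 LD2_c20 LD3_c38)) = (LP (LK LD1_c5 LD2_c22 LD3_c20)) :=
  Lgr Lrot166 (Lpe (f224571 IH) (Lpr_dt (f51225 IH) (Lpr_gt (f224644 IH) (Lpr_dt (f223845 IH) (Lpe (f224697 IH) (Lpe (f41037 IH) (Lpe (f41036 IH) (Lpe (f217324 IH) (Lpr_gf (f224699 IH) (Lpn (LP (LK LD1_c5 LD2_c22 LD3_c20))))))))))))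
theorem f169257 : Led Lsl_dt (LP (LK LD1_c1 LD2_c15 LD3_c29)) = (LP (LK LD1_c0 LD2_c34 LD3_c61)) :=
  Lre_d IH (LK LD1_c1 LD2_c15 LD3_c29) (LK LD1_c0 LD2_c34 LD3_c61) Lrfl Lrfl
theorem f172021 : Led Lsl_dt (LP (LK LD1_c2 LD2_c37 LD3_c41)) = (LP (LK LD1_c5 LD2_c22 LD3_c20)) :=
  Lre_d IH (LK LD1_c2 LD2_c37 LD3_c41) (LK LD1_c5 LD2_c22 LD3_c20) Lrfl Lrfl
theorem f171896 : Led Lsl_ct (LP (LK LD1_c2 LD2_c36 LD3_c54)) = (LP (LK LD1_c1 LD2_c15 LD3_c26)) :=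
  Lre_c IH (LK LD1_c2 LD2_c36 LD3_c54) (LK LD1_c1 LD2_c15 LD3_c26) Lrfl Lrfl
theorem f224719 : Led Lsl_dt (LP (LK LD1_c5 LD2_c20 LD3_c35)) = (LP (LK LD1_c9 LD2_c40 LD3_c59)) :=
  Lgr Lrot173 (Lpe (f223866 IH) (Lpe (f223747 IH) (Lpe (f167815 IH) (Lpe (f169257 IH) (Lpe (f169163 IH) (Lpe (f169171 IH) (Lpr_cf (f224706 IH) (Lpe (f172021 IH) (Lpe (f171982 IH) (Lpe (f172020 IH) (Lpr_cf (f171883 IH) (Lpe (f42146 IH) (Lpe (f171896 IH) (Lpe (f172022 IH) (Lpr_cf (f224652 IH) (Lpn (LP (LK LD1_c9 LD2_c40 LD3_c59))))))))))))))))))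
theorem f228733 : Led Lsl_gt (LP (LK LD1_c2 LD2_c44 LD3_c0)) = (LP (LK LD1_c5 LD2_c20 LD3_c35)) :=
  Lgr Lrot94 (Lpe (f177960 IH) (Lpr_gt (f228684 IH) (Lpr_dt (f55103 IH) (Lpr_gt (f41974 IH) (Lpr_dt (f41391 IH) (Lpe (K1.f41165 IH) (Lpe (f55225 IH) (Lpe (f173118 IH) (Lpe (f224719 IH) (Lpn (LP (LK LD1_c5 LD2_c20 LD3_c35))))))))))))
theorem f228792 : Led Lsl_gf (LP (LK LD1_c1 LD2_c18 LD3_c22)) = (LP (LK LD1_c2 LD2_c25 LD3_c8)) :=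
  Lgr Lrot147 (Lpr_ct (f177960 IH) (Lpr_gt (f228733 IH) (Lpr_ct (f223869 IH) (Lpe (f223747 IH) (Lpe (f167815 IH) (Lpe (K9.f167830 IH) (Lpe (K9.f167804 IH) (Lpe (K9.f40805 IH) (Lpe (K10.f55106 IH) (Lpn (LP (LK LD1_c2 LD2_c25 LD3_c8))))))))))))
theorem f177928 : Led Lsl_bt (LP (LK LD1_c0 LD2_c36 LD3_c6)) = (LP (LK LD1_c1 LD2_c18 LD3_c22)) :=
  Lre_b IH (LK LD1_c0 LD2_c36 LD3_c6) (LK LD1_c1 LD2_c18 LD3_c22) Lrfl Lrfl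
theorem f178287 : Led Lsl_bt (LP (LK LD1_c0 LD2_c58 LD3_c55)) = (LP (LK LD1_c0 LD2_c26 LD3_c46)) :=
  Lre_b IH (LK LD1_c0 LD2_c58 LD3_c55) (LK LD1_c0 LD2_c26 LD3_c46) Lrfl Lrfl
theorem f178288 : Led Lsl_dt (LP (LK LD1_c1 LD2_c18 LD3_c22)) = (LP (LK LD1_c0 LD2_c58 LD3_c55)) :=
  Lgr Lrot79 (Lpe (f177928 IH) (Lpr_df (K9.f178285 IH) (Lpe (f178287 IH) (Lpn (LP (LK LD1_c0 LD2_c58 LD3_c55))))))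
theorem f187026 : Led Lsl_dt (LP (LK LD1_c2 LD2_c2 LD3_c40)) = (LP (LK LD1_c0 LD2_c58 LD3_c14)) :=
  Lre_d IH (LK LD1_c2 LD2_c2 LD3_c40) (LK LD1_c0 LD2_c58 LD3_c14) Lrfl Lrfl
theorem f228808 : Led Lsl_cf (LP (LK LD1_c0 LD2_c58 LD3_c55)) = (LP (LK LD1_c0 LD2_c58 LD3_c14)) :=
  Lgr Lrot14 (Lpe (f178288 IH) (Lpr_gf (f228792 IH) (Lpe (K10.f41908 IH) (Lpe (K9.f41907 IH) (Lpr_ct (K1.f41273 IH) (Lpr_gt (K9.f41277 IH) (Lpr_dt (f42132 IH) (Lpe (f187023 IH) (Lpr_dt (f187026 IH) (Lpn (LP (LK LD1_c0 LD2_c58 LD3_c14))))))))))))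
theorem f222160 : Led Lsl_et (LP (LK LD1_c0 LD2_c58 LD3_c55)) = (LP (LK LD1_c0 LD2_c26 LD3_c44)) :=
  Lre_e IH (LK LD1_c0 LD2_c58 LD3_c55) (LK LD1_c0 LD2_c26 LD3_c44) Lrfl Lrfl
theorem f228890 : Led Lsl_et (LP (LK LD1_c0 LD2_c26 LD3_c25)) = (LP (LK LD1_c0 LD2_c58 LD3_c14)) :=
  Lre_e IH (LK LD1_c0 LD2_c26 LD3_c25) (LK LD1_c0 LD2_c58 LD3_c14) Lrfl Lrfl
theorem f228891 : Led Lsl_ct (LP (LK LD1_c0 LD2_c26 LD3_c44)) = (LP (LK LD1_c0 LD2_c26 LD3_c25)) :=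
  Lgr Lrot15 (Lpe (f222160 IH) (Lpr_cf (f228808 IH) (Lpe (f228890 IH) (Lpn (LP (LK LD1_c0 LD2_c26 LD3_c25))))))
theorem f167250 : Led Lsl_gt (LP (LK LD1_c0 LD2_c58 LD3_c52)) = (LP (LK LD1_c0 LD2_c26 LD3_c44)) :=
  Lre_g IH (LK LD1_c0 LD2_c58 LD3_c52) (LK LD1_c0 LD2_c26 LD3_c44) Lrfl Lrfl
theorem f222218 : Led Lsl_ct (LP (LK LD1_c2 LD2_c3 LD3_c44)) = (LP (LK LD1_c2 LD2_c1 LD3_c38)) :=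
  Lre_c IH (LK LD1_c2 LD2_c3 LD3_c44) (LK LD1_c2 LD2_c1 LD3_c38) Lrfl Lrfl
theorem f199615 : Led Lsl_gt (LP (LK LD1_c0 LD2_c57 LD3_c52)) = (LP (LK LD1_c2 LD2_c1 LD3_c38)) :=
  Lre_g IH (LK LD1_c0 LD2_c57 LD3_c52) (LK LD1_c2 LD2_c1 LD3_c38) Lrfl Lrfl
theorem f167356 : Led Lsl_ct (LP (LK LD1_c0 LD2_c26 LD3_c18)) = (LP (LK LD1_c0 LD2_c57 LD3_c52)) :=
  Lre_c IH (LK LD1_c0 LD2_c26 LD3_c18) (LK LD1_c0 LD2_c57 LD3_c52) Lrfl Lrfl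
theorem f167331 : Led Lsl_bt (LP (LK LD1_c0 LD2_c26 LD3_c18)) = (LP (LK LD1_c0 LD2_c57 LD3_c51)) :=
  Lre_b IH (LK LD1_c0 LD2_c26 LD3_c18) (LK LD1_c0 LD2_c57 LD3_c51) Lrfl Lrfl
theorem f29011 : Led Lsl_ct (LP (LK LD1_c1 LD2_c1 LD3_c10)) = (LP (LK LD1_c0 LD2_c39 LD3_c6)) :=
  Lgr Lrot59 (Lpr_cf (K0.f29007 IH) (Lpn (LP (LK LD1_c0 LD2_c39 LD3_c6))))
theorem f228930 : Led Lsl_gf (LP (LK LD1_c0 LD2_c57 LD3_c51)) = (LP (LK LD1_c0 LD2_c27 LD3_c60)) :=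
  Lgr Lrot124 (Lpe (f167331 IH) (Lpr_ct (f167356 IH) (Lpr_gt (f199615 IH) (Lpe (f222218 IH) (Lpr_bt (f222148 IH) (Lpr_gt (f167250 IH) (Lpr_ct (f228891 IH) (Lpr_gt (K10.f187015 IH) (Lpe (f29011 IH) (Lpr_bt (K0.f29009 IH) (Lpn (LP (LK LD1_c0 LD2_c27 LD3_c60)))))))))))))
theorem f167340 : Led Lsl_et (LP (LK LD1_c2 LD2_c1 LD3_c37)) = (LP (LK LD1_c0 LD2_c57 LD3_c51)) :=
  Lre_e IH (LK LD1_c2 LD2_c1 LD3_c37) (LK LD1_c0 LD2_c57 LD3_c51) Lrfl Lrfl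
theorem f29127 : Led Lsl_et (LP (LK LD1_c0 LD2_c12 LD3_c22)) = (LP (LK LD1_c0 LD2_c27 LD3_c60)) :=
  Lre_e IH (LK LD1_c0 LD2_c12 LD3_c22) (LK LD1_c0 LD2_c27 LD3_c60) Lrfl Lrfl
theorem f45876 : Led Lsl_dt (LP (LK LD1_c0 LD2_c34 LD3_c55)) = (LP (LK LD1_c1 LD2_c15 LD3_c15)) :=
  Lre_d IH (LK LD1_c0 LD2_c34 LD3_c55) (LK LD1_c1 LD2_c15 LD3_c15) Lrfl Lrfl
theorem f45884 : Led Lsl_gt (LP (LK LD1_c2 LD2_c36 LD3_c31)) = (LP (LK LD1_c1 LD2_c15 LD3_c15)) :=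
  Lre_g IH (LK LD1_c2 LD2_c36 LD3_c31) (LK LD1_c1 LD2_c15 LD3_c15) Lrfl Lrfl
theorem f228944 : Led Lsl_dt (LP (LK LD1_c2 LD2_c1 LD3_c37)) = (LP (LK LD1_c2 LD2_c36 LD3_c31)) :=
  Lgr Lrot136 (Lpr_et (f167340 IH) (Lpr_gf (f228930 IH) (Lpe (f29127 IH) (Lpr_dt (K0.f16673 IH) (Lpe (K0.f16675 IH) (Lpe (K0.f28581 IH) (Lpe (K1.f44031 IH) (Lpe (K1.f44912 IH) (Lpr_dt (f45876 IH) (Lpe (f45884 IH) (Lpn (LP (LK LD1_c2 LD2_c36 LD3_c31)))))))))))))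
theorem f167354 : Led Lsl_et (LP (LK LD1_c0 LD2_c57 LD3_c51)) = (LP (LK LD1_c2 LD2_c1 LD3_c37)) :=
  Lre_e IH (LK LD1_c0 LD2_c57 LD3_c51) (LK LD1_c2 LD2_c1 LD3_c37) Lrfl Lrfl
theorem f167336 : Led Lsl_dt (LP (LK LD1_c2 LD2_c1 LD3_c36)) = (LP (LK LD1_c0 LD2_c57 LD3_c51)) :=
  Lre_d IH (LK LD1_c2 LD2_c1 LD3_c36) (LK LD1_c0 LD2_c57 LD3_c51) Lrfl Lrfl
theorem f228973 : Led Lsl_et (LP (LK LD1_c4 LD2_c8 LD3_c30)) = (LP (LK LD1_c2 LD2_c1 LD3_c36)) :=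
  Lre_e IH (LK LD1_c4 LD2_c8 LD3_c30) (LK LD1_c2 LD2_c1 LD3_c36) Lrfl Lrfl
theorem f228974 : Led Lsl_et (LP (LK LD1_c2 LD2_c36 LD3_c31)) = (LP (LK LD1_c5 LD2_c19 LD3_c44)) :=
  Lre_e IH (LK LD1_c2 LD2_c36 LD3_c31) (LK LD1_c5 LD2_c19 LD3_c44) Lrfl Lrfl
theorem f228975 : Led Lsl_df (LP (LK LD1_c4 LD2_c8 LD3_c30)) = (LP (LK LD1_c5 LD2_c19 LD3_c44)) :=
  Lgr Lrot70 (Lpr_et (f228973 IH) (Lpr_dt (f167336 IH) (Lpr_et (f167354 IH) (Lpr_dt (f228944 IH) (Lpr_et (f228974 IH) (Lpn (LP (LK LD1_c5 LD2_c19 LD3_c44))))))))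
theorem f228983 : Led Lsl_ft (LP (LK LD1_c4 LD2_c8 LD3_c30)) = (LP (LK LD1_c8 LD2_c17 LD3_c7)) :=
  Lre_f IH (LK LD1_c4 LD2_c8 LD3_c30) (LK LD1_c8 LD2_c17 LD3_c7) Lrfl Lrfl
theorem f228984 : Led Lsl_ft (LP (LK LD1_c10 LD2_c29 LD3_c19)) = (LP (LK LD1_c5 LD2_c19 LD3_c44)) :=
  Lre_f IH (LK LD1_c10 LD2_c29 LD3_c19) (LK LD1_c5 LD2_c19 LD3_c44) Lrfl Lrfl
theorem f228985 : Led Lsl_dt (LP (LK LD1_c8 LD2_c17 LD3_c7)) = (LP (LK LD1_c10 LD2_c29 LD3_c19)) :=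
  Lgr Lrot60 (Lpe (f228983 IH) (Lpr_df (f228975 IH) (Lpe (f228984 IH) (Lpn (LP (LK LD1_c10 LD2_c29 LD3_c19))))))
theorem f229014 : Led Lsl_df (LP (LK LD1_c8 LD2_c17 LD3_c7)) = (LP (LK LD1_c10 LD2_c29 LD3_c19)) :=
  Lgr Lrot38 (Lpr_dt (f228985 IH) (Lpn (LP (LK LD1_c10 LD2_c29 LD3_c19))))
theorem f229017 : Led Lsl_bt (LP (LK LD1_c8 LD2_c17 LD3_c7)) = (LP (LK LD1_c4 LD2_c8 LD3_c50)) :=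
  Lre_b IH (LK LD1_c8 LD2_c17 LD3_c7) (LK LD1_c4 LD2_c8 LD3_c50) Lrfl Lrfl
theorem f229018 : Led Lsl_dt (LP (LK LD1_c4 LD2_c8 LD3_c50)) = (LP (LK LD1_c8 LD2_c17 LD3_c50)) :=
  Lre_d IH (LK LD1_c4 LD2_c8 LD3_c50) (LK LD1_c8 LD2_c17 LD3_c50) Lrfl Lrfl
theorem f229019 : Led Lsl_bt (LP (LK LD1_c8 LD2_c17 LD3_c50)) = (LP (LK LD1_c10 LD2_c29 LD3_c19)) :=
  Lgr Lrot95 (Lpe (f229018 IH) (Lpe (f229017 IH) (Lpr_df (f229014 IH) (Lpn (LP (LK LD1_c10 LD2_c29 LD3_c19))))))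
theorem f229023 : Led Lsl_ft (LP (LK LD1_c4 LD2_c8 LD3_c49)) = (LP (LK LD1_c8 LD2_c17 LD3_c50)) :=
  Lre_f IH (LK LD1_c4 LD2_c8 LD3_c49) (LK LD1_c8 LD2_c17 LD3_c50) Lrfl Lrfl
theorem f229024 : Led Lsl_bf (LP (LK LD1_c4 LD2_c8 LD3_c49)) = (LP (LK LD1_c5 LD2_c19 LD3_c44)) :=
  Lgr Lrot61 (Lpr_ft (f229023 IH) (Lpr_bt (f229019 IH) (Lpr_ft (f228984 IH) (Lpn (LP (LK LD1_c5 LD2_c19 LD3_c44))))))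
theorem f229031 : Led Lsl_et (LP (LK LD1_c4 LD2_c8 LD3_c49)) = (LP (LK LD1_c2 LD2_c1 LD3_c46)) :=
  Lre_e IH (LK LD1_c4 LD2_c8 LD3_c49) (LK LD1_c2 LD2_c1 LD3_c46) Lrfl Lrfl
theorem f229032 : Led Lsl_bt (LP (LK LD1_c2 LD2_c1 LD3_c46)) = (LP (LK LD1_c2 LD2_c36 LD3_c31)) :=
  Lgr Lrot119 (Lpe (f229031 IH) (Lpr_bf (f229024 IH) (Lpe (f228974 IH) (Lpn (LP (LK LD1_c2 LD2_c36 LD3_c31))))))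
theorem f229038 : Led Lsl_ct (LP (LK LD1_c2 LD2_c1 LD3_c46)) = (LP (LK LD1_c4 LD2_c8 LD3_c51)) :=
  Lre_c IH (LK LD1_c2 LD2_c1 LD3_c46) (LK LD1_c4 LD2_c8 LD3_c51) Lrfl Lrfl
theorem f229039 : Led Lsl_gt (LP (LK LD1_c8 LD2_c17 LD3_c51)) = (LP (LK LD1_c4 LD2_c8 LD3_c51)) :=
  Lre_g IH (LK LD1_c8 LD2_c17 LD3_c51) (LK LD1_c4 LD2_c8 LD3_c51) Lrfl Lrfl
theorem f184076 : Led Lsl_bf (LP (LK LD1_c4 LD2_c13 LD3_c39)) = (LP (LK LD1_c4 LD2_c54 LD3_c2)) :=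
  Lgr Lrot24 (Lpr_bt (K9.f184074 IH) (Lpn (LP (LK LD1_c4 LD2_c54 LD3_c2))))
theorem f49460 : Led Lsl_gt (LP (LK LD1_c4 LD2_c13 LD3_c39)) = (LP (LK LD1_c4 LD2_c13 LD3_c48)) :=
  Lgr Lrot46 (Lpe (K9.f44995 IH) (Lpr_ft (K9.f44984 IH) (Lpr_at (K9.f49449 IH) (Lpn (LP (LK LD1_c4 LD2_c13 LD3_c48))))))
theorem f229040 : Led Lsl_cf (LP (LK LD1_c8 LD2_c17 LD3_c51)) = (LP (LK LD1_c4 LD2_c13 LD3_c48)) :=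
  Lgr Lrot125 (Lpr_gt (f229039 IH) (Lpe (f229038 IH) (Lpr_bt (f229032 IH) (Lpr_gt (f45884 IH) (Lpe (K1.f44768 IH) (Lpr_ct (K1.f28302 IH) (Lpr_gt (K9.f44904 IH) (Lpe (K9.f184848 IH) (Lpe (f184076 IH) (Lpr_gt (f49460 IH) (Lpn (LP (LK LD1_c4 LD2_c13 LD3_c48)))))))))))))
theorem f49455 : Led Lsl_bt (LP (LK LD1_c4 LD2_c13 LD3_c48)) = (LP (LK LD1_c8 LD2_c26 LD3_c15)) :=
  Lre_b IH (LK LD1_c4 LD2_c13 LD3_c48) (LK LD1_c8 LD2_c26 LD3_c15) Lrfl Lrfl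
theorem f43453 : Led Lsl_bt (LP (LK LD1_c2 LD2_c24 LD3_c61)) = (LP (LK LD1_c4 LD2_c53 LD3_c61)) :=
  Lre_b IH (LK LD1_c2 LD2_c24 LD3_c61) (LK LD1_c4 LD2_c53 LD3_c61) Lrfl Lrfl
theorem f50833 : Led Lsl_at (LP (LK LD1_c4 LD2_c53 LD3_c61)) = (LP (LK LD1_c8 LD2_c26 LD3_c15)) :=
  Lgr Lrot67 (Lpe (f43453 IH) (Lpe (K9.f43447 IH) (Lpr_bf (K9.f50831 IH) (Lpr_af (K9.f49453 IH) (Lpe (K10.f49463 IH) (Lpn (LP (LK LD1_c8 LD2_c26 LD3_c15))))))))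
theorem f44448 : Led Lsl_gt (LP (LK LD1_c2 LD2_c24 LD3_c53)) = (LP (LK LD1_c4 LD2_c53 LD3_c58)) :=
  Lre_g IH (LK LD1_c2 LD2_c24 LD3_c53) (LK LD1_c4 LD2_c53 LD3_c58) Lrfl Lrfl
theorem f51294 : Led Lsl_gt (LP (LK LD1_c4 LD2_c53 LD3_c58)) = (LP (LK LD1_c8 LD2_c26 LD3_c15)) :=
  Lgr Lrot46 (Lpe (f44448 IH) (Lpr_ft (K9.f44445 IH) (Lpr_at (f50833 IH) (Lpn (LP (LK LD1_c8 LD2_c26 LD3_c15))))))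
theorem f45877 : Led Lsl_ct (LP (LK LD1_c1 LD2_c15 LD3_c15)) = (LP (LK LD1_c2 LD2_c36 LD3_c32)) :=
  Lre_c IH (LK LD1_c1 LD2_c15 LD3_c15) (LK LD1_c2 LD2_c36 LD3_c32) Lrfl Lrfl
theorem f33358 : Led Lsl_gt (LP (LK LD1_c1 LD2_c11 LD3_c18)) = (LP (LK LD1_c2 LD2_c28 LD3_c9)) :=
  Lre_g IH (LK LD1_c1 LD2_c11 LD3_c18) (LK LD1_c2 LD2_c28 LD3_c9) Lrfl Lrfl
theorem f186852 : Led Lsl_ct (LP (LK LD1_c2 LD2_c28 LD3_c9)) = (LP (LK LD1_c5 LD2_c0 LD3_c49)) :=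
  Lre_c IH (LK LD1_c2 LD2_c28 LD3_c9) (LK LD1_c5 LD2_c0 LD3_c49) Lrfl Lrfl
theorem f186859 : Led Lsl_gt (LP (LK LD1_c5 LD2_c0 LD3_c49)) = (LP (LK LD1_c8 LD2_c5 LD3_c46)) :=
  Lgr Lrot150 (Lpe (f186852 IH) (Lpe (f33358 IH) (Lpe (K0.f3316 IH) (Lpr_gt (K10.f3720 IH) (Lpe (K10.f186843 IH) (Lpr_gt (K10.f186853 IH) (Lpe (K1.f45881 IH) (Lpe (K1.f45849 IH) (Lpe (K9.f45893 IH) (Lpn (LP (LK LD1_c8 LD2_c5 LD3_c46))))))))))))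
theorem f45883 : Led Lsl_ft (LP (LK LD1_c1 LD2_c58 LD3_c17)) = (LP (LK LD1_c4 LD2_c2 LD3_c36)) :=
  Lre_f IH (LK LD1_c1 LD2_c58 LD3_c17) (LK LD1_c4 LD2_c2 LD3_c36) Lrfl Lrfl
theorem f46538 : Led Lsl_af (LP (LK LD1_c2 LD2_c36 LD3_c33)) = (LP (LK LD1_c4 LD2_c2 LD3_c36)) :=
  Lgr Lrot45 (Lpr_ft (K1.f45892 IH) (Lpr_at (K1.f46528 IH) (Lpr_ft (f45883 IH) (Lpn (LP (LK LD1_c4 LD2_c2 LD3_c36))))))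
theorem f184527 : Led Lsl_at (LP (LK LD1_c5 LD2_c1 LD3_c33)) = (LP (LK LD1_c8 LD2_c5 LD3_c46)) :=
  Lgr Lrot107 (Lpr_cf (K9.f184521 IH) (Lpr_af (f46538 IH) (Lpe (K9.f45893 IH) (Lpn (LP (LK LD1_c8 LD2_c5 LD3_c46))))))
theorem f46547 : Led Lsl_ft (LP (LK LD1_c4 LD2_c2 LD3_c35)) = (LP (LK LD1_c8 LD2_c5 LD3_c46)) :=
  Lre_f IH (LK LD1_c4 LD2_c2 LD3_c35) (LK LD1_c8 LD2_c5 LD3_c46) Lrfl Lrfl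
theorem f184539 : Led Lsl_af (LP (LK LD1_c5 LD2_c1 LD3_c33)) = (LP (LK LD1_c8 LD2_c5 LD3_c46)) :=
  Lgr Lrot109 (Lpr_cf (K9.f184521 IH) (Lpe (K1.f45896 IH) (Lpe (K1.f45888 IH) (Lpe (K1.f45849 IH) (Lpe (K9.f45893 IH) (Lpr_df (K9.f46544 IH) (Lpe (K9.f45902 IH) (Lpe (K1.f45901 IH) (Lpr_ft (f46547 IH) (Lpn (LP (LK LD1_c8 LD2_c5 LD3_c46))))))))))))
theorem f184534 : Led Lsl_et (LP (LK LD1_c5 LD2_c1 LD3_c33)) = (LP (LK LD1_c9 LD2_c53 LD3_c24)) :=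
  Lre_e IH (LK LD1_c5 LD2_c1 LD3_c33) (LK LD1_c9 LD2_c53 LD3_c24) Lrfl Lrfl
theorem f46546 : Led Lsl_et (LP (LK LD1_c15 LD2_c14 LD3_c40)) = (LP (LK LD1_c8 LD2_c5 LD3_c46)) :=
  Lre_e IH (LK LD1_c15 LD2_c14 LD3_c40) (LK LD1_c8 LD2_c5 LD3_c46) Lrfl Lrfl
theorem f184542 : Led Lsl_at (LP (LK LD1_c9 LD2_c53 LD3_c24)) = (LP (LK LD1_c15 LD2_c14 LD3_c40)) :=
  Lgr Lrot80 (Lpe (f184534 IH) (Lpr_af (f184539 IH) (Lpe (f46546 IH) (Lpn (LP (LK LD1_c15 LD2_c14 LD3_c40))))))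
theorem f184561 : Led Lsl_ft (LP (LK LD1_c15 LD2_c14 LD3_c40)) = (LP (LK LD1_c8 LD2_c5 LD3_c60)) :=
  Lre_f IH (LK LD1_c15 LD2_c14 LD3_c40) (LK LD1_c8 LD2_c5 LD3_c60) Lrfl Lrfl
theorem f45829 : Led Lsl_ct (LP (LK LD1_c4 LD2_c2 LD3_c42)) = (LP (LK LD1_c8 LD2_c5 LD3_c60)) :=
  Lre_c IH (LK LD1_c4 LD2_c2 LD3_c42) (LK LD1_c8 LD2_c5 LD3_c60) Lrfl Lrfl
theorem f46037 : Led Lsl_ct (LP (LK LD1_c8 LD2_c5 LD3_c38)) = (LP (LK LD1_c4 LD2_c2 LD3_c32)) :=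
  Lre_c IH (LK LD1_c8 LD2_c5 LD3_c38) (LK LD1_c4 LD2_c2 LD3_c32) Lrfl Lrfl
theorem f46970 : Led Lsl_at (LP (LK LD1_c8 LD2_c5 LD3_c60)) = (LP (LK LD1_c8 LD2_c5 LD3_c38)) :=
  Lgr Lrot107 (Lpe (f45829 IH) (Lpr_af (K1.f46959 IH) (Lpe (f46037 IH) (Lpn (LP (LK LD1_c8 LD2_c5 LD3_c38))))))
theorem f184562 : Led Lsl_ff (LP (LK LD1_c9 LD2_c53 LD3_c24)) = (LP (LK LD1_c8 LD2_c5 LD3_c38)) :=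
  Lgr Lrot30 (Lpr_at (f184542 IH) (Lpr_ft (f184561 IH) (Lpr_at (f46970 IH) (Lpn (LP (LK LD1_c8 LD2_c5 LD3_c38))))))
theorem f184572 : Led Lsl_ft (LP (LK LD1_c9 LD2_c53 LD3_c24)) = (LP (LK LD1_c8 LD2_c5 LD3_c38)) :=
  Lgr Lrot48 (Lpr_ff (f184562 IH) (Lpn (LP (LK LD1_c8 LD2_c5 LD3_c38))))
theorem f46937 : Led Lsl_et (LP (LK LD1_c8 LD2_c5 LD3_c38)) = (LP (LK LD1_c4 LD2_c2 LD3_c31)) :=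
  Lre_e IH (LK LD1_c8 LD2_c5 LD3_c38) (LK LD1_c4 LD2_c2 LD3_c31) Lrfl Lrfl
theorem f184581 : Led Lsl_ff (LP (LK LD1_c5 LD2_c1 LD3_c33)) = (LP (LK LD1_c2 LD2_c36 LD3_c32)) :=
  Lgr Lrot72 (Lpr_et (f184534 IH) (Lpr_ft (f184572 IH) (Lpr_et (f46937 IH) (Lpr_ft (K10.f46939 IH) (Lpe (K1.f46989 IH) (Lpn (LP (LK LD1_c2 LD2_c36 LD3_c32))))))))
theorem f186865 : Led Lsl_gf (LP (LK LD1_c5 LD2_c0 LD3_c49)) = (LP (LK LD1_c2 LD2_c36 LD3_c32)) :=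
  Lgr Lrot47 (Lpr_gt (f186859 IH) (Lpe (f184527 IH) (Lpr_ff (f184581 IH) (Lpn (LP (LK LD1_c2 LD2_c36 LD3_c32))))))
theorem f229042 : Led Lsl_bf (LP (LK LD1_c4 LD2_c53 LD3_c58)) = (LP (LK LD1_c2 LD2_c28 LD3_c9)) :=
  Lgr Lrot156 (Lpr_gt (f51294 IH) (Lpe (f49455 IH) (Lpe (f229040 IH) (Lpr_gt (f229039 IH) (Lpe (f229038 IH) (Lpr_bt (f229032 IH) (Lpr_gt (f45884 IH) (Lpr_ct (f45877 IH) (Lpe (f186865 IH) (Lpe (f186852 IH) (Lpn (LP (LK LD1_c2 LD2_c28 LD3_c9)))))))))))))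
theorem f43778 : Led Lsl_bt (LP (LK LD1_c1 LD2_c9 LD3_c43)) = (LP (LK LD1_c2 LD2_c24 LD3_c53)) :=
  Lre_b IH (LK LD1_c1 LD2_c9 LD3_c43) (LK LD1_c2 LD2_c24 LD3_c53) Lrfl Lrfl
theorem f43494 : Led Lsl_gt (LP (LK LD1_c4 LD2_c54 LD3_c10)) = (LP (LK LD1_c2 LD2_c24 LD3_c60)) :=
  Lre_g IH (LK LD1_c4 LD2_c54 LD3_c10) (LK LD1_c2 LD2_c24 LD3_c60) Lrfl Lrfl
theorem f45845 : Led Lsl_bt (LP (LK LD1_c4 LD2_c2 LD3_c36)) = (LP (LK LD1_c2 LD2_c36 LD3_c18)) :=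
  Lgr Lrot127 (Lpr_bf (K1.f45841 IH) (Lpn (LP (LK LD1_c2 LD2_c36 LD3_c18))))
theorem f28268 : Led Lsl_gt (LP (LK LD1_c2 LD2_c36 LD3_c11)) = (LP (LK LD1_c1 LD2_c15 LD3_c5)) :=
  Lre_g IH (LK LD1_c2 LD2_c36 LD3_c11) (LK LD1_c1 LD2_c15 LD3_c5) Lrfl Lrfl
theorem f46530 : Led Lsl_gf (LP (LK LD1_c2 LD2_c36 LD3_c11)) = (LP (LK LD1_c2 LD2_c36 LD3_c18)) :=
  Lgr Lrot47 (Lpr_gt (f28268 IH) (Lpr_af (K1.f46525 IH) (Lpe (K1.f43939 IH) (Lpn (LP (LK LD1_c2 LD2_c36 LD3_c18))))))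
theorem f229049 : Led Lsl_cf (LP (LK LD1_c4 LD2_c54 LD3_c10)) = (LP (LK LD1_c2 LD2_c36 LD3_c11)) :=
  Lgr Lrot125 (Lpr_gt (f43494 IH) (Lpe (K9.f43498 IH) (Lpr_bt (f43778 IH) (Lpr_gt (f44448 IH) (Lpr_bf (f229042 IH) (Lpr_ct (f186852 IH) (Lpr_gt (f186859 IH) (Lpe (K9.f45847 IH) (Lpr_bt (f45845 IH) (Lpe (f46530 IH) (Lpn (LP (LK LD1_c2 LD2_c36 LD3_c11)))))))))))))
theorem f43495 : Led Lsl_gt (LP (LK LD1_c4 LD2_c54 LD3_c28)) = (LP (LK LD1_c4 LD2_c54 LD3_c10)) :=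
  Lgr Lrot5 (Lpr_ft (K9.f43492 IH) (Lpr_at (K9.f43467 IH) (Lpe (f43494 IH) (Lpn (LP (LK LD1_c4 LD2_c54 LD3_c10))))))
theorem f43506 : Led Lsl_ct (LP (LK LD1_c2 LD2_c25 LD3_c7)) = (LP (LK LD1_c4 LD2_c54 LD3_c28)) :=
  Lre_c IH (LK LD1_c2 LD2_c25 LD3_c7) (LK LD1_c4 LD2_c54 LD3_c28) Lrfl Lrfl
theorem f50835 : Led Lsl_bt (LP (LK LD1_c2 LD2_c25 LD3_c7)) = (LP (LK LD1_c4 LD2_c13 LD3_c41)) :=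
  Lgr Lrot127 (Lpr_bf (K9.f50831 IH) (Lpn (LP (LK LD1_c4 LD2_c13 LD3_c41))))
theorem f27849 : Led Lsl_gt (LP (LK LD1_c1 LD2_c58 LD3_c20)) = (LP (LK LD1_c0 LD2_c56 LD3_c1)) :=
  Lre_g IH (LK LD1_c1 LD2_c58 LD3_c20) (LK LD1_c0 LD2_c56 LD3_c1) Lrfl Lrfl
theorem f229060 : Led Lsl_bf (LP (LK LD1_c1 LD2_c58 LD3_c20)) = (LP (LK LD1_c2 LD2_c36 LD3_c11)) :=
  Lgr Lrot165 (Lpr_gt (f27849 IH) (Lpr_ct (K1.f27872 IH) (Lpr_gt (f197174 IH) (Lpe (K10.f33989 IH) (Lpr_bt (K10.f197169 IH) (Lpe (f197162 IH) (Lpe (f50835 IH) (Lpr_ct (f43506 IH) (Lpr_gt (f43495 IH) (Lpr_cf (f229049 IH) (Lpn (LP (LK LD1_c2 LD2_c36 LD3_c11)))))))))))))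
theorem f229062 : Led Lsl_bt (LP (LK LD1_c1 LD2_c58 LD3_c20)) = (LP (LK LD1_c2 LD2_c36 LD3_c11)) :=
  Lgr Lrot127 (Lpr_bf (f229060 IH) (Lpn (LP (LK LD1_c2 LD2_c36 LD3_c11))))
theorem f33583 : Led Lsl_bt (LP (LK LD1_c0 LD2_c55 LD3_c48)) = (LP (LK LD1_c1 LD2_c11 LD3_c18)) :=
  Lgr Lrot95 (Lpe (K0.f27771 IH) (Lpr_bf (K0.f33575 IH) (Lpe (K0.f3348 IH) (Lpn (LP (LK LD1_c1 LD2_c11 LD3_c18))))))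
theorem f33700 : Led Lsl_gt (LP (LK LD1_c4 LD2_c1 LD3_c53)) = (LP (LK LD1_c1 LD2_c57 LD3_c53)) :=
  Lre_g IH (LK LD1_c4 LD2_c1 LD3_c53) (LK LD1_c1 LD2_c57 LD3_c53) Lrfl Lrfl
theorem f229084 : Led Lsl_ct (LP (LK LD1_c1 LD2_c58 LD3_c20)) = (LP (LK LD1_c4 LD2_c1 LD3_c53)) :=
  Lgr Lrot64 (Lpr_bt (f229062 IH) (Lpr_gf (f46530 IH) (Lpe (f45845 IH) (Lpr_ct (K9.f45847 IH) (Lpe (f186859 IH) (Lpe (f186852 IH) (Lpe (f33358 IH) (Lpe (f33583 IH) (Lpr_ct (K0.f33702 IH) (Lpe (f33700 IH) (Lpn (LP (LK LD1_c4 LD2_c1 LD3_c53)))))))))))))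
theorem f193632 : Led Lsl_dt (LP (LK LD1_c0 LD2_c55 LD3_c50)) = (LP (LK LD1_c1 LD2_c57 LD3_c55)) :=
  Lre_d IH (LK LD1_c0 LD2_c55 LD3_c50) (LK LD1_c1 LD2_c57 LD3_c55) Lrfl Lrfl
theorem f229098 : Led Lsl_ct (LP (LK LD1_c4 LD2_c1 LD3_c60)) = (LP (LK LD1_c1 LD2_c57 LD3_c55)) :=
  Lre_c IH (LK LD1_c4 LD2_c1 LD3_c60) (LK LD1_c1 LD2_c57 LD3_c55) Lrfl Lrfl
theorem f33698 : Led Lsl_gt (LP (LK LD1_c4 LD2_c1 LD3_c55)) = (LP (LK LD1_c8 LD2_c4 LD3_c32)) :=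
  Lre_g IH (LK LD1_c4 LD2_c1 LD3_c55) (LK LD1_c8 LD2_c4 LD3_c32) Lrfl Lrfl
theorem f229099 : Led Lsl_df (LP (LK LD1_c4 LD2_c1 LD3_c60)) = (LP (LK LD1_c8 LD2_c4 LD3_c32)) :=
  Lgr Lrot174 (Lpr_ct (f229098 IH) (Lpe (f193632 IH) (Lpr_gf (K10.f193628 IH) (Lpe (K1.f27839 IH) (Lpe (f27849 IH) (Lpr_ct (f229084 IH) (Lpr_gt (f33700 IH) (Lpr_dt (K0.f33699 IH) (Lpr_gt (f33698 IH) (Lpn (LP (LK LD1_c8 LD2_c4 LD3_c32))))))))))))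
theorem f229122 : Led Lsl_dt (LP (LK LD1_c4 LD2_c1 LD3_c60)) = (LP (LK LD1_c8 LD2_c4 LD3_c32)) :=
  Lgr Lrot42 (Lpr_df (f229099 IH) (Lpn (LP (LK LD1_c8 LD2_c4 LD3_c32))))
theorem f34024 : Led Lsl_bt (LP (LK LD1_c4 LD2_c2 LD3_c23)) = (LP (LK LD1_c8 LD2_c5 LD3_c19)) :=
  Lre_b IH (LK LD1_c4 LD2_c2 LD3_c23) (LK LD1_c8 LD2_c5 LD3_c19) Lrfl Lrfl
theorem f34388 : Led Lsl_at (LP (LK LD1_c4 LD2_c1 LD3_c36)) = (LP (LK LD1_c4 LD2_c2 LD3_c23)) :=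
  Lgr Lrot67 (Lpe (K2.f34082 IH) (Lpe (K2.f34157 IH) (Lpr_bf (K2.f34381 IH) (Lpe (K2.f34327 IH) (Lpe (f34024 IH) (Lpn (LP (LK LD1_c4 LD2_c2 LD3_c23))))))))
theorem f33693 : Led Lsl_ft (LP (LK LD1_c4 LD2_c1 LD3_c55)) = (LP (LK LD1_c4 LD2_c1 LD3_c36)) :=
  Lgr Lrot4 (Lpr_cf (K0.f33678 IH) (Lpe (K0.f33691 IH) (Lpe (f33692 IH) (Lpn (LP (LK LD1_c4 LD2_c1 LD3_c36))))))
theorem f34582 : Led Lsl_gt (LP (LK LD1_c8 LD2_c4 LD3_c32)) = (LP (LK LD1_c4 LD2_c2 LD3_c23)) :=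
  Lgr Lrot46 (Lpe (f33698 IH) (Lpr_ft (f33693 IH) (Lpr_at (f34388 IH) (Lpn (LP (LK LD1_c4 LD2_c2 LD3_c23))))))
theorem f34029 : Led Lsl_dt (LP (LK LD1_c4 LD2_c2 LD3_c23)) = (LP (LK LD1_c2 LD2_c31 LD3_c48)) :=
  Lgr Lrot42 (Lpr_df (K0.f34022 IH) (Lpn (LP (LK LD1_c2 LD2_c31 LD3_c48))))
theorem f182047 : Led Lsl_dt (LP (LK LD1_c1 LD2_c57 LD3_c48)) = (LP (LK LD1_c0 LD2_c55 LD3_c46)) :=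
  Lre_d IH (LK LD1_c1 LD2_c57 LD3_c48) (LK LD1_c0 LD2_c55 LD3_c46) Lrfl Lrfl
theorem f182044 : Led Lsl_gt (LP (LK LD1_c4 LD2_c1 LD3_c40)) = (LP (LK LD1_c1 LD2_c57 LD3_c48)) :=
  Lre_g IH (LK LD1_c4 LD2_c1 LD3_c40) (LK LD1_c1 LD2_c57 LD3_c48) Lrfl Lrfl
theorem f184652 : Led Lsl_ct (LP (LK LD1_c8 LD2_c3 LD3_c59)) = (LP (LK LD1_c4 LD2_c1 LD3_c40)) :=
  Lre_c IH (LK LD1_c8 LD2_c3 LD3_c59) (LK LD1_c4 LD2_c1 LD3_c40) Lrfl Lrfl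
theorem f229136 : Led Lsl_gf (LP (LK LD1_c4 LD2_c1 LD3_c60)) = (LP (LK LD1_c8 LD2_c3 LD3_c59)) :=
  Lgr Lrot144 (Lpr_dt (f229122 IH) (Lpr_gt (f34582 IH) (Lpr_dt (f34029 IH) (Lpe (K0.f33811 IH) (Lpe (K0.f33980 IH) (Lpe (K10.f184649 IH) (Lpe (f182047 IH) (Lpe (f182044 IH) (Lpe (f184652 IH) (Lpn (LP (LK LD1_c8 LD2_c3 LD3_c59))))))))))))
theorem f193630 : Led Lsl_dt (LP (LK LD1_c1 LD2_c57 LD3_c55)) = (LP (LK LD1_c0 LD2_c55 LD3_c50)) :=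
  Lre_d IH (LK LD1_c1 LD2_c57 LD3_c55) (LK LD1_c0 LD2_c55 LD3_c50) Lrfl Lrfl
theorem f165171 : Led Lsl_dt (LP (LK LD1_c0 LD2_c55 LD3_c47)) = (LP (LK LD1_c1 LD2_c57 LD3_c49)) :=
  Lre_d IH (LK LD1_c0 LD2_c55 LD3_c47) (LK LD1_c1 LD2_c57 LD3_c49) Lrfl Lrfl
theorem f184651 : Led Lsl_ct (LP (LK LD1_c4 LD2_c1 LD3_c40)) = (LP (LK LD1_c8 LD2_c3 LD3_c59)) :=
  Lre_c IH (LK LD1_c4 LD2_c1 LD3_c40) (LK LD1_c8 LD2_c3 LD3_c59) Lrfl Lrfl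
theorem f229140 : Led Lsl_gt (LP (LK LD1_c1 LD2_c57 LD3_c49)) = (LP (LK LD1_c4 LD2_c1 LD3_c40)) :=
  Lgr Lrot9 (Lpe (f165171 IH) (Lpr_gt (K10.f33353 IH) (Lpr_ct (K0.f33579 IH) (Lpr_gt (K10.f81104 IH) (Lpr_ct (K10.f193459 IH) (Lpe (f193630 IH) (Lpe (f229098 IH) (Lpr_gf (f229136 IH) (Lpe (f184651 IH) (Lpn (LP (LK LD1_c4 LD2_c1 LD3_c40))))))))))))
theorem f195695 : Led Lsl_et (LP (LK LD1_c0 LD2_c55 LD3_c47)) = (LP (LK LD1_c1 LD2_c57 LD3_c50)) :=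
  Lre_e IH (LK LD1_c0 LD2_c55 LD3_c47) (LK LD1_c1 LD2_c57 LD3_c50) Lrfl Lrfl
theorem f181092 : Led Lsl_et (LP (LK LD1_c1 LD2_c0 LD3_c45)) = (LP (LK LD1_c1 LD2_c9 LD3_c36)) :=
  Lgr Lrot87 (Lpr_ef (K9.f181087 IH) (Lpn (LP (LK LD1_c1 LD2_c9 LD3_c36))))
theorem f181101 : Led Lsl_et (LP (LK LD1_c1 LD2_c14 LD3_c1)) = (LP (LK LD1_c2 LD2_c34 LD3_c7)) :=
  Lre_e IH (LK LD1_c1 LD2_c14 LD3_c1) (LK LD1_c2 LD2_c34 LD3_c7) Lrfl Lrfl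
theorem f225334 : Led Lsl_et (LP (LK LD1_c2 LD2_c46 LD3_c17)) = (LP (LK LD1_c1 LD2_c19 LD3_c30)) :=
  Lre_e IH (LK LD1_c2 LD2_c46 LD3_c17) (LK LD1_c1 LD2_c19 LD3_c30) Lrfl Lrfl
theorem f225453 : Led Lsl_dt (LP (LK LD1_c2 LD2_c34 LD3_c7)) = (LP (LK LD1_c2 LD2_c46 LD3_c17)) :=
  Lgr Lrot77 (Lpe (f181101 IH) (Lpr_df (K9.f181094 IH) (Lpe (f181092 IH) (Lpr_df (f225425 IH) (Lpe (f225334 IH) (Lpn (LP (LK LD1_c2 LD2_c46 LD3_c17))))))))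
theorem f225462 : Led Lsl_bt (LP (LK LD1_c5 LD2_c14 LD3_c33)) = (LP (LK LD1_c2 LD2_c34 LD3_c7)) :=
  Lre_b IH (LK LD1_c5 LD2_c14 LD3_c33) (LK LD1_c2 LD2_c34 LD3_c7) Lrfl Lrfl
theorem f225463 : Led Lsl_bt (LP (LK LD1_c2 LD2_c46 LD3_c17)) = (LP (LK LD1_c5 LD2_c40 LD3_c43)) :=
  Lre_b IH (LK LD1_c2 LD2_c46 LD3_c17) (LK LD1_c5 LD2_c40 LD3_c43) Lrfl Lrfl
theorem f225464 : Led Lsl_df (LP (LK LD1_c5 LD2_c14 LD3_c33)) = (LP (LK LD1_c5 LD2_c40 LD3_c43)) :=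
  Lgr Lrot12 (Lpr_bt (f225462 IH) (Lpr_dt (f225453 IH) (Lpr_bt (f225463 IH) (Lpn (LP (LK LD1_c5 LD2_c40 LD3_c43))))))
theorem f225514 : Led Lsl_et (LP (LK LD1_c5 LD2_c14 LD3_c33)) = (LP (LK LD1_c2 LD2_c34 LD3_c6)) :=
  Lre_e IH (LK LD1_c5 LD2_c14 LD3_c33) (LK LD1_c2 LD2_c34 LD3_c6) Lrfl Lrfl
theorem f181096 : Led Lsl_bt (LP (LK LD1_c1 LD2_c14 LD3_c1)) = (LP (LK LD1_c2 LD2_c34 LD3_c6)) :=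
  Lre_b IH (LK LD1_c1 LD2_c14 LD3_c1) (LK LD1_c2 LD2_c34 LD3_c6) Lrfl Lrfl
theorem f181089 : Led Lsl_bt (LP (LK LD1_c2 LD2_c24 LD3_c47)) = (LP (LK LD1_c1 LD2_c9 LD3_c36)) :=
  Lre_b IH (LK LD1_c2 LD2_c24 LD3_c47) (LK LD1_c1 LD2_c9 LD3_c36) Lrfl Lrfl
theorem f181097 : Led Lsl_dt (LP (LK LD1_c2 LD2_c34 LD3_c6)) = (LP (LK LD1_c2 LD2_c24 LD3_c47)) :=
  Lgr Lrot79 (Lpe (f181096 IH) (Lpr_df (K9.f181094 IH) (Lpe (f181089 IH) (Lpn (LP (LK LD1_c2 LD2_c24 LD3_c47))))))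
theorem f225544 : Led Lsl_et (LP (LK LD1_c2 LD2_c46 LD3_c16)) = (LP (LK LD1_c5 LD2_c40 LD3_c43)) :=
  Lre_e IH (LK LD1_c2 LD2_c46 LD3_c16) (LK LD1_c5 LD2_c40 LD3_c43) Lrfl Lrfl
theorem f179875 : Led Lsl_bt (LP (LK LD1_c1 LD2_c0 LD3_c45)) = (LP (LK LD1_c2 LD2_c7 LD3_c25)) :=
  Lre_b IH (LK LD1_c1 LD2_c0 LD3_c45) (LK LD1_c2 LD2_c7 LD3_c25) Lrfl Lrfl
theorem f174942 : Led Lsl_bt (LP (LK LD1_c2 LD2_c46 LD3_c16)) = (LP (LK LD1_c1 LD2_c19 LD3_c30)) :=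
  Lre_b IH (LK LD1_c2 LD2_c46 LD3_c16) (LK LD1_c1 LD2_c19 LD3_c30) Lrfl Lrfl
theorem f225451 : Led Lsl_dt (LP (LK LD1_c2 LD2_c7 LD3_c25)) = (LP (LK LD1_c2 LD2_c46 LD3_c16)) :=
  Lgr Lrot79 (Lpe (f179875 IH) (Lpr_df (f225425 IH) (Lpe (f174942 IH) (Lpn (LP (LK LD1_c2 LD2_c46 LD3_c16))))))
theorem f225545 : Led Lsl_et (LP (LK LD1_c2 LD2_c24 LD3_c47)) = (LP (LK LD1_c2 LD2_c7 LD3_c25)) :=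
  Lgr Lrot71 (Lpe (f181097 IH) (Lpe (f225514 IH) (Lpr_df (f225464 IH) (Lpe (f225544 IH) (Lpe (f225451 IH) (Lpn (LP (LK LD1_c2 LD2_c7 LD3_c25))))))))
theorem f180204 : Led Lsl_ct (LP (LK LD1_c2 LD2_c7 LD3_c25)) = (LP (LK LD1_c4 LD2_c19 LD3_c19)) :=
  Lre_c IH (LK LD1_c2 LD2_c7 LD3_c25) (LK LD1_c4 LD2_c19 LD3_c19) Lrfl Lrfl
theorem f180129 : Led Lsl_bt (LP (LK LD1_c2 LD2_c7 LD3_c4)) = (LP (LK LD1_c4 LD2_c19 LD3_c19)) :=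
  Lre_b IH (LK LD1_c2 LD2_c7 LD3_c4) (LK LD1_c4 LD2_c19 LD3_c19) Lrfl Lrfl
theorem f180130 : Led Lsl_bt (LP (LK LD1_c4 LD2_c20 LD3_c4)) = (LP (LK LD1_c2 LD2_c7 LD3_c31)) :=
  Lre_b IH (LK LD1_c4 LD2_c20 LD3_c4) (LK LD1_c2 LD2_c7 LD3_c31) Lrfl Lrfl
theorem f180131 : Led Lsl_et (LP (LK LD1_c4 LD2_c19 LD3_c19)) = (LP (LK LD1_c4 LD2_c20 LD3_c4)) :=
  Lgr Lrot74 (Lpe (f180129 IH) (Lpr_ef (K11.f180127 IH) (Lpe (f180130 IH) (Lpn (LP (LK LD1_c4 LD2_c20 LD3_c4))))))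
theorem f225553 : Led Lsl_cf (LP (LK LD1_c2 LD2_c24 LD3_c47)) = (LP (LK LD1_c4 LD2_c20 LD3_c4)) :=
  Lgr Lrot39 (Lpr_et (f225545 IH) (Lpr_ct (f180204 IH) (Lpr_et (f180131 IH) (Lpn (LP (LK LD1_c4 LD2_c20 LD3_c4))))))
theorem f225556 : Led Lsl_ct (LP (LK LD1_c2 LD2_c24 LD3_c47)) = (LP (LK LD1_c4 LD2_c20 LD3_c4)) :=
  Lgr Lrot59 (Lpr_cf (f225553 IH) (Lpn (LP (LK LD1_c4 LD2_c20 LD3_c4))))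
theorem f31538 : Led Lsl_bt (LP (LK LD1_c1 LD2_c9 LD3_c36)) = (LP (LK LD1_c2 LD2_c24 LD3_c47)) :=
  Lre_b IH (LK LD1_c1 LD2_c9 LD3_c36) (LK LD1_c2 LD2_c24 LD3_c47) Lrfl Lrfl
theorem f225558 : Led Lsl_bf (LP (LK LD1_c0 LD2_c32 LD3_c4)) = (LP (LK LD1_c1 LD2_c0 LD3_c50)) :=
  Lgr Lrot90 (Lpr_ct (K9.f31446 IH) (Lpr_bt (f31538 IH) (Lpr_ct (f225556 IH) (Lpr_bt (f180130 IH) (Lpr_ct (K11.f180145 IH) (Lpn (LP (LK LD1_c1 LD2_c0 LD3_c50))))))))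
theorem f211506 : Led Lsl_ef (LP (LK LD1_c0 LD2_c56 LD3_c32)) = (LP (LK LD1_c0 LD2_c56 LD3_c25)) :=
  Lgr Lrot88 (Lpr_et (f211500 IH) (Lpn (LP (LK LD1_c0 LD2_c56 LD3_c25))))
theorem f211508 : Led Lsl_et (LP (LK LD1_c1 LD2_c27 LD3_c61)) = (LP (LK LD1_c1 LD2_c59 LD3_c16)) :=
  Lgr Lrot71 (Lpe (K10.f197805 IH) (Lpe (f181675 IH) (Lpe (f211493 IH) (Lpr_ef (f211506 IH) (Lpe (f28993 IH) (Lpn (LP (LK LD1_c1 LD2_c59 LD3_c16))))))))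
theorem f211510 : Led Lsl_bf (LP (LK LD1_c0 LD2_c58 LD3_c51)) = (LP (LK LD1_c1 LD2_c59 LD3_c16)) :=
  Lgr Lrot96 (Lpr_et (K9.f178480 IH) (Lpr_bt (K10.f197814 IH) (Lpr_et (f211508 IH) (Lpn (LP (LK LD1_c1 LD2_c59 LD3_c16))))))
theorem f186807 : Led Lsl_cf (LP (LK LD1_c0 LD2_c29 LD3_c54)) = (LP (LK LD1_c0 LD2_c57 LD3_c22)) :=
  Lgr Lrot11 (Lpr_ct (K10.f186788 IH) (Lpn (LP (LK LD1_c0 LD2_c57 LD3_c22))))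
theorem f179949 : Led Lsl_gf (LP (LK LD1_c0 LD2_c26 LD3_c7)) = (LP (LK LD1_c0 LD2_c11 LD3_c50)) :=
  Lgr Lrot134 (Lpe (K9.f59134 IH) (Lpe (K9.f59129 IH) (Lpr_gt (K9.f59116 IH) (Lpr_ef (K10.f179906 IH) (Lpe (K10.f179904 IH) (Lpr_gt (K11.f37721 IH) (Lpe (K1.f27234 IH) (Lpe (K1.f36213 IH) (Lpr_gt (K9.f53179 IH) (Lpr_dt (K9.f53183 IH) (Lpn (LP (LK LD1_c0 LD2_c11 LD3_c50)))))))))))))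
theorem f53184 : Led Lsl_ct (LP (LK LD1_c0 LD2_c26 LD3_c37)) = (LP (LK LD1_c0 LD2_c11 LD3_c50)) :=
  Lre_c IH (LK LD1_c0 LD2_c26 LD3_c37) (LK LD1_c0 LD2_c11 LD3_c50) Lrfl Lrfl
theorem f186719 : Led Lsl_gt (LP (LK LD1_c0 LD2_c26 LD3_c37)) = (LP (LK LD1_c0 LD2_c57 LD3_c22)) :=
  Lgr Lrot180 (Lpr_ct (f53184 IH) (Lpe (f179949 IH) (Lpr_dt (K9.f8259 IH) (Lpe (K9.f101517 IH) (Lpr_dt (K9.f31695 IH) (Lpr_ct (K10.f186710 IH) (Lpe (K10.f21332 IH) (Lpr_gf (K10.f185354 IH) (Lpr_df (K10.f22012 IH) (Lpn (LP (LK LD1_c0 LD2_c57 LD3_c22))))))))))))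
theorem f53185 : Led Lsl_ct (LP (LK LD1_c0 LD2_c11 LD3_c50)) = (LP (LK LD1_c0 LD2_c26 LD3_c37)) :=
  Lre_c IH (LK LD1_c0 LD2_c11 LD3_c50) (LK LD1_c0 LD2_c26 LD3_c37) Lrfl Lrfl
theorem f186818 : Led Lsl_gt (LP (LK LD1_c1 LD2_c9 LD3_c36)) = (LP (LK LD1_c1 LD2_c13 LD3_c26)) :=
  Lgr Lrot150 (Lpe (K9.f31446 IH) (Lpe (K10.f180257 IH) (Lpe (K9.f178479 IH) (Lpr_gt (K9.f53204 IH) (Lpr_ct (f53185 IH) (Lpr_gt (f186719 IH) (Lpe (f186807 IH) (Lpr_df (K10.f186811 IH) (Lpe (K10.f186813 IH) (Lpn (LP (LK LD1_c1 LD2_c13 LD3_c26))))))))))))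
theorem f9513 : Led Lsl_et (LP (LK LD1_c0 LD2_c29 LD3_c54)) = (LP (LK LD1_c0 LD2_c13 LD3_c12)) :=
  Lre_e IH (LK LD1_c0 LD2_c29 LD3_c54) (LK LD1_c0 LD2_c13 LD3_c12) Lrfl Lrfl
theorem f186816 : Led Lsl_et (LP (LK LD1_c0 LD2_c39 LD3_c2)) = (LP (LK LD1_c0 LD2_c34 LD3_c0)) :=
  Lgr Lrot71 (Lpe (K10.f9387 IH) (Lpe (K9.f21220 IH) (Lpe (K9.f9514 IH) (Lpe (f9513 IH) (Lpr_df (K10.f186811 IH) (Lpn (LP (LK LD1_c0 LD2_c34 LD3_c0))))))))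
theorem f186822 : Led Lsl_bt (LP (LK LD1_c0 LD2_c34 LD3_c0)) = (LP (LK LD1_c0 LD2_c34 LD3_c0)) :=
  Lgr Lrot119 (Lpe (f186816 IH) (Lpr_bf (K10.f175882 IH) (Lpr_ef (K10.f186820 IH) (Lpn (LP (LK LD1_c0 LD2_c34 LD3_c0))))))
theorem f186833 : Led Lsl_gf (LP (LK LD1_c0 LD2_c15 LD3_c19)) = (LP (LK LD1_c0 LD2_c34 LD3_c0)) :=
  Lgr Lrot144 (Lpr_dt (K9.f20475 IH) (Lpr_gt (K9.f20474 IH) (Lpr_dt (K0.f20452 IH) (Lpe (K8.f20462 IH) (Lpe (K9.f163633 IH) (Lpe (K10.f59574 IH) (Lpe (K10.f180635 IH) (Lpr_gf (K10.f186831 IH) (Lpe (K10.f165500 IH) (Lpn (LP (LK LD1_c0 LD2_c34 LD3_c0))))))))))))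
theorem f20480 : Led Lsl_bt (LP (LK LD1_c0 LD2_c34 LD3_c4)) = (LP (LK LD1_c0 LD2_c15 LD3_c19)) :=
  Lre_b IH (LK LD1_c0 LD2_c34 LD3_c4) (LK LD1_c0 LD2_c15 LD3_c19) Lrfl Lrfl
theorem f201869 : Led Lsl_gt (LP (LK LD1_c1 LD2_c13 LD3_c37)) = (LP (LK LD1_c2 LD2_c33 LD3_c19)) :=
  Lre_g IH (LK LD1_c1 LD2_c13 LD3_c37) (LK LD1_c2 LD2_c33 LD3_c19) Lrfl Lrfl
theorem f211516 : Led Lsl_cf (LP (LK LD1_c2 LD2_c33 LD3_c19)) = (LP (LK LD1_c1 LD2_c59 LD3_c16)) :=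
  Lgr Lrot58 (Lpe (f201869 IH) (Lpe (K11.f181106 IH) (Lpr_bt (f20480 IH) (Lpr_gf (f186833 IH) (Lpe (f186822 IH) (Lpr_ct (K10.f165500 IH) (Lpe (f186818 IH) (Lpe (K9.f31446 IH) (Lpe (K10.f180257 IH) (Lpr_bf (f211510 IH) (Lpn (LP (LK LD1_c1 LD2_c59 LD3_c16)))))))))))))
theorem f225561 : Led Lsl_gt (LP (LK LD1_c2 LD2_c33 LD3_c19)) = (LP (LK LD1_c2 LD2_c7 LD3_c31)) :=
  Lgr Lrot65 (Lpr_cf (f211516 IH) (Lpe (f211510 IH) (Lpr_gf (K10.f180533 IH) (Lpr_bf (K11.f204885 IH) (Lpr_ct (K9.f22132 IH) (Lpe (K9.f177757 IH) (Lpr_cf (K9.f177769 IH) (Lpr_gf (K9.f177771 IH) (Lpr_bf (f225558 IH) (Lpr_ct (K11.f32071 IH) (Lpn (LP (LK LD1_c2 LD2_c7 LD3_c31)))))))))))))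
theorem f211518 : Led Lsl_ct (LP (LK LD1_c2 LD2_c33 LD3_c19)) = (LP (LK LD1_c1 LD2_c59 LD3_c16)) :=
  Lgr Lrot59 (Lpr_cf (f211516 IH) (Lpn (LP (LK LD1_c1 LD2_c59 LD3_c16))))
theorem f201624 : Led Lsl_dt (LP (LK LD1_c5 LD2_c12 LD3_c61)) = (LP (LK LD1_c2 LD2_c33 LD3_c42)) :=
  Lgr Lrot42 (Lpr_df (K11.f201580 IH) (Lpn (LP (LK LD1_c2 LD2_c33 LD3_c42))))
theorem f225563 : Led Lsl_gt (LP (LK LD1_c1 LD2_c59 LD3_c16)) = (LP (LK LD1_c1 LD2_c9 LD3_c30)) :=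
  Lgr Lrot94 (Lpe (f211518 IH) (Lpr_gt (f225561 IH) (Lpr_dt (K11.f180141 IH) (Lpr_gt (K11.f201741 IH) (Lpr_dt (f201624 IH) (Lpe (K11.f201548 IH) (Lpe (K1.f28625 IH) (Lpe (K10.f31564 IH) (Lpe (K11.f31566 IH) (Lpn (LP (LK LD1_c1 LD2_c9 LD3_c30))))))))))))
theorem f211512 : Led Lsl_bt (LP (LK LD1_c0 LD2_c58 LD3_c51)) = (LP (LK LD1_c1 LD2_c59 LD3_c16)) :=
  Lgr Lrot127 (Lpr_bf (f211510 IH) (Lpn (LP (LK LD1_c1 LD2_c59 LD3_c16))))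
theorem f180535 : Led Lsl_ct (LP (LK LD1_c1 LD2_c11 LD3_c58)) = (LP (LK LD1_c2 LD2_c29 LD3_c50)) :=
  Lre_c IH (LK LD1_c1 LD2_c11 LD3_c58) (LK LD1_c2 LD2_c29 LD3_c50) Lrfl Lrfl
theorem f190262 : Led Lsl_ct (LP (LK LD1_c1 LD2_c9 LD3_c30)) = (LP (LK LD1_c2 LD2_c24 LD3_c44)) :=
  Lre_c IH (LK LD1_c1 LD2_c9 LD3_c30) (LK LD1_c2 LD2_c24 LD3_c44) Lrfl Lrfl
theorem f225636 : Led Lsl_gf (LP (LK LD1_c2 LD2_c29 LD3_c50)) = (LP (LK LD1_c2 LD2_c24 LD3_c44)) :=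
  Lgr Lrot129 (Lpe (f180535 IH) (Lpr_bt (f204897 IH) (Lpe (K9.f101517 IH) (Lpr_bf (K11.f204885 IH) (Lpr_ct (K9.f22132 IH) (Lpe (K11.f198613 IH) (Lpe (K10.f180259 IH) (Lpr_bt (f211512 IH) (Lpr_gt (f225563 IH) (Lpr_ct (f190262 IH) (Lpn (LP (LK LD1_c2 LD2_c24 LD3_c44)))))))))))))
theorem f204902 : Led Lsl_ct (LP (LK LD1_c2 LD2_c29 LD3_c50)) = (LP (LK LD1_c1 LD2_c11 LD3_c58)) :=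
  Lre_c IH (LK LD1_c2 LD2_c29 LD3_c50) (LK LD1_c1 LD2_c11 LD3_c58) Lrfl Lrfl
theorem f190228 : Led Lsl_dt (LP (LK LD1_c0 LD2_c57 LD3_c18)) = (LP (LK LD1_c2 LD2_c0 LD3_c41)) :=
  Lre_d IH (LK LD1_c0 LD2_c57 LD3_c18) (LK LD1_c2 LD2_c0 LD3_c41) Lrfl Lrfl
theorem f33354 : Led Lsl_et (LP (LK LD1_c1 LD2_c57 LD3_c50)) = (LP (LK LD1_c0 LD2_c55 LD3_c47)) :=
  Lre_e IH (LK LD1_c1 LD2_c57 LD3_c50) (LK LD1_c0 LD2_c55 LD3_c47) Lrfl Lrfl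
theorem f33355 : Led Lsl_dt (LP (LK LD1_c1 LD2_c57 LD3_c50)) = (LP (LK LD1_c4 LD2_c1 LD3_c45)) :=
  Lre_d IH (LK LD1_c1 LD2_c57 LD3_c50) (LK LD1_c4 LD2_c1 LD3_c45) Lrfl Lrfl
theorem f190232 : Led Lsl_gt (LP (LK LD1_c2 LD2_c0 LD3_c41)) = (LP (LK LD1_c4 LD2_c1 LD3_c45)) :=
  Lgr Lrot139 (Lpe (f190228 IH) (Lpr_gf (K10.f190222 IH) (Lpe (K11.f31081 IH) (Lpr_dt (K0.f33124 IH) (Lpr_gf (K0.f33342 IH) (Lpe (K0.f33346 IH) (Lpr_et (K10.f33352 IH) (Lpe (K10.f33353 IH) (Lpe (f33354 IH) (Lpr_dt (f33355 IH) (Lpn (LP (LK LD1_c4 LD2_c1 LD3_c45)))))))))))))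
theorem f190242 : Led Lsl_dt (LP (LK LD1_c4 LD2_c1 LD3_c45)) = (LP (LK LD1_c1 LD2_c57 LD3_c50)) :=
  Lre_d IH (LK LD1_c4 LD2_c1 LD3_c45) (LK LD1_c1 LD2_c57 LD3_c50) Lrfl Lrfl
theorem f166122 : Led Lsl_gt (LP (LK LD1_c1 LD2_c16 LD3_c28)) = (LP (LK LD1_c0 LD2_c35 LD3_c23)) :=
  Lre_g IH (LK LD1_c1 LD2_c16 LD3_c28) (LK LD1_c0 LD2_c35 LD3_c23) Lrfl Lrfl
theorem f195594 : Led Lsl_ct (LP (LK LD1_c1 LD2_c16 LD3_c28)) = (LP (LK LD1_c2 LD2_c39 LD3_c22)) :=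
  Lre_c IH (LK LD1_c1 LD2_c16 LD3_c28) (LK LD1_c2 LD2_c39 LD3_c22) Lrfl Lrfl
theorem f168214 : Led Lsl_dt (LP (LK LD1_c0 LD2_c35 LD3_c30)) = (LP (LK LD1_c1 LD2_c16 LD3_c44)) :=
  Lre_d IH (LK LD1_c0 LD2_c35 LD3_c30) (LK LD1_c1 LD2_c16 LD3_c44) Lrfl Lrfl
theorem f21293 : Led Lsl_ct (LP (LK LD1_c2 LD2_c0 LD3_c43)) = (LP (LK LD1_c0 LD2_c57 LD3_c19)) :=
  Lre_c IH (LK LD1_c2 LD2_c0 LD3_c43) (LK LD1_c0 LD2_c57 LD3_c19) Lrfl Lrfl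
theorem f187522 : Led Lsl_dt (LP (LK LD1_c2 LD2_c40 LD3_c1)) = (LP (LK LD1_c2 LD2_c0 LD3_c43)) :=
  Lgr Lrot105 (Lpe (K10.f175314 IH) (Lpe (f168214 IH) (Lpe (K10.f168215 IH) (Lpr_cf (K10.f187513 IH) (Lpe (K9.f178181 IH) (Lpr_dt (K1.f8118 IH) (Lpr_gt (K8.f8127 IH) (Lpr_dt (K8.f8128 IH) (Lpe (f21293 IH) (Lpn (LP (LK LD1_c2 LD2_c0 LD3_c43))))))))))))
theorem f187555 : Led Lsl_df (LP (LK LD1_c2 LD2_c40 LD3_c1)) = (LP (LK LD1_c2 LD2_c0 LD3_c43)) :=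
  Lgr Lrot38 (Lpr_dt (f187522 IH) (Lpn (LP (LK LD1_c2 LD2_c0 LD3_c43))))
theorem f195595 : Led Lsl_gt (LP (LK LD1_c2 LD2_c39 LD3_c22)) = (LP (LK LD1_c2 LD2_c0 LD3_c43)) :=
  Lgr Lrot94 (Lpe (f195594 IH) (Lpr_gt (f166122 IH) (Lpr_dt (K9.f166130 IH) (Lpr_gt (K10.f183207 IH) (Lpr_dt (K10.f8526 IH) (Lpe (K0.f8448 IH) (Lpe (K0.f8447 IH) (Lpr_gf (K10.f195583 IH) (Lpr_df (f187555 IH) (Lpn (LP (LK LD1_c2 LD2_c0 LD3_c43))))))))))))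
theorem f195601 : Led Lsl_gf (LP (LK LD1_c1 LD2_c16 LD3_c28)) = (LP (LK LD1_c0 LD2_c35 LD3_c26)) :=
  Lgr Lrot147 (Lpr_ct (f195594 IH) (Lpr_gt (f195595 IH) (Lpr_ct (f21293 IH) (Lpe (K8.f8128 IH) (Lpe (K10.f183874 IH) (Lpe (K0.f8384 IH) (Lpr_cf (K0.f8433 IH) (Lpe (K9.f8472 IH) (Lpe (K9.f8473 IH) (Lpn (LP (LK LD1_c0 LD2_c35 LD3_c26))))))))))))
theorem f195604 : Led Lsl_bt (LP (LK LD1_c1 LD2_c16 LD3_c31)) = (LP (LK LD1_c0 LD2_c35 LD3_c26)) :=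
  Lre_b IH (LK LD1_c1 LD2_c16 LD3_c31) (LK LD1_c0 LD2_c35 LD3_c26) Lrfl Lrfl
theorem f191147 : Led Lsl_ct (LP (LK LD1_c1 LD2_c16 LD3_c31)) = (LP (LK LD1_c2 LD2_c39 LD3_c31)) :=
  Lre_c IH (LK LD1_c1 LD2_c16 LD3_c31) (LK LD1_c2 LD2_c39 LD3_c31) Lrfl Lrfl
theorem f192579 : Led Lsl_gt (LP (LK LD1_c5 LD2_c26 LD3_c8)) = (LP (LK LD1_c2 LD2_c39 LD3_c31)) :=
  Lre_g IH (LK LD1_c5 LD2_c26 LD3_c8) (LK LD1_c2 LD2_c39 LD3_c31) Lrfl Lrfl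
theorem f185688 : Led Lsl_dt (LP (LK LD1_c0 LD2_c35 LD3_c25)) = (LP (LK LD1_c1 LD2_c16 LD3_c31)) :=
  Lre_d IH (LK LD1_c0 LD2_c35 LD3_c25) (LK LD1_c1 LD2_c16 LD3_c31) Lrfl Lrfl
theorem f191149 : Led Lsl_ct (LP (LK LD1_c2 LD2_c39 LD3_c31)) = (LP (LK LD1_c1 LD2_c16 LD3_c31)) :=
  Lre_c IH (LK LD1_c2 LD2_c39 LD3_c31) (LK LD1_c1 LD2_c16 LD3_c31) Lrfl Lrfl
theorem f165866 : Led Lsl_dt (LP (LK LD1_c5 LD2_c0 LD3_c57)) = (LP (LK LD1_c2 LD2_c28 LD3_c12)) :=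
  Lre_d IH (LK LD1_c5 LD2_c0 LD3_c57) (LK LD1_c2 LD2_c28 LD3_c12) Lrfl Lrfl
theorem f192580 : Led Lsl_cf (LP (LK LD1_c5 LD2_c26 LD3_c8)) = (LP (LK LD1_c6 LD2_c5 LD3_c44)) :=
  Lgr Lrot169 (Lpr_gt (f192579 IH) (Lpr_ct (f191149 IH) (Lpe (f185688 IH) (Lpr_cf (K10.f192572 IH) (Lpe (K10.f32109 IH) (Lpe (K9.f32108 IH) (Lpr_gf (K9.f165857 IH) (Lpe (f165866 IH) (Lpe (K9.f183697 IH) (Lpn (LP (LK LD1_c6 LD2_c5 LD3_c44))))))))))))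
theorem f21290 : Led Lsl_ct (LP (LK LD1_c0 LD2_c57 LD3_c19)) = (LP (LK LD1_c2 LD2_c0 LD3_c43)) :=
  Lre_c IH (LK LD1_c0 LD2_c57 LD3_c19) (LK LD1_c2 LD2_c0 LD3_c43) Lrfl Lrfl
theorem f187558 : Led Lsl_bt (LP (LK LD1_c0 LD2_c57 LD3_c19)) = (LP (LK LD1_c2 LD2_c0 LD3_c41)) :=
  Lre_b IH (LK LD1_c0 LD2_c57 LD3_c19) (LK LD1_c2 LD2_c0 LD3_c41) Lrfl Lrfl
theorem f195605 : Led Lsl_bt (LP (LK LD1_c6 LD2_c5 LD3_c44)) = (LP (LK LD1_c4 LD2_c1 LD3_c45)) :=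
  Lgr Lrot92 (Lpe (f192580 IH) (Lpr_gt (f192579 IH) (Lpe (f191147 IH) (Lpr_bt (f195604 IH) (Lpe (f195601 IH) (Lpr_ct (f195594 IH) (Lpr_gt (f195595 IH) (Lpe (f21290 IH) (Lpr_bt (f187558 IH) (Lpr_gt (f190232 IH) (Lpn (LP (LK LD1_c4 LD2_c1 LD3_c45)))))))))))))
theorem f195609 : Led Lsl_bf (LP (LK LD1_c2 LD2_c58 LD3_c60)) = (LP (LK LD1_c1 LD2_c57 LD3_c50)) :=
  Lgr Lrot93 (Lpr_dt (K9.f169566 IH) (Lpr_bt (f195605 IH) (Lpr_dt (f190242 IH) (Lpn (LP (LK LD1_c1 LD2_c57 LD3_c50))))))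
theorem f169537 : Led Lsl_ct (LP (LK LD1_c2 LD2_c58 LD3_c60)) = (LP (LK LD1_c1 LD2_c25 LD3_c14)) :=
  Lre_c IH (LK LD1_c2 LD2_c58 LD3_c60) (LK LD1_c1 LD2_c25 LD3_c14) Lrfl Lrfl
theorem f80939 : Led Lsl_et (LP (LK LD1_c0 LD2_c25 LD3_c40)) = (LP (LK LD1_c0 LD2_c56 LD3_c38)) :=
  Lre_e IH (LK LD1_c0 LD2_c25 LD3_c40) (LK LD1_c0 LD2_c56 LD3_c38) Lrfl Lrfl
theorem f181427 : Led Lsl_bf (LP (LK LD1_c0 LD2_c26 LD3_c7)) = (LP (LK LD1_c0 LD2_c56 LD3_c38)) :=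
  Lgr Lrot96 (Lpr_et (K9.f8258 IH) (Lpr_bt (K9.f181422 IH) (Lpr_et (f80939 IH) (Lpn (LP (LK LD1_c0 LD2_c56 LD3_c38))))))
theorem f181705 : Led Lsl_bt (LP (LK LD1_c0 LD2_c26 LD3_c7)) = (LP (LK LD1_c0 LD2_c56 LD3_c38)) :=
  Lgr Lrot127 (Lpr_bf (f181427 IH) (Lpn (LP (LK LD1_c0 LD2_c56 LD3_c38))))
theorem f195693 : Led Lsl_ct (LP (LK LD1_c0 LD2_c56 LD3_c38)) = (LP (LK LD1_c1 LD2_c57 LD3_c50)) :=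
  Lgr Lrot83 (Lpe (f181705 IH) (Lpr_cf (K9.f177776 IH) (Lpe (K9.f169445 IH) (Lpe (f169537 IH) (Lpr_bf (f195609 IH) (Lpn (LP (LK LD1_c1 LD2_c57 LD3_c50))))))))
theorem f201313 : Led Lsl_dt (LP (LK LD1_c1 LD2_c11 LD3_c58)) = (LP (LK LD1_c0 LD2_c56 LD3_c38)) :=
  Lgr Lrot105 (Lpe (f164980 IH) (Lpe (K11.f31646 IH) (Lpr_gf (K11.f201311 IH) (Lpe (K10.f27887 IH) (Lpe (K10.f190222 IH) (Lpr_dt (f190228 IH) (Lpr_gt (f190232 IH) (Lpr_dt (f190242 IH) (Lpe (f195693 IH) (Lpn (LP (LK LD1_c0 LD2_c56 LD3_c38))))))))))))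
theorem f195696 : Led Lsl_cf (LP (LK LD1_c0 LD2_c56 LD3_c38)) = (LP (LK LD1_c1 LD2_c57 LD3_c50)) :=
  Lgr Lrot11 (Lpr_ct (f195693 IH) (Lpn (LP (LK LD1_c1 LD2_c57 LD3_c50))))
theorem f225638 : Led Lsl_gf (LP (LK LD1_c1 LD2_c57 LD3_c50)) = (LP (LK LD1_c0 LD2_c56 LD3_c21)) :=
  Lgr Lrot104 (Lpe (f195696 IH) (Lpe (f201313 IH) (Lpe (f204902 IH) (Lpr_gf (f225636 IH) (Lpe (f190262 IH) (Lpe (f225563 IH) (Lpe (f28992 IH) (Lpr_gt (f28785 IH) (Lpr_ct (K10.f28994 IH) (Lpn (LP (LK LD1_c0 LD2_c56 LD3_c21))))))))))))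
theorem f182376 : Led Lsl_et (LP (LK LD1_c2 LD2_c26 LD3_c7)) = (LP (LK LD1_c1 LD2_c57 LD3_c25)) :=
  Lgr Lrot158 (Lpe (K11.f182369 IH) (Lpr_ef (K11.f182373 IH) (Lpe (f182375 IH) (Lpn (LP (LK LD1_c1 LD2_c57 LD3_c25))))))
theorem f229234 : Led Lsl_dt (LP (LK LD1_c2 LD2_c26 LD3_c7)) = (LP (LK LD1_c4 LD2_c1 LD3_c40)) :=
  Lgr Lrot37 (Lpr_et (f182376 IH) (Lpr_gt (f226883 IH) (Lpe (f226885 IH) (Lpr_gt (f200699 IH) (Lpe (f200691 IH) (Lpr_et (K11.f200688 IH) (Lpe (f225638 IH) (Lpe (f195695 IH) (Lpr_dt (f165171 IH) (Lpr_gt (f229140 IH) (Lpn (LP (LK LD1_c4 LD2_c1 LD3_c40)))))))))))))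
theorem f165224 : Led Lsl_gt (LP (LK LD1_c1 LD2_c19 LD3_c10)) = (LP (LK LD1_c0 LD2_c36 LD3_c33)) :=
  Lre_g IH (LK LD1_c1 LD2_c19 LD3_c10) (LK LD1_c0 LD2_c36 LD3_c33) Lrfl Lrfl
theorem f229240 : Led Lsl_ef (LP (LK LD1_c1 LD2_c19 LD3_c10)) = (LP (LK LD1_c0 LD2_c55 LD3_c46)) :=
  Lgr Lrot167 (Lpr_gt (f165224 IH) (Lpr_dt (K11.f194684 IH) (Lpr_gt (f216419 IH) (Lpe (f168350 IH) (Lpr_et (f168339 IH) (Lpe (f216413 IH) (Lpe (f182376 IH) (Lpr_dt (f229234 IH) (Lpr_gt (f182044 IH) (Lpe (K10.f33561 IH) (Lpn (LP (LK LD1_c0 LD2_c55 LD3_c46)))))))))))))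
theorem f229247 : Led Lsl_et (LP (LK LD1_c1 LD2_c19 LD3_c10)) = (LP (LK LD1_c0 LD2_c55 LD3_c46)) :=
  Lgr Lrot87 (Lpr_ef (f229240 IH) (Lpn (LP (LK LD1_c0 LD2_c55 LD3_c46))))
theorem f229253 : Led Lsl_dt (LP (LK LD1_c1 LD2_c19 LD3_c10)) = (LP (LK LD1_c1 LD2_c9 LD3_c19)) :=
  Lgr Lrot136 (Lpr_et (f229247 IH) (Lpe (K10.f33560 IH) (Lpe (K10.f33352 IH) (Lpr_dt (K0.f33346 IH) (Lpe (K1.f33344 IH) (Lpe (K0.f33277 IH) (Lpe (K0.f29150 IH) (Lpe (K0.f2427 IH) (Lpr_dt (K1.f2791 IH) (Lpe (f2451 IH) (Lpn (LP (LK LD1_c1 LD2_c9 LD3_c19)))))))))))))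
theorem f196960 : Led Lsl_cf (LP (LK LD1_c0 LD2_c55 LD3_c35)) = (LP (LK LD1_c0 LD2_c36 LD3_c33)) :=
  Lgr Lrot14 (Lpe (K11.f196958 IH) (Lpe (K11.f172558 IH) (Lpe (K11.f182327 IH) (Lpr_gf (K9.f182322 IH) (Lpr_ct (K1.f28939 IH) (Lpr_gt (K10.f196316 IH) (Lpr_dt (K11.f196319 IH) (Lpr_gt (K11.f196952 IH) (Lpr_dt (K11.f196957 IH) (Lpn (LP (LK LD1_c0 LD2_c36 LD3_c33))))))))))))
theorem f227946 : Led Lsl_ct (LP (LK LD1_c1 LD2_c56 LD3_c44)) = (LP (LK LD1_c2 LD2_c7 LD3_c1)) :=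
  Lgr Lrot59 (Lpr_cf (f227940 IH) (Lpn (LP (LK LD1_c2 LD2_c7 LD3_c1))))
theorem f2500 : Led Lsl_gt (LP (LK LD1_c1 LD2_c9 LD3_c20)) = (LP (LK LD1_c2 LD2_c24 LD3_c21)) :=
  Lre_g IH (LK LD1_c1 LD2_c9 LD3_c20) (LK LD1_c2 LD2_c24 LD3_c21) Lrfl Lrfl
theorem f229262 : Led Lsl_cf (LP (LK LD1_c1 LD2_c55 LD3_c17)) = (LP (LK LD1_c2 LD2_c24 LD3_c21)) :=
  Lgr Lrot175 (Lpr_dt (f227950 IH) (Lpe (f227946 IH) (Lpe (f200397 IH) (Lpr_cf (f196960 IH) (Lpe (f165224 IH) (Lpr_dt (f229253 IH) (Lpr_gt (f2451 IH) (Lpr_ct (K1.f2441 IH) (Lpr_gt (f2500 IH) (Lpn (LP (LK LD1_c2 LD2_c24 LD3_c21))))))))))))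
theorem f38988 : Led Lsl_ct (LP (LK LD1_c1 LD2_c1 LD3_c25)) = (LP (LK LD1_c2 LD2_c8 LD3_c33)) :=
  Lre_c IH (LK LD1_c1 LD2_c1 LD3_c25) (LK LD1_c2 LD2_c8 LD3_c33) Lrfl Lrfl
theorem f39257 : Led Lsl_ct (LP (LK LD1_c3 LD2_c57 LD3_c34)) = (LP (LK LD1_c1 LD2_c55 LD3_c32)) :=
  Lre_c IH (LK LD1_c3 LD2_c57 LD3_c34) (LK LD1_c1 LD2_c55 LD3_c32) Lrfl Lrfl
theorem f39259 : Led Lsl_df (LP (LK LD1_c3 LD2_c57 LD3_c34)) = (LP (LK LD1_c2 LD2_c8 LD3_c33)) :=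
  Lgr Lrot43 (Lpr_ct (f39257 IH) (Lpr_dt (K11.f39256 IH) (Lpr_ct (K11.f39255 IH) (Lpr_dt (K1.f35597 IH) (Lpr_ct (K1.f39246 IH) (Lpr_dt (K1.f31135 IH) (Lpr_ct (K1.f39027 IH) (Lpr_dt (K1.f39181 IH) (Lpr_ct (K1.f39248 IH) (Lpr_dt (K1.f39199 IH) (Lpr_ct (K1.f39247 IH) (Lpr_dt (K10.f39238 IH) (Lpr_ct (f39258 IH) (Lpr_dt (f39161 IH) (Lpr_ct (f38988 IH) (Lpn (LP (LK LD1_c2 LD2_c8 LD3_c33))))))))))))))))))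
theorem f2527 : Led Lsl_gt (LP (LK LD1_c2 LD2_c24 LD3_c24)) = (LP (LK LD1_c4 LD2_c53 LD3_c13)) :=
  Lre_g IH (LK LD1_c2 LD2_c24 LD3_c24) (LK LD1_c4 LD2_c53 LD3_c13) Lrfl Lrfl
theorem f229274 : Led Lsl_cf (LP (LK LD1_c3 LD2_c57 LD3_c33)) = (LP (LK LD1_c4 LD2_c53 LD3_c13)) :=
  Lgr Lrot169 (Lpr_gt (K11.f35667 IH) (Lpr_ct (K1.f38951 IH) (Lpr_df (f39259 IH) (Lpe (f38988 IH) (Lpe (f227969 IH) (Lpr_cf (f229262 IH) (Lpe (f2500 IH) (Lpe (K1.f2756 IH) (Lpr_gt (f2527 IH) (Lpn (LP (LK LD1_c4 LD2_c53 LD3_c13))))))))))))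
theorem f173289 : Led Lsl_dt (LP (LK LD1_c1 LD2_c1 LD3_c30)) = (LP (LK LD1_c2 LD2_c8 LD3_c43)) :=
  Lre_d IH (LK LD1_c1 LD2_c1 LD3_c30) (LK LD1_c2 LD2_c8 LD3_c43) Lrfl Lrfl
theorem f229287 : Led Lsl_gt (LP (LK LD1_c2 LD2_c8 LD3_c43)) = (LP (LK LD1_c4 LD2_c0 LD3_c32)) :=
  Lgr Lrot9 (Lpe (f173289 IH) (Lpr_gt (f225024 IH) (Lpr_ct (f53106 IH) (Lpe (f224990 IH) (Lpr_ct (K11.f53320 IH) (Lpe (f193485 IH) (Lpr_cf (f229274 IH) (Lpe (f2527 IH) (Lpr_cf (K1.f29704 IH) (Lpn (LP (LK LD1_c4 LD2_c0 LD3_c32))))))))))))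
theorem f29355 : Led Lsl_dt (LP (LK LD1_c4 LD2_c0 LD3_c32)) = (LP (LK LD1_c1 LD2_c57 LD3_c0)) :=
  Lre_d IH (LK LD1_c4 LD2_c0 LD3_c32) (LK LD1_c1 LD2_c57 LD3_c0) Lrfl Lrfl
theorem f29580 : Led Lsl_at (LP (LK LD1_c4 LD2_c0 LD3_c5)) = (LP (LK LD1_c4 LD2_c0 LD3_c32)) :=
  Lgr Lrot51 (Lpe (f6951 IH) (Lpr_af (K1.f29577 IH) (Lpe (f29355 IH) (Lpn (LP (LK LD1_c4 LD2_c0 LD3_c32))))))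
theorem f6956 : Led Lsl_ft (LP (LK LD1_c1 LD2_c56 LD3_c47)) = (LP (LK LD1_c4 LD2_c0 LD3_c5)) :=
  Lre_f IH (LK LD1_c1 LD2_c56 LD3_c47) (LK LD1_c4 LD2_c0 LD3_c5) Lrfl Lrfl
theorem f229289 : Led Lsl_gf (LP (LK LD1_c2 LD2_c8 LD3_c43)) = (LP (LK LD1_c1 LD2_c56 LD3_c47)) :=
  Lgr Lrot47 (Lpr_gt (f229287 IH) (Lpe (f29580 IH) (Lpe (f6956 IH) (Lpn (LP (LK LD1_c1 LD2_c56 LD3_c47))))))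
theorem f229297 : Led Lsl_et (LP (LK LD1_c1 LD2_c1 LD3_c30)) = (LP (LK LD1_c2 LD2_c8 LD3_c44)) :=
  Lre_e IH (LK LD1_c1 LD2_c1 LD3_c30) (LK LD1_c2 LD2_c8 LD3_c44) Lrfl Lrfl
theorem f173314 : Led Lsl_gt (LP (LK LD1_c2 LD2_c8 LD3_c44)) = (LP (LK LD1_c4 LD2_c22 LD3_c35)) :=
  Lre_g IH (LK LD1_c2 LD2_c8 LD3_c44) (LK LD1_c4 LD2_c22 LD3_c35) Lrfl Lrfl
theorem f35461 : Led Lsl_dt (LP (LK LD1_c1 LD2_c2 LD3_c2)) = (LP (LK LD1_c2 LD2_c9 LD3_c57)) :=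
  Lre_d IH (LK LD1_c1 LD2_c2 LD3_c2) (LK LD1_c2 LD2_c9 LD3_c57) Lrfl Lrfl
theorem f229322 : Led Lsl_dt (LP (LK LD1_c4 LD2_c22 LD3_c35)) = (LP (LK LD1_c4 LD2_c25 LD3_c0)) :=
  Lgr Lrot171 (Lpe (f173314 IH) (Lpe (f229297 IH) (Lpr_dt (f173289 IH) (Lpr_gf (f229289 IH) (Lpe (K1.f6922 IH) (Lpr_et (f30803 IH) (Lpr_gf (K1.f35818 IH) (Lpe (K1.f35811 IH) (Lpr_dt (f35461 IH) (Lpe (f35471 IH) (Lpn (LP (LK LD1_c4 LD2_c25 LD3_c0)))))))))))))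
theorem f229328 : Led Lsl_df (LP (LK LD1_c4 LD2_c22 LD3_c35)) = (LP (LK LD1_c4 LD2_c25 LD3_c0)) :=
  Lgr Lrot38 (Lpr_dt (f229322 IH) (Lpn (LP (LK LD1_c4 LD2_c25 LD3_c0))))
theorem f37572 : Led Lsl_gt (LP (LK LD1_c4 LD2_c58 LD3_c10)) = (LP (LK LD1_c4 LD2_c25 LD3_c0)) :=
  Lgr Lrot5 (Lpr_ft (K1.f37539 IH) (Lpr_at (K1.f37554 IH) (Lpe (f35471 IH) (Lpn (LP (LK LD1_c4 LD2_c25 LD3_c0))))))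
theorem f229346 : Led Lsl_cf (LP (LK LD1_c4 LD2_c22 LD3_c35)) = (LP (LK LD1_c3 LD2_c1 LD3_c0)) :=
  Lgr Lrot14 (Lpr_df (f229328 IH) (Lpe (f37572 IH) (Lpe (K1.f37495 IH) (Lpr_gf (f227471 IH) (Lpe (f227468 IH) (Lpe (f227477 IH) (Lpr_dt (K1.f35625 IH) (Lpr_gt (K11.f35651 IH) (Lpr_dt (K11.f34719 IH) (Lpn (LP (LK LD1_c3 LD2_c1 LD3_c0))))))))))))
theorem f3044 : Led Lsl_et (LP (LK LD1_c0 LD2_c24 LD3_c59)) = (LP (LK LD1_c0 LD2_c11 LD3_c7)) :=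
  Lre_e IH (LK LD1_c0 LD2_c24 LD3_c59) (LK LD1_c0 LD2_c11 LD3_c7) Lrfl Lrfl
theorem f30822 : Led Lsl_et (LP (LK LD1_c0 LD2_c55 LD3_c7)) = (LP (LK LD1_c1 LD2_c56 LD3_c42)) :=
  Lre_e IH (LK LD1_c0 LD2_c55 LD3_c7) (LK LD1_c1 LD2_c56 LD3_c42) Lrfl Lrfl
theorem f27230 : Led Lsl_dt (LP (LK LD1_c0 LD2_c39 LD3_c54)) = (LP (LK LD1_c0 LD2_c39 LD3_c54)) :=
  Lgr Lrot79 (Lpe (K1.f27228 IH) (Lpr_df (K1.f27205 IH) (Lpe (K10.f27229 IH) (Lpn (LP (LK LD1_c0 LD2_c39 LD3_c54))))))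
theorem f27268 : Led Lsl_dt (LP (LK LD1_c3 LD2_c1 LD3_c0)) = (LP (LK LD1_c1 LD2_c26 LD3_c20)) :=
  Lre_d IH (LK LD1_c3 LD2_c1 LD3_c0) (LK LD1_c1 LD2_c26 LD3_c20) Lrfl Lrfl
theorem f34714 : Led Lsl_gt (LP (LK LD1_c1 LD2_c56 LD3_c42)) = (LP (LK LD1_c3 LD2_c1 LD3_c0)) :=
  Lgr Lrot137 (Lpe (f30822 IH) (Lpr_dt (K11.f30818 IH) (Lpe (K10.f2983 IH) (Lpe (K1.f2989 IH) (Lpr_et (f3044 IH) (Lpr_gf (K0.f34705 IH) (Lpe (K1.f27265 IH) (Lpr_dt (f27230 IH) (Lpe (K11.f27267 IH) (Lpe (f27268 IH) (Lpn (LP (LK LD1_c3 LD2_c1 LD3_c0)))))))))))))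
theorem f34717 : Led Lsl_ct (LP (LK LD1_c3 LD2_c59 LD3_c60)) = (LP (LK LD1_c1 LD2_c56 LD3_c42)) :=
  Lre_c IH (LK LD1_c3 LD2_c59 LD3_c60) (LK LD1_c1 LD2_c56 LD3_c42) Lrfl Lrfl
theorem f211063 : Led Lsl_ct (LP (LK LD1_c1 LD2_c4 LD3_c26)) = (LP (LK LD1_c0 LD2_c32 LD3_c48)) :=
  Lgr Lrot59 (Lpr_cf (f211058 IH) (Lpn (LP (LK LD1_c0 LD2_c32 LD3_c48))))
theorem f211711 : Led Lsl_ct (LP (LK LD1_c1 LD2_c26 LD3_c22)) = (LP (LK LD1_c1 LD2_c18 LD3_c52)) :=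
  Lgr Lrot8 (Lpe (K10.f56042 IH) (Lpr_dt (K10.f53316 IH) (Lpr_gt (K11.f183223 IH) (Lpe (K10.f179904 IH) (Lpe (f211063 IH) (Lpe (f26638 IH) (Lpr_gf (f211709 IH) (Lpe (K9.f164999 IH) (Lpe (f171850 IH) (Lpn (LP (LK LD1_c1 LD2_c18 LD3_c52))))))))))))
theorem f9522 : Led Lsl_gt (LP (LK LD1_c0 LD2_c16 LD3_c10)) = (LP (LK LD1_c0 LD2_c36 LD3_c21)) :=
  Lre_g IH (LK LD1_c0 LD2_c16 LD3_c10) (LK LD1_c0 LD2_c36 LD3_c21) Lrfl Lrfl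
theorem f227552 : Led Lsl_gf (LP (LK LD1_c1 LD2_c25 LD3_c49)) = (LP (LK LD1_c1 LD2_c18 LD3_c56)) :=
  Lgr Lrot129 (Lpr_cf (K11.f193820 IH) (Lpe (f193380 IH) (Lpr_gt (f227538 IH) (Lpr_bf (f198071 IH) (Lpr_ct (f211711 IH) (Lpr_gt (f171850 IH) (Lpe (K9.f24250 IH) (Lpe (K9.f177836 IH) (Lpr_gt (f9522 IH) (Lpr_ct (f24552 IH) (Lpn (LP (LK LD1_c1 LD2_c18 LD3_c56)))))))))))))
theorem f211146 : Led Lsl_bf (LP (LK LD1_c1 LD2_c55 LD3_c25)) = (LP (LK LD1_c1 LD2_c56 LD3_c42)) :=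
  Lgr Lrot96 (Lpr_et (K10.f28532 IH) (Lpr_bt (K11.f211133 IH) (Lpr_et (f30822 IH) (Lpn (LP (LK LD1_c1 LD2_c56 LD3_c42))))))
theorem f34716 : Led Lsl_ct (LP (LK LD1_c1 LD2_c56 LD3_c42)) = (LP (LK LD1_c3 LD2_c59 LD3_c60)) :=
  Lre_c IH (LK LD1_c1 LD2_c56 LD3_c42) (LK LD1_c3 LD2_c59 LD3_c60) Lrfl Lrfl
theorem f227561 : Led Lsl_gt (LP (LK LD1_c4 LD2_c58 LD3_c12)) = (LP (LK LD1_c3 LD2_c59 LD3_c60)) :=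
  Lgr Lrot149 (Lpe (K10.f56077 IH) (Lpe (f227538 IH) (Lpr_bf (f193380 IH) (Lpe (K11.f193820 IH) (Lpr_gf (f227552 IH) (Lpe (f24552 IH) (Lpr_bt (K10.f24549 IH) (Lpe (K11.f198270 IH) (Lpr_bf (f211146 IH) (Lpr_ct (f34716 IH) (Lpn (LP (LK LD1_c3 LD2_c59 LD3_c60)))))))))))))
theorem f229348 : Led Lsl_gt (LP (LK LD1_c6 LD2_c9 LD3_c15)) = (LP (LK LD1_c4 LD2_c25 LD3_c37)) :=
  Lgr Lrot9 (Lpr_df (K10.f198076 IH) (Lpr_gt (f227561 IH) (Lpr_ct (f34717 IH) (Lpr_gt (f34714 IH) (Lpe (f229346 IH) (Lpr_df (f229328 IH) (Lpe (f37557 IH) (Lpe (f227520 IH) (Lpe (K11.f38407 IH) (Lpn (LP (LK LD1_c4 LD2_c25 LD3_c37))))))))))))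
theorem f182416 : Led Lsl_bf (LP (LK LD1_c0 LD2_c57 LD3_c5)) = (LP (LK LD1_c1 LD2_c57 LD3_c41)) :=
  Lgr Lrot93 (Lpr_dt (K10.f179892 IH) (Lpr_bt (f179894 IH) (Lpr_dt (K11.f182391 IH) (Lpn (LP (LK LD1_c1 LD2_c57 LD3_c41))))))
theorem f182411 : Led Lsl_ct (LP (LK LD1_c1 LD2_c57 LD3_c41)) = (LP (LK LD1_c4 LD2_c1 LD3_c27)) :=
  Lre_c IH (LK LD1_c1 LD2_c57 LD3_c41) (LK LD1_c4 LD2_c1 LD3_c27) Lrfl Lrfl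
theorem f198329 : Led Lsl_gf (LP (LK LD1_c4 LD2_c58 LD3_c12)) = (LP (LK LD1_c4 LD2_c1 LD3_c27)) :=
  Lgr Lrot126 (Lpe (K10.f56077 IH) (Lpr_bt (f198069 IH) (Lpe (K10.f56042 IH) (Lpr_ct (K10.f56044 IH) (Lpr_gt (K10.f175513 IH) (Lpe (K10.f20726 IH) (Lpr_bt (K10.f198327 IH) (Lpr_gt (K10.f180269 IH) (Lpr_bf (f182416 IH) (Lpr_ct (f182411 IH) (Lpn (LP (LK LD1_c4 LD2_c1 LD3_c27)))))))))))))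
theorem f229360 : Led Lsl_et (LP (LK LD1_c1 LD2_c57 LD3_c40)) = (LP (LK LD1_c4 LD2_c1 LD3_c27)) :=
  Lre_e IH (LK LD1_c1 LD2_c57 LD3_c40) (LK LD1_c4 LD2_c1 LD3_c27) Lrfl Lrfl
theorem f182359 : Led Lsl_dt (LP (LK LD1_c1 LD2_c57 LD3_c40)) = (LP (LK LD1_c4 LD2_c1 LD3_c26)) :=
  Lre_d IH (LK LD1_c1 LD2_c57 LD3_c40) (LK LD1_c4 LD2_c1 LD3_c26) Lrfl Lrfl
theorem f201550 : Led Lsl_et (LP (LK LD1_c2 LD2_c10 LD3_c9)) = (LP (LK LD1_c2 LD2_c33 LD3_c42)) :=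
  Lgr Lrot69 (Lpe (K1.f38395 IH) (Lpe (K1.f37997 IH) (Lpr_ff (K1.f38565 IH) (Lpe (K11.f37036 IH) (Lpr_ff (K11.f201433 IH) (Lpn (LP (LK LD1_c2 LD2_c33 LD3_c42))))))))
theorem f201442 : Led Lsl_et (LP (LK LD1_c2 LD2_c33 LD3_c45)) = (LP (LK LD1_c1 LD2_c13 LD3_c50)) :=
  Lre_e IH (LK LD1_c2 LD2_c33 LD3_c45) (LK LD1_c1 LD2_c13 LD3_c50) Lrfl Lrfl
theorem f201443 : Led Lsl_dt (LP (LK LD1_c2 LD2_c33 LD3_c45)) = (LP (LK LD1_c5 LD2_c13 LD3_c44)) :=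
  Lre_d IH (LK LD1_c2 LD2_c33 LD3_c45) (LK LD1_c5 LD2_c13 LD3_c44) Lrfl Lrfl
theorem f229361 : Led Lsl_gf (LP (LK LD1_c4 LD2_c1 LD3_c26)) = (LP (LK LD1_c5 LD2_c13 LD3_c44)) :=
  Lgr Lrot145 (Lpe (f182359 IH) (Lpr_et (f229360 IH) (Lpe (f198329 IH) (Lpe (K10.f198076 IH) (Lpr_gt (f229348 IH) (Lpe (K10.f38348 IH) (Lpr_et (f201550 IH) (Lpr_gt (K11.f171694 IH) (Lpe (f201442 IH) (Lpr_dt (f201443 IH) (Lpn (LP (LK LD1_c5 LD2_c13 LD3_c44)))))))))))))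
theorem f56074 : Led Lsl_ct (LP (LK LD1_c4 LD2_c58 LD3_c12)) = (LP (LK LD1_c2 LD2_c26 LD3_c57)) :=
  Lre_c IH (LK LD1_c4 LD2_c58 LD3_c12) (LK LD1_c2 LD2_c26 LD3_c57) Lrfl Lrfl
theorem f198037 : Led Lsl_et (LP (LK LD1_c8 LD2_c51 LD3_c55)) = (LP (LK LD1_c4 LD2_c58 LD3_c12)) :=
  Lgr Lrot158 (Lpe (K10.f101421 IH) (Lpr_ef (K10.f198035 IH) (Lpe (f56074 IH) (Lpn (LP (LK LD1_c4 LD2_c58 LD3_c12))))))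
theorem f101037 : Led Lsl_at (LP (LK LD1_c3 LD2_c3 LD3_c21)) = (LP (LK LD1_c2 LD2_c9 LD3_c16)) :=
  Lgr Lrot51 (Lpe (K9.f100660 IH) (Lpr_af (K9.f101027 IH) (Lpe (K11.f42997 IH) (Lpn (LP (LK LD1_c2 LD2_c9 LD3_c16))))))
theorem f100978 : Led Lsl_ft (LP (LK LD1_c1 LD2_c27 LD3_c33)) = (LP (LK LD1_c3 LD2_c3 LD3_c21)) :=
  Lre_f IH (LK LD1_c1 LD2_c27 LD3_c33) (LK LD1_c3 LD2_c3 LD3_c21) Lrfl Lrfl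
theorem f69404 : Led Lsl_gt (LP (LK LD1_c1 LD2_c27 LD3_c33)) = (LP (LK LD1_c3 LD2_c3 LD3_c18)) :=
  Lre_g IH (LK LD1_c1 LD2_c27 LD3_c33) (LK LD1_c3 LD2_c3 LD3_c18) Lrfl Lrfl
theorem f101351 : Led Lsl_gt (LP (LK LD1_c3 LD2_c3 LD3_c18)) = (LP (LK LD1_c2 LD2_c9 LD3_c16)) :=
  Lgr Lrot46 (Lpe (f69404 IH) (Lpr_ft (f100978 IH) (Lpr_at (f101037 IH) (Lpn (LP (LK LD1_c2 LD2_c9 LD3_c16))))))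
theorem f34061 : Led Lsl_gt (LP (LK LD1_c0 LD2_c55 LD3_c56)) = (LP (LK LD1_c0 LD2_c55 LD3_c45)) :=
  Lgr Lrot46 (Lpe (K10.f28752 IH) (Lpr_ft (K0.f34044 IH) (Lpr_at (K0.f34045 IH) (Lpn (LP (LK LD1_c0 LD2_c55 LD3_c45))))))
theorem f34064 : Led Lsl_dt (LP (LK LD1_c0 LD2_c25 LD3_c21)) = (LP (LK LD1_c0 LD2_c55 LD3_c54)) :=
  Lre_d IH (LK LD1_c0 LD2_c25 LD3_c21) (LK LD1_c0 LD2_c55 LD3_c54) Lrfl Lrfl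
theorem f34068 : Led Lsl_ct (LP (LK LD1_c0 LD2_c55 LD3_c54)) = (LP (LK LD1_c1 LD2_c58 LD3_c1)) :=
  Lre_c IH (LK LD1_c0 LD2_c55 LD3_c54) (LK LD1_c1 LD2_c58 LD3_c1) Lrfl Lrfl
theorem f34066 : Led Lsl_dt (LP (LK LD1_c4 LD2_c2 LD3_c7)) = (LP (LK LD1_c1 LD2_c58 LD3_c1)) :=
  Lre_d IH (LK LD1_c4 LD2_c2 LD3_c7) (LK LD1_c1 LD2_c58 LD3_c1) Lrfl Lrfl
theorem f193455 : Led Lsl_gf (LP (LK LD1_c4 LD2_c2 LD3_c7)) = (LP (LK LD1_c4 LD2_c4 LD3_c59)) :=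
  Lgr Lrot143 (Lpr_dt (f34066 IH) (Lpe (f34068 IH) (Lpe (f34064 IH) (Lpr_gf (K10.f33672 IH) (Lpe (K0.f33650 IH) (Lpe (f34061 IH) (Lpe (K11.f34067 IH) (Lpr_gt (K10.f193441 IH) (Lpr_dt (K10.f46662 IH) (Lpn (LP (LK LD1_c4 LD2_c4 LD3_c59))))))))))))
theorem f193464 : Led Lsl_dt (LP (LK LD1_c1 LD2_c58 LD3_c1)) = (LP (LK LD1_c4 LD2_c2 LD3_c7)) :=
  Lre_d IH (LK LD1_c1 LD2_c58 LD3_c1) (LK LD1_c4 LD2_c2 LD3_c7) Lrfl Lrfl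
theorem f193491 : Led Lsl_ef (LP (LK LD1_c3 LD2_c3 LD3_c18)) = (LP (LK LD1_c1 LD2_c58 LD3_c1)) :=
  Lgr Lrot114 (Lpr_gt (f101351 IH) (Lpe (K9.f39898 IH) (Lpr_dt (K9.f38919 IH) (Lpe (K11.f39891 IH) (Lpr_df (K11.f193480 IH) (Lpe (K11.f193476 IH) (Lpr_gt (K10.f193441 IH) (Lpr_dt (K10.f46662 IH) (Lpe (f193455 IH) (Lpe (f193464 IH) (Lpn (LP (LK LD1_c1 LD2_c58 LD3_c1)))))))))))))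
theorem f70539 : Led Lsl_et (LP (LK LD1_c0 LD2_c40 LD3_c30)) = (LP (LK LD1_c1 LD2_c27 LD3_c33)) :=
  Lre_e IH (LK LD1_c0 LD2_c40 LD3_c30) (LK LD1_c1 LD2_c27 LD3_c33) Lrfl Lrfl
theorem f193501 : Led Lsl_gf (LP (LK LD1_c2 LD2_c4 LD3_c6)) = (LP (LK LD1_c4 LD2_c2 LD3_c7)) :=
  Lgr Lrot145 (Lpe (K1.f27837 IH) (Lpr_et (K1.f56068 IH) (Lpe (K1.f59355 IH) (Lpr_dt (K2.f36606 IH) (Lpe (K2.f38015 IH) (Lpr_df (K4.f70537 IH) (Lpr_et (f70539 IH) (Lpr_gt (f69404 IH) (Lpr_ef (f193491 IH) (Lpr_dt (f193464 IH) (Lpn (LP (LK LD1_c4 LD2_c2 LD3_c7)))))))))))))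
theorem f164688 : Led Lsl_ct (LP (LK LD1_c2 LD2_c33 LD3_c45)) = (LP (LK LD1_c1 LD2_c13 LD3_c51)) :=
  Lre_c IH (LK LD1_c2 LD2_c33 LD3_c45) (LK LD1_c1 LD2_c13 LD3_c51) Lrfl Lrfl
theorem f227931 : Led Lsl_gt (LP (LK LD1_c1 LD2_c58 LD3_c1)) = (LP (LK LD1_c2 LD2_c33 LD3_c45)) :=
  Lgr Lrot9 (Lpe (f34066 IH) (Lpe (f193501 IH) (Lpr_ct (K1.f27838 IH) (Lpr_gt (K10.f197176 IH) (Lpe (K10.f197207 IH) (Lpr_df (f211594 IH) (Lpe (f211589 IH) (Lpr_gf (f227929 IH) (Lpe (f164688 IH) (Lpn (LP (LK LD1_c2 LD2_c33 LD3_c45))))))))))))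
theorem f193499 : Led Lsl_et (LP (LK LD1_c3 LD2_c3 LD3_c18)) = (LP (LK LD1_c1 LD2_c58 LD3_c1)) :=
  Lgr Lrot87 (Lpr_ef (f193491 IH) (Lpn (LP (LK LD1_c1 LD2_c58 LD3_c1))))
theorem f101354 : Led Lsl_dt (LP (LK LD1_c3 LD2_c3 LD3_c18)) = (LP (LK LD1_c6 LD2_c13 LD3_c6)) :=
  Lre_d IH (LK LD1_c3 LD2_c3 LD3_c18) (LK LD1_c6 LD2_c13 LD3_c6) Lrfl Lrfl
theorem f101353 : Led Lsl_gt (LP (LK LD1_c12 LD2_c5 LD3_c6)) = (LP (LK LD1_c6 LD2_c13 LD3_c6)) :=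
  Lre_g IH (LK LD1_c12 LD2_c5 LD3_c6) (LK LD1_c6 LD2_c13 LD3_c6) Lrfl Lrfl
theorem f229371 : Led Lsl_dt (LP (LK LD1_c8 LD2_c51 LD3_c55)) = (LP (LK LD1_c12 LD2_c5 LD3_c6)) :=
  Lgr Lrot136 (Lpr_et (f198037 IH) (Lpr_gf (f198329 IH) (Lpe (f229360 IH) (Lpr_dt (f182359 IH) (Lpr_gf (f229361 IH) (Lpe (f201443 IH) (Lpe (f227931 IH) (Lpe (f193499 IH) (Lpr_dt (f101354 IH) (Lpe (f101353 IH) (Lpn (LP (LK LD1_c12 LD2_c5 LD3_c6)))))))))))))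
theorem f229373 : Led Lsl_df (LP (LK LD1_c8 LD2_c51 LD3_c55)) = (LP (LK LD1_c12 LD2_c5 LD3_c6)) :=
  Lgr Lrot38 (Lpr_dt (f229371 IH) (Lpn (LP (LK LD1_c12 LD2_c5 LD3_c6))))
theorem f198047 : Led Lsl_df (LP (LK LD1_c4 LD2_c27 LD3_c2)) = (LP (LK LD1_c2 LD2_c17 LD3_c57)) :=
  Lgr Lrot38 (Lpr_dt (K10.f198043 IH) (Lpn (LP (LK LD1_c2 LD2_c17 LD3_c57))))
theorem f101283 : Led Lsl_dt (LP (LK LD1_c3 LD2_c3 LD3_c19)) = (LP (LK LD1_c6 LD2_c13 LD3_c7)) :=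
  Lre_d IH (LK LD1_c3 LD2_c3 LD3_c19) (LK LD1_c6 LD2_c13 LD3_c7) Lrfl Lrfl
theorem f229405 : Led Lsl_gt (LP (LK LD1_c6 LD2_c13 LD3_c7)) = (LP (LK LD1_c12 LD2_c5 LD3_c6)) :=
  Lgr Lrot49 (Lpe (f101283 IH) (Lpr_gf (K9.f101281 IH) (Lpe (K9.f42998 IH) (Lpr_gt (K9.f175812 IH) (Lpr_dt (K10.f175816 IH) (Lpe (K10.f185987 IH) (Lpe (f198047 IH) (Lpe (K10.f198032 IH) (Lpr_df (f229373 IH) (Lpn (LP (LK LD1_c12 LD2_c5 LD3_c6))))))))))))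
theorem f210731 : Led Lsl_et (LP (LK LD1_c1 LD2_c56 LD3_c41)) = (LP (LK LD1_c3 LD2_c59 LD3_c60)) :=
  Lre_e IH (LK LD1_c1 LD2_c56 LD3_c41) (LK LD1_c3 LD2_c59 LD3_c60) Lrfl Lrfl
theorem f24566 : Led Lsl_ct (LP (LK LD1_c1 LD2_c18 LD3_c55)) = (LP (LK LD1_c2 LD2_c45 LD3_c14)) :=
  Lre_c IH (LK LD1_c1 LD2_c18 LD3_c55) (LK LD1_c2 LD2_c45 LD3_c14) Lrfl Lrfl
theorem f24558 : Led Lsl_dt (LP (LK LD1_c5 LD2_c38 LD3_c42)) = (LP (LK LD1_c2 LD2_c45 LD3_c14)) :=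
  Lre_d IH (LK LD1_c5 LD2_c38 LD3_c42) (LK LD1_c2 LD2_c45 LD3_c14) Lrfl Lrfl
theorem f198068 : Led Lsl_ct (LP (LK LD1_c2 LD2_c26 LD3_c56)) = (LP (LK LD1_c1 LD2_c10 LD3_c44)) :=
  Lre_c IH (LK LD1_c2 LD2_c26 LD3_c56) (LK LD1_c1 LD2_c10 LD3_c44) Lrfl Lrfl
theorem f210623 : Led Lsl_gf (LP (LK LD1_c5 LD2_c38 LD3_c42)) = (LP (LK LD1_c4 LD2_c25 LD3_c37)) :=
  Lgr Lrot143 (Lpr_dt (f24558 IH) (Lpe (f24566 IH) (Lpr_df (f24513 IH) (Lpe (K10.f198262 IH) (Lpr_df (K1.f35466 IH) (Lpr_gf (K11.f210618 IH) (Lpe (f198068 IH) (Lpr_gt (K10.f198278 IH) (Lpr_dt (K10.f38348 IH) (Lpn (LP (LK LD1_c4 LD2_c25 LD3_c37))))))))))))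
theorem f210715 : Led Lsl_gt (LP (LK LD1_c5 LD2_c38 LD3_c42)) = (LP (LK LD1_c3 LD2_c0 LD3_c60)) :=
  Lgr Lrot46 (Lpr_gf (f210623 IH) (Lpr_ft (K11.f38414 IH) (Lpr_at (K11.f38362 IH) (Lpn (LP (LK LD1_c3 LD2_c0 LD3_c60))))))
theorem f24567 : Led Lsl_dt (LP (LK LD1_c2 LD2_c45 LD3_c14)) = (LP (LK LD1_c5 LD2_c38 LD3_c42)) :=
  Lre_d IH (LK LD1_c2 LD2_c45 LD3_c14) (LK LD1_c5 LD2_c38 LD3_c42) Lrfl Lrfl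
theorem f27259 : Led Lsl_dt (LP (LK LD1_c3 LD2_c0 LD3_c60)) = (LP (LK LD1_c1 LD2_c26 LD3_c19)) :=
  Lre_d IH (LK LD1_c3 LD2_c0 LD3_c60) (LK LD1_c1 LD2_c26 LD3_c19) Lrfl Lrfl
theorem f210729 : Led Lsl_gf (LP (LK LD1_c2 LD2_c45 LD3_c14)) = (LP (LK LD1_c3 LD2_c59 LD3_c60)) :=
  Lgr Lrot144 (Lpr_dt (f24567 IH) (Lpr_gt (f210715 IH) (Lpr_dt (f27259 IH) (Lpe (K10.f27261 IH) (Lpe (f27230 IH) (Lpe (K11.f27267 IH) (Lpe (f27268 IH) (Lpe (f34714 IH) (Lpe (f34717 IH) (Lpn (LP (LK LD1_c3 LD2_c59 LD3_c60))))))))))))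
theorem f37779 : Led Lsl_gt (LP (LK LD1_c1 LD2_c55 LD3_c32)) = (LP (LK LD1_c3 LD2_c57 LD3_c32)) :=
  Lre_g IH (LK LD1_c1 LD2_c55 LD3_c32) (LK LD1_c3 LD2_c57 LD3_c32) Lrfl Lrfl
theorem f210732 : Led Lsl_dt (LP (LK LD1_c1 LD2_c56 LD3_c41)) = (LP (LK LD1_c3 LD2_c57 LD3_c32)) :=
  Lgr Lrot37 (Lpr_et (f210731 IH) (Lpe (f210729 IH) (Lpr_dt (f24567 IH) (Lpr_gt (f210715 IH) (Lpe (K10.f27262 IH) (Lpr_et (K2.f35558 IH) (Lpr_gt (K1.f37756 IH) (Lpe (K11.f35665 IH) (Lpr_dt (K11.f35666 IH) (Lpr_gt (f37779 IH) (Lpn (LP (LK LD1_c3 LD2_c57 LD3_c32)))))))))))))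
theorem f229408 : Led Lsl_gf (LP (LK LD1_c2 LD2_c9 LD3_c15)) = (LP (LK LD1_c3 LD2_c57 LD3_c32)) :=
  Lgr Lrot145 (Lpe (K9.f38919 IH) (Lpr_et (K9.f39898 IH) (Lpe (K9.f101281 IH) (Lpr_dt (f101283 IH) (Lpr_gt (f229405 IH) (Lpe (f229371 IH) (Lpr_et (f198037 IH) (Lpr_gt (f227561 IH) (Lpe (f210731 IH) (Lpr_dt (f210732 IH) (Lpn (LP (LK LD1_c3 LD2_c57 LD3_c32)))))))))))))
theorem f39253 : Led Lsl_cf (LP (LK LD1_c3 LD2_c57 LD3_c8)) = (LP (LK LD1_c2 LD2_c9 LD3_c15)) :=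
  Lgr Lrot11 (Lpr_ct (K1.f39248 IH) (Lpn (LP (LK LD1_c2 LD2_c9 LD3_c15))))
theorem f39031 : Led Lsl_dt (LP (LK LD1_c3 LD2_c57 LD3_c8)) = (LP (LK LD1_c1 LD2_c55 LD3_c19)) :=
  Lre_d IH (LK LD1_c3 LD2_c57 LD3_c8) (LK LD1_c1 LD2_c55 LD3_c19) Lrfl Lrfl
theorem f43209 : Led Lsl_gt (LP (LK LD1_c1 LD2_c55 LD3_c18)) = (LP (LK LD1_c0 LD2_c54 LD3_c23)) :=
  Lre_g IH (LK LD1_c1 LD2_c55 LD3_c18) (LK LD1_c0 LD2_c54 LD3_c23) Lrfl Lrfl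
theorem f29678 : Led Lsl_ct (LP (LK LD1_c1 LD2_c56 LD3_c57)) = (LP (LK LD1_c4 LD2_c0 LD3_c20)) :=
  Lre_c IH (LK LD1_c1 LD2_c56 LD3_c57) (LK LD1_c4 LD2_c0 LD3_c20) Lrfl Lrfl
theorem f29679 : Led Lsl_ct (LP (LK LD1_c2 LD2_c24 LD3_c24)) = (LP (LK LD1_c4 LD2_c0 LD3_c32)) :=
  Lgr Lrot176 (Lpe (K1.f2493 IH) (Lpe (K1.f2441 IH) (Lpe (K1.f2791 IH) (Lpr_cf (K1.f6920 IH) (Lpe (K1.f2989 IH) (Lpe (K1.f2968 IH) (Lpe (K1.f2977 IH) (Lpe (K1.f6955 IH) (Lpr_df (K1.f29670 IH) (Lpe (f29678 IH) (Lpe (f29194 IH) (Lpe (K1.f29176 IH) (Lpe (K1.f29185 IH) (Lpe (K1.f29287 IH) (Lpe (f29355 IH) (Lpn (LP (LK LD1_c4 LD2_c0 LD3_c32))))))))))))))))))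
theorem f2522 : Led Lsl_gt (LP (LK LD1_c4 LD2_c53 LD3_c14)) = (LP (LK LD1_c2 LD2_c24 LD3_c24)) :=
  Lre_g IH (LK LD1_c4 LD2_c53 LD3_c14) (LK LD1_c2 LD2_c24 LD3_c24) Lrfl Lrfl
theorem f197721 : Led Lsl_ct (LP (LK LD1_c3 LD2_c57 LD3_c32)) = (LP (LK LD1_c4 LD2_c53 LD3_c14)) :=
  Lgr Lrot152 (Lpe (f37779 IH) (Lpe (K11.f35666 IH) (Lpr_gt (K11.f59266 IH) (Lpr_ct (f197423 IH) (Lpe (f30807 IH) (Lpr_ct (K1.f29349 IH) (Lpe (f29355 IH) (Lpe (f29679 IH) (Lpe (f2522 IH) (Lpn (LP (LK LD1_c4 LD2_c53 LD3_c14))))))))))))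
theorem f197738 : Led Lsl_cf (LP (LK LD1_c3 LD2_c57 LD3_c32)) = (LP (LK LD1_c4 LD2_c53 LD3_c14)) :=
  Lgr Lrot11 (Lpr_ct (f197721 IH) (Lpn (LP (LK LD1_c4 LD2_c53 LD3_c14))))
theorem f29720 : Led Lsl_gt (LP (LK LD1_c4 LD2_c0 LD3_c3)) = (LP (LK LD1_c4 LD2_c53 LD3_c14)) :=
  Lgr Lrot5 (Lpe (K1.f29267 IH) (Lpr_at (K1.f29708 IH) (Lpe (f2522 IH) (Lpn (LP (LK LD1_c4 LD2_c53 LD3_c14))))))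
theorem f2497 : Led Lsl_gt (LP (LK LD1_c2 LD2_c24 LD3_c22)) = (LP (LK LD1_c1 LD2_c9 LD3_c20)) :=
  Lre_g IH (LK LD1_c2 LD2_c24 LD3_c22) (LK LD1_c1 LD2_c9 LD3_c20) Lrfl Lrfl
theorem f29668 : Led Lsl_gf (LP (LK LD1_c2 LD2_c24 LD3_c22)) = (LP (LK LD1_c4 LD2_c0 LD3_c20)) :=
  Lgr Lrot47 (Lpr_gt (f2497 IH) (Lpr_af (K1.f29650 IH) (Lpe (K1.f29667 IH) (Lpn (LP (LK LD1_c4 LD2_c0 LD3_c20))))))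
theorem f229414 : Led Lsl_cf (LP (LK LD1_c1 LD2_c55 LD3_c18)) = (LP (LK LD1_c2 LD2_c24 LD3_c22)) :=
  Lgr Lrot169 (Lpr_gt (f43209 IH) (Lpr_ct (K1.f39027 IH) (Lpe (f39031 IH) (Lpr_cf (f39253 IH) (Lpr_gf (f229408 IH) (Lpr_cf (f197738 IH) (Lpe (f29720 IH) (Lpr_df (K1.f29670 IH) (Lpe (f29668 IH) (Lpn (LP (LK LD1_c2 LD2_c24 LD3_c22))))))))))))
theorem f42868 : Led Lsl_dt (LP (LK LD1_c0 LD2_c54 LD3_c23)) = (LP (LK LD1_c0 LD2_c24 LD3_c33)) :=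
  Lre_d IH (LK LD1_c0 LD2_c54 LD3_c23) (LK LD1_c0 LD2_c24 LD3_c33) Lrfl Lrfl
theorem f42735 : Led Lsl_gt (LP (LK LD1_c0 LD2_c24 LD3_c33)) = (LP (LK LD1_c0 LD2_c54 LD3_c21)) :=
  Lre_g IH (LK LD1_c0 LD2_c24 LD3_c33) (LK LD1_c0 LD2_c54 LD3_c21) Lrfl Lrfl
theorem f42736 : Led Lsl_dt (LP (LK LD1_c0 LD2_c54 LD3_c21)) = (LP (LK LD1_c1 LD2_c55 LD3_c13)) :=
  Lre_d IH (LK LD1_c0 LD2_c54 LD3_c21) (LK LD1_c1 LD2_c55 LD3_c13) Lrfl Lrfl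
theorem f42737 : Led Lsl_ct (LP (LK LD1_c1 LD2_c55 LD3_c13)) = (LP (LK LD1_c3 LD2_c56 LD3_c59)) :=
  Lre_c IH (LK LD1_c1 LD2_c55 LD3_c13) (LK LD1_c3 LD2_c56 LD3_c59) Lrfl Lrfl
theorem f229436 : Led Lsl_df (LP (LK LD1_c3 LD2_c56 LD3_c59)) = (LP (LK LD1_c4 LD2_c53 LD3_c13)) :=
  Lgr Lrot84 (Lpe (f42737 IH) (Lpe (f42736 IH) (Lpe (f42735 IH) (Lpe (f42868 IH) (Lpe (f43209 IH) (Lpr_cf (f229414 IH) (Lpr_gt (f2497 IH) (Lpr_dt (K1.f2493 IH) (Lpr_gt (f2527 IH) (Lpn (LP (LK LD1_c4 LD2_c53 LD3_c13))))))))))))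
theorem f229463 : Led Lsl_dt (LP (LK LD1_c3 LD2_c56 LD3_c59)) = (LP (LK LD1_c4 LD2_c53 LD3_c13)) :=
  Lgr Lrot42 (Lpr_df (f229436 IH) (Lpn (LP (LK LD1_c4 LD2_c53 LD3_c13))))
theorem f42880 : Led Lsl_dt (LP (LK LD1_c0 LD2_c54 LD3_c22)) = (LP (LK LD1_c1 LD2_c55 LD3_c15)) :=
  Lre_d IH (LK LD1_c0 LD2_c54 LD3_c22) (LK LD1_c1 LD2_c55 LD3_c15) Lrfl Lrfl
theorem f42883 : Led Lsl_ct (LP (LK LD1_c1 LD2_c55 LD3_c15)) = (LP (LK LD1_c3 LD2_c57 LD3_c0)) :=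
  Lre_c IH (LK LD1_c1 LD2_c55 LD3_c15) (LK LD1_c3 LD2_c57 LD3_c0) Lrfl Lrfl
theorem f200758 : Led Lsl_gf (LP (LK LD1_c0 LD2_c59 LD3_c24)) = (LP (LK LD1_c1 LD2_c10 LD3_c3)) :=
  Lgr Lrot104 (Lpr_ct (K10.f52654 IH) (Lpr_df (K10.f52576 IH) (Lpe (K10.f27660 IH) (Lpe (K11.f200721 IH) (Lpr_cf (K11.f200730 IH) (Lpe (K11.f52289 IH) (Lpe (K10.f52265 IH) (Lpr_gt (K10.f52295 IH) (Lpr_ct (f196407 IH) (Lpn (LP (LK LD1_c1 LD2_c10 LD3_c3))))))))))))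
theorem f224871 : Led Lsl_gt (LP (LK LD1_c1 LD2_c1 LD3_c36)) = (LP (LK LD1_c0 LD2_c56 LD3_c23)) :=
  Lgr Lrot94 (Lpe (f166459 IH) (Lpe (K11.f193348 IH) (Lpr_dt (K10.f170859 IH) (Lpr_gt (K10.f193333 IH) (Lpr_dt (K10.f52676 IH) (Lpe (K10.f27482 IH) (Lpe (K10.f27459 IH) (Lpr_gf (f200758 IH) (Lpr_df (f224862 IH) (Lpn (LP (LK LD1_c0 LD2_c56 LD3_c23))))))))))))
theorem f181983 : Led Lsl_dt (LP (LK LD1_c0 LD2_c28 LD3_c6)) = (LP (LK LD1_c1 LD2_c1 LD3_c35)) :=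
  Lre_d IH (LK LD1_c0 LD2_c28 LD3_c6) (LK LD1_c1 LD2_c1 LD3_c35) Lrfl Lrfl
theorem f224877 : Led Lsl_gt (LP (LK LD1_c1 LD2_c59 LD3_c23)) = (LP (LK LD1_c1 LD2_c1 LD3_c35)) :=
  Lgr Lrot112 (Lpe (K10.f193285 IH) (Lpr_et (K10.f193286 IH) (Lpr_gf (K10.f193322 IH) (Lpe (K11.f27462 IH) (Lpr_dt (K10.f27461 IH) (Lpr_gf (f200758 IH) (Lpr_df (f224862 IH) (Lpe (f224871 IH) (Lpe (f200421 IH) (Lpr_dt (f181983 IH) (Lpn (LP (LK LD1_c1 LD2_c1 LD3_c35)))))))))))))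
theorem f197444 : Led Lsl_ct (LP (LK LD1_c1 LD2_c59 LD3_c23)) = (LP (LK LD1_c4 LD2_c4 LD3_c46)) :=
  Lre_c IH (LK LD1_c1 LD2_c59 LD3_c23) (LK LD1_c4 LD2_c4 LD3_c46) Lrfl Lrfl
theorem f42882 : Led Lsl_ct (LP (LK LD1_c3 LD2_c57 LD3_c0)) = (LP (LK LD1_c1 LD2_c55 LD3_c15)) :=
  Lre_c IH (LK LD1_c3 LD2_c57 LD3_c0) (LK LD1_c1 LD2_c55 LD3_c15) Lrfl Lrfl
theorem f193266 : Led Lsl_gt (LP (LK LD1_c0 LD2_c28 LD3_c3)) = (LP (LK LD1_c0 LD2_c55 LD3_c15)) :=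
  Lgr Lrot46 (Lpr_gf (K10.f193264 IH) (Lpr_ft (K0.f2428 IH) (Lpe (K1.f29172 IH) (Lpn (LP (LK LD1_c0 LD2_c55 LD3_c15))))))
theorem f173348 : Led Lsl_dt (LP (LK LD1_c1 LD2_c1 LD3_c27)) = (LP (LK LD1_c0 LD2_c28 LD3_c3)) :=
  Lre_d IH (LK LD1_c1 LD2_c1 LD3_c27) (LK LD1_c0 LD2_c28 LD3_c3) Lrfl Lrfl
theorem f197445 : Led Lsl_gf (LP (LK LD1_c3 LD2_c57 LD3_c0)) = (LP (LK LD1_c4 LD2_c4 LD3_c46)) :=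
  Lgr Lrot104 (Lpr_ct (f42882 IH) (Lpe (f42880 IH) (Lpr_cf (K10.f173208 IH) (Lpr_gf (f197427 IH) (Lpe (K1.f29177 IH) (Lpe (f193266 IH) (Lpe (f173348 IH) (Lpr_gt (K10.f193268 IH) (Lpr_ct (f197444 IH) (Lpn (LP (LK LD1_c4 LD2_c4 LD3_c46))))))))))))
theorem f29199 : Led Lsl_ft (LP (LK LD1_c0 LD2_c55 LD3_c15)) = (LP (LK LD1_c0 LD2_c25 LD3_c1)) :=
  Lre_f IH (LK LD1_c0 LD2_c55 LD3_c15) (LK LD1_c0 LD2_c25 LD3_c1) Lrfl Lrfl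
theorem f1760 : Led Lsl_at (LP (LK LD1_c0 LD2_c13 LD3_c59)) = (LP (LK LD1_c0 LD2_c31 LD3_c26)) :=
  Lre_a IH (LK LD1_c0 LD2_c13 LD3_c59) (LK LD1_c0 LD2_c31 LD3_c26) Lrfl Lrfl
theorem f2199 : Led Lsl_bt (LP (LK LD1_c0 LD2_c14 LD3_c11)) = (LP (LK LD1_c0 LD2_c6 LD3_c32)) :=
  Lre_b IH (LK LD1_c0 LD2_c14 LD3_c11) (LK LD1_c0 LD2_c6 LD3_c32) Lrfl Lrfl
theorem f29161 : Led Lsl_at (LP (LK LD1_c0 LD2_c25 LD3_c1)) = (LP (LK LD1_c0 LD2_c14 LD3_c11)) :=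
  Lgr Lrot67 (Lpr_bf (K1.f29159 IH) (Lpe (f1760 IH) (Lpe (K9.f269 IH) (Lpr_af (K0.f2197 IH) (Lpe (f2199 IH) (Lpn (LP (LK LD1_c0 LD2_c14 LD3_c11))))))))
theorem f187085 : Led Lsl_gt (LP (LK LD1_c0 LD2_c28 LD3_c6)) = (LP (LK LD1_c0 LD2_c14 LD3_c11)) :=
  Lgr Lrot46 (Lpr_gf (K10.f187080 IH) (Lpr_ft (f29199 IH) (Lpr_at (f29161 IH) (Lpn (LP (LK LD1_c0 LD2_c14 LD3_c11))))))
theorem f224879 : Led Lsl_dt (LP (LK LD1_c3 LD2_c57 LD3_c0)) = (LP (LK LD1_c4 LD2_c53 LD3_c14)) :=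
  Lgr Lrot57 (Lpr_gf (f197445 IH) (Lpe (f197444 IH) (Lpr_gt (f224877 IH) (Lpr_dt (f180210 IH) (Lpr_gt (f187085 IH) (Lpr_dt (K1.f2791 IH) (Lpe (K1.f2491 IH) (Lpe (K1.f2756 IH) (Lpe (f2522 IH) (Lpn (LP (LK LD1_c4 LD2_c53 LD3_c14))))))))))))
theorem f2985 : Led Lsl_ct (LP (LK LD1_c0 LD2_c55 LD3_c7)) = (LP (LK LD1_c1 LD2_c56 LD3_c41)) :=
  Lre_c IH (LK LD1_c0 LD2_c55 LD3_c7) (LK LD1_c1 LD2_c56 LD3_c41) Lrfl Lrfl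
theorem f170316 : Led Lsl_bt (LP (LK LD1_c0 LD2_c24 LD3_c35)) = (LP (LK LD1_c0 LD2_c11 LD3_c2)) :=
  Lre_b IH (LK LD1_c0 LD2_c24 LD3_c35) (LK LD1_c0 LD2_c11 LD3_c2) Lrfl Lrfl
theorem f173355 : Led Lsl_gt (LP (LK LD1_c1 LD2_c55 LD3_c30)) = (LP (LK LD1_c0 LD2_c54 LD3_c29)) :=
  Lre_g IH (LK LD1_c1 LD2_c55 LD3_c30) (LK LD1_c0 LD2_c54 LD3_c29) Lrfl Lrfl
theorem f181223 : Led Lsl_ct (LP (LK LD1_c0 LD2_c54 LD3_c56)) = (LP (LK LD1_c1 LD2_c55 LD3_c30)) :=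
  Lgr Lrot64 (Lpr_bt (K10.f28404 IH) (Lpr_gf (K9.f181216 IH) (Lpe (K9.f39235 IH) (Lpr_ct (K9.f20808 IH) (Lpe (K9.f23960 IH) (Lpe (K9.f173206 IH) (Lpe (K9.f6813 IH) (Lpe (f170316 IH) (Lpr_ct (f43093 IH) (Lpe (f173355 IH) (Lpn (LP (LK LD1_c1 LD2_c55 LD3_c30)))))))))))))
theorem f181314 : Led Lsl_cf (LP (LK LD1_c0 LD2_c54 LD3_c56)) = (LP (LK LD1_c1 LD2_c55 LD3_c30)) :=
  Lgr Lrot11 (Lpr_ct (f181223 IH) (Lpn (LP (LK LD1_c1 LD2_c55 LD3_c30))))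
theorem f193667 : Led Lsl_df (LP (LK LD1_c1 LD2_c56 LD3_c41)) = (LP (LK LD1_c3 LD2_c57 LD3_c32)) :=
  Lgr Lrot84 (Lpe (f2985 IH) (Lpe (K10.f2984 IH) (Lpe (K10.f2983 IH) (Lpe (K1.f2989 IH) (Lpr_gf (K10.f193663 IH) (Lpr_cf (f181314 IH) (Lpr_gt (f173355 IH) (Lpr_dt (K11.f35666 IH) (Lpr_gt (f37779 IH) (Lpn (LP (LK LD1_c3 LD2_c57 LD3_c32))))))))))))
theorem f193669 : Led Lsl_ct (LP (LK LD1_c1 LD2_c56 LD3_c41)) = (LP (LK LD1_c0 LD2_c55 LD3_c7)) :=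
  Lre_c IH (LK LD1_c1 LD2_c56 LD3_c41) (LK LD1_c0 LD2_c55 LD3_c7) Lrfl Lrfl
theorem f229472 : Led Lsl_cf (LP (LK LD1_c0 LD2_c54 LD3_c21)) = (LP (LK LD1_c0 LD2_c24 LD3_c58)) :=
  Lgr Lrot55 (Lpr_dt (f42736 IH) (Lpr_ct (f42737 IH) (Lpr_dt (f229463 IH) (Lpe (f229274 IH) (Lpr_dt (f193485 IH) (Lpr_ct (f173351 IH) (Lpr_dt (f6828 IH) (Lpe (K10.f173208 IH) (Lpr_dt (f42880 IH) (Lpr_ct (f42883 IH) (Lpr_dt (f224879 IH) (Lpe (f197738 IH) (Lpe (f193667 IH) (Lpr_ct (f193669 IH) (Lpr_dt (K11.f30818 IH) (Lpn (LP (LK LD1_c0 LD2_c24 LD3_c58))))))))))))))))))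
theorem f229481 : Led Lsl_gt (LP (LK LD1_c0 LD2_c54 LD3_c21)) = (LP (LK LD1_c0 LD2_c28 LD3_c2)) :=
  Lgr Lrot150 (Lpr_cf (f229472 IH) (Lpe (K10.f2983 IH) (Lpe (K1.f2989 IH) (Lpr_gt (f3046 IH) (Lpe (f197418 IH) (Lpr_gt (K11.f101331 IH) (Lpr_ct (K1.f39247 IH) (Lpe (f43087 IH) (Lpe (f42879 IH) (Lpn (LP (LK LD1_c0 LD2_c28 LD3_c2))))))))))))
theorem f42759 : Led Lsl_bt (LP (LK LD1_c1 LD2_c55 LD3_c12)) = (LP (LK LD1_c0 LD2_c54 LD3_c21)) :=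
  Lre_b IH (LK LD1_c1 LD2_c55 LD3_c12) (LK LD1_c0 LD2_c54 LD3_c21) Lrfl Lrfl
theorem f229475 : Led Lsl_bt (LP (LK LD1_c0 LD2_c54 LD3_c21)) = (LP (LK LD1_c1 LD2_c55 LD3_c12)) :=
  Lre_b IH (LK LD1_c0 LD2_c54 LD3_c21) (LK LD1_c1 LD2_c55 LD3_c12) Lrfl Lrfl
theorem f181971 : Led Lsl_bf (LP (LK LD1_c0 LD2_c25 LD3_c2)) = (LP (LK LD1_c0 LD2_c12 LD3_c25)) :=
  Lgr Lrot24 (Lpr_bt (K9.f181969 IH) (Lpn (LP (LK LD1_c0 LD2_c12 LD3_c25))))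
theorem f29178 : Led Lsl_bf (LP (LK LD1_c0 LD2_c25 LD3_c4)) = (LP (LK LD1_c0 LD2_c25 LD3_c4)) :=
  Lgr Lrot90 (Lpr_ct (K1.f29176 IH) (Lpr_bt (K1.f29170 IH) (Lpr_ct (K9.f1713 IH) (Lpe (K1.f29174 IH) (Lpr_ct (K1.f29177 IH) (Lpn (LP (LK LD1_c0 LD2_c25 LD3_c4))))))))
theorem f196329 : Led Lsl_bf (LP (LK LD1_c0 LD2_c24 LD3_c58)) = (LP (LK LD1_c0 LD2_c24 LD3_c34)) :=
  Lgr Lrot156 (Lpe (K11.f30816 IH) (Lpr_bf (f29178 IH) (Lpr_ct (K1.f29176 IH) (Lpe (K10.f187080 IH) (Lpe (K10.f180211 IH) (Lpe (f181971 IH) (Lpr_gt (K9.f28937 IH) (Lpr_ct (K1.f28939 IH) (Lpr_gt (K10.f196316 IH) (Lpe (K10.f43094 IH) (Lpn (LP (LK LD1_c0 LD2_c24 LD3_c34)))))))))))))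
theorem f196320 : Led Lsl_bt (LP (LK LD1_c1 LD2_c55 LD3_c21)) = (LP (LK LD1_c0 LD2_c54 LD3_c25)) :=
  Lre_b IH (LK LD1_c1 LD2_c55 LD3_c21) (LK LD1_c0 LD2_c54 LD3_c25) Lrfl Lrfl
theorem f229476 : Led Lsl_ct (LP (LK LD1_c1 LD2_c55 LD3_c12)) = (LP (LK LD1_c1 LD2_c55 LD3_c21)) :=
  Lgr Lrot83 (Lpe (f229475 IH) (Lpr_cf (f229472 IH) (Lpr_bf (f196329 IH) (Lpe (K11.f42870 IH) (Lpe (f196320 IH) (Lpn (LP (LK LD1_c1 LD2_c55 LD3_c21))))))))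
theorem f229485 : Led Lsl_gf (LP (LK LD1_c1 LD2_c55 LD3_c21)) = (LP (LK LD1_c1 LD2_c59 LD3_c36)) :=
  Lgr Lrot126 (Lpe (f229476 IH) (Lpr_bt (f42759 IH) (Lpr_gt (f229481 IH) (Lpr_ct (f42879 IH) (Lpe (K9.f174984 IH) (Lpe (K9.f168348 IH) (Lpr_bt (f168175 IH) (Lpe (f213765 IH) (Lpr_bf (K10.f53728 IH) (Lpr_ct (K10.f44487 IH) (Lpn (LP (LK LD1_c1 LD2_c59 LD3_c36)))))))))))))
theorem f219448 : Led Lsl_at (LP (LK LD1_c2 LD2_c6 LD3_c35)) = (LP (LK LD1_c2 LD2_c3 LD3_c18)) :=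
  Lgr Lrot66 (Lpr_ff (K10.f188838 IH) (Lpr_af (K10.f53819 IH) (Lpr_ff (f219446 IH) (Lpn (LP (LK LD1_c2 LD2_c3 LD3_c18))))))
theorem f219537 : Led Lsl_af (LP (LK LD1_c2 LD2_c6 LD3_c35)) = (LP (LK LD1_c2 LD2_c3 LD3_c18)) :=
  Lgr Lrot0 (Lpr_at (f219448 IH) (Lpn (LP (LK LD1_c2 LD2_c3 LD3_c18))))
theorem f229496 : Led Lsl_gt (LP (LK LD1_c1 LD2_c55 LD3_c21)) = (LP (LK LD1_c2 LD2_c6 LD3_c35)) :=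
  Lgr Lrot46 (Lpr_gf (f229485 IH) (Lpr_ft (f219439 IH) (Lpe (f219537 IH) (Lpn (LP (LK LD1_c2 LD2_c6 LD3_c35))))))
theorem f41372 : Led Lsl_gt (LP (LK LD1_c1 LD2_c55 LD3_c53)) = (LP (LK LD1_c0 LD2_c54 LD3_c42)) :=
  Lre_g IH (LK LD1_c1 LD2_c55 LD3_c53) (LK LD1_c0 LD2_c54 LD3_c42) Lrfl Lrfl
theorem f2115 : Led Lsl_bt (LP (LK LD1_c1 LD2_c8 LD3_c51)) = (LP (LK LD1_c0 LD2_c31 LD3_c28)) :=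
  Lre_b IH (LK LD1_c1 LD2_c8 LD3_c51) (LK LD1_c0 LD2_c31 LD3_c28) Lrfl Lrfl
theorem f219280 : Led Lsl_cf (LP (LK LD1_c0 LD2_c54 LD3_c42)) = (LP (LK LD1_c1 LD2_c8 LD3_c51)) :=
  Lgr Lrot163 (Lpe (f41372 IH) (Lpr_cf (f219119 IH) (Lpe (f170616 IH) (Lpe (K9.f170615 IH) (Lpr_ct (K9.f170594 IH) (Lpe (K9.f263 IH) (Lpe (K9.f249 IH) (Lpr_bt (K9.f269 IH) (Lpe (K9.f2106 IH) (Lpe (f2115 IH) (Lpn (LP (LK LD1_c1 LD2_c8 LD3_c51)))))))))))))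
theorem f229610 : Led Lsl_gf (LP (LK LD1_c1 LD2_c8 LD3_c51)) = (LP (LK LD1_c2 LD2_c6 LD3_c34)) :=
  Lgr Lrot181 (Lpe (f219280 IH) (Lpr_gt (f42733 IH) (Lpe (K9.f42725 IH) (Lpr_bt (K10.f42723 IH) (Lpr_gt (f42735 IH) (Lpe (f42759 IH) (Lpr_ct (f229476 IH) (Lpr_gt (f229496 IH) (Lpe (f188696 IH) (Lpr_bt (f188697 IH) (Lpn (LP (LK LD1_c2 LD2_c6 LD3_c34)))))))))))))
theorem f229626 : Led Lsl_bt (LP (LK LD1_c0 LD2_c31 LD3_c28)) = (LP (LK LD1_c1 LD2_c8 LD3_c51)) :=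
  Lre_b IH (LK LD1_c0 LD2_c31 LD3_c28) (LK LD1_c1 LD2_c8 LD3_c51) Lrfl Lrfl
theorem f2081 : Led Lsl_ct (LP (LK LD1_c0 LD2_c31 LD3_c28)) = (LP (LK LD1_c1 LD2_c8 LD3_c52)) :=
  Lre_c IH (LK LD1_c0 LD2_c31 LD3_c28) (LK LD1_c1 LD2_c8 LD3_c52) Lrfl Lrfl
theorem f286 : Led Lsl_gt (LP (LK LD1_c0 LD2_c31 LD3_c30)) = (LP (LK LD1_c1 LD2_c8 LD3_c44)) :=
  Lre_g IH (LK LD1_c0 LD2_c31 LD3_c30) (LK LD1_c1 LD2_c8 LD3_c44) Lrfl Lrfl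
theorem f167316 : Led Lsl_bt (LP (LK LD1_c2 LD2_c4 LD3_c25)) = (LP (LK LD1_c1 LD2_c8 LD3_c44)) :=
  Lgr Lrot92 (Lpr_ct (K10.f51454 IH) (Lpr_gt (K10.f45730 IH) (Lpe (K10.f167315 IH) (Lpr_bt (K9.f51423 IH) (Lpr_gt (K9.f497 IH) (Lpr_ct (K9.f167295 IH) (Lpe (K9.f3058 IH) (Lpe (K0.f281 IH) (Lpr_bt (K0.f285 IH) (Lpr_gt (f286 IH) (Lpn (LP (LK LD1_c1 LD2_c8 LD3_c44)))))))))))))
theorem f51453 : Led Lsl_bt (LP (LK LD1_c0 LD2_c57 LD3_c51)) = (LP (LK LD1_c0 LD2_c26 LD3_c18)) :=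
  Lre_b IH (LK LD1_c0 LD2_c57 LD3_c51) (LK LD1_c0 LD2_c26 LD3_c18) Lrfl Lrfl
theorem f2073 : Led Lsl_gt (LP (LK LD1_c1 LD2_c8 LD3_c44)) = (LP (LK LD1_c0 LD2_c31 LD3_c26)) :=
  Lre_g IH (LK LD1_c1 LD2_c8 LD3_c44) (LK LD1_c0 LD2_c31 LD3_c26) Lrfl Lrfl
theorem f167329 : Led Lsl_ct (LP (LK LD1_c0 LD2_c57 LD3_c51)) = (LP (LK LD1_c1 LD2_c8 LD3_c43)) :=
  Lgr Lrot63 (Lpr_bt (f51453 IH) (Lpr_gt (f1359 IH) (Lpr_bf (K9.f51431 IH) (Lpr_ct (f27511 IH) (Lpr_gt (f27518 IH) (Lpe (K10.f51454 IH) (Lpr_bt (f167316 IH) (Lpr_gt (f2073 IH) (Lpe (K0.f1748 IH) (Lpr_gt (K0.f2072 IH) (Lpn (LP (LK LD1_c1 LD2_c8 LD3_c43)))))))))))))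
theorem f167334 : Led Lsl_cf (LP (LK LD1_c0 LD2_c57 LD3_c51)) = (LP (LK LD1_c1 LD2_c8 LD3_c43)) :=
  Lgr Lrot11 (Lpr_ct (f167329 IH) (Lpn (LP (LK LD1_c1 LD2_c8 LD3_c43))))
theorem f167333 : Led Lsl_bt (LP (LK LD1_c1 LD2_c8 LD3_c43)) = (LP (LK LD1_c2 LD2_c23 LD3_c11)) :=
  Lre_b IH (LK LD1_c1 LD2_c8 LD3_c43) (LK LD1_c2 LD2_c23 LD3_c11) Lrfl Lrfl
theorem f218085 : Led Lsl_at (LP (LK LD1_c2 LD2_c6 LD3_c34)) = (LP (LK LD1_c2 LD2_c41 LD3_c1)) :=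
  Lgr Lrot100 (Lpr_af (f218080 IH) (Lpn (LP (LK LD1_c2 LD2_c41 LD3_c1))))
theorem f188764 : Led Lsl_bt (LP (LK LD1_c2 LD2_c6 LD3_c34)) = (LP (LK LD1_c1 LD2_c0 LD3_c16)) :=
  Lre_b IH (LK LD1_c2 LD2_c6 LD3_c34) (LK LD1_c1 LD2_c0 LD3_c16) Lrfl Lrfl
theorem f188844 : Led Lsl_ff (LP (LK LD1_c2 LD2_c6 LD3_c34)) = (LP (LK LD1_c2 LD2_c0 LD3_c21)) :=
  Lgr Lrot25 (Lpr_bt (f188764 IH) (Lpr_ft (f188842 IH) (Lpr_bt (K10.f48036 IH) (Lpn (LP (LK LD1_c2 LD2_c0 LD3_c21))))))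
theorem f211424 : Led Lsl_gt (LP (LK LD1_c2 LD2_c0 LD3_c21)) = (LP (LK LD1_c2 LD2_c23 LD3_c11)) :=
  Lgr Lrot82 (Lpe (K10.f48036 IH) (Lpr_ct (K10.f53816 IH) (Lpr_gf (f211422 IH) (Lpe (f211415 IH) (Lpr_bt (K10.f28930 IH) (Lpr_gf (K9.f43115 IH) (Lpr_bf (K11.f199820 IH) (Lpe (K11.f199816 IH) (Lpe (K11.f173834 IH) (Lpr_cf (K11.f199586 IH) (Lpn (LP (LK LD1_c2 LD2_c23 LD3_c11)))))))))))))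
theorem f218112 : Led Lsl_gt (LP (LK LD1_c2 LD2_c23 LD3_c11)) = (LP (LK LD1_c2 LD2_c41 LD3_c1)) :=
  Lgr Lrot46 (Lpe (f211424 IH) (Lpe (f188844 IH) (Lpr_at (f218085 IH) (Lpn (LP (LK LD1_c2 LD2_c41 LD3_c1))))))
theorem f223027 : Led Lsl_ct (LP (LK LD1_c7 LD2_c58 LD3_c3)) = (LP (LK LD1_c3 LD2_c58 LD3_c20)) :=
  Lre_c IH (LK LD1_c7 LD2_c58 LD3_c3) (LK LD1_c3 LD2_c58 LD3_c20) Lrfl Lrfl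
theorem f223026 : Led Lsl_dt (LP (LK LD1_c3 LD2_c58 LD3_c20)) = (LP (LK LD1_c1 LD2_c55 LD3_c58)) :=
  Lre_d IH (LK LD1_c3 LD2_c58 LD3_c20) (LK LD1_c1 LD2_c55 LD3_c58) Lrfl Lrfl
theorem f173343 : Led Lsl_dt (LP (LK LD1_c0 LD2_c28 LD3_c35)) = (LP (LK LD1_c1 LD2_c2 LD3_c42)) :=
  Lre_d IH (LK LD1_c0 LD2_c28 LD3_c35) (LK LD1_c1 LD2_c2 LD3_c42) Lrfl Lrfl
theorem f228025 : Led Lsl_cf (LP (LK LD1_c1 LD2_c55 LD3_c58)) = (LP (LK LD1_c0 LD2_c57 LD3_c48)) :=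
  Lgr Lrot99 (Lpe (f223026 IH) (Lpe (f223027 IH) (Lpr_gf (f228019 IH) (Lpe (f178103 IH) (Lpe (f169294 IH) (Lpe (f173343 IH) (Lpr_gt (f182189 IH) (Lpr_ct (f28122 IH) (Lpr_gt (K9.f51615 IH) (Lpn (LP (LK LD1_c0 LD2_c57 LD3_c48))))))))))))
theorem f171177 : Led Lsl_bt (LP (LK LD1_c0 LD2_c57 LD3_c48)) = (LP (LK LD1_c1 LD2_c8 LD3_c52)) :=
  Lgr Lrot127 (Lpr_bf (K9.f171175 IH) (Lpn (LP (LK LD1_c1 LD2_c8 LD3_c52))))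
theorem f228938 : Led Lsl_gt (LP (LK LD1_c1 LD2_c8 LD3_c52)) = (LP (LK LD1_c0 LD2_c54 LD3_c20)) :=
  Lgr Lrot82 (Lpe (f171177 IH) (Lpe (f228025 IH) (Lpr_gf (f223064 IH) (Lpe (f212773 IH) (Lpr_bt (f212825 IH) (Lpe (f218112 IH) (Lpe (f167333 IH) (Lpe (f167334 IH) (Lpr_gf (f228930 IH) (Lpr_cf (K0.f29121 IH) (Lpn (LP (LK LD1_c0 LD2_c54 LD3_c20)))))))))))))
theorem f29021 : Led Lsl_bt (LP (LK LD1_c0 LD2_c27 LD3_c60)) = (LP (LK LD1_c1 LD2_c1 LD3_c10)) :=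
  Lre_b IH (LK LD1_c0 LD2_c27 LD3_c60) (LK LD1_c1 LD2_c1 LD3_c10) Lrfl Lrfl
theorem f229627 : Led Lsl_gt (LP (LK LD1_c1 LD2_c1 LD3_c10)) = (LP (LK LD1_c1 LD2_c55 LD3_c12)) :=
  Lgr Lrot82 (Lpe (f29021 IH) (Lpr_ct (K0.f29068 IH) (Lpe (f228938 IH) (Lpe (f2081 IH) (Lpr_bt (f229626 IH) (Lpr_gf (f229610 IH) (Lpe (f188697 IH) (Lpr_ct (f188696 IH) (Lpe (f229496 IH) (Lpe (f229476 IH) (Lpn (LP (LK LD1_c1 LD2_c55 LD3_c12)))))))))))))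
theorem f29025 : Led Lsl_et (LP (LK LD1_c0 LD2_c27 LD3_c58)) = (LP (LK LD1_c1 LD2_c1 LD3_c10)) :=
  Lre_e IH (LK LD1_c0 LD2_c27 LD3_c58) (LK LD1_c1 LD2_c1 LD3_c10) Lrfl Lrfl
theorem f229645 : Led Lsl_et (LP (LK LD1_c3 LD2_c56 LD3_c57)) = (LP (LK LD1_c1 LD2_c55 LD3_c12)) :=
  Lre_e IH (LK LD1_c3 LD2_c56 LD3_c57) (LK LD1_c1 LD2_c55 LD3_c12) Lrfl Lrfl
theorem f229646 : Led Lsl_df (LP (LK LD1_c2 LD2_c36 LD3_c11)) = (LP (LK LD1_c3 LD2_c56 LD3_c57)) :=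
  Lgr Lrot170 (Lpr_gt (f28268 IH) (Lpe (K1.f28253 IH) (Lpr_et (K1.f28243 IH) (Lpe (K10.f47488 IH) (Lpe (K10.f47517 IH) (Lpr_gt (K1.f47801 IH) (Lpe (K1.f29029 IH) (Lpr_et (f29025 IH) (Lpr_gt (f229627 IH) (Lpe (f229645 IH) (Lpn (LP (LK LD1_c3 LD2_c56 LD3_c57)))))))))))))
theorem f229651 : Led Lsl_dt (LP (LK LD1_c2 LD2_c36 LD3_c11)) = (LP (LK LD1_c3 LD2_c56 LD3_c57)) :=
  Lgr Lrot42 (Lpr_df (f229646 IH) (Lpn (LP (LK LD1_c3 LD2_c56 LD3_c57))))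
theorem f229052 : Led Lsl_ct (LP (LK LD1_c4 LD2_c54 LD3_c10)) = (LP (LK LD1_c2 LD2_c36 LD3_c11)) :=
  Lgr Lrot59 (Lpr_cf (f229049 IH) (Lpn (LP (LK LD1_c2 LD2_c36 LD3_c11))))
theorem f43757 : Led Lsl_ft (LP (LK LD1_c1 LD2_c9 LD3_c43)) = (LP (LK LD1_c2 LD2_c24 LD3_c61)) :=
  Lre_f IH (LK LD1_c1 LD2_c9 LD3_c43) (LK LD1_c2 LD2_c24 LD3_c61) Lrfl Lrfl
theorem f43794 : Led Lsl_gt (LP (LK LD1_c1 LD2_c9 LD3_c43)) = (LP (LK LD1_c2 LD2_c24 LD3_c59)) :=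
  Lre_g IH (LK LD1_c1 LD2_c9 LD3_c43) (LK LD1_c2 LD2_c24 LD3_c59) Lrfl Lrfl
theorem f43795 : Led Lsl_gf (LP (LK LD1_c2 LD2_c25 LD3_c7)) = (LP (LK LD1_c2 LD2_c24 LD3_c59)) :=
  Lgr Lrot76 (Lpr_af (K10.f43451 IH) (Lpe (f43757 IH) (Lpr_gt (f43794 IH) (Lpn (LP (LK LD1_c2 LD2_c24 LD3_c59))))))
theorem f184841 : Led Lsl_cf (LP (LK LD1_c2 LD2_c24 LD3_c55)) = (LP (LK LD1_c1 LD2_c15 LD3_c3)) :=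
  Lgr Lrot11 (Lpr_ct (K9.f184838 IH) (Lpn (LP (LK LD1_c1 LD2_c15 LD3_c3))))
theorem f43425 : Led Lsl_af (LP (LK LD1_c2 LD2_c25 LD3_c2)) = (LP (LK LD1_c2 LD2_c24 LD3_c57)) :=
  Lgr Lrot0 (Lpr_at (K9.f43411 IH) (Lpn (LP (LK LD1_c2 LD2_c24 LD3_c57))))
theorem f43821 : Led Lsl_gf (LP (LK LD1_c2 LD2_c25 LD3_c2)) = (LP (LK LD1_c2 LD2_c24 LD3_c55)) :=
  Lgr Lrot76 (Lpr_af (f43425 IH) (Lpe (K9.f43391 IH) (Lpr_gt (K9.f43820 IH) (Lpn (LP (LK LD1_c2 LD2_c24 LD3_c55))))))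
theorem f43288 : Led Lsl_dt (LP (LK LD1_c2 LD2_c25 LD3_c2)) = (LP (LK LD1_c4 LD2_c54 LD3_c19)) :=
  Lre_d IH (LK LD1_c2 LD2_c25 LD3_c2) (LK LD1_c4 LD2_c54 LD3_c19) Lrfl Lrfl
theorem f196333 : Led Lsl_bt (LP (LK LD1_c3 LD2_c57 LD3_c13)) = (LP (LK LD1_c1 LD2_c55 LD3_c23)) :=
  Lre_b IH (LK LD1_c3 LD2_c57 LD3_c13) (LK LD1_c1 LD2_c55 LD3_c23) Lrfl Lrfl
theorem f196334 : Led Lsl_dt (LP (LK LD1_c2 LD2_c31 LD3_c41)) = (LP (LK LD1_c3 LD2_c57 LD3_c13)) :=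
  Lgr Lrot79 (Lpe (f190447 IH) (Lpr_df (K10.f196331 IH) (Lpe (f196333 IH) (Lpn (LP (LK LD1_c3 LD2_c57 LD3_c13))))))
theorem f229917 : Led Lsl_ct (LP (LK LD1_c3 LD2_c57 LD3_c13)) = (LP (LK LD1_c3 LD2_c56 LD3_c57)) :=
  Lgr Lrot7 (Lpe (f196334 IH) (Lpe (f212310 IH) (Lpe (f43288 IH) (Lpr_gf (f43821 IH) (Lpr_cf (f184841 IH) (Lpr_gt (K9.f46363 IH) (Lpr_dt (K1.f45850 IH) (Lpe (f46530 IH) (Lpr_dt (f229651 IH) (Lpn (LP (LK LD1_c3 LD2_c56 LD3_c57))))))))))))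
theorem f229505 : Led Lsl_et (LP (LK LD1_c3 LD2_c57 LD3_c13)) = (LP (LK LD1_c1 LD2_c55 LD3_c21)) :=
  Lre_e IH (LK LD1_c3 LD2_c57 LD3_c13) (LK LD1_c1 LD2_c55 LD3_c21) Lrfl Lrfl
theorem f45788 : Led Lsl_gf (LP (LK LD1_c0 LD2_c57 LD3_c9)) = (LP (LK LD1_c0 LD2_c54 LD3_c37)) :=
  Lgr Lrot47 (Lpr_gt (K1.f45785 IH) (Lpe (K1.f43227 IH) (Lpr_ff (K1.f43235 IH) (Lpn (LP (LK LD1_c0 LD2_c54 LD3_c37))))))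
theorem f43393 : Led Lsl_et (LP (LK LD1_c1 LD2_c9 LD3_c41)) = (LP (LK LD1_c0 LD2_c32 LD3_c15)) :=
  Lre_e IH (LK LD1_c1 LD2_c9 LD3_c41) (LK LD1_c0 LD2_c32 LD3_c15) Lrfl Lrfl
theorem f229506 : Led Lsl_dt (LP (LK LD1_c3 LD2_c57 LD3_c13)) = (LP (LK LD1_c2 LD2_c31 LD3_c41)) :=
  Lgr Lrot136 (Lpr_et (f229505 IH) (Lpr_gf (f229485 IH) (Lpe (f44504 IH) (Lpe (K8.f47502 IH) (Lpr_gf (f45788 IH) (Lpe (K10.f43268 IH) (Lpr_gf (K1.f44542 IH) (Lpe (f43393 IH) (Lpr_dt (K9.f43548 IH) (Lpr_gf (f212308 IH) (Lpn (LP (LK LD1_c2 LD2_c31 LD3_c41)))))))))))))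
theorem f171211 : Led Lsl_bt (LP (LK LD1_c0 LD2_c33 LD3_c57)) = (LP (LK LD1_c1 LD2_c13 LD3_c12)) :=
  Lre_b IH (LK LD1_c0 LD2_c33 LD3_c57) (LK LD1_c1 LD2_c13 LD3_c12) Lrfl Lrfl
theorem f190783 : Led Lsl_gt (LP (LK LD1_c1 LD2_c13 LD3_c12)) = (LP (LK LD1_c1 LD2_c9 LD3_c43)) :=
  Lgr Lrot164 (Lpe (f171211 IH) (Lpr_ct (K10.f165256 IH) (Lpe (f180739 IH) (Lpe (K2.f32271 IH) (Lpr_gf (K9.f32807 IH) (Lpe (K10.f32809 IH) (Lpr_ct (K10.f32812 IH) (Lpr_gf (K10.f190780 IH) (Lpe (K9.f44395 IH) (Lpr_bt (K1.f43464 IH) (Lpn (LP (LK LD1_c1 LD2_c9 LD3_c43)))))))))))))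
theorem f171216 : Led Lsl_et (LP (LK LD1_c0 LD2_c12 LD3_c8)) = (LP (LK LD1_c0 LD2_c27 LD3_c25)) :=
  Lre_e IH (LK LD1_c0 LD2_c12 LD3_c8) (LK LD1_c0 LD2_c27 LD3_c25) Lrfl Lrfl
theorem f171217 : Led Lsl_et (LP (LK LD1_c1 LD2_c0 LD3_c22)) = (LP (LK LD1_c0 LD2_c27 LD3_c24)) :=
  Lre_e IH (LK LD1_c1 LD2_c0 LD3_c22) (LK LD1_c0 LD2_c27 LD3_c24) Lrfl Lrfl
theorem f171218 : Led Lsl_et (LP (LK LD1_c0 LD2_c33 LD3_c57)) = (LP (LK LD1_c1 LD2_c13 LD3_c14)) :=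
  Lre_e IH (LK LD1_c0 LD2_c33 LD3_c57) (LK LD1_c1 LD2_c13 LD3_c14) Lrfl Lrfl
theorem f171219 : Led Lsl_df (LP (LK LD1_c1 LD2_c0 LD3_c22)) = (LP (LK LD1_c1 LD2_c13 LD3_c14)) :=
  Lgr Lrot70 (Lpr_et (f171217 IH) (Lpr_dt (K9.f171202 IH) (Lpr_et (f171216 IH) (Lpr_dt (K9.f171208 IH) (Lpr_et (f171218 IH) (Lpn (LP (LK LD1_c1 LD2_c13 LD3_c14))))))))
theorem f171328 : Led Lsl_ft (LP (LK LD1_c1 LD2_c0 LD3_c22)) = (LP (LK LD1_c2 LD2_c6 LD3_c52)) :=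
  Lre_f IH (LK LD1_c1 LD2_c0 LD3_c22) (LK LD1_c2 LD2_c6 LD3_c52) Lrfl Lrfl
theorem f171329 : Led Lsl_ft (LP (LK LD1_c2 LD2_c32 LD3_c34)) = (LP (LK LD1_c1 LD2_c13 LD3_c14)) :=
  Lre_f IH (LK LD1_c2 LD2_c32 LD3_c34) (LK LD1_c1 LD2_c13 LD3_c14) Lrfl Lrfl
theorem f171330 : Led Lsl_dt (LP (LK LD1_c2 LD2_c6 LD3_c52)) = (LP (LK LD1_c2 LD2_c32 LD3_c34)) :=
  Lgr Lrot60 (Lpe (f171328 IH) (Lpr_df (f171219 IH) (Lpe (f171329 IH) (Lpn (LP (LK LD1_c2 LD2_c32 LD3_c34))))))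
theorem f171400 : Led Lsl_df (LP (LK LD1_c2 LD2_c6 LD3_c52)) = (LP (LK LD1_c2 LD2_c32 LD3_c34)) :=
  Lgr Lrot38 (Lpr_dt (f171330 IH) (Lpn (LP (LK LD1_c2 LD2_c32 LD3_c34))))
theorem f171405 : Led Lsl_bt (LP (LK LD1_c2 LD2_c6 LD3_c52)) = (LP (LK LD1_c4 LD2_c18 LD3_c54)) :=
  Lre_b IH (LK LD1_c2 LD2_c6 LD3_c52) (LK LD1_c4 LD2_c18 LD3_c54) Lrfl Lrfl
theorem f171406 : Led Lsl_bt (LP (LK LD1_c5 LD2_c10 LD3_c58)) = (LP (LK LD1_c2 LD2_c32 LD3_c34)) :=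
  Lre_b IH (LK LD1_c5 LD2_c10 LD3_c58) (LK LD1_c2 LD2_c32 LD3_c34) Lrfl Lrfl
theorem f171407 : Led Lsl_dt (LP (LK LD1_c4 LD2_c18 LD3_c54)) = (LP (LK LD1_c5 LD2_c10 LD3_c58)) :=
  Lgr Lrot79 (Lpe (f171405 IH) (Lpr_df (f171400 IH) (Lpe (f171406 IH) (Lpn (LP (LK LD1_c5 LD2_c10 LD3_c58))))))
theorem f171411 : Led Lsl_ft (LP (LK LD1_c2 LD2_c6 LD3_c42)) = (LP (LK LD1_c4 LD2_c18 LD3_c54)) :=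
  Lre_f IH (LK LD1_c2 LD2_c6 LD3_c42) (LK LD1_c4 LD2_c18 LD3_c54) Lrfl Lrfl
theorem f171412 : Led Lsl_ft (LP (LK LD1_c5 LD2_c10 LD3_c58)) = (LP (LK LD1_c2 LD2_c32 LD3_c28)) :=
  Lre_f IH (LK LD1_c5 LD2_c10 LD3_c58) (LK LD1_c2 LD2_c32 LD3_c28) Lrfl Lrfl
theorem f171413 : Led Lsl_df (LP (LK LD1_c2 LD2_c6 LD3_c42)) = (LP (LK LD1_c2 LD2_c32 LD3_c28)) :=
  Lgr Lrot78 (Lpr_ft (f171411 IH) (Lpr_dt (f171407 IH) (Lpr_ft (f171412 IH) (Lpn (LP (LK LD1_c2 LD2_c32 LD3_c28))))))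
theorem f171435 : Led Lsl_et (LP (LK LD1_c2 LD2_c6 LD3_c42)) = (LP (LK LD1_c1 LD2_c0 LD3_c18)) :=
  Lre_e IH (LK LD1_c2 LD2_c6 LD3_c42) (LK LD1_c1 LD2_c0 LD3_c18) Lrfl Lrfl
theorem f171436 : Led Lsl_dt (LP (LK LD1_c1 LD2_c0 LD3_c18)) = (LP (LK LD1_c0 LD2_c27 LD3_c23)) :=
  Lre_d IH (LK LD1_c1 LD2_c0 LD3_c18) (LK LD1_c0 LD2_c27 LD3_c23) Lrfl Lrfl
theorem f171437 : Led Lsl_et (LP (LK LD1_c0 LD2_c27 LD3_c23)) = (LP (LK LD1_c1 LD2_c0 LD3_c19)) :=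
  Lre_e IH (LK LD1_c0 LD2_c27 LD3_c23) (LK LD1_c1 LD2_c0 LD3_c19) Lrfl Lrfl
theorem f171438 : Led Lsl_et (LP (LK LD1_c1 LD2_c13 LD3_c12)) = (LP (LK LD1_c2 LD2_c32 LD3_c28)) :=
  Lre_e IH (LK LD1_c1 LD2_c13 LD3_c12) (LK LD1_c2 LD2_c32 LD3_c28) Lrfl Lrfl
theorem f171439 : Led Lsl_dt (LP (LK LD1_c1 LD2_c0 LD3_c19)) = (LP (LK LD1_c1 LD2_c13 LD3_c12)) :=
  Lgr Lrot77 (Lpe (f171437 IH) (Lpe (f171436 IH) (Lpe (f171435 IH) (Lpr_df (f171413 IH) (Lpe (f171438 IH) (Lpn (LP (LK LD1_c1 LD2_c13 LD3_c12))))))))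
theorem f171472 : Led Lsl_gt (LP (LK LD1_c2 LD2_c6 LD3_c44)) = (LP (LK LD1_c1 LD2_c0 LD3_c19)) :=
  Lre_g IH (LK LD1_c2 LD2_c6 LD3_c44) (LK LD1_c1 LD2_c0 LD3_c19) Lrfl Lrfl
theorem f171476 : Led Lsl_ct (LP (LK LD1_c4 LD2_c18 LD3_c58)) = (LP (LK LD1_c2 LD2_c6 LD3_c44)) :=
  Lre_c IH (LK LD1_c4 LD2_c18 LD3_c58) (LK LD1_c2 LD2_c6 LD3_c44) Lrfl Lrfl
theorem f229516 : Led Lsl_gf (LP (LK LD1_c3 LD2_c57 LD3_c13)) = (LP (LK LD1_c4 LD2_c18 LD3_c58)) :=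
  Lgr Lrot144 (Lpr_dt (f229506 IH) (Lpe (f212308 IH) (Lpr_dt (K9.f43408 IH) (Lpe (K10.f43405 IH) (Lpe (K1.f43549 IH) (Lpe (f190783 IH) (Lpe (f171439 IH) (Lpe (f171472 IH) (Lpe (f171476 IH) (Lpn (LP (LK LD1_c4 LD2_c18 LD3_c58))))))))))))
theorem f171473 : Led Lsl_ct (LP (LK LD1_c2 LD2_c6 LD3_c44)) = (LP (LK LD1_c4 LD2_c18 LD3_c58)) :=
  Lre_c IH (LK LD1_c2 LD2_c6 LD3_c44) (LK LD1_c4 LD2_c18 LD3_c58) Lrfl Lrfl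
theorem f229518 : Led Lsl_gt (LP (LK LD1_c4 LD2_c18 LD3_c41)) = (LP (LK LD1_c2 LD2_c6 LD3_c44)) :=
  Lre_g IH (LK LD1_c4 LD2_c18 LD3_c41) (LK LD1_c2 LD2_c6 LD3_c44) Lrfl Lrfl
theorem f229921 : Led Lsl_df (LP (LK LD1_c2 LD2_c24 LD3_c59)) = (LP (LK LD1_c4 LD2_c18 LD3_c41)) :=
  Lgr Lrot155 (Lpe (f43795 IH) (Lpr_ct (f43506 IH) (Lpr_gt (f43495 IH) (Lpr_ct (f229052 IH) (Lpr_dt (f229651 IH) (Lpe (f229917 IH) (Lpr_gf (f229516 IH) (Lpe (f171473 IH) (Lpe (f229518 IH) (Lpn (LP (LK LD1_c4 LD2_c18 LD3_c41))))))))))))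
theorem f229924 : Led Lsl_dt (LP (LK LD1_c2 LD2_c24 LD3_c59)) = (LP (LK LD1_c4 LD2_c18 LD3_c41)) :=
  Lgr Lrot42 (Lpr_df (f229921 IH) (Lpn (LP (LK LD1_c4 LD2_c18 LD3_c41))))
theorem f28287 : Led Lsl_dt (LP (LK LD1_c0 LD2_c34 LD3_c58)) = (LP (LK LD1_c1 LD2_c15 LD3_c21)) :=
  Lre_d IH (LK LD1_c0 LD2_c34 LD3_c58) (LK LD1_c1 LD2_c15 LD3_c21) Lrfl Lrfl
theorem f189554 : Led Lsl_cf (LP (LK LD1_c0 LD2_c33 LD3_c53)) = (LP (LK LD1_c0 LD2_c33 LD3_c24)) :=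
  Lgr Lrot169 (Lpr_gt (K10.f189543 IH) (Lpr_ct (K10.f43405 IH) (Lpe (K9.f43408 IH) (Lpe (K9.f43500 IH) (Lpe (K9.f184102 IH) (Lpe (K9.f32858 IH) (Lpr_gf (K9.f184226 IH) (Lpe (f28287 IH) (Lpe (K10.f184616 IH) (Lpn (LP (LK LD1_c0 LD2_c33 LD3_c24))))))))))))
theorem f44265 : Led Lsl_gt (LP (LK LD1_c0 LD2_c34 LD3_c53)) = (LP (LK LD1_c1 LD2_c15 LD3_c12)) :=
  Lre_g IH (LK LD1_c0 LD2_c34 LD3_c53) (LK LD1_c1 LD2_c15 LD3_c12) Lrfl Lrfl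
theorem f44266 : Led Lsl_dt (LP (LK LD1_c1 LD2_c15 LD3_c12)) = (LP (LK LD1_c2 LD2_c36 LD3_c22)) :=
  Lre_d IH (LK LD1_c1 LD2_c15 LD3_c12) (LK LD1_c2 LD2_c36 LD3_c22) Lrfl Lrfl
theorem f230272 : Led Lsl_cf (LP (LK LD1_c2 LD2_c36 LD3_c22)) = (LP (LK LD1_c4 LD2_c18 LD3_c41)) :=
  Lgr Lrot14 (Lpe (f44266 IH) (Lpe (f44265 IH) (Lpe (K1.f44047 IH) (Lpe (K10.f184620 IH) (Lpe (f189554 IH) (Lpr_gt (K10.f189543 IH) (Lpr_dt (K9.f43345 IH) (Lpr_gt (f43794 IH) (Lpr_dt (f229924 IH) (Lpn (LP (LK LD1_c4 LD2_c18 LD3_c41))))))))))))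
theorem f43797 : Led Lsl_ct (LP (LK LD1_c4 LD2_c54 LD3_c7)) = (LP (LK LD1_c2 LD2_c24 LD3_c59)) :=
  Lre_c IH (LK LD1_c4 LD2_c54 LD3_c7) (LK LD1_c2 LD2_c24 LD3_c59) Lrfl Lrfl
theorem f229931 : Led Lsl_dt (LP (LK LD1_c9 LD2_c39 LD3_c40)) = (LP (LK LD1_c4 LD2_c54 LD3_c7)) :=
  Lre_d IH (LK LD1_c9 LD2_c39 LD3_c40) (LK LD1_c4 LD2_c54 LD3_c7) Lrfl Lrfl
theorem f43798 : Led Lsl_ct (LP (LK LD1_c2 LD2_c24 LD3_c59)) = (LP (LK LD1_c4 LD2_c54 LD3_c7)) :=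
  Lre_c IH (LK LD1_c2 LD2_c24 LD3_c59) (LK LD1_c4 LD2_c54 LD3_c7) Lrfl Lrfl
theorem f229923 : Led Lsl_dt (LP (LK LD1_c4 LD2_c54 LD3_c7)) = (LP (LK LD1_c9 LD2_c39 LD3_c40)) :=
  Lre_d IH (LK LD1_c4 LD2_c54 LD3_c7) (LK LD1_c9 LD2_c39 LD3_c40) Lrfl Lrfl
theorem f229928 : Led Lsl_ft (LP (LK LD1_c4 LD2_c18 LD3_c41)) = (LP (LK LD1_c2 LD2_c6 LD3_c38)) :=
  Lre_f IH (LK LD1_c4 LD2_c18 LD3_c41) (LK LD1_c2 LD2_c6 LD3_c38) Lrfl Lrfl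
theorem f171467 : Led Lsl_at (LP (LK LD1_c2 LD2_c6 LD3_c38)) = (LP (LK LD1_c1 LD2_c0 LD3_c19)) :=
  Lre_a IH (LK LD1_c2 LD2_c6 LD3_c38) (LK LD1_c1 LD2_c0 LD3_c19) Lrfl Lrfl
theorem f171481 : Led Lsl_et (LP (LK LD1_c1 LD2_c0 LD3_c19)) = (LP (LK LD1_c0 LD2_c27 LD3_c23)) :=
  Lre_e IH (LK LD1_c1 LD2_c0 LD3_c19) (LK LD1_c0 LD2_c27 LD3_c23) Lrfl Lrfl
theorem f187065 : Led Lsl_cf (LP (LK LD1_c1 LD2_c0 LD3_c19)) = (LP (LK LD1_c0 LD2_c59 LD3_c53)) :=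
  Lgr Lrot39 (Lpr_et (f171481 IH) (Lpr_ct (K10.f187019 IH) (Lpr_et (K10.f169378 IH) (Lpn (LP (LK LD1_c0 LD2_c59 LD3_c53))))))
theorem f167615 : Led Lsl_bt (LP (LK LD1_c0 LD2_c59 LD3_c53)) = (LP (LK LD1_c0 LD2_c27 LD3_c15)) :=
  Lre_b IH (LK LD1_c0 LD2_c59 LD3_c53) (LK LD1_c0 LD2_c27 LD3_c15) Lrfl Lrfl
theorem f165893 : Led Lsl_bt (LP (LK LD1_c0 LD2_c34 LD3_c32)) = (LP (LK LD1_c1 LD2_c14 LD3_c29)) :=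
  Lre_b IH (LK LD1_c0 LD2_c34 LD3_c32) (LK LD1_c1 LD2_c14 LD3_c29) Lrfl Lrfl
theorem f167616 : Led Lsl_df (LP (LK LD1_c0 LD2_c59 LD3_c53)) = (LP (LK LD1_c1 LD2_c14 LD3_c29)) :=
  Lgr Lrot12 (Lpr_bt (f167615 IH) (Lpr_dt (K9.f167613 IH) (Lpr_bt (f165893 IH) (Lpn (LP (LK LD1_c1 LD2_c14 LD3_c29))))))
theorem f165996 : Led Lsl_dt (LP (LK LD1_c5 LD2_c16 LD3_c27)) = (LP (LK LD1_c2 LD2_c34 LD3_c60)) :=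
  Lre_d IH (LK LD1_c5 LD2_c16 LD3_c27) (LK LD1_c2 LD2_c34 LD3_c60) Lrfl Lrfl
theorem f229929 : Led Lsl_ct (LP (LK LD1_c9 LD2_c39 LD3_c40)) = (LP (LK LD1_c5 LD2_c16 LD3_c27)) :=
  Lgr Lrot41 (Lpe (f229923 IH) (Lpe (f43798 IH) (Lpr_df (f229921 IH) (Lpr_ft (f229928 IH) (Lpr_at (f171467 IH) (Lpr_cf (f187065 IH) (Lpr_df (f167616 IH) (Lpe (K9.f165881 IH) (Lpe (f165996 IH) (Lpn (LP (LK LD1_c5 LD2_c16 LD3_c27))))))))))))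
theorem f230240 : Led Lsl_cf (LP (LK LD1_c9 LD2_c39 LD3_c40)) = (LP (LK LD1_c5 LD2_c16 LD3_c27)) :=
  Lgr Lrot11 (Lpr_ct (f229929 IH) (Lpn (LP (LK LD1_c5 LD2_c16 LD3_c27))))
theorem f166057 : Led Lsl_dt (LP (LK LD1_c2 LD2_c34 LD3_c60)) = (LP (LK LD1_c5 LD2_c16 LD3_c27)) :=
  Lre_d IH (LK LD1_c2 LD2_c34 LD3_c60) (LK LD1_c5 LD2_c16 LD3_c27) Lrfl Lrfl
theorem f169403 : Led Lsl_ft (LP (LK LD1_c0 LD2_c59 LD3_c53)) = (LP (LK LD1_c2 LD2_c5 LD3_c47)) :=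
  Lre_f IH (LK LD1_c0 LD2_c59 LD3_c53) (LK LD1_c2 LD2_c5 LD3_c47) Lrfl Lrfl
theorem f230280 : Led Lsl_af (LP (LK LD1_c2 LD2_c36 LD3_c22)) = (LP (LK LD1_c2 LD2_c5 LD3_c47)) :=
  Lgr Lrot109 (Lpr_cf (f230272 IH) (Lpe (f229924 IH) (Lpe (f43797 IH) (Lpe (f229931 IH) (Lpr_cf (f230240 IH) (Lpe (f166057 IH) (Lpe (K9.f32858 IH) (Lpe (K10.f169380 IH) (Lpr_ft (f169403 IH) (Lpn (LP (LK LD1_c2 LD2_c5 LD3_c47))))))))))))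
theorem f169400 : Led Lsl_at (LP (LK LD1_c2 LD2_c5 LD3_c40)) = (LP (LK LD1_c0 LD2_c59 LD3_c53)) :=
  Lre_a IH (LK LD1_c2 LD2_c5 LD3_c40) (LK LD1_c0 LD2_c59 LD3_c53) Lrfl Lrfl
theorem f230286 : Led Lsl_ft (LP (LK LD1_c2 LD2_c36 LD3_c22)) = (LP (LK LD1_c2 LD2_c5 LD3_c40)) :=
  Lgr Lrot101 (Lpr_af (f230280 IH) (Lpe (f169403 IH) (Lpe (f169400 IH) (Lpn (LP (LK LD1_c2 LD2_c5 LD3_c40))))))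
theorem f229927 : Led Lsl_ft (LP (LK LD1_c2 LD2_c6 LD3_c38)) = (LP (LK LD1_c4 LD2_c18 LD3_c41)) :=
  Lre_f IH (LK LD1_c2 LD2_c6 LD3_c38) (LK LD1_c4 LD2_c18 LD3_c41) Lrfl Lrfl
theorem f230294 : Led Lsl_cf (LP (LK LD1_c2 LD2_c6 LD3_c38)) = (LP (LK LD1_c2 LD2_c5 LD3_c40)) :=
  Lgr Lrot108 (Lpr_ft (f229927 IH) (Lpe (f230272 IH) (Lpr_ft (f230286 IH) (Lpn (LP (LK LD1_c2 LD2_c5 LD3_c40))))))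
theorem f169434 : Led Lsl_at (LP (LK LD1_c0 LD2_c59 LD3_c53)) = (LP (LK LD1_c2 LD2_c5 LD3_c40)) :=
  Lre_a IH (LK LD1_c0 LD2_c59 LD3_c53) (LK LD1_c2 LD2_c5 LD3_c40) Lrfl Lrfl
theorem f230307 : Led Lsl_ct (LP (LK LD1_c1 LD2_c0 LD3_c19)) = (LP (LK LD1_c0 LD2_c59 LD3_c53)) :=
  Lgr Lrot111 (Lpe (f171467 IH) (Lpr_cf (f230294 IH) (Lpe (f169434 IH) (Lpn (LP (LK LD1_c0 LD2_c59 LD3_c53))))))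
theorem f229932 : Led Lsl_gt (LP (LK LD1_c2 LD2_c6 LD3_c43)) = (LP (LK LD1_c4 LD2_c18 LD3_c41)) :=
  Lre_g IH (LK LD1_c2 LD2_c6 LD3_c43) (LK LD1_c4 LD2_c18 LD3_c41) Lrfl Lrfl
theorem f229933 : Led Lsl_ct (LP (LK LD1_c4 LD2_c18 LD3_c56)) = (LP (LK LD1_c2 LD2_c6 LD3_c43)) :=
  Lre_c IH (LK LD1_c4 LD2_c18 LD3_c56) (LK LD1_c2 LD2_c6 LD3_c43) Lrfl Lrfl
theorem f169337 : Led Lsl_gt (LP (LK LD1_c4 LD2_c18 LD3_c56)) = (LP (LK LD1_c8 LD2_c36 LD3_c33)) :=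
  Lre_g IH (LK LD1_c4 LD2_c18 LD3_c56) (LK LD1_c8 LD2_c36 LD3_c33) Lrfl Lrfl
theorem f229934 : Led Lsl_df (LP (LK LD1_c4 LD2_c54 LD3_c2)) = (LP (LK LD1_c8 LD2_c36 LD3_c33)) :=
  Lgr Lrot153 (Lpe (K9.f43811 IH) (Lpr_dt (K9.f43286 IH) (Lpe (K10.f43282 IH) (Lpe (K9.f43296 IH) (Lpr_gf (f43795 IH) (Lpr_df (f229921 IH) (Lpe (f229932 IH) (Lpe (f229933 IH) (Lpr_gt (f169337 IH) (Lpn (LP (LK LD1_c8 LD2_c36 LD3_c33))))))))))))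
theorem f230324 : Led Lsl_gf (LP (LK LD1_c4 LD2_c18 LD3_c58)) = (LP (LK LD1_c8 LD2_c36 LD3_c33)) :=
  Lgr Lrot147 (Lpr_ct (f171476 IH) (Lpr_gt (f171472 IH) (Lpr_ct (f230307 IH) (Lpr_df (f167616 IH) (Lpe (K9.f165881 IH) (Lpe (K9.f166115 IH) (Lpr_cf (K9.f184081 IH) (Lpr_gf (K9.f43811 IH) (Lpr_df (f229934 IH) (Lpn (LP (LK LD1_c8 LD2_c36 LD3_c33))))))))))))
theorem f229508 : Led Lsl_at (LP (LK LD1_c7 LD2_c56 LD3_c4)) = (LP (LK LD1_c3 LD2_c57 LD3_c13)) :=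
  Lre_a IH (LK LD1_c7 LD2_c56 LD3_c4) (LK LD1_c3 LD2_c57 LD3_c13) Lrfl Lrfl
theorem f230326 : Led Lsl_ff (LP (LK LD1_c7 LD2_c56 LD3_c4)) = (LP (LK LD1_c8 LD2_c36 LD3_c33)) :=
  Lgr Lrot52 (Lpr_at (f229508 IH) (Lpr_gf (f229516 IH) (Lpr_gf (f230324 IH) (Lpn (LP (LK LD1_c8 LD2_c36 LD3_c33))))))
theorem f229515 : Led Lsl_ft (LP (LK LD1_c3 LD2_c57 LD3_c13)) = (LP (LK LD1_c7 LD2_c56 LD3_c7)) :=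
  Lre_f IH (LK LD1_c3 LD2_c57 LD3_c13) (LK LD1_c7 LD2_c56 LD3_c7) Lrfl Lrfl
theorem f230328 : Led Lsl_at (LP (LK LD1_c7 LD2_c56 LD3_c7)) = (LP (LK LD1_c8 LD2_c36 LD3_c33)) :=
  Lgr Lrot66 (Lpe (f229515 IH) (Lpe (f229508 IH) (Lpr_ff (f230326 IH) (Lpn (LP (LK LD1_c8 LD2_c36 LD3_c33))))))
theorem f230412 : Led Lsl_gt (LP (LK LD1_c3 LD2_c57 LD3_c13)) = (LP (LK LD1_c4 LD2_c18 LD3_c56)) :=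
  Lgr Lrot5 (Lpr_ft (f229515 IH) (Lpr_at (f230328 IH) (Lpe (f169337 IH) (Lpn (LP (LK LD1_c4 LD2_c18 LD3_c56))))))
theorem f230222 : Led Lsl_ct (LP (LK LD1_c2 LD2_c36 LD3_c21)) = (LP (LK LD1_c1 LD2_c15 LD3_c12)) :=
  Lre_c IH (LK LD1_c2 LD2_c36 LD3_c21) (LK LD1_c1 LD2_c15 LD3_c12) Lrfl Lrfl
theorem f230414 : Led Lsl_gt (LP (LK LD1_c4 LD2_c54 LD3_c3)) = (LP (LK LD1_c2 LD2_c36 LD3_c21)) :=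
  Lgr Lrot150 (Lpe (K9.f43514 IH) (Lpr_gf (f212308 IH) (Lpe (f229506 IH) (Lpr_gt (f230412 IH) (Lpr_ct (f229933 IH) (Lpr_gt (f229932 IH) (Lpe (f230272 IH) (Lpe (f44266 IH) (Lpe (f230222 IH) (Lpn (LP (LK LD1_c2 LD2_c36 LD3_c21))))))))))))
theorem f48269 : Led Lsl_ct (LP (LK LD1_c0 LD2_c34 LD3_c44)) = (LP (LK LD1_c1 LD2_c14 LD3_c55)) :=
  Lre_c IH (LK LD1_c0 LD2_c34 LD3_c44) (LK LD1_c1 LD2_c14 LD3_c55) Lrfl Lrfl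
theorem f185504 : Led Lsl_gt (LP (LK LD1_c2 LD2_c35 LD3_c50)) = (LP (LK LD1_c5 LD2_c18 LD3_c20)) :=
  Lre_g IH (LK LD1_c2 LD2_c35 LD3_c50) (LK LD1_c5 LD2_c18 LD3_c20) Lrfl Lrfl
theorem f191564 : Led Lsl_ct (LP (LK LD1_c4 LD2_c54 LD3_c4)) = (LP (LK LD1_c5 LD2_c18 LD3_c20)) :=
  Lgr Lrot10 (Lpr_bt (K9.f50027 IH) (Lpe (K10.f53602 IH) (Lpr_ct (K10.f191519 IH) (Lpr_gt (K10.f48933 IH) (Lpe (f48269 IH) (Lpr_bt (K9.f32439 IH) (Lpr_gt (K10.f32885 IH) (Lpe (K10.f32888 IH) (Lpr_ct (K10.f32891 IH) (Lpr_gt (f185504 IH) (Lpn (LP (LK LD1_c5 LD2_c18 LD3_c20)))))))))))))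
theorem f191578 : Led Lsl_ff (LP (LK LD1_c4 LD2_c54 LD3_c3)) = (LP (LK LD1_c5 LD2_c18 LD3_c20)) :=
  Lgr Lrot23 (Lpr_ct (K9.f43500 IH) (Lpr_ft (K9.f43809 IH) (Lpr_ct (f191564 IH) (Lpn (LP (LK LD1_c5 LD2_c18 LD3_c20))))))
theorem f191585 : Led Lsl_ft (LP (LK LD1_c4 LD2_c54 LD3_c3)) = (LP (LK LD1_c5 LD2_c18 LD3_c20)) :=
  Lgr Lrot48 (Lpr_ff (f191578 IH) (Lpn (LP (LK LD1_c5 LD2_c18 LD3_c20))))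
theorem f184084 : Led Lsl_ct (LP (LK LD1_c5 LD2_c16 LD3_c26)) = (LP (LK LD1_c4 LD2_c54 LD3_c19)) :=
  Lgr Lrot59 (Lpr_cf (K9.f184081 IH) (Lpn (LP (LK LD1_c4 LD2_c54 LD3_c19))))
theorem f191566 : Led Lsl_af (LP (LK LD1_c5 LD2_c16 LD3_c26)) = (LP (LK LD1_c5 LD2_c18 LD3_c20)) :=
  Lgr Lrot68 (Lpr_ct (f184084 IH) (Lpe (f43552 IH) (Lpr_ct (f191564 IH) (Lpn (LP (LK LD1_c5 LD2_c18 LD3_c20))))))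
theorem f230416 : Led Lsl_gf (LP (LK LD1_c5 LD2_c16 LD3_c26)) = (LP (LK LD1_c2 LD2_c36 LD3_c21)) :=
  Lgr Lrot76 (Lpr_af (f191566 IH) (Lpe (f191585 IH) (Lpr_gt (f230414 IH) (Lpn (LP (LK LD1_c2 LD2_c36 LD3_c21))))))
theorem f43814 : Led Lsl_gt (LP (LK LD1_c0 LD2_c32 LD3_c16)) = (LP (LK LD1_c1 LD2_c9 LD3_c42)) :=
  Lre_g IH (LK LD1_c0 LD2_c32 LD3_c16) (LK LD1_c1 LD2_c9 LD3_c42) Lrfl Lrfl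
theorem f43815 : Led Lsl_gf (LP (LK LD1_c1 LD2_c9 LD3_c48)) = (LP (LK LD1_c1 LD2_c9 LD3_c42)) :=
  Lgr Lrot76 (Lpr_af (K10.f43427 IH) (Lpe (K9.f43339 IH) (Lpr_gt (f43814 IH) (Lpn (LP (LK LD1_c1 LD2_c9 LD3_c42))))))
theorem f230278 : Led Lsl_ct (LP (LK LD1_c1 LD2_c15 LD3_c12)) = (LP (LK LD1_c2 LD2_c36 LD3_c21)) :=
  Lre_c IH (LK LD1_c1 LD2_c15 LD3_c12) (LK LD1_c2 LD2_c36 LD3_c21) Lrfl Lrfl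
theorem f230425 : Led Lsl_cf (LP (LK LD1_c1 LD2_c9 LD3_c42)) = (LP (LK LD1_c0 LD2_c34 LD3_c52)) :=
  Lgr Lrot169 (Lpe (f43815 IH) (Lpr_ct (K10.f43282 IH) (Lpe (K9.f43286 IH) (Lpe (f184084 IH) (Lpr_gf (f230416 IH) (Lpe (f230278 IH) (Lpe (f44265 IH) (Lpe (K1.f44047 IH) (Lpr_gt (K9.f28274 IH) (Lpn (LP (LK LD1_c0 LD2_c34 LD3_c52))))))))))))
theorem f43829 : Led Lsl_bt (LP (LK LD1_c0 LD2_c32 LD3_c16)) = (LP (LK LD1_c1 LD2_c9 LD3_c40)) :=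
  Lre_b IH (LK LD1_c0 LD2_c32 LD3_c16) (LK LD1_c1 LD2_c9 LD3_c40) Lrfl Lrfl
theorem f190878 : Led Lsl_gt (LP (LK LD1_c1 LD2_c12 LD3_c51)) = (LP (LK LD1_c1 LD2_c9 LD3_c41)) :=
  Lgr Lrot65 (Lpr_cf (K10.f190282 IH) (Lpr_bt (f184663 IH) (Lpr_gf (K10.f190874 IH) (Lpr_bf (K1.f47094 IH) (Lpe (K1.f47104 IH) (Lpe (K10.f47205 IH) (Lpr_cf (K10.f190865 IH) (Lpe (K10.f44455 IH) (Lpe (f43829 IH) (Lpr_ct (K10.f43405 IH) (Lpn (LP (LK LD1_c1 LD2_c9 LD3_c41)))))))))))))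
theorem f190271 : Led Lsl_bt (LP (LK LD1_c0 LD2_c33 LD3_c48)) = (LP (LK LD1_c1 LD2_c12 LD3_c51)) :=
  Lre_b IH (LK LD1_c0 LD2_c33 LD3_c48) (LK LD1_c1 LD2_c12 LD3_c51) Lrfl Lrfl
theorem f230433 : Led Lsl_bf (LP (LK LD1_c1 LD2_c2 LD3_c24)) = (LP (LK LD1_c0 LD2_c34 LD3_c52)) :=
  Lgr Lrot156 (Lpe (K10.f46163 IH) (Lpe (K1.f47096 IH) (Lpe (K10.f46948 IH) (Lpe (K10.f47082 IH) (Lpr_cf (K10.f190272 IH) (Lpr_bt (f190271 IH) (Lpr_gt (f190878 IH) (Lpr_ct (K9.f43499 IH) (Lpr_gt (f43814 IH) (Lpr_cf (f230425 IH) (Lpn (LP (LK LD1_c0 LD2_c34 LD3_c52)))))))))))))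
theorem f230435 : Led Lsl_bt (LP (LK LD1_c1 LD2_c2 LD3_c24)) = (LP (LK LD1_c0 LD2_c34 LD3_c52)) :=
  Lgr Lrot127 (Lpr_bf (f230433 IH) (Lpn (LP (LK LD1_c0 LD2_c34 LD3_c52))))
theorem f187538 : Led Lsl_cf (LP (LK LD1_c1 LD2_c15 LD3_c41)) = (LP (LK LD1_c1 LD2_c2 LD3_c24)) :=
  Lgr Lrot11 (Lpr_ct (K10.f187535 IH) (Lpn (LP (LK LD1_c1 LD2_c2 LD3_c24))))
theorem f31527 : Led Lsl_gt (LP (LK LD1_c1 LD2_c9 LD3_c46)) = (LP (LK LD1_c0 LD2_c32 LD3_c18)) :=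
  Lre_g IH (LK LD1_c1 LD2_c9 LD3_c46) (LK LD1_c0 LD2_c32 LD3_c18) Lrfl Lrfl
theorem f43831 : Led Lsl_gt (LP (LK LD1_c1 LD2_c9 LD3_c44)) = (LP (LK LD1_c1 LD2_c9 LD3_c46)) :=
  Lgr Lrot5 (Lpr_ft (K9.f43338 IH) (Lpr_at (f43328 IH) (Lpe (f31527 IH) (Lpn (LP (LK LD1_c1 LD2_c9 LD3_c46))))))
theorem f28271 : Led Lsl_gt (LP (LK LD1_c0 LD2_c34 LD3_c56)) = (LP (LK LD1_c0 LD2_c15 LD3_c41)) :=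
  Lre_g IH (LK LD1_c0 LD2_c34 LD3_c56) (LK LD1_c0 LD2_c15 LD3_c41) Lrfl Lrfl
theorem f230542 : Led Lsl_ct (LP (LK LD1_c1 LD2_c9 LD3_c46)) = (LP (LK LD1_c0 LD2_c34 LD3_c56)) :=
  Lgr Lrot91 (Lpe (f43831 IH) (Lpe (K9.f43347 IH) (Lpe (K9.f50751 IH) (Lpr_gf (K10.f188006 IH) (Lpr_cf (f187538 IH) (Lpr_bt (f230435 IH) (Lpe (K9.f28274 IH) (Lpe (K1.f28248 IH) (Lpr_ct (K1.f28251 IH) (Lpe (f28271 IH) (Lpn (LP (LK LD1_c0 LD2_c34 LD3_c56)))))))))))))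
theorem f31526 : Led Lsl_gt (LP (LK LD1_c2 LD2_c25 LD3_c5)) = (LP (LK LD1_c1 LD2_c9 LD3_c47)) :=
  Lre_g IH (LK LD1_c2 LD2_c25 LD3_c5) (LK LD1_c1 LD2_c9 LD3_c47) Lrfl Lrfl
theorem f43469 : Led Lsl_gf (LP (LK LD1_c2 LD2_c25 LD3_c5)) = (LP (LK LD1_c2 LD2_c24 LD3_c61)) :=
  Lgr Lrot47 (Lpr_gt (f31526 IH) (Lpr_af (K9.f43460 IH) (Lpe (K9.f43459 IH) (Lpn (LP (LK LD1_c2 LD2_c24 LD3_c61))))))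
theorem f43471 : Led Lsl_ct (LP (LK LD1_c2 LD2_c25 LD3_c5)) = (LP (LK LD1_c4 LD2_c54 LD3_c22)) :=
  Lre_c IH (LK LD1_c2 LD2_c25 LD3_c5) (LK LD1_c4 LD2_c54 LD3_c22) Lrfl Lrfl
theorem f28267 : Led Lsl_dt (LP (LK LD1_c1 LD2_c15 LD3_c5)) = (LP (LK LD1_c0 LD2_c34 LD3_c50)) :=
  Lre_d IH (LK LD1_c1 LD2_c15 LD3_c5) (LK LD1_c0 LD2_c34 LD3_c50) Lrfl Lrfl
theorem f230551 : Led Lsl_gt (LP (LK LD1_c4 LD2_c54 LD3_c22)) = (LP (LK LD1_c2 LD2_c36 LD3_c12)) :=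
  Lgr Lrot150 (Lpe (f43471 IH) (Lpr_gf (f43469 IH) (Lpe (K10.f43354 IH) (Lpr_gt (f43831 IH) (Lpr_ct (f230542 IH) (Lpr_gt (f28271 IH) (Lpe (K1.f28245 IH) (Lpe (f28267 IH) (Lpe (K1.f28270 IH) (Lpn (LP (LK LD1_c2 LD2_c36 LD3_c12))))))))))))
theorem f43383 : Led Lsl_dt (LP (LK LD1_c2 LD2_c24 LD3_c54)) = (LP (LK LD1_c4 LD2_c53 LD3_c61)) :=
  Lre_d IH (LK LD1_c2 LD2_c24 LD3_c54) (LK LD1_c4 LD2_c53 LD3_c61) Lrfl Lrfl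
theorem f44454 : Led Lsl_ft (LP (LK LD1_c4 LD2_c53 LD3_c61)) = (LP (LK LD1_c2 LD2_c24 LD3_c53)) :=
  Lre_f IH (LK LD1_c4 LD2_c53 LD3_c61) (LK LD1_c2 LD2_c24 LD3_c53) Lrfl Lrfl
theorem f184025 : Led Lsl_cf (LP (LK LD1_c4 LD2_c53 LD3_c61)) = (LP (LK LD1_c5 LD2_c18 LD3_c30)) :=
  Lgr Lrot108 (Lpr_ft (f44454 IH) (Lpr_ct (K9.f44395 IH) (Lpr_ft (K10.f184020 IH) (Lpn (LP (LK LD1_c5 LD2_c18 LD3_c30))))))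
theorem f44078 : Led Lsl_gt (LP (LK LD1_c1 LD2_c2 LD3_c25)) = (LP (LK LD1_c2 LD2_c10 LD3_c50)) :=
  Lre_g IH (LK LD1_c1 LD2_c2 LD3_c25) (LK LD1_c2 LD2_c10 LD3_c50) Lrfl Lrfl
theorem f187550 : Led Lsl_ct (LP (LK LD1_c2 LD2_c10 LD3_c50)) = (LP (LK LD1_c4 LD2_c27 LD3_c14)) :=
  Lre_c IH (LK LD1_c2 LD2_c10 LD3_c50) (LK LD1_c4 LD2_c27 LD3_c14) Lrfl Lrfl
theorem f188010 : Led Lsl_gf (LP (LK LD1_c5 LD2_c18 LD3_c30)) = (LP (LK LD1_c4 LD2_c27 LD3_c14)) :=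
  Lgr Lrot104 (Lpe (f184025 IH) (Lpe (f43383 IH) (Lpe (K9.f50757 IH) (Lpr_gf (K10.f188006 IH) (Lpr_cf (f187538 IH) (Lpe (K10.f44054 IH) (Lpe (K1.f44049 IH) (Lpr_gt (f44078 IH) (Lpr_ct (f187550 IH) (Lpn (LP (LK LD1_c4 LD2_c27 LD3_c14))))))))))))
theorem f230555 : Led Lsl_bt (LP (LK LD1_c2 LD2_c10 LD3_c50)) = (LP (LK LD1_c1 LD2_c15 LD3_c12)) :=
  Lgr Lrot92 (Lpr_ct (f187550 IH) (Lpe (f188010 IH) (Lpe (K9.f184017 IH) (Lpr_bt (K9.f43474 IH) (Lpe (f43469 IH) (Lpr_ct (f43471 IH) (Lpr_gt (f230551 IH) (Lpe (K1.f28254 IH) (Lpr_bt (K1.f44058 IH) (Lpr_gt (f44265 IH) (Lpn (LP (LK LD1_c1 LD2_c15 LD3_c12)))))))))))))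
theorem f230561 : Led Lsl_bf (LP (LK LD1_c2 LD2_c10 LD3_c50)) = (LP (LK LD1_c1 LD2_c15 LD3_c12)) :=
  Lgr Lrot24 (Lpr_bt (f230555 IH) (Lpn (LP (LK LD1_c1 LD2_c15 LD3_c12))))
theorem f230660 : Led Lsl_gt (LP (LK LD1_c2 LD2_c10 LD3_c50)) = (LP (LK LD1_c2 LD2_c10 LD3_c57)) :=
  Lgr Lrot82 (Lpr_bf (f230561 IH) (Lpr_ct (f230278 IH) (Lpe (f230414 IH) (Lpe (K9.f43514 IH) (Lpr_bt (K9.f50021 IH) (Lpe (K10.f49154 IH) (Lpr_bf (f190788 IH) (Lpr_ct (f212260 IH) (Lpe (f46256 IH) (Lpe (K1.f46157 IH) (Lpn (LP (LK LD1_c2 LD2_c10 LD3_c57)))))))))))))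
theorem f183893 : Led Lsl_dt (LP (LK LD1_c0 LD2_c34 LD3_c6)) = (LP (LK LD1_c1 LD2_c13 LD3_c39)) :=
  Lre_d IH (LK LD1_c0 LD2_c34 LD3_c6) (LK LD1_c1 LD2_c13 LD3_c39) Lrfl Lrfl
theorem f183894 : Led Lsl_ct (LP (LK LD1_c2 LD2_c33 LD3_c26)) = (LP (LK LD1_c1 LD2_c13 LD3_c39)) :=
  Lre_c IH (LK LD1_c2 LD2_c33 LD3_c26) (LK LD1_c1 LD2_c13 LD3_c39) Lrfl Lrfl
theorem f183895 : Led Lsl_dt (LP (LK LD1_c5 LD2_c13 LD3_c10)) = (LP (LK LD1_c2 LD2_c33 LD3_c26)) :=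
  Lre_d IH (LK LD1_c5 LD2_c13 LD3_c10) (LK LD1_c2 LD2_c33 LD3_c26) Lrfl Lrfl
theorem f183896 : Led Lsl_gt (LP (LK LD1_c10 LD2_c16 LD3_c43)) = (LP (LK LD1_c5 LD2_c13 LD3_c10)) :=
  Lre_g IH (LK LD1_c10 LD2_c16 LD3_c43) (LK LD1_c5 LD2_c13 LD3_c10) Lrfl Lrfl
theorem f230662 : Led Lsl_dt (LP (LK LD1_c5 LD2_c18 LD3_c30)) = (LP (LK LD1_c10 LD2_c16 LD3_c43)) :=
  Lgr Lrot57 (Lpr_gf (f188010 IH) (Lpe (f187550 IH) (Lpr_gt (f230660 IH) (Lpr_dt (K1.f46079 IH) (Lpr_gt (K9.f183889 IH) (Lpr_dt (f183893 IH) (Lpe (f183894 IH) (Lpe (f183895 IH) (Lpe (f183896 IH) (Lpn (LP (LK LD1_c10 LD2_c16 LD3_c43))))))))))))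
theorem f230667 : Led Lsl_ff (LP (LK LD1_c9 LD2_c39 LD3_c27)) = (LP (LK LD1_c10 LD2_c16 LD3_c43)) :=
  Lgr Lrot19 (Lpr_dt (K9.f44396 IH) (Lpr_ft (K10.f184020 IH) (Lpr_dt (f230662 IH) (Lpn (LP (LK LD1_c10 LD2_c16 LD3_c43))))))
theorem f230678 : Led Lsl_gt (LP (LK LD1_c5 LD2_c13 LD3_c10)) = (LP (LK LD1_c10 LD2_c16 LD3_c42)) :=
  Lre_g IH (LK LD1_c5 LD2_c13 LD3_c10) (LK LD1_c10 LD2_c16 LD3_c42) Lrfl Lrfl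
theorem f230720 : Led Lsl_at (LP (LK LD1_c9 LD2_c39 LD3_c27)) = (LP (LK LD1_c10 LD2_c16 LD3_c42)) :=
  Lgr Lrot26 (Lpr_ff (f230667 IH) (Lpr_gt (f183896 IH) (Lpr_gt (f230678 IH) (Lpn (LP (LK LD1_c10 LD2_c16 LD3_c42))))))
theorem f44337 : Led Lsl_ef (LP (LK LD1_c2 LD2_c24 LD3_c60)) = (LP (LK LD1_c3 LD2_c58 LD3_c4)) :=
  Lgr Lrot28 (Lpr_ct (K9.f43466 IH) (Lpr_et (K1.f44333 IH) (Lpr_ct (f31476 IH) (Lpn (LP (LK LD1_c3 LD2_c58 LD3_c4))))))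
theorem f43595 : Led Lsl_et (LP (LK LD1_c4 LD2_c54 LD3_c12)) = (LP (LK LD1_c9 LD2_c39 LD3_c59)) :=
  Lre_e IH (LK LD1_c4 LD2_c54 LD3_c12) (LK LD1_c9 LD2_c39 LD3_c59) Lrfl Lrfl
theorem f43882 : Led Lsl_et (LP (LK LD1_c15 LD2_c0 LD3_c47)) = (LP (LK LD1_c7 LD2_c57 LD3_c34)) :=
  Lre_e IH (LK LD1_c15 LD2_c0 LD3_c47) (LK LD1_c7 LD2_c57 LD3_c34) Lrfl Lrfl
theorem f44343 : Led Lsl_dt (LP (LK LD1_c9 LD2_c39 LD3_c59)) = (LP (LK LD1_c15 LD2_c0 LD3_c47)) :=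
  Lgr Lrot77 (Lpe (f43595 IH) (Lpe (K9.f43489 IH) (Lpr_ef (f44337 IH) (Lpe (f31518 IH) (Lpe (f43882 IH) (Lpn (LP (LK LD1_c15 LD2_c0 LD3_c47))))))))
theorem f44350 : Led Lsl_df (LP (LK LD1_c9 LD2_c39 LD3_c59)) = (LP (LK LD1_c15 LD2_c0 LD3_c47)) :=
  Lgr Lrot38 (Lpr_dt (f44343 IH) (Lpn (LP (LK LD1_c15 LD2_c0 LD3_c47))))
theorem f43632 : Led Lsl_bt (LP (LK LD1_c9 LD2_c39 LD3_c59)) = (LP (LK LD1_c17 LD2_c46 LD3_c37)) :=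
  Lre_b IH (LK LD1_c9 LD2_c39 LD3_c59) (LK LD1_c17 LD2_c46 LD3_c37) Lrfl Lrfl
theorem f43875 : Led Lsl_bt (LP (LK LD1_c24 LD2_c48 LD3_c15)) = (LP (LK LD1_c15 LD2_c0 LD3_c47)) :=
  Lre_b IH (LK LD1_c24 LD2_c48 LD3_c15) (LK LD1_c15 LD2_c0 LD3_c47) Lrfl Lrfl
theorem f44359 : Led Lsl_dt (LP (LK LD1_c17 LD2_c46 LD3_c37)) = (LP (LK LD1_c24 LD2_c48 LD3_c15)) :=
  Lgr Lrot79 (Lpe (f43632 IH) (Lpr_df (f44350 IH) (Lpe (f43875 IH) (Lpn (LP (LK LD1_c24 LD2_c48 LD3_c15))))))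
theorem f44363 : Led Lsl_et (LP (LK LD1_c9 LD2_c39 LD3_c54)) = (LP (LK LD1_c17 LD2_c46 LD3_c37)) :=
  Lre_e IH (LK LD1_c9 LD2_c39 LD3_c54) (LK LD1_c17 LD2_c46 LD3_c37) Lrfl Lrfl
theorem f44364 : Led Lsl_dt (LP (LK LD1_c4 LD2_c54 LD3_c11)) = (LP (LK LD1_c9 LD2_c39 LD3_c54)) :=
  Lre_d IH (LK LD1_c4 LD2_c54 LD3_c11) (LK LD1_c9 LD2_c39 LD3_c54) Lrfl Lrfl
theorem f44365 : Led Lsl_et (LP (LK LD1_c24 LD2_c48 LD3_c15)) = (LP (LK LD1_c15 LD2_c0 LD3_c44)) :=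
  Lre_e IH (LK LD1_c24 LD2_c48 LD3_c15) (LK LD1_c15 LD2_c0 LD3_c44) Lrfl Lrfl
theorem f31489 : Led Lsl_dt (LP (LK LD1_c15 LD2_c0 LD3_c44)) = (LP (LK LD1_c7 LD2_c57 LD3_c33)) :=
  Lre_d IH (LK LD1_c15 LD2_c0 LD3_c44) (LK LD1_c7 LD2_c57 LD3_c33) Lrfl Lrfl
theorem f44366 : Led Lsl_ef (LP (LK LD1_c4 LD2_c54 LD3_c11)) = (LP (LK LD1_c7 LD2_c57 LD3_c33)) :=
  Lgr Lrot73 (Lpr_dt (f44364 IH) (Lpr_et (f44363 IH) (Lpr_dt (f44359 IH) (Lpr_et (f44365 IH) (Lpr_dt (f31489 IH) (Lpn (LP (LK LD1_c7 LD2_c57 LD3_c33))))))))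
theorem f44371 : Led Lsl_ct (LP (LK LD1_c4 LD2_c54 LD3_c11)) = (LP (LK LD1_c9 LD2_c39 LD3_c26)) :=
  Lre_c IH (LK LD1_c4 LD2_c54 LD3_c11) (LK LD1_c9 LD2_c39 LD3_c26) Lrfl Lrfl
theorem f31475 : Led Lsl_bt (LP (LK LD1_c9 LD2_c40 LD3_c4)) = (LP (LK LD1_c4 LD2_c54 LD3_c18)) :=
  Lre_b IH (LK LD1_c9 LD2_c40 LD3_c4) (LK LD1_c4 LD2_c54 LD3_c18) Lrfl Lrfl
theorem f31477 : Led Lsl_bt (LP (LK LD1_c3 LD2_c58 LD3_c4)) = (LP (LK LD1_c7 LD2_c57 LD3_c33)) :=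
  Lre_b IH (LK LD1_c3 LD2_c58 LD3_c4) (LK LD1_c7 LD2_c57 LD3_c33) Lrfl Lrfl
theorem f31478 : Led Lsl_cf (LP (LK LD1_c9 LD2_c40 LD3_c4)) = (LP (LK LD1_c7 LD2_c57 LD3_c33)) :=
  Lgr Lrot97 (Lpr_bt (f31475 IH) (Lpr_ct (K9.f31474 IH) (Lpr_bt (K1.f31466 IH) (Lpr_ct (f31476 IH) (Lpr_bt (f31477 IH) (Lpn (LP (LK LD1_c7 LD2_c57 LD3_c33))))))))
theorem f31487 : Led Lsl_ct (LP (LK LD1_c9 LD2_c40 LD3_c4)) = (LP (LK LD1_c7 LD2_c57 LD3_c33)) :=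
  Lgr Lrot59 (Lpr_cf (f31478 IH) (Lpn (LP (LK LD1_c7 LD2_c57 LD3_c33))))
theorem f44372 : Led Lsl_et (LP (LK LD1_c9 LD2_c39 LD3_c26)) = (LP (LK LD1_c9 LD2_c40 LD3_c4)) :=
  Lgr Lrot158 (Lpe (f44371 IH) (Lpr_ef (f44366 IH) (Lpe (f31487 IH) (Lpn (LP (LK LD1_c9 LD2_c40 LD3_c4))))))
theorem f44386 : Led Lsl_ef (LP (LK LD1_c9 LD2_c39 LD3_c26)) = (LP (LK LD1_c9 LD2_c40 LD3_c4)) :=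
  Lgr Lrot88 (Lpr_et (f44372 IH) (Lpn (LP (LK LD1_c9 LD2_c40 LD3_c4))))
theorem f44389 : Led Lsl_bt (LP (LK LD1_c9 LD2_c39 LD3_c26)) = (LP (LK LD1_c4 LD2_c53 LD3_c60)) :=
  Lre_b IH (LK LD1_c9 LD2_c39 LD3_c26) (LK LD1_c4 LD2_c53 LD3_c60) Lrfl Lrfl
theorem f31508 : Led Lsl_bt (LP (LK LD1_c4 LD2_c54 LD3_c18)) = (LP (LK LD1_c9 LD2_c40 LD3_c4)) :=
  Lre_b IH (LK LD1_c4 LD2_c54 LD3_c18) (LK LD1_c9 LD2_c40 LD3_c4) Lrfl Lrfl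
theorem f44390 : Led Lsl_et (LP (LK LD1_c4 LD2_c53 LD3_c60)) = (LP (LK LD1_c4 LD2_c54 LD3_c18)) :=
  Lgr Lrot74 (Lpe (f44389 IH) (Lpr_ef (f44386 IH) (Lpe (f31508 IH) (Lpn (LP (LK LD1_c4 LD2_c54 LD3_c18))))))
theorem f183977 : Led Lsl_af (LP (LK LD1_c4 LD2_c53 LD3_c60)) = (LP (LK LD1_c5 LD2_c18 LD3_c29)) :=
  Lgr Lrot50 (Lpr_et (f44390 IH) (Lpe (K9.f43536 IH) (Lpr_et (K9.f183972 IH) (Lpn (LP (LK LD1_c5 LD2_c18 LD3_c29))))))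
theorem f230724 : Led Lsl_df (LP (LK LD1_c5 LD2_c18 LD3_c29)) = (LP (LK LD1_c10 LD2_c16 LD3_c42)) :=
  Lgr Lrot18 (Lpe (f183977 IH) (Lpr_dt (K9.f44398 IH) (Lpr_at (f230720 IH) (Lpn (LP (LK LD1_c10 LD2_c16 LD3_c42))))))
theorem f183981 : Led Lsl_ef (LP (LK LD1_c4 LD2_c54 LD3_c3)) = (LP (LK LD1_c5 LD2_c18 LD3_c29)) :=
  Lgr Lrot88 (Lpr_et (K9.f183972 IH) (Lpn (LP (LK LD1_c5 LD2_c18 LD3_c29))))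
theorem f50054 : Led Lsl_ft (LP (LK LD1_c4 LD2_c13 LD3_c42)) = (LP (LK LD1_c8 LD2_c26 LD3_c15)) :=
  Lre_f IH (LK LD1_c4 LD2_c13 LD3_c42) (LK LD1_c8 LD2_c26 LD3_c15) Lrfl Lrfl
theorem f190772 : Led Lsl_ft (LP (LK LD1_c5 LD2_c16 LD3_c17)) = (LP (LK LD1_c5 LD2_c18 LD3_c29)) :=
  Lgr Lrot4 (Lpr_cf (K10.f190758 IH) (Lpe (f50054 IH) (Lpr_cf (K9.f183956 IH) (Lpn (LP (LK LD1_c5 LD2_c18 LD3_c29))))))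
theorem f191589 : Led Lsl_et (LP (LK LD1_c10 LD2_c22 LD3_c10)) = (LP (LK LD1_c5 LD2_c16 LD3_c17)) :=
  Lre_e IH (LK LD1_c10 LD2_c22 LD3_c10) (LK LD1_c5 LD2_c16 LD3_c17) Lrfl Lrfl
theorem f191575 : Led Lsl_et (LP (LK LD1_c5 LD2_c18 LD3_c20)) = (LP (LK LD1_c10 LD2_c26 LD3_c26)) :=
  Lre_e IH (LK LD1_c5 LD2_c18 LD3_c20) (LK LD1_c10 LD2_c26 LD3_c26) Lrfl Lrfl
theorem f191590 : Led Lsl_ff (LP (LK LD1_c10 LD2_c22 LD3_c10)) = (LP (LK LD1_c10 LD2_c26 LD3_c26)) :=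
  Lgr Lrot72 (Lpr_et (f191589 IH) (Lpr_ft (f190772 IH) (Lpe (f183981 IH) (Lpr_ft (f191585 IH) (Lpr_et (f191575 IH) (Lpn (LP (LK LD1_c10 LD2_c26 LD3_c26))))))))
theorem f191604 : Led Lsl_ft (LP (LK LD1_c10 LD2_c22 LD3_c10)) = (LP (LK LD1_c10 LD2_c26 LD3_c26)) :=
  Lgr Lrot48 (Lpr_ff (f191590 IH) (Lpn (LP (LK LD1_c10 LD2_c26 LD3_c26))))
theorem f190769 : Led Lsl_et (LP (LK LD1_c5 LD2_c16 LD3_c17)) = (LP (LK LD1_c10 LD2_c22 LD3_c10)) :=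
  Lre_e IH (LK LD1_c5 LD2_c16 LD3_c17) (LK LD1_c10 LD2_c22 LD3_c10) Lrfl Lrfl
theorem f191584 : Led Lsl_et (LP (LK LD1_c10 LD2_c26 LD3_c26)) = (LP (LK LD1_c5 LD2_c18 LD3_c20)) :=
  Lre_e IH (LK LD1_c10 LD2_c26 LD3_c26) (LK LD1_c5 LD2_c18 LD3_c20) Lrfl Lrfl
theorem f191616 : Led Lsl_ff (LP (LK LD1_c5 LD2_c16 LD3_c17)) = (LP (LK LD1_c5 LD2_c18 LD3_c29)) :=
  Lgr Lrot72 (Lpr_et (f190769 IH) (Lpr_ft (f191604 IH) (Lpr_et (f191584 IH) (Lpe (f191578 IH) (Lpr_et (K9.f183972 IH) (Lpn (LP (LK LD1_c5 LD2_c18 LD3_c29))))))))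
theorem f190764 : Led Lsl_at (LP (LK LD1_c5 LD2_c16 LD3_c17)) = (LP (LK LD1_c5 LD2_c18 LD3_c30)) :=
  Lgr Lrot107 (Lpr_cf (K10.f190758 IH) (Lpe (f50833 IH) (Lpr_cf (f184025 IH) (Lpn (LP (LK LD1_c5 LD2_c18 LD3_c30))))))
theorem f191620 : Led Lsl_gf (LP (LK LD1_c4 LD2_c27 LD3_c14)) = (LP (LK LD1_c5 LD2_c18 LD3_c29)) :=
  Lgr Lrot47 (Lpe (f188010 IH) (Lpe (f190764 IH) (Lpr_ff (f191616 IH) (Lpn (LP (LK LD1_c5 LD2_c18 LD3_c29))))))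
theorem f188017 : Led Lsl_dt (LP (LK LD1_c4 LD2_c27 LD3_c14)) = (LP (LK LD1_c8 LD2_c52 LD3_c10)) :=
  Lre_d IH (LK LD1_c4 LD2_c27 LD3_c14) (LK LD1_c8 LD2_c52 LD3_c10) Lrfl Lrfl
theorem f230679 : Led Lsl_ct (LP (LK LD1_c10 LD2_c16 LD3_c44)) = (LP (LK LD1_c5 LD2_c13 LD3_c10)) :=
  Lre_c IH (LK LD1_c10 LD2_c16 LD3_c44) (LK LD1_c5 LD2_c13 LD3_c10) Lrfl Lrfl
theorem f32067 : Led Lsl_ct (LP (LK LD1_c2 LD2_c35 LD3_c55)) = (LP (LK LD1_c1 LD2_c14 LD3_c59)) :=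
  Lre_c IH (LK LD1_c2 LD2_c35 LD3_c55) (LK LD1_c1 LD2_c14 LD3_c59) Lrfl Lrfl
theorem f44163 : Led Lsl_dt (LP (LK LD1_c4 LD2_c27 LD3_c19)) = (LP (LK LD1_c2 LD2_c10 LD3_c51)) :=
  Lre_d IH (LK LD1_c4 LD2_c27 LD3_c19) (LK LD1_c2 LD2_c10 LD3_c51) Lrfl Lrfl
theorem f47187 : Led Lsl_dt (LP (LK LD1_c4 LD2_c5 LD3_c26)) = (LP (LK LD1_c8 LD2_c11 LD3_c49)) :=
  Lre_d IH (LK LD1_c4 LD2_c5 LD3_c26) (LK LD1_c8 LD2_c11 LD3_c49) Lrfl Lrfl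
theorem f47202 : Led Lsl_ct (LP (LK LD1_c8 LD2_c11 LD3_c49)) = (LP (LK LD1_c4 LD2_c27 LD3_c19)) :=
  Lgr Lrot53 (Lpe (f47187 IH) (Lpe (K10.f47186 IH) (Lpe (K10.f47185 IH) (Lpr_cf (K1.f47104 IH) (Lpe (K1.f46079 IH) (Lpr_ft (K9.f44766 IH) (Lpr_at (K9.f46328 IH) (Lpe (f44119 IH) (Lpe (f44163 IH) (Lpn (LP (LK LD1_c4 LD2_c27 LD3_c19))))))))))))
theorem f230671 : Led Lsl_ct (LP (LK LD1_c5 LD2_c13 LD3_c10)) = (LP (LK LD1_c10 LD2_c16 LD3_c44)) :=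
  Lre_c IH (LK LD1_c5 LD2_c13 LD3_c10) (LK LD1_c10 LD2_c16 LD3_c44) Lrfl Lrfl
theorem f230672 : Led Lsl_gf (LP (LK LD1_c8 LD2_c11 LD3_c49)) = (LP (LK LD1_c10 LD2_c16 LD3_c44)) :=
  Lgr Lrot172 (Lpr_ct (f47202 IH) (Lpr_dt (f44163 IH) (Lpe (K1.f44063 IH) (Lpr_gf (K9.f182204 IH) (Lpe (f32067 IH) (Lpe (K9.f165817 IH) (Lpr_dt (f230662 IH) (Lpr_gt (f183896 IH) (Lpr_ct (f230671 IH) (Lpn (LP (LK LD1_c10 LD2_c16 LD3_c44))))))))))))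
theorem f46236 : Led Lsl_dt (LP (LK LD1_c8 LD2_c11 LD3_c49)) = (LP (LK LD1_c4 LD2_c5 LD3_c26)) :=
  Lre_d IH (LK LD1_c8 LD2_c11 LD3_c49) (LK LD1_c4 LD2_c5 LD3_c26) Lrfl Lrfl
theorem f47972 : Led Lsl_dt (LP (LK LD1_c8 LD2_c10 LD3_c57)) = (LP (LK LD1_c15 LD2_c24 LD3_c25)) :=
  Lre_d IH (LK LD1_c8 LD2_c10 LD3_c57) (LK LD1_c15 LD2_c24 LD3_c25) Lrfl Lrfl
theorem f230740 : Led Lsl_ct (LP (LK LD1_c8 LD2_c52 LD3_c10)) = (LP (LK LD1_c15 LD2_c24 LD3_c25)) :=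
  Lgr Lrot7 (Lpe (f188017 IH) (Lpr_gf (f191620 IH) (Lpr_df (f230724 IH) (Lpe (f230678 IH) (Lpe (f230679 IH) (Lpe (f230672 IH) (Lpr_dt (f46236 IH) (Lpr_gt (K10.f47971 IH) (Lpr_dt (f47972 IH) (Lpn (LP (LK LD1_c15 LD2_c24 LD3_c25))))))))))))
theorem f47410 : Led Lsl_dt (LP (LK LD1_c15 LD2_c24 LD3_c25)) = (LP (LK LD1_c8 LD2_c10 LD3_c57)) :=
  Lre_d IH (LK LD1_c15 LD2_c24 LD3_c25) (LK LD1_c8 LD2_c10 LD3_c57) Lrfl Lrfl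
theorem f188000 : Led Lsl_ct (LP (LK LD1_c8 LD2_c10 LD3_c57)) = (LP (LK LD1_c4 LD2_c10 LD3_c9)) :=
  Lgr Lrot59 (Lpr_cf (K10.f187975 IH) (Lpn (LP (LK LD1_c4 LD2_c10 LD3_c9))))
theorem f170682 : Led Lsl_ct (LP (LK LD1_c2 LD2_c2 LD3_c17)) = (LP (LK LD1_c0 LD2_c58 LD3_c5)) :=
  Lre_c IH (LK LD1_c2 LD2_c2 LD3_c17) (LK LD1_c0 LD2_c58 LD3_c5) Lrfl Lrfl
theorem f178718 : Led Lsl_at (LP (LK LD1_c2 LD2_c2 LD3_c14)) = (LP (LK LD1_c0 LD2_c58 LD3_c5)) :=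
  Lre_a IH (LK LD1_c2 LD2_c2 LD3_c14) (LK LD1_c0 LD2_c58 LD3_c5) Lrfl Lrfl
theorem f230778 : Led Lsl_ft (LP (LK LD1_c4 LD2_c10 LD3_c3)) = (LP (LK LD1_c2 LD2_c2 LD3_c14)) :=
  Lre_f IH (LK LD1_c4 LD2_c10 LD3_c3) (LK LD1_c2 LD2_c2 LD3_c14) Lrfl Lrfl
theorem f230779 : Led Lsl_df (LP (LK LD1_c2 LD2_c10 LD3_c50)) = (LP (LK LD1_c4 LD2_c10 LD3_c3)) :=
  Lgr Lrot157 (Lpr_ct (f187550 IH) (Lpr_dt (f188017 IH) (Lpr_ct (f230740 IH) (Lpr_dt (f47410 IH) (Lpr_ct (f188000 IH) (Lpr_dt (K10.f170844 IH) (Lpr_ct (f170682 IH) (Lpe (f178718 IH) (Lpe (f230778 IH) (Lpn (LP (LK LD1_c4 LD2_c10 LD3_c3))))))))))))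
theorem f230783 : Led Lsl_dt (LP (LK LD1_c2 LD2_c10 LD3_c50)) = (LP (LK LD1_c4 LD2_c10 LD3_c3)) :=
  Lgr Lrot42 (Lpr_df (f230779 IH) (Lpn (LP (LK LD1_c4 LD2_c10 LD3_c3))))
theorem f184631 : Led Lsl_dt (LP (LK LD1_c2 LD2_c36 LD3_c22)) = (LP (LK LD1_c1 LD2_c15 LD3_c12)) :=
  Lre_d IH (LK LD1_c2 LD2_c36 LD3_c22) (LK LD1_c1 LD2_c15 LD3_c12) Lrfl Lrfl
theorem f230925 : Led Lsl_bf (LP (LK LD1_c2 LD2_c36 LD3_c22)) = (LP (LK LD1_c4 LD2_c10 LD3_c3)) :=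
  Lgr Lrot93 (Lpr_dt (f184631 IH) (Lpe (f230561 IH) (Lpr_dt (f230783 IH) (Lpn (LP (LK LD1_c4 LD2_c10 LD3_c3))))))
theorem f230785 : Led Lsl_ft (LP (LK LD1_c2 LD2_c2 LD3_c14)) = (LP (LK LD1_c4 LD2_c10 LD3_c3)) :=
  Lre_f IH (LK LD1_c2 LD2_c2 LD3_c14) (LK LD1_c4 LD2_c10 LD3_c3) Lrfl Lrfl
theorem f230930 : Led Lsl_bt (LP (LK LD1_c2 LD2_c5 LD3_c40)) = (LP (LK LD1_c2 LD2_c2 LD3_c14)) :=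
  Lgr Lrot35 (Lpe (f230286 IH) (Lpr_bf (f230925 IH) (Lpe (f230785 IH) (Lpn (LP (LK LD1_c2 LD2_c2 LD3_c14))))))
theorem f230305 : Led Lsl_et (LP (LK LD1_c0 LD2_c59 LD3_c51)) = (LP (LK LD1_c2 LD2_c5 LD3_c40)) :=
  Lre_e IH (LK LD1_c0 LD2_c59 LD3_c51) (LK LD1_c2 LD2_c5 LD3_c40) Lrfl Lrfl
theorem f230936 : Led Lsl_et (LP (LK LD1_c2 LD2_c2 LD3_c14)) = (LP (LK LD1_c0 LD2_c58 LD3_c2)) :=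
  Lre_e IH (LK LD1_c2 LD2_c2 LD3_c14) (LK LD1_c0 LD2_c58 LD3_c2) Lrfl Lrfl
theorem f230937 : Led Lsl_bf (LP (LK LD1_c0 LD2_c59 LD3_c51)) = (LP (LK LD1_c0 LD2_c58 LD3_c2)) :=
  Lgr Lrot96 (Lpr_et (f230305 IH) (Lpr_bt (f230930 IH) (Lpr_et (f230936 IH) (Lpn (LP (LK LD1_c0 LD2_c58 LD3_c2))))))
theorem f230315 : Led Lsl_dt (LP (LK LD1_c0 LD2_c59 LD3_c51)) = (LP (LK LD1_c2 LD2_c5 LD3_c39)) :=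
  Lre_d IH (LK LD1_c0 LD2_c59 LD3_c51) (LK LD1_c2 LD2_c5 LD3_c39) Lrfl Lrfl
theorem f230945 : Led Lsl_dt (LP (LK LD1_c2 LD2_c2 LD3_c13)) = (LP (LK LD1_c0 LD2_c58 LD3_c2)) :=
  Lre_d IH (LK LD1_c2 LD2_c2 LD3_c13) (LK LD1_c0 LD2_c58 LD3_c2) Lrfl Lrfl
theorem f230946 : Led Lsl_bt (LP (LK LD1_c2 LD2_c5 LD3_c39)) = (LP (LK LD1_c2 LD2_c2 LD3_c13)) :=
  Lgr Lrot95 (Lpe (f230315 IH) (Lpr_bf (f230937 IH) (Lpe (f230945 IH) (Lpn (LP (LK LD1_c2 LD2_c2 LD3_c13))))))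
theorem f230959 : Led Lsl_et (LP (LK LD1_c4 LD2_c16 LD3_c45)) = (LP (LK LD1_c2 LD2_c5 LD3_c39)) :=
  Lre_e IH (LK LD1_c4 LD2_c16 LD3_c45) (LK LD1_c2 LD2_c5 LD3_c39) Lrfl Lrfl
theorem f230960 : Led Lsl_et (LP (LK LD1_c2 LD2_c2 LD3_c13)) = (LP (LK LD1_c4 LD2_c10 LD3_c1)) :=
  Lre_e IH (LK LD1_c2 LD2_c2 LD3_c13) (LK LD1_c4 LD2_c10 LD3_c1) Lrfl Lrfl
theorem f230961 : Led Lsl_bf (LP (LK LD1_c4 LD2_c16 LD3_c45)) = (LP (LK LD1_c4 LD2_c10 LD3_c1)) :=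
  Lgr Lrot96 (Lpr_et (f230959 IH) (Lpr_bt (f230946 IH) (Lpr_et (f230960 IH) (Lpn (LP (LK LD1_c4 LD2_c10 LD3_c1))))))
theorem f230972 : Led Lsl_ft (LP (LK LD1_c4 LD2_c16 LD3_c45)) = (LP (LK LD1_c8 LD2_c32 LD3_c49)) :=
  Lre_f IH (LK LD1_c4 LD2_c16 LD3_c45) (LK LD1_c8 LD2_c32 LD3_c49) Lrfl Lrfl
theorem f230973 : Led Lsl_ft (LP (LK LD1_c8 LD2_c20 LD3_c20)) = (LP (LK LD1_c4 LD2_c10 LD3_c1)) :=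
  Lre_f IH (LK LD1_c8 LD2_c20 LD3_c20) (LK LD1_c4 LD2_c10 LD3_c1) Lrfl Lrfl
theorem f230974 : Led Lsl_bt (LP (LK LD1_c8 LD2_c32 LD3_c49)) = (LP (LK LD1_c8 LD2_c20 LD3_c20)) :=
  Lgr Lrot35 (Lpe (f230972 IH) (Lpr_bf (f230961 IH) (Lpe (f230973 IH) (Lpn (LP (LK LD1_c8 LD2_c20 LD3_c20))))))
theorem f230981 : Led Lsl_bf (LP (LK LD1_c8 LD2_c32 LD3_c49)) = (LP (LK LD1_c8 LD2_c20 LD3_c20)) :=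
  Lgr Lrot24 (Lpr_bt (f230974 IH) (Lpn (LP (LK LD1_c8 LD2_c20 LD3_c20))))
theorem f169357 : Led Lsl_at (LP (LK LD1_c8 LD2_c32 LD3_c49)) = (LP (LK LD1_c4 LD2_c16 LD3_c58)) :=
  Lre_a IH (LK LD1_c8 LD2_c32 LD3_c49) (LK LD1_c4 LD2_c16 LD3_c58) Lrfl Lrfl
theorem f169348 : Led Lsl_bt (LP (LK LD1_c4 LD2_c16 LD3_c58)) = (LP (LK LD1_c2 LD2_c5 LD3_c57)) :=
  Lre_b IH (LK LD1_c4 LD2_c16 LD3_c58) (LK LD1_c2 LD2_c5 LD3_c57) Lrfl Lrfl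
theorem f178725 : Led Lsl_at (LP (LK LD1_c4 LD2_c10 LD3_c22)) = (LP (LK LD1_c8 LD2_c20 LD3_c20)) :=
  Lre_a IH (LK LD1_c4 LD2_c10 LD3_c22) (LK LD1_c8 LD2_c20 LD3_c20) Lrfl Lrfl
theorem f230985 : Led Lsl_at (LP (LK LD1_c2 LD2_c5 LD3_c57)) = (LP (LK LD1_c2 LD2_c2 LD3_c32)) :=
  Lgr Lrot67 (Lpe (f169348 IH) (Lpe (f169357 IH) (Lpr_bf (f230981 IH) (Lpe (f178725 IH) (Lpe (K9.f178591 IH) (Lpn (LP (LK LD1_c2 LD2_c2 LD3_c32))))))))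
theorem f178590 : Led Lsl_ft (LP (LK LD1_c2 LD2_c2 LD3_c32)) = (LP (LK LD1_c0 LD2_c58 LD3_c8)) :=
  Lre_f IH (LK LD1_c2 LD2_c2 LD3_c32) (LK LD1_c0 LD2_c58 LD3_c8) Lrfl Lrfl
theorem f230996 : Led Lsl_af (LP (LK LD1_c0 LD2_c59 LD3_c57)) = (LP (LK LD1_c0 LD2_c58 LD3_c8)) :=
  Lgr Lrot45 (Lpr_ft (K10.f169344 IH) (Lpr_at (f230985 IH) (Lpr_ft (f178590 IH) (Lpn (LP (LK LD1_c0 LD2_c58 LD3_c8))))))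
theorem f520 : Led Lsl_et (LP (LK LD1_c0 LD2_c26 LD3_c23)) = (LP (LK LD1_c0 LD2_c58 LD3_c8)) :=
  Lre_e IH (LK LD1_c0 LD2_c26 LD3_c23) (LK LD1_c0 LD2_c58 LD3_c8) Lrfl Lrfl
theorem f231005 : Led Lsl_at (LP (LK LD1_c0 LD2_c27 LD3_c14)) = (LP (LK LD1_c0 LD2_c26 LD3_c23)) :=
  Lgr Lrot80 (Lpe (K10.f167621 IH) (Lpr_af (f230996 IH) (Lpe (f520 IH) (Lpn (LP (LK LD1_c0 LD2_c26 LD3_c23))))))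
theorem f231015 : Led Lsl_ff (LP (LK LD1_c0 LD2_c27 LD3_c14)) = (LP (LK LD1_c0 LD2_c26 LD3_c26)) :=
  Lgr Lrot52 (Lpr_at (f231005 IH) (Lpe (K9.f53440 IH) (Lpr_gf (K9.f167080 IH) (Lpn (LP (LK LD1_c0 LD2_c26 LD3_c26))))))
theorem f231026 : Led Lsl_ft (LP (LK LD1_c0 LD2_c27 LD3_c14)) = (LP (LK LD1_c0 LD2_c26 LD3_c26)) :=
  Lgr Lrot48 (Lpr_ff (f231015 IH) (Lpn (LP (LK LD1_c0 LD2_c26 LD3_c26))))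
theorem f167650 : Led Lsl_gt (LP (LK LD1_c0 LD2_c59 LD3_c54)) = (LP (LK LD1_c0 LD2_c27 LD3_c17)) :=
  Lgr Lrot112 (Lpr_df (K9.f167635 IH) (Lpr_et (K9.f165018 IH) (Lpe (K9.f40823 IH) (Lpe (K9.f7601 IH) (Lpr_dt (K9.f7600 IH) (Lpe (K9.f7630 IH) (Lpe (K9.f164707 IH) (Lpe (K9.f7734 IH) (Lpe (f7725 IH) (Lpr_dt (K9.f7858 IH) (Lpn (LP (LK LD1_c0 LD2_c27 LD3_c17)))))))))))))
theorem f231037 : Led Lsl_af (LP (LK LD1_c0 LD2_c27 LD3_c17)) = (LP (LK LD1_c0 LD2_c26 LD3_c26)) :=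
  Lgr Lrot31 (Lpe (f167650 IH) (Lpe (K9.f500 IH) (Lpr_ft (f231026 IH) (Lpn (LP (LK LD1_c0 LD2_c26 LD3_c26))))))
theorem f230948 : Led Lsl_at (LP (LK LD1_c0 LD2_c59 LD3_c52)) = (LP (LK LD1_c2 LD2_c5 LD3_c39)) :=
  Lre_a IH (LK LD1_c0 LD2_c59 LD3_c52) (LK LD1_c2 LD2_c5 LD3_c39) Lrfl Lrfl
theorem f170113 : Led Lsl_bt (LP (LK LD1_c0 LD2_c27 LD3_c14)) = (LP (LK LD1_c0 LD2_c59 LD3_c52)) :=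
  Lre_b IH (LK LD1_c0 LD2_c27 LD3_c14) (LK LD1_c0 LD2_c59 LD3_c52) Lrfl Lrfl
theorem f230949 : Led Lsl_at (LP (LK LD1_c2 LD2_c2 LD3_c13)) = (LP (LK LD1_c0 LD2_c58 LD3_c4)) :=
  Lre_a IH (LK LD1_c2 LD2_c2 LD3_c13) (LK LD1_c0 LD2_c58 LD3_c4) Lrfl Lrfl
theorem f178500 : Led Lsl_bt (LP (LK LD1_c0 LD2_c58 LD3_c4)) = (LP (LK LD1_c0 LD2_c26 LD3_c23)) :=
  Lre_b IH (LK LD1_c0 LD2_c58 LD3_c4) (LK LD1_c0 LD2_c26 LD3_c23) Lrfl Lrfl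
theorem f230950 : Led Lsl_af (LP (LK LD1_c0 LD2_c27 LD3_c14)) = (LP (LK LD1_c0 LD2_c26 LD3_c23)) :=
  Lgr Lrot36 (Lpr_bt (f170113 IH) (Lpr_at (f230948 IH) (Lpr_bt (f230946 IH) (Lpr_at (f230949 IH) (Lpr_bt (f178500 IH) (Lpn (LP (LK LD1_c0 LD2_c26 LD3_c23))))))))
theorem f231051 : Led Lsl_ft (LP (LK LD1_c0 LD2_c27 LD3_c17)) = (LP (LK LD1_c0 LD2_c26 LD3_c23)) :=
  Lgr Lrot101 (Lpr_af (f231037 IH) (Lpe (f231026 IH) (Lpr_af (f230950 IH) (Lpn (LP (LK LD1_c0 LD2_c26 LD3_c23))))))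
theorem f231061 : Led Lsl_ff (LP (LK LD1_c0 LD2_c27 LD3_c17)) = (LP (LK LD1_c0 LD2_c26 LD3_c23)) :=
  Lgr Lrot3 (Lpr_ft (f231051 IH) (Lpn (LP (LK LD1_c0 LD2_c26 LD3_c23))))
theorem f1388 : Led Lsl_et (LP (LK LD1_c0 LD2_c27 LD3_c17)) = (LP (LK LD1_c1 LD2_c0 LD3_c3)) :=
  Lre_e IH (LK LD1_c0 LD2_c27 LD3_c17) (LK LD1_c1 LD2_c0 LD3_c3) Lrfl Lrfl
theorem f231069 : Led Lsl_et (LP (LK LD1_c2 LD2_c6 LD3_c9)) = (LP (LK LD1_c2 LD2_c2 LD3_c32)) :=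
  Lgr Lrot69 (Lpe (f7749 IH) (Lpe (f1388 IH) (Lpr_ff (f231061 IH) (Lpe (K9.f178517 IH) (Lpe (f178590 IH) (Lpn (LP (LK LD1_c2 LD2_c2 LD3_c32))))))))
theorem f7768 : Led Lsl_bt (LP (LK LD1_c4 LD2_c17 LD3_c28)) = (LP (LK LD1_c2 LD2_c6 LD3_c9)) :=
  Lre_b IH (LK LD1_c4 LD2_c17 LD3_c28) (LK LD1_c2 LD2_c6 LD3_c9) Lrfl Lrfl
theorem f231073 : Led Lsl_ef (LP (LK LD1_c4 LD2_c17 LD3_c28)) = (LP (LK LD1_c4 LD2_c10 LD3_c22)) :=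
  Lgr Lrot29 (Lpr_bt (f7768 IH) (Lpr_et (f231069 IH) (Lpr_bt (K9.f178591 IH) (Lpn (LP (LK LD1_c4 LD2_c10 LD3_c22))))))
theorem f231085 : Led Lsl_et (LP (LK LD1_c4 LD2_c17 LD3_c28)) = (LP (LK LD1_c4 LD2_c10 LD3_c22)) :=
  Lgr Lrot87 (Lpr_ef (f231073 IH) (Lpn (LP (LK LD1_c4 LD2_c10 LD3_c22))))
theorem f7788 : Led Lsl_ct (LP (LK LD1_c8 LD2_c34 LD3_c4)) = (LP (LK LD1_c4 LD2_c17 LD3_c28)) :=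
  Lre_c IH (LK LD1_c8 LD2_c34 LD3_c4) (LK LD1_c4 LD2_c17 LD3_c28) Lrfl Lrfl
theorem f178655 : Led Lsl_ct (LP (LK LD1_c4 LD2_c10 LD3_c22)) = (LP (LK LD1_c8 LD2_c20 LD3_c57)) :=
  Lre_c IH (LK LD1_c4 LD2_c10 LD3_c22) (LK LD1_c8 LD2_c20 LD3_c57) Lrfl Lrfl
theorem f231087 : Led Lsl_ef (LP (LK LD1_c8 LD2_c34 LD3_c4)) = (LP (LK LD1_c8 LD2_c20 LD3_c57)) :=
  Lgr Lrot28 (Lpr_ct (f7788 IH) (Lpr_et (f231085 IH) (Lpr_ct (f178655 IH) (Lpn (LP (LK LD1_c8 LD2_c20 LD3_c57))))))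
theorem f231090 : Led Lsl_ft (LP (LK LD1_c8 LD2_c34 LD3_c4)) = (LP (LK LD1_c4 LD2_c17 LD3_c26)) :=
  Lre_f IH (LK LD1_c8 LD2_c34 LD3_c4) (LK LD1_c4 LD2_c17 LD3_c26) Lrfl Lrfl
theorem f231091 : Led Lsl_et (LP (LK LD1_c4 LD2_c17 LD3_c26)) = (LP (LK LD1_c2 LD2_c6 LD3_c1)) :=
  Lre_e IH (LK LD1_c4 LD2_c17 LD3_c26) (LK LD1_c2 LD2_c6 LD3_c1) Lrfl Lrfl
theorem f231092 : Led Lsl_ft (LP (LK LD1_c4 LD2_c10 LD3_c19)) = (LP (LK LD1_c8 LD2_c20 LD3_c57)) :=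
  Lre_f IH (LK LD1_c4 LD2_c10 LD3_c19) (LK LD1_c8 LD2_c20 LD3_c57) Lrfl Lrfl
theorem f231093 : Led Lsl_et (LP (LK LD1_c2 LD2_c2 LD3_c20)) = (LP (LK LD1_c4 LD2_c10 LD3_c19)) :=
  Lre_e IH (LK LD1_c2 LD2_c2 LD3_c20) (LK LD1_c4 LD2_c10 LD3_c19) Lrfl Lrfl
theorem f231094 : Led Lsl_ft (LP (LK LD1_c2 LD2_c6 LD3_c1)) = (LP (LK LD1_c2 LD2_c2 LD3_c20)) :=
  Lgr Lrot86 (Lpe (f231091 IH) (Lpe (f231090 IH) (Lpr_ef (f231087 IH) (Lpe (f231092 IH) (Lpe (f231093 IH) (Lpn (LP (LK LD1_c2 LD2_c2 LD3_c20))))))))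
theorem f231104 : Led Lsl_ff (LP (LK LD1_c2 LD2_c6 LD3_c1)) = (LP (LK LD1_c2 LD2_c2 LD3_c20)) :=
  Lgr Lrot3 (Lpr_ft (f231094 IH) (Lpn (LP (LK LD1_c2 LD2_c2 LD3_c20))))
theorem f179626 : Led Lsl_dt (LP (LK LD1_c2 LD2_c6 LD3_c1)) = (LP (LK LD1_c4 LD2_c17 LD3_c25)) :=
  Lre_d IH (LK LD1_c2 LD2_c6 LD3_c1) (LK LD1_c4 LD2_c17 LD3_c25) Lrfl Lrfl
theorem f178502 : Led Lsl_dt (LP (LK LD1_c4 LD2_c10 LD3_c18)) = (LP (LK LD1_c2 LD2_c2 LD3_c20)) :=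
  Lre_d IH (LK LD1_c4 LD2_c10 LD3_c18) (LK LD1_c2 LD2_c2 LD3_c20) Lrfl Lrfl
theorem f231128 : Led Lsl_ft (LP (LK LD1_c4 LD2_c17 LD3_c25)) = (LP (LK LD1_c4 LD2_c10 LD3_c18)) :=
  Lgr Lrot54 (Lpe (f179626 IH) (Lpr_ff (f231104 IH) (Lpe (f178502 IH) (Lpn (LP (LK LD1_c4 LD2_c10 LD3_c18))))))
theorem f179721 : Led Lsl_dt (LP (LK LD1_c4 LD2_c17 LD3_c25)) = (LP (LK LD1_c2 LD2_c6 LD3_c1)) :=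
  Lre_d IH (LK LD1_c4 LD2_c17 LD3_c25) (LK LD1_c2 LD2_c6 LD3_c1) Lrfl Lrfl
theorem f179628 : Led Lsl_ct (LP (LK LD1_c2 LD2_c6 LD3_c1)) = (LP (LK LD1_c1 LD2_c0 LD3_c0)) :=
  Lre_c IH (LK LD1_c2 LD2_c6 LD3_c1) (LK LD1_c1 LD2_c0 LD3_c0) Lrfl Lrfl
theorem f201089 : Led Lsl_dt (LP (LK LD1_c0 LD2_c56 LD3_c13)) = (LP (LK LD1_c1 LD2_c58 LD3_c49)) :=
  Lre_d IH (LK LD1_c0 LD2_c56 LD3_c13) (LK LD1_c1 LD2_c58 LD3_c49) Lrfl Lrfl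
theorem f201090 : Led Lsl_ct (LP (LK LD1_c1 LD2_c58 LD3_c49)) = (LP (LK LD1_c4 LD2_c3 LD3_c40)) :=
  Lre_c IH (LK LD1_c1 LD2_c58 LD3_c49) (LK LD1_c4 LD2_c3 LD3_c40) Lrfl Lrfl
theorem f226812 : Led Lsl_dt (LP (LK LD1_c4 LD2_c3 LD3_c40)) = (LP (LK LD1_c8 LD2_c7 LD3_c50)) :=
  Lre_d IH (LK LD1_c4 LD2_c3 LD3_c40) (LK LD1_c8 LD2_c7 LD3_c50) Lrfl Lrfl
theorem f231149 : Led Lsl_at (LP (LK LD1_c4 LD2_c10 LD3_c18)) = (LP (LK LD1_c8 LD2_c20 LD3_c16)) :=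
  Lre_a IH (LK LD1_c4 LD2_c10 LD3_c18) (LK LD1_c8 LD2_c20 LD3_c16) Lrfl Lrfl
theorem f231165 : Led Lsl_ct (LP (LK LD1_c8 LD2_c7 LD3_c50)) = (LP (LK LD1_c8 LD2_c20 LD3_c16)) :=
  Lgr Lrot98 (Lpe (f226812 IH) (Lpe (f201090 IH) (Lpe (f201089 IH) (Lpe (f201101 IH) (Lpe (f7815 IH) (Lpe (f179628 IH) (Lpe (f179721 IH) (Lpr_ft (f231128 IH) (Lpr_at (f231149 IH) (Lpn (LP (LK LD1_c8 LD2_c20 LD3_c16))))))))))))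
theorem f231173 : Led Lsl_cf (LP (LK LD1_c8 LD2_c7 LD3_c50)) = (LP (LK LD1_c8 LD2_c20 LD3_c16)) :=
  Lgr Lrot11 (Lpr_ct (f231165 IH) (Lpn (LP (LK LD1_c8 LD2_c20 LD3_c16))))
theorem f201105 : Led Lsl_dt (LP (LK LD1_c8 LD2_c7 LD3_c50)) = (LP (LK LD1_c4 LD2_c3 LD3_c40)) :=
  Lre_d IH (LK LD1_c8 LD2_c7 LD3_c50) (LK LD1_c4 LD2_c3 LD3_c40) Lrfl Lrfl
theorem f201104 : Led Lsl_ct (LP (LK LD1_c4 LD2_c3 LD3_c40)) = (LP (LK LD1_c1 LD2_c58 LD3_c49)) :=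
  Lre_c IH (LK LD1_c4 LD2_c3 LD3_c40) (LK LD1_c1 LD2_c58 LD3_c49) Lrfl Lrfl
theorem f201103 : Led Lsl_dt (LP (LK LD1_c1 LD2_c58 LD3_c49)) = (LP (LK LD1_c0 LD2_c56 LD3_c13)) :=
  Lre_d IH (LK LD1_c1 LD2_c58 LD3_c49) (LK LD1_c0 LD2_c56 LD3_c13) Lrfl Lrfl
theorem f201109 : Led Lsl_at (LP (LK LD1_c0 LD2_c59 LD3_c61)) = (LP (LK LD1_c0 LD2_c27 LD3_c16)) :=
  Lre_a IH (LK LD1_c0 LD2_c59 LD3_c61) (LK LD1_c0 LD2_c27 LD3_c16) Lrfl Lrfl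
theorem f231109 : Led Lsl_dt (LP (LK LD1_c4 LD2_c10 LD3_c0)) = (LP (LK LD1_c8 LD2_c20 LD3_c16)) :=
  Lre_d IH (LK LD1_c4 LD2_c10 LD3_c0) (LK LD1_c8 LD2_c20 LD3_c16) Lrfl Lrfl
theorem f230955 : Led Lsl_ct (LP (LK LD1_c2 LD2_c2 LD3_c13)) = (LP (LK LD1_c4 LD2_c10 LD3_c0)) :=
  Lre_c IH (LK LD1_c2 LD2_c2 LD3_c13) (LK LD1_c4 LD2_c10 LD3_c0) Lrfl Lrfl
theorem f231108 : Led Lsl_dt (LP (LK LD1_c0 LD2_c58 LD3_c2)) = (LP (LK LD1_c2 LD2_c2 LD3_c13)) :=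
  Lre_d IH (LK LD1_c0 LD2_c58 LD3_c2) (LK LD1_c2 LD2_c2 LD3_c13) Lrfl Lrfl
theorem f231211 : Led Lsl_ff (LP (LK LD1_c0 LD2_c59 LD3_c61)) = (LP (LK LD1_c0 LD2_c58 LD3_c2)) :=
  Lgr Lrot103 (Lpr_at (f201109 IH) (Lpr_cf (K11.f201093 IH) (Lpe (f201103 IH) (Lpe (f201104 IH) (Lpe (f201105 IH) (Lpr_cf (f231173 IH) (Lpe (f231109 IH) (Lpe (f230955 IH) (Lpe (f231108 IH) (Lpn (LP (LK LD1_c0 LD2_c58 LD3_c2))))))))))))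
theorem f231224 : Led Lsl_gf (LP (LK LD1_c0 LD2_c59 LD3_c60)) = (LP (LK LD1_c0 LD2_c58 LD3_c2)) :=
  Lgr Lrot47 (Lpr_gt (K11.f7852 IH) (Lpe (f201109 IH) (Lpr_ff (f231211 IH) (Lpn (LP (LK LD1_c0 LD2_c58 LD3_c2))))))
theorem f42749 : Led Lsl_ft (LP (LK LD1_c0 LD2_c24 LD3_c43)) = (LP (LK LD1_c0 LD2_c54 LD3_c44)) :=
  Lre_f IH (LK LD1_c0 LD2_c24 LD3_c43) (LK LD1_c0 LD2_c54 LD3_c44) Lrfl Lrfl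
theorem f199762 : Led Lsl_ct (LP (LK LD1_c0 LD2_c54 LD3_c44)) = (LP (LK LD1_c0 LD2_c59 LD3_c60)) :=
  Lgr Lrot40 (Lpe (f42749 IH) (Lpe (K9.f42725 IH) (Lpr_ff (K11.f199582 IH) (Lpn (LP (LK LD1_c0 LD2_c59 LD3_c60))))))
theorem f41316 : Led Lsl_bt (LP (LK LD1_c0 LD2_c54 LD3_c44)) = (LP (LK LD1_c0 LD2_c24 LD3_c45)) :=
  Lre_b IH (LK LD1_c0 LD2_c54 LD3_c44) (LK LD1_c0 LD2_c24 LD3_c45) Lrfl Lrfl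
theorem f177890 : Led Lsl_bt (LP (LK LD1_c0 LD2_c28 LD3_c55)) = (LP (LK LD1_c0 LD2_c12 LD3_c46)) :=
  Lre_b IH (LK LD1_c0 LD2_c28 LD3_c55) (LK LD1_c0 LD2_c12 LD3_c46) Lrfl Lrfl
theorem f177891 : Led Lsl_ct (LP (LK LD1_c0 LD2_c28 LD3_c55)) = (LP (LK LD1_c0 LD2_c28 LD3_c55)) :=
  Lgr Lrot83 (Lpe (f172032 IH) (Lpe (K9.f174915 IH) (Lpr_bf (K9.f177874 IH) (Lpe (K9.f172031 IH) (Lpe (f177890 IH) (Lpn (LP (LK LD1_c0 LD2_c28 LD3_c55))))))))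
theorem f42298 : Led Lsl_gt (LP (LK LD1_c0 LD2_c12 LD3_c37)) = (LP (LK LD1_c0 LD2_c28 LD3_c31)) :=
  Lre_g IH (LK LD1_c0 LD2_c12 LD3_c37) (LK LD1_c0 LD2_c28 LD3_c31) Lrfl Lrfl
theorem f171914 : Led Lsl_bt (LP (LK LD1_c1 LD2_c2 LD3_c33)) = (LP (LK LD1_c0 LD2_c28 LD3_c31)) :=
  Lre_b IH (LK LD1_c1 LD2_c2 LD3_c33) (LK LD1_c0 LD2_c28 LD3_c31) Lrfl Lrfl
theorem f231228 : Led Lsl_ct (LP (LK LD1_c1 LD2_c2 LD3_c33)) = (LP (LK LD1_c0 LD2_c58 LD3_c2)) :=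
  Lgr Lrot64 (Lpr_bt (f171914 IH) (Lpe (f42298 IH) (Lpe (K11.f181957 IH) (Lpr_ct (K11.f20644 IH) (Lpe (K0.f6846 IH) (Lpe (K9.f172031 IH) (Lpe (K9.f181948 IH) (Lpe (f41316 IH) (Lpr_ct (f199762 IH) (Lpr_gf (f231224 IH) (Lpn (LP (LK LD1_c0 LD2_c58 LD3_c2)))))))))))))
theorem f231232 : Led Lsl_gt (LP (LK LD1_c1 LD2_c15 LD3_c37)) = (LP (LK LD1_c1 LD2_c2 LD3_c33)) :=
  Lgr Lrot82 (Lpr_bf (K10.f48125 IH) (Lpr_ct (K8.f33280 IH) (Lpr_gf (f212506 IH) (Lpe (f177891 IH) (Lpr_bt (f177890 IH) (Lpe (K9.f181948 IH) (Lpe (f41316 IH) (Lpr_ct (f199762 IH) (Lpr_gf (f231224 IH) (Lpe (f231228 IH) (Lpn (LP (LK LD1_c1 LD2_c2 LD3_c33)))))))))))))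
theorem f47813 : Led Lsl_gt (LP (LK LD1_c4 LD2_c7 LD3_c50)) = (LP (LK LD1_c2 LD2_c1 LD3_c16)) :=
  Lre_g IH (LK LD1_c4 LD2_c7 LD3_c50) (LK LD1_c2 LD2_c1 LD3_c16) Lrfl Lrfl
theorem f231247 : Led Lsl_et (LP (LK LD1_c2 LD2_c11 LD3_c2)) = (LP (LK LD1_c1 LD2_c2 LD3_c33)) :=
  Lre_e IH (LK LD1_c2 LD2_c11 LD3_c2) (LK LD1_c1 LD2_c2 LD3_c33) Lrfl Lrfl
theorem f231248 : Led Lsl_df (LP (LK LD1_c4 LD2_c7 LD3_c50)) = (LP (LK LD1_c2 LD2_c11 LD3_c2)) :=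
  Lgr Lrot170 (Lpr_gt (f47813 IH) (Lpe (f47812 IH) (Lpr_et (K9.f47519 IH) (Lpr_gt (K1.f47801 IH) (Lpr_dt (K1.f29003 IH) (Lpr_gt (K0.f29033 IH) (Lpe (f47788 IH) (Lpr_et (f47814 IH) (Lpr_gt (f231232 IH) (Lpe (f231247 IH) (Lpn (LP (LK LD1_c2 LD2_c11 LD3_c2)))))))))))))
theorem f231294 : Led Lsl_et (LP (LK LD1_c4 LD2_c7 LD3_c50)) = (LP (LK LD1_c8 LD2_c15 LD3_c43)) :=
  Lre_e IH (LK LD1_c4 LD2_c7 LD3_c50) (LK LD1_c8 LD2_c15 LD3_c43) Lrfl Lrfl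
theorem f231295 : Led Lsl_et (LP (LK LD1_c1 LD2_c2 LD3_c33)) = (LP (LK LD1_c2 LD2_c11 LD3_c2)) :=
  Lre_e IH (LK LD1_c1 LD2_c2 LD3_c33) (LK LD1_c2 LD2_c11 LD3_c2) Lrfl Lrfl
theorem f231244 : Led Lsl_dt (LP (LK LD1_c2 LD2_c11 LD3_c1)) = (LP (LK LD1_c1 LD2_c2 LD3_c33)) :=
  Lre_d IH (LK LD1_c2 LD2_c11 LD3_c1) (LK LD1_c1 LD2_c2 LD3_c33) Lrfl Lrfl

end

end K12

end

end Cfsg.Agent.Helper28.S1692
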