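import Cfsg.Agent.Lib.Helper28.S1692.Seeds12

set_option autoImplicit false
set_option maxRecDepth 100000
set_option linter.all false

namespace Cfsg.Agent.Helper28.S1692

open Cfsg.Agent.Helper28
open Cfsg.Spor.ON (Gen)

noncomputable section

namespace K13
abbrev LD1_c0 := D1.c0
abbrev LD1_c1 := D1.c1
abbrev LD1_c2 := D1.c2
abbrev LD1_c3 := D1.c3
abbrev LD1_c4 := D1.c4
abbrev LD1_c5 := D1.c5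
abbrev LD1_c6 := D1.c6
abbrev LD1_c7 := D1.c7
abbrev LD1_c8 := D1.c8
abbrev LD1_c9 := D1.c9
abbrev LD1_c10 := D1.c10
abbrev LD1_c11 := D1.c11
abbrev LD1_c12 := D1.c12
abbrev LD1_c13 := D1.c13
abbrev LD1_c14 := D1.c14
abbrev LD1_c15 := D1.c15
abbrev LD1_c16 := D1.c16
abbrev LD1_c17 := D1.c17
abbrev LD1_c18 := D1.c18
abbrev LD1_c19 := D1.c19
abbrev LD1_c20 := D1.c20
abbrev LD1_c21 := D1.c21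
abbrev LD1_c22 := D1.c22
abbrev LD1_c23 := D1.c23
abbrev LD1_c24 := D1.c24
abbrev LD1_c25 := D1.c25
abbrev LD1_c26 := D1.c26
abbrev LD1_c27 := D1.c27
abbrev LD1_c28 := D1.c28
abbrev LD1_c29 := D1.c29
abbrev LD1_c30 := D1.c30
abbrev LD1_c31 := D1.c31
abbrev LD1_c32 := D1.c32
abbrev LD2_c0 := D2.c0
abbrev LD2_c1 := D2.c1
abbrev LD2_c2 := D2.c2
abbrev LD2_c3 := D2.c3
abbrev LD2_c4 := D2.c4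
abbrev LD2_c5 := D2.c5
abbrev LD2_c6 := D2.c6
abbrev LD2_c7 := D2.c7
abbrev LD2_c8 := D2.c8
abbrev LD2_c9 := D2.c9
abbrev LD2_c10 := D2.c10
abbrev LD2_c11 := D2.c11
abbrev LD2_c12 := D2.c12
abbrev LD2_c13 := D2.c13
abbrev LD2_c14 := D2.c14
abbrev LD2_c15 := D2.c15
abbrev LD2_c16 := D2.c16
abbrev LD2_c17 := D2.c17
abbrev LD2_c18 := D2.c18
abbrev LD2_c19 := D2.c19
abbrev LD2_c20 := D2.c20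
abbrev LD2_c21 := D2.c21
abbrev LD2_c22 := D2.c22
abbrev LD2_c23 := D2.c23
abbrev LD2_c24 := D2.c24
abbrev LD2_c25 := D2.c25
abbrev LD2_c26 := D2.c26
abbrev LD2_c27 := D2.c27
abbrev LD2_c28 := D2.c28
abbrev LD2_c29 := D2.c29
abbrev LD2_c30 := D2.c30
abbrev LD2_c31 := D2.c31
abbrev LD2_c32 := D2.c32
abbrev LD2_c33 := D2.c33
abbrev LD2_c34 := D2.c34
abbrev LD2_c35 := D2.c35
abbrev LD2_c36 := D2.c36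
abbrev LD2_c37 := D2.c37
abbrev LD2_c38 := D2.c38
abbrev LD2_c39 := D2.c39
abbrev LD2_c40 := D2.c40
abbrev LD2_c41 := D2.c41
abbrev LD2_c42 := D2.c42
abbrev LD2_c43 := D2.c43
abbrev LD2_c44 := D2.c44
abbrev LD2_c45 := D2.c45
abbrev LD2_c46 := D2.c46
abbrev LD2_c47 := D2.c47
abbrev LD2_c48 := D2.c48
abbrev LD2_c49 := D2.c49
abbrev LD2_c50 := D2.c50
abbrev LD2_c51 := D2.c51
abbrev LD2_c52 := D2.c52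
abbrev LD2_c53 := D2.c53
abbrev LD2_c54 := D2.c54
abbrev LD2_c55 := D2.c55
abbrev LD2_c56 := D2.c56
abbrev LD2_c57 := D2.c57
abbrev LD2_c58 := D2.c58
abbrev LD2_c59 := D2.c59
abbrev LD3_c0 := D3.c0
abbrev LD3_c1 := D3.c1
abbrev LD3_c2 := D3.c2
abbrev LD3_c3 := D3.c3
abbrev LD3_c4 := D3.c4
abbrev LD3_c5 := D3.c5
abbrev LD3_c6 := D3.c6
abbrev LD3_c7 := D3.c7
abbrev LD3_c8 := D3.c8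
abbrev LD3_c9 := D3.c9
abbrev LD3_c10 := D3.c10
abbrev LD3_c11 := D3.c11
abbrev LD3_c12 := D3.c12
abbrev LD3_c13 := D3.c13
abbrev LD3_c14 := D3.c14
abbrev LD3_c15 := D3.c15
abbrev LD3_c16 := D3.c16
abbrev LD3_c17 := D3.c17
abbrev LD3_c18 := D3.c18
abbrev LD3_c19 := D3.c19
abbrev LD3_c20 := D3.c20
abbrev LD3_c21 := D3.c21
abbrev LD3_c22 := D3.c22
abbrev LD3_c23 := D3.c23
abbrev LD3_c24 := D3.c24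
abbrev LD3_c25 := D3.c25
abbrev LD3_c26 := D3.c26
abbrev LD3_c27 := D3.c27
abbrev LD3_c28 := D3.c28
abbrev LD3_c29 := D3.c29
abbrev LD3_c30 := D3.c30
abbrev LD3_c31 := D3.c31
abbrev LD3_c32 := D3.c32
abbrev LD3_c33 := D3.c33
abbrev LD3_c34 := D3.c34
abbrev LD3_c35 := D3.c35
abbrev LD3_c36 := D3.c36
abbrev LD3_c37 := D3.c37
abbrev LD3_c38 := D3.c38
abbrev LD3_c39 := D3.c39
abbrev LD3_c40 := D3.c40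
abbrev LD3_c41 := D3.c41
abbrev LD3_c42 := D3.c42
abbrev LD3_c43 := D3.c43
abbrev LD3_c44 := D3.c44
abbrev LD3_c45 := D3.c45
abbrev LD3_c46 := D3.c46
abbrev LD3_c47 := D3.c47
abbrev LD3_c48 := D3.c48
abbrev LD3_c49 := D3.c49
abbrev LD3_c50 := D3.c50
abbrev LD3_c51 := D3.c51
abbrev LD3_c52 := D3.c52
abbrev LD3_c53 := D3.c53
abbrev LD3_c54 := D3.c54
abbrev LD3_c55 := D3.c55
abbrev LD3_c56 := D3.c56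
abbrev LD3_c57 := D3.c57
abbrev LD3_c58 := D3.c58
abbrev LD3_c59 := D3.c59
abbrev LD3_c60 := D3.c60
abbrev LD3_c61 := D3.c61
abbrev LG_g := Gen.g
abbrev Lsl_gt : Gen × Bool := sl_gt
alias Lfl_gt := fl_gt
alias Lpr_gt := pr_gt
abbrev Lsl_gf : Gen × Bool := sl_gf
alias Lfl_gf := fl_gf
alias Lpr_gf := pr_gf
alias Lre_g := re_g
alias Leoe_g := eoe_g
abbrev LG_a := Gen.a
abbrev Lsl_at : Gen × Bool := sl_at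
alias Lfl_at := fl_at
alias Lpr_at := pr_at
abbrev Lsl_af : Gen × Bool := sl_af
alias Lfl_af := fl_af
alias Lpr_af := pr_af
alias Lre_a := re_a
alias Leoe_a := eoe_a
abbrev LG_b := Gen.b
abbrev Lsl_bt : Gen × Bool := sl_bt
alias Lfl_bt := fl_bt
alias Lpr_bt := pr_bt
abbrev Lsl_bf : Gen × Bool := sl_bf
alias Lfl_bf := fl_bf
alias Lpr_bf := pr_bf
alias Lre_b := re_b
alias Leoe_b := eoe_b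
abbrev LG_c := Gen.c
abbrev Lsl_ct : Gen × Bool := sl_ct
alias Lfl_ct := fl_ct
alias Lpr_ct := pr_ct
abbrev Lsl_cf : Gen × Bool := sl_cf
alias Lfl_cf := fl_cf
alias Lpr_cf := pr_cf
alias Lre_c := re_c
alias Leoe_c := eoe_c
abbrev LG_d := Gen.d
abbrev Lsl_dt : Gen × Bool := sl_dt
alias Lfl_dt := fl_dt
alias Lpr_dt := pr_dt
abbrev Lsl_df : Gen × Bool := sl_df
alias Lfl_df := fl_df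
alias Lpr_df := pr_df
alias Lre_d := re_d
alias Leoe_d := eoe_d
abbrev LG_e := Gen.e
abbrev Lsl_et : Gen × Bool := sl_et
alias Lfl_et := fl_et
alias Lpr_et := pr_et
abbrev Lsl_ef : Gen × Bool := sl_ef
alias Lfl_ef := fl_ef
alias Lpr_ef := pr_ef
alias Lre_e := re_e
alias Leoe_e := eoe_e
abbrev LG_f := Gen.f
abbrev Lsl_ft : Gen × Bool := sl_ft
alias Lfl_ft := fl_ft
alias Lpr_ft := pr_ft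
abbrev Lsl_ff : Gen × Bool := sl_ff
alias Lfl_ff := fl_ff
alias Lpr_ff := pr_ff
alias Lre_f := re_f
alias Leoe_f := eoe_f
abbrev LK := Pt.mk
abbrev LQ : Type := Qt rels S
abbrev LP (p : Pt) : LQ := P p
abbrev Led (l : Gen × Bool) (c : LQ) : LQ := ed l c
abbrev LEOK (x : Gen) (p : Pt) : Prop := EntryOK rels S fwd inv o plet idx x p
alias Lpe := pe
alias Lpn := pn
alias Lgr := gr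
alias Lpq := pq
alias Lpqs := pqs
alias Llr := lr
alias Leop := eop
alias Lefun := efun
alias Lecon := econ
theorem Lrfl {α : Sort _} {a : α} : a = a := rfl
alias Lrot0 := rot0
alias Lrot1 := rot1
alias Lrot2 := rot2
alias Lrot3 := rot3
alias Lrot4 := rot4
alias Lrot5 := rot5
alias Lrot6 := rot6
alias Lrot7 := rot7
alias Lrot8 := rot8
alias Lrot9 := rot9
alias Lrot10 := rot10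
alias Lrot11 := rot11
alias Lrot12 := rot12
alias Lrot13 := rot13
alias Lrot14 := rot14
alias Lrot15 := rot15
alias Lrot17 := rot17
alias Lrot18 := rot18
alias Lrot19 := rot19
alias Lrot20 := rot20
alias Lrot21 := rot21
alias Lrot22 := rot22
alias Lrot23 := rot23
alias Lrot24 := rot24
alias Lrot25 := rot25
alias Lrot26 := rot26
alias Lrot27 := rot27
alias Lrot28 := rot28
alias Lrot29 := rot29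
alias Lrot30 := rot30
alias Lrot31 := rot31
alias Lrot32 := rot32
alias Lrot33 := rot33
alias Lrot34 := rot34
alias Lrot35 := rot35
alias Lrot36 := rot36
alias Lrot37 := rot37
alias Lrot38 := rot38
alias Lrot39 := rot39
alias Lrot40 := rot40
alias Lrot41 := rot41
alias Lrot42 := rot42
alias Lrot43 := rot43
alias Lrot44 := rot44
alias Lrot45 := rot45
alias Lrot46 := rot46
alias Lrot47 := rot47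
alias Lrot48 := rot48
alias Lrot49 := rot49
alias Lrot50 := rot50
alias Lrot51 := rot51
alias Lrot52 := rot52
alias Lrot53 := rot53
alias Lrot54 := rot54
alias Lrot55 := rot55
alias Lrot56 := rot56
alias Lrot57 := rot57
alias Lrot58 := rot58
alias Lrot59 := rot59
alias Lrot60 := rot60
alias Lrot61 := rot61
alias Lrot62 := rot62
alias Lrot63 := rot63
alias Lrot64 := rot64
alias Lrot65 := rot65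
alias Lrot66 := rot66
alias Lrot67 := rot67
alias Lrot68 := rot68
alias Lrot69 := rot69
alias Lrot70 := rot70
alias Lrot71 := rot71
alias Lrot72 := rot72
alias Lrot73 := rot73
alias Lrot74 := rot74
alias Lrot75 := rot75
alias Lrot76 := rot76
alias Lrot77 := rot77
alias Lrot78 := rot78
alias Lrot79 := rot79
alias Lrot80 := rot80
alias Lrot81 := rot81
alias Lrot82 := rot82
alias Lrot83 := rot83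
alias Lrot84 := rot84
alias Lrot86 := rot86
alias Lrot87 := rot87
alias Lrot88 := rot88
alias Lrot90 := rot90
alias Lrot91 := rot91
alias Lrot92 := rot92
alias Lrot93 := rot93
alias Lrot94 := rot94
alias Lrot95 := rot95
alias Lrot96 := rot96
alias Lrot97 := rot97
alias Lrot98 := rot98
alias Lrot99 := rot99
alias Lrot100 := rot100
alias Lrot101 := rot101
alias Lrot102 := rot102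
alias Lrot103 := rot103
alias Lrot104 := rot104
alias Lrot105 := rot105
alias Lrot106 := rot106
alias Lrot107 := rot107
alias Lrot108 := rot108
alias Lrot109 := rot109
alias Lrot110 := rot110
alias Lrot111 := rot111
alias Lrot112 := rot112
alias Lrot113 := rot113
alias Lrot114 := rot114
alias Lrot115 := rot115
alias Lrot116 := rot116
alias Lrot117 := rot117
alias Lrot118 := rot118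
alias Lrot119 := rot119
alias Lrot120 := rot120
alias Lrot121 := rot121
alias Lrot122 := rot122
alias Lrot123 := rot123
alias Lrot124 := rot124
alias Lrot125 := rot125
alias Lrot126 := rot126
alias Lrot127 := rot127
alias Lrot128 := rot128
alias Lrot129 := rot129
alias Lrot130 := rot130
alias Lrot131 := rot131
alias Lrot132 := rot132
alias Lrot133 := rot133
alias Lrot134 := rot134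
alias Lrot135 := rot135
alias Lrot136 := rot136
alias Lrot137 := rot137
alias Lrot138 := rot138
alias Lrot139 := rot139
alias Lrot140 := rot140
alias Lrot141 := rot141
alias Lrot142 := rot142
alias Lrot143 := rot143
alias Lrot144 := rot144
alias Lrot145 := rot145
alias Lrot146 := rot146
alias Lrot147 := rot147
alias Lrot148 := rot148
alias Lrot149 := rot149
alias Lrot150 := rot150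
alias Lrot151 := rot151
alias Lrot152 := rot152
alias Lrot153 := rot153
alias Lrot154 := rot154
alias Lrot155 := rot155
alias Lrot156 := rot156
alias Lrot157 := rot157
alias Lrot158 := rot158
alias Lrot159 := rot159
alias Lrot160 := rot160
alias Lrot161 := rot161
alias Lrot162 := rot162
alias Lrot163 := rot163
alias Lrot164 := rot164
alias Lrot165 := rot165
alias Lrot166 := rot166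
alias Lrot167 := rot167
alias Lrot168 := rot168
alias Lrot169 := rot169
alias Lrot170 := rot170
alias Lrot171 := rot171
alias Lrot172 := rot172
alias Lrot173 := rot173
alias Lrot174 := rot174
alias Lrot175 := rot175
alias Lrot176 := rot176
alias Lrot179 := rot179
alias Lrot180 := rot180
alias Lrot181 := rot181
alias Lrot185 := rot185
alias Lrot186 := rot186
alias Lrot188 := rot188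
alias Lrot189 := rot189

section
variable (IH : IHT)
include IH

theorem f231296 : Led Lsl_et (LP (LK LD1_c4 LD2_c27 LD3_c43)) = (LP (LK LD1_c2 LD2_c11 LD3_c1)) :=
  Lre_e IH (LK LD1_c4 LD2_c27 LD3_c43) (LK LD1_c2 LD2_c11 LD3_c1) Lrfl Lrfl
theorem f231297 : Led Lsl_dt (LP (LK LD1_c8 LD2_c15 LD3_c43)) = (LP (LK LD1_c4 LD2_c27 LD3_c43)) :=
  Lgr Lrot77 (Lpe (K12.f231294 IH) (Lpr_df (K12.f231248 IH) (Lpe (K12.f231295 IH) (Lpe (K12.f231244 IH) (Lpe (f231296 IH) (Lpn (LP (LK LD1_c4 LD2_c27 LD3_c43))))))))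
theorem f231315 : Led Lsl_ft (LP (LK LD1_c15 LD2_c32 LD3_c4)) = (LP (LK LD1_c8 LD2_c15 LD3_c43)) :=
  Lre_f IH (LK LD1_c15 LD2_c32 LD3_c4) (LK LD1_c8 LD2_c15 LD3_c43) Lrfl Lrfl
theorem f231316 : Led Lsl_ft (LP (LK LD1_c4 LD2_c27 LD3_c43)) = (LP (LK LD1_c8 LD2_c53 LD3_c20)) :=
  Lre_f IH (LK LD1_c4 LD2_c27 LD3_c43) (LK LD1_c8 LD2_c53 LD3_c20) Lrfl Lrfl
theorem f231317 : Led Lsl_df (LP (LK LD1_c15 LD2_c32 LD3_c4)) = (LP (LK LD1_c8 LD2_c53 LD3_c20)) :=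
  Lgr Lrot78 (Lpr_ft (f231315 IH) (Lpr_dt (f231297 IH) (Lpr_ft (f231316 IH) (Lpn (LP (LK LD1_c8 LD2_c53 LD3_c20))))))
theorem f231356 : Led Lsl_dt (LP (LK LD1_c15 LD2_c32 LD3_c4)) = (LP (LK LD1_c8 LD2_c53 LD3_c20)) :=
  Lgr Lrot42 (Lpr_df (f231317 IH) (Lpn (LP (LK LD1_c8 LD2_c53 LD3_c20))))
theorem f231359 : Led Lsl_bt (LP (LK LD1_c8 LD2_c53 LD3_c20)) = (LP (LK LD1_c4 LD2_c27 LD3_c58)) :=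
  Lre_b IH (LK LD1_c8 LD2_c53 LD3_c20) (LK LD1_c4 LD2_c27 LD3_c58) Lrfl Lrfl
theorem f231360 : Led Lsl_dt (LP (LK LD1_c4 LD2_c27 LD3_c58)) = (LP (LK LD1_c8 LD2_c53 LD3_c53)) :=
  Lre_d IH (LK LD1_c4 LD2_c27 LD3_c58) (LK LD1_c8 LD2_c53 LD3_c53) Lrfl Lrfl
theorem f231361 : Led Lsl_bf (LP (LK LD1_c15 LD2_c32 LD3_c4)) = (LP (LK LD1_c8 LD2_c53 LD3_c53)) :=
  Lgr Lrot93 (Lpr_dt (f231356 IH) (Lpr_bt (f231359 IH) (Lpr_dt (f231360 IH) (Lpn (LP (LK LD1_c8 LD2_c53 LD3_c53))))))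
theorem f231365 : Led Lsl_ft (LP (LK LD1_c4 LD2_c27 LD3_c57)) = (LP (LK LD1_c8 LD2_c53 LD3_c53)) :=
  Lre_f IH (LK LD1_c4 LD2_c27 LD3_c57) (LK LD1_c8 LD2_c53 LD3_c53) Lrfl Lrfl
theorem f231366 : Led Lsl_bt (LP (LK LD1_c8 LD2_c15 LD3_c43)) = (LP (LK LD1_c4 LD2_c27 LD3_c57)) :=
  Lgr Lrot35 (Lpe (f231315 IH) (Lpr_bf (f231361 IH) (Lpe (f231365 IH) (Lpn (LP (LK LD1_c4 LD2_c27 LD3_c57))))))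
theorem f42377 : Led Lsl_et (LP (LK LD1_c4 LD2_c27 LD3_c57)) = (LP (LK LD1_c2 LD2_c11 LD3_c8)) :=
  Lre_e IH (LK LD1_c4 LD2_c27 LD3_c57) (LK LD1_c2 LD2_c11 LD3_c8) Lrfl Lrfl
theorem f231371 : Led Lsl_bf (LP (LK LD1_c4 LD2_c7 LD3_c50)) = (LP (LK LD1_c2 LD2_c11 LD3_c8)) :=
  Lgr Lrot96 (Lpr_et (K12.f231294 IH) (Lpr_bt (f231366 IH) (Lpr_et (f42377 IH) (Lpn (LP (LK LD1_c2 LD2_c11 LD3_c8))))))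
theorem f231382 : Led Lsl_ct (LP (LK LD1_c2 LD2_c11 LD3_c8)) = (LP (LK LD1_c4 LD2_c27 LD3_c59)) :=
  Lre_c IH (LK LD1_c2 LD2_c11 LD3_c8) (LK LD1_c4 LD2_c27 LD3_c59) Lrfl Lrfl
theorem f231383 : Led Lsl_gt (LP (LK LD1_c8 LD2_c53 LD3_c54)) = (LP (LK LD1_c4 LD2_c27 LD3_c59)) :=
  Lre_g IH (LK LD1_c8 LD2_c53 LD3_c54) (LK LD1_c4 LD2_c27 LD3_c59) Lrfl Lrfl
theorem f231384 : Led Lsl_ct (LP (LK LD1_c5 LD2_c9 LD3_c26)) = (LP (LK LD1_c8 LD2_c53 LD3_c54)) :=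
  Lgr Lrot91 (Lpr_gf (K11.f195832 IH) (Lpe (K10.f194762 IH) (Lpr_ct (K10.f184125 IH) (Lpe (K10.f49326 IH) (Lpe (K10.f49338 IH) (Lpr_bt (K10.f49239 IH) (Lpe (K12.f47813 IH) (Lpr_bf (f231371 IH) (Lpr_ct (f231382 IH) (Lpe (f231383 IH) (Lpn (LP (LK LD1_c8 LD2_c53 LD3_c54)))))))))))))
theorem f195936 : Led Lsl_bt (LP (LK LD1_c5 LD2_c9 LD3_c26)) = (LP (LK LD1_c5 LD2_c15 LD3_c15)) :=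
  Lgr Lrot62 (Lpr_af (K11.f195835 IH) (Lpe (K10.f189293 IH) (Lpr_af (K10.f27609 IH) (Lpe (K11.f183796 IH) (Lpr_af (K11.f189708 IH) (Lpn (LP (LK LD1_c5 LD2_c15 LD3_c15))))))))
theorem f41760 : Led Lsl_et (LP (LK LD1_c1 LD2_c15 LD3_c23)) = (LP (LK LD1_c0 LD2_c35 LD3_c0)) :=
  Lre_e IH (LK LD1_c1 LD2_c15 LD3_c23) (LK LD1_c0 LD2_c35 LD3_c0) Lrfl Lrfl
theorem f41761 : Led Lsl_bf (LP (LK LD1_c1 LD2_c15 LD3_c23)) = (LP (LK LD1_c1 LD2_c24 LD3_c56)) :=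
  Lgr Lrot96 (Lpr_et (f41760 IH) (Lpr_bt (K12.f41759 IH) (Lpr_et (K1.f41749 IH) (Lpn (LP (LK LD1_c1 LD2_c24 LD3_c56))))))
theorem f42133 : Led Lsl_gt (LP (LK LD1_c1 LD2_c15 LD3_c23)) = (LP (LK LD1_c2 LD2_c36 LD3_c48)) :=
  Lre_g IH (LK LD1_c1 LD2_c15 LD3_c23) (LK LD1_c2 LD2_c36 LD3_c48) Lrfl Lrfl
theorem f214057 : Led Lsl_ct (LP (LK LD1_c2 LD2_c36 LD3_c48)) = (LP (LK LD1_c5 LD2_c20 LD3_c17)) :=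
  Lre_c IH (LK LD1_c2 LD2_c36 LD3_c48) (LK LD1_c5 LD2_c20 LD3_c17) Lrfl Lrfl
theorem f231405 : Led Lsl_gt (LP (LK LD1_c5 LD2_c20 LD3_c17)) = (LP (LK LD1_c8 LD2_c53 LD3_c54)) :=
  Lgr Lrot149 (Lpe (f214057 IH) (Lpe (f42133 IH) (Lpr_bf (f41761 IH) (Lpr_ct (K9.f41764 IH) (Lpe (K12.f190973 IH) (Lpr_cf (K12.f214055 IH) (Lpe (K12.f214051 IH) (Lpr_gf (K12.f189620 IH) (Lpe (f195936 IH) (Lpr_ct (f231384 IH) (Lpn (LP (LK LD1_c8 LD2_c53 LD3_c54)))))))))))))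
theorem f45204 : Led Lsl_ct (LP (LK LD1_c2 LD2_c4 LD3_c53)) = (LP (LK LD1_c0 LD2_c59 LD3_c29)) :=
  Lre_c IH (LK LD1_c2 LD2_c4 LD3_c53) (LK LD1_c0 LD2_c59 LD3_c29) Lrfl Lrfl
theorem f45403 : Led Lsl_gt (LP (LK LD1_c4 LD2_c14 LD3_c60)) = (LP (LK LD1_c2 LD2_c4 LD3_c53)) :=
  Lre_g IH (LK LD1_c4 LD2_c14 LD3_c60) (LK LD1_c2 LD2_c4 LD3_c53) Lrfl Lrfl
theorem f189624 : Led Lsl_ct (LP (LK LD1_c4 LD2_c13 LD3_c55)) = (LP (LK LD1_c4 LD2_c14 LD3_c60)) :=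
  Lgr Lrot152 (Lpr_gf (K12.f189620 IH) (Lpe (K11.f47684 IH) (Lpe (K10.f189605 IH) (Lpr_ct (K10.f45238 IH) (Lpr_gt (K10.f45402 IH) (Lpr_ct (K1.f45382 IH) (Lpe (K1.f45131 IH) (Lpe (f45204 IH) (Lpe (f45403 IH) (Lpn (LP (LK LD1_c4 LD2_c14 LD3_c60))))))))))))
theorem f31312 : Led Lsl_bt (LP (LK LD1_c2 LD2_c7 LD3_c54)) = (LP (LK LD1_c4 LD2_c20 LD3_c49)) :=
  Lre_b IH (LK LD1_c2 LD2_c7 LD3_c54) (LK LD1_c4 LD2_c20 LD3_c49) Lrfl Lrfl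
theorem f54318 : Led Lsl_bf (LP (LK LD1_c1 LD2_c1 LD3_c2)) = (LP (LK LD1_c0 LD2_c59 LD3_c29)) :=
  Lgr Lrot90 (Lpr_ct (K9.f31282 IH) (Lpr_bt (f31312 IH) (Lpr_ct (K11.f54313 IH) (Lpr_bt (K11.f45261 IH) (Lpr_ct (f45204 IH) (Lpn (LP (LK LD1_c0 LD2_c59 LD3_c29))))))))
theorem f31413 : Led Lsl_gt (LP (LK LD1_c1 LD2_c1 LD3_c2)) = (LP (LK LD1_c2 LD2_c7 LD3_c52)) :=
  Lre_g IH (LK LD1_c1 LD2_c1 LD3_c2) (LK LD1_c2 LD2_c7 LD3_c52) Lrfl Lrfl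
theorem f231413 : Led Lsl_bt (LP (LK LD1_c2 LD2_c36 LD3_c48)) = (LP (LK LD1_c2 LD2_c7 LD3_c52)) :=
  Lgr Lrot92 (Lpr_ct (f214057 IH) (Lpr_gt (f231405 IH) (Lpe (f231384 IH) (Lpr_bt (f195936 IH) (Lpe (K12.f189620 IH) (Lpr_ct (f189624 IH) (Lpr_gt (f45403 IH) (Lpe (K10.f45267 IH) (Lpe (f54318 IH) (Lpr_gt (f31413 IH) (Lpn (LP (LK LD1_c2 LD2_c7 LD3_c52)))))))))))))
theorem f231419 : Led Lsl_bf (LP (LK LD1_c2 LD2_c36 LD3_c48)) = (LP (LK LD1_c2 LD2_c7 LD3_c52)) :=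
  Lgr Lrot24 (Lpr_bt (f231413 IH) (Lpn (LP (LK LD1_c2 LD2_c7 LD3_c52))))
theorem f45820 : Led Lsl_gt (LP (LK LD1_c2 LD2_c36 LD3_c48)) = (LP (LK LD1_c1 LD2_c15 LD3_c49)) :=
  Lre_g IH (LK LD1_c2 LD2_c36 LD3_c48) (LK LD1_c1 LD2_c15 LD3_c49) Lrfl Lrfl
theorem f33021 : Led Lsl_gt (LP (LK LD1_c2 LD2_c7 LD3_c28)) = (LP (LK LD1_c4 LD2_c19 LD3_c58)) :=
  Lre_g IH (LK LD1_c2 LD2_c7 LD3_c28) (LK LD1_c4 LD2_c19 LD3_c58) Lrfl Lrfl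
theorem f231450 : Led Lsl_cf (LP (LK LD1_c4 LD2_c19 LD3_c58)) = (LP (LK LD1_c2 LD2_c7 LD3_c52)) :=
  Lgr Lrot58 (Lpe (f33021 IH) (Lpe (K11.f31744 IH) (Lpe (K11.f33028 IH) (Lpe (K10.f33049 IH) (Lpe (K10.f33050 IH) (Lpe (K10.f187665 IH) (Lpe (K10.f9018 IH) (Lpe (K1.f46408 IH) (Lpe (f45820 IH) (Lpr_bf (f231419 IH) (Lpn (LP (LK LD1_c2 LD2_c7 LD3_c52)))))))))))))
theorem f231452 : Led Lsl_gf (LP (LK LD1_c4 LD2_c20 LD3_c28)) = (LP (LK LD1_c4 LD2_c19 LD3_c58)) :=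
  Lgr Lrot126 (Lpe (K0.f31829 IH) (Lpr_bt (K10.f33082 IH) (Lpr_gt (K12.f214068 IH) (Lpe (K12.f214055 IH) (Lpr_gt (K12.f190973 IH) (Lpe (K9.f41764 IH) (Lpe (f41761 IH) (Lpr_gt (f42133 IH) (Lpr_bf (f231419 IH) (Lpe (f231450 IH) (Lpn (LP (LK LD1_c4 LD2_c19 LD3_c58)))))))))))))
theorem f31202 : Led Lsl_at (LP (LK LD1_c2 LD2_c7 LD3_c55)) = (LP (LK LD1_c2 LD2_c7 LD3_c61)) :=
  Lgr Lrot100 (Lpr_af (K0.f31187 IH) (Lpn (LP (LK LD1_c2 LD2_c7 LD3_c61))))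
theorem f31412 : Led Lsl_ft (LP (LK LD1_c1 LD2_c1 LD3_c2)) = (LP (LK LD1_c2 LD2_c7 LD3_c55)) :=
  Lre_f IH (LK LD1_c1 LD2_c1 LD3_c2) (LK LD1_c2 LD2_c7 LD3_c55) Lrfl Lrfl
theorem f31414 : Led Lsl_gt (LP (LK LD1_c2 LD2_c7 LD3_c52)) = (LP (LK LD1_c2 LD2_c7 LD3_c61)) :=
  Lgr Lrot46 (Lpe (f31413 IH) (Lpr_ft (f31412 IH) (Lpr_at (f31202 IH) (Lpn (LP (LK LD1_c2 LD2_c7 LD3_c61))))))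
theorem f231454 : Led Lsl_cf (LP (LK LD1_c2 LD2_c7 LD3_c52)) = (LP (LK LD1_c4 LD2_c19 LD3_c58)) :=
  Lgr Lrot166 (Lpr_gt (f31414 IH) (Lpr_dt (K10.f28699 IH) (Lpr_gt (K10.f171655 IH) (Lpr_dt (K11.f171664 IH) (Lpr_ct (K11.f171678 IH) (Lpe (K11.f171677 IH) (Lpr_gf (K11.f201733 IH) (Lpe (K0.f31992 IH) (Lpr_gf (f231452 IH) (Lpn (LP (LK LD1_c4 LD2_c19 LD3_c58))))))))))))
theorem f201408 : Led Lsl_ct (LP (LK LD1_c4 LD2_c25 LD3_c11)) = (LP (LK LD1_c2 LD2_c10 LD3_c0)) :=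
  Lre_c IH (LK LD1_c4 LD2_c25 LD3_c11) (LK LD1_c2 LD2_c10 LD3_c0) Lrfl Lrfl
theorem f201426 : Led Lsl_df (LP (LK LD1_c4 LD2_c25 LD3_c11)) = (LP (LK LD1_c4 LD2_c20 LD3_c60)) :=
  Lgr Lrot13 (Lpr_ct (f201408 IH) (Lpr_dt (K11.f201422 IH) (Lpr_ct (K11.f201418 IH) (Lpr_af (K11.f31575 IH) (Lpe (K8.f28641 IH) (Lpr_dt (K1.f28639 IH) (Lpr_ct (K10.f28679 IH) (Lpr_dt (K0.f28713 IH) (Lpr_ct (K9.f28714 IH) (Lpn (LP (LK LD1_c4 LD2_c20 LD3_c60))))))))))))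
theorem f201437 : Led Lsl_ct (LP (LK LD1_c2 LD2_c10 LD3_c0)) = (LP (LK LD1_c4 LD2_c25 LD3_c11)) :=
  Lre_c IH (LK LD1_c2 LD2_c10 LD3_c0) (LK LD1_c4 LD2_c25 LD3_c11) Lrfl Lrfl
theorem f231461 : Led Lsl_gf (LP (LK LD1_c2 LD2_c10 LD3_c0)) = (LP (LK LD1_c2 LD2_c33 LD3_c22)) :=
  Lgr Lrot104 (Lpr_ct (f201437 IH) (Lpr_df (f201426 IH) (Lpe (K9.f28714 IH) (Lpe (f31414 IH) (Lpr_cf (f231454 IH) (Lpe (f33021 IH) (Lpe (K0.f31709 IH) (Lpe (K11.f201636 IH) (Lpr_ct (K11.f201638 IH) (Lpn (LP (LK LD1_c2 LD2_c33 LD3_c22))))))))))))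
theorem f231463 : Led Lsl_df (LP (LK LD1_c4 LD2_c20 LD3_c60)) = (LP (LK LD1_c4 LD2_c25 LD3_c11)) :=
  Lgr Lrot162 (Lpe (K9.f28714 IH) (Lpe (f31414 IH) (Lpr_cf (f231454 IH) (Lpe (f33021 IH) (Lpr_dt (K11.f31741 IH) (Lpe (K11.f201636 IH) (Lpr_ct (K11.f201638 IH) (Lpe (f231461 IH) (Lpr_ct (f201437 IH) (Lpn (LP (LK LD1_c4 LD2_c25 LD3_c11))))))))))))
theorem f28983 : Led Lsl_et (LP (LK LD1_c0 LD2_c12 LD3_c23)) = (LP (LK LD1_c0 LD2_c5 LD3_c40)) :=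
  Lre_e IH (LK LD1_c0 LD2_c12 LD3_c23) (LK LD1_c0 LD2_c5 LD3_c40) Lrfl Lrfl
theorem f28841 : Led Lsl_gt (LP (LK LD1_c1 LD2_c58 LD3_c44)) = (LP (LK LD1_c0 LD2_c56 LD3_c12)) :=
  Lre_g IH (LK LD1_c1 LD2_c58 LD3_c44) (LK LD1_c0 LD2_c56 LD3_c12) Lrfl Lrfl
theorem f227219 : Led Lsl_et (LP (LK LD1_c1 LD2_c58 LD3_c53)) = (LP (LK LD1_c1 LD2_c58 LD3_c44)) :=
  Lgr Lrot121 (Lpr_dt (K12.f227192 IH) (Lpe (K12.f28839 IH) (Lpe (K1.f28838 IH) (Lpr_et (f28983 IH) (Lpe (K0.f16675 IH) (Lpe (K10.f28709 IH) (Lpr_dt (K11.f28706 IH) (Lpr_gf (K11.f28815 IH) (Lpe (K11.f28139 IH) (Lpe (f28841 IH) (Lpn (LP (LK LD1_c1 LD2_c58 LD3_c44)))))))))))))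
theorem f227225 : Led Lsl_ef (LP (LK LD1_c1 LD2_c58 LD3_c53)) = (LP (LK LD1_c1 LD2_c58 LD3_c44)) :=
  Lgr Lrot88 (Lpr_et (f227219 IH) (Lpn (LP (LK LD1_c1 LD2_c58 LD3_c44))))
theorem f180113 : Led Lsl_ef (LP (LK LD1_c1 LD2_c0 LD3_c32)) = (LP (LK LD1_c1 LD2_c0 LD3_c49)) :=
  Lgr Lrot28 (Lpr_ct (K12.f180100 IH) (Lpr_et (K10.f180110 IH) (Lpr_ct (K10.f32073 IH) (Lpn (LP (LK LD1_c1 LD2_c0 LD3_c49))))))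
theorem f31051 : Led Lsl_gt (LP (LK LD1_c0 LD2_c32 LD3_c1)) = (LP (LK LD1_c0 LD2_c14 LD3_c18)) :=
  Lre_g IH (LK LD1_c0 LD2_c32 LD3_c1) (LK LD1_c0 LD2_c14 LD3_c18) Lrfl Lrfl
theorem f31574 : Led Lsl_dt (LP (LK LD1_c1 LD2_c9 LD3_c31)) = (LP (LK LD1_c0 LD2_c32 LD3_c1)) :=
  Lre_d IH (LK LD1_c1 LD2_c9 LD3_c31) (LK LD1_c0 LD2_c32 LD3_c1) Lrfl Lrfl
theorem f225567 : Led Lsl_gf (LP (LK LD1_c1 LD2_c59 LD3_c16)) = (LP (LK LD1_c1 LD2_c9 LD3_c31)) :=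
  Lgr Lrot147 (Lpe (K12.f211516 IH) (Lpr_gt (K12.f225561 IH) (Lpr_ct (K11.f180145 IH) (Lpe (K11.f32070 IH) (Lpe (K10.f32093 IH) (Lpr_gf (K10.f187901 IH) (Lpe (K9.f31532 IH) (Lpe (f31051 IH) (Lpe (f31574 IH) (Lpn (LP (LK LD1_c1 LD2_c9 LD3_c31))))))))))))
theorem f28960 : Led Lsl_ct (LP (LK LD1_c0 LD2_c56 LD3_c25)) = (LP (LK LD1_c1 LD2_c58 LD3_c44)) :=
  Lgr Lrot8 (Lpr_gt (K12.f28785 IH) (Lpr_dt (K10.f28166 IH) (Lpe (K10.f28782 IH) (Lpr_dt (K8.f28611 IH) (Lpe (K0.f28579 IH) (Lpe (K0.f28618 IH) (Lpr_gf (K11.f28815 IH) (Lpe (K11.f28139 IH) (Lpe (f28841 IH) (Lpn (LP (LK LD1_c1 LD2_c58 LD3_c44))))))))))))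
theorem f31571 : Led Lsl_dt (LP (LK LD1_c0 LD2_c32 LD3_c1)) = (LP (LK LD1_c1 LD2_c9 LD3_c31)) :=
  Lre_d IH (LK LD1_c0 LD2_c32 LD3_c1) (LK LD1_c1 LD2_c9 LD3_c31) Lrfl Lrfl
theorem f31569 : Led Lsl_gf (LP (LK LD1_c0 LD2_c32 LD3_c1)) = (LP (LK LD1_c0 LD2_c55 LD3_c6)) :=
  Lgr Lrot47 (Lpr_gt (f31051 IH) (Lpr_af (K8.f31562 IH) (Lpe (K0.f28615 IH) (Lpn (LP (LK LD1_c0 LD2_c55 LD3_c6))))))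
theorem f171662 : Led Lsl_gt (LP (LK LD1_c1 LD2_c13 LD3_c33)) = (LP (LK LD1_c2 LD2_c33 LD3_c11)) :=
  Lre_g IH (LK LD1_c1 LD2_c13 LD3_c33) (LK LD1_c2 LD2_c33 LD3_c11) Lrfl Lrfl
theorem f225589 : Led Lsl_df (LP (LK LD1_c1 LD2_c58 LD3_c44)) = (LP (LK LD1_c2 LD2_c33 LD3_c11)) :=
  Lgr Lrot84 (Lpe (f28960 IH) (Lpe (K12.f28993 IH) (Lpr_gf (f225567 IH) (Lpe (f31571 IH) (Lpr_gf (f31569 IH) (Lpr_cf (K0.f28691 IH) (Lpr_gt (K10.f171655 IH) (Lpr_dt (K11.f171664 IH) (Lpr_gt (f171662 IH) (Lpn (LP (LK LD1_c2 LD2_c33 LD3_c11))))))))))))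
theorem f225592 : Led Lsl_dt (LP (LK LD1_c1 LD2_c58 LD3_c44)) = (LP (LK LD1_c2 LD2_c33 LD3_c11)) :=
  Lgr Lrot42 (Lpr_df (f225589 IH) (Lpn (LP (LK LD1_c2 LD2_c33 LD3_c11))))
theorem f227231 : Led Lsl_gf (LP (LK LD1_c2 LD2_c7 LD3_c30)) = (LP (LK LD1_c2 LD2_c33 LD3_c11)) :=
  Lgr Lrot145 (Lpe (K11.f180205 IH) (Lpe (f180113 IH) (Lpe (K12.f211441 IH) (Lpr_dt (K9.f28824 IH) (Lpe (K12.f226899 IH) (Lpe (K11.f28143 IH) (Lpr_et (K12.f201279 IH) (Lpr_gt (K12.f201237 IH) (Lpr_ef (f227225 IH) (Lpr_dt (f225592 IH) (Lpn (LP (LK LD1_c2 LD2_c33 LD3_c11)))))))))))))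
theorem f171663 : Led Lsl_ct (LP (LK LD1_c2 LD2_c33 LD3_c11)) = (LP (LK LD1_c5 LD2_c12 LD3_c39)) :=
  Lre_c IH (LK LD1_c2 LD2_c33 LD3_c11) (LK LD1_c5 LD2_c12 LD3_c39) Lrfl Lrfl
theorem f21303 : Led Lsl_ct (LP (LK LD1_c2 LD2_c29 LD3_c4)) = (LP (LK LD1_c5 LD2_c3 LD3_c3)) :=
  Lre_c IH (LK LD1_c2 LD2_c29 LD3_c4) (LK LD1_c5 LD2_c3 LD3_c3) Lrfl Lrfl
theorem f183900 : Led Lsl_dt (LP (LK LD1_c1 LD2_c13 LD3_c32)) = (LP (LK LD1_c2 LD2_c33 LD3_c9)) :=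
  Lre_d IH (LK LD1_c1 LD2_c13 LD3_c32) (LK LD1_c2 LD2_c33 LD3_c9) Lrfl Lrfl
theorem f183899 : Led Lsl_ct (LP (LK LD1_c5 LD2_c12 LD3_c36)) = (LP (LK LD1_c2 LD2_c33 LD3_c9)) :=
  Lre_c IH (LK LD1_c5 LD2_c12 LD3_c36) (LK LD1_c2 LD2_c33 LD3_c9) Lrfl Lrfl
theorem f192140 : Led Lsl_gf (LP (LK LD1_c5 LD2_c12 LD3_c36)) = (LP (LK LD1_c5 LD2_c3 LD3_c3)) :=
  Lgr Lrot104 (Lpr_ct (f183899 IH) (Lpe (f183900 IH) (Lpe (K9.f171667 IH) (Lpe (K9.f183889 IH) (Lpe (K1.f46203 IH) (Lpe (K10.f47205 IH) (Lpe (K10.f47970 IH) (Lpr_gt (K10.f192136 IH) (Lpr_ct (f21303 IH) (Lpn (LP (LK LD1_c5 LD2_c3 LD3_c3))))))))))))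
theorem f192144 : Led Lsl_ct (LP (LK LD1_c2 LD2_c33 LD3_c9)) = (LP (LK LD1_c5 LD2_c12 LD3_c36)) :=
  Lre_c IH (LK LD1_c2 LD2_c33 LD3_c9) (LK LD1_c5 LD2_c12 LD3_c36) Lrfl Lrfl
theorem f192145 : Led Lsl_bt (LP (LK LD1_c2 LD2_c33 LD3_c9)) = (LP (LK LD1_c1 LD2_c13 LD3_c33)) :=
  Lre_b IH (LK LD1_c2 LD2_c33 LD3_c9) (LK LD1_c1 LD2_c13 LD3_c33) Lrfl Lrfl
theorem f192159 : Led Lsl_bf (LP (LK LD1_c2 LD2_c33 LD3_c11)) = (LP (LK LD1_c2 LD2_c58 LD3_c61)) :=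
  Lgr Lrot34 (Lpe (f171662 IH) (Lpe (f192145 IH) (Lpr_ct (f192144 IH) (Lpr_gf (f192140 IH) (Lpe (f21303 IH) (Lpe (K10.f192136 IH) (Lpr_bf (K10.f192148 IH) (Lpr_ct (K10.f189725 IH) (Lpe (K10.f183687 IH) (Lpe (K10.f183684 IH) (Lpn (LP (LK LD1_c2 LD2_c58 LD3_c61)))))))))))))
theorem f192161 : Led Lsl_bt (LP (LK LD1_c2 LD2_c33 LD3_c11)) = (LP (LK LD1_c2 LD2_c58 LD3_c61)) :=
  Lgr Lrot127 (Lpr_bf (f192159 IH) (Lpn (LP (LK LD1_c2 LD2_c58 LD3_c61))))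
theorem f21297 : Led Lsl_bt (LP (LK LD1_c2 LD2_c0 LD3_c41)) = (LP (LK LD1_c0 LD2_c57 LD3_c19)) :=
  Lre_b IH (LK LD1_c2 LD2_c0 LD3_c41) (LK LD1_c0 LD2_c57 LD3_c19) Lrfl Lrfl
theorem f21300 : Led Lsl_ct (LP (LK LD1_c2 LD2_c0 LD3_c41)) = (LP (LK LD1_c4 LD2_c6 LD3_c44)) :=
  Lre_c IH (LK LD1_c2 LD2_c0 LD3_c41) (LK LD1_c4 LD2_c6 LD3_c44) Lrfl Lrfl
theorem f192185 : Led Lsl_gt (LP (LK LD1_c5 LD2_c12 LD3_c39)) = (LP (LK LD1_c4 LD2_c6 LD3_c44)) :=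
  Lgr Lrot65 (Lpe (f171663 IH) (Lpr_bt (f192161 IH) (Lpe (K10.f169561 IH) (Lpe (K10.f183466 IH) (Lpr_ct (K10.f177787 IH) (Lpr_gf (K10.f183885 IH) (Lpe (K10.f21296 IH) (Lpe (K8.f21286 IH) (Lpe (f21297 IH) (Lpr_ct (f21300 IH) (Lpn (LP (LK LD1_c4 LD2_c6 LD3_c44)))))))))))))
theorem f192187 : Led Lsl_dt (LP (LK LD1_c4 LD2_c6 LD3_c44)) = (LP (LK LD1_c8 LD2_c14 LD3_c7)) :=
  Lre_d IH (LK LD1_c4 LD2_c6 LD3_c44) (LK LD1_c8 LD2_c14 LD3_c7) Lrfl Lrfl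
theorem f231475 : Led Lsl_gt (LP (LK LD1_c8 LD2_c14 LD3_c7)) = (LP (LK LD1_c4 LD2_c25 LD3_c11)) :=
  Lgr Lrot49 (Lpe (f192187 IH) (Lpe (f192185 IH) (Lpe (f171663 IH) (Lpe (f227231 IH) (Lpr_dt (K11.f180219 IH) (Lpr_gt (K10.f187897 IH) (Lpr_dt (K0.f28713 IH) (Lpe (K9.f28700 IH) (Lpr_df (f231463 IH) (Lpn (LP (LK LD1_c4 LD2_c25 LD3_c11))))))))))))
theorem f36958 : Led Lsl_ct (LP (LK LD1_c3 LD2_c57 LD3_c50)) = (LP (LK LD1_c7 LD2_c57 LD3_c4)) :=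
  Lre_c IH (LK LD1_c3 LD2_c57 LD3_c50) (LK LD1_c7 LD2_c57 LD3_c4) Lrfl Lrfl
theorem f201409 : Led Lsl_af (LP (LK LD1_c4 LD2_c25 LD3_c11)) = (LP (LK LD1_c7 LD2_c57 LD3_c4)) :=
  Lgr Lrot68 (Lpr_ct (f201408 IH) (Lpr_at (K11.f201404 IH) (Lpr_ct (f36958 IH) (Lpn (LP (LK LD1_c7 LD2_c57 LD3_c4))))))
theorem f231480 : Led Lsl_gf (LP (LK LD1_c8 LD2_c14 LD3_c7)) = (LP (LK LD1_c4 LD2_c20 LD3_c50)) :=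
  Lgr Lrot47 (Lpr_gt (f231475 IH) (Lpr_af (f201409 IH) (Lpe (K11.f36967 IH) (Lpn (LP (LK LD1_c4 LD2_c20 LD3_c50))))))
theorem f21299 : Led Lsl_dt (LP (LK LD1_c8 LD2_c14 LD3_c7)) = (LP (LK LD1_c4 LD2_c6 LD3_c44)) :=
  Lre_d IH (LK LD1_c8 LD2_c14 LD3_c7) (LK LD1_c4 LD2_c6 LD3_c44) Lrfl Lrfl
theorem f21298 : Led Lsl_ct (LP (LK LD1_c4 LD2_c6 LD3_c44)) = (LP (LK LD1_c2 LD2_c0 LD3_c41)) :=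
  Lre_c IH (LK LD1_c4 LD2_c6 LD3_c44) (LK LD1_c2 LD2_c0 LD3_c41) Lrfl Lrfl
theorem f27885 : Led Lsl_dt (LP (LK LD1_c1 LD2_c0 LD3_c56)) = (LP (LK LD1_c0 LD2_c27 LD3_c47)) :=
  Lre_d IH (LK LD1_c1 LD2_c0 LD3_c56) (LK LD1_c0 LD2_c27 LD3_c47) Lrfl Lrfl
theorem f27890 : Led Lsl_ct (LP (LK LD1_c2 LD2_c4 LD3_c38)) = (LP (LK LD1_c4 LD2_c14 LD3_c33)) :=
  Lre_c IH (LK LD1_c2 LD2_c4 LD3_c38) (LK LD1_c4 LD2_c14 LD3_c33) Lrfl Lrfl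
theorem f231512 : Led Lsl_gt (LP (LK LD1_c4 LD2_c14 LD3_c33)) = (LP (LK LD1_c2 LD2_c7 LD3_c54)) :=
  Lgr Lrot94 (Lpe (f27890 IH) (Lpe (K12.f27883 IH) (Lpr_dt (f27885 IH) (Lpe (K10.f190222 IH) (Lpr_dt (K12.f190228 IH) (Lpe (f21298 IH) (Lpe (f21299 IH) (Lpr_gf (f231480 IH) (Lpe (K11.f31355 IH) (Lpn (LP (LK LD1_c2 LD2_c7 LD3_c54))))))))))))
theorem f31181 : Led Lsl_af (LP (LK LD1_c2 LD2_c7 LD3_c54)) = (LP (LK LD1_c2 LD2_c7 LD3_c60)) :=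
  Lgr Lrot68 (Lpr_ct (K11.f31180 IH) (Lpr_at (K0.f31174 IH) (Lpr_ct (K10.f28707 IH) (Lpn (LP (LK LD1_c2 LD2_c7 LD3_c60))))))
theorem f31410 : Led Lsl_ft (LP (LK LD1_c4 LD2_c20 LD3_c60)) = (LP (LK LD1_c2 LD2_c7 LD3_c60)) :=
  Lre_f IH (LK LD1_c4 LD2_c20 LD3_c60) (LK LD1_c2 LD2_c7 LD3_c60) Lrfl Lrfl
theorem f231541 : Led Lsl_gf (LP (LK LD1_c4 LD2_c14 LD3_c33)) = (LP (LK LD1_c4 LD2_c20 LD3_c60)) :=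
  Lgr Lrot47 (Lpr_gt (f231512 IH) (Lpr_af (f31181 IH) (Lpe (f31410 IH) (Lpn (LP (LK LD1_c4 LD2_c20 LD3_c60))))))
theorem f54288 : Led Lsl_gt (LP (LK LD1_c2 LD2_c4 LD3_c56)) = (LP (LK LD1_c4 LD2_c15 LD3_c4)) :=
  Lre_g IH (LK LD1_c2 LD2_c4 LD3_c56) (LK LD1_c4 LD2_c15 LD3_c4) Lrfl Lrfl
theorem f54289 : Led Lsl_gf (LP (LK LD1_c4 LD2_c20 LD3_c54)) = (LP (LK LD1_c4 LD2_c15 LD3_c4)) :=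
  Lgr Lrot76 (Lpr_af (K10.f54279 IH) (Lpe (K10.f54287 IH) (Lpr_gt (f54288 IH) (Lpn (LP (LK LD1_c4 LD2_c15 LD3_c4))))))
theorem f47418 : Led Lsl_gt (LP (LK LD1_c1 LD2_c59 LD3_c52)) = (LP (LK LD1_c0 LD2_c56 LD3_c50)) :=
  Lre_g IH (LK LD1_c1 LD2_c59 LD3_c52) (LK LD1_c0 LD2_c56 LD3_c50) Lrfl Lrfl
theorem f47421 : Led Lsl_bt (LP (LK LD1_c4 LD2_c5 LD3_c20)) = (LP (LK LD1_c1 LD2_c59 LD3_c52)) :=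
  Lre_b IH (LK LD1_c4 LD2_c5 LD3_c20) (LK LD1_c1 LD2_c59 LD3_c52) Lrfl Lrfl
theorem f54309 : Led Lsl_ct (LP (LK LD1_c8 LD2_c39 LD3_c22)) = (LP (LK LD1_c8 LD2_c29 LD3_c0)) :=
  Lgr Lrot59 (Lpr_cf (K11.f54304 IH) (Lpn (LP (LK LD1_c8 LD2_c29 LD3_c0))))
theorem f31194 : Led Lsl_bt (LP (LK LD1_c4 LD2_c20 LD3_c51)) = (LP (LK LD1_c8 LD2_c39 LD3_c22)) :=
  Lre_b IH (LK LD1_c4 LD2_c20 LD3_c51) (LK LD1_c8 LD2_c39 LD3_c22) Lrfl Lrfl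
theorem f45275 : Led Lsl_bt (LP (LK LD1_c8 LD2_c29 LD3_c0)) = (LP (LK LD1_c4 LD2_c15 LD3_c1)) :=
  Lre_b IH (LK LD1_c8 LD2_c29 LD3_c0) (LK LD1_c4 LD2_c15 LD3_c1) Lrfl Lrfl
theorem f54503 : Led Lsl_bf (LP (LK LD1_c2 LD2_c7 LD3_c55)) = (LP (LK LD1_c2 LD2_c4 LD3_c54)) :=
  Lgr Lrot90 (Lpr_ct (K9.f31191 IH) (Lpr_bt (f31194 IH) (Lpr_ct (f54309 IH) (Lpr_bt (f45275 IH) (Lpr_ct (K1.f45179 IH) (Lpn (LP (LK LD1_c2 LD2_c4 LD3_c54))))))))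
theorem f45257 : Led Lsl_gt (LP (LK LD1_c4 LD2_c15 LD3_c14)) = (LP (LK LD1_c2 LD2_c4 LD3_c61)) :=
  Lre_g IH (LK LD1_c4 LD2_c15 LD3_c14) (LK LD1_c2 LD2_c4 LD3_c61) Lrfl Lrfl
theorem f45271 : Led Lsl_gt (LP (LK LD1_c4 LD2_c15 LD3_c1)) = (LP (LK LD1_c4 LD2_c15 LD3_c14)) :=
  Lgr Lrot5 (Lpr_ft (K1.f45253 IH) (Lpr_at (K1.f45254 IH) (Lpe (f45257 IH) (Lpn (LP (LK LD1_c4 LD2_c15 LD3_c14))))))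
theorem f194224 : Led Lsl_ct (LP (LK LD1_c4 LD2_c5 LD3_c20)) = (LP (LK LD1_c4 LD2_c15 LD3_c14)) :=
  Lgr Lrot10 (Lpr_bt (f47421 IH) (Lpr_gt (f47418 IH) (Lpr_ct (K1.f46177 IH) (Lpr_gt (K10.f188073 IH) (Lpe (K10.f188062 IH) (Lpr_bt (K10.f194215 IH) (Lpe (K10.f31212 IH) (Lpr_bf (f54503 IH) (Lpr_ct (K1.f45140 IH) (Lpr_gt (f45271 IH) (Lpn (LP (LK LD1_c4 LD2_c15 LD3_c14)))))))))))))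
theorem f55046 : Led Lsl_gt (LP (LK LD1_c4 LD2_c5 LD3_c6)) = (LP (LK LD1_c1 LD2_c59 LD3_c52)) :=
  Lre_g IH (LK LD1_c4 LD2_c5 LD3_c6) (LK LD1_c1 LD2_c59 LD3_c52) Lrfl Lrfl
theorem f54982 : Led Lsl_gt (LP (LK LD1_c4 LD2_c6 LD3_c38)) = (LP (LK LD1_c8 LD2_c13 LD3_c8)) :=
  Lre_g IH (LK LD1_c4 LD2_c6 LD3_c38) (LK LD1_c8 LD2_c13 LD3_c8) Lrfl Lrfl
theorem f45367 : Led Lsl_bt (LP (LK LD1_c0 LD2_c59 LD3_c34)) = (LP (LK LD1_c2 LD2_c4 LD3_c56)) :=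
  Lre_b IH (LK LD1_c0 LD2_c59 LD3_c34) (LK LD1_c2 LD2_c4 LD3_c56) Lrfl Lrfl
theorem f194240 : Led Lsl_cf (LP (LK LD1_c4 LD2_c6 LD3_c38)) = (LP (LK LD1_c4 LD2_c15 LD3_c4)) :=
  Lgr Lrot125 (Lpr_gt (f54982 IH) (Lpe (K9.f55048 IH) (Lpe (K1.f55025 IH) (Lpr_gt (f55046 IH) (Lpe (f47421 IH) (Lpr_ct (f194224 IH) (Lpr_gt (f45257 IH) (Lpe (K1.f45159 IH) (Lpr_bt (f45367 IH) (Lpr_gt (f54288 IH) (Lpn (LP (LK LD1_c4 LD2_c15 LD3_c4)))))))))))))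
theorem f55047 : Led Lsl_ct (LP (LK LD1_c1 LD2_c59 LD3_c52)) = (LP (LK LD1_c4 LD2_c5 LD3_c21)) :=
  Lre_c IH (LK LD1_c1 LD2_c59 LD3_c52) (LK LD1_c4 LD2_c5 LD3_c21) Lrfl Lrfl
theorem f192486 : Led Lsl_gf (LP (LK LD1_c4 LD2_c21 LD3_c0)) = (LP (LK LD1_c4 LD2_c5 LD3_c21)) :=
  Lgr Lrot104 (Lpr_ct (K11.f30867 IH) (Lpe (K9.f30859 IH) (Lpr_cf (K10.f51051 IH) (Lpr_gf (K10.f192477 IH) (Lpe (K10.f192460 IH) (Lpe (K10.f46214 IH) (Lpe (K1.f46216 IH) (Lpr_gt (f55046 IH) (Lpr_ct (f55047 IH) (Lpn (LP (LK LD1_c4 LD2_c5 LD3_c21))))))))))))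
theorem f28797 : Led Lsl_gt (LP (LK LD1_c1 LD2_c57 LD3_c19)) = (LP (LK LD1_c4 LD2_c1 LD3_c1)) :=
  Lre_g IH (LK LD1_c1 LD2_c57 LD3_c19) (LK LD1_c4 LD2_c1 LD3_c1) Lrfl Lrfl
theorem f194250 : Led Lsl_bf (LP (LK LD1_c4 LD2_c1 LD3_c1)) = (LP (LK LD1_c4 LD2_c15 LD3_c4)) :=
  Lgr Lrot34 (Lpe (f28797 IH) (Lpr_bf (K10.f30878 IH) (Lpr_ct (K9.f30881 IH) (Lpr_gf (f192486 IH) (Lpe (f55047 IH) (Lpe (f55046 IH) (Lpr_bf (K1.f55025 IH) (Lpr_ct (K9.f55048 IH) (Lpe (f54982 IH) (Lpr_cf (f194240 IH) (Lpn (LP (LK LD1_c4 LD2_c15 LD3_c4)))))))))))))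
theorem f194252 : Led Lsl_bt (LP (LK LD1_c4 LD2_c1 LD3_c1)) = (LP (LK LD1_c4 LD2_c15 LD3_c4)) :=
  Lgr Lrot127 (Lpr_bf (f194250 IH) (Lpn (LP (LK LD1_c4 LD2_c15 LD3_c4))))
theorem f190993 : Led Lsl_bf (LP (LK LD1_c1 LD2_c0 LD3_c49)) = (LP (LK LD1_c1 LD2_c12 LD3_c60)) :=
  Lgr Lrot34 (Lpr_gf (K10.f187901 IH) (Lpr_bf (K1.f45387 IH) (Lpr_ct (K1.f44536 IH) (Lpe (K10.f45402 IH) (Lpe (K10.f45238 IH) (Lpr_gf (K10.f189605 IH) (Lpr_bf (K10.f190977 IH) (Lpr_ct (K10.f190976 IH) (Lpe (K10.f171520 IH) (Lpe (K10.f165486 IH) (Lpn (LP (LK LD1_c1 LD2_c12 LD3_c60)))))))))))))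
theorem f192570 : Led Lsl_bf (LP (LK LD1_c2 LD2_c23 LD3_c3)) = (LP (LK LD1_c2 LD2_c0 LD3_c26)) :=
  Lgr Lrot165 (Lpr_gt (K10.f27714 IH) (Lpr_ct (K9.f43900 IH) (Lpr_gt (K10.f192566 IH) (Lpe (K10.f165486 IH) (Lpe (f190993 IH) (Lpr_gt (K10.f187897 IH) (Lpe (K0.f28690 IH) (Lpe (K0.f28670 IH) (Lpr_gt (K12.f187908 IH) (Lpr_cf (K10.f190970 IH) (Lpn (LP (LK LD1_c2 LD2_c0 LD3_c26)))))))))))))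
theorem f196387 : Led Lsl_gf (LP (LK LD1_c2 LD2_c4 LD3_c55)) = (LP (LK LD1_c2 LD2_c34 LD3_c37)) :=
  Lgr Lrot126 (Lpe (K10.f45242 IH) (Lpr_bt (K10.f45689 IH) (Lpr_gt (K10.f196357 IH) (Lpe (K10.f190950 IH) (Lpr_gt (K10.f190897 IH) (Lpr_cf (K10.f189592 IH) (Lpr_bt (K10.f190981 IH) (Lpe (K10.f191018 IH) (Lpr_bf (f192570 IH) (Lpe (K10.f190970 IH) (Lpn (LP (LK LD1_c2 LD2_c34 LD3_c37)))))))))))))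
theorem f213978 : Led Lsl_ct (LP (LK LD1_c2 LD2_c25 LD3_c23)) = (LP (LK LD1_c4 LD2_c55 LD3_c2)) :=
  Lre_c IH (LK LD1_c2 LD2_c25 LD3_c23) (LK LD1_c4 LD2_c55 LD3_c2) Lrfl Lrfl
theorem f214077 : Led Lsl_gf (LP (LK LD1_c4 LD2_c15 LD3_c5)) = (LP (LK LD1_c4 LD2_c55 LD3_c2)) :=
  Lgr Lrot104 (Lpr_ct (K10.f54077 IH) (Lpe (K9.f45740 IH) (Lpe (K9.f54068 IH) (Lpr_gf (f196387 IH) (Lpr_cf (K10.f190970 IH) (Lpe (K10.f47935 IH) (Lpe (K10.f47884 IH) (Lpr_gt (K12.f214072 IH) (Lpr_ct (f213978 IH) (Lpn (LP (LK LD1_c4 LD2_c55 LD3_c2))))))))))))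
theorem f48148 : Led Lsl_ft (LP (LK LD1_c8 LD2_c39 LD3_c28)) = (LP (LK LD1_c4 LD2_c20 LD3_c53)) :=
  Lre_f IH (LK LD1_c8 LD2_c39 LD3_c28) (LK LD1_c4 LD2_c20 LD3_c53) Lrfl Lrfl
theorem f216109 : Led Lsl_gt (LP (LK LD1_c8 LD2_c39 LD3_c28)) = (LP (LK LD1_c4 LD2_c55 LD3_c2)) :=
  Lgr Lrot5 (Lpr_ft (f48148 IH) (Lpr_at (K12.f54406 IH) (Lpr_gf (f214077 IH) (Lpn (LP (LK LD1_c4 LD2_c55 LD3_c2))))))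
theorem f213920 : Led Lsl_et (LP (LK LD1_c4 LD2_c50 LD3_c35)) = (LP (LK LD1_c9 LD2_c33 LD3_c19)) :=
  Lre_e IH (LK LD1_c4 LD2_c50 LD3_c35) (LK LD1_c9 LD2_c33 LD3_c19) Lrfl Lrfl
theorem f213908 : Led Lsl_dt (LP (LK LD1_c2 LD2_c25 LD3_c15)) = (LP (LK LD1_c1 LD2_c9 LD3_c53)) :=
  Lre_d IH (LK LD1_c2 LD2_c25 LD3_c15) (LK LD1_c1 LD2_c9 LD3_c53) Lrfl Lrfl
theorem f213922 : Led Lsl_et (LP (LK LD1_c4 LD2_c54 LD3_c45)) = (LP (LK LD1_c2 LD2_c25 LD3_c15)) :=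
  Lre_e IH (LK LD1_c4 LD2_c54 LD3_c45) (LK LD1_c2 LD2_c25 LD3_c15) Lrfl Lrfl
theorem f213923 : Led Lsl_dt (LP (LK LD1_c9 LD2_c33 LD3_c19)) = (LP (LK LD1_c4 LD2_c54 LD3_c45)) :=
  Lgr Lrot77 (Lpe (f213920 IH) (Lpr_df (K12.f213912 IH) (Lpe (K12.f213921 IH) (Lpe (f213908 IH) (Lpe (f213922 IH) (Lpn (LP (LK LD1_c4 LD2_c54 LD3_c45))))))))
theorem f213937 : Led Lsl_ft (LP (LK LD1_c17 LD2_c35 LD3_c46)) = (LP (LK LD1_c9 LD2_c33 LD3_c19)) :=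
  Lre_f IH (LK LD1_c17 LD2_c35 LD3_c46) (LK LD1_c9 LD2_c33 LD3_c19) Lrfl Lrfl
theorem f213938 : Led Lsl_ft (LP (LK LD1_c4 LD2_c54 LD3_c45)) = (LP (LK LD1_c9 LD2_c41 LD3_c5)) :=
  Lre_f IH (LK LD1_c4 LD2_c54 LD3_c45) (LK LD1_c9 LD2_c41 LD3_c5) Lrfl Lrfl
theorem f213939 : Led Lsl_df (LP (LK LD1_c17 LD2_c35 LD3_c46)) = (LP (LK LD1_c9 LD2_c41 LD3_c5)) :=
  Lgr Lrot78 (Lpr_ft (f213937 IH) (Lpr_dt (f213923 IH) (Lpr_ft (f213938 IH) (Lpn (LP (LK LD1_c9 LD2_c41 LD3_c5))))))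
theorem f213951 : Led Lsl_dt (LP (LK LD1_c17 LD2_c35 LD3_c46)) = (LP (LK LD1_c9 LD2_c41 LD3_c5)) :=
  Lgr Lrot42 (Lpr_df (f213939 IH) (Lpn (LP (LK LD1_c9 LD2_c41 LD3_c5))))
theorem f213954 : Led Lsl_bt (LP (LK LD1_c9 LD2_c41 LD3_c5)) = (LP (LK LD1_c4 LD2_c55 LD3_c1)) :=
  Lre_b IH (LK LD1_c9 LD2_c41 LD3_c5) (LK LD1_c4 LD2_c55 LD3_c1) Lrfl Lrfl
theorem f213955 : Led Lsl_dt (LP (LK LD1_c4 LD2_c55 LD3_c1)) = (LP (LK LD1_c9 LD2_c41 LD3_c39)) :=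
  Lre_d IH (LK LD1_c4 LD2_c55 LD3_c1) (LK LD1_c9 LD2_c41 LD3_c39) Lrfl Lrfl
theorem f213956 : Led Lsl_bf (LP (LK LD1_c17 LD2_c35 LD3_c46)) = (LP (LK LD1_c9 LD2_c41 LD3_c39)) :=
  Lgr Lrot93 (Lpr_dt (f213951 IH) (Lpr_bt (f213954 IH) (Lpr_dt (f213955 IH) (Lpn (LP (LK LD1_c9 LD2_c41 LD3_c39))))))
theorem f213960 : Led Lsl_ft (LP (LK LD1_c4 LD2_c55 LD3_c0)) = (LP (LK LD1_c9 LD2_c41 LD3_c39)) :=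
  Lre_f IH (LK LD1_c4 LD2_c55 LD3_c0) (LK LD1_c9 LD2_c41 LD3_c39) Lrfl Lrfl
theorem f213961 : Led Lsl_bt (LP (LK LD1_c9 LD2_c33 LD3_c19)) = (LP (LK LD1_c4 LD2_c55 LD3_c0)) :=
  Lgr Lrot35 (Lpe (f213937 IH) (Lpr_bf (f213956 IH) (Lpe (f213960 IH) (Lpn (LP (LK LD1_c4 LD2_c55 LD3_c0))))))
theorem f213969 : Led Lsl_et (LP (LK LD1_c4 LD2_c55 LD3_c0)) = (LP (LK LD1_c2 LD2_c25 LD3_c23)) :=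
  Lre_e IH (LK LD1_c4 LD2_c55 LD3_c0) (LK LD1_c2 LD2_c25 LD3_c23) Lrfl Lrfl
theorem f213970 : Led Lsl_bf (LP (LK LD1_c4 LD2_c50 LD3_c35)) = (LP (LK LD1_c2 LD2_c25 LD3_c23)) :=
  Lgr Lrot96 (Lpr_et (f213920 IH) (Lpr_bt (f213961 IH) (Lpr_et (f213969 IH) (Lpn (LP (LK LD1_c2 LD2_c25 LD3_c23))))))
theorem f27667 : Led Lsl_gt (LP (LK LD1_c2 LD2_c23 LD3_c9)) = (LP (LK LD1_c4 LD2_c50 LD3_c41)) :=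
  Lre_g IH (LK LD1_c2 LD2_c23 LD3_c9) (LK LD1_c4 LD2_c50 LD3_c41) Lrfl Lrfl
theorem f216120 : Led Lsl_ct (LP (LK LD1_c4 LD2_c1 LD3_c1)) = (LP (LK LD1_c4 LD2_c50 LD3_c41)) :=
  Lgr Lrot10 (Lpr_bt (f194252 IH) (Lpe (f54289 IH) (Lpr_ct (K10.f28694 IH) (Lpr_gt (f216109 IH) (Lpe (f213978 IH) (Lpe (f213970 IH) (Lpr_gt (K12.f27731 IH) (Lpe (K0.f27688 IH) (Lpr_ct (K0.f27646 IH) (Lpr_gt (f27667 IH) (Lpn (LP (LK LD1_c4 LD2_c50 LD3_c41)))))))))))))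
theorem f3795 : Led Lsl_gt (LP (LK LD1_c2 LD2_c23 LD3_c8)) = (LP (LK LD1_c1 LD2_c8 LD3_c41)) :=
  Lre_g IH (LK LD1_c2 LD2_c23 LD3_c8) (LK LD1_c1 LD2_c8 LD3_c41) Lrfl Lrfl
theorem f231548 : Led Lsl_bt (LP (LK LD1_c2 LD2_c4 LD3_c38)) = (LP (LK LD1_c2 LD2_c23 LD3_c8)) :=
  Lgr Lrot130 (Lpr_ct (f27890 IH) (Lpr_gf (f231541 IH) (Lpe (K9.f28714 IH) (Lpr_bt (K9.f31411 IH) (Lpr_gf (f54289 IH) (Lpe (f194252 IH) (Lpr_ct (f216120 IH) (Lpe (f27667 IH) (Lpe (K0.f27646 IH) (Lpe (f3795 IH) (Lpn (LP (LK LD1_c2 LD2_c23 LD3_c8)))))))))))))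
theorem f231550 : Led Lsl_bf (LP (LK LD1_c2 LD2_c4 LD3_c38)) = (LP (LK LD1_c2 LD2_c23 LD3_c8)) :=
  Lgr Lrot24 (Lpr_bt (f231548 IH) (Lpn (LP (LK LD1_c2 LD2_c23 LD3_c8))))
theorem f30967 : Led Lsl_gt (LP (LK LD1_c8 LD2_c2 LD3_c51)) = (LP (LK LD1_c4 LD2_c3 LD3_c14)) :=
  Lre_g IH (LK LD1_c8 LD2_c2 LD3_c51) (LK LD1_c4 LD2_c3 LD3_c14) Lrfl Lrfl
theorem f231574 : Led Lsl_cf (LP (LK LD1_c4 LD2_c3 LD3_c14)) = (LP (LK LD1_c2 LD2_c23 LD3_c8)) :=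
  Lgr Lrot58 (Lpe (f30967 IH) (Lpe (K9.f30971 IH) (Lpr_bt (K11.f30960 IH) (Lpr_gf (K10.f50618 IH) (Lpr_bf (K10.f194217 IH) (Lpe (K10.f194334 IH) (Lpe (K10.f27892 IH) (Lpe (K0.f27891 IH) (Lpr_gf (K12.f27883 IH) (Lpr_bf (f231550 IH) (Lpn (LP (LK LD1_c2 LD2_c23 LD3_c8)))))))))))))
theorem f50332 : Led Lsl_gt (LP (LK LD1_c4 LD2_c3 LD3_c14)) = (LP (LK LD1_c1 LD2_c58 LD3_c36)) :=
  Lre_g IH (LK LD1_c4 LD2_c3 LD3_c14) (LK LD1_c1 LD2_c58 LD3_c36) Lrfl Lrfl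
theorem f49630 : Led Lsl_gt (LP (LK LD1_c0 LD2_c57 LD3_c40)) = (LP (LK LD1_c2 LD2_c1 LD3_c12)) :=
  Lre_g IH (LK LD1_c0 LD2_c57 LD3_c40) (LK LD1_c2 LD2_c1 LD3_c12) Lrfl Lrfl
theorem f50391 : Led Lsl_ct (LP (LK LD1_c2 LD2_c1 LD3_c12)) = (LP (LK LD1_c4 LD2_c7 LD3_c39)) :=
  Lre_c IH (LK LD1_c2 LD2_c1 LD3_c12) (LK LD1_c4 LD2_c7 LD3_c39) Lrfl Lrfl
theorem f231576 : Led Lsl_gf (LP (LK LD1_c5 LD2_c17 LD3_c27)) = (LP (LK LD1_c4 LD2_c7 LD3_c39)) :=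
  Lgr Lrot129 (Lpe (K10.f32963 IH) (Lpr_bt (K10.f32961 IH) (Lpe (K12.f32045 IH) (Lpr_bf (f231550 IH) (Lpe (f231574 IH) (Lpr_gt (f50332 IH) (Lpe (K10.f50299 IH) (Lpr_bt (K9.f50379 IH) (Lpr_gt (f49630 IH) (Lpr_ct (f50391 IH) (Lpn (LP (LK LD1_c4 LD2_c7 LD3_c39)))))))))))))
theorem f45188 : Led Lsl_gt (LP (LK LD1_c0 LD2_c59 LD3_c29)) = (LP (LK LD1_c2 LD2_c4 LD3_c52)) :=
  Lre_g IH (LK LD1_c0 LD2_c59 LD3_c29) (LK LD1_c2 LD2_c4 LD3_c52) Lrfl Lrfl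
theorem f231584 : Led Lsl_bf (LP (LK LD1_c2 LD2_c4 LD3_c52)) = (LP (LK LD1_c2 LD2_c1 LD3_c12)) :=
  Lgr Lrot34 (Lpe (f45188 IH) (Lpe (K9.f45694 IH) (Lpr_ct (K9.f31282 IH) (Lpe (f231512 IH) (Lpe (f27890 IH) (Lpr_gf (K12.f32045 IH) (Lpe (K10.f32961 IH) (Lpr_ct (K10.f32963 IH) (Lpr_gf (f231576 IH) (Lpe (f50391 IH) (Lpn (LP (LK LD1_c2 LD2_c1 LD3_c12)))))))))))))
theorem f231592 : Led Lsl_bt (LP (LK LD1_c2 LD2_c4 LD3_c52)) = (LP (LK LD1_c2 LD2_c1 LD3_c12)) :=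
  Lgr Lrot127 (Lpr_bf (f231584 IH) (Lpn (LP (LK LD1_c2 LD2_c1 LD3_c12))))
theorem f183672 : Led Lsl_ct (LP (LK LD1_c2 LD2_c4 LD3_c52)) = (LP (LK LD1_c4 LD2_c14 LD3_c57)) :=
  Lre_c IH (LK LD1_c2 LD2_c4 LD3_c52) (LK LD1_c4 LD2_c14 LD3_c57) Lrfl Lrfl
theorem f49631 : Led Lsl_gt (LP (LK LD1_c2 LD2_c1 LD3_c12)) = (LP (LK LD1_c2 LD2_c1 LD3_c25)) :=
  Lgr Lrot46 (Lpe (f49630 IH) (Lpr_ft (K9.f49629 IH) (Lpr_at (K9.f49616 IH) (Lpn (LP (LK LD1_c2 LD2_c1 LD3_c25))))))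
theorem f194226 : Led Lsl_bt (LP (LK LD1_c1 LD2_c59 LD3_c52)) = (LP (LK LD1_c4 LD2_c5 LD3_c20)) :=
  Lre_b IH (LK LD1_c1 LD2_c59 LD3_c52) (LK LD1_c4 LD2_c5 LD3_c20) Lrfl Lrfl
theorem f194407 : Led Lsl_ct (LP (LK LD1_c1 LD2_c57 LD3_c18)) = (LP (LK LD1_c0 LD2_c56 LD3_c6)) :=
  Lgr Lrot59 (Lpr_cf (K10.f194390 IH) (Lpn (LP (LK LD1_c0 LD2_c56 LD3_c6))))
theorem f27526 : Led Lsl_dt (LP (LK LD1_c0 LD2_c59 LD3_c18)) = (LP (LK LD1_c2 LD2_c4 LD3_c35)) :=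
  Lre_d IH (LK LD1_c0 LD2_c59 LD3_c18) (LK LD1_c2 LD2_c4 LD3_c35) Lrfl Lrfl
theorem f216131 : Led Lsl_gf (LP (LK LD1_c4 LD2_c14 LD3_c25)) = (LP (LK LD1_c4 LD2_c50 LD3_c41)) :=
  Lgr Lrot104 (Lpr_ct (K10.f27620 IH) (Lpe (f27526 IH) (Lpr_cf (K9.f50910 IH) (Lpe (K10.f28070 IH) (Lpe (f194407 IH) (Lpe (K10.f28174 IH) (Lpe (K10.f30998 IH) (Lpr_gt (f28797 IH) (Lpr_ct (f216120 IH) (Lpn (LP (LK LD1_c4 LD2_c50 LD3_c41))))))))))))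
theorem f216134 : Led Lsl_gf (LP (LK LD1_c4 LD2_c5 LD3_c20)) = (LP (LK LD1_c4 LD2_c13 LD3_c57)) :=
  Lgr Lrot124 (Lpe (f194226 IH) (Lpr_ct (f55047 IH) (Lpe (f192486 IH) (Lpe (K9.f30881 IH) (Lpe (K10.f30878 IH) (Lpr_gt (f28797 IH) (Lpr_ct (f216120 IH) (Lpe (f216131 IH) (Lpe (K0.f27613 IH) (Lpr_bt (K11.f27612 IH) (Lpn (LP (LK LD1_c4 LD2_c13 LD3_c57)))))))))))))
theorem f50880 : Led Lsl_ft (LP (LK LD1_c4 LD2_c13 LD3_c57)) = (LP (LK LD1_c2 LD2_c4 LD3_c19)) :=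
  Lre_f IH (LK LD1_c4 LD2_c13 LD3_c57) (LK LD1_c2 LD2_c4 LD3_c19) Lrfl Lrfl
theorem f216136 : Led Lsl_gt (LP (LK LD1_c4 LD2_c5 LD3_c20)) = (LP (LK LD1_c4 LD2_c13 LD3_c36)) :=
  Lgr Lrot46 (Lpr_gf (f216134 IH) (Lpr_ft (f50880 IH) (Lpr_at (K11.f50869 IH) (Lpn (LP (LK LD1_c4 LD2_c13 LD3_c36))))))
theorem f216151 : Led Lsl_gf (LP (LK LD1_c4 LD2_c5 LD3_c21)) = (LP (LK LD1_c8 LD2_c11 LD3_c25)) :=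
  Lgr Lrot129 (Lpe (f55047 IH) (Lpr_bt (f194226 IH) (Lpr_gt (f216136 IH) (Lpe (K11.f50862 IH) (Lpr_ct (K11.f194381 IH) (Lpr_gt (K11.f191211 IH) (Lpe (K10.f187527 IH) (Lpr_bt (K10.f188031 IH) (Lpe (K11.f188025 IH) (Lpe (K11.f191190 IH) (Lpn (LP (LK LD1_c8 LD2_c11 LD3_c25)))))))))))))
theorem f231682 : Led Lsl_gf (LP (LK LD1_c4 LD2_c14 LD3_c57)) = (LP (LK LD1_c6 LD2_c6 LD3_c16)) :=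
  Lgr Lrot129 (Lpe (f183672 IH) (Lpr_bt (f231592 IH) (Lpr_gt (f49631 IH) (Lpe (K11.f50371 IH) (Lpe (K11.f191190 IH) (Lpe (f216151 IH) (Lpe (f55047 IH) (Lpr_bt (f194226 IH) (Lpr_gt (f216136 IH) (Lpe (K11.f183719 IH) (Lpn (LP (LK LD1_c6 LD2_c6 LD3_c16)))))))))))))
theorem f195828 : Led Lsl_ff (LP (LK LD1_c5 LD2_c26 LD3_c23)) = (LP (LK LD1_c6 LD2_c6 LD3_c16)) :=
  Lgr Lrot3 (Lpr_ft (K11.f195820 IH) (Lpn (LP (LK LD1_c6 LD2_c6 LD3_c16))))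
theorem f195811 : Led Lsl_at (LP (LK LD1_c5 LD2_c26 LD3_c23)) = (LP (LK LD1_c6 LD2_c6 LD3_c17)) :=
  Lgr Lrot100 (Lpr_af (K11.f195798 IH) (Lpn (LP (LK LD1_c6 LD2_c6 LD3_c17))))
theorem f231684 : Led Lsl_gt (LP (LK LD1_c4 LD2_c14 LD3_c57)) = (LP (LK LD1_c6 LD2_c6 LD3_c17)) :=
  Lgr Lrot46 (Lpr_gf (f231682 IH) (Lpe (f195828 IH) (Lpr_at (f195811 IH) (Lpn (LP (LK LD1_c6 LD2_c6 LD3_c17))))))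
theorem f45224 : Led Lsl_ct (LP (LK LD1_c4 LD2_c14 LD3_c57)) = (LP (LK LD1_c2 LD2_c4 LD3_c52)) :=
  Lre_c IH (LK LD1_c4 LD2_c14 LD3_c57) (LK LD1_c2 LD2_c4 LD3_c52) Lrfl Lrfl
theorem f45189 : Led Lsl_gt (LP (LK LD1_c2 LD2_c4 LD3_c52)) = (LP (LK LD1_c2 LD2_c5 LD3_c0)) :=
  Lgr Lrot46 (Lpe (f45188 IH) (Lpr_ft (K1.f45186 IH) (Lpr_at (K1.f45155 IH) (Lpn (LP (LK LD1_c2 LD2_c5 LD3_c0))))))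
theorem f179045 : Led Lsl_ct (LP (LK LD1_c1 LD2_c25 LD3_c13)) = (LP (LK LD1_c2 LD2_c59 LD3_c0)) :=
  Lre_c IH (LK LD1_c1 LD2_c25 LD3_c13) (LK LD1_c2 LD2_c59 LD3_c0) Lrfl Lrfl
theorem f179042 : Led Lsl_dt (LP (LK LD1_c6 LD2_c5 LD3_c49)) = (LP (LK LD1_c2 LD2_c59 LD3_c0)) :=
  Lre_d IH (LK LD1_c6 LD2_c5 LD3_c49) (LK LD1_c2 LD2_c59 LD3_c0) Lrfl Lrfl
theorem f179043 : Led Lsl_gt (LP (LK LD1_c11 LD2_c55 LD3_c6)) = (LP (LK LD1_c6 LD2_c5 LD3_c49)) :=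
  Lre_g IH (LK LD1_c11 LD2_c55 LD3_c6) (LK LD1_c6 LD2_c5 LD3_c49) Lrfl Lrfl
theorem f231691 : Led Lsl_df (LP (LK LD1_c11 LD2_c55 LD3_c6)) = (LP (LK LD1_c6 LD2_c6 LD3_c17)) :=
  Lgr Lrot153 (Lpr_gt (f179043 IH) (Lpr_dt (f179042 IH) (Lpe (f179045 IH) (Lpe (K10.f169558 IH) (Lpr_gf (K9.f183668 IH) (Lpe (K1.f45154 IH) (Lpe (f45189 IH) (Lpe (f45224 IH) (Lpr_gt (f231684 IH) (Lpn (LP (LK LD1_c6 LD2_c6 LD3_c17))))))))))))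
theorem f55920 : Led Lsl_ct (LP (LK LD1_c2 LD2_c59 LD3_c15)) = (LP (LK LD1_c1 LD2_c25 LD3_c20)) :=
  Lre_c IH (LK LD1_c2 LD2_c59 LD3_c15) (LK LD1_c1 LD2_c25 LD3_c20) Lrfl Lrfl
theorem f45206 : Led Lsl_ct (LP (LK LD1_c8 LD2_c29 LD3_c3)) = (LP (LK LD1_c4 LD2_c15 LD3_c0)) :=
  Lre_c IH (LK LD1_c8 LD2_c29 LD3_c3) (LK LD1_c4 LD2_c15 LD3_c0) Lrfl Lrfl
theorem f45354 : Led Lsl_ft (LP (LK LD1_c2 LD2_c34 LD3_c52)) = (LP (LK LD1_c5 LD2_c16 LD3_c13)) :=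
  Lre_f IH (LK LD1_c2 LD2_c34 LD3_c52) (LK LD1_c5 LD2_c16 LD3_c13) Lrfl Lrfl
theorem f45396 : Led Lsl_at (LP (LK LD1_c5 LD2_c16 LD3_c13)) = (LP (LK LD1_c8 LD2_c29 LD3_c3)) :=
  Lgr Lrot33 (Lpe (f45354 IH) (Lpr_dt (K10.f45391 IH) (Lpr_ct (K10.f45390 IH) (Lpr_dt (K10.f45389 IH) (Lpr_ct (K1.f45382 IH) (Lpr_dt (K10.f27379 IH) (Lpr_ct (K10.f45267 IH) (Lpr_dt (K10.f45392 IH) (Lpr_ct (K10.f45286 IH) (Lpn (LP (LK LD1_c8 LD2_c29 LD3_c3))))))))))))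
theorem f45294 : Led Lsl_gt (LP (LK LD1_c2 LD2_c34 LD3_c52)) = (LP (LK LD1_c5 LD2_c16 LD3_c9)) :=
  Lre_g IH (LK LD1_c2 LD2_c34 LD3_c52) (LK LD1_c5 LD2_c16 LD3_c9) Lrfl Lrfl
theorem f45412 : Led Lsl_gt (LP (LK LD1_c5 LD2_c16 LD3_c9)) = (LP (LK LD1_c8 LD2_c29 LD3_c3)) :=
  Lgr Lrot46 (Lpe (f45294 IH) (Lpr_ft (f45354 IH) (Lpr_at (f45396 IH) (Lpn (LP (LK LD1_c8 LD2_c29 LD3_c3))))))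
theorem f231879 : Led Lsl_ct (LP (LK LD1_c6 LD2_c5 LD3_c49)) = (LP (LK LD1_c5 LD2_c16 LD3_c9)) :=
  Lgr Lrot152 (Lpe (f179043 IH) (Lpr_df (f231691 IH) (Lpr_gt (K11.f183496 IH) (Lpr_ct (f55920 IH) (Lpr_gt (K9.f183491 IH) (Lpr_ct (K10.f45267 IH) (Lpe (K1.f45205 IH) (Lpe (f45206 IH) (Lpe (f45412 IH) (Lpn (LP (LK LD1_c5 LD2_c16 LD3_c9))))))))))))
theorem f231884 : Led Lsl_cf (LP (LK LD1_c6 LD2_c5 LD3_c49)) = (LP (LK LD1_c5 LD2_c16 LD3_c9)) :=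
  Lgr Lrot11 (Lpr_ct (f231879 IH) (Lpn (LP (LK LD1_c5 LD2_c16 LD3_c9))))
theorem f231889 : Led Lsl_gt (LP (LK LD1_c6 LD2_c5 LD3_c49)) = (LP (LK LD1_c11 LD2_c55 LD3_c5)) :=
  Lre_g IH (LK LD1_c6 LD2_c5 LD3_c49) (LK LD1_c11 LD2_c55 LD3_c5) Lrfl Lrfl
theorem f184065 : Led Lsl_cf (LP (LK LD1_c4 LD2_c13 LD3_c39)) = (LP (LK LD1_c2 LD2_c34 LD3_c49)) :=
  Lgr Lrot11 (Lpr_ct (K9.f184062 IH) (Lpn (LP (LK LD1_c2 LD2_c34 LD3_c49))))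
theorem f231967 : Led Lsl_dt (LP (LK LD1_c15 LD2_c36 LD3_c16)) = (LP (LK LD1_c8 LD2_c17 LD3_c51)) :=
  Lre_d IH (LK LD1_c15 LD2_c36 LD3_c16) (LK LD1_c8 LD2_c17 LD3_c51) Lrfl Lrfl
theorem f231968 : Led Lsl_ct (LP (LK LD1_c11 LD2_c55 LD3_c5)) = (LP (LK LD1_c15 LD2_c36 LD3_c16)) :=
  Lgr Lrot110 (Lpe (f231889 IH) (Lpr_cf (f231884 IH) (Lpe (f45294 IH) (Lpe (K1.f45193 IH) (Lpr_gt (K9.f47574 IH) (Lpe (f184065 IH) (Lpr_gt (K12.f49460 IH) (Lpe (K12.f229040 IH) (Lpe (f231967 IH) (Lpn (LP (LK LD1_c15 LD2_c36 LD3_c16))))))))))))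
theorem f231973 : Led Lsl_cf (LP (LK LD1_c11 LD2_c55 LD3_c5)) = (LP (LK LD1_c15 LD2_c36 LD3_c16)) :=
  Lgr Lrot11 (Lpr_ct (f231968 IH) (Lpn (LP (LK LD1_c15 LD2_c36 LD3_c16))))
theorem f231970 : Led Lsl_dt (LP (LK LD1_c8 LD2_c17 LD3_c51)) = (LP (LK LD1_c15 LD2_c36 LD3_c16)) :=
  Lre_d IH (LK LD1_c8 LD2_c17 LD3_c51) (LK LD1_c15 LD2_c36 LD3_c16) Lrfl Lrfl
theorem f49464 : Led Lsl_dt (LP (LK LD1_c2 LD2_c4 LD3_c15)) = (LP (LK LD1_c4 LD2_c13 LD3_c48)) :=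
  Lre_d IH (LK LD1_c2 LD2_c4 LD3_c15) (LK LD1_c4 LD2_c13 LD3_c48) Lrfl Lrfl
theorem f231978 : Led Lsl_dt (LP (LK LD1_c11 LD2_c55 LD3_c5)) = (LP (LK LD1_c6 LD2_c6 LD3_c16)) :=
  Lgr Lrot120 (Lpr_cf (f231973 IH) (Lpe (f231970 IH) (Lpr_cf (K12.f229040 IH) (Lpe (f49464 IH) (Lpe (K9.f50888 IH) (Lpe (K11.f27413 IH) (Lpr_ft (f50880 IH) (Lpr_at (K11.f50869 IH) (Lpe (K11.f183709 IH) (Lpn (LP (LK LD1_c6 LD2_c6 LD3_c16))))))))))))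
theorem f27396 : Led Lsl_dt (LP (LK LD1_c0 LD2_c59 LD3_c7)) = (LP (LK LD1_c2 LD2_c4 LD3_c10)) :=
  Lre_d IH (LK LD1_c0 LD2_c59 LD3_c7) (LK LD1_c2 LD2_c4 LD3_c10) Lrfl Lrfl
theorem f44977 : Led Lsl_ct (LP (LK LD1_c2 LD2_c4 LD3_c10)) = (LP (LK LD1_c4 LD2_c13 LD3_c40)) :=
  Lre_c IH (LK LD1_c2 LD2_c4 LD3_c10) (LK LD1_c4 LD2_c13 LD3_c40) Lrfl Lrfl
theorem f231980 : Led Lsl_ff (LP (LK LD1_c4 LD2_c13 LD3_c47)) = (LP (LK LD1_c8 LD2_c17 LD3_c51)) :=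
  Lgr Lrot103 (Lpe (K12.f49478 IH) (Lpe (f44977 IH) (Lpe (f27396 IH) (Lpe (K9.f49430 IH) (Lpe (K11.f49525 IH) (Lpe (K11.f183709 IH) (Lpe (f231978 IH) (Lpr_cf (f231973 IH) (Lpe (f231970 IH) (Lpn (LP (LK LD1_c8 LD2_c17 LD3_c51))))))))))))
theorem f231994 : Led Lsl_gf (LP (LK LD1_c4 LD2_c13 LD3_c40)) = (LP (LK LD1_c4 LD2_c8 LD3_c51)) :=
  Lgr Lrot76 (Lpr_af (K12.f49478 IH) (Lpr_ff (f231980 IH) (Lpr_gt (K12.f229039 IH) (Lpn (LP (LK LD1_c4 LD2_c8 LD3_c51))))))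
theorem f231996 : Led Lsl_gt (LP (LK LD1_c1 LD2_c14 LD3_c26)) = (LP (LK LD1_c2 LD2_c1 LD3_c46)) :=
  Lgr Lrot9 (Lpe (K1.f32374 IH) (Lpr_gt (K9.f32877 IH) (Lpe (K10.f192454 IH) (Lpr_gt (K10.f192468 IH) (Lpr_ct (K9.f49430 IH) (Lpe (K8.f44967 IH) (Lpe (K12.f45006 IH) (Lpr_gf (f231994 IH) (Lpe (K12.f229038 IH) (Lpn (LP (LK LD1_c2 LD2_c1 LD3_c46))))))))))))
theorem f1436 : Led Lsl_dt (LP (LK LD1_c0 LD2_c57 LD3_c54)) = (LP (LK LD1_c2 LD2_c1 LD3_c46)) :=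
  Lre_d IH (LK LD1_c0 LD2_c57 LD3_c54) (LK LD1_c2 LD2_c1 LD3_c46) Lrfl Lrfl
theorem f1435 : Led Lsl_et (LP (LK LD1_c0 LD2_c57 LD3_c54)) = (LP (LK LD1_c0 LD2_c26 LD3_c18)) :=
  Lre_e IH (LK LD1_c0 LD2_c57 LD3_c54) (LK LD1_c0 LD2_c26 LD3_c18) Lrfl Lrfl
theorem f51441 : Led Lsl_et (LP (LK LD1_c0 LD2_c57 LD3_c50)) = (LP (LK LD1_c0 LD2_c57 LD3_c50)) :=
  Lgr Lrot74 (Lpr_bf (K9.f51431 IH) (Lpr_ef (K12.f27355 IH) (Lpe (K12.f51437 IH) (Lpn (LP (LK LD1_c0 LD2_c57 LD3_c50))))))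
theorem f51459 : Led Lsl_dt (LP (LK LD1_c2 LD2_c2 LD3_c4)) = (LP (LK LD1_c0 LD2_c57 LD3_c60)) :=
  Lre_d IH (LK LD1_c2 LD2_c2 LD3_c4) (LK LD1_c0 LD2_c57 LD3_c60) Lrfl Lrfl
theorem f232012 : Led Lsl_ef (LP (LK LD1_c1 LD2_c14 LD3_c11)) = (LP (LK LD1_c2 LD2_c2 LD3_c4)) :=
  Lgr Lrot167 (Lpr_gt (K10.f32876 IH) (Lpr_dt (K1.f32374 IH) (Lpr_gt (f231996 IH) (Lpe (f1436 IH) (Lpr_et (f1435 IH) (Lpr_gt (K12.f1359 IH) (Lpe (f51441 IH) (Lpr_dt (K9.f50517 IH) (Lpr_gt (K12.f51458 IH) (Lpe (f51459 IH) (Lpn (LP (LK LD1_c2 LD2_c2 LD3_c4)))))))))))))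
theorem f232022 : Led Lsl_et (LP (LK LD1_c1 LD2_c14 LD3_c11)) = (LP (LK LD1_c2 LD2_c2 LD3_c4)) :=
  Lgr Lrot87 (Lpr_ef (f232012 IH) (Lpn (LP (LK LD1_c2 LD2_c2 LD3_c4))))
theorem f53411 : Led Lsl_ct (LP (LK LD1_c2 LD2_c2 LD3_c4)) = (LP (LK LD1_c4 LD2_c9 LD3_c35)) :=
  Lre_c IH (LK LD1_c2 LD2_c2 LD3_c4) (LK LD1_c4 LD2_c9 LD3_c35) Lrfl Lrfl
theorem f232024 : Led Lsl_ef (LP (LK LD1_c2 LD2_c34 LD3_c21)) = (LP (LK LD1_c4 LD2_c9 LD3_c35)) :=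
  Lgr Lrot28 (Lpr_ct (K10.f45386 IH) (Lpr_et (f232022 IH) (Lpr_ct (f53411 IH) (Lpn (LP (LK LD1_c4 LD2_c9 LD3_c35))))))
theorem f47817 : Led Lsl_gf (LP (LK LD1_c0 LD2_c26 LD3_c12)) = (LP (LK LD1_c0 LD2_c32 LD3_c61)) :=
  Lgr Lrot104 (Lpr_ct (K1.f33091 IH) (Lpr_df (K1.f44952 IH) (Lpe (K0.f737 IH) (Lpe (K1.f757 IH) (Lpe (K8.f1430 IH) (Lpr_gf (K1.f47810 IH) (Lpe (K9.f45722 IH) (Lpe (K1.f32925 IH) (Lpr_ct (K8.f32927 IH) (Lpn (LP (LK LD1_c0 LD2_c32 LD3_c61))))))))))))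
theorem f48171 : Led Lsl_gt (LP (LK LD1_c5 LD2_c0 LD3_c36)) = (LP (LK LD1_c2 LD2_c28 LD3_c3)) :=
  Lre_g IH (LK LD1_c5 LD2_c0 LD3_c36) (LK LD1_c2 LD2_c28 LD3_c3) Lrfl Lrfl
theorem f232099 : Led Lsl_df (LP (LK LD1_c5 LD2_c0 LD3_c36)) = (LP (LK LD1_c4 LD2_c9 LD3_c35)) :=
  Lgr Lrot170 (Lpr_gt (f48171 IH) (Lpe (K12.f49156 IH) (Lpr_et (K9.f49155 IH) (Lpe (f47817 IH) (Lpr_dt (K1.f44963 IH) (Lpr_gt (K1.f27391 IH) (Lpr_df (K1.f45062 IH) (Lpr_et (K10.f45068 IH) (Lpr_gt (K12.f212245 IH) (Lpr_ef (f232024 IH) (Lpn (LP (LK LD1_c4 LD2_c9 LD3_c35)))))))))))))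
theorem f232103 : Led Lsl_dt (LP (LK LD1_c5 LD2_c0 LD3_c36)) = (LP (LK LD1_c4 LD2_c9 LD3_c35)) :=
  Lgr Lrot42 (Lpr_df (f232099 IH) (Lpn (LP (LK LD1_c4 LD2_c9 LD3_c35))))
theorem f51464 : Led Lsl_dt (LP (LK LD1_c0 LD2_c57 LD3_c60)) = (LP (LK LD1_c2 LD2_c2 LD3_c4)) :=
  Lre_d IH (LK LD1_c0 LD2_c57 LD3_c60) (LK LD1_c2 LD2_c2 LD3_c4) Lrfl Lrfl
theorem f167332 : Led Lsl_ct (LP (LK LD1_c0 LD2_c57 LD3_c52)) = (LP (LK LD1_c0 LD2_c26 LD3_c18)) :=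
  Lre_c IH (LK LD1_c0 LD2_c57 LD3_c52) (LK LD1_c0 LD2_c26 LD3_c18) Lrfl Lrfl
theorem f199616 : Led Lsl_dt (LP (LK LD1_c2 LD2_c1 LD3_c38)) = (LP (LK LD1_c4 LD2_c8 LD3_c31)) :=
  Lre_d IH (LK LD1_c2 LD2_c1 LD3_c38) (LK LD1_c4 LD2_c8 LD3_c31) Lrfl Lrfl
theorem f232126 : Led Lsl_gf (LP (LK LD1_c5 LD2_c0 LD3_c36)) = (LP (LK LD1_c4 LD2_c8 LD3_c31)) :=
  Lgr Lrot143 (Lpr_dt (f232103 IH) (Lpe (f53411 IH) (Lpe (f51464 IH) (Lpe (K12.f51458 IH) (Lpe (K9.f50517 IH) (Lpe (K12.f1359 IH) (Lpe (f167332 IH) (Lpr_gt (K12.f199615 IH) (Lpr_dt (f199616 IH) (Lpn (LP (LK LD1_c4 LD2_c8 LD3_c31))))))))))))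
theorem f199690 : Led Lsl_et (LP (LK LD1_c2 LD2_c1 LD3_c40)) = (LP (LK LD1_c0 LD2_c57 LD3_c52)) :=
  Lre_e IH (LK LD1_c2 LD2_c1 LD3_c40) (LK LD1_c0 LD2_c57 LD3_c52) Lrfl Lrfl
theorem f232136 : Led Lsl_df (LP (LK LD1_c4 LD2_c5 LD3_c20)) = (LP (LK LD1_c2 LD2_c1 LD3_c40)) :=
  Lgr Lrot132 (Lpr_gf (f216134 IH) (Lpe (K11.f27415 IH) (Lpr_gf (K12.f212247 IH) (Lpr_ef (f232024 IH) (Lpe (f232099 IH) (Lpr_gf (f232126 IH) (Lpe (f199616 IH) (Lpe (K12.f222230 IH) (Lpe (K12.f199615 IH) (Lpe (f199690 IH) (Lpn (LP (LK LD1_c2 LD2_c1 LD3_c40)))))))))))))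
theorem f45724 : Led Lsl_gf (LP (LK LD1_c0 LD2_c34 LD3_c24)) = (LP (LK LD1_c0 LD2_c59 LD3_c6)) :=
  Lgr Lrot104 (Lpr_ct (K1.f32327 IH) (Lpr_df (K1.f45092 IH) (Lpe (K1.f45122 IH) (Lpe (K1.f32310 IH) (Lpe (K1.f32313 IH) (Lpr_gf (K1.f45716 IH) (Lpe (K0.f1427 IH) (Lpr_gt (K1.f8083 IH) (Lpr_ct (K1.f27393 IH) (Lpn (LP (LK LD1_c0 LD2_c59 LD3_c6))))))))))))
theorem f232147 : Led Lsl_gt (LP (LK LD1_c1 LD2_c11 LD3_c12)) = (LP (LK LD1_c0 LD2_c57 LD3_c52)) :=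
  Lgr Lrot131 (Lpe (K9.f49151 IH) (Lpe (K8.f49143 IH) (Lpe (K1.f28462 IH) (Lpe (K8.f49141 IH) (Lpr_gf (f45724 IH) (Lpe (K11.f45083 IH) (Lpr_dt (K11.f45085 IH) (Lpe (f216136 IH) (Lpr_df (f232136 IH) (Lpr_et (f199690 IH) (Lpn (LP (LK LD1_c0 LD2_c57 LD3_c52)))))))))))))
theorem f48027 : Led Lsl_bt (LP (LK LD1_c2 LD2_c0 LD3_c21)) = (LP (LK LD1_c0 LD2_c57 LD3_c11)) :=
  Lre_b IH (LK LD1_c2 LD2_c0 LD3_c21) (LK LD1_c0 LD2_c57 LD3_c11) Lrfl Lrfl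
theorem f188850 : Led Lsl_ft (LP (LK LD1_c2 LD2_c6 LD3_c34)) = (LP (LK LD1_c2 LD2_c0 LD3_c21)) :=
  Lgr Lrot75 (Lpe (K12.f188697 IH) (Lpr_ff (K12.f188848 IH) (Lpe (f48027 IH) (Lpn (LP (LK LD1_c2 LD2_c0 LD3_c21))))))
theorem f48025 : Led Lsl_af (LP (LK LD1_c2 LD2_c23 LD3_c1)) = (LP (LK LD1_c2 LD2_c0 LD3_c21)) :=
  Lgr Lrot0 (Lpr_at (K10.f48019 IH) (Lpn (LP (LK LD1_c2 LD2_c0 LD3_c21))))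
theorem f229615 : Led Lsl_gt (LP (LK LD1_c1 LD2_c8 LD3_c51)) = (LP (LK LD1_c2 LD2_c23 LD3_c1)) :=
  Lgr Lrot46 (Lpr_gf (K12.f229610 IH) (Lpr_ft (f188850 IH) (Lpe (f48025 IH) (Lpn (LP (LK LD1_c2 LD2_c23 LD3_c1))))))
theorem f29143 : Led Lsl_ft (LP (LK LD1_c0 LD2_c27 LD3_c60)) = (LP (LK LD1_c1 LD2_c1 LD3_c16)) :=
  Lre_f IH (LK LD1_c0 LD2_c27 LD3_c60) (LK LD1_c1 LD2_c1 LD3_c16) Lrfl Lrfl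
theorem f39087 : Led Lsl_af (LP (LK LD1_c1 LD2_c55 LD3_c11)) = (LP (LK LD1_c1 LD2_c1 LD3_c16)) :=
  Lgr Lrot0 (Lpr_at (K1.f39085 IH) (Lpn (LP (LK LD1_c1 LD2_c1 LD3_c16))))
theorem f228932 : Led Lsl_gt (LP (LK LD1_c0 LD2_c57 LD3_c51)) = (LP (LK LD1_c1 LD2_c55 LD3_c11)) :=
  Lgr Lrot46 (Lpr_gf (K12.f228930 IH) (Lpr_ft (f29143 IH) (Lpe (f39087 IH) (Lpn (LP (LK LD1_c1 LD2_c55 LD3_c11))))))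
theorem f232156 : Led Lsl_gf (LP (LK LD1_c1 LD2_c8 LD3_c52)) = (LP (LK LD1_c1 LD2_c1 LD3_c16)) :=
  Lgr Lrot129 (Lpe (K12.f2081 IH) (Lpr_bt (K12.f229626 IH) (Lpr_gt (f229615 IH) (Lpr_bf (K8.f48160 IH) (Lpr_ct (K10.f48172 IH) (Lpr_gt (f232147 IH) (Lpe (K12.f167356 IH) (Lpr_bt (K12.f167331 IH) (Lpr_gt (f228932 IH) (Lpe (K10.f29130 IH) (Lpn (LP (LK LD1_c1 LD2_c1 LD3_c16)))))))))))))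
theorem f167313 : Led Lsl_gt (LP (LK LD1_c0 LD2_c27 LD3_c13)) = (LP (LK LD1_c0 LD2_c59 LD3_c50)) :=
  Lre_g IH (LK LD1_c0 LD2_c27 LD3_c13) (LK LD1_c0 LD2_c59 LD3_c50) Lrfl Lrfl
theorem f187073 : Led Lsl_ct (LP (LK LD1_c2 LD2_c5 LD3_c37)) = (LP (LK LD1_c0 LD2_c59 LD3_c50)) :=
  Lre_c IH (LK LD1_c2 LD2_c5 LD3_c37) (LK LD1_c0 LD2_c59 LD3_c50) Lrfl Lrfl
theorem f232205 : Led Lsl_bt (LP (LK LD1_c2 LD2_c5 LD3_c37)) = (LP (LK LD1_c1 LD2_c1 LD3_c16)) :=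
  Lgr Lrot130 (Lpr_ct (f187073 IH) (Lpe (f167313 IH) (Lpe (K10.f187019 IH) (Lpr_bt (K10.f171198 IH) (Lpr_gf (K9.f171185 IH) (Lpe (K9.f1699 IH) (Lpr_ct (K9.f1700 IH) (Lpe (K9.f2106 IH) (Lpe (K9.f2090 IH) (Lpr_gf (f232156 IH) (Lpn (LP (LK LD1_c1 LD2_c1 LD3_c16)))))))))))))
theorem f232240 : Led Lsl_ff (LP (LK LD1_c2 LD2_c5 LD3_c37)) = (LP (LK LD1_c1 LD2_c1 LD3_c10)) :=
  Lgr Lrot25 (Lpr_bt (f232205 IH) (Lpr_ft (K1.f29128 IH) (Lpr_bt (K12.f29021 IH) (Lpn (LP (LK LD1_c1 LD2_c1 LD3_c10))))))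
theorem f39107 : Led Lsl_ct (LP (LK LD1_c8 LD2_c40 LD3_c32)) = (LP (LK LD1_c4 LD2_c21 LD3_c28)) :=
  Lre_c IH (LK LD1_c8 LD2_c40 LD3_c32) (LK LD1_c4 LD2_c21 LD3_c28) Lrfl Lrfl
theorem f39070 : Led Lsl_dt (LP (LK LD1_c16 LD2_c14 LD3_c51)) = (LP (LK LD1_c8 LD2_c40 LD3_c32)) :=
  Lre_d IH (LK LD1_c16 LD2_c14 LD3_c51) (LK LD1_c8 LD2_c40 LD3_c32) Lrfl Lrfl
theorem f39108 : Led Lsl_ct (LP (LK LD1_c26 LD2_c12 LD3_c14)) = (LP (LK LD1_c16 LD2_c14 LD3_c51)) :=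
  Lre_c IH (LK LD1_c26 LD2_c12 LD3_c14) (LK LD1_c16 LD2_c14 LD3_c51) Lrfl Lrfl
theorem f42912 : Led Lsl_df (LP (LK LD1_c26 LD2_c12 LD3_c14)) = (LP (LK LD1_c24 LD2_c45 LD3_c42)) :=
  Lgr Lrot13 (Lpr_ct (f39108 IH) (Lpr_dt (f39070 IH) (Lpr_ct (f39107 IH) (Lpe (K1.f39095 IH) (Lpe (K1.f39100 IH) (Lpr_dt (K9.f42906 IH) (Lpr_ct (K9.f39120 IH) (Lpr_dt (K9.f39017 IH) (Lpr_ct (K9.f39593 IH) (Lpn (LP (LK LD1_c24 LD2_c45 LD3_c42))))))))))))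
theorem f39598 : Led Lsl_ct (LP (LK LD1_c16 LD2_c14 LD3_c51)) = (LP (LK LD1_c26 LD2_c12 LD3_c14)) :=
  Lre_c IH (LK LD1_c16 LD2_c14 LD3_c51) (LK LD1_c26 LD2_c12 LD3_c14) Lrfl Lrfl
theorem f39111 : Led Lsl_dt (LP (LK LD1_c8 LD2_c40 LD3_c32)) = (LP (LK LD1_c16 LD2_c14 LD3_c51)) :=
  Lre_d IH (LK LD1_c8 LD2_c40 LD3_c32) (LK LD1_c16 LD2_c14 LD3_c51) Lrfl Lrfl
theorem f39099 : Led Lsl_ct (LP (LK LD1_c4 LD2_c21 LD3_c28)) = (LP (LK LD1_c8 LD2_c40 LD3_c32)) :=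
  Lre_c IH (LK LD1_c4 LD2_c21 LD3_c28) (LK LD1_c8 LD2_c40 LD3_c32) Lrfl Lrfl
theorem f42924 : Led Lsl_dt (LP (LK LD1_c4 LD2_c21 LD3_c28)) = (LP (LK LD1_c4 LD2_c21 LD3_c28)) :=
  Lgr Lrot173 (Lpe (f39107 IH) (Lpe (f39070 IH) (Lpe (f39108 IH) (Lpr_df (f42912 IH) (Lpe (K9.f39593 IH) (Lpe (K9.f39017 IH) (Lpe (K9.f39120 IH) (Lpe (K9.f42906 IH) (Lpe (K9.f39127 IH) (Lpe (K9.f39128 IH) (Lpe (K9.f39129 IH) (Lpr_df (K9.f42914 IH) (Lpe (f39598 IH) (Lpe (f39111 IH) (Lpe (f39099 IH) (Lpn (LP (LK LD1_c4 LD2_c21 LD3_c28))))))))))))))))))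
theorem f39116 : Led Lsl_et (LP (LK LD1_c2 LD2_c8 LD3_c14)) = (LP (LK LD1_c4 LD2_c21 LD3_c28)) :=
  Lre_e IH (LK LD1_c2 LD2_c8 LD3_c14) (LK LD1_c4 LD2_c21 LD3_c28) Lrfl Lrfl
theorem f29140 : Led Lsl_dt (LP (LK LD1_c2 LD2_c8 LD3_c14)) = (LP (LK LD1_c1 LD2_c1 LD3_c16)) :=
  Lre_d IH (LK LD1_c2 LD2_c8 LD3_c14) (LK LD1_c1 LD2_c1 LD3_c16) Lrfl Lrfl
theorem f43056 : Led Lsl_ef (LP (LK LD1_c1 LD2_c1 LD3_c16)) = (LP (LK LD1_c1 LD2_c1 LD3_c16)) :=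
  Lgr Lrot73 (Lpr_dt (K1.f29137 IH) (Lpr_et (f39116 IH) (Lpr_dt (f42924 IH) (Lpr_et (K1.f39094 IH) (Lpr_dt (f29140 IH) (Lpn (LP (LK LD1_c1 LD2_c1 LD3_c16))))))))
theorem f232234 : Led Lsl_bf (LP (LK LD1_c2 LD2_c5 LD3_c37)) = (LP (LK LD1_c1 LD2_c1 LD3_c16)) :=
  Lgr Lrot24 (Lpr_bt (f232205 IH) (Lpn (LP (LK LD1_c1 LD2_c1 LD3_c16))))
theorem f232238 : Led Lsl_ef (LP (LK LD1_c2 LD2_c5 LD3_c37)) = (LP (LK LD1_c2 LD2_c5 LD3_c37)) :=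
  Lgr Lrot29 (Lpr_bt (f232205 IH) (Lpe (f43056 IH) (Lpe (f232234 IH) (Lpn (LP (LK LD1_c2 LD2_c5 LD3_c37))))))
theorem f232246 : Led Lsl_ft (LP (LK LD1_c2 LD2_c5 LD3_c37)) = (LP (LK LD1_c1 LD2_c1 LD3_c10)) :=
  Lgr Lrot86 (Lpr_ef (f232238 IH) (Lpr_ff (f232240 IH) (Lpe (K12.f29025 IH) (Lpr_ff (K1.f41843 IH) (Lpe (K0.f29005 IH) (Lpn (LP (LK LD1_c1 LD2_c1 LD3_c10))))))))
theorem f167314 : Led Lsl_ct (LP (LK LD1_c0 LD2_c59 LD3_c50)) = (LP (LK LD1_c2 LD2_c5 LD3_c37)) :=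
  Lre_c IH (LK LD1_c0 LD2_c59 LD3_c50) (LK LD1_c2 LD2_c5 LD3_c37) Lrfl Lrfl
theorem f232250 : Led Lsl_ff (LP (LK LD1_c0 LD2_c59 LD3_c50)) = (LP (LK LD1_c0 LD2_c39 LD3_c6)) :=
  Lgr Lrot23 (Lpr_ct (f167314 IH) (Lpr_ft (f232246 IH) (Lpr_ct (K12.f29011 IH) (Lpn (LP (LK LD1_c0 LD2_c39 LD3_c6))))))
theorem f6882 : Led Lsl_bt (LP (LK LD1_c0 LD2_c39 LD3_c5)) = (LP (LK LD1_c0 LD2_c17 LD3_c30)) :=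
  Lre_b IH (LK LD1_c0 LD2_c39 LD3_c5) (LK LD1_c0 LD2_c17 LD3_c30) Lrfl Lrfl
theorem f42022 : Led Lsl_ft (LP (LK LD1_c0 LD2_c17 LD3_c30)) = (LP (LK LD1_c0 LD2_c17 LD3_c30)) :=
  Lgr Lrot75 (Lpe (f6882 IH) (Lpr_ff (K1.f42018 IH) (Lpe (K0.f29000 IH) (Lpn (LP (LK LD1_c0 LD2_c17 LD3_c30))))))
theorem f232242 : Led Lsl_ft (LP (LK LD1_c0 LD2_c59 LD3_c50)) = (LP (LK LD1_c0 LD2_c39 LD3_c6)) :=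
  Lgr Lrot4 (Lpe (f187073 IH) (Lpr_ff (f232240 IH) (Lpr_cf (K0.f29007 IH) (Lpn (LP (LK LD1_c0 LD2_c39 LD3_c6))))))
theorem f232708 : Led Lsl_et (LP (LK LD1_c0 LD2_c59 LD3_c50)) = (LP (LK LD1_c0 LD2_c59 LD3_c50)) :=
  Lgr Lrot69 (Lpr_ff (f232250 IH) (Lpe (K0.f29006 IH) (Lpe (f42022 IH) (Lpe (K1.f29026 IH) (Lpe (f232242 IH) (Lpn (LP (LK LD1_c0 LD2_c59 LD3_c50))))))))
theorem f232704 : Led Lsl_at (LP (LK LD1_c0 LD2_c59 LD3_c50)) = (LP (LK LD1_c0 LD2_c58 LD3_c11)) :=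
  Lgr Lrot66 (Lpr_ff (f232250 IH) (Lpr_af (K10.f42036 IH) (Lpe (K10.f187004 IH) (Lpn (LP (LK LD1_c0 LD2_c58 LD3_c11))))))
theorem f43058 : Led Lsl_et (LP (LK LD1_c1 LD2_c55 LD3_c11)) = (LP (LK LD1_c1 LD2_c55 LD3_c11)) :=
  Lgr Lrot123 (Lpr_af (f39087 IH) (Lpr_ef (f43056 IH) (Lpe (K1.f39085 IH) (Lpn (LP (LK LD1_c1 LD2_c55 LD3_c11))))))
theorem f186996 : Led Lsl_bt (LP (LK LD1_c0 LD2_c58 LD3_c11)) = (LP (LK LD1_c1 LD2_c55 LD3_c11)) :=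
  Lgr Lrot127 (Lpr_bf (K10.f186994 IH) (Lpn (LP (LK LD1_c1 LD2_c55 LD3_c11))))
theorem f187002 : Led Lsl_et (LP (LK LD1_c0 LD2_c58 LD3_c11)) = (LP (LK LD1_c0 LD2_c58 LD3_c11)) :=
  Lgr Lrot74 (Lpr_bf (K10.f186994 IH) (Lpe (f43058 IH) (Lpe (f186996 IH) (Lpn (LP (LK LD1_c0 LD2_c58 LD3_c11))))))
theorem f232710 : Led Lsl_af (LP (LK LD1_c0 LD2_c59 LD3_c50)) = (LP (LK LD1_c0 LD2_c58 LD3_c11)) :=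
  Lgr Lrot50 (Lpr_et (f232708 IH) (Lpr_at (f232704 IH) (Lpr_et (f187002 IH) (Lpn (LP (LK LD1_c0 LD2_c58 LD3_c11))))))
theorem f187007 : Led Lsl_ct (LP (LK LD1_c2 LD2_c2 LD3_c33)) = (LP (LK LD1_c0 LD2_c58 LD3_c11)) :=
  Lre_c IH (LK LD1_c2 LD2_c2 LD3_c33) (LK LD1_c0 LD2_c58 LD3_c11) Lrfl Lrfl
theorem f232726 : Led Lsl_at (LP (LK LD1_c2 LD2_c5 LD3_c37)) = (LP (LK LD1_c2 LD2_c2 LD3_c33)) :=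
  Lgr Lrot107 (Lpe (f167314 IH) (Lpr_af (f232710 IH) (Lpe (f187007 IH) (Lpn (LP (LK LD1_c2 LD2_c2 LD3_c33))))))
theorem f232856 : Led Lsl_gt (LP (LK LD1_c1 LD2_c55 LD3_c12)) = (LP (LK LD1_c2 LD2_c2 LD3_c33)) :=
  Lgr Lrot46 (Lpe (K12.f229627 IH) (Lpe (f232240 IH) (Lpr_at (f232726 IH) (Lpn (LP (LK LD1_c2 LD2_c2 LD3_c33))))))
theorem f229639 : Led Lsl_ct (LP (LK LD1_c1 LD2_c55 LD3_c21)) = (LP (LK LD1_c1 LD2_c55 LD3_c12)) :=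
  Lgr Lrot63 (Lpr_bt (K12.f196320 IH) (Lpe (K10.f196303 IH) (Lpe (K1.f2147 IH) (Lpr_ct (K0.f2141 IH) (Lpe (K9.f2138 IH) (Lpe (K9.f171034 IH) (Lpr_bt (K10.f171161 IH) (Lpr_gt (K10.f187015 IH) (Lpe (K0.f29007 IH) (Lpr_gt (K12.f229627 IH) (Lpn (LP (LK LD1_c1 LD2_c55 LD3_c12)))))))))))))
theorem f169410 : Led Lsl_dt (LP (LK LD1_c0 LD2_c59 LD3_c50)) = (LP (LK LD1_c2 LD2_c5 LD3_c38)) :=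
  Lre_d IH (LK LD1_c0 LD2_c59 LD3_c50) (LK LD1_c2 LD2_c5 LD3_c38) Lrfl Lrfl
theorem f232728 : Led Lsl_at (LP (LK LD1_c2 LD2_c5 LD3_c38)) = (LP (LK LD1_c2 LD2_c2 LD3_c34)) :=
  Lgr Lrot51 (Lpe (f169410 IH) (Lpr_af (f232710 IH) (Lpe (K11.f187010 IH) (Lpn (LP (LK LD1_c2 LD2_c2 LD3_c34))))))
theorem f232736 : Led Lsl_ff (LP (LK LD1_c2 LD2_c5 LD3_c38)) = (LP (LK LD1_c1 LD2_c24 LD3_c52)) :=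
  Lgr Lrot30 (Lpr_at (f232728 IH) (Lpr_ft (K11.f199914 IH) (Lpe (K1.f42042 IH) (Lpn (LP (LK LD1_c1 LD2_c24 LD3_c52))))))
theorem f184453 : Led Lsl_et (LP (LK LD1_c2 LD2_c5 LD3_c38)) = (LP (LK LD1_c4 LD2_c16 LD3_c43)) :=
  Lre_e IH (LK LD1_c2 LD2_c5 LD3_c38) (LK LD1_c4 LD2_c16 LD3_c43) Lrfl Lrfl
theorem f219203 : Led Lsl_et (LP (LK LD1_c4 LD2_c9 LD3_c61)) = (LP (LK LD1_c2 LD2_c2 LD3_c12)) :=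
  Lre_e IH (LK LD1_c4 LD2_c9 LD3_c61) (LK LD1_c2 LD2_c2 LD3_c12) Lrfl Lrfl
theorem f232740 : Led Lsl_ft (LP (LK LD1_c4 LD2_c16 LD3_c43)) = (LP (LK LD1_c4 LD2_c9 LD3_c61)) :=
  Lgr Lrot86 (Lpe (f184453 IH) (Lpr_ff (f232736 IH) (Lpr_ef (K1.f42077 IH) (Lpr_ff (K12.f219162 IH) (Lpe (f219203 IH) (Lpn (LP (LK LD1_c4 LD2_c9 LD3_c61))))))))
theorem f184452 : Led Lsl_dt (LP (LK LD1_c2 LD2_c5 LD3_c38)) = (LP (LK LD1_c0 LD2_c59 LD3_c50)) :=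
  Lre_d IH (LK LD1_c2 LD2_c5 LD3_c38) (LK LD1_c0 LD2_c59 LD3_c50) Lrfl Lrfl
theorem f232712 : Led Lsl_et (LP (LK LD1_c4 LD2_c16 LD3_c43)) = (LP (LK LD1_c2 LD2_c5 LD3_c38)) :=
  Lre_e IH (LK LD1_c4 LD2_c16 LD3_c43) (LK LD1_c2 LD2_c5 LD3_c38) Lrfl Lrfl
theorem f232713 : Led Lsl_df (LP (LK LD1_c4 LD2_c16 LD3_c43)) = (LP (LK LD1_c4 LD2_c16 LD3_c43)) :=
  Lgr Lrot70 (Lpr_et (f232712 IH) (Lpr_dt (f184452 IH) (Lpr_et (f232708 IH) (Lpr_dt (f169410 IH) (Lpr_et (f184453 IH) (Lpn (LP (LK LD1_c4 LD2_c16 LD3_c43))))))))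
theorem f232715 : Led Lsl_ct (LP (LK LD1_c4 LD2_c16 LD3_c43)) = (LP (LK LD1_c8 LD2_c32 LD3_c43)) :=
  Lre_c IH (LK LD1_c4 LD2_c16 LD3_c43) (LK LD1_c8 LD2_c32 LD3_c43) Lrfl Lrfl
theorem f232716 : Led Lsl_dt (LP (LK LD1_c8 LD2_c32 LD3_c43)) = (LP (LK LD1_c16 LD2_c2 LD3_c40)) :=
  Lre_d IH (LK LD1_c8 LD2_c32 LD3_c43) (LK LD1_c16 LD2_c2 LD3_c40) Lrfl Lrfl
theorem f232717 : Led Lsl_ct (LP (LK LD1_c16 LD2_c2 LD3_c40)) = (LP (LK LD1_c26 LD2_c0 LD3_c15)) :=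
  Lre_c IH (LK LD1_c16 LD2_c2 LD3_c40) (LK LD1_c26 LD2_c0 LD3_c15) Lrfl Lrfl
theorem f184460 : Led Lsl_et (LP (LK LD1_c2 LD2_c2 LD3_c12)) = (LP (LK LD1_c4 LD2_c9 LD3_c61)) :=
  Lre_e IH (LK LD1_c2 LD2_c2 LD3_c12) (LK LD1_c4 LD2_c9 LD3_c61) Lrfl Lrfl
theorem f219204 : Led Lsl_af (LP (LK LD1_c4 LD2_c17 LD3_c13)) = (LP (LK LD1_c4 LD2_c9 LD3_c61)) :=
  Lgr Lrot50 (Lpr_et (K11.f199836 IH) (Lpr_at (K12.f219199 IH) (Lpr_et (f184460 IH) (Lpn (LP (LK LD1_c4 LD2_c9 LD3_c61))))))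
theorem f199845 : Led Lsl_dt (LP (LK LD1_c16 LD2_c4 LD3_c3)) = (LP (LK LD1_c8 LD2_c33 LD3_c37)) :=
  Lre_d IH (LK LD1_c16 LD2_c4 LD3_c3) (LK LD1_c8 LD2_c33 LD3_c37) Lrfl Lrfl
theorem f199847 : Led Lsl_ct (LP (LK LD1_c26 LD2_c1 LD3_c13)) = (LP (LK LD1_c16 LD2_c4 LD3_c3)) :=
  Lre_c IH (LK LD1_c26 LD2_c1 LD3_c13) (LK LD1_c16 LD2_c4 LD3_c3) Lrfl Lrfl
theorem f232748 : Led Lsl_dt (LP (LK LD1_c26 LD2_c0 LD3_c15)) = (LP (LK LD1_c26 LD2_c1 LD3_c13)) :=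
  Lgr Lrot140 (Lpe (f232717 IH) (Lpe (f232716 IH) (Lpe (f232715 IH) (Lpr_df (f232713 IH) (Lpr_ft (f232740 IH) (Lpe (f219204 IH) (Lpe (K11.f199839 IH) (Lpe (f199845 IH) (Lpe (f199847 IH) (Lpn (LP (LK LD1_c26 LD2_c1 LD3_c13))))))))))))
theorem f232718 : Led Lsl_ct (LP (LK LD1_c8 LD2_c32 LD3_c43)) = (LP (LK LD1_c4 LD2_c16 LD3_c43)) :=
  Lre_c IH (LK LD1_c8 LD2_c32 LD3_c43) (LK LD1_c4 LD2_c16 LD3_c43) Lrfl Lrfl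
theorem f232719 : Led Lsl_dt (LP (LK LD1_c16 LD2_c2 LD3_c40)) = (LP (LK LD1_c8 LD2_c32 LD3_c43)) :=
  Lre_d IH (LK LD1_c16 LD2_c2 LD3_c40) (LK LD1_c8 LD2_c32 LD3_c43) Lrfl Lrfl
theorem f199837 : Led Lsl_bt (LP (LK LD1_c3 LD2_c57 LD3_c10)) = (LP (LK LD1_c4 LD2_c17 LD3_c13)) :=
  Lgr Lrot127 (Lpr_bf (K11.f199829 IH) (Lpn (LP (LK LD1_c4 LD2_c17 LD3_c13))))
theorem f199843 : Led Lsl_dt (LP (LK LD1_c4 LD2_c17 LD3_c13)) = (LP (LK LD1_c4 LD2_c17 LD3_c13)) :=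
  Lgr Lrot79 (Lpe (f199837 IH) (Lpe (K9.f42906 IH) (Lpr_bf (K11.f199829 IH) (Lpn (LP (LK LD1_c4 LD2_c17 LD3_c13))))))
theorem f219206 : Led Lsl_at (LP (LK LD1_c4 LD2_c17 LD3_c13)) = (LP (LK LD1_c4 LD2_c9 LD3_c61)) :=
  Lgr Lrot100 (Lpr_af (f219204 IH) (Lpn (LP (LK LD1_c4 LD2_c9 LD3_c61))))
theorem f219210 : Led Lsl_dt (LP (LK LD1_c4 LD2_c9 LD3_c61)) = (LP (LK LD1_c4 LD2_c9 LD3_c61)) :=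
  Lgr Lrot44 (Lpe (f219206 IH) (Lpe (f199843 IH) (Lpr_af (f219204 IH) (Lpn (LP (LK LD1_c4 LD2_c9 LD3_c61))))))
theorem f184467 : Led Lsl_ct (LP (LK LD1_c8 LD2_c20 LD3_c13)) = (LP (LK LD1_c4 LD2_c9 LD3_c61)) :=
  Lre_c IH (LK LD1_c8 LD2_c20 LD3_c13) (LK LD1_c4 LD2_c9 LD3_c61) Lrfl Lrfl
theorem f219212 : Led Lsl_dt (LP (LK LD1_c15 LD2_c41 LD3_c31)) = (LP (LK LD1_c8 LD2_c20 LD3_c13)) :=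
  Lre_d IH (LK LD1_c15 LD2_c41 LD3_c31) (LK LD1_c8 LD2_c20 LD3_c13) Lrfl Lrfl
theorem f219213 : Led Lsl_ct (LP (LK LD1_c25 LD2_c37 LD3_c5)) = (LP (LK LD1_c15 LD2_c41 LD3_c31)) :=
  Lre_c IH (LK LD1_c25 LD2_c37 LD3_c5) (LK LD1_c15 LD2_c41 LD3_c31) Lrfl Lrfl
theorem f184472 : Led Lsl_ct (LP (LK LD1_c4 LD2_c9 LD3_c61)) = (LP (LK LD1_c8 LD2_c20 LD3_c13)) :=
  Lre_c IH (LK LD1_c4 LD2_c9 LD3_c61) (LK LD1_c8 LD2_c20 LD3_c13) Lrfl Lrfl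
theorem f199846 : Led Lsl_ct (LP (LK LD1_c4 LD2_c17 LD3_c13)) = (LP (LK LD1_c8 LD2_c33 LD3_c37)) :=
  Lre_c IH (LK LD1_c4 LD2_c17 LD3_c13) (LK LD1_c8 LD2_c33 LD3_c37) Lrfl Lrfl
theorem f219208 : Led Lsl_at (LP (LK LD1_c8 LD2_c33 LD3_c37)) = (LP (LK LD1_c8 LD2_c20 LD3_c13)) :=
  Lgr Lrot107 (Lpe (f199846 IH) (Lpr_af (f219204 IH) (Lpe (f184467 IH) (Lpn (LP (LK LD1_c8 LD2_c20 LD3_c13))))))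
theorem f199909 : Led Lsl_ft (LP (LK LD1_c8 LD2_c21 LD3_c14)) = (LP (LK LD1_c8 LD2_c33 LD3_c37)) :=
  Lgr Lrot4 (Lpe (K11.f199908 IH) (Lpr_ff (K11.f199904 IH) (Lpe (K11.f199839 IH) (Lpn (LP (LK LD1_c8 LD2_c33 LD3_c37))))))
theorem f199941 : Led Lsl_dt (LP (LK LD1_c8 LD2_c21 LD3_c14)) = (LP (LK LD1_c15 LD2_c43 LD3_c25)) :=
  Lre_d IH (LK LD1_c8 LD2_c21 LD3_c14) (LK LD1_c15 LD2_c43 LD3_c25) Lrfl Lrfl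
theorem f199979 : Led Lsl_ct (LP (LK LD1_c15 LD2_c43 LD3_c25)) = (LP (LK LD1_c25 LD2_c39 LD3_c37)) :=
  Lre_c IH (LK LD1_c15 LD2_c43 LD3_c25) (LK LD1_c25 LD2_c39 LD3_c37) Lrfl Lrfl
theorem f219215 : Led Lsl_df (LP (LK LD1_c25 LD2_c37 LD3_c5)) = (LP (LK LD1_c25 LD2_c39 LD3_c37)) :=
  Lgr Lrot106 (Lpr_ct (f219213 IH) (Lpr_dt (f219212 IH) (Lpr_ct (f184467 IH) (Lpr_dt (f219210 IH) (Lpr_ct (f184472 IH) (Lpe (f219208 IH) (Lpe (f199909 IH) (Lpr_dt (f199941 IH) (Lpr_ct (f199979 IH) (Lpn (LP (LK LD1_c25 LD2_c39 LD3_c37))))))))))))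
theorem f219149 : Led Lsl_dt (LP (LK LD1_c8 LD2_c20 LD3_c13)) = (LP (LK LD1_c15 LD2_c41 LD3_c31)) :=
  Lre_d IH (LK LD1_c8 LD2_c20 LD3_c13) (LK LD1_c15 LD2_c41 LD3_c31) Lrfl Lrfl
theorem f219214 : Led Lsl_ct (LP (LK LD1_c15 LD2_c41 LD3_c31)) = (LP (LK LD1_c25 LD2_c37 LD3_c5)) :=
  Lre_c IH (LK LD1_c15 LD2_c41 LD3_c31) (LK LD1_c25 LD2_c37 LD3_c5) Lrfl Lrfl
theorem f199970 : Led Lsl_dt (LP (LK LD1_c15 LD2_c43 LD3_c23)) = (LP (LK LD1_c25 LD2_c39 LD3_c36)) :=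
  Lre_d IH (LK LD1_c15 LD2_c43 LD3_c23) (LK LD1_c25 LD2_c39 LD3_c36) Lrfl Lrfl
theorem f199859 : Led Lsl_dt (LP (LK LD1_c26 LD2_c1 LD3_c12)) = (LP (LK LD1_c16 LD2_c4 LD3_c1)) :=
  Lre_d IH (LK LD1_c26 LD2_c1 LD3_c12) (LK LD1_c16 LD2_c4 LD3_c1) Lrfl Lrfl
theorem f199972 : Led Lsl_ft (LP (LK LD1_c25 LD2_c39 LD3_c36)) = (LP (LK LD1_c26 LD2_c1 LD3_c12)) :=
  Lgr Lrot54 (Lpe (f199970 IH) (Lpr_ff (K11.f199968 IH) (Lpe (f199859 IH) (Lpn (LP (LK LD1_c26 LD2_c1 LD3_c12))))))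
theorem f199975 : Led Lsl_bt (LP (LK LD1_c15 LD2_c43 LD3_c25)) = (LP (LK LD1_c25 LD2_c39 LD3_c36)) :=
  Lre_b IH (LK LD1_c15 LD2_c43 LD3_c25) (LK LD1_c25 LD2_c39 LD3_c36) Lrfl Lrfl
theorem f199976 : Led Lsl_bt (LP (LK LD1_c26 LD2_c1 LD3_c12)) = (LP (LK LD1_c16 LD2_c4 LD3_c3)) :=
  Lre_b IH (LK LD1_c26 LD2_c1 LD3_c12) (LK LD1_c16 LD2_c4 LD3_c3) Lrfl Lrfl
theorem f199977 : Led Lsl_ff (LP (LK LD1_c15 LD2_c43 LD3_c25)) = (LP (LK LD1_c16 LD2_c4 LD3_c3)) :=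
  Lgr Lrot25 (Lpr_bt (f199975 IH) (Lpr_ft (f199972 IH) (Lpr_bt (f199976 IH) (Lpn (LP (LK LD1_c16 LD2_c4 LD3_c3))))))
theorem f199980 : Led Lsl_ft (LP (LK LD1_c25 LD2_c39 LD3_c37)) = (LP (LK LD1_c26 LD2_c1 LD3_c13)) :=
  Lgr Lrot4 (Lpe (f199979 IH) (Lpr_ff (f199977 IH) (Lpe (f199847 IH) (Lpn (LP (LK LD1_c26 LD2_c1 LD3_c13))))))
theorem f219224 : Led Lsl_af (LP (LK LD1_c25 LD2_c37 LD3_c5)) = (LP (LK LD1_c26 LD2_c1 LD3_c13)) :=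
  Lgr Lrot109 (Lpe (f219214 IH) (Lpe (f219149 IH) (Lpe (f184472 IH) (Lpe (f219210 IH) (Lpe (f184467 IH) (Lpe (f219212 IH) (Lpe (f219213 IH) (Lpr_df (f219215 IH) (Lpr_ft (f199980 IH) (Lpn (LP (LK LD1_c26 LD2_c1 LD3_c13))))))))))))
theorem f199848 : Led Lsl_ct (LP (LK LD1_c16 LD2_c4 LD3_c3)) = (LP (LK LD1_c26 LD2_c1 LD3_c13)) :=
  Lre_c IH (LK LD1_c16 LD2_c4 LD3_c3) (LK LD1_c26 LD2_c1 LD3_c13) Lrfl Lrfl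
theorem f219229 : Led Lsl_at (LP (LK LD1_c15 LD2_c41 LD3_c31)) = (LP (LK LD1_c16 LD2_c4 LD3_c3)) :=
  Lgr Lrot107 (Lpe (f219213 IH) (Lpr_af (f219224 IH) (Lpe (f199848 IH) (Lpn (LP (LK LD1_c16 LD2_c4 LD3_c3))))))
theorem f232760 : Led Lsl_ft (LP (LK LD1_c16 LD2_c2 LD3_c40)) = (LP (LK LD1_c15 LD2_c41 LD3_c31)) :=
  Lgr Lrot142 (Lpr_dt (f232719 IH) (Lpr_ct (f232718 IH) (Lpe (f232713 IH) (Lpr_ct (f232715 IH) (Lpr_dt (f232716 IH) (Lpr_ct (f232717 IH) (Lpr_dt (f232748 IH) (Lpr_ct (f199847 IH) (Lpe (f219229 IH) (Lpn (LP (LK LD1_c15 LD2_c41 LD3_c31))))))))))))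
theorem f232764 : Led Lsl_ff (LP (LK LD1_c16 LD2_c2 LD3_c40)) = (LP (LK LD1_c15 LD2_c41 LD3_c31)) :=
  Lgr Lrot3 (Lpr_ft (f232760 IH) (Lpn (LP (LK LD1_c15 LD2_c41 LD3_c31))))
theorem f199911 : Led Lsl_dt (LP (LK LD1_c4 LD2_c10 LD3_c38)) = (LP (LK LD1_c4 LD2_c10 LD3_c38)) :=
  Lgr Lrot60 (Lpr_ff (K11.f199904 IH) (Lpe (f199843 IH) (Lpe (K11.f199897 IH) (Lpn (LP (LK LD1_c4 LD2_c10 LD3_c38))))))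
theorem f199901 : Led Lsl_ct (LP (LK LD1_c8 LD2_c21 LD3_c14)) = (LP (LK LD1_c4 LD2_c10 LD3_c38)) :=
  Lre_c IH (LK LD1_c8 LD2_c21 LD3_c14) (LK LD1_c4 LD2_c10 LD3_c38) Lrfl Lrfl
theorem f199982 : Led Lsl_dt (LP (LK LD1_c15 LD2_c43 LD3_c25)) = (LP (LK LD1_c8 LD2_c21 LD3_c14)) :=
  Lre_d IH (LK LD1_c15 LD2_c43 LD3_c25) (LK LD1_c8 LD2_c21 LD3_c14) Lrfl Lrfl
theorem f199983 : Led Lsl_ft (LP (LK LD1_c15 LD2_c43 LD3_c25)) = (LP (LK LD1_c16 LD2_c4 LD3_c3)) :=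
  Lgr Lrot48 (Lpr_ff (f199977 IH) (Lpn (LP (LK LD1_c16 LD2_c4 LD3_c3))))
theorem f219222 : Led Lsl_af (LP (LK LD1_c15 LD2_c41 LD3_c31)) = (LP (LK LD1_c16 LD2_c4 LD3_c3)) :=
  Lgr Lrot109 (Lpe (f219213 IH) (Lpr_df (f219215 IH) (Lpe (f199979 IH) (Lpe (f199941 IH) (Lpe (K11.f199908 IH) (Lpe (f199911 IH) (Lpe (f199901 IH) (Lpe (f199982 IH) (Lpr_ft (f199983 IH) (Lpn (LP (LK LD1_c16 LD2_c4 LD3_c3))))))))))))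
theorem f232769 : Led Lsl_at (LP (LK LD1_c16 LD2_c2 LD3_c40)) = (LP (LK LD1_c15 LD2_c43 LD3_c25)) :=
  Lgr Lrot66 (Lpr_ff (f232764 IH) (Lpr_af (f219222 IH) (Lpe (f199983 IH) (Lpn (LP (LK LD1_c15 LD2_c43 LD3_c25))))))
theorem f232773 : Led Lsl_af (LP (LK LD1_c8 LD2_c32 LD3_c43)) = (LP (LK LD1_c8 LD2_c21 LD3_c14)) :=
  Lgr Lrot117 (Lpr_dt (f232716 IH) (Lpr_at (f232769 IH) (Lpr_dt (f199982 IH) (Lpn (LP (LK LD1_c8 LD2_c21 LD3_c14))))))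
theorem f232779 : Led Lsl_et (LP (LK LD1_c8 LD2_c32 LD3_c43)) = (LP (LK LD1_c4 LD2_c16 LD3_c42)) :=
  Lre_e IH (LK LD1_c8 LD2_c32 LD3_c43) (LK LD1_c4 LD2_c16 LD3_c42) Lrfl Lrfl
theorem f199927 : Led Lsl_et (LP (LK LD1_c4 LD2_c10 LD3_c37)) = (LP (LK LD1_c8 LD2_c21 LD3_c14)) :=
  Lre_e IH (LK LD1_c4 LD2_c10 LD3_c37) (LK LD1_c8 LD2_c21 LD3_c14) Lrfl Lrfl
theorem f232780 : Led Lsl_at (LP (LK LD1_c4 LD2_c16 LD3_c42)) = (LP (LK LD1_c4 LD2_c10 LD3_c37)) :=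
  Lgr Lrot80 (Lpe (f232779 IH) (Lpr_af (f232773 IH) (Lpe (f199927 IH) (Lpn (LP (LK LD1_c4 LD2_c10 LD3_c37))))))
theorem f232793 : Led Lsl_ff (LP (LK LD1_c4 LD2_c16 LD3_c42)) = (LP (LK LD1_c2 LD2_c58 LD3_c21)) :=
  Lgr Lrot30 (Lpr_at (f232780 IH) (Lpr_ft (K11.f199928 IH) (Lpe (K12.f42049 IH) (Lpn (LP (LK LD1_c2 LD2_c58 LD3_c21))))))
theorem f232795 : Led Lsl_gt (LP (LK LD1_c6 LD2_c4 LD3_c16)) = (LP (LK LD1_c4 LD2_c10 LD3_c37)) :=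
  Lgr Lrot46 (Lpe (K12.f42091 IH) (Lpe (f232793 IH) (Lpr_at (f232780 IH) (Lpn (LP (LK LD1_c4 LD2_c10 LD3_c37))))))
theorem f232858 : Led Lsl_gt (LP (LK LD1_c4 LD2_c4 LD3_c60)) = (LP (LK LD1_c4 LD2_c0 LD3_c14)) :=
  Lgr Lrot9 (Lpe (K12.f44496 IH) (Lpe (K12.f229485 IH) (Lpr_ct (f229639 IH) (Lpr_gt (f232856 IH) (Lpr_ct (f187007 IH) (Lpe (K11.f187010 IH) (Lpe (K11.f199918 IH) (Lpe (f232795 IH) (Lpr_cf (K12.f200132 IH) (Lpn (LP (LK LD1_c4 LD2_c0 LD3_c14))))))))))))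
theorem f220636 : Led Lsl_df (LP (LK LD1_c2 LD2_c37 LD3_c39)) = (LP (LK LD1_c2 LD2_c5 LD3_c19)) :=
  Lgr Lrot38 (Lpr_dt (K12.f220632 IH) (Lpn (LP (LK LD1_c2 LD2_c5 LD3_c19))))
theorem f220639 : Led Lsl_et (LP (LK LD1_c2 LD2_c5 LD3_c19)) = (LP (LK LD1_c0 LD2_c59 LD3_c42)) :=
  Lre_e IH (LK LD1_c2 LD2_c5 LD3_c19) (LK LD1_c0 LD2_c59 LD3_c42) Lrfl Lrfl
theorem f220724 : Led Lsl_gf (LP (LK LD1_c1 LD2_c1 LD3_c10)) = (LP (LK LD1_c0 LD2_c59 LD3_c42)) :=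
  Lgr Lrot141 (Lpe (K12.f29025 IH) (Lpr_dt (K1.f29029 IH) (Lpr_gt (K1.f27909 IH) (Lpe (K1.f30841 IH) (Lpr_et (K9.f28156 IH) (Lpe (K9.f182167 IH) (Lpr_dt (K12.f172020 IH) (Lpr_gt (K12.f182169 IH) (Lpr_df (f220636 IH) (Lpr_et (f220639 IH) (Lpn (LP (LK LD1_c0 LD2_c59 LD3_c42)))))))))))))
theorem f29013 : Led Lsl_dt (LP (LK LD1_c1 LD2_c1 LD3_c10)) = (LP (LK LD1_c2 LD2_c8 LD3_c3)) :=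
  Lre_d IH (LK LD1_c1 LD2_c1 LD3_c10) (LK LD1_c2 LD2_c8 LD3_c3) Lrfl Lrfl
theorem f192829 : Led Lsl_bt (LP (LK LD1_c4 LD2_c4 LD3_c45)) = (LP (LK LD1_c1 LD2_c59 LD3_c22)) :=
  Lre_b IH (LK LD1_c4 LD2_c4 LD3_c45) (LK LD1_c1 LD2_c59 LD3_c22) Lrfl Lrfl
theorem f211490 : Led Lsl_bt (LP (LK LD1_c1 LD2_c56 LD3_c54)) = (LP (LK LD1_c4 LD2_c0 LD3_c14)) :=
  Lre_b IH (LK LD1_c1 LD2_c56 LD3_c54) (LK LD1_c4 LD2_c0 LD3_c14) Lrfl Lrfl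
theorem f211491 : Led Lsl_df (LP (LK LD1_c4 LD2_c4 LD3_c45)) = (LP (LK LD1_c4 LD2_c0 LD3_c14)) :=
  Lgr Lrot12 (Lpr_bt (f192829 IH) (Lpr_dt (K12.f211486 IH) (Lpr_bt (f211490 IH) (Lpn (LP (LK LD1_c4 LD2_c0 LD3_c14))))))
theorem f197416 : Led Lsl_bt (LP (LK LD1_c0 LD2_c54 LD3_c28)) = (LP (LK LD1_c0 LD2_c55 LD3_c9)) :=
  Lgr Lrot92 (Lpr_ct (K10.f171777 IH) (Lpe (K10.f196296 IH) (Lpe (K1.f6950 IH) (Lpe (K10.f196267 IH) (Lpr_gt (K10.f196294 IH) (Lpr_ct (K10.f101336 IH) (Lpr_gt (K10.f197410 IH) (Lpe (K8.f2966 IH) (Lpr_bt (K10.f2964 IH) (Lpr_gt (K12.f3046 IH) (Lpn (LP (LK LD1_c0 LD2_c55 LD3_c9)))))))))))))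
theorem f211468 : Led Lsl_bt (LP (LK LD1_c1 LD2_c56 LD3_c44)) = (LP (LK LD1_c1 LD2_c0 LD3_c33)) :=
  Lgr Lrot95 (Lpe (K12.f3047 IH) (Lpe (f197416 IH) (Lpr_df (K12.f211466 IH) (Lpn (LP (LK LD1_c1 LD2_c0 LD3_c33))))))
theorem f211479 : Led Lsl_cf (LP (LK LD1_c1 LD2_c59 LD3_c22)) = (LP (LK LD1_c1 LD2_c0 LD3_c33)) :=
  Lgr Lrot11 (Lpr_ct (K12.f211472 IH) (Lpn (LP (LK LD1_c1 LD2_c0 LD3_c33))))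
theorem f211483 : Led Lsl_bt (LP (LK LD1_c1 LD2_c59 LD3_c22)) = (LP (LK LD1_c4 LD2_c4 LD3_c45)) :=
  Lre_b IH (LK LD1_c1 LD2_c59 LD3_c22) (LK LD1_c4 LD2_c4 LD3_c45) Lrfl Lrfl
theorem f227943 : Led Lsl_bt (LP (LK LD1_c4 LD2_c19 LD3_c17)) = (LP (LK LD1_c2 LD2_c7 LD3_c1)) :=
  Lre_b IH (LK LD1_c4 LD2_c19 LD3_c17) (LK LD1_c2 LD2_c7 LD3_c1) Lrfl Lrfl
theorem f227944 : Led Lsl_ct (LP (LK LD1_c4 LD2_c4 LD3_c45)) = (LP (LK LD1_c4 LD2_c19 LD3_c17)) :=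
  Lgr Lrot83 (Lpe (f211483 IH) (Lpr_cf (f211479 IH) (Lpe (f211468 IH) (Lpr_cf (K12.f227940 IH) (Lpe (f227943 IH) (Lpn (LP (LK LD1_c4 LD2_c19 LD3_c17))))))))
theorem f227966 : Led Lsl_bt (LP (LK LD1_c1 LD2_c55 LD3_c17)) = (LP (LK LD1_c3 LD2_c57 LD3_c2)) :=
  Lre_b IH (LK LD1_c1 LD2_c55 LD3_c17) (LK LD1_c3 LD2_c57 LD3_c2) Lrfl Lrfl
theorem f227967 : Led Lsl_dt (LP (LK LD1_c3 LD2_c57 LD3_c2)) = (LP (LK LD1_c4 LD2_c19 LD3_c17)) :=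
  Lgr Lrot79 (Lpe (f227966 IH) (Lpr_df (K12.f227955 IH) (Lpe (f227943 IH) (Lpn (LP (LK LD1_c4 LD2_c19 LD3_c17))))))
theorem f232864 : Led Lsl_gt (LP (LK LD1_c2 LD2_c8 LD3_c3)) = (LP (LK LD1_c3 LD2_c57 LD3_c2)) :=
  Lgr Lrot189 (Lpe (f29013 IH) (Lpr_gf (f220724 IH) (Lpr_ct (K12.f53436 IH) (Lpe (K12.f220610 IH) (Lpr_dt (K12.f44496 IH) (Lpr_gt (f232858 IH) (Lpe (f211491 IH) (Lpr_ct (f227944 IH) (Lpe (f227967 IH) (Lpn (LP (LK LD1_c3 LD2_c57 LD3_c2))))))))))))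
theorem f43211 : Led Lsl_ct (LP (LK LD1_c3 LD2_c57 LD3_c2)) = (LP (LK LD1_c7 LD2_c55 LD3_c43)) :=
  Lre_c IH (LK LD1_c3 LD2_c57 LD3_c2) (LK LD1_c7 LD2_c55 LD3_c43) Lrfl Lrfl
theorem f29018 : Led Lsl_dt (LP (LK LD1_c2 LD2_c8 LD3_c3)) = (LP (LK LD1_c1 LD2_c1 LD3_c10)) :=
  Lre_d IH (LK LD1_c2 LD2_c8 LD3_c3) (LK LD1_c1 LD2_c1 LD3_c10) Lrfl Lrfl
theorem f232895 : Led Lsl_gf (LP (LK LD1_c4 LD2_c18 LD3_c37)) = (LP (LK LD1_c7 LD2_c55 LD3_c43)) :=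
  Lgr Lrot104 (Lpr_ct (K12.f188812 IH) (Lpe (K12.f171483 IH) (Lpe (K10.f188759 IH) (Lpe (K12.f229496 IH) (Lpe (K12.f229476 IH) (Lpe (K12.f229627 IH) (Lpe (f29018 IH) (Lpr_gt (f232864 IH) (Lpr_ct (f43211 IH) (Lpn (LP (LK LD1_c7 LD2_c55 LD3_c43))))))))))))
theorem f219774 : Led Lsl_gt (LP (LK LD1_c4 LD2_c51 LD3_c40)) = (LP (LK LD1_c2 LD2_c37 LD3_c12)) :=
  Lgr Lrot46 (Lpr_gf (K12.f219771 IH) (Lpe (K12.f219142 IH) (Lpe (K12.f42653 IH) (Lpn (LP (LK LD1_c2 LD2_c37 LD3_c12))))))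
theorem f188701 : Led Lsl_dt (LP (LK LD1_c4 LD2_c18 LD3_c35)) = (LP (LK LD1_c2 LD2_c6 LD3_c34)) :=
  Lre_d IH (LK LD1_c4 LD2_c18 LD3_c35) (LK LD1_c2 LD2_c6 LD3_c34) Lrfl Lrfl
theorem f229622 : Led Lsl_gf (LP (LK LD1_c2 LD2_c23 LD3_c40)) = (LP (LK LD1_c4 LD2_c18 LD3_c35)) :=
  Lgr Lrot147 (Lpr_ct (K12.f29811 IH) (Lpr_gt (f219774 IH) (Lpr_ct (K12.f42640 IH) (Lpe (K9.f41536 IH) (Lpr_cf (K9.f42718 IH) (Lpe (K12.f42733 IH) (Lpr_cf (K12.f219280 IH) (Lpr_gf (K12.f229610 IH) (Lpe (f188701 IH) (Lpn (LP (LK LD1_c4 LD2_c18 LD3_c35))))))))))))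
theorem f232898 : Led Lsl_bt (LP (LK LD1_c1 LD2_c8 LD3_c56)) = (LP (LK LD1_c2 LD2_c23 LD3_c40)) :=
  Lre_b IH (LK LD1_c1 LD2_c8 LD3_c56) (LK LD1_c2 LD2_c23 LD3_c40) Lrfl Lrfl
theorem f29812 : Led Lsl_ct (LP (LK LD1_c1 LD2_c8 LD3_c56)) = (LP (LK LD1_c2 LD2_c23 LD3_c41)) :=
  Lre_c IH (LK LD1_c1 LD2_c8 LD3_c56) (LK LD1_c2 LD2_c23 LD3_c41) Lrfl Lrfl
theorem f232899 : Led Lsl_gf (LP (LK LD1_c2 LD2_c8 LD3_c13)) = (LP (LK LD1_c2 LD2_c23 LD3_c41)) :=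
  Lgr Lrot126 (Lpe (K1.f29145 IH) (Lpr_bt (K1.f42069 IH) (Lpr_gt (f232864 IH) (Lpr_ct (f43211 IH) (Lpe (f232895 IH) (Lpe (K12.f188827 IH) (Lpr_bt (K12.f188889 IH) (Lpe (f229622 IH) (Lpe (f232898 IH) (Lpr_ct (f29812 IH) (Lpn (LP (LK LD1_c2 LD2_c23 LD3_c41)))))))))))))
theorem f29146 : Led Lsl_dt (LP (LK LD1_c2 LD2_c8 LD3_c13)) = (LP (LK LD1_c4 LD2_c21 LD3_c26)) :=
  Lre_d IH (LK LD1_c2 LD2_c8 LD3_c13) (LK LD1_c4 LD2_c21 LD3_c26) Lrfl Lrfl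
theorem f1919 : Led Lsl_dt (LP (LK LD1_c0 LD2_c31 LD3_c29)) = (LP (LK LD1_c0 LD2_c13 LD3_c59)) :=
  Lre_d IH (LK LD1_c0 LD2_c31 LD3_c29) (LK LD1_c0 LD2_c13 LD3_c59) Lrfl Lrfl
theorem f271 : Led Lsl_dt (LP (LK LD1_c0 LD2_c31 LD3_c27)) = (LP (LK LD1_c1 LD2_c8 LD3_c49)) :=
  Lre_d IH (LK LD1_c0 LD2_c31 LD3_c27) (LK LD1_c1 LD2_c8 LD3_c49) Lrfl Lrfl
theorem f186925 : Led Lsl_ct (LP (LK LD1_c2 LD2_c23 LD3_c25)) = (LP (LK LD1_c1 LD2_c8 LD3_c49)) :=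
  Lre_c IH (LK LD1_c2 LD2_c23 LD3_c25) (LK LD1_c1 LD2_c8 LD3_c49) Lrfl Lrfl
theorem f232545 : Led Lsl_dt (LP (LK LD1_c4 LD2_c51 LD3_c13)) = (LP (LK LD1_c2 LD2_c23 LD3_c25)) :=
  Lre_d IH (LK LD1_c4 LD2_c51 LD3_c13) (LK LD1_c2 LD2_c23 LD3_c25) Lrfl Lrfl
theorem f232904 : Led Lsl_gt (LP (LK LD1_c4 LD2_c21 LD3_c26)) = (LP (LK LD1_c4 LD2_c51 LD3_c13)) :=
  Lgr Lrot49 (Lpe (f29146 IH) (Lpr_gf (f232899 IH) (Lpe (f29812 IH) (Lpr_gt (K12.f2042 IH) (Lpr_dt (f1919 IH) (Lpr_gt (K9.f270 IH) (Lpr_dt (f271 IH) (Lpe (f186925 IH) (Lpe (f232545 IH) (Lpn (LP (LK LD1_c4 LD2_c51 LD3_c13))))))))))))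
theorem f39143 : Led Lsl_ft (LP (LK LD1_c7 LD2_c55 LD3_c29)) = (LP (LK LD1_c3 LD2_c57 LD3_c10)) :=
  Lre_f IH (LK LD1_c7 LD2_c55 LD3_c29) (LK LD1_c3 LD2_c57 LD3_c10) Lrfl Lrfl
theorem f42910 : Led Lsl_df (LP (LK LD1_c7 LD2_c55 LD3_c29)) = (LP (LK LD1_c7 LD2_c55 LD3_c29)) :=
  Lgr Lrot78 (Lpr_ft (f39143 IH) (Lpr_dt (K9.f42906 IH) (Lpr_ft (K1.f39100 IH) (Lpn (LP (LK LD1_c7 LD2_c55 LD3_c29))))))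
theorem f200056 : Led Lsl_ct (LP (LK LD1_c7 LD2_c55 LD3_c29)) = (LP (LK LD1_c9 LD2_c35 LD3_c7)) :=
  Lgr Lrot59 (Lpr_cf (K11.f200051 IH) (Lpn (LP (LK LD1_c9 LD2_c35 LD3_c7))))
theorem f200058 : Led Lsl_dt (LP (LK LD1_c9 LD2_c35 LD3_c7)) = (LP (LK LD1_c17 LD2_c39 LD3_c0)) :=
  Lre_d IH (LK LD1_c9 LD2_c35 LD3_c7) (LK LD1_c17 LD2_c39 LD3_c0) Lrfl Lrfl
theorem f200059 : Led Lsl_dt (LP (LK LD1_c17 LD2_c39 LD3_c0)) = (LP (LK LD1_c9 LD2_c35 LD3_c7)) :=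
  Lre_d IH (LK LD1_c17 LD2_c39 LD3_c0) (LK LD1_c9 LD2_c35 LD3_c7) Lrfl Lrfl
theorem f39097 : Led Lsl_af (LP (LK LD1_c7 LD2_c55 LD3_c29)) = (LP (LK LD1_c4 LD2_c21 LD3_c28)) :=
  Lgr Lrot0 (Lpr_at (K1.f39095 IH) (Lpn (LP (LK LD1_c4 LD2_c21 LD3_c28))))
theorem f39144 : Led Lsl_ft (LP (LK LD1_c2 LD2_c8 LD3_c34)) = (LP (LK LD1_c4 LD2_c21 LD3_c28)) :=
  Lre_f IH (LK LD1_c2 LD2_c8 LD3_c34) (LK LD1_c4 LD2_c21 LD3_c28) Lrfl Lrfl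
theorem f42908 : Led Lsl_df (LP (LK LD1_c2 LD2_c8 LD3_c34)) = (LP (LK LD1_c2 LD2_c8 LD3_c34)) :=
  Lgr Lrot18 (Lpe (K1.f39102 IH) (Lpr_dt (K9.f42906 IH) (Lpr_at (K1.f39117 IH) (Lpn (LP (LK LD1_c2 LD2_c8 LD3_c34))))))
theorem f39136 : Led Lsl_ct (LP (LK LD1_c2 LD2_c8 LD3_c34)) = (LP (LK LD1_c4 LD2_c22 LD3_c14)) :=
  Lre_c IH (LK LD1_c2 LD2_c8 LD3_c34) (LK LD1_c4 LD2_c22 LD3_c14) Lrfl Lrfl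
theorem f39560 : Led Lsl_dt (LP (LK LD1_c4 LD2_c22 LD3_c14)) = (LP (LK LD1_c8 LD2_c42 LD3_c26)) :=
  Lre_d IH (LK LD1_c4 LD2_c22 LD3_c14) (LK LD1_c8 LD2_c42 LD3_c26) Lrfl Lrfl
theorem f39576 : Led Lsl_ct (LP (LK LD1_c8 LD2_c42 LD3_c26)) = (LP (LK LD1_c16 LD2_c18 LD3_c51)) :=
  Lre_c IH (LK LD1_c8 LD2_c42 LD3_c26) (LK LD1_c16 LD2_c18 LD3_c51) Lrfl Lrfl
theorem f200063 : Led Lsl_ct (LP (LK LD1_c26 LD2_c16 LD3_c43)) = (LP (LK LD1_c17 LD2_c39 LD3_c0)) :=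
  Lgr Lrot53 (Lpe (K9.f39567 IH) (Lpe (f39576 IH) (Lpe (f39560 IH) (Lpe (f39136 IH) (Lpr_df (f42908 IH) (Lpr_ft (f39144 IH) (Lpe (f39097 IH) (Lpr_cf (K11.f200051 IH) (Lpe (f200059 IH) (Lpn (LP (LK LD1_c17 LD2_c39 LD3_c0))))))))))))
theorem f42934 : Led Lsl_at (LP (LK LD1_c26 LD2_c12 LD3_c14)) = (LP (LK LD1_c26 LD2_c16 LD3_c43)) :=
  Lgr Lrot66 (Lpe (K9.f39573 IH) (Lpe (K9.f39594 IH) (Lpr_ff (K9.f42932 IH) (Lpn (LP (LK LD1_c26 LD2_c16 LD3_c43))))))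
theorem f200066 : Led Lsl_ct (LP (LK LD1_c17 LD2_c39 LD3_c0)) = (LP (LK LD1_c26 LD2_c16 LD3_c43)) :=
  Lgr Lrot98 (Lpe (f200058 IH) (Lpe (f200056 IH) (Lpr_df (f42910 IH) (Lpr_cf (K11.f200051 IH) (Lpe (f200059 IH) (Lpe (f200063 IH) (Lpe (K9.f39567 IH) (Lpr_ft (K9.f39573 IH) (Lpr_at (f42934 IH) (Lpn (LP (LK LD1_c26 LD2_c16 LD3_c43))))))))))))
theorem f39590 : Led Lsl_at (LP (LK LD1_c14 LD2_c58 LD3_c3)) = (LP (LK LD1_c8 LD2_c42 LD3_c26)) :=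
  Lgr Lrot100 (Lpr_af (K9.f39581 IH) (Lpn (LP (LK LD1_c8 LD2_c42 LD3_c26))))
theorem f200068 : Led Lsl_ff (LP (LK LD1_c14 LD2_c58 LD3_c3)) = (LP (LK LD1_c17 LD2_c39 LD3_c0)) :=
  Lgr Lrot103 (Lpr_at (f39590 IH) (Lpe (K9.f39149 IH) (Lpe (K9.f39150 IH) (Lpe (f200066 IH) (Lpe (f200058 IH) (Lpe (f200056 IH) (Lpr_df (f42910 IH) (Lpr_cf (K11.f200051 IH) (Lpe (f200059 IH) (Lpn (LP (LK LD1_c17 LD2_c39 LD3_c0))))))))))))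
theorem f39583 : Led Lsl_ft (LP (LK LD1_c8 LD2_c42 LD3_c26)) = (LP (LK LD1_c16 LD2_c14 LD3_c51)) :=
  Lre_f IH (LK LD1_c8 LD2_c42 LD3_c26) (LK LD1_c16 LD2_c14 LD3_c51) Lrfl Lrfl
theorem f200070 : Led Lsl_at (LP (LK LD1_c16 LD2_c14 LD3_c51)) = (LP (LK LD1_c17 LD2_c39 LD3_c0)) :=
  Lgr Lrot66 (Lpe (f39583 IH) (Lpe (f39590 IH) (Lpr_ff (f200068 IH) (Lpn (LP (LK LD1_c17 LD2_c39 LD3_c0))))))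
theorem f200092 : Led Lsl_af (LP (LK LD1_c8 LD2_c40 LD3_c32)) = (LP (LK LD1_c9 LD2_c35 LD3_c7)) :=
  Lgr Lrot117 (Lpr_dt (f39111 IH) (Lpr_at (f200070 IH) (Lpr_dt (f200059 IH) (Lpn (LP (LK LD1_c9 LD2_c35 LD3_c7))))))
theorem f39069 : Led Lsl_et (LP (LK LD1_c8 LD2_c40 LD3_c32)) = (LP (LK LD1_c4 LD2_c21 LD3_c27)) :=
  Lre_e IH (LK LD1_c8 LD2_c40 LD3_c32) (LK LD1_c4 LD2_c21 LD3_c27) Lrfl Lrfl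
theorem f200096 : Led Lsl_at (LP (LK LD1_c4 LD2_c21 LD3_c27)) = (LP (LK LD1_c4 LD2_c51 LD3_c32)) :=
  Lgr Lrot80 (Lpe (f39069 IH) (Lpr_af (f200092 IH) (Lpe (K11.f200060 IH) (Lpn (LP (LK LD1_c4 LD2_c51 LD3_c32))))))
theorem f39073 : Led Lsl_ft (LP (LK LD1_c2 LD2_c8 LD3_c13)) = (LP (LK LD1_c4 LD2_c21 LD3_c27)) :=
  Lre_f IH (LK LD1_c2 LD2_c8 LD3_c13) (LK LD1_c4 LD2_c21 LD3_c27) Lrfl Lrfl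
theorem f200103 : Led Lsl_gt (LP (LK LD1_c2 LD2_c8 LD3_c13)) = (LP (LK LD1_c2 LD2_c23 LD3_c38)) :=
  Lgr Lrot5 (Lpr_ft (f39073 IH) (Lpr_at (f200096 IH) (Lpe (K11.f171039 IH) (Lpn (LP (LK LD1_c2 LD2_c23 LD3_c38))))))
theorem f1931 : Led Lsl_ct (LP (LK LD1_c2 LD2_c23 LD3_c38)) = (LP (LK LD1_c1 LD2_c8 LD3_c55)) :=
  Lre_c IH (LK LD1_c2 LD2_c23 LD3_c38) (LK LD1_c1 LD2_c8 LD3_c55) Lrfl Lrfl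
theorem f1587 : Led Lsl_gt (LP (LK LD1_c1 LD2_c8 LD3_c55)) = (LP (LK LD1_c2 LD2_c23 LD3_c19)) :=
  Lre_g IH (LK LD1_c1 LD2_c8 LD3_c55) (LK LD1_c2 LD2_c23 LD3_c19) Lrfl Lrfl
theorem f1754 : Led Lsl_ft (LP (LK LD1_c2 LD2_c23 LD3_c46)) = (LP (LK LD1_c4 LD2_c52 LD3_c2)) :=
  Lre_f IH (LK LD1_c2 LD2_c23 LD3_c46) (LK LD1_c4 LD2_c52 LD3_c2) Lrfl Lrfl
theorem f1755 : Led Lsl_ct (LP (LK LD1_c4 LD2_c52 LD3_c0)) = (LP (LK LD1_c2 LD2_c23 LD3_c46)) :=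
  Lre_c IH (LK LD1_c4 LD2_c52 LD3_c0) (LK LD1_c2 LD2_c23 LD3_c46) Lrfl Lrfl
theorem f1756 : Led Lsl_ff (LP (LK LD1_c4 LD2_c52 LD3_c0)) = (LP (LK LD1_c4 LD2_c50 LD3_c59)) :=
  Lgr Lrot23 (Lpr_ct (f1755 IH) (Lpr_ft (f1754 IH) (Lpr_ct (K0.f1727 IH) (Lpn (LP (LK LD1_c4 LD2_c50 LD3_c59))))))
theorem f1780 : Led Lsl_ft (LP (LK LD1_c4 LD2_c52 LD3_c0)) = (LP (LK LD1_c4 LD2_c50 LD3_c59)) :=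
  Lgr Lrot48 (Lpr_ff (f1756 IH) (Lpn (LP (LK LD1_c4 LD2_c50 LD3_c59))))
theorem f1787 : Led Lsl_df (LP (LK LD1_c4 LD2_c52 LD3_c0)) = (LP (LK LD1_c4 LD2_c50 LD3_c60)) :=
  Lgr Lrot78 (Lpr_ft (f1780 IH) (Lpr_dt (K0.f1729 IH) (Lpr_ft (K1.f1724 IH) (Lpn (LP (LK LD1_c4 LD2_c50 LD3_c60))))))
theorem f1738 : Led Lsl_ct (LP (LK LD1_c2 LD2_c23 LD3_c46)) = (LP (LK LD1_c4 LD2_c52 LD3_c0)) :=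
  Lre_c IH (LK LD1_c2 LD2_c23 LD3_c46) (LK LD1_c4 LD2_c52 LD3_c0) Lrfl Lrfl
theorem f1794 : Led Lsl_gt (LP (LK LD1_c4 LD2_c51 LD3_c61)) = (LP (LK LD1_c2 LD2_c23 LD3_c46)) :=
  Lre_g IH (LK LD1_c4 LD2_c51 LD3_c61) (LK LD1_c2 LD2_c23 LD3_c46) Lrfl Lrfl
theorem f232919 : Led Lsl_cf (LP (LK LD1_c4 LD2_c51 LD3_c61)) = (LP (LK LD1_c4 LD2_c51 LD3_c13)) :=
  Lgr Lrot169 (Lpr_gt (f1794 IH) (Lpr_ct (f1738 IH) (Lpr_df (f1787 IH) (Lpe (K12.f1798 IH) (Lpe (f1587 IH) (Lpe (f1931 IH) (Lpe (f200103 IH) (Lpe (K1.f29124 IH) (Lpr_gt (f232904 IH) (Lpn (LP (LK LD1_c4 LD2_c51 LD3_c13))))))))))))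
theorem f232944 : Led Lsl_ct (LP (LK LD1_c4 LD2_c51 LD3_c61)) = (LP (LK LD1_c4 LD2_c51 LD3_c13)) :=
  Lgr Lrot59 (Lpr_cf (f232919 IH) (Lpn (LP (LK LD1_c4 LD2_c51 LD3_c13))))
theorem f1737 : Led Lsl_at (LP (LK LD1_c4 LD2_c50 LD3_c59)) = (LP (LK LD1_c2 LD2_c23 LD3_c46)) :=
  Lre_a IH (LK LD1_c4 LD2_c50 LD3_c59) (LK LD1_c2 LD2_c23 LD3_c46) Lrfl Lrfl
theorem f1795 : Led Lsl_gt (LP (LK LD1_c4 LD2_c52 LD3_c0)) = (LP (LK LD1_c4 LD2_c51 LD3_c61)) :=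
  Lgr Lrot5 (Lpr_ft (f1780 IH) (Lpr_at (f1737 IH) (Lpe (f1794 IH) (Lpn (LP (LK LD1_c4 LD2_c51 LD3_c61))))))
theorem f1771 : Led Lsl_ft (LP (LK LD1_c4 LD2_c50 LD3_c60)) = (LP (LK LD1_c2 LD2_c23 LD3_c18)) :=
  Lre_f IH (LK LD1_c4 LD2_c50 LD3_c60) (LK LD1_c2 LD2_c23 LD3_c18) Lrfl Lrfl
theorem f1772 : Led Lsl_dt (LP (LK LD1_c4 LD2_c52 LD3_c0)) = (LP (LK LD1_c4 LD2_c50 LD3_c60)) :=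
  Lgr Lrot60 (Lpr_ff (f1756 IH) (Lpe (K0.f1720 IH) (Lpe (f1771 IH) (Lpn (LP (LK LD1_c4 LD2_c50 LD3_c60))))))
theorem f1801 : Led Lsl_gt (LP (LK LD1_c4 LD2_c50 LD3_c60)) = (LP (LK LD1_c2 LD2_c23 LD3_c44)) :=
  Lre_g IH (LK LD1_c4 LD2_c50 LD3_c60) (LK LD1_c2 LD2_c23 LD3_c44) Lrfl Lrfl
theorem f39081 : Led Lsl_at (LP (LK LD1_c0 LD2_c54 LD3_c20)) = (LP (LK LD1_c0 LD2_c27 LD3_c60)) :=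
  Lgr Lrot100 (Lpr_af (K1.f39076 IH) (Lpn (LP (LK LD1_c0 LD2_c27 LD3_c60))))
theorem f42038 : Led Lsl_af (LP (LK LD1_c1 LD2_c24 LD3_c51)) = (LP (LK LD1_c1 LD2_c1 LD3_c10)) :=
  Lgr Lrot36 (Lpr_bt (K0.f29010 IH) (Lpr_at (K1.f42034 IH) (Lpr_bt (K10.f29066 IH) (Lpr_at (f39081 IH) (Lpr_bt (K12.f29021 IH) (Lpn (LP (LK LD1_c1 LD2_c1 LD3_c10))))))))
theorem f232254 : Led Lsl_gt (LP (LK LD1_c2 LD2_c5 LD3_c37)) = (LP (LK LD1_c1 LD2_c1 LD3_c19)) :=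
  Lgr Lrot5 (Lpr_ft (f232246 IH) (Lpe (f42038 IH) (Lpe (K10.f187071 IH) (Lpn (LP (LK LD1_c1 LD2_c1 LD3_c19))))))
theorem f187070 : Led Lsl_dt (LP (LK LD1_c2 LD2_c5 LD3_c37)) = (LP (LK LD1_c4 LD2_c16 LD3_c41)) :=
  Lre_d IH (LK LD1_c2 LD2_c5 LD3_c37) (LK LD1_c4 LD2_c16 LD3_c41) Lrfl Lrfl
theorem f53775 : Led Lsl_ct (LP (LK LD1_c4 LD2_c6 LD3_c10)) = (LP (LK LD1_c2 LD2_c0 LD3_c23)) :=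
  Lre_c IH (LK LD1_c4 LD2_c6 LD3_c10) (LK LD1_c2 LD2_c0 LD3_c23) Lrfl Lrfl
theorem f41989 : Led Lsl_gt (LP (LK LD1_c2 LD2_c37 LD3_c11)) = (LP (LK LD1_c5 LD2_c21 LD3_c11)) :=
  Lre_g IH (LK LD1_c2 LD2_c37 LD3_c11) (LK LD1_c5 LD2_c21 LD3_c11) Lrfl Lrfl
theorem f219133 : Led Lsl_af (LP (LK LD1_c4 LD2_c17 LD3_c12)) = (LP (LK LD1_c4 LD2_c9 LD3_c60)) :=
  Lgr Lrot0 (Lpr_at (K12.f219129 IH) (Lpn (LP (LK LD1_c4 LD2_c9 LD3_c60))))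
theorem f219164 : Led Lsl_gt (LP (LK LD1_c5 LD2_c21 LD3_c11)) = (LP (LK LD1_c4 LD2_c17 LD3_c12)) :=
  Lgr Lrot46 (Lpe (f41989 IH) (Lpr_ft (K12.f219158 IH) (Lpe (f219133 IH) (Lpn (LP (LK LD1_c4 LD2_c17 LD3_c12))))))
theorem f165194 : Led Lsl_et (LP (LK LD1_c1 LD2_c9 LD3_c29)) = (LP (LK LD1_c0 LD2_c33 LD3_c19)) :=
  Lgr Lrot87 (Lpr_ef (K11.f165189 IH) (Lpn (LP (LK LD1_c0 LD2_c33 LD3_c19))))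
theorem f167423 : Led Lsl_df (LP (LK LD1_c1 LD2_c0 LD3_c9)) = (LP (LK LD1_c1 LD2_c9 LD3_c29)) :=
  Lgr Lrot12 (Lpr_bt (K12.f53379 IH) (Lpr_dt (K9.f167309 IH) (Lpr_bt (K11.f3088 IH) (Lpn (LP (LK LD1_c1 LD2_c9 LD3_c29))))))
theorem f192368 : Led Lsl_gf (LP (LK LD1_c1 LD2_c15 LD3_c35)) = (LP (LK LD1_c1 LD2_c0 LD3_c9)) :=
  Lgr Lrot145 (Lpe (K1.f41967 IH) (Lpr_et (K9.f41886 IH) (Lpe (K1.f42130 IH) (Lpr_dt (K1.f41296 IH) (Lpr_gt (K1.f44306 IH) (Lpr_df (K1.f44587 IH) (Lpr_et (K1.f41863 IH) (Lpr_gt (K10.f192357 IH) (Lpe (f165194 IH) (Lpe (f167423 IH) (Lpn (LP (LK LD1_c1 LD2_c0 LD3_c9)))))))))))))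
theorem f167527 : Led Lsl_bt (LP (LK LD1_c0 LD2_c27 LD3_c20)) = (LP (LK LD1_c1 LD2_c0 LD3_c9)) :=
  Lre_b IH (LK LD1_c0 LD2_c27 LD3_c20) (LK LD1_c1 LD2_c0 LD3_c9) Lrfl Lrfl
theorem f1571 : Led Lsl_gt (LP (LK LD1_c2 LD2_c23 LD3_c16)) = (LP (LK LD1_c1 LD2_c8 LD3_c58)) :=
  Lre_g IH (LK LD1_c2 LD2_c23 LD3_c16) (LK LD1_c1 LD2_c8 LD3_c58) Lrfl Lrfl
theorem f1735 : Led Lsl_bt (LP (LK LD1_c4 LD2_c50 LD3_c53)) = (LP (LK LD1_c2 LD2_c23 LD3_c16)) :=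
  Lre_b IH (LK LD1_c4 LD2_c50 LD3_c53) (LK LD1_c2 LD2_c23 LD3_c16) Lrfl Lrfl
theorem f192370 : Led Lsl_cf (LP (LK LD1_c5 LD2_c21 LD3_c11)) = (LP (LK LD1_c4 LD2_c50 LD3_c53)) :=
  Lgr Lrot163 (Lpe (f41989 IH) (Lpe (K9.f41928 IH) (Lpr_gf (f192368 IH) (Lpe (f167527 IH) (Lpr_ct (K9.f53376 IH) (Lpr_gf (K9.f170069 IH) (Lpe (K0.f280 IH) (Lpr_bt (K9.f2265 IH) (Lpe (f1571 IH) (Lpe (f1735 IH) (Lpn (LP (LK LD1_c4 LD2_c50 LD3_c53)))))))))))))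
theorem f48035 : Led Lsl_dt (LP (LK LD1_c4 LD2_c6 LD3_c8)) = (LP (LK LD1_c2 LD2_c0 LD3_c21)) :=
  Lre_d IH (LK LD1_c4 LD2_c6 LD3_c8) (LK LD1_c2 LD2_c0 LD3_c21) Lrfl Lrfl
theorem f219166 : Led Lsl_gf (LP (LK LD1_c4 LD2_c50 LD3_c53)) = (LP (LK LD1_c4 LD2_c6 LD3_c8)) :=
  Lgr Lrot147 (Lpe (f192370 IH) (Lpr_gt (f219164 IH) (Lpr_ct (K11.f199799 IH) (Lpe (K11.f199769 IH) (Lpe (K12.f199762 IH) (Lpe (K11.f173834 IH) (Lpr_cf (K11.f199586 IH) (Lpe (K12.f211424 IH) (Lpe (f48035 IH) (Lpn (LP (LK LD1_c4 LD2_c6 LD3_c8))))))))))))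
theorem f199824 : Led Lsl_bf (LP (LK LD1_c1 LD2_c55 LD3_c20)) = (LP (LK LD1_c2 LD2_c5 LD3_c58)) :=
  Lgr Lrot24 (Lpr_bt (K11.f199822 IH) (Lpn (LP (LK LD1_c2 LD2_c5 LD3_c58))))
theorem f216731 : Led Lsl_ct (LP (LK LD1_c2 LD2_c8 LD3_c26)) = (LP (LK LD1_c4 LD2_c21 LD3_c54)) :=
  Lre_c IH (LK LD1_c2 LD2_c8 LD3_c26) (LK LD1_c4 LD2_c21 LD3_c54) Lrfl Lrfl
theorem f219170 : Led Lsl_gf (LP (LK LD1_c4 LD2_c6 LD3_c10)) = (LP (LK LD1_c4 LD2_c21 LD3_c54)) :=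
  Lgr Lrot126 (Lpe (K12.f53771 IH) (Lpr_bt (K10.f48033 IH) (Lpe (f219166 IH) (Lpe (f192370 IH) (Lpr_gt (f219164 IH) (Lpe (K11.f199770 IH) (Lpe (f199824 IH) (Lpr_gt (K12.f216806 IH) (Lpe (K12.f216736 IH) (Lpr_ct (f216731 IH) (Lpn (LP (LK LD1_c4 LD2_c21 LD3_c54)))))))))))))
theorem f232257 : Led Lsl_gt (LP (LK LD1_c4 LD2_c16 LD3_c41)) = (LP (LK LD1_c2 LD2_c8 LD3_c26)) :=
  Lgr Lrot9 (Lpe (f187070 IH) (Lpr_gt (f232254 IH) (Lpr_ct (K12.f211415 IH) (Lpe (K12.f211422 IH) (Lpr_ct (K10.f53810 IH) (Lpe (K12.f53774 IH) (Lpe (f53775 IH) (Lpr_gf (f219170 IH) (Lpe (f216731 IH) (Lpn (LP (LK LD1_c2 LD2_c8 LD3_c26))))))))))))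
theorem f187068 : Led Lsl_dt (LP (LK LD1_c4 LD2_c16 LD3_c41)) = (LP (LK LD1_c2 LD2_c5 LD3_c37)) :=
  Lre_d IH (LK LD1_c4 LD2_c16 LD3_c41) (LK LD1_c2 LD2_c5 LD3_c37) Lrfl Lrfl
theorem f232236 : Led Lsl_bf (LP (LK LD1_c4 LD2_c16 LD3_c41)) = (LP (LK LD1_c2 LD2_c8 LD3_c14)) :=
  Lgr Lrot93 (Lpr_dt (f187068 IH) (Lpr_bt (f232205 IH) (Lpr_dt (K1.f29137 IH) (Lpn (LP (LK LD1_c2 LD2_c8 LD3_c14))))))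
theorem f189240 : Led Lsl_bt (LP (LK LD1_c2 LD2_c23 LD3_c16)) = (LP (LK LD1_c4 LD2_c50 LD3_c53)) :=
  Lre_b IH (LK LD1_c2 LD2_c23 LD3_c16) (LK LD1_c4 LD2_c50 LD3_c53) Lrfl Lrfl
theorem f30823 : Led Lsl_ct (LP (LK LD1_c2 LD2_c23 LD3_c16)) = (LP (LK LD1_c4 LD2_c50 LD3_c54)) :=
  Lre_c IH (LK LD1_c2 LD2_c23 LD3_c16) (LK LD1_c4 LD2_c50 LD3_c54) Lrfl Lrfl
theorem f232308 : Led Lsl_gf (LP (LK LD1_c4 LD2_c21 LD3_c27)) = (LP (LK LD1_c4 LD2_c50 LD3_c54)) :=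
  Lgr Lrot126 (Lpe (K1.f29138 IH) (Lpe (f232236 IH) (Lpr_gt (f232257 IH) (Lpr_ct (f216731 IH) (Lpe (f219170 IH) (Lpe (K12.f53771 IH) (Lpr_bt (K10.f48033 IH) (Lpe (f219166 IH) (Lpe (f189240 IH) (Lpr_ct (f30823 IH) (Lpn (LP (LK LD1_c4 LD2_c50 LD3_c54)))))))))))))
theorem f200098 : Led Lsl_af (LP (LK LD1_c4 LD2_c21 LD3_c27)) = (LP (LK LD1_c4 LD2_c51 LD3_c32)) :=
  Lgr Lrot0 (Lpr_at (f200096 IH) (Lpn (LP (LK LD1_c4 LD2_c51 LD3_c32))))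
theorem f29105 : Led Lsl_bt (LP (LK LD1_c7 LD2_c55 LD3_c27)) = (LP (LK LD1_c3 LD2_c56 LD3_c54)) :=
  Lre_b IH (LK LD1_c7 LD2_c55 LD3_c27) (LK LD1_c3 LD2_c56 LD3_c54) Lrfl Lrfl
theorem f200022 : Led Lsl_bt (LP (LK LD1_c4 LD2_c51 LD3_c32)) = (LP (LK LD1_c9 LD2_c35 LD3_c6)) :=
  Lre_b IH (LK LD1_c4 LD2_c51 LD3_c32) (LK LD1_c9 LD2_c35 LD3_c6) Lrfl Lrfl
theorem f200023 : Led Lsl_ft (LP (LK LD1_c3 LD2_c56 LD3_c54)) = (LP (LK LD1_c4 LD2_c51 LD3_c32)) :=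
  Lgr Lrot75 (Lpe (f29105 IH) (Lpr_ff (K11.f200014 IH) (Lpe (f200022 IH) (Lpn (LP (LK LD1_c4 LD2_c51 LD3_c32))))))
theorem f232325 : Led Lsl_gt (LP (LK LD1_c3 LD2_c56 LD3_c54)) = (LP (LK LD1_c4 LD2_c50 LD3_c54)) :=
  Lgr Lrot5 (Lpr_ft (f200023 IH) (Lpe (f200098 IH) (Lpr_gf (f232308 IH) (Lpn (LP (LK LD1_c4 LD2_c50 LD3_c54))))))
theorem f28795 : Led Lsl_gt (LP (LK LD1_c3 LD2_c56 LD3_c53)) = (LP (LK LD1_c1 LD2_c55 LD3_c10)) :=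
  Lre_g IH (LK LD1_c3 LD2_c56 LD3_c53) (LK LD1_c1 LD2_c55 LD3_c10) Lrfl Lrfl
theorem f219185 : Led Lsl_gt (LP (LK LD1_c4 LD2_c50 LD3_c53)) = (LP (LK LD1_c5 LD2_c29 LD3_c30)) :=
  Lgr Lrot46 (Lpr_gf (f219166 IH) (Lpe (K12.f188855 IH) (Lpr_at (K12.f218087 IH) (Lpn (LP (LK LD1_c5 LD2_c29 LD3_c30))))))
theorem f218096 : Led Lsl_bt (LP (LK LD1_c2 LD2_c41 LD3_c2)) = (LP (LK LD1_c5 LD2_c29 LD3_c30)) :=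
  Lre_b IH (LK LD1_c2 LD2_c41 LD3_c2) (LK LD1_c5 LD2_c29 LD3_c30) Lrfl Lrfl
theorem f212871 : Led Lsl_ct (LP (LK LD1_c2 LD2_c41 LD3_c2)) = (LP (LK LD1_c5 LD2_c29 LD3_c31)) :=
  Lre_c IH (LK LD1_c2 LD2_c41 LD3_c2) (LK LD1_c5 LD2_c29 LD3_c31) Lrfl Lrfl
theorem f212851 : Led Lsl_dt (LP (LK LD1_c1 LD2_c18 LD3_c9)) = (LP (LK LD1_c2 LD2_c43 LD3_c31)) :=
  Lre_d IH (LK LD1_c1 LD2_c18 LD3_c9) (LK LD1_c2 LD2_c43 LD3_c31) Lrfl Lrfl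
theorem f216980 : Led Lsl_cf (LP (LK LD1_c10 LD2_c24 LD3_c1)) = (LP (LK LD1_c5 LD2_c30 LD3_c4)) :=
  Lgr Lrot116 (Lpr_dt (K12.f44942 IH) (Lpr_ct (K12.f44941 IH) (Lpr_dt (K10.f44922 IH) (Lpe (K10.f44933 IH) (Lpr_af (K9.f53608 IH) (Lpr_ff (K12.f212855 IH) (Lpr_dt (f212851 IH) (Lpr_ct (K12.f213041 IH) (Lpr_dt (K12.f216964 IH) (Lpn (LP (LK LD1_c5 LD2_c30 LD3_c4))))))))))))
theorem f217126 : Led Lsl_ct (LP (LK LD1_c10 LD2_c24 LD3_c1)) = (LP (LK LD1_c5 LD2_c30 LD3_c4)) :=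
  Lgr Lrot59 (Lpr_cf (f216980 IH) (Lpn (LP (LK LD1_c5 LD2_c30 LD3_c4))))
theorem f49335 : Led Lsl_gt (LP (LK LD1_c5 LD2_c16 LD3_c59)) = (LP (LK LD1_c10 LD2_c23 LD3_c33)) :=
  Lre_g IH (LK LD1_c5 LD2_c16 LD3_c59) (LK LD1_c10 LD2_c23 LD3_c33) Lrfl Lrfl
theorem f222974 : Led Lsl_cf (LP (LK LD1_c8 LD2_c16 LD3_c33)) = (LP (LK LD1_c10 LD2_c23 LD3_c33)) :=
  Lgr Lrot169 (Lpr_gt (K12.f222970 IH) (Lpr_ct (f217126 IH) (Lpe (K12.f216964 IH) (Lpe (K12.f213041 IH) (Lpr_gf (K12.f213032 IH) (Lpr_cf (K12.f216922 IH) (Lpe (K12.f49352 IH) (Lpe (K12.f49318 IH) (Lpr_gt (f49335 IH) (Lpn (LP (LK LD1_c10 LD2_c23 LD3_c33))))))))))))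
theorem f222980 : Led Lsl_ct (LP (LK LD1_c8 LD2_c16 LD3_c33)) = (LP (LK LD1_c10 LD2_c23 LD3_c33)) :=
  Lgr Lrot59 (Lpr_cf (f222974 IH) (Lpn (LP (LK LD1_c10 LD2_c23 LD3_c33))))
theorem f213052 : Led Lsl_dt (LP (LK LD1_c10 LD2_c50 LD3_c19)) = (LP (LK LD1_c5 LD2_c29 LD3_c31)) :=
  Lre_d IH (LK LD1_c10 LD2_c50 LD3_c19) (LK LD1_c5 LD2_c29 LD3_c31) Lrfl Lrfl
theorem f50443 : Led Lsl_at (LP (LK LD1_c4 LD2_c9 LD3_c54)) = (LP (LK LD1_c8 LD2_c6 LD3_c29)) :=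
  Lre_a IH (LK LD1_c4 LD2_c9 LD3_c54) (LK LD1_c8 LD2_c6 LD3_c29) Lrfl Lrfl
theorem f50499 : Led Lsl_gf (LP (LK LD1_c8 LD2_c6 LD3_c29)) = (LP (LK LD1_c10 LD2_c23 LD3_c33)) :=
  Lgr Lrot76 (Lpe (f50443 IH) (Lpr_ff (K12.f50421 IH) (Lpr_gt (f49335 IH) (Lpn (LP (LK LD1_c10 LD2_c23 LD3_c33))))))
theorem f894 : Led Lsl_dt (LP (LK LD1_c2 LD2_c1 LD3_c34)) = (LP (LK LD1_c4 LD2_c8 LD3_c25)) :=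
  Lre_d IH (LK LD1_c2 LD2_c1 LD3_c34) (LK LD1_c4 LD2_c8 LD3_c25) Lrfl Lrfl
theorem f886 : Led Lsl_ct (LP (LK LD1_c0 LD2_c57 LD3_c49)) = (LP (LK LD1_c2 LD2_c1 LD3_c34)) :=
  Lre_c IH (LK LD1_c0 LD2_c57 LD3_c49) (LK LD1_c2 LD2_c1 LD3_c34) Lrfl Lrfl
theorem f47549 : Led Lsl_ct (LP (LK LD1_c4 LD2_c8 LD3_c20)) = (LP (LK LD1_c2 LD2_c1 LD3_c33)) :=
  Lre_c IH (LK LD1_c4 LD2_c8 LD3_c20) (LK LD1_c2 LD2_c1 LD3_c33) Lrfl Lrfl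
theorem f223028 : Led Lsl_gt (LP (LK LD1_c5 LD2_c29 LD3_c31)) = (LP (LK LD1_c4 LD2_c8 LD3_c20)) :=
  Lgr Lrot9 (Lpe (f213052 IH) (Lpr_gt (K12.f222252 IH) (Lpr_ct (f222980 IH) (Lpe (f50499 IH) (Lpr_ct (K9.f50137 IH) (Lpe (f894 IH) (Lpe (f886 IH) (Lpe (K10.f1329 IH) (Lpe (f47549 IH) (Lpn (LP (LK LD1_c4 LD2_c8 LD3_c20))))))))))))
theorem f47540 : Led Lsl_ct (LP (LK LD1_c2 LD2_c1 LD3_c33)) = (LP (LK LD1_c4 LD2_c8 LD3_c20)) :=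
  Lre_c IH (LK LD1_c2 LD2_c1 LD3_c33) (LK LD1_c4 LD2_c8 LD3_c20) Lrfl Lrfl
theorem f232339 : Led Lsl_bf (LP (LK LD1_c3 LD2_c56 LD3_c53)) = (LP (LK LD1_c2 LD2_c1 LD3_c33)) :=
  Lgr Lrot165 (Lpr_gt (f28795 IH) (Lpr_ct (K1.f29078 IH) (Lpr_gt (f232325 IH) (Lpe (f30823 IH) (Lpr_bt (f189240 IH) (Lpr_gt (f219185 IH) (Lpe (f218096 IH) (Lpr_ct (f212871 IH) (Lpr_gt (f223028 IH) (Lpe (f47540 IH) (Lpn (LP (LK LD1_c2 LD2_c1 LD3_c33)))))))))))))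
theorem f232345 : Led Lsl_et (LP (LK LD1_c3 LD2_c56 LD3_c53)) = (LP (LK LD1_c7 LD2_c55 LD3_c26)) :=
  Lre_e IH (LK LD1_c3 LD2_c56 LD3_c53) (LK LD1_c7 LD2_c55 LD3_c26) Lrfl Lrfl
theorem f1330 : Led Lsl_et (LP (LK LD1_c4 LD2_c8 LD3_c21)) = (LP (LK LD1_c2 LD2_c1 LD3_c33)) :=
  Lre_e IH (LK LD1_c4 LD2_c8 LD3_c21) (LK LD1_c2 LD2_c1 LD3_c33) Lrfl Lrfl
theorem f232346 : Led Lsl_bt (LP (LK LD1_c7 LD2_c55 LD3_c26)) = (LP (LK LD1_c4 LD2_c8 LD3_c21)) :=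
  Lgr Lrot119 (Lpe (f232345 IH) (Lpr_bf (f232339 IH) (Lpe (f1330 IH) (Lpn (LP (LK LD1_c4 LD2_c8 LD3_c21))))))
theorem f232352 : Led Lsl_ft (LP (LK LD1_c14 LD2_c56 LD3_c59)) = (LP (LK LD1_c7 LD2_c55 LD3_c26)) :=
  Lre_f IH (LK LD1_c14 LD2_c56 LD3_c59) (LK LD1_c7 LD2_c55 LD3_c26) Lrfl Lrfl
theorem f47697 : Led Lsl_ft (LP (LK LD1_c4 LD2_c8 LD3_c21)) = (LP (LK LD1_c8 LD2_c16 LD3_c47)) :=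
  Lre_f IH (LK LD1_c4 LD2_c8 LD3_c21) (LK LD1_c8 LD2_c16 LD3_c47) Lrfl Lrfl
theorem f232353 : Led Lsl_bf (LP (LK LD1_c14 LD2_c56 LD3_c59)) = (LP (LK LD1_c8 LD2_c16 LD3_c47)) :=
  Lgr Lrot61 (Lpr_ft (f232352 IH) (Lpr_bt (f232346 IH) (Lpr_ft (f47697 IH) (Lpn (LP (LK LD1_c8 LD2_c16 LD3_c47))))))
theorem f47544 : Led Lsl_et (LP (LK LD1_c0 LD2_c34 LD3_c27)) = (LP (LK LD1_c1 LD2_c14 LD3_c18)) :=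
  Lre_e IH (LK LD1_c0 LD2_c34 LD3_c27) (LK LD1_c1 LD2_c14 LD3_c18) Lrfl Lrfl
theorem f47545 : Led Lsl_et (LP (LK LD1_c2 LD2_c34 LD3_c34)) = (LP (LK LD1_c1 LD2_c14 LD3_c17)) :=
  Lre_e IH (LK LD1_c2 LD2_c34 LD3_c34) (LK LD1_c1 LD2_c14 LD3_c17) Lrfl Lrfl
theorem f47546 : Led Lsl_et (LP (LK LD1_c2 LD2_c1 LD3_c33)) = (LP (LK LD1_c4 LD2_c8 LD3_c21)) :=
  Lre_e IH (LK LD1_c2 LD2_c1 LD3_c33) (LK LD1_c4 LD2_c8 LD3_c21) Lrfl Lrfl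
theorem f47547 : Led Lsl_df (LP (LK LD1_c2 LD2_c34 LD3_c34)) = (LP (LK LD1_c4 LD2_c8 LD3_c21)) :=
  Lgr Lrot70 (Lpr_et (f47545 IH) (Lpr_dt (K10.f45414 IH) (Lpr_et (f47544 IH) (Lpr_dt (K10.f47536 IH) (Lpr_et (f47546 IH) (Lpn (LP (LK LD1_c4 LD2_c8 LD3_c21))))))))
theorem f47693 : Led Lsl_ft (LP (LK LD1_c2 LD2_c34 LD3_c34)) = (LP (LK LD1_c5 LD2_c15 LD3_c29)) :=
  Lre_f IH (LK LD1_c2 LD2_c34 LD3_c34) (LK LD1_c5 LD2_c15 LD3_c29) Lrfl Lrfl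
theorem f47694 : Led Lsl_ft (LP (LK LD1_c8 LD2_c16 LD3_c47)) = (LP (LK LD1_c4 LD2_c8 LD3_c21)) :=
  Lre_f IH (LK LD1_c8 LD2_c16 LD3_c47) (LK LD1_c4 LD2_c8 LD3_c21) Lrfl Lrfl
theorem f47695 : Led Lsl_dt (LP (LK LD1_c5 LD2_c15 LD3_c29)) = (LP (LK LD1_c8 LD2_c16 LD3_c47)) :=
  Lgr Lrot60 (Lpe (f47693 IH) (Lpr_df (f47547 IH) (Lpe (f47694 IH) (Lpn (LP (LK LD1_c8 LD2_c16 LD3_c47))))))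
theorem f47704 : Led Lsl_bt (LP (LK LD1_c10 LD2_c19 LD3_c55)) = (LP (LK LD1_c5 LD2_c15 LD3_c29)) :=
  Lre_b IH (LK LD1_c10 LD2_c19 LD3_c55) (LK LD1_c5 LD2_c15 LD3_c29) Lrfl Lrfl
theorem f232358 : Led Lsl_dt (LP (LK LD1_c14 LD2_c56 LD3_c59)) = (LP (LK LD1_c10 LD2_c19 LD3_c55)) :=
  Lgr Lrot79 (Lpr_bf (f232353 IH) (Lpe (f47695 IH) (Lpe (f47704 IH) (Lpn (LP (LK LD1_c10 LD2_c19 LD3_c55))))))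
theorem f232360 : Led Lsl_df (LP (LK LD1_c14 LD2_c56 LD3_c59)) = (LP (LK LD1_c10 LD2_c19 LD3_c55)) :=
  Lgr Lrot38 (Lpr_dt (f232358 IH) (Lpn (LP (LK LD1_c10 LD2_c19 LD3_c55))))
theorem f232364 : Led Lsl_ft (LP (LK LD1_c5 LD2_c15 LD3_c13)) = (LP (LK LD1_c10 LD2_c19 LD3_c55)) :=
  Lre_f IH (LK LD1_c5 LD2_c15 LD3_c13) (LK LD1_c10 LD2_c19 LD3_c55) Lrfl Lrfl
theorem f232365 : Led Lsl_dt (LP (LK LD1_c7 LD2_c55 LD3_c26)) = (LP (LK LD1_c5 LD2_c15 LD3_c13)) :=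
  Lgr Lrot60 (Lpe (f232352 IH) (Lpr_df (f232360 IH) (Lpe (f232364 IH) (Lpn (LP (LK LD1_c5 LD2_c15 LD3_c13))))))
theorem f232367 : Led Lsl_et (LP (LK LD1_c5 LD2_c15 LD3_c13)) = (LP (LK LD1_c2 LD2_c34 LD3_c27)) :=
  Lre_e IH (LK LD1_c5 LD2_c15 LD3_c13) (LK LD1_c2 LD2_c34 LD3_c27) Lrfl Lrfl
theorem f186845 : Led Lsl_dt (LP (LK LD1_c2 LD2_c34 LD3_c27)) = (LP (LK LD1_c1 LD2_c14 LD3_c15)) :=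
  Lre_d IH (LK LD1_c2 LD2_c34 LD3_c27) (LK LD1_c1 LD2_c14 LD3_c15) Lrfl Lrfl
theorem f186851 : Led Lsl_et (LP (LK LD1_c1 LD2_c14 LD3_c15)) = (LP (LK LD1_c2 LD2_c34 LD3_c28)) :=
  Lre_e IH (LK LD1_c1 LD2_c14 LD3_c15) (LK LD1_c2 LD2_c34 LD3_c28) Lrfl Lrfl
theorem f232368 : Led Lsl_df (LP (LK LD1_c3 LD2_c56 LD3_c53)) = (LP (LK LD1_c2 LD2_c34 LD3_c28)) :=
  Lgr Lrot70 (Lpr_et (f232345 IH) (Lpr_dt (f232365 IH) (Lpr_et (f232367 IH) (Lpr_dt (f186845 IH) (Lpr_et (f186851 IH) (Lpn (LP (LK LD1_c2 LD2_c34 LD3_c28))))))))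
theorem f186847 : Led Lsl_et (LP (LK LD1_c2 LD2_c34 LD3_c28)) = (LP (LK LD1_c1 LD2_c14 LD3_c15)) :=
  Lre_e IH (LK LD1_c2 LD2_c34 LD3_c28) (LK LD1_c1 LD2_c14 LD3_c15) Lrfl Lrfl
theorem f232392 : Led Lsl_gf (LP (LK LD1_c3 LD2_c56 LD3_c53)) = (LP (LK LD1_c2 LD2_c8 LD3_c14)) :=
  Lgr Lrot134 (Lpr_df (f232368 IH) (Lpr_et (f186847 IH) (Lpr_gt (K10.f186853 IH) (Lpr_ef (K1.f46054 IH) (Lpr_dt (K1.f45896 IH) (Lpr_gt (K10.f46540 IH) (Lpe (K10.f186888 IH) (Lpr_et (K10.f186890 IH) (Lpr_gt (K10.f186920 IH) (Lpr_dt (K1.f29137 IH) (Lpn (LP (LK LD1_c2 LD2_c8 LD3_c14)))))))))))))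
theorem f1918 : Led Lsl_ct (LP (LK LD1_c1 LD2_c8 LD3_c57)) = (LP (LK LD1_c0 LD2_c31 LD3_c29)) :=
  Lre_c IH (LK LD1_c1 LD2_c8 LD3_c57) (LK LD1_c0 LD2_c31 LD3_c29) Lrfl Lrfl
theorem f1928 : Led Lsl_gt (LP (LK LD1_c2 LD2_c23 LD3_c44)) = (LP (LK LD1_c1 LD2_c8 LD3_c57)) :=
  Lre_g IH (LK LD1_c2 LD2_c23 LD3_c44) (LK LD1_c1 LD2_c8 LD3_c57) Lrfl Lrfl
theorem f232396 : Led Lsl_ct (LP (LK LD1_c3 LD2_c56 LD3_c53)) = (LP (LK LD1_c2 LD2_c23 LD3_c44)) :=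
  Lgr Lrot152 (Lpr_gf (f232392 IH) (Lpe (K1.f29137 IH) (Lpe (f232156 IH) (Lpr_ct (K9.f2090 IH) (Lpr_gt (K9.f2106 IH) (Lpr_ct (K9.f1700 IH) (Lpe (f1919 IH) (Lpe (f1918 IH) (Lpe (f1928 IH) (Lpn (LP (LK LD1_c2 LD2_c23 LD3_c44))))))))))))
theorem f232512 : Led Lsl_cf (LP (LK LD1_c3 LD2_c56 LD3_c53)) = (LP (LK LD1_c2 LD2_c23 LD3_c44)) :=
  Lgr Lrot11 (Lpr_ct (f232396 IH) (Lpn (LP (LK LD1_c2 LD2_c23 LD3_c44))))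
theorem f29126 : Led Lsl_dt (LP (LK LD1_c3 LD2_c56 LD3_c54)) = (LP (LK LD1_c7 LD2_c55 LD3_c28)) :=
  Lre_d IH (LK LD1_c3 LD2_c56 LD3_c54) (LK LD1_c7 LD2_c55 LD3_c28) Lrfl Lrfl
theorem f232918 : Led Lsl_gt (LP (LK LD1_c4 LD2_c51 LD3_c13)) = (LP (LK LD1_c9 LD2_c34 LD3_c32)) :=
  Lre_g IH (LK LD1_c4 LD2_c51 LD3_c13) (LK LD1_c9 LD2_c34 LD3_c32) Lrfl Lrfl
theorem f232976 : Led Lsl_cf (LP (LK LD1_c7 LD2_c55 LD3_c28)) = (LP (LK LD1_c9 LD2_c34 LD3_c32)) :=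
  Lgr Lrot99 (Lpe (f29126 IH) (Lpe (K1.f29078 IH) (Lpe (f28795 IH) (Lpr_cf (f232512 IH) (Lpe (f1801 IH) (Lpe (f1772 IH) (Lpr_gt (f1795 IH) (Lpr_ct (f232944 IH) (Lpr_gt (f232918 IH) (Lpn (LP (LK LD1_c9 LD2_c34 LD3_c32))))))))))))
theorem f29120 : Led Lsl_dt (LP (LK LD1_c7 LD2_c55 LD3_c28)) = (LP (LK LD1_c3 LD2_c56 LD3_c54)) :=
  Lre_d IH (LK LD1_c7 LD2_c55 LD3_c28) (LK LD1_c3 LD2_c56 LD3_c54) Lrfl Lrfl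
theorem f28812 : Led Lsl_dt (LP (LK LD1_c0 LD2_c27 LD3_c60)) = (LP (LK LD1_c1 LD2_c1 LD3_c15)) :=
  Lre_d IH (LK LD1_c0 LD2_c27 LD3_c60) (LK LD1_c1 LD2_c1 LD3_c15) Lrfl Lrfl
theorem f29147 : Led Lsl_ct (LP (LK LD1_c4 LD2_c21 LD3_c26)) = (LP (LK LD1_c8 LD2_c40 LD3_c30)) :=
  Lre_c IH (LK LD1_c4 LD2_c21 LD3_c26) (LK LD1_c8 LD2_c40 LD3_c30) Lrfl Lrfl
theorem f39065 : Led Lsl_dt (LP (LK LD1_c8 LD2_c40 LD3_c30)) = (LP (LK LD1_c4 LD2_c21 LD3_c27)) :=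
  Lgr Lrot42 (Lpr_df (K1.f39059 IH) (Lpn (LP (LK LD1_c4 LD2_c21 LD3_c27))))
theorem f29141 : Led Lsl_ct (LP (LK LD1_c4 LD2_c21 LD3_c27)) = (LP (LK LD1_c2 LD2_c8 LD3_c14)) :=
  Lre_c IH (LK LD1_c4 LD2_c21 LD3_c27) (LK LD1_c2 LD2_c8 LD3_c14) Lrfl Lrfl
theorem f29142 : Led Lsl_dt (LP (LK LD1_c1 LD2_c55 LD3_c11)) = (LP (LK LD1_c3 LD2_c56 LD3_c55)) :=
  Lre_d IH (LK LD1_c1 LD2_c55 LD3_c11) (LK LD1_c3 LD2_c56 LD3_c55) Lrfl Lrfl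
theorem f232984 : Led Lsl_dt (LP (LK LD1_c4 LD2_c51 LD3_c32)) = (LP (LK LD1_c9 LD2_c34 LD3_c32)) :=
  Lgr Lrot173 (Lpe (K11.f200061 IH) (Lpe (f29142 IH) (Lpe (K11.f29135 IH) (Lpe (f29140 IH) (Lpe (f29141 IH) (Lpe (f39065 IH) (Lpe (f29147 IH) (Lpe (f29146 IH) (Lpe (K1.f29145 IH) (Lpe (f28812 IH) (Lpr_cf (K0.f29121 IH) (Lpe (K1.f29070 IH) (Lpe (K1.f29111 IH) (Lpe (f29120 IH) (Lpr_cf (f232976 IH) (Lpn (LP (LK LD1_c9 LD2_c34 LD3_c32))))))))))))))))))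
theorem f39048 : Led Lsl_at (LP (LK LD1_c3 LD2_c56 LD3_c54)) = (LP (LK LD1_c2 LD2_c8 LD3_c13)) :=
  Lgr Lrot100 (Lpr_af (K1.f39036 IH) (Lpn (LP (LK LD1_c2 LD2_c8 LD3_c13))))
theorem f200036 : Led Lsl_ff (LP (LK LD1_c3 LD2_c56 LD3_c54)) = (LP (LK LD1_c4 LD2_c51 LD3_c32)) :=
  Lgr Lrot25 (Lpr_bt (K11.f29079 IH) (Lpr_ft (K11.f200028 IH) (Lpr_bt (K11.f171118 IH) (Lpn (LP (LK LD1_c4 LD2_c51 LD3_c32))))))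
theorem f232902 : Led Lsl_gt (LP (LK LD1_c4 LD2_c51 LD3_c32)) = (LP (LK LD1_c2 LD2_c23 LD3_c41)) :=
  Lgr Lrot5 (Lpe (f200036 IH) (Lpr_at (f39048 IH) (Lpr_gf (f232899 IH) (Lpn (LP (LK LD1_c2 LD2_c23 LD3_c41))))))
theorem f2043 : Led Lsl_ct (LP (LK LD1_c2 LD2_c23 LD3_c41)) = (LP (LK LD1_c1 LD2_c8 LD3_c56)) :=
  Lre_c IH (LK LD1_c2 LD2_c23 LD3_c41) (LK LD1_c1 LD2_c8 LD3_c56) Lrfl Lrfl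
theorem f1782 : Led Lsl_af (LP (LK LD1_c4 LD2_c52 LD3_c0)) = (LP (LK LD1_c4 LD2_c52 LD3_c2)) :=
  Lgr Lrot45 (Lpr_ft (f1780 IH) (Lpr_at (f1737 IH) (Lpr_ft (f1754 IH) (Lpn (LP (LK LD1_c4 LD2_c52 LD3_c2))))))
theorem f1799 : Led Lsl_gt (LP (LK LD1_c2 LD2_c23 LD3_c46)) = (LP (LK LD1_c4 LD2_c51 LD3_c60)) :=
  Lre_g IH (LK LD1_c2 LD2_c23 LD3_c46) (LK LD1_c4 LD2_c51 LD3_c60) Lrfl Lrfl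
theorem f2038 : Led Lsl_gf (LP (LK LD1_c4 LD2_c52 LD3_c0)) = (LP (LK LD1_c4 LD2_c51 LD3_c60)) :=
  Lgr Lrot76 (Lpr_af (f1782 IH) (Lpe (f1754 IH) (Lpr_gt (f1799 IH) (Lpn (LP (LK LD1_c4 LD2_c51 LD3_c60))))))
theorem f1598 : Led Lsl_dt (LP (LK LD1_c0 LD2_c31 LD3_c28)) = (LP (LK LD1_c1 LD2_c8 LD3_c53)) :=
  Lre_d IH (LK LD1_c0 LD2_c31 LD3_c28) (LK LD1_c1 LD2_c8 LD3_c53) Lrfl Lrfl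
theorem f29186 : Led Lsl_ct (LP (LK LD1_c1 LD2_c8 LD3_c53)) = (LP (LK LD1_c2 LD2_c23 LD3_c34)) :=
  Lre_c IH (LK LD1_c1 LD2_c8 LD3_c53) (LK LD1_c2 LD2_c23 LD3_c34) Lrfl Lrfl
theorem f233151 : Led Lsl_dt (LP (LK LD1_c4 LD2_c51 LD3_c27)) = (LP (LK LD1_c2 LD2_c23 LD3_c34)) :=
  Lre_d IH (LK LD1_c4 LD2_c51 LD3_c27) (LK LD1_c2 LD2_c23 LD3_c34) Lrfl Lrfl
theorem f233152 : Led Lsl_gf (LP (LK LD1_c4 LD2_c51 LD3_c27)) = (LP (LK LD1_c9 LD2_c34 LD3_c32)) :=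
  Lgr Lrot143 (Lpr_dt (f233151 IH) (Lpe (f29186 IH) (Lpe (f1598 IH) (Lpe (K9.f1597 IH) (Lpe (K0.f1580 IH) (Lpe (f1587 IH) (Lpe (f1931 IH) (Lpr_gt (K11.f171039 IH) (Lpr_dt (f232984 IH) (Lpn (LP (LK LD1_c9 LD2_c34 LD3_c32))))))))))))
theorem f233154 : Led Lsl_cf (LP (LK LD1_c4 LD2_c51 LD3_c60)) = (LP (LK LD1_c4 LD2_c51 LD3_c27)) :=
  Lgr Lrot188 (Lpe (f2038 IH) (Lpr_ct (f1755 IH) (Lpr_dt (K1.f1917 IH) (Lpe (K12.f1921 IH) (Lpe (K12.f2042 IH) (Lpe (f2043 IH) (Lpe (f232902 IH) (Lpr_dt (f232984 IH) (Lpe (f233152 IH) (Lpn (LP (LK LD1_c4 LD2_c51 LD3_c27))))))))))))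
theorem f2111 : Led Lsl_dt (LP (LK LD1_c1 LD2_c8 LD3_c48)) = (LP (LK LD1_c2 LD2_c23 LD3_c22)) :=
  Lre_d IH (LK LD1_c1 LD2_c8 LD3_c48) (LK LD1_c2 LD2_c23 LD3_c22) Lrfl Lrfl
theorem f2109 : Led Lsl_ct (LP (LK LD1_c4 LD2_c51 LD3_c5)) = (LP (LK LD1_c2 LD2_c23 LD3_c22)) :=
  Lre_c IH (LK LD1_c4 LD2_c51 LD3_c5) (LK LD1_c2 LD2_c23 LD3_c22) Lrfl Lrfl
theorem f1922 : Led Lsl_dt (LP (LK LD1_c1 LD2_c8 LD3_c57)) = (LP (LK LD1_c2 LD2_c23 LD3_c46)) :=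
  Lre_d IH (LK LD1_c1 LD2_c8 LD3_c57) (LK LD1_c2 LD2_c23 LD3_c46) Lrfl Lrfl
theorem f232517 : Led Lsl_df (LP (LK LD1_c4 LD2_c51 LD3_c5)) = (LP (LK LD1_c4 LD2_c51 LD3_c60)) :=
  Lgr Lrot174 (Lpr_ct (f2109 IH) (Lpe (f2111 IH) (Lpr_gf (K10.f186918 IH) (Lpe (K1.f29070 IH) (Lpe (f28795 IH) (Lpr_ct (f232396 IH) (Lpr_gt (f1928 IH) (Lpr_dt (f1922 IH) (Lpr_gt (f1799 IH) (Lpn (LP (LK LD1_c4 LD2_c51 LD3_c60))))))))))))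
theorem f2108 : Led Lsl_dt (LP (LK LD1_c2 LD2_c23 LD3_c22)) = (LP (LK LD1_c1 LD2_c8 LD3_c48)) :=
  Lre_d IH (LK LD1_c2 LD2_c23 LD3_c22) (LK LD1_c1 LD2_c8 LD3_c48) Lrfl Lrfl
theorem f272 : Led Lsl_ct (LP (LK LD1_c1 LD2_c8 LD3_c49)) = (LP (LK LD1_c2 LD2_c23 LD3_c25)) :=
  Lre_c IH (LK LD1_c1 LD2_c8 LD3_c49) (LK LD1_c2 LD2_c23 LD3_c25) Lrfl Lrfl
theorem f232523 : Led Lsl_dt (LP (LK LD1_c2 LD2_c23 LD3_c25)) = (LP (LK LD1_c4 LD2_c51 LD3_c13)) :=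
  Lre_d IH (LK LD1_c2 LD2_c23 LD3_c25) (LK LD1_c4 LD2_c51 LD3_c13) Lrfl Lrfl
theorem f233159 : Led Lsl_dt (LP (LK LD1_c2 LD2_c23 LD3_c34)) = (LP (LK LD1_c4 LD2_c51 LD3_c27)) :=
  Lre_d IH (LK LD1_c2 LD2_c23 LD3_c34) (LK LD1_c4 LD2_c51 LD3_c27) Lrfl Lrfl
theorem f2082 : Led Lsl_dt (LP (LK LD1_c2 LD2_c23 LD3_c32)) = (LP (LK LD1_c1 LD2_c8 LD3_c52)) :=
  Lre_d IH (LK LD1_c2 LD2_c23 LD3_c32) (LK LD1_c1 LD2_c8 LD3_c52) Lrfl Lrfl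
theorem f2083 : Led Lsl_ct (LP (LK LD1_c4 LD2_c51 LD3_c24)) = (LP (LK LD1_c2 LD2_c23 LD3_c32)) :=
  Lre_c IH (LK LD1_c4 LD2_c51 LD3_c24) (LK LD1_c2 LD2_c23 LD3_c32) Lrfl Lrfl
theorem f233169 : Led Lsl_dt (LP (LK LD1_c4 LD2_c51 LD3_c61)) = (LP (LK LD1_c4 LD2_c51 LD3_c24)) :=
  Lgr Lrot173 (Lpr_cf (f232919 IH) (Lpe (f232523 IH) (Lpe (f272 IH) (Lpe (f271 IH) (Lpe (K10.f2086 IH) (Lpe (f2108 IH) (Lpe (f2109 IH) (Lpr_df (f232517 IH) (Lpr_cf (f233154 IH) (Lpe (f233159 IH) (Lpe (f29186 IH) (Lpe (f1598 IH) (Lpe (K9.f2090 IH) (Lpe (f2082 IH) (Lpe (f2083 IH) (Lpn (LP (LK LD1_c4 LD2_c51 LD3_c24))))))))))))))))))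
theorem f186932 : Led Lsl_ct (LP (LK LD1_c2 LD2_c23 LD3_c43)) = (LP (LK LD1_c3 LD2_c56 LD3_c52)) :=
  Lgr Lrot59 (Lpr_cf (K12.f186923 IH) (Lpn (LP (LK LD1_c3 LD2_c56 LD3_c52))))
theorem f2097 : Led Lsl_ct (LP (LK LD1_c2 LD2_c23 LD3_c32)) = (LP (LK LD1_c4 LD2_c51 LD3_c24)) :=
  Lre_c IH (LK LD1_c2 LD2_c23 LD3_c32) (LK LD1_c4 LD2_c51 LD3_c24) Lrfl Lrfl
theorem f2087 : Led Lsl_dt (LP (LK LD1_c1 LD2_c8 LD3_c52)) = (LP (LK LD1_c2 LD2_c23 LD3_c32)) :=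
  Lre_d IH (LK LD1_c1 LD2_c8 LD3_c52) (LK LD1_c2 LD2_c23 LD3_c32) Lrfl Lrfl
theorem f233210 : Led Lsl_gt (LP (LK LD1_c3 LD2_c56 LD3_c52)) = (LP (LK LD1_c2 LD2_c8 LD3_c14)) :=
  Lgr Lrot94 (Lpe (f186932 IH) (Lpr_gt (K12.f1800 IH) (Lpe (f1787 IH) (Lpr_gt (f1795 IH) (Lpr_dt (f233169 IH) (Lpe (f2097 IH) (Lpe (f2087 IH) (Lpr_gf (f232156 IH) (Lpe (f29140 IH) (Lpn (LP (LK LD1_c2 LD2_c8 LD3_c14))))))))))))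
theorem f2487 : Led Lsl_bt (LP (LK LD1_c2 LD2_c23 LD3_c45)) = (LP (LK LD1_c1 LD2_c8 LD3_c57)) :=
  Lre_b IH (LK LD1_c2 LD2_c23 LD3_c45) (LK LD1_c1 LD2_c8 LD3_c57) Lrfl Lrfl
theorem f2356 : Led Lsl_ct (LP (LK LD1_c2 LD2_c23 LD3_c45)) = (LP (LK LD1_c1 LD2_c9 LD3_c1)) :=
  Lre_c IH (LK LD1_c2 LD2_c23 LD3_c45) (LK LD1_c1 LD2_c9 LD3_c1) Lrfl Lrfl
theorem f2749 : Led Lsl_gt (LP (LK LD1_c2 LD2_c24 LD3_c0)) = (LP (LK LD1_c1 LD2_c9 LD3_c1)) :=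
  Lre_g IH (LK LD1_c2 LD2_c24 LD3_c0) (LK LD1_c1 LD2_c9 LD3_c1) Lrfl Lrfl
theorem f30605 : Led Lsl_ct (LP (LK LD1_c4 LD2_c52 LD3_c36)) = (LP (LK LD1_c2 LD2_c24 LD3_c0)) :=
  Lre_c IH (LK LD1_c4 LD2_c52 LD3_c36) (LK LD1_c2 LD2_c24 LD3_c0) Lrfl Lrfl
theorem f186963 : Led Lsl_bt (LP (LK LD1_c4 LD2_c52 LD3_c36)) = (LP (LK LD1_c9 LD2_c37 LD3_c19)) :=
  Lre_b IH (LK LD1_c4 LD2_c52 LD3_c36) (LK LD1_c9 LD2_c37 LD3_c19) Lrfl Lrfl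
theorem f186993 : Led Lsl_bt (LP (LK LD1_c4 LD2_c21 LD3_c27)) = (LP (LK LD1_c8 LD2_c40 LD3_c29)) :=
  Lre_b IH (LK LD1_c4 LD2_c21 LD3_c27) (LK LD1_c8 LD2_c40 LD3_c29) Lrfl Lrfl
theorem f233216 : Led Lsl_gf (LP (LK LD1_c9 LD2_c37 LD3_c19)) = (LP (LK LD1_c8 LD2_c40 LD3_c29)) :=
  Lgr Lrot124 (Lpe (f186963 IH) (Lpr_ct (f30605 IH) (Lpr_gt (f2749 IH) (Lpe (f2356 IH) (Lpr_bt (f2487 IH) (Lpr_gt (K12.f2793 IH) (Lpr_ct (f186932 IH) (Lpr_gt (f233210 IH) (Lpe (f29141 IH) (Lpr_bt (f186993 IH) (Lpn (LP (LK LD1_c8 LD2_c40 LD3_c29)))))))))))))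
theorem f232440 : Led Lsl_ft (LP (LK LD1_c8 LD2_c40 LD3_c29)) = (LP (LK LD1_c4 LD2_c21 LD3_c25)) :=
  Lre_f IH (LK LD1_c8 LD2_c40 LD3_c29) (LK LD1_c4 LD2_c21 LD3_c25) Lrfl Lrfl
theorem f39751 : Led Lsl_at (LP (LK LD1_c4 LD2_c21 LD3_c25)) = (LP (LK LD1_c8 LD2_c40 LD3_c27)) :=
  Lre_a IH (LK LD1_c4 LD2_c21 LD3_c25) (LK LD1_c8 LD2_c40 LD3_c27) Lrfl Lrfl
theorem f233218 : Led Lsl_gt (LP (LK LD1_c9 LD2_c37 LD3_c19)) = (LP (LK LD1_c8 LD2_c40 LD3_c27)) :=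
  Lgr Lrot46 (Lpr_gf (f233216 IH) (Lpr_ft (f232440 IH) (Lpr_at (f39751 IH) (Lpn (LP (LK LD1_c8 LD2_c40 LD3_c27))))))
theorem f2343 : Led Lsl_gt (LP (LK LD1_c4 LD2_c52 LD3_c29)) = (LP (LK LD1_c2 LD2_c24 LD3_c0)) :=
  Lre_g IH (LK LD1_c4 LD2_c52 LD3_c29) (LK LD1_c2 LD2_c24 LD3_c0) Lrfl Lrfl
theorem f2344 : Led Lsl_ct (LP (LK LD1_c9 LD2_c36 LD3_c1)) = (LP (LK LD1_c4 LD2_c52 LD3_c29)) :=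
  Lre_c IH (LK LD1_c9 LD2_c36 LD3_c1) (LK LD1_c4 LD2_c52 LD3_c29) Lrfl Lrfl
theorem f2347 : Led Lsl_gt (LP (LK LD1_c4 LD2_c51 LD3_c55)) = (LP (LK LD1_c9 LD2_c36 LD3_c1)) :=
  Lre_g IH (LK LD1_c4 LD2_c51 LD3_c55) (LK LD1_c9 LD2_c36 LD3_c1) Lrfl Lrfl
theorem f29871 : Led Lsl_bt (LP (LK LD1_c9 LD2_c36 LD3_c2)) = (LP (LK LD1_c4 LD2_c51 LD3_c55)) :=
  Lre_b IH (LK LD1_c9 LD2_c36 LD3_c2) (LK LD1_c4 LD2_c51 LD3_c55) Lrfl Lrfl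
theorem f29107 : Led Lsl_at (LP (LK LD1_c7 LD2_c55 LD3_c27)) = (LP (LK LD1_c14 LD2_c57 LD3_c0)) :=
  Lre_a IH (LK LD1_c7 LD2_c55 LD3_c27) (LK LD1_c14 LD2_c57 LD3_c0) Lrfl Lrfl
theorem f39050 : Led Lsl_bt (LP (LK LD1_c4 LD2_c21 LD3_c25)) = (LP (LK LD1_c2 LD2_c8 LD3_c13)) :=
  Lre_b IH (LK LD1_c4 LD2_c21 LD3_c25) (LK LD1_c2 LD2_c8 LD3_c13) Lrfl Lrfl
theorem f39051 : Led Lsl_at (LP (LK LD1_c8 LD2_c40 LD3_c27)) = (LP (LK LD1_c4 LD2_c21 LD3_c25)) :=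
  Lre_a IH (LK LD1_c8 LD2_c40 LD3_c27) (LK LD1_c4 LD2_c21 LD3_c25) Lrfl Lrfl
theorem f39052 : Led Lsl_bt (LP (LK LD1_c14 LD2_c57 LD3_c0)) = (LP (LK LD1_c8 LD2_c40 LD3_c27)) :=
  Lgr Lrot62 (Lpe (f29107 IH) (Lpe (K11.f29079 IH) (Lpr_af (K1.f39036 IH) (Lpe (f39050 IH) (Lpe (f39051 IH) (Lpn (LP (LK LD1_c8 LD2_c40 LD3_c27))))))))
theorem f29090 : Led Lsl_ct (LP (LK LD1_c6 LD2_c4 LD3_c21)) = (LP (LK LD1_c7 LD2_c55 LD3_c27)) :=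
  Lgr Lrot59 (Lpr_cf (K11.f29080 IH) (Lpn (LP (LK LD1_c7 LD2_c55 LD3_c27))))
theorem f29095 : Led Lsl_at (LP (LK LD1_c11 LD2_c52 LD3_c8)) = (LP (LK LD1_c6 LD2_c4 LD3_c21)) :=
  Lre_a IH (LK LD1_c11 LD2_c52 LD3_c8) (LK LD1_c6 LD2_c4 LD3_c21) Lrfl Lrfl
theorem f29108 : Led Lsl_cf (LP (LK LD1_c11 LD2_c52 LD3_c8)) = (LP (LK LD1_c14 LD2_c57 LD3_c0)) :=
  Lgr Lrot1 (Lpr_at (f29095 IH) (Lpr_ct (f29090 IH) (Lpr_at (f29107 IH) (Lpn (LP (LK LD1_c14 LD2_c57 LD3_c0))))))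
theorem f199955 : Led Lsl_at (LP (LK LD1_c8 LD2_c21 LD3_c12)) = (LP (LK LD1_c15 LD2_c43 LD3_c21)) :=
  Lre_a IH (LK LD1_c8 LD2_c21 LD3_c12) (LK LD1_c15 LD2_c43 LD3_c21) Lrfl Lrfl
theorem f199956 : Led Lsl_ft (LP (LK LD1_c15 LD2_c43 LD3_c21)) = (LP (LK LD1_c11 LD2_c52 LD3_c8)) :=
  Lgr Lrot101 (Lpe (f199955 IH) (Lpr_ff (K11.f199931 IH) (Lpe (f29095 IH) (Lpn (LP (LK LD1_c11 LD2_c52 LD3_c8))))))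
theorem f199990 : Led Lsl_ff (LP (LK LD1_c15 LD2_c43 LD3_c21)) = (LP (LK LD1_c11 LD2_c52 LD3_c8)) :=
  Lgr Lrot3 (Lpr_ft (f199956 IH) (Lpn (LP (LK LD1_c11 LD2_c52 LD3_c8))))
theorem f199994 : Led Lsl_at (LP (LK LD1_c15 LD2_c43 LD3_c21)) = (LP (LK LD1_c8 LD2_c21 LD3_c12)) :=
  Lre_a IH (LK LD1_c15 LD2_c43 LD3_c21) (LK LD1_c8 LD2_c21 LD3_c12) Lrfl Lrfl
theorem f199995 : Led Lsl_gt (LP (LK LD1_c15 LD2_c43 LD3_c20)) = (LP (LK LD1_c8 LD2_c21 LD3_c12)) :=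
  Lre_g IH (LK LD1_c15 LD2_c43 LD3_c20) (LK LD1_c8 LD2_c21 LD3_c12) Lrfl Lrfl
theorem f199996 : Led Lsl_gf (LP (LK LD1_c15 LD2_c43 LD3_c20)) = (LP (LK LD1_c11 LD2_c52 LD3_c8)) :=
  Lgr Lrot47 (Lpr_gt (f199995 IH) (Lpe (f199994 IH) (Lpr_ff (f199990 IH) (Lpn (LP (LK LD1_c11 LD2_c52 LD3_c8))))))
theorem f233232 : Led Lsl_ct (LP (LK LD1_c9 LD2_c36 LD3_c2)) = (LP (LK LD1_c15 LD2_c43 LD3_c20)) :=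
  Lgr Lrot10 (Lpr_bt (f29871 IH) (Lpr_gt (f2347 IH) (Lpr_ct (f2344 IH) (Lpr_gt (f2343 IH) (Lpe (f30605 IH) (Lpr_bt (f186963 IH) (Lpr_gt (f233218 IH) (Lpe (f39052 IH) (Lpe (f29108 IH) (Lpe (f199996 IH) (Lpn (LP (LK LD1_c15 LD2_c43 LD3_c20)))))))))))))
theorem f1961 : Led Lsl_bt (LP (LK LD1_c17 LD2_c36 LD3_c53)) = (LP (LK LD1_c9 LD2_c36 LD3_c1)) :=
  Lre_b IH (LK LD1_c17 LD2_c36 LD3_c53) (LK LD1_c9 LD2_c36 LD3_c1) Lrfl Lrfl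
theorem f29813 : Led Lsl_bt (LP (LK LD1_c1 LD2_c56 LD3_c56)) = (LP (LK LD1_c4 LD2_c0 LD3_c18)) :=
  Lre_b IH (LK LD1_c1 LD2_c56 LD3_c56) (LK LD1_c4 LD2_c0 LD3_c18) Lrfl Lrfl
theorem f29814 : Led Lsl_bt (LP (LK LD1_c4 LD2_c50 LD3_c58)) = (LP (LK LD1_c2 LD2_c23 LD3_c18)) :=
  Lre_b IH (LK LD1_c4 LD2_c50 LD3_c58) (LK LD1_c2 LD2_c23 LD3_c18) Lrfl Lrfl
theorem f29815 : Led Lsl_ct (LP (LK LD1_c4 LD2_c0 LD3_c18)) = (LP (LK LD1_c4 LD2_c50 LD3_c58)) :=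
  Lgr Lrot83 (Lpe (f29813 IH) (Lpe (K1.f29245 IH) (Lpr_bf (K9.f29809 IH) (Lpe (K0.f1730 IH) (Lpe (f29814 IH) (Lpn (LP (LK LD1_c4 LD2_c50 LD3_c58))))))))
theorem f29819 : Led Lsl_cf (LP (LK LD1_c4 LD2_c0 LD3_c18)) = (LP (LK LD1_c4 LD2_c50 LD3_c58)) :=
  Lgr Lrot11 (Lpr_ct (f29815 IH) (Lpn (LP (LK LD1_c4 LD2_c50 LD3_c58))))
theorem f29846 : Led Lsl_ft (LP (LK LD1_c4 LD2_c0 LD3_c18)) = (LP (LK LD1_c8 LD2_c1 LD3_c38)) :=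
  Lre_f IH (LK LD1_c4 LD2_c0 LD3_c18) (LK LD1_c8 LD2_c1 LD3_c38) Lrfl Lrfl
theorem f1942 : Led Lsl_ft (LP (LK LD1_c9 LD2_c34 LD3_c2)) = (LP (LK LD1_c4 LD2_c50 LD3_c58)) :=
  Lre_f IH (LK LD1_c9 LD2_c34 LD3_c2) (LK LD1_c4 LD2_c50 LD3_c58) Lrfl Lrfl
theorem f29847 : Led Lsl_ct (LP (LK LD1_c8 LD2_c1 LD3_c38)) = (LP (LK LD1_c9 LD2_c34 LD3_c2)) :=
  Lgr Lrot40 (Lpe (f29846 IH) (Lpr_cf (f29819 IH) (Lpe (f1942 IH) (Lpn (LP (LK LD1_c9 LD2_c34 LD3_c2))))))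
theorem f29855 : Led Lsl_at (LP (LK LD1_c15 LD2_c6 LD3_c46)) = (LP (LK LD1_c8 LD2_c1 LD3_c38)) :=
  Lre_a IH (LK LD1_c15 LD2_c6 LD3_c46) (LK LD1_c8 LD2_c1 LD3_c38) Lrfl Lrfl
theorem f1935 : Led Lsl_at (LP (LK LD1_c9 LD2_c34 LD3_c2)) = (LP (LK LD1_c17 LD2_c36 LD3_c53)) :=
  Lre_a IH (LK LD1_c9 LD2_c34 LD3_c2) (LK LD1_c17 LD2_c36 LD3_c53) Lrfl Lrfl
theorem f29856 : Led Lsl_cf (LP (LK LD1_c15 LD2_c6 LD3_c46)) = (LP (LK LD1_c17 LD2_c36 LD3_c53)) :=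
  Lgr Lrot1 (Lpr_at (f29855 IH) (Lpr_ct (f29847 IH) (Lpr_at (f1935 IH) (Lpn (LP (LK LD1_c17 LD2_c36 LD3_c53))))))
theorem f29867 : Led Lsl_gt (LP (LK LD1_c15 LD2_c6 LD3_c46)) = (LP (LK LD1_c8 LD2_c1 LD3_c35)) :=
  Lre_g IH (LK LD1_c15 LD2_c6 LD3_c46) (LK LD1_c8 LD2_c1 LD3_c35) Lrfl Lrfl
theorem f29833 : Led Lsl_ct (LP (LK LD1_c15 LD2_c6 LD3_c54)) = (LP (LK LD1_c8 LD2_c1 LD3_c35)) :=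
  Lre_c IH (LK LD1_c15 LD2_c6 LD3_c54) (LK LD1_c8 LD2_c1 LD3_c35) Lrfl Lrfl
theorem f200017 : Led Lsl_gt (LP (LK LD1_c9 LD2_c35 LD3_c6)) = (LP (LK LD1_c17 LD2_c38 LD3_c58)) :=
  Lre_g IH (LK LD1_c9 LD2_c35 LD3_c6) (LK LD1_c17 LD2_c38 LD3_c58) Lrfl Lrfl
theorem f200030 : Led Lsl_gf (LP (LK LD1_c14 LD2_c57 LD3_c0)) = (LP (LK LD1_c17 LD2_c38 LD3_c58)) :=
  Lgr Lrot76 (Lpe (f29107 IH) (Lpr_ff (K11.f200014 IH) (Lpr_gt (f200017 IH) (Lpn (LP (LK LD1_c17 LD2_c38 LD3_c58))))))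
theorem f233245 : Led Lsl_bt (LP (LK LD1_c15 LD2_c6 LD3_c54)) = (LP (LK LD1_c17 LD2_c38 LD3_c58)) :=
  Lgr Lrot130 (Lpr_ct (f29833 IH) (Lpe (f29867 IH) (Lpr_cf (f29856 IH) (Lpr_bt (f1961 IH) (Lpe (f2347 IH) (Lpe (f29871 IH) (Lpr_ct (f233232 IH) (Lpr_gf (f199996 IH) (Lpr_cf (f29108 IH) (Lpr_gf (f200030 IH) (Lpn (LP (LK LD1_c17 LD2_c38 LD3_c58)))))))))))))
theorem f29830 : Led Lsl_gt (LP (LK LD1_c8 LD2_c1 LD3_c35)) = (LP (LK LD1_c4 LD2_c0 LD3_c18)) :=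
  Lre_g IH (LK LD1_c8 LD2_c1 LD3_c35) (LK LD1_c4 LD2_c0 LD3_c18) Lrfl Lrfl
theorem f167257 : Led Lsl_ct (LP (LK LD1_c4 LD2_c9 LD3_c15)) = (LP (LK LD1_c2 LD2_c1 LD3_c60)) :=
  Lre_c IH (LK LD1_c4 LD2_c9 LD3_c15) (LK LD1_c2 LD2_c1 LD3_c60) Lrfl Lrfl
theorem f233258 : Led Lsl_gt (LP (LK LD1_c2 LD2_c1 LD3_c60)) = (LP (LK LD1_c3 LD2_c56 LD3_c55)) :=
  Lgr Lrot149 (Lpe (f167257 IH) (Lpr_gf (K9.f167255 IH) (Lpe (f29814 IH) (Lpe (f29819 IH) (Lpe (f29830 IH) (Lpe (f29833 IH) (Lpr_bt (f233245 IH) (Lpe (f200017 IH) (Lpe (f200022 IH) (Lpr_ct (K11.f186991 IH) (Lpn (LP (LK LD1_c3 LD2_c56 LD3_c55)))))))))))))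
theorem f187181 : Led Lsl_bf (LP (LK LD1_c4 LD2_c21 LD3_c5)) = (LP (LK LD1_c4 LD2_c13 LD3_c50)) :=
  Lgr Lrot24 (Lpr_bt (K10.f187179 IH) (Lpn (LP (LK LD1_c4 LD2_c13 LD3_c50))))
theorem f191726 : Led Lsl_df (LP (LK LD1_c5 LD2_c17 LD3_c23)) = (LP (LK LD1_c4 LD2_c21 LD3_c5)) :=
  Lgr Lrot12 (Lpr_bt (K10.f33050 IH) (Lpr_dt (K10.f191723 IH) (Lpe (f187181 IH) (Lpn (LP (LK LD1_c4 LD2_c21 LD3_c5))))))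
theorem f47941 : Led Lsl_dt (LP (LK LD1_c0 LD2_c57 LD3_c9)) = (LP (LK LD1_c0 LD2_c56 LD3_c43)) :=
  Lgr Lrot57 (Lpr_gf (K12.f45788 IH) (Lpe (K1.f31438 IH) (Lpr_gt (K1.f43237 IH) (Lpr_dt (K1.f47838 IH) (Lpr_gt (K1.f47441 IH) (Lpe (K9.f41869 IH) (Lpe (K1.f44576 IH) (Lpr_df (K1.f45781 IH) (Lpr_gf (K1.f47457 IH) (Lpn (LP (LK LD1_c0 LD2_c56 LD3_c43))))))))))))
theorem f45787 : Led Lsl_et (LP (LK LD1_c0 LD2_c33 LD3_c1)) = (LP (LK LD1_c1 LD2_c11 LD3_c14)) :=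
  Lre_e IH (LK LD1_c0 LD2_c33 LD3_c1) (LK LD1_c1 LD2_c11 LD3_c14) Lrfl Lrfl
theorem f191829 : Led Lsl_gf (LP (LK LD1_c2 LD2_c8 LD3_c4)) = (LP (LK LD1_c1 LD2_c11 LD3_c14)) :=
  Lgr Lrot141 (Lpe (K10.f187217 IH) (Lpe (f191726 IH) (Lpr_gt (K11.f191755 IH) (Lpe (K10.f43252 IH) (Lpr_et (K10.f43243 IH) (Lpe (K12.f45788 IH) (Lpr_dt (f47941 IH) (Lpe (K1.f47457 IH) (Lpr_df (K1.f33127 IH) (Lpr_et (f45787 IH) (Lpn (LP (LK LD1_c1 LD2_c11 LD3_c14)))))))))))))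
theorem f167318 : Led Lsl_bf (LP (LK LD1_c2 LD2_c4 LD3_c25)) = (LP (LK LD1_c1 LD2_c8 LD3_c44)) :=
  Lgr Lrot24 (Lpr_bt (K12.f167316 IH) (Lpn (LP (LK LD1_c1 LD2_c8 LD3_c44))))
theorem f167312 : Led Lsl_bt (LP (LK LD1_c0 LD2_c12 LD3_c4)) = (LP (LK LD1_c0 LD2_c27 LD3_c13)) :=
  Lre_b IH (LK LD1_c0 LD2_c12 LD3_c4) (LK LD1_c0 LD2_c27 LD3_c13) Lrfl Lrfl
theorem f29028 : Led Lsl_gt (LP (LK LD1_c1 LD2_c1 LD3_c14)) = (LP (LK LD1_c0 LD2_c27 LD3_c60)) :=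
  Lre_g IH (LK LD1_c1 LD2_c1 LD3_c14) (LK LD1_c0 LD2_c27 LD3_c60) Lrfl Lrfl
theorem f184242 : Led Lsl_ct (LP (LK LD1_c1 LD2_c8 LD3_c44)) = (LP (LK LD1_c1 LD2_c1 LD3_c14)) :=
  Lgr Lrot91 (Lpe (K12.f286 IH) (Lpe (K0.f285 IH) (Lpr_ct (K0.f281 IH) (Lpr_gf (K9.f3058 IH) (Lpe (K9.f167295 IH) (Lpr_bt (f167312 IH) (Lpr_gf (K10.f184237 IH) (Lpr_bf (K0.f29064 IH) (Lpe (K0.f29121 IH) (Lpe (f29028 IH) (Lpn (LP (LK LD1_c1 LD2_c1 LD3_c14)))))))))))))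
theorem f191833 : Led Lsl_gt (LP (LK LD1_c1 LD2_c55 LD3_c11)) = (LP (LK LD1_c1 LD2_c1 LD3_c14)) :=
  Lgr Lrot149 (Lpe (K11.f29135 IH) (Lpe (K10.f186920 IH) (Lpe (K12.f187101 IH) (Lpr_ct (K10.f187103 IH) (Lpr_gf (f191829 IH) (Lpr_cf (K12.f44583 IH) (Lpr_bt (K10.f47983 IH) (Lpe (K12.f188894 IH) (Lpr_bf (f167318 IH) (Lpr_ct (f184242 IH) (Lpn (LP (LK LD1_c1 LD2_c1 LD3_c14)))))))))))))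
theorem f29133 : Led Lsl_dt (LP (LK LD1_c1 LD2_c1 LD3_c14)) = (LP (LK LD1_c2 LD2_c8 LD3_c10)) :=
  Lre_d IH (LK LD1_c1 LD2_c1 LD3_c14) (LK LD1_c2 LD2_c8 LD3_c10) Lrfl Lrfl
theorem f184373 : Led Lsl_ct (LP (LK LD1_c4 LD2_c21 LD3_c18)) = (LP (LK LD1_c2 LD2_c8 LD3_c10)) :=
  Lre_c IH (LK LD1_c4 LD2_c21 LD3_c18) (LK LD1_c2 LD2_c8 LD3_c10) Lrfl Lrfl
theorem f184420 : Led Lsl_dt (LP (LK LD1_c8 LD2_c40 LD3_c15)) = (LP (LK LD1_c4 LD2_c21 LD3_c18)) :=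
  Lre_d IH (LK LD1_c8 LD2_c40 LD3_c15) (LK LD1_c4 LD2_c21 LD3_c18) Lrfl Lrfl
theorem f233260 : Led Lsl_gt (LP (LK LD1_c4 LD2_c52 LD3_c2)) = (LP (LK LD1_c8 LD2_c40 LD3_c15)) :=
  Lgr Lrot49 (Lpe (K0.f1716 IH) (Lpe (K9.f167238 IH) (Lpe (K9.f53422 IH) (Lpr_gt (f233258 IH) (Lpr_dt (K1.f29139 IH) (Lpr_gt (f191833 IH) (Lpr_dt (f29133 IH) (Lpe (f184373 IH) (Lpe (f184420 IH) (Lpn (LP (LK LD1_c8 LD2_c40 LD3_c15))))))))))))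
theorem f233316 : Led Lsl_gf (LP (LK LD1_c4 LD2_c50 LD3_c59)) = (LP (LK LD1_c8 LD2_c40 LD3_c15)) :=
  Lgr Lrot76 (Lpe (K0.f1726 IH) (Lpe (K0.f1725 IH) (Lpr_gt (f233260 IH) (Lpn (LP (LK LD1_c8 LD2_c40 LD3_c15))))))
theorem f2078 : Led Lsl_ct (LP (LK LD1_c4 LD2_c50 LD3_c54)) = (LP (LK LD1_c2 LD2_c23 LD3_c16)) :=
  Lre_c IH (LK LD1_c4 LD2_c50 LD3_c54) (LK LD1_c2 LD2_c23 LD3_c16) Lrfl Lrfl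
theorem f33320 : Led Lsl_ct (LP (LK LD1_c2 LD2_c23 LD3_c17)) = (LP (LK LD1_c4 LD2_c50 LD3_c56)) :=
  Lre_c IH (LK LD1_c2 LD2_c23 LD3_c17) (LK LD1_c4 LD2_c50 LD3_c56) Lrfl Lrfl
theorem f184371 : Led Lsl_gt (LP (LK LD1_c4 LD2_c50 LD3_c56)) = (LP (LK LD1_c3 LD2_c56 LD3_c54)) :=
  Lgr Lrot150 (Lpe (f33320 IH) (Lpe (K0.f1573 IH) (Lpe (K0.f1553 IH) (Lpr_gt (K12.f286 IH) (Lpr_ct (f184242 IH) (Lpr_gt (f29028 IH) (Lpr_ct (K0.f29068 IH) (Lpe (K1.f29070 IH) (Lpe (K1.f29111 IH) (Lpn (LP (LK LD1_c3 LD2_c56 LD3_c54))))))))))))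
theorem f1761 : Led Lsl_ct (LP (LK LD1_c4 LD2_c50 LD3_c56)) = (LP (LK LD1_c2 LD2_c23 LD3_c17)) :=
  Lre_c IH (LK LD1_c4 LD2_c50 LD3_c56) (LK LD1_c2 LD2_c23 LD3_c17) Lrfl Lrfl
theorem f1734 : Led Lsl_dt (LP (LK LD1_c1 LD2_c8 LD3_c43)) = (LP (LK LD1_c2 LD2_c23 LD3_c12)) :=
  Lre_d IH (LK LD1_c1 LD2_c8 LD3_c43) (LK LD1_c2 LD2_c23 LD3_c12) Lrfl Lrfl
theorem f30824 : Led Lsl_ct (LP (LK LD1_c2 LD2_c23 LD3_c12)) = (LP (LK LD1_c4 LD2_c50 LD3_c49)) :=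
  Lre_c IH (LK LD1_c2 LD2_c23 LD3_c12) (LK LD1_c4 LD2_c50 LD3_c49) Lrfl Lrfl
theorem f167360 : Led Lsl_dt (LP (LK LD1_c9 LD2_c33 LD3_c46)) = (LP (LK LD1_c4 LD2_c50 LD3_c49)) :=
  Lre_d IH (LK LD1_c9 LD2_c33 LD3_c46) (LK LD1_c4 LD2_c50 LD3_c49) Lrfl Lrfl
theorem f184376 : Led Lsl_gf (LP (LK LD1_c9 LD2_c33 LD3_c46)) = (LP (LK LD1_c7 LD2_c55 LD3_c28)) :=
  Lgr Lrot143 (Lpr_dt (f167360 IH) (Lpe (f30824 IH) (Lpe (f1734 IH) (Lpe (K0.f2072 IH) (Lpe (K0.f1747 IH) (Lpe (K9.f1612 IH) (Lpe (f1761 IH) (Lpr_gt (f184371 IH) (Lpr_dt (f29126 IH) (Lpn (LP (LK LD1_c7 LD2_c55 LD3_c28))))))))))))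
theorem f233324 : Led Lsl_ct (LP (LK LD1_c9 LD2_c33 LD3_c46)) = (LP (LK LD1_c8 LD2_c40 LD3_c15)) :=
  Lgr Lrot152 (Lpr_gf (f184376 IH) (Lpe (f29126 IH) (Lpr_gt (f232325 IH) (Lpr_ct (f2078 IH) (Lpr_gt (f1571 IH) (Lpr_ct (K0.f1715 IH) (Lpe (K0.f1718 IH) (Lpe (K0.f1721 IH) (Lpr_gf (f233316 IH) (Lpn (LP (LK LD1_c8 LD2_c40 LD3_c15))))))))))))
theorem f167339 : Led Lsl_dt (LP (LK LD1_c4 LD2_c50 LD3_c49)) = (LP (LK LD1_c9 LD2_c33 LD3_c46)) :=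
  Lre_d IH (LK LD1_c4 LD2_c50 LD3_c49) (LK LD1_c9 LD2_c33 LD3_c46) Lrfl Lrfl
theorem f167337 : Led Lsl_ct (LP (LK LD1_c4 LD2_c8 LD3_c29)) = (LP (LK LD1_c2 LD2_c1 LD3_c36)) :=
  Lre_c IH (LK LD1_c4 LD2_c8 LD3_c29) (LK LD1_c2 LD2_c1 LD3_c36) Lrfl Lrfl
theorem f167338 : Led Lsl_dt (LP (LK LD1_c8 LD2_c17 LD3_c3)) = (LP (LK LD1_c4 LD2_c8 LD3_c29)) :=
  Lre_d IH (LK LD1_c8 LD2_c17 LD3_c3) (LK LD1_c4 LD2_c8 LD3_c29) Lrfl Lrfl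
theorem f29134 : Led Lsl_dt (LP (LK LD1_c2 LD2_c8 LD3_c10)) = (LP (LK LD1_c1 LD2_c1 LD3_c14)) :=
  Lre_d IH (LK LD1_c2 LD2_c8 LD3_c10) (LK LD1_c1 LD2_c1 LD3_c14) Lrfl Lrfl
theorem f184364 : Led Lsl_cf (LP (LK LD1_c1 LD2_c8 LD3_c44)) = (LP (LK LD1_c1 LD2_c1 LD3_c14)) :=
  Lgr Lrot11 (Lpr_ct (f184242 IH) (Lpn (LP (LK LD1_c1 LD2_c1 LD3_c14))))
theorem f287 : Led Lsl_dt (LP (LK LD1_c1 LD2_c8 LD3_c44)) = (LP (LK LD1_c2 LD2_c23 LD3_c14)) :=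
  Lre_d IH (LK LD1_c1 LD2_c8 LD3_c44) (LK LD1_c2 LD2_c23 LD3_c14) Lrfl Lrfl
theorem f288 : Led Lsl_ct (LP (LK LD1_c2 LD2_c23 LD3_c14)) = (LP (LK LD1_c4 LD2_c50 LD3_c51)) :=
  Lre_c IH (LK LD1_c2 LD2_c23 LD3_c14) (LK LD1_c4 LD2_c50 LD3_c51) Lrfl Lrfl
theorem f184419 : Led Lsl_dt (LP (LK LD1_c4 LD2_c50 LD3_c51)) = (LP (LK LD1_c9 LD2_c33 LD3_c49)) :=
  Lre_d IH (LK LD1_c4 LD2_c50 LD3_c51) (LK LD1_c9 LD2_c33 LD3_c49) Lrfl Lrfl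
theorem f233333 : Led Lsl_cf (LP (LK LD1_c8 LD2_c17 LD3_c3)) = (LP (LK LD1_c9 LD2_c33 LD3_c49)) :=
  Lgr Lrot55 (Lpr_dt (f167338 IH) (Lpr_ct (f167337 IH) (Lpr_dt (K12.f167336 IH) (Lpr_ct (K12.f167329 IH) (Lpr_dt (f1734 IH) (Lpr_ct (f30824 IH) (Lpr_dt (f167339 IH) (Lpr_ct (f233324 IH) (Lpr_dt (f184420 IH) (Lpr_ct (f184373 IH) (Lpr_dt (f29134 IH) (Lpe (f184364 IH) (Lpr_dt (f287 IH) (Lpr_ct (f288 IH) (Lpr_dt (f184419 IH) (Lpn (LP (LK LD1_c9 LD2_c33 LD3_c49))))))))))))))))))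
theorem f167373 : Led Lsl_ct (LP (LK LD1_c4 LD2_c50 LD3_c51)) = (LP (LK LD1_c2 LD2_c23 LD3_c14)) :=
  Lre_c IH (LK LD1_c4 LD2_c50 LD3_c51) (LK LD1_c2 LD2_c23 LD3_c14) Lrfl Lrfl
theorem f167381 : Led Lsl_dt (LP (LK LD1_c9 LD2_c33 LD3_c49)) = (LP (LK LD1_c4 LD2_c50 LD3_c51)) :=
  Lre_d IH (LK LD1_c9 LD2_c33 LD3_c49) (LK LD1_c4 LD2_c50 LD3_c51) Lrfl Lrfl
theorem f232327 : Led Lsl_gt (LP (LK LD1_c8 LD2_c40 LD3_c30)) = (LP (LK LD1_c9 LD2_c33 LD3_c49)) :=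
  Lgr Lrot49 (Lpr_df (K1.f39059 IH) (Lpr_gf (f232308 IH) (Lpe (f30823 IH) (Lpr_gt (f1571 IH) (Lpr_dt (K0.f1552 IH) (Lpr_gt (K12.f286 IH) (Lpr_dt (f287 IH) (Lpe (f167373 IH) (Lpe (f167381 IH) (Lpn (LP (LK LD1_c9 LD2_c33 LD3_c49))))))))))))
theorem f184374 : Led Lsl_gf (LP (LK LD1_c4 LD2_c50 LD3_c56)) = (LP (LK LD1_c4 LD2_c21 LD3_c27)) :=
  Lgr Lrot47 (Lpr_gt (f184371 IH) (Lpr_af (K1.f39036 IH) (Lpe (K1.f39058 IH) (Lpn (LP (LK LD1_c4 LD2_c21 LD3_c27))))))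
theorem f233382 : Led Lsl_gt (LP (LK LD1_c8 LD2_c17 LD3_c3)) = (LP (LK LD1_c4 LD2_c52 LD3_c2)) :=
  Lgr Lrot150 (Lpr_cf (f233333 IH) (Lpe (f232327 IH) (Lpr_df (K1.f39059 IH) (Lpe (f184374 IH) (Lpr_ct (f1761 IH) (Lpr_gt (K9.f1612 IH) (Lpr_ct (K0.f1719 IH) (Lpe (K0.f1729 IH) (Lpe (K0.f1727 IH) (Lpn (LP (LK LD1_c4 LD2_c52 LD3_c2))))))))))))
theorem f1739 : Led Lsl_af (LP (LK LD1_c4 LD2_c52 LD3_c2)) = (LP (LK LD1_c4 LD2_c52 LD3_c0)) :=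
  Lgr Lrot68 (Lpr_ct (K0.f1727 IH) (Lpr_at (f1737 IH) (Lpr_ct (f1738 IH) (Lpn (LP (LK LD1_c4 LD2_c52 LD3_c0))))))
theorem f233386 : Led Lsl_gf (LP (LK LD1_c8 LD2_c17 LD3_c3)) = (LP (LK LD1_c4 LD2_c50 LD3_c59)) :=
  Lgr Lrot47 (Lpr_gt (f233382 IH) (Lpr_af (f1739 IH) (Lpr_ff (f1756 IH) (Lpn (LP (LK LD1_c4 LD2_c50 LD3_c59))))))
theorem f167357 : Led Lsl_dt (LP (LK LD1_c0 LD2_c57 LD3_c51)) = (LP (LK LD1_c2 LD2_c1 LD3_c36)) :=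
  Lre_d IH (LK LD1_c0 LD2_c57 LD3_c51) (LK LD1_c2 LD2_c1 LD3_c36) Lrfl Lrfl
theorem f28813 : Led Lsl_gt (LP (LK LD1_c2 LD2_c8 LD3_c12)) = (LP (LK LD1_c1 LD2_c1 LD3_c15)) :=
  Lre_g IH (LK LD1_c2 LD2_c8 LD3_c12) (LK LD1_c1 LD2_c1 LD3_c15) Lrfl Lrfl
theorem f184770 : Led Lsl_ct (LP (LK LD1_c2 LD2_c8 LD3_c12)) = (LP (LK LD1_c4 LD2_c21 LD3_c23)) :=
  Lre_c IH (LK LD1_c2 LD2_c8 LD3_c12) (LK LD1_c4 LD2_c21 LD3_c23) Lrfl Lrfl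
theorem f233393 : Led Lsl_gt (LP (LK LD1_c4 LD2_c21 LD3_c23)) = (LP (LK LD1_c2 LD2_c23 LD3_c18)) :=
  Lgr Lrot94 (Lpe (f184770 IH) (Lpr_gt (f28813 IH) (Lpr_dt (K1.f29074 IH) (Lpe (K12.f228930 IH) (Lpr_dt (f167357 IH) (Lpe (f167337 IH) (Lpe (f167338 IH) (Lpr_gf (f233386 IH) (Lpe (K0.f1720 IH) (Lpn (LP (LK LD1_c2 LD2_c23 LD3_c18))))))))))))
theorem f1759 : Led Lsl_at (LP (LK LD1_c1 LD2_c8 LD3_c57)) = (LP (LK LD1_c2 LD2_c23 LD3_c18)) :=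
  Lre_a IH (LK LD1_c1 LD2_c8 LD3_c57) (LK LD1_c2 LD2_c23 LD3_c18) Lrfl Lrfl
theorem f233404 : Led Lsl_gf (LP (LK LD1_c4 LD2_c21 LD3_c23)) = (LP (LK LD1_c2 LD2_c23 LD3_c47)) :=
  Lgr Lrot47 (Lpr_gt (f233393 IH) (Lpe (f1759 IH) (Lpe (K1.f1758 IH) (Lpn (LP (LK LD1_c2 LD2_c23 LD3_c47))))))
theorem f184771 : Led Lsl_dt (LP (LK LD1_c4 LD2_c21 LD3_c23)) = (LP (LK LD1_c8 LD2_c40 LD3_c21)) :=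
  Lre_d IH (LK LD1_c4 LD2_c21 LD3_c23) (LK LD1_c8 LD2_c40 LD3_c21) Lrfl Lrfl
theorem f233376 : Led Lsl_ct (LP (LK LD1_c8 LD2_c17 LD3_c3)) = (LP (LK LD1_c9 LD2_c33 LD3_c49)) :=
  Lgr Lrot59 (Lpr_cf (f233333 IH) (Lpn (LP (LK LD1_c9 LD2_c33 LD3_c49))))
theorem f39074 : Led Lsl_ft (LP (LK LD1_c8 LD2_c40 LD3_c30)) = (LP (LK LD1_c4 LD2_c21 LD3_c26)) :=
  Lgr Lrot54 (Lpr_df (K1.f39059 IH) (Lpe (f39073 IH) (Lpe (K1.f29124 IH) (Lpn (LP (LK LD1_c4 LD2_c21 LD3_c26))))))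
theorem f232989 : Led Lsl_af (LP (LK LD1_c7 LD2_c55 LD3_c28)) = (LP (LK LD1_c4 LD2_c21 LD3_c26)) :=
  Lgr Lrot109 (Lpr_cf (f232976 IH) (Lpe (f232984 IH) (Lpe (K11.f200061 IH) (Lpe (f29142 IH) (Lpe (K11.f29135 IH) (Lpe (f29140 IH) (Lpe (f29141 IH) (Lpe (f39065 IH) (Lpr_ft (f39074 IH) (Lpn (LP (LK LD1_c4 LD2_c21 LD3_c26))))))))))))
theorem f232998 : Led Lsl_gf (LP (LK LD1_c7 LD2_c55 LD3_c28)) = (LP (LK LD1_c9 LD2_c33 LD3_c49)) :=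
  Lgr Lrot76 (Lpr_af (f232989 IH) (Lpe (f39074 IH) (Lpr_gt (f232327 IH) (Lpn (LP (LK LD1_c9 LD2_c33 LD3_c49))))))
theorem f189243 : Led Lsl_dt (LP (LK LD1_c4 LD2_c50 LD3_c54)) = (LP (LK LD1_c9 LD2_c33 LD3_c53)) :=
  Lre_d IH (LK LD1_c4 LD2_c50 LD3_c54) (LK LD1_c9 LD2_c33 LD3_c53) Lrfl Lrfl
theorem f233705 : Led Lsl_cf (LP (LK LD1_c8 LD2_c40 LD3_c21)) = (LP (LK LD1_c9 LD2_c33 LD3_c53)) :=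
  Lgr Lrot14 (Lpe (f184771 IH) (Lpr_gf (f233404 IH) (Lpe (K0.f1718 IH) (Lpe (f233382 IH) (Lpr_ct (f233376 IH) (Lpe (f232998 IH) (Lpr_dt (f29120 IH) (Lpr_gt (f232325 IH) (Lpr_dt (f189243 IH) (Lpn (LP (LK LD1_c9 LD2_c33 LD3_c53))))))))))))
theorem f184780 : Led Lsl_dt (LP (LK LD1_c8 LD2_c40 LD3_c21)) = (LP (LK LD1_c4 LD2_c21 LD3_c23)) :=
  Lre_d IH (LK LD1_c8 LD2_c40 LD3_c21) (LK LD1_c4 LD2_c21 LD3_c23) Lrfl Lrfl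
theorem f184779 : Led Lsl_ct (LP (LK LD1_c4 LD2_c21 LD3_c23)) = (LP (LK LD1_c2 LD2_c8 LD3_c12)) :=
  Lre_c IH (LK LD1_c4 LD2_c21 LD3_c23) (LK LD1_c2 LD2_c8 LD3_c12) Lrfl Lrfl
theorem f184618 : Led Lsl_et (LP (LK LD1_c2 LD2_c28 LD3_c16)) = (LP (LK LD1_c1 LD2_c11 LD3_c21)) :=
  Lre_e IH (LK LD1_c2 LD2_c28 LD3_c16) (LK LD1_c1 LD2_c11 LD3_c21) Lrfl Lrfl
theorem f184767 : Led Lsl_dt (LP (LK LD1_c2 LD2_c28 LD3_c16)) = (LP (LK LD1_c2 LD2_c8 LD3_c12)) :=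
  Lgr Lrot136 (Lpr_et (f184618 IH) (Lpr_gf (K9.f184614 IH) (Lpe (K1.f44918 IH) (Lpr_dt (K1.f44589 IH) (Lpe (K0.f748 IH) (Lpe (K0.f9633 IH) (Lpe (K0.f28777 IH) (Lpe (K0.f28811 IH) (Lpr_dt (f28812 IH) (Lpe (f28813 IH) (Lpn (LP (LK LD1_c2 LD2_c8 LD3_c12)))))))))))))
theorem f184772 : Led Lsl_df (LP (LK LD1_c2 LD2_c28 LD3_c16)) = (LP (LK LD1_c2 LD2_c8 LD3_c12)) :=
  Lgr Lrot38 (Lpr_dt (f184767 IH) (Lpn (LP (LK LD1_c2 LD2_c8 LD3_c12))))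
theorem f33322 : Led Lsl_ct (LP (LK LD1_c2 LD2_c28 LD3_c16)) = (LP (LK LD1_c1 LD2_c11 LD3_c23)) :=
  Lre_c IH (LK LD1_c2 LD2_c28 LD3_c16) (LK LD1_c1 LD2_c11 LD3_c23) Lrfl Lrfl
theorem f33321 : Led Lsl_dt (LP (LK LD1_c4 LD2_c50 LD3_c56)) = (LP (LK LD1_c9 LD2_c33 LD3_c56)) :=
  Lre_d IH (LK LD1_c4 LD2_c50 LD3_c56) (LK LD1_c9 LD2_c33 LD3_c56) Lrfl Lrfl
theorem f232982 : Led Lsl_ct (LP (LK LD1_c7 LD2_c55 LD3_c28)) = (LP (LK LD1_c9 LD2_c34 LD3_c32)) :=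
  Lgr Lrot59 (Lpr_cf (f232976 IH) (Lpn (LP (LK LD1_c9 LD2_c34 LD3_c32))))
theorem f232994 : Led Lsl_at (LP (LK LD1_c9 LD2_c34 LD3_c32)) = (LP (LK LD1_c8 LD2_c40 LD3_c30)) :=
  Lgr Lrot107 (Lpe (f232982 IH) (Lpr_af (f232989 IH) (Lpe (K1.f29125 IH) (Lpn (LP (LK LD1_c8 LD2_c40 LD3_c30))))))
theorem f232996 : Led Lsl_ft (LP (LK LD1_c7 LD2_c55 LD3_c28)) = (LP (LK LD1_c9 LD2_c34 LD3_c32)) :=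
  Lgr Lrot101 (Lpr_af (f232989 IH) (Lpe (f39074 IH) (Lpe (f232994 IH) (Lpn (LP (LK LD1_c9 LD2_c34 LD3_c32))))))
theorem f233012 : Led Lsl_gt (LP (LK LD1_c9 LD2_c33 LD3_c46)) = (LP (LK LD1_c8 LD2_c40 LD3_c30)) :=
  Lgr Lrot46 (Lpr_gf (f184376 IH) (Lpr_ft (f232996 IH) (Lpr_at (f232994 IH) (Lpn (LP (LK LD1_c8 LD2_c40 LD3_c30))))))
theorem f167259 : Led Lsl_dt (LP (LK LD1_c4 LD2_c9 LD3_c15)) = (LP (LK LD1_c8 LD2_c18 LD3_c33)) :=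
  Lre_d IH (LK LD1_c4 LD2_c9 LD3_c15) (LK LD1_c8 LD2_c18 LD3_c33) Lrfl Lrfl
theorem f233337 : Led Lsl_cf (LP (LK LD1_c9 LD2_c33 LD3_c56)) = (LP (LK LD1_c8 LD2_c18 LD3_c33)) :=
  Lgr Lrot14 (Lpe (f33321 IH) (Lpr_gf (f184374 IH) (Lpe (f39065 IH) (Lpe (f233012 IH) (Lpr_ct (f233324 IH) (Lpe (f233316 IH) (Lpr_dt (K0.f1729 IH) (Lpe (K9.f167255 IH) (Lpr_dt (f167259 IH) (Lpn (LP (LK LD1_c8 LD2_c18 LD3_c33))))))))))))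
theorem f233341 : Led Lsl_ct (LP (LK LD1_c9 LD2_c33 LD3_c56)) = (LP (LK LD1_c8 LD2_c18 LD3_c33)) :=
  Lgr Lrot59 (Lpr_cf (f233337 IH) (Lpn (LP (LK LD1_c8 LD2_c18 LD3_c33))))
theorem f167258 : Led Lsl_dt (LP (LK LD1_c8 LD2_c18 LD3_c33)) = (LP (LK LD1_c4 LD2_c9 LD3_c15)) :=
  Lre_d IH (LK LD1_c8 LD2_c18 LD3_c33) (LK LD1_c4 LD2_c9 LD3_c15) Lrfl Lrfl
theorem f167271 : Led Lsl_dt (LP (LK LD1_c2 LD2_c1 LD3_c60)) = (LP (LK LD1_c4 LD2_c9 LD3_c16)) :=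
  Lre_d IH (LK LD1_c2 LD2_c1 LD3_c60) (LK LD1_c4 LD2_c9 LD3_c16) Lrfl Lrfl
theorem f185063 : Led Lsl_gt (LP (LK LD1_c1 LD2_c18 LD3_c19)) = (LP (LK LD1_c0 LD2_c36 LD3_c5)) :=
  Lre_g IH (LK LD1_c1 LD2_c18 LD3_c19) (LK LD1_c0 LD2_c36 LD3_c5) Lrfl Lrfl
theorem f189156 : Led Lsl_et (LP (LK LD1_c2 LD2_c43 LD3_c60)) = (LP (LK LD1_c1 LD2_c18 LD3_c19)) :=
  Lre_e IH (LK LD1_c2 LD2_c43 LD3_c60) (LK LD1_c1 LD2_c18 LD3_c19) Lrfl Lrfl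
theorem f8103 : Led Lsl_gt (LP (LK LD1_c1 LD2_c8 LD3_c45)) = (LP (LK LD1_c2 LD2_c23 LD3_c16)) :=
  Lre_g IH (LK LD1_c1 LD2_c8 LD3_c45) (LK LD1_c2 LD2_c23 LD3_c16) Lrfl Lrfl
theorem f189157 : Led Lsl_dt (LP (LK LD1_c2 LD2_c43 LD3_c60)) = (LP (LK LD1_c2 LD2_c23 LD3_c16)) :=
  Lgr Lrot37 (Lpr_et (f189156 IH) (Lpr_gt (f185063 IH) (Lpr_dt (K10.f187613 IH) (Lpr_gt (K10.f189141 IH) (Lpe (K10.f8099 IH) (Lpr_et (K0.f8098 IH) (Lpr_gt (K0.f8090 IH) (Lpe (K0.f1592 IH) (Lpr_dt (K0.f1611 IH) (Lpr_gt (f8103 IH) (Lpn (LP (LK LD1_c2 LD2_c23 LD3_c16)))))))))))))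
theorem f233711 : Led Lsl_ct (LP (LK LD1_c4 LD2_c9 LD3_c16)) = (LP (LK LD1_c2 LD2_c43 LD3_c60)) :=
  Lgr Lrot176 (Lpe (f167271 IH) (Lpe (f167257 IH) (Lpe (f167258 IH) (Lpe (f233341 IH) (Lpe (f33321 IH) (Lpe (f33320 IH) (Lpr_df (K0.f33316 IH) (Lpe (f33322 IH) (Lpr_df (f184772 IH) (Lpe (f184779 IH) (Lpe (f184780 IH) (Lpr_cf (f233705 IH) (Lpe (f189243 IH) (Lpe (f30823 IH) (Lpe (f189157 IH) (Lpn (LP (LK LD1_c2 LD2_c43 LD3_c60))))))))))))))))))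
theorem f233731 : Led Lsl_cf (LP (LK LD1_c4 LD2_c9 LD3_c16)) = (LP (LK LD1_c2 LD2_c43 LD3_c60)) :=
  Lgr Lrot11 (Lpr_ct (f233711 IH) (Lpn (LP (LK LD1_c2 LD2_c43 LD3_c60))))
theorem f233735 : Led Lsl_bt (LP (LK LD1_c4 LD2_c9 LD3_c16)) = (LP (LK LD1_c2 LD2_c2 LD3_c0)) :=
  Lre_b IH (LK LD1_c4 LD2_c9 LD3_c16) (LK LD1_c2 LD2_c2 LD3_c0) Lrfl Lrfl
theorem f53147 : Led Lsl_ct (LP (LK LD1_c2 LD2_c2 LD3_c0)) = (LP (LK LD1_c4 LD2_c9 LD3_c24)) :=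
  Lre_c IH (LK LD1_c2 LD2_c2 LD3_c0) (LK LD1_c4 LD2_c9 LD3_c24) Lrfl Lrfl
theorem f189239 : Led Lsl_bt (LP (LK LD1_c5 LD2_c36 LD3_c9)) = (LP (LK LD1_c2 LD2_c43 LD3_c60)) :=
  Lre_b IH (LK LD1_c5 LD2_c36 LD3_c9) (LK LD1_c2 LD2_c43 LD3_c60) Lrfl Lrfl
theorem f189244 : Led Lsl_df (LP (LK LD1_c2 LD2_c43 LD3_c60)) = (LP (LK LD1_c2 LD2_c23 LD3_c16)) :=
  Lgr Lrot38 (Lpr_dt (f189157 IH) (Lpn (LP (LK LD1_c2 LD2_c23 LD3_c16))))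
theorem f189254 : Led Lsl_bt (LP (LK LD1_c2 LD2_c43 LD3_c60)) = (LP (LK LD1_c5 LD2_c36 LD3_c9)) :=
  Lre_b IH (LK LD1_c2 LD2_c43 LD3_c60) (LK LD1_c5 LD2_c36 LD3_c9) Lrfl Lrfl
theorem f189255 : Led Lsl_dt (LP (LK LD1_c5 LD2_c36 LD3_c9)) = (LP (LK LD1_c4 LD2_c50 LD3_c53)) :=
  Lgr Lrot79 (Lpe (f189254 IH) (Lpr_df (f189244 IH) (Lpe (f1735 IH) (Lpn (LP (LK LD1_c4 LD2_c50 LD3_c53))))))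
theorem f189262 : Led Lsl_et (LP (LK LD1_c5 LD2_c36 LD3_c9)) = (LP (LK LD1_c2 LD2_c43 LD3_c57)) :=
  Lre_e IH (LK LD1_c5 LD2_c36 LD3_c9) (LK LD1_c2 LD2_c43 LD3_c57) Lrfl Lrfl
theorem f219187 : Led Lsl_gt (LP (LK LD1_c2 LD2_c43 LD3_c57)) = (LP (LK LD1_c4 LD2_c21 LD3_c5)) :=
  Lgr Lrot137 (Lpe (f189262 IH) (Lpr_dt (f189255 IH) (Lpr_gf (f219166 IH) (Lpe (K10.f45797 IH) (Lpr_et (K10.f45796 IH) (Lpr_gf (K12.f45788 IH) (Lpe (K10.f43243 IH) (Lpr_dt (K10.f43252 IH) (Lpe (K11.f191755 IH) (Lpr_df (f191726 IH) (Lpn (LP (LK LD1_c4 LD2_c21 LD3_c5)))))))))))))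
theorem f166890 : Led Lsl_gt (LP (LK LD1_c2 LD2_c3 LD3_c28)) = (LP (LK LD1_c0 LD2_c58 LD3_c41)) :=
  Lre_g IH (LK LD1_c2 LD2_c3 LD3_c28) (LK LD1_c0 LD2_c58 LD3_c41) Lrfl Lrfl
theorem f219191 : Led Lsl_cf (LP (LK LD1_c2 LD2_c43 LD3_c57)) = (LP (LK LD1_c2 LD2_c3 LD3_c28)) :=
  Lgr Lrot166 (Lpr_gt (f219187 IH) (Lpe (f191726 IH) (Lpr_gt (K11.f191755 IH) (Lpr_dt (K10.f31469 IH) (Lpr_ct (K9.f31463 IH) (Lpe (K1.f31465 IH) (Lpe (K10.f189448 IH) (Lpr_df (K10.f166854 IH) (Lpe (f166890 IH) (Lpn (LP (LK LD1_c2 LD2_c3 LD3_c28))))))))))))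
theorem f189259 : Led Lsl_et (LP (LK LD1_c2 LD2_c43 LD3_c57)) = (LP (LK LD1_c5 LD2_c36 LD3_c9)) :=
  Lre_e IH (LK LD1_c2 LD2_c43 LD3_c57) (LK LD1_c5 LD2_c36 LD3_c9) Lrfl Lrfl
theorem f166896 : Led Lsl_et (LP (LK LD1_c4 LD2_c12 LD3_c34)) = (LP (LK LD1_c2 LD2_c3 LD3_c28)) :=
  Lre_e IH (LK LD1_c4 LD2_c12 LD3_c34) (LK LD1_c2 LD2_c3 LD3_c28) Lrfl Lrfl
theorem f219195 : Led Lsl_ct (LP (LK LD1_c5 LD2_c36 LD3_c9)) = (LP (LK LD1_c4 LD2_c12 LD3_c34)) :=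
  Lgr Lrot15 (Lpe (f189259 IH) (Lpr_cf (f219191 IH) (Lpe (f166896 IH) (Lpn (LP (LK LD1_c4 LD2_c12 LD3_c34))))))
theorem f219197 : Led Lsl_cf (LP (LK LD1_c5 LD2_c36 LD3_c9)) = (LP (LK LD1_c4 LD2_c12 LD3_c34)) :=
  Lgr Lrot11 (Lpr_ct (f219195 IH) (Lpn (LP (LK LD1_c4 LD2_c12 LD3_c34))))
theorem f233845 : Led Lsl_bt (LP (LK LD1_c4 LD2_c9 LD3_c24)) = (LP (LK LD1_c4 LD2_c12 LD3_c34)) :=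
  Lgr Lrot128 (Lpe (f53147 IH) (Lpe (f233735 IH) (Lpr_cf (f233731 IH) (Lpe (f189239 IH) (Lpr_cf (f219197 IH) (Lpn (LP (LK LD1_c4 LD2_c12 LD3_c34))))))))
theorem f1405 : Led Lsl_dt (LP (LK LD1_c0 LD2_c57 LD3_c59)) = (LP (LK LD1_c2 LD2_c2 LD3_c0)) :=
  Lre_d IH (LK LD1_c0 LD2_c57 LD3_c59) (LK LD1_c2 LD2_c2 LD3_c0) Lrfl Lrfl
theorem f49157 : Led Lsl_gt (LP (LK LD1_c2 LD2_c28 LD3_c3)) = (LP (LK LD1_c5 LD2_c0 LD3_c35)) :=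
  Lre_g IH (LK LD1_c2 LD2_c28 LD3_c3) (LK LD1_c5 LD2_c0 LD3_c35) Lrfl Lrfl
theorem f190820 : Led Lsl_df (LP (LK LD1_c4 LD2_c9 LD3_c24)) = (LP (LK LD1_c5 LD2_c0 LD3_c35)) :=
  Lgr Lrot84 (Lpe (f53147 IH) (Lpe (f1405 IH) (Lpe (K9.f1404 IH) (Lpe (K1.f588 IH) (Lpe (K12.f605 IH) (Lpe (K12.f190819 IH) (Lpr_gt (K12.f190817 IH) (Lpr_dt (K12.f49156 IH) (Lpr_gt (f49157 IH) (Lpn (LP (LK LD1_c5 LD2_c0 LD3_c35))))))))))))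
theorem f43239 : Led Lsl_gt (LP (LK LD1_c1 LD2_c55 LD3_c52)) = (LP (LK LD1_c3 LD2_c58 LD3_c8)) :=
  Lre_g IH (LK LD1_c1 LD2_c55 LD3_c52) (LK LD1_c3 LD2_c58 LD3_c8) Lrfl Lrfl
theorem f189453 : Led Lsl_dt (LP (LK LD1_c4 LD2_c12 LD3_c34)) = (LP (LK LD1_c3 LD2_c58 LD3_c8)) :=
  Lgr Lrot37 (Lpr_et (f166896 IH) (Lpr_gt (f166890 IH) (Lpe (K10.f166854 IH) (Lpr_gt (K10.f189448 IH) (Lpe (K1.f31516 IH) (Lpr_et (K10.f31523 IH) (Lpr_gt (K1.f43237 IH) (Lpe (K1.f41259 IH) (Lpr_dt (K1.f41218 IH) (Lpr_gt (f43239 IH) (Lpn (LP (LK LD1_c3 LD2_c58 LD3_c8)))))))))))))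
theorem f233847 : Led Lsl_bf (LP (LK LD1_c5 LD2_c0 LD3_c35)) = (LP (LK LD1_c3 LD2_c58 LD3_c8)) :=
  Lgr Lrot93 (Lpe (f190820 IH) (Lpr_bt (f233845 IH) (Lpr_dt (f189453 IH) (Lpn (LP (LK LD1_c3 LD2_c58 LD3_c8))))))
theorem f190860 : Led Lsl_et (LP (LK LD1_c5 LD2_c0 LD3_c35)) = (LP (LK LD1_c9 LD2_c51 LD3_c27)) :=
  Lre_e IH (LK LD1_c5 LD2_c0 LD3_c35) (LK LD1_c9 LD2_c51 LD3_c27) Lrfl Lrfl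
theorem f41352 : Led Lsl_et (LP (LK LD1_c7 LD2_c57 LD3_c42)) = (LP (LK LD1_c3 LD2_c58 LD3_c8)) :=
  Lre_e IH (LK LD1_c7 LD2_c57 LD3_c42) (LK LD1_c3 LD2_c58 LD3_c8) Lrfl Lrfl
theorem f233857 : Led Lsl_bt (LP (LK LD1_c9 LD2_c51 LD3_c27)) = (LP (LK LD1_c7 LD2_c57 LD3_c42)) :=
  Lgr Lrot119 (Lpe (f190860 IH) (Lpr_bf (f233847 IH) (Lpe (f41352 IH) (Lpn (LP (LK LD1_c7 LD2_c57 LD3_c42))))))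
theorem f196499 : Led Lsl_ct (LP (LK LD1_c7 LD2_c57 LD3_c42)) = (LP (LK LD1_c15 LD2_c1 LD3_c0)) :=
  Lre_c IH (LK LD1_c7 LD2_c57 LD3_c42) (LK LD1_c15 LD2_c1 LD3_c0) Lrfl Lrfl
theorem f196498 : Led Lsl_bt (LP (LK LD1_c15 LD2_c1 LD3_c0)) = (LP (LK LD1_c24 LD2_c48 LD3_c45)) :=
  Lre_b IH (LK LD1_c15 LD2_c1 LD3_c0) (LK LD1_c24 LD2_c48 LD3_c45) Lrfl Lrfl
theorem f196424 : Led Lsl_bt (LP (LK LD1_c8 LD2_c8 LD3_c34)) = (LP (LK LD1_c4 LD2_c4 LD3_c0)) :=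
  Lre_b IH (LK LD1_c8 LD2_c8 LD3_c34) (LK LD1_c4 LD2_c4 LD3_c0) Lrfl Lrfl
theorem f196425 : Led Lsl_ct (LP (LK LD1_c8 LD2_c8 LD3_c34)) = (LP (LK LD1_c4 LD2_c4 LD3_c2)) :=
  Lre_c IH (LK LD1_c8 LD2_c8 LD3_c34) (LK LD1_c4 LD2_c4 LD3_c2) Lrfl Lrfl
theorem f196435 : Led Lsl_gt (LP (LK LD1_c8 LD2_c8 LD3_c41)) = (LP (LK LD1_c4 LD2_c4 LD3_c2)) :=
  Lre_g IH (LK LD1_c8 LD2_c8 LD3_c41) (LK LD1_c4 LD2_c4 LD3_c2) Lrfl Lrfl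
theorem f196436 : Led Lsl_ct (LP (LK LD1_c15 LD2_c20 LD3_c7)) = (LP (LK LD1_c8 LD2_c8 LD3_c41)) :=
  Lre_c IH (LK LD1_c15 LD2_c20 LD3_c7) (LK LD1_c8 LD2_c8 LD3_c41) Lrfl Lrfl
theorem f41969 : Led Lsl_ct (LP (LK LD1_c7 LD2_c57 LD3_c41)) = (LP (LK LD1_c3 LD2_c58 LD3_c8)) :=
  Lre_c IH (LK LD1_c7 LD2_c57 LD3_c41) (LK LD1_c3 LD2_c58 LD3_c8) Lrfl Lrfl
theorem f173839 : Led Lsl_bt (LP (LK LD1_c7 LD2_c57 LD3_c41)) = (LP (LK LD1_c15 LD2_c0 LD3_c60)) :=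
  Lre_b IH (LK LD1_c7 LD2_c57 LD3_c41) (LK LD1_c15 LD2_c0 LD3_c60) Lrfl Lrfl
theorem f189491 : Led Lsl_gt (LP (LK LD1_c15 LD2_c0 LD3_c60)) = (LP (LK LD1_c24 LD2_c48 LD3_c42)) :=
  Lre_g IH (LK LD1_c15 LD2_c0 LD3_c60) (LK LD1_c24 LD2_c48 LD3_c42) Lrfl Lrfl
theorem f196437 : Led Lsl_bt (LP (LK LD1_c15 LD2_c20 LD3_c7)) = (LP (LK LD1_c24 LD2_c48 LD3_c42)) :=
  Lgr Lrot92 (Lpr_ct (f196436 IH) (Lpr_gt (f196435 IH) (Lpe (f196425 IH) (Lpr_bt (f196424 IH) (Lpr_gt (K12.f196420 IH) (Lpr_ct (K1.f41198 IH) (Lpr_gt (f43239 IH) (Lpe (f41969 IH) (Lpr_bt (f173839 IH) (Lpr_gt (f189491 IH) (Lpn (LP (LK LD1_c24 LD2_c48 LD3_c42)))))))))))))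
theorem f196442 : Led Lsl_ct (LP (LK LD1_c8 LD2_c8 LD3_c41)) = (LP (LK LD1_c15 LD2_c20 LD3_c7)) :=
  Lre_c IH (LK LD1_c8 LD2_c8 LD3_c41) (LK LD1_c15 LD2_c20 LD3_c7) Lrfl Lrfl
theorem f196443 : Led Lsl_bt (LP (LK LD1_c15 LD2_c20 LD3_c6)) = (LP (LK LD1_c8 LD2_c8 LD3_c41)) :=
  Lre_b IH (LK LD1_c15 LD2_c20 LD3_c6) (LK LD1_c8 LD2_c8 LD3_c41) Lrfl Lrfl
theorem f196444 : Led Lsl_ct (LP (LK LD1_c15 LD2_c21 LD3_c3)) = (LP (LK LD1_c15 LD2_c20 LD3_c6)) :=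
  Lre_c IH (LK LD1_c15 LD2_c21 LD3_c3) (LK LD1_c15 LD2_c20 LD3_c6) Lrfl Lrfl
theorem f196445 : Led Lsl_bt (LP (LK LD1_c25 LD2_c12 LD3_c18)) = (LP (LK LD1_c15 LD2_c21 LD3_c3)) :=
  Lre_b IH (LK LD1_c25 LD2_c12 LD3_c18) (LK LD1_c15 LD2_c21 LD3_c3) Lrfl Lrfl
theorem f196446 : Led Lsl_cf (LP (LK LD1_c25 LD2_c12 LD3_c18)) = (LP (LK LD1_c24 LD2_c48 LD3_c42)) :=
  Lgr Lrot97 (Lpr_bt (f196445 IH) (Lpr_ct (f196444 IH) (Lpr_bt (f196443 IH) (Lpr_ct (f196442 IH) (Lpr_bt (f196437 IH) (Lpn (LP (LK LD1_c24 LD2_c48 LD3_c42))))))))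
theorem f196450 : Led Lsl_ct (LP (LK LD1_c25 LD2_c12 LD3_c18)) = (LP (LK LD1_c24 LD2_c48 LD3_c42)) :=
  Lgr Lrot59 (Lpr_cf (f196446 IH) (Lpn (LP (LK LD1_c24 LD2_c48 LD3_c42))))
theorem f196455 : Led Lsl_gt (LP (LK LD1_c15 LD2_c21 LD3_c3)) = (LP (LK LD1_c8 LD2_c9 LD3_c13)) :=
  Lre_g IH (LK LD1_c15 LD2_c21 LD3_c3) (LK LD1_c8 LD2_c9 LD3_c13) Lrfl Lrfl
theorem f196463 : Led Lsl_ct (LP (LK LD1_c8 LD2_c9 LD3_c13)) = (LP (LK LD1_c4 LD2_c4 LD3_c12)) :=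
  Lre_c IH (LK LD1_c8 LD2_c9 LD3_c13) (LK LD1_c4 LD2_c4 LD3_c12) Lrfl Lrfl
theorem f196464 : Led Lsl_gt (LP (LK LD1_c4 LD2_c4 LD3_c12)) = (LP (LK LD1_c1 LD2_c59 LD3_c2)) :=
  Lre_g IH (LK LD1_c4 LD2_c4 LD3_c12) (LK LD1_c1 LD2_c59 LD3_c2) Lrfl Lrfl
theorem f50156 : Led Lsl_bt (LP (LK LD1_c4 LD2_c2 LD3_c53)) = (LP (LK LD1_c1 LD2_c58 LD3_c27)) :=
  Lre_b IH (LK LD1_c4 LD2_c2 LD3_c53) (LK LD1_c1 LD2_c58 LD3_c27) Lrfl Lrfl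
theorem f50200 : Led Lsl_gt (LP (LK LD1_c1 LD2_c58 LD3_c27)) = (LP (LK LD1_c4 LD2_c2 LD3_c51)) :=
  Lre_g IH (LK LD1_c1 LD2_c58 LD3_c27) (LK LD1_c4 LD2_c2 LD3_c51) Lrfl Lrfl
theorem f196465 : Led Lsl_bt (LP (LK LD1_c8 LD2_c6 LD3_c14)) = (LP (LK LD1_c4 LD2_c2 LD3_c51)) :=
  Lre_b IH (LK LD1_c8 LD2_c6 LD3_c14) (LK LD1_c4 LD2_c2 LD3_c51) Lrfl Lrfl
theorem f196466 : Led Lsl_ct (LP (LK LD1_c8 LD2_c6 LD3_c14)) = (LP (LK LD1_c15 LD2_c0 LD3_c60)) :=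
  Lgr Lrot64 (Lpr_bt (f196465 IH) (Lpe (f50200 IH) (Lpe (f50156 IH) (Lpr_ct (K9.f50281 IH) (Lpe (f196464 IH) (Lpe (f196463 IH) (Lpe (f196455 IH) (Lpe (f196445 IH) (Lpr_ct (f196450 IH) (Lpe (f189491 IH) (Lpn (LP (LK LD1_c15 LD2_c0 LD3_c60)))))))))))))
theorem f196483 : Led Lsl_et (LP (LK LD1_c15 LD2_c15 LD3_c29)) = (LP (LK LD1_c8 LD2_c6 LD3_c14)) :=
  Lre_e IH (LK LD1_c15 LD2_c15 LD3_c29) (LK LD1_c8 LD2_c6 LD3_c14) Lrfl Lrfl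
theorem f196484 : Led Lsl_et (LP (LK LD1_c15 LD2_c0 LD3_c60)) = (LP (LK LD1_c24 LD2_c48 LD3_c45)) :=
  Lre_e IH (LK LD1_c15 LD2_c0 LD3_c60) (LK LD1_c24 LD2_c48 LD3_c45) Lrfl Lrfl
theorem f196485 : Led Lsl_cf (LP (LK LD1_c15 LD2_c15 LD3_c29)) = (LP (LK LD1_c24 LD2_c48 LD3_c45)) :=
  Lgr Lrot39 (Lpr_et (f196483 IH) (Lpr_ct (f196466 IH) (Lpr_et (f196484 IH) (Lpn (LP (LK LD1_c24 LD2_c48 LD3_c45))))))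
theorem f196497 : Led Lsl_bt (LP (LK LD1_c15 LD2_c15 LD3_c29)) = (LP (LK LD1_c8 LD2_c6 LD3_c16)) :=
  Lre_b IH (LK LD1_c15 LD2_c15 LD3_c29) (LK LD1_c8 LD2_c6 LD3_c16) Lrfl Lrfl
theorem f233861 : Led Lsl_cf (LP (LK LD1_c9 LD2_c51 LD3_c27)) = (LP (LK LD1_c8 LD2_c6 LD3_c16)) :=
  Lgr Lrot97 (Lpr_bt (f233857 IH) (Lpr_ct (f196499 IH) (Lpr_bt (f196498 IH) (Lpe (f196485 IH) (Lpr_bt (f196497 IH) (Lpn (LP (LK LD1_c8 LD2_c6 LD3_c16))))))))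
theorem f233872 : Led Lsl_ct (LP (LK LD1_c9 LD2_c51 LD3_c27)) = (LP (LK LD1_c8 LD2_c6 LD3_c16)) :=
  Lgr Lrot59 (Lpr_cf (f233861 IH) (Lpn (LP (LK LD1_c8 LD2_c6 LD3_c16))))
theorem f50202 : Led Lsl_et (LP (LK LD1_c8 LD2_c6 LD3_c16)) = (LP (LK LD1_c4 LD2_c2 LD3_c51)) :=
  Lre_e IH (LK LD1_c8 LD2_c6 LD3_c16) (LK LD1_c4 LD2_c2 LD3_c51) Lrfl Lrfl
theorem f233891 : Led Lsl_cf (LP (LK LD1_c5 LD2_c0 LD3_c35)) = (LP (LK LD1_c4 LD2_c2 LD3_c51)) :=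
  Lgr Lrot39 (Lpr_et (f190860 IH) (Lpr_ct (f233872 IH) (Lpr_et (f50202 IH) (Lpn (LP (LK LD1_c4 LD2_c2 LD3_c51))))))
theorem f222461 : Led Lsl_gf (LP (LK LD1_c4 LD2_c8 LD3_c31)) = (LP (LK LD1_c5 LD2_c0 LD3_c35)) :=
  Lgr Lrot76 (Lpr_af (K12.f222459 IH) (Lpe (K12.f212859 IH) (Lpr_gt (f49157 IH) (Lpn (LP (LK LD1_c5 LD2_c0 LD3_c35))))))
theorem f222224 : Led Lsl_gt (LP (LK LD1_c2 LD2_c1 LD3_c38)) = (LP (LK LD1_c0 LD2_c57 LD3_c56)) :=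
  Lgr Lrot149 (Lpe (K12.f222218 IH) (Lpr_gf (K12.f222214 IH) (Lpe (K12.f173214 IH) (Lpr_ct (K12.f173254 IH) (Lpe (K9.f27910 IH) (Lpe (K1.f28948 IH) (Lpr_bt (K10.f41976 IH) (Lpr_gf (K12.f219584 IH) (Lpe (K12.f190826 IH) (Lpr_ct (K12.f51449 IH) (Lpn (LP (LK LD1_c0 LD2_c57 LD3_c56)))))))))))))
theorem f190824 : Led Lsl_dt (LP (LK LD1_c0 LD2_c57 LD3_c56)) = (LP (LK LD1_c2 LD2_c1 LD3_c54)) :=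
  Lre_d IH (LK LD1_c0 LD2_c57 LD3_c56) (LK LD1_c2 LD2_c1 LD3_c54) Lrfl Lrfl
theorem f216876 : Led Lsl_gf (LP (LK LD1_c2 LD2_c40 LD3_c55)) = (LP (LK LD1_c4 LD2_c2 LD3_c51)) :=
  Lgr Lrot76 (Lpr_af (K12.f216843 IH) (Lpe (K9.f50196 IH) (Lpr_gt (f50200 IH) (Lpn (LP (LK LD1_c4 LD2_c2 LD3_c51))))))
theorem f584 : Led Lsl_ct (LP (LK LD1_c0 LD2_c57 LD3_c61)) = (LP (LK LD1_c0 LD2_c26 LD3_c20)) :=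
  Lre_c IH (LK LD1_c0 LD2_c57 LD3_c61) (LK LD1_c0 LD2_c26 LD3_c20) Lrfl Lrfl
theorem f1005 : Led Lsl_dt (LP (LK LD1_c2 LD2_c2 LD3_c9)) = (LP (LK LD1_c0 LD2_c57 LD3_c61)) :=
  Lre_d IH (LK LD1_c2 LD2_c2 LD3_c9) (LK LD1_c0 LD2_c57 LD3_c61) Lrfl Lrfl
theorem f216835 : Led Lsl_dt (LP (LK LD1_c2 LD2_c40 LD3_c55)) = (LP (LK LD1_c4 LD2_c9 LD3_c54)) :=
  Lgr Lrot173 (Lpe (K12.f216834 IH) (Lpe (K12.f213772 IH) (Lpr_cf (K12.f216828 IH) (Lpe (K12.f573 IH) (Lpe (K12.f51475 IH) (Lpe (K12.f51483 IH) (Lpe (K12.f50408 IH) (Lpe (K12.f50189 IH) (Lpe (K12.f50160 IH) (Lpe (K10.f33098 IH) (Lpe (K9.f50128 IH) (Lpe (K12.f594 IH) (Lpe (f584 IH) (Lpe (f1005 IH) (Lpe (K12.f50420 IH) (Lpn (LP (LK LD1_c4 LD2_c9 LD3_c54))))))))))))))))))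
theorem f233893 : Led Lsl_df (LP (LK LD1_c4 LD2_c9 LD3_c2)) = (LP (LK LD1_c8 LD2_c6 LD3_c26)) :=
  Lgr Lrot84 (Lpe (K12.f220732 IH) (Lpe (f190824 IH) (Lpe (f222224 IH) (Lpe (K12.f222221 IH) (Lpr_gf (f222461 IH) (Lpr_cf (f233891 IH) (Lpe (f216876 IH) (Lpr_dt (f216835 IH) (Lpr_gt (K12.f50514 IH) (Lpn (LP (LK LD1_c8 LD2_c6 LD3_c26))))))))))))
theorem f220213 : Led Lsl_ct (LP (LK LD1_c1 LD2_c17 LD3_c17)) = (LP (LK LD1_c2 LD2_c41 LD3_c11)) :=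
  Lre_c IH (LK LD1_c1 LD2_c17 LD3_c17) (LK LD1_c2 LD2_c41 LD3_c11) Lrfl Lrfl
theorem f228401 : Led Lsl_gt (LP (LK LD1_c4 LD2_c9 LD3_c2)) = (LP (LK LD1_c2 LD2_c41 LD3_c11)) :=
  Lgr Lrot65 (Lpe (K12.f220732 IH) (Lpr_bt (K12.f220733 IH) (Lpe (K12.f228398 IH) (Lpe (K12.f200414 IH) (Lpr_ct (K12.f196937 IH) (Lpr_gf (K12.f228267 IH) (Lpe (K11.f28922 IH) (Lpe (K12.f53020 IH) (Lpe (K12.f220220 IH) (Lpr_ct (f220213 IH) (Lpn (LP (LK LD1_c2 LD2_c41 LD3_c11)))))))))))))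
theorem f220215 : Led Lsl_ct (LP (LK LD1_c2 LD2_c41 LD3_c11)) = (LP (LK LD1_c1 LD2_c17 LD3_c17)) :=
  Lre_c IH (LK LD1_c2 LD2_c41 LD3_c11) (LK LD1_c1 LD2_c17 LD3_c17) Lrfl Lrfl
theorem f1300 : Led Lsl_gt (LP (LK LD1_c8 LD2_c6 LD3_c27)) = (LP (LK LD1_c4 LD2_c9 LD3_c53)) :=
  Lre_g IH (LK LD1_c8 LD2_c6 LD3_c27) (LK LD1_c4 LD2_c9 LD3_c53) Lrfl Lrfl
theorem f222529 : Led Lsl_ct (LP (LK LD1_c4 LD2_c9 LD3_c53)) = (LP (LK LD1_c8 LD2_c6 LD3_c5)) :=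
  Lgr Lrot59 (Lpr_cf (K12.f222519 IH) (Lpn (LP (LK LD1_c8 LD2_c6 LD3_c5))))
theorem f233927 : Led Lsl_gt (LP (LK LD1_c1 LD2_c17 LD3_c17)) = (LP (LK LD1_c1 LD2_c58 LD3_c24)) :=
  Lgr Lrot150 (Lpe (f220215 IH) (Lpe (f228401 IH) (Lpr_df (f233893 IH) (Lpr_gt (K12.f50513 IH) (Lpr_ct (K12.f50408 IH) (Lpr_gt (f1300 IH) (Lpr_ct (f222529 IH) (Lpe (K12.f219977 IH) (Lpe (K12.f53086 IH) (Lpn (LP (LK LD1_c1 LD2_c58 LD3_c24))))))))))))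
theorem f179861 : Led Lsl_bt (LP (LK LD1_c2 LD2_c7 LD3_c15)) = (LP (LK LD1_c1 LD2_c0 LD3_c42)) :=
  Lre_b IH (LK LD1_c2 LD2_c7 LD3_c15) (LK LD1_c1 LD2_c0 LD3_c42) Lrfl Lrfl
theorem f179862 : Led Lsl_ct (LP (LK LD1_c2 LD2_c7 LD3_c15)) = (LP (LK LD1_c4 LD2_c19 LD3_c44)) :=
  Lre_c IH (LK LD1_c2 LD2_c7 LD3_c15) (LK LD1_c4 LD2_c19 LD3_c44) Lrfl Lrfl
theorem f226785 : Led Lsl_bt (LP (LK LD1_c1 LD2_c58 LD3_c49)) = (LP (LK LD1_c0 LD2_c56 LD3_c14)) :=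
  Lre_b IH (LK LD1_c1 LD2_c58 LD3_c49) (LK LD1_c0 LD2_c56 LD3_c14) Lrfl Lrfl
theorem f226786 : Led Lsl_gt (LP (LK LD1_c4 LD2_c19 LD3_c44)) = (LP (LK LD1_c4 LD2_c3 LD3_c40)) :=
  Lgr Lrot65 (Lpe (f179862 IH) (Lpr_bt (f179861 IH) (Lpr_gf (K9.f179849 IH) (Lpe (K12.f200692 IH) (Lpr_ct (K12.f223732 IH) (Lpr_gf (K12.f226776 IH) (Lpe (K12.f53021 IH) (Lpe (K12.f226780 IH) (Lpe (f226785 IH) (Lpr_ct (K12.f201090 IH) (Lpn (LP (LK LD1_c4 LD2_c3 LD3_c40)))))))))))))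
theorem f55005 : Led Lsl_dt (LP (LK LD1_c3 LD2_c58 LD3_c6)) = (LP (LK LD1_c1 LD2_c55 LD3_c50)) :=
  Lre_d IH (LK LD1_c3 LD2_c58 LD3_c6) (LK LD1_c1 LD2_c55 LD3_c50) Lrfl Lrfl
theorem f226816 : Led Lsl_gf (LP (LK LD1_c2 LD2_c7 LD3_c15)) = (LP (LK LD1_c3 LD2_c58 LD3_c6)) :=
  Lgr Lrot147 (Lpr_ct (f179862 IH) (Lpr_gt (f226786 IH) (Lpr_ct (K12.f201104 IH) (Lpe (K12.f201089 IH) (Lpe (K12.f201101 IH) (Lpe (K11.f7852 IH) (Lpe (K12.f199762 IH) (Lpe (K11.f173834 IH) (Lpe (f55005 IH) (Lpn (LP (LK LD1_c3 LD2_c58 LD3_c6))))))))))))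
theorem f199609 : Led Lsl_ct (LP (LK LD1_c1 LD2_c55 LD3_c50)) = (LP (LK LD1_c2 LD2_c23 LD3_c11)) :=
  Lgr Lrot59 (Lpr_cf (K11.f199586 IH) (Lpn (LP (LK LD1_c2 LD2_c23 LD3_c11))))
theorem f199617 : Led Lsl_bf (LP (LK LD1_c1 LD2_c55 LD3_c50)) = (LP (LK LD1_c0 LD2_c57 LD3_c52)) :=
  Lgr Lrot90 (Lpr_ct (f199609 IH) (Lpr_bt (K11.f1736 IH) (Lpe (K12.f167334 IH) (Lpr_bt (K12.f51453 IH) (Lpr_ct (K12.f167356 IH) (Lpn (LP (LK LD1_c0 LD2_c57 LD3_c52))))))))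
theorem f41266 : Led Lsl_dt (LP (LK LD1_c1 LD2_c55 LD3_c50)) = (LP (LK LD1_c3 LD2_c58 LD3_c6)) :=
  Lre_d IH (LK LD1_c1 LD2_c55 LD3_c50) (LK LD1_c3 LD2_c58 LD3_c6) Lrfl Lrfl
theorem f199687 : Led Lsl_dt (LP (LK LD1_c2 LD2_c1 LD3_c39)) = (LP (LK LD1_c0 LD2_c57 LD3_c52)) :=
  Lre_d IH (LK LD1_c2 LD2_c1 LD3_c39) (LK LD1_c0 LD2_c57 LD3_c52) Lrfl Lrfl
theorem f199688 : Led Lsl_bt (LP (LK LD1_c3 LD2_c58 LD3_c6)) = (LP (LK LD1_c2 LD2_c1 LD3_c39)) :=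
  Lgr Lrot95 (Lpe (f41266 IH) (Lpr_bf (f199617 IH) (Lpe (f199687 IH) (Lpn (LP (LK LD1_c2 LD2_c1 LD3_c39))))))
theorem f199692 : Led Lsl_bf (LP (LK LD1_c3 LD2_c58 LD3_c6)) = (LP (LK LD1_c2 LD2_c1 LD3_c39)) :=
  Lgr Lrot24 (Lpr_bt (f199688 IH) (Lpn (LP (LK LD1_c2 LD2_c1 LD3_c39))))
theorem f199695 : Led Lsl_ct (LP (LK LD1_c2 LD2_c1 LD3_c39)) = (LP (LK LD1_c4 LD2_c8 LD3_c34)) :=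
  Lre_c IH (LK LD1_c2 LD2_c1 LD3_c39) (LK LD1_c4 LD2_c8 LD3_c34) Lrfl Lrfl
theorem f226824 : Led Lsl_gf (LP (LK LD1_c4 LD2_c8 LD3_c34)) = (LP (LK LD1_c2 LD2_c41 LD3_c11)) :=
  Lgr Lrot126 (Lpe (f199695 IH) (Lpe (f199692 IH) (Lpe (f226816 IH) (Lpr_ct (f179862 IH) (Lpr_gt (f226786 IH) (Lpe (K12.f201090 IH) (Lpr_bt (f226785 IH) (Lpr_gt (K12.f226780 IH) (Lpe (K12.f220220 IH) (Lpr_ct (f220213 IH) (Lpn (LP (LK LD1_c2 LD2_c41 LD3_c11)))))))))))))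
theorem f51400 : Led Lsl_dt (LP (LK LD1_c1 LD2_c58 LD3_c24)) = (LP (LK LD1_c0 LD2_c56 LD3_c3)) :=
  Lre_d IH (LK LD1_c1 LD2_c58 LD3_c24) (LK LD1_c0 LD2_c56 LD3_c3) Lrfl Lrfl
theorem f50518 : Led Lsl_gt (LP (LK LD1_c8 LD2_c6 LD3_c25)) = (LP (LK LD1_c4 LD2_c9 LD3_c54)) :=
  Lre_g IH (LK LD1_c8 LD2_c6 LD3_c25) (LK LD1_c4 LD2_c9 LD3_c54) Lrfl Lrfl
theorem f233929 : Led Lsl_dt (LP (LK LD1_c4 LD2_c8 LD3_c34)) = (LP (LK LD1_c8 LD2_c6 LD3_c25)) :=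
  Lgr Lrot57 (Lpr_gf (f226824 IH) (Lpe (f220213 IH) (Lpr_gt (f233927 IH) (Lpr_dt (f51400 IH) (Lpr_gt (K12.f220598 IH) (Lpr_dt (K12.f213772 IH) (Lpe (K12.f216848 IH) (Lpr_df (K12.f216889 IH) (Lpe (f50518 IH) (Lpn (LP (LK LD1_c8 LD2_c6 LD3_c25))))))))))))
theorem f217109 : Led Lsl_ct (LP (LK LD1_c2 LD2_c41 LD3_c14)) = (LP (LK LD1_c1 LD2_c17 LD3_c18)) :=
  Lre_c IH (LK LD1_c2 LD2_c41 LD3_c14) (LK LD1_c1 LD2_c17 LD3_c18) Lrfl Lrfl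
theorem f234112 : Led Lsl_gt (LP (LK LD1_c4 LD2_c8 LD3_c34)) = (LP (LK LD1_c2 LD2_c41 LD3_c14)) :=
  Lgr Lrot146 (Lpr_dt (f233929 IH) (Lpr_gt (f50518 IH) (Lpr_ct (K12.f50420 IH) (Lpr_gt (K12.f1039 IH) (Lpr_ct (K12.f216998 IH) (Lpr_dt (K12.f216962 IH) (Lpe (K12.f179128 IH) (Lpe (K12.f168355 IH) (Lpe (f217109 IH) (Lpn (LP (LK LD1_c2 LD2_c41 LD3_c14))))))))))))
theorem f50186 : Led Lsl_ct (LP (LK LD1_c1 LD2_c58 LD3_c27)) = (LP (LK LD1_c0 LD2_c56 LD3_c4)) :=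
  Lre_c IH (LK LD1_c1 LD2_c58 LD3_c27) (LK LD1_c0 LD2_c56 LD3_c4) Lrfl Lrfl
theorem f50204 : Led Lsl_gt (LP (LK LD1_c4 LD2_c2 LD3_c52)) = (LP (LK LD1_c1 LD2_c58 LD3_c27)) :=
  Lre_g IH (LK LD1_c4 LD2_c2 LD3_c52) (LK LD1_c1 LD2_c58 LD3_c27) Lrfl Lrfl
theorem f232128 : Led Lsl_ct (LP (LK LD1_c5 LD2_c0 LD3_c36)) = (LP (LK LD1_c4 LD2_c2 LD3_c52)) :=
  Lgr Lrot152 (Lpr_gf (f232126 IH) (Lpe (f199616 IH) (Lpr_gt (f222224 IH) (Lpr_ct (K12.f190819 IH) (Lpr_gt (K12.f605 IH) (Lpr_ct (K9.f50128 IH) (Lpe (K12.f50132 IH) (Lpe (f50186 IH) (Lpe (f50204 IH) (Lpn (LP (LK LD1_c4 LD2_c2 LD3_c52))))))))))))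
theorem f51391 : Led Lsl_gt (LP (LK LD1_c4 LD2_c2 LD3_c54)) = (LP (LK LD1_c8 LD2_c6 LD3_c25)) :=
  Lre_g IH (LK LD1_c4 LD2_c2 LD3_c54) (LK LD1_c8 LD2_c6 LD3_c25) Lrfl Lrfl
theorem f199760 : Led Lsl_dt (LP (LK LD1_c0 LD2_c57 LD3_c52)) = (LP (LK LD1_c2 LD2_c1 LD3_c39)) :=
  Lre_d IH (LK LD1_c0 LD2_c57 LD3_c52) (LK LD1_c2 LD2_c1 LD3_c39) Lrfl Lrfl
theorem f199736 : Led Lsl_ct (LP (LK LD1_c4 LD2_c8 LD3_c34)) = (LP (LK LD1_c2 LD2_c1 LD3_c39)) :=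
  Lre_c IH (LK LD1_c4 LD2_c8 LD3_c34) (LK LD1_c2 LD2_c1 LD3_c39) Lrfl Lrfl
theorem f232149 : Led Lsl_dt (LP (LK LD1_c8 LD2_c6 LD3_c25)) = (LP (LK LD1_c4 LD2_c8 LD3_c34)) :=
  Lgr Lrot105 (Lpe (f51391 IH) (Lpe (K12.f50189 IH) (Lpe (f50204 IH) (Lpe (f232128 IH) (Lpr_gt (f48171 IH) (Lpr_dt (K9.f48170 IH) (Lpr_gt (f232147 IH) (Lpr_dt (f199760 IH) (Lpe (f199736 IH) (Lpn (LP (LK LD1_c4 LD2_c8 LD3_c34))))))))))))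
theorem f220045 : Led Lsl_dt (LP (LK LD1_c4 LD2_c8 LD3_c40)) = (LP (LK LD1_c8 LD2_c17 LD3_c24)) :=
  Lre_d IH (LK LD1_c4 LD2_c8 LD3_c40) (LK LD1_c8 LD2_c17 LD3_c24) Lrfl Lrfl
theorem f220566 : Led Lsl_dt (LP (LK LD1_c2 LD2_c41 LD3_c14)) = (LP (LK LD1_c5 LD2_c29 LD3_c49)) :=
  Lre_d IH (LK LD1_c2 LD2_c41 LD3_c14) (LK LD1_c5 LD2_c29 LD3_c49) Lrfl Lrfl
theorem f234121 : Led Lsl_cf (LP (LK LD1_c8 LD2_c17 LD3_c24)) = (LP (LK LD1_c5 LD2_c29 LD3_c49)) :=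
  Lgr Lrot14 (Lpe (f220045 IH) (Lpr_gf (K12.f220338 IH) (Lpe (K12.f222531 IH) (Lpe (f1300 IH) (Lpr_ct (K12.f50438 IH) (Lpr_gt (f51391 IH) (Lpr_dt (f232149 IH) (Lpr_gt (f234112 IH) (Lpr_dt (f220566 IH) (Lpn (LP (LK LD1_c5 LD2_c29 LD3_c49))))))))))))
theorem f220041 : Led Lsl_dt (LP (LK LD1_c8 LD2_c17 LD3_c24)) = (LP (LK LD1_c4 LD2_c8 LD3_c40)) :=
  Lre_d IH (LK LD1_c8 LD2_c17 LD3_c24) (LK LD1_c4 LD2_c8 LD3_c40) Lrfl Lrfl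
theorem f220576 : Led Lsl_ft (LP (LK LD1_c0 LD2_c59 LD3_c45)) = (LP (LK LD1_c2 LD2_c5 LD3_c25)) :=
  Lre_f IH (LK LD1_c0 LD2_c59 LD3_c45) (LK LD1_c2 LD2_c5 LD3_c25) Lrfl Lrfl
theorem f234163 : Led Lsl_af (LP (LK LD1_c2 LD2_c41 LD3_c12)) = (LP (LK LD1_c2 LD2_c5 LD3_c25)) :=
  Lgr Lrot109 (Lpr_cf (K12.f220209 IH) (Lpe (K12.f220062 IH) (Lpe (K12.f220042 IH) (Lpe (f220041 IH) (Lpr_cf (f234121 IH) (Lpe (f220566 IH) (Lpe (K12.f220565 IH) (Lpr_df (K12.f220562 IH) (Lpr_ft (f220576 IH) (Lpn (LP (LK LD1_c2 LD2_c5 LD3_c25))))))))))))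
theorem f220579 : Led Lsl_gt (LP (LK LD1_c0 LD2_c59 LD3_c45)) = (LP (LK LD1_c2 LD2_c5 LD3_c24)) :=
  Lre_g IH (LK LD1_c0 LD2_c59 LD3_c45) (LK LD1_c2 LD2_c5 LD3_c24) Lrfl Lrfl
theorem f234168 : Led Lsl_gf (LP (LK LD1_c2 LD2_c41 LD3_c12)) = (LP (LK LD1_c2 LD2_c5 LD3_c24)) :=
  Lgr Lrot76 (Lpr_af (f234163 IH) (Lpe (f220576 IH) (Lpr_gt (f220579 IH) (Lpn (LP (LK LD1_c2 LD2_c5 LD3_c24))))))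
theorem f165223 : Led Lsl_bt (LP (LK LD1_c0 LD2_c16 LD3_c19)) = (LP (LK LD1_c0 LD2_c36 LD3_c33)) :=
  Lre_b IH (LK LD1_c0 LD2_c16 LD3_c19) (LK LD1_c0 LD2_c36 LD3_c33) Lrfl Lrfl
theorem f179105 : Led Lsl_bt (LP (LK LD1_c2 LD2_c45 LD3_c37)) = (LP (LK LD1_c1 LD2_c19 LD3_c9)) :=
  Lre_b IH (LK LD1_c2 LD2_c45 LD3_c37) (LK LD1_c1 LD2_c19 LD3_c9) Lrfl Lrfl
theorem f234170 : Led Lsl_ct (LP (LK LD1_c2 LD2_c45 LD3_c37)) = (LP (LK LD1_c2 LD2_c5 LD3_c24)) :=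
  Lgr Lrot64 (Lpr_bt (f179105 IH) (Lpe (K12.f179104 IH) (Lpe (f165223 IH) (Lpr_ct (K9.f165220 IH) (Lpe (K9.f179098 IH) (Lpe (K9.f3086 IH) (Lpr_gf (K9.f170281 IH) (Lpe (K12.f170285 IH) (Lpe (K12.f220209 IH) (Lpr_gf (f234168 IH) (Lpn (LP (LK LD1_c2 LD2_c5 LD3_c24)))))))))))))
theorem f234174 : Led Lsl_cf (LP (LK LD1_c2 LD2_c45 LD3_c37)) = (LP (LK LD1_c2 LD2_c5 LD3_c24)) :=
  Lgr Lrot11 (Lpr_ct (f234170 IH) (Lpn (LP (LK LD1_c2 LD2_c5 LD3_c24))))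
theorem f200403 : Led Lsl_df (LP (LK LD1_c1 LD2_c19 LD3_c9)) = (LP (LK LD1_c1 LD2_c9 LD3_c18)) :=
  Lgr Lrot38 (Lpr_dt (K12.f200399 IH) (Lpn (LP (LK LD1_c1 LD2_c9 LD3_c18))))
theorem f200562 : Led Lsl_bt (LP (LK LD1_c1 LD2_c19 LD3_c9)) = (LP (LK LD1_c2 LD2_c45 LD3_c37)) :=
  Lre_b IH (LK LD1_c1 LD2_c19 LD3_c9) (LK LD1_c2 LD2_c45 LD3_c37) Lrfl Lrfl
theorem f30815 : Led Lsl_bt (LP (LK LD1_c2 LD2_c24 LD3_c17)) = (LP (LK LD1_c1 LD2_c9 LD3_c18)) :=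
  Lre_b IH (LK LD1_c2 LD2_c24 LD3_c17) (LK LD1_c1 LD2_c9 LD3_c18) Lrfl Lrfl
theorem f200568 : Led Lsl_dt (LP (LK LD1_c2 LD2_c45 LD3_c37)) = (LP (LK LD1_c2 LD2_c24 LD3_c17)) :=
  Lgr Lrot79 (Lpe (f200562 IH) (Lpr_df (f200403 IH) (Lpe (f30815 IH) (Lpn (LP (LK LD1_c2 LD2_c24 LD3_c17))))))
theorem f51512 : Led Lsl_bt (LP (LK LD1_c0 LD2_c58 LD3_c0)) = (LP (LK LD1_c0 LD2_c26 LD3_c31)) :=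
  Lre_b IH (LK LD1_c0 LD2_c58 LD3_c0) (LK LD1_c0 LD2_c26 LD3_c31) Lrfl Lrfl
theorem f50428 : Led Lsl_gt (LP (LK LD1_c4 LD2_c8 LD3_c22)) = (LP (LK LD1_c2 LD2_c2 LD3_c10)) :=
  Lre_g IH (LK LD1_c4 LD2_c8 LD3_c22) (LK LD1_c2 LD2_c2 LD3_c10) Lrfl Lrfl
theorem f2209 : Led Lsl_bt (LP (LK LD1_c0 LD2_c14 LD3_c12)) = (LP (LK LD1_c0 LD2_c31 LD3_c51)) :=
  Lre_b IH (LK LD1_c0 LD2_c14 LD3_c12) (LK LD1_c0 LD2_c31 LD3_c51) Lrfl Lrfl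
theorem f170332 : Led Lsl_cf (LP (LK LD1_c4 LD2_c8 LD3_c22)) = (LP (LK LD1_c2 LD2_c24 LD3_c17)) :=
  Lgr Lrot160 (Lpr_gt (f50428 IH) (Lpe (K12.f47727 IH) (Lpr_bt (f51512 IH) (Lpr_gt (K9.f53374 IH) (Lpr_ct (K9.f53376 IH) (Lpr_gt (K9.f170109 IH) (Lpe (K0.f2178 IH) (Lpr_bt (f2209 IH) (Lpr_gt (K12.f2232 IH) (Lpe (f30815 IH) (Lpn (LP (LK LD1_c2 LD2_c24 LD3_c17)))))))))))))
theorem f170336 : Led Lsl_ct (LP (LK LD1_c4 LD2_c8 LD3_c22)) = (LP (LK LD1_c2 LD2_c24 LD3_c17)) :=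
  Lgr Lrot59 (Lpr_cf (f170332 IH) (Lpn (LP (LK LD1_c2 LD2_c24 LD3_c17))))
theorem f1301 : Led Lsl_gt (LP (LK LD1_c2 LD2_c1 LD3_c34)) = (LP (LK LD1_c4 LD2_c8 LD3_c22)) :=
  Lre_g IH (LK LD1_c2 LD2_c1 LD3_c34) (LK LD1_c4 LD2_c8 LD3_c22) Lrfl Lrfl
theorem f47542 : Led Lsl_df (LP (LK LD1_c1 LD2_c14 LD3_c18)) = (LP (LK LD1_c2 LD2_c1 LD3_c33)) :=
  Lgr Lrot38 (Lpr_dt (K10.f47536 IH) (Lpn (LP (LK LD1_c2 LD2_c1 LD3_c33))))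
theorem f220567 : Led Lsl_ct (LP (LK LD1_c2 LD2_c5 LD3_c21)) = (LP (LK LD1_c0 LD2_c59 LD3_c45)) :=
  Lre_c IH (LK LD1_c2 LD2_c5 LD3_c21) (LK LD1_c0 LD2_c59 LD3_c45) Lrfl Lrfl
theorem f234197 : Led Lsl_gt (LP (LK LD1_c1 LD2_c14 LD3_c18)) = (LP (LK LD1_c2 LD2_c5 LD3_c21)) :=
  Lgr Lrot9 (Lpr_df (f47542 IH) (Lpr_gt (K10.f1329 IH) (Lpr_ct (f886 IH) (Lpr_gt (f1301 IH) (Lpr_ct (f170336 IH) (Lpe (f200568 IH) (Lpr_cf (f234174 IH) (Lpe (f220579 IH) (Lpe (f220567 IH) (Lpn (LP (LK LD1_c2 LD2_c5 LD3_c21))))))))))))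
theorem f47539 : Led Lsl_ct (LP (LK LD1_c2 LD2_c34 LD3_c31)) = (LP (LK LD1_c1 LD2_c14 LD3_c18)) :=
  Lre_c IH (LK LD1_c2 LD2_c34 LD3_c31) (LK LD1_c1 LD2_c14 LD3_c18) Lrfl Lrfl
theorem f47551 : Led Lsl_gt (LP (LK LD1_c5 LD2_c15 LD3_c20)) = (LP (LK LD1_c2 LD2_c34 LD3_c31)) :=
  Lre_g IH (LK LD1_c5 LD2_c15 LD3_c20) (LK LD1_c2 LD2_c34 LD3_c31) Lrfl Lrfl
theorem f199704 : Led Lsl_gt (LP (LK LD1_c4 LD2_c8 LD3_c33)) = (LP (LK LD1_c2 LD2_c1 LD3_c39)) :=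
  Lre_g IH (LK LD1_c4 LD2_c8 LD3_c33) (LK LD1_c2 LD2_c1 LD3_c39) Lrfl Lrfl
theorem f234203 : Led Lsl_df (LP (LK LD1_c5 LD2_c15 LD3_c20)) = (LP (LK LD1_c4 LD2_c8 LD3_c33)) :=
  Lgr Lrot155 (Lpr_gt (f47551 IH) (Lpr_ct (f47539 IH) (Lpr_gt (f234197 IH) (Lpr_ct (f220567 IH) (Lpe (K12.f220562 IH) (Lpe (f217109 IH) (Lpe (f234112 IH) (Lpe (f199695 IH) (Lpe (f199704 IH) (Lpn (LP (LK LD1_c4 LD2_c8 LD3_c33))))))))))))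
theorem f189628 : Led Lsl_et (LP (LK LD1_c2 LD2_c34 LD3_c31)) = (LP (LK LD1_c1 LD2_c14 LD3_c16)) :=
  Lre_e IH (LK LD1_c2 LD2_c34 LD3_c31) (LK LD1_c1 LD2_c14 LD3_c16) Lrfl Lrfl
theorem f223088 : Led Lsl_df (LP (LK LD1_c3 LD2_c58 LD3_c27)) = (LP (LK LD1_c2 LD2_c34 LD3_c31)) :=
  Lgr Lrot168 (Lpr_gf (K12.f223075 IH) (Lpe (f212851 IH) (Lpr_et (K12.f212846 IH) (Lpr_gf (K12.f222242 IH) (Lpe (K12.f189657 IH) (Lpe (K12.f189655 IH) (Lpr_gf (K12.f189620 IH) (Lpe (K11.f47684 IH) (Lpe (K10.f47683 IH) (Lpe (f189628 IH) (Lpn (LP (LK LD1_c2 LD2_c34 LD3_c31)))))))))))))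
theorem f50178 : Led Lsl_dt (LP (LK LD1_c10 LD2_c23 LD3_c27)) = (LP (LK LD1_c5 LD2_c16 LD3_c57)) :=
  Lre_d IH (LK LD1_c10 LD2_c23 LD3_c27) (LK LD1_c5 LD2_c16 LD3_c57) Lrfl Lrfl
theorem f220207 : Led Lsl_ct (LP (LK LD1_c2 LD2_c41 LD3_c12)) = (LP (LK LD1_c2 LD2_c6 LD3_c55)) :=
  Lgr Lrot7 (Lpe (K12.f175247 IH) (Lpe (K12.f175246 IH) (Lpe (K12.f216847 IH) (Lpe (K12.f168196 IH) (Lpr_cf (K12.f216828 IH) (Lpr_gt (K12.f574 IH) (Lpr_dt (K12.f51443 IH) (Lpe (K12.f220046 IH) (Lpr_dt (K12.f220062 IH) (Lpn (LP (LK LD1_c2 LD2_c6 LD3_c55))))))))))))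
theorem f234176 : Led Lsl_gf (LP (LK LD1_c2 LD2_c45 LD3_c37)) = (LP (LK LD1_c2 LD2_c4 LD3_c27)) :=
  Lgr Lrot147 (Lpr_ct (f234170 IH) (Lpe (f234168 IH) (Lpr_ct (f220207 IH) (Lpe (K12.f220062 IH) (Lpe (K12.f220042 IH) (Lpr_gf (K12.f220338 IH) (Lpe (K12.f168361 IH) (Lpe (K12.f168373 IH) (Lpr_df (K12.f220515 IH) (Lpn (LP (LK LD1_c2 LD2_c4 LD3_c27))))))))))))
theorem f50429 : Led Lsl_dt (LP (LK LD1_c8 LD2_c16 LD3_c49)) = (LP (LK LD1_c4 LD2_c8 LD3_c22)) :=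
  Lre_d IH (LK LD1_c8 LD2_c16 LD3_c49) (LK LD1_c4 LD2_c8 LD3_c22) Lrfl Lrfl
theorem f167324 : Led Lsl_et (LP (LK LD1_c4 LD2_c14 LD3_c5)) = (LP (LK LD1_c2 LD2_c4 LD3_c25)) :=
  Lre_e IH (LK LD1_c4 LD2_c14 LD3_c5) (LK LD1_c2 LD2_c4 LD3_c25) Lrfl Lrfl
theorem f177956 : Led Lsl_dt (LP (LK LD1_c0 LD2_c16 LD3_c4)) = (LP (LK LD1_c0 LD2_c36 LD3_c4)) :=
  Lre_d IH (LK LD1_c0 LD2_c16 LD3_c4) (LK LD1_c0 LD2_c36 LD3_c4) Lrfl Lrfl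
theorem f178050 : Led Lsl_gt (LP (LK LD1_c0 LD2_c36 LD3_c4)) = (LP (LK LD1_c1 LD2_c18 LD3_c14)) :=
  Lre_g IH (LK LD1_c0 LD2_c36 LD3_c4) (LK LD1_c1 LD2_c18 LD3_c14) Lrfl Lrfl
theorem f1623 : Led Lsl_et (LP (LK LD1_c2 LD2_c23 LD3_c15)) = (LP (LK LD1_c1 LD2_c8 LD3_c44)) :=
  Lre_e IH (LK LD1_c2 LD2_c23 LD3_c15) (LK LD1_c1 LD2_c8 LD3_c44) Lrfl Lrfl
theorem f189134 : Led Lsl_df (LP (LK LD1_c1 LD2_c18 LD3_c14)) = (LP (LK LD1_c2 LD2_c23 LD3_c15)) :=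
  Lgr Lrot132 (Lpe (f178050 IH) (Lpe (f177956 IH) (Lpr_gf (K10.f189097 IH) (Lpe (K10.f33131 IH) (Lpe (K0.f33129 IH) (Lpe (K0.f30827 IH) (Lpe (K0.f28746 IH) (Lpr_et (K0.f1594 IH) (Lpe (K12.f2073 IH) (Lpe (f1623 IH) (Lpn (LP (LK LD1_c2 LD2_c23 LD3_c15)))))))))))))
theorem f189393 : Led Lsl_et (LP (LK LD1_c1 LD2_c18 LD3_c14)) = (LP (LK LD1_c2 LD2_c43 LD3_c41)) :=
  Lre_e IH (LK LD1_c1 LD2_c18 LD3_c14) (LK LD1_c2 LD2_c43 LD3_c41) Lrfl Lrfl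
theorem f167325 : Led Lsl_et (LP (LK LD1_c1 LD2_c8 LD3_c44)) = (LP (LK LD1_c2 LD2_c23 LD3_c15)) :=
  Lre_e IH (LK LD1_c1 LD2_c8 LD3_c44) (LK LD1_c2 LD2_c23 LD3_c15) Lrfl Lrfl
theorem f2074 : Led Lsl_dt (LP (LK LD1_c2 LD2_c23 LD3_c14)) = (LP (LK LD1_c1 LD2_c8 LD3_c44)) :=
  Lre_d IH (LK LD1_c2 LD2_c23 LD3_c14) (LK LD1_c1 LD2_c8 LD3_c44) Lrfl Lrfl
theorem f167378 : Led Lsl_et (LP (LK LD1_c4 LD2_c50 LD3_c52)) = (LP (LK LD1_c2 LD2_c23 LD3_c14)) :=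
  Lre_e IH (LK LD1_c4 LD2_c50 LD3_c52) (LK LD1_c2 LD2_c23 LD3_c14) Lrfl Lrfl
theorem f189394 : Led Lsl_dt (LP (LK LD1_c2 LD2_c43 LD3_c41)) = (LP (LK LD1_c4 LD2_c50 LD3_c52)) :=
  Lgr Lrot77 (Lpe (f189393 IH) (Lpr_df (f189134 IH) (Lpe (f167325 IH) (Lpe (f2074 IH) (Lpe (f167378 IH) (Lpn (LP (LK LD1_c4 LD2_c50 LD3_c52))))))))
theorem f189404 : Led Lsl_df (LP (LK LD1_c2 LD2_c43 LD3_c41)) = (LP (LK LD1_c4 LD2_c50 LD3_c52)) :=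
  Lgr Lrot38 (Lpr_dt (f189394 IH) (Lpn (LP (LK LD1_c4 LD2_c50 LD3_c52))))
theorem f189417 : Led Lsl_bt (LP (LK LD1_c2 LD2_c43 LD3_c41)) = (LP (LK LD1_c5 LD2_c35 LD3_c24)) :=
  Lre_b IH (LK LD1_c2 LD2_c43 LD3_c41) (LK LD1_c5 LD2_c35 LD3_c24) Lrfl Lrfl
theorem f167321 : Led Lsl_dt (LP (LK LD1_c4 LD2_c14 LD3_c4)) = (LP (LK LD1_c2 LD2_c4 LD3_c25)) :=
  Lre_d IH (LK LD1_c4 LD2_c14 LD3_c4) (LK LD1_c2 LD2_c4 LD3_c25) Lrfl Lrfl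
theorem f167322 : Led Lsl_bf (LP (LK LD1_c4 LD2_c14 LD3_c4)) = (LP (LK LD1_c2 LD2_c23 LD3_c14)) :=
  Lgr Lrot93 (Lpr_dt (f167321 IH) (Lpr_bt (K12.f167316 IH) (Lpr_dt (f287 IH) (Lpn (LP (LK LD1_c2 LD2_c23 LD3_c14))))))
theorem f167377 : Led Lsl_et (LP (LK LD1_c4 LD2_c14 LD3_c4)) = (LP (LK LD1_c8 LD2_c26 LD3_c43)) :=
  Lre_e IH (LK LD1_c4 LD2_c14 LD3_c4) (LK LD1_c8 LD2_c26 LD3_c43) Lrfl Lrfl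
theorem f167379 : Led Lsl_bt (LP (LK LD1_c8 LD2_c26 LD3_c43)) = (LP (LK LD1_c4 LD2_c50 LD3_c52)) :=
  Lgr Lrot119 (Lpe (f167377 IH) (Lpr_bf (f167322 IH) (Lpe (f167378 IH) (Lpn (LP (LK LD1_c4 LD2_c50 LD3_c52))))))
theorem f189418 : Led Lsl_dt (LP (LK LD1_c5 LD2_c35 LD3_c24)) = (LP (LK LD1_c8 LD2_c26 LD3_c43)) :=
  Lgr Lrot79 (Lpe (f189417 IH) (Lpr_df (f189404 IH) (Lpe (f167379 IH) (Lpn (LP (LK LD1_c8 LD2_c26 LD3_c43))))))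
theorem f189428 : Led Lsl_et (LP (LK LD1_c2 LD2_c43 LD3_c39)) = (LP (LK LD1_c5 LD2_c35 LD3_c24)) :=
  Lre_e IH (LK LD1_c2 LD2_c43 LD3_c39) (LK LD1_c5 LD2_c35 LD3_c24) Lrfl Lrfl
theorem f167390 : Led Lsl_et (LP (LK LD1_c8 LD2_c26 LD3_c43)) = (LP (LK LD1_c4 LD2_c14 LD3_c4)) :=
  Lre_e IH (LK LD1_c8 LD2_c26 LD3_c43) (LK LD1_c4 LD2_c14 LD3_c4) Lrfl Lrfl
theorem f167368 : Led Lsl_et (LP (LK LD1_c2 LD2_c4 LD3_c25)) = (LP (LK LD1_c4 LD2_c14 LD3_c5)) :=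
  Lre_e IH (LK LD1_c2 LD2_c4 LD3_c25) (LK LD1_c4 LD2_c14 LD3_c5) Lrfl Lrfl
theorem f189429 : Led Lsl_df (LP (LK LD1_c2 LD2_c43 LD3_c39)) = (LP (LK LD1_c4 LD2_c14 LD3_c5)) :=
  Lgr Lrot70 (Lpr_et (f189428 IH) (Lpr_dt (f189418 IH) (Lpr_et (f167390 IH) (Lpr_dt (f167321 IH) (Lpr_et (f167368 IH) (Lpn (LP (LK LD1_c4 LD2_c14 LD3_c5))))))))
theorem f189690 : Led Lsl_gf (LP (LK LD1_c2 LD2_c43 LD3_c39)) = (LP (LK LD1_c4 LD2_c8 LD3_c10)) :=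
  Lgr Lrot134 (Lpr_df (f189429 IH) (Lpr_et (f167324 IH) (Lpr_gt (K12.f188894 IH) (Lpe (K12.f33506 IH) (Lpr_dt (K1.f44920 IH) (Lpr_gt (K1.f32132 IH) (Lpr_df (K8.f47739 IH) (Lpr_et (K12.f44937 IH) (Lpr_gt (K12.f189685 IH) (Lpr_dt (K12.f51415 IH) (Lpn (LP (LK LD1_c4 LD2_c8 LD3_c10)))))))))))))
theorem f189386 : Led Lsl_bt (LP (LK LD1_c1 LD2_c18 LD3_c14)) = (LP (LK LD1_c2 LD2_c43 LD3_c39)) :=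
  Lre_b IH (LK LD1_c1 LD2_c18 LD3_c14) (LK LD1_c2 LD2_c43 LD3_c39) Lrfl Lrfl
theorem f167326 : Led Lsl_bf (LP (LK LD1_c4 LD2_c14 LD3_c5)) = (LP (LK LD1_c2 LD2_c23 LD3_c15)) :=
  Lgr Lrot96 (Lpr_et (f167324 IH) (Lpr_bt (K12.f167316 IH) (Lpr_et (f167325 IH) (Lpn (LP (LK LD1_c2 LD2_c23 LD3_c15))))))
theorem f167362 : Led Lsl_bt (LP (LK LD1_c4 LD2_c14 LD3_c5)) = (LP (LK LD1_c2 LD2_c23 LD3_c15)) :=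
  Lgr Lrot127 (Lpr_bf (f167326 IH) (Lpn (LP (LK LD1_c2 LD2_c23 LD3_c15))))
theorem f189387 : Led Lsl_dt (LP (LK LD1_c2 LD2_c43 LD3_c39)) = (LP (LK LD1_c4 LD2_c14 LD3_c5)) :=
  Lgr Lrot79 (Lpe (f189386 IH) (Lpr_df (f189134 IH) (Lpe (f167362 IH) (Lpn (LP (LK LD1_c4 LD2_c14 LD3_c5))))))
theorem f167366 : Led Lsl_ct (LP (LK LD1_c2 LD2_c4 LD3_c27)) = (LP (LK LD1_c4 LD2_c14 LD3_c5)) :=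
  Lre_c IH (LK LD1_c2 LD2_c4 LD3_c27) (LK LD1_c4 LD2_c14 LD3_c5) Lrfl Lrfl
theorem f220511 : Led Lsl_dt (LP (LK LD1_c2 LD2_c41 LD3_c4)) = (LP (LK LD1_c2 LD2_c4 LD3_c27)) :=
  Lgr Lrot105 (Lpr_gf (K12.f220509 IH) (Lpe (K12.f219947 IH) (Lpe (K12.f219945 IH) (Lpe (K10.f44938 IH) (Lpr_gt (K12.f189685 IH) (Lpr_dt (K12.f51415 IH) (Lpe (f189690 IH) (Lpr_dt (f189387 IH) (Lpe (f167366 IH) (Lpn (LP (LK LD1_c2 LD2_c4 LD3_c27))))))))))))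
theorem f1434 : Led Lsl_gt (LP (LK LD1_c0 LD2_c57 LD3_c53)) = (LP (LK LD1_c2 LD2_c1 LD3_c41)) :=
  Lre_g IH (LK LD1_c0 LD2_c57 LD3_c53) (LK LD1_c2 LD2_c1 LD3_c41) Lrfl Lrfl
theorem f216849 : Led Lsl_ct (LP (LK LD1_c2 LD2_c1 LD3_c41)) = (LP (LK LD1_c4 LD2_c8 LD3_c38)) :=
  Lre_c IH (LK LD1_c2 LD2_c1 LD3_c41) (LK LD1_c4 LD2_c8 LD3_c38) Lrfl Lrfl
theorem f216850 : Led Lsl_gf (LP (LK LD1_c2 LD2_c41 LD3_c5)) = (LP (LK LD1_c4 LD2_c8 LD3_c38)) :=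
  Lgr Lrot104 (Lpr_ct (K12.f168456 IH) (Lpe (K12.f168526 IH) (Lpe (K12.f168349 IH) (Lpe (K12.f168196 IH) (Lpr_cf (K12.f216828 IH) (Lpe (K12.f1359 IH) (Lpe (K12.f596 IH) (Lpr_gt (f1434 IH) (Lpr_ct (f216849 IH) (Lpn (LP (LK LD1_c4 LD2_c8 LD3_c38))))))))))))
theorem f220491 : Led Lsl_gf (LP (LK LD1_c4 LD2_c8 LD3_c38)) = (LP (LK LD1_c8 LD2_c6 LD3_c1)) :=
  Lgr Lrot47 (Lpe (f216850 IH) (Lpe (K12.f216852 IH) (Lpr_ff (K12.f220036 IH) (Lpn (LP (LK LD1_c8 LD2_c6 LD3_c1))))))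
theorem f216855 : Led Lsl_dt (LP (LK LD1_c4 LD2_c8 LD3_c38)) = (LP (LK LD1_c8 LD2_c17 LD3_c18)) :=
  Lre_d IH (LK LD1_c4 LD2_c8 LD3_c38) (LK LD1_c8 LD2_c17 LD3_c18) Lrfl Lrfl
theorem f234178 : Led Lsl_gf (LP (LK LD1_c8 LD2_c16 LD3_c49)) = (LP (LK LD1_c8 LD2_c17 LD3_c18)) :=
  Lgr Lrot143 (Lpr_dt (f50429 IH) (Lpr_cf (f170332 IH) (Lpe (f200568 IH) (Lpr_gf (f234176 IH) (Lpe (f220511 IH) (Lpr_gf (K12.f220509 IH) (Lpe (K12.f219948 IH) (Lpe (f220491 IH) (Lpr_dt (f216855 IH) (Lpn (LP (LK LD1_c8 LD2_c17 LD3_c18))))))))))))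
theorem f220214 : Led Lsl_dt (LP (LK LD1_c2 LD2_c41 LD3_c11)) = (LP (LK LD1_c5 LD2_c29 LD3_c46)) :=
  Lre_d IH (LK LD1_c2 LD2_c41 LD3_c11) (LK LD1_c5 LD2_c29 LD3_c46) Lrfl Lrfl
theorem f233923 : Led Lsl_ct (LP (LK LD1_c5 LD2_c29 LD3_c46)) = (LP (LK LD1_c8 LD2_c17 LD3_c18)) :=
  Lgr Lrot7 (Lpe (f220214 IH) (Lpe (f228401 IH) (Lpr_df (f233893 IH) (Lpe (K12.f50514 IH) (Lpe (K12.f50510 IH) (Lpr_gt (K12.f1039 IH) (Lpr_dt (K12.f219949 IH) (Lpe (f220491 IH) (Lpr_dt (f216855 IH) (Lpn (LP (LK LD1_c8 LD2_c17 LD3_c18))))))))))))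
theorem f234180 : Led Lsl_gf (LP (LK LD1_c10 LD2_c23 LD3_c27)) = (LP (LK LD1_c5 LD2_c29 LD3_c46)) :=
  Lgr Lrot144 (Lpr_dt (f50178 IH) (Lpr_gt (K12.f49348 IH) (Lpr_dt (K12.f49328 IH) (Lpe (K12.f50406 IH) (Lpe (K12.f50405 IH) (Lpe (f50428 IH) (Lpe (f50429 IH) (Lpr_gf (f234178 IH) (Lpe (f233923 IH) (Lpn (LP (LK LD1_c5 LD2_c29 LD3_c46))))))))))))
theorem f234242 : Led Lsl_gt (LP (LK LD1_c2 LD2_c1 LD3_c54)) = (LP (LK LD1_c4 LD2_c8 LD3_c33)) :=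
  Lgr Lrot94 (Lpe (K12.f220605 IH) (Lpr_gt (f228401 IH) (Lpr_dt (f220214 IH) (Lpe (f234180 IH) (Lpr_dt (f50178 IH) (Lpe (K12.f218709 IH) (Lpr_df (f223088 IH) (Lpe (f47551 IH) (Lpr_df (f234203 IH) (Lpn (LP (LK LD1_c4 LD2_c8 LD3_c33))))))))))))
theorem f221802 : Led Lsl_bt (LP (LK LD1_c4 LD2_c9 LD3_c0)) = (LP (LK LD1_c2 LD2_c1 LD3_c54)) :=
  Lre_b IH (LK LD1_c4 LD2_c9 LD3_c0) (LK LD1_c2 LD2_c1 LD3_c54) Lrfl Lrfl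
theorem f173946 : Led Lsl_bt (LP (LK LD1_c2 LD2_c12 LD3_c21)) = (LP (LK LD1_c1 LD2_c3 LD3_c8)) :=
  Lre_b IH (LK LD1_c2 LD2_c12 LD3_c21) (LK LD1_c1 LD2_c3 LD3_c8) Lrfl Lrfl
theorem f173984 : Led Lsl_ct (LP (LK LD1_c2 LD2_c12 LD3_c21)) = (LP (LK LD1_c4 LD2_c30 LD3_c53)) :=
  Lre_c IH (LK LD1_c2 LD2_c12 LD3_c21) (LK LD1_c4 LD2_c30 LD3_c53) Lrfl Lrfl
theorem f28827 : Led Lsl_ct (LP (LK LD1_c1 LD2_c58 LD3_c40)) = (LP (LK LD1_c4 LD2_c3 LD3_c24)) :=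
  Lre_c IH (LK LD1_c1 LD2_c58 LD3_c40) (LK LD1_c4 LD2_c3 LD3_c24) Lrfl Lrfl
theorem f196618 : Led Lsl_et (LP (LK LD1_c2 LD2_c37 LD3_c49)) = (LP (LK LD1_c5 LD2_c22 LD3_c33)) :=
  Lre_e IH (LK LD1_c2 LD2_c37 LD3_c49) (LK LD1_c5 LD2_c22 LD3_c33) Lrfl Lrfl
theorem f196619 : Led Lsl_et (LP (LK LD1_c1 LD2_c1 LD3_c19)) = (LP (LK LD1_c2 LD2_c8 LD3_c21)) :=
  Lre_e IH (LK LD1_c1 LD2_c1 LD3_c19) (LK LD1_c2 LD2_c8 LD3_c21) Lrfl Lrfl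
theorem f187074 : Led Lsl_dt (LP (LK LD1_c2 LD2_c8 LD3_c20)) = (LP (LK LD1_c1 LD2_c1 LD3_c19)) :=
  Lre_d IH (LK LD1_c2 LD2_c8 LD3_c20) (LK LD1_c1 LD2_c1 LD3_c19) Lrfl Lrfl
theorem f196620 : Led Lsl_et (LP (LK LD1_c4 LD2_c21 LD3_c40)) = (LP (LK LD1_c2 LD2_c8 LD3_c20)) :=
  Lre_e IH (LK LD1_c4 LD2_c21 LD3_c40) (LK LD1_c2 LD2_c8 LD3_c20) Lrfl Lrfl
theorem f196621 : Led Lsl_dt (LP (LK LD1_c5 LD2_c22 LD3_c33)) = (LP (LK LD1_c4 LD2_c21 LD3_c40)) :=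
  Lgr Lrot77 (Lpe (f196618 IH) (Lpr_df (K12.f196609 IH) (Lpe (f196619 IH) (Lpe (f187074 IH) (Lpe (f196620 IH) (Lpn (LP (LK LD1_c4 LD2_c21 LD3_c40))))))))
theorem f196635 : Led Lsl_ft (LP (LK LD1_c10 LD2_c35 LD3_c26)) = (LP (LK LD1_c5 LD2_c22 LD3_c33)) :=
  Lre_f IH (LK LD1_c10 LD2_c35 LD3_c26) (LK LD1_c5 LD2_c22 LD3_c33) Lrfl Lrfl
theorem f196636 : Led Lsl_ft (LP (LK LD1_c4 LD2_c21 LD3_c40)) = (LP (LK LD1_c8 LD2_c40 LD3_c56)) :=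
  Lre_f IH (LK LD1_c4 LD2_c21 LD3_c40) (LK LD1_c8 LD2_c40 LD3_c56) Lrfl Lrfl
theorem f196637 : Led Lsl_df (LP (LK LD1_c10 LD2_c35 LD3_c26)) = (LP (LK LD1_c8 LD2_c40 LD3_c56)) :=
  Lgr Lrot78 (Lpr_ft (f196635 IH) (Lpr_dt (f196621 IH) (Lpr_ft (f196636 IH) (Lpn (LP (LK LD1_c8 LD2_c40 LD3_c56))))))
theorem f196651 : Led Lsl_dt (LP (LK LD1_c10 LD2_c35 LD3_c26)) = (LP (LK LD1_c8 LD2_c40 LD3_c56)) :=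
  Lgr Lrot42 (Lpr_df (f196637 IH) (Lpn (LP (LK LD1_c8 LD2_c40 LD3_c56))))
theorem f28877 : Led Lsl_bt (LP (LK LD1_c8 LD2_c40 LD3_c56)) = (LP (LK LD1_c4 LD2_c21 LD3_c46)) :=
  Lre_b IH (LK LD1_c8 LD2_c40 LD3_c56) (LK LD1_c4 LD2_c21 LD3_c46) Lrfl Lrfl
theorem f28830 : Led Lsl_et (LP (LK LD1_c0 LD2_c28 LD3_c0)) = (LP (LK LD1_c1 LD2_c1 LD3_c21)) :=
  Lre_e IH (LK LD1_c0 LD2_c28 LD3_c0) (LK LD1_c1 LD2_c1 LD3_c21) Lrfl Lrfl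
theorem f28831 : Led Lsl_dt (LP (LK LD1_c1 LD2_c1 LD3_c20)) = (LP (LK LD1_c0 LD2_c28 LD3_c0)) :=
  Lre_d IH (LK LD1_c1 LD2_c1 LD3_c20) (LK LD1_c0 LD2_c28 LD3_c0) Lrfl Lrfl
theorem f28832 : Led Lsl_et (LP (LK LD1_c2 LD2_c8 LD3_c23)) = (LP (LK LD1_c1 LD2_c1 LD3_c20)) :=
  Lre_e IH (LK LD1_c2 LD2_c8 LD3_c23) (LK LD1_c1 LD2_c1 LD3_c20) Lrfl Lrfl
theorem f28833 : Led Lsl_et (LP (LK LD1_c1 LD2_c58 LD3_c40)) = (LP (LK LD1_c4 LD2_c3 LD3_c25)) :=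
  Lre_e IH (LK LD1_c1 LD2_c58 LD3_c40) (LK LD1_c4 LD2_c3 LD3_c25) Lrfl Lrfl
theorem f28834 : Led Lsl_df (LP (LK LD1_c2 LD2_c8 LD3_c23)) = (LP (LK LD1_c4 LD2_c3 LD3_c25)) :=
  Lgr Lrot70 (Lpr_et (f28832 IH) (Lpr_dt (f28831 IH) (Lpr_et (f28830 IH) (Lpr_dt (K9.f28824 IH) (Lpr_et (f28833 IH) (Lpn (LP (LK LD1_c4 LD2_c3 LD3_c25))))))))
theorem f28852 : Led Lsl_ft (LP (LK LD1_c2 LD2_c8 LD3_c23)) = (LP (LK LD1_c4 LD2_c21 LD3_c46)) :=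
  Lre_f IH (LK LD1_c2 LD2_c8 LD3_c23) (LK LD1_c4 LD2_c21 LD3_c46) Lrfl Lrfl
theorem f28853 : Led Lsl_ft (LP (LK LD1_c8 LD2_c7 LD3_c25)) = (LP (LK LD1_c4 LD2_c3 LD3_c25)) :=
  Lre_f IH (LK LD1_c8 LD2_c7 LD3_c25) (LK LD1_c4 LD2_c3 LD3_c25) Lrfl Lrfl
theorem f28854 : Led Lsl_dt (LP (LK LD1_c4 LD2_c21 LD3_c46)) = (LP (LK LD1_c8 LD2_c7 LD3_c25)) :=
  Lgr Lrot60 (Lpe (f28852 IH) (Lpr_df (f28834 IH) (Lpe (f28853 IH) (Lpn (LP (LK LD1_c8 LD2_c7 LD3_c25))))))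
theorem f196655 : Led Lsl_bf (LP (LK LD1_c10 LD2_c35 LD3_c26)) = (LP (LK LD1_c8 LD2_c7 LD3_c25)) :=
  Lgr Lrot93 (Lpr_dt (f196651 IH) (Lpr_bt (f28877 IH) (Lpr_dt (f28854 IH) (Lpn (LP (LK LD1_c8 LD2_c7 LD3_c25))))))
theorem f28857 : Led Lsl_ft (LP (LK LD1_c4 LD2_c3 LD3_c25)) = (LP (LK LD1_c8 LD2_c7 LD3_c25)) :=
  Lre_f IH (LK LD1_c4 LD2_c3 LD3_c25) (LK LD1_c8 LD2_c7 LD3_c25) Lrfl Lrfl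
theorem f196658 : Led Lsl_bt (LP (LK LD1_c5 LD2_c22 LD3_c33)) = (LP (LK LD1_c4 LD2_c3 LD3_c25)) :=
  Lgr Lrot35 (Lpe (f196635 IH) (Lpr_bf (f196655 IH) (Lpe (f28857 IH) (Lpn (LP (LK LD1_c4 LD2_c3 LD3_c25))))))
theorem f28872 : Led Lsl_et (LP (LK LD1_c4 LD2_c3 LD3_c25)) = (LP (LK LD1_c1 LD2_c58 LD3_c40)) :=
  Lre_e IH (LK LD1_c4 LD2_c3 LD3_c25) (LK LD1_c1 LD2_c58 LD3_c40) Lrfl Lrfl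
theorem f196663 : Led Lsl_bf (LP (LK LD1_c2 LD2_c37 LD3_c49)) = (LP (LK LD1_c1 LD2_c58 LD3_c40)) :=
  Lgr Lrot96 (Lpr_et (f196618 IH) (Lpr_bt (f196658 IH) (Lpr_et (f28872 IH) (Lpn (LP (LK LD1_c1 LD2_c58 LD3_c40))))))
theorem f196615 : Led Lsl_ct (LP (LK LD1_c2 LD2_c37 LD3_c49)) = (LP (LK LD1_c5 LD2_c22 LD3_c32)) :=
  Lre_c IH (LK LD1_c2 LD2_c37 LD3_c49) (LK LD1_c5 LD2_c22 LD3_c32) Lrfl Lrfl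
theorem f220755 : Led Lsl_gt (LP (LK LD1_c5 LD2_c22 LD3_c32)) = (LP (LK LD1_c4 LD2_c54 LD3_c32)) :=
  Lgr Lrot150 (Lpe (f196615 IH) (Lpe (K12.f196596 IH) (Lpe (K12.f196595 IH) (Lpr_gt (K10.f172015 IH) (Lpr_ct (K10.f172016 IH) (Lpr_gt (K12.f220746 IH) (Lpr_ct (K12.f212504 IH) (Lpe (K12.f55103 IH) (Lpe (K12.f201189 IH) (Lpn (LP (LK LD1_c4 LD2_c54 LD3_c32))))))))))))
theorem f196623 : Led Lsl_ct (LP (LK LD1_c5 LD2_c22 LD3_c32)) = (LP (LK LD1_c2 LD2_c37 LD3_c49)) :=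
  Lre_c IH (LK LD1_c5 LD2_c22 LD3_c32) (LK LD1_c2 LD2_c37 LD3_c49) Lrfl Lrfl
theorem f220758 : Led Lsl_gt (LP (LK LD1_c2 LD2_c37 LD3_c49)) = (LP (LK LD1_c1 LD2_c16 LD3_c6)) :=
  Lgr Lrot94 (Lpe (f196623 IH) (Lpr_gt (f220755 IH) (Lpr_dt (K12.f201196 IH) (Lpr_gt (K12.f217356 IH) (Lpr_dt (K12.f49255 IH) (Lpe (K9.f49242 IH) (Lpe (K9.f49217 IH) (Lpr_gf (K12.f196566 IH) (Lpe (K12.f167816 IH) (Lpn (LP (LK LD1_c1 LD2_c16 LD3_c6))))))))))))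
theorem f226904 : Led Lsl_gf (LP (LK LD1_c4 LD2_c30 LD3_c53)) = (LP (LK LD1_c2 LD2_c38 LD3_c19)) :=
  Lgr Lrot129 (Lpe (f173984 IH) (Lpr_bt (f173946 IH) (Lpr_gt (K12.f167907 IH) (Lpe (K12.f200692 IH) (Lpr_ct (K12.f223732 IH) (Lpr_gt (K12.f226897 IH) (Lpe (f28827 IH) (Lpe (f196663 IH) (Lpr_gt (f220758 IH) (Lpr_ct (K12.f169161 IH) (Lpn (LP (LK LD1_c2 LD2_c38 LD3_c19)))))))))))))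
theorem f178878 : Led Lsl_ct (LP (LK LD1_c2 LD2_c2 LD3_c47)) = (LP (LK LD1_c0 LD2_c58 LD3_c17)) :=
  Lre_c IH (LK LD1_c2 LD2_c2 LD3_c47) (LK LD1_c0 LD2_c58 LD3_c17) Lrfl Lrfl
theorem f225244 : Led Lsl_gt (LP (LK LD1_c1 LD2_c3 LD3_c9)) = (LP (LK LD1_c2 LD2_c2 LD3_c47)) :=
  Lgr Lrot9 (Lpr_df (K12.f225187 IH) (Lpr_gt (K9.f42263 IH) (Lpr_ct (K9.f173419 IH) (Lpr_gt (K9.f174530 IH) (Lpe (K9.f174617 IH) (Lpe (K9.f167777 IH) (Lpe (K12.f167776 IH) (Lpr_gf (K9.f179758 IH) (Lpe (f178878 IH) (Lpn (LP (LK LD1_c2 LD2_c2 LD3_c47))))))))))))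
theorem f226909 : Led Lsl_gt (LP (LK LD1_c2 LD2_c2 LD3_c40)) = (LP (LK LD1_c1 LD2_c15 LD3_c29)) :=
  Lgr Lrot164 (Lpe (K12.f187034 IH) (Lpr_ct (K12.f178882 IH) (Lpe (f225244 IH) (Lpe (K12.f167839 IH) (Lpe (K12.f167907 IH) (Lpe (f173946 IH) (Lpr_ct (f173984 IH) (Lpr_gf (f226904 IH) (Lpe (K12.f169161 IH) (Lpr_bt (K12.f169159 IH) (Lpn (LP (LK LD1_c1 LD2_c15 LD3_c29)))))))))))))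
theorem f179763 : Led Lsl_ct (LP (LK LD1_c2 LD2_c2 LD3_c40)) = (LP (LK LD1_c4 LD2_c10 LD3_c52)) :=
  Lre_c IH (LK LD1_c2 LD2_c2 LD3_c40) (LK LD1_c4 LD2_c10 LD3_c52) Lrfl Lrfl
theorem f226911 : Led Lsl_gt (LP (LK LD1_c4 LD2_c10 LD3_c52)) = (LP (LK LD1_c8 LD2_c18 LD3_c5)) :=
  Lgr Lrot94 (Lpe (f179763 IH) (Lpr_gt (f226909 IH) (Lpr_dt (K12.f169257 IH) (Lpr_gt (K9.f41274 IH) (Lpr_dt (K12.f42180 IH) (Lpe (K12.f220752 IH) (Lpe (K12.f168041 IH) (Lpe (K12.f217326 IH) (Lpr_df (K12.f221665 IH) (Lpn (LP (LK LD1_c8 LD2_c18 LD3_c5))))))))))))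
theorem f234248 : Led Lsl_bt (LP (LK LD1_c2 LD2_c12 LD3_c38)) = (LP (LK LD1_c4 LD2_c8 LD3_c33)) :=
  Lgr Lrot92 (Lpr_ct (K12.f187035 IH) (Lpr_gt (K12.f187036 IH) (Lpe (K12.f172012 IH) (Lpr_bt (K12.f187028 IH) (Lpe (K12.f187023 IH) (Lpr_ct (f179763 IH) (Lpr_gt (f226911 IH) (Lpe (K12.f220737 IH) (Lpr_bt (f221802 IH) (Lpr_gt (f234242 IH) (Lpn (LP (LK LD1_c4 LD2_c8 LD3_c33)))))))))))))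
theorem f187042 : Led Lsl_ct (LP (LK LD1_c4 LD2_c31 LD3_c18)) = (LP (LK LD1_c2 LD2_c12 LD3_c38)) :=
  Lre_c IH (LK LD1_c4 LD2_c31 LD3_c18) (LK LD1_c2 LD2_c12 LD3_c38) Lrfl Lrfl
theorem f187045 : Led Lsl_bt (LP (LK LD1_c9 LD2_c0 LD3_c32)) = (LP (LK LD1_c4 LD2_c31 LD3_c18)) :=
  Lre_b IH (LK LD1_c9 LD2_c0 LD3_c32) (LK LD1_c4 LD2_c31 LD3_c18) Lrfl Lrfl
theorem f173257 : Led Lsl_ct (LP (LK LD1_c2 LD2_c11 LD3_c26)) = (LP (LK LD1_c1 LD2_c2 LD3_c42)) :=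
  Lre_c IH (LK LD1_c2 LD2_c11 LD3_c26) (LK LD1_c1 LD2_c2 LD3_c42) Lrfl Lrfl
theorem f173346 : Led Lsl_gt (LP (LK LD1_c4 LD2_c28 LD3_c48)) = (LP (LK LD1_c2 LD2_c11 LD3_c26)) :=
  Lre_g IH (LK LD1_c4 LD2_c28 LD3_c48) (LK LD1_c2 LD2_c11 LD3_c26) Lrfl Lrfl
theorem f234246 : Led Lsl_cf (LP (LK LD1_c4 LD2_c28 LD3_c48)) = (LP (LK LD1_c4 LD2_c8 LD3_c33)) :=
  Lgr Lrot169 (Lpr_gt (f173346 IH) (Lpr_ct (f173257 IH) (Lpe (K12.f173343 IH) (Lpr_cf (K12.f173215 IH) (Lpe (K12.f212495 IH) (Lpe (K8.f48159 IH) (Lpe (K12.f190817 IH) (Lpe (K12.f190822 IH) (Lpr_gt (f234242 IH) (Lpn (LP (LK LD1_c4 LD2_c8 LD3_c33))))))))))))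
theorem f234253 : Led Lsl_bt (LP (LK LD1_c4 LD2_c28 LD3_c48)) = (LP (LK LD1_c8 LD2_c55 LD3_c52)) :=
  Lre_b IH (LK LD1_c4 LD2_c28 LD3_c48) (LK LD1_c8 LD2_c55 LD3_c52) Lrfl Lrfl
theorem f234254 : Led Lsl_cf (LP (LK LD1_c9 LD2_c0 LD3_c32)) = (LP (LK LD1_c8 LD2_c55 LD3_c52)) :=
  Lgr Lrot97 (Lpr_bt (f187045 IH) (Lpr_ct (f187042 IH) (Lpr_bt (f234248 IH) (Lpe (f234246 IH) (Lpr_bt (f234253 IH) (Lpn (LP (LK LD1_c8 LD2_c55 LD3_c52))))))))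
theorem f234273 : Led Lsl_et (LP (LK LD1_c9 LD2_c0 LD3_c32)) = (LP (LK LD1_c16 LD2_c49 LD3_c60)) :=
  Lre_e IH (LK LD1_c9 LD2_c0 LD3_c32) (LK LD1_c16 LD2_c49 LD3_c60) Lrfl Lrfl
theorem f234274 : Led Lsl_et (LP (LK LD1_c16 LD2_c43 LD3_c5)) = (LP (LK LD1_c8 LD2_c55 LD3_c52)) :=
  Lre_e IH (LK LD1_c16 LD2_c43 LD3_c5) (LK LD1_c8 LD2_c55 LD3_c52) Lrfl Lrfl
theorem f234275 : Led Lsl_ct (LP (LK LD1_c16 LD2_c49 LD3_c60)) = (LP (LK LD1_c16 LD2_c43 LD3_c5)) :=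
  Lgr Lrot15 (Lpe (f234273 IH) (Lpr_cf (f234254 IH) (Lpe (f234274 IH) (Lpn (LP (LK LD1_c16 LD2_c43 LD3_c5))))))
theorem f234292 : Led Lsl_cf (LP (LK LD1_c16 LD2_c49 LD3_c60)) = (LP (LK LD1_c16 LD2_c43 LD3_c5)) :=
  Lgr Lrot11 (Lpr_ct (f234275 IH) (Lpn (LP (LK LD1_c16 LD2_c43 LD3_c5))))
theorem f234263 : Led Lsl_bt (LP (LK LD1_c16 LD2_c49 LD3_c60)) = (LP (LK LD1_c9 LD2_c0 LD3_c34)) :=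
  Lre_b IH (LK LD1_c16 LD2_c49 LD3_c60) (LK LD1_c9 LD2_c0 LD3_c34) Lrfl Lrfl
theorem f234262 : Led Lsl_ct (LP (LK LD1_c9 LD2_c0 LD3_c34)) = (LP (LK LD1_c4 LD2_c31 LD3_c19)) :=
  Lre_c IH (LK LD1_c9 LD2_c0 LD3_c34) (LK LD1_c4 LD2_c31 LD3_c19) Lrfl Lrfl
theorem f212619 : Led Lsl_et (LP (LK LD1_c4 LD2_c31 LD3_c19)) = (LP (LK LD1_c2 LD2_c12 LD3_c38)) :=
  Lre_e IH (LK LD1_c4 LD2_c31 LD3_c19) (LK LD1_c2 LD2_c12 LD3_c38) Lrfl Lrfl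
theorem f234245 : Led Lsl_et (LP (LK LD1_c4 LD2_c8 LD3_c33)) = (LP (LK LD1_c8 LD2_c17 LD3_c11)) :=
  Lre_e IH (LK LD1_c4 LD2_c8 LD3_c33) (LK LD1_c8 LD2_c17 LD3_c11) Lrfl Lrfl
theorem f234256 : Led Lsl_bf (LP (LK LD1_c4 LD2_c31 LD3_c19)) = (LP (LK LD1_c8 LD2_c17 LD3_c11)) :=
  Lgr Lrot96 (Lpr_et (f212619 IH) (Lpr_bt (f234248 IH) (Lpr_et (f234245 IH) (Lpn (LP (LK LD1_c8 LD2_c17 LD3_c11))))))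
theorem f234258 : Led Lsl_bt (LP (LK LD1_c4 LD2_c31 LD3_c19)) = (LP (LK LD1_c8 LD2_c17 LD3_c11)) :=
  Lgr Lrot127 (Lpr_bf (f234256 IH) (Lpn (LP (LK LD1_c8 LD2_c17 LD3_c11))))
theorem f234305 : Led Lsl_bt (LP (LK LD1_c8 LD2_c55 LD3_c53)) = (LP (LK LD1_c16 LD2_c43 LD3_c5)) :=
  Lre_b IH (LK LD1_c8 LD2_c55 LD3_c53) (LK LD1_c16 LD2_c43 LD3_c5) Lrfl Lrfl
theorem f234306 : Led Lsl_ct (LP (LK LD1_c8 LD2_c17 LD3_c11)) = (LP (LK LD1_c8 LD2_c55 LD3_c53)) :=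
  Lgr Lrot83 (Lpe (f234258 IH) (Lpe (f234262 IH) (Lpe (f234263 IH) (Lpr_cf (f234292 IH) (Lpe (f234305 IH) (Lpn (LP (LK LD1_c8 LD2_c55 LD3_c53))))))))
theorem f234313 : Led Lsl_et (LP (LK LD1_c8 LD2_c55 LD3_c53)) = (LP (LK LD1_c4 LD2_c28 LD3_c48)) :=
  Lre_e IH (LK LD1_c8 LD2_c55 LD3_c53) (LK LD1_c4 LD2_c28 LD3_c48) Lrfl Lrfl
theorem f234314 : Led Lsl_cf (LP (LK LD1_c4 LD2_c8 LD3_c33)) = (LP (LK LD1_c4 LD2_c28 LD3_c48)) :=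
  Lgr Lrot39 (Lpr_et (f234245 IH) (Lpr_ct (f234306 IH) (Lpr_et (f234313 IH) (Lpn (LP (LK LD1_c4 LD2_c28 LD3_c48))))))
theorem f173345 : Led Lsl_dt (LP (LK LD1_c2 LD2_c11 LD3_c26)) = (LP (LK LD1_c4 LD2_c28 LD3_c50)) :=
  Lre_d IH (LK LD1_c2 LD2_c11 LD3_c26) (LK LD1_c4 LD2_c28 LD3_c50) Lrfl Lrfl
theorem f234317 : Led Lsl_gt (LP (LK LD1_c4 LD2_c28 LD3_c50)) = (LP (LK LD1_c8 LD2_c55 LD3_c58)) :=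
  Lre_g IH (LK LD1_c4 LD2_c28 LD3_c50) (LK LD1_c8 LD2_c55 LD3_c58) Lrfl Lrfl
theorem f234318 : Led Lsl_df (LP (LK LD1_c4 LD2_c29 LD3_c24)) = (LP (LK LD1_c8 LD2_c55 LD3_c58)) :=
  Lgr Lrot84 (Lpe (K12.f222471 IH) (Lpe (f199616 IH) (Lpe (K12.f199615 IH) (Lpe (f199687 IH) (Lpe (f199704 IH) (Lpr_cf (f234314 IH) (Lpr_gt (f173346 IH) (Lpr_dt (f173345 IH) (Lpr_gt (f234317 IH) (Lpn (LP (LK LD1_c8 LD2_c55 LD3_c58))))))))))))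
theorem f197447 : Led Lsl_bt (LP (LK LD1_c0 LD2_c54 LD3_c22)) = (LP (LK LD1_c0 LD2_c59 LD3_c37)) :=
  Lgr Lrot130 (Lpr_ct (K10.f173349 IH) (Lpr_gf (K12.f197427 IH) (Lpe (K1.f29177 IH) (Lpr_bt (K1.f29170 IH) (Lpe (K9.f1600 IH) (Lpe (K9.f2089 IH) (Lpe (K9.f171162 IH) (Lpe (K9.f45094 IH) (Lpe (K9.f48248 IH) (Lpe (K10.f785 IH) (Lpn (LP (LK LD1_c0 LD2_c59 LD3_c37)))))))))))))
theorem f173255 : Led Lsl_bt (LP (LK LD1_c1 LD2_c1 LD3_c26)) = (LP (LK LD1_c0 LD2_c28 LD3_c3)) :=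
  Lre_b IH (LK LD1_c1 LD2_c1 LD3_c26) (LK LD1_c0 LD2_c28 LD3_c3) Lrfl Lrfl
theorem f197449 : Led Lsl_gt (LP (LK LD1_c0 LD2_c34 LD3_c36)) = (LP (LK LD1_c0 LD2_c28 LD3_c35)) :=
  Lgr Lrot65 (Lpe (K9.f50138 IH) (Lpr_bt (K9.f51412 IH) (Lpe (K10.f785 IH) (Lpe (f197447 IH) (Lpr_ct (K10.f173349 IH) (Lpr_gf (K12.f197427 IH) (Lpe (K1.f29177 IH) (Lpe (K12.f193266 IH) (Lpe (f173255 IH) (Lpe (K12.f173215 IH) (Lpn (LP (LK LD1_c0 LD2_c28 LD3_c35)))))))))))))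
theorem f49420 : Led Lsl_dt (LP (LK LD1_c1 LD2_c14 LD3_c36)) = (LP (LK LD1_c0 LD2_c34 LD3_c36)) :=
  Lre_d IH (LK LD1_c1 LD2_c14 LD3_c36) (LK LD1_c0 LD2_c34 LD3_c36) Lrfl Lrfl
theorem f222219 : Led Lsl_cf (LP (LK LD1_c4 LD2_c8 LD3_c31)) = (LP (LK LD1_c4 LD2_c29 LD3_c24)) :=
  Lgr Lrot99 (Lpe (f199616 IH) (Lpe (K12.f222218 IH) (Lpr_gf (K12.f222214 IH) (Lpe (K12.f173251 IH) (Lpe (f197449 IH) (Lpe (f49420 IH) (Lpe (K12.f218726 IH) (Lpr_ct (K12.f218728 IH) (Lpr_gt (K12.f218729 IH) (Lpn (LP (LK LD1_c4 LD2_c29 LD3_c24))))))))))))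
theorem f234328 : Led Lsl_ct (LP (LK LD1_c8 LD2_c17 LD3_c38)) = (LP (LK LD1_c8 LD2_c55 LD3_c58)) :=
  Lgr Lrot53 (Lpe (K12.f222744 IH) (Lpr_cf (K12.f222805 IH) (Lpe (K10.f32931 IH) (Lpe (K8.f48159 IH) (Lpe (K9.f48170 IH) (Lpr_ft (K12.f212859 IH) (Lpe (K12.f222459 IH) (Lpr_cf (f222219 IH) (Lpr_df (f234318 IH) (Lpn (LP (LK LD1_c8 LD2_c55 LD3_c58))))))))))))
theorem f222963 : Led Lsl_af (LP (LK LD1_c8 LD2_c17 LD3_c38)) = (LP (LK LD1_c10 LD2_c24 LD3_c1)) :=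
  Lgr Lrot0 (Lpr_at (K12.f222961 IH) (Lpn (LP (LK LD1_c10 LD2_c24 LD3_c1))))
theorem f234738 : Led Lsl_af (LP (LK LD1_c5 LD2_c30 LD3_c4)) = (LP (LK LD1_c8 LD2_c55 LD3_c58)) :=
  Lgr Lrot68 (Lpe (f216980 IH) (Lpe (f222963 IH) (Lpr_ct (f234328 IH) (Lpn (LP (LK LD1_c8 LD2_c55 LD3_c58))))))
theorem f216974 : Led Lsl_df (LP (LK LD1_c2 LD2_c42 LD3_c20)) = (LP (LK LD1_c5 LD2_c30 LD3_c4)) :=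
  Lgr Lrot38 (Lpr_dt (K12.f216964 IH) (Lpn (LP (LK LD1_c5 LD2_c30 LD3_c4))))
theorem f234323 : Led Lsl_dt (LP (LK LD1_c4 LD2_c29 LD3_c24)) = (LP (LK LD1_c8 LD2_c55 LD3_c58)) :=
  Lgr Lrot42 (Lpr_df (f234318 IH) (Lpn (LP (LK LD1_c8 LD2_c55 LD3_c58))))
theorem f234743 : Led Lsl_at (LP (LK LD1_c2 LD2_c42 LD3_c20)) = (LP (LK LD1_c4 LD2_c29 LD3_c24)) :=
  Lgr Lrot51 (Lpr_df (f216974 IH) (Lpr_af (f234738 IH) (Lpe (f234323 IH) (Lpn (LP (LK LD1_c4 LD2_c29 LD3_c24))))))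
theorem f218730 : Led Lsl_gt (LP (LK LD1_c4 LD2_c29 LD3_c25)) = (LP (LK LD1_c2 LD2_c11 LD3_c48)) :=
  Lre_g IH (LK LD1_c4 LD2_c29 LD3_c25) (LK LD1_c2 LD2_c11 LD3_c48) Lrfl Lrfl
theorem f234974 : Led Lsl_ff (LP (LK LD1_c2 LD2_c42 LD3_c20)) = (LP (LK LD1_c4 LD2_c29 LD3_c25)) :=
  Lgr Lrot52 (Lpr_at (f234743 IH) (Lpe (K12.f218729 IH) (Lpe (f218730 IH) (Lpn (LP (LK LD1_c4 LD2_c29 LD3_c25))))))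
theorem f234980 : Led Lsl_ct (LP (LK LD1_c2 LD2_c28 LD3_c3)) = (LP (LK LD1_c4 LD2_c29 LD3_c25)) :=
  Lgr Lrot40 (Lpr_ff (K12.f212866 IH) (Lpr_cf (K12.f213049 IH) (Lpr_ff (f234974 IH) (Lpn (LP (LK LD1_c4 LD2_c29 LD3_c25))))))
theorem f53618 : Led Lsl_bt (LP (LK LD1_c2 LD2_c28 LD3_c3)) = (LP (LK LD1_c1 LD2_c11 LD3_c13)) :=
  Lre_b IH (LK LD1_c2 LD2_c28 LD3_c3) (LK LD1_c1 LD2_c11 LD3_c13) Lrfl Lrfl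
theorem f40799 : Led Lsl_bt (LP (LK LD1_c1 LD2_c2 LD3_c54)) = (LP (LK LD1_c0 LD2_c28 LD3_c41)) :=
  Lre_b IH (LK LD1_c1 LD2_c2 LD3_c54) (LK LD1_c0 LD2_c28 LD3_c41) Lrfl Lrfl
theorem f181952 : Led Lsl_ct (LP (LK LD1_c0 LD2_c32 LD3_c25)) = (LP (LK LD1_c1 LD2_c2 LD3_c61)) :=
  Lgr Lrot152 (Lpe (K9.f41074 IH) (Lpe (K1.f40834 IH) (Lpr_gt (K9.f181948 IH) (Lpr_ct (K9.f172031 IH) (Lpr_gt (K0.f6846 IH) (Lpr_ct (K9.f20641 IH) (Lpe (K9.f8573 IH) (Lpe (K9.f8559 IH) (Lpe (K12.f177504 IH) (Lpn (LP (LK LD1_c1 LD2_c2 LD3_c61))))))))))))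
theorem f168965 : Led Lsl_bt (LP (LK LD1_c0 LD2_c32 LD3_c25)) = (LP (LK LD1_c1 LD2_c10 LD3_c5)) :=
  Lre_b IH (LK LD1_c0 LD2_c32 LD3_c25) (LK LD1_c1 LD2_c10 LD3_c5) Lrfl Lrfl
theorem f235105 : Led Lsl_gf (LP (LK LD1_c1 LD2_c11 LD3_c13)) = (LP (LK LD1_c1 LD2_c10 LD3_c5)) :=
  Lgr Lrot124 (Lpe (f53618 IH) (Lpr_ct (f234980 IH) (Lpr_gt (f218730 IH) (Lpe (K12.f218728 IH) (Lpr_bt (f40799 IH) (Lpr_gt (K9.f7630 IH) (Lpr_ct (K9.f165012 IH) (Lpr_gt (K12.f165013 IH) (Lpe (f181952 IH) (Lpr_bt (f168965 IH) (Lpn (LP (LK LD1_c1 LD2_c10 LD3_c5)))))))))))))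
theorem f53680 : Led Lsl_ct (LP (LK LD1_c1 LD2_c11 LD3_c15)) = (LP (LK LD1_c2 LD2_c28 LD3_c6)) :=
  Lre_c IH (LK LD1_c1 LD2_c11 LD3_c15) (LK LD1_c2 LD2_c28 LD3_c6) Lrfl Lrfl
theorem f212662 : Led Lsl_ct (LP (LK LD1_c4 LD2_c31 LD3_c16)) = (LP (LK LD1_c2 LD2_c12 LD3_c37)) :=
  Lre_c IH (LK LD1_c4 LD2_c31 LD3_c16) (LK LD1_c2 LD2_c12 LD3_c37) Lrfl Lrfl
theorem f212670 : Led Lsl_ff (LP (LK LD1_c1 LD2_c11 LD3_c15)) = (LP (LK LD1_c2 LD2_c12 LD3_c37)) :=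
  Lgr Lrot23 (Lpr_ct (f53680 IH) (Lpr_ft (K12.f212657 IH) (Lpr_ct (f212662 IH) (Lpn (LP (LK LD1_c2 LD2_c12 LD3_c37))))))
theorem f235107 : Led Lsl_gt (LP (LK LD1_c2 LD2_c12 LD3_c37)) = (LP (LK LD1_c1 LD2_c10 LD3_c5)) :=
  Lgr Lrot5 (Lpe (f212670 IH) (Lpe (K9.f53657 IH) (Lpr_gf (f235105 IH) (Lpn (LP (LK LD1_c1 LD2_c10 LD3_c5))))))
theorem f177917 : Led Lsl_dt (LP (LK LD1_c2 LD2_c12 LD3_c37)) = (LP (LK LD1_c1 LD2_c3 LD3_c20)) :=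
  Lre_d IH (LK LD1_c2 LD2_c12 LD3_c37) (LK LD1_c1 LD2_c3 LD3_c20) Lrfl Lrfl
theorem f41083 : Led Lsl_ct (LP (LK LD1_c1 LD2_c10 LD3_c5)) = (LP (LK LD1_c2 LD2_c25 LD3_c50)) :=
  Lre_c IH (LK LD1_c1 LD2_c10 LD3_c5) (LK LD1_c2 LD2_c25 LD3_c50) Lrfl Lrfl
theorem f235208 : Led Lsl_gf (LP (LK LD1_c4 LD2_c20 LD3_c56)) = (LP (LK LD1_c2 LD2_c25 LD3_c50)) :=
  Lgr Lrot104 (Lpr_ct (K12.f31169 IH) (Lpe (K0.f31163 IH) (Lpe (K10.f53952 IH) (Lpr_gf (K12.f212506 IH) (Lpe (K12.f177891 IH) (Lpe (K12.f177915 IH) (Lpe (f177917 IH) (Lpr_gt (f235107 IH) (Lpr_ct (f41083 IH) (Lpn (LP (LK LD1_c2 LD2_c25 LD3_c50))))))))))))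
theorem f31168 : Led Lsl_ct (LP (LK LD1_c2 LD2_c7 LD3_c51)) = (LP (LK LD1_c4 LD2_c20 LD3_c46)) :=
  Lre_c IH (LK LD1_c2 LD2_c7 LD3_c51) (LK LD1_c4 LD2_c20 LD3_c46) Lrfl Lrfl
theorem f31170 : Led Lsl_at (LP (LK LD1_c4 LD2_c20 LD3_c46)) = (LP (LK LD1_c4 LD2_c20 LD3_c56)) :=
  Lgr Lrot107 (Lpe (f31168 IH) (Lpr_af (K0.f31164 IH) (Lpe (K12.f31169 IH) (Lpn (LP (LK LD1_c4 LD2_c20 LD3_c56))))))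
theorem f168969 : Led Lsl_gt (LP (LK LD1_c4 LD2_c56 LD3_c2)) = (LP (LK LD1_c2 LD2_c25 LD3_c50)) :=
  Lre_g IH (LK LD1_c4 LD2_c56 LD3_c2) (LK LD1_c2 LD2_c25 LD3_c50) Lrfl Lrfl
theorem f235212 : Led Lsl_ff (LP (LK LD1_c4 LD2_c20 LD3_c46)) = (LP (LK LD1_c4 LD2_c56 LD3_c2)) :=
  Lgr Lrot52 (Lpr_at (f31170 IH) (Lpr_gf (f235208 IH) (Lpe (f168969 IH) (Lpn (LP (LK LD1_c4 LD2_c56 LD3_c2))))))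
theorem f235223 : Led Lsl_ft (LP (LK LD1_c4 LD2_c20 LD3_c46)) = (LP (LK LD1_c4 LD2_c56 LD3_c2)) :=
  Lgr Lrot48 (Lpr_ff (f235212 IH) (Lpn (LP (LK LD1_c4 LD2_c56 LD3_c2))))
theorem f171296 : Led Lsl_bt (LP (LK LD1_c1 LD2_c56 LD3_c3)) = (LP (LK LD1_c0 LD2_c54 LD3_c45)) :=
  Lre_b IH (LK LD1_c1 LD2_c56 LD3_c3) (LK LD1_c0 LD2_c54 LD3_c45) Lrfl Lrfl
theorem f171302 : Led Lsl_ct (LP (LK LD1_c1 LD2_c56 LD3_c3)) = (LP (LK LD1_c3 LD2_c58 LD3_c36)) :=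
  Lre_c IH (LK LD1_c1 LD2_c56 LD3_c3) (LK LD1_c3 LD2_c58 LD3_c36) Lrfl Lrfl
theorem f218141 : Led Lsl_gt (LP (LK LD1_c4 LD2_c20 LD3_c46)) = (LP (LK LD1_c3 LD2_c58 LD3_c36)) :=
  Lgr Lrot65 (Lpe (f31168 IH) (Lpr_bt (K10.f33512 IH) (Lpr_gf (K12.f218133 IH) (Lpe (K12.f169288 IH) (Lpr_ct (K9.f167786 IH) (Lpe (K9.f169273 IH) (Lpe (K9.f41039 IH) (Lpe (K9.f179510 IH) (Lpe (f171296 IH) (Lpr_ct (f171302 IH) (Lpn (LP (LK LD1_c3 LD2_c58 LD3_c36)))))))))))))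
theorem f212929 : Led Lsl_af (LP (LK LD1_c4 LD2_c31 LD3_c16)) = (LP (LK LD1_c2 LD2_c43 LD3_c33)) :=
  Lgr Lrot45 (Lpe (K12.f212644 IH) (Lpe (K12.f53669 IH) (Lpr_ft (K12.f212919 IH) (Lpn (LP (LK LD1_c2 LD2_c43 LD3_c33))))))
theorem f213476 : Led Lsl_at (LP (LK LD1_c2 LD2_c12 LD3_c37)) = (LP (LK LD1_c1 LD2_c18 LD3_c11)) :=
  Lgr Lrot107 (Lpe (f212662 IH) (Lpr_af (f212929 IH) (Lpe (K12.f199518 IH) (Lpn (LP (LK LD1_c1 LD2_c18 LD3_c11))))))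
theorem f212630 : Led Lsl_ft (LP (LK LD1_c1 LD2_c11 LD3_c15)) = (LP (LK LD1_c2 LD2_c12 LD3_c37)) :=
  Lgr Lrot54 (Lpe (K9.f21866 IH) (Lpr_ff (K12.f212538 IH) (Lpe (f177917 IH) (Lpn (LP (LK LD1_c2 LD2_c12 LD3_c37))))))
theorem f213024 : Led Lsl_bt (LP (LK LD1_c0 LD2_c7 LD3_c12)) = (LP (LK LD1_c0 LD2_c15 LD3_c50)) :=
  Lre_b IH (LK LD1_c0 LD2_c7 LD3_c12) (LK LD1_c0 LD2_c15 LD3_c50) Lrfl Lrfl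
theorem f171263 : Led Lsl_bt (LP (LK LD1_c0 LD2_c54 LD3_c45)) = (LP (LK LD1_c1 LD2_c56 LD3_c3)) :=
  Lre_b IH (LK LD1_c0 LD2_c54 LD3_c45) (LK LD1_c1 LD2_c56 LD3_c3) Lrfl Lrfl
theorem f213025 : Led Lsl_gf (LP (LK LD1_c1 LD2_c18 LD3_c11)) = (LP (LK LD1_c1 LD2_c56 LD3_c3)) :=
  Lgr Lrot181 (Lpr_ct (K12.f199518 IH) (Lpr_gt (K12.f212996 IH) (Lpe (K12.f194427 IH) (Lpr_bt (K12.f167846 IH) (Lpr_gt (K1.f42557 IH) (Lpe (f213024 IH) (Lpr_ct (K9.f174112 IH) (Lpr_gt (K9.f172326 IH) (Lpe (K9.f178171 IH) (Lpr_bt (f171263 IH) (Lpn (LP (LK LD1_c1 LD2_c56 LD3_c3)))))))))))))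
theorem f213478 : Led Lsl_gt (LP (LK LD1_c1 LD2_c11 LD3_c15)) = (LP (LK LD1_c1 LD2_c56 LD3_c3)) :=
  Lgr Lrot5 (Lpr_ft (f212630 IH) (Lpr_at (f213476 IH) (Lpr_gf (f213025 IH) (Lpn (LP (LK LD1_c1 LD2_c56 LD3_c3))))))
theorem f53958 : Led Lsl_dt (LP (LK LD1_c1 LD2_c11 LD3_c15)) = (LP (LK LD1_c0 LD2_c33 LD3_c2)) :=
  Lre_d IH (LK LD1_c1 LD2_c11 LD3_c15) (LK LD1_c0 LD2_c33 LD3_c2) Lrfl Lrfl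
theorem f189128 : Led Lsl_dt (LP (LK LD1_c1 LD2_c18 LD3_c10)) = (LP (LK LD1_c2 LD2_c43 LD3_c32)) :=
  Lre_d IH (LK LD1_c1 LD2_c18 LD3_c10) (LK LD1_c2 LD2_c43 LD3_c32) Lrfl Lrfl
theorem f189129 : Led Lsl_ct (LP (LK LD1_c5 LD2_c35 LD3_c12)) = (LP (LK LD1_c2 LD2_c43 LD3_c32)) :=
  Lre_c IH (LK LD1_c5 LD2_c35 LD3_c12) (LK LD1_c2 LD2_c43 LD3_c32) Lrfl Lrfl
theorem f213480 : Led Lsl_gf (LP (LK LD1_c5 LD2_c35 LD3_c12)) = (LP (LK LD1_c3 LD2_c58 LD3_c36)) :=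
  Lgr Lrot104 (Lpr_ct (f189129 IH) (Lpe (f189128 IH) (Lpe (K12.f189127 IH) (Lpe (K12.f178177 IH) (Lpe (K10.f177850 IH) (Lpr_gf (K10.f189097 IH) (Lpe (f53958 IH) (Lpr_gt (f213478 IH) (Lpr_ct (f171302 IH) (Lpn (LP (LK LD1_c3 LD2_c58 LD3_c36))))))))))))
theorem f235231 : Led Lsl_af (LP (LK LD1_c5 LD2_c35 LD3_c12)) = (LP (LK LD1_c4 LD2_c56 LD3_c2)) :=
  Lgr Lrot31 (Lpr_gf (f213480 IH) (Lpe (f218141 IH) (Lpr_ft (f235223 IH) (Lpn (LP (LK LD1_c4 LD2_c56 LD3_c2))))))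
theorem f235243 : Led Lsl_ft (LP (LK LD1_c5 LD2_c35 LD3_c12)) = (LP (LK LD1_c4 LD2_c20 LD3_c56)) :=
  Lgr Lrot101 (Lpr_af (f235231 IH) (Lpe (f235223 IH) (Lpr_af (K10.f31288 IH) (Lpn (LP (LK LD1_c4 LD2_c20 LD3_c56))))))
theorem f213470 : Led Lsl_ct (LP (LK LD1_c2 LD2_c43 LD3_c32)) = (LP (LK LD1_c5 LD2_c35 LD3_c12)) :=
  Lre_c IH (LK LD1_c2 LD2_c43 LD3_c32) (LK LD1_c5 LD2_c35 LD3_c12) Lrfl Lrfl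
theorem f235247 : Led Lsl_ff (LP (LK LD1_c2 LD2_c43 LD3_c32)) = (LP (LK LD1_c2 LD2_c7 LD3_c58)) :=
  Lgr Lrot23 (Lpr_ct (f213470 IH) (Lpr_ft (f235243 IH) (Lpr_ct (K12.f31169 IH) (Lpn (LP (LK LD1_c2 LD2_c7 LD3_c58))))))
theorem f193327 : Led Lsl_ct (LP (LK LD1_c0 LD2_c56 LD3_c29)) = (LP (LK LD1_c1 LD2_c59 LD3_c20)) :=
  Lre_c IH (LK LD1_c0 LD2_c56 LD3_c29) (LK LD1_c1 LD2_c59 LD3_c20) Lrfl Lrfl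
theorem f53055 : Led Lsl_ct (LP (LK LD1_c4 LD2_c3 LD3_c26)) = (LP (LK LD1_c1 LD2_c58 LD3_c41)) :=
  Lre_c IH (LK LD1_c4 LD2_c3 LD3_c26) (LK LD1_c1 LD2_c58 LD3_c41) Lrfl Lrfl
theorem f223700 : Led Lsl_gt (LP (LK LD1_c1 LD2_c59 LD3_c20)) = (LP (LK LD1_c4 LD2_c3 LD3_c26)) :=
  Lgr Lrot150 (Lpe (f193327 IH) (Lpe (K12.f223666 IH) (Lpr_df (K12.f223689 IH) (Lpe (K12.f216413 IH) (Lpr_ct (K12.f182375 IH) (Lpe (K12.f216325 IH) (Lpr_ct (K12.f6826 IH) (Lpr_df (K12.f220320 IH) (Lpe (f53055 IH) (Lpn (LP (LK LD1_c4 LD2_c3 LD3_c26))))))))))))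
theorem f196672 : Led Lsl_bt (LP (LK LD1_c0 LD2_c56 LD3_c29)) = (LP (LK LD1_c1 LD2_c59 LD3_c18)) :=
  Lre_b IH (LK LD1_c0 LD2_c56 LD3_c29) (LK LD1_c1 LD2_c59 LD3_c18) Lrfl Lrfl
theorem f222534 : Led Lsl_at (LP (LK LD1_c2 LD2_c40 LD3_c59)) = (LP (LK LD1_c1 LD2_c17 LD3_c19)) :=
  Lre_a IH (LK LD1_c2 LD2_c40 LD3_c59) (LK LD1_c1 LD2_c17 LD3_c19) Lrfl Lrfl
theorem f222535 : Led Lsl_ff (LP (LK LD1_c2 LD2_c40 LD3_c59)) = (LP (LK LD1_c4 LD2_c2 LD3_c45)) :=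
  Lgr Lrot103 (Lpr_at (f222534 IH) (Lpe (K12.f179128 IH) (Lpe (K12.f216847 IH) (Lpe (K12.f168174 IH) (Lpe (K12.f168351 IH) (Lpe (K12.f168456 IH) (Lpe (K12.f222531 IH) (Lpr_cf (K12.f222519 IH) (Lpe (K12.f219977 IH) (Lpn (LP (LK LD1_c4 LD2_c2 LD3_c45))))))))))))
theorem f217005 : Led Lsl_gt (LP (LK LD1_c2 LD2_c41 LD3_c17)) = (LP (LK LD1_c1 LD2_c17 LD3_c19)) :=
  Lre_g IH (LK LD1_c2 LD2_c41 LD3_c17) (LK LD1_c1 LD2_c17 LD3_c19) Lrfl Lrfl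
theorem f222554 : Led Lsl_gf (LP (LK LD1_c2 LD2_c41 LD3_c17)) = (LP (LK LD1_c4 LD2_c2 LD3_c45)) :=
  Lgr Lrot47 (Lpr_gt (f217005 IH) (Lpe (f222534 IH) (Lpr_ff (f222535 IH) (Lpn (LP (LK LD1_c4 LD2_c2 LD3_c45))))))
theorem f222244 : Led Lsl_cf (LP (LK LD1_c2 LD2_c41 LD3_c17)) = (LP (LK LD1_c2 LD2_c43 LD3_c39)) :=
  Lgr Lrot169 (Lpr_gt (f217005 IH) (Lpr_ct (K12.f216961 IH) (Lpe (K12.f216847 IH) (Lpe (K12.f168174 IH) (Lpe (K12.f168537 IH) (Lpe (K12.f212775 IH) (Lpr_gf (K12.f222242 IH) (Lpe (K12.f51417 IH) (Lpe (f189690 IH) (Lpn (LP (LK LD1_c2 LD2_c43 LD3_c39))))))))))))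
theorem f189438 : Led Lsl_bt (LP (LK LD1_c2 LD2_c43 LD3_c39)) = (LP (LK LD1_c1 LD2_c18 LD3_c14)) :=
  Lre_b IH (LK LD1_c2 LD2_c43 LD3_c39) (LK LD1_c1 LD2_c18 LD3_c14) Lrfl Lrfl
theorem f233931 : Led Lsl_gf (LP (LK LD1_c1 LD2_c59 LD3_c18)) = (LP (LK LD1_c1 LD2_c18 LD3_c14)) :=
  Lgr Lrot124 (Lpe (f196672 IH) (Lpr_ct (f193327 IH) (Lpr_gt (f223700 IH) (Lpe (K12.f53021 IH) (Lpe (K12.f220218 IH) (Lpr_gt (f233927 IH) (Lpr_ct (K12.f53086 IH) (Lpe (f222554 IH) (Lpr_cf (f222244 IH) (Lpr_bt (f189438 IH) (Lpn (LP (LK LD1_c1 LD2_c18 LD3_c14)))))))))))))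
theorem f178051 : Led Lsl_ct (LP (LK LD1_c2 LD2_c43 LD3_c40)) = (LP (LK LD1_c1 LD2_c18 LD3_c14)) :=
  Lre_c IH (LK LD1_c2 LD2_c43 LD3_c40) (LK LD1_c1 LD2_c18 LD3_c14) Lrfl Lrfl
theorem f223895 : Led Lsl_gf (LP (LK LD1_c1 LD2_c9 LD3_c58)) = (LP (LK LD1_c2 LD2_c25 LD3_c17)) :=
  Lgr Lrot47 (Lpr_gt (K12.f217464 IH) (Lpe (K12.f53139 IH) (Lpr_ff (K12.f223891 IH) (Lpn (LP (LK LD1_c2 LD2_c25 LD3_c17))))))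
theorem f171898 : Led Lsl_ct (LP (LK LD1_c1 LD2_c9 LD3_c58)) = (LP (LK LD1_c0 LD2_c32 LD3_c21)) :=
  Lre_c IH (LK LD1_c1 LD2_c9 LD3_c58) (LK LD1_c0 LD2_c32 LD3_c21) Lrfl Lrfl
theorem f171911 : Led Lsl_gt (LP (LK LD1_c0 LD2_c32 LD3_c21)) = (LP (LK LD1_c0 LD2_c14 LD3_c30)) :=
  Lre_g IH (LK LD1_c0 LD2_c32 LD3_c21) (LK LD1_c0 LD2_c14 LD3_c30) Lrfl Lrfl
theorem f223897 : Led Lsl_gf (LP (LK LD1_c2 LD2_c39 LD3_c2)) = (LP (LK LD1_c4 LD2_c54 LD3_c48)) :=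
  Lgr Lrot147 (Lpr_ct (K9.f173089 IH) (Lpr_gt (K9.f173088 IH) (Lpr_ct (K12.f218237 IH) (Lpe (K1.f42558 IH) (Lpe (K9.f167828 IH) (Lpe (f171911 IH) (Lpe (f171898 IH) (Lpr_gf (f223895 IH) (Lpe (K12.f223822 IH) (Lpn (LP (LK LD1_c4 LD2_c54 LD3_c48))))))))))))
theorem f214015 : Led Lsl_dt (LP (LK LD1_c2 LD2_c25 LD3_c17)) = (LP (LK LD1_c4 LD2_c54 LD3_c48)) :=
  Lre_d IH (LK LD1_c2 LD2_c25 LD3_c17) (LK LD1_c4 LD2_c54 LD3_c48) Lrfl Lrfl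
theorem f223889 : Led Lsl_ff (LP (LK LD1_c4 LD2_c13 LD3_c24)) = (LP (LK LD1_c4 LD2_c54 LD3_c48)) :=
  Lgr Lrot19 (Lpr_dt (K10.f43267 IH) (Lpr_ft (K12.f223884 IH) (Lpr_dt (f214015 IH) (Lpn (LP (LK LD1_c4 LD2_c54 LD3_c48))))))
theorem f223900 : Led Lsl_gt (LP (LK LD1_c2 LD2_c39 LD3_c2)) = (LP (LK LD1_c2 LD2_c4 LD3_c1)) :=
  Lgr Lrot46 (Lpr_gf (f223897 IH) (Lpe (f223889 IH) (Lpr_at (K10.f27717 IH) (Lpn (LP (LK LD1_c2 LD2_c4 LD3_c1))))))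
theorem f218234 : Led Lsl_dt (LP (LK LD1_c0 LD2_c35 LD3_c20)) = (LP (LK LD1_c1 LD2_c16 LD3_c23)) :=
  Lre_d IH (LK LD1_c0 LD2_c35 LD3_c20) (LK LD1_c1 LD2_c16 LD3_c23) Lrfl Lrfl
theorem f196719 : Led Lsl_gt (LP (LK LD1_c1 LD2_c16 LD3_c23)) = (LP (LK LD1_c2 LD2_c39 LD3_c10)) :=
  Lre_g IH (LK LD1_c1 LD2_c16 LD3_c23) (LK LD1_c2 LD2_c39 LD3_c10) Lrfl Lrfl
theorem f214018 : Led Lsl_ct (LP (LK LD1_c4 LD2_c54 LD3_c50)) = (LP (LK LD1_c2 LD2_c25 LD3_c18)) :=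
  Lre_c IH (LK LD1_c4 LD2_c54 LD3_c50) (LK LD1_c2 LD2_c25 LD3_c18) Lrfl Lrfl
theorem f224060 : Led Lsl_dt (LP (LK LD1_c2 LD2_c39 LD3_c10)) = (LP (LK LD1_c4 LD2_c54 LD3_c50)) :=
  Lgr Lrot105 (Lpe (f196719 IH) (Lpe (f218234 IH) (Lpe (K9.f173088 IH) (Lpe (K9.f173089 IH) (Lpr_gt (f223900 IH) (Lpr_dt (K0.f27702 IH) (Lpr_gt (K12.f216296 IH) (Lpr_dt (K12.f214012 IH) (Lpe (f214018 IH) (Lpn (LP (LK LD1_c4 LD2_c54 LD3_c50))))))))))))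
theorem f224064 : Led Lsl_df (LP (LK LD1_c2 LD2_c39 LD3_c10)) = (LP (LK LD1_c4 LD2_c54 LD3_c50)) :=
  Lgr Lrot38 (Lpr_dt (f224060 IH) (Lpn (LP (LK LD1_c4 LD2_c54 LD3_c50))))
theorem f217449 : Led Lsl_gt (LP (LK LD1_c2 LD2_c39 LD3_c10)) = (LP (LK LD1_c4 LD2_c55 LD3_c47)) :=
  Lre_g IH (LK LD1_c2 LD2_c39 LD3_c10) (LK LD1_c4 LD2_c55 LD3_c47) Lrfl Lrfl
theorem f224143 : Led Lsl_ct (LP (LK LD1_c1 LD2_c15 LD3_c58)) = (LP (LK LD1_c2 LD2_c37 LD3_c58)) :=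
  Lre_c IH (LK LD1_c1 LD2_c15 LD3_c58) (LK LD1_c2 LD2_c37 LD3_c58) Lrfl Lrfl
theorem f224144 : Led Lsl_gt (LP (LK LD1_c2 LD2_c37 LD3_c58)) = (LP (LK LD1_c4 LD2_c54 LD3_c50)) :=
  Lgr Lrot94 (Lpe (f224143 IH) (Lpr_gt (K12.f217718 IH) (Lpr_dt (K12.f196604 IH) (Lpr_gt (K1.f41432 IH) (Lpr_dt (K1.f41422 IH) (Lpe (K12.f216301 IH) (Lpe (K12.f217659 IH) (Lpe (f217449 IH) (Lpr_df (f224064 IH) (Lpn (LP (LK LD1_c4 LD2_c54 LD3_c50))))))))))))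
theorem f167824 : Led Lsl_dt (LP (LK LD1_c0 LD2_c35 LD3_c16)) = (LP (LK LD1_c0 LD2_c15 LD3_c49)) :=
  Lre_d IH (LK LD1_c0 LD2_c35 LD3_c16) (LK LD1_c0 LD2_c15 LD3_c49) Lrfl Lrfl
theorem f224169 : Led Lsl_gf (LP (LK LD1_c1 LD2_c15 LD3_c58)) = (LP (LK LD1_c0 LD2_c35 LD3_c16)) :=
  Lgr Lrot147 (Lpr_ct (f224143 IH) (Lpr_gt (f224144 IH) (Lpr_ct (f214018 IH) (Lpe (K12.f214012 IH) (Lpe (K12.f168193 IH) (Lpe (K12.f168191 IH) (Lpe (K12.f167844 IH) (Lpe (K9.f42112 IH) (Lpe (f167824 IH) (Lpn (LP (LK LD1_c0 LD2_c35 LD3_c16))))))))))))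
theorem f224171 : Led Lsl_bt (LP (LK LD1_c1 LD2_c16 LD3_c4)) = (LP (LK LD1_c0 LD2_c35 LD3_c16)) :=
  Lre_b IH (LK LD1_c1 LD2_c16 LD3_c4) (LK LD1_c0 LD2_c35 LD3_c16) Lrfl Lrfl
theorem f224172 : Led Lsl_ct (LP (LK LD1_c1 LD2_c16 LD3_c4)) = (LP (LK LD1_c2 LD2_c38 LD3_c14)) :=
  Lre_c IH (LK LD1_c1 LD2_c16 LD3_c4) (LK LD1_c2 LD2_c38 LD3_c14) Lrfl Lrfl
theorem f214025 : Led Lsl_ct (LP (LK LD1_c2 LD2_c25 LD3_c18)) = (LP (LK LD1_c4 LD2_c54 LD3_c50)) :=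
  Lre_c IH (LK LD1_c2 LD2_c25 LD3_c18) (LK LD1_c4 LD2_c54 LD3_c50) Lrfl Lrfl
theorem f189389 : Led Lsl_ct (LP (LK LD1_c1 LD2_c18 LD3_c14)) = (LP (LK LD1_c2 LD2_c43 LD3_c40)) :=
  Lre_c IH (LK LD1_c1 LD2_c18 LD3_c14) (LK LD1_c2 LD2_c43 LD3_c40) Lrfl Lrfl
theorem f224173 : Led Lsl_gf (LP (LK LD1_c2 LD2_c38 LD3_c14)) = (LP (LK LD1_c2 LD2_c43 LD3_c40)) :=
  Lgr Lrot126 (Lpe (f224172 IH) (Lpr_bt (f224171 IH) (Lpe (f224169 IH) (Lpr_ct (f224143 IH) (Lpr_gt (f224144 IH) (Lpe (f214025 IH) (Lpe (K12.f214013 IH) (Lpe (f189690 IH) (Lpe (f189386 IH) (Lpr_ct (f189389 IH) (Lpn (LP (LK LD1_c2 LD2_c43 LD3_c40)))))))))))))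
theorem f224178 : Led Lsl_dt (LP (LK LD1_c2 LD2_c38 LD3_c14)) = (LP (LK LD1_c5 LD2_c23 LD3_c28)) :=
  Lre_d IH (LK LD1_c2 LD2_c38 LD3_c14) (LK LD1_c5 LD2_c23 LD3_c28) Lrfl Lrfl
theorem f233933 : Led Lsl_gf (LP (LK LD1_c5 LD2_c0 LD3_c44)) = (LP (LK LD1_c5 LD2_c23 LD3_c28)) :=
  Lgr Lrot143 (Lpr_dt (K12.f53711 IH) (Lpe (f53680 IH) (Lpe (K9.f21866 IH) (Lpe (K12.f199181 IH) (Lpe (K12.f192823 IH) (Lpr_gf (f233931 IH) (Lpe (f178051 IH) (Lpe (f224173 IH) (Lpr_dt (f224178 IH) (Lpn (LP (LK LD1_c5 LD2_c23 LD3_c28))))))))))))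
theorem f53681 : Led Lsl_at (LP (LK LD1_c5 LD2_c0 LD3_c40)) = (LP (LK LD1_c5 LD2_c0 LD3_c44)) :=
  Lgr Lrot100 (Lpr_af (K12.f53678 IH) (Lpn (LP (LK LD1_c5 LD2_c0 LD3_c44))))
theorem f212772 : Led Lsl_dt (LP (LK LD1_c2 LD2_c43 LD3_c33)) = (LP (LK LD1_c5 LD2_c35 LD3_c15)) :=
  Lre_d IH (LK LD1_c2 LD2_c43 LD3_c33) (LK LD1_c5 LD2_c35 LD3_c15) Lrfl Lrfl
theorem f212933 : Led Lsl_ff (LP (LK LD1_c5 LD2_c0 LD3_c40)) = (LP (LK LD1_c5 LD2_c35 LD3_c15)) :=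
  Lgr Lrot19 (Lpr_dt (K12.f53668 IH) (Lpr_ft (K12.f212919 IH) (Lpr_dt (f212772 IH) (Lpn (LP (LK LD1_c5 LD2_c35 LD3_c15))))))
theorem f234007 : Led Lsl_gt (LP (LK LD1_c5 LD2_c35 LD3_c15)) = (LP (LK LD1_c5 LD2_c23 LD3_c28)) :=
  Lgr Lrot5 (Lpe (f212933 IH) (Lpr_at (f53681 IH) (Lpr_gf (f233933 IH) (Lpn (LP (LK LD1_c5 LD2_c23 LD3_c28))))))
theorem f213447 : Led Lsl_ct (LP (LK LD1_c5 LD2_c0 LD3_c42)) = (LP (LK LD1_c4 LD2_c20 LD3_c55)) :=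
  Lgr Lrot59 (Lpr_cf (K12.f213442 IH) (Lpn (LP (LK LD1_c4 LD2_c20 LD3_c55))))
theorem f224187 : Led Lsl_dt (LP (LK LD1_c5 LD2_c23 LD3_c28)) = (LP (LK LD1_c2 LD2_c38 LD3_c14)) :=
  Lre_d IH (LK LD1_c5 LD2_c23 LD3_c28) (LK LD1_c2 LD2_c38 LD3_c14) Lrfl Lrfl
theorem f224181 : Led Lsl_dt (LP (LK LD1_c0 LD2_c35 LD3_c14)) = (LP (LK LD1_c1 LD2_c16 LD3_c4)) :=
  Lre_d IH (LK LD1_c0 LD2_c35 LD3_c14) (LK LD1_c1 LD2_c16 LD3_c4) Lrfl Lrfl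
theorem f196572 : Led Lsl_gt (LP (LK LD1_c1 LD2_c16 LD3_c2)) = (LP (LK LD1_c0 LD2_c35 LD3_c14)) :=
  Lre_g IH (LK LD1_c1 LD2_c16 LD3_c2) (LK LD1_c0 LD2_c35 LD3_c14) Lrfl Lrfl
theorem f234042 : Led Lsl_dt (LP (LK LD1_c2 LD2_c38 LD3_c9)) = (LP (LK LD1_c1 LD2_c16 LD3_c2)) :=
  Lre_d IH (LK LD1_c2 LD2_c38 LD3_c9) (LK LD1_c1 LD2_c16 LD3_c2) Lrfl Lrfl
theorem f234043 : Led Lsl_gt (LP (LK LD1_c4 LD2_c20 LD3_c55)) = (LP (LK LD1_c2 LD2_c38 LD3_c9)) :=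
  Lgr Lrot94 (Lpe (f213447 IH) (Lpr_gt (K12.f213439 IH) (Lpr_dt (f212772 IH) (Lpr_gt (f234007 IH) (Lpr_dt (f224187 IH) (Lpe (f224172 IH) (Lpe (f224181 IH) (Lpe (f196572 IH) (Lpe (f234042 IH) (Lpn (LP (LK LD1_c2 LD2_c38 LD3_c9))))))))))))
theorem f235542 : Led Lsl_at (LP (LK LD1_c2 LD2_c43 LD3_c32)) = (LP (LK LD1_c2 LD2_c38 LD3_c9)) :=
  Lgr Lrot26 (Lpr_ff (f235247 IH) (Lpr_gt (K12.f48129 IH) (Lpr_gt (f234043 IH) (Lpn (LP (LK LD1_c2 LD2_c38 LD3_c9))))))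
theorem f235251 : Led Lsl_ff (LP (LK LD1_c5 LD2_c35 LD3_c12)) = (LP (LK LD1_c4 LD2_c20 LD3_c56)) :=
  Lgr Lrot3 (Lpr_ft (f235243 IH) (Lpn (LP (LK LD1_c4 LD2_c20 LD3_c56))))
theorem f235233 : Led Lsl_at (LP (LK LD1_c5 LD2_c35 LD3_c12)) = (LP (LK LD1_c4 LD2_c56 LD3_c2)) :=
  Lgr Lrot100 (Lpr_af (f235231 IH) (Lpn (LP (LK LD1_c4 LD2_c56 LD3_c2))))
theorem f218244 : Led Lsl_bt (LP (LK LD1_c2 LD2_c4 LD3_c40)) = (LP (LK LD1_c0 LD2_c59 LD3_c21)) :=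
  Lre_b IH (LK LD1_c2 LD2_c4 LD3_c40) (LK LD1_c0 LD2_c59 LD3_c21) Lrfl Lrfl
theorem f218245 : Led Lsl_ct (LP (LK LD1_c2 LD2_c4 LD3_c40)) = (LP (LK LD1_c4 LD2_c14 LD3_c34)) :=
  Lre_c IH (LK LD1_c2 LD2_c4 LD3_c40) (LK LD1_c4 LD2_c14 LD3_c34) Lrfl Lrfl
theorem f194441 : Led Lsl_bt (LP (LK LD1_c0 LD2_c35 LD3_c19)) = (LP (LK LD1_c1 LD2_c16 LD3_c16)) :=
  Lre_b IH (LK LD1_c0 LD2_c35 LD3_c19) (LK LD1_c1 LD2_c16 LD3_c16) Lrfl Lrfl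
theorem f218246 : Led Lsl_gf (LP (LK LD1_c4 LD2_c14 LD3_c34)) = (LP (LK LD1_c4 LD2_c20 LD3_c56)) :=
  Lgr Lrot129 (Lpe (f218245 IH) (Lpr_bt (f218244 IH) (Lpr_gt (K12.f216415 IH) (Lpe (K10.f196834 IH) (Lpr_ct (K12.f196833 IH) (Lpr_gt (K12.f217930 IH) (Lpe (K12.f194444 IH) (Lpr_bt (f194441 IH) (Lpr_gt (K12.f194439 IH) (Lpr_ct (K10.f31296 IH) (Lpn (LP (LK LD1_c4 LD2_c20 LD3_c56)))))))))))))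
theorem f235259 : Led Lsl_gf (LP (LK LD1_c4 LD2_c56 LD3_c2)) = (LP (LK LD1_c4 LD2_c14 LD3_c34)) :=
  Lgr Lrot76 (Lpe (f235233 IH) (Lpr_ff (f235251 IH) (Lpe (f218246 IH) (Lpn (LP (LK LD1_c4 LD2_c14 LD3_c34))))))
theorem f169142 : Led Lsl_at (LP (LK LD1_c4 LD2_c56 LD3_c0)) = (LP (LK LD1_c2 LD2_c25 LD3_c50)) :=
  Lre_a IH (LK LD1_c4 LD2_c56 LD3_c0) (LK LD1_c2 LD2_c25 LD3_c50) Lrfl Lrfl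
theorem f235261 : Led Lsl_ff (LP (LK LD1_c4 LD2_c56 LD3_c0)) = (LP (LK LD1_c4 LD2_c14 LD3_c34)) :=
  Lgr Lrot52 (Lpr_at (f169142 IH) (Lpe (f168969 IH) (Lpr_gf (f235259 IH) (Lpn (LP (LK LD1_c4 LD2_c14 LD3_c34))))))
theorem f235275 : Led Lsl_ft (LP (LK LD1_c4 LD2_c56 LD3_c0)) = (LP (LK LD1_c4 LD2_c14 LD3_c34)) :=
  Lgr Lrot48 (Lpr_ff (f235261 IH) (Lpn (LP (LK LD1_c4 LD2_c14 LD3_c34))))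
theorem f235304 : Led Lsl_ct (LP (LK LD1_c2 LD2_c25 LD3_c49)) = (LP (LK LD1_c4 LD2_c56 LD3_c0)) :=
  Lre_c IH (LK LD1_c2 LD2_c25 LD3_c49) (LK LD1_c4 LD2_c56 LD3_c0) Lrfl Lrfl
theorem f218270 : Led Lsl_ct (LP (LK LD1_c4 LD2_c14 LD3_c34)) = (LP (LK LD1_c2 LD2_c4 LD3_c40)) :=
  Lre_c IH (LK LD1_c4 LD2_c14 LD3_c34) (LK LD1_c2 LD2_c4 LD3_c40) Lrfl Lrfl
theorem f235305 : Led Lsl_ff (LP (LK LD1_c2 LD2_c25 LD3_c49)) = (LP (LK LD1_c2 LD2_c4 LD3_c40)) :=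
  Lgr Lrot23 (Lpr_ct (f235304 IH) (Lpr_ft (f235275 IH) (Lpr_ct (f218270 IH) (Lpn (LP (LK LD1_c2 LD2_c4 LD3_c40))))))
theorem f168964 : Led Lsl_at (LP (LK LD1_c2 LD2_c25 LD3_c49)) = (LP (LK LD1_c1 LD2_c10 LD3_c5)) :=
  Lre_a IH (LK LD1_c2 LD2_c25 LD3_c49) (LK LD1_c1 LD2_c10 LD3_c5) Lrfl Lrfl
theorem f235319 : Led Lsl_gf (LP (LK LD1_c2 LD2_c12 LD3_c37)) = (LP (LK LD1_c2 LD2_c4 LD3_c40)) :=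
  Lgr Lrot47 (Lpr_gt (f235107 IH) (Lpe (f168964 IH) (Lpr_ff (f235305 IH) (Lpn (LP (LK LD1_c2 LD2_c4 LD3_c40))))))
theorem f177912 : Led Lsl_dt (LP (LK LD1_c0 LD2_c28 LD3_c55)) = (LP (LK LD1_c1 LD2_c3 LD3_c21)) :=
  Lre_d IH (LK LD1_c0 LD2_c28 LD3_c55) (LK LD1_c1 LD2_c3 LD3_c21) Lrfl Lrfl
theorem f175040 : Led Lsl_ct (LP (LK LD1_c1 LD2_c3 LD3_c21)) = (LP (LK LD1_c2 LD2_c12 LD3_c40)) :=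
  Lre_c IH (LK LD1_c1 LD2_c3 LD3_c21) (LK LD1_c2 LD2_c12 LD3_c40) Lrfl Lrfl
theorem f175037 : Led Lsl_dt (LP (LK LD1_c4 LD2_c31 LD3_c26)) = (LP (LK LD1_c2 LD2_c12 LD3_c40)) :=
  Lre_d IH (LK LD1_c4 LD2_c31 LD3_c26) (LK LD1_c2 LD2_c12 LD3_c40) Lrfl Lrfl
theorem f175038 : Led Lsl_gt (LP (LK LD1_c9 LD2_c0 LD3_c52)) = (LP (LK LD1_c4 LD2_c31 LD3_c26)) :=
  Lre_g IH (LK LD1_c9 LD2_c0 LD3_c52) (LK LD1_c4 LD2_c31 LD3_c26) Lrfl Lrfl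
theorem f235323 : Led Lsl_df (LP (LK LD1_c9 LD2_c0 LD3_c52)) = (LP (LK LD1_c4 LD2_c56 LD3_c2)) :=
  Lgr Lrot153 (Lpr_gt (f175038 IH) (Lpr_dt (f175037 IH) (Lpe (f175040 IH) (Lpe (f177912 IH) (Lpe (K12.f177915 IH) (Lpe (f177917 IH) (Lpr_gf (f235319 IH) (Lpe (f218270 IH) (Lpe (f235259 IH) (Lpn (LP (LK LD1_c4 LD2_c56 LD3_c2))))))))))))
theorem f53667 : Led Lsl_ct (LP (LK LD1_c2 LD2_c28 LD3_c4)) = (LP (LK LD1_c1 LD2_c11 LD3_c13)) :=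
  Lre_c IH (LK LD1_c2 LD2_c28 LD3_c4) (LK LD1_c1 LD2_c11 LD3_c13) Lrfl Lrfl
theorem f235337 : Led Lsl_ct (LP (LK LD1_c9 LD2_c0 LD3_c52)) = (LP (LK LD1_c5 LD2_c0 LD3_c40)) :=
  Lgr Lrot133 (Lpr_df (f235323 IH) (Lpe (f235212 IH) (Lpr_at (f31170 IH) (Lpe (K10.f31296 IH) (Lpe (K0.f31163 IH) (Lpe (K10.f53952 IH) (Lpe (K9.f33294 IH) (Lpe (f53667 IH) (Lpe (K12.f53668 IH) (Lpn (LP (LK LD1_c5 LD2_c0 LD3_c40))))))))))))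
theorem f235343 : Led Lsl_cf (LP (LK LD1_c9 LD2_c0 LD3_c52)) = (LP (LK LD1_c5 LD2_c0 LD3_c40)) :=
  Lgr Lrot11 (Lpr_ct (f235337 IH) (Lpn (LP (LK LD1_c5 LD2_c0 LD3_c40))))
theorem f235330 : Led Lsl_dt (LP (LK LD1_c9 LD2_c0 LD3_c52)) = (LP (LK LD1_c4 LD2_c56 LD3_c2)) :=
  Lgr Lrot42 (Lpr_df (f235323 IH) (Lpn (LP (LK LD1_c4 LD2_c56 LD3_c2))))
theorem f235544 : Led Lsl_cf (LP (LK LD1_c2 LD2_c38 LD3_c9)) = (LP (LK LD1_c4 LD2_c56 LD3_c2)) :=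
  Lgr Lrot102 (Lpe (f235542 IH) (Lpr_ff (f235247 IH) (Lpr_dt (K10.f28982 IH) (Lpr_ct (K8.f33280 IH) (Lpr_dt (K12.f33318 IH) (Lpr_ct (K12.f53663 IH) (Lpr_dt (K12.f53710 IH) (Lpe (f235343 IH) (Lpr_dt (f235330 IH) (Lpn (LP (LK LD1_c4 LD2_c56 LD3_c2))))))))))))
theorem f235555 : Led Lsl_ft (LP (LK LD1_c2 LD2_c38 LD3_c9)) = (LP (LK LD1_c2 LD2_c7 LD3_c51)) :=
  Lgr Lrot4 (Lpr_cf (f235544 IH) (Lpe (f235223 IH) (Lpe (f31168 IH) (Lpn (LP (LK LD1_c2 LD2_c7 LD3_c51))))))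
theorem f31166 : Led Lsl_at (LP (LK LD1_c2 LD2_c7 LD3_c51)) = (LP (LK LD1_c2 LD2_c7 LD3_c58)) :=
  Lgr Lrot100 (Lpr_af (K0.f31164 IH) (Lpn (LP (LK LD1_c2 LD2_c7 LD3_c58))))
theorem f235571 : Led Lsl_gt (LP (LK LD1_c2 LD2_c38 LD3_c9)) = (LP (LK LD1_c1 LD2_c16 LD3_c16)) :=
  Lgr Lrot5 (Lpr_ft (f235555 IH) (Lpr_at (f31166 IH) (Lpe (K12.f194439 IH) (Lpn (LP (LK LD1_c1 LD2_c16 LD3_c16))))))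
theorem f234101 : Led Lsl_dt (LP (LK LD1_c1 LD2_c16 LD3_c2)) = (LP (LK LD1_c2 LD2_c38 LD3_c9)) :=
  Lre_d IH (LK LD1_c1 LD2_c16 LD3_c2) (LK LD1_c2 LD2_c38 LD3_c9) Lrfl Lrfl
theorem f28028 : Led Lsl_et (LP (LK LD1_c4 LD2_c3 LD3_c18)) = (LP (LK LD1_c1 LD2_c58 LD3_c37)) :=
  Lre_e IH (LK LD1_c4 LD2_c3 LD3_c18) (LK LD1_c1 LD2_c58 LD3_c37) Lrfl Lrfl
theorem f28032 : Led Lsl_et (LP (LK LD1_c0 LD2_c56 LD3_c9)) = (LP (LK LD1_c0 LD2_c56 LD3_c9)) :=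
  Lgr Lrot71 (Lpe (K10.f28029 IH) (Lpe (f28028 IH) (Lpr_df (K10.f27994 IH) (Lpe (K9.f28030 IH) (Lpe (K10.f28031 IH) (Lpn (LP (LK LD1_c0 LD2_c56 LD3_c9))))))))
theorem f28048 : Led Lsl_at (LP (LK LD1_c1 LD2_c57 LD3_c20)) = (LP (LK LD1_c0 LD2_c56 LD3_c9)) :=
  Lre_a IH (LK LD1_c1 LD2_c57 LD3_c20) (LK LD1_c0 LD2_c56 LD3_c9) Lrfl Lrfl
theorem f28050 : Led Lsl_ef (LP (LK LD1_c1 LD2_c57 LD3_c20)) = (LP (LK LD1_c1 LD2_c57 LD3_c20)) :=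
  Lgr Lrot20 (Lpr_at (f28048 IH) (Lpr_et (f28032 IH) (Lpr_at (K10.f28049 IH) (Lpn (LP (LK LD1_c1 LD2_c57 LD3_c20))))))
theorem f42527 : Led Lsl_dt (LP (LK LD1_c2 LD2_c37 LD3_c54)) = (LP (LK LD1_c1 LD2_c15 LD3_c56)) :=
  Lre_d IH (LK LD1_c2 LD2_c37 LD3_c54) (LK LD1_c1 LD2_c15 LD3_c56) Lrfl Lrfl
theorem f42534 : Led Lsl_bt (LP (LK LD1_c1 LD2_c15 LD3_c56)) = (LP (LK LD1_c2 LD2_c37 LD3_c48)) :=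
  Lre_b IH (LK LD1_c1 LD2_c15 LD3_c56) (LK LD1_c2 LD2_c37 LD3_c48) Lrfl Lrfl
theorem f194691 : Led Lsl_df (LP (LK LD1_c1 LD2_c58 LD3_c35)) = (LP (LK LD1_c2 LD2_c37 LD3_c48)) :=
  Lgr Lrot12 (Lpr_bt (K10.f194642 IH) (Lpr_dt (f42527 IH) (Lpr_bt (f42534 IH) (Lpn (LP (LK LD1_c2 LD2_c37 LD3_c48))))))
theorem f235577 : Led Lsl_gf (LP (LK LD1_c1 LD2_c16 LD3_c2)) = (LP (LK LD1_c1 LD2_c15 LD3_c54)) :=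
  Lgr Lrot138 (Lpr_dt (f234101 IH) (Lpr_gt (f235571 IH) (Lpr_df (K12.f194422 IH) (Lpr_et (K10.f28071 IH) (Lpr_gt (K10.f28070 IH) (Lpr_ef (f28050 IH) (Lpr_dt (K10.f28057 IH) (Lpr_gt (K10.f28072 IH) (Lpr_df (f194691 IH) (Lpr_et (K10.f172002 IH) (Lpn (LP (LK LD1_c1 LD2_c15 LD3_c54)))))))))))))
theorem f235619 : Led Lsl_at (LP (LK LD1_c1 LD2_c16 LD3_c3)) = (LP (LK LD1_c0 LD2_c35 LD3_c14)) :=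
  Lre_a IH (LK LD1_c1 LD2_c16 LD3_c3) (LK LD1_c0 LD2_c35 LD3_c14) Lrfl Lrfl
theorem f235620 : Led Lsl_ff (LP (LK LD1_c1 LD2_c16 LD3_c3)) = (LP (LK LD1_c1 LD2_c15 LD3_c54)) :=
  Lgr Lrot52 (Lpr_at (f235619 IH) (Lpe (f196572 IH) (Lpr_gf (f235577 IH) (Lpn (LP (LK LD1_c1 LD2_c15 LD3_c54))))))
theorem f235626 : Led Lsl_ft (LP (LK LD1_c1 LD2_c16 LD3_c3)) = (LP (LK LD1_c1 LD2_c15 LD3_c54)) :=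
  Lgr Lrot48 (Lpr_ff (f235620 IH) (Lpn (LP (LK LD1_c1 LD2_c15 LD3_c54))))
theorem f235629 : Led Lsl_dt (LP (LK LD1_c2 LD2_c38 LD3_c10)) = (LP (LK LD1_c1 LD2_c16 LD3_c3)) :=
  Lre_d IH (LK LD1_c2 LD2_c38 LD3_c10) (LK LD1_c1 LD2_c16 LD3_c3) Lrfl Lrfl
theorem f235630 : Led Lsl_ff (LP (LK LD1_c2 LD2_c38 LD3_c10)) = (LP (LK LD1_c2 LD2_c37 LD3_c47)) :=
  Lgr Lrot19 (Lpr_dt (f235629 IH) (Lpr_ft (f235626 IH) (Lpr_dt (K10.f172027 IH) (Lpn (LP (LK LD1_c2 LD2_c37 LD3_c47))))))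
theorem f234081 : Led Lsl_at (LP (LK LD1_c2 LD2_c38 LD3_c10)) = (LP (LK LD1_c1 LD2_c16 LD3_c4)) :=
  Lre_a IH (LK LD1_c2 LD2_c38 LD3_c10) (LK LD1_c1 LD2_c16 LD3_c4) Lrfl Lrfl
theorem f221609 : Led Lsl_gt (LP (LK LD1_c2 LD2_c38 LD3_c13)) = (LP (LK LD1_c1 LD2_c16 LD3_c4)) :=
  Lre_g IH (LK LD1_c2 LD2_c38 LD3_c13) (LK LD1_c1 LD2_c16 LD3_c4) Lrfl Lrfl
theorem f235637 : Led Lsl_gf (LP (LK LD1_c2 LD2_c38 LD3_c13)) = (LP (LK LD1_c2 LD2_c37 LD3_c47)) :=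
  Lgr Lrot47 (Lpr_gt (f221609 IH) (Lpe (f234081 IH) (Lpr_ff (f235630 IH) (Lpn (LP (LK LD1_c2 LD2_c37 LD3_c47))))))
theorem f235550 : Led Lsl_ct (LP (LK LD1_c1 LD2_c16 LD3_c2)) = (LP (LK LD1_c1 LD2_c3 LD3_c20)) :=
  Lgr Lrot176 (Lpe (f234042 IH) (Lpr_cf (f235544 IH) (Lpe (f235330 IH) (Lpr_cf (f235343 IH) (Lpe (K12.f53710 IH) (Lpe (K12.f53663 IH) (Lpe (K12.f33318 IH) (Lpe (K8.f33280 IH) (Lpe (K10.f28982 IH) (Lpe (K12.f31169 IH) (Lpe (K12.f31297 IH) (Lpr_cf (K12.f212636 IH) (Lpe (K12.f212635 IH) (Lpe (K12.f212634 IH) (Lpe (K12.f177916 IH) (Lpn (LP (LK LD1_c1 LD2_c3 LD3_c20))))))))))))))))))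
theorem f175036 : Led Lsl_ct (LP (LK LD1_c2 LD2_c12 LD3_c40)) = (LP (LK LD1_c1 LD2_c3 LD3_c21)) :=
  Lre_c IH (LK LD1_c2 LD2_c12 LD3_c40) (LK LD1_c1 LD2_c3 LD3_c21) Lrfl Lrfl
theorem f175041 : Led Lsl_gt (LP (LK LD1_c4 LD2_c31 LD3_c24)) = (LP (LK LD1_c2 LD2_c12 LD3_c40)) :=
  Lre_g IH (LK LD1_c4 LD2_c31 LD3_c24) (LK LD1_c2 LD2_c12 LD3_c40) Lrfl Lrfl
theorem f235665 : Led Lsl_ct (LP (LK LD1_c2 LD2_c38 LD3_c13)) = (LP (LK LD1_c4 LD2_c31 LD3_c24)) :=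
  Lgr Lrot152 (Lpr_gf (f235637 IH) (Lpe (K10.f172027 IH) (Lpe (f235577 IH) (Lpr_ct (f235550 IH) (Lpr_gt (K12.f177915 IH) (Lpr_ct (K12.f177891 IH) (Lpe (K12.f177911 IH) (Lpe (f175036 IH) (Lpe (f175041 IH) (Lpn (LP (LK LD1_c4 LD2_c31 LD3_c24))))))))))))
theorem f175035 : Led Lsl_bt (LP (LK LD1_c1 LD2_c3 LD3_c21)) = (LP (LK LD1_c0 LD2_c28 LD3_c56)) :=
  Lre_b IH (LK LD1_c1 LD2_c3 LD3_c21) (LK LD1_c0 LD2_c28 LD3_c56) Lrfl Lrfl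
theorem f174974 : Led Lsl_dt (LP (LK LD1_c0 LD2_c12 LD3_c46)) = (LP (LK LD1_c0 LD2_c28 LD3_c56)) :=
  Lre_d IH (LK LD1_c0 LD2_c12 LD3_c46) (LK LD1_c0 LD2_c28 LD3_c56) Lrfl Lrfl
theorem f8425 : Led Lsl_dt (LP (LK LD1_c0 LD2_c15 LD3_c57)) = (LP (LK LD1_c0 LD2_c7 LD3_c10)) :=
  Lre_d IH (LK LD1_c0 LD2_c15 LD3_c57) (LK LD1_c0 LD2_c7 LD3_c10) Lrfl Lrfl
theorem f173930 : Led Lsl_cf (LP (LK LD1_c1 LD2_c17 LD3_c2)) = (LP (LK LD1_c1 LD2_c3 LD3_c8)) :=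
  Lgr Lrot166 (Lpr_gt (K12.f168549 IH) (Lpr_dt (K9.f168115 IH) (Lpe (K9.f168539 IH) (Lpr_dt (K9.f173647 IH) (Lpe (K12.f173065 IH) (Lpe (K1.f40834 IH) (Lpr_gf (K9.f167835 IH) (Lpe (K12.f167855 IH) (Lpe (K12.f167907 IH) (Lpn (LP (LK LD1_c1 LD2_c3 LD3_c8))))))))))))
theorem f174975 : Led Lsl_gt (LP (LK LD1_c0 LD2_c28 LD3_c56)) = (LP (LK LD1_c1 LD2_c3 LD3_c8)) :=
  Lgr Lrot9 (Lpe (f174974 IH) (Lpe (K9.f174916 IH) (Lpr_ct (K1.f40780 IH) (Lpr_gt (K9.f7029 IH) (Lpr_ct (K9.f174961 IH) (Lpe (f8425 IH) (Lpe (K9.f7884 IH) (Lpe (K12.f168549 IH) (Lpr_cf (f173930 IH) (Lpn (LP (LK LD1_c1 LD2_c3 LD3_c8))))))))))))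
theorem f196722 : Led Lsl_bt (LP (LK LD1_c1 LD2_c15 LD3_c55)) = (LP (LK LD1_c2 LD2_c37 LD3_c47)) :=
  Lre_b IH (LK LD1_c1 LD2_c15 LD3_c55) (LK LD1_c2 LD2_c37 LD3_c47) Lrfl Lrfl
theorem f196597 : Led Lsl_ct (LP (LK LD1_c1 LD2_c15 LD3_c55)) = (LP (LK LD1_c2 LD2_c37 LD3_c51)) :=
  Lre_c IH (LK LD1_c1 LD2_c15 LD3_c55) (LK LD1_c2 LD2_c37 LD3_c51) Lrfl Lrfl
theorem f235669 : Led Lsl_gt (LP (LK LD1_c4 LD2_c30 LD3_c53)) = (LP (LK LD1_c2 LD2_c37 LD3_c51)) :=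
  Lgr Lrot65 (Lpe (f173984 IH) (Lpr_bt (f173946 IH) (Lpe (f174975 IH) (Lpe (f175035 IH) (Lpr_ct (f175040 IH) (Lpe (f175041 IH) (Lpe (f235665 IH) (Lpr_gf (f235637 IH) (Lpe (f196722 IH) (Lpr_ct (f196597 IH) (Lpn (LP (LK LD1_c2 LD2_c37 LD3_c51)))))))))))))
theorem f196600 : Led Lsl_ct (LP (LK LD1_c2 LD2_c37 LD3_c51)) = (LP (LK LD1_c1 LD2_c15 LD3_c55)) :=
  Lre_c IH (LK LD1_c2 LD2_c37 LD3_c51) (LK LD1_c1 LD2_c15 LD3_c55) Lrfl Lrfl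
theorem f172008 : Led Lsl_ct (LP (LK LD1_c0 LD2_c15 LD3_c48)) = (LP (LK LD1_c0 LD2_c35 LD3_c11)) :=
  Lre_c IH (LK LD1_c0 LD2_c15 LD3_c48) (LK LD1_c0 LD2_c35 LD3_c11) Lrfl Lrfl
theorem f171910 : Led Lsl_dt (LP (LK LD1_c1 LD2_c9 LD3_c59)) = (LP (LK LD1_c0 LD2_c32 LD3_c21)) :=
  Lre_d IH (LK LD1_c1 LD2_c9 LD3_c59) (LK LD1_c0 LD2_c32 LD3_c21) Lrfl Lrfl
theorem f235749 : Led Lsl_gf (LP (LK LD1_c2 LD2_c12 LD3_c21)) = (LP (LK LD1_c1 LD2_c9 LD3_c59)) :=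
  Lgr Lrot147 (Lpr_ct (f173984 IH) (Lpr_gt (f235669 IH) (Lpr_ct (f196600 IH) (Lpe (K12.f196595 IH) (Lpe (f172008 IH) (Lpe (K1.f42490 IH) (Lpe (K9.f167828 IH) (Lpe (f171911 IH) (Lpe (f171910 IH) (Lpn (LP (LK LD1_c1 LD2_c9 LD3_c59))))))))))))
theorem f173956 : Led Lsl_bt (LP (LK LD1_c1 LD2_c3 LD3_c8)) = (LP (LK LD1_c2 LD2_c12 LD3_c21)) :=
  Lre_b IH (LK LD1_c1 LD2_c3 LD3_c8) (LK LD1_c2 LD2_c12 LD3_c21) Lrfl Lrfl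
theorem f168541 : Led Lsl_bt (LP (LK LD1_c0 LD2_c15 LD3_c57)) = (LP (LK LD1_c0 LD2_c35 LD3_c34)) :=
  Lre_b IH (LK LD1_c0 LD2_c15 LD3_c57) (LK LD1_c0 LD2_c35 LD3_c34) Lrfl Lrfl
theorem f168542 : Led Lsl_gt (LP (LK LD1_c0 LD2_c35 LD3_c34)) = (LP (LK LD1_c1 LD2_c16 LD3_c51)) :=
  Lre_g IH (LK LD1_c0 LD2_c35 LD3_c34) (LK LD1_c1 LD2_c16 LD3_c51) Lrfl Lrfl
theorem f173955 : Led Lsl_ct (LP (LK LD1_c1 LD2_c16 LD3_c51)) = (LP (LK LD1_c2 LD2_c40 LD3_c11)) :=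
  Lre_c IH (LK LD1_c1 LD2_c16 LD3_c51) (LK LD1_c2 LD2_c40 LD3_c11) Lrfl Lrfl
theorem f218578 : Led Lsl_bt (LP (LK LD1_c2 LD2_c25 LD3_c26)) = (LP (LK LD1_c1 LD2_c9 LD3_c59)) :=
  Lre_b IH (LK LD1_c2 LD2_c25 LD3_c26) (LK LD1_c1 LD2_c9 LD3_c59) Lrfl Lrfl
theorem f218579 : Led Lsl_ct (LP (LK LD1_c2 LD2_c25 LD3_c26)) = (LP (LK LD1_c4 LD2_c55 LD3_c6)) :=
  Lre_c IH (LK LD1_c2 LD2_c25 LD3_c26) (LK LD1_c4 LD2_c55 LD3_c6) Lrfl Lrfl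
theorem f235771 : Led Lsl_gt (LP (LK LD1_c2 LD2_c40 LD3_c11)) = (LP (LK LD1_c4 LD2_c55 LD3_c6)) :=
  Lgr Lrot149 (Lpe (f173955 IH) (Lpe (f168542 IH) (Lpe (f168541 IH) (Lpr_ct (K9.f7890 IH) (Lpe (K12.f168549 IH) (Lpr_cf (f173930 IH) (Lpr_bt (f173956 IH) (Lpr_gf (f235749 IH) (Lpe (f218578 IH) (Lpr_ct (f218579 IH) (Lpn (LP (LK LD1_c4 LD2_c55 LD3_c6)))))))))))))
theorem f235786 : Led Lsl_bt (LP (LK LD1_c1 LD2_c16 LD3_c51)) = (LP (LK LD1_c2 LD2_c38 LD3_c13)) :=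
  Lgr Lrot92 (Lpr_ct (f173955 IH) (Lpr_gt (f235771 IH) (Lpe (f218579 IH) (Lpr_bt (f218578 IH) (Lpe (f235749 IH) (Lpr_ct (f173984 IH) (Lpr_gt (f235669 IH) (Lpe (f196597 IH) (Lpr_bt (f196722 IH) (Lpe (f235637 IH) (Lpn (LP (LK LD1_c2 LD2_c38 LD3_c13)))))))))))))
theorem f235792 : Led Lsl_bf (LP (LK LD1_c1 LD2_c16 LD3_c51)) = (LP (LK LD1_c2 LD2_c38 LD3_c13)) :=
  Lgr Lrot24 (Lpr_bt (f235786 IH) (Lpn (LP (LK LD1_c2 LD2_c38 LD3_c13))))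
theorem f171182 : Led Lsl_et (LP (LK LD1_c2 LD2_c23 LD3_c33)) = (LP (LK LD1_c1 LD2_c8 LD3_c52)) :=
  Lre_e IH (LK LD1_c2 LD2_c23 LD3_c33) (LK LD1_c1 LD2_c8 LD3_c52) Lrfl Lrfl
theorem f235671 : Led Lsl_df (LP (LK LD1_c2 LD2_c38 LD3_c13)) = (LP (LK LD1_c2 LD2_c23 LD3_c33)) :=
  Lgr Lrot132 (Lpr_gf (f235637 IH) (Lpe (K10.f172027 IH) (Lpe (K12.f212542 IH) (Lpe (K8.f31425 IH) (Lpr_dt (K0.f28581 IH) (Lpe (K0.f28732 IH) (Lpe (K0.f28324 IH) (Lpr_et (K0.f29063 IH) (Lpe (K12.f228938 IH) (Lpe (f171182 IH) (Lpn (LP (LK LD1_c2 LD2_c23 LD3_c33)))))))))))))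
theorem f171181 : Led Lsl_et (LP (LK LD1_c0 LD2_c57 LD3_c48)) = (LP (LK LD1_c2 LD2_c1 LD3_c31)) :=
  Lre_e IH (LK LD1_c0 LD2_c57 LD3_c48) (LK LD1_c2 LD2_c1 LD3_c31) Lrfl Lrfl
theorem f171183 : Led Lsl_bt (LP (LK LD1_c2 LD2_c1 LD3_c31)) = (LP (LK LD1_c2 LD2_c23 LD3_c33)) :=
  Lgr Lrot119 (Lpe (f171181 IH) (Lpr_bf (K9.f171175 IH) (Lpe (f171182 IH) (Lpn (LP (LK LD1_c2 LD2_c23 LD3_c33))))))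
theorem f235995 : Led Lsl_dt (LP (LK LD1_c1 LD2_c16 LD3_c51)) = (LP (LK LD1_c2 LD2_c1 LD3_c31)) :=
  Lgr Lrot79 (Lpr_bf (f235792 IH) (Lpr_df (f235671 IH) (Lpe (f171183 IH) (Lpn (LP (LK LD1_c2 LD2_c1 LD3_c31))))))
theorem f235997 : Led Lsl_df (LP (LK LD1_c1 LD2_c16 LD3_c51)) = (LP (LK LD1_c2 LD2_c1 LD3_c31)) :=
  Lgr Lrot38 (Lpr_dt (f235995 IH) (Lpn (LP (LK LD1_c2 LD2_c1 LD3_c31))))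
theorem f235781 : Led Lsl_dt (LP (LK LD1_c0 LD2_c15 LD3_c56)) = (LP (LK LD1_c0 LD2_c35 LD3_c34)) :=
  Lre_d IH (LK LD1_c0 LD2_c15 LD3_c56) (LK LD1_c0 LD2_c35 LD3_c34) Lrfl Lrfl
theorem f236102 : Led Lsl_et (LP (LK LD1_c0 LD2_c15 LD3_c56)) = (LP (LK LD1_c0 LD2_c35 LD3_c35)) :=
  Lre_e IH (LK LD1_c0 LD2_c15 LD3_c56) (LK LD1_c0 LD2_c35 LD3_c35) Lrfl Lrfl
theorem f175055 : Led Lsl_gt (LP (LK LD1_c1 LD2_c16 LD3_c56)) = (LP (LK LD1_c0 LD2_c35 LD3_c35)) :=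
  Lre_g IH (LK LD1_c1 LD2_c16 LD3_c56) (LK LD1_c0 LD2_c35 LD3_c35) Lrfl Lrfl
theorem f236103 : Led Lsl_et (LP (LK LD1_c2 LD2_c40 LD3_c29)) = (LP (LK LD1_c1 LD2_c16 LD3_c56)) :=
  Lre_e IH (LK LD1_c2 LD2_c40 LD3_c29) (LK LD1_c1 LD2_c16 LD3_c56) Lrfl Lrfl
theorem f777 : Led Lsl_et (LP (LK LD1_c2 LD2_c1 LD3_c31)) = (LP (LK LD1_c0 LD2_c57 LD3_c48)) :=
  Lre_e IH (LK LD1_c2 LD2_c1 LD3_c31) (LK LD1_c0 LD2_c57 LD3_c48) Lrfl Lrfl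
theorem f236104 : Led Lsl_dt (LP (LK LD1_c2 LD2_c40 LD3_c29)) = (LP (LK LD1_c2 LD2_c1 LD3_c32)) :=
  Lgr Lrot56 (Lpr_et (f236103 IH) (Lpr_gt (f175055 IH) (Lpe (f236102 IH) (Lpr_dt (f235781 IH) (Lpr_gt (f168542 IH) (Lpr_df (f235997 IH) (Lpr_et (f777 IH) (Lpr_gt (K9.f776 IH) (Lpr_dt (K10.f780 IH) (Lpr_gt (K12.f1325 IH) (Lpn (LP (LK LD1_c2 LD2_c1 LD3_c32)))))))))))))
theorem f47819 : Led Lsl_gf (LP (LK LD1_c0 LD2_c11 LD3_c41)) = (LP (LK LD1_c0 LD2_c11 LD3_c39)) :=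
  Lgr Lrot172 (Lpe (K1.f45700 IH) (Lpe (K9.f47731 IH) (Lpe (K8.f1430 IH) (Lpr_gf (K1.f47810 IH) (Lpr_cf (K1.f44930 IH) (Lpe (K1.f28503 IH) (Lpr_dt (K8.f33292 IH) (Lpe (f47817 IH) (Lpr_ct (K1.f33091 IH) (Lpn (LP (LK LD1_c0 LD2_c11 LD3_c39))))))))))))
theorem f236119 : Led Lsl_dt (LP (LK LD1_c0 LD2_c35 LD3_c35)) = (LP (LK LD1_c1 LD2_c16 LD3_c38)) :=
  Lgr Lrot171 (Lpe (f175055 IH) (Lpe (f236103 IH) (Lpr_dt (f236104 IH) (Lpe (K12.f1325 IH) (Lpe (K10.f780 IH) (Lpr_et (K10.f765 IH) (Lpr_gf (f47819 IH) (Lpe (K10.f44954 IH) (Lpr_dt (K9.f49800 IH) (Lpr_gf (K10.f191309 IH) (Lpn (LP (LK LD1_c1 LD2_c16 LD3_c38)))))))))))))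
theorem f236127 : Led Lsl_ct (LP (LK LD1_c1 LD2_c16 LD3_c56)) = (LP (LK LD1_c2 LD2_c40 LD3_c27)) :=
  Lre_c IH (LK LD1_c1 LD2_c16 LD3_c56) (LK LD1_c2 LD2_c40 LD3_c27) Lrfl Lrfl
theorem f236128 : Led Lsl_gt (LP (LK LD1_c2 LD2_c40 LD3_c27)) = (LP (LK LD1_c2 LD2_c23 LD3_c21)) :=
  Lgr Lrot94 (Lpe (f236127 IH) (Lpr_gt (f175055 IH) (Lpr_dt (f236119 IH) (Lpe (K10.f191309 IH) (Lpr_dt (K9.f49593 IH) (Lpe (K9.f49592 IH) (Lpe (K9.f44988 IH) (Lpe (K10.f45012 IH) (Lpr_df (K11.f191675 IH) (Lpn (LP (LK LD1_c2 LD2_c23 LD3_c21))))))))))))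
theorem f236121 : Led Lsl_gt (LP (LK LD1_c2 LD2_c40 LD3_c10)) = (LP (LK LD1_c1 LD2_c16 LD3_c56)) :=
  Lre_g IH (LK LD1_c2 LD2_c40 LD3_c10) (LK LD1_c1 LD2_c16 LD3_c56) Lrfl Lrfl
theorem f46482 : Led Lsl_ct (LP (LK LD1_c4 LD2_c21 LD3_c5)) = (LP (LK LD1_c2 LD2_c8 LD3_c6)) :=
  Lre_c IH (LK LD1_c4 LD2_c21 LD3_c5) (LK LD1_c2 LD2_c8 LD3_c6) Lrfl Lrfl
theorem f33384 : Led Lsl_ct (LP (LK LD1_c2 LD2_c23 LD3_c23)) = (LP (LK LD1_c1 LD2_c8 LD3_c50)) :=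
  Lre_c IH (LK LD1_c2 LD2_c23 LD3_c23) (LK LD1_c1 LD2_c8 LD3_c50) Lrfl Lrfl
theorem f187215 : Led Lsl_ct (LP (LK LD1_c2 LD2_c23 LD3_c21)) = (LP (LK LD1_c4 LD2_c13 LD3_c50)) :=
  Lgr Lrot83 (Lpe (K11.f186895 IH) (Lpe (f33384 IH) (Lpe (K10.f187109 IH) (Lpe (f46482 IH) (Lpr_bf (f187181 IH) (Lpn (LP (LK LD1_c4 LD2_c13 LD3_c50))))))))
theorem f191728 : Led Lsl_df (LP (LK LD1_c2 LD2_c35 LD3_c28)) = (LP (LK LD1_c4 LD2_c13 LD3_c50)) :=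
  Lgr Lrot38 (Lpr_dt (K10.f191723 IH) (Lpn (LP (LK LD1_c4 LD2_c13 LD3_c50))))
theorem f194373 : Led Lsl_cf (LP (LK LD1_c2 LD2_c35 LD3_c28)) = (LP (LK LD1_c4 LD2_c7 LD3_c42)) :=
  Lgr Lrot11 (Lpr_ct (K10.f194368 IH) (Lpn (LP (LK LD1_c4 LD2_c7 LD3_c42))))
theorem f236132 : Led Lsl_df (LP (LK LD1_c2 LD2_c40 LD3_c10)) = (LP (LK LD1_c2 LD2_c1 LD3_c12)) :=
  Lgr Lrot155 (Lpr_gt (f236121 IH) (Lpr_ct (f236127 IH) (Lpr_gt (f236128 IH) (Lpr_ct (f187215 IH) (Lpe (f191728 IH) (Lpr_cf (f194373 IH) (Lpr_gf (K11.f53481 IH) (Lpe (K9.f49622 IH) (Lpe (f49631 IH) (Lpn (LP (LK LD1_c2 LD2_c1 LD3_c12))))))))))))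
theorem f236115 : Led Lsl_dt (LP (LK LD1_c2 LD2_c40 LD3_c28)) = (LP (LK LD1_c1 LD2_c16 LD3_c56)) :=
  Lre_d IH (LK LD1_c2 LD2_c40 LD3_c28) (LK LD1_c1 LD2_c16 LD3_c56) Lrfl Lrfl
theorem f50187 : Led Lsl_et (LP (LK LD1_c0 LD2_c56 LD3_c4)) = (LP (LK LD1_c0 LD2_c57 LD3_c40)) :=
  Lgr Lrot158 (Lpe (f50186 IH) (Lpr_ef (K9.f50164 IH) (Lpe (K9.f49799 IH) (Lpn (LP (LK LD1_c0 LD2_c57 LD3_c40))))))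
theorem f53451 : Led Lsl_bt (LP (LK LD1_c0 LD2_c11 LD3_c42)) = (LP (LK LD1_c0 LD2_c5 LD3_c25)) :=
  Lre_b IH (LK LD1_c0 LD2_c11 LD3_c42) (LK LD1_c0 LD2_c5 LD3_c25) Lrfl Lrfl
theorem f182318 : Led Lsl_gt (LP (LK LD1_c0 LD2_c15 LD3_c59)) = (LP (LK LD1_c0 LD2_c25 LD3_c27)) :=
  Lgr Lrot65 (Lpe (K12.f168174 IH) (Lpe (K12.f168341 IH) (Lpr_gf (K9.f182200 IH) (Lpe (K1.f2147 IH) (Lpr_ct (K0.f2141 IH) (Lpe (K9.f2159 IH) (Lpe (K9.f170594 IH) (Lpe (K9.f518 IH) (Lpe (f53451 IH) (Lpr_ct (K9.f50128 IH) (Lpn (LP (LK LD1_c0 LD2_c25 LD3_c27)))))))))))))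
theorem f216968 : Led Lsl_et (LP (LK LD1_c0 LD2_c35 LD3_c45)) = (LP (LK LD1_c1 LD2_c17 LD3_c20)) :=
  Lre_e IH (LK LD1_c0 LD2_c35 LD3_c45) (LK LD1_c1 LD2_c17 LD3_c20) Lrfl Lrfl
theorem f236149 : Led Lsl_gt (LP (LK LD1_c2 LD2_c41 LD3_c22)) = (LP (LK LD1_c1 LD2_c17 LD3_c20)) :=
  Lre_g IH (LK LD1_c2 LD2_c41 LD3_c22) (LK LD1_c1 LD2_c17 LD3_c20) Lrfl Lrfl
theorem f236150 : Led Lsl_et (LP (LK LD1_c2 LD2_c40 LD3_c28)) = (LP (LK LD1_c2 LD2_c41 LD3_c22)) :=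
  Lgr Lrot185 (Lpr_dt (f236115 IH) (Lpe (f236121 IH) (Lpr_df (f236132 IH) (Lpe (f49630 IH) (Lpe (f50187 IH) (Lpr_dt (K12.f50132 IH) (Lpe (f182318 IH) (Lpe (K12.f168354 IH) (Lpr_et (f216968 IH) (Lpe (f236149 IH) (Lpn (LP (LK LD1_c2 LD2_c41 LD3_c22)))))))))))))
theorem f236188 : Led Lsl_ef (LP (LK LD1_c2 LD2_c40 LD3_c28)) = (LP (LK LD1_c2 LD2_c41 LD3_c22)) :=
  Lgr Lrot88 (Lpr_et (f236150 IH) (Lpn (LP (LK LD1_c2 LD2_c41 LD3_c22))))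
theorem f236114 : Led Lsl_et (LP (LK LD1_c1 LD2_c16 LD3_c56)) = (LP (LK LD1_c2 LD2_c40 LD3_c29)) :=
  Lre_e IH (LK LD1_c1 LD2_c16 LD3_c56) (LK LD1_c2 LD2_c40 LD3_c29) Lrfl Lrfl
theorem f236116 : Led Lsl_et (LP (LK LD1_c2 LD2_c1 LD3_c32)) = (LP (LK LD1_c4 LD2_c8 LD3_c19)) :=
  Lre_e IH (LK LD1_c2 LD2_c1 LD3_c32) (LK LD1_c4 LD2_c8 LD3_c19) Lrfl Lrfl
theorem f236195 : Led Lsl_dt (LP (LK LD1_c4 LD2_c8 LD3_c19)) = (LP (LK LD1_c2 LD2_c41 LD3_c22)) :=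
  Lgr Lrot77 (Lpe (f236116 IH) (Lpe (f236104 IH) (Lpe (f236114 IH) (Lpe (f236115 IH) (Lpr_ef (f236188 IH) (Lpn (LP (LK LD1_c2 LD2_c41 LD3_c22))))))))
theorem f1328 : Led Lsl_et (LP (LK LD1_c4 LD2_c8 LD3_c19)) = (LP (LK LD1_c2 LD2_c1 LD3_c32)) :=
  Lre_e IH (LK LD1_c4 LD2_c8 LD3_c19) (LK LD1_c2 LD2_c1 LD3_c32) Lrfl Lrfl
theorem f578 : Led Lsl_at (LP (LK LD1_c0 LD2_c57 LD3_c49)) = (LP (LK LD1_c0 LD2_c26 LD3_c20)) :=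
  Lre_a IH (LK LD1_c0 LD2_c57 LD3_c49) (LK LD1_c0 LD2_c26 LD3_c20) Lrfl Lrfl
theorem f579 : Led Lsl_at (LP (LK LD1_c0 LD2_c27 LD3_c11)) = (LP (LK LD1_c0 LD2_c59 LD3_c38)) :=
  Lre_a IH (LK LD1_c0 LD2_c27 LD3_c11) (LK LD1_c0 LD2_c59 LD3_c38) Lrfl Lrfl
theorem f580 : Led Lsl_ef (LP (LK LD1_c0 LD2_c57 LD3_c49)) = (LP (LK LD1_c0 LD2_c59 LD3_c38)) :=
  Lgr Lrot20 (Lpr_at (f578 IH) (Lpr_et (K1.f559 IH) (Lpr_at (f579 IH) (Lpn (LP (LK LD1_c0 LD2_c59 LD3_c38))))))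
theorem f782 : Led Lsl_dt (LP (LK LD1_c0 LD2_c59 LD3_c38)) = (LP (LK LD1_c0 LD2_c27 LD3_c8)) :=
  Lre_d IH (LK LD1_c0 LD2_c59 LD3_c38) (LK LD1_c0 LD2_c27 LD3_c8) Lrfl Lrfl
theorem f1326 : Led Lsl_dt (LP (LK LD1_c2 LD2_c5 LD3_c4)) = (LP (LK LD1_c0 LD2_c59 LD3_c37)) :=
  Lre_d IH (LK LD1_c2 LD2_c5 LD3_c4) (LK LD1_c0 LD2_c59 LD3_c37) Lrfl Lrfl
theorem f213857 : Led Lsl_dt (LP (LK LD1_c2 LD2_c41 LD3_c23)) = (LP (LK LD1_c1 LD2_c17 LD3_c20)) :=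
  Lre_d IH (LK LD1_c2 LD2_c41 LD3_c23) (LK LD1_c1 LD2_c17 LD3_c20) Lrfl Lrfl
theorem f213856 : Led Lsl_et (LP (LK LD1_c2 LD2_c41 LD3_c23)) = (LP (LK LD1_c1 LD2_c17 LD3_c23)) :=
  Lre_e IH (LK LD1_c2 LD2_c41 LD3_c23) (LK LD1_c1 LD2_c17 LD3_c23) Lrfl Lrfl
theorem f236220 : Led Lsl_gf (LP (LK LD1_c2 LD2_c5 LD3_c4)) = (LP (LK LD1_c1 LD2_c17 LD3_c23)) :=
  Lgr Lrot138 (Lpr_dt (f1326 IH) (Lpr_gt (K10.f785 IH) (Lpe (f782 IH) (Lpe (f580 IH) (Lpr_gt (K12.f1325 IH) (Lpe (f1328 IH) (Lpr_dt (f236195 IH) (Lpr_gt (f236149 IH) (Lpe (f213857 IH) (Lpr_et (f213856 IH) (Lpn (LP (LK LD1_c1 LD2_c17 LD3_c23)))))))))))))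
theorem f27371 : Led Lsl_dt (LP (LK LD1_c0 LD2_c59 LD3_c37)) = (LP (LK LD1_c2 LD2_c5 LD3_c4)) :=
  Lre_d IH (LK LD1_c0 LD2_c59 LD3_c37) (LK LD1_c2 LD2_c5 LD3_c4) Lrfl Lrfl
theorem f187235 : Led Lsl_et (LP (LK LD1_c0 LD2_c59 LD3_c37)) = (LP (LK LD1_c2 LD2_c5 LD3_c5)) :=
  Lre_e IH (LK LD1_c0 LD2_c59 LD3_c37) (LK LD1_c2 LD2_c5 LD3_c5) Lrfl Lrfl
theorem f213841 : Led Lsl_dt (LP (LK LD1_c0 LD2_c35 LD3_c46)) = (LP (LK LD1_c1 LD2_c17 LD3_c23)) :=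
  Lre_d IH (LK LD1_c0 LD2_c35 LD3_c46) (LK LD1_c1 LD2_c17 LD3_c23) Lrfl Lrfl
theorem f213855 : Led Lsl_et (LP (LK LD1_c0 LD2_c35 LD3_c46)) = (LP (LK LD1_c0 LD2_c15 LD3_c59)) :=
  Lre_e IH (LK LD1_c0 LD2_c35 LD3_c46) (LK LD1_c0 LD2_c15 LD3_c59) Lrfl Lrfl
theorem f216837 : Led Lsl_et (LP (LK LD1_c0 LD2_c35 LD3_c42)) = (LP (LK LD1_c0 LD2_c35 LD3_c42)) :=
  Lgr Lrot158 (Lpr_cf (K12.f216828 IH) (Lpe (f51441 IH) (Lpe (K12.f216832 IH) (Lpn (LP (LK LD1_c0 LD2_c35 LD3_c42))))))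
theorem f33100 : Led Lsl_dt (LP (LK LD1_c4 LD2_c2 LD3_c49)) = (LP (LK LD1_c1 LD2_c58 LD3_c26)) :=
  Lre_d IH (LK LD1_c4 LD2_c2 LD3_c49) (LK LD1_c1 LD2_c58 LD3_c26) Lrfl Lrfl
theorem f236232 : Led Lsl_gt (LP (LK LD1_c2 LD2_c5 LD3_c5)) = (LP (LK LD1_c4 LD2_c2 LD3_c49)) :=
  Lgr Lrot137 (Lpe (f187235 IH) (Lpr_dt (f27371 IH) (Lpr_gf (f236220 IH) (Lpe (f213841 IH) (Lpr_et (f213855 IH) (Lpe (K12.f168196 IH) (Lpe (f216837 IH) (Lpr_dt (K12.f213772 IH) (Lpe (K12.f216947 IH) (Lpe (f33100 IH) (Lpn (LP (LK LD1_c4 LD2_c2 LD3_c49)))))))))))))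
theorem f187236 : Led Lsl_cf (LP (LK LD1_c1 LD2_c2 LD3_c51)) = (LP (LK LD1_c2 LD2_c5 LD3_c5)) :=
  Lgr Lrot39 (Lpr_et (K12.f167753 IH) (Lpr_ct (K10.f187226 IH) (Lpr_et (f187235 IH) (Lpn (LP (LK LD1_c2 LD2_c5 LD3_c5))))))
theorem f51461 : Led Lsl_dt (LP (LK LD1_c2 LD2_c2 LD3_c0)) = (LP (LK LD1_c0 LD2_c57 LD3_c59)) :=
  Lre_d IH (LK LD1_c2 LD2_c2 LD3_c0) (LK LD1_c0 LD2_c57 LD3_c59) Lrfl Lrfl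
theorem f236241 : Led Lsl_gt (LP (LK LD1_c1 LD2_c2 LD3_c51)) = (LP (LK LD1_c2 LD2_c2 LD3_c0)) :=
  Lgr Lrot94 (Lpr_cf (f187236 IH) (Lpr_gt (f236232 IH) (Lpr_dt (f33100 IH) (Lpr_gt (K12.f216947 IH) (Lpr_dt (K12.f213771 IH) (Lpr_cf (K12.f216828 IH) (Lpe (K12.f573 IH) (Lpe (K9.f51460 IH) (Lpe (f51461 IH) (Lpn (LP (LK LD1_c2 LD2_c2 LD3_c0))))))))))))
theorem f167750 : Led Lsl_bt (LP (LK LD1_c0 LD2_c28 LD3_c40)) = (LP (LK LD1_c1 LD2_c2 LD3_c51)) :=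
  Lre_b IH (LK LD1_c0 LD2_c28 LD3_c40) (LK LD1_c1 LD2_c2 LD3_c51) Lrfl Lrfl
theorem f179531 : Led Lsl_gf (LP (LK LD1_c0 LD2_c24 LD3_c50)) = (LP (LK LD1_c0 LD2_c11 LD3_c52)) :=
  Lgr Lrot144 (Lpr_dt (K9.f6799 IH) (Lpe (K9.f170283 IH) (Lpr_dt (K9.f8003 IH) (Lpe (K12.f8004 IH) (Lpe (K9.f170286 IH) (Lpr_gf (K9.f179529 IH) (Lpe (K9.f170073 IH) (Lpr_gf (K9.f170071 IH) (Lpe (K9.f51577 IH) (Lpn (LP (LK LD1_c0 LD2_c11 LD3_c52))))))))))))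
theorem f51578 : Led Lsl_ct (LP (LK LD1_c0 LD2_c26 LD3_c47)) = (LP (LK LD1_c0 LD2_c11 LD3_c52)) :=
  Lre_c IH (LK LD1_c0 LD2_c26 LD3_c47) (LK LD1_c0 LD2_c11 LD3_c52) Lrfl Lrfl
theorem f201338 : Led Lsl_gt (LP (LK LD1_c0 LD2_c58 LD3_c49)) = (LP (LK LD1_c0 LD2_c26 LD3_c47)) :=
  Lgr Lrot94 (Lpr_cf (K11.f201331 IH) (Lpe (K9.f164719 IH) (Lpr_dt (K9.f3065 IH) (Lpr_gt (K0.f3063 IH) (Lpr_dt (K0.f2133 IH) (Lpe (K0.f2130 IH) (Lpe (K0.f1672 IH) (Lpe (K9.f2213 IH) (Lpe (K9.f166579 IH) (Lpn (LP (LK LD1_c0 LD2_c26 LD3_c47))))))))))))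
theorem f201333 : Led Lsl_bt (LP (LK LD1_c2 LD2_c3 LD3_c41)) = (LP (LK LD1_c0 LD2_c58 LD3_c49)) :=
  Lre_b IH (LK LD1_c2 LD2_c3 LD3_c41) (LK LD1_c0 LD2_c58 LD3_c49) Lrfl Lrfl
theorem f179115 : Led Lsl_bt (LP (LK LD1_c0 LD2_c58 LD3_c49)) = (LP (LK LD1_c2 LD2_c3 LD3_c41)) :=
  Lre_b IH (LK LD1_c0 LD2_c58 LD3_c49) (LK LD1_c2 LD2_c3 LD3_c41) Lrfl Lrfl
theorem f178280 : Led Lsl_ct (LP (LK LD1_c0 LD2_c58 LD3_c49)) = (LP (LK LD1_c0 LD2_c28 LD3_c59)) :=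
  Lgr Lrot186 (Lpe (K11.f53326 IH) (Lpr_dt (K9.f178270 IH) (Lpe (K9.f2865 IH) (Lpr_ct (K0.f280 IH) (Lpe (K9.f170069 IH) (Lpr_ct (K9.f51626 IH) (Lpr_dt (K9.f167309 IH) (Lpe (K9.f3087 IH) (Lpr_gf (K9.f164719 IH) (Lpn (LP (LK LD1_c0 LD2_c28 LD3_c59))))))))))))
theorem f201334 : Led Lsl_ct (LP (LK LD1_c2 LD2_c3 LD3_c41)) = (LP (LK LD1_c2 LD2_c3 LD3_c41)) :=
  Lgr Lrot83 (Lpe (f179115 IH) (Lpr_cf (K11.f201331 IH) (Lpr_bf (K11.f177903 IH) (Lpe (f178280 IH) (Lpe (f201333 IH) (Lpn (LP (LK LD1_c2 LD2_c3 LD3_c41))))))))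
theorem f236252 : Led Lsl_gf (LP (LK LD1_c2 LD2_c3 LD3_c41)) = (LP (LK LD1_c2 LD2_c43 LD3_c60)) :=
  Lgr Lrot126 (Lpe (f201334 IH) (Lpr_bt (f201333 IH) (Lpr_gt (f201338 IH) (Lpr_ct (f51578 IH) (Lpe (f179531 IH) (Lpr_cf (K9.f167764 IH) (Lpr_bt (f167750 IH) (Lpr_gt (f236241 IH) (Lpe (f233735 IH) (Lpr_ct (f233711 IH) (Lpn (LP (LK LD1_c2 LD2_c43 LD3_c60)))))))))))))
theorem f167343 : Led Lsl_ct (LP (LK LD1_c1 LD2_c11 LD3_c23)) = (LP (LK LD1_c2 LD2_c28 LD3_c16)) :=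
  Lre_c IH (LK LD1_c1 LD2_c11 LD3_c23) (LK LD1_c2 LD2_c28 LD3_c16) Lrfl Lrfl
theorem f236354 : Led Lsl_gt (LP (LK LD1_c2 LD2_c3 LD3_c41)) = (LP (LK LD1_c1 LD2_c11 LD3_c23)) :=
  Lgr Lrot150 (Lpe (f201334 IH) (Lpr_gf (f236252 IH) (Lpr_df (f189244 IH) (Lpr_gt (f1571 IH) (Lpr_ct (K0.f1715 IH) (Lpe (f233404 IH) (Lpr_ct (f184779 IH) (Lpe (f184767 IH) (Lpe (f167343 IH) (Lpn (LP (LK LD1_c1 LD2_c11 LD3_c23))))))))))))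
theorem f168317 : Led Lsl_ct (LP (LK LD1_c0 LD2_c35 LD3_c46)) = (LP (LK LD1_c1 LD2_c17 LD3_c16)) :=
  Lre_c IH (LK LD1_c0 LD2_c35 LD3_c46) (LK LD1_c1 LD2_c17 LD3_c16) Lrfl Lrfl
theorem f168345 : Led Lsl_gt (LP (LK LD1_c2 LD2_c41 LD3_c8)) = (LP (LK LD1_c1 LD2_c17 LD3_c16)) :=
  Lre_g IH (LK LD1_c2 LD2_c41 LD3_c8) (LK LD1_c1 LD2_c17 LD3_c16) Lrfl Lrfl
theorem f33319 : Led Lsl_bt (LP (LK LD1_c2 LD2_c28 LD3_c14)) = (LP (LK LD1_c1 LD2_c11 LD3_c23)) :=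
  Lre_b IH (LK LD1_c2 LD2_c28 LD3_c14) (LK LD1_c1 LD2_c11 LD3_c23) Lrfl Lrfl
theorem f236358 : Led Lsl_cf (LP (LK LD1_c2 LD2_c41 LD3_c8)) = (LP (LK LD1_c2 LD2_c28 LD3_c14)) :=
  Lgr Lrot160 (Lpr_gt (f168345 IH) (Lpe (f168317 IH) (Lpr_bt (K12.f168330 IH) (Lpr_gt (K9.f179106 IH) (Lpr_ct (K0.f3064 IH) (Lpe (K9.f21240 IH) (Lpe (f178280 IH) (Lpr_bt (f179115 IH) (Lpr_gt (f236354 IH) (Lpe (f33319 IH) (Lpn (LP (LK LD1_c2 LD2_c28 LD3_c14)))))))))))))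
theorem f220554 : Led Lsl_gt (LP (LK LD1_c5 LD2_c29 LD3_c24)) = (LP (LK LD1_c2 LD2_c41 LD3_c8)) :=
  Lre_g IH (LK LD1_c5 LD2_c29 LD3_c24) (LK LD1_c2 LD2_c41 LD3_c8) Lrfl Lrfl
theorem f213795 : Led Lsl_ct (LP (LK LD1_c2 LD2_c41 LD3_c0)) = (LP (LK LD1_c5 LD2_c29 LD3_c24)) :=
  Lre_c IH (LK LD1_c2 LD2_c41 LD3_c0) (LK LD1_c5 LD2_c29 LD3_c24) Lrfl Lrfl
theorem f192828 : Led Lsl_et (LP (LK LD1_c0 LD2_c56 LD3_c28)) = (LP (LK LD1_c1 LD2_c59 LD3_c19)) :=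
  Lre_e IH (LK LD1_c0 LD2_c56 LD3_c28) (LK LD1_c1 LD2_c59 LD3_c19) Lrfl Lrfl
theorem f233935 : Led Lsl_gt (LP (LK LD1_c1 LD2_c59 LD3_c19)) = (LP (LK LD1_c2 LD2_c43 LD3_c60)) :=
  Lgr Lrot137 (Lpe (f192828 IH) (Lpr_dt (K12.f192825 IH) (Lpr_gf (f233931 IH) (Lpr_df (f189134 IH) (Lpr_et (f1623 IH) (Lpe (K12.f286 IH) (Lpe (K0.f1520 IH) (Lpr_dt (K0.f1553 IH) (Lpe (f1571 IH) (Lpe (f189157 IH) (Lpn (LP (LK LD1_c2 LD2_c43 LD3_c60)))))))))))))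
theorem f192797 : Led Lsl_bt (LP (LK LD1_c1 LD2_c59 LD3_c19)) = (LP (LK LD1_c0 LD2_c56 LD3_c30)) :=
  Lre_b IH (LK LD1_c1 LD2_c59 LD3_c19) (LK LD1_c0 LD2_c56 LD3_c30) Lrfl Lrfl
theorem f192798 : Led Lsl_bt (LP (LK LD1_c0 LD2_c56 LD3_c30)) = (LP (LK LD1_c1 LD2_c59 LD3_c19)) :=
  Lre_b IH (LK LD1_c0 LD2_c56 LD3_c30) (LK LD1_c1 LD2_c59 LD3_c19) Lrfl Lrfl
theorem f192799 : Led Lsl_cf (LP (LK LD1_c1 LD2_c59 LD3_c19)) = (LP (LK LD1_c1 LD2_c59 LD3_c19)) :=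
  Lgr Lrot97 (Lpr_bt (f192797 IH) (Lpr_ct (K10.f6957 IH) (Lpr_bt (K10.f192795 IH) (Lpr_ct (K12.f6930 IH) (Lpr_bt (f192798 IH) (Lpn (LP (LK LD1_c1 LD2_c59 LD3_c19))))))))
theorem f233939 : Led Lsl_gf (LP (LK LD1_c1 LD2_c59 LD3_c19)) = (LP (LK LD1_c1 LD2_c11 LD3_c23)) :=
  Lgr Lrot147 (Lpe (f192799 IH) (Lpr_gt (f233935 IH) (Lpe (f233731 IH) (Lpe (f167271 IH) (Lpe (f167257 IH) (Lpr_gf (K9.f167255 IH) (Lpe (K0.f1719 IH) (Lpe (K9.f1612 IH) (Lpr_df (K0.f33316 IH) (Lpn (LP (LK LD1_c1 LD2_c11 LD3_c23))))))))))))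
theorem f1406 : Led Lsl_gt (LP (LK LD1_c2 LD2_c2 LD3_c0)) = (LP (LK LD1_c4 LD2_c9 LD3_c23)) :=
  Lre_g IH (LK LD1_c2 LD2_c2 LD3_c0) (LK LD1_c4 LD2_c9 LD3_c23) Lrfl Lrfl
theorem f236368 : Led Lsl_bt (LP (LK LD1_c2 LD2_c41 LD3_c0)) = (LP (LK LD1_c4 LD2_c9 LD3_c23)) :=
  Lgr Lrot92 (Lpr_ct (f213795 IH) (Lpr_gt (f220554 IH) (Lpr_cf (f236358 IH) (Lpr_bt (f33319 IH) (Lpe (f233939 IH) (Lpe (f192799 IH) (Lpr_gt (f233935 IH) (Lpe (f233711 IH) (Lpr_bt (f233735 IH) (Lpr_gt (f1406 IH) (Lpn (LP (LK LD1_c4 LD2_c9 LD3_c23)))))))))))))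
theorem f236372 : Led Lsl_bf (LP (LK LD1_c2 LD2_c41 LD3_c0)) = (LP (LK LD1_c4 LD2_c9 LD3_c23)) :=
  Lgr Lrot24 (Lpr_bt (f236368 IH) (Lpn (LP (LK LD1_c4 LD2_c9 LD3_c23))))
theorem f236375 : Led Lsl_at (LP (LK LD1_c2 LD2_c41 LD3_c0)) = (LP (LK LD1_c1 LD2_c17 LD3_c24)) :=
  Lre_a IH (LK LD1_c2 LD2_c41 LD3_c0) (LK LD1_c1 LD2_c17 LD3_c24) Lrfl Lrfl
theorem f236376 : Led Lsl_bt (LP (LK LD1_c1 LD2_c17 LD3_c24)) = (LP (LK LD1_c0 LD2_c35 LD3_c50)) :=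
  Lre_b IH (LK LD1_c1 LD2_c17 LD3_c24) (LK LD1_c0 LD2_c35 LD3_c50) Lrfl Lrfl
theorem f168324 : Led Lsl_ft (LP (LK LD1_c0 LD2_c15 LD3_c61)) = (LP (LK LD1_c0 LD2_c35 LD3_c50)) :=
  Lre_f IH (LK LD1_c0 LD2_c15 LD3_c61) (LK LD1_c0 LD2_c35 LD3_c50) Lrfl Lrfl
theorem f179109 : Led Lsl_at (LP (LK LD1_c0 LD2_c35 LD3_c50)) = (LP (LK LD1_c1 LD2_c0 LD3_c26)) :=
  Lgr Lrot26 (Lpe (f168324 IH) (Lpr_gt (K9.f179106 IH) (Lpe (K9.f179031 IH) (Lpn (LP (LK LD1_c1 LD2_c0 LD3_c26))))))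
theorem f236377 : Led Lsl_at (LP (LK LD1_c2 LD2_c6 LD3_c55)) = (LP (LK LD1_c4 LD2_c9 LD3_c23)) :=
  Lgr Lrot67 (Lpe (K12.f6811 IH) (Lpe (f179109 IH) (Lpe (f236376 IH) (Lpe (f236375 IH) (Lpr_bf (f236372 IH) (Lpn (LP (LK LD1_c4 LD2_c9 LD3_c23))))))))
theorem f236383 : Led Lsl_ff (LP (LK LD1_c2 LD2_c6 LD3_c55)) = (LP (LK LD1_c1 LD2_c2 LD3_c51)) :=
  Lgr Lrot52 (Lpr_at (f236377 IH) (Lpe (f1406 IH) (Lpe (f236241 IH) (Lpn (LP (LK LD1_c1 LD2_c2 LD3_c51))))))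
theorem f236391 : Led Lsl_ft (LP (LK LD1_c2 LD2_c6 LD3_c55)) = (LP (LK LD1_c1 LD2_c2 LD3_c51)) :=
  Lgr Lrot48 (Lpr_ff (f236383 IH) (Lpn (LP (LK LD1_c1 LD2_c2 LD3_c51))))
theorem f220205 : Led Lsl_df (LP (LK LD1_c2 LD2_c1 LD3_c42)) = (LP (LK LD1_c2 LD2_c6 LD3_c55)) :=
  Lgr Lrot38 (Lpr_dt (K12.f220062 IH) (Lpn (LP (LK LD1_c2 LD2_c6 LD3_c55))))
theorem f234119 : Led Lsl_ct (LP (LK LD1_c8 LD2_c17 LD3_c24)) = (LP (LK LD1_c5 LD2_c29 LD3_c49)) :=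
  Lgr Lrot7 (Lpe (f220045 IH) (Lpr_gf (K12.f220338 IH) (Lpe (K12.f222531 IH) (Lpe (f1300 IH) (Lpe (K12.f50408 IH) (Lpr_gt (f51391 IH) (Lpr_dt (f232149 IH) (Lpr_gt (f234112 IH) (Lpr_dt (f220566 IH) (Lpn (LP (LK LD1_c5 LD2_c29 LD3_c49))))))))))))
theorem f220577 : Led Lsl_dt (LP (LK LD1_c5 LD2_c29 LD3_c49)) = (LP (LK LD1_c2 LD2_c41 LD3_c14)) :=
  Lre_d IH (LK LD1_c5 LD2_c29 LD3_c49) (LK LD1_c2 LD2_c41 LD3_c14) Lrfl Lrfl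
theorem f220568 : Led Lsl_dt (LP (LK LD1_c1 LD2_c17 LD3_c18)) = (LP (LK LD1_c0 LD2_c59 LD3_c45)) :=
  Lgr Lrot42 (Lpr_df (K12.f220562 IH) (Lpn (LP (LK LD1_c0 LD2_c59 LD3_c45))))
theorem f234207 : Led Lsl_ct (LP (LK LD1_c0 LD2_c59 LD3_c45)) = (LP (LK LD1_c2 LD2_c5 LD3_c21)) :=
  Lre_c IH (LK LD1_c0 LD2_c59 LD3_c45) (LK LD1_c2 LD2_c5 LD3_c21) Lrfl Lrfl
theorem f236399 : Led Lsl_af (LP (LK LD1_c2 LD2_c5 LD3_c21)) = (LP (LK LD1_c1 LD2_c2 LD3_c51)) :=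
  Lgr Lrot109 (Lpe (f234207 IH) (Lpe (f220568 IH) (Lpe (f217109 IH) (Lpe (f220577 IH) (Lpe (f234119 IH) (Lpe (f220045 IH) (Lpe (K12.f220038 IH) (Lpr_df (f220205 IH) (Lpr_ft (f236391 IH) (Lpn (LP (LK LD1_c1 LD2_c2 LD3_c51))))))))))))
theorem f236412 : Led Lsl_gf (LP (LK LD1_c1 LD2_c14 LD3_c18)) = (LP (LK LD1_c2 LD2_c6 LD3_c55)) :=
  Lgr Lrot47 (Lpr_gt (f234197 IH) (Lpr_af (f236399 IH) (Lpe (f236391 IH) (Lpn (LP (LK LD1_c2 LD2_c6 LD3_c55))))))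
theorem f47538 : Led Lsl_bt (LP (LK LD1_c2 LD2_c34 LD3_c28)) = (LP (LK LD1_c1 LD2_c14 LD3_c18)) :=
  Lre_b IH (LK LD1_c2 LD2_c34 LD3_c28) (LK LD1_c1 LD2_c14 LD3_c18) Lrfl Lrfl
theorem f177900 : Led Lsl_bt (LP (LK LD1_c1 LD2_c3 LD3_c22)) = (LP (LK LD1_c0 LD2_c28 LD3_c57)) :=
  Lre_b IH (LK LD1_c1 LD2_c3 LD3_c22) (LK LD1_c0 LD2_c28 LD3_c57) Lrfl Lrfl
theorem f21244 : Led Lsl_bt (LP (LK LD1_c0 LD2_c28 LD3_c57)) = (LP (LK LD1_c1 LD2_c3 LD3_c22)) :=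
  Lre_b IH (LK LD1_c0 LD2_c28 LD3_c57) (LK LD1_c1 LD2_c3 LD3_c22) Lrfl Lrfl
theorem f177901 : Led Lsl_cf (LP (LK LD1_c1 LD2_c3 LD3_c22)) = (LP (LK LD1_c1 LD2_c3 LD3_c22)) :=
  Lgr Lrot97 (Lpr_bt (f177900 IH) (Lpr_ct (K9.f21243 IH) (Lpr_bt (K11.f177893 IH) (Lpr_ct (K9.f21242 IH) (Lpr_bt (f21244 IH) (Lpn (LP (LK LD1_c1 LD2_c3 LD3_c22))))))))
theorem f177910 : Led Lsl_gt (LP (LK LD1_c2 LD2_c12 LD3_c43)) = (LP (LK LD1_c1 LD2_c3 LD3_c22)) :=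
  Lre_g IH (LK LD1_c2 LD2_c12 LD3_c43) (LK LD1_c1 LD2_c3 LD3_c22) Lrfl Lrfl
theorem f236418 : Led Lsl_ct (LP (LK LD1_c2 LD2_c34 LD3_c28)) = (LP (LK LD1_c2 LD2_c12 LD3_c43)) :=
  Lgr Lrot64 (Lpr_bt (f47538 IH) (Lpr_gf (f236412 IH) (Lpe (K12.f6811 IH) (Lpr_ct (K9.f6810 IH) (Lpe (K9.f6798 IH) (Lpe (K9.f6822 IH) (Lpr_gf (K9.f179017 IH) (Lpe (f177900 IH) (Lpe (f177901 IH) (Lpe (f177910 IH) (Lpn (LP (LK LD1_c2 LD2_c12 LD3_c43)))))))))))))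
theorem f232391 : Led Lsl_gt (LP (LK LD1_c5 LD2_c15 LD3_c14)) = (LP (LK LD1_c2 LD2_c34 LD3_c28)) :=
  Lre_g IH (LK LD1_c5 LD2_c15 LD3_c14) (LK LD1_c2 LD2_c34 LD3_c28) Lrfl Lrfl
theorem f166496 : Led Lsl_bt (LP (LK LD1_c0 LD2_c58 LD3_c42)) = (LP (LK LD1_c2 LD2_c3 LD3_c30)) :=
  Lre_b IH (LK LD1_c0 LD2_c58 LD3_c42) (LK LD1_c2 LD2_c3 LD3_c30) Lrfl Lrfl
theorem f181941 : Led Lsl_dt (LP (LK LD1_c2 LD2_c3 LD3_c30)) = (LP (LK LD1_c1 LD2_c3 LD3_c22)) :=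
  Lgr Lrot79 (Lpe (f166496 IH) (Lpr_df (K9.f181939 IH) (Lpe (f177900 IH) (Lpn (LP (LK LD1_c1 LD2_c3 LD3_c22))))))
theorem f178327 : Led Lsl_ct (LP (LK LD1_c4 LD2_c12 LD3_c35)) = (LP (LK LD1_c2 LD2_c3 LD3_c30)) :=
  Lre_c IH (LK LD1_c4 LD2_c12 LD3_c35) (LK LD1_c2 LD2_c3 LD3_c30) Lrfl Lrfl
theorem f216860 : Led Lsl_bt (LP (LK LD1_c2 LD2_c1 LD3_c36)) = (LP (LK LD1_c0 LD2_c57 LD3_c53)) :=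
  Lre_b IH (LK LD1_c2 LD2_c1 LD3_c36) (LK LD1_c0 LD2_c57 LD3_c53) Lrfl Lrfl
theorem f167358 : Led Lsl_ct (LP (LK LD1_c2 LD2_c1 LD3_c36)) = (LP (LK LD1_c4 LD2_c8 LD3_c29)) :=
  Lre_c IH (LK LD1_c2 LD2_c1 LD3_c36) (LK LD1_c4 LD2_c8 LD3_c29) Lrfl Lrfl
theorem f166519 : Led Lsl_bt (LP (LK LD1_c2 LD2_c3 LD3_c30)) = (LP (LK LD1_c0 LD2_c58 LD3_c42)) :=
  Lre_b IH (LK LD1_c2 LD2_c3 LD3_c30) (LK LD1_c0 LD2_c58 LD3_c42) Lrfl Lrfl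
theorem f166520 : Led Lsl_ct (LP (LK LD1_c2 LD2_c3 LD3_c30)) = (LP (LK LD1_c4 LD2_c12 LD3_c35)) :=
  Lre_c IH (LK LD1_c2 LD2_c3 LD3_c30) (LK LD1_c4 LD2_c12 LD3_c35) Lrfl Lrfl
theorem f220070 : Led Lsl_gt (LP (LK LD1_c4 LD2_c8 LD3_c29)) = (LP (LK LD1_c4 LD2_c12 LD3_c35)) :=
  Lgr Lrot65 (Lpe (f167358 IH) (Lpr_bt (f216860 IH) (Lpe (K12.f1363 IH) (Lpr_bf (K12.f220052 IH) (Lpr_ct (K9.f53441 IH) (Lpr_gf (K9.f178343 IH) (Lpe (K9.f166578 IH) (Lpe (K9.f178305 IH) (Lpe (f166519 IH) (Lpr_ct (f166520 IH) (Lpn (LP (LK LD1_c4 LD2_c12 LD3_c35)))))))))))))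
theorem f167344 : Led Lsl_gt (LP (LK LD1_c4 LD2_c8 LD3_c28)) = (LP (LK LD1_c2 LD2_c1 LD3_c36)) :=
  Lre_g IH (LK LD1_c4 LD2_c8 LD3_c28) (LK LD1_c2 LD2_c1 LD3_c36) Lrfl Lrfl
theorem f236441 : Led Lsl_dt (LP (LK LD1_c5 LD2_c15 LD3_c14)) = (LP (LK LD1_c4 LD2_c8 LD3_c28)) :=
  Lgr Lrot6 (Lpr_gt (f232391 IH) (Lpr_ct (f236418 IH) (Lpr_gt (f177910 IH) (Lpe (f177901 IH) (Lpe (f181941 IH) (Lpe (f178327 IH) (Lpe (f220070 IH) (Lpe (f167358 IH) (Lpe (f167344 IH) (Lpn (LP (LK LD1_c4 LD2_c8 LD3_c28))))))))))))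
theorem f233004 : Led Lsl_df (LP (LK LD1_c4 LD2_c51 LD3_c32)) = (LP (LK LD1_c9 LD2_c34 LD3_c32)) :=
  Lgr Lrot78 (Lpe (f200036 IH) (Lpr_dt (f29126 IH) (Lpr_ft (f232996 IH) (Lpn (LP (LK LD1_c9 LD2_c34 LD3_c32))))))
theorem f186926 : Led Lsl_gt (LP (LK LD1_c4 LD2_c51 LD3_c11)) = (LP (LK LD1_c2 LD2_c23 LD3_c25)) :=
  Lre_g IH (LK LD1_c4 LD2_c51 LD3_c11) (LK LD1_c2 LD2_c23 LD3_c25) Lrfl Lrfl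
theorem f233086 : Led Lsl_cf (LP (LK LD1_c4 LD2_c8 LD3_c28)) = (LP (LK LD1_c4 LD2_c51 LD3_c11)) :=
  Lgr Lrot166 (Lpr_gt (f167344 IH) (Lpr_dt (K12.f167336 IH) (Lpr_gt (f228932 IH) (Lpr_dt (f29142 IH) (Lpr_ct (K11.f200061 IH) (Lpr_df (f233004 IH) (Lpe (f232918 IH) (Lpe (f232523 IH) (Lpe (f186926 IH) (Lpn (LP (LK LD1_c4 LD2_c51 LD3_c11))))))))))))
theorem f232949 : Led Lsl_dt (LP (LK LD1_c9 LD2_c34 LD3_c25)) = (LP (LK LD1_c4 LD2_c51 LD3_c11)) :=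
  Lre_d IH (LK LD1_c9 LD2_c34 LD3_c25) (LK LD1_c4 LD2_c51 LD3_c11) Lrfl Lrfl
theorem f192827 : Led Lsl_et (LP (LK LD1_c1 LD2_c59 LD3_c19)) = (LP (LK LD1_c0 LD2_c56 LD3_c28)) :=
  Lre_e IH (LK LD1_c1 LD2_c59 LD3_c19) (LK LD1_c0 LD2_c56 LD3_c28) Lrfl Lrfl
theorem f2079 : Led Lsl_gt (LP (LK LD1_c1 LD2_c8 LD3_c49)) = (LP (LK LD1_c2 LD2_c23 LD3_c24)) :=
  Lre_g IH (LK LD1_c1 LD2_c8 LD3_c49) (LK LD1_c2 LD2_c23 LD3_c24) Lrfl Lrfl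
theorem f199188 : Led Lsl_dt (LP (LK LD1_c1 LD2_c59 LD3_c19)) = (LP (LK LD1_c2 LD2_c23 LD3_c24)) :=
  Lgr Lrot56 (Lpr_et (f192827 IH) (Lpr_gt (K12.f199181 IH) (Lpe (K10.f33131 IH) (Lpe (K0.f33129 IH) (Lpr_gt (K0.f27815 IH) (Lpr_df (K0.f1667 IH) (Lpr_et (K1.f1617 IH) (Lpr_gt (K9.f270 IH) (Lpr_dt (f271 IH) (Lpr_gt (f2079 IH) (Lpn (LP (LK LD1_c2 LD2_c23 LD3_c24)))))))))))))
theorem f2080 : Led Lsl_ct (LP (LK LD1_c2 LD2_c23 LD3_c24)) = (LP (LK LD1_c4 LD2_c51 LD3_c8)) :=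
  Lre_c IH (LK LD1_c2 LD2_c23 LD3_c24) (LK LD1_c4 LD2_c51 LD3_c8) Lrfl Lrfl
theorem f2092 : Led Lsl_dt (LP (LK LD1_c9 LD2_c34 LD3_c16)) = (LP (LK LD1_c4 LD2_c51 LD3_c8)) :=
  Lre_d IH (LK LD1_c9 LD2_c34 LD3_c16) (LK LD1_c4 LD2_c51 LD3_c8) Lrfl Lrfl
theorem f233941 : Led Lsl_gf (LP (LK LD1_c9 LD2_c34 LD3_c16)) = (LP (LK LD1_c8 LD2_c40 LD3_c21)) :=
  Lgr Lrot143 (Lpr_dt (f2092 IH) (Lpe (f2080 IH) (Lpe (f199188 IH) (Lpr_gf (f233939 IH) (Lpe (K10.f33323 IH) (Lpe (K0.f1573 IH) (Lpe (K0.f1717 IH) (Lpe (f233404 IH) (Lpr_dt (f184771 IH) (Lpn (LP (LK LD1_c8 LD2_c40 LD3_c21))))))))))))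
theorem f2084 : Led Lsl_gt (LP (LK LD1_c4 LD2_c51 LD3_c8)) = (LP (LK LD1_c4 LD2_c51 LD3_c24)) :=
  Lgr Lrot150 (Lpe (f2080 IH) (Lpe (f2079 IH) (Lpe (f271 IH) (Lpr_gt (K9.f1600 IH) (Lpr_ct (K9.f1713 IH) (Lpr_gt (K9.f1597 IH) (Lpr_ct (K12.f2081 IH) (Lpe (f2082 IH) (Lpe (f2083 IH) (Lpn (LP (LK LD1_c4 LD2_c51 LD3_c24))))))))))))
theorem f233205 : Led Lsl_df (LP (LK LD1_c4 LD2_c51 LD3_c61)) = (LP (LK LD1_c4 LD2_c51 LD3_c24)) :=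
  Lgr Lrot38 (Lpr_dt (f233169 IH) (Lpn (LP (LK LD1_c4 LD2_c51 LD3_c24))))
theorem f233955 : Led Lsl_gf (LP (LK LD1_c9 LD2_c34 LD3_c25)) = (LP (LK LD1_c9 LD2_c33 LD3_c53)) :=
  Lgr Lrot144 (Lpr_dt (f232949 IH) (Lpr_gt (f186926 IH) (Lpr_dt (f232523 IH) (Lpe (f232944 IH) (Lpr_df (f233205 IH) (Lpe (f2084 IH) (Lpe (f2092 IH) (Lpr_gf (f233941 IH) (Lpr_cf (f233705 IH) (Lpn (LP (LK LD1_c9 LD2_c33 LD3_c53))))))))))))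
theorem f235683 : Led Lsl_et (LP (LK LD1_c0 LD2_c35 LD3_c14)) = (LP (LK LD1_c1 LD2_c16 LD3_c5)) :=
  Lre_e IH (LK LD1_c0 LD2_c35 LD3_c14) (LK LD1_c1 LD2_c16 LD3_c5) Lrfl Lrfl
theorem f235597 : Led Lsl_gt (LP (LK LD1_c1 LD2_c16 LD3_c5)) = (LP (LK LD1_c2 LD2_c38 LD3_c16)) :=
  Lre_g IH (LK LD1_c1 LD2_c16 LD3_c5) (LK LD1_c2 LD2_c38 LD3_c16) Lrfl Lrfl
theorem f235684 : Led Lsl_dt (LP (LK LD1_c2 LD2_c38 LD3_c16)) = (LP (LK LD1_c3 LD2_c56 LD3_c52)) :=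
  Lgr Lrot171 (Lpe (f235597 IH) (Lpe (f235683 IH) (Lpr_dt (f224181 IH) (Lpe (f221609 IH) (Lpr_df (f235671 IH) (Lpr_et (f171182 IH) (Lpr_gf (f232156 IH) (Lpr_ef (f43056 IH) (Lpr_dt (K1.f29137 IH) (Lpe (f233210 IH) (Lpn (LP (LK LD1_c3 LD2_c56 LD3_c52)))))))))))))
theorem f235690 : Led Lsl_df (LP (LK LD1_c2 LD2_c38 LD3_c16)) = (LP (LK LD1_c3 LD2_c56 LD3_c52)) :=
  Lgr Lrot38 (Lpr_dt (f235684 IH) (Lpn (LP (LK LD1_c3 LD2_c56 LD3_c52))))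
theorem f236449 : Led Lsl_gf (LP (LK LD1_c5 LD2_c15 LD3_c14)) = (LP (LK LD1_c2 LD2_c38 LD3_c16)) :=
  Lgr Lrot143 (Lpr_dt (f236441 IH) (Lpr_cf (f233086 IH) (Lpe (f232949 IH) (Lpr_gf (f233955 IH) (Lpe (f189243 IH) (Lpe (f232325 IH) (Lpe (K1.f29078 IH) (Lpr_gt (K12.f29084 IH) (Lpe (f235690 IH) (Lpn (LP (LK LD1_c2 LD2_c38 LD3_c16))))))))))))
theorem f33291 : Led Lsl_et (LP (LK LD1_c0 LD2_c14 LD3_c50)) = (LP (LK LD1_c0 LD2_c33 LD3_c0)) :=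
  Lre_e IH (LK LD1_c0 LD2_c14 LD3_c50) (LK LD1_c0 LD2_c33 LD3_c0) Lrfl Lrfl
theorem f7867 : Led Lsl_dt (LP (LK LD1_c0 LD2_c27 LD3_c16)) = (LP (LK LD1_c1 LD2_c0 LD3_c0)) :=
  Lre_d IH (LK LD1_c0 LD2_c27 LD3_c16) (LK LD1_c1 LD2_c0 LD3_c0) Lrfl Lrfl
theorem f7874 : Led Lsl_gt (LP (LK LD1_c1 LD2_c0 LD3_c0)) = (LP (LK LD1_c2 LD2_c5 LD3_c61)) :=
  Lre_g IH (LK LD1_c1 LD2_c0 LD3_c0) (LK LD1_c2 LD2_c5 LD3_c61) Lrfl Lrfl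
theorem f166497 : Led Lsl_ct (LP (LK LD1_c2 LD2_c5 LD3_c61)) = (LP (LK LD1_c4 LD2_c17 LD3_c18)) :=
  Lre_c IH (LK LD1_c2 LD2_c5 LD3_c61) (LK LD1_c4 LD2_c17 LD3_c18) Lrfl Lrfl
theorem f166498 : Led Lsl_gt (LP (LK LD1_c4 LD2_c17 LD3_c18)) = (LP (LK LD1_c8 LD2_c33 LD3_c41)) :=
  Lre_g IH (LK LD1_c4 LD2_c17 LD3_c18) (LK LD1_c8 LD2_c33 LD3_c41) Lrfl Lrfl
theorem f199612 : Led Lsl_dt (LP (LK LD1_c4 LD2_c50 LD3_c47)) = (LP (LK LD1_c2 LD2_c23 LD3_c11)) :=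
  Lre_d IH (LK LD1_c4 LD2_c50 LD3_c47) (LK LD1_c2 LD2_c23 LD3_c11) Lrfl Lrfl
theorem f199622 : Led Lsl_ct (LP (LK LD1_c8 LD2_c33 LD3_c41)) = (LP (LK LD1_c4 LD2_c50 LD3_c47)) :=
  Lgr Lrot110 (Lpe (f166498 IH) (Lpe (f166497 IH) (Lpe (f7874 IH) (Lpe (f7867 IH) (Lpe (K11.f199580 IH) (Lpr_ct (K1.f41887 IH) (Lpr_gt (K11.f41265 IH) (Lpr_ct (f199609 IH) (Lpe (f199612 IH) (Lpn (LP (LK LD1_c4 LD2_c50 LD3_c47))))))))))))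
theorem f199628 : Led Lsl_cf (LP (LK LD1_c8 LD2_c33 LD3_c41)) = (LP (LK LD1_c4 LD2_c50 LD3_c47)) :=
  Lgr Lrot11 (Lpr_ct (f199622 IH) (Lpn (LP (LK LD1_c4 LD2_c50 LD3_c47))))
theorem f166489 : Led Lsl_bt (LP (LK LD1_c0 LD2_c27 LD3_c17)) = (LP (LK LD1_c1 LD2_c0 LD3_c0)) :=
  Lre_b IH (LK LD1_c0 LD2_c27 LD3_c17) (LK LD1_c1 LD2_c0 LD3_c0) Lrfl Lrfl
theorem f199625 : Led Lsl_bt (LP (LK LD1_c4 LD2_c50 LD3_c47)) = (LP (LK LD1_c2 LD2_c23 LD3_c12)) :=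
  Lre_b IH (LK LD1_c4 LD2_c50 LD3_c47) (LK LD1_c2 LD2_c23 LD3_c12) Lrfl Lrfl
theorem f199671 : Led Lsl_gf (LP (LK LD1_c2 LD2_c3 LD3_c30)) = (LP (LK LD1_c2 LD2_c23 LD3_c12)) :=
  Lgr Lrot124 (Lpe (f166496 IH) (Lpr_ct (K9.f166472 IH) (Lpr_gt (K9.f166473 IH) (Lpe (K9.f7991 IH) (Lpr_bt (f166489 IH) (Lpr_gt (f7874 IH) (Lpr_ct (f166497 IH) (Lpr_gt (f166498 IH) (Lpr_cf (f199628 IH) (Lpr_bt (f199625 IH) (Lpn (LP (LK LD1_c2 LD2_c23 LD3_c12)))))))))))))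
theorem f177908 : Led Lsl_et (LP (LK LD1_c1 LD2_c3 LD3_c22)) = (LP (LK LD1_c0 LD2_c28 LD3_c55)) :=
  Lre_e IH (LK LD1_c1 LD2_c3 LD3_c22) (LK LD1_c0 LD2_c28 LD3_c55) Lrfl Lrfl
theorem f212546 : Led Lsl_df (LP (LK LD1_c2 LD2_c3 LD3_c30)) = (LP (LK LD1_c1 LD2_c3 LD3_c22)) :=
  Lgr Lrot132 (Lpr_gf (f199671 IH) (Lpe (f1734 IH) (Lpe (K0.f2072 IH) (Lpe (K0.f1594 IH) (Lpr_dt (K0.f28746 IH) (Lpr_gf (K0.f31030 IH) (Lpr_df (K0.f33289 IH) (Lpr_et (f33291 IH) (Lpr_gf (K12.f212506 IH) (Lpe (f177908 IH) (Lpn (LP (LK LD1_c1 LD2_c3 LD3_c22)))))))))))))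
theorem f236443 : Led Lsl_df (LP (LK LD1_c5 LD2_c15 LD3_c14)) = (LP (LK LD1_c4 LD2_c8 LD3_c28)) :=
  Lgr Lrot155 (Lpr_gt (f232391 IH) (Lpr_ct (f236418 IH) (Lpr_gt (f177910 IH) (Lpe (f177901 IH) (Lpe (f212546 IH) (Lpe (f178327 IH) (Lpe (f220070 IH) (Lpe (f167358 IH) (Lpe (f167344 IH) (Lpn (LP (LK LD1_c4 LD2_c8 LD3_c28))))))))))))
theorem f29118 : Led Lsl_et (LP (LK LD1_c0 LD2_c54 LD3_c23)) = (LP (LK LD1_c1 LD2_c55 LD3_c10)) :=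
  Lre_e IH (LK LD1_c0 LD2_c54 LD3_c23) (LK LD1_c1 LD2_c55 LD3_c10) Lrfl Lrfl
theorem f42889 : Led Lsl_dt (LP (LK LD1_c1 LD2_c55 LD3_c15)) = (LP (LK LD1_c0 LD2_c54 LD3_c22)) :=
  Lre_d IH (LK LD1_c1 LD2_c55 LD3_c15) (LK LD1_c0 LD2_c54 LD3_c22) Lrfl Lrfl
theorem f42890 : Led Lsl_et (LP (LK LD1_c1 LD2_c55 LD3_c15)) = (LP (LK LD1_c3 LD2_c57 LD3_c1)) :=
  Lre_e IH (LK LD1_c1 LD2_c55 LD3_c15) (LK LD1_c3 LD2_c57 LD3_c1) Lrfl Lrfl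
theorem f197708 : Led Lsl_gt (LP (LK LD1_c7 LD2_c55 LD3_c41)) = (LP (LK LD1_c3 LD2_c57 LD3_c1)) :=
  Lre_g IH (LK LD1_c7 LD2_c55 LD3_c41) (LK LD1_c3 LD2_c57 LD3_c1) Lrfl Lrfl
theorem f236454 : Led Lsl_et (LP (LK LD1_c4 LD2_c8 LD3_c28)) = (LP (LK LD1_c7 LD2_c55 LD3_c41)) :=
  Lgr Lrot185 (Lpe (f236443 IH) (Lpr_gf (f236449 IH) (Lpr_df (f235690 IH) (Lpe (K12.f29084 IH) (Lpe (f29118 IH) (Lpr_dt (K12.f42868 IH) (Lpe (K10.f28799 IH) (Lpe (f42889 IH) (Lpr_et (f42890 IH) (Lpe (f197708 IH) (Lpn (LP (LK LD1_c7 LD2_c55 LD3_c41)))))))))))))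
theorem f236458 : Led Lsl_ef (LP (LK LD1_c4 LD2_c8 LD3_c28)) = (LP (LK LD1_c7 LD2_c55 LD3_c41)) :=
  Lgr Lrot88 (Lpr_et (f236454 IH) (Lpn (LP (LK LD1_c7 LD2_c55 LD3_c41))))
theorem f39145 : Led Lsl_gt (LP (LK LD1_c4 LD2_c22 LD3_c16)) = (LP (LK LD1_c2 LD2_c8 LD3_c34)) :=
  Lre_g IH (LK LD1_c4 LD2_c22 LD3_c16) (LK LD1_c2 LD2_c8 LD3_c34) Lrfl Lrfl
theorem f39146 : Led Lsl_gt (LP (LK LD1_c7 LD2_c55 LD3_c29)) = (LP (LK LD1_c4 LD2_c22 LD3_c16)) :=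
  Lgr Lrot5 (Lpr_ft (f39143 IH) (Lpr_at (K1.f39117 IH) (Lpe (f39145 IH) (Lpn (LP (LK LD1_c4 LD2_c22 LD3_c16))))))
theorem f39158 : Led Lsl_et (LP (LK LD1_c8 LD2_c42 LD3_c32)) = (LP (LK LD1_c4 LD2_c22 LD3_c16)) :=
  Lre_e IH (LK LD1_c8 LD2_c42 LD3_c32) (LK LD1_c4 LD2_c22 LD3_c16) Lrfl Lrfl
theorem f768 : Led Lsl_et (LP (LK LD1_c0 LD2_c12 LD3_c2)) = (LP (LK LD1_c0 LD2_c27 LD3_c8)) :=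
  Lre_e IH (LK LD1_c0 LD2_c12 LD3_c2) (LK LD1_c0 LD2_c27 LD3_c8) Lrfl Lrfl
theorem f786 : Led Lsl_et (LP (LK LD1_c2 LD2_c5 LD3_c5)) = (LP (LK LD1_c0 LD2_c59 LD3_c37)) :=
  Lre_e IH (LK LD1_c2 LD2_c5 LD3_c5) (LK LD1_c0 LD2_c59 LD3_c37) Lrfl Lrfl
theorem f197515 : Led Lsl_dt (LP (LK LD1_c2 LD2_c5 LD3_c5)) = (LP (LK LD1_c2 LD2_c11 LD3_c24)) :=
  Lgr Lrot56 (Lpr_et (f786 IH) (Lpr_gt (K10.f785 IH) (Lpe (f768 IH) (Lpe (K1.f763 IH) (Lpe (K1.f47532 IH) (Lpr_df (K9.f47731 IH) (Lpr_et (K9.f47734 IH) (Lpr_gt (f197449 IH) (Lpr_dt (K12.f173343 IH) (Lpr_gt (K12.f169294 IH) (Lpn (LP (LK LD1_c2 LD2_c11 LD3_c24)))))))))))))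
theorem f197592 : Led Lsl_et (LP (LK LD1_c4 LD2_c15 LD3_c25)) = (LP (LK LD1_c2 LD2_c5 LD3_c4)) :=
  Lre_e IH (LK LD1_c4 LD2_c15 LD3_c25) (LK LD1_c2 LD2_c5 LD3_c4) Lrfl Lrfl
theorem f197593 : Led Lsl_et (LP (LK LD1_c2 LD2_c11 LD3_c24)) = (LP (LK LD1_c4 LD2_c28 LD3_c44)) :=
  Lre_e IH (LK LD1_c2 LD2_c11 LD3_c24) (LK LD1_c4 LD2_c28 LD3_c44) Lrfl Lrfl
theorem f197594 : Led Lsl_df (LP (LK LD1_c4 LD2_c15 LD3_c25)) = (LP (LK LD1_c4 LD2_c28 LD3_c44)) :=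
  Lgr Lrot70 (Lpr_et (f197592 IH) (Lpr_dt (f1326 IH) (Lpr_et (f187235 IH) (Lpr_dt (f197515 IH) (Lpr_et (f197593 IH) (Lpn (LP (LK LD1_c4 LD2_c28 LD3_c44))))))))
theorem f197601 : Led Lsl_ft (LP (LK LD1_c4 LD2_c15 LD3_c25)) = (LP (LK LD1_c8 LD2_c29 LD3_c45)) :=
  Lre_f IH (LK LD1_c4 LD2_c15 LD3_c25) (LK LD1_c8 LD2_c29 LD3_c45) Lrfl Lrfl
theorem f197602 : Led Lsl_ft (LP (LK LD1_c8 LD2_c55 LD3_c46)) = (LP (LK LD1_c4 LD2_c28 LD3_c44)) :=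
  Lre_f IH (LK LD1_c8 LD2_c55 LD3_c46) (LK LD1_c4 LD2_c28 LD3_c44) Lrfl Lrfl
theorem f197603 : Led Lsl_dt (LP (LK LD1_c8 LD2_c29 LD3_c45)) = (LP (LK LD1_c8 LD2_c55 LD3_c46)) :=
  Lgr Lrot60 (Lpe (f197601 IH) (Lpr_df (f197594 IH) (Lpe (f197602 IH) (Lpn (LP (LK LD1_c8 LD2_c55 LD3_c46))))))
theorem f197629 : Led Lsl_bf (LP (LK LD1_c1 LD2_c55 LD3_c15)) = (LP (LK LD1_c2 LD2_c5 LD3_c4)) :=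
  Lgr Lrot93 (Lpr_dt (f42889 IH) (Lpr_bt (f197447 IH) (Lpr_dt (f27371 IH) (Lpn (LP (LK LD1_c2 LD2_c5 LD3_c4))))))
theorem f197636 : Led Lsl_bt (LP (LK LD1_c3 LD2_c57 LD3_c1)) = (LP (LK LD1_c4 LD2_c15 LD3_c25)) :=
  Lgr Lrot119 (Lpe (f42890 IH) (Lpr_bf (f197629 IH) (Lpe (f197592 IH) (Lpn (LP (LK LD1_c4 LD2_c15 LD3_c25))))))
theorem f197644 : Led Lsl_ft (LP (LK LD1_c7 LD2_c55 LD3_c42)) = (LP (LK LD1_c3 LD2_c57 LD3_c1)) :=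
  Lre_f IH (LK LD1_c7 LD2_c55 LD3_c42) (LK LD1_c3 LD2_c57 LD3_c1) Lrfl Lrfl
theorem f197645 : Led Lsl_bf (LP (LK LD1_c7 LD2_c55 LD3_c42)) = (LP (LK LD1_c8 LD2_c29 LD3_c45)) :=
  Lgr Lrot61 (Lpr_ft (f197644 IH) (Lpr_bt (f197636 IH) (Lpr_ft (f197601 IH) (Lpn (LP (LK LD1_c8 LD2_c29 LD3_c45))))))
theorem f197650 : Led Lsl_bt (LP (LK LD1_c7 LD2_c55 LD3_c42)) = (LP (LK LD1_c8 LD2_c29 LD3_c45)) :=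
  Lgr Lrot127 (Lpr_bf (f197645 IH) (Lpn (LP (LK LD1_c8 LD2_c29 LD3_c45))))
theorem f228054 : Led Lsl_dt (LP (LK LD1_c8 LD2_c36 LD3_c46)) = (LP (LK LD1_c7 LD2_c55 LD3_c42)) :=
  Lgr Lrot79 (Lpr_bf (K12.f228049 IH) (Lpe (f197603 IH) (Lpe (f197650 IH) (Lpn (LP (LK LD1_c7 LD2_c55 LD3_c42))))))
theorem f228058 : Led Lsl_df (LP (LK LD1_c8 LD2_c36 LD3_c46)) = (LP (LK LD1_c7 LD2_c55 LD3_c42)) :=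
  Lgr Lrot38 (Lpr_dt (f228054 IH) (Lpn (LP (LK LD1_c7 LD2_c55 LD3_c42))))
theorem f197656 : Led Lsl_ft (LP (LK LD1_c3 LD2_c57 LD3_c1)) = (LP (LK LD1_c7 LD2_c55 LD3_c42)) :=
  Lre_f IH (LK LD1_c3 LD2_c57 LD3_c1) (LK LD1_c7 LD2_c55 LD3_c42) Lrfl Lrfl
theorem f228062 : Led Lsl_dt (LP (LK LD1_c4 LD2_c19 LD3_c10)) = (LP (LK LD1_c3 LD2_c57 LD3_c1)) :=
  Lgr Lrot60 (Lpe (K12.f228048 IH) (Lpr_df (f228058 IH) (Lpe (f197656 IH) (Lpn (LP (LK LD1_c3 LD2_c57 LD3_c1))))))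
theorem f227985 : Led Lsl_et (LP (LK LD1_c4 LD2_c19 LD3_c10)) = (LP (LK LD1_c2 LD2_c6 LD3_c60)) :=
  Lre_e IH (LK LD1_c4 LD2_c19 LD3_c10) (LK LD1_c2 LD2_c6 LD3_c60) Lrfl Lrfl
theorem f28047 : Led Lsl_et (LP (LK LD1_c8 LD2_c2 LD3_c48)) = (LP (LK LD1_c4 LD2_c1 LD3_c1)) :=
  Lre_e IH (LK LD1_c8 LD2_c2 LD3_c48) (LK LD1_c4 LD2_c1 LD3_c1) Lrfl Lrfl
theorem f228066 : Led Lsl_dt (LP (LK LD1_c8 LD2_c2 LD3_c48)) = (LP (LK LD1_c7 LD2_c55 LD3_c41)) :=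
  Lgr Lrot136 (Lpr_et (f28047 IH) (Lpe (f28797 IH) (Lpe (K10.f30863 IH) (Lpr_dt (K12.f52241 IH) (Lpe (K12.f193364 IH) (Lpe (K12.f8008 IH) (Lpe (K12.f8009 IH) (Lpe (f227985 IH) (Lpr_dt (f228062 IH) (Lpe (f197708 IH) (Lpn (LP (LK LD1_c7 LD2_c55 LD3_c41)))))))))))))
theorem f228079 : Led Lsl_df (LP (LK LD1_c8 LD2_c2 LD3_c48)) = (LP (LK LD1_c7 LD2_c55 LD3_c41)) :=
  Lgr Lrot38 (Lpr_dt (f228066 IH) (Lpn (LP (LK LD1_c7 LD2_c55 LD3_c41))))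
theorem f194265 : Led Lsl_gt (LP (LK LD1_c15 LD2_c9 LD3_c3)) = (LP (LK LD1_c8 LD2_c2 LD3_c48)) :=
  Lre_g IH (LK LD1_c15 LD2_c9 LD3_c3) (LK LD1_c8 LD2_c2 LD3_c48) Lrfl Lrfl
theorem f236462 : Led Lsl_dt (LP (LK LD1_c8 LD2_c42 LD3_c32)) = (LP (LK LD1_c15 LD2_c9 LD3_c3)) :=
  Lgr Lrot136 (Lpr_et (f39158 IH) (Lpe (f39146 IH) (Lpe (K1.f39093 IH) (Lpr_dt (K1.f29139 IH) (Lpe (f228932 IH) (Lpe (K12.f167336 IH) (Lpe (f167344 IH) (Lpr_ef (f236458 IH) (Lpe (f228079 IH) (Lpe (f194265 IH) (Lpn (LP (LK LD1_c15 LD2_c9 LD3_c3)))))))))))))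
theorem f236467 : Led Lsl_et (LP (LK LD1_c4 LD2_c22 LD3_c16)) = (LP (LK LD1_c8 LD2_c42 LD3_c32)) :=
  Lre_e IH (LK LD1_c4 LD2_c22 LD3_c16) (LK LD1_c8 LD2_c42 LD3_c32) Lrfl Lrfl
theorem f39157 : Led Lsl_dt (LP (LK LD1_c8 LD2_c42 LD3_c31)) = (LP (LK LD1_c4 LD2_c22 LD3_c16)) :=
  Lre_d IH (LK LD1_c8 LD2_c42 LD3_c31) (LK LD1_c4 LD2_c22 LD3_c16) Lrfl Lrfl
theorem f228068 : Led Lsl_et (LP (LK LD1_c2 LD2_c7 LD3_c0)) = (LP (LK LD1_c1 LD2_c0 LD3_c30)) :=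
  Lre_e IH (LK LD1_c2 LD2_c7 LD3_c0) (LK LD1_c1 LD2_c0 LD3_c30) Lrfl Lrfl
theorem f228069 : Led Lsl_dt (LP (LK LD1_c2 LD2_c7 LD3_c0)) = (LP (LK LD1_c4 LD2_c19 LD3_c15)) :=
  Lre_d IH (LK LD1_c2 LD2_c7 LD3_c0) (LK LD1_c4 LD2_c19 LD3_c15) Lrfl Lrfl
theorem f228070 : Led Lsl_gt (LP (LK LD1_c4 LD2_c19 LD3_c15)) = (LP (LK LD1_c8 LD2_c36 LD3_c56)) :=
  Lre_g IH (LK LD1_c4 LD2_c19 LD3_c15) (LK LD1_c8 LD2_c36 LD3_c56) Lrfl Lrfl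
theorem f228071 : Led Lsl_dt (LP (LK LD1_c16 LD2_c8 LD3_c26)) = (LP (LK LD1_c8 LD2_c36 LD3_c56)) :=
  Lre_d IH (LK LD1_c16 LD2_c8 LD3_c26) (LK LD1_c8 LD2_c36 LD3_c56) Lrfl Lrfl
theorem f228072 : Led Lsl_et (LP (LK LD1_c16 LD2_c8 LD3_c26)) = (LP (LK LD1_c15 LD2_c9 LD3_c3)) :=
  Lgr Lrot121 (Lpr_dt (f228071 IH) (Lpe (f228070 IH) (Lpe (f228069 IH) (Lpr_et (f228068 IH) (Lpe (K12.f8009 IH) (Lpe (f227985 IH) (Lpr_dt (f228062 IH) (Lpe (f197708 IH) (Lpe (f228066 IH) (Lpe (f194265 IH) (Lpn (LP (LK LD1_c15 LD2_c9 LD3_c3)))))))))))))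
theorem f228076 : Led Lsl_ef (LP (LK LD1_c16 LD2_c8 LD3_c26)) = (LP (LK LD1_c15 LD2_c9 LD3_c3)) :=
  Lgr Lrot88 (Lpr_et (f228072 IH) (Lpn (LP (LK LD1_c15 LD2_c9 LD3_c3))))
theorem f236468 : Led Lsl_ef (LP (LK LD1_c8 LD2_c42 LD3_c31)) = (LP (LK LD1_c8 LD2_c36 LD3_c56)) :=
  Lgr Lrot73 (Lpr_dt (f39157 IH) (Lpr_et (f236467 IH) (Lpr_dt (f236462 IH) (Lpe (f228076 IH) (Lpr_dt (f228071 IH) (Lpn (LP (LK LD1_c8 LD2_c36 LD3_c56))))))))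
theorem f236471 : Led Lsl_et (LP (LK LD1_c8 LD2_c42 LD3_c31)) = (LP (LK LD1_c8 LD2_c36 LD3_c56)) :=
  Lgr Lrot87 (Lpr_ef (f236468 IH) (Lpn (LP (LK LD1_c8 LD2_c36 LD3_c56))))
theorem f229459 : Led Lsl_ct (LP (LK LD1_c3 LD2_c56 LD3_c59)) = (LP (LK LD1_c1 LD2_c55 LD3_c13)) :=
  Lre_c IH (LK LD1_c3 LD2_c56 LD3_c59) (LK LD1_c1 LD2_c55 LD3_c13) Lrfl Lrfl
theorem f229460 : Led Lsl_dt (LP (LK LD1_c1 LD2_c55 LD3_c13)) = (LP (LK LD1_c0 LD2_c54 LD3_c21)) :=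
  Lre_d IH (LK LD1_c1 LD2_c55 LD3_c13) (LK LD1_c0 LD2_c54 LD3_c21) Lrfl Lrfl
theorem f29272 : Led Lsl_ft (LP (LK LD1_c1 LD2_c56 LD3_c56)) = (LP (LK LD1_c4 LD2_c0 LD3_c20)) :=
  Lre_f IH (LK LD1_c1 LD2_c56 LD3_c56) (LK LD1_c4 LD2_c0 LD3_c20) Lrfl Lrfl
theorem f29273 : Led Lsl_at (LP (LK LD1_c4 LD2_c0 LD3_c20)) = (LP (LK LD1_c2 LD2_c24 LD3_c25)) :=
  Lgr Lrot33 (Lpe (f29272 IH) (Lpr_dt (K1.f29246 IH) (Lpr_ct (K1.f29247 IH) (Lpr_dt (K1.f6939 IH) (Lpr_ct (K1.f6938 IH) (Lpr_dt (K1.f6937 IH) (Lpe (K0.f6926 IH) (Lpr_dt (K0.f2409 IH) (Lpr_ct (K12.f2167 IH) (Lpn (LP (LK LD1_c2 LD2_c24 LD3_c25))))))))))))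
theorem f29260 : Led Lsl_ct (LP (LK LD1_c4 LD2_c0 LD3_c30)) = (LP (LK LD1_c1 LD2_c56 LD3_c61)) :=
  Lre_c IH (LK LD1_c4 LD2_c0 LD3_c30) (LK LD1_c1 LD2_c56 LD3_c61) Lrfl Lrfl
theorem f29261 : Led Lsl_df (LP (LK LD1_c4 LD2_c0 LD3_c30)) = (LP (LK LD1_c2 LD2_c24 LD3_c25)) :=
  Lgr Lrot43 (Lpr_ct (f29260 IH) (Lpr_dt (K11.f29259 IH) (Lpr_ct (K11.f29258 IH) (Lpr_dt (K1.f29257 IH) (Lpr_ct (K1.f28939 IH) (Lpr_dt (K1.f28758 IH) (Lpr_ct (K1.f29245 IH) (Lpr_dt (K1.f29246 IH) (Lpr_ct (K1.f29247 IH) (Lpr_dt (K1.f6939 IH) (Lpr_ct (K1.f6938 IH) (Lpr_dt (K1.f6937 IH) (Lpe (K0.f6926 IH) (Lpr_dt (K0.f2409 IH) (Lpr_ct (K12.f2167 IH) (Lpn (LP (LK LD1_c2 LD2_c24 LD3_c25))))))))))))))))))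
theorem f29697 : Led Lsl_af (LP (LK LD1_c4 LD2_c0 LD3_c3)) = (LP (LK LD1_c4 LD2_c0 LD3_c30)) :=
  Lgr Lrot117 (Lpr_dt (K1.f29681 IH) (Lpr_at (f29273 IH) (Lpe (f29261 IH) (Lpn (LP (LK LD1_c4 LD2_c0 LD3_c30))))))
theorem f2748 : Led Lsl_ft (LP (LK LD1_c2 LD2_c24 LD3_c25)) = (LP (LK LD1_c1 LD2_c9 LD3_c20)) :=
  Lre_f IH (LK LD1_c2 LD2_c24 LD3_c25) (LK LD1_c1 LD2_c9 LD3_c20) Lrfl Lrfl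
theorem f29593 : Led Lsl_ft (LP (LK LD1_c2 LD2_c24 LD3_c24)) = (LP (LK LD1_c4 LD2_c0 LD3_c30)) :=
  Lgr Lrot54 (Lpe (K1.f2493 IH) (Lpe (f2748 IH) (Lpr_df (K1.f29584 IH) (Lpn (LP (LK LD1_c4 LD2_c0 LD3_c30))))))
theorem f30677 : Led Lsl_gf (LP (LK LD1_c4 LD2_c0 LD3_c3)) = (LP (LK LD1_c4 LD2_c53 LD3_c13)) :=
  Lgr Lrot76 (Lpr_af (f29697 IH) (Lpe (f29593 IH) (Lpr_gt (K12.f2527 IH) (Lpn (LP (LK LD1_c4 LD2_c53 LD3_c13))))))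
theorem f181324 : Led Lsl_gt (LP (LK LD1_c1 LD2_c1 LD3_c46)) = (LP (LK LD1_c1 LD2_c55 LD3_c30)) :=
  Lgr Lrot65 (Lpe (K1.f39196 IH) (Lpr_bt (K12.f39233 IH) (Lpe (K9.f9456 IH) (Lpr_bf (K9.f174922 IH) (Lpr_ct (K9.f171299 IH) (Lpe (K9.f172291 IH) (Lpe (K1.f28391 IH) (Lpe (K9.f28326 IH) (Lpe (K10.f28404 IH) (Lpr_ct (K12.f181223 IH) (Lpn (LP (LK LD1_c1 LD2_c55 LD3_c30)))))))))))))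
theorem f193670 : Led Lsl_cf (LP (LK LD1_c4 LD2_c53 LD3_c13)) = (LP (LK LD1_c3 LD2_c57 LD3_c33)) :=
  Lgr Lrot169 (Lpe (f30677 IH) (Lpr_ct (K1.f6955 IH) (Lpe (K1.f6922 IH) (Lpe (K1.f2978 IH) (Lpr_gf (K10.f193663 IH) (Lpr_cf (K12.f181314 IH) (Lpe (f181324 IH) (Lpe (K1.f39199 IH) (Lpe (K11.f39891 IH) (Lpn (LP (LK LD1_c3 LD2_c57 LD3_c33))))))))))))
theorem f224918 : Led Lsl_df (LP (LK LD1_c3 LD2_c57 LD3_c0)) = (LP (LK LD1_c4 LD2_c53 LD3_c14)) :=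
  Lgr Lrot38 (Lpr_dt (K12.f224879 IH) (Lpn (LP (LK LD1_c4 LD2_c53 LD3_c14))))
theorem f229461 : Led Lsl_ct (LP (LK LD1_c0 LD2_c54 LD3_c21)) = (LP (LK LD1_c0 LD2_c24 LD3_c58)) :=
  Lgr Lrot176 (Lpe (f229460 IH) (Lpe (f229459 IH) (Lpr_df (K12.f229436 IH) (Lpr_cf (f193670 IH) (Lpr_df (K11.f193480 IH) (Lpe (K11.f53320 IH) (Lpe (K12.f6831 IH) (Lpe (K10.f173349 IH) (Lpe (f42889 IH) (Lpe (K12.f42882 IH) (Lpr_df (f224918 IH) (Lpe (K12.f197721 IH) (Lpe (K12.f210732 IH) (Lpe (K12.f2985 IH) (Lpe (K10.f2984 IH) (Lpn (LP (LK LD1_c0 LD2_c24 LD3_c58))))))))))))))))))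
theorem f29292 : Led Lsl_at (LP (LK LD1_c0 LD2_c25 LD3_c3)) = (LP (LK LD1_c0 LD2_c24 LD3_c59)) :=
  Lgr Lrot100 (Lpr_af (K1.f29290 IH) (Lpn (LP (LK LD1_c0 LD2_c24 LD3_c59))))
theorem f29354 : Led Lsl_ft (LP (LK LD1_c0 LD2_c55 LD3_c20)) = (LP (LK LD1_c0 LD2_c25 LD3_c3)) :=
  Lre_f IH (LK LD1_c0 LD2_c55 LD3_c20) (LK LD1_c0 LD2_c25 LD3_c3) Lrfl Lrfl
theorem f193665 : Led Lsl_gt (LP (LK LD1_c0 LD2_c55 LD3_c20)) = (LP (LK LD1_c0 LD2_c54 LD3_c56)) :=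
  Lgr Lrot5 (Lpr_ft (f29354 IH) (Lpr_at (f29292 IH) (Lpr_gf (K10.f193663 IH) (Lpn (LP (LK LD1_c0 LD2_c54 LD3_c56))))))
theorem f193657 : Led Lsl_df (LP (LK LD1_c0 LD2_c55 LD3_c52)) = (LP (LK LD1_c0 LD2_c54 LD3_c56)) :=
  Lgr Lrot38 (Lpr_dt (K10.f193654 IH) (Lpn (LP (LK LD1_c0 LD2_c54 LD3_c56))))
theorem f193651 : Led Lsl_ct (LP (LK LD1_c0 LD2_c55 LD3_c52)) = (LP (LK LD1_c1 LD2_c57 LD3_c56)) :=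
  Lre_c IH (LK LD1_c0 LD2_c55 LD3_c52) (LK LD1_c1 LD2_c57 LD3_c56) Lrfl Lrfl
theorem f29712 : Led Lsl_dt (LP (LK LD1_c4 LD2_c53 LD3_c7)) = (LP (LK LD1_c2 LD2_c24 LD3_c22)) :=
  Lre_d IH (LK LD1_c4 LD2_c53 LD3_c7) (LK LD1_c2 LD2_c24 LD3_c22) Lrfl Lrfl
theorem f59270 : Led Lsl_dt (LP (LK LD1_c1 LD2_c55 LD3_c29)) = (LP (LK LD1_c3 LD2_c57 LD3_c24)) :=
  Lre_d IH (LK LD1_c1 LD2_c55 LD3_c29) (LK LD1_c3 LD2_c57 LD3_c24) Lrfl Lrfl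
theorem f29711 : Led Lsl_dt (LP (LK LD1_c2 LD2_c24 LD3_c22)) = (LP (LK LD1_c4 LD2_c53 LD3_c7)) :=
  Lre_d IH (LK LD1_c2 LD2_c24 LD3_c22) (LK LD1_c4 LD2_c53 LD3_c7) Lrfl Lrfl
theorem f229285 : Led Lsl_ct (LP (LK LD1_c3 LD2_c57 LD3_c24)) = (LP (LK LD1_c4 LD2_c53 LD3_c7)) :=
  Lgr Lrot7 (Lpe (f59270 IH) (Lpe (K11.f59266 IH) (Lpe (K11.f39256 IH) (Lpe (K11.f35667 IH) (Lpr_cf (K12.f229274 IH) (Lpe (f30677 IH) (Lpr_dt (K1.f29681 IH) (Lpe (K12.f29668 IH) (Lpr_dt (f29711 IH) (Lpn (LP (LK LD1_c4 LD2_c53 LD3_c7))))))))))))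
theorem f30694 : Led Lsl_dt (LP (LK LD1_c4 LD2_c53 LD3_c4)) = (LP (LK LD1_c2 LD2_c24 LD3_c21)) :=
  Lre_d IH (LK LD1_c4 LD2_c53 LD3_c4) (LK LD1_c2 LD2_c24 LD3_c21) Lrfl Lrfl
theorem f181316 : Led Lsl_dt (LP (LK LD1_c1 LD2_c55 LD3_c30)) = (LP (LK LD1_c3 LD2_c57 LD3_c26)) :=
  Lre_d IH (LK LD1_c1 LD2_c55 LD3_c30) (LK LD1_c3 LD2_c57 LD3_c26) Lrfl Lrfl
theorem f2503 : Led Lsl_dt (LP (LK LD1_c2 LD2_c24 LD3_c21)) = (LP (LK LD1_c4 LD2_c53 LD3_c4)) :=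
  Lre_d IH (LK LD1_c2 LD2_c24 LD3_c21) (LK LD1_c4 LD2_c53 LD3_c4) Lrfl Lrfl
theorem f229410 : Led Lsl_ct (LP (LK LD1_c3 LD2_c57 LD3_c26)) = (LP (LK LD1_c4 LD2_c53 LD3_c4)) :=
  Lgr Lrot7 (Lpe (f181316 IH) (Lpe (f181324 IH) (Lpe (K1.f39199 IH) (Lpr_gf (K12.f229408 IH) (Lpr_cf (K12.f197738 IH) (Lpr_gt (K12.f2522 IH) (Lpr_dt (K1.f2756 IH) (Lpr_gt (K12.f2500 IH) (Lpr_dt (f2503 IH) (Lpn (LP (LK LD1_c4 LD2_c53 LD3_c4))))))))))))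
theorem f193656 : Led Lsl_ct (LP (LK LD1_c1 LD2_c57 LD3_c56)) = (LP (LK LD1_c0 LD2_c55 LD3_c52)) :=
  Lre_c IH (LK LD1_c1 LD2_c57 LD3_c56) (LK LD1_c0 LD2_c55 LD3_c52) Lrfl Lrfl
theorem f229431 : Led Lsl_dt (LP (LK LD1_c1 LD2_c55 LD3_c18)) = (LP (LK LD1_c1 LD2_c57 LD3_c56)) :=
  Lgr Lrot173 (Lpr_cf (K12.f229414 IH) (Lpe (f29712 IH) (Lpe (f229285 IH) (Lpe (f59270 IH) (Lpr_cf (K12.f197418 IH) (Lpe (K12.f30809 IH) (Lpr_cf (K12.f227940 IH) (Lpe (K12.f227950 IH) (Lpr_cf (K12.f229262 IH) (Lpe (f30694 IH) (Lpe (f229410 IH) (Lpe (f181316 IH) (Lpe (K12.f181223 IH) (Lpe (K10.f193654 IH) (Lpe (f193656 IH) (Lpn (LP (LK LD1_c1 LD2_c57 LD3_c56))))))))))))))))))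
theorem f229483 : Led Lsl_gf (LP (LK LD1_c1 LD2_c55 LD3_c18)) = (LP (LK LD1_c1 LD2_c1 LD3_c25)) :=
  Lgr Lrot143 (Lpr_dt (f229431 IH) (Lpe (f193651 IH) (Lpr_df (f193657 IH) (Lpe (f193665 IH) (Lpe (K1.f29205 IH) (Lpr_gf (K11.f30816 IH) (Lpe (f229461 IH) (Lpr_gt (K12.f229481 IH) (Lpr_dt (K12.f39161 IH) (Lpn (LP (LK LD1_c1 LD2_c1 LD3_c25))))))))))))
theorem f227961 : Led Lsl_et (LP (LK LD1_c2 LD2_c7 LD3_c2)) = (LP (LK LD1_c4 LD2_c19 LD3_c15)) :=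
  Lre_e IH (LK LD1_c2 LD2_c7 LD3_c2) (LK LD1_c4 LD2_c19 LD3_c15) Lrfl Lrfl
theorem f170307 : Led Lsl_dt (LP (LK LD1_c2 LD2_c7 LD3_c2)) = (LP (LK LD1_c1 LD2_c0 LD3_c31)) :=
  Lre_d IH (LK LD1_c2 LD2_c7 LD3_c2) (LK LD1_c1 LD2_c0 LD3_c31) Lrfl Lrfl
theorem f236473 : Led Lsl_gt (LP (LK LD1_c1 LD2_c57 LD3_c56)) = (LP (LK LD1_c1 LD2_c0 LD3_c31)) :=
  Lgr Lrot139 (Lpe (f229431 IH) (Lpr_gf (f229483 IH) (Lpe (K1.f39140 IH) (Lpe (f42908 IH) (Lpe (f39145 IH) (Lpe (f39157 IH) (Lpr_et (f236471 IH) (Lpe (f228070 IH) (Lpe (f227961 IH) (Lpr_dt (f170307 IH) (Lpn (LP (LK LD1_c1 LD2_c0 LD3_c31)))))))))))))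
theorem f229080 : Led Lsl_et (LP (LK LD1_c2 LD2_c36 LD3_c11)) = (LP (LK LD1_c5 LD2_c19 LD3_c5)) :=
  Lre_e IH (LK LD1_c2 LD2_c36 LD3_c11) (LK LD1_c5 LD2_c19 LD3_c5) Lrfl Lrfl
theorem f229653 : Led Lsl_et (LP (LK LD1_c1 LD2_c55 LD3_c12)) = (LP (LK LD1_c3 LD2_c56 LD3_c57)) :=
  Lre_e IH (LK LD1_c1 LD2_c55 LD3_c12) (LK LD1_c3 LD2_c56 LD3_c57) Lrfl Lrfl
theorem f229643 : Led Lsl_dt (LP (LK LD1_c3 LD2_c56 LD3_c56)) = (LP (LK LD1_c1 LD2_c55 LD3_c12)) :=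
  Lre_d IH (LK LD1_c3 LD2_c56 LD3_c56) (LK LD1_c1 LD2_c55 LD3_c12) Lrfl Lrfl
theorem f229654 : Led Lsl_et (LP (LK LD1_c7 LD2_c55 LD3_c31)) = (LP (LK LD1_c3 LD2_c56 LD3_c56)) :=
  Lre_e IH (LK LD1_c7 LD2_c55 LD3_c31) (LK LD1_c3 LD2_c56 LD3_c56) Lrfl Lrfl
theorem f229655 : Led Lsl_dt (LP (LK LD1_c5 LD2_c19 LD3_c5)) = (LP (LK LD1_c7 LD2_c55 LD3_c31)) :=
  Lgr Lrot77 (Lpe (f229080 IH) (Lpr_df (K12.f229646 IH) (Lpe (f229653 IH) (Lpe (f229643 IH) (Lpe (f229654 IH) (Lpn (LP (LK LD1_c7 LD2_c55 LD3_c31))))))))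
theorem f229077 : Led Lsl_ft (LP (LK LD1_c10 LD2_c28 LD3_c1)) = (LP (LK LD1_c5 LD2_c19 LD3_c5)) :=
  Lre_f IH (LK LD1_c10 LD2_c28 LD3_c1) (LK LD1_c5 LD2_c19 LD3_c5) Lrfl Lrfl
theorem f229664 : Led Lsl_ft (LP (LK LD1_c7 LD2_c55 LD3_c31)) = (LP (LK LD1_c14 LD2_c57 LD3_c7)) :=
  Lre_f IH (LK LD1_c7 LD2_c55 LD3_c31) (LK LD1_c14 LD2_c57 LD3_c7) Lrfl Lrfl
theorem f229665 : Led Lsl_df (LP (LK LD1_c10 LD2_c28 LD3_c1)) = (LP (LK LD1_c14 LD2_c57 LD3_c7)) :=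
  Lgr Lrot78 (Lpr_ft (f229077 IH) (Lpr_dt (f229655 IH) (Lpr_ft (f229664 IH) (Lpn (LP (LK LD1_c14 LD2_c57 LD3_c7))))))
theorem f229673 : Led Lsl_dt (LP (LK LD1_c10 LD2_c28 LD3_c1)) = (LP (LK LD1_c14 LD2_c57 LD3_c7)) :=
  Lgr Lrot42 (Lpr_df (f229665 IH) (Lpn (LP (LK LD1_c14 LD2_c57 LD3_c7))))
theorem f229064 : Led Lsl_et (LP (LK LD1_c1 LD2_c58 LD3_c20)) = (LP (LK LD1_c4 LD2_c2 LD3_c38)) :=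
  Lre_e IH (LK LD1_c1 LD2_c58 LD3_c20) (LK LD1_c4 LD2_c2 LD3_c38) Lrfl Lrfl
theorem f44284 : Led Lsl_et (LP (LK LD1_c5 LD2_c19 LD3_c5)) = (LP (LK LD1_c2 LD2_c36 LD3_c11)) :=
  Lre_e IH (LK LD1_c5 LD2_c19 LD3_c5) (LK LD1_c2 LD2_c36 LD3_c11) Lrfl Lrfl
theorem f229065 : Led Lsl_bt (LP (LK LD1_c4 LD2_c2 LD3_c38)) = (LP (LK LD1_c5 LD2_c19 LD3_c5)) :=
  Lgr Lrot119 (Lpe (f229064 IH) (Lpr_bf (K12.f229060 IH) (Lpe (f44284 IH) (Lpn (LP (LK LD1_c5 LD2_c19 LD3_c5))))))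
theorem f229069 : Led Lsl_ft (LP (LK LD1_c8 LD2_c5 LD3_c53)) = (LP (LK LD1_c4 LD2_c2 LD3_c38)) :=
  Lre_f IH (LK LD1_c8 LD2_c5 LD3_c53) (LK LD1_c4 LD2_c2 LD3_c38) Lrfl Lrfl
theorem f229070 : Led Lsl_ft (LP (LK LD1_c5 LD2_c19 LD3_c5)) = (LP (LK LD1_c10 LD2_c28 LD3_c1)) :=
  Lre_f IH (LK LD1_c5 LD2_c19 LD3_c5) (LK LD1_c10 LD2_c28 LD3_c1) Lrfl Lrfl
theorem f229071 : Led Lsl_bf (LP (LK LD1_c8 LD2_c5 LD3_c53)) = (LP (LK LD1_c10 LD2_c28 LD3_c1)) :=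
  Lgr Lrot61 (Lpr_ft (f229069 IH) (Lpr_bt (f229065 IH) (Lpr_ft (f229070 IH) (Lpn (LP (LK LD1_c10 LD2_c28 LD3_c1))))))
theorem f229074 : Led Lsl_bt (LP (LK LD1_c8 LD2_c5 LD3_c53)) = (LP (LK LD1_c10 LD2_c28 LD3_c1)) :=
  Lgr Lrot127 (Lpr_bf (f229071 IH) (Lpn (LP (LK LD1_c10 LD2_c28 LD3_c1))))
theorem f229676 : Led Lsl_bt (LP (LK LD1_c14 LD2_c57 LD3_c7)) = (LP (LK LD1_c7 LD2_c55 LD3_c37)) :=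
  Lre_b IH (LK LD1_c14 LD2_c57 LD3_c7) (LK LD1_c7 LD2_c55 LD3_c37) Lrfl Lrfl
theorem f229677 : Led Lsl_df (LP (LK LD1_c8 LD2_c5 LD3_c53)) = (LP (LK LD1_c7 LD2_c55 LD3_c37)) :=
  Lgr Lrot12 (Lpr_bt (f229074 IH) (Lpr_dt (f229673 IH) (Lpr_bt (f229676 IH) (Lpn (LP (LK LD1_c7 LD2_c55 LD3_c37))))))
theorem f229680 : Led Lsl_ft (LP (LK LD1_c3 LD2_c56 LD3_c60)) = (LP (LK LD1_c7 LD2_c55 LD3_c37)) :=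
  Lre_f IH (LK LD1_c3 LD2_c56 LD3_c60) (LK LD1_c7 LD2_c55 LD3_c37) Lrfl Lrfl
theorem f229681 : Led Lsl_dt (LP (LK LD1_c4 LD2_c2 LD3_c38)) = (LP (LK LD1_c3 LD2_c56 LD3_c60)) :=
  Lgr Lrot60 (Lpe (f229069 IH) (Lpr_df (f229677 IH) (Lpe (f229680 IH) (Lpn (LP (LK LD1_c3 LD2_c56 LD3_c60))))))
theorem f229686 : Led Lsl_et (LP (LK LD1_c3 LD2_c56 LD3_c60)) = (LP (LK LD1_c1 LD2_c55 LD3_c13)) :=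
  Lre_e IH (LK LD1_c3 LD2_c56 LD3_c60) (LK LD1_c1 LD2_c55 LD3_c13) Lrfl Lrfl
theorem f229478 : Led Lsl_et (LP (LK LD1_c0 LD2_c54 LD3_c21)) = (LP (LK LD1_c1 LD2_c55 LD3_c14)) :=
  Lre_e IH (LK LD1_c0 LD2_c54 LD3_c21) (LK LD1_c1 LD2_c55 LD3_c14) Lrfl Lrfl
theorem f229687 : Led Lsl_df (LP (LK LD1_c1 LD2_c58 LD3_c20)) = (LP (LK LD1_c1 LD2_c55 LD3_c14)) :=
  Lgr Lrot70 (Lpr_et (f229064 IH) (Lpr_dt (f229681 IH) (Lpr_et (f229686 IH) (Lpr_dt (f229460 IH) (Lpr_et (f229478 IH) (Lpn (LP (LK LD1_c1 LD2_c55 LD3_c14))))))))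
theorem f229101 : Led Lsl_gf (LP (LK LD1_c1 LD2_c58 LD3_c20)) = (LP (LK LD1_c1 LD2_c58 LD3_c15)) :=
  Lgr Lrot147 (Lpr_ct (K12.f229084 IH) (Lpr_gt (K12.f33700 IH) (Lpr_ct (K0.f33674 IH) (Lpe (K0.f27771 IH) (Lpe (K0.f33580 IH) (Lpe (K10.f33671 IH) (Lpe (K10.f165282 IH) (Lpr_gf (K10.f190874 IH) (Lpe (K1.f46028 IH) (Lpn (LP (LK LD1_c1 LD2_c58 LD3_c15))))))))))))
theorem f193638 : Led Lsl_et (LP (LK LD1_c1 LD2_c57 LD3_c56)) = (LP (LK LD1_c0 LD2_c55 LD3_c50)) :=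
  Lre_e IH (LK LD1_c1 LD2_c57 LD3_c56) (LK LD1_c0 LD2_c55 LD3_c50) Lrfl Lrfl
theorem f229487 : Led Lsl_et (LP (LK LD1_c1 LD2_c55 LD3_c14)) = (LP (LK LD1_c0 LD2_c54 LD3_c21)) :=
  Lre_e IH (LK LD1_c1 LD2_c55 LD3_c14) (LK LD1_c0 LD2_c54 LD3_c21) Lrfl Lrfl
theorem f229712 : Led Lsl_dt (LP (LK LD1_c1 LD2_c57 LD3_c56)) = (LP (LK LD1_c1 LD2_c55 LD3_c18)) :=
  Lgr Lrot37 (Lpr_et (f193638 IH) (Lpr_gt (K10.f193460 IH) (Lpr_dt (K1.f46030 IH) (Lpe (f229101 IH) (Lpr_df (f229687 IH) (Lpr_et (f229487 IH) (Lpr_gt (K12.f229481 IH) (Lpe (K12.f42902 IH) (Lpr_dt (K12.f39161 IH) (Lpe (f229483 IH) (Lpn (LP (LK LD1_c1 LD2_c55 LD3_c18)))))))))))))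
theorem f43201 : Led Lsl_gt (LP (LK LD1_c1 LD2_c55 LD3_c19)) = (LP (LK LD1_c3 LD2_c57 LD3_c5)) :=
  Lre_g IH (LK LD1_c1 LD2_c55 LD3_c19) (LK LD1_c3 LD2_c57 LD3_c5) Lrfl Lrfl
theorem f170306 : Led Lsl_ct (LP (LK LD1_c1 LD2_c0 LD3_c31)) = (LP (LK LD1_c0 LD2_c27 LD3_c34)) :=
  Lre_c IH (LK LD1_c1 LD2_c0 LD3_c31) (LK LD1_c0 LD2_c27 LD3_c34) Lrfl Lrfl
theorem f236477 : Led Lsl_ct (LP (LK LD1_c3 LD2_c57 LD3_c5)) = (LP (LK LD1_c1 LD2_c56 LD3_c54)) :=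
  Lgr Lrot110 (Lpe (f43201 IH) (Lpe (K1.f39027 IH) (Lpe (K12.f43209 IH) (Lpe (f229712 IH) (Lpr_gt (f236473 IH) (Lpr_ct (f170306 IH) (Lpr_gt (K12.f179857 IH) (Lpe (f211479 IH) (Lpr_df (K12.f211481 IH) (Lpn (LP (LK LD1_c1 LD2_c56 LD3_c54))))))))))))
theorem f182334 : Led Lsl_ct (LP (LK LD1_c4 LD2_c56 LD3_c55)) = (LP (LK LD1_c2 LD2_c26 LD3_c18)) :=
  Lre_c IH (LK LD1_c4 LD2_c56 LD3_c55) (LK LD1_c2 LD2_c26 LD3_c18) Lrfl Lrfl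
theorem f236488 : Led Lsl_gt (LP (LK LD1_c3 LD2_c57 LD3_c8)) = (LP (LK LD1_c4 LD2_c56 LD3_c55)) :=
  Lgr Lrot9 (Lpe (K1.f39181 IH) (Lpr_gt (f43201 IH) (Lpr_ct (f236477 IH) (Lpe (K12.f29644 IH) (Lpr_ct (K12.f2167 IH) (Lpr_df (K1.f29584 IH) (Lpe (K1.f29583 IH) (Lpr_gf (K12.f197257 IH) (Lpe (f182334 IH) (Lpn (LP (LK LD1_c4 LD2_c56 LD3_c55))))))))))))
theorem f196325 : Led Lsl_ct (LP (LK LD1_c3 LD2_c57 LD3_c14)) = (LP (LK LD1_c1 LD2_c55 LD3_c22)) :=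
  Lre_c IH (LK LD1_c3 LD2_c57 LD3_c14) (LK LD1_c1 LD2_c55 LD3_c22) Lrfl Lrfl
theorem f236495 : Led Lsl_df (LP (LK LD1_c3 LD2_c57 LD3_c14)) = (LP (LK LD1_c4 LD2_c56 LD3_c55)) :=
  Lgr Lrot174 (Lpr_ct (f196325 IH) (Lpe (K11.f196319 IH) (Lpe (K10.f196316 IH) (Lpe (K1.f28940 IH) (Lpe (K9.f29652 IH) (Lpe (K12.f182316 IH) (Lpr_gt (K12.f39271 IH) (Lpr_dt (K1.f39181 IH) (Lpr_gt (f236488 IH) (Lpn (LP (LK LD1_c4 LD2_c56 LD3_c55))))))))))))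
theorem f28525 : Led Lsl_dt (LP (LK LD1_c0 LD2_c24 LD3_c34)) = (LP (LK LD1_c0 LD2_c54 LD3_c26)) :=
  Lre_d IH (LK LD1_c0 LD2_c24 LD3_c34) (LK LD1_c0 LD2_c54 LD3_c26) Lrfl Lrfl
theorem f182335 : Led Lsl_ct (LP (LK LD1_c2 LD2_c26 LD3_c18)) = (LP (LK LD1_c4 LD2_c56 LD3_c55)) :=
  Lre_c IH (LK LD1_c2 LD2_c26 LD3_c18) (LK LD1_c4 LD2_c56 LD3_c55) Lrfl Lrfl
theorem f168359 : Led Lsl_ct (LP (LK LD1_c2 LD2_c26 LD3_c14)) = (LP (LK LD1_c1 LD2_c10 LD3_c21)) :=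
  Lre_c IH (LK LD1_c2 LD2_c26 LD3_c14) (LK LD1_c1 LD2_c10 LD3_c21) Lrfl Lrfl
theorem f168369 : Led Lsl_dt (LP (LK LD1_c4 LD2_c56 LD3_c47)) = (LP (LK LD1_c2 LD2_c26 LD3_c14)) :=
  Lre_d IH (LK LD1_c4 LD2_c56 LD3_c47) (LK LD1_c2 LD2_c26 LD3_c14) Lrfl Lrfl
theorem f236594 : Led Lsl_ct (LP (LK LD1_c3 LD2_c57 LD3_c18)) = (LP (LK LD1_c4 LD2_c56 LD3_c47)) :=
  Lgr Lrot176 (Lpe (K11.f211110 IH) (Lpe (K11.f174950 IH) (Lpe (f28525 IH) (Lpe (K11.f42870 IH) (Lpe (K12.f196318 IH) (Lpe (f196325 IH) (Lpr_df (f236495 IH) (Lpe (f182335 IH) (Lpe (K12.f182333 IH) (Lpe (K11.f56561 IH) (Lpe (K11.f56557 IH) (Lpe (K9.f168348 IH) (Lpe (K12.f168525 IH) (Lpe (f168359 IH) (Lpe (f168369 IH) (Lpn (LP (LK LD1_c4 LD2_c56 LD3_c47))))))))))))))))))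
theorem f236855 : Led Lsl_gf (LP (LK LD1_c3 LD2_c57 LD3_c8)) = (LP (LK LD1_c4 LD2_c56 LD3_c47)) :=
  Lgr Lrot104 (Lpr_ct (K1.f39248 IH) (Lpe (K9.f38919 IH) (Lpe (K1.f39196 IH) (Lpe (K12.f39244 IH) (Lpe (K12.f39273 IH) (Lpe (K12.f196298 IH) (Lpe (K11.f29259 IH) (Lpe (K11.f211111 IH) (Lpr_ct (f236594 IH) (Lpn (LP (LK LD1_c4 LD2_c56 LD3_c47))))))))))))
theorem f216426 : Led Lsl_dt (LP (LK LD1_c2 LD2_c26 LD3_c14)) = (LP (LK LD1_c4 LD2_c56 LD3_c47)) :=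
  Lre_d IH (LK LD1_c2 LD2_c26 LD3_c14) (LK LD1_c4 LD2_c56 LD3_c47) Lrfl Lrfl
theorem f53171 : Led Lsl_ct (LP (LK LD1_c0 LD2_c58 LD3_c33)) = (LP (LK LD1_c2 LD2_c3 LD3_c15)) :=
  Lre_c IH (LK LD1_c0 LD2_c58 LD3_c33) (LK LD1_c2 LD2_c3 LD3_c15) Lrfl Lrfl
theorem f229710 : Led Lsl_gt (LP (LK LD1_c2 LD2_c3 LD3_c15)) = (LP (LK LD1_c1 LD2_c55 LD3_c14)) :=
  Lgr Lrot94 (Lpe (f53171 IH) (Lpr_gt (K12.f166448 IH) (Lpe (K10.f28520 IH) (Lpr_gt (K10.f27848 IH) (Lpr_dt (K1.f27847 IH) (Lpr_cf (K1.f27832 IH) (Lpe (K1.f27839 IH) (Lpe (K12.f27849 IH) (Lpr_df (f229687 IH) (Lpn (LP (LK LD1_c1 LD2_c55 LD3_c14))))))))))))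
theorem f211283 : Led Lsl_et (LP (LK LD1_c0 LD2_c58 LD3_c32)) = (LP (LK LD1_c2 LD2_c3 LD3_c15)) :=
  Lre_e IH (LK LD1_c0 LD2_c58 LD3_c32) (LK LD1_c2 LD2_c3 LD3_c15) Lrfl Lrfl
theorem f28142 : Led Lsl_dt (LP (LK LD1_c0 LD2_c56 LD3_c15)) = (LP (LK LD1_c1 LD2_c58 LD3_c54)) :=
  Lre_d IH (LK LD1_c0 LD2_c56 LD3_c15) (LK LD1_c1 LD2_c58 LD3_c54) Lrfl Lrfl
theorem f229890 : Led Lsl_gf (LP (LK LD1_c1 LD2_c58 LD3_c54)) = (LP (LK LD1_c1 LD2_c55 LD3_c13)) :=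
  Lgr Lrot145 (Lpe (f28142 IH) (Lpr_et (K11.f28141 IH) (Lpr_gt (K11.f53071 IH) (Lpr_dt (K11.f52293 IH) (Lpr_gt (K11.f199144 IH) (Lpr_df (K11.f211272 IH) (Lpr_et (f211283 IH) (Lpr_gt (f229710 IH) (Lpe (f229478 IH) (Lpr_dt (K12.f42736 IH) (Lpn (LP (LK LD1_c1 LD2_c55 LD3_c13)))))))))))))
theorem f229892 : Led Lsl_ct (LP (LK LD1_c1 LD2_c58 LD3_c54)) = (LP (LK LD1_c4 LD2_c3 LD3_c52)) :=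
  Lre_c IH (LK LD1_c1 LD2_c58 LD3_c54) (LK LD1_c4 LD2_c3 LD3_c52) Lrfl Lrfl
theorem f229893 : Led Lsl_gt (LP (LK LD1_c4 LD2_c3 LD3_c52)) = (LP (LK LD1_c2 LD2_c26 LD3_c14)) :=
  Lgr Lrot150 (Lpe (f229892 IH) (Lpr_gf (f229890 IH) (Lpe (K12.f42736 IH) (Lpr_gt (K12.f229481 IH) (Lpr_ct (K12.f42879 IH) (Lpe (K9.f174984 IH) (Lpr_ct (K9.f167852 IH) (Lpe (K12.f168525 IH) (Lpe (f168359 IH) (Lpn (LP (LK LD1_c2 LD2_c26 LD3_c14))))))))))))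
theorem f236892 : Led Lsl_gf (LP (LK LD1_c1 LD2_c55 LD3_c15)) = (LP (LK LD1_c1 LD2_c58 LD3_c54)) :=
  Lgr Lrot144 (Lpr_dt (f42889 IH) (Lpr_gt (K10.f28799 IH) (Lpr_dt (K1.f31135 IH) (Lpe (K12.f43103 IH) (Lpe (K12.f39031 IH) (Lpr_gf (f236855 IH) (Lpe (f216426 IH) (Lpe (f229893 IH) (Lpe (f229892 IH) (Lpn (LP (LK LD1_c1 LD2_c58 LD3_c54))))))))))))
theorem f236991 : Led Lsl_gt (LP (LK LD1_c1 LD2_c57 LD3_c30)) = (LP (LK LD1_c0 LD2_c56 LD3_c15)) :=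
  Lgr Lrot94 (Lpe (K12.f192849 IH) (Lpe (K12.f196240 IH) (Lpr_dt (K10.f28163 IH) (Lpe (K12.f224990 IH) (Lpr_dt (K12.f6828 IH) (Lpe (K10.f173349 IH) (Lpe (f42889 IH) (Lpr_gf (f236892 IH) (Lpe (f28142 IH) (Lpn (LP (LK LD1_c0 LD2_c56 LD3_c15))))))))))))
theorem f38965 : Led Lsl_gt (LP (LK LD1_c2 LD2_c8 LD3_c30)) = (LP (LK LD1_c1 LD2_c1 LD3_c24)) :=
  Lre_g IH (LK LD1_c2 LD2_c8 LD3_c30) (LK LD1_c1 LD2_c1 LD3_c24) Lrfl Lrfl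
theorem f39038 : Led Lsl_gt (LP (LK LD1_c3 LD2_c57 LD3_c9)) = (LP (LK LD1_c2 LD2_c8 LD3_c30)) :=
  Lgr Lrot5 (Lpr_ft (K1.f38997 IH) (Lpr_at (K1.f38998 IH) (Lpe (f38965 IH) (Lpn (LP (LK LD1_c2 LD2_c8 LD3_c30))))))
theorem f39040 : Led Lsl_dt (LP (LK LD1_c2 LD2_c8 LD3_c30)) = (LP (LK LD1_c4 LD2_c22 LD3_c4)) :=
  Lre_d IH (LK LD1_c2 LD2_c8 LD3_c30) (LK LD1_c4 LD2_c22 LD3_c4) Lrfl Lrfl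
theorem f201276 : Led Lsl_ct (LP (LK LD1_c4 LD2_c3 LD3_c52)) = (LP (LK LD1_c1 LD2_c58 LD3_c54)) :=
  Lre_c IH (LK LD1_c4 LD2_c3 LD3_c52) (LK LD1_c1 LD2_c58 LD3_c54) Lrfl Lrfl
theorem f201277 : Led Lsl_dt (LP (LK LD1_c8 LD2_c8 LD3_c9)) = (LP (LK LD1_c4 LD2_c3 LD3_c52)) :=
  Lre_d IH (LK LD1_c8 LD2_c8 LD3_c9) (LK LD1_c4 LD2_c3 LD3_c52) Lrfl Lrfl
theorem f237216 : Led Lsl_gt (LP (LK LD1_c4 LD2_c22 LD3_c4)) = (LP (LK LD1_c8 LD2_c8 LD3_c9)) :=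
  Lgr Lrot49 (Lpe (f39040 IH) (Lpe (f39038 IH) (Lpe (K1.f38944 IH) (Lpr_gt (K12.f216806 IH) (Lpe (K12.f216737 IH) (Lpr_gt (f236991 IH) (Lpr_dt (f28142 IH) (Lpe (f201276 IH) (Lpe (f201277 IH) (Lpn (LP (LK LD1_c8 LD2_c8 LD3_c9))))))))))))
theorem f193690 : Led Lsl_dt (LP (LK LD1_c1 LD2_c1 LD3_c38)) = (LP (LK LD1_c2 LD2_c8 LD3_c53)) :=
  Lre_d IH (LK LD1_c1 LD2_c1 LD3_c38) (LK LD1_c2 LD2_c8 LD3_c53) Lrfl Lrfl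
theorem f28951 : Led Lsl_gt (LP (LK LD1_c1 LD2_c1 LD3_c43)) = (LP (LK LD1_c0 LD2_c28 LD3_c11)) :=
  Lre_g IH (LK LD1_c1 LD2_c1 LD3_c43) (LK LD1_c0 LD2_c28 LD3_c11) Lrfl Lrfl
theorem f29605 : Led Lsl_ct (LP (LK LD1_c0 LD2_c55 LD3_c18)) = (LP (LK LD1_c1 LD2_c1 LD3_c43)) :=
  Lgr Lrot152 (Lpr_gf (K12.f29303 IH) (Lpe (K1.f6943 IH) (Lpr_gt (K10.f29603 IH) (Lpe (K9.f28931 IH) (Lpr_gt (K9.f28820 IH) (Lpr_ct (K1.f28948 IH) (Lpe (K1.f28952 IH) (Lpe (K1.f28950 IH) (Lpe (f28951 IH) (Lpn (LP (LK LD1_c1 LD2_c1 LD3_c43))))))))))))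
theorem f29610 : Led Lsl_cf (LP (LK LD1_c0 LD2_c55 LD3_c18)) = (LP (LK LD1_c1 LD2_c1 LD3_c43)) :=
  Lgr Lrot11 (Lpr_ct (f29605 IH) (Lpn (LP (LK LD1_c1 LD2_c1 LD3_c43))))
theorem f182342 : Led Lsl_df (LP (LK LD1_c1 LD2_c10 LD3_c13)) = (LP (LK LD1_c2 LD2_c9 LD3_c11)) :=
  Lgr Lrot84 (Lpe (K11.f179873 IH) (Lpe (K11.f182327 IH) (Lpr_gf (K9.f182322 IH) (Lpe (K1.f29257 IH) (Lpe (K12.f29302 IH) (Lpr_cf (f29610 IH) (Lpr_gt (f28951 IH) (Lpr_dt (K1.f29616 IH) (Lpr_gt (K12.f29617 IH) (Lpn (LP (LK LD1_c2 LD2_c9 LD3_c11))))))))))))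
theorem f38963 : Led Lsl_gt (LP (LK LD1_c2 LD2_c8 LD3_c32)) = (LP (LK LD1_c4 LD2_c22 LD3_c11)) :=
  Lre_g IH (LK LD1_c2 LD2_c8 LD3_c32) (LK LD1_c4 LD2_c22 LD3_c11) Lrfl Lrfl
theorem f211160 : Led Lsl_cf (LP (LK LD1_c2 LD2_c8 LD3_c51)) = (LP (LK LD1_c4 LD2_c22 LD3_c11)) :=
  Lgr Lrot99 (Lpe (K12.f180214 IH) (Lpe (K11.f180212 IH) (Lpe (K11.f180207 IH) (Lpe (K11.f180126 IH) (Lpr_gf (K11.f211155 IH) (Lpr_df (f182342 IH) (Lpe (K12.f38926 IH) (Lpr_ct (K1.f38938 IH) (Lpr_gt (f38963 IH) (Lpn (LP (LK LD1_c4 LD2_c22 LD3_c11))))))))))))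
theorem f39429 : Led Lsl_gf (LP (LK LD1_c2 LD2_c9 LD3_c13)) = (LP (LK LD1_c4 LD2_c22 LD3_c11)) :=
  Lgr Lrot76 (Lpe (K1.f39423 IH) (Lpr_ff (K1.f39421 IH) (Lpr_gt (f38963 IH) (Lpn (LP (LK LD1_c4 LD2_c22 LD3_c11))))))
theorem f224996 : Led Lsl_ct (LP (LK LD1_c2 LD2_c8 LD3_c53)) = (LP (LK LD1_c4 LD2_c22 LD3_c4)) :=
  Lgr Lrot7 (Lpe (f193690 IH) (Lpe (K10.f193672 IH) (Lpe (K1.f2977 IH) (Lpr_gf (K12.f224992 IH) (Lpr_cf (f211160 IH) (Lpe (f39429 IH) (Lpe (K1.f39171 IH) (Lpr_gt (f39038 IH) (Lpr_dt (f39040 IH) (Lpn (LP (LK LD1_c4 LD2_c22 LD3_c4))))))))))))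
theorem f193691 : Led Lsl_gt (LP (LK LD1_c2 LD2_c8 LD3_c53)) = (LP (LK LD1_c4 LD2_c22 LD3_c56)) :=
  Lre_g IH (LK LD1_c2 LD2_c8 LD3_c53) (LK LD1_c4 LD2_c22 LD3_c56) Lrfl Lrfl
theorem f236596 : Led Lsl_dt (LP (LK LD1_c3 LD2_c57 LD3_c14)) = (LP (LK LD1_c4 LD2_c56 LD3_c55)) :=
  Lgr Lrot42 (Lpr_df (f236495 IH) (Lpn (LP (LK LD1_c4 LD2_c56 LD3_c55))))
theorem f196326 : Led Lsl_ct (LP (LK LD1_c1 LD2_c55 LD3_c22)) = (LP (LK LD1_c3 LD2_c57 LD3_c14)) :=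
  Lre_c IH (LK LD1_c1 LD2_c55 LD3_c22) (LK LD1_c3 LD2_c57 LD3_c14) Lrfl Lrfl
theorem f174949 : Led Lsl_dt (LP (LK LD1_c3 LD2_c57 LD3_c18)) = (LP (LK LD1_c1 LD2_c55 LD3_c24)) :=
  Lre_d IH (LK LD1_c3 LD2_c57 LD3_c18) (LK LD1_c1 LD2_c55 LD3_c24) Lrfl Lrfl
theorem f174988 : Led Lsl_dt (LP (LK LD1_c2 LD2_c26 LD3_c18)) = (LP (LK LD1_c1 LD2_c10 LD3_c24)) :=
  Lre_d IH (LK LD1_c2 LD2_c26 LD3_c18) (LK LD1_c1 LD2_c10 LD3_c24) Lrfl Lrfl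
theorem f168371 : Led Lsl_ct (LP (LK LD1_c1 LD2_c10 LD3_c21)) = (LP (LK LD1_c2 LD2_c26 LD3_c14)) :=
  Lre_c IH (LK LD1_c1 LD2_c10 LD3_c21) (LK LD1_c2 LD2_c26 LD3_c14) Lrfl Lrfl
theorem f236757 : Led Lsl_cf (LP (LK LD1_c3 LD2_c57 LD3_c18)) = (LP (LK LD1_c4 LD2_c56 LD3_c47)) :=
  Lgr Lrot55 (Lpr_dt (f174949 IH) (Lpr_ct (K11.f174948 IH) (Lpr_dt (K10.f28531 IH) (Lpr_ct (K10.f43094 IH) (Lpr_dt (K11.f196319 IH) (Lpr_ct (f196326 IH) (Lpr_dt (f236596 IH) (Lpr_ct (f182334 IH) (Lpr_dt (f174988 IH) (Lpr_ct (K12.f56556 IH) (Lpr_dt (K9.f56559 IH) (Lpr_ct (K9.f167852 IH) (Lpr_dt (K12.f168350 IH) (Lpr_ct (f168371 IH) (Lpr_dt (f216426 IH) (Lpn (LP (LK LD1_c4 LD2_c56 LD3_c47))))))))))))))))))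
theorem f237239 : Led Lsl_dt (LP (LK LD1_c4 LD2_c22 LD3_c56)) = (LP (LK LD1_c2 LD2_c26 LD3_c3)) :=
  Lgr Lrot115 (Lpe (f193691 IH) (Lpr_ct (f224996 IH) (Lpr_gt (f237216 IH) (Lpr_dt (f201277 IH) (Lpr_gt (f229893 IH) (Lpr_dt (f216426 IH) (Lpe (f236757 IH) (Lpe (K11.f211110 IH) (Lpr_gf (K11.f211123 IH) (Lpn (LP (LK LD1_c2 LD2_c26 LD3_c3))))))))))))
theorem f237250 : Led Lsl_cf (LP (LK LD1_c2 LD2_c8 LD3_c53)) = (LP (LK LD1_c4 LD2_c22 LD3_c4)) :=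
  Lgr Lrot166 (Lpr_gt (f193691 IH) (Lpr_dt (f237239 IH) (Lpe (K11.f211123 IH) (Lpr_dt (K11.f211110 IH) (Lpr_ct (f236594 IH) (Lpe (f216426 IH) (Lpe (f229893 IH) (Lpe (f201277 IH) (Lpe (f237216 IH) (Lpn (LP (LK LD1_c4 LD2_c22 LD3_c4))))))))))))
theorem f181782 : Led Lsl_dt (LP (LK LD1_c2 LD2_c8 LD3_c53)) = (LP (LK LD1_c1 LD2_c1 LD3_c38)) :=
  Lre_d IH (LK LD1_c2 LD2_c8 LD3_c53) (LK LD1_c1 LD2_c1 LD3_c38) Lrfl Lrfl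
theorem f29612 : Led Lsl_dt (LP (LK LD1_c1 LD2_c1 LD3_c43)) = (LP (LK LD1_c2 LD2_c9 LD3_c4)) :=
  Lre_d IH (LK LD1_c1 LD2_c1 LD3_c43) (LK LD1_c2 LD2_c9 LD3_c4) Lrfl Lrfl
theorem f164975 : Led Lsl_ct (LP (LK LD1_c1 LD2_c18 LD3_c36)) = (LP (LK LD1_c0 LD2_c36 LD3_c13)) :=
  Lre_c IH (LK LD1_c1 LD2_c18 LD3_c36) (LK LD1_c0 LD2_c36 LD3_c13) Lrfl Lrfl
theorem f236497 : Led Lsl_gt (LP (LK LD1_c1 LD2_c56 LD3_c41)) = (LP (LK LD1_c1 LD2_c18 LD3_c36)) :=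
  Lgr Lrot9 (Lpr_df (K12.f193667 IH) (Lpe (K12.f229408 IH) (Lpe (K12.f39253 IH) (Lpr_gt (f236488 IH) (Lpr_ct (f182334 IH) (Lpe (K12.f182333 IH) (Lpe (K11.f56561 IH) (Lpe (K11.f201324 IH) (Lpe (f164975 IH) (Lpn (LP (LK LD1_c1 LD2_c18 LD3_c36))))))))))))
theorem f29622 : Led Lsl_bt (LP (LK LD1_c0 LD2_c12 LD3_c26)) = (LP (LK LD1_c0 LD2_c5 LD3_c50)) :=
  Lre_b IH (LK LD1_c0 LD2_c12 LD3_c26) (LK LD1_c0 LD2_c5 LD3_c50) Lrfl Lrfl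
theorem f175281 : Led Lsl_cf (LP (LK LD1_c1 LD2_c1 LD3_c42)) = (LP (LK LD1_c0 LD2_c32 LD3_c38)) :=
  Lgr Lrot58 (Lpe (K10.f39202 IH) (Lpe (K1.f29621 IH) (Lpr_bt (f29622 IH) (Lpe (K9.f20624 IH) (Lpr_bf (K9.f174918 IH) (Lpr_ct (K9.f20629 IH) (Lpe (K9.f174744 IH) (Lpe (K9.f40867 IH) (Lpr_gf (K9.f175275 IH) (Lpe (K12.f172849 IH) (Lpn (LP (LK LD1_c0 LD2_c32 LD3_c38)))))))))))))
theorem f39205 : Led Lsl_dt (LP (LK LD1_c2 LD2_c9 LD3_c1)) = (LP (LK LD1_c1 LD2_c1 LD3_c42)) :=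
  Lre_d IH (LK LD1_c2 LD2_c9 LD3_c1) (LK LD1_c1 LD2_c1 LD3_c42) Lrfl Lrfl
theorem f164952 : Led Lsl_dt (LP (LK LD1_c1 LD2_c18 LD3_c36)) = (LP (LK LD1_c2 LD2_c44 LD3_c29)) :=
  Lre_d IH (LK LD1_c1 LD2_c18 LD3_c36) (LK LD1_c2 LD2_c44 LD3_c29) Lrfl Lrfl
theorem f236506 : Led Lsl_gf (LP (LK LD1_c2 LD2_c9 LD3_c1)) = (LP (LK LD1_c2 LD2_c44 LD3_c29)) :=
  Lgr Lrot143 (Lpr_dt (f39205 IH) (Lpr_cf (f175281 IH) (Lpe (K12.f211493 IH) (Lpe (K12.f53109 IH) (Lpe (K10.f6929 IH) (Lpe (K10.f6928 IH) (Lpe (K12.f193669 IH) (Lpr_gt (f236497 IH) (Lpr_dt (f164952 IH) (Lpn (LP (LK LD1_c2 LD2_c44 LD3_c29))))))))))))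
theorem f39203 : Led Lsl_gf (LP (LK LD1_c1 LD2_c55 LD3_c33)) = (LP (LK LD1_c1 LD2_c1 LD3_c42)) :=
  Lgr Lrot76 (Lpr_af (K1.f39188 IH) (Lpe (K1.f39187 IH) (Lpr_gt (K10.f39202 IH) (Lpn (LP (LK LD1_c1 LD2_c1 LD3_c42))))))
theorem f38966 : Led Lsl_dt (LP (LK LD1_c4 LD2_c22 LD3_c4)) = (LP (LK LD1_c2 LD2_c8 LD3_c30)) :=
  Lre_d IH (LK LD1_c4 LD2_c22 LD3_c4) (LK LD1_c2 LD2_c8 LD3_c30) Lrfl Lrfl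
theorem f211127 : Led Lsl_ct (LP (LK LD1_c5 LD2_c37 LD3_c9)) = (LP (LK LD1_c2 LD2_c44 LD3_c29)) :=
  Lre_c IH (LK LD1_c5 LD2_c37 LD3_c9) (LK LD1_c2 LD2_c44 LD3_c29) Lrfl Lrfl
theorem f236573 : Led Lsl_gf (LP (LK LD1_c4 LD2_c22 LD3_c4)) = (LP (LK LD1_c5 LD2_c37 LD3_c9)) :=
  Lgr Lrot144 (Lpr_dt (f38966 IH) (Lpr_gt (f38965 IH) (Lpr_dt (K1.f38930 IH) (Lpe (K1.f38938 IH) (Lpe (K1.f38964 IH) (Lpr_gf (f39203 IH) (Lpe (f39205 IH) (Lpr_gf (f236506 IH) (Lpe (f211127 IH) (Lpn (LP (LK LD1_c5 LD2_c37 LD3_c9))))))))))))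
theorem f201278 : Led Lsl_ct (LP (LK LD1_c2 LD2_c44 LD3_c29)) = (LP (LK LD1_c5 LD2_c37 LD3_c9)) :=
  Lre_c IH (LK LD1_c2 LD2_c44 LD3_c29) (LK LD1_c5 LD2_c37 LD3_c9) Lrfl Lrfl
theorem f237272 : Led Lsl_gt (LP (LK LD1_c2 LD2_c9 LD3_c4)) = (LP (LK LD1_c2 LD2_c44 LD3_c29)) :=
  Lgr Lrot9 (Lpe (f29612 IH) (Lpr_gt (f28951 IH) (Lpr_ct (K1.f28950 IH) (Lpr_gt (K9.f80916 IH) (Lpr_ct (K10.f181407 IH) (Lpe (f181782 IH) (Lpr_cf (f237250 IH) (Lpr_gf (f236573 IH) (Lpe (f201278 IH) (Lpn (LP (LK LD1_c2 LD2_c44 LD3_c29))))))))))))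
theorem f164863 : Led Lsl_ef (LP (LK LD1_c2 LD2_c44 LD3_c28)) = (LP (LK LD1_c2 LD2_c29 LD3_c55)) :=
  Lgr Lrot88 (Lpr_et (K11.f164845 IH) (Lpn (LP (LK LD1_c2 LD2_c29 LD3_c55))))
theorem f164874 : Led Lsl_bt (LP (LK LD1_c2 LD2_c44 LD3_c28)) = (LP (LK LD1_c1 LD2_c18 LD3_c36)) :=
  Lre_b IH (LK LD1_c2 LD2_c44 LD3_c28) (LK LD1_c1 LD2_c18 LD3_c36) Lrfl Lrfl
theorem f164875 : Led Lsl_bt (LP (LK LD1_c1 LD2_c11 LD3_c60)) = (LP (LK LD1_c2 LD2_c29 LD3_c55)) :=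
  Lre_b IH (LK LD1_c1 LD2_c11 LD3_c60) (LK LD1_c2 LD2_c29 LD3_c55) Lrfl Lrfl
theorem f164876 : Led Lsl_et (LP (LK LD1_c1 LD2_c18 LD3_c36)) = (LP (LK LD1_c1 LD2_c11 LD3_c60)) :=
  Lgr Lrot74 (Lpe (f164874 IH) (Lpr_ef (f164863 IH) (Lpe (f164875 IH) (Lpn (LP (LK LD1_c1 LD2_c11 LD3_c60))))))
theorem f237289 : Led Lsl_gf (LP (LK LD1_c1 LD2_c1 LD3_c43)) = (LP (LK LD1_c1 LD2_c55 LD3_c33)) :=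
  Lgr Lrot138 (Lpr_dt (f29612 IH) (Lpr_gt (f237272 IH) (Lpe (f164952 IH) (Lpr_et (f164876 IH) (Lpr_gt (K12.f164963 IH) (Lpr_ef (K12.f204941 IH) (Lpe (K12.f198010 IH) (Lpe (K12.f101042 IH) (Lpe (K9.f100971 IH) (Lpr_et (K9.f100966 IH) (Lpn (LP (LK LD1_c1 LD2_c55 LD3_c33)))))))))))))
theorem f39431 : Led Lsl_gt (LP (LK LD1_c0 LD2_c28 LD3_c10)) = (LP (LK LD1_c0 LD2_c12 LD3_c26)) :=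
  Lre_g IH (LK LD1_c0 LD2_c28 LD3_c10) (LK LD1_c0 LD2_c12 LD3_c26) Lrfl Lrfl
theorem f237293 : Led Lsl_bt (LP (LK LD1_c0 LD2_c55 LD3_c18)) = (LP (LK LD1_c0 LD2_c28 LD3_c10)) :=
  Lgr Lrot130 (Lpr_ct (f29605 IH) (Lpr_gf (f237289 IH) (Lpe (K1.f38967 IH) (Lpr_bt (K9.f39208 IH) (Lpr_gf (K9.f175275 IH) (Lpe (K12.f172849 IH) (Lpe (f175281 IH) (Lpe (K10.f39202 IH) (Lpe (K1.f29621 IH) (Lpe (f39431 IH) (Lpn (LP (LK LD1_c0 LD2_c28 LD3_c10)))))))))))))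
theorem f237318 : Led Lsl_gt (LP (LK LD1_c0 LD2_c54 LD3_c30)) = (LP (LK LD1_c0 LD2_c28 LD3_c10)) :=
  Lgr Lrot164 (Lpe (K9.f39232 IH) (Lpr_ct (K9.f40867 IH) (Lpr_gf (K9.f168826 IH) (Lpe (K9.f29625 IH) (Lpe (K9.f20212 IH) (Lpe (f29622 IH) (Lpr_ct (K1.f29621 IH) (Lpe (f28951 IH) (Lpe (f29605 IH) (Lpr_bt (f237293 IH) (Lpn (LP (LK LD1_c0 LD2_c28 LD3_c10)))))))))))))
theorem f164993 : Led Lsl_bt (LP (LK LD1_c0 LD2_c12 LD3_c49)) = (LP (LK LD1_c0 LD2_c28 LD3_c60)) :=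
  Lre_b IH (LK LD1_c0 LD2_c12 LD3_c49) (LK LD1_c0 LD2_c28 LD3_c60) Lrfl Lrfl
theorem f229314 : Led Lsl_ct (LP (LK LD1_c0 LD2_c28 LD3_c10)) = (LP (LK LD1_c1 LD2_c1 LD3_c40)) :=
  Lre_c IH (LK LD1_c0 LD2_c28 LD3_c10) (LK LD1_c1 LD2_c1 LD3_c40) Lrfl Lrfl
theorem f173280 : Led Lsl_dt (LP (LK LD1_c2 LD2_c8 LD3_c43)) = (LP (LK LD1_c1 LD2_c1 LD3_c30)) :=
  Lre_d IH (LK LD1_c2 LD2_c8 LD3_c43) (LK LD1_c1 LD2_c1 LD3_c30) Lrfl Lrfl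
theorem f173271 : Led Lsl_ct (LP (LK LD1_c1 LD2_c1 LD3_c30)) = (LP (LK LD1_c0 LD2_c28 LD3_c4)) :=
  Lre_c IH (LK LD1_c1 LD2_c1 LD3_c30) (LK LD1_c0 LD2_c28 LD3_c4) Lrfl Lrfl
theorem f229315 : Led Lsl_gt (LP (LK LD1_c1 LD2_c1 LD3_c40)) = (LP (LK LD1_c0 LD2_c55 LD3_c10)) :=
  Lgr Lrot94 (Lpe (f229314 IH) (Lpr_gt (f39431 IH) (Lpr_dt (K1.f28952 IH) (Lpr_gt (K9.f27910 IH) (Lpr_dt (K9.f27911 IH) (Lpe (f173271 IH) (Lpe (f173280 IH) (Lpr_gf (K12.f229289 IH) (Lpe (K1.f6922 IH) (Lpn (LP (LK LD1_c0 LD2_c55 LD3_c10))))))))))))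
theorem f237322 : Led Lsl_gf (LP (LK LD1_c0 LD2_c28 LD3_c60)) = (LP (LK LD1_c0 LD2_c31 LD3_c43)) :=
  Lgr Lrot124 (Lpe (f164993 IH) (Lpr_ct (K9.f29625 IH) (Lpe (K9.f168826 IH) (Lpe (K9.f40867 IH) (Lpr_bt (K9.f39232 IH) (Lpr_gt (f237318 IH) (Lpr_ct (f229314 IH) (Lpr_gt (f229315 IH) (Lpe (K1.f2978 IH) (Lpe (K0.f2960 IH) (Lpn (LP (LK LD1_c0 LD2_c31 LD3_c43)))))))))))))
theorem f193678 : Led Lsl_dt (LP (LK LD1_c0 LD2_c28 LD3_c60)) = (LP (LK LD1_c1 LD2_c3 LD3_c28)) :=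
  Lre_d IH (LK LD1_c0 LD2_c28 LD3_c60) (LK LD1_c1 LD2_c3 LD3_c28) Lrfl Lrfl
theorem f171761 : Led Lsl_bt (LP (LK LD1_c0 LD2_c3 LD3_c17)) = (LP (LK LD1_c0 LD2_c7 LD3_c17)) :=
  Lre_b IH (LK LD1_c0 LD2_c3 LD3_c17) (LK LD1_c0 LD2_c7 LD3_c17) Lrfl Lrfl
theorem f193281 : Led Lsl_gt (LP (LK LD1_c0 LD2_c7 LD3_c17)) = (LP (LK LD1_c0 LD2_c14 LD3_c5)) :=
  Lgr Lrot164 (Lpe (f171761 IH) (Lpr_ct (K9.f165208 IH) (Lpr_gf (K9.f171755 IH) (Lpe (K1.f40794 IH) (Lpe (K9.f40816 IH) (Lpr_bf (K12.f173212 IH) (Lpr_ct (K12.f167781 IH) (Lpr_gf (K10.f193264 IH) (Lpr_cf (K1.f6920 IH) (Lpe (K0.f2979 IH) (Lpn (LP (LK LD1_c0 LD2_c14 LD3_c5)))))))))))))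
theorem f2916 : Led Lsl_dt (LP (LK LD1_c0 LD2_c14 LD3_c8)) = (LP (LK LD1_c0 LD2_c31 LD3_c47)) :=
  Lre_d IH (LK LD1_c0 LD2_c14 LD3_c8) (LK LD1_c0 LD2_c31 LD3_c47) Lrfl Lrfl
theorem f237382 : Led Lsl_cf (LP (LK LD1_c1 LD2_c3 LD3_c28)) = (LP (LK LD1_c0 LD2_c31 LD3_c47)) :=
  Lgr Lrot14 (Lpe (f193678 IH) (Lpr_gf (f237322 IH) (Lpe (K1.f2988 IH) (Lpe (f193281 IH) (Lpr_ct (K10.f197400 IH) (Lpr_gt (K10.f2913 IH) (Lpe (K0.f2909 IH) (Lpr_gt (K11.f2915 IH) (Lpr_dt (f2916 IH) (Lpn (LP (LK LD1_c0 LD2_c31 LD3_c47))))))))))))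
theorem f193677 : Led Lsl_dt (LP (LK LD1_c1 LD2_c3 LD3_c28)) = (LP (LK LD1_c0 LD2_c28 LD3_c60)) :=
  Lre_d IH (LK LD1_c1 LD2_c3 LD3_c28) (LK LD1_c0 LD2_c28 LD3_c60) Lrfl Lrfl
theorem f28955 : Led Lsl_bt (LP (LK LD1_c0 LD2_c12 LD3_c42)) = (LP (LK LD1_c0 LD2_c5 LD3_c48)) :=
  Lre_b IH (LK LD1_c0 LD2_c12 LD3_c42) (LK LD1_c0 LD2_c5 LD3_c48) Lrfl Lrfl
theorem f197398 : Led Lsl_ct (LP (LK LD1_c0 LD2_c12 LD3_c42)) = (LP (LK LD1_c0 LD2_c14 LD3_c8)) :=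
  Lgr Lrot64 (Lpr_bt (f28955 IH) (Lpe (K9.f6854 IH) (Lpe (K9.f28954 IH) (Lpr_ct (K1.f28953 IH) (Lpe (K9.f28820 IH) (Lpr_cf (K9.f28931 IH) (Lpe (K10.f29603 IH) (Lpe (K10.f197380 IH) (Lpr_ct (K10.f197387 IH) (Lpr_gf (K11.f3055 IH) (Lpn (LP (LK LD1_c0 LD2_c14 LD3_c8)))))))))))))
theorem f20698 : Led Lsl_ct (LP (LK LD1_c1 LD2_c3 LD3_c4)) = (LP (LK LD1_c0 LD2_c28 LD3_c45)) :=
  Lre_c IH (LK LD1_c1 LD2_c3 LD3_c4) (LK LD1_c0 LD2_c28 LD3_c45) Lrfl Lrfl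
theorem f193681 : Led Lsl_ct (LP (LK LD1_c0 LD2_c36 LD3_c49)) = (LP (LK LD1_c0 LD2_c16 LD3_c26)) :=
  Lre_c IH (LK LD1_c0 LD2_c36 LD3_c49) (LK LD1_c0 LD2_c16 LD3_c26) Lrfl Lrfl
theorem f20755 : Led Lsl_dt (LP (LK LD1_c0 LD2_c12 LD3_c42)) = (LP (LK LD1_c0 LD2_c28 LD3_c45)) :=
  Lre_d IH (LK LD1_c0 LD2_c12 LD3_c42) (LK LD1_c0 LD2_c28 LD3_c45) Lrfl Lrfl
theorem f169332 : Led Lsl_ct (LP (LK LD1_c0 LD2_c28 LD3_c45)) = (LP (LK LD1_c1 LD2_c3 LD3_c4)) :=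
  Lre_c IH (LK LD1_c0 LD2_c28 LD3_c45) (LK LD1_c1 LD2_c3 LD3_c4) Lrfl Lrfl
theorem f196269 : Led Lsl_ct (LP (LK LD1_c1 LD2_c18 LD3_c61)) = (LP (LK LD1_c0 LD2_c36 LD3_c25)) :=
  Lre_c IH (LK LD1_c1 LD2_c18 LD3_c61) (LK LD1_c0 LD2_c36 LD3_c25) Lrfl Lrfl
theorem f197389 : Led Lsl_dt (LP (LK LD1_c1 LD2_c9 LD3_c12)) = (LP (LK LD1_c1 LD2_c18 LD3_c61)) :=
  Lgr Lrot32 (Lpe (K8.f2966 IH) (Lpe (K1.f2988 IH) (Lpe (K10.f196290 IH) (Lpe (K10.f197376 IH) (Lpr_cf (K10.f197385 IH) (Lpe (K0.f2907 IH) (Lpe (K10.f197387 IH) (Lpe (K10.f193449 IH) (Lpe (f196269 IH) (Lpn (LP (LK LD1_c1 LD2_c18 LD3_c61))))))))))))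
theorem f197414 : Led Lsl_df (LP (LK LD1_c1 LD2_c3 LD3_c4)) = (LP (LK LD1_c0 LD2_c36 LD3_c49)) :=
  Lgr Lrot84 (Lpe (f169332 IH) (Lpe (f20755 IH) (Lpe (K10.f197360 IH) (Lpe (K0.f2972 IH) (Lpr_gf (K10.f193679 IH) (Lpe (f193681 IH) (Lpr_gt (K10.f197410 IH) (Lpr_dt (f197389 IH) (Lpe (K10.f197412 IH) (Lpn (LP (LK LD1_c0 LD2_c36 LD3_c49))))))))))))
theorem f3082 : Led Lsl_dt (LP (LK LD1_c0 LD2_c14 LD3_c9)) = (LP (LK LD1_c0 LD2_c31 LD3_c49)) :=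
  Lre_d IH (LK LD1_c0 LD2_c14 LD3_c9) (LK LD1_c0 LD2_c31 LD3_c49) Lrfl Lrfl
theorem f197406 : Led Lsl_ct (LP (LK LD1_c0 LD2_c36 LD3_c28)) = (LP (LK LD1_c0 LD2_c16 LD3_c15)) :=
  Lre_c IH (LK LD1_c0 LD2_c36 LD3_c28) (LK LD1_c0 LD2_c16 LD3_c15) Lrfl Lrfl
theorem f237399 : Led Lsl_dt (LP (LK LD1_c1 LD2_c3 LD3_c27)) = (LP (LK LD1_c0 LD2_c36 LD3_c28)) :=
  Lgr Lrot173 (Lpe (K10.f29624 IH) (Lpe (f193677 IH) (Lpr_cf (f237382 IH) (Lpe (f2916 IH) (Lpe (f197398 IH) (Lpe (K10.f20742 IH) (Lpe (f20698 IH) (Lpr_df (f197414 IH) (Lpe (K10.f101336 IH) (Lpe (K10.f193682 IH) (Lpe (K11.f200671 IH) (Lpe (f3082 IH) (Lpe (K10.f197400 IH) (Lpe (K10.f193448 IH) (Lpe (f197406 IH) (Lpn (LP (LK LD1_c0 LD2_c36 LD3_c28))))))))))))))))))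
theorem f197792 : Led Lsl_dt (LP (LK LD1_c1 LD2_c3 LD3_c4)) = (LP (LK LD1_c0 LD2_c36 LD3_c49)) :=
  Lgr Lrot42 (Lpr_df (f197414 IH) (Lpn (LP (LK LD1_c0 LD2_c36 LD3_c49))))
theorem f165216 : Led Lsl_ct (LP (LK LD1_c0 LD2_c16 LD3_c15)) = (LP (LK LD1_c0 LD2_c36 LD3_c28)) :=
  Lre_c IH (LK LD1_c0 LD2_c16 LD3_c15) (LK LD1_c0 LD2_c36 LD3_c28) Lrfl Lrfl
theorem f197395 : Led Lsl_gt (LP (LK LD1_c0 LD2_c36 LD3_c27)) = (LP (LK LD1_c0 LD2_c16 LD3_c15)) :=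
  Lre_g IH (LK LD1_c0 LD2_c36 LD3_c27) (LK LD1_c0 LD2_c16 LD3_c15) Lrfl Lrfl
theorem f197396 : Led Lsl_ct (LP (LK LD1_c1 LD2_c19 LD3_c2)) = (LP (LK LD1_c0 LD2_c36 LD3_c27)) :=
  Lre_c IH (LK LD1_c1 LD2_c19 LD3_c2) (LK LD1_c0 LD2_c36 LD3_c27) Lrfl Lrfl
theorem f237403 : Led Lsl_gt (LP (LK LD1_c1 LD2_c3 LD3_c4)) = (LP (LK LD1_c1 LD2_c19 LD3_c2)) :=
  Lgr Lrot146 (Lpr_dt (f197792 IH) (Lpr_gt (K10.f197410 IH) (Lpr_ct (K10.f3011 IH) (Lpe (f237322 IH) (Lpr_ct (K10.f29624 IH) (Lpr_dt (f237399 IH) (Lpe (f165216 IH) (Lpe (f197395 IH) (Lpe (f197396 IH) (Lpn (LP (LK LD1_c1 LD2_c19 LD3_c2))))))))))))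
theorem f20697 : Led Lsl_bt (LP (LK LD1_c0 LD2_c28 LD3_c45)) = (LP (LK LD1_c0 LD2_c12 LD3_c44)) :=
  Lre_b IH (LK LD1_c0 LD2_c28 LD3_c45) (LK LD1_c0 LD2_c12 LD3_c44) Lrfl Lrfl
theorem f197397 : Led Lsl_ct (LP (LK LD1_c0 LD2_c36 LD3_c27)) = (LP (LK LD1_c1 LD2_c19 LD3_c2)) :=
  Lre_c IH (LK LD1_c0 LD2_c36 LD3_c27) (LK LD1_c1 LD2_c19 LD3_c2) Lrfl Lrfl
theorem f173282 : Led Lsl_gt (LP (LK LD1_c2 LD2_c8 LD3_c41)) = (LP (LK LD1_c1 LD2_c1 LD3_c30)) :=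
  Lre_g IH (LK LD1_c2 LD2_c8 LD3_c41) (LK LD1_c1 LD2_c1 LD3_c30) Lrfl Lrfl
theorem f172035 : Led Lsl_bt (LP (LK LD1_c0 LD2_c7 LD3_c19)) = (LP (LK LD1_c0 LD2_c16 LD3_c15)) :=
  Lre_b IH (LK LD1_c0 LD2_c7 LD3_c19) (LK LD1_c0 LD2_c16 LD3_c15) Lrfl Lrfl
theorem f172036 : Led Lsl_gt (LP (LK LD1_c0 LD2_c16 LD3_c15)) = (LP (LK LD1_c0 LD2_c36 LD3_c26)) :=
  Lre_g IH (LK LD1_c0 LD2_c16 LD3_c15) (LK LD1_c0 LD2_c36 LD3_c26) Lrfl Lrfl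
theorem f172038 : Led Lsl_bt (LP (LK LD1_c1 LD2_c19 LD3_c1)) = (LP (LK LD1_c0 LD2_c36 LD3_c26)) :=
  Lre_b IH (LK LD1_c1 LD2_c19 LD3_c1) (LK LD1_c0 LD2_c36 LD3_c26) Lrfl Lrfl
theorem f173283 : Led Lsl_ct (LP (LK LD1_c1 LD2_c19 LD3_c1)) = (LP (LK LD1_c2 LD2_c8 LD3_c41)) :=
  Lgr Lrot64 (Lpr_bt (f172038 IH) (Lpe (f172036 IH) (Lpe (f172035 IH) (Lpr_ct (K12.f165209 IH) (Lpr_gf (K9.f171864 IH) (Lpr_cf (K9.f165077 IH) (Lpe (K9.f40819 IH) (Lpr_bf (K9.f173217 IH) (Lpr_ct (K12.f173281 IH) (Lpe (f173282 IH) (Lpn (LP (LK LD1_c2 LD2_c8 LD3_c41)))))))))))))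
theorem f173286 : Led Lsl_cf (LP (LK LD1_c1 LD2_c19 LD3_c1)) = (LP (LK LD1_c2 LD2_c8 LD3_c41)) :=
  Lgr Lrot11 (Lpr_ct (f173283 IH) (Lpn (LP (LK LD1_c2 LD2_c8 LD3_c41))))
theorem f229291 : Led Lsl_gt (LP (LK LD1_c1 LD2_c19 LD3_c1)) = (LP (LK LD1_c0 LD2_c55 LD3_c7)) :=
  Lgr Lrot94 (Lpr_cf (f173286 IH) (Lpr_gt (f173282 IH) (Lpr_dt (K12.f173289 IH) (Lpr_gt (K12.f229287 IH) (Lpr_dt (K12.f29355 IH) (Lpe (K1.f29349 IH) (Lpe (K1.f29205 IH) (Lpr_gf (K11.f30816 IH) (Lpe (K11.f30818 IH) (Lpn (LP (LK LD1_c0 LD2_c55 LD3_c7))))))))))))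
theorem f229298 : Led Lsl_gf (LP (LK LD1_c2 LD2_c8 LD3_c41)) = (LP (LK LD1_c1 LD2_c1 LD3_c37)) :=
  Lgr Lrot147 (Lpe (f173286 IH) (Lpr_gt (f229291 IH) (Lpr_ct (K12.f2985 IH) (Lpr_df (K12.f193667 IH) (Lpr_cf (K12.f197738 IH) (Lpe (K12.f29720 IH) (Lpe (K1.f6923 IH) (Lpr_gf (K12.f224992 IH) (Lpe (K12.f180214 IH) (Lpn (LP (LK LD1_c1 LD2_c1 LD3_c37))))))))))))
theorem f211779 : Led Lsl_bt (LP (LK LD1_c0 LD2_c12 LD3_c44)) = (LP (LK LD1_c0 LD2_c28 LD3_c45)) :=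
  Lre_b IH (LK LD1_c0 LD2_c12 LD3_c44) (LK LD1_c0 LD2_c28 LD3_c45) Lrfl Lrfl
theorem f229300 : Led Lsl_gt (LP (LK LD1_c0 LD2_c36 LD3_c26)) = (LP (LK LD1_c0 LD2_c28 LD3_c45)) :=
  Lgr Lrot164 (Lpe (f172038 IH) (Lpr_ct (f173283 IH) (Lpr_gf (f229298 IH) (Lpe (K11.f180212 IH) (Lpe (K11.f180207 IH) (Lpe (K9.f180125 IH) (Lpr_ct (K9.f179869 IH) (Lpe (K12.f211771 IH) (Lpe (K12.f20694 IH) (Lpr_bt (f211779 IH) (Lpn (LP (LK LD1_c0 LD2_c28 LD3_c45)))))))))))))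
theorem f237405 : Led Lsl_bf (LP (LK LD1_c1 LD2_c10 LD3_c11)) = (LP (LK LD1_c0 LD2_c36 LD3_c27)) :=
  Lgr Lrot156 (Lpe (K12.f197259 IH) (Lpr_bf (K9.f181975 IH) (Lpr_ct (K11.f180212 IH) (Lpe (f229298 IH) (Lpe (f173283 IH) (Lpr_bt (f172038 IH) (Lpr_gt (f229300 IH) (Lpr_ct (f169332 IH) (Lpr_gt (f237403 IH) (Lpe (f197397 IH) (Lpn (LP (LK LD1_c0 LD2_c36 LD3_c27)))))))))))))
theorem f28936 : Led Lsl_ct (LP (LK LD1_c0 LD2_c55 LD3_c16)) = (LP (LK LD1_c1 LD2_c56 LD3_c58)) :=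
  Lre_c IH (LK LD1_c0 LD2_c55 LD3_c16) (LK LD1_c1 LD2_c56 LD3_c58) Lrfl Lrfl
theorem f237407 : Led Lsl_gf (LP (LK LD1_c2 LD2_c8 LD3_c40)) = (LP (LK LD1_c1 LD2_c56 LD3_c58)) :=
  Lgr Lrot129 (Lpe (K12.f181966 IH) (Lpr_bt (K12.f210341 IH) (Lpr_gt (K9.f20740 IH) (Lpe (f20697 IH) (Lpr_ct (f169332 IH) (Lpr_gt (f237403 IH) (Lpe (f197397 IH) (Lpe (f237405 IH) (Lpe (K12.f197259 IH) (Lpr_ct (f28936 IH) (Lpn (LP (LK LD1_c1 LD2_c56 LD3_c58)))))))))))))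
theorem f181965 : Led Lsl_ct (LP (LK LD1_c2 LD2_c8 LD3_c40)) = (LP (LK LD1_c1 LD2_c1 LD3_c29)) :=
  Lre_c IH (LK LD1_c2 LD2_c8 LD3_c40) (LK LD1_c1 LD2_c1 LD3_c29) Lrfl Lrfl
theorem f80911 : Led Lsl_et (LP (LK LD1_c1 LD2_c2 LD3_c7)) = (LP (LK LD1_c0 LD2_c28 LD3_c21)) :=
  Lre_e IH (LK LD1_c1 LD2_c2 LD3_c7) (LK LD1_c0 LD2_c28 LD3_c21) Lrfl Lrfl
theorem f39191 : Led Lsl_gt (LP (LK LD1_c2 LD2_c9 LD3_c12)) = (LP (LK LD1_c1 LD2_c1 LD3_c45)) :=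
  Lre_g IH (LK LD1_c2 LD2_c9 LD3_c12) (LK LD1_c1 LD2_c1 LD3_c45) Lrfl Lrfl
theorem f28942 : Led Lsl_ct (LP (LK LD1_c1 LD2_c56 LD3_c58)) = (LP (LK LD1_c0 LD2_c55 LD3_c16)) :=
  Lre_c IH (LK LD1_c1 LD2_c56 LD3_c58) (LK LD1_c0 LD2_c55 LD3_c16) Lrfl Lrfl
theorem f181967 : Led Lsl_gf (LP (LK LD1_c1 LD2_c56 LD3_c58)) = (LP (LK LD1_c2 LD2_c7 LD3_c4)) :=
  Lgr Lrot104 (Lpr_ct (f28942 IH) (Lpe (K11.f28935 IH) (Lpe (K9.f28928 IH) (Lpr_gf (K9.f43115 IH) (Lpe (K1.f38942 IH) (Lpr_gf (K9.f181960 IH) (Lpe (K10.f35481 IH) (Lpe (K9.f180108 IH) (Lpr_ct (K11.f179877 IH) (Lpn (LP (LK LD1_c2 LD2_c7 LD3_c4))))))))))))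
theorem f201460 : Led Lsl_df (LP (LK LD1_c2 LD2_c9 LD3_c12)) = (LP (LK LD1_c1 LD2_c56 LD3_c58)) :=
  Lgr Lrot135 (Lpr_gt (f39191 IH) (Lpe (K1.f29616 IH) (Lpr_et (K12.f37871 IH) (Lpr_gt (K2.f20309 IH) (Lpe (f80911 IH) (Lpr_dt (K11.f80912 IH) (Lpr_gt (K11.f201435 IH) (Lpe (K11.f180141 IH) (Lpe (K11.f180127 IH) (Lpe (f181967 IH) (Lpn (LP (LK LD1_c1 LD2_c56 LD3_c58)))))))))))))
theorem f201465 : Led Lsl_dt (LP (LK LD1_c2 LD2_c9 LD3_c12)) = (LP (LK LD1_c1 LD2_c56 LD3_c58)) :=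
  Lgr Lrot42 (Lpr_df (f201460 IH) (Lpn (LP (LK LD1_c1 LD2_c56 LD3_c58))))
theorem f38968 : Led Lsl_gt (LP (LK LD1_c4 LD2_c22 LD3_c12)) = (LP (LK LD1_c2 LD2_c8 LD3_c32)) :=
  Lre_g IH (LK LD1_c4 LD2_c22 LD3_c12) (LK LD1_c2 LD2_c8 LD3_c32) Lrfl Lrfl
theorem f39296 : Led Lsl_gt (LP (LK LD1_c2 LD2_c9 LD3_c13)) = (LP (LK LD1_c4 LD2_c22 LD3_c12)) :=
  Lgr Lrot5 (Lpe (K1.f39266 IH) (Lpr_at (K1.f39287 IH) (Lpe (f38968 IH) (Lpn (LP (LK LD1_c4 LD2_c22 LD3_c12))))))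
theorem f237409 : Led Lsl_cf (LP (LK LD1_c2 LD2_c8 LD3_c43)) = (LP (LK LD1_c4 LD2_c22 LD3_c12)) :=
  Lgr Lrot99 (Lpe (K12.f173289 IH) (Lpe (K12.f173281 IH) (Lpe (K12.f173342 IH) (Lpe (f181965 IH) (Lpr_gf (f237407 IH) (Lpe (f201465 IH) (Lpr_gt (f39191 IH) (Lpr_ct (K1.f39004 IH) (Lpr_gt (f39296 IH) (Lpn (LP (LK LD1_c4 LD2_c22 LD3_c12))))))))))))
theorem f38946 : Led Lsl_dt (LP (LK LD1_c3 LD2_c57 LD3_c9)) = (LP (LK LD1_c2 LD2_c9 LD3_c13)) :=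
  Lgr Lrot173 (Lpe (K1.f38944 IH) (Lpe (K1.f38943 IH) (Lpe (K1.f38942 IH) (Lpe (K1.f38941 IH) (Lpe (K1.f38940 IH) (Lpe (K1.f38918 IH) (Lpr_cf (K1.f38931 IH) (Lpe (K1.f38930 IH) (Lpe (K1.f38929 IH) (Lpe (K1.f28838 IH) (Lpe (K1.f28953 IH) (Lpe (K1.f28952 IH) (Lpe (K1.f28950 IH) (Lpe (K1.f38928 IH) (Lpe (K1.f38945 IH) (Lpn (LP (LK LD1_c2 LD2_c9 LD3_c13))))))))))))))))))
theorem f237467 : Led Lsl_cf (LP (LK LD1_c1 LD2_c9 LD3_c19)) = (LP (LK LD1_c2 LD2_c8 LD3_c30)) :=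
  Lgr Lrot169 (Lpr_gt (K12.f2451 IH) (Lpr_ct (K1.f2441 IH) (Lpe (K1.f2756 IH) (Lpr_cf (K1.f29704 IH) (Lpe (K12.f229287 IH) (Lpr_cf (f237409 IH) (Lpe (f39296 IH) (Lpe (f38946 IH) (Lpr_gt (f39038 IH) (Lpn (LP (LK LD1_c2 LD2_c8 LD3_c30))))))))))))
theorem f229257 : Led Lsl_df (LP (LK LD1_c1 LD2_c19 LD3_c10)) = (LP (LK LD1_c1 LD2_c9 LD3_c19)) :=
  Lgr Lrot38 (Lpr_dt (K12.f229253 IH) (Lpn (LP (LK LD1_c1 LD2_c9 LD3_c19))))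
theorem f60718 : Led Lsl_et (LP (LK LD1_c0 LD2_c56 LD3_c36)) = (LP (LK LD1_c0 LD2_c25 LD3_c39)) :=
  Lre_e IH (LK LD1_c0 LD2_c56 LD3_c36) (LK LD1_c0 LD2_c25 LD3_c39) Lrfl Lrfl
theorem f229245 : Led Lsl_ct (LP (LK LD1_c1 LD2_c19 LD3_c10)) = (LP (LK LD1_c0 LD2_c56 LD3_c36)) :=
  Lgr Lrot15 (Lpr_ef (K12.f229240 IH) (Lpe (K10.f192975 IH) (Lpe (f60718 IH) (Lpn (LP (LK LD1_c0 LD2_c56 LD3_c36))))))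
theorem f27913 : Led Lsl_et (LP (LK LD1_c0 LD2_c28 LD3_c5)) = (LP (LK LD1_c0 LD2_c12 LD3_c24)) :=
  Lre_e IH (LK LD1_c0 LD2_c28 LD3_c5) (LK LD1_c0 LD2_c12 LD3_c24) Lrfl Lrfl
theorem f237327 : Led Lsl_dt (LP (LK LD1_c0 LD2_c56 LD3_c36)) = (LP (LK LD1_c0 LD2_c28 LD3_c10)) :=
  Lgr Lrot56 (Lpr_et (f60718 IH) (Lpe (K10.f60715 IH) (Lpr_ef (K1.f45990 IH) (Lpr_dt (K1.f27863 IH) (Lpr_gt (K9.f47077 IH) (Lpr_df (K10.f193376 IH) (Lpr_et (f27913 IH) (Lpe (K9.f181960 IH) (Lpr_dt (K1.f39177 IH) (Lpr_gt (f237318 IH) (Lpn (LP (LK LD1_c0 LD2_c28 LD3_c10)))))))))))))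
theorem f229865 : Led Lsl_dt (LP (LK LD1_c1 LD2_c1 LD3_c40)) = (LP (LK LD1_c2 LD2_c8 LD3_c59)) :=
  Lre_d IH (LK LD1_c1 LD2_c1 LD3_c40) (LK LD1_c2 LD2_c8 LD3_c59) Lrfl Lrfl
theorem f166423 : Led Lsl_ct (LP (LK LD1_c0 LD2_c58 LD3_c35)) = (LP (LK LD1_c2 LD2_c3 LD3_c16)) :=
  Lre_c IH (LK LD1_c0 LD2_c58 LD3_c35) (LK LD1_c2 LD2_c3 LD3_c16) Lrfl Lrfl
theorem f166424 : Led Lsl_gt (LP (LK LD1_c2 LD2_c3 LD3_c16)) = (LP (LK LD1_c0 LD2_c59 LD3_c20)) :=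
  Lgr Lrot94 (Lpe (f166423 IH) (Lpr_gt (K12.f53248 IH) (Lpr_dt (K9.f53247 IH) (Lpr_gt (K9.f166417 IH) (Lpr_dt (K0.f27888 IH) (Lpe (K10.f27887 IH) (Lpe (f27885 IH) (Lpr_gf (K12.f27883 IH) (Lpe (K12.f8102 IH) (Lpn (LP (LK LD1_c0 LD2_c59 LD3_c20))))))))))))
theorem f200409 : Led Lsl_et (LP (LK LD1_c1 LD2_c19 LD3_c9)) = (LP (LK LD1_c2 LD2_c3 LD3_c16)) :=
  Lgr Lrot121 (Lpr_dt (K12.f200399 IH) (Lpe (K12.f2232 IH) (Lpe (K1.f2791 IH) (Lpr_et (K0.f2427 IH) (Lpe (K0.f27815 IH) (Lpe (K12.f27881 IH) (Lpr_dt (K0.f27882 IH) (Lpr_gf (K12.f27883 IH) (Lpe (K12.f8102 IH) (Lpe (f166424 IH) (Lpn (LP (LK LD1_c2 LD2_c3 LD3_c16)))))))))))))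
theorem f200560 : Led Lsl_ef (LP (LK LD1_c1 LD2_c19 LD3_c9)) = (LP (LK LD1_c2 LD2_c3 LD3_c16)) :=
  Lgr Lrot88 (Lpr_et (f200409 IH) (Lpn (LP (LK LD1_c2 LD2_c3 LD3_c16))))
theorem f227283 : Led Lsl_cf (LP (LK LD1_c0 LD2_c59 LD3_c26)) = (LP (LK LD1_c1 LD2_c19 LD3_c9)) :=
  Lgr Lrot39 (Lpr_et (K12.f227279 IH) (Lpr_ct (f166423 IH) (Lpe (f200560 IH) (Lpn (LP (LK LD1_c1 LD2_c19 LD3_c9))))))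
theorem f39000 : Led Lsl_gt (LP (LK LD1_c1 LD2_c1 LD3_c24)) = (LP (LK LD1_c2 LD2_c8 LD3_c29)) :=
  Lre_g IH (LK LD1_c1 LD2_c1 LD3_c24) (LK LD1_c2 LD2_c8 LD3_c29) Lrfl Lrfl
theorem f224998 : Led Lsl_cf (LP (LK LD1_c1 LD2_c9 LD3_c18)) = (LP (LK LD1_c2 LD2_c8 LD3_c29)) :=
  Lgr Lrot169 (Lpe (K12.f30813 IH) (Lpr_ct (K12.f29678 IH) (Lpe (K1.f29681 IH) (Lpe (K1.f6923 IH) (Lpr_gf (K12.f224992 IH) (Lpr_cf (f211160 IH) (Lpe (f38963 IH) (Lpe (K1.f38930 IH) (Lpr_gt (f39000 IH) (Lpn (LP (LK LD1_c2 LD2_c8 LD3_c29))))))))))))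
theorem f39003 : Led Lsl_dt (LP (LK LD1_c4 LD2_c22 LD3_c1)) = (LP (LK LD1_c2 LD2_c8 LD3_c29)) :=
  Lre_d IH (LK LD1_c4 LD2_c22 LD3_c1) (LK LD1_c2 LD2_c8 LD3_c29) Lrfl Lrfl
theorem f237477 : Led Lsl_ct (LP (LK LD1_c2 LD2_c8 LD3_c59)) = (LP (LK LD1_c4 LD2_c22 LD3_c1)) :=
  Lgr Lrot176 (Lpe (f229865 IH) (Lpe (f229314 IH) (Lpe (f237327 IH) (Lpe (f229245 IH) (Lpr_df (f229257 IH) (Lpr_cf (f237467 IH) (Lpe (f38966 IH) (Lpe (f224996 IH) (Lpe (f193690 IH) (Lpe (K10.f181407 IH) (Lpe (K12.f227214 IH) (Lpr_cf (f227283 IH) (Lpr_df (f200403 IH) (Lpr_cf (f224998 IH) (Lpe (f39003 IH) (Lpn (LP (LK LD1_c4 LD2_c22 LD3_c1))))))))))))))))))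
theorem f237618 : Led Lsl_cf (LP (LK LD1_c2 LD2_c8 LD3_c59)) = (LP (LK LD1_c4 LD2_c22 LD3_c1)) :=
  Lgr Lrot11 (Lpr_ct (f237477 IH) (Lpn (LP (LK LD1_c4 LD2_c22 LD3_c1))))
theorem f229866 : Led Lsl_dt (LP (LK LD1_c2 LD2_c8 LD3_c59)) = (LP (LK LD1_c1 LD2_c1 LD3_c40)) :=
  Lre_d IH (LK LD1_c2 LD2_c8 LD3_c59) (LK LD1_c1 LD2_c1 LD3_c40) Lrfl Lrfl
theorem f39207 : Led Lsl_dt (LP (LK LD1_c1 LD2_c1 LD3_c42)) = (LP (LK LD1_c2 LD2_c9 LD3_c1)) :=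
  Lre_d IH (LK LD1_c1 LD2_c1 LD3_c42) (LK LD1_c2 LD2_c9 LD3_c1) Lrfl Lrfl
theorem f39206 : Led Lsl_gt (LP (LK LD1_c2 LD2_c9 LD3_c1)) = (LP (LK LD1_c4 LD2_c23 LD3_c8)) :=
  Lre_g IH (LK LD1_c2 LD2_c9 LD3_c1) (LK LD1_c4 LD2_c23 LD3_c8) Lrfl Lrfl
theorem f39182 : Led Lsl_ft (LP (LK LD1_c3 LD2_c57 LD3_c8)) = (LP (LK LD1_c2 LD2_c9 LD3_c13)) :=
  Lgr Lrot54 (Lpe (K1.f39181 IH) (Lpe (K1.f38997 IH) (Lpr_df (K1.f39171 IH) (Lpn (LP (LK LD1_c2 LD2_c9 LD3_c13))))))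
theorem f38809 : Led Lsl_af (LP (LK LD1_c3 LD2_c57 LD3_c34)) = (LP (LK LD1_c2 LD2_c9 LD3_c13)) :=
  Lgr Lrot50 (Lpr_et (K1.f38807 IH) (Lpr_at (K1.f38798 IH) (Lpr_et (K1.f38808 IH) (Lpn (LP (LK LD1_c2 LD2_c9 LD3_c13))))))
theorem f236493 : Led Lsl_gf (LP (LK LD1_c3 LD2_c57 LD3_c34)) = (LP (LK LD1_c4 LD2_c56 LD3_c55)) :=
  Lgr Lrot76 (Lpr_af (f38809 IH) (Lpe (f39182 IH) (Lpr_gt (f236488 IH) (Lpn (LP (LK LD1_c4 LD2_c56 LD3_c55))))))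
theorem f236993 : Led Lsl_gt (LP (LK LD1_c3 LD2_c57 LD3_c14)) = (LP (LK LD1_c4 LD2_c3 LD3_c52)) :=
  Lgr Lrot9 (Lpr_df (f236495 IH) (Lpe (f236493 IH) (Lpr_ct (K12.f39257 IH) (Lpr_gt (K12.f37779 IH) (Lpr_ct (K12.f197721 IH) (Lpe (K12.f224879 IH) (Lpe (K12.f42883 IH) (Lpr_gf (f236892 IH) (Lpe (f201276 IH) (Lpn (LP (LK LD1_c4 LD2_c3 LD3_c52))))))))))))
theorem f39001 : Led Lsl_gf (LP (LK LD1_c3 LD2_c57 LD3_c9)) = (LP (LK LD1_c2 LD2_c8 LD3_c29)) :=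
  Lgr Lrot76 (Lpr_af (K1.f38961 IH) (Lpe (K1.f38960 IH) (Lpr_gt (f39000 IH) (Lpn (LP (LK LD1_c2 LD2_c8 LD3_c29))))))
theorem f193274 : Led Lsl_cf (LP (LK LD1_c2 LD2_c8 LD3_c29)) = (LP (LK LD1_c1 LD2_c9 LD3_c18)) :=
  Lgr Lrot169 (Lpe (f39001 IH) (Lpr_ct (K1.f38987 IH) (Lpe (K1.f38943 IH) (Lpe (K1.f38942 IH) (Lpr_gf (K9.f181960 IH) (Lpe (K12.f173254 IH) (Lpr_gf (K10.f193264 IH) (Lpe (K1.f2434 IH) (Lpr_gt (K12.f2232 IH) (Lpn (LP (LK LD1_c1 LD2_c9 LD3_c18))))))))))))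
theorem f229895 : Led Lsl_dt (LP (LK LD1_c4 LD2_c3 LD3_c52)) = (LP (LK LD1_c8 LD2_c8 LD3_c9)) :=
  Lre_d IH (LK LD1_c4 LD2_c3 LD3_c52) (LK LD1_c8 LD2_c8 LD3_c9) Lrfl Lrfl
theorem f237206 : Led Lsl_gf (LP (LK LD1_c4 LD2_c22 LD3_c1)) = (LP (LK LD1_c8 LD2_c8 LD3_c9)) :=
  Lgr Lrot143 (Lpr_dt (f39003 IH) (Lpr_cf (f193274 IH) (Lpe (K12.f200399 IH) (Lpe (K12.f179104 IH) (Lpe (K11.f196957 IH) (Lpe (K11.f196952 IH) (Lpe (f196325 IH) (Lpr_gt (f236993 IH) (Lpr_dt (f229895 IH) (Lpn (LP (LK LD1_c8 LD2_c8 LD3_c9))))))))))))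
theorem f237694 : Led Lsl_ct (LP (LK LD1_c4 LD2_c23 LD3_c8)) = (LP (LK LD1_c8 LD2_c8 LD3_c9)) :=
  Lgr Lrot152 (Lpe (f39206 IH) (Lpe (f39207 IH) (Lpe (f39203 IH) (Lpr_ct (K1.f38940 IH) (Lpr_gt (f237318 IH) (Lpr_ct (f229314 IH) (Lpe (f229866 IH) (Lpr_cf (f237618 IH) (Lpr_gf (f237206 IH) (Lpn (LP (LK LD1_c8 LD2_c8 LD3_c9))))))))))))
theorem f29618 : Led Lsl_dt (LP (LK LD1_c2 LD2_c9 LD3_c4)) = (LP (LK LD1_c1 LD2_c1 LD3_c43)) :=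
  Lre_d IH (LK LD1_c2 LD2_c9 LD3_c4) (LK LD1_c1 LD2_c1 LD3_c43) Lrfl Lrfl
theorem f237705 : Led Lsl_gt (LP (LK LD1_c4 LD2_c23 LD3_c8)) = (LP (LK LD1_c2 LD2_c9 LD3_c4)) :=
  Lgr Lrot180 (Lpr_ct (f237694 IH) (Lpe (f237206 IH) (Lpr_dt (f39003 IH) (Lpe (f39001 IH) (Lpr_dt (f38946 IH) (Lpr_ct (K1.f38945 IH) (Lpe (K1.f29616 IH) (Lpe (f28951 IH) (Lpe (f29618 IH) (Lpn (LP (LK LD1_c2 LD2_c9 LD3_c4))))))))))))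
theorem f237702 : Led Lsl_cf (LP (LK LD1_c4 LD2_c23 LD3_c8)) = (LP (LK LD1_c8 LD2_c8 LD3_c9)) :=
  Lgr Lrot11 (Lpr_ct (f237694 IH) (Lpn (LP (LK LD1_c8 LD2_c8 LD3_c9))))
theorem f39028 : Led Lsl_ct (LP (LK LD1_c1 LD2_c1 LD3_c24)) = (LP (LK LD1_c0 LD2_c28 LD3_c1)) :=
  Lre_c IH (LK LD1_c1 LD2_c1 LD3_c24) (LK LD1_c0 LD2_c28 LD3_c1) Lrfl Lrfl
theorem f43117 : Led Lsl_ct (LP (LK LD1_c1 LD2_c1 LD3_c22)) = (LP (LK LD1_c2 LD2_c8 LD3_c24)) :=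
  Lre_c IH (LK LD1_c1 LD2_c1 LD3_c22) (LK LD1_c2 LD2_c8 LD3_c24) Lrfl Lrfl
theorem f227210 : Led Lsl_dt (LP (LK LD1_c2 LD2_c8 LD3_c24)) = (LP (LK LD1_c4 LD2_c21 LD3_c48)) :=
  Lre_d IH (LK LD1_c2 LD2_c8 LD3_c24) (LK LD1_c4 LD2_c21 LD3_c48) Lrfl Lrfl
theorem f237707 : Led Lsl_cf (LP (LK LD1_c4 LD2_c21 LD3_c48)) = (LP (LK LD1_c2 LD2_c9 LD3_c4)) :=
  Lgr Lrot99 (Lpe (f227210 IH) (Lpe (f43117 IH) (Lpe (K12.f28839 IH) (Lpe (f39028 IH) (Lpe (f38965 IH) (Lpe (f38966 IH) (Lpr_gt (f237216 IH) (Lpe (f237702 IH) (Lpr_gt (f237705 IH) (Lpn (LP (LK LD1_c2 LD2_c9 LD3_c4))))))))))))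
theorem f237719 : Led Lsl_gf (LP (LK LD1_c2 LD2_c8 LD3_c24)) = (LP (LK LD1_c1 LD2_c56 LD3_c56)) :=
  Lgr Lrot143 (Lpr_dt (f227210 IH) (Lpr_cf (f237707 IH) (Lpe (f29612 IH) (Lpr_gf (f237289 IH) (Lpe (K1.f38918 IH) (Lpr_gf (K12.f38926 IH) (Lpe (K12.f216646 IH) (Lpr_gt (K12.f216424 IH) (Lpr_dt (K1.f29579 IH) (Lpn (LP (LK LD1_c1 LD2_c56 LD3_c56))))))))))))
theorem f29167 : Led Lsl_bt (LP (LK LD1_c0 LD2_c55 LD3_c14)) = (LP (LK LD1_c1 LD2_c8 LD3_c45)) :=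
  Lgr Lrot95 (Lpe (K1.f28758 IH) (Lpr_bf (K1.f29159 IH) (Lpe (K0.f1747 IH) (Lpn (LP (LK LD1_c1 LD2_c8 LD3_c45))))))
theorem f237727 : Led Lsl_bt (LP (LK LD1_c1 LD2_c1 LD3_c22)) = (LP (LK LD1_c0 LD2_c59 LD3_c46)) :=
  Lgr Lrot130 (Lpr_ct (f43117 IH) (Lpr_gf (f237719 IH) (Lpe (K1.f29245 IH) (Lpr_bt (f29167 IH) (Lpe (K9.f1612 IH) (Lpe (K9.f167277 IH) (Lpr_ct (K9.f53423 IH) (Lpe (K9.f52209 IH) (Lpe (K9.f51477 IH) (Lpe (K12.f51467 IH) (Lpn (LP (LK LD1_c0 LD2_c59 LD3_c46)))))))))))))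
theorem f216822 : Led Lsl_gf (LP (LK LD1_c2 LD2_c24 LD3_c25)) = (LP (LK LD1_c2 LD2_c8 LD3_c24)) :=
  Lgr Lrot104 (Lpr_ct (K1.f2746 IH) (Lpe (K0.f2409 IH) (Lpr_cf (K0.f6926 IH) (Lpe (K9.f182320 IH) (Lpr_cf (K12.f216808 IH) (Lpe (K12.f177899 IH) (Lpe (K1.f39170 IH) (Lpr_gt (K12.f28839 IH) (Lpr_ct (f43117 IH) (Lpn (LP (LK LD1_c2 LD2_c8 LD3_c24))))))))))))
theorem f2747 : Led Lsl_bt (LP (LK LD1_c1 LD2_c9 LD3_c21)) = (LP (LK LD1_c0 LD2_c31 LD3_c56)) :=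
  Lre_b IH (LK LD1_c1 LD2_c9 LD3_c21) (LK LD1_c0 LD2_c31 LD3_c56) Lrfl Lrfl
theorem f2206 : Led Lsl_af (LP (LK LD1_c0 LD2_c13 LD3_c60)) = (LP (LK LD1_c0 LD2_c14 LD3_c12)) :=
  Lgr Lrot0 (Lpr_at (K0.f2201 IH) (Lpn (LP (LK LD1_c0 LD2_c14 LD3_c12))))
theorem f267 : Led Lsl_gt (LP (LK LD1_c0 LD2_c31 LD3_c32)) = (LP (LK LD1_c0 LD2_c13 LD3_c60)) :=
  Lre_g IH (LK LD1_c0 LD2_c31 LD3_c32) (LK LD1_c0 LD2_c13 LD3_c60) Lrfl Lrfl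
theorem f2861 : Led Lsl_gf (LP (LK LD1_c0 LD2_c31 LD3_c32)) = (LP (LK LD1_c0 LD2_c31 LD3_c56)) :=
  Lgr Lrot47 (Lpr_gt (f267 IH) (Lpr_af (f2206 IH) (Lpe (K9.f2177 IH) (Lpn (LP (LK LD1_c0 LD2_c31 LD3_c56))))))
theorem f502 : Led Lsl_bt (LP (LK LD1_c0 LD2_c12 LD3_c6)) = (LP (LK LD1_c0 LD2_c27 LD3_c11)) :=
  Lre_b IH (LK LD1_c0 LD2_c12 LD3_c6) (LK LD1_c0 LD2_c27 LD3_c11) Lrfl Lrfl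
theorem f1126 : Led Lsl_gt (LP (LK LD1_c1 LD2_c0 LD3_c13)) = (LP (LK LD1_c0 LD2_c27 LD3_c21)) :=
  Lre_g IH (LK LD1_c1 LD2_c0 LD3_c13) (LK LD1_c0 LD2_c27 LD3_c21) Lrfl Lrfl
theorem f237772 : Led Lsl_ct (LP (LK LD1_c0 LD2_c31 LD3_c32)) = (LP (LK LD1_c1 LD2_c0 LD3_c13)) :=
  Lgr Lrot91 (Lpr_gf (f2861 IH) (Lpe (f2747 IH) (Lpr_ct (K12.f2167 IH) (Lpr_gf (f216822 IH) (Lpe (f43117 IH) (Lpr_bt (f237727 IH) (Lpe (K12.f606 IH) (Lpe (f502 IH) (Lpr_ct (K9.f506 IH) (Lpe (f1126 IH) (Lpn (LP (LK LD1_c1 LD2_c0 LD3_c13)))))))))))))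
theorem f51538 : Led Lsl_at (LP (LK LD1_c0 LD2_c26 LD3_c30)) = (LP (LK LD1_c0 LD2_c27 LD3_c21)) :=
  Lgr Lrot107 (Lpe (K9.f1119 IH) (Lpr_af (K9.f51516 IH) (Lpe (K9.f1120 IH) (Lpn (LP (LK LD1_c0 LD2_c27 LD3_c21))))))
theorem f1123 : Led Lsl_ft (LP (LK LD1_c0 LD2_c58 LD3_c29)) = (LP (LK LD1_c0 LD2_c26 LD3_c30)) :=
  Lre_f IH (LK LD1_c0 LD2_c58 LD3_c29) (LK LD1_c0 LD2_c26 LD3_c30) Lrfl Lrfl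
theorem f53367 : Led Lsl_gt (LP (LK LD1_c0 LD2_c58 LD3_c29)) = (LP (LK LD1_c1 LD2_c0 LD3_c13)) :=
  Lgr Lrot5 (Lpr_ft (f1123 IH) (Lpr_at (f51538 IH) (Lpe (f1126 IH) (Lpn (LP (LK LD1_c1 LD2_c0 LD3_c13))))))
theorem f237782 : Led Lsl_df (LP (LK LD1_c1 LD2_c0 LD3_c21)) = (LP (LK LD1_c1 LD2_c0 LD3_c13)) :=
  Lgr Lrot174 (Lpr_ct (K9.f171193 IH) (Lpe (K9.f171189 IH) (Lpr_gf (K9.f171185 IH) (Lpe (K9.f250 IH) (Lpe (f267 IH) (Lpr_ct (f237772 IH) (Lpr_gt (f1126 IH) (Lpr_dt (K9.f51609 IH) (Lpr_gt (f53367 IH) (Lpn (LP (LK LD1_c1 LD2_c0 LD3_c13))))))))))))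
theorem f167648 : Led Lsl_ct (LP (LK LD1_c2 LD2_c5 LD3_c49)) = (LP (LK LD1_c0 LD2_c59 LD3_c54)) :=
  Lre_c IH (LK LD1_c2 LD2_c5 LD3_c49) (LK LD1_c0 LD2_c59 LD3_c54) Lrfl Lrfl
theorem f237792 : Led Lsl_gt (LP (LK LD1_c1 LD2_c0 LD3_c21)) = (LP (LK LD1_c2 LD2_c5 LD3_c49)) :=
  Lgr Lrot9 (Lpr_df (f237782 IH) (Lpr_gt (f1126 IH) (Lpr_ct (K9.f1120 IH) (Lpr_gt (K0.f526 IH) (Lpr_ct (K9.f7930 IH) (Lpe (K9.f170160 IH) (Lpe (K9.f7991 IH) (Lpe (K12.f167650 IH) (Lpe (f167648 IH) (Lpn (LP (LK LD1_c2 LD2_c5 LD3_c49))))))))))))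
theorem f171192 : Led Lsl_ct (LP (LK LD1_c0 LD2_c27 LD3_c24)) = (LP (LK LD1_c1 LD2_c0 LD3_c21)) :=
  Lre_c IH (LK LD1_c0 LD2_c27 LD3_c24) (LK LD1_c1 LD2_c0 LD3_c21) Lrfl Lrfl
theorem f171490 : Led Lsl_gt (LP (LK LD1_c1 LD2_c0 LD3_c20)) = (LP (LK LD1_c0 LD2_c27 LD3_c24)) :=
  Lre_g IH (LK LD1_c1 LD2_c0 LD3_c20) (LK LD1_c0 LD2_c27 LD3_c24) Lrfl Lrfl
theorem f167762 : Led Lsl_ct (LP (LK LD1_c0 LD2_c24 LD3_c50)) = (LP (LK LD1_c0 LD2_c28 LD3_c40)) :=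
  Lgr Lrot7 (Lpr_df (K9.f6806 IH) (Lpe (K9.f6798 IH) (Lpe (K9.f6797 IH) (Lpe (K9.f6791 IH) (Lpe (K0.f6821 IH) (Lpr_gt (K9.f497 IH) (Lpr_dt (K9.f499 IH) (Lpr_gt (K9.f500 IH) (Lpr_dt (K9.f167641 IH) (Lpn (LP (LK LD1_c0 LD2_c28 LD3_c40))))))))))))
theorem f237798 : Led Lsl_df (LP (LK LD1_c1 LD2_c0 LD3_c20)) = (LP (LK LD1_c0 LD2_c58 LD3_c49)) :=
  Lgr Lrot155 (Lpr_gt (f171490 IH) (Lpr_ct (f171192 IH) (Lpr_gt (f237792 IH) (Lpr_ct (f167648 IH) (Lpr_dt (K9.f167641 IH) (Lpe (f167762 IH) (Lpr_gf (f179531 IH) (Lpe (f51578 IH) (Lpe (f201338 IH) (Lpn (LP (LK LD1_c0 LD2_c58 LD3_c49))))))))))))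
theorem f237805 : Led Lsl_bt (LP (LK LD1_c1 LD2_c0 LD3_c20)) = (LP (LK LD1_c2 LD2_c6 LD3_c46)) :=
  Lre_b IH (LK LD1_c1 LD2_c0 LD3_c20) (LK LD1_c2 LD2_c6 LD3_c46) Lrfl Lrfl
theorem f237806 : Led Lsl_dt (LP (LK LD1_c2 LD2_c6 LD3_c46)) = (LP (LK LD1_c2 LD2_c3 LD3_c41)) :=
  Lgr Lrot79 (Lpe (f237805 IH) (Lpr_df (f237798 IH) (Lpe (f201333 IH) (Lpn (LP (LK LD1_c2 LD2_c3 LD3_c41))))))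
theorem f200382 : Led Lsl_ct (LP (LK LD1_c4 LD2_c18 LD3_c60)) = (LP (LK LD1_c2 LD2_c6 LD3_c46)) :=
  Lre_c IH (LK LD1_c4 LD2_c18 LD3_c60) (LK LD1_c2 LD2_c6 LD3_c46) Lrfl Lrfl
theorem f200383 : Led Lsl_dt (LP (LK LD1_c8 LD2_c36 LD3_c34)) = (LP (LK LD1_c4 LD2_c18 LD3_c60)) :=
  Lre_d IH (LK LD1_c8 LD2_c36 LD3_c34) (LK LD1_c4 LD2_c18 LD3_c60) Lrfl Lrfl
theorem f192814 : Led Lsl_ft (LP (LK LD1_c1 LD2_c59 LD3_c19)) = (LP (LK LD1_c4 LD2_c4 LD3_c38)) :=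
  Lre_f IH (LK LD1_c1 LD2_c59 LD3_c19) (LK LD1_c4 LD2_c4 LD3_c38) Lrfl Lrfl
theorem f236352 : Led Lsl_af (LP (LK LD1_c2 LD2_c3 LD3_c41)) = (LP (LK LD1_c4 LD2_c4 LD3_c38)) :=
  Lgr Lrot31 (Lpr_gf (f236252 IH) (Lpe (f233935 IH) (Lpr_ft (f192814 IH) (Lpn (LP (LK LD1_c4 LD2_c4 LD3_c38))))))
theorem f2093 : Led Lsl_dt (LP (LK LD1_c4 LD2_c51 LD3_c8)) = (LP (LK LD1_c9 LD2_c34 LD3_c16)) :=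
  Lre_d IH (LK LD1_c4 LD2_c51 LD3_c8) (LK LD1_c9 LD2_c34 LD3_c16) Lrfl Lrfl
theorem f237905 : Led Lsl_cf (LP (LK LD1_c8 LD2_c36 LD3_c34)) = (LP (LK LD1_c9 LD2_c34 LD3_c16)) :=
  Lgr Lrot116 (Lpr_dt (f200383 IH) (Lpr_ct (f200382 IH) (Lpr_dt (f237806 IH) (Lpr_ct (f201334 IH) (Lpr_af (f236352 IH) (Lpe (f192814 IH) (Lpr_dt (f199188 IH) (Lpr_ct (f2080 IH) (Lpr_dt (f2093 IH) (Lpn (LP (LK LD1_c9 LD2_c34 LD3_c16))))))))))))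
theorem f189249 : Led Lsl_dt (LP (LK LD1_c9 LD2_c33 LD3_c53)) = (LP (LK LD1_c4 LD2_c50 LD3_c54)) :=
  Lre_d IH (LK LD1_c9 LD2_c33 LD3_c53) (LK LD1_c4 LD2_c50 LD3_c54) Lrfl Lrfl
theorem f233703 : Led Lsl_ct (LP (LK LD1_c8 LD2_c40 LD3_c21)) = (LP (LK LD1_c9 LD2_c33 LD3_c53)) :=
  Lgr Lrot7 (Lpe (f184771 IH) (Lpr_gf (f233404 IH) (Lpe (K0.f1718 IH) (Lpe (f233382 IH) (Lpr_cf (f233333 IH) (Lpe (f232998 IH) (Lpr_dt (f29120 IH) (Lpr_gt (f232325 IH) (Lpr_dt (f189243 IH) (Lpn (LP (LK LD1_c9 LD2_c33 LD3_c53))))))))))))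
theorem f238000 : Led Lsl_gt (LP (LK LD1_c8 LD2_c36 LD3_c34)) = (LP (LK LD1_c8 LD2_c40 LD3_c21)) :=
  Lgr Lrot150 (Lpr_cf (f237905 IH) (Lpr_gf (f233941 IH) (Lpe (f184771 IH) (Lpr_gt (f233393 IH) (Lpr_ct (K0.f1730 IH) (Lpr_gt (f8103 IH) (Lpr_ct (f30823 IH) (Lpe (f189249 IH) (Lpe (f233703 IH) (Lpn (LP (LK LD1_c8 LD2_c40 LD3_c21))))))))))))
theorem f237993 : Led Lsl_ct (LP (LK LD1_c8 LD2_c36 LD3_c34)) = (LP (LK LD1_c9 LD2_c34 LD3_c16)) :=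
  Lgr Lrot59 (Lpr_cf (f237905 IH) (Lpn (LP (LK LD1_c9 LD2_c34 LD3_c16))))
theorem f238003 : Led Lsl_gt (LP (LK LD1_c9 LD2_c34 LD3_c16)) = (LP (LK LD1_c8 LD2_c18 LD3_c33)) :=
  Lgr Lrot94 (Lpe (f237993 IH) (Lpr_gt (f238000 IH) (Lpr_dt (f184780 IH) (Lpr_gt (f233393 IH) (Lpr_dt (K0.f1720 IH) (Lpe (K0.f1727 IH) (Lpe (K0.f1716 IH) (Lpe (K9.f167238 IH) (Lpe (f167258 IH) (Lpn (LP (LK LD1_c8 LD2_c18 LD3_c33))))))))))))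
theorem f238008 : Led Lsl_gf (LP (LK LD1_c8 LD2_c36 LD3_c34)) = (LP (LK LD1_c8 LD2_c18 LD3_c33)) :=
  Lgr Lrot147 (Lpr_ct (f237993 IH) (Lpr_gt (f238003 IH) (Lpe (f233337 IH) (Lpe (f33321 IH) (Lpe (f33320 IH) (Lpe (K0.f1573 IH) (Lpe (K0.f1717 IH) (Lpe (K9.f167238 IH) (Lpe (f167258 IH) (Lpn (LP (LK LD1_c8 LD2_c18 LD3_c33))))))))))))
theorem f233140 : Led Lsl_dt (LP (LK LD1_c4 LD2_c51 LD3_c11)) = (LP (LK LD1_c9 LD2_c34 LD3_c25)) :=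
  Lre_d IH (LK LD1_c4 LD2_c51 LD3_c11) (LK LD1_c9 LD2_c34 LD3_c25) Lrfl Lrfl
theorem f238011 : Led Lsl_gt (LP (LK LD1_c9 LD2_c34 LD3_c25)) = (LP (LK LD1_c9 LD2_c33 LD3_c56)) :=
  Lgr Lrot9 (Lpe (f233140 IH) (Lpr_gt (f186926 IH) (Lpr_ct (f186925 IH) (Lpr_gt (f2079 IH) (Lpr_ct (f2080 IH) (Lpe (f2092 IH) (Lpe (f237993 IH) (Lpr_gf (f238008 IH) (Lpe (f233341 IH) (Lpn (LP (LK LD1_c9 LD2_c33 LD3_c56))))))))))))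
theorem f33330 : Led Lsl_dt (LP (LK LD1_c9 LD2_c33 LD3_c56)) = (LP (LK LD1_c4 LD2_c50 LD3_c56)) :=
  Lre_d IH (LK LD1_c9 LD2_c33 LD3_c56) (LK LD1_c4 LD2_c50 LD3_c56) Lrfl Lrfl
theorem f200111 : Led Lsl_dt (LP (LK LD1_c4 LD2_c51 LD3_c34)) = (LP (LK LD1_c2 LD2_c23 LD3_c38)) :=
  Lre_d IH (LK LD1_c4 LD2_c51 LD3_c34) (LK LD1_c2 LD2_c23 LD3_c38) Lrfl Lrfl
theorem f232991 : Led Lsl_gt (LP (LK LD1_c9 LD2_c35 LD3_c14)) = (LP (LK LD1_c4 LD2_c51 LD3_c34)) :=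
  Lre_g IH (LK LD1_c9 LD2_c35 LD3_c14) (LK LD1_c4 LD2_c51 LD3_c34) Lrfl Lrfl
theorem f238039 : Led Lsl_cf (LP (LK LD1_c9 LD2_c34 LD3_c25)) = (LP (LK LD1_c9 LD2_c35 LD3_c14)) :=
  Lgr Lrot166 (Lpr_gt (f238011 IH) (Lpr_dt (f33330 IH) (Lpr_gt (f184371 IH) (Lpr_dt (f29126 IH) (Lpr_ct (f232982 IH) (Lpe (f232984 IH) (Lpe (K11.f171039 IH) (Lpe (f200111 IH) (Lpe (f232991 IH) (Lpn (LP (LK LD1_c9 LD2_c35 LD3_c14))))))))))))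
theorem f233167 : Led Lsl_ct (LP (LK LD1_c4 LD2_c51 LD3_c60)) = (LP (LK LD1_c4 LD2_c51 LD3_c27)) :=
  Lgr Lrot59 (Lpr_cf (f233154 IH) (Lpn (LP (LK LD1_c4 LD2_c51 LD3_c27))))
theorem f233212 : Led Lsl_gt (LP (LK LD1_c4 LD2_c51 LD3_c27)) = (LP (LK LD1_c4 LD2_c21 LD3_c26)) :=
  Lgr Lrot150 (Lpe (f233167 IH) (Lpe (f1799 IH) (Lpe (f1922 IH) (Lpr_gt (K12.f2793 IH) (Lpr_ct (f186932 IH) (Lpr_gt (f233210 IH) (Lpr_ct (K1.f29138 IH) (Lpe (f39065 IH) (Lpe (f29147 IH) (Lpn (LP (LK LD1_c4 LD2_c21 LD3_c26))))))))))))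
theorem f233380 : Led Lsl_gf (LP (LK LD1_c4 LD2_c51 LD3_c11)) = (LP (LK LD1_c2 LD2_c23 LD3_c34)) :=
  Lgr Lrot147 (Lpe (f233086 IH) (Lpr_gt (f167344 IH) (Lpr_ct (f167358 IH) (Lpe (f167338 IH) (Lpr_cf (f233333 IH) (Lpe (f232327 IH) (Lpe (f29147 IH) (Lpe (f233212 IH) (Lpe (f233159 IH) (Lpn (LP (LK LD1_c2 LD2_c23 LD3_c34))))))))))))
theorem f184403 : Led Lsl_gt (LP (LK LD1_c4 LD2_c50 LD3_c49)) = (LP (LK LD1_c9 LD2_c33 LD3_c44)) :=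
  Lre_g IH (LK LD1_c4 LD2_c50 LD3_c49) (LK LD1_c9 LD2_c33 LD3_c44) Lrfl Lrfl
theorem f238057 : Led Lsl_dt (LP (LK LD1_c9 LD2_c33 LD3_c44)) = (LP (LK LD1_c9 LD2_c35 LD3_c14)) :=
  Lgr Lrot105 (Lpe (f184403 IH) (Lpe (f167360 IH) (Lpr_gf (f184376 IH) (Lpr_cf (f232976 IH) (Lpe (f233152 IH) (Lpr_dt (f233151 IH) (Lpe (f233380 IH) (Lpr_dt (f233140 IH) (Lpr_cf (f238039 IH) (Lpn (LP (LK LD1_c9 LD2_c35 LD3_c14))))))))))))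
theorem f167345 : Led Lsl_ct (LP (LK LD1_c4 LD2_c50 LD3_c49)) = (LP (LK LD1_c2 LD2_c23 LD3_c12)) :=
  Lre_c IH (LK LD1_c4 LD2_c50 LD3_c49) (LK LD1_c2 LD2_c23 LD3_c12) Lrfl Lrfl
theorem f21245 : Led Lsl_gt (LP (LK LD1_c1 LD2_c3 LD3_c22)) = (LP (LK LD1_c2 LD2_c12 LD3_c42)) :=
  Lre_g IH (LK LD1_c1 LD2_c3 LD3_c22) (LK LD1_c2 LD2_c12 LD3_c42) Lrfl Lrfl
theorem f238062 : Led Lsl_dt (LP (LK LD1_c2 LD2_c12 LD3_c42)) = (LP (LK LD1_c1 LD2_c8 LD3_c55)) :=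
  Lgr Lrot105 (Lpe (f21245 IH) (Lpe (f181941 IH) (Lpr_gf (f199671 IH) (Lpe (f167345 IH) (Lpr_gt (f184403 IH) (Lpr_dt (f238057 IH) (Lpr_gt (f232991 IH) (Lpr_dt (f200111 IH) (Lpe (K11.f171038 IH) (Lpn (LP (LK LD1_c1 LD2_c8 LD3_c55))))))))))))
theorem f238068 : Led Lsl_df (LP (LK LD1_c2 LD2_c12 LD3_c42)) = (LP (LK LD1_c1 LD2_c8 LD3_c55)) :=
  Lgr Lrot38 (Lpr_dt (f238062 IH) (Lpn (LP (LK LD1_c1 LD2_c8 LD3_c55))))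
theorem f238207 : Led Lsl_ct (LP (LK LD1_c2 LD2_c12 LD3_c42)) = (LP (LK LD1_c2 LD2_c38 LD3_c16)) :=
  Lgr Lrot7 (Lpr_df (f238068 IH) (Lpe (K11.f2792 IH) (Lpe (K1.f1920 IH) (Lpe (K9.f2106 IH) (Lpe (K9.f2090 IH) (Lpr_gt (K12.f228938 IH) (Lpr_dt (K1.f28794 IH) (Lpr_gt (K12.f29084 IH) (Lpe (f235690 IH) (Lpn (LP (LK LD1_c2 LD2_c38 LD3_c16))))))))))))
theorem f238213 : Led Lsl_dt (LP (LK LD1_c2 LD2_c12 LD3_c43)) = (LP (LK LD1_c1 LD2_c8 LD3_c56)) :=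
  Lgr Lrot6 (Lpr_gt (f177910 IH) (Lpe (f177901 IH) (Lpr_gt (f21245 IH) (Lpr_ct (f238207 IH) (Lpr_df (f235690 IH) (Lpe (f186932 IH) (Lpe (K12.f2793 IH) (Lpe (K12.f1921 IH) (Lpe (K12.f2042 IH) (Lpn (LP (LK LD1_c1 LD2_c8 LD3_c56))))))))))))
theorem f1620 : Led Lsl_et (LP (LK LD1_c0 LD2_c13 LD3_c59)) = (LP (LK LD1_c0 LD2_c6 LD3_c22)) :=
  Lre_e IH (LK LD1_c0 LD2_c13 LD3_c59) (LK LD1_c0 LD2_c6 LD3_c22) Lrfl Lrfl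
theorem f196970 : Led Lsl_et (LP (LK LD1_c2 LD2_c45 LD3_c35)) = (LP (LK LD1_c1 LD2_c19 LD3_c11)) :=
  Lre_e IH (LK LD1_c2 LD2_c45 LD3_c35) (LK LD1_c1 LD2_c19 LD3_c11) Lrfl Lrfl
theorem f196971 : Led Lsl_dt (LP (LK LD1_c2 LD2_c45 LD3_c35)) = (LP (LK LD1_c1 LD2_c19 LD3_c8)) :=
  Lre_d IH (LK LD1_c2 LD2_c45 LD3_c35) (LK LD1_c1 LD2_c19 LD3_c8) Lrfl Lrfl
theorem f196955 : Led Lsl_gt (LP (LK LD1_c2 LD2_c45 LD3_c34)) = (LP (LK LD1_c1 LD2_c19 LD3_c8)) :=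
  Lre_g IH (LK LD1_c2 LD2_c45 LD3_c34) (LK LD1_c1 LD2_c19 LD3_c8) Lrfl Lrfl
theorem f28759 : Led Lsl_ef (LP (LK LD1_c1 LD2_c8 LD3_c45)) = (LP (LK LD1_c0 LD2_c55 LD3_c14)) :=
  Lgr Lrot73 (Lpr_dt (K0.f1747 IH) (Lpr_et (K0.f1592 IH) (Lpr_dt (K0.f28746 IH) (Lpr_et (K10.f28757 IH) (Lpr_dt (K1.f28758 IH) (Lpn (LP (LK LD1_c0 LD2_c55 LD3_c14))))))))
theorem f1572 : Led Lsl_et (LP (LK LD1_c4 LD2_c50 LD3_c55)) = (LP (LK LD1_c2 LD2_c23 LD3_c16)) :=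
  Lre_e IH (LK LD1_c4 LD2_c50 LD3_c55) (LK LD1_c2 LD2_c23 LD3_c16) Lrfl Lrfl
theorem f216432 : Led Lsl_df (LP (LK LD1_c2 LD2_c45 LD3_c34)) = (LP (LK LD1_c4 LD2_c50 LD3_c55)) :=
  Lgr Lrot170 (Lpr_gt (f196955 IH) (Lpe (f196971 IH) (Lpr_et (f196970 IH) (Lpr_gt (K12.f216419 IH) (Lpr_dt (K12.f168525 IH) (Lpr_gt (K12.f182314 IH) (Lpe (K1.f28940 IH) (Lpe (f28759 IH) (Lpr_gt (f8103 IH) (Lpe (f1572 IH) (Lpn (LP (LK LD1_c4 LD2_c50 LD3_c55)))))))))))))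
theorem f189248 : Led Lsl_et (LP (LK LD1_c2 LD2_c23 LD3_c16)) = (LP (LK LD1_c4 LD2_c50 LD3_c55)) :=
  Lre_e IH (LK LD1_c2 LD2_c23 LD3_c16) (LK LD1_c4 LD2_c50 LD3_c55) Lrfl Lrfl
theorem f189246 : Led Lsl_et (LP (LK LD1_c1 LD2_c18 LD3_c19)) = (LP (LK LD1_c2 LD2_c43 LD3_c60)) :=
  Lre_e IH (LK LD1_c1 LD2_c18 LD3_c19) (LK LD1_c2 LD2_c43 LD3_c60) Lrfl Lrfl
theorem f189247 : Led Lsl_dt (LP (LK LD1_c2 LD2_c43 LD3_c59)) = (LP (LK LD1_c1 LD2_c18 LD3_c19)) :=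
  Lre_d IH (LK LD1_c2 LD2_c43 LD3_c59) (LK LD1_c1 LD2_c18 LD3_c19) Lrfl Lrfl
theorem f216444 : Led Lsl_et (LP (LK LD1_c2 LD2_c45 LD3_c34)) = (LP (LK LD1_c2 LD2_c43 LD3_c59)) :=
  Lgr Lrot71 (Lpr_df (f216432 IH) (Lpe (f189248 IH) (Lpe (f189157 IH) (Lpe (f189246 IH) (Lpe (f189247 IH) (Lpn (LP (LK LD1_c2 LD2_c43 LD3_c59))))))))
theorem f216461 : Led Lsl_ef (LP (LK LD1_c2 LD2_c45 LD3_c34)) = (LP (LK LD1_c2 LD2_c43 LD3_c59)) :=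
  Lgr Lrot88 (Lpr_et (f216444 IH) (Lpn (LP (LK LD1_c2 LD2_c43 LD3_c59))))
theorem f200468 : Led Lsl_dt (LP (LK LD1_c1 LD2_c19 LD3_c8)) = (LP (LK LD1_c2 LD2_c45 LD3_c35)) :=
  Lre_d IH (LK LD1_c1 LD2_c19 LD3_c8) (LK LD1_c2 LD2_c45 LD3_c35) Lrfl Lrfl
theorem f179742 : Led Lsl_gt (LP (LK LD1_c2 LD2_c45 LD3_c35)) = (LP (LK LD1_c5 LD2_c39 LD3_c17)) :=
  Lre_g IH (LK LD1_c2 LD2_c45 LD3_c35) (LK LD1_c5 LD2_c39 LD3_c17) Lrfl Lrfl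
theorem f200469 : Led Lsl_dt (LP (LK LD1_c11 LD2_c9 LD3_c34)) = (LP (LK LD1_c5 LD2_c39 LD3_c17)) :=
  Lre_d IH (LK LD1_c11 LD2_c9 LD3_c34) (LK LD1_c5 LD2_c39 LD3_c17) Lrfl Lrfl
theorem f196956 : Led Lsl_et (LP (LK LD1_c2 LD2_c45 LD3_c28)) = (LP (LK LD1_c1 LD2_c19 LD3_c6)) :=
  Lre_e IH (LK LD1_c2 LD2_c45 LD3_c28) (LK LD1_c1 LD2_c19 LD3_c6) Lrfl Lrfl
theorem f200467 : Led Lsl_et (LP (LK LD1_c1 LD2_c19 LD3_c8)) = (LP (LK LD1_c0 LD2_c36 LD3_c32)) :=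
  Lre_e IH (LK LD1_c1 LD2_c19 LD3_c8) (LK LD1_c0 LD2_c36 LD3_c32) Lrfl Lrfl
theorem f200464 : Led Lsl_gt (LP (LK LD1_c4 LD2_c22 LD3_c44)) = (LP (LK LD1_c2 LD2_c8 LD3_c49)) :=
  Lre_g IH (LK LD1_c4 LD2_c22 LD3_c44) (LK LD1_c2 LD2_c8 LD3_c49) Lrfl Lrfl
theorem f189159 : Led Lsl_et (LP (LK LD1_c0 LD2_c27 LD3_c1)) = (LP (LK LD1_c0 LD2_c59 LD3_c17)) :=
  Lre_e IH (LK LD1_c0 LD2_c27 LD3_c1) (LK LD1_c0 LD2_c59 LD3_c17) Lrfl Lrfl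
theorem f189996 : Led Lsl_et (LP (LK LD1_c4 LD2_c14 LD3_c22)) = (LP (LK LD1_c2 LD2_c4 LD3_c33)) :=
  Lre_e IH (LK LD1_c4 LD2_c14 LD3_c22) (LK LD1_c2 LD2_c4 LD3_c33) Lrfl Lrfl
theorem f200465 : Led Lsl_dt (LP (LK LD1_c4 LD2_c14 LD3_c22)) = (LP (LK LD1_c4 LD2_c22 LD3_c44)) :=
  Lgr Lrot136 (Lpr_et (f189996 IH) (Lpe (K10.f8100 IH) (Lpe (f189159 IH) (Lpr_dt (K10.f52670 IH) (Lpr_gf (K10.f196932 IH) (Lpe (K12.f182182 IH) (Lpe (K12.f179308 IH) (Lpe (f196956 IH) (Lpr_dt (K12.f200423 IH) (Lpe (f200464 IH) (Lpn (LP (LK LD1_c4 LD2_c22 LD3_c44)))))))))))))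
theorem f190014 : Led Lsl_gt (LP (LK LD1_c8 LD2_c27 LD3_c27)) = (LP (LK LD1_c4 LD2_c14 LD3_c22)) :=
  Lre_g IH (LK LD1_c8 LD2_c27 LD3_c27) (LK LD1_c4 LD2_c14 LD3_c22) Lrfl Lrfl
theorem f200470 : Led Lsl_et (LP (LK LD1_c11 LD2_c9 LD3_c34)) = (LP (LK LD1_c8 LD2_c27 LD3_c27)) :=
  Lgr Lrot121 (Lpr_dt (f200469 IH) (Lpe (f179742 IH) (Lpe (f200468 IH) (Lpr_et (f200467 IH) (Lpe (K12.f179308 IH) (Lpe (f196956 IH) (Lpr_dt (K12.f200423 IH) (Lpe (f200464 IH) (Lpe (f200465 IH) (Lpe (f190014 IH) (Lpn (LP (LK LD1_c8 LD2_c27 LD3_c27)))))))))))))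
theorem f190024 : Led Lsl_et (LP (LK LD1_c2 LD2_c4 LD3_c33)) = (LP (LK LD1_c4 LD2_c14 LD3_c22)) :=
  Lre_e IH (LK LD1_c2 LD2_c4 LD3_c33) (LK LD1_c4 LD2_c14 LD3_c22) Lrfl Lrfl
theorem f189253 : Led Lsl_gt (LP (LK LD1_c2 LD2_c43 LD3_c38)) = (LP (LK LD1_c1 LD2_c18 LD3_c19)) :=
  Lre_g IH (LK LD1_c2 LD2_c43 LD3_c38) (LK LD1_c1 LD2_c18 LD3_c19) Lrfl Lrfl
theorem f216469 : Led Lsl_dt (LP (LK LD1_c2 LD2_c4 LD3_c33)) = (LP (LK LD1_c2 LD2_c43 LD3_c38)) :=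
  Lgr Lrot136 (Lpr_et (f190024 IH) (Lpe (f190014 IH) (Lpe (f200470 IH) (Lpr_dt (f200469 IH) (Lpe (f179742 IH) (Lpe (f200468 IH) (Lpe (f196955 IH) (Lpr_ef (f216461 IH) (Lpr_dt (f189247 IH) (Lpe (f189253 IH) (Lpn (LP (LK LD1_c2 LD2_c43 LD3_c38)))))))))))))
theorem f216472 : Led Lsl_df (LP (LK LD1_c2 LD2_c4 LD3_c33)) = (LP (LK LD1_c2 LD2_c43 LD3_c38)) :=
  Lgr Lrot38 (Lpr_dt (f216469 IH) (Lpn (LP (LK LD1_c2 LD2_c43 LD3_c38))))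
theorem f192815 : Led Lsl_ft (LP (LK LD1_c4 LD2_c4 LD3_c38)) = (LP (LK LD1_c1 LD2_c59 LD3_c19)) :=
  Lre_f IH (LK LD1_c4 LD2_c4 LD3_c38) (LK LD1_c1 LD2_c59 LD3_c19) Lrfl Lrfl
theorem f199341 : Led Lsl_et (LP (LK LD1_c0 LD2_c36 LD3_c3)) = (LP (LK LD1_c1 LD2_c18 LD3_c13)) :=
  Lre_e IH (LK LD1_c0 LD2_c36 LD3_c3) (LK LD1_c1 LD2_c18 LD3_c13) Lrfl Lrfl
theorem f199342 : Led Lsl_ft (LP (LK LD1_c1 LD2_c18 LD3_c13)) = (LP (LK LD1_c2 LD2_c43 LD3_c38)) :=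
  Lre_f IH (LK LD1_c1 LD2_c18 LD3_c13) (LK LD1_c2 LD2_c43 LD3_c38) Lrfl Lrfl
theorem f199343 : Led Lsl_ef (LP (LK LD1_c4 LD2_c4 LD3_c38)) = (LP (LK LD1_c2 LD2_c43 LD3_c38)) :=
  Lgr Lrot21 (Lpr_ft (f192815 IH) (Lpr_et (f192827 IH) (Lpr_ft (K12.f199184 IH) (Lpr_et (f199341 IH) (Lpr_ft (f199342 IH) (Lpn (LP (LK LD1_c2 LD2_c43 LD3_c38))))))))
theorem f238218 : Led Lsl_gf (LP (LK LD1_c2 LD2_c12 LD3_c43)) = (LP (LK LD1_c4 LD2_c4 LD3_c38)) :=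
  Lgr Lrot138 (Lpr_dt (f238213 IH) (Lpr_gt (K12.f2042 IH) (Lpe (K1.f1920 IH) (Lpr_et (f1620 IH) (Lpe (K0.f8069 IH) (Lpe (K0.f8098 IH) (Lpr_dt (K10.f8099 IH) (Lpr_gt (K10.f8100 IH) (Lpr_df (f216472 IH) (Lpe (f199343 IH) (Lpn (LP (LK LD1_c4 LD2_c4 LD3_c38)))))))))))))
theorem f192803 : Led Lsl_ft (LP (LK LD1_c0 LD2_c56 LD3_c34)) = (LP (LK LD1_c0 LD2_c25 LD3_c38)) :=
  Lre_f IH (LK LD1_c0 LD2_c56 LD3_c34) (LK LD1_c0 LD2_c25 LD3_c38) Lrfl Lrfl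
theorem f192804 : Led Lsl_ft (LP (LK LD1_c0 LD2_c25 LD3_c38)) = (LP (LK LD1_c0 LD2_c56 LD3_c34)) :=
  Lre_f IH (LK LD1_c0 LD2_c25 LD3_c38) (LK LD1_c0 LD2_c56 LD3_c34) Lrfl Lrfl
theorem f192805 : Led Lsl_bf (LP (LK LD1_c0 LD2_c56 LD3_c34)) = (LP (LK LD1_c0 LD2_c56 LD3_c34)) :=
  Lgr Lrot61 (Lpr_ft (f192803 IH) (Lpr_bt (K10.f192795 IH) (Lpr_ft (f192804 IH) (Lpn (LP (LK LD1_c0 LD2_c56 LD3_c34))))))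
theorem f192808 : Led Lsl_ct (LP (LK LD1_c0 LD2_c56 LD3_c34)) = (LP (LK LD1_c1 LD2_c59 LD3_c24)) :=
  Lre_c IH (LK LD1_c0 LD2_c56 LD3_c34) (LK LD1_c1 LD2_c59 LD3_c24) Lrfl Lrfl
theorem f192809 : Led Lsl_bt (LP (LK LD1_c1 LD2_c59 LD3_c24)) = (LP (LK LD1_c4 LD2_c4 LD3_c38)) :=
  Lre_b IH (LK LD1_c1 LD2_c59 LD3_c24) (LK LD1_c4 LD2_c4 LD3_c38) Lrfl Lrfl
theorem f192810 : Led Lsl_ct (LP (LK LD1_c1 LD2_c59 LD3_c24)) = (LP (LK LD1_c0 LD2_c56 LD3_c34)) :=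
  Lre_c IH (LK LD1_c1 LD2_c59 LD3_c24) (LK LD1_c0 LD2_c56 LD3_c34) Lrfl Lrfl
theorem f192811 : Led Lsl_bt (LP (LK LD1_c4 LD2_c4 LD3_c38)) = (LP (LK LD1_c1 LD2_c59 LD3_c24)) :=
  Lre_b IH (LK LD1_c4 LD2_c4 LD3_c38) (LK LD1_c1 LD2_c59 LD3_c24) Lrfl Lrfl
theorem f192812 : Led Lsl_ct (LP (LK LD1_c4 LD2_c4 LD3_c38)) = (LP (LK LD1_c4 LD2_c4 LD3_c38)) :=
  Lgr Lrot83 (Lpe (f192809 IH) (Lpe (f192808 IH) (Lpr_bf (f192805 IH) (Lpe (f192810 IH) (Lpe (f192811 IH) (Lpn (LP (LK LD1_c4 LD2_c4 LD3_c38))))))))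
theorem f238224 : Led Lsl_gt (LP (LK LD1_c1 LD2_c19 LD3_c9)) = (LP (LK LD1_c1 LD2_c59 LD3_c24)) :=
  Lgr Lrot164 (Lpe (f179105 IH) (Lpr_ct (f234170 IH) (Lpe (f220579 IH) (Lpe (f220567 IH) (Lpe (f234197 IH) (Lpe (f47538 IH) (Lpr_ct (f236418 IH) (Lpr_gf (f238218 IH) (Lpe (f192812 IH) (Lpr_bt (f192811 IH) (Lpn (LP (LK LD1_c1 LD2_c59 LD3_c24)))))))))))))
theorem f166426 : Led Lsl_ct (LP (LK LD1_c2 LD2_c3 LD3_c16)) = (LP (LK LD1_c0 LD2_c58 LD3_c35)) :=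
  Lre_c IH (LK LD1_c2 LD2_c3 LD3_c16) (LK LD1_c0 LD2_c58 LD3_c35) Lrfl Lrfl
theorem f227289 : Led Lsl_ct (LP (LK LD1_c0 LD2_c59 LD3_c26)) = (LP (LK LD1_c1 LD2_c19 LD3_c9)) :=
  Lgr Lrot15 (Lpr_ef (K12.f227287 IH) (Lpe (f166426 IH) (Lpe (f200409 IH) (Lpn (LP (LK LD1_c1 LD2_c19 LD3_c9))))))
theorem f238288 : Led Lsl_gf (LP (LK LD1_c0 LD2_c55 LD3_c52)) = (LP (LK LD1_c0 LD2_c56 LD3_c34)) :=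
  Lgr Lrot104 (Lpr_ct (f193651 IH) (Lpe (f229431 IH) (Lpr_cf (K12.f229414 IH) (Lpr_gf (K12.f29668 IH) (Lpe (K12.f29678 IH) (Lpr_gf (K12.f30813 IH) (Lpe (K12.f200399 IH) (Lpr_gt (f238224 IH) (Lpr_ct (f192810 IH) (Lpn (LP (LK LD1_c0 LD2_c56 LD3_c34))))))))))))
theorem f170305 : Led Lsl_bt (LP (LK LD1_c0 LD2_c27 LD3_c34)) = (LP (LK LD1_c0 LD2_c12 LD3_c14)) :=
  Lre_b IH (LK LD1_c0 LD2_c27 LD3_c34) (LK LD1_c0 LD2_c12 LD3_c14) Lrfl Lrfl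
theorem f238294 : Led Lsl_bt (LP (LK LD1_c0 LD2_c59 LD3_c26)) = (LP (LK LD1_c0 LD2_c27 LD3_c39)) :=
  Lgr Lrot92 (Lpr_ct (f227289 IH) (Lpr_gt (f238224 IH) (Lpe (f192808 IH) (Lpe (f192805 IH) (Lpe (f238288 IH) (Lpr_ct (f193651 IH) (Lpr_gt (f236473 IH) (Lpe (K12.f170318 IH) (Lpr_bt (f170305 IH) (Lpr_gt (K9.f170296 IH) (Lpn (LP (LK LD1_c0 LD2_c27 LD3_c39)))))))))))))
theorem f170312 : Led Lsl_ef (LP (LK LD1_c0 LD2_c27 LD3_c39)) = (LP (LK LD1_c0 LD2_c27 LD3_c29)) :=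
  Lgr Lrot88 (Lpr_et (K10.f170308 IH) (Lpn (LP (LK LD1_c0 LD2_c27 LD3_c29))))
theorem f167627 : Led Lsl_ct (LP (LK LD1_c0 LD2_c59 LD3_c58)) = (LP (LK LD1_c0 LD2_c27 LD3_c29)) :=
  Lgr Lrot8 (Lpr_gt (K9.f167626 IH) (Lpr_dt (K9.f167613 IH) (Lpr_gt (K9.f31448 IH) (Lpr_dt (K9.f31447 IH) (Lpe (K1.f32873 IH) (Lpe (K2.f31443 IH) (Lpr_gf (K9.f31440 IH) (Lpe (K9.f6793 IH) (Lpe (K10.f6815 IH) (Lpn (LP (LK LD1_c0 LD2_c27 LD3_c29))))))))))))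
theorem f170314 : Led Lsl_ct (LP (LK LD1_c0 LD2_c27 LD3_c39)) = (LP (LK LD1_c1 LD2_c0 LD3_c4)) :=
  Lgr Lrot15 (Lpr_ef (f170312 IH) (Lpe (f167627 IH) (Lpr_ef (K9.f167631 IH) (Lpn (LP (LK LD1_c1 LD2_c0 LD3_c4))))))
theorem f238296 : Led Lsl_bf (LP (LK LD1_c2 LD2_c5 LD3_c24)) = (LP (LK LD1_c1 LD2_c0 LD3_c4)) :=
  Lgr Lrot90 (Lpe (f234174 IH) (Lpr_bt (f179105 IH) (Lpe (f227283 IH) (Lpr_bt (f238294 IH) (Lpr_ct (f170314 IH) (Lpn (LP (LK LD1_c1 LD2_c0 LD3_c4))))))))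
theorem f211250 : Led Lsl_bt (LP (LK LD1_c1 LD2_c19 LD3_c46)) = (LP (LK LD1_c0 LD2_c36 LD3_c55)) :=
  Lre_b IH (LK LD1_c1 LD2_c19 LD3_c46) (LK LD1_c0 LD2_c36 LD3_c55) Lrfl Lrfl
theorem f238303 : Led Lsl_gt (LP (LK LD1_c0 LD2_c36 LD3_c55)) = (LP (LK LD1_c0 LD2_c27 LD3_c37)) :=
  Lgr Lrot82 (Lpe (f211250 IH) (Lpr_ct (K11.f211242 IH) (Lpr_gf (K12.f200391 IH) (Lpe (K12.f6829 IH) (Lpe (K12.f220216 IH) (Lpr_gf (f234168 IH) (Lpr_bf (f238296 IH) (Lpe (K12.f170310 IH) (Lpe (K9.f170296 IH) (Lpe (K9.f170304 IH) (Lpn (LP (LK LD1_c0 LD2_c27 LD3_c37)))))))))))))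
theorem f21274 : Led Lsl_gt (LP (LK LD1_c0 LD2_c54 LD3_c46)) = (LP (LK LD1_c0 LD2_c24 LD3_c44)) :=
  Lre_g IH (LK LD1_c0 LD2_c54 LD3_c46) (LK LD1_c0 LD2_c24 LD3_c44) Lrfl Lrfl
theorem f238309 : Led Lsl_df (LP (LK LD1_c0 LD2_c36 LD3_c55)) = (LP (LK LD1_c0 LD2_c54 LD3_c46)) :=
  Lgr Lrot155 (Lpr_gt (f238303 IH) (Lpr_ct (K9.f170304 IH) (Lpr_gt (K9.f170296 IH) (Lpr_ct (f170314 IH) (Lpr_dt (K9.f164707 IH) (Lpe (K9.f165008 IH) (Lpe (K9.f173402 IH) (Lpe (K1.f40770 IH) (Lpe (f21274 IH) (Lpn (LP (LK LD1_c0 LD2_c54 LD3_c46))))))))))))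
theorem f179983 : Led Lsl_et (LP (LK LD1_c1 LD2_c0 LD3_c42)) = (LP (LK LD1_c2 LD2_c7 LD3_c20)) :=
  Lre_e IH (LK LD1_c1 LD2_c0 LD3_c42) (LK LD1_c2 LD2_c7 LD3_c20) Lrfl Lrfl
theorem f179550 : Led Lsl_gt (LP (LK LD1_c2 LD2_c7 LD3_c20)) = (LP (LK LD1_c4 LD2_c19 LD3_c46)) :=
  Lre_g IH (LK LD1_c2 LD2_c7 LD3_c20) (LK LD1_c4 LD2_c19 LD3_c46) Lrfl Lrfl
theorem f171487 : Led Lsl_et (LP (LK LD1_c1 LD2_c19 LD3_c17)) = (LP (LK LD1_c0 LD2_c36 LD3_c36)) :=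
  Lre_e IH (LK LD1_c1 LD2_c19 LD3_c17) (LK LD1_c0 LD2_c36 LD3_c36) Lrfl Lrfl
theorem f171488 : Led Lsl_dt (LP (LK LD1_c1 LD2_c19 LD3_c17)) = (LP (LK LD1_c0 LD2_c36 LD3_c35)) :=
  Lre_d IH (LK LD1_c1 LD2_c19 LD3_c17) (LK LD1_c0 LD2_c36 LD3_c35) Lrfl Lrfl
theorem f171765 : Led Lsl_gt (LP (LK LD1_c1 LD2_c19 LD3_c16)) = (LP (LK LD1_c0 LD2_c36 LD3_c35)) :=
  Lre_g IH (LK LD1_c1 LD2_c19 LD3_c16) (LK LD1_c0 LD2_c36 LD3_c35) Lrfl Lrfl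
theorem f1673 : Led Lsl_ef (LP (LK LD1_c0 LD2_c14 LD3_c12)) = (LP (LK LD1_c0 LD2_c13 LD3_c60)) :=
  Lgr Lrot73 (Lpr_dt (K0.f1672 IH) (Lpr_et (K9.f1671 IH) (Lpr_dt (K0.f1664 IH) (Lpr_et (K9.f1528 IH) (Lpr_dt (K0.f254 IH) (Lpn (LP (LK LD1_c0 LD2_c13 LD3_c60))))))))
theorem f2871 : Led Lsl_et (LP (LK LD1_c1 LD2_c9 LD3_c23)) = (LP (LK LD1_c0 LD2_c31 LD3_c53)) :=
  Lre_e IH (LK LD1_c1 LD2_c9 LD3_c23) (LK LD1_c0 LD2_c31 LD3_c53) Lrfl Lrfl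
theorem f179847 : Led Lsl_df (LP (LK LD1_c1 LD2_c19 LD3_c16)) = (LP (LK LD1_c1 LD2_c9 LD3_c23)) :=
  Lgr Lrot170 (Lpr_gt (f171765 IH) (Lpe (f171488 IH) (Lpr_et (f171487 IH) (Lpe (K9.f179529 IH) (Lpr_dt (K9.f170286 IH) (Lpr_gt (K9.f179726 IH) (Lpe (K9.f250 IH) (Lpe (f1673 IH) (Lpr_gt (K9.f2864 IH) (Lpe (f2871 IH) (Lpn (LP (LK LD1_c1 LD2_c9 LD3_c23)))))))))))))
theorem f167021 : Led Lsl_et (LP (LK LD1_c0 LD2_c31 LD3_c53)) = (LP (LK LD1_c1 LD2_c9 LD3_c23)) :=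
  Lre_e IH (LK LD1_c0 LD2_c31 LD3_c53) (LK LD1_c1 LD2_c9 LD3_c23) Lrfl Lrfl
theorem f178258 : Led Lsl_dt (LP (LK LD1_c1 LD2_c18 LD3_c35)) = (LP (LK LD1_c0 LD2_c36 LD3_c10)) :=
  Lre_d IH (LK LD1_c1 LD2_c18 LD3_c35) (LK LD1_c0 LD2_c36 LD3_c10) Lrfl Lrfl
theorem f179962 : Led Lsl_et (LP (LK LD1_c1 LD2_c19 LD3_c16)) = (LP (LK LD1_c1 LD2_c18 LD3_c35)) :=
  Lgr Lrot71 (Lpr_df (f179847 IH) (Lpe (f167021 IH) (Lpe (K9.f178270 IH) (Lpr_ef (K11.f178267 IH) (Lpe (f178258 IH) (Lpn (LP (LK LD1_c1 LD2_c18 LD3_c35))))))))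
theorem f179960 : Led Lsl_dt (LP (LK LD1_c1 LD2_c19 LD3_c16)) = (LP (LK LD1_c1 LD2_c9 LD3_c23)) :=
  Lgr Lrot42 (Lpr_df (f179847 IH) (Lpn (LP (LK LD1_c1 LD2_c9 LD3_c23))))
theorem f167018 : Led Lsl_gt (LP (LK LD1_c2 LD2_c24 LD3_c31)) = (LP (LK LD1_c1 LD2_c9 LD3_c23)) :=
  Lre_g IH (LK LD1_c2 LD2_c24 LD3_c31) (LK LD1_c1 LD2_c9 LD3_c23) Lrfl Lrfl
theorem f167023 : Led Lsl_dt (LP (LK LD1_c4 LD2_c53 LD3_c27)) = (LP (LK LD1_c2 LD2_c24 LD3_c31)) :=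
  Lre_d IH (LK LD1_c4 LD2_c53 LD3_c27) (LK LD1_c2 LD2_c24 LD3_c31) Lrfl Lrfl
theorem f41111 : Led Lsl_gt (LP (LK LD1_c2 LD2_c26 LD3_c1)) = (LP (LK LD1_c1 LD2_c10 LD3_c10)) :=
  Lre_g IH (LK LD1_c2 LD2_c26 LD3_c1) (LK LD1_c1 LD2_c10 LD3_c10) Lrfl Lrfl
theorem f54869 : Led Lsl_gf (LP (LK LD1_c2 LD2_c26 LD3_c1)) = (LP (LK LD1_c2 LD2_c0 LD3_c54)) :=
  Lgr Lrot47 (Lpr_gt (f41111 IH) (Lpe (K1.f41094 IH) (Lpr_ff (K9.f54866 IH) (Lpn (LP (LK LD1_c2 LD2_c0 LD3_c54))))))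
theorem f180003 : Led Lsl_et (LP (LK LD1_c4 LD2_c53 LD3_c27)) = (LP (LK LD1_c2 LD2_c26 LD3_c1)) :=
  Lgr Lrot122 (Lpr_dt (f167023 IH) (Lpr_gt (f167018 IH) (Lpe (f179960 IH) (Lpr_et (f179962 IH) (Lpr_gt (K11.f178301 IH) (Lpr_dt (K9.f168977 IH) (Lpe (K9.f168996 IH) (Lpe (K2.f47910 IH) (Lpr_et (K9.f47911 IH) (Lpe (f54869 IH) (Lpn (LP (LK LD1_c2 LD2_c26 LD3_c1)))))))))))))
theorem f167024 : Led Lsl_dt (LP (LK LD1_c2 LD2_c24 LD3_c31)) = (LP (LK LD1_c4 LD2_c53 LD3_c27)) :=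
  Lre_d IH (LK LD1_c2 LD2_c24 LD3_c31) (LK LD1_c4 LD2_c53 LD3_c27) Lrfl Lrfl
theorem f179971 : Led Lsl_et (LP (LK LD1_c4 LD2_c53 LD3_c28)) = (LP (LK LD1_c2 LD2_c24 LD3_c31)) :=
  Lre_e IH (LK LD1_c4 LD2_c53 LD3_c28) (LK LD1_c2 LD2_c24 LD3_c31) Lrfl Lrfl
theorem f179548 : Led Lsl_et (LP (LK LD1_c1 LD2_c0 LD3_c41)) = (LP (LK LD1_c0 LD2_c27 LD3_c36)) :=
  Lre_e IH (LK LD1_c1 LD2_c0 LD3_c41) (LK LD1_c0 LD2_c27 LD3_c36) Lrfl Lrfl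
theorem f179549 : Led Lsl_dt (LP (LK LD1_c1 LD2_c0 LD3_c41)) = (LP (LK LD1_c2 LD2_c7 LD3_c20)) :=
  Lre_d IH (LK LD1_c1 LD2_c0 LD3_c41) (LK LD1_c2 LD2_c7 LD3_c20) Lrfl Lrfl
theorem f179972 : Led Lsl_df (LP (LK LD1_c4 LD2_c19 LD3_c46)) = (LP (LK LD1_c4 LD2_c53 LD3_c28)) :=
  Lgr Lrot168 (Lpe (f179550 IH) (Lpe (f179549 IH) (Lpr_et (f179548 IH) (Lpr_gf (K9.f179529 IH) (Lpe (f171487 IH) (Lpr_dt (f171488 IH) (Lpe (f171765 IH) (Lpr_df (f179847 IH) (Lpe (f167018 IH) (Lpe (f179971 IH) (Lpn (LP (LK LD1_c4 LD2_c53 LD3_c28)))))))))))))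
theorem f179976 : Led Lsl_dt (LP (LK LD1_c4 LD2_c19 LD3_c46)) = (LP (LK LD1_c4 LD2_c53 LD3_c28)) :=
  Lgr Lrot42 (Lpr_df (f179972 IH) (Lpn (LP (LK LD1_c4 LD2_c53 LD3_c28))))
theorem f54879 : Led Lsl_dt (LP (LK LD1_c2 LD2_c26 LD3_c1)) = (LP (LK LD1_c4 LD2_c56 LD3_c32)) :=
  Lre_d IH (LK LD1_c2 LD2_c26 LD3_c1) (LK LD1_c4 LD2_c56 LD3_c32) Lrfl Lrfl
theorem f180006 : Led Lsl_ef (LP (LK LD1_c4 LD2_c19 LD3_c46)) = (LP (LK LD1_c4 LD2_c56 LD3_c32)) :=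
  Lgr Lrot73 (Lpr_dt (f179976 IH) (Lpr_et (f179971 IH) (Lpr_dt (f167024 IH) (Lpr_et (f180003 IH) (Lpr_dt (f54879 IH) (Lpn (LP (LK LD1_c4 LD2_c56 LD3_c32))))))))
theorem f54884 : Led Lsl_dt (LP (LK LD1_c4 LD2_c56 LD3_c32)) = (LP (LK LD1_c2 LD2_c26 LD3_c1)) :=
  Lre_d IH (LK LD1_c4 LD2_c56 LD3_c32) (LK LD1_c2 LD2_c26 LD3_c1) Lrfl Lrfl
theorem f238311 : Led Lsl_gf (LP (LK LD1_c0 LD2_c54 LD3_c46)) = (LP (LK LD1_c0 LD2_c32 LD3_c27)) :=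
  Lgr Lrot138 (Lpe (f238309 IH) (Lpr_gt (f238303 IH) (Lpe (K9.f179852 IH) (Lpr_et (f179983 IH) (Lpr_gt (f179550 IH) (Lpr_ef (f180006 IH) (Lpr_dt (f54884 IH) (Lpr_gt (f41111 IH) (Lpe (K9.f41323 IH) (Lpr_et (K1.f41093 IH) (Lpn (LP (LK LD1_c0 LD2_c32 LD3_c27)))))))))))))
theorem f238317 : Led Lsl_ct (LP (LK LD1_c0 LD2_c54 LD3_c46)) = (LP (LK LD1_c0 LD2_c35 LD3_c59)) :=
  Lgr Lrot152 (Lpr_gf (f238311 IH) (Lpe (K9.f40820 IH) (Lpe (K9.f171755 IH) (Lpr_ct (K9.f165205 IH) (Lpr_gt (K9.f8336 IH) (Lpr_ct (K9.f7879 IH) (Lpe (K9.f168090 IH) (Lpe (K9.f171862 IH) (Lpe (K9.f171863 IH) (Lpn (LP (LK LD1_c0 LD2_c35 LD3_c59))))))))))))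
theorem f44738 : Led Lsl_bt (LP (LK LD1_c0 LD2_c28 LD3_c44)) = (LP (LK LD1_c1 LD2_c2 LD3_c41)) :=
  Lre_b IH (LK LD1_c0 LD2_c28 LD3_c44) (LK LD1_c1 LD2_c2 LD3_c41) Lrfl Lrfl
theorem f238327 : Led Lsl_bt (LP (LK LD1_c0 LD2_c54 LD3_c46)) = (LP (LK LD1_c0 LD2_c59 LD3_c22)) :=
  Lgr Lrot130 (Lpr_ct (f238317 IH) (Lpe (K9.f172294 IH) (Lpe (K9.f172858 IH) (Lpr_bt (f44738 IH) (Lpe (K12.f220796 IH) (Lpe (K12.f200808 IH) (Lpr_ct (K11.f199145 IH) (Lpe (K11.f200796 IH) (Lpe (K11.f52667 IH) (Lpe (K11.f27782 IH) (Lpn (LP (LK LD1_c0 LD2_c59 LD3_c22)))))))))))))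
theorem f195896 : Led Lsl_gt (LP (LK LD1_c0 LD2_c15 LD3_c50)) = (LP (LK LD1_c0 LD2_c35 LD3_c18)) :=
  Lre_g IH (LK LD1_c0 LD2_c15 LD3_c50) (LK LD1_c0 LD2_c35 LD3_c18) Lrfl Lrfl
theorem f217728 : Led Lsl_gt (LP (LK LD1_c1 LD2_c16 LD3_c13)) = (LP (LK LD1_c2 LD2_c38 LD3_c36)) :=
  Lre_g IH (LK LD1_c1 LD2_c16 LD3_c13) (LK LD1_c2 LD2_c38 LD3_c36) Lrfl Lrfl
theorem f238329 : Led Lsl_gf (LP (LK LD1_c0 LD2_c59 LD3_c22)) = (LP (LK LD1_c1 LD2_c19 LD3_c4)) :=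
  Lgr Lrot124 (Lpe (f238327 IH) (Lpr_ct (f238317 IH) (Lpr_gt (K9.f171863 IH) (Lpe (K9.f174112 IH) (Lpr_bt (f213024 IH) (Lpr_gt (f195896 IH) (Lpr_ct (K12.f196824 IH) (Lpr_gt (f217728 IH) (Lpe (K12.f196833 IH) (Lpr_bt (K10.f196834 IH) (Lpn (LP (LK LD1_c1 LD2_c19 LD3_c4)))))))))))))
theorem f196923 : Led Lsl_ct (LP (LK LD1_c2 LD2_c4 LD3_c46)) = (LP (LK LD1_c1 LD2_c19 LD3_c4)) :=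
  Lgr Lrot59 (Lpr_cf (K10.f196905 IH) (Lpn (LP (LK LD1_c1 LD2_c19 LD3_c4))))
theorem f238331 : Led Lsl_df (LP (LK LD1_c4 LD2_c4 LD3_c20)) = (LP (LK LD1_c2 LD2_c45 LD3_c27)) :=
  Lgr Lrot84 (Lpe (K12.f200703 IH) (Lpr_df (K12.f223689 IH) (Lpe (K11.f211270 IH) (Lpr_df (K11.f211263 IH) (Lpr_gf (f238329 IH) (Lpe (f196923 IH) (Lpr_gt (K11.f200804 IH) (Lpe (K11.f200820 IH) (Lpe (K12.f228267 IH) (Lpn (LP (LK LD1_c2 LD2_c45 LD3_c27))))))))))))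
theorem f170711 : Led Lsl_ct (LP (LK LD1_c1 LD2_c9 LD3_c5)) = (LP (LK LD1_c2 LD2_c24 LD3_c7)) :=
  Lre_c IH (LK LD1_c1 LD2_c9 LD3_c5) (LK LD1_c2 LD2_c24 LD3_c7) Lrfl Lrfl
theorem f223588 : Led Lsl_df (LP (LK LD1_c2 LD2_c24 LD3_c7)) = (LP (LK LD1_c4 LD2_c1 LD3_c7)) :=
  Lgr Lrot84 (Lpe (f170711 IH) (Lpe (K10.f170692 IH) (Lpr_gf (K12.f180106 IH) (Lpe (K12.f52241 IH) (Lpe (K10.f28152 IH) (Lpe (K12.f52271 IH) (Lpe (K12.f216323 IH) (Lpe (K10.f52576 IH) (Lpr_gt (K12.f223586 IH) (Lpn (LP (LK LD1_c4 LD2_c1 LD3_c7))))))))))))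
theorem f170701 : Led Lsl_ct (LP (LK LD1_c2 LD2_c24 LD3_c7)) = (LP (LK LD1_c1 LD2_c9 LD3_c5)) :=
  Lre_c IH (LK LD1_c2 LD2_c24 LD3_c7) (LK LD1_c1 LD2_c9 LD3_c5) Lrfl Lrfl
theorem f223599 : Led Lsl_dt (LP (LK LD1_c1 LD2_c9 LD3_c7)) = (LP (LK LD1_c1 LD2_c57 LD3_c21)) :=
  Lgr Lrot173 (Lpe (K12.f178977 IH) (Lpe (K12.f193338 IH) (Lpe (K12.f2880 IH) (Lpe (K10.f2881 IH) (Lpe (f170701 IH) (Lpr_df (f223588 IH) (Lpe (K12.f187915 IH) (Lpe (K10.f187913 IH) (Lpe (K10.f170294 IH) (Lpe (K11.f180099 IH) (Lpe (K11.f8007 IH) (Lpe (K12.f8008 IH) (Lpe (K12.f180102 IH) (Lpr_df (K12.f223593 IH) (Lpe (K12.f193339 IH) (Lpn (LP (LK LD1_c1 LD2_c57 LD3_c21))))))))))))))))))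
theorem f238503 : Led Lsl_gf (LP (LK LD1_c1 LD2_c9 LD3_c7)) = (LP (LK LD1_c1 LD2_c1 LD3_c21)) :=
  Lgr Lrot143 (Lpr_dt (f223599 IH) (Lpe (K12.f52270 IH) (Lpe (K12.f223601 IH) (Lpe (K12.f200704 IH) (Lpr_df (f238331 IH) (Lpr_gf (K12.f228267 IH) (Lpe (K11.f28922 IH) (Lpr_gt (K9.f28823 IH) (Lpe (K9.f28828 IH) (Lpn (LP (LK LD1_c1 LD2_c1 LD3_c21))))))))))))
theorem f216332 : Led Lsl_et (LP (LK LD1_c1 LD2_c0 LD3_c31)) = (LP (LK LD1_c0 LD2_c27 LD3_c32)) :=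
  Lre_e IH (LK LD1_c1 LD2_c0 LD3_c31) (LK LD1_c0 LD2_c27 LD3_c32) Lrfl Lrfl
theorem f216333 : Led Lsl_dt (LP (LK LD1_c1 LD2_c0 LD3_c31)) = (LP (LK LD1_c2 LD2_c7 LD3_c2)) :=
  Lre_d IH (LK LD1_c1 LD2_c0 LD3_c31) (LK LD1_c2 LD2_c7 LD3_c2) Lrfl Lrfl
theorem f238506 : Led Lsl_gt (LP (LK LD1_c2 LD2_c7 LD3_c2)) = (LP (LK LD1_c1 LD2_c1 LD3_c20)) :=
  Lgr Lrot112 (Lpe (f216333 IH) (Lpr_et (f216332 IH) (Lpr_gf (K12.f216309 IH) (Lpr_ef (K1.f27951 IH) (Lpr_dt (K9.f27966 IH) (Lpe (K12.f27976 IH) (Lpe (f223599 IH) (Lpr_gf (f238503 IH) (Lpe (f28830 IH) (Lpr_dt (K12.f28903 IH) (Lpn (LP (LK LD1_c1 LD2_c1 LD3_c20)))))))))))))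
theorem f227942 : Led Lsl_ct (LP (LK LD1_c4 LD2_c19 LD3_c18)) = (LP (LK LD1_c2 LD2_c7 LD3_c2)) :=
  Lre_c IH (LK LD1_c4 LD2_c19 LD3_c18) (LK LD1_c2 LD2_c7 LD3_c2) Lrfl Lrfl
theorem f28945 : Led Lsl_ct (LP (LK LD1_c1 LD2_c1 LD3_c20)) = (LP (LK LD1_c2 LD2_c8 LD3_c22)) :=
  Lre_c IH (LK LD1_c1 LD2_c1 LD3_c20) (LK LD1_c2 LD2_c8 LD3_c22) Lrfl Lrfl
theorem f193271 : Led Lsl_ct (LP (LK LD1_c2 LD2_c8 LD3_c37)) = (LP (LK LD1_c1 LD2_c1 LD3_c27)) :=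
  Lre_c IH (LK LD1_c2 LD2_c8 LD3_c37) (LK LD1_c1 LD2_c1 LD3_c27) Lrfl Lrfl
theorem f187088 : Led Lsl_cf (LP (LK LD1_c2 LD2_c8 LD3_c30)) = (LP (LK LD1_c1 LD2_c9 LD3_c19)) :=
  Lgr Lrot169 (Lpr_gt (f38965 IH) (Lpr_ct (f39028 IH) (Lpe (K1.f28838 IH) (Lpe (K1.f28953 IH) (Lpe (K9.f27826 IH) (Lpe (K10.f180209 IH) (Lpr_gf (K10.f187080 IH) (Lpe (K1.f29180 IH) (Lpe (K12.f30683 IH) (Lpn (LP (LK LD1_c1 LD2_c9 LD3_c19))))))))))))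
theorem f193272 : Led Lsl_df (LP (LK LD1_c2 LD2_c8 LD3_c37)) = (LP (LK LD1_c4 LD2_c22 LD3_c11)) :=
  Lgr Lrot174 (Lpr_ct (f193271 IH) (Lpe (K10.f193191 IH) (Lpr_gf (K10.f193264 IH) (Lpe (K1.f2434 IH) (Lpe (K12.f2451 IH) (Lpe (f187088 IH) (Lpr_gt (f38965 IH) (Lpr_dt (K1.f38930 IH) (Lpr_gt (f38963 IH) (Lpn (LP (LK LD1_c4 LD2_c22 LD3_c11))))))))))))
theorem f238511 : Led Lsl_gf (LP (LK LD1_c4 LD2_c19 LD3_c18)) = (LP (LK LD1_c2 LD2_c8 LD3_c37)) :=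
  Lgr Lrot179 (Lpr_ct (f227942 IH) (Lpr_gt (f238506 IH) (Lpr_ct (f28945 IH) (Lpr_dt (K12.f28946 IH) (Lpr_cf (K12.f216590 IH) (Lpe (K12.f29617 IH) (Lpe (K1.f38945 IH) (Lpr_gf (f39429 IH) (Lpe (f193272 IH) (Lpn (LP (LK LD1_c2 LD2_c8 LD3_c37))))))))))))
theorem f28934 : Led Lsl_dt (LP (LK LD1_c4 LD2_c21 LD3_c42)) = (LP (LK LD1_c2 LD2_c8 LD3_c22)) :=
  Lre_d IH (LK LD1_c4 LD2_c21 LD3_c42) (LK LD1_c2 LD2_c8 LD3_c22) Lrfl Lrfl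
theorem f238617 : Led Lsl_df (LP (LK LD1_c4 LD2_c22 LD3_c11)) = (LP (LK LD1_c2 LD2_c8 LD3_c37)) :=
  Lgr Lrot155 (Lpe (f39429 IH) (Lpr_ct (K1.f38945 IH) (Lpr_gt (K12.f29617 IH) (Lpe (K12.f216590 IH) (Lpr_dt (f28934 IH) (Lpe (f28945 IH) (Lpe (f238506 IH) (Lpe (f227942 IH) (Lpr_gf (f238511 IH) (Lpn (LP (LK LD1_c2 LD2_c8 LD3_c37))))))))))))
theorem f180213 : Led Lsl_dt (LP (LK LD1_c2 LD2_c8 LD3_c51)) = (LP (LK LD1_c1 LD2_c1 LD3_c37)) :=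
  Lre_d IH (LK LD1_c2 LD2_c8 LD3_c51) (LK LD1_c1 LD2_c1 LD3_c37) Lrfl Lrfl
theorem f187087 : Led Lsl_ct (LP (LK LD1_c1 LD2_c1 LD3_c35)) = (LP (LK LD1_c2 LD2_c8 LD3_c48)) :=
  Lre_c IH (LK LD1_c1 LD2_c1 LD3_c35) (LK LD1_c2 LD2_c8 LD3_c48) Lrfl Lrfl
theorem f193270 : Led Lsl_ct (LP (LK LD1_c1 LD2_c1 LD3_c27)) = (LP (LK LD1_c2 LD2_c8 LD3_c37)) :=
  Lre_c IH (LK LD1_c1 LD2_c1 LD3_c27) (LK LD1_c2 LD2_c8 LD3_c37) Lrfl Lrfl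
theorem f238722 : Led Lsl_dt (LP (LK LD1_c2 LD2_c8 LD3_c48)) = (LP (LK LD1_c4 LD2_c22 LD3_c12)) :=
  Lgr Lrot173 (Lpe (f187087 IH) (Lpe (K12.f181983 IH) (Lpe (K10.f180211 IH) (Lpe (K9.f34768 IH) (Lpe (K11.f180216 IH) (Lpe (f180213 IH) (Lpr_cf (f211160 IH) (Lpr_df (f238617 IH) (Lpe (f193270 IH) (Lpe (K10.f193191 IH) (Lpe (K12.f167781 IH) (Lpe (K10.f35481 IH) (Lpe (f173271 IH) (Lpe (f173280 IH) (Lpr_cf (f237409 IH) (Lpn (LP (LK LD1_c4 LD2_c22 LD3_c12))))))))))))))))))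
theorem f196242 : Led Lsl_ct (LP (LK LD1_c4 LD2_c4 LD3_c46)) = (LP (LK LD1_c1 LD2_c59 LD3_c23)) :=
  Lre_c IH (LK LD1_c4 LD2_c4 LD3_c46) (LK LD1_c1 LD2_c59 LD3_c23) Lrfl Lrfl
theorem f181416 : Led Lsl_ct (LP (LK LD1_c1 LD2_c1 LD3_c38)) = (LP (LK LD1_c0 LD2_c28 LD3_c9)) :=
  Lre_c IH (LK LD1_c1 LD2_c1 LD3_c38) (LK LD1_c0 LD2_c28 LD3_c9) Lrfl Lrfl
theorem f229317 : Led Lsl_ct (LP (LK LD1_c2 LD2_c8 LD3_c43)) = (LP (LK LD1_c4 LD2_c22 LD3_c12)) :=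
  Lgr Lrot152 (Lpr_gf (K12.f229289 IH) (Lpe (K1.f6922 IH) (Lpr_gt (K10.f193672 IH) (Lpr_ct (f181416 IH) (Lpr_gt (K9.f181414 IH) (Lpr_ct (K1.f38967 IH) (Lpe (K1.f38918 IH) (Lpr_cf (K1.f38931 IH) (Lpe (f38968 IH) (Lpn (LP (LK LD1_c4 LD2_c22 LD3_c12))))))))))))
theorem f238756 : Led Lsl_gf (LP (LK LD1_c4 LD2_c4 LD3_c46)) = (LP (LK LD1_c3 LD2_c56 LD3_c59)) :=
  Lgr Lrot179 (Lpr_ct (f196242 IH) (Lpr_gt (K12.f224877 IH) (Lpr_ct (f187087 IH) (Lpr_dt (f238722 IH) (Lpe (f229317 IH) (Lpr_gf (K12.f229289 IH) (Lpe (K1.f6955 IH) (Lpr_gf (f30677 IH) (Lpe (K12.f229436 IH) (Lpn (LP (LK LD1_c3 LD2_c56 LD3_c59))))))))))))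
theorem f197713 : Led Lsl_dt (LP (LK LD1_c4 LD2_c4 LD3_c46)) = (LP (LK LD1_c8 LD2_c10 LD3_c22)) :=
  Lre_d IH (LK LD1_c4 LD2_c4 LD3_c46) (LK LD1_c8 LD2_c10 LD3_c22) Lrfl Lrfl
theorem f29573 : Led Lsl_af (LP (LK LD1_c1 LD2_c56 LD3_c47)) = (LP (LK LD1_c1 LD2_c56 LD3_c61)) :=
  Lgr Lrot117 (Lpr_dt (K1.f2977 IH) (Lpr_at (K1.f29568 IH) (Lpr_dt (K1.f29572 IH) (Lpn (LP (LK LD1_c1 LD2_c56 LD3_c61))))))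
theorem f29688 : Led Lsl_ft (LP (LK LD1_c4 LD2_c0 LD3_c32)) = (LP (LK LD1_c1 LD2_c56 LD3_c61)) :=
  Lre_f IH (LK LD1_c4 LD2_c0 LD3_c32) (LK LD1_c1 LD2_c56 LD3_c61) Lrfl Lrfl
theorem f224994 : Led Lsl_gt (LP (LK LD1_c4 LD2_c0 LD3_c32)) = (LP (LK LD1_c2 LD2_c8 LD3_c51)) :=
  Lgr Lrot5 (Lpr_ft (f29688 IH) (Lpe (f29573 IH) (Lpr_gf (K12.f224992 IH) (Lpn (LP (LK LD1_c2 LD2_c8 LD3_c51))))))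
theorem f173288 : Led Lsl_dt (LP (LK LD1_c2 LD2_c8 LD3_c41)) = (LP (LK LD1_c4 LD2_c22 LD3_c28)) :=
  Lre_d IH (LK LD1_c2 LD2_c8 LD3_c41) (LK LD1_c4 LD2_c22 LD3_c28) Lrfl Lrfl
theorem f238805 : Led Lsl_cf (LP (LK LD1_c8 LD2_c10 LD3_c22)) = (LP (LK LD1_c4 LD2_c22 LD3_c28)) :=
  Lgr Lrot14 (Lpe (f197713 IH) (Lpr_gf (f238756 IH) (Lpr_df (K12.f229436 IH) (Lpe (K12.f2527 IH) (Lpr_ct (K12.f29679 IH) (Lpr_gt (f224994 IH) (Lpr_dt (f180213 IH) (Lpe (f229298 IH) (Lpr_dt (f173288 IH) (Lpn (LP (LK LD1_c4 LD2_c22 LD3_c28))))))))))))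
theorem f201275 : Led Lsl_dt (LP (LK LD1_c1 LD2_c58 LD3_c54)) = (LP (LK LD1_c0 LD2_c56 LD3_c15)) :=
  Lre_d IH (LK LD1_c1 LD2_c58 LD3_c54) (LK LD1_c0 LD2_c56 LD3_c15) Lrfl Lrfl
theorem f39190 : Led Lsl_ct (LP (LK LD1_c2 LD2_c8 LD3_c24)) = (LP (LK LD1_c1 LD2_c1 LD3_c22)) :=
  Lre_c IH (LK LD1_c2 LD2_c8 LD3_c24) (LK LD1_c1 LD2_c1 LD3_c22) Lrfl Lrfl
theorem f227216 : Led Lsl_dt (LP (LK LD1_c4 LD2_c21 LD3_c48)) = (LP (LK LD1_c2 LD2_c8 LD3_c24)) :=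
  Lre_d IH (LK LD1_c4 LD2_c21 LD3_c48) (LK LD1_c2 LD2_c8 LD3_c24) Lrfl Lrfl
theorem f238801 : Led Lsl_gt (LP (LK LD1_c8 LD2_c10 LD3_c22)) = (LP (LK LD1_c4 LD2_c21 LD3_c48)) :=
  Lgr Lrot49 (Lpe (f197713 IH) (Lpr_gf (f238756 IH) (Lpe (K12.f42737 IH) (Lpe (f229890 IH) (Lpr_dt (f201275 IH) (Lpr_gt (K12.f201237 IH) (Lpr_dt (K12.f227192 IH) (Lpe (f39190 IH) (Lpe (f227216 IH) (Lpn (LP (LK LD1_c4 LD2_c21 LD3_c48))))))))))))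
theorem f168872 : Led Lsl_ct (LP (LK LD1_c0 LD2_c32 LD3_c40)) = (LP (LK LD1_c1 LD2_c10 LD3_c30)) :=
  Lre_c IH (LK LD1_c0 LD2_c32 LD3_c40) (LK LD1_c1 LD2_c10 LD3_c30) Lrfl Lrfl
theorem f211117 : Led Lsl_gt (LP (LK LD1_c1 LD2_c10 LD3_c30)) = (LP (LK LD1_c0 LD2_c55 LD3_c19)) :=
  Lgr Lrot94 (Lpe (f168872 IH) (Lpr_gt (K9.f174944 IH) (Lpr_dt (K1.f35597 IH) (Lpr_gt (K10.f28518 IH) (Lpr_dt (f28525 IH) (Lpe (K11.f174948 IH) (Lpe (f174949 IH) (Lpr_gf (K11.f211111 IH) (Lpe (K1.f29572 IH) (Lpn (LP (LK LD1_c0 LD2_c55 LD3_c19))))))))))))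
theorem f172832 : Led Lsl_dt (LP (LK LD1_c2 LD2_c26 LD3_c24)) = (LP (LK LD1_c1 LD2_c10 LD3_c30)) :=
  Lre_d IH (LK LD1_c2 LD2_c26 LD3_c24) (LK LD1_c1 LD2_c10 LD3_c30) Lrfl Lrfl
theorem f238820 : Led Lsl_gf (LP (LK LD1_c2 LD2_c26 LD3_c24)) = (LP (LK LD1_c4 LD2_c22 LD3_c28)) :=
  Lgr Lrot144 (Lpr_dt (f172832 IH) (Lpr_gt (f211117 IH) (Lpr_dt (K1.f29572 IH) (Lpe (f29260 IH) (Lpr_df (f29261 IH) (Lpr_gf (f216822 IH) (Lpe (f227216 IH) (Lpe (f238801 IH) (Lpr_cf (f238805 IH) (Lpn (LP (LK LD1_c4 LD2_c22 LD3_c28))))))))))))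
theorem f172763 : Led Lsl_ct (LP (LK LD1_c2 LD2_c26 LD3_c24)) = (LP (LK LD1_c4 LD2_c56 LD3_c59)) :=
  Lre_c IH (LK LD1_c2 LD2_c26 LD3_c24) (LK LD1_c4 LD2_c56 LD3_c59) Lrfl Lrfl
theorem f168871 : Led Lsl_bt (LP (LK LD1_c0 LD2_c32 LD3_c40)) = (LP (LK LD1_c0 LD2_c14 LD3_c40)) :=
  Lre_b IH (LK LD1_c0 LD2_c32 LD3_c40) (LK LD1_c0 LD2_c14 LD3_c40) Lrfl Lrfl
theorem f197803 : Led Lsl_gf (LP (LK LD1_c1 LD2_c10 LD3_c30)) = (LP (LK LD1_c1 LD2_c56 LD3_c48)) :=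
  Lgr Lrot129 (Lpe (f168872 IH) (Lpr_bt (f168871 IH) (Lpr_gt (K9.f168550 IH) (Lpe (K9.f172848 IH) (Lpr_ct (K9.f165207 IH) (Lpr_gt (K9.f68576 IH) (Lpe (K9.f174953 IH) (Lpr_bt (K10.f174966 IH) (Lpr_gt (K10.f197799 IH) (Lpr_ct (K1.f6950 IH) (Lpn (LP (LK LD1_c1 LD2_c56 LD3_c48)))))))))))))
theorem f172741 : Led Lsl_dt (LP (LK LD1_c1 LD2_c10 LD3_c30)) = (LP (LK LD1_c2 LD2_c26 LD3_c24)) :=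
  Lre_d IH (LK LD1_c1 LD2_c10 LD3_c30) (LK LD1_c2 LD2_c26 LD3_c24) Lrfl Lrfl
theorem f172752 : Led Lsl_ct (LP (LK LD1_c4 LD2_c56 LD3_c59)) = (LP (LK LD1_c2 LD2_c26 LD3_c24)) :=
  Lre_c IH (LK LD1_c4 LD2_c56 LD3_c59) (LK LD1_c2 LD2_c26 LD3_c24) Lrfl Lrfl
theorem f236890 : Led Lsl_dt (LP (LK LD1_c3 LD2_c57 LD3_c5)) = (LP (LK LD1_c4 LD2_c56 LD3_c59)) :=
  Lgr Lrot105 (Lpe (f43201 IH) (Lpe (K12.f39031 IH) (Lpr_gf (f236855 IH) (Lpe (f236594 IH) (Lpr_gt (K11.f211115 IH) (Lpr_dt (K1.f6939 IH) (Lpe (f197803 IH) (Lpr_dt (f172741 IH) (Lpe (f172752 IH) (Lpn (LP (LK LD1_c4 LD2_c56 LD3_c59))))))))))))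
theorem f236484 : Led Lsl_cf (LP (LK LD1_c3 LD2_c57 LD3_c5)) = (LP (LK LD1_c1 LD2_c56 LD3_c54)) :=
  Lgr Lrot11 (Lpr_ct (f236477 IH) (Lpn (LP (LK LD1_c1 LD2_c56 LD3_c54))))
theorem f29657 : Led Lsl_at (LP (LK LD1_c1 LD2_c9 LD3_c20)) = (LP (LK LD1_c1 LD2_c56 LD3_c56)) :=
  Lgr Lrot100 (Lpr_af (K1.f29650 IH) (Lpn (LP (LK LD1_c1 LD2_c56 LD3_c56))))
theorem f216713 : Led Lsl_gf (LP (LK LD1_c1 LD2_c56 LD3_c56)) = (LP (LK LD1_c2 LD2_c8 LD3_c27)) :=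
  Lgr Lrot76 (Lpe (f29657 IH) (Lpe (f2748 IH) (Lpr_gt (K12.f216701 IH) (Lpn (LP (LK LD1_c2 LD2_c8 LD3_c27))))))
theorem f216725 : Led Lsl_dt (LP (LK LD1_c4 LD2_c21 LD3_c57)) = (LP (LK LD1_c2 LD2_c8 LD3_c27)) :=
  Lre_d IH (LK LD1_c4 LD2_c21 LD3_c57) (LK LD1_c2 LD2_c8 LD3_c27) Lrfl Lrfl
theorem f238803 : Led Lsl_ct (LP (LK LD1_c8 LD2_c10 LD3_c22)) = (LP (LK LD1_c4 LD2_c22 LD3_c28)) :=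
  Lgr Lrot7 (Lpe (f197713 IH) (Lpr_gf (f238756 IH) (Lpr_df (K12.f229436 IH) (Lpe (K12.f2527 IH) (Lpr_cf (K1.f29704 IH) (Lpr_gt (f224994 IH) (Lpr_dt (f180213 IH) (Lpe (f229298 IH) (Lpr_dt (f173288 IH) (Lpn (LP (LK LD1_c4 LD2_c22 LD3_c28))))))))))))
theorem f238836 : Led Lsl_gt (LP (LK LD1_c4 LD2_c21 LD3_c57)) = (LP (LK LD1_c8 LD2_c10 LD3_c22)) :=
  Lgr Lrot146 (Lpr_dt (f216725 IH) (Lpe (f216713 IH) (Lpr_ct (K12.f28941 IH) (Lpr_gt (K12.f29643 IH) (Lpe (f236484 IH) (Lpr_dt (f236890 IH) (Lpe (f172763 IH) (Lpr_gf (f238820 IH) (Lpe (f238803 IH) (Lpn (LP (LK LD1_c8 LD2_c10 LD3_c22))))))))))))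
theorem f216715 : Led Lsl_dt (LP (LK LD1_c2 LD2_c8 LD3_c27)) = (LP (LK LD1_c4 LD2_c21 LD3_c57)) :=
  Lre_d IH (LK LD1_c2 LD2_c8 LD3_c27) (LK LD1_c4 LD2_c21 LD3_c57) Lrfl Lrfl
theorem f238844 : Led Lsl_df (LP (LK LD1_c3 LD2_c57 LD3_c5)) = (LP (LK LD1_c4 LD2_c56 LD3_c59)) :=
  Lgr Lrot162 (Lpr_cf (f236484 IH) (Lpe (K12.f29643 IH) (Lpe (K12.f28941 IH) (Lpr_gf (f216713 IH) (Lpr_dt (f216715 IH) (Lpr_gt (f238836 IH) (Lpr_ct (f238803 IH) (Lpe (f238820 IH) (Lpr_ct (f172763 IH) (Lpn (LP (LK LD1_c4 LD2_c56 LD3_c59))))))))))))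
theorem f180146 : Led Lsl_dt (LP (LK LD1_c4 LD2_c19 LD3_c20)) = (LP (LK LD1_c2 LD2_c7 LD3_c4)) :=
  Lre_d IH (LK LD1_c4 LD2_c19 LD3_c20) (LK LD1_c2 LD2_c7 LD3_c4) Lrfl Lrfl
theorem f180224 : Led Lsl_ct (LP (LK LD1_c8 LD2_c37 LD3_c1)) = (LP (LK LD1_c4 LD2_c19 LD3_c20)) :=
  Lre_c IH (LK LD1_c8 LD2_c37 LD3_c1) (LK LD1_c4 LD2_c19 LD3_c20) Lrfl Lrfl
theorem f238834 : Led Lsl_gt (LP (LK LD1_c4 LD2_c56 LD3_c59)) = (LP (LK LD1_c8 LD2_c37 LD3_c1)) :=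
  Lgr Lrot150 (Lpe (f172763 IH) (Lpr_gf (f238820 IH) (Lpe (f173288 IH) (Lpr_gt (f173282 IH) (Lpr_ct (f173271 IH) (Lpe (K9.f180108 IH) (Lpr_ct (K11.f179877 IH) (Lpe (f180146 IH) (Lpe (f180224 IH) (Lpn (LP (LK LD1_c8 LD2_c37 LD3_c1))))))))))))
theorem f180133 : Led Lsl_dt (LP (LK LD1_c2 LD2_c7 LD3_c4)) = (LP (LK LD1_c4 LD2_c19 LD3_c20)) :=
  Lre_d IH (LK LD1_c2 LD2_c7 LD3_c4) (LK LD1_c4 LD2_c19 LD3_c20) Lrfl Lrfl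
theorem f59277 : Led Lsl_dt (LP (LK LD1_c3 LD2_c57 LD3_c24)) = (LP (LK LD1_c1 LD2_c55 LD3_c29)) :=
  Lre_d IH (LK LD1_c3 LD2_c57 LD3_c24) (LK LD1_c1 LD2_c55 LD3_c29) Lrfl Lrfl
theorem f211157 : Led Lsl_gt (LP (LK LD1_c4 LD2_c19 LD3_c20)) = (LP (LK LD1_c3 LD2_c57 LD3_c24)) :=
  Lgr Lrot49 (Lpe (f180133 IH) (Lpr_gf (K11.f211155 IH) (Lpe (K11.f179873 IH) (Lpr_gt (K11.f172558 IH) (Lpr_dt (K11.f196958 IH) (Lpr_gt (K12.f200397 IH) (Lpr_dt (K12.f30809 IH) (Lpe (K12.f197423 IH) (Lpe (f59277 IH) (Lpn (LP (LK LD1_c3 LD2_c57 LD3_c24))))))))))))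
theorem f229429 : Led Lsl_ct (LP (LK LD1_c1 LD2_c55 LD3_c18)) = (LP (LK LD1_c2 LD2_c24 LD3_c22)) :=
  Lgr Lrot59 (Lpr_cf (K12.f229414 IH) (Lpn (LP (LK LD1_c2 LD2_c24 LD3_c22))))
theorem f39160 : Led Lsl_ct (LP (LK LD1_c2 LD2_c8 LD3_c33)) = (LP (LK LD1_c1 LD2_c1 LD3_c25)) :=
  Lre_c IH (LK LD1_c2 LD2_c8 LD3_c33) (LK LD1_c1 LD2_c1 LD3_c25) Lrfl Lrfl
theorem f238864 : Led Lsl_gt (LP (LK LD1_c3 LD2_c57 LD3_c5)) = (LP (LK LD1_c2 LD2_c8 LD3_c33)) :=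
  Lgr Lrot9 (Lpr_df (f238844 IH) (Lpr_gt (f238834 IH) (Lpr_ct (f180224 IH) (Lpr_gt (f211157 IH) (Lpr_ct (f229285 IH) (Lpe (f29711 IH) (Lpe (f229429 IH) (Lpr_gf (f229483 IH) (Lpe (f39160 IH) (Lpn (LP (LK LD1_c2 LD2_c8 LD3_c33))))))))))))
theorem f238612 : Led Lsl_dt (LP (LK LD1_c4 LD2_c19 LD3_c18)) = (LP (LK LD1_c8 LD2_c36 LD3_c61)) :=
  Lre_d IH (LK LD1_c4 LD2_c19 LD3_c18) (LK LD1_c8 LD2_c36 LD3_c61) Lrfl Lrfl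
theorem f238862 : Led Lsl_gt (LP (LK LD1_c8 LD2_c36 LD3_c61)) = (LP (LK LD1_c4 LD2_c56 LD3_c59)) :=
  Lgr Lrot49 (Lpe (f238612 IH) (Lpr_gf (f238511 IH) (Lpe (f193270 IH) (Lpr_gt (K10.f193268 IH) (Lpr_dt (K10.f6931 IH) (Lpr_gt (K12.f192807 IH) (Lpr_dt (K12.f211486 IH) (Lpe (f236477 IH) (Lpr_df (f238844 IH) (Lpn (LP (LK LD1_c4 LD2_c56 LD3_c59))))))))))))
theorem f69718 : Led Lsl_ef (LP (LK LD1_c0 LD2_c55 LD3_c16)) = (LP (LK LD1_c0 LD2_c55 LD3_c42)) :=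
  Lgr Lrot88 (Lpr_et (K9.f69713 IH) (Lpn (LP (LK LD1_c0 LD2_c55 LD3_c42))))
theorem f69720 : Led Lsl_ct (LP (LK LD1_c1 LD2_c57 LD3_c39)) = (LP (LK LD1_c0 LD2_c55 LD3_c42)) :=
  Lre_c IH (LK LD1_c1 LD2_c57 LD3_c39) (LK LD1_c0 LD2_c55 LD3_c42) Lrfl Lrfl
theorem f69721 : Led Lsl_et (LP (LK LD1_c1 LD2_c56 LD3_c58)) = (LP (LK LD1_c1 LD2_c57 LD3_c39)) :=
  Lgr Lrot158 (Lpe (f28936 IH) (Lpr_ef (f69718 IH) (Lpe (f69720 IH) (Lpn (LP (LK LD1_c1 LD2_c57 LD3_c39))))))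
theorem f60220 : Led Lsl_ef (LP (LK LD1_c2 LD2_c4 LD3_c7)) = (LP (LK LD1_c2 LD2_c49 LD3_c2)) :=
  Lgr Lrot28 (Lpr_ct (K1.f27855 IH) (Lpr_et (K1.f60218 IH) (Lpr_ct (K10.f60200 IH) (Lpn (LP (LK LD1_c2 LD2_c49 LD3_c2))))))
theorem f201470 : Led Lsl_gf (LP (LK LD1_c2 LD2_c9 LD3_c12)) = (LP (LK LD1_c3 LD2_c57 LD3_c36)) :=
  Lgr Lrot134 (Lpr_df (f201460 IH) (Lpr_et (f69721 IH) (Lpe (K9.f181995 IH) (Lpr_ef (f60220 IH) (Lpr_dt (K10.f60293 IH) (Lpe (K10.f80605 IH) (Lpe (K10.f39212 IH) (Lpr_et (K10.f39211 IH) (Lpe (f39203 IH) (Lpr_dt (K1.f38964 IH) (Lpn (LP (LK LD1_c3 LD2_c57 LD3_c36)))))))))))))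
theorem f210339 : Led Lsl_dt (LP (LK LD1_c2 LD2_c8 LD3_c40)) = (LP (LK LD1_c4 LD2_c22 LD3_c27)) :=
  Lre_d IH (LK LD1_c2 LD2_c8 LD3_c40) (LK LD1_c4 LD2_c22 LD3_c27) Lrfl Lrfl
theorem f238613 : Led Lsl_ct (LP (LK LD1_c8 LD2_c36 LD3_c61)) = (LP (LK LD1_c4 LD2_c22 LD3_c27)) :=
  Lgr Lrot7 (Lpe (f238612 IH) (Lpr_gf (f238511 IH) (Lpr_df (f193272 IH) (Lpe (f38963 IH) (Lpe (K1.f38938 IH) (Lpe (f201470 IH) (Lpr_dt (f201465 IH) (Lpe (f237407 IH) (Lpr_dt (f210339 IH) (Lpn (LP (LK LD1_c4 LD2_c22 LD3_c27))))))))))))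
theorem f181321 : Led Lsl_dt (LP (LK LD1_c3 LD2_c57 LD3_c26)) = (LP (LK LD1_c1 LD2_c55 LD3_c30)) :=
  Lre_d IH (LK LD1_c3 LD2_c57 LD3_c26) (LK LD1_c1 LD2_c55 LD3_c30) Lrfl Lrfl
theorem f238874 : Led Lsl_gt (LP (LK LD1_c4 LD2_c22 LD3_c27)) = (LP (LK LD1_c3 LD2_c57 LD3_c26)) :=
  Lgr Lrot94 (Lpe (f238613 IH) (Lpr_gt (f238862 IH) (Lpe (f238844 IH) (Lpr_gt (f238864 IH) (Lpe (K12.f39259 IH) (Lpe (K1.f38951 IH) (Lpe (K11.f35666 IH) (Lpe (K12.f173355 IH) (Lpe (f181321 IH) (Lpn (LP (LK LD1_c3 LD2_c57 LD3_c26))))))))))))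
theorem f229270 : Led Lsl_ct (LP (LK LD1_c1 LD2_c55 LD3_c17)) = (LP (LK LD1_c2 LD2_c24 LD3_c21)) :=
  Lgr Lrot59 (Lpr_cf (K12.f229262 IH) (Lpn (LP (LK LD1_c2 LD2_c24 LD3_c21))))
theorem f39272 : Led Lsl_dt (LP (LK LD1_c7 LD2_c55 LD3_c54)) = (LP (LK LD1_c3 LD2_c57 LD3_c6)) :=
  Lre_d IH (LK LD1_c7 LD2_c55 LD3_c54) (LK LD1_c3 LD2_c57 LD3_c6) Lrfl Lrfl
theorem f238877 : Led Lsl_gf (LP (LK LD1_c8 LD2_c36 LD3_c61)) = (LP (LK LD1_c7 LD2_c55 LD3_c54)) :=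
  Lgr Lrot147 (Lpr_ct (f238613 IH) (Lpr_gt (f238874 IH) (Lpr_ct (f229410 IH) (Lpe (f2503 IH) (Lpe (f229270 IH) (Lpe (K12.f31136 IH) (Lpe (K12.f43103 IH) (Lpe (K12.f39271 IH) (Lpe (f39272 IH) (Lpn (LP (LK LD1_c7 LD2_c55 LD3_c54))))))))))))
theorem f236475 : Led Lsl_dt (LP (LK LD1_c8 LD2_c36 LD3_c61)) = (LP (LK LD1_c4 LD2_c19 LD3_c18)) :=
  Lre_d IH (LK LD1_c8 LD2_c36 LD3_c61) (LK LD1_c4 LD2_c19 LD3_c18) Lrfl Lrfl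
theorem f39178 : Led Lsl_dt (LP (LK LD1_c2 LD2_c8 LD3_c32)) = (LP (LK LD1_c1 LD2_c1 LD3_c24)) :=
  Lre_d IH (LK LD1_c2 LD2_c8 LD3_c32) (LK LD1_c1 LD2_c1 LD3_c24) Lrfl Lrfl
theorem f238752 : Led Lsl_gf (LP (LK LD1_c2 LD2_c8 LD3_c48)) = (LP (LK LD1_c4 LD2_c19 LD3_c18)) :=
  Lgr Lrot144 (Lpr_dt (f238722 IH) (Lpr_gt (f38968 IH) (Lpr_dt (f39178 IH) (Lpe (K1.f38929 IH) (Lpe (K1.f28838 IH) (Lpe (K9.f28820 IH) (Lpe (f28831 IH) (Lpe (f238506 IH) (Lpe (f227942 IH) (Lpn (LP (LK LD1_c4 LD2_c19 LD3_c18))))))))))))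
theorem f173290 : Led Lsl_dt (LP (LK LD1_c4 LD2_c22 LD3_c28)) = (LP (LK LD1_c2 LD2_c8 LD3_c41)) :=
  Lre_d IH (LK LD1_c4 LD2_c22 LD3_c28) (LK LD1_c2 LD2_c8 LD3_c41) Lrfl Lrfl
theorem f237712 : Led Lsl_ct (LP (LK LD1_c4 LD2_c21 LD3_c48)) = (LP (LK LD1_c2 LD2_c9 LD3_c4)) :=
  Lgr Lrot59 (Lpr_cf (f237707 IH) (Lpn (LP (LK LD1_c2 LD2_c9 LD3_c4))))
theorem f196305 : Led Lsl_dt (LP (LK LD1_c1 LD2_c55 LD3_c27)) = (LP (LK LD1_c3 LD2_c57 LD3_c21)) :=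
  Lre_d IH (LK LD1_c1 LD2_c55 LD3_c27) (LK LD1_c3 LD2_c57 LD3_c21) Lrfl Lrfl
theorem f238822 : Led Lsl_gt (LP (LK LD1_c3 LD2_c57 LD3_c21)) = (LP (LK LD1_c4 LD2_c22 LD3_c28)) :=
  Lgr Lrot9 (Lpe (f196305 IH) (Lpe (K10.f196296 IH) (Lpr_ct (K1.f6938 IH) (Lpe (K12.f29303 IH) (Lpr_ct (f29605 IH) (Lpe (f29618 IH) (Lpe (f237712 IH) (Lpe (f238801 IH) (Lpr_cf (f238805 IH) (Lpn (LP (LK LD1_c4 LD2_c22 LD3_c28))))))))))))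
theorem f238885 : Led Lsl_cf (LP (LK LD1_c3 LD2_c57 LD3_c21)) = (LP (LK LD1_c7 LD2_c55 LD3_c54)) :=
  Lgr Lrot166 (Lpr_gt (f238822 IH) (Lpr_dt (f173290 IH) (Lpr_gt (f173282 IH) (Lpr_dt (K12.f173289 IH) (Lpr_ct (f229317 IH) (Lpe (f238722 IH) (Lpr_gf (f238752 IH) (Lpe (f236475 IH) (Lpr_gf (f238877 IH) (Lpn (LP (LK LD1_c7 LD2_c55 LD3_c54))))))))))))
theorem f182348 : Led Lsl_dt (LP (LK LD1_c1 LD2_c1 LD3_c17)) = (LP (LK LD1_c0 LD2_c27 LD3_c61)) :=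
  Lre_d IH (LK LD1_c1 LD2_c1 LD3_c17) (LK LD1_c0 LD2_c27 LD3_c61) Lrfl Lrfl
theorem f216819 : Led Lsl_gt (LP (LK LD1_c2 LD2_c8 LD3_c15)) = (LP (LK LD1_c1 LD2_c1 LD3_c17)) :=
  Lre_g IH (LK LD1_c2 LD2_c8 LD3_c15) (LK LD1_c1 LD2_c1 LD3_c17) Lrfl Lrfl
theorem f238724 : Led Lsl_ct (LP (LK LD1_c2 LD2_c8 LD3_c15)) = (LP (LK LD1_c4 LD2_c21 LD3_c29)) :=
  Lre_c IH (LK LD1_c2 LD2_c8 LD3_c15) (LK LD1_c4 LD2_c21 LD3_c29) Lrfl Lrfl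
theorem f238725 : Led Lsl_gt (LP (LK LD1_c4 LD2_c21 LD3_c29)) = (LP (LK LD1_c2 LD2_c8 LD3_c37)) :=
  Lgr Lrot94 (Lpe (f238724 IH) (Lpr_gt (f216819 IH) (Lpr_dt (f182348 IH) (Lpr_gt (K12.f182350 IH) (Lpr_dt (K1.f38943 IH) (Lpe (K1.f38987 IH) (Lpr_df (K1.f39171 IH) (Lpr_gf (f39429 IH) (Lpr_df (f238617 IH) (Lpn (LP (LK LD1_c2 LD2_c8 LD3_c37))))))))))))
theorem f196302 : Led Lsl_dt (LP (LK LD1_c3 LD2_c57 LD3_c21)) = (LP (LK LD1_c1 LD2_c55 LD3_c27)) :=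
  Lre_d IH (LK LD1_c3 LD2_c57 LD3_c21) (LK LD1_c1 LD2_c55 LD3_c27) Lrfl Lrfl
theorem f227938 : Led Lsl_gt (LP (LK LD1_c3 LD2_c57 LD3_c26)) = (LP (LK LD1_c4 LD2_c19 LD3_c20)) :=
  Lgr Lrot49 (Lpe (f181316 IH) (Lpe (f181324 IH) (Lpe (K1.f39196 IH) (Lpe (K9.f174946 IH) (Lpe (K12.f196369 IH) (Lpr_gt (K12.f227934 IH) (Lpr_dt (K9.f180105 IH) (Lpe (K11.f180126 IH) (Lpe (f180146 IH) (Lpn (LP (LK LD1_c4 LD2_c19 LD3_c20))))))))))))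
theorem f211159 : Led Lsl_ct (LP (LK LD1_c4 LD2_c19 LD3_c20)) = (LP (LK LD1_c8 LD2_c37 LD3_c1)) :=
  Lre_c IH (LK LD1_c4 LD2_c19 LD3_c20) (LK LD1_c8 LD2_c37 LD3_c1) Lrfl Lrfl
theorem f238896 : Led Lsl_gt (LP (LK LD1_c8 LD2_c37 LD3_c1)) = (LP (LK LD1_c7 LD2_c55 LD3_c54)) :=
  Lgr Lrot150 (Lpe (f211159 IH) (Lpe (f227938 IH) (Lpe (f181316 IH) (Lpr_gt (K12.f173355 IH) (Lpr_ct (K11.f39255 IH) (Lpr_gt (K10.f28470 IH) (Lpr_ct (K10.f171777 IH) (Lpe (f196302 IH) (Lpr_cf (f238885 IH) (Lpn (LP (LK LD1_c7 LD2_c55 LD3_c54))))))))))))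
theorem f238900 : Led Lsl_df (LP (LK LD1_c4 LD2_c21 LD3_c29)) = (LP (LK LD1_c8 LD2_c37 LD3_c1)) :=
  Lgr Lrot155 (Lpr_gt (f238725 IH) (Lpr_ct (f193271 IH) (Lpr_gt (K10.f193268 IH) (Lpr_ct (K12.f197444 IH) (Lpr_dt (f197713 IH) (Lpr_cf (f238805 IH) (Lpe (f238822 IH) (Lpr_cf (f238885 IH) (Lpe (f238896 IH) (Lpn (LP (LK LD1_c8 LD2_c37 LD3_c1))))))))))))
theorem f238734 : Led Lsl_gf (LP (LK LD1_c2 LD2_c8 LD3_c15)) = (LP (LK LD1_c1 LD2_c1 LD3_c20)) :=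
  Lgr Lrot147 (Lpr_ct (f238724 IH) (Lpr_gt (f238725 IH) (Lpr_ct (f193271 IH) (Lpe (K10.f193191 IH) (Lpe (K12.f167781 IH) (Lpe (K9.f27910 IH) (Lpe (K1.f28948 IH) (Lpe (K9.f28820 IH) (Lpe (f28831 IH) (Lpn (LP (LK LD1_c1 LD2_c1 LD3_c20))))))))))))
theorem f196964 : Led Lsl_dt (LP (LK LD1_c2 LD2_c45 LD3_c39)) = (LP (LK LD1_c5 LD2_c39 LD3_c22)) :=
  Lre_d IH (LK LD1_c2 LD2_c45 LD3_c39) (LK LD1_c5 LD2_c39 LD3_c22) Lrfl Lrfl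
theorem f229412 : Led Lsl_cf (LP (LK LD1_c3 LD2_c57 LD3_c26)) = (LP (LK LD1_c4 LD2_c53 LD3_c4)) :=
  Lgr Lrot14 (Lpe (f181316 IH) (Lpe (f181324 IH) (Lpe (K1.f39199 IH) (Lpr_gf (K12.f229408 IH) (Lpr_ct (K12.f197721 IH) (Lpr_gt (K12.f2522 IH) (Lpr_dt (K1.f2756 IH) (Lpr_gt (K12.f2500 IH) (Lpr_dt (f2503 IH) (Lpn (LP (LK LD1_c4 LD2_c53 LD3_c4))))))))))))
theorem f238913 : Led Lsl_gt (LP (LK LD1_c5 LD2_c39 LD3_c22)) = (LP (LK LD1_c4 LD2_c53 LD3_c4)) :=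
  Lgr Lrot9 (Lpe (f196964 IH) (Lpe (K12.f196962 IH) (Lpr_ct (K12.f28933 IH) (Lpe (f238734 IH) (Lpr_ct (f238724 IH) (Lpr_df (f238900 IH) (Lpe (f211159 IH) (Lpe (f227938 IH) (Lpr_cf (f229412 IH) (Lpn (LP (LK LD1_c4 LD2_c53 LD3_c4))))))))))))
theorem f238919 : Led Lsl_cf (LP (LK LD1_c5 LD2_c39 LD3_c22)) = (LP (LK LD1_c4 LD2_c22 LD3_c56)) :=
  Lgr Lrot169 (Lpr_gt (f238913 IH) (Lpe (f229412 IH) (Lpe (f181316 IH) (Lpe (K12.f181223 IH) (Lpe (f193665 IH) (Lpe (K1.f29287 IH) (Lpr_gf (K10.f193688 IH) (Lpe (f181782 IH) (Lpr_gt (f193691 IH) (Lpn (LP (LK LD1_c4 LD2_c22 LD3_c56))))))))))))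
theorem f29637 : Led Lsl_at (LP (LK LD1_c2 LD2_c24 LD3_c25)) = (LP (LK LD1_c4 LD2_c0 LD3_c20)) :=
  Lgr Lrot107 (Lpe (K12.f2167 IH) (Lpr_af (K1.f29596 IH) (Lpe (K1.f29636 IH) (Lpn (LP (LK LD1_c4 LD2_c0 LD3_c20))))))
theorem f30692 : Led Lsl_gt (LP (LK LD1_c2 LD2_c24 LD3_c21)) = (LP (LK LD1_c4 LD2_c0 LD3_c20)) :=
  Lgr Lrot46 (Lpe (K12.f2500 IH) (Lpr_ft (K1.f2476 IH) (Lpr_at (f29637 IH) (Lpn (LP (LK LD1_c4 LD2_c0 LD3_c20))))))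
theorem f238944 : Led Lsl_gf (LP (LK LD1_c2 LD2_c8 LD3_c59)) = (LP (LK LD1_c4 LD2_c22 LD3_c56)) :=
  Lgr Lrot144 (Lpr_dt (f229866 IH) (Lpr_gt (f229315 IH) (Lpr_dt (K1.f6922 IH) (Lpe (K1.f6955 IH) (Lpr_df (K1.f29670 IH) (Lpe (f30692 IH) (Lpe (f30694 IH) (Lpe (f238913 IH) (Lpr_cf (f238919 IH) (Lpn (LP (LK LD1_c4 LD2_c22 LD3_c56))))))))))))
theorem f238938 : Led Lsl_ct (LP (LK LD1_c5 LD2_c39 LD3_c22)) = (LP (LK LD1_c4 LD2_c22 LD3_c56)) :=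
  Lgr Lrot59 (Lpr_cf (f238919 IH) (Lpn (LP (LK LD1_c4 LD2_c22 LD3_c56))))
theorem f238969 : Led Lsl_gt (LP (LK LD1_c4 LD2_c53 LD3_c7)) = (LP (LK LD1_c5 LD2_c39 LD3_c22)) :=
  Lgr Lrot9 (Lpe (f29711 IH) (Lpr_gt (K12.f2497 IH) (Lpr_ct (K1.f2491 IH) (Lpr_gt (K12.f2232 IH) (Lpe (f193274 IH) (Lpe (f39003 IH) (Lpe (f237477 IH) (Lpr_gf (f238944 IH) (Lpe (f238938 IH) (Lpn (LP (LK LD1_c5 LD2_c39 LD3_c22))))))))))))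
theorem f229714 : Led Lsl_cf (LP (LK LD1_c3 LD2_c57 LD3_c24)) = (LP (LK LD1_c4 LD2_c53 LD3_c7)) :=
  Lgr Lrot55 (Lpr_dt (f59277 IH) (Lpr_ct (K12.f197423 IH) (Lpr_dt (K12.f3047 IH) (Lpr_ct (K12.f227946 IH) (Lpe (K12.f227955 IH) (Lpr_ct (f229270 IH) (Lpr_dt (f2503 IH) (Lpe (f229412 IH) (Lpr_dt (f181321 IH) (Lpe (K12.f181314 IH) (Lpe (f193657 IH) (Lpr_ct (f193651 IH) (Lpr_dt (f229712 IH) (Lpr_ct (f229429 IH) (Lpr_dt (f29711 IH) (Lpn (LP (LK LD1_c4 LD2_c53 LD3_c7))))))))))))))))))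
theorem f179541 : Led Lsl_dt (LP (LK LD1_c5 LD2_c39 LD3_c22)) = (LP (LK LD1_c2 LD2_c45 LD3_c39)) :=
  Lre_d IH (LK LD1_c5 LD2_c39 LD3_c22) (LK LD1_c2 LD2_c45 LD3_c39) Lrfl Lrfl
theorem f210337 : Led Lsl_dt (LP (LK LD1_c4 LD2_c22 LD3_c27)) = (LP (LK LD1_c2 LD2_c8 LD3_c40)) :=
  Lre_d IH (LK LD1_c4 LD2_c22 LD3_c27) (LK LD1_c2 LD2_c8 LD3_c40) Lrfl Lrfl
theorem f238975 : Led Lsl_gt (LP (LK LD1_c3 LD2_c57 LD3_c24)) = (LP (LK LD1_c4 LD2_c22 LD3_c27)) :=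
  Lgr Lrot94 (Lpr_cf (f229714 IH) (Lpr_gt (f238969 IH) (Lpr_dt (f179541 IH) (Lpe (K12.f196962 IH) (Lpr_dt (K12.f28946 IH) (Lpr_cf (K12.f216590 IH) (Lpr_df (K12.f210326 IH) (Lpe (K12.f210335 IH) (Lpe (f210337 IH) (Lpn (LP (LK LD1_c4 LD2_c22 LD3_c27))))))))))))
theorem f238615 : Led Lsl_cf (LP (LK LD1_c8 LD2_c36 LD3_c61)) = (LP (LK LD1_c4 LD2_c22 LD3_c27)) :=
  Lgr Lrot14 (Lpe (f238612 IH) (Lpr_gf (f238511 IH) (Lpr_df (f193272 IH) (Lpe (f38963 IH) (Lpe (K1.f38931 IH) (Lpe (f201470 IH) (Lpr_dt (f201465 IH) (Lpe (f237407 IH) (Lpr_dt (f210339 IH) (Lpn (LP (LK LD1_c4 LD2_c22 LD3_c27))))))))))))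
theorem f236476 : Led Lsl_ct (LP (LK LD1_c2 LD2_c7 LD3_c2)) = (LP (LK LD1_c4 LD2_c19 LD3_c18)) :=
  Lre_c IH (LK LD1_c2 LD2_c7 LD3_c2) (LK LD1_c4 LD2_c19 LD3_c18) Lrfl Lrfl
theorem f180221 : Led Lsl_dt (LP (LK LD1_c0 LD2_c27 LD3_c61)) = (LP (LK LD1_c1 LD2_c1 LD3_c17)) :=
  Lre_d IH (LK LD1_c0 LD2_c27 LD3_c61) (LK LD1_c1 LD2_c1 LD3_c17) Lrfl Lrfl
theorem f180222 : Led Lsl_gf (LP (LK LD1_c2 LD2_c7 LD3_c2)) = (LP (LK LD1_c1 LD2_c1 LD3_c17)) :=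
  Lgr Lrot143 (Lpr_dt (f170307 IH) (Lpe (K12.f170318 IH) (Lpe (K11.f180115 IH) (Lpr_gf (K9.f180108 IH) (Lpe (K9.f27911 IH) (Lpe (K9.f27910 IH) (Lpe (K1.f28948 IH) (Lpr_gt (K12.f177899 IH) (Lpr_dt (f180221 IH) (Lpn (LP (LK LD1_c1 LD2_c1 LD3_c17))))))))))))
theorem f182344 : Led Lsl_ct (LP (LK LD1_c2 LD2_c8 LD3_c16)) = (LP (LK LD1_c1 LD2_c1 LD3_c17)) :=
  Lre_c IH (LK LD1_c2 LD2_c8 LD3_c16) (LK LD1_c1 LD2_c1 LD3_c17) Lrfl Lrfl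
theorem f182345 : Led Lsl_gt (LP (LK LD1_c4 LD2_c21 LD3_c31)) = (LP (LK LD1_c2 LD2_c8 LD3_c16)) :=
  Lre_g IH (LK LD1_c4 LD2_c21 LD3_c31) (LK LD1_c2 LD2_c8 LD3_c16) Lrfl Lrfl
theorem f229904 : Led Lsl_dt (LP (LK LD1_c8 LD2_c40 LD3_c36)) = (LP (LK LD1_c4 LD2_c21 LD3_c31)) :=
  Lre_d IH (LK LD1_c8 LD2_c40 LD3_c36) (LK LD1_c4 LD2_c21 LD3_c31) Lrfl Lrfl
theorem f238985 : Led Lsl_gf (LP (LK LD1_c4 LD2_c53 LD3_c7)) = (LP (LK LD1_c8 LD2_c40 LD3_c36)) :=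
  Lgr Lrot147 (Lpe (f229714 IH) (Lpr_gt (f238975 IH) (Lpe (f238615 IH) (Lpe (f238612 IH) (Lpe (f236476 IH) (Lpr_gf (f180222 IH) (Lpe (f182344 IH) (Lpe (f182345 IH) (Lpe (f229904 IH) (Lpn (LP (LK LD1_c8 LD2_c40 LD3_c36))))))))))))
theorem f181783 : Led Lsl_gt (LP (LK LD1_c4 LD2_c22 LD3_c57)) = (LP (LK LD1_c2 LD2_c8 LD3_c53)) :=
  Lre_g IH (LK LD1_c4 LD2_c22 LD3_c57) (LK LD1_c2 LD2_c8 LD3_c53) Lrfl Lrfl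
theorem f239093 : Led Lsl_ct (LP (LK LD1_c4 LD2_c22 LD3_c57)) = (LP (LK LD1_c8 LD2_c40 LD3_c36)) :=
  Lgr Lrot8 (Lpr_gt (f181783 IH) (Lpr_dt (f181782 IH) (Lpe (K10.f193688 IH) (Lpr_dt (K1.f29703 IH) (Lpe (K12.f29679 IH) (Lpe (K1.f2493 IH) (Lpe (K12.f2497 IH) (Lpe (f29712 IH) (Lpr_gf (f238985 IH) (Lpn (LP (LK LD1_c8 LD2_c40 LD3_c36))))))))))))
theorem f239097 : Led Lsl_gt (LP (LK LD1_c2 LD2_c8 LD3_c59)) = (LP (LK LD1_c4 LD2_c22 LD3_c57)) :=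
  Lgr Lrot9 (Lpe (f229865 IH) (Lpr_gt (f229315 IH) (Lpr_ct (K1.f2968 IH) (Lpr_gt (K12.f3046 IH) (Lpe (K12.f197418 IH) (Lpe (f59277 IH) (Lpr_cf (f229714 IH) (Lpr_gf (f238985 IH) (Lpe (f239093 IH) (Lpn (LP (LK LD1_c4 LD2_c22 LD3_c57))))))))))))
theorem f237247 : Led Lsl_df (LP (LK LD1_c4 LD2_c22 LD3_c56)) = (LP (LK LD1_c2 LD2_c26 LD3_c3)) :=
  Lgr Lrot38 (Lpr_dt (f237239 IH) (Lpn (LP (LK LD1_c2 LD2_c26 LD3_c3))))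
theorem f164908 : Led Lsl_dt (LP (LK LD1_c2 LD2_c44 LD3_c29)) = (LP (LK LD1_c1 LD2_c18 LD3_c36)) :=
  Lre_d IH (LK LD1_c2 LD2_c44 LD3_c29) (LK LD1_c1 LD2_c18 LD3_c36) Lrfl Lrfl
theorem f238967 : Led Lsl_gt (LP (LK LD1_c4 LD2_c22 LD3_c1)) = (LP (LK LD1_c5 LD2_c37 LD3_c9)) :=
  Lgr Lrot150 (Lpe (f237477 IH) (Lpr_gf (f238944 IH) (Lpr_df (f237247 IH) (Lpe (K11.f211123 IH) (Lpr_ct (K11.f174948 IH) (Lpe (K12.f201343 IH) (Lpr_ct (K11.f164962 IH) (Lpe (f164908 IH) (Lpe (f211127 IH) (Lpn (LP (LK LD1_c5 LD2_c37 LD3_c9))))))))))))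
theorem f229466 : Led Lsl_gt (LP (LK LD1_c3 LD2_c56 LD3_c58)) = (LP (LK LD1_c1 LD2_c55 LD3_c13)) :=
  Lre_g IH (LK LD1_c3 LD2_c56 LD3_c58) (LK LD1_c1 LD2_c55 LD3_c13) Lrfl Lrfl
theorem f168372 : Led Lsl_gt (LP (LK LD1_c2 LD2_c26 LD3_c14)) = (LP (LK LD1_c4 LD2_c56 LD3_c45)) :=
  Lre_g IH (LK LD1_c2 LD2_c26 LD3_c14) (LK LD1_c4 LD2_c56 LD3_c45) Lrfl Lrfl
theorem f236894 : Led Lsl_cf (LP (LK LD1_c3 LD2_c56 LD3_c58)) = (LP (LK LD1_c4 LD2_c56 LD3_c45)) :=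
  Lgr Lrot169 (Lpr_gt (f229466 IH) (Lpr_ct (K12.f42737 IH) (Lpr_df (K12.f229436 IH) (Lpr_cf (f193670 IH) (Lpr_gf (K11.f39891 IH) (Lpe (K1.f39248 IH) (Lpr_gf (f236855 IH) (Lpe (f216426 IH) (Lpr_gt (f168372 IH) (Lpn (LP (LK LD1_c4 LD2_c56 LD3_c45))))))))))))
theorem f38991 : Led Lsl_dt (LP (LK LD1_c3 LD2_c57 LD3_c34)) = (LP (LK LD1_c2 LD2_c8 LD3_c33)) :=
  Lgr Lrot44 (Lpr_af (f38809 IH) (Lpe (f38946 IH) (Lpr_af (K1.f38961 IH) (Lpn (LP (LK LD1_c2 LD2_c8 LD3_c33))))))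
theorem f236921 : Led Lsl_gf (LP (LK LD1_c3 LD2_c57 LD3_c14)) = (LP (LK LD1_c4 LD2_c56 LD3_c45)) :=
  Lgr Lrot144 (Lpr_dt (f236596 IH) (Lpe (f236493 IH) (Lpr_dt (f38991 IH) (Lpe (K12.f38988 IH) (Lpe (K12.f39161 IH) (Lpe (K12.f229481 IH) (Lpe (f229460 IH) (Lpe (f229466 IH) (Lpr_cf (f236894 IH) (Lpn (LP (LK LD1_c4 LD2_c56 LD3_c45))))))))))))
theorem f238948 : Led Lsl_df (LP (LK LD1_c4 LD2_c56 LD3_c45)) = (LP (LK LD1_c5 LD2_c37 LD3_c9)) :=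
  Lgr Lrot155 (Lpe (f236921 IH) (Lpr_ct (f196325 IH) (Lpr_gt (K11.f196952 IH) (Lpr_ct (K12.f179542 IH) (Lpr_dt (f196964 IH) (Lpr_cf (f238919 IH) (Lpe (f193691 IH) (Lpr_cf (f237250 IH) (Lpr_gf (f236573 IH) (Lpn (LP (LK LD1_c5 LD2_c37 LD3_c9))))))))))))
theorem f239101 : Led Lsl_df (LP (LK LD1_c2 LD2_c26 LD3_c2)) = (LP (LK LD1_c4 LD2_c22 LD3_c57)) :=
  Lgr Lrot153 (Lpr_gt (K12.f182328 IH) (Lpr_dt (K12.f182333 IH) (Lpe (f182334 IH) (Lpe (f236596 IH) (Lpr_gf (f236921 IH) (Lpr_df (f238948 IH) (Lpe (f238967 IH) (Lpe (f237477 IH) (Lpr_gt (f239097 IH) (Lpn (LP (LK LD1_c4 LD2_c22 LD3_c57))))))))))))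
theorem f179872 : Led Lsl_ct (LP (LK LD1_c1 LD2_c10 LD3_c13)) = (LP (LK LD1_c0 LD2_c32 LD3_c28)) :=
  Lre_c IH (LK LD1_c1 LD2_c10 LD3_c13) (LK LD1_c0 LD2_c32 LD3_c28) Lrfl Lrfl
theorem f239095 : Led Lsl_cf (LP (LK LD1_c4 LD2_c22 LD3_c57)) = (LP (LK LD1_c8 LD2_c40 LD3_c36)) :=
  Lgr Lrot166 (Lpr_gt (f181783 IH) (Lpr_dt (f181782 IH) (Lpe (K10.f193688 IH) (Lpr_dt (K1.f29703 IH) (Lpe (K1.f29704 IH) (Lpe (K1.f2493 IH) (Lpe (K12.f2497 IH) (Lpe (f29712 IH) (Lpr_gf (f238985 IH) (Lpn (LP (LK LD1_c8 LD2_c40 LD3_c36))))))))))))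
theorem f239114 : Led Lsl_gt (LP (LK LD1_c4 LD2_c53 LD3_c4)) = (LP (LK LD1_c8 LD2_c40 LD3_c36)) :=
  Lgr Lrot150 (Lpe (f229410 IH) (Lpe (f238874 IH) (Lpe (f210339 IH) (Lpr_gt (K12.f210335 IH) (Lpr_ct (f179872 IH) (Lpr_gt (K11.f172558 IH) (Lpr_ct (K12.f172681 IH) (Lpr_df (f239101 IH) (Lpr_cf (f239095 IH) (Lpn (LP (LK LD1_c8 LD2_c40 LD3_c36))))))))))))
theorem f182332 : Led Lsl_ct (LP (LK LD1_c2 LD2_c26 LD3_c2)) = (LP (LK LD1_c1 LD2_c10 LD3_c11)) :=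
  Lre_c IH (LK LD1_c2 LD2_c26 LD3_c2) (LK LD1_c1 LD2_c10 LD3_c11) Lrfl Lrfl
theorem f238290 : Led Lsl_dt (LP (LK LD1_c1 LD2_c10 LD3_c12)) = (LP (LK LD1_c0 LD2_c56 LD3_c34)) :=
  Lgr Lrot27 (Lpe (K11.f182326 IH) (Lpr_gf (K11.f211153 IH) (Lpe (K11.f56561 IH) (Lpe (K11.f201324 IH) (Lpr_df (K11.f201256 IH) (Lpr_gt (K12.f201263 IH) (Lpr_ct (f227289 IH) (Lpr_gt (f238224 IH) (Lpr_ct (f192810 IH) (Lpn (LP (LK LD1_c0 LD2_c56 LD3_c34))))))))))))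
theorem f229905 : Led Lsl_dt (LP (LK LD1_c4 LD2_c21 LD3_c31)) = (LP (LK LD1_c8 LD2_c40 LD3_c36)) :=
  Lre_d IH (LK LD1_c4 LD2_c21 LD3_c31) (LK LD1_c8 LD2_c40 LD3_c36) Lrfl Lrfl
theorem f168527 : Led Lsl_gt (LP (LK LD1_c1 LD2_c10 LD3_c21)) = (LP (LK LD1_c2 LD2_c26 LD3_c13)) :=
  Lre_g IH (LK LD1_c1 LD2_c10 LD3_c21) (LK LD1_c2 LD2_c26 LD3_c13) Lrfl Lrfl
theorem f182346 : Led Lsl_cf (LP (LK LD1_c4 LD2_c21 LD3_c31)) = (LP (LK LD1_c2 LD2_c26 LD3_c13)) :=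
  Lgr Lrot169 (Lpr_gt (f182345 IH) (Lpr_ct (f182344 IH) (Lpe (f180221 IH) (Lpe (K12.f181958 IH) (Lpr_gf (K9.f182322 IH) (Lpe (K1.f28944 IH) (Lpe (K12.f182314 IH) (Lpe (K12.f168525 IH) (Lpr_gt (f168527 IH) (Lpn (LP (LK LD1_c2 LD2_c26 LD3_c13))))))))))))
theorem f239105 : Led Lsl_dt (LP (LK LD1_c1 LD2_c59 LD3_c24)) = (LP (LK LD1_c2 LD2_c26 LD3_c13)) :=
  Lgr Lrot173 (Lpe (f192808 IH) (Lpe (f238290 IH) (Lpe (K11.f182326 IH) (Lpe (f237239 IH) (Lpe (f238938 IH) (Lpe (f196964 IH) (Lpe (K12.f179542 IH) (Lpe (K11.f194684 IH) (Lpr_cf (K11.f182185 IH) (Lpe (K11.f196958 IH) (Lpe (f182332 IH) (Lpr_df (f239101 IH) (Lpr_cf (f239095 IH) (Lpe (f229905 IH) (Lpr_cf (f182346 IH) (Lpn (LP (LK LD1_c2 LD2_c26 LD3_c13))))))))))))))))))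
theorem f239118 : Led Lsl_cf (LP (LK LD1_c2 LD2_c26 LD3_c13)) = (LP (LK LD1_c4 LD2_c21 LD3_c31)) :=
  Lgr Lrot14 (Lpe (f239105 IH) (Lpe (f238224 IH) (Lpr_df (f200403 IH) (Lpe (K12.f2232 IH) (Lpr_ct (K1.f2441 IH) (Lpr_gt (K12.f2500 IH) (Lpr_dt (f2503 IH) (Lpr_gt (f239114 IH) (Lpr_dt (f229904 IH) (Lpn (LP (LK LD1_c4 LD2_c21 LD3_c31))))))))))))
theorem f216696 : Led Lsl_dt (LP (LK LD1_c2 LD2_c8 LD3_c16)) = (LP (LK LD1_c4 LD2_c21 LD3_c33)) :=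
  Lre_d IH (LK LD1_c2 LD2_c8 LD3_c16) (LK LD1_c4 LD2_c21 LD3_c33) Lrfl Lrfl
theorem f216813 : Led Lsl_dt (LP (LK LD1_c4 LD2_c21 LD3_c33)) = (LP (LK LD1_c2 LD2_c8 LD3_c16)) :=
  Lre_d IH (LK LD1_c4 LD2_c21 LD3_c33) (LK LD1_c2 LD2_c8 LD3_c16) Lrfl Lrfl
theorem f216814 : Led Lsl_ct (LP (LK LD1_c2 LD2_c9 LD3_c12)) = (LP (LK LD1_c4 LD2_c21 LD3_c33)) :=
  Lgr Lrot176 (Lpr_df (f201460 IH) (Lpe (f28936 IH) (Lpe (K11.f28935 IH) (Lpe (K9.f28928 IH) (Lpe (f28831 IH) (Lpe (K12.f28933 IH) (Lpe (f28934 IH) (Lpr_cf (K12.f216590 IH) (Lpr_df (K12.f210326 IH) (Lpe (K11.f179873 IH) (Lpe (K11.f182327 IH) (Lpr_cf (K12.f216808 IH) (Lpe (f182348 IH) (Lpe (f182344 IH) (Lpe (f216813 IH) (Lpn (LP (LK LD1_c4 LD2_c21 LD3_c33))))))))))))))))))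
theorem f237291 : Led Lsl_gf (LP (LK LD1_c4 LD2_c0 LD3_c30)) = (LP (LK LD1_c4 LD2_c21 LD3_c33)) :=
  Lgr Lrot104 (Lpr_ct (f29260 IH) (Lpe (K1.f29572 IH) (Lpe (K1.f29296 IH) (Lpe (K12.f29302 IH) (Lpr_cf (f29610 IH) (Lpr_gf (f237289 IH) (Lpe (K1.f38918 IH) (Lpe (f201470 IH) (Lpr_ct (f216814 IH) (Lpn (LP (LK LD1_c4 LD2_c21 LD3_c33))))))))))))
theorem f239132 : Led Lsl_gt (LP (LK LD1_c2 LD2_c26 LD3_c13)) = (LP (LK LD1_c1 LD2_c55 LD3_c22)) :=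
  Lgr Lrot94 (Lpr_cf (f239118 IH) (Lpr_gt (f182345 IH) (Lpr_dt (f216696 IH) (Lpe (f237291 IH) (Lpe (K1.f29584 IH) (Lpe (K12.f2167 IH) (Lpe (K0.f2409 IH) (Lpr_gf (K10.f196303 IH) (Lpe (K12.f196318 IH) (Lpn (LP (LK LD1_c1 LD2_c55 LD3_c22))))))))))))
theorem f196300 : Led Lsl_gt (LP (LK LD1_c4 LD2_c0 LD3_c5)) = (LP (LK LD1_c2 LD2_c26 LD3_c18)) :=
  Lgr Lrot49 (Lpe (K12.f6951 IH) (Lpr_gf (K10.f196296 IH) (Lpe (K10.f171777 IH) (Lpr_gt (K12.f39244 IH) (Lpr_dt (K10.f39238 IH) (Lpe (K9.f174984 IH) (Lpr_dt (K11.f56557 IH) (Lpe (K12.f56556 IH) (Lpe (f174988 IH) (Lpn (LP (LK LD1_c2 LD2_c26 LD3_c18))))))))))))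
theorem f239134 : Led Lsl_gt (LP (LK LD1_c2 LD2_c8 LD3_c22)) = (LP (LK LD1_c4 LD2_c21 LD3_c31)) :=
  Lgr Lrot9 (Lpe (f28934 IH) (Lpr_gt (K12.f216424 IH) (Lpr_ct (K1.f29247 IH) (Lpr_gt (f196300 IH) (Lpr_ct (f182335 IH) (Lpe (f236596 IH) (Lpe (f196326 IH) (Lpe (f239132 IH) (Lpr_cf (f239118 IH) (Lpn (LP (LK LD1_c4 LD2_c21 LD3_c31))))))))))))
theorem f239136 : Led Lsl_gf (LP (LK LD1_c0 LD2_c56 LD3_c34)) = (LP (LK LD1_c1 LD2_c56 LD3_c44)) :=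
  Lgr Lrot172 (Lpr_ct (f192808 IH) (Lpr_dt (f239105 IH) (Lpr_cf (f239118 IH) (Lpe (f239134 IH) (Lpe (f28945 IH) (Lpe (f238506 IH) (Lpr_dt (f170307 IH) (Lpr_gt (K12.f181212 IH) (Lpe (K12.f227940 IH) (Lpn (LP (LK LD1_c1 LD2_c56 LD3_c44))))))))))))
theorem f37091 : Led Lsl_et (LP (LK LD1_c0 LD2_c13 LD3_c30)) = (LP (LK LD1_c0 LD2_c30 LD3_c24)) :=
  Lre_e IH (LK LD1_c0 LD2_c13 LD3_c30) (LK LD1_c0 LD2_c30 LD3_c24) Lrfl Lrfl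
theorem f37092 : Led Lsl_gt (LP (LK LD1_c1 LD2_c6 LD3_c27)) = (LP (LK LD1_c0 LD2_c30 LD3_c24)) :=
  Lre_g IH (LK LD1_c1 LD2_c6 LD3_c27) (LK LD1_c0 LD2_c30 LD3_c24) Lrfl Lrfl
theorem f239164 : Led Lsl_et (LP (LK LD1_c1 LD2_c10 LD3_c12)) = (LP (LK LD1_c1 LD2_c6 LD3_c27)) :=
  Lgr Lrot185 (Lpr_dt (f238290 IH) (Lpr_gf (f239136 IH) (Lpe (K12.f3047 IH) (Lpe (K12.f3046 IH) (Lpe (K0.f2959 IH) (Lpr_dt (K0.f2947 IH) (Lpr_gf (K1.f37081 IH) (Lpe (K2.f36310 IH) (Lpr_et (f37091 IH) (Lpe (f37092 IH) (Lpn (LP (LK LD1_c1 LD2_c6 LD3_c27)))))))))))))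
theorem f239166 : Led Lsl_ef (LP (LK LD1_c1 LD2_c10 LD3_c12)) = (LP (LK LD1_c1 LD2_c6 LD3_c27)) :=
  Lgr Lrot88 (Lpr_et (f239164 IH) (Lpn (LP (LK LD1_c1 LD2_c6 LD3_c27))))
theorem f239170 : Led Lsl_bt (LP (LK LD1_c1 LD2_c6 LD3_c27)) = (LP (LK LD1_c1 LD2_c6 LD3_c27)) :=
  Lgr Lrot119 (Lpe (f239164 IH) (Lpe (K11.f211148 IH) (Lpr_ef (f239166 IH) (Lpn (LP (LK LD1_c1 LD2_c6 LD3_c27))))))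
theorem f59087 : Led Lsl_dt (LP (LK LD1_c2 LD2_c18 LD3_c52)) = (LP (LK LD1_c1 LD2_c6 LD3_c27)) :=
  Lre_d IH (LK LD1_c2 LD2_c18 LD3_c52) (LK LD1_c1 LD2_c6 LD3_c27) Lrfl Lrfl
theorem f59154 : Led Lsl_dt (LP (LK LD1_c1 LD2_c6 LD3_c27)) = (LP (LK LD1_c2 LD2_c18 LD3_c52)) :=
  Lre_d IH (LK LD1_c1 LD2_c6 LD3_c27) (LK LD1_c2 LD2_c18 LD3_c52) Lrfl Lrfl
theorem f239172 : Led Lsl_bf (LP (LK LD1_c2 LD2_c18 LD3_c52)) = (LP (LK LD1_c2 LD2_c18 LD3_c52)) :=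
  Lgr Lrot93 (Lpr_dt (f59087 IH) (Lpr_bt (f239170 IH) (Lpr_dt (f59154 IH) (Lpn (LP (LK LD1_c2 LD2_c18 LD3_c52))))))
theorem f58981 : Led Lsl_bt (LP (LK LD1_c0 LD2_c30 LD3_c24)) = (LP (LK LD1_c0 LD2_c13 LD3_c32)) :=
  Lre_b IH (LK LD1_c0 LD2_c30 LD3_c24) (LK LD1_c0 LD2_c13 LD3_c32) Lrfl Lrfl
theorem f58983 : Led Lsl_df (LP (LK LD1_c0 LD2_c30 LD3_c24)) = (LP (LK LD1_c0 LD2_c18 LD3_c16)) :=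
  Lgr Lrot12 (Lpr_bt (f58981 IH) (Lpr_dt (K9.f58979 IH) (Lpr_bt (K11.f58982 IH) (Lpn (LP (LK LD1_c0 LD2_c18 LD3_c16))))))
theorem f37194 : Led Lsl_et (LP (LK LD1_c0 LD2_c18 LD3_c16)) = (LP (LK LD1_c0 LD2_c8 LD3_c13)) :=
  Lre_e IH (LK LD1_c0 LD2_c18 LD3_c16) (LK LD1_c0 LD2_c8 LD3_c13) Lrfl Lrfl
theorem f28655 : Led Lsl_gt (LP (LK LD1_c0 LD2_c55 LD3_c5)) = (LP (LK LD1_c1 LD2_c56 LD3_c39)) :=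
  Lre_g IH (LK LD1_c0 LD2_c55 LD3_c5) (LK LD1_c1 LD2_c56 LD3_c39) Lrfl Lrfl
theorem f59152 : Led Lsl_et (LP (LK LD1_c2 LD2_c18 LD3_c52)) = (LP (LK LD1_c1 LD2_c56 LD3_c39)) :=
  Lgr Lrot122 (Lpr_dt (f59087 IH) (Lpr_gt (f37092 IH) (Lpr_df (f58983 IH) (Lpr_et (f37194 IH) (Lpr_gt (K1.f21183 IH) (Lpe (K1.f37164 IH) (Lpr_gt (K0.f27217 IH) (Lpe (K1.f36917 IH) (Lpr_et (K11.f36925 IH) (Lpr_gt (f28655 IH) (Lpn (LP (LK LD1_c1 LD2_c56 LD3_c39)))))))))))))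
theorem f59155 : Led Lsl_ef (LP (LK LD1_c2 LD2_c18 LD3_c52)) = (LP (LK LD1_c1 LD2_c56 LD3_c39)) :=
  Lgr Lrot88 (Lpr_et (f59152 IH) (Lpn (LP (LK LD1_c1 LD2_c56 LD3_c39))))
theorem f239230 : Led Lsl_bt (LP (LK LD1_c1 LD2_c56 LD3_c39)) = (LP (LK LD1_c1 LD2_c56 LD3_c39)) :=
  Lgr Lrot119 (Lpe (f59152 IH) (Lpr_bf (f239172 IH) (Lpr_ef (f59155 IH) (Lpn (LP (LK LD1_c1 LD2_c56 LD3_c39))))))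
theorem f31593 : Led Lsl_gf (LP (LK LD1_c1 LD2_c9 LD3_c35)) = (LP (LK LD1_c1 LD2_c56 LD3_c39)) :=
  Lgr Lrot76 (Lpr_af (K1.f31560 IH) (Lpe (K11.f28635 IH) (Lpr_gt (f28655 IH) (Lpn (LP (LK LD1_c1 LD2_c56 LD3_c39))))))
theorem f185096 : Led Lsl_bt (LP (LK LD1_c0 LD2_c15 LD3_c22)) = (LP (LK LD1_c0 LD2_c34 LD3_c13)) :=
  Lre_b IH (LK LD1_c0 LD2_c15 LD3_c22) (LK LD1_c0 LD2_c34 LD3_c13) Lrfl Lrfl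
theorem f31771 : Led Lsl_gt (LP (LK LD1_c1 LD2_c0 LD3_c52)) = (LP (LK LD1_c2 LD2_c7 LD3_c33)) :=
  Lre_g IH (LK LD1_c1 LD2_c0 LD3_c52) (LK LD1_c2 LD2_c7 LD3_c33) Lrfl Lrfl
theorem f239232 : Led Lsl_ct (LP (LK LD1_c1 LD2_c56 LD3_c39)) = (LP (LK LD1_c2 LD2_c7 LD3_c33)) :=
  Lgr Lrot63 (Lpr_bt (f239230 IH) (Lpe (f31593 IH) (Lpe (K1.f31583 IH) (Lpe (K2.f71479 IH) (Lpe (K10.f185082 IH) (Lpe (K10.f164696 IH) (Lpr_bt (f185096 IH) (Lpr_gt (K10.f193353 IH) (Lpr_ct (K0.f31721 IH) (Lpr_gt (f31771 IH) (Lpn (LP (LK LD1_c2 LD2_c7 LD3_c33)))))))))))))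
theorem f28612 : Led Lsl_bt (LP (LK LD1_c0 LD2_c27 LD3_c49)) = (LP (LK LD1_c0 LD2_c55 LD3_c5)) :=
  Lgr Lrot95 (Lpe (K9.f27824 IH) (Lpr_bf (K0.f28603 IH) (Lpe (K8.f28611 IH) (Lpn (LP (LK LD1_c0 LD2_c55 LD3_c5))))))
theorem f28645 : Led Lsl_ct (LP (LK LD1_c0 LD2_c27 LD3_c49)) = (LP (LK LD1_c1 LD2_c0 LD3_c61)) :=
  Lre_c IH (LK LD1_c0 LD2_c27 LD3_c49) (LK LD1_c1 LD2_c0 LD3_c61) Lrfl Lrfl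
theorem f28657 : Led Lsl_gt (LP (LK LD1_c2 LD2_c7 LD3_c47)) = (LP (LK LD1_c1 LD2_c0 LD3_c61)) :=
  Lre_g IH (LK LD1_c2 LD2_c7 LD3_c47) (LK LD1_c1 LD2_c0 LD3_c61) Lrfl Lrfl
theorem f31772 : Led Lsl_gt (LP (LK LD1_c2 LD2_c7 LD3_c33)) = (LP (LK LD1_c2 LD2_c7 LD3_c50)) :=
  Lgr Lrot46 (Lpe (f31771 IH) (Lpr_ft (K0.f31758 IH) (Lpr_at (K0.f31759 IH) (Lpn (LP (LK LD1_c2 LD2_c7 LD3_c50))))))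
theorem f27954 : Led Lsl_et (LP (LK LD1_c0 LD2_c55 LD3_c33)) = (LP (LK LD1_c0 LD2_c25 LD3_c12)) :=
  Lre_e IH (LK LD1_c0 LD2_c55 LD3_c33) (LK LD1_c0 LD2_c25 LD3_c12) Lrfl Lrfl
theorem f216403 : Led Lsl_bt (LP (LK LD1_c0 LD2_c55 LD3_c33)) = (LP (LK LD1_c0 LD2_c55 LD3_c33)) :=
  Lgr Lrot119 (Lpe (K12.f182382 IH) (Lpr_bf (K12.f216399 IH) (Lpe (f27954 IH) (Lpn (LP (LK LD1_c0 LD2_c55 LD3_c33))))))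
theorem f216405 : Led Lsl_bf (LP (LK LD1_c1 LD2_c9 LD3_c34)) = (LP (LK LD1_c1 LD2_c9 LD3_c34)) :=
  Lgr Lrot93 (Lpr_dt (K12.f216356 IH) (Lpr_bt (f216403 IH) (Lpe (K12.f216354 IH) (Lpn (LP (LK LD1_c1 LD2_c9 LD3_c34))))))
theorem f239240 : Led Lsl_cf (LP (LK LD1_c2 LD2_c7 LD3_c47)) = (LP (LK LD1_c1 LD2_c9 LD3_c34)) :=
  Lgr Lrot160 (Lpr_gt (f28657 IH) (Lpe (f28645 IH) (Lpr_bt (f28612 IH) (Lpr_gt (f28655 IH) (Lpr_ct (f239232 IH) (Lpr_gt (f31772 IH) (Lpe (K0.f28632 IH) (Lpr_bt (K1.f28630 IH) (Lpe (K12.f31587 IH) (Lpr_bf (f216405 IH) (Lpn (LP (LK LD1_c1 LD2_c9 LD3_c34)))))))))))))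
theorem f28677 : Led Lsl_gt (LP (LK LD1_c1 LD2_c0 LD3_c55)) = (LP (LK LD1_c0 LD2_c27 LD3_c47)) :=
  Lre_g IH (LK LD1_c1 LD2_c0 LD3_c55) (LK LD1_c0 LD2_c27 LD3_c47) Lrfl Lrfl
theorem f239248 : Led Lsl_cf (LP (LK LD1_c1 LD2_c0 LD3_c55)) = (LP (LK LD1_c0 LD2_c32 LD3_c1)) :=
  Lgr Lrot169 (Lpr_gt (f28677 IH) (Lpr_ct (K10.f27887 IH) (Lpe (K0.f27888 IH) (Lpe (K0.f28651 IH) (Lpe (f28657 IH) (Lpr_cf (f239240 IH) (Lpr_gf (K12.f31587 IH) (Lpe (K1.f28625 IH) (Lpe (f31569 IH) (Lpn (LP (LK LD1_c0 LD2_c32 LD3_c1))))))))))))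
theorem f28605 : Led Lsl_bt (LP (LK LD1_c0 LD2_c12 LD3_c18)) = (LP (LK LD1_c0 LD2_c24 LD3_c57)) :=
  Lgr Lrot127 (Lpr_bf (K0.f28603 IH) (Lpn (LP (LK LD1_c0 LD2_c24 LD3_c57))))
theorem f189862 : Led Lsl_ct (LP (LK LD1_c0 LD2_c55 LD3_c4)) = (LP (LK LD1_c1 LD2_c0 LD3_c46)) :=
  Lgr Lrot59 (Lpr_cf (K10.f189860 IH) (Lpn (LP (LK LD1_c1 LD2_c0 LD3_c46))))
theorem f239292 : Led Lsl_bf (LP (LK LD1_c0 LD2_c32 LD3_c1)) = (LP (LK LD1_c0 LD2_c32 LD3_c1)) :=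
  Lgr Lrot34 (Lpr_gf (f31569 IH) (Lpe (K0.f28616 IH) (Lpr_ct (K0.f28629 IH) (Lpr_gf (K10.f32029 IH) (Lpe (f189862 IH) (Lpe (K10.f28710 IH) (Lpe (f28605 IH) (Lpr_ct (K0.f27889 IH) (Lpe (f28677 IH) (Lpr_cf (f239248 IH) (Lpn (LP (LK LD1_c0 LD2_c32 LD3_c1)))))))))))))
theorem f239294 : Led Lsl_gf (LP (LK LD1_c1 LD2_c0 LD3_c55)) = (LP (LK LD1_c1 LD2_c0 LD3_c48)) :=
  Lgr Lrot129 (Lpr_cf (f239248 IH) (Lpe (f239292 IH) (Lpr_gt (f31051 IH) (Lpe (K0.f31597 IH) (Lpr_ct (K1.f32873 IH) (Lpr_gt (K9.f167611 IH) (Lpe (K9.f3140 IH) (Lpr_bt (K12.f164174 IH) (Lpr_gt (K11.f192531 IH) (Lpr_ct (K0.f28480 IH) (Lpn (LP (LK LD1_c1 LD2_c0 LD3_c48)))))))))))))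
theorem f239285 : Led Lsl_ct (LP (LK LD1_c1 LD2_c0 LD3_c55)) = (LP (LK LD1_c0 LD2_c32 LD3_c1)) :=
  Lgr Lrot59 (Lpr_cf (f239248 IH) (Lpn (LP (LK LD1_c0 LD2_c32 LD3_c1))))
theorem f31573 : Led Lsl_ct (LP (LK LD1_c2 LD2_c24 LD3_c45)) = (LP (LK LD1_c1 LD2_c9 LD3_c31)) :=
  Lre_c IH (LK LD1_c2 LD2_c24 LD3_c45) (LK LD1_c1 LD2_c9 LD3_c31) Lrfl Lrfl
theorem f239299 : Led Lsl_gf (LP (LK LD1_c2 LD2_c24 LD3_c45)) = (LP (LK LD1_c2 LD2_c29 LD3_c50)) :=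
  Lgr Lrot104 (Lpr_ct (f31573 IH) (Lpe (f31571 IH) (Lpe (f239285 IH) (Lpr_gf (f239294 IH) (Lpe (K0.f28480 IH) (Lpe (K11.f192531 IH) (Lpe (K11.f31649 IH) (Lpr_gt (K12.f164980 IH) (Lpr_ct (K12.f180535 IH) (Lpn (LP (LK LD1_c2 LD2_c29 LD3_c50))))))))))))
theorem f28654 : Led Lsl_gt (LP (LK LD1_c4 LD2_c20 LD3_c42)) = (LP (LK LD1_c2 LD2_c7 LD3_c49)) :=
  Lre_g IH (LK LD1_c4 LD2_c20 LD3_c42) (LK LD1_c2 LD2_c7 LD3_c49) Lrfl Lrfl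
theorem f239303 : Led Lsl_dt (LP (LK LD1_c2 LD2_c24 LD3_c45)) = (LP (LK LD1_c4 LD2_c20 LD3_c42)) :=
  Lgr Lrot57 (Lpr_gf (f239299 IH) (Lpe (K12.f180535 IH) (Lpr_gt (K12.f204911 IH) (Lpr_dt (K12.f36223 IH) (Lpr_gt (K10.f28619 IH) (Lpr_dt (K9.f27824 IH) (Lpe (K0.f28651 IH) (Lpe (K0.f28653 IH) (Lpe (f28654 IH) (Lpn (LP (LK LD1_c4 LD2_c20 LD3_c42))))))))))))
theorem f31843 : Led Lsl_dt (LP (LK LD1_c1 LD2_c0 LD3_c61)) = (LP (LK LD1_c2 LD2_c7 LD3_c49)) :=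
  Lre_d IH (LK LD1_c1 LD2_c0 LD3_c61) (LK LD1_c2 LD2_c7 LD3_c49) Lrfl Lrfl
theorem f70532 : Led Lsl_et (LP (LK LD1_c0 LD2_c18 LD3_c47)) = (LP (LK LD1_c0 LD2_c42 LD3_c3)) :=
  Lre_e IH (LK LD1_c0 LD2_c18 LD3_c47) (LK LD1_c0 LD2_c42 LD3_c3) Lrfl Lrfl
theorem f198449 : Led Lsl_gt (LP (LK LD1_c0 LD2_c42 LD3_c3)) = (LP (LK LD1_c1 LD2_c31 LD3_c10)) :=
  Lre_g IH (LK LD1_c0 LD2_c42 LD3_c3) (LK LD1_c1 LD2_c31 LD3_c10) Lrfl Lrfl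
theorem f239309 : Led Lsl_et (LP (LK LD1_c2 LD2_c24 LD3_c45)) = (LP (LK LD1_c1 LD2_c31 LD3_c10)) :=
  Lgr Lrot122 (Lpr_dt (f239303 IH) (Lpr_gt (f28654 IH) (Lpe (f31843 IH) (Lpr_et (K1.f35779 IH) (Lpe (K2.f70214 IH) (Lpr_dt (K2.f36645 IH) (Lpr_gt (K4.f59705 IH) (Lpe (K4.f36309 IH) (Lpr_et (f70532 IH) (Lpr_gt (f198449 IH) (Lpn (LP (LK LD1_c1 LD2_c31 LD3_c10)))))))))))))
theorem f31572 : Led Lsl_ct (LP (LK LD1_c1 LD2_c9 LD3_c31)) = (LP (LK LD1_c2 LD2_c24 LD3_c45)) :=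
  Lre_c IH (LK LD1_c1 LD2_c9 LD3_c31) (LK LD1_c2 LD2_c24 LD3_c45) Lrfl Lrfl
theorem f26604 : Led Lsl_et (LP (LK LD1_c0 LD2_c29 LD3_c35)) = (LP (LK LD1_c0 LD2_c13 LD3_c0)) :=
  Lre_e IH (LK LD1_c0 LD2_c29 LD3_c35) (LK LD1_c0 LD2_c13 LD3_c0) Lrfl Lrfl
theorem f26940 : Led Lsl_et (LP (LK LD1_c0 LD2_c13 LD3_c31)) = (LP (LK LD1_c0 LD2_c30 LD3_c26)) :=
  Lre_e IH (LK LD1_c0 LD2_c13 LD3_c31) (LK LD1_c0 LD2_c30 LD3_c26) Lrfl Lrfl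
theorem f185167 : Led Lsl_gt (LP (LK LD1_c0 LD2_c30 LD3_c26)) = (LP (LK LD1_c1 LD2_c4 LD3_c13)) :=
  Lgr Lrot131 (Lpe (f26940 IH) (Lpr_dt (K0.f26772 IH) (Lpe (K0.f20071 IH) (Lpe (K0.f26607 IH) (Lpe (K0.f25181 IH) (Lpe (f26604 IH) (Lpr_dt (K2.f26941 IH) (Lpr_gf (K10.f185153 IH) (Lpe (K10.f20504 IH) (Lpr_et (K11.f20493 IH) (Lpn (LP (LK LD1_c1 LD2_c4 LD3_c13)))))))))))))
theorem f56333 : Led Lsl_ct (LP (LK LD1_c0 LD2_c18 LD3_c48)) = (LP (LK LD1_c0 LD2_c42 LD3_c3)) :=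
  Lre_c IH (LK LD1_c0 LD2_c18 LD3_c48) (LK LD1_c0 LD2_c42 LD3_c3) Lrfl Lrfl
theorem f205385 : Led Lsl_af (LP (LK LD1_c1 LD2_c1 LD3_c57)) = (LP (LK LD1_c0 LD2_c42 LD3_c3)) :=
  Lgr Lrot68 (Lpr_ct (K4.f59389 IH) (Lpr_at (K11.f205300 IH) (Lpr_ct (f56333 IH) (Lpn (LP (LK LD1_c0 LD2_c42 LD3_c3))))))
theorem f59391 : Led Lsl_gt (LP (LK LD1_c2 LD2_c9 LD3_c40)) = (LP (LK LD1_c1 LD2_c1 LD3_c57)) :=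
  Lre_g IH (LK LD1_c2 LD2_c9 LD3_c40) (LK LD1_c1 LD2_c1 LD3_c57) Lrfl Lrfl
theorem f205441 : Led Lsl_ft (LP (LK LD1_c1 LD2_c31 LD3_c12)) = (LP (LK LD1_c0 LD2_c42 LD3_c3)) :=
  Lre_f IH (LK LD1_c1 LD2_c31 LD3_c12) (LK LD1_c0 LD2_c42 LD3_c3) Lrfl Lrfl
theorem f210861 : Led Lsl_gf (LP (LK LD1_c2 LD2_c9 LD3_c40)) = (LP (LK LD1_c1 LD2_c31 LD3_c12)) :=
  Lgr Lrot47 (Lpr_gt (f59391 IH) (Lpr_af (f205385 IH) (Lpe (f205441 IH) (Lpn (LP (LK LD1_c1 LD2_c31 LD3_c12))))))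
theorem f239174 : Led Lsl_ct (LP (LK LD1_c1 LD2_c6 LD3_c27)) = (LP (LK LD1_c2 LD2_c9 LD3_c40)) :=
  Lgr Lrot63 (Lpr_bt (f239170 IH) (Lpr_gt (f37092 IH) (Lpe (K11.f59075 IH) (Lpr_ct (K11.f59025 IH) (Lpr_gt (f185167 IH) (Lpe (K10.f20482 IH) (Lpe (K11.f205329 IH) (Lpr_gt (K11.f205626 IH) (Lpr_ct (K11.f36467 IH) (Lpe (f210861 IH) (Lpn (LP (LK LD1_c2 LD2_c9 LD3_c40)))))))))))))
theorem f59058 : Led Lsl_at (LP (LK LD1_c1 LD2_c27 LD3_c56)) = (LP (LK LD1_c0 LD2_c40 LD3_c50)) :=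
  Lre_a IH (LK LD1_c1 LD2_c27 LD3_c56) (LK LD1_c0 LD2_c40 LD3_c50) Lrfl Lrfl
theorem f205285 : Led Lsl_af (LP (LK LD1_c1 LD2_c57 LD3_c5)) = (LP (LK LD1_c1 LD2_c6 LD3_c28)) :=
  Lgr Lrot117 (Lpr_dt (K11.f205283 IH) (Lpr_at (f59058 IH) (Lpe (K11.f59049 IH) (Lpn (LP (LK LD1_c1 LD2_c6 LD3_c28))))))
theorem f59082 : Led Lsl_ft (LP (LK LD1_c0 LD2_c30 LD3_c24)) = (LP (LK LD1_c1 LD2_c6 LD3_c28)) :=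
  Lre_f IH (LK LD1_c0 LD2_c30 LD3_c24) (LK LD1_c1 LD2_c6 LD3_c28) Lrfl Lrfl
theorem f59090 : Led Lsl_gt (LP (LK LD1_c0 LD2_c30 LD3_c24)) = (LP (LK LD1_c1 LD2_c6 LD3_c26)) :=
  Lre_g IH (LK LD1_c0 LD2_c30 LD3_c24) (LK LD1_c1 LD2_c6 LD3_c26) Lrfl Lrfl
theorem f210871 : Led Lsl_gf (LP (LK LD1_c1 LD2_c57 LD3_c5)) = (LP (LK LD1_c1 LD2_c6 LD3_c26)) :=
  Lgr Lrot76 (Lpr_af (f205285 IH) (Lpe (f59082 IH) (Lpr_gt (f59090 IH) (Lpn (LP (LK LD1_c1 LD2_c6 LD3_c26))))))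
theorem f80809 : Led Lsl_ft (LP (LK LD1_c0 LD2_c40 LD3_c40)) = (LP (LK LD1_c1 LD2_c27 LD3_c56)) :=
  Lre_f IH (LK LD1_c0 LD2_c40 LD3_c40) (LK LD1_c1 LD2_c27 LD3_c56) Lrfl Lrfl
theorem f80656 : Led Lsl_ft (LP (LK LD1_c1 LD2_c57 LD3_c5)) = (LP (LK LD1_c0 LD2_c55 LD3_c22)) :=
  Lre_f IH (LK LD1_c1 LD2_c57 LD3_c5) (LK LD1_c0 LD2_c55 LD3_c22) Lrfl Lrfl
theorem f80810 : Led Lsl_et (LP (LK LD1_c1 LD2_c27 LD3_c56)) = (LP (LK LD1_c1 LD2_c57 LD3_c5)) :=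
  Lgr Lrot69 (Lpe (f80809 IH) (Lpe (K11.f80808 IH) (Lpr_ff (K11.f80803 IH) (Lpe (K4.f80446 IH) (Lpe (f80656 IH) (Lpn (LP (LK LD1_c1 LD2_c57 LD3_c5))))))))
theorem f182031 : Led Lsl_dt (LP (LK LD1_c1 LD2_c12 LD3_c44)) = (LP (LK LD1_c0 LD2_c33 LD3_c40)) :=
  Lre_d IH (LK LD1_c1 LD2_c12 LD3_c44) (LK LD1_c0 LD2_c33 LD3_c40) Lrfl Lrfl
theorem f210873 : Led Lsl_et (LP (LK LD1_c1 LD2_c12 LD3_c44)) = (LP (LK LD1_c1 LD2_c6 LD3_c26)) :=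
  Lgr Lrot121 (Lpr_dt (f182031 IH) (Lpr_gf (K10.f192345 IH) (Lpe (K1.f31544 IH) (Lpr_et (K1.f36211 IH) (Lpe (K11.f35655 IH) (Lpr_ef (K11.f69680 IH) (Lpr_dt (K11.f59096 IH) (Lpe (K11.f69686 IH) (Lpe (K11.f205283 IH) (Lpr_gf (f210871 IH) (Lpn (LP (LK LD1_c1 LD2_c6 LD3_c26)))))))))))))
theorem f210875 : Led Lsl_gt (LP (LK LD1_c1 LD2_c57 LD3_c5)) = (LP (LK LD1_c1 LD2_c6 LD3_c27)) :=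
  Lgr Lrot112 (Lpr_df (K11.f205287 IH) (Lpr_et (f80810 IH) (Lpr_gf (f210871 IH) (Lpe (f210873 IH) (Lpr_dt (f182031 IH) (Lpr_gf (K10.f192345 IH) (Lpe (K1.f31544 IH) (Lpr_gf (f31593 IH) (Lpe (f59152 IH) (Lpr_dt (f59087 IH) (Lpn (LP (LK LD1_c1 LD2_c6 LD3_c27)))))))))))))
theorem f80654 : Led Lsl_ct (LP (LK LD1_c1 LD2_c1 LD3_c59)) = (LP (LK LD1_c2 LD2_c9 LD3_c42)) :=
  Lre_c IH (LK LD1_c1 LD2_c1 LD3_c59) (LK LD1_c2 LD2_c9 LD3_c42) Lrfl Lrfl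
theorem f205452 : Led Lsl_ft (LP (LK LD1_c0 LD2_c42 LD3_c3)) = (LP (LK LD1_c1 LD2_c31 LD3_c12)) :=
  Lre_f IH (LK LD1_c0 LD2_c42 LD3_c3) (LK LD1_c1 LD2_c31 LD3_c12) Lrfl Lrfl
theorem f205620 : Led Lsl_gf (LP (LK LD1_c2 LD2_c9 LD3_c42)) = (LP (LK LD1_c1 LD2_c31 LD3_c10)) :=
  Lgr Lrot76 (Lpr_af (K11.f205613 IH) (Lpe (f205452 IH) (Lpr_gt (f198449 IH) (Lpn (LP (LK LD1_c1 LD2_c31 LD3_c10))))))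
theorem f59381 : Led Lsl_ct (LP (LK LD1_c0 LD2_c28 LD3_c16)) = (LP (LK LD1_c1 LD2_c1 LD3_c57)) :=
  Lre_c IH (LK LD1_c0 LD2_c28 LD3_c16) (LK LD1_c1 LD2_c1 LD3_c57) Lrfl Lrfl
theorem f80535 : Led Lsl_gt (LP (LK LD1_c0 LD2_c55 LD3_c22)) = (LP (LK LD1_c1 LD2_c57 LD3_c4)) :=
  Lre_g IH (LK LD1_c0 LD2_c55 LD3_c22) (LK LD1_c1 LD2_c57 LD3_c4) Lrfl Lrfl
theorem f239182 : Led Lsl_cf (LP (LK LD1_c1 LD2_c31 LD3_c10)) = (LP (LK LD1_c1 LD2_c57 LD3_c4)) :=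
  Lgr Lrot125 (Lpe (f205620 IH) (Lpe (f80654 IH) (Lpe (K12.f80652 IH) (Lpr_gt (f210875 IH) (Lpe (f239170 IH) (Lpr_ct (f239174 IH) (Lpr_gt (f59391 IH) (Lpe (f59381 IH) (Lpe (K4.f80545 IH) (Lpr_gt (f80535 IH) (Lpn (LP (LK LD1_c1 LD2_c57 LD3_c4)))))))))))))
theorem f239184 : Led Lsl_ct (LP (LK LD1_c1 LD2_c31 LD3_c10)) = (LP (LK LD1_c1 LD2_c57 LD3_c4)) :=
  Lgr Lrot59 (Lpr_cf (f239182 IH) (Lpn (LP (LK LD1_c1 LD2_c57 LD3_c4))))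
theorem f239311 : Led Lsl_ef (LP (LK LD1_c1 LD2_c9 LD3_c31)) = (LP (LK LD1_c1 LD2_c57 LD3_c4)) :=
  Lgr Lrot28 (Lpr_ct (f31572 IH) (Lpr_et (f239309 IH) (Lpr_ct (f239184 IH) (Lpn (LP (LK LD1_c1 LD2_c57 LD3_c4))))))
theorem f192846 : Led Lsl_df (LP (LK LD1_c1 LD2_c56 LD3_c59)) = (LP (LK LD1_c1 LD2_c57 LD3_c34)) :=
  Lgr Lrot38 (Lpr_dt (K12.f192844 IH) (Lpn (LP (LK LD1_c1 LD2_c57 LD3_c34))))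
theorem f29629 : Led Lsl_gt (LP (LK LD1_c1 LD2_c56 LD3_c59)) = (LP (LK LD1_c4 LD2_c0 LD3_c23)) :=
  Lre_g IH (LK LD1_c1 LD2_c56 LD3_c59) (LK LD1_c4 LD2_c0 LD3_c23) Lrfl Lrfl
theorem f239354 : Led Lsl_df (LP (LK LD1_c4 LD2_c0 LD3_c23)) = (LP (LK LD1_c1 LD2_c57 LD3_c4)) :=
  Lgr Lrot168 (Lpe (f29629 IH) (Lpr_df (f192846 IH) (Lpr_et (K12.f192843 IH) (Lpe (K12.f192848 IH) (Lpr_ef (K12.f211567 IH) (Lpr_dt (K10.f28791 IH) (Lpe (K12.f28785 IH) (Lpe (K12.f28993 IH) (Lpr_gf (f225567 IH) (Lpr_ef (f239311 IH) (Lpn (LP (LK LD1_c1 LD2_c57 LD3_c4)))))))))))))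
theorem f205298 : Led Lsl_gt (LP (LK LD1_c1 LD2_c57 LD3_c4)) = (LP (LK LD1_c1 LD2_c6 LD3_c28)) :=
  Lgr Lrot46 (Lpe (f80535 IH) (Lpr_ft (K11.f80649 IH) (Lpr_at (K11.f205291 IH) (Lpn (LP (LK LD1_c1 LD2_c6 LD3_c28))))))
theorem f25991 : Led Lsl_ct (LP (LK LD1_c1 LD2_c31 LD3_c28)) = (LP (LK LD1_c0 LD2_c42 LD3_c14)) :=
  Lre_c IH (LK LD1_c1 LD2_c31 LD3_c28) (LK LD1_c0 LD2_c42 LD3_c14) Lrfl Lrfl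
theorem f205110 : Led Lsl_dt (LP (LK LD1_c1 LD2_c31 LD3_c29)) = (LP (LK LD1_c0 LD2_c42 LD3_c14)) :=
  Lre_d IH (LK LD1_c1 LD2_c31 LD3_c29) (LK LD1_c0 LD2_c42 LD3_c14) Lrfl Lrfl
theorem f204847 : Led Lsl_ct (LP (LK LD1_c3 LD2_c10 LD3_c28)) = (LP (LK LD1_c1 LD2_c31 LD3_c29)) :=
  Lre_c IH (LK LD1_c3 LD2_c10 LD3_c28) (LK LD1_c1 LD2_c31 LD3_c29) Lrfl Lrfl
theorem f205098 : Led Lsl_bf (LP (LK LD1_c0 LD2_c42 LD3_c13)) = (LP (LK LD1_c0 LD2_c36 LD3_c56)) :=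
  Lgr Lrot93 (Lpr_dt (K11.f25952 IH) (Lpr_bt (K11.f204893 IH) (Lpr_dt (K9.f176905 IH) (Lpn (LP (LK LD1_c0 LD2_c36 LD3_c56))))))
theorem f169783 : Led Lsl_gt (LP (LK LD1_c0 LD2_c42 LD3_c13)) = (LP (LK LD1_c1 LD2_c31 LD3_c26)) :=
  Lre_g IH (LK LD1_c0 LD2_c42 LD3_c13) (LK LD1_c1 LD2_c31 LD3_c26) Lrfl Lrfl
theorem f205104 : Led Lsl_bt (LP (LK LD1_c3 LD2_c10 LD3_c25)) = (LP (LK LD1_c1 LD2_c31 LD3_c26)) :=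
  Lre_b IH (LK LD1_c3 LD2_c10 LD3_c25) (LK LD1_c1 LD2_c31 LD3_c26) Lrfl Lrfl
theorem f205105 : Led Lsl_ct (LP (LK LD1_c3 LD2_c10 LD3_c25)) = (LP (LK LD1_c6 LD2_c25 LD3_c29)) :=
  Lre_c IH (LK LD1_c3 LD2_c10 LD3_c25) (LK LD1_c6 LD2_c25 LD3_c29) Lrfl Lrfl
theorem f176833 : Led Lsl_ct (LP (LK LD1_c0 LD2_c36 LD3_c56)) = (LP (LK LD1_c1 LD2_c19 LD3_c47)) :=
  Lre_c IH (LK LD1_c0 LD2_c36 LD3_c56) (LK LD1_c1 LD2_c19 LD3_c47) Lrfl Lrfl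
theorem f204846 : Led Lsl_bt (LP (LK LD1_c1 LD2_c31 LD3_c29)) = (LP (LK LD1_c0 LD2_c42 LD3_c16)) :=
  Lre_b IH (LK LD1_c1 LD2_c31 LD3_c29) (LK LD1_c0 LD2_c42 LD3_c16) Lrfl Lrfl
theorem f204848 : Led Lsl_ct (LP (LK LD1_c1 LD2_c31 LD3_c29)) = (LP (LK LD1_c3 LD2_c10 LD3_c28)) :=
  Lre_c IH (LK LD1_c1 LD2_c31 LD3_c29) (LK LD1_c3 LD2_c10 LD3_c28) Lrfl Lrfl
theorem f205106 : Led Lsl_gt (LP (LK LD1_c6 LD2_c25 LD3_c29)) = (LP (LK LD1_c3 LD2_c10 LD3_c28)) :=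
  Lgr Lrot65 (Lpe (f205105 IH) (Lpr_bt (f205104 IH) (Lpe (f169783 IH) (Lpr_bf (f205098 IH) (Lpr_ct (f176833 IH) (Lpr_gf (K12.f204844 IH) (Lpe (K11.f172423 IH) (Lpe (K11.f204839 IH) (Lpe (f204846 IH) (Lpr_ct (f204848 IH) (Lpn (LP (LK LD1_c3 LD2_c10 LD3_c28)))))))))))))
theorem f239358 : Led Lsl_gt (LP (LK LD1_c4 LD2_c0 LD3_c23)) = (LP (LK LD1_c3 LD2_c10 LD3_c25)) :=
  Lgr Lrot9 (Lpr_df (f239354 IH) (Lpr_gt (f205298 IH) (Lpr_ct (K11.f59059 IH) (Lpr_gt (K11.f205181 IH) (Lpr_ct (f25991 IH) (Lpe (f205110 IH) (Lpe (f204847 IH) (Lpe (f205106 IH) (Lpe (f205105 IH) (Lpn (LP (LK LD1_c3 LD2_c10 LD3_c25))))))))))))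
theorem f29628 : Led Lsl_ft (LP (LK LD1_c1 LD2_c56 LD3_c59)) = (LP (LK LD1_c4 LD2_c0 LD3_c24)) :=
  Lre_f IH (LK LD1_c1 LD2_c56 LD3_c59) (LK LD1_c4 LD2_c0 LD3_c24) Lrfl Lrfl
theorem f239360 : Led Lsl_at (LP (LK LD1_c4 LD2_c0 LD3_c24)) = (LP (LK LD1_c3 LD2_c10 LD3_c25)) :=
  Lgr Lrot26 (Lpe (f29628 IH) (Lpr_gt (f29629 IH) (Lpr_gt (f239358 IH) (Lpn (LP (LK LD1_c3 LD2_c10 LD3_c25))))))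
theorem f237329 : Led Lsl_et (LP (LK LD1_c1 LD2_c1 LD3_c41)) = (LP (LK LD1_c0 LD2_c28 LD3_c10)) :=
  Lre_e IH (LK LD1_c1 LD2_c1 LD3_c41) (LK LD1_c0 LD2_c28 LD3_c10) Lrfl Lrfl
theorem f237330 : Led Lsl_df (LP (LK LD1_c1 LD2_c59 LD3_c30)) = (LP (LK LD1_c1 LD2_c1 LD3_c41)) :=
  Lgr Lrot170 (Lpr_gt (K10.f56331 IH) (Lpe (K12.f36450 IH) (Lpr_et (K12.f36458 IH) (Lpr_gt (K12.f210953 IH) (Lpr_dt (K12.f80940 IH) (Lpe (K9.f101419 IH) (Lpe (K9.f100968 IH) (Lpr_et (K9.f100949 IH) (Lpr_gt (f237318 IH) (Lpe (f237329 IH) (Lpn (LP (LK LD1_c1 LD2_c1 LD3_c41)))))))))))))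
theorem f33188 : Led Lsl_dt (LP (LK LD1_c0 LD2_c25 LD3_c15)) = (LP (LK LD1_c0 LD2_c55 LD3_c37)) :=
  Lre_d IH (LK LD1_c0 LD2_c25 LD3_c15) (LK LD1_c0 LD2_c55 LD3_c37) Lrfl Lrfl
theorem f193085 : Led Lsl_bt (LP (LK LD1_c0 LD2_c55 LD3_c37)) = (LP (LK LD1_c0 LD2_c56 LD3_c35)) :=
  Lgr Lrot95 (Lpe (f33188 IH) (Lpr_bf (K10.f193079 IH) (Lpe (K10.f56329 IH) (Lpn (LP (LK LD1_c0 LD2_c56 LD3_c35))))))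
theorem f193096 : Led Lsl_bf (LP (LK LD1_c1 LD2_c57 LD3_c34)) = (LP (LK LD1_c1 LD2_c59 LD3_c30)) :=
  Lgr Lrot96 (Lpr_et (K12.f192843 IH) (Lpr_bt (f193085 IH) (Lpr_et (K10.f56330 IH) (Lpn (LP (LK LD1_c1 LD2_c59 LD3_c30))))))
theorem f237332 : Led Lsl_bt (LP (LK LD1_c1 LD2_c56 LD3_c59)) = (LP (LK LD1_c1 LD2_c1 LD3_c41)) :=
  Lgr Lrot95 (Lpr_df (f192846 IH) (Lpr_bf (f193096 IH) (Lpr_df (f237330 IH) (Lpn (LP (LK LD1_c1 LD2_c1 LD3_c41))))))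
theorem f29632 : Led Lsl_ft (LP (LK LD1_c4 LD2_c0 LD3_c24)) = (LP (LK LD1_c1 LD2_c56 LD3_c59)) :=
  Lre_f IH (LK LD1_c4 LD2_c0 LD3_c24) (LK LD1_c1 LD2_c56 LD3_c59) Lrfl Lrfl
theorem f237338 : Led Lsl_ft (LP (LK LD1_c1 LD2_c1 LD3_c41)) = (LP (LK LD1_c2 LD2_c9 LD3_c0)) :=
  Lre_f IH (LK LD1_c1 LD2_c1 LD3_c41) (LK LD1_c2 LD2_c9 LD3_c0) Lrfl Lrfl
theorem f237369 : Led Lsl_bf (LP (LK LD1_c4 LD2_c0 LD3_c24)) = (LP (LK LD1_c2 LD2_c9 LD3_c0)) :=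
  Lgr Lrot61 (Lpr_ft (f29632 IH) (Lpr_bt (f237332 IH) (Lpr_ft (f237338 IH) (Lpn (LP (LK LD1_c2 LD2_c9 LD3_c0))))))
theorem f172719 : Led Lsl_ft (LP (LK LD1_c0 LD2_c32 LD3_c41)) = (LP (LK LD1_c1 LD2_c10 LD3_c32)) :=
  Lre_f IH (LK LD1_c0 LD2_c32 LD3_c41) (LK LD1_c1 LD2_c10 LD3_c32) Lrfl Lrfl
theorem f205156 : Led Lsl_af (LP (LK LD1_c1 LD2_c31 LD3_c26)) = (LP (LK LD1_c1 LD2_c10 LD3_c32)) :=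
  Lgr Lrot31 (Lpe (f169783 IH) (Lpr_gf (K11.f205154 IH) (Lpr_ft (f172719 IH) (Lpn (LP (LK LD1_c1 LD2_c10 LD3_c32))))))
theorem f205173 : Led Lsl_at (LP (LK LD1_c1 LD2_c31 LD3_c26)) = (LP (LK LD1_c1 LD2_c10 LD3_c32)) :=
  Lgr Lrot100 (Lpr_af (f205156 IH) (Lpn (LP (LK LD1_c1 LD2_c10 LD3_c32))))
theorem f172710 : Led Lsl_bt (LP (LK LD1_c1 LD2_c10 LD3_c32)) = (LP (LK LD1_c2 LD2_c26 LD3_c26)) :=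
  Lre_b IH (LK LD1_c1 LD2_c10 LD3_c32) (LK LD1_c2 LD2_c26 LD3_c26) Lrfl Lrfl
theorem f239364 : Led Lsl_af (LP (LK LD1_c2 LD2_c9 LD3_c0)) = (LP (LK LD1_c2 LD2_c26 LD3_c26)) :=
  Lgr Lrot36 (Lpe (f237369 IH) (Lpr_at (f239360 IH) (Lpr_bt (f205104 IH) (Lpr_at (f205173 IH) (Lpr_bt (f172710 IH) (Lpn (LP (LK LD1_c2 LD2_c26 LD3_c26))))))))
theorem f237337 : Led Lsl_ft (LP (LK LD1_c2 LD2_c9 LD3_c0)) = (LP (LK LD1_c1 LD2_c1 LD3_c41)) :=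
  Lre_f IH (LK LD1_c2 LD2_c9 LD3_c0) (LK LD1_c1 LD2_c1 LD3_c41) Lrfl Lrfl
theorem f196380 : Led Lsl_ft (LP (LK LD1_c1 LD2_c10 LD3_c31)) = (LP (LK LD1_c2 LD2_c26 LD3_c26)) :=
  Lre_f IH (LK LD1_c1 LD2_c10 LD3_c31) (LK LD1_c2 LD2_c26 LD3_c26) Lrfl Lrfl
theorem f239368 : Led Lsl_at (LP (LK LD1_c1 LD2_c1 LD3_c41)) = (LP (LK LD1_c1 LD2_c10 LD3_c31)) :=
  Lgr Lrot66 (Lpe (f237337 IH) (Lpr_af (f239364 IH) (Lpe (f196380 IH) (Lpn (LP (LK LD1_c1 LD2_c10 LD3_c31))))))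
theorem f237315 : Led Lsl_et (LP (LK LD1_c0 LD2_c28 LD3_c10)) = (LP (LK LD1_c1 LD2_c1 LD3_c41)) :=
  Lre_e IH (LK LD1_c0 LD2_c28 LD3_c10) (LK LD1_c1 LD2_c1 LD3_c41) Lrfl Lrfl
theorem f174951 : Led Lsl_et (LP (LK LD1_c1 LD2_c10 LD3_c31)) = (LP (LK LD1_c0 LD2_c32 LD3_c40)) :=
  Lre_e IH (LK LD1_c1 LD2_c10 LD3_c31) (LK LD1_c0 LD2_c32 LD3_c40) Lrfl Lrfl
theorem f239376 : Led Lsl_af (LP (LK LD1_c0 LD2_c28 LD3_c10)) = (LP (LK LD1_c0 LD2_c32 LD3_c40)) :=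
  Lgr Lrot50 (Lpr_et (f237315 IH) (Lpr_at (f239368 IH) (Lpr_et (f174951 IH) (Lpn (LP (LK LD1_c0 LD2_c32 LD3_c40))))))
theorem f239384 : Led Lsl_ft (LP (LK LD1_c0 LD2_c28 LD3_c9)) = (LP (LK LD1_c0 LD2_c32 LD3_c40)) :=
  Lgr Lrot2 (Lpr_gt (K9.f181414 IH) (Lpr_gt (f237318 IH) (Lpr_af (f239376 IH) (Lpn (LP (LK LD1_c0 LD2_c32 LD3_c40))))))
theorem f239394 : Led Lsl_ff (LP (LK LD1_c0 LD2_c28 LD3_c9)) = (LP (LK LD1_c0 LD2_c32 LD3_c40)) :=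
  Lgr Lrot3 (Lpr_ft (f239384 IH) (Lpn (LP (LK LD1_c0 LD2_c32 LD3_c40))))
theorem f239404 : Led Lsl_at (LP (LK LD1_c0 LD2_c28 LD3_c9)) = (LP (LK LD1_c0 LD2_c54 LD3_c28)) :=
  Lgr Lrot26 (Lpr_ff (f239394 IH) (Lpr_gt (K9.f174944 IH) (Lpr_gt (K10.f28470 IH) (Lpn (LP (LK LD1_c0 LD2_c54 LD3_c28))))))
theorem f239378 : Led Lsl_at (LP (LK LD1_c0 LD2_c28 LD3_c10)) = (LP (LK LD1_c0 LD2_c32 LD3_c40)) :=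
  Lgr Lrot100 (Lpr_af (f239376 IH) (Lpn (LP (LK LD1_c0 LD2_c32 LD3_c40))))
theorem f239414 : Led Lsl_ff (LP (LK LD1_c0 LD2_c28 LD3_c10)) = (LP (LK LD1_c0 LD2_c54 LD3_c28)) :=
  Lgr Lrot30 (Lpr_at (f239378 IH) (Lpe (f239394 IH) (Lpr_at (f239404 IH) (Lpn (LP (LK LD1_c0 LD2_c54 LD3_c28))))))
theorem f239422 : Led Lsl_ft (LP (LK LD1_c0 LD2_c28 LD3_c10)) = (LP (LK LD1_c0 LD2_c54 LD3_c28)) :=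
  Lgr Lrot48 (Lpr_ff (f239414 IH) (Lpn (LP (LK LD1_c0 LD2_c54 LD3_c28))))
theorem f239428 : Led Lsl_ff (LP (LK LD1_c0 LD2_c56 LD3_c36)) = (LP (LK LD1_c1 LD2_c0 LD3_c33)) :=
  Lgr Lrot19 (Lpr_dt (f237327 IH) (Lpr_ft (f239422 IH) (Lpr_dt (K12.f211470 IH) (Lpn (LP (LK LD1_c1 LD2_c0 LD3_c33))))))
theorem f192978 : Led Lsl_et (LP (LK LD1_c0 LD2_c25 LD3_c39)) = (LP (LK LD1_c0 LD2_c56 LD3_c36)) :=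
  Lre_e IH (LK LD1_c0 LD2_c25 LD3_c39) (LK LD1_c0 LD2_c56 LD3_c36) Lrfl Lrfl
theorem f229251 : Led Lsl_cf (LP (LK LD1_c1 LD2_c19 LD3_c10)) = (LP (LK LD1_c0 LD2_c56 LD3_c36)) :=
  Lgr Lrot39 (Lpr_et (K12.f229247 IH) (Lpe (K10.f192959 IH) (Lpr_et (f192978 IH) (Lpn (LP (LK LD1_c0 LD2_c56 LD3_c36))))))
theorem f239434 : Led Lsl_ft (LP (LK LD1_c1 LD2_c19 LD3_c10)) = (LP (LK LD1_c1 LD2_c59 LD3_c22)) :=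
  Lgr Lrot4 (Lpr_cf (f229251 IH) (Lpr_ff (f239428 IH) (Lpe (K12.f211472 IH) (Lpn (LP (LK LD1_c1 LD2_c59 LD3_c22))))))
theorem f239442 : Led Lsl_af (LP (LK LD1_c1 LD2_c19 LD3_c9)) = (LP (LK LD1_c1 LD2_c59 LD3_c22)) :=
  Lgr Lrot31 (Lpe (K12.f179104 IH) (Lpe (K12.f165224 IH) (Lpr_ft (f239434 IH) (Lpn (LP (LK LD1_c1 LD2_c59 LD3_c22))))))
theorem f194096 : Led Lsl_gt (LP (LK LD1_c1 LD2_c59 LD3_c10)) = (LP (LK LD1_c0 LD2_c56 LD3_c21)) :=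
  Lre_g IH (LK LD1_c1 LD2_c59 LD3_c10) (LK LD1_c0 LD2_c56 LD3_c21) Lrfl Lrfl
theorem f223705 : Led Lsl_ef (LP (LK LD1_c1 LD2_c59 LD3_c10)) = (LP (LK LD1_c1 LD2_c59 LD3_c22)) :=
  Lgr Lrot114 (Lpr_gt (f194096 IH) (Lpe (K11.f200688 IH) (Lpr_dt (K12.f200691 IH) (Lpr_gt (K12.f200702 IH) (Lpr_df (K12.f223689 IH) (Lpr_et (K12.f168530 IH) (Lpr_gt (K12.f182314 IH) (Lpr_dt (K1.f28758 IH) (Lpr_gt (K12.f29643 IH) (Lpe (K12.f211486 IH) (Lpn (LP (LK LD1_c1 LD2_c59 LD3_c22)))))))))))))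
theorem f223713 : Led Lsl_et (LP (LK LD1_c1 LD2_c59 LD3_c10)) = (LP (LK LD1_c1 LD2_c59 LD3_c22)) :=
  Lgr Lrot87 (Lpr_ef (f223705 IH) (Lpn (LP (LK LD1_c1 LD2_c59 LD3_c22))))
theorem f239448 : Led Lsl_at (LP (LK LD1_c2 LD2_c3 LD3_c16)) = (LP (LK LD1_c1 LD2_c59 LD3_c10)) :=
  Lgr Lrot80 (Lpe (f200409 IH) (Lpr_af (f239442 IH) (Lpe (f223713 IH) (Lpn (LP (LK LD1_c1 LD2_c59 LD3_c10))))))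
theorem f177626 : Led Lsl_dt (LP (LK LD1_c0 LD2_c39 LD3_c30)) = (LP (LK LD1_c1 LD2_c25 LD3_c35)) :=
  Lre_d IH (LK LD1_c0 LD2_c39 LD3_c30) (LK LD1_c1 LD2_c25 LD3_c35) Lrfl Lrfl
theorem f177541 : Led Lsl_gt (LP (LK LD1_c1 LD2_c25 LD3_c35)) = (LP (LK LD1_c2 LD2_c59 LD3_c45)) :=
  Lre_g IH (LK LD1_c1 LD2_c25 LD3_c35) (LK LD1_c2 LD2_c59 LD3_c45) Lrfl Lrfl
theorem f227295 : Led Lsl_dt (LP (LK LD1_c2 LD2_c59 LD3_c45)) = (LP (LK LD1_c2 LD2_c3 LD3_c16)) :=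
  Lgr Lrot105 (Lpe (f177541 IH) (Lpe (f177626 IH) (Lpr_gf (K9.f182036 IH) (Lpe (K0.f28629 IH) (Lpe (K10.f187889 IH) (Lpr_dt (K11.f171682 IH) (Lpr_gt (K10.f185151 IH) (Lpr_dt (K12.f227291 IH) (Lpe (f166426 IH) (Lpn (LP (LK LD1_c2 LD2_c3 LD3_c16))))))))))))
theorem f223712 : Led Lsl_dt (LP (LK LD1_c1 LD2_c59 LD3_c10)) = (LP (LK LD1_c4 LD2_c4 LD3_c32)) :=
  Lre_d IH (LK LD1_c1 LD2_c59 LD3_c10) (LK LD1_c4 LD2_c4 LD3_c32) Lrfl Lrfl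
theorem f239454 : Led Lsl_af (LP (LK LD1_c2 LD2_c59 LD3_c45)) = (LP (LK LD1_c4 LD2_c4 LD3_c32)) :=
  Lgr Lrot117 (Lpr_dt (f227295 IH) (Lpr_at (f239448 IH) (Lpr_dt (f223712 IH) (Lpn (LP (LK LD1_c4 LD2_c4 LD3_c32))))))
theorem f190336 : Led Lsl_et (LP (LK LD1_c2 LD2_c31 LD3_c34)) = (LP (LK LD1_c1 LD2_c12 LD3_c51)) :=
  Lre_e IH (LK LD1_c2 LD2_c31 LD3_c34) (LK LD1_c1 LD2_c12 LD3_c51) Lrfl Lrfl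
theorem f190335 : Led Lsl_dt (LP (LK LD1_c2 LD2_c31 LD3_c34)) = (LP (LK LD1_c5 LD2_c8 LD3_c47)) :=
  Lre_d IH (LK LD1_c2 LD2_c31 LD3_c34) (LK LD1_c5 LD2_c8 LD3_c47) Lrfl Lrfl
theorem f182534 : Led Lsl_dt (LP (LK LD1_c1 LD2_c59 LD3_c44)) = (LP (LK LD1_c4 LD2_c5 LD3_c7)) :=
  Lre_d IH (LK LD1_c1 LD2_c59 LD3_c44) (LK LD1_c4 LD2_c5 LD3_c7) Lrfl Lrfl
theorem f191105 : Led Lsl_gf (LP (LK LD1_c5 LD2_c8 LD3_c47)) = (LP (LK LD1_c4 LD2_c5 LD3_c7)) :=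
  Lgr Lrot134 (Lpe (f190335 IH) (Lpr_et (f190336 IH) (Lpr_gt (K12.f190878 IH) (Lpe (K9.f43392 IH) (Lpe (K8.f44522 IH) (Lpr_gt (K1.f47445 IH) (Lpr_df (K1.f47741 IH) (Lpr_et (K10.f47803 IH) (Lpr_gt (K10.f191098 IH) (Lpr_dt (f182534 IH) (Lpn (LP (LK LD1_c4 LD2_c5 LD3_c7)))))))))))))
theorem f191111 : Led Lsl_bt (LP (LK LD1_c2 LD2_c31 LD3_c37)) = (LP (LK LD1_c5 LD2_c8 LD3_c47)) :=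
  Lre_b IH (LK LD1_c2 LD2_c31 LD3_c37) (LK LD1_c5 LD2_c8 LD3_c47) Lrfl Lrfl
theorem f191112 : Led Lsl_ct (LP (LK LD1_c2 LD2_c31 LD3_c37)) = (LP (LK LD1_c5 LD2_c8 LD3_c55)) :=
  Lre_c IH (LK LD1_c2 LD2_c31 LD3_c37) (LK LD1_c5 LD2_c8 LD3_c55) Lrfl Lrfl
theorem f191109 : Led Lsl_bt (LP (LK LD1_c1 LD2_c59 LD3_c46)) = (LP (LK LD1_c4 LD2_c5 LD3_c7)) :=
  Lre_b IH (LK LD1_c1 LD2_c59 LD3_c46) (LK LD1_c4 LD2_c5 LD3_c7) Lrfl Lrfl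
theorem f182447 : Led Lsl_ct (LP (LK LD1_c1 LD2_c59 LD3_c46)) = (LP (LK LD1_c4 LD2_c5 LD3_c12)) :=
  Lre_c IH (LK LD1_c1 LD2_c59 LD3_c46) (LK LD1_c4 LD2_c5 LD3_c12) Lrfl Lrfl
theorem f187883 : Led Lsl_gt (LP (LK LD1_c8 LD2_c11 LD3_c10)) = (LP (LK LD1_c4 LD2_c5 LD3_c12)) :=
  Lre_g IH (LK LD1_c8 LD2_c11 LD3_c10) (LK LD1_c4 LD2_c5 LD3_c12) Lrfl Lrfl
theorem f183955 : Led Lsl_gt (LP (LK LD1_c2 LD2_c33 LD3_c9)) = (LP (LK LD1_c5 LD2_c12 LD3_c34)) :=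
  Lre_g IH (LK LD1_c2 LD2_c33 LD3_c9) (LK LD1_c5 LD2_c12 LD3_c34) Lrfl Lrfl
theorem f47278 : Led Lsl_dt (LP (LK LD1_c1 LD2_c59 LD3_c46)) = (LP (LK LD1_c0 LD2_c56 LD3_c48)) :=
  Lre_d IH (LK LD1_c1 LD2_c59 LD3_c46) (LK LD1_c0 LD2_c56 LD3_c48) Lrfl Lrfl
theorem f187882 : Led Lsl_ct (LP (LK LD1_c4 LD2_c5 LD3_c12)) = (LP (LK LD1_c1 LD2_c59 LD3_c46)) :=
  Lre_c IH (LK LD1_c4 LD2_c5 LD3_c12) (LK LD1_c1 LD2_c59 LD3_c46) Lrfl Lrfl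
theorem f187884 : Led Lsl_ct (LP (LK LD1_c5 LD2_c12 LD3_c34)) = (LP (LK LD1_c8 LD2_c11 LD3_c10)) :=
  Lgr Lrot152 (Lpe (f183955 IH) (Lpe (f183900 IH) (Lpe (K9.f183947 IH) (Lpe (K9.f44518 IH) (Lpr_gt (K10.f187875 IH) (Lpr_ct (K10.f46221 IH) (Lpe (f47278 IH) (Lpe (f187882 IH) (Lpe (f187883 IH) (Lpn (LP (LK LD1_c8 LD2_c11 LD3_c10))))))))))))
theorem f191113 : Led Lsl_bt (LP (LK LD1_c1 LD2_c13 LD3_c33)) = (LP (LK LD1_c2 LD2_c33 LD3_c9)) :=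
  Lre_b IH (LK LD1_c1 LD2_c13 LD3_c33) (LK LD1_c2 LD2_c33 LD3_c9) Lrfl Lrfl
theorem f191114 : Led Lsl_gt (LP (LK LD1_c5 LD2_c8 LD3_c55)) = (LP (LK LD1_c2 LD2_c33 LD3_c13)) :=
  Lgr Lrot65 (Lpe (f191112 IH) (Lpr_bt (f191111 IH) (Lpr_gf (f191105 IH) (Lpe (f191109 IH) (Lpr_ct (f182447 IH) (Lpe (f187883 IH) (Lpe (f187884 IH) (Lpe (f183955 IH) (Lpe (f191113 IH) (Lpr_ct (K11.f171678 IH) (Lpn (LP (LK LD1_c2 LD2_c33 LD3_c13)))))))))))))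
theorem f191121 : Led Lsl_ct (LP (LK LD1_c5 LD2_c8 LD3_c55)) = (LP (LK LD1_c2 LD2_c31 LD3_c37)) :=
  Lre_c IH (LK LD1_c5 LD2_c8 LD3_c55) (LK LD1_c2 LD2_c31 LD3_c37) Lrfl Lrfl
theorem f31036 : Led Lsl_dt (LP (LK LD1_c0 LD2_c27 LD3_c42)) = (LP (LK LD1_c1 LD2_c0 LD3_c47)) :=
  Lre_d IH (LK LD1_c0 LD2_c27 LD3_c42) (LK LD1_c1 LD2_c0 LD3_c47) Lrfl Lrfl
theorem f201735 : Led Lsl_gt (LP (LK LD1_c2 LD2_c31 LD3_c37)) = (LP (LK LD1_c1 LD2_c25 LD3_c35)) :=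
  Lgr Lrot94 (Lpe (f191121 IH) (Lpr_gt (f191114 IH) (Lpr_dt (K11.f191122 IH) (Lpr_gt (K11.f201731 IH) (Lpr_dt (K0.f31709 IH) (Lpe (K11.f31744 IH) (Lpe (f31036 IH) (Lpe (K9.f182034 IH) (Lpe (K10.f177599 IH) (Lpn (LP (LK LD1_c1 LD2_c25 LD3_c35))))))))))))
theorem f239458 : Led Lsl_ft (LP (LK LD1_c2 LD2_c31 LD3_c37)) = (LP (LK LD1_c4 LD2_c4 LD3_c32)) :=
  Lgr Lrot2 (Lpr_gt (f201735 IH) (Lpr_gt (f177541 IH) (Lpr_af (f239454 IH) (Lpn (LP (LK LD1_c4 LD2_c4 LD3_c32))))))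
theorem f239466 : Led Lsl_ff (LP (LK LD1_c2 LD2_c31 LD3_c37)) = (LP (LK LD1_c4 LD2_c4 LD3_c32)) :=
  Lgr Lrot3 (Lpr_ft (f239458 IH) (Lpn (LP (LK LD1_c4 LD2_c4 LD3_c32))))
theorem f223723 : Led Lsl_gt (LP (LK LD1_c4 LD2_c4 LD3_c32)) = (LP (LK LD1_c2 LD2_c0 LD3_c41)) :=
  Lgr Lrot112 (Lpe (f223712 IH) (Lpr_et (f223713 IH) (Lpe (K12.f192807 IH) (Lpe (K12.f211495 IH) (Lpr_dt (K12.f193324 IH) (Lpe (K12.f223666 IH) (Lpr_df (K12.f223689 IH) (Lpe (K11.f211270 IH) (Lpr_ef (K11.f211246 IH) (Lpr_dt (K12.f190228 IH) (Lpn (LP (LK LD1_c2 LD2_c0 LD3_c41)))))))))))))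
theorem f239473 : Led Lsl_at (LP (LK LD1_c2 LD2_c31 LD3_c37)) = (LP (LK LD1_c4 LD2_c1 LD3_c45)) :=
  Lgr Lrot26 (Lpr_ff (f239466 IH) (Lpr_gt (f223723 IH) (Lpr_gt (K12.f190232 IH) (Lpn (LP (LK LD1_c4 LD2_c1 LD3_c45))))))
theorem f239456 : Led Lsl_at (LP (LK LD1_c2 LD2_c59 LD3_c45)) = (LP (LK LD1_c4 LD2_c4 LD3_c32)) :=
  Lgr Lrot100 (Lpr_af (f239454 IH) (Lpn (LP (LK LD1_c4 LD2_c4 LD3_c32))))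
theorem f239481 : Led Lsl_ff (LP (LK LD1_c2 LD2_c59 LD3_c45)) = (LP (LK LD1_c4 LD2_c1 LD3_c45)) :=
  Lgr Lrot30 (Lpr_at (f239456 IH) (Lpe (f239466 IH) (Lpr_at (f239473 IH) (Lpn (LP (LK LD1_c4 LD2_c1 LD3_c45))))))
theorem f239485 : Led Lsl_ft (LP (LK LD1_c2 LD2_c59 LD3_c45)) = (LP (LK LD1_c4 LD2_c1 LD3_c45)) :=
  Lgr Lrot48 (Lpr_ff (f239481 IH) (Lpn (LP (LK LD1_c4 LD2_c1 LD3_c45))))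
theorem f239475 : Led Lsl_af (LP (LK LD1_c2 LD2_c31 LD3_c37)) = (LP (LK LD1_c4 LD2_c1 LD3_c45)) :=
  Lgr Lrot0 (Lpr_at (f239473 IH) (Lpn (LP (LK LD1_c4 LD2_c1 LD3_c45))))
theorem f32031 : Led Lsl_dt (LP (LK LD1_c2 LD2_c7 LD3_c26)) = (LP (LK LD1_c1 LD2_c0 LD3_c46)) :=
  Lre_d IH (LK LD1_c2 LD2_c7 LD3_c26) (LK LD1_c1 LD2_c0 LD3_c46) Lrfl Lrfl
theorem f191123 : Led Lsl_gf (LP (LK LD1_c2 LD2_c31 LD3_c37)) = (LP (LK LD1_c2 LD2_c7 LD3_c26)) :=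
  Lgr Lrot147 (Lpr_ct (f191112 IH) (Lpr_gt (f191114 IH) (Lpr_ct (K11.f171676 IH) (Lpe (K11.f171664 IH) (Lpe (K9.f165184 IH) (Lpr_gf (K10.f187889 IH) (Lpe (K0.f28622 IH) (Lpr_gf (K10.f32029 IH) (Lpe (f32031 IH) (Lpn (LP (LK LD1_c2 LD2_c7 LD3_c26))))))))))))
theorem f239487 : Led Lsl_gt (LP (LK LD1_c2 LD2_c59 LD3_c45)) = (LP (LK LD1_c2 LD2_c7 LD3_c26)) :=
  Lgr Lrot5 (Lpr_ft (f239485 IH) (Lpe (f239475 IH) (Lpr_gf (f191123 IH) (Lpn (LP (LK LD1_c2 LD2_c7 LD3_c26))))))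
theorem f189925 : Led Lsl_ct (LP (LK LD1_c2 LD2_c7 LD3_c26)) = (LP (LK LD1_c4 LD2_c19 LD3_c54)) :=
  Lre_c IH (LK LD1_c2 LD2_c7 LD3_c26) (LK LD1_c4 LD2_c19 LD3_c54) Lrfl Lrfl
theorem f216365 : Led Lsl_ct (LP (LK LD1_c0 LD2_c59 LD3_c20)) = (LP (LK LD1_c0 LD2_c55 LD3_c33)) :=
  Lgr Lrot7 (Lpe (K12.f27895 IH) (Lpr_gf (K12.f32045 IH) (Lpe (K0.f28488 IH) (Lpe (K10.f190226 IH) (Lpr_cf (K10.f190248 IH) (Lpr_gt (K10.f31564 IH) (Lpr_dt (K1.f28625 IH) (Lpe (K12.f31587 IH) (Lpr_dt (K12.f216356 IH) (Lpn (LP (LK LD1_c0 LD2_c55 LD3_c33))))))))))))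
theorem f211579 : Led Lsl_df (LP (LK LD1_c1 LD2_c57 LD3_c32)) = (LP (LK LD1_c0 LD2_c56 LD3_c24)) :=
  Lgr Lrot70 (Lpr_et (K12.f211574 IH) (Lpr_dt (K10.f28791 IH) (Lpr_et (K10.f28165 IH) (Lpr_dt (K9.f28913 IH) (Lpr_et (K12.f53090 IH) (Lpn (LP (LK LD1_c0 LD2_c56 LD3_c24))))))))
theorem f211590 : Led Lsl_gt (LP (LK LD1_c0 LD2_c55 LD3_c33)) = (LP (LK LD1_c0 LD2_c55 LD3_c41)) :=
  Lgr Lrot131 (Lpe (K12.f182382 IH) (Lpr_dt (K12.f28572 IH) (Lpe (K12.f197265 IH) (Lpe (K9.f28915 IH) (Lpe (K9.f28914 IH) (Lpe (K12.f197269 IH) (Lpe (f211579 IH) (Lpr_gf (K12.f211583 IH) (Lpe (K10.f171532 IH) (Lpr_et (K10.f192659 IH) (Lpn (LP (LK LD1_c0 LD2_c55 LD3_c41)))))))))))))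
theorem f192603 : Led Lsl_ct (LP (LK LD1_c5 LD2_c4 LD3_c53)) = (LP (LK LD1_c2 LD2_c29 LD3_c46)) :=
  Lre_c IH (LK LD1_c5 LD2_c4 LD3_c53) (LK LD1_c2 LD2_c29 LD3_c46) Lrfl Lrfl
theorem f239514 : Led Lsl_gf (LP (LK LD1_c5 LD2_c4 LD3_c53)) = (LP (LK LD1_c4 LD2_c19 LD3_c54)) :=
  Lgr Lrot104 (Lpr_ct (f192603 IH) (Lpr_df (K10.f192592 IH) (Lpe (K10.f192595 IH) (Lpe (f211590 IH) (Lpe (f216365 IH) (Lpe (f166424 IH) (Lpe (f227295 IH) (Lpr_gt (f239487 IH) (Lpr_ct (f189925 IH) (Lpn (LP (LK LD1_c4 LD2_c19 LD3_c54))))))))))))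
theorem f239516 : Led Lsl_df (LP (LK LD1_c2 LD2_c59 LD3_c45)) = (LP (LK LD1_c2 LD2_c3 LD3_c16)) :=
  Lgr Lrot155 (Lpr_gt (f239487 IH) (Lpr_ct (f189925 IH) (Lpe (f239514 IH) (Lpr_ct (f192603 IH) (Lpr_dt (K10.f192597 IH) (Lpe (K10.f192595 IH) (Lpe (f211590 IH) (Lpe (f216365 IH) (Lpe (f166424 IH) (Lpn (LP (LK LD1_c2 LD2_c3 LD3_c16))))))))))))
theorem f239520 : Led Lsl_ft (LP (LK LD1_c1 LD2_c57 LD3_c50)) = (LP (LK LD1_c2 LD2_c3 LD3_c16)) :=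
  Lgr Lrot54 (Lpe (K12.f190242 IH) (Lpe (f239485 IH) (Lpr_df (f239516 IH) (Lpn (LP (LK LD1_c2 LD2_c3 LD3_c16))))))
theorem f239651 : Led Lsl_ff (LP (LK LD1_c0 LD2_c56 LD3_c38)) = (LP (LK LD1_c0 LD2_c58 LD3_c35)) :=
  Lgr Lrot23 (Lpr_ct (K12.f195693 IH) (Lpr_ft (f239520 IH) (Lpr_ct (f166426 IH) (Lpn (LP (LK LD1_c0 LD2_c58 LD3_c35))))))
theorem f166420 : Led Lsl_gt (LP (LK LD1_c0 LD2_c26 LD3_c34)) = (LP (LK LD1_c0 LD2_c58 LD3_c34)) :=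
  Lre_g IH (LK LD1_c0 LD2_c26 LD3_c34) (LK LD1_c0 LD2_c58 LD3_c34) Lrfl Lrfl
theorem f239661 : Led Lsl_at (LP (LK LD1_c0 LD2_c56 LD3_c38)) = (LP (LK LD1_c0 LD2_c58 LD3_c34)) :=
  Lgr Lrot26 (Lpr_ff (f239651 IH) (Lpr_gt (K12.f53248 IH) (Lpr_gt (f166420 IH) (Lpn (LP (LK LD1_c0 LD2_c58 LD3_c34))))))
theorem f227285 : Led Lsl_df (LP (LK LD1_c1 LD2_c13 LD3_c35)) = (LP (LK LD1_c0 LD2_c58 LD3_c35)) :=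
  Lgr Lrot70 (Lpr_et (K12.f212019 IH) (Lpe (K10.f80962 IH) (Lpr_et (K9.f80917 IH) (Lpe (K12.f227277 IH) (Lpr_et (K12.f227279 IH) (Lpn (LP (LK LD1_c0 LD2_c58 LD3_c35))))))))
theorem f192637 : Led Lsl_dt (LP (LK LD1_c2 LD2_c33 LD3_c16)) = (LP (LK LD1_c5 LD2_c12 LD3_c52)) :=
  Lre_d IH (LK LD1_c2 LD2_c33 LD3_c16) (LK LD1_c5 LD2_c12 LD3_c52) Lrfl Lrfl
theorem f211520 : Led Lsl_et (LP (LK LD1_c2 LD2_c33 LD3_c19)) = (LP (LK LD1_c3 LD2_c3 LD3_c56)) :=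
  Lgr Lrot158 (Lpr_cf (K12.f211516 IH) (Lpe (K12.f211508 IH) (Lpe (K10.f37242 IH) (Lpn (LP (LK LD1_c3 LD2_c3 LD3_c56))))))
theorem f3771 : Led Lsl_bt (LP (LK LD1_c0 LD2_c33 LD3_c29)) = (LP (LK LD1_c0 LD2_c15 LD3_c2)) :=
  Lre_b IH (LK LD1_c0 LD2_c33 LD3_c29) (LK LD1_c0 LD2_c15 LD3_c2) Lrfl Lrfl
theorem f166427 : Led Lsl_gf (LP (LK LD1_c1 LD2_c12 LD3_c19)) = (LP (LK LD1_c1 LD2_c55 LD3_c41)) :=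
  Lgr Lrot126 (Lpe (K11.f3772 IH) (Lpr_bt (f3771 IH) (Lpr_gt (K9.f165471 IH) (Lpr_ct (K8.f163648 IH) (Lpe (K9.f163639 IH) (Lpr_cf (K9.f53186 IH) (Lpr_bt (K9.f53206 IH) (Lpr_gt (K9.f166417 IH) (Lpr_bf (K8.f28642 IH) (Lpr_ct (K11.f36941 IH) (Lpn (LP (LK LD1_c1 LD2_c55 LD3_c41)))))))))))))
theorem f197831 : Led Lsl_dt (LP (LK LD1_c1 LD2_c12 LD3_c19)) = (LP (LK LD1_c2 LD2_c30 LD3_c39)) :=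
  Lre_d IH (LK LD1_c1 LD2_c12 LD3_c19) (LK LD1_c2 LD2_c30 LD3_c39) Lrfl Lrfl
theorem f197832 : Led Lsl_gt (LP (LK LD1_c2 LD2_c30 LD3_c39)) = (LP (LK LD1_c5 LD2_c6 LD3_c44)) :=
  Lre_g IH (LK LD1_c2 LD2_c30 LD3_c39) (LK LD1_c5 LD2_c6 LD3_c44) Lrfl Lrfl
theorem f211524 : Led Lsl_dt (LP (LK LD1_c2 LD2_c33 LD3_c19)) = (LP (LK LD1_c5 LD2_c6 LD3_c44)) :=
  Lgr Lrot56 (Lpr_et (f211520 IH) (Lpe (K10.f197823 IH) (Lpe (K10.f37213 IH) (Lpr_dt (K1.f37191 IH) (Lpe (K1.f37192 IH) (Lpe (K1.f35591 IH) (Lpr_et (K11.f35663 IH) (Lpe (f166427 IH) (Lpr_dt (f197831 IH) (Lpr_gt (f197832 IH) (Lpn (LP (LK LD1_c5 LD2_c6 LD3_c44)))))))))))))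
theorem f211527 : Led Lsl_df (LP (LK LD1_c2 LD2_c33 LD3_c19)) = (LP (LK LD1_c5 LD2_c6 LD3_c44)) :=
  Lgr Lrot38 (Lpr_dt (f211524 IH) (Lpn (LP (LK LD1_c5 LD2_c6 LD3_c44))))
theorem f204954 : Led Lsl_ct (LP (LK LD1_c2 LD2_c30 LD3_c39)) = (LP (LK LD1_c5 LD2_c6 LD3_c46)) :=
  Lre_c IH (LK LD1_c2 LD2_c30 LD3_c39) (LK LD1_c5 LD2_c6 LD3_c46) Lrfl Lrfl
theorem f211560 : Led Lsl_gt (LP (LK LD1_c5 LD2_c6 LD3_c46)) = (LP (LK LD1_c10 LD2_c4 LD3_c15)) :=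
  Lre_g IH (LK LD1_c5 LD2_c6 LD3_c46) (LK LD1_c10 LD2_c4 LD3_c15) Lrfl Lrfl
theorem f225565 : Led Lsl_dt (LP (LK LD1_c10 LD2_c4 LD3_c15)) = (LP (LK LD1_c5 LD2_c8 LD3_c55)) :=
  Lgr Lrot57 (Lpe (f211560 IH) (Lpe (f204954 IH) (Lpr_gt (f197832 IH) (Lpe (f211527 IH) (Lpr_gt (K12.f225561 IH) (Lpr_dt (K11.f180141 IH) (Lpe (K11.f201678 IH) (Lpe (K11.f191122 IH) (Lpe (f191114 IH) (Lpn (LP (LK LD1_c5 LD2_c8 LD3_c55))))))))))))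
theorem f239489 : Led Lsl_ct (LP (LK LD1_c5 LD2_c12 LD3_c52)) = (LP (LK LD1_c10 LD2_c4 LD3_c15)) :=
  Lgr Lrot53 (Lpe (f192637 IH) (Lpe (K10.f185152 IH) (Lpr_df (f227285 IH) (Lpe (f166426 IH) (Lpe (f227295 IH) (Lpr_ft (f239485 IH) (Lpe (f239475 IH) (Lpe (f191121 IH) (Lpe (f225565 IH) (Lpn (LP (LK LD1_c10 LD2_c4 LD3_c15))))))))))))
theorem f191139 : Led Lsl_dt (LP (LK LD1_c2 LD2_c31 LD3_c37)) = (LP (LK LD1_c1 LD2_c12 LD3_c53)) :=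
  Lre_d IH (LK LD1_c2 LD2_c31 LD3_c37) (LK LD1_c1 LD2_c12 LD3_c53) Lrfl Lrfl
theorem f239663 : Led Lsl_cf (LP (LK LD1_c0 LD2_c58 LD3_c34)) = (LP (LK LD1_c1 LD2_c12 LD3_c53)) :=
  Lgr Lrot102 (Lpe (f239661 IH) (Lpr_ff (f239651 IH) (Lpe (f227285 IH) (Lpr_ct (K10.f185152 IH) (Lpr_dt (f192637 IH) (Lpr_ct (f239489 IH) (Lpr_dt (f225565 IH) (Lpr_ct (f191121 IH) (Lpr_dt (f191139 IH) (Lpn (LP (LK LD1_c1 LD2_c12 LD3_c53))))))))))))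
theorem f22113 : Led Lsl_dt (LP (LK LD1_c1 LD2_c12 LD3_c53)) = (LP (LK LD1_c2 LD2_c31 LD3_c37)) :=
  Lre_d IH (LK LD1_c1 LD2_c12 LD3_c53) (LK LD1_c2 LD2_c31 LD3_c37) Lrfl Lrfl
theorem f223719 : Led Lsl_dt (LP (LK LD1_c4 LD2_c4 LD3_c32)) = (LP (LK LD1_c1 LD2_c59 LD3_c10)) :=
  Lre_d IH (LK LD1_c4 LD2_c4 LD3_c32) (LK LD1_c1 LD2_c59 LD3_c10) Lrfl Lrfl
theorem f239463 : Led Lsl_ff (LP (LK LD1_c1 LD2_c12 LD3_c53)) = (LP (LK LD1_c1 LD2_c59 LD3_c10)) :=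
  Lgr Lrot19 (Lpr_dt (f22113 IH) (Lpr_ft (f239458 IH) (Lpr_dt (f223719 IH) (Lpn (LP (LK LD1_c1 LD2_c59 LD3_c10))))))
theorem f28494 : Led Lsl_et (LP (LK LD1_c0 LD2_c27 LD3_c42)) = (LP (LK LD1_c0 LD2_c12 LD3_c15)) :=
  Lre_e IH (LK LD1_c0 LD2_c27 LD3_c42) (LK LD1_c0 LD2_c12 LD3_c15) Lrfl Lrfl
theorem f223715 : Led Lsl_gt (LP (LK LD1_c1 LD2_c59 LD3_c11)) = (LP (LK LD1_c1 LD2_c0 LD3_c47)) :=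
  Lgr Lrot139 (Lpe (K11.f28995 IH) (Lpe (f194096 IH) (Lpr_ef (f223705 IH) (Lpr_dt (K12.f211486 IH) (Lpe (K12.f29643 IH) (Lpe (K1.f28758 IH) (Lpr_et (K1.f29158 IH) (Lpr_gf (K0.f31030 IH) (Lpe (f28494 IH) (Lpr_dt (f31036 IH) (Lpn (LP (LK LD1_c1 LD2_c0 LD3_c47)))))))))))))
theorem f170659 : Led Lsl_gt (LP (LK LD1_c1 LD2_c9 LD3_c8)) = (LP (LK LD1_c0 LD2_c31 LD3_c37)) :=
  Lre_g IH (LK LD1_c1 LD2_c9 LD3_c8) (LK LD1_c0 LD2_c31 LD3_c37) Lrfl Lrfl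
theorem f223717 : Led Lsl_cf (LP (LK LD1_c1 LD2_c59 LD3_c10)) = (LP (LK LD1_c1 LD2_c9 LD3_c8)) :=
  Lgr Lrot166 (Lpr_gt (f194096 IH) (Lpr_dt (K11.f28995 IH) (Lpr_gt (f223715 IH) (Lpr_dt (K0.f31707 IH) (Lpr_ct (K0.f31706 IH) (Lpe (K9.f31999 IH) (Lpe (K10.f193353 IH) (Lpe (K10.f193345 IH) (Lpe (f170659 IH) (Lpn (LP (LK LD1_c1 LD2_c9 LD3_c8))))))))))))
theorem f239673 : Led Lsl_ft (LP (LK LD1_c0 LD2_c58 LD3_c34)) = (LP (LK LD1_c1 LD2_c9 LD3_c8)) :=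
  Lgr Lrot4 (Lpr_cf (f239663 IH) (Lpr_ff (f239463 IH) (Lpr_cf (f223717 IH) (Lpn (LP (LK LD1_c1 LD2_c9 LD3_c8))))))
theorem f239675 : Led Lsl_ff (LP (LK LD1_c0 LD2_c58 LD3_c34)) = (LP (LK LD1_c1 LD2_c9 LD3_c8)) :=
  Lgr Lrot3 (Lpr_ft (f239673 IH) (Lpn (LP (LK LD1_c1 LD2_c9 LD3_c8))))
theorem f190276 : Led Lsl_et (LP (LK LD1_c0 LD2_c33 LD3_c48)) = (LP (LK LD1_c1 LD2_c12 LD3_c53)) :=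
  Lre_e IH (LK LD1_c0 LD2_c33 LD3_c48) (LK LD1_c1 LD2_c12 LD3_c53) Lrfl Lrfl
theorem f239671 : Led Lsl_et (LP (LK LD1_c0 LD2_c58 LD3_c34)) = (LP (LK LD1_c0 LD2_c26 LD3_c53)) :=
  Lgr Lrot158 (Lpr_cf (f239663 IH) (Lpe (f190276 IH) (Lpe (K10.f190269 IH) (Lpn (LP (LK LD1_c0 LD2_c26 LD3_c53))))))
theorem f193352 : Led Lsl_et (LP (LK LD1_c0 LD2_c14 LD3_c0)) = (LP (LK LD1_c0 LD2_c31 LD3_c37)) :=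
  Lre_e IH (LK LD1_c0 LD2_c14 LD3_c0) (LK LD1_c0 LD2_c31 LD3_c37) Lrfl Lrfl
theorem f211475 : Led Lsl_ef (LP (LK LD1_c1 LD2_c9 LD3_c8)) = (LP (LK LD1_c1 LD2_c0 LD3_c33)) :=
  Lgr Lrot114 (Lpr_gt (f170659 IH) (Lpe (f193352 IH) (Lpr_dt (K12.f193338 IH) (Lpr_gt (K12.f193366 IH) (Lpr_df (K12.f178494 IH) (Lpr_et (K12.f56558 IH) (Lpr_gt (K9.f174986 IH) (Lpr_dt (K10.f28469 IH) (Lpr_gt (K10.f28470 IH) (Lpr_df (K12.f211466 IH) (Lpn (LP (LK LD1_c1 LD2_c0 LD3_c33)))))))))))))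
theorem f193087 : Led Lsl_bt (LP (LK LD1_c0 LD2_c55 LD3_c38)) = (LP (LK LD1_c0 LD2_c56 LD3_c36)) :=
  Lgr Lrot119 (Lpe (K12.f192842 IH) (Lpr_bf (K10.f193079 IH) (Lpe (f60718 IH) (Lpn (LP (LK LD1_c0 LD2_c56 LD3_c36))))))
theorem f193091 : Led Lsl_bf (LP (LK LD1_c0 LD2_c55 LD3_c38)) = (LP (LK LD1_c0 LD2_c56 LD3_c36)) :=
  Lgr Lrot24 (Lpr_bt (f193087 IH) (Lpn (LP (LK LD1_c0 LD2_c56 LD3_c36))))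
theorem f237313 : Led Lsl_df (LP (LK LD1_c0 LD2_c56 LD3_c36)) = (LP (LK LD1_c0 LD2_c28 LD3_c10)) :=
  Lgr Lrot12 (Lpe (f193091 IH) (Lpe (K12.f192837 IH) (Lpr_bt (f237293 IH) (Lpn (LP (LK LD1_c0 LD2_c28 LD3_c10))))))
theorem f239420 : Led Lsl_ft (LP (LK LD1_c0 LD2_c56 LD3_c36)) = (LP (LK LD1_c1 LD2_c0 LD3_c33)) :=
  Lgr Lrot54 (Lpr_df (f237313 IH) (Lpr_ff (f239414 IH) (Lpr_df (K12.f211466 IH) (Lpn (LP (LK LD1_c1 LD2_c0 LD3_c33))))))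
theorem f239681 : Led Lsl_ft (LP (LK LD1_c0 LD2_c26 LD3_c53)) = (LP (LK LD1_c0 LD2_c25 LD3_c39)) :=
  Lgr Lrot86 (Lpe (f239671 IH) (Lpr_ff (f239675 IH) (Lpr_ef (f211475 IH) (Lpe (f239420 IH) (Lpe (f192978 IH) (Lpn (LP (LK LD1_c0 LD2_c25 LD3_c39))))))))
theorem f239691 : Led Lsl_af (LP (LK LD1_c0 LD2_c25 LD3_c49)) = (LP (LK LD1_c0 LD2_c25 LD3_c39)) :=
  Lgr Lrot31 (Lpr_gf (K10.f190883 IH) (Lpe (K10.f27851 IH) (Lpr_ft (f239681 IH) (Lpn (LP (LK LD1_c0 LD2_c25 LD3_c39))))))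
theorem f239699 : Led Lsl_at (LP (LK LD1_c0 LD2_c56 LD3_c57)) = (LP (LK LD1_c0 LD2_c56 LD3_c36)) :=
  Lgr Lrot80 (Lpe (K12.f196375 IH) (Lpr_af (f239691 IH) (Lpe (f60718 IH) (Lpn (LP (LK LD1_c0 LD2_c56 LD3_c36))))))
theorem f239701 : Led Lsl_af (LP (LK LD1_c1 LD2_c12 LD3_c50)) = (LP (LK LD1_c1 LD2_c19 LD3_c10)) :=
  Lgr Lrot68 (Lpe (K12.f196362 IH) (Lpr_at (f239699 IH) (Lpe (f229251 IH) (Lpn (LP (LK LD1_c1 LD2_c19 LD3_c10))))))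
theorem f239440 : Led Lsl_ff (LP (LK LD1_c1 LD2_c19 LD3_c10)) = (LP (LK LD1_c1 LD2_c59 LD3_c22)) :=
  Lgr Lrot3 (Lpr_ft (f239434 IH) (Lpn (LP (LK LD1_c1 LD2_c59 LD3_c22))))
theorem f239444 : Led Lsl_at (LP (LK LD1_c1 LD2_c19 LD3_c9)) = (LP (LK LD1_c1 LD2_c59 LD3_c22)) :=
  Lgr Lrot100 (Lpr_af (f239442 IH) (Lpn (LP (LK LD1_c1 LD2_c59 LD3_c22))))
theorem f239707 : Led Lsl_ft (LP (LK LD1_c1 LD2_c12 LD3_c50)) = (LP (LK LD1_c1 LD2_c19 LD3_c9)) :=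
  Lgr Lrot101 (Lpr_af (f239701 IH) (Lpr_ff (f239440 IH) (Lpe (f239444 IH) (Lpn (LP (LK LD1_c1 LD2_c19 LD3_c9))))))
theorem f239715 : Led Lsl_ff (LP (LK LD1_c1 LD2_c12 LD3_c50)) = (LP (LK LD1_c1 LD2_c19 LD3_c9)) :=
  Lgr Lrot3 (Lpr_ft (f239707 IH) (Lpn (LP (LK LD1_c1 LD2_c19 LD3_c9))))
theorem f239721 : Led Lsl_ft (LP (LK LD1_c0 LD2_c33 LD3_c47)) = (LP (LK LD1_c0 LD2_c55 LD3_c47)) :=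
  Lgr Lrot86 (Lpe (K10.f22111 IH) (Lpr_ff (f239715 IH) (Lpr_ef (f200560 IH) (Lpe (f239520 IH) (Lpe (K12.f195695 IH) (Lpn (LP (LK LD1_c0 LD2_c55 LD3_c47))))))))
theorem f239727 : Led Lsl_af (LP (LK LD1_c0 LD2_c33 LD3_c48)) = (LP (LK LD1_c0 LD2_c55 LD3_c47)) :=
  Lgr Lrot31 (Lpr_gf (K10.f190337 IH) (Lpr_gf (K10.f196349 IH) (Lpr_ft (f239721 IH) (Lpn (LP (LK LD1_c0 LD2_c55 LD3_c47))))))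
theorem f194131 : Led Lsl_dt (LP (LK LD1_c1 LD2_c57 LD3_c49)) = (LP (LK LD1_c0 LD2_c55 LD3_c47)) :=
  Lre_d IH (LK LD1_c1 LD2_c57 LD3_c49) (LK LD1_c0 LD2_c55 LD3_c47) Lrfl Lrfl
theorem f239801 : Led Lsl_at (LP (LK LD1_c1 LD2_c12 LD3_c52)) = (LP (LK LD1_c1 LD2_c57 LD3_c49)) :=
  Lgr Lrot51 (Lpe (K10.f34617 IH) (Lpr_af (f239727 IH) (Lpe (f194131 IH) (Lpn (LP (LK LD1_c1 LD2_c57 LD3_c49))))))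
theorem f239807 : Led Lsl_et (LP (LK LD1_c2 LD2_c31 LD3_c36)) = (LP (LK LD1_c1 LD2_c12 LD3_c52)) :=
  Lre_e IH (LK LD1_c2 LD2_c31 LD3_c36) (LK LD1_c1 LD2_c12 LD3_c52) Lrfl Lrfl
theorem f195686 : Led Lsl_et (LP (LK LD1_c1 LD2_c57 LD3_c49)) = (LP (LK LD1_c4 LD2_c1 LD3_c44)) :=
  Lre_e IH (LK LD1_c1 LD2_c57 LD3_c49) (LK LD1_c4 LD2_c1 LD3_c44) Lrfl Lrfl
theorem f239808 : Led Lsl_af (LP (LK LD1_c2 LD2_c31 LD3_c36)) = (LP (LK LD1_c4 LD2_c1 LD3_c44)) :=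
  Lgr Lrot50 (Lpr_et (f239807 IH) (Lpr_at (f239801 IH) (Lpr_et (f195686 IH) (Lpn (LP (LK LD1_c4 LD2_c1 LD3_c44))))))
theorem f21864 : Led Lsl_gt (LP (LK LD1_c5 LD2_c8 LD3_c52)) = (LP (LK LD1_c2 LD2_c31 LD3_c36)) :=
  Lre_g IH (LK LD1_c5 LD2_c8 LD3_c52) (LK LD1_c2 LD2_c31 LD3_c36) Lrfl Lrfl
theorem f195642 : Led Lsl_ft (LP (LK LD1_c8 LD2_c4 LD3_c8)) = (LP (LK LD1_c4 LD2_c1 LD3_c44)) :=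
  Lre_f IH (LK LD1_c8 LD2_c4 LD3_c8) (LK LD1_c4 LD2_c1 LD3_c44) Lrfl Lrfl
theorem f239820 : Led Lsl_gf (LP (LK LD1_c5 LD2_c8 LD3_c52)) = (LP (LK LD1_c8 LD2_c4 LD3_c8)) :=
  Lgr Lrot47 (Lpr_gt (f21864 IH) (Lpr_af (f239808 IH) (Lpe (f195642 IH) (Lpn (LP (LK LD1_c8 LD2_c4 LD3_c8))))))
theorem f212754 : Led Lsl_at (LP (LK LD1_c1 LD2_c18 LD3_c11)) = (LP (LK LD1_c2 LD2_c12 LD3_c37)) :=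
  Lgr Lrot51 (Lpe (K12.f189280 IH) (Lpr_af (K12.f212749 IH) (Lpe (f177917 IH) (Lpn (LP (LK LD1_c2 LD2_c12 LD3_c37))))))
theorem f212765 : Led Lsl_dt (LP (LK LD1_c1 LD2_c18 LD3_c11)) = (LP (LK LD1_c0 LD2_c36 LD3_c2)) :=
  Lre_d IH (LK LD1_c1 LD2_c18 LD3_c11) (LK LD1_c0 LD2_c36 LD3_c2) Lrfl Lrfl
theorem f212766 : Led Lsl_ff (LP (LK LD1_c1 LD2_c18 LD3_c11)) = (LP (LK LD1_c1 LD2_c11 LD3_c13)) :=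
  Lgr Lrot19 (Lpr_dt (f212765 IH) (Lpr_ft (K12.f212758 IH) (Lpr_dt (K12.f33318 IH) (Lpn (LP (LK LD1_c1 LD2_c11 LD3_c13))))))
theorem f235321 : Led Lsl_gt (LP (LK LD1_c1 LD2_c11 LD3_c13)) = (LP (LK LD1_c2 LD2_c4 LD3_c40)) :=
  Lgr Lrot5 (Lpe (f212766 IH) (Lpr_at (f212754 IH) (Lpr_gf (f235319 IH) (Lpn (LP (LK LD1_c2 LD2_c4 LD3_c40))))))
theorem f33295 : Led Lsl_et (LP (LK LD1_c1 LD2_c0 LD3_c47)) = (LP (LK LD1_c1 LD2_c11 LD3_c13)) :=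
  Lgr Lrot71 (Lpe (f31036 IH) (Lpe (K0.f28493 IH) (Lpr_df (K0.f33289 IH) (Lpe (K8.f33279 IH) (Lpe (K9.f33294 IH) (Lpn (LP (LK LD1_c1 LD2_c11 LD3_c13))))))))
theorem f191143 : Led Lsl_et (LP (LK LD1_c5 LD2_c8 LD3_c53)) = (LP (LK LD1_c2 LD2_c31 LD3_c37)) :=
  Lre_e IH (LK LD1_c5 LD2_c8 LD3_c53) (LK LD1_c2 LD2_c31 LD3_c37) Lrfl Lrfl
theorem f191144 : Led Lsl_dt (LP (LK LD1_c5 LD2_c8 LD3_c53)) = (LP (LK LD1_c2 LD2_c31 LD3_c36)) :=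
  Lre_d IH (LK LD1_c5 LD2_c8 LD3_c53) (LK LD1_c2 LD2_c31 LD3_c36) Lrfl Lrfl
theorem f235315 : Led Lsl_et (LP (LK LD1_c4 LD2_c14 LD3_c35)) = (LP (LK LD1_c2 LD2_c4 LD3_c40)) :=
  Lre_e IH (LK LD1_c4 LD2_c14 LD3_c35) (LK LD1_c2 LD2_c4 LD3_c40) Lrfl Lrfl
theorem f235370 : Led Lsl_df (LP (LK LD1_c5 LD2_c8 LD3_c52)) = (LP (LK LD1_c4 LD2_c14 LD3_c35)) :=
  Lgr Lrot170 (Lpr_gt (f21864 IH) (Lpe (f191144 IH) (Lpr_et (f191143 IH) (Lpr_gt (f201735 IH) (Lpr_dt (K10.f177599 IH) (Lpr_gt (K9.f182034 IH) (Lpe (K0.f31707 IH) (Lpr_et (f33295 IH) (Lpr_gt (f235321 IH) (Lpe (f235315 IH) (Lpn (LP (LK LD1_c4 LD2_c14 LD3_c35)))))))))))))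
theorem f212544 : Led Lsl_et (LP (LK LD1_c1 LD2_c3 LD3_c21)) = (LP (LK LD1_c2 LD2_c12 LD3_c41)) :=
  Lre_e IH (LK LD1_c1 LD2_c3 LD3_c21) (LK LD1_c2 LD2_c12 LD3_c41) Lrfl Lrfl
theorem f212570 : Led Lsl_gt (LP (LK LD1_c2 LD2_c12 LD3_c41)) = (LP (LK LD1_c4 LD2_c31 LD3_c28)) :=
  Lre_g IH (LK LD1_c2 LD2_c12 LD3_c41) (LK LD1_c4 LD2_c31 LD3_c28) Lrfl Lrfl
theorem f235326 : Led Lsl_et (LP (LK LD1_c9 LD2_c0 LD3_c58)) = (LP (LK LD1_c4 LD2_c31 LD3_c28)) :=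
  Lre_e IH (LK LD1_c9 LD2_c0 LD3_c58) (LK LD1_c4 LD2_c31 LD3_c28) Lrfl Lrfl
theorem f239824 : Led Lsl_dt (LP (LK LD1_c9 LD2_c0 LD3_c58)) = (LP (LK LD1_c8 LD2_c4 LD3_c8)) :=
  Lgr Lrot136 (Lpr_et (f235326 IH) (Lpe (f212570 IH) (Lpe (f212544 IH) (Lpr_dt (K12.f177911 IH) (Lpe (K12.f177915 IH) (Lpe (f177917 IH) (Lpr_gf (f235319 IH) (Lpe (f235315 IH) (Lpe (f235370 IH) (Lpr_gf (f239820 IH) (Lpn (LP (LK LD1_c8 LD2_c4 LD3_c8)))))))))))))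
theorem f195616 : Led Lsl_dt (LP (LK LD1_c4 LD2_c1 LD3_c44)) = (LP (LK LD1_c8 LD2_c4 LD3_c7)) :=
  Lre_d IH (LK LD1_c4 LD2_c1 LD3_c44) (LK LD1_c8 LD2_c4 LD3_c7) Lrfl Lrfl
theorem f239831 : Led Lsl_ff (LP (LK LD1_c9 LD2_c0 LD3_c58)) = (LP (LK LD1_c8 LD2_c4 LD3_c7)) :=
  Lgr Lrot19 (Lpr_dt (f239824 IH) (Lpr_ft (f195642 IH) (Lpr_dt (f195616 IH) (Lpn (LP (LK LD1_c8 LD2_c4 LD3_c7))))))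
theorem f239836 : Led Lsl_ft (LP (LK LD1_c9 LD2_c0 LD3_c58)) = (LP (LK LD1_c8 LD2_c4 LD3_c7)) :=
  Lgr Lrot48 (Lpr_ff (f239831 IH) (Lpn (LP (LK LD1_c8 LD2_c4 LD3_c7))))
theorem f195611 : Led Lsl_et (LP (LK LD1_c4 LD2_c1 LD3_c45)) = (LP (LK LD1_c8 LD2_c4 LD3_c7)) :=
  Lre_e IH (LK LD1_c4 LD2_c1 LD3_c45) (LK LD1_c8 LD2_c4 LD3_c7) Lrfl Lrfl
theorem f239479 : Led Lsl_af (LP (LK LD1_c5 LD2_c8 LD3_c53)) = (LP (LK LD1_c8 LD2_c4 LD3_c7)) :=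
  Lgr Lrot50 (Lpr_et (f191143 IH) (Lpr_at (f239473 IH) (Lpr_et (f195611 IH) (Lpn (LP (LK LD1_c8 LD2_c4 LD3_c7))))))
theorem f239472 : Led Lsl_ft (LP (LK LD1_c5 LD2_c8 LD3_c53)) = (LP (LK LD1_c10 LD2_c8 LD3_c12)) :=
  Lre_f IH (LK LD1_c5 LD2_c8 LD3_c53) (LK LD1_c10 LD2_c8 LD3_c12) Lrfl Lrfl
theorem f239849 : Led Lsl_af (LP (LK LD1_c9 LD2_c0 LD3_c58)) = (LP (LK LD1_c10 LD2_c8 LD3_c12)) :=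
  Lgr Lrot45 (Lpr_ft (f239836 IH) (Lpe (f239479 IH) (Lpr_ft (f239472 IH) (Lpn (LP (LK LD1_c10 LD2_c8 LD3_c12))))))
theorem f239848 : Led Lsl_dt (LP (LK LD1_c5 LD2_c8 LD3_c54)) = (LP (LK LD1_c10 LD2_c8 LD3_c12)) :=
  Lre_d IH (LK LD1_c5 LD2_c8 LD3_c54) (LK LD1_c10 LD2_c8 LD3_c12) Lrfl Lrfl
theorem f239892 : Led Lsl_at (LP (LK LD1_c8 LD2_c4 LD3_c8)) = (LP (LK LD1_c5 LD2_c8 LD3_c54)) :=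
  Lgr Lrot51 (Lpe (f239824 IH) (Lpr_af (f239849 IH) (Lpe (f239848 IH) (Lpn (LP (LK LD1_c5 LD2_c8 LD3_c54))))))
theorem f195638 : Led Lsl_ct (LP (LK LD1_c15 LD2_c11 LD3_c20)) = (LP (LK LD1_c8 LD2_c4 LD3_c8)) :=
  Lre_c IH (LK LD1_c15 LD2_c11 LD3_c20) (LK LD1_c8 LD2_c4 LD3_c8) Lrfl Lrfl
theorem f239843 : Led Lsl_ct (LP (LK LD1_c5 LD2_c8 LD3_c54)) = (LP (LK LD1_c10 LD2_c8 LD3_c5)) :=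
  Lre_c IH (LK LD1_c5 LD2_c8 LD3_c54) (LK LD1_c10 LD2_c8 LD3_c5) Lrfl Lrfl
theorem f239898 : Led Lsl_af (LP (LK LD1_c15 LD2_c11 LD3_c20)) = (LP (LK LD1_c10 LD2_c8 LD3_c5)) :=
  Lgr Lrot68 (Lpr_ct (f195638 IH) (Lpr_at (f239892 IH) (Lpr_ct (f239843 IH) (Lpn (LP (LK LD1_c10 LD2_c8 LD3_c5))))))
theorem f239908 : Led Lsl_ft (LP (LK LD1_c15 LD2_c11 LD3_c20)) = (LP (LK LD1_c8 LD2_c4 LD3_c5)) :=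
  Lre_f IH (LK LD1_c15 LD2_c11 LD3_c20) (LK LD1_c8 LD2_c4 LD3_c5) Lrfl Lrfl
theorem f239909 : Led Lsl_ft (LP (LK LD1_c5 LD2_c8 LD3_c50)) = (LP (LK LD1_c10 LD2_c8 LD3_c5)) :=
  Lre_f IH (LK LD1_c5 LD2_c8 LD3_c50) (LK LD1_c10 LD2_c8 LD3_c5) Lrfl Lrfl
theorem f239910 : Led Lsl_at (LP (LK LD1_c8 LD2_c4 LD3_c5)) = (LP (LK LD1_c5 LD2_c8 LD3_c50)) :=
  Lgr Lrot66 (Lpe (f239908 IH) (Lpr_af (f239898 IH) (Lpe (f239909 IH) (Lpn (LP (LK LD1_c5 LD2_c8 LD3_c50))))))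
theorem f239919 : Led Lsl_et (LP (LK LD1_c4 LD2_c1 LD3_c43)) = (LP (LK LD1_c8 LD2_c4 LD3_c5)) :=
  Lre_e IH (LK LD1_c4 LD2_c1 LD3_c43) (LK LD1_c8 LD2_c4 LD3_c5) Lrfl Lrfl
theorem f239920 : Led Lsl_et (LP (LK LD1_c5 LD2_c8 LD3_c50)) = (LP (LK LD1_c2 LD2_c31 LD3_c35)) :=
  Lre_e IH (LK LD1_c5 LD2_c8 LD3_c50) (LK LD1_c2 LD2_c31 LD3_c35) Lrfl Lrfl
theorem f239921 : Led Lsl_af (LP (LK LD1_c4 LD2_c1 LD3_c43)) = (LP (LK LD1_c2 LD2_c31 LD3_c35)) :=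
  Lgr Lrot50 (Lpr_et (f239919 IH) (Lpr_at (f239910 IH) (Lpr_et (f239920 IH) (Lpn (LP (LK LD1_c2 LD2_c31 LD3_c35))))))
theorem f196122 : Led Lsl_dt (LP (LK LD1_c4 LD2_c1 LD3_c43)) = (LP (LK LD1_c8 LD2_c4 LD3_c4)) :=
  Lre_d IH (LK LD1_c4 LD2_c1 LD3_c43) (LK LD1_c8 LD2_c4 LD3_c4) Lrfl Lrfl
theorem f239932 : Led Lsl_at (LP (LK LD1_c8 LD2_c4 LD3_c4)) = (LP (LK LD1_c5 LD2_c8 LD3_c49)) :=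
  Lgr Lrot51 (Lpe (f196122 IH) (Lpr_af (f239921 IH) (Lpe (K10.f190339 IH) (Lpn (LP (LK LD1_c5 LD2_c8 LD3_c49))))))
theorem f33190 : Led Lsl_ct (LP (LK LD1_c2 LD2_c31 LD3_c31)) = (LP (LK LD1_c1 LD2_c12 LD3_c49)) :=
  Lre_c IH (LK LD1_c2 LD2_c31 LD3_c31) (LK LD1_c1 LD2_c12 LD3_c49) Lrfl Lrfl
theorem f190443 : Led Lsl_dt (LP (LK LD1_c5 LD2_c8 LD3_c38)) = (LP (LK LD1_c2 LD2_c31 LD3_c31)) :=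
  Lre_d IH (LK LD1_c5 LD2_c8 LD3_c38) (LK LD1_c2 LD2_c31 LD3_c31) Lrfl Lrfl
theorem f239941 : Led Lsl_ff (LP (LK LD1_c8 LD2_c4 LD3_c4)) = (LP (LK LD1_c5 LD2_c8 LD3_c38)) :=
  Lgr Lrot103 (Lpr_at (f239932 IH) (Lpe (K10.f197215 IH) (Lpr_df (K12.f211594 IH) (Lpe (K12.f211589 IH) (Lpe (K12.f190886 IH) (Lpr_cf (K10.f190888 IH) (Lpe (K12.f21855 IH) (Lpe (f33190 IH) (Lpe (f190443 IH) (Lpn (LP (LK LD1_c5 LD2_c8 LD3_c38))))))))))))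
theorem f239951 : Led Lsl_ft (LP (LK LD1_c8 LD2_c4 LD3_c4)) = (LP (LK LD1_c5 LD2_c8 LD3_c38)) :=
  Lgr Lrot48 (Lpr_ff (f239941 IH) (Lpn (LP (LK LD1_c5 LD2_c8 LD3_c38))))
theorem f240117 : Led Lsl_ff (LP (LK LD1_c4 LD2_c1 LD3_c43)) = (LP (LK LD1_c2 LD2_c31 LD3_c31)) :=
  Lgr Lrot19 (Lpr_dt (f196122 IH) (Lpr_ft (f239951 IH) (Lpr_dt (f190443 IH) (Lpn (LP (LK LD1_c2 LD2_c31 LD3_c31))))))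
theorem f240126 : Led Lsl_ft (LP (LK LD1_c8 LD2_c4 LD3_c5)) = (LP (LK LD1_c15 LD2_c11 LD3_c20)) :=
  Lre_f IH (LK LD1_c8 LD2_c4 LD3_c5) (LK LD1_c15 LD2_c11 LD3_c20) Lrfl Lrfl
theorem f240127 : Led Lsl_et (LP (LK LD1_c5 LD2_c8 LD3_c39)) = (LP (LK LD1_c2 LD2_c31 LD3_c31)) :=
  Lre_e IH (LK LD1_c5 LD2_c8 LD3_c39) (LK LD1_c2 LD2_c31 LD3_c31) Lrfl Lrfl
theorem f240128 : Led Lsl_ft (LP (LK LD1_c10 LD2_c7 LD3_c50)) = (LP (LK LD1_c5 LD2_c8 LD3_c39)) :=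
  Lre_f IH (LK LD1_c10 LD2_c7 LD3_c50) (LK LD1_c5 LD2_c8 LD3_c39) Lrfl Lrfl
theorem f240129 : Led Lsl_et (LP (LK LD1_c15 LD2_c11 LD3_c20)) = (LP (LK LD1_c10 LD2_c7 LD3_c50)) :=
  Lgr Lrot69 (Lpe (f240126 IH) (Lpe (f239919 IH) (Lpr_ff (f240117 IH) (Lpe (f240127 IH) (Lpe (f240128 IH) (Lpn (LP (LK LD1_c10 LD2_c7 LD3_c50))))))))
theorem f240215 : Led Lsl_ef (LP (LK LD1_c15 LD2_c11 LD3_c20)) = (LP (LK LD1_c10 LD2_c7 LD3_c50)) :=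
  Lgr Lrot88 (Lpr_et (f240129 IH) (Lpn (LP (LK LD1_c10 LD2_c7 LD3_c50))))
theorem f33239 : Led Lsl_ct (LP (LK LD1_c5 LD2_c8 LD3_c42)) = (LP (LK LD1_c10 LD2_c7 LD3_c50)) :=
  Lre_c IH (LK LD1_c5 LD2_c8 LD3_c42) (LK LD1_c10 LD2_c7 LD3_c50) Lrfl Lrfl
theorem f240217 : Led Lsl_et (LP (LK LD1_c8 LD2_c4 LD3_c8)) = (LP (LK LD1_c5 LD2_c8 LD3_c42)) :=
  Lgr Lrot158 (Lpe (f195638 IH) (Lpr_ef (f240215 IH) (Lpe (f33239 IH) (Lpn (LP (LK LD1_c5 LD2_c8 LD3_c42))))))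
theorem f195631 : Led Lsl_ft (LP (LK LD1_c4 LD2_c1 LD3_c44)) = (LP (LK LD1_c8 LD2_c4 LD3_c8)) :=
  Lre_f IH (LK LD1_c4 LD2_c1 LD3_c44) (LK LD1_c8 LD2_c4 LD3_c8) Lrfl Lrfl
theorem f33234 : Led Lsl_ft (LP (LK LD1_c5 LD2_c8 LD3_c42)) = (LP (LK LD1_c2 LD2_c31 LD3_c32)) :=
  Lre_f IH (LK LD1_c5 LD2_c8 LD3_c42) (LK LD1_c2 LD2_c31 LD3_c32) Lrfl Lrfl
theorem f240224 : Led Lsl_ff (LP (LK LD1_c1 LD2_c57 LD3_c49)) = (LP (LK LD1_c1 LD2_c12 LD3_c49)) :=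
  Lgr Lrot72 (Lpr_et (f195686 IH) (Lpr_ft (f195631 IH) (Lpr_et (f240217 IH) (Lpr_ft (f33234 IH) (Lpr_et (K12.f33180 IH) (Lpn (LP (LK LD1_c1 LD2_c12 LD3_c49))))))))
theorem f239803 : Led Lsl_af (LP (LK LD1_c1 LD2_c12 LD3_c52)) = (LP (LK LD1_c1 LD2_c57 LD3_c49)) :=
  Lgr Lrot0 (Lpr_at (f239801 IH) (Lpn (LP (LK LD1_c1 LD2_c57 LD3_c49))))
theorem f22110 : Led Lsl_gt (LP (LK LD1_c1 LD2_c12 LD3_c49)) = (LP (LK LD1_c2 LD2_c31 LD3_c29)) :=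
  Lre_g IH (LK LD1_c1 LD2_c12 LD3_c49) (LK LD1_c2 LD2_c31 LD3_c29) Lrfl Lrfl
theorem f240228 : Led Lsl_gf (LP (LK LD1_c1 LD2_c12 LD3_c52)) = (LP (LK LD1_c2 LD2_c31 LD3_c29)) :=
  Lgr Lrot76 (Lpr_af (f239803 IH) (Lpr_ff (f240224 IH) (Lpr_gt (f22110 IH) (Lpn (LP (LK LD1_c2 LD2_c31 LD3_c29))))))
theorem f190274 : Led Lsl_ct (LP (LK LD1_c1 LD2_c12 LD3_c52)) = (LP (LK LD1_c2 LD2_c31 LD3_c35)) :=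
  Lre_c IH (LK LD1_c1 LD2_c12 LD3_c52) (LK LD1_c2 LD2_c31 LD3_c35) Lrfl Lrfl
theorem f33157 : Led Lsl_ct (LP (LK LD1_c5 LD2_c8 LD3_c32)) = (LP (LK LD1_c2 LD2_c31 LD3_c29)) :=
  Lre_c IH (LK LD1_c5 LD2_c8 LD3_c32) (LK LD1_c2 LD2_c31 LD3_c29) Lrfl Lrfl
theorem f190275 : Led Lsl_dt (LP (LK LD1_c2 LD2_c31 LD3_c35)) = (LP (LK LD1_c5 LD2_c8 LD3_c49)) :=
  Lre_d IH (LK LD1_c2 LD2_c31 LD3_c35) (LK LD1_c5 LD2_c8 LD3_c49) Lrfl Lrfl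
theorem f34621 : Led Lsl_dt (LP (LK LD1_c0 LD2_c55 LD3_c36)) = (LP (LK LD1_c1 LD2_c57 LD3_c29)) :=
  Lre_d IH (LK LD1_c0 LD2_c55 LD3_c36) (LK LD1_c1 LD2_c57 LD3_c29) Lrfl Lrfl
theorem f34620 : Led Lsl_ct (LP (LK LD1_c4 LD2_c1 LD3_c12)) = (LP (LK LD1_c1 LD2_c57 LD3_c29)) :=
  Lre_c IH (LK LD1_c4 LD2_c1 LD3_c12) (LK LD1_c1 LD2_c57 LD3_c29) Lrfl Lrfl
theorem f192898 : Led Lsl_df (LP (LK LD1_c4 LD2_c1 LD3_c12)) = (LP (LK LD1_c5 LD2_c9 LD3_c20)) :=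
  Lgr Lrot174 (Lpr_ct (f34620 IH) (Lpe (f34621 IH) (Lpe (K10.f182001 IH) (Lpe (K1.f46575 IH) (Lpe (K10.f28173 IH) (Lpr_ct (K10.f192850 IH) (Lpr_gt (K10.f21749 IH) (Lpr_dt (K0.f21707 IH) (Lpr_gt (K12.f21722 IH) (Lpn (LP (LK LD1_c5 LD2_c9 LD3_c20))))))))))))
theorem f240232 : Led Lsl_gt (LP (LK LD1_c4 LD2_c1 LD3_c12)) = (LP (LK LD1_c5 LD2_c8 LD3_c32)) :=
  Lgr Lrot9 (Lpr_df (f192898 IH) (Lpr_gt (K12.f34212 IH) (Lpr_ct (K12.f33692 IH) (Lpr_gt (K10.f33761 IH) (Lpr_ct (K10.f197215 IH) (Lpe (f190275 IH) (Lpe (f190274 IH) (Lpr_gf (f240228 IH) (Lpe (f33157 IH) (Lpn (LP (LK LD1_c5 LD2_c8 LD3_c32))))))))))))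
theorem f240234 : Led Lsl_df (LP (LK LD1_c5 LD2_c9 LD3_c20)) = (LP (LK LD1_c4 LD2_c1 LD3_c12)) :=
  Lgr Lrot155 (Lpr_gt (K12.f34212 IH) (Lpr_ct (K12.f33692 IH) (Lpr_gt (K10.f33761 IH) (Lpr_ct (K10.f197215 IH) (Lpr_dt (K10.f190339 IH) (Lpe (f190274 IH) (Lpr_gf (f240228 IH) (Lpe (f33157 IH) (Lpe (f240232 IH) (Lpn (LP (LK LD1_c4 LD2_c1 LD3_c12))))))))))))
theorem f171537 : Led Lsl_dt (LP (LK LD1_c0 LD2_c55 LD3_c39)) = (LP (LK LD1_c1 LD2_c57 LD3_c35)) :=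
  Lre_d IH (LK LD1_c0 LD2_c55 LD3_c39) (LK LD1_c1 LD2_c57 LD3_c35) Lrfl Lrfl
theorem f171545 : Led Lsl_ct (LP (LK LD1_c1 LD2_c57 LD3_c35)) = (LP (LK LD1_c4 LD2_c1 LD3_c19)) :=
  Lre_c IH (LK LD1_c1 LD2_c57 LD3_c35) (LK LD1_c4 LD2_c1 LD3_c19) Lrfl Lrfl
theorem f21860 : Led Lsl_dt (LP (LK LD1_c1 LD2_c12 LD3_c52)) = (LP (LK LD1_c0 LD2_c33 LD3_c48)) :=
  Lre_d IH (LK LD1_c1 LD2_c12 LD3_c52) (LK LD1_c0 LD2_c33 LD3_c48) Lrfl Lrfl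
theorem f21728 : Led Lsl_gt (LP (LK LD1_c5 LD2_c9 LD3_c21)) = (LP (LK LD1_c2 LD2_c31 LD3_c47)) :=
  Lre_g IH (LK LD1_c5 LD2_c9 LD3_c21) (LK LD1_c2 LD2_c31 LD3_c47) Lrfl Lrfl
theorem f171536 : Led Lsl_ct (LP (LK LD1_c4 LD2_c1 LD3_c19)) = (LP (LK LD1_c1 LD2_c57 LD3_c35)) :=
  Lre_c IH (LK LD1_c4 LD2_c1 LD3_c19) (LK LD1_c1 LD2_c57 LD3_c35) Lrfl Lrfl
theorem f33147 : Led Lsl_ct (LP (LK LD1_c2 LD2_c31 LD3_c29)) = (LP (LK LD1_c5 LD2_c8 LD3_c32)) :=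
  Lre_c IH (LK LD1_c2 LD2_c31 LD3_c29) (LK LD1_c5 LD2_c8 LD3_c32) Lrfl Lrfl
theorem f196355 : Led Lsl_gf (LP (LK LD1_c4 LD2_c1 LD3_c19)) = (LP (LK LD1_c5 LD2_c8 LD3_c32)) :=
  Lgr Lrot104 (Lpr_ct (f171536 IH) (Lpe (f171537 IH) (Lpe (K10.f171524 IH) (Lpe (K10.f171530 IH) (Lpe (K0.f33595 IH) (Lpr_gf (K10.f196349 IH) (Lpe (K12.f21855 IH) (Lpr_gt (f22110 IH) (Lpr_ct (f33147 IH) (Lpn (LP (LK LD1_c5 LD2_c8 LD3_c32))))))))))))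
theorem f240230 : Led Lsl_df (LP (LK LD1_c5 LD2_c9 LD3_c21)) = (LP (LK LD1_c4 LD2_c1 LD3_c19)) :=
  Lgr Lrot153 (Lpr_gt (f21728 IH) (Lpr_dt (K0.f21838 IH) (Lpe (K0.f21837 IH) (Lpe (K0.f21846 IH) (Lpe (K10.f21859 IH) (Lpe (f21860 IH) (Lpr_gf (f240228 IH) (Lpe (f33157 IH) (Lpe (f196355 IH) (Lpn (LP (LK LD1_c4 LD2_c1 LD3_c19))))))))))))
theorem f193010 : Led Lsl_ct (LP (LK LD1_c1 LD2_c57 LD3_c29)) = (LP (LK LD1_c4 LD2_c1 LD3_c12)) :=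
  Lre_c IH (LK LD1_c1 LD2_c57 LD3_c29) (LK LD1_c4 LD2_c1 LD3_c12) Lrfl Lrfl
theorem f182459 : Led Lsl_dt (LP (LK LD1_c4 LD2_c1 LD3_c17)) = (LP (LK LD1_c1 LD2_c57 LD3_c33)) :=
  Lre_d IH (LK LD1_c4 LD2_c1 LD3_c17) (LK LD1_c1 LD2_c57 LD3_c33) Lrfl Lrfl
theorem f240239 : Led Lsl_ct (LP (LK LD1_c5 LD2_c9 LD3_c21)) = (LP (LK LD1_c4 LD2_c1 LD3_c17)) :=
  Lgr Lrot176 (Lpr_df (f240230 IH) (Lpe (f171545 IH) (Lpe (f171537 IH) (Lpe (K10.f171524 IH) (Lpe (K10.f171529 IH) (Lpe (K10.f171533 IH) (Lpe (K10.f171534 IH) (Lpr_cf (K12.f196159 IH) (Lpr_df (f240234 IH) (Lpe (f193010 IH) (Lpe (f34621 IH) (Lpe (K9.f34618 IH) (Lpe (K12.f182398 IH) (Lpe (K12.f182458 IH) (Lpe (f182459 IH) (Lpn (LP (LK LD1_c4 LD2_c1 LD3_c17))))))))))))))))))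
theorem f34107 : Led Lsl_gf (LP (LK LD1_c5 LD2_c9 LD3_c21)) = (LP (LK LD1_c4 LD2_c1 LD3_c36)) :=
  Lgr Lrot47 (Lpr_gt (f21728 IH) (Lpe (K2.f33767 IH) (Lpr_ff (K2.f34092 IH) (Lpn (LP (LK LD1_c4 LD2_c1 LD3_c36))))))
theorem f227913 : Led Lsl_df (LP (LK LD1_c2 LD2_c4 LD3_c3)) = (LP (LK LD1_c4 LD2_c1 LD3_c35)) :=
  Lgr Lrot38 (Lpr_dt (K12.f227906 IH) (Lpn (LP (LK LD1_c4 LD2_c1 LD3_c35))))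
theorem f182465 : Led Lsl_dt (LP (LK LD1_c1 LD2_c57 LD3_c33)) = (LP (LK LD1_c4 LD2_c1 LD3_c17)) :=
  Lre_d IH (LK LD1_c1 LD2_c57 LD3_c33) (LK LD1_c4 LD2_c1 LD3_c17) Lrfl Lrfl
theorem f165181 : Led Lsl_ct (LP (LK LD1_c0 LD2_c55 LD3_c37)) = (LP (LK LD1_c1 LD2_c57 LD3_c33)) :=
  Lre_c IH (LK LD1_c0 LD2_c55 LD3_c37) (LK LD1_c1 LD2_c57 LD3_c33) Lrfl Lrfl
theorem f240521 : Led Lsl_gt (LP (LK LD1_c2 LD2_c4 LD3_c3)) = (LP (LK LD1_c4 LD2_c1 LD3_c15)) :=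
  Lgr Lrot9 (Lpr_df (f227913 IH) (Lpr_gt (K12.f33990 IH) (Lpr_ct (K0.f33826 IH) (Lpe (f34107 IH) (Lpr_ct (f240239 IH) (Lpe (f182465 IH) (Lpe (f165181 IH) (Lpe (K12.f192848 IH) (Lpe (K12.f211576 IH) (Lpn (LP (LK LD1_c4 LD2_c1 LD3_c15))))))))))))
theorem f211587 : Led Lsl_dt (LP (LK LD1_c4 LD2_c1 LD3_c15)) = (LP (LK LD1_c8 LD2_c3 LD3_c15)) :=
  Lre_d IH (LK LD1_c4 LD2_c1 LD3_c15) (LK LD1_c8 LD2_c3 LD3_c15) Lrfl Lrfl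
theorem f34769 : Led Lsl_bt (LP (LK LD1_c0 LD2_c14 LD3_c25)) = (LP (LK LD1_c0 LD2_c27 LD3_c44)) :=
  Lgr Lrot119 (Lpe (K1.f28316 IH) (Lpe (K0.f34752 IH) (Lpr_ef (K1.f34761 IH) (Lpn (LP (LK LD1_c0 LD2_c27 LD3_c44))))))
theorem f185094 : Led Lsl_bt (LP (LK LD1_c0 LD2_c32 LD3_c7)) = (LP (LK LD1_c1 LD2_c0 LD3_c51)) :=
  Lgr Lrot92 (Lpr_ct (K10.f171647 IH) (Lpe (K10.f164076 IH) (Lpe (K8.f3157 IH) (Lpe (K9.f3154 IH) (Lpe (K9.f178987 IH) (Lpr_ct (K10.f164696 IH) (Lpr_gt (K10.f184889 IH) (Lpr_cf (K8.f34885 IH) (Lpr_bt (f34769 IH) (Lpr_gt (K11.f32017 IH) (Lpn (LP (LK LD1_c1 LD2_c0 LD3_c51)))))))))))))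
theorem f194093 : Led Lsl_gt (LP (LK LD1_c2 LD2_c7 LD3_c50)) = (LP (LK LD1_c1 LD2_c59 LD3_c17)) :=
  Lgr Lrot149 (Lpe (K0.f28632 IH) (Lpr_gf (K11.f32018 IH) (Lpe (f185094 IH) (Lpr_ct (K10.f171647 IH) (Lpe (K10.f61288 IH) (Lpe (K8.f20526 IH) (Lpr_bt (K10.f20523 IH) (Lpe (K10.f34678 IH) (Lpr_bf (K10.f194089 IH) (Lpr_ct (K10.f28790 IH) (Lpn (LP (LK LD1_c1 LD2_c59 LD3_c17)))))))))))))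
theorem f28788 : Led Lsl_ct (LP (LK LD1_c1 LD2_c59 LD3_c17)) = (LP (LK LD1_c0 LD2_c56 LD3_c26)) :=
  Lre_c IH (LK LD1_c1 LD2_c59 LD3_c17) (LK LD1_c0 LD2_c56 LD3_c26) Lrfl Lrfl
theorem f211570 : Led Lsl_et (LP (LK LD1_c4 LD2_c1 LD3_c15)) = (LP (LK LD1_c1 LD2_c59 LD3_c17)) :=
  Lgr Lrot158 (Lpe (K12.f211569 IH) (Lpr_ef (K12.f211567 IH) (Lpe (f28788 IH) (Lpn (LP (LK LD1_c1 LD2_c59 LD3_c17))))))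
theorem f193436 : Led Lsl_et (LP (LK LD1_c1 LD2_c58 LD3_c7)) = (LP (LK LD1_c4 LD2_c2 LD3_c15)) :=
  Lre_e IH (LK LD1_c1 LD2_c58 LD3_c7) (LK LD1_c4 LD2_c2 LD3_c15) Lrfl Lrfl
theorem f33722 : Led Lsl_dt (LP (LK LD1_c1 LD2_c58 LD3_c7)) = (LP (LK LD1_c4 LD2_c2 LD3_c14)) :=
  Lre_d IH (LK LD1_c1 LD2_c58 LD3_c7) (LK LD1_c4 LD2_c2 LD3_c14) Lrfl Lrfl
theorem f227816 : Led Lsl_gt (LP (LK LD1_c8 LD2_c3 LD3_c15)) = (LP (LK LD1_c4 LD2_c2 LD3_c14)) :=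
  Lgr Lrot112 (Lpe (f211587 IH) (Lpr_et (f211570 IH) (Lpe (f194093 IH) (Lpr_ef (K1.f35792 IH) (Lpr_dt (K1.f35484 IH) (Lpr_gf (K12.f227806 IH) (Lpr_df (K12.f227786 IH) (Lpe (K12.f227812 IH) (Lpe (f193436 IH) (Lpr_dt (f33722 IH) (Lpn (LP (LK LD1_c4 LD2_c2 LD3_c14)))))))))))))
theorem f33725 : Led Lsl_dt (LP (LK LD1_c4 LD2_c2 LD3_c14)) = (LP (LK LD1_c1 LD2_c58 LD3_c7)) :=
  Lre_d IH (LK LD1_c4 LD2_c2 LD3_c14) (LK LD1_c1 LD2_c58 LD3_c7) Lrfl Lrfl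
theorem f227554 : Led Lsl_df (LP (LK LD1_c1 LD2_c1 LD3_c32)) = (LP (LK LD1_c1 LD2_c13 LD3_c51)) :=
  Lgr Lrot170 (Lpr_gt (K10.f173268 IH) (Lpr_df (K10.f177804 IH) (Lpr_et (K10.f177806 IH) (Lpr_gt (K12.f227538 IH) (Lpr_dt (K10.f56078 IH) (Lpe (K11.f210618 IH) (Lpr_df (K1.f35466 IH) (Lpe (K1.f35805 IH) (Lpe (K10.f193346 IH) (Lpe (K12.f193357 IH) (Lpn (LP (LK LD1_c1 LD2_c13 LD3_c51)))))))))))))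
theorem f240526 : Led Lsl_gt (LP (LK LD1_c0 LD2_c59 LD3_c2)) = (LP (LK LD1_c1 LD2_c13 LD3_c51)) :=
  Lgr Lrot94 (Lpe (K12.f47085 IH) (Lpr_gt (f240521 IH) (Lpr_dt (f211587 IH) (Lpr_gt (f227816 IH) (Lpr_dt (f33725 IH) (Lpr_cf (K10.f193407 IH) (Lpr_df (K10.f193376 IH) (Lpe (K10.f173268 IH) (Lpr_df (f227554 IH) (Lpn (LP (LK LD1_c1 LD2_c13 LD3_c51))))))))))))
theorem f240545 : Led Lsl_et (LP (LK LD1_c0 LD2_c26 LD3_c53)) = (LP (LK LD1_c0 LD2_c58 LD3_c34)) :=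
  Lgr Lrot122 (Lpr_dt (K12.f27878 IH) (Lpr_gt (f240526 IH) (Lpr_df (K12.f193372 IH) (Lpe (K12.f193374 IH) (Lpr_gt (K12.f193366 IH) (Lpr_dt (K12.f178487 IH) (Lpe (K11.f201329 IH) (Lpe (K11.f166433 IH) (Lpr_et (K12.f166458 IH) (Lpr_gt (f166420 IH) (Lpn (LP (LK LD1_c0 LD2_c58 LD3_c34)))))))))))))
theorem f239477 : Led Lsl_af (LP (LK LD1_c1 LD2_c12 LD3_c53)) = (LP (LK LD1_c1 LD2_c57 LD3_c50)) :=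
  Lgr Lrot117 (Lpr_dt (f22113 IH) (Lpr_at (f239473 IH) (Lpr_dt (K12.f190242 IH) (Lpn (LP (LK LD1_c1 LD2_c57 LD3_c50))))))
theorem f239665 : Led Lsl_at (LP (LK LD1_c0 LD2_c58 LD3_c34)) = (LP (LK LD1_c0 LD2_c56 LD3_c38)) :=
  Lgr Lrot107 (Lpr_cf (f239663 IH) (Lpr_af (f239477 IH) (Lpe (K12.f195693 IH) (Lpn (LP (LK LD1_c0 LD2_c56 LD3_c38))))))
theorem f80932 : Led Lsl_et (LP (LK LD1_c0 LD2_c56 LD3_c38)) = (LP (LK LD1_c0 LD2_c25 LD3_c40)) :=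
  Lre_e IH (LK LD1_c0 LD2_c56 LD3_c38) (LK LD1_c0 LD2_c25 LD3_c40) Lrfl Lrfl
theorem f240547 : Led Lsl_af (LP (LK LD1_c0 LD2_c26 LD3_c53)) = (LP (LK LD1_c0 LD2_c25 LD3_c40)) :=
  Lgr Lrot50 (Lpr_et (f240545 IH) (Lpr_at (f239665 IH) (Lpr_et (f80932 IH) (Lpn (LP (LK LD1_c0 LD2_c25 LD3_c40))))))
theorem f240551 : Led Lsl_ft (LP (LK LD1_c0 LD2_c25 LD3_c49)) = (LP (LK LD1_c0 LD2_c25 LD3_c40)) :=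
  Lgr Lrot101 (Lpr_af (f239691 IH) (Lpe (f239681 IH) (Lpr_af (f240547 IH) (Lpn (LP (LK LD1_c0 LD2_c25 LD3_c40))))))
theorem f240555 : Led Lsl_ff (LP (LK LD1_c0 LD2_c56 LD3_c56)) = (LP (LK LD1_c0 LD2_c56 LD3_c37)) :=
  Lgr Lrot19 (Lpr_dt (K12.f190885 IH) (Lpr_ft (f240551 IH) (Lpr_dt (K10.f47065 IH) (Lpn (LP (LK LD1_c0 LD2_c56 LD3_c37))))))
theorem f239697 : Led Lsl_at (LP (LK LD1_c0 LD2_c56 LD3_c56)) = (LP (LK LD1_c0 LD2_c56 LD3_c35)) :=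
  Lgr Lrot51 (Lpe (K12.f190886 IH) (Lpr_af (f239691 IH) (Lpe (K10.f56329 IH) (Lpn (LP (LK LD1_c0 LD2_c56 LD3_c35))))))
theorem f192981 : Led Lsl_ct (LP (LK LD1_c1 LD2_c59 LD3_c29)) = (LP (LK LD1_c0 LD2_c56 LD3_c35)) :=
  Lre_c IH (LK LD1_c1 LD2_c59 LD3_c29) (LK LD1_c0 LD2_c56 LD3_c35) Lrfl Lrfl
theorem f33685 : Led Lsl_dt (LP (LK LD1_c0 LD2_c55 LD3_c58)) = (LP (LK LD1_c1 LD2_c58 LD3_c9)) :=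
  Lre_d IH (LK LD1_c0 LD2_c55 LD3_c58) (LK LD1_c1 LD2_c58 LD3_c9) Lrfl Lrfl
theorem f34584 : Led Lsl_gt (LP (LK LD1_c1 LD2_c58 LD3_c9)) = (LP (LK LD1_c4 LD2_c2 LD3_c21)) :=
  Lre_g IH (LK LD1_c1 LD2_c58 LD3_c9) (LK LD1_c4 LD2_c2 LD3_c21) Lrfl Lrfl
theorem f47061 : Led Lsl_dt (LP (LK LD1_c0 LD2_c25 LD3_c39)) = (LP (LK LD1_c0 LD2_c56 LD3_c35)) :=
  Lre_d IH (LK LD1_c0 LD2_c25 LD3_c39) (LK LD1_c0 LD2_c56 LD3_c35) Lrfl Lrfl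
theorem f192977 : Led Lsl_ct (LP (LK LD1_c0 LD2_c56 LD3_c35)) = (LP (LK LD1_c1 LD2_c59 LD3_c29)) :=
  Lre_c IH (LK LD1_c0 LD2_c56 LD3_c35) (LK LD1_c1 LD2_c59 LD3_c29) Lrfl Lrfl
theorem f193409 : Led Lsl_dt (LP (LK LD1_c4 LD2_c2 LD3_c21)) = (LP (LK LD1_c1 LD2_c59 LD3_c29)) :=
  Lgr Lrot113 (Lpe (f34584 IH) (Lpe (f33685 IH) (Lpe (K10.f33719 IH) (Lpr_ct (K10.f193403 IH) (Lpr_gt (K9.f47062 IH) (Lpr_dt (K1.f36400 IH) (Lpr_gt (K10.f47060 IH) (Lpr_dt (f47061 IH) (Lpr_ct (f192977 IH) (Lpn (LP (LK LD1_c1 LD2_c59 LD3_c29))))))))))))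
theorem f193437 : Led Lsl_cf (LP (LK LD1_c0 LD2_c55 LD3_c47)) = (LP (LK LD1_c0 LD2_c25 LD3_c40)) :=
  Lgr Lrot169 (Lpr_gt (K10.f33353 IH) (Lpr_ct (K0.f33579 IH) (Lpe (K0.f34019 IH) (Lpe (K0.f33711 IH) (Lpe (K10.f33719 IH) (Lpr_cf (K10.f193407 IH) (Lpe (K9.f47077 IH) (Lpe (K1.f27863 IH) (Lpr_gt (K9.f181420 IH) (Lpn (LP (LK LD1_c0 LD2_c25 LD3_c40))))))))))))
theorem f165477 : Led Lsl_ct (LP (LK LD1_c1 LD2_c57 LD3_c49)) = (LP (LK LD1_c4 LD2_c1 LD3_c43)) :=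
  Lre_c IH (LK LD1_c1 LD2_c57 LD3_c49) (LK LD1_c4 LD2_c1 LD3_c43) Lrfl Lrfl
theorem f240563 : Led Lsl_cf (LP (LK LD1_c4 LD2_c2 LD3_c21)) = (LP (LK LD1_c8 LD2_c4 LD3_c4)) :=
  Lgr Lrot161 (Lpr_dt (f193409 IH) (Lpr_ct (f192981 IH) (Lpe (f239697 IH) (Lpr_ff (f240555 IH) (Lpr_dt (K9.f47064 IH) (Lpe (f193437 IH) (Lpr_dt (K12.f165171 IH) (Lpr_ct (f165477 IH) (Lpr_dt (f196122 IH) (Lpn (LP (LK LD1_c8 LD2_c4 LD3_c4))))))))))))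
theorem f227321 : Led Lsl_cf (LP (LK LD1_c1 LD2_c59 LD3_c28)) = (LP (LK LD1_c4 LD2_c1 LD3_c16)) :=
  Lgr Lrot11 (Lpr_ct (K12.f227317 IH) (Lpn (LP (LK LD1_c4 LD2_c1 LD3_c16))))
theorem f240577 : Led Lsl_gt (LP (LK LD1_c4 LD2_c4 LD3_c57)) = (LP (LK LD1_c8 LD2_c4 LD3_c4)) :=
  Lgr Lrot150 (Lpe (K1.f46592 IH) (Lpe (K10.f196101 IH) (Lpe (K10.f192722 IH) (Lpr_gt (K12.f227327 IH) (Lpe (f227321 IH) (Lpr_gt (K12.f60717 IH) (Lpr_ct (f192977 IH) (Lpe (f193409 IH) (Lpr_cf (f240563 IH) (Lpn (LP (LK LD1_c8 LD2_c4 LD3_c4))))))))))))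
theorem f190751 : Led Lsl_gt (LP (LK LD1_c4 LD2_c2 LD3_c41)) = (LP (LK LD1_c4 LD2_c1 LD3_c50)) :=
  Lgr Lrot5 (Lpr_ft (K1.f47045 IH) (Lpe (K1.f47040 IH) (Lpr_gf (K10.f190749 IH) (Lpn (LP (LK LD1_c4 LD2_c1 LD3_c50))))))
theorem f33703 : Led Lsl_ct (LP (LK LD1_c4 LD2_c1 LD3_c50)) = (LP (LK LD1_c1 LD2_c57 LD3_c52)) :=
  Lre_c IH (LK LD1_c4 LD2_c1 LD3_c50) (LK LD1_c1 LD2_c57 LD3_c52) Lrfl Lrfl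
theorem f240579 : Led Lsl_gt (LP (LK LD1_c4 LD2_c2 LD3_c21)) = (LP (LK LD1_c4 LD2_c1 LD3_c38)) :=
  Lgr Lrot150 (Lpr_cf (f240563 IH) (Lpe (f240577 IH) (Lpr_df (K1.f46669 IH) (Lpr_gt (f190751 IH) (Lpr_ct (f33703 IH) (Lpr_gt (K10.f27772 IH) (Lpr_ct (K0.f33702 IH) (Lpe (K0.f33675 IH) (Lpr_cf (K0.f33678 IH) (Lpn (LP (LK LD1_c4 LD2_c1 LD3_c38))))))))))))
theorem f193415 : Led Lsl_df (LP (LK LD1_c4 LD2_c2 LD3_c21)) = (LP (LK LD1_c1 LD2_c59 LD3_c29)) :=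
  Lgr Lrot38 (Lpr_dt (f193409 IH) (Lpn (LP (LK LD1_c1 LD2_c59 LD3_c29))))
theorem f194133 : Led Lsl_gt (LP (LK LD1_c1 LD2_c57 LD3_c58)) = (LP (LK LD1_c0 LD2_c55 LD3_c51)) :=
  Lre_g IH (LK LD1_c1 LD2_c57 LD3_c58) (LK LD1_c0 LD2_c55 LD3_c51) Lrfl Lrfl
theorem f194138 : Led Lsl_ct (LP (LK LD1_c4 LD2_c2 LD3_c1)) = (LP (LK LD1_c1 LD2_c57 LD3_c58)) :=
  Lre_c IH (LK LD1_c4 LD2_c2 LD3_c1) (LK LD1_c1 LD2_c57 LD3_c58) Lrfl Lrfl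
theorem f240586 : Led Lsl_gf (LP (LK LD1_c1 LD2_c59 LD3_c29)) = (LP (LK LD1_c4 LD2_c2 LD3_c1)) :=
  Lgr Lrot144 (Lpe (f193415 IH) (Lpr_gt (f240579 IH) (Lpr_dt (K0.f33723 IH) (Lpe (K0.f33676 IH) (Lpe (K0.f33651 IH) (Lpe (K10.f194135 IH) (Lpe (K10.f81105 IH) (Lpe (f194133 IH) (Lpe (f194138 IH) (Lpn (LP (LK LD1_c4 LD2_c2 LD3_c1))))))))))))
theorem f194137 : Led Lsl_ct (LP (LK LD1_c1 LD2_c57 LD3_c58)) = (LP (LK LD1_c4 LD2_c2 LD3_c1)) :=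
  Lre_c IH (LK LD1_c1 LD2_c57 LD3_c58) (LK LD1_c4 LD2_c2 LD3_c1) Lrfl Lrfl
theorem f240588 : Led Lsl_gt (LP (LK LD1_c0 LD2_c55 LD3_c54)) = (LP (LK LD1_c1 LD2_c57 LD3_c58)) :=
  Lgr Lrot9 (Lpe (K12.f34064 IH) (Lpr_gt (K10.f33671 IH) (Lpr_ct (K0.f33580 IH) (Lpr_gt (K10.f33560 IH) (Lpe (K10.f192959 IH) (Lpe (K10.f56329 IH) (Lpe (f192981 IH) (Lpr_gf (f240586 IH) (Lpe (f194137 IH) (Lpn (LP (LK LD1_c1 LD2_c57 LD3_c58))))))))))))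
theorem f182370 : Led Lsl_dt (LP (LK LD1_c4 LD2_c1 LD3_c26)) = (LP (LK LD1_c1 LD2_c57 LD3_c40)) :=
  Lre_d IH (LK LD1_c4 LD2_c1 LD3_c26) (LK LD1_c1 LD2_c57 LD3_c40) Lrfl Lrfl
theorem f240599 : Led Lsl_df (LP (LK LD1_c1 LD2_c10 LD3_c16)) = (LP (LK LD1_c1 LD2_c57 LD3_c58)) :=
  Lgr Lrot153 (Lpr_gt (K11.f175075 IH) (Lpr_dt (K9.f182354 IH) (Lpe (K12.f34214 IH) (Lpe (f182370 IH) (Lpr_gf (K12.f229361 IH) (Lpe (K12.f201443 IH) (Lpe (K12.f227931 IH) (Lpe (K12.f34068 IH) (Lpr_gt (f240588 IH) (Lpn (LP (LK LD1_c1 LD2_c57 LD3_c58))))))))))))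
theorem f182360 : Led Lsl_df (LP (LK LD1_c0 LD2_c32 LD3_c29)) = (LP (LK LD1_c0 LD2_c55 LD3_c43)) :=
  Lgr Lrot38 (Lpr_dt (K9.f182354 IH) (Lpn (LP (LK LD1_c0 LD2_c55 LD3_c43))))
theorem f182388 : Led Lsl_ct (LP (LK LD1_c4 LD2_c1 LD3_c27)) = (LP (LK LD1_c1 LD2_c57 LD3_c41)) :=
  Lre_c IH (LK LD1_c4 LD2_c1 LD3_c27) (LK LD1_c1 LD2_c57 LD3_c41) Lrfl Lrfl
theorem f227470 : Led Lsl_dt (LP (LK LD1_c2 LD2_c52 LD3_c17)) = (LP (LK LD1_c1 LD2_c22 LD3_c9)) :=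
  Lre_d IH (LK LD1_c2 LD2_c52 LD3_c17) (LK LD1_c1 LD2_c22 LD3_c9) Lrfl Lrfl
theorem f229355 : Led Lsl_gt (LP (LK LD1_c1 LD2_c57 LD3_c41)) = (LP (LK LD1_c2 LD2_c52 LD3_c17)) :=
  Lgr Lrot94 (Lpe (f182388 IH) (Lpe (K12.f198329 IH) (Lpe (K10.f198076 IH) (Lpr_gt (K12.f229348 IH) (Lpr_dt (K11.f38401 IH) (Lpr_cf (K1.f38399 IH) (Lpe (K1.f35625 IH) (Lpr_gf (K12.f227477 IH) (Lpe (f227470 IH) (Lpn (LP (LK LD1_c2 LD2_c52 LD3_c17))))))))))))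
theorem f240605 : Led Lsl_ef (LP (LK LD1_c1 LD2_c9 LD3_c34)) = (LP (LK LD1_c1 LD2_c57 LD3_c58)) :=
  Lgr Lrot17 (Lpr_gf (K12.f31587 IH) (Lpr_ef (K1.f36209 IH) (Lpr_dt (K1.f35625 IH) (Lpr_gf (K12.f227477 IH) (Lpe (f227470 IH) (Lpe (f229355 IH) (Lpe (K11.f182364 IH) (Lpe (f182360 IH) (Lpe (K11.f175075 IH) (Lpr_df (f240599 IH) (Lpn (LP (LK LD1_c1 LD2_c57 LD3_c58)))))))))))))
theorem f240607 : Led Lsl_et (LP (LK LD1_c2 LD2_c7 LD3_c47)) = (LP (LK LD1_c4 LD2_c2 LD3_c1)) :=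
  Lgr Lrot158 (Lpr_cf (f239240 IH) (Lpr_ef (f240605 IH) (Lpe (f194138 IH) (Lpn (LP (LK LD1_c4 LD2_c2 LD3_c1))))))
theorem f240612 : Led Lsl_ef (LP (LK LD1_c2 LD2_c7 LD3_c47)) = (LP (LK LD1_c4 LD2_c2 LD3_c1)) :=
  Lgr Lrot88 (Lpr_et (f240607 IH) (Lpn (LP (LK LD1_c4 LD2_c2 LD3_c1))))
theorem f80331 : Led Lsl_dt (LP (LK LD1_c1 LD2_c57 LD3_c42)) = (LP (LK LD1_c4 LD2_c1 LD3_c29)) :=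
  Lre_d IH (LK LD1_c1 LD2_c57 LD3_c42) (LK LD1_c4 LD2_c1 LD3_c29) Lrfl Lrfl
theorem f80332 : Led Lsl_gt (LP (LK LD1_c4 LD2_c1 LD3_c29)) = (LP (LK LD1_c8 LD2_c3 LD3_c35)) :=
  Lre_g IH (LK LD1_c4 LD2_c1 LD3_c29) (LK LD1_c8 LD2_c3 LD3_c35) Lrfl Lrfl
theorem f240641 : Led Lsl_df (LP (LK LD1_c8 LD2_c3 LD3_c35)) = (LP (LK LD1_c4 LD2_c2 LD3_c1)) :=
  Lgr Lrot132 (Lpe (f80332 IH) (Lpe (f80331 IH) (Lpe (K10.f69754 IH) (Lpr_ef (K12.f80307 IH) (Lpr_dt (K2.f59664 IH) (Lpe (K2.f80315 IH) (Lpe (K1.f35598 IH) (Lpe (K1.f35772 IH) (Lpe (f28657 IH) (Lpr_ef (f240612 IH) (Lpn (LP (LK LD1_c4 LD2_c2 LD3_c1)))))))))))))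
theorem f197255 : Led Lsl_et (LP (LK LD1_c1 LD2_c57 LD3_c42)) = (LP (LK LD1_c1 LD2_c10 LD3_c24)) :=
  Lgr Lrot87 (Lpr_ef (K12.f197246 IH) (Lpn (LP (LK LD1_c1 LD2_c10 LD3_c24))))
theorem f211234 : Led Lsl_et (LP (LK LD1_c2 LD2_c24 LD3_c44)) = (LP (LK LD1_c2 LD2_c26 LD3_c2)) :=
  Lgr Lrot158 (Lpe (K12.f190262 IH) (Lpr_ef (K11.f211232 IH) (Lpe (f182332 IH) (Lpn (LP (LK LD1_c2 LD2_c26 LD3_c2))))))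
theorem f31790 : Led Lsl_gt (LP (LK LD1_c2 LD2_c7 LD3_c49)) = (LP (LK LD1_c4 LD2_c20 LD3_c41)) :=
  Lre_g IH (LK LD1_c2 LD2_c7 LD3_c49) (LK LD1_c4 LD2_c20 LD3_c41) Lrfl Lrfl
theorem f240649 : Led Lsl_dt (LP (LK LD1_c2 LD2_c24 LD3_c44)) = (LP (LK LD1_c4 LD2_c20 LD3_c41)) :=
  Lgr Lrot56 (Lpr_et (f211234 IH) (Lpr_gt (K12.f182328 IH) (Lpe (f197255 IH) (Lpr_dt (f80331 IH) (Lpr_gt (f80332 IH) (Lpr_df (f240641 IH) (Lpe (f240612 IH) (Lpr_gt (f28657 IH) (Lpr_dt (f31843 IH) (Lpr_gt (f31790 IH) (Lpn (LP (LK LD1_c4 LD2_c20 LD3_c41)))))))))))))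
theorem f31791 : Led Lsl_gf (LP (LK LD1_c4 LD2_c20 LD3_c18)) = (LP (LK LD1_c4 LD2_c20 LD3_c41)) :=
  Lgr Lrot76 (Lpr_af (K0.f31769 IH) (Lpe (K0.f31731 IH) (Lpr_gt (f31790 IH) (Lpn (LP (LK LD1_c4 LD2_c20 LD3_c41))))))
theorem f164979 : Led Lsl_gt (LP (LK LD1_c1 LD2_c11 LD3_c59)) = (LP (LK LD1_c0 LD2_c33 LD3_c18)) :=
  Lre_g IH (LK LD1_c1 LD2_c11 LD3_c59) (LK LD1_c0 LD2_c33 LD3_c18) Lrfl Lrfl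
theorem f240656 : Led Lsl_ct (LP (LK LD1_c2 LD2_c29 LD3_c52)) = (LP (LK LD1_c1 LD2_c11 LD3_c59)) :=
  Lre_c IH (LK LD1_c2 LD2_c29 LD3_c52) (LK LD1_c1 LD2_c11 LD3_c59) Lrfl Lrfl
theorem f240657 : Led Lsl_gf (LP (LK LD1_c2 LD2_c24 LD3_c44)) = (LP (LK LD1_c2 LD2_c29 LD3_c52)) :=
  Lgr Lrot144 (Lpr_dt (f240649 IH) (Lpe (f31791 IH) (Lpr_dt (K0.f31768 IH) (Lpe (K1.f31765 IH) (Lpe (K0.f28484 IH) (Lpe (K11.f192531 IH) (Lpe (K11.f31649 IH) (Lpe (f164979 IH) (Lpe (f240656 IH) (Lpn (LP (LK LD1_c2 LD2_c29 LD3_c52))))))))))))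
theorem f190229 : Led Lsl_ct (LP (LK LD1_c2 LD2_c24 LD3_c44)) = (LP (LK LD1_c1 LD2_c9 LD3_c30)) :=
  Lre_c IH (LK LD1_c2 LD2_c24 LD3_c44) (LK LD1_c1 LD2_c9 LD3_c30) Lrfl Lrfl
theorem f240660 : Led Lsl_ct (LP (LK LD1_c1 LD2_c11 LD3_c59)) = (LP (LK LD1_c2 LD2_c29 LD3_c52)) :=
  Lre_c IH (LK LD1_c1 LD2_c11 LD3_c59) (LK LD1_c2 LD2_c29 LD3_c52) Lrfl Lrfl
theorem f240679 : Led Lsl_gt (LP (LK LD1_c1 LD2_c0 LD3_c59)) = (LP (LK LD1_c1 LD2_c11 LD3_c59)) :=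
  Lgr Lrot9 (Lpe (K12.f36339 IH) (Lpr_gt (K10.f28619 IH) (Lpr_ct (K0.f27889 IH) (Lpe (K10.f190222 IH) (Lpe (K9.f183887 IH) (Lpe (K11.f31566 IH) (Lpe (f190229 IH) (Lpr_gf (f240657 IH) (Lpe (f240660 IH) (Lpn (LP (LK LD1_c1 LD2_c11 LD3_c59))))))))))))
theorem f31648 : Led Lsl_gt (LP (LK LD1_c2 LD2_c29 LD3_c54)) = (LP (LK LD1_c1 LD2_c11 LD3_c60)) :=
  Lre_g IH (LK LD1_c2 LD2_c29 LD3_c54) (LK LD1_c1 LD2_c11 LD3_c60) Lrfl Lrfl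
theorem f204901 : Led Lsl_bt (LP (LK LD1_c2 LD2_c29 LD3_c51)) = (LP (LK LD1_c1 LD2_c11 LD3_c59)) :=
  Lre_b IH (LK LD1_c2 LD2_c29 LD3_c51) (LK LD1_c1 LD2_c11 LD3_c59) Lrfl Lrfl
theorem f240694 : Led Lsl_cf (LP (LK LD1_c2 LD2_c29 LD3_c54)) = (LP (LK LD1_c2 LD2_c29 LD3_c51)) :=
  Lgr Lrot160 (Lpr_gt (f31648 IH) (Lpe (K12.f164157 IH) (Lpr_bt (K12.f164156 IH) (Lpr_gt (K9.f163705 IH) (Lpr_ct (K9.f163706 IH) (Lpe (K9.f164125 IH) (Lpe (K9.f28369 IH) (Lpr_bt (K12.f164143 IH) (Lpr_gt (f240679 IH) (Lpe (f204901 IH) (Lpn (LP (LK LD1_c2 LD2_c29 LD3_c51)))))))))))))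
theorem f240708 : Led Lsl_gf (LP (LK LD1_c2 LD2_c29 LD3_c54)) = (LP (LK LD1_c2 LD2_c7 LD3_c45)) :=
  Lgr Lrot129 (Lpr_cf (f240694 IH) (Lpr_bt (f204901 IH) (Lpr_gt (f164979 IH) (Lpe (K11.f164724 IH) (Lpr_ct (K9.f3129 IH) (Lpr_gt (K9.f164693 IH) (Lpr_cf (K9.f177769 IH) (Lpe (K12.f204895 IH) (Lpr_gt (K12.f204911 IH) (Lpr_ct (K12.f36344 IH) (Lpn (LP (LK LD1_c2 LD2_c7 LD3_c45)))))))))))))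
theorem f240699 : Led Lsl_ct (LP (LK LD1_c2 LD2_c29 LD3_c54)) = (LP (LK LD1_c2 LD2_c29 LD3_c51)) :=
  Lgr Lrot59 (Lpr_cf (f240694 IH) (Lpn (LP (LK LD1_c2 LD2_c29 LD3_c51))))
theorem f70402 : Led Lsl_ft (LP (LK LD1_c14 LD2_c59 LD3_c54)) = (LP (LK LD1_c7 LD2_c57 LD3_c2)) :=
  Lre_f IH (LK LD1_c14 LD2_c59 LD3_c54) (LK LD1_c7 LD2_c57 LD3_c2) Lrfl Lrfl
theorem f201360 : Led Lsl_et (LP (LK LD1_c7 LD2_c57 LD3_c2)) = (LP (LK LD1_c3 LD2_c57 LD3_c50)) :=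
  Lre_e IH (LK LD1_c7 LD2_c57 LD3_c2) (LK LD1_c3 LD2_c57 LD3_c50) Lrfl Lrfl
theorem f201905 : Led Lsl_ft (LP (LK LD1_c10 LD2_c16 LD3_c18)) = (LP (LK LD1_c18 LD2_c40 LD3_c53)) :=
  Lre_f IH (LK LD1_c10 LD2_c16 LD3_c18) (LK LD1_c18 LD2_c40 LD3_c53) Lrfl Lrfl
theorem f201906 : Led Lsl_ft (LP (LK LD1_c3 LD2_c57 LD3_c50)) = (LP (LK LD1_c5 LD2_c12 LD3_c61)) :=
  Lgr Lrot86 (Lpe (f201360 IH) (Lpe (f70402 IH) (Lpr_ef (K11.f201899 IH) (Lpe (f201905 IH) (Lpe (K11.f201626 IH) (Lpn (LP (LK LD1_c5 LD2_c12 LD3_c61))))))))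
theorem f201619 : Led Lsl_at (LP (LK LD1_c5 LD2_c12 LD3_c61)) = (LP (LK LD1_c4 LD2_c25 LD3_c12)) :=
  Lgr Lrot51 (Lpr_df (K11.f201580 IH) (Lpe (K11.f201546 IH) (Lpe (K2.f70817 IH) (Lpn (LP (LK LD1_c4 LD2_c25 LD3_c12))))))
theorem f201908 : Led Lsl_gt (LP (LK LD1_c2 LD2_c29 LD3_c56)) = (LP (LK LD1_c4 LD2_c25 LD3_c12)) :=
  Lgr Lrot46 (Lpr_gf (K11.f201347 IH) (Lpr_ft (f201906 IH) (Lpr_at (f201619 IH) (Lpn (LP (LK LD1_c4 LD2_c25 LD3_c12))))))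
theorem f240702 : Led Lsl_gf (LP (LK LD1_c1 LD2_c56 LD3_c38)) = (LP (LK LD1_c2 LD2_c29 LD3_c51)) :=
  Lgr Lrot144 (Lpr_dt (K10.f28792 IH) (Lpe (K10.f31595 IH) (Lpr_dt (K10.f31553 IH) (Lpe (K11.f201379 IH) (Lpe (K2.f70817 IH) (Lpe (f201908 IH) (Lpe (K11.f164909 IH) (Lpe (f31648 IH) (Lpr_cf (f240694 IH) (Lpn (LP (LK LD1_c2 LD2_c29 LD3_c51))))))))))))
theorem f50937 : Led Lsl_at (LP (LK LD1_c8 LD2_c2 LD3_c51)) = (LP (LK LD1_c4 LD2_c3 LD3_c17)) :=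
  Lre_a IH (LK LD1_c8 LD2_c2 LD3_c51) (LK LD1_c4 LD2_c3 LD3_c17) Lrfl Lrfl
theorem f189978 : Led Lsl_gf (LP (LK LD1_c4 LD2_c14 LD3_c21)) = (LP (LK LD1_c4 LD2_c1 LD3_c2)) :=
  Lgr Lrot47 (Lpr_gt (K10.f189976 IH) (Lpe (f50937 IH) (Lpe (K10.f50938 IH) (Lpn (LP (LK LD1_c4 LD2_c1 LD3_c2))))))
theorem f50780 : Led Lsl_gt (LP (LK LD1_c1 LD2_c0 LD3_c47)) = (LP (LK LD1_c2 LD2_c7 LD3_c27)) :=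
  Lre_g IH (LK LD1_c1 LD2_c0 LD3_c47) (LK LD1_c2 LD2_c7 LD3_c27) Lrfl Lrfl
theorem f189986 : Led Lsl_bt (LP (LK LD1_c2 LD2_c4 LD3_c33)) = (LP (LK LD1_c2 LD2_c7 LD3_c27)) :=
  Lgr Lrot92 (Lpr_ct (K10.f50896 IH) (Lpr_gt (K10.f189976 IH) (Lpe (K10.f50374 IH) (Lpr_bt (K10.f50339 IH) (Lpr_gt (K10.f50772 IH) (Lpr_ct (K10.f50774 IH) (Lpe (K10.f50775 IH) (Lpe (K10.f33027 IH) (Lpr_bt (K11.f32078 IH) (Lpr_gt (f50780 IH) (Lpn (LP (LK LD1_c2 LD2_c7 LD3_c27)))))))))))))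
theorem f191285 : Led Lsl_gf (LP (LK LD1_c2 LD2_c7 LD3_c42)) = (LP (LK LD1_c2 LD2_c7 LD3_c27)) :=
  Lgr Lrot181 (Lpr_ct (K0.f31829 IH) (Lpr_gt (K11.f191277 IH) (Lpe (K11.f190095 IH) (Lpr_bt (K11.f187925 IH) (Lpe (K11.f188004 IH) (Lpe (K10.f30864 IH) (Lpr_ct (K10.f30937 IH) (Lpe (f189978 IH) (Lpe (K10.f50896 IH) (Lpr_bt (f189986 IH) (Lpn (LP (LK LD1_c2 LD2_c7 LD3_c27)))))))))))))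
theorem f182032 : Led Lsl_ct (LP (LK LD1_c1 LD2_c25 LD3_c35)) = (LP (LK LD1_c2 LD2_c59 LD3_c46)) :=
  Lre_c IH (LK LD1_c1 LD2_c25 LD3_c35) (LK LD1_c2 LD2_c59 LD3_c46) Lrfl Lrfl
theorem f182029 : Led Lsl_dt (LP (LK LD1_c6 LD2_c7 LD3_c13)) = (LP (LK LD1_c2 LD2_c59 LD3_c46)) :=
  Lre_d IH (LK LD1_c6 LD2_c7 LD3_c13) (LK LD1_c2 LD2_c59 LD3_c46) Lrfl Lrfl
theorem f190045 : Led Lsl_ct (LP (LK LD1_c4 LD2_c19 LD3_c56)) = (LP (LK LD1_c2 LD2_c7 LD3_c27)) :=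
  Lre_c IH (LK LD1_c4 LD2_c19 LD3_c56) (LK LD1_c2 LD2_c7 LD3_c27) Lrfl Lrfl
theorem f31192 : Led Lsl_ct (LP (LK LD1_c4 LD2_c20 LD3_c51)) = (LP (LK LD1_c2 LD2_c7 LD3_c55)) :=
  Lre_c IH (LK LD1_c4 LD2_c20 LD3_c51) (LK LD1_c2 LD2_c7 LD3_c55) Lrfl Lrfl
theorem f50793 : Led Lsl_ct (LP (LK LD1_c2 LD2_c7 LD3_c27)) = (LP (LK LD1_c4 LD2_c19 LD3_c56)) :=
  Lre_c IH (LK LD1_c2 LD2_c7 LD3_c27) (LK LD1_c4 LD2_c19 LD3_c56) Lrfl Lrfl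
theorem f189871 : Led Lsl_gf (LP (LK LD1_c4 LD2_c20 LD3_c51)) = (LP (LK LD1_c4 LD2_c19 LD3_c56)) :=
  Lgr Lrot104 (Lpr_ct (f31192 IH) (Lpe (K11.f31139 IH) (Lpe (K0.f31535 IH) (Lpr_gf (K10.f31595 IH) (Lpr_cf (K10.f189860 IH) (Lpe (K10.f32028 IH) (Lpe (K0.f31707 IH) (Lpr_gt (f50780 IH) (Lpr_ct (f50793 IH) (Lpn (LP (LK LD1_c4 LD2_c19 LD3_c56))))))))))))
theorem f191287 : Led Lsl_gf (LP (LK LD1_c6 LD2_c7 LD3_c13)) = (LP (LK LD1_c7 LD2_c57 LD3_c4)) :=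
  Lgr Lrot143 (Lpr_dt (f182029 IH) (Lpe (f182032 IH) (Lpe (f177626 IH) (Lpr_gf (K9.f182036 IH) (Lpe (K10.f28628 IH) (Lpr_gf (f191285 IH) (Lpe (f190045 IH) (Lpe (f189871 IH) (Lpr_dt (K11.f36945 IH) (Lpn (LP (LK LD1_c7 LD2_c57 LD3_c4))))))))))))
theorem f240710 : Led Lsl_cf (LP (LK LD1_c4 LD2_c20 LD3_c15)) = (LP (LK LD1_c6 LD2_c7 LD3_c13)) :=
  Lgr Lrot99 (Lpr_df (K12.f225010 IH) (Lpe (K10.f28728 IH) (Lpr_gf (f240702 IH) (Lpe (f240699 IH) (Lpr_gf (f240708 IH) (Lpe (K12.f36351 IH) (Lpr_gt (K12.f204947 IH) (Lpr_ct (f36958 IH) (Lpe (f191287 IH) (Lpn (LP (LK LD1_c6 LD2_c7 LD3_c13))))))))))))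
theorem f192638 : Led Lsl_dt (LP (LK LD1_c5 LD2_c12 LD3_c52)) = (LP (LK LD1_c2 LD2_c33 LD3_c16)) :=
  Lre_d IH (LK LD1_c5 LD2_c12 LD3_c52) (LK LD1_c2 LD2_c33 LD3_c16) Lrfl Lrfl
theorem f60462 : Led Lsl_ct (LP (LK LD1_c3 LD2_c4 LD3_c41)) = (LP (LK LD1_c1 LD2_c28 LD3_c22)) :=
  Lre_c IH (LK LD1_c3 LD2_c4 LD3_c41) (LK LD1_c1 LD2_c28 LD3_c22) Lrfl Lrfl
theorem f212017 : Led Lsl_et (LP (LK LD1_c2 LD2_c33 LD3_c16)) = (LP (LK LD1_c3 LD2_c4 LD3_c41)) :=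
  Lgr Lrot158 (Lpe (K10.f185152 IH) (Lpr_ef (K12.f212015 IH) (Lpe (f60462 IH) (Lpn (LP (LK LD1_c3 LD2_c4 LD3_c41))))))
theorem f28656 : Led Lsl_gt (LP (LK LD1_c1 LD2_c0 LD3_c61)) = (LP (LK LD1_c2 LD2_c7 LD3_c46)) :=
  Lre_g IH (LK LD1_c1 LD2_c0 LD3_c61) (LK LD1_c2 LD2_c7 LD3_c46) Lrfl Lrfl
theorem f35782 : Led Lsl_dt (LP (LK LD1_c2 LD2_c7 LD3_c46)) = (LP (LK LD1_c4 LD2_c20 LD3_c33)) :=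
  Lre_d IH (LK LD1_c2 LD2_c7 LD3_c46) (LK LD1_c4 LD2_c20 LD3_c33) Lrfl Lrfl
theorem f212058 : Led Lsl_gf (LP (LK LD1_c5 LD2_c12 LD3_c52)) = (LP (LK LD1_c4 LD2_c20 LD3_c33)) :=
  Lgr Lrot134 (Lpe (f192637 IH) (Lpr_et (f212017 IH) (Lpr_gt (K10.f193764 IH) (Lpe (K10.f70011 IH) (Lpr_dt (K2.f35868 IH) (Lpr_gt (K2.f70211 IH) (Lpe (K1.f35598 IH) (Lpe (K1.f35772 IH) (Lpr_gt (f28656 IH) (Lpr_dt (f35782 IH) (Lpn (LP (LK LD1_c4 LD2_c20 LD3_c33)))))))))))))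
theorem f32047 : Led Lsl_dt (LP (LK LD1_c4 LD2_c14 LD3_c33)) = (LP (LK LD1_c8 LD2_c27 LD3_c50)) :=
  Lre_d IH (LK LD1_c4 LD2_c14 LD3_c33) (LK LD1_c8 LD2_c27 LD3_c50) Lrfl Lrfl
theorem f182594 : Led Lsl_ct (LP (LK LD1_c4 LD2_c6 LD3_c54)) = (LP (LK LD1_c2 LD2_c0 LD3_c49)) :=
  Lre_c IH (LK LD1_c4 LD2_c6 LD3_c54) (LK LD1_c2 LD2_c0 LD3_c49) Lrfl Lrfl
theorem f190220 : Led Lsl_gt (LP (LK LD1_c2 LD2_c0 LD3_c49)) = (LP (LK LD1_c2 LD2_c7 LD3_c29)) :=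
  Lgr Lrot46 (Lpr_gf (K10.f190212 IH) (Lpr_ft (K11.f32040 IH) (Lpr_at (K10.f32026 IH) (Lpn (LP (LK LD1_c2 LD2_c7 LD3_c29))))))
theorem f31820 : Led Lsl_at (LP (LK LD1_c4 LD2_c20 LD3_c0)) = (LP (LK LD1_c4 LD2_c20 LD3_c28)) :=
  Lgr Lrot100 (Lpr_af (K0.f31813 IH) (Lpn (LP (LK LD1_c4 LD2_c20 LD3_c28))))
theorem f31986 : Led Lsl_af (LP (LK LD1_c4 LD2_c20 LD3_c43)) = (LP (LK LD1_c4 LD2_c20 LD3_c16)) :=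
  Lgr Lrot68 (Lpr_ct (K11.f31732 IH) (Lpr_at (K0.f31971 IH) (Lpr_ct (K11.f31723 IH) (Lpn (LP (LK LD1_c4 LD2_c20 LD3_c16))))))
theorem f31994 : Led Lsl_df (LP (LK LD1_c4 LD2_c20 LD3_c0)) = (LP (LK LD1_c4 LD2_c20 LD3_c43)) :=
  Lgr Lrot18 (Lpr_at (f31820 IH) (Lpr_dt (K0.f31992 IH) (Lpe (f31986 IH) (Lpn (LP (LK LD1_c4 LD2_c20 LD3_c43))))))
theorem f31845 : Led Lsl_ct (LP (LK LD1_c2 LD2_c7 LD3_c49)) = (LP (LK LD1_c4 LD2_c20 LD3_c43)) :=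
  Lre_c IH (LK LD1_c2 LD2_c7 LD3_c49) (LK LD1_c4 LD2_c20 LD3_c43) Lrfl Lrfl
theorem f231514 : Led Lsl_ct (LP (LK LD1_c8 LD2_c14 LD3_c7)) = (LP (LK LD1_c4 LD2_c20 LD3_c42)) :=
  Lgr Lrot152 (Lpr_gf (f231480 IH) (Lpe (K11.f31355 IH) (Lpr_gt (K9.f182591 IH) (Lpr_ct (f182594 IH) (Lpr_gt (f190220 IH) (Lpr_ct (K0.f31802 IH) (Lpr_df (f31994 IH) (Lpe (f31845 IH) (Lpe (f28654 IH) (Lpn (LP (LK LD1_c4 LD2_c20 LD3_c42))))))))))))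
theorem f231546 : Led Lsl_cf (LP (LK LD1_c8 LD2_c27 LD3_c50)) = (LP (LK LD1_c4 LD2_c20 LD3_c33)) :=
  Lgr Lrot14 (Lpe (f32047 IH) (Lpr_gf (f231541 IH) (Lpr_df (f231463 IH) (Lpe (f231475 IH) (Lpr_ct (f231514 IH) (Lpr_gt (f28654 IH) (Lpr_dt (K0.f28653 IH) (Lpr_gt (f28656 IH) (Lpr_dt (f35782 IH) (Lpn (LP (LK LD1_c4 LD2_c20 LD3_c33))))))))))))
theorem f182033 : Led Lsl_dt (LP (LK LD1_c2 LD2_c59 LD3_c46)) = (LP (LK LD1_c6 LD2_c7 LD3_c13)) :=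
  Lre_d IH (LK LD1_c2 LD2_c59 LD3_c46) (LK LD1_c6 LD2_c7 LD3_c13) Lrfl Lrfl
theorem f182028 : Led Lsl_ct (LP (LK LD1_c2 LD2_c59 LD3_c46)) = (LP (LK LD1_c1 LD2_c25 LD3_c35)) :=
  Lre_c IH (LK LD1_c2 LD2_c59 LD3_c46) (LK LD1_c1 LD2_c25 LD3_c35) Lrfl Lrfl
theorem f31627 : Led Lsl_dt (LP (LK LD1_c1 LD2_c11 LD3_c57)) = (LP (LK LD1_c0 LD2_c33 LD3_c17)) :=
  Lre_d IH (LK LD1_c1 LD2_c11 LD3_c57) (LK LD1_c0 LD2_c33 LD3_c17) Lrfl Lrfl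
theorem f31633 : Led Lsl_ct (LP (LK LD1_c2 LD2_c29 LD3_c46)) = (LP (LK LD1_c5 LD2_c4 LD3_c53)) :=
  Lre_c IH (LK LD1_c2 LD2_c29 LD3_c46) (LK LD1_c5 LD2_c4 LD3_c53) Lrfl Lrfl
theorem f192351 : Led Lsl_gf (LP (LK LD1_c2 LD2_c59 LD3_c46)) = (LP (LK LD1_c5 LD2_c4 LD3_c53)) :=
  Lgr Lrot104 (Lpr_ct (f182028 IH) (Lpe (f177626 IH) (Lpr_cf (K9.f182015 IH) (Lpr_gf (K10.f192345 IH) (Lpr_cf (K0.f31542 IH) (Lpe (K10.f31622 IH) (Lpe (f31627 IH) (Lpr_gt (K10.f31632 IH) (Lpr_ct (f31633 IH) (Lpn (LP (LK LD1_c5 LD2_c4 LD3_c53))))))))))))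
theorem f192602 : Led Lsl_dt (LP (LK LD1_c10 LD2_c0 LD3_c50)) = (LP (LK LD1_c5 LD2_c4 LD3_c53)) :=
  Lre_d IH (LK LD1_c10 LD2_c0 LD3_c50) (LK LD1_c5 LD2_c4 LD3_c53) Lrfl Lrfl
theorem f240733 : Led Lsl_gt (LP (LK LD1_c8 LD2_c27 LD3_c50)) = (LP (LK LD1_c10 LD2_c0 LD3_c50)) :=
  Lgr Lrot94 (Lpr_cf (f231546 IH) (Lpe (f212058 IH) (Lpr_dt (f192638 IH) (Lpe (K10.f189869 IH) (Lpe (K12.f225010 IH) (Lpr_cf (f240710 IH) (Lpe (f182033 IH) (Lpr_gf (f192351 IH) (Lpe (f192602 IH) (Lpn (LP (LK LD1_c10 LD2_c0 LD3_c50))))))))))))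
theorem f187930 : Led Lsl_dt (LP (LK LD1_c2 LD2_c7 LD3_c53)) = (LP (LK LD1_c1 LD2_c9 LD3_c6)) :=
  Lgr Lrot42 (Lpr_df (K10.f187923 IH) (Lpn (LP (LK LD1_c1 LD2_c9 LD3_c6))))
theorem f240737 : Led Lsl_gt (LP (LK LD1_c1 LD2_c9 LD3_c6)) = (LP (LK LD1_c1 LD2_c57 LD3_c36)) :=
  Lgr Lrot49 (Lpe (f187930 IH) (Lpr_gf (K10.f31421 IH) (Lpe (K9.f28700 IH) (Lpe (f231541 IH) (Lpr_dt (f32047 IH) (Lpr_gt (f240733 IH) (Lpr_dt (f192602 IH) (Lpe (f31633 IH) (Lpr_df (K10.f192592 IH) (Lpn (LP (LK LD1_c1 LD2_c57 LD3_c36))))))))))))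
theorem f170684 : Led Lsl_ct (LP (LK LD1_c0 LD2_c31 LD3_c37)) = (LP (LK LD1_c1 LD2_c9 LD3_c6)) :=
  Lre_c IH (LK LD1_c0 LD2_c31 LD3_c37) (LK LD1_c1 LD2_c9 LD3_c6) Lrfl Lrfl
theorem f192631 : Led Lsl_ct (LP (LK LD1_c1 LD2_c57 LD3_c36)) = (LP (LK LD1_c0 LD2_c55 LD3_c41)) :=
  Lre_c IH (LK LD1_c1 LD2_c57 LD3_c36) (LK LD1_c0 LD2_c55 LD3_c41) Lrfl Lrfl
theorem f204926 : Led Lsl_ct (LP (LK LD1_c2 LD2_c29 LD3_c53)) = (LP (LK LD1_c1 LD2_c57 LD3_c38)) :=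
  Lgr Lrot59 (Lpr_cf (K12.f204921 IH) (Lpn (LP (LK LD1_c1 LD2_c57 LD3_c38))))
theorem f240748 : Led Lsl_df (LP (LK LD1_c1 LD2_c9 LD3_c8)) = (LP (LK LD1_c1 LD2_c11 LD3_c59)) :=
  Lgr Lrot155 (Lpr_gt (f170659 IH) (Lpr_ct (f170684 IH) (Lpr_gt (f240737 IH) (Lpr_ct (f192631 IH) (Lpr_dt (K10.f171540 IH) (Lpe (f204926 IH) (Lpe (K12.f164963 IH) (Lpe (K12.f164157 IH) (Lpe (f164979 IH) (Lpn (LP (LK LD1_c1 LD2_c11 LD3_c59))))))))))))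
theorem f210633 : Led Lsl_et (LP (LK LD1_c0 LD2_c34 LD3_c13)) = (LP (LK LD1_c1 LD2_c13 LD3_c51)) :=
  Lre_e IH (LK LD1_c0 LD2_c34 LD3_c13) (LK LD1_c1 LD2_c13 LD3_c51) Lrfl Lrfl
theorem f60634 : Led Lsl_gt (LP (LK LD1_c1 LD2_c20 LD3_c38)) = (LP (LK LD1_c0 LD2_c37 LD3_c15)) :=
  Lre_g IH (LK LD1_c1 LD2_c20 LD3_c38) (LK LD1_c0 LD2_c37 LD3_c15) Lrfl Lrfl
theorem f60635 : Led Lsl_gt (LP (LK LD1_c1 LD2_c28 LD3_c23)) = (LP (LK LD1_c1 LD2_c20 LD3_c38)) :=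
  Lgr Lrot5 (Lpr_ft (K2.f60431 IH) (Lpr_at (K2.f60626 IH) (Lpe (f60634 IH) (Lpn (LP (LK LD1_c1 LD2_c20 LD3_c38))))))
theorem f240766 : Led Lsl_ef (LP (LK LD1_c1 LD2_c20 LD3_c38)) = (LP (LK LD1_c1 LD2_c11 LD3_c59)) :=
  Lgr Lrot17 (Lpe (f60635 IH) (Lpe (K1.f60422 IH) (Lpr_dt (K1.f46655 IH) (Lpe (K10.f190880 IH) (Lpe (K12.f190885 IH) (Lpr_gf (K12.f227929 IH) (Lpe (f210633 IH) (Lpr_dt (K12.f170691 IH) (Lpe (f170659 IH) (Lpr_df (f240748 IH) (Lpn (LP (LK LD1_c1 LD2_c11 LD3_c59)))))))))))))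
theorem f60637 : Led Lsl_ct (LP (LK LD1_c1 LD2_c20 LD3_c38)) = (LP (LK LD1_c2 LD2_c49 LD3_c4)) :=
  Lre_c IH (LK LD1_c1 LD2_c20 LD3_c38) (LK LD1_c2 LD2_c49 LD3_c4) Lrfl Lrfl
theorem f240772 : Led Lsl_et (LP (LK LD1_c2 LD2_c49 LD3_c4)) = (LP (LK LD1_c2 LD2_c29 LD3_c52)) :=
  Lgr Lrot158 (Lpe (f60637 IH) (Lpr_ef (f240766 IH) (Lpe (f240656 IH) (Lpn (LP (LK LD1_c2 LD2_c29 LD3_c52))))))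
theorem f197461 : Led Lsl_bt (LP (LK LD1_c5 LD2_c46 LD3_c45)) = (LP (LK LD1_c2 LD2_c49 LD3_c4)) :=
  Lre_b IH (LK LD1_c5 LD2_c46 LD3_c45) (LK LD1_c2 LD2_c49 LD3_c4) Lrfl Lrfl
theorem f240692 : Led Lsl_bt (LP (LK LD1_c2 LD2_c29 LD3_c52)) = (LP (LK LD1_c5 LD2_c5 LD3_c5)) :=
  Lre_b IH (LK LD1_c2 LD2_c29 LD3_c52) (LK LD1_c5 LD2_c5 LD3_c5) Lrfl Lrfl
theorem f240774 : Led Lsl_ef (LP (LK LD1_c5 LD2_c46 LD3_c45)) = (LP (LK LD1_c5 LD2_c5 LD3_c5)) :=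
  Lgr Lrot29 (Lpr_bt (f197461 IH) (Lpr_et (f240772 IH) (Lpr_bt (f240692 IH) (Lpn (LP (LK LD1_c5 LD2_c5 LD3_c5))))))
theorem f70004 : Led Lsl_ct (LP (LK LD1_c8 LD2_c45 LD3_c33)) = (LP (LK LD1_c4 LD2_c23 LD3_c51)) :=
  Lre_c IH (LK LD1_c8 LD2_c45 LD3_c33) (LK LD1_c4 LD2_c23 LD3_c51) Lrfl Lrfl
theorem f69955 : Led Lsl_dt (LP (LK LD1_c12 LD2_c6 LD3_c42)) = (LP (LK LD1_c8 LD2_c45 LD3_c33)) :=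
  Lgr Lrot42 (Lpr_df (K2.f69947 IH) (Lpn (LP (LK LD1_c8 LD2_c45 LD3_c33))))
theorem f70012 : Led Lsl_af (LP (LK LD1_c1 LD2_c6 LD3_c22)) = (LP (LK LD1_c0 LD2_c40 LD3_c42)) :=
  Lgr Lrot109 (Lpr_cf (K10.f70008 IH) (Lpe (K10.f70007 IH) (Lpe (f70004 IH) (Lpe (f69955 IH) (Lpe (K2.f37245 IH) (Lpe (K2.f37244 IH) (Lpe (K2.f37243 IH) (Lpr_df (K2.f37237 IH) (Lpr_ft (K2.f37172 IH) (Lpn (LP (LK LD1_c0 LD2_c40 LD3_c42))))))))))))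
theorem f70014 : Led Lsl_gt (LP (LK LD1_c2 LD2_c18 LD3_c42)) = (LP (LK LD1_c1 LD2_c6 LD3_c22)) :=
  Lre_g IH (LK LD1_c2 LD2_c18 LD3_c42) (LK LD1_c1 LD2_c6 LD3_c22) Lrfl Lrfl
theorem f70018 : Led Lsl_gf (LP (LK LD1_c2 LD2_c18 LD3_c42)) = (LP (LK LD1_c1 LD2_c28 LD3_c0)) :=
  Lgr Lrot47 (Lpr_gt (f70014 IH) (Lpr_af (f70012 IH) (Lpe (K2.f37172 IH) (Lpn (LP (LK LD1_c1 LD2_c28 LD3_c0))))))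
theorem f30810 : Led Lsl_et (LP (LK LD1_c1 LD2_c56 LD3_c45)) = (LP (LK LD1_c0 LD2_c55 LD3_c9)) :=
  Lre_e IH (LK LD1_c1 LD2_c56 LD3_c45) (LK LD1_c0 LD2_c55 LD3_c9) Lrfl Lrfl
theorem f197451 : Led Lsl_df (LP (LK LD1_c2 LD2_c18 LD3_c42)) = (LP (LK LD1_c1 LD2_c56 LD3_c45)) :=
  Lgr Lrot168 (Lpr_gf (f70018 IH) (Lpr_df (K2.f37237 IH) (Lpr_et (K2.f69696 IH) (Lpe (K12.f34061 IH) (Lpr_ef (K11.f193470 IH) (Lpr_dt (K12.f6828 IH) (Lpr_gf (K12.f197427 IH) (Lpe (K1.f29185 IH) (Lpr_gf (K12.f30807 IH) (Lpe (f30810 IH) (Lpn (LP (LK LD1_c1 LD2_c56 LD3_c45)))))))))))))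
theorem f197429 : Led Lsl_bf (LP (LK LD1_c0 LD2_c54 LD3_c28)) = (LP (LK LD1_c0 LD2_c55 LD3_c9)) :=
  Lgr Lrot34 (Lpe (K10.f28470 IH) (Lpe (K9.f171774 IH) (Lpr_ct (K1.f28391 IH) (Lpe (K9.f171757 IH) (Lpe (K9.f101338 IH) (Lpe (K0.f9459 IH) (Lpe (K12.f39233 IH) (Lpr_ct (K1.f39196 IH) (Lpe (K11.f101331 IH) (Lpr_cf (K12.f197418 IH) (Lpn (LP (LK LD1_c0 LD2_c55 LD3_c9)))))))))))))
theorem f175008 : Led Lsl_et (LP (LK LD1_c0 LD2_c54 LD3_c28)) = (LP (LK LD1_c1 LD2_c55 LD3_c28)) :=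
  Lre_e IH (LK LD1_c0 LD2_c54 LD3_c28) (LK LD1_c1 LD2_c55 LD3_c28) Lrfl Lrfl
theorem f197433 : Led Lsl_bt (LP (LK LD1_c1 LD2_c55 LD3_c28)) = (LP (LK LD1_c1 LD2_c56 LD3_c45)) :=
  Lgr Lrot119 (Lpe (f175008 IH) (Lpr_bf (f197429 IH) (Lpe (f30810 IH) (Lpn (LP (LK LD1_c1 LD2_c56 LD3_c45))))))
theorem f36304 : Led Lsl_et (LP (LK LD1_c1 LD2_c55 LD3_c28)) = (LP (LK LD1_c0 LD2_c54 LD3_c28)) :=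
  Lre_e IH (LK LD1_c1 LD2_c55 LD3_c28) (LK LD1_c0 LD2_c54 LD3_c28) Lrfl Lrfl
theorem f175002 : Led Lsl_dt (LP (LK LD1_c1 LD2_c55 LD3_c28)) = (LP (LK LD1_c1 LD2_c20 LD3_c38)) :=
  Lgr Lrot37 (Lpr_et (f36304 IH) (Lpr_gt (K12.f39244 IH) (Lpr_dt (K10.f39238 IH) (Lpe (K9.f174984 IH) (Lpe (K9.f56559 IH) (Lpe (K9.f56533 IH) (Lpr_gt (K10.f174998 IH) (Lpr_ef (K1.f60413 IH) (Lpe (K1.f60624 IH) (Lpr_gt (f60635 IH) (Lpn (LP (LK LD1_c1 LD2_c20 LD3_c38)))))))))))))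
theorem f175006 : Led Lsl_df (LP (LK LD1_c1 LD2_c55 LD3_c28)) = (LP (LK LD1_c1 LD2_c20 LD3_c38)) :=
  Lgr Lrot38 (Lpr_dt (f175002 IH) (Lpn (LP (LK LD1_c1 LD2_c20 LD3_c38))))
theorem f197453 : Led Lsl_bt (LP (LK LD1_c2 LD2_c18 LD3_c42)) = (LP (LK LD1_c1 LD2_c20 LD3_c38)) :=
  Lgr Lrot95 (Lpr_df (f197451 IH) (Lpe (f197433 IH) (Lpr_df (f175006 IH) (Lpn (LP (LK LD1_c1 LD2_c20 LD3_c38))))))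
theorem f100965 : Led Lsl_et (LP (LK LD1_c1 LD2_c1 LD3_c47)) = (LP (LK LD1_c0 LD2_c28 LD3_c12)) :=
  Lre_e IH (LK LD1_c1 LD2_c1 LD3_c47) (LK LD1_c0 LD2_c28 LD3_c12) Lrfl Lrfl
theorem f175836 : Led Lsl_gt (LP (LK LD1_c1 LD2_c20 LD3_c37)) = (LP (LK LD1_c1 LD2_c28 LD3_c23)) :=
  Lgr Lrot137 (Lpr_ef (K10.f175827 IH) (Lpr_dt (K10.f175823 IH) (Lpe (K9.f175812 IH) (Lpe (K12.f9439 IH) (Lpr_et (f100965 IH) (Lpe (K12.f39244 IH) (Lpe (f36304 IH) (Lpr_dt (f175002 IH) (Lpe (f60635 IH) (Lpr_df (K1.f60624 IH) (Lpn (LP (LK LD1_c1 LD2_c28 LD3_c23)))))))))))))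
theorem f60514 : Led Lsl_at (LP (LK LD1_c1 LD2_c28 LD3_c5)) = (LP (LK LD1_c1 LD2_c20 LD3_c36)) :=
  Lgr Lrot51 (Lpe (K1.f38658 IH) (Lpr_af (K1.f60501 IH) (Lpe (K1.f56605 IH) (Lpn (LP (LK LD1_c1 LD2_c20 LD3_c36))))))
theorem f60606 : Led Lsl_gt (LP (LK LD1_c2 LD2_c49 LD3_c0)) = (LP (LK LD1_c1 LD2_c20 LD3_c36)) :=
  Lre_g IH (LK LD1_c2 LD2_c49 LD3_c0) (LK LD1_c1 LD2_c20 LD3_c36) Lrfl Lrfl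
theorem f60753 : Led Lsl_gt (LP (LK LD1_c3 LD2_c4 LD3_c6)) = (LP (LK LD1_c2 LD2_c49 LD3_c0)) :=
  Lgr Lrot5 (Lpr_ft (K1.f56470 IH) (Lpr_at (f60514 IH) (Lpe (f60606 IH) (Lpn (LP (LK LD1_c2 LD2_c49 LD3_c0))))))
theorem f197462 : Led Lsl_ct (LP (LK LD1_c2 LD2_c18 LD3_c42)) = (LP (LK LD1_c2 LD2_c49 LD3_c0)) :=
  Lgr Lrot63 (Lpr_bt (f197453 IH) (Lpr_gt (f60634 IH) (Lpe (K10.f60142 IH) (Lpr_ct (K1.f60119 IH) (Lpr_gt (K10.f60159 IH) (Lpe (K10.f175421 IH) (Lpe (K10.f175839 IH) (Lpr_gt (f175836 IH) (Lpe (K1.f60429 IH) (Lpr_gt (f60753 IH) (Lpn (LP (LK LD1_c2 LD2_c49 LD3_c0)))))))))))))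
theorem f197467 : Led Lsl_cf (LP (LK LD1_c2 LD2_c18 LD3_c42)) = (LP (LK LD1_c2 LD2_c49 LD3_c0)) :=
  Lgr Lrot11 (Lpr_ct (f197462 IH) (Lpn (LP (LK LD1_c2 LD2_c49 LD3_c0))))
theorem f60643 : Led Lsl_bt (LP (LK LD1_c2 LD2_c49 LD3_c4)) = (LP (LK LD1_c5 LD2_c46 LD3_c45)) :=
  Lre_b IH (LK LD1_c2 LD2_c49 LD3_c4) (LK LD1_c5 LD2_c46 LD3_c45) Lrfl Lrfl
theorem f60760 : Led Lsl_bt (LP (LK LD1_c5 LD2_c46 LD3_c38)) = (LP (LK LD1_c2 LD2_c49 LD3_c0)) :=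
  Lre_b IH (LK LD1_c5 LD2_c46 LD3_c38) (LK LD1_c2 LD2_c49 LD3_c0) Lrfl Lrfl
theorem f197469 : Led Lsl_ct (LP (LK LD1_c5 LD2_c46 LD3_c45)) = (LP (LK LD1_c5 LD2_c46 LD3_c38)) :=
  Lgr Lrot83 (Lpe (f60643 IH) (Lpe (f60637 IH) (Lpe (f197453 IH) (Lpr_cf (f197467 IH) (Lpe (f60760 IH) (Lpn (LP (LK LD1_c5 LD2_c46 LD3_c38))))))))
theorem f240696 : Led Lsl_bt (LP (LK LD1_c2 LD2_c29 LD3_c54)) = (LP (LK LD1_c5 LD2_c5 LD3_c9)) :=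
  Lre_b IH (LK LD1_c2 LD2_c29 LD3_c54) (LK LD1_c5 LD2_c5 LD3_c9) Lrfl Lrfl
theorem f240682 : Led Lsl_bt (LP (LK LD1_c1 LD2_c11 LD3_c59)) = (LP (LK LD1_c2 LD2_c29 LD3_c51)) :=
  Lre_b IH (LK LD1_c1 LD2_c11 LD3_c59) (LK LD1_c2 LD2_c29 LD3_c51) Lrfl Lrfl
theorem f240663 : Led Lsl_bt (LP (LK LD1_c5 LD2_c5 LD3_c5)) = (LP (LK LD1_c2 LD2_c29 LD3_c52)) :=
  Lre_b IH (LK LD1_c5 LD2_c5 LD3_c5) (LK LD1_c2 LD2_c29 LD3_c52) Lrfl Lrfl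
theorem f240697 : Led Lsl_ct (LP (LK LD1_c5 LD2_c5 LD3_c9)) = (LP (LK LD1_c5 LD2_c5 LD3_c5)) :=
  Lgr Lrot83 (Lpe (f240696 IH) (Lpr_cf (f240694 IH) (Lpe (f240682 IH) (Lpe (f240656 IH) (Lpe (f240663 IH) (Lpn (LP (LK LD1_c5 LD2_c5 LD3_c5))))))))
theorem f240833 : Led Lsl_et (LP (LK LD1_c5 LD2_c46 LD3_c38)) = (LP (LK LD1_c5 LD2_c5 LD3_c9)) :=
  Lgr Lrot158 (Lpe (f197469 IH) (Lpr_ef (f240774 IH) (Lpe (f240697 IH) (Lpn (LP (LK LD1_c5 LD2_c5 LD3_c9))))))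
theorem f240840 : Led Lsl_ef (LP (LK LD1_c5 LD2_c46 LD3_c38)) = (LP (LK LD1_c5 LD2_c5 LD3_c9)) :=
  Lgr Lrot88 (Lpr_et (f240833 IH) (Lpn (LP (LK LD1_c5 LD2_c5 LD3_c9))))
theorem f240844 : Led Lsl_et (LP (LK LD1_c2 LD2_c49 LD3_c0)) = (LP (LK LD1_c2 LD2_c29 LD3_c54)) :=
  Lgr Lrot74 (Lpe (f60760 IH) (Lpr_ef (f240840 IH) (Lpe (f240696 IH) (Lpn (LP (LK LD1_c2 LD2_c29 LD3_c54))))))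
theorem f240853 : Led Lsl_ef (LP (LK LD1_c2 LD2_c18 LD3_c42)) = (LP (LK LD1_c2 LD2_c29 LD3_c51)) :=
  Lgr Lrot28 (Lpr_ct (f197462 IH) (Lpr_et (f240844 IH) (Lpr_ct (f240699 IH) (Lpn (LP (LK LD1_c2 LD2_c29 LD3_c51))))))
theorem f240603 : Led Lsl_et (LP (LK LD1_c1 LD2_c9 LD3_c34)) = (LP (LK LD1_c1 LD2_c57 LD3_c58)) :=
  Lgr Lrot71 (Lpr_df (K12.f216354 IH) (Lpe (K12.f182382 IH) (Lpe (K11.f52249 IH) (Lpe (K11.f182378 IH) (Lpr_df (f240599 IH) (Lpn (LP (LK LD1_c1 LD2_c57 LD3_c58))))))))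
theorem f240895 : Led Lsl_df (LP (LK LD1_c1 LD2_c57 LD3_c26)) = (LP (LK LD1_c2 LD2_c29 LD3_c51)) :=
  Lgr Lrot170 (Lpr_gt (K12.f211592 IH) (Lpe (K12.f216356 IH) (Lpr_et (f240603 IH) (Lpr_gt (f194133 IH) (Lpr_dt (K10.f81105 IH) (Lpr_gt (K10.f194135 IH) (Lpe (K0.f33650 IH) (Lpe (K2.f69702 IH) (Lpe (f70018 IH) (Lpr_ef (f240853 IH) (Lpn (LP (LK LD1_c2 LD2_c29 LD3_c51)))))))))))))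
theorem f204952 : Led Lsl_gt (LP (LK LD1_c1 LD2_c57 LD3_c38)) = (LP (LK LD1_c1 LD2_c12 LD3_c44)) :=
  Lgr Lrot94 (Lpe (f204926 IH) (Lpr_gt (K12.f204930 IH) (Lpr_dt (K12.f36355 IH) (Lpr_gt (K12.f204947 IH) (Lpr_dt (K11.f36943 IH) (Lpe (K11.f36941 IH) (Lpe (K10.f28647 IH) (Lpe (K10.f192347 IH) (Lpe (f182031 IH) (Lpn (LP (LK LD1_c1 LD2_c12 LD3_c44))))))))))))
theorem f216374 : Led Lsl_gt (LP (LK LD1_c0 LD2_c59 LD3_c20)) = (LP (LK LD1_c1 LD2_c12 LD3_c53)) :=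
  Lgr Lrot94 (Lpr_cf (K12.f216367 IH) (Lpr_gt (f211590 IH) (Lpr_dt (K10.f171540 IH) (Lpr_gt (f204952 IH) (Lpr_dt (f182031 IH) (Lpe (K10.f182025 IH) (Lpe (K10.f177599 IH) (Lpe (f201735 IH) (Lpe (f22113 IH) (Lpn (LP (LK LD1_c1 LD2_c12 LD3_c53))))))))))))
theorem f183959 : Led Lsl_gt (LP (LK LD1_c1 LD2_c13 LD3_c36)) = (LP (LK LD1_c0 LD2_c34 LD3_c4)) :=
  Lre_g IH (LK LD1_c1 LD2_c13 LD3_c36) (LK LD1_c0 LD2_c34 LD3_c4) Lrfl Lrfl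
theorem f201654 : Led Lsl_ct (LP (LK LD1_c2 LD2_c33 LD3_c17)) = (LP (LK LD1_c1 LD2_c13 LD3_c36)) :=
  Lre_c IH (LK LD1_c2 LD2_c33 LD3_c17) (LK LD1_c1 LD2_c13 LD3_c36) Lrfl Lrfl
theorem f225022 : Led Lsl_gf (LP (LK LD1_c2 LD2_c33 LD3_c17)) = (LP (LK LD1_c3 LD2_c59 LD3_c58)) :=
  Lgr Lrot147 (Lpr_ct (f201654 IH) (Lpr_gt (f183959 IH) (Lpr_ct (K11.f181106 IH) (Lpe (K11.f181110 IH) (Lpe (K11.f201638 IH) (Lpr_gf (K11.f201636 IH) (Lpr_cf (K0.f31711 IH) (Lpe (K12.f225020 IH) (Lpr_df (K12.f225010 IH) (Lpn (LP (LK LD1_c3 LD2_c59 LD3_c58))))))))))))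
theorem f240897 : Led Lsl_dt (LP (LK LD1_c0 LD2_c58 LD3_c34)) = (LP (LK LD1_c1 LD2_c13 LD3_c36)) :=
  Lgr Lrot27 (Lpr_cf (f239663 IH) (Lpe (f216374 IH) (Lpr_cf (K12.f216367 IH) (Lpe (K12.f211592 IH) (Lpr_df (f240895 IH) (Lpe (f240702 IH) (Lpr_ct (K10.f28728 IH) (Lpe (f225022 IH) (Lpr_ct (f201654 IH) (Lpn (LP (LK LD1_c1 LD2_c13 LD3_c36))))))))))))
theorem f239250 : Led Lsl_gf (LP (LK LD1_c2 LD2_c7 LD3_c47)) = (LP (LK LD1_c2 LD2_c7 LD3_c36)) :=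
  Lgr Lrot129 (Lpr_cf (f239240 IH) (Lpe (f216405 IH) (Lpr_gt (K12.f31537 IH) (Lpe (K8.f31577 IH) (Lpe (K9.f71505 IH) (Lpe (K9.f166367 IH) (Lpe (K9.f3773 IH) (Lpr_bt (K11.f166376 IH) (Lpe (K12.f204981 IH) (Lpr_ct (K1.f31765 IH) (Lpn (LP (LK LD1_c2 LD2_c7 LD3_c36)))))))))))))
theorem f239245 : Led Lsl_dt (LP (LK LD1_c2 LD2_c7 LD3_c47)) = (LP (LK LD1_c4 LD2_c20 LD3_c36)) :=
  Lre_d IH (LK LD1_c2 LD2_c7 LD3_c47) (LK LD1_c4 LD2_c20 LD3_c36) Lrfl Lrfl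
theorem f240918 : Led Lsl_dt (LP (LK LD1_c5 LD2_c12 LD3_c54)) = (LP (LK LD1_c2 LD2_c33 LD3_c17)) :=
  Lre_d IH (LK LD1_c5 LD2_c12 LD3_c54) (LK LD1_c2 LD2_c33 LD3_c17) Lrfl Lrfl
theorem f240919 : Led Lsl_gt (LP (LK LD1_c4 LD2_c20 LD3_c36)) = (LP (LK LD1_c5 LD2_c12 LD3_c54)) :=
  Lgr Lrot49 (Lpe (f239245 IH) (Lpr_gf (f239250 IH) (Lpe (K1.f31765 IH) (Lpe (K9.f166415 IH) (Lpr_dt (K12.f166419 IH) (Lpr_gt (f166420 IH) (Lpr_dt (f240897 IH) (Lpe (f201654 IH) (Lpe (f240918 IH) (Lpn (LP (LK LD1_c5 LD2_c12 LD3_c54))))))))))))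
theorem f31844 : Led Lsl_dt (LP (LK LD1_c4 LD2_c20 LD3_c36)) = (LP (LK LD1_c2 LD2_c7 LD3_c47)) :=
  Lre_d IH (LK LD1_c4 LD2_c20 LD3_c36) (LK LD1_c2 LD2_c7 LD3_c47) Lrfl Lrfl
theorem f204951 : Led Lsl_ct (LP (LK LD1_c5 LD2_c6 LD3_c46)) = (LP (LK LD1_c2 LD2_c30 LD3_c39)) :=
  Lre_c IH (LK LD1_c5 LD2_c6 LD3_c46) (LK LD1_c2 LD2_c30 LD3_c39) Lrfl Lrfl
theorem f231496 : Led Lsl_gt (LP (LK LD1_c10 LD2_c4 LD3_c16)) = (LP (LK LD1_c5 LD2_c6 LD3_c46)) :=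
  Lre_g IH (LK LD1_c10 LD2_c4 LD3_c16) (LK LD1_c5 LD2_c6 LD3_c46) Lrfl Lrfl
theorem f240924 : Led Lsl_cf (LP (LK LD1_c10 LD2_c4 LD3_c16)) = (LP (LK LD1_c5 LD2_c12 LD3_c54)) :=
  Lgr Lrot169 (Lpr_gt (f231496 IH) (Lpr_ct (f204951 IH) (Lpe (f197831 IH) (Lpe (K11.f3772 IH) (Lpr_gf (K11.f201371 IH) (Lpe (K0.f28651 IH) (Lpe (f28657 IH) (Lpe (f31844 IH) (Lpr_gt (f240919 IH) (Lpn (LP (LK LD1_c5 LD2_c12 LD3_c54))))))))))))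
theorem f240910 : Led Lsl_dt (LP (LK LD1_c2 LD2_c33 LD3_c17)) = (LP (LK LD1_c5 LD2_c12 LD3_c54)) :=
  Lre_d IH (LK LD1_c2 LD2_c33 LD3_c17) (LK LD1_c5 LD2_c12 LD3_c54) Lrfl Lrfl
theorem f225015 : Led Lsl_dt (LP (LK LD1_c4 LD2_c20 LD3_c15)) = (LP (LK LD1_c3 LD2_c59 LD3_c58)) :=
  Lgr Lrot42 (Lpr_df (K12.f225010 IH) (Lpn (LP (LK LD1_c3 LD2_c59 LD3_c58))))
theorem f191120 : Led Lsl_gt (LP (LK LD1_c2 LD2_c33 LD3_c13)) = (LP (LK LD1_c5 LD2_c12 LD3_c43)) :=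
  Lre_g IH (LK LD1_c2 LD2_c33 LD3_c13) (LK LD1_c5 LD2_c12 LD3_c43) Lrfl Lrfl
theorem f240938 : Led Lsl_df (LP (LK LD1_c10 LD2_c4 LD3_c16)) = (LP (LK LD1_c5 LD2_c12 LD3_c43)) :=
  Lgr Lrot84 (Lpr_cf (f240924 IH) (Lpe (f240910 IH) (Lpr_gf (f225022 IH) (Lpe (f225015 IH) (Lpe (K12.f34788 IH) (Lpe (K0.f31991 IH) (Lpe (K11.f201733 IH) (Lpr_dt (K11.f171677 IH) (Lpr_gt (f191120 IH) (Lpn (LP (LK LD1_c5 LD2_c12 LD3_c43))))))))))))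
theorem f28959 : Led Lsl_ct (LP (LK LD1_c4 LD2_c3 LD3_c34)) = (LP (LK LD1_c1 LD2_c58 LD3_c45)) :=
  Lre_c IH (LK LD1_c4 LD2_c3 LD3_c34) (LK LD1_c1 LD2_c58 LD3_c45) Lrfl Lrfl
theorem f240949 : Led Lsl_dt (LP (LK LD1_c5 LD2_c6 LD3_c46)) = (LP (LK LD1_c4 LD2_c3 LD3_c34)) :=
  Lgr Lrot105 (Lpe (f231496 IH) (Lpr_df (f240938 IH) (Lpe (f191120 IH) (Lpe (K11.f171678 IH) (Lpr_gt (f171662 IH) (Lpe (f225589 IH) (Lpr_gt (f28841 IH) (Lpr_dt (K11.f28139 IH) (Lpe (f28959 IH) (Lpn (LP (LK LD1_c4 LD2_c3 LD3_c34))))))))))))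
theorem f239493 : Led Lsl_cf (LP (LK LD1_c5 LD2_c12 LD3_c52)) = (LP (LK LD1_c10 LD2_c4 LD3_c15)) :=
  Lgr Lrot11 (Lpr_ct (f239489 IH) (Lpn (LP (LK LD1_c10 LD2_c4 LD3_c15))))
theorem f69700 : Led Lsl_ef (LP (LK LD1_c3 LD2_c3 LD3_c52)) = (LP (LK LD1_c1 LD2_c57 LD3_c46)) :=
  Lgr Lrot28 (Lpr_ct (K2.f37246 IH) (Lpr_et (K2.f69696 IH) (Lpr_ct (K0.f33676 IH) (Lpn (LP (LK LD1_c1 LD2_c57 LD3_c46))))))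
theorem f240614 : Led Lsl_gf (LP (LK LD1_c4 LD2_c20 LD3_c36)) = (LP (LK LD1_c5 LD2_c12 LD3_c52)) :=
  Lgr Lrot145 (Lpe (f239245 IH) (Lpr_et (f240607 IH) (Lpe (f240586 IH) (Lpe (f193415 IH) (Lpr_gt (f240579 IH) (Lpe (K0.f33677 IH) (Lpe (f69700 IH) (Lpe (K10.f193766 IH) (Lpe (f212017 IH) (Lpr_dt (f192637 IH) (Lpn (LP (LK LD1_c5 LD2_c12 LD3_c52)))))))))))))
theorem f28964 : Led Lsl_ct (LP (LK LD1_c1 LD2_c58 LD3_c45)) = (LP (LK LD1_c4 LD2_c3 LD3_c34)) :=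
  Lre_c IH (LK LD1_c1 LD2_c58 LD3_c45) (LK LD1_c4 LD2_c3 LD3_c34) Lrfl Lrfl
theorem f27896 : Led Lsl_ct (LP (LK LD1_c2 LD2_c7 LD3_c41)) = (LP (LK LD1_c1 LD2_c0 LD3_c56)) :=
  Lre_c IH (LK LD1_c2 LD2_c7 LD3_c41) (LK LD1_c1 LD2_c0 LD3_c56) Lrfl Lrfl
theorem f192332 : Led Lsl_gt (LP (LK LD1_c4 LD2_c3 LD3_c34)) = (LP (LK LD1_c2 LD2_c7 LD3_c41)) :=
  Lgr Lrot150 (Lpe (f28964 IH) (Lpe (K11.f31189 IH) (Lpe (K11.f31139 IH) (Lpr_gt (K10.f192264 IH) (Lpr_ct (K10.f164159 IH) (Lpr_gt (K10.f28619 IH) (Lpr_ct (K0.f27889 IH) (Lpe (f27885 IH) (Lpe (f27896 IH) (Lpn (LP (LK LD1_c2 LD2_c7 LD3_c41))))))))))))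
theorem f182595 : Led Lsl_dt (LP (LK LD1_c4 LD2_c6 LD3_c54)) = (LP (LK LD1_c8 LD2_c14 LD3_c20)) :=
  Lre_d IH (LK LD1_c4 LD2_c6 LD3_c54) (LK LD1_c8 LD2_c14 LD3_c20) Lrfl Lrfl
theorem f240960 : Led Lsl_ct (LP (LK LD1_c4 LD2_c20 LD3_c36)) = (LP (LK LD1_c8 LD2_c14 LD3_c20)) :=
  Lgr Lrot151 (Lpr_gf (f240614 IH) (Lpr_cf (f239493 IH) (Lpe (f211560 IH) (Lpr_dt (f240949 IH) (Lpr_gt (f192332 IH) (Lpr_ct (f27896 IH) (Lpe (K10.f190212 IH) (Lpr_ct (K9.f182588 IH) (Lpr_dt (f182595 IH) (Lpn (LP (LK LD1_c8 LD2_c14 LD3_c20))))))))))))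
theorem f33184 : Led Lsl_dt (LP (LK LD1_c1 LD2_c0 LD3_c55)) = (LP (LK LD1_c2 LD2_c7 LD3_c39)) :=
  Lre_d IH (LK LD1_c1 LD2_c0 LD3_c55) (LK LD1_c2 LD2_c7 LD3_c39) Lrfl Lrfl
theorem f239287 : Led Lsl_ct (LP (LK LD1_c2 LD2_c7 LD3_c39)) = (LP (LK LD1_c4 LD2_c20 LD3_c23)) :=
  Lre_c IH (LK LD1_c2 LD2_c7 LD3_c39) (LK LD1_c4 LD2_c20 LD3_c23) Lrfl Lrfl
theorem f239296 : Led Lsl_dt (LP (LK LD1_c8 LD2_c38 LD3_c37)) = (LP (LK LD1_c4 LD2_c20 LD3_c23)) :=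
  Lre_d IH (LK LD1_c8 LD2_c38 LD3_c37) (LK LD1_c4 LD2_c20 LD3_c23) Lrfl Lrfl
theorem f239297 : Led Lsl_gf (LP (LK LD1_c8 LD2_c38 LD3_c37)) = (LP (LK LD1_c4 LD2_c25 LD3_c11)) :=
  Lgr Lrot143 (Lpr_dt (f239296 IH) (Lpe (f239287 IH) (Lpe (f33184 IH) (Lpr_gf (f239294 IH) (Lpe (K10.f28486 IH) (Lpe (f190220 IH) (Lpe (f182594 IH) (Lpe (K9.f182589 IH) (Lpe (f201426 IH) (Lpn (LP (LK LD1_c4 LD2_c25 LD3_c11))))))))))))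
theorem f240661 : Led Lsl_ct (LP (LK LD1_c8 LD2_c38 LD3_c37)) = (LP (LK LD1_c4 LD2_c20 LD3_c41)) :=
  Lgr Lrot151 (Lpr_gf (f239297 IH) (Lpe (f201437 IH) (Lpr_gf (f231461 IH) (Lpr_dt (K11.f181110 IH) (Lpr_gt (K12.f201869 IH) (Lpr_ct (K12.f211518 IH) (Lpr_gt (K12.f225563 IH) (Lpr_ct (K12.f190262 IH) (Lpr_dt (f240649 IH) (Lpn (LP (LK LD1_c4 LD2_c20 LD3_c41))))))))))))
theorem f241018 : Led Lsl_gt (LP (LK LD1_c8 LD2_c38 LD3_c37)) = (LP (LK LD1_c4 LD2_c20 LD3_c50)) :=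
  Lgr Lrot180 (Lpr_ct (f240661 IH) (Lpe (f31791 IH) (Lpr_dt (K0.f31768 IH) (Lpe (f239250 IH) (Lpr_dt (f239245 IH) (Lpr_ct (f240960 IH) (Lpe (f182595 IH) (Lpe (K9.f182591 IH) (Lpe (K11.f31283 IH) (Lpn (LP (LK LD1_c4 LD2_c20 LD3_c50))))))))))))
theorem f191126 : Led Lsl_ct (LP (LK LD1_c5 LD2_c12 LD3_c39)) = (LP (LK LD1_c2 LD2_c33 LD3_c11)) :=
  Lre_c IH (LK LD1_c5 LD2_c12 LD3_c39) (LK LD1_c2 LD2_c33 LD3_c11) Lrfl Lrfl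
theorem f241023 : Led Lsl_gt (LP (LK LD1_c4 LD2_c20 LD3_c23)) = (LP (LK LD1_c5 LD2_c12 LD3_c39)) :=
  Lgr Lrot9 (Lpe (f239296 IH) (Lpr_gt (f241018 IH) (Lpr_ct (K11.f201861 IH) (Lpr_gt (K11.f181111 IH) (Lpr_ct (K11.f201633 IH) (Lpr_df (K11.f201659 IH) (Lpe (K11.f187905 IH) (Lpr_gf (f227231 IH) (Lpe (f191126 IH) (Lpn (LP (LK LD1_c5 LD2_c12 LD3_c39))))))))))))
theorem f165476 : Led Lsl_gt (LP (LK LD1_c5 LD2_c6 LD3_c45)) = (LP (LK LD1_c2 LD2_c30 LD3_c39)) :=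
  Lre_g IH (LK LD1_c5 LD2_c6 LD3_c45) (LK LD1_c2 LD2_c30 LD3_c39) Lrfl Lrfl
theorem f201376 : Led Lsl_ct (LP (LK LD1_c10 LD2_c4 LD3_c13)) = (LP (LK LD1_c5 LD2_c6 LD3_c45)) :=
  Lre_c IH (LK LD1_c10 LD2_c4 LD3_c13) (LK LD1_c5 LD2_c6 LD3_c45) Lrfl Lrfl
theorem f31582 : Led Lsl_dt (LP (LK LD1_c1 LD2_c59 LD3_c17)) = (LP (LK LD1_c4 LD2_c4 LD3_c35)) :=
  Lre_d IH (LK LD1_c1 LD2_c59 LD3_c17) (LK LD1_c4 LD2_c4 LD3_c35) Lrfl Lrfl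
theorem f194095 : Led Lsl_ct (LP (LK LD1_c4 LD2_c4 LD3_c35)) = (LP (LK LD1_c8 LD2_c9 LD3_c61)) :=
  Lre_c IH (LK LD1_c4 LD2_c4 LD3_c35) (LK LD1_c8 LD2_c9 LD3_c61) Lrfl Lrfl
theorem f31299 : Led Lsl_bf (LP (LK LD1_c16 LD2_c12 LD3_c27)) = (LP (LK LD1_c16 LD2_c12 LD3_c61)) :=
  Lgr Lrot24 (Lpr_bt (K10.f31294 IH) (Lpn (LP (LK LD1_c16 LD2_c12 LD3_c61))))
theorem f31307 : Led Lsl_et (LP (LK LD1_c16 LD2_c12 LD3_c27)) = (LP (LK LD1_c8 LD2_c39 LD3_c20)) :=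
  Lre_e IH (LK LD1_c16 LD2_c12 LD3_c27) (LK LD1_c8 LD2_c39 LD3_c20) Lrfl Lrfl
theorem f31309 : Led Lsl_bt (LP (LK LD1_c8 LD2_c39 LD3_c20)) = (LP (LK LD1_c8 LD2_c39 LD3_c38)) :=
  Lgr Lrot119 (Lpe (f31307 IH) (Lpr_bf (f31299 IH) (Lpe (K10.f31308 IH) (Lpn (LP (LK LD1_c8 LD2_c39 LD3_c38))))))
theorem f31316 : Led Lsl_dt (LP (LK LD1_c16 LD2_c12 LD3_c41)) = (LP (LK LD1_c8 LD2_c39 LD3_c20)) :=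
  Lre_d IH (LK LD1_c16 LD2_c12 LD3_c41) (LK LD1_c8 LD2_c39 LD3_c20) Lrfl Lrfl
theorem f31317 : Led Lsl_dt (LP (LK LD1_c8 LD2_c39 LD3_c38)) = (LP (LK LD1_c16 LD2_c13 LD3_c13)) :=
  Lre_d IH (LK LD1_c8 LD2_c39 LD3_c38) (LK LD1_c16 LD2_c13 LD3_c13) Lrfl Lrfl
theorem f31318 : Led Lsl_bf (LP (LK LD1_c16 LD2_c12 LD3_c41)) = (LP (LK LD1_c16 LD2_c13 LD3_c13)) :=
  Lgr Lrot93 (Lpr_dt (f31316 IH) (Lpr_bt (f31309 IH) (Lpr_dt (f31317 IH) (Lpn (LP (LK LD1_c16 LD2_c13 LD3_c13))))))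
theorem f31335 : Led Lsl_at (LP (LK LD1_c16 LD2_c12 LD3_c41)) = (LP (LK LD1_c8 LD2_c39 LD3_c21)) :=
  Lre_a IH (LK LD1_c16 LD2_c12 LD3_c41) (LK LD1_c8 LD2_c39 LD3_c21) Lrfl Lrfl
theorem f31336 : Led Lsl_bt (LP (LK LD1_c8 LD2_c39 LD3_c21)) = (LP (LK LD1_c4 LD2_c20 LD3_c50)) :=
  Lre_b IH (LK LD1_c8 LD2_c39 LD3_c21) (LK LD1_c4 LD2_c20 LD3_c50) Lrfl Lrfl
theorem f31337 : Led Lsl_at (LP (LK LD1_c8 LD2_c39 LD3_c39)) = (LP (LK LD1_c16 LD2_c13 LD3_c13)) :=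
  Lre_a IH (LK LD1_c8 LD2_c39 LD3_c39) (LK LD1_c16 LD2_c13 LD3_c13) Lrfl Lrfl
theorem f31338 : Led Lsl_bt (LP (LK LD1_c4 LD2_c20 LD3_c59)) = (LP (LK LD1_c8 LD2_c39 LD3_c39)) :=
  Lre_b IH (LK LD1_c4 LD2_c20 LD3_c59) (LK LD1_c8 LD2_c39 LD3_c39) Lrfl Lrfl
theorem f31339 : Led Lsl_at (LP (LK LD1_c4 LD2_c20 LD3_c50)) = (LP (LK LD1_c4 LD2_c20 LD3_c59)) :=
  Lgr Lrot67 (Lpe (f31336 IH) (Lpe (f31335 IH) (Lpr_bf (f31318 IH) (Lpe (f31337 IH) (Lpe (f31338 IH) (Lpn (LP (LK LD1_c4 LD2_c20 LD3_c59))))))))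
theorem f191289 : Led Lsl_gt (LP (LK LD1_c6 LD2_c7 LD3_c13)) = (LP (LK LD1_c4 LD2_c20 LD3_c59)) :=
  Lgr Lrot46 (Lpr_gf (f191287 IH) (Lpe (K11.f36956 IH) (Lpr_at (f31339 IH) (Lpn (LP (LK LD1_c4 LD2_c20 LD3_c59))))))
theorem f28965 : Led Lsl_dt (LP (LK LD1_c4 LD2_c20 LD3_c59)) = (LP (LK LD1_c2 LD2_c7 LD3_c60)) :=
  Lre_d IH (LK LD1_c4 LD2_c20 LD3_c59) (LK LD1_c2 LD2_c7 LD3_c60) Lrfl Lrfl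
theorem f189150 : Led Lsl_ct (LP (LK LD1_c1 LD2_c18 LD3_c19)) = (LP (LK LD1_c2 LD2_c43 LD3_c58)) :=
  Lre_c IH (LK LD1_c1 LD2_c18 LD3_c19) (LK LD1_c2 LD2_c43 LD3_c58) Lrfl Lrfl
theorem f233733 : Led Lsl_ef (LP (LK LD1_c4 LD2_c9 LD3_c16)) = (LP (LK LD1_c2 LD2_c43 LD3_c58)) :=
  Lgr Lrot28 (Lpr_ct (f233711 IH) (Lpr_et (f189156 IH) (Lpr_ct (f189150 IH) (Lpn (LP (LK LD1_c2 LD2_c43 LD3_c58))))))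
theorem f233737 : Led Lsl_et (LP (LK LD1_c4 LD2_c9 LD3_c16)) = (LP (LK LD1_c2 LD2_c43 LD3_c58)) :=
  Lgr Lrot87 (Lpr_ef (f233733 IH) (Lpn (LP (LK LD1_c2 LD2_c43 LD3_c58))))
theorem f167272 : Led Lsl_dt (LP (LK LD1_c4 LD2_c9 LD3_c16)) = (LP (LK LD1_c2 LD2_c1 LD3_c60)) :=
  Lre_d IH (LK LD1_c4 LD2_c9 LD3_c16) (LK LD1_c2 LD2_c1 LD3_c60) Lrfl Lrfl
theorem f228934 : Led Lsl_gf (LP (LK LD1_c2 LD2_c1 LD3_c60)) = (LP (LK LD1_c1 LD2_c1 LD3_c15)) :=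
  Lgr Lrot147 (Lpr_ct (K9.f53422 IH) (Lpr_gt (K9.f167238 IH) (Lpr_ct (K0.f1717 IH) (Lpe (K0.f1553 IH) (Lpr_cf (K0.f1711 IH) (Lpe (K0.f1621 IH) (Lpe (K12.f167329 IH) (Lpr_gf (K12.f228930 IH) (Lpe (K1.f29074 IH) (Lpn (LP (LK LD1_c1 LD2_c1 LD3_c15))))))))))))
theorem f184417 : Led Lsl_et (LP (LK LD1_c2 LD2_c8 LD3_c11)) = (LP (LK LD1_c1 LD2_c1 LD3_c14)) :=
  Lre_e IH (LK LD1_c2 LD2_c8 LD3_c11) (LK LD1_c1 LD2_c1 LD3_c14) Lrfl Lrfl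
theorem f184416 : Led Lsl_dt (LP (LK LD1_c2 LD2_c8 LD3_c11)) = (LP (LK LD1_c4 LD2_c21 LD3_c21)) :=
  Lre_d IH (LK LD1_c2 LD2_c8 LD3_c11) (LK LD1_c4 LD2_c21 LD3_c21) Lrfl Lrfl
theorem f189391 : Led Lsl_dt (LP (LK LD1_c1 LD2_c18 LD3_c14)) = (LP (LK LD1_c2 LD2_c23 LD3_c15)) :=
  Lgr Lrot42 (Lpr_df (f189134 IH) (Lpn (LP (LK LD1_c2 LD2_c23 LD3_c15))))
theorem f184368 : Led Lsl_et (LP (LK LD1_c1 LD2_c1 LD3_c14)) = (LP (LK LD1_c2 LD2_c8 LD3_c11)) :=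
  Lre_e IH (LK LD1_c1 LD2_c1 LD3_c14) (LK LD1_c2 LD2_c8 LD3_c11) Lrfl Lrfl
theorem f184369 : Led Lsl_cf (LP (LK LD1_c2 LD2_c23 LD3_c15)) = (LP (LK LD1_c2 LD2_c8 LD3_c11)) :=
  Lgr Lrot39 (Lpr_et (f1623 IH) (Lpr_ct (f184242 IH) (Lpr_et (f184368 IH) (Lpn (LP (LK LD1_c2 LD2_c8 LD3_c11))))))
theorem f184413 : Led Lsl_dt (LP (LK LD1_c4 LD2_c21 LD3_c21)) = (LP (LK LD1_c2 LD2_c8 LD3_c11)) :=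
  Lre_d IH (LK LD1_c4 LD2_c21 LD3_c21) (LK LD1_c2 LD2_c8 LD3_c11) Lrfl Lrfl
theorem f199322 : Led Lsl_gt (LP (LK LD1_c2 LD2_c36 LD3_c51)) = (LP (LK LD1_c4 LD2_c21 LD3_c21)) :=
  Lgr Lrot49 (Lpe (K12.f42473 IH) (Lpr_gf (K12.f199186 IH) (Lpr_cf (K12.f53655 IH) (Lpe (K10.f189097 IH) (Lpr_dt (f177956 IH) (Lpr_gt (f178050 IH) (Lpr_dt (f189391 IH) (Lpr_cf (f184369 IH) (Lpe (f184413 IH) (Lpn (LP (LK LD1_c4 LD2_c21 LD3_c21))))))))))))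
theorem f233739 : Led Lsl_gf (LP (LK LD1_c2 LD2_c36 LD3_c52)) = (LP (LK LD1_c2 LD2_c43 LD3_c58)) :=
  Lgr Lrot141 (Lpe (K12.f42452 IH) (Lpr_dt (K12.f42473 IH) (Lpr_gt (f199322 IH) (Lpe (f184416 IH) (Lpr_et (f184417 IH) (Lpr_gt (f29028 IH) (Lpr_dt (f28812 IH) (Lpe (f228934 IH) (Lpe (f167272 IH) (Lpr_et (f233737 IH) (Lpn (LP (LK LD1_c2 LD2_c43 LD3_c58)))))))))))))
theorem f51280 : Led Lsl_ct (LP (LK LD1_c4 LD2_c3 LD3_c11)) = (LP (LK LD1_c1 LD2_c58 LD3_c35)) :=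
  Lre_c IH (LK LD1_c4 LD2_c3 LD3_c11) (LK LD1_c1 LD2_c58 LD3_c35) Lrfl Lrfl
theorem f54382 : Led Lsl_ft (LP (LK LD1_c4 LD2_c15 LD3_c6)) = (LP (LK LD1_c2 LD2_c4 LD3_c56)) :=
  Lre_f IH (LK LD1_c4 LD2_c15 LD3_c6) (LK LD1_c2 LD2_c4 LD3_c56) Lrfl Lrfl
theorem f54373 : Led Lsl_af (LP (LK LD1_c2 LD2_c7 LD3_c56)) = (LP (LK LD1_c2 LD2_c4 LD3_c56)) :=
  Lgr Lrot50 (Lpe (K12.f48127 IH) (Lpr_at (K10.f48045 IH) (Lpr_et (K11.f54371 IH) (Lpn (LP (LK LD1_c2 LD2_c4 LD3_c56))))))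
theorem f194630 : Led Lsl_gf (LP (LK LD1_c2 LD2_c7 LD3_c56)) = (LP (LK LD1_c2 LD2_c37 LD3_c54)) :=
  Lgr Lrot76 (Lpr_af (f54373 IH) (Lpe (f54382 IH) (Lpr_gt (K10.f194628 IH) (Lpn (LP (LK LD1_c2 LD2_c37 LD3_c54))))))
theorem f195955 : Led Lsl_gf (LP (LK LD1_c4 LD2_c3 LD3_c11)) = (LP (LK LD1_c4 LD2_c50 LD3_c45)) :=
  Lgr Lrot126 (Lpe (K10.f30985 IH) (Lpr_bt (K10.f194642 IH) (Lpe (f194630 IH) (Lpr_ct (K10.f28664 IH) (Lpe (K11.f183591 IH) (Lpe (K9.f182697 IH) (Lpr_bt (K11.f182603 IH) (Lpr_gt (K11.f195948 IH) (Lpe (K10.f189293 IH) (Lpr_ct (K10.f27590 IH) (Lpn (LP (LK LD1_c4 LD2_c50 LD3_c45)))))))))))))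
theorem f233741 : Led Lsl_gf (LP (LK LD1_c2 LD2_c23 LD3_c10)) = (LP (LK LD1_c2 LD2_c4 LD3_c33)) :=
  Lgr Lrot147 (Lpr_ct (K10.f27590 IH) (Lpe (f195955 IH) (Lpr_ct (f51280 IH) (Lpr_df (f194691 IH) (Lpr_cf (K10.f171998 IH) (Lpr_gf (f233739 IH) (Lpe (f189150 IH) (Lpe (f189253 IH) (Lpe (f216469 IH) (Lpn (LP (LK LD1_c2 LD2_c4 LD3_c33))))))))))))
theorem f189991 : Led Lsl_bf (LP (LK LD1_c2 LD2_c4 LD3_c33)) = (LP (LK LD1_c2 LD2_c7 LD3_c27)) :=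
  Lgr Lrot24 (Lpr_bt (f189986 IH) (Lpn (LP (LK LD1_c2 LD2_c7 LD3_c27))))
theorem f233746 : Led Lsl_gt (LP (LK LD1_c2 LD2_c7 LD3_c60)) = (LP (LK LD1_c4 LD2_c19 LD3_c56)) :=
  Lgr Lrot65 (Lpe (K10.f28707 IH) (Lpr_bt (K10.f31179 IH) (Lpr_gf (f194630 IH) (Lpe (K10.f194642 IH) (Lpr_ct (K10.f30985 IH) (Lpr_gf (f195955 IH) (Lpe (K10.f27590 IH) (Lpr_gf (f233741 IH) (Lpr_bf (f189991 IH) (Lpr_ct (f50793 IH) (Lpn (LP (LK LD1_c4 LD2_c19 LD3_c56)))))))))))))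
theorem f240731 : Led Lsl_df (LP (LK LD1_c8 LD2_c9 LD3_c61)) = (LP (LK LD1_c4 LD2_c19 LD3_c56)) :=
  Lgr Lrot84 (Lpe (f194095 IH) (Lpe (f31582 IH) (Lpe (f194093 IH) (Lpe (K0.f28644 IH) (Lpe (K12.f225020 IH) (Lpr_cf (f240710 IH) (Lpr_gt (f191289 IH) (Lpr_dt (f28965 IH) (Lpr_gt (f233746 IH) (Lpn (LP (LK LD1_c4 LD2_c19 LD3_c56))))))))))))
theorem f240962 : Led Lsl_gf (LP (LK LD1_c10 LD2_c4 LD3_c13)) = (LP (LK LD1_c8 LD2_c9 LD3_c61)) :=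
  Lgr Lrot179 (Lpr_ct (f201376 IH) (Lpr_gt (f165476 IH) (Lpr_ct (f204954 IH) (Lpr_dt (f240949 IH) (Lpe (f28964 IH) (Lpe (K11.f31189 IH) (Lpe (f31192 IH) (Lpr_gf (f189871 IH) (Lpe (f240731 IH) (Lpn (LP (LK LD1_c8 LD2_c9 LD3_c61))))))))))))
theorem f210629 : Led Lsl_gt (LP (LK LD1_c0 LD2_c31 LD3_c37)) = (LP (LK LD1_c0 LD2_c56 LD3_c38)) :=
  Lgr Lrot139 (Lpe (K12.f170691 IH) (Lpr_gf (K10.f193346 IH) (Lpr_ef (K1.f35805 IH) (Lpe (K1.f35466 IH) (Lpr_gf (K11.f210618 IH) (Lpe (K10.f56078 IH) (Lpe (K10.f198035 IH) (Lpe (K10.f80927 IH) (Lpe (K12.f204899 IH) (Lpr_dt (K12.f201313 IH) (Lpn (LP (LK LD1_c0 LD2_c56 LD3_c38)))))))))))))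
theorem f47053 : Led Lsl_et (LP (LK LD1_c0 LD2_c5 LD3_c19)) = (LP (LK LD1_c0 LD2_c11 LD3_c26)) :=
  Lre_e IH (LK LD1_c0 LD2_c5 LD3_c19) (LK LD1_c0 LD2_c11 LD3_c26) Lrfl Lrfl
theorem f201322 : Led Lsl_df (LP (LK LD1_c1 LD2_c11 LD3_c58)) = (LP (LK LD1_c0 LD2_c56 LD3_c38)) :=
  Lgr Lrot132 (Lpe (K12.f164980 IH) (Lpe (K11.f31646 IH) (Lpr_gf (K11.f201311 IH) (Lpe (K0.f28727 IH) (Lpe (K0.f31059 IH) (Lpr_gf (K0.f9568 IH) (Lpr_df (K0.f27276 IH) (Lpr_et (f47053 IH) (Lpe (K9.f47063 IH) (Lpe (f80932 IH) (Lpn (LP (LK LD1_c0 LD2_c56 LD3_c38)))))))))))))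
theorem f205070 : Led Lsl_dt (LP (LK LD1_c5 LD2_c5 LD3_c4)) = (LP (LK LD1_c2 LD2_c29 LD3_c50)) :=
  Lre_d IH (LK LD1_c5 LD2_c5 LD3_c4) (LK LD1_c2 LD2_c29 LD3_c50) Lrfl Lrfl
theorem f210631 : Led Lsl_gt (LP (LK LD1_c4 LD2_c4 LD3_c35)) = (LP (LK LD1_c5 LD2_c5 LD3_c4)) :=
  Lgr Lrot49 (Lpe (f31582 IH) (Lpe (f194093 IH) (Lpe (K0.f28632 IH) (Lpe (K10.f193346 IH) (Lpr_dt (K12.f170691 IH) (Lpr_gt (f210629 IH) (Lpe (f201322 IH) (Lpe (K12.f204902 IH) (Lpe (f205070 IH) (Lpn (LP (LK LD1_c5 LD2_c5 LD3_c4))))))))))))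
theorem f240967 : Led Lsl_dt (LP (LK LD1_c10 LD2_c4 LD3_c13)) = (LP (LK LD1_c5 LD2_c12 LD3_c39)) :=
  Lgr Lrot57 (Lpr_gf (f240962 IH) (Lpe (f194095 IH) (Lpr_gt (f210631 IH) (Lpr_dt (f205070 IH) (Lpe (f239299 IH) (Lpr_dt (f239303 IH) (Lpe (f231514 IH) (Lpe (f192187 IH) (Lpe (f192185 IH) (Lpn (LP (LK LD1_c5 LD2_c12 LD3_c39))))))))))))
theorem f240985 : Led Lsl_df (LP (LK LD1_c10 LD2_c4 LD3_c13)) = (LP (LK LD1_c5 LD2_c12 LD3_c39)) :=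
  Lgr Lrot38 (Lpr_dt (f240967 IH) (Lpn (LP (LK LD1_c5 LD2_c12 LD3_c39))))
theorem f201377 : Led Lsl_ct (LP (LK LD1_c5 LD2_c6 LD3_c45)) = (LP (LK LD1_c10 LD2_c4 LD3_c13)) :=
  Lre_c IH (LK LD1_c5 LD2_c6 LD3_c45) (LK LD1_c10 LD2_c4 LD3_c13) Lrfl Lrfl
theorem f171681 : Led Lsl_gt (LP (LK LD1_c2 LD2_c33 LD3_c20)) = (LP (LK LD1_c1 LD2_c13 LD3_c37)) :=
  Lre_g IH (LK LD1_c2 LD2_c33 LD3_c20) (LK LD1_c1 LD2_c13 LD3_c37) Lrfl Lrfl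
theorem f239502 : Led Lsl_dt (LP (LK LD1_c2 LD2_c33 LD3_c20)) = (LP (LK LD1_c5 LD2_c6 LD3_c45)) :=
  Lgr Lrot6 (Lpr_gt (f171681 IH) (Lpr_ct (K11.f171680 IH) (Lpr_gt (K10.f185151 IH) (Lpr_ct (K10.f185152 IH) (Lpe (f192638 IH) (Lpr_cf (f239493 IH) (Lpe (f211560 IH) (Lpe (f204954 IH) (Lpe (f165476 IH) (Lpn (LP (LK LD1_c5 LD2_c6 LD3_c45))))))))))))
theorem f241031 : Led Lsl_gt (LP (LK LD1_c2 LD2_c7 LD3_c31)) = (LP (LK LD1_c2 LD2_c33 LD3_c20)) :=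
  Lgr Lrot49 (Lpe (K11.f180135 IH) (Lpe (K11.f201435 IH) (Lpe (f201408 IH) (Lpe (f239297 IH) (Lpr_dt (f239296 IH) (Lpr_gt (f241023 IH) (Lpe (f240985 IH) (Lpe (f201377 IH) (Lpe (f239502 IH) (Lpn (LP (LK LD1_c2 LD2_c33 LD3_c20))))))))))))
theorem f180139 : Led Lsl_et (LP (LK LD1_c2 LD2_c7 LD3_c4)) = (LP (LK LD1_c2 LD2_c7 LD3_c31)) :=
  Lgr Lrot87 (Lpr_ef (K11.f180127 IH) (Lpn (LP (LK LD1_c2 LD2_c7 LD3_c31))))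
theorem f42996 : Led Lsl_ct (LP (LK LD1_c4 LD2_c23 LD3_c44)) = (LP (LK LD1_c8 LD2_c45 LD3_c23)) :=
  Lre_c IH (LK LD1_c4 LD2_c23 LD3_c44) (LK LD1_c8 LD2_c45 LD3_c23) Lrfl Lrfl
theorem f101014 : Led Lsl_at (LP (LK LD1_c6 LD2_c13 LD3_c11)) = (LP (LK LD1_c4 LD2_c23 LD3_c44)) :=
  Lgr Lrot107 (Lpr_cf (K9.f101003 IH) (Lpr_af (K12.f42985 IH) (Lpe (f42996 IH) (Lpn (LP (LK LD1_c4 LD2_c23 LD3_c44))))))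
theorem f101072 : Led Lsl_ft (LP (LK LD1_c3 LD2_c3 LD3_c20)) = (LP (LK LD1_c6 LD2_c13 LD3_c11)) :=
  Lre_f IH (LK LD1_c3 LD2_c3 LD3_c20) (LK LD1_c6 LD2_c13 LD3_c11) Lrfl Lrfl
theorem f101073 : Led Lsl_gt (LP (LK LD1_c3 LD2_c3 LD3_c20)) = (LP (LK LD1_c6 LD2_c13 LD3_c8)) :=
  Lre_g IH (LK LD1_c3 LD2_c3 LD3_c20) (LK LD1_c6 LD2_c13 LD3_c8) Lrfl Lrfl
theorem f101380 : Led Lsl_gt (LP (LK LD1_c6 LD2_c13 LD3_c8)) = (LP (LK LD1_c4 LD2_c23 LD3_c44)) :=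
  Lgr Lrot46 (Lpe (f101073 IH) (Lpr_ft (f101072 IH) (Lpr_at (f101014 IH) (Lpn (LP (LK LD1_c4 LD2_c23 LD3_c44))))))
theorem f205382 : Led Lsl_et (LP (LK LD1_c5 LD2_c12 LD3_c57)) = (LP (LK LD1_c2 LD2_c33 LD3_c20)) :=
  Lre_e IH (LK LD1_c5 LD2_c12 LD3_c57) (LK LD1_c2 LD2_c33 LD3_c20) Lrfl Lrfl
theorem f241039 : Led Lsl_df (LP (LK LD1_c6 LD2_c13 LD3_c8)) = (LP (LK LD1_c5 LD2_c12 LD3_c57)) :=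
  Lgr Lrot170 (Lpr_gt (f101380 IH) (Lpe (K11.f42997 IH) (Lpr_et (K11.f39200 IH) (Lpr_gt (f181324 IH) (Lpr_dt (f181316 IH) (Lpr_gt (f227938 IH) (Lpe (f180133 IH) (Lpr_et (f180139 IH) (Lpr_gt (f241031 IH) (Lpe (f205382 IH) (Lpn (LP (LK LD1_c5 LD2_c12 LD3_c57)))))))))))))
theorem f241042 : Led Lsl_dt (LP (LK LD1_c6 LD2_c13 LD3_c8)) = (LP (LK LD1_c5 LD2_c12 LD3_c57)) :=
  Lgr Lrot42 (Lpr_df (f241039 IH) (Lpn (LP (LK LD1_c5 LD2_c12 LD3_c57))))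
theorem f37972 : Led Lsl_gt (LP (LK LD1_c0 LD2_c40 LD3_c38)) = (LP (LK LD1_c1 LD2_c27 LD3_c49)) :=
  Lre_g IH (LK LD1_c0 LD2_c40 LD3_c38) (LK LD1_c1 LD2_c27 LD3_c49) Lrfl Lrfl
theorem f59151 : Led Lsl_dt (LP (LK LD1_c1 LD2_c27 LD3_c49)) = (LP (LK LD1_c3 LD2_c3 LD3_c41)) :=
  Lre_d IH (LK LD1_c1 LD2_c27 LD3_c49) (LK LD1_c3 LD2_c3 LD3_c41) Lrfl Lrfl
theorem f241075 : Led Lsl_cf (LP (LK LD1_c3 LD2_c3 LD3_c41)) = (LP (LK LD1_c5 LD2_c12 LD3_c57)) :=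
  Lgr Lrot14 (Lpe (f59151 IH) (Lpe (f37972 IH) (Lpr_df (K10.f36738 IH) (Lpe (K10.f193754 IH) (Lpr_ct (K9.f175888 IH) (Lpr_gt (K9.f80910 IH) (Lpr_dt (K9.f69365 IH) (Lpr_gt (f101073 IH) (Lpr_dt (f241042 IH) (Lpn (LP (LK LD1_c5 LD2_c12 LD3_c57))))))))))))
theorem f59150 : Led Lsl_gt (LP (LK LD1_c3 LD2_c3 LD3_c41)) = (LP (LK LD1_c3 LD2_c4 LD3_c38)) :=
  Lre_g IH (LK LD1_c3 LD2_c3 LD3_c41) (LK LD1_c3 LD2_c4 LD3_c38) Lrfl Lrfl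
theorem f241077 : Led Lsl_gf (LP (LK LD1_c6 LD2_c4 LD3_c9)) = (LP (LK LD1_c5 LD2_c12 LD3_c57)) :=
  Lgr Lrot144 (Lpr_dt (K12.f210959 IH) (Lpr_gt (K12.f101402 IH) (Lpr_dt (K12.f101401 IH) (Lpe (K9.f175810 IH) (Lpe (K10.f192658 IH) (Lpr_gf (K12.f196238 IH) (Lpe (K12.f69683 IH) (Lpe (f59150 IH) (Lpr_cf (f241075 IH) (Lpn (LP (LK LD1_c5 LD2_c12 LD3_c57))))))))))))
theorem f164294 : Led Lsl_ct (LP (LK LD1_c6 LD2_c4 LD3_c9)) = (LP (LK LD1_c2 LD2_c58 LD3_c9)) :=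
  Lre_c IH (LK LD1_c6 LD2_c4 LD3_c9) (LK LD1_c2 LD2_c58 LD3_c9) Lrfl Lrfl
theorem f227854 : Led Lsl_dt (LP (LK LD1_c5 LD2_c0 LD3_c33)) = (LP (LK LD1_c8 LD2_c2 LD3_c41)) :=
  Lgr Lrot6 (Lpr_gt (K12.f227849 IH) (Lpr_ct (K12.f196243 IH) (Lpe (K12.f196238 IH) (Lpr_ct (K12.f26041 IH) (Lpe (K12.f198006 IH) (Lpe (K12.f101044 IH) (Lpr_gf (K12.f198150 IH) (Lpe (K1.f29226 IH) (Lpe (K12.f29235 IH) (Lpn (LP (LK LD1_c8 LD2_c2 LD3_c41))))))))))))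
theorem f101054 : Led Lsl_ct (LP (LK LD1_c6 LD2_c13 LD3_c10)) = (LP (LK LD1_c3 LD2_c3 LD3_c20)) :=
  Lre_c IH (LK LD1_c6 LD2_c13 LD3_c10) (LK LD1_c3 LD2_c3 LD3_c20) Lrfl Lrfl
theorem f101055 : Led Lsl_af (LP (LK LD1_c6 LD2_c13 LD3_c10)) = (LP (LK LD1_c4 LD2_c26 LD3_c61)) :=
  Lgr Lrot68 (Lpr_ct (f101054 IH) (Lpr_at (K9.f101040 IH) (Lpr_ct (K9.f43029 IH) (Lpn (LP (LK LD1_c4 LD2_c26 LD3_c61))))))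
theorem f101106 : Led Lsl_gt (LP (LK LD1_c12 LD2_c5 LD3_c17)) = (LP (LK LD1_c6 LD2_c13 LD3_c10)) :=
  Lre_g IH (LK LD1_c12 LD2_c5 LD3_c17) (LK LD1_c6 LD2_c13 LD3_c10) Lrfl Lrfl
theorem f42995 : Led Lsl_ft (LP (LK LD1_c8 LD2_c45 LD3_c23)) = (LP (LK LD1_c4 LD2_c26 LD3_c61)) :=
  Lre_f IH (LK LD1_c8 LD2_c45 LD3_c23) (LK LD1_c4 LD2_c26 LD3_c61) Lrfl Lrfl
theorem f101323 : Led Lsl_gf (LP (LK LD1_c12 LD2_c5 LD3_c17)) = (LP (LK LD1_c8 LD2_c45 LD3_c23)) :=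
  Lgr Lrot47 (Lpr_gt (f101106 IH) (Lpr_af (f101055 IH) (Lpe (f42995 IH) (Lpn (LP (LK LD1_c8 LD2_c45 LD3_c23))))))
theorem f241079 : Led Lsl_cf (LP (LK LD1_c8 LD2_c2 LD3_c41)) = (LP (LK LD1_c12 LD2_c5 LD3_c17)) :=
  Lgr Lrot99 (Lpe (f227854 IH) (Lpe (K12.f175818 IH) (Lpr_gf (K11.f198347 IH) (Lpe (f164294 IH) (Lpr_gf (f241077 IH) (Lpe (f241042 IH) (Lpr_gt (f101380 IH) (Lpr_ct (f42996 IH) (Lpe (f101323 IH) (Lpn (LP (LK LD1_c12 LD2_c5 LD3_c17))))))))))))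
theorem f30799 : Led Lsl_gt (LP (LK LD1_c4 LD2_c0 LD3_c58)) = (LP (LK LD1_c8 LD2_c2 LD3_c40)) :=
  Lre_g IH (LK LD1_c4 LD2_c0 LD3_c58) (LK LD1_c8 LD2_c2 LD3_c40) Lrfl Lrfl
theorem f36763 : Led Lsl_gf (LP (LK LD1_c6 LD2_c13 LD3_c41)) = (LP (LK LD1_c8 LD2_c2 LD3_c40)) :=
  Lgr Lrot76 (Lpr_af (K1.f36754 IH) (Lpe (K1.f29233 IH) (Lpr_gt (f30799 IH) (Lpn (LP (LK LD1_c8 LD2_c2 LD3_c40))))))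
theorem f101097 : Led Lsl_dt (LP (LK LD1_c6 LD2_c13 LD3_c10)) = (LP (LK LD1_c8 LD2_c45 LD3_c23)) :=
  Lgr Lrot60 (Lpr_ff (K12.f101090 IH) (Lpe (K9.f42994 IH) (Lpe (f42995 IH) (Lpn (LP (LK LD1_c8 LD2_c45 LD3_c23))))))
theorem f69382 : Led Lsl_gt (LP (LK LD1_c6 LD2_c13 LD3_c10)) = (LP (LK LD1_c12 LD2_c5 LD3_c16)) :=
  Lre_g IH (LK LD1_c6 LD2_c13 LD3_c10) (LK LD1_c12 LD2_c5 LD3_c16) Lrfl Lrfl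
theorem f241185 : Led Lsl_cf (LP (LK LD1_c8 LD2_c2 LD3_c40)) = (LP (LK LD1_c12 LD2_c5 LD3_c16)) :=
  Lgr Lrot169 (Lpe (f36763 IH) (Lpr_ct (K1.f36736 IH) (Lpr_df (K1.f36742 IH) (Lpe (K1.f29226 IH) (Lpe (K12.f29235 IH) (Lpr_cf (f241079 IH) (Lpr_gf (f101323 IH) (Lpe (f101097 IH) (Lpr_gt (f69382 IH) (Lpn (LP (LK LD1_c12 LD2_c5 LD3_c16))))))))))))
theorem f175821 : Led Lsl_dt (LP (LK LD1_c2 LD2_c27 LD3_c61)) = (LP (LK LD1_c5 LD2_c0 LD3_c32)) :=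
  Lre_d IH (LK LD1_c2 LD2_c27 LD3_c61) (LK LD1_c5 LD2_c0 LD3_c32) Lrfl Lrfl
theorem f196251 : Led Lsl_ct (LP (LK LD1_c5 LD2_c0 LD3_c32)) = (LP (LK LD1_c9 LD2_c51 LD3_c24)) :=
  Lre_c IH (LK LD1_c5 LD2_c0 LD3_c32) (LK LD1_c9 LD2_c51 LD3_c24) Lrfl Lrfl
theorem f101024 : Led Lsl_ft (LP (LK LD1_c6 LD2_c13 LD3_c10)) = (LP (LK LD1_c8 LD2_c51 LD3_c51)) :=
  Lgr Lrot4 (Lpe (K12.f69381 IH) (Lpe (K9.f100972 IH) (Lpr_cf (K9.f101003 IH) (Lpn (LP (LK LD1_c8 LD2_c51 LD3_c51))))))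
theorem f101358 : Led Lsl_gt (LP (LK LD1_c12 LD2_c5 LD3_c16)) = (LP (LK LD1_c8 LD2_c45 LD3_c23)) :=
  Lgr Lrot46 (Lpe (f69382 IH) (Lpr_ft (f101024 IH) (Lpr_at (K12.f42980 IH) (Lpn (LP (LK LD1_c8 LD2_c45 LD3_c23))))))
theorem f16287 : Led Lsl_dt (LP (LK LD1_c8 LD2_c50 LD3_c59)) = (LP (LK LD1_c16 LD2_c32 LD3_c34)) :=
  Lre_d IH (LK LD1_c8 LD2_c50 LD3_c59) (LK LD1_c16 LD2_c32 LD3_c34) Lrfl Lrfl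
theorem f39331 : Led Lsl_dt (LP (LK LD1_c26 LD2_c21 LD3_c32)) = (LP (LK LD1_c16 LD2_c23 LD3_c30)) :=
  Lre_d IH (LK LD1_c26 LD2_c21 LD3_c32) (LK LD1_c16 LD2_c23 LD3_c30) Lrfl Lrfl
theorem f42977 : Led Lsl_at (LP (LK LD1_c26 LD2_c30 LD3_c46)) = (LP (LK LD1_c26 LD2_c21 LD3_c32)) :=
  Lgr Lrot51 (Lpe (K9.f16527 IH) (Lpr_af (K9.f42961 IH) (Lpe (f39331 IH) (Lpn (LP (LK LD1_c26 LD2_c21 LD3_c32))))))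
theorem f43035 : Led Lsl_ef (LP (LK LD1_c16 LD2_c32 LD3_c34)) = (LP (LK LD1_c26 LD2_c21 LD3_c32)) :=
  Lgr Lrot20 (Lpe (K1.f16496 IH) (Lpr_et (K9.f16240 IH) (Lpr_at (f42977 IH) (Lpn (LP (LK LD1_c26 LD2_c21 LD3_c32))))))
theorem f43040 : Led Lsl_et (LP (LK LD1_c16 LD2_c32 LD3_c34)) = (LP (LK LD1_c26 LD2_c21 LD3_c32)) :=
  Lgr Lrot87 (Lpr_ef (f43035 IH) (Lpn (LP (LK LD1_c26 LD2_c21 LD3_c32))))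
theorem f43021 : Led Lsl_et (LP (LK LD1_c16 LD2_c23 LD3_c30)) = (LP (LK LD1_c8 LD2_c45 LD3_c23)) :=
  Lre_e IH (LK LD1_c16 LD2_c23 LD3_c30) (LK LD1_c8 LD2_c45 LD3_c23) Lrfl Lrfl
theorem f101086 : Led Lsl_df (LP (LK LD1_c6 LD2_c13 LD3_c10)) = (LP (LK LD1_c8 LD2_c45 LD3_c23)) :=
  Lgr Lrot70 (Lpr_et (K12.f101070 IH) (Lpr_dt (f16287 IH) (Lpr_et (f43040 IH) (Lpr_dt (f39331 IH) (Lpr_et (f43021 IH) (Lpn (LP (LK LD1_c8 LD2_c45 LD3_c23))))))))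
theorem f241192 : Led Lsl_df (LP (LK LD1_c9 LD2_c51 LD3_c24)) = (LP (LK LD1_c12 LD2_c5 LD3_c16)) :=
  Lgr Lrot84 (Lpe (f196251 IH) (Lpe (f175821 IH) (Lpr_gf (K10.f196236 IH) (Lpe (K1.f36724 IH) (Lpr_gf (f36763 IH) (Lpr_cf (f241185 IH) (Lpr_gt (f101358 IH) (Lpe (f101086 IH) (Lpr_gt (f69382 IH) (Lpn (LP (LK LD1_c12 LD2_c5 LD3_c16))))))))))))
theorem f42993 : Led Lsl_ct (LP (LK LD1_c8 LD2_c45 LD3_c23)) = (LP (LK LD1_c4 LD2_c23 LD3_c44)) :=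
  Lre_c IH (LK LD1_c8 LD2_c45 LD3_c23) (LK LD1_c4 LD2_c23 LD3_c44) Lrfl Lrfl
theorem f227901 : Led Lsl_cf (LP (LK LD1_c12 LD2_c5 LD3_c16)) = (LP (LK LD1_c8 LD2_c2 LD3_c40)) :=
  Lgr Lrot169 (Lpr_gt (f101358 IH) (Lpr_ct (f42993 IH) (Lpe (K11.f42997 IH) (Lpe (K9.f42998 IH) (Lpr_gf (K12.f101489 IH) (Lpe (K12.f101491 IH) (Lpr_gf (K12.f227891 IH) (Lpe (K1.f29222 IH) (Lpr_gt (f30799 IH) (Lpn (LP (LK LD1_c8 LD2_c2 LD3_c40))))))))))))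
theorem f198102 : Led Lsl_dt (LP (LK LD1_c8 LD2_c51 LD3_c38)) = (LP (LK LD1_c8 LD2_c51 LD3_c46)) :=
  Lgr Lrot42 (Lpr_df (K12.f198092 IH) (Lpn (LP (LK LD1_c8 LD2_c51 LD3_c46))))
theorem f175804 : Led Lsl_gt (LP (LK LD1_c2 LD2_c27 LD3_c59)) = (LP (LK LD1_c5 LD2_c0 LD3_c29)) :=
  Lre_g IH (LK LD1_c2 LD2_c27 LD3_c59) (LK LD1_c5 LD2_c0 LD3_c29) Lrfl Lrfl
theorem f227490 : Led Lsl_ef (LP (LK LD1_c5 LD2_c0 LD3_c29)) = (LP (LK LD1_c2 LD2_c52 LD3_c17)) :=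
  Lgr Lrot17 (Lpe (f175804 IH) (Lpr_ef (K10.f192656 IH) (Lpr_dt (K10.f192596 IH) (Lpe (f211590 IH) (Lpe (K12.f216356 IH) (Lpr_gf (K12.f31587 IH) (Lpr_ef (K1.f36209 IH) (Lpr_dt (K1.f35625 IH) (Lpr_gf (K12.f227477 IH) (Lpe (f227470 IH) (Lpn (LP (LK LD1_c2 LD2_c52 LD3_c17)))))))))))))
theorem f227492 : Led Lsl_et (LP (LK LD1_c5 LD2_c0 LD3_c29)) = (LP (LK LD1_c2 LD2_c52 LD3_c17)) :=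
  Lgr Lrot87 (Lpr_ef (f227490 IH) (Lpn (LP (LK LD1_c2 LD2_c52 LD3_c17))))
theorem f80449 : Led Lsl_ct (LP (LK LD1_c0 LD2_c11 LD3_c10)) = (LP (LK LD1_c0 LD2_c5 LD3_c43)) :=
  Lgr Lrot176 (Lpe (K4.f29560 IH) (Lpe (K4.f59626 IH) (Lpr_df (K4.f80442 IH) (Lpr_cf (K4.f70551 IH) (Lpe (K12.f35826 IH) (Lpe (K1.f23390 IH) (Lpe (K1.f16636 IH) (Lpe (K1.f36602 IH) (Lpe (K1.f36611 IH) (Lpe (K1.f36615 IH) (Lpe (K2.f38004 IH) (Lpr_cf (K2.f70229 IH) (Lpe (K2.f70224 IH) (Lpe (K4.f59353 IH) (Lpe (K1.f16640 IH) (Lpn (LP (LK LD1_c0 LD2_c5 LD3_c43))))))))))))))))))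
theorem f205263 : Led Lsl_gf (LP (LK LD1_c0 LD2_c11 LD3_c12)) = (LP (LK LD1_c0 LD2_c8 LD3_c12)) :=
  Lgr Lrot147 (Lpe (K1.f36622 IH) (Lpe (K4.f80458 IH) (Lpr_ct (f80449 IH) (Lpe (K1.f16642 IH) (Lpe (K2.f59354 IH) (Lpe (K2.f70216 IH) (Lpe (K2.f59174 IH) (Lpr_gf (K11.f205255 IH) (Lpe (K11.f80815 IH) (Lpn (LP (LK LD1_c0 LD2_c8 LD3_c12))))))))))))
theorem f38135 : Led Lsl_dt (LP (LK LD1_c0 LD2_c18 LD3_c12)) = (LP (LK LD1_c0 LD2_c8 LD3_c12)) :=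
  Lre_d IH (LK LD1_c0 LD2_c18 LD3_c12) (LK LD1_c0 LD2_c8 LD3_c12) Lrfl Lrfl
theorem f204820 : Led Lsl_gt (LP (LK LD1_c1 LD2_c27 LD3_c55)) = (LP (LK LD1_c0 LD2_c40 LD3_c40)) :=
  Lre_g IH (LK LD1_c1 LD2_c27 LD3_c55) (LK LD1_c0 LD2_c40 LD3_c40) Lrfl Lrfl
theorem f204817 : Led Lsl_et (LP (LK LD1_c3 LD2_c3 LD3_c48)) = (LP (LK LD1_c1 LD2_c27 LD3_c55)) :=
  Lre_e IH (LK LD1_c3 LD2_c3 LD3_c48) (LK LD1_c1 LD2_c27 LD3_c55) Lrfl Lrfl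
theorem f210910 : Led Lsl_df (LP (LK LD1_c5 LD2_c0 LD3_c29)) = (LP (LK LD1_c3 LD2_c3 LD3_c48)) :=
  Lgr Lrot132 (Lpe (f175804 IH) (Lpe (K10.f192653 IH) (Lpr_gf (K12.f196232 IH) (Lpe (K1.f29227 IH) (Lpr_dt (K1.f29230 IH) (Lpr_gf (f205263 IH) (Lpe (f38135 IH) (Lpr_et (K11.f80808 IH) (Lpe (f204820 IH) (Lpe (f204817 IH) (Lpn (LP (LK LD1_c3 LD2_c3 LD3_c48)))))))))))))
theorem f210912 : Led Lsl_dt (LP (LK LD1_c5 LD2_c0 LD3_c29)) = (LP (LK LD1_c3 LD2_c3 LD3_c48)) :=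
  Lgr Lrot42 (Lpr_df (f210910 IH) (Lpn (LP (LK LD1_c3 LD2_c3 LD3_c48))))
theorem f27264 : Led Lsl_et (LP (LK LD1_c0 LD2_c17 LD3_c55)) = (LP (LK LD1_c0 LD2_c39 LD3_c54)) :=
  Lre_e IH (LK LD1_c0 LD2_c17 LD3_c55) (LK LD1_c0 LD2_c39 LD3_c54) Lrfl Lrfl
theorem f34057 : Led Lsl_et (LP (LK LD1_c1 LD2_c58 LD3_c5)) = (LP (LK LD1_c0 LD2_c55 LD3_c57)) :=
  Lre_e IH (LK LD1_c1 LD2_c58 LD3_c5) (LK LD1_c0 LD2_c55 LD3_c57) Lrfl Lrfl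
theorem f34058 : Led Lsl_dt (LP (LK LD1_c1 LD2_c58 LD3_c5)) = (LP (LK LD1_c1 LD2_c56 LD3_c42)) :=
  Lre_d IH (LK LD1_c1 LD2_c58 LD3_c5) (LK LD1_c1 LD2_c56 LD3_c42) Lrfl Lrfl
theorem f227479 : Led Lsl_dt (LP (LK LD1_c1 LD2_c22 LD3_c9)) = (LP (LK LD1_c2 LD2_c52 LD3_c17)) :=
  Lre_d IH (LK LD1_c1 LD2_c22 LD3_c9) (LK LD1_c2 LD2_c52 LD3_c17) Lrfl Lrfl
theorem f227482 : Led Lsl_gf (LP (LK LD1_c1 LD2_c56 LD3_c42)) = (LP (LK LD1_c2 LD2_c52 LD3_c17)) :=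
  Lgr Lrot134 (Lpe (f34058 IH) (Lpr_et (f34057 IH) (Lpr_gt (K12.f34047 IH) (Lpr_ef (K2.f69758 IH) (Lpr_dt (K1.f59685 IH) (Lpe (K0.f34695 IH) (Lpe (K1.f27214 IH) (Lpr_et (f27264 IH) (Lpr_gt (K12.f227473 IH) (Lpr_dt (f227479 IH) (Lpn (LP (LK LD1_c2 LD2_c52 LD3_c17)))))))))))))
theorem f101535 : Led Lsl_dt (LP (LK LD1_c1 LD2_c27 LD3_c43)) = (LP (LK LD1_c3 LD2_c3 LD3_c34)) :=
  Lre_d IH (LK LD1_c1 LD2_c27 LD3_c43) (LK LD1_c3 LD2_c3 LD3_c34) Lrfl Lrfl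
theorem f227496 : Led Lsl_gf (LP (LK LD1_c3 LD2_c3 LD3_c48)) = (LP (LK LD1_c3 LD2_c3 LD3_c34)) :=
  Lgr Lrot134 (Lpe (f210912 IH) (Lpr_et (f227492 IH) (Lpe (f227482 IH) (Lpe (K12.f30822 IH) (Lpr_dt (K11.f30818 IH) (Lpe (K11.f30816 IH) (Lpe (K1.f29185 IH) (Lpr_et (K1.f29206 IH) (Lpe (K10.f193749 IH) (Lpr_dt (f101535 IH) (Lpn (LP (LK LD1_c3 LD2_c3 LD3_c34)))))))))))))
theorem f204803 : Led Lsl_gt (LP (LK LD1_c0 LD2_c37 LD3_c51)) = (LP (LK LD1_c1 LD2_c6 LD3_c34)) :=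
  Lgr Lrot46 (Lpr_gf (K11.f169780 IH) (Lpr_ft (K11.f169782 IH) (Lpr_at (K11.f204799 IH) (Lpn (LP (LK LD1_c1 LD2_c6 LD3_c34))))))
theorem f204807 : Led Lsl_gt (LP (LK LD1_c1 LD2_c4 LD3_c2)) = (LP (LK LD1_c0 LD2_c41 LD3_c0)) :=
  Lgr Lrot150 (Lpe (K10.f20789 IH) (Lpe (K9.f20769 IH) (Lpe (K6.f21202 IH) (Lpr_gt (K9.f22118 IH) (Lpr_ct (K11.f22122 IH) (Lpr_gt (f204803 IH) (Lpr_ct (K11.f59045 IH) (Lpr_df (K11.f58995 IH) (Lpe (K11.f59037 IH) (Lpn (LP (LK LD1_c0 LD2_c41 LD3_c0))))))))))))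
theorem f36425 : Led Lsl_bf (LP (LK LD1_c0 LD2_c13 LD3_c22)) = (LP (LK LD1_c0 LD2_c28 LD3_c14)) :=
  Lgr Lrot93 (Lpe (K1.f25919 IH) (Lpr_bt (K12.f25922 IH) (Lpr_dt (K1.f36419 IH) (Lpn (LP (LK LD1_c0 LD2_c28 LD3_c14))))))
theorem f36430 : Led Lsl_ct (LP (LK LD1_c0 LD2_c28 LD3_c14)) = (LP (LK LD1_c1 LD2_c1 LD3_c52)) :=
  Lre_c IH (LK LD1_c0 LD2_c28 LD3_c14) (LK LD1_c1 LD2_c1 LD3_c52) Lrfl Lrfl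
theorem f36440 : Led Lsl_gt (LP (LK LD1_c2 LD2_c9 LD3_c29)) = (LP (LK LD1_c1 LD2_c1 LD3_c52)) :=
  Lre_g IH (LK LD1_c2 LD2_c9 LD3_c29) (LK LD1_c1 LD2_c1 LD3_c52) Lrfl Lrfl
theorem f59074 : Led Lsl_gt (LP (LK LD1_c0 LD2_c40 LD3_c50)) = (LP (LK LD1_c1 LD2_c27 LD3_c55)) :=
  Lre_g IH (LK LD1_c0 LD2_c40 LD3_c50) (LK LD1_c1 LD2_c27 LD3_c55) Lrfl Lrfl
theorem f204812 : Led Lsl_cf (LP (LK LD1_c2 LD2_c9 LD3_c29)) = (LP (LK LD1_c1 LD2_c27 LD3_c55)) :=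
  Lgr Lrot125 (Lpr_gt (f36440 IH) (Lpe (f36430 IH) (Lpe (f36425 IH) (Lpr_gt (K10.f25948 IH) (Lpe (K10.f198323 IH) (Lpr_ct (K10.f20789 IH) (Lpr_gt (f204807 IH) (Lpe (K11.f59051 IH) (Lpr_bt (K11.f59048 IH) (Lpr_gt (f59074 IH) (Lpn (LP (LK LD1_c1 LD2_c27 LD3_c55)))))))))))))
theorem f204816 : Led Lsl_et (LP (LK LD1_c2 LD2_c9 LD3_c29)) = (LP (LK LD1_c4 LD2_c24 LD3_c9)) :=
  Lre_e IH (LK LD1_c2 LD2_c9 LD3_c29) (LK LD1_c4 LD2_c24 LD3_c9) Lrfl Lrfl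
theorem f204818 : Led Lsl_ct (LP (LK LD1_c4 LD2_c24 LD3_c9)) = (LP (LK LD1_c3 LD2_c3 LD3_c48)) :=
  Lgr Lrot15 (Lpe (f204816 IH) (Lpr_cf (f204812 IH) (Lpe (f204817 IH) (Lpn (LP (LK LD1_c3 LD2_c3 LD3_c48))))))
theorem f204821 : Led Lsl_cf (LP (LK LD1_c4 LD2_c24 LD3_c9)) = (LP (LK LD1_c3 LD2_c3 LD3_c48)) :=
  Lgr Lrot11 (Lpr_ct (f204818 IH) (Lpn (LP (LK LD1_c3 LD2_c3 LD3_c48))))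
theorem f36671 : Led Lsl_dt (LP (LK LD1_c4 LD2_c24 LD3_c9)) = (LP (LK LD1_c8 LD2_c46 LD3_c1)) :=
  Lre_d IH (LK LD1_c4 LD2_c24 LD3_c9) (LK LD1_c8 LD2_c46 LD3_c1) Lrfl Lrfl
theorem f204824 : Led Lsl_ct (LP (LK LD1_c16 LD2_c24 LD3_c15)) = (LP (LK LD1_c8 LD2_c46 LD3_c1)) :=
  Lre_c IH (LK LD1_c16 LD2_c24 LD3_c15) (LK LD1_c8 LD2_c46 LD3_c1) Lrfl Lrfl
theorem f69372 : Led Lsl_et (LP (LK LD1_c2 LD2_c48 LD3_c61)) = (LP (LK LD1_c5 LD2_c46 LD3_c37)) :=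
  Lre_e IH (LK LD1_c2 LD2_c48 LD3_c61) (LK LD1_c5 LD2_c46 LD3_c37) Lrfl Lrfl
theorem f193969 : Led Lsl_ct (LP (LK LD1_c5 LD2_c46 LD3_c37)) = (LP (LK LD1_c3 LD2_c3 LD3_c34)) :=
  Lgr Lrot15 (Lpe (f69372 IH) (Lpr_cf (K10.f193785 IH) (Lpr_ef (K10.f101532 IH) (Lpn (LP (LK LD1_c3 LD2_c3 LD3_c34))))))
theorem f69377 : Led Lsl_dt (LP (LK LD1_c3 LD2_c3 LD3_c20)) = (LP (LK LD1_c1 LD2_c27 LD3_c33)) :=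
  Lre_d IH (LK LD1_c3 LD2_c3 LD3_c20) (LK LD1_c1 LD2_c27 LD3_c33) Lrfl Lrfl
theorem f198349 : Led Lsl_gf (LP (LK LD1_c5 LD2_c46 LD3_c37)) = (LP (LK LD1_c6 LD2_c4 LD3_c9)) :=
  Lgr Lrot144 (Lpr_dt (K11.f69367 IH) (Lpr_gt (K11.f69366 IH) (Lpr_dt (f69377 IH) (Lpe (K9.f69378 IH) (Lpr_df (K10.f59613 IH) (Lpr_gf (K9.f175814 IH) (Lpe (K10.f175823 IH) (Lpr_gf (K11.f198347 IH) (Lpe (f164294 IH) (Lpn (LP (LK LD1_c6 LD2_c4 LD3_c9))))))))))))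
theorem f227500 : Led Lsl_gf (LP (LK LD1_c16 LD2_c24 LD3_c15)) = (LP (LK LD1_c8 LD2_c51 LD3_c38)) :=
  Lgr Lrot104 (Lpr_ct (f204824 IH) (Lpe (f36671 IH) (Lpr_cf (f204821 IH) (Lpr_gf (f227496 IH) (Lpe (f193969 IH) (Lpr_gf (f198349 IH) (Lpr_df (K12.f210957 IH) (Lpr_gt (K12.f101402 IH) (Lpr_ct (K12.f192769 IH) (Lpn (LP (LK LD1_c8 LD2_c51 LD3_c38))))))))))))
theorem f241203 : Led Lsl_gf (LP (LK LD1_c5 LD2_c0 LD3_c32)) = (LP (LK LD1_c8 LD2_c46 LD3_c1)) :=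
  Lgr Lrot104 (Lpr_ct (f196251 IH) (Lpr_df (f241192 IH) (Lpr_cf (f227901 IH) (Lpe (f30799 IH) (Lpe (K1.f29223 IH) (Lpe (K12.f198028 IH) (Lpe (f198102 IH) (Lpe (f227500 IH) (Lpr_ct (f204824 IH) (Lpn (LP (LK LD1_c8 LD2_c46 LD3_c1))))))))))))
theorem f241200 : Led Lsl_gt (LP (LK LD1_c9 LD2_c51 LD3_c24)) = (LP (LK LD1_c18 LD2_c2 LD3_c34)) :=
  Lre_g IH (LK LD1_c9 LD2_c51 LD3_c24) (LK LD1_c18 LD2_c2 LD3_c34) Lrfl Lrfl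
theorem f36890 : Led Lsl_ct (LP (LK LD1_c0 LD2_c40 LD3_c38)) = (LP (LK LD1_c1 LD2_c27 LD3_c48)) :=
  Lre_c IH (LK LD1_c0 LD2_c40 LD3_c38) (LK LD1_c1 LD2_c27 LD3_c48) Lrfl Lrfl
theorem f80936 : Led Lsl_ct (LP (LK LD1_c2 LD2_c10 LD3_c39)) = (LP (LK LD1_c1 LD2_c2 LD3_c21)) :=
  Lre_c IH (LK LD1_c2 LD2_c10 LD3_c39) (LK LD1_c1 LD2_c2 LD3_c21) Lrfl Lrfl
theorem f101361 : Led Lsl_ct (LP (LK LD1_c4 LD2_c27 LD3_c3)) = (LP (LK LD1_c2 LD2_c10 LD3_c40)) :=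
  Lre_c IH (LK LD1_c4 LD2_c27 LD3_c3) (LK LD1_c2 LD2_c10 LD3_c40) Lrfl Lrfl
theorem f227498 : Led Lsl_gt (LP (LK LD1_c4 LD2_c24 LD3_c9)) = (LP (LK LD1_c4 LD2_c27 LD3_c3)) :=
  Lgr Lrot150 (Lpr_cf (f204821 IH) (Lpr_gf (f227496 IH) (Lpe (f101535 IH) (Lpr_gt (K10.f193754 IH) (Lpr_ct (f36890 IH) (Lpe (K12.f193747 IH) (Lpr_ct (f80936 IH) (Lpe (K12.f80940 IH) (Lpe (f101361 IH) (Lpn (LP (LK LD1_c4 LD2_c27 LD3_c3))))))))))))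
theorem f241210 : Led Lsl_ct (LP (LK LD1_c18 LD2_c2 LD3_c34)) = (LP (LK LD1_c12 LD2_c5 LD3_c6)) :=
  Lgr Lrot110 (Lpe (f241200 IH) (Lpe (f196251 IH) (Lpr_gf (f241203 IH) (Lpe (f36671 IH) (Lpr_gt (f227498 IH) (Lpr_ct (f101361 IH) (Lpr_gt (K10.f80927 IH) (Lpr_ct (K10.f101421 IH) (Lpr_df (K12.f229373 IH) (Lpn (LP (LK LD1_c12 LD2_c5 LD3_c6))))))))))))
theorem f241197 : Led Lsl_dt (LP (LK LD1_c9 LD2_c51 LD3_c24)) = (LP (LK LD1_c12 LD2_c5 LD3_c16)) :=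
  Lgr Lrot42 (Lpr_df (f241192 IH) (Lpn (LP (LK LD1_c12 LD2_c5 LD3_c16))))
theorem f69369 : Led Lsl_ct (LP (LK LD1_c6 LD2_c13 LD3_c9)) = (LP (LK LD1_c12 LD2_c5 LD3_c14)) :=
  Lre_c IH (LK LD1_c6 LD2_c13 LD3_c9) (LK LD1_c12 LD2_c5 LD3_c14) Lrfl Lrfl
theorem f229377 : Led Lsl_ct (LP (LK LD1_c6 LD2_c13 LD3_c6)) = (LP (LK LD1_c12 LD2_c5 LD3_c7)) :=
  Lre_c IH (LK LD1_c6 LD2_c13 LD3_c6) (LK LD1_c12 LD2_c5 LD3_c7) Lrfl Lrfl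
theorem f241222 : Led Lsl_dt (LP (LK LD1_c12 LD2_c5 LD3_c14)) = (LP (LK LD1_c12 LD2_c5 LD3_c7)) :=
  Lgr Lrot27 (Lpe (f69369 IH) (Lpr_gf (K11.f101328 IH) (Lpe (f42993 IH) (Lpe (f101358 IH) (Lpe (f241197 IH) (Lpr_gt (f241200 IH) (Lpr_ct (f241210 IH) (Lpr_gt (K12.f101353 IH) (Lpr_ct (f229377 IH) (Lpn (LP (LK LD1_c12 LD2_c5 LD3_c7))))))))))))
theorem f197920 : Led Lsl_dt (LP (LK LD1_c4 LD2_c26 LD3_c60)) = (LP (LK LD1_c6 LD2_c14 LD3_c5)) :=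
  Lgr Lrot42 (Lpr_df (K10.f197918 IH) (Lpn (LP (LK LD1_c6 LD2_c14 LD3_c5))))
theorem f197975 : Led Lsl_gt (LP (LK LD1_c1 LD2_c27 LD3_c50)) = (LP (LK LD1_c1 LD2_c57 LD3_c16)) :=
  Lgr Lrot49 (Lpe (K1.f36729 IH) (Lpe (K10.f196230 IH) (Lpe (K12.f192730 IH) (Lpe (K9.f101399 IH) (Lpr_dt (K9.f100971 IH) (Lpr_gt (K12.f101061 IH) (Lpr_dt (f197920 IH) (Lpe (K12.f37203 IH) (Lpe (K12.f37199 IH) (Lpn (LP (LK LD1_c1 LD2_c57 LD3_c16))))))))))))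
theorem f182331 : Led Lsl_et (LP (LK LD1_c0 LD2_c32 LD3_c28)) = (LP (LK LD1_c1 LD2_c10 LD3_c14)) :=
  Lre_e IH (LK LD1_c0 LD2_c32 LD3_c28) (LK LD1_c1 LD2_c10 LD3_c14) Lrfl Lrfl
theorem f197978 : Led Lsl_gf (LP (LK LD1_c1 LD2_c28 LD3_c20)) = (LP (LK LD1_c3 LD2_c3 LD3_c55)) :=
  Lgr Lrot134 (Lpe (K12.f69683 IH) (Lpe (K12.f182414 IH) (Lpr_gt (K12.f179916 IH) (Lpe (f182331 IH) (Lpr_dt (K11.f182324 IH) (Lpr_gt (K9.f182320 IH) (Lpe (K1.f6937 IH) (Lpe (K1.f36722 IH) (Lpr_gt (f197975 IH) (Lpr_dt (K12.f37199 IH) (Lpn (LP (LK LD1_c3 LD2_c3 LD3_c55)))))))))))))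
theorem f197982 : Led Lsl_dt (LP (LK LD1_c6 LD2_c15 LD3_c12)) = (LP (LK LD1_c3 LD2_c4 LD3_c37)) :=
  Lre_d IH (LK LD1_c6 LD2_c15 LD3_c12) (LK LD1_c3 LD2_c4 LD3_c37) Lrfl Lrfl
theorem f197981 : Led Lsl_ct (LP (LK LD1_c12 LD2_c8 LD3_c41)) = (LP (LK LD1_c6 LD2_c15 LD3_c12)) :=
  Lre_c IH (LK LD1_c12 LD2_c8 LD3_c41) (LK LD1_c6 LD2_c15 LD3_c12) Lrfl Lrfl
theorem f229378 : Led Lsl_gf (LP (LK LD1_c12 LD2_c8 LD3_c41)) = (LP (LK LD1_c12 LD2_c5 LD3_c7)) :=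
  Lgr Lrot172 (Lpr_ct (f197981 IH) (Lpr_dt (f197982 IH) (Lpe (K12.f196244 IH) (Lpr_gf (f197978 IH) (Lpe (K10.f37198 IH) (Lpe (K10.f198030 IH) (Lpr_dt (K12.f229371 IH) (Lpr_gt (K12.f101353 IH) (Lpr_ct (f229377 IH) (Lpn (LP (LK LD1_c12 LD2_c5 LD3_c7))))))))))))
theorem f197980 : Led Lsl_dt (LP (LK LD1_c3 LD2_c4 LD3_c37)) = (LP (LK LD1_c6 LD2_c15 LD3_c12)) :=
  Lre_d IH (LK LD1_c3 LD2_c4 LD3_c37) (LK LD1_c6 LD2_c15 LD3_c12) Lrfl Lrfl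
theorem f227853 : Led Lsl_ct (LP (LK LD1_c6 LD2_c15 LD3_c12)) = (LP (LK LD1_c12 LD2_c8 LD3_c41)) :=
  Lre_c IH (LK LD1_c6 LD2_c15 LD3_c12) (LK LD1_c12 LD2_c8 LD3_c41) Lrfl Lrfl
theorem f227881 : Led Lsl_df (LP (LK LD1_c12 LD2_c8 LD3_c41)) = (LP (LK LD1_c16 LD2_c24 LD3_c15)) :=
  Lgr Lrot84 (Lpe (f227853 IH) (Lpe (f197980 IH) (Lpe (K12.f227849 IH) (Lpr_df (K12.f227856 IH) (Lpe (K12.f36779 IH) (Lpe (K1.f36735 IH) (Lpe (K12.f198090 IH) (Lpe (K12.f198092 IH) (Lpe (f227500 IH) (Lpn (LP (LK LD1_c16 LD2_c24 LD3_c15))))))))))))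
theorem f227884 : Led Lsl_dt (LP (LK LD1_c12 LD2_c8 LD3_c41)) = (LP (LK LD1_c16 LD2_c24 LD3_c15)) :=
  Lgr Lrot42 (Lpr_df (f227881 IH) (Lpn (LP (LK LD1_c16 LD2_c24 LD3_c15))))
theorem f204825 : Led Lsl_ct (LP (LK LD1_c8 LD2_c46 LD3_c1)) = (LP (LK LD1_c16 LD2_c24 LD3_c15)) :=
  Lre_c IH (LK LD1_c8 LD2_c46 LD3_c1) (LK LD1_c16 LD2_c24 LD3_c15) Lrfl Lrfl
theorem f175819 : Led Lsl_dt (LP (LK LD1_c5 LD2_c0 LD3_c32)) = (LP (LK LD1_c2 LD2_c27 LD3_c61)) :=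
  Lre_d IH (LK LD1_c5 LD2_c0 LD3_c32) (LK LD1_c2 LD2_c27 LD3_c61) Lrfl Lrfl
theorem f175809 : Led Lsl_ct (LP (LK LD1_c2 LD2_c27 LD3_c61)) = (LP (LK LD1_c1 LD2_c11 LD3_c9)) :=
  Lre_c IH (LK LD1_c2 LD2_c27 LD3_c61) (LK LD1_c1 LD2_c11 LD3_c9) Lrfl Lrfl
theorem f241208 : Led Lsl_gt (LP (LK LD1_c4 LD2_c27 LD3_c6)) = (LP (LK LD1_c4 LD2_c24 LD3_c9)) :=
  Lgr Lrot94 (Lpe (K10.f101300 IH) (Lpe (K12.f210955 IH) (Lpr_dt (K12.f210948 IH) (Lpe (K11.f198347 IH) (Lpr_dt (K10.f175823 IH) (Lpe (f175809 IH) (Lpe (f175819 IH) (Lpr_gf (f241203 IH) (Lpe (f36671 IH) (Lpn (LP (LK LD1_c4 LD2_c24 LD3_c9))))))))))))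
theorem f241241 : Led Lsl_gf (LP (LK LD1_c12 LD2_c5 LD3_c14)) = (LP (LK LD1_c12 LD2_c6 LD3_c6)) :=
  Lgr Lrot144 (Lpr_dt (f241222 IH) (Lpe (f229378 IH) (Lpr_dt (f227884 IH) (Lpe (f204825 IH) (Lpe (f36671 IH) (Lpe (f241208 IH) (Lpe (K10.f193734 IH) (Lpr_gf (K10.f193739 IH) (Lpe (K1.f36879 IH) (Lpn (LP (LK LD1_c12 LD2_c6 LD3_c6))))))))))))
theorem f69379 : Led Lsl_ct (LP (LK LD1_c12 LD2_c5 LD3_c14)) = (LP (LK LD1_c6 LD2_c13 LD3_c9)) :=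
  Lre_c IH (LK LD1_c12 LD2_c5 LD3_c14) (LK LD1_c6 LD2_c13 LD3_c9) Lrfl Lrfl
theorem f101383 : Led Lsl_ct (LP (LK LD1_c12 LD2_c5 LD3_c12)) = (LP (LK LD1_c6 LD2_c13 LD3_c8)) :=
  Lre_c IH (LK LD1_c12 LD2_c5 LD3_c12) (LK LD1_c6 LD2_c13 LD3_c8) Lrfl Lrfl
theorem f241244 : Led Lsl_gf (LP (LK LD1_c12 LD2_c5 LD3_c12)) = (LP (LK LD1_c6 LD2_c13 LD3_c40)) :=
  Lgr Lrot147 (Lpr_ct (f101383 IH) (Lpr_gt (f101380 IH) (Lpr_ct (f42996 IH) (Lpe (f101097 IH) (Lpe (K12.f69381 IH) (Lpe (K11.f69366 IH) (Lpe (f69379 IH) (Lpr_gf (f241241 IH) (Lpe (K1.f36751 IH) (Lpn (LP (LK LD1_c6 LD2_c13 LD3_c40))))))))))))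
theorem f175891 : Led Lsl_cf (LP (LK LD1_c1 LD2_c27 LD3_c43)) = (LP (LK LD1_c3 LD2_c3 LD3_c19)) :=
  Lgr Lrot11 (Lpr_ct (K9.f175888 IH) (Lpn (LP (LK LD1_c3 LD2_c3 LD3_c19))))
theorem f241073 : Led Lsl_ct (LP (LK LD1_c3 LD2_c3 LD3_c41)) = (LP (LK LD1_c5 LD2_c12 LD3_c57)) :=
  Lgr Lrot7 (Lpe (f59151 IH) (Lpe (f37972 IH) (Lpr_df (K10.f36738 IH) (Lpe (K10.f193754 IH) (Lpr_cf (f175891 IH) (Lpr_gt (K9.f80910 IH) (Lpr_dt (K9.f69365 IH) (Lpr_gt (f101073 IH) (Lpr_dt (f241042 IH) (Lpn (LP (LK LD1_c5 LD2_c12 LD3_c57))))))))))))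
theorem f36867 : Led Lsl_ct (LP (LK LD1_c3 LD2_c3 LD3_c39)) = (LP (LK LD1_c6 LD2_c13 LD3_c40)) :=
  Lre_c IH (LK LD1_c3 LD2_c3 LD3_c39) (LK LD1_c6 LD2_c13 LD3_c40) Lrfl Lrfl
theorem f241250 : Led Lsl_gf (LP (LK LD1_c3 LD2_c3 LD3_c41)) = (LP (LK LD1_c3 LD2_c3 LD3_c48)) :=
  Lgr Lrot104 (Lpr_ct (f241073 IH) (Lpe (f241042 IH) (Lpe (f101383 IH) (Lpr_gf (f241244 IH) (Lpe (f36867 IH) (Lpe (K10.f36896 IH) (Lpr_df (K10.f193731 IH) (Lpr_gt (f241208 IH) (Lpr_ct (f204818 IH) (Lpn (LP (LK LD1_c3 LD2_c3 LD3_c48))))))))))))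
theorem f241261 : Led Lsl_et (LP (LK LD1_c1 LD2_c27 LD3_c49)) = (LP (LK LD1_c0 LD2_c55 LD3_c54)) :=
  Lgr Lrot121 (Lpr_dt (f59151 IH) (Lpr_gf (f241250 IH) (Lpe (f210912 IH) (Lpr_et (f227492 IH) (Lpe (f229355 IH) (Lpe (K11.f182364 IH) (Lpe (f182360 IH) (Lpe (K11.f175075 IH) (Lpr_df (f240599 IH) (Lpe (f240588 IH) (Lpn (LP (LK LD1_c0 LD2_c55 LD3_c54)))))))))))))
theorem f241267 : Led Lsl_ef (LP (LK LD1_c1 LD2_c27 LD3_c49)) = (LP (LK LD1_c0 LD2_c55 LD3_c54)) :=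
  Lgr Lrot88 (Lpr_et (f241261 IH) (Lpn (LP (LK LD1_c0 LD2_c55 LD3_c54))))
theorem f34071 : Led Lsl_dt (LP (LK LD1_c0 LD2_c55 LD3_c54)) = (LP (LK LD1_c0 LD2_c25 LD3_c21)) :=
  Lre_d IH (LK LD1_c0 LD2_c55 LD3_c54) (LK LD1_c0 LD2_c25 LD3_c21) Lrfl Lrfl
theorem f241273 : Led Lsl_gt (LP (LK LD1_c1 LD2_c27 LD3_c49)) = (LP (LK LD1_c1 LD2_c57 LD3_c1)) :=
  Lgr Lrot137 (Lpr_ef (f241267 IH) (Lpr_dt (f34071 IH) (Lpr_gf (K10.f33672 IH) (Lpe (K0.f33650 IH) (Lpe (K2.f69702 IH) (Lpe (K10.f193762 IH) (Lpr_ef (K10.f101532 IH) (Lpr_dt (K10.f101536 IH) (Lpr_gf (K10.f193749 IH) (Lpr_df (K1.f29207 IH) (Lpn (LP (LK LD1_c1 LD2_c57 LD3_c1)))))))))))))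
theorem f37973 : Led Lsl_dt (LP (LK LD1_c3 LD2_c3 LD3_c41)) = (LP (LK LD1_c1 LD2_c27 LD3_c49)) :=
  Lre_d IH (LK LD1_c3 LD2_c3 LD3_c41) (LK LD1_c1 LD2_c27 LD3_c49) Lrfl Lrfl
theorem f34072 : Led Lsl_et (LP (LK LD1_c0 LD2_c55 LD3_c55)) = (LP (LK LD1_c0 LD2_c25 LD3_c21)) :=
  Lre_e IH (LK LD1_c0 LD2_c55 LD3_c55) (LK LD1_c0 LD2_c25 LD3_c21) Lrfl Lrfl
theorem f184676 : Led Lsl_dt (LP (LK LD1_c1 LD2_c58 LD3_c2)) = (LP (LK LD1_c0 LD2_c55 LD3_c55)) :=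
  Lre_d IH (LK LD1_c1 LD2_c58 LD3_c2) (LK LD1_c0 LD2_c55 LD3_c55) Lrfl Lrfl
theorem f241271 : Led Lsl_et (LP (LK LD1_c3 LD2_c3 LD3_c41)) = (LP (LK LD1_c1 LD2_c58 LD3_c2)) :=
  Lgr Lrot71 (Lpe (f59151 IH) (Lpr_ef (f241267 IH) (Lpe (K12.f34064 IH) (Lpe (f34072 IH) (Lpe (f184676 IH) (Lpn (LP (LK LD1_c1 LD2_c58 LD3_c2))))))))
theorem f238509 : Led Lsl_gt (LP (LK LD1_c0 LD2_c55 LD3_c52)) = (LP (LK LD1_c0 LD2_c55 LD3_c35)) :=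
  Lgr Lrot94 (Lpe (f193656 IH) (Lpr_gt (f236473 IH) (Lpr_dt (f216333 IH) (Lpr_gt (f238506 IH) (Lpr_dt (f28831 IH) (Lpr_cf (K9.f28931 IH) (Lpe (K9.f28938 IH) (Lpr_gf (K12.f197259 IH) (Lpr_df (K11.f182352 IH) (Lpn (LP (LK LD1_c0 LD2_c55 LD3_c35))))))))))))
theorem f241279 : Led Lsl_gf (LP (LK LD1_c1 LD2_c58 LD3_c2)) = (LP (LK LD1_c1 LD2_c9 LD3_c30)) :=
  Lgr Lrot141 (Lpe (f241271 IH) (Lpr_dt (f37973 IH) (Lpr_gt (f241273 IH) (Lpr_df (K1.f29207 IH) (Lpr_et (K1.f29204 IH) (Lpr_gt (f193665 IH) (Lpe (f193657 IH) (Lpr_gt (f238509 IH) (Lpe (K11.f196958 IH) (Lpe (K11.f211232 IH) (Lpn (LP (LK LD1_c1 LD2_c9 LD3_c30)))))))))))))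
theorem f241281 : Led Lsl_ct (LP (LK LD1_c1 LD2_c58 LD3_c2)) = (LP (LK LD1_c2 LD2_c33 LD3_c20)) :=
  Lgr Lrot152 (Lpr_gf (f241279 IH) (Lpe (K11.f31054 IH) (Lpr_gt (K10.f31564 IH) (Lpr_ct (K10.f28679 IH) (Lpr_gt (K10.f171655 IH) (Lpr_ct (K10.f171661 IH) (Lpe (K10.f171679 IH) (Lpe (K11.f171680 IH) (Lpe (f171681 IH) (Lpn (LP (LK LD1_c2 LD2_c33 LD3_c20))))))))))))
theorem f240659 : Led Lsl_dt (LP (LK LD1_c5 LD2_c5 LD3_c6)) = (LP (LK LD1_c2 LD2_c29 LD3_c52)) :=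
  Lre_d IH (LK LD1_c5 LD2_c5 LD3_c6) (LK LD1_c2 LD2_c29 LD3_c52) Lrfl Lrfl
theorem f241283 : Led Lsl_gf (LP (LK LD1_c4 LD2_c4 LD3_c35)) = (LP (LK LD1_c5 LD2_c5 LD3_c6)) :=
  Lgr Lrot147 (Lpr_ct (f194095 IH) (Lpe (f240962 IH) (Lpr_ct (f201376 IH) (Lpe (f239502 IH) (Lpe (f241281 IH) (Lpr_gf (f241279 IH) (Lpe (f190229 IH) (Lpr_gf (f240657 IH) (Lpe (f240659 IH) (Lpn (LP (LK LD1_c5 LD2_c5 LD3_c6))))))))))))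
theorem f211577 : Led Lsl_ef (LP (LK LD1_c4 LD2_c1 LD3_c15)) = (LP (LK LD1_c1 LD2_c59 LD3_c17)) :=
  Lgr Lrot28 (Lpr_ct (K12.f211576 IH) (Lpr_et (K12.f211574 IH) (Lpr_ct (K10.f28790 IH) (Lpn (LP (LK LD1_c1 LD2_c59 LD3_c17))))))
theorem f69941 : Led Lsl_et (LP (LK LD1_c1 LD2_c58 LD3_c10)) = (LP (LK LD1_c4 LD2_c2 LD3_c26)) :=
  Lre_e IH (LK LD1_c1 LD2_c58 LD3_c10) (LK LD1_c4 LD2_c2 LD3_c26) Lrfl Lrfl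
theorem f240681 : Led Lsl_dt (LP (LK LD1_c2 LD2_c29 LD3_c52)) = (LP (LK LD1_c5 LD2_c5 LD3_c6)) :=
  Lre_d IH (LK LD1_c2 LD2_c29 LD3_c52) (LK LD1_c5 LD2_c5 LD3_c6) Lrfl Lrfl
theorem f240779 : Led Lsl_ef (LP (LK LD1_c2 LD2_c49 LD3_c4)) = (LP (LK LD1_c2 LD2_c29 LD3_c52)) :=
  Lgr Lrot88 (Lpr_et (f240772 IH) (Lpn (LP (LK LD1_c2 LD2_c29 LD3_c52))))
theorem f241291 : Led Lsl_gt (LP (LK LD1_c4 LD2_c2 LD3_c26)) = (LP (LK LD1_c2 LD2_c49 LD3_c4)) :=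
  Lgr Lrot131 (Lpe (f69941 IH) (Lpr_dt (K0.f33790 IH) (Lpr_gf (K10.f33762 IH) (Lpr_df (K12.f211594 IH) (Lpe (K12.f211585 IH) (Lpr_ef (f211577 IH) (Lpr_dt (f31582 IH) (Lpr_gf (f241283 IH) (Lpe (f240681 IH) (Lpe (f240779 IH) (Lpn (LP (LK LD1_c2 LD2_c49 LD3_c4)))))))))))))
theorem f70016 : Led Lsl_at (LP (LK LD1_c2 LD2_c9 LD3_c19)) = (LP (LK LD1_c1 LD2_c27 LD3_c59)) :=
  Lgr Lrot107 (Lpe (K2.f59178 IH) (Lpr_af (f70012 IH) (Lpe (K2.f37171 IH) (Lpn (LP (LK LD1_c1 LD2_c27 LD3_c59))))))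
theorem f241294 : Led Lsl_gf (LP (LK LD1_c1 LD2_c27 LD3_c59)) = (LP (LK LD1_c2 LD2_c49 LD3_c4)) :=
  Lgr Lrot76 (Lpe (f70016 IH) (Lpe (K9.f70005 IH) (Lpr_gt (f241291 IH) (Lpn (LP (LK LD1_c2 LD2_c49 LD3_c4))))))
theorem f70181 : Led Lsl_et (LP (LK LD1_c0 LD2_c40 LD3_c41)) = (LP (LK LD1_c1 LD2_c27 LD3_c59)) :=
  Lre_e IH (LK LD1_c0 LD2_c40 LD3_c41) (LK LD1_c1 LD2_c27 LD3_c59) Lrfl Lrfl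
theorem f34771 : Led Lsl_et (LP (LK LD1_c0 LD2_c28 LD3_c17)) = (LP (LK LD1_c1 LD2_c0 LD3_c52)) :=
  Lgr Lrot158 (Lpe (K0.f34740 IH) (Lpr_ef (K1.f34761 IH) (Lpe (K0.f31755 IH) (Lpn (LP (LK LD1_c1 LD2_c0 LD3_c52))))))
theorem f31775 : Led Lsl_dt (LP (LK LD1_c2 LD2_c7 LD3_c33)) = (LP (LK LD1_c4 LD2_c20 LD3_c8)) :=
  Lre_d IH (LK LD1_c2 LD2_c7 LD3_c33) (LK LD1_c4 LD2_c20 LD3_c8) Lrfl Lrfl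
theorem f241365 : Led Lsl_gt (LP (LK LD1_c4 LD2_c20 LD3_c8)) = (LP (LK LD1_c5 LD2_c5 LD3_c6)) :=
  Lgr Lrot139 (Lpe (f31775 IH) (Lpe (f31771 IH) (Lpe (f34771 IH) (Lpr_dt (K1.f34745 IH) (Lpr_gf (K2.f80321 IH) (Lpe (K2.f59176 IH) (Lpr_et (f70181 IH) (Lpr_gf (f241294 IH) (Lpr_ef (f240779 IH) (Lpr_dt (f240681 IH) (Lpn (LP (LK LD1_c5 LD2_c5 LD3_c6)))))))))))))
theorem f239288 : Led Lsl_dt (LP (LK LD1_c4 LD2_c20 LD3_c23)) = (LP (LK LD1_c8 LD2_c38 LD3_c37)) :=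
  Lre_d IH (LK LD1_c4 LD2_c20 LD3_c23) (LK LD1_c8 LD2_c38 LD3_c37) Lrfl Lrfl
theorem f171658 : Led Lsl_gt (LP (LK LD1_c2 LD2_c33 LD3_c12)) = (LP (LK LD1_c1 LD2_c13 LD3_c33)) :=
  Lre_g IH (LK LD1_c2 LD2_c33 LD3_c12) (LK LD1_c1 LD2_c13 LD3_c33) Lrfl Lrfl
theorem f171659 : Led Lsl_ct (LP (LK LD1_c5 LD2_c12 LD3_c41)) = (LP (LK LD1_c2 LD2_c33 LD3_c12)) :=
  Lre_c IH (LK LD1_c5 LD2_c12 LD3_c41) (LK LD1_c2 LD2_c33 LD3_c12) Lrfl Lrfl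
theorem f241021 : Led Lsl_gf (LP (LK LD1_c4 LD2_c20 LD3_c23)) = (LP (LK LD1_c5 LD2_c12 LD3_c41)) :=
  Lgr Lrot144 (Lpr_dt (f239288 IH) (Lpr_gt (f241018 IH) (Lpr_dt (K11.f31283 IH) (Lpe (K9.f31282 IH) (Lpe (K0.f31131 IH) (Lpr_gf (K9.f171653 IH) (Lpe (K11.f171657 IH) (Lpe (f171658 IH) (Lpe (f171659 IH) (Lpn (LP (LK LD1_c5 LD2_c12 LD3_c41))))))))))))
theorem f231482 : Led Lsl_gt (LP (LK LD1_c4 LD2_c6 LD3_c44)) = (LP (LK LD1_c5 LD2_c12 LD3_c41)) :=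
  Lgr Lrot9 (Lpe (f21299 IH) (Lpr_gt (f231475 IH) (Lpr_ct (f201408 IH) (Lpr_gt (K11.f201435 IH) (Lpe (K11.f201657 IH) (Lpe (K11.f191122 IH) (Lpe (K11.f171678 IH) (Lpe (f171658 IH) (Lpe (f171659 IH) (Lpn (LP (LK LD1_c5 LD2_c12 LD3_c41))))))))))))
theorem f201378 : Led Lsl_ct (LP (LK LD1_c5 LD2_c6 LD3_c44)) = (LP (LK LD1_c10 LD2_c4 LD3_c11)) :=
  Lre_c IH (LK LD1_c5 LD2_c6 LD3_c44) (LK LD1_c10 LD2_c4 LD3_c11) Lrfl Lrfl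
theorem f231486 : Led Lsl_df (LP (LK LD1_c10 LD2_c4 LD3_c11)) = (LP (LK LD1_c5 LD2_c12 LD3_c41)) :=
  Lgr Lrot84 (Lpe (f201378 IH) (Lpe (f211524 IH) (Lpe (K12.f201869 IH) (Lpe (K11.f181110 IH) (Lpe (K11.f181111 IH) (Lpe (K11.f201861 IH) (Lpe (f231480 IH) (Lpr_dt (f21299 IH) (Lpr_gt (f231482 IH) (Lpn (LP (LK LD1_c5 LD2_c12 LD3_c41))))))))))))
theorem f231493 : Led Lsl_dt (LP (LK LD1_c10 LD2_c4 LD3_c11)) = (LP (LK LD1_c5 LD2_c12 LD3_c41)) :=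
  Lgr Lrot42 (Lpr_df (f231486 IH) (Lpn (LP (LK LD1_c5 LD2_c12 LD3_c41))))
theorem f70831 : Led Lsl_et (LP (LK LD1_c3 LD2_c0 LD3_c61)) = (LP (LK LD1_c2 LD2_c10 LD3_c1)) :=
  Lgr Lrot87 (Lpr_ef (K2.f70818 IH) (Lpn (LP (LK LD1_c2 LD2_c10 LD3_c1))))
theorem f53195 : Led Lsl_ct (LP (LK LD1_c2 LD2_c3 LD3_c17)) = (LP (LK LD1_c0 LD2_c58 LD3_c36)) :=
  Lre_c IH (LK LD1_c2 LD2_c3 LD3_c17) (LK LD1_c0 LD2_c58 LD3_c36) Lrfl Lrfl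
theorem f227323 : Led Lsl_ef (LP (LK LD1_c2 LD2_c3 LD3_c17)) = (LP (LK LD1_c4 LD2_c1 LD3_c16)) :=
  Lgr Lrot28 (Lpr_ct (f53195 IH) (Lpe (K12.f227297 IH) (Lpr_ct (K12.f227317 IH) (Lpn (LP (LK LD1_c4 LD2_c1 LD3_c16))))))
theorem f227339 : Led Lsl_gt (LP (LK LD1_c2 LD2_c10 LD3_c1)) = (LP (LK LD1_c2 LD2_c3 LD3_c17)) :=
  Lgr Lrot131 (Lpe (f70831 IH) (Lpr_dt (K1.f27252 IH) (Lpe (K12.f38355 IH) (Lpe (K12.f227335 IH) (Lpr_gf (K12.f227332 IH) (Lpe (K12.f227331 IH) (Lpr_dt (K12.f34053 IH) (Lpr_gf (K12.f227329 IH) (Lpe (K12.f227319 IH) (Lpe (f227323 IH) (Lpn (LP (LK LD1_c2 LD2_c3 LD3_c17)))))))))))))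
theorem f201351 : Led Lsl_ct (LP (LK LD1_c2 LD2_c29 LD3_c56)) = (LP (LK LD1_c5 LD2_c5 LD3_c15)) :=
  Lre_c IH (LK LD1_c2 LD2_c29 LD3_c56) (LK LD1_c5 LD2_c5 LD3_c15) Lrfl Lrfl
theorem f31815 : Led Lsl_dt (LP (LK LD1_c2 LD2_c7 LD3_c36)) = (LP (LK LD1_c4 LD2_c20 LD3_c18)) :=
  Lre_d IH (LK LD1_c2 LD2_c7 LD3_c36) (LK LD1_c4 LD2_c20 LD3_c18) Lrfl Lrfl
theorem f165474 : Led Lsl_ct (LP (LK LD1_c1 LD2_c12 LD3_c19)) = (LP (LK LD1_c0 LD2_c33 LD3_c29)) :=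
  Lre_c IH (LK LD1_c1 LD2_c12 LD3_c19) (LK LD1_c0 LD2_c33 LD3_c29) Lrfl Lrfl
theorem f204983 : Led Lsl_gf (LP (LK LD1_c4 LD2_c20 LD3_c27)) = (LP (LK LD1_c5 LD2_c5 LD3_c15)) :=
  Lgr Lrot104 (Lpe (K0.f31793 IH) (Lpe (f31815 IH) (Lpe (K1.f31765 IH) (Lpr_gf (K12.f204981 IH) (Lpe (f165474 IH) (Lpr_gf (f166427 IH) (Lpe (K11.f36943 IH) (Lpe (K11.f201347 IH) (Lpr_ct (f201351 IH) (Lpn (LP (LK LD1_c5 LD2_c5 LD3_c15))))))))))))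
theorem f27894 : Led Lsl_dt (LP (LK LD1_c4 LD2_c20 LD3_c27)) = (LP (LK LD1_c2 LD2_c7 LD3_c41)) :=
  Lre_d IH (LK LD1_c4 LD2_c20 LD3_c27) (LK LD1_c2 LD2_c7 LD3_c41) Lrfl Lrfl
theorem f53302 : Led Lsl_dt (LP (LK LD1_c2 LD2_c3 LD3_c17)) = (LP (LK LD1_c4 LD2_c12 LD3_c9)) :=
  Lre_d IH (LK LD1_c2 LD2_c3 LD3_c17) (LK LD1_c4 LD2_c12 LD3_c9) Lrfl Lrfl
theorem f53298 : Led Lsl_ct (LP (LK LD1_c8 LD2_c23 LD3_c57)) = (LP (LK LD1_c4 LD2_c12 LD3_c9)) :=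
  Lre_c IH (LK LD1_c8 LD2_c23 LD3_c57) (LK LD1_c4 LD2_c12 LD3_c9) Lrfl Lrfl
theorem f227341 : Led Lsl_dt (LP (LK LD1_c4 LD2_c20 LD3_c25)) = (LP (LK LD1_c8 LD2_c23 LD3_c57)) :=
  Lgr Lrot105 (Lpe (K10.f27892 IH) (Lpe (f27894 IH) (Lpr_gf (f204983 IH) (Lpe (f201351 IH) (Lpr_gt (f201908 IH) (Lpr_dt (K2.f70817 IH) (Lpr_gt (f227339 IH) (Lpr_dt (f53302 IH) (Lpe (f53298 IH) (Lpn (LP (LK LD1_c8 LD2_c23 LD3_c57))))))))))))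
theorem f28712 : Led Lsl_ct (LP (LK LD1_c2 LD2_c7 LD3_c60)) = (LP (LK LD1_c1 LD2_c1 LD3_c6)) :=
  Lre_c IH (LK LD1_c2 LD2_c7 LD3_c60) (LK LD1_c1 LD2_c1 LD3_c6) Lrfl Lrfl
theorem f194199 : Led Lsl_dt (LP (LK LD1_c8 LD2_c9 LD3_c60)) = (LP (LK LD1_c4 LD2_c4 LD3_c33)) :=
  Lre_d IH (LK LD1_c8 LD2_c9 LD3_c60) (LK LD1_c4 LD2_c4 LD3_c33) Lrfl Lrfl
theorem f53254 : Led Lsl_ct (LP (LK LD1_c4 LD2_c12 LD3_c9)) = (LP (LK LD1_c8 LD2_c23 LD3_c57)) :=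
  Lre_c IH (LK LD1_c4 LD2_c12 LD3_c9) (LK LD1_c8 LD2_c23 LD3_c57) Lrfl Lrfl
theorem f53244 : Led Lsl_dt (LP (LK LD1_c4 LD2_c12 LD3_c9)) = (LP (LK LD1_c2 LD2_c3 LD3_c17)) :=
  Lre_d IH (LK LD1_c4 LD2_c12 LD3_c9) (LK LD1_c2 LD2_c3 LD3_c17) Lrfl Lrfl
theorem f227293 : Led Lsl_gt (LP (LK LD1_c5 LD2_c6 LD3_c44)) = (LP (LK LD1_c4 LD2_c12 LD3_c9)) :=
  Lgr Lrot49 (Lpe (f211524 IH) (Lpe (K12.f201869 IH) (Lpe (K11.f181106 IH) (Lpr_gt (K10.f185151 IH) (Lpr_dt (K12.f227291 IH) (Lpr_gt (K12.f53248 IH) (Lpr_dt (K9.f53247 IH) (Lpe (f53195 IH) (Lpe (f53244 IH) (Lpn (LP (LK LD1_c4 LD2_c12 LD3_c9))))))))))))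
theorem f201389 : Led Lsl_ct (LP (LK LD1_c10 LD2_c4 LD3_c11)) = (LP (LK LD1_c5 LD2_c6 LD3_c44)) :=
  Lre_c IH (LK LD1_c10 LD2_c4 LD3_c11) (LK LD1_c5 LD2_c6 LD3_c44) Lrfl Lrfl
theorem f227362 : Led Lsl_gt (LP (LK LD1_c8 LD2_c9 LD3_c60)) = (LP (LK LD1_c10 LD2_c4 LD3_c11)) :=
  Lgr Lrot146 (Lpr_dt (f194199 IH) (Lpe (K10.f194194 IH) (Lpr_ct (f28712 IH) (Lpr_gt (K10.f28958 IH) (Lpe (K10.f194334 IH) (Lpr_dt (f227341 IH) (Lpe (f53254 IH) (Lpe (f227293 IH) (Lpe (f201389 IH) (Lpn (LP (LK LD1_c10 LD2_c4 LD3_c11))))))))))))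
theorem f241367 : Led Lsl_ct (LP (LK LD1_c4 LD2_c20 LD3_c8)) = (LP (LK LD1_c8 LD2_c9 LD3_c60)) :=
  Lgr Lrot8 (Lpr_gt (f241365 IH) (Lpr_dt (f240659 IH) (Lpe (f240657 IH) (Lpr_dt (f240649 IH) (Lpe (f240661 IH) (Lpe (f239288 IH) (Lpr_gf (f241021 IH) (Lpe (f231493 IH) (Lpe (f227362 IH) (Lpn (LP (LK LD1_c8 LD2_c9 LD3_c60))))))))))))
theorem f241374 : Led Lsl_gf (LP (LK LD1_c4 LD2_c20 LD3_c8)) = (LP (LK LD1_c5 LD2_c5 LD3_c4)) :=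
  Lgr Lrot147 (Lpr_ct (f241367 IH) (Lpr_gt (f227362 IH) (Lpr_ct (f201389 IH) (Lpe (f211524 IH) (Lpr_cf (K12.f211516 IH) (Lpr_gf (f225567 IH) (Lpe (f31573 IH) (Lpr_gf (f239299 IH) (Lpe (f205070 IH) (Lpn (LP (LK LD1_c5 LD2_c5 LD3_c4))))))))))))
theorem f239237 : Led Lsl_et (LP (LK LD1_c2 LD2_c7 LD3_c33)) = (LP (LK LD1_c4 LD2_c20 LD3_c9)) :=
  Lre_e IH (LK LD1_c2 LD2_c7 LD3_c33) (LK LD1_c4 LD2_c20 LD3_c9) Lrfl Lrfl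
theorem f205074 : Led Lsl_dt (LP (LK LD1_c2 LD2_c29 LD3_c50)) = (LP (LK LD1_c5 LD2_c5 LD3_c4)) :=
  Lre_d IH (LK LD1_c2 LD2_c29 LD3_c50) (LK LD1_c5 LD2_c5 LD3_c4) Lrfl Lrfl
theorem f211228 : Led Lsl_ef (LP (LK LD1_c2 LD2_c24 LD3_c44)) = (LP (LK LD1_c2 LD2_c26 LD3_c2)) :=
  Lgr Lrot28 (Lpr_ct (f190229 IH) (Lpr_et (K11.f211224 IH) (Lpr_ct (K12.f172681 IH) (Lpn (LP (LK LD1_c2 LD2_c26 LD3_c2))))))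
theorem f239107 : Led Lsl_dt (LP (LK LD1_c2 LD2_c26 LD3_c2)) = (LP (LK LD1_c4 LD2_c22 LD3_c57)) :=
  Lgr Lrot42 (Lpr_df (f239101 IH) (Lpn (LP (LK LD1_c4 LD2_c22 LD3_c57))))
theorem f238974 : Led Lsl_et (LP (LK LD1_c1 LD2_c1 LD3_c40)) = (LP (LK LD1_c2 LD2_c8 LD3_c60)) :=
  Lre_e IH (LK LD1_c1 LD2_c1 LD3_c40) (LK LD1_c2 LD2_c8 LD3_c60) Lrfl Lrfl
theorem f241376 : Led Lsl_gt (LP (LK LD1_c4 LD2_c20 LD3_c9)) = (LP (LK LD1_c2 LD2_c8 LD3_c60)) :=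
  Lgr Lrot131 (Lpe (f239237 IH) (Lpr_dt (f31775 IH) (Lpr_gf (f241374 IH) (Lpe (f205074 IH) (Lpr_gf (K12.f225636 IH) (Lpr_ef (f211228 IH) (Lpr_dt (f239107 IH) (Lpe (f239097 IH) (Lpe (f229865 IH) (Lpr_et (f238974 IH) (Lpn (LP (LK LD1_c2 LD2_c8 LD3_c60)))))))))))))
theorem f237334 : Led Lsl_ct (LP (LK LD1_c2 LD2_c8 LD3_c60)) = (LP (LK LD1_c1 LD2_c1 LD3_c41)) :=
  Lre_c IH (LK LD1_c2 LD2_c8 LD3_c60) (LK LD1_c1 LD2_c1 LD3_c41) Lrfl Lrfl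
theorem f172721 : Led Lsl_ct (LP (LK LD1_c1 LD2_c10 LD3_c31)) = (LP (LK LD1_c2 LD2_c26 LD3_c25)) :=
  Lre_c IH (LK LD1_c1 LD2_c10 LD3_c31) (LK LD1_c2 LD2_c26 LD3_c25) Lrfl Lrfl
theorem f239372 : Led Lsl_af (LP (LK LD1_c2 LD2_c8 LD3_c60)) = (LP (LK LD1_c2 LD2_c26 LD3_c25)) :=
  Lgr Lrot68 (Lpr_ct (f237334 IH) (Lpr_at (f239368 IH) (Lpr_ct (f172721 IH) (Lpn (LP (LK LD1_c2 LD2_c26 LD3_c25))))))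
theorem f172735 : Led Lsl_ft (LP (LK LD1_c4 LD2_c57 LD3_c0)) = (LP (LK LD1_c2 LD2_c26 LD3_c25)) :=
  Lre_f IH (LK LD1_c4 LD2_c57 LD3_c0) (LK LD1_c2 LD2_c26 LD3_c25) Lrfl Lrfl
theorem f241378 : Led Lsl_gf (LP (LK LD1_c4 LD2_c20 LD3_c9)) = (LP (LK LD1_c4 LD2_c57 LD3_c0)) :=
  Lgr Lrot47 (Lpr_gt (f241376 IH) (Lpr_af (f239372 IH) (Lpe (f172735 IH) (Lpn (LP (LK LD1_c4 LD2_c57 LD3_c0))))))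
theorem f239238 : Led Lsl_cf (LP (LK LD1_c2 LD2_c18 LD3_c52)) = (LP (LK LD1_c4 LD2_c20 LD3_c9)) :=
  Lgr Lrot39 (Lpr_et (f59152 IH) (Lpr_ct (f239232 IH) (Lpr_et (f239237 IH) (Lpn (LP (LK LD1_c4 LD2_c20 LD3_c9))))))
theorem f239176 : Led Lsl_cf (LP (LK LD1_c1 LD2_c6 LD3_c27)) = (LP (LK LD1_c2 LD2_c9 LD3_c40)) :=
  Lgr Lrot11 (Lpr_ct (f239174 IH) (Lpn (LP (LK LD1_c2 LD2_c9 LD3_c40))))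
theorem f237335 : Led Lsl_dt (LP (LK LD1_c1 LD2_c59 LD3_c30)) = (LP (LK LD1_c1 LD2_c1 LD3_c41)) :=
  Lgr Lrot42 (Lpr_df (f237330 IH) (Lpn (LP (LK LD1_c1 LD2_c1 LD3_c41))))
theorem f227695 : Led Lsl_gf (LP (LK LD1_c1 LD2_c59 LD3_c30)) = (LP (LK LD1_c1 LD2_c28 LD3_c49)) :=
  Lgr Lrot141 (Lpe (K10.f56330 IH) (Lpr_dt (K10.f56329 IH) (Lpe (K10.f60715 IH) (Lpe (K1.f27854 IH) (Lpr_et (K1.f60218 IH) (Lpe (K9.f60699 IH) (Lpe (K10.f80962 IH) (Lpr_gt (K10.f80971 IH) (Lpr_df (K12.f227689 IH) (Lpr_et (K12.f227694 IH) (Lpn (LP (LK LD1_c1 LD2_c28 LD3_c49)))))))))))))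
theorem f205335 : Led Lsl_et (LP (LK LD1_c1 LD2_c1 LD3_c58)) = (LP (LK LD1_c0 LD2_c34 LD3_c4)) :=
  Lgr Lrot87 (Lpr_ef (K11.f205331 IH) (Lpn (LP (LK LD1_c0 LD2_c34 LD3_c4))))
theorem f237339 : Led Lsl_gt (LP (LK LD1_c1 LD2_c1 LD3_c41)) = (LP (LK LD1_c2 LD2_c8 LD3_c61)) :=
  Lre_g IH (LK LD1_c1 LD2_c1 LD3_c41) (LK LD1_c2 LD2_c8 LD3_c61) Lrfl Lrfl
theorem f237342 : Led Lsl_dt (LP (LK LD1_c1 LD2_c1 LD3_c58)) = (LP (LK LD1_c2 LD2_c8 LD3_c61)) :=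
  Lgr Lrot56 (Lpr_et (f205335 IH) (Lpr_gt (K10.f185151 IH) (Lpr_ef (K12.f212015 IH) (Lpe (K10.f80962 IH) (Lpr_gt (K10.f80971 IH) (Lpr_df (K12.f227689 IH) (Lpr_et (K12.f227694 IH) (Lpe (f227695 IH) (Lpr_dt (f237335 IH) (Lpr_gt (f237339 IH) (Lpn (LP (LK LD1_c2 LD2_c8 LD3_c61)))))))))))))
theorem f172711 : Led Lsl_ct (LP (LK LD1_c2 LD2_c26 LD3_c26)) = (LP (LK LD1_c4 LD2_c57 LD3_c0)) :=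
  Lre_c IH (LK LD1_c2 LD2_c26 LD3_c26) (LK LD1_c4 LD2_c57 LD3_c0) Lrfl Lrfl
theorem f241381 : Led Lsl_gt (LP (LK LD1_c2 LD2_c8 LD3_c61)) = (LP (LK LD1_c2 LD2_c26 LD3_c26)) :=
  Lgr Lrot9 (Lpe (f237342 IH) (Lpr_gt (K11.f205626 IH) (Lpr_ct (K11.f36467 IH) (Lpe (f210861 IH) (Lpe (f239176 IH) (Lpe (f59087 IH) (Lpr_cf (f239238 IH) (Lpr_gf (f241378 IH) (Lpe (f172711 IH) (Lpn (LP (LK LD1_c2 LD2_c26 LD3_c26))))))))))))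
theorem f175824 : Led Lsl_et (LP (LK LD1_c2 LD2_c28 LD3_c1)) = (LP (LK LD1_c1 LD2_c11 LD3_c9)) :=
  Lre_e IH (LK LD1_c2 LD2_c28 LD3_c1) (LK LD1_c1 LD2_c11 LD3_c9) Lrfl Lrfl
theorem f241383 : Led Lsl_dt (LP (LK LD1_c2 LD2_c28 LD3_c1)) = (LP (LK LD1_c2 LD2_c26 LD3_c26)) :=
  Lgr Lrot56 (Lpr_et (f175824 IH) (Lpe (K9.f175814 IH) (Lpe (K10.f59612 IH) (Lpr_dt (K1.f59584 IH) (Lpe (K1.f59615 IH) (Lpe (K1.f16642 IH) (Lpr_et (K4.f59343 IH) (Lpr_gt (K11.f59388 IH) (Lpr_dt (f237342 IH) (Lpr_gt (f241381 IH) (Lpn (LP (LK LD1_c2 LD2_c26 LD3_c26)))))))))))))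
theorem f196379 : Led Lsl_ft (LP (LK LD1_c2 LD2_c26 LD3_c26)) = (LP (LK LD1_c1 LD2_c10 LD3_c31)) :=
  Lre_f IH (LK LD1_c2 LD2_c26 LD3_c26) (LK LD1_c1 LD2_c10 LD3_c31) Lrfl Lrfl
theorem f196376 : Led Lsl_et (LP (LK LD1_c2 LD2_c0 LD3_c2)) = (LP (LK LD1_c0 LD2_c56 LD3_c56)) :=
  Lre_e IH (LK LD1_c2 LD2_c0 LD3_c2) (LK LD1_c0 LD2_c56 LD3_c56) Lrfl Lrfl
theorem f196374 : Led Lsl_et (LP (LK LD1_c0 LD2_c32 LD3_c40)) = (LP (LK LD1_c1 LD2_c10 LD3_c31)) :=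
  Lre_e IH (LK LD1_c0 LD2_c32 LD3_c40) (LK LD1_c1 LD2_c10 LD3_c31) Lrfl Lrfl
theorem f196377 : Led Lsl_df (LP (LK LD1_c2 LD2_c0 LD3_c2)) = (LP (LK LD1_c1 LD2_c10 LD3_c31)) :=
  Lgr Lrot70 (Lpr_et (f196376 IH) (Lpr_dt (K12.f190885 IH) (Lpr_et (K12.f196375 IH) (Lpr_dt (K12.f196372 IH) (Lpr_et (f196374 IH) (Lpn (LP (LK LD1_c1 LD2_c10 LD3_c31))))))))
theorem f241391 : Led Lsl_ff (LP (LK LD1_c2 LD2_c28 LD3_c1)) = (LP (LK LD1_c2 LD2_c0 LD3_c2)) :=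
  Lgr Lrot19 (Lpr_dt (f241383 IH) (Lpr_ft (f196379 IH) (Lpe (f196377 IH) (Lpn (LP (LK LD1_c2 LD2_c0 LD3_c2))))))
theorem f198062 : Led Lsl_gf (LP (LK LD1_c0 LD2_c54 LD3_c32)) = (LP (LK LD1_c1 LD2_c5 LD3_c55)) :=
  Lgr Lrot145 (Lpe (K10.f59344 IH) (Lpr_et (K10.f59348 IH) (Lpr_gt (K1.f59351 IH) (Lpr_dt (K1.f13642 IH) (Lpr_gt (K0.f13647 IH) (Lpr_df (K1.f37439 IH) (Lpr_et (K1.f37441 IH) (Lpr_gt (K10.f56070 IH) (Lpr_ef (K10.f198050 IH) (Lpr_dt (K11.f176685 IH) (Lpn (LP (LK LD1_c1 LD2_c5 LD3_c55)))))))))))))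
theorem f190896 : Led Lsl_et (LP (LK LD1_c0 LD2_c56 LD3_c56)) = (LP (LK LD1_c2 LD2_c0 LD3_c2)) :=
  Lre_e IH (LK LD1_c0 LD2_c56 LD3_c56) (LK LD1_c2 LD2_c0 LD3_c2) Lrfl Lrfl
theorem f198064 : Led Lsl_gt (LP (LK LD1_c2 LD2_c0 LD3_c2)) = (LP (LK LD1_c2 LD2_c17 LD3_c56)) :=
  Lgr Lrot137 (Lpe (f190896 IH) (Lpr_dt (K12.f190885 IH) (Lpr_gf (K10.f190883 IH) (Lpe (K1.f27847 IH) (Lpr_et (K1.f56056 IH) (Lpe (K1.f59351 IH) (Lpe (K10.f59348 IH) (Lpr_dt (K10.f59344 IH) (Lpr_gf (f198062 IH) (Lpe (K11.f176685 IH) (Lpn (LP (LK LD1_c2 LD2_c17 LD3_c56)))))))))))))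
theorem f101376 : Led Lsl_et (LP (LK LD1_c1 LD2_c2 LD3_c22)) = (LP (LK LD1_c2 LD2_c10 LD3_c43)) :=
  Lre_e IH (LK LD1_c1 LD2_c2 LD3_c22) (LK LD1_c2 LD2_c10 LD3_c43) Lrfl Lrfl
theorem f227556 : Led Lsl_gf (LP (LK LD1_c2 LD2_c10 LD3_c43)) = (LP (LK LD1_c2 LD2_c17 LD3_c56)) :=
  Lgr Lrot141 (Lpe (f101376 IH) (Lpr_dt (K10.f101298 IH) (Lpe (K12.f210955 IH) (Lpr_df (K12.f198343 IH) (Lpe (K12.f198345 IH) (Lpr_gt (K10.f173298 IH) (Lpe (K10.f193384 IH) (Lpr_gt (K12.f227538 IH) (Lpe (K10.f56071 IH) (Lpr_et (K11.f198060 IH) (Lpn (LP (LK LD1_c2 LD2_c17 LD3_c56)))))))))))))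
theorem f241399 : Led Lsl_at (LP (LK LD1_c2 LD2_c28 LD3_c1)) = (LP (LK LD1_c2 LD2_c10 LD3_c43)) :=
  Lgr Lrot26 (Lpr_ff (f241391 IH) (Lpr_gt (f198064 IH) (Lpe (f227556 IH) (Lpn (LP (LK LD1_c2 LD2_c10 LD3_c43))))))
theorem f175843 : Led Lsl_et (LP (LK LD1_c1 LD2_c11 LD3_c9)) = (LP (LK LD1_c2 LD2_c28 LD3_c1)) :=
  Lre_e IH (LK LD1_c1 LD2_c11 LD3_c9) (LK LD1_c2 LD2_c28 LD3_c1) Lrfl Lrfl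
theorem f36332 : Led Lsl_et (LP (LK LD1_c2 LD2_c10 LD3_c43)) = (LP (LK LD1_c1 LD2_c2 LD3_c22)) :=
  Lre_e IH (LK LD1_c2 LD2_c10 LD3_c43) (LK LD1_c1 LD2_c2 LD3_c22) Lrfl Lrfl
theorem f241405 : Led Lsl_af (LP (LK LD1_c1 LD2_c11 LD3_c9)) = (LP (LK LD1_c1 LD2_c2 LD3_c22)) :=
  Lgr Lrot50 (Lpr_et (f175843 IH) (Lpr_at (f241399 IH) (Lpr_et (f36332 IH) (Lpn (LP (LK LD1_c1 LD2_c2 LD3_c22))))))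
theorem f241413 : Led Lsl_ft (LP (LK LD1_c1 LD2_c27 LD3_c34)) = (LP (LK LD1_c1 LD2_c2 LD3_c22)) :=
  Lgr Lrot2 (Lpe (K12.f101489 IH) (Lpr_gt (K9.f175812 IH) (Lpr_af (f241405 IH) (Lpn (LP (LK LD1_c1 LD2_c2 LD3_c22))))))
theorem f241425 : Led Lsl_ff (LP (LK LD1_c1 LD2_c27 LD3_c34)) = (LP (LK LD1_c1 LD2_c2 LD3_c22)) :=
  Lgr Lrot3 (Lpr_ft (f241413 IH) (Lpn (LP (LK LD1_c1 LD2_c2 LD3_c22))))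
theorem f241431 : Led Lsl_at (LP (LK LD1_c1 LD2_c27 LD3_c34)) = (LP (LK LD1_c1 LD2_c2 LD3_c21)) :=
  Lgr Lrot26 (Lpr_ff (f241425 IH) (Lpr_gt (K9.f36331 IH) (Lpr_gt (K9.f80923 IH) (Lpn (LP (LK LD1_c1 LD2_c2 LD3_c21))))))
theorem f241407 : Led Lsl_at (LP (LK LD1_c1 LD2_c11 LD3_c9)) = (LP (LK LD1_c1 LD2_c2 LD3_c22)) :=
  Lgr Lrot100 (Lpr_af (f241405 IH) (Lpn (LP (LK LD1_c1 LD2_c2 LD3_c22))))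
theorem f241439 : Led Lsl_ff (LP (LK LD1_c1 LD2_c11 LD3_c9)) = (LP (LK LD1_c1 LD2_c2 LD3_c21)) :=
  Lgr Lrot30 (Lpr_at (f241407 IH) (Lpe (f241425 IH) (Lpr_at (f241431 IH) (Lpn (LP (LK LD1_c1 LD2_c2 LD3_c21))))))
theorem f241445 : Led Lsl_ft (LP (LK LD1_c2 LD2_c28 LD3_c0)) = (LP (LK LD1_c2 LD2_c10 LD3_c40)) :=
  Lgr Lrot54 (Lpe (K10.f175816 IH) (Lpr_ff (f241439 IH) (Lpe (K12.f80940 IH) (Lpn (LP (LK LD1_c2 LD2_c10 LD3_c40))))))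
theorem f240913 : Led Lsl_et (LP (LK LD1_c1 LD2_c13 LD3_c36)) = (LP (LK LD1_c2 LD2_c33 LD3_c18)) :=
  Lre_e IH (LK LD1_c1 LD2_c13 LD3_c36) (LK LD1_c2 LD2_c33 LD3_c18) Lrfl Lrfl
theorem f240914 : Led Lsl_df (LP (LK LD1_c1 LD2_c27 LD3_c34)) = (LP (LK LD1_c2 LD2_c33 LD3_c18)) :=
  Lgr Lrot70 (Lpr_et (K12.f175012 IH) (Lpr_dt (K12.f27879 IH) (Lpr_et (f240545 IH) (Lpr_dt (f240897 IH) (Lpr_et (f240913 IH) (Lpn (LP (LK LD1_c2 LD2_c33 LD3_c18))))))))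
theorem f241435 : Led Lsl_af (LP (LK LD1_c2 LD2_c33 LD3_c18)) = (LP (LK LD1_c2 LD2_c10 LD3_c40)) :=
  Lgr Lrot117 (Lpe (f240914 IH) (Lpr_at (f241431 IH) (Lpr_dt (K10.f80926 IH) (Lpn (LP (LK LD1_c2 LD2_c10 LD3_c40))))))
theorem f241457 : Led Lsl_ct (LP (LK LD1_c5 LD2_c12 LD3_c55)) = (LP (LK LD1_c2 LD2_c33 LD3_c18)) :=
  Lre_c IH (LK LD1_c5 LD2_c12 LD3_c55) (LK LD1_c2 LD2_c33 LD3_c18) Lrfl Lrfl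
theorem f241458 : Led Lsl_dt (LP (LK LD1_c8 LD2_c2 LD3_c40)) = (LP (LK LD1_c5 LD2_c12 LD3_c55)) :=
  Lgr Lrot120 (Lpr_cf (f241185 IH) (Lpe (f241197 IH) (Lpe (f196251 IH) (Lpe (f175821 IH) (Lpe (K10.f100664 IH) (Lpe (K10.f175823 IH) (Lpr_ft (f241445 IH) (Lpe (f241435 IH) (Lpe (f241457 IH) (Lpn (LP (LK LD1_c5 LD2_c12 LD3_c55))))))))))))
theorem f241471 : Led Lsl_ct (LP (LK LD1_c2 LD2_c33 LD3_c18)) = (LP (LK LD1_c5 LD2_c12 LD3_c55)) :=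
  Lre_c IH (LK LD1_c2 LD2_c33 LD3_c18) (LK LD1_c5 LD2_c12 LD3_c55) Lrfl Lrfl
theorem f241455 : Led Lsl_gt (LP (LK LD1_c2 LD2_c17 LD3_c57)) = (LP (LK LD1_c2 LD2_c33 LD3_c18)) :=
  Lgr Lrot46 (Lpr_gf (K10.f185987 IH) (Lpr_ft (f241445 IH) (Lpe (f241435 IH) (Lpn (LP (LK LD1_c2 LD2_c33 LD3_c18))))))
theorem f176686 : Led Lsl_ct (LP (LK LD1_c4 LD2_c41 LD3_c39)) = (LP (LK LD1_c2 LD2_c17 LD3_c57)) :=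
  Lre_c IH (LK LD1_c4 LD2_c41 LD3_c39) (LK LD1_c2 LD2_c17 LD3_c57) Lrfl Lrfl
theorem f241474 : Led Lsl_gt (LP (LK LD1_c5 LD2_c46 LD3_c37)) = (LP (LK LD1_c4 LD2_c41 LD3_c39)) :=
  Lgr Lrot146 (Lpr_dt (K11.f69367 IH) (Lpr_gt (K11.f69366 IH) (Lpr_ct (K12.f69381 IH) (Lpr_gt (f69382 IH) (Lpe (f241185 IH) (Lpr_dt (f241458 IH) (Lpe (f241471 IH) (Lpe (f241455 IH) (Lpe (f176686 IH) (Lpn (LP (LK LD1_c4 LD2_c41 LD3_c39))))))))))))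
theorem f227494 : Led Lsl_gt (LP (LK LD1_c5 LD2_c0 LD3_c29)) = (LP (LK LD1_c3 LD2_c3 LD3_c55)) :=
  Lgr Lrot137 (Lpr_ef (f227490 IH) (Lpr_dt (f227470 IH) (Lpe (K12.f227473 IH) (Lpe (K12.f27230 IH) (Lpr_et (K1.f27265 IH) (Lpe (K1.f34707 IH) (Lpe (K1.f29229 IH) (Lpr_dt (K1.f29217 IH) (Lpe (K10.f29234 IH) (Lpr_df (K10.f37196 IH) (Lpn (LP (LK LD1_c3 LD2_c3 LD3_c55)))))))))))))
theorem f101405 : Led Lsl_gt (LP (LK LD1_c4 LD2_c26 LD3_c55)) = (LP (LK LD1_c8 LD2_c51 LD3_c36)) :=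
  Lre_g IH (LK LD1_c4 LD2_c26 LD3_c55) (LK LD1_c8 LD2_c51 LD3_c36) Lrfl Lrfl
theorem f198052 : Led Lsl_dt (LP (LK LD1_c8 LD2_c51 LD3_c36)) = (LP (LK LD1_c4 LD2_c41 LD3_c39)) :=
  Lgr Lrot105 (Lpe (f101405 IH) (Lpe (K12.f101409 IH) (Lpe (K9.f101398 IH) (Lpe (K9.f101021 IH) (Lpr_gt (K9.f80923 IH) (Lpr_dt (K10.f80926 IH) (Lpr_gt (K10.f80927 IH) (Lpr_dt (K10.f198043 IH) (Lpe (f176686 IH) (Lpn (LP (LK LD1_c4 LD2_c41 LD3_c39))))))))))))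
theorem f198054 : Led Lsl_df (LP (LK LD1_c8 LD2_c51 LD3_c36)) = (LP (LK LD1_c4 LD2_c41 LD3_c39)) :=
  Lgr Lrot38 (Lpr_dt (f198052 IH) (Lpn (LP (LK LD1_c4 LD2_c41 LD3_c39))))
theorem f241478 : Led Lsl_gf (LP (LK LD1_c4 LD2_c26 LD3_c57)) = (LP (LK LD1_c8 LD2_c51 LD3_c36)) :=
  Lgr Lrot143 (Lpr_dt (K12.f43028 IH) (Lpr_cf (K10.f197997 IH) (Lpr_df (K10.f37196 IH) (Lpe (f227494 IH) (Lpr_df (f210910 IH) (Lpr_gf (f227496 IH) (Lpe (f193969 IH) (Lpr_gt (f241474 IH) (Lpe (f198054 IH) (Lpn (LP (LK LD1_c8 LD2_c51 LD3_c36))))))))))))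
theorem f198117 : Led Lsl_df (LP (LK LD1_c8 LD2_c51 LD3_c44)) = (LP (LK LD1_c8 LD2_c51 LD3_c41)) :=
  Lgr Lrot43 (Lpr_ct (K12.f101044 IH) (Lpr_dt (K12.f198006 IH) (Lpr_ct (K12.f26040 IH) (Lpr_dt (K10.f192658 IH) (Lpr_ct (K9.f175810 IH) (Lpr_dt (K12.f101409 IH) (Lpr_ct (K12.f192769 IH) (Lpr_dt (f198102 IH) (Lpr_ct (K12.f101046 IH) (Lpr_dt (f197920 IH) (Lpr_ct (K10.f37198 IH) (Lpe (K10.f37196 IH) (Lpe (K10.f197997 IH) (Lpr_dt (K12.f101314 IH) (Lpr_ct (K12.f101316 IH) (Lpn (LP (LK LD1_c8 LD2_c51 LD3_c41))))))))))))))))))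
theorem f101412 : Led Lsl_ct (LP (LK LD1_c16 LD2_c33 LD3_c53)) = (LP (LK LD1_c8 LD2_c51 LD3_c36)) :=
  Lre_c IH (LK LD1_c16 LD2_c33 LD3_c53) (LK LD1_c8 LD2_c51 LD3_c36) Lrfl Lrfl
theorem f241487 : Led Lsl_gt (LP (LK LD1_c8 LD2_c51 LD3_c53)) = (LP (LK LD1_c16 LD2_c33 LD3_c53)) :=
  Lgr Lrot9 (Lpr_df (K12.f198372 IH) (Lpr_gt (K12.f101031 IH) (Lpr_ct (K9.f43026 IH) (Lpr_gt (K12.f38637 IH) (Lpr_ct (K12.f101045 IH) (Lpr_df (f198117 IH) (Lpe (K12.f101316 IH) (Lpr_gf (f241478 IH) (Lpe (f101412 IH) (Lpn (LP (LK LD1_c16 LD2_c33 LD3_c53))))))))))))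
theorem f227751 : Led Lsl_et (LP (LK LD1_c1 LD2_c28 LD3_c13)) = (LP (LK LD1_c3 LD2_c4 LD3_c28)) :=
  Lre_e IH (LK LD1_c1 LD2_c28 LD3_c13) (LK LD1_c3 LD2_c4 LD3_c28) Lrfl Lrfl
theorem f227752 : Led Lsl_ct (LP (LK LD1_c3 LD2_c4 LD3_c28)) = (LP (LK LD1_c2 LD2_c9 LD3_c33)) :=
  Lgr Lrot15 (Lpe (f227751 IH) (Lpr_cf (K12.f227743 IH) (Lpe (K12.f36451 IH) (Lpn (LP (LK LD1_c2 LD2_c9 LD3_c33))))))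
theorem f241259 : Led Lsl_gf (LP (LK LD1_c3 LD2_c4 LD3_c28)) = (LP (LK LD1_c6 LD2_c14 LD3_c5)) :=
  Lgr Lrot104 (Lpr_ct (f227752 IH) (Lpr_df (K12.f198343 IH) (Lpe (f164294 IH) (Lpr_gf (f241077 IH) (Lpe (f241073 IH) (Lpr_gf (f241250 IH) (Lpe (f210912 IH) (Lpr_gt (f227494 IH) (Lpr_ct (K12.f37203 IH) (Lpn (LP (LK LD1_c6 LD2_c14 LD3_c5))))))))))))
theorem f38108 : Led Lsl_dt (LP (LK LD1_c3 LD2_c4 LD3_c28)) = (LP (LK LD1_c6 LD2_c15 LD3_c2)) :=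
  Lre_d IH (LK LD1_c3 LD2_c4 LD3_c28) (LK LD1_c6 LD2_c15 LD3_c2) Lrfl Lrfl
theorem f241489 : Led Lsl_ct (LP (LK LD1_c6 LD2_c15 LD3_c2)) = (LP (LK LD1_c12 LD2_c8 LD3_c26)) :=
  Lre_c IH (LK LD1_c6 LD2_c15 LD3_c2) (LK LD1_c12 LD2_c8 LD3_c26) Lrfl Lrfl
theorem f241490 : Led Lsl_df (LP (LK LD1_c12 LD2_c8 LD3_c26)) = (LP (LK LD1_c16 LD2_c33 LD3_c53)) :=
  Lgr Lrot84 (Lpe (f241489 IH) (Lpe (f38108 IH) (Lpr_gf (f241259 IH) (Lpe (f197920 IH) (Lpe (K12.f101061 IH) (Lpr_cf (K9.f101003 IH) (Lpe (K12.f101099 IH) (Lpe (K12.f198372 IH) (Lpr_gt (f241487 IH) (Lpn (LP (LK LD1_c16 LD2_c33 LD3_c53))))))))))))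
theorem f241500 : Led Lsl_dt (LP (LK LD1_c12 LD2_c8 LD3_c26)) = (LP (LK LD1_c16 LD2_c33 LD3_c53)) :=
  Lgr Lrot42 (Lpr_df (f241490 IH) (Lpn (LP (LK LD1_c16 LD2_c33 LD3_c53))))
theorem f101406 : Led Lsl_ct (LP (LK LD1_c8 LD2_c51 LD3_c36)) = (LP (LK LD1_c16 LD2_c33 LD3_c53)) :=
  Lre_c IH (LK LD1_c8 LD2_c51 LD3_c36) (LK LD1_c16 LD2_c33 LD3_c53) Lrfl Lrfl
theorem f69370 : Led Lsl_df (LP (LK LD1_c5 LD2_c46 LD3_c37)) = (LP (LK LD1_c6 LD2_c13 LD3_c9)) :=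
  Lgr Lrot38 (Lpr_dt (K11.f69367 IH) (Lpn (LP (LK LD1_c6 LD2_c13 LD3_c9))))
theorem f175019 : Led Lsl_dt (LP (LK LD1_c3 LD2_c3 LD3_c22)) = (LP (LK LD1_c6 LD2_c13 LD3_c13)) :=
  Lre_d IH (LK LD1_c3 LD2_c3 LD3_c22) (LK LD1_c6 LD2_c13 LD3_c13) Lrfl Lrfl
theorem f227898 : Led Lsl_ct (LP (LK LD1_c12 LD2_c5 LD3_c23)) = (LP (LK LD1_c6 LD2_c13 LD3_c13)) :=
  Lre_c IH (LK LD1_c12 LD2_c5 LD3_c23) (LK LD1_c6 LD2_c13 LD3_c13) Lrfl Lrfl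
theorem f196252 : Led Lsl_cf (LP (LK LD1_c12 LD2_c5 LD3_c17)) = (LP (LK LD1_c8 LD2_c2 LD3_c41)) :=
  Lgr Lrot169 (Lpr_gt (f101106 IH) (Lpr_ct (f101054 IH) (Lpe (K9.f69365 IH) (Lpe (K9.f69378 IH) (Lpr_gf (K9.f175814 IH) (Lpe (f175809 IH) (Lpr_gf (K10.f196236 IH) (Lpe (K1.f36724 IH) (Lpr_gt (K12.f36779 IH) (Lpn (LP (LK LD1_c8 LD2_c2 LD3_c41))))))))))))
theorem f227899 : Led Lsl_df (LP (LK LD1_c12 LD2_c5 LD3_c23)) = (LP (LK LD1_c12 LD2_c5 LD3_c17)) :=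
  Lgr Lrot174 (Lpr_ct (f227898 IH) (Lpe (f175019 IH) (Lpr_gf (K12.f227891 IH) (Lpe (K1.f29222 IH) (Lpe (K12.f29235 IH) (Lpe (f196252 IH) (Lpr_gt (f101106 IH) (Lpr_dt (f101097 IH) (Lpe (f101323 IH) (Lpn (LP (LK LD1_c12 LD2_c5 LD3_c17))))))))))))
theorem f241509 : Led Lsl_gf (LP (LK LD1_c12 LD2_c8 LD3_c26)) = (LP (LK LD1_c12 LD2_c5 LD3_c23)) :=
  Lgr Lrot143 (Lpr_dt (f241500 IH) (Lpe (f101406 IH) (Lpr_df (f198054 IH) (Lpe (f241474 IH) (Lpr_df (f69370 IH) (Lpr_gf (K11.f101328 IH) (Lpe (f42993 IH) (Lpe (f101323 IH) (Lpe (f227899 IH) (Lpn (LP (LK LD1_c12 LD2_c5 LD3_c23))))))))))))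
theorem f227897 : Led Lsl_ct (LP (LK LD1_c6 LD2_c13 LD3_c13)) = (LP (LK LD1_c12 LD2_c5 LD3_c23)) :=
  Lre_c IH (LK LD1_c6 LD2_c13 LD3_c13) (LK LD1_c12 LD2_c5 LD3_c23) Lrfl Lrfl
theorem f204823 : Led Lsl_dt (LP (LK LD1_c8 LD2_c46 LD3_c1)) = (LP (LK LD1_c4 LD2_c24 LD3_c9)) :=
  Lre_d IH (LK LD1_c8 LD2_c46 LD3_c1) (LK LD1_c4 LD2_c24 LD3_c9) Lrfl Lrfl
theorem f227895 : Led Lsl_gt (LP (LK LD1_c6 LD2_c13 LD3_c13)) = (LP (LK LD1_c8 LD2_c46 LD3_c1)) :=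
  Lgr Lrot49 (Lpe (f175019 IH) (Lpr_gf (K12.f227891 IH) (Lpe (K1.f29224 IH) (Lpe (K12.f196232 IH) (Lpr_dt (K10.f192653 IH) (Lpr_gt (f175804 IH) (Lpr_dt (f210912 IH) (Lpe (f204818 IH) (Lpe (f204823 IH) (Lpn (LP (LK LD1_c8 LD2_c46 LD3_c1))))))))))))
theorem f198367 : Led Lsl_ct (LP (LK LD1_c6 LD2_c13 LD3_c39)) = (LP (LK LD1_c8 LD2_c51 LD3_c49)) :=
  Lgr Lrot59 (Lpr_cf (K12.f198363 IH) (Lpn (LP (LK LD1_c8 LD2_c51 LD3_c49))))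
theorem f101305 : Led Lsl_ct (LP (LK LD1_c2 LD2_c10 LD3_c41)) = (LP (LK LD1_c1 LD2_c2 LD3_c22)) :=
  Lre_c IH (LK LD1_c2 LD2_c10 LD3_c41) (LK LD1_c1 LD2_c2 LD3_c22) Lrfl Lrfl
theorem f198430 : Led Lsl_gt (LP (LK LD1_c4 LD2_c0 LD3_c33)) = (LP (LK LD1_c2 LD2_c10 LD3_c41)) :=
  Lgr Lrot9 (Lpe (K1.f29214 IH) (Lpe (K10.f193739 IH) (Lpr_ct (f198367 IH) (Lpr_gt (K12.f101031 IH) (Lpr_ct (K9.f43026 IH) (Lpe (K9.f35553 IH) (Lpe (K9.f101021 IH) (Lpe (K9.f36331 IH) (Lpe (f101305 IH) (Lpn (LP (LK LD1_c2 LD2_c10 LD3_c41))))))))))))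
theorem f36895 : Led Lsl_ft (LP (LK LD1_c4 LD2_c0 LD3_c33)) = (LP (LK LD1_c1 LD2_c57 LD3_c15)) :=
  Lre_f IH (LK LD1_c4 LD2_c0 LD3_c33) (LK LD1_c1 LD2_c57 LD3_c15) Lrfl Lrfl
theorem f36774 : Led Lsl_af (LP (LK LD1_c1 LD2_c27 LD3_c48)) = (LP (LK LD1_c1 LD2_c57 LD3_c15)) :=
  Lgr Lrot117 (Lpr_dt (K10.f36773 IH) (Lpr_at (K1.f36761 IH) (Lpr_dt (K1.f29222 IH) (Lpn (LP (LK LD1_c1 LD2_c57 LD3_c15))))))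
theorem f198438 : Led Lsl_gf (LP (LK LD1_c1 LD2_c27 LD3_c48)) = (LP (LK LD1_c2 LD2_c10 LD3_c41)) :=
  Lgr Lrot76 (Lpr_af (f36774 IH) (Lpe (f36895 IH) (Lpr_gt (f198430 IH) (Lpn (LP (LK LD1_c2 LD2_c10 LD3_c41))))))
theorem f198443 : Led Lsl_gt (LP (LK LD1_c3 LD2_c3 LD3_c39)) = (LP (LK LD1_c6 LD2_c13 LD3_c38)) :=
  Lre_g IH (LK LD1_c3 LD2_c3 LD3_c39) (LK LD1_c6 LD2_c13 LD3_c38) Lrfl Lrfl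
theorem f101301 : Led Lsl_ct (LP (LK LD1_c1 LD2_c2 LD3_c22)) = (LP (LK LD1_c2 LD2_c10 LD3_c41)) :=
  Lre_c IH (LK LD1_c1 LD2_c2 LD3_c22) (LK LD1_c2 LD2_c10 LD3_c41) Lrfl Lrfl
theorem f198444 : Led Lsl_dt (LP (LK LD1_c6 LD2_c13 LD3_c38)) = (LP (LK LD1_c4 LD2_c27 LD3_c3)) :=
  Lgr Lrot105 (Lpe (f198443 IH) (Lpe (K10.f36773 IH) (Lpr_gf (f198438 IH) (Lpe (f101301 IH) (Lpr_gt (K9.f36331 IH) (Lpr_dt (K9.f101022 IH) (Lpr_gt (K9.f80923 IH) (Lpr_dt (K10.f80926 IH) (Lpe (f101361 IH) (Lpn (LP (LK LD1_c4 LD2_c27 LD3_c3))))))))))))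
theorem f198464 : Led Lsl_df (LP (LK LD1_c6 LD2_c13 LD3_c38)) = (LP (LK LD1_c4 LD2_c27 LD3_c3)) :=
  Lgr Lrot38 (Lpr_dt (f198444 IH) (Lpn (LP (LK LD1_c4 LD2_c27 LD3_c3))))
theorem f101304 : Led Lsl_dt (LP (LK LD1_c2 LD2_c10 LD3_c41)) = (LP (LK LD1_c4 LD2_c27 LD3_c5)) :=
  Lre_d IH (LK LD1_c2 LD2_c10 LD3_c41) (LK LD1_c4 LD2_c27 LD3_c5) Lrfl Lrfl
theorem f101303 : Led Lsl_ct (LP (LK LD1_c8 LD2_c51 LD3_c58)) = (LP (LK LD1_c4 LD2_c27 LD3_c5)) :=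
  Lre_c IH (LK LD1_c8 LD2_c51 LD3_c58) (LK LD1_c4 LD2_c27 LD3_c5) Lrfl Lrfl
theorem f101407 : Led Lsl_gf (LP (LK LD1_c8 LD2_c51 LD3_c58)) = (LP (LK LD1_c16 LD2_c33 LD3_c53)) :=
  Lgr Lrot104 (Lpr_ct (f101303 IH) (Lpe (f101304 IH) (Lpe (f101301 IH) (Lpe (K9.f101296 IH) (Lpe (K9.f100659 IH) (Lpr_gf (K9.f101399 IH) (Lpe (K12.f101401 IH) (Lpr_gt (f101405 IH) (Lpr_ct (f101406 IH) (Lpn (LP (LK LD1_c16 LD2_c33 LD3_c53))))))))))))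
theorem f43023 : Led Lsl_gt (LP (LK LD1_c4 LD2_c26 LD3_c61)) = (LP (LK LD1_c8 LD2_c51 LD3_c48)) :=
  Lre_g IH (LK LD1_c4 LD2_c26 LD3_c61) (LK LD1_c8 LD2_c51 LD3_c48) Lrfl Lrfl
theorem f43024 : Led Lsl_gf (LP (LK LD1_c8 LD2_c51 LD3_c51)) = (LP (LK LD1_c8 LD2_c51 LD3_c48)) :=
  Lgr Lrot76 (Lpr_af (K12.f42985 IH) (Lpe (K12.f43022 IH) (Lpr_gt (f43023 IH) (Lpn (LP (LK LD1_c8 LD2_c51 LD3_c48))))))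
theorem f241485 : Led Lsl_df (LP (LK LD1_c8 LD2_c51 LD3_c48)) = (LP (LK LD1_c8 LD2_c51 LD3_c58)) :=
  Lgr Lrot153 (Lpe (f43024 IH) (Lpr_dt (K9.f43020 IH) (Lpe (K9.f43029 IH) (Lpe (K9.f35553 IH) (Lpe (K10.f43027 IH) (Lpe (K12.f43028 IH) (Lpr_gf (f241478 IH) (Lpe (f101412 IH) (Lpe (f101407 IH) (Lpn (LP (LK LD1_c8 LD2_c51 LD3_c58))))))))))))
theorem f241511 : Led Lsl_cf (LP (LK LD1_c6 LD2_c13 LD3_c38)) = (LP (LK LD1_c8 LD2_c51 LD3_c48)) :=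
  Lgr Lrot14 (Lpr_df (f198464 IH) (Lpe (f227498 IH) (Lpe (f204823 IH) (Lpe (f227895 IH) (Lpr_ct (f227897 IH) (Lpe (f241509 IH) (Lpr_dt (f241500 IH) (Lpe (f101407 IH) (Lpe (f241485 IH) (Lpn (LP (LK LD1_c8 LD2_c51 LD3_c48))))))))))))
theorem f241275 : Led Lsl_gt (LP (LK LD1_c6 LD2_c13 LD3_c38)) = (LP (LK LD1_c8 LD2_c2 LD3_c3)) :=
  Lgr Lrot49 (Lpr_df (f198464 IH) (Lpe (f227498 IH) (Lpr_cf (f204821 IH) (Lpe (f241250 IH) (Lpr_dt (f37973 IH) (Lpr_gt (f241273 IH) (Lpe (K1.f29207 IH) (Lpe (K1.f29213 IH) (Lpe (K1.f29214 IH) (Lpn (LP (LK LD1_c8 LD2_c2 LD3_c3))))))))))))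
theorem f101414 : Led Lsl_ct (LP (LK LD1_c4 LD2_c27 LD3_c5)) = (LP (LK LD1_c8 LD2_c51 LD3_c58)) :=
  Lre_c IH (LK LD1_c4 LD2_c27 LD3_c5) (LK LD1_c8 LD2_c51 LD3_c58) Lrfl Lrfl
theorem f241524 : Led Lsl_df (LP (LK LD1_c8 LD2_c51 LD3_c58)) = (LP (LK LD1_c8 LD2_c51 LD3_c48)) :=
  Lgr Lrot84 (Lpe (f101414 IH) (Lpe (f101304 IH) (Lpe (f198430 IH) (Lpe (K1.f29214 IH) (Lpe (f241275 IH) (Lpr_cf (f241511 IH) (Lpe (f43024 IH) (Lpr_dt (K9.f43020 IH) (Lpr_gt (f43023 IH) (Lpn (LP (LK LD1_c8 LD2_c51 LD3_c48))))))))))))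
theorem f101302 : Led Lsl_dt (LP (LK LD1_c4 LD2_c27 LD3_c5)) = (LP (LK LD1_c2 LD2_c10 LD3_c41)) :=
  Lre_d IH (LK LD1_c4 LD2_c27 LD3_c5) (LK LD1_c2 LD2_c10 LD3_c41) Lrfl Lrfl
theorem f241516 : Led Lsl_ct (LP (LK LD1_c6 LD2_c13 LD3_c38)) = (LP (LK LD1_c8 LD2_c51 LD3_c48)) :=
  Lgr Lrot59 (Lpr_cf (f241511 IH) (Lpn (LP (LK LD1_c8 LD2_c51 LD3_c48))))
theorem f101362 : Led Lsl_ct (LP (LK LD1_c2 LD2_c10 LD3_c40)) = (LP (LK LD1_c4 LD2_c27 LD3_c3)) :=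
  Lre_c IH (LK LD1_c2 LD2_c10 LD3_c40) (LK LD1_c4 LD2_c27 LD3_c3) Lrfl Lrfl
theorem f241449 : Led Lsl_ff (LP (LK LD1_c5 LD2_c0 LD3_c33)) = (LP (LK LD1_c4 LD2_c27 LD3_c3)) :=
  Lgr Lrot23 (Lpr_ct (K12.f175817 IH) (Lpr_ft (f241445 IH) (Lpr_ct (f101362 IH) (Lpn (LP (LK LD1_c4 LD2_c27 LD3_c3))))))
theorem f241539 : Led Lsl_af (LP (LK LD1_c4 LD2_c27 LD3_c6)) = (LP (LK LD1_c5 LD2_c0 LD3_c33)) :=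
  Lgr Lrot109 (Lpe (K10.f101300 IH) (Lpe (K10.f101298 IH) (Lpe (f101305 IH) (Lpe (f101302 IH) (Lpe (f101303 IH) (Lpr_df (f241524 IH) (Lpe (f241516 IH) (Lpr_df (f198464 IH) (Lpe (f241449 IH) (Lpn (LP (LK LD1_c5 LD2_c0 LD3_c33))))))))))))
theorem f175832 : Led Lsl_et (LP (LK LD1_c2 LD2_c49 LD3_c3)) = (LP (LK LD1_c5 LD2_c0 LD3_c33)) :=
  Lgr Lrot158 (Lpe (K10.f175831 IH) (Lpr_ef (K10.f175827 IH) (Lpe (K12.f175817 IH) (Lpn (LP (LK LD1_c5 LD2_c0 LD3_c33))))))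
theorem f241551 : Led Lsl_at (LP (LK LD1_c3 LD2_c4 LD3_c39)) = (LP (LK LD1_c2 LD2_c49 LD3_c3)) :=
  Lgr Lrot80 (Lpr_ef (K10.f101373 IH) (Lpr_af (f241539 IH) (Lpe (f175832 IH) (Lpn (LP (LK LD1_c2 LD2_c49 LD3_c3))))))
theorem f69939 : Led Lsl_at (LP (LK LD1_c3 LD2_c3 LD3_c52)) = (LP (LK LD1_c4 LD2_c2 LD3_c26)) :=
  Lgr Lrot100 (Lpr_af (K2.f69933 IH) (Lpn (LP (LK LD1_c4 LD2_c2 LD3_c26))))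
theorem f70021 : Led Lsl_ft (LP (LK LD1_c1 LD2_c27 LD3_c59)) = (LP (LK LD1_c3 LD2_c3 LD3_c52)) :=
  Lre_f IH (LK LD1_c1 LD2_c27 LD3_c59) (LK LD1_c3 LD2_c3 LD3_c52) Lrfl Lrfl
theorem f197821 : Led Lsl_gf (LP (LK LD1_c2 LD2_c49 LD3_c3)) = (LP (LK LD1_c1 LD2_c27 LD3_c59)) :=
  Lgr Lrot47 (Lpr_gt (K10.f197819 IH) (Lpe (f69939 IH) (Lpe (f70021 IH) (Lpn (LP (LK LD1_c1 LD2_c27 LD3_c59))))))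
theorem f241560 : Led Lsl_ff (LP (LK LD1_c3 LD2_c4 LD3_c39)) = (LP (LK LD1_c2 LD2_c49 LD3_c4)) :=
  Lgr Lrot52 (Lpr_at (f241551 IH) (Lpr_gf (f197821 IH) (Lpr_gf (f241294 IH) (Lpn (LP (LK LD1_c2 LD2_c49 LD3_c4))))))
theorem f60640 : Led Lsl_dt (LP (LK LD1_c2 LD2_c49 LD3_c4)) = (LP (LK LD1_c5 LD2_c46 LD3_c46)) :=
  Lre_d IH (LK LD1_c2 LD2_c49 LD3_c4) (LK LD1_c5 LD2_c46 LD3_c46) Lrfl Lrfl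
theorem f175005 : Led Lsl_ct (LP (LK LD1_c5 LD2_c46 LD3_c46)) = (LP (LK LD1_c11 LD2_c23 LD3_c44)) :=
  Lre_c IH (LK LD1_c5 LD2_c46 LD3_c46) (LK LD1_c11 LD2_c23 LD3_c44) Lrfl Lrfl
theorem f239507 : Led Lsl_et (LP (LK LD1_c2 LD2_c33 LD3_c20)) = (LP (LK LD1_c5 LD2_c12 LD3_c57)) :=
  Lre_e IH (LK LD1_c2 LD2_c33 LD3_c20) (LK LD1_c5 LD2_c12 LD3_c57) Lrfl Lrfl
theorem f225611 : Led Lsl_df (LP (LK LD1_c10 LD2_c4 LD3_c15)) = (LP (LK LD1_c5 LD2_c8 LD3_c55)) :=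
  Lgr Lrot38 (Lpr_dt (f225565 IH) (Lpn (LP (LK LD1_c5 LD2_c8 LD3_c55))))
theorem f227355 : Led Lsl_df (LP (LK LD1_c4 LD2_c20 LD3_c25)) = (LP (LK LD1_c8 LD2_c23 LD3_c57)) :=
  Lgr Lrot38 (Lpr_dt (f227341 IH) (Lpn (LP (LK LD1_c8 LD2_c23 LD3_c57))))
theorem f240616 : Led Lsl_gf (LP (LK LD1_c8 LD2_c23 LD3_c57)) = (LP (LK LD1_c10 LD2_c4 LD3_c15)) :=
  Lgr Lrot144 (Lpe (f227355 IH) (Lpe (K10.f31841 IH) (Lpr_dt (K11.f31803 IH) (Lpe (f31845 IH) (Lpe (f31843 IH) (Lpe (f28657 IH) (Lpe (f31844 IH) (Lpr_gf (f240614 IH) (Lpr_cf (f239493 IH) (Lpn (LP (LK LD1_c10 LD2_c4 LD3_c15))))))))))))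
theorem f240989 : Led Lsl_gf (LP (LK LD1_c5 LD2_c6 LD3_c45)) = (LP (LK LD1_c4 LD2_c12 LD3_c9)) :=
  Lgr Lrot172 (Lpr_ct (f201377 IH) (Lpr_dt (f240967 IH) (Lpe (f171663 IH) (Lpe (f171662 IH) (Lpe (K11.f171676 IH) (Lpe (f191114 IH) (Lpe (f225611 IH) (Lpe (f240616 IH) (Lpr_ct (f53298 IH) (Lpn (LP (LK LD1_c4 LD2_c12 LD3_c9))))))))))))
theorem f241083 : Led Lsl_ef (LP (LK LD1_c6 LD2_c4 LD3_c9)) = (LP (LK LD1_c4 LD2_c22 LD3_c38)) :=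
  Lgr Lrot17 (Lpr_gf (f241077 IH) (Lpe (f239507 IH) (Lpr_dt (f239502 IH) (Lpr_gf (f240989 IH) (Lpe (f53302 IH) (Lpe (f227339 IH) (Lpe (f70831 IH) (Lpr_dt (K1.f27252 IH) (Lpe (K12.f38355 IH) (Lpe (K12.f227335 IH) (Lpn (LP (LK LD1_c4 LD2_c22 LD3_c38)))))))))))))
theorem f60774 : Led Lsl_dt (LP (LK LD1_c2 LD2_c48 LD3_c61)) = (LP (LK LD1_c5 LD2_c46 LD3_c36)) :=
  Lre_d IH (LK LD1_c2 LD2_c48 LD3_c61) (LK LD1_c5 LD2_c46 LD3_c36) Lrfl Lrfl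
theorem f227679 : Led Lsl_et (LP (LK LD1_c4 LD2_c23 LD3_c0)) = (LP (LK LD1_c2 LD2_c9 LD3_c60)) :=
  Lgr Lrot158 (Lpe (K10.f80972 IH) (Lpr_ef (K12.f227677 IH) (Lpe (K12.f35472 IH) (Lpn (LP (LK LD1_c2 LD2_c9 LD3_c60))))))
theorem f225586 : Led Lsl_dt (LP (LK LD1_c4 LD2_c23 LD3_c0)) = (LP (LK LD1_c8 LD2_c43 LD3_c51)) :=
  Lre_d IH (LK LD1_c4 LD2_c23 LD3_c0) (LK LD1_c8 LD2_c43 LD3_c51) Lrfl Lrfl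
theorem f241087 : Led Lsl_gt (LP (LK LD1_c5 LD2_c46 LD3_c36)) = (LP (LK LD1_c8 LD2_c43 LD3_c51)) :=
  Lgr Lrot112 (Lpe (f60774 IH) (Lpr_et (f69372 IH) (Lpr_gf (f198349 IH) (Lpr_ef (f241083 IH) (Lpr_dt (K12.f227335 IH) (Lpe (K12.f38354 IH) (Lpe (K1.f38034 IH) (Lpr_gf (K12.f227609 IH) (Lpe (f227679 IH) (Lpr_dt (f225586 IH) (Lpn (LP (LK LD1_c8 LD2_c43 LD3_c51)))))))))))))
theorem f59294 : Led Lsl_dt (LP (LK LD1_c5 LD2_c46 LD3_c36)) = (LP (LK LD1_c2 LD2_c48 LD3_c61)) :=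
  Lre_d IH (LK LD1_c5 LD2_c46 LD3_c36) (LK LD1_c2 LD2_c48 LD3_c61) Lrfl Lrfl
theorem f60639 : Led Lsl_ct (LP (LK LD1_c11 LD2_c23 LD3_c44)) = (LP (LK LD1_c5 LD2_c46 LD3_c46)) :=
  Lre_c IH (LK LD1_c11 LD2_c23 LD3_c44) (LK LD1_c5 LD2_c46 LD3_c46) Lrfl Lrfl
theorem f227691 : Led Lsl_ct (LP (LK LD1_c8 LD2_c43 LD3_c51)) = (LP (LK LD1_c16 LD2_c20 LD3_c60)) :=
  Lre_c IH (LK LD1_c8 LD2_c43 LD3_c51) (LK LD1_c16 LD2_c20 LD3_c60) Lrfl Lrfl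
theorem f241089 : Led Lsl_gf (LP (LK LD1_c11 LD2_c23 LD3_c44)) = (LP (LK LD1_c16 LD2_c20 LD3_c60)) :=
  Lgr Lrot104 (Lpr_ct (f60639 IH) (Lpe (f60640 IH) (Lpe (f60637 IH) (Lpe (f60635 IH) (Lpe (K1.f60420 IH) (Lpr_gf (K10.f60772 IH) (Lpe (f59294 IH) (Lpr_gt (f241087 IH) (Lpr_ct (f227691 IH) (Lpn (LP (LK LD1_c16 LD2_c20 LD3_c60))))))))))))
theorem f60755 : Led Lsl_dt (LP (LK LD1_c2 LD2_c49 LD3_c0)) = (LP (LK LD1_c5 LD2_c46 LD3_c39)) :=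
  Lre_d IH (LK LD1_c2 LD2_c49 LD3_c0) (LK LD1_c5 LD2_c46 LD3_c39) Lrfl Lrfl
theorem f210744 : Led Lsl_et (LP (LK LD1_c3 LD2_c59 LD3_c60)) = (LP (LK LD1_c1 LD2_c56 LD3_c41)) :=
  Lre_e IH (LK LD1_c3 LD2_c59 LD3_c60) (LK LD1_c1 LD2_c56 LD3_c41) Lrfl Lrfl
theorem f210753 : Led Lsl_dt (LP (LK LD1_c3 LD2_c59 LD3_c60)) = (LP (LK LD1_c8 LD2_c1 LD3_c2)) :=
  Lre_d IH (LK LD1_c3 LD2_c59 LD3_c60) (LK LD1_c8 LD2_c1 LD3_c2) Lrfl Lrfl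
theorem f227655 : Led Lsl_gt (LP (LK LD1_c3 LD2_c0 LD3_c61)) = (LP (LK LD1_c2 LD2_c9 LD3_c60)) :=
  Lgr Lrot5 (Lpr_ft (K1.f38389 IH) (Lpe (K1.f38390 IH) (Lpr_gf (K12.f227609 IH) (Lpn (LP (LK LD1_c2 LD2_c9 LD3_c60))))))
theorem f227658 : Led Lsl_dt (LP (LK LD1_c2 LD2_c9 LD3_c60)) = (LP (LK LD1_c4 LD2_c25 LD3_c6)) :=
  Lre_d IH (LK LD1_c2 LD2_c9 LD3_c60) (LK LD1_c4 LD2_c25 LD3_c6) Lrfl Lrfl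
theorem f236512 : Led Lsl_gf (LP (LK LD1_c8 LD2_c1 LD3_c2)) = (LP (LK LD1_c4 LD2_c25 LD3_c6)) :=
  Lgr Lrot134 (Lpe (f210753 IH) (Lpr_et (f210744 IH) (Lpr_gt (f236497 IH) (Lpr_ef (K11.f164855 IH) (Lpr_dt (K11.f164909 IH) (Lpr_gt (f201908 IH) (Lpe (K12.f70836 IH) (Lpe (K2.f70818 IH) (Lpr_gt (f227655 IH) (Lpr_dt (f227658 IH) (Lpn (LP (LK LD1_c4 LD2_c25 LD3_c6)))))))))))))
theorem f227685 : Led Lsl_ct (LP (LK LD1_c4 LD2_c23 LD3_c0)) = (LP (LK LD1_c2 LD2_c8 LD3_c55)) :=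
  Lre_c IH (LK LD1_c4 LD2_c23 LD3_c0) (LK LD1_c2 LD2_c8 LD3_c55) Lrfl Lrfl
theorem f227686 : Led Lsl_ef (LP (LK LD1_c4 LD2_c23 LD3_c0)) = (LP (LK LD1_c2 LD2_c9 LD3_c60)) :=
  Lgr Lrot28 (Lpr_ct (f227685 IH) (Lpr_et (K12.f227681 IH) (Lpr_ct (K12.f35470 IH) (Lpn (LP (LK LD1_c2 LD2_c9 LD3_c60))))))
theorem f236570 : Led Lsl_gt (LP (LK LD1_c2 LD2_c9 LD3_c2)) = (LP (LK LD1_c4 LD2_c23 LD3_c0)) :=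
  Lgr Lrot131 (Lpe (K10.f80977 IH) (Lpr_dt (f39207 IH) (Lpr_gf (f236506 IH) (Lpe (f164952 IH) (Lpe (f236497 IH) (Lpe (f210744 IH) (Lpr_dt (f210753 IH) (Lpr_gf (f236512 IH) (Lpe (f227658 IH) (Lpe (f227686 IH) (Lpn (LP (LK LD1_c4 LD2_c23 LD3_c0)))))))))))))
theorem f240857 : Led Lsl_gf (LP (LK LD1_c5 LD2_c46 LD3_c39)) = (LP (LK LD1_c8 LD2_c43 LD3_c51)) :=
  Lgr Lrot134 (Lpe (f60755 IH) (Lpr_et (f240844 IH) (Lpr_gt (f31648 IH) (Lpe (f164876 IH) (Lpr_dt (f164952 IH) (Lpe (f236506 IH) (Lpe (f39207 IH) (Lpr_et (K10.f80977 IH) (Lpr_gt (f236570 IH) (Lpr_dt (f225586 IH) (Lpn (LP (LK LD1_c8 LD2_c43 LD3_c51)))))))))))))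
theorem f60607 : Led Lsl_dt (LP (LK LD1_c5 LD2_c46 LD3_c39)) = (LP (LK LD1_c2 LD2_c49 LD3_c0)) :=
  Lre_d IH (LK LD1_c5 LD2_c46 LD3_c39) (LK LD1_c2 LD2_c49 LD3_c0) Lrfl Lrfl
theorem f60603 : Led Lsl_ft (LP (LK LD1_c5 LD2_c46 LD3_c42)) = (LP (LK LD1_c11 LD2_c23 LD3_c39)) :=
  Lre_f IH (LK LD1_c5 LD2_c46 LD3_c42) (LK LD1_c11 LD2_c23 LD3_c39) Lrfl Lrfl
theorem f59286 : Led Lsl_gt (LP (LK LD1_c5 LD2_c46 LD3_c42)) = (LP (LK LD1_c11 LD2_c23 LD3_c35)) :=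
  Lre_g IH (LK LD1_c5 LD2_c46 LD3_c42) (LK LD1_c11 LD2_c23 LD3_c35) Lrfl Lrfl
theorem f60604 : Led Lsl_gt (LP (LK LD1_c11 LD2_c23 LD3_c35)) = (LP (LK LD1_c11 LD2_c23 LD3_c38)) :=
  Lgr Lrot46 (Lpe (f59286 IH) (Lpr_ft (f60603 IH) (Lpr_at (K1.f60591 IH) (Lpn (LP (LK LD1_c11 LD2_c23 LD3_c38))))))
theorem f241093 : Led Lsl_dt (LP (LK LD1_c11 LD2_c23 LD3_c44)) = (LP (LK LD1_c11 LD2_c23 LD3_c35)) :=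
  Lgr Lrot57 (Lpr_gf (f241089 IH) (Lpe (f227691 IH) (Lpe (f240857 IH) (Lpr_dt (f60607 IH) (Lpr_gt (f60606 IH) (Lpr_dt (K1.f56605 IH) (Lpe (K1.f60511 IH) (Lpe (K1.f60590 IH) (Lpe (f60604 IH) (Lpn (LP (LK LD1_c11 LD2_c23 LD3_c35))))))))))))
theorem f37239 : Led Lsl_ft (LP (LK LD1_c3 LD2_c3 LD3_c51)) = (LP (LK LD1_c6 LD2_c14 LD3_c2)) :=
  Lre_f IH (LK LD1_c3 LD2_c3 LD3_c51) (LK LD1_c6 LD2_c14 LD3_c2) Lrfl Lrfl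
theorem f69935 : Led Lsl_gt (LP (LK LD1_c3 LD2_c3 LD3_c51)) = (LP (LK LD1_c6 LD2_c13 LD3_c61)) :=
  Lre_g IH (LK LD1_c3 LD2_c3 LD3_c51) (LK LD1_c6 LD2_c13 LD3_c61) Lrfl Lrfl
theorem f69936 : Led Lsl_gt (LP (LK LD1_c6 LD2_c13 LD3_c61)) = (LP (LK LD1_c8 LD2_c5 LD3_c25)) :=
  Lgr Lrot46 (Lpe (f69935 IH) (Lpr_ft (f37239 IH) (Lpr_at (K2.f69879 IH) (Lpn (LP (LK LD1_c8 LD2_c5 LD3_c25))))))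
theorem f241096 : Led Lsl_df (LP (LK LD1_c11 LD2_c23 LD3_c44)) = (LP (LK LD1_c11 LD2_c23 LD3_c35)) :=
  Lgr Lrot38 (Lpr_dt (f241093 IH) (Lpn (LP (LK LD1_c11 LD2_c23 LD3_c35))))
theorem f241298 : Led Lsl_cf (LP (LK LD1_c6 LD2_c13 LD3_c61)) = (LP (LK LD1_c11 LD2_c23 LD3_c35)) :=
  Lgr Lrot166 (Lpr_gt (f69936 IH) (Lpr_dt (K2.f69781 IH) (Lpr_gt (f241291 IH) (Lpr_dt (f60640 IH) (Lpr_ct (f175005 IH) (Lpr_df (f241096 IH) (Lpe (f59286 IH) (Lpe (K1.f60590 IH) (Lpe (f60604 IH) (Lpn (LP (LK LD1_c11 LD2_c23 LD3_c35))))))))))))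
theorem f80965 : Led Lsl_ft (LP (LK LD1_c2 LD2_c8 LD3_c57)) = (LP (LK LD1_c1 LD2_c1 LD3_c39)) :=
  Lre_f IH (LK LD1_c2 LD2_c8 LD3_c57) (LK LD1_c1 LD2_c1 LD3_c39) Lrfl Lrfl
theorem f239392 : Led Lsl_ef (LP (LK LD1_c2 LD2_c8 LD3_c57)) = (LP (LK LD1_c2 LD2_c26 LD3_c26)) :=
  Lgr Lrot21 (Lpr_ft (f80965 IH) (Lpr_et (K9.f80917 IH) (Lpr_ft (f239384 IH) (Lpr_et (f196374 IH) (Lpr_ft (f196380 IH) (Lpn (LP (LK LD1_c2 LD2_c26 LD3_c26))))))))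
theorem f241389 : Led Lsl_df (LP (LK LD1_c1 LD2_c20 LD3_c37)) = (LP (LK LD1_c2 LD2_c8 LD3_c57)) :=
  Lgr Lrot70 (Lpr_et (K10.f175834 IH) (Lpr_dt (K10.f175823 IH) (Lpr_et (f175843 IH) (Lpr_dt (f241383 IH) (Lpe (f239392 IH) (Lpn (LP (LK LD1_c2 LD2_c8 LD3_c57))))))))
theorem f227741 : Led Lsl_ct (LP (LK LD1_c4 LD2_c22 LD3_c61)) = (LP (LK LD1_c2 LD2_c8 LD3_c57)) :=
  Lre_c IH (LK LD1_c4 LD2_c22 LD3_c61) (LK LD1_c2 LD2_c8 LD3_c57) Lrfl Lrfl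
theorem f241562 : Led Lsl_dt (LP (LK LD1_c6 LD2_c13 LD3_c61)) = (LP (LK LD1_c4 LD2_c22 LD3_c61)) :=
  Lgr Lrot140 (Lpr_cf (f241298 IH) (Lpe (f241093 IH) (Lpe (f175005 IH) (Lpe (f60640 IH) (Lpe (f241560 IH) (Lpr_at (f241551 IH) (Lpe (K10.f175831 IH) (Lpr_df (f241389 IH) (Lpe (f227741 IH) (Lpn (LP (LK LD1_c4 LD2_c22 LD3_c61))))))))))))
theorem f37234 : Led Lsl_dt (LP (LK LD1_c1 LD2_c27 LD3_c59)) = (LP (LK LD1_c3 LD2_c3 LD3_c51)) :=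
  Lre_d IH (LK LD1_c1 LD2_c27 LD3_c59) (LK LD1_c3 LD2_c3 LD3_c51) Lrfl Lrfl
theorem f60642 : Led Lsl_ct (LP (LK LD1_c2 LD2_c49 LD3_c4)) = (LP (LK LD1_c1 LD2_c20 LD3_c38)) :=
  Lre_c IH (LK LD1_c2 LD2_c49 LD3_c4) (LK LD1_c1 LD2_c20 LD3_c38) Lrfl Lrfl
theorem f227742 : Led Lsl_ct (LP (LK LD1_c2 LD2_c8 LD3_c57)) = (LP (LK LD1_c4 LD2_c22 LD3_c61)) :=
  Lre_c IH (LK LD1_c2 LD2_c8 LD3_c57) (LK LD1_c4 LD2_c22 LD3_c61) Lrfl Lrfl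
theorem f241571 : Led Lsl_dt (LP (LK LD1_c1 LD2_c20 LD3_c37)) = (LP (LK LD1_c2 LD2_c8 LD3_c57)) :=
  Lgr Lrot105 (Lpe (K10.f68603 IH) (Lpr_df (K1.f59595 IH) (Lpe (f60634 IH) (Lpe (f60642 IH) (Lpe (f241294 IH) (Lpr_dt (f37234 IH) (Lpr_gt (f69935 IH) (Lpr_dt (f241562 IH) (Lpe (f227742 IH) (Lpn (LP (LK LD1_c2 LD2_c8 LD3_c57))))))))))))
theorem f225585 : Led Lsl_dt (LP (LK LD1_c8 LD2_c43 LD3_c51)) = (LP (LK LD1_c4 LD2_c23 LD3_c0)) :=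
  Lre_d IH (LK LD1_c8 LD2_c43 LD3_c51) (LK LD1_c4 LD2_c23 LD3_c0) Lrfl Lrfl
theorem f241579 : Led Lsl_gf (LP (LK LD1_c3 LD2_c5 LD3_c37)) = (LP (LK LD1_c2 LD2_c8 LD3_c57)) :=
  Lgr Lrot143 (Lpe (K12.f227689 IH) (Lpe (f227685 IH) (Lpe (f225585 IH) (Lpe (f241087 IH) (Lpe (f60774 IH) (Lpe (K10.f59293 IH) (Lpe (K1.f59284 IH) (Lpr_gt (K10.f68603 IH) (Lpr_dt (f241571 IH) (Lpn (LP (LK LD1_c2 LD2_c8 LD3_c57))))))))))))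
theorem f239216 : Led Lsl_et (LP (LK LD1_c1 LD2_c1 LD3_c38)) = (LP (LK LD1_c2 LD2_c8 LD3_c54)) :=
  Lre_e IH (LK LD1_c1 LD2_c1 LD3_c38) (LK LD1_c2 LD2_c8 LD3_c54) Lrfl Lrfl
theorem f181718 : Led Lsl_gt (LP (LK LD1_c2 LD2_c8 LD3_c54)) = (LP (LK LD1_c4 LD2_c22 LD3_c59)) :=
  Lre_g IH (LK LD1_c2 LD2_c8 LD3_c54) (LK LD1_c4 LD2_c22 LD3_c59) Lrfl Lrfl
theorem f181726 : Led Lsl_dt (LP (LK LD1_c4 LD2_c22 LD3_c59)) = (LP (LK LD1_c8 LD2_c43 LD3_c49)) :=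
  Lre_d IH (LK LD1_c4 LD2_c22 LD3_c59) (LK LD1_c8 LD2_c43 LD3_c49) Lrfl Lrfl
theorem f240781 : Led Lsl_gf (LP (LK LD1_c5 LD2_c46 LD3_c46)) = (LP (LK LD1_c8 LD2_c43 LD3_c49)) :=
  Lgr Lrot134 (Lpe (f60640 IH) (Lpr_et (f240772 IH) (Lpe (f240657 IH) (Lpr_ef (f211228 IH) (Lpr_dt (f239107 IH) (Lpr_gt (f181783 IH) (Lpe (f193690 IH) (Lpr_et (f239216 IH) (Lpr_gt (f181718 IH) (Lpr_dt (f181726 IH) (Lpn (LP (LK LD1_c8 LD2_c43 LD3_c49)))))))))))))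
theorem f60638 : Led Lsl_dt (LP (LK LD1_c5 LD2_c46 LD3_c46)) = (LP (LK LD1_c2 LD2_c49 LD3_c4)) :=
  Lre_d IH (LK LD1_c5 LD2_c46 LD3_c46) (LK LD1_c2 LD2_c49 LD3_c4) Lrfl Lrfl
theorem f240783 : Led Lsl_gf (LP (LK LD1_c1 LD2_c55 LD3_c28)) = (LP (LK LD1_c3 LD2_c5 LD3_c37)) :=
  Lgr Lrot143 (Lpr_dt (f175002 IH) (Lpe (f60642 IH) (Lpe (f60638 IH) (Lpr_gf (f240781 IH) (Lpe (f181726 IH) (Lpe (f181718 IH) (Lpe (K10.f80980 IH) (Lpr_gt (K10.f80971 IH) (Lpr_dt (K12.f227692 IH) (Lpn (LP (LK LD1_c3 LD2_c5 LD3_c37))))))))))))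
theorem f241581 : Led Lsl_af (LP (LK LD1_c1 LD2_c55 LD3_c28)) = (LP (LK LD1_c1 LD2_c1 LD3_c39)) :=
  Lgr Lrot31 (Lpr_gf (f240783 IH) (Lpr_gf (f241579 IH) (Lpr_ft (f80965 IH) (Lpn (LP (LK LD1_c1 LD2_c1 LD3_c39))))))
theorem f175009 : Led Lsl_ct (LP (LK LD1_c1 LD2_c55 LD3_c28)) = (LP (LK LD1_c3 LD2_c57 LD3_c22)) :=
  Lre_c IH (LK LD1_c1 LD2_c55 LD3_c28) (LK LD1_c3 LD2_c57 LD3_c22) Lrfl Lrfl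
theorem f80958 : Led Lsl_ct (LP (LK LD1_c2 LD2_c8 LD3_c54)) = (LP (LK LD1_c1 LD2_c1 LD3_c39)) :=
  Lre_c IH (LK LD1_c2 LD2_c8 LD3_c54) (LK LD1_c1 LD2_c1 LD3_c39) Lrfl Lrfl
theorem f241583 : Led Lsl_at (LP (LK LD1_c3 LD2_c57 LD3_c22)) = (LP (LK LD1_c2 LD2_c8 LD3_c54)) :=
  Lgr Lrot107 (Lpe (f175009 IH) (Lpr_af (f241581 IH) (Lpe (f80958 IH) (Lpn (LP (LK LD1_c2 LD2_c8 LD3_c54))))))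
theorem f225155 : Led Lsl_et (LP (LK LD1_c1 LD2_c55 LD3_c27)) = (LP (LK LD1_c3 LD2_c57 LD3_c22)) :=
  Lre_e IH (LK LD1_c1 LD2_c55 LD3_c27) (LK LD1_c3 LD2_c57 LD3_c22) Lrfl Lrfl
theorem f241589 : Led Lsl_af (LP (LK LD1_c1 LD2_c55 LD3_c27)) = (LP (LK LD1_c1 LD2_c1 LD3_c38)) :=
  Lgr Lrot50 (Lpr_et (f225155 IH) (Lpr_at (f241583 IH) (Lpr_et (K10.f193696 IH) (Lpn (LP (LK LD1_c1 LD2_c1 LD3_c38))))))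
theorem f241592 : Led Lsl_at (LP (LK LD1_c3 LD2_c57 LD3_c21)) = (LP (LK LD1_c2 LD2_c8 LD3_c53)) :=
  Lgr Lrot51 (Lpe (f196305 IH) (Lpr_af (f241589 IH) (Lpe (f181782 IH) (Lpn (LP (LK LD1_c2 LD2_c8 LD3_c53))))))
theorem f241601 : Led Lsl_ff (LP (LK LD1_c3 LD2_c57 LD3_c21)) = (LP (LK LD1_c2 LD2_c8 LD3_c59)) :=
  Lgr Lrot52 (Lpr_at (f241592 IH) (Lpe (f181783 IH) (Lpe (f239097 IH) (Lpn (LP (LK LD1_c2 LD2_c8 LD3_c59))))))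
theorem f241609 : Led Lsl_ft (LP (LK LD1_c3 LD2_c57 LD3_c21)) = (LP (LK LD1_c2 LD2_c8 LD3_c59)) :=
  Lgr Lrot48 (Lpr_ff (f241601 IH) (Lpn (LP (LK LD1_c2 LD2_c8 LD3_c59))))
theorem f241617 : Led Lsl_af (LP (LK LD1_c2 LD2_c26 LD3_c24)) = (LP (LK LD1_c2 LD2_c8 LD3_c59)) :=
  Lgr Lrot31 (Lpr_gf (f238820 IH) (Lpe (f238822 IH) (Lpr_ft (f241609 IH) (Lpn (LP (LK LD1_c2 LD2_c8 LD3_c59))))))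
theorem f241594 : Led Lsl_af (LP (LK LD1_c3 LD2_c57 LD3_c21)) = (LP (LK LD1_c2 LD2_c8 LD3_c53)) :=
  Lgr Lrot0 (Lpr_at (f241592 IH) (Lpn (LP (LK LD1_c2 LD2_c8 LD3_c53))))
theorem f241627 : Led Lsl_ft (LP (LK LD1_c2 LD2_c26 LD3_c24)) = (LP (LK LD1_c2 LD2_c8 LD3_c53)) :=
  Lgr Lrot101 (Lpr_af (f241617 IH) (Lpe (f241609 IH) (Lpr_af (f241594 IH) (Lpn (LP (LK LD1_c2 LD2_c8 LD3_c53))))))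
theorem f241636 : Led Lsl_ff (LP (LK LD1_c2 LD2_c26 LD3_c24)) = (LP (LK LD1_c2 LD2_c8 LD3_c53)) :=
  Lgr Lrot3 (Lpr_ft (f241627 IH) (Lpn (LP (LK LD1_c2 LD2_c8 LD3_c53))))
theorem f241640 : Led Lsl_ft (LP (LK LD1_c4 LD2_c56 LD3_c59)) = (LP (LK LD1_c4 LD2_c22 LD3_c4)) :=
  Lgr Lrot4 (Lpe (f172763 IH) (Lpr_ff (f241636 IH) (Lpr_cf (f237250 IH) (Lpn (LP (LK LD1_c4 LD2_c22 LD3_c4))))))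
theorem f241649 : Led Lsl_ff (LP (LK LD1_c3 LD2_c57 LD3_c5)) = (LP (LK LD1_c2 LD2_c8 LD3_c30)) :=
  Lgr Lrot19 (Lpr_dt (f236890 IH) (Lpr_ft (f241640 IH) (Lpr_dt (f38966 IH) (Lpn (LP (LK LD1_c2 LD2_c8 LD3_c30))))))
theorem f241659 : Led Lsl_at (LP (LK LD1_c3 LD2_c57 LD3_c5)) = (LP (LK LD1_c2 LD2_c8 LD3_c29)) :=
  Lgr Lrot26 (Lpr_ff (f241649 IH) (Lpr_gt (f38965 IH) (Lpr_gt (f39000 IH) (Lpn (LP (LK LD1_c2 LD2_c8 LD3_c29))))))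
theorem f233000 : Led Lsl_et (LP (LK LD1_c7 LD2_c55 LD3_c52)) = (LP (LK LD1_c3 LD2_c57 LD3_c5)) :=
  Lre_e IH (LK LD1_c7 LD2_c55 LD3_c52) (LK LD1_c3 LD2_c57 LD3_c5) Lrfl Lrfl
theorem f237208 : Led Lsl_et (LP (LK LD1_c2 LD2_c8 LD3_c29)) = (LP (LK LD1_c4 LD2_c22 LD3_c2)) :=
  Lre_e IH (LK LD1_c2 LD2_c8 LD3_c29) (LK LD1_c4 LD2_c22 LD3_c2) Lrfl Lrfl
theorem f241667 : Led Lsl_af (LP (LK LD1_c7 LD2_c55 LD3_c52)) = (LP (LK LD1_c4 LD2_c22 LD3_c2)) :=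
  Lgr Lrot50 (Lpr_et (f233000 IH) (Lpr_at (f241659 IH) (Lpr_et (f237208 IH) (Lpn (LP (LK LD1_c4 LD2_c22 LD3_c2))))))
theorem f233001 : Led Lsl_dt (LP (LK LD1_c7 LD2_c55 LD3_c52)) = (LP (LK LD1_c14 LD2_c57 LD3_c38)) :=
  Lre_d IH (LK LD1_c7 LD2_c55 LD3_c52) (LK LD1_c14 LD2_c57 LD3_c38) Lrfl Lrfl
theorem f241673 : Led Lsl_dt (LP (LK LD1_c8 LD2_c41 LD3_c51)) = (LP (LK LD1_c4 LD2_c22 LD3_c2)) :=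
  Lre_d IH (LK LD1_c8 LD2_c41 LD3_c51) (LK LD1_c4 LD2_c22 LD3_c2) Lrfl Lrfl
theorem f241674 : Led Lsl_at (LP (LK LD1_c14 LD2_c57 LD3_c38)) = (LP (LK LD1_c8 LD2_c41 LD3_c51)) :=
  Lgr Lrot51 (Lpe (f233001 IH) (Lpr_af (f241667 IH) (Lpe (f241673 IH) (Lpn (LP (LK LD1_c8 LD2_c41 LD3_c51))))))
theorem f241684 : Led Lsl_af (LP (LK LD1_c14 LD2_c57 LD3_c38)) = (LP (LK LD1_c8 LD2_c41 LD3_c51)) :=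
  Lgr Lrot0 (Lpr_at (f241674 IH) (Lpn (LP (LK LD1_c8 LD2_c41 LD3_c51))))
theorem f238858 : Led Lsl_et (LP (LK LD1_c3 LD2_c57 LD3_c5)) = (LP (LK LD1_c7 LD2_c55 LD3_c52)) :=
  Lre_e IH (LK LD1_c3 LD2_c57 LD3_c5) (LK LD1_c7 LD2_c55 LD3_c52) Lrfl Lrfl
theorem f238859 : Led Lsl_et (LP (LK LD1_c9 LD2_c45 LD3_c6)) = (LP (LK LD1_c4 LD2_c56 LD3_c59)) :=
  Lre_e IH (LK LD1_c9 LD2_c45 LD3_c6) (LK LD1_c4 LD2_c56 LD3_c59) Lrfl Lrfl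
theorem f172797 : Led Lsl_dt (LP (LK LD1_c17 LD2_c54 LD3_c41)) = (LP (LK LD1_c9 LD2_c45 LD3_c6)) :=
  Lre_d IH (LK LD1_c17 LD2_c54 LD3_c41) (LK LD1_c9 LD2_c45 LD3_c6) Lrfl Lrfl
theorem f238860 : Led Lsl_et (LP (LK LD1_c14 LD2_c57 LD3_c38)) = (LP (LK LD1_c17 LD2_c54 LD3_c41)) :=
  Lgr Lrot71 (Lpe (f233001 IH) (Lpe (f238858 IH) (Lpr_df (f238844 IH) (Lpe (f238859 IH) (Lpe (f172797 IH) (Lpn (LP (LK LD1_c17 LD2_c54 LD3_c41))))))))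
theorem f241689 : Led Lsl_et (LP (LK LD1_c16 LD2_c17 LD3_c21)) = (LP (LK LD1_c8 LD2_c41 LD3_c51)) :=
  Lre_e IH (LK LD1_c16 LD2_c17 LD3_c21) (LK LD1_c8 LD2_c41 LD3_c51) Lrfl Lrfl
theorem f241690 : Led Lsl_at (LP (LK LD1_c17 LD2_c54 LD3_c41)) = (LP (LK LD1_c16 LD2_c17 LD3_c21)) :=
  Lgr Lrot80 (Lpe (f238860 IH) (Lpr_af (f241684 IH) (Lpe (f241689 IH) (Lpn (LP (LK LD1_c16 LD2_c17 LD3_c21))))))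
theorem f238915 : Led Lsl_dt (LP (LK LD1_c9 LD2_c45 LD3_c6)) = (LP (LK LD1_c17 LD2_c54 LD3_c41)) :=
  Lre_d IH (LK LD1_c9 LD2_c45 LD3_c6) (LK LD1_c17 LD2_c54 LD3_c41) Lrfl Lrfl
theorem f237667 : Led Lsl_dt (LP (LK LD1_c16 LD2_c17 LD3_c21)) = (LP (LK LD1_c8 LD2_c41 LD3_c50)) :=
  Lre_d IH (LK LD1_c16 LD2_c17 LD3_c21) (LK LD1_c8 LD2_c41 LD3_c50) Lrfl Lrfl
theorem f241694 : Led Lsl_af (LP (LK LD1_c9 LD2_c45 LD3_c6)) = (LP (LK LD1_c8 LD2_c41 LD3_c50)) :=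
  Lgr Lrot117 (Lpr_dt (f238915 IH) (Lpr_at (f241690 IH) (Lpr_dt (f237667 IH) (Lpn (LP (LK LD1_c8 LD2_c41 LD3_c50))))))
theorem f241698 : Led Lsl_ft (LP (LK LD1_c9 LD2_c45 LD3_c6)) = (LP (LK LD1_c17 LD2_c54 LD3_c42)) :=
  Lre_f IH (LK LD1_c9 LD2_c45 LD3_c6) (LK LD1_c17 LD2_c54 LD3_c42) Lrfl Lrfl
theorem f237669 : Led Lsl_ft (LP (LK LD1_c16 LD2_c17 LD3_c22)) = (LP (LK LD1_c8 LD2_c41 LD3_c50)) :=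
  Lre_f IH (LK LD1_c16 LD2_c17 LD3_c22) (LK LD1_c8 LD2_c41 LD3_c50) Lrfl Lrfl
theorem f241699 : Led Lsl_at (LP (LK LD1_c17 LD2_c54 LD3_c42)) = (LP (LK LD1_c16 LD2_c17 LD3_c22)) :=
  Lgr Lrot66 (Lpe (f241698 IH) (Lpr_af (f241694 IH) (Lpe (f237669 IH) (Lpn (LP (LK LD1_c16 LD2_c17 LD3_c22))))))
theorem f172790 : Led Lsl_ct (LP (LK LD1_c9 LD2_c45 LD3_c9)) = (LP (LK LD1_c17 LD2_c54 LD3_c42)) :=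
  Lre_c IH (LK LD1_c9 LD2_c45 LD3_c9) (LK LD1_c17 LD2_c54 LD3_c42) Lrfl Lrfl
theorem f237620 : Led Lsl_et (LP (LK LD1_c4 LD2_c23 LD3_c5)) = (LP (LK LD1_c2 LD2_c8 LD3_c59)) :=
  Lre_e IH (LK LD1_c4 LD2_c23 LD3_c5) (LK LD1_c2 LD2_c8 LD3_c59) Lrfl Lrfl
theorem f39014 : Led Lsl_et (LP (LK LD1_c4 LD2_c22 LD3_c1)) = (LP (LK LD1_c8 LD2_c41 LD3_c50)) :=
  Lre_e IH (LK LD1_c4 LD2_c22 LD3_c1) (LK LD1_c8 LD2_c41 LD3_c50) Lrfl Lrfl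
theorem f237621 : Led Lsl_cf (LP (LK LD1_c4 LD2_c23 LD3_c5)) = (LP (LK LD1_c8 LD2_c41 LD3_c50)) :=
  Lgr Lrot39 (Lpr_et (f237620 IH) (Lpr_ct (f237477 IH) (Lpr_et (f39014 IH) (Lpn (LP (LK LD1_c8 LD2_c41 LD3_c50))))))
theorem f237668 : Led Lsl_ft (LP (LK LD1_c4 LD2_c23 LD3_c5)) = (LP (LK LD1_c8 LD2_c43 LD3_c59)) :=
  Lre_f IH (LK LD1_c4 LD2_c23 LD3_c5) (LK LD1_c8 LD2_c43 LD3_c59) Lrfl Lrfl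
theorem f237670 : Led Lsl_ct (LP (LK LD1_c8 LD2_c43 LD3_c59)) = (LP (LK LD1_c16 LD2_c17 LD3_c22)) :=
  Lgr Lrot40 (Lpe (f237668 IH) (Lpr_cf (f237621 IH) (Lpe (f237669 IH) (Lpn (LP (LK LD1_c16 LD2_c17 LD3_c22))))))
theorem f237682 : Led Lsl_cf (LP (LK LD1_c8 LD2_c43 LD3_c59)) = (LP (LK LD1_c16 LD2_c17 LD3_c22)) :=
  Lgr Lrot11 (Lpr_ct (f237670 IH) (Lpn (LP (LK LD1_c16 LD2_c17 LD3_c22))))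
theorem f241705 : Led Lsl_af (LP (LK LD1_c9 LD2_c45 LD3_c9)) = (LP (LK LD1_c8 LD2_c43 LD3_c59)) :=
  Lgr Lrot68 (Lpr_ct (f172790 IH) (Lpr_at (f241699 IH) (Lpe (f237682 IH) (Lpn (LP (LK LD1_c8 LD2_c43 LD3_c59))))))
theorem f172795 : Led Lsl_et (LP (LK LD1_c2 LD2_c26 LD3_c24)) = (LP (LK LD1_c4 LD2_c56 LD3_c60)) :=
  Lre_e IH (LK LD1_c2 LD2_c26 LD3_c24) (LK LD1_c4 LD2_c56 LD3_c60) Lrfl Lrfl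
theorem f172772 : Led Lsl_ft (LP (LK LD1_c4 LD2_c56 LD3_c60)) = (LP (LK LD1_c9 LD2_c45 LD3_c9)) :=
  Lre_f IH (LK LD1_c4 LD2_c56 LD3_c60) (LK LD1_c9 LD2_c45 LD3_c9) Lrfl Lrfl
theorem f237258 : Led Lsl_et (LP (LK LD1_c4 LD2_c22 LD3_c58)) = (LP (LK LD1_c2 LD2_c8 LD3_c53)) :=
  Lre_e IH (LK LD1_c4 LD2_c22 LD3_c58) (LK LD1_c2 LD2_c8 LD3_c53) Lrfl Lrfl
theorem f241642 : Led Lsl_ft (LP (LK LD1_c8 LD2_c43 LD3_c48)) = (LP (LK LD1_c4 LD2_c22 LD3_c58)) :=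
  Lre_f IH (LK LD1_c8 LD2_c43 LD3_c48) (LK LD1_c4 LD2_c22 LD3_c58) Lrfl Lrfl
theorem f241643 : Led Lsl_et (LP (LK LD1_c9 LD2_c45 LD3_c9)) = (LP (LK LD1_c8 LD2_c43 LD3_c48)) :=
  Lgr Lrot69 (Lpe (f172772 IH) (Lpe (f172795 IH) (Lpr_ff (f241636 IH) (Lpe (f237258 IH) (Lpe (f241642 IH) (Lpn (LP (LK LD1_c8 LD2_c43 LD3_c48))))))))
theorem f196308 : Led Lsl_et (LP (LK LD1_c3 LD2_c57 LD3_c21)) = (LP (LK LD1_c7 LD2_c56 LD3_c19)) :=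
  Lre_e IH (LK LD1_c3 LD2_c57 LD3_c21) (LK LD1_c7 LD2_c56 LD3_c19) Lrfl Lrfl
theorem f241350 : Led Lsl_ft (LP (LK LD1_c7 LD2_c56 LD3_c19)) = (LP (LK LD1_c14 LD2_c58 LD3_c32)) :=
  Lre_f IH (LK LD1_c7 LD2_c56 LD3_c19) (LK LD1_c14 LD2_c58 LD3_c32) Lrfl Lrfl
theorem f237684 : Led Lsl_ft (LP (LK LD1_c8 LD2_c43 LD3_c59)) = (LP (LK LD1_c4 LD2_c23 LD3_c5)) :=
  Lre_f IH (LK LD1_c8 LD2_c43 LD3_c59) (LK LD1_c4 LD2_c23 LD3_c5) Lrfl Lrfl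
theorem f241607 : Led Lsl_et (LP (LK LD1_c14 LD2_c58 LD3_c32)) = (LP (LK LD1_c8 LD2_c43 LD3_c59)) :=
  Lgr Lrot69 (Lpe (f241350 IH) (Lpe (f196308 IH) (Lpr_ff (f241601 IH) (Lpe (f237620 IH) (Lpe (f237684 IH) (Lpn (LP (LK LD1_c8 LD2_c43 LD3_c59))))))))
theorem f241711 : Led Lsl_at (LP (LK LD1_c8 LD2_c43 LD3_c48)) = (LP (LK LD1_c14 LD2_c58 LD3_c32)) :=
  Lgr Lrot80 (Lpe (f241643 IH) (Lpr_af (f241705 IH) (Lpe (f241607 IH) (Lpn (LP (LK LD1_c14 LD2_c58 LD3_c32))))))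
theorem f241633 : Led Lsl_ft (LP (LK LD1_c4 LD2_c22 LD3_c58)) = (LP (LK LD1_c8 LD2_c43 LD3_c48)) :=
  Lre_f IH (LK LD1_c4 LD2_c22 LD3_c58) (LK LD1_c8 LD2_c43 LD3_c48) Lrfl Lrfl
theorem f241353 : Led Lsl_ft (LP (LK LD1_c14 LD2_c58 LD3_c32)) = (LP (LK LD1_c7 LD2_c56 LD3_c19)) :=
  Lre_f IH (LK LD1_c14 LD2_c58 LD3_c32) (LK LD1_c7 LD2_c56 LD3_c19) Lrfl Lrfl
theorem f241717 : Led Lsl_af (LP (LK LD1_c4 LD2_c22 LD3_c58)) = (LP (LK LD1_c7 LD2_c56 LD3_c19)) :=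
  Lgr Lrot45 (Lpr_ft (f241633 IH) (Lpr_at (f241711 IH) (Lpr_ft (f241353 IH) (Lpn (LP (LK LD1_c7 LD2_c56 LD3_c19))))))
theorem f237259 : Led Lsl_dt (LP (LK LD1_c4 LD2_c22 LD3_c58)) = (LP (LK LD1_c8 LD2_c43 LD3_c47)) :=
  Lre_d IH (LK LD1_c4 LD2_c22 LD3_c58) (LK LD1_c8 LD2_c43 LD3_c47) Lrfl Lrfl
theorem f37235 : Led Lsl_ct (LP (LK LD1_c3 LD2_c3 LD3_c51)) = (LP (LK LD1_c6 LD2_c14 LD3_c1)) :=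
  Lre_c IH (LK LD1_c3 LD2_c3 LD3_c51) (LK LD1_c6 LD2_c14 LD3_c1) Lrfl Lrfl
theorem f37174 : Led Lsl_gt (LP (LK LD1_c6 LD2_c14 LD3_c0)) = (LP (LK LD1_c3 LD2_c3 LD3_c51)) :=
  Lre_g IH (LK LD1_c6 LD2_c14 LD3_c0) (LK LD1_c3 LD2_c3 LD3_c51) Lrfl Lrfl
theorem f60512 : Led Lsl_at (LP (LK LD1_c6 LD2_c14 LD3_c27)) = (LP (LK LD1_c5 LD2_c46 LD3_c42)) :=
  Lgr Lrot107 (Lpe (K1.f60450 IH) (Lpr_af (K1.f60501 IH) (Lpe (K1.f60511 IH) (Lpn (LP (LK LD1_c5 LD2_c46 LD3_c42))))))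
theorem f60485 : Led Lsl_ft (LP (LK LD1_c11 LD2_c23 LD3_c39)) = (LP (LK LD1_c5 LD2_c46 LD3_c42)) :=
  Lre_f IH (LK LD1_c11 LD2_c23 LD3_c39) (LK LD1_c5 LD2_c46 LD3_c42) Lrfl Lrfl
theorem f60487 : Led Lsl_ff (LP (LK LD1_c6 LD2_c14 LD3_c27)) = (LP (LK LD1_c11 LD2_c23 LD3_c38)) :=
  Lgr Lrot19 (Lpr_dt (K1.f60473 IH) (Lpr_ft (f60485 IH) (Lpr_dt (K1.f60486 IH) (Lpn (LP (LK LD1_c11 LD2_c23 LD3_c38))))))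
theorem f60629 : Led Lsl_gt (LP (LK LD1_c11 LD2_c23 LD3_c36)) = (LP (LK LD1_c5 LD2_c46 LD3_c42)) :=
  Lre_g IH (LK LD1_c11 LD2_c23 LD3_c36) (LK LD1_c5 LD2_c46 LD3_c42) Lrfl Lrfl
theorem f60765 : Led Lsl_gt (LP (LK LD1_c11 LD2_c23 LD3_c38)) = (LP (LK LD1_c11 LD2_c23 LD3_c36)) :=
  Lgr Lrot5 (Lpe (f60487 IH) (Lpr_at (f60512 IH) (Lpe (f60629 IH) (Lpn (LP (LK LD1_c11 LD2_c23 LD3_c36))))))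
theorem f241304 : Led Lsl_cf (LP (LK LD1_c6 LD2_c14 LD3_c0)) = (LP (LK LD1_c11 LD2_c23 LD3_c36)) :=
  Lgr Lrot169 (Lpr_gt (f37174 IH) (Lpr_ct (f37235 IH) (Lpe (K2.f37233 IH) (Lpe (K2.f69814 IH) (Lpe (f69936 IH) (Lpr_cf (f241298 IH) (Lpe (f59286 IH) (Lpe (K1.f60590 IH) (Lpr_gt (f60765 IH) (Lpn (LP (LK LD1_c11 LD2_c23 LD3_c36))))))))))))
theorem f241309 : Led Lsl_ct (LP (LK LD1_c6 LD2_c14 LD3_c0)) = (LP (LK LD1_c11 LD2_c23 LD3_c36)) :=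
  Lgr Lrot59 (Lpr_cf (f241304 IH) (Lpn (LP (LK LD1_c11 LD2_c23 LD3_c36))))
theorem f241339 : Led Lsl_gf (LP (LK LD1_c6 LD2_c14 LD3_c0)) = (LP (LK LD1_c8 LD2_c5 LD3_c25)) :=
  Lgr Lrot147 (Lpr_ct (f241309 IH) (Lpr_gt (f60629 IH) (Lpr_ct (K1.f60511 IH) (Lpe (K1.f56605 IH) (Lpe (K1.f59284 IH) (Lpe (f60634 IH) (Lpe (f60642 IH) (Lpe (f241291 IH) (Lpe (K2.f69781 IH) (Lpn (LP (LK LD1_c8 LD2_c5 LD3_c25))))))))))))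
theorem f33743 : Led Lsl_et (LP (LK LD1_c4 LD2_c2 LD3_c26)) = (LP (LK LD1_c1 LD2_c58 LD3_c10)) :=
  Lre_e IH (LK LD1_c4 LD2_c2 LD3_c26) (LK LD1_c1 LD2_c58 LD3_c10) Lrfl Lrfl
theorem f197353 : Led Lsl_gt (LP (LK LD1_c1 LD2_c57 LD3_c42)) = (LP (LK LD1_c1 LD2_c58 LD3_c10)) :=
  Lgr Lrot150 (Lpr_cf (K10.f197244 IH) (Lpr_gf (K9.f174996 IH) (Lpe (K1.f27765 IH) (Lpe (K10.f190883 IH) (Lpr_ct (K12.f196359 IH) (Lpe (K10.f196349 IH) (Lpr_ct (K0.f33595 IH) (Lpe (K0.f33603 IH) (Lpe (K0.f33776 IH) (Lpn (LP (LK LD1_c1 LD2_c58 LD3_c10))))))))))))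
theorem f196307 : Led Lsl_et (LP (LK LD1_c3 LD2_c57 LD3_c22)) = (LP (LK LD1_c1 LD2_c55 LD3_c27)) :=
  Lre_e IH (LK LD1_c3 LD2_c57 LD3_c22) (LK LD1_c1 LD2_c55 LD3_c27) Lrfl Lrfl
theorem f241344 : Led Lsl_df (LP (LK LD1_c6 LD2_c14 LD3_c0)) = (LP (LK LD1_c3 LD2_c57 LD3_c22)) :=
  Lgr Lrot168 (Lpr_gf (f241339 IH) (Lpe (K2.f69813 IH) (Lpr_et (f33743 IH) (Lpe (f197353 IH) (Lpr_ef (K12.f197246 IH) (Lpr_dt (K12.f182333 IH) (Lpe (f196300 IH) (Lpe (K12.f6951 IH) (Lpr_gf (K10.f196296 IH) (Lpe (f196307 IH) (Lpn (LP (LK LD1_c3 LD2_c57 LD3_c22)))))))))))))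
theorem f241311 : Led Lsl_et (LP (LK LD1_c6 LD2_c14 LD3_c0)) = (LP (LK LD1_c12 LD2_c6 LD3_c38)) :=
  Lre_e IH (LK LD1_c6 LD2_c14 LD3_c0) (LK LD1_c12 LD2_c6 LD3_c38) Lrfl Lrfl
theorem f238827 : Led Lsl_et (LP (LK LD1_c7 LD2_c56 LD3_c19)) = (LP (LK LD1_c3 LD2_c57 LD3_c21)) :=
  Lre_e IH (LK LD1_c7 LD2_c56 LD3_c19) (LK LD1_c3 LD2_c57 LD3_c21) Lrfl Lrfl
theorem f241346 : Led Lsl_dt (LP (LK LD1_c12 LD2_c6 LD3_c38)) = (LP (LK LD1_c7 LD2_c56 LD3_c19)) :=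
  Lgr Lrot77 (Lpe (f241311 IH) (Lpr_df (f241344 IH) (Lpe (f225155 IH) (Lpe (f196302 IH) (Lpe (f238827 IH) (Lpn (LP (LK LD1_c7 LD2_c56 LD3_c19))))))))
theorem f241727 : Led Lsl_at (LP (LK LD1_c8 LD2_c43 LD3_c47)) = (LP (LK LD1_c12 LD2_c6 LD3_c38)) :=
  Lgr Lrot51 (Lpe (f237259 IH) (Lpr_af (f241717 IH) (Lpe (f241346 IH) (Lpn (LP (LK LD1_c12 LD2_c6 LD3_c38))))))
theorem f241741 : Led Lsl_et (LP (LK LD1_c4 LD2_c22 LD3_c60)) = (LP (LK LD1_c8 LD2_c43 LD3_c47)) :=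
  Lre_e IH (LK LD1_c4 LD2_c22 LD3_c60) (LK LD1_c8 LD2_c43 LD3_c47) Lrfl Lrfl
theorem f241338 : Led Lsl_et (LP (LK LD1_c12 LD2_c6 LD3_c38)) = (LP (LK LD1_c6 LD2_c14 LD3_c0)) :=
  Lre_e IH (LK LD1_c12 LD2_c6 LD3_c38) (LK LD1_c6 LD2_c14 LD3_c0) Lrfl Lrfl
theorem f241742 : Led Lsl_af (LP (LK LD1_c4 LD2_c22 LD3_c60)) = (LP (LK LD1_c6 LD2_c14 LD3_c0)) :=
  Lgr Lrot50 (Lpr_et (f241741 IH) (Lpr_at (f241727 IH) (Lpr_et (f241338 IH) (Lpn (LP (LK LD1_c6 LD2_c14 LD3_c0))))))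
theorem f80982 : Led Lsl_ct (LP (LK LD1_c4 LD2_c22 LD3_c60)) = (LP (LK LD1_c8 LD2_c43 LD3_c50)) :=
  Lre_c IH (LK LD1_c4 LD2_c22 LD3_c60) (LK LD1_c8 LD2_c43 LD3_c50) Lrfl Lrfl
theorem f241745 : Led Lsl_at (LP (LK LD1_c8 LD2_c43 LD3_c50)) = (LP (LK LD1_c11 LD2_c23 LD3_c36)) :=
  Lgr Lrot107 (Lpe (f80982 IH) (Lpr_af (f241742 IH) (Lpr_cf (f241304 IH) (Lpn (LP (LK LD1_c11 LD2_c23 LD3_c36))))))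
theorem f241749 : Led Lsl_ff (LP (LK LD1_c8 LD2_c43 LD3_c50)) = (LP (LK LD1_c11 LD2_c23 LD3_c35)) :=
  Lgr Lrot52 (Lpr_at (f241745 IH) (Lpe (f60765 IH) (Lpe (f60604 IH) (Lpn (LP (LK LD1_c11 LD2_c23 LD3_c35))))))
theorem f241751 : Led Lsl_ft (LP (LK LD1_c8 LD2_c43 LD3_c50)) = (LP (LK LD1_c11 LD2_c23 LD3_c35)) :=
  Lgr Lrot48 (Lpr_ff (f241749 IH) (Lpn (LP (LK LD1_c11 LD2_c23 LD3_c35))))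
theorem f60448 : Led Lsl_ct (LP (LK LD1_c6 LD2_c14 LD3_c27)) = (LP (LK LD1_c3 LD2_c4 LD3_c5)) :=
  Lre_c IH (LK LD1_c6 LD2_c14 LD3_c27) (LK LD1_c3 LD2_c4 LD3_c5) Lrfl Lrfl
theorem f193770 : Led Lsl_gf (LP (LK LD1_c6 LD2_c14 LD3_c27)) = (LP (LK LD1_c8 LD2_c43 LD3_c50)) :=
  Lgr Lrot104 (Lpr_ct (f60448 IH) (Lpe (K1.f60449 IH) (Lpr_cf (K1.f60446 IH) (Lpe (K9.f60454 IH) (Lpe (f60462 IH) (Lpr_gf (K10.f193766 IH) (Lpe (K2.f37247 IH) (Lpr_gt (K10.f193700 IH) (Lpr_ct (f80982 IH) (Lpn (LP (LK LD1_c8 LD2_c43 LD3_c50))))))))))))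
theorem f60491 : Led Lsl_gt (LP (LK LD1_c6 LD2_c14 LD3_c27)) = (LP (LK LD1_c12 LD2_c7 LD3_c13)) :=
  Lre_g IH (LK LD1_c6 LD2_c14 LD3_c27) (LK LD1_c12 LD2_c7 LD3_c13) Lrfl Lrfl
theorem f241755 : Led Lsl_af (LP (LK LD1_c12 LD2_c7 LD3_c13)) = (LP (LK LD1_c11 LD2_c23 LD3_c35)) :=
  Lgr Lrot31 (Lpe (f60491 IH) (Lpr_gf (f193770 IH) (Lpr_ft (f241751 IH) (Lpn (LP (LK LD1_c11 LD2_c23 LD3_c35))))))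
theorem f241747 : Led Lsl_af (LP (LK LD1_c8 LD2_c43 LD3_c50)) = (LP (LK LD1_c11 LD2_c23 LD3_c36)) :=
  Lgr Lrot0 (Lpr_at (f241745 IH) (Lpn (LP (LK LD1_c11 LD2_c23 LD3_c36))))
theorem f241761 : Led Lsl_ft (LP (LK LD1_c12 LD2_c7 LD3_c13)) = (LP (LK LD1_c11 LD2_c23 LD3_c36)) :=
  Lgr Lrot101 (Lpr_af (f241755 IH) (Lpe (f241751 IH) (Lpr_af (f241747 IH) (Lpn (LP (LK LD1_c11 LD2_c23 LD3_c36))))))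
theorem f60734 : Led Lsl_ft (LP (LK LD1_c6 LD2_c14 LD3_c27)) = (LP (LK LD1_c11 LD2_c23 LD3_c38)) :=
  Lgr Lrot4 (Lpe (K1.f60450 IH) (Lpe (K11.f60628 IH) (Lpr_cf (K1.f60597 IH) (Lpn (LP (LK LD1_c11 LD2_c23 LD3_c38))))))
theorem f60593 : Led Lsl_af (LP (LK LD1_c11 LD2_c23 LD3_c39)) = (LP (LK LD1_c11 LD2_c23 LD3_c38)) :=
  Lgr Lrot0 (Lpr_at (K1.f60591 IH) (Lpn (LP (LK LD1_c11 LD2_c23 LD3_c38))))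
theorem f60740 : Led Lsl_gt (LP (LK LD1_c12 LD2_c7 LD3_c13)) = (LP (LK LD1_c11 LD2_c23 LD3_c39)) :=
  Lgr Lrot46 (Lpe (f60491 IH) (Lpr_ft (f60734 IH) (Lpe (f60593 IH) (Lpn (LP (LK LD1_c11 LD2_c23 LD3_c39))))))
theorem f241767 : Led Lsl_gt (LP (LK LD1_c11 LD2_c23 LD3_c39)) = (LP (LK LD1_c8 LD2_c43 LD3_c50)) :=
  Lgr Lrot46 (Lpe (f60740 IH) (Lpr_ft (f241761 IH) (Lpe (f241747 IH) (Lpn (LP (LK LD1_c8 LD2_c43 LD3_c50))))))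
theorem f80609 : Led Lsl_dt (LP (LK LD1_c4 LD2_c23 LD3_c10)) = (LP (LK LD1_c2 LD2_c9 LD3_c2)) :=
  Lre_d IH (LK LD1_c4 LD2_c23 LD3_c10) (LK LD1_c2 LD2_c9 LD3_c2) Lrfl Lrfl
theorem f227698 : Led Lsl_ct (LP (LK LD1_c16 LD2_c20 LD3_c60)) = (LP (LK LD1_c8 LD2_c43 LD3_c51)) :=
  Lre_c IH (LK LD1_c16 LD2_c20 LD3_c60) (LK LD1_c8 LD2_c43 LD3_c51) Lrfl Lrfl
theorem f175845 : Led Lsl_dt (LP (LK LD1_c2 LD2_c49 LD3_c3)) = (LP (LK LD1_c5 LD2_c46 LD3_c44)) :=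
  Lre_d IH (LK LD1_c2 LD2_c49 LD3_c3) (LK LD1_c5 LD2_c46 LD3_c44) Lrfl Lrfl
theorem f212032 : Led Lsl_ct (LP (LK LD1_c5 LD2_c46 LD3_c44)) = (LP (LK LD1_c11 LD2_c23 LD3_c41)) :=
  Lre_c IH (LK LD1_c5 LD2_c46 LD3_c44) (LK LD1_c11 LD2_c23 LD3_c41) Lrfl Lrfl
theorem f241312 : Led Lsl_df (LP (LK LD1_c11 LD2_c23 LD3_c41)) = (LP (LK LD1_c11 LD2_c23 LD3_c36)) :=
  Lgr Lrot84 (Lpe (f212032 IH) (Lpe (f175845 IH) (Lpr_gf (f197821 IH) (Lpe (K2.f37173 IH) (Lpe (f37174 IH) (Lpr_cf (f241304 IH) (Lpr_gt (f60629 IH) (Lpr_dt (K1.f60486 IH) (Lpr_gt (f60765 IH) (Lpn (LP (LK LD1_c11 LD2_c23 LD3_c36))))))))))))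
theorem f60777 : Led Lsl_gt (LP (LK LD1_c2 LD2_c49 LD3_c1)) = (LP (LK LD1_c5 LD2_c46 LD3_c40)) :=
  Lre_g IH (LK LD1_c2 LD2_c49 LD3_c1) (LK LD1_c5 LD2_c46 LD3_c40) Lrfl Lrfl
theorem f60781 : Led Lsl_ct (LP (LK LD1_c5 LD2_c46 LD3_c40)) = (LP (LK LD1_c11 LD2_c23 LD3_c30)) :=
  Lre_c IH (LK LD1_c5 LD2_c46 LD3_c40) (LK LD1_c11 LD2_c23 LD3_c30) Lrfl Lrfl
theorem f59272 : Led Lsl_ct (LP (LK LD1_c5 LD2_c46 LD3_c41)) = (LP (LK LD1_c11 LD2_c23 LD3_c33)) :=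
  Lre_c IH (LK LD1_c5 LD2_c46 LD3_c41) (LK LD1_c11 LD2_c23 LD3_c33) Lrfl Lrfl
theorem f197471 : Led Lsl_gf (LP (LK LD1_c8 LD2_c45 LD3_c33)) = (LP (LK LD1_c11 LD2_c23 LD3_c33)) :=
  Lgr Lrot104 (Lpr_ct (f70004 IH) (Lpe (K2.f69945 IH) (Lpe (K2.f59178 IH) (Lpe (f70014 IH) (Lpr_cf (f197467 IH) (Lpe (f60753 IH) (Lpe (K1.f56475 IH) (Lpr_gt (K11.f60768 IH) (Lpr_ct (f59272 IH) (Lpn (LP (LK LD1_c11 LD2_c23 LD3_c33))))))))))))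
theorem f69949 : Led Lsl_at (LP (LK LD1_c6 LD2_c14 LD3_c1)) = (LP (LK LD1_c8 LD2_c45 LD3_c33)) :=
  Lgr Lrot51 (Lpe (K2.f37233 IH) (Lpe (K2.f69828 IH) (Lpr_df (K2.f69947 IH) (Lpn (LP (LK LD1_c8 LD2_c45 LD3_c33))))))
theorem f197474 : Led Lsl_gt (LP (LK LD1_c12 LD2_c6 LD3_c42)) = (LP (LK LD1_c11 LD2_c23 LD3_c33)) :=
  Lgr Lrot5 (Lpr_ft (K10.f69958 IH) (Lpr_at (f69949 IH) (Lpr_gf (f197471 IH) (Lpn (LP (LK LD1_c11 LD2_c23 LD3_c33))))))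
theorem f59283 : Led Lsl_ct (LP (LK LD1_c11 LD2_c23 LD3_c33)) = (LP (LK LD1_c5 LD2_c46 LD3_c41)) :=
  Lre_c IH (LK LD1_c11 LD2_c23 LD3_c33) (LK LD1_c5 LD2_c46 LD3_c41) Lrfl Lrfl
theorem f60494 : Led Lsl_af (LP (LK LD1_c6 LD2_c14 LD3_c28)) = (LP (LK LD1_c5 LD2_c46 LD3_c43)) :=
  Lgr Lrot0 (Lpr_at (K1.f60489 IH) (Lpn (LP (LK LD1_c5 LD2_c46 LD3_c43))))
theorem f60736 : Led Lsl_ft (LP (LK LD1_c2 LD2_c49 LD3_c1)) = (LP (LK LD1_c5 LD2_c46 LD3_c43)) :=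
  Lre_f IH (LK LD1_c2 LD2_c49 LD3_c1) (LK LD1_c5 LD2_c46 LD3_c43) Lrfl Lrfl
theorem f60778 : Led Lsl_gf (LP (LK LD1_c6 LD2_c14 LD3_c28)) = (LP (LK LD1_c5 LD2_c46 LD3_c40)) :=
  Lgr Lrot76 (Lpr_af (f60494 IH) (Lpe (f60736 IH) (Lpr_gt (f60777 IH) (Lpn (LP (LK LD1_c5 LD2_c46 LD3_c40))))))
theorem f60780 : Led Lsl_ct (LP (LK LD1_c11 LD2_c23 LD3_c30)) = (LP (LK LD1_c5 LD2_c46 LD3_c40)) :=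
  Lre_c IH (LK LD1_c11 LD2_c23 LD3_c30) (LK LD1_c5 LD2_c46 LD3_c40) Lrfl Lrfl
theorem f197484 : Led Lsl_gt (LP (LK LD1_c8 LD2_c45 LD3_c33)) = (LP (LK LD1_c11 LD2_c23 LD3_c30)) :=
  Lgr Lrot9 (Lpe (f69955 IH) (Lpr_gt (f197474 IH) (Lpr_ct (f59283 IH) (Lpr_gt (K11.f56606 IH) (Lpr_ct (K1.f59285 IH) (Lpe (K1.f60590 IH) (Lpe (K1.f60622 IH) (Lpr_gf (f60778 IH) (Lpe (f60780 IH) (Lpn (LP (LK LD1_c11 LD2_c23 LD3_c30))))))))))))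
theorem f197488 : Led Lsl_gf (LP (LK LD1_c12 LD2_c6 LD3_c42)) = (LP (LK LD1_c11 LD2_c23 LD3_c30)) :=
  Lgr Lrot76 (Lpr_af (K2.f69832 IH) (Lpr_ff (K2.f69961 IH) (Lpr_gt (f197484 IH) (Lpn (LP (LK LD1_c11 LD2_c23 LD3_c30))))))
theorem f60757 : Led Lsl_ct (LP (LK LD1_c5 LD2_c46 LD3_c39)) = (LP (LK LD1_c11 LD2_c23 LD3_c28)) :=
  Lre_c IH (LK LD1_c5 LD2_c46 LD3_c39) (LK LD1_c11 LD2_c23 LD3_c28) Lrfl Lrfl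
theorem f197490 : Led Lsl_df (LP (LK LD1_c11 LD2_c23 LD3_c28)) = (LP (LK LD1_c11 LD2_c23 LD3_c30)) :=
  Lgr Lrot84 (Lpe (f60757 IH) (Lpe (f60755 IH) (Lpe (f60753 IH) (Lpe (K1.f56475 IH) (Lpr_gf (f60778 IH) (Lpe (f60780 IH) (Lpe (f197488 IH) (Lpr_dt (f69955 IH) (Lpr_gt (f197484 IH) (Lpn (LP (LK LD1_c11 LD2_c23 LD3_c30))))))))))))
theorem f197497 : Led Lsl_dt (LP (LK LD1_c11 LD2_c23 LD3_c28)) = (LP (LK LD1_c11 LD2_c23 LD3_c30)) :=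
  Lgr Lrot42 (Lpr_df (f197490 IH) (Lpn (LP (LK LD1_c11 LD2_c23 LD3_c30))))
theorem f241322 : Led Lsl_gt (LP (LK LD1_c11 LD2_c23 LD3_c41)) = (LP (LK LD1_c16 LD2_c20 LD3_c60)) :=
  Lgr Lrot9 (Lpr_df (f241312 IH) (Lpr_gt (f60629 IH) (Lpr_ct (K1.f60511 IH) (Lpr_gt (f60777 IH) (Lpr_ct (f60781 IH) (Lpe (f197497 IH) (Lpe (f60757 IH) (Lpr_gf (f240857 IH) (Lpe (f227698 IH) (Lpn (LP (LK LD1_c16 LD2_c20 LD3_c60))))))))))))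
theorem f59273 : Led Lsl_dt (LP (LK LD1_c5 LD2_c46 LD3_c41)) = (LP (LK LD1_c3 LD2_c57 LD3_c25)) :=
  Lgr Lrot42 (Lpr_df (K11.f59268 IH) (Lpn (LP (LK LD1_c3 LD2_c57 LD3_c25))))
theorem f177015 : Led Lsl_ct (LP (LK LD1_c2 LD2_c46 LD3_c29)) = (LP (LK LD1_c1 LD2_c19 LD3_c37)) :=
  Lre_c IH (LK LD1_c2 LD2_c46 LD3_c29) (LK LD1_c1 LD2_c19 LD3_c37) Lrfl Lrfl
theorem f177016 : Led Lsl_ef (LP (LK LD1_c2 LD2_c46 LD3_c29)) = (LP (LK LD1_c1 LD2_c22 LD3_c34)) :=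
  Lgr Lrot28 (Lpr_ct (f177015 IH) (Lpr_et (K12.f176996 IH) (Lpr_ct (K10.f24559 IH) (Lpn (LP (LK LD1_c1 LD2_c22 LD3_c34))))))
theorem f59276 : Led Lsl_et (LP (LK LD1_c1 LD2_c55 LD3_c29)) = (LP (LK LD1_c3 LD2_c57 LD3_c25)) :=
  Lre_e IH (LK LD1_c1 LD2_c55 LD3_c29) (LK LD1_c3 LD2_c57 LD3_c25) Lrfl Lrfl
theorem f211212 : Led Lsl_gf (LP (LK LD1_c2 LD2_c46 LD3_c29)) = (LP (LK LD1_c3 LD2_c57 LD3_c25)) :=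
  Lgr Lrot141 (Lpr_ef (f177016 IH) (Lpr_dt (K11.f24560 IH) (Lpr_gt (K11.f211167 IH) (Lpe (K11.f182386 IH) (Lpr_et (K11.f210332 IH) (Lpe (K11.f211155 IH) (Lpr_dt (f180133 IH) (Lpr_gt (f211157 IH) (Lpe (f59270 IH) (Lpr_et (f59276 IH) (Lpn (LP (LK LD1_c3 LD2_c57 LD3_c25)))))))))))))
theorem f177019 : Led Lsl_dt (LP (LK LD1_c2 LD2_c46 LD3_c29)) = (LP (LK LD1_c5 LD2_c40 LD3_c60)) :=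
  Lre_d IH (LK LD1_c2 LD2_c46 LD3_c29) (LK LD1_c5 LD2_c40 LD3_c60) Lrfl Lrfl
theorem f198282 : Led Lsl_ct (LP (LK LD1_c5 LD2_c40 LD3_c60)) = (LP (LK LD1_c11 LD2_c12 LD3_c33)) :=
  Lre_c IH (LK LD1_c5 LD2_c40 LD3_c60) (LK LD1_c11 LD2_c12 LD3_c33) Lrfl Lrfl
theorem f241324 : Led Lsl_df (LP (LK LD1_c11 LD2_c12 LD3_c33)) = (LP (LK LD1_c16 LD2_c20 LD3_c60)) :=
  Lgr Lrot84 (Lpe (f198282 IH) (Lpe (f177019 IH) (Lpr_gf (f211212 IH) (Lpe (f59273 IH) (Lpe (K11.f60768 IH) (Lpr_cf (K1.f60597 IH) (Lpr_gt (f60765 IH) (Lpe (f241312 IH) (Lpr_gt (f241322 IH) (Lpn (LP (LK LD1_c16 LD2_c20 LD3_c60))))))))))))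
theorem f241326 : Led Lsl_dt (LP (LK LD1_c11 LD2_c12 LD3_c33)) = (LP (LK LD1_c16 LD2_c20 LD3_c60)) :=
  Lgr Lrot42 (Lpr_df (f241324 IH) (Lpn (LP (LK LD1_c16 LD2_c20 LD3_c60))))
theorem f80960 : Led Lsl_ct (LP (LK LD1_c8 LD2_c43 LD3_c50)) = (LP (LK LD1_c4 LD2_c22 LD3_c60)) :=
  Lre_c IH (LK LD1_c8 LD2_c43 LD3_c50) (LK LD1_c4 LD2_c22 LD3_c60) Lrfl Lrfl
theorem f60458 : Led Lsl_dt (LP (LK LD1_c3 LD2_c4 LD3_c39)) = (LP (LK LD1_c6 LD2_c15 LD3_c15)) :=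
  Lre_d IH (LK LD1_c3 LD2_c4 LD3_c39) (LK LD1_c6 LD2_c15 LD3_c15) Lrfl Lrfl
theorem f193727 : Led Lsl_ct (LP (LK LD1_c6 LD2_c15 LD3_c15)) = (LP (LK LD1_c12 LD2_c8 LD3_c45)) :=
  Lre_c IH (LK LD1_c6 LD2_c15 LD3_c15) (LK LD1_c12 LD2_c8 LD3_c45) Lrfl Lrfl
theorem f241769 : Led Lsl_df (LP (LK LD1_c12 LD2_c8 LD3_c45)) = (LP (LK LD1_c8 LD2_c43 LD3_c50)) :=
  Lgr Lrot84 (Lpe (f193727 IH) (Lpe (f60458 IH) (Lpe (K10.f193723 IH) (Lpe (K10.f70007 IH) (Lpr_gf (K10.f193697 IH) (Lpe (f80960 IH) (Lpe (f193770 IH) (Lpr_dt (K1.f60473 IH) (Lpr_gt (f241767 IH) (Lpn (LP (LK LD1_c8 LD2_c43 LD3_c50))))))))))))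
theorem f241771 : Led Lsl_gf (LP (LK LD1_c11 LD2_c12 LD3_c33)) = (LP (LK LD1_c12 LD2_c8 LD3_c45)) :=
  Lgr Lrot154 (Lpr_dt (f241326 IH) (Lpr_ct (f227698 IH) (Lpe (f225586 IH) (Lpe (f236570 IH) (Lpe (f80609 IH) (Lpr_gf (K10.f80605 IH) (Lpr_ct (K1.f60480 IH) (Lpr_gt (f241767 IH) (Lpe (f241769 IH) (Lpn (LP (LK LD1_c12 LD2_c8 LD3_c45))))))))))))
theorem f198286 : Led Lsl_ct (LP (LK LD1_c11 LD2_c12 LD3_c33)) = (LP (LK LD1_c5 LD2_c40 LD3_c60)) :=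
  Lre_c IH (LK LD1_c11 LD2_c12 LD3_c33) (LK LD1_c5 LD2_c40 LD3_c60) Lrfl Lrfl
theorem f211522 : Led Lsl_ef (LP (LK LD1_c2 LD2_c33 LD3_c19)) = (LP (LK LD1_c3 LD2_c3 LD3_c56)) :=
  Lgr Lrot88 (Lpr_et (f211520 IH) (Lpn (LP (LK LD1_c3 LD2_c3 LD3_c56))))
theorem f177024 : Led Lsl_et (LP (LK LD1_c2 LD2_c46 LD3_c29)) = (LP (LK LD1_c1 LD2_c22 LD3_c34)) :=
  Lgr Lrot87 (Lpr_ef (f177016 IH) (Lpn (LP (LK LD1_c1 LD2_c22 LD3_c34))))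
theorem f225569 : Led Lsl_gf (LP (LK LD1_c6 LD2_c14 LD3_c7)) = (LP (LK LD1_c5 LD2_c40 LD3_c60)) :=
  Lgr Lrot145 (Lpe (K10.f197809 IH) (Lpe (f211522 IH) (Lpr_gt (K12.f225561 IH) (Lpr_dt (K11.f180141 IH) (Lpr_gt (K11.f201741 IH) (Lpr_df (K11.f201580 IH) (Lpe (K11.f201559 IH) (Lpr_gt (K11.f198272 IH) (Lpe (f177024 IH) (Lpr_dt (f177019 IH) (Lpn (LP (LK LD1_c5 LD2_c40 LD3_c60)))))))))))))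
theorem f241780 : Led Lsl_df (LP (LK LD1_c8 LD2_c43 LD3_c50)) = (LP (LK LD1_c12 LD2_c8 LD3_c45)) :=
  Lgr Lrot155 (Lpe (f193770 IH) (Lpr_ct (f60448 IH) (Lpr_gt (K10.f60503 IH) (Lpr_ct (K10.f197854 IH) (Lpe (K10.f197856 IH) (Lpe (K10.f197810 IH) (Lpr_gf (f225569 IH) (Lpe (f198286 IH) (Lpr_gf (f241771 IH) (Lpn (LP (LK LD1_c12 LD2_c8 LD3_c45))))))))))))
theorem f239412 : Led Lsl_af (LP (LK LD1_c1 LD2_c1 LD3_c39)) = (LP (LK LD1_c1 LD2_c55 LD3_c28)) :=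
  Lgr Lrot50 (Lpr_et (K9.f80917 IH) (Lpr_at (f239404 IH) (Lpr_et (f175008 IH) (Lpn (LP (LK LD1_c1 LD2_c55 LD3_c28))))))
theorem f60455 : Led Lsl_ct (LP (LK LD1_c1 LD2_c28 LD3_c21)) = (LP (LK LD1_c3 LD2_c4 LD3_c39)) :=
  Lre_c IH (LK LD1_c1 LD2_c28 LD3_c21) (LK LD1_c3 LD2_c4 LD3_c39) Lrfl Lrfl
theorem f101375 : Led Lsl_dt (LP (LK LD1_c3 LD2_c4 LD3_c40)) = (LP (LK LD1_c1 LD2_c28 LD3_c21)) :=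
  Lre_d IH (LK LD1_c3 LD2_c4 LD3_c40) (LK LD1_c1 LD2_c28 LD3_c21) Lrfl Lrfl
theorem f241787 : Led Lsl_ff (LP (LK LD1_c1 LD2_c55 LD3_c28)) = (LP (LK LD1_c3 LD2_c4 LD3_c40)) :=
  Lgr Lrot103 (Lpe (f239412 IH) (Lpe (f80958 IH) (Lpe (K10.f80959 IH) (Lpe (f80960 IH) (Lpr_df (f241780 IH) (Lpe (f193727 IH) (Lpe (f60458 IH) (Lpe (f60455 IH) (Lpe (f101375 IH) (Lpn (LP (LK LD1_c3 LD2_c4 LD3_c40))))))))))))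
theorem f241794 : Led Lsl_et (LP (LK LD1_c2 LD2_c9 LD3_c0)) = (LP (LK LD1_c3 LD2_c4 LD3_c40)) :=
  Lgr Lrot69 (Lpe (f237338 IH) (Lpe (f237315 IH) (Lpr_ff (f239414 IH) (Lpe (f36304 IH) (Lpr_ff (f241787 IH) (Lpn (LP (LK LD1_c3 LD2_c4 LD3_c40))))))))
theorem f241798 : Led Lsl_ef (LP (LK LD1_c2 LD2_c9 LD3_c0)) = (LP (LK LD1_c3 LD2_c4 LD3_c40)) :=
  Lgr Lrot88 (Lpr_et (f241794 IH) (Lpn (LP (LK LD1_c3 LD2_c4 LD3_c40))))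
theorem f35480 : Led Lsl_et (LP (LK LD1_c0 LD2_c12 LD3_c28)) = (LP (LK LD1_c0 LD2_c28 LD3_c14)) :=
  Lre_e IH (LK LD1_c0 LD2_c12 LD3_c28) (LK LD1_c0 LD2_c28 LD3_c14) Lrfl Lrfl
theorem f36412 : Led Lsl_df (LP (LK LD1_c0 LD2_c18 LD3_c48)) = (LP (LK LD1_c0 LD2_c28 LD3_c14)) :=
  Lgr Lrot70 (Lpr_et (K10.f36411 IH) (Lpr_dt (K1.f36292 IH) (Lpr_et (K1.f36407 IH) (Lpr_dt (K1.f16636 IH) (Lpr_et (f35480 IH) (Lpn (LP (LK LD1_c0 LD2_c28 LD3_c14))))))))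
theorem f241804 : Led Lsl_gt (LP (LK LD1_c2 LD2_c9 LD3_c0)) = (LP (LK LD1_c1 LD2_c12 LD3_c20)) :=
  Lgr Lrot137 (Lpr_ef (f241798 IH) (Lpr_dt (f101375 IH) (Lpe (K9.f60452 IH) (Lpe (K1.f59675 IH) (Lpr_et (K1.f59667 IH) (Lpr_gf (K1.f59661 IH) (Lpe (K1.f36418 IH) (Lpe (f36412 IH) (Lpe (K12.f205179 IH) (Lpe (K12.f177112 IH) (Lpn (LP (LK LD1_c1 LD2_c12 LD3_c20)))))))))))))
theorem f241806 : Led Lsl_gf (LP (LK LD1_c1 LD2_c10 LD3_c31)) = (LP (LK LD1_c1 LD2_c12 LD3_c20)) :=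
  Lgr Lrot76 (Lpe (f239368 IH) (Lpe (f237337 IH) (Lpr_gt (f241804 IH) (Lpn (LP (LK LD1_c1 LD2_c12 LD3_c20))))))
theorem f172693 : Led Lsl_bt (LP (LK LD1_c1 LD2_c10 LD3_c31)) = (LP (LK LD1_c0 LD2_c32 LD3_c41)) :=
  Lre_b IH (LK LD1_c1 LD2_c10 LD3_c31) (LK LD1_c0 LD2_c32 LD3_c41) Lrfl Lrfl
theorem f186455 : Led Lsl_bt (LP (LK LD1_c0 LD2_c56 LD3_c61)) = (LP (LK LD1_c2 LD2_c0 LD3_c2)) :=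
  Lre_b IH (LK LD1_c0 LD2_c56 LD3_c61) (LK LD1_c2 LD2_c0 LD3_c2) Lrfl Lrfl
theorem f186456 : Led Lsl_df (LP (LK LD1_c1 LD2_c10 LD3_c31)) = (LP (LK LD1_c2 LD2_c0 LD3_c2)) :=
  Lgr Lrot12 (Lpr_bt (f172693 IH) (Lpr_dt (K10.f186453 IH) (Lpr_bt (f186455 IH) (Lpn (LP (LK LD1_c2 LD2_c0 LD3_c2))))))
theorem f190887 : Led Lsl_gt (LP (LK LD1_c0 LD2_c56 LD3_c56)) = (LP (LK LD1_c2 LD2_c0 LD3_c0)) :=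
  Lre_g IH (LK LD1_c0 LD2_c56 LD3_c56) (LK LD1_c2 LD2_c0 LD3_c0) Lrfl Lrfl
theorem f177103 : Led Lsl_bt (LP (LK LD1_c1 LD2_c12 LD3_c20)) = (LP (LK LD1_c0 LD2_c33 LD3_c31)) :=
  Lre_b IH (LK LD1_c1 LD2_c12 LD3_c20) (LK LD1_c0 LD2_c33 LD3_c31) Lrfl Lrfl
theorem f177104 : Led Lsl_df (LP (LK LD1_c1 LD2_c12 LD3_c20)) = (LP (LK LD1_c0 LD2_c37 LD3_c52)) :=
  Lgr Lrot12 (Lpr_bt (f177103 IH) (Lpr_dt (K11.f177101 IH) (Lpr_bt (K12.f68663 IH) (Lpn (LP (LK LD1_c0 LD2_c37 LD3_c52))))))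
theorem f36347 : Led Lsl_dt (LP (LK LD1_c1 LD2_c31 LD3_c14)) = (LP (LK LD1_c0 LD2_c42 LD3_c4)) :=
  Lre_d IH (LK LD1_c1 LD2_c31 LD3_c14) (LK LD1_c0 LD2_c42 LD3_c4) Lrfl Lrfl
theorem f241810 : Led Lsl_ef (LP (LK LD1_c2 LD2_c0 LD3_c0)) = (LP (LK LD1_c1 LD2_c31 LD3_c14)) :=
  Lgr Lrot17 (Lpe (f190887 IH) (Lpe (f196376 IH) (Lpe (f186456 IH) (Lpr_gf (f241806 IH) (Lpr_df (f177104 IH) (Lpe (K12.f205391 IH) (Lpr_ef (K12.f227716 IH) (Lpe (K12.f227706 IH) (Lpr_gf (K12.f210867 IH) (Lpe (f36347 IH) (Lpn (LP (LK LD1_c1 LD2_c31 LD3_c14)))))))))))))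
theorem f241818 : Led Lsl_gt (LP (LK LD1_c2 LD2_c0 LD3_c0)) = (LP (LK LD1_c0 LD2_c59 LD3_c2)) :=
  Lgr Lrot137 (Lpr_ef (f241810 IH) (Lpr_dt (f36347 IH) (Lpe (K12.f36328 IH) (Lpr_df (f36412 IH) (Lpr_et (K1.f36418 IH) (Lpe (K1.f36421 IH) (Lpe (K1.f56056 IH) (Lpr_dt (K1.f27847 IH) (Lpe (K10.f27851 IH) (Lpe (K12.f27879 IH) (Lpn (LP (LK LD1_c0 LD2_c59 LD3_c2)))))))))))))
theorem f36717 : Led Lsl_ft (LP (LK LD1_c3 LD2_c3 LD3_c40)) = (LP (LK LD1_c1 LD2_c27 LD3_c48)) :=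
  Lre_f IH (LK LD1_c3 LD2_c3 LD3_c40) (LK LD1_c1 LD2_c27 LD3_c48) Lrfl Lrfl
theorem f36901 : Led Lsl_at (LP (LK LD1_c1 LD2_c27 LD3_c48)) = (LP (LK LD1_c1 LD2_c57 LD3_c15)) :=
  Lgr Lrot107 (Lpe (f36890 IH) (Lpr_af (K1.f36893 IH) (Lpe (K1.f29221 IH) (Lpn (LP (LK LD1_c1 LD2_c57 LD3_c15))))))
theorem f196248 : Led Lsl_gt (LP (LK LD1_c2 LD2_c27 LD3_c61)) = (LP (LK LD1_c1 LD2_c57 LD3_c15)) :=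
  Lgr Lrot46 (Lpr_gf (K10.f196236 IH) (Lpr_ft (f36717 IH) (Lpr_at (f36901 IH) (Lpn (LP (LK LD1_c1 LD2_c57 LD3_c15))))))
theorem f241472 : Led Lsl_dt (LP (LK LD1_c1 LD2_c27 LD3_c34)) = (LP (LK LD1_c2 LD2_c33 LD3_c18)) :=
  Lgr Lrot105 (Lpe (K12.f101488 IH) (Lpr_df (K10.f59613 IH) (Lpr_gf (K9.f175814 IH) (Lpe (f175809 IH) (Lpr_gt (f196248 IH) (Lpr_dt (K1.f29225 IH) (Lpr_gt (f30799 IH) (Lpr_dt (f241458 IH) (Lpe (f241471 IH) (Lpn (LP (LK LD1_c2 LD2_c33 LD3_c18))))))))))))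
theorem f241820 : Led Lsl_gt (LP (LK LD1_c2 LD2_c33 LD3_c18)) = (LP (LK LD1_c2 LD2_c58 LD3_c9)) :=
  Lgr Lrot112 (Lpe (f241472 IH) (Lpr_et (K12.f175012 IH) (Lpe (f241818 IH) (Lpr_ef (f241810 IH) (Lpr_dt (f36347 IH) (Lpe (K12.f36328 IH) (Lpr_df (f36412 IH) (Lpe (K10.f36443 IH) (Lpe (K12.f36451 IH) (Lpr_dt (K12.f210948 IH) (Lpn (LP (LK LD1_c2 LD2_c58 LD3_c9)))))))))))))
theorem f241492 : Led Lsl_ct (LP (LK LD1_c12 LD2_c8 LD3_c26)) = (LP (LK LD1_c6 LD2_c15 LD3_c2)) :=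
  Lre_c IH (LK LD1_c12 LD2_c8 LD3_c26) (LK LD1_c6 LD2_c15 LD3_c2) Lrfl Lrfl
theorem f241497 : Led Lsl_dt (LP (LK LD1_c6 LD2_c15 LD3_c2)) = (LP (LK LD1_c3 LD2_c4 LD3_c28)) :=
  Lre_d IH (LK LD1_c6 LD2_c15 LD3_c2) (LK LD1_c3 LD2_c4 LD3_c28) Lrfl Lrfl
theorem f176619 : Led Lsl_ct (LP (LK LD1_c2 LD2_c17 LD3_c57)) = (LP (LK LD1_c4 LD2_c41 LD3_c39)) :=
  Lre_c IH (LK LD1_c2 LD2_c17 LD3_c57) (LK LD1_c4 LD2_c41 LD3_c39) Lrfl Lrfl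
theorem f241498 : Led Lsl_dt (LP (LK LD1_c16 LD2_c33 LD3_c54)) = (LP (LK LD1_c18 LD2_c2 LD3_c34)) :=
  Lgr Lrot173 (Lpe (K12.f101404 IH) (Lpe (K12.f210959 IH) (Lpe (K12.f164295 IH) (Lpe (K12.f210948 IH) (Lpe (f227752 IH) (Lpe (f241497 IH) (Lpe (f241492 IH) (Lpr_df (f241490 IH) (Lpe (f101406 IH) (Lpr_df (f198054 IH) (Lpe (f176619 IH) (Lpe (K10.f198043 IH) (Lpe (K10.f198032 IH) (Lpr_df (K12.f229373 IH) (Lpe (f241210 IH) (Lpn (LP (LK LD1_c18 LD2_c2 LD3_c34))))))))))))))))))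
theorem f241541 : Led Lsl_gt (LP (LK LD1_c8 LD2_c51 LD3_c58)) = (LP (LK LD1_c16 LD2_c33 LD3_c54)) :=
  Lgr Lrot49 (Lpr_df (f241524 IH) (Lpe (f43023 IH) (Lpe (K9.f43029 IH) (Lpr_gt (K12.f38637 IH) (Lpr_dt (K12.f198006 IH) (Lpe (K12.f198361 IH) (Lpr_dt (K12.f229371 IH) (Lpe (f241210 IH) (Lpe (f241498 IH) (Lpn (LP (LK LD1_c16 LD2_c33 LD3_c54))))))))))))
theorem f227851 : Led Lsl_gf (LP (LK LD1_c4 LD2_c27 LD3_c5)) = (LP (LK LD1_c6 LD2_c15 LD3_c12)) :=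
  Lgr Lrot143 (Lpr_dt (f101302 IH) (Lpe (f101301 IH) (Lpe (K9.f101307 IH) (Lpe (K10.f198033 IH) (Lpr_df (K12.f198047 IH) (Lpr_gf (K10.f185987 IH) (Lpe (K12.f175817 IH) (Lpr_gt (K12.f227849 IH) (Lpr_dt (f197980 IH) (Lpn (LP (LK LD1_c6 LD2_c15 LD3_c12))))))))))))
theorem f241826 : Led Lsl_gf (LP (LK LD1_c5 LD2_c12 LD3_c55)) = (LP (LK LD1_c3 LD2_c4 LD3_c37)) :=
  Lgr Lrot147 (Lpr_ct (f241457 IH) (Lpr_gt (f241820 IH) (Lpr_ct (K12.f164295 IH) (Lpr_df (K12.f210957 IH) (Lpe (K12.f101403 IH) (Lpe (f241541 IH) (Lpe (f101414 IH) (Lpr_gf (f227851 IH) (Lpe (f197980 IH) (Lpn (LP (LK LD1_c3 LD2_c4 LD3_c37))))))))))))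
theorem f241465 : Led Lsl_df (LP (LK LD1_c8 LD2_c2 LD3_c40)) = (LP (LK LD1_c5 LD2_c12 LD3_c55)) :=
  Lgr Lrot38 (Lpr_dt (f241458 IH) (Lpn (LP (LK LD1_c5 LD2_c12 LD3_c55))))
theorem f59145 : Led Lsl_ct (LP (LK LD1_c0 LD2_c40 LD3_c49)) = (LP (LK LD1_c1 LD2_c28 LD3_c18)) :=
  Lre_c IH (LK LD1_c0 LD2_c40 LD3_c49) (LK LD1_c1 LD2_c28 LD3_c18) Lrfl Lrfl
theorem f59349 : Led Lsl_df (LP (LK LD1_c0 LD2_c28 LD3_c16)) = (LP (LK LD1_c0 LD2_c54 LD3_c32)) :=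
  Lgr Lrot70 (Lpr_et (K10.f59348 IH) (Lpr_dt (K1.f16642 IH) (Lpr_et (K1.f59346 IH) (Lpr_dt (K1.f28471 IH) (Lpr_et (K10.f37916 IH) (Lpn (LP (LK LD1_c0 LD2_c54 LD3_c32))))))))
theorem f59384 : Led Lsl_ct (LP (LK LD1_c1 LD2_c55 LD3_c36)) = (LP (LK LD1_c0 LD2_c54 LD3_c32)) :=
  Lre_c IH (LK LD1_c1 LD2_c55 LD3_c36) (LK LD1_c0 LD2_c54 LD3_c32) Lrfl Lrfl
theorem f239180 : Led Lsl_gt (LP (LK LD1_c1 LD2_c28 LD3_c18)) = (LP (LK LD1_c1 LD2_c55 LD3_c36)) :=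
  Lgr Lrot150 (Lpe (f59145 IH) (Lpe (K11.f69686 IH) (Lpe (K11.f205283 IH) (Lpr_gt (f210875 IH) (Lpr_ct (f239174 IH) (Lpr_gt (f59391 IH) (Lpr_ct (K4.f59389 IH) (Lpr_df (f59349 IH) (Lpe (f59384 IH) (Lpn (LP (LK LD1_c1 LD2_c55 LD3_c36))))))))))))
theorem f239193 : Led Lsl_et (LP (LK LD1_c3 LD2_c4 LD3_c37)) = (LP (LK LD1_c1 LD2_c28 LD3_c18)) :=
  Lre_e IH (LK LD1_c3 LD2_c4 LD3_c37) (LK LD1_c1 LD2_c28 LD3_c18) Lrfl Lrfl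
theorem f205424 : Led Lsl_et (LP (LK LD1_c0 LD2_c54 LD3_c31)) = (LP (LK LD1_c1 LD2_c55 LD3_c36)) :=
  Lre_e IH (LK LD1_c0 LD2_c54 LD3_c31) (LK LD1_c1 LD2_c55 LD3_c36) Lrfl Lrfl
theorem f36726 : Led Lsl_et (LP (LK LD1_c0 LD2_c40 LD3_c37)) = (LP (LK LD1_c1 LD2_c27 LD3_c48)) :=
  Lre_e IH (LK LD1_c0 LD2_c40 LD3_c37) (LK LD1_c1 LD2_c27 LD3_c48) Lrfl Lrfl
theorem f239194 : Led Lsl_gf (LP (LK LD1_c6 LD2_c15 LD3_c12)) = (LP (LK LD1_c4 LD2_c27 LD3_c1)) :=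
  Lgr Lrot134 (Lpe (f197980 IH) (Lpr_et (f239193 IH) (Lpr_gt (f239180 IH) (Lpe (f205424 IH) (Lpr_dt (K1.f59240 IH) (Lpr_gt (K4.f59250 IH) (Lpe (K2.f36645 IH) (Lpr_et (f36726 IH) (Lpe (K12.f193747 IH) (Lpr_dt (K12.f80945 IH) (Lpn (LP (LK LD1_c4 LD2_c27 LD3_c1)))))))))))))
theorem f241829 : Led Lsl_gf (LP (LK LD1_c9 LD2_c51 LD3_c24)) = (LP (LK LD1_c12 LD2_c8 LD3_c26)) :=
  Lgr Lrot143 (Lpr_dt (f241197 IH) (Lpr_cf (f227901 IH) (Lpr_df (f241465 IH) (Lpr_gf (f241826 IH) (Lpe (f197982 IH) (Lpr_gf (f239194 IH) (Lpe (K12.f198381 IH) (Lpr_gt (f241487 IH) (Lpe (f241490 IH) (Lpn (LP (LK LD1_c12 LD2_c8 LD3_c26))))))))))))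
theorem f101267 : Led Lsl_dt (LP (LK LD1_c6 LD2_c13 LD3_c7)) = (LP (LK LD1_c3 LD2_c3 LD3_c19)) :=
  Lre_d IH (LK LD1_c6 LD2_c13 LD3_c7) (LK LD1_c3 LD2_c3 LD3_c19) Lrfl Lrfl
theorem f241834 : Led Lsl_gf (LP (LK LD1_c6 LD2_c13 LD3_c7)) = (LP (LK LD1_c6 LD2_c15 LD3_c2)) :=
  Lgr Lrot144 (Lpr_dt (f101267 IH) (Lpr_gt (K9.f80910 IH) (Lpr_dt (K9.f69365 IH) (Lpe (f101054 IH) (Lpr_df (f101086 IH) (Lpe (f101358 IH) (Lpe (f241197 IH) (Lpr_gf (f241829 IH) (Lpe (f241489 IH) (Lpn (LP (LK LD1_c6 LD2_c15 LD3_c2))))))))))))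
theorem f101284 : Led Lsl_ct (LP (LK LD1_c6 LD2_c13 LD3_c7)) = (LP (LK LD1_c12 LD2_c5 LD3_c9)) :=
  Lre_c IH (LK LD1_c6 LD2_c13 LD3_c7) (LK LD1_c12 LD2_c5 LD3_c9) Lrfl Lrfl
theorem f101382 : Led Lsl_ct (LP (LK LD1_c6 LD2_c13 LD3_c8)) = (LP (LK LD1_c12 LD2_c5 LD3_c12)) :=
  Lre_c IH (LK LD1_c6 LD2_c13 LD3_c8) (LK LD1_c12 LD2_c5 LD3_c12) Lrfl Lrfl
theorem f241837 : Led Lsl_dt (LP (LK LD1_c12 LD2_c5 LD3_c9)) = (LP (LK LD1_c12 LD2_c5 LD3_c12)) :=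
  Lgr Lrot27 (Lpe (f101284 IH) (Lpr_gf (f241834 IH) (Lpe (f241492 IH) (Lpr_gf (f241509 IH) (Lpr_df (f227899 IH) (Lpr_gt (f101106 IH) (Lpr_ct (f101054 IH) (Lpr_gt (f101073 IH) (Lpr_ct (f101382 IH) (Lpn (LP (LK LD1_c12 LD2_c5 LD3_c12))))))))))))
theorem f101285 : Led Lsl_ct (LP (LK LD1_c12 LD2_c5 LD3_c9)) = (LP (LK LD1_c6 LD2_c13 LD3_c7)) :=
  Lre_c IH (LK LD1_c12 LD2_c5 LD3_c9) (LK LD1_c6 LD2_c13 LD3_c7) Lrfl Lrfl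
theorem f239198 : Led Lsl_gt (LP (LK LD1_c12 LD2_c8 LD3_c41)) = (LP (LK LD1_c12 LD2_c5 LD3_c9)) :=
  Lgr Lrot150 (Lpe (f227853 IH) (Lpr_gf (f239194 IH) (Lpe (K12.f80945 IH) (Lpr_gt (K10.f193741 IH) (Lpr_ct (K1.f29213 IH) (Lpe (K10.f193749 IH) (Lpr_ct (K9.f175888 IH) (Lpe (f101267 IH) (Lpe (f101285 IH) (Lpn (LP (LK LD1_c12 LD2_c5 LD3_c9))))))))))))
theorem f241845 : Led Lsl_gt (LP (LK LD1_c4 LD2_c41 LD3_c39)) = (LP (LK LD1_c5 LD2_c12 LD3_c57)) :=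
  Lgr Lrot49 (Lpe (f198052 IH) (Lpe (f101405 IH) (Lpe (K12.f192773 IH) (Lpe (f227500 IH) (Lpe (f227881 IH) (Lpr_gt (f239198 IH) (Lpr_dt (f241837 IH) (Lpe (f101382 IH) (Lpr_df (f241039 IH) (Lpn (LP (LK LD1_c5 LD2_c12 LD3_c57))))))))))))
theorem f241848 : Led Lsl_bf (LP (LK LD1_c2 LD2_c33 LD3_c18)) = (LP (LK LD1_c3 LD2_c3 LD3_c41)) :=
  Lgr Lrot156 (Lpr_gt (f241820 IH) (Lpe (K11.f26647 IH) (Lpr_ct (K9.f26648 IH) (Lpr_gt (K9.f175413 IH) (Lpe (K10.f100655 IH) (Lpr_bt (K10.f175304 IH) (Lpe (K10.f185987 IH) (Lpr_ct (f176619 IH) (Lpr_gt (f241845 IH) (Lpe (f241073 IH) (Lpn (LP (LK LD1_c3 LD2_c3 LD3_c41)))))))))))))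
theorem f241547 : Led Lsl_at (LP (LK LD1_c2 LD2_c10 LD3_c42)) = (LP (LK LD1_c2 LD2_c28 LD3_c0)) :=
  Lgr Lrot107 (Lpe (K10.f101299 IH) (Lpr_af (f241539 IH) (Lpe (K12.f175818 IH) (Lpn (LP (LK LD1_c2 LD2_c28 LD3_c0))))))
theorem f241822 : Led Lsl_ft (LP (LK LD1_c2 LD2_c33 LD3_c18)) = (LP (LK LD1_c2 LD2_c10 LD3_c42)) :=
  Lgr Lrot2 (Lpr_gt (f241820 IH) (Lpe (K11.f198347 IH) (Lpe (f241547 IH) (Lpn (LP (LK LD1_c2 LD2_c10 LD3_c42))))))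
theorem f241854 : Led Lsl_ft (LP (LK LD1_c3 LD2_c3 LD3_c55)) = (LP (LK LD1_c3 LD2_c3 LD3_c41)) :=
  Lgr Lrot75 (Lpe (K10.f197989 IH) (Lpe (f241822 IH) (Lpr_bf (f241848 IH) (Lpn (LP (LK LD1_c3 LD2_c3 LD3_c41))))))
theorem f241860 : Led Lsl_af (LP (LK LD1_c2 LD2_c27 LD3_c59)) = (LP (LK LD1_c3 LD2_c3 LD3_c41)) :=
  Lgr Lrot31 (Lpr_gf (K12.f196238 IH) (Lpr_gf (f197978 IH) (Lpr_ft (f241854 IH) (Lpn (LP (LK LD1_c3 LD2_c3 LD3_c41))))))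
theorem f190286 : Led Lsl_et (LP (LK LD1_c0 LD2_c25 LD3_c21)) = (LP (LK LD1_c0 LD2_c55 LD3_c55)) :=
  Lre_e IH (LK LD1_c0 LD2_c25 LD3_c21) (LK LD1_c0 LD2_c55 LD3_c55) Lrfl Lrfl
theorem f34073 : Led Lsl_dt (LP (LK LD1_c0 LD2_c55 LD3_c55)) = (LP (LK LD1_c1 LD2_c58 LD3_c2)) :=
  Lre_d IH (LK LD1_c0 LD2_c55 LD3_c55) (LK LD1_c1 LD2_c58 LD3_c2) Lrfl Lrfl
theorem f241265 : Led Lsl_ef (LP (LK LD1_c3 LD2_c3 LD3_c41)) = (LP (LK LD1_c1 LD2_c58 LD3_c2)) :=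
  Lgr Lrot73 (Lpr_dt (f37973 IH) (Lpr_et (f241261 IH) (Lpr_dt (f34071 IH) (Lpr_et (f190286 IH) (Lpr_dt (f34073 IH) (Lpn (LP (LK LD1_c1 LD2_c58 LD3_c2))))))))
theorem f241870 : Led Lsl_at (LP (LK LD1_c1 LD2_c57 LD3_c38)) = (LP (LK LD1_c1 LD2_c58 LD3_c2)) :=
  Lgr Lrot80 (Lpe (K10.f192651 IH) (Lpr_af (f241860 IH) (Lpr_ef (f241265 IH) (Lpn (LP (LK LD1_c1 LD2_c58 LD3_c2))))))
theorem f241878 : Led Lsl_ff (LP (LK LD1_c1 LD2_c57 LD3_c38)) = (LP (LK LD1_c1 LD2_c59 LD3_c16)) :=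
  Lgr Lrot52 (Lpr_at (f241870 IH) (Lpr_gf (f241279 IH) (Lpe (K12.f225563 IH) (Lpn (LP (LK LD1_c1 LD2_c59 LD3_c16))))))
theorem f239504 : Led Lsl_df (LP (LK LD1_c2 LD2_c33 LD3_c20)) = (LP (LK LD1_c5 LD2_c6 LD3_c45)) :=
  Lgr Lrot155 (Lpr_gt (f171681 IH) (Lpr_ct (K11.f171680 IH) (Lpr_gt (K10.f185151 IH) (Lpr_ct (K10.f185152 IH) (Lpr_dt (f192637 IH) (Lpr_cf (f239493 IH) (Lpe (f211560 IH) (Lpe (f204954 IH) (Lpe (f165476 IH) (Lpn (LP (LK LD1_c5 LD2_c6 LD3_c45))))))))))))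
theorem f241880 : Led Lsl_ct (LP (LK LD1_c2 LD2_c33 LD3_c20)) = (LP (LK LD1_c1 LD2_c58 LD3_c2)) :=
  Lgr Lrot98 (Lpr_df (f239504 IH) (Lpe (f201376 IH) (Lpr_df (f240985 IH) (Lpe (f171663 IH) (Lpe (f225592 IH) (Lpe (f28960 IH) (Lpe (K12.f28993 IH) (Lpe (f241878 IH) (Lpr_at (f241870 IH) (Lpn (LP (LK LD1_c1 LD2_c58 LD3_c2))))))))))))
theorem f241888 : Led Lsl_gt (LP (LK LD1_c0 LD2_c25 LD3_c35)) = (LP (LK LD1_c0 LD2_c55 LD3_c55)) :=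
  Lgr Lrot189 (Lpe (K10.f28791 IH) (Lpe (K10.f31578 IH) (Lpr_ct (K11.f70829 IH) (Lpr_gt (f227339 IH) (Lpr_dt (f53302 IH) (Lpe (f240989 IH) (Lpe (f239504 IH) (Lpr_ct (f241880 IH) (Lpe (f34073 IH) (Lpn (LP (LK LD1_c0 LD2_c55 LD3_c55))))))))))))
theorem f184674 : Led Lsl_ct (LP (LK LD1_c0 LD2_c55 LD3_c55)) = (LP (LK LD1_c1 LD2_c58 LD3_c0)) :=
  Lre_c IH (LK LD1_c0 LD2_c55 LD3_c55) (LK LD1_c1 LD2_c58 LD3_c0) Lrfl Lrfl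
theorem f241896 : Led Lsl_dt (LP (LK LD1_c2 LD2_c33 LD3_c12)) = (LP (LK LD1_c1 LD2_c58 LD3_c0)) :=
  Lgr Lrot27 (Lpe (f171659 IH) (Lpe (f231482 IH) (Lpe (f21300 IH) (Lpe (f223723 IH) (Lpe (f223712 IH) (Lpr_gt (f194096 IH) (Lpr_ct (K11.f28998 IH) (Lpr_gt (f241888 IH) (Lpr_ct (f184674 IH) (Lpn (LP (LK LD1_c1 LD2_c58 LD3_c0))))))))))))
theorem f184673 : Led Lsl_ct (LP (LK LD1_c1 LD2_c58 LD3_c0)) = (LP (LK LD1_c0 LD2_c55 LD3_c55)) :=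
  Lre_c IH (LK LD1_c1 LD2_c58 LD3_c0) (LK LD1_c0 LD2_c55 LD3_c55) Lrfl Lrfl
theorem f241872 : Led Lsl_af (LP (LK LD1_c1 LD2_c57 LD3_c38)) = (LP (LK LD1_c1 LD2_c58 LD3_c2)) :=
  Lgr Lrot0 (Lpr_at (f241870 IH) (Lpn (LP (LK LD1_c1 LD2_c58 LD3_c2))))
theorem f241882 : Led Lsl_af (LP (LK LD1_c2 LD2_c33 LD3_c20)) = (LP (LK LD1_c2 LD2_c29 LD3_c53)) :=
  Lgr Lrot68 (Lpr_ct (f241880 IH) (Lpe (f241872 IH) (Lpe (K12.f204921 IH) (Lpn (LP (LK LD1_c2 LD2_c29 LD3_c53))))))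
theorem f241904 : Led Lsl_ft (LP (LK LD1_c2 LD2_c33 LD3_c19)) = (LP (LK LD1_c2 LD2_c29 LD3_c53)) :=
  Lgr Lrot142 (Lpr_dt (f211524 IH) (Lpr_ct (f201378 IH) (Lpr_dt (f231493 IH) (Lpr_ct (f171659 IH) (Lpr_dt (f241896 IH) (Lpr_ct (f184673 IH) (Lpr_dt (f34073 IH) (Lpr_ct (f241281 IH) (Lpr_af (f241882 IH) (Lpn (LP (LK LD1_c2 LD2_c29 LD3_c53))))))))))))
theorem f241997 : Led Lsl_ff (LP (LK LD1_c2 LD2_c33 LD3_c19)) = (LP (LK LD1_c2 LD2_c29 LD3_c53)) :=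
  Lgr Lrot3 (Lpr_ft (f241904 IH) (Lpn (LP (LK LD1_c2 LD2_c29 LD3_c53))))
theorem f242001 : Led Lsl_at (LP (LK LD1_c2 LD2_c33 LD3_c19)) = (LP (LK LD1_c2 LD2_c29 LD3_c54)) :=
  Lgr Lrot26 (Lpr_ff (f241997 IH) (Lpr_gt (K12.f204930 IH) (Lpe (f240708 IH) (Lpn (LP (LK LD1_c2 LD2_c29 LD3_c54))))))
theorem f241874 : Led Lsl_af (LP (LK LD1_c2 LD2_c29 LD3_c53)) = (LP (LK LD1_c2 LD2_c33 LD3_c20)) :=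
  Lgr Lrot68 (Lpr_ct (f204926 IH) (Lpr_at (f241870 IH) (Lpr_ct (f241281 IH) (Lpn (LP (LK LD1_c2 LD2_c33 LD3_c20))))))
theorem f242011 : Led Lsl_ff (LP (LK LD1_c2 LD2_c33 LD3_c20)) = (LP (LK LD1_c2 LD2_c29 LD3_c54)) :=
  Lgr Lrot30 (Lpe (f241874 IH) (Lpe (f241997 IH) (Lpr_at (f242001 IH) (Lpn (LP (LK LD1_c2 LD2_c29 LD3_c54))))))
theorem f240701 : Led Lsl_dt (LP (LK LD1_c2 LD2_c29 LD3_c54)) = (LP (LK LD1_c5 LD2_c5 LD3_c10)) :=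
  Lre_d IH (LK LD1_c2 LD2_c29 LD3_c54) (LK LD1_c5 LD2_c5 LD3_c10) Lrfl Lrfl
theorem f242023 : Led Lsl_cf (LP (LK LD1_c10 LD2_c0 LD3_c50)) = (LP (LK LD1_c5 LD2_c5 LD3_c10)) :=
  Lgr Lrot118 (Lpr_dt (f192602 IH) (Lpr_ct (f192603 IH) (Lpr_dt (K10.f192597 IH) (Lpr_ct (f192631 IH) (Lpr_dt (K10.f171540 IH) (Lpe (K12.f204921 IH) (Lpr_af (f241874 IH) (Lpr_ff (f242011 IH) (Lpr_dt (f240701 IH) (Lpn (LP (LK LD1_c5 LD2_c5 LD3_c10))))))))))))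
theorem f241876 : Led Lsl_af (LP (LK LD1_c0 LD2_c55 LD3_c41)) = (LP (LK LD1_c0 LD2_c55 LD3_c55)) :=
  Lgr Lrot117 (Lpr_dt (K10.f171540 IH) (Lpr_at (f241870 IH) (Lpr_dt (f184676 IH) (Lpn (LP (LK LD1_c0 LD2_c55 LD3_c55))))))
theorem f211484 : Led Lsl_dt (LP (LK LD1_c4 LD2_c4 LD3_c45)) = (LP (LK LD1_c4 LD2_c0 LD3_c14)) :=
  Lgr Lrot79 (Lpe (f211483 IH) (Lpr_df (K12.f211481 IH) (Lpe (K12.f29646 IH) (Lpn (LP (LK LD1_c4 LD2_c0 LD3_c14))))))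
theorem f223720 : Led Lsl_bt (LP (LK LD1_c4 LD2_c4 LD3_c31)) = (LP (LK LD1_c1 LD2_c59 LD3_c10)) :=
  Lre_b IH (LK LD1_c4 LD2_c4 LD3_c31) (LK LD1_c1 LD2_c59 LD3_c10) Lrfl Lrfl
theorem f223721 : Led Lsl_ef (LP (LK LD1_c4 LD2_c4 LD3_c31)) = (LP (LK LD1_c4 LD2_c4 LD3_c45)) :=
  Lgr Lrot29 (Lpr_bt (f223720 IH) (Lpr_et (f223713 IH) (Lpr_bt (f211483 IH) (Lpn (LP (LK LD1_c4 LD2_c4 LD3_c45))))))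
theorem f232867 : Led Lsl_gf (LP (LK LD1_c2 LD2_c25 LD3_c19)) = (LP (LK LD1_c4 LD2_c4 LD3_c31)) :=
  Lgr Lrot141 (Lpe (K12.f214007 IH) (Lpr_dt (K12.f214012 IH) (Lpr_gt (K12.f216300 IH) (Lpr_df (K12.f220615 IH) (Lpr_et (K12.f188779 IH) (Lpe (K12.f220610 IH) (Lpr_dt (K12.f44496 IH) (Lpr_gt (f232858 IH) (Lpe (f211484 IH) (Lpe (f223721 IH) (Lpn (LP (LK LD1_c4 LD2_c4 LD3_c31)))))))))))))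
theorem f171995 : Led Lsl_gt (LP (LK LD1_c2 LD2_c37 LD3_c43)) = (LP (LK LD1_c1 LD2_c15 LD3_c52)) :=
  Lre_g IH (LK LD1_c2 LD2_c37 LD3_c43) (LK LD1_c1 LD2_c15 LD3_c52) Lrfl Lrfl
theorem f232869 : Led Lsl_ct (LP (LK LD1_c2 LD2_c37 LD3_c43)) = (LP (LK LD1_c4 LD2_c4 LD3_c31)) :=
  Lgr Lrot8 (Lpr_gt (f171995 IH) (Lpr_dt (K9.f171992 IH) (Lpr_gt (K9.f182153 IH) (Lpr_dt (K9.f54076 IH) (Lpe (K9.f54068 IH) (Lpe (K9.f47790 IH) (Lpr_gf (K12.f214070 IH) (Lpe (K12.f214054 IH) (Lpr_gf (f232867 IH) (Lpn (LP (LK LD1_c4 LD2_c4 LD3_c31))))))))))))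
theorem f223707 : Led Lsl_bt (LP (LK LD1_c1 LD2_c59 LD3_c10)) = (LP (LK LD1_c4 LD2_c4 LD3_c31)) :=
  Lre_b IH (LK LD1_c1 LD2_c59 LD3_c10) (LK LD1_c4 LD2_c4 LD3_c31) Lrfl Lrfl
theorem f223708 : Led Lsl_et (LP (LK LD1_c4 LD2_c4 LD3_c31)) = (LP (LK LD1_c4 LD2_c4 LD3_c45)) :=
  Lgr Lrot74 (Lpe (f223707 IH) (Lpr_ef (f223705 IH) (Lpe (f192829 IH) (Lpn (LP (LK LD1_c4 LD2_c4 LD3_c45))))))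
theorem f232875 : Led Lsl_ef (LP (LK LD1_c2 LD2_c37 LD3_c43)) = (LP (LK LD1_c4 LD2_c19 LD3_c17)) :=
  Lgr Lrot28 (Lpr_ct (f232869 IH) (Lpr_et (f223708 IH) (Lpr_ct (f227944 IH) (Lpn (LP (LK LD1_c4 LD2_c19 LD3_c17))))))
theorem f232880 : Led Lsl_et (LP (LK LD1_c2 LD2_c37 LD3_c43)) = (LP (LK LD1_c4 LD2_c19 LD3_c17)) :=
  Lgr Lrot87 (Lpr_ef (f232875 IH) (Lpn (LP (LK LD1_c4 LD2_c19 LD3_c17))))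
theorem f232871 : Led Lsl_cf (LP (LK LD1_c2 LD2_c37 LD3_c43)) = (LP (LK LD1_c4 LD2_c4 LD3_c31)) :=
  Lgr Lrot166 (Lpr_gt (f171995 IH) (Lpr_dt (K9.f171992 IH) (Lpr_gt (K9.f182153 IH) (Lpr_dt (K9.f54076 IH) (Lpr_ct (K10.f45242 IH) (Lpe (K9.f47790 IH) (Lpr_gf (K12.f214070 IH) (Lpe (K12.f214054 IH) (Lpr_gf (f232867 IH) (Lpn (LP (LK LD1_c4 LD2_c4 LD3_c31))))))))))))
theorem f232884 : Led Lsl_cf (LP (LK LD1_c4 LD2_c4 LD3_c45)) = (LP (LK LD1_c4 LD2_c19 LD3_c17)) :=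
  Lgr Lrot39 (Lpe (f223721 IH) (Lpe (f232871 IH) (Lpr_et (f232880 IH) (Lpn (LP (LK LD1_c4 LD2_c19 LD3_c17))))))
theorem f227952 : Led Lsl_bt (LP (LK LD1_c2 LD2_c7 LD3_c1)) = (LP (LK LD1_c4 LD2_c19 LD3_c17)) :=
  Lre_b IH (LK LD1_c2 LD2_c7 LD3_c1) (LK LD1_c4 LD2_c19 LD3_c17) Lrfl Lrfl
theorem f232887 : Led Lsl_bt (LP (LK LD1_c1 LD2_c0 LD3_c33)) = (LP (LK LD1_c1 LD2_c56 LD3_c44)) :=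
  Lgr Lrot128 (Lpe (K12.f211472 IH) (Lpe (f192829 IH) (Lpr_cf (f232884 IH) (Lpe (f227952 IH) (Lpe (K12.f227946 IH) (Lpn (LP (LK LD1_c1 LD2_c56 LD3_c44))))))))
theorem f211477 : Led Lsl_et (LP (LK LD1_c1 LD2_c9 LD3_c8)) = (LP (LK LD1_c1 LD2_c0 LD3_c33)) :=
  Lgr Lrot87 (Lpr_ef (f211475 IH) (Lpn (LP (LK LD1_c1 LD2_c0 LD3_c33))))
theorem f232891 : Led Lsl_bf (LP (LK LD1_c1 LD2_c9 LD3_c8)) = (LP (LK LD1_c1 LD2_c57 LD3_c26)) :=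
  Lgr Lrot96 (Lpr_et (f211477 IH) (Lpr_bt (f232887 IH) (Lpr_et (K12.f216350 IH) (Lpn (LP (LK LD1_c1 LD2_c57 LD3_c26))))))
theorem f232893 : Led Lsl_bt (LP (LK LD1_c1 LD2_c9 LD3_c8)) = (LP (LK LD1_c1 LD2_c57 LD3_c26)) :=
  Lgr Lrot127 (Lpr_bf (f232891 IH) (Lpn (LP (LK LD1_c1 LD2_c57 LD3_c26))))
theorem f240756 : Led Lsl_dt (LP (LK LD1_c1 LD2_c57 LD3_c26)) = (LP (LK LD1_c2 LD2_c29 LD3_c51)) :=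
  Lgr Lrot79 (Lpe (f232893 IH) (Lpr_df (f240748 IH) (Lpe (f204901 IH) (Lpn (LP (LK LD1_c2 LD2_c29 LD3_c51))))))
theorem f242036 : Led Lsl_ff (LP (LK LD1_c0 LD2_c55 LD3_c55)) = (LP (LK LD1_c1 LD2_c57 LD3_c26)) :=
  Lgr Lrot103 (Lpe (f241876 IH) (Lpe (f192631 IH) (Lpe (K10.f192597 IH) (Lpe (f192603 IH) (Lpe (f192602 IH) (Lpr_cf (f242023 IH) (Lpe (f240701 IH) (Lpr_cf (f240694 IH) (Lpe (f240756 IH) (Lpn (LP (LK LD1_c1 LD2_c57 LD3_c26))))))))))))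
theorem f239432 : Led Lsl_ft (LP (LK LD1_c0 LD2_c55 LD3_c38)) = (LP (LK LD1_c1 LD2_c56 LD3_c44)) :=
  Lgr Lrot75 (Lpr_bf (f193091 IH) (Lpr_ff (f239428 IH) (Lpe (f211468 IH) (Lpn (LP (LK LD1_c1 LD2_c56 LD3_c44))))))
theorem f242050 : Led Lsl_ft (LP (LK LD1_c0 LD2_c25 LD3_c21)) = (LP (LK LD1_c0 LD2_c25 LD3_c15)) :=
  Lgr Lrot86 (Lpe (f34072 IH) (Lpr_ff (f242036 IH) (Lpe (K12.f216350 IH) (Lpe (f239432 IH) (Lpe (K12.f192842 IH) (Lpn (LP (LK LD1_c0 LD2_c25 LD3_c15))))))))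
theorem f242056 : Led Lsl_af (LP (LK LD1_c0 LD2_c25 LD3_c20)) = (LP (LK LD1_c0 LD2_c25 LD3_c15)) :=
  Lgr Lrot31 (Lpe (K10.f81104 IH) (Lpe (K10.f33671 IH) (Lpr_ft (f242050 IH) (Lpn (LP (LK LD1_c0 LD2_c25 LD3_c15))))))
theorem f242058 : Led Lsl_ct (LP (LK LD1_c4 LD2_c2 LD3_c7)) = (LP (LK LD1_c8 LD2_c4 LD3_c32)) :=
  Lgr Lrot41 (Lpe (K12.f193464 IH) (Lpe (K12.f34068 IH) (Lpe (K12.f34064 IH) (Lpr_ft (f242050 IH) (Lpe (f242056 IH) (Lpe (K10.f192108 IH) (Lpe (K12.f193630 IH) (Lpe (K12.f229098 IH) (Lpr_df (K12.f229099 IH) (Lpn (LP (LK LD1_c8 LD2_c4 LD3_c32))))))))))))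
theorem f229126 : Led Lsl_ct (LP (LK LD1_c1 LD2_c57 LD3_c55)) = (LP (LK LD1_c4 LD2_c1 LD3_c60)) :=
  Lre_c IH (LK LD1_c1 LD2_c57 LD3_c55) (LK LD1_c4 LD2_c1 LD3_c60) Lrfl Lrfl
theorem f193631 : Led Lsl_gt (LP (LK LD1_c4 LD2_c1 LD3_c59)) = (LP (LK LD1_c1 LD2_c57 LD3_c55)) :=
  Lre_g IH (LK LD1_c4 LD2_c1 LD3_c59) (LK LD1_c1 LD2_c57 LD3_c55) Lrfl Lrfl
theorem f239953 : Led Lsl_gf (LP (LK LD1_c4 LD2_c13 LD3_c33)) = (LP (LK LD1_c5 LD2_c8 LD3_c38)) :=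
  Lgr Lrot47 (Lpr_gt (K10.f197176 IH) (Lpe (f239932 IH) (Lpr_ff (f239941 IH) (Lpn (LP (LK LD1_c5 LD2_c8 LD3_c38))))))
theorem f190450 : Led Lsl_dt (LP (LK LD1_c2 LD2_c31 LD3_c31)) = (LP (LK LD1_c5 LD2_c8 LD3_c38)) :=
  Lre_d IH (LK LD1_c2 LD2_c31 LD3_c31) (LK LD1_c5 LD2_c8 LD3_c38) Lrfl Lrfl
theorem f196364 : Led Lsl_gt (LP (LK LD1_c5 LD2_c8 LD3_c36)) = (LP (LK LD1_c2 LD2_c31 LD3_c31)) :=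
  Lre_g IH (LK LD1_c5 LD2_c8 LD3_c36) (LK LD1_c2 LD2_c31 LD3_c31) Lrfl Lrfl
theorem f239959 : Led Lsl_cf (LP (LK LD1_c4 LD2_c1 LD3_c59)) = (LP (LK LD1_c5 LD2_c8 LD3_c36)) :=
  Lgr Lrot166 (Lpr_gt (f193631 IH) (Lpr_dt (K12.f193630 IH) (Lpr_gt (K10.f193460 IH) (Lpr_dt (K1.f46030 IH) (Lpr_ct (K1.f46932 IH) (Lpe (K1.f46935 IH) (Lpr_gf (f239953 IH) (Lpe (f190450 IH) (Lpe (f196364 IH) (Lpn (LP (LK LD1_c5 LD2_c8 LD3_c36))))))))))))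
theorem f242070 : Led Lsl_gt (LP (LK LD1_c2 LD2_c31 LD3_c35)) = (LP (LK LD1_c5 LD2_c8 LD3_c36)) :=
  Lgr Lrot9 (Lpe (K10.f190339 IH) (Lpe (K10.f197205 IH) (Lpe (K1.f46646 IH) (Lpe (K12.f193455 IH) (Lpr_ct (f242058 IH) (Lpe (K12.f229122 IH) (Lpe (f229126 IH) (Lpe (f193631 IH) (Lpr_cf (f239959 IH) (Lpn (LP (LK LD1_c5 LD2_c8 LD3_c36))))))))))))
theorem f33265 : Led Lsl_gt (LP (LK LD1_c2 LD2_c31 LD3_c30)) = (LP (LK LD1_c1 LD2_c12 LD3_c49)) :=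
  Lre_g IH (LK LD1_c2 LD2_c31 LD3_c30) (LK LD1_c1 LD2_c12 LD3_c49) Lrfl Lrfl
theorem f196352 : Led Lsl_ct (LP (LK LD1_c2 LD2_c31 LD3_c30)) = (LP (LK LD1_c5 LD2_c8 LD3_c34)) :=
  Lre_c IH (LK LD1_c2 LD2_c31 LD3_c30) (LK LD1_c5 LD2_c8 LD3_c34) Lrfl Lrfl
theorem f240242 : Led Lsl_gt (LP (LK LD1_c5 LD2_c8 LD3_c34)) = (LP (LK LD1_c4 LD2_c1 LD3_c12)) :=
  Lgr Lrot94 (Lpe (f196352 IH) (Lpr_gt (f33265 IH) (Lpr_dt (K12.f21855 IH) (Lpe (K10.f196349 IH) (Lpr_dt (K0.f33610 IH) (Lpe (K0.f33810 IH) (Lpr_df (K0.f34078 IH) (Lpe (K12.f34212 IH) (Lpr_df (f240234 IH) (Lpn (LP (LK LD1_c4 LD2_c1 LD3_c12))))))))))))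
theorem f240248 : Led Lsl_gf (LP (LK LD1_c2 LD2_c31 LD3_c30)) = (LP (LK LD1_c1 LD2_c12 LD3_c52)) :=
  Lgr Lrot147 (Lpr_ct (f196352 IH) (Lpr_gt (f240242 IH) (Lpr_ct (f34620 IH) (Lpe (f34621 IH) (Lpe (K9.f34618 IH) (Lpe (K9.f33187 IH) (Lpe (K0.f34085 IH) (Lpe (K10.f21859 IH) (Lpe (f21860 IH) (Lpn (LP (LK LD1_c1 LD2_c12 LD3_c52))))))))))))
theorem f190324 : Led Lsl_bt (LP (LK LD1_c2 LD2_c31 LD3_c33)) = (LP (LK LD1_c1 LD2_c12 LD3_c52)) :=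
  Lre_b IH (LK LD1_c2 LD2_c31 LD3_c33) (LK LD1_c1 LD2_c12 LD3_c52) Lrfl Lrfl
theorem f190307 : Led Lsl_ct (LP (LK LD1_c2 LD2_c31 LD3_c33)) = (LP (LK LD1_c5 LD2_c8 LD3_c45)) :=
  Lre_c IH (LK LD1_c2 LD2_c31 LD3_c33) (LK LD1_c5 LD2_c8 LD3_c45) Lrfl Lrfl
theorem f190306 : Led Lsl_dt (LP (LK LD1_c1 LD2_c12 LD3_c51)) = (LP (LK LD1_c2 LD2_c31 LD3_c33)) :=
  Lre_d IH (LK LD1_c1 LD2_c12 LD3_c51) (LK LD1_c2 LD2_c31 LD3_c33) Lrfl Lrfl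
theorem f190313 : Led Lsl_ct (LP (LK LD1_c5 LD2_c8 LD3_c45)) = (LP (LK LD1_c2 LD2_c31 LD3_c33)) :=
  Lre_c IH (LK LD1_c5 LD2_c8 LD3_c45) (LK LD1_c2 LD2_c31 LD3_c33) Lrfl Lrfl
theorem f190314 : Led Lsl_dt (LP (LK LD1_c1 LD2_c13 LD3_c21)) = (LP (LK LD1_c0 LD2_c33 LD3_c60)) :=
  Lre_d IH (LK LD1_c1 LD2_c13 LD3_c21) (LK LD1_c0 LD2_c33 LD3_c60) Lrfl Lrfl
theorem f190315 : Led Lsl_gt (LP (LK LD1_c1 LD2_c13 LD3_c21)) = (LP (LK LD1_c2 LD2_c32 LD3_c51)) :=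
  Lre_g IH (LK LD1_c1 LD2_c13 LD3_c21) (LK LD1_c2 LD2_c32 LD3_c51) Lrfl Lrfl
theorem f190316 : Led Lsl_ct (LP (LK LD1_c2 LD2_c32 LD3_c51)) = (LP (LK LD1_c5 LD2_c11 LD3_c59)) :=
  Lre_c IH (LK LD1_c2 LD2_c32 LD3_c51) (LK LD1_c5 LD2_c11 LD3_c59) Lrfl Lrfl
theorem f190317 : Led Lsl_gf (LP (LK LD1_c5 LD2_c8 LD3_c45)) = (LP (LK LD1_c5 LD2_c11 LD3_c59)) :=
  Lgr Lrot104 (Lpr_ct (f190313 IH) (Lpe (f190306 IH) (Lpr_cf (K10.f190282 IH) (Lpr_gf (K10.f46353 IH) (Lpe (K1.f28293 IH) (Lpe (K10.f189586 IH) (Lpe (f190314 IH) (Lpr_gt (f190315 IH) (Lpr_ct (f190316 IH) (Lpn (LP (LK LD1_c5 LD2_c11 LD3_c59))))))))))))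
theorem f190325 : Led Lsl_bt (LP (LK LD1_c2 LD2_c32 LD3_c51)) = (LP (LK LD1_c5 LD2_c11 LD3_c58)) :=
  Lre_b IH (LK LD1_c2 LD2_c32 LD3_c51) (LK LD1_c5 LD2_c11 LD3_c58) Lrfl Lrfl
theorem f43947 : Led Lsl_dt (LP (LK LD1_c2 LD2_c36 LD3_c14)) = (LP (LK LD1_c1 LD2_c15 LD3_c7)) :=
  Lre_d IH (LK LD1_c2 LD2_c36 LD3_c14) (LK LD1_c1 LD2_c15 LD3_c7) Lrfl Lrfl
theorem f192995 : Led Lsl_bt (LP (LK LD1_c1 LD2_c57 LD3_c29)) = (LP (LK LD1_c2 LD2_c36 LD3_c14)) :=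
  Lgr Lrot95 (Lpe (f34621 IH) (Lpr_bf (K10.f192988 IH) (Lpe (f43947 IH) (Lpn (LP (LK LD1_c2 LD2_c36 LD3_c14))))))
theorem f240250 : Led Lsl_gf (LP (LK LD1_c5 LD2_c11 LD3_c58)) = (LP (LK LD1_c2 LD2_c36 LD3_c14)) :=
  Lgr Lrot124 (Lpe (f190325 IH) (Lpr_ct (f190316 IH) (Lpe (f190317 IH) (Lpe (f190307 IH) (Lpr_bt (f190324 IH) (Lpe (f240248 IH) (Lpr_ct (f196352 IH) (Lpr_gt (f240242 IH) (Lpe (f193010 IH) (Lpr_bt (f192995 IH) (Lpn (LP (LK LD1_c2 LD2_c36 LD3_c14)))))))))))))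
theorem f44020 : Led Lsl_dt (LP (LK LD1_c1 LD2_c15 LD3_c7)) = (LP (LK LD1_c2 LD2_c36 LD3_c14)) :=
  Lre_d IH (LK LD1_c1 LD2_c15 LD3_c7) (LK LD1_c2 LD2_c36 LD3_c14) Lrfl Lrfl
theorem f193081 : Led Lsl_gf (LP (LK LD1_c1 LD2_c15 LD3_c6)) = (LP (LK LD1_c1 LD2_c15 LD3_c7)) :=
  Lgr Lrot124 (Lpe (K9.f28281 IH) (Lpr_ct (K1.f28293 IH) (Lpe (K10.f46353 IH) (Lpe (K10.f190304 IH) (Lpr_bt (K10.f34627 IH) (Lpr_gt (K10.f21859 IH) (Lpr_ct (K0.f34085 IH) (Lpr_gt (K9.f33187 IH) (Lpe (K12.f34628 IH) (Lpr_bt (K10.f192993 IH) (Lpn (LP (LK LD1_c1 LD2_c15 LD3_c7)))))))))))))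
theorem f189583 : Led Lsl_ct (LP (LK LD1_c2 LD2_c32 LD3_c8)) = (LP (LK LD1_c1 LD2_c13 LD3_c4)) :=
  Lre_c IH (LK LD1_c2 LD2_c32 LD3_c8) (LK LD1_c1 LD2_c13 LD3_c4) Lrfl Lrfl
theorem f193083 : Led Lsl_gt (LP (LK LD1_c5 LD2_c10 LD3_c8)) = (LP (LK LD1_c2 LD2_c32 LD3_c8)) :=
  Lre_g IH (LK LD1_c5 LD2_c10 LD3_c8) (LK LD1_c2 LD2_c32 LD3_c8) Lrfl Lrfl
theorem f240254 : Led Lsl_ct (LP (LK LD1_c5 LD2_c11 LD3_c58)) = (LP (LK LD1_c5 LD2_c10 LD3_c8)) :=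
  Lgr Lrot152 (Lpr_gf (f240250 IH) (Lpe (f44020 IH) (Lpe (f193081 IH) (Lpr_ct (K1.f28261 IH) (Lpe (K10.f184616 IH) (Lpe (K12.f189554 IH) (Lpe (K10.f189542 IH) (Lpe (f189583 IH) (Lpe (f193083 IH) (Lpn (LP (LK LD1_c5 LD2_c10 LD3_c8))))))))))))
theorem f185405 : Led Lsl_ct (LP (LK LD1_c1 LD2_c13 LD3_c4)) = (LP (LK LD1_c2 LD2_c32 LD3_c8)) :=
  Lre_c IH (LK LD1_c1 LD2_c13 LD3_c4) (LK LD1_c2 LD2_c32 LD3_c8) Lrfl Lrfl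
theorem f185404 : Led Lsl_bt (LP (LK LD1_c1 LD2_c13 LD3_c4)) = (LP (LK LD1_c0 LD2_c33 LD3_c54)) :=
  Lre_b IH (LK LD1_c1 LD2_c13 LD3_c4) (LK LD1_c0 LD2_c33 LD3_c54) Lrfl Lrfl
theorem f185077 : Led Lsl_dt (LP (LK LD1_c0 LD2_c15 LD3_c12)) = (LP (LK LD1_c0 LD2_c33 LD3_c54)) :=
  Lre_d IH (LK LD1_c0 LD2_c15 LD3_c12) (LK LD1_c0 LD2_c33 LD3_c54) Lrfl Lrfl
theorem f180585 : Led Lsl_gf (LP (LK LD1_c2 LD2_c30 LD3_c0)) = (LP (LK LD1_c1 LD2_c13 LD3_c2)) :=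
  Lgr Lrot147 (Lpr_ct (K10.f169457 IH) (Lpr_gt (K10.f178981 IH) (Lpr_ct (K9.f165296 IH) (Lpr_df (K9.f169575 IH) (Lpr_cf (K9.f166244 IH) (Lpe (K9.f166162 IH) (Lpe (K2.f71525 IH) (Lpr_gf (K10.f180570 IH) (Lpe (K10.f171646 IH) (Lpn (LP (LK LD1_c1 LD2_c13 LD3_c2))))))))))))
theorem f177774 : Led Lsl_ct (LP (LK LD1_c0 LD2_c26 LD3_c7)) = (LP (LK LD1_c0 LD2_c39 LD3_c18)) :=
  Lgr Lrot7 (Lpe (K9.f59134 IH) (Lpr_gf (K9.f177771 IH) (Lpe (K9.f31445 IH) (Lpe (K9.f31444 IH) (Lpe (K1.f28429 IH) (Lpr_gt (K9.f167611 IH) (Lpr_dt (K9.f165191 IH) (Lpr_gt (K9.f165227 IH) (Lpe (K9.f169450 IH) (Lpn (LP (LK LD1_c0 LD2_c39 LD3_c18))))))))))))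
theorem f165483 : Led Lsl_gt (LP (LK LD1_c1 LD2_c13 LD3_c1)) = (LP (LK LD1_c0 LD2_c33 LD3_c52)) :=
  Lre_g IH (LK LD1_c1 LD2_c13 LD3_c1) (LK LD1_c0 LD2_c33 LD3_c52) Lrfl Lrfl
theorem f180598 : Led Lsl_df (LP (LK LD1_c0 LD2_c58 LD3_c46)) = (LP (LK LD1_c1 LD2_c13 LD3_c1)) :=
  Lgr Lrot155 (Lpr_gt (K9.f53239 IH) (Lpr_ct (K12.f53184 IH) (Lpe (K12.f179949 IH) (Lpr_ct (f177774 IH) (Lpr_dt (K9.f169443 IH) (Lpe (K10.f169457 IH) (Lpr_gf (f180585 IH) (Lpe (K10.f22100 IH) (Lpe (f165483 IH) (Lpn (LP (LK LD1_c1 LD2_c13 LD3_c1))))))))))))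
theorem f186838 : Led Lsl_gt (LP (LK LD1_c0 LD2_c33 LD3_c54)) = (LP (LK LD1_c1 LD2_c13 LD3_c1)) :=
  Lgr Lrot49 (Lpe (f185077 IH) (Lpr_gf (K10.f186835 IH) (Lpe (K0.f3148 IH) (Lpr_gt (K9.f165506 IH) (Lpr_dt (K9.f20485 IH) (Lpe (K9.f181104 IH) (Lpr_dt (K9.f177148 IH) (Lpr_cf (K9.f166694 IH) (Lpr_df (f180598 IH) (Lpn (LP (LK LD1_c1 LD2_c13 LD3_c1))))))))))))
theorem f240256 : Led Lsl_bf (LP (LK LD1_c1 LD2_c13 LD3_c1)) = (LP (LK LD1_c2 LD2_c31 LD3_c30)) :=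
  Lgr Lrot34 (Lpe (f186838 IH) (Lpe (f185404 IH) (Lpr_ct (f185405 IH) (Lpe (f193083 IH) (Lpe (f240254 IH) (Lpr_gf (f240250 IH) (Lpe (f192995 IH) (Lpr_ct (f193010 IH) (Lpe (f240242 IH) (Lpe (f196352 IH) (Lpn (LP (LK LD1_c2 LD2_c31 LD3_c30)))))))))))))
theorem f181877 : Led Lsl_dt (LP (LK LD1_c0 LD2_c32 LD3_c24)) = (LP (LK LD1_c0 LD2_c58 LD3_c58)) :=
  Lgr Lrot113 (Lpe (K9.f3105 IH) (Lpe (K1.f3104 IH) (Lpr_gf (K9.f174916 IH) (Lpr_ct (K9.f172031 IH) (Lpr_gt (K0.f6846 IH) (Lpr_dt (K9.f20623 IH) (Lpr_gt (K9.f20212 IH) (Lpr_dt (K9.f20237 IH) (Lpr_ct (K9.f181794 IH) (Lpn (LP (LK LD1_c0 LD2_c58 LD3_c58))))))))))))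
theorem f41100 : Led Lsl_et (LP (LK LD1_c1 LD2_c10 LD3_c4)) = (LP (LK LD1_c0 LD2_c32 LD3_c24)) :=
  Lre_e IH (LK LD1_c1 LD2_c10 LD3_c4) (LK LD1_c0 LD2_c32 LD3_c24) Lrfl Lrfl
theorem f168762 : Led Lsl_dt (LP (LK LD1_c2 LD2_c25 LD3_c47)) = (LP (LK LD1_c1 LD2_c10 LD3_c4)) :=
  Lre_d IH (LK LD1_c2 LD2_c25 LD3_c47) (LK LD1_c1 LD2_c10 LD3_c4) Lrfl Lrfl
theorem f180596 : Led Lsl_dt (LP (LK LD1_c0 LD2_c58 LD3_c46)) = (LP (LK LD1_c1 LD2_c13 LD3_c1)) :=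
  Lgr Lrot6 (Lpr_gt (K9.f53239 IH) (Lpr_ct (K12.f53184 IH) (Lpe (K12.f179949 IH) (Lpr_ct (f177774 IH) (Lpr_df (K9.f169450 IH) (Lpe (K10.f169457 IH) (Lpr_gf (f180585 IH) (Lpe (K10.f22100 IH) (Lpe (f165483 IH) (Lpn (LP (LK LD1_c1 LD2_c13 LD3_c1))))))))))))
theorem f181881 : Led Lsl_ef (LP (LK LD1_c2 LD2_c25 LD3_c47)) = (LP (LK LD1_c1 LD2_c13 LD3_c1)) :=
  Lgr Lrot73 (Lpr_dt (f168762 IH) (Lpr_et (f41100 IH) (Lpr_dt (f181877 IH) (Lpe (K9.f181875 IH) (Lpr_dt (f180596 IH) (Lpn (LP (LK LD1_c1 LD2_c13 LD3_c1))))))))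
theorem f181887 : Led Lsl_bt (LP (LK LD1_c2 LD2_c25 LD3_c47)) = (LP (LK LD1_c4 LD2_c55 LD3_c55)) :=
  Lre_b IH (LK LD1_c2 LD2_c25 LD3_c47) (LK LD1_c4 LD2_c55 LD3_c55) Lrfl Lrfl
theorem f240288 : Led Lsl_et (LP (LK LD1_c4 LD2_c55 LD3_c55)) = (LP (LK LD1_c2 LD2_c31 LD3_c30)) :=
  Lgr Lrot74 (Lpe (f181887 IH) (Lpr_ef (f181881 IH) (Lpr_bf (f240256 IH) (Lpn (LP (LK LD1_c2 LD2_c31 LD3_c30))))))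
theorem f224864 : Led Lsl_dt (LP (LK LD1_c2 LD2_c25 LD3_c44)) = (LP (LK LD1_c4 LD2_c55 LD3_c55)) :=
  Lre_d IH (LK LD1_c2 LD2_c25 LD3_c44) (LK LD1_c4 LD2_c55 LD3_c55) Lrfl Lrfl
theorem f224869 : Led Lsl_et (LP (LK LD1_c1 LD2_c10 LD3_c3)) = (LP (LK LD1_c2 LD2_c25 LD3_c44)) :=
  Lre_e IH (LK LD1_c1 LD2_c10 LD3_c3) (LK LD1_c2 LD2_c25 LD3_c44) Lrfl Lrfl
theorem f224870 : Led Lsl_et (LP (LK LD1_c1 LD2_c59 LD3_c15)) = (LP (LK LD1_c0 LD2_c56 LD3_c23)) :=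
  Lre_e IH (LK LD1_c1 LD2_c59 LD3_c15) (LK LD1_c0 LD2_c56 LD3_c23) Lrfl Lrfl
theorem f240292 : Led Lsl_df (LP (LK LD1_c1 LD2_c59 LD3_c15)) = (LP (LK LD1_c2 LD2_c31 LD3_c30)) :=
  Lgr Lrot70 (Lpr_et (f224870 IH) (Lpe (K12.f224862 IH) (Lpr_et (f224869 IH) (Lpr_dt (f224864 IH) (Lpr_et (f240288 IH) (Lpn (LP (LK LD1_c2 LD2_c31 LD3_c30))))))))
theorem f180784 : Led Lsl_dt (LP (LK LD1_c8 LD2_c4 LD3_c17)) = (LP (LK LD1_c4 LD2_c1 LD3_c50)) :=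
  Lre_d IH (LK LD1_c8 LD2_c4 LD3_c17) (LK LD1_c4 LD2_c1 LD3_c50) Lrfl Lrfl
theorem f240085 : Led Lsl_dt (LP (LK LD1_c5 LD2_c8 LD3_c36)) = (LP (LK LD1_c10 LD2_c7 LD3_c39)) :=
  Lre_d IH (LK LD1_c5 LD2_c8 LD3_c36) (LK LD1_c10 LD2_c7 LD3_c39) Lrfl Lrfl
theorem f242073 : Led Lsl_gf (LP (LK LD1_c8 LD2_c4 LD3_c17)) = (LP (LK LD1_c10 LD2_c7 LD3_c39)) :=
  Lgr Lrot143 (Lpr_dt (f180784 IH) (Lpe (K10.f180783 IH) (Lpe (K10.f193188 IH) (Lpr_gf (K12.f193261 IH) (Lpr_df (f240292 IH) (Lpr_gf (f240248 IH) (Lpe (K10.f190277 IH) (Lpr_gt (f242070 IH) (Lpr_dt (f240085 IH) (Lpn (LP (LK LD1_c10 LD2_c7 LD3_c39))))))))))))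
theorem f33158 : Led Lsl_dt (LP (LK LD1_c10 LD2_c7 LD3_c28)) = (LP (LK LD1_c5 LD2_c8 LD3_c32)) :=
  Lre_d IH (LK LD1_c10 LD2_c7 LD3_c28) (LK LD1_c5 LD2_c8 LD3_c32) Lrfl Lrfl
theorem f175838 : Led Lsl_ct (LP (LK LD1_c2 LD2_c49 LD3_c3)) = (LP (LK LD1_c1 LD2_c20 LD3_c37)) :=
  Lre_c IH (LK LD1_c2 LD2_c49 LD3_c3) (LK LD1_c1 LD2_c20 LD3_c37) Lrfl Lrfl
theorem f175841 : Led Lsl_ef (LP (LK LD1_c2 LD2_c49 LD3_c3)) = (LP (LK LD1_c5 LD2_c0 LD3_c33)) :=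
  Lgr Lrot28 (Lpr_ct (f175838 IH) (Lpr_et (K10.f175834 IH) (Lpr_ct (K12.f175818 IH) (Lpn (LP (LK LD1_c5 LD2_c0 LD3_c33))))))
theorem f227923 : Led Lsl_gt (LP (LK LD1_c4 LD2_c2 LD3_c25)) = (LP (LK LD1_c4 LD2_c1 LD3_c35)) :=
  Lgr Lrot112 (Lpe (K0.f33790 IH) (Lpr_et (f69941 IH) (Lpe (K10.f197819 IH) (Lpr_ef (f175841 IH) (Lpr_dt (f227854 IH) (Lpe (K12.f36779 IH) (Lpe (K1.f36703 IH) (Lpe (K12.f227879 IH) (Lpr_ef (K12.f175014 IH) (Lpr_dt (K12.f227906 IH) (Lpn (LP (LK LD1_c4 LD2_c1 LD3_c35)))))))))))))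
theorem f33148 : Led Lsl_dt (LP (LK LD1_c5 LD2_c8 LD3_c32)) = (LP (LK LD1_c10 LD2_c7 LD3_c28)) :=
  Lre_d IH (LK LD1_c5 LD2_c8 LD3_c32) (LK LD1_c10 LD2_c7 LD3_c28) Lrfl Lrfl
theorem f240530 : Led Lsl_cf (LP (LK LD1_c10 LD2_c7 LD3_c28)) = (LP (LK LD1_c8 LD2_c3 LD3_c15)) :=
  Lgr Lrot14 (Lpe (f33148 IH) (Lpe (f240232 IH) (Lpr_df (f192898 IH) (Lpe (K12.f21722 IH) (Lpe (K0.f33765 IH) (Lpr_gt (f227923 IH) (Lpe (f227913 IH) (Lpr_gt (f240521 IH) (Lpr_dt (f211587 IH) (Lpn (LP (LK LD1_c8 LD2_c3 LD3_c15))))))))))))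
theorem f33744 : Led Lsl_gt (LP (LK LD1_c0 LD2_c55 LD3_c58)) = (LP (LK LD1_c1 LD2_c58 LD3_c6)) :=
  Lre_g IH (LK LD1_c0 LD2_c55 LD3_c58) (LK LD1_c1 LD2_c58 LD3_c6) Lrfl Lrfl
theorem f33748 : Led Lsl_dt (LP (LK LD1_c1 LD2_c58 LD3_c6)) = (LP (LK LD1_c4 LD2_c2 LD3_c13)) :=
  Lre_d IH (LK LD1_c1 LD2_c58 LD3_c6) (LK LD1_c4 LD2_c2 LD3_c13) Lrfl Lrfl
theorem f211659 : Led Lsl_gf (LP (LK LD1_c8 LD2_c3 LD3_c15)) = (LP (LK LD1_c4 LD2_c2 LD3_c13)) :=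
  Lgr Lrot134 (Lpe (f211587 IH) (Lpr_et (f211570 IH) (Lpe (K10.f192349 IH) (Lpe (f34771 IH) (Lpr_dt (K1.f34745 IH) (Lpe (K2.f70192 IH) (Lpe (K2.f59181 IH) (Lpr_et (K10.f81202 IH) (Lpr_gt (f33744 IH) (Lpr_dt (f33748 IH) (Lpn (LP (LK LD1_c4 LD2_c2 LD3_c13)))))))))))))
theorem f242081 : Led Lsl_ct (LP (LK LD1_c8 LD2_c4 LD3_c17)) = (LP (LK LD1_c4 LD2_c2 LD3_c13)) :=
  Lgr Lrot152 (Lpr_gf (f242073 IH) (Lpe (f240085 IH) (Lpr_gt (f196364 IH) (Lpr_ct (f33190 IH) (Lpr_gt (f22110 IH) (Lpr_ct (f33147 IH) (Lpe (f33158 IH) (Lpr_cf (f240530 IH) (Lpr_gf (f211659 IH) (Lpn (LP (LK LD1_c4 LD2_c2 LD3_c13))))))))))))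
theorem f180785 : Led Lsl_dt (LP (LK LD1_c4 LD2_c1 LD3_c50)) = (LP (LK LD1_c8 LD2_c4 LD3_c17)) :=
  Lre_d IH (LK LD1_c4 LD2_c1 LD3_c50) (LK LD1_c8 LD2_c4 LD3_c17) Lrfl Lrfl
theorem f224984 : Led Lsl_gt (LP (LK LD1_c1 LD2_c55 LD3_c16)) = (LP (LK LD1_c0 LD2_c58 LD3_c32)) :=
  Lgr Lrot94 (Lpr_cf (K11.f173356 IH) (Lpr_gt (K12.f224875 IH) (Lpr_dt (K12.f53089 IH) (Lpr_gt (K11.f28164 IH) (Lpe (K11.f52234 IH) (Lpe (K11.f28130 IH) (Lpe (K11.f28105 IH) (Lpe (K11.f28114 IH) (Lpr_df (K11.f211272 IH) (Lpn (LP (LK LD1_c0 LD2_c58 LD3_c32))))))))))))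
theorem f211281 : Led Lsl_et (LP (LK LD1_c2 LD2_c3 LD3_c15)) = (LP (LK LD1_c0 LD2_c58 LD3_c32)) :=
  Lre_e IH (LK LD1_c2 LD2_c3 LD3_c15) (LK LD1_c0 LD2_c58 LD3_c32) Lrfl Lrfl
theorem f182003 : Led Lsl_gt (LP (LK LD1_c4 LD2_c1 LD3_c11)) = (LP (LK LD1_c1 LD2_c57 LD3_c29)) :=
  Lre_g IH (LK LD1_c4 LD2_c1 LD3_c11) (LK LD1_c1 LD2_c57 LD3_c29) Lrfl Lrfl
theorem f237003 : Led Lsl_dt (LP (LK LD1_c2 LD2_c3 LD3_c15)) = (LP (LK LD1_c4 LD2_c1 LD3_c11)) :=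
  Lgr Lrot136 (Lpr_et (f211281 IH) (Lpe (f224984 IH) (Lpe (K11.f173352 IH) (Lpr_dt (K12.f42880 IH) (Lpr_gf (f236892 IH) (Lpe (f28142 IH) (Lpe (f236991 IH) (Lpe (K12.f192997 IH) (Lpr_dt (f34621 IH) (Lpe (f182003 IH) (Lpn (LP (LK LD1_c4 LD2_c1 LD3_c11)))))))))))))
theorem f237005 : Led Lsl_df (LP (LK LD1_c2 LD2_c3 LD3_c15)) = (LP (LK LD1_c4 LD2_c1 LD3_c11)) :=
  Lgr Lrot38 (Lpr_dt (f237003 IH) (Lpn (LP (LK LD1_c4 LD2_c1 LD3_c11))))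
theorem f53170 : Led Lsl_ct (LP (LK LD1_c2 LD2_c3 LD3_c15)) = (LP (LK LD1_c0 LD2_c58 LD3_c33)) :=
  Lre_c IH (LK LD1_c2 LD2_c3 LD3_c15) (LK LD1_c0 LD2_c58 LD3_c33) Lrfl Lrfl
theorem f237057 : Led Lsl_gt (LP (LK LD1_c1 LD2_c57 LD3_c35)) = (LP (LK LD1_c4 LD2_c1 LD3_c11)) :=
  Lgr Lrot49 (Lpe (f171537 IH) (Lpe (K10.f192586 IH) (Lpe (K1.f27844 IH) (Lpr_gt (K9.f181420 IH) (Lpr_dt (K10.f47065 IH) (Lpe (K12.f227315 IH) (Lpr_dt (K12.f227301 IH) (Lpe (f53170 IH) (Lpr_df (f237005 IH) (Lpn (LP (LK LD1_c4 LD2_c1 LD3_c11))))))))))))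
theorem f171525 : Led Lsl_dt (LP (LK LD1_c1 LD2_c57 LD3_c35)) = (LP (LK LD1_c0 LD2_c55 LD3_c39)) :=
  Lre_d IH (LK LD1_c1 LD2_c57 LD3_c35) (LK LD1_c0 LD2_c55 LD3_c39) Lrfl Lrfl
theorem f182045 : Led Lsl_ct (LP (LK LD1_c4 LD2_c1 LD3_c41)) = (LP (LK LD1_c1 LD2_c57 LD3_c48)) :=
  Lre_c IH (LK LD1_c4 LD2_c1 LD3_c41) (LK LD1_c1 LD2_c57 LD3_c48) Lrfl Lrfl
theorem f182005 : Led Lsl_ct (LP (LK LD1_c4 LD2_c1 LD3_c11)) = (LP (LK LD1_c8 LD2_c3 LD3_c8)) :=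
  Lre_c IH (LK LD1_c4 LD2_c1 LD3_c11) (LK LD1_c8 LD2_c3 LD3_c8) Lrfl Lrfl
theorem f237071 : Led Lsl_gf (LP (LK LD1_c4 LD2_c1 LD3_c41)) = (LP (LK LD1_c8 LD2_c3 LD3_c8)) :=
  Lgr Lrot104 (Lpr_ct (f182045 IH) (Lpe (K10.f33561 IH) (Lpe (K10.f192975 IH) (Lpe (K10.f47060 IH) (Lpe (K1.f28182 IH) (Lpr_gf (K10.f192584 IH) (Lpe (f171525 IH) (Lpr_gt (f237057 IH) (Lpr_ct (f182005 IH) (Lpn (LP (LK LD1_c8 LD2_c3 LD3_c8))))))))))))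
theorem f190760 : Led Lsl_dt (LP (LK LD1_c4 LD2_c1 LD3_c41)) = (LP (LK LD1_c8 LD2_c3 LD3_c61)) :=
  Lre_d IH (LK LD1_c4 LD2_c1 LD3_c41) (LK LD1_c8 LD2_c3 LD3_c61) Lrfl Lrfl
theorem f34619 : Led Lsl_dt (LP (LK LD1_c1 LD2_c57 LD3_c29)) = (LP (LK LD1_c0 LD2_c55 LD3_c36)) :=
  Lre_d IH (LK LD1_c1 LD2_c57 LD3_c29) (LK LD1_c0 LD2_c55 LD3_c36) Lrfl Lrfl
theorem f237103 : Led Lsl_gt (LP (LK LD1_c8 LD2_c3 LD3_c61)) = (LP (LK LD1_c4 LD2_c4 LD3_c57)) :=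
  Lgr Lrot49 (Lpe (f190760 IH) (Lpr_gf (f237071 IH) (Lpe (f182005 IH) (Lpr_gt (f182003 IH) (Lpr_dt (f34619 IH) (Lpe (K9.f181997 IH) (Lpr_dt (K1.f27857 IH) (Lpe (K1.f27862 IH) (Lpe (K1.f46593 IH) (Lpn (LP (LK LD1_c4 LD2_c4 LD3_c57))))))))))))
theorem f34041 : Led Lsl_gt (LP (LK LD1_c4 LD2_c2 LD3_c22)) = (LP (LK LD1_c1 LD2_c58 LD3_c9)) :=
  Lre_g IH (LK LD1_c4 LD2_c2 LD3_c22) (LK LD1_c1 LD2_c58 LD3_c9) Lrfl Lrfl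
theorem f242098 : Led Lsl_cf (LP (LK LD1_c8 LD2_c3 LD3_c61)) = (LP (LK LD1_c4 LD2_c2 LD3_c22)) :=
  Lgr Lrot166 (Lpr_gt (f237103 IH) (Lpr_dt (K1.f46593 IH) (Lpr_gt (f190751 IH) (Lpr_dt (f180785 IH) (Lpr_ct (f242081 IH) (Lpe (f33748 IH) (Lpe (f33744 IH) (Lpe (K0.f34020 IH) (Lpe (f34041 IH) (Lpn (LP (LK LD1_c4 LD2_c2 LD3_c22))))))))))))
theorem f33588 : Led Lsl_ct (LP (LK LD1_c1 LD2_c57 LD3_c48)) = (LP (LK LD1_c4 LD2_c1 LD3_c41)) :=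
  Lre_c IH (LK LD1_c1 LD2_c57 LD3_c48) (LK LD1_c4 LD2_c1 LD3_c41) Lrfl Lrfl
theorem f240284 : Led Lsl_bt (LP (LK LD1_c1 LD2_c13 LD3_c1)) = (LP (LK LD1_c2 LD2_c31 LD3_c30)) :=
  Lgr Lrot127 (Lpr_bf (f240256 IH) (Lpn (LP (LK LD1_c2 LD2_c31 LD3_c30))))
theorem f165485 : Led Lsl_ct (LP (LK LD1_c1 LD2_c13 LD3_c1)) = (LP (LK LD1_c2 LD2_c31 LD3_c61)) :=
  Lre_c IH (LK LD1_c1 LD2_c13 LD3_c1) (LK LD1_c2 LD2_c31 LD3_c61) Lrfl Lrfl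
theorem f165484 : Led Lsl_ct (LP (LK LD1_c2 LD2_c31 LD3_c61)) = (LP (LK LD1_c1 LD2_c13 LD3_c1)) :=
  Lre_c IH (LK LD1_c2 LD2_c31 LD3_c61) (LK LD1_c1 LD2_c13 LD3_c1) Lrfl Lrfl
theorem f185270 : Led Lsl_gf (LP (LK LD1_c2 LD2_c31 LD3_c61)) = (LP (LK LD1_c1 LD2_c13 LD3_c41)) :=
  Lgr Lrot179 (Lpr_ct (f165484 IH) (Lpr_gt (f165483 IH) (Lpr_ct (K10.f22100 IH) (Lpr_dt (K10.f171646 IH) (Lpe (K10.f180693 IH) (Lpe (K10.f180661 IH) (Lpr_cf (K8.f163718 IH) (Lpe (K10.f21392 IH) (Lpr_dt (K10.f185192 IH) (Lpn (LP (LK LD1_c1 LD2_c13 LD3_c41))))))))))))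
theorem f165524 : Led Lsl_bt (LP (LK LD1_c0 LD2_c34 LD3_c7)) = (LP (LK LD1_c1 LD2_c13 LD3_c39)) :=
  Lre_b IH (LK LD1_c0 LD2_c34 LD3_c7) (LK LD1_c1 LD2_c13 LD3_c39) Lrfl Lrfl
theorem f171669 : Led Lsl_gt (LP (LK LD1_c2 LD2_c33 LD3_c25)) = (LP (LK LD1_c1 LD2_c13 LD3_c39)) :=
  Lre_g IH (LK LD1_c2 LD2_c33 LD3_c25) (LK LD1_c1 LD2_c13 LD3_c39) Lrfl Lrfl
theorem f33193 : Led Lsl_ct (LP (LK LD1_c1 LD2_c12 LD3_c49)) = (LP (LK LD1_c2 LD2_c31 LD3_c31)) :=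
  Lre_c IH (LK LD1_c1 LD2_c12 LD3_c49) (LK LD1_c2 LD2_c31 LD3_c31) Lrfl Lrfl
theorem f33191 : Led Lsl_gt (LP (LK LD1_c2 LD2_c31 LD3_c31)) = (LP (LK LD1_c5 LD2_c8 LD3_c35)) :=
  Lre_g IH (LK LD1_c2 LD2_c31 LD3_c31) (LK LD1_c5 LD2_c8 LD3_c35) Lrfl Lrfl
theorem f239805 : Led Lsl_af (LP (LK LD1_c2 LD2_c31 LD3_c35)) = (LP (LK LD1_c4 LD2_c1 LD3_c43)) :=
  Lgr Lrot68 (Lpr_ct (K10.f190277 IH) (Lpr_at (f239801 IH) (Lpr_ct (f165477 IH) (Lpn (LP (LK LD1_c4 LD2_c1 LD3_c43))))))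
theorem f240131 : Led Lsl_gf (LP (LK LD1_c2 LD2_c31 LD3_c35)) = (LP (LK LD1_c5 LD2_c8 LD3_c35)) :=
  Lgr Lrot76 (Lpr_af (f239805 IH) (Lpr_ff (f240117 IH) (Lpr_gt (f33191 IH) (Lpn (LP (LK LD1_c5 LD2_c8 LD3_c35))))))
theorem f193633 : Led Lsl_gt (LP (LK LD1_c1 LD2_c57 LD3_c55)) = (LP (LK LD1_c4 LD2_c1 LD3_c58)) :=
  Lre_g IH (LK LD1_c1 LD2_c57 LD3_c55) (LK LD1_c4 LD2_c1 LD3_c58) Lrfl Lrfl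
theorem f240134 : Led Lsl_ct (LP (LK LD1_c4 LD2_c1 LD3_c58)) = (LP (LK LD1_c5 LD2_c8 LD3_c35)) :=
  Lgr Lrot152 (Lpe (f193633 IH) (Lpe (K12.f193632 IH) (Lpr_gt (K10.f193460 IH) (Lpe (K10.f46948 IH) (Lpe (K10.f47082 IH) (Lpr_ct (K10.f190269 IH) (Lpe (f21860 IH) (Lpe (K10.f190277 IH) (Lpr_gf (f240131 IH) (Lpn (LP (LK LD1_c5 LD2_c8 LD3_c35))))))))))))
theorem f240365 : Led Lsl_bf (LP (LK LD1_c2 LD2_c33 LD3_c25)) = (LP (LK LD1_c4 LD2_c1 LD3_c58)) :=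
  Lgr Lrot156 (Lpr_gt (f171669 IH) (Lpe (f165524 IH) (Lpr_ct (K10.f165523 IH) (Lpe (f185270 IH) (Lpe (f165485 IH) (Lpr_bt (f240284 IH) (Lpr_gt (f33265 IH) (Lpr_ct (f33193 IH) (Lpr_gt (f33191 IH) (Lpe (f240134 IH) (Lpn (LP (LK LD1_c4 LD2_c1 LD3_c58)))))))))))))
theorem f240367 : Led Lsl_bt (LP (LK LD1_c2 LD2_c33 LD3_c25)) = (LP (LK LD1_c4 LD2_c1 LD3_c58)) :=
  Lgr Lrot127 (Lpr_bf (f240365 IH) (Lpn (LP (LK LD1_c4 LD2_c1 LD3_c58))))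
theorem f183907 : Led Lsl_ct (LP (LK LD1_c2 LD2_c33 LD3_c25)) = (LP (LK LD1_c5 LD2_c13 LD3_c5)) :=
  Lre_c IH (LK LD1_c2 LD2_c33 LD3_c25) (LK LD1_c5 LD2_c13 LD3_c5) Lrfl Lrfl
theorem f44838 : Led Lsl_dt (LP (LK LD1_c4 LD2_c27 LD3_c29)) = (LP (LK LD1_c2 LD2_c10 LD3_c56)) :=
  Lre_d IH (LK LD1_c4 LD2_c27 LD3_c29) (LK LD1_c2 LD2_c10 LD3_c56) Lrfl Lrfl
theorem f44122 : Led Lsl_dt (LP (LK LD1_c2 LD2_c10 LD3_c51)) = (LP (LK LD1_c4 LD2_c27 LD3_c19)) :=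
  Lre_d IH (LK LD1_c2 LD2_c10 LD3_c51) (LK LD1_c4 LD2_c27 LD3_c19) Lrfl Lrfl
theorem f46252 : Led Lsl_af (LP (LK LD1_c4 LD2_c27 LD3_c29)) = (LP (LK LD1_c4 LD2_c27 LD3_c19)) :=
  Lgr Lrot117 (Lpr_dt (f44838 IH) (Lpr_at (K1.f46239 IH) (Lpr_dt (f44122 IH) (Lpn (LP (LK LD1_c4 LD2_c27 LD3_c19))))))
theorem f47206 : Led Lsl_ct (LP (LK LD1_c4 LD2_c27 LD3_c29)) = (LP (LK LD1_c8 LD2_c52 LD3_c51)) :=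
  Lre_c IH (LK LD1_c4 LD2_c27 LD3_c29) (LK LD1_c8 LD2_c52 LD3_c51) Lrfl Lrfl
theorem f47207 : Led Lsl_af (LP (LK LD1_c8 LD2_c11 LD3_c49)) = (LP (LK LD1_c8 LD2_c52 LD3_c51)) :=
  Lgr Lrot68 (Lpr_ct (K12.f47202 IH) (Lpe (f46252 IH) (Lpr_ct (f47206 IH) (Lpn (LP (LK LD1_c8 LD2_c52 LD3_c51))))))
theorem f46166 : Led Lsl_ct (LP (LK LD1_c4 LD2_c27 LD3_c30)) = (LP (LK LD1_c2 LD2_c10 LD3_c57)) :=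
  Lre_c IH (LK LD1_c4 LD2_c27 LD3_c30) (LK LD1_c2 LD2_c10 LD3_c57) Lrfl Lrfl
theorem f46165 : Led Lsl_dt (LP (LK LD1_c8 LD2_c52 LD3_c53)) = (LP (LK LD1_c4 LD2_c27 LD3_c30)) :=
  Lre_d IH (LK LD1_c8 LD2_c52 LD3_c53) (LK LD1_c4 LD2_c27 LD3_c30) Lrfl Lrfl
theorem f47201 : Led Lsl_ft (LP (LK LD1_c8 LD2_c52 LD3_c53)) = (LP (LK LD1_c4 LD2_c27 LD3_c29)) :=
  Lre_f IH (LK LD1_c8 LD2_c52 LD3_c53) (LK LD1_c4 LD2_c27 LD3_c29) Lrfl Lrfl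
theorem f47215 : Led Lsl_at (LP (LK LD1_c4 LD2_c27 LD3_c29)) = (LP (LK LD1_c4 LD2_c27 LD3_c19)) :=
  Lgr Lrot33 (Lpe (f47201 IH) (Lpr_dt (f46165 IH) (Lpr_ct (f46166 IH) (Lpr_dt (K1.f46079 IH) (Lpe (K1.f47104 IH) (Lpr_dt (K10.f47185 IH) (Lpr_ct (K10.f47186 IH) (Lpr_dt (K12.f47187 IH) (Lpr_ct (K12.f47202 IH) (Lpn (LP (LK LD1_c4 LD2_c27 LD3_c19))))))))))))
theorem f44258 : Led Lsl_ft (LP (LK LD1_c4 LD2_c27 LD3_c20)) = (LP (LK LD1_c2 LD2_c10 LD3_c51)) :=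
  Lre_f IH (LK LD1_c4 LD2_c27 LD3_c20) (LK LD1_c2 LD2_c10 LD3_c51) Lrfl Lrfl
theorem f46190 : Led Lsl_ff (LP (LK LD1_c8 LD2_c11 LD3_c47)) = (LP (LK LD1_c4 LD2_c27 LD3_c19)) :=
  Lgr Lrot19 (Lpr_dt (K1.f46181 IH) (Lpr_ft (f44258 IH) (Lpr_dt (f44122 IH) (Lpn (LP (LK LD1_c4 LD2_c27 LD3_c19))))))
theorem f47225 : Led Lsl_af (LP (LK LD1_c8 LD2_c52 LD3_c53)) = (LP (LK LD1_c8 LD2_c11 LD3_c47)) :=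
  Lgr Lrot45 (Lpr_ft (f47201 IH) (Lpr_at (f47215 IH) (Lpe (f46190 IH) (Lpn (LP (LK LD1_c8 LD2_c11 LD3_c47))))))
theorem f46187 : Led Lsl_df (LP (LK LD1_c8 LD2_c11 LD3_c47)) = (LP (LK LD1_c4 LD2_c27 LD3_c20)) :=
  Lgr Lrot38 (Lpr_dt (K1.f46181 IH) (Lpn (LP (LK LD1_c4 LD2_c27 LD3_c20))))
theorem f47229 : Led Lsl_at (LP (LK LD1_c4 LD2_c27 LD3_c30)) = (LP (LK LD1_c4 LD2_c27 LD3_c20)) :=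
  Lgr Lrot51 (Lpe (f46165 IH) (Lpr_af (f47225 IH) (Lpr_df (f46187 IH) (Lpn (LP (LK LD1_c4 LD2_c27 LD3_c20))))))
theorem f44784 : Led Lsl_ft (LP (LK LD1_c2 LD2_c10 LD3_c56)) = (LP (LK LD1_c4 LD2_c27 LD3_c30)) :=
  Lre_f IH (LK LD1_c2 LD2_c10 LD3_c56) (LK LD1_c4 LD2_c27 LD3_c30) Lrfl Lrfl
theorem f44778 : Led Lsl_dt (LP (LK LD1_c2 LD2_c10 LD3_c56)) = (LP (LK LD1_c4 LD2_c27 LD3_c29)) :=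
  Lre_d IH (LK LD1_c2 LD2_c10 LD3_c56) (LK LD1_c4 LD2_c27 LD3_c29) Lrfl Lrfl
theorem f46171 : Led Lsl_ct (LP (LK LD1_c2 LD2_c10 LD3_c52)) = (LP (LK LD1_c4 LD2_c27 LD3_c20)) :=
  Lre_c IH (LK LD1_c2 LD2_c10 LD3_c52) (LK LD1_c4 LD2_c27 LD3_c20) Lrfl Lrfl
theorem f46135 : Led Lsl_dt (LP (LK LD1_c1 LD2_c2 LD3_c26)) = (LP (LK LD1_c2 LD2_c10 LD3_c52)) :=
  Lre_d IH (LK LD1_c1 LD2_c2 LD3_c26) (LK LD1_c2 LD2_c10 LD3_c52) Lrfl Lrfl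
theorem f46218 : Led Lsl_ct (LP (LK LD1_c8 LD2_c10 LD3_c60)) = (LP (LK LD1_c4 LD2_c5 LD3_c6)) :=
  Lre_c IH (LK LD1_c8 LD2_c10 LD3_c60) (LK LD1_c4 LD2_c5 LD3_c6) Lrfl Lrfl
theorem f47261 : Led Lsl_dt (LP (LK LD1_c8 LD2_c52 LD3_c51)) = (LP (LK LD1_c8 LD2_c10 LD3_c60)) :=
  Lgr Lrot32 (Lpe (f47206 IH) (Lpe (f44778 IH) (Lpr_ft (f44784 IH) (Lpr_at (f47229 IH) (Lpe (f46171 IH) (Lpe (f46135 IH) (Lpe (K9.f46205 IH) (Lpe (K1.f46216 IH) (Lpe (f46218 IH) (Lpn (LP (LK LD1_c8 LD2_c10 LD3_c60))))))))))))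
theorem f47196 : Led Lsl_dt (LP (LK LD1_c4 LD2_c5 LD3_c5)) = (LP (LK LD1_c8 LD2_c10 LD3_c59)) :=
  Lre_d IH (LK LD1_c4 LD2_c5 LD3_c5) (LK LD1_c8 LD2_c10 LD3_c59) Lrfl Lrfl
theorem f47270 : Led Lsl_ff (LP (LK LD1_c8 LD2_c52 LD3_c51)) = (LP (LK LD1_c8 LD2_c10 LD3_c59)) :=
  Lgr Lrot19 (Lpr_dt (f47261 IH) (Lpr_ft (K1.f47269 IH) (Lpr_dt (f47196 IH) (Lpn (LP (LK LD1_c8 LD2_c10 LD3_c59))))))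
theorem f230676 : Led Lsl_gt (LP (LK LD1_c8 LD2_c10 LD3_c59)) = (LP (LK LD1_c10 LD2_c16 LD3_c44)) :=
  Lgr Lrot5 (Lpe (f47270 IH) (Lpe (f47207 IH) (Lpr_gf (K12.f230672 IH) (Lpn (LP (LK LD1_c10 LD2_c16 LD3_c44))))))
theorem f44158 : Led Lsl_gt (LP (LK LD1_c4 LD2_c27 LD3_c19)) = (LP (LK LD1_c8 LD2_c52 LD3_c26)) :=
  Lre_g IH (LK LD1_c4 LD2_c27 LD3_c19) (LK LD1_c8 LD2_c52 LD3_c26) Lrfl Lrfl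
theorem f47233 : Led Lsl_gf (LP (LK LD1_c8 LD2_c52 LD3_c53)) = (LP (LK LD1_c8 LD2_c52 LD3_c26)) :=
  Lgr Lrot76 (Lpr_af (f47225 IH) (Lpr_ff (f46190 IH) (Lpr_gt (f44158 IH) (Lpn (LP (LK LD1_c8 LD2_c52 LD3_c26))))))
theorem f44456 : Led Lsl_dt (LP (LK LD1_c2 LD2_c24 LD3_c51)) = (LP (LK LD1_c4 LD2_c53 LD3_c56)) :=
  Lre_d IH (LK LD1_c2 LD2_c24 LD3_c51) (LK LD1_c4 LD2_c53 LD3_c56) Lrfl Lrfl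
theorem f190867 : Led Lsl_ct (LP (LK LD1_c9 LD2_c39 LD3_c21)) = (LP (LK LD1_c4 LD2_c53 LD3_c56)) :=
  Lre_c IH (LK LD1_c9 LD2_c39 LD3_c21) (LK LD1_c4 LD2_c53 LD3_c56) Lrfl Lrfl
theorem f212294 : Led Lsl_df (LP (LK LD1_c9 LD2_c39 LD3_c21)) = (LP (LK LD1_c8 LD2_c52 LD3_c26)) :=
  Lgr Lrot174 (Lpr_ct (f190867 IH) (Lpe (f44456 IH) (Lpe (K10.f44455 IH) (Lpe (K1.f44442 IH) (Lpe (K10.f44450 IH) (Lpr_ct (K12.f212260 IH) (Lpr_gt (K12.f44128 IH) (Lpr_dt (f44122 IH) (Lpr_gt (f44158 IH) (Lpn (LP (LK LD1_c8 LD2_c52 LD3_c26))))))))))))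
theorem f230674 : Led Lsl_dt (LP (LK LD1_c2 LD2_c33 LD3_c26)) = (LP (LK LD1_c5 LD2_c13 LD3_c10)) :=
  Lre_d IH (LK LD1_c2 LD2_c33 LD3_c26) (LK LD1_c5 LD2_c13 LD3_c10) Lrfl Lrfl
theorem f183897 : Led Lsl_ct (LP (LK LD1_c1 LD2_c13 LD3_c39)) = (LP (LK LD1_c2 LD2_c33 LD3_c26)) :=
  Lre_c IH (LK LD1_c1 LD2_c13 LD3_c39) (LK LD1_c2 LD2_c33 LD3_c26) Lrfl Lrfl
theorem f183906 : Led Lsl_ct (LP (LK LD1_c5 LD2_c13 LD3_c5)) = (LP (LK LD1_c2 LD2_c33 LD3_c25)) :=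
  Lre_c IH (LK LD1_c5 LD2_c13 LD3_c5) (LK LD1_c2 LD2_c33 LD3_c25) Lrfl Lrfl
theorem f230683 : Led Lsl_gt (LP (LK LD1_c9 LD2_c39 LD3_c21)) = (LP (LK LD1_c5 LD2_c13 LD3_c5)) :=
  Lgr Lrot9 (Lpr_df (f212294 IH) (Lpe (f47233 IH) (Lpe (K1.f46231 IH) (Lpr_gt (f230676 IH) (Lpr_ct (K12.f230679 IH) (Lpe (f230674 IH) (Lpe (f183897 IH) (Lpe (f171669 IH) (Lpe (f183906 IH) (Lpn (LP (LK LD1_c5 LD2_c13 LD3_c5))))))))))))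
theorem f191779 : Led Lsl_ct (LP (LK LD1_c4 LD2_c53 LD3_c56)) = (LP (LK LD1_c9 LD2_c39 LD3_c21)) :=
  Lre_c IH (LK LD1_c4 LD2_c53 LD3_c56) (LK LD1_c9 LD2_c39 LD3_c21) Lrfl Lrfl
theorem f22090 : Led Lsl_et (LP (LK LD1_c2 LD2_c0 LD3_c46)) = (LP (LK LD1_c0 LD2_c57 LD3_c20)) :=
  Lre_e IH (LK LD1_c2 LD2_c0 LD3_c46) (LK LD1_c0 LD2_c57 LD3_c20) Lrfl Lrfl
theorem f22023 : Led Lsl_et (LP (LK LD1_c1 LD2_c13 LD3_c0)) = (LP (LK LD1_c2 LD2_c31 LD3_c60)) :=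
  Lre_e IH (LK LD1_c1 LD2_c13 LD3_c0) (LK LD1_c2 LD2_c31 LD3_c60) Lrfl Lrfl
theorem f22024 : Led Lsl_et (LP (LK LD1_c0 LD2_c26 LD3_c1)) = (LP (LK LD1_c0 LD2_c57 LD3_c22)) :=
  Lre_e IH (LK LD1_c0 LD2_c26 LD3_c1) (LK LD1_c0 LD2_c57 LD3_c22) Lrfl Lrfl
theorem f22025 : Led Lsl_dt (LP (LK LD1_c0 LD2_c57 LD3_c21)) = (LP (LK LD1_c0 LD2_c26 LD3_c1)) :=
  Lre_d IH (LK LD1_c0 LD2_c57 LD3_c21) (LK LD1_c0 LD2_c26 LD3_c1) Lrfl Lrfl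
theorem f22026 : Led Lsl_et (LP (LK LD1_c2 LD2_c0 LD3_c48)) = (LP (LK LD1_c0 LD2_c57 LD3_c21)) :=
  Lre_e IH (LK LD1_c2 LD2_c0 LD3_c48) (LK LD1_c0 LD2_c57 LD3_c21) Lrfl Lrfl
theorem f22027 : Led Lsl_dt (LP (LK LD1_c2 LD2_c31 LD3_c60)) = (LP (LK LD1_c2 LD2_c0 LD3_c48)) :=
  Lgr Lrot77 (Lpe (f22023 IH) (Lpr_df (K10.f22012 IH) (Lpe (f22024 IH) (Lpe (f22025 IH) (Lpe (f22026 IH) (Lpn (LP (LK LD1_c2 LD2_c0 LD3_c48))))))))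
theorem f22039 : Led Lsl_df (LP (LK LD1_c2 LD2_c31 LD3_c60)) = (LP (LK LD1_c2 LD2_c0 LD3_c48)) :=
  Lgr Lrot38 (Lpr_dt (f22027 IH) (Lpn (LP (LK LD1_c2 LD2_c0 LD3_c48))))
theorem f22050 : Led Lsl_bt (LP (LK LD1_c2 LD2_c31 LD3_c60)) = (LP (LK LD1_c5 LD2_c9 LD3_c47)) :=
  Lre_b IH (LK LD1_c2 LD2_c31 LD3_c60) (LK LD1_c5 LD2_c9 LD3_c47) Lrfl Lrfl
theorem f22051 : Led Lsl_bt (LP (LK LD1_c4 LD2_c6 LD3_c51)) = (LP (LK LD1_c2 LD2_c0 LD3_c48)) :=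
  Lre_b IH (LK LD1_c4 LD2_c6 LD3_c51) (LK LD1_c2 LD2_c0 LD3_c48) Lrfl Lrfl
theorem f22052 : Led Lsl_dt (LP (LK LD1_c5 LD2_c9 LD3_c47)) = (LP (LK LD1_c4 LD2_c6 LD3_c51)) :=
  Lgr Lrot79 (Lpe (f22050 IH) (Lpr_df (f22039 IH) (Lpe (f22051 IH) (Lpn (LP (LK LD1_c4 LD2_c6 LD3_c51))))))
theorem f22066 : Led Lsl_et (LP (LK LD1_c2 LD2_c31 LD3_c58)) = (LP (LK LD1_c5 LD2_c9 LD3_c47)) :=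
  Lre_e IH (LK LD1_c2 LD2_c31 LD3_c58) (LK LD1_c5 LD2_c9 LD3_c47) Lrfl Lrfl
theorem f22067 : Led Lsl_et (LP (LK LD1_c4 LD2_c6 LD3_c51)) = (LP (LK LD1_c2 LD2_c0 LD3_c45)) :=
  Lre_e IH (LK LD1_c4 LD2_c6 LD3_c51) (LK LD1_c2 LD2_c0 LD3_c45) Lrfl Lrfl
theorem f22068 : Led Lsl_dt (LP (LK LD1_c2 LD2_c0 LD3_c45)) = (LP (LK LD1_c0 LD2_c57 LD3_c20)) :=
  Lre_d IH (LK LD1_c2 LD2_c0 LD3_c45) (LK LD1_c0 LD2_c57 LD3_c20) Lrfl Lrfl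
theorem f22069 : Led Lsl_et (LP (LK LD1_c0 LD2_c57 LD3_c20)) = (LP (LK LD1_c2 LD2_c0 LD3_c46)) :=
  Lre_e IH (LK LD1_c0 LD2_c57 LD3_c20) (LK LD1_c2 LD2_c0 LD3_c46) Lrfl Lrfl
theorem f22070 : Led Lsl_df (LP (LK LD1_c2 LD2_c31 LD3_c58)) = (LP (LK LD1_c2 LD2_c0 LD3_c46)) :=
  Lgr Lrot70 (Lpr_et (f22066 IH) (Lpr_dt (f22052 IH) (Lpr_et (f22067 IH) (Lpr_dt (f22068 IH) (Lpr_et (f22069 IH) (Lpn (LP (LK LD1_c2 LD2_c0 LD3_c46))))))))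
theorem f27533 : Led Lsl_et (LP (LK LD1_c0 LD2_c11 LD3_c58)) = (LP (LK LD1_c0 LD2_c26 LD3_c61)) :=
  Lre_e IH (LK LD1_c0 LD2_c11 LD3_c58) (LK LD1_c0 LD2_c26 LD3_c61) Lrfl Lrfl
theorem f33551 : Led Lsl_df (LP (LK LD1_c0 LD2_c11 LD3_c16)) = (LP (LK LD1_c0 LD2_c14 LD3_c52)) :=
  Lgr Lrot38 (Lpr_dt (K0.f33346 IH) (Lpn (LP (LK LD1_c0 LD2_c14 LD3_c52))))
theorem f3337 : Led Lsl_dt (LP (LK LD1_c1 LD2_c11 LD3_c16)) = (LP (LK LD1_c2 LD2_c28 LD3_c7)) :=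
  Lre_d IH (LK LD1_c1 LD2_c11 LD3_c16) (LK LD1_c2 LD2_c28 LD3_c7) Lrfl Lrfl
theorem f190953 : Led Lsl_gt (LP (LK LD1_c2 LD2_c28 LD3_c7)) = (LP (LK LD1_c2 LD2_c31 LD3_c58)) :=
  Lgr Lrot139 (Lpe (f3337 IH) (Lpe (K10.f3720 IH) (Lpe (K0.f3715 IH) (Lpe (f33551 IH) (Lpr_gf (K0.f27773 IH) (Lpe (K0.f8068 IH) (Lpr_et (f27533 IH) (Lpr_gf (K10.f190945 IH) (Lpe (f22090 IH) (Lpe (f22070 IH) (Lpn (LP (LK LD1_c2 LD2_c31 LD3_c58)))))))))))))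
theorem f238226 : Led Lsl_ef (LP (LK LD1_c2 LD2_c12 LD3_c43)) = (LP (LK LD1_c1 LD2_c11 LD3_c16)) :=
  Lgr Lrot17 (Lpr_gf (f238218 IH) (Lpr_ef (f199343 IH) (Lpe (f216472 IH) (Lpe (K10.f8100 IH) (Lpe (K10.f8099 IH) (Lpr_gf (K10.f190945 IH) (Lpe (f22090 IH) (Lpe (f22070 IH) (Lpe (f190953 IH) (Lpe (f3337 IH) (Lpn (LP (LK LD1_c1 LD2_c11 LD3_c16)))))))))))))
theorem f238217 : Led Lsl_et (LP (LK LD1_c1 LD2_c8 LD3_c56)) = (LP (LK LD1_c2 LD2_c23 LD3_c42)) :=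
  Lre_e IH (LK LD1_c1 LD2_c8 LD3_c56) (LK LD1_c2 LD2_c23 LD3_c42) Lrfl Lrfl
theorem f1586 : Led Lsl_dt (LP (LK LD1_c2 LD2_c23 LD3_c42)) = (LP (LK LD1_c4 LD2_c51 LD3_c47)) :=
  Lre_d IH (LK LD1_c2 LD2_c23 LD3_c42) (LK LD1_c4 LD2_c51 LD3_c47) Lrfl Lrfl
theorem f3336 : Led Lsl_dt (LP (LK LD1_c2 LD2_c28 LD3_c7)) = (LP (LK LD1_c1 LD2_c11 LD3_c16)) :=
  Lre_d IH (LK LD1_c2 LD2_c28 LD3_c7) (LK LD1_c1 LD2_c11 LD3_c16) Lrfl Lrfl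
theorem f238229 : Led Lsl_et (LP (LK LD1_c4 LD2_c51 LD3_c47)) = (LP (LK LD1_c2 LD2_c28 LD3_c7)) :=
  Lgr Lrot71 (Lpe (f1586 IH) (Lpe (f238217 IH) (Lpe (f238213 IH) (Lpr_ef (f238226 IH) (Lpe (f3336 IH) (Lpn (LP (LK LD1_c2 LD2_c28 LD3_c7))))))))
theorem f193300 : Led Lsl_bt (LP (LK LD1_c9 LD2_c35 LD3_c30)) = (LP (LK LD1_c4 LD2_c51 LD3_c47)) :=
  Lre_b IH (LK LD1_c9 LD2_c35 LD3_c30) (LK LD1_c4 LD2_c51 LD3_c47) Lrfl Lrfl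
theorem f44464 : Led Lsl_dt (LP (LK LD1_c4 LD2_c53 LD3_c56)) = (LP (LK LD1_c2 LD2_c24 LD3_c51)) :=
  Lre_d IH (LK LD1_c4 LD2_c53 LD3_c56) (LK LD1_c2 LD2_c24 LD3_c51) Lrfl Lrfl
theorem f190872 : Led Lsl_bt (LP (LK LD1_c2 LD2_c28 LD3_c7)) = (LP (LK LD1_c4 LD2_c53 LD3_c56)) :=
  Lgr Lrot95 (Lpe (f3337 IH) (Lpr_bf (K10.f190868 IH) (Lpe (f44464 IH) (Lpn (LP (LK LD1_c4 LD2_c53 LD3_c56))))))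
theorem f238231 : Led Lsl_ef (LP (LK LD1_c9 LD2_c35 LD3_c30)) = (LP (LK LD1_c4 LD2_c53 LD3_c56)) :=
  Lgr Lrot29 (Lpr_bt (f193300 IH) (Lpr_et (f238229 IH) (Lpr_bt (f190872 IH) (Lpn (LP (LK LD1_c4 LD2_c53 LD3_c56))))))
theorem f238259 : Led Lsl_et (LP (LK LD1_c9 LD2_c35 LD3_c30)) = (LP (LK LD1_c4 LD2_c53 LD3_c56)) :=
  Lgr Lrot87 (Lpr_ef (f238231 IH) (Lpn (LP (LK LD1_c4 LD2_c53 LD3_c56))))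
theorem f238239 : Led Lsl_bt (LP (LK LD1_c4 LD2_c51 LD3_c47)) = (LP (LK LD1_c9 LD2_c35 LD3_c30)) :=
  Lre_b IH (LK LD1_c4 LD2_c51 LD3_c47) (LK LD1_c9 LD2_c35 LD3_c30) Lrfl Lrfl
theorem f238235 : Led Lsl_ef (LP (LK LD1_c4 LD2_c51 LD3_c47)) = (LP (LK LD1_c2 LD2_c28 LD3_c7)) :=
  Lgr Lrot88 (Lpr_et (f238229 IH) (Lpn (LP (LK LD1_c2 LD2_c28 LD3_c7))))
theorem f238267 : Led Lsl_bf (LP (LK LD1_c2 LD2_c28 LD3_c7)) = (LP (LK LD1_c4 LD2_c53 LD3_c56)) :=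
  Lgr Lrot96 (Lpe (f238235 IH) (Lpr_bt (f238239 IH) (Lpr_et (f238259 IH) (Lpn (LP (LK LD1_c4 LD2_c53 LD3_c56))))))
theorem f3393 : Led Lsl_gt (LP (LK LD1_c5 LD2_c0 LD3_c45)) = (LP (LK LD1_c2 LD2_c28 LD3_c7)) :=
  Lre_g IH (LK LD1_c5 LD2_c0 LD3_c45) (LK LD1_c2 LD2_c28 LD3_c7) Lrfl Lrfl
theorem f239522 : Led Lsl_gf (LP (LK LD1_c1 LD2_c25 LD3_c36)) = (LP (LK LD1_c1 LD2_c55 LD3_c23)) :=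
  Lgr Lrot141 (Lpe (K10.f177600 IH) (Lpr_dt (f177626 IH) (Lpr_gt (f177541 IH) (Lpr_df (f239516 IH) (Lpe (f200560 IH) (Lpr_gt (f238224 IH) (Lpr_dt (f239105 IH) (Lpr_gt (f239132 IH) (Lpe (K11.f196319 IH) (Lpr_et (K11.f196339 IH) (Lpn (LP (LK LD1_c1 LD2_c55 LD3_c23)))))))))))))
theorem f177365 : Led Lsl_bt (LP (LK LD1_c1 LD2_c25 LD3_c36)) = (LP (LK LD1_c0 LD2_c39 LD3_c32)) :=
  Lre_b IH (LK LD1_c1 LD2_c25 LD3_c36) (LK LD1_c0 LD2_c39 LD3_c32) Lrfl Lrfl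
theorem f177366 : Led Lsl_dt (LP (LK LD1_c2 LD2_c28 LD3_c44)) = (LP (LK LD1_c1 LD2_c25 LD3_c36)) :=
  Lgr Lrot79 (Lpe (K10.f165306 IH) (Lpr_df (K9.f177363 IH) (Lpe (f177365 IH) (Lpn (LP (LK LD1_c1 LD2_c25 LD3_c36))))))
theorem f169621 : Led Lsl_gt (LP (LK LD1_c5 LD2_c2 LD3_c18)) = (LP (LK LD1_c9 LD2_c55 LD3_c25)) :=
  Lre_g IH (LK LD1_c5 LD2_c2 LD3_c18) (LK LD1_c9 LD2_c55 LD3_c25) Lrfl Lrfl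
theorem f196336 : Led Lsl_dt (LP (LK LD1_c1 LD2_c12 LD3_c55)) = (LP (LK LD1_c1 LD2_c55 LD3_c23)) :=
  Lgr Lrot42 (Lpr_df (K10.f196331 IH) (Lpn (LP (LK LD1_c1 LD2_c55 LD3_c23))))
theorem f21965 : Led Lsl_gt (LP (LK LD1_c2 LD2_c28 LD3_c39)) = (LP (LK LD1_c5 LD2_c2 LD3_c2)) :=
  Lre_g IH (LK LD1_c2 LD2_c28 LD3_c39) (LK LD1_c5 LD2_c2 LD3_c2) Lrfl Lrfl
theorem f33939 : Led Lsl_gf (LP (LK LD1_c4 LD2_c1 LD3_c57)) = (LP (LK LD1_c5 LD2_c2 LD3_c2)) :=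
  Lgr Lrot76 (Lpr_af (K0.f33927 IH) (Lpr_ff (K0.f21348 IH) (Lpr_gt (f21965 IH) (Lpn (LP (LK LD1_c5 LD2_c2 LD3_c2))))))
theorem f33935 : Led Lsl_dt (LP (LK LD1_c9 LD2_c54 LD3_c48)) = (LP (LK LD1_c5 LD2_c2 LD3_c2)) :=
  Lre_d IH (LK LD1_c9 LD2_c54 LD3_c48) (LK LD1_c5 LD2_c2 LD3_c2) Lrfl Lrfl
theorem f239526 : Led Lsl_ef (LP (LK LD1_c9 LD2_c55 LD3_c25)) = (LP (LK LD1_c9 LD2_c54 LD3_c48)) :=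
  Lgr Lrot17 (Lpe (f169621 IH) (Lpe (K10.f177597 IH) (Lpr_dt (f177366 IH) (Lpr_gf (f239522 IH) (Lpe (f196336 IH) (Lpe (K10.f34000 IH) (Lpe (K0.f33612 IH) (Lpr_dt (K0.f33613 IH) (Lpr_gf (f33939 IH) (Lpe (f33935 IH) (Lpn (LP (LK LD1_c9 LD2_c54 LD3_c48)))))))))))))
theorem f239533 : Led Lsl_et (LP (LK LD1_c9 LD2_c55 LD3_c25)) = (LP (LK LD1_c9 LD2_c54 LD3_c48)) :=
  Lgr Lrot87 (Lpr_ef (f239526 IH) (Lpn (LP (LK LD1_c9 LD2_c54 LD3_c48))))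
theorem f177554 : Led Lsl_bt (LP (LK LD1_c5 LD2_c2 LD3_c18)) = (LP (LK LD1_c2 LD2_c28 LD3_c46)) :=
  Lre_b IH (LK LD1_c5 LD2_c2 LD3_c18) (LK LD1_c2 LD2_c28 LD3_c46) Lrfl Lrfl
theorem f177555 : Led Lsl_bt (LP (LK LD1_c1 LD2_c25 LD3_c38)) = (LP (LK LD1_c2 LD2_c59 LD3_c47)) :=
  Lre_b IH (LK LD1_c1 LD2_c25 LD3_c38) (LK LD1_c2 LD2_c59 LD3_c47) Lrfl Lrfl
theorem f177556 : Led Lsl_df (LP (LK LD1_c5 LD2_c2 LD3_c18)) = (LP (LK LD1_c2 LD2_c59 LD3_c47)) :=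
  Lgr Lrot12 (Lpr_bt (f177554 IH) (Lpr_dt (K10.f177373 IH) (Lpr_bt (f177555 IH) (Lpn (LP (LK LD1_c2 LD2_c59 LD3_c47))))))
theorem f235385 : Led Lsl_gt (LP (LK LD1_c8 LD2_c27 LD3_c55)) = (LP (LK LD1_c4 LD2_c14 LD3_c35)) :=
  Lre_g IH (LK LD1_c8 LD2_c27 LD3_c55) (LK LD1_c4 LD2_c14 LD3_c35) Lrfl Lrfl
theorem f235398 : Led Lsl_et (LP (LK LD1_c15 LD2_c53 LD3_c43)) = (LP (LK LD1_c8 LD2_c27 LD3_c55)) :=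
  Lre_e IH (LK LD1_c15 LD2_c53 LD3_c43) (LK LD1_c8 LD2_c27 LD3_c55) Lrfl Lrfl
theorem f235399 : Led Lsl_df (LP (LK LD1_c9 LD2_c55 LD3_c25)) = (LP (LK LD1_c15 LD2_c53 LD3_c43)) :=
  Lgr Lrot168 (Lpe (f169621 IH) (Lpr_df (f177556 IH) (Lpr_et (K10.f177598 IH) (Lpe (f201735 IH) (Lpe (f191143 IH) (Lpr_dt (f191144 IH) (Lpe (f21864 IH) (Lpr_df (f235370 IH) (Lpe (f235385 IH) (Lpe (f235398 IH) (Lpn (LP (LK LD1_c15 LD2_c53 LD3_c43)))))))))))))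
theorem f235405 : Led Lsl_et (LP (LK LD1_c8 LD2_c27 LD3_c55)) = (LP (LK LD1_c15 LD2_c53 LD3_c43)) :=
  Lre_e IH (LK LD1_c8 LD2_c27 LD3_c55) (LK LD1_c15 LD2_c53 LD3_c43) Lrfl Lrfl
theorem f239538 : Led Lsl_et (LP (LK LD1_c5 LD2_c2 LD3_c2)) = (LP (LK LD1_c9 LD2_c54 LD3_c49)) :=
  Lre_e IH (LK LD1_c5 LD2_c2 LD3_c2) (LK LD1_c9 LD2_c54 LD3_c49) Lrfl Lrfl
theorem f239539 : Led Lsl_df (LP (LK LD1_c8 LD2_c27 LD3_c55)) = (LP (LK LD1_c9 LD2_c54 LD3_c49)) :=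
  Lgr Lrot70 (Lpr_et (f235405 IH) (Lpe (f235399 IH) (Lpr_et (f239533 IH) (Lpr_dt (f33935 IH) (Lpr_et (f239538 IH) (Lpn (LP (LK LD1_c9 LD2_c54 LD3_c49))))))))
theorem f235380 : Led Lsl_dt (LP (LK LD1_c5 LD2_c8 LD3_c52)) = (LP (LK LD1_c4 LD2_c14 LD3_c35)) :=
  Lgr Lrot42 (Lpr_df (f235370 IH) (Lpn (LP (LK LD1_c4 LD2_c14 LD3_c35))))
theorem f33944 : Led Lsl_et (LP (LK LD1_c9 LD2_c54 LD3_c49)) = (LP (LK LD1_c5 LD2_c2 LD3_c2)) :=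
  Lre_e IH (LK LD1_c9 LD2_c54 LD3_c49) (LK LD1_c5 LD2_c2 LD3_c2) Lrfl Lrfl
theorem f21852 : Led Lsl_et (LP (LK LD1_c1 LD2_c11 LD3_c31)) = (LP (LK LD1_c2 LD2_c28 LD3_c39)) :=
  Lre_e IH (LK LD1_c1 LD2_c11 LD3_c31) (LK LD1_c2 LD2_c28 LD3_c39) Lrfl Lrfl
theorem f239548 : Led Lsl_et (LP (LK LD1_c5 LD2_c8 LD3_c52)) = (LP (LK LD1_c5 LD2_c0 LD3_c45)) :=
  Lgr Lrot121 (Lpr_dt (f235380 IH) (Lpe (f235385 IH) (Lpr_df (f239539 IH) (Lpr_et (f33944 IH) (Lpe (f21965 IH) (Lpe (f21852 IH) (Lpr_dt (K0.f3310 IH) (Lpe (K10.f3335 IH) (Lpe (f3336 IH) (Lpe (f3393 IH) (Lpn (LP (LK LD1_c5 LD2_c0 LD3_c45)))))))))))))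
theorem f235409 : Led Lsl_bt (LP (LK LD1_c4 LD2_c14 LD3_c35)) = (LP (LK LD1_c2 LD2_c4 LD3_c42)) :=
  Lre_b IH (LK LD1_c4 LD2_c14 LD3_c35) (LK LD1_c2 LD2_c4 LD3_c42) Lrfl Lrfl
theorem f190956 : Led Lsl_dt (LP (LK LD1_c2 LD2_c4 LD3_c42)) = (LP (LK LD1_c4 LD2_c14 LD3_c40)) :=
  Lre_d IH (LK LD1_c2 LD2_c4 LD3_c42) (LK LD1_c4 LD2_c14 LD3_c40) Lrfl Lrfl
theorem f235410 : Led Lsl_bf (LP (LK LD1_c5 LD2_c8 LD3_c52)) = (LP (LK LD1_c4 LD2_c14 LD3_c40)) :=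
  Lgr Lrot93 (Lpr_dt (f235380 IH) (Lpr_bt (f235409 IH) (Lpr_dt (f190956 IH) (Lpn (LP (LK LD1_c4 LD2_c14 LD3_c40))))))
theorem f196934 : Led Lsl_dt (LP (LK LD1_c0 LD2_c59 LD3_c21)) = (LP (LK LD1_c1 LD2_c57 LD3_c25)) :=
  Lgr Lrot105 (Lpe (K11.f190952 IH) (Lpe (K11.f27781 IH) (Lpr_gf (K10.f196932 IH) (Lpr_cf (K12.f182180 IH) (Lpr_gt (K9.f28566 IH) (Lpr_dt (K11.f34703 IH) (Lpr_gt (K11.f28571 IH) (Lpr_dt (K12.f28572 IH) (Lpe (K12.f182375 IH) (Lpn (LP (LK LD1_c1 LD2_c57 LD3_c25))))))))))))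
theorem f190955 : Led Lsl_et (LP (LK LD1_c2 LD2_c4 LD3_c42)) = (LP (LK LD1_c0 LD2_c59 LD3_c21)) :=
  Lre_e IH (LK LD1_c2 LD2_c4 LD3_c42) (LK LD1_c0 LD2_c59 LD3_c21) Lrfl Lrfl
theorem f228346 : Led Lsl_dt (LP (LK LD1_c4 LD2_c14 LD3_c40)) = (LP (LK LD1_c2 LD2_c4 LD3_c42)) :=
  Lre_d IH (LK LD1_c4 LD2_c14 LD3_c40) (LK LD1_c2 LD2_c4 LD3_c42) Lrfl Lrfl
theorem f229238 : Led Lsl_ef (LP (LK LD1_c4 LD2_c14 LD3_c40)) = (LP (LK LD1_c4 LD2_c1 LD3_c40)) :=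
  Lgr Lrot73 (Lpr_dt (f228346 IH) (Lpr_et (f190955 IH) (Lpr_dt (f196934 IH) (Lpe (K11.f182380 IH) (Lpr_dt (K12.f229234 IH) (Lpn (LP (LK LD1_c4 LD2_c1 LD3_c40))))))))
theorem f239550 : Led Lsl_bf (LP (LK LD1_c4 LD2_c1 LD3_c40)) = (LP (LK LD1_c5 LD2_c0 LD3_c45)) :=
  Lgr Lrot96 (Lpe (f229238 IH) (Lpe (f235410 IH) (Lpr_et (f239548 IH) (Lpn (LP (LK LD1_c5 LD2_c0 LD3_c45))))))
theorem f239565 : Led Lsl_bt (LP (LK LD1_c4 LD2_c1 LD3_c40)) = (LP (LK LD1_c5 LD2_c0 LD3_c45)) :=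
  Lgr Lrot127 (Lpr_bf (f239550 IH) (Lpn (LP (LK LD1_c5 LD2_c0 LD3_c45))))
theorem f240170 : Led Lsl_gt (LP (LK LD1_c4 LD2_c1 LD3_c58)) = (LP (LK LD1_c1 LD2_c57 LD3_c61)) :=
  Lgr Lrot180 (Lpr_ct (f240134 IH) (Lpe (f240131 IH) (Lpr_dt (f190275 IH) (Lpe (K10.f197205 IH) (Lpr_dt (K1.f27841 IH) (Lpr_ct (K10.f27840 IH) (Lpe (K1.f27871 IH) (Lpe (K12.f190876 IH) (Lpe (K11.f184653 IH) (Lpn (LP (LK LD1_c1 LD2_c57 LD3_c61))))))))))))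
theorem f240447 : Led Lsl_gf (LP (LK LD1_c8 LD2_c3 LD3_c59)) = (LP (LK LD1_c4 LD2_c2 LD3_c4)) :=
  Lgr Lrot129 (Lpe (K12.f184651 IH) (Lpr_bt (f239565 IH) (Lpr_gt (f3393 IH) (Lpr_bf (f238267 IH) (Lpr_ct (f191779 IH) (Lpr_gt (f230683 IH) (Lpe (f183907 IH) (Lpr_bt (f240367 IH) (Lpr_gt (f240170 IH) (Lpr_ct (K11.f184680 IH) (Lpn (LP (LK LD1_c4 LD2_c2 LD3_c4)))))))))))))
theorem f242110 : Led Lsl_gt (LP (LK LD1_c4 LD2_c1 LD3_c38)) = (LP (LK LD1_c4 LD2_c2 LD3_c22)) :=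
  Lgr Lrot9 (Lpe (K0.f33677 IH) (Lpe (K10.f33720 IH) (Lpr_ct (K10.f193403 IH) (Lpr_gt (K9.f47062 IH) (Lpr_ct (K1.f46590 IH) (Lpe (K1.f46876 IH) (Lpe (K1.f46691 IH) (Lpe (f237103 IH) (Lpr_cf (f242098 IH) (Lpn (LP (LK LD1_c4 LD2_c2 LD3_c22))))))))))))
theorem f33705 : Led Lsl_gt (LP (LK LD1_c8 LD2_c4 LD3_c33)) = (LP (LK LD1_c4 LD2_c1 LD3_c55)) :=
  Lre_g IH (LK LD1_c8 LD2_c4 LD3_c33) (LK LD1_c4 LD2_c1 LD3_c55) Lrfl Lrfl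
theorem f242112 : Led Lsl_df (LP (LK LD1_c4 LD2_c2 LD3_c4)) = (LP (LK LD1_c8 LD2_c4 LD3_c33)) :=
  Lgr Lrot155 (Lpe (f240447 IH) (Lpr_ct (K12.f184652 IH) (Lpr_gt (K12.f182044 IH) (Lpr_ct (f33588 IH) (Lpr_dt (f190760 IH) (Lpr_cf (f242098 IH) (Lpe (f242110 IH) (Lpe (K0.f33682 IH) (Lpe (f33705 IH) (Lpn (LP (LK LD1_c8 LD2_c4 LD3_c33))))))))))))
theorem f240166 : Led Lsl_cf (LP (LK LD1_c4 LD2_c1 LD3_c58)) = (LP (LK LD1_c5 LD2_c8 LD3_c35)) :=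
  Lgr Lrot11 (Lpr_ct (f240134 IH) (Lpn (LP (LK LD1_c5 LD2_c8 LD3_c35))))
theorem f180878 : Led Lsl_dt (LP (LK LD1_c0 LD2_c25 LD3_c20)) = (LP (LK LD1_c0 LD2_c55 LD3_c51)) :=
  Lre_d IH (LK LD1_c0 LD2_c25 LD3_c20) (LK LD1_c0 LD2_c55 LD3_c51) Lrfl Lrfl
theorem f180879 : Led Lsl_ct (LP (LK LD1_c0 LD2_c55 LD3_c51)) = (LP (LK LD1_c1 LD2_c57 LD3_c59)) :=
  Lre_c IH (LK LD1_c0 LD2_c55 LD3_c51) (LK LD1_c1 LD2_c57 LD3_c59) Lrfl Lrfl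
theorem f229121 : Led Lsl_dt (LP (LK LD1_c1 LD2_c57 LD3_c59)) = (LP (LK LD1_c4 LD2_c2 LD3_c3)) :=
  Lre_d IH (LK LD1_c1 LD2_c57 LD3_c59) (LK LD1_c4 LD2_c2 LD3_c3) Lrfl Lrfl
theorem f242117 : Led Lsl_ct (LP (LK LD1_c4 LD2_c2 LD3_c3)) = (LP (LK LD1_c8 LD2_c4 LD3_c33)) :=
  Lgr Lrot176 (Lpe (f229121 IH) (Lpe (f180879 IH) (Lpe (f180878 IH) (Lpe (K10.f192108 IH) (Lpe (K12.f193630 IH) (Lpe (K12.f229098 IH) (Lpr_df (K12.f229099 IH) (Lpe (f242058 IH) (Lpe (K12.f193464 IH) (Lpe (K12.f34068 IH) (Lpe (K12.f34064 IH) (Lpe (K10.f165282 IH) (Lpe (K11.f184653 IH) (Lpe (K11.f184654 IH) (Lpr_df (f242112 IH) (Lpn (LP (LK LD1_c8 LD2_c4 LD3_c33))))))))))))))))))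
theorem f242126 : Led Lsl_gt (LP (LK LD1_c2 LD2_c4 LD3_c6)) = (LP (LK LD1_c4 LD2_c2 LD3_c3)) :=
  Lgr Lrot150 (Lpe (K1.f27870 IH) (Lpr_gf (f239953 IH) (Lpe (f190450 IH) (Lpr_gt (f33191 IH) (Lpe (f240166 IH) (Lpr_gt (f240170 IH) (Lpr_ct (K11.f184680 IH) (Lpr_df (f242112 IH) (Lpe (f242117 IH) (Lpn (LP (LK LD1_c4 LD2_c2 LD3_c3))))))))))))
theorem f229133 : Led Lsl_dt (LP (LK LD1_c4 LD2_c2 LD3_c3)) = (LP (LK LD1_c1 LD2_c57 LD3_c59)) :=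
  Lre_d IH (LK LD1_c4 LD2_c2 LD3_c3) (LK LD1_c1 LD2_c57 LD3_c59) Lrfl Lrfl
theorem f34055 : Led Lsl_ct (LP (LK LD1_c1 LD2_c58 LD3_c4)) = (LP (LK LD1_c0 LD2_c55 LD3_c57)) :=
  Lre_c IH (LK LD1_c1 LD2_c58 LD3_c4) (LK LD1_c0 LD2_c55 LD3_c57) Lrfl Lrfl
theorem f242135 : Led Lsl_gf (LP (LK LD1_c0 LD2_c59 LD3_c4)) = (LP (LK LD1_c1 LD2_c58 LD3_c4)) :=
  Lgr Lrot144 (Lpr_dt (K1.f27837 IH) (Lpr_gt (f242126 IH) (Lpr_dt (f229133 IH) (Lpe (f180879 IH) (Lpe (f180878 IH) (Lpe (K10.f81104 IH) (Lpe (K0.f34019 IH) (Lpe (K12.f34047 IH) (Lpe (f34055 IH) (Lpn (LP (LK LD1_c1 LD2_c58 LD3_c4))))))))))))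
theorem f197178 : Led Lsl_dt (LP (LK LD1_c5 LD2_c8 LD3_c59)) = (LP (LK LD1_c2 LD2_c31 LD3_c39)) :=
  Lre_d IH (LK LD1_c5 LD2_c8 LD3_c59) (LK LD1_c2 LD2_c31 LD3_c39) Lrfl Lrfl
theorem f197179 : Led Lsl_gt (LP (LK LD1_c10 LD2_c8 LD3_c26)) = (LP (LK LD1_c5 LD2_c8 LD3_c59)) :=
  Lre_g IH (LK LD1_c10 LD2_c8 LD3_c26) (LK LD1_c5 LD2_c8 LD3_c59) Lrfl Lrfl
theorem f242142 : Led Lsl_cf (LP (LK LD1_c10 LD2_c8 LD3_c26)) = (LP (LK LD1_c8 LD2_c3 LD3_c16)) :=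
  Lgr Lrot166 (Lpr_gt (f197179 IH) (Lpr_dt (f197178 IH) (Lpe (K10.f197170 IH) (Lpe (K1.f46901 IH) (Lpr_ct (K1.f27870 IH) (Lpe (K1.f27837 IH) (Lpr_gf (f242135 IH) (Lpe (K12.f34054 IH) (Lpr_gf (K12.f227329 IH) (Lpn (LP (LK LD1_c8 LD2_c3 LD3_c16))))))))))))
theorem f211601 : Led Lsl_dt (LP (LK LD1_c4 LD2_c1 LD3_c34)) = (LP (LK LD1_c2 LD2_c0 LD3_c1)) :=
  Lgr Lrot42 (Lpr_df (K12.f211594 IH) (Lpn (LP (LK LD1_c2 LD2_c0 LD3_c1))))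
theorem f33823 : Led Lsl_gt (LP (LK LD1_c1 LD2_c57 LD3_c43)) = (LP (LK LD1_c0 LD2_c55 LD3_c44)) :=
  Lre_g IH (LK LD1_c1 LD2_c57 LD3_c43) (LK LD1_c0 LD2_c55 LD3_c44) Lrfl Lrfl
theorem f211608 : Led Lsl_ct (LP (LK LD1_c1 LD2_c57 LD3_c43)) = (LP (LK LD1_c0 LD2_c59 LD3_c3)) :=
  Lgr Lrot8 (Lpr_gt (f33823 IH) (Lpr_dt (K0.f33822 IH) (Lpr_gt (K10.f33761 IH) (Lpr_dt (f211601 IH) (Lpe (K12.f211589 IH) (Lpe (K12.f190886 IH) (Lpr_gf (K10.f190883 IH) (Lpe (K1.f27847 IH) (Lpe (K10.f27848 IH) (Lpn (LP (LK LD1_c0 LD2_c59 LD3_c3))))))))))))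
theorem f227911 : Led Lsl_cf (LP (LK LD1_c5 LD2_c8 LD3_c38)) = (LP (LK LD1_c4 LD2_c1 LD3_c35)) :=
  Lgr Lrot55 (Lpr_dt (f190443 IH) (Lpr_ct (f33190 IH) (Lpr_dt (K12.f21855 IH) (Lpe (K10.f190888 IH) (Lpr_dt (K12.f190886 IH) (Lpr_ct (K12.f211589 IH) (Lpe (K12.f211594 IH) (Lpr_ct (K10.f197215 IH) (Lpr_dt (K10.f190339 IH) (Lpr_ct (K10.f190277 IH) (Lpr_dt (f21860 IH) (Lpe (K10.f190272 IH) (Lpr_dt (K12.f27878 IH) (Lpr_ct (K12.f47084 IH) (Lpr_dt (K12.f227906 IH) (Lpn (LP (LK LD1_c4 LD2_c1 LD3_c35))))))))))))))))))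
theorem f239963 : Led Lsl_gf (LP (LK LD1_c1 LD2_c57 LD3_c43)) = (LP (LK LD1_c1 LD2_c58 LD3_c10)) :=
  Lgr Lrot147 (Lpr_ct (f211608 IH) (Lpr_gt (K10.f27848 IH) (Lpr_ct (K1.f27836 IH) (Lpe (K1.f27869 IH) (Lpe (K1.f27870 IH) (Lpr_gf (f239953 IH) (Lpr_cf (f227911 IH) (Lpe (f227923 IH) (Lpe (K0.f33790 IH) (Lpn (LP (LK LD1_c1 LD2_c58 LD3_c10))))))))))))
theorem f196179 : Led Lsl_dt (LP (LK LD1_c1 LD2_c57 LD3_c43)) = (LP (LK LD1_c4 LD2_c1 LD3_c31)) :=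
  Lre_d IH (LK LD1_c1 LD2_c57 LD3_c43) (LK LD1_c4 LD2_c1 LD3_c31) Lrfl Lrfl
theorem f197181 : Led Lsl_dt (LP (LK LD1_c2 LD2_c31 LD3_c39)) = (LP (LK LD1_c5 LD2_c8 LD3_c59)) :=
  Lre_d IH (LK LD1_c2 LD2_c31 LD3_c39) (LK LD1_c5 LD2_c8 LD3_c59) Lrfl Lrfl
theorem f239970 : Led Lsl_cf (LP (LK LD1_c4 LD2_c1 LD3_c31)) = (LP (LK LD1_c5 LD2_c8 LD3_c59)) :=
  Lgr Lrot14 (Lpe (f196179 IH) (Lpr_gf (f239963 IH) (Lpe (K0.f33740 IH) (Lpr_gf (K10.f33762 IH) (Lpr_ct (K10.f197215 IH) (Lpe (K10.f197205 IH) (Lpr_dt (K1.f27841 IH) (Lpr_gt (K12.f197174 IH) (Lpr_dt (f197181 IH) (Lpn (LP (LK LD1_c5 LD2_c8 LD3_c59))))))))))))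
theorem f33824 : Led Lsl_dt (LP (LK LD1_c4 LD2_c1 LD3_c31)) = (LP (LK LD1_c1 LD2_c57 LD3_c43)) :=
  Lre_d IH (LK LD1_c4 LD2_c1 LD3_c31) (LK LD1_c1 LD2_c57 LD3_c43) Lrfl Lrfl
theorem f211610 : Led Lsl_cf (LP (LK LD1_c1 LD2_c57 LD3_c43)) = (LP (LK LD1_c0 LD2_c59 LD3_c3)) :=
  Lgr Lrot166 (Lpr_gt (f33823 IH) (Lpr_dt (K0.f33822 IH) (Lpr_gt (K10.f33761 IH) (Lpr_dt (f211601 IH) (Lpr_ct (K12.f196361 IH) (Lpe (K12.f190886 IH) (Lpr_gf (K10.f190883 IH) (Lpe (K1.f27847 IH) (Lpe (K10.f27848 IH) (Lpn (LP (LK LD1_c0 LD2_c59 LD3_c3))))))))))))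
theorem f28547 : Led Lsl_ct (LP (LK LD1_c0 LD2_c54 LD3_c27)) = (LP (LK LD1_c1 LD2_c55 LD3_c23)) :=
  Lre_c IH (LK LD1_c0 LD2_c54 LD3_c27) (LK LD1_c1 LD2_c55 LD3_c23) Lrfl Lrfl
theorem f196353 : Led Lsl_gf (LP (LK LD1_c0 LD2_c59 LD3_c3)) = (LP (LK LD1_c0 LD2_c56 LD3_c42)) :=
  Lgr Lrot154 (Lpr_dt (K12.f28527 IH) (Lpr_ct (f28547 IH) (Lpe (f196336 IH) (Lpe (K10.f34000 IH) (Lpe (K0.f33610 IH) (Lpr_gf (K10.f196349 IH) (Lpe (K10.f190888 IH) (Lpr_gt (K10.f190880 IH) (Lpr_dt (K10.f46905 IH) (Lpn (LP (LK LD1_c0 LD2_c56 LD3_c42))))))))))))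
theorem f193458 : Led Lsl_dt (LP (LK LD1_c1 LD2_c58 LD3_c3)) = (LP (LK LD1_c4 LD2_c2 LD3_c8)) :=
  Lre_d IH (LK LD1_c1 LD2_c58 LD3_c3) (LK LD1_c4 LD2_c2 LD3_c8) Lrfl Lrfl
theorem f242262 : Led Lsl_gt (LP (LK LD1_c4 LD2_c2 LD3_c8)) = (LP (LK LD1_c8 LD2_c3 LD3_c16)) :=
  Lgr Lrot9 (Lpe (f193458 IH) (Lpr_gt (K10.f193441 IH) (Lpr_ct (K1.f46654 IH) (Lpe (f196353 IH) (Lpe (f211610 IH) (Lpe (f33824 IH) (Lpr_cf (f239970 IH) (Lpe (f197179 IH) (Lpr_cf (f242142 IH) (Lpn (LP (LK LD1_c8 LD2_c3 LD3_c16))))))))))))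
theorem f46625 : Led Lsl_af (LP (LK LD1_c1 LD2_c59 LD3_c35)) = (LP (LK LD1_c2 LD2_c4 LD3_c7)) :=
  Lgr Lrot0 (Lpr_at (K1.f46623 IH) (Lpn (LP (LK LD1_c2 LD2_c4 LD3_c7))))
theorem f46950 : Led Lsl_ft (LP (LK LD1_c0 LD2_c59 LD3_c4)) = (LP (LK LD1_c2 LD2_c4 LD3_c7)) :=
  Lre_f IH (LK LD1_c0 LD2_c59 LD3_c4) (LK LD1_c2 LD2_c4 LD3_c7) Lrfl Lrfl
theorem f193453 : Led Lsl_gf (LP (LK LD1_c1 LD2_c58 LD3_c3)) = (LP (LK LD1_c0 LD2_c59 LD3_c4)) :=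
  Lgr Lrot47 (Lpr_gt (K10.f193441 IH) (Lpr_af (f46625 IH) (Lpe (f46950 IH) (Lpn (LP (LK LD1_c0 LD2_c59 LD3_c4))))))
theorem f165430 : Led Lsl_bt (LP (LK LD1_c1 LD2_c11 LD3_c44)) = (LP (LK LD1_c0 LD2_c33 LD3_c13)) :=
  Lre_b IH (LK LD1_c1 LD2_c11 LD3_c44) (LK LD1_c0 LD2_c33 LD3_c13) Lrfl Lrfl
theorem f165433 : Led Lsl_ct (LP (LK LD1_c1 LD2_c11 LD3_c44)) = (LP (LK LD1_c2 LD2_c29 LD3_c12)) :=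
  Lre_c IH (LK LD1_c1 LD2_c11 LD3_c44) (LK LD1_c2 LD2_c29 LD3_c12) Lrfl Lrfl
theorem f184229 : Led Lsl_gf (LP (LK LD1_c2 LD2_c29 LD3_c12)) = (LP (LK LD1_c2 LD2_c36 LD3_c12)) :=
  Lgr Lrot126 (Lpe (f165433 IH) (Lpr_bt (f165430 IH) (Lpr_gt (K9.f165426 IH) (Lpr_ct (K8.f163758 IH) (Lpe (K9.f165405 IH) (Lpe (K9.f165872 IH) (Lpr_bt (K12.f165893 IH) (Lpr_gt (K9.f184104 IH) (Lpe (K1.f44058 IH) (Lpr_ct (K1.f28254 IH) (Lpn (LP (LK LD1_c2 LD2_c36 LD3_c12)))))))))))))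
theorem f34587 : Led Lsl_bt (LP (LK LD1_c1 LD2_c12 LD3_c57)) = (LP (LK LD1_c0 LD2_c33 LD3_c59)) :=
  Lre_b IH (LK LD1_c1 LD2_c12 LD3_c57) (LK LD1_c0 LD2_c33 LD3_c59) Lrfl Lrfl
theorem f229086 : Led Lsl_gf (LP (LK LD1_c4 LD2_c1 LD3_c53)) = (LP (LK LD1_c2 LD2_c31 LD3_c48)) :=
  Lgr Lrot126 (Lpe (K12.f229084 IH) (Lpr_bt (K12.f229062 IH) (Lpr_gt (K12.f28268 IH) (Lpr_ct (K1.f28254 IH) (Lpe (f184229 IH) (Lpe (f165433 IH) (Lpr_bt (f165430 IH) (Lpr_gt (K9.f165426 IH) (Lpe (f34587 IH) (Lpr_ct (K0.f33811 IH) (Lpn (LP (LK LD1_c2 LD2_c31 LD3_c48)))))))))))))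
theorem f229088 : Led Lsl_dt (LP (LK LD1_c4 LD2_c1 LD3_c53)) = (LP (LK LD1_c8 LD2_c4 LD3_c25)) :=
  Lre_d IH (LK LD1_c4 LD2_c1 LD3_c53) (LK LD1_c8 LD2_c4 LD3_c25) Lrfl Lrfl
theorem f242066 : Led Lsl_cf (LP (LK LD1_c4 LD2_c2 LD3_c8)) = (LP (LK LD1_c8 LD2_c4 LD3_c25)) :=
  Lgr Lrot14 (Lpe (f193458 IH) (Lpr_gf (f193453 IH) (Lpe (K1.f27869 IH) (Lpr_gf (K12.f193501 IH) (Lpr_ct (f242058 IH) (Lpr_gt (K12.f34582 IH) (Lpr_dt (K12.f34029 IH) (Lpe (f229086 IH) (Lpr_dt (f229088 IH) (Lpn (LP (LK LD1_c8 LD2_c4 LD3_c25))))))))))))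
theorem f227320 : Led Lsl_dt (LP (LK LD1_c8 LD2_c3 LD3_c16)) = (LP (LK LD1_c4 LD2_c1 LD3_c16)) :=
  Lre_d IH (LK LD1_c8 LD2_c3 LD3_c16) (LK LD1_c4 LD2_c1 LD3_c16) Lrfl Lrfl
theorem f181993 : Led Lsl_gt (LP (LK LD1_c0 LD2_c56 LD3_c41)) = (LP (LK LD1_c1 LD2_c57 LD3_c39)) :=
  Lgr Lrot149 (Lpe (K1.f46590 IH) (Lpe (K9.f47062 IH) (Lpe (K9.f177800 IH) (Lpr_ct (K9.f177789 IH) (Lpe (K9.f20756 IH) (Lpe (K9.f9066 IH) (Lpe (K1.f45988 IH) (Lpr_gf (K9.f47072 IH) (Lpr_bf (K9.f181989 IH) (Lpr_ct (K9.f69715 IH) (Lpn (LP (LK LD1_c1 LD2_c57 LD3_c39)))))))))))))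
theorem f182460 : Led Lsl_gt (LP (LK LD1_c1 LD2_c59 LD3_c34)) = (LP (LK LD1_c4 LD2_c1 LD3_c17)) :=
  Lgr Lrot49 (Lpe (K1.f46591 IH) (Lpr_gf (K9.f182451 IH) (Lpe (K9.f182358 IH) (Lpr_gt (K9.f27940 IH) (Lpr_dt (K0.f33666 IH) (Lpr_gt (K9.f33187 IH) (Lpr_dt (f33188 IH) (Lpe (K12.f182458 IH) (Lpe (f182459 IH) (Lpn (LP (LK LD1_c4 LD2_c1 LD3_c17))))))))))))
theorem f196228 : Led Lsl_cf (LP (LK LD1_c5 LD2_c9 LD3_c21)) = (LP (LK LD1_c4 LD2_c1 LD3_c17)) :=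
  Lgr Lrot169 (Lpr_gt (f21728 IH) (Lpe (K0.f33765 IH) (Lpe (K0.f33790 IH) (Lpe (K0.f33737 IH) (Lpr_gf (K10.f196152 IH) (Lpe (f69720 IH) (Lpe (f181993 IH) (Lpe (K1.f46876 IH) (Lpr_gt (f182460 IH) (Lpn (LP (LK LD1_c4 LD2_c1 LD3_c17))))))))))))
theorem f242264 : Led Lsl_gt (LP (LK LD1_c8 LD2_c4 LD3_c25)) = (LP (LK LD1_c10 LD2_c7 LD3_c28)) :=
  Lgr Lrot180 (Lpe (f242066 IH) (Lpr_gt (f242262 IH) (Lpr_dt (f227320 IH) (Lpr_gt (K12.f193101 IH) (Lpr_dt (f182465 IH) (Lpe (f196228 IH) (Lpr_df (f240230 IH) (Lpr_gf (f196355 IH) (Lpe (f33158 IH) (Lpn (LP (LK LD1_c10 LD2_c7 LD3_c28))))))))))))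
theorem f242269 : Led Lsl_cf (LP (LK LD1_c8 LD2_c4 LD3_c25)) = (LP (LK LD1_c4 LD2_c2 LD3_c8)) :=
  Lgr Lrot166 (Lpr_gt (f242264 IH) (Lpr_dt (f33158 IH) (Lpe (f196355 IH) (Lpe (f240230 IH) (Lpr_ct (f240239 IH) (Lpe (f182465 IH) (Lpe (K12.f193101 IH) (Lpe (f227320 IH) (Lpe (f242262 IH) (Lpn (LP (LK LD1_c4 LD2_c2 LD3_c8))))))))))))
theorem f240528 : Led Lsl_ct (LP (LK LD1_c10 LD2_c7 LD3_c28)) = (LP (LK LD1_c8 LD2_c3 LD3_c15)) :=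
  Lgr Lrot7 (Lpe (f33148 IH) (Lpe (f240232 IH) (Lpr_df (f192898 IH) (Lpe (K12.f21722 IH) (Lpe (K0.f33774 IH) (Lpr_gt (f227923 IH) (Lpe (f227913 IH) (Lpr_gt (f240521 IH) (Lpr_dt (f211587 IH) (Lpn (LP (LK LD1_c8 LD2_c3 LD3_c15))))))))))))
theorem f181140 : Led Lsl_dt (LP (LK LD1_c5 LD2_c13 LD3_c2)) = (LP (LK LD1_c2 LD2_c33 LD3_c23)) :=
  Lre_d IH (LK LD1_c5 LD2_c13 LD3_c2) (LK LD1_c2 LD2_c33 LD3_c23) Lrfl Lrfl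
theorem f242273 : Led Lsl_gf (LP (LK LD1_c4 LD2_c2 LD3_c8)) = (LP (LK LD1_c5 LD2_c13 LD3_c2)) :=
  Lgr Lrot147 (Lpe (f242269 IH) (Lpr_gt (f242264 IH) (Lpr_ct (f240528 IH) (Lpe (f211587 IH) (Lpe (K12.f211569 IH) (Lpr_gf (K12.f211583 IH) (Lpe (K10.f171533 IH) (Lpr_gf (K10.f196099 IH) (Lpe (f181140 IH) (Lpn (LP (LK LD1_c5 LD2_c13 LD3_c2))))))))))))
theorem f193457 : Led Lsl_dt (LP (LK LD1_c4 LD2_c2 LD3_c8)) = (LP (LK LD1_c1 LD2_c58 LD3_c3)) :=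
  Lre_d IH (LK LD1_c4 LD2_c2 LD3_c8) (LK LD1_c1 LD2_c58 LD3_c3) Lrfl Lrfl
theorem f34003 : Led Lsl_dt (LP (LK LD1_c5 LD2_c9 LD3_c4)) = (LP (LK LD1_c2 LD2_c31 LD3_c42)) :=
  Lre_d IH (LK LD1_c5 LD2_c9 LD3_c4) (LK LD1_c2 LD2_c31 LD3_c42) Lrfl Lrfl
theorem f193093 : Led Lsl_bf (LP (LK LD1_c0 LD2_c55 LD3_c37)) = (LP (LK LD1_c0 LD2_c56 LD3_c35)) :=
  Lgr Lrot24 (Lpr_bt (f193085 IH) (Lpn (LP (LK LD1_c0 LD2_c56 LD3_c35))))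
theorem f190284 : Led Lsl_bf (LP (LK LD1_c0 LD2_c59 LD3_c2)) = (LP (LK LD1_c0 LD2_c55 LD3_c54)) :=
  Lgr Lrot93 (Lpr_dt (K12.f27879 IH) (Lpr_bt (K10.f190278 IH) (Lpr_dt (K12.f34064 IH) (Lpn (LP (LK LD1_c0 LD2_c55 LD3_c54))))))
theorem f190289 : Led Lsl_bt (LP (LK LD1_c0 LD2_c59 LD3_c2)) = (LP (LK LD1_c0 LD2_c55 LD3_c54)) :=
  Lgr Lrot127 (Lpr_bf (f190284 IH) (Lpn (LP (LK LD1_c0 LD2_c55 LD3_c54))))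
theorem f240591 : Led Lsl_bf (LP (LK LD1_c1 LD2_c57 LD3_c58)) = (LP (LK LD1_c1 LD2_c57 LD3_c58)) :=
  Lgr Lrot34 (Lpe (f240588 IH) (Lpe (f190289 IH) (Lpr_ct (K12.f47084 IH) (Lpr_gf (K12.f190343 IH) (Lpe (K12.f190342 IH) (Lpe (K12.f33189 IH) (Lpr_bf (f193093 IH) (Lpr_ct (f192977 IH) (Lpr_gf (f240586 IH) (Lpe (f194137 IH) (Lpn (LP (LK LD1_c1 LD2_c57 LD3_c58)))))))))))))
theorem f240597 : Led Lsl_gt (LP (LK LD1_c1 LD2_c59 LD3_c31)) = (LP (LK LD1_c4 LD2_c2 LD3_c1)) :=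
  Lgr Lrot149 (Lpe (K10.f80935 IH) (Lpr_gf (K10.f194129 IH) (Lpe (K10.f181123 IH) (Lpr_ct (K10.f181124 IH) (Lpe (K9.f181134 IH) (Lpe (K10.f28354 IH) (Lpe (K10.f193644 IH) (Lpe (f194133 IH) (Lpr_bf (f240591 IH) (Lpr_ct (f194137 IH) (Lpn (LP (LK LD1_c4 LD2_c2 LD3_c1)))))))))))))
theorem f240645 : Led Lsl_gt (LP (LK LD1_c8 LD2_c3 LD3_c35)) = (LP (LK LD1_c4 LD2_c1 LD3_c31)) :=
  Lgr Lrot49 (Lpr_df (f240641 IH) (Lpe (f240597 IH) (Lpe (K10.f80935 IH) (Lpe (K12.f227315 IH) (Lpr_dt (K12.f227301 IH) (Lpr_gt (K12.f166448 IH) (Lpe (K10.f28520 IH) (Lpe (f211608 IH) (Lpe (f33824 IH) (Lpn (LP (LK LD1_c4 LD2_c1 LD3_c31))))))))))))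
theorem f239968 : Led Lsl_ct (LP (LK LD1_c4 LD2_c1 LD3_c31)) = (LP (LK LD1_c5 LD2_c8 LD3_c59)) :=
  Lgr Lrot7 (Lpe (f196179 IH) (Lpr_gf (f239963 IH) (Lpe (K0.f33740 IH) (Lpr_gf (K10.f33762 IH) (Lpr_cf (K10.f197207 IH) (Lpe (K10.f197205 IH) (Lpr_dt (K1.f27841 IH) (Lpr_gt (K12.f197174 IH) (Lpr_dt (f197181 IH) (Lpn (LP (LK LD1_c5 LD2_c8 LD3_c59))))))))))))
theorem f197180 : Led Lsl_gt (LP (LK LD1_c5 LD2_c8 LD3_c59)) = (LP (LK LD1_c10 LD2_c8 LD3_c25)) :=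
  Lre_g IH (LK LD1_c5 LD2_c8 LD3_c59) (LK LD1_c10 LD2_c8 LD3_c25) Lrfl Lrfl
theorem f196103 : Led Lsl_gt (LP (LK LD1_c0 LD2_c56 LD3_c35)) = (LP (LK LD1_c1 LD2_c13 LD3_c38)) :=
  Lgr Lrot9 (Lpe (f47061 IH) (Lpe (K10.f60715 IH) (Lpr_ct (K1.f27844 IH) (Lpr_gt (K10.f192586 IH) (Lpr_ct (K10.f34624 IH) (Lpe (K10.f171529 IH) (Lpe (K10.f171533 IH) (Lpr_gf (K10.f196099 IH) (Lpe (K10.f181141 IH) (Lpn (LP (LK LD1_c1 LD2_c13 LD3_c38))))))))))))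
theorem f240647 : Led Lsl_ct (LP (LK LD1_c10 LD2_c8 LD3_c25)) = (LP (LK LD1_c5 LD2_c13 LD3_c2)) :=
  Lgr Lrot110 (Lpe (f197180 IH) (Lpe (f239968 IH) (Lpe (f240645 IH) (Lpr_df (f240641 IH) (Lpe (f240586 IH) (Lpr_ct (f192981 IH) (Lpr_gt (f196103 IH) (Lpr_ct (K10.f181141 IH) (Lpe (f181140 IH) (Lpn (LP (LK LD1_c5 LD2_c13 LD3_c2))))))))))))
theorem f242279 : Led Lsl_gf (LP (LK LD1_c5 LD2_c9 LD3_c4)) = (LP (LK LD1_c10 LD2_c8 LD3_c25)) :=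
  Lgr Lrot144 (Lpr_dt (f34003 IH) (Lpe (K10.f190340 IH) (Lpr_dt (K1.f27873 IH) (Lpe (K10.f46652 IH) (Lpe (K10.f46662 IH) (Lpe (K10.f193441 IH) (Lpe (f193457 IH) (Lpr_gf (f242273 IH) (Lpe (f240647 IH) (Lpn (LP (LK LD1_c10 LD2_c8 LD3_c25))))))))))))
theorem f242281 : Led Lsl_cf (LP (LK LD1_c10 LD2_c8 LD3_c25)) = (LP (LK LD1_c5 LD2_c13 LD3_c2)) :=
  Lgr Lrot166 (Lpe (f242279 IH) (Lpr_dt (f34003 IH) (Lpe (K10.f190340 IH) (Lpr_dt (K1.f27873 IH) (Lpe (K1.f46646 IH) (Lpe (K10.f46662 IH) (Lpe (K10.f193441 IH) (Lpe (f193457 IH) (Lpr_gf (f242273 IH) (Lpn (LP (LK LD1_c5 LD2_c13 LD3_c2))))))))))))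
theorem f34004 : Led Lsl_dt (LP (LK LD1_c2 LD2_c31 LD3_c42)) = (LP (LK LD1_c5 LD2_c9 LD3_c4)) :=
  Lre_d IH (LK LD1_c2 LD2_c31 LD3_c42) (LK LD1_c5 LD2_c9 LD3_c4) Lrfl Lrfl
theorem f239955 : Led Lsl_ct (LP (LK LD1_c5 LD2_c9 LD3_c4)) = (LP (LK LD1_c4 LD2_c1 LD3_c29)) :=
  Lgr Lrot7 (Lpe (f34004 IH) (Lpe (K10.f190441 IH) (Lpe (K1.f46935 IH) (Lpr_gf (f239953 IH) (Lpr_cf (f227911 IH) (Lpr_gt (K12.f33990 IH) (Lpr_dt (K0.f33713 IH) (Lpr_gt (K10.f69754 IH) (Lpr_dt (f80331 IH) (Lpn (LP (LK LD1_c4 LD2_c1 LD3_c29))))))))))))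
theorem f81533 : Led Lsl_dt (LP (LK LD1_c4 LD2_c1 LD3_c29)) = (LP (LK LD1_c1 LD2_c57 LD3_c42)) :=
  Lre_d IH (LK LD1_c4 LD2_c1 LD3_c29) (LK LD1_c1 LD2_c57 LD3_c42) Lrfl Lrfl
theorem f242287 : Led Lsl_gt (LP (LK LD1_c4 LD2_c2 LD3_c10)) = (LP (LK LD1_c5 LD2_c13 LD3_c2)) :=
  Lgr Lrot9 (Lpe (K12.f34053 IH) (Lpe (f242135 IH) (Lpr_ct (K1.f27850 IH) (Lpe (K9.f174996 IH) (Lpe (K10.f197244 IH) (Lpe (f81533 IH) (Lpe (f239955 IH) (Lpr_gf (f242279 IH) (Lpr_cf (f242281 IH) (Lpn (LP (LK LD1_c5 LD2_c13 LD3_c2))))))))))))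
theorem f242068 : Led Lsl_gt (LP (LK LD1_c1 LD2_c59 LD3_c35)) = (LP (LK LD1_c1 LD2_c58 LD3_c4)) :=
  Lgr Lrot9 (Lpe (K1.f46636 IH) (Lpe (K12.f193455 IH) (Lpr_ct (f242058 IH) (Lpr_gt (K12.f34582 IH) (Lpr_ct (K0.f34021 IH) (Lpe (f33685 IH) (Lpe (K0.f33684 IH) (Lpe (K12.f34047 IH) (Lpe (f34055 IH) (Lpn (LP (LK LD1_c1 LD2_c58 LD3_c4))))))))))))
theorem f187900 : Led Lsl_dt (LP (LK LD1_c0 LD2_c34 LD3_c5)) = (LP (LK LD1_c1 LD2_c13 LD3_c38)) :=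
  Lre_d IH (LK LD1_c0 LD2_c34 LD3_c5) (LK LD1_c1 LD2_c13 LD3_c38) Lrfl Lrfl
theorem f242289 : Led Lsl_gt (LP (LK LD1_c0 LD2_c54 LD3_c27)) = (LP (LK LD1_c0 LD2_c34 LD3_c5)) :=
  Lgr Lrot49 (Lpe (K12.f28527 IH) (Lpr_gf (f196353 IH) (Lpe (K1.f46654 IH) (Lpr_gt (f242068 IH) (Lpr_dt (K12.f34053 IH) (Lpr_gt (f242287 IH) (Lpr_dt (f181140 IH) (Lpe (K10.f181141 IH) (Lpe (f187900 IH) (Lpn (LP (LK LD1_c0 LD2_c34 LD3_c5))))))))))))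
theorem f28526 : Led Lsl_ct (LP (LK LD1_c1 LD2_c55 LD3_c23)) = (LP (LK LD1_c0 LD2_c54 LD3_c27)) :=
  Lre_c IH (LK LD1_c1 LD2_c55 LD3_c23) (LK LD1_c0 LD2_c54 LD3_c27) Lrfl Lrfl
theorem f185066 : Led Lsl_ct (LP (LK LD1_c0 LD2_c34 LD3_c5)) = (LP (LK LD1_c1 LD2_c13 LD3_c34)) :=
  Lre_c IH (LK LD1_c0 LD2_c34 LD3_c5) (LK LD1_c1 LD2_c13 LD3_c34) Lrfl Lrfl
theorem f196109 : Led Lsl_dt (LP (LK LD1_c2 LD2_c33 LD3_c15)) = (LP (LK LD1_c1 LD2_c13 LD3_c34)) :=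
  Lre_d IH (LK LD1_c2 LD2_c33 LD3_c15) (LK LD1_c1 LD2_c13 LD3_c34) Lrfl Lrfl
theorem f196115 : Led Lsl_ct (LP (LK LD1_c5 LD2_c12 LD3_c51)) = (LP (LK LD1_c2 LD2_c33 LD3_c15)) :=
  Lre_c IH (LK LD1_c5 LD2_c12 LD3_c51) (LK LD1_c2 LD2_c33 LD3_c15) Lrfl Lrfl
theorem f242299 : Led Lsl_gt (LP (LK LD1_c4 LD2_c1 LD3_c41)) = (LP (LK LD1_c5 LD2_c12 LD3_c51)) :=
  Lgr Lrot150 (Lpe (f33588 IH) (Lpe (K12.f182044 IH) (Lpe (K12.f229234 IH) (Lpr_gt (K11.f196345 IH) (Lpr_ct (f28526 IH) (Lpr_gt (f242289 IH) (Lpr_ct (f185066 IH) (Lpe (f196109 IH) (Lpe (f196115 IH) (Lpn (LP (LK LD1_c5 LD2_c12 LD3_c51))))))))))))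
theorem f190753 : Led Lsl_dt (LP (LK LD1_c8 LD2_c3 LD3_c61)) = (LP (LK LD1_c4 LD2_c1 LD3_c41)) :=
  Lre_d IH (LK LD1_c8 LD2_c3 LD3_c61) (LK LD1_c4 LD2_c1 LD3_c41) Lrfl Lrfl
theorem f242305 : Led Lsl_gf (LP (LK LD1_c1 LD2_c57 LD3_c35)) = (LP (LK LD1_c2 LD2_c33 LD3_c15)) :=
  Lgr Lrot172 (Lpr_ct (f171545 IH) (Lpe (f240230 IH) (Lpr_cf (f196228 IH) (Lpe (f182460 IH) (Lpe (K1.f46691 IH) (Lpe (f237103 IH) (Lpr_dt (f190753 IH) (Lpr_gt (f242299 IH) (Lpr_ct (f196115 IH) (Lpn (LP (LK LD1_c2 LD2_c33 LD3_c15))))))))))))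
theorem f242311 : Led Lsl_df (LP (LK LD1_c4 LD2_c1 LD3_c19)) = (LP (LK LD1_c5 LD2_c9 LD3_c21)) :=
  Lgr Lrot162 (Lpe (f171545 IH) (Lpr_gf (f242305 IH) (Lpe (f196115 IH) (Lpe (f242299 IH) (Lpr_dt (f190760 IH) (Lpr_gt (f237103 IH) (Lpr_ct (K1.f46691 IH) (Lpr_gt (f182460 IH) (Lpe (f196228 IH) (Lpn (LP (LK LD1_c5 LD2_c9 LD3_c21))))))))))))
theorem f196351 : Led Lsl_ct (LP (LK LD1_c5 LD2_c8 LD3_c34)) = (LP (LK LD1_c2 LD2_c31 LD3_c30)) :=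
  Lre_c IH (LK LD1_c5 LD2_c8 LD3_c34) (LK LD1_c2 LD2_c31 LD3_c30) Lrfl Lrfl
theorem f242331 : Led Lsl_gt (LP (LK LD1_c4 LD2_c1 LD3_c19)) = (LP (LK LD1_c5 LD2_c8 LD3_c34)) :=
  Lgr Lrot9 (Lpr_df (f242311 IH) (Lpr_gt (f21728 IH) (Lpe (K0.f33765 IH) (Lpr_gt (f227923 IH) (Lpe (f227911 IH) (Lpe (f190450 IH) (Lpe (f33193 IH) (Lpe (f33265 IH) (Lpe (f196351 IH) (Lpn (LP (LK LD1_c5 LD2_c8 LD3_c34))))))))))))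
theorem f190440 : Led Lsl_dt (LP (LK LD1_c4 LD2_c1 LD3_c14)) = (LP (LK LD1_c8 LD2_c3 LD3_c14)) :=
  Lre_d IH (LK LD1_c4 LD2_c1 LD3_c14) (LK LD1_c8 LD2_c3 LD3_c14) Lrfl Lrfl
theorem f240247 : Led Lsl_dt (LP (LK LD1_c5 LD2_c8 LD3_c34)) = (LP (LK LD1_c10 LD2_c7 LD3_c34)) :=
  Lre_d IH (LK LD1_c5 LD2_c8 LD3_c34) (LK LD1_c10 LD2_c7 LD3_c34) Lrfl Lrfl
theorem f242339 : Led Lsl_cf (LP (LK LD1_c8 LD2_c3 LD3_c14)) = (LP (LK LD1_c10 LD2_c7 LD3_c34)) :=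
  Lgr Lrot14 (Lpe (f190440 IH) (Lpr_gf (K12.f227925 IH) (Lpe (f211601 IH) (Lpe (K10.f33761 IH) (Lpr_ct (K0.f33826 IH) (Lpe (f34107 IH) (Lpe (f242311 IH) (Lpr_gt (f242331 IH) (Lpr_dt (f240247 IH) (Lpn (LP (LK LD1_c10 LD2_c7 LD3_c34))))))))))))
theorem f33701 : Led Lsl_dt (LP (LK LD1_c8 LD2_c4 LD3_c25)) = (LP (LK LD1_c4 LD2_c1 LD3_c53)) :=
  Lre_d IH (LK LD1_c8 LD2_c4 LD3_c25) (LK LD1_c4 LD2_c1 LD3_c53) Lrfl Lrfl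
theorem f242335 : Led Lsl_gf (LP (LK LD1_c8 LD2_c4 LD3_c25)) = (LP (LK LD1_c10 LD2_c7 LD3_c34)) :=
  Lgr Lrot143 (Lpr_dt (f33701 IH) (Lpe (K12.f229084 IH) (Lpr_df (f229687 IH) (Lpe (f229710 IH) (Lpr_df (f237005 IH) (Lpe (f237057 IH) (Lpe (f171536 IH) (Lpr_gt (f242331 IH) (Lpr_dt (f240247 IH) (Lpn (LP (LK LD1_c10 LD2_c7 LD3_c34))))))))))))
theorem f33745 : Led Lsl_gt (LP (LK LD1_c1 LD2_c58 LD3_c6)) = (LP (LK LD1_c1 LD2_c57 LD3_c46)) :=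
  Lgr Lrot46 (Lpe (f33744 IH) (Lpr_ft (K0.f33716 IH) (Lpr_at (K0.f33717 IH) (Lpn (LP (LK LD1_c1 LD2_c57 LD3_c46))))))
theorem f33747 : Led Lsl_dt (LP (LK LD1_c4 LD2_c2 LD3_c13)) = (LP (LK LD1_c1 LD2_c58 LD3_c6)) :=
  Lre_d IH (LK LD1_c4 LD2_c2 LD3_c13) (LK LD1_c1 LD2_c58 LD3_c6) Lrfl Lrfl
theorem f242490 : Led Lsl_gt (LP (LK LD1_c8 LD2_c3 LD3_c14)) = (LP (LK LD1_c4 LD2_c2 LD3_c13)) :=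
  Lgr Lrot94 (Lpr_cf (f242339 IH) (Lpe (f242335 IH) (Lpr_dt (f33701 IH) (Lpr_gt (K12.f33700 IH) (Lpr_dt (K0.f33699 IH) (Lpr_cf (K0.f33678 IH) (Lpe (K0.f33677 IH) (Lpe (f33745 IH) (Lpe (f33747 IH) (Lpn (LP (LK LD1_c4 LD2_c2 LD3_c13))))))))))))
theorem f225026 : Led Lsl_et (LP (LK LD1_c1 LD2_c58 LD3_c6)) = (LP (LK LD1_c1 LD2_c1 LD3_c37)) :=
  Lgr Lrot122 (Lpr_dt (f33748 IH) (Lpe (f211659 IH) (Lpe (f211587 IH) (Lpr_et (f211570 IH) (Lpe (K10.f192349 IH) (Lpr_dt (K11.f31722 IH) (Lpr_gt (K12.f34788 IH) (Lpr_df (K12.f225010 IH) (Lpe (K12.f53107 IH) (Lpe (K11.f187090 IH) (Lpn (LP (LK LD1_c1 LD2_c1 LD3_c37)))))))))))))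
theorem f172731 : Led Lsl_et (LP (LK LD1_c1 LD2_c10 LD3_c30)) = (LP (LK LD1_c2 LD2_c26 LD3_c25)) :=
  Lre_e IH (LK LD1_c1 LD2_c10 LD3_c30) (LK LD1_c2 LD2_c26 LD3_c25) Lrfl Lrfl
theorem f172838 : Led Lsl_gt (LP (LK LD1_c2 LD2_c26 LD3_c25)) = (LP (LK LD1_c4 LD2_c56 LD3_c61)) :=
  Lre_g IH (LK LD1_c2 LD2_c26 LD3_c25) (LK LD1_c4 LD2_c56 LD3_c61) Lrfl Lrfl
theorem f242495 : Led Lsl_et (LP (LK LD1_c4 LD2_c1 LD3_c14)) = (LP (LK LD1_c4 LD2_c56 LD3_c61)) :=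
  Lgr Lrot122 (Lpr_dt (f190440 IH) (Lpr_gt (f242490 IH) (Lpe (f33748 IH) (Lpr_et (f225026 IH) (Lpe (f229298 IH) (Lpr_dt (f173288 IH) (Lpe (f238820 IH) (Lpe (f172741 IH) (Lpr_et (f172731 IH) (Lpr_gt (f172838 IH) (Lpn (LP (LK LD1_c4 LD2_c56 LD3_c61)))))))))))))
theorem f239356 : Led Lsl_dt (LP (LK LD1_c4 LD2_c0 LD3_c23)) = (LP (LK LD1_c1 LD2_c57 LD3_c4)) :=
  Lgr Lrot42 (Lpr_df (f239354 IH) (Lpn (LP (LK LD1_c1 LD2_c57 LD3_c4))))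
theorem f241808 : Led Lsl_ct (LP (LK LD1_c4 LD2_c56 LD3_c61)) = (LP (LK LD1_c4 LD2_c0 LD3_c23)) :=
  Lgr Lrot110 (Lpe (f172838 IH) (Lpe (f172721 IH) (Lpr_gf (f241806 IH) (Lpr_df (f177104 IH) (Lpr_gt (K12.f205179 IH) (Lpr_ct (f56333 IH) (Lpr_gt (f198449 IH) (Lpr_ct (f239184 IH) (Lpe (f239356 IH) (Lpn (LP (LK LD1_c4 LD2_c0 LD3_c23))))))))))))
theorem f242498 : Led Lsl_ef (LP (LK LD1_c1 LD2_c57 LD3_c31)) = (LP (LK LD1_c4 LD2_c0 LD3_c23)) :=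
  Lgr Lrot28 (Lpr_ct (K12.f190342 IH) (Lpr_et (f242495 IH) (Lpr_ct (f241808 IH) (Lpn (LP (LK LD1_c4 LD2_c0 LD3_c23))))))
theorem f239315 : Led Lsl_ef (LP (LK LD1_c2 LD2_c24 LD3_c45)) = (LP (LK LD1_c1 LD2_c31 LD3_c10)) :=
  Lgr Lrot88 (Lpr_et (f239309 IH) (Lpn (LP (LK LD1_c1 LD2_c31 LD3_c10))))
theorem f239317 : Led Lsl_et (LP (LK LD1_c1 LD2_c9 LD3_c31)) = (LP (LK LD1_c1 LD2_c57 LD3_c4)) :=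
  Lgr Lrot158 (Lpe (f31573 IH) (Lpr_ef (f239315 IH) (Lpr_cf (f239182 IH) (Lpn (LP (LK LD1_c1 LD2_c57 LD3_c4))))))
theorem f31052 : Led Lsl_et (LP (LK LD1_c1 LD2_c9 LD3_c32)) = (LP (LK LD1_c0 LD2_c32 LD3_c1)) :=
  Lre_e IH (LK LD1_c1 LD2_c9 LD3_c32) (LK LD1_c0 LD2_c32 LD3_c1) Lrfl Lrfl
theorem f242502 : Led Lsl_dt (LP (LK LD1_c1 LD2_c57 LD3_c31)) = (LP (LK LD1_c1 LD2_c9 LD3_c32)) :=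
  Lgr Lrot77 (Lpr_ef (f242498 IH) (Lpr_df (f239354 IH) (Lpe (f239317 IH) (Lpe (f31571 IH) (Lpe (f31052 IH) (Lpn (LP (LK LD1_c1 LD2_c9 LD3_c32))))))))
theorem f190438 : Led Lsl_dt (LP (LK LD1_c8 LD2_c3 LD3_c14)) = (LP (LK LD1_c4 LD2_c1 LD3_c14)) :=
  Lre_d IH (LK LD1_c8 LD2_c3 LD3_c14) (LK LD1_c4 LD2_c1 LD3_c14) Lrfl Lrfl
theorem f240294 : Led Lsl_ef (LP (LK LD1_c4 LD2_c55 LD3_c55)) = (LP (LK LD1_c2 LD2_c31 LD3_c30)) :=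
  Lgr Lrot88 (Lpr_et (f240288 IH) (Lpn (LP (LK LD1_c2 LD2_c31 LD3_c30))))
theorem f240296 : Led Lsl_dt (LP (LK LD1_c4 LD2_c55 LD3_c55)) = (LP (LK LD1_c2 LD2_c25 LD3_c44)) :=
  Lre_d IH (LK LD1_c4 LD2_c55 LD3_c55) (LK LD1_c2 LD2_c25 LD3_c44) Lrfl Lrfl
theorem f196410 : Led Lsl_et (LP (LK LD1_c2 LD2_c25 LD3_c44)) = (LP (LK LD1_c1 LD2_c10 LD3_c3)) :=
  Lre_e IH (LK LD1_c2 LD2_c25 LD3_c44) (LK LD1_c1 LD2_c10 LD3_c3) Lrfl Lrfl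
theorem f53082 : Led Lsl_ct (LP (LK LD1_c0 LD2_c56 LD3_c23)) = (LP (LK LD1_c0 LD2_c25 LD3_c34)) :=
  Lre_c IH (LK LD1_c0 LD2_c56 LD3_c23) (LK LD1_c0 LD2_c25 LD3_c34) Lrfl Lrfl
theorem f224856 : Led Lsl_dt (LP (LK LD1_c1 LD2_c10 LD3_c3)) = (LP (LK LD1_c0 LD2_c56 LD3_c23)) :=
  Lgr Lrot105 (Lpr_gf (K12.f223735 IH) (Lpe (K10.f27693 IH) (Lpe (K10.f193287 IH) (Lpe (K10.f53083 IH) (Lpr_gt (K10.f53078 IH) (Lpe (K10.f52238 IH) (Lpr_gt (K9.f28781 IH) (Lpr_dt (K9.f28913 IH) (Lpe (f53082 IH) (Lpn (LP (LK LD1_c0 LD2_c56 LD3_c23))))))))))))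
theorem f240300 : Led Lsl_dt (LP (LK LD1_c1 LD2_c59 LD3_c15)) = (LP (LK LD1_c2 LD2_c31 LD3_c30)) :=
  Lgr Lrot77 (Lpe (K12.f193263 IH) (Lpe (f224856 IH) (Lpe (f196410 IH) (Lpe (f240296 IH) (Lpr_ef (f240294 IH) (Lpn (LP (LK LD1_c2 LD2_c31 LD3_c30))))))))
theorem f53129 : Led Lsl_ct (LP (LK LD1_c0 LD2_c56 LD3_c24)) = (LP (LK LD1_c1 LD2_c59 LD3_c15)) :=
  Lre_c IH (LK LD1_c0 LD2_c56 LD3_c24) (LK LD1_c1 LD2_c59 LD3_c15) Lrfl Lrfl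
theorem f211588 : Led Lsl_dt (LP (LK LD1_c8 LD2_c3 LD3_c15)) = (LP (LK LD1_c4 LD2_c1 LD3_c15)) :=
  Lre_d IH (LK LD1_c8 LD2_c3 LD3_c15) (LK LD1_c4 LD2_c1 LD3_c15) Lrfl Lrfl
theorem f33144 : Led Lsl_et (LP (LK LD1_c2 LD2_c7 LD3_c40)) = (LP (LK LD1_c1 LD2_c0 LD3_c55)) :=
  Lre_e IH (LK LD1_c2 LD2_c7 LD3_c40) (LK LD1_c1 LD2_c0 LD3_c55) Lrfl Lrfl
theorem f22109 : Led Lsl_dt (LP (LK LD1_c0 LD2_c33 LD3_c47)) = (LP (LK LD1_c1 LD2_c12 LD3_c49)) :=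
  Lre_d IH (LK LD1_c0 LD2_c33 LD3_c47) (LK LD1_c1 LD2_c12 LD3_c49) Lrfl Lrfl
theorem f33145 : Led Lsl_dt (LP (LK LD1_c2 LD2_c7 LD3_c40)) = (LP (LK LD1_c2 LD2_c31 LD3_c29)) :=
  Lgr Lrot56 (Lpr_et (f33144 IH) (Lpr_gt (f28677 IH) (Lpe (K11.f31081 IH) (Lpr_dt (K0.f33124 IH) (Lpr_gt (K0.f3793 IH) (Lpe (K10.f21276 IH) (Lpr_et (K0.f21847 IH) (Lpr_gt (K10.f21854 IH) (Lpr_dt (f22109 IH) (Lpr_gt (f22110 IH) (Lpn (LP (LK LD1_c2 LD2_c31 LD3_c29)))))))))))))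
theorem f242516 : Led Lsl_cf (LP (LK LD1_c2 LD2_c7 LD3_c40)) = (LP (LK LD1_c1 LD2_c9 LD3_c32)) :=
  Lgr Lrot55 (Lpr_dt (f33145 IH) (Lpr_ct (f33147 IH) (Lpr_dt (f33148 IH) (Lpr_ct (f240528 IH) (Lpr_dt (f211588 IH) (Lpr_ct (K12.f211576 IH) (Lpr_dt (K12.f211572 IH) (Lpr_ct (f53129 IH) (Lpr_dt (f240300 IH) (Lpr_ct (f196352 IH) (Lpr_dt (f240247 IH) (Lpe (f242339 IH) (Lpr_dt (f190438 IH) (Lpr_ct (K12.f190439 IH) (Lpr_dt (f242502 IH) (Lpn (LP (LK LD1_c1 LD2_c9 LD3_c32))))))))))))))))))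
theorem f30820 : Led Lsl_et (LP (LK LD1_c0 LD2_c55 LD3_c8)) = (LP (LK LD1_c0 LD2_c24 LD3_c58)) :=
  Lre_e IH (LK LD1_c0 LD2_c55 LD3_c8) (LK LD1_c0 LD2_c24 LD3_c58) Lrfl Lrfl
theorem f229479 : Led Lsl_ct (LP (LK LD1_c1 LD2_c55 LD3_c14)) = (LP (LK LD1_c0 LD2_c55 LD3_c8)) :=
  Lgr Lrot15 (Lpe (f229478 IH) (Lpr_cf (K12.f229472 IH) (Lpe (f30820 IH) (Lpn (LP (LK LD1_c0 LD2_c55 LD3_c8))))))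
theorem f242518 : Led Lsl_gt (LP (LK LD1_c0 LD2_c55 LD3_c8)) = (LP (LK LD1_c1 LD2_c9 LD3_c32)) :=
  Lgr Lrot150 (Lpe (f229479 IH) (Lpe (f229710 IH) (Lpr_df (f237005 IH) (Lpr_gt (f182003 IH) (Lpr_ct (f193010 IH) (Lpr_gt (f240232 IH) (Lpr_ct (f33157 IH) (Lpe (f33145 IH) (Lpr_cf (f242516 IH) (Lpn (LP (LK LD1_c1 LD2_c9 LD3_c32))))))))))))
theorem f34048 : Led Lsl_gf (LP (LK LD1_c0 LD2_c55 LD3_c57)) = (LP (LK LD1_c0 LD2_c55 LD3_c45)) :=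
  Lgr Lrot47 (Lpr_gt (K12.f34047 IH) (Lpr_af (K0.f34039 IH) (Lpe (K0.f34038 IH) (Lpn (LP (LK LD1_c0 LD2_c55 LD3_c45))))))
theorem f242504 : Led Lsl_et (LP (LK LD1_c1 LD2_c57 LD3_c31)) = (LP (LK LD1_c4 LD2_c0 LD3_c23)) :=
  Lgr Lrot87 (Lpr_ef (f242498 IH) (Lpn (LP (LK LD1_c4 LD2_c0 LD3_c23))))
theorem f225591 : Led Lsl_et (LP (LK LD1_c0 LD2_c32 LD3_c1)) = (LP (LK LD1_c1 LD2_c9 LD3_c32)) :=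
  Lre_e IH (LK LD1_c0 LD2_c32 LD3_c1) (LK LD1_c1 LD2_c9 LD3_c32) Lrfl Lrfl
theorem f242510 : Led Lsl_df (LP (LK LD1_c1 LD2_c57 LD3_c31)) = (LP (LK LD1_c1 LD2_c9 LD3_c32)) :=
  Lgr Lrot70 (Lpr_et (f242504 IH) (Lpr_dt (f239356 IH) (Lpe (f239311 IH) (Lpr_dt (f31574 IH) (Lpr_et (f225591 IH) (Lpn (LP (LK LD1_c1 LD2_c9 LD3_c32))))))))
theorem f242522 : Led Lsl_gt (LP (LK LD1_c4 LD2_c2 LD3_c14)) = (LP (LK LD1_c8 LD2_c3 LD3_c14)) :=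
  Lgr Lrot49 (Lpe (f33722 IH) (Lpr_gf (K10.f33720 IH) (Lpe (K0.f33676 IH) (Lpe (f34048 IH) (Lpr_dt (K12.f34050 IH) (Lpr_gt (f242518 IH) (Lpe (f242510 IH) (Lpe (K12.f190439 IH) (Lpe (f190438 IH) (Lpn (LP (LK LD1_c8 LD2_c3 LD3_c14))))))))))))
theorem f227920 : Led Lsl_dt (LP (LK LD1_c10 LD2_c7 LD3_c39)) = (LP (LK LD1_c5 LD2_c8 LD3_c36)) :=
  Lre_d IH (LK LD1_c10 LD2_c7 LD3_c39) (LK LD1_c5 LD2_c8 LD3_c36) Lrfl Lrfl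
theorem f192961 : Led Lsl_dt (LP (LK LD1_c4 LD2_c1 LD3_c47)) = (LP (LK LD1_c8 LD2_c4 LD3_c11)) :=
  Lre_d IH (LK LD1_c4 LD2_c1 LD3_c47) (LK LD1_c8 LD2_c4 LD3_c11) Lrfl Lrfl
theorem f242271 : Led Lsl_cf (LP (LK LD1_c8 LD2_c4 LD3_c11)) = (LP (LK LD1_c4 LD2_c2 LD3_c14)) :=
  Lgr Lrot99 (Lpe (f192961 IH) (Lpe (K10.f165376 IH) (Lpe (K10.f27783 IH) (Lpe (K0.f33674 IH) (Lpe (K12.f33700 IH) (Lpe (f33701 IH) (Lpr_gt (f242264 IH) (Lpr_ct (f240528 IH) (Lpr_gt (f227816 IH) (Lpn (LP (LK LD1_c4 LD2_c2 LD3_c14))))))))))))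
theorem f239729 : Led Lsl_ct (LP (LK LD1_c5 LD2_c8 LD3_c38)) = (LP (LK LD1_c4 LD2_c1 LD3_c35)) :=
  Lgr Lrot41 (Lpe (f190450 IH) (Lpe (f33193 IH) (Lpe (f22109 IH) (Lpr_ft (f239721 IH) (Lpe (f239727 IH) (Lpe (K10.f190269 IH) (Lpe (K12.f27879 IH) (Lpe (K12.f47085 IH) (Lpr_df (f227913 IH) (Lpn (LP (LK LD1_c4 LD2_c1 LD3_c35))))))))))))
theorem f242524 : Led Lsl_gt (LP (LK LD1_c8 LD2_c4 LD3_c11)) = (LP (LK LD1_c10 LD2_c7 LD3_c39)) :=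
  Lgr Lrot94 (Lpr_cf (f242271 IH) (Lpr_gt (f242522 IH) (Lpr_dt (f190438 IH) (Lpe (K12.f190343 IH) (Lpr_dt (K12.f227906 IH) (Lpe (f239729 IH) (Lpe (f190450 IH) (Lpe (f196364 IH) (Lpe (f227920 IH) (Lpn (LP (LK LD1_c10 LD2_c7 LD3_c39))))))))))))
theorem f242526 : Led Lsl_cf (LP (LK LD1_c4 LD2_c2 LD3_c14)) = (LP (LK LD1_c8 LD2_c4 LD3_c11)) :=
  Lgr Lrot166 (Lpr_gt (f242522 IH) (Lpr_dt (f190438 IH) (Lpe (K12.f190343 IH) (Lpr_dt (K12.f227906 IH) (Lpe (f227911 IH) (Lpe (f190450 IH) (Lpe (f196364 IH) (Lpe (f227920 IH) (Lpe (f242524 IH) (Lpn (LP (LK LD1_c8 LD2_c4 LD3_c11))))))))))))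
theorem f242337 : Led Lsl_ct (LP (LK LD1_c8 LD2_c3 LD3_c14)) = (LP (LK LD1_c10 LD2_c7 LD3_c34)) :=
  Lgr Lrot7 (Lpe (f190440 IH) (Lpr_gf (K12.f227925 IH) (Lpe (f211601 IH) (Lpe (K10.f33761 IH) (Lpe (K12.f33692 IH) (Lpe (f34107 IH) (Lpe (f242311 IH) (Lpr_gt (f242331 IH) (Lpr_dt (f240247 IH) (Lpn (LP (LK LD1_c10 LD2_c7 LD3_c34))))))))))))
theorem f240133 : Led Lsl_dt (LP (LK LD1_c10 LD2_c7 LD3_c36)) = (LP (LK LD1_c5 LD2_c8 LD3_c35)) :=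
  Lre_d IH (LK LD1_c10 LD2_c7 LD3_c36) (LK LD1_c5 LD2_c8 LD3_c35) Lrfl Lrfl
theorem f242528 : Led Lsl_gf (LP (LK LD1_c8 LD2_c4 LD3_c11)) = (LP (LK LD1_c10 LD2_c7 LD3_c36)) :=
  Lgr Lrot147 (Lpe (f242526 IH) (Lpr_gt (f242522 IH) (Lpr_ct (f242337 IH) (Lpe (f240247 IH) (Lpe (f196352 IH) (Lpr_gf (f240248 IH) (Lpe (K10.f190277 IH) (Lpr_gf (f240131 IH) (Lpe (f240133 IH) (Lpn (LP (LK LD1_c10 LD2_c7 LD3_c36))))))))))))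
theorem f192957 : Led Lsl_dt (LP (LK LD1_c8 LD2_c4 LD3_c11)) = (LP (LK LD1_c4 LD2_c1 LD3_c47)) :=
  Lre_d IH (LK LD1_c8 LD2_c4 LD3_c11) (LK LD1_c4 LD2_c1 LD3_c47) Lrfl Lrfl
theorem f242532 : Led Lsl_ct (LP (LK LD1_c5 LD2_c13 LD3_c44)) = (LP (LK LD1_c10 LD2_c7 LD3_c36)) :=
  Lgr Lrot8 (Lpe (K12.f229361 IH) (Lpr_dt (f182370 IH) (Lpe (K9.f182451 IH) (Lpr_dt (K1.f46591 IH) (Lpe (K1.f46691 IH) (Lpr_df (K1.f46669 IH) (Lpr_gf (K10.f192953 IH) (Lpe (f192957 IH) (Lpr_gf (f242528 IH) (Lpn (LP (LK LD1_c10 LD2_c7 LD3_c36))))))))))))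
theorem f69716 : Led Lsl_ef (LP (LK LD1_c1 LD2_c56 LD3_c58)) = (LP (LK LD1_c1 LD2_c57 LD3_c39)) :=
  Lgr Lrot28 (Lpr_ct (f28942 IH) (Lpr_et (K9.f69713 IH) (Lpr_ct (K9.f69715 IH) (Lpn (LP (LK LD1_c1 LD2_c57 LD3_c39))))))
theorem f69727 : Led Lsl_dt (LP (LK LD1_c1 LD2_c57 LD3_c39)) = (LP (LK LD1_c4 LD2_c1 LD3_c24)) :=
  Lre_d IH (LK LD1_c1 LD2_c57 LD3_c39) (LK LD1_c4 LD2_c1 LD3_c24) Lrfl Lrfl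
theorem f201444 : Led Lsl_gt (LP (LK LD1_c4 LD2_c1 LD3_c24)) = (LP (LK LD1_c5 LD2_c13 LD3_c44)) :=
  Lgr Lrot112 (Lpe (f69727 IH) (Lpe (f69716 IH) (Lpr_gf (f181967 IH) (Lpr_ef (K11.f180127 IH) (Lpr_dt (K11.f180141 IH) (Lpe (K11.f201435 IH) (Lpe (K11.f80912 IH) (Lpr_gf (K11.f201429 IH) (Lpe (K12.f201442 IH) (Lpr_dt (K12.f201443 IH) (Lpn (LP (LK LD1_c5 LD2_c13 LD3_c44)))))))))))))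
theorem f33846 : Led Lsl_dt (LP (LK LD1_c2 LD2_c31 LD3_c45)) = (LP (LK LD1_c5 LD2_c9 LD3_c13)) :=
  Lre_d IH (LK LD1_c2 LD2_c31 LD3_c45) (LK LD1_c5 LD2_c9 LD3_c13) Lrfl Lrfl
theorem f196164 : Led Lsl_cf (LP (LK LD1_c4 LD2_c1 LD3_c24)) = (LP (LK LD1_c5 LD2_c9 LD3_c13)) :=
  Lgr Lrot14 (Lpe (f69727 IH) (Lpe (f181993 IH) (Lpe (K1.f46876 IH) (Lpe (K10.f196101 IH) (Lpr_ct (K12.f196154 IH) (Lpr_gt (K12.f34212 IH) (Lpe (K0.f34078 IH) (Lpr_gt (K10.f33844 IH) (Lpr_dt (f33846 IH) (Lpn (LP (LK LD1_c5 LD2_c9 LD3_c13))))))))))))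
theorem f239961 : Led Lsl_cf (LP (LK LD1_c5 LD2_c9 LD3_c4)) = (LP (LK LD1_c4 LD2_c1 LD3_c29)) :=
  Lgr Lrot14 (Lpe (f34004 IH) (Lpe (K10.f190441 IH) (Lpe (K1.f46935 IH) (Lpr_gf (f239953 IH) (Lpr_ct (f239729 IH) (Lpr_gt (K12.f33990 IH) (Lpr_dt (K0.f33713 IH) (Lpr_gt (K10.f69754 IH) (Lpr_dt (f80331 IH) (Lpn (LP (LK LD1_c4 LD2_c1 LD3_c29))))))))))))
theorem f21744 : Led Lsl_gt (LP (LK LD1_c1 LD2_c12 LD3_c56)) = (LP (LK LD1_c2 LD2_c31 LD3_c44)) :=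
  Lre_g IH (LK LD1_c1 LD2_c12 LD3_c56) (LK LD1_c2 LD2_c31 LD3_c44) Lrfl Lrfl
theorem f33820 : Led Lsl_gf (LP (LK LD1_c4 LD2_c1 LD3_c56)) = (LP (LK LD1_c2 LD2_c31 LD3_c44)) :=
  Lgr Lrot76 (Lpr_af (K0.f33788 IH) (Lpe (K0.f21739 IH) (Lpr_gt (f21744 IH) (Lpn (LP (LK LD1_c2 LD2_c31 LD3_c44))))))
theorem f21745 : Led Lsl_dt (LP (LK LD1_c2 LD2_c31 LD3_c44)) = (LP (LK LD1_c5 LD2_c9 LD3_c10)) :=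
  Lre_d IH (LK LD1_c2 LD2_c31 LD3_c44) (LK LD1_c5 LD2_c9 LD3_c10) Lrfl Lrfl
theorem f21746 : Led Lsl_gt (LP (LK LD1_c5 LD2_c9 LD3_c10)) = (LP (LK LD1_c10 LD2_c8 LD3_c54)) :=
  Lre_g IH (LK LD1_c5 LD2_c9 LD3_c10) (LK LD1_c10 LD2_c8 LD3_c54) Lrfl Lrfl
theorem f197248 : Led Lsl_gt (LP (LK LD1_c8 LD2_c3 LD3_c36)) = (LP (LK LD1_c4 LD2_c1 LD3_c29)) :=
  Lre_g IH (LK LD1_c8 LD2_c3 LD3_c36) (LK LD1_c4 LD2_c1 LD3_c29) Lrfl Lrfl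
theorem f240049 : Led Lsl_ct (LP (LK LD1_c10 LD2_c8 LD3_c54)) = (LP (LK LD1_c8 LD2_c3 LD3_c36)) :=
  Lgr Lrot152 (Lpe (f21746 IH) (Lpe (f21745 IH) (Lpe (f33820 IH) (Lpr_ct (K0.f33810 IH) (Lpr_gt (K10.f34000 IH) (Lpr_ct (K10.f34002 IH) (Lpe (f34003 IH) (Lpr_cf (f239961 IH) (Lpe (f197248 IH) (Lpn (LP (LK LD1_c8 LD2_c3 LD3_c36))))))))))))
theorem f33791 : Led Lsl_dt (LP (LK LD1_c5 LD2_c9 LD3_c13)) = (LP (LK LD1_c2 LD2_c31 LD3_c45)) :=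
  Lre_d IH (LK LD1_c5 LD2_c9 LD3_c13) (LK LD1_c2 LD2_c31 LD3_c45) Lrfl Lrfl
theorem f240055 : Led Lsl_gt (LP (LK LD1_c10 LD2_c8 LD3_c54)) = (LP (LK LD1_c5 LD2_c9 LD3_c13)) :=
  Lgr Lrot180 (Lpr_ct (f240049 IH) (Lpr_gt (f197248 IH) (Lpr_dt (f81533 IH) (Lpr_gt (f197353 IH) (Lpr_dt (K0.f33790 IH) (Lpr_ct (K0.f33774 IH) (Lpe (K0.f21707 IH) (Lpe (K10.f21749 IH) (Lpe (f33791 IH) (Lpn (LP (LK LD1_c5 LD2_c9 LD3_c13))))))))))))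
theorem f242546 : Led Lsl_df (LP (LK LD1_c10 LD2_c8 LD3_c54)) = (LP (LK LD1_c8 LD2_c3 LD3_c59)) :=
  Lgr Lrot155 (Lpr_gt (f240055 IH) (Lpe (f196164 IH) (Lpr_gt (f201444 IH) (Lpr_ct (f242532 IH) (Lpr_dt (f240133 IH) (Lpe (f240134 IH) (Lpe (f193633 IH) (Lpe (K12.f229098 IH) (Lpr_gf (K12.f229136 IH) (Lpn (LP (LK LD1_c8 LD2_c3 LD3_c59))))))))))))
theorem f240053 : Led Lsl_cf (LP (LK LD1_c10 LD2_c8 LD3_c54)) = (LP (LK LD1_c8 LD2_c3 LD3_c36)) :=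
  Lgr Lrot11 (Lpr_ct (f240049 IH) (Lpn (LP (LK LD1_c8 LD2_c3 LD3_c36))))
theorem f240057 : Led Lsl_gf (LP (LK LD1_c8 LD2_c3 LD3_c36)) = (LP (LK LD1_c4 LD2_c1 LD3_c31)) :=
  Lgr Lrot147 (Lpe (f240053 IH) (Lpr_gt (f240055 IH) (Lpe (f196164 IH) (Lpe (f69727 IH) (Lpe (K9.f69715 IH) (Lpe (K9.f53094 IH) (Lpe (K0.f33764 IH) (Lpe (f33823 IH) (Lpe (f33824 IH) (Lpn (LP (LK LD1_c4 LD2_c1 LD3_c31))))))))))))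
theorem f195645 : Led Lsl_ct (LP (LK LD1_c4 LD2_c1 LD3_c43)) = (LP (LK LD1_c1 LD2_c57 LD3_c49)) :=
  Lre_c IH (LK LD1_c4 LD2_c1 LD3_c43) (LK LD1_c1 LD2_c57 LD3_c49) Lrfl Lrfl
theorem f194132 : Led Lsl_dt (LP (LK LD1_c1 LD2_c13 LD3_c38)) = (LP (LK LD1_c0 LD2_c34 LD3_c5)) :=
  Lre_d IH (LK LD1_c1 LD2_c13 LD3_c38) (LK LD1_c0 LD2_c34 LD3_c5) Lrfl Lrfl
theorem f196108 : Led Lsl_ct (LP (LK LD1_c1 LD2_c13 LD3_c34)) = (LP (LK LD1_c0 LD2_c34 LD3_c5)) :=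
  Lre_c IH (LK LD1_c1 LD2_c13 LD3_c34) (LK LD1_c0 LD2_c34 LD3_c5) Lrfl Lrfl
theorem f196110 : Led Lsl_gt (LP (LK LD1_c1 LD2_c57 LD3_c29)) = (LP (LK LD1_c2 LD2_c33 LD3_c15)) :=
  Lgr Lrot49 (Lpe (f34621 IH) (Lpe (K10.f182001 IH) (Lpr_cf (K1.f47046 IH) (Lpr_gt (K10.f47060 IH) (Lpr_dt (f47061 IH) (Lpr_gt (f196103 IH) (Lpr_dt (f194132 IH) (Lpe (f196108 IH) (Lpe (f196109 IH) (Lpn (LP (LK LD1_c2 LD2_c33 LD3_c15))))))))))))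
theorem f183942 : Led Lsl_ct (LP (LK LD1_c2 LD2_c33 LD3_c15)) = (LP (LK LD1_c5 LD2_c12 LD3_c51)) :=
  Lre_c IH (LK LD1_c2 LD2_c33 LD3_c15) (LK LD1_c5 LD2_c12 LD3_c51) Lrfl Lrfl
theorem f196113 : Led Lsl_gf (LP (LK LD1_c4 LD2_c1 LD3_c43)) = (LP (LK LD1_c5 LD2_c12 LD3_c51)) :=
  Lgr Lrot104 (Lpr_ct (f195645 IH) (Lpe (K12.f165171 IH) (Lpr_cf (f193437 IH) (Lpe (K9.f181420 IH) (Lpr_cf (K1.f27852 IH) (Lpr_gf (K9.f181997 IH) (Lpe (f34619 IH) (Lpr_gt (f196110 IH) (Lpr_ct (f183942 IH) (Lpn (LP (LK LD1_c5 LD2_c12 LD3_c51))))))))))))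
theorem f242548 : Led Lsl_dt (LP (LK LD1_c10 LD2_c8 LD3_c26)) = (LP (LK LD1_c5 LD2_c12 LD3_c51)) :=
  Lgr Lrot6 (Lpr_gt (f197179 IH) (Lpe (f239970 IH) (Lpe (f240057 IH) (Lpe (f240053 IH) (Lpr_df (f242546 IH) (Lpe (K12.f184651 IH) (Lpe (K12.f229140 IH) (Lpe (f195645 IH) (Lpr_gf (f196113 IH) (Lpn (LP (LK LD1_c5 LD2_c12 LD3_c51))))))))))))
theorem f240569 : Led Lsl_ct (LP (LK LD1_c4 LD2_c2 LD3_c21)) = (LP (LK LD1_c8 LD2_c4 LD3_c4)) :=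
  Lgr Lrot59 (Lpr_cf (f240563 IH) (Lpn (LP (LK LD1_c8 LD2_c4 LD3_c4))))
theorem f240643 : Led Lsl_dt (LP (LK LD1_c8 LD2_c3 LD3_c35)) = (LP (LK LD1_c4 LD2_c2 LD3_c1)) :=
  Lgr Lrot42 (Lpr_df (f240641 IH) (Lpn (LP (LK LD1_c4 LD2_c2 LD3_c1))))
theorem f242559 : Led Lsl_gf (LP (LK LD1_c10 LD2_c8 LD3_c26)) = (LP (LK LD1_c5 LD2_c9 LD3_c4)) :=
  Lgr Lrot144 (Lpr_dt (f242548 IH) (Lpe (f196113 IH) (Lpr_dt (f196122 IH) (Lpe (f240569 IH) (Lpr_df (f193415 IH) (Lpr_gf (f240586 IH) (Lpe (f240643 IH) (Lpe (f80332 IH) (Lpe (f239955 IH) (Lpn (LP (LK LD1_c5 LD2_c9 LD3_c4))))))))))))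
theorem f242140 : Led Lsl_ct (LP (LK LD1_c10 LD2_c8 LD3_c26)) = (LP (LK LD1_c8 LD2_c3 LD3_c16)) :=
  Lgr Lrot8 (Lpr_gt (f197179 IH) (Lpr_dt (f197178 IH) (Lpe (K10.f197170 IH) (Lpe (K1.f46901 IH) (Lpe (K1.f27838 IH) (Lpe (K1.f27837 IH) (Lpr_gf (f242135 IH) (Lpe (K12.f34054 IH) (Lpr_gf (K12.f227329 IH) (Lpn (LP (LK LD1_c8 LD2_c3 LD3_c16))))))))))))
theorem f242574 : Led Lsl_df (LP (LK LD1_c4 LD2_c2 LD3_c0)) = (LP (LK LD1_c8 LD2_c3 LD3_c36)) :=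
  Lgr Lrot155 (Lpr_gt (K10.f194127 IH) (Lpr_ct (K10.f80928 IH) (Lpe (K12.f227315 IH) (Lpr_ct (K12.f227317 IH) (Lpr_dt (K12.f227319 IH) (Lpe (f242140 IH) (Lpr_gf (f242559 IH) (Lpr_cf (f239961 IH) (Lpe (f197248 IH) (Lpn (LP (LK LD1_c8 LD2_c3 LD3_c36))))))))))))
theorem f194134 : Led Lsl_ct (LP (LK LD1_c4 LD2_c2 LD3_c0)) = (LP (LK LD1_c1 LD2_c57 LD3_c57)) :=
  Lre_c IH (LK LD1_c4 LD2_c2 LD3_c0) (LK LD1_c1 LD2_c57 LD3_c57) Lrfl Lrfl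
theorem f175053 : Led Lsl_gt (LP (LK LD1_c0 LD2_c32 LD3_c29)) = (LP (LK LD1_c1 LD2_c10 LD3_c15)) :=
  Lre_g IH (LK LD1_c0 LD2_c32 LD3_c29) (LK LD1_c1 LD2_c10 LD3_c15) Lrfl Lrfl
theorem f242577 : Led Lsl_df (LP (LK LD1_c1 LD2_c57 LD3_c57)) = (LP (LK LD1_c1 LD2_c10 LD3_c15)) :=
  Lgr Lrot84 (Lpe (f194134 IH) (Lpr_df (f242574 IH) (Lpr_gf (f240057 IH) (Lpe (f196179 IH) (Lpr_gf (f239963 IH) (Lpe (K0.f33737 IH) (Lpe (K12.f192588 IH) (Lpe (f182360 IH) (Lpr_gt (f175053 IH) (Lpn (LP (LK LD1_c1 LD2_c10 LD3_c15))))))))))))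
theorem f242581 : Led Lsl_ef (LP (LK LD1_c0 LD2_c33 LD3_c40)) = (LP (LK LD1_c1 LD2_c10 LD3_c15)) :=
  Lgr Lrot114 (Lpr_gt (K10.f192347 IH) (Lpe (K0.f28602 IH) (Lpe (K0.f31057 IH) (Lpe (K0.f8211 IH) (Lpe (K0.f33562 IH) (Lpr_et (K0.f33564 IH) (Lpr_gt (K10.f81104 IH) (Lpr_dt (f180878 IH) (Lpr_gt (K10.f182046 IH) (Lpr_df (f242577 IH) (Lpn (LP (LK LD1_c1 LD2_c10 LD3_c15)))))))))))))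
theorem f242589 : Led Lsl_et (LP (LK LD1_c0 LD2_c33 LD3_c40)) = (LP (LK LD1_c1 LD2_c10 LD3_c15)) :=
  Lgr Lrot87 (Lpr_ef (f242581 IH) (Lpn (LP (LK LD1_c1 LD2_c10 LD3_c15))))
theorem f210877 : Led Lsl_ef (LP (LK LD1_c1 LD2_c12 LD3_c44)) = (LP (LK LD1_c1 LD2_c6 LD3_c26)) :=
  Lgr Lrot88 (Lpr_et (f210873 IH) (Lpn (LP (LK LD1_c1 LD2_c6 LD3_c26))))
theorem f59147 : Led Lsl_dt (LP (LK LD1_c2 LD2_c18 LD3_c51)) = (LP (LK LD1_c1 LD2_c6 LD3_c26)) :=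
  Lre_d IH (LK LD1_c2 LD2_c18 LD3_c51) (LK LD1_c1 LD2_c6 LD3_c26) Lrfl Lrfl
theorem f242595 : Led Lsl_ef (LP (LK LD1_c2 LD2_c18 LD3_c51)) = (LP (LK LD1_c1 LD2_c57 LD3_c57)) :=
  Lgr Lrot73 (Lpr_dt (f59147 IH) (Lpe (f210877 IH) (Lpr_dt (f182031 IH) (Lpr_et (f242589 IH) (Lpe (f242577 IH) (Lpn (LP (LK LD1_c1 LD2_c57 LD3_c57))))))))
theorem f242579 : Led Lsl_dt (LP (LK LD1_c1 LD2_c57 LD3_c57)) = (LP (LK LD1_c1 LD2_c10 LD3_c15)) :=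
  Lgr Lrot42 (Lpr_df (f242577 IH) (Lpn (LP (LK LD1_c1 LD2_c10 LD3_c15))))
theorem f237371 : Led Lsl_bt (LP (LK LD1_c4 LD2_c0 LD3_c24)) = (LP (LK LD1_c2 LD2_c9 LD3_c0)) :=
  Lgr Lrot127 (Lpr_bf (f237369 IH) (Lpn (LP (LK LD1_c2 LD2_c9 LD3_c0))))
theorem f241796 : Led Lsl_ef (LP (LK LD1_c4 LD2_c0 LD3_c24)) = (LP (LK LD1_c3 LD2_c3 LD3_c54)) :=
  Lgr Lrot29 (Lpr_bt (f237371 IH) (Lpr_et (f241794 IH) (Lpr_bt (K10.f197987 IH) (Lpn (LP (LK LD1_c3 LD2_c3 LD3_c54))))))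
theorem f242597 : Led Lsl_gt (LP (LK LD1_c2 LD2_c18 LD3_c51)) = (LP (LK LD1_c4 LD2_c0 LD3_c24)) :=
  Lgr Lrot131 (Lpr_ef (f242595 IH) (Lpr_dt (f242579 IH) (Lpe (f175053 IH) (Lpr_df (f182360 IH) (Lpr_gf (K12.f192588 IH) (Lpe (K2.f33623 IH) (Lpe (K2.f33626 IH) (Lpr_gf (K12.f197909 IH) (Lpe (K10.f37202 IH) (Lpe (f241796 IH) (Lpn (LP (LK LD1_c4 LD2_c0 LD3_c24)))))))))))))
theorem f181339 : Led Lsl_et (LP (LK LD1_c0 LD2_c54 LD3_c56)) = (LP (LK LD1_c1 LD2_c56 LD3_c13)) :=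
  Lre_e IH (LK LD1_c0 LD2_c54 LD3_c56) (LK LD1_c1 LD2_c56 LD3_c13) Lrfl Lrfl
theorem f239168 : Led Lsl_gt (LP (LK LD1_c1 LD2_c56 LD3_c13)) = (LP (LK LD1_c2 LD2_c18 LD3_c51)) :=
  Lgr Lrot137 (Lpe (f181339 IH) (Lpe (f193657 IH) (Lpr_gf (f238288 IH) (Lpe (f238290 IH) (Lpr_et (f239164 IH) (Lpe (f210875 IH) (Lpe (f80810 IH) (Lpe (K11.f205287 IH) (Lpr_gf (f210871 IH) (Lpe (f59147 IH) (Lpn (LP (LK LD1_c2 LD2_c18 LD3_c51)))))))))))))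
theorem f239362 : Led Lsl_af (LP (LK LD1_c4 LD2_c0 LD3_c24)) = (LP (LK LD1_c3 LD2_c10 LD3_c25)) :=
  Lgr Lrot0 (Lpr_at (f239360 IH) (Lpn (LP (LK LD1_c3 LD2_c10 LD3_c25))))
theorem f242599 : Led Lsl_ft (LP (LK LD1_c1 LD2_c56 LD3_c13)) = (LP (LK LD1_c3 LD2_c10 LD3_c25)) :=
  Lgr Lrot2 (Lpr_gt (f239168 IH) (Lpr_gt (f242597 IH) (Lpr_af (f239362 IH) (Lpn (LP (LK LD1_c3 LD2_c10 LD3_c25))))))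
theorem f242607 : Led Lsl_ff (LP (LK LD1_c1 LD2_c56 LD3_c13)) = (LP (LK LD1_c3 LD2_c10 LD3_c25)) :=
  Lgr Lrot3 (Lpr_ft (f242599 IH) (Lpn (LP (LK LD1_c3 LD2_c10 LD3_c25))))
theorem f28392 : Led Lsl_bt (LP (LK LD1_c1 LD2_c56 LD3_c13)) = (LP (LK LD1_c0 LD2_c54 LD3_c57)) :=
  Lre_b IH (LK LD1_c1 LD2_c56 LD3_c13) (LK LD1_c0 LD2_c54 LD3_c57) Lrfl Lrfl
theorem f205175 : Led Lsl_bt (LP (LK LD1_c1 LD2_c31 LD3_c26)) = (LP (LK LD1_c3 LD2_c10 LD3_c25)) :=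
  Lre_b IH (LK LD1_c1 LD2_c31 LD3_c26) (LK LD1_c3 LD2_c10 LD3_c25) Lrfl Lrfl
theorem f242611 : Led Lsl_ft (LP (LK LD1_c0 LD2_c54 LD3_c57)) = (LP (LK LD1_c1 LD2_c31 LD3_c26)) :=
  Lgr Lrot75 (Lpe (f28392 IH) (Lpr_ff (f242607 IH) (Lpe (f205175 IH) (Lpn (LP (LK LD1_c1 LD2_c31 LD3_c26))))))
theorem f35331 : Led Lsl_et (LP (LK LD1_c0 LD2_c30 LD3_c27)) = (LP (LK LD1_c0 LD2_c32 LD3_c10)) :=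
  Lgr Lrot87 (Lpr_ef (K9.f35326 IH) (Lpn (LP (LK LD1_c0 LD2_c32 LD3_c10))))
theorem f212010 : Led Lsl_gf (LP (LK LD1_c1 LD2_c6 LD3_c35)) = (LP (LK LD1_c0 LD2_c54 LD3_c57)) :=
  Lgr Lrot145 (Lpe (K9.f35328 IH) (Lpr_et (f35331 IH) (Lpr_gt (K12.f212000 IH) (Lpr_dt (K10.f169333 IH) (Lpr_gt (K10.f6815 IH) (Lpe (K9.f31450 IH) (Lpe (K10.f193787 IH) (Lpr_gt (K10.f28403 IH) (Lpe (K10.f28362 IH) (Lpr_dt (K10.f28395 IH) (Lpn (LP (LK LD1_c0 LD2_c54 LD3_c57)))))))))))))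
theorem f242621 : Led Lsl_gt (LP (LK LD1_c1 LD2_c6 LD3_c35)) = (LP (LK LD1_c1 LD2_c10 LD3_c32)) :=
  Lgr Lrot46 (Lpr_gf (f212010 IH) (Lpr_ft (f242611 IH) (Lpr_at (f205173 IH) (Lpn (LP (LK LD1_c1 LD2_c10 LD3_c32))))))
theorem f35334 : Led Lsl_ef (LP (LK LD1_c1 LD2_c6 LD3_c35)) = (LP (LK LD1_c0 LD2_c57 LD3_c26)) :=
  Lgr Lrot73 (Lpr_dt (K9.f35333 IH) (Lpr_et (f35331 IH) (Lpr_dt (K9.f28350 IH) (Lpr_et (K8.f28349 IH) (Lpe (K8.f28332 IH) (Lpn (LP (LK LD1_c0 LD2_c57 LD3_c26))))))))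
theorem f193950 : Led Lsl_gf (LP (LK LD1_c0 LD2_c32 LD3_c11)) = (LP (LK LD1_c0 LD2_c14 LD3_c35)) :=
  Lgr Lrot144 (Lpe (K8.f28332 IH) (Lpr_gt (K9.f59118 IH) (Lpr_dt (K9.f58968 IH) (Lpr_cf (K9.f177785 IH) (Lpe (K9.f165046 IH) (Lpe (K10.f184926 IH) (Lpe (K10.f184893 IH) (Lpr_gf (K10.f193948 IH) (Lpe (K10.f175048 IH) (Lpn (LP (LK LD1_c0 LD2_c14 LD3_c35))))))))))))
theorem f60733 : Led Lsl_dt (LP (LK LD1_c1 LD2_c28 LD3_c30)) = (LP (LK LD1_c0 LD2_c40 LD3_c54)) :=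
  Lre_d IH (LK LD1_c1 LD2_c28 LD3_c30) (LK LD1_c0 LD2_c40 LD3_c54) Lrfl Lrfl
theorem f242626 : Led Lsl_et (LP (LK LD1_c1 LD2_c28 LD3_c30)) = (LP (LK LD1_c1 LD2_c10 LD3_c32)) :=
  Lgr Lrot122 (Lpr_dt (f60733 IH) (Lpe (K9.f80290 IH) (Lpe (K9.f47929 IH) (Lpr_et (K9.f47928 IH) (Lpr_gt (K9.f182463 IH) (Lpr_dt (K9.f179889 IH) (Lpe (f193950 IH) (Lpe (K8.f28347 IH) (Lpe (f35334 IH) (Lpr_gt (f242621 IH) (Lpn (LP (LK LD1_c1 LD2_c10 LD3_c32)))))))))))))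
theorem f58999 : Led Lsl_gt (LP (LK LD1_c0 LD2_c30 LD3_c28)) = (LP (LK LD1_c0 LD2_c13 LD3_c32)) :=
  Lre_g IH (LK LD1_c0 LD2_c30 LD3_c28) (LK LD1_c0 LD2_c13 LD3_c32) Lrfl Lrfl
theorem f59002 : Led Lsl_dt (LP (LK LD1_c1 LD2_c6 LD3_c36)) = (LP (LK LD1_c0 LD2_c30 LD3_c28)) :=
  Lre_d IH (LK LD1_c1 LD2_c6 LD3_c36) (LK LD1_c0 LD2_c30 LD3_c28) Lrfl Lrfl
theorem f242632 : Led Lsl_gf (LP (LK LD1_c1 LD2_c6 LD3_c36)) = (LP (LK LD1_c1 LD2_c10 LD3_c32)) :=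
  Lgr Lrot138 (Lpr_dt (f59002 IH) (Lpr_gt (f58999 IH) (Lpr_df (K9.f58991 IH) (Lpr_et (K9.f58976 IH) (Lpr_gt (K1.f23012 IH) (Lpe (K1.f59120 IH) (Lpe (K1.f60721 IH) (Lpr_gt (K9.f60459 IH) (Lpe (f60733 IH) (Lpr_et (f242626 IH) (Lpn (LP (LK LD1_c1 LD2_c10 LD3_c32)))))))))))))
theorem f172703 : Led Lsl_ft (LP (LK LD1_c1 LD2_c10 LD3_c32)) = (LP (LK LD1_c0 LD2_c32 LD3_c41)) :=
  Lre_f IH (LK LD1_c1 LD2_c10 LD3_c32) (LK LD1_c0 LD2_c32 LD3_c41) Lrfl Lrfl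
theorem f172704 : Led Lsl_ft (LP (LK LD1_c0 LD2_c37 LD3_c2)) = (LP (LK LD1_c1 LD2_c20 LD3_c5)) :=
  Lre_f IH (LK LD1_c0 LD2_c37 LD3_c2) (LK LD1_c1 LD2_c20 LD3_c5) Lrfl Lrfl
theorem f172705 : Led Lsl_cf (LP (LK LD1_c1 LD2_c10 LD3_c32)) = (LP (LK LD1_c1 LD2_c20 LD3_c5)) :=
  Lgr Lrot108 (Lpr_ft (f172703 IH) (Lpr_ct (K11.f172423 IH) (Lpr_ft (f172704 IH) (Lpn (LP (LK LD1_c1 LD2_c20 LD3_c5))))))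
theorem f242636 : Led Lsl_gf (LP (LK LD1_c1 LD2_c13 LD3_c49)) = (LP (LK LD1_c1 LD2_c20 LD3_c5)) :=
  Lgr Lrot144 (Lpe (K11.f185769 IH) (Lpr_gt (K11.f59005 IH) (Lpr_dt (K11.f59004 IH) (Lpe (K11.f58987 IH) (Lpe (K9.f58979 IH) (Lpe (f58999 IH) (Lpe (f59002 IH) (Lpr_gf (f242632 IH) (Lpr_cf (f172705 IH) (Lpn (LP (LK LD1_c1 LD2_c20 LD3_c5))))))))))))
theorem f185817 : Led Lsl_ct (LP (LK LD1_c1 LD2_c13 LD3_c49)) = (LP (LK LD1_c0 LD2_c34 LD3_c12)) :=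
  Lre_c IH (LK LD1_c1 LD2_c13 LD3_c49) (LK LD1_c0 LD2_c34 LD3_c12) Lrfl Lrfl
theorem f177097 : Led Lsl_df (LP (LK LD1_c0 LD2_c16 LD3_c46)) = (LP (LK LD1_c0 LD2_c29 LD3_c23)) :=
  Lgr Lrot38 (Lpr_dt (K9.f176876 IH) (Lpn (LP (LK LD1_c0 LD2_c29 LD3_c23))))
theorem f177136 : Led Lsl_dt (LP (LK LD1_c0 LD2_c29 LD3_c17)) = (LP (LK LD1_c0 LD2_c16 LD3_c56)) :=
  Lgr Lrot44 (Lpr_af (K6.f146324 IH) (Lpr_df (f177097 IH) (Lpe (K6.f146302 IH) (Lpn (LP (LK LD1_c0 LD2_c16 LD3_c56))))))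
theorem f176878 : Led Lsl_gt (LP (LK LD1_c0 LD2_c29 LD3_c22)) = (LP (LK LD1_c0 LD2_c12 LD3_c57)) :=
  Lre_g IH (LK LD1_c0 LD2_c29 LD3_c22) (LK LD1_c0 LD2_c12 LD3_c57) Lrfl Lrfl
theorem f176882 : Led Lsl_ct (LP (LK LD1_c0 LD2_c29 LD3_c22)) = (LP (LK LD1_c1 LD2_c4 LD3_c14)) :=
  Lre_c IH (LK LD1_c0 LD2_c29 LD3_c22) (LK LD1_c1 LD2_c4 LD3_c14) Lrfl Lrfl
theorem f177086 : Led Lsl_gt (LP (LK LD1_c1 LD2_c4 LD3_c14)) = (LP (LK LD1_c0 LD2_c30 LD3_c26)) :=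
  Lgr Lrot94 (Lpe (f176882 IH) (Lpr_gt (f176878 IH) (Lpe (K9.f176834 IH) (Lpr_gt (K9.f24438 IH) (Lpr_dt (K9.f24554 IH) (Lpe (K11.f176881 IH) (Lpr_df (K11.f177076 IH) (Lpe (K11.f26976 IH) (Lpe (K11.f26975 IH) (Lpn (LP (LK LD1_c0 LD2_c30 LD3_c26))))))))))))
theorem f186330 : Led Lsl_gt (LP (LK LD1_c0 LD2_c16 LD3_c56)) = (LP (LK LD1_c0 LD2_c29 LD3_c22)) :=
  Lgr Lrot9 (Lpe (f177136 IH) (Lpr_gt (K9.f146327 IH) (Lpr_ct (K11.f146333 IH) (Lpr_gt (K11.f186325 IH) (Lpr_ct (K11.f59003 IH) (Lpe (K9.f58979 IH) (Lpe (K11.f58985 IH) (Lpe (f177086 IH) (Lpe (f176882 IH) (Lpn (LP (LK LD1_c0 LD2_c29 LD3_c22))))))))))))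
theorem f20535 : Led Lsl_et (LP (LK LD1_c0 LD2_c34 LD3_c12)) = (LP (LK LD1_c0 LD2_c15 LD3_c21)) :=
  Lre_e IH (LK LD1_c0 LD2_c34 LD3_c12) (LK LD1_c0 LD2_c15 LD3_c21) Lrfl Lrfl
theorem f186344 : Led Lsl_dt (LP (LK LD1_c0 LD2_c34 LD3_c12)) = (LP (LK LD1_c0 LD2_c29 LD3_c22)) :=
  Lgr Lrot56 (Lpr_et (f20535 IH) (Lpe (K10.f163716 IH) (Lpr_ef (K9.f164247 IH) (Lpr_dt (K9.f164255 IH) (Lpr_gt (K9.f177140 IH) (Lpe (K9.f24440 IH) (Lpr_et (K9.f24439 IH) (Lpe (K9.f146346 IH) (Lpr_dt (f177136 IH) (Lpr_gt (f186330 IH) (Lpn (LP (LK LD1_c0 LD2_c29 LD3_c22)))))))))))))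
theorem f176880 : Led Lsl_ct (LP (LK LD1_c1 LD2_c4 LD3_c14)) = (LP (LK LD1_c0 LD2_c29 LD3_c22)) :=
  Lre_c IH (LK LD1_c1 LD2_c4 LD3_c14) (LK LD1_c0 LD2_c29 LD3_c22) Lrfl Lrfl
theorem f172712 : Led Lsl_ct (LP (LK LD1_c1 LD2_c10 LD3_c32)) = (LP (LK LD1_c1 LD2_c20 LD3_c5)) :=
  Lgr Lrot59 (Lpr_cf (f172705 IH) (Lpn (LP (LK LD1_c1 LD2_c20 LD3_c5))))
theorem f210477 : Led Lsl_gt (LP (LK LD1_c0 LD2_c30 LD3_c27)) = (LP (LK LD1_c0 LD2_c18 LD3_c53)) :=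
  Lgr Lrot137 (Lpr_ef (K9.f35326 IH) (Lpr_dt (K9.f28350 IH) (Lpr_gf (K9.f31615 IH) (Lpe (K9.f31555 IH) (Lpr_et (K10.f36215 IH) (Lpe (K11.f37721 IH) (Lpr_ef (K10.f59519 IH) (Lpr_dt (K10.f59014 IH) (Lpr_gf (K11.f210471 IH) (Lpe (K1.f25934 IH) (Lpn (LP (LK LD1_c0 LD2_c18 LD3_c53)))))))))))))
theorem f242644 : Led Lsl_gf (LP (LK LD1_c1 LD2_c4 LD3_c14)) = (LP (LK LD1_c0 LD2_c42 LD3_c11)) :=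
  Lgr Lrot104 (Lpr_ct (f176880 IH) (Lpe (f186344 IH) (Lpe (f185817 IH) (Lpr_gf (f242636 IH) (Lpe (f172712 IH) (Lpe (f242621 IH) (Lpe (K9.f35328 IH) (Lpr_gt (f210477 IH) (Lpr_ct (K11.f25974 IH) (Lpn (LP (LK LD1_c0 LD2_c42 LD3_c11))))))))))))
theorem f242647 : Led Lsl_bt (LP (LK LD1_c0 LD2_c29 LD3_c22)) = (LP (LK LD1_c0 LD2_c30 LD3_c28)) :=
  Lgr Lrot130 (Lpr_ct (f176882 IH) (Lpr_gf (f242644 IH) (Lpe (K11.f25974 IH) (Lpr_bt (K1.f25973 IH) (Lpe (K11.f205626 IH) (Lpr_bf (K11.f205329 IH) (Lpr_ct (K10.f20482 IH) (Lpe (f185167 IH) (Lpe (K11.f59025 IH) (Lpe (f58999 IH) (Lpn (LP (LK LD1_c0 LD2_c30 LD3_c28)))))))))))))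
theorem f185172 : Led Lsl_dt (LP (LK LD1_c0 LD2_c30 LD3_c28)) = (LP (LK LD1_c1 LD2_c6 LD3_c36)) :=
  Lre_d IH (LK LD1_c0 LD2_c30 LD3_c28) (LK LD1_c1 LD2_c6 LD3_c36) Lrfl Lrfl
theorem f242653 : Led Lsl_bf (LP (LK LD1_c0 LD2_c34 LD3_c12)) = (LP (LK LD1_c1 LD2_c6 LD3_c36)) :=
  Lgr Lrot93 (Lpr_dt (f186344 IH) (Lpr_bt (f242647 IH) (Lpr_dt (f185172 IH) (Lpn (LP (LK LD1_c1 LD2_c6 LD3_c36))))))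
theorem f242714 : Led Lsl_bt (LP (LK LD1_c0 LD2_c34 LD3_c12)) = (LP (LK LD1_c1 LD2_c6 LD3_c36)) :=
  Lgr Lrot127 (Lpr_bf (f242653 IH) (Lpn (LP (LK LD1_c1 LD2_c6 LD3_c36))))
theorem f185776 : Led Lsl_ct (LP (LK LD1_c0 LD2_c34 LD3_c12)) = (LP (LK LD1_c1 LD2_c13 LD3_c49)) :=
  Lre_c IH (LK LD1_c0 LD2_c34 LD3_c12) (LK LD1_c1 LD2_c13 LD3_c49) Lrfl Lrfl
theorem f36341 : Led Lsl_et (LP (LK LD1_c0 LD2_c42 LD3_c4)) = (LP (LK LD1_c1 LD2_c0 LD3_c59)) :=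
  Lgr Lrot87 (Lpr_ef (K12.f36333 IH) (Lpn (LP (LK LD1_c1 LD2_c0 LD3_c59))))
theorem f164145 : Led Lsl_bt (LP (LK LD1_c0 LD2_c30 LD3_c27)) = (LP (LK LD1_c0 LD2_c42 LD3_c4)) :=
  Lgr Lrot119 (Lpr_ef (K9.f35326 IH) (Lpr_bf (K12.f164135 IH) (Lpe (f36341 IH) (Lpn (LP (LK LD1_c0 LD2_c42 LD3_c4))))))
theorem f36329 : Led Lsl_dt (LP (LK LD1_c0 LD2_c42 LD3_c4)) = (LP (LK LD1_c1 LD2_c31 LD3_c14)) :=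
  Lre_d IH (LK LD1_c0 LD2_c42 LD3_c4) (LK LD1_c1 LD2_c31 LD3_c14) Lrfl Lrfl
theorem f164149 : Led Lsl_bf (LP (LK LD1_c1 LD2_c6 LD3_c35)) = (LP (LK LD1_c1 LD2_c31 LD3_c14)) :=
  Lgr Lrot93 (Lpr_dt (K9.f35333 IH) (Lpr_bt (f164145 IH) (Lpr_dt (f36329 IH) (Lpn (LP (LK LD1_c1 LD2_c31 LD3_c14))))))
theorem f164154 : Led Lsl_ct (LP (LK LD1_c1 LD2_c31 LD3_c14)) = (LP (LK LD1_c3 LD2_c10 LD3_c9)) :=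
  Lre_c IH (LK LD1_c1 LD2_c31 LD3_c14) (LK LD1_c3 LD2_c10 LD3_c9) Lrfl Lrfl
theorem f242615 : Led Lsl_af (LP (LK LD1_c0 LD2_c54 LD3_c57)) = (LP (LK LD1_c0 LD2_c32 LD3_c41)) :=
  Lgr Lrot45 (Lpr_ft (f242611 IH) (Lpr_at (f205173 IH) (Lpr_ft (f172703 IH) (Lpn (LP (LK LD1_c0 LD2_c32 LD3_c41))))))
theorem f242634 : Led Lsl_gt (LP (LK LD1_c1 LD2_c6 LD3_c36)) = (LP (LK LD1_c0 LD2_c54 LD3_c57)) :=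
  Lgr Lrot46 (Lpr_gf (f242632 IH) (Lpr_ft (f172703 IH) (Lpe (f242615 IH) (Lpn (LP (LK LD1_c0 LD2_c54 LD3_c57))))))
theorem f181317 : Led Lsl_et (LP (LK LD1_c1 LD2_c56 LD3_c13)) = (LP (LK LD1_c0 LD2_c54 LD3_c56)) :=
  Lre_e IH (LK LD1_c1 LD2_c56 LD3_c13) (LK LD1_c0 LD2_c54 LD3_c56) Lrfl Lrfl
theorem f181318 : Led Lsl_et (LP (LK LD1_c1 LD2_c55 LD3_c30)) = (LP (LK LD1_c3 LD2_c57 LD3_c27)) :=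
  Lre_e IH (LK LD1_c1 LD2_c55 LD3_c30) (LK LD1_c3 LD2_c57 LD3_c27) Lrfl Lrfl
theorem f181319 : Led Lsl_cf (LP (LK LD1_c1 LD2_c56 LD3_c13)) = (LP (LK LD1_c3 LD2_c57 LD3_c27)) :=
  Lgr Lrot39 (Lpr_et (f181317 IH) (Lpr_ct (K12.f181223 IH) (Lpr_et (f181318 IH) (Lpn (LP (LK LD1_c3 LD2_c57 LD3_c27))))))
theorem f181335 : Led Lsl_ct (LP (LK LD1_c1 LD2_c56 LD3_c13)) = (LP (LK LD1_c3 LD2_c57 LD3_c27)) :=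
  Lgr Lrot59 (Lpr_cf (f181319 IH) (Lpn (LP (LK LD1_c3 LD2_c57 LD3_c27))))
theorem f242757 : Led Lsl_gf (LP (LK LD1_c3 LD2_c10 LD3_c9)) = (LP (LK LD1_c3 LD2_c57 LD3_c27)) :=
  Lgr Lrot126 (Lpe (f164154 IH) (Lpe (f164149 IH) (Lpr_gt (f242621 IH) (Lpr_ct (f172712 IH) (Lpe (f242636 IH) (Lpe (f185776 IH) (Lpr_bt (f242714 IH) (Lpr_gt (f242634 IH) (Lpe (f28392 IH) (Lpr_ct (f181335 IH) (Lpn (LP (LK LD1_c3 LD2_c57 LD3_c27)))))))))))))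
theorem f69748 : Led Lsl_gt (LP (LK LD1_c8 LD2_c3 LD3_c28)) = (LP (LK LD1_c4 LD2_c1 LD3_c24)) :=
  Lre_g IH (LK LD1_c8 LD2_c3 LD3_c28) (LK LD1_c4 LD2_c1 LD3_c24) Lrfl Lrfl
theorem f69746 : Led Lsl_dt (LP (LK LD1_c4 LD2_c1 LD3_c24)) = (LP (LK LD1_c1 LD2_c57 LD3_c39)) :=
  Lre_d IH (LK LD1_c4 LD2_c1 LD3_c24) (LK LD1_c1 LD2_c57 LD3_c39) Lrfl Lrfl
theorem f242079 : Led Lsl_cf (LP (LK LD1_c8 LD2_c3 LD3_c28)) = (LP (LK LD1_c10 LD2_c7 LD3_c39)) :=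
  Lgr Lrot166 (Lpr_gt (f69748 IH) (Lpr_dt (f69746 IH) (Lpe (K9.f181995 IH) (Lpr_dt (K1.f27865 IH) (Lpe (K1.f46583 IH) (Lpe (K1.f46606 IH) (Lpr_gf (K10.f190749 IH) (Lpe (f180784 IH) (Lpr_gf (f242073 IH) (Lpn (LP (LK LD1_c10 LD2_c7 LD3_c39))))))))))))
theorem f240596 : Led Lsl_gt (LP (LK LD1_c1 LD2_c57 LD3_c59)) = (LP (LK LD1_c4 LD2_c2 LD3_c2)) :=
  Lre_g IH (LK LD1_c1 LD2_c57 LD3_c59) (LK LD1_c4 LD2_c2 LD3_c2) Lrfl Lrfl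
theorem f242133 : Led Lsl_df (LP (LK LD1_c8 LD2_c3 LD3_c28)) = (LP (LK LD1_c4 LD2_c2 LD3_c2)) :=
  Lgr Lrot84 (Lpr_cf (f242079 IH) (Lpe (f240085 IH) (Lpe (f242070 IH) (Lpe (K10.f190339 IH) (Lpe (K10.f197176 IH) (Lpe (K1.f27838 IH) (Lpr_gt (f242126 IH) (Lpr_dt (f229133 IH) (Lpr_gt (f240596 IH) (Lpn (LP (LK LD1_c4 LD2_c2 LD3_c2))))))))))))
theorem f242764 : Led Lsl_ef (LP (LK LD1_c3 LD2_c10 LD3_c9)) = (LP (LK LD1_c4 LD2_c2 LD3_c2)) :=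
  Lgr Lrot17 (Lpr_gf (f242757 IH) (Lpe (f181318 IH) (Lpr_dt (f181316 IH) (Lpe (f238874 IH) (Lpe (f210339 IH) (Lpr_gf (f237407 IH) (Lpr_ef (f69716 IH) (Lpr_dt (f69727 IH) (Lpe (f69748 IH) (Lpr_df (f242133 IH) (Lpn (LP (LK LD1_c4 LD2_c2 LD3_c2)))))))))))))
theorem f242768 : Led Lsl_et (LP (LK LD1_c3 LD2_c10 LD3_c9)) = (LP (LK LD1_c4 LD2_c2 LD3_c2)) :=
  Lgr Lrot87 (Lpr_ef (f242764 IH) (Lpn (LP (LK LD1_c4 LD2_c2 LD3_c2))))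
theorem f241816 : Led Lsl_et (LP (LK LD1_c2 LD2_c0 LD3_c0)) = (LP (LK LD1_c1 LD2_c31 LD3_c14)) :=
  Lgr Lrot87 (Lpr_ef (f241810 IH) (Lpn (LP (LK LD1_c1 LD2_c31 LD3_c14))))
theorem f242770 : Led Lsl_cf (LP (LK LD1_c2 LD2_c0 LD3_c0)) = (LP (LK LD1_c4 LD2_c2 LD3_c2)) :=
  Lgr Lrot39 (Lpr_et (f241816 IH) (Lpr_ct (f164154 IH) (Lpr_et (f242768 IH) (Lpn (LP (LK LD1_c4 LD2_c2 LD3_c2))))))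
theorem f216816 : Led Lsl_et (LP (LK LD1_c1 LD2_c1 LD3_c18)) = (LP (LK LD1_c0 LD2_c27 LD3_c61)) :=
  Lre_e IH (LK LD1_c1 LD2_c1 LD3_c18) (LK LD1_c0 LD2_c27 LD3_c61) Lrfl Lrfl
theorem f216817 : Led Lsl_ct (LP (LK LD1_c0 LD2_c32 LD3_c29)) = (LP (LK LD1_c1 LD2_c1 LD3_c18)) :=
  Lgr Lrot15 (Lpe (K11.f182362 IH) (Lpr_cf (K12.f216808 IH) (Lpe (f216816 IH) (Lpn (LP (LK LD1_c1 LD2_c1 LD3_c18))))))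
theorem f36340 : Led Lsl_et (LP (LK LD1_c1 LD2_c0 LD3_c60)) = (LP (LK LD1_c0 LD2_c27 LD3_c48)) :=
  Lre_e IH (LK LD1_c1 LD2_c0 LD3_c60) (LK LD1_c0 LD2_c27 LD3_c48) Lrfl Lrfl
theorem f241814 : Led Lsl_dt (LP (LK LD1_c2 LD2_c0 LD3_c0)) = (LP (LK LD1_c1 LD2_c0 LD3_c60)) :=
  Lgr Lrot77 (Lpr_ef (f241810 IH) (Lpe (f36329 IH) (Lpr_ef (K12.f36333 IH) (Lpe (K12.f36339 IH) (Lpe (f36340 IH) (Lpn (LP (LK LD1_c1 LD2_c0 LD3_c60))))))))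
theorem f164141 : Led Lsl_ct (LP (LK LD1_c2 LD2_c7 LD3_c44)) = (LP (LK LD1_c1 LD2_c0 LD3_c60)) :=
  Lre_c IH (LK LD1_c2 LD2_c7 LD3_c44) (LK LD1_c1 LD2_c0 LD3_c60) Lrfl Lrfl
theorem f216410 : Led Lsl_bf (LP (LK LD1_c1 LD2_c10 LD3_c16)) = (LP (LK LD1_c1 LD2_c10 LD3_c16)) :=
  Lgr Lrot96 (Lpr_et (K11.f182378 IH) (Lpr_bt (K12.f216401 IH) (Lpe (K11.f182373 IH) (Lpn (LP (LK LD1_c1 LD2_c10 LD3_c16))))))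
theorem f240601 : Led Lsl_dt (LP (LK LD1_c1 LD2_c10 LD3_c16)) = (LP (LK LD1_c1 LD2_c57 LD3_c58)) :=
  Lgr Lrot79 (Lpr_bf (f216410 IH) (Lpr_df (f240599 IH) (Lpr_bf (f240591 IH) (Lpn (LP (LK LD1_c1 LD2_c57 LD3_c58))))))
theorem f242785 : Led Lsl_gf (LP (LK LD1_c2 LD2_c7 LD3_c44)) = (LP (LK LD1_c1 LD2_c1 LD3_c18)) :=
  Lgr Lrot104 (Lpr_ct (f164141 IH) (Lpe (f241814 IH) (Lpr_cf (f242770 IH) (Lpe (f240596 IH) (Lpe (f180879 IH) (Lpe (f194133 IH) (Lpe (f240601 IH) (Lpr_gt (K11.f175075 IH) (Lpr_ct (f216817 IH) (Lpn (LP (LK LD1_c1 LD2_c1 LD3_c18))))))))))))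
theorem f242787 : Led Lsl_df (LP (LK LD1_c2 LD2_c0 LD3_c0)) = (LP (LK LD1_c1 LD2_c0 LD3_c60)) :=
  Lgr Lrot162 (Lpr_cf (f242770 IH) (Lpe (f240596 IH) (Lpe (f180879 IH) (Lpe (f194133 IH) (Lpe (f240599 IH) (Lpr_gt (K11.f175075 IH) (Lpr_ct (f216817 IH) (Lpe (f242785 IH) (Lpr_ct (f164141 IH) (Lpn (LP (LK LD1_c1 LD2_c0 LD3_c60))))))))))))
theorem f33979 : Led Lsl_ct (LP (LK LD1_c2 LD2_c31 LD3_c48)) = (LP (LK LD1_c1 LD2_c12 LD3_c57)) :=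
  Lre_c IH (LK LD1_c2 LD2_c31 LD3_c48) (LK LD1_c1 LD2_c12 LD3_c57) Lrfl Lrfl
theorem f242267 : Led Lsl_gt (LP (LK LD1_c1 LD2_c1 LD3_c28)) = (LP (LK LD1_c2 LD2_c7 LD3_c40)) :=
  Lgr Lrot49 (Lpr_df (K10.f192979 IH) (Lpe (K10.f180781 IH) (Lpe (f33979 IH) (Lpe (f229086 IH) (Lpr_dt (f229088 IH) (Lpr_gt (f242264 IH) (Lpr_dt (f33158 IH) (Lpe (f33147 IH) (Lpe (f33145 IH) (Lpn (LP (LK LD1_c2 LD2_c7 LD3_c40))))))))))))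
theorem f173224 : Led Lsl_ct (LP (LK LD1_c1 LD2_c1 LD3_c28)) = (LP (LK LD1_c0 LD2_c28 LD3_c5)) :=
  Lre_c IH (LK LD1_c1 LD2_c1 LD3_c28) (LK LD1_c0 LD2_c28 LD3_c5) Lrfl Lrfl
theorem f242789 : Led Lsl_gt (LP (LK LD1_c0 LD2_c28 LD3_c5)) = (LP (LK LD1_c1 LD2_c0 LD3_c60)) :=
  Lgr Lrot94 (Lpe (f173224 IH) (Lpr_gt (f242267 IH) (Lpr_dt (f33145 IH) (Lpe (f240228 IH) (Lpr_dt (f21860 IH) (Lpe (K10.f190269 IH) (Lpe (K12.f27879 IH) (Lpe (f241818 IH) (Lpr_df (f242787 IH) (Lpn (LP (LK LD1_c1 LD2_c0 LD3_c60))))))))))))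
theorem f164142 : Led Lsl_ct (LP (LK LD1_c1 LD2_c0 LD3_c60)) = (LP (LK LD1_c2 LD2_c7 LD3_c44)) :=
  Lre_c IH (LK LD1_c1 LD2_c0 LD3_c60) (LK LD1_c2 LD2_c7 LD3_c44) Lrfl Lrfl
theorem f243009 : Led Lsl_df (LP (LK LD1_c4 LD2_c1 LD3_c58)) = (LP (LK LD1_c2 LD2_c7 LD3_c44)) :=
  Lgr Lrot162 (Lpr_cf (f240166 IH) (Lpe (f33191 IH) (Lpe (f33193 IH) (Lpe (f33265 IH) (Lpe (f240292 IH) (Lpe (K12.f193261 IH) (Lpr_ct (f173224 IH) (Lpr_gt (f242789 IH) (Lpr_ct (f164142 IH) (Lpn (LP (LK LD1_c2 LD2_c7 LD3_c44))))))))))))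
theorem f243018 : Led Lsl_gf (LP (LK LD1_c0 LD2_c55 LD3_c54)) = (LP (LK LD1_c1 LD2_c57 LD3_c57)) :=
  Lgr Lrot143 (Lpr_dt (f34071 IH) (Lpe (K10.f165282 IH) (Lpe (K11.f184653 IH) (Lpe (f240170 IH) (Lpr_df (f243009 IH) (Lpr_gf (f242785 IH) (Lpe (f216817 IH) (Lpr_gt (f175053 IH) (Lpe (f242577 IH) (Lpn (LP (LK LD1_c1 LD2_c57 LD3_c57))))))))))))
theorem f243020 : Led Lsl_cf (LP (LK LD1_c0 LD2_c32 LD3_c29)) = (LP (LK LD1_c1 LD2_c1 LD3_c18)) :=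
  Lgr Lrot166 (Lpr_gt (f175053 IH) (Lpe (f242577 IH) (Lpe (f243018 IH) (Lpr_dt (f34071 IH) (Lpr_ct (K10.f34052 IH) (Lpe (K11.f184653 IH) (Lpe (f240170 IH) (Lpr_df (f243009 IH) (Lpr_gf (f242785 IH) (Lpn (LP (LK LD1_c1 LD2_c1 LD3_c18))))))))))))
theorem f242593 : Led Lsl_cf (LP (LK LD1_c1 LD2_c25 LD3_c36)) = (LP (LK LD1_c1 LD2_c10 LD3_c15)) :=
  Lgr Lrot39 (Lpr_et (K10.f177621 IH) (Lpr_ct (K10.f182025 IH) (Lpr_et (f242589 IH) (Lpn (LP (LK LD1_c1 LD2_c10 LD3_c15))))))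
theorem f169628 : Led Lsl_ct (LP (LK LD1_c5 LD2_c2 LD3_c17)) = (LP (LK LD1_c2 LD2_c28 LD3_c44)) :=
  Lre_c IH (LK LD1_c5 LD2_c2 LD3_c17) (LK LD1_c2 LD2_c28 LD3_c44) Lrfl Lrfl
theorem f197372 : Led Lsl_cf (LP (LK LD1_c1 LD2_c58 LD3_c6)) = (LP (LK LD1_c0 LD2_c56 LD3_c39)) :=
  Lgr Lrot125 (Lpr_gt (f33745 IH) (Lpe (K0.f33676 IH) (Lpe (K10.f34646 IH) (Lpr_gt (K10.f197357 IH) (Lpe (K10.f20656 IH) (Lpr_ct (K9.f20660 IH) (Lpe (K9.f177381 IH) (Lpe (K9.f55631 IH) (Lpr_bt (K9.f56320 IH) (Lpr_gt (K9.f28218 IH) (Lpn (LP (LK LD1_c0 LD2_c56 LD3_c39)))))))))))))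
theorem f242077 : Led Lsl_ct (LP (LK LD1_c8 LD2_c3 LD3_c28)) = (LP (LK LD1_c10 LD2_c7 LD3_c39)) :=
  Lgr Lrot8 (Lpr_gt (f69748 IH) (Lpr_dt (f69746 IH) (Lpe (K9.f181995 IH) (Lpr_dt (K1.f27865 IH) (Lpe (K1.f46588 IH) (Lpe (K1.f46606 IH) (Lpr_gf (K10.f190749 IH) (Lpe (f180784 IH) (Lpr_gf (f242073 IH) (Lpn (LP (LK LD1_c10 LD2_c7 LD3_c39))))))))))))
theorem f242083 : Led Lsl_gt (LP (LK LD1_c4 LD2_c1 LD3_c26)) = (LP (LK LD1_c8 LD2_c3 LD3_c28)) :=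
  Lgr Lrot9 (Lpe (K12.f182359 IH) (Lpe (K9.f182451 IH) (Lpr_ct (K1.f46617 IH) (Lpr_gt (K9.f28218 IH) (Lpe (f197372 IH) (Lpe (f33747 IH) (Lpe (f242081 IH) (Lpr_gf (f242073 IH) (Lpe (f242077 IH) (Lpn (LP (LK LD1_c8 LD2_c3 LD3_c28))))))))))))
theorem f242791 : Led Lsl_df (LP (LK LD1_c4 LD2_c2 LD3_c2)) = (LP (LK LD1_c8 LD2_c3 LD3_c28)) :=
  Lgr Lrot174 (Lpe (f242770 IH) (Lpr_df (f242787 IH) (Lpe (f242789 IH) (Lpr_df (K10.f177804 IH) (Lpe (K9.f47077 IH) (Lpr_ct (K1.f27864 IH) (Lpr_gt (K9.f182449 IH) (Lpr_dt (K12.f182359 IH) (Lpr_gt (f242083 IH) (Lpn (LP (LK LD1_c8 LD2_c3 LD3_c28))))))))))))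
theorem f242783 : Led Lsl_gf (LP (LK LD1_c1 LD2_c58 LD3_c1)) = (LP (LK LD1_c4 LD2_c2 LD3_c2)) :=
  Lgr Lrot144 (Lpr_dt (K12.f193464 IH) (Lpe (K12.f193501 IH) (Lpr_dt (K1.f27869 IH) (Lpe (K1.f27836 IH) (Lpe (K1.f27765 IH) (Lpe (K10.f27851 IH) (Lpe (K12.f27879 IH) (Lpe (f241818 IH) (Lpr_cf (f242770 IH) (Lpn (LP (LK LD1_c4 LD2_c2 LD3_c2))))))))))))
theorem f34065 : Led Lsl_ct (LP (LK LD1_c1 LD2_c58 LD3_c1)) = (LP (LK LD1_c0 LD2_c55 LD3_c54)) :=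
  Lre_c IH (LK LD1_c1 LD2_c58 LD3_c1) (LK LD1_c0 LD2_c55 LD3_c54) Lrfl Lrfl
theorem f196174 : Led Lsl_ct (LP (LK LD1_c4 LD2_c1 LD3_c24)) = (LP (LK LD1_c5 LD2_c9 LD3_c13)) :=
  Lgr Lrot59 (Lpr_cf (f196164 IH) (Lpn (LP (LK LD1_c5 LD2_c9 LD3_c13))))
theorem f169629 : Led Lsl_dt (LP (LK LD1_c9 LD2_c55 LD3_c23)) = (LP (LK LD1_c5 LD2_c2 LD3_c17)) :=
  Lre_d IH (LK LD1_c9 LD2_c55 LD3_c23) (LK LD1_c5 LD2_c2 LD3_c17) Lrfl Lrfl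
theorem f239524 : Led Lsl_gf (LP (LK LD1_c9 LD2_c55 LD3_c23)) = (LP (LK LD1_c5 LD2_c9 LD3_c13)) :=
  Lgr Lrot143 (Lpr_dt (f169629 IH) (Lpe (K11.f165328 IH) (Lpr_df (K10.f177601 IH) (Lpr_gf (f239522 IH) (Lpe (f196336 IH) (Lpe (K10.f34000 IH) (Lpe (K0.f33810 IH) (Lpr_gt (K10.f33844 IH) (Lpr_dt (f33846 IH) (Lpn (LP (LK LD1_c5 LD2_c9 LD3_c13))))))))))))
theorem f242797 : Led Lsl_cf (LP (LK LD1_c8 LD2_c3 LD3_c35)) = (LP (LK LD1_c9 LD2_c55 LD3_c23)) :=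
  Lgr Lrot99 (Lpr_df (f240641 IH) (Lpe (f194137 IH) (Lpe (f240588 IH) (Lpe (f34065 IH) (Lpr_gf (f242783 IH) (Lpr_df (f242791 IH) (Lpr_gt (f69748 IH) (Lpr_ct (f196174 IH) (Lpe (f239524 IH) (Lpn (LP (LK LD1_c9 LD2_c55 LD3_c23))))))))))))
theorem f242825 : Led Lsl_ct (LP (LK LD1_c8 LD2_c3 LD3_c35)) = (LP (LK LD1_c9 LD2_c55 LD3_c23)) :=
  Lgr Lrot59 (Lpr_cf (f242797 IH) (Lpn (LP (LK LD1_c9 LD2_c55 LD3_c23))))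
theorem f242831 : Led Lsl_df (LP (LK LD1_c10 LD2_c8 LD3_c25)) = (LP (LK LD1_c8 LD2_c3 LD3_c8)) :=
  Lgr Lrot155 (Lpe (f242279 IH) (Lpr_ct (f239955 IH) (Lpr_gt (f80332 IH) (Lpr_ct (f242825 IH) (Lpr_dt (f169629 IH) (Lpe (K11.f165328 IH) (Lpr_gf (K10.f182042 IH) (Lpe (f182045 IH) (Lpr_gf (f237071 IH) (Lpn (LP (LK LD1_c8 LD2_c3 LD3_c8))))))))))))
theorem f196105 : Led Lsl_dt (LP (LK LD1_c2 LD2_c33 LD3_c23)) = (LP (LK LD1_c5 LD2_c13 LD3_c2)) :=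
  Lre_d IH (LK LD1_c2 LD2_c33 LD3_c23) (LK LD1_c5 LD2_c13 LD3_c2) Lrfl Lrfl
theorem f229236 : Led Lsl_df (LP (LK LD1_c2 LD2_c26 LD3_c7)) = (LP (LK LD1_c4 LD2_c1 LD3_c40)) :=
  Lgr Lrot38 (Lpr_dt (K12.f229234 IH) (Lpn (LP (LK LD1_c4 LD2_c1 LD3_c40))))
theorem f242835 : Led Lsl_gt (LP (LK LD1_c4 LD2_c1 LD3_c43)) = (LP (LK LD1_c8 LD2_c3 LD3_c8)) :=
  Lgr Lrot94 (Lpe (f165477 IH) (Lpr_gt (K12.f229140 IH) (Lpe (f229236 IH) (Lpr_gt (K11.f196345 IH) (Lpe (K10.f196331 IH) (Lpe (K10.f34005 IH) (Lpe (f34003 IH) (Lpr_gf (f242279 IH) (Lpr_df (f242831 IH) (Lpn (LP (LK LD1_c8 LD2_c3 LD3_c8))))))))))))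
theorem f195649 : Led Lsl_dt (LP (LK LD1_c8 LD2_c4 LD3_c4)) = (LP (LK LD1_c4 LD2_c1 LD3_c43)) :=
  Lre_d IH (LK LD1_c8 LD2_c4 LD3_c4) (LK LD1_c4 LD2_c1 LD3_c43) Lrfl Lrfl
theorem f242837 : Led Lsl_gf (LP (LK LD1_c2 LD2_c33 LD3_c23)) = (LP (LK LD1_c1 LD2_c57 LD3_c33)) :=
  Lgr Lrot154 (Lpr_dt (f196105 IH) (Lpe (f242281 IH) (Lpr_df (f242831 IH) (Lpe (f242835 IH) (Lpe (f195649 IH) (Lpe (f240577 IH) (Lpr_ct (K1.f46691 IH) (Lpr_gt (f182460 IH) (Lpr_dt (f182459 IH) (Lpn (LP (LK LD1_c1 LD2_c57 LD3_c33))))))))))))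
theorem f181139 : Led Lsl_ct (LP (LK LD1_c2 LD2_c33 LD3_c23)) = (LP (LK LD1_c1 LD2_c13 LD3_c38)) :=
  Lre_c IH (LK LD1_c2 LD2_c33 LD3_c23) (LK LD1_c1 LD2_c13 LD3_c38) Lrfl Lrfl
theorem f227325 : Led Lsl_gf (LP (LK LD1_c4 LD2_c13 LD3_c35)) = (LP (LK LD1_c4 LD2_c1 LD3_c17)) :=
  Lgr Lrot154 (Lpr_dt (K1.f27856 IH) (Lpr_ct (K1.f27855 IH) (Lpe (K1.f27863 IH) (Lpr_gf (K10.f60715 IH) (Lpe (K10.f56329 IH) (Lpe (K12.f60717 IH) (Lpr_ct (K12.f227317 IH) (Lpr_gt (K12.f193101 IH) (Lpr_dt (f182465 IH) (Lpn (LP (LK LD1_c4 LD2_c1 LD3_c17))))))))))))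
theorem f190754 : Led Lsl_gt (LP (LK LD1_c4 LD2_c2 LD3_c30)) = (LP (LK LD1_c8 LD2_c3 LD3_c61)) :=
  Lgr Lrot49 (Lpe (K1.f46606 IH) (Lpr_gf (K10.f190749 IH) (Lpe (K10.f180783 IH) (Lpr_gt (K10.f27772 IH) (Lpr_dt (K0.f33553 IH) (Lpr_gt (K10.f33560 IH) (Lpr_dt (K10.f33561 IH) (Lpe (f182045 IH) (Lpe (f190753 IH) (Lpn (LP (LK LD1_c8 LD2_c3 LD3_c61))))))))))))
theorem f242102 : Led Lsl_ct (LP (LK LD1_c8 LD2_c3 LD3_c61)) = (LP (LK LD1_c4 LD2_c2 LD3_c22)) :=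
  Lgr Lrot59 (Lpr_cf (f242098 IH) (Lpn (LP (LK LD1_c4 LD2_c2 LD3_c22))))
theorem f242840 : Led Lsl_df (LP (LK LD1_c1 LD2_c59 LD3_c31)) = (LP (LK LD1_c4 LD2_c2 LD3_c22)) :=
  Lgr Lrot162 (Lpe (K10.f80935 IH) (Lpr_gf (K10.f194129 IH) (Lpe (f181139 IH) (Lpr_gf (f242837 IH) (Lpr_dt (f182465 IH) (Lpe (f227325 IH) (Lpe (K1.f46583 IH) (Lpr_gt (f190754 IH) (Lpr_ct (f242102 IH) (Lpn (LP (LK LD1_c4 LD2_c2 LD3_c22))))))))))))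
theorem f177619 : Led Lsl_dt (LP (LK LD1_c5 LD2_c2 LD3_c17)) = (LP (LK LD1_c9 LD2_c55 LD3_c23)) :=
  Lre_d IH (LK LD1_c5 LD2_c2 LD3_c17) (LK LD1_c9 LD2_c55 LD3_c23) Lrfl Lrfl
theorem f242847 : Led Lsl_gf (LP (LK LD1_c5 LD2_c2 LD3_c17)) = (LP (LK LD1_c4 LD2_c1 LD3_c60)) :=
  Lgr Lrot143 (Lpr_dt (f177619 IH) (Lpe (f242825 IH) (Lpr_df (f240641 IH) (Lpe (f240597 IH) (Lpr_df (f242840 IH) (Lpe (f242110 IH) (Lpe (K0.f33682 IH) (Lpr_gt (K12.f33698 IH) (Lpe (K12.f229099 IH) (Lpn (LP (LK LD1_c4 LD2_c1 LD3_c60))))))))))))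
theorem f243028 : Led Lsl_gt (LP (LK LD1_c2 LD2_c8 LD3_c18)) = (LP (LK LD1_c1 LD2_c1 LD3_c18)) :=
  Lre_g IH (LK LD1_c2 LD2_c8 LD3_c18) (LK LD1_c1 LD2_c1 LD3_c18) Lrfl Lrfl
theorem f243031 : Led Lsl_df (LP (LK LD1_c4 LD2_c1 LD3_c59)) = (LP (LK LD1_c2 LD2_c8 LD3_c18)) :=
  Lgr Lrot155 (Lpr_gt (f193631 IH) (Lpr_ct (f229126 IH) (Lpe (f242847 IH) (Lpr_ct (f169628 IH) (Lpr_dt (f177366 IH) (Lpr_cf (f242593 IH) (Lpe (f175053 IH) (Lpr_cf (f243020 IH) (Lpe (f243028 IH) (Lpn (LP (LK LD1_c2 LD2_c8 LD3_c18))))))))))))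
theorem f229716 : Led Lsl_et (LP (LK LD1_c0 LD2_c55 LD3_c50)) = (LP (LK LD1_c1 LD2_c57 LD3_c56)) :=
  Lre_e IH (LK LD1_c0 LD2_c55 LD3_c50) (LK LD1_c1 LD2_c57 LD3_c56) Lrfl Lrfl
theorem f243035 : Led Lsl_ef (LP (LK LD1_c1 LD2_c9 LD3_c7)) = (LP (LK LD1_c2 LD2_c8 LD3_c18)) :=
  Lgr Lrot17 (Lpr_gf (f238503 IH) (Lpe (f28830 IH) (Lpr_dt (K12.f28903 IH) (Lpe (f238506 IH) (Lpe (f216333 IH) (Lpe (f236473 IH) (Lpe (f229716 IH) (Lpr_dt (K12.f193632 IH) (Lpe (f193631 IH) (Lpr_df (f243031 IH) (Lpn (LP (LK LD1_c2 LD2_c8 LD3_c18)))))))))))))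
theorem f243039 : Led Lsl_et (LP (LK LD1_c1 LD2_c9 LD3_c7)) = (LP (LK LD1_c2 LD2_c8 LD3_c18)) :=
  Lgr Lrot87 (Lpr_ef (f243035 IH) (Lpn (LP (LK LD1_c2 LD2_c8 LD3_c18))))
theorem f243045 : Led Lsl_df (LP (LK LD1_c1 LD2_c58 LD3_c13)) = (LP (LK LD1_c1 LD2_c1 LD3_c18)) :=
  Lgr Lrot135 (Lpr_gt (K10.f28173 IH) (Lpe (K1.f28172 IH) (Lpr_et (K1.f28171 IH) (Lpr_gt (K0.f28167 IH) (Lpe (K1.f28134 IH) (Lpr_dt (K10.f28151 IH) (Lpr_gt (K12.f28175 IH) (Lpe (f223599 IH) (Lpr_et (f243039 IH) (Lpr_gt (f243028 IH) (Lpn (LP (LK LD1_c1 LD2_c1 LD3_c18)))))))))))))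
theorem f243047 : Led Lsl_et (LP (LK LD1_c1 LD2_c58 LD3_c13)) = (LP (LK LD1_c4 LD2_c2 LD3_c28)) :=
  Lre_e IH (LK LD1_c1 LD2_c58 LD3_c13) (LK LD1_c4 LD2_c2 LD3_c28) Lrfl Lrfl
theorem f243022 : Led Lsl_et (LP (LK LD1_c0 LD2_c27 LD3_c61)) = (LP (LK LD1_c1 LD2_c1 LD3_c18)) :=
  Lre_e IH (LK LD1_c0 LD2_c27 LD3_c61) (LK LD1_c1 LD2_c1 LD3_c18) Lrfl Lrfl
theorem f227963 : Led Lsl_et (LP (LK LD1_c2 LD2_c8 LD3_c17)) = (LP (LK LD1_c1 LD2_c1 LD3_c17)) :=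
  Lre_e IH (LK LD1_c2 LD2_c8 LD3_c17) (LK LD1_c1 LD2_c1 LD3_c17) Lrfl Lrfl
theorem f243048 : Led Lsl_dt (LP (LK LD1_c4 LD2_c2 LD3_c28)) = (LP (LK LD1_c2 LD2_c8 LD3_c17)) :=
  Lgr Lrot77 (Lpe (f243047 IH) (Lpr_df (f243045 IH) (Lpe (f243022 IH) (Lpe (f182348 IH) (Lpe (f227963 IH) (Lpn (LP (LK LD1_c2 LD2_c8 LD3_c17))))))))
theorem f197058 : Led Lsl_et (LP (LK LD1_c2 LD2_c5 LD3_c15)) = (LP (LK LD1_c4 LD2_c15 LD3_c48)) :=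
  Lre_e IH (LK LD1_c2 LD2_c5 LD3_c15) (LK LD1_c4 LD2_c15 LD3_c48) Lrfl Lrfl
theorem f46991 : Led Lsl_et (LP (LK LD1_c4 LD2_c2 LD3_c28)) = (LP (LK LD1_c1 LD2_c58 LD3_c13)) :=
  Lre_e IH (LK LD1_c4 LD2_c2 LD3_c28) (LK LD1_c1 LD2_c58 LD3_c13) Lrfl Lrfl
theorem f197059 : Led Lsl_bt (LP (LK LD1_c4 LD2_c15 LD3_c48)) = (LP (LK LD1_c4 LD2_c2 LD3_c28)) :=
  Lgr Lrot119 (Lpe (f197058 IH) (Lpr_bf (K10.f197040 IH) (Lpe (f46991 IH) (Lpn (LP (LK LD1_c4 LD2_c2 LD3_c28))))))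
theorem f243051 : Led Lsl_dt (LP (LK LD1_c2 LD2_c5 LD3_c13)) = (LP (LK LD1_c4 LD2_c15 LD3_c48)) :=
  Lre_d IH (LK LD1_c2 LD2_c5 LD3_c13) (LK LD1_c4 LD2_c15 LD3_c48) Lrfl Lrfl
theorem f243052 : Led Lsl_bf (LP (LK LD1_c2 LD2_c5 LD3_c13)) = (LP (LK LD1_c2 LD2_c8 LD3_c17)) :=
  Lgr Lrot93 (Lpr_dt (f243051 IH) (Lpr_bt (f197059 IH) (Lpr_dt (f243048 IH) (Lpn (LP (LK LD1_c2 LD2_c8 LD3_c17))))))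
theorem f243114 : Led Lsl_ft (LP (LK LD1_c2 LD2_c5 LD3_c13)) = (LP (LK LD1_c4 LD2_c15 LD3_c49)) :=
  Lre_f IH (LK LD1_c2 LD2_c5 LD3_c13) (LK LD1_c4 LD2_c15 LD3_c49) Lrfl Lrfl
theorem f243099 : Led Lsl_ft (LP (LK LD1_c4 LD2_c21 LD3_c37)) = (LP (LK LD1_c2 LD2_c8 LD3_c17)) :=
  Lre_f IH (LK LD1_c4 LD2_c21 LD3_c37) (LK LD1_c2 LD2_c8 LD3_c17) Lrfl Lrfl
theorem f243115 : Led Lsl_bt (LP (LK LD1_c4 LD2_c15 LD3_c49)) = (LP (LK LD1_c4 LD2_c21 LD3_c37)) :=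
  Lgr Lrot35 (Lpe (f243114 IH) (Lpr_bf (f243052 IH) (Lpe (f243099 IH) (Lpn (LP (LK LD1_c4 LD2_c21 LD3_c37))))))
theorem f243119 : Led Lsl_ct (LP (LK LD1_c8 LD2_c30 LD3_c37)) = (LP (LK LD1_c4 LD2_c15 LD3_c49)) :=
  Lre_c IH (LK LD1_c8 LD2_c30 LD3_c37) (LK LD1_c4 LD2_c15 LD3_c49) Lrfl Lrfl
theorem f243120 : Led Lsl_bt (LP (LK LD1_c15 LD2_c58 LD3_c47)) = (LP (LK LD1_c8 LD2_c30 LD3_c37)) :=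
  Lre_b IH (LK LD1_c15 LD2_c58 LD3_c47) (LK LD1_c8 LD2_c30 LD3_c37) Lrfl Lrfl
theorem f243100 : Led Lsl_ct (LP (LK LD1_c4 LD2_c21 LD3_c37)) = (LP (LK LD1_c8 LD2_c40 LD3_c46)) :=
  Lre_c IH (LK LD1_c4 LD2_c21 LD3_c37) (LK LD1_c8 LD2_c40 LD3_c46) Lrfl Lrfl
theorem f243102 : Led Lsl_bt (LP (LK LD1_c8 LD2_c40 LD3_c46)) = (LP (LK LD1_c16 LD2_c15 LD3_c15)) :=
  Lre_b IH (LK LD1_c8 LD2_c40 LD3_c46) (LK LD1_c16 LD2_c15 LD3_c15) Lrfl Lrfl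
theorem f243121 : Led Lsl_cf (LP (LK LD1_c15 LD2_c58 LD3_c47)) = (LP (LK LD1_c16 LD2_c15 LD3_c15)) :=
  Lgr Lrot97 (Lpr_bt (f243120 IH) (Lpr_ct (f243119 IH) (Lpr_bt (f243115 IH) (Lpr_ct (f243100 IH) (Lpr_bt (f243102 IH) (Lpn (LP (LK LD1_c16 LD2_c15 LD3_c15))))))))
theorem f243141 : Led Lsl_ct (LP (LK LD1_c15 LD2_c58 LD3_c47)) = (LP (LK LD1_c16 LD2_c15 LD3_c15)) :=
  Lgr Lrot59 (Lpr_cf (f243121 IH) (Lpn (LP (LK LD1_c16 LD2_c15 LD3_c15))))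
theorem f243159 : Led Lsl_ft (LP (LK LD1_c8 LD2_c30 LD3_c30)) = (LP (LK LD1_c15 LD2_c58 LD3_c47)) :=
  Lre_f IH (LK LD1_c8 LD2_c30 LD3_c30) (LK LD1_c15 LD2_c58 LD3_c47) Lrfl Lrfl
theorem f243160 : Led Lsl_ft (LP (LK LD1_c16 LD2_c15 LD3_c15)) = (LP (LK LD1_c8 LD2_c40 LD3_c42)) :=
  Lre_f IH (LK LD1_c16 LD2_c15 LD3_c15) (LK LD1_c8 LD2_c40 LD3_c42) Lrfl Lrfl
theorem f243161 : Led Lsl_cf (LP (LK LD1_c8 LD2_c30 LD3_c30)) = (LP (LK LD1_c8 LD2_c40 LD3_c42)) :=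
  Lgr Lrot108 (Lpr_ft (f243159 IH) (Lpr_ct (f243141 IH) (Lpr_ft (f243160 IH) (Lpn (LP (LK LD1_c8 LD2_c40 LD3_c42))))))
theorem f243171 : Led Lsl_et (LP (LK LD1_c8 LD2_c30 LD3_c30)) = (LP (LK LD1_c4 LD2_c15 LD3_c43)) :=
  Lre_e IH (LK LD1_c8 LD2_c30 LD3_c30) (LK LD1_c4 LD2_c15 LD3_c43) Lrfl Lrfl
theorem f243172 : Led Lsl_et (LP (LK LD1_c4 LD2_c21 LD3_c32)) = (LP (LK LD1_c8 LD2_c40 LD3_c42)) :=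
  Lre_e IH (LK LD1_c4 LD2_c21 LD3_c32) (LK LD1_c8 LD2_c40 LD3_c42) Lrfl Lrfl
theorem f243173 : Led Lsl_ct (LP (LK LD1_c4 LD2_c15 LD3_c43)) = (LP (LK LD1_c4 LD2_c21 LD3_c32)) :=
  Lgr Lrot15 (Lpe (f243171 IH) (Lpr_cf (f243161 IH) (Lpe (f243172 IH) (Lpn (LP (LK LD1_c4 LD2_c21 LD3_c32))))))
theorem f8012 : Led Lsl_bt (LP (LK LD1_c2 LD2_c5 LD3_c12)) = (LP (LK LD1_c4 LD2_c15 LD3_c43)) :=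
  Lre_b IH (LK LD1_c2 LD2_c5 LD3_c12) (LK LD1_c4 LD2_c15 LD3_c43) Lrfl Lrfl
theorem f8011 : Led Lsl_ct (LP (LK LD1_c0 LD2_c59 LD3_c40)) = (LP (LK LD1_c2 LD2_c5 LD3_c12)) :=
  Lre_c IH (LK LD1_c0 LD2_c59 LD3_c40) (LK LD1_c2 LD2_c5 LD3_c12) Lrfl Lrfl
theorem f243191 : Led Lsl_bt (LP (LK LD1_c4 LD2_c21 LD3_c32)) = (LP (LK LD1_c2 LD2_c8 LD3_c16)) :=
  Lre_b IH (LK LD1_c4 LD2_c21 LD3_c32) (LK LD1_c2 LD2_c8 LD3_c16) Lrfl Lrfl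
theorem f243192 : Led Lsl_bf (LP (LK LD1_c0 LD2_c59 LD3_c40)) = (LP (LK LD1_c1 LD2_c1 LD3_c17)) :=
  Lgr Lrot90 (Lpr_ct (f8011 IH) (Lpr_bt (f8012 IH) (Lpr_ct (f243173 IH) (Lpr_bt (f243191 IH) (Lpr_ct (f182344 IH) (Lpn (LP (LK LD1_c1 LD2_c1 LD3_c17))))))))
theorem f839 : Led Lsl_gt (LP (LK LD1_c2 LD2_c5 LD3_c11)) = (LP (LK LD1_c0 LD2_c59 LD3_c40)) :=
  Lre_g IH (LK LD1_c2 LD2_c5 LD3_c11) (LK LD1_c0 LD2_c59 LD3_c40) Lrfl Lrfl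
theorem f216695 : Led Lsl_ct (LP (LK LD1_c1 LD2_c1 LD3_c17)) = (LP (LK LD1_c2 LD2_c8 LD3_c16)) :=
  Lre_c IH (LK LD1_c1 LD2_c1 LD3_c17) (LK LD1_c2 LD2_c8 LD3_c16) Lrfl Lrfl
theorem f238917 : Led Lsl_gf (LP (LK LD1_c2 LD2_c45 LD3_c39)) = (LP (LK LD1_c2 LD2_c8 LD3_c16)) :=
  Lgr Lrot144 (Lpr_dt (f196964 IH) (Lpr_gt (f238913 IH) (Lpr_dt (f30694 IH) (Lpe (f229270 IH) (Lpr_df (K12.f227955 IH) (Lpe (K12.f181212 IH) (Lpe (f170307 IH) (Lpr_gf (f180222 IH) (Lpe (f182344 IH) (Lpn (LP (LK LD1_c2 LD2_c8 LD3_c16))))))))))))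
theorem f179539 : Led Lsl_bt (LP (LK LD1_c1 LD2_c19 LD3_c11)) = (LP (LK LD1_c0 LD2_c36 LD3_c36)) :=
  Lre_b IH (LK LD1_c1 LD2_c19 LD3_c11) (LK LD1_c0 LD2_c36 LD3_c36) Lrfl Lrfl
theorem f243261 : Led Lsl_bf (LP (LK LD1_c2 LD2_c5 LD3_c11)) = (LP (LK LD1_c0 LD2_c59 LD3_c55)) :=
  Lgr Lrot156 (Lpr_gt (f839 IH) (Lpr_bf (f243192 IH) (Lpr_ct (f216695 IH) (Lpe (f238917 IH) (Lpe (K12.f179542 IH) (Lpr_bt (f179539 IH) (Lpe (K9.f179529 IH) (Lpr_ct (K9.f179533 IH) (Lpr_gt (K9.f179558 IH) (Lpe (K9.f53387 IH) (Lpn (LP (LK LD1_c0 LD2_c59 LD3_c55)))))))))))))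
theorem f243263 : Led Lsl_bt (LP (LK LD1_c2 LD2_c5 LD3_c11)) = (LP (LK LD1_c0 LD2_c59 LD3_c55)) :=
  Lgr Lrot127 (Lpr_bf (f243261 IH) (Lpn (LP (LK LD1_c0 LD2_c59 LD3_c55))))
theorem f243265 : Led Lsl_ct (LP (LK LD1_c2 LD2_c5 LD3_c11)) = (LP (LK LD1_c4 LD2_c15 LD3_c39)) :=
  Lre_c IH (LK LD1_c2 LD2_c5 LD3_c11) (LK LD1_c4 LD2_c15 LD3_c39) Lrfl Lrfl
theorem f184367 : Led Lsl_dt (LP (LK LD1_c4 LD2_c21 LD3_c18)) = (LP (LK LD1_c8 LD2_c40 LD3_c15)) :=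
  Lre_d IH (LK LD1_c4 LD2_c21 LD3_c18) (LK LD1_c8 LD2_c40 LD3_c15) Lrfl Lrfl
theorem f199673 : Led Lsl_gt (LP (LK LD1_c4 LD2_c12 LD3_c35)) = (LP (LK LD1_c4 LD2_c21 LD3_c18)) :=
  Lgr Lrot150 (Lpe (f166520 IH) (Lpr_gf (f199671 IH) (Lpe (f1734 IH) (Lpr_gt (K0.f1621 IH) (Lpe (K0.f1711 IH) (Lpr_gt (K12.f286 IH) (Lpr_ct (f184242 IH) (Lpe (f29134 IH) (Lpe (f184373 IH) (Lpn (LP (LK LD1_c4 LD2_c21 LD3_c18))))))))))))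
theorem f233322 : Led Lsl_gf (LP (LK LD1_c2 LD2_c23 LD3_c14)) = (LP (LK LD1_c2 LD2_c3 LD3_c30)) :=
  Lgr Lrot144 (Lpr_dt (f2074 IH) (Lpr_gt (K12.f2073 IH) (Lpr_dt (K0.f1611 IH) (Lpe (K0.f1730 IH) (Lpe (K0.f1729 IH) (Lpr_gf (f233316 IH) (Lpe (f184367 IH) (Lpe (f199673 IH) (Lpe (f166520 IH) (Lpn (LP (LK LD1_c2 LD2_c3 LD3_c30))))))))))))
theorem f167369 : Led Lsl_bt (LP (LK LD1_c4 LD2_c14 LD3_c4)) = (LP (LK LD1_c2 LD2_c23 LD3_c14)) :=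
  Lgr Lrot127 (Lpr_bf (f167322 IH) (Lpn (LP (LK LD1_c2 LD2_c23 LD3_c14))))
theorem f167371 : Led Lsl_ct (LP (LK LD1_c4 LD2_c14 LD3_c4)) = (LP (LK LD1_c8 LD2_c26 LD3_c42)) :=
  Lre_c IH (LK LD1_c4 LD2_c14 LD3_c4) (LK LD1_c8 LD2_c26 LD3_c42) Lrfl Lrfl
theorem f243500 : Led Lsl_gf (LP (LK LD1_c4 LD2_c15 LD3_c39)) = (LP (LK LD1_c8 LD2_c26 LD3_c42)) :=
  Lgr Lrot126 (Lpe (f243265 IH) (Lpr_bt (f243263 IH) (Lpr_gt (K9.f53385 IH) (Lpr_ct (K9.f167761 IH) (Lpe (K9.f178323 IH) (Lpe (K9.f166472 IH) (Lpr_bt (f166496 IH) (Lpe (f233322 IH) (Lpe (f167369 IH) (Lpr_ct (f167371 IH) (Lpn (LP (LK LD1_c8 LD2_c26 LD3_c42)))))))))))))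
theorem f243282 : Led Lsl_ct (LP (LK LD1_c4 LD2_c15 LD3_c39)) = (LP (LK LD1_c2 LD2_c5 LD3_c11)) :=
  Lre_c IH (LK LD1_c4 LD2_c15 LD3_c39) (LK LD1_c2 LD2_c5 LD3_c11) Lrfl Lrfl
theorem f683 : Led Lsl_dt (LP (LK LD1_c2 LD2_c5 LD3_c12)) = (LP (LK LD1_c4 LD2_c15 LD3_c44)) :=
  Lre_d IH (LK LD1_c2 LD2_c5 LD3_c12) (LK LD1_c4 LD2_c15 LD3_c44) Lrfl Lrfl
theorem f179601 : Led Lsl_bt (LP (LK LD1_c0 LD2_c27 LD3_c24)) = (LP (LK LD1_c1 LD2_c0 LD3_c18)) :=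
  Lre_b IH (LK LD1_c0 LD2_c27 LD3_c24) (LK LD1_c1 LD2_c0 LD3_c18) Lrfl Lrfl
theorem f171505 : Led Lsl_gt (LP (LK LD1_c1 LD2_c0 LD3_c18)) = (LP (LK LD1_c2 LD2_c6 LD3_c39)) :=
  Lre_g IH (LK LD1_c1 LD2_c0 LD3_c18) (LK LD1_c2 LD2_c6 LD3_c39) Lrfl Lrfl
theorem f179602 : Led Lsl_ct (LP (LK LD1_c2 LD2_c6 LD3_c39)) = (LP (LK LD1_c4 LD2_c18 LD3_c43)) :=
  Lre_c IH (LK LD1_c2 LD2_c6 LD3_c39) (LK LD1_c4 LD2_c18 LD3_c43) Lrfl Lrfl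
theorem f179603 : Led Lsl_gt (LP (LK LD1_c4 LD2_c18 LD3_c43)) = (LP (LK LD1_c4 LD2_c15 LD3_c54)) :=
  Lre_g IH (LK LD1_c4 LD2_c18 LD3_c43) (LK LD1_c4 LD2_c15 LD3_c54) Lrfl Lrfl
theorem f179604 : Led Lsl_ct (LP (LK LD1_c2 LD2_c5 LD3_c18)) = (LP (LK LD1_c4 LD2_c15 LD3_c54)) :=
  Lre_c IH (LK LD1_c2 LD2_c5 LD3_c18) (LK LD1_c4 LD2_c15 LD3_c54) Lrfl Lrfl
theorem f179605 : Led Lsl_bt (LP (LK LD1_c2 LD2_c5 LD3_c18)) = (LP (LK LD1_c0 LD2_c59 LD3_c44)) :=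
  Lre_b IH (LK LD1_c2 LD2_c5 LD3_c18) (LK LD1_c0 LD2_c59 LD3_c44) Lrfl Lrfl
theorem f243274 : Led Lsl_gf (LP (LK LD1_c2 LD2_c5 LD3_c11)) = (LP (LK LD1_c0 LD2_c59 LD3_c44)) :=
  Lgr Lrot124 (Lpr_bf (f243261 IH) (Lpr_ct (K9.f53387 IH) (Lpe (K9.f179581 IH) (Lpe (f171192 IH) (Lpr_bt (f179601 IH) (Lpr_gt (f171505 IH) (Lpr_ct (f179602 IH) (Lpr_gt (f179603 IH) (Lpe (f179604 IH) (Lpr_bt (f179605 IH) (Lpn (LP (LK LD1_c0 LD2_c59 LD3_c44)))))))))))))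
theorem f53429 : Led Lsl_dt (LP (LK LD1_c0 LD2_c27 LD3_c10)) = (LP (LK LD1_c0 LD2_c59 LD3_c44)) :=
  Lre_d IH (LK LD1_c0 LD2_c27 LD3_c10) (LK LD1_c0 LD2_c59 LD3_c44) Lrfl Lrfl
theorem f188595 : Led Lsl_dt (LP (LK LD1_c4 LD2_c13 LD3_c58)) = (LP (LK LD1_c2 LD2_c4 LD3_c21)) :=
  Lre_d IH (LK LD1_c4 LD2_c13 LD3_c58) (LK LD1_c2 LD2_c4 LD3_c21) Lrfl Lrfl
theorem f188637 : Led Lsl_ct (LP (LK LD1_c8 LD2_c26 LD3_c32)) = (LP (LK LD1_c4 LD2_c13 LD3_c58)) :=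
  Lre_c IH (LK LD1_c8 LD2_c26 LD3_c32) (LK LD1_c4 LD2_c13 LD3_c58) Lrfl Lrfl
theorem f243277 : Led Lsl_gt (LP (LK LD1_c4 LD2_c15 LD3_c39)) = (LP (LK LD1_c8 LD2_c26 LD3_c32)) :=
  Lgr Lrot150 (Lpe (f243265 IH) (Lpr_gf (f243274 IH) (Lpe (f53429 IH) (Lpr_gt (K12.f755 IH) (Lpr_ct (K10.f167315 IH) (Lpr_gt (K10.f54512 IH) (Lpr_ct (K11.f188571 IH) (Lpe (f188595 IH) (Lpe (f188637 IH) (Lpn (LP (LK LD1_c8 LD2_c26 LD3_c32))))))))))))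
theorem f635 : Led Lsl_dt (LP (LK LD1_c0 LD2_c59 LD3_c40)) = (LP (LK LD1_c0 LD2_c27 LD3_c9)) :=
  Lre_d IH (LK LD1_c0 LD2_c59 LD3_c40) (LK LD1_c0 LD2_c27 LD3_c9) Lrfl Lrfl
theorem f875 : Led Lsl_gt (LP (LK LD1_c4 LD2_c16 LD3_c33)) = (LP (LK LD1_c8 LD2_c27 LD3_c11)) :=
  Lre_g IH (LK LD1_c4 LD2_c16 LD3_c33) (LK LD1_c8 LD2_c27 LD3_c11) Lrfl Lrfl
theorem f243284 : Led Lsl_df (LP (LK LD1_c4 LD2_c16 LD3_c33)) = (LP (LK LD1_c8 LD2_c26 LD3_c32)) :=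
  Lgr Lrot153 (Lpr_gt (f875 IH) (Lpr_dt (K12.f53412 IH) (Lpe (K9.f51477 IH) (Lpe (K12.f51465 IH) (Lpe (K12.f834 IH) (Lpe (f635 IH) (Lpe (f839 IH) (Lpe (f243282 IH) (Lpr_gt (f243277 IH) (Lpn (LP (LK LD1_c8 LD2_c26 LD3_c32))))))))))))
theorem f243306 : Led Lsl_dt (LP (LK LD1_c4 LD2_c16 LD3_c33)) = (LP (LK LD1_c8 LD2_c26 LD3_c32)) :=
  Lgr Lrot42 (Lpr_df (f243284 IH) (Lpn (LP (LK LD1_c8 LD2_c26 LD3_c32))))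
theorem f27520 : Led Lsl_dt (LP (LK LD1_c0 LD2_c59 LD3_c13)) = (LP (LK LD1_c2 LD2_c4 LD3_c26)) :=
  Lre_d IH (LK LD1_c0 LD2_c59 LD3_c13) (LK LD1_c2 LD2_c4 LD3_c26) Lrfl Lrfl
theorem f188606 : Led Lsl_ct (LP (LK LD1_c4 LD2_c14 LD3_c6)) = (LP (LK LD1_c2 LD2_c4 LD3_c26)) :=
  Lre_c IH (LK LD1_c4 LD2_c14 LD3_c6) (LK LD1_c2 LD2_c4 LD3_c26) Lrfl Lrfl
theorem f188607 : Led Lsl_dt (LP (LK LD1_c8 LD2_c26 LD3_c45)) = (LP (LK LD1_c4 LD2_c14 LD3_c6)) :=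
  Lre_d IH (LK LD1_c8 LD2_c26 LD3_c45) (LK LD1_c4 LD2_c14 LD3_c6) Lrfl Lrfl
theorem f188608 : Led Lsl_gt (LP (LK LD1_c8 LD2_c56 LD3_c24)) = (LP (LK LD1_c8 LD2_c26 LD3_c45)) :=
  Lgr Lrot49 (Lpe (K12.f188605 IH) (Lpr_gf (K12.f188599 IH) (Lpe (K12.f188598 IH) (Lpr_gt (K12.f27503 IH) (Lpr_dt (K12.f27495 IH) (Lpr_gt (K12.f27518 IH) (Lpr_dt (f27520 IH) (Lpe (f188606 IH) (Lpe (f188607 IH) (Lpn (LP (LK LD1_c8 LD2_c26 LD3_c45))))))))))))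
theorem f188942 : Led Lsl_dt (LP (LK LD1_c4 LD2_c14 LD3_c16)) = (LP (LK LD1_c2 LD2_c4 LD3_c30)) :=
  Lre_d IH (LK LD1_c4 LD2_c14 LD3_c16) (LK LD1_c2 LD2_c4 LD3_c30) Lrfl Lrfl
theorem f188943 : Led Lsl_ct (LP (LK LD1_c8 LD2_c27 LD3_c11)) = (LP (LK LD1_c4 LD2_c14 LD3_c16)) :=
  Lre_c IH (LK LD1_c8 LD2_c27 LD3_c11) (LK LD1_c4 LD2_c14 LD3_c16) Lrfl Lrfl
theorem f188944 : Led Lsl_ct (LP (LK LD1_c8 LD2_c26 LD3_c45)) = (LP (LK LD1_c4 LD2_c16 LD3_c33)) :=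
  Lgr Lrot152 (Lpe (f188608 IH) (Lpe (K12.f188605 IH) (Lpr_gt (K12.f188939 IH) (Lpr_ct (K12.f188899 IH) (Lpr_gt (K12.f44971 IH) (Lpr_ct (K12.f188941 IH) (Lpe (f188942 IH) (Lpe (f188943 IH) (Lpe (f875 IH) (Lpn (LP (LK LD1_c4 LD2_c16 LD3_c33))))))))))))
theorem f188618 : Led Lsl_dt (LP (LK LD1_c4 LD2_c14 LD3_c6)) = (LP (LK LD1_c8 LD2_c26 LD3_c45)) :=
  Lre_d IH (LK LD1_c4 LD2_c14 LD3_c6) (LK LD1_c8 LD2_c26 LD3_c45) Lrfl Lrfl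
theorem f188611 : Led Lsl_ct (LP (LK LD1_c2 LD2_c4 LD3_c26)) = (LP (LK LD1_c4 LD2_c14 LD3_c6)) :=
  Lre_c IH (LK LD1_c2 LD2_c4 LD3_c26) (LK LD1_c4 LD2_c14 LD3_c6) Lrfl Lrfl
theorem f167413 : Led Lsl_ct (LP (LK LD1_c8 LD2_c26 LD3_c42)) = (LP (LK LD1_c4 LD2_c14 LD3_c4)) :=
  Lre_c IH (LK LD1_c8 LD2_c26 LD3_c42) (LK LD1_c4 LD2_c14 LD3_c4) Lrfl Lrfl
theorem f188910 : Led Lsl_dt (LP (LK LD1_c4 LD2_c13 LD3_c61)) = (LP (LK LD1_c8 LD2_c26 LD3_c36)) :=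
  Lre_d IH (LK LD1_c4 LD2_c13 LD3_c61) (LK LD1_c8 LD2_c26 LD3_c36) Lrfl Lrfl
theorem f243311 : Led Lsl_df (LP (LK LD1_c8 LD2_c26 LD3_c42)) = (LP (LK LD1_c4 LD2_c16 LD3_c34)) :=
  Lgr Lrot43 (Lpr_ct (f167413 IH) (Lpr_dt (f167321 IH) (Lpr_ct (K10.f51454 IH) (Lpr_dt (f27520 IH) (Lpr_ct (f188611 IH) (Lpr_dt (f188618 IH) (Lpr_ct (f188944 IH) (Lpr_dt (f243306 IH) (Lpr_ct (f188637 IH) (Lpr_dt (f188595 IH) (Lpr_ct (K12.f51450 IH) (Lpr_dt (K10.f54513 IH) (Lpr_ct (K12.f188568 IH) (Lpr_dt (f188910 IH) (Lpr_ct (K12.f221070 IH) (Lpn (LP (LK LD1_c4 LD2_c16 LD3_c34))))))))))))))))))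
theorem f52087 : Led Lsl_gt (LP (LK LD1_c4 LD2_c16 LD3_c35)) = (LP (LK LD1_c8 LD2_c27 LD3_c10)) :=
  Lre_g IH (LK LD1_c4 LD2_c16 LD3_c35) (LK LD1_c8 LD2_c27 LD3_c10) Lrfl Lrfl
theorem f243502 : Led Lsl_cf (LP (LK LD1_c4 LD2_c15 LD3_c44)) = (LP (LK LD1_c8 LD2_c27 LD3_c10)) :=
  Lgr Lrot99 (Lpe (f683 IH) (Lpe (f8011 IH) (Lpe (f839 IH) (Lpe (f243282 IH) (Lpr_gf (f243500 IH) (Lpr_df (f243311 IH) (Lpr_gt (K12.f1021 IH) (Lpr_ct (K12.f221069 IH) (Lpr_gt (f52087 IH) (Lpn (LP (LK LD1_c8 LD2_c27 LD3_c10))))))))))))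
theorem f243520 : Led Lsl_ct (LP (LK LD1_c4 LD2_c15 LD3_c44)) = (LP (LK LD1_c8 LD2_c27 LD3_c10)) :=
  Lgr Lrot59 (Lpr_cf (f243502 IH) (Lpn (LP (LK LD1_c8 LD2_c27 LD3_c10))))
theorem f684 : Led Lsl_gt (LP (LK LD1_c8 LD2_c30 LD3_c32)) = (LP (LK LD1_c4 LD2_c15 LD3_c44)) :=
  Lre_g IH (LK LD1_c8 LD2_c30 LD3_c32) (LK LD1_c4 LD2_c15 LD3_c44) Lrfl Lrfl
theorem f195806 : Led Lsl_gt (LP (LK LD1_c8 LD2_c27 LD3_c10)) = (LP (LK LD1_c4 LD2_c14 LD3_c16)) :=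
  Lre_g IH (LK LD1_c8 LD2_c27 LD3_c10) (LK LD1_c4 LD2_c14 LD3_c16) Lrfl Lrfl
theorem f220550 : Led Lsl_ct (LP (LK LD1_c2 LD2_c5 LD3_c26)) = (LP (LK LD1_c0 LD2_c59 LD3_c46)) :=
  Lre_c IH (LK LD1_c2 LD2_c5 LD3_c26) (LK LD1_c0 LD2_c59 LD3_c46) Lrfl Lrfl
theorem f220557 : Led Lsl_gt (LP (LK LD1_c4 LD2_c16 LD3_c4)) = (LP (LK LD1_c2 LD2_c5 LD3_c26)) :=
  Lre_g IH (LK LD1_c4 LD2_c16 LD3_c4) (LK LD1_c2 LD2_c5 LD3_c26) Lrfl Lrfl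
theorem f243532 : Led Lsl_df (LP (LK LD1_c8 LD2_c30 LD3_c32)) = (LP (LK LD1_c4 LD2_c16 LD3_c4)) :=
  Lgr Lrot155 (Lpr_gt (f684 IH) (Lpr_ct (f243520 IH) (Lpr_gt (f195806 IH) (Lpr_ct (K12.f188961 IH) (Lpr_dt (K12.f53412 IH) (Lpe (K9.f51477 IH) (Lpe (K12.f51467 IH) (Lpe (f220550 IH) (Lpe (f220557 IH) (Lpn (LP (LK LD1_c4 LD2_c16 LD3_c4))))))))))))
theorem f682 : Led Lsl_et (LP (LK LD1_c2 LD2_c5 LD3_c12)) = (LP (LK LD1_c4 LD2_c15 LD3_c45)) :=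
  Lre_e IH (LK LD1_c2 LD2_c5 LD3_c12) (LK LD1_c4 LD2_c15 LD3_c45) Lrfl Lrfl
theorem f668 : Led Lsl_gt (LP (LK LD1_c4 LD2_c15 LD3_c45)) = (LP (LK LD1_c8 LD2_c30 LD3_c34)) :=
  Lre_g IH (LK LD1_c4 LD2_c15 LD3_c45) (LK LD1_c8 LD2_c30 LD3_c34) Lrfl Lrfl
theorem f597 : Led Lsl_et (LP (LK LD1_c0 LD2_c57 LD3_c53)) = (LP (LK LD1_c2 LD2_c1 LD3_c44)) :=
  Lre_e IH (LK LD1_c0 LD2_c57 LD3_c53) (LK LD1_c2 LD2_c1 LD3_c44) Lrfl Lrfl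
theorem f598 : Led Lsl_gt (LP (LK LD1_c2 LD2_c1 LD3_c44)) = (LP (LK LD1_c4 LD2_c8 LD3_c47)) :=
  Lre_g IH (LK LD1_c2 LD2_c1 LD3_c44) (LK LD1_c4 LD2_c8 LD3_c47) Lrfl Lrfl
theorem f599 : Led Lsl_dt (LP (LK LD1_c4 LD2_c8 LD3_c47)) = (LP (LK LD1_c8 LD2_c17 LD3_c45)) :=
  Lre_d IH (LK LD1_c4 LD2_c8 LD3_c47) (LK LD1_c8 LD2_c17 LD3_c45) Lrfl Lrfl
theorem f601 : Led Lsl_et (LP (LK LD1_c2 LD2_c5 LD3_c30)) = (LP (LK LD1_c0 LD2_c59 LD3_c47)) :=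
  Lre_e IH (LK LD1_c2 LD2_c5 LD3_c30) (LK LD1_c0 LD2_c59 LD3_c47) Lrfl Lrfl
theorem f602 : Led Lsl_dt (LP (LK LD1_c2 LD2_c5 LD3_c30)) = (LP (LK LD1_c4 LD2_c16 LD3_c19)) :=
  Lre_d IH (LK LD1_c2 LD2_c5 LD3_c30) (LK LD1_c4 LD2_c16 LD3_c19) Lrfl Lrfl
theorem f603 : Led Lsl_gt (LP (LK LD1_c8 LD2_c17 LD3_c45)) = (LP (LK LD1_c4 LD2_c16 LD3_c19)) :=
  Lgr Lrot139 (Lpe (f599 IH) (Lpe (f598 IH) (Lpe (f597 IH) (Lpr_dt (K12.f596 IH) (Lpe (K12.f595 IH) (Lpe (K12.f594 IH) (Lpr_et (K1.f559 IH) (Lpe (K12.f600 IH) (Lpe (f601 IH) (Lpr_dt (f602 IH) (Lpn (LP (LK LD1_c4 LD2_c16 LD3_c19)))))))))))))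
theorem f636 : Led Lsl_et (LP (LK LD1_c0 LD2_c59 LD3_c40)) = (LP (LK LD1_c2 LD2_c5 LD3_c13)) :=
  Lre_e IH (LK LD1_c0 LD2_c59 LD3_c40) (LK LD1_c2 LD2_c5 LD3_c13) Lrfl Lrfl
theorem f637 : Led Lsl_gt (LP (LK LD1_c2 LD2_c5 LD3_c13)) = (LP (LK LD1_c4 LD2_c15 LD3_c46)) :=
  Lre_g IH (LK LD1_c2 LD2_c5 LD3_c13) (LK LD1_c4 LD2_c15 LD3_c46) Lrfl Lrfl
theorem f638 : Led Lsl_et (LP (LK LD1_c4 LD2_c8 LD3_c47)) = (LP (LK LD1_c4 LD2_c15 LD3_c46)) :=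
  Lgr Lrot122 (Lpr_dt (f599 IH) (Lpr_gt (f603 IH) (Lpe (f602 IH) (Lpr_et (f601 IH) (Lpr_gt (K12.f600 IH) (Lpr_dt (K1.f590 IH) (Lpr_gt (K10.f634 IH) (Lpe (f635 IH) (Lpr_et (f636 IH) (Lpr_gt (f637 IH) (Lpn (LP (LK LD1_c4 LD2_c15 LD3_c46)))))))))))))
theorem f644 : Led Lsl_ef (LP (LK LD1_c4 LD2_c8 LD3_c47)) = (LP (LK LD1_c4 LD2_c15 LD3_c46)) :=
  Lgr Lrot88 (Lpr_et (f638 IH) (Lpn (LP (LK LD1_c4 LD2_c15 LD3_c46))))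
theorem f652 : Led Lsl_et (LP (LK LD1_c2 LD2_c2 LD3_c5)) = (LP (LK LD1_c0 LD2_c57 LD3_c60)) :=
  Lre_e IH (LK LD1_c2 LD2_c2 LD3_c5) (LK LD1_c0 LD2_c57 LD3_c60) Lrfl Lrfl
theorem f653 : Led Lsl_dt (LP (LK LD1_c2 LD2_c2 LD3_c5)) = (LP (LK LD1_c4 LD2_c9 LD3_c38)) :=
  Lre_d IH (LK LD1_c2 LD2_c2 LD3_c5) (LK LD1_c4 LD2_c9 LD3_c38) Lrfl Lrfl
theorem f654 : Led Lsl_gt (LP (LK LD1_c8 LD2_c19 LD3_c17)) = (LP (LK LD1_c4 LD2_c9 LD3_c38)) :=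
  Lre_g IH (LK LD1_c8 LD2_c19 LD3_c17) (LK LD1_c4 LD2_c9 LD3_c38) Lrfl Lrfl
theorem f655 : Led Lsl_df (LP (LK LD1_c8 LD2_c19 LD3_c17)) = (LP (LK LD1_c4 LD2_c15 LD3_c46)) :=
  Lgr Lrot170 (Lpr_gt (f654 IH) (Lpe (f653 IH) (Lpr_et (f652 IH) (Lpr_gt (K12.f651 IH) (Lpr_dt (K12.f594 IH) (Lpr_gt (K12.f595 IH) (Lpe (K12.f596 IH) (Lpr_et (f597 IH) (Lpr_gt (f598 IH) (Lpr_ef (f644 IH) (Lpn (LP (LK LD1_c4 LD2_c15 LD3_c46)))))))))))))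
theorem f663 : Led Lsl_dt (LP (LK LD1_c4 LD2_c9 LD3_c38)) = (LP (LK LD1_c2 LD2_c2 LD3_c5)) :=
  Lre_d IH (LK LD1_c4 LD2_c9 LD3_c38) (LK LD1_c2 LD2_c2 LD3_c5) Lrfl Lrfl
theorem f664 : Led Lsl_ct (LP (LK LD1_c2 LD2_c2 LD3_c5)) = (LP (LK LD1_c4 LD2_c9 LD3_c34)) :=
  Lre_c IH (LK LD1_c2 LD2_c2 LD3_c5) (LK LD1_c4 LD2_c9 LD3_c34) Lrfl Lrfl
theorem f665 : Led Lsl_dt (LP (LK LD1_c8 LD2_c19 LD3_c12)) = (LP (LK LD1_c4 LD2_c9 LD3_c34)) :=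
  Lre_d IH (LK LD1_c8 LD2_c19 LD3_c12) (LK LD1_c4 LD2_c9 LD3_c34) Lrfl Lrfl
theorem f666 : Led Lsl_gt (LP (LK LD1_c15 LD2_c39 LD3_c2)) = (LP (LK LD1_c8 LD2_c19 LD3_c12)) :=
  Lre_g IH (LK LD1_c15 LD2_c39 LD3_c2) (LK LD1_c8 LD2_c19 LD3_c12) Lrfl Lrfl
theorem f667 : Led Lsl_ct (LP (LK LD1_c4 LD2_c15 LD3_c45)) = (LP (LK LD1_c2 LD2_c5 LD3_c13)) :=
  Lre_c IH (LK LD1_c4 LD2_c15 LD3_c45) (LK LD1_c2 LD2_c5 LD3_c13) Lrfl Lrfl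
theorem f669 : Led Lsl_df (LP (LK LD1_c15 LD2_c39 LD3_c2)) = (LP (LK LD1_c8 LD2_c30 LD3_c34)) :=
  Lgr Lrot153 (Lpr_gt (f666 IH) (Lpr_dt (f665 IH) (Lpe (f664 IH) (Lpe (f663 IH) (Lpe (f654 IH) (Lpr_df (f655 IH) (Lpe (f637 IH) (Lpe (f667 IH) (Lpr_gt (f668 IH) (Lpn (LP (LK LD1_c8 LD2_c30 LD3_c34))))))))))))
theorem f680 : Led Lsl_dt (LP (LK LD1_c4 LD2_c9 LD3_c34)) = (LP (LK LD1_c8 LD2_c19 LD3_c12)) :=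
  Lre_d IH (LK LD1_c4 LD2_c9 LD3_c34) (LK LD1_c8 LD2_c19 LD3_c12) Lrfl Lrfl
theorem f681 : Led Lsl_et (LP (LK LD1_c4 LD2_c9 LD3_c34)) = (LP (LK LD1_c2 LD2_c2 LD3_c3)) :=
  Lre_e IH (LK LD1_c4 LD2_c9 LD3_c34) (LK LD1_c2 LD2_c2 LD3_c3) Lrfl Lrfl
theorem f243549 : Led Lsl_ef (LP (LK LD1_c4 LD2_c9 LD3_c19)) = (LP (LK LD1_c4 LD2_c16 LD3_c4)) :=
  Lgr Lrot17 (Lpr_gf (K12.f222786 IH) (Lpe (f681 IH) (Lpr_dt (f680 IH) (Lpe (f666 IH) (Lpr_df (f669 IH) (Lpe (f668 IH) (Lpe (f682 IH) (Lpr_dt (f683 IH) (Lpe (f684 IH) (Lpr_df (f243532 IH) (Lpn (LP (LK LD1_c4 LD2_c16 LD3_c4)))))))))))))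
theorem f243561 : Led Lsl_et (LP (LK LD1_c4 LD2_c9 LD3_c19)) = (LP (LK LD1_c4 LD2_c16 LD3_c4)) :=
  Lgr Lrot87 (Lpr_ef (f243549 IH) (Lpn (LP (LK LD1_c4 LD2_c16 LD3_c4))))
theorem f53843 : Led Lsl_et (LP (LK LD1_c2 LD2_c34 LD3_c19)) = (LP (LK LD1_c2 LD2_c35 LD3_c21)) :=
  Lgr Lrot74 (Lpe (K10.f53831 IH) (Lpr_ef (K12.f53839 IH) (Lpr_bf (K12.f53812 IH) (Lpn (LP (LK LD1_c2 LD2_c35 LD3_c21))))))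
theorem f243568 : Led Lsl_cf (LP (LK LD1_c2 LD2_c34 LD3_c19)) = (LP (LK LD1_c4 LD2_c16 LD3_c4)) :=
  Lgr Lrot39 (Lpr_et (f53843 IH) (Lpe (K12.f222805 IH) (Lpr_et (f243561 IH) (Lpn (LP (LK LD1_c4 LD2_c16 LD3_c4))))))
theorem f243469 : Led Lsl_dt (LP (LK LD1_c4 LD2_c15 LD3_c44)) = (LP (LK LD1_c2 LD2_c5 LD3_c12)) :=
  Lre_d IH (LK LD1_c4 LD2_c15 LD3_c44) (LK LD1_c2 LD2_c5 LD3_c12) Lrfl Lrfl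
theorem f197005 : Led Lsl_ct (LP (LK LD1_c2 LD2_c5 LD3_c12)) = (LP (LK LD1_c0 LD2_c59 LD3_c40)) :=
  Lre_c IH (LK LD1_c2 LD2_c5 LD3_c12) (LK LD1_c0 LD2_c59 LD3_c40) Lrfl Lrfl
theorem f760 : Led Lsl_dt (LP (LK LD1_c0 LD2_c27 LD3_c9)) = (LP (LK LD1_c0 LD2_c59 LD3_c40)) :=
  Lre_d IH (LK LD1_c0 LD2_c27 LD3_c9) (LK LD1_c0 LD2_c59 LD3_c40) Lrfl Lrfl
theorem f51491 : Led Lsl_ct (LP (LK LD1_c0 LD2_c59 LD3_c47)) = (LP (LK LD1_c2 LD2_c5 LD3_c29)) :=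
  Lre_c IH (LK LD1_c0 LD2_c59 LD3_c47) (LK LD1_c2 LD2_c5 LD3_c29) Lrfl Lrfl
theorem f243543 : Led Lsl_gt (LP (LK LD1_c2 LD2_c5 LD3_c29)) = (LP (LK LD1_c4 LD2_c16 LD3_c4)) :=
  Lgr Lrot94 (Lpe (f51491 IH) (Lpr_gt (K12.f600 IH) (Lpr_dt (K1.f590 IH) (Lpr_gt (K10.f634 IH) (Lpr_dt (f760 IH) (Lpe (f197005 IH) (Lpe (f243469 IH) (Lpe (f684 IH) (Lpr_df (f243532 IH) (Lpn (LP (LK LD1_c4 LD2_c16 LD3_c4))))))))))))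
theorem f53437 : Led Lsl_ct (LP (LK LD1_c0 LD2_c27 LD3_c10)) = (LP (LK LD1_c0 LD2_c59 LD3_c43)) :=
  Lre_c IH (LK LD1_c0 LD2_c27 LD3_c10) (LK LD1_c0 LD2_c59 LD3_c43) Lrfl Lrfl
theorem f243582 : Led Lsl_gf (LP (LK LD1_c0 LD2_c34 LD3_c25)) = (LP (LK LD1_c0 LD2_c59 LD3_c43)) :=
  Lgr Lrot104 (Lpr_ct (K8.f33427 IH) (Lpe (K10.f33431 IH) (Lpr_cf (f243568 IH) (Lpe (f243543 IH) (Lpe (f51491 IH) (Lpe (K12.f51466 IH) (Lpe (K12.f51465 IH) (Lpr_gt (K12.f1380 IH) (Lpr_ct (f53437 IH) (Lpn (LP (LK LD1_c0 LD2_c59 LD3_c43))))))))))))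
theorem f236100 : Led Lsl_gf (LP (LK LD1_c0 LD2_c15 LD3_c56)) = (LP (LK LD1_c0 LD2_c34 LD3_c25)) :=
  Lgr Lrot138 (Lpr_dt (f235781 IH) (Lpr_gt (f168542 IH) (Lpr_df (f235997 IH) (Lpr_et (f777 IH) (Lpr_gt (K9.f776 IH) (Lpe (K12.f772 IH) (Lpr_dt (K1.f733 IH) (Lpe (K1.f47492 IH) (Lpe (K1.f45099 IH) (Lpr_et (K10.f33409 IH) (Lpn (LP (LK LD1_c0 LD2_c34 LD3_c25)))))))))))))
theorem f196996 : Led Lsl_at (LP (LK LD1_c0 LD2_c35 LD3_c33)) = (LP (LK LD1_c0 LD2_c15 LD3_c56)) :=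
  Lre_a IH (LK LD1_c0 LD2_c35 LD3_c33) (LK LD1_c0 LD2_c15 LD3_c56) Lrfl Lrfl
theorem f243597 : Led Lsl_ff (LP (LK LD1_c0 LD2_c35 LD3_c33)) = (LP (LK LD1_c0 LD2_c59 LD3_c43)) :=
  Lgr Lrot52 (Lpr_at (f196996 IH) (Lpr_gf (f236100 IH) (Lpr_gf (f243582 IH) (Lpn (LP (LK LD1_c0 LD2_c59 LD3_c43))))))
theorem f243606 : Led Lsl_ft (LP (LK LD1_c0 LD2_c35 LD3_c33)) = (LP (LK LD1_c0 LD2_c59 LD3_c43)) :=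
  Lgr Lrot48 (Lpr_ff (f243597 IH) (Lpn (LP (LK LD1_c0 LD2_c59 LD3_c43))))
theorem f243601 : Led Lsl_dt (LP (LK LD1_c0 LD2_c35 LD3_c33)) = (LP (LK LD1_c1 LD2_c16 LD3_c49)) :=
  Lre_d IH (LK LD1_c0 LD2_c35 LD3_c33) (LK LD1_c1 LD2_c16 LD3_c49) Lrfl Lrfl
theorem f244841 : Led Lsl_ct (LP (LK LD1_c1 LD2_c16 LD3_c49)) = (LP (LK LD1_c2 LD2_c40 LD3_c7)) :=
  Lre_c IH (LK LD1_c1 LD2_c16 LD3_c49) (LK LD1_c2 LD2_c40 LD3_c7) Lrfl Lrfl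
theorem f243626 : Led Lsl_dt (LP (LK LD1_c2 LD2_c40 LD3_c7)) = (LP (LK LD1_c5 LD2_c27 LD3_c31)) :=
  Lre_d IH (LK LD1_c2 LD2_c40 LD3_c7) (LK LD1_c5 LD2_c27 LD3_c31) Lrfl Lrfl
theorem f236407 : Led Lsl_et (LP (LK LD1_c2 LD2_c5 LD3_c21)) = (LP (LK LD1_c0 LD2_c59 LD3_c43)) :=
  Lre_e IH (LK LD1_c2 LD2_c5 LD3_c21) (LK LD1_c0 LD2_c59 LD3_c43) Lrfl Lrfl
theorem f236408 : Led Lsl_at (LP (LK LD1_c0 LD2_c59 LD3_c43)) = (LP (LK LD1_c0 LD2_c28 LD3_c38)) :=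
  Lgr Lrot80 (Lpe (f236407 IH) (Lpr_af (f236399 IH) (Lpe (K12.f167732 IH) (Lpn (LP (LK LD1_c0 LD2_c28 LD3_c38))))))
theorem f187240 : Led Lsl_ct (LP (LK LD1_c4 LD2_c15 LD3_c24)) = (LP (LK LD1_c2 LD2_c5 LD3_c4)) :=
  Lre_c IH (LK LD1_c4 LD2_c15 LD3_c24) (LK LD1_c2 LD2_c5 LD3_c4) Lrfl Lrfl
theorem f190852 : Led Lsl_dt (LP (LK LD1_c8 LD2_c29 LD3_c42)) = (LP (LK LD1_c4 LD2_c15 LD3_c24)) :=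
  Lre_d IH (LK LD1_c8 LD2_c29 LD3_c42) (LK LD1_c4 LD2_c15 LD3_c24) Lrfl Lrfl
theorem f245030 : Led Lsl_ct (LP (LK LD1_c5 LD2_c27 LD3_c31)) = (LP (LK LD1_c8 LD2_c29 LD3_c42)) :=
  Lgr Lrot41 (Lpe (f243626 IH) (Lpe (f244841 IH) (Lpe (f243601 IH) (Lpr_ft (f243606 IH) (Lpr_at (f236408 IH) (Lpr_cf (K10.f187230 IH) (Lpe (f1326 IH) (Lpe (f187240 IH) (Lpe (f190852 IH) (Lpn (LP (LK LD1_c8 LD2_c29 LD3_c42))))))))))))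
theorem f196997 : Led Lsl_ct (LP (LK LD1_c0 LD2_c27 LD3_c9)) = (LP (LK LD1_c0 LD2_c15 LD3_c56)) :=
  Lgr Lrot59 (Lpr_cf (K10.f196950 IH) (Lpn (LP (LK LD1_c0 LD2_c15 LD3_c56))))
theorem f234213 : Led Lsl_dt (LP (LK LD1_c0 LD2_c59 LD3_c43)) = (LP (LK LD1_c2 LD2_c5 LD3_c20)) :=
  Lre_d IH (LK LD1_c0 LD2_c59 LD3_c43) (LK LD1_c2 LD2_c5 LD3_c20) Lrfl Lrfl
theorem f243608 : Led Lsl_ct (LP (LK LD1_c2 LD2_c5 LD3_c20)) = (LP (LK LD1_c4 LD2_c15 LD3_c57)) :=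
  Lre_c IH (LK LD1_c2 LD2_c5 LD3_c20) (LK LD1_c4 LD2_c15 LD3_c57) Lrfl Lrfl
theorem f243609 : Led Lsl_df (LP (LK LD1_c8 LD2_c27 LD3_c10)) = (LP (LK LD1_c4 LD2_c15 LD3_c57)) :=
  Lgr Lrot106 (Lpe (f243502 IH) (Lpr_dt (f243469 IH) (Lpr_ct (f197005 IH) (Lpr_dt (f635 IH) (Lpr_ct (f196997 IH) (Lpe (f196996 IH) (Lpr_ff (f243597 IH) (Lpr_dt (f234213 IH) (Lpr_ct (f243608 IH) (Lpn (LP (LK LD1_c4 LD2_c15 LD3_c57))))))))))))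
theorem f236001 : Led Lsl_ct (LP (LK LD1_c0 LD2_c35 LD3_c34)) = (LP (LK LD1_c1 LD2_c16 LD3_c53)) :=
  Lre_c IH (LK LD1_c0 LD2_c35 LD3_c34) (LK LD1_c1 LD2_c16 LD3_c53) Lrfl Lrfl
theorem f243524 : Led Lsl_at (LP (LK LD1_c2 LD2_c40 LD3_c7)) = (LP (LK LD1_c1 LD2_c16 LD3_c53)) :=
  Lre_a IH (LK LD1_c2 LD2_c40 LD3_c7) (LK LD1_c1 LD2_c16 LD3_c53) Lrfl Lrfl
theorem f243619 : Led Lsl_ff (LP (LK LD1_c2 LD2_c40 LD3_c7)) = (LP (LK LD1_c4 LD2_c15 LD3_c57)) :=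
  Lgr Lrot103 (Lpr_at (f243524 IH) (Lpe (f236001 IH) (Lpe (f235781 IH) (Lpe (f196997 IH) (Lpe (f635 IH) (Lpe (f197005 IH) (Lpe (f243469 IH) (Lpr_cf (f243502 IH) (Lpr_df (f243609 IH) (Lpn (LP (LK LD1_c4 LD2_c15 LD3_c57))))))))))))
theorem f243630 : Led Lsl_ft (LP (LK LD1_c2 LD2_c40 LD3_c7)) = (LP (LK LD1_c4 LD2_c15 LD3_c57)) :=
  Lgr Lrot48 (Lpr_ff (f243619 IH) (Lpn (LP (LK LD1_c4 LD2_c15 LD3_c57))))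
theorem f167756 : Led Lsl_dt (LP (LK LD1_c0 LD2_c28 LD3_c38)) = (LP (LK LD1_c1 LD2_c2 LD3_c50)) :=
  Lre_d IH (LK LD1_c0 LD2_c28 LD3_c38) (LK LD1_c1 LD2_c2 LD3_c50) Lrfl Lrfl
theorem f179771 : Led Lsl_ct (LP (LK LD1_c1 LD2_c2 LD3_c50)) = (LP (LK LD1_c2 LD2_c11 LD3_c41)) :=
  Lre_c IH (LK LD1_c1 LD2_c2 LD3_c50) (LK LD1_c2 LD2_c11 LD3_c41) Lrfl Lrfl
theorem f245041 : Led Lsl_at (LP (LK LD1_c4 LD2_c15 LD3_c57)) = (LP (LK LD1_c2 LD2_c11 LD3_c41)) :=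
  Lgr Lrot33 (Lpe (f243630 IH) (Lpr_dt (f243626 IH) (Lpr_ct (f245030 IH) (Lpr_dt (f190852 IH) (Lpr_ct (f187240 IH) (Lpr_dt (f1326 IH) (Lpe (K10.f187230 IH) (Lpr_dt (f167756 IH) (Lpr_ct (f179771 IH) (Lpn (LP (LK LD1_c2 LD2_c11 LD3_c41))))))))))))
theorem f245005 : Led Lsl_at (LP (LK LD1_c1 LD2_c16 LD3_c53)) = (LP (LK LD1_c2 LD2_c40 LD3_c7)) :=
  Lre_a IH (LK LD1_c1 LD2_c16 LD3_c53) (LK LD1_c2 LD2_c40 LD3_c7) Lrfl Lrfl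
theorem f245058 : Led Lsl_ff (LP (LK LD1_c1 LD2_c16 LD3_c53)) = (LP (LK LD1_c2 LD2_c11 LD3_c41)) :=
  Lgr Lrot30 (Lpr_at (f245005 IH) (Lpr_ft (f243630 IH) (Lpr_at (f245041 IH) (Lpn (LP (LK LD1_c2 LD2_c11 LD3_c41))))))
theorem f245074 : Led Lsl_ft (LP (LK LD1_c1 LD2_c16 LD3_c53)) = (LP (LK LD1_c2 LD2_c11 LD3_c41)) :=
  Lgr Lrot48 (Lpr_ff (f245058 IH) (Lpn (LP (LK LD1_c2 LD2_c11 LD3_c41))))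
theorem f7893 : Led Lsl_dt (LP (LK LD1_c2 LD2_c40 LD3_c19)) = (LP (LK LD1_c1 LD2_c16 LD3_c53)) :=
  Lre_d IH (LK LD1_c2 LD2_c40 LD3_c19) (LK LD1_c1 LD2_c16 LD3_c53) Lrfl Lrfl
theorem f213796 : Led Lsl_dt (LP (LK LD1_c2 LD2_c11 LD3_c41)) = (LP (LK LD1_c4 LD2_c29 LD3_c10)) :=
  Lre_d IH (LK LD1_c2 LD2_c11 LD3_c41) (LK LD1_c4 LD2_c29 LD3_c10) Lrfl Lrfl
theorem f245085 : Led Lsl_ff (LP (LK LD1_c2 LD2_c40 LD3_c19)) = (LP (LK LD1_c4 LD2_c29 LD3_c10)) :=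
  Lgr Lrot19 (Lpr_dt (f7893 IH) (Lpr_ft (f245074 IH) (Lpr_dt (f213796 IH) (Lpn (LP (LK LD1_c4 LD2_c29 LD3_c10))))))
theorem f244817 : Led Lsl_bt (LP (LK LD1_c2 LD2_c40 LD3_c19)) = (LP (LK LD1_c5 LD2_c27 LD3_c59)) :=
  Lre_b IH (LK LD1_c2 LD2_c40 LD3_c19) (LK LD1_c5 LD2_c27 LD3_c59) Lrfl Lrfl
theorem f245210 : Led Lsl_bt (LP (LK LD1_c8 LD2_c56 LD3_c36)) = (LP (LK LD1_c4 LD2_c29 LD3_c10)) :=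
  Lre_b IH (LK LD1_c8 LD2_c56 LD3_c36) (LK LD1_c4 LD2_c29 LD3_c10) Lrfl Lrfl
theorem f245211 : Led Lsl_ft (LP (LK LD1_c5 LD2_c27 LD3_c59)) = (LP (LK LD1_c8 LD2_c56 LD3_c36)) :=
  Lgr Lrot75 (Lpe (f244817 IH) (Lpr_ff (f245085 IH) (Lpe (f245210 IH) (Lpn (LP (LK LD1_c8 LD2_c56 LD3_c36))))))
theorem f245226 : Led Lsl_dt (LP (LK LD1_c5 LD2_c27 LD3_c59)) = (LP (LK LD1_c2 LD2_c40 LD3_c18)) :=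
  Lre_d IH (LK LD1_c5 LD2_c27 LD3_c59) (LK LD1_c2 LD2_c40 LD3_c18) Lrfl Lrfl
theorem f245148 : Led Lsl_ct (LP (LK LD1_c2 LD2_c40 LD3_c18)) = (LP (LK LD1_c1 LD2_c17 LD3_c3)) :=
  Lre_c IH (LK LD1_c2 LD2_c40 LD3_c18) (LK LD1_c1 LD2_c17 LD3_c3) Lrfl Lrfl
theorem f172951 : Led Lsl_dt (LP (LK LD1_c1 LD2_c17 LD3_c3)) = (LP (LK LD1_c2 LD2_c40 LD3_c50)) :=
  Lre_d IH (LK LD1_c1 LD2_c17 LD3_c3) (LK LD1_c2 LD2_c40 LD3_c50) Lrfl Lrfl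
theorem f168544 : Led Lsl_ct (LP (LK LD1_c2 LD2_c40 LD3_c50)) = (LP (LK LD1_c5 LD2_c29 LD3_c14)) :=
  Lre_c IH (LK LD1_c2 LD2_c40 LD3_c50) (LK LD1_c5 LD2_c29 LD3_c14) Lrfl Lrfl
theorem f245227 : Led Lsl_dt (LP (LK LD1_c5 LD2_c29 LD3_c14)) = (LP (LK LD1_c10 LD2_c49 LD3_c48)) :=
  Lre_d IH (LK LD1_c5 LD2_c29 LD3_c14) (LK LD1_c10 LD2_c49 LD3_c48) Lrfl Lrfl
theorem f245228 : Led Lsl_ct (LP (LK LD1_c10 LD2_c49 LD3_c48)) = (LP (LK LD1_c19 LD2_c34 LD3_c31)) :=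
  Lre_c IH (LK LD1_c10 LD2_c49 LD3_c48) (LK LD1_c19 LD2_c34 LD3_c31) Lrfl Lrfl
theorem f245215 : Led Lsl_at (LP (LK LD1_c8 LD2_c56 LD3_c36)) = (LP (LK LD1_c16 LD2_c44 LD3_c31)) :=
  Lre_a IH (LK LD1_c8 LD2_c56 LD3_c36) (LK LD1_c16 LD2_c44 LD3_c31) Lrfl Lrfl
theorem f245229 : Led Lsl_ct (LP (LK LD1_c26 LD2_c43 LD3_c27)) = (LP (LK LD1_c16 LD2_c44 LD3_c31)) :=
  Lre_c IH (LK LD1_c26 LD2_c43 LD3_c27) (LK LD1_c16 LD2_c44 LD3_c31) Lrfl Lrfl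
theorem f245230 : Led Lsl_dt (LP (LK LD1_c19 LD2_c34 LD3_c31)) = (LP (LK LD1_c26 LD2_c43 LD3_c27)) :=
  Lgr Lrot120 (Lpe (f245228 IH) (Lpe (f245227 IH) (Lpe (f168544 IH) (Lpe (f172951 IH) (Lpe (f245148 IH) (Lpe (f245226 IH) (Lpr_ft (f245211 IH) (Lpr_at (f245215 IH) (Lpe (f245229 IH) (Lpn (LP (LK LD1_c26 LD2_c43 LD3_c27))))))))))))
theorem f245236 : Led Lsl_dt (LP (LK LD1_c16 LD2_c44 LD3_c31)) = (LP (LK LD1_c8 LD2_c56 LD3_c35)) :=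
  Lre_d IH (LK LD1_c16 LD2_c44 LD3_c31) (LK LD1_c8 LD2_c56 LD3_c35) Lrfl Lrfl
theorem f245237 : Led Lsl_ct (LP (LK LD1_c8 LD2_c56 LD3_c35)) = (LP (LK LD1_c4 LD2_c29 LD3_c17)) :=
  Lre_c IH (LK LD1_c8 LD2_c56 LD3_c35) (LK LD1_c4 LD2_c29 LD3_c17) Lrfl Lrfl
theorem f245249 : Led Lsl_at (LP (LK LD1_c2 LD2_c11 LD3_c43)) = (LP (LK LD1_c4 LD2_c29 LD3_c17)) :=
  Lre_a IH (LK LD1_c2 LD2_c11 LD3_c43) (LK LD1_c4 LD2_c29 LD3_c17) Lrfl Lrfl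
theorem f245250 : Led Lsl_ft (LP (LK LD1_c1 LD2_c17 LD3_c3)) = (LP (LK LD1_c2 LD2_c11 LD3_c43)) :=
  Lgr Lrot142 (Lpr_dt (f172951 IH) (Lpr_ct (f168544 IH) (Lpr_dt (f245227 IH) (Lpr_ct (f245228 IH) (Lpr_dt (f245230 IH) (Lpr_ct (f245229 IH) (Lpr_dt (f245236 IH) (Lpr_ct (f245237 IH) (Lpe (f245249 IH) (Lpn (LP (LK LD1_c2 LD2_c11 LD3_c43))))))))))))
theorem f245264 : Led Lsl_ff (LP (LK LD1_c1 LD2_c17 LD3_c3)) = (LP (LK LD1_c2 LD2_c11 LD3_c43)) :=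
  Lgr Lrot3 (Lpr_ft (f245250 IH) (Lpn (LP (LK LD1_c2 LD2_c11 LD3_c43))))
theorem f226434 : Led Lsl_dt (LP (LK LD1_c4 LD2_c29 LD3_c18)) = (LP (LK LD1_c2 LD2_c11 LD3_c43)) :=
  Lre_d IH (LK LD1_c4 LD2_c29 LD3_c18) (LK LD1_c2 LD2_c11 LD3_c43) Lrfl Lrfl
theorem f245290 : Led Lsl_ft (LP (LK LD1_c2 LD2_c40 LD3_c50)) = (LP (LK LD1_c4 LD2_c29 LD3_c18)) :=
  Lgr Lrot54 (Lpe (f172951 IH) (Lpr_ff (f245264 IH) (Lpe (f226434 IH) (Lpn (LP (LK LD1_c4 LD2_c29 LD3_c18))))))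
theorem f172401 : Led Lsl_bt (LP (LK LD1_c1 LD2_c17 LD3_c4)) = (LP (LK LD1_c2 LD2_c40 LD3_c50)) :=
  Lre_b IH (LK LD1_c1 LD2_c17 LD3_c4) (LK LD1_c2 LD2_c40 LD3_c50) Lrfl Lrfl
theorem f245508 : Led Lsl_bt (LP (LK LD1_c4 LD2_c29 LD3_c18)) = (LP (LK LD1_c2 LD2_c11 LD3_c44)) :=
  Lre_b IH (LK LD1_c4 LD2_c29 LD3_c18) (LK LD1_c2 LD2_c11 LD3_c44) Lrfl Lrfl
theorem f245509 : Led Lsl_ff (LP (LK LD1_c1 LD2_c17 LD3_c4)) = (LP (LK LD1_c2 LD2_c11 LD3_c44)) :=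
  Lgr Lrot25 (Lpr_bt (f172401 IH) (Lpr_ft (f245290 IH) (Lpr_bt (f245508 IH) (Lpn (LP (LK LD1_c2 LD2_c11 LD3_c44))))))
theorem f245520 : Led Lsl_at (LP (LK LD1_c1 LD2_c17 LD3_c4)) = (LP (LK LD1_c2 LD2_c11 LD3_c34)) :=
  Lgr Lrot26 (Lpr_ff (f245509 IH) (Lpr_gt (K9.f174642 IH) (Lpr_gt (K9.f169277 IH) (Lpn (LP (LK LD1_c2 LD2_c11 LD3_c34))))))
theorem f245529 : Led Lsl_af (LP (LK LD1_c0 LD2_c35 LD3_c38)) = (LP (LK LD1_c1 LD2_c2 LD3_c45)) :=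
  Lgr Lrot117 (Lpr_dt (K9.f168115 IH) (Lpr_at (f245520 IH) (Lpr_dt (K9.f169276 IH) (Lpn (LP (LK LD1_c1 LD2_c2 LD3_c45))))))
theorem f245538 : Led Lsl_ft (LP (LK LD1_c0 LD2_c35 LD3_c47)) = (LP (LK LD1_c1 LD2_c2 LD3_c45)) :=
  Lgr Lrot2 (Lpe (K12.f225246 IH) (Lpr_gt (K12.f168549 IH) (Lpr_af (f245529 IH) (Lpn (LP (LK LD1_c1 LD2_c2 LD3_c45))))))
theorem f245549 : Led Lsl_ff (LP (LK LD1_c0 LD2_c35 LD3_c47)) = (LP (LK LD1_c1 LD2_c2 LD3_c45)) :=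
  Lgr Lrot3 (Lpr_ft (f245538 IH) (Lpn (LP (LK LD1_c1 LD2_c2 LD3_c45))))
theorem f245557 : Led Lsl_ft (LP (LK LD1_c1 LD2_c17 LD3_c26)) = (LP (LK LD1_c2 LD2_c11 LD3_c34)) :=
  Lgr Lrot54 (Lpe (K9.f168295 IH) (Lpr_ff (f245549 IH) (Lpe (K9.f169276 IH) (Lpn (LP (LK LD1_c2 LD2_c11 LD3_c34))))))
theorem f245564 : Led Lsl_ff (LP (LK LD1_c0 LD2_c37 LD3_c8)) = (LP (LK LD1_c1 LD2_c3 LD3_c51)) :=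
  Lgr Lrot23 (Lpr_ct (K9.f175080 IH) (Lpr_ft (f245557 IH) (Lpr_ct (K9.f173382 IH) (Lpn (LP (LK LD1_c1 LD2_c3 LD3_c51))))))
theorem f245573 : Led Lsl_at (LP (LK LD1_c0 LD2_c37 LD3_c8)) = (LP (LK LD1_c1 LD2_c3 LD3_c50)) :=
  Lgr Lrot26 (Lpr_ff (f245564 IH) (Lpr_gt (K9.f173380 IH) (Lpr_gt (K9.f174530 IH) (Lpn (LP (LK LD1_c1 LD2_c3 LD3_c50))))))
theorem f172551 : Led Lsl_et (LP (LK LD1_c1 LD2_c20 LD3_c24)) = (LP (LK LD1_c0 LD2_c37 LD3_c8)) :=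
  Lre_e IH (LK LD1_c1 LD2_c20 LD3_c24) (LK LD1_c0 LD2_c37 LD3_c8) Lrfl Lrfl
theorem f174608 : Led Lsl_et (LP (LK LD1_c1 LD2_c3 LD3_c50)) = (LP (LK LD1_c2 LD2_c13 LD3_c40)) :=
  Lre_e IH (LK LD1_c1 LD2_c3 LD3_c50) (LK LD1_c2 LD2_c13 LD3_c40) Lrfl Lrfl
theorem f245582 : Led Lsl_af (LP (LK LD1_c1 LD2_c20 LD3_c24)) = (LP (LK LD1_c2 LD2_c13 LD3_c40)) :=
  Lgr Lrot50 (Lpr_et (f172551 IH) (Lpr_at (f245573 IH) (Lpr_et (f174608 IH) (Lpn (LP (LK LD1_c2 LD2_c13 LD3_c40))))))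
theorem f172567 : Led Lsl_et (LP (LK LD1_c0 LD2_c37 LD3_c8)) = (LP (LK LD1_c1 LD2_c20 LD3_c24)) :=
  Lre_e IH (LK LD1_c0 LD2_c37 LD3_c8) (LK LD1_c1 LD2_c20 LD3_c24) Lrfl Lrfl
theorem f175082 : Led Lsl_et (LP (LK LD1_c2 LD2_c41 LD3_c32)) = (LP (LK LD1_c1 LD2_c17 LD3_c26)) :=
  Lre_e IH (LK LD1_c2 LD2_c41 LD3_c32) (LK LD1_c1 LD2_c17 LD3_c26) Lrfl Lrfl
theorem f175083 : Led Lsl_ct (LP (LK LD1_c1 LD2_c20 LD3_c24)) = (LP (LK LD1_c2 LD2_c41 LD3_c32)) :=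
  Lgr Lrot15 (Lpe (f172567 IH) (Lpr_cf (K9.f174970 IH) (Lpe (f175082 IH) (Lpn (LP (LK LD1_c2 LD2_c41 LD3_c32))))))
theorem f174639 : Led Lsl_et (LP (LK LD1_c2 LD2_c11 LD3_c44)) = (LP (LK LD1_c4 LD2_c29 LD3_c20)) :=
  Lre_e IH (LK LD1_c2 LD2_c11 LD3_c44) (LK LD1_c4 LD2_c29 LD3_c20) Lrfl Lrfl
theorem f174600 : Led Lsl_et (LP (LK LD1_c2 LD2_c13 LD3_c40)) = (LP (LK LD1_c1 LD2_c3 LD3_c50)) :=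
  Lre_e IH (LK LD1_c2 LD2_c13 LD3_c40) (LK LD1_c1 LD2_c3 LD3_c50) Lrfl Lrfl
theorem f174640 : Led Lsl_ct (LP (LK LD1_c4 LD2_c29 LD3_c20)) = (LP (LK LD1_c2 LD2_c13 LD3_c40)) :=
  Lgr Lrot15 (Lpe (f174639 IH) (Lpr_cf (K9.f174617 IH) (Lpe (f174600 IH) (Lpn (LP (LK LD1_c2 LD2_c13 LD3_c40))))))
theorem f245592 : Led Lsl_at (LP (LK LD1_c2 LD2_c41 LD3_c32)) = (LP (LK LD1_c4 LD2_c29 LD3_c20)) :=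
  Lgr Lrot107 (Lpe (f175083 IH) (Lpr_af (f245582 IH) (Lpe (f174640 IH) (Lpn (LP (LK LD1_c4 LD2_c29 LD3_c20))))))
theorem f245674 : Led Lsl_bt (LP (LK LD1_c5 LD2_c30 LD3_c34)) = (LP (LK LD1_c2 LD2_c41 LD3_c32)) :=
  Lre_b IH (LK LD1_c5 LD2_c30 LD3_c34) (LK LD1_c2 LD2_c41 LD3_c32) Lrfl Lrfl
theorem f245675 : Led Lsl_at (LP (LK LD1_c10 LD2_c52 LD3_c33)) = (LP (LK LD1_c5 LD2_c30 LD3_c34)) :=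
  Lre_a IH (LK LD1_c10 LD2_c52 LD3_c33) (LK LD1_c5 LD2_c30 LD3_c34) Lrfl Lrfl
theorem f245676 : Led Lsl_bt (LP (LK LD1_c4 LD2_c29 LD3_c20)) = (LP (LK LD1_c8 LD2_c56 LD3_c54)) :=
  Lre_b IH (LK LD1_c4 LD2_c29 LD3_c20) (LK LD1_c8 LD2_c56 LD3_c54) Lrfl Lrfl
theorem f245677 : Led Lsl_at (LP (LK LD1_c8 LD2_c56 LD3_c54)) = (LP (LK LD1_c16 LD2_c45 LD3_c1)) :=
  Lre_a IH (LK LD1_c8 LD2_c56 LD3_c54) (LK LD1_c16 LD2_c45 LD3_c1) Lrfl Lrfl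
theorem f245678 : Led Lsl_bf (LP (LK LD1_c10 LD2_c52 LD3_c33)) = (LP (LK LD1_c16 LD2_c45 LD3_c1)) :=
  Lgr Lrot81 (Lpr_at (f245675 IH) (Lpr_bt (f245674 IH) (Lpr_at (f245592 IH) (Lpr_bt (f245676 IH) (Lpr_at (f245677 IH) (Lpn (LP (LK LD1_c16 LD2_c45 LD3_c1))))))))
theorem f245683 : Led Lsl_et (LP (LK LD1_c10 LD2_c52 LD3_c33)) = (LP (LK LD1_c5 LD2_c30 LD3_c29)) :=
  Lre_e IH (LK LD1_c10 LD2_c52 LD3_c33) (LK LD1_c5 LD2_c30 LD3_c29) Lrfl Lrfl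
theorem f245279 : Led Lsl_et (LP (LK LD1_c8 LD2_c56 LD3_c49)) = (LP (LK LD1_c16 LD2_c45 LD3_c1)) :=
  Lre_e IH (LK LD1_c8 LD2_c56 LD3_c49) (LK LD1_c16 LD2_c45 LD3_c1) Lrfl Lrfl
theorem f245684 : Led Lsl_bt (LP (LK LD1_c5 LD2_c30 LD3_c29)) = (LP (LK LD1_c8 LD2_c56 LD3_c49)) :=
  Lgr Lrot119 (Lpe (f245683 IH) (Lpr_bf (f245678 IH) (Lpe (f245279 IH) (Lpn (LP (LK LD1_c8 LD2_c56 LD3_c49))))))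
theorem f245693 : Led Lsl_dt (LP (LK LD1_c2 LD2_c41 LD3_c29)) = (LP (LK LD1_c5 LD2_c30 LD3_c29)) :=
  Lre_d IH (LK LD1_c2 LD2_c41 LD3_c29) (LK LD1_c5 LD2_c30 LD3_c29) Lrfl Lrfl
theorem f245278 : Led Lsl_dt (LP (LK LD1_c8 LD2_c56 LD3_c49)) = (LP (LK LD1_c4 LD2_c29 LD3_c17)) :=
  Lre_d IH (LK LD1_c8 LD2_c56 LD3_c49) (LK LD1_c4 LD2_c29 LD3_c17) Lrfl Lrfl
theorem f245694 : Led Lsl_bf (LP (LK LD1_c2 LD2_c41 LD3_c29)) = (LP (LK LD1_c4 LD2_c29 LD3_c17)) :=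
  Lgr Lrot93 (Lpr_dt (f245693 IH) (Lpr_bt (f245684 IH) (Lpr_dt (f245278 IH) (Lpn (LP (LK LD1_c4 LD2_c29 LD3_c17))))))
theorem f245703 : Led Lsl_et (LP (LK LD1_c2 LD2_c41 LD3_c29)) = (LP (LK LD1_c5 LD2_c30 LD3_c30)) :=
  Lre_e IH (LK LD1_c2 LD2_c41 LD3_c29) (LK LD1_c5 LD2_c30 LD3_c30) Lrfl Lrfl
theorem f245280 : Led Lsl_et (LP (LK LD1_c8 LD2_c56 LD3_c50)) = (LP (LK LD1_c4 LD2_c29 LD3_c17)) :=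
  Lre_e IH (LK LD1_c8 LD2_c56 LD3_c50) (LK LD1_c4 LD2_c29 LD3_c17) Lrfl Lrfl
theorem f245704 : Led Lsl_bt (LP (LK LD1_c5 LD2_c30 LD3_c30)) = (LP (LK LD1_c8 LD2_c56 LD3_c50)) :=
  Lgr Lrot119 (Lpe (f245703 IH) (Lpr_bf (f245694 IH) (Lpe (f245280 IH) (Lpn (LP (LK LD1_c8 LD2_c56 LD3_c50))))))
theorem f245717 : Led Lsl_dt (LP (LK LD1_c10 LD2_c52 LD3_c35)) = (LP (LK LD1_c5 LD2_c30 LD3_c30)) :=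
  Lre_d IH (LK LD1_c10 LD2_c52 LD3_c35) (LK LD1_c5 LD2_c30 LD3_c30) Lrfl Lrfl
theorem f245281 : Led Lsl_dt (LP (LK LD1_c8 LD2_c56 LD3_c50)) = (LP (LK LD1_c16 LD2_c45 LD3_c2)) :=
  Lre_d IH (LK LD1_c8 LD2_c56 LD3_c50) (LK LD1_c16 LD2_c45 LD3_c2) Lrfl Lrfl
theorem f245718 : Led Lsl_bf (LP (LK LD1_c10 LD2_c52 LD3_c35)) = (LP (LK LD1_c16 LD2_c45 LD3_c2)) :=
  Lgr Lrot93 (Lpr_dt (f245717 IH) (Lpr_bt (f245704 IH) (Lpr_dt (f245281 IH) (Lpn (LP (LK LD1_c16 LD2_c45 LD3_c2))))))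
theorem f245731 : Led Lsl_bt (LP (LK LD1_c10 LD2_c52 LD3_c35)) = (LP (LK LD1_c16 LD2_c45 LD3_c2)) :=
  Lgr Lrot127 (Lpr_bf (f245718 IH) (Lpn (LP (LK LD1_c16 LD2_c45 LD3_c2))))
theorem f245735 : Led Lsl_at (LP (LK LD1_c5 LD2_c30 LD3_c37)) = (LP (LK LD1_c10 LD2_c52 LD3_c35)) :=
  Lre_a IH (LK LD1_c5 LD2_c30 LD3_c37) (LK LD1_c10 LD2_c52 LD3_c35) Lrfl Lrfl
theorem f245736 : Led Lsl_bt (LP (LK LD1_c2 LD2_c41 LD3_c35)) = (LP (LK LD1_c5 LD2_c30 LD3_c37)) :=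
  Lre_b IH (LK LD1_c2 LD2_c41 LD3_c35) (LK LD1_c5 LD2_c30 LD3_c37) Lrfl Lrfl
theorem f245737 : Led Lsl_at (LP (LK LD1_c16 LD2_c45 LD3_c2)) = (LP (LK LD1_c8 LD2_c56 LD3_c57)) :=
  Lre_a IH (LK LD1_c16 LD2_c45 LD3_c2) (LK LD1_c8 LD2_c56 LD3_c57) Lrfl Lrfl
theorem f245738 : Led Lsl_bt (LP (LK LD1_c8 LD2_c56 LD3_c57)) = (LP (LK LD1_c4 LD2_c29 LD3_c21)) :=
  Lre_b IH (LK LD1_c8 LD2_c56 LD3_c57) (LK LD1_c4 LD2_c29 LD3_c21) Lrfl Lrfl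
theorem f245739 : Led Lsl_af (LP (LK LD1_c2 LD2_c41 LD3_c35)) = (LP (LK LD1_c4 LD2_c29 LD3_c21)) :=
  Lgr Lrot36 (Lpr_bt (f245736 IH) (Lpr_at (f245735 IH) (Lpr_bt (f245731 IH) (Lpr_at (f245737 IH) (Lpr_bt (f245738 IH) (Lpn (LP (LK LD1_c4 LD2_c29 LD3_c21))))))))
theorem f245745 : Led Lsl_dt (LP (LK LD1_c2 LD2_c41 LD3_c35)) = (LP (LK LD1_c1 LD2_c17 LD3_c27)) :=
  Lre_d IH (LK LD1_c2 LD2_c41 LD3_c35) (LK LD1_c1 LD2_c17 LD3_c27) Lrfl Lrfl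
theorem f167686 : Led Lsl_dt (LP (LK LD1_c2 LD2_c11 LD3_c45)) = (LP (LK LD1_c4 LD2_c29 LD3_c21)) :=
  Lre_d IH (LK LD1_c2 LD2_c11 LD3_c45) (LK LD1_c4 LD2_c29 LD3_c21) Lrfl Lrfl
theorem f245746 : Led Lsl_at (LP (LK LD1_c1 LD2_c17 LD3_c27)) = (LP (LK LD1_c2 LD2_c11 LD3_c45)) :=
  Lgr Lrot51 (Lpe (f245745 IH) (Lpr_af (f245739 IH) (Lpe (f167686 IH) (Lpn (LP (LK LD1_c2 LD2_c11 LD3_c45))))))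
theorem f245753 : Led Lsl_ct (LP (LK LD1_c0 LD2_c35 LD3_c48)) = (LP (LK LD1_c1 LD2_c17 LD3_c27)) :=
  Lre_c IH (LK LD1_c0 LD2_c35 LD3_c48) (LK LD1_c1 LD2_c17 LD3_c27) Lrfl Lrfl
theorem f167694 : Led Lsl_ct (LP (LK LD1_c2 LD2_c11 LD3_c45)) = (LP (LK LD1_c1 LD2_c2 LD3_c53)) :=
  Lre_c IH (LK LD1_c2 LD2_c11 LD3_c45) (LK LD1_c1 LD2_c2 LD3_c53) Lrfl Lrfl
theorem f245754 : Led Lsl_af (LP (LK LD1_c0 LD2_c35 LD3_c48)) = (LP (LK LD1_c1 LD2_c2 LD3_c53)) :=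
  Lgr Lrot68 (Lpr_ct (f245753 IH) (Lpr_at (f245746 IH) (Lpr_ct (f167694 IH) (Lpn (LP (LK LD1_c1 LD2_c2 LD3_c53))))))
theorem f245765 : Led Lsl_ft (LP (LK LD1_c0 LD2_c35 LD3_c48)) = (LP (LK LD1_c1 LD2_c17 LD3_c31)) :=
  Lre_f IH (LK LD1_c0 LD2_c35 LD3_c48) (LK LD1_c1 LD2_c17 LD3_c31) Lrfl Lrfl
theorem f167723 : Led Lsl_ft (LP (LK LD1_c2 LD2_c11 LD3_c47)) = (LP (LK LD1_c1 LD2_c2 LD3_c53)) :=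
  Lre_f IH (LK LD1_c2 LD2_c11 LD3_c47) (LK LD1_c1 LD2_c2 LD3_c53) Lrfl Lrfl
theorem f245766 : Led Lsl_at (LP (LK LD1_c1 LD2_c17 LD3_c31)) = (LP (LK LD1_c2 LD2_c11 LD3_c47)) :=
  Lgr Lrot66 (Lpe (f245765 IH) (Lpr_af (f245754 IH) (Lpe (f167723 IH) (Lpn (LP (LK LD1_c2 LD2_c11 LD3_c47))))))
theorem f245787 : Led Lsl_dt (LP (LK LD1_c2 LD2_c41 LD3_c44)) = (LP (LK LD1_c1 LD2_c17 LD3_c31)) :=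
  Lre_d IH (LK LD1_c2 LD2_c41 LD3_c44) (LK LD1_c1 LD2_c17 LD3_c31) Lrfl Lrfl
theorem f167710 : Led Lsl_ft (LP (LK LD1_c4 LD2_c17 LD3_c4)) = (LP (LK LD1_c2 LD2_c5 LD3_c50)) :=
  Lre_f IH (LK LD1_c4 LD2_c17 LD3_c4) (LK LD1_c2 LD2_c5 LD3_c50) Lrfl Lrfl
theorem f167711 : Led Lsl_ft (LP (LK LD1_c1 LD2_c2 LD3_c53)) = (LP (LK LD1_c2 LD2_c11 LD3_c47)) :=
  Lre_f IH (LK LD1_c1 LD2_c2 LD3_c53) (LK LD1_c2 LD2_c11 LD3_c47) Lrfl Lrfl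
theorem f167712 : Led Lsl_df (LP (LK LD1_c4 LD2_c17 LD3_c4)) = (LP (LK LD1_c2 LD2_c11 LD3_c47)) :=
  Lgr Lrot78 (Lpr_ft (f167710 IH) (Lpr_dt (K12.f167646 IH) (Lpr_ft (f167711 IH) (Lpn (LP (LK LD1_c2 LD2_c11 LD3_c47))))))
theorem f245788 : Led Lsl_af (LP (LK LD1_c2 LD2_c41 LD3_c44)) = (LP (LK LD1_c4 LD2_c17 LD3_c4)) :=
  Lgr Lrot117 (Lpr_dt (f245787 IH) (Lpr_at (f245766 IH) (Lpe (f167712 IH) (Lpn (LP (LK LD1_c4 LD2_c17 LD3_c4))))))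
theorem f167714 : Led Lsl_ft (LP (LK LD1_c2 LD2_c5 LD3_c50)) = (LP (LK LD1_c4 LD2_c17 LD3_c4)) :=
  Lre_f IH (LK LD1_c2 LD2_c5 LD3_c50) (LK LD1_c4 LD2_c17 LD3_c4) Lrfl Lrfl
theorem f167716 : Led Lsl_gt (LP (LK LD1_c2 LD2_c5 LD3_c50)) = (LP (LK LD1_c4 LD2_c17 LD3_c2)) :=
  Lre_g IH (LK LD1_c2 LD2_c5 LD3_c50) (LK LD1_c4 LD2_c17 LD3_c2) Lrfl Lrfl
theorem f245801 : Led Lsl_gf (LP (LK LD1_c2 LD2_c41 LD3_c44)) = (LP (LK LD1_c4 LD2_c17 LD3_c2)) :=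
  Lgr Lrot76 (Lpr_af (f245788 IH) (Lpe (f167714 IH) (Lpr_gt (f167716 IH) (Lpn (LP (LK LD1_c4 LD2_c17 LD3_c2))))))
theorem f8577 : Led Lsl_et (LP (LK LD1_c1 LD2_c25 LD3_c19)) = (LP (LK LD1_c0 LD2_c39 LD3_c19)) :=
  Lre_e IH (LK LD1_c1 LD2_c25 LD3_c19) (LK LD1_c0 LD2_c39 LD3_c19) Lrfl Lrfl
theorem f179096 : Led Lsl_et (LP (LK LD1_c2 LD2_c2 LD3_c45)) = (LP (LK LD1_c0 LD2_c58 LD3_c17)) :=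
  Lre_e IH (LK LD1_c2 LD2_c2 LD3_c45) (LK LD1_c0 LD2_c58 LD3_c17) Lrfl Lrfl
theorem f179095 : Led Lsl_dt (LP (LK LD1_c2 LD2_c2 LD3_c45)) = (LP (LK LD1_c0 LD2_c58 LD3_c16)) :=
  Lre_d IH (LK LD1_c2 LD2_c2 LD3_c45) (LK LD1_c0 LD2_c58 LD3_c16) Lrfl Lrfl
theorem f179028 : Led Lsl_df (LP (LK LD1_c1 LD2_c0 LD3_c26)) = (LP (LK LD1_c0 LD2_c58 LD3_c6)) :=
  Lgr Lrot38 (Lpr_dt (K9.f179021 IH) (Lpn (LP (LK LD1_c0 LD2_c58 LD3_c6))))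
theorem f179030 : Led Lsl_et (LP (LK LD1_c0 LD2_c58 LD3_c6)) = (LP (LK LD1_c2 LD2_c2 LD3_c26)) :=
  Lre_e IH (LK LD1_c0 LD2_c58 LD3_c6) (LK LD1_c2 LD2_c2 LD3_c26) Lrfl Lrfl
theorem f7921 : Led Lsl_et (LP (LK LD1_c0 LD2_c27 LD3_c19)) = (LP (LK LD1_c1 LD2_c0 LD3_c8)) :=
  Lre_e IH (LK LD1_c0 LD2_c27 LD3_c19) (LK LD1_c1 LD2_c0 LD3_c8) Lrfl Lrfl
theorem f7924 : Led Lsl_gt (LP (LK LD1_c2 LD2_c6 LD3_c16)) = (LP (LK LD1_c1 LD2_c0 LD3_c8)) :=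
  Lre_g IH (LK LD1_c2 LD2_c6 LD3_c16) (LK LD1_c1 LD2_c0 LD3_c8) Lrfl Lrfl
theorem f7925 : Led Lsl_et (LP (LK LD1_c4 LD2_c17 LD3_c59)) = (LP (LK LD1_c2 LD2_c6 LD3_c16)) :=
  Lre_e IH (LK LD1_c4 LD2_c17 LD3_c59) (LK LD1_c2 LD2_c6 LD3_c16) Lrfl Lrfl
theorem f167226 : Led Lsl_et (LP (LK LD1_c0 LD2_c58 LD3_c16)) = (LP (LK LD1_c0 LD2_c26 LD3_c26)) :=
  Lre_e IH (LK LD1_c0 LD2_c58 LD3_c16) (LK LD1_c0 LD2_c26 LD3_c26) Lrfl Lrfl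
theorem f167227 : Led Lsl_dt (LP (LK LD1_c0 LD2_c58 LD3_c16)) = (LP (LK LD1_c2 LD2_c2 LD3_c45)) :=
  Lre_d IH (LK LD1_c0 LD2_c58 LD3_c16) (LK LD1_c2 LD2_c2 LD3_c45) Lrfl Lrfl
theorem f178850 : Led Lsl_gt (LP (LK LD1_c2 LD2_c2 LD3_c45)) = (LP (LK LD1_c4 LD2_c10 LD3_c58)) :=
  Lre_g IH (LK LD1_c2 LD2_c2 LD3_c45) (LK LD1_c4 LD2_c10 LD3_c58) Lrfl Lrfl
theorem f178518 : Led Lsl_et (LP (LK LD1_c1 LD2_c17 LD3_c30)) = (LP (LK LD1_c0 LD2_c35 LD3_c49)) :=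
  Lre_e IH (LK LD1_c1 LD2_c17 LD3_c30) (LK LD1_c0 LD2_c35 LD3_c49) Lrfl Lrfl
theorem f178519 : Led Lsl_dt (LP (LK LD1_c1 LD2_c17 LD3_c30)) = (LP (LK LD1_c0 LD2_c35 LD3_c48)) :=
  Lre_d IH (LK LD1_c1 LD2_c17 LD3_c30) (LK LD1_c0 LD2_c35 LD3_c48) Lrfl Lrfl
theorem f178845 : Led Lsl_gt (LP (LK LD1_c1 LD2_c17 LD3_c29)) = (LP (LK LD1_c0 LD2_c35 LD3_c48)) :=
  Lre_g IH (LK LD1_c1 LD2_c17 LD3_c29) (LK LD1_c0 LD2_c35 LD3_c48) Lrfl Lrfl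
theorem f527 : Led Lsl_et (LP (LK LD1_c1 LD2_c0 LD3_c8)) = (LP (LK LD1_c0 LD2_c27 LD3_c19)) :=
  Lre_e IH (LK LD1_c1 LD2_c0 LD3_c8) (LK LD1_c0 LD2_c27 LD3_c19) Lrfl Lrfl
theorem f178846 : Led Lsl_dt (LP (LK LD1_c1 LD2_c0 LD3_c8)) = (LP (LK LD1_c1 LD2_c17 LD3_c29)) :=
  Lgr Lrot136 (Lpr_et (f527 IH) (Lpe (K0.f526 IH) (Lpe (K0.f486 IH) (Lpr_dt (K9.f517 IH) (Lpe (K9.f524 IH) (Lpe (K9.f525 IH) (Lpr_gf (K9.f178830 IH) (Lpe (f178518 IH) (Lpr_dt (f178519 IH) (Lpe (f178845 IH) (Lpn (LP (LK LD1_c1 LD2_c17 LD3_c29)))))))))))))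
theorem f178851 : Led Lsl_df (LP (LK LD1_c4 LD2_c10 LD3_c58)) = (LP (LK LD1_c4 LD2_c17 LD3_c59)) :=
  Lgr Lrot168 (Lpe (f178850 IH) (Lpe (f167227 IH) (Lpr_et (f167226 IH) (Lpr_gf (K9.f178830 IH) (Lpe (f178518 IH) (Lpr_dt (f178519 IH) (Lpe (f178845 IH) (Lpe (f178846 IH) (Lpe (f7924 IH) (Lpe (f7925 IH) (Lpn (LP (LK LD1_c4 LD2_c17 LD3_c59)))))))))))))
theorem f179082 : Led Lsl_gt (LP (LK LD1_c2 LD2_c2 LD3_c26)) = (LP (LK LD1_c0 LD2_c58 LD3_c16)) :=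
  Lgr Lrot137 (Lpe (f179030 IH) (Lpe (f179028 IH) (Lpr_gf (K9.f179031 IH) (Lpe (K0.f7911 IH) (Lpr_et (f7921 IH) (Lpe (f7924 IH) (Lpe (f7925 IH) (Lpe (f178851 IH) (Lpe (f178850 IH) (Lpe (f167227 IH) (Lpn (LP (LK LD1_c0 LD2_c58 LD3_c16)))))))))))))
theorem f179774 : Led Lsl_dt (LP (LK LD1_c1 LD2_c25 LD3_c19)) = (LP (LK LD1_c2 LD2_c2 LD3_c26)) :=
  Lgr Lrot136 (Lpr_et (f8577 IH) (Lpe (K10.f8572 IH) (Lpr_ef (K0.f8543 IH) (Lpr_dt (K9.f8573 IH) (Lpe (K9.f8574 IH) (Lpe (K9.f8575 IH) (Lpr_gf (K9.f179758 IH) (Lpe (f179096 IH) (Lpr_dt (f179095 IH) (Lpe (f179082 IH) (Lpn (LP (LK LD1_c2 LD2_c2 LD3_c26)))))))))))))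
theorem f179790 : Led Lsl_df (LP (LK LD1_c1 LD2_c25 LD3_c19)) = (LP (LK LD1_c2 LD2_c2 LD3_c26)) :=
  Lgr Lrot38 (Lpr_dt (f179774 IH) (Lpn (LP (LK LD1_c2 LD2_c2 LD3_c26))))
theorem f179776 : Led Lsl_gt (LP (LK LD1_c2 LD2_c59 LD3_c13)) = (LP (LK LD1_c1 LD2_c25 LD3_c19)) :=
  Lre_g IH (LK LD1_c2 LD2_c59 LD3_c13) (LK LD1_c1 LD2_c25 LD3_c19) Lrfl Lrfl
theorem f53447 : Led Lsl_et (LP (LK LD1_c2 LD2_c2 LD3_c26)) = (LP (LK LD1_c0 LD2_c58 LD3_c6)) :=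
  Lre_e IH (LK LD1_c2 LD2_c2 LD3_c26) (LK LD1_c0 LD2_c58 LD3_c6) Lrfl Lrfl
theorem f536 : Led Lsl_gt (LP (LK LD1_c1 LD2_c0 LD3_c15)) = (LP (LK LD1_c2 LD2_c6 LD3_c33)) :=
  Lre_g IH (LK LD1_c1 LD2_c0 LD3_c15) (LK LD1_c2 LD2_c6 LD3_c33) Lrfl Lrfl
theorem f53399 : Led Lsl_et (LP (LK LD1_c4 LD2_c18 LD3_c34)) = (LP (LK LD1_c2 LD2_c6 LD3_c33)) :=
  Lre_e IH (LK LD1_c4 LD2_c18 LD3_c34) (LK LD1_c2 LD2_c6 LD3_c33) Lrfl Lrfl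
theorem f179806 : Led Lsl_df (LP (LK LD1_c2 LD2_c59 LD3_c13)) = (LP (LK LD1_c4 LD2_c18 LD3_c34)) :=
  Lgr Lrot170 (Lpr_gt (f179776 IH) (Lpr_df (f179790 IH) (Lpr_et (f53447 IH) (Lpr_gt (K9.f53440 IH) (Lpr_dt (K9.f519 IH) (Lpr_gt (K9.f53438 IH) (Lpe (K0.f27339 IH) (Lpr_et (K0.f514 IH) (Lpr_gt (f536 IH) (Lpe (f53399 IH) (Lpn (LP (LK LD1_c4 LD2_c18 LD3_c34)))))))))))))
theorem f179783 : Led Lsl_et (LP (LK LD1_c2 LD2_c59 LD3_c13)) = (LP (LK LD1_c6 LD2_c6 LD3_c15)) :=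
  Lre_e IH (LK LD1_c2 LD2_c59 LD3_c13) (LK LD1_c6 LD2_c6 LD3_c15) Lrfl Lrfl
theorem f179777 : Led Lsl_et (LP (LK LD1_c6 LD2_c6 LD3_c15)) = (LP (LK LD1_c2 LD2_c59 LD3_c13)) :=
  Lre_e IH (LK LD1_c6 LD2_c6 LD3_c15) (LK LD1_c2 LD2_c59 LD3_c13) Lrfl Lrfl
theorem f179778 : Led Lsl_df (LP (LK LD1_c4 LD2_c17 LD3_c2)) = (LP (LK LD1_c6 LD2_c6 LD3_c15)) :=
  Lgr Lrot168 (Lpe (f167716 IH) (Lpr_df (K12.f167708 IH) (Lpr_et (K12.f167645 IH) (Lpr_gf (K9.f179758 IH) (Lpe (f179096 IH) (Lpr_dt (f179095 IH) (Lpe (f179082 IH) (Lpe (f179774 IH) (Lpe (f179776 IH) (Lpe (f179777 IH) (Lpn (LP (LK LD1_c6 LD2_c6 LD3_c15)))))))))))))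
theorem f179812 : Led Lsl_et (LP (LK LD1_c2 LD2_c6 LD3_c33)) = (LP (LK LD1_c4 LD2_c18 LD3_c34)) :=
  Lre_e IH (LK LD1_c2 LD2_c6 LD3_c33) (LK LD1_c4 LD2_c18 LD3_c34) Lrfl Lrfl
theorem f27344 : Led Lsl_dt (LP (LK LD1_c4 LD2_c18 LD3_c33)) = (LP (LK LD1_c2 LD2_c6 LD3_c33)) :=
  Lre_d IH (LK LD1_c4 LD2_c18 LD3_c33) (LK LD1_c2 LD2_c6 LD3_c33) Lrfl Lrfl
theorem f179813 : Led Lsl_et (LP (LK LD1_c4 LD2_c17 LD3_c2)) = (LP (LK LD1_c4 LD2_c18 LD3_c33)) :=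
  Lgr Lrot71 (Lpr_df (f179778 IH) (Lpe (f179783 IH) (Lpr_df (f179806 IH) (Lpe (f179812 IH) (Lpe (f27344 IH) (Lpn (LP (LK LD1_c4 LD2_c18 LD3_c33))))))))
theorem f179819 : Led Lsl_ef (LP (LK LD1_c4 LD2_c17 LD3_c2)) = (LP (LK LD1_c4 LD2_c18 LD3_c33)) :=
  Lgr Lrot88 (Lpr_et (f179813 IH) (Lpn (LP (LK LD1_c4 LD2_c18 LD3_c33))))
theorem f1389 : Led Lsl_et (LP (LK LD1_c0 LD2_c58 LD3_c21)) = (LP (LK LD1_c0 LD2_c26 LD3_c28)) :=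
  Lre_e IH (LK LD1_c0 LD2_c58 LD3_c21) (LK LD1_c0 LD2_c26 LD3_c28) Lrfl Lrfl
theorem f1390 : Led Lsl_dt (LP (LK LD1_c0 LD2_c58 LD3_c21)) = (LP (LK LD1_c2 LD2_c2 LD3_c55)) :=
  Lre_d IH (LK LD1_c0 LD2_c58 LD3_c21) (LK LD1_c2 LD2_c2 LD3_c55) Lrfl Lrfl
theorem f245808 : Led Lsl_gt (LP (LK LD1_c1 LD2_c17 LD3_c31)) = (LP (LK LD1_c2 LD2_c2 LD3_c55)) :=
  Lgr Lrot139 (Lpe (f245787 IH) (Lpr_gf (f245801 IH) (Lpr_ef (f179819 IH) (Lpr_dt (f27344 IH) (Lpe (f536 IH) (Lpe (K0.f27326 IH) (Lpr_et (K0.f545 IH) (Lpe (K9.f51518 IH) (Lpe (f1389 IH) (Lpr_dt (f1390 IH) (Lpn (LP (LK LD1_c2 LD2_c2 LD3_c55)))))))))))))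
theorem f528 : Led Lsl_et (LP (LK LD1_c0 LD2_c26 LD3_c26)) = (LP (LK LD1_c0 LD2_c58 LD3_c16)) :=
  Lre_e IH (LK LD1_c0 LD2_c26 LD3_c26) (LK LD1_c0 LD2_c58 LD3_c16) Lrfl Lrfl
theorem f53466 : Led Lsl_gt (LP (LK LD1_c0 LD2_c58 LD3_c16)) = (LP (LK LD1_c2 LD2_c2 LD3_c44)) :=
  Lre_g IH (LK LD1_c0 LD2_c58 LD3_c16) (LK LD1_c2 LD2_c2 LD3_c44) Lrfl Lrfl
theorem f245822 : Led Lsl_et (LP (LK LD1_c2 LD2_c41 LD3_c44)) = (LP (LK LD1_c2 LD2_c2 LD3_c44)) :=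
  Lgr Lrot122 (Lpr_dt (f245787 IH) (Lpr_gt (f245808 IH) (Lpe (f1390 IH) (Lpr_et (f1389 IH) (Lpr_gt (K9.f51518 IH) (Lpr_dt (K0.f27339 IH) (Lpe (K9.f53457 IH) (Lpe (K9.f525 IH) (Lpr_et (f528 IH) (Lpr_gt (f53466 IH) (Lpn (LP (LK LD1_c2 LD2_c2 LD3_c44)))))))))))))
theorem f245827 : Led Lsl_ef (LP (LK LD1_c2 LD2_c41 LD3_c44)) = (LP (LK LD1_c2 LD2_c2 LD3_c44)) :=
  Lgr Lrot88 (Lpr_et (f245822 IH) (Lpn (LP (LK LD1_c2 LD2_c2 LD3_c44))))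
theorem f245797 : Led Lsl_at (LP (LK LD1_c2 LD2_c41 LD3_c44)) = (LP (LK LD1_c4 LD2_c17 LD3_c4)) :=
  Lgr Lrot100 (Lpr_af (f245788 IH) (Lpn (LP (LK LD1_c4 LD2_c17 LD3_c4))))
theorem f245768 : Led Lsl_gf (LP (LK LD1_c1 LD2_c17 LD3_c29)) = (LP (LK LD1_c2 LD2_c11 LD3_c47)) :=
  Lgr Lrot47 (Lpr_gt (f178845 IH) (Lpr_af (f245754 IH) (Lpe (f167723 IH) (Lpn (LP (LK LD1_c2 LD2_c11 LD3_c47))))))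
theorem f7757 : Led Lsl_gt (LP (LK LD1_c1 LD2_c0 LD3_c3)) = (LP (LK LD1_c2 LD2_c6 LD3_c8)) :=
  Lre_g IH (LK LD1_c1 LD2_c0 LD3_c3) (LK LD1_c2 LD2_c6 LD3_c8) Lrfl Lrfl
theorem f167721 : Led Lsl_dt (LP (LK LD1_c4 LD2_c17 LD3_c4)) = (LP (LK LD1_c2 LD2_c11 LD3_c47)) :=
  Lgr Lrot42 (Lpr_df (f167712 IH) (Lpn (LP (LK LD1_c2 LD2_c11 LD3_c47))))
theorem f245778 : Led Lsl_ef (LP (LK LD1_c2 LD2_c6 LD3_c8)) = (LP (LK LD1_c4 LD2_c17 LD3_c4)) :=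
  Lgr Lrot17 (Lpe (f7757 IH) (Lpe (K12.f1388 IH) (Lpr_dt (K9.f1387 IH) (Lpr_gf (K9.f170279 IH) (Lpe (K0.f27320 IH) (Lpr_gf (K9.f53424 IH) (Lpe (f527 IH) (Lpr_dt (f178846 IH) (Lpr_gf (f245768 IH) (Lpe (f167721 IH) (Lpn (LP (LK LD1_c4 LD2_c17 LD3_c4)))))))))))))
theorem f245830 : Led Lsl_at (LP (LK LD1_c2 LD2_c6 LD3_c8)) = (LP (LK LD1_c2 LD2_c2 LD3_c44)) :=
  Lgr Lrot80 (Lpr_ef (f245778 IH) (Lpe (f245797 IH) (Lpr_ef (f245827 IH) (Lpn (LP (LK LD1_c2 LD2_c2 LD3_c44))))))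
theorem f245835 : Led Lsl_ff (LP (LK LD1_c2 LD2_c6 LD3_c8)) = (LP (LK LD1_c2 LD2_c2 LD3_c26)) :=
  Lgr Lrot52 (Lpr_at (f245830 IH) (Lpe (f53466 IH) (Lpe (f179082 IH) (Lpn (LP (LK LD1_c2 LD2_c2 LD3_c26))))))
theorem f245843 : Led Lsl_ft (LP (LK LD1_c2 LD2_c6 LD3_c8)) = (LP (LK LD1_c2 LD2_c2 LD3_c26)) :=
  Lgr Lrot48 (Lpr_ff (f245835 IH) (Lpn (LP (LK LD1_c2 LD2_c2 LD3_c26))))
theorem f245849 : Led Lsl_ff (LP (LK LD1_c0 LD2_c59 LD3_c54)) = (LP (LK LD1_c0 LD2_c58 LD3_c6)) :=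
  Lgr Lrot72 (Lpr_et (K12.f167643 IH) (Lpr_ft (f167714 IH) (Lpe (f245778 IH) (Lpr_ft (f245843 IH) (Lpr_et (f53447 IH) (Lpn (LP (LK LD1_c0 LD2_c58 LD3_c6))))))))
theorem f245853 : Led Lsl_at (LP (LK LD1_c0 LD2_c59 LD3_c54)) = (LP (LK LD1_c0 LD2_c35 LD3_c49)) :=
  Lgr Lrot26 (Lpr_ff (f245849 IH) (Lpr_gt (K9.f53440 IH) (Lpr_gt (K9.f178496 IH) (Lpn (LP (LK LD1_c0 LD2_c35 LD3_c49))))))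
theorem f245859 : Led Lsl_af (LP (LK LD1_c0 LD2_c28 LD3_c40)) = (LP (LK LD1_c0 LD2_c15 LD3_c61)) :=
  Lgr Lrot117 (Lpe (K9.f167635 IH) (Lpr_at (f245853 IH) (Lpr_dt (K9.f168325 IH) (Lpn (LP (LK LD1_c0 LD2_c15 LD3_c61))))))
theorem f168335 : Led Lsl_ft (LP (LK LD1_c0 LD2_c35 LD3_c50)) = (LP (LK LD1_c0 LD2_c15 LD3_c61)) :=
  Lre_f IH (LK LD1_c0 LD2_c35 LD3_c50) (LK LD1_c0 LD2_c15 LD3_c61) Lrfl Lrfl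
theorem f245873 : Led Lsl_df (LP (LK LD1_c0 LD2_c59 LD3_c55)) = (LP (LK LD1_c0 LD2_c35 LD3_c50)) :=
  Lgr Lrot157 (Lpr_ct (K9.f53387 IH) (Lpe (K9.f179563 IH) (Lpr_ct (K9.f53442 IH) (Lpe (f179028 IH) (Lpr_ct (K9.f6810 IH) (Lpe (K9.f6806 IH) (Lpr_ct (f167762 IH) (Lpr_af (f245859 IH) (Lpe (f168335 IH) (Lpn (LP (LK LD1_c0 LD2_c35 LD3_c50))))))))))))
theorem f171159 : Led Lsl_dt (LP (LK LD1_c0 LD2_c26 LD3_c28)) = (LP (LK LD1_c0 LD2_c31 LD3_c38)) :=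
  Lgr Lrot113 (Lpe (K9.f1386 IH) (Lpe (K0.f483 IH) (Lpe (K9.f524 IH) (Lpr_ct (K9.f171034 IH) (Lpr_gt (K9.f262 IH) (Lpr_dt (K0.f244 IH) (Lpr_gt (K9.f263 IH) (Lpr_dt (K9.f264 IH) (Lpr_ct (K9.f268 IH) (Lpn (LP (LK LD1_c0 LD2_c31 LD3_c38))))))))))))
theorem f245889 : Led Lsl_gt (LP (LK LD1_c0 LD2_c31 LD3_c38)) = (LP (LK LD1_c0 LD2_c35 LD3_c50)) :=
  Lgr Lrot49 (Lpe (f171159 IH) (Lpe (K9.f1386 IH) (Lpe (K9.f505 IH) (Lpr_gt (K9.f1399 IH) (Lpe (K9.f178274 IH) (Lpe (K9.f178343 IH) (Lpr_dt (K9.f179577 IH) (Lpe (K9.f53387 IH) (Lpr_df (f245873 IH) (Lpn (LP (LK LD1_c0 LD2_c35 LD3_c50))))))))))))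
theorem f509 : Led Lsl_ef (LP (LK LD1_c0 LD2_c11 LD3_c45)) = (LP (LK LD1_c0 LD2_c12 LD3_c6)) :=
  Lgr Lrot88 (Lpr_et (K0.f486 IH) (Lpn (LP (LK LD1_c0 LD2_c12 LD3_c6))))
theorem f245881 : Led Lsl_dt (LP (LK LD1_c0 LD2_c59 LD3_c55)) = (LP (LK LD1_c0 LD2_c35 LD3_c50)) :=
  Lgr Lrot42 (Lpr_df (f245873 IH) (Lpn (LP (LK LD1_c0 LD2_c35 LD3_c50))))
theorem f243498 : Led Lsl_et (LP (LK LD1_c0 LD2_c59 LD3_c55)) = (LP (LK LD1_c2 LD2_c5 LD3_c52)) :=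
  Lre_e IH (LK LD1_c0 LD2_c59 LD3_c55) (LK LD1_c2 LD2_c5 LD3_c52) Lrfl Lrfl
theorem f245894 : Led Lsl_gf (LP (LK LD1_c1 LD2_c0 LD3_c3)) = (LP (LK LD1_c2 LD2_c5 LD3_c52)) :=
  Lgr Lrot141 (Lpe (K12.f1388 IH) (Lpr_dt (K9.f1387 IH) (Lpr_gt (K0.f495 IH) (Lpe (K0.f485 IH) (Lpe (f509 IH) (Lpr_gt (K9.f1386 IH) (Lpr_dt (f171159 IH) (Lpr_gt (f245889 IH) (Lpe (f245881 IH) (Lpr_et (f243498 IH) (Lpn (LP (LK LD1_c2 LD2_c5 LD3_c52)))))))))))))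
theorem f7766 : Led Lsl_et (LP (LK LD1_c1 LD2_c16 LD3_c60)) = (LP (LK LD1_c0 LD2_c35 LD3_c36)) :=
  Lre_e IH (LK LD1_c1 LD2_c16 LD3_c60) (LK LD1_c0 LD2_c35 LD3_c36) Lrfl Lrfl
theorem f179131 : Led Lsl_et (LP (LK LD1_c0 LD2_c7 LD3_c12)) = (LP (LK LD1_c0 LD2_c15 LD3_c54)) :=
  Lre_e IH (LK LD1_c0 LD2_c7 LD3_c12) (LK LD1_c0 LD2_c15 LD3_c54) Lrfl Lrfl
theorem f8525 : Led Lsl_et (LP (LK LD1_c1 LD2_c16 LD3_c37)) = (LP (LK LD1_c0 LD2_c35 LD3_c28)) :=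
  Lre_e IH (LK LD1_c1 LD2_c16 LD3_c37) (LK LD1_c0 LD2_c35 LD3_c28) Lrfl Lrfl
theorem f245899 : Led Lsl_dt (LP (LK LD1_c1 LD2_c16 LD3_c37)) = (LP (LK LD1_c2 LD2_c5 LD3_c52)) :=
  Lgr Lrot136 (Lpr_et (f8525 IH) (Lpe (K9.f7712 IH) (Lpe (f179131 IH) (Lpr_dt (K9.f168090 IH) (Lpe (K9.f168185 IH) (Lpe (K9.f168179 IH) (Lpr_gf (K9.f179116 IH) (Lpe (f7766 IH) (Lpe (K12.f7728 IH) (Lpr_gf (f245894 IH) (Lpn (LP (LK LD1_c2 LD2_c5 LD3_c52)))))))))))))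
theorem f245927 : Led Lsl_ft (LP (LK LD1_c2 LD2_c39 LD3_c45)) = (LP (LK LD1_c1 LD2_c16 LD3_c37)) :=
  Lre_f IH (LK LD1_c2 LD2_c39 LD3_c45) (LK LD1_c1 LD2_c16 LD3_c37) Lrfl Lrfl
theorem f245780 : Led Lsl_et (LP (LK LD1_c2 LD2_c6 LD3_c8)) = (LP (LK LD1_c4 LD2_c17 LD3_c4)) :=
  Lgr Lrot87 (Lpr_ef (f245778 IH) (Lpn (LP (LK LD1_c4 LD2_c17 LD3_c4))))
theorem f245824 : Led Lsl_af (LP (LK LD1_c2 LD2_c6 LD3_c8)) = (LP (LK LD1_c2 LD2_c2 LD3_c44)) :=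
  Lgr Lrot50 (Lpr_et (f245780 IH) (Lpe (f245788 IH) (Lpr_et (f245822 IH) (Lpn (LP (LK LD1_c2 LD2_c2 LD3_c44))))))
theorem f245896 : Led Lsl_ff (LP (LK LD1_c2 LD2_c2 LD3_c44)) = (LP (LK LD1_c2 LD2_c5 LD3_c52)) :=
  Lgr Lrot52 (Lpe (f245824 IH) (Lpe (f7757 IH) (Lpr_gf (f245894 IH) (Lpn (LP (LK LD1_c2 LD2_c5 LD3_c52))))))
theorem f245928 : Led Lsl_df (LP (LK LD1_c2 LD2_c39 LD3_c45)) = (LP (LK LD1_c2 LD2_c2 LD3_c44)) :=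
  Lgr Lrot78 (Lpr_ft (f245927 IH) (Lpr_dt (f245899 IH) (Lpe (f245896 IH) (Lpn (LP (LK LD1_c2 LD2_c2 LD3_c44))))))
theorem f810 : Led Lsl_at (LP (LK LD1_c4 LD2_c8 LD3_c27)) = (LP (LK LD1_c2 LD2_c2 LD3_c11)) :=
  Lre_a IH (LK LD1_c4 LD2_c8 LD3_c27) (LK LD1_c2 LD2_c2 LD3_c11) Lrfl Lrfl
theorem f811 : Led Lsl_at (LP (LK LD1_c2 LD2_c5 LD3_c36)) = (LP (LK LD1_c4 LD2_c15 LD3_c36)) :=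
  Lre_a IH (LK LD1_c2 LD2_c5 LD3_c36) (LK LD1_c4 LD2_c15 LD3_c36) Lrfl Lrfl
theorem f51492 : Led Lsl_at (LP (LK LD1_c0 LD2_c58 LD3_c30)) = (LP (LK LD1_c1 LD2_c0 LD3_c15)) :=
  Lgr Lrot67 (Lpe (K1.f537 IH) (Lpe (f810 IH) (Lpr_bf (K9.f51481 IH) (Lpe (f811 IH) (Lpe (K1.f538 IH) (Lpn (LP (LK LD1_c1 LD2_c0 LD3_c15))))))))
theorem f53393 : Led Lsl_gt (LP (LK LD1_c2 LD2_c6 LD3_c33)) = (LP (LK LD1_c1 LD2_c0 LD3_c15)) :=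
  Lgr Lrot46 (Lpe (f536 IH) (Lpe (K0.f515 IH) (Lpr_at (f51492 IH) (Lpn (LP (LK LD1_c1 LD2_c0 LD3_c15))))))
theorem f245990 : Led Lsl_gt (LP (LK LD1_c2 LD2_c39 LD3_c45)) = (LP (LK LD1_c2 LD2_c59 LD3_c13)) :=
  Lgr Lrot139 (Lpr_df (f245928 IH) (Lpe (f53466 IH) (Lpe (f528 IH) (Lpr_dt (K9.f525 IH) (Lpr_gf (K9.f53457 IH) (Lpe (K0.f27339 IH) (Lpr_et (K0.f514 IH) (Lpe (f53393 IH) (Lpe (f53399 IH) (Lpe (f179806 IH) (Lpn (LP (LK LD1_c2 LD2_c59 LD3_c13)))))))))))))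
theorem f245992 : Led Lsl_at (LP (LK LD1_c1 LD2_c16 LD3_c37)) = (LP (LK LD1_c1 LD2_c25 LD3_c19)) :=
  Lgr Lrot26 (Lpe (f245927 IH) (Lpr_gt (f245990 IH) (Lpr_gt (f179776 IH) (Lpn (LP (LK LD1_c1 LD2_c25 LD3_c19))))))
theorem f245911 : Led Lsl_et (LP (LK LD1_c0 LD2_c35 LD3_c28)) = (LP (LK LD1_c1 LD2_c16 LD3_c37)) :=
  Lre_e IH (LK LD1_c0 LD2_c35 LD3_c28) (LK LD1_c1 LD2_c16 LD3_c37) Lrfl Lrfl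
theorem f246003 : Led Lsl_af (LP (LK LD1_c0 LD2_c35 LD3_c28)) = (LP (LK LD1_c0 LD2_c39 LD3_c19)) :=
  Lgr Lrot50 (Lpr_et (f245911 IH) (Lpr_at (f245992 IH) (Lpr_et (f8577 IH) (Lpn (LP (LK LD1_c0 LD2_c39 LD3_c19))))))
theorem f246019 : Led Lsl_ft (LP (LK LD1_c0 LD2_c35 LD3_c29)) = (LP (LK LD1_c0 LD2_c39 LD3_c19)) :=
  Lgr Lrot2 (Lpr_gt (K0.f8388 IH) (Lpr_gt (K9.f7712 IH) (Lpr_af (f246003 IH) (Lpn (LP (LK LD1_c0 LD2_c39 LD3_c19))))))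
theorem f246030 : Led Lsl_ff (LP (LK LD1_c0 LD2_c35 LD3_c29)) = (LP (LK LD1_c0 LD2_c39 LD3_c19)) :=
  Lgr Lrot3 (Lpr_ft (f246019 IH) (Lpn (LP (LK LD1_c0 LD2_c39 LD3_c19))))
theorem f246041 : Led Lsl_at (LP (LK LD1_c0 LD2_c35 LD3_c29)) = (LP (LK LD1_c0 LD2_c39 LD3_c20)) :=
  Lgr Lrot26 (Lpr_ff (f246030 IH) (Lpr_gt (K10.f183464 IH) (Lpe (K9.f183352 IH) (Lpn (LP (LK LD1_c0 LD2_c39 LD3_c20))))))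
theorem f183346 : Led Lsl_dt (LP (LK LD1_c2 LD2_c59 LD3_c18)) = (LP (LK LD1_c1 LD2_c25 LD3_c21)) :=
  Lre_d IH (LK LD1_c2 LD2_c59 LD3_c18) (LK LD1_c1 LD2_c25 LD3_c21) Lrfl Lrfl
theorem f183340 : Led Lsl_dt (LP (LK LD1_c1 LD2_c25 LD3_c21)) = (LP (LK LD1_c2 LD2_c59 LD3_c18)) :=
  Lre_d IH (LK LD1_c1 LD2_c25 LD3_c21) (LK LD1_c2 LD2_c59 LD3_c18) Lrfl Lrfl
theorem f183380 : Led Lsl_ct (LP (LK LD1_c2 LD2_c59 LD3_c18)) = (LP (LK LD1_c1 LD2_c25 LD3_c46)) :=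
  Lgr Lrot7 (Lpe (f183340 IH) (Lpr_gf (K9.f183360 IH) (Lpr_df (K1.f55433 IH) (Lpe (K10.f183369 IH) (Lpr_cf (K10.f183373 IH) (Lpr_gt (K9.f9044 IH) (Lpr_dt (K9.f9028 IH) (Lpr_gt (K10.f20675 IH) (Lpr_dt (K10.f175946 IH) (Lpn (LP (LK LD1_c1 LD2_c25 LD3_c46))))))))))))
theorem f183421 : Led Lsl_cf (LP (LK LD1_c2 LD2_c59 LD3_c18)) = (LP (LK LD1_c1 LD2_c25 LD3_c46)) :=
  Lgr Lrot11 (Lpr_ct (f183380 IH) (Lpn (LP (LK LD1_c1 LD2_c25 LD3_c46))))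
theorem f8429 : Led Lsl_ft (LP (LK LD1_c0 LD2_c35 LD3_c41)) = (LP (LK LD1_c0 LD2_c15 LD3_c58)) :=
  Lre_f IH (LK LD1_c0 LD2_c35 LD3_c41) (LK LD1_c0 LD2_c15 LD3_c58) Lrfl Lrfl
theorem f246025 : Led Lsl_df (LP (LK LD1_c0 LD2_c35 LD3_c41)) = (LP (LK LD1_c0 LD2_c39 LD3_c19)) :=
  Lgr Lrot78 (Lpr_ft (f8429 IH) (Lpr_dt (K0.f8389 IH) (Lpr_ft (f246019 IH) (Lpn (LP (LK LD1_c0 LD2_c39 LD3_c19))))))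
theorem f175050 : Led Lsl_ft (LP (LK LD1_c0 LD2_c14 LD3_c35)) = (LP (LK LD1_c0 LD2_c32 LD3_c33)) :=
  Lre_f IH (LK LD1_c0 LD2_c14 LD3_c35) (LK LD1_c0 LD2_c32 LD3_c33) Lrfl Lrfl
theorem f175051 : Led Lsl_ct (LP (LK LD1_c0 LD2_c32 LD3_c33)) = (LP (LK LD1_c0 LD2_c35 LD3_c41)) :=
  Lgr Lrot40 (Lpe (f175050 IH) (Lpr_cf (K10.f174972 IH) (Lpe (f8429 IH) (Lpn (LP (LK LD1_c0 LD2_c35 LD3_c41))))))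
theorem f175063 : Led Lsl_cf (LP (LK LD1_c0 LD2_c32 LD3_c33)) = (LP (LK LD1_c0 LD2_c35 LD3_c41)) :=
  Lgr Lrot11 (Lpr_ct (f175051 IH) (Lpn (LP (LK LD1_c0 LD2_c35 LD3_c41))))
theorem f246043 : Led Lsl_df (LP (LK LD1_c0 LD2_c26 LD3_c8)) = (LP (LK LD1_c0 LD2_c32 LD3_c33)) :=
  Lgr Lrot106 (Lpe (K9.f175954 IH) (Lpr_dt (K10.f175946 IH) (Lpe (f183421 IH) (Lpr_dt (f183346 IH) (Lpr_ct (K10.f183349 IH) (Lpe (f246041 IH) (Lpr_ff (f246030 IH) (Lpe (f246025 IH) (Lpe (f175063 IH) (Lpn (LP (LK LD1_c0 LD2_c32 LD3_c33))))))))))))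
theorem f60711 : Led Lsl_ef (LP (LK LD1_c0 LD2_c11 LD3_c32)) = (LP (LK LD1_c0 LD2_c11 LD3_c32)) :=
  Lgr Lrot29 (Lpr_bt (K1.f47088 IH) (Lpr_et (K10.f60707 IH) (Lpr_bt (K10.f46964 IH) (Lpn (LP (LK LD1_c0 LD2_c11 LD3_c32))))))
theorem f181214 : Led Lsl_df (LP (LK LD1_c0 LD2_c57 LD3_c27)) = (LP (LK LD1_c0 LD2_c27 LD3_c28)) :=
  Lgr Lrot170 (Lpr_gt (K10.f28403 IH) (Lpe (K8.f8146 IH) (Lpr_et (K9.f28351 IH) (Lpr_gt (K9.f181209 IH) (Lpr_dt (K9.f6773 IH) (Lpr_gt (K9.f180227 IH) (Lpe (K9.f56528 IH) (Lpr_et (K9.f56539 IH) (Lpr_gt (K9.f179111 IH) (Lpe (K10.f6825 IH) (Lpn (LP (LK LD1_c0 LD2_c27 LD3_c28)))))))))))))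
theorem f246061 : Led Lsl_ef (LP (LK LD1_c0 LD2_c27 LD3_c26)) = (LP (LK LD1_c0 LD2_c32 LD3_c33)) :=
  Lgr Lrot17 (Lpe (K9.f6798 IH) (Lpe (K10.f6825 IH) (Lpe (f181214 IH) (Lpr_gf (K10.f193795 IH) (Lpe (K10.f59124 IH) (Lpe (K9.f101497 IH) (Lpr_ef (f60711 IH) (Lpr_dt (K1.f55438 IH) (Lpe (K9.f55605 IH) (Lpr_df (f246043 IH) (Lpn (LP (LK LD1_c0 LD2_c32 LD3_c33)))))))))))))
theorem f246065 : Led Lsl_et (LP (LK LD1_c1 LD2_c0 LD3_c26)) = (LP (LK LD1_c0 LD2_c35 LD3_c41)) :=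
  Lgr Lrot158 (Lpe (K9.f6805 IH) (Lpr_ef (f246061 IH) (Lpr_cf (f175063 IH) (Lpn (LP (LK LD1_c0 LD2_c35 LD3_c41))))))
theorem f246073 : Led Lsl_gf (LP (LK LD1_c1 LD2_c2 LD3_c47)) = (LP (LK LD1_c0 LD2_c35 LD3_c41)) :=
  Lgr Lrot141 (Lpe (K9.f183328 IH) (Lpe (K9.f171155 IH) (Lpr_gt (K9.f51518 IH) (Lpe (K0.f27338 IH) (Lpe (K0.f27340 IH) (Lpe (K9.f53457 IH) (Lpr_dt (K9.f53459 IH) (Lpe (K9.f167080 IH) (Lpe (K9.f179021 IH) (Lpr_et (f246065 IH) (Lpn (LP (LK LD1_c0 LD2_c35 LD3_c41)))))))))))))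
theorem f183347 : Led Lsl_ct (LP (LK LD1_c0 LD2_c28 LD3_c53)) = (LP (LK LD1_c1 LD2_c2 LD3_c47)) :=
  Lgr Lrot8 (Lpr_gt (K9.f20672 IH) (Lpr_dt (K9.f20653 IH) (Lpr_gt (K9.f6969 IH) (Lpr_dt (K0.f9026 IH) (Lpe (K9.f9073 IH) (Lpe (K9.f8562 IH) (Lpe (K9.f6967 IH) (Lpr_df (K9.f183334 IH) (Lpe (K9.f173196 IH) (Lpn (LP (LK LD1_c1 LD2_c2 LD3_c47))))))))))))
theorem f175956 : Led Lsl_dt (LP (LK LD1_c1 LD2_c25 LD3_c46)) = (LP (LK LD1_c0 LD2_c39 LD3_c38)) :=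
  Lre_d IH (LK LD1_c1 LD2_c25 LD3_c46) (LK LD1_c0 LD2_c39 LD3_c38) Lrfl Lrfl
theorem f176935 : Led Lsl_et (LP (LK LD1_c1 LD2_c12 LD3_c18)) = (LP (LK LD1_c1 LD2_c19 LD3_c47)) :=
  Lgr Lrot158 (Lpe (K9.f166153 IH) (Lpr_ef (K9.f176909 IH) (Lpe (K11.f176911 IH) (Lpn (LP (LK LD1_c1 LD2_c19 LD3_c47))))))
theorem f166156 : Led Lsl_dt (LP (LK LD1_c1 LD2_c12 LD3_c18)) = (LP (LK LD1_c2 LD2_c30 LD3_c37)) :=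
  Lre_d IH (LK LD1_c1 LD2_c12 LD3_c18) (LK LD1_c2 LD2_c30 LD3_c37) Lrfl Lrfl
theorem f226036 : Led Lsl_gt (LP (LK LD1_c2 LD2_c30 LD3_c37)) = (LP (LK LD1_c1 LD2_c25 LD3_c46)) :=
  Lgr Lrot112 (Lpe (f166156 IH) (Lpr_et (f176935 IH) (Lpr_gf (K12.f204844 IH) (Lpe (K12.f172728 IH) (Lpr_dt (K9.f172843 IH) (Lpr_gf (K12.f226018 IH) (Lpr_df (K12.f225933 IH) (Lpr_gf (K12.f225153 IH) (Lpe (K9.f175950 IH) (Lpr_dt (K10.f175946 IH) (Lpn (LP (LK LD1_c1 LD2_c25 LD3_c46)))))))))))))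
theorem f246055 : Led Lsl_gt (LP (LK LD1_c0 LD2_c32 LD3_c6)) = (LP (LK LD1_c0 LD2_c32 LD3_c33)) :=
  Lgr Lrot49 (Lpr_df (K11.f204868 IH) (Lpe (K11.f168999 IH) (Lpe (K9.f182472 IH) (Lpe (K11.f198645 IH) (Lpr_dt (f166156 IH) (Lpr_gt (f226036 IH) (Lpr_dt (f175956 IH) (Lpr_cf (K9.f175954 IH) (Lpr_df (f246043 IH) (Lpn (LP (LK LD1_c0 LD2_c32 LD3_c33))))))))))))
theorem f173222 : Led Lsl_bt (LP (LK LD1_c0 LD2_c24 LD3_c47)) = (LP (LK LD1_c0 LD2_c28 LD3_c5)) :=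
  Lgr Lrot127 (Lpr_bf (K10.f173220 IH) (Lpn (LP (LK LD1_c0 LD2_c28 LD3_c5))))
theorem f246079 : Led Lsl_bt (LP (LK LD1_c0 LD2_c28 LD3_c53)) = (LP (LK LD1_c1 LD2_c1 LD3_c32)) :=
  Lgr Lrot22 (Lpr_ct (f183347 IH) (Lpr_gf (f246073 IH) (Lpe (f175051 IH) (Lpe (f246055 IH) (Lpr_bf (K11.f204878 IH) (Lpr_ct (K9.f166125 IH) (Lpr_gf (K11.f198662 IH) (Lpe (K11.f173182 IH) (Lpr_bt (f173222 IH) (Lpe (K10.f173268 IH) (Lpn (LP (LK LD1_c1 LD2_c1 LD3_c32)))))))))))))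
theorem f175066 : Led Lsl_bt (LP (LK LD1_c0 LD2_c32 LD3_c33)) = (LP (LK LD1_c1 LD2_c10 LD3_c17)) :=
  Lre_b IH (LK LD1_c0 LD2_c32 LD3_c33) (LK LD1_c1 LD2_c10 LD3_c17) Lrfl Lrfl
theorem f242512 : Led Lsl_bt (LP (LK LD1_c1 LD2_c9 LD3_c32)) = (LP (LK LD1_c1 LD2_c9 LD3_c32)) :=
  Lgr Lrot95 (Lpe (f242502 IH) (Lpr_bf (K12.f227927 IH) (Lpr_df (f242510 IH) (Lpn (LP (LK LD1_c1 LD2_c9 LD3_c32))))))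
theorem f246082 : Led Lsl_gf (LP (LK LD1_c1 LD2_c10 LD3_c17)) = (LP (LK LD1_c1 LD2_c9 LD3_c32)) :=
  Lgr Lrot124 (Lpe (f175066 IH) (Lpr_ct (f175051 IH) (Lpe (f246073 IH) (Lpe (f183347 IH) (Lpr_bt (f246079 IH) (Lpr_gt (K10.f173268 IH) (Lpr_ct (K10.f173231 IH) (Lpr_gt (f242267 IH) (Lpr_cf (f242516 IH) (Lpr_bt (f242512 IH) (Lpn (LP (LK LD1_c1 LD2_c9 LD3_c32)))))))))))))
theorem f182368 : Led Lsl_ft (LP (LK LD1_c0 LD2_c32 LD3_c29)) = (LP (LK LD1_c1 LD2_c10 LD3_c17)) :=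
  Lre_f IH (LK LD1_c0 LD2_c32 LD3_c29) (LK LD1_c1 LD2_c10 LD3_c17) Lrfl Lrfl
theorem f243025 : Led Lsl_ft (LP (LK LD1_c2 LD2_c8 LD3_c19)) = (LP (LK LD1_c1 LD2_c1 LD3_c18)) :=
  Lre_f IH (LK LD1_c2 LD2_c8 LD3_c19) (LK LD1_c1 LD2_c1 LD3_c18) Lrfl Lrfl
theorem f243026 : Led Lsl_ct (LP (LK LD1_c1 LD2_c10 LD3_c17)) = (LP (LK LD1_c2 LD2_c8 LD3_c19)) :=
  Lgr Lrot40 (Lpe (f182368 IH) (Lpr_cf (f243020 IH) (Lpe (f243025 IH) (Lpn (LP (LK LD1_c2 LD2_c8 LD3_c19))))))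
theorem f227307 : Led Lsl_df (LP (LK LD1_c1 LD2_c59 LD3_c28)) = (LP (LK LD1_c0 LD2_c58 LD3_c33)) :=
  Lgr Lrot70 (Lpr_et (K12.f227303 IH) (Lpr_dt (K12.f166419 IH) (Lpr_et (K9.f166421 IH) (Lpr_dt (K11.f166433 IH) (Lpr_et (K12.f166447 IH) (Lpn (LP (LK LD1_c0 LD2_c58 LD3_c33))))))))
theorem f246088 : Led Lsl_gt (LP (LK LD1_c2 LD2_c8 LD3_c19)) = (LP (LK LD1_c2 LD2_c3 LD3_c15)) :=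
  Lgr Lrot150 (Lpe (f243026 IH) (Lpr_gf (f246082 IH) (Lpe (f242502 IH) (Lpr_gt (K12.f227918 IH) (Lpr_ct (K10.f171535 IH) (Lpr_gt (K12.f227327 IH) (Lpe (f227321 IH) (Lpr_df (f227307 IH) (Lpe (f53170 IH) (Lpn (LP (LK LD1_c2 LD2_c3 LD3_c15))))))))))))
theorem f246098 : Led Lsl_ef (LP (LK LD1_c2 LD2_c8 LD3_c19)) = (LP (LK LD1_c2 LD2_c6 LD3_c54)) :=
  Lgr Lrot167 (Lpr_gt (f246088 IH) (Lpr_dt (f237003 IH) (Lpr_gt (f182003 IH) (Lpe (f34621 IH) (Lpr_et (K12.f192997 IH) (Lpr_gt (f236991 IH) (Lpe (K12.f201279 IH) (Lpr_dt (K11.f28143 IH) (Lpr_gt (K12.f226780 IH) (Lpr_df (K12.f211435 IH) (Lpn (LP (LK LD1_c2 LD2_c6 LD3_c54)))))))))))))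
theorem f28840 : Led Lsl_et (LP (LK LD1_c0 LD2_c25 LD3_c29)) = (LP (LK LD1_c0 LD2_c56 LD3_c12)) :=
  Lre_e IH (LK LD1_c0 LD2_c25 LD3_c29) (LK LD1_c0 LD2_c56 LD3_c12) Lrfl Lrfl
theorem f241890 : Led Lsl_gt (LP (LK LD1_c0 LD2_c56 LD3_c12)) = (LP (LK LD1_c1 LD2_c58 LD3_c0)) :=
  Lgr Lrot150 (Lpr_cf (K12.f199142 IH) (Lpe (K12.f53248 IH) (Lpe (K12.f227291 IH) (Lpr_gt (K12.f212021 IH) (Lpr_ct (K11.f32071 IH) (Lpr_gt (f241031 IH) (Lpr_ct (f241880 IH) (Lpe (f34073 IH) (Lpe (f184673 IH) (Lpn (LP (LK LD1_c1 LD2_c58 LD3_c0))))))))))))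
theorem f171660 : Led Lsl_ct (LP (LK LD1_c2 LD2_c33 LD3_c12)) = (LP (LK LD1_c5 LD2_c12 LD3_c41)) :=
  Lre_c IH (LK LD1_c2 LD2_c33 LD3_c12) (LK LD1_c5 LD2_c12 LD3_c41) Lrfl Lrfl
theorem f241884 : Led Lsl_df (LP (LK LD1_c2 LD2_c33 LD3_c12)) = (LP (LK LD1_c1 LD2_c58 LD3_c0)) :=
  Lgr Lrot43 (Lpr_ct (f171660 IH) (Lpe (f231486 IH) (Lpr_ct (f201389 IH) (Lpe (f211527 IH) (Lpr_ct (K12.f211518 IH) (Lpr_dt (K12.f28993 IH) (Lpr_ct (f28960 IH) (Lpr_dt (f225592 IH) (Lpr_ct (f171663 IH) (Lpe (f240985 IH) (Lpr_ct (f201376 IH) (Lpe (f239504 IH) (Lpr_ct (f241880 IH) (Lpr_dt (f184676 IH) (Lpr_ct (f184674 IH) (Lpn (LP (LK LD1_c1 LD2_c58 LD3_c0))))))))))))))))))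
theorem f225607 : Led Lsl_et (LP (LK LD1_c0 LD2_c34 LD3_c3)) = (LP (LK LD1_c1 LD2_c13 LD3_c34)) :=
  Lre_e IH (LK LD1_c0 LD2_c34 LD3_c3) (LK LD1_c1 LD2_c13 LD3_c34) Lrfl Lrfl
theorem f246117 : Led Lsl_gf (LP (LK LD1_c2 LD2_c8 LD3_c19)) = (LP (LK LD1_c1 LD2_c13 LD3_c34)) :=
  Lgr Lrot141 (Lpr_ef (f246098 IH) (Lpe (K12.f211435 IH) (Lpr_gt (K12.f53020 IH) (Lpe (K9.f28822 IH) (Lpr_et (f28840 IH) (Lpr_gt (f241890 IH) (Lpe (f241884 IH) (Lpr_gt (f171658 IH) (Lpe (K11.f171664 IH) (Lpr_et (f225607 IH) (Lpn (LP (LK LD1_c1 LD2_c13 LD3_c34)))))))))))))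
theorem f246094 : Led Lsl_gt (LP (LK LD1_c1 LD2_c10 LD3_c17)) = (LP (LK LD1_c0 LD2_c56 LD3_c24)) :=
  Lgr Lrot180 (Lpr_ct (f243026 IH) (Lpr_gt (f246088 IH) (Lpr_dt (f237003 IH) (Lpr_gt (f182003 IH) (Lpr_dt (f34619 IH) (Lpr_ct (K12.f34628 IH) (Lpe (K12.f182398 IH) (Lpe (K12.f192848 IH) (Lpr_df (f211579 IH) (Lpn (LP (LK LD1_c0 LD2_c56 LD3_c24))))))))))))
theorem f246125 : Led Lsl_ct (LP (LK LD1_c2 LD2_c8 LD3_c19)) = (LP (LK LD1_c1 LD2_c10 LD3_c17)) :=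
  Lgr Lrot152 (Lpr_gf (f246117 IH) (Lpe (f196109 IH) (Lpe (f242305 IH) (Lpr_ct (f171545 IH) (Lpr_gt (f242331 IH) (Lpr_ct (f196351 IH) (Lpe (f240300 IH) (Lpe (f53129 IH) (Lpe (f246094 IH) (Lpn (LP (LK LD1_c1 LD2_c10 LD3_c17))))))))))))
theorem f240302 : Led Lsl_bf (LP (LK LD1_c1 LD2_c59 LD3_c15)) = (LP (LK LD1_c0 LD2_c58 LD3_c46)) :=
  Lgr Lrot93 (Lpr_dt (f240300 IH) (Lpe (f240256 IH) (Lpe (f180598 IH) (Lpn (LP (LK LD1_c0 LD2_c58 LD3_c46))))))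
theorem f240306 : Led Lsl_bt (LP (LK LD1_c1 LD2_c59 LD3_c15)) = (LP (LK LD1_c0 LD2_c58 LD3_c46)) :=
  Lgr Lrot127 (Lpr_bf (f240302 IH) (Lpn (LP (LK LD1_c0 LD2_c58 LD3_c46))))
theorem f169535 : Led Lsl_bt (LP (LK LD1_c0 LD2_c39 LD3_c18)) = (LP (LK LD1_c1 LD2_c25 LD3_c14)) :=
  Lre_b IH (LK LD1_c0 LD2_c39 LD3_c18) (LK LD1_c1 LD2_c25 LD3_c14) Lrfl Lrfl
theorem f183330 : Led Lsl_cf (LP (LK LD1_c0 LD2_c28 LD3_c53)) = (LP (LK LD1_c1 LD2_c2 LD3_c47)) :=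
  Lgr Lrot39 (Lpr_et (K9.f20682 IH) (Lpr_ct (K9.f268 IH) (Lpr_et (K9.f183328 IH) (Lpn (LP (LK LD1_c1 LD2_c2 LD3_c47))))))
theorem f195691 : Led Lsl_bt (LP (LK LD1_c2 LD2_c58 LD3_c60)) = (LP (LK LD1_c1 LD2_c57 LD3_c50)) :=
  Lgr Lrot127 (Lpr_bf (K12.f195609 IH) (Lpn (LP (LK LD1_c1 LD2_c57 LD3_c50))))
theorem f175067 : Led Lsl_bt (LP (LK LD1_c1 LD2_c16 LD3_c57)) = (LP (LK LD1_c0 LD2_c35 LD3_c41)) :=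
  Lre_b IH (LK LD1_c1 LD2_c16 LD3_c57) (LK LD1_c0 LD2_c35 LD3_c41) Lrfl Lrfl
theorem f197016 : Led Lsl_ft (LP (LK LD1_c2 LD2_c5 LD3_c16)) = (LP (LK LD1_c0 LD2_c59 LD3_c41)) :=
  Lre_f IH (LK LD1_c2 LD2_c5 LD3_c16) (LK LD1_c0 LD2_c59 LD3_c41) Lrfl Lrfl
theorem f197017 : Led Lsl_ft (LP (LK LD1_c0 LD2_c35 LD3_c35)) = (LP (LK LD1_c1 LD2_c16 LD3_c57)) :=
  Lre_f IH (LK LD1_c0 LD2_c35 LD3_c35) (LK LD1_c1 LD2_c16 LD3_c57) Lrfl Lrfl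
theorem f197018 : Led Lsl_cf (LP (LK LD1_c2 LD2_c5 LD3_c16)) = (LP (LK LD1_c1 LD2_c16 LD3_c57)) :=
  Lgr Lrot108 (Lpr_ft (f197016 IH) (Lpr_ct (K10.f197002 IH) (Lpr_ft (f197017 IH) (Lpn (LP (LK LD1_c1 LD2_c16 LD3_c57))))))
theorem f246077 : Led Lsl_gt (LP (LK LD1_c1 LD2_c25 LD3_c14)) = (LP (LK LD1_c2 LD2_c5 LD3_c16)) :=
  Lgr Lrot65 (Lpe (K12.f169537 IH) (Lpr_bt (f195691 IH) (Lpr_gf (K12.f225638 IH) (Lpe (K11.f194208 IH) (Lpr_ct (K9.f20659 IH) (Lpe (K9.f20672 IH) (Lpr_cf (f183330 IH) (Lpr_gf (f246073 IH) (Lpe (f175067 IH) (Lpe (f197018 IH) (Lpn (LP (LK LD1_c2 LD2_c5 LD3_c16)))))))))))))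
theorem f246226 : Led Lsl_bt (LP (LK LD1_c2 LD2_c8 LD3_c19)) = (LP (LK LD1_c2 LD2_c5 LD3_c16)) :=
  Lgr Lrot92 (Lpr_ct (f246125 IH) (Lpr_gt (f246094 IH) (Lpe (K12.f53130 IH) (Lpr_bt (f240306 IH) (Lpr_gt (K9.f53239 IH) (Lpr_ct (K12.f53184 IH) (Lpe (K12.f179949 IH) (Lpr_cf (K9.f177776 IH) (Lpr_bt (f169535 IH) (Lpr_gt (f246077 IH) (Lpn (LP (LK LD1_c2 LD2_c5 LD3_c16)))))))))))))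
theorem f246232 : Led Lsl_ef (LP (LK LD1_c2 LD2_c41 LD3_c12)) = (LP (LK LD1_c2 LD2_c5 LD3_c16)) :=
  Lgr Lrot29 (Lpr_bt (K12.f220211 IH) (Lpe (f246098 IH) (Lpr_bt (f246226 IH) (Lpn (LP (LK LD1_c2 LD2_c5 LD3_c16))))))
theorem f182004 : Led Lsl_ct (LP (LK LD1_c8 LD2_c3 LD3_c8)) = (LP (LK LD1_c4 LD2_c1 LD3_c11)) :=
  Lre_c IH (LK LD1_c8 LD2_c3 LD3_c8) (LK LD1_c4 LD2_c1 LD3_c11) Lrfl Lrfl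
theorem f242553 : Led Lsl_df (LP (LK LD1_c8 LD2_c3 LD3_c8)) = (LP (LK LD1_c10 LD2_c8 LD3_c25)) :=
  Lgr Lrot43 (Lpr_ct (f182004 IH) (Lpe (f237005 IH) (Lpr_ct (f53170 IH) (Lpe (f227307 IH) (Lpr_ct (K12.f227317 IH) (Lpr_dt (K12.f227319 IH) (Lpe (f242142 IH) (Lpr_dt (f242548 IH) (Lpr_ct (f196115 IH) (Lpr_dt (f196109 IH) (Lpr_ct (f196108 IH) (Lpr_dt (f187900 IH) (Lpr_ct (K10.f181141 IH) (Lpr_dt (f196105 IH) (Lpe (f242281 IH) (Lpn (LP (LK LD1_c10 LD2_c8 LD3_c25))))))))))))))))))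
theorem f246092 : Led Lsl_df (LP (LK LD1_c2 LD2_c8 LD3_c19)) = (LP (LK LD1_c1 LD2_c58 LD3_c19)) :=
  Lgr Lrot153 (Lpr_gt (f246088 IH) (Lpr_dt (f237003 IH) (Lpe (f182004 IH) (Lpr_df (f242553 IH) (Lpe (f197180 IH) (Lpe (f197181 IH) (Lpe (K12.f197174 IH) (Lpe (K1.f27872 IH) (Lpr_gt (K12.f28154 IH) (Lpn (LP (LK LD1_c1 LD2_c58 LD3_c19))))))))))))
theorem f246230 : Led Lsl_df (LP (LK LD1_c1 LD2_c14 LD3_c53)) = (LP (LK LD1_c2 LD2_c5 LD3_c16)) :=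
  Lgr Lrot12 (Lpr_bt (K12.f212296 IH) (Lpe (f246092 IH) (Lpr_bt (f246226 IH) (Lpn (LP (LK LD1_c2 LD2_c5 LD3_c16))))))
theorem f49096 : Led Lsl_gt (LP (LK LD1_c0 LD2_c34 LD3_c44)) = (LP (LK LD1_c1 LD2_c14 LD3_c53)) :=
  Lre_g IH (LK LD1_c0 LD2_c34 LD3_c44) (LK LD1_c1 LD2_c14 LD3_c53) Lrfl Lrfl
theorem f49095 : Led Lsl_et (LP (LK LD1_c0 LD2_c59 LD3_c28)) = (LP (LK LD1_c2 LD2_c4 LD3_c51)) :=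
  Lre_e IH (LK LD1_c0 LD2_c59 LD3_c28) (LK LD1_c2 LD2_c4 LD3_c51) Lrfl Lrfl
theorem f246241 : Led Lsl_gt (LP (LK LD1_c2 LD2_c41 LD3_c12)) = (LP (LK LD1_c2 LD2_c4 LD3_c51)) :=
  Lgr Lrot131 (Lpr_ef (f246232 IH) (Lpe (f246230 IH) (Lpe (f49096 IH) (Lpe (K10.f33096 IH) (Lpe (K9.f48187 IH) (Lpe (K9.f32175 IH) (Lpr_dt (K9.f32176 IH) (Lpe (K9.f48188 IH) (Lpe (K9.f45400 IH) (Lpr_et (f49095 IH) (Lpn (LP (LK LD1_c2 LD2_c4 LD3_c51)))))))))))))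
theorem f168316 : Led Lsl_bt (LP (LK LD1_c0 LD2_c15 LD3_c61)) = (LP (LK LD1_c0 LD2_c35 LD3_c46)) :=
  Lre_b IH (LK LD1_c0 LD2_c15 LD3_c61) (LK LD1_c0 LD2_c35 LD3_c46) Lrfl Lrfl
theorem f168318 : Led Lsl_bf (LP (LK LD1_c1 LD2_c10 LD3_c22)) = (LP (LK LD1_c1 LD2_c17 LD3_c16)) :=
  Lgr Lrot90 (Lpr_ct (K11.f168315 IH) (Lpr_bt (K12.f168314 IH) (Lpr_ct (K9.f168183 IH) (Lpr_bt (f168316 IH) (Lpr_ct (f168317 IH) (Lpn (LP (LK LD1_c1 LD2_c17 LD3_c16))))))))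
theorem f168336 : Led Lsl_gt (LP (LK LD1_c1 LD2_c17 LD3_c22)) = (LP (LK LD1_c0 LD2_c35 LD3_c46)) :=
  Lre_g IH (LK LD1_c1 LD2_c17 LD3_c22) (LK LD1_c0 LD2_c35 LD3_c46) Lrfl Lrfl
theorem f183785 : Led Lsl_ct (LP (LK LD1_c6 LD2_c6 LD3_c17)) = (LP (LK LD1_c4 LD2_c13 LD3_c57)) :=
  Lgr Lrot40 (Lpr_ff (K11.f183780 IH) (Lpe (K10.f49885 IH) (Lpe (f50880 IH) (Lpn (LP (LK LD1_c4 LD2_c13 LD3_c57))))))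
theorem f44973 : Led Lsl_gt (LP (LK LD1_c0 LD2_c59 LD3_c7)) = (LP (LK LD1_c2 LD2_c4 LD3_c9)) :=
  Lre_g IH (LK LD1_c0 LD2_c59 LD3_c7) (LK LD1_c2 LD2_c4 LD3_c9) Lrfl Lrfl
theorem f49544 : Led Lsl_gt (LP (LK LD1_c2 LD2_c4 LD3_c9)) = (LP (LK LD1_c2 LD2_c4 LD3_c15)) :=
  Lgr Lrot46 (Lpe (f44973 IH) (Lpr_ft (K9.f49542 IH) (Lpr_at (K9.f49445 IH) (Lpn (LP (LK LD1_c2 LD2_c4 LD3_c15))))))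
theorem f231693 : Led Lsl_ct (LP (LK LD1_c0 LD2_c59 LD3_c28)) = (LP (LK LD1_c2 LD2_c4 LD3_c9)) :=
  Lgr Lrot152 (Lpe (K9.f45399 IH) (Lpe (K1.f45131 IH) (Lpr_gt (f45188 IH) (Lpr_ct (f183672 IH) (Lpr_gt (f231684 IH) (Lpr_ct (f183785 IH) (Lpe (K11.f27415 IH) (Lpr_cf (K10.f50905 IH) (Lpe (f49544 IH) (Lpn (LP (LK LD1_c2 LD2_c4 LD3_c9))))))))))))
theorem f191759 : Led Lsl_gt (LP (LK LD1_c2 LD2_c35 LD3_c24)) = (LP (LK LD1_c1 LD2_c55 LD3_c47)) :=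
  Lgr Lrot46 (Lpr_gf (K10.f191757 IH) (Lpr_ft (K10.f27579 IH) (Lpr_at (K10.f43253 IH) (Lpn (LP (LK LD1_c1 LD2_c55 LD3_c47))))))
theorem f182072 : Led Lsl_bt (LP (LK LD1_c1 LD2_c14 LD3_c45)) = (LP (LK LD1_c2 LD2_c35 LD3_c24)) :=
  Lre_b IH (LK LD1_c1 LD2_c14 LD3_c45) (LK LD1_c2 LD2_c35 LD3_c24) Lrfl Lrfl
theorem f192101 : Led Lsl_cf (LP (LK LD1_c2 LD2_c1 LD3_c7)) = (LP (LK LD1_c1 LD2_c14 LD3_c45)) :=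
  Lgr Lrot11 (Lpr_ct (K10.f191559 IH) (Lpn (LP (LK LD1_c1 LD2_c14 LD3_c45))))
theorem f231708 : Led Lsl_bt (LP (LK LD1_c0 LD2_c59 LD3_c28)) = (LP (LK LD1_c0 LD2_c57 LD3_c39)) :=
  Lgr Lrot130 (Lpr_ct (f231693 IH) (Lpe (f44973 IH) (Lpe (K9.f49430 IH) (Lpe (K9.f50854 IH) (Lpe (f191759 IH) (Lpe (f182072 IH) (Lpe (f192101 IH) (Lpr_gf (K10.f53595 IH) (Lpe (K10.f49648 IH) (Lpe (K10.f53585 IH) (Lpn (LP (LK LD1_c0 LD2_c57 LD3_c39)))))))))))))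
theorem f48186 : Led Lsl_et (LP (LK LD1_c2 LD2_c4 LD3_c51)) = (LP (LK LD1_c0 LD2_c59 LD3_c28)) :=
  Lre_e IH (LK LD1_c2 LD2_c4 LD3_c51) (LK LD1_c0 LD2_c59 LD3_c28) Lrfl Lrfl
theorem f49932 : Led Lsl_et (LP (LK LD1_c0 LD2_c57 LD3_c39)) = (LP (LK LD1_c2 LD2_c1 LD3_c11)) :=
  Lre_e IH (LK LD1_c0 LD2_c57 LD3_c39) (LK LD1_c2 LD2_c1 LD3_c11) Lrfl Lrfl
theorem f231714 : Led Lsl_bf (LP (LK LD1_c2 LD2_c4 LD3_c51)) = (LP (LK LD1_c2 LD2_c1 LD3_c11)) :=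
  Lgr Lrot96 (Lpr_et (f48186 IH) (Lpr_bt (f231708 IH) (Lpr_et (f49932 IH) (Lpn (LP (LK LD1_c2 LD2_c1 LD3_c11))))))
theorem f246245 : Led Lsl_cf (LP (LK LD1_c1 LD2_c17 LD3_c22)) = (LP (LK LD1_c2 LD2_c1 LD3_c11)) :=
  Lgr Lrot160 (Lpr_gt (f168336 IH) (Lpe (K12.f168331 IH) (Lpe (f168318 IH) (Lpe (K12.f216413 IH) (Lpr_ct (K12.f182375 IH) (Lpe (K12.f216325 IH) (Lpe (K12.f6829 IH) (Lpe (K12.f220216 IH) (Lpr_gt (f246241 IH) (Lpr_bf (f231714 IH) (Lpn (LP (LK LD1_c2 LD2_c1 LD3_c11)))))))))))))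
theorem f1440 : Led Lsl_et (LP (LK LD1_c0 LD2_c57 LD3_c58)) = (LP (LK LD1_c0 LD2_c26 LD3_c19)) :=
  Lre_e IH (LK LD1_c0 LD2_c57 LD3_c58) (LK LD1_c0 LD2_c26 LD3_c19) Lrfl Lrfl
theorem f1441 : Led Lsl_dt (LP (LK LD1_c0 LD2_c57 LD3_c58)) = (LP (LK LD1_c2 LD2_c1 LD3_c58)) :=
  Lre_d IH (LK LD1_c0 LD2_c57 LD3_c58) (LK LD1_c2 LD2_c1 LD3_c58) Lrfl Lrfl
theorem f236254 : Led Lsl_gf (LP (LK LD1_c1 LD2_c2 LD3_c50)) = (LP (LK LD1_c2 LD2_c1 LD3_c58)) :=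
  Lgr Lrot145 (Lpe (f167756 IH) (Lpr_et (K12.f167732 IH) (Lpr_gt (f236241 IH) (Lpr_dt (f51461 IH) (Lpr_gt (K9.f51460 IH) (Lpe (K9.f50517 IH) (Lpr_et (f51441 IH) (Lpr_gt (K12.f574 IH) (Lpe (f1440 IH) (Lpr_dt (f1441 IH) (Lpn (LP (LK LD1_c2 LD2_c1 LD3_c58)))))))))))))
theorem f246255 : Led Lsl_gf (LP (LK LD1_c0 LD2_c57 LD3_c58)) = (LP (LK LD1_c2 LD2_c1 LD3_c11)) :=
  Lgr Lrot144 (Lpr_dt (f1441 IH) (Lpe (f236254 IH) (Lpr_dt (K12.f167731 IH) (Lpr_cf (K10.f187230 IH) (Lpe (f1326 IH) (Lpr_gf (f236220 IH) (Lpe (f213841 IH) (Lpe (f168336 IH) (Lpr_cf (f246245 IH) (Lpn (LP (LK LD1_c2 LD2_c1 LD3_c11))))))))))))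
theorem f220057 : Led Lsl_et (LP (LK LD1_c0 LD2_c26 LD3_c19)) = (LP (LK LD1_c0 LD2_c57 LD3_c58)) :=
  Lre_e IH (LK LD1_c0 LD2_c26 LD3_c19) (LK LD1_c0 LD2_c57 LD3_c58) Lrfl Lrfl
theorem f246234 : Led Lsl_et (LP (LK LD1_c2 LD2_c6 LD3_c55)) = (LP (LK LD1_c1 LD2_c16 LD3_c57)) :=
  Lgr Lrot158 (Lpe (f220207 IH) (Lpr_ef (f246232 IH) (Lpr_cf (f197018 IH) (Lpn (LP (LK LD1_c1 LD2_c16 LD3_c57))))))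
theorem f175065 : Led Lsl_gt (LP (LK LD1_c1 LD2_c16 LD3_c57)) = (LP (LK LD1_c2 LD2_c40 LD3_c9)) :=
  Lre_g IH (LK LD1_c1 LD2_c16 LD3_c57) (LK LD1_c2 LD2_c40 LD3_c9) Lrfl Lrfl
theorem f49900 : Led Lsl_dt (LP (LK LD1_c0 LD2_c57 LD3_c39)) = (LP (LK LD1_c2 LD2_c1 LD3_c10)) :=
  Lre_d IH (LK LD1_c0 LD2_c57 LD3_c39) (LK LD1_c2 LD2_c1 LD3_c10) Lrfl Lrfl
theorem f198889 : Led Lsl_dt (LP (LK LD1_c5 LD2_c2 LD3_c46)) = (LP (LK LD1_c9 LD2_c56 LD3_c24)) :=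
  Lre_d IH (LK LD1_c5 LD2_c2 LD3_c46) (LK LD1_c9 LD2_c56 LD3_c24) Lrfl Lrfl
theorem f214332 : Led Lsl_ff (LP (LK LD1_c5 LD2_c2 LD3_c46)) = (LP (LK LD1_c3 LD2_c58 LD3_c5)) :=
  Lgr Lrot19 (Lpr_dt (f198889 IH) (Lpr_ft (K12.f214326 IH) (Lpr_dt (K12.f43259 IH) (Lpn (LP (LK LD1_c3 LD2_c58 LD3_c5))))))
theorem f214151 : Led Lsl_et (LP (LK LD1_c5 LD2_c2 LD3_c46)) = (LP (LK LD1_c9 LD2_c56 LD3_c25)) :=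
  Lre_e IH (LK LD1_c5 LD2_c2 LD3_c46) (LK LD1_c9 LD2_c56 LD3_c25) Lrfl Lrfl
theorem f43851 : Led Lsl_af (LP (LK LD1_c3 LD2_c58 LD3_c4)) = (LP (LK LD1_c3 LD2_c58 LD3_c5)) :=
  Lgr Lrot0 (Lpr_at (K12.f43849 IH) (Lpn (LP (LK LD1_c3 LD2_c58 LD3_c5))))
theorem f44339 : Led Lsl_et (LP (LK LD1_c2 LD2_c25 LD3_c6)) = (LP (LK LD1_c3 LD2_c58 LD3_c5)) :=
  Lgr Lrot123 (Lpr_af (K9.f43481 IH) (Lpr_ef (K12.f44337 IH) (Lpr_af (f43851 IH) (Lpn (LP (LK LD1_c3 LD2_c58 LD3_c5))))))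
theorem f43671 : Led Lsl_et (LP (LK LD1_c9 LD2_c40 LD3_c34)) = (LP (LK LD1_c4 LD2_c54 LD3_c28)) :=
  Lre_e IH (LK LD1_c9 LD2_c40 LD3_c34) (LK LD1_c4 LD2_c54 LD3_c28) Lrfl Lrfl
theorem f214340 : Led Lsl_ft (LP (LK LD1_c9 LD2_c56 LD3_c25)) = (LP (LK LD1_c9 LD2_c40 LD3_c34)) :=
  Lgr Lrot86 (Lpe (f214151 IH) (Lpr_ff (f214332 IH) (Lpe (f44339 IH) (Lpe (K9.f43492 IH) (Lpe (f43671 IH) (Lpn (LP (LK LD1_c9 LD2_c40 LD3_c34))))))))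
theorem f214257 : Led Lsl_dt (LP (LK LD1_c9 LD2_c56 LD3_c25)) = (LP (LK LD1_c18 LD2_c11 LD3_c20)) :=
  Lre_d IH (LK LD1_c9 LD2_c56 LD3_c25) (LK LD1_c18 LD2_c11 LD3_c20) Lrfl Lrfl
theorem f214157 : Led Lsl_ct (LP (LK LD1_c18 LD2_c11 LD3_c20)) = (LP (LK LD1_c27 LD2_c51 LD3_c38)) :=
  Lre_c IH (LK LD1_c18 LD2_c11 LD3_c20) (LK LD1_c27 LD2_c51 LD3_c38) Lrfl Lrfl
theorem f43532 : Led Lsl_at (LP (LK LD1_c9 LD2_c39 LD3_c33)) = (LP (LK LD1_c9 LD2_c40 LD3_c5)) :=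
  Lgr Lrot100 (Lpr_af (K9.f43530 IH) (Lpn (LP (LK LD1_c9 LD2_c40 LD3_c5))))
theorem f43562 : Led Lsl_af (LP (LK LD1_c9 LD2_c40 LD3_c33)) = (LP (LK LD1_c9 LD2_c39 LD3_c60)) :=
  Lgr Lrot68 (Lpr_ct (K9.f43502 IH) (Lpr_at (f43532 IH) (Lpr_ct (K9.f43434 IH) (Lpn (LP (LK LD1_c9 LD2_c39 LD3_c60))))))
theorem f43570 : Led Lsl_et (LP (LK LD1_c9 LD2_c40 LD3_c33)) = (LP (LK LD1_c17 LD2_c47 LD3_c57)) :=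
  Lre_e IH (LK LD1_c9 LD2_c40 LD3_c33) (LK LD1_c17 LD2_c47 LD3_c57) Lrfl Lrfl
theorem f43571 : Led Lsl_et (LP (LK LD1_c17 LD2_c46 LD3_c45)) = (LP (LK LD1_c9 LD2_c39 LD3_c60)) :=
  Lre_e IH (LK LD1_c17 LD2_c46 LD3_c45) (LK LD1_c9 LD2_c39 LD3_c60) Lrfl Lrfl
theorem f43572 : Led Lsl_at (LP (LK LD1_c17 LD2_c47 LD3_c57)) = (LP (LK LD1_c17 LD2_c46 LD3_c45)) :=
  Lgr Lrot80 (Lpe (f43570 IH) (Lpr_af (f43562 IH) (Lpe (f43571 IH) (Lpn (LP (LK LD1_c17 LD2_c46 LD3_c45))))))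
theorem f43637 : Led Lsl_dt (LP (LK LD1_c27 LD2_c35 LD3_c11)) = (LP (LK LD1_c17 LD2_c47 LD3_c57)) :=
  Lre_d IH (LK LD1_c27 LD2_c35 LD3_c11) (LK LD1_c17 LD2_c47 LD3_c57) Lrfl Lrfl
theorem f43638 : Led Lsl_dt (LP (LK LD1_c17 LD2_c46 LD3_c45)) = (LP (LK LD1_c27 LD2_c33 LD3_c28)) :=
  Lre_d IH (LK LD1_c17 LD2_c46 LD3_c45) (LK LD1_c27 LD2_c33 LD3_c28) Lrfl Lrfl
theorem f43639 : Led Lsl_af (LP (LK LD1_c27 LD2_c35 LD3_c11)) = (LP (LK LD1_c27 LD2_c33 LD3_c28)) :=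
  Lgr Lrot117 (Lpr_dt (f43637 IH) (Lpr_at (f43572 IH) (Lpr_dt (f43638 IH) (Lpn (LP (LK LD1_c27 LD2_c33 LD3_c28))))))
theorem f43645 : Led Lsl_et (LP (LK LD1_c27 LD2_c35 LD3_c11)) = (LP (LK LD1_c17 LD2_c47 LD3_c60)) :=
  Lre_e IH (LK LD1_c27 LD2_c35 LD3_c11) (LK LD1_c17 LD2_c47 LD3_c60) Lrfl Lrfl
theorem f43646 : Led Lsl_et (LP (LK LD1_c17 LD2_c46 LD3_c48)) = (LP (LK LD1_c27 LD2_c33 LD3_c28)) :=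
  Lre_e IH (LK LD1_c17 LD2_c46 LD3_c48) (LK LD1_c27 LD2_c33 LD3_c28) Lrfl Lrfl
theorem f43647 : Led Lsl_at (LP (LK LD1_c17 LD2_c47 LD3_c60)) = (LP (LK LD1_c17 LD2_c46 LD3_c48)) :=
  Lgr Lrot80 (Lpe (f43645 IH) (Lpr_af (f43639 IH) (Lpe (f43646 IH) (Lpn (LP (LK LD1_c17 LD2_c46 LD3_c48))))))
theorem f43307 : Led Lsl_dt (LP (LK LD1_c9 LD2_c40 LD3_c34)) = (LP (LK LD1_c17 LD2_c47 LD3_c60)) :=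
  Lre_d IH (LK LD1_c9 LD2_c40 LD3_c34) (LK LD1_c17 LD2_c47 LD3_c60) Lrfl Lrfl
theorem f43365 : Led Lsl_dt (LP (LK LD1_c17 LD2_c46 LD3_c48)) = (LP (LK LD1_c9 LD2_c39 LD3_c61)) :=
  Lre_d IH (LK LD1_c17 LD2_c46 LD3_c48) (LK LD1_c9 LD2_c39 LD3_c61) Lrfl Lrfl
theorem f43660 : Led Lsl_af (LP (LK LD1_c9 LD2_c40 LD3_c34)) = (LP (LK LD1_c9 LD2_c39 LD3_c61)) :=
  Lgr Lrot117 (Lpr_dt (f43307 IH) (Lpr_at (f43647 IH) (Lpr_dt (f43365 IH) (Lpn (LP (LK LD1_c9 LD2_c39 LD3_c61))))))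
theorem f43662 : Led Lsl_at (LP (LK LD1_c9 LD2_c40 LD3_c34)) = (LP (LK LD1_c9 LD2_c39 LD3_c61)) :=
  Lgr Lrot100 (Lpr_af (f43660 IH) (Lpn (LP (LK LD1_c9 LD2_c39 LD3_c61))))
theorem f43367 : Led Lsl_ct (LP (LK LD1_c4 LD2_c54 LD3_c14)) = (LP (LK LD1_c9 LD2_c39 LD3_c61)) :=
  Lre_c IH (LK LD1_c4 LD2_c54 LD3_c14) (LK LD1_c9 LD2_c39 LD3_c61) Lrfl Lrfl
theorem f43355 : Led Lsl_et (LP (LK LD1_c2 LD2_c24 LD3_c61)) = (LP (LK LD1_c4 LD2_c54 LD3_c14)) :=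
  Lre_e IH (LK LD1_c2 LD2_c24 LD3_c61) (LK LD1_c4 LD2_c54 LD3_c14) Lrfl Lrfl
theorem f43357 : Led Lsl_et (LP (LK LD1_c4 LD2_c54 LD3_c14)) = (LP (LK LD1_c2 LD2_c24 LD3_c61)) :=
  Lre_e IH (LK LD1_c4 LD2_c54 LD3_c14) (LK LD1_c2 LD2_c24 LD3_c61) Lrfl Lrfl
theorem f43358 : Led Lsl_dt (LP (LK LD1_c4 LD2_c54 LD3_c14)) = (LP (LK LD1_c4 LD2_c54 LD3_c14)) :=
  Lgr Lrot77 (Lpe (f43355 IH) (Lpe (K10.f43354 IH) (Lpr_ef (K9.f43340 IH) (Lpe (K9.f43356 IH) (Lpe (f43357 IH) (Lpn (LP (LK LD1_c4 LD2_c54 LD3_c14))))))))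
theorem f43364 : Led Lsl_ct (LP (LK LD1_c9 LD2_c39 LD3_c61)) = (LP (LK LD1_c4 LD2_c54 LD3_c14)) :=
  Lre_c IH (LK LD1_c9 LD2_c39 LD3_c61) (LK LD1_c4 LD2_c54 LD3_c14) Lrfl Lrfl
theorem f43366 : Led Lsl_ct (LP (LK LD1_c27 LD2_c33 LD3_c35)) = (LP (LK LD1_c17 LD2_c46 LD3_c48)) :=
  Lre_c IH (LK LD1_c27 LD2_c33 LD3_c35) (LK LD1_c17 LD2_c46 LD3_c48) Lrfl Lrfl
theorem f214373 : Led Lsl_dt (LP (LK LD1_c27 LD2_c51 LD3_c38)) = (LP (LK LD1_c27 LD2_c33 LD3_c35)) :=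
  Lgr Lrot32 (Lpe (f214157 IH) (Lpe (f214257 IH) (Lpr_ft (f214340 IH) (Lpr_at (f43662 IH) (Lpe (f43367 IH) (Lpe (f43358 IH) (Lpe (f43364 IH) (Lpe (f43365 IH) (Lpe (f43366 IH) (Lpn (LP (LK LD1_c27 LD2_c33 LD3_c35))))))))))))
theorem f192555 : Led Lsl_et (LP (LK LD1_c2 LD2_c28 LD3_c57)) = (LP (LK LD1_c5 LD2_c2 LD3_c47)) :=
  Lre_e IH (LK LD1_c2 LD2_c28 LD3_c57) (LK LD1_c5 LD2_c2 LD3_c47) Lrfl Lrfl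
theorem f192558 : Led Lsl_dt (LP (LK LD1_c5 LD2_c2 LD3_c47)) = (LP (LK LD1_c5 LD2_c2 LD3_c47)) :=
  Lgr Lrot77 (Lpe (f192555 IH) (Lpe (K12.f192546 IH) (Lpr_ef (K10.f192549 IH) (Lpe (K12.f192556 IH) (Lpe (K12.f192557 IH) (Lpn (LP (LK LD1_c5 LD2_c2 LD3_c47))))))))
theorem f214141 : Led Lsl_ct (LP (LK LD1_c9 LD2_c56 LD3_c25)) = (LP (LK LD1_c5 LD2_c2 LD3_c47)) :=
  Lre_c IH (LK LD1_c9 LD2_c56 LD3_c25) (LK LD1_c5 LD2_c2 LD3_c47) Lrfl Lrfl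
theorem f214381 : Led Lsl_ft (LP (LK LD1_c18 LD2_c11 LD3_c20)) = (LP (LK LD1_c17 LD2_c47 LD3_c60)) :=
  Lgr Lrot142 (Lpr_dt (K12.f214142 IH) (Lpr_ct (f214141 IH) (Lpr_dt (f192558 IH) (Lpr_ct (K12.f214138 IH) (Lpr_dt (f214257 IH) (Lpr_ct (f214157 IH) (Lpr_dt (f214373 IH) (Lpr_ct (f43366 IH) (Lpe (f43647 IH) (Lpn (LP (LK LD1_c17 LD2_c47 LD3_c60))))))))))))
theorem f214143 : Led Lsl_ct (LP (LK LD1_c27 LD2_c51 LD3_c38)) = (LP (LK LD1_c18 LD2_c11 LD3_c20)) :=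
  Lre_c IH (LK LD1_c27 LD2_c51 LD3_c38) (LK LD1_c18 LD2_c11 LD3_c20) Lrfl Lrfl
theorem f43308 : Led Lsl_ct (LP (LK LD1_c17 LD2_c47 LD3_c60)) = (LP (LK LD1_c27 LD2_c35 LD3_c18)) :=
  Lre_c IH (LK LD1_c17 LD2_c47 LD3_c60) (LK LD1_c27 LD2_c35 LD3_c18) Lrfl Lrfl
theorem f214390 : Led Lsl_ff (LP (LK LD1_c27 LD2_c51 LD3_c38)) = (LP (LK LD1_c27 LD2_c35 LD3_c18)) :=
  Lgr Lrot23 (Lpr_ct (f214143 IH) (Lpr_ft (f214381 IH) (Lpr_ct (f43308 IH) (Lpn (LP (LK LD1_c27 LD2_c35 LD3_c18))))))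
theorem f214119 : Led Lsl_ct (LP (LK LD1_c28 LD2_c4 LD3_c40)) = (LP (LK LD1_c18 LD2_c30 LD3_c35)) :=
  Lre_c IH (LK LD1_c28 LD2_c4 LD3_c40) (LK LD1_c18 LD2_c30 LD3_c35) Lrfl Lrfl
theorem f214158 : Led Lsl_af (LP (LK LD1_c28 LD2_c4 LD3_c40)) = (LP (LK LD1_c27 LD2_c51 LD3_c38)) :=
  Lgr Lrot68 (Lpr_ct (f214119 IH) (Lpr_at (K12.f214148 IH) (Lpr_ct (f214157 IH) (Lpn (LP (LK LD1_c27 LD2_c51 LD3_c38))))))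
theorem f43305 : Led Lsl_ct (LP (LK LD1_c27 LD2_c35 LD3_c18)) = (LP (LK LD1_c17 LD2_c47 LD3_c60)) :=
  Lre_c IH (LK LD1_c27 LD2_c35 LD3_c18) (LK LD1_c17 LD2_c47 LD3_c60) Lrfl Lrfl
theorem f43369 : Led Lsl_ct (LP (LK LD1_c17 LD2_c46 LD3_c48)) = (LP (LK LD1_c27 LD2_c33 LD3_c35)) :=
  Lre_c IH (LK LD1_c17 LD2_c46 LD3_c48) (LK LD1_c27 LD2_c33 LD3_c35) Lrfl Lrfl
theorem f43658 : Led Lsl_af (LP (LK LD1_c27 LD2_c35 LD3_c18)) = (LP (LK LD1_c27 LD2_c33 LD3_c35)) :=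
  Lgr Lrot68 (Lpr_ct (f43305 IH) (Lpr_at (f43647 IH) (Lpr_ct (f43369 IH) (Lpn (LP (LK LD1_c27 LD2_c33 LD3_c35))))))
theorem f214395 : Led Lsl_ft (LP (LK LD1_c28 LD2_c4 LD3_c40)) = (LP (LK LD1_c27 LD2_c33 LD3_c35)) :=
  Lgr Lrot101 (Lpr_af (f214158 IH) (Lpr_ff (f214390 IH) (Lpr_af (f43658 IH) (Lpn (LP (LK LD1_c27 LD2_c33 LD3_c35))))))
theorem f43306 : Led Lsl_ct (LP (LK LD1_c4 LD2_c54 LD3_c29)) = (LP (LK LD1_c9 LD2_c40 LD3_c34)) :=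
  Lre_c IH (LK LD1_c4 LD2_c54 LD3_c29) (LK LD1_c9 LD2_c40 LD3_c34) Lrfl Lrfl
theorem f43283 : Led Lsl_ct (LP (LK LD1_c2 LD2_c25 LD3_c2)) = (LP (LK LD1_c1 LD2_c9 LD3_c48)) :=
  Lre_c IH (LK LD1_c2 LD2_c25 LD3_c2) (LK LD1_c1 LD2_c9 LD3_c48) Lrfl Lrfl
theorem f43284 : Led Lsl_ef (LP (LK LD1_c1 LD2_c9 LD3_c48)) = (LP (LK LD1_c1 LD2_c9 LD3_c48)) :=
  Lgr Lrot28 (Lpr_ct (K10.f43282 IH) (Lpr_et (K12.f43280 IH) (Lpr_ct (f43283 IH) (Lpn (LP (LK LD1_c1 LD2_c9 LD3_c48))))))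
theorem f43295 : Led Lsl_et (LP (LK LD1_c2 LD2_c25 LD3_c7)) = (LP (LK LD1_c4 LD2_c54 LD3_c29)) :=
  Lre_e IH (LK LD1_c2 LD2_c25 LD3_c7) (LK LD1_c4 LD2_c54 LD3_c29) Lrfl Lrfl
theorem f43297 : Led Lsl_et (LP (LK LD1_c4 LD2_c54 LD3_c29)) = (LP (LK LD1_c2 LD2_c25 LD3_c7)) :=
  Lre_e IH (LK LD1_c4 LD2_c54 LD3_c29) (LK LD1_c2 LD2_c25 LD3_c7) Lrfl Lrfl
theorem f43298 : Led Lsl_dt (LP (LK LD1_c4 LD2_c54 LD3_c29)) = (LP (LK LD1_c4 LD2_c54 LD3_c29)) :=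
  Lgr Lrot77 (Lpe (f43295 IH) (Lpe (K12.f43294 IH) (Lpr_ef (f43284 IH) (Lpe (K9.f43296 IH) (Lpe (f43297 IH) (Lpn (LP (LK LD1_c4 LD2_c54 LD3_c29))))))))
theorem f43303 : Led Lsl_ct (LP (LK LD1_c9 LD2_c40 LD3_c34)) = (LP (LK LD1_c4 LD2_c54 LD3_c29)) :=
  Lre_c IH (LK LD1_c9 LD2_c40 LD3_c34) (LK LD1_c4 LD2_c54 LD3_c29) Lrfl Lrfl
theorem f43304 : Led Lsl_dt (LP (LK LD1_c17 LD2_c47 LD3_c60)) = (LP (LK LD1_c9 LD2_c40 LD3_c34)) :=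
  Lre_d IH (LK LD1_c17 LD2_c47 LD3_c60) (LK LD1_c9 LD2_c40 LD3_c34) Lrfl Lrfl
theorem f214405 : Led Lsl_dt (LP (LK LD1_c28 LD2_c4 LD3_c40)) = (LP (LK LD1_c27 LD2_c35 LD3_c18)) :=
  Lgr Lrot159 (Lpr_ft (f214395 IH) (Lpe (f43658 IH) (Lpe (f43308 IH) (Lpe (f43307 IH) (Lpe (f43306 IH) (Lpe (f43298 IH) (Lpe (f43303 IH) (Lpe (f43304 IH) (Lpe (f43305 IH) (Lpn (LP (LK LD1_c27 LD2_c35 LD3_c18))))))))))))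
theorem f214122 : Led Lsl_ct (LP (LK LD1_c18 LD2_c30 LD3_c35)) = (LP (LK LD1_c28 LD2_c4 LD3_c40)) :=
  Lre_c IH (LK LD1_c18 LD2_c30 LD3_c35) (LK LD1_c28 LD2_c4 LD3_c40) Lrfl Lrfl
theorem f214120 : Led Lsl_ct (LP (LK LD1_c5 LD2_c9 LD3_c28)) = (LP (LK LD1_c10 LD2_c9 LD3_c39)) :=
  Lre_c IH (LK LD1_c5 LD2_c9 LD3_c28) (LK LD1_c10 LD2_c9 LD3_c39) Lrfl Lrfl
theorem f171649 : Led Lsl_dt (LP (LK LD1_c1 LD2_c12 LD3_c58)) = (LP (LK LD1_c2 LD2_c31 LD3_c51)) :=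
  Lre_d IH (LK LD1_c1 LD2_c12 LD3_c58) (LK LD1_c2 LD2_c31 LD3_c51) Lrfl Lrfl
theorem f214114 : Led Lsl_et (LP (LK LD1_c5 LD2_c9 LD3_c28)) = (LP (LK LD1_c2 LD2_c31 LD3_c51)) :=
  Lre_e IH (LK LD1_c5 LD2_c9 LD3_c28) (LK LD1_c2 LD2_c31 LD3_c51) Lrfl Lrfl
theorem f214115 : Led Lsl_dt (LP (LK LD1_c5 LD2_c9 LD3_c28)) = (LP (LK LD1_c5 LD2_c9 LD3_c28)) :=
  Lgr Lrot77 (Lpe (K12.f214113 IH) (Lpe (f171649 IH) (Lpr_ef (K12.f214109 IH) (Lpe (K12.f190992 IH) (Lpe (f214114 IH) (Lpn (LP (LK LD1_c5 LD2_c9 LD3_c28))))))))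
theorem f214118 : Led Lsl_dt (LP (LK LD1_c18 LD2_c30 LD3_c35)) = (LP (LK LD1_c10 LD2_c9 LD3_c39)) :=
  Lre_d IH (LK LD1_c18 LD2_c30 LD3_c35) (LK LD1_c10 LD2_c9 LD3_c39) Lrfl Lrfl
theorem f43650 : Led Lsl_af (LP (LK LD1_c17 LD2_c47 LD3_c60)) = (LP (LK LD1_c17 LD2_c46 LD3_c48)) :=
  Lgr Lrot0 (Lpr_at (f43647 IH) (Lpn (LP (LK LD1_c17 LD2_c46 LD3_c48))))
theorem f214411 : Led Lsl_ft (LP (LK LD1_c18 LD2_c30 LD3_c35)) = (LP (LK LD1_c17 LD2_c46 LD3_c48)) :=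
  Lgr Lrot142 (Lpr_dt (f214118 IH) (Lpr_ct (K12.f214117 IH) (Lpr_dt (f214115 IH) (Lpr_ct (f214120 IH) (Lpr_dt (K12.f214121 IH) (Lpr_ct (f214122 IH) (Lpr_dt (f214405 IH) (Lpr_ct (f43305 IH) (Lpr_af (f43650 IH) (Lpn (LP (LK LD1_c17 LD2_c46 LD3_c48))))))))))))
theorem f214154 : Led Lsl_bt (LP (LK LD1_c28 LD2_c4 LD3_c37)) = (LP (LK LD1_c18 LD2_c30 LD3_c35)) :=
  Lre_b IH (LK LD1_c28 LD2_c4 LD3_c37) (LK LD1_c18 LD2_c30 LD3_c35) Lrfl Lrfl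
theorem f43654 : Led Lsl_bt (LP (LK LD1_c17 LD2_c46 LD3_c48)) = (LP (LK LD1_c27 LD2_c33 LD3_c20)) :=
  Lre_b IH (LK LD1_c17 LD2_c46 LD3_c48) (LK LD1_c27 LD2_c33 LD3_c20) Lrfl Lrfl
theorem f214415 : Led Lsl_ff (LP (LK LD1_c28 LD2_c4 LD3_c37)) = (LP (LK LD1_c27 LD2_c33 LD3_c20)) :=
  Lgr Lrot25 (Lpr_bt (f214154 IH) (Lpr_ft (f214411 IH) (Lpr_bt (f43654 IH) (Lpn (LP (LK LD1_c27 LD2_c33 LD3_c20))))))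
theorem f214425 : Led Lsl_ft (LP (LK LD1_c28 LD2_c4 LD3_c37)) = (LP (LK LD1_c27 LD2_c33 LD3_c20)) :=
  Lgr Lrot48 (Lpr_ff (f214415 IH) (Lpn (LP (LK LD1_c27 LD2_c33 LD3_c20))))
theorem f214428 : Led Lsl_dt (LP (LK LD1_c18 LD2_c30 LD3_c33)) = (LP (LK LD1_c28 LD2_c4 LD3_c37)) :=
  Lre_d IH (LK LD1_c18 LD2_c30 LD3_c33) (LK LD1_c28 LD2_c4 LD3_c37) Lrfl Lrfl
theorem f214427 : Led Lsl_dt (LP (LK LD1_c27 LD2_c33 LD3_c20)) = (LP (LK LD1_c17 LD2_c46 LD3_c38)) :=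
  Lre_d IH (LK LD1_c27 LD2_c33 LD3_c20) (LK LD1_c17 LD2_c46 LD3_c38) Lrfl Lrfl
theorem f214429 : Led Lsl_ff (LP (LK LD1_c18 LD2_c30 LD3_c33)) = (LP (LK LD1_c17 LD2_c46 LD3_c38)) :=
  Lgr Lrot19 (Lpr_dt (f214428 IH) (Lpr_ft (f214425 IH) (Lpr_dt (f214427 IH) (Lpn (LP (LK LD1_c17 LD2_c46 LD3_c38))))))
theorem f214434 : Led Lsl_et (LP (LK LD1_c18 LD2_c30 LD3_c33)) = (LP (LK LD1_c10 LD2_c9 LD3_c37)) :=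
  Lre_e IH (LK LD1_c18 LD2_c30 LD3_c33) (LK LD1_c10 LD2_c9 LD3_c37) Lrfl Lrfl
theorem f44375 : Led Lsl_et (LP (LK LD1_c9 LD2_c39 LD3_c55)) = (LP (LK LD1_c17 LD2_c46 LD3_c38)) :=
  Lre_e IH (LK LD1_c9 LD2_c39 LD3_c55) (LK LD1_c17 LD2_c46 LD3_c38) Lrfl Lrfl
theorem f44374 : Led Lsl_ft (LP (LK LD1_c4 LD2_c54 LD3_c11)) = (LP (LK LD1_c9 LD2_c39 LD3_c55)) :=
  Lre_f IH (LK LD1_c4 LD2_c54 LD3_c11) (LK LD1_c9 LD2_c39 LD3_c55) Lrfl Lrfl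
theorem f214435 : Led Lsl_ft (LP (LK LD1_c10 LD2_c9 LD3_c37)) = (LP (LK LD1_c7 LD2_c57 LD3_c33)) :=
  Lgr Lrot86 (Lpe (f214434 IH) (Lpr_ff (f214429 IH) (Lpe (f44375 IH) (Lpe (f44374 IH) (Lpr_ef (K12.f44366 IH) (Lpn (LP (LK LD1_c7 LD2_c57 LD3_c33))))))))
theorem f214444 : Led Lsl_ff (LP (LK LD1_c10 LD2_c9 LD3_c37)) = (LP (LK LD1_c7 LD2_c57 LD3_c33)) :=
  Lgr Lrot3 (Lpr_ft (f214435 IH) (Lpn (LP (LK LD1_c7 LD2_c57 LD3_c33))))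
theorem f214448 : Led Lsl_dt (LP (LK LD1_c10 LD2_c9 LD3_c37)) = (LP (LK LD1_c18 LD2_c30 LD3_c32)) :=
  Lre_d IH (LK LD1_c10 LD2_c9 LD3_c37) (LK LD1_c18 LD2_c30 LD3_c32) Lrfl Lrfl
theorem f214451 : Led Lsl_ft (LP (LK LD1_c18 LD2_c30 LD3_c32)) = (LP (LK LD1_c15 LD2_c0 LD3_c44)) :=
  Lgr Lrot54 (Lpe (f214448 IH) (Lpr_ff (f214444 IH) (Lpe (K12.f31489 IH) (Lpn (LP (LK LD1_c15 LD2_c0 LD3_c44))))))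
theorem f214236 : Led Lsl_at (LP (LK LD1_c28 LD2_c4 LD3_c33)) = (LP (LK LD1_c18 LD2_c30 LD3_c32)) :=
  Lre_a IH (LK LD1_c28 LD2_c4 LD3_c33) (LK LD1_c18 LD2_c30 LD3_c32) Lrfl Lrfl
theorem f43864 : Led Lsl_at (LP (LK LD1_c15 LD2_c0 LD3_c44)) = (LP (LK LD1_c24 LD2_c48 LD3_c12)) :=
  Lre_a IH (LK LD1_c15 LD2_c0 LD3_c44) (LK LD1_c24 LD2_c48 LD3_c12) Lrfl Lrfl
theorem f214456 : Led Lsl_ff (LP (LK LD1_c28 LD2_c4 LD3_c33)) = (LP (LK LD1_c24 LD2_c48 LD3_c12)) :=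
  Lgr Lrot30 (Lpr_at (f214236 IH) (Lpr_ft (f214451 IH) (Lpr_at (f43864 IH) (Lpn (LP (LK LD1_c24 LD2_c48 LD3_c12))))))
theorem f214463 : Led Lsl_ft (LP (LK LD1_c28 LD2_c4 LD3_c33)) = (LP (LK LD1_c24 LD2_c48 LD3_c12)) :=
  Lgr Lrot48 (Lpr_ff (f214456 IH) (Lpn (LP (LK LD1_c24 LD2_c48 LD3_c12))))
theorem f214204 : Led Lsl_bt (LP (LK LD1_c10 LD2_c9 LD3_c38)) = (LP (LK LD1_c18 LD2_c30 LD3_c32)) :=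
  Lre_b IH (LK LD1_c10 LD2_c9 LD3_c38) (LK LD1_c18 LD2_c30 LD3_c32) Lrfl Lrfl
theorem f214205 : Led Lsl_at (LP (LK LD1_c18 LD2_c30 LD3_c32)) = (LP (LK LD1_c28 LD2_c4 LD3_c33)) :=
  Lre_a IH (LK LD1_c18 LD2_c30 LD3_c32) (LK LD1_c28 LD2_c4 LD3_c33) Lrfl Lrfl
theorem f214206 : Led Lsl_bt (LP (LK LD1_c18 LD2_c11 LD3_c17)) = (LP (LK LD1_c9 LD2_c56 LD3_c24)) :=
  Lre_b IH (LK LD1_c18 LD2_c11 LD3_c17) (LK LD1_c9 LD2_c56 LD3_c24) Lrfl Lrfl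
theorem f214207 : Led Lsl_at (LP (LK LD1_c27 LD2_c51 LD3_c27)) = (LP (LK LD1_c18 LD2_c11 LD3_c17)) :=
  Lre_a IH (LK LD1_c27 LD2_c51 LD3_c27) (LK LD1_c18 LD2_c11 LD3_c17) Lrfl Lrfl
theorem f214208 : Led Lsl_bt (LP (LK LD1_c28 LD2_c4 LD3_c33)) = (LP (LK LD1_c27 LD2_c51 LD3_c27)) :=
  Lgr Lrot62 (Lpe (f214205 IH) (Lpe (f214204 IH) (Lpr_af (K12.f214180 IH) (Lpe (f214206 IH) (Lpe (f214207 IH) (Lpn (LP (LK LD1_c27 LD2_c51 LD3_c27))))))))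
theorem f214210 : Led Lsl_bf (LP (LK LD1_c28 LD2_c4 LD3_c33)) = (LP (LK LD1_c27 LD2_c51 LD3_c27)) :=
  Lgr Lrot24 (Lpr_bt (f214208 IH) (Lpn (LP (LK LD1_c27 LD2_c51 LD3_c27))))
theorem f43863 : Led Lsl_bt (LP (LK LD1_c7 LD2_c57 LD3_c34)) = (LP (LK LD1_c15 LD2_c0 LD3_c44)) :=
  Lre_b IH (LK LD1_c7 LD2_c57 LD3_c34) (LK LD1_c15 LD2_c0 LD3_c44) Lrfl Lrfl
theorem f43865 : Led Lsl_bt (LP (LK LD1_c15 LD2_c0 LD3_c51)) = (LP (LK LD1_c7 LD2_c57 LD3_c36)) :=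
  Lre_b IH (LK LD1_c15 LD2_c0 LD3_c51) (LK LD1_c7 LD2_c57 LD3_c36) Lrfl Lrfl
theorem f43866 : Led Lsl_at (LP (LK LD1_c24 LD2_c48 LD3_c25)) = (LP (LK LD1_c15 LD2_c0 LD3_c51)) :=
  Lre_a IH (LK LD1_c24 LD2_c48 LD3_c25) (LK LD1_c15 LD2_c0 LD3_c51) Lrfl Lrfl
theorem f43867 : Led Lsl_bt (LP (LK LD1_c24 LD2_c48 LD3_c12)) = (LP (LK LD1_c24 LD2_c48 LD3_c25)) :=
  Lgr Lrot62 (Lpe (f43864 IH) (Lpe (f43863 IH) (Lpr_af (K12.f43858 IH) (Lpe (f43865 IH) (Lpe (f43866 IH) (Lpn (LP (LK LD1_c24 LD2_c48 LD3_c25))))))))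
theorem f214465 : Led Lsl_ff (LP (LK LD1_c27 LD2_c51 LD3_c27)) = (LP (LK LD1_c24 LD2_c48 LD3_c25)) :=
  Lgr Lrot25 (Lpe (f214210 IH) (Lpr_ft (f214463 IH) (Lpr_bt (f43867 IH) (Lpn (LP (LK LD1_c24 LD2_c48 LD3_c25))))))
theorem f214213 : Led Lsl_dt (LP (LK LD1_c27 LD2_c51 LD3_c27)) = (LP (LK LD1_c18 LD2_c11 LD3_c16)) :=
  Lre_d IH (LK LD1_c27 LD2_c51 LD3_c27) (LK LD1_c18 LD2_c11 LD3_c16) Lrfl Lrfl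
theorem f43893 : Led Lsl_dt (LP (LK LD1_c15 LD2_c0 LD3_c50)) = (LP (LK LD1_c24 LD2_c48 LD3_c25)) :=
  Lre_d IH (LK LD1_c15 LD2_c0 LD3_c50) (LK LD1_c24 LD2_c48 LD3_c25) Lrfl Lrfl
theorem f214467 : Led Lsl_ft (LP (LK LD1_c18 LD2_c11 LD3_c16)) = (LP (LK LD1_c15 LD2_c0 LD3_c50)) :=
  Lgr Lrot54 (Lpe (f214213 IH) (Lpr_ff (f214465 IH) (Lpe (f43893 IH) (Lpn (LP (LK LD1_c15 LD2_c0 LD3_c50))))))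
theorem f214478 : Led Lsl_ff (LP (LK LD1_c18 LD2_c11 LD3_c16)) = (LP (LK LD1_c15 LD2_c0 LD3_c50)) :=
  Lgr Lrot3 (Lpr_ft (f214467 IH) (Lpn (LP (LK LD1_c15 LD2_c0 LD3_c50))))
theorem f43483 : Led Lsl_bt (LP (LK LD1_c4 LD2_c54 LD3_c26)) = (LP (LK LD1_c2 LD2_c25 LD3_c6)) :=
  Lre_b IH (LK LD1_c4 LD2_c54 LD3_c26) (LK LD1_c2 LD2_c25 LD3_c6) Lrfl Lrfl
theorem f45018 : Led Lsl_bt (LP (LK LD1_c4 LD2_c13 LD3_c40)) = (LP (LK LD1_c8 LD2_c26 LD3_c12)) :=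
  Lre_b IH (LK LD1_c4 LD2_c13 LD3_c40) (LK LD1_c8 LD2_c26 LD3_c12) Lrfl Lrfl
theorem f50827 : Led Lsl_cf (LP (LK LD1_c4 LD2_c54 LD3_c26)) = (LP (LK LD1_c8 LD2_c26 LD3_c12)) :=
  Lgr Lrot97 (Lpr_bt (f43483 IH) (Lpr_ct (K10.f43415 IH) (Lpr_bt (K9.f50821 IH) (Lpr_ct (f44977 IH) (Lpr_bt (f45018 IH) (Lpn (LP (LK LD1_c8 LD2_c26 LD3_c12))))))))
theorem f51298 : Led Lsl_ct (LP (LK LD1_c4 LD2_c54 LD3_c26)) = (LP (LK LD1_c8 LD2_c26 LD3_c12)) :=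
  Lgr Lrot59 (Lpr_cf (f50827 IH) (Lpn (LP (LK LD1_c8 LD2_c26 LD3_c12))))
theorem f43486 : Led Lsl_at (LP (LK LD1_c4 LD2_c54 LD3_c11)) = (LP (LK LD1_c9 LD2_c39 LD3_c53)) :=
  Lre_a IH (LK LD1_c4 LD2_c54 LD3_c11) (LK LD1_c9 LD2_c39 LD3_c53) Lrfl Lrfl
theorem f31484 : Led Lsl_at (LP (LK LD1_c15 LD2_c0 LD3_c43)) = (LP (LK LD1_c7 LD2_c57 LD3_c33)) :=
  Lre_a IH (LK LD1_c15 LD2_c0 LD3_c43) (LK LD1_c7 LD2_c57 LD3_c33) Lrfl Lrfl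
theorem f44369 : Led Lsl_et (LP (LK LD1_c9 LD2_c39 LD3_c53)) = (LP (LK LD1_c15 LD2_c0 LD3_c43)) :=
  Lgr Lrot123 (Lpe (f43486 IH) (Lpr_ef (K12.f44366 IH) (Lpe (f31484 IH) (Lpn (LP (LK LD1_c15 LD2_c0 LD3_c43))))))
theorem f44403 : Led Lsl_ef (LP (LK LD1_c9 LD2_c39 LD3_c53)) = (LP (LK LD1_c15 LD2_c0 LD3_c43)) :=
  Lgr Lrot88 (Lpr_et (f44369 IH) (Lpn (LP (LK LD1_c15 LD2_c0 LD3_c43))))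
theorem f43484 : Led Lsl_at (LP (LK LD1_c9 LD2_c40 LD3_c26)) = (LP (LK LD1_c4 LD2_c54 LD3_c26)) :=
  Lre_a IH (LK LD1_c9 LD2_c40 LD3_c26) (LK LD1_c4 LD2_c54 LD3_c26) Lrfl Lrfl
theorem f43485 : Led Lsl_bt (LP (LK LD1_c2 LD2_c24 LD3_c60)) = (LP (LK LD1_c4 LD2_c54 LD3_c11)) :=
  Lre_b IH (LK LD1_c2 LD2_c24 LD3_c60) (LK LD1_c4 LD2_c54 LD3_c11) Lrfl Lrfl
theorem f43487 : Led Lsl_bf (LP (LK LD1_c9 LD2_c40 LD3_c26)) = (LP (LK LD1_c9 LD2_c39 LD3_c53)) :=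
  Lgr Lrot81 (Lpr_at (f43484 IH) (Lpr_bt (f43483 IH) (Lpr_at (K9.f43467 IH) (Lpr_bt (f43485 IH) (Lpr_at (f43486 IH) (Lpn (LP (LK LD1_c9 LD2_c39 LD3_c53))))))))
theorem f31498 : Led Lsl_bt (LP (LK LD1_c7 LD2_c57 LD3_c33)) = (LP (LK LD1_c3 LD2_c58 LD3_c4)) :=
  Lre_b IH (LK LD1_c7 LD2_c57 LD3_c33) (LK LD1_c3 LD2_c58 LD3_c4) Lrfl Lrfl
theorem f43853 : Led Lsl_bt (LP (LK LD1_c3 LD2_c58 LD3_c5)) = (LP (LK LD1_c7 LD2_c57 LD3_c35)) :=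
  Lre_b IH (LK LD1_c3 LD2_c58 LD3_c5) (LK LD1_c7 LD2_c57 LD3_c35) Lrfl Lrfl
theorem f43854 : Led Lsl_at (LP (LK LD1_c7 LD2_c57 LD3_c35)) = (LP (LK LD1_c15 LD2_c0 LD3_c50)) :=
  Lre_a IH (LK LD1_c7 LD2_c57 LD3_c35) (LK LD1_c15 LD2_c0 LD3_c50) Lrfl Lrfl
theorem f43855 : Led Lsl_bf (LP (LK LD1_c15 LD2_c0 LD3_c43)) = (LP (LK LD1_c15 LD2_c0 LD3_c50)) :=
  Lgr Lrot81 (Lpr_at (f31484 IH) (Lpr_bt (f31498 IH) (Lpr_at (K12.f43849 IH) (Lpr_bt (f43853 IH) (Lpr_at (f43854 IH) (Lpn (LP (LK LD1_c15 LD2_c0 LD3_c50))))))))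
theorem f44405 : Led Lsl_et (LP (LK LD1_c9 LD2_c40 LD3_c26)) = (LP (LK LD1_c15 LD2_c0 LD3_c50)) :=
  Lgr Lrot74 (Lpr_bf (f43487 IH) (Lpr_ef (f44403 IH) (Lpr_bf (f43855 IH) (Lpn (LP (LK LD1_c15 LD2_c0 LD3_c50))))))
theorem f43696 : Led Lsl_at (LP (LK LD1_c4 LD2_c54 LD3_c26)) = (LP (LK LD1_c9 LD2_c40 LD3_c26)) :=
  Lre_a IH (LK LD1_c4 LD2_c54 LD3_c26) (LK LD1_c9 LD2_c40 LD3_c26) Lrfl Lrfl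
theorem f43897 : Led Lsl_at (LP (LK LD1_c15 LD2_c0 LD3_c50)) = (LP (LK LD1_c7 LD2_c57 LD3_c35)) :=
  Lre_a IH (LK LD1_c15 LD2_c0 LD3_c50) (LK LD1_c7 LD2_c57 LD3_c35) Lrfl Lrfl
theorem f44407 : Led Lsl_ef (LP (LK LD1_c4 LD2_c54 LD3_c26)) = (LP (LK LD1_c7 LD2_c57 LD3_c35)) :=
  Lgr Lrot20 (Lpr_at (f43696 IH) (Lpr_et (f44405 IH) (Lpr_at (f43897 IH) (Lpn (LP (LK LD1_c7 LD2_c57 LD3_c35))))))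
theorem f45007 : Led Lsl_et (LP (LK LD1_c4 LD2_c7 LD3_c35)) = (LP (LK LD1_c4 LD2_c13 LD3_c40)) :=
  Lgr Lrot158 (Lpe (K9.f45005 IH) (Lpr_ef (K8.f44980 IH) (Lpe (K12.f45006 IH) (Lpn (LP (LK LD1_c4 LD2_c13 LD3_c40))))))
theorem f45017 : Led Lsl_bt (LP (LK LD1_c8 LD2_c15 LD3_c8)) = (LP (LK LD1_c4 LD2_c7 LD3_c35)) :=
  Lre_b IH (LK LD1_c8 LD2_c15 LD3_c8) (LK LD1_c4 LD2_c7 LD3_c35) Lrfl Lrfl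
theorem f45019 : Led Lsl_ef (LP (LK LD1_c8 LD2_c15 LD3_c8)) = (LP (LK LD1_c8 LD2_c26 LD3_c12)) :=
  Lgr Lrot29 (Lpr_bt (f45017 IH) (Lpr_et (f45007 IH) (Lpr_bt (f45018 IH) (Lpn (LP (LK LD1_c8 LD2_c26 LD3_c12))))))
theorem f51305 : Led Lsl_cf (LP (LK LD1_c7 LD2_c57 LD3_c35)) = (LP (LK LD1_c8 LD2_c15 LD3_c8)) :=
  Lgr Lrot39 (Lpe (f44407 IH) (Lpr_ct (f51298 IH) (Lpe (f45019 IH) (Lpn (LP (LK LD1_c8 LD2_c15 LD3_c8))))))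
theorem f45047 : Led Lsl_at (LP (LK LD1_c15 LD2_c31 LD3_c2)) = (LP (LK LD1_c8 LD2_c15 LD3_c8)) :=
  Lre_a IH (LK LD1_c15 LD2_c31 LD3_c2) (LK LD1_c8 LD2_c15 LD3_c8) Lrfl Lrfl
theorem f51308 : Led Lsl_ct (LP (LK LD1_c15 LD2_c0 LD3_c50)) = (LP (LK LD1_c15 LD2_c31 LD3_c2)) :=
  Lgr Lrot111 (Lpe (f43854 IH) (Lpr_cf (f51305 IH) (Lpe (f45047 IH) (Lpn (LP (LK LD1_c15 LD2_c31 LD3_c2))))))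
theorem f51318 : Led Lsl_cf (LP (LK LD1_c15 LD2_c0 LD3_c50)) = (LP (LK LD1_c15 LD2_c31 LD3_c2)) :=
  Lgr Lrot11 (Lpr_ct (f51308 IH) (Lpn (LP (LK LD1_c15 LD2_c31 LD3_c2))))
theorem f188331 : Led Lsl_df (LP (LK LD1_c5 LD2_c17 LD3_c49)) = (LP (LK LD1_c8 LD2_c16 LD3_c18)) :=
  Lgr Lrot162 (Lpr_cf (K10.f188325 IH) (Lpe (K10.f184108 IH) (Lpe (K10.f3744 IH) (Lpe (K10.f165899 IH) (Lpr_dt (K10.f48792 IH) (Lpr_gt (K10.f184189 IH) (Lpe (K10.f188329 IH) (Lpr_gt (K10.f49351 IH) (Lpr_ct (K10.f49571 IH) (Lpn (LP (LK LD1_c8 LD2_c16 LD3_c18))))))))))))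
theorem f188320 : Led Lsl_et (LP (LK LD1_c5 LD2_c17 LD3_c49)) = (LP (LK LD1_c10 LD2_c25 LD3_c14)) :=
  Lre_e IH (LK LD1_c5 LD2_c17 LD3_c49) (LK LD1_c10 LD2_c25 LD3_c14) Lrfl Lrfl
theorem f188344 : Led Lsl_dt (LP (LK LD1_c10 LD2_c25 LD3_c14)) = (LP (LK LD1_c18 LD2_c54 LD3_c21)) :=
  Lre_d IH (LK LD1_c10 LD2_c25 LD3_c14) (LK LD1_c18 LD2_c54 LD3_c21) Lrfl Lrfl
theorem f49364 : Led Lsl_dt (LP (LK LD1_c25 LD2_c26 LD3_c46)) = (LP (LK LD1_c15 LD2_c33 LD3_c9)) :=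
  Lre_d IH (LK LD1_c25 LD2_c26 LD3_c46) (LK LD1_c15 LD2_c33 LD3_c9) Lrfl Lrfl
theorem f188400 : Led Lsl_et (LP (LK LD1_c18 LD2_c54 LD3_c21)) = (LP (LK LD1_c25 LD2_c26 LD3_c46)) :=
  Lgr Lrot71 (Lpe (f188344 IH) (Lpe (f188320 IH) (Lpr_df (f188331 IH) (Lpe (K10.f53496 IH) (Lpe (f49364 IH) (Lpn (LP (LK LD1_c25 LD2_c26 LD3_c46))))))))
theorem f188428 : Led Lsl_ef (LP (LK LD1_c18 LD2_c54 LD3_c21)) = (LP (LK LD1_c25 LD2_c26 LD3_c46)) :=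
  Lgr Lrot88 (Lpr_et (f188400 IH) (Lpn (LP (LK LD1_c25 LD2_c26 LD3_c46))))
theorem f188433 : Led Lsl_bt (LP (LK LD1_c18 LD2_c54 LD3_c21)) = (LP (LK LD1_c28 LD2_c22 LD3_c8)) :=
  Lre_b IH (LK LD1_c18 LD2_c54 LD3_c21) (LK LD1_c28 LD2_c22 LD3_c8) Lrfl Lrfl
theorem f53537 : Led Lsl_bt (LP (LK LD1_c31 LD2_c54 LD3_c2)) = (LP (LK LD1_c25 LD2_c26 LD3_c46)) :=
  Lre_b IH (LK LD1_c31 LD2_c54 LD3_c2) (LK LD1_c25 LD2_c26 LD3_c46) Lrfl Lrfl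
theorem f188434 : Led Lsl_et (LP (LK LD1_c28 LD2_c22 LD3_c8)) = (LP (LK LD1_c31 LD2_c54 LD3_c2)) :=
  Lgr Lrot74 (Lpe (f188433 IH) (Lpr_ef (f188428 IH) (Lpe (f53537 IH) (Lpn (LP (LK LD1_c31 LD2_c54 LD3_c2))))))
theorem f188438 : Led Lsl_dt (LP (LK LD1_c18 LD2_c54 LD3_c20)) = (LP (LK LD1_c28 LD2_c22 LD3_c8)) :=
  Lre_d IH (LK LD1_c18 LD2_c54 LD3_c20) (LK LD1_c28 LD2_c22 LD3_c8) Lrfl Lrfl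
theorem f188439 : Led Lsl_et (LP (LK LD1_c10 LD2_c25 LD3_c13)) = (LP (LK LD1_c18 LD2_c54 LD3_c20)) :=
  Lre_e IH (LK LD1_c10 LD2_c25 LD3_c13) (LK LD1_c18 LD2_c54 LD3_c20) Lrfl Lrfl
theorem f188440 : Led Lsl_dt (LP (LK LD1_c31 LD2_c54 LD3_c2)) = (LP (LK LD1_c25 LD2_c26 LD3_c44)) :=
  Lre_d IH (LK LD1_c31 LD2_c54 LD3_c2) (LK LD1_c25 LD2_c26 LD3_c44) Lrfl Lrfl
theorem f53513 : Led Lsl_et (LP (LK LD1_c25 LD2_c26 LD3_c44)) = (LP (LK LD1_c15 LD2_c33 LD3_c8)) :=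
  Lre_e IH (LK LD1_c25 LD2_c26 LD3_c44) (LK LD1_c15 LD2_c33 LD3_c8) Lrfl Lrfl
theorem f188441 : Led Lsl_df (LP (LK LD1_c10 LD2_c25 LD3_c13)) = (LP (LK LD1_c15 LD2_c33 LD3_c8)) :=
  Lgr Lrot70 (Lpr_et (f188439 IH) (Lpr_dt (f188438 IH) (Lpr_et (f188434 IH) (Lpr_dt (f188440 IH) (Lpr_et (f53513 IH) (Lpn (LP (LK LD1_c15 LD2_c33 LD3_c8))))))))
theorem f44978 : Led Lsl_ef (LP (LK LD1_c4 LD2_c7 LD3_c35)) = (LP (LK LD1_c4 LD2_c13 LD3_c40)) :=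
  Lgr Lrot28 (Lpr_ct (K12.f44976 IH) (Lpr_et (K8.f44968 IH) (Lpr_ct (f44977 IH) (Lpn (LP (LK LD1_c4 LD2_c13 LD3_c40))))))
theorem f49840 : Led Lsl_at (LP (LK LD1_c4 LD2_c7 LD3_c35)) = (LP (LK LD1_c4 LD2_c7 LD3_c56)) :=
  Lgr Lrot80 (Lpr_ef (f44978 IH) (Lpr_af (K12.f49478 IH) (Lpr_ef (K10.f49837 IH) (Lpn (LP (LK LD1_c4 LD2_c7 LD3_c56))))))
theorem f49977 : Led Lsl_af (LP (LK LD1_c8 LD2_c15 LD3_c9)) = (LP (LK LD1_c8 LD2_c15 LD3_c53)) :=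
  Lgr Lrot117 (Lpr_dt (K10.f45021 IH) (Lpr_at (f49840 IH) (Lpr_dt (K10.f49119 IH) (Lpn (LP (LK LD1_c8 LD2_c15 LD3_c53))))))
theorem f49662 : Led Lsl_dt (LP (LK LD1_c4 LD2_c8 LD3_c6)) = (LP (LK LD1_c8 LD2_c16 LD3_c20)) :=
  Lre_d IH (LK LD1_c4 LD2_c8 LD3_c6) (LK LD1_c8 LD2_c16 LD3_c20) Lrfl Lrfl
theorem f49980 : Led Lsl_ft (LP (LK LD1_c8 LD2_c15 LD3_c35)) = (LP (LK LD1_c8 LD2_c15 LD3_c53)) :=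
  Lgr Lrot142 (Lpr_dt (K9.f49793 IH) (Lpr_ct (K9.f49792 IH) (Lpr_dt (K9.f49791 IH) (Lpr_ct (K9.f49612 IH) (Lpr_dt (K9.f49676 IH) (Lpr_ct (K9.f49622 IH) (Lpr_dt (f49662 IH) (Lpe (K10.f49644 IH) (Lpr_af (f49977 IH) (Lpn (LP (LK LD1_c8 LD2_c15 LD3_c53))))))))))))
theorem f53503 : Led Lsl_ft (LP (LK LD1_c8 LD2_c15 LD3_c9)) = (LP (LK LD1_c8 LD2_c16 LD3_c18)) :=
  Lgr Lrot101 (Lpr_af (f49977 IH) (Lpe (f49980 IH) (Lpr_af (K10.f53497 IH) (Lpn (LP (LK LD1_c8 LD2_c16 LD3_c18))))))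
theorem f49638 : Led Lsl_bt (LP (LK LD1_c15 LD2_c31 LD3_c3)) = (LP (LK LD1_c8 LD2_c15 LD3_c9)) :=
  Lre_b IH (LK LD1_c15 LD2_c31 LD3_c3) (LK LD1_c8 LD2_c15 LD3_c9) Lrfl Lrfl
theorem f53505 : Led Lsl_bt (LP (LK LD1_c8 LD2_c16 LD3_c18)) = (LP (LK LD1_c15 LD2_c33 LD3_c8)) :=
  Lre_b IH (LK LD1_c8 LD2_c16 LD3_c18) (LK LD1_c15 LD2_c33 LD3_c8) Lrfl Lrfl
theorem f53506 : Led Lsl_ff (LP (LK LD1_c15 LD2_c31 LD3_c3)) = (LP (LK LD1_c15 LD2_c33 LD3_c8)) :=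
  Lgr Lrot25 (Lpr_bt (f49638 IH) (Lpr_ft (f53503 IH) (Lpr_bt (f53505 IH) (Lpn (LP (LK LD1_c15 LD2_c33 LD3_c8))))))
theorem f53514 : Led Lsl_ft (LP (LK LD1_c15 LD2_c31 LD3_c3)) = (LP (LK LD1_c15 LD2_c33 LD3_c8)) :=
  Lgr Lrot48 (Lpr_ff (f53506 IH) (Lpn (LP (LK LD1_c15 LD2_c33 LD3_c8))))
theorem f45038 : Led Lsl_dt (LP (LK LD1_c8 LD2_c15 LD3_c8)) = (LP (LK LD1_c15 LD2_c31 LD3_c3)) :=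
  Lre_d IH (LK LD1_c8 LD2_c15 LD3_c8) (LK LD1_c15 LD2_c31 LD3_c3) Lrfl Lrfl
theorem f188450 : Led Lsl_ft (LP (LK LD1_c10 LD2_c25 LD3_c13)) = (LP (LK LD1_c8 LD2_c15 LD3_c8)) :=
  Lgr Lrot54 (Lpr_df (f188441 IH) (Lpe (f53514 IH) (Lpe (f45038 IH) (Lpn (LP (LK LD1_c8 LD2_c15 LD3_c8))))))
theorem f188461 : Led Lsl_ff (LP (LK LD1_c10 LD2_c25 LD3_c13)) = (LP (LK LD1_c8 LD2_c15 LD3_c8)) :=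
  Lgr Lrot3 (Lpr_ft (f188450 IH) (Lpn (LP (LK LD1_c8 LD2_c15 LD3_c8))))
theorem f188313 : Led Lsl_at (LP (LK LD1_c10 LD2_c25 LD3_c13)) = (LP (LK LD1_c18 LD2_c54 LD3_c19)) :=
  Lre_a IH (LK LD1_c10 LD2_c25 LD3_c13) (LK LD1_c18 LD2_c54 LD3_c19) Lrfl Lrfl
theorem f188466 : Led Lsl_ft (LP (LK LD1_c18 LD2_c54 LD3_c19)) = (LP (LK LD1_c15 LD2_c31 LD3_c2)) :=
  Lgr Lrot101 (Lpe (f188313 IH) (Lpr_ff (f188461 IH) (Lpe (f45047 IH) (Lpn (LP (LK LD1_c15 LD2_c31 LD3_c2))))))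
theorem f214483 : Led Lsl_ct (LP (LK LD1_c18 LD2_c11 LD3_c16)) = (LP (LK LD1_c18 LD2_c54 LD3_c19)) :=
  Lgr Lrot40 (Lpr_ff (f214478 IH) (Lpr_cf (f51318 IH) (Lpe (f188466 IH) (Lpn (LP (LK LD1_c18 LD2_c54 LD3_c19))))))
theorem f214220 : Led Lsl_at (LP (LK LD1_c9 LD2_c56 LD3_c23)) = (LP (LK LD1_c18 LD2_c11 LD3_c16)) :=
  Lre_a IH (LK LD1_c9 LD2_c56 LD3_c23) (LK LD1_c18 LD2_c11 LD3_c16) Lrfl Lrfl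
theorem f188455 : Led Lsl_at (LP (LK LD1_c18 LD2_c54 LD3_c19)) = (LP (LK LD1_c10 LD2_c25 LD3_c13)) :=
  Lre_a IH (LK LD1_c18 LD2_c54 LD3_c19) (LK LD1_c10 LD2_c25 LD3_c13) Lrfl Lrfl
theorem f214516 : Led Lsl_cf (LP (LK LD1_c9 LD2_c56 LD3_c23)) = (LP (LK LD1_c10 LD2_c25 LD3_c13)) :=
  Lgr Lrot1 (Lpr_at (f214220 IH) (Lpr_ct (f214483 IH) (Lpr_at (f188455 IH) (Lpn (LP (LK LD1_c10 LD2_c25 LD3_c13))))))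
theorem f214487 : Led Lsl_gt (LP (LK LD1_c18 LD2_c11 LD3_c15)) = (LP (LK LD1_c9 LD2_c56 LD3_c23)) :=
  Lre_g IH (LK LD1_c18 LD2_c11 LD3_c15) (LK LD1_c9 LD2_c56 LD3_c23) Lrfl Lrfl
theorem f188341 : Led Lsl_bt (LP (LK LD1_c10 LD2_c25 LD3_c13)) = (LP (LK LD1_c5 LD2_c17 LD3_c49)) :=
  Lre_b IH (LK LD1_c10 LD2_c25 LD3_c13) (LK LD1_c5 LD2_c17 LD3_c49) Lrfl Lrfl
theorem f184544 : Led Lsl_gf (LP (LK LD1_c2 LD2_c28 LD3_c29)) = (LP (LK LD1_c4 LD2_c2 LD3_c35)) :=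
  Lgr Lrot47 (Lpr_gt (K9.f165897 IH) (Lpr_af (K12.f184539 IH) (Lpe (K12.f46547 IH) (Lpn (LP (LK LD1_c4 LD2_c2 LD3_c35))))))
theorem f28289 : Led Lsl_ft (LP (LK LD1_c2 LD2_c36 LD3_c13)) = (LP (LK LD1_c1 LD2_c15 LD3_c5)) :=
  Lre_f IH (LK LD1_c2 LD2_c36 LD3_c13) (LK LD1_c1 LD2_c15 LD3_c5) Lrfl Lrfl
theorem f46349 : Led Lsl_at (LP (LK LD1_c1 LD2_c15 LD3_c5)) = (LP (LK LD1_c1 LD2_c15 LD3_c8)) :=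
  Lgr Lrot51 (Lpe (K1.f28253 IH) (Lpr_af (K1.f46344 IH) (Lpe (K1.f43944 IH) (Lpn (LP (LK LD1_c1 LD2_c15 LD3_c8))))))
theorem f184862 : Led Lsl_gt (LP (LK LD1_c2 LD2_c35 LD3_c41)) = (LP (LK LD1_c1 LD2_c15 LD3_c8)) :=
  Lgr Lrot46 (Lpr_gf (K9.f184860 IH) (Lpr_ft (f28289 IH) (Lpr_at (f46349 IH) (Lpn (LP (LK LD1_c1 LD2_c15 LD3_c8))))))
theorem f188335 : Led Lsl_gt (LP (LK LD1_c5 LD2_c17 LD3_c49)) = (LP (LK LD1_c2 LD2_c35 LD3_c42)) :=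
  Lgr Lrot149 (Lpr_cf (K10.f188325 IH) (Lpe (K10.f184108 IH) (Lpe (K9.f184115 IH) (Lpr_ct (K9.f165896 IH) (Lpr_gf (f184544 IH) (Lpe (K9.f45866 IH) (Lpr_bt (K1.f45854 IH) (Lpe (f184862 IH) (Lpe (K9.f48256 IH) (Lpr_ct (K9.f32559 IH) (Lpn (LP (LK LD1_c2 LD2_c35 LD3_c42)))))))))))))
theorem f48267 : Led Lsl_ct (LP (LK LD1_c2 LD2_c35 LD3_c42)) = (LP (LK LD1_c1 LD2_c14 LD3_c54)) :=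
  Lre_c IH (LK LD1_c2 LD2_c35 LD3_c42) (LK LD1_c1 LD2_c14 LD3_c54) Lrfl Lrfl
theorem f48497 : Led Lsl_bt (LP (LK LD1_c1 LD2_c14 LD3_c55)) = (LP (LK LD1_c2 LD2_c35 LD3_c46)) :=
  Lre_b IH (LK LD1_c1 LD2_c14 LD3_c55) (LK LD1_c2 LD2_c35 LD3_c46) Lrfl Lrfl
theorem f48859 : Led Lsl_gt (LP (LK LD1_c2 LD2_c35 LD3_c46)) = (LP (LK LD1_c5 LD2_c18 LD3_c7)) :=
  Lre_g IH (LK LD1_c2 LD2_c35 LD3_c46) (LK LD1_c5 LD2_c18 LD3_c7) Lrfl Lrfl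
theorem f32834 : Led Lsl_bt (LP (LK LD1_c10 LD2_c25 LD3_c54)) = (LP (LK LD1_c5 LD2_c18 LD3_c7)) :=
  Lre_b IH (LK LD1_c10 LD2_c25 LD3_c54) (LK LD1_c5 LD2_c18 LD3_c7) Lrfl Lrfl
theorem f214587 : Led Lsl_cf (LP (LK LD1_c18 LD2_c11 LD3_c15)) = (LP (LK LD1_c10 LD2_c25 LD3_c54)) :=
  Lgr Lrot160 (Lpr_gt (f214487 IH) (Lpr_cf (f214516 IH) (Lpr_bt (f188341 IH) (Lpr_gt (f188335 IH) (Lpr_ct (f48267 IH) (Lpr_gt (K9.f33097 IH) (Lpe (K10.f48330 IH) (Lpr_bt (f48497 IH) (Lpr_gt (f48859 IH) (Lpe (f32834 IH) (Lpn (LP (LK LD1_c10 LD2_c25 LD3_c54)))))))))))))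
theorem f214225 : Led Lsl_at (LP (LK LD1_c18 LD2_c11 LD3_c16)) = (LP (LK LD1_c9 LD2_c56 LD3_c23)) :=
  Lre_a IH (LK LD1_c18 LD2_c11 LD3_c16) (LK LD1_c9 LD2_c56 LD3_c23) Lrfl Lrfl
theorem f214488 : Led Lsl_gf (LP (LK LD1_c18 LD2_c11 LD3_c15)) = (LP (LK LD1_c15 LD2_c0 LD3_c50)) :=
  Lgr Lrot47 (Lpr_gt (f214487 IH) (Lpe (f214225 IH) (Lpr_ff (f214478 IH) (Lpn (LP (LK LD1_c15 LD2_c0 LD3_c50))))))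
theorem f49846 : Led Lsl_et (LP (LK LD1_c4 LD2_c13 LD3_c47)) = (LP (LK LD1_c4 LD2_c7 LD3_c56)) :=
  Lgr Lrot87 (Lpr_ef (K10.f49837 IH) (Lpn (LP (LK LD1_c4 LD2_c7 LD3_c56))))
theorem f49519 : Led Lsl_bt (LP (LK LD1_c8 LD2_c26 LD3_c19)) = (LP (LK LD1_c4 LD2_c13 LD3_c47)) :=
  Lre_b IH (LK LD1_c8 LD2_c26 LD3_c19) (LK LD1_c4 LD2_c13 LD3_c47) Lrfl Lrfl
theorem f49937 : Led Lsl_bt (LP (LK LD1_c4 LD2_c7 LD3_c56)) = (LP (LK LD1_c8 LD2_c15 LD3_c52)) :=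
  Lre_b IH (LK LD1_c4 LD2_c7 LD3_c56) (LK LD1_c8 LD2_c15 LD3_c52) Lrfl Lrfl
theorem f49938 : Led Lsl_ef (LP (LK LD1_c8 LD2_c26 LD3_c19)) = (LP (LK LD1_c8 LD2_c15 LD3_c52)) :=
  Lgr Lrot29 (Lpr_bt (f49519 IH) (Lpr_et (f49846 IH) (Lpr_bt (f49937 IH) (Lpn (LP (LK LD1_c8 LD2_c15 LD3_c52))))))
theorem f49540 : Led Lsl_at (LP (LK LD1_c8 LD2_c26 LD3_c19)) = (LP (LK LD1_c15 LD2_c50 LD3_c58)) :=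
  Lre_a IH (LK LD1_c8 LD2_c26 LD3_c19) (LK LD1_c15 LD2_c50 LD3_c58) Lrfl Lrfl
theorem f49944 : Led Lsl_at (LP (LK LD1_c15 LD2_c32 LD3_c14)) = (LP (LK LD1_c8 LD2_c15 LD3_c52)) :=
  Lre_a IH (LK LD1_c15 LD2_c32 LD3_c14) (LK LD1_c8 LD2_c15 LD3_c52) Lrfl Lrfl
theorem f49945 : Led Lsl_et (LP (LK LD1_c15 LD2_c50 LD3_c58)) = (LP (LK LD1_c15 LD2_c32 LD3_c14)) :=
  Lgr Lrot123 (Lpe (f49540 IH) (Lpr_ef (f49938 IH) (Lpe (f49944 IH) (Lpn (LP (LK LD1_c15 LD2_c32 LD3_c14))))))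
theorem f49958 : Led Lsl_ef (LP (LK LD1_c15 LD2_c50 LD3_c58)) = (LP (LK LD1_c15 LD2_c32 LD3_c14)) :=
  Lgr Lrot88 (Lpr_et (f49945 IH) (Lpn (LP (LK LD1_c15 LD2_c32 LD3_c14))))
theorem f45048 : Led Lsl_at (LP (LK LD1_c8 LD2_c26 LD3_c12)) = (LP (LK LD1_c15 LD2_c50 LD3_c48)) :=
  Lre_a IH (LK LD1_c8 LD2_c26 LD3_c12) (LK LD1_c15 LD2_c50 LD3_c48) Lrfl Lrfl
theorem f49520 : Led Lsl_at (LP (LK LD1_c15 LD2_c50 LD3_c58)) = (LP (LK LD1_c8 LD2_c26 LD3_c19)) :=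
  Lre_a IH (LK LD1_c15 LD2_c50 LD3_c58) (LK LD1_c8 LD2_c26 LD3_c19) Lrfl Lrfl
theorem f49521 : Led Lsl_bt (LP (LK LD1_c15 LD2_c50 LD3_c48)) = (LP (LK LD1_c15 LD2_c50 LD3_c58)) :=
  Lgr Lrot62 (Lpe (f45048 IH) (Lpe (f45018 IH) (Lpr_af (K12.f49478 IH) (Lpe (f49519 IH) (Lpe (f49520 IH) (Lpn (LP (LK LD1_c15 LD2_c50 LD3_c58))))))))
theorem f49538 : Led Lsl_bf (LP (LK LD1_c15 LD2_c50 LD3_c48)) = (LP (LK LD1_c15 LD2_c50 LD3_c58)) :=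
  Lgr Lrot24 (Lpr_bt (f49521 IH) (Lpn (LP (LK LD1_c15 LD2_c50 LD3_c58))))
theorem f45040 : Led Lsl_et (LP (LK LD1_c8 LD2_c15 LD3_c8)) = (LP (LK LD1_c8 LD2_c26 LD3_c12)) :=
  Lgr Lrot87 (Lpr_ef (f45019 IH) (Lpn (LP (LK LD1_c8 LD2_c26 LD3_c12))))
theorem f45049 : Led Lsl_ef (LP (LK LD1_c15 LD2_c31 LD3_c2)) = (LP (LK LD1_c15 LD2_c50 LD3_c48)) :=
  Lgr Lrot20 (Lpr_at (f45047 IH) (Lpr_et (f45040 IH) (Lpr_at (f45048 IH) (Lpn (LP (LK LD1_c15 LD2_c50 LD3_c48))))))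
theorem f49962 : Led Lsl_bt (LP (LK LD1_c15 LD2_c31 LD3_c2)) = (LP (LK LD1_c15 LD2_c32 LD3_c14)) :=
  Lgr Lrot119 (Lpr_ef (f45049 IH) (Lpr_bf (f49538 IH) (Lpr_ef (f49958 IH) (Lpn (LP (LK LD1_c15 LD2_c32 LD3_c14))))))
theorem f32791 : Led Lsl_gt (LP (LK LD1_c5 LD2_c18 LD3_c7)) = (LP (LK LD1_c10 LD2_c25 LD3_c53)) :=
  Lre_g IH (LK LD1_c5 LD2_c18 LD3_c7) (LK LD1_c10 LD2_c25 LD3_c53) Lrfl Lrfl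
theorem f32755 : Led Lsl_ct (LP (LK LD1_c10 LD2_c25 LD3_c53)) = (LP (LK LD1_c5 LD2_c18 LD3_c38)) :=
  Lre_c IH (LK LD1_c10 LD2_c25 LD3_c53) (LK LD1_c5 LD2_c18 LD3_c38) Lrfl Lrfl
theorem f32695 : Led Lsl_gt (LP (LK LD1_c5 LD2_c18 LD3_c38)) = (LP (LK LD1_c2 LD2_c35 LD3_c61)) :=
  Lre_g IH (LK LD1_c5 LD2_c18 LD3_c38) (LK LD1_c2 LD2_c35 LD3_c61) Lrfl Lrfl
theorem f186641 : Led Lsl_ct (LP (LK LD1_c5 LD2_c18 LD3_c46)) = (LP (LK LD1_c2 LD2_c35 LD3_c61)) :=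
  Lre_c IH (LK LD1_c5 LD2_c18 LD3_c46) (LK LD1_c2 LD2_c35 LD3_c61) Lrfl Lrfl
theorem f214605 : Led Lsl_bt (LP (LK LD1_c5 LD2_c18 LD3_c46)) = (LP (LK LD1_c10 LD2_c27 LD3_c16)) :=
  Lre_b IH (LK LD1_c5 LD2_c18 LD3_c46) (LK LD1_c10 LD2_c27 LD3_c16) Lrfl Lrfl
theorem f214606 : Led Lsl_gf (LP (LK LD1_c15 LD2_c32 LD3_c14)) = (LP (LK LD1_c10 LD2_c27 LD3_c16)) :=
  Lgr Lrot124 (Lpe (f49962 IH) (Lpe (f51318 IH) (Lpe (f214488 IH) (Lpr_cf (f214587 IH) (Lpr_bt (f32834 IH) (Lpr_gt (f32791 IH) (Lpr_ct (f32755 IH) (Lpr_gt (f32695 IH) (Lpe (f186641 IH) (Lpr_bt (f214605 IH) (Lpn (LP (LK LD1_c10 LD2_c27 LD3_c16)))))))))))))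
theorem f49961 : Led Lsl_at (LP (LK LD1_c8 LD2_c15 LD3_c52)) = (LP (LK LD1_c15 LD2_c32 LD3_c14)) :=
  Lre_a IH (LK LD1_c8 LD2_c15 LD3_c52) (LK LD1_c15 LD2_c32 LD3_c14) Lrfl Lrfl
theorem f49950 : Led Lsl_ft (LP (LK LD1_c15 LD2_c32 LD3_c16)) = (LP (LK LD1_c8 LD2_c15 LD3_c52)) :=
  Lre_f IH (LK LD1_c15 LD2_c32 LD3_c16) (LK LD1_c8 LD2_c15 LD3_c52) Lrfl Lrfl
theorem f214608 : Led Lsl_gt (LP (LK LD1_c15 LD2_c32 LD3_c16)) = (LP (LK LD1_c10 LD2_c27 LD3_c16)) :=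
  Lgr Lrot5 (Lpr_ft (f49950 IH) (Lpr_at (f49961 IH) (Lpr_gf (f214606 IH) (Lpn (LP (LK LD1_c10 LD2_c27 LD3_c16))))))
theorem f49796 : Led Lsl_bt (LP (LK LD1_c8 LD2_c15 LD3_c54)) = (LP (LK LD1_c15 LD2_c32 LD3_c16)) :=
  Lre_b IH (LK LD1_c8 LD2_c15 LD3_c54) (LK LD1_c15 LD2_c32 LD3_c16) Lrfl Lrfl
theorem f45010 : Led Lsl_gt (LP (LK LD1_c2 LD2_c1 LD3_c8)) = (LP (LK LD1_c4 LD2_c7 LD3_c33)) :=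
  Lre_g IH (LK LD1_c2 LD2_c1 LD3_c8) (LK LD1_c4 LD2_c7 LD3_c33) Lrfl Lrfl
theorem f49820 : Led Lsl_gt (LP (LK LD1_c4 LD2_c7 LD3_c33)) = (LP (LK LD1_c4 LD2_c7 LD3_c57)) :=
  Lgr Lrot46 (Lpe (f45010 IH) (Lpr_ft (K9.f45001 IH) (Lpr_at (K9.f49809 IH) (Lpn (LP (LK LD1_c4 LD2_c7 LD3_c57))))))
theorem f48803 : Led Lsl_gt (LP (LK LD1_c2 LD2_c35 LD3_c61)) = (LP (LK LD1_c1 LD2_c14 LD3_c61)) :=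
  Lre_g IH (LK LD1_c2 LD2_c35 LD3_c61) (LK LD1_c1 LD2_c14 LD3_c61) Lrfl Lrfl
theorem f48575 : Led Lsl_ct (LP (LK LD1_c2 LD2_c35 LD3_c46)) = (LP (LK LD1_c1 LD2_c14 LD3_c61)) :=
  Lre_c IH (LK LD1_c2 LD2_c35 LD3_c46) (LK LD1_c1 LD2_c14 LD3_c61) Lrfl Lrfl
theorem f48397 : Led Lsl_bt (LP (LK LD1_c2 LD2_c35 LD3_c46)) = (LP (LK LD1_c1 LD2_c14 LD3_c55)) :=
  Lre_b IH (LK LD1_c2 LD2_c35 LD3_c46) (LK LD1_c1 LD2_c14 LD3_c55) Lrfl Lrfl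
theorem f48270 : Led Lsl_gt (LP (LK LD1_c1 LD2_c14 LD3_c55)) = (LP (LK LD1_c2 LD2_c35 LD3_c44)) :=
  Lre_g IH (LK LD1_c1 LD2_c14 LD3_c55) (LK LD1_c2 LD2_c35 LD3_c44) Lrfl Lrfl
theorem f214615 : Led Lsl_cf (LP (LK LD1_c4 LD2_c7 LD3_c33)) = (LP (LK LD1_c2 LD2_c35 LD3_c44)) :=
  Lgr Lrot125 (Lpr_gt (f49820 IH) (Lpe (K9.f49792 IH) (Lpr_bt (f49796 IH) (Lpr_gt (f214608 IH) (Lpe (f214605 IH) (Lpr_ct (f186641 IH) (Lpr_gt (f48803 IH) (Lpe (f48575 IH) (Lpr_bt (f48397 IH) (Lpr_gt (f48270 IH) (Lpn (LP (LK LD1_c2 LD2_c35 LD3_c44)))))))))))))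
theorem f49651 : Led Lsl_df (LP (LK LD1_c8 LD2_c15 LD3_c35)) = (LP (LK LD1_c8 LD2_c15 LD3_c54)) :=
  Lgr Lrot43 (Lpr_ct (K10.f49576 IH) (Lpr_dt (K9.f49647 IH) (Lpr_ct (K9.f49646 IH) (Lpr_dt (K9.f49593 IH) (Lpr_ct (K9.f49633 IH) (Lpr_dt (K8.f44966 IH) (Lpr_ct (K9.f45005 IH) (Lpr_dt (K9.f45027 IH) (Lpr_ct (K9.f49636 IH) (Lpr_dt (K9.f49635 IH) (Lpr_ct (K9.f49634 IH) (Lpr_dt (K9.f49615 IH) (Lpr_ct (K10.f49648 IH) (Lpr_dt (K10.f49649 IH) (Lpr_ct (K10.f49650 IH) (Lpn (LP (LK LD1_c8 LD2_c15 LD3_c54))))))))))))))))))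
theorem f49693 : Led Lsl_gt (LP (LK LD1_c8 LD2_c15 LD3_c34)) = (LP (LK LD1_c4 LD2_c7 LD3_c44)) :=
  Lre_g IH (LK LD1_c8 LD2_c15 LD3_c34) (LK LD1_c4 LD2_c7 LD3_c44) Lrfl Lrfl
theorem f48413 : Led Lsl_gt (LP (LK LD1_c2 LD2_c35 LD3_c47)) = (LP (LK LD1_c5 LD2_c18 LD3_c12)) :=
  Lre_g IH (LK LD1_c2 LD2_c35 LD3_c47) (LK LD1_c5 LD2_c18 LD3_c12) Lrfl Lrfl
theorem f214635 : Led Lsl_cf (LP (LK LD1_c8 LD2_c15 LD3_c34)) = (LP (LK LD1_c5 LD2_c18 LD3_c12)) :=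
  Lgr Lrot169 (Lpr_gt (f49693 IH) (Lpr_ct (K9.f49686 IH) (Lpr_df (f49651 IH) (Lpe (K10.f49650 IH) (Lpe (f49820 IH) (Lpr_cf (f214615 IH) (Lpe (f48270 IH) (Lpe (K10.f48401 IH) (Lpr_gt (f48413 IH) (Lpn (LP (LK LD1_c5 LD2_c18 LD3_c12))))))))))))
theorem f214672 : Led Lsl_ct (LP (LK LD1_c8 LD2_c15 LD3_c34)) = (LP (LK LD1_c5 LD2_c18 LD3_c12)) :=
  Lgr Lrot59 (Lpr_cf (f214635 IH) (Lpn (LP (LK LD1_c5 LD2_c18 LD3_c12))))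
theorem f49788 : Led Lsl_gt (LP (LK LD1_c4 LD2_c7 LD3_c41)) = (LP (LK LD1_c4 LD2_c8 LD3_c6)) :=
  Lgr Lrot46 (Lpe (K10.f49787 IH) (Lpr_ft (K9.f49784 IH) (Lpr_at (K9.f49774 IH) (Lpn (LP (LK LD1_c4 LD2_c8 LD3_c6))))))
theorem f49694 : Led Lsl_gf (LP (LK LD1_c8 LD2_c15 LD3_c34)) = (LP (LK LD1_c8 LD2_c16 LD3_c20)) :=
  Lgr Lrot47 (Lpr_gt (f49693 IH) (Lpr_af (K9.f49671 IH) (Lpe (K9.f49656 IH) (Lpn (LP (LK LD1_c8 LD2_c16 LD3_c20))))))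
theorem f32898 : Led Lsl_dt (LP (LK LD1_c5 LD2_c17 LD3_c0)) = (LP (LK LD1_c2 LD2_c35 LD3_c14)) :=
  Lre_d IH (LK LD1_c5 LD2_c17 LD3_c0) (LK LD1_c2 LD2_c35 LD3_c14) Lrfl Lrfl
theorem f32904 : Led Lsl_gt (LP (LK LD1_c2 LD2_c35 LD3_c14)) = (LP (LK LD1_c1 LD2_c14 LD3_c45)) :=
  Lre_g IH (LK LD1_c2 LD2_c35 LD3_c14) (LK LD1_c1 LD2_c14 LD3_c45) Lrfl Lrfl
theorem f32959 : Led Lsl_dt (LP (LK LD1_c1 LD2_c14 LD3_c45)) = (LP (LK LD1_c2 LD2_c35 LD3_c25)) :=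
  Lre_d IH (LK LD1_c1 LD2_c14 LD3_c45) (LK LD1_c2 LD2_c35 LD3_c25) Lrfl Lrfl
theorem f191360 : Led Lsl_ct (LP (LK LD1_c5 LD2_c17 LD3_c19)) = (LP (LK LD1_c2 LD2_c35 LD3_c25)) :=
  Lre_c IH (LK LD1_c5 LD2_c17 LD3_c19) (LK LD1_c2 LD2_c35 LD3_c25) Lrfl Lrfl
theorem f191361 : Led Lsl_dt (LP (LK LD1_c8 LD2_c15 LD3_c34)) = (LP (LK LD1_c5 LD2_c17 LD3_c19)) :=
  Lgr Lrot105 (Lpr_gf (f49694 IH) (Lpe (f49662 IH) (Lpe (f49788 IH) (Lpr_cf (K10.f191349 IH) (Lpr_gt (K10.f32899 IH) (Lpr_dt (f32898 IH) (Lpr_gt (f32904 IH) (Lpr_dt (f32959 IH) (Lpe (f191360 IH) (Lpn (LP (LK LD1_c5 LD2_c17 LD3_c19))))))))))))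
theorem f191367 : Led Lsl_df (LP (LK LD1_c8 LD2_c15 LD3_c34)) = (LP (LK LD1_c5 LD2_c17 LD3_c19)) :=
  Lgr Lrot38 (Lpr_dt (f191361 IH) (Lpn (LP (LK LD1_c5 LD2_c17 LD3_c19))))
theorem f183665 : Led Lsl_ct (LP (LK LD1_c2 LD2_c35 LD3_c25)) = (LP (LK LD1_c5 LD2_c17 LD3_c19)) :=
  Lre_c IH (LK LD1_c2 LD2_c35 LD3_c25) (LK LD1_c5 LD2_c17 LD3_c19) Lrfl Lrfl
theorem f44994 : Led Lsl_dt (LP (LK LD1_c4 LD2_c7 LD3_c32)) = (LP (LK LD1_c2 LD2_c1 LD3_c7)) :=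
  Lre_d IH (LK LD1_c4 LD2_c7 LD3_c32) (LK LD1_c2 LD2_c1 LD3_c7) Lrfl Lrfl
theorem f53599 : Led Lsl_ct (LP (LK LD1_c8 LD2_c15 LD3_c3)) = (LP (LK LD1_c4 LD2_c7 LD3_c32)) :=
  Lre_c IH (LK LD1_c8 LD2_c15 LD3_c3) (LK LD1_c4 LD2_c7 LD3_c32) Lrfl Lrfl
theorem f53597 : Led Lsl_dt (LP (LK LD1_c2 LD2_c1 LD3_c7)) = (LP (LK LD1_c4 LD2_c7 LD3_c32)) :=
  Lre_d IH (LK LD1_c2 LD2_c1 LD3_c7) (LK LD1_c4 LD2_c7 LD3_c32) Lrfl Lrfl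
theorem f53598 : Led Lsl_ct (LP (LK LD1_c4 LD2_c7 LD3_c32)) = (LP (LK LD1_c8 LD2_c15 LD3_c3)) :=
  Lre_c IH (LK LD1_c4 LD2_c7 LD3_c32) (LK LD1_c8 LD2_c15 LD3_c3) Lrfl Lrfl
theorem f32823 : Led Lsl_gt (LP (LK LD1_c2 LD2_c35 LD3_c44)) = (LP (LK LD1_c5 LD2_c17 LD3_c9)) :=
  Lre_g IH (LK LD1_c2 LD2_c35 LD3_c44) (LK LD1_c5 LD2_c17 LD3_c9) Lrfl Lrfl
theorem f214633 : Led Lsl_df (LP (LK LD1_c8 LD2_c15 LD3_c3)) = (LP (LK LD1_c5 LD2_c18 LD3_c13)) :=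
  Lgr Lrot84 (Lpe (f53598 IH) (Lpe (f53597 IH) (Lpr_gf (K10.f53595 IH) (Lpe (K9.f49791 IH) (Lpe (f49820 IH) (Lpr_cf (f214615 IH) (Lpr_gt (f32823 IH) (Lpr_dt (K10.f48391 IH) (Lpr_gt (K10.f48392 IH) (Lpn (LP (LK LD1_c5 LD2_c18 LD3_c13))))))))))))
theorem f45066 : Led Lsl_dt (LP (LK LD1_c2 LD2_c1 LD3_c6)) = (LP (LK LD1_c4 LD2_c7 LD3_c30)) :=
  Lre_d IH (LK LD1_c2 LD2_c1 LD3_c6) (LK LD1_c4 LD2_c7 LD3_c30) Lrfl Lrfl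
theorem f49897 : Led Lsl_ct (LP (LK LD1_c4 LD2_c7 LD3_c30)) = (LP (LK LD1_c8 LD2_c15 LD3_c1)) :=
  Lre_c IH (LK LD1_c4 LD2_c7 LD3_c30) (LK LD1_c8 LD2_c15 LD3_c1) Lrfl Lrfl
theorem f48407 : Led Lsl_dt (LP (LK LD1_c1 LD2_c14 LD3_c55)) = (LP (LK LD1_c2 LD2_c35 LD3_c47)) :=
  Lre_d IH (LK LD1_c1 LD2_c14 LD3_c55) (LK LD1_c2 LD2_c35 LD3_c47) Lrfl Lrfl
theorem f191524 : Led Lsl_df (LP (LK LD1_c8 LD2_c15 LD3_c1)) = (LP (LK LD1_c5 LD2_c18 LD3_c12)) :=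
  Lgr Lrot84 (Lpe (f49897 IH) (Lpe (f45066 IH) (Lpe (K10.f44989 IH) (Lpe (K9.f44988 IH) (Lpe (K10.f45012 IH) (Lpr_cf (K10.f191516 IH) (Lpr_gt (K10.f48933 IH) (Lpr_dt (f48407 IH) (Lpr_gt (f48413 IH) (Lpn (LP (LK LD1_c5 LD2_c18 LD3_c12))))))))))))
theorem f49905 : Led Lsl_ct (LP (LK LD1_c8 LD2_c15 LD3_c1)) = (LP (LK LD1_c4 LD2_c7 LD3_c30)) :=
  Lre_c IH (LK LD1_c8 LD2_c15 LD3_c1) (LK LD1_c4 LD2_c7 LD3_c30) Lrfl Lrfl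
theorem f44990 : Led Lsl_dt (LP (LK LD1_c4 LD2_c7 LD3_c30)) = (LP (LK LD1_c2 LD2_c1 LD3_c6)) :=
  Lre_d IH (LK LD1_c4 LD2_c7 LD3_c30) (LK LD1_c2 LD2_c1 LD3_c6) Lrfl Lrfl
theorem f32088 : Led Lsl_ct (LP (LK LD1_c2 LD2_c35 LD3_c22)) = (LP (LK LD1_c5 LD2_c17 LD3_c15)) :=
  Lre_c IH (LK LD1_c2 LD2_c35 LD3_c22) (LK LD1_c5 LD2_c17 LD3_c15) Lrfl Lrfl
theorem f214711 : Led Lsl_df (LP (LK LD1_c8 LD2_c15 LD3_c33)) = (LP (LK LD1_c5 LD2_c17 LD3_c15)) :=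
  Lgr Lrot43 (Lpr_ct (K10.f191461 IH) (Lpe (f214633 IH) (Lpr_ct (f53599 IH) (Lpr_dt (f44994 IH) (Lpr_ct (K10.f191559 IH) (Lpr_dt (f32959 IH) (Lpr_ct (f183665 IH) (Lpe (f191367 IH) (Lpr_ct (f214672 IH) (Lpe (f191524 IH) (Lpr_ct (f49905 IH) (Lpr_dt (f44990 IH) (Lpr_ct (K10.f191037 IH) (Lpr_dt (K10.f32087 IH) (Lpr_ct (f32088 IH) (Lpn (LP (LK LD1_c5 LD2_c17 LD3_c15))))))))))))))))))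
theorem f49919 : Led Lsl_dt (LP (LK LD1_c2 LD2_c1 LD3_c10)) = (LP (LK LD1_c0 LD2_c57 LD3_c39)) :=
  Lre_d IH (LK LD1_c2 LD2_c1 LD3_c10) (LK LD1_c0 LD2_c57 LD3_c39) Lrfl Lrfl
theorem f182501 : Led Lsl_gt (LP (LK LD1_c1 LD2_c16 LD3_c31)) = (LP (LK LD1_c2 LD2_c39 LD3_c30)) :=
  Lre_g IH (LK LD1_c1 LD2_c16 LD3_c31) (LK LD1_c2 LD2_c39 LD3_c30) Lrfl Lrfl
theorem f182502 : Led Lsl_ct (LP (LK LD1_c2 LD2_c39 LD3_c30)) = (LP (LK LD1_c5 LD2_c26 LD3_c6)) :=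
  Lre_c IH (LK LD1_c2 LD2_c39 LD3_c30) (LK LD1_c5 LD2_c26 LD3_c6) Lrfl Lrfl
theorem f49112 : Led Lsl_dt (LP (LK LD1_c2 LD2_c35 LD3_c22)) = (LP (LK LD1_c1 LD2_c14 LD3_c44)) :=
  Lre_d IH (LK LD1_c2 LD2_c35 LD3_c22) (LK LD1_c1 LD2_c14 LD3_c44) Lrfl Lrfl
theorem f49190 : Led Lsl_ct (LP (LK LD1_c5 LD2_c17 LD3_c15)) = (LP (LK LD1_c2 LD2_c35 LD3_c22)) :=
  Lre_c IH (LK LD1_c5 LD2_c17 LD3_c15) (LK LD1_c2 LD2_c35 LD3_c22) Lrfl Lrfl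
theorem f191156 : Led Lsl_gt (LP (LK LD1_c5 LD2_c26 LD3_c6)) = (LP (LK LD1_c5 LD2_c17 LD3_c15)) :=
  Lgr Lrot150 (Lpe (f182502 IH) (Lpe (f182501 IH) (Lpe (K12.f185688 IH) (Lpr_gt (K10.f191145 IH) (Lpr_ct (K9.f49633 IH) (Lpr_gt (K10.f44989 IH) (Lpr_ct (K10.f191037 IH) (Lpe (f49112 IH) (Lpe (f49190 IH) (Lpn (LP (LK LD1_c5 LD2_c17 LD3_c15))))))))))))
theorem f214718 : Led Lsl_gf (LP (LK LD1_c2 LD2_c1 LD3_c10)) = (LP (LK LD1_c2 LD2_c39 LD3_c30)) :=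
  Lgr Lrot144 (Lpr_dt (f49919 IH) (Lpr_gt (K10.f53585 IH) (Lpr_dt (K9.f49676 IH) (Lpe (K9.f49634 IH) (Lpe (K9.f49635 IH) (Lpe (K10.f49674 IH) (Lpr_df (f214711 IH) (Lpe (f191156 IH) (Lpe (f182502 IH) (Lpn (LP (LK LD1_c2 LD2_c39 LD3_c30))))))))))))
theorem f246261 : Led Lsl_dt (LP (LK LD1_c2 LD2_c40 LD3_c9)) = (LP (LK LD1_c2 LD2_c39 LD3_c30)) :=
  Lgr Lrot171 (Lpe (f175065 IH) (Lpe (f246234 IH) (Lpe (f220205 IH) (Lpr_gf (K12.f220046 IH) (Lpe (K12.f51443 IH) (Lpr_et (f220057 IH) (Lpr_gf (f246255 IH) (Lpe (f49932 IH) (Lpr_dt (f49900 IH) (Lpr_gf (f214718 IH) (Lpn (LP (LK LD1_c2 LD2_c39 LD3_c30)))))))))))))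
theorem f246267 : Led Lsl_et (LP (LK LD1_c2 LD2_c40 LD3_c9)) = (LP (LK LD1_c2 LD2_c2 LD3_c0)) :=
  Lgr Lrot122 (Lpr_dt (f246261 IH) (Lpe (f214718 IH) (Lpe (f49900 IH) (Lpr_et (f49932 IH) (Lpe (f246255 IH) (Lpr_dt (f1441 IH) (Lpe (f236254 IH) (Lpe (f167756 IH) (Lpr_et (K12.f167732 IH) (Lpr_gt (f236241 IH) (Lpn (LP (LK LD1_c2 LD2_c2 LD3_c0)))))))))))))
theorem f236130 : Led Lsl_dt (LP (LK LD1_c2 LD2_c40 LD3_c10)) = (LP (LK LD1_c2 LD2_c1 LD3_c12)) :=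
  Lgr Lrot6 (Lpr_gt (f236121 IH) (Lpr_ct (f236127 IH) (Lpr_gt (f236128 IH) (Lpr_ct (f187215 IH) (Lpe (K10.f191723 IH) (Lpr_cf (f194373 IH) (Lpr_gf (K11.f53481 IH) (Lpe (K9.f49622 IH) (Lpe (f49631 IH) (Lpn (LP (LK LD1_c2 LD2_c1 LD3_c12))))))))))))
theorem f246277 : Led Lsl_et (LP (LK LD1_c2 LD2_c40 LD3_c10)) = (LP (LK LD1_c4 LD2_c9 LD3_c23)) :=
  Lgr Lrot122 (Lpr_dt (f236130 IH) (Lpr_gt (f49631 IH) (Lpe (K9.f49676 IH) (Lpr_et (K9.f50085 IH) (Lpe (K10.f191103 IH) (Lpr_dt (K12.f185688 IH) (Lpr_gt (f182501 IH) (Lpe (f246261 IH) (Lpr_et (f246267 IH) (Lpr_gt (f1406 IH) (Lpn (LP (LK LD1_c4 LD2_c9 LD3_c23)))))))))))))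
theorem f246281 : Led Lsl_gf (LP (LK LD1_c2 LD2_c2 LD3_c4)) = (LP (LK LD1_c4 LD2_c9 LD3_c23)) :=
  Lgr Lrot141 (Lpe (f232022 IH) (Lpr_dt (K12.f32429 IH) (Lpe (K12.f191158 IH) (Lpr_df (K12.f185672 IH) (Lpr_et (K12.f185685 IH) (Lpr_gt (K10.f191145 IH) (Lpr_dt (K9.f49800 IH) (Lpr_gt (f49630 IH) (Lpe (f236130 IH) (Lpr_et (f246277 IH) (Lpn (LP (LK LD1_c4 LD2_c9 LD3_c23)))))))))))))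
theorem f50141 : Led Lsl_ct (LP (LK LD1_c0 LD2_c25 LD3_c27)) = (LP (LK LD1_c0 LD2_c11 LD3_c42)) :=
  Lre_c IH (LK LD1_c0 LD2_c25 LD3_c27) (LK LD1_c0 LD2_c11 LD3_c42) Lrfl Lrfl
theorem f236381 : Led Lsl_cf (LP (LK LD1_c2 LD2_c5 LD3_c25)) = (LP (LK LD1_c4 LD2_c9 LD3_c23)) :=
  Lgr Lrot1 (Lpe (f234163 IH) (Lpr_ct (f220207 IH) (Lpr_at (f236377 IH) (Lpn (LP (LK LD1_c4 LD2_c9 LD3_c23))))))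
theorem f246285 : Led Lsl_gf (LP (LK LD1_c1 LD2_c16 LD3_c27)) = (LP (LK LD1_c2 LD2_c5 LD3_c25)) :=
  Lgr Lrot148 (Lpr_dt (K10.f183248 IH) (Lpe (K10.f196391 IH) (Lpr_dt (K12.f50132 IH) (Lpr_ct (f50141 IH) (Lpe (K12.f594 IH) (Lpe (K12.f651 IH) (Lpe (f51459 IH) (Lpr_gf (f246281 IH) (Lpe (f236381 IH) (Lpn (LP (LK LD1_c2 LD2_c5 LD3_c25))))))))))))
theorem f183231 : Led Lsl_cf (LP (LK LD1_c0 LD2_c25 LD3_c51)) = (LP (LK LD1_c0 LD2_c35 LD3_c24)) :=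
  Lgr Lrot166 (Lpr_gt (K9.f183227 IH) (Lpr_dt (K9.f51589 IH) (Lpe (K9.f53317 IH) (Lpr_dt (K9.f6809 IH) (Lpr_ct (K9.f167771 IH) (Lpe (K9.f8575 IH) (Lpr_gf (K9.f179758 IH) (Lpe (K9.f1416 IH) (Lpe (K9.f183229 IH) (Lpn (LP (LK LD1_c0 LD2_c35 LD3_c24))))))))))))
theorem f173278 : Led Lsl_bt (LP (LK LD1_c0 LD2_c26 LD3_c46)) = (LP (LK LD1_c0 LD2_c58 LD3_c55)) :=
  Lre_b IH (LK LD1_c0 LD2_c26 LD3_c46) (LK LD1_c0 LD2_c58 LD3_c55) Lrfl Lrfl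
theorem f173279 : Led Lsl_gt (LP (LK LD1_c0 LD2_c58 LD3_c55)) = (LP (LK LD1_c2 LD2_c3 LD3_c52)) :=
  Lre_g IH (LK LD1_c0 LD2_c58 LD3_c55) (LK LD1_c2 LD2_c3 LD3_c52) Lrfl Lrfl
theorem f183240 : Led Lsl_ct (LP (LK LD1_c2 LD2_c3 LD3_c52)) = (LP (LK LD1_c4 LD2_c13 LD3_c14)) :=
  Lre_c IH (LK LD1_c2 LD2_c3 LD3_c52) (LK LD1_c4 LD2_c13 LD3_c14) Lrfl Lrfl
theorem f230402 : Led Lsl_bt (LP (LK LD1_c4 LD2_c15 LD3_c56)) = (LP (LK LD1_c2 LD2_c5 LD3_c25)) :=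
  Lre_b IH (LK LD1_c4 LD2_c15 LD3_c56) (LK LD1_c2 LD2_c5 LD3_c25) Lrfl Lrfl
theorem f230331 : Led Lsl_ft (LP (LK LD1_c7 LD2_c56 LD3_c4)) = (LP (LK LD1_c8 LD2_c36 LD3_c33)) :=
  Lgr Lrot48 (Lpr_ff (K12.f230326 IH) (Lpn (LP (LK LD1_c8 LD2_c36 LD3_c33))))
theorem f230378 : Led Lsl_et (LP (LK LD1_c3 LD2_c57 LD3_c11)) = (LP (LK LD1_c7 LD2_c56 LD3_c4)) :=
  Lre_e IH (LK LD1_c3 LD2_c57 LD3_c11) (LK LD1_c7 LD2_c56 LD3_c4) Lrfl Lrfl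
theorem f229493 : Led Lsl_at (LP (LK LD1_c3 LD2_c57 LD3_c11)) = (LP (LK LD1_c1 LD2_c55 LD3_c21)) :=
  Lre_a IH (LK LD1_c3 LD2_c57 LD3_c11) (LK LD1_c1 LD2_c55 LD3_c21) Lrfl Lrfl
theorem f229494 : Led Lsl_ff (LP (LK LD1_c3 LD2_c57 LD3_c11)) = (LP (LK LD1_c2 LD2_c5 LD3_c17)) :=
  Lgr Lrot52 (Lpr_at (f229493 IH) (Lpr_gf (K12.f229485 IH) (Lpr_gf (K12.f220610 IH) (Lpn (LP (LK LD1_c2 LD2_c5 LD3_c17))))))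
theorem f182536 : Led Lsl_et (LP (LK LD1_c1 LD2_c59 LD3_c44)) = (LP (LK LD1_c4 LD2_c5 LD3_c8)) :=
  Lre_e IH (LK LD1_c1 LD2_c59 LD3_c44) (LK LD1_c4 LD2_c5 LD3_c8) Lrfl Lrfl
theorem f191117 : Led Lsl_gt (LP (LK LD1_c8 LD2_c11 LD3_c3)) = (LP (LK LD1_c4 LD2_c5 LD3_c8)) :=
  Lre_g IH (LK LD1_c8 LD2_c11 LD3_c3) (LK LD1_c4 LD2_c5 LD3_c8) Lrfl Lrfl
theorem f229939 : Led Lsl_ef (LP (LK LD1_c8 LD2_c11 LD3_c3)) = (LP (LK LD1_c8 LD2_c36 LD3_c33)) :=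
  Lgr Lrot114 (Lpr_gt (f191117 IH) (Lpe (f182536 IH) (Lpr_dt (f182534 IH) (Lpe (f191105 IH) (Lpe (f190335 IH) (Lpr_et (f190336 IH) (Lpr_gt (K12.f190878 IH) (Lpr_dt (K9.f43548 IH) (Lpr_gt (K9.f43810 IH) (Lpr_df (K12.f229934 IH) (Lpn (LP (LK LD1_c8 LD2_c36 LD3_c33)))))))))))))
theorem f230379 : Led Lsl_ff (LP (LK LD1_c4 LD2_c15 LD3_c52)) = (LP (LK LD1_c8 LD2_c11 LD3_c3)) :=
  Lgr Lrot72 (Lpr_et (K12.f188779 IH) (Lpe (f229494 IH) (Lpr_et (f230378 IH) (Lpr_ft (f230331 IH) (Lpe (f229939 IH) (Lpn (LP (LK LD1_c8 LD2_c11 LD3_c3))))))))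
theorem f220631 : Led Lsl_ct (LP (LK LD1_c4 LD2_c15 LD3_c52)) = (LP (LK LD1_c2 LD2_c5 LD3_c19)) :=
  Lre_c IH (LK LD1_c4 LD2_c15 LD3_c52) (LK LD1_c2 LD2_c5 LD3_c19) Lrfl Lrfl
theorem f220644 : Led Lsl_ft (LP (LK LD1_c2 LD2_c5 LD3_c19)) = (LP (LK LD1_c4 LD2_c15 LD3_c56)) :=
  Lre_f IH (LK LD1_c2 LD2_c5 LD3_c19) (LK LD1_c4 LD2_c15 LD3_c56) Lrfl Lrfl
theorem f230381 : Led Lsl_ct (LP (LK LD1_c4 LD2_c15 LD3_c56)) = (LP (LK LD1_c8 LD2_c11 LD3_c3)) :=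
  Lgr Lrot40 (Lpe (f220644 IH) (Lpe (f220631 IH) (Lpr_ff (f230379 IH) (Lpn (LP (LK LD1_c8 LD2_c11 LD3_c3))))))
theorem f246292 : Led Lsl_gt (LP (LK LD1_c4 LD2_c13 LD3_c14)) = (LP (LK LD1_c8 LD2_c11 LD3_c3)) :=
  Lgr Lrot149 (Lpe (f183240 IH) (Lpe (f173279 IH) (Lpe (f173278 IH) (Lpr_ct (K9.f165141 IH) (Lpe (K9.f183227 IH) (Lpr_cf (f183231 IH) (Lpr_bt (K10.f183239 IH) (Lpr_gf (f246285 IH) (Lpe (f230402 IH) (Lpr_ct (f230381 IH) (Lpn (LP (LK LD1_c8 LD2_c11 LD3_c3)))))))))))))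
theorem f41441 : Led Lsl_dt (LP (LK LD1_c0 LD2_c15 LD3_c49)) = (LP (LK LD1_c0 LD2_c35 LD3_c16)) :=
  Lre_d IH (LK LD1_c0 LD2_c15 LD3_c49) (LK LD1_c0 LD2_c35 LD3_c16) Lrfl Lrfl
theorem f217743 : Led Lsl_ct (LP (LK LD1_c0 LD2_c35 LD3_c16)) = (LP (LK LD1_c1 LD2_c16 LD3_c8)) :=
  Lre_c IH (LK LD1_c0 LD2_c35 LD3_c16) (LK LD1_c1 LD2_c16 LD3_c8) Lrfl Lrfl
theorem f217744 : Led Lsl_dt (LP (LK LD1_c2 LD2_c38 LD3_c25)) = (LP (LK LD1_c1 LD2_c16 LD3_c8)) :=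
  Lre_d IH (LK LD1_c2 LD2_c38 LD3_c25) (LK LD1_c1 LD2_c16 LD3_c8) Lrfl Lrfl
theorem f217745 : Led Lsl_gf (LP (LK LD1_c2 LD2_c38 LD3_c25)) = (LP (LK LD1_c5 LD2_c23 LD3_c4)) :=
  Lgr Lrot143 (Lpr_dt (f217744 IH) (Lpe (f217743 IH) (Lpe (f41441 IH) (Lpe (K9.f41437 IH) (Lpe (K1.f41420 IH) (Lpe (K9.f41435 IH) (Lpe (K12.f196819 IH) (Lpr_gt (f217728 IH) (Lpr_dt (K12.f217725 IH) (Lpn (LP (LK LD1_c5 LD2_c23 LD3_c4))))))))))))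
theorem f218231 : Led Lsl_dt (LP (LK LD1_c1 LD2_c16 LD3_c23)) = (LP (LK LD1_c0 LD2_c35 LD3_c20)) :=
  Lre_d IH (LK LD1_c1 LD2_c16 LD3_c23) (LK LD1_c0 LD2_c35 LD3_c20) Lrfl Lrfl
theorem f196718 : Led Lsl_ct (LP (LK LD1_c2 LD2_c39 LD3_c12)) = (LP (LK LD1_c1 LD2_c16 LD3_c23)) :=
  Lre_c IH (LK LD1_c2 LD2_c39 LD3_c12) (LK LD1_c1 LD2_c16 LD3_c23) Lrfl Lrfl
theorem f41242 : Led Lsl_gt (LP (LK LD1_c4 LD2_c55 LD3_c45)) = (LP (LK LD1_c2 LD2_c39 LD3_c12)) :=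
  Lre_g IH (LK LD1_c4 LD2_c55 LD3_c45) (LK LD1_c2 LD2_c39 LD3_c12) Lrfl Lrfl
theorem f218232 : Led Lsl_ct (LP (LK LD1_c2 LD2_c38 LD3_c25)) = (LP (LK LD1_c4 LD2_c55 LD3_c45)) :=
  Lgr Lrot152 (Lpr_gf (f217745 IH) (Lpe (K12.f217725 IH) (Lpr_gt (K12.f217930 IH) (Lpr_ct (K12.f194442 IH) (Lpr_gt (K1.f42557 IH) (Lpr_ct (K9.f173087 IH) (Lpe (f218231 IH) (Lpe (f196718 IH) (Lpe (f41242 IH) (Lpn (LP (LK LD1_c4 LD2_c55 LD3_c45))))))))))))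
theorem f55161 : Led Lsl_dt (LP (LK LD1_c1 LD2_c10 LD3_c1)) = (LP (LK LD1_c2 LD2_c25 LD3_c41)) :=
  Lre_d IH (LK LD1_c1 LD2_c10 LD3_c1) (LK LD1_c2 LD2_c25 LD3_c41) Lrfl Lrfl
theorem f55195 : Led Lsl_gt (LP (LK LD1_c2 LD2_c25 LD3_c41)) = (LP (LK LD1_c4 LD2_c55 LD3_c45)) :=
  Lre_g IH (LK LD1_c2 LD2_c25 LD3_c41) (LK LD1_c4 LD2_c55 LD3_c45) Lrfl Lrfl
theorem f196598 : Led Lsl_df (LP (LK LD1_c2 LD2_c37 LD3_c51)) = (LP (LK LD1_c4 LD2_c55 LD3_c45)) :=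
  Lgr Lrot84 (Lpe (f196597 IH) (Lpe (K12.f196595 IH) (Lpr_gf (K12.f196592 IH) (Lpe (K12.f49236 IH) (Lpe (K12.f194609 IH) (Lpe (K12.f167932 IH) (Lpr_gt (K9.f55165 IH) (Lpr_dt (f55161 IH) (Lpr_gt (f55195 IH) (Lpn (LP (LK LD1_c4 LD2_c55 LD3_c45))))))))))))
theorem f196712 : Led Lsl_dt (LP (LK LD1_c2 LD2_c37 LD3_c51)) = (LP (LK LD1_c4 LD2_c55 LD3_c45)) :=
  Lgr Lrot42 (Lpr_df (f196598 IH) (Lpn (LP (LK LD1_c4 LD2_c55 LD3_c45))))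
theorem f196720 : Led Lsl_gt (LP (LK LD1_c2 LD2_c37 LD3_c50)) = (LP (LK LD1_c1 LD2_c15 LD3_c55)) :=
  Lre_g IH (LK LD1_c2 LD2_c37 LD3_c50) (LK LD1_c1 LD2_c15 LD3_c55) Lrfl Lrfl
theorem f196721 : Led Lsl_ct (LP (LK LD1_c5 LD2_c22 LD3_c34)) = (LP (LK LD1_c2 LD2_c37 LD3_c50)) :=
  Lre_c IH (LK LD1_c5 LD2_c22 LD3_c34) (LK LD1_c2 LD2_c37 LD3_c50) Lrfl Lrfl
theorem f218392 : Led Lsl_gt (LP (LK LD1_c4 LD2_c54 LD3_c32)) = (LP (LK LD1_c5 LD2_c22 LD3_c34)) :=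
  Lgr Lrot9 (Lpe (K12.f201190 IH) (Lpr_gt (K12.f217356 IH) (Lpr_ct (K12.f217723 IH) (Lpe (f217745 IH) (Lpr_ct (f218232 IH) (Lpe (f196712 IH) (Lpe (f196597 IH) (Lpe (f196720 IH) (Lpe (f196721 IH) (Lpn (LP (LK LD1_c5 LD2_c22 LD3_c34))))))))))))
theorem f230383 : Led Lsl_ft (LP (LK LD1_c4 LD2_c15 LD3_c52)) = (LP (LK LD1_c8 LD2_c11 LD3_c3)) :=
  Lgr Lrot48 (Lpr_ff (f230379 IH) (Lpn (LP (LK LD1_c8 LD2_c11 LD3_c3))))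
theorem f220723 : Led Lsl_ft (LP (LK LD1_c4 LD2_c15 LD3_c56)) = (LP (LK LD1_c2 LD2_c5 LD3_c19)) :=
  Lre_f IH (LK LD1_c4 LD2_c15 LD3_c56) (LK LD1_c2 LD2_c5 LD3_c19) Lrfl Lrfl
theorem f230385 : Led Lsl_cf (LP (LK LD1_c4 LD2_c15 LD3_c56)) = (LP (LK LD1_c8 LD2_c11 LD3_c3)) :=
  Lgr Lrot108 (Lpr_ft (f220723 IH) (Lpr_ct (K12.f220617 IH) (Lpr_ft (f230383 IH) (Lpn (LP (LK LD1_c8 LD2_c11 LD3_c3))))))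
theorem f246303 : Led Lsl_df (LP (LK LD1_c2 LD2_c37 LD3_c50)) = (LP (LK LD1_c4 LD2_c15 LD3_c56)) :=
  Lgr Lrot162 (Lpe (f196721 IH) (Lpe (f218392 IH) (Lpe (K12.f101437 IH) (Lpe (K12.f228684 IH) (Lpr_dt (K12.f178288 IH) (Lpr_gt (f173279 IH) (Lpr_ct (f183240 IH) (Lpr_gt (f246292 IH) (Lpe (f230385 IH) (Lpn (LP (LK LD1_c4 LD2_c15 LD3_c56))))))))))))
theorem f246311 : Led Lsl_ft (LP (LK LD1_c2 LD2_c37 LD3_c50)) = (LP (LK LD1_c2 LD2_c37 LD3_c39)) :=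
  Lgr Lrot54 (Lpr_df (f246303 IH) (Lpe (f220644 IH) (Lpe (K12.f220632 IH) (Lpn (LP (LK LD1_c2 LD2_c37 LD3_c39))))))
theorem f246319 : Led Lsl_af (LP (LK LD1_c2 LD2_c37 LD3_c49)) = (LP (LK LD1_c2 LD2_c37 LD3_c39)) :=
  Lgr Lrot31 (Lpe (K12.f196596 IH) (Lpe (f196720 IH) (Lpr_ft (f246311 IH) (Lpn (LP (LK LD1_c2 LD2_c37 LD3_c39))))))
theorem f220638 : Led Lsl_et (LP (LK LD1_c5 LD2_c22 LD3_c16)) = (LP (LK LD1_c2 LD2_c37 LD3_c39)) :=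
  Lre_e IH (LK LD1_c5 LD2_c22 LD3_c16) (LK LD1_c2 LD2_c37 LD3_c39) Lrfl Lrfl
theorem f246325 : Led Lsl_at (LP (LK LD1_c5 LD2_c22 LD3_c33)) = (LP (LK LD1_c5 LD2_c22 LD3_c16)) :=
  Lgr Lrot80 (Lpe (f196618 IH) (Lpr_af (f246319 IH) (Lpe (f220638 IH) (Lpn (LP (LK LD1_c5 LD2_c22 LD3_c16))))))
theorem f220658 : Led Lsl_ft (LP (LK LD1_c5 LD2_c22 LD3_c16)) = (LP (LK LD1_c10 LD2_c35 LD3_c0)) :=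
  Lre_f IH (LK LD1_c5 LD2_c22 LD3_c16) (LK LD1_c10 LD2_c35 LD3_c0) Lrfl Lrfl
theorem f246331 : Led Lsl_af (LP (LK LD1_c10 LD2_c35 LD3_c26)) = (LP (LK LD1_c10 LD2_c35 LD3_c0)) :=
  Lgr Lrot45 (Lpr_ft (f196635 IH) (Lpr_at (f246325 IH) (Lpr_ft (f220658 IH) (Lpn (LP (LK LD1_c10 LD2_c35 LD3_c0))))))
theorem f220640 : Led Lsl_dt (LP (LK LD1_c0 LD2_c59 LD3_c42)) = (LP (LK LD1_c2 LD2_c5 LD3_c18)) :=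
  Lre_d IH (LK LD1_c0 LD2_c59 LD3_c42) (LK LD1_c2 LD2_c5 LD3_c18) Lrfl Lrfl
theorem f220641 : Led Lsl_et (LP (LK LD1_c2 LD2_c5 LD3_c18)) = (LP (LK LD1_c4 LD2_c15 LD3_c55)) :=
  Lre_e IH (LK LD1_c2 LD2_c5 LD3_c18) (LK LD1_c4 LD2_c15 LD3_c55) Lrfl Lrfl
theorem f220642 : Led Lsl_df (LP (LK LD1_c5 LD2_c22 LD3_c16)) = (LP (LK LD1_c4 LD2_c15 LD3_c55)) :=
  Lgr Lrot70 (Lpr_et (f220638 IH) (Lpr_dt (K12.f220632 IH) (Lpr_et (f220639 IH) (Lpr_dt (f220640 IH) (Lpr_et (f220641 IH) (Lpn (LP (LK LD1_c4 LD2_c15 LD3_c55))))))))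
theorem f220659 : Led Lsl_ft (LP (LK LD1_c8 LD2_c30 LD3_c53)) = (LP (LK LD1_c4 LD2_c15 LD3_c55)) :=
  Lre_f IH (LK LD1_c8 LD2_c30 LD3_c53) (LK LD1_c4 LD2_c15 LD3_c55) Lrfl Lrfl
theorem f220660 : Led Lsl_dt (LP (LK LD1_c10 LD2_c35 LD3_c0)) = (LP (LK LD1_c8 LD2_c30 LD3_c53)) :=
  Lgr Lrot60 (Lpe (f220658 IH) (Lpr_df (f220642 IH) (Lpe (f220659 IH) (Lpn (LP (LK LD1_c8 LD2_c30 LD3_c53))))))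
theorem f220668 : Led Lsl_df (LP (LK LD1_c10 LD2_c35 LD3_c0)) = (LP (LK LD1_c8 LD2_c30 LD3_c53)) :=
  Lgr Lrot38 (Lpr_dt (f220660 IH) (Lpn (LP (LK LD1_c8 LD2_c30 LD3_c53))))
theorem f246337 : Led Lsl_at (LP (LK LD1_c8 LD2_c40 LD3_c56)) = (LP (LK LD1_c8 LD2_c30 LD3_c53)) :=
  Lgr Lrot51 (Lpe (f196651 IH) (Lpr_af (f246331 IH) (Lpr_df (f220668 IH) (Lpn (LP (LK LD1_c8 LD2_c30 LD3_c53))))))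
theorem f246341 : Led Lsl_af (LP (LK LD1_c8 LD2_c40 LD3_c56)) = (LP (LK LD1_c8 LD2_c30 LD3_c53)) :=
  Lgr Lrot0 (Lpr_at (f246337 IH) (Lpn (LP (LK LD1_c8 LD2_c30 LD3_c53))))
theorem f196653 : Led Lsl_ft (LP (LK LD1_c8 LD2_c40 LD3_c56)) = (LP (LK LD1_c4 LD2_c21 LD3_c40)) :=
  Lre_f IH (LK LD1_c8 LD2_c40 LD3_c56) (LK LD1_c4 LD2_c21 LD3_c40) Lrfl Lrfl
theorem f220662 : Led Lsl_ft (LP (LK LD1_c4 LD2_c15 LD3_c55)) = (LP (LK LD1_c8 LD2_c30 LD3_c53)) :=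
  Lre_f IH (LK LD1_c4 LD2_c15 LD3_c55) (LK LD1_c8 LD2_c30 LD3_c53) Lrfl Lrfl
theorem f246343 : Led Lsl_at (LP (LK LD1_c4 LD2_c21 LD3_c40)) = (LP (LK LD1_c4 LD2_c15 LD3_c55)) :=
  Lgr Lrot66 (Lpe (f196653 IH) (Lpr_af (f246341 IH) (Lpe (f220662 IH) (Lpn (LP (LK LD1_c4 LD2_c15 LD3_c55))))))
theorem f187084 : Led Lsl_et (LP (LK LD1_c2 LD2_c8 LD3_c20)) = (LP (LK LD1_c4 LD2_c21 LD3_c40)) :=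
  Lre_e IH (LK LD1_c2 LD2_c8 LD3_c20) (LK LD1_c4 LD2_c21 LD3_c40) Lrfl Lrfl
theorem f220665 : Led Lsl_et (LP (LK LD1_c4 LD2_c15 LD3_c55)) = (LP (LK LD1_c2 LD2_c5 LD3_c18)) :=
  Lre_e IH (LK LD1_c4 LD2_c15 LD3_c55) (LK LD1_c2 LD2_c5 LD3_c18) Lrfl Lrfl
theorem f246349 : Led Lsl_af (LP (LK LD1_c2 LD2_c8 LD3_c20)) = (LP (LK LD1_c2 LD2_c5 LD3_c18)) :=
  Lgr Lrot50 (Lpr_et (f187084 IH) (Lpr_at (f246343 IH) (Lpr_et (f220665 IH) (Lpn (LP (LK LD1_c2 LD2_c5 LD3_c18))))))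
theorem f246358 : Led Lsl_at (LP (LK LD1_c1 LD2_c1 LD3_c19)) = (LP (LK LD1_c0 LD2_c59 LD3_c42)) :=
  Lgr Lrot51 (Lpe (f187074 IH) (Lpr_af (f246349 IH) (Lpe (f220640 IH) (Lpn (LP (LK LD1_c0 LD2_c59 LD3_c42))))))
theorem f220675 : Led Lsl_et (LP (LK LD1_c0 LD2_c59 LD3_c42)) = (LP (LK LD1_c2 LD2_c5 LD3_c19)) :=
  Lre_e IH (LK LD1_c0 LD2_c59 LD3_c42) (LK LD1_c2 LD2_c5 LD3_c19) Lrfl Lrfl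
theorem f246364 : Led Lsl_af (LP (LK LD1_c2 LD2_c8 LD3_c21)) = (LP (LK LD1_c2 LD2_c5 LD3_c19)) :=
  Lgr Lrot50 (Lpr_et (K12.f187082 IH) (Lpr_at (f246358 IH) (Lpr_et (f220675 IH) (Lpn (LP (LK LD1_c2 LD2_c5 LD3_c19))))))
theorem f182529 : Led Lsl_et (LP (LK LD1_c4 LD2_c5 LD3_c8)) = (LP (LK LD1_c1 LD2_c59 LD3_c44)) :=
  Lre_e IH (LK LD1_c4 LD2_c5 LD3_c8) (LK LD1_c1 LD2_c59 LD3_c44) Lrfl Lrfl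
theorem f223906 : Led Lsl_df (LP (LK LD1_c2 LD2_c39 LD3_c2)) = (LP (LK LD1_c4 LD2_c5 LD3_c8)) :=
  Lgr Lrot168 (Lpr_gf (f223897 IH) (Lpe (f214015 IH) (Lpr_et (K12.f223882 IH) (Lpe (K12.f168194 IH) (Lpe (K12.f214074 IH) (Lpr_dt (K12.f214054 IH) (Lpe (K12.f214068 IH) (Lpe (K12.f28683 IH) (Lpe (K10.f183908 IH) (Lpe (f182529 IH) (Lpn (LP (LK LD1_c4 LD2_c5 LD3_c8)))))))))))))
theorem f230405 : Led Lsl_gt (LP (LK LD1_c4 LD2_c15 LD3_c56)) = (LP (LK LD1_c2 LD2_c58 LD3_c30)) :=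
  Lgr Lrot94 (Lpr_cf (f230385 IH) (Lpr_gt (f191117 IH) (Lpe (f223906 IH) (Lpr_gt (f223900 IH) (Lpr_dt (K0.f27702 IH) (Lpe (K12.f44564 IH) (Lpe (K9.f30858 IH) (Lpe (K12.f30874 IH) (Lpe (K12.f196772 IH) (Lpn (LP (LK LD1_c2 LD2_c58 LD3_c30))))))))))))
theorem f246368 : Led Lsl_gf (LP (LK LD1_c2 LD2_c8 LD3_c21)) = (LP (LK LD1_c2 LD2_c58 LD3_c30)) :=
  Lgr Lrot76 (Lpr_af (f246364 IH) (Lpe (f220723 IH) (Lpr_gt (f230405 IH) (Lpn (LP (LK LD1_c2 LD2_c58 LD3_c30))))))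
theorem f211408 : Led Lsl_bt (LP (LK LD1_c1 LD2_c59 LD3_c13)) = (LP (LK LD1_c4 LD2_c4 LD3_c34)) :=
  Lre_b IH (LK LD1_c1 LD2_c59 LD3_c13) (LK LD1_c4 LD2_c4 LD3_c34) Lrfl Lrfl
theorem f246370 : Led Lsl_gt (LP (LK LD1_c4 LD2_c4 LD3_c34)) = (LP (LK LD1_c2 LD2_c38 LD3_c54)) :=
  Lgr Lrot164 (Lpe (f211408 IH) (Lpr_ct (K12.f28926 IH) (Lpe (K9.f28914 IH) (Lpe (f53082 IH) (Lpe (K12.f224871 IH) (Lpe (K12.f200415 IH) (Lpe (K12.f211411 IH) (Lpr_gf (f246368 IH) (Lpe (K12.f42255 IH) (Lpr_bt (K10.f194599 IH) (Lpn (LP (LK LD1_c2 LD2_c38 LD3_c54)))))))))))))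
theorem f43964 : Led Lsl_gt (LP (LK LD1_c1 LD2_c15 LD3_c8)) = (LP (LK LD1_c2 LD2_c36 LD3_c16)) :=
  Lre_g IH (LK LD1_c1 LD2_c15 LD3_c8) (LK LD1_c2 LD2_c36 LD3_c16) Lrfl Lrfl
theorem f46378 : Led Lsl_dt (LP (LK LD1_c5 LD2_c19 LD3_c10)) = (LP (LK LD1_c2 LD2_c36 LD3_c16)) :=
  Lre_d IH (LK LD1_c5 LD2_c19 LD3_c10) (LK LD1_c2 LD2_c36 LD3_c16) Lrfl Lrfl
theorem f246378 : Led Lsl_ef (LP (LK LD1_c4 LD2_c4 LD3_c34)) = (LP (LK LD1_c5 LD2_c19 LD3_c10)) :=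
  Lgr Lrot167 (Lpr_gt (f246370 IH) (Lpe (K10.f194603 IH) (Lpr_gt (K12.f194609 IH) (Lpe (K9.f49217 IH) (Lpr_et (K9.f47483 IH) (Lpe (K10.f47490 IH) (Lpe (K1.f43961 IH) (Lpr_dt (K1.f43924 IH) (Lpr_gt (f43964 IH) (Lpe (f46378 IH) (Lpn (LP (LK LD1_c5 LD2_c19 LD3_c10)))))))))))))
theorem f246382 : Led Lsl_et (LP (LK LD1_c4 LD2_c4 LD3_c34)) = (LP (LK LD1_c5 LD2_c19 LD3_c10)) :=
  Lgr Lrot87 (Lpr_ef (f246378 IH) (Lpn (LP (LK LD1_c5 LD2_c19 LD3_c10))))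
theorem f243632 : Led Lsl_gt (LP (LK LD1_c2 LD2_c40 LD3_c17)) = (LP (LK LD1_c1 LD2_c16 LD3_c53)) :=
  Lre_g IH (LK LD1_c2 LD2_c40 LD3_c17) (LK LD1_c1 LD2_c16 LD3_c53) Lrfl Lrfl
theorem f243633 : Led Lsl_gf (LP (LK LD1_c2 LD2_c40 LD3_c17)) = (LP (LK LD1_c4 LD2_c15 LD3_c57)) :=
  Lgr Lrot47 (Lpr_gt (f243632 IH) (Lpe (f243524 IH) (Lpr_ff (f243619 IH) (Lpn (LP (LK LD1_c4 LD2_c15 LD3_c57))))))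
theorem f243637 : Led Lsl_ct (LP (LK LD1_c2 LD2_c40 LD3_c17)) = (LP (LK LD1_c2 LD2_c45 LD3_c23)) :=
  Lre_c IH (LK LD1_c2 LD2_c40 LD3_c17) (LK LD1_c2 LD2_c45 LD3_c23) Lrfl Lrfl
theorem f243616 : Led Lsl_dt (LP (LK LD1_c8 LD2_c27 LD3_c10)) = (LP (LK LD1_c4 LD2_c15 LD3_c57)) :=
  Lgr Lrot42 (Lpr_df (f243609 IH) (Lpn (LP (LK LD1_c4 LD2_c15 LD3_c57))))
theorem f1345 : Led Lsl_gt (LP (LK LD1_c8 LD2_c27 LD3_c11)) = (LP (LK LD1_c4 LD2_c16 LD3_c34)) :=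
  Lre_g IH (LK LD1_c8 LD2_c27 LD3_c11) (LK LD1_c4 LD2_c16 LD3_c34) Lrfl Lrfl
theorem f221076 : Led Lsl_cf (LP (LK LD1_c8 LD2_c26 LD3_c36)) = (LP (LK LD1_c4 LD2_c16 LD3_c34)) :=
  Lgr Lrot11 (Lpr_ct (K12.f221070 IH) (Lpn (LP (LK LD1_c4 LD2_c16 LD3_c34))))
theorem f243638 : Led Lsl_gt (LP (LK LD1_c2 LD2_c45 LD3_c23)) = (LP (LK LD1_c2 LD2_c4 LD3_c22)) :=
  Lgr Lrot150 (Lpe (f243637 IH) (Lpr_gf (f243633 IH) (Lpe (f243616 IH) (Lpr_gt (f195806 IH) (Lpr_ct (K12.f188961 IH) (Lpr_gt (f1345 IH) (Lpe (f221076 IH) (Lpe (f188910 IH) (Lpe (K12.f188568 IH) (Lpn (LP (LK LD1_c2 LD2_c4 LD3_c22))))))))))))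
theorem f199592 : Led Lsl_bt (LP (LK LD1_c1 LD2_c19 LD3_c5)) = (LP (LK LD1_c2 LD2_c45 LD3_c23)) :=
  Lre_b IH (LK LD1_c1 LD2_c19 LD3_c5) (LK LD1_c2 LD2_c45 LD3_c23) Lrfl Lrfl
theorem f196938 : Led Lsl_ct (LP (LK LD1_c1 LD2_c19 LD3_c5)) = (LP (LK LD1_c2 LD2_c45 LD3_c24)) :=
  Lre_c IH (LK LD1_c1 LD2_c19 LD3_c5) (LK LD1_c2 LD2_c45 LD3_c24) Lrfl Lrfl
theorem f188559 : Led Lsl_bt (LP (LK LD1_c2 LD2_c25 LD3_c8)) = (LP (LK LD1_c2 LD2_c4 LD3_c22)) :=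
  Lgr Lrot127 (Lpr_bf (K10.f188557 IH) (Lpn (LP (LK LD1_c2 LD2_c4 LD3_c22))))
theorem f42257 : Led Lsl_gt (LP (LK LD1_c1 LD2_c16 LD3_c24)) = (LP (LK LD1_c2 LD2_c37 LD3_c6)) :=
  Lre_g IH (LK LD1_c1 LD2_c16 LD3_c24) (LK LD1_c2 LD2_c37 LD3_c6) Lrfl Lrfl
theorem f221545 : Led Lsl_gf (LP (LK LD1_c10 LD2_c35 LD3_c16)) = (LP (LK LD1_c9 LD2_c40 LD3_c37)) :=
  Lgr Lrot104 (Lpr_ct (K12.f217820 IH) (Lpe (K12.f217643 IH) (Lpr_cf (K12.f217621 IH) (Lpr_gf (K12.f220763 IH) (Lpe (K12.f218808 IH) (Lpe (f42257 IH) (Lpe (K12.f181796 IH) (Lpr_gt (K12.f167958 IH) (Lpe (K12.f218770 IH) (Lpn (LP (LK LD1_c9 LD2_c40 LD3_c37))))))))))))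
theorem f217754 : Led Lsl_dt (LP (LK LD1_c1 LD2_c16 LD3_c8)) = (LP (LK LD1_c2 LD2_c38 LD3_c25)) :=
  Lre_d IH (LK LD1_c1 LD2_c16 LD3_c8) (LK LD1_c2 LD2_c38 LD3_c25) Lrfl Lrfl
theorem f169228 : Led Lsl_ct (LP (LK LD1_c2 LD2_c38 LD3_c19)) = (LP (LK LD1_c1 LD2_c16 LD3_c6)) :=
  Lre_c IH (LK LD1_c2 LD2_c38 LD3_c19) (LK LD1_c1 LD2_c16 LD3_c6) Lrfl Lrfl
theorem f196611 : Led Lsl_dt (LP (LK LD1_c1 LD2_c15 LD3_c55)) = (LP (LK LD1_c0 LD2_c35 LD3_c11)) :=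
  Lre_d IH (LK LD1_c1 LD2_c15 LD3_c55) (LK LD1_c0 LD2_c35 LD3_c11) Lrfl Lrfl
theorem f218386 : Led Lsl_df (LP (LK LD1_c2 LD2_c38 LD3_c19)) = (LP (LK LD1_c4 LD2_c55 LD3_c46)) :=
  Lgr Lrot43 (Lpr_ct (f169228 IH) (Lpr_dt (K12.f167816 IH) (Lpr_ct (K9.f167808 IH) (Lpr_dt (f41441 IH) (Lpr_ct (f217743 IH) (Lpr_dt (f217754 IH) (Lpr_ct (f218232 IH) (Lpe (f196598 IH) (Lpr_ct (f196600 IH) (Lpr_dt (f196611 IH) (Lpr_ct (K10.f171878 IH) (Lpr_dt (K12.f42493 IH) (Lpr_ct (K12.f196710 IH) (Lpr_dt (K12.f196711 IH) (Lpe (K12.f217660 IH) (Lpn (LP (LK LD1_c4 LD2_c55 LD3_c46))))))))))))))))))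
theorem f167799 : Led Lsl_dt (LP (LK LD1_c4 LD2_c54 LD3_c30)) = (LP (LK LD1_c9 LD2_c40 LD3_c37)) :=
  Lre_d IH (LK LD1_c4 LD2_c54 LD3_c30) (LK LD1_c9 LD2_c40 LD3_c37) Lrfl Lrfl
theorem f221554 : Led Lsl_gf (LP (LK LD1_c5 LD2_c22 LD3_c32)) = (LP (LK LD1_c4 LD2_c54 LD3_c30)) :=
  Lgr Lrot147 (Lpr_ct (f196623 IH) (Lpr_gt (f220758 IH) (Lpr_ct (K12.f169161 IH) (Lpr_df (f218386 IH) (Lpr_cf (K12.f217660 IH) (Lpe (K12.f199070 IH) (Lpe (K12.f217820 IH) (Lpr_gf (f221545 IH) (Lpe (f167799 IH) (Lpn (LP (LK LD1_c4 LD2_c54 LD3_c30))))))))))))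
theorem f28911 : Led Lsl_bt (LP (LK LD1_c1 LD2_c1 LD3_c21)) = (LP (LK LD1_c2 LD2_c8 LD3_c21)) :=
  Lre_b IH (LK LD1_c1 LD2_c1 LD3_c21) (LK LD1_c2 LD2_c8 LD3_c21) Lrfl Lrfl
theorem f196613 : Led Lsl_bt (LP (LK LD1_c2 LD2_c37 LD3_c49)) = (LP (LK LD1_c1 LD2_c58 LD3_c40)) :=
  Lgr Lrot95 (Lpr_df (K12.f196609 IH) (Lpe (f28911 IH) (Lpr_df (K9.f28828 IH) (Lpn (LP (LK LD1_c1 LD2_c58 LD3_c40))))))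
theorem f243650 : Led Lsl_gf (LP (LK LD1_c2 LD2_c45 LD3_c24)) = (LP (LK LD1_c1 LD2_c58 LD3_c51)) :=
  Lgr Lrot129 (Lpe (f196938 IH) (Lpr_bt (f199592 IH) (Lpr_gt (f243638 IH) (Lpe (f188559 IH) (Lpr_ct (K12.f41909 IH) (Lpe (f221554 IH) (Lpe (f196615 IH) (Lpr_bt (f196613 IH) (Lpe (K12.f226899 IH) (Lpr_ct (K11.f200800 IH) (Lpn (LP (LK LD1_c1 LD2_c58 LD3_c51)))))))))))))
theorem f179412 : Led Lsl_ct (LP (LK LD1_c2 LD2_c45 LD3_c24)) = (LP (LK LD1_c1 LD2_c19 LD3_c5)) :=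
  Lre_c IH (LK LD1_c2 LD2_c45 LD3_c24) (LK LD1_c1 LD2_c19 LD3_c5) Lrfl Lrfl
theorem f197267 : Led Lsl_gt (LP (LK LD1_c0 LD2_c56 LD3_c23)) = (LP (LK LD1_c1 LD2_c59 LD3_c14)) :=
  Lre_g IH (LK LD1_c0 LD2_c56 LD3_c23) (LK LD1_c1 LD2_c59 LD3_c14) Lrfl Lrfl
theorem f224988 : Led Lsl_ct (LP (LK LD1_c0 LD2_c58 LD3_c48)) = (LP (LK LD1_c1 LD2_c59 LD3_c14)) :=
  Lgr Lrot63 (Lpr_bt (K12.f178493 IH) (Lpr_gt (K10.f178491 IH) (Lpr_bf (K11.f200367 IH) (Lpr_ct (K9.f2142 IH) (Lpe (K9.f178282 IH) (Lpe (f167762 IH) (Lpr_bt (K12.f6816 IH) (Lpr_gt (K12.f224875 IH) (Lpr_ct (K12.f53080 IH) (Lpr_gt (f197267 IH) (Lpn (LP (LK LD1_c1 LD2_c59 LD3_c14)))))))))))))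
theorem f243658 : Led Lsl_dt (LP (LK LD1_c1 LD2_c19 LD3_c5)) = (LP (LK LD1_c1 LD2_c59 LD3_c14)) :=
  Lgr Lrot27 (Lpe (f179412 IH) (Lpr_gf (f243650 IH) (Lpe (K11.f200800 IH) (Lpr_gf (K12.f226899 IH) (Lpe (K9.f28824 IH) (Lpe (f238503 IH) (Lpr_ct (K12.f193350 IH) (Lpr_gt (K12.f193366 IH) (Lpr_ct (f224988 IH) (Lpn (LP (LK LD1_c1 LD2_c59 LD3_c14))))))))))))
theorem f179411 : Led Lsl_gt (LP (LK LD1_c0 LD2_c36 LD3_c32)) = (LP (LK LD1_c1 LD2_c19 LD3_c5)) :=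
  Lre_g IH (LK LD1_c0 LD2_c36 LD3_c32) (LK LD1_c1 LD2_c19 LD3_c5) Lrfl Lrfl
theorem f178082 : Led Lsl_gt (LP (LK LD1_c1 LD2_c19 LD3_c7)) = (LP (LK LD1_c2 LD2_c45 LD3_c29)) :=
  Lre_g IH (LK LD1_c1 LD2_c19 LD3_c7) (LK LD1_c2 LD2_c45 LD3_c29) Lrfl Lrfl
theorem f192820 : Led Lsl_bt (LP (LK LD1_c0 LD2_c25 LD3_c37)) = (LP (LK LD1_c0 LD2_c25 LD3_c37)) :=
  Lgr Lrot95 (Lpe (K10.f28161 IH) (Lpr_bf (K10.f192801 IH) (Lpe (K10.f53079 IH) (Lpn (LP (LK LD1_c0 LD2_c25 LD3_c37))))))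
theorem f53335 : Led Lsl_bt (LP (LK LD1_c0 LD2_c26 LD3_c33)) = (LP (LK LD1_c0 LD2_c11 LD3_c49)) :=
  Lre_b IH (LK LD1_c0 LD2_c26 LD3_c33) (LK LD1_c0 LD2_c11 LD3_c49) Lrfl Lrfl
theorem f226879 : Led Lsl_gf (LP (LK LD1_c0 LD2_c56 LD3_c31)) = (LP (LK LD1_c1 LD2_c59 LD3_c14)) :=
  Lgr Lrot126 (Lpe (K11.f53102 IH) (Lpr_bt (f192820 IH) (Lpr_gt (K12.f226855 IH) (Lpe (K11.f173356 IH) (Lpr_gt (f224984 IH) (Lpe (K11.f53336 IH) (Lpr_bt (f53335 IH) (Lpr_gt (K9.f6759 IH) (Lpe (K12.f178493 IH) (Lpr_ct (f224988 IH) (Lpn (LP (LK LD1_c1 LD2_c59 LD3_c14)))))))))))))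
theorem f189889 : Led Lsl_dt (LP (LK LD1_c0 LD2_c56 LD3_c31)) = (LP (LK LD1_c1 LD2_c59 LD3_c26)) :=
  Lre_d IH (LK LD1_c0 LD2_c56 LD3_c31) (LK LD1_c1 LD2_c59 LD3_c26) Lrfl Lrfl
theorem f243712 : Led Lsl_dt (LP (LK LD1_c2 LD2_c45 LD3_c29)) = (LP (LK LD1_c4 LD2_c3 LD3_c26)) :=
  Lgr Lrot57 (Lpe (f178082 IH) (Lpe (K12.f178081 IH) (Lpr_gt (f179411 IH) (Lpr_dt (f243658 IH) (Lpe (f226879 IH) (Lpr_dt (f189889 IH) (Lpr_cf (K11.f200730 IH) (Lpe (K12.f226778 IH) (Lpr_gf (K12.f226776 IH) (Lpn (LP (LK LD1_c4 LD2_c3 LD3_c26))))))))))))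
theorem f223733 : Led Lsl_df (LP (LK LD1_c1 LD2_c59 LD3_c8)) = (LP (LK LD1_c1 LD2_c59 LD3_c1)) :=
  Lgr Lrot84 (Lpe (K12.f223732 IH) (Lpe (K12.f200691 IH) (Lpr_gf (K12.f223703 IH) (Lpe (K10.f27694 IH) (Lpe (K11.f200721 IH) (Lpr_cf (K11.f200730 IH) (Lpr_gt (K11.f52288 IH) (Lpr_dt (K10.f52265 IH) (Lpr_gt (K11.f52289 IH) (Lpn (LP (LK LD1_c1 LD2_c59 LD3_c1))))))))))))
theorem f226901 : Led Lsl_df (LP (LK LD1_c1 LD2_c58 LD3_c57)) = (LP (LK LD1_c1 LD2_c58 LD3_c51)) :=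
  Lgr Lrot162 (Lpe (K11.f199145 IH) (Lpe (K11.f199144 IH) (Lpe (K11.f52291 IH) (Lpe (K11.f52288 IH) (Lpe (f223733 IH) (Lpr_gt (K12.f226897 IH) (Lpr_ct (K12.f28836 IH) (Lpe (K12.f226899 IH) (Lpr_ct (K11.f200800 IH) (Lpn (LP (LK LD1_c1 LD2_c58 LD3_c51))))))))))))
theorem f226984 : Led Lsl_gt (LP (LK LD1_c2 LD2_c45 LD3_c27)) = (LP (LK LD1_c1 LD2_c58 LD3_c51)) :=
  Lgr Lrot94 (Lpe (K12.f196937 IH) (Lpr_gt (K12.f179308 IH) (Lpr_dt (K12.f182182 IH) (Lpe (K10.f196932 IH) (Lpr_dt (K11.f27781 IH) (Lpe (K10.f52671 IH) (Lpe (K10.f52655 IH) (Lpr_gf (K11.f200798 IH) (Lpr_df (f226901 IH) (Lpn (LP (LK LD1_c1 LD2_c58 LD3_c51))))))))))))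
theorem f200712 : Led Lsl_gt (LP (LK LD1_c1 LD2_c0 LD3_c30)) = (LP (LK LD1_c2 LD2_c6 LD3_c59)) :=
  Lre_g IH (LK LD1_c1 LD2_c0 LD3_c30) (LK LD1_c2 LD2_c6 LD3_c59) Lrfl Lrfl
theorem f243920 : Led Lsl_cf (LP (LK LD1_c2 LD2_c45 LD3_c29)) = (LP (LK LD1_c2 LD2_c6 LD3_c59)) :=
  Lgr Lrot175 (Lpr_dt (f243712 IH) (Lpe (K12.f53021 IH) (Lpe (K12.f226780 IH) (Lpe (K11.f200803 IH) (Lpe (f226984 IH) (Lpe (f238331 IH) (Lpr_gt (K12.f200704 IH) (Lpr_ct (K12.f180102 IH) (Lpr_gt (f200712 IH) (Lpn (LP (LK LD1_c2 LD2_c6 LD3_c59))))))))))))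
theorem f171895 : Led Lsl_gt (LP (LK LD1_c2 LD2_c37 LD3_c40)) = (LP (LK LD1_c1 LD2_c15 LD3_c51)) :=
  Lre_g IH (LK LD1_c2 LD2_c37 LD3_c40) (LK LD1_c1 LD2_c15 LD3_c51) Lrfl Lrfl
theorem f243936 : Led Lsl_bf (LP (LK LD1_c2 LD2_c37 LD3_c40)) = (LP (LK LD1_c2 LD2_c6 LD3_c59)) :=
  Lgr Lrot156 (Lpr_gt (f171895 IH) (Lpe (K12.f220645 IH) (Lpr_ct (K12.f196710 IH) (Lpr_gt (K12.f217729 IH) (Lpe (K12.f228418 IH) (Lpr_bt (K12.f179309 IH) (Lpr_gt (K12.f179308 IH) (Lpr_ct (K12.f178081 IH) (Lpr_gt (f178082 IH) (Lpr_cf (f243920 IH) (Lpn (LP (LK LD1_c2 LD2_c6 LD3_c59)))))))))))))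
theorem f228156 : Led Lsl_df (LP (LK LD1_c2 LD2_c45 LD3_c30)) = (LP (LK LD1_c4 LD2_c3 LD3_c24)) :=
  Lgr Lrot174 (Lpr_ct (K12.f228150 IH) (Lpe (K12.f227972 IH) (Lpe (K11.f211393 IH) (Lpe (K11.f201300 IH) (Lpe (K11.f28119 IH) (Lpe (K10.f52280 IH) (Lpr_gt (K11.f52289 IH) (Lpe (f223733 IH) (Lpr_gt (K12.f226897 IH) (Lpn (LP (LK LD1_c4 LD2_c3 LD3_c24))))))))))))
theorem f228175 : Led Lsl_dt (LP (LK LD1_c2 LD2_c45 LD3_c30)) = (LP (LK LD1_c4 LD2_c3 LD3_c24)) :=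
  Lgr Lrot42 (Lpr_df (f228156 IH) (Lpn (LP (LK LD1_c4 LD2_c3 LD3_c24))))
theorem f243928 : Led Lsl_dt (LP (LK LD1_c1 LD2_c59 LD3_c13)) = (LP (LK LD1_c2 LD2_c6 LD3_c59)) :=
  Lgr Lrot173 (Lpe (K12.f28957 IH) (Lpe (K12.f28956 IH) (Lpe (K12.f28916 IH) (Lpr_df (K9.f28828 IH) (Lpe (K12.f28836 IH) (Lpe (f228175 IH) (Lpr_cf (K12.f227980 IH) (Lpe (K12.f227972 IH) (Lpr_cf (K11.f173356 IH) (Lpr_df (K12.f6803 IH) (Lpe (K12.f6829 IH) (Lpr_df (K12.f220320 IH) (Lpe (f53055 IH) (Lpe (f243712 IH) (Lpr_cf (f243920 IH) (Lpn (LP (LK LD1_c2 LD2_c6 LD3_c59))))))))))))))))))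
theorem f211292 : Led Lsl_bt (LP (LK LD1_c4 LD2_c4 LD3_c34)) = (LP (LK LD1_c1 LD2_c59 LD3_c13)) :=
  Lre_b IH (LK LD1_c4 LD2_c4 LD3_c34) (LK LD1_c1 LD2_c59 LD3_c13) Lrfl Lrfl

end

end K13

end

end Cfsg.Agent.Helper28.S1692
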