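import Cfsg.Agent.Lib.Helper28.S1692.Seeds13

set_option autoImplicit false
set_option maxRecDepth 100000
set_option linter.all false

namespace Cfsg.Agent.Helper28.S1692

open Cfsg.Agent.Helper28
open Cfsg.Spor.ON (Gen)

noncomputable section

namespace K14
abbrev LD1_c0 := D1.c0
abbrev LD1_c1 := D1.c1
abbrev LD1_c2 := D1.c2
abbrev LD1_c3 := D1.c3
abbrev LD1_c4 := D1.c4
abbrev LD1_c5 := D1.c5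
abbrev LD1_c6 := D1.c6
abbrev LD1_c7 := D1.c7
abbrev LD1_c8 := D1.c8
abbrev LD1_c9 := D1.c9
abbrev LD1_c10 := D1.c10
abbrev LD1_c11 := D1.c11
abbrev LD1_c12 := D1.c12
abbrev LD1_c13 := D1.c13
abbrev LD1_c14 := D1.c14
abbrev LD1_c15 := D1.c15
abbrev LD1_c16 := D1.c16
abbrev LD1_c17 := D1.c17
abbrev LD1_c18 := D1.c18
abbrev LD1_c19 := D1.c19
abbrev LD1_c20 := D1.c20
abbrev LD1_c21 := D1.c21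
abbrev LD1_c22 := D1.c22
abbrev LD1_c23 := D1.c23
abbrev LD1_c24 := D1.c24
abbrev LD1_c25 := D1.c25
abbrev LD1_c26 := D1.c26
abbrev LD1_c27 := D1.c27
abbrev LD1_c28 := D1.c28
abbrev LD1_c29 := D1.c29
abbrev LD1_c30 := D1.c30
abbrev LD1_c31 := D1.c31
abbrev LD1_c32 := D1.c32
abbrev LD2_c0 := D2.c0
abbrev LD2_c1 := D2.c1
abbrev LD2_c2 := D2.c2
abbrev LD2_c3 := D2.c3
abbrev LD2_c4 := D2.c4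
abbrev LD2_c5 := D2.c5
abbrev LD2_c6 := D2.c6
abbrev LD2_c7 := D2.c7
abbrev LD2_c8 := D2.c8
abbrev LD2_c9 := D2.c9
abbrev LD2_c10 := D2.c10
abbrev LD2_c11 := D2.c11
abbrev LD2_c12 := D2.c12
abbrev LD2_c13 := D2.c13
abbrev LD2_c14 := D2.c14
abbrev LD2_c15 := D2.c15
abbrev LD2_c16 := D2.c16
abbrev LD2_c17 := D2.c17
abbrev LD2_c18 := D2.c18
abbrev LD2_c19 := D2.c19
abbrev LD2_c20 := D2.c20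
abbrev LD2_c21 := D2.c21
abbrev LD2_c22 := D2.c22
abbrev LD2_c23 := D2.c23
abbrev LD2_c24 := D2.c24
abbrev LD2_c25 := D2.c25
abbrev LD2_c26 := D2.c26
abbrev LD2_c27 := D2.c27
abbrev LD2_c28 := D2.c28
abbrev LD2_c29 := D2.c29
abbrev LD2_c30 := D2.c30
abbrev LD2_c31 := D2.c31
abbrev LD2_c32 := D2.c32
abbrev LD2_c33 := D2.c33
abbrev LD2_c34 := D2.c34
abbrev LD2_c35 := D2.c35
abbrev LD2_c36 := D2.c36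
abbrev LD2_c37 := D2.c37
abbrev LD2_c38 := D2.c38
abbrev LD2_c39 := D2.c39
abbrev LD2_c40 := D2.c40
abbrev LD2_c41 := D2.c41
abbrev LD2_c42 := D2.c42
abbrev LD2_c43 := D2.c43
abbrev LD2_c44 := D2.c44
abbrev LD2_c45 := D2.c45
abbrev LD2_c46 := D2.c46
abbrev LD2_c47 := D2.c47
abbrev LD2_c48 := D2.c48
abbrev LD2_c49 := D2.c49
abbrev LD2_c50 := D2.c50
abbrev LD2_c51 := D2.c51
abbrev LD2_c52 := D2.c52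
abbrev LD2_c53 := D2.c53
abbrev LD2_c54 := D2.c54
abbrev LD2_c55 := D2.c55
abbrev LD2_c56 := D2.c56
abbrev LD2_c57 := D2.c57
abbrev LD2_c58 := D2.c58
abbrev LD2_c59 := D2.c59
abbrev LD3_c0 := D3.c0
abbrev LD3_c1 := D3.c1
abbrev LD3_c2 := D3.c2
abbrev LD3_c3 := D3.c3
abbrev LD3_c4 := D3.c4
abbrev LD3_c5 := D3.c5
abbrev LD3_c6 := D3.c6
abbrev LD3_c7 := D3.c7
abbrev LD3_c8 := D3.c8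
abbrev LD3_c9 := D3.c9
abbrev LD3_c10 := D3.c10
abbrev LD3_c11 := D3.c11
abbrev LD3_c12 := D3.c12
abbrev LD3_c13 := D3.c13
abbrev LD3_c14 := D3.c14
abbrev LD3_c15 := D3.c15
abbrev LD3_c16 := D3.c16
abbrev LD3_c17 := D3.c17
abbrev LD3_c18 := D3.c18
abbrev LD3_c19 := D3.c19
abbrev LD3_c20 := D3.c20
abbrev LD3_c21 := D3.c21
abbrev LD3_c22 := D3.c22
abbrev LD3_c23 := D3.c23
abbrev LD3_c24 := D3.c24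
abbrev LD3_c25 := D3.c25
abbrev LD3_c26 := D3.c26
abbrev LD3_c27 := D3.c27
abbrev LD3_c28 := D3.c28
abbrev LD3_c29 := D3.c29
abbrev LD3_c30 := D3.c30
abbrev LD3_c31 := D3.c31
abbrev LD3_c32 := D3.c32
abbrev LD3_c33 := D3.c33
abbrev LD3_c34 := D3.c34
abbrev LD3_c35 := D3.c35
abbrev LD3_c36 := D3.c36
abbrev LD3_c37 := D3.c37
abbrev LD3_c38 := D3.c38
abbrev LD3_c39 := D3.c39
abbrev LD3_c40 := D3.c40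
abbrev LD3_c41 := D3.c41
abbrev LD3_c42 := D3.c42
abbrev LD3_c43 := D3.c43
abbrev LD3_c44 := D3.c44
abbrev LD3_c45 := D3.c45
abbrev LD3_c46 := D3.c46
abbrev LD3_c47 := D3.c47
abbrev LD3_c48 := D3.c48
abbrev LD3_c49 := D3.c49
abbrev LD3_c50 := D3.c50
abbrev LD3_c51 := D3.c51
abbrev LD3_c52 := D3.c52
abbrev LD3_c53 := D3.c53
abbrev LD3_c54 := D3.c54
abbrev LD3_c55 := D3.c55
abbrev LD3_c56 := D3.c56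
abbrev LD3_c57 := D3.c57
abbrev LD3_c58 := D3.c58
abbrev LD3_c59 := D3.c59
abbrev LD3_c60 := D3.c60
abbrev LD3_c61 := D3.c61
abbrev LG_g := Gen.g
abbrev Lsl_gt : Gen × Bool := sl_gt
alias Lfl_gt := fl_gt
alias Lpr_gt := pr_gt
abbrev Lsl_gf : Gen × Bool := sl_gf
alias Lfl_gf := fl_gf
alias Lpr_gf := pr_gf
alias Lre_g := re_g
alias Leoe_g := eoe_g
abbrev LG_a := Gen.a
abbrev Lsl_at : Gen × Bool := sl_at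
alias Lfl_at := fl_at
alias Lpr_at := pr_at
abbrev Lsl_af : Gen × Bool := sl_af
alias Lfl_af := fl_af
alias Lpr_af := pr_af
alias Lre_a := re_a
alias Leoe_a := eoe_a
abbrev LG_b := Gen.b
abbrev Lsl_bt : Gen × Bool := sl_bt
alias Lfl_bt := fl_bt
alias Lpr_bt := pr_bt
abbrev Lsl_bf : Gen × Bool := sl_bf
alias Lfl_bf := fl_bf
alias Lpr_bf := pr_bf
alias Lre_b := re_b
alias Leoe_b := eoe_b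
abbrev LG_c := Gen.c
abbrev Lsl_ct : Gen × Bool := sl_ct
alias Lfl_ct := fl_ct
alias Lpr_ct := pr_ct
abbrev Lsl_cf : Gen × Bool := sl_cf
alias Lfl_cf := fl_cf
alias Lpr_cf := pr_cf
alias Lre_c := re_c
alias Leoe_c := eoe_c
abbrev LG_d := Gen.d
abbrev Lsl_dt : Gen × Bool := sl_dt
alias Lfl_dt := fl_dt
alias Lpr_dt := pr_dt
abbrev Lsl_df : Gen × Bool := sl_df
alias Lfl_df := fl_df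
alias Lpr_df := pr_df
alias Lre_d := re_d
alias Leoe_d := eoe_d
abbrev LG_e := Gen.e
abbrev Lsl_et : Gen × Bool := sl_et
alias Lfl_et := fl_et
alias Lpr_et := pr_et
abbrev Lsl_ef : Gen × Bool := sl_ef
alias Lfl_ef := fl_ef
alias Lpr_ef := pr_ef
alias Lre_e := re_e
alias Leoe_e := eoe_e
abbrev LG_f := Gen.f
abbrev Lsl_ft : Gen × Bool := sl_ft
alias Lfl_ft := fl_ft
alias Lpr_ft := pr_ft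
abbrev Lsl_ff : Gen × Bool := sl_ff
alias Lfl_ff := fl_ff
alias Lpr_ff := pr_ff
alias Lre_f := re_f
alias Leoe_f := eoe_f
abbrev LK := Pt.mk
abbrev LQ : Type := Qt rels S
abbrev LP (p : Pt) : LQ := P p
abbrev Led (l : Gen × Bool) (c : LQ) : LQ := ed l c
abbrev LEOK (x : Gen) (p : Pt) : Prop := EntryOK rels S fwd inv o plet idx x p
alias Lpe := pe
alias Lpn := pn
alias Lgr := gr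
alias Lpq := pq
alias Lpqs := pqs
alias Llr := lr
alias Leop := eop
alias Lefun := efun
alias Lecon := econ
theorem Lrfl {α : Sort _} {a : α} : a = a := rfl
alias Lrot0 := rot0
alias Lrot1 := rot1
alias Lrot2 := rot2
alias Lrot3 := rot3
alias Lrot4 := rot4
alias Lrot5 := rot5
alias Lrot6 := rot6
alias Lrot7 := rot7
alias Lrot8 := rot8
alias Lrot9 := rot9
alias Lrot10 := rot10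
alias Lrot11 := rot11
alias Lrot12 := rot12
alias Lrot13 := rot13
alias Lrot14 := rot14
alias Lrot15 := rot15
alias Lrot16 := rot16
alias Lrot17 := rot17
alias Lrot18 := rot18
alias Lrot19 := rot19
alias Lrot20 := rot20
alias Lrot21 := rot21
alias Lrot22 := rot22
alias Lrot23 := rot23
alias Lrot24 := rot24
alias Lrot25 := rot25
alias Lrot26 := rot26
alias Lrot27 := rot27
alias Lrot28 := rot28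
alias Lrot29 := rot29
alias Lrot30 := rot30
alias Lrot31 := rot31
alias Lrot32 := rot32
alias Lrot33 := rot33
alias Lrot34 := rot34
alias Lrot35 := rot35
alias Lrot36 := rot36
alias Lrot37 := rot37
alias Lrot38 := rot38
alias Lrot39 := rot39
alias Lrot40 := rot40
alias Lrot41 := rot41
alias Lrot42 := rot42
alias Lrot43 := rot43
alias Lrot44 := rot44
alias Lrot45 := rot45
alias Lrot46 := rot46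
alias Lrot47 := rot47
alias Lrot48 := rot48
alias Lrot49 := rot49
alias Lrot50 := rot50
alias Lrot51 := rot51
alias Lrot52 := rot52
alias Lrot53 := rot53
alias Lrot54 := rot54
alias Lrot55 := rot55
alias Lrot56 := rot56
alias Lrot57 := rot57
alias Lrot58 := rot58
alias Lrot59 := rot59
alias Lrot60 := rot60
alias Lrot61 := rot61
alias Lrot62 := rot62
alias Lrot63 := rot63
alias Lrot64 := rot64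
alias Lrot65 := rot65
alias Lrot66 := rot66
alias Lrot67 := rot67
alias Lrot68 := rot68
alias Lrot69 := rot69
alias Lrot70 := rot70
alias Lrot71 := rot71
alias Lrot72 := rot72
alias Lrot73 := rot73
alias Lrot74 := rot74
alias Lrot75 := rot75
alias Lrot76 := rot76
alias Lrot77 := rot77
alias Lrot78 := rot78
alias Lrot79 := rot79
alias Lrot80 := rot80
alias Lrot81 := rot81
alias Lrot82 := rot82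
alias Lrot83 := rot83
alias Lrot84 := rot84
alias Lrot86 := rot86
alias Lrot87 := rot87
alias Lrot88 := rot88
alias Lrot90 := rot90
alias Lrot91 := rot91
alias Lrot92 := rot92
alias Lrot93 := rot93
alias Lrot94 := rot94
alias Lrot95 := rot95
alias Lrot96 := rot96
alias Lrot97 := rot97
alias Lrot98 := rot98
alias Lrot99 := rot99
alias Lrot100 := rot100
alias Lrot101 := rot101
alias Lrot102 := rot102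
alias Lrot103 := rot103
alias Lrot104 := rot104
alias Lrot105 := rot105
alias Lrot106 := rot106
alias Lrot107 := rot107
alias Lrot108 := rot108
alias Lrot109 := rot109
alias Lrot110 := rot110
alias Lrot111 := rot111
alias Lrot112 := rot112
alias Lrot113 := rot113
alias Lrot114 := rot114
alias Lrot116 := rot116
alias Lrot117 := rot117
alias Lrot118 := rot118
alias Lrot119 := rot119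
alias Lrot120 := rot120
alias Lrot121 := rot121
alias Lrot122 := rot122
alias Lrot123 := rot123
alias Lrot124 := rot124
alias Lrot126 := rot126
alias Lrot127 := rot127
alias Lrot128 := rot128
alias Lrot129 := rot129
alias Lrot130 := rot130
alias Lrot131 := rot131
alias Lrot132 := rot132
alias Lrot134 := rot134
alias Lrot135 := rot135
alias Lrot136 := rot136
alias Lrot137 := rot137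
alias Lrot138 := rot138
alias Lrot139 := rot139
alias Lrot140 := rot140
alias Lrot141 := rot141
alias Lrot142 := rot142
alias Lrot143 := rot143
alias Lrot144 := rot144
alias Lrot145 := rot145
alias Lrot146 := rot146
alias Lrot147 := rot147
alias Lrot148 := rot148
alias Lrot149 := rot149
alias Lrot150 := rot150
alias Lrot151 := rot151
alias Lrot152 := rot152
alias Lrot153 := rot153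
alias Lrot154 := rot154
alias Lrot155 := rot155
alias Lrot156 := rot156
alias Lrot157 := rot157
alias Lrot158 := rot158
alias Lrot159 := rot159
alias Lrot160 := rot160
alias Lrot161 := rot161
alias Lrot162 := rot162
alias Lrot163 := rot163
alias Lrot164 := rot164
alias Lrot165 := rot165
alias Lrot166 := rot166
alias Lrot167 := rot167
alias Lrot168 := rot168
alias Lrot169 := rot169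
alias Lrot170 := rot170
alias Lrot171 := rot171
alias Lrot172 := rot172
alias Lrot173 := rot173
alias Lrot174 := rot174
alias Lrot175 := rot175
alias Lrot176 := rot176
alias Lrot177 := rot177
alias Lrot179 := rot179
alias Lrot180 := rot180
alias Lrot181 := rot181
alias Lrot185 := rot185
alias Lrot187 := rot187
alias Lrot188 := rot188
alias Lrot189 := rot189

section
variable (IH : IHT)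
include IH

theorem f243940 : Led Lsl_dt (LP (LK LD1_c2 LD2_c37 LD3_c40)) = (LP (LK LD1_c4 LD2_c4 LD3_c34)) :=
  Lgr Lrot79 (Lpr_bf (K13.f243936 IH) (Lpe (K13.f243928 IH) (Lpe (K13.f211292 IH) (Lpn (LP (LK LD1_c4 LD2_c4 LD3_c34))))))
theorem f243954 : Led Lsl_df (LP (LK LD1_c2 LD2_c37 LD3_c40)) = (LP (LK LD1_c4 LD2_c4 LD3_c34)) :=
  Lgr Lrot38 (Lpr_dt (f243940 IH) (Lpn (LP (LK LD1_c4 LD2_c4 LD3_c34))))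
theorem f46375 : Led Lsl_gf (LP (LK LD1_c2 LD2_c36 LD3_c13)) = (LP (LK LD1_c2 LD2_c36 LD3_c16)) :=
  Lgr Lrot76 (Lpr_af (K1.f46361 IH) (Lpe (K1.f43953 IH) (Lpr_gt (K13.f43964 IH) (Lpn (LP (LK LD1_c2 LD2_c36 LD3_c16))))))
theorem f43966 : Led Lsl_dt (LP (LK LD1_c2 LD2_c36 LD3_c16)) = (LP (LK LD1_c5 LD2_c19 LD3_c10)) :=
  Lre_d IH (LK LD1_c2 LD2_c36 LD3_c16) (LK LD1_c5 LD2_c19 LD3_c10) Lrfl Lrfl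
theorem f171474 : Led Lsl_ct (LP (LK LD1_c2 LD2_c32 LD3_c27)) = (LP (LK LD1_c1 LD2_c13 LD3_c12)) :=
  Lre_c IH (LK LD1_c2 LD2_c32 LD3_c27) (LK LD1_c1 LD2_c13 LD3_c12) Lrfl Lrfl
theorem f169404 : Led Lsl_gt (LP (LK LD1_c2 LD2_c5 LD3_c46)) = (LP (LK LD1_c0 LD2_c59 LD3_c53)) :=
  Lre_g IH (LK LD1_c2 LD2_c5 LD3_c46) (LK LD1_c0 LD2_c59 LD3_c53) Lrfl Lrfl
theorem f169406 : Led Lsl_ct (LP (LK LD1_c4 LD2_c16 LD3_c60)) = (LP (LK LD1_c2 LD2_c5 LD3_c46)) :=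
  Lre_c IH (LK LD1_c4 LD2_c16 LD3_c60) (LK LD1_c2 LD2_c5 LD3_c46) Lrfl Lrfl
theorem f212339 : Led Lsl_gt (LP (LK LD1_c5 LD2_c19 LD3_c10)) = (LP (LK LD1_c4 LD2_c16 LD3_c60)) :=
  Lgr Lrot9 (Lpe (f43966 IH) (Lpe (f46375 IH) (Lpr_ct (K12.f212326 IH) (Lpr_gt (K12.f171477 IH) (Lpr_ct (f171474 IH) (Lpe (K12.f171439 IH) (Lpr_cf (K12.f187065 IH) (Lpe (f169404 IH) (Lpe (f169406 IH) (Lpn (LP (LK LD1_c4 LD2_c16 LD3_c60))))))))))))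
theorem f223745 : Led Lsl_cf (LP (LK LD1_c2 LD2_c37 LD3_c0)) = (LP (LK LD1_c2 LD2_c38 LD3_c34)) :=
  Lgr Lrot14 (Lpe (K12.f184504 IH) (Lpe (K12.f44308 IH) (Lpe (K12.f42180 IH) (Lpe (K9.f41274 IH) (Lpr_ct (K12.f167815 IH) (Lpr_gt (K12.f223739 IH) (Lpr_dt (K10.f30884 IH) (Lpe (K12.f182170 IH) (Lpr_dt (K12.f173121 IH) (Lpn (LP (LK LD1_c2 LD2_c38 LD3_c34))))))))))))
theorem f41428 : Led Lsl_et (LP (LK LD1_c0 LD2_c15 LD3_c43)) = (LP (LK LD1_c0 LD2_c7 LD3_c6)) :=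
  Lre_e IH (LK LD1_c0 LD2_c15 LD3_c43) (LK LD1_c0 LD2_c7 LD3_c6) Lrfl Lrfl
theorem f44309 : Led Lsl_dt (LP (LK LD1_c2 LD2_c37 LD3_c0)) = (LP (LK LD1_c1 LD2_c15 LD3_c31)) :=
  Lre_d IH (LK LD1_c2 LD2_c37 LD3_c0) (LK LD1_c1 LD2_c15 LD3_c31) Lrfl Lrfl
theorem f184233 : Led Lsl_ef (LP (LK LD1_c2 LD2_c5 LD3_c46)) = (LP (LK LD1_c2 LD2_c37 LD3_c0)) :=
  Lgr Lrot167 (Lpr_gt (f169404 IH) (Lpr_dt (K10.f169380 IH) (Lpr_gt (K9.f184104 IH) (Lpe (K1.f44047 IH) (Lpr_et (K10.f44263 IH) (Lpe (K1.f44299 IH) (Lpe (f41428 IH) (Lpr_dt (K12.f42180 IH) (Lpr_gt (K12.f44308 IH) (Lpe (f44309 IH) (Lpn (LP (LK LD1_c2 LD2_c37 LD3_c0)))))))))))))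
theorem f169405 : Led Lsl_ct (LP (LK LD1_c2 LD2_c5 LD3_c46)) = (LP (LK LD1_c4 LD2_c16 LD3_c60)) :=
  Lre_c IH (LK LD1_c2 LD2_c5 LD3_c46) (LK LD1_c4 LD2_c16 LD3_c60) Lrfl Lrfl
theorem f223846 : Led Lsl_et (LP (LK LD1_c4 LD2_c16 LD3_c60)) = (LP (LK LD1_c2 LD2_c38 LD3_c34)) :=
  Lgr Lrot158 (Lpe (f169405 IH) (Lpr_ef (f184233 IH) (Lpr_cf (f223745 IH) (Lpn (LP (LK LD1_c2 LD2_c38 LD3_c34))))))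
theorem f223854 : Led Lsl_ef (LP (LK LD1_c4 LD2_c16 LD3_c60)) = (LP (LK LD1_c2 LD2_c38 LD3_c34)) :=
  Lgr Lrot88 (Lpr_et (f223846 IH) (Lpn (LP (LK LD1_c2 LD2_c38 LD3_c34))))
theorem f246386 : Led Lsl_gf (LP (LK LD1_c2 LD2_c37 LD3_c40)) = (LP (LK LD1_c2 LD2_c36 LD3_c56)) :=
  Lgr Lrot134 (Lpr_df (f243954 IH) (Lpr_et (K13.f246382 IH) (Lpr_gt (f212339 IH) (Lpr_ef (f223854 IH) (Lpr_dt (K12.f173120 IH) (Lpe (K12.f196814 IH) (Lpe (K12.f171894 IH) (Lpr_et (K12.f196581 IH) (Lpe (K12.f223741 IH) (Lpr_dt (K12.f223747 IH) (Lpn (LP (LK LD1_c2 LD2_c36 LD3_c56)))))))))))))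
theorem f55082 : Led Lsl_dt (LP (LK LD1_c1 LD2_c9 LD3_c55)) = (LP (LK LD1_c0 LD2_c32 LD3_c20)) :=
  Lre_d IH (LK LD1_c1 LD2_c9 LD3_c55) (LK LD1_c0 LD2_c32 LD3_c20) Lrfl Lrfl
theorem f216305 : Led Lsl_ct (LP (LK LD1_c2 LD2_c25 LD3_c21)) = (LP (LK LD1_c1 LD2_c9 LD3_c55)) :=
  Lre_c IH (LK LD1_c2 LD2_c25 LD3_c21) (LK LD1_c1 LD2_c9 LD3_c55) Lrfl Lrfl
theorem f216306 : Led Lsl_gt (LP (LK LD1_c4 LD2_c54 LD3_c57)) = (LP (LK LD1_c2 LD2_c25 LD3_c21)) :=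
  Lre_g IH (LK LD1_c4 LD2_c54 LD3_c57) (LK LD1_c2 LD2_c25 LD3_c21) Lrfl Lrfl
theorem f246391 : Led Lsl_ct (LP (LK LD1_c2 LD2_c37 LD3_c40)) = (LP (LK LD1_c4 LD2_c54 LD3_c57)) :=
  Lgr Lrot152 (Lpr_gf (f246386 IH) (Lpe (K12.f223747 IH) (Lpr_gt (K12.f223739 IH) (Lpr_ct (K12.f44564 IH) (Lpr_gt (K12.f216296 IH) (Lpr_ct (K12.f214011 IH) (Lpe (f55082 IH) (Lpe (f216305 IH) (Lpe (f216306 IH) (Lpn (LP (LK LD1_c4 LD2_c54 LD3_c57))))))))))))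
theorem f217480 : Led Lsl_dt (LP (LK LD1_c2 LD2_c25 LD3_c21)) = (LP (LK LD1_c4 LD2_c54 LD3_c59)) :=
  Lre_d IH (LK LD1_c2 LD2_c25 LD3_c21) (LK LD1_c4 LD2_c54 LD3_c59) Lrfl Lrfl
theorem f246404 : Led Lsl_gt (LP (LK LD1_c4 LD2_c54 LD3_c59)) = (LP (LK LD1_c9 LD2_c41 LD3_c30)) :=
  Lre_g IH (LK LD1_c4 LD2_c54 LD3_c59) (LK LD1_c9 LD2_c41 LD3_c30) Lrfl Lrfl
theorem f246405 : Led Lsl_df (LP (LK LD1_c4 LD2_c55 LD3_c17)) = (LP (LK LD1_c9 LD2_c41 LD3_c30)) :=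
  Lgr Lrot174 (Lpe (K12.f217302 IH) (Lpe (K12.f171894 IH) (Lpe (K12.f171893 IH) (Lpe (K12.f171885 IH) (Lpe (K13.f171895 IH) (Lpr_ct (f246391 IH) (Lpr_gt (f216306 IH) (Lpr_dt (f217480 IH) (Lpr_gt (f246404 IH) (Lpn (LP (LK LD1_c9 LD2_c41 LD3_c30))))))))))))
theorem f246418 : Led Lsl_ft (LP (LK LD1_c10 LD2_c23 LD3_c23)) = (LP (LK LD1_c9 LD2_c41 LD3_c30)) :=
  Lgr Lrot54 (Lpe (K12.f49256 IH) (Lpr_ff (K12.f217307 IH) (Lpr_df (f246405 IH) (Lpn (LP (LK LD1_c9 LD2_c41 LD3_c30))))))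
theorem f246441 : Led Lsl_cf (LP (LK LD1_c8 LD2_c25 LD3_c47)) = (LP (LK LD1_c9 LD2_c41 LD3_c30)) :=
  Lgr Lrot108 (Lpr_ft (K12.f217775 IH) (Lpe (K12.f217716 IH) (Lpr_ft (f246418 IH) (Lpn (LP (LK LD1_c9 LD2_c41 LD3_c30))))))
theorem f173094 : Led Lsl_ct (LP (LK LD1_c1 LD2_c16 LD3_c21)) = (LP (LK LD1_c2 LD2_c39 LD3_c2)) :=
  Lre_c IH (LK LD1_c1 LD2_c16 LD3_c21) (LK LD1_c2 LD2_c39 LD3_c2) Lrfl Lrfl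
theorem f217676 : Led Lsl_dt (LP (LK LD1_c2 LD2_c37 LD3_c9)) = (LP (LK LD1_c4 LD2_c55 LD3_c47)) :=
  Lre_d IH (LK LD1_c2 LD2_c37 LD3_c9) (LK LD1_c4 LD2_c55 LD3_c47) Lrfl Lrfl
theorem f196717 : Led Lsl_gt (LP (LK LD1_c4 LD2_c55 LD3_c47)) = (LP (LK LD1_c2 LD2_c39 LD3_c11)) :=
  Lre_g IH (LK LD1_c4 LD2_c55 LD3_c47) (LK LD1_c2 LD2_c39 LD3_c11) Lrfl Lrfl
theorem f246447 : Led Lsl_ct (LP (LK LD1_c2 LD2_c39 LD3_c11)) = (LP (LK LD1_c4 LD2_c54 LD3_c59)) :=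
  Lgr Lrot152 (Lpe (f196717 IH) (Lpe (f217676 IH) (Lpr_gt (K9.f173104 IH) (Lpr_ct (f173094 IH) (Lpr_gt (K13.f223900 IH) (Lpr_ct (K12.f27698 IH) (Lpe (K12.f51225 IH) (Lpr_cf (f246441 IH) (Lpe (f246404 IH) (Lpn (LP (LK LD1_c4 LD2_c54 LD3_c59))))))))))))
theorem f217344 : Led Lsl_gt (LP (LK LD1_c2 LD2_c39 LD3_c11)) = (LP (LK LD1_c1 LD2_c16 LD3_c23)) :=
  Lre_g IH (LK LD1_c2 LD2_c39 LD3_c11) (LK LD1_c1 LD2_c16 LD3_c23) Lrfl Lrfl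
theorem f195890 : Led Lsl_dt (LP (LK LD1_c1 LD2_c16 LD3_c20)) = (LP (LK LD1_c2 LD2_c38 LD3_c61)) :=
  Lre_d IH (LK LD1_c1 LD2_c16 LD3_c20) (LK LD1_c2 LD2_c38 LD3_c61) Lrfl Lrfl
theorem f217448 : Led Lsl_dt (LP (LK LD1_c2 LD2_c25 LD3_c36)) = (LP (LK LD1_c4 LD2_c55 LD3_c28)) :=
  Lre_d IH (LK LD1_c2 LD2_c25 LD3_c36) (LK LD1_c4 LD2_c55 LD3_c28) Lrfl Lrfl
theorem f246460 : Led Lsl_cf (LP (LK LD1_c2 LD2_c38 LD3_c61)) = (LP (LK LD1_c4 LD2_c55 LD3_c28)) :=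
  Lgr Lrot14 (Lpe (f195890 IH) (Lpe (K12.f195888 IH) (Lpe (K13.f218231 IH) (Lpe (f217344 IH) (Lpr_ct (f246447 IH) (Lpr_gt (f246404 IH) (Lpe (f246405 IH) (Lpe (K12.f217444 IH) (Lpr_dt (f217448 IH) (Lpn (LP (LK LD1_c4 LD2_c55 LD3_c28))))))))))))
theorem f246466 : Led Lsl_ct (LP (LK LD1_c2 LD2_c38 LD3_c61)) = (LP (LK LD1_c4 LD2_c55 LD3_c28)) :=
  Lgr Lrot59 (Lpr_cf (f246460 IH) (Lpn (LP (LK LD1_c4 LD2_c55 LD3_c28))))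
theorem f213037 : Led Lsl_gt (LP (LK LD1_c5 LD2_c24 LD3_c60)) = (LP (LK LD1_c2 LD2_c38 LD3_c61)) :=
  Lre_g IH (LK LD1_c5 LD2_c24 LD3_c60) (LK LD1_c2 LD2_c38 LD3_c61) Lrfl Lrfl
theorem f41235 : Led Lsl_ct (LP (LK LD1_c4 LD2_c54 LD3_c41)) = (LP (LK LD1_c2 LD2_c25 LD3_c14)) :=
  Lre_c IH (LK LD1_c4 LD2_c54 LD3_c41) (LK LD1_c2 LD2_c25 LD3_c14) Lrfl Lrfl
theorem f41152 : Led Lsl_gt (LP (LK LD1_c2 LD2_c25 LD3_c38)) = (LP (LK LD1_c4 LD2_c54 LD3_c41)) :=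
  Lre_g IH (LK LD1_c2 LD2_c25 LD3_c38) (LK LD1_c4 LD2_c54 LD3_c41) Lrfl Lrfl
theorem f218517 : Led Lsl_dt (LP (LK LD1_c4 LD2_c55 LD3_c35)) = (LP (LK LD1_c2 LD2_c25 LD3_c38)) :=
  Lre_d IH (LK LD1_c4 LD2_c55 LD3_c35) (LK LD1_c2 LD2_c25 LD3_c38) Lrfl Lrfl
theorem f55173 : Led Lsl_gt (LP (LK LD1_c4 LD2_c55 LD3_c35)) = (LP (LK LD1_c9 LD2_c42 LD3_c52)) :=
  Lre_g IH (LK LD1_c4 LD2_c55 LD3_c35) (LK LD1_c9 LD2_c42 LD3_c52) Lrfl Lrfl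
theorem f246495 : Led Lsl_cf (LP (LK LD1_c5 LD2_c24 LD3_c60)) = (LP (LK LD1_c9 LD2_c42 LD3_c52)) :=
  Lgr Lrot169 (Lpr_gt (f213037 IH) (Lpr_ct (f246466 IH) (Lpe (f217448 IH) (Lpe (K12.f217450 IH) (Lpe (K12.f41411 IH) (Lpe (f41235 IH) (Lpe (f41152 IH) (Lpe (f218517 IH) (Lpr_gt (f55173 IH) (Lpn (LP (LK LD1_c9 LD2_c42 LD3_c52))))))))))))
theorem f213036 : Led Lsl_dt (LP (LK LD1_c2 LD2_c38 LD3_c61)) = (LP (LK LD1_c1 LD2_c16 LD3_c20)) :=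
  Lre_d IH (LK LD1_c2 LD2_c38 LD3_c61) (LK LD1_c1 LD2_c16 LD3_c20) Lrfl Lrfl
theorem f196716 : Led Lsl_ct (LP (LK LD1_c4 LD2_c55 LD3_c47)) = (LP (LK LD1_c2 LD2_c25 LD3_c41)) :=
  Lre_c IH (LK LD1_c4 LD2_c55 LD3_c47) (LK LD1_c2 LD2_c25 LD3_c41) Lrfl Lrfl
theorem f167937 : Led Lsl_dt (LP (LK LD1_c4 LD2_c55 LD3_c38)) = (LP (LK LD1_c2 LD2_c25 LD3_c39)) :=
  Lre_d IH (LK LD1_c4 LD2_c55 LD3_c38) (LK LD1_c2 LD2_c25 LD3_c39) Lrfl Lrfl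
theorem f246504 : Led Lsl_gf (LP (LK LD1_c4 LD2_c55 LD3_c38)) = (LP (LK LD1_c9 LD2_c42 LD3_c52)) :=
  Lgr Lrot144 (Lpr_dt (f167937 IH) (Lpr_gt (K9.f55165 IH) (Lpr_dt (K13.f55161 IH) (Lpe (f196716 IH) (Lpe (f217676 IH) (Lpe (K12.f216302 IH) (Lpe (f213036 IH) (Lpe (f213037 IH) (Lpr_cf (f246495 IH) (Lpn (LP (LK LD1_c9 LD2_c42 LD3_c52))))))))))))
theorem f217840 : Led Lsl_gf (LP (LK LD1_c5 LD2_c23 LD3_c5)) = (LP (LK LD1_c2 LD2_c38 LD3_c25)) :=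
  Lgr Lrot76 (Lpr_af (K12.f217822 IH) (Lpr_ff (K12.f217741 IH) (Lpe (K13.f217745 IH) (Lpn (LP (LK LD1_c2 LD2_c38 LD3_c25))))))
theorem f217632 : Led Lsl_dt (LP (LK LD1_c1 LD2_c16 LD3_c13)) = (LP (LK LD1_c2 LD2_c38 LD3_c39)) :=
  Lre_d IH (LK LD1_c1 LD2_c16 LD3_c13) (LK LD1_c2 LD2_c38 LD3_c39) Lrfl Lrfl
theorem f42807 : Led Lsl_dt (LP (LK LD1_c2 LD2_c25 LD3_c39)) = (LP (LK LD1_c4 LD2_c55 LD3_c38)) :=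
  Lre_d IH (LK LD1_c2 LD2_c25 LD3_c39) (LK LD1_c4 LD2_c55 LD3_c38) Lrfl Lrfl
theorem f218390 : Led Lsl_cf (LP (LK LD1_c2 LD2_c38 LD3_c39)) = (LP (LK LD1_c4 LD2_c55 LD3_c38)) :=
  Lgr Lrot14 (Lpe (f217632 IH) (Lpe (K12.f196825 IH) (Lpr_df (K12.f217650 IH) (Lpr_gf (f217840 IH) (Lpr_ct (K13.f218232 IH) (Lpr_gt (K13.f41242 IH) (Lpr_dt (K12.f41241 IH) (Lpr_gt (K9.f41157 IH) (Lpr_dt (f42807 IH) (Lpn (LP (LK LD1_c4 LD2_c55 LD3_c38))))))))))))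
theorem f218491 : Led Lsl_ct (LP (LK LD1_c2 LD2_c38 LD3_c39)) = (LP (LK LD1_c4 LD2_c55 LD3_c38)) :=
  Lgr Lrot59 (Lpr_cf (f218390 IH) (Lpn (LP (LK LD1_c4 LD2_c55 LD3_c38))))
theorem f218488 : Led Lsl_bt (LP (LK LD1_c2 LD2_c38 LD3_c39)) = (LP (LK LD1_c5 LD2_c24 LD3_c13)) :=
  Lre_b IH (LK LD1_c2 LD2_c38 LD3_c39) (LK LD1_c5 LD2_c24 LD3_c13) Lrfl Lrfl
theorem f218497 : Led Lsl_gt (LP (LK LD1_c5 LD2_c24 LD3_c13)) = (LP (LK LD1_c10 LD2_c39 LD3_c11)) :=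
  Lre_g IH (LK LD1_c5 LD2_c24 LD3_c13) (LK LD1_c10 LD2_c39 LD3_c11) Lrfl Lrfl
theorem f218518 : Led Lsl_bt (LP (LK LD1_c19 LD2_c17 LD3_c44)) = (LP (LK LD1_c10 LD2_c39 LD3_c11)) :=
  Lre_b IH (LK LD1_c19 LD2_c17 LD3_c44) (LK LD1_c10 LD2_c39 LD3_c11) Lrfl Lrfl
theorem f246501 : Led Lsl_ct (LP (LK LD1_c5 LD2_c24 LD3_c60)) = (LP (LK LD1_c9 LD2_c42 LD3_c52)) :=
  Lgr Lrot59 (Lpr_cf (f246495 IH) (Lpn (LP (LK LD1_c9 LD2_c42 LD3_c52))))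
theorem f196820 : Led Lsl_dt (LP (LK LD1_c2 LD2_c38 LD3_c39)) = (LP (LK LD1_c1 LD2_c16 LD3_c13)) :=
  Lre_d IH (LK LD1_c2 LD2_c38 LD3_c39) (LK LD1_c1 LD2_c16 LD3_c13) Lrfl Lrfl
theorem f218496 : Led Lsl_dt (LP (LK LD1_c1 LD2_c16 LD3_c21)) = (LP (LK LD1_c2 LD2_c39 LD3_c3)) :=
  Lre_d IH (LK LD1_c1 LD2_c16 LD3_c21) (LK LD1_c2 LD2_c39 LD3_c3) Lrfl Lrfl
theorem f246506 : Led Lsl_gt (LP (LK LD1_c2 LD2_c39 LD3_c3)) = (LP (LK LD1_c5 LD2_c24 LD3_c60)) :=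
  Lgr Lrot9 (Lpe (f218496 IH) (Lpr_gt (K9.f173088 IH) (Lpr_ct (K12.f218237 IH) (Lpr_gt (K13.f195896 IH) (Lpr_ct (K12.f196824 IH) (Lpe (f196820 IH) (Lpr_cf (f218390 IH) (Lpr_gf (f246504 IH) (Lpe (f246501 IH) (Lpn (LP (LK LD1_c5 LD2_c24 LD3_c60))))))))))))
theorem f246508 : Led Lsl_bt (LP (LK LD1_c5 LD2_c25 LD3_c5)) = (LP (LK LD1_c2 LD2_c39 LD3_c3)) :=
  Lre_b IH (LK LD1_c5 LD2_c25 LD3_c5) (LK LD1_c2 LD2_c39 LD3_c3) Lrfl Lrfl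
theorem f246509 : Led Lsl_ct (LP (LK LD1_c5 LD2_c25 LD3_c5)) = (LP (LK LD1_c10 LD2_c40 LD3_c60)) :=
  Lre_c IH (LK LD1_c5 LD2_c25 LD3_c5) (LK LD1_c10 LD2_c40 LD3_c60) Lrfl Lrfl
theorem f246510 : Led Lsl_gt (LP (LK LD1_c19 LD2_c20 LD3_c32)) = (LP (LK LD1_c10 LD2_c40 LD3_c60)) :=
  Lre_g IH (LK LD1_c19 LD2_c20 LD3_c32) (LK LD1_c10 LD2_c40 LD3_c60) Lrfl Lrfl
theorem f246511 : Led Lsl_ct (LP (LK LD1_c19 LD2_c17 LD3_c44)) = (LP (LK LD1_c19 LD2_c20 LD3_c32)) :=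
  Lgr Lrot64 (Lpr_bt (f218518 IH) (Lpe (f218497 IH) (Lpe (f218488 IH) (Lpr_ct (f218491 IH) (Lpr_gf (f246504 IH) (Lpe (f246501 IH) (Lpe (f246506 IH) (Lpe (f246508 IH) (Lpr_ct (f246509 IH) (Lpe (f246510 IH) (Lpn (LP (LK LD1_c19 LD2_c20 LD3_c32)))))))))))))
theorem f246516 : Led Lsl_ct (LP (LK LD1_c10 LD2_c40 LD3_c60)) = (LP (LK LD1_c5 LD2_c25 LD3_c5)) :=
  Lre_c IH (LK LD1_c10 LD2_c40 LD3_c60) (LK LD1_c5 LD2_c25 LD3_c5) Lrfl Lrfl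
theorem f246517 : Led Lsl_dt (LP (LK LD1_c2 LD2_c39 LD3_c1)) = (LP (LK LD1_c5 LD2_c25 LD3_c5)) :=
  Lre_d IH (LK LD1_c2 LD2_c39 LD3_c1) (LK LD1_c5 LD2_c25 LD3_c5) Lrfl Lrfl
theorem f173096 : Led Lsl_ct (LP (LK LD1_c5 LD2_c25 LD3_c4)) = (LP (LK LD1_c2 LD2_c39 LD3_c1)) :=
  Lre_c IH (LK LD1_c5 LD2_c25 LD3_c4) (LK LD1_c2 LD2_c39 LD3_c1) Lrfl Lrfl
theorem f246518 : Led Lsl_gt (LP (LK LD1_c10 LD2_c40 LD3_c55)) = (LP (LK LD1_c5 LD2_c25 LD3_c4)) :=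
  Lre_g IH (LK LD1_c10 LD2_c40 LD3_c55) (LK LD1_c5 LD2_c25 LD3_c4) Lrfl Lrfl
theorem f246519 : Led Lsl_ct (LP (LK LD1_c10 LD2_c39 LD3_c4)) = (LP (LK LD1_c10 LD2_c40 LD3_c55)) :=
  Lre_c IH (LK LD1_c10 LD2_c39 LD3_c4) (LK LD1_c10 LD2_c40 LD3_c55) Lrfl Lrfl
theorem f174088 : Led Lsl_gt (LP (LK LD1_c5 LD2_c33 LD3_c58)) = (LP (LK LD1_c10 LD2_c39 LD3_c4)) :=
  Lre_g IH (LK LD1_c5 LD2_c33 LD3_c58) (LK LD1_c10 LD2_c39 LD3_c4) Lrfl Lrfl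
theorem f174100 : Led Lsl_dt (LP (LK LD1_c10 LD2_c59 LD3_c60)) = (LP (LK LD1_c5 LD2_c33 LD3_c58)) :=
  Lre_d IH (LK LD1_c10 LD2_c59 LD3_c60) (LK LD1_c5 LD2_c33 LD3_c58) Lrfl Lrfl
theorem f246520 : Led Lsl_gf (LP (LK LD1_c19 LD2_c17 LD3_c44)) = (LP (LK LD1_c10 LD2_c59 LD3_c60)) :=
  Lgr Lrot147 (Lpr_ct (f246511 IH) (Lpr_gt (f246510 IH) (Lpr_ct (f246516 IH) (Lpe (f246517 IH) (Lpe (f173096 IH) (Lpe (f246518 IH) (Lpe (f246519 IH) (Lpe (f174088 IH) (Lpe (f174100 IH) (Lpn (LP (LK LD1_c10 LD2_c59 LD3_c60))))))))))))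
theorem f226356 : Led Lsl_bt (LP (LK LD1_c5 LD2_c33 LD3_c59)) = (LP (LK LD1_c10 LD2_c59 LD3_c60)) :=
  Lre_b IH (LK LD1_c5 LD2_c33 LD3_c59) (LK LD1_c10 LD2_c59 LD3_c60) Lrfl Lrfl
theorem f226303 : Led Lsl_ct (LP (LK LD1_c5 LD2_c33 LD3_c59)) = (LP (LK LD1_c11 LD2_c0 LD3_c3)) :=
  Lre_c IH (LK LD1_c5 LD2_c33 LD3_c59) (LK LD1_c11 LD2_c0 LD3_c3) Lrfl Lrfl
theorem f213038 : Led Lsl_bt (LP (LK LD1_c10 LD2_c40 LD3_c42)) = (LP (LK LD1_c5 LD2_c24 LD3_c60)) :=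
  Lre_b IH (LK LD1_c10 LD2_c40 LD3_c42) (LK LD1_c5 LD2_c24 LD3_c60) Lrfl Lrfl
theorem f246497 : Led Lsl_ct (LP (LK LD1_c10 LD2_c40 LD3_c42)) = (LP (LK LD1_c19 LD2_c20 LD3_c7)) :=
  Lre_c IH (LK LD1_c10 LD2_c40 LD3_c42) (LK LD1_c19 LD2_c20 LD3_c7) Lrfl Lrfl
theorem f246522 : Led Lsl_gf (LP (LK LD1_c11 LD2_c0 LD3_c3)) = (LP (LK LD1_c19 LD2_c20 LD3_c7)) :=
  Lgr Lrot126 (Lpe (f226303 IH) (Lpr_bt (f226356 IH) (Lpe (f246520 IH) (Lpr_ct (f246511 IH) (Lpr_gt (f246510 IH) (Lpe (f246509 IH) (Lpr_bt (f246508 IH) (Lpr_gt (f246506 IH) (Lpe (f213038 IH) (Lpr_ct (f246497 IH) (Lpn (LP (LK LD1_c19 LD2_c20 LD3_c7)))))))))))))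
theorem f226340 : Led Lsl_ct (LP (LK LD1_c11 LD2_c0 LD3_c3)) = (LP (LK LD1_c5 LD2_c33 LD3_c59)) :=
  Lre_c IH (LK LD1_c11 LD2_c0 LD3_c3) (LK LD1_c5 LD2_c33 LD3_c59) Lrfl Lrfl
theorem f226169 : Led Lsl_dt (LP (LK LD1_c5 LD2_c33 LD3_c59)) = (LP (LK LD1_c2 LD2_c43 LD3_c0)) :=
  Lre_d IH (LK LD1_c5 LD2_c33 LD3_c59) (LK LD1_c2 LD2_c43 LD3_c0) Lrfl Lrfl
theorem f173007 : Led Lsl_ct (LP (LK LD1_c1 LD2_c17 LD3_c60)) = (LP (LK LD1_c2 LD2_c43 LD3_c0)) :=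
  Lre_c IH (LK LD1_c1 LD2_c17 LD3_c60) (LK LD1_c2 LD2_c43 LD3_c0) Lrfl Lrfl
theorem f172972 : Led Lsl_ct (LP (LK LD1_c1 LD2_c16 LD3_c22)) = (LP (LK LD1_c0 LD2_c35 LD3_c60)) :=
  Lre_c IH (LK LD1_c1 LD2_c16 LD3_c22) (LK LD1_c0 LD2_c35 LD3_c60) Lrfl Lrfl
theorem f179523 : Led Lsl_gt (LP (LK LD1_c2 LD2_c39 LD3_c6)) = (LP (LK LD1_c1 LD2_c16 LD3_c22)) :=
  Lre_g IH (LK LD1_c2 LD2_c39 LD3_c6) (LK LD1_c1 LD2_c16 LD3_c22) Lrfl Lrfl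
theorem f226149 : Led Lsl_dt (LP (LK LD1_c2 LD2_c39 LD3_c6)) = (LP (LK LD1_c5 LD2_c25 LD3_c20)) :=
  Lre_d IH (LK LD1_c2 LD2_c39 LD3_c6) (LK LD1_c5 LD2_c25 LD3_c20) Lrfl Lrfl
theorem f246531 : Led Lsl_gt (LP (LK LD1_c5 LD2_c25 LD3_c20)) = (LP (LK LD1_c10 LD2_c40 LD3_c42)) :=
  Lgr Lrot9 (Lpe (f226149 IH) (Lpr_gt (f179523 IH) (Lpr_ct (f172972 IH) (Lpr_gt (K9.f174104 IH) (Lpr_ct (f173007 IH) (Lpe (f226169 IH) (Lpe (f226340 IH) (Lpr_gf (f246522 IH) (Lpe (f246497 IH) (Lpn (LP (LK LD1_c10 LD2_c40 LD3_c42))))))))))))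
theorem f169325 : Led Lsl_gt (LP (LK LD1_c5 LD2_c25 LD3_c11)) = (LP (LK LD1_c2 LD2_c39 LD3_c6)) :=
  Lre_g IH (LK LD1_c5 LD2_c25 LD3_c11) (LK LD1_c2 LD2_c39 LD3_c6) Lrfl Lrfl
theorem f226135 : Led Lsl_dt (LP (LK LD1_c1 LD2_c17 LD3_c61)) = (LP (LK LD1_c2 LD2_c43 LD3_c6)) :=
  Lre_d IH (LK LD1_c1 LD2_c17 LD3_c61) (LK LD1_c2 LD2_c43 LD3_c6) Lrfl Lrfl
theorem f226024 : Led Lsl_bt (LP (LK LD1_c1 LD2_c17 LD3_c39)) = (LP (LK LD1_c2 LD2_c42 LD3_c1)) :=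
  Lre_b IH (LK LD1_c1 LD2_c17 LD3_c39) (LK LD1_c2 LD2_c42 LD3_c1) Lrfl Lrfl
theorem f224535 : Led Lsl_gt (LP (LK LD1_c2 LD2_c42 LD3_c1)) = (LP (LK LD1_c5 LD2_c31 LD3_c40)) :=
  Lre_g IH (LK LD1_c2 LD2_c42 LD3_c1) (LK LD1_c5 LD2_c31 LD3_c40) Lrfl Lrfl
theorem f226025 : Led Lsl_ct (LP (LK LD1_c5 LD2_c31 LD3_c40)) = (LP (LK LD1_c10 LD2_c55 LD3_c4)) :=
  Lre_c IH (LK LD1_c5 LD2_c31 LD3_c40) (LK LD1_c10 LD2_c55 LD3_c4) Lrfl Lrfl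
theorem f226026 : Led Lsl_gt (LP (LK LD1_c10 LD2_c55 LD3_c4)) = (LP (LK LD1_c11 LD2_c0 LD3_c32)) :=
  Lre_g IH (LK LD1_c10 LD2_c55 LD3_c4) (LK LD1_c11 LD2_c0 LD3_c32) Lrfl Lrfl
theorem f226027 : Led Lsl_ct (LP (LK LD1_c5 LD2_c34 LD3_c11)) = (LP (LK LD1_c11 LD2_c0 LD3_c32)) :=
  Lre_c IH (LK LD1_c5 LD2_c34 LD3_c11) (LK LD1_c11 LD2_c0 LD3_c32) Lrfl Lrfl
theorem f226028 : Led Lsl_bt (LP (LK LD1_c5 LD2_c34 LD3_c11)) = (LP (LK LD1_c2 LD2_c43 LD3_c6)) :=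
  Lre_b IH (LK LD1_c5 LD2_c34 LD3_c11) (LK LD1_c2 LD2_c43 LD3_c6) Lrfl Lrfl
theorem f179853 : Led Lsl_gt (LP (LK LD1_c2 LD2_c42 LD3_c47)) = (LP (LK LD1_c1 LD2_c17 LD3_c55)) :=
  Lre_g IH (LK LD1_c2 LD2_c42 LD3_c47) (LK LD1_c1 LD2_c17 LD3_c55) Lrfl Lrfl
theorem f225342 : Led Lsl_df (LP (LK LD1_c2 LD2_c2 LD3_c47)) = (LP (LK LD1_c2 LD2_c42 LD3_c47)) :=
  Lgr Lrot155 (Lpr_gt (K12.f183312 IH) (Lpr_ct (K12.f174740 IH) (Lpr_gt (K13.f174975 IH) (Lpe (K13.f173930 IH) (Lpr_dt (K12.f173950 IH) (Lpr_cf (K12.f225252 IH) (Lpe (K12.f225340 IH) (Lpr_cf (K12.f172328 IH) (Lpe (f179853 IH) (Lpn (LP (LK LD1_c2 LD2_c42 LD3_c47))))))))))))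
theorem f225348 : Led Lsl_dt (LP (LK LD1_c2 LD2_c2 LD3_c47)) = (LP (LK LD1_c2 LD2_c42 LD3_c47)) :=
  Lgr Lrot42 (Lpr_df (f225342 IH) (Lpn (LP (LK LD1_c2 LD2_c42 LD3_c47))))
theorem f226006 : Led Lsl_cf (LP (LK LD1_c1 LD2_c19 LD3_c54)) = (LP (LK LD1_c2 LD2_c42 LD3_c47)) :=
  Lgr Lrot14 (Lpr_df (K12.f225933 IH) (Lpr_gf (K12.f225153 IH) (Lpr_df (K9.f173365 IH) (Lpe (K9.f173364 IH) (Lpr_ct (K9.f169302 IH) (Lpr_gt (K9.f9232 IH) (Lpe (K12.f225187 IH) (Lpr_gt (K13.f225244 IH) (Lpr_dt (f225348 IH) (Lpn (LP (LK LD1_c2 LD2_c42 LD3_c47))))))))))))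
theorem f225397 : Led Lsl_bt (LP (LK LD1_c2 LD2_c42 LD3_c47)) = (LP (LK LD1_c5 LD2_c33 LD3_c16)) :=
  Lre_b IH (LK LD1_c2 LD2_c42 LD3_c47) (LK LD1_c5 LD2_c33 LD3_c16) Lrfl Lrfl
theorem f226029 : Led Lsl_gt (LP (LK LD1_c2 LD2_c43 LD3_c6)) = (LP (LK LD1_c5 LD2_c33 LD3_c16)) :=
  Lgr Lrot164 (Lpe (f226028 IH) (Lpr_ct (f226027 IH) (Lpe (f226026 IH) (Lpe (f226025 IH) (Lpe (f224535 IH) (Lpe (f226024 IH) (Lpr_ct (K12.f175271 IH) (Lpr_gf (K12.f226018 IH) (Lpr_cf (f226006 IH) (Lpr_bt (f225397 IH) (Lpn (LP (LK LD1_c5 LD2_c33 LD3_c16)))))))))))))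
theorem f225350 : Led Lsl_et (LP (LK LD1_c2 LD2_c2 LD3_c47)) = (LP (LK LD1_c4 LD2_c10 LD3_c60)) :=
  Lre_e IH (LK LD1_c2 LD2_c2 LD3_c47) (LK LD1_c4 LD2_c10 LD3_c60) Lrfl Lrfl
theorem f225351 : Led Lsl_dt (LP (LK LD1_c4 LD2_c10 LD3_c60)) = (LP (LK LD1_c8 LD2_c21 LD3_c50)) :=
  Lre_d IH (LK LD1_c4 LD2_c10 LD3_c60) (LK LD1_c8 LD2_c21 LD3_c50) Lrfl Lrfl
theorem f225352 : Led Lsl_et (LP (LK LD1_c5 LD2_c33 LD3_c17)) = (LP (LK LD1_c2 LD2_c42 LD3_c47)) :=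
  Lre_e IH (LK LD1_c5 LD2_c33 LD3_c17) (LK LD1_c2 LD2_c42 LD3_c47) Lrfl Lrfl
theorem f225353 : Led Lsl_dt (LP (LK LD1_c10 LD2_c58 LD3_c35)) = (LP (LK LD1_c5 LD2_c33 LD3_c17)) :=
  Lre_d IH (LK LD1_c10 LD2_c58 LD3_c35) (LK LD1_c5 LD2_c33 LD3_c17) Lrfl Lrfl
theorem f225354 : Led Lsl_et (LP (LK LD1_c8 LD2_c21 LD3_c50)) = (LP (LK LD1_c10 LD2_c58 LD3_c35)) :=
  Lgr Lrot71 (Lpe (f225351 IH) (Lpe (f225350 IH) (Lpr_df (f225342 IH) (Lpe (f225352 IH) (Lpe (f225353 IH) (Lpn (LP (LK LD1_c10 LD2_c58 LD3_c35))))))))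
theorem f225373 : Led Lsl_ef (LP (LK LD1_c8 LD2_c21 LD3_c50)) = (LP (LK LD1_c10 LD2_c58 LD3_c35)) :=
  Lgr Lrot88 (Lpr_et (f225354 IH) (Lpn (LP (LK LD1_c10 LD2_c58 LD3_c35))))
theorem f225378 : Led Lsl_bt (LP (LK LD1_c8 LD2_c21 LD3_c50)) = (LP (LK LD1_c15 LD2_c44 LD3_c20)) :=
  Lre_b IH (LK LD1_c8 LD2_c21 LD3_c50) (LK LD1_c15 LD2_c44 LD3_c20) Lrfl Lrfl
theorem f225379 : Led Lsl_bt (LP (LK LD1_c19 LD2_c48 LD3_c60)) = (LP (LK LD1_c10 LD2_c58 LD3_c35)) :=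
  Lre_b IH (LK LD1_c19 LD2_c48 LD3_c60) (LK LD1_c10 LD2_c58 LD3_c35) Lrfl Lrfl
theorem f225380 : Led Lsl_et (LP (LK LD1_c15 LD2_c44 LD3_c20)) = (LP (LK LD1_c19 LD2_c48 LD3_c60)) :=
  Lgr Lrot74 (Lpe (f225378 IH) (Lpr_ef (f225373 IH) (Lpe (f225379 IH) (Lpn (LP (LK LD1_c19 LD2_c48 LD3_c60))))))
theorem f225384 : Led Lsl_dt (LP (LK LD1_c8 LD2_c21 LD3_c49)) = (LP (LK LD1_c15 LD2_c44 LD3_c20)) :=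
  Lre_d IH (LK LD1_c8 LD2_c21 LD3_c49) (LK LD1_c15 LD2_c44 LD3_c20) Lrfl Lrfl
theorem f225385 : Led Lsl_et (LP (LK LD1_c4 LD2_c11 LD3_c0)) = (LP (LK LD1_c8 LD2_c21 LD3_c49)) :=
  Lre_e IH (LK LD1_c4 LD2_c11 LD3_c0) (LK LD1_c8 LD2_c21 LD3_c49) Lrfl Lrfl
theorem f225386 : Led Lsl_dt (LP (LK LD1_c19 LD2_c48 LD3_c60)) = (LP (LK LD1_c10 LD2_c58 LD3_c32)) :=
  Lre_d IH (LK LD1_c19 LD2_c48 LD3_c60) (LK LD1_c10 LD2_c58 LD3_c32) Lrfl Lrfl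
theorem f225387 : Led Lsl_et (LP (LK LD1_c10 LD2_c58 LD3_c32)) = (LP (LK LD1_c5 LD2_c33 LD3_c16)) :=
  Lre_e IH (LK LD1_c10 LD2_c58 LD3_c32) (LK LD1_c5 LD2_c33 LD3_c16) Lrfl Lrfl
theorem f225388 : Led Lsl_df (LP (LK LD1_c4 LD2_c11 LD3_c0)) = (LP (LK LD1_c5 LD2_c33 LD3_c16)) :=
  Lgr Lrot70 (Lpr_et (f225385 IH) (Lpr_dt (f225384 IH) (Lpr_et (f225380 IH) (Lpr_dt (f225386 IH) (Lpr_et (f225387 IH) (Lpn (LP (LK LD1_c5 LD2_c33 LD3_c16))))))))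
theorem f225398 : Led Lsl_ct (LP (LK LD1_c4 LD2_c11 LD3_c0)) = (LP (LK LD1_c8 LD2_c21 LD3_c40)) :=
  Lre_c IH (LK LD1_c4 LD2_c11 LD3_c0) (LK LD1_c8 LD2_c21 LD3_c40) Lrfl Lrfl
theorem f246540 : Led Lsl_df (LP (LK LD1_c8 LD2_c21 LD3_c40)) = (LP (LK LD1_c10 LD2_c40 LD3_c42)) :=
  Lgr Lrot84 (Lpe (f225398 IH) (Lpr_df (f225388 IH) (Lpe (f226029 IH) (Lpe (f226135 IH) (Lpe (K12.f218303 IH) (Lpe (K12.f218302 IH) (Lpr_gt (f169325 IH) (Lpr_dt (f226149 IH) (Lpr_gt (f246531 IH) (Lpn (LP (LK LD1_c10 LD2_c40 LD3_c42))))))))))))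
theorem f225403 : Led Lsl_bt (LP (LK LD1_c8 LD2_c21 LD3_c40)) = (LP (LK LD1_c4 LD2_c10 LD3_c52)) :=
  Lre_b IH (LK LD1_c8 LD2_c21 LD3_c40) (LK LD1_c4 LD2_c10 LD3_c52) Lrfl Lrfl
theorem f246500 : Led Lsl_bt (LP (LK LD1_c5 LD2_c24 LD3_c60)) = (LP (LK LD1_c10 LD2_c40 LD3_c42)) :=
  Lre_b IH (LK LD1_c5 LD2_c24 LD3_c60) (LK LD1_c10 LD2_c40 LD3_c42) Lrfl Lrfl
theorem f246551 : Led Lsl_dt (LP (LK LD1_c4 LD2_c10 LD3_c52)) = (LP (LK LD1_c5 LD2_c24 LD3_c60)) :=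
  Lgr Lrot79 (Lpe (f225403 IH) (Lpr_df (f246540 IH) (Lpe (f246500 IH) (Lpn (LP (LK LD1_c5 LD2_c24 LD3_c60))))))
theorem f179762 : Led Lsl_ct (LP (LK LD1_c4 LD2_c10 LD3_c52)) = (LP (LK LD1_c2 LD2_c2 LD3_c40)) :=
  Lre_c IH (LK LD1_c4 LD2_c10 LD3_c52) (LK LD1_c2 LD2_c2 LD3_c40) Lrfl Lrfl
theorem f224702 : Led Lsl_at (LP (LK LD1_c2 LD2_c39 LD3_c12)) = (LP (LK LD1_c4 LD2_c55 LD3_c49)) :=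
  Lre_a IH (LK LD1_c2 LD2_c39 LD3_c12) (LK LD1_c4 LD2_c55 LD3_c49) Lrfl Lrfl
theorem f224703 : Led Lsl_ft (LP (LK LD1_c4 LD2_c54 LD3_c40)) = (LP (LK LD1_c2 LD2_c39 LD3_c12)) :=
  Lre_f IH (LK LD1_c4 LD2_c54 LD3_c40) (LK LD1_c2 LD2_c39 LD3_c12) Lrfl Lrfl
theorem f224704 : Led Lsl_gt (LP (LK LD1_c4 LD2_c54 LD3_c40)) = (LP (LK LD1_c5 LD2_c22 LD3_c20)) :=
  Lgr Lrot5 (Lpr_ft (f224703 IH) (Lpr_at (f224702 IH) (Lpr_gf (K12.f224699 IH) (Lpn (LP (LK LD1_c5 LD2_c22 LD3_c20))))))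
theorem f226913 : Led Lsl_gf (LP (LK LD1_c4 LD2_c10 LD3_c52)) = (LP (LK LD1_c7 LD2_c57 LD3_c49)) :=
  Lgr Lrot147 (Lpr_ct (f179762 IH) (Lpr_gt (K13.f226909 IH) (Lpr_ct (K12.f169172 IH) (Lpe (K12.f169171 IH) (Lpr_cf (K12.f224706 IH) (Lpe (f224704 IH) (Lpe (K12.f168017 IH) (Lpe (K12.f181797 IH) (Lpe (K12.f221594 IH) (Lpn (LP (LK LD1_c7 LD2_c57 LD3_c49))))))))))))
theorem f246297 : Led Lsl_dt (LP (LK LD1_c4 LD2_c13 LD3_c14)) = (LP (LK LD1_c2 LD2_c38 LD3_c60)) :=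
  Lgr Lrot6 (Lpr_gt (K13.f246292 IH) (Lpe (K13.f230385 IH) (Lpr_gt (K13.f230405 IH) (Lpr_ct (K10.f42165 IH) (Lpe (K10.f42166 IH) (Lpe (K12.f42175 IH) (Lpr_gf (K12.f224437 IH) (Lpr_cf (K12.f224435 IH) (Lpe (K12.f224252 IH) (Lpn (LP (LK LD1_c2 LD2_c38 LD3_c60))))))))))))
theorem f246577 : Led Lsl_gt (LP (LK LD1_c2 LD2_c8 LD3_c47)) = (LP (LK LD1_c4 LD2_c13 LD3_c14)) :=
  Lgr Lrot49 (Lpe (K12.f200416 IH) (Lpe (K12.f211417 IH) (Lpe (K12.f167798 IH) (Lpe (f226913 IH) (Lpr_dt (f246551 IH) (Lpr_gt (f213037 IH) (Lpr_dt (f213036 IH) (Lpe (K12.f213030 IH) (Lpe (f246297 IH) (Lpn (LP (LK LD1_c4 LD2_c13 LD3_c14))))))))))))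
theorem f211413 : Led Lsl_ct (LP (LK LD1_c2 LD2_c8 LD3_c21)) = (LP (LK LD1_c2 LD2_c8 LD3_c47)) :=
  Lgr Lrot59 (Lpr_cf (K12.f211411 IH) (Lpn (LP (LK LD1_c2 LD2_c8 LD3_c47))))
theorem f196770 : Led Lsl_df (LP (LK LD1_c2 LD2_c58 LD3_c30)) = (LP (LK LD1_c4 LD2_c0 LD3_c59)) :=
  Lgr Lrot84 (Lpe (K12.f42255 IH) (Lpe (K10.f42166 IH) (Lpe (K9.f42159 IH) (Lpe (K10.f42158 IH) (Lpe (K9.f42157 IH) (Lpe (K9.f171874 IH) (Lpr_gt (K12.f171893 IH) (Lpr_dt (K12.f171894 IH) (Lpr_gt (K12.f196768 IH) (Lpn (LP (LK LD1_c4 LD2_c0 LD3_c59))))))))))))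
theorem f217339 : Led Lsl_gt (LP (LK LD1_c4 LD2_c0 LD3_c60)) = (LP (LK LD1_c2 LD2_c25 LD3_c33)) :=
  Lgr Lrot5 (Lpe (K12.f217337 IH) (Lpr_at (K12.f217334 IH) (Lpe (K12.f168112 IH) (Lpn (LP (LK LD1_c2 LD2_c25 LD3_c33))))))
theorem f168063 : Led Lsl_ct (LP (LK LD1_c2 LD2_c25 LD3_c33)) = (LP (LK LD1_c1 LD2_c9 LD3_c61)) :=
  Lre_c IH (LK LD1_c2 LD2_c25 LD3_c33) (LK LD1_c1 LD2_c9 LD3_c61) Lrfl Lrfl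
theorem f228897 : Led Lsl_ct (LP (LK LD1_c4 LD2_c13 LD3_c14)) = (LP (LK LD1_c2 LD2_c3 LD3_c52)) :=
  Lre_c IH (LK LD1_c4 LD2_c13 LD3_c14) (LK LD1_c2 LD2_c3 LD3_c52) Lrfl Lrfl
theorem f246595 : Led Lsl_df (LP (LK LD1_c1 LD2_c9 LD3_c61)) = (LP (LK LD1_c2 LD2_c3 LD3_c52)) :=
  Lgr Lrot162 (Lpe (f168063 IH) (Lpe (f217339 IH) (Lpe (K12.f30866 IH) (Lpe (K12.f30874 IH) (Lpe (f196770 IH) (Lpe (K13.f246368 IH) (Lpr_ct (f211413 IH) (Lpr_gt (f246577 IH) (Lpr_ct (f228897 IH) (Lpn (LP (LK LD1_c2 LD2_c3 LD3_c52))))))))))))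
theorem f41237 : Led Lsl_dt (LP (LK LD1_c1 LD2_c9 LD3_c52)) = (LP (LK LD1_c2 LD2_c25 LD3_c14)) :=
  Lre_d IH (LK LD1_c1 LD2_c9 LD3_c52) (LK LD1_c2 LD2_c25 LD3_c14) Lrfl Lrfl
theorem f41407 : Led Lsl_et (LP (LK LD1_c1 LD2_c9 LD3_c60)) = (LP (LK LD1_c0 LD2_c32 LD3_c21)) :=
  Lre_e IH (LK LD1_c1 LD2_c9 LD3_c60) (LK LD1_c0 LD2_c32 LD3_c21) Lrfl Lrfl
theorem f228814 : Led Lsl_et (LP (LK LD1_c0 LD2_c26 LD3_c44)) = (LP (LK LD1_c0 LD2_c58 LD3_c55)) :=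
  Lre_e IH (LK LD1_c0 LD2_c26 LD3_c44) (LK LD1_c0 LD2_c58 LD3_c55) Lrfl Lrfl
theorem f184318 : Led Lsl_dt (LP (LK LD1_c0 LD2_c26 LD3_c44)) = (LP (LK LD1_c0 LD2_c58 LD3_c54)) :=
  Lre_d IH (LK LD1_c0 LD2_c26 LD3_c44) (LK LD1_c0 LD2_c58 LD3_c54) Lrfl Lrfl
theorem f178351 : Led Lsl_gt (LP (LK LD1_c2 LD2_c3 LD3_c49)) = (LP (LK LD1_c0 LD2_c58 LD3_c54)) :=
  Lre_g IH (LK LD1_c2 LD2_c3 LD3_c49) (LK LD1_c0 LD2_c58 LD3_c54) Lrfl Lrfl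
theorem f246636 : Led Lsl_dt (LP (LK LD1_c1 LD2_c9 LD3_c60)) = (LP (LK LD1_c2 LD2_c3 LD3_c49)) :=
  Lgr Lrot136 (Lpr_et (f41407 IH) (Lpe (K12.f41404 IH) (Lpr_ef (K1.f41387 IH) (Lpr_dt (f41237 IH) (Lpe (K9.f41406 IH) (Lpr_df (f246595 IH) (Lpe (K13.f173279 IH) (Lpe (f228814 IH) (Lpr_dt (f184318 IH) (Lpe (f178351 IH) (Lpn (LP (LK LD1_c2 LD2_c3 LD3_c49)))))))))))))
theorem f216286 : Led Lsl_et (LP (LK LD1_c0 LD2_c6 LD3_c39)) = (LP (LK LD1_c0 LD2_c14 LD3_c30)) :=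
  Lre_e IH (LK LD1_c0 LD2_c6 LD3_c39) (LK LD1_c0 LD2_c14 LD3_c30) Lrfl Lrfl
theorem f193279 : Led Lsl_bt (LP (LK LD1_c0 LD2_c54 LD3_c24)) = (LP (LK LD1_c0 LD2_c59 LD3_c60)) :=
  Lgr Lrot22 (Lpr_ct (K1.f39176 IH) (Lpr_gf (K9.f181960 IH) (Lpe (K12.f173254 IH) (Lpr_gf (K10.f193264 IH) (Lpe (K0.f3067 IH) (Lpr_ct (K0.f2130 IH) (Lpe (K0.f3063 IH) (Lpe (K0.f7897 IH) (Lpr_bt (K11.f7913 IH) (Lpe (K11.f7852 IH) (Lpn (LP (LK LD1_c0 LD2_c59 LD3_c60)))))))))))))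
theorem f230943 : Led Lsl_bt (LP (LK LD1_c0 LD2_c59 LD3_c51)) = (LP (LK LD1_c0 LD2_c58 LD3_c2)) :=
  Lgr Lrot127 (Lpr_bf (K12.f230937 IH) (Lpn (LP (LK LD1_c0 LD2_c58 LD3_c2))))
theorem f187055 : Led Lsl_at (LP (LK LD1_c1 LD2_c0 LD3_c17)) = (LP (LK LD1_c0 LD2_c27 LD3_c23)) :=
  Lre_a IH (LK LD1_c1 LD2_c0 LD3_c17) (LK LD1_c0 LD2_c27 LD3_c23) Lrfl Lrfl
theorem f187056 : Led Lsl_at (LP (LK LD1_c0 LD2_c27 LD3_c13)) = (LP (LK LD1_c0 LD2_c59 LD3_c51)) :=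
  Lre_a IH (LK LD1_c0 LD2_c27 LD3_c13) (LK LD1_c0 LD2_c59 LD3_c51) Lrfl Lrfl
theorem f187057 : Led Lsl_cf (LP (LK LD1_c1 LD2_c0 LD3_c17)) = (LP (LK LD1_c0 LD2_c59 LD3_c51)) :=
  Lgr Lrot1 (Lpr_at (f187055 IH) (Lpr_ct (K10.f187019 IH) (Lpr_at (f187056 IH) (Lpn (LP (LK LD1_c0 LD2_c59 LD3_c51))))))
theorem f231230 : Led Lsl_gt (LP (LK LD1_c0 LD2_c57 LD3_c11)) = (LP (LK LD1_c1 LD2_c0 LD3_c17)) :=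
  Lgr Lrot149 (Lpe (K10.f53810 IH) (Lpr_gf (K12.f211422 IH) (Lpe (K10.f180215 IH) (Lpr_ct (K10.f180209 IH) (Lpe (K9.f181980 IH) (Lpe (K1.f39176 IH) (Lpr_bt (f193279 IH) (Lpr_gf (K12.f231224 IH) (Lpe (f230943 IH) (Lpe (f187057 IH) (Lpn (LP (LK LD1_c1 LD2_c0 LD3_c17)))))))))))))
theorem f246649 : Led Lsl_dt (LP (LK LD1_c1 LD2_c0 LD3_c17)) = (LP (LK LD1_c2 LD2_c6 LD3_c37)) :=
  Lre_d IH (LK LD1_c1 LD2_c0 LD3_c17) (LK LD1_c2 LD2_c6 LD3_c37) Lrfl Lrfl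
theorem f246650 : Led Lsl_gt (LP (LK LD1_c2 LD2_c6 LD3_c37)) = (LP (LK LD1_c2 LD2_c3 LD3_c49)) :=
  Lgr Lrot139 (Lpe (f246649 IH) (Lpe (f231230 IH) (Lpe (K12.f47449 IH) (Lpr_dt (K8.f47437 IH) (Lpe (K1.f6963 IH) (Lpe (K1.f44313 IH) (Lpr_et (f216286 IH) (Lpe (K13.f171911 IH) (Lpe (f41407 IH) (Lpr_dt (f246636 IH) (Lpn (LP (LK LD1_c2 LD2_c3 LD3_c49)))))))))))))
theorem f230306 : Led Lsl_et (LP (LK LD1_c1 LD2_c0 LD3_c17)) = (LP (LK LD1_c2 LD2_c6 LD3_c38)) :=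
  Lre_e IH (LK LD1_c1 LD2_c0 LD3_c17) (LK LD1_c2 LD2_c6 LD3_c38) Lrfl Lrfl
theorem f246638 : Led Lsl_et (LP (LK LD1_c2 LD2_c3 LD3_c52)) = (LP (LK LD1_c4 LD2_c13 LD3_c15)) :=
  Lre_e IH (LK LD1_c2 LD2_c3 LD3_c52) (LK LD1_c4 LD2_c13 LD3_c15) Lrfl Lrfl
theorem f246659 : Led Lsl_gf (LP (LK LD1_c2 LD2_c6 LD3_c38)) = (LP (LK LD1_c4 LD2_c13 LD3_c15)) :=
  Lgr Lrot141 (Lpe (f230306 IH) (Lpr_dt (f246649 IH) (Lpr_gt (f246650 IH) (Lpe (f246636 IH) (Lpr_et (f41407 IH) (Lpr_gt (K13.f171911 IH) (Lpr_dt (K12.f44325 IH) (Lpr_gt (K9.f168085 IH) (Lpr_df (f246595 IH) (Lpr_et (f246638 IH) (Lpn (LP (LK LD1_c4 LD2_c13 LD3_c15)))))))))))))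
theorem f44324 : Led Lsl_et (LP (LK LD1_c0 LD2_c14 LD3_c30)) = (LP (LK LD1_c0 LD2_c6 LD3_c39)) :=
  Lre_e IH (LK LD1_c0 LD2_c14 LD3_c30) (LK LD1_c0 LD2_c6 LD3_c39) Lrfl Lrfl
theorem f246663 : Led Lsl_dt (LP (LK LD1_c2 LD2_c6 LD3_c38)) = (LP (LK LD1_c2 LD2_c25 LD3_c5)) :=
  Lgr Lrot171 (Lpr_gf (f246659 IH) (Lpe (f246638 IH) (Lpe (f246595 IH) (Lpe (K9.f168085 IH) (Lpe (K12.f44325 IH) (Lpr_et (f44324 IH) (Lpe (K1.f31432 IH) (Lpe (K9.f41392 IH) (Lpr_dt (K10.f41393 IH) (Lpe (K12.f31526 IH) (Lpn (LP (LK LD1_c2 LD2_c25 LD3_c5)))))))))))))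
theorem f230309 : Led Lsl_et (LP (LK LD1_c2 LD2_c6 LD3_c38)) = (LP (LK LD1_c1 LD2_c0 LD3_c17)) :=
  Lre_e IH (LK LD1_c2 LD2_c6 LD3_c38) (LK LD1_c1 LD2_c0 LD3_c17) Lrfl Lrfl
theorem f2859 : Led Lsl_bt (LP (LK LD1_c1 LD2_c9 LD3_c24)) = (LP (LK LD1_c0 LD2_c31 LD3_c54)) :=
  Lre_b IH (LK LD1_c1 LD2_c9 LD3_c24) (LK LD1_c0 LD2_c31 LD3_c54) Lrfl Lrfl
theorem f166576 : Led Lsl_dt (LP (LK LD1_c0 LD2_c58 LD3_c60)) = (LP (LK LD1_c1 LD2_c9 LD3_c24)) :=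
  Lgr Lrot79 (Lpe (K11.f51583 IH) (Lpr_df (K9.f166466 IH) (Lpe (f2859 IH) (Lpn (LP (LK LD1_c1 LD2_c9 LD3_c24))))))
theorem f246674 : Led Lsl_gt (LP (LK LD1_c1 LD2_c0 LD3_c17)) = (LP (LK LD1_c0 LD2_c58 LD3_c52)) :=
  Lgr Lrot137 (Lpe (f230309 IH) (Lpr_dt (f246663 IH) (Lpr_gf (K12.f43469 IH) (Lpe (K10.f43354 IH) (Lpe (K9.f43340 IH) (Lpr_gf (K10.f184875 IH) (Lpr_ef (K11.f166613 IH) (Lpr_dt (f166576 IH) (Lpe (K12.f167244 IH) (Lpe (K12.f167247 IH) (Lpn (LP (LK LD1_c0 LD2_c58 LD3_c52)))))))))))))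
theorem f220126 : Led Lsl_ct (LP (LK LD1_c2 LD2_c3 LD3_c49)) = (LP (LK LD1_c4 LD2_c13 LD3_c4)) :=
  Lre_c IH (LK LD1_c2 LD2_c3 LD3_c49) (LK LD1_c4 LD2_c13 LD3_c4) Lrfl Lrfl
theorem f211426 : Led Lsl_ct (LP (LK LD1_c4 LD2_c21 LD3_c39)) = (LP (LK LD1_c2 LD2_c8 LD3_c20)) :=
  Lre_c IH (LK LD1_c4 LD2_c21 LD3_c39) (LK LD1_c2 LD2_c8 LD3_c20) Lrfl Lrfl
theorem f246682 : Led Lsl_gt (LP (LK LD1_c4 LD2_c13 LD3_c4)) = (LP (LK LD1_c4 LD2_c21 LD3_c39)) :=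
  Lgr Lrot150 (Lpe (f220126 IH) (Lpe (f246650 IH) (Lpe (f246649 IH) (Lpr_gt (f246674 IH) (Lpr_ct (K12.f222192 IH) (Lpe (K12.f219450 IH) (Lpe (K10.f181973 IH) (Lpe (K13.f187074 IH) (Lpe (f211426 IH) (Lpn (LP (LK LD1_c4 LD2_c21 LD3_c39))))))))))))
theorem f220087 : Led Lsl_bt (LP (LK LD1_c2 LD2_c3 LD3_c49)) = (LP (LK LD1_c4 LD2_c13 LD3_c3)) :=
  Lre_b IH (LK LD1_c2 LD2_c3 LD3_c49) (LK LD1_c4 LD2_c13 LD3_c3) Lrfl Lrfl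
theorem f232256 : Led Lsl_ct (LP (LK LD1_c2 LD2_c8 LD3_c20)) = (LP (LK LD1_c4 LD2_c21 LD3_c39)) :=
  Lre_c IH (LK LD1_c2 LD2_c8 LD3_c20) (LK LD1_c4 LD2_c21 LD3_c39) Lrfl Lrfl
theorem f238518 : Led Lsl_bt (LP (LK LD1_c2 LD2_c8 LD3_c20)) = (LP (LK LD1_c1 LD2_c1 LD3_c20)) :=
  Lre_b IH (LK LD1_c2 LD2_c8 LD3_c20) (LK LD1_c1 LD2_c1 LD3_c20) Lrfl Lrfl
theorem f232300 : Led Lsl_bt (LP (LK LD1_c1 LD2_c1 LD3_c27)) = (LP (LK LD1_c2 LD2_c8 LD3_c35)) :=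
  Lre_b IH (LK LD1_c1 LD2_c1 LD3_c27) (LK LD1_c2 LD2_c8 LD3_c35) Lrfl Lrfl
theorem f246691 : Led Lsl_gf (LP (LK LD1_c4 LD2_c13 LD3_c3)) = (LP (LK LD1_c2 LD2_c8 LD3_c35)) :=
  Lgr Lrot124 (Lpe (f220087 IH) (Lpr_ct (f220126 IH) (Lpr_gt (f246682 IH) (Lpe (f232256 IH) (Lpr_bt (f238518 IH) (Lpe (K13.f238734 IH) (Lpr_ct (K13.f238724 IH) (Lpr_gt (K13.f238725 IH) (Lpe (K13.f193270 IH) (Lpr_bt (f232300 IH) (Lpn (LP (LK LD1_c2 LD2_c8 LD3_c35)))))))))))))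
theorem f173259 : Led Lsl_dt (LP (LK LD1_c1 LD2_c1 LD3_c26)) = (LP (LK LD1_c2 LD2_c8 LD3_c35)) :=
  Lre_d IH (LK LD1_c1 LD2_c1 LD3_c26) (LK LD1_c2 LD2_c8 LD3_c35) Lrfl Lrfl
theorem f27514 : Led Lsl_et (LP (LK LD1_c0 LD2_c26 LD3_c58)) = (LP (LK LD1_c0 LD2_c59 LD3_c10)) :=
  Lre_e IH (LK LD1_c0 LD2_c26 LD3_c58) (LK LD1_c0 LD2_c59 LD3_c10) Lrfl Lrfl
theorem f171984 : Led Lsl_bt (LP (LK LD1_c0 LD2_c32 LD3_c21)) = (LP (LK LD1_c1 LD2_c9 LD3_c57)) :=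
  Lre_b IH (LK LD1_c0 LD2_c32 LD3_c21) (LK LD1_c1 LD2_c9 LD3_c57) Lrfl Lrfl
theorem f219077 : Led Lsl_gf (LP (LK LD1_c1 LD2_c9 LD3_c57)) = (LP (LK LD1_c0 LD2_c59 LD3_c15)) :=
  Lgr Lrot124 (Lpe (f171984 IH) (Lpr_ct (K12.f171903 IH) (Lpr_gt (K12.f217464 IH) (Lpe (K12.f44564 IH) (Lpr_bt (K10.f50124 IH) (Lpe (K12.f180106 IH) (Lpr_ct (K12.f2880 IH) (Lpr_gt (K10.f193333 IH) (Lpe (K10.f27482 IH) (Lpr_bt (K11.f27480 IH) (Lpn (LP (LK LD1_c0 LD2_c59 LD3_c15)))))))))))))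
theorem f27388 : Led Lsl_ft (LP (LK LD1_c0 LD2_c59 LD3_c15)) = (LP (LK LD1_c0 LD2_c26 LD3_c60)) :=
  Lre_f IH (LK LD1_c0 LD2_c59 LD3_c15) (LK LD1_c0 LD2_c26 LD3_c60) Lrfl Lrfl
theorem f219079 : Led Lsl_at (LP (LK LD1_c0 LD2_c26 LD3_c60)) = (LP (LK LD1_c0 LD2_c59 LD3_c10)) :=
  Lre_a IH (LK LD1_c0 LD2_c26 LD3_c60) (LK LD1_c0 LD2_c59 LD3_c10) Lrfl Lrfl
theorem f219080 : Led Lsl_gt (LP (LK LD1_c1 LD2_c9 LD3_c57)) = (LP (LK LD1_c0 LD2_c59 LD3_c10)) :=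
  Lgr Lrot46 (Lpr_gf (f219077 IH) (Lpr_ft (f27388 IH) (Lpr_at (f219079 IH) (Lpn (LP (LK LD1_c0 LD2_c59 LD3_c10))))))
theorem f219095 : Led Lsl_et (LP (LK LD1_c2 LD2_c25 LD3_c27)) = (LP (LK LD1_c1 LD2_c9 LD3_c57)) :=
  Lre_e IH (LK LD1_c2 LD2_c25 LD3_c27) (LK LD1_c1 LD2_c9 LD3_c57) Lrfl Lrfl
theorem f246701 : Led Lsl_df (LP (LK LD1_c4 LD2_c13 LD3_c3)) = (LP (LK LD1_c2 LD2_c25 LD3_c27)) :=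
  Lgr Lrot132 (Lpr_gf (f246691 IH) (Lpe (f173259 IH) (Lpe (K12.f212495 IH) (Lpe (K8.f48167 IH) (Lpe (K8.f48177 IH) (Lpr_gf (K13.f45724 IH) (Lpe (K1.f45081 IH) (Lpr_et (f27514 IH) (Lpe (f219080 IH) (Lpe (f219095 IH) (Lpn (LP (LK LD1_c2 LD2_c25 LD3_c27)))))))))))))
theorem f220067 : Led Lsl_gt (LP (LK LD1_c2 LD2_c1 LD3_c43)) = (LP (LK LD1_c4 LD2_c8 LD3_c42)) :=
  Lre_g IH (LK LD1_c2 LD2_c1 LD3_c43) (LK LD1_c4 LD2_c8 LD3_c42) Lrfl Lrfl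
theorem f178350 : Led Lsl_bt (LP (LK LD1_c0 LD2_c26 LD3_c45)) = (LP (LK LD1_c0 LD2_c58 LD3_c54)) :=
  Lre_b IH (LK LD1_c0 LD2_c26 LD3_c45) (LK LD1_c0 LD2_c58 LD3_c54) Lrfl Lrfl
theorem f178352 : Led Lsl_bt (LP (LK LD1_c4 LD2_c13 LD3_c3)) = (LP (LK LD1_c2 LD2_c3 LD3_c49)) :=
  Lre_b IH (LK LD1_c4 LD2_c13 LD3_c3) (LK LD1_c2 LD2_c3 LD3_c49) Lrfl Lrfl
theorem f220068 : Led Lsl_cf (LP (LK LD1_c4 LD2_c8 LD3_c42)) = (LP (LK LD1_c4 LD2_c13 LD3_c3)) :=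
  Lgr Lrot163 (Lpe (f220067 IH) (Lpe (K12.f53157 IH) (Lpe (K12.f1363 IH) (Lpr_bf (K12.f220052 IH) (Lpr_ct (K9.f53441 IH) (Lpr_gf (K9.f178343 IH) (Lpe (K9.f166578 IH) (Lpr_bt (f178350 IH) (Lpe (f178351 IH) (Lpe (f178352 IH) (Lpn (LP (LK LD1_c4 LD2_c13 LD3_c3)))))))))))))
theorem f220092 : Led Lsl_ct (LP (LK LD1_c4 LD2_c8 LD3_c42)) = (LP (LK LD1_c4 LD2_c13 LD3_c3)) :=
  Lgr Lrot59 (Lpr_cf (f220068 IH) (Lpn (LP (LK LD1_c4 LD2_c13 LD3_c3))))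
theorem f47721 : Led Lsl_ct (LP (LK LD1_c1 LD2_c14 LD3_c18)) = (LP (LK LD1_c2 LD2_c34 LD3_c31)) :=
  Lre_c IH (LK LD1_c1 LD2_c14 LD3_c18) (LK LD1_c2 LD2_c34 LD3_c31) Lrfl Lrfl
theorem f232200 : Led Lsl_ct (LP (LK LD1_c4 LD2_c55 LD3_c4)) = (LP (LK LD1_c2 LD2_c25 LD3_c27)) :=
  Lre_c IH (LK LD1_c4 LD2_c55 LD3_c4) (LK LD1_c2 LD2_c25 LD3_c27) Lrfl Lrfl
theorem f246708 : Led Lsl_gt (LP (LK LD1_c2 LD2_c34 LD3_c31)) = (LP (LK LD1_c4 LD2_c55 LD3_c4)) :=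
  Lgr Lrot150 (Lpe (f47721 IH) (Lpr_gf (K13.f236412 IH) (Lpe (K12.f220062 IH) (Lpr_gt (K12.f1363 IH) (Lpr_ct (K12.f53157 IH) (Lpr_gt (f220067 IH) (Lpr_ct (f220092 IH) (Lpr_df (f246701 IH) (Lpe (f232200 IH) (Lpn (LP (LK LD1_c4 LD2_c55 LD3_c4))))))))))))
theorem f200386 : Led Lsl_bt (LP (LK LD1_c0 LD2_c27 LD3_c27)) = (LP (LK LD1_c1 LD2_c0 LD3_c27)) :=
  Lre_b IH (LK LD1_c0 LD2_c27 LD3_c27) (LK LD1_c1 LD2_c0 LD3_c27) Lrfl Lrfl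
theorem f232183 : Led Lsl_ct (LP (LK LD1_c2 LD2_c25 LD3_c27)) = (LP (LK LD1_c4 LD2_c55 LD3_c4)) :=
  Lre_c IH (LK LD1_c2 LD2_c25 LD3_c27) (LK LD1_c4 LD2_c55 LD3_c4) Lrfl Lrfl
theorem f232201 : Led Lsl_bt (LP (LK LD1_c2 LD2_c25 LD3_c27)) = (LP (LK LD1_c1 LD2_c9 LD3_c60)) :=
  Lre_b IH (LK LD1_c2 LD2_c25 LD3_c27) (LK LD1_c1 LD2_c9 LD3_c60) Lrfl Lrfl
theorem f246712 : Led Lsl_gf (LP (LK LD1_c1 LD2_c0 LD3_c27)) = (LP (LK LD1_c1 LD2_c9 LD3_c60)) :=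
  Lgr Lrot124 (Lpe (f200386 IH) (Lpr_ct (K9.f6822 IH) (Lpr_gt (K9.f6798 IH) (Lpe (K9.f6810 IH) (Lpr_bt (K12.f6811 IH) (Lpe (K13.f236412 IH) (Lpr_ct (f47721 IH) (Lpr_gt (f246708 IH) (Lpe (f232183 IH) (Lpr_bt (f232201 IH) (Lpn (LP (LK LD1_c1 LD2_c9 LD3_c60)))))))))))))
theorem f7927 : Led Lsl_bt (LP (LK LD1_c1 LD2_c9 LD3_c28)) = (LP (LK LD1_c0 LD2_c31 LD3_c57)) :=
  Lre_b IH (LK LD1_c1 LD2_c9 LD3_c28) (LK LD1_c0 LD2_c31 LD3_c57) Lrfl Lrfl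
theorem f6824 : Led Lsl_ct (LP (LK LD1_c0 LD2_c12 LD3_c9)) = (LP (LK LD1_c0 LD2_c27 LD3_c27)) :=
  Lre_c IH (LK LD1_c0 LD2_c12 LD3_c9) (LK LD1_c0 LD2_c27 LD3_c27) Lrfl Lrfl
theorem f200387 : Led Lsl_cf (LP (LK LD1_c1 LD2_c9 LD3_c28)) = (LP (LK LD1_c1 LD2_c0 LD3_c27)) :=
  Lgr Lrot97 (Lpr_bt (f7927 IH) (Lpr_ct (K0.f3064 IH) (Lpr_bt (K12.f200379 IH) (Lpr_ct (f6824 IH) (Lpr_bt (f200386 IH) (Lpn (LP (LK LD1_c1 LD2_c0 LD3_c27))))))))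
theorem f200607 : Led Lsl_ct (LP (LK LD1_c1 LD2_c9 LD3_c28)) = (LP (LK LD1_c1 LD2_c0 LD3_c27)) :=
  Lgr Lrot59 (Lpr_cf (f200387 IH) (Lpn (LP (LK LD1_c1 LD2_c0 LD3_c27))))
theorem f170289 : Led Lsl_ct (LP (LK LD1_c0 LD2_c27 LD3_c38)) = (LP (LK LD1_c0 LD2_c12 LD3_c13)) :=
  Lre_c IH (LK LD1_c0 LD2_c27 LD3_c38) (LK LD1_c0 LD2_c12 LD3_c13) Lrfl Lrfl
theorem f170290 : Led Lsl_bt (LP (LK LD1_c0 LD2_c27 LD3_c38)) = (LP (LK LD1_c1 LD2_c0 LD3_c44)) :=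
  Lre_b IH (LK LD1_c0 LD2_c27 LD3_c38) (LK LD1_c1 LD2_c0 LD3_c44) Lrfl Lrfl
theorem f170291 : Led Lsl_gt (LP (LK LD1_c1 LD2_c0 LD3_c44)) = (LP (LK LD1_c2 LD2_c7 LD3_c22)) :=
  Lre_g IH (LK LD1_c1 LD2_c0 LD3_c44) (LK LD1_c2 LD2_c7 LD3_c22) Lrfl Lrfl
theorem f246641 : Led Lsl_ct (LP (LK LD1_c2 LD2_c25 LD3_c29)) = (LP (LK LD1_c1 LD2_c9 LD3_c60)) :=
  Lre_c IH (LK LD1_c2 LD2_c25 LD3_c29) (LK LD1_c1 LD2_c9 LD3_c60) Lrfl Lrfl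
theorem f246720 : Led Lsl_bf (LP (LK LD1_c2 LD2_c7 LD3_c22)) = (LP (LK LD1_c2 LD2_c25 LD3_c29)) :=
  Lgr Lrot34 (Lpe (f170291 IH) (Lpe (f170290 IH) (Lpr_ct (f170289 IH) (Lpr_gf (K9.f170283 IH) (Lpe (K9.f6810 IH) (Lpr_gf (K9.f179031 IH) (Lpe (f7927 IH) (Lpr_ct (f200607 IH) (Lpr_gf (f246712 IH) (Lpe (f246641 IH) (Lpn (LP (LK LD1_c2 LD2_c25 LD3_c29)))))))))))))
theorem f171986 : Led Lsl_et (LP (LK LD1_c1 LD2_c9 LD3_c58)) = (LP (LK LD1_c2 LD2_c25 LD3_c29)) :=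
  Lre_e IH (LK LD1_c1 LD2_c9 LD3_c58) (LK LD1_c2 LD2_c25 LD3_c29) Lrfl Lrfl
theorem f41276 : Led Lsl_gt (LP (LK LD1_c1 LD2_c55 LD3_c51)) = (LP (LK LD1_c0 LD2_c54 LD3_c40)) :=
  Lre_g IH (LK LD1_c1 LD2_c55 LD3_c51) (LK LD1_c0 LD2_c54 LD3_c40) Lrfl Lrfl
theorem f171899 : Led Lsl_bt (LP (LK LD1_c1 LD2_c9 LD3_c58)) = (LP (LK LD1_c1 LD2_c55 LD3_c51)) :=
  Lgr Lrot22 (Lpr_ct (K13.f171898 IH) (Lpe (K12.f41404 IH) (Lpe (K1.f41400 IH) (Lpe (K1.f41432 IH) (Lpe (K9.f171873 IH) (Lpr_ct (K9.f171874 IH) (Lpe (K9.f41277 IH) (Lpe (K1.f41273 IH) (Lpe (K1.f41220 IH) (Lpe (f41276 IH) (Lpn (LP (LK LD1_c1 LD2_c55 LD3_c51)))))))))))))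
theorem f171901 : Led Lsl_bf (LP (LK LD1_c1 LD2_c9 LD3_c58)) = (LP (LK LD1_c1 LD2_c55 LD3_c51)) :=
  Lgr Lrot24 (Lpr_bt (f171899 IH) (Lpn (LP (LK LD1_c1 LD2_c55 LD3_c51))))
theorem f246728 : Led Lsl_et (LP (LK LD1_c2 LD2_c7 LD3_c22)) = (LP (LK LD1_c1 LD2_c55 LD3_c51)) :=
  Lgr Lrot74 (Lpr_bf (f246720 IH) (Lpe (f171986 IH) (Lpr_bf (f171901 IH) (Lpn (LP (LK LD1_c1 LD2_c55 LD3_c51))))))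
theorem f166516 : Led Lsl_dt (LP (LK LD1_c0 LD2_c26 LD3_c35)) = (LP (LK LD1_c0 LD2_c58 LD3_c40)) :=
  Lre_d IH (LK LD1_c0 LD2_c26 LD3_c35) (LK LD1_c0 LD2_c58 LD3_c40) Lrfl Lrfl
theorem f246733 : Led Lsl_dt (LP (LK LD1_c2 LD2_c7 LD3_c22)) = (LP (LK LD1_c2 LD2_c3 LD3_c23)) :=
  Lgr Lrot56 (Lpr_et (f246728 IH) (Lpr_gt (f41276 IH) (Lpe (K1.f41294 IH) (Lpr_dt (K1.f47838 IH) (Lpr_gt (K1.f47441 IH) (Lpe (K10.f41867 IH) (Lpr_et (K10.f44582 IH) (Lpe (K10.f189095 IH) (Lpr_dt (f166516 IH) (Lpr_gt (K12.f166569 IH) (Lpn (LP (LK LD1_c2 LD2_c3 LD3_c23)))))))))))))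
theorem f246731 : Led Lsl_ef (LP (LK LD1_c2 LD2_c7 LD3_c22)) = (LP (LK LD1_c1 LD2_c55 LD3_c51)) :=
  Lgr Lrot88 (Lpr_et (f246728 IH) (Lpn (LP (LK LD1_c1 LD2_c55 LD3_c51))))
theorem f41972 : Led Lsl_dt (LP (LK LD1_c3 LD2_c58 LD3_c7)) = (LP (LK LD1_c1 LD2_c55 LD3_c51)) :=
  Lre_d IH (LK LD1_c3 LD2_c58 LD3_c7) (LK LD1_c1 LD2_c55 LD3_c51) Lrfl Lrfl
theorem f171924 : Led Lsl_et (LP (LK LD1_c7 LD2_c57 LD3_c40)) = (LP (LK LD1_c3 LD2_c58 LD3_c7)) :=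
  Lre_e IH (LK LD1_c7 LD2_c57 LD3_c40) (LK LD1_c3 LD2_c58 LD3_c7) Lrfl Lrfl
theorem f246739 : Led Lsl_et (LP (LK LD1_c2 LD2_c3 LD3_c23)) = (LP (LK LD1_c4 LD2_c12 LD3_c20)) :=
  Lre_e IH (LK LD1_c2 LD2_c3 LD3_c23) (LK LD1_c4 LD2_c12 LD3_c20) Lrfl Lrfl
theorem f246740 : Led Lsl_df (LP (LK LD1_c7 LD2_c57 LD3_c40)) = (LP (LK LD1_c4 LD2_c12 LD3_c20)) :=
  Lgr Lrot70 (Lpr_et (f171924 IH) (Lpr_dt (f41972 IH) (Lpe (f246731 IH) (Lpr_dt (f246733 IH) (Lpr_et (f246739 IH) (Lpn (LP (LK LD1_c4 LD2_c12 LD3_c20))))))))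
theorem f246747 : Led Lsl_dt (LP (LK LD1_c7 LD2_c57 LD3_c40)) = (LP (LK LD1_c4 LD2_c12 LD3_c20)) :=
  Lgr Lrot42 (Lpr_df (f246740 IH) (Lpn (LP (LK LD1_c4 LD2_c12 LD3_c20))))
theorem f171906 : Led Lsl_dt (LP (LK LD1_c2 LD2_c25 LD3_c28)) = (LP (LK LD1_c1 LD2_c9 LD3_c58)) :=
  Lre_d IH (LK LD1_c2 LD2_c25 LD3_c28) (LK LD1_c1 LD2_c9 LD3_c58) Lrfl Lrfl
theorem f41973 : Led Lsl_dt (LP (LK LD1_c1 LD2_c55 LD3_c51)) = (LP (LK LD1_c3 LD2_c58 LD3_c7)) :=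
  Lre_d IH (LK LD1_c1 LD2_c55 LD3_c51) (LK LD1_c3 LD2_c58 LD3_c7) Lrfl Lrfl
theorem f171907 : Led Lsl_bf (LP (LK LD1_c2 LD2_c25 LD3_c28)) = (LP (LK LD1_c3 LD2_c58 LD3_c7)) :=
  Lgr Lrot93 (Lpr_dt (f171906 IH) (Lpr_bt (f171899 IH) (Lpr_dt (f41973 IH) (Lpn (LP (LK LD1_c3 LD2_c58 LD3_c7))))))
theorem f171923 : Led Lsl_et (LP (LK LD1_c2 LD2_c25 LD3_c28)) = (LP (LK LD1_c4 LD2_c55 LD3_c10)) :=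
  Lre_e IH (LK LD1_c2 LD2_c25 LD3_c28) (LK LD1_c4 LD2_c55 LD3_c10) Lrfl Lrfl
theorem f171925 : Led Lsl_bt (LP (LK LD1_c4 LD2_c55 LD3_c10)) = (LP (LK LD1_c7 LD2_c57 LD3_c40)) :=
  Lgr Lrot119 (Lpe (f171923 IH) (Lpr_bf (f171907 IH) (Lpe (f171924 IH) (Lpn (LP (LK LD1_c7 LD2_c57 LD3_c40))))))
theorem f167157 : Led Lsl_bt (LP (LK LD1_c4 LD2_c12 LD3_c20)) = (LP (LK LD1_c8 LD2_c24 LD3_c9)) :=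
  Lre_b IH (LK LD1_c4 LD2_c12 LD3_c20) (LK LD1_c8 LD2_c24 LD3_c9) Lrfl Lrfl
theorem f246754 : Led Lsl_df (LP (LK LD1_c4 LD2_c55 LD3_c10)) = (LP (LK LD1_c8 LD2_c24 LD3_c9)) :=
  Lgr Lrot12 (Lpr_bt (f171925 IH) (Lpr_dt (f246747 IH) (Lpr_bt (f167157 IH) (Lpn (LP (LK LD1_c8 LD2_c24 LD3_c9))))))
theorem f171972 : Led Lsl_et (LP (LK LD1_c4 LD2_c55 LD3_c10)) = (LP (LK LD1_c2 LD2_c25 LD3_c28)) :=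
  Lre_e IH (LK LD1_c4 LD2_c55 LD3_c10) (LK LD1_c2 LD2_c25 LD3_c28) Lrfl Lrfl
theorem f167200 : Led Lsl_et (LP (LK LD1_c4 LD2_c12 LD3_c18)) = (LP (LK LD1_c8 LD2_c24 LD3_c9)) :=
  Lre_e IH (LK LD1_c4 LD2_c12 LD3_c18) (LK LD1_c8 LD2_c24 LD3_c9) Lrfl Lrfl
theorem f246759 : Led Lsl_dt (LP (LK LD1_c2 LD2_c25 LD3_c29)) = (LP (LK LD1_c4 LD2_c12 LD3_c18)) :=
  Lgr Lrot77 (Lpe (f171986 IH) (Lpe (f171906 IH) (Lpe (f171972 IH) (Lpr_df (f246754 IH) (Lpe (f167200 IH) (Lpn (LP (LK LD1_c4 LD2_c12 LD3_c18))))))))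
theorem f171909 : Led Lsl_et (LP (LK LD1_c2 LD2_c25 LD3_c29)) = (LP (LK LD1_c1 LD2_c9 LD3_c58)) :=
  Lre_e IH (LK LD1_c2 LD2_c25 LD3_c29) (LK LD1_c1 LD2_c9 LD3_c58) Lrfl Lrfl
theorem f200550 : Led Lsl_dt (LP (LK LD1_c1 LD2_c1 LD3_c34)) = (LP (LK LD1_c2 LD2_c8 LD3_c46)) :=
  Lre_d IH (LK LD1_c1 LD2_c1 LD3_c34) (LK LD1_c2 LD2_c8 LD3_c46) Lrfl Lrfl
theorem f246765 : Led Lsl_gf (LP (LK LD1_c2 LD2_c8 LD3_c46)) = (LP (LK LD1_c4 LD2_c12 LD3_c18)) :=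
  Lgr Lrot145 (Lpe (f200550 IH) (Lpr_et (K12.f200527 IH) (Lpr_gt (f246577 IH) (Lpr_dt (f246297 IH) (Lpr_gt (K12.f224252 IH) (Lpe (K13.f214015 IH) (Lpr_et (K12.f223882 IH) (Lpe (K13.f223895 IH) (Lpe (f171909 IH) (Lpr_dt (f246759 IH) (Lpn (LP (LK LD1_c4 LD2_c12 LD3_c18)))))))))))))
theorem f246771 : Led Lsl_bt (LP (LK LD1_c1 LD2_c1 LD3_c35)) = (LP (LK LD1_c2 LD2_c8 LD3_c46)) :=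
  Lre_b IH (LK LD1_c1 LD2_c1 LD3_c35) (LK LD1_c2 LD2_c8 LD3_c46) Lrfl Lrfl
theorem f238727 : Led Lsl_ct (LP (LK LD1_c4 LD2_c21 LD3_c29)) = (LP (LK LD1_c2 LD2_c8 LD3_c15)) :=
  Lre_c IH (LK LD1_c4 LD2_c21 LD3_c29) (LK LD1_c2 LD2_c8 LD3_c15) Lrfl Lrfl
theorem f238754 : Led Lsl_gt (LP (LK LD1_c2 LD2_c8 LD3_c48)) = (LP (LK LD1_c4 LD2_c21 LD3_c29)) :=
  Lgr Lrot146 (Lpr_dt (K13.f238722 IH) (Lpr_gt (K13.f38968 IH) (Lpe (K1.f38931 IH) (Lpe (K13.f201470 IH) (Lpr_ct (K13.f216814 IH) (Lpr_dt (K13.f216813 IH) (Lpe (K13.f216695 IH) (Lpe (K13.f216819 IH) (Lpe (f238727 IH) (Lpn (LP (LK LD1_c4 LD2_c21 LD3_c29))))))))))))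
theorem f220048 : Led Lsl_ct (LP (LK LD1_c2 LD2_c1 LD3_c56)) = (LP (LK LD1_c0 LD2_c57 LD3_c57)) :=
  Lre_c IH (LK LD1_c2 LD2_c1 LD3_c56) (LK LD1_c0 LD2_c57 LD3_c57) Lrfl Lrfl
theorem f246697 : Led Lsl_gt (LP (LK LD1_c4 LD2_c8 LD3_c42)) = (LP (LK LD1_c2 LD2_c1 LD3_c56)) :=
  Lgr Lrot150 (Lpr_cf (f220068 IH) (Lpr_gf (f246691 IH) (Lpe (f173259 IH) (Lpe (K12.f222214 IH) (Lpr_ct (K12.f222218 IH) (Lpr_gt (K13.f222224 IH) (Lpr_ct (K12.f190819 IH) (Lpe (K12.f575 IH) (Lpe (f220048 IH) (Lpn (LP (LK LD1_c2 LD2_c1 LD3_c56))))))))))))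
theorem f51444 : Led Lsl_ct (LP (LK LD1_c0 LD2_c57 LD3_c57)) = (LP (LK LD1_c2 LD2_c1 LD3_c56)) :=
  Lre_c IH (LK LD1_c0 LD2_c57 LD3_c57) (LK LD1_c2 LD2_c1 LD3_c56) Lrfl Lrfl
theorem f234446 : Led Lsl_bt (LP (LK LD1_c0 LD2_c57 LD3_c57)) = (LP (LK LD1_c2 LD2_c1 LD3_c51)) :=
  Lre_b IH (LK LD1_c0 LD2_c57 LD3_c57) (LK LD1_c2 LD2_c1 LD3_c51) Lrfl Lrfl
theorem f167184 : Led Lsl_gt (LP (LK LD1_c2 LD2_c1 LD3_c51)) = (LP (LK LD1_c4 LD2_c8 LD3_c57)) :=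
  Lre_g IH (LK LD1_c2 LD2_c1 LD3_c51) (LK LD1_c4 LD2_c8 LD3_c57) Lrfl Lrfl
theorem f246699 : Led Lsl_bf (LP (LK LD1_c4 LD2_c8 LD3_c57)) = (LP (LK LD1_c2 LD2_c8 LD3_c15)) :=
  Lgr Lrot34 (Lpe (f167184 IH) (Lpe (f234446 IH) (Lpr_ct (f51444 IH) (Lpe (f246697 IH) (Lpr_cf (f220068 IH) (Lpr_gf (f246691 IH) (Lpe (f232300 IH) (Lpr_ct (K13.f193270 IH) (Lpe (K13.f238725 IH) (Lpe (K13.f238724 IH) (Lpn (LP (LK LD1_c2 LD2_c8 LD3_c15)))))))))))))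
theorem f167096 : Led Lsl_bt (LP (LK LD1_c2 LD2_c3 LD3_c23)) = (LP (LK LD1_c4 LD2_c12 LD3_c18)) :=
  Lre_b IH (LK LD1_c2 LD2_c3 LD3_c23) (LK LD1_c4 LD2_c12 LD3_c18) Lrfl Lrfl
theorem f167813 : Led Lsl_ct (LP (LK LD1_c0 LD2_c15 LD3_c49)) = (LP (LK LD1_c0 LD2_c35 LD3_c15)) :=
  Lre_c IH (LK LD1_c0 LD2_c15 LD3_c49) (LK LD1_c0 LD2_c35 LD3_c15) Lrfl Lrfl
theorem f53142 : Led Lsl_bt (LP (LK LD1_c2 LD2_c4 LD3_c0)) = (LP (LK LD1_c0 LD2_c59 LD3_c10)) :=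
  Lre_b IH (LK LD1_c2 LD2_c4 LD3_c0) (LK LD1_c0 LD2_c59 LD3_c10) Lrfl Lrfl
theorem f219633 : Led Lsl_gt (LP (LK LD1_c1 LD2_c1 LD3_c11)) = (LP (LK LD1_c2 LD2_c1 LD3_c48)) :=
  Lgr Lrot65 (Lpe (K10.f187186 IH) (Lpr_bt (K10.f187104 IH) (Lpe (K9.f45094 IH) (Lpe (f53142 IH) (Lpe (K9.f47484 IH) (Lpr_gf (K12.f196566 IH) (Lpe (f167813 IH) (Lpe (K9.f41437 IH) (Lpe (K12.f41416 IH) (Lpr_ct (K12.f219609 IH) (Lpn (LP (LK LD1_c2 LD2_c1 LD3_c48)))))))))))))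
theorem f219635 : Led Lsl_at (LP (LK LD1_c2 LD2_c1 LD3_c49)) = (LP (LK LD1_c0 LD2_c57 LD3_c55)) :=
  Lre_a IH (LK LD1_c2 LD2_c1 LD3_c49) (LK LD1_c0 LD2_c57 LD3_c55) Lrfl Lrfl
theorem f219636 : Led Lsl_ft (LP (LK LD1_c1 LD2_c1 LD3_c11)) = (LP (LK LD1_c2 LD2_c1 LD3_c49)) :=
  Lgr Lrot2 (Lpr_gt (f219633 IH) (Lpr_gt (K12.f190827 IH) (Lpe (f219635 IH) (Lpn (LP (LK LD1_c2 LD2_c1 LD3_c49))))))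
theorem f219643 : Led Lsl_ff (LP (LK LD1_c1 LD2_c1 LD3_c11)) = (LP (LK LD1_c2 LD2_c1 LD3_c49)) :=
  Lgr Lrot3 (Lpr_ft (f219636 IH) (Lpn (LP (LK LD1_c2 LD2_c1 LD3_c49))))
theorem f45746 : Led Lsl_dt (LP (LK LD1_c1 LD2_c1 LD3_c11)) = (LP (LK LD1_c2 LD2_c8 LD3_c5)) :=
  Lre_d IH (LK LD1_c1 LD2_c1 LD3_c11) (LK LD1_c2 LD2_c8 LD3_c5) Lrfl Lrfl
theorem f219646 : Led Lsl_dt (LP (LK LD1_c4 LD2_c8 LD3_c53)) = (LP (LK LD1_c2 LD2_c1 LD3_c49)) :=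
  Lre_d IH (LK LD1_c4 LD2_c8 LD3_c53) (LK LD1_c2 LD2_c1 LD3_c49) Lrfl Lrfl
theorem f219647 : Led Lsl_ft (LP (LK LD1_c2 LD2_c8 LD3_c5)) = (LP (LK LD1_c4 LD2_c8 LD3_c53)) :=
  Lgr Lrot54 (Lpe (f45746 IH) (Lpr_ff (f219643 IH) (Lpe (f219646 IH) (Lpn (LP (LK LD1_c4 LD2_c8 LD3_c53))))))
theorem f187173 : Led Lsl_ct (LP (LK LD1_c4 LD2_c21 LD3_c6)) = (LP (LK LD1_c2 LD2_c8 LD3_c5)) :=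
  Lre_c IH (LK LD1_c4 LD2_c21 LD3_c6) (LK LD1_c2 LD2_c8 LD3_c5) Lrfl Lrfl
theorem f219650 : Led Lsl_ct (LP (LK LD1_c4 LD2_c8 LD3_c53)) = (LP (LK LD1_c8 LD2_c17 LD3_c55)) :=
  Lre_c IH (LK LD1_c4 LD2_c8 LD3_c53) (LK LD1_c8 LD2_c17 LD3_c55) Lrfl Lrfl
theorem f219652 : Led Lsl_ff (LP (LK LD1_c4 LD2_c21 LD3_c6)) = (LP (LK LD1_c8 LD2_c17 LD3_c55)) :=
  Lgr Lrot23 (Lpr_ct (f187173 IH) (Lpr_ft (f219647 IH) (Lpr_ct (f219650 IH) (Lpn (LP (LK LD1_c8 LD2_c17 LD3_c55))))))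
theorem f219702 : Led Lsl_ft (LP (LK LD1_c4 LD2_c21 LD3_c6)) = (LP (LK LD1_c8 LD2_c17 LD3_c55)) :=
  Lgr Lrot48 (Lpr_ff (f219652 IH) (Lpn (LP (LK LD1_c8 LD2_c17 LD3_c55))))
theorem f219704 : Led Lsl_at (LP (LK LD1_c8 LD2_c17 LD3_c55)) = (LP (LK LD1_c4 LD2_c8 LD3_c59)) :=
  Lre_a IH (LK LD1_c8 LD2_c17 LD3_c55) (LK LD1_c4 LD2_c8 LD3_c59) Lrfl Lrfl
theorem f219711 : Led Lsl_gt (LP (LK LD1_c4 LD2_c21 LD3_c6)) = (LP (LK LD1_c4 LD2_c12 LD3_c19)) :=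
  Lgr Lrot5 (Lpr_ft (f219702 IH) (Lpr_at (f219704 IH) (Lpe (K12.f167092 IH) (Lpn (LP (LK LD1_c4 LD2_c12 LD3_c19))))))
theorem f187153 : Led Lsl_ct (LP (LK LD1_c2 LD2_c8 LD3_c5)) = (LP (LK LD1_c4 LD2_c21 LD3_c6)) :=
  Lre_c IH (LK LD1_c2 LD2_c8 LD3_c5) (LK LD1_c4 LD2_c21 LD3_c6) Lrfl Lrfl
theorem f246772 : Led Lsl_gt (LP (LK LD1_c4 LD2_c8 LD3_c57)) = (LP (LK LD1_c2 LD2_c8 LD3_c5)) :=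
  Lgr Lrot82 (Lpr_bf (f246699 IH) (Lpr_ct (K13.f238724 IH) (Lpe (f238754 IH) (Lpe (K13.f187087 IH) (Lpr_bt (f246771 IH) (Lpr_gf (f246765 IH) (Lpe (f167096 IH) (Lpr_ct (K12.f167091 IH) (Lpe (f219711 IH) (Lpe (f187153 IH) (Lpn (LP (LK LD1_c2 LD2_c8 LD3_c5)))))))))))))
theorem f199191 : Led Lsl_bf (LP (LK LD1_c1 LD2_c59 LD3_c23)) = (LP (LK LD1_c2 LD2_c23 LD3_c24)) :=
  Lgr Lrot93 (Lpr_dt (K10.f6931 IH) (Lpr_bt (K13.f192798 IH) (Lpr_dt (K13.f199188 IH) (Lpn (LP (LK LD1_c2 LD2_c23 LD3_c24))))))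
theorem f187127 : Led Lsl_et (LP (LK LD1_c4 LD2_c21 LD3_c9)) = (LP (LK LD1_c8 LD2_c39 LD3_c57)) :=
  Lre_e IH (LK LD1_c4 LD2_c21 LD3_c9) (LK LD1_c8 LD2_c39 LD3_c57) Lrfl Lrfl
theorem f46565 : Led Lsl_et (LP (LK LD1_c8 LD2_c5 LD3_c43)) = (LP (LK LD1_c4 LD2_c2 LD3_c34)) :=
  Lre_e IH (LK LD1_c8 LD2_c5 LD3_c43) (LK LD1_c4 LD2_c2 LD3_c34) Lrfl Lrfl
theorem f187128 : Led Lsl_bt (LP (LK LD1_c8 LD2_c39 LD3_c57)) = (LP (LK LD1_c8 LD2_c5 LD3_c43)) :=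
  Lgr Lrot119 (Lpe (f187127 IH) (Lpr_bf (K10.f187113 IH) (Lpe (f46565 IH) (Lpn (LP (LK LD1_c8 LD2_c5 LD3_c43))))))
theorem f187134 : Led Lsl_ft (LP (LK LD1_c16 LD2_c13 LD3_c43)) = (LP (LK LD1_c8 LD2_c39 LD3_c57)) :=
  Lre_f IH (LK LD1_c16 LD2_c13 LD3_c43) (LK LD1_c8 LD2_c39 LD3_c57) Lrfl Lrfl
theorem f186902 : Led Lsl_ft (LP (LK LD1_c8 LD2_c5 LD3_c43)) = (LP (LK LD1_c15 LD2_c14 LD3_c32)) :=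
  Lre_f IH (LK LD1_c8 LD2_c5 LD3_c43) (LK LD1_c15 LD2_c14 LD3_c32) Lrfl Lrfl
theorem f187135 : Led Lsl_bf (LP (LK LD1_c16 LD2_c13 LD3_c43)) = (LP (LK LD1_c15 LD2_c14 LD3_c32)) :=
  Lgr Lrot61 (Lpr_ft (f187134 IH) (Lpr_bt (f187128 IH) (Lpr_ft (f186902 IH) (Lpn (LP (LK LD1_c15 LD2_c14 LD3_c32))))))
theorem f187139 : Led Lsl_dt (LP (LK LD1_c16 LD2_c13 LD3_c43)) = (LP (LK LD1_c8 LD2_c39 LD3_c58)) :=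
  Lre_d IH (LK LD1_c16 LD2_c13 LD3_c43) (LK LD1_c8 LD2_c39 LD3_c58) Lrfl Lrfl
theorem f186891 : Led Lsl_et (LP (LK LD1_c2 LD2_c23 LD3_c22)) = (LP (LK LD1_c4 LD2_c51 LD3_c6)) :=
  Lre_e IH (LK LD1_c2 LD2_c23 LD3_c22) (LK LD1_c4 LD2_c51 LD3_c6) Lrfl Lrfl
theorem f186892 : Led Lsl_dt (LP (LK LD1_c4 LD2_c51 LD3_c6)) = (LP (LK LD1_c8 LD2_c5 LD3_c43)) :=
  Lgr Lrot77 (Lpe (f186891 IH) (Lpe (K13.f2111 IH) (Lpe (K10.f186890 IH) (Lpr_df (K10.f186857 IH) (Lpe (f46565 IH) (Lpn (LP (LK LD1_c8 LD2_c5 LD3_c43))))))))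
theorem f186901 : Led Lsl_ft (LP (LK LD1_c9 LD2_c34 LD3_c14)) = (LP (LK LD1_c4 LD2_c51 LD3_c6)) :=
  Lre_f IH (LK LD1_c9 LD2_c34 LD3_c14) (LK LD1_c4 LD2_c51 LD3_c6) Lrfl Lrfl
theorem f186903 : Led Lsl_df (LP (LK LD1_c9 LD2_c34 LD3_c14)) = (LP (LK LD1_c15 LD2_c14 LD3_c32)) :=
  Lgr Lrot78 (Lpr_ft (f186901 IH) (Lpr_dt (f186892 IH) (Lpr_ft (f186902 IH) (Lpn (LP (LK LD1_c15 LD2_c14 LD3_c32))))))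
theorem f186910 : Led Lsl_dt (LP (LK LD1_c9 LD2_c34 LD3_c14)) = (LP (LK LD1_c15 LD2_c14 LD3_c32)) :=
  Lgr Lrot42 (Lpr_df (f186903 IH) (Lpn (LP (LK LD1_c15 LD2_c14 LD3_c32))))
theorem f187140 : Led Lsl_bt (LP (LK LD1_c8 LD2_c39 LD3_c58)) = (LP (LK LD1_c9 LD2_c34 LD3_c14)) :=
  Lgr Lrot95 (Lpe (f187139 IH) (Lpr_bf (f187135 IH) (Lpe (f186910 IH) (Lpn (LP (LK LD1_c9 LD2_c34 LD3_c14))))))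
theorem f187142 : Led Lsl_bf (LP (LK LD1_c8 LD2_c39 LD3_c58)) = (LP (LK LD1_c9 LD2_c34 LD3_c14)) :=
  Lgr Lrot24 (Lpr_bt (f187140 IH) (Lpn (LP (LK LD1_c9 LD2_c34 LD3_c14))))
theorem f187146 : Led Lsl_ft (LP (LK LD1_c8 LD2_c39 LD3_c58)) = (LP (LK LD1_c4 LD2_c21 LD3_c7)) :=
  Lre_f IH (LK LD1_c8 LD2_c39 LD3_c58) (LK LD1_c4 LD2_c21 LD3_c7) Lrfl Lrfl
theorem f186905 : Led Lsl_ft (LP (LK LD1_c4 LD2_c51 LD3_c6)) = (LP (LK LD1_c9 LD2_c34 LD3_c14)) :=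
  Lre_f IH (LK LD1_c4 LD2_c51 LD3_c6) (LK LD1_c9 LD2_c34 LD3_c14) Lrfl Lrfl
theorem f187147 : Led Lsl_bt (LP (LK LD1_c4 LD2_c21 LD3_c7)) = (LP (LK LD1_c4 LD2_c51 LD3_c6)) :=
  Lgr Lrot35 (Lpe (f187146 IH) (Lpr_bf (f187142 IH) (Lpe (f186905 IH) (Lpn (LP (LK LD1_c4 LD2_c51 LD3_c6))))))
theorem f187150 : Led Lsl_et (LP (LK LD1_c2 LD2_c8 LD3_c5)) = (LP (LK LD1_c4 LD2_c21 LD3_c7)) :=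
  Lre_e IH (LK LD1_c2 LD2_c8 LD3_c5) (LK LD1_c4 LD2_c21 LD3_c7) Lrfl Lrfl
theorem f186907 : Led Lsl_et (LP (LK LD1_c4 LD2_c51 LD3_c6)) = (LP (LK LD1_c2 LD2_c23 LD3_c22)) :=
  Lre_e IH (LK LD1_c4 LD2_c51 LD3_c6) (LK LD1_c2 LD2_c23 LD3_c22) Lrfl Lrfl
theorem f187151 : Led Lsl_bf (LP (LK LD1_c2 LD2_c8 LD3_c5)) = (LP (LK LD1_c2 LD2_c23 LD3_c22)) :=
  Lgr Lrot96 (Lpr_et (f187150 IH) (Lpr_bt (f187147 IH) (Lpr_et (f186907 IH) (Lpn (LP (LK LD1_c2 LD2_c23 LD3_c22))))))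
theorem f186922 : Led Lsl_ct (LP (LK LD1_c2 LD2_c23 LD3_c22)) = (LP (LK LD1_c4 LD2_c51 LD3_c5)) :=
  Lre_c IH (LK LD1_c2 LD2_c23 LD3_c22) (LK LD1_c4 LD2_c51 LD3_c5) Lrfl Lrfl
theorem f246781 : Led Lsl_gf (LP (LK LD1_c4 LD2_c51 LD3_c8)) = (LP (LK LD1_c4 LD2_c51 LD3_c5)) :=
  Lgr Lrot126 (Lpe (K13.f2080 IH) (Lpe (f199191 IH) (Lpr_gt (K12.f224877 IH) (Lpr_ct (K13.f187087 IH) (Lpr_gt (f238754 IH) (Lpe (K13.f238724 IH) (Lpe (f246699 IH) (Lpr_gt (f246772 IH) (Lpr_bf (f187151 IH) (Lpr_ct (f186922 IH) (Lpn (LP (LK LD1_c4 LD2_c51 LD3_c5)))))))))))))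
theorem f2091 : Led Lsl_ct (LP (LK LD1_c4 LD2_c51 LD3_c8)) = (LP (LK LD1_c2 LD2_c23 LD3_c24)) :=
  Lre_c IH (LK LD1_c4 LD2_c51 LD3_c8) (LK LD1_c2 LD2_c23 LD3_c24) Lrfl Lrfl
theorem f246786 : Led Lsl_gt (LP (LK LD1_c2 LD2_c23 LD3_c24)) = (LP (LK LD1_c1 LD2_c8 LD3_c53)) :=
  Lgr Lrot150 (Lpe (f2091 IH) (Lpr_gf (f246781 IH) (Lpr_df (K13.f232517 IH) (Lpe (K13.f2038 IH) (Lpr_ct (K13.f1755 IH) (Lpr_gt (K13.f1799 IH) (Lpr_ct (K13.f233167 IH) (Lpe (K13.f233159 IH) (Lpe (K13.f29186 IH) (Lpn (LP (LK LD1_c1 LD2_c8 LD3_c53))))))))))))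
theorem f54154 : Led Lsl_bt (LP (LK LD1_c4 LD2_c20 LD3_c26)) = (LP (LK LD1_c2 LD2_c7 LD3_c41)) :=
  Lre_b IH (LK LD1_c4 LD2_c20 LD3_c26) (LK LD1_c2 LD2_c7 LD3_c41) Lrfl Lrfl
theorem f53673 : Led Lsl_bt (LP (LK LD1_c2 LD2_c28 LD3_c6)) = (LP (LK LD1_c5 LD2_c0 LD3_c43)) :=
  Lre_b IH (LK LD1_c2 LD2_c28 LD3_c6) (LK LD1_c5 LD2_c0 LD3_c43) Lrfl Lrfl
theorem f54155 : Led Lsl_et (LP (LK LD1_c2 LD2_c7 LD3_c41)) = (LP (LK LD1_c2 LD2_c28 LD3_c6)) :=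
  Lgr Lrot74 (Lpe (f54154 IH) (Lpr_ef (K12.f54143 IH) (Lpe (f53673 IH) (Lpn (LP (LK LD1_c2 LD2_c28 LD3_c6))))))
theorem f32001 : Led Lsl_ft (LP (LK LD1_c4 LD2_c20 LD3_c28)) = (LP (LK LD1_c2 LD2_c7 LD3_c41)) :=
  Lre_f IH (LK LD1_c4 LD2_c20 LD3_c28) (LK LD1_c2 LD2_c7 LD3_c41) Lrfl Lrfl
theorem f31835 : Led Lsl_et (LP (LK LD1_c8 LD2_c38 LD3_c47)) = (LP (LK LD1_c4 LD2_c20 LD3_c28)) :=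
  Lre_e IH (LK LD1_c8 LD2_c38 LD3_c47) (LK LD1_c4 LD2_c20 LD3_c28) Lrfl Lrfl
theorem f212674 : Led Lsl_et (LP (LK LD1_c4 LD2_c31 LD3_c16)) = (LP (LK LD1_c9 LD2_c0 LD3_c31)) :=
  Lre_e IH (LK LD1_c4 LD2_c31 LD3_c16) (LK LD1_c9 LD2_c0 LD3_c31) Lrfl Lrfl
theorem f212675 : Led Lsl_ff (LP (LK LD1_c8 LD2_c38 LD3_c47)) = (LP (LK LD1_c9 LD2_c0 LD3_c31)) :=
  Lgr Lrot72 (Lpr_et (f31835 IH) (Lpr_ft (f32001 IH) (Lpr_et (f54155 IH) (Lpr_ft (K12.f212657 IH) (Lpr_et (f212674 IH) (Lpn (LP (LK LD1_c9 LD2_c0 LD3_c31))))))))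
theorem f31087 : Led Lsl_ct (LP (LK LD1_c8 LD2_c38 LD3_c47)) = (LP (LK LD1_c4 LD2_c20 LD3_c29)) :=
  Lre_c IH (LK LD1_c8 LD2_c38 LD3_c47) (LK LD1_c4 LD2_c20 LD3_c29) Lrfl Lrfl
theorem f212680 : Led Lsl_ct (LP (LK LD1_c4 LD2_c31 LD3_c17)) = (LP (LK LD1_c9 LD2_c0 LD3_c31)) :=
  Lre_c IH (LK LD1_c4 LD2_c31 LD3_c17) (LK LD1_c9 LD2_c0 LD3_c31) Lrfl Lrfl
theorem f212681 : Led Lsl_ft (LP (LK LD1_c4 LD2_c20 LD3_c29)) = (LP (LK LD1_c4 LD2_c31 LD3_c17)) :=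
  Lgr Lrot4 (Lpe (f31087 IH) (Lpr_ff (f212675 IH) (Lpe (f212680 IH) (Lpn (LP (LK LD1_c4 LD2_c31 LD3_c17))))))
theorem f212697 : Led Lsl_ff (LP (LK LD1_c4 LD2_c20 LD3_c29)) = (LP (LK LD1_c4 LD2_c31 LD3_c17)) :=
  Lgr Lrot3 (Lpr_ft (f212681 IH) (Lpn (LP (LK LD1_c4 LD2_c31 LD3_c17))))
theorem f212699 : Led Lsl_dt (LP (LK LD1_c4 LD2_c31 LD3_c17)) = (LP (LK LD1_c4 LD2_c31 LD3_c17)) :=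
  Lgr Lrot60 (Lpe (f212681 IH) (Lpe (K10.f31078 IH) (Lpr_ff (f212697 IH) (Lpn (LP (LK LD1_c4 LD2_c31 LD3_c17))))))
theorem f212701 : Led Lsl_et (LP (LK LD1_c2 LD2_c12 LD3_c37)) = (LP (LK LD1_c4 LD2_c31 LD3_c17)) :=
  Lre_e IH (LK LD1_c2 LD2_c12 LD3_c37) (LK LD1_c4 LD2_c31 LD3_c17) Lrfl Lrfl
theorem f212696 : Led Lsl_et (LP (LK LD1_c4 LD2_c31 LD3_c17)) = (LP (LK LD1_c2 LD2_c12 LD3_c37)) :=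
  Lre_e IH (LK LD1_c4 LD2_c31 LD3_c17) (LK LD1_c2 LD2_c12 LD3_c37) Lrfl Lrfl
theorem f212702 : Led Lsl_ef (LP (LK LD1_c1 LD2_c3 LD3_c20)) = (LP (LK LD1_c1 LD2_c3 LD3_c20)) :=
  Lgr Lrot73 (Lpr_dt (K12.f177916 IH) (Lpr_et (f212701 IH) (Lpr_dt (f212699 IH) (Lpr_et (f212696 IH) (Lpr_dt (K13.f177917 IH) (Lpn (LP (LK LD1_c1 LD2_c3 LD3_c20))))))))
theorem f212751 : Led Lsl_at (LP (LK LD1_c0 LD2_c36 LD3_c2)) = (LP (LK LD1_c1 LD2_c3 LD3_c20)) :=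
  Lgr Lrot100 (Lpr_af (K12.f212749 IH) (Lpn (LP (LK LD1_c1 LD2_c3 LD3_c20))))
theorem f212756 : Led Lsl_et (LP (LK LD1_c0 LD2_c36 LD3_c2)) = (LP (LK LD1_c0 LD2_c36 LD3_c2)) :=
  Lgr Lrot123 (Lpr_af (K12.f212749 IH) (Lpr_ef (f212702 IH) (Lpe (f212751 IH) (Lpn (LP (LK LD1_c0 LD2_c36 LD3_c2))))))
theorem f171268 : Led Lsl_dt (LP (LK LD1_c0 LD2_c54 LD3_c45)) = (LP (LK LD1_c0 LD2_c36 LD3_c44)) :=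
  Lgr Lrot42 (Lpr_df (K9.f171261 IH) (Lpn (LP (LK LD1_c0 LD2_c36 LD3_c44))))
theorem f168855 : Led Lsl_bt (LP (LK LD1_c0 LD2_c36 LD3_c44)) = (LP (LK LD1_c1 LD2_c19 LD3_c36)) :=
  Lre_b IH (LK LD1_c0 LD2_c36 LD3_c44) (LK LD1_c1 LD2_c19 LD3_c36) Lrfl Lrfl
theorem f171297 : Led Lsl_df (LP (LK LD1_c1 LD2_c56 LD3_c3)) = (LP (LK LD1_c1 LD2_c19 LD3_c36)) :=
  Lgr Lrot12 (Lpr_bt (K13.f171296 IH) (Lpr_dt (f171268 IH) (Lpr_bt (f168855 IH) (Lpn (LP (LK LD1_c1 LD2_c19 LD3_c36))))))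
theorem f238080 : Led Lsl_et (LP (LK LD1_c0 LD2_c31 LD3_c28)) = (LP (LK LD1_c1 LD2_c8 LD3_c54)) :=
  Lre_e IH (LK LD1_c0 LD2_c31 LD3_c28) (LK LD1_c1 LD2_c8 LD3_c54) Lrfl Lrfl
theorem f246817 : Led Lsl_gf (LP (LK LD1_c1 LD2_c19 LD3_c36)) = (LP (LK LD1_c1 LD2_c8 LD3_c54)) :=
  Lgr Lrot138 (Lpe (f171297 IH) (Lpe (K13.f213025 IH) (Lpe (K12.f189280 IH) (Lpr_et (f212756 IH) (Lpr_gt (K12.f212770 IH) (Lpe (K13.f192827 IH) (Lpr_dt (K13.f199188 IH) (Lpr_gt (f246786 IH) (Lpe (K13.f1598 IH) (Lpr_et (f238080 IH) (Lpn (LP (LK LD1_c1 LD2_c8 LD3_c54)))))))))))))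
theorem f171229 : Led Lsl_bt (LP (LK LD1_c1 LD2_c0 LD3_c23)) = (LP (LK LD1_c2 LD2_c6 LD3_c53)) :=
  Lre_b IH (LK LD1_c1 LD2_c0 LD3_c23) (LK LD1_c2 LD2_c6 LD3_c53) Lrfl Lrfl
theorem f171258 : Led Lsl_bt (LP (LK LD1_c1 LD2_c19 LD3_c36)) = (LP (LK LD1_c0 LD2_c36 LD3_c44)) :=
  Lre_b IH (LK LD1_c1 LD2_c19 LD3_c36) (LK LD1_c0 LD2_c36 LD3_c44) Lrfl Lrfl
theorem f171259 : Led Lsl_et (LP (LK LD1_c2 LD2_c6 LD3_c53)) = (LP (LK LD1_c1 LD2_c19 LD3_c36)) :=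
  Lgr Lrot74 (Lpe (f171229 IH) (Lpr_ef (K9.f171256 IH) (Lpe (f171258 IH) (Lpn (LP (LK LD1_c1 LD2_c19 LD3_c36))))))
theorem f33326 : Led Lsl_et (LP (LK LD1_c0 LD2_c33 LD3_c4)) = (LP (LK LD1_c1 LD2_c11 LD3_c23)) :=
  Lre_e IH (LK LD1_c0 LD2_c33 LD3_c4) (LK LD1_c1 LD2_c11 LD3_c23) Lrfl Lrfl
theorem f3733 : Led Lsl_dt (LP (LK LD1_c0 LD2_c33 LD3_c4)) = (LP (LK LD1_c1 LD2_c11 LD3_c22)) :=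
  Lre_d IH (LK LD1_c0 LD2_c33 LD3_c4) (LK LD1_c1 LD2_c11 LD3_c22) Lrfl Lrfl
theorem f3688 : Led Lsl_gt (LP (LK LD1_c2 LD2_c28 LD3_c18)) = (LP (LK LD1_c1 LD2_c11 LD3_c22)) :=
  Lre_g IH (LK LD1_c2 LD2_c28 LD3_c18) (LK LD1_c1 LD2_c11 LD3_c22) Lrfl Lrfl
theorem f246821 : Led Lsl_dt (LP (LK LD1_c2 LD2_c6 LD3_c53)) = (LP (LK LD1_c2 LD2_c28 LD3_c18)) :=
  Lgr Lrot136 (Lpr_et (f171259 IH) (Lpr_gf (f246817 IH) (Lpe (f238080 IH) (Lpr_dt (K13.f1598 IH) (Lpe (f246786 IH) (Lpe (K13.f199188 IH) (Lpr_gf (K13.f233939 IH) (Lpe (f33326 IH) (Lpr_dt (f3733 IH) (Lpe (f3688 IH) (Lpn (LP (LK LD1_c2 LD2_c28 LD3_c18)))))))))))))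
theorem f171228 : Led Lsl_bt (LP (LK LD1_c2 LD2_c6 LD3_c53)) = (LP (LK LD1_c1 LD2_c0 LD3_c23)) :=
  Lre_b IH (LK LD1_c2 LD2_c6 LD3_c53) (LK LD1_c1 LD2_c0 LD3_c23) Lrfl Lrfl
theorem f171254 : Led Lsl_ef (LP (LK LD1_c2 LD2_c6 LD3_c53)) = (LP (LK LD1_c1 LD2_c19 LD3_c36)) :=
  Lgr Lrot29 (Lpr_bt (f171228 IH) (Lpr_et (K9.f171231 IH) (Lpr_bt (f168855 IH) (Lpn (LP (LK LD1_c1 LD2_c19 LD3_c36))))))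
theorem f171264 : Led Lsl_dt (LP (LK LD1_c1 LD2_c56 LD3_c3)) = (LP (LK LD1_c1 LD2_c19 LD3_c36)) :=
  Lgr Lrot79 (Lpe (K13.f171263 IH) (Lpr_df (K9.f171261 IH) (Lpe (f171258 IH) (Lpn (LP (LK LD1_c1 LD2_c19 LD3_c36))))))
theorem f171309 : Led Lsl_et (LP (LK LD1_c3 LD2_c58 LD3_c37)) = (LP (LK LD1_c1 LD2_c56 LD3_c3)) :=
  Lre_e IH (LK LD1_c3 LD2_c58 LD3_c37) (LK LD1_c1 LD2_c56 LD3_c3) Lrfl Lrfl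
theorem f246828 : Led Lsl_et (LP (LK LD1_c2 LD2_c28 LD3_c18)) = (LP (LK LD1_c5 LD2_c1 LD3_c6)) :=
  Lre_e IH (LK LD1_c2 LD2_c28 LD3_c18) (LK LD1_c5 LD2_c1 LD3_c6) Lrfl Lrfl
theorem f246829 : Led Lsl_df (LP (LK LD1_c3 LD2_c58 LD3_c37)) = (LP (LK LD1_c5 LD2_c1 LD3_c6)) :=
  Lgr Lrot70 (Lpr_et (f171309 IH) (Lpr_dt (f171264 IH) (Lpe (f171254 IH) (Lpr_dt (f246821 IH) (Lpr_et (f246828 IH) (Lpn (LP (LK LD1_c5 LD2_c1 LD3_c6))))))))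
theorem f246856 : Led Lsl_dt (LP (LK LD1_c3 LD2_c58 LD3_c37)) = (LP (LK LD1_c5 LD2_c1 LD3_c6)) :=
  Lgr Lrot42 (Lpr_df (f246829 IH) (Lpn (LP (LK LD1_c5 LD2_c1 LD3_c6))))
theorem f212903 : Led Lsl_et (LP (LK LD1_c2 LD2_c43 LD3_c34)) = (LP (LK LD1_c1 LD2_c18 LD3_c11)) :=
  Lre_e IH (LK LD1_c2 LD2_c43 LD3_c34) (LK LD1_c1 LD2_c18 LD3_c11) Lrfl Lrfl
theorem f28490 : Led Lsl_df (LP (LK LD1_c4 LD2_c20 LD3_c1)) = (LP (LK LD1_c4 LD2_c20 LD3_c1)) :=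
  Lgr Lrot70 (Lpr_et (K10.f28487 IH) (Lpr_dt (K10.f28486 IH) (Lpr_et (K1.f28482 IH) (Lpr_dt (K0.f28488 IH) (Lpr_et (K10.f28489 IH) (Lpn (LP (LK LD1_c4 LD2_c20 LD3_c1))))))))
theorem f212901 : Led Lsl_df (LP (LK LD1_c2 LD2_c43 LD3_c34)) = (LP (LK LD1_c2 LD2_c43 LD3_c34)) :=
  Lgr Lrot78 (Lpe (K12.f212874 IH) (Lpe (f28490 IH) (Lpr_ft (K12.f212881 IH) (Lpn (LP (LK LD1_c2 LD2_c43 LD3_c34))))))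
theorem f212883 : Led Lsl_gt (LP (LK LD1_c2 LD2_c43 LD3_c34)) = (LP (LK LD1_c5 LD2_c35 LD3_c17)) :=
  Lre_g IH (LK LD1_c2 LD2_c43 LD3_c34) (LK LD1_c5 LD2_c35 LD3_c17) Lrfl Lrfl
theorem f212887 : Led Lsl_dt (LP (LK LD1_c11 LD2_c2 LD3_c43)) = (LP (LK LD1_c5 LD2_c35 LD3_c17)) :=
  Lre_d IH (LK LD1_c11 LD2_c2 LD3_c43) (LK LD1_c5 LD2_c35 LD3_c17) Lrfl Lrfl
theorem f195690 : Led Lsl_gt (LP (LK LD1_c8 LD2_c4 LD3_c7)) = (LP (LK LD1_c15 LD2_c11 LD3_c22)) :=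
  Lre_g IH (LK LD1_c8 LD2_c4 LD3_c7) (LK LD1_c15 LD2_c11 LD3_c22) Lrfl Lrfl
theorem f212884 : Led Lsl_gf (LP (LK LD1_c4 LD2_c20 LD3_c29)) = (LP (LK LD1_c5 LD2_c35 LD3_c17)) :=
  Lgr Lrot76 (Lpr_af (K10.f32038 IH) (Lpr_ff (K12.f212874 IH) (Lpr_gt (f212883 IH) (Lpn (LP (LK LD1_c5 LD2_c35 LD3_c17))))))
theorem f225647 : Led Lsl_ef (LP (LK LD1_c15 LD2_c11 LD3_c22)) = (LP (LK LD1_c11 LD2_c2 LD3_c43)) :=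
  Lgr Lrot17 (Lpe (f195690 IH) (Lpe (K13.f195611 IH) (Lpr_dt (K12.f190242 IH) (Lpr_gf (K12.f225638 IH) (Lpe (K10.f28997 IH) (Lpr_gf (K10.f189867 IH) (Lpe (K10.f31077 IH) (Lpr_dt (K10.f31078 IH) (Lpr_gf (f212884 IH) (Lpe (f212887 IH) (Lpn (LP (LK LD1_c11 LD2_c2 LD3_c43)))))))))))))
theorem f235386 : Led Lsl_dt (LP (LK LD1_c2 LD2_c31 LD3_c36)) = (LP (LK LD1_c5 LD2_c8 LD3_c53)) :=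
  Lre_d IH (LK LD1_c2 LD2_c31 LD3_c36) (LK LD1_c5 LD2_c8 LD3_c53) Lrfl Lrfl
theorem f190246 : Led Lsl_dt (LP (LK LD1_c8 LD2_c4 LD3_c7)) = (LP (LK LD1_c4 LD2_c1 LD3_c44)) :=
  Lre_d IH (LK LD1_c8 LD2_c4 LD3_c7) (LK LD1_c4 LD2_c1 LD3_c44) Lrfl Lrfl
theorem f239815 : Led Lsl_at (LP (LK LD1_c5 LD2_c8 LD3_c53)) = (LP (LK LD1_c8 LD2_c4 LD3_c7)) :=
  Lgr Lrot51 (Lpe (f235386 IH) (Lpr_af (K13.f239808 IH) (Lpe (f190246 IH) (Lpn (LP (LK LD1_c8 LD2_c4 LD3_c7))))))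
theorem f239465 : Led Lsl_ft (LP (LK LD1_c10 LD2_c8 LD3_c12)) = (LP (LK LD1_c5 LD2_c8 LD3_c53)) :=
  Lre_f IH (LK LD1_c10 LD2_c8 LD3_c12) (LK LD1_c5 LD2_c8 LD3_c53) Lrfl Lrfl
theorem f239833 : Led Lsl_at (LP (LK LD1_c9 LD2_c0 LD3_c58)) = (LP (LK LD1_c10 LD2_c8 LD3_c12)) :=
  Lgr Lrot66 (Lpr_ff (K13.f239831 IH) (Lpe (f239815 IH) (Lpe (f239465 IH) (Lpn (LP (LK LD1_c10 LD2_c8 LD3_c12))))))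
theorem f239838 : Led Lsl_gf (LP (LK LD1_c10 LD2_c8 LD3_c12)) = (LP (LK LD1_c15 LD2_c11 LD3_c22)) :=
  Lgr Lrot76 (Lpe (f239833 IH) (Lpr_ff (K13.f239831 IH) (Lpr_gt (f195690 IH) (Lpn (LP (LK LD1_c15 LD2_c11 LD3_c22))))))
theorem f239842 : Led Lsl_dt (LP (LK LD1_c10 LD2_c8 LD3_c12)) = (LP (LK LD1_c5 LD2_c8 LD3_c54)) :=
  Lre_d IH (LK LD1_c10 LD2_c8 LD3_c12) (LK LD1_c5 LD2_c8 LD3_c54) Lrfl Lrfl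
theorem f246889 : Led Lsl_gt (LP (LK LD1_c5 LD2_c8 LD3_c54)) = (LP (LK LD1_c5 LD2_c1 LD3_c6)) :=
  Lgr Lrot139 (Lpe (f239842 IH) (Lpr_gf (f239838 IH) (Lpr_ef (f225647 IH) (Lpr_dt (f212887 IH) (Lpe (f212883 IH) (Lpr_df (f212901 IH) (Lpr_et (f212903 IH) (Lpr_gf (K13.f213025 IH) (Lpe (f171309 IH) (Lpr_dt (f246856 IH) (Lpn (LP (LK LD1_c5 LD2_c1 LD3_c6)))))))))))))
theorem f199190 : Led Lsl_et (LP (LK LD1_c1 LD2_c59 LD3_c18)) = (LP (LK LD1_c4 LD2_c4 LD3_c37)) :=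
  Lre_e IH (LK LD1_c1 LD2_c59 LD3_c18) (LK LD1_c4 LD2_c4 LD3_c37) Lrfl Lrfl
theorem f199220 : Led Lsl_gt (LP (LK LD1_c4 LD2_c4 LD3_c37)) = (LP (LK LD1_c8 LD2_c10 LD3_c3)) :=
  Lre_g IH (LK LD1_c4 LD2_c4 LD3_c37) (LK LD1_c8 LD2_c10 LD3_c3) Lrfl Lrfl
theorem f247024 : Led Lsl_et (LP (LK LD1_c10 LD2_c8 LD3_c12)) = (LP (LK LD1_c8 LD2_c10 LD3_c3)) :=
  Lgr Lrot122 (Lpr_dt (f239842 IH) (Lpr_gt (f246889 IH) (Lpe (f246856 IH) (Lpr_et (f171309 IH) (Lpe (K13.f213025 IH) (Lpr_dt (K13.f212765 IH) (Lpr_gt (K12.f212770 IH) (Lpe (K12.f192823 IH) (Lpr_et (f199190 IH) (Lpr_gt (f199220 IH) (Lpn (LP (LK LD1_c8 LD2_c10 LD3_c3)))))))))))))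
theorem f239830 : Led Lsl_et (LP (LK LD1_c4 LD2_c31 LD3_c28)) = (LP (LK LD1_c9 LD2_c0 LD3_c58)) :=
  Lre_e IH (LK LD1_c4 LD2_c31 LD3_c28) (LK LD1_c9 LD2_c0 LD3_c58) Lrfl Lrfl
theorem f247026 : Led Lsl_af (LP (LK LD1_c4 LD2_c31 LD3_c28)) = (LP (LK LD1_c8 LD2_c10 LD3_c3)) :=
  Lgr Lrot50 (Lpr_et (f239830 IH) (Lpr_at (f239833 IH) (Lpr_et (f247024 IH) (Lpn (LP (LK LD1_c8 LD2_c10 LD3_c3))))))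
theorem f212545 : Led Lsl_gt (LP (LK LD1_c4 LD2_c31 LD3_c29)) = (LP (LK LD1_c2 LD2_c12 LD3_c41)) :=
  Lre_g IH (LK LD1_c4 LD2_c31 LD3_c29) (LK LD1_c2 LD2_c12 LD3_c41) Lrfl Lrfl
theorem f247052 : Led Lsl_ft (LP (LK LD1_c4 LD2_c31 LD3_c29)) = (LP (LK LD1_c8 LD2_c10 LD3_c3)) :=
  Lgr Lrot2 (Lpr_gt (f212545 IH) (Lpr_gt (K13.f212570 IH) (Lpr_af (f247026 IH) (Lpn (LP (LK LD1_c8 LD2_c10 LD3_c3))))))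
theorem f247062 : Led Lsl_ff (LP (LK LD1_c4 LD2_c31 LD3_c29)) = (LP (LK LD1_c8 LD2_c10 LD3_c3)) :=
  Lgr Lrot3 (Lpr_ft (f247052 IH) (Lpn (LP (LK LD1_c8 LD2_c10 LD3_c3))))
theorem f216376 : Led Lsl_et (LP (LK LD1_c2 LD2_c31 LD3_c37)) = (LP (LK LD1_c5 LD2_c8 LD3_c53)) :=
  Lre_e IH (LK LD1_c2 LD2_c31 LD3_c37) (LK LD1_c5 LD2_c8 LD3_c53) Lrfl Lrfl
theorem f247071 : Led Lsl_et (LP (LK LD1_c4 LD2_c31 LD3_c29)) = (LP (LK LD1_c4 LD2_c4 LD3_c32)) :=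
  Lgr Lrot69 (Lpr_ff (f247062 IH) (Lpe (f247024 IH) (Lpe (K13.f239472 IH) (Lpe (f216376 IH) (Lpr_ff (K13.f239466 IH) (Lpn (LP (LK LD1_c4 LD2_c4 LD3_c32))))))))
theorem f211488 : Led Lsl_et (LP (LK LD1_c1 LD2_c56 LD3_c54)) = (LP (LK LD1_c4 LD2_c0 LD3_c15)) :=
  Lre_e IH (LK LD1_c1 LD2_c56 LD3_c54) (LK LD1_c4 LD2_c0 LD3_c15) Lrfl Lrfl
theorem f247075 : Led Lsl_df (LP (LK LD1_c4 LD2_c31 LD3_c29)) = (LP (LK LD1_c4 LD2_c0 LD3_c15)) :=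
  Lgr Lrot70 (Lpr_et (f247071 IH) (Lpr_dt (K13.f223719 IH) (Lpr_et (K13.f223713 IH) (Lpr_dt (K12.f211486 IH) (Lpr_et (f211488 IH) (Lpn (LP (LK LD1_c4 LD2_c0 LD3_c15))))))))
theorem f247083 : Led Lsl_dt (LP (LK LD1_c4 LD2_c31 LD3_c29)) = (LP (LK LD1_c4 LD2_c0 LD3_c15)) :=
  Lgr Lrot42 (Lpr_df (f247075 IH) (Lpn (LP (LK LD1_c4 LD2_c0 LD3_c15))))
theorem f190234 : Led Lsl_dt (LP (LK LD1_c2 LD2_c0 LD3_c41)) = (LP (LK LD1_c0 LD2_c57 LD3_c18)) :=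
  Lre_d IH (LK LD1_c2 LD2_c0 LD3_c41) (LK LD1_c0 LD2_c57 LD3_c18) Lrfl Lrfl
theorem f28498 : Led Lsl_gt (LP (LK LD1_c4 LD2_c20 LD3_c1)) = (LP (LK LD1_c8 LD2_c38 LD3_c1)) :=
  Lre_g IH (LK LD1_c4 LD2_c20 LD3_c1) (LK LD1_c8 LD2_c38 LD3_c1) Lrfl Lrfl
theorem f211489 : Led Lsl_gt (LP (LK LD1_c8 LD2_c1 LD3_c29)) = (LP (LK LD1_c4 LD2_c0 LD3_c15)) :=
  Lre_g IH (LK LD1_c8 LD2_c1 LD3_c29) (LK LD1_c4 LD2_c0 LD3_c15) Lrfl Lrfl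
theorem f247090 : Led Lsl_dt (LP (LK LD1_c15 LD2_c6 LD3_c43)) = (LP (LK LD1_c8 LD2_c1 LD3_c29)) :=
  Lre_d IH (LK LD1_c15 LD2_c6 LD3_c43) (LK LD1_c8 LD2_c1 LD3_c29) Lrfl Lrfl
theorem f247161 : Led Lsl_ef (LP (LK LD1_c8 LD2_c38 LD3_c1)) = (LP (LK LD1_c15 LD2_c6 LD3_c43)) :=
  Lgr Lrot17 (Lpe (f28498 IH) (Lpe (K10.f28489 IH) (Lpr_dt (K10.f28486 IH) (Lpe (K10.f190226 IH) (Lpe (f190234 IH) (Lpe (K13.f223723 IH) (Lpe (f247071 IH) (Lpr_dt (f247083 IH) (Lpe (f211489 IH) (Lpe (f247090 IH) (Lpn (LP (LK LD1_c15 LD2_c6 LD3_c43)))))))))))))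
theorem f247167 : Led Lsl_et (LP (LK LD1_c8 LD2_c38 LD3_c1)) = (LP (LK LD1_c15 LD2_c6 LD3_c43)) :=
  Lgr Lrot87 (Lpr_ef (f247161 IH) (Lpn (LP (LK LD1_c15 LD2_c6 LD3_c43))))
theorem f212549 : Led Lsl_et (LP (LK LD1_c2 LD2_c3 LD3_c30)) = (LP (LK LD1_c4 LD2_c12 LD3_c36)) :=
  Lre_e IH (LK LD1_c2 LD2_c3 LD3_c30) (LK LD1_c4 LD2_c12 LD3_c36) Lrfl Lrfl
theorem f177909 : Led Lsl_et (LP (LK LD1_c0 LD2_c28 LD3_c55)) = (LP (LK LD1_c1 LD2_c3 LD3_c22)) :=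
  Lre_e IH (LK LD1_c0 LD2_c28 LD3_c55) (LK LD1_c1 LD2_c3 LD3_c22) Lrfl Lrfl
theorem f212550 : Led Lsl_et (LP (LK LD1_c2 LD2_c12 LD3_c41)) = (LP (LK LD1_c1 LD2_c3 LD3_c21)) :=
  Lre_e IH (LK LD1_c2 LD2_c12 LD3_c41) (LK LD1_c1 LD2_c3 LD3_c21) Lrfl Lrfl
theorem f212551 : Led Lsl_dt (LP (LK LD1_c4 LD2_c12 LD3_c36)) = (LP (LK LD1_c2 LD2_c12 LD3_c41)) :=
  Lgr Lrot77 (Lpe (f212549 IH) (Lpr_df (K13.f212546 IH) (Lpe (f177909 IH) (Lpe (K12.f177911 IH) (Lpe (f212550 IH) (Lpn (LP (LK LD1_c2 LD2_c12 LD3_c41))))))))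
theorem f199677 : Led Lsl_et (LP (LK LD1_c4 LD2_c12 LD3_c36)) = (LP (LK LD1_c2 LD2_c3 LD3_c30)) :=
  Lre_e IH (LK LD1_c4 LD2_c12 LD3_c36) (LK LD1_c2 LD2_c3 LD3_c30) Lrfl Lrfl
theorem f189412 : Led Lsl_gt (LP (LK LD1_c2 LD2_c43 LD3_c41)) = (LP (LK LD1_c5 LD2_c35 LD3_c28)) :=
  Lre_g IH (LK LD1_c2 LD2_c43 LD3_c41) (LK LD1_c5 LD2_c35 LD3_c28) Lrfl Lrfl
theorem f189427 : Led Lsl_dt (LP (LK LD1_c11 LD2_c3 LD3_c8)) = (LP (LK LD1_c5 LD2_c35 LD3_c28)) :=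
  Lre_d IH (LK LD1_c11 LD2_c3 LD3_c8) (LK LD1_c5 LD2_c35 LD3_c28) Lrfl Lrfl
theorem f247096 : Led Lsl_et (LP (LK LD1_c11 LD2_c3 LD3_c8)) = (LP (LK LD1_c8 LD2_c1 LD3_c29)) :=
  Lgr Lrot121 (Lpr_dt (f189427 IH) (Lpe (f189412 IH) (Lpr_df (K13.f189404 IH) (Lpr_et (K13.f167378 IH) (Lpr_gf (K13.f233322 IH) (Lpe (f199677 IH) (Lpr_dt (f212551 IH) (Lpe (f212545 IH) (Lpr_df (f247075 IH) (Lpe (f211489 IH) (Lpn (LP (LK LD1_c8 LD2_c1 LD3_c29)))))))))))))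
theorem f247102 : Led Lsl_ef (LP (LK LD1_c11 LD2_c3 LD3_c8)) = (LP (LK LD1_c8 LD2_c1 LD3_c29)) :=
  Lgr Lrot88 (Lpr_et (f247096 IH) (Lpn (LP (LK LD1_c8 LD2_c1 LD3_c29))))
theorem f247106 : Led Lsl_et (LP (LK LD1_c5 LD2_c35 LD3_c28)) = (LP (LK LD1_c11 LD2_c3 LD3_c9)) :=
  Lre_e IH (LK LD1_c5 LD2_c35 LD3_c28) (LK LD1_c11 LD2_c3 LD3_c9) Lrfl Lrfl
theorem f247173 : Led Lsl_df (LP (LK LD1_c8 LD2_c38 LD3_c1)) = (LP (LK LD1_c11 LD2_c3 LD3_c9)) :=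
  Lgr Lrot70 (Lpr_et (f247167 IH) (Lpr_dt (f247090 IH) (Lpe (f247102 IH) (Lpr_dt (f189427 IH) (Lpr_et (f247106 IH) (Lpn (LP (LK LD1_c11 LD2_c3 LD3_c9))))))))
theorem f212895 : Led Lsl_af (LP (LK LD1_c4 LD2_c31 LD3_c17)) = (LP (LK LD1_c2 LD2_c43 LD3_c34)) :=
  Lgr Lrot45 (Lpe (f212697 IH) (Lpr_at (K10.f32051 IH) (Lpr_ft (K12.f212881 IH) (Lpn (LP (LK LD1_c2 LD2_c43 LD3_c34))))))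
theorem f212904 : Led Lsl_gt (LP (LK LD1_c8 LD2_c38 LD3_c1)) = (LP (LK LD1_c4 LD2_c31 LD3_c17)) :=
  Lgr Lrot46 (Lpe (f28498 IH) (Lpr_ft (K12.f212881 IH) (Lpe (f212895 IH) (Lpn (LP (LK LD1_c4 LD2_c31 LD3_c17))))))
theorem f41085 : Led Lsl_et (LP (LK LD1_c1 LD2_c10 LD3_c6)) = (LP (LK LD1_c0 LD2_c32 LD3_c25)) :=
  Lre_e IH (LK LD1_c1 LD2_c10 LD3_c6) (LK LD1_c0 LD2_c32 LD3_c25) Lrfl Lrfl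
theorem f168882 : Led Lsl_et (LP (LK LD1_c0 LD2_c39 LD3_c24)) = (LP (LK LD1_c1 LD2_c25 LD3_c32)) :=
  Lre_e IH (LK LD1_c0 LD2_c39 LD3_c24) (LK LD1_c1 LD2_c25 LD3_c32) Lrfl Lrfl
theorem f168883 : Led Lsl_df (LP (LK LD1_c1 LD2_c10 LD3_c6)) = (LP (LK LD1_c1 LD2_c25 LD3_c32)) :=
  Lgr Lrot70 (Lpr_et (f41085 IH) (Lpr_dt (K9.f168824 IH) (Lpr_et (K9.f168880 IH) (Lpr_dt (K9.f168881 IH) (Lpr_et (f168882 IH) (Lpn (LP (LK LD1_c1 LD2_c25 LD3_c32))))))))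
theorem f168896 : Led Lsl_ft (LP (LK LD1_c1 LD2_c10 LD3_c6)) = (LP (LK LD1_c2 LD2_c25 LD3_c54)) :=
  Lre_f IH (LK LD1_c1 LD2_c10 LD3_c6) (LK LD1_c2 LD2_c25 LD3_c54) Lrfl Lrfl
theorem f168897 : Led Lsl_ft (LP (LK LD1_c2 LD2_c59 LD3_c42)) = (LP (LK LD1_c1 LD2_c25 LD3_c32)) :=
  Lre_f IH (LK LD1_c2 LD2_c59 LD3_c42) (LK LD1_c1 LD2_c25 LD3_c32) Lrfl Lrfl
theorem f168898 : Led Lsl_dt (LP (LK LD1_c2 LD2_c25 LD3_c54)) = (LP (LK LD1_c2 LD2_c59 LD3_c42)) :=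
  Lgr Lrot60 (Lpe (f168896 IH) (Lpr_df (f168883 IH) (Lpe (f168897 IH) (Lpn (LP (LK LD1_c2 LD2_c59 LD3_c42))))))
theorem f168911 : Led Lsl_df (LP (LK LD1_c2 LD2_c25 LD3_c54)) = (LP (LK LD1_c2 LD2_c59 LD3_c42)) :=
  Lgr Lrot38 (Lpr_dt (f168898 IH) (Lpn (LP (LK LD1_c2 LD2_c59 LD3_c42))))
theorem f168914 : Led Lsl_bt (LP (LK LD1_c2 LD2_c25 LD3_c54)) = (LP (LK LD1_c4 LD2_c56 LD3_c7)) :=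
  Lre_b IH (LK LD1_c2 LD2_c25 LD3_c54) (LK LD1_c4 LD2_c56 LD3_c7) Lrfl Lrfl
theorem f168915 : Led Lsl_bt (LP (LK LD1_c6 LD2_c7 LD3_c2)) = (LP (LK LD1_c2 LD2_c59 LD3_c42)) :=
  Lre_b IH (LK LD1_c6 LD2_c7 LD3_c2) (LK LD1_c2 LD2_c59 LD3_c42) Lrfl Lrfl
theorem f168916 : Led Lsl_dt (LP (LK LD1_c4 LD2_c56 LD3_c7)) = (LP (LK LD1_c6 LD2_c7 LD3_c2)) :=
  Lgr Lrot79 (Lpe (f168914 IH) (Lpr_df (f168911 IH) (Lpe (f168915 IH) (Lpn (LP (LK LD1_c6 LD2_c7 LD3_c2))))))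
theorem f168922 : Led Lsl_ft (LP (LK LD1_c2 LD2_c25 LD3_c51)) = (LP (LK LD1_c4 LD2_c56 LD3_c7)) :=
  Lre_f IH (LK LD1_c2 LD2_c25 LD3_c51) (LK LD1_c4 LD2_c56 LD3_c7) Lrfl Lrfl
theorem f168923 : Led Lsl_ft (LP (LK LD1_c6 LD2_c7 LD3_c2)) = (LP (LK LD1_c2 LD2_c59 LD3_c37)) :=
  Lre_f IH (LK LD1_c6 LD2_c7 LD3_c2) (LK LD1_c2 LD2_c59 LD3_c37) Lrfl Lrfl
theorem f168924 : Led Lsl_df (LP (LK LD1_c2 LD2_c25 LD3_c51)) = (LP (LK LD1_c2 LD2_c59 LD3_c37)) :=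
  Lgr Lrot78 (Lpr_ft (f168922 IH) (Lpr_dt (f168916 IH) (Lpr_ft (f168923 IH) (Lpn (LP (LK LD1_c2 LD2_c59 LD3_c37))))))
theorem f168940 : Led Lsl_et (LP (LK LD1_c2 LD2_c25 LD3_c51)) = (LP (LK LD1_c1 LD2_c10 LD3_c5)) :=
  Lre_e IH (LK LD1_c2 LD2_c25 LD3_c51) (LK LD1_c1 LD2_c10 LD3_c5) Lrfl Lrfl
theorem f168941 : Led Lsl_et (LP (LK LD1_c1 LD2_c25 LD3_c29)) = (LP (LK LD1_c2 LD2_c59 LD3_c37)) :=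
  Lre_e IH (LK LD1_c1 LD2_c25 LD3_c29) (LK LD1_c2 LD2_c59 LD3_c37) Lrfl Lrfl
theorem f168942 : Led Lsl_dt (LP (LK LD1_c0 LD2_c39 LD3_c23)) = (LP (LK LD1_c1 LD2_c25 LD3_c29)) :=
  Lre_d IH (LK LD1_c0 LD2_c39 LD3_c23) (LK LD1_c1 LD2_c25 LD3_c29) Lrfl Lrfl
theorem f168943 : Led Lsl_et (LP (LK LD1_c1 LD2_c25 LD3_c30)) = (LP (LK LD1_c0 LD2_c39 LD3_c23)) :=
  Lre_e IH (LK LD1_c1 LD2_c25 LD3_c30) (LK LD1_c0 LD2_c39 LD3_c23) Lrfl Lrfl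
theorem f168944 : Led Lsl_dt (LP (LK LD1_c1 LD2_c10 LD3_c5)) = (LP (LK LD1_c1 LD2_c25 LD3_c30)) :=
  Lgr Lrot77 (Lpe (f168940 IH) (Lpr_df (f168924 IH) (Lpe (f168941 IH) (Lpe (f168942 IH) (Lpe (f168943 IH) (Lpn (LP (LK LD1_c1 LD2_c25 LD3_c30))))))))
theorem f189445 : Led Lsl_et (LP (LK LD1_c11 LD2_c3 LD3_c9)) = (LP (LK LD1_c5 LD2_c35 LD3_c28)) :=
  Lre_e IH (LK LD1_c11 LD2_c3 LD3_c9) (LK LD1_c5 LD2_c35 LD3_c28) Lrfl Lrfl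
theorem f247176 : Led Lsl_gt (LP (LK LD1_c1 LD2_c25 LD3_c30)) = (LP (LK LD1_c2 LD2_c23 LD3_c15)) :=
  Lgr Lrot139 (Lpe (f168944 IH) (Lpe (K13.f235107 IH) (Lpe (f212696 IH) (Lpr_dt (f212699 IH) (Lpe (f212904 IH) (Lpr_df (f247173 IH) (Lpr_et (f189445 IH) (Lpe (f189412 IH) (Lpe (K13.f189393 IH) (Lpr_dt (K13.f189391 IH) (Lpn (LP (LK LD1_c2 LD2_c23 LD3_c15)))))))))))))
theorem f168987 : Led Lsl_et (LP (LK LD1_c0 LD2_c39 LD3_c23)) = (LP (LK LD1_c1 LD2_c25 LD3_c30)) :=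
  Lre_e IH (LK LD1_c0 LD2_c39 LD3_c23) (LK LD1_c1 LD2_c25 LD3_c30) Lrfl Lrfl
theorem f189257 : Led Lsl_dt (LP (LK LD1_c1 LD2_c18 LD3_c19)) = (LP (LK LD1_c2 LD2_c43 LD3_c59)) :=
  Lre_d IH (LK LD1_c1 LD2_c18 LD3_c19) (LK LD1_c2 LD2_c43 LD3_c59) Lrfl Lrfl
theorem f247180 : Led Lsl_gf (LP (LK LD1_c1 LD2_c25 LD3_c29)) = (LP (LK LD1_c2 LD2_c43 LD3_c59)) :=
  Lgr Lrot145 (Lpe (f168942 IH) (Lpr_et (f168987 IH) (Lpr_gt (f247176 IH) (Lpe (K13.f189134 IH) (Lpe (K13.f233931 IH) (Lpe (K12.f192825 IH) (Lpr_et (K13.f192828 IH) (Lpr_gt (K13.f233935 IH) (Lpe (K13.f189246 IH) (Lpr_dt (f189257 IH) (Lpn (LP (LK LD1_c2 LD2_c43 LD3_c59)))))))))))))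
theorem f168988 : Led Lsl_dt (LP (LK LD1_c1 LD2_c25 LD3_c29)) = (LP (LK LD1_c0 LD2_c39 LD3_c23)) :=
  Lre_d IH (LK LD1_c1 LD2_c25 LD3_c29) (LK LD1_c0 LD2_c39 LD3_c23) Lrfl Lrfl
theorem f27525 : Led Lsl_et (LP (LK LD1_c2 LD2_c4 LD3_c35)) = (LP (LK LD1_c4 LD2_c14 LD3_c26)) :=
  Lre_e IH (LK LD1_c2 LD2_c4 LD3_c35) (LK LD1_c4 LD2_c14 LD3_c26) Lrfl Lrfl
theorem f27567 : Led Lsl_bt (LP (LK LD1_c9 LD2_c33 LD3_c22)) = (LP (LK LD1_c4 LD2_c50 LD3_c46)) :=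
  Lre_b IH (LK LD1_c9 LD2_c33 LD3_c22) (LK LD1_c4 LD2_c50 LD3_c46) Lrfl Lrfl
theorem f27564 : Led Lsl_et (LP (LK LD1_c4 LD2_c50 LD3_c46)) = (LP (LK LD1_c2 LD2_c23 LD3_c10)) :=
  Lre_e IH (LK LD1_c4 LD2_c50 LD3_c46) (LK LD1_c2 LD2_c23 LD3_c10) Lrfl Lrfl
theorem f27616 : Led Lsl_af (LP (LK LD1_c4 LD2_c50 LD3_c46)) = (LP (LK LD1_c4 LD2_c14 LD3_c26)) :=
  Lgr Lrot50 (Lpr_et (f27564 IH) (Lpr_at (K0.f27594 IH) (Lpr_et (f27525 IH) (Lpn (LP (LK LD1_c4 LD2_c14 LD3_c26))))))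
theorem f27621 : Led Lsl_at (LP (LK LD1_c4 LD2_c50 LD3_c46)) = (LP (LK LD1_c4 LD2_c14 LD3_c26)) :=
  Lgr Lrot100 (Lpr_af (f27616 IH) (Lpn (LP (LK LD1_c4 LD2_c14 LD3_c26))))
theorem f27420 : Led Lsl_bt (LP (LK LD1_c4 LD2_c14 LD3_c26)) = (LP (LK LD1_c8 LD2_c26 LD3_c31)) :=
  Lre_b IH (LK LD1_c4 LD2_c14 LD3_c26) (LK LD1_c8 LD2_c26 LD3_c31) Lrfl Lrfl
theorem f195942 : Led Lsl_bf (LP (LK LD1_c10 LD2_c9 LD3_c36)) = (LP (LK LD1_c10 LD2_c19 LD3_c56)) :=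
  Lgr Lrot81 (Lpr_at (K12.f195938 IH) (Lpr_bt (f27567 IH) (Lpr_at (f27621 IH) (Lpr_bt (f27420 IH) (Lpr_at (K11.f189698 IH) (Lpn (LP (LK LD1_c10 LD2_c19 LD3_c56))))))))
theorem f224226 : Led Lsl_bf (LP (LK LD1_c8 LD2_c26 LD3_c26)) = (LP (LK LD1_c9 LD2_c41 LD3_c6)) :=
  Lgr Lrot61 (Lpr_ft (K11.f189618 IH) (Lpe (f195942 IH) (Lpr_ft (K12.f224222 IH) (Lpn (LP (LK LD1_c9 LD2_c41 LD3_c6))))))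
theorem f224218 : Led Lsl_at (LP (LK LD1_c5 LD2_c38 LD3_c51)) = (LP (LK LD1_c9 LD2_c41 LD3_c6)) :=
  Lgr Lrot66 (Lpe (K10.f196848 IH) (Lpe (K12.f195938 IH) (Lpr_ff (K12.f224216 IH) (Lpn (LP (LK LD1_c9 LD2_c41 LD3_c6))))))
theorem f194667 : Led Lsl_bt (LP (LK LD1_c2 LD2_c45 LD3_c22)) = (LP (LK LD1_c5 LD2_c38 LD3_c51)) :=
  Lre_b IH (LK LD1_c2 LD2_c45 LD3_c22) (LK LD1_c5 LD2_c38 LD3_c51) Lrfl Lrfl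
theorem f224230 : Led Lsl_at (LP (LK LD1_c2 LD2_c4 LD3_c48)) = (LP (LK LD1_c2 LD2_c45 LD3_c22)) :=
  Lgr Lrot67 (Lpe (K11.f27432 IH) (Lpe (K11.f27428 IH) (Lpr_bf (f224226 IH) (Lpe (f224218 IH) (Lpe (f194667 IH) (Lpn (LP (LK LD1_c2 LD2_c45 LD3_c22))))))))
theorem f27465 : Led Lsl_ft (LP (LK LD1_c4 LD2_c14 LD3_c26)) = (LP (LK LD1_c2 LD2_c4 LD3_c48)) :=
  Lre_f IH (LK LD1_c4 LD2_c14 LD3_c26) (LK LD1_c2 LD2_c4 LD3_c48) Lrfl Lrfl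
theorem f194681 : Led Lsl_gt (LP (LK LD1_c5 LD2_c38 LD3_c52)) = (LP (LK LD1_c2 LD2_c45 LD3_c22)) :=
  Lre_g IH (LK LD1_c5 LD2_c38 LD3_c52) (LK LD1_c2 LD2_c45 LD3_c22) Lrfl Lrfl
theorem f224238 : Led Lsl_gt (LP (LK LD1_c4 LD2_c14 LD3_c26)) = (LP (LK LD1_c5 LD2_c38 LD3_c52)) :=
  Lgr Lrot5 (Lpr_ft (f27465 IH) (Lpr_at (f224230 IH) (Lpe (f194681 IH) (Lpn (LP (LK LD1_c5 LD2_c38 LD3_c52))))))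
theorem f194683 : Led Lsl_et (LP (LK LD1_c11 LD2_c8 LD3_c38)) = (LP (LK LD1_c5 LD2_c38 LD3_c52)) :=
  Lre_e IH (LK LD1_c11 LD2_c8 LD3_c38) (LK LD1_c5 LD2_c38 LD3_c52) Lrfl Lrfl
theorem f216442 : Led Lsl_dt (LP (LK LD1_c2 LD2_c45 LD3_c34)) = (LP (LK LD1_c4 LD2_c50 LD3_c55)) :=
  Lgr Lrot42 (Lpr_df (K13.f216432 IH) (Lpn (LP (LK LD1_c4 LD2_c50 LD3_c55))))
theorem f189258 : Led Lsl_gt (LP (LK LD1_c9 LD2_c33 LD3_c55)) = (LP (LK LD1_c4 LD2_c50 LD3_c55)) :=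
  Lre_g IH (LK LD1_c9 LD2_c33 LD3_c55) (LK LD1_c4 LD2_c50 LD3_c55) Lrfl Lrfl
theorem f247183 : Led Lsl_dt (LP (LK LD1_c11 LD2_c8 LD3_c38)) = (LP (LK LD1_c9 LD2_c33 LD3_c55)) :=
  Lgr Lrot136 (Lpr_et (f194683 IH) (Lpe (f224238 IH) (Lpe (f27525 IH) (Lpr_dt (K0.f27527 IH) (Lpe (K9.f183819 IH) (Lpe (f168988 IH) (Lpr_gf (f247180 IH) (Lpe (K13.f216444 IH) (Lpr_dt (f216442 IH) (Lpe (f189258 IH) (Lpn (LP (LK LD1_c9 LD2_c33 LD3_c55)))))))))))))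
theorem f238344 : Led Lsl_et (LP (LK LD1_c5 LD2_c38 LD3_c52)) = (LP (LK LD1_c11 LD2_c8 LD3_c38)) :=
  Lre_e IH (LK LD1_c5 LD2_c38 LD3_c52) (LK LD1_c11 LD2_c8 LD3_c38) Lrfl Lrfl
theorem f194682 : Led Lsl_dt (LP (LK LD1_c11 LD2_c8 LD3_c37)) = (LP (LK LD1_c5 LD2_c38 LD3_c52)) :=
  Lre_d IH (LK LD1_c11 LD2_c8 LD3_c37) (LK LD1_c5 LD2_c38 LD3_c52) Lrfl Lrfl
theorem f223693 : Led Lsl_dt (LP (LK LD1_c1 LD2_c59 LD3_c6)) = (LP (LK LD1_c1 LD2_c10 LD3_c22)) :=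
  Lgr Lrot42 (Lpr_df (K12.f223689 IH) (Lpn (LP (LK LD1_c1 LD2_c10 LD3_c22))))
theorem f223695 : Led Lsl_et (LP (LK LD1_c1 LD2_c59 LD3_c6)) = (LP (LK LD1_c4 LD2_c4 LD3_c21)) :=
  Lre_e IH (LK LD1_c1 LD2_c59 LD3_c6) (LK LD1_c4 LD2_c4 LD3_c21) Lrfl Lrfl
theorem f238337 : Led Lsl_gt (LP (LK LD1_c4 LD2_c4 LD3_c21)) = (LP (LK LD1_c8 LD2_c9 LD3_c37)) :=
  Lre_g IH (LK LD1_c4 LD2_c4 LD3_c21) (LK LD1_c8 LD2_c9 LD3_c37) Lrfl Lrfl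
theorem f194679 : Led Lsl_et (LP (LK LD1_c2 LD2_c45 LD3_c22)) = (LP (LK LD1_c1 LD2_c19 LD3_c4)) :=
  Lre_e IH (LK LD1_c2 LD2_c45 LD3_c22) (LK LD1_c1 LD2_c19 LD3_c4) Lrfl Lrfl
theorem f194665 : Led Lsl_dt (LP (LK LD1_c5 LD2_c38 LD3_c51)) = (LP (LK LD1_c5 LD2_c38 LD3_c51)) :=
  Lgr Lrot77 (Lpe (K12.f194662 IH) (Lpe (K12.f194661 IH) (Lpr_ef (K12.f194650 IH) (Lpe (K10.f194663 IH) (Lpe (K10.f194664 IH) (Lpn (LP (LK LD1_c5 LD2_c38 LD3_c51))))))))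
theorem f194668 : Led Lsl_bt (LP (LK LD1_c5 LD2_c38 LD3_c51)) = (LP (LK LD1_c2 LD2_c45 LD3_c22)) :=
  Lre_b IH (LK LD1_c5 LD2_c38 LD3_c51) (LK LD1_c2 LD2_c45 LD3_c22) Lrfl Lrfl
theorem f194669 : Led Lsl_df (LP (LK LD1_c2 LD2_c45 LD3_c22)) = (LP (LK LD1_c2 LD2_c45 LD3_c22)) :=
  Lgr Lrot12 (Lpr_bt (f194667 IH) (Lpr_dt (f194665 IH) (Lpr_bt (f194668 IH) (Lpn (LP (LK LD1_c2 LD2_c45 LD3_c22))))))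
theorem f238338 : Led Lsl_ef (LP (LK LD1_c8 LD2_c9 LD3_c37)) = (LP (LK LD1_c11 LD2_c8 LD3_c37)) :=
  Lgr Lrot17 (Lpe (f238337 IH) (Lpe (f223695 IH) (Lpr_dt (f223693 IH) (Lpe (K11.f211270 IH) (Lpr_df (K11.f211263 IH) (Lpr_gf (K13.f238329 IH) (Lpe (f194679 IH) (Lpe (f194669 IH) (Lpe (f194681 IH) (Lpe (f194682 IH) (Lpn (LP (LK LD1_c11 LD2_c8 LD3_c37)))))))))))))
theorem f238341 : Led Lsl_et (LP (LK LD1_c8 LD2_c9 LD3_c37)) = (LP (LK LD1_c11 LD2_c8 LD3_c37)) :=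
  Lgr Lrot87 (Lpr_ef (f238338 IH) (Lpn (LP (LK LD1_c11 LD2_c8 LD3_c37))))
theorem f238343 : Led Lsl_dt (LP (LK LD1_c15 LD2_c22 LD3_c18)) = (LP (LK LD1_c8 LD2_c9 LD3_c37)) :=
  Lre_d IH (LK LD1_c15 LD2_c22 LD3_c18) (LK LD1_c8 LD2_c9 LD3_c37) Lrfl Lrfl
theorem f247187 : Led Lsl_ef (LP (LK LD1_c15 LD2_c22 LD3_c18)) = (LP (LK LD1_c9 LD2_c33 LD3_c55)) :=
  Lgr Lrot73 (Lpr_dt (f238343 IH) (Lpr_et (f238341 IH) (Lpr_dt (f194682 IH) (Lpr_et (f238344 IH) (Lpr_dt (f247183 IH) (Lpn (LP (LK LD1_c9 LD2_c33 LD3_c55))))))))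
theorem f247192 : Led Lsl_et (LP (LK LD1_c15 LD2_c22 LD3_c18)) = (LP (LK LD1_c9 LD2_c33 LD3_c55)) :=
  Lgr Lrot87 (Lpr_ef (f247187 IH) (Lpn (LP (LK LD1_c9 LD2_c33 LD3_c55))))
theorem f237907 : Led Lsl_et (LP (LK LD1_c2 LD2_c6 LD3_c46)) = (LP (LK LD1_c4 LD2_c18 LD3_c61)) :=
  Lre_e IH (LK LD1_c2 LD2_c6 LD3_c46) (LK LD1_c4 LD2_c18 LD3_c61) Lrfl Lrfl
theorem f168507 : Led Lsl_et (LP (LK LD1_c1 LD2_c10 LD3_c21)) = (LP (LK LD1_c2 LD2_c26 LD3_c15)) :=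
  Lre_e IH (LK LD1_c1 LD2_c10 LD3_c21) (LK LD1_c2 LD2_c26 LD3_c15) Lrfl Lrfl
theorem f237908 : Led Lsl_gt (LP (LK LD1_c4 LD2_c18 LD3_c61)) = (LP (LK LD1_c2 LD2_c26 LD3_c15)) :=
  Lgr Lrot131 (Lpe (f237907 IH) (Lpr_dt (K13.f237806 IH) (Lpr_gf (K13.f236252 IH) (Lpr_df (K13.f189244 IH) (Lpe (K13.f8103 IH) (Lpr_ef (K13.f28759 IH) (Lpr_dt (K1.f28940 IH) (Lpe (K12.f182314 IH) (Lpe (K12.f168525 IH) (Lpr_et (f168507 IH) (Lpn (LP (LK LD1_c2 LD2_c26 LD3_c15)))))))))))))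
theorem f247197 : Led Lsl_df (LP (LK LD1_c4 LD2_c4 LD3_c21)) = (LP (LK LD1_c2 LD2_c26 LD3_c15)) :=
  Lgr Lrot135 (Lpr_gt (f238337 IH) (Lpe (f238343 IH) (Lpr_et (f247192 IH) (Lpr_gt (f189258 IH) (Lpe (K13.f189248 IH) (Lpe (K13.f189244 IH) (Lpe (K13.f236252 IH) (Lpe (K13.f237806 IH) (Lpr_et (f237907 IH) (Lpr_gt (f237908 IH) (Lpn (LP (LK LD1_c2 LD2_c26 LD3_c15)))))))))))))
theorem f247201 : Led Lsl_ft (LP (LK LD1_c4 LD2_c4 LD3_c21)) = (LP (LK LD1_c8 LD2_c9 LD3_c39)) :=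
  Lre_f IH (LK LD1_c4 LD2_c4 LD3_c21) (LK LD1_c8 LD2_c9 LD3_c39) Lrfl Lrfl
theorem f168498 : Led Lsl_ft (LP (LK LD1_c4 LD2_c56 LD3_c50)) = (LP (LK LD1_c2 LD2_c26 LD3_c15)) :=
  Lre_f IH (LK LD1_c4 LD2_c56 LD3_c50) (LK LD1_c2 LD2_c26 LD3_c15) Lrfl Lrfl
theorem f247202 : Led Lsl_dt (LP (LK LD1_c8 LD2_c9 LD3_c39)) = (LP (LK LD1_c4 LD2_c56 LD3_c50)) :=
  Lgr Lrot60 (Lpe (f247201 IH) (Lpr_df (f247197 IH) (Lpe (f168498 IH) (Lpn (LP (LK LD1_c4 LD2_c56 LD3_c50))))))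
theorem f247253 : Led Lsl_df (LP (LK LD1_c8 LD2_c9 LD3_c39)) = (LP (LK LD1_c4 LD2_c56 LD3_c50)) :=
  Lgr Lrot38 (Lpr_dt (f247202 IH) (Lpn (LP (LK LD1_c4 LD2_c56 LD3_c50))))
theorem f168365 : Led Lsl_et (LP (LK LD1_c2 LD2_c26 LD3_c15)) = (LP (LK LD1_c1 LD2_c10 LD3_c21)) :=
  Lre_e IH (LK LD1_c2 LD2_c26 LD3_c15) (LK LD1_c1 LD2_c10 LD3_c21) Lrfl Lrfl
theorem f168366 : Led Lsl_et (LP (LK LD1_c1 LD2_c17 LD3_c15)) = (LP (LK LD1_c2 LD2_c41 LD3_c6)) :=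
  Lre_e IH (LK LD1_c1 LD2_c17 LD3_c15) (LK LD1_c2 LD2_c41 LD3_c6) Lrfl Lrfl
theorem f168367 : Led Lsl_bf (LP (LK LD1_c2 LD2_c26 LD3_c15)) = (LP (LK LD1_c2 LD2_c41 LD3_c6)) :=
  Lgr Lrot96 (Lpr_et (f168365 IH) (Lpr_bt (K12.f168352 IH) (Lpr_et (f168366 IH) (Lpn (LP (LK LD1_c2 LD2_c41 LD3_c6))))))
theorem f168386 : Led Lsl_ft (LP (LK LD1_c2 LD2_c26 LD3_c15)) = (LP (LK LD1_c4 LD2_c56 LD3_c50)) :=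
  Lre_f IH (LK LD1_c2 LD2_c26 LD3_c15) (LK LD1_c4 LD2_c56 LD3_c50) Lrfl Lrfl
theorem f168387 : Led Lsl_ft (LP (LK LD1_c5 LD2_c29 LD3_c43)) = (LP (LK LD1_c2 LD2_c41 LD3_c6)) :=
  Lre_f IH (LK LD1_c5 LD2_c29 LD3_c43) (LK LD1_c2 LD2_c41 LD3_c6) Lrfl Lrfl
theorem f168388 : Led Lsl_bt (LP (LK LD1_c4 LD2_c56 LD3_c50)) = (LP (LK LD1_c5 LD2_c29 LD3_c43)) :=
  Lgr Lrot35 (Lpe (f168386 IH) (Lpr_bf (f168367 IH) (Lpe (f168387 IH) (Lpn (LP (LK LD1_c5 LD2_c29 LD3_c43))))))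
theorem f168395 : Led Lsl_bf (LP (LK LD1_c4 LD2_c56 LD3_c50)) = (LP (LK LD1_c5 LD2_c29 LD3_c43)) :=
  Lgr Lrot24 (Lpr_bt (f168388 IH) (Lpn (LP (LK LD1_c5 LD2_c29 LD3_c43))))
theorem f168497 : Led Lsl_dt (LP (LK LD1_c10 LD2_c50 LD3_c42)) = (LP (LK LD1_c5 LD2_c29 LD3_c43)) :=
  Lre_d IH (LK LD1_c10 LD2_c50 LD3_c42) (LK LD1_c5 LD2_c29 LD3_c43) Lrfl Lrfl
theorem f247256 : Led Lsl_bt (LP (LK LD1_c8 LD2_c9 LD3_c39)) = (LP (LK LD1_c10 LD2_c50 LD3_c42)) :=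
  Lgr Lrot95 (Lpr_df (f247253 IH) (Lpr_bf (f168395 IH) (Lpe (f168497 IH) (Lpn (LP (LK LD1_c10 LD2_c50 LD3_c42))))))
theorem f213830 : Led Lsl_ft (LP (LK LD1_c10 LD2_c50 LD3_c42)) = (LP (LK LD1_c5 LD2_c29 LD3_c42)) :=
  Lre_f IH (LK LD1_c10 LD2_c50 LD3_c42) (LK LD1_c5 LD2_c29 LD3_c42) Lrfl Lrfl
theorem f247266 : Led Lsl_bf (LP (LK LD1_c4 LD2_c4 LD3_c21)) = (LP (LK LD1_c5 LD2_c29 LD3_c42)) :=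
  Lgr Lrot61 (Lpr_ft (f247201 IH) (Lpr_bt (f247256 IH) (Lpr_ft (f213830 IH) (Lpn (LP (LK LD1_c5 LD2_c29 LD3_c42))))))
theorem f223675 : Led Lsl_ct (LP (LK LD1_c4 LD2_c4 LD3_c21)) = (LP (LK LD1_c8 LD2_c9 LD3_c36)) :=
  Lre_c IH (LK LD1_c4 LD2_c4 LD3_c21) (LK LD1_c8 LD2_c9 LD3_c36) Lrfl Lrfl
theorem f247209 : Led Lsl_bt (LP (LK LD1_c8 LD2_c9 LD3_c36)) = (LP (LK LD1_c15 LD2_c22 LD3_c13)) :=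
  Lre_b IH (LK LD1_c8 LD2_c9 LD3_c36) (LK LD1_c15 LD2_c22 LD3_c13) Lrfl Lrfl
theorem f168338 : Led Lsl_dt (LP (LK LD1_c1 LD2_c17 LD3_c16)) = (LP (LK LD1_c2 LD2_c41 LD3_c9)) :=
  Lre_d IH (LK LD1_c1 LD2_c17 LD3_c16) (LK LD1_c2 LD2_c41 LD3_c9) Lrfl Lrfl
theorem f213778 : Led Lsl_gt (LP (LK LD1_c4 LD2_c13 LD3_c49)) = (LP (LK LD1_c2 LD2_c41 LD3_c9)) :=
  Lgr Lrot139 (Lpe (K10.f45095 IH) (Lpe (K9.f45094 IH) (Lpe (f27514 IH) (Lpr_dt (K1.f45081 IH) (Lpe (K1.f45720 IH) (Lpr_df (K1.f44916 IH) (Lpr_et (K10.f44929 IH) (Lpr_gf (K12.f213765 IH) (Lpe (K12.f168340 IH) (Lpr_dt (f168338 IH) (Lpn (LP (LK LD1_c2 LD2_c41 LD3_c9)))))))))))))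
theorem f187232 : Led Lsl_ct (LP (LK LD1_c2 LD2_c11 LD3_c41)) = (LP (LK LD1_c1 LD2_c2 LD3_c50)) :=
  Lre_c IH (LK LD1_c2 LD2_c11 LD3_c41) (LK LD1_c1 LD2_c2 LD3_c50) Lrfl Lrfl
theorem f213783 : Led Lsl_gt (LP (LK LD1_c4 LD2_c29 LD3_c8)) = (LP (LK LD1_c2 LD2_c11 LD3_c41)) :=
  Lre_g IH (LK LD1_c4 LD2_c29 LD3_c8) (LK LD1_c2 LD2_c11 LD3_c41) Lrfl Lrfl
theorem f213784 : Led Lsl_cf (LP (LK LD1_c4 LD2_c29 LD3_c8)) = (LP (LK LD1_c2 LD2_c41 LD3_c9)) :=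
  Lgr Lrot169 (Lpr_gt (f213783 IH) (Lpr_ct (f187232 IH) (Lpe (K13.f167756 IH) (Lpr_cf (K10.f187230 IH) (Lpe (K10.f27370 IH) (Lpe (K10.f27357 IH) (Lpe (K9.f53464 IH) (Lpe (K10.f50876 IH) (Lpr_gt (f213778 IH) (Lpn (LP (LK LD1_c2 LD2_c41 LD3_c9))))))))))))
theorem f213791 : Led Lsl_et (LP (LK LD1_c4 LD2_c29 LD3_c8)) = (LP (LK LD1_c8 LD2_c56 LD3_c32)) :=
  Lre_e IH (LK LD1_c4 LD2_c29 LD3_c8) (LK LD1_c8 LD2_c56 LD3_c32) Lrfl Lrfl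
theorem f213786 : Led Lsl_et (LP (LK LD1_c5 LD2_c29 LD3_c42)) = (LP (LK LD1_c2 LD2_c41 LD3_c9)) :=
  Lre_e IH (LK LD1_c5 LD2_c29 LD3_c42) (LK LD1_c2 LD2_c41 LD3_c9) Lrfl Lrfl
theorem f213792 : Led Lsl_ct (LP (LK LD1_c8 LD2_c56 LD3_c32)) = (LP (LK LD1_c5 LD2_c29 LD3_c42)) :=
  Lgr Lrot15 (Lpe (f213791 IH) (Lpr_cf (f213784 IH) (Lpe (f213786 IH) (Lpn (LP (LK LD1_c5 LD2_c29 LD3_c42))))))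
theorem f213798 : Led Lsl_bt (LP (LK LD1_c16 LD2_c44 LD3_c23)) = (LP (LK LD1_c8 LD2_c56 LD3_c32)) :=
  Lre_b IH (LK LD1_c16 LD2_c44 LD3_c23) (LK LD1_c8 LD2_c56 LD3_c32) Lrfl Lrfl
theorem f247268 : Led Lsl_ct (LP (LK LD1_c15 LD2_c22 LD3_c13)) = (LP (LK LD1_c16 LD2_c44 LD3_c23)) :=
  Lgr Lrot83 (Lpe (f247209 IH) (Lpe (f223675 IH) (Lpr_bf (f247266 IH) (Lpe (f213792 IH) (Lpe (f213798 IH) (Lpn (LP (LK LD1_c16 LD2_c44 LD3_c23))))))))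
theorem f247279 : Led Lsl_et (LP (LK LD1_c8 LD2_c9 LD3_c35)) = (LP (LK LD1_c15 LD2_c22 LD3_c13)) :=
  Lre_e IH (LK LD1_c8 LD2_c9 LD3_c35) (LK LD1_c15 LD2_c22 LD3_c13) Lrfl Lrfl
theorem f247280 : Led Lsl_et (LP (LK LD1_c16 LD2_c44 LD3_c23)) = (LP (LK LD1_c8 LD2_c56 LD3_c31)) :=
  Lre_e IH (LK LD1_c16 LD2_c44 LD3_c23) (LK LD1_c8 LD2_c56 LD3_c31) Lrfl Lrfl
theorem f247281 : Led Lsl_cf (LP (LK LD1_c8 LD2_c9 LD3_c35)) = (LP (LK LD1_c8 LD2_c56 LD3_c31)) :=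
  Lgr Lrot39 (Lpr_et (f247279 IH) (Lpr_ct (f247268 IH) (Lpr_et (f247280 IH) (Lpn (LP (LK LD1_c8 LD2_c56 LD3_c31))))))
theorem f247298 : Led Lsl_ct (LP (LK LD1_c8 LD2_c9 LD3_c35)) = (LP (LK LD1_c8 LD2_c56 LD3_c31)) :=
  Lgr Lrot59 (Lpr_cf (f247281 IH) (Lpn (LP (LK LD1_c8 LD2_c56 LD3_c31))))
theorem f223683 : Led Lsl_bt (LP (LK LD1_c4 LD2_c4 LD3_c20)) = (LP (LK LD1_c8 LD2_c9 LD3_c35)) :=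
  Lre_b IH (LK LD1_c4 LD2_c4 LD3_c20) (LK LD1_c8 LD2_c9 LD3_c35) Lrfl Lrfl
theorem f213840 : Led Lsl_bt (LP (LK LD1_c8 LD2_c56 LD3_c31)) = (LP (LK LD1_c4 LD2_c29 LD3_c8)) :=
  Lre_b IH (LK LD1_c8 LD2_c56 LD3_c31) (LK LD1_c4 LD2_c29 LD3_c8) Lrfl Lrfl
theorem f213789 : Led Lsl_ct (LP (LK LD1_c4 LD2_c29 LD3_c8)) = (LP (LK LD1_c2 LD2_c41 LD3_c9)) :=
  Lgr Lrot59 (Lpr_cf (f213784 IH) (Lpn (LP (LK LD1_c2 LD2_c41 LD3_c9))))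
theorem f247315 : Led Lsl_bf (LP (LK LD1_c1 LD2_c59 LD3_c6)) = (LP (LK LD1_c2 LD2_c41 LD3_c9)) :=
  Lgr Lrot90 (Lpr_ct (K12.f200703 IH) (Lpr_bt (f223683 IH) (Lpr_ct (f247298 IH) (Lpr_bt (f213840 IH) (Lpr_ct (f213789 IH) (Lpn (LP (LK LD1_c2 LD2_c41 LD3_c9))))))))
theorem f179770 : Led Lsl_bt (LP (LK LD1_c1 LD2_c2 LD3_c50)) = (LP (LK LD1_c0 LD2_c28 LD3_c39)) :=
  Lre_b IH (LK LD1_c1 LD2_c2 LD3_c50) (LK LD1_c0 LD2_c28 LD3_c39) Lrfl Lrfl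
theorem f247327 : Led Lsl_bf (LP (LK LD1_c0 LD2_c56 LD3_c20)) = (LP (LK LD1_c0 LD2_c28 LD3_c47)) :=
  Lgr Lrot156 (Lpr_gt (K12.f200702 IH) (Lpr_bf (f247315 IH) (Lpe (f213784 IH) (Lpr_gt (f213783 IH) (Lpe (K13.f179771 IH) (Lpr_bt (f179770 IH) (Lpe (K12.f225821 IH) (Lpr_ct (K12.f225707 IH) (Lpe (K12.f225703 IH) (Lpe (K12.f167839 IH) (Lpn (LP (LK LD1_c0 LD2_c28 LD3_c47)))))))))))))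
theorem f187197 : Led Lsl_ct (LP (LK LD1_c4 LD2_c21 LD3_c4)) = (LP (LK LD1_c8 LD2_c39 LD3_c51)) :=
  Lre_c IH (LK LD1_c4 LD2_c21 LD3_c4) (LK LD1_c8 LD2_c39 LD3_c51) Lrfl Lrfl
theorem f173149 : Led Lsl_ct (LP (LK LD1_c2 LD2_c11 LD3_c19)) = (LP (LK LD1_c4 LD2_c28 LD3_c27)) :=
  Lre_c IH (LK LD1_c2 LD2_c11 LD3_c19) (LK LD1_c4 LD2_c28 LD3_c27) Lrfl Lrfl
theorem f187450 : Led Lsl_dt (LP (LK LD1_c1 LD2_c2 LD3_c40)) = (LP (LK LD1_c2 LD2_c11 LD3_c21)) :=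
  Lre_d IH (LK LD1_c1 LD2_c2 LD3_c40) (LK LD1_c2 LD2_c11 LD3_c21) Lrfl Lrfl
theorem f187451 : Led Lsl_gt (LP (LK LD1_c2 LD2_c11 LD3_c21)) = (LP (LK LD1_c4 LD2_c28 LD3_c35)) :=
  Lre_g IH (LK LD1_c2 LD2_c11 LD3_c21) (LK LD1_c4 LD2_c28 LD3_c35) Lrfl Lrfl
theorem f191831 : Led Lsl_df (LP (LK LD1_c8 LD2_c39 LD3_c51)) = (LP (LK LD1_c4 LD2_c28 LD3_c35)) :=
  Lgr Lrot84 (Lpe (f187197 IH) (Lpe (K10.f187187 IH) (Lpr_gf (K13.f191829 IH) (Lpe (K12.f53645 IH) (Lpe (K12.f187448 IH) (Lpe (f173149 IH) (Lpr_gt (K9.f173159 IH) (Lpr_dt (f187450 IH) (Lpr_gt (f187451 IH) (Lpn (LP (LK LD1_c4 LD2_c28 LD3_c35))))))))))))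
theorem f191844 : Led Lsl_dt (LP (LK LD1_c8 LD2_c39 LD3_c51)) = (LP (LK LD1_c4 LD2_c28 LD3_c35)) :=
  Lgr Lrot42 (Lpr_df (f191831 IH) (Lpn (LP (LK LD1_c4 LD2_c28 LD3_c35))))
theorem f191854 : Led Lsl_gt (LP (LK LD1_c4 LD2_c28 LD3_c35)) = (LP (LK LD1_c8 LD2_c40 LD3_c10)) :=
  Lre_g IH (LK LD1_c4 LD2_c28 LD3_c35) (LK LD1_c8 LD2_c40 LD3_c10) Lrfl Lrfl
theorem f41549 : Led Lsl_dt (LP (LK LD1_c1 LD2_c2 LD3_c32)) = (LP (LK LD1_c2 LD2_c11 LD3_c0)) :=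
  Lre_d IH (LK LD1_c1 LD2_c2 LD3_c32) (LK LD1_c2 LD2_c11 LD3_c0) Lrfl Lrfl
theorem f41725 : Led Lsl_gt (LP (LK LD1_c0 LD2_c28 LD3_c31)) = (LP (LK LD1_c1 LD2_c2 LD3_c32)) :=
  Lre_g IH (LK LD1_c0 LD2_c28 LD3_c31) (LK LD1_c1 LD2_c2 LD3_c32) Lrfl Lrfl
theorem f41726 : Led Lsl_dt (LP (LK LD1_c1 LD2_c2 LD3_c34)) = (LP (LK LD1_c0 LD2_c28 LD3_c31)) :=
  Lre_d IH (LK LD1_c1 LD2_c2 LD3_c34) (LK LD1_c0 LD2_c28 LD3_c31) Lrfl Lrfl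
theorem f41731 : Led Lsl_gt (LP (LK LD1_c2 LD2_c11 LD3_c4)) = (LP (LK LD1_c1 LD2_c2 LD3_c34)) :=
  Lre_g IH (LK LD1_c2 LD2_c11 LD3_c4) (LK LD1_c1 LD2_c2 LD3_c34) Lrfl Lrfl
theorem f191889 : Led Lsl_ct (LP (LK LD1_c4 LD2_c27 LD3_c48)) = (LP (LK LD1_c2 LD2_c11 LD3_c4)) :=
  Lre_c IH (LK LD1_c4 LD2_c27 LD3_c48) (LK LD1_c2 LD2_c11 LD3_c4) Lrfl Lrfl
theorem f191890 : Led Lsl_gf (LP (LK LD1_c8 LD2_c39 LD3_c51)) = (LP (LK LD1_c4 LD2_c27 LD3_c48)) :=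
  Lgr Lrot144 (Lpr_dt (f191844 IH) (Lpr_gt (f191854 IH) (Lpr_dt (K12.f187454 IH) (Lpe (K9.f173123 IH) (Lpe (f41549 IH) (Lpe (f41725 IH) (Lpe (f41726 IH) (Lpe (f41731 IH) (Lpe (f191889 IH) (Lpn (LP (LK LD1_c4 LD2_c27 LD3_c48))))))))))))
theorem f191893 : Led Lsl_ct (LP (LK LD1_c2 LD2_c11 LD3_c4)) = (LP (LK LD1_c4 LD2_c27 LD3_c48)) :=
  Lre_c IH (LK LD1_c2 LD2_c11 LD3_c4) (LK LD1_c4 LD2_c27 LD3_c48) Lrfl Lrfl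
theorem f225833 : Led Lsl_bf (LP (LK LD1_c1 LD2_c2 LD3_c44)) = (LP (LK LD1_c2 LD2_c11 LD3_c4)) :=
  Lgr Lrot34 (Lpr_gf (K12.f225821 IH) (Lpe (f179770 IH) (Lpr_ct (K13.f179771 IH) (Lpe (f213783 IH) (Lpr_cf (f213784 IH) (Lpe (f213778 IH) (Lpe (K10.f187188 IH) (Lpr_ct (f187197 IH) (Lpr_gf (f191890 IH) (Lpe (f191893 IH) (Lpn (LP (LK LD1_c2 LD2_c11 LD3_c4)))))))))))))
theorem f225835 : Led Lsl_bt (LP (LK LD1_c1 LD2_c2 LD3_c44)) = (LP (LK LD1_c2 LD2_c11 LD3_c4)) :=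
  Lgr Lrot127 (Lpr_bf (f225833 IH) (Lpn (LP (LK LD1_c2 LD2_c11 LD3_c4))))
theorem f187192 : Led Lsl_ct (LP (LK LD1_c8 LD2_c39 LD3_c51)) = (LP (LK LD1_c4 LD2_c21 LD3_c4)) :=
  Lre_c IH (LK LD1_c8 LD2_c39 LD3_c51) (LK LD1_c4 LD2_c21 LD3_c4) Lrfl Lrfl
theorem f187214 : Led Lsl_dt (LP (LK LD1_c4 LD2_c21 LD3_c4)) = (LP (LK LD1_c2 LD2_c8 LD3_c4)) :=
  Lre_d IH (LK LD1_c4 LD2_c21 LD3_c4) (LK LD1_c2 LD2_c8 LD3_c4) Lrfl Lrfl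
theorem f168604 : Led Lsl_dt (LP (LK LD1_c0 LD2_c28 LD3_c32)) = (LP (LK LD1_c1 LD2_c2 LD3_c36)) :=
  Lre_d IH (LK LD1_c0 LD2_c28 LD3_c32) (LK LD1_c1 LD2_c2 LD3_c36) Lrfl Lrfl
theorem f191902 : Led Lsl_gt (LP (LK LD1_c1 LD2_c2 LD3_c36)) = (LP (LK LD1_c2 LD2_c11 LD3_c4)) :=
  Lgr Lrot9 (Lpe (f168604 IH) (Lpr_gt (K11.f187223 IH) (Lpr_ct (K10.f173186 IH) (Lpr_gt (K10.f45741 IH) (Lpr_ct (K10.f187103 IH) (Lpe (f187214 IH) (Lpe (f187192 IH) (Lpr_gf (f191890 IH) (Lpe (f191893 IH) (Lpn (LP (LK LD1_c2 LD2_c11 LD3_c4))))))))))))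
theorem f247335 : Led Lsl_bt (LP (LK LD1_c1 LD2_c0 LD3_c30)) = (LP (LK LD1_c1 LD2_c2 LD3_c36)) :=
  Lgr Lrot22 (Lpr_ct (K12.f200714 IH) (Lpe (K12.f200704 IH) (Lpe (K12.f200703 IH) (Lpe (K12.f200702 IH) (Lpr_bf (f247327 IH) (Lpr_ct (K12.f167839 IH) (Lpr_gf (K12.f225703 IH) (Lpe (K12.f225707 IH) (Lpr_bt (f225835 IH) (Lpe (f191902 IH) (Lpn (LP (LK LD1_c1 LD2_c2 LD3_c36)))))))))))))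
theorem f247343 : Led Lsl_et (LP (LK LD1_c1 LD2_c2 LD3_c36)) = (LP (LK LD1_c2 LD2_c11 LD3_c11)) :=
  Lre_e IH (LK LD1_c1 LD2_c2 LD3_c36) (LK LD1_c2 LD2_c11 LD3_c11) Lrfl Lrfl
theorem f247344 : Led Lsl_bf (LP (LK LD1_c2 LD2_c7 LD3_c0)) = (LP (LK LD1_c2 LD2_c11 LD3_c11)) :=
  Lgr Lrot96 (Lpr_et (K13.f228068 IH) (Lpr_bt (f247335 IH) (Lpr_et (f247343 IH) (Lpn (LP (LK LD1_c2 LD2_c11 LD3_c11))))))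
theorem f247354 : Led Lsl_ft (LP (LK LD1_c2 LD2_c7 LD3_c0)) = (LP (LK LD1_c4 LD2_c19 LD3_c16)) :=
  Lre_f IH (LK LD1_c2 LD2_c7 LD3_c0) (LK LD1_c4 LD2_c19 LD3_c16) Lrfl Lrfl
theorem f247355 : Led Lsl_ft (LP (LK LD1_c4 LD2_c28 LD3_c3)) = (LP (LK LD1_c2 LD2_c11 LD3_c11)) :=
  Lre_f IH (LK LD1_c4 LD2_c28 LD3_c3) (LK LD1_c2 LD2_c11 LD3_c11) Lrfl Lrfl
theorem f247356 : Led Lsl_bt (LP (LK LD1_c4 LD2_c19 LD3_c16)) = (LP (LK LD1_c4 LD2_c28 LD3_c3)) :=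
  Lgr Lrot35 (Lpe (f247354 IH) (Lpr_bf (f247344 IH) (Lpe (f247355 IH) (Lpn (LP (LK LD1_c4 LD2_c28 LD3_c3))))))
theorem f238712 : Led Lsl_dt (LP (LK LD1_c8 LD2_c36 LD3_c59)) = (LP (LK LD1_c4 LD2_c19 LD3_c16)) :=
  Lre_d IH (LK LD1_c8 LD2_c36 LD3_c59) (LK LD1_c4 LD2_c19 LD3_c16) Lrfl Lrfl
theorem f173263 : Led Lsl_gt (LP (LK LD1_c4 LD2_c22 LD3_c17)) = (LP (LK LD1_c2 LD2_c8 LD3_c35)) :=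
  Lre_g IH (LK LD1_c4 LD2_c22 LD3_c17) (LK LD1_c2 LD2_c8 LD3_c35) Lrfl Lrfl
theorem f169415 : Led Lsl_dt (LP (LK LD1_c0 LD2_c27 LD3_c13)) = (LP (LK LD1_c0 LD2_c59 LD3_c52)) :=
  Lre_d IH (LK LD1_c0 LD2_c27 LD3_c13) (LK LD1_c0 LD2_c59 LD3_c52) Lrfl Lrfl
theorem f169420 : Led Lsl_gt (LP (LK LD1_c0 LD2_c59 LD3_c52)) = (LP (LK LD1_c2 LD2_c5 LD3_c41)) :=
  Lre_g IH (LK LD1_c0 LD2_c59 LD3_c52) (LK LD1_c2 LD2_c5 LD3_c41) Lrfl Lrfl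
theorem f170174 : Led Lsl_ct (LP (LK LD1_c2 LD2_c5 LD3_c41)) = (LP (LK LD1_c4 LD2_c16 LD3_c46)) :=
  Lre_c IH (LK LD1_c2 LD2_c5 LD3_c41) (LK LD1_c4 LD2_c16 LD3_c46) Lrfl Lrfl
theorem f211430 : Led Lsl_ct (LP (LK LD1_c4 LD2_c22 LD3_c40)) = (LP (LK LD1_c2 LD2_c8 LD3_c46)) :=
  Lre_c IH (LK LD1_c4 LD2_c22 LD3_c40) (LK LD1_c2 LD2_c8 LD3_c46) Lrfl Lrfl
theorem f232259 : Led Lsl_gt (LP (LK LD1_c4 LD2_c16 LD3_c46)) = (LP (LK LD1_c4 LD2_c22 LD3_c40)) :=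
  Lgr Lrot150 (Lpe (f170174 IH) (Lpe (f169420 IH) (Lpe (f169415 IH) (Lpr_gt (K13.f167313 IH) (Lpr_ct (K13.f167314 IH) (Lpr_gt (K13.f232254 IH) (Lpr_ct (K12.f211415 IH) (Lpe (K12.f200526 IH) (Lpe (f211430 IH) (Lpn (LP (LK LD1_c4 LD2_c22 LD3_c40))))))))))))
theorem f41537 : Led Lsl_et (LP (LK LD1_c1 LD2_c15 LD3_c30)) = (LP (LK LD1_c0 LD2_c34 LD3_c61)) :=
  Lre_e IH (LK LD1_c1 LD2_c15 LD3_c30) (LK LD1_c0 LD2_c34 LD3_c61) Lrfl Lrfl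
theorem f184244 : Led Lsl_df (LP (LK LD1_c2 LD2_c5 LD3_c41)) = (LP (LK LD1_c1 LD2_c15 LD3_c30)) :=
  Lgr Lrot132 (Lpe (f169420 IH) (Lpe (f169415 IH) (Lpr_gf (K10.f184237 IH) (Lpe (K0.f29045 IH) (Lpe (K1.f42484 IH) (Lpe (K1.f41532 IH) (Lpe (K1.f41531 IH) (Lpr_et (K9.f41427 IH) (Lpe (K9.f41274 IH) (Lpe (f41537 IH) (Lpn (LP (LK LD1_c1 LD2_c15 LD3_c30)))))))))))))
theorem f167820 : Led Lsl_et (LP (LK LD1_c1 LD2_c16 LD3_c7)) = (LP (LK LD1_c0 LD2_c35 LD3_c15)) :=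
  Lre_e IH (LK LD1_c1 LD2_c16 LD3_c7) (LK LD1_c0 LD2_c35 LD3_c15) Lrfl Lrfl
theorem f167821 : Led Lsl_et (LP (LK LD1_c0 LD2_c34 LD3_c61)) = (LP (LK LD1_c1 LD2_c15 LD3_c30)) :=
  Lre_e IH (LK LD1_c0 LD2_c34 LD3_c61) (LK LD1_c1 LD2_c15 LD3_c30) Lrfl Lrfl
theorem f167822 : Led Lsl_bf (LP (LK LD1_c1 LD2_c16 LD3_c7)) = (LP (LK LD1_c1 LD2_c15 LD3_c30)) :=
  Lgr Lrot96 (Lpr_et (f167820 IH) (Lpr_bt (K9.f167809 IH) (Lpr_et (f167821 IH) (Lpn (LP (LK LD1_c1 LD2_c15 LD3_c30))))))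
theorem f169143 : Led Lsl_bt (LP (LK LD1_c1 LD2_c16 LD3_c7)) = (LP (LK LD1_c1 LD2_c15 LD3_c30)) :=
  Lgr Lrot127 (Lpr_bf (f167822 IH) (Lpn (LP (LK LD1_c1 LD2_c15 LD3_c30))))
theorem f169155 : Led Lsl_dt (LP (LK LD1_c2 LD2_c38 LD3_c22)) = (LP (LK LD1_c1 LD2_c16 LD3_c7)) :=
  Lre_d IH (LK LD1_c2 LD2_c38 LD3_c22) (LK LD1_c1 LD2_c16 LD3_c7) Lrfl Lrfl
theorem f184246 : Led Lsl_bt (LP (LK LD1_c2 LD2_c5 LD3_c41)) = (LP (LK LD1_c2 LD2_c38 LD3_c22)) :=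
  Lgr Lrot95 (Lpr_df (f184244 IH) (Lpe (f169143 IH) (Lpe (f169155 IH) (Lpn (LP (LK LD1_c2 LD2_c38 LD3_c22))))))
theorem f169148 : Led Lsl_dt (LP (LK LD1_c1 LD2_c16 LD3_c7)) = (LP (LK LD1_c2 LD2_c38 LD3_c22)) :=
  Lre_d IH (LK LD1_c1 LD2_c16 LD3_c7) (LK LD1_c2 LD2_c38 LD3_c22) Lrfl Lrfl
theorem f229634 : Led Lsl_dt (LP (LK LD1_c1 LD2_c55 LD3_c12)) = (LP (LK LD1_c3 LD2_c56 LD3_c56)) :=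
  Lre_d IH (LK LD1_c1 LD2_c55 LD3_c12) (LK LD1_c3 LD2_c56 LD3_c56) Lrfl Lrfl
theorem f229641 : Led Lsl_gf (LP (LK LD1_c2 LD2_c38 LD3_c22)) = (LP (LK LD1_c3 LD2_c56 LD3_c56)) :=
  Lgr Lrot134 (Lpe (f169148 IH) (Lpr_et (f167820 IH) (Lpe (K12.f196566 IH) (Lpe (K9.f47816 IH) (Lpe (K10.f47517 IH) (Lpr_gt (K1.f47801 IH) (Lpe (K1.f29029 IH) (Lpr_et (K12.f29025 IH) (Lpr_gt (K12.f229627 IH) (Lpr_dt (f229634 IH) (Lpn (LP (LK LD1_c3 LD2_c56 LD3_c56)))))))))))))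
theorem f229467 : Led Lsl_bt (LP (LK LD1_c1 LD2_c55 LD3_c13)) = (LP (LK LD1_c3 LD2_c56 LD3_c56)) :=
  Lre_b IH (LK LD1_c1 LD2_c55 LD3_c13) (LK LD1_c3 LD2_c56 LD3_c56) Lrfl Lrfl
theorem f211428 : Led Lsl_ct (LP (LK LD1_c2 LD2_c8 LD3_c46)) = (LP (LK LD1_c4 LD2_c22 LD3_c40)) :=
  Lre_c IH (LK LD1_c2 LD2_c8 LD3_c46) (LK LD1_c4 LD2_c22 LD3_c40) Lrfl Lrfl
theorem f224884 : Led Lsl_bt (LP (LK LD1_c2 LD2_c8 LD3_c46)) = (LP (LK LD1_c1 LD2_c1 LD3_c35)) :=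
  Lre_b IH (LK LD1_c2 LD2_c8 LD3_c46) (LK LD1_c1 LD2_c1 LD3_c35) Lrfl Lrfl
theorem f53325 : Led Lsl_gt (LP (LK LD1_c0 LD2_c58 LD3_c43)) = (LP (LK LD1_c0 LD2_c26 LD3_c36)) :=
  Lre_g IH (LK LD1_c0 LD2_c58 LD3_c43) (LK LD1_c0 LD2_c26 LD3_c36) Lrfl Lrfl
theorem f166468 : Led Lsl_ct (LP (LK LD1_c0 LD2_c58 LD3_c43)) = (LP (LK LD1_c2 LD2_c3 LD3_c34)) :=
  Lre_c IH (LK LD1_c0 LD2_c58 LD3_c43) (LK LD1_c2 LD2_c3 LD3_c34) Lrfl Lrfl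
theorem f170163 : Led Lsl_gt (LP (LK LD1_c2 LD2_c3 LD3_c34)) = (LP (LK LD1_c0 LD2_c59 LD3_c56)) :=
  Lgr Lrot94 (Lpe (f166468 IH) (Lpr_gt (f53325 IH) (Lpr_dt (K9.f53324 IH) (Lpr_gt (K9.f166442 IH) (Lpr_dt (K0.f279 IH) (Lpe (K0.f283 IH) (Lpr_df (K0.f2226 IH) (Lpe (K9.f170109 IH) (Lpr_df (K9.f170151 IH) (Lpn (LP (LK LD1_c0 LD2_c59 LD3_c56))))))))))))
theorem f170173 : Led Lsl_bt (LP (LK LD1_c0 LD2_c58 LD3_c43)) = (LP (LK LD1_c2 LD2_c3 LD3_c33)) :=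
  Lre_b IH (LK LD1_c0 LD2_c58 LD3_c43) (LK LD1_c2 LD2_c3 LD3_c33) Lrfl Lrfl
theorem f232262 : Led Lsl_gf (LP (LK LD1_c2 LD2_c3 LD3_c33)) = (LP (LK LD1_c1 LD2_c1 LD3_c35)) :=
  Lgr Lrot124 (Lpe (f170173 IH) (Lpr_ct (f166468 IH) (Lpr_gt (f170163 IH) (Lpe (K9.f167761 IH) (Lpr_bt (K12.f170113 IH) (Lpr_gt (f169420 IH) (Lpr_ct (f170174 IH) (Lpr_gt (f232259 IH) (Lpe (f211428 IH) (Lpr_bt (f224884 IH) (Lpn (LP (LK LD1_c1 LD2_c1 LD3_c35)))))))))))))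
theorem f178322 : Led Lsl_ct (LP (LK LD1_c2 LD2_c3 LD3_c33)) = (LP (LK LD1_c4 LD2_c12 LD3_c42)) :=
  Lre_c IH (LK LD1_c2 LD2_c3 LD3_c33) (LK LD1_c4 LD2_c12 LD3_c42) Lrfl Lrfl
theorem f232266 : Led Lsl_gf (LP (LK LD1_c3 LD2_c56 LD3_c59)) = (LP (LK LD1_c4 LD2_c12 LD3_c42)) :=
  Lgr Lrot129 (Lpe (K12.f42737 IH) (Lpr_bt (f229467 IH) (Lpe (f229641 IH) (Lpe (f184246 IH) (Lpr_ct (f170174 IH) (Lpr_gt (f232259 IH) (Lpe (f211428 IH) (Lpr_bt (f224884 IH) (Lpe (f232262 IH) (Lpr_ct (f178322 IH) (Lpn (LP (LK LD1_c4 LD2_c12 LD3_c42)))))))))))))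
theorem f232270 : Led Lsl_gf (LP (LK LD1_c1 LD2_c1 LD3_c27)) = (LP (LK LD1_c2 LD2_c3 LD3_c33)) :=
  Lgr Lrot144 (Lpr_dt (K12.f173348 IH) (Lpr_gt (K12.f193266 IH) (Lpr_dt (K12.f29194 IH) (Lpe (K1.f29636 IH) (Lpe (K1.f29681 IH) (Lpr_gf (K13.f30677 IH) (Lpe (K12.f229463 IH) (Lpr_gf (f232266 IH) (Lpe (f178322 IH) (Lpn (LP (LK LD1_c2 LD2_c3 LD3_c33))))))))))))
theorem f197711 : Led Lsl_bt (LP (LK LD1_c2 LD2_c8 LD3_c35)) = (LP (LK LD1_c1 LD2_c1 LD3_c27)) :=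
  Lre_b IH (LK LD1_c2 LD2_c8 LD3_c35) (LK LD1_c1 LD2_c1 LD3_c27) Lrfl Lrfl
theorem f173260 : Led Lsl_ct (LP (LK LD1_c2 LD2_c8 LD3_c35)) = (LP (LK LD1_c4 LD2_c22 LD3_c18)) :=
  Lre_c IH (LK LD1_c2 LD2_c8 LD3_c35) (LK LD1_c4 LD2_c22 LD3_c18) Lrfl Lrfl
theorem f166469 : Led Lsl_ct (LP (LK LD1_c2 LD2_c3 LD3_c34)) = (LP (LK LD1_c0 LD2_c58 LD3_c43)) :=
  Lre_c IH (LK LD1_c2 LD2_c3 LD3_c34) (LK LD1_c0 LD2_c58 LD3_c43) Lrfl Lrfl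
theorem f170180 : Led Lsl_gt (LP (LK LD1_c1 LD2_c0 LD3_c2)) = (LP (LK LD1_c2 LD2_c3 LD3_c34)) :=
  Lgr Lrot146 (Lpr_dt (K9.f170160 IH) (Lpr_gt (K9.f167291 IH) (Lpr_ct (K0.f283 IH) (Lpr_gt (K9.f2214 IH) (Lpe (K9.f167044 IH) (Lpr_dt (K9.f167046 IH) (Lpe (K9.f166992 IH) (Lpe (f53325 IH) (Lpe (f166469 IH) (Lpn (LP (LK LD1_c2 LD2_c3 LD3_c34))))))))))))
theorem f167652 : Led Lsl_bt (LP (LK LD1_c2 LD2_c5 LD3_c48)) = (LP (LK LD1_c0 LD2_c59 LD3_c54)) :=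
  Lre_b IH (LK LD1_c2 LD2_c5 LD3_c48) (LK LD1_c0 LD2_c59 LD3_c54) Lrfl Lrfl
theorem f167654 : Led Lsl_ct (LP (LK LD1_c2 LD2_c5 LD3_c48)) = (LP (LK LD1_c4 LD2_c16 LD3_c61)) :=
  Lre_c IH (LK LD1_c2 LD2_c5 LD3_c48) (LK LD1_c4 LD2_c16 LD3_c61) Lrfl Lrfl
theorem f232279 : Led Lsl_gt (LP (LK LD1_c4 LD2_c22 LD3_c18)) = (LP (LK LD1_c4 LD2_c16 LD3_c61)) :=
  Lgr Lrot65 (Lpe (f173260 IH) (Lpr_bt (f197711 IH) (Lpr_gf (f232270 IH) (Lpe (f170173 IH) (Lpr_ct (f166468 IH) (Lpe (f170180 IH) (Lpe (K9.f7991 IH) (Lpe (K12.f167650 IH) (Lpe (f167652 IH) (Lpr_ct (f167654 IH) (Lpn (LP (LK LD1_c4 LD2_c16 LD3_c61)))))))))))))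
theorem f167657 : Led Lsl_bt (LP (LK LD1_c1 LD2_c0 LD3_c0)) = (LP (LK LD1_c0 LD2_c27 LD3_c17)) :=
  Lre_b IH (LK LD1_c1 LD2_c0 LD3_c0) (LK LD1_c0 LD2_c27 LD3_c17) Lrfl Lrfl
theorem f167658 : Led Lsl_ct (LP (LK LD1_c1 LD2_c0 LD3_c0)) = (LP (LK LD1_c2 LD2_c6 LD3_c1)) :=
  Lre_c IH (LK LD1_c1 LD2_c0 LD3_c0) (LK LD1_c2 LD2_c6 LD3_c1) Lrfl Lrfl
theorem f167659 : Led Lsl_gt (LP (LK LD1_c2 LD2_c6 LD3_c1)) = (LP (LK LD1_c4 LD2_c17 LD3_c22)) :=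
  Lre_g IH (LK LD1_c2 LD2_c6 LD3_c1) (LK LD1_c4 LD2_c17 LD3_c22) Lrfl Lrfl
theorem f229617 : Led Lsl_dt (LP (LK LD1_c1 LD2_c8 LD3_c51)) = (LP (LK LD1_c2 LD2_c23 LD3_c30)) :=
  Lre_d IH (LK LD1_c1 LD2_c8 LD3_c51) (LK LD1_c2 LD2_c23 LD3_c30) Lrfl Lrfl
theorem f229618 : Led Lsl_gt (LP (LK LD1_c2 LD2_c23 LD3_c30)) = (LP (LK LD1_c4 LD2_c51 LD3_c20)) :=
  Lre_g IH (LK LD1_c2 LD2_c23 LD3_c30) (LK LD1_c4 LD2_c51 LD3_c20) Lrfl Lrfl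
theorem f231110 : Led Lsl_ct (LP (LK LD1_c4 LD2_c10 LD3_c0)) = (LP (LK LD1_c2 LD2_c2 LD3_c13)) :=
  Lre_c IH (LK LD1_c4 LD2_c10 LD3_c0) (LK LD1_c2 LD2_c2 LD3_c13) Lrfl Lrfl
theorem f231097 : Led Lsl_at (LP (LK LD1_c2 LD2_c2 LD3_c20)) = (LP (LK LD1_c4 LD2_c10 LD3_c0)) :=
  Lre_a IH (LK LD1_c2 LD2_c2 LD3_c20) (LK LD1_c4 LD2_c10 LD3_c0) Lrfl Lrfl
theorem f231106 : Led Lsl_gt (LP (LK LD1_c4 LD2_c17 LD3_c22)) = (LP (LK LD1_c4 LD2_c10 LD3_c0)) :=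
  Lgr Lrot46 (Lpe (f167659 IH) (Lpr_ft (K12.f231094 IH) (Lpr_at (f231097 IH) (Lpn (LP (LK LD1_c4 LD2_c10 LD3_c0))))))
theorem f231239 : Led Lsl_ct (LP (LK LD1_c4 LD2_c51 LD3_c20)) = (LP (LK LD1_c4 LD2_c17 LD3_c22)) :=
  Lgr Lrot152 (Lpe (f229618 IH) (Lpe (f229617 IH) (Lpr_gt (K13.f229615 IH) (Lpe (K8.f44552 IH) (Lpr_gt (K12.f231232 IH) (Lpr_ct (K12.f231228 IH) (Lpe (K12.f230945 IH) (Lpe (f231110 IH) (Lpe (f231106 IH) (Lpn (LP (LK LD1_c4 LD2_c17 LD3_c22))))))))))))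
theorem f232288 : Led Lsl_bf (LP (LK LD1_c4 LD2_c22 LD3_c17)) = (LP (LK LD1_c4 LD2_c51 LD3_c20)) :=
  Lgr Lrot165 (Lpr_gt (f173263 IH) (Lpr_ct (f173260 IH) (Lpr_gt (f232279 IH) (Lpe (f167654 IH) (Lpr_bt (f167652 IH) (Lpr_gt (K12.f167650 IH) (Lpe (f167657 IH) (Lpr_ct (f167658 IH) (Lpr_gt (f167659 IH) (Lpe (f231239 IH) (Lpn (LP (LK LD1_c4 LD2_c51 LD3_c20)))))))))))))
theorem f7877 : Led Lsl_gt (LP (LK LD1_c2 LD2_c6 LD3_c0)) = (LP (LK LD1_c1 LD2_c0 LD3_c0)) :=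
  Lre_g IH (LK LD1_c2 LD2_c6 LD3_c0) (LK LD1_c1 LD2_c0 LD3_c0) Lrfl Lrfl
theorem f238620 : Led Lsl_bt (LP (LK LD1_c2 LD2_c7 LD3_c2)) = (LP (LK LD1_c2 LD2_c6 LD3_c0)) :=
  Lgr Lrot130 (Lpr_ct (K13.f236476 IH) (Lpr_gf (K13.f238511 IH) (Lpe (K13.f193270 IH) (Lpr_bt (f232300 IH) (Lpe (f173263 IH) (Lpr_bf (f232288 IH) (Lpr_ct (f231239 IH) (Lpe (f167659 IH) (Lpe (f167658 IH) (Lpe (f7877 IH) (Lpn (LP (LK LD1_c2 LD2_c6 LD3_c0)))))))))))))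
theorem f238525 : Led Lsl_et (LP (LK LD1_c4 LD2_c19 LD3_c15)) = (LP (LK LD1_c2 LD2_c7 LD3_c2)) :=
  Lre_e IH (LK LD1_c4 LD2_c19 LD3_c15) (LK LD1_c2 LD2_c7 LD3_c2) Lrfl Lrfl
theorem f238631 : Led Lsl_et (LP (LK LD1_c2 LD2_c6 LD3_c0)) = (LP (LK LD1_c4 LD2_c17 LD3_c21)) :=
  Lre_e IH (LK LD1_c2 LD2_c6 LD3_c0) (LK LD1_c4 LD2_c17 LD3_c21) Lrfl Lrfl
theorem f238632 : Led Lsl_bf (LP (LK LD1_c4 LD2_c19 LD3_c15)) = (LP (LK LD1_c4 LD2_c17 LD3_c21)) :=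
  Lgr Lrot96 (Lpr_et (f238525 IH) (Lpr_bt (f238620 IH) (Lpr_et (f238631 IH) (Lpn (LP (LK LD1_c4 LD2_c17 LD3_c21))))))
theorem f238643 : Led Lsl_ft (LP (LK LD1_c4 LD2_c19 LD3_c15)) = (LP (LK LD1_c8 LD2_c36 LD3_c59)) :=
  Lre_f IH (LK LD1_c4 LD2_c19 LD3_c15) (LK LD1_c8 LD2_c36 LD3_c59) Lrfl Lrfl
theorem f238644 : Led Lsl_ft (LP (LK LD1_c8 LD2_c33 LD3_c50)) = (LP (LK LD1_c4 LD2_c17 LD3_c21)) :=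
  Lre_f IH (LK LD1_c8 LD2_c33 LD3_c50) (LK LD1_c4 LD2_c17 LD3_c21) Lrfl Lrfl
theorem f238645 : Led Lsl_bt (LP (LK LD1_c8 LD2_c36 LD3_c59)) = (LP (LK LD1_c8 LD2_c33 LD3_c50)) :=
  Lgr Lrot35 (Lpe (f238643 IH) (Lpr_bf (f238632 IH) (Lpe (f238644 IH) (Lpn (LP (LK LD1_c8 LD2_c33 LD3_c50))))))
theorem f238651 : Led Lsl_bf (LP (LK LD1_c8 LD2_c36 LD3_c59)) = (LP (LK LD1_c8 LD2_c33 LD3_c50)) :=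
  Lgr Lrot24 (Lpr_bt (f238645 IH) (Lpn (LP (LK LD1_c8 LD2_c33 LD3_c50))))
theorem f247373 : Led Lsl_df (LP (LK LD1_c8 LD2_c33 LD3_c50)) = (LP (LK LD1_c4 LD2_c28 LD3_c3)) :=
  Lgr Lrot12 (Lpe (f238651 IH) (Lpr_dt (f238712 IH) (Lpr_bt (f247356 IH) (Lpn (LP (LK LD1_c4 LD2_c28 LD3_c3))))))
theorem f247381 : Led Lsl_dt (LP (LK LD1_c8 LD2_c33 LD3_c50)) = (LP (LK LD1_c4 LD2_c28 LD3_c3)) :=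
  Lgr Lrot42 (Lpr_df (f247373 IH) (Lpn (LP (LK LD1_c4 LD2_c28 LD3_c3))))
theorem f238714 : Led Lsl_ft (LP (LK LD1_c4 LD2_c17 LD3_c21)) = (LP (LK LD1_c8 LD2_c33 LD3_c50)) :=
  Lre_f IH (LK LD1_c4 LD2_c17 LD3_c21) (LK LD1_c8 LD2_c33 LD3_c50) Lrfl Lrfl
theorem f247387 : Led Lsl_df (LP (LK LD1_c4 LD2_c17 LD3_c21)) = (LP (LK LD1_c2 LD2_c11 LD3_c11)) :=
  Lgr Lrot78 (Lpr_ft (f238714 IH) (Lpr_dt (f247381 IH) (Lpr_ft (f247355 IH) (Lpn (LP (LK LD1_c2 LD2_c11 LD3_c11))))))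
theorem f7878 : Led Lsl_et (LP (LK LD1_c4 LD2_c17 LD3_c21)) = (LP (LK LD1_c2 LD2_c6 LD3_c0)) :=
  Lre_e IH (LK LD1_c4 LD2_c17 LD3_c21) (LK LD1_c2 LD2_c6 LD3_c0) Lrfl Lrfl
theorem f247392 : Led Lsl_et (LP (LK LD1_c1 LD2_c2 LD3_c37)) = (LP (LK LD1_c0 LD2_c28 LD3_c32)) :=
  Lre_e IH (LK LD1_c1 LD2_c2 LD3_c37) (LK LD1_c0 LD2_c28 LD3_c32) Lrfl Lrfl
theorem f247393 : Led Lsl_dt (LP (LK LD1_c2 LD2_c6 LD3_c0)) = (LP (LK LD1_c1 LD2_c2 LD3_c37)) :=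
  Lgr Lrot77 (Lpe (f7878 IH) (Lpr_df (f247387 IH) (Lpe (f247343 IH) (Lpe (f168604 IH) (Lpe (f247392 IH) (Lpn (LP (LK LD1_c1 LD2_c2 LD3_c37))))))))
theorem f247405 : Led Lsl_df (LP (LK LD1_c2 LD2_c6 LD3_c0)) = (LP (LK LD1_c1 LD2_c2 LD3_c37)) :=
  Lgr Lrot38 (Lpr_dt (f247393 IH) (Lpn (LP (LK LD1_c1 LD2_c2 LD3_c37))))
theorem f42116 : Led Lsl_et (LP (LK LD1_c0 LD2_c5 LD3_c46)) = (LP (LK LD1_c0 LD2_c12 LD3_c37)) :=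
  Lre_e IH (LK LD1_c0 LD2_c5 LD3_c46) (LK LD1_c0 LD2_c12 LD3_c37) Lrfl Lrfl
theorem f219117 : Led Lsl_af (LP (LK LD1_c0 LD2_c59 LD3_c60)) = (LP (LK LD1_c0 LD2_c58 LD3_c1)) :=
  Lgr Lrot68 (Lpe (K11.f199816 IH) (Lpr_at (K9.f40829 IH) (Lpr_ct (K12.f219075 IH) (Lpn (LP (LK LD1_c0 LD2_c58 LD3_c1))))))
theorem f219201 : Led Lsl_ft (LP (LK LD1_c0 LD2_c35 LD3_c2)) = (LP (LK LD1_c0 LD2_c58 LD3_c1)) :=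
  Lgr Lrot54 (Lpe (K9.f41895 IH) (Lpr_ff (K12.f219162 IH) (Lpe (K12.f170850 IH) (Lpn (LP (LK LD1_c0 LD2_c58 LD3_c1))))))
theorem f231226 : Led Lsl_gt (LP (LK LD1_c0 LD2_c35 LD3_c2)) = (LP (LK LD1_c0 LD2_c58 LD3_c2)) :=
  Lgr Lrot5 (Lpr_ft (f219201 IH) (Lpe (f219117 IH) (Lpr_gf (K12.f231224 IH) (Lpn (LP (LK LD1_c0 LD2_c58 LD3_c2))))))
theorem f247414 : Led Lsl_gf (LP (LK LD1_c2 LD2_c6 LD3_c0)) = (LP (LK LD1_c2 LD2_c2 LD3_c13)) :=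
  Lgr Lrot134 (Lpr_df (f247405 IH) (Lpr_et (f247392 IH) (Lpr_gt (K11.f187223 IH) (Lpe (f42116 IH) (Lpr_dt (K1.f41780 IH) (Lpr_gt (K0.f418 IH) (Lpe (K1.f29031 IH) (Lpr_et (K1.f41879 IH) (Lpr_gt (f231226 IH) (Lpr_dt (K12.f231108 IH) (Lpn (LP (LK LD1_c2 LD2_c2 LD3_c13)))))))))))))
theorem f247416 : Led Lsl_et (LP (LK LD1_c0 LD2_c58 LD3_c2)) = (LP (LK LD1_c2 LD2_c2 LD3_c14)) :=
  Lre_e IH (LK LD1_c0 LD2_c58 LD3_c2) (LK LD1_c2 LD2_c2 LD3_c14) Lrfl Lrfl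
theorem f230939 : Led Lsl_gt (LP (LK LD1_c4 LD2_c10 LD3_c2)) = (LP (LK LD1_c2 LD2_c2 LD3_c14)) :=
  Lre_g IH (LK LD1_c4 LD2_c10 LD3_c2) (LK LD1_c2 LD2_c2 LD3_c14) Lrfl Lrfl
theorem f42117 : Led Lsl_dt (LP (LK LD1_c0 LD2_c12 LD3_c37)) = (LP (LK LD1_c0 LD2_c28 LD3_c33)) :=
  Lre_d IH (LK LD1_c0 LD2_c12 LD3_c37) (LK LD1_c0 LD2_c28 LD3_c33) Lrfl Lrfl
theorem f235210 : Led Lsl_gt (LP (LK LD1_c0 LD2_c28 LD3_c33)) = (LP (LK LD1_c1 LD2_c2 LD3_c38)) :=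
  Lre_g IH (LK LD1_c0 LD2_c28 LD3_c33) (LK LD1_c1 LD2_c2 LD3_c38) Lrfl Lrfl
theorem f7848 : Led Lsl_gt (LP (LK LD1_c1 LD2_c0 LD3_c1)) = (LP (LK LD1_c2 LD2_c6 LD3_c3)) :=
  Lre_g IH (LK LD1_c1 LD2_c0 LD3_c1) (LK LD1_c2 LD2_c6 LD3_c3) Lrfl Lrfl
theorem f168603 : Led Lsl_gt (LP (LK LD1_c1 LD2_c2 LD3_c32)) = (LP (LK LD1_c0 LD2_c28 LD3_c32)) :=
  Lre_g IH (LK LD1_c1 LD2_c2 LD3_c32) (LK LD1_c0 LD2_c28 LD3_c32) Lrfl Lrfl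
theorem f41417 : Led Lsl_bt (LP (LK LD1_c0 LD2_c35 LD3_c1)) = (LP (LK LD1_c1 LD2_c2 LD3_c32)) :=
  Lre_b IH (LK LD1_c0 LD2_c35 LD3_c1) (LK LD1_c1 LD2_c2 LD3_c32) Lrfl Lrfl
theorem f41418 : Led Lsl_ef (LP (LK LD1_c1 LD2_c2 LD3_c32)) = (LP (LK LD1_c1 LD2_c2 LD3_c32)) :=
  Lgr Lrot29 (Lpr_bt (K12.f41416 IH) (Lpr_et (K1.f41401 IH) (Lpr_bt (f41417 IH) (Lpn (LP (LK LD1_c1 LD2_c2 LD3_c32))))))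
theorem f247412 : Led Lsl_dt (LP (LK LD1_c2 LD2_c6 LD3_c3)) = (LP (LK LD1_c1 LD2_c2 LD3_c38)) :=
  Lgr Lrot171 (Lpe (f7848 IH) (Lpe (K11.f7816 IH) (Lpr_dt (K13.f7867 IH) (Lpe (f7877 IH) (Lpr_df (f247405 IH) (Lpr_et (f247392 IH) (Lpe (f168603 IH) (Lpr_ef (f41418 IH) (Lpr_dt (f41549 IH) (Lpe (K12.f41558 IH) (Lpn (LP (LK LD1_c1 LD2_c2 LD3_c38)))))))))))))
theorem f247417 : Led Lsl_ef (LP (LK LD1_c4 LD2_c10 LD3_c2)) = (LP (LK LD1_c2 LD2_c6 LD3_c3)) :=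
  Lgr Lrot114 (Lpr_gt (f230939 IH) (Lpe (f247416 IH) (Lpr_dt (K12.f231108 IH) (Lpe (f247414 IH) (Lpr_df (f247405 IH) (Lpr_et (f247392 IH) (Lpr_gt (K11.f187223 IH) (Lpr_dt (f42117 IH) (Lpr_gt (f235210 IH) (Lpe (f247412 IH) (Lpn (LP (LK LD1_c2 LD2_c6 LD3_c3)))))))))))))
theorem f44052 : Led Lsl_et (LP (LK LD1_c0 LD2_c12 LD3_c37)) = (LP (LK LD1_c0 LD2_c5 LD3_c46)) :=
  Lre_e IH (LK LD1_c0 LD2_c12 LD3_c37) (LK LD1_c0 LD2_c5 LD3_c46) Lrfl Lrfl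
theorem f41835 : Led Lsl_dt (LP (LK LD1_c0 LD2_c28 LD3_c29)) = (LP (LK LD1_c1 LD2_c2 LD3_c28)) :=
  Lre_d IH (LK LD1_c0 LD2_c28 LD3_c29) (LK LD1_c1 LD2_c2 LD3_c28) Lrfl Lrfl
theorem f44756 : Led Lsl_gt (LP (LK LD1_c2 LD2_c10 LD3_c55)) = (LP (LK LD1_c1 LD2_c2 LD3_c28)) :=
  Lre_g IH (LK LD1_c2 LD2_c10 LD3_c55) (LK LD1_c1 LD2_c2 LD3_c28) Lrfl Lrfl
theorem f247421 : Led Lsl_dt (LP (LK LD1_c2 LD2_c2 LD3_c14)) = (LP (LK LD1_c2 LD2_c10 LD3_c55)) :=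
  Lgr Lrot171 (Lpe (f230939 IH) (Lpr_ef (f247417 IH) (Lpr_dt (f247412 IH) (Lpe (f235210 IH) (Lpe (f42117 IH) (Lpr_et (f44052 IH) (Lpe (K1.f20622 IH) (Lpe (K1.f41834 IH) (Lpr_dt (f41835 IH) (Lpe (f44756 IH) (Lpn (LP (LK LD1_c2 LD2_c10 LD3_c55)))))))))))))
theorem f199832 : Led Lsl_gf (LP (LK LD1_c1 LD2_c0 LD3_c9)) = (LP (LK LD1_c2 LD2_c5 LD3_c58)) :=
  Lgr Lrot124 (Lpe (K13.f167527 IH) (Lpr_ct (K9.f53376 IH) (Lpr_gt (K9.f170109 IH) (Lpe (K0.f2178 IH) (Lpr_bt (K13.f2209 IH) (Lpr_gt (K12.f2232 IH) (Lpe (K13.f193274 IH) (Lpe (K13.f39001 IH) (Lpe (K1.f38944 IH) (Lpr_bt (K11.f199822 IH) (Lpn (LP (LK LD1_c2 LD2_c5 LD3_c58)))))))))))))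
theorem f192359 : Led Lsl_gf (LP (LK LD1_c1 LD2_c2 LD3_c26)) = (LP (LK LD1_c0 LD2_c33 LD3_c19)) :=
  Lgr Lrot76 (Lpe (K1.f46159 IH) (Lpe (K1.f46083 IH) (Lpr_gt (K10.f192357 IH) (Lpn (LP (LK LD1_c0 LD2_c33 LD3_c19))))))
theorem f247437 : Led Lsl_gt (LP (LK LD1_c2 LD2_c10 LD3_c52)) = (LP (LK LD1_c2 LD2_c10 LD3_c55)) :=
  Lgr Lrot112 (Lpe (K13.f46135 IH) (Lpe (K1.f46131 IH) (Lpr_gf (f192359 IH) (Lpe (K13.f165194 IH) (Lpe (K13.f167423 IH) (Lpr_gf (f199832 IH) (Lpe (K11.f199769 IH) (Lpr_gf (K12.f231224 IH) (Lpe (K12.f230936 IH) (Lpr_dt (f247421 IH) (Lpn (LP (LK LD1_c2 LD2_c10 LD3_c55)))))))))))))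
theorem f183828 : Led Lsl_ct (LP (LK LD1_c1 LD2_c2 LD3_c27)) = (LP (LK LD1_c2 LD2_c1 LD3_c15)) :=
  Lgr Lrot59 (Lpr_cf (K9.f183826 IH) (Lpn (LP (LK LD1_c2 LD2_c1 LD3_c15))))
theorem f192361 : Led Lsl_ct (LP (LK LD1_c2 LD2_c10 LD3_c55)) = (LP (LK LD1_c4 LD2_c27 LD3_c24)) :=
  Lre_c IH (LK LD1_c2 LD2_c10 LD3_c55) (LK LD1_c4 LD2_c27 LD3_c24) Lrfl Lrfl
theorem f247443 : Led Lsl_gf (LP (LK LD1_c4 LD2_c53 LD3_c60)) = (LP (LK LD1_c4 LD2_c27 LD3_c24)) :=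
  Lgr Lrot104 (Lpr_ct (K9.f44399 IH) (Lpe (K9.f44463 IH) (Lpe (K9.f50749 IH) (Lpe (K9.f49221 IH) (Lpe (f183828 IH) (Lpr_gf (K9.f183838 IH) (Lpe (K1.f46136 IH) (Lpr_gt (f247437 IH) (Lpr_ct (f192361 IH) (Lpn (LP (LK LD1_c4 LD2_c27 LD3_c24))))))))))))
theorem f165196 : Led Lsl_dt (LP (LK LD1_c0 LD2_c33 LD3_c19)) = (LP (LK LD1_c1 LD2_c11 LD3_c61)) :=
  Lre_d IH (LK LD1_c0 LD2_c33 LD3_c19) (LK LD1_c1 LD2_c11 LD3_c61) Lrfl Lrfl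
theorem f169563 : Led Lsl_ct (LP (LK LD1_c2 LD2_c29 LD3_c59)) = (LP (LK LD1_c1 LD2_c11 LD3_c61)) :=
  Lre_c IH (LK LD1_c2 LD2_c29 LD3_c59) (LK LD1_c1 LD2_c11 LD3_c61) Lrfl Lrfl
theorem f169564 : Led Lsl_dt (LP (LK LD1_c5 LD2_c5 LD3_c25)) = (LP (LK LD1_c2 LD2_c29 LD3_c59)) :=
  Lre_d IH (LK LD1_c5 LD2_c5 LD3_c25) (LK LD1_c2 LD2_c29 LD3_c59) Lrfl Lrfl
theorem f247454 : Led Lsl_gt (LP (LK LD1_c9 LD2_c39 LD3_c27)) = (LP (LK LD1_c5 LD2_c5 LD3_c25)) :=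
  Lgr Lrot49 (Lpe (K9.f44398 IH) (Lpr_gf (f247443 IH) (Lpe (f192361 IH) (Lpr_gt (f44756 IH) (Lpr_dt (K1.f44591 IH) (Lpr_gt (K10.f192357 IH) (Lpr_dt (f165196 IH) (Lpe (f169563 IH) (Lpe (f169564 IH) (Lpn (LP (LK LD1_c5 LD2_c5 LD3_c25))))))))))))
theorem f30873 : Led Lsl_dt (LP (LK LD1_c2 LD2_c8 LD3_c0)) = (LP (LK LD1_c1 LD2_c1 LD3_c8)) :=
  Lre_d IH (LK LD1_c2 LD2_c8 LD3_c0) (LK LD1_c1 LD2_c1 LD3_c8) Lrfl Lrfl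
theorem f30892 : Led Lsl_dt (LP (LK LD1_c8 LD2_c39 LD3_c46)) = (LP (LK LD1_c4 LD2_c21 LD3_c0)) :=
  Lre_d IH (LK LD1_c8 LD2_c39 LD3_c46) (LK LD1_c4 LD2_c21 LD3_c0) Lrfl Lrfl
theorem f230669 : Led Lsl_cf (LP (LK LD1_c8 LD2_c39 LD3_c46)) = (LP (LK LD1_c10 LD2_c16 LD3_c43)) :=
  Lgr Lrot118 (Lpr_dt (f30892 IH) (Lpr_ct (K11.f30867 IH) (Lpr_dt (f30873 IH) (Lpe (K9.f44518 IH) (Lpr_dt (K9.f44530 IH) (Lpr_ct (K10.f183970 IH) (Lpe (K9.f183965 IH) (Lpr_ff (K9.f184013 IH) (Lpr_dt (K12.f230662 IH) (Lpn (LP (LK LD1_c10 LD2_c16 LD3_c43))))))))))))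
theorem f50634 : Led Lsl_ft (LP (LK LD1_c8 LD2_c39 LD3_c46)) = (LP (LK LD1_c16 LD2_c13 LD3_c30)) :=
  Lre_f IH (LK LD1_c8 LD2_c39 LD3_c46) (LK LD1_c16 LD2_c13 LD3_c30) Lrfl Lrfl
theorem f230716 : Led Lsl_ft (LP (LK LD1_c9 LD2_c39 LD3_c27)) = (LP (LK LD1_c10 LD2_c16 LD3_c43)) :=
  Lgr Lrot4 (Lpe (K9.f50630 IH) (Lpe (f50634 IH) (Lpr_cf (f230669 IH) (Lpn (LP (LK LD1_c10 LD2_c16 LD3_c43))))))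
theorem f186753 : Led Lsl_gt (LP (LK LD1_c5 LD2_c5 LD3_c25)) = (LP (LK LD1_c10 LD2_c1 LD3_c58)) :=
  Lre_g IH (LK LD1_c5 LD2_c5 LD3_c25) (LK LD1_c10 LD2_c1 LD3_c58) Lrfl Lrfl
theorem f247463 : Led Lsl_at (LP (LK LD1_c10 LD2_c16 LD3_c43)) = (LP (LK LD1_c10 LD2_c1 LD3_c58)) :=
  Lgr Lrot26 (Lpe (f230716 IH) (Lpr_gt (f247454 IH) (Lpr_gt (f186753 IH) (Lpn (LP (LK LD1_c10 LD2_c1 LD3_c58))))))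
theorem f247484 : Led Lsl_df (LP (LK LD1_c5 LD2_c16 LD3_c17)) = (LP (LK LD1_c10 LD2_c1 LD3_c58)) :=
  Lgr Lrot18 (Lpr_at (K12.f190764 IH) (Lpr_dt (K12.f230662 IH) (Lpr_at (f247463 IH) (Lpn (LP (LK LD1_c10 LD2_c1 LD3_c58))))))
theorem f247452 : Led Lsl_gt (LP (LK LD1_c5 LD2_c16 LD3_c17)) = (LP (LK LD1_c4 LD2_c27 LD3_c24)) :=
  Lgr Lrot5 (Lpr_ft (K12.f190772 IH) (Lpe (K12.f183977 IH) (Lpr_gf (f247443 IH) (Lpn (LP (LK LD1_c4 LD2_c27 LD3_c24))))))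
theorem f247425 : Led Lsl_dt (LP (LK LD1_c4 LD2_c27 LD3_c24)) = (LP (LK LD1_c8 LD2_c52 LD3_c33)) :=
  Lre_d IH (LK LD1_c4 LD2_c27 LD3_c24) (LK LD1_c8 LD2_c52 LD3_c33) Lrfl Lrfl
theorem f32810 : Led Lsl_ct (LP (LK LD1_c2 LD2_c34 LD3_c55)) = (LP (LK LD1_c1 LD2_c14 LD3_c27)) :=
  Lre_c IH (LK LD1_c2 LD2_c34 LD3_c55) (LK LD1_c1 LD2_c14 LD3_c27) Lrfl Lrfl
theorem f46200 : Led Lsl_gt (LP (LK LD1_c8 LD2_c11 LD3_c46)) = (LP (LK LD1_c4 LD2_c5 LD3_c25)) :=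
  Lre_g IH (LK LD1_c8 LD2_c11 LD3_c46) (LK LD1_c4 LD2_c5 LD3_c25) Lrfl Lrfl
theorem f247465 : Led Lsl_cf (LP (LK LD1_c8 LD2_c11 LD3_c46)) = (LP (LK LD1_c5 LD2_c5 LD3_c25)) :=
  Lgr Lrot169 (Lpr_gt (f46200 IH) (Lpr_ct (K1.f46179 IH) (Lpr_df (K13.f46187 IH) (Lpe (K13.f46171 IH) (Lpr_gf (K10.f190742 IH) (Lpe (f32810 IH) (Lpr_gf (K10.f190780 IH) (Lpe (K9.f44396 IH) (Lpr_gt (f247454 IH) (Lpn (LP (LK LD1_c5 LD2_c5 LD3_c25))))))))))))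
theorem f247470 : Led Lsl_ct (LP (LK LD1_c8 LD2_c11 LD3_c46)) = (LP (LK LD1_c5 LD2_c5 LD3_c25)) :=
  Lgr Lrot59 (Lpr_cf (f247465 IH) (Lpn (LP (LK LD1_c5 LD2_c5 LD3_c25))))
theorem f47266 : Led Lsl_dt (LP (LK LD1_c4 LD2_c5 LD3_c25)) = (LP (LK LD1_c1 LD2_c59 LD3_c53)) :=
  Lre_d IH (LK LD1_c4 LD2_c5 LD3_c25) (LK LD1_c1 LD2_c59 LD3_c53) Lrfl Lrfl
theorem f188067 : Led Lsl_dt (LP (LK LD1_c4 LD2_c5 LD3_c23)) = (LP (LK LD1_c8 LD2_c11 LD3_c40)) :=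
  Lre_d IH (LK LD1_c4 LD2_c5 LD3_c23) (LK LD1_c8 LD2_c11 LD3_c40) Lrfl Lrfl
theorem f247523 : Led Lsl_ct (LP (LK LD1_c8 LD2_c52 LD3_c33)) = (LP (LK LD1_c8 LD2_c11 LD3_c40)) :=
  Lgr Lrot7 (Lpe (f247425 IH) (Lpe (f247452 IH) (Lpr_df (f247484 IH) (Lpe (f186753 IH) (Lpe (f247470 IH) (Lpr_gt (f46200 IH) (Lpr_dt (f47266 IH) (Lpr_gt (K10.f188073 IH) (Lpr_dt (f188067 IH) (Lpn (LP (LK LD1_c8 LD2_c11 LD3_c40))))))))))))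
theorem f230924 : Led Lsl_at (LP (LK LD1_c4 LD2_c10 LD3_c3)) = (LP (LK LD1_c2 LD2_c2 LD3_c24)) :=
  Lre_a IH (LK LD1_c4 LD2_c10 LD3_c3) (LK LD1_c2 LD2_c2 LD3_c24) Lrfl Lrfl
theorem f170662 : Led Lsl_ct (LP (LK LD1_c4 LD2_c10 LD3_c10)) = (LP (LK LD1_c2 LD2_c2 LD3_c24)) :=
  Lre_c IH (LK LD1_c4 LD2_c10 LD3_c10) (LK LD1_c2 LD2_c2 LD3_c24) Lrfl Lrfl
theorem f47281 : Led Lsl_dt (LP (LK LD1_c8 LD2_c11 LD3_c40)) = (LP (LK LD1_c4 LD2_c5 LD3_c23)) :=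
  Lre_d IH (LK LD1_c8 LD2_c11 LD3_c40) (LK LD1_c4 LD2_c5 LD3_c23) Lrfl Lrfl
theorem f188065 : Led Lsl_cf (LP (LK LD1_c4 LD2_c7 LD3_c49)) = (LP (LK LD1_c4 LD2_c5 LD3_c23)) :=
  Lgr Lrot11 (Lpr_ct (K10.f188062 IH) (Lpn (LP (LK LD1_c4 LD2_c5 LD3_c23))))
theorem f247530 : Led Lsl_df (LP (LK LD1_c4 LD2_c10 LD3_c10)) = (LP (LK LD1_c4 LD2_c7 LD3_c49)) :=
  Lgr Lrot177 (Lpr_ct (f170662 IH) (Lpe (f230924 IH) (Lpe (K12.f230785 IH) (Lpr_dt (f247421 IH) (Lpr_ct (f192361 IH) (Lpr_dt (f247425 IH) (Lpr_ct (f247523 IH) (Lpr_dt (f47281 IH) (Lpe (f188065 IH) (Lpn (LP (LK LD1_c4 LD2_c7 LD3_c49))))))))))))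
theorem f47964 : Led Lsl_ct (LP (LK LD1_c7 LD2_c58 LD3_c2)) = (LP (LK LD1_c3 LD2_c58 LD3_c19)) :=
  Lre_c IH (LK LD1_c7 LD2_c58 LD3_c2) (LK LD1_c3 LD2_c58 LD3_c19) Lrfl Lrfl
theorem f188588 : Led Lsl_gt (LP (LK LD1_c7 LD2_c57 LD3_c53)) = (LP (LK LD1_c3 LD2_c58 LD3_c15)) :=
  Lre_g IH (LK LD1_c7 LD2_c57 LD3_c53) (LK LD1_c3 LD2_c58 LD3_c15) Lrfl Lrfl
theorem f231301 : Led Lsl_gt (LP (LK LD1_c4 LD2_c27 LD3_c44)) = (LP (LK LD1_c2 LD2_c11 LD3_c2)) :=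
  Lre_g IH (LK LD1_c4 LD2_c27 LD3_c44) (LK LD1_c2 LD2_c11 LD3_c2) Lrfl Lrfl
theorem f231304 : Led Lsl_cf (LP (LK LD1_c7 LD2_c57 LD3_c53)) = (LP (LK LD1_c4 LD2_c27 LD3_c44)) :=
  Lgr Lrot166 (Lpr_gt (f188588 IH) (Lpr_dt (K12.f190811 IH) (Lpr_gt (K10.f44450 IH) (Lpr_dt (K1.f44442 IH) (Lpe (K9.f47520 IH) (Lpe (K9.f49216 IH) (Lpe (K12.f47813 IH) (Lpr_df (K12.f231248 IH) (Lpe (f231301 IH) (Lpn (LP (LK LD1_c4 LD2_c27 LD3_c44))))))))))))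
theorem f247540 : Led Lsl_gt (LP (LK LD1_c4 LD2_c10 LD3_c10)) = (LP (LK LD1_c4 LD2_c27 LD3_c44)) :=
  Lgr Lrot9 (Lpr_df (f247530 IH) (Lpe (K10.f50618 IH) (Lpr_ct (K9.f30959 IH) (Lpe (K10.f194351 IH) (Lpr_ct (f47964 IH) (Lpe (K10.f41371 IH) (Lpe (K10.f47974 IH) (Lpe (f188588 IH) (Lpr_cf (f231304 IH) (Lpn (LP (LK LD1_c4 LD2_c27 LD3_c44))))))))))))
theorem f170839 : Led Lsl_ft (LP (LK LD1_c4 LD2_c10 LD3_c10)) = (LP (LK LD1_c2 LD2_c2 LD3_c17)) :=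
  Lre_f IH (LK LD1_c4 LD2_c10 LD3_c10) (LK LD1_c2 LD2_c2 LD3_c17) Lrfl Lrfl
theorem f247542 : Led Lsl_at (LP (LK LD1_c2 LD2_c2 LD3_c17)) = (LP (LK LD1_c2 LD2_c11 LD3_c2)) :=
  Lgr Lrot26 (Lpe (f170839 IH) (Lpr_gt (f247540 IH) (Lpr_gt (f231301 IH) (Lpn (LP (LK LD1_c2 LD2_c11 LD3_c2))))))
theorem f231300 : Led Lsl_ft (LP (LK LD1_c2 LD2_c11 LD3_c2)) = (LP (LK LD1_c4 LD2_c27 LD3_c45)) :=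
  Lre_f IH (LK LD1_c2 LD2_c11 LD3_c2) (LK LD1_c4 LD2_c27 LD3_c45) Lrfl Lrfl
theorem f247550 : Led Lsl_af (LP (LK LD1_c4 LD2_c10 LD3_c10)) = (LP (LK LD1_c4 LD2_c27 LD3_c45)) :=
  Lgr Lrot45 (Lpr_ft (f170839 IH) (Lpr_at (f247542 IH) (Lpr_ft (f231300 IH) (Lpn (LP (LK LD1_c4 LD2_c27 LD3_c45))))))
theorem f247538 : Led Lsl_df (LP (LK LD1_c2 LD2_c2 LD3_c24)) = (LP (LK LD1_c1 LD2_c14 LD3_c27)) :=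
  Lgr Lrot84 (Lpe (f170662 IH) (Lpr_df (f247530 IH) (Lpe (K10.f49235 IH) (Lpe (K12.f47812 IH) (Lpe (K9.f49221 IH) (Lpe (f183828 IH) (Lpr_gt (K9.f44597 IH) (Lpr_dt (f41835 IH) (Lpr_gt (K10.f190744 IH) (Lpn (LP (LK LD1_c1 LD2_c14 LD3_c27))))))))))))
theorem f32811 : Led Lsl_dt (LP (LK LD1_c5 LD2_c16 LD3_c18)) = (LP (LK LD1_c2 LD2_c34 LD3_c55)) :=
  Lre_d IH (LK LD1_c5 LD2_c16 LD3_c18) (LK LD1_c2 LD2_c34 LD3_c55) Lrfl Lrfl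
theorem f47265 : Led Lsl_ct (LP (LK LD1_c1 LD2_c59 LD3_c53)) = (LP (LK LD1_c0 LD2_c56 LD3_c50)) :=
  Lre_c IH (LK LD1_c1 LD2_c59 LD3_c53) (LK LD1_c0 LD2_c56 LD3_c50) Lrfl Lrfl
theorem f47304 : Led Lsl_gt (LP (LK LD1_c4 LD2_c5 LD3_c24)) = (LP (LK LD1_c1 LD2_c59 LD3_c53)) :=
  Lre_g IH (LK LD1_c4 LD2_c5 LD3_c24) (LK LD1_c1 LD2_c59 LD3_c53) Lrfl Lrfl
theorem f50614 : Led Lsl_gt (LP (LK LD1_c4 LD2_c21 LD3_c1)) = (LP (LK LD1_c4 LD2_c7 LD3_c50)) :=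
  Lgr Lrot5 (Lpr_ft (K9.f30872 IH) (Lpr_at (K9.f50606 IH) (Lpe (K12.f47813 IH) (Lpn (LP (LK LD1_c4 LD2_c7 LD3_c50))))))
theorem f183834 : Led Lsl_cf (LP (LK LD1_c4 LD2_c5 LD3_c24)) = (LP (LK LD1_c4 LD2_c7 LD3_c50)) :=
  Lgr Lrot169 (Lpr_gt (f47304 IH) (Lpr_ct (f47265 IH) (Lpe (K1.f46176 IH) (Lpr_cf (K1.f41864 IH) (Lpe (K9.f44597 IH) (Lpr_cf (K9.f183826 IH) (Lpe (K9.f50628 IH) (Lpe (K9.f30848 IH) (Lpr_gt (f50614 IH) (Lpn (LP (LK LD1_c4 LD2_c7 LD3_c50))))))))))))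
theorem f47277 : Led Lsl_dt (LP (LK LD1_c4 LD2_c5 LD3_c24)) = (LP (LK LD1_c8 LD2_c11 LD3_c43)) :=
  Lre_d IH (LK LD1_c4 LD2_c5 LD3_c24) (LK LD1_c8 LD2_c11 LD3_c43) Lrfl Lrfl
theorem f247557 : Led Lsl_cf (LP (LK LD1_c5 LD2_c16 LD3_c18)) = (LP (LK LD1_c8 LD2_c11 LD3_c43)) :=
  Lgr Lrot116 (Lpr_dt (f32811 IH) (Lpr_ct (f32810 IH) (Lpe (f247538 IH) (Lpr_ct (K9.f170671 IH) (Lpr_af (f247550 IH) (Lpe (f231300 IH) (Lpe (K12.f231248 IH) (Lpe (f183834 IH) (Lpr_dt (f47277 IH) (Lpn (LP (LK LD1_c8 LD2_c11 LD3_c43))))))))))))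
theorem f231292 : Led Lsl_dt (LP (LK LD1_c4 LD2_c7 LD3_c50)) = (LP (LK LD1_c2 LD2_c11 LD3_c2)) :=
  Lgr Lrot42 (Lpr_df (K12.f231248 IH) (Lpn (LP (LK LD1_c2 LD2_c11 LD3_c2))))
theorem f247426 : Led Lsl_df (LP (LK LD1_c2 LD2_c2 LD3_c14)) = (LP (LK LD1_c2 LD2_c10 LD3_c55)) :=
  Lgr Lrot38 (Lpr_dt (f247421 IH) (Lpn (LP (LK LD1_c2 LD2_c10 LD3_c55))))
theorem f247441 : Led Lsl_cf (LP (LK LD1_c2 LD2_c11 LD3_c2)) = (LP (LK LD1_c2 LD2_c2 LD3_c14)) :=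
  Lgr Lrot14 (Lpe (f231292 IH) (Lpe (f50614 IH) (Lpe (K9.f30850 IH) (Lpe (K12.f183817 IH) (Lpr_ct (K10.f31638 IH) (Lpe (f192359 IH) (Lpr_dt (K13.f46135 IH) (Lpr_gt (f247437 IH) (Lpe (f247426 IH) (Lpn (LP (LK LD1_c2 LD2_c2 LD3_c14))))))))))))
theorem f247432 : Led Lsl_ff (LP (LK LD1_c2 LD2_c10 LD3_c50)) = (LP (LK LD1_c2 LD2_c10 LD3_c55)) :=
  Lgr Lrot19 (Lpr_dt (K12.f230783 IH) (Lpr_ft (K12.f230778 IH) (Lpr_dt (f247421 IH) (Lpn (LP (LK LD1_c2 LD2_c10 LD3_c55))))))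
theorem f247564 : Led Lsl_af (LP (LK LD1_c1 LD2_c14 LD3_c27)) = (LP (LK LD1_c2 LD2_c10 LD3_c50)) :=
  Lgr Lrot109 (Lpe (f32810 IH) (Lpe (f32811 IH) (Lpr_cf (f247557 IH) (Lpe (f47277 IH) (Lpr_cf (f183834 IH) (Lpr_df (K12.f231248 IH) (Lpr_cf (f247441 IH) (Lpr_df (f247426 IH) (Lpe (f247432 IH) (Lpn (LP (LK LD1_c2 LD2_c10 LD3_c50))))))))))))
theorem f247570 : Led Lsl_et (LP (LK LD1_c1 LD2_c14 LD3_c27)) = (LP (LK LD1_c2 LD2_c34 LD3_c56)) :=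
  Lre_e IH (LK LD1_c1 LD2_c14 LD3_c27) (LK LD1_c2 LD2_c34 LD3_c56) Lrfl Lrfl
theorem f44079 : Led Lsl_et (LP (LK LD1_c4 LD2_c27 LD3_c15)) = (LP (LK LD1_c2 LD2_c10 LD3_c50)) :=
  Lre_e IH (LK LD1_c4 LD2_c27 LD3_c15) (LK LD1_c2 LD2_c10 LD3_c50) Lrfl Lrfl
theorem f247571 : Led Lsl_at (LP (LK LD1_c2 LD2_c34 LD3_c56)) = (LP (LK LD1_c4 LD2_c27 LD3_c15)) :=
  Lgr Lrot80 (Lpe (f247570 IH) (Lpr_af (f247564 IH) (Lpe (f44079 IH) (Lpn (LP (LK LD1_c4 LD2_c27 LD3_c15))))))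
theorem f247577 : Led Lsl_ft (LP (LK LD1_c5 LD2_c16 LD3_c22)) = (LP (LK LD1_c2 LD2_c34 LD3_c56)) :=
  Lre_f IH (LK LD1_c5 LD2_c16 LD3_c22) (LK LD1_c2 LD2_c34 LD3_c56) Lrfl Lrfl
theorem f230576 : Led Lsl_ft (LP (LK LD1_c4 LD2_c27 LD3_c15)) = (LP (LK LD1_c8 LD2_c52 LD3_c14)) :=
  Lre_f IH (LK LD1_c4 LD2_c27 LD3_c15) (LK LD1_c8 LD2_c52 LD3_c14) Lrfl Lrfl
theorem f247578 : Led Lsl_af (LP (LK LD1_c5 LD2_c16 LD3_c22)) = (LP (LK LD1_c8 LD2_c52 LD3_c14)) :=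
  Lgr Lrot45 (Lpr_ft (f247577 IH) (Lpr_at (f247571 IH) (Lpr_ft (f230576 IH) (Lpn (LP (LK LD1_c8 LD2_c52 LD3_c14))))))
theorem f170034 : Led Lsl_ct (LP (LK LD1_c5 LD2_c16 LD3_c22)) = (LP (LK LD1_c10 LD2_c22 LD3_c14)) :=
  Lre_c IH (LK LD1_c5 LD2_c16 LD3_c22) (LK LD1_c10 LD2_c22 LD3_c14) Lrfl Lrfl
theorem f230593 : Led Lsl_ct (LP (LK LD1_c16 LD2_c35 LD3_c1)) = (LP (LK LD1_c8 LD2_c52 LD3_c14)) :=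
  Lre_c IH (LK LD1_c16 LD2_c35 LD3_c1) (LK LD1_c8 LD2_c52 LD3_c14) Lrfl Lrfl
theorem f247589 : Led Lsl_at (LP (LK LD1_c10 LD2_c22 LD3_c14)) = (LP (LK LD1_c16 LD2_c35 LD3_c1)) :=
  Lgr Lrot107 (Lpe (f170034 IH) (Lpr_af (f247578 IH) (Lpe (f230593 IH) (Lpn (LP (LK LD1_c16 LD2_c35 LD3_c1))))))
theorem f247595 : Led Lsl_af (LP (LK LD1_c10 LD2_c22 LD3_c14)) = (LP (LK LD1_c16 LD2_c35 LD3_c1)) :=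
  Lgr Lrot0 (Lpr_at (f247589 IH) (Lpn (LP (LK LD1_c16 LD2_c35 LD3_c1))))
theorem f247602 : Led Lsl_ft (LP (LK LD1_c10 LD2_c22 LD3_c14)) = (LP (LK LD1_c5 LD2_c16 LD3_c19)) :=
  Lre_f IH (LK LD1_c10 LD2_c22 LD3_c14) (LK LD1_c5 LD2_c16 LD3_c19) Lrfl Lrfl
theorem f247603 : Led Lsl_ft (LP (LK LD1_c8 LD2_c52 LD3_c11)) = (LP (LK LD1_c16 LD2_c35 LD3_c1)) :=
  Lre_f IH (LK LD1_c8 LD2_c52 LD3_c11) (LK LD1_c16 LD2_c35 LD3_c1) Lrfl Lrfl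
theorem f247604 : Led Lsl_at (LP (LK LD1_c5 LD2_c16 LD3_c19)) = (LP (LK LD1_c8 LD2_c52 LD3_c11)) :=
  Lgr Lrot66 (Lpe (f247602 IH) (Lpr_af (f247595 IH) (Lpe (f247603 IH) (Lpn (LP (LK LD1_c8 LD2_c52 LD3_c11))))))
theorem f170057 : Led Lsl_et (LP (LK LD1_c2 LD2_c34 LD3_c55)) = (LP (LK LD1_c5 LD2_c16 LD3_c19)) :=
  Lre_e IH (LK LD1_c2 LD2_c34 LD3_c55) (LK LD1_c5 LD2_c16 LD3_c19) Lrfl Lrfl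
theorem f188019 : Led Lsl_et (LP (LK LD1_c8 LD2_c52 LD3_c11)) = (LP (LK LD1_c4 LD2_c27 LD3_c14)) :=
  Lre_e IH (LK LD1_c8 LD2_c52 LD3_c11) (LK LD1_c4 LD2_c27 LD3_c14) Lrfl Lrfl
theorem f247608 : Led Lsl_af (LP (LK LD1_c2 LD2_c34 LD3_c55)) = (LP (LK LD1_c4 LD2_c27 LD3_c14)) :=
  Lgr Lrot50 (Lpr_et (f170057 IH) (Lpr_at (f247604 IH) (Lpr_et (f188019 IH) (Lpn (LP (LK LD1_c4 LD2_c27 LD3_c14))))))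
theorem f247617 : Led Lsl_ft (LP (LK LD1_c4 LD2_c27 LD3_c24)) = (LP (LK LD1_c4 LD2_c27 LD3_c14)) :=
  Lgr Lrot2 (Lpe (f247443 IH) (Lpe (K10.f190780 IH) (Lpr_af (f247608 IH) (Lpn (LP (LK LD1_c4 LD2_c27 LD3_c14))))))
theorem f247619 : Led Lsl_df (LP (LK LD1_c1 LD2_c14 LD3_c27)) = (LP (LK LD1_c2 LD2_c2 LD3_c24)) :=
  Lgr Lrot177 (Lpr_ct (K10.f32812 IH) (Lpr_af (f247608 IH) (Lpe (f247617 IH) (Lpr_dt (f247425 IH) (Lpr_ct (f247523 IH) (Lpr_dt (f47281 IH) (Lpe (f188065 IH) (Lpe (f247530 IH) (Lpr_ct (f170662 IH) (Lpn (LP (LK LD1_c2 LD2_c2 LD3_c24))))))))))))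
theorem f44598 : Led Lsl_et (LP (LK LD1_c2 LD2_c10 LD3_c54)) = (LP (LK LD1_c1 LD2_c2 LD3_c27)) :=
  Lre_e IH (LK LD1_c2 LD2_c10 LD3_c54) (LK LD1_c1 LD2_c2 LD3_c27) Lrfl Lrfl
theorem f44596 : Led Lsl_gt (LP (LK LD1_c1 LD2_c15 LD3_c42)) = (LP (LK LD1_c2 LD2_c37 LD3_c21)) :=
  Lre_g IH (LK LD1_c1 LD2_c15 LD3_c42) (LK LD1_c2 LD2_c37 LD3_c21) Lrfl Lrfl
theorem f44599 : Led Lsl_df (LP (LK LD1_c2 LD2_c37 LD3_c21)) = (LP (LK LD1_c2 LD2_c10 LD3_c54)) :=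
  Lgr Lrot132 (Lpe (f44596 IH) (Lpe (K12.f8398 IH) (Lpe (K10.f8397 IH) (Lpe (K11.f44056 IH) (Lpr_dt (K1.f28232 IH) (Lpe (K1.f28234 IH) (Lpr_df (K1.f44587 IH) (Lpr_et (K1.f41863 IH) (Lpe (K9.f44597 IH) (Lpe (f44598 IH) (Lpn (LP (LK LD1_c2 LD2_c10 LD3_c54)))))))))))))
theorem f43902 : Led Lsl_dt (LP (LK LD1_c2 LD2_c23 LD3_c3)) = (LP (LK LD1_c4 LD2_c50 LD3_c33)) :=
  Lre_d IH (LK LD1_c2 LD2_c23 LD3_c3) (LK LD1_c4 LD2_c50 LD3_c33) Lrfl Lrfl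
theorem f191020 : Led Lsl_ct (LP (LK LD1_c4 LD2_c50 LD3_c33)) = (LP (LK LD1_c9 LD2_c33 LD3_c16)) :=
  Lre_c IH (LK LD1_c4 LD2_c50 LD3_c33) (LK LD1_c9 LD2_c33 LD3_c16) Lrfl Lrfl
theorem f53581 : Led Lsl_bt (LP (LK LD1_c8 LD2_c16 LD3_c5)) = (LP (LK LD1_c4 LD2_c8 LD3_c2)) :=
  Lre_b IH (LK LD1_c8 LD2_c16 LD3_c5) (LK LD1_c4 LD2_c8 LD3_c2) Lrfl Lrfl
theorem f194776 : Led Lsl_bt (LP (LK LD1_c2 LD2_c37 LD3_c32)) = (LP (LK LD1_c5 LD2_c21 LD3_c60)) :=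
  Lre_b IH (LK LD1_c2 LD2_c37 LD3_c32) (LK LD1_c5 LD2_c21 LD3_c60) Lrfl Lrfl
theorem f194777 : Led Lsl_cf (LP (LK LD1_c8 LD2_c16 LD3_c5)) = (LP (LK LD1_c5 LD2_c21 LD3_c60)) :=
  Lgr Lrot97 (Lpr_bt (f53581 IH) (Lpe (K10.f184129 IH) (Lpr_bt (K10.f194762 IH) (Lpe (K10.f194160 IH) (Lpr_bt (f194776 IH) (Lpn (LP (LK LD1_c5 LD2_c21 LD3_c60))))))))
theorem f194795 : Led Lsl_et (LP (LK LD1_c8 LD2_c16 LD3_c5)) = (LP (LK LD1_c15 LD2_c32 LD3_c42)) :=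
  Lre_e IH (LK LD1_c8 LD2_c16 LD3_c5) (LK LD1_c15 LD2_c32 LD3_c42) Lrfl Lrfl
theorem f194796 : Led Lsl_et (LP (LK LD1_c10 LD2_c34 LD3_c19)) = (LP (LK LD1_c5 LD2_c21 LD3_c60)) :=
  Lre_e IH (LK LD1_c10 LD2_c34 LD3_c19) (LK LD1_c5 LD2_c21 LD3_c60) Lrfl Lrfl
theorem f194797 : Led Lsl_ct (LP (LK LD1_c15 LD2_c32 LD3_c42)) = (LP (LK LD1_c10 LD2_c34 LD3_c19)) :=
  Lgr Lrot15 (Lpe (f194795 IH) (Lpr_cf (f194777 IH) (Lpe (f194796 IH) (Lpn (LP (LK LD1_c10 LD2_c34 LD3_c19))))))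
theorem f194855 : Led Lsl_cf (LP (LK LD1_c15 LD2_c32 LD3_c42)) = (LP (LK LD1_c10 LD2_c34 LD3_c19)) :=
  Lgr Lrot11 (Lpr_ct (f194797 IH) (Lpn (LP (LK LD1_c10 LD2_c34 LD3_c19))))
theorem f184135 : Led Lsl_bt (LP (LK LD1_c15 LD2_c32 LD3_c42)) = (LP (LK LD1_c8 LD2_c16 LD3_c7)) :=
  Lre_b IH (LK LD1_c15 LD2_c32 LD3_c42) (LK LD1_c8 LD2_c16 LD3_c7) Lrfl Lrfl
theorem f32948 : Led Lsl_et (LP (LK LD1_c10 LD2_c23 LD3_c36)) = (LP (LK LD1_c5 LD2_c16 LD3_c60)) :=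
  Lre_e IH (LK LD1_c10 LD2_c23 LD3_c36) (LK LD1_c5 LD2_c16 LD3_c60) Lrfl Lrfl
theorem f184131 : Led Lsl_et (LP (LK LD1_c4 LD2_c8 LD3_c2)) = (LP (LK LD1_c8 LD2_c16 LD3_c7)) :=
  Lre_e IH (LK LD1_c4 LD2_c8 LD3_c2) (LK LD1_c8 LD2_c16 LD3_c7) Lrfl Lrfl
theorem f184132 : Led Lsl_cf (LP (LK LD1_c10 LD2_c23 LD3_c36)) = (LP (LK LD1_c8 LD2_c16 LD3_c7)) :=
  Lgr Lrot39 (Lpr_et (f32948 IH) (Lpr_ct (K10.f184125 IH) (Lpr_et (f184131 IH) (Lpn (LP (LK LD1_c8 LD2_c16 LD3_c7))))))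
theorem f194779 : Led Lsl_et (LP (LK LD1_c4 LD2_c50 LD3_c34)) = (LP (LK LD1_c9 LD2_c33 LD3_c18)) :=
  Lre_e IH (LK LD1_c4 LD2_c50 LD3_c34) (LK LD1_c9 LD2_c33 LD3_c18) Lrfl Lrfl
theorem f194780 : Led Lsl_bf (LP (LK LD1_c10 LD2_c23 LD3_c36)) = (LP (LK LD1_c9 LD2_c33 LD3_c18)) :=
  Lgr Lrot96 (Lpr_et (f32948 IH) (Lpr_bt (K10.f194762 IH) (Lpr_et (f194779 IH) (Lpn (LP (LK LD1_c9 LD2_c33 LD3_c18))))))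
theorem f194782 : Led Lsl_bt (LP (LK LD1_c10 LD2_c23 LD3_c36)) = (LP (LK LD1_c9 LD2_c33 LD3_c18)) :=
  Lgr Lrot127 (Lpr_bf (f194780 IH) (Lpn (LP (LK LD1_c9 LD2_c33 LD3_c18))))
theorem f194881 : Led Lsl_bt (LP (LK LD1_c5 LD2_c22 LD3_c0)) = (LP (LK LD1_c10 LD2_c34 LD3_c19)) :=
  Lre_b IH (LK LD1_c5 LD2_c22 LD3_c0) (LK LD1_c10 LD2_c34 LD3_c19) Lrfl Lrfl
theorem f194882 : Led Lsl_ct (LP (LK LD1_c9 LD2_c33 LD3_c18)) = (LP (LK LD1_c5 LD2_c22 LD3_c0)) :=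
  Lgr Lrot83 (Lpe (f194782 IH) (Lpr_cf (f184132 IH) (Lpe (f184135 IH) (Lpr_cf (f194855 IH) (Lpe (f194881 IH) (Lpn (LP (LK LD1_c5 LD2_c22 LD3_c0))))))))
theorem f194891 : Led Lsl_et (LP (LK LD1_c5 LD2_c22 LD3_c0)) = (LP (LK LD1_c2 LD2_c37 LD3_c32)) :=
  Lre_e IH (LK LD1_c5 LD2_c22 LD3_c0) (LK LD1_c2 LD2_c37 LD3_c32) Lrfl Lrfl
theorem f194892 : Led Lsl_cf (LP (LK LD1_c4 LD2_c50 LD3_c34)) = (LP (LK LD1_c2 LD2_c37 LD3_c32)) :=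
  Lgr Lrot39 (Lpr_et (f194779 IH) (Lpr_ct (f194882 IH) (Lpr_et (f194891 IH) (Lpn (LP (LK LD1_c2 LD2_c37 LD3_c32))))))
theorem f46467 : Led Lsl_dt (LP (LK LD1_c5 LD2_c20 LD3_c23)) = (LP (LK LD1_c10 LD2_c30 LD3_c51)) :=
  Lre_d IH (LK LD1_c5 LD2_c20 LD3_c23) (LK LD1_c10 LD2_c30 LD3_c51) Lrfl Lrfl
theorem f194899 : Led Lsl_gt (LP (LK LD1_c10 LD2_c30 LD3_c51)) = (LP (LK LD1_c5 LD2_c22 LD3_c10)) :=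
  Lre_g IH (LK LD1_c10 LD2_c30 LD3_c51) (LK LD1_c5 LD2_c22 LD3_c10) Lrfl Lrfl
theorem f195837 : Led Lsl_df (LP (LK LD1_c9 LD2_c33 LD3_c16)) = (LP (LK LD1_c5 LD2_c22 LD3_c10)) :=
  Lgr Lrot84 (Lpe (f191020 IH) (Lpe (f43902 IH) (Lpr_gf (K10.f191018 IH) (Lpe (K11.f190985 IH) (Lpr_gf (K11.f195832 IH) (Lpr_cf (f194892 IH) (Lpr_gt (K10.f46476 IH) (Lpr_dt (f46467 IH) (Lpr_gt (f194899 IH) (Lpn (LP (LK LD1_c5 LD2_c22 LD3_c10))))))))))))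
theorem f195845 : Led Lsl_dt (LP (LK LD1_c9 LD2_c33 LD3_c16)) = (LP (LK LD1_c5 LD2_c22 LD3_c10)) :=
  Lgr Lrot42 (Lpr_df (f195837 IH) (Lpn (LP (LK LD1_c5 LD2_c22 LD3_c10))))
theorem f191021 : Led Lsl_ct (LP (LK LD1_c9 LD2_c33 LD3_c16)) = (LP (LK LD1_c4 LD2_c50 LD3_c33)) :=
  Lre_c IH (LK LD1_c9 LD2_c33 LD3_c16) (LK LD1_c4 LD2_c50 LD3_c33) Lrfl Lrfl
theorem f44641 : Led Lsl_dt (LP (LK LD1_c1 LD2_c15 LD3_c42)) = (LP (LK LD1_c0 LD2_c35 LD3_c6)) :=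
  Lre_d IH (LK LD1_c1 LD2_c15 LD3_c42) (LK LD1_c0 LD2_c35 LD3_c6) Lrfl Lrfl
theorem f44601 : Led Lsl_ct (LP (LK LD1_c2 LD2_c37 LD3_c21)) = (LP (LK LD1_c5 LD2_c21 LD3_c28)) :=
  Lre_c IH (LK LD1_c2 LD2_c37 LD3_c21) (LK LD1_c5 LD2_c21 LD3_c28) Lrfl Lrfl
theorem f191033 : Led Lsl_gf (LP (LK LD1_c9 LD2_c33 LD3_c16)) = (LP (LK LD1_c5 LD2_c21 LD3_c28)) :=
  Lgr Lrot104 (Lpr_ct (f191021 IH) (Lpe (f43902 IH) (Lpr_cf (K10.f191026 IH) (Lpr_gf (K10.f187887 IH) (Lpr_cf (K9.f46445 IH) (Lpe (K11.f41528 IH) (Lpe (f44641 IH) (Lpr_gt (f44596 IH) (Lpr_ct (f44601 IH) (Lpn (LP (LK LD1_c5 LD2_c21 LD3_c28))))))))))))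
theorem f44612 : Led Lsl_ct (LP (LK LD1_c5 LD2_c21 LD3_c28)) = (LP (LK LD1_c2 LD2_c37 LD3_c21)) :=
  Lre_c IH (LK LD1_c5 LD2_c21 LD3_c28) (LK LD1_c2 LD2_c37 LD3_c21) Lrfl Lrfl
theorem f190662 : Led Lsl_gt (LP (LK LD1_c5 LD2_c22 LD3_c10)) = (LP (LK LD1_c2 LD2_c37 LD3_c35)) :=
  Lre_g IH (LK LD1_c5 LD2_c22 LD3_c10) (LK LD1_c2 LD2_c37 LD3_c35) Lrfl Lrfl
theorem f46459 : Led Lsl_dt (LP (LK LD1_c2 LD2_c37 LD3_c35)) = (LP (LK LD1_c1 LD2_c15 LD3_c48)) :=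
  Lre_d IH (LK LD1_c2 LD2_c37 LD3_c35) (LK LD1_c1 LD2_c15 LD3_c48) Lrfl Lrfl
theorem f190434 : Led Lsl_dt (LP (LK LD1_c1 LD2_c15 LD3_c44)) = (LP (LK LD1_c0 LD2_c35 LD3_c7)) :=
  Lre_d IH (LK LD1_c1 LD2_c15 LD3_c44) (LK LD1_c0 LD2_c35 LD3_c7) Lrfl Lrfl
theorem f195880 : Led Lsl_gt (LP (LK LD1_c2 LD2_c37 LD3_c21)) = (LP (LK LD1_c1 LD2_c15 LD3_c44)) :=
  Lgr Lrot94 (Lpe (f44612 IH) (Lpe (f191033 IH) (Lpr_dt (f195845 IH) (Lpr_gt (f190662 IH) (Lpr_dt (f46459 IH) (Lpe (K12.f46470 IH) (Lpe (K11.f46469 IH) (Lpe (K10.f8482 IH) (Lpe (f190434 IH) (Lpn (LP (LK LD1_c1 LD2_c15 LD3_c44))))))))))))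
theorem f41526 : Led Lsl_dt (LP (LK LD1_c0 LD2_c35 LD3_c7)) = (LP (LK LD1_c1 LD2_c15 LD3_c44)) :=
  Lre_d IH (LK LD1_c0 LD2_c35 LD3_c7) (LK LD1_c1 LD2_c15 LD3_c44) Lrfl Lrfl
theorem f194148 : Led Lsl_et (LP (LK LD1_c0 LD2_c35 LD3_c7)) = (LP (LK LD1_c1 LD2_c15 LD3_c45)) :=
  Lre_e IH (LK LD1_c0 LD2_c35 LD3_c7) (LK LD1_c1 LD2_c15 LD3_c45) Lrfl Lrfl
theorem f247627 : Led Lsl_gt (LP (LK LD1_c1 LD2_c15 LD3_c45)) = (LP (LK LD1_c2 LD2_c2 LD3_c24)) :=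
  Lgr Lrot137 (Lpe (f194148 IH) (Lpr_dt (f41526 IH) (Lpe (f195880 IH) (Lpr_df (f44599 IH) (Lpr_et (f44598 IH) (Lpr_gf (K9.f183838 IH) (Lpr_ef (K1.f46131 IH) (Lpr_dt (K13.f46135 IH) (Lpr_gf (K10.f190742 IH) (Lpr_df (f247619 IH) (Lpn (LP (LK LD1_c2 LD2_c2 LD3_c24)))))))))))))
theorem f194149 : Led Lsl_ct (LP (LK LD1_c1 LD2_c15 LD3_c45)) = (LP (LK LD1_c1 LD2_c11 LD3_c40)) :=
  Lgr Lrot15 (Lpe (f194148 IH) (Lpr_cf (K10.f194139 IH) (Lpe (K10.f192133 IH) (Lpn (LP (LK LD1_c1 LD2_c11 LD3_c40))))))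
theorem f28361 : Led Lsl_gt (LP (LK LD1_c1 LD2_c11 LD3_c40)) = (LP (LK LD1_c2 LD2_c29 LD3_c2)) :=
  Lre_g IH (LK LD1_c1 LD2_c11 LD3_c40) (LK LD1_c2 LD2_c29 LD3_c2) Lrfl Lrfl
theorem f247631 : Led Lsl_dt (LP (LK LD1_c2 LD2_c29 LD3_c2)) = (LP (LK LD1_c1 LD2_c59 LD3_c51)) :=
  Lgr Lrot57 (Lpe (f28361 IH) (Lpe (f194149 IH) (Lpr_gt (f247627 IH) (Lpe (f247619 IH) (Lpe (K10.f190742 IH) (Lpr_dt (K1.f46136 IH) (Lpe (K9.f46205 IH) (Lpe (K1.f46216 IH) (Lpe (K9.f46217 IH) (Lpn (LP (LK LD1_c1 LD2_c59 LD3_c51))))))))))))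
theorem f247633 : Led Lsl_cf (LP (LK LD1_c1 LD2_c15 LD3_c45)) = (LP (LK LD1_c1 LD2_c11 LD3_c40)) :=
  Lgr Lrot166 (Lpr_gt (f247627 IH) (Lpe (f247619 IH) (Lpe (K10.f190742 IH) (Lpr_dt (K1.f46136 IH) (Lpe (K1.f46196 IH) (Lpe (K1.f46216 IH) (Lpe (K9.f46217 IH) (Lpe (f247631 IH) (Lpe (f28361 IH) (Lpn (LP (LK LD1_c1 LD2_c11 LD3_c40))))))))))))
theorem f28380 : Led Lsl_gt (LP (LK LD1_c2 LD2_c29 LD3_c3)) = (LP (LK LD1_c1 LD2_c11 LD3_c40)) :=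
  Lre_g IH (LK LD1_c2 LD2_c29 LD3_c3) (LK LD1_c1 LD2_c11 LD3_c40) Lrfl Lrfl
theorem f247534 : Led Lsl_dt (LP (LK LD1_c4 LD2_c10 LD3_c10)) = (LP (LK LD1_c4 LD2_c7 LD3_c49)) :=
  Lgr Lrot42 (Lpr_df (f247530 IH) (Lpn (LP (LK LD1_c4 LD2_c7 LD3_c49))))
theorem f247637 : Led Lsl_df (LP (LK LD1_c2 LD2_c29 LD3_c3)) = (LP (LK LD1_c1 LD2_c59 LD3_c52)) :=
  Lgr Lrot155 (Lpr_gt (f28380 IH) (Lpe (f247633 IH) (Lpr_gt (f247627 IH) (Lpr_ct (K9.f170671 IH) (Lpr_dt (f247534 IH) (Lpr_cf (f188065 IH) (Lpe (K10.f188073 IH) (Lpe (K1.f46177 IH) (Lpe (K13.f47418 IH) (Lpn (LP (LK LD1_c1 LD2_c59 LD3_c52))))))))))))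
theorem f247639 : Led Lsl_bt (LP (LK LD1_c2 LD2_c29 LD3_c3)) = (LP (LK LD1_c2 LD2_c1 LD3_c40)) :=
  Lgr Lrot95 (Lpr_df (f247637 IH) (Lpe (K13.f47421 IH) (Lpr_df (K13.f232136 IH) (Lpn (LP (LK LD1_c2 LD2_c1 LD3_c40))))))
theorem f247680 : Led Lsl_ef (LP (LK LD1_c2 LD2_c29 LD3_c3)) = (LP (LK LD1_c1 LD2_c55 LD3_c50)) :=
  Lgr Lrot29 (Lpr_bt (f247639 IH) (Lpr_et (K13.f199690 IH) (Lpe (K13.f199617 IH) (Lpn (LP (LK LD1_c1 LD2_c55 LD3_c50))))))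
theorem f199613 : Led Lsl_et (LP (LK LD1_c4 LD2_c50 LD3_c48)) = (LP (LK LD1_c2 LD2_c23 LD3_c11)) :=
  Lre_e IH (LK LD1_c4 LD2_c50 LD3_c48) (LK LD1_c2 LD2_c23 LD3_c11) Lrfl Lrfl
theorem f247682 : Led Lsl_ct (LP (LK LD1_c2 LD2_c29 LD3_c3)) = (LP (LK LD1_c4 LD2_c50 LD3_c48)) :=
  Lgr Lrot15 (Lpr_ef (f247680 IH) (Lpr_cf (K11.f199586 IH) (Lpe (f199613 IH) (Lpn (LP (LK LD1_c4 LD2_c50 LD3_c48))))))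
theorem f33299 : Led Lsl_bt (LP (LK LD1_c4 LD2_c50 LD3_c48)) = (LP (LK LD1_c2 LD2_c23 LD3_c13)) :=
  Lre_b IH (LK LD1_c4 LD2_c50 LD3_c48) (LK LD1_c2 LD2_c23 LD3_c13) Lrfl Lrfl
theorem f33300 : Led Lsl_bt (LP (LK LD1_c1 LD2_c11 LD3_c29)) = (LP (LK LD1_c2 LD2_c28 LD3_c31)) :=
  Lre_b IH (LK LD1_c1 LD2_c11 LD3_c29) (LK LD1_c2 LD2_c28 LD3_c31) Lrfl Lrfl
theorem f33301 : Led Lsl_df (LP (LK LD1_c4 LD2_c50 LD3_c48)) = (LP (LK LD1_c2 LD2_c28 LD3_c31)) :=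
  Lgr Lrot12 (Lpr_bt (f33299 IH) (Lpr_dt (K0.f33297 IH) (Lpr_bt (f33300 IH) (Lpn (LP (LK LD1_c2 LD2_c28 LD3_c31))))))
theorem f247714 : Led Lsl_gt (LP (LK LD1_c4 LD2_c53 LD3_c61)) = (LP (LK LD1_c2 LD2_c28 LD3_c31)) :=
  Lgr Lrot189 (Lpe (K12.f43383 IH) (Lpr_gf (K10.f187877 IH) (Lpr_ct (K10.f46221 IH) (Lpr_gt (K9.f46220 IH) (Lpr_dt (K1.f46195 IH) (Lpr_gt (K13.f55046 IH) (Lpe (f247637 IH) (Lpr_ct (f247682 IH) (Lpr_df (f33301 IH) (Lpn (LP (LK LD1_c2 LD2_c28 LD3_c31))))))))))))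
theorem f43567 : Led Lsl_dt (LP (LK LD1_c9 LD2_c40 LD3_c33)) = (LP (LK LD1_c4 LD2_c54 LD3_c28)) :=
  Lre_d IH (LK LD1_c9 LD2_c40 LD3_c33) (LK LD1_c4 LD2_c54 LD3_c28) Lrfl Lrfl
theorem f43449 : Led Lsl_dt (LP (LK LD1_c4 LD2_c54 LD3_c13)) = (LP (LK LD1_c9 LD2_c39 LD3_c60)) :=
  Lre_d IH (LK LD1_c4 LD2_c54 LD3_c13) (LK LD1_c9 LD2_c39 LD3_c60) Lrfl Lrfl
theorem f43568 : Led Lsl_at (LP (LK LD1_c4 LD2_c54 LD3_c28)) = (LP (LK LD1_c4 LD2_c54 LD3_c13)) :=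
  Lgr Lrot51 (Lpe (f43567 IH) (Lpr_af (K13.f43562 IH) (Lpe (f43449 IH) (Lpn (LP (LK LD1_c4 LD2_c54 LD3_c13))))))
theorem f43741 : Led Lsl_ft (LP (LK LD1_c2 LD2_c25 LD3_c6)) = (LP (LK LD1_c4 LD2_c54 LD3_c28)) :=
  Lre_f IH (LK LD1_c2 LD2_c25 LD3_c6) (LK LD1_c4 LD2_c54 LD3_c28) Lrfl Lrfl
theorem f43743 : Led Lsl_gt (LP (LK LD1_c2 LD2_c25 LD3_c6)) = (LP (LK LD1_c4 LD2_c54 LD3_c24)) :=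
  Lre_g IH (LK LD1_c2 LD2_c25 LD3_c6) (LK LD1_c4 LD2_c54 LD3_c24) Lrfl Lrfl
theorem f43744 : Led Lsl_gt (LP (LK LD1_c4 LD2_c54 LD3_c24)) = (LP (LK LD1_c4 LD2_c54 LD3_c13)) :=
  Lgr Lrot46 (Lpe (f43743 IH) (Lpr_ft (f43741 IH) (Lpr_at (f43568 IH) (Lpn (LP (LK LD1_c4 LD2_c54 LD3_c13))))))
theorem f192986 : Led Lsl_cf (LP (LK LD1_c4 LD2_c54 LD3_c24)) = (LP (LK LD1_c2 LD2_c36 LD3_c16)) :=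
  Lgr Lrot169 (Lpr_gt (f43744 IH) (Lpr_ct (K9.f43432 IH) (Lpe (K10.f43354 IH) (Lpe (K9.f43351 IH) (Lpr_gf (K10.f192984 IH) (Lpr_cf (K10.f184629 IH) (Lpe (K10.f43946 IH) (Lpe (K1.f43944 IH) (Lpr_gt (K13.f43964 IH) (Lpn (LP (LK LD1_c2 LD2_c36 LD3_c16))))))))))))
theorem f33303 : Led Lsl_ct (LP (LK LD1_c1 LD2_c11 LD3_c29)) = (LP (LK LD1_c2 LD2_c28 LD3_c32)) :=
  Lre_c IH (LK LD1_c1 LD2_c11 LD3_c29) (LK LD1_c2 LD2_c28 LD3_c32) Lrfl Lrfl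
theorem f247722 : Led Lsl_gf (LP (LK LD1_c4 LD2_c2 LD3_c35)) = (LP (LK LD1_c2 LD2_c28 LD3_c32)) :=
  Lgr Lrot126 (Lpe (K9.f45866 IH) (Lpr_bt (K1.f45854 IH) (Lpr_gt (K13.f43964 IH) (Lpe (f192986 IH) (Lpr_gt (f43744 IH) (Lpe (K9.f43450 IH) (Lpr_bt (K12.f43453 IH) (Lpr_gt (f247714 IH) (Lpe (f33300 IH) (Lpr_ct (f33303 IH) (Lpn (LP (LK LD1_c2 LD2_c28 LD3_c32)))))))))))))
theorem f184759 : Led Lsl_ct (LP (LK LD1_c2 LD2_c28 LD3_c19)) = (LP (LK LD1_c1 LD2_c11 LD3_c22)) :=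
  Lre_c IH (LK LD1_c2 LD2_c28 LD3_c19) (LK LD1_c1 LD2_c11 LD3_c22) Lrfl Lrfl
theorem f247727 : Led Lsl_dt (LP (LK LD1_c5 LD2_c1 LD3_c10)) = (LP (LK LD1_c2 LD2_c28 LD3_c19)) :=
  Lre_d IH (LK LD1_c5 LD2_c1 LD3_c10) (LK LD1_c2 LD2_c28 LD3_c19) Lrfl Lrfl
theorem f247728 : Led Lsl_gt (LP (LK LD1_c8 LD2_c5 LD3_c45)) = (LP (LK LD1_c5 LD2_c1 LD3_c10)) :=
  Lgr Lrot49 (Lpe (K1.f45901 IH) (Lpr_gf (f247722 IH) (Lpe (f33303 IH) (Lpr_gt (K0.f3691 IH) (Lpr_dt (K0.f3572 IH) (Lpr_gt (K9.f3776 IH) (Lpr_dt (f3733 IH) (Lpe (f184759 IH) (Lpe (f247727 IH) (Lpn (LP (LK LD1_c5 LD2_c1 LD3_c10))))))))))))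
theorem f46548 : Led Lsl_ff (LP (LK LD1_c8 LD2_c5 LD3_c45)) = (LP (LK LD1_c15 LD2_c14 LD3_c38)) :=
  Lgr Lrot19 (Lpr_dt (K9.f45865 IH) (Lpr_ft (K12.f46547 IH) (Lpr_dt (K9.f46542 IH) (Lpn (LP (LK LD1_c15 LD2_c14 LD3_c38))))))
theorem f46554 : Led Lsl_ft (LP (LK LD1_c8 LD2_c5 LD3_c45)) = (LP (LK LD1_c15 LD2_c14 LD3_c38)) :=
  Lgr Lrot48 (Lpr_ff (f46548 IH) (Lpn (LP (LK LD1_c15 LD2_c14 LD3_c38))))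
theorem f247738 : Led Lsl_gt (LP (LK LD1_c5 LD2_c1 LD3_c10)) = (LP (LK LD1_c9 LD2_c52 LD3_c50)) :=
  Lre_g IH (LK LD1_c5 LD2_c1 LD3_c10) (LK LD1_c9 LD2_c52 LD3_c50) Lrfl Lrfl
theorem f247739 : Led Lsl_at (LP (LK LD1_c15 LD2_c14 LD3_c38)) = (LP (LK LD1_c9 LD2_c52 LD3_c50)) :=
  Lgr Lrot26 (Lpe (f46554 IH) (Lpr_gt (f247728 IH) (Lpr_gt (f247738 IH) (Lpn (LP (LK LD1_c9 LD2_c52 LD3_c50))))))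
theorem f47030 : Led Lsl_at (LP (LK LD1_c5 LD2_c19 LD3_c46)) = (LP (LK LD1_c8 LD2_c5 LD3_c45)) :=
  Lgr Lrot100 (Lpr_af (K1.f47026 IH) (Lpn (LP (LK LD1_c8 LD2_c5 LD3_c45))))
theorem f247794 : Led Lsl_ff (LP (LK LD1_c5 LD2_c19 LD3_c46)) = (LP (LK LD1_c9 LD2_c52 LD3_c50)) :=
  Lgr Lrot30 (Lpr_at (f47030 IH) (Lpr_ft (f46554 IH) (Lpr_at (f247739 IH) (Lpn (LP (LK LD1_c9 LD2_c52 LD3_c50))))))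
theorem f247800 : Led Lsl_dt (LP (LK LD1_c5 LD2_c1 LD3_c33)) = (LP (LK LD1_c9 LD2_c52 LD3_c50)) :=
  Lgr Lrot60 (Lpr_ff (K12.f184581 IH) (Lpe (K1.f45903 IH) (Lpr_ff (f247794 IH) (Lpn (LP (LK LD1_c9 LD2_c52 LD3_c50))))))
theorem f3586 : Led Lsl_ct (LP (LK LD1_c2 LD2_c28 LD3_c29)) = (LP (LK LD1_c1 LD2_c11 LD3_c28)) :=
  Lre_c IH (LK LD1_c2 LD2_c28 LD3_c29) (LK LD1_c1 LD2_c11 LD3_c28) Lrfl Lrfl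
theorem f3585 : Led Lsl_gt (LP (LK LD1_c1 LD2_c11 LD3_c28)) = (LP (LK LD1_c2 LD2_c28 LD3_c11)) :=
  Lre_g IH (LK LD1_c1 LD2_c11 LD3_c28) (LK LD1_c2 LD2_c28 LD3_c11) Lrfl Lrfl
theorem f3732 : Led Lsl_dt (LP (LK LD1_c0 LD2_c33 LD3_c5)) = (LP (LK LD1_c1 LD2_c11 LD3_c26)) :=
  Lre_d IH (LK LD1_c0 LD2_c33 LD3_c5) (LK LD1_c1 LD2_c11 LD3_c26) Lrfl Lrfl
theorem f33604 : Led Lsl_ct (LP (LK LD1_c1 LD2_c11 LD3_c26)) = (LP (LK LD1_c2 LD2_c28 LD3_c25)) :=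
  Lre_c IH (LK LD1_c1 LD2_c11 LD3_c26) (LK LD1_c2 LD2_c28 LD3_c25) Lrfl Lrfl
theorem f247804 : Led Lsl_dt (LP (LK LD1_c5 LD2_c1 LD3_c25)) = (LP (LK LD1_c2 LD2_c28 LD3_c25)) :=
  Lre_d IH (LK LD1_c5 LD2_c1 LD3_c25) (LK LD1_c2 LD2_c28 LD3_c25) Lrfl Lrfl
theorem f247805 : Led Lsl_gf (LP (LK LD1_c5 LD2_c1 LD3_c25)) = (LP (LK LD1_c9 LD2_c52 LD3_c50)) :=
  Lgr Lrot143 (Lpr_dt (f247804 IH) (Lpe (f33604 IH) (Lpe (f3732 IH) (Lpe (K9.f3731 IH) (Lpe (K10.f3425 IH) (Lpe (f3585 IH) (Lpe (f3586 IH) (Lpr_gt (K9.f165897 IH) (Lpr_dt (f247800 IH) (Lpn (LP (LK LD1_c9 LD2_c52 LD3_c50))))))))))))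
theorem f247888 : Led Lsl_gt (LP (LK LD1_c5 LD2_c1 LD3_c25)) = (LP (LK LD1_c8 LD2_c5 LD3_c45)) :=
  Lgr Lrot46 (Lpr_gf (f247805 IH) (Lpe (f247794 IH) (Lpr_at (f47030 IH) (Lpn (LP (LK LD1_c8 LD2_c5 LD3_c45))))))
theorem f45904 : Led Lsl_ft (LP (LK LD1_c1 LD2_c15 LD3_c15)) = (LP (LK LD1_c2 LD2_c36 LD3_c33)) :=
  Lre_f IH (LK LD1_c1 LD2_c15 LD3_c15) (LK LD1_c2 LD2_c36 LD3_c33) Lrfl Lrfl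
theorem f184537 : Led Lsl_ft (LP (LK LD1_c5 LD2_c1 LD3_c33)) = (LP (LK LD1_c2 LD2_c36 LD3_c32)) :=
  Lgr Lrot4 (Lpr_cf (K9.f184521 IH) (Lpe (f45904 IH) (Lpe (K1.f45886 IH) (Lpn (LP (LK LD1_c2 LD2_c36 LD3_c32))))))
theorem f247725 : Led Lsl_gt (LP (LK LD1_c5 LD2_c1 LD3_c33)) = (LP (LK LD1_c2 LD2_c28 LD3_c32)) :=
  Lgr Lrot5 (Lpr_ft (f184537 IH) (Lpr_at (K1.f47034 IH) (Lpr_gf (f247722 IH) (Lpn (LP (LK LD1_c2 LD2_c28 LD3_c32))))))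
theorem f3692 : Led Lsl_ct (LP (LK LD1_c2 LD2_c28 LD3_c32)) = (LP (LK LD1_c1 LD2_c11 LD3_c29)) :=
  Lre_c IH (LK LD1_c2 LD2_c28 LD3_c32) (LK LD1_c1 LD2_c11 LD3_c29) Lrfl Lrfl
theorem f3338 : Led Lsl_at (LP (LK LD1_c5 LD2_c0 LD3_c54)) = (LP (LK LD1_c2 LD2_c28 LD3_c37)) :=
  Lre_a IH (LK LD1_c5 LD2_c0 LD3_c54) (LK LD1_c2 LD2_c28 LD3_c37) Lrfl Lrfl
theorem f3409 : Led Lsl_af (LP (LK LD1_c5 LD2_c1 LD3_c60)) = (LP (LK LD1_c5 LD2_c2 LD3_c0)) :=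
  Lgr Lrot45 (Lpr_ft (K2.f3387 IH) (Lpr_at (f3338 IH) (Lpr_ft (K2.f3355 IH) (Lpn (LP (LK LD1_c5 LD2_c2 LD3_c0))))))
theorem f3428 : Led Lsl_gt (LP (LK LD1_c2 LD2_c28 LD3_c37)) = (LP (LK LD1_c5 LD2_c1 LD3_c58)) :=
  Lre_g IH (LK LD1_c2 LD2_c28 LD3_c37) (LK LD1_c5 LD2_c1 LD3_c58) Lrfl Lrfl
theorem f3683 : Led Lsl_gf (LP (LK LD1_c5 LD2_c1 LD3_c60)) = (LP (LK LD1_c5 LD2_c1 LD3_c58)) :=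
  Lgr Lrot76 (Lpr_af (f3409 IH) (Lpe (K2.f3355 IH) (Lpr_gt (f3428 IH) (Lpn (LP (LK LD1_c5 LD2_c1 LD3_c58))))))
theorem f247807 : Led Lsl_cf (LP (LK LD1_c5 LD2_c1 LD3_c58)) = (LP (LK LD1_c5 LD2_c1 LD3_c25)) :=
  Lgr Lrot188 (Lpe (f3683 IH) (Lpr_ct (K2.f3356 IH) (Lpr_dt (K0.f3570 IH) (Lpe (K0.f3574 IH) (Lpe (K0.f3691 IH) (Lpe (f3692 IH) (Lpe (f247725 IH) (Lpr_dt (f247800 IH) (Lpe (f247805 IH) (Lpn (LP (LK LD1_c5 LD2_c1 LD3_c25))))))))))))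
theorem f247839 : Led Lsl_ct (LP (LK LD1_c5 LD2_c1 LD3_c58)) = (LP (LK LD1_c5 LD2_c1 LD3_c25)) :=
  Lgr Lrot59 (Lpr_cf (f247807 IH) (Lpn (LP (LK LD1_c5 LD2_c1 LD3_c25))))
theorem f21840 : Led Lsl_gt (LP (LK LD1_c1 LD2_c11 LD3_c30)) = (LP (LK LD1_c2 LD2_c28 LD3_c34)) :=
  Lre_g IH (LK LD1_c1 LD2_c11 LD3_c30) (LK LD1_c2 LD2_c28 LD3_c34) Lrfl Lrfl
theorem f190493 : Led Lsl_et (LP (LK LD1_c5 LD2_c21 LD3_c21)) = (LP (LK LD1_c10 LD2_c33 LD3_c0)) :=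
  Lre_e IH (LK LD1_c5 LD2_c21 LD3_c21) (LK LD1_c10 LD2_c33 LD3_c0) Lrfl Lrfl
theorem f190494 : Led Lsl_et (LP (LK LD1_c18 LD2_c6 LD3_c54)) = (LP (LK LD1_c9 LD2_c53 LD3_c61)) :=
  Lre_e IH (LK LD1_c18 LD2_c6 LD3_c54) (LK LD1_c9 LD2_c53 LD3_c61) Lrfl Lrfl
theorem f190495 : Led Lsl_bt (LP (LK LD1_c10 LD2_c33 LD3_c0)) = (LP (LK LD1_c18 LD2_c6 LD3_c54)) :=
  Lgr Lrot119 (Lpe (f190493 IH) (Lpr_bf (K10.f190484 IH) (Lpe (f190494 IH) (Lpn (LP (LK LD1_c18 LD2_c6 LD3_c54))))))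
theorem f190513 : Led Lsl_ft (LP (LK LD1_c19 LD2_c6 LD3_c27)) = (LP (LK LD1_c10 LD2_c33 LD3_c0)) :=
  Lre_f IH (LK LD1_c19 LD2_c6 LD3_c27) (LK LD1_c10 LD2_c33 LD3_c0) Lrfl Lrfl
theorem f190514 : Led Lsl_ft (LP (LK LD1_c18 LD2_c6 LD3_c54)) = (LP (LK LD1_c27 LD2_c47 LD3_c54)) :=
  Lre_f IH (LK LD1_c18 LD2_c6 LD3_c54) (LK LD1_c27 LD2_c47 LD3_c54) Lrfl Lrfl
theorem f190515 : Led Lsl_bf (LP (LK LD1_c19 LD2_c6 LD3_c27)) = (LP (LK LD1_c27 LD2_c47 LD3_c54)) :=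
  Lgr Lrot61 (Lpr_ft (f190513 IH) (Lpr_bt (f190495 IH) (Lpr_ft (f190514 IH) (Lpn (LP (LK LD1_c27 LD2_c47 LD3_c54))))))
theorem f190477 : Led Lsl_ct (LP (LK LD1_c19 LD2_c6 LD3_c27)) = (LP (LK LD1_c10 LD2_c33 LD3_c2)) :=
  Lre_c IH (LK LD1_c19 LD2_c6 LD3_c27) (LK LD1_c10 LD2_c33 LD3_c2) Lrfl Lrfl
theorem f190458 : Led Lsl_et (LP (LK LD1_c2 LD2_c37 LD3_c16)) = (LP (LK LD1_c5 LD2_c21 LD3_c22)) :=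
  Lre_e IH (LK LD1_c2 LD2_c37 LD3_c16) (LK LD1_c5 LD2_c21 LD3_c22) Lrfl Lrfl
theorem f190459 : Led Lsl_et (LP (LK LD1_c5 LD2_c19 LD3_c43)) = (LP (LK LD1_c2 LD2_c36 LD3_c30)) :=
  Lre_e IH (LK LD1_c5 LD2_c19 LD3_c43) (LK LD1_c2 LD2_c36 LD3_c30) Lrfl Lrfl
theorem f190460 : Led Lsl_bt (LP (LK LD1_c5 LD2_c21 LD3_c22)) = (LP (LK LD1_c5 LD2_c19 LD3_c43)) :=
  Lgr Lrot119 (Lpe (f190458 IH) (Lpr_bf (K10.f190448 IH) (Lpe (f190459 IH) (Lpn (LP (LK LD1_c5 LD2_c19 LD3_c43))))))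
theorem f190465 : Led Lsl_ft (LP (LK LD1_c10 LD2_c33 LD3_c2)) = (LP (LK LD1_c5 LD2_c21 LD3_c22)) :=
  Lre_f IH (LK LD1_c10 LD2_c33 LD3_c2) (LK LD1_c5 LD2_c21 LD3_c22) Lrfl Lrfl
theorem f190466 : Led Lsl_ft (LP (LK LD1_c5 LD2_c19 LD3_c43)) = (LP (LK LD1_c10 LD2_c29 LD3_c16)) :=
  Lre_f IH (LK LD1_c5 LD2_c19 LD3_c43) (LK LD1_c10 LD2_c29 LD3_c16) Lrfl Lrfl
theorem f190467 : Led Lsl_bf (LP (LK LD1_c10 LD2_c33 LD3_c2)) = (LP (LK LD1_c10 LD2_c29 LD3_c16)) :=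
  Lgr Lrot61 (Lpr_ft (f190465 IH) (Lpr_bt (f190460 IH) (Lpr_ft (f190466 IH) (Lpn (LP (LK LD1_c10 LD2_c29 LD3_c16))))))
theorem f190474 : Led Lsl_bt (LP (LK LD1_c10 LD2_c33 LD3_c2)) = (LP (LK LD1_c10 LD2_c29 LD3_c16)) :=
  Lgr Lrot127 (Lpr_bf (f190467 IH) (Lpn (LP (LK LD1_c10 LD2_c29 LD3_c16))))
theorem f190519 : Led Lsl_ct (LP (LK LD1_c18 LD2_c6 LD3_c59)) = (LP (LK LD1_c27 LD2_c47 LD3_c54)) :=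
  Lre_c IH (LK LD1_c18 LD2_c6 LD3_c59) (LK LD1_c27 LD2_c47 LD3_c54) Lrfl Lrfl
theorem f190520 : Led Lsl_bt (LP (LK LD1_c9 LD2_c54 LD3_c6)) = (LP (LK LD1_c18 LD2_c6 LD3_c59)) :=
  Lre_b IH (LK LD1_c9 LD2_c54 LD3_c6) (LK LD1_c18 LD2_c6 LD3_c59) Lrfl Lrfl
theorem f190521 : Led Lsl_ct (LP (LK LD1_c10 LD2_c29 LD3_c16)) = (LP (LK LD1_c9 LD2_c54 LD3_c6)) :=
  Lgr Lrot83 (Lpe (f190474 IH) (Lpe (f190477 IH) (Lpr_bf (f190515 IH) (Lpe (f190519 IH) (Lpe (f190520 IH) (Lpn (LP (LK LD1_c9 LD2_c54 LD3_c6))))))))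
theorem f190524 : Led Lsl_cf (LP (LK LD1_c10 LD2_c29 LD3_c16)) = (LP (LK LD1_c9 LD2_c54 LD3_c6)) :=
  Lgr Lrot11 (Lpr_ct (f190521 IH) (Lpn (LP (LK LD1_c9 LD2_c54 LD3_c6))))
theorem f190479 : Led Lsl_ft (LP (LK LD1_c10 LD2_c29 LD3_c16)) = (LP (LK LD1_c5 LD2_c19 LD3_c43)) :=
  Lre_f IH (LK LD1_c10 LD2_c29 LD3_c16) (LK LD1_c5 LD2_c19 LD3_c43) Lrfl Lrfl
theorem f190530 : Led Lsl_ft (LP (LK LD1_c5 LD2_c1 LD3_c49)) = (LP (LK LD1_c9 LD2_c54 LD3_c6)) :=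
  Lre_f IH (LK LD1_c5 LD2_c1 LD3_c49) (LK LD1_c9 LD2_c54 LD3_c6) Lrfl Lrfl
theorem f190531 : Led Lsl_ct (LP (LK LD1_c5 LD2_c19 LD3_c43)) = (LP (LK LD1_c5 LD2_c1 LD3_c49)) :=
  Lgr Lrot40 (Lpe (f190479 IH) (Lpr_cf (f190524 IH) (Lpe (f190530 IH) (Lpn (LP (LK LD1_c5 LD2_c1 LD3_c49))))))
theorem f190480 : Led Lsl_et (LP (LK LD1_c2 LD2_c36 LD3_c30)) = (LP (LK LD1_c5 LD2_c19 LD3_c43)) :=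
  Lre_e IH (LK LD1_c2 LD2_c36 LD3_c30) (LK LD1_c5 LD2_c19 LD3_c43) Lrfl Lrfl
theorem f3441 : Led Lsl_et (LP (LK LD1_c5 LD2_c1 LD3_c49)) = (LP (LK LD1_c2 LD2_c28 LD3_c34)) :=
  Lre_e IH (LK LD1_c5 LD2_c1 LD3_c49) (LK LD1_c2 LD2_c28 LD3_c34) Lrfl Lrfl
theorem f190537 : Led Lsl_cf (LP (LK LD1_c2 LD2_c36 LD3_c30)) = (LP (LK LD1_c2 LD2_c28 LD3_c34)) :=
  Lgr Lrot39 (Lpr_et (f190480 IH) (Lpr_ct (f190531 IH) (Lpr_et (f3441 IH) (Lpn (LP (LK LD1_c2 LD2_c28 LD3_c34))))))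
theorem f247895 : Led Lsl_gt (LP (LK LD1_c2 LD2_c36 LD3_c30)) = (LP (LK LD1_c4 LD2_c2 LD3_c36)) :=
  Lgr Lrot150 (Lpr_cf (f190537 IH) (Lpe (f21840 IH) (Lpe (K0.f3570 IH) (Lpr_gt (f3428 IH) (Lpr_ct (f247839 IH) (Lpr_gt (f247888 IH) (Lpr_ct (K9.f45902 IH) (Lpe (K9.f46542 IH) (Lpe (K9.f45847 IH) (Lpn (LP (LK LD1_c4 LD2_c2 LD3_c36))))))))))))
theorem f45968 : Led Lsl_ct (LP (LK LD1_c2 LD2_c37 LD3_c16)) = (LP (LK LD1_c5 LD2_c21 LD3_c21)) :=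
  Lre_c IH (LK LD1_c2 LD2_c37 LD3_c16) (LK LD1_c5 LD2_c21 LD3_c21) Lrfl Lrfl
theorem f214212 : Led Lsl_dt (LP (LK LD1_c18 LD2_c30 LD3_c31)) = (LP (LK LD1_c28 LD2_c4 LD3_c33)) :=
  Lre_d IH (LK LD1_c18 LD2_c30 LD3_c31) (LK LD1_c28 LD2_c4 LD3_c33) Lrfl Lrfl
theorem f214214 : Led Lsl_bf (LP (LK LD1_c18 LD2_c30 LD3_c31)) = (LP (LK LD1_c18 LD2_c11 LD3_c16)) :=
  Lgr Lrot93 (Lpr_dt (f214212 IH) (Lpr_bt (K13.f214208 IH) (Lpr_dt (K13.f214213 IH) (Lpn (LP (LK LD1_c18 LD2_c11 LD3_c16))))))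
theorem f214221 : Led Lsl_bt (LP (LK LD1_c18 LD2_c30 LD3_c31)) = (LP (LK LD1_c18 LD2_c11 LD3_c16)) :=
  Lgr Lrot127 (Lpr_bf (f214214 IH) (Lpn (LP (LK LD1_c18 LD2_c11 LD3_c16))))
theorem f214224 : Led Lsl_at (LP (LK LD1_c10 LD2_c9 LD3_c37)) = (LP (LK LD1_c18 LD2_c30 LD3_c31)) :=
  Lre_a IH (LK LD1_c10 LD2_c9 LD3_c37) (LK LD1_c18 LD2_c30 LD3_c31) Lrfl Lrfl
theorem f171651 : Led Lsl_bt (LP (LK LD1_c5 LD2_c9 LD3_c27)) = (LP (LK LD1_c10 LD2_c9 LD3_c37)) :=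
  Lre_b IH (LK LD1_c5 LD2_c9 LD3_c27) (LK LD1_c10 LD2_c9 LD3_c37) Lrfl Lrfl
theorem f214226 : Led Lsl_bt (LP (LK LD1_c9 LD2_c56 LD3_c23)) = (LP (LK LD1_c5 LD2_c2 LD3_c46)) :=
  Lre_b IH (LK LD1_c9 LD2_c56 LD3_c23) (LK LD1_c5 LD2_c2 LD3_c46) Lrfl Lrfl
theorem f214227 : Led Lsl_af (LP (LK LD1_c5 LD2_c9 LD3_c27)) = (LP (LK LD1_c5 LD2_c2 LD3_c46)) :=
  Lgr Lrot36 (Lpr_bt (f171651 IH) (Lpr_at (f214224 IH) (Lpr_bt (f214221 IH) (Lpr_at (K13.f214225 IH) (Lpr_bt (f214226 IH) (Lpn (LP (LK LD1_c5 LD2_c2 LD3_c46))))))))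
theorem f214103 : Led Lsl_gf (LP (LK LD1_c5 LD2_c9 LD3_c27)) = (LP (LK LD1_c5 LD2_c21 LD3_c21)) :=
  Lgr Lrot104 (Lpr_ct (K12.f214102 IH) (Lpe (K13.f171649 IH) (Lpe (K10.f190976 IH) (Lpr_gf (K12.f214099 IH) (Lpe (K10.f190352 IH) (Lpe (K10.f43928 IH) (Lpe (K1.f43922 IH) (Lpr_gt (K10.f43943 IH) (Lpr_ct (f45968 IH) (Lpn (LP (LK LD1_c5 LD2_c21 LD3_c21))))))))))))
theorem f214342 : Led Lsl_gf (LP (LK LD1_c5 LD2_c21 LD3_c21)) = (LP (LK LD1_c3 LD2_c58 LD3_c5)) :=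
  Lgr Lrot47 (Lpe (f214103 IH) (Lpr_af (f214227 IH) (Lpr_ff (K13.f214332 IH) (Lpn (LP (LK LD1_c3 LD2_c58 LD3_c5))))))
theorem f43860 : Led Lsl_ct (LP (LK LD1_c1 LD2_c55 LD3_c49)) = (LP (LK LD1_c3 LD2_c58 LD3_c5)) :=
  Lre_c IH (LK LD1_c1 LD2_c55 LD3_c49) (LK LD1_c3 LD2_c58 LD3_c5) Lrfl Lrfl
theorem f43847 : Led Lsl_at (LP (LK LD1_c1 LD2_c55 LD3_c48)) = (LP (LK LD1_c1 LD2_c55 LD3_c49)) :=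
  Lgr Lrot100 (Lpr_af (K12.f43845 IH) (Lpn (LP (LK LD1_c1 LD2_c55 LD3_c49))))
theorem f50019 : Led Lsl_bt (LP (LK LD1_c1 LD2_c55 LD3_c49)) = (LP (LK LD1_c2 LD2_c1 LD3_c8)) :=
  Lgr Lrot62 (Lpe (f43847 IH) (Lpe (K1.f31466 IH) (Lpe (K10.f43546 IH) (Lpr_bf (K9.f49835 IH) (Lpe (K8.f49547 IH) (Lpn (LP (LK LD1_c2 LD2_c1 LD3_c8))))))))
theorem f191671 : Led Lsl_bf (LP (LK LD1_c4 LD2_c7 LD3_c34)) = (LP (LK LD1_c2 LD2_c23 LD3_c27)) :=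
  Lgr Lrot24 (Lpr_bt (K10.f191562 IH) (Lpn (LP (LK LD1_c2 LD2_c23 LD3_c27))))
theorem f33359 : Led Lsl_ct (LP (LK LD1_c2 LD2_c23 LD3_c27)) = (LP (LK LD1_c4 LD2_c51 LD3_c18)) :=
  Lre_c IH (LK LD1_c2 LD2_c23 LD3_c27) (LK LD1_c4 LD2_c51 LD3_c18) Lrfl Lrfl
theorem f247927 : Led Lsl_gf (LP (LK LD1_c4 LD2_c51 LD3_c18)) = (LP (LK LD1_c8 LD2_c5 LD3_c46)) :=
  Lgr Lrot129 (Lpe (f33359 IH) (Lpe (f191671 IH) (Lpr_gt (K10.f45012 IH) (Lpe (f50019 IH) (Lpr_ct (f43860 IH) (Lpe (f214342 IH) (Lpe (f45968 IH) (Lpr_bt (K10.f190456 IH) (Lpr_gt (f247895 IH) (Lpr_ct (K9.f45847 IH) (Lpn (LP (LK LD1_c8 LD2_c5 LD3_c46)))))))))))))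
theorem f33362 : Led Lsl_ct (LP (LK LD1_c4 LD2_c51 LD3_c18)) = (LP (LK LD1_c2 LD2_c23 LD3_c27)) :=
  Lre_c IH (LK LD1_c4 LD2_c51 LD3_c18) (LK LD1_c2 LD2_c23 LD3_c27) Lrfl Lrfl
theorem f3339 : Led Lsl_ct (LP (LK LD1_c2 LD2_c28 LD3_c37)) = (LP (LK LD1_c5 LD2_c1 LD3_c60)) :=
  Lre_c IH (LK LD1_c2 LD2_c28 LD3_c37) (LK LD1_c5 LD2_c1 LD3_c60) Lrfl Lrfl
theorem f3340 : Led Lsl_af (LP (LK LD1_c5 LD2_c2 LD3_c0)) = (LP (LK LD1_c5 LD2_c1 LD3_c60)) :=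
  Lgr Lrot68 (Lpr_ct (K0.f3325 IH) (Lpr_at (f3338 IH) (Lpr_ct (f3339 IH) (Lpn (LP (LK LD1_c5 LD2_c1 LD3_c60))))))
theorem f3363 : Led Lsl_gt (LP (LK LD1_c5 LD2_c0 LD3_c54)) = (LP (LK LD1_c9 LD2_c52 LD3_c13)) :=
  Lre_g IH (LK LD1_c5 LD2_c0 LD3_c54) (LK LD1_c9 LD2_c52 LD3_c13) Lrfl Lrfl
theorem f3389 : Led Lsl_gf (LP (LK LD1_c5 LD2_c2 LD3_c0)) = (LP (LK LD1_c9 LD2_c52 LD3_c13)) :=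
  Lgr Lrot76 (Lpr_af (f3340 IH) (Lpr_ff (K2.f3357 IH) (Lpr_gt (f3363 IH) (Lpn (LP (LK LD1_c9 LD2_c52 LD3_c13))))))
theorem f3727 : Led Lsl_ct (LP (LK LD1_c5 LD2_c0 LD3_c49)) = (LP (LK LD1_c2 LD2_c28 LD3_c9)) :=
  Lre_c IH (LK LD1_c5 LD2_c0 LD3_c49) (LK LD1_c2 LD2_c28 LD3_c9) Lrfl Lrfl
theorem f3333 : Led Lsl_gt (LP (LK LD1_c2 LD2_c28 LD3_c9)) = (LP (LK LD1_c1 LD2_c11 LD3_c31)) :=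
  Lre_g IH (LK LD1_c2 LD2_c28 LD3_c9) (LK LD1_c1 LD2_c11 LD3_c31) Lrfl Lrfl
theorem f3331 : Led Lsl_gt (LP (LK LD1_c0 LD2_c33 LD3_c7)) = (LP (LK LD1_c1 LD2_c11 LD3_c17)) :=
  Lre_g IH (LK LD1_c0 LD2_c33 LD3_c7) (LK LD1_c1 LD2_c11 LD3_c17) Lrfl Lrfl
theorem f3332 : Led Lsl_dt (LP (LK LD1_c1 LD2_c11 LD3_c17)) = (LP (LK LD1_c2 LD2_c28 LD3_c8)) :=
  Lre_d IH (LK LD1_c1 LD2_c11 LD3_c17) (LK LD1_c2 LD2_c28 LD3_c8) Lrfl Lrfl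
theorem f165465 : Led Lsl_ct (LP (LK LD1_c2 LD2_c28 LD3_c8)) = (LP (LK LD1_c5 LD2_c0 LD3_c47)) :=
  Lre_c IH (LK LD1_c2 LD2_c28 LD3_c8) (LK LD1_c5 LD2_c0 LD3_c47) Lrfl Lrfl
theorem f186867 : Led Lsl_dt (LP (LK LD1_c9 LD2_c51 LD3_c57)) = (LP (LK LD1_c5 LD2_c0 LD3_c47)) :=
  Lre_d IH (LK LD1_c9 LD2_c51 LD3_c57) (LK LD1_c5 LD2_c0 LD3_c47) Lrfl Lrfl
theorem f186868 : Led Lsl_gf (LP (LK LD1_c9 LD2_c51 LD3_c57)) = (LP (LK LD1_c15 LD2_c14 LD3_c38)) :=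
  Lgr Lrot143 (Lpr_dt (f186867 IH) (Lpe (f165465 IH) (Lpe (f3332 IH) (Lpe (f3331 IH) (Lpe (K0.f3310 IH) (Lpe (f3333 IH) (Lpe (f3727 IH) (Lpr_gt (K12.f186859 IH) (Lpr_dt (K9.f46542 IH) (Lpn (LP (LK LD1_c15 LD2_c14 LD3_c38))))))))))))
theorem f247954 : Led Lsl_cf (LP (LK LD1_c9 LD2_c52 LD3_c13)) = (LP (LK LD1_c9 LD2_c51 LD3_c57)) :=
  Lgr Lrot169 (Lpe (f3389 IH) (Lpr_ct (K0.f3325 IH) (Lpe (K0.f3318 IH) (Lpe (K0.f3317 IH) (Lpe (K10.f33350 IH) (Lpe (f33362 IH) (Lpr_gf (f247927 IH) (Lpr_df (K9.f46544 IH) (Lpe (f186868 IH) (Lpn (LP (LK LD1_c9 LD2_c51 LD3_c57))))))))))))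
theorem f248050 : Led Lsl_ct (LP (LK LD1_c9 LD2_c52 LD3_c13)) = (LP (LK LD1_c9 LD2_c51 LD3_c57)) :=
  Lgr Lrot59 (Lpr_cf (f247954 IH) (Lpn (LP (LK LD1_c9 LD2_c51 LD3_c57))))
theorem f180758 : Led Lsl_cf (LP (LK LD1_c2 LD2_c34 LD3_c43)) = (LP (LK LD1_c5 LD2_c0 LD3_c51)) :=
  Lgr Lrot11 (Lpr_ct (K10.f180748 IH) (Lpn (LP (LK LD1_c5 LD2_c0 LD3_c51))))
theorem f186880 : Led Lsl_gt (LP (LK LD1_c9 LD2_c51 LD3_c57)) = (LP (LK LD1_c5 LD2_c19 LD3_c46)) :=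
  Lgr Lrot46 (Lpr_gf (f186868 IH) (Lpe (f46548 IH) (Lpe (K1.f47026 IH) (Lpn (LP (LK LD1_c5 LD2_c19 LD3_c46))))))
theorem f45874 : Led Lsl_dt (LP (LK LD1_c1 LD2_c58 LD3_c17)) = (LP (LK LD1_c0 LD2_c56 LD3_c0)) :=
  Lre_d IH (LK LD1_c1 LD2_c58 LD3_c17) (LK LD1_c0 LD2_c56 LD3_c0) Lrfl Lrfl
theorem f45878 : Led Lsl_dt (LP (LK LD1_c2 LD2_c36 LD3_c32)) = (LP (LK LD1_c5 LD2_c19 LD3_c46)) :=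
  Lre_d IH (LK LD1_c2 LD2_c36 LD3_c32) (LK LD1_c5 LD2_c19 LD3_c46) Lrfl Lrfl
theorem f247796 : Led Lsl_ct (LP (LK LD1_c5 LD2_c19 LD3_c46)) = (LP (LK LD1_c9 LD2_c52 LD3_c50)) :=
  Lgr Lrot98 (Lpe (f45878 IH) (Lpe (K12.f45877 IH) (Lpe (K12.f45876 IH) (Lpe (K1.f45867 IH) (Lpe (f45874 IH) (Lpe (K9.f45858 IH) (Lpe (K9.f45865 IH) (Lpr_ft (f46554 IH) (Lpr_at (f247739 IH) (Lpn (LP (LK LD1_c9 LD2_c52 LD3_c50))))))))))))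
theorem f248072 : Led Lsl_gt (LP (LK LD1_c2 LD2_c34 LD3_c43)) = (LP (LK LD1_c2 LD2_c36 LD3_c33)) :=
  Lgr Lrot150 (Lpr_cf (f180758 IH) (Lpe (K10.f33365 IH) (Lpe (K0.f3327 IH) (Lpr_gt (f3363 IH) (Lpr_ct (f248050 IH) (Lpr_gt (f186880 IH) (Lpr_ct (f247796 IH) (Lpe (f247800 IH) (Lpr_cf (K9.f184521 IH) (Lpn (LP (LK LD1_c2 LD2_c36 LD3_c33))))))))))))
theorem f51283 : Led Lsl_at (LP (LK LD1_c2 LD2_c24 LD3_c53)) = (LP (LK LD1_c4 LD2_c13 LD3_c42)) :=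
  Lgr Lrot51 (Lpe (K9.f44463 IH) (Lpr_af (K12.f50852 IH) (Lpe (K9.f44570 IH) (Lpn (LP (LK LD1_c4 LD2_c13 LD3_c42))))))
theorem f247716 : Led Lsl_gf (LP (LK LD1_c4 LD2_c13 LD3_c42)) = (LP (LK LD1_c2 LD2_c28 LD3_c31)) :=
  Lgr Lrot76 (Lpe (f51283 IH) (Lpe (K12.f44454 IH) (Lpr_gt (f247714 IH) (Lpn (LP (LK LD1_c2 LD2_c28 LD3_c31))))))
theorem f248075 : Led Lsl_gf (LP (LK LD1_c2 LD2_c34 LD3_c44)) = (LP (LK LD1_c4 LD2_c13 LD3_c47)) :=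
  Lgr Lrot126 (Lpe (K12.f180746 IH) (Lpr_bt (K12.f180753 IH) (Lpr_gt (f248072 IH) (Lpe (K9.f184521 IH) (Lpr_gt (f247725 IH) (Lpe (f33303 IH) (Lpr_bt (f33300 IH) (Lpe (f247716 IH) (Lpe (K9.f49477 IH) (Lpr_ct (K12.f49451 IH) (Lpn (LP (LK LD1_c4 LD2_c13 LD3_c47)))))))))))))
theorem f189501 : Led Lsl_bf (LP (LK LD1_c4 LD2_c13 LD3_c46)) = (LP (LK LD1_c4 LD2_c54 LD3_c17)) :=
  Lgr Lrot24 (Lpr_bt (K10.f189498 IH) (Lpn (LP (LK LD1_c4 LD2_c54 LD3_c17))))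
theorem f229937 : Led Lsl_dt (LP (LK LD1_c4 LD2_c54 LD3_c2)) = (LP (LK LD1_c8 LD2_c36 LD3_c33)) :=
  Lgr Lrot42 (Lpr_df (K12.f229934 IH) (Lpn (LP (LK LD1_c8 LD2_c36 LD3_c33))))
theorem f33116 : Led Lsl_gt (LP (LK LD1_c1 LD2_c15 LD3_c5)) = (LP (LK LD1_c2 LD2_c36 LD3_c10)) :=
  Lre_g IH (LK LD1_c1 LD2_c15 LD3_c5) (LK LD1_c2 LD2_c36 LD3_c10) Lrfl Lrfl
theorem f44280 : Led Lsl_dt (LP (LK LD1_c2 LD2_c36 LD3_c10)) = (LP (LK LD1_c5 LD2_c19 LD3_c3)) :=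
  Lre_d IH (LK LD1_c2 LD2_c36 LD3_c10) (LK LD1_c5 LD2_c19 LD3_c3) Lrfl Lrfl
theorem f229945 : Led Lsl_cf (LP (LK LD1_c5 LD2_c19 LD3_c3)) = (LP (LK LD1_c8 LD2_c36 LD3_c33)) :=
  Lgr Lrot14 (Lpe (f44280 IH) (Lpe (f33116 IH) (Lpe (K1.f28253 IH) (Lpe (K10.f28280 IH) (Lpe (K10.f190282 IH) (Lpr_gt (K12.f190878 IH) (Lpr_dt (K9.f43548 IH) (Lpr_gt (K9.f43810 IH) (Lpr_dt (f229937 IH) (Lpn (LP (LK LD1_c8 LD2_c36 LD3_c33))))))))))))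
theorem f33117 : Led Lsl_dt (LP (LK LD1_c5 LD2_c19 LD3_c3)) = (LP (LK LD1_c2 LD2_c36 LD3_c10)) :=
  Lre_d IH (LK LD1_c5 LD2_c19 LD3_c3) (LK LD1_c2 LD2_c36 LD3_c10) Lrfl Lrfl
theorem f169336 : Led Lsl_ct (LP (LK LD1_c2 LD2_c6 LD3_c43)) = (LP (LK LD1_c4 LD2_c18 LD3_c56)) :=
  Lre_c IH (LK LD1_c2 LD2_c6 LD3_c43) (LK LD1_c4 LD2_c18 LD3_c56) Lrfl Lrfl
theorem f31684 : Led Lsl_gt (LP (LK LD1_c1 LD2_c0 LD3_c19)) = (LP (LK LD1_c2 LD2_c6 LD3_c43)) :=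
  Lre_g IH (LK LD1_c1 LD2_c0 LD3_c19) (LK LD1_c2 LD2_c6 LD3_c43) Lrfl Lrfl
theorem f171210 : Led Lsl_bt (LP (LK LD1_c1 LD2_c0 LD3_c19)) = (LP (LK LD1_c0 LD2_c27 LD3_c25)) :=
  Lre_b IH (LK LD1_c1 LD2_c0 LD3_c19) (LK LD1_c0 LD2_c27 LD3_c25) Lrfl Lrfl
theorem f171212 : Led Lsl_df (LP (LK LD1_c1 LD2_c0 LD3_c19)) = (LP (LK LD1_c1 LD2_c13 LD3_c12)) :=
  Lgr Lrot12 (Lpr_bt (f171210 IH) (Lpr_dt (K9.f171208 IH) (Lpr_bt (K12.f171211 IH) (Lpn (LP (LK LD1_c1 LD2_c13 LD3_c12))))))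
theorem f43780 : Led Lsl_gt (LP (LK LD1_c2 LD2_c24 LD3_c60)) = (LP (LK LD1_c4 LD2_c54 LD3_c9)) :=
  Lre_g IH (LK LD1_c2 LD2_c24 LD3_c60) (LK LD1_c4 LD2_c54 LD3_c9) Lrfl Lrfl
theorem f229947 : Led Lsl_cf (LP (LK LD1_c2 LD2_c36 LD3_c10)) = (LP (LK LD1_c4 LD2_c54 LD3_c9)) :=
  Lgr Lrot99 (Lpe (f33117 IH) (Lpr_cf (f229945 IH) (Lpe (K12.f169337 IH) (Lpe (f169336 IH) (Lpe (f31684 IH) (Lpr_df (f171212 IH) (Lpr_gt (K12.f190783 IH) (Lpr_ct (K9.f43498 IH) (Lpr_gt (f43780 IH) (Lpn (LP (LK LD1_c4 LD2_c54 LD3_c9))))))))))))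
theorem f229949 : Led Lsl_ct (LP (LK LD1_c2 LD2_c36 LD3_c10)) = (LP (LK LD1_c4 LD2_c54 LD3_c9)) :=
  Lgr Lrot59 (Lpr_cf (f229947 IH) (Lpn (LP (LK LD1_c4 LD2_c54 LD3_c9))))
theorem f44227 : Led Lsl_bt (LP (LK LD1_c0 LD2_c34 LD3_c53)) = (LP (LK LD1_c1 LD2_c15 LD3_c5)) :=
  Lre_b IH (LK LD1_c0 LD2_c34 LD3_c53) (LK LD1_c1 LD2_c15 LD3_c5) Lrfl Lrfl
theorem f44275 : Led Lsl_gt (LP (LK LD1_c2 LD2_c36 LD3_c25)) = (LP (LK LD1_c1 LD2_c15 LD3_c13)) :=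
  Lre_g IH (LK LD1_c2 LD2_c36 LD3_c25) (LK LD1_c1 LD2_c15 LD3_c13) Lrfl Lrfl
theorem f43454 : Led Lsl_ct (LP (LK LD1_c4 LD2_c54 LD3_c28)) = (LP (LK LD1_c2 LD2_c25 LD3_c7)) :=
  Lre_c IH (LK LD1_c4 LD2_c54 LD3_c28) (LK LD1_c2 LD2_c25 LD3_c7) Lrfl Lrfl
theorem f43455 : Led Lsl_af (LP (LK LD1_c4 LD2_c54 LD3_c28)) = (LP (LK LD1_c4 LD2_c54 LD3_c13)) :=
  Lgr Lrot68 (Lpr_ct (f43454 IH) (Lpr_at (K9.f43447 IH) (Lpr_ct (K9.f43450 IH) (Lpn (LP (LK LD1_c4 LD2_c54 LD3_c13))))))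
theorem f43493 : Led Lsl_ft (LP (LK LD1_c2 LD2_c24 LD3_c60)) = (LP (LK LD1_c4 LD2_c54 LD3_c13)) :=
  Lre_f IH (LK LD1_c2 LD2_c24 LD3_c60) (LK LD1_c4 LD2_c54 LD3_c13) Lrfl Lrfl
theorem f43781 : Led Lsl_gf (LP (LK LD1_c4 LD2_c54 LD3_c28)) = (LP (LK LD1_c4 LD2_c54 LD3_c9)) :=
  Lgr Lrot76 (Lpr_af (f43455 IH) (Lpe (f43493 IH) (Lpr_gt (f43780 IH) (Lpn (LP (LK LD1_c4 LD2_c54 LD3_c9))))))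
theorem f229981 : Led Lsl_cf (LP (LK LD1_c2 LD2_c36 LD3_c25)) = (LP (LK LD1_c4 LD2_c54 LD3_c17)) :=
  Lgr Lrot160 (Lpr_gt (f44275 IH) (Lpe (K9.f44118 IH) (Lpr_bt (f44227 IH) (Lpr_gt (f33116 IH) (Lpr_ct (f229949 IH) (Lpe (f43781 IH) (Lpe (K12.f43506 IH) (Lpr_bt (K12.f50835 IH) (Lpr_gt (K10.f49480 IH) (Lpr_bf (f189501 IH) (Lpn (LP (LK LD1_c4 LD2_c54 LD3_c17)))))))))))))
theorem f46370 : Led Lsl_bt (LP (LK LD1_c1 LD2_c15 LD3_c21)) = (LP (LK LD1_c2 LD2_c36 LD3_c33)) :=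
  Lre_b IH (LK LD1_c1 LD2_c15 LD3_c21) (LK LD1_c2 LD2_c36 LD3_c33) Lrfl Lrfl
theorem f28288 : Led Lsl_ct (LP (LK LD1_c1 LD2_c15 LD3_c21)) = (LP (LK LD1_c2 LD2_c36 LD3_c45)) :=
  Lre_c IH (LK LD1_c1 LD2_c15 LD3_c21) (LK LD1_c2 LD2_c36 LD3_c45) Lrfl Lrfl
theorem f248079 : Led Lsl_gf (LP (LK LD1_c2 LD2_c36 LD3_c25)) = (LP (LK LD1_c2 LD2_c36 LD3_c45)) :=
  Lgr Lrot126 (Lpr_cf (f229981 IH) (Lpe (f189501 IH) (Lpr_gt (K10.f45731 IH) (Lpr_ct (K12.f49451 IH) (Lpe (f248075 IH) (Lpe (K12.f180746 IH) (Lpr_bt (K12.f180753 IH) (Lpr_gt (f248072 IH) (Lpe (f46370 IH) (Lpr_ct (f28288 IH) (Lpn (LP (LK LD1_c2 LD2_c36 LD3_c45)))))))))))))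
theorem f248083 : Led Lsl_gt (LP (LK LD1_c1 LD2_c15 LD3_c12)) = (LP (LK LD1_c1 LD2_c15 LD3_c21)) :=
  Lgr Lrot82 (Lpe (K12.f230555 IH) (Lpr_ct (K12.f187550 IH) (Lpr_gf (K12.f191620 IH) (Lpe (K10.f183970 IH) (Lpr_bt (K9.f49546 IH) (Lpe (K10.f45731 IH) (Lpr_bf (f189501 IH) (Lpe (f229981 IH) (Lpr_gf (f248079 IH) (Lpe (f28288 IH) (Lpn (LP (LK LD1_c1 LD2_c15 LD3_c21)))))))))))))
theorem f43504 : Led Lsl_cf (LP (LK LD1_c9 LD2_c40 LD3_c33)) = (LP (LK LD1_c9 LD2_c39 LD3_c33)) :=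
  Lgr Lrot11 (Lpr_ct (K9.f43502 IH) (Lpn (LP (LK LD1_c9 LD2_c39 LD3_c33))))
theorem f43550 : Led Lsl_dt (LP (LK LD1_c4 LD2_c54 LD3_c12)) = (LP (LK LD1_c2 LD2_c24 LD3_c60)) :=
  Lre_d IH (LK LD1_c4 LD2_c54 LD3_c12) (LK LD1_c2 LD2_c24 LD3_c60) Lrfl Lrfl
theorem f43525 : Led Lsl_ct (LP (LK LD1_c9 LD2_c39 LD3_c58)) = (LP (LK LD1_c4 LD2_c54 LD3_c12)) :=
  Lre_c IH (LK LD1_c9 LD2_c39 LD3_c58) (LK LD1_c4 LD2_c54 LD3_c12) Lrfl Lrfl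
theorem f184086 : Led Lsl_dt (LP (LK LD1_c5 LD2_c16 LD3_c26)) = (LP (LK LD1_c9 LD2_c39 LD3_c58)) :=
  Lgr Lrot173 (Lpr_cf (K9.f184081 IH) (Lpe (K12.f43288 IH) (Lpe (K10.f43282 IH) (Lpe (K9.f43296 IH) (Lpe (f43454 IH) (Lpe (f43567 IH) (Lpr_cf (f43504 IH) (Lpe (K9.f43513 IH) (Lpe (K9.f43514 IH) (Lpe (K9.f43548 IH) (Lpe (K10.f43405 IH) (Lpe (K1.f43549 IH) (Lpe (K9.f43466 IH) (Lpe (f43550 IH) (Lpe (f43525 IH) (Lpn (LP (LK LD1_c9 LD2_c39 LD3_c58))))))))))))))))))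
theorem f28290 : Led Lsl_dt (LP (LK LD1_c1 LD2_c15 LD3_c21)) = (LP (LK LD1_c0 LD2_c34 LD3_c58)) :=
  Lre_d IH (LK LD1_c1 LD2_c15 LD3_c21) (LK LD1_c0 LD2_c34 LD3_c58) Lrfl Lrfl
theorem f180541 : Led Lsl_ct (LP (LK LD1_c2 LD2_c30 LD3_c22)) = (LP (LK LD1_c1 LD2_c12 LD3_c11)) :=
  Lre_c IH (LK LD1_c2 LD2_c30 LD3_c22) (LK LD1_c1 LD2_c12 LD3_c11) Lrfl Lrfl
theorem f180542 : Led Lsl_dt (LP (LK LD1_c5 LD2_c6 LD3_c11)) = (LP (LK LD1_c2 LD2_c30 LD3_c22)) :=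
  Lre_d IH (LK LD1_c5 LD2_c6 LD3_c11) (LK LD1_c2 LD2_c30 LD3_c22) Lrfl Lrfl
theorem f248087 : Led Lsl_gt (LP (LK LD1_c9 LD2_c39 LD3_c58)) = (LP (LK LD1_c5 LD2_c6 LD3_c11)) :=
  Lgr Lrot49 (Lpe (f184086 IH) (Lpr_gf (K12.f230416 IH) (Lpe (K12.f230278 IH) (Lpr_gt (f248083 IH) (Lpr_dt (f28290 IH) (Lpe (K10.f184616 IH) (Lpr_dt (K10.f182058 IH) (Lpe (f180541 IH) (Lpe (f180542 IH) (Lpn (LP (LK LD1_c5 LD2_c6 LD3_c11))))))))))))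
theorem f43517 : Led Lsl_ft (LP (LK LD1_c9 LD2_c40 LD3_c31)) = (LP (LK LD1_c9 LD2_c39 LD3_c33)) :=
  Lgr Lrot48 (Lpr_ff (K9.f43511 IH) (Lpn (LP (LK LD1_c9 LD2_c39 LD3_c33))))
theorem f43521 : Led Lsl_af (LP (LK LD1_c9 LD2_c40 LD3_c31)) = (LP (LK LD1_c9 LD2_c39 LD3_c58)) :=
  Lgr Lrot0 (Lpr_at (K9.f43519 IH) (Lpn (LP (LK LD1_c9 LD2_c39 LD3_c58))))
theorem f43564 : Led Lsl_ff (LP (LK LD1_c9 LD2_c39 LD3_c58)) = (LP (LK LD1_c9 LD2_c40 LD3_c5)) :=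
  Lgr Lrot30 (Lpe (f43521 IH) (Lpr_ft (f43517 IH) (Lpr_at (K13.f43532 IH) (Lpn (LP (LK LD1_c9 LD2_c40 LD3_c5))))))
theorem f184095 : Led Lsl_df (LP (LK LD1_c5 LD2_c16 LD3_c26)) = (LP (LK LD1_c9 LD2_c39 LD3_c58)) :=
  Lgr Lrot78 (Lpr_ft (K9.f184091 IH) (Lpr_dt (K9.f43431 IH) (Lpe (f43564 IH) (Lpn (LP (LK LD1_c9 LD2_c39 LD3_c58))))))
theorem f44126 : Led Lsl_dt (LP (LK LD1_c1 LD2_c15 LD3_c13)) = (LP (LK LD1_c2 LD2_c36 LD3_c27)) :=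
  Lre_d IH (LK LD1_c1 LD2_c15 LD3_c13) (LK LD1_c2 LD2_c36 LD3_c27) Lrfl Lrfl
theorem f46527 : Led Lsl_ct (LP (LK LD1_c5 LD2_c19 LD3_c39)) = (LP (LK LD1_c2 LD2_c36 LD3_c27)) :=
  Lre_c IH (LK LD1_c5 LD2_c19 LD3_c39) (LK LD1_c2 LD2_c36 LD3_c27) Lrfl Lrfl
theorem f43977 : Led Lsl_dt (LP (LK LD1_c2 LD2_c36 LD3_c17)) = (LP (LK LD1_c5 LD2_c19 LD3_c13)) :=
  Lre_d IH (LK LD1_c2 LD2_c36 LD3_c17) (LK LD1_c5 LD2_c19 LD3_c13) Lrfl Lrfl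
theorem f189477 : Led Lsl_et (LP (LK LD1_c5 LD2_c3 LD3_c47)) = (LP (LK LD1_c2 LD2_c29 LD3_c21)) :=
  Lre_e IH (LK LD1_c5 LD2_c3 LD3_c47) (LK LD1_c2 LD2_c29 LD3_c21) Lrfl Lrfl
theorem f166943 : Led Lsl_dt (LP (LK LD1_c5 LD2_c3 LD3_c47)) = (LP (LK LD1_c9 LD2_c58 LD3_c30)) :=
  Lre_d IH (LK LD1_c5 LD2_c3 LD3_c47) (LK LD1_c9 LD2_c58 LD3_c30) Lrfl Lrfl
theorem f166977 : Led Lsl_gt (LP (LK LD1_c18 LD2_c14 LD3_c57)) = (LP (LK LD1_c9 LD2_c58 LD3_c30)) :=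
  Lre_g IH (LK LD1_c18 LD2_c14 LD3_c57) (LK LD1_c9 LD2_c58 LD3_c30) Lrfl Lrfl
theorem f166876 : Led Lsl_et (LP (LK LD1_c2 LD2_c29 LD3_c22)) = (LP (LK LD1_c1 LD2_c11 LD3_c47)) :=
  Lre_e IH (LK LD1_c2 LD2_c29 LD3_c22) (LK LD1_c1 LD2_c11 LD3_c47) Lrfl Lrfl
theorem f166877 : Led Lsl_gt (LP (LK LD1_c4 LD2_c12 LD3_c30)) = (LP (LK LD1_c2 LD2_c3 LD3_c26)) :=
  Lre_g IH (LK LD1_c4 LD2_c12 LD3_c30) (LK LD1_c2 LD2_c3 LD3_c26) Lrfl Lrfl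
theorem f166878 : Led Lsl_dt (LP (LK LD1_c8 LD2_c24 LD3_c43)) = (LP (LK LD1_c4 LD2_c12 LD3_c30)) :=
  Lre_d IH (LK LD1_c8 LD2_c24 LD3_c43) (LK LD1_c4 LD2_c12 LD3_c30) Lrfl Lrfl
theorem f43817 : Led Lsl_dt (LP (LK LD1_c2 LD2_c24 LD3_c58)) = (LP (LK LD1_c1 LD2_c9 LD3_c42)) :=
  Lre_d IH (LK LD1_c2 LD2_c24 LD3_c58) (LK LD1_c1 LD2_c9 LD3_c42) Lrfl Lrfl
theorem f43819 : Led Lsl_et (LP (LK LD1_c2 LD2_c24 LD3_c58)) = (LP (LK LD1_c4 LD2_c54 LD3_c6)) :=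
  Lre_e IH (LK LD1_c2 LD2_c24 LD3_c58) (LK LD1_c4 LD2_c54 LD3_c6) Lrfl Lrfl
theorem f189455 : Led Lsl_gf (LP (LK LD1_c8 LD2_c24 LD3_c43)) = (LP (LK LD1_c4 LD2_c54 LD3_c6)) :=
  Lgr Lrot138 (Lpr_dt (f166878 IH) (Lpr_gt (f166877 IH) (Lpe (K10.f166827 IH) (Lpr_et (f166876 IH) (Lpr_gt (K10.f189448 IH) (Lpe (K1.f44333 IH) (Lpr_dt (K1.f43549 IH) (Lpr_gt (K12.f43814 IH) (Lpe (f43817 IH) (Lpr_et (f43819 IH) (Lpn (LP (LK LD1_c4 LD2_c54 LD3_c6)))))))))))))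
theorem f166697 : Led Lsl_bt (LP (LK LD1_c2 LD2_c29 LD3_c22)) = (LP (LK LD1_c1 LD2_c11 LD3_c49)) :=
  Lre_b IH (LK LD1_c2 LD2_c29 LD3_c22) (LK LD1_c1 LD2_c11 LD3_c49) Lrfl Lrfl
theorem f166698 : Led Lsl_bt (LP (LK LD1_c0 LD2_c58 LD3_c45)) = (LP (LK LD1_c2 LD2_c3 LD3_c26)) :=
  Lre_b IH (LK LD1_c0 LD2_c58 LD3_c45) (LK LD1_c2 LD2_c3 LD3_c26) Lrfl Lrfl
theorem f166699 : Led Lsl_df (LP (LK LD1_c2 LD2_c29 LD3_c22)) = (LP (LK LD1_c2 LD2_c3 LD3_c26)) :=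
  Lgr Lrot12 (Lpr_bt (f166697 IH) (Lpr_dt (K10.f166688 IH) (Lpr_bt (f166698 IH) (Lpn (LP (LK LD1_c2 LD2_c3 LD3_c26))))))
theorem f166973 : Led Lsl_ct (LP (LK LD1_c2 LD2_c29 LD3_c22)) = (LP (LK LD1_c5 LD2_c3 LD3_c47)) :=
  Lre_c IH (LK LD1_c2 LD2_c29 LD3_c22) (LK LD1_c5 LD2_c3 LD3_c47) Lrfl Lrfl
theorem f166848 : Led Lsl_dt (LP (LK LD1_c9 LD2_c58 LD3_c30)) = (LP (LK LD1_c5 LD2_c3 LD3_c47)) :=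
  Lre_d IH (LK LD1_c9 LD2_c58 LD3_c30) (LK LD1_c5 LD2_c3 LD3_c47) Lrfl Lrfl
theorem f189458 : Led Lsl_ct (LP (LK LD1_c9 LD2_c39 LD3_c37)) = (LP (LK LD1_c4 LD2_c54 LD3_c6)) :=
  Lre_c IH (LK LD1_c9 LD2_c39 LD3_c37) (LK LD1_c4 LD2_c54 LD3_c6) Lrfl Lrfl
theorem f189459 : Led Lsl_gt (LP (LK LD1_c9 LD2_c39 LD3_c37)) = (LP (LK LD1_c17 LD2_c45 LD3_c57)) :=
  Lre_g IH (LK LD1_c9 LD2_c39 LD3_c37) (LK LD1_c17 LD2_c45 LD3_c57) Lrfl Lrfl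
theorem f189460 : Led Lsl_df (LP (LK LD1_c18 LD2_c14 LD3_c57)) = (LP (LK LD1_c17 LD2_c45 LD3_c57)) :=
  Lgr Lrot153 (Lpr_gt (f166977 IH) (Lpr_dt (f166848 IH) (Lpe (f166973 IH) (Lpr_df (f166699 IH) (Lpe (f166877 IH) (Lpe (f166878 IH) (Lpr_gf (f189455 IH) (Lpe (f189458 IH) (Lpr_gt (f189459 IH) (Lpn (LP (LK LD1_c17 LD2_c45 LD3_c57))))))))))))
theorem f189478 : Led Lsl_et (LP (LK LD1_c4 LD2_c54 LD3_c5)) = (LP (LK LD1_c9 LD2_c39 LD3_c37)) :=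
  Lre_e IH (LK LD1_c4 LD2_c54 LD3_c5) (LK LD1_c9 LD2_c39 LD3_c37) Lrfl Lrfl
theorem f189479 : Led Lsl_dt (LP (LK LD1_c4 LD2_c54 LD3_c5)) = (LP (LK LD1_c9 LD2_c39 LD3_c36)) :=
  Lre_d IH (LK LD1_c4 LD2_c54 LD3_c5) (LK LD1_c9 LD2_c39 LD3_c36) Lrfl Lrfl
theorem f190629 : Led Lsl_gt (LP (LK LD1_c5 LD2_c19 LD3_c13)) = (LP (LK LD1_c9 LD2_c39 LD3_c36)) :=
  Lgr Lrot112 (Lpe (f43977 IH) (Lpe (K1.f43958 IH) (Lpr_gf (K10.f190620 IH) (Lpe (f189477 IH) (Lpr_dt (f166943 IH) (Lpe (f166977 IH) (Lpr_df (f189460 IH) (Lpe (f189459 IH) (Lpe (f189478 IH) (Lpr_dt (f189479 IH) (Lpn (LP (LK LD1_c9 LD2_c39 LD3_c36)))))))))))))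
theorem f44816 : Led Lsl_et (LP (LK LD1_c8 LD2_c52 LD3_c52)) = (LP (LK LD1_c4 LD2_c27 LD3_c29)) :=
  Lre_e IH (LK LD1_c8 LD2_c52 LD3_c52) (LK LD1_c4 LD2_c27 LD3_c29) Lrfl Lrfl
theorem f44123 : Led Lsl_et (LP (LK LD1_c4 LD2_c27 LD3_c19)) = (LP (LK LD1_c8 LD2_c52 LD3_c27)) :=
  Lre_e IH (LK LD1_c4 LD2_c27 LD3_c19) (LK LD1_c8 LD2_c52 LD3_c27) Lrfl Lrfl
theorem f47223 : Led Lsl_af (LP (LK LD1_c8 LD2_c52 LD3_c52)) = (LP (LK LD1_c8 LD2_c52 LD3_c27)) :=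
  Lgr Lrot50 (Lpr_et (f44816 IH) (Lpr_at (K13.f47215 IH) (Lpr_et (f44123 IH) (Lpn (LP (LK LD1_c8 LD2_c52 LD3_c27))))))
theorem f44804 : Led Lsl_ft (LP (LK LD1_c8 LD2_c52 LD3_c52)) = (LP (LK LD1_c16 LD2_c36 LD3_c11)) :=
  Lre_f IH (LK LD1_c8 LD2_c52 LD3_c52) (LK LD1_c16 LD2_c36 LD3_c11) Lrfl Lrfl
theorem f44140 : Led Lsl_ft (LP (LK LD1_c16 LD2_c35 LD3_c28)) = (LP (LK LD1_c8 LD2_c52 LD3_c27)) :=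
  Lre_f IH (LK LD1_c16 LD2_c35 LD3_c28) (LK LD1_c8 LD2_c52 LD3_c27) Lrfl Lrfl
theorem f47322 : Led Lsl_at (LP (LK LD1_c16 LD2_c36 LD3_c11)) = (LP (LK LD1_c16 LD2_c35 LD3_c28)) :=
  Lgr Lrot66 (Lpe (f44804 IH) (Lpr_af (f47223 IH) (Lpe (f44140 IH) (Lpn (LP (LK LD1_c16 LD2_c35 LD3_c28))))))
theorem f28257 : Led Lsl_dt (LP (LK LD1_c2 LD2_c36 LD3_c44)) = (LP (LK LD1_c1 LD2_c15 LD3_c20)) :=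
  Lre_d IH (LK LD1_c2 LD2_c36 LD3_c44) (LK LD1_c1 LD2_c15 LD3_c20) Lrfl Lrfl
theorem f44777 : Led Lsl_et (LP (LK LD1_c5 LD2_c20 LD3_c12)) = (LP (LK LD1_c2 LD2_c36 LD3_c44)) :=
  Lre_e IH (LK LD1_c5 LD2_c20 LD3_c12) (LK LD1_c2 LD2_c36 LD3_c44) Lrfl Lrfl
theorem f44779 : Led Lsl_et (LP (LK LD1_c4 LD2_c27 LD3_c29)) = (LP (LK LD1_c8 LD2_c52 LD3_c52)) :=
  Lre_e IH (LK LD1_c4 LD2_c27 LD3_c29) (LK LD1_c8 LD2_c52 LD3_c52) Lrfl Lrfl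
theorem f44780 : Led Lsl_df (LP (LK LD1_c5 LD2_c20 LD3_c12)) = (LP (LK LD1_c8 LD2_c52 LD3_c52)) :=
  Lgr Lrot70 (Lpr_et (f44777 IH) (Lpr_dt (f28257 IH) (Lpr_et (K1.f44770 IH) (Lpr_dt (K13.f44778 IH) (Lpr_et (f44779 IH) (Lpn (LP (LK LD1_c8 LD2_c52 LD3_c52))))))))
theorem f44800 : Led Lsl_ft (LP (LK LD1_c5 LD2_c20 LD3_c12)) = (LP (LK LD1_c10 LD2_c30 LD3_c25)) :=
  Lre_f IH (LK LD1_c5 LD2_c20 LD3_c12) (LK LD1_c10 LD2_c30 LD3_c25) Lrfl Lrfl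
theorem f44801 : Led Lsl_ft (LP (LK LD1_c16 LD2_c36 LD3_c11)) = (LP (LK LD1_c8 LD2_c52 LD3_c52)) :=
  Lre_f IH (LK LD1_c16 LD2_c36 LD3_c11) (LK LD1_c8 LD2_c52 LD3_c52) Lrfl Lrfl
theorem f44802 : Led Lsl_dt (LP (LK LD1_c10 LD2_c30 LD3_c25)) = (LP (LK LD1_c16 LD2_c36 LD3_c11)) :=
  Lgr Lrot60 (Lpe (f44800 IH) (Lpr_df (f44780 IH) (Lpe (f44801 IH) (Lpn (LP (LK LD1_c16 LD2_c36 LD3_c11))))))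
theorem f44120 : Led Lsl_dt (LP (LK LD1_c2 LD2_c36 LD3_c27)) = (LP (LK LD1_c1 LD2_c15 LD3_c13)) :=
  Lre_d IH (LK LD1_c2 LD2_c36 LD3_c27) (LK LD1_c1 LD2_c15 LD3_c13) Lrfl Lrfl
theorem f44121 : Led Lsl_et (LP (LK LD1_c5 LD2_c19 LD3_c40)) = (LP (LK LD1_c2 LD2_c36 LD3_c27)) :=
  Lre_e IH (LK LD1_c5 LD2_c19 LD3_c40) (LK LD1_c2 LD2_c36 LD3_c27) Lrfl Lrfl
theorem f44124 : Led Lsl_df (LP (LK LD1_c5 LD2_c19 LD3_c40)) = (LP (LK LD1_c8 LD2_c52 LD3_c27)) :=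
  Lgr Lrot70 (Lpr_et (f44121 IH) (Lpr_dt (f44120 IH) (Lpr_et (K1.f44111 IH) (Lpr_dt (K13.f44122 IH) (Lpr_et (f44123 IH) (Lpn (LP (LK LD1_c8 LD2_c52 LD3_c27))))))))
theorem f44139 : Led Lsl_ft (LP (LK LD1_c5 LD2_c19 LD3_c40)) = (LP (LK LD1_c10 LD2_c29 LD3_c9)) :=
  Lre_f IH (LK LD1_c5 LD2_c19 LD3_c40) (LK LD1_c10 LD2_c29 LD3_c9) Lrfl Lrfl
theorem f44141 : Led Lsl_dt (LP (LK LD1_c10 LD2_c29 LD3_c9)) = (LP (LK LD1_c16 LD2_c35 LD3_c28)) :=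
  Lgr Lrot60 (Lpe (f44139 IH) (Lpr_df (f44124 IH) (Lpe (f44140 IH) (Lpn (LP (LK LD1_c16 LD2_c35 LD3_c28))))))
theorem f44159 : Led Lsl_df (LP (LK LD1_c10 LD2_c29 LD3_c9)) = (LP (LK LD1_c16 LD2_c35 LD3_c28)) :=
  Lgr Lrot38 (Lpr_dt (f44141 IH) (Lpn (LP (LK LD1_c16 LD2_c35 LD3_c28))))
theorem f47328 : Led Lsl_af (LP (LK LD1_c10 LD2_c30 LD3_c25)) = (LP (LK LD1_c10 LD2_c29 LD3_c9)) :=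
  Lgr Lrot117 (Lpr_dt (f44802 IH) (Lpr_at (f47322 IH) (Lpe (f44159 IH) (Lpn (LP (LK LD1_c10 LD2_c29 LD3_c9))))))
theorem f47332 : Led Lsl_at (LP (LK LD1_c10 LD2_c30 LD3_c25)) = (LP (LK LD1_c10 LD2_c29 LD3_c9)) :=
  Lgr Lrot100 (Lpr_af (f47328 IH) (Lpn (LP (LK LD1_c10 LD2_c29 LD3_c9))))
theorem f44161 : Led Lsl_ft (LP (LK LD1_c10 LD2_c29 LD3_c9)) = (LP (LK LD1_c5 LD2_c19 LD3_c40)) :=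
  Lre_f IH (LK LD1_c10 LD2_c29 LD3_c9) (LK LD1_c5 LD2_c19 LD3_c40) Lrfl Lrfl
theorem f47338 : Led Lsl_af (LP (LK LD1_c5 LD2_c20 LD3_c12)) = (LP (LK LD1_c5 LD2_c19 LD3_c40)) :=
  Lgr Lrot45 (Lpr_ft (f44800 IH) (Lpr_at (f47332 IH) (Lpr_ft (f44161 IH) (Lpn (LP (LK LD1_c5 LD2_c19 LD3_c40))))))
theorem f44795 : Led Lsl_ct (LP (LK LD1_c5 LD2_c20 LD3_c12)) = (LP (LK LD1_c10 LD2_c30 LD3_c22)) :=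
  Lre_c IH (LK LD1_c5 LD2_c20 LD3_c12) (LK LD1_c10 LD2_c30 LD3_c22) Lrfl Lrfl
theorem f44150 : Led Lsl_ct (LP (LK LD1_c10 LD2_c29 LD3_c6)) = (LP (LK LD1_c5 LD2_c19 LD3_c40)) :=
  Lre_c IH (LK LD1_c10 LD2_c29 LD3_c6) (LK LD1_c5 LD2_c19 LD3_c40) Lrfl Lrfl
theorem f47343 : Led Lsl_at (LP (LK LD1_c10 LD2_c30 LD3_c22)) = (LP (LK LD1_c10 LD2_c29 LD3_c6)) :=
  Lgr Lrot107 (Lpe (f44795 IH) (Lpr_af (f47338 IH) (Lpe (f44150 IH) (Lpn (LP (LK LD1_c10 LD2_c29 LD3_c6))))))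
theorem f47353 : Led Lsl_et (LP (LK LD1_c5 LD2_c20 LD3_c11)) = (LP (LK LD1_c10 LD2_c30 LD3_c22)) :=
  Lre_e IH (LK LD1_c5 LD2_c20 LD3_c11) (LK LD1_c10 LD2_c30 LD3_c22) Lrfl Lrfl
theorem f47354 : Led Lsl_et (LP (LK LD1_c10 LD2_c29 LD3_c6)) = (LP (LK LD1_c5 LD2_c19 LD3_c39)) :=
  Lre_e IH (LK LD1_c10 LD2_c29 LD3_c6) (LK LD1_c5 LD2_c19 LD3_c39) Lrfl Lrfl
theorem f47355 : Led Lsl_af (LP (LK LD1_c5 LD2_c20 LD3_c11)) = (LP (LK LD1_c5 LD2_c19 LD3_c39)) :=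
  Lgr Lrot50 (Lpr_et (f47353 IH) (Lpr_at (f47343 IH) (Lpr_et (f47354 IH) (Lpn (LP (LK LD1_c5 LD2_c19 LD3_c39))))))
theorem f47364 : Led Lsl_at (LP (LK LD1_c5 LD2_c20 LD3_c11)) = (LP (LK LD1_c5 LD2_c19 LD3_c39)) :=
  Lgr Lrot100 (Lpr_af (f47355 IH) (Lpn (LP (LK LD1_c5 LD2_c19 LD3_c39))))
theorem f46377 : Led Lsl_ct (LP (LK LD1_c2 LD2_c36 LD3_c27)) = (LP (LK LD1_c5 LD2_c19 LD3_c39)) :=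
  Lre_c IH (LK LD1_c2 LD2_c36 LD3_c27) (LK LD1_c5 LD2_c19 LD3_c39) Lrfl Lrfl
theorem f43973 : Led Lsl_dt (LP (LK LD1_c5 LD2_c19 LD3_c13)) = (LP (LK LD1_c2 LD2_c36 LD3_c17)) :=
  Lre_d IH (LK LD1_c5 LD2_c19 LD3_c13) (LK LD1_c2 LD2_c36 LD3_c17) Lrfl Lrfl
theorem f47372 : Led Lsl_ff (LP (LK LD1_c5 LD2_c20 LD3_c11)) = (LP (LK LD1_c5 LD2_c19 LD3_c13)) :=
  Lgr Lrot103 (Lpr_at (f47364 IH) (Lpe (f46377 IH) (Lpe (f44126 IH) (Lpe (K9.f44118 IH) (Lpe (K1.f44047 IH) (Lpe (K10.f28300 IH) (Lpe (K1.f43944 IH) (Lpe (K1.f43932 IH) (Lpe (f43973 IH) (Lpn (LP (LK LD1_c5 LD2_c19 LD3_c13))))))))))))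
theorem f190634 : Led Lsl_gf (LP (LK LD1_c5 LD2_c19 LD3_c39)) = (LP (LK LD1_c9 LD2_c39 LD3_c36)) :=
  Lgr Lrot76 (Lpe (f47364 IH) (Lpr_ff (f47372 IH) (Lpr_gt (f190629 IH) (Lpn (LP (LK LD1_c9 LD2_c39 LD3_c36))))))
theorem f248092 : Led Lsl_cf (LP (LK LD1_c9 LD2_c39 LD3_c36)) = (LP (LK LD1_c5 LD2_c6 LD3_c11)) :=
  Lgr Lrot169 (Lpe (f190634 IH) (Lpr_ct (f46527 IH) (Lpe (f44126 IH) (Lpe (K9.f44118 IH) (Lpe (K9.f184104 IH) (Lpe (K9.f165881 IH) (Lpe (K9.f166115 IH) (Lpr_df (f184095 IH) (Lpr_gt (f248087 IH) (Lpn (LP (LK LD1_c5 LD2_c6 LD3_c11))))))))))))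
theorem f190636 : Led Lsl_dt (LP (LK LD1_c9 LD2_c39 LD3_c36)) = (LP (LK LD1_c4 LD2_c54 LD3_c5)) :=
  Lre_d IH (LK LD1_c9 LD2_c39 LD3_c36) (LK LD1_c4 LD2_c54 LD3_c5) Lrfl Lrfl
theorem f190637 : Led Lsl_ct (LP (LK LD1_c4 LD2_c54 LD3_c5)) = (LP (LK LD1_c2 LD2_c24 LD3_c58)) :=
  Lre_c IH (LK LD1_c4 LD2_c54 LD3_c5) (LK LD1_c2 LD2_c24 LD3_c58) Lrfl Lrfl
theorem f230429 : Led Lsl_ct (LP (LK LD1_c1 LD2_c9 LD3_c42)) = (LP (LK LD1_c0 LD2_c34 LD3_c52)) :=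
  Lgr Lrot59 (Lpr_cf (K12.f230425 IH) (Lpn (LP (LK LD1_c0 LD2_c34 LD3_c52))))
theorem f189585 : Led Lsl_dt (LP (LK LD1_c2 LD2_c30 LD3_c22)) = (LP (LK LD1_c5 LD2_c6 LD3_c11)) :=
  Lre_d IH (LK LD1_c2 LD2_c30 LD3_c22) (LK LD1_c5 LD2_c6 LD3_c11) Lrfl Lrfl
theorem f180544 : Led Lsl_ct (LP (LK LD1_c1 LD2_c12 LD3_c11)) = (LP (LK LD1_c2 LD2_c30 LD3_c22)) :=
  Lre_c IH (LK LD1_c1 LD2_c12 LD3_c11) (LK LD1_c2 LD2_c30 LD3_c22) Lrfl Lrfl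
theorem f189584 : Led Lsl_dt (LP (LK LD1_c5 LD2_c10 LD3_c10)) = (LP (LK LD1_c2 LD2_c32 LD3_c8)) :=
  Lre_d IH (LK LD1_c5 LD2_c10 LD3_c10) (LK LD1_c2 LD2_c32 LD3_c8) Lrfl Lrfl
theorem f248106 : Led Lsl_ct (LP (LK LD1_c5 LD2_c19 LD3_c16)) = (LP (LK LD1_c5 LD2_c10 LD3_c10)) :=
  Lgr Lrot176 (Lpe (K9.f182245 IH) (Lpe (K9.f28276 IH) (Lpe (K9.f28275 IH) (Lpe (f230429 IH) (Lpe (f43817 IH) (Lpe (f190637 IH) (Lpe (f190636 IH) (Lpr_cf (f248092 IH) (Lpe (f189585 IH) (Lpe (f180544 IH) (Lpe (K10.f182058 IH) (Lpe (K10.f189581 IH) (Lpe (K10.f189542 IH) (Lpe (K13.f189583 IH) (Lpe (f189584 IH) (Lpn (LP (LK LD1_c5 LD2_c10 LD3_c10))))))))))))))))))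
theorem f248171 : Led Lsl_cf (LP (LK LD1_c5 LD2_c19 LD3_c16)) = (LP (LK LD1_c5 LD2_c10 LD3_c10)) :=
  Lgr Lrot11 (Lpr_ct (f248106 IH) (Lpn (LP (LK LD1_c5 LD2_c10 LD3_c10))))
theorem f183985 : Led Lsl_gf (LP (LK LD1_c9 LD2_c39 LD3_c58)) = (LP (LK LD1_c5 LD2_c19 LD3_c16)) :=
  Lgr Lrot76 (Lpe (K9.f43519 IH) (Lpr_ff (K9.f43511 IH) (Lpr_gt (K9.f183983 IH) (Lpn (LP (LK LD1_c5 LD2_c19 LD3_c16))))))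
theorem f212337 : Led Lsl_df (LP (LK LD1_c5 LD2_c19 LD3_c39)) = (LP (LK LD1_c5 LD2_c10 LD3_c52)) :=
  Lgr Lrot106 (Lpr_ct (f46527 IH) (Lpr_dt (f44120 IH) (Lpr_ct (K1.f44062 IH) (Lpr_dt (K9.f44074 IH) (Lpr_ct (K1.f28249 IH) (Lpe (K9.f46109 IH) (Lpe (K1.f28296 IH) (Lpr_dt (K1.f28295 IH) (Lpr_ct (K12.f212326 IH) (Lpn (LP (LK LD1_c5 LD2_c10 LD3_c52))))))))))))
theorem f248276 : Led Lsl_gt (LP (LK LD1_c5 LD2_c19 LD3_c39)) = (LP (LK LD1_c5 LD2_c10 LD3_c10)) :=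
  Lgr Lrot9 (Lpr_df (f212337 IH) (Lpr_gt (K12.f171477 IH) (Lpr_ct (f171474 IH) (Lpr_gt (K12.f190783 IH) (Lpr_ct (K9.f43498 IH) (Lpe (f43550 IH) (Lpe (f43525 IH) (Lpr_gf (f183985 IH) (Lpr_cf (f248171 IH) (Lpn (LP (LK LD1_c5 LD2_c10 LD3_c10))))))))))))
theorem f189545 : Led Lsl_dt (LP (LK LD1_c0 LD2_c33 LD3_c53)) = (LP (LK LD1_c1 LD2_c13 LD3_c4)) :=
  Lre_d IH (LK LD1_c0 LD2_c33 LD3_c53) (LK LD1_c1 LD2_c13 LD3_c4) Lrfl Lrfl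
theorem f248279 : Led Lsl_gf (LP (LK LD1_c5 LD2_c10 LD3_c52)) = (LP (LK LD1_c4 LD2_c54 LD3_c7)) :=
  Lgr Lrot144 (Lpe (f212337 IH) (Lpr_gt (f248276 IH) (Lpr_dt (f189584 IH) (Lpe (K13.f185405 IH) (Lpe (f189545 IH) (Lpr_gf (K10.f189549 IH) (Lpe (K9.f43296 IH) (Lpr_gf (K12.f43795 IH) (Lpe (K12.f43797 IH) (Lpn (LP (LK LD1_c4 LD2_c54 LD3_c7))))))))))))
theorem f28269 : Led Lsl_gt (LP (LK LD1_c1 LD2_c15 LD3_c19)) = (LP (LK LD1_c0 LD2_c34 LD3_c57)) :=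
  Lre_g IH (LK LD1_c1 LD2_c15 LD3_c19) (LK LD1_c0 LD2_c34 LD3_c57) Lrfl Lrfl
theorem f46330 : Led Lsl_gf (LP (LK LD1_c1 LD2_c15 LD3_c19)) = (LP (LK LD1_c1 LD2_c15 LD3_c14)) :=
  Lgr Lrot47 (Lpr_gt (f28269 IH) (Lpr_af (K1.f46324 IH) (Lpe (K1.f44068 IH) (Lpn (LP (LK LD1_c1 LD2_c15 LD3_c14))))))
theorem f248289 : Led Lsl_bf (LP (LK LD1_c1 LD2_c15 LD3_c19)) = (LP (LK LD1_c2 LD2_c10 LD3_c55)) :=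
  Lgr Lrot34 (Lpr_gf (f46330 IH) (Lpe (K12.f46335 IH) (Lpr_ct (K12.f212326 IH) (Lpr_gf (f248279 IH) (Lpe (K12.f43798 IH) (Lpe (K12.f43794 IH) (Lpe (K1.f43464 IH) (Lpr_ct (K9.f44395 IH) (Lpr_gf (f247443 IH) (Lpe (f192361 IH) (Lpn (LP (LK LD1_c2 LD2_c10 LD3_c55)))))))))))))
theorem f248297 : Led Lsl_et (LP (LK LD1_c1 LD2_c15 LD3_c19)) = (LP (LK LD1_c2 LD2_c36 LD3_c40)) :=
  Lre_e IH (LK LD1_c1 LD2_c15 LD3_c19) (LK LD1_c2 LD2_c36 LD3_c40) Lrfl Lrfl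
theorem f44757 : Led Lsl_et (LP (LK LD1_c4 LD2_c27 LD3_c25)) = (LP (LK LD1_c2 LD2_c10 LD3_c55)) :=
  Lre_e IH (LK LD1_c4 LD2_c27 LD3_c25) (LK LD1_c2 LD2_c10 LD3_c55) Lrfl Lrfl
theorem f248298 : Led Lsl_bt (LP (LK LD1_c2 LD2_c36 LD3_c40)) = (LP (LK LD1_c4 LD2_c27 LD3_c25)) :=
  Lgr Lrot119 (Lpe (f248297 IH) (Lpr_bf (f248289 IH) (Lpe (f44757 IH) (Lpn (LP (LK LD1_c4 LD2_c27 LD3_c25))))))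
theorem f247428 : Led Lsl_et (LP (LK LD1_c4 LD2_c10 LD3_c1)) = (LP (LK LD1_c2 LD2_c2 LD3_c13)) :=
  Lre_e IH (LK LD1_c4 LD2_c10 LD3_c1) (LK LD1_c2 LD2_c2 LD3_c13) Lrfl Lrfl
theorem f247429 : Led Lsl_et (LP (LK LD1_c2 LD2_c10 LD3_c55)) = (LP (LK LD1_c4 LD2_c27 LD3_c25)) :=
  Lre_e IH (LK LD1_c2 LD2_c10 LD3_c55) (LK LD1_c4 LD2_c27 LD3_c25) Lrfl Lrfl
theorem f247430 : Led Lsl_df (LP (LK LD1_c4 LD2_c10 LD3_c1)) = (LP (LK LD1_c4 LD2_c27 LD3_c25)) :=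
  Lgr Lrot70 (Lpr_et (f247428 IH) (Lpr_dt (K12.f230945 IH) (Lpr_et (f247416 IH) (Lpr_dt (f247421 IH) (Lpr_et (f247429 IH) (Lpn (LP (LK LD1_c4 LD2_c27 LD3_c25))))))))
theorem f248308 : Led Lsl_df (LP (LK LD1_c2 LD2_c36 LD3_c40)) = (LP (LK LD1_c4 LD2_c16 LD3_c45)) :=
  Lgr Lrot12 (Lpr_bt (f248298 IH) (Lpe (f247430 IH) (Lpe (K12.f230961 IH) (Lpn (LP (LK LD1_c4 LD2_c16 LD3_c45))))))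
theorem f248328 : Led Lsl_ft (LP (LK LD1_c2 LD2_c36 LD3_c40)) = (LP (LK LD1_c5 LD2_c19 LD3_c61)) :=
  Lre_f IH (LK LD1_c2 LD2_c36 LD3_c40) (LK LD1_c5 LD2_c19 LD3_c61) Lrfl Lrfl
theorem f230987 : Led Lsl_ft (LP (LK LD1_c8 LD2_c32 LD3_c49)) = (LP (LK LD1_c4 LD2_c16 LD3_c45)) :=
  Lre_f IH (LK LD1_c8 LD2_c32 LD3_c49) (LK LD1_c4 LD2_c16 LD3_c45) Lrfl Lrfl
theorem f248338 : Led Lsl_dt (LP (LK LD1_c5 LD2_c19 LD3_c61)) = (LP (LK LD1_c8 LD2_c32 LD3_c49)) :=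
  Lgr Lrot60 (Lpe (f248328 IH) (Lpr_df (f248308 IH) (Lpe (f230987 IH) (Lpn (LP (LK LD1_c8 LD2_c32 LD3_c49))))))
theorem f248351 : Led Lsl_df (LP (LK LD1_c5 LD2_c19 LD3_c61)) = (LP (LK LD1_c8 LD2_c32 LD3_c49)) :=
  Lgr Lrot38 (Lpr_dt (f248338 IH) (Lpn (LP (LK LD1_c8 LD2_c32 LD3_c49))))
theorem f248310 : Led Lsl_ft (LP (LK LD1_c5 LD2_c19 LD3_c61)) = (LP (LK LD1_c2 LD2_c36 LD3_c40)) :=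
  Lre_f IH (LK LD1_c5 LD2_c19 LD3_c61) (LK LD1_c2 LD2_c36 LD3_c40) Lrfl Lrfl
theorem f248311 : Led Lsl_ft (LP (LK LD1_c4 LD2_c27 LD3_c25)) = (LP (LK LD1_c8 LD2_c52 LD3_c37)) :=
  Lre_f IH (LK LD1_c4 LD2_c27 LD3_c25) (LK LD1_c8 LD2_c52 LD3_c37) Lrfl Lrfl
theorem f248312 : Led Lsl_bf (LP (LK LD1_c5 LD2_c19 LD3_c61)) = (LP (LK LD1_c8 LD2_c52 LD3_c37)) :=
  Lgr Lrot61 (Lpr_ft (f248310 IH) (Lpr_bt (f248298 IH) (Lpr_ft (f248311 IH) (Lpn (LP (LK LD1_c8 LD2_c52 LD3_c37))))))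
theorem f248320 : Led Lsl_bt (LP (LK LD1_c5 LD2_c19 LD3_c61)) = (LP (LK LD1_c8 LD2_c52 LD3_c37)) :=
  Lgr Lrot127 (Lpr_bf (f248312 IH) (Lpn (LP (LK LD1_c8 LD2_c52 LD3_c37))))
theorem f248356 : Led Lsl_dt (LP (LK LD1_c8 LD2_c52 LD3_c37)) = (LP (LK LD1_c8 LD2_c20 LD3_c20)) :=
  Lgr Lrot79 (Lpe (f248320 IH) (Lpr_df (f248351 IH) (Lpr_bf (K12.f230981 IH) (Lpn (LP (LK LD1_c8 LD2_c20 LD3_c20))))))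
theorem f248363 : Led Lsl_df (LP (LK LD1_c4 LD2_c27 LD3_c25)) = (LP (LK LD1_c4 LD2_c10 LD3_c1)) :=
  Lgr Lrot78 (Lpr_ft (f248311 IH) (Lpr_dt (f248356 IH) (Lpr_ft (K12.f230973 IH) (Lpn (LP (LK LD1_c4 LD2_c10 LD3_c1))))))
theorem f248304 : Led Lsl_ct (LP (LK LD1_c4 LD2_c27 LD3_c25)) = (LP (LK LD1_c8 LD2_c52 LD3_c34)) :=
  Lre_c IH (LK LD1_c4 LD2_c27 LD3_c25) (LK LD1_c8 LD2_c52 LD3_c34) Lrfl Lrfl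
theorem f178609 : Led Lsl_ct (LP (LK LD1_c8 LD2_c20 LD3_c17)) = (LP (LK LD1_c4 LD2_c10 LD3_c1)) :=
  Lre_c IH (LK LD1_c8 LD2_c20 LD3_c17) (LK LD1_c4 LD2_c10 LD3_c1) Lrfl Lrfl
theorem f178610 : Led Lsl_dt (LP (LK LD1_c15 LD2_c41 LD3_c42)) = (LP (LK LD1_c8 LD2_c20 LD3_c17)) :=
  Lre_d IH (LK LD1_c15 LD2_c41 LD3_c42) (LK LD1_c8 LD2_c20 LD3_c17) Lrfl Lrfl
theorem f178611 : Led Lsl_ct (LP (LK LD1_c25 LD2_c37 LD3_c18)) = (LP (LK LD1_c15 LD2_c41 LD3_c42)) :=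
  Lre_c IH (LK LD1_c25 LD2_c37 LD3_c18) (LK LD1_c15 LD2_c41 LD3_c42) Lrfl Lrfl
theorem f178607 : Led Lsl_ft (LP (LK LD1_c4 LD2_c10 LD3_c22)) = (LP (LK LD1_c2 LD2_c2 LD3_c21)) :=
  Lre_f IH (LK LD1_c4 LD2_c10 LD3_c22) (LK LD1_c2 LD2_c2 LD3_c21) Lrfl Lrfl
theorem f178608 : Led Lsl_at (LP (LK LD1_c2 LD2_c2 LD3_c21)) = (LP (LK LD1_c4 LD2_c10 LD3_c1)) :=
  Lre_a IH (LK LD1_c2 LD2_c2 LD3_c21) (LK LD1_c4 LD2_c10 LD3_c1) Lrfl Lrfl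
theorem f178600 : Led Lsl_ct (LP (LK LD1_c5 LD2_c18 LD3_c35)) = (LP (LK LD1_c10 LD2_c26 LD3_c48)) :=
  Lre_c IH (LK LD1_c5 LD2_c18 LD3_c35) (LK LD1_c10 LD2_c26 LD3_c48) Lrfl Lrfl
theorem f178601 : Led Lsl_dt (LP (LK LD1_c10 LD2_c26 LD3_c48)) = (LP (LK LD1_c18 LD2_c56 LD3_c40)) :=
  Lre_d IH (LK LD1_c10 LD2_c26 LD3_c48) (LK LD1_c18 LD2_c56 LD3_c40) Lrfl Lrfl
theorem f178602 : Led Lsl_ct (LP (LK LD1_c18 LD2_c56 LD3_c40)) = (LP (LK LD1_c28 LD2_c24 LD3_c45)) :=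
  Lre_c IH (LK LD1_c18 LD2_c56 LD3_c40) (LK LD1_c28 LD2_c24 LD3_c45) Lrfl Lrfl
theorem f178612 : Led Lsl_df (LP (LK LD1_c25 LD2_c37 LD3_c18)) = (LP (LK LD1_c28 LD2_c24 LD3_c45)) :=
  Lgr Lrot13 (Lpr_ct (f178611 IH) (Lpr_dt (f178610 IH) (Lpr_ct (f178609 IH) (Lpe (f178608 IH) (Lpe (f178607 IH) (Lpr_dt (K9.f178593 IH) (Lpr_ct (f178600 IH) (Lpr_dt (f178601 IH) (Lpr_ct (f178602 IH) (Lpn (LP (LK LD1_c28 LD2_c24 LD3_c45))))))))))))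
theorem f178636 : Led Lsl_ft (LP (LK LD1_c10 LD2_c26 LD3_c48)) = (LP (LK LD1_c5 LD2_c18 LD3_c32)) :=
  Lre_f IH (LK LD1_c10 LD2_c26 LD3_c48) (LK LD1_c5 LD2_c18 LD3_c32) Lrfl Lrfl
theorem f248368 : Led Lsl_af (LP (LK LD1_c8 LD2_c52 LD3_c34)) = (LP (LK LD1_c5 LD2_c18 LD3_c32)) :=
  Lgr Lrot109 (Lpe (f248304 IH) (Lpr_df (f248363 IH) (Lpe (f178609 IH) (Lpe (f178610 IH) (Lpe (f178611 IH) (Lpr_df (f178612 IH) (Lpe (f178602 IH) (Lpe (f178601 IH) (Lpr_ft (f178636 IH) (Lpn (LP (LK LD1_c5 LD2_c18 LD3_c32))))))))))))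
theorem f247460 : Led Lsl_et (LP (LK LD1_c8 LD2_c52 LD3_c34)) = (LP (LK LD1_c4 LD2_c27 LD3_c24)) :=
  Lre_e IH (LK LD1_c8 LD2_c52 LD3_c34) (LK LD1_c4 LD2_c27 LD3_c24) Lrfl Lrfl
theorem f215135 : Led Lsl_et (LP (LK LD1_c2 LD2_c35 LD3_c55)) = (LP (LK LD1_c5 LD2_c18 LD3_c32)) :=
  Lre_e IH (LK LD1_c2 LD2_c35 LD3_c55) (LK LD1_c5 LD2_c18 LD3_c32) Lrfl Lrfl
theorem f248378 : Led Lsl_at (LP (LK LD1_c4 LD2_c27 LD3_c24)) = (LP (LK LD1_c2 LD2_c35 LD3_c55)) :=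
  Lgr Lrot80 (Lpe (f247460 IH) (Lpr_af (f248368 IH) (Lpe (f215135 IH) (Lpn (LP (LK LD1_c2 LD2_c35 LD3_c55))))))
theorem f248411 : Led Lsl_ff (LP (LK LD1_c4 LD2_c27 LD3_c24)) = (LP (LK LD1_c4 LD2_c27 LD3_c14)) :=
  Lgr Lrot52 (Lpr_at (f248378 IH) (Lpe (K9.f165817 IH) (Lpr_gf (K12.f188010 IH) (Lpn (LP (LK LD1_c4 LD2_c27 LD3_c14))))))
theorem f248419 : Led Lsl_et (LP (LK LD1_c4 LD2_c27 LD3_c24)) = (LP (LK LD1_c8 LD2_c52 LD3_c34)) :=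
  Lre_e IH (LK LD1_c4 LD2_c27 LD3_c24) (LK LD1_c8 LD2_c52 LD3_c34) Lrfl Lrfl
theorem f248380 : Led Lsl_ft (LP (LK LD1_c8 LD2_c52 LD3_c34)) = (LP (LK LD1_c16 LD2_c35 LD3_c42)) :=
  Lre_f IH (LK LD1_c8 LD2_c52 LD3_c34) (LK LD1_c16 LD2_c35 LD3_c42) Lrfl Lrfl
theorem f247598 : Led Lsl_ft (LP (LK LD1_c16 LD2_c35 LD3_c1)) = (LP (LK LD1_c8 LD2_c52 LD3_c11)) :=
  Lre_f IH (LK LD1_c16 LD2_c35 LD3_c1) (LK LD1_c8 LD2_c52 LD3_c11) Lrfl Lrfl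
theorem f248420 : Led Lsl_et (LP (LK LD1_c16 LD2_c35 LD3_c42)) = (LP (LK LD1_c16 LD2_c35 LD3_c1)) :=
  Lgr Lrot69 (Lpe (f248380 IH) (Lpe (f248419 IH) (Lpr_ff (f248411 IH) (Lpe (f188019 IH) (Lpe (f247598 IH) (Lpn (LP (LK LD1_c16 LD2_c35 LD3_c1))))))))
theorem f248426 : Led Lsl_ef (LP (LK LD1_c16 LD2_c35 LD3_c42)) = (LP (LK LD1_c16 LD2_c35 LD3_c1)) :=
  Lgr Lrot88 (Lpr_et (f248420 IH) (Lpn (LP (LK LD1_c16 LD2_c35 LD3_c1))))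
theorem f248324 : Led Lsl_ct (LP (LK LD1_c16 LD2_c35 LD3_c42)) = (LP (LK LD1_c8 LD2_c52 LD3_c37)) :=
  Lre_c IH (LK LD1_c16 LD2_c35 LD3_c42) (LK LD1_c8 LD2_c52 LD3_c37) Lrfl Lrfl
theorem f230597 : Led Lsl_ct (LP (LK LD1_c8 LD2_c52 LD3_c14)) = (LP (LK LD1_c16 LD2_c35 LD3_c1)) :=
  Lre_c IH (LK LD1_c8 LD2_c52 LD3_c14) (LK LD1_c16 LD2_c35 LD3_c1) Lrfl Lrfl
theorem f248430 : Led Lsl_et (LP (LK LD1_c8 LD2_c52 LD3_c37)) = (LP (LK LD1_c8 LD2_c52 LD3_c14)) :=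
  Lgr Lrot158 (Lpe (f248324 IH) (Lpr_ef (f248426 IH) (Lpe (f230597 IH) (Lpn (LP (LK LD1_c8 LD2_c52 LD3_c14))))))
theorem f230601 : Led Lsl_ft (LP (LK LD1_c8 LD2_c52 LD3_c14)) = (LP (LK LD1_c4 LD2_c27 LD3_c15)) :=
  Lre_f IH (LK LD1_c8 LD2_c52 LD3_c14) (LK LD1_c4 LD2_c27 LD3_c15) Lrfl Lrfl
theorem f248436 : Led Lsl_ff (LP (LK LD1_c2 LD2_c10 LD3_c55)) = (LP (LK LD1_c2 LD2_c10 LD3_c50)) :=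
  Lgr Lrot72 (Lpr_et (f247429 IH) (Lpr_ft (f248311 IH) (Lpr_et (f248430 IH) (Lpr_ft (f230601 IH) (Lpr_et (f44079 IH) (Lpn (LP (LK LD1_c2 LD2_c10 LD3_c50))))))))
theorem f248440 : Led Lsl_ft (LP (LK LD1_c1 LD2_c15 LD3_c19)) = (LP (LK LD1_c1 LD2_c15 LD3_c12)) :=
  Lgr Lrot75 (Lpr_bf (f248289 IH) (Lpr_ff (f248436 IH) (Lpr_bf (K12.f230561 IH) (Lpn (LP (LK LD1_c1 LD2_c15 LD3_c12))))))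
theorem f248295 : Led Lsl_dt (LP (LK LD1_c1 LD2_c15 LD3_c19)) = (LP (LK LD1_c2 LD2_c5 LD3_c40)) :=
  Lgr Lrot79 (Lpr_bf (f248289 IH) (Lpe (f247421 IH) (Lpe (K12.f230930 IH) (Lpn (LP (LK LD1_c2 LD2_c5 LD3_c40))))))
theorem f43472 : Led Lsl_dt (LP (LK LD1_c4 LD2_c54 LD3_c22)) = (LP (LK LD1_c9 LD2_c40 LD3_c13)) :=
  Lre_d IH (LK LD1_c4 LD2_c54 LD3_c22) (LK LD1_c9 LD2_c40 LD3_c13) Lrfl Lrfl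
theorem f191571 : Led Lsl_cf (LP (LK LD1_c4 LD2_c54 LD3_c4)) = (LP (LK LD1_c5 LD2_c18 LD3_c20)) :=
  Lgr Lrot11 (Lpr_ct (K12.f191564 IH) (Lpn (LP (LK LD1_c5 LD2_c18 LD3_c20))))
theorem f192119 : Led Lsl_gf (LP (LK LD1_c1 LD2_c14 LD3_c57)) = (LP (LK LD1_c0 LD2_c34 LD3_c57)) :=
  Lgr Lrot147 (Lpr_ct (K10.f32891 IH) (Lpr_gt (K12.f185504 IH) (Lpe (f191571 IH) (Lpe (K9.f43387 IH) (Lpe (K9.f43350 IH) (Lpr_gf (K10.f184875 IH) (Lpr_cf (K10.f192111 IH) (Lpe (K11.f192117 IH) (Lpe (K1.f28255 IH) (Lpn (LP (LK LD1_c0 LD2_c34 LD3_c57))))))))))))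
theorem f248448 : Led Lsl_af (LP (LK LD1_c1 LD2_c14 LD3_c57)) = (LP (LK LD1_c1 LD2_c15 LD3_c12)) :=
  Lgr Lrot31 (Lpr_gf (f192119 IH) (Lpe (f28269 IH) (Lpr_ft (f248440 IH) (Lpn (LP (LK LD1_c1 LD2_c15 LD3_c12))))))
theorem f32889 : Led Lsl_ct (LP (LK LD1_c2 LD2_c35 LD3_c50)) = (LP (LK LD1_c1 LD2_c14 LD3_c57)) :=
  Lre_c IH (LK LD1_c2 LD2_c35 LD3_c50) (LK LD1_c1 LD2_c14 LD3_c57) Lrfl Lrfl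
theorem f32890 : Led Lsl_dt (LP (LK LD1_c5 LD2_c18 LD3_c21)) = (LP (LK LD1_c2 LD2_c35 LD3_c50)) :=
  Lre_d IH (LK LD1_c5 LD2_c18 LD3_c21) (LK LD1_c2 LD2_c35 LD3_c50) Lrfl Lrfl
theorem f248450 : Led Lsl_ct (LP (LK LD1_c9 LD2_c40 LD3_c13)) = (LP (LK LD1_c5 LD2_c18 LD3_c21)) :=
  Lgr Lrot53 (Lpe (f43472 IH) (Lpe (K12.f43471 IH) (Lpe (f246663 IH) (Lpr_cf (K12.f230294 IH) (Lpe (f248295 IH) (Lpr_ft (f248440 IH) (Lpe (f248448 IH) (Lpe (f32889 IH) (Lpe (f32890 IH) (Lpn (LP (LK LD1_c5 LD2_c18 LD3_c21))))))))))))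
theorem f230269 : Led Lsl_at (LP (LK LD1_c4 LD2_c18 LD3_c41)) = (LP (LK LD1_c2 LD2_c6 LD3_c45)) :=
  Lre_a IH (LK LD1_c4 LD2_c18 LD3_c41) (LK LD1_c2 LD2_c6 LD3_c45) Lrfl Lrfl
theorem f171469 : Led Lsl_ft (LP (LK LD1_c2 LD2_c6 LD3_c45)) = (LP (LK LD1_c1 LD2_c0 LD3_c19)) :=
  Lre_f IH (LK LD1_c2 LD2_c6 LD3_c45) (LK LD1_c1 LD2_c0 LD3_c19) Lrfl Lrfl
theorem f230322 : Led Lsl_cf (LP (LK LD1_c2 LD2_c6 LD3_c45)) = (LP (LK LD1_c2 LD2_c5 LD3_c47)) :=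
  Lgr Lrot108 (Lpr_ft (f171469 IH) (Lpr_ct (K12.f230307 IH) (Lpr_ft (K12.f169403 IH) (Lpn (LP (LK LD1_c2 LD2_c5 LD3_c47))))))
theorem f248461 : Led Lsl_df (LP (LK LD1_c2 LD2_c5 LD3_c47)) = (LP (LK LD1_c1 LD2_c14 LD3_c57)) :=
  Lgr Lrot177 (Lpe (f230322 IH) (Lpe (f230269 IH) (Lpe (K12.f229927 IH) (Lpr_dt (f246663 IH) (Lpr_ct (K12.f43471 IH) (Lpr_dt (f43472 IH) (Lpr_ct (f248450 IH) (Lpr_dt (f32890 IH) (Lpr_ct (f32889 IH) (Lpn (LP (LK LD1_c1 LD2_c14 LD3_c57))))))))))))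
theorem f184044 : Led Lsl_gt (LP (LK LD1_c1 LD2_c9 LD3_c47)) = (LP (LK LD1_c1 LD2_c11 LD3_c44)) :=
  Lgr Lrot5 (Lpr_ft (K9.f43446 IH) (Lpr_at (K9.f43447 IH) (Lpr_gf (K9.f184042 IH) (Lpn (LP (LK LD1_c1 LD2_c11 LD3_c44))))))
theorem f248470 : Led Lsl_df (LP (LK LD1_c2 LD2_c6 LD3_c45)) = (LP (LK LD1_c1 LD2_c11 LD3_c44)) :=
  Lgr Lrot84 (Lpr_cf (f230322 IH) (Lpr_df (f248461 IH) (Lpr_gf (f192119 IH) (Lpe (K1.f28301 IH) (Lpe (K12.f28271 IH) (Lpe (K12.f230542 IH) (Lpr_gt (K12.f31527 IH) (Lpr_dt (K10.f41393 IH) (Lpr_gt (f184044 IH) (Lpn (LP (LK LD1_c1 LD2_c11 LD3_c44))))))))))))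
theorem f248482 : Led Lsl_ft (LP (LK LD1_c1 LD2_c13 LD3_c12)) = (LP (LK LD1_c1 LD2_c11 LD3_c44)) :=
  Lgr Lrot54 (Lpe (K12.f171439 IH) (Lpe (f171469 IH) (Lpr_df (f248470 IH) (Lpn (LP (LK LD1_c1 LD2_c11 LD3_c44))))))
theorem f248499 : Led Lsl_af (LP (LK LD1_c2 LD2_c24 LD3_c59)) = (LP (LK LD1_c1 LD2_c11 LD3_c44)) :=
  Lgr Lrot31 (Lpe (K12.f43794 IH) (Lpe (K12.f190783 IH) (Lpr_ft (f248482 IH) (Lpn (LP (LK LD1_c1 LD2_c11 LD3_c44))))))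
theorem f171715 : Led Lsl_at (LP (LK LD1_c1 LD2_c0 LD3_c19)) = (LP (LK LD1_c2 LD2_c6 LD3_c38)) :=
  Lre_a IH (LK LD1_c1 LD2_c0 LD3_c19) (LK LD1_c2 LD2_c6 LD3_c38) Lrfl Lrfl
theorem f246665 : Led Lsl_af (LP (LK LD1_c1 LD2_c13 LD3_c12)) = (LP (LK LD1_c2 LD2_c25 LD3_c5)) :=
  Lgr Lrot117 (Lpe (f171212 IH) (Lpr_at (f171715 IH) (Lpr_dt (f246663 IH) (Lpn (LP (LK LD1_c2 LD2_c25 LD3_c5))))))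
theorem f248505 : Led Lsl_ft (LP (LK LD1_c2 LD2_c24 LD3_c59)) = (LP (LK LD1_c2 LD2_c25 LD3_c5)) :=
  Lgr Lrot101 (Lpr_af (f248499 IH) (Lpe (f248482 IH) (Lpr_af (f246665 IH) (Lpn (LP (LK LD1_c2 LD2_c25 LD3_c5))))))
theorem f43801 : Led Lsl_et (LP (LK LD1_c4 LD2_c54 LD3_c8)) = (LP (LK LD1_c2 LD2_c24 LD3_c59)) :=
  Lre_e IH (LK LD1_c4 LD2_c54 LD3_c8) (LK LD1_c2 LD2_c24 LD3_c59) Lrfl Lrfl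
theorem f248509 : Led Lsl_ft (LP (LK LD1_c9 LD2_c39 LD3_c44)) = (LP (LK LD1_c4 LD2_c54 LD3_c8)) :=
  Lre_f IH (LK LD1_c9 LD2_c39 LD3_c44) (LK LD1_c4 LD2_c54 LD3_c8) Lrfl Lrfl
theorem f246669 : Led Lsl_et (LP (LK LD1_c2 LD2_c25 LD3_c5)) = (LP (LK LD1_c4 LD2_c54 LD3_c23)) :=
  Lre_e IH (LK LD1_c2 LD2_c25 LD3_c5) (LK LD1_c4 LD2_c54 LD3_c23) Lrfl Lrfl
theorem f248510 : Led Lsl_ft (LP (LK LD1_c4 LD2_c54 LD3_c23)) = (LP (LK LD1_c9 LD2_c40 LD3_c17)) :=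
  Lre_f IH (LK LD1_c4 LD2_c54 LD3_c23) (LK LD1_c9 LD2_c40 LD3_c17) Lrfl Lrfl
theorem f248511 : Led Lsl_ef (LP (LK LD1_c9 LD2_c39 LD3_c44)) = (LP (LK LD1_c9 LD2_c40 LD3_c17)) :=
  Lgr Lrot21 (Lpr_ft (f248509 IH) (Lpr_et (f43801 IH) (Lpr_ft (f248505 IH) (Lpr_et (f246669 IH) (Lpr_ft (f248510 IH) (Lpn (LP (LK LD1_c9 LD2_c40 LD3_c17))))))))
theorem f248517 : Led Lsl_et (LP (LK LD1_c9 LD2_c39 LD3_c44)) = (LP (LK LD1_c9 LD2_c40 LD3_c17)) :=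
  Lgr Lrot87 (Lpr_ef (f248511 IH) (Lpn (LP (LK LD1_c9 LD2_c40 LD3_c17))))
theorem f248519 : Led Lsl_ct (LP (LK LD1_c17 LD2_c46 LD3_c8)) = (LP (LK LD1_c9 LD2_c39 LD3_c44)) :=
  Lre_c IH (LK LD1_c17 LD2_c46 LD3_c8) (LK LD1_c9 LD2_c39 LD3_c44) Lrfl Lrfl
theorem f248520 : Led Lsl_ct (LP (LK LD1_c9 LD2_c40 LD3_c17)) = (LP (LK LD1_c17 LD2_c47 LD3_c18)) :=
  Lre_c IH (LK LD1_c9 LD2_c40 LD3_c17) (LK LD1_c17 LD2_c47 LD3_c18) Lrfl Lrfl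
theorem f248521 : Led Lsl_ef (LP (LK LD1_c17 LD2_c46 LD3_c8)) = (LP (LK LD1_c17 LD2_c47 LD3_c18)) :=
  Lgr Lrot28 (Lpr_ct (f248519 IH) (Lpr_et (f248517 IH) (Lpr_ct (f248520 IH) (Lpn (LP (LK LD1_c17 LD2_c47 LD3_c18))))))
theorem f248527 : Led Lsl_ft (LP (LK LD1_c17 LD2_c46 LD3_c8)) = (LP (LK LD1_c9 LD2_c39 LD3_c41)) :=
  Lre_f IH (LK LD1_c17 LD2_c46 LD3_c8) (LK LD1_c9 LD2_c39 LD3_c41) Lrfl Lrfl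
theorem f248281 : Led Lsl_et (LP (LK LD1_c9 LD2_c39 LD3_c41)) = (LP (LK LD1_c4 LD2_c54 LD3_c7)) :=
  Lre_e IH (LK LD1_c9 LD2_c39 LD3_c41) (LK LD1_c4 LD2_c54 LD3_c7) Lrfl Lrfl
theorem f248528 : Led Lsl_ft (LP (LK LD1_c9 LD2_c40 LD3_c14)) = (LP (LK LD1_c17 LD2_c47 LD3_c18)) :=
  Lre_f IH (LK LD1_c9 LD2_c40 LD3_c14) (LK LD1_c17 LD2_c47 LD3_c18) Lrfl Lrfl
theorem f248529 : Led Lsl_et (LP (LK LD1_c4 LD2_c54 LD3_c22)) = (LP (LK LD1_c9 LD2_c40 LD3_c14)) :=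
  Lre_e IH (LK LD1_c4 LD2_c54 LD3_c22) (LK LD1_c9 LD2_c40 LD3_c14) Lrfl Lrfl
theorem f248530 : Led Lsl_ft (LP (LK LD1_c4 LD2_c54 LD3_c7)) = (LP (LK LD1_c4 LD2_c54 LD3_c22)) :=
  Lgr Lrot86 (Lpe (f248281 IH) (Lpe (f248527 IH) (Lpr_ef (f248521 IH) (Lpe (f248528 IH) (Lpe (f248529 IH) (Lpn (LP (LK LD1_c4 LD2_c54 LD3_c22))))))))
theorem f248536 : Led Lsl_af (LP (LK LD1_c2 LD2_c32 LD3_c27)) = (LP (LK LD1_c4 LD2_c54 LD3_c22)) :=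
  Lgr Lrot31 (Lpe (K12.f171477 IH) (Lpr_gf (f248279 IH) (Lpr_ft (f248530 IH) (Lpn (LP (LK LD1_c4 LD2_c54 LD3_c22))))))
theorem f248548 : Led Lsl_et (LP (LK LD1_c2 LD2_c32 LD3_c27)) = (LP (LK LD1_c5 LD2_c10 LD3_c55)) :=
  Lre_e IH (LK LD1_c2 LD2_c32 LD3_c27) (LK LD1_c5 LD2_c10 LD3_c55) Lrfl Lrfl
theorem f230557 : Led Lsl_et (LP (LK LD1_c9 LD2_c40 LD3_c14)) = (LP (LK LD1_c4 LD2_c54 LD3_c22)) :=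
  Lre_e IH (LK LD1_c9 LD2_c40 LD3_c14) (LK LD1_c4 LD2_c54 LD3_c22) Lrfl Lrfl
theorem f248549 : Led Lsl_at (LP (LK LD1_c5 LD2_c10 LD3_c55)) = (LP (LK LD1_c9 LD2_c40 LD3_c14)) :=
  Lgr Lrot80 (Lpe (f248548 IH) (Lpr_af (f248536 IH) (Lpe (f230557 IH) (Lpn (LP (LK LD1_c9 LD2_c40 LD3_c14))))))
theorem f248560 : Led Lsl_ft (LP (LK LD1_c10 LD2_c12 LD3_c30)) = (LP (LK LD1_c5 LD2_c10 LD3_c55)) :=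
  Lre_f IH (LK LD1_c10 LD2_c12 LD3_c30) (LK LD1_c5 LD2_c10 LD3_c55) Lrfl Lrfl
theorem f248561 : Led Lsl_af (LP (LK LD1_c10 LD2_c12 LD3_c30)) = (LP (LK LD1_c17 LD2_c47 LD3_c18)) :=
  Lgr Lrot45 (Lpr_ft (f248560 IH) (Lpr_at (f248549 IH) (Lpr_ft (f248528 IH) (Lpn (LP (LK LD1_c17 LD2_c47 LD3_c18))))))
theorem f171422 : Led Lsl_ct (LP (LK LD1_c10 LD2_c12 LD3_c30)) = (LP (LK LD1_c5 LD2_c10 LD3_c58)) :=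
  Lre_c IH (LK LD1_c10 LD2_c12 LD3_c30) (LK LD1_c5 LD2_c10 LD3_c58) Lrfl Lrfl
theorem f248573 : Led Lsl_at (LP (LK LD1_c5 LD2_c10 LD3_c58)) = (LP (LK LD1_c9 LD2_c40 LD3_c17)) :=
  Lgr Lrot107 (Lpe (f171422 IH) (Lpr_af (f248561 IH) (Lpe (f248520 IH) (Lpn (LP (LK LD1_c9 LD2_c40 LD3_c17))))))
theorem f171464 : Led Lsl_et (LP (LK LD1_c2 LD2_c32 LD3_c28)) = (LP (LK LD1_c1 LD2_c13 LD3_c12)) :=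
  Lre_e IH (LK LD1_c2 LD2_c32 LD3_c28) (LK LD1_c1 LD2_c13 LD3_c12) Lrfl Lrfl
theorem f248484 : Led Lsl_et (LP (LK LD1_c1 LD2_c11 LD3_c44)) = (LP (LK LD1_c2 LD2_c29 LD3_c13)) :=
  Lre_e IH (LK LD1_c1 LD2_c11 LD3_c44) (LK LD1_c2 LD2_c29 LD3_c13) Lrfl Lrfl
theorem f248494 : Led Lsl_ft (LP (LK LD1_c2 LD2_c29 LD3_c13)) = (LP (LK LD1_c5 LD2_c3 LD3_c23)) :=
  Lre_f IH (LK LD1_c2 LD2_c29 LD3_c13) (LK LD1_c5 LD2_c3 LD3_c23) Lrfl Lrfl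
theorem f248495 : Led Lsl_ef (LP (LK LD1_c5 LD2_c10 LD3_c58)) = (LP (LK LD1_c5 LD2_c3 LD3_c23)) :=
  Lgr Lrot21 (Lpr_ft (K12.f171412 IH) (Lpr_et (f171464 IH) (Lpr_ft (f248482 IH) (Lpr_et (f248484 IH) (Lpr_ft (f248494 IH) (Lpn (LP (LK LD1_c5 LD2_c3 LD3_c23))))))))
theorem f248585 : Led Lsl_af (LP (LK LD1_c5 LD2_c3 LD3_c23)) = (LP (LK LD1_c9 LD2_c39 LD3_c44)) :=
  Lgr Lrot50 (Lpe (f248495 IH) (Lpr_at (f248573 IH) (Lpe (f248511 IH) (Lpn (LP (LK LD1_c9 LD2_c39 LD3_c44))))))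
theorem f248603 : Led Lsl_ft (LP (LK LD1_c5 LD2_c3 LD3_c23)) = (LP (LK LD1_c2 LD2_c29 LD3_c13)) :=
  Lre_f IH (LK LD1_c5 LD2_c3 LD3_c23) (LK LD1_c2 LD2_c29 LD3_c13) Lrfl Lrfl
theorem f248523 : Led Lsl_ft (LP (LK LD1_c4 LD2_c54 LD3_c8)) = (LP (LK LD1_c9 LD2_c39 LD3_c44)) :=
  Lre_f IH (LK LD1_c4 LD2_c54 LD3_c8) (LK LD1_c9 LD2_c39 LD3_c44) Lrfl Lrfl
theorem f248604 : Led Lsl_at (LP (LK LD1_c2 LD2_c29 LD3_c13)) = (LP (LK LD1_c4 LD2_c54 LD3_c8)) :=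
  Lgr Lrot66 (Lpe (f248603 IH) (Lpr_af (f248585 IH) (Lpe (f248523 IH) (Lpn (LP (LK LD1_c4 LD2_c54 LD3_c8))))))
theorem f248620 : Led Lsl_ct (LP (LK LD1_c5 LD2_c3 LD3_c20)) = (LP (LK LD1_c2 LD2_c29 LD3_c13)) :=
  Lre_c IH (LK LD1_c5 LD2_c3 LD3_c20) (LK LD1_c2 LD2_c29 LD3_c13) Lrfl Lrfl
theorem f248621 : Led Lsl_ct (LP (LK LD1_c4 LD2_c54 LD3_c8)) = (LP (LK LD1_c9 LD2_c39 LD3_c41)) :=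
  Lre_c IH (LK LD1_c4 LD2_c54 LD3_c8) (LK LD1_c9 LD2_c39 LD3_c41) Lrfl Lrfl
theorem f248622 : Led Lsl_af (LP (LK LD1_c5 LD2_c3 LD3_c20)) = (LP (LK LD1_c9 LD2_c39 LD3_c41)) :=
  Lgr Lrot68 (Lpr_ct (f248620 IH) (Lpr_at (f248604 IH) (Lpr_ct (f248621 IH) (Lpn (LP (LK LD1_c9 LD2_c39 LD3_c41))))))
theorem f184517 : Led Lsl_et (LP (LK LD1_c5 LD2_c3 LD3_c20)) = (LP (LK LD1_c2 LD2_c29 LD3_c12)) :=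
  Lre_e IH (LK LD1_c5 LD2_c3 LD3_c20) (LK LD1_c2 LD2_c29 LD3_c12) Lrfl Lrfl
theorem f248646 : Led Lsl_et (LP (LK LD1_c4 LD2_c54 LD3_c7)) = (LP (LK LD1_c9 LD2_c39 LD3_c41)) :=
  Lre_e IH (LK LD1_c4 LD2_c54 LD3_c7) (LK LD1_c9 LD2_c39 LD3_c41) Lrfl Lrfl
theorem f248647 : Led Lsl_at (LP (LK LD1_c2 LD2_c29 LD3_c12)) = (LP (LK LD1_c4 LD2_c54 LD3_c7)) :=
  Lgr Lrot80 (Lpe (f184517 IH) (Lpr_af (f248622 IH) (Lpe (f248646 IH) (Lpn (LP (LK LD1_c4 LD2_c54 LD3_c7))))))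
theorem f248665 : Led Lsl_ff (LP (LK LD1_c2 LD2_c29 LD3_c12)) = (LP (LK LD1_c2 LD2_c32 LD3_c27)) :=
  Lgr Lrot30 (Lpr_at (f248647 IH) (Lpr_ft (f248530 IH) (Lpe (f248536 IH) (Lpn (LP (LK LD1_c2 LD2_c32 LD3_c27))))))
theorem f248671 : Led Lsl_et (LP (LK LD1_c2 LD2_c29 LD3_c12)) = (LP (LK LD1_c5 LD2_c3 LD3_c20)) :=
  Lre_e IH (LK LD1_c2 LD2_c29 LD3_c12) (LK LD1_c5 LD2_c3 LD3_c20) Lrfl Lrfl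
theorem f248649 : Led Lsl_ft (LP (LK LD1_c5 LD2_c3 LD3_c20)) = (LP (LK LD1_c9 LD2_c57 LD3_c34)) :=
  Lre_f IH (LK LD1_c5 LD2_c3 LD3_c20) (LK LD1_c9 LD2_c57 LD3_c34) Lrfl Lrfl
theorem f212447 : Led Lsl_et (LP (LK LD1_c5 LD2_c10 LD3_c55)) = (LP (LK LD1_c2 LD2_c32 LD3_c27)) :=
  Lre_e IH (LK LD1_c5 LD2_c10 LD3_c55) (LK LD1_c2 LD2_c32 LD3_c27) Lrfl Lrfl
theorem f248672 : Led Lsl_et (LP (LK LD1_c9 LD2_c57 LD3_c34)) = (LP (LK LD1_c10 LD2_c12 LD3_c30)) :=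
  Lgr Lrot69 (Lpe (f248649 IH) (Lpe (f248671 IH) (Lpr_ff (f248665 IH) (Lpe (f212447 IH) (Lpe (f248560 IH) (Lpn (LP (LK LD1_c10 LD2_c12 LD3_c30))))))))
theorem f248600 : Led Lsl_ct (LP (LK LD1_c5 LD2_c3 LD3_c23)) = (LP (LK LD1_c9 LD2_c57 LD3_c34)) :=
  Lre_c IH (LK LD1_c5 LD2_c3 LD3_c23) (LK LD1_c9 LD2_c57 LD3_c34) Lrfl Lrfl
theorem f248677 : Led Lsl_ef (LP (LK LD1_c5 LD2_c3 LD3_c23)) = (LP (LK LD1_c5 LD2_c10 LD3_c58)) :=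
  Lgr Lrot28 (Lpr_ct (f248600 IH) (Lpr_et (f248672 IH) (Lpr_ct (f171422 IH) (Lpn (LP (LK LD1_c5 LD2_c10 LD3_c58))))))
theorem f248599 : Led Lsl_bt (LP (LK LD1_c5 LD2_c3 LD3_c23)) = (LP (LK LD1_c2 LD2_c29 LD3_c19)) :=
  Lre_b IH (LK LD1_c5 LD2_c3 LD3_c23) (LK LD1_c2 LD2_c29 LD3_c19) Lrfl Lrfl
theorem f171396 : Led Lsl_bt (LP (LK LD1_c2 LD2_c32 LD3_c34)) = (LP (LK LD1_c5 LD2_c10 LD3_c58)) :=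
  Lre_b IH (LK LD1_c2 LD2_c32 LD3_c34) (LK LD1_c5 LD2_c10 LD3_c58) Lrfl Lrfl
theorem f248683 : Led Lsl_et (LP (LK LD1_c2 LD2_c29 LD3_c19)) = (LP (LK LD1_c2 LD2_c32 LD3_c34)) :=
  Lgr Lrot74 (Lpe (f248599 IH) (Lpr_ef (f248677 IH) (Lpe (f171396 IH) (Lpn (LP (LK LD1_c2 LD2_c32 LD3_c34))))))
theorem f248689 : Led Lsl_ft (LP (LK LD1_c1 LD2_c11 LD3_c46)) = (LP (LK LD1_c2 LD2_c29 LD3_c19)) :=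
  Lre_f IH (LK LD1_c1 LD2_c11 LD3_c46) (LK LD1_c2 LD2_c29 LD3_c19) Lrfl Lrfl
theorem f248690 : Led Lsl_et (LP (LK LD1_c0 LD2_c33 LD3_c13)) = (LP (LK LD1_c1 LD2_c11 LD3_c46)) :=
  Lre_e IH (LK LD1_c0 LD2_c33 LD3_c13) (LK LD1_c1 LD2_c11 LD3_c46) Lrfl Lrfl
theorem f21992 : Led Lsl_et (LP (LK LD1_c1 LD2_c13 LD3_c14)) = (LP (LK LD1_c0 LD2_c33 LD3_c57)) :=
  Lre_e IH (LK LD1_c1 LD2_c13 LD3_c14) (LK LD1_c0 LD2_c33 LD3_c57) Lrfl Lrfl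
theorem f248691 : Led Lsl_ff (LP (LK LD1_c0 LD2_c33 LD3_c13)) = (LP (LK LD1_c0 LD2_c33 LD3_c57)) :=
  Lgr Lrot72 (Lpr_et (f248690 IH) (Lpr_ft (f248689 IH) (Lpr_et (f248683 IH) (Lpr_ft (K12.f171329 IH) (Lpr_et (f21992 IH) (Lpn (LP (LK LD1_c0 LD2_c33 LD3_c57))))))))
theorem f248697 : Led Lsl_at (LP (LK LD1_c0 LD2_c33 LD3_c13)) = (LP (LK LD1_c0 LD2_c33 LD3_c56)) :=
  Lgr Lrot26 (Lpr_ff (f248691 IH) (Lpr_gt (K9.f20822 IH) (Lpr_gt (K10.f21988 IH) (Lpn (LP (LK LD1_c0 LD2_c33 LD3_c56))))))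
theorem f21333 : Led Lsl_et (LP (LK LD1_c1 LD2_c11 LD3_c46)) = (LP (LK LD1_c0 LD2_c33 LD3_c13)) :=
  Lre_e IH (LK LD1_c1 LD2_c11 LD3_c46) (LK LD1_c0 LD2_c33 LD3_c13) Lrfl Lrfl
theorem f248706 : Led Lsl_et (LP (LK LD1_c0 LD2_c33 LD3_c56)) = (LP (LK LD1_c1 LD2_c13 LD3_c11)) :=
  Lre_e IH (LK LD1_c0 LD2_c33 LD3_c56) (LK LD1_c1 LD2_c13 LD3_c11) Lrfl Lrfl
theorem f248707 : Led Lsl_af (LP (LK LD1_c1 LD2_c11 LD3_c46)) = (LP (LK LD1_c1 LD2_c13 LD3_c11)) :=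
  Lgr Lrot50 (Lpr_et (f21333 IH) (Lpr_at (f248697 IH) (Lpr_et (f248706 IH) (Lpn (LP (LK LD1_c1 LD2_c13 LD3_c11))))))
theorem f248719 : Led Lsl_ft (LP (LK LD1_c2 LD2_c32 LD3_c26)) = (LP (LK LD1_c1 LD2_c13 LD3_c11)) :=
  Lre_f IH (LK LD1_c2 LD2_c32 LD3_c26) (LK LD1_c1 LD2_c13 LD3_c11) Lrfl Lrfl
theorem f248720 : Led Lsl_at (LP (LK LD1_c2 LD2_c29 LD3_c19)) = (LP (LK LD1_c2 LD2_c32 LD3_c26)) :=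
  Lgr Lrot66 (Lpe (f248689 IH) (Lpr_af (f248707 IH) (Lpe (f248719 IH) (Lpn (LP (LK LD1_c2 LD2_c32 LD3_c26))))))
theorem f248632 : Led Lsl_ct (LP (LK LD1_c5 LD2_c3 LD3_c35)) = (LP (LK LD1_c2 LD2_c29 LD3_c19)) :=
  Lre_c IH (LK LD1_c5 LD2_c3 LD3_c35) (LK LD1_c2 LD2_c29 LD3_c19) Lrfl Lrfl
theorem f248730 : Led Lsl_ct (LP (LK LD1_c2 LD2_c32 LD3_c26)) = (LP (LK LD1_c5 LD2_c10 LD3_c46)) :=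
  Lre_c IH (LK LD1_c2 LD2_c32 LD3_c26) (LK LD1_c5 LD2_c10 LD3_c46) Lrfl Lrfl
theorem f248751 : Led Lsl_af (LP (LK LD1_c5 LD2_c3 LD3_c35)) = (LP (LK LD1_c5 LD2_c10 LD3_c46)) :=
  Lgr Lrot68 (Lpr_ct (f248632 IH) (Lpr_at (f248720 IH) (Lpr_ct (f248730 IH) (Lpn (LP (LK LD1_c5 LD2_c10 LD3_c46))))))
theorem f248779 : Led Lsl_dt (LP (LK LD1_c5 LD2_c3 LD3_c35)) = (LP (LK LD1_c9 LD2_c58 LD3_c4)) :=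
  Lre_d IH (LK LD1_c5 LD2_c3 LD3_c35) (LK LD1_c9 LD2_c58 LD3_c4) Lrfl Lrfl
theorem f248756 : Led Lsl_dt (LP (LK LD1_c10 LD2_c12 LD3_c11)) = (LP (LK LD1_c5 LD2_c10 LD3_c46)) :=
  Lre_d IH (LK LD1_c10 LD2_c12 LD3_c11) (LK LD1_c5 LD2_c10 LD3_c46) Lrfl Lrfl
theorem f248780 : Led Lsl_at (LP (LK LD1_c9 LD2_c58 LD3_c4)) = (LP (LK LD1_c10 LD2_c12 LD3_c11)) :=
  Lgr Lrot51 (Lpe (f248779 IH) (Lpr_af (f248751 IH) (Lpe (f248756 IH) (Lpn (LP (LK LD1_c10 LD2_c12 LD3_c11))))))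
theorem f248796 : Led Lsl_ft (LP (LK LD1_c5 LD2_c3 LD3_c34)) = (LP (LK LD1_c9 LD2_c58 LD3_c4)) :=
  Lre_f IH (LK LD1_c5 LD2_c3 LD3_c34) (LK LD1_c9 LD2_c58 LD3_c4) Lrfl Lrfl
theorem f248797 : Led Lsl_ft (LP (LK LD1_c10 LD2_c12 LD3_c11)) = (LP (LK LD1_c5 LD2_c10 LD3_c45)) :=
  Lre_f IH (LK LD1_c10 LD2_c12 LD3_c11) (LK LD1_c5 LD2_c10 LD3_c45) Lrfl Lrfl
theorem f248798 : Led Lsl_af (LP (LK LD1_c5 LD2_c3 LD3_c34)) = (LP (LK LD1_c5 LD2_c10 LD3_c45)) :=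
  Lgr Lrot45 (Lpr_ft (f248796 IH) (Lpr_at (f248780 IH) (Lpr_ft (f248797 IH) (Lpn (LP (LK LD1_c5 LD2_c10 LD3_c45))))))
theorem f248812 : Led Lsl_et (LP (LK LD1_c5 LD2_c3 LD3_c34)) = (LP (LK LD1_c9 LD2_c57 LD3_c60)) :=
  Lre_e IH (LK LD1_c5 LD2_c3 LD3_c34) (LK LD1_c9 LD2_c57 LD3_c60) Lrfl Lrfl
theorem f248813 : Led Lsl_et (LP (LK LD1_c10 LD2_c12 LD3_c5)) = (LP (LK LD1_c5 LD2_c10 LD3_c45)) :=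
  Lre_e IH (LK LD1_c10 LD2_c12 LD3_c5) (LK LD1_c5 LD2_c10 LD3_c45) Lrfl Lrfl
theorem f248814 : Led Lsl_at (LP (LK LD1_c9 LD2_c57 LD3_c60)) = (LP (LK LD1_c10 LD2_c12 LD3_c5)) :=
  Lgr Lrot80 (Lpe (f248812 IH) (Lpr_af (f248798 IH) (Lpe (f248813 IH) (Lpn (LP (LK LD1_c10 LD2_c12 LD3_c5))))))
theorem f248821 : Led Lsl_dt (LP (LK LD1_c5 LD2_c3 LD3_c31)) = (LP (LK LD1_c9 LD2_c57 LD3_c60)) :=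
  Lre_d IH (LK LD1_c5 LD2_c3 LD3_c31) (LK LD1_c9 LD2_c57 LD3_c60) Lrfl Lrfl
theorem f248822 : Led Lsl_dt (LP (LK LD1_c10 LD2_c12 LD3_c5)) = (LP (LK LD1_c5 LD2_c10 LD3_c42)) :=
  Lre_d IH (LK LD1_c10 LD2_c12 LD3_c5) (LK LD1_c5 LD2_c10 LD3_c42) Lrfl Lrfl
theorem f248823 : Led Lsl_af (LP (LK LD1_c5 LD2_c3 LD3_c31)) = (LP (LK LD1_c5 LD2_c10 LD3_c42)) :=
  Lgr Lrot117 (Lpr_dt (f248821 IH) (Lpr_at (f248814 IH) (Lpr_dt (f248822 IH) (Lpn (LP (LK LD1_c5 LD2_c10 LD3_c42))))))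
theorem f248827 : Led Lsl_et (LP (LK LD1_c5 LD2_c3 LD3_c31)) = (LP (LK LD1_c2 LD2_c29 LD3_c15)) :=
  Lre_e IH (LK LD1_c5 LD2_c3 LD3_c31) (LK LD1_c2 LD2_c29 LD3_c15) Lrfl Lrfl
theorem f171633 : Led Lsl_et (LP (LK LD1_c2 LD2_c32 LD3_c22)) = (LP (LK LD1_c5 LD2_c10 LD3_c42)) :=
  Lre_e IH (LK LD1_c2 LD2_c32 LD3_c22) (LK LD1_c5 LD2_c10 LD3_c42) Lrfl Lrfl
theorem f248828 : Led Lsl_at (LP (LK LD1_c2 LD2_c29 LD3_c15)) = (LP (LK LD1_c2 LD2_c32 LD3_c22)) :=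
  Lgr Lrot80 (Lpe (f248827 IH) (Lpr_af (f248823 IH) (Lpe (f171633 IH) (Lpn (LP (LK LD1_c2 LD2_c32 LD3_c22))))))
theorem f171621 : Led Lsl_dt (LP (LK LD1_c1 LD2_c13 LD3_c10)) = (LP (LK LD1_c2 LD2_c32 LD3_c22)) :=
  Lre_d IH (LK LD1_c1 LD2_c13 LD3_c10) (LK LD1_c2 LD2_c32 LD3_c22) Lrfl Lrfl
theorem f181099 : Led Lsl_dt (LP (LK LD1_c1 LD2_c14 LD3_c1)) = (LP (LK LD1_c1 LD2_c9 LD3_c36)) :=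
  Lgr Lrot42 (Lpr_df (K9.f181094 IH) (Lpn (LP (LK LD1_c1 LD2_c9 LD3_c36))))
theorem f186715 : Led Lsl_cf (LP (LK LD1_c1 LD2_c14 LD3_c1)) = (LP (LK LD1_c2 LD2_c32 LD3_c12)) :=
  Lgr Lrot55 (Lpr_dt (f181099 IH) (Lpr_ct (K9.f31449 IH) (Lpr_dt (K9.f31452 IH) (Lpr_ct (K9.f171510 IH) (Lpr_dt (K10.f22010 IH) (Lpr_ct (K10.f22100 IH) (Lpr_dt (K10.f171646 IH) (Lpe (K10.f180633 IH) (Lpe (K10.f180637 IH) (Lpr_ct (K10.f31692 IH) (Lpr_dt (K9.f31695 IH) (Lpr_ct (K10.f186710 IH) (Lpr_dt (K13.f185077 IH) (Lpr_ct (K10.f185396 IH) (Lpr_dt (K10.f185397 IH) (Lpn (LP (LK LD1_c2 LD2_c32 LD3_c12))))))))))))))))))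
theorem f186769 : Led Lsl_cf (LP (LK LD1_c2 LD2_c32 LD3_c22)) = (LP (LK LD1_c1 LD2_c13 LD3_c59)) :=
  Lgr Lrot14 (Lpe (f171621 IH) (Lpe (K10.f171618 IH) (Lpe (K9.f31690 IH) (Lpr_gf (K10.f186723 IH) (Lpe (f186715 IH) (Lpe (K9.f165455 IH) (Lpr_dt (K8.f3165 IH) (Lpr_gt (K10.f186664 IH) (Lpr_dt (K10.f186660 IH) (Lpn (LP (LK LD1_c1 LD2_c13 LD3_c59))))))))))))
theorem f165257 : Led Lsl_dt (LP (LK LD1_c2 LD2_c32 LD3_c30)) = (LP (LK LD1_c1 LD2_c13 LD3_c13)) :=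
  Lre_d IH (LK LD1_c2 LD2_c32 LD3_c30) (LK LD1_c1 LD2_c13 LD3_c13) Lrfl Lrfl
theorem f248839 : Led Lsl_ff (LP (LK LD1_c2 LD2_c29 LD3_c15)) = (LP (LK LD1_c2 LD2_c32 LD3_c30)) :=
  Lgr Lrot103 (Lpr_at (f248828 IH) (Lpr_cf (f186769 IH) (Lpe (K10.f186660 IH) (Lpe (K10.f186688 IH) (Lpe (K9.f6793 IH) (Lpe (K9.f31681 IH) (Lpr_df (K9.f171214 IH) (Lpe (K10.f165259 IH) (Lpe (f165257 IH) (Lpn (LP (LK LD1_c2 LD2_c32 LD3_c30))))))))))))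
theorem f248844 : Led Lsl_ft (LP (LK LD1_c2 LD2_c29 LD3_c15)) = (LP (LK LD1_c2 LD2_c32 LD3_c30)) :=
  Lgr Lrot48 (Lpr_ff (f248839 IH) (Lpn (LP (LK LD1_c2 LD2_c32 LD3_c30))))
theorem f165813 : Led Lsl_dt (LP (LK LD1_c1 LD2_c11 LD3_c45)) = (LP (LK LD1_c2 LD2_c29 LD3_c15)) :=
  Lre_d IH (LK LD1_c1 LD2_c11 LD3_c45) (LK LD1_c2 LD2_c29 LD3_c15) Lrfl Lrfl
theorem f248858 : Led Lsl_ff (LP (LK LD1_c1 LD2_c11 LD3_c45)) = (LP (LK LD1_c1 LD2_c13 LD3_c13)) :=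
  Lgr Lrot19 (Lpr_dt (f165813 IH) (Lpr_ft (f248844 IH) (Lpr_dt (f165257 IH) (Lpn (LP (LK LD1_c1 LD2_c13 LD3_c13))))))
theorem f248868 : Led Lsl_at (LP (LK LD1_c1 LD2_c11 LD3_c45)) = (LP (LK LD1_c1 LD2_c13 LD3_c10)) :=
  Lgr Lrot26 (Lpr_ff (f248858 IH) (Lpe (K10.f180631 IH) (Lpr_gt (K10.f171618 IH) (Lpn (LP (LK LD1_c1 LD2_c13 LD3_c10))))))
theorem f165824 : Led Lsl_et (LP (LK LD1_c2 LD2_c29 LD3_c16)) = (LP (LK LD1_c1 LD2_c11 LD3_c45)) :=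
  Lre_e IH (LK LD1_c2 LD2_c29 LD3_c16) (LK LD1_c1 LD2_c11 LD3_c45) Lrfl Lrfl
theorem f248852 : Led Lsl_et (LP (LK LD1_c1 LD2_c13 LD3_c10)) = (LP (LK LD1_c2 LD2_c32 LD3_c23)) :=
  Lre_e IH (LK LD1_c1 LD2_c13 LD3_c10) (LK LD1_c2 LD2_c32 LD3_c23) Lrfl Lrfl
theorem f248874 : Led Lsl_af (LP (LK LD1_c2 LD2_c29 LD3_c16)) = (LP (LK LD1_c2 LD2_c32 LD3_c23)) :=
  Lgr Lrot50 (Lpr_et (f165824 IH) (Lpr_at (f248868 IH) (Lpr_et (f248852 IH) (Lpn (LP (LK LD1_c2 LD2_c32 LD3_c23))))))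
theorem f248876 : Led Lsl_bt (LP (LK LD1_c2 LD2_c29 LD3_c16)) = (LP (LK LD1_c5 LD2_c3 LD3_c28)) :=
  Lre_b IH (LK LD1_c2 LD2_c29 LD3_c16) (LK LD1_c5 LD2_c3 LD3_c28) Lrfl Lrfl
theorem f248877 : Led Lsl_at (LP (LK LD1_c5 LD2_c3 LD3_c28)) = (LP (LK LD1_c9 LD2_c57 LD3_c49)) :=
  Lre_a IH (LK LD1_c5 LD2_c3 LD3_c28) (LK LD1_c9 LD2_c57 LD3_c49) Lrfl Lrfl
theorem f248878 : Led Lsl_bt (LP (LK LD1_c5 LD2_c10 LD3_c41)) = (LP (LK LD1_c2 LD2_c32 LD3_c23)) :=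
  Lre_b IH (LK LD1_c5 LD2_c10 LD3_c41) (LK LD1_c2 LD2_c32 LD3_c23) Lrfl Lrfl
theorem f248879 : Led Lsl_at (LP (LK LD1_c10 LD2_c12 LD3_c0)) = (LP (LK LD1_c5 LD2_c10 LD3_c41)) :=
  Lre_a IH (LK LD1_c10 LD2_c12 LD3_c0) (LK LD1_c5 LD2_c10 LD3_c41) Lrfl Lrfl
theorem f248880 : Led Lsl_bt (LP (LK LD1_c9 LD2_c57 LD3_c49)) = (LP (LK LD1_c10 LD2_c12 LD3_c0)) :=
  Lgr Lrot62 (Lpe (f248877 IH) (Lpe (f248876 IH) (Lpr_af (f248874 IH) (Lpe (f248878 IH) (Lpe (f248879 IH) (Lpn (LP (LK LD1_c10 LD2_c12 LD3_c0))))))))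
theorem f248894 : Led Lsl_bf (LP (LK LD1_c9 LD2_c57 LD3_c49)) = (LP (LK LD1_c10 LD2_c12 LD3_c0)) :=
  Lgr Lrot24 (Lpr_bt (f248880 IH) (Lpn (LP (LK LD1_c10 LD2_c12 LD3_c0))))
theorem f248944 : Led Lsl_et (LP (LK LD1_c9 LD2_c57 LD3_c49)) = (LP (LK LD1_c5 LD2_c3 LD3_c26)) :=
  Lre_e IH (LK LD1_c9 LD2_c57 LD3_c49) (LK LD1_c5 LD2_c3 LD3_c26) Lrfl Lrfl
theorem f248945 : Led Lsl_et (LP (LK LD1_c5 LD2_c10 LD3_c39)) = (LP (LK LD1_c10 LD2_c12 LD3_c0)) :=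
  Lre_e IH (LK LD1_c5 LD2_c10 LD3_c39) (LK LD1_c10 LD2_c12 LD3_c0) Lrfl Lrfl
theorem f248946 : Led Lsl_bt (LP (LK LD1_c5 LD2_c3 LD3_c26)) = (LP (LK LD1_c5 LD2_c10 LD3_c39)) :=
  Lgr Lrot119 (Lpe (f248944 IH) (Lpr_bf (f248894 IH) (Lpe (f248945 IH) (Lpn (LP (LK LD1_c5 LD2_c10 LD3_c39))))))
theorem f248958 : Led Lsl_ct (LP (LK LD1_c9 LD2_c57 LD3_c26)) = (LP (LK LD1_c5 LD2_c3 LD3_c26)) :=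
  Lre_c IH (LK LD1_c9 LD2_c57 LD3_c26) (LK LD1_c5 LD2_c3 LD3_c26) Lrfl Lrfl
theorem f184511 : Led Lsl_bt (LP (LK LD1_c5 LD2_c3 LD3_c18)) = (LP (LK LD1_c2 LD2_c29 LD3_c12)) :=
  Lre_b IH (LK LD1_c5 LD2_c3 LD3_c18) (LK LD1_c2 LD2_c29 LD3_c12) Lrfl Lrfl
theorem f248659 : Led Lsl_at (LP (LK LD1_c9 LD2_c57 LD3_c26)) = (LP (LK LD1_c5 LD2_c3 LD3_c18)) :=
  Lre_a IH (LK LD1_c9 LD2_c57 LD3_c26) (LK LD1_c5 LD2_c3 LD3_c18) Lrfl Lrfl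
theorem f43799 : Led Lsl_bt (LP (LK LD1_c4 LD2_c54 LD3_c7)) = (LP (LK LD1_c9 LD2_c39 LD3_c39)) :=
  Lre_b IH (LK LD1_c4 LD2_c54 LD3_c7) (LK LD1_c9 LD2_c39 LD3_c39) Lrfl Lrfl
theorem f248660 : Led Lsl_at (LP (LK LD1_c9 LD2_c39 LD3_c39)) = (LP (LK LD1_c17 LD2_c46 LD3_c1)) :=
  Lre_a IH (LK LD1_c9 LD2_c39 LD3_c39) (LK LD1_c17 LD2_c46 LD3_c1) Lrfl Lrfl
theorem f248661 : Led Lsl_bf (LP (LK LD1_c9 LD2_c57 LD3_c26)) = (LP (LK LD1_c17 LD2_c46 LD3_c1)) :=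
  Lgr Lrot81 (Lpr_at (f248659 IH) (Lpr_bt (f184511 IH) (Lpr_at (f248647 IH) (Lpr_bt (f43799 IH) (Lpr_at (f248660 IH) (Lpn (LP (LK LD1_c17 LD2_c46 LD3_c1))))))))
theorem f248959 : Led Lsl_ct (LP (LK LD1_c5 LD2_c10 LD3_c39)) = (LP (LK LD1_c10 LD2_c11 LD3_c42)) :=
  Lre_c IH (LK LD1_c5 LD2_c10 LD3_c39) (LK LD1_c10 LD2_c11 LD3_c42) Lrfl Lrfl
theorem f248960 : Led Lsl_bt (LP (LK LD1_c10 LD2_c11 LD3_c42)) = (LP (LK LD1_c18 LD2_c33 LD3_c59)) :=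
  Lre_b IH (LK LD1_c10 LD2_c11 LD3_c42) (LK LD1_c18 LD2_c33 LD3_c59) Lrfl Lrfl
theorem f248961 : Led Lsl_cf (LP (LK LD1_c17 LD2_c46 LD3_c1)) = (LP (LK LD1_c18 LD2_c33 LD3_c59)) :=
  Lgr Lrot97 (Lpe (f248661 IH) (Lpr_ct (f248958 IH) (Lpr_bt (f248946 IH) (Lpr_ct (f248959 IH) (Lpr_bt (f248960 IH) (Lpn (LP (LK LD1_c18 LD2_c33 LD3_c59))))))))
theorem f248971 : Led Lsl_ct (LP (LK LD1_c17 LD2_c46 LD3_c1)) = (LP (LK LD1_c18 LD2_c33 LD3_c59)) :=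
  Lgr Lrot59 (Lpr_cf (f248961 IH) (Lpn (LP (LK LD1_c18 LD2_c33 LD3_c59))))
theorem f248988 : Led Lsl_et (LP (LK LD1_c27 LD2_c32 LD3_c23)) = (LP (LK LD1_c17 LD2_c46 LD3_c1)) :=
  Lre_e IH (LK LD1_c27 LD2_c32 LD3_c23) (LK LD1_c17 LD2_c46 LD3_c1) Lrfl Lrfl
theorem f248989 : Led Lsl_et (LP (LK LD1_c18 LD2_c33 LD3_c59)) = (LP (LK LD1_c28 LD2_c8 LD3_c8)) :=
  Lre_e IH (LK LD1_c18 LD2_c33 LD3_c59) (LK LD1_c28 LD2_c8 LD3_c8) Lrfl Lrfl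
theorem f248990 : Led Lsl_cf (LP (LK LD1_c27 LD2_c32 LD3_c23)) = (LP (LK LD1_c28 LD2_c8 LD3_c8)) :=
  Lgr Lrot39 (Lpr_et (f248988 IH) (Lpr_ct (f248971 IH) (Lpr_et (f248989 IH) (Lpn (LP (LK LD1_c28 LD2_c8 LD3_c8))))))
theorem f248641 : Led Lsl_at (LP (LK LD1_c27 LD2_c32 LD3_c23)) = (LP (LK LD1_c17 LD2_c46 LD3_c3)) :=
  Lre_a IH (LK LD1_c27 LD2_c32 LD3_c23) (LK LD1_c17 LD2_c46 LD3_c3) Lrfl Lrfl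
theorem f248992 : Led Lsl_at (LP (LK LD1_c18 LD2_c33 LD3_c61)) = (LP (LK LD1_c28 LD2_c8 LD3_c8)) :=
  Lre_a IH (LK LD1_c18 LD2_c33 LD3_c61) (LK LD1_c28 LD2_c8 LD3_c8) Lrfl Lrfl
theorem f248993 : Led Lsl_ct (LP (LK LD1_c17 LD2_c46 LD3_c3)) = (LP (LK LD1_c18 LD2_c33 LD3_c61)) :=
  Lgr Lrot111 (Lpe (f248641 IH) (Lpr_cf (f248990 IH) (Lpe (f248992 IH) (Lpn (LP (LK LD1_c18 LD2_c33 LD3_c61))))))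
theorem f249001 : Led Lsl_bt (LP (LK LD1_c9 LD2_c39 LD3_c41)) = (LP (LK LD1_c17 LD2_c46 LD3_c3)) :=
  Lre_b IH (LK LD1_c9 LD2_c39 LD3_c41) (LK LD1_c17 LD2_c46 LD3_c3) Lrfl Lrfl
theorem f249005 : Led Lsl_bt (LP (LK LD1_c18 LD2_c33 LD3_c61)) = (LP (LK LD1_c10 LD2_c11 LD3_c34)) :=
  Lre_b IH (LK LD1_c18 LD2_c33 LD3_c61) (LK LD1_c10 LD2_c11 LD3_c34) Lrfl Lrfl
theorem f249006 : Led Lsl_ct (LP (LK LD1_c10 LD2_c11 LD3_c34)) = (LP (LK LD1_c5 LD2_c10 LD3_c29)) :=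
  Lre_c IH (LK LD1_c10 LD2_c11 LD3_c34) (LK LD1_c5 LD2_c10 LD3_c29) Lrfl Lrfl
theorem f249007 : Led Lsl_bf (LP (LK LD1_c4 LD2_c54 LD3_c8)) = (LP (LK LD1_c5 LD2_c10 LD3_c29)) :=
  Lgr Lrot90 (Lpr_ct (f248621 IH) (Lpr_bt (f249001 IH) (Lpr_ct (f248993 IH) (Lpr_bt (f249005 IH) (Lpr_ct (f249006 IH) (Lpn (LP (LK LD1_c5 LD2_c10 LD3_c29))))))))
theorem f249042 : Led Lsl_et (LP (LK LD1_c2 LD2_c32 LD3_c18)) = (LP (LK LD1_c5 LD2_c10 LD3_c29)) :=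
  Lre_e IH (LK LD1_c2 LD2_c32 LD3_c18) (LK LD1_c5 LD2_c10 LD3_c29) Lrfl Lrfl
theorem f249043 : Led Lsl_bt (LP (LK LD1_c2 LD2_c24 LD3_c59)) = (LP (LK LD1_c2 LD2_c32 LD3_c18)) :=
  Lgr Lrot119 (Lpe (f43801 IH) (Lpr_bf (f249007 IH) (Lpe (f249042 IH) (Lpn (LP (LK LD1_c2 LD2_c32 LD3_c18))))))
theorem f233406 : Led Lsl_gf (LP (LK LD1_c2 LD2_c8 LD3_c12)) = (LP (LK LD1_c3 LD2_c56 LD3_c55)) :=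
  Lgr Lrot147 (Lpr_ct (K13.f184770 IH) (Lpr_gt (K13.f233393 IH) (Lpr_ct (K0.f1730 IH) (Lpe (K0.f1611 IH) (Lpr_cf (K0.f1748 IH) (Lpe (K12.f2073 IH) (Lpr_cf (K13.f184364 IH) (Lpe (K13.f191833 IH) (Lpe (K1.f29139 IH) (Lpn (LP (LK LD1_c3 LD2_c56 LD3_c55))))))))))))
theorem f233413 : Led Lsl_gt (LP (LK LD1_c4 LD2_c2 LD3_c36)) = (LP (LK LD1_c2 LD2_c36 LD3_c31)) :=
  Lgr Lrot139 (Lpe (K9.f45890 IH) (Lpe (K9.f184611 IH) (Lpe (K13.f184618 IH) (Lpr_dt (K13.f184767 IH) (Lpr_gf (f233406 IH) (Lpe (K13.f29142 IH) (Lpr_et (K13.f43058 IH) (Lpe (K13.f228932 IH) (Lpe (K12.f167340 IH) (Lpr_dt (K12.f228944 IH) (Lpn (LP (LK LD1_c2 LD2_c36 LD3_c31)))))))))))))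
theorem f32552 : Led Lsl_bt (LP (LK LD1_c0 LD2_c34 LD3_c34)) = (LP (LK LD1_c1 LD2_c14 LD3_c26)) :=
  Lre_b IH (LK LD1_c0 LD2_c34 LD3_c34) (LK LD1_c1 LD2_c14 LD3_c26) Lrfl Lrfl
theorem f21845 : Led Lsl_bt (LP (LK LD1_c0 LD2_c33 LD3_c6)) = (LP (LK LD1_c0 LD2_c14 LD3_c56)) :=
  Lre_b IH (LK LD1_c0 LD2_c33 LD3_c6) (LK LD1_c0 LD2_c14 LD3_c56) Lrfl Lrfl
theorem f3581 : Led Lsl_gt (LP (LK LD1_c2 LD2_c28 LD3_c35)) = (LP (LK LD1_c1 LD2_c11 LD3_c30)) :=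
  Lre_g IH (LK LD1_c2 LD2_c28 LD3_c35) (LK LD1_c1 LD2_c11 LD3_c30) Lrfl Lrfl
theorem f167352 : Led Lsl_bt (LP (LK LD1_c0 LD2_c57 LD3_c54)) = (LP (LK LD1_c2 LD2_c1 LD3_c37)) :=
  Lre_b IH (LK LD1_c0 LD2_c57 LD3_c54) (LK LD1_c2 LD2_c1 LD3_c37) Lrfl Lrfl
theorem f228968 : Led Lsl_dt (LP (LK LD1_c2 LD2_c1 LD3_c46)) = (LP (LK LD1_c0 LD2_c57 LD3_c54)) :=
  Lre_d IH (LK LD1_c2 LD2_c1 LD3_c46) (LK LD1_c0 LD2_c57 LD3_c54) Lrfl Lrfl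
theorem f228969 : Led Lsl_bf (LP (LK LD1_c2 LD2_c1 LD3_c46)) = (LP (LK LD1_c2 LD2_c36 LD3_c31)) :=
  Lgr Lrot93 (Lpr_dt (f228968 IH) (Lpr_bt (f167352 IH) (Lpr_dt (K12.f228944 IH) (Lpn (LP (LK LD1_c2 LD2_c36 LD3_c31))))))
theorem f232010 : Led Lsl_cf (LP (LK LD1_c2 LD2_c28 LD3_c35)) = (LP (LK LD1_c2 LD2_c36 LD3_c31)) :=
  Lgr Lrot160 (Lpr_gt (f3581 IH) (Lpe (K0.f3574 IH) (Lpr_bt (f21845 IH) (Lpr_gt (K9.f21275 IH) (Lpr_ct (K9.f165428 IH) (Lpe (K9.f165811 IH) (Lpe (K9.f32587 IH) (Lpr_bt (f32552 IH) (Lpr_gt (K13.f231996 IH) (Lpr_bf (f228969 IH) (Lpn (LP (LK LD1_c2 LD2_c36 LD3_c31)))))))))))))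
theorem f184046 : Led Lsl_gt (LP (LK LD1_c2 LD2_c29 LD3_c12)) = (LP (LK LD1_c5 LD2_c3 LD3_c17)) :=
  Lre_g IH (LK LD1_c2 LD2_c29 LD3_c12) (LK LD1_c5 LD2_c3 LD3_c17) Lrfl Lrfl
theorem f233415 : Led Lsl_ct (LP (LK LD1_c2 LD2_c36 LD3_c18)) = (LP (LK LD1_c5 LD2_c3 LD3_c17)) :=
  Lgr Lrot10 (Lpe (K1.f45841 IH) (Lpr_gt (f233413 IH) (Lpe (f232010 IH) (Lpr_gt (f3581 IH) (Lpe (K0.f3574 IH) (Lpr_bt (f21845 IH) (Lpr_gt (K9.f21275 IH) (Lpe (K13.f165430 IH) (Lpr_ct (K13.f165433 IH) (Lpr_gt (f184046 IH) (Lpn (LP (LK LD1_c5 LD2_c3 LD3_c17)))))))))))))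
theorem f46368 : Led Lsl_at (LP (LK LD1_c2 LD2_c36 LD3_c13)) = (LP (LK LD1_c2 LD2_c36 LD3_c18)) :=
  Lgr Lrot100 (Lpr_af (K1.f46361 IH) (Lpn (LP (LK LD1_c2 LD2_c36 LD3_c18))))
theorem f212330 : Led Lsl_cf (LP (LK LD1_c2 LD2_c36 LD3_c13)) = (LP (LK LD1_c5 LD2_c10 LD3_c52)) :=
  Lgr Lrot11 (Lpr_ct (K12.f212326 IH) (Lpn (LP (LK LD1_c5 LD2_c10 LD3_c52))))
theorem f233419 : Led Lsl_af (LP (LK LD1_c5 LD2_c10 LD3_c52)) = (LP (LK LD1_c5 LD2_c3 LD3_c17)) :=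
  Lgr Lrot68 (Lpe (f212330 IH) (Lpr_at (f46368 IH) (Lpr_ct (f233415 IH) (Lpn (LP (LK LD1_c5 LD2_c3 LD3_c17))))))
theorem f28258 : Led Lsl_ct (LP (LK LD1_c5 LD2_c20 LD3_c11)) = (LP (LK LD1_c2 LD2_c36 LD3_c44)) :=
  Lre_c IH (LK LD1_c5 LD2_c20 LD3_c11) (LK LD1_c2 LD2_c36 LD3_c44) Lrfl Lrfl
theorem f233431 : Led Lsl_df (LP (LK LD1_c5 LD2_c20 LD3_c11)) = (LP (LK LD1_c5 LD2_c3 LD3_c17)) :=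
  Lgr Lrot106 (Lpr_ct (f28258 IH) (Lpr_dt (f28257 IH) (Lpr_ct (K9.f28256 IH) (Lpr_dt (K1.f28255 IH) (Lpe (K1.f28245 IH) (Lpr_af (K1.f46344 IH) (Lpe (K1.f45870 IH) (Lpr_dt (K1.f45850 IH) (Lpr_ct (f233415 IH) (Lpn (LP (LK LD1_c5 LD2_c3 LD3_c17))))))))))))
theorem f47375 : Led Lsl_ft (LP (LK LD1_c5 LD2_c20 LD3_c11)) = (LP (LK LD1_c5 LD2_c19 LD3_c13)) :=
  Lgr Lrot48 (Lpr_ff (f47372 IH) (Lpn (LP (LK LD1_c5 LD2_c19 LD3_c13))))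
theorem f233445 : Led Lsl_ft (LP (LK LD1_c2 LD2_c36 LD3_c17)) = (LP (LK LD1_c5 LD2_c3 LD3_c17)) :=
  Lgr Lrot54 (Lpe (f43973 IH) (Lpe (f47375 IH) (Lpr_df (f233431 IH) (Lpn (LP (LK LD1_c5 LD2_c3 LD3_c17))))))
theorem f248286 : Led Lsl_gt (LP (LK LD1_c2 LD2_c36 LD3_c17)) = (LP (LK LD1_c4 LD2_c54 LD3_c7)) :=
  Lgr Lrot5 (Lpr_ft (f233445 IH) (Lpe (f233419 IH) (Lpr_gf (f248279 IH) (Lpn (LP (LK LD1_c4 LD2_c54 LD3_c7))))))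
theorem f249061 : Led Lsl_gf (LP (LK LD1_c2 LD2_c28 LD3_c57)) = (LP (LK LD1_c2 LD2_c32 LD3_c18)) :=
  Lgr Lrot124 (Lpe (K12.f212306 IH) (Lpe (K10.f188325 IH) (Lpr_gt (K13.f188335 IH) (Lpe (K9.f32559 IH) (Lpr_bt (K9.f48256 IH) (Lpr_gt (K13.f184862 IH) (Lpr_ct (K1.f43957 IH) (Lpr_gt (f248286 IH) (Lpe (K12.f43798 IH) (Lpr_bt (f249043 IH) (Lpn (LP (LK LD1_c2 LD2_c32 LD3_c18)))))))))))))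
theorem f214130 : Led Lsl_ct (LP (LK LD1_c5 LD2_c2 LD3_c46)) = (LP (LK LD1_c2 LD2_c28 LD3_c57)) :=
  Lre_c IH (LK LD1_c5 LD2_c2 LD3_c46) (LK LD1_c2 LD2_c28 LD3_c57) Lrfl Lrfl
theorem f214219 : Led Lsl_bt (LP (LK LD1_c5 LD2_c2 LD3_c46)) = (LP (LK LD1_c9 LD2_c56 LD3_c23)) :=
  Lre_b IH (LK LD1_c5 LD2_c2 LD3_c46) (LK LD1_c9 LD2_c56 LD3_c23) Lrfl Lrfl
theorem f214537 : Led Lsl_gt (LP (LK LD1_c9 LD2_c56 LD3_c23)) = (LP (LK LD1_c18 LD2_c11 LD3_c14)) :=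
  Lre_g IH (LK LD1_c9 LD2_c56 LD3_c23) (LK LD1_c18 LD2_c11 LD3_c14) Lrfl Lrfl
theorem f43933 : Led Lsl_et (LP (LK LD1_c2 LD2_c37 LD3_c17)) = (LP (LK LD1_c2 LD2_c36 LD3_c17)) :=
  Lgr Lrot158 (Lpe (K10.f43931 IH) (Lpr_ef (K1.f43925 IH) (Lpe (K1.f43932 IH) (Lpn (LP (LK LD1_c2 LD2_c36 LD3_c17))))))
theorem f192915 : Led Lsl_ff (LP (LK LD1_c2 LD2_c37 LD3_c17)) = (LP (LK LD1_c5 LD2_c10 LD3_c30)) :=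
  Lgr Lrot23 (Lpr_ct (K1.f43956 IH) (Lpr_ft (K1.f43937 IH) (Lpr_ct (K10.f192903 IH) (Lpn (LP (LK LD1_c5 LD2_c10 LD3_c30))))))
theorem f233462 : Led Lsl_et (LP (LK LD1_c10 LD2_c11 LD3_c39)) = (LP (LK LD1_c5 LD2_c10 LD3_c30)) :=
  Lre_e IH (LK LD1_c10 LD2_c11 LD3_c39) (LK LD1_c5 LD2_c10 LD3_c30) Lrfl Lrfl
theorem f233426 : Led Lsl_et (LP (LK LD1_c5 LD2_c3 LD3_c17)) = (LP (LK LD1_c9 LD2_c57 LD3_c23)) :=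
  Lre_e IH (LK LD1_c5 LD2_c3 LD3_c17) (LK LD1_c9 LD2_c57 LD3_c23) Lrfl Lrfl
theorem f233463 : Led Lsl_ff (LP (LK LD1_c10 LD2_c11 LD3_c39)) = (LP (LK LD1_c9 LD2_c57 LD3_c23)) :=
  Lgr Lrot72 (Lpr_et (f233462 IH) (Lpe (f192915 IH) (Lpr_et (f43933 IH) (Lpr_ft (f233445 IH) (Lpr_et (f233426 IH) (Lpn (LP (LK LD1_c9 LD2_c57 LD3_c23))))))))
theorem f233473 : Led Lsl_ft (LP (LK LD1_c10 LD2_c11 LD3_c39)) = (LP (LK LD1_c9 LD2_c57 LD3_c23)) :=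
  Lgr Lrot48 (Lpr_ff (f233463 IH) (Lpn (LP (LK LD1_c9 LD2_c57 LD3_c23))))
theorem f192912 : Led Lsl_et (LP (LK LD1_c5 LD2_c10 LD3_c30)) = (LP (LK LD1_c10 LD2_c11 LD3_c39)) :=
  Lre_e IH (LK LD1_c5 LD2_c10 LD3_c30) (LK LD1_c10 LD2_c11 LD3_c39) Lrfl Lrfl
theorem f233441 : Led Lsl_et (LP (LK LD1_c9 LD2_c57 LD3_c23)) = (LP (LK LD1_c5 LD2_c3 LD3_c17)) :=
  Lre_e IH (LK LD1_c9 LD2_c57 LD3_c23) (LK LD1_c5 LD2_c3 LD3_c17) Lrfl Lrfl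
theorem f233429 : Led Lsl_ff (LP (LK LD1_c2 LD2_c36 LD3_c17)) = (LP (LK LD1_c5 LD2_c3 LD3_c17)) :=
  Lgr Lrot23 (Lpr_ct (K1.f43932 IH) (Lpr_ft (K1.f43953 IH) (Lpr_ct (f233415 IH) (Lpn (LP (LK LD1_c5 LD2_c3 LD3_c17))))))
theorem f233489 : Led Lsl_ff (LP (LK LD1_c5 LD2_c10 LD3_c30)) = (LP (LK LD1_c2 LD2_c37 LD3_c17)) :=
  Lgr Lrot72 (Lpr_et (f192912 IH) (Lpr_ft (f233473 IH) (Lpr_et (f233441 IH) (Lpe (f233429 IH) (Lpe (K1.f43958 IH) (Lpn (LP (LK LD1_c2 LD2_c37 LD3_c17))))))))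
theorem f192907 : Led Lsl_bt (LP (LK LD1_c5 LD2_c10 LD3_c30)) = (LP (LK LD1_c10 LD2_c11 LD3_c38)) :=
  Lre_b IH (LK LD1_c5 LD2_c10 LD3_c30) (LK LD1_c10 LD2_c11 LD3_c38) Lrfl Lrfl
theorem f44009 : Led Lsl_bt (LP (LK LD1_c5 LD2_c21 LD3_c23)) = (LP (LK LD1_c2 LD2_c37 LD3_c17)) :=
  Lre_b IH (LK LD1_c5 LD2_c21 LD3_c23) (LK LD1_c2 LD2_c37 LD3_c17) Lrfl Lrfl
theorem f233492 : Led Lsl_ft (LP (LK LD1_c10 LD2_c11 LD3_c38)) = (LP (LK LD1_c5 LD2_c21 LD3_c23)) :=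
  Lgr Lrot75 (Lpe (f192907 IH) (Lpr_ff (f233489 IH) (Lpe (f44009 IH) (Lpn (LP (LK LD1_c5 LD2_c21 LD3_c23))))))
theorem f233499 : Led Lsl_ff (LP (LK LD1_c10 LD2_c11 LD3_c38)) = (LP (LK LD1_c5 LD2_c21 LD3_c23)) :=
  Lgr Lrot3 (Lpr_ft (f233492 IH) (Lpn (LP (LK LD1_c5 LD2_c21 LD3_c23))))
theorem f192922 : Led Lsl_at (LP (LK LD1_c10 LD2_c11 LD3_c38)) = (LP (LK LD1_c18 LD2_c34 LD3_c10)) :=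
  Lre_a IH (LK LD1_c10 LD2_c11 LD3_c38) (LK LD1_c18 LD2_c34 LD3_c10) Lrfl Lrfl
theorem f43989 : Led Lsl_at (LP (LK LD1_c10 LD2_c33 LD3_c5)) = (LP (LK LD1_c5 LD2_c21 LD3_c23)) :=
  Lre_a IH (LK LD1_c10 LD2_c33 LD3_c5) (LK LD1_c5 LD2_c21 LD3_c23) Lrfl Lrfl
theorem f233503 : Led Lsl_ft (LP (LK LD1_c18 LD2_c34 LD3_c10)) = (LP (LK LD1_c10 LD2_c33 LD3_c5)) :=
  Lgr Lrot101 (Lpe (f192922 IH) (Lpr_ff (f233499 IH) (Lpe (f43989 IH) (Lpn (LP (LK LD1_c10 LD2_c33 LD3_c5))))))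
theorem f45925 : Led Lsl_at (LP (LK LD1_c8 LD2_c5 LD3_c56)) = (LP (LK LD1_c4 LD2_c2 LD3_c39)) :=
  Lre_a IH (LK LD1_c8 LD2_c5 LD3_c56) (LK LD1_c4 LD2_c2 LD3_c39) Lrfl Lrfl
theorem f44005 : Led Lsl_at (LP (LK LD1_c5 LD2_c21 LD3_c23)) = (LP (LK LD1_c10 LD2_c33 LD3_c5)) :=
  Lre_a IH (LK LD1_c5 LD2_c21 LD3_c23) (LK LD1_c10 LD2_c33 LD3_c5) Lrfl Lrfl
theorem f45926 : Led Lsl_cf (LP (LK LD1_c8 LD2_c5 LD3_c56)) = (LP (LK LD1_c10 LD2_c33 LD3_c5)) :=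
  Lgr Lrot1 (Lpr_at (f45925 IH) (Lpr_ct (K10.f45914 IH) (Lpr_at (f44005 IH) (Lpn (LP (LK LD1_c10 LD2_c33 LD3_c5))))))
theorem f45976 : Led Lsl_ft (LP (LK LD1_c8 LD2_c5 LD3_c56)) = (LP (LK LD1_c15 LD2_c14 LD3_c44)) :=
  Lre_f IH (LK LD1_c8 LD2_c5 LD3_c56) (LK LD1_c15 LD2_c14 LD3_c44) Lrfl Lrfl
theorem f233510 : Led Lsl_cf (LP (LK LD1_c18 LD2_c34 LD3_c10)) = (LP (LK LD1_c15 LD2_c14 LD3_c44)) :=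
  Lgr Lrot108 (Lpr_ft (f233503 IH) (Lpe (f45926 IH) (Lpr_ft (f45976 IH) (Lpn (LP (LK LD1_c15 LD2_c14 LD3_c44))))))
theorem f233525 : Led Lsl_ct (LP (LK LD1_c18 LD2_c34 LD3_c10)) = (LP (LK LD1_c15 LD2_c14 LD3_c44)) :=
  Lgr Lrot59 (Lpr_cf (f233510 IH) (Lpn (LP (LK LD1_c15 LD2_c14 LD3_c44))))
theorem f189450 : Led Lsl_bt (LP (LK LD1_c9 LD2_c58 LD3_c18)) = (LP (LK LD1_c5 LD2_c3 LD3_c44)) :=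
  Lre_b IH (LK LD1_c9 LD2_c58 LD3_c18) (LK LD1_c5 LD2_c3 LD3_c44) Lrfl Lrfl
theorem f190698 : Led Lsl_at (LP (LK LD1_c18 LD2_c14 LD3_c30)) = (LP (LK LD1_c9 LD2_c58 LD3_c18)) :=
  Lre_a IH (LK LD1_c18 LD2_c14 LD3_c30) (LK LD1_c9 LD2_c58 LD3_c18) Lrfl Lrfl
theorem f192923 : Led Lsl_bf (LP (LK LD1_c18 LD2_c14 LD3_c30)) = (LP (LK LD1_c18 LD2_c34 LD3_c10)) :=
  Lgr Lrot81 (Lpr_at (f190698 IH) (Lpr_bt (f189450 IH) (Lpr_at (K10.f192917 IH) (Lpr_bt (f192907 IH) (Lpr_at (f192922 IH) (Lpn (LP (LK LD1_c18 LD2_c34 LD3_c10))))))))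
theorem f187672 : Led Lsl_ct (LP (LK LD1_c5 LD2_c20 LD3_c20)) = (LP (LK LD1_c5 LD2_c17 LD3_c23)) :=
  Lgr Lrot59 (Lpr_cf (K10.f187665 IH) (Lpn (LP (LK LD1_c5 LD2_c17 LD3_c23))))
theorem f46431 : Led Lsl_gt (LP (LK LD1_c5 LD2_c22 LD3_c13)) = (LP (LK LD1_c10 LD2_c30 LD3_c49)) :=
  Lre_g IH (LK LD1_c5 LD2_c22 LD3_c13) (LK LD1_c10 LD2_c30 LD3_c49) Lrfl Lrfl
theorem f43275 : Led Lsl_dt (LP (LK LD1_c9 LD2_c33 LD3_c21)) = (LP (LK LD1_c4 LD2_c50 LD3_c36)) :=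
  Lre_d IH (LK LD1_c9 LD2_c33 LD3_c21) (LK LD1_c4 LD2_c50 LD3_c36) Lrfl Lrfl
theorem f198929 : Led Lsl_af (LP (LK LD1_c9 LD2_c33 LD3_c21)) = (LP (LK LD1_c10 LD2_c33 LD3_c29)) :=
  Lgr Lrot117 (Lpr_dt (f43275 IH) (Lpr_at (K11.f198884 IH) (Lpe (K12.f198870 IH) (Lpn (LP (LK LD1_c10 LD2_c33 LD3_c29))))))
theorem f214308 : Led Lsl_ct (LP (LK LD1_c9 LD2_c56 LD3_c24)) = (LP (LK LD1_c10 LD2_c33 LD3_c29)) :=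
  Lgr Lrot111 (Lpe (K12.f214202 IH) (Lpr_cf (K12.f214306 IH) (Lpr_af (f198929 IH) (Lpn (LP (LK LD1_c10 LD2_c33 LD3_c29))))))
theorem f44345 : Led Lsl_gt (LP (LK LD1_c7 LD2_c57 LD3_c34)) = (LP (LK LD1_c15 LD2_c0 LD3_c45)) :=
  Lre_g IH (LK LD1_c7 LD2_c57 LD3_c34) (LK LD1_c15 LD2_c0 LD3_c45) Lrfl Lrfl
theorem f215613 : Led Lsl_gf (LP (LK LD1_c9 LD2_c56 LD3_c24)) = (LP (LK LD1_c15 LD2_c0 LD3_c45)) :=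
  Lgr Lrot76 (Lpe (K12.f214202 IH) (Lpr_ff (K12.f214328 IH) (Lpr_gt (f44345 IH) (Lpn (LP (LK LD1_c15 LD2_c0 LD3_c45))))))
theorem f215678 : Led Lsl_ct (LP (LK LD1_c10 LD2_c30 LD3_c49)) = (LP (LK LD1_c15 LD2_c0 LD3_c45)) :=
  Lgr Lrot152 (Lpe (f46431 IH) (Lpe (K1.f46409 IH) (Lpr_gt (K10.f9018 IH) (Lpr_ct (f187672 IH) (Lpr_gt (K11.f191755 IH) (Lpr_ct (K11.f194381 IH) (Lpr_df (K12.f215674 IH) (Lpe (f214308 IH) (Lpr_gf (f215613 IH) (Lpn (LP (LK LD1_c15 LD2_c0 LD3_c45))))))))))))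
theorem f27572 : Led Lsl_dt (LP (LK LD1_c4 LD2_c50 LD3_c37)) = (LP (LK LD1_c2 LD2_c23 LD3_c5)) :=
  Lre_d IH (LK LD1_c4 LD2_c50 LD3_c37) (LK LD1_c2 LD2_c23 LD3_c5) Lrfl Lrfl
theorem f182077 : Led Lsl_dt (LP (LK LD1_c2 LD2_c35 LD3_c24)) = (LP (LK LD1_c5 LD2_c17 LD3_c17)) :=
  Lre_d IH (LK LD1_c2 LD2_c35 LD3_c24) (LK LD1_c5 LD2_c17 LD3_c17) Lrfl Lrfl
theorem f192852 : Led Lsl_gf (LP (LK LD1_c0 LD2_c35 LD3_c9)) = (LP (LK LD1_c1 LD2_c12 LD3_c60)) :=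
  Lgr Lrot126 (Lpe (K1.f9071 IH) (Lpe (K1.f45807 IH) (Lpr_gt (K10.f192586 IH) (Lpr_ct (K10.f34624 IH) (Lpr_gt (K10.f34623 IH) (Lpe (K0.f34085 IH) (Lpr_bt (K10.f34622 IH) (Lpr_gt (K9.f21326 IH) (Lpe (K9.f34625 IH) (Lpr_ct (K9.f34626 IH) (Lpn (LP (LK LD1_c1 LD2_c12 LD3_c60)))))))))))))
theorem f182073 : Led Lsl_ct (LP (LK LD1_c2 LD2_c10 LD3_c45)) = (LP (LK LD1_c2 LD2_c35 LD3_c24)) :=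
  Lgr Lrot59 (Lpr_cf (K10.f182070 IH) (Lpn (LP (LK LD1_c2 LD2_c35 LD3_c24))))
theorem f165487 : Led Lsl_dt (LP (LK LD1_c2 LD2_c31 LD3_c53)) = (LP (LK LD1_c1 LD2_c12 LD3_c60)) :=
  Lre_d IH (LK LD1_c2 LD2_c31 LD3_c53) (LK LD1_c1 LD2_c12 LD3_c60) Lrfl Lrfl
theorem f183925 : Led Lsl_ct (LP (LK LD1_c2 LD2_c33 LD3_c28)) = (LP (LK LD1_c5 LD2_c13 LD3_c15)) :=
  Lre_c IH (LK LD1_c2 LD2_c33 LD3_c28) (LK LD1_c5 LD2_c13 LD3_c15) Lrfl Lrfl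
theorem f183926 : Led Lsl_gt (LP (LK LD1_c5 LD2_c13 LD3_c15)) = (LP (LK LD1_c10 LD2_c16 LD3_c49)) :=
  Lre_g IH (LK LD1_c5 LD2_c13 LD3_c15) (LK LD1_c10 LD2_c16 LD3_c49) Lrfl Lrfl
theorem f192859 : Led Lsl_cf (LP (LK LD1_c5 LD2_c17 LD3_c17)) = (LP (LK LD1_c10 LD2_c16 LD3_c49)) :=
  Lgr Lrot99 (Lpe (f182077 IH) (Lpe (f182073 IH) (Lpr_gf (K10.f46484 IH) (Lpe (K1.f45813 IH) (Lpr_gf (f192852 IH) (Lpe (f165487 IH) (Lpr_gt (K9.f183913 IH) (Lpr_ct (f183925 IH) (Lpr_gt (f183926 IH) (Lpn (LP (LK LD1_c10 LD2_c16 LD3_c49))))))))))))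
theorem f195950 : Led Lsl_dt (LP (LK LD1_c10 LD2_c30 LD3_c49)) = (LP (LK LD1_c10 LD2_c16 LD3_c49)) :=
  Lgr Lrot105 (Lpe (f46431 IH) (Lpe (K1.f46409 IH) (Lpe (K11.f46432 IH) (Lpr_cf (K11.f182585 IH) (Lpr_gt (K11.f195948 IH) (Lpr_dt (f27572 IH) (Lpe (K10.f191757 IH) (Lpr_dt (f182077 IH) (Lpr_cf (f192859 IH) (Lpn (LP (LK LD1_c10 LD2_c16 LD3_c49))))))))))))
theorem f196036 : Led Lsl_df (LP (LK LD1_c10 LD2_c30 LD3_c49)) = (LP (LK LD1_c10 LD2_c16 LD3_c49)) :=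
  Lgr Lrot38 (Lpr_dt (f195950 IH) (Lpn (LP (LK LD1_c10 LD2_c16 LD3_c49))))
theorem f192867 : Led Lsl_ct (LP (LK LD1_c5 LD2_c17 LD3_c17)) = (LP (LK LD1_c10 LD2_c16 LD3_c49)) :=
  Lgr Lrot59 (Lpr_cf (f192859 IH) (Lpn (LP (LK LD1_c10 LD2_c16 LD3_c49))))
theorem f44281 : Led Lsl_dt (LP (LK LD1_c4 LD2_c27 LD3_c8)) = (LP (LK LD1_c2 LD2_c10 LD3_c45)) :=
  Lre_d IH (LK LD1_c4 LD2_c27 LD3_c8) (LK LD1_c2 LD2_c10 LD3_c45) Lrfl Lrfl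
theorem f46489 : Led Lsl_ct (LP (LK LD1_c8 LD2_c51 LD3_c61)) = (LP (LK LD1_c4 LD2_c27 LD3_c8)) :=
  Lre_c IH (LK LD1_c8 LD2_c51 LD3_c61) (LK LD1_c4 LD2_c27 LD3_c8) Lrfl Lrfl
theorem f214439 : Led Lsl_ff (LP (LK LD1_c5 LD2_c9 LD3_c27)) = (LP (LK LD1_c3 LD2_c58 LD3_c4)) :=
  Lgr Lrot25 (Lpr_bt (f171651 IH) (Lpr_ft (K13.f214435 IH) (Lpr_bt (K13.f31498 IH) (Lpn (LP (LK LD1_c3 LD2_c58 LD3_c4))))))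
theorem f214131 : Led Lsl_at (LP (LK LD1_c5 LD2_c9 LD3_c27)) = (LP (LK LD1_c5 LD2_c2 LD3_c46)) :=
  Lgr Lrot107 (Lpe (K12.f171650 IH) (Lpr_af (K12.f214124 IH) (Lpe (f214130 IH) (Lpn (LP (LK LD1_c5 LD2_c2 LD3_c46))))))
theorem f31503 : Led Lsl_gt (LP (LK LD1_c3 LD2_c58 LD3_c4)) = (LP (LK LD1_c7 LD2_c57 LD3_c31)) :=
  Lre_g IH (LK LD1_c3 LD2_c58 LD3_c4) (LK LD1_c7 LD2_c57 LD3_c31) Lrfl Lrfl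
theorem f214787 : Led Lsl_gf (LP (LK LD1_c5 LD2_c2 LD3_c46)) = (LP (LK LD1_c7 LD2_c57 LD3_c31)) :=
  Lgr Lrot76 (Lpe (f214131 IH) (Lpr_ff (f214439 IH) (Lpr_gt (f31503 IH) (Lpn (LP (LK LD1_c7 LD2_c57 LD3_c31))))))
theorem f198888 : Led Lsl_ct (LP (LK LD1_c2 LD2_c28 LD3_c57)) = (LP (LK LD1_c5 LD2_c2 LD3_c46)) :=
  Lre_c IH (LK LD1_c2 LD2_c28 LD3_c57) (LK LD1_c5 LD2_c2 LD3_c46) Lrfl Lrfl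
theorem f192547 : Led Lsl_bf (LP (LK LD1_c4 LD2_c7 LD3_c36)) = (LP (LK LD1_c2 LD2_c28 LD3_c57)) :=
  Lgr Lrot93 (Lpr_dt (K8.f49560 IH) (Lpr_bt (K10.f192538 IH) (Lpr_dt (K12.f192546 IH) (Lpn (LP (LK LD1_c2 LD2_c28 LD3_c57))))))
theorem f32444 : Led Lsl_bt (LP (LK LD1_c1 LD2_c14 LD3_c40)) = (LP (LK LD1_c1 LD2_c14 LD3_c13)) :=
  Lgr Lrot127 (Lpr_bf (K2.f32423 IH) (Lpn (LP (LK LD1_c1 LD2_c14 LD3_c13))))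
theorem f32318 : Led Lsl_gt (LP (LK LD1_c1 LD2_c14 LD3_c13)) = (LP (LK LD1_c2 LD2_c34 LD3_c24)) :=
  Lre_g IH (LK LD1_c1 LD2_c14 LD3_c13) (LK LD1_c2 LD2_c34 LD3_c24) Lrfl Lrfl
theorem f27558 : Led Lsl_bt (LP (LK LD1_c2 LD2_c23 LD3_c5)) = (LP (LK LD1_c1 LD2_c8 LD3_c42)) :=
  Lre_b IH (LK LD1_c2 LD2_c23 LD3_c5) (LK LD1_c1 LD2_c8 LD3_c42) Lrfl Lrfl
theorem f192544 : Led Lsl_cf (LP (LK LD1_c2 LD2_c23 LD3_c5)) = (LP (LK LD1_c1 LD2_c11 LD3_c37)) :=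
  Lgr Lrot97 (Lpr_bt (f27558 IH) (Lpr_ct (K10.f50931 IH) (Lpr_bt (K10.f50376 IH) (Lpr_ct (K9.f49604 IH) (Lpr_bt (K10.f192538 IH) (Lpn (LP (LK LD1_c1 LD2_c11 LD3_c37))))))))
theorem f27552 : Led Lsl_ft (LP (LK LD1_c0 LD2_c31 LD3_c25)) = (LP (LK LD1_c1 LD2_c8 LD3_c42)) :=
  Lre_f IH (LK LD1_c0 LD2_c31 LD3_c25) (LK LD1_c1 LD2_c8 LD3_c42) Lrfl Lrfl
theorem f27553 : Led Lsl_ef (LP (LK LD1_c1 LD2_c8 LD3_c42)) = (LP (LK LD1_c1 LD2_c8 LD3_c42)) :=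
  Lgr Lrot21 (Lpr_ft (K0.f27551 IH) (Lpr_et (K9.f1613 IH) (Lpr_ft (K0.f27547 IH) (Lpr_et (K0.f27544 IH) (Lpr_ft (f27552 IH) (Lpn (LP (LK LD1_c1 LD2_c8 LD3_c42))))))))
theorem f27559 : Led Lsl_et (LP (LK LD1_c2 LD2_c23 LD3_c5)) = (LP (LK LD1_c2 LD2_c23 LD3_c5)) :=
  Lgr Lrot74 (Lpe (K10.f27557 IH) (Lpr_ef (f27553 IH) (Lpe (f27558 IH) (Lpn (LP (LK LD1_c2 LD2_c23 LD3_c5))))))
theorem f192553 : Led Lsl_ct (LP (LK LD1_c2 LD2_c23 LD3_c5)) = (LP (LK LD1_c1 LD2_c11 LD3_c37)) :=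
  Lgr Lrot15 (Lpe (f27559 IH) (Lpr_cf (f192544 IH) (Lpr_ef (K10.f192549 IH) (Lpn (LP (LK LD1_c1 LD2_c11 LD3_c37))))))
theorem f179068 : Led Lsl_ct (LP (LK LD1_c2 LD2_c10 LD3_c44)) = (LP (LK LD1_c2 LD2_c0 LD3_c29)) :=
  Lgr Lrot59 (Lpr_cf (K9.f179063 IH) (Lpn (LP (LK LD1_c2 LD2_c0 LD3_c29))))
theorem f44239 : Led Lsl_gt (LP (LK LD1_c2 LD2_c10 LD3_c46)) = (LP (LK LD1_c4 LD2_c27 LD3_c9)) :=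
  Lre_g IH (LK LD1_c2 LD2_c10 LD3_c46) (LK LD1_c4 LD2_c27 LD3_c9) Lrfl Lrfl
theorem f214790 : Led Lsl_ct (LP (LK LD1_c4 LD2_c27 LD3_c9)) = (LP (LK LD1_c7 LD2_c57 LD3_c31)) :=
  Lgr Lrot152 (Lpe (f44239 IH) (Lpe (K10.f44279 IH) (Lpr_gt (K9.f44245 IH) (Lpr_ct (f179068 IH) (Lpr_gt (K10.f191011 IH) (Lpr_ct (f192553 IH) (Lpe (K12.f192556 IH) (Lpe (f214130 IH) (Lpr_gf (f214787 IH) (Lpn (LP (LK LD1_c7 LD2_c57 LD3_c31))))))))))))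
theorem f214794 : Led Lsl_bf (LP (LK LD1_c2 LD2_c34 LD3_c24)) = (LP (LK LD1_c4 LD2_c27 LD3_c9)) :=
  Lgr Lrot34 (Lpe (f32318 IH) (Lpe (f32444 IH) (Lpr_ct (K2.f32446 IH) (Lpe (K10.f32500 IH) (Lpr_cf (K10.f184183 IH) (Lpe (K10.f49558 IH) (Lpr_bf (f192547 IH) (Lpr_ct (f198888 IH) (Lpr_gf (f214787 IH) (Lpe (f214790 IH) (Lpn (LP (LK LD1_c4 LD2_c27 LD3_c9)))))))))))))
theorem f214797 : Led Lsl_bt (LP (LK LD1_c2 LD2_c34 LD3_c24)) = (LP (LK LD1_c4 LD2_c27 LD3_c9)) :=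
  Lgr Lrot127 (Lpr_bf (f214794 IH) (Lpn (LP (LK LD1_c4 LD2_c27 LD3_c9))))
theorem f214828 : Led Lsl_ct (LP (LK LD1_c5 LD2_c15 LD3_c4)) = (LP (LK LD1_c2 LD2_c34 LD3_c24)) :=
  Lre_c IH (LK LD1_c5 LD2_c15 LD3_c4) (LK LD1_c2 LD2_c34 LD3_c24) Lrfl Lrfl
theorem f214829 : Led Lsl_bt (LP (LK LD1_c10 LD2_c19 LD3_c35)) = (LP (LK LD1_c5 LD2_c15 LD3_c4)) :=
  Lre_b IH (LK LD1_c10 LD2_c19 LD3_c35) (LK LD1_c5 LD2_c15 LD3_c4) Lrfl Lrfl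
theorem f214830 : Led Lsl_bt (LP (LK LD1_c7 LD2_c57 LD3_c31)) = (LP (LK LD1_c15 LD2_c0 LD3_c35)) :=
  Lre_b IH (LK LD1_c7 LD2_c57 LD3_c31) (LK LD1_c15 LD2_c0 LD3_c35) Lrfl Lrfl
theorem f214831 : Led Lsl_cf (LP (LK LD1_c10 LD2_c19 LD3_c35)) = (LP (LK LD1_c15 LD2_c0 LD3_c35)) :=
  Lgr Lrot97 (Lpr_bt (f214829 IH) (Lpr_ct (f214828 IH) (Lpr_bt (f214797 IH) (Lpr_ct (f214790 IH) (Lpr_bt (f214830 IH) (Lpn (LP (LK LD1_c15 LD2_c0 LD3_c35))))))))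
theorem f214849 : Led Lsl_et (LP (LK LD1_c10 LD2_c19 LD3_c35)) = (LP (LK LD1_c18 LD2_c44 LD3_c52)) :=
  Lre_e IH (LK LD1_c10 LD2_c19 LD3_c35) (LK LD1_c18 LD2_c44 LD3_c52) Lrfl Lrfl
theorem f214850 : Led Lsl_et (LP (LK LD1_c24 LD2_c47 LD3_c60)) = (LP (LK LD1_c15 LD2_c0 LD3_c35)) :=
  Lre_e IH (LK LD1_c24 LD2_c47 LD3_c60) (LK LD1_c15 LD2_c0 LD3_c35) Lrfl Lrfl
theorem f214851 : Led Lsl_ct (LP (LK LD1_c18 LD2_c44 LD3_c52)) = (LP (LK LD1_c24 LD2_c47 LD3_c60)) :=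
  Lgr Lrot15 (Lpe (f214849 IH) (Lpr_cf (f214831 IH) (Lpe (f214850 IH) (Lpn (LP (LK LD1_c24 LD2_c47 LD3_c60))))))
theorem f214894 : Led Lsl_cf (LP (LK LD1_c18 LD2_c44 LD3_c52)) = (LP (LK LD1_c24 LD2_c47 LD3_c60)) :=
  Lgr Lrot11 (Lpr_ct (f214851 IH) (Lpn (LP (LK LD1_c24 LD2_c47 LD3_c60))))
theorem f214806 : Led Lsl_bt (LP (LK LD1_c18 LD2_c44 LD3_c52)) = (LP (LK LD1_c10 LD2_c19 LD3_c37)) :=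
  Lre_b IH (LK LD1_c18 LD2_c44 LD3_c52) (LK LD1_c10 LD2_c19 LD3_c37) Lrfl Lrfl
theorem f214805 : Led Lsl_ct (LP (LK LD1_c10 LD2_c19 LD3_c37)) = (LP (LK LD1_c5 LD2_c15 LD3_c5)) :=
  Lre_c IH (LK LD1_c10 LD2_c19 LD3_c37) (LK LD1_c5 LD2_c15 LD3_c5) Lrfl Lrfl
theorem f214800 : Led Lsl_et (LP (LK LD1_c2 LD2_c34 LD3_c24)) = (LP (LK LD1_c5 LD2_c15 LD3_c5)) :=
  Lre_e IH (LK LD1_c2 LD2_c34 LD3_c24) (LK LD1_c5 LD2_c15 LD3_c5) Lrfl Lrfl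
theorem f44240 : Led Lsl_et (LP (LK LD1_c8 LD2_c52 LD3_c1)) = (LP (LK LD1_c4 LD2_c27 LD3_c9)) :=
  Lre_e IH (LK LD1_c8 LD2_c52 LD3_c1) (LK LD1_c4 LD2_c27 LD3_c9) Lrfl Lrfl
theorem f214801 : Led Lsl_bt (LP (LK LD1_c5 LD2_c15 LD3_c5)) = (LP (LK LD1_c8 LD2_c52 LD3_c1)) :=
  Lgr Lrot119 (Lpe (f214800 IH) (Lpr_bf (f214794 IH) (Lpe (f44240 IH) (Lpn (LP (LK LD1_c8 LD2_c52 LD3_c1))))))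
theorem f214905 : Led Lsl_bt (LP (LK LD1_c15 LD2_c0 LD3_c37)) = (LP (LK LD1_c24 LD2_c47 LD3_c60)) :=
  Lre_b IH (LK LD1_c15 LD2_c0 LD3_c37) (LK LD1_c24 LD2_c47 LD3_c60) Lrfl Lrfl
theorem f214906 : Led Lsl_ct (LP (LK LD1_c8 LD2_c52 LD3_c1)) = (LP (LK LD1_c15 LD2_c0 LD3_c37)) :=
  Lgr Lrot83 (Lpe (f214801 IH) (Lpe (f214805 IH) (Lpe (f214806 IH) (Lpr_cf (f214894 IH) (Lpe (f214905 IH) (Lpn (LP (LK LD1_c15 LD2_c0 LD3_c37))))))))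
theorem f214826 : Led Lsl_et (LP (LK LD1_c4 LD2_c27 LD3_c9)) = (LP (LK LD1_c8 LD2_c52 LD3_c1)) :=
  Lre_e IH (LK LD1_c4 LD2_c27 LD3_c9) (LK LD1_c8 LD2_c52 LD3_c1) Lrfl Lrfl
theorem f44461 : Led Lsl_et (LP (LK LD1_c15 LD2_c0 LD3_c37)) = (LP (LK LD1_c7 LD2_c57 LD3_c31)) :=
  Lre_e IH (LK LD1_c15 LD2_c0 LD3_c37) (LK LD1_c7 LD2_c57 LD3_c31) Lrfl Lrfl
theorem f214914 : Led Lsl_cf (LP (LK LD1_c4 LD2_c27 LD3_c9)) = (LP (LK LD1_c7 LD2_c57 LD3_c31)) :=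
  Lgr Lrot39 (Lpr_et (f214826 IH) (Lpr_ct (f214906 IH) (Lpr_et (f44461 IH) (Lpn (LP (LK LD1_c7 LD2_c57 LD3_c31))))))
theorem f46397 : Led Lsl_gt (LP (LK LD1_c4 LD2_c27 LD3_c9)) = (LP (LK LD1_c2 LD2_c37 LD3_c18)) :=
  Lgr Lrot46 (Lpe (f44239 IH) (Lpr_ft (K1.f44235 IH) (Lpr_at (K1.f46387 IH) (Lpn (LP (LK LD1_c2 LD2_c37 LD3_c18))))))
theorem f46447 : Led Lsl_dt (LP (LK LD1_c2 LD2_c10 LD3_c45)) = (LP (LK LD1_c4 LD2_c27 LD3_c8)) :=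
  Lre_d IH (LK LD1_c2 LD2_c10 LD3_c45) (LK LD1_c4 LD2_c27 LD3_c8) Lrfl Lrfl
theorem f46488 : Led Lsl_ct (LP (LK LD1_c4 LD2_c27 LD3_c8)) = (LP (LK LD1_c8 LD2_c51 LD3_c61)) :=
  Lre_c IH (LK LD1_c4 LD2_c27 LD3_c8) (LK LD1_c8 LD2_c51 LD3_c61) Lrfl Lrfl
theorem f31519 : Led Lsl_gt (LP (LK LD1_c15 LD2_c0 LD3_c46)) = (LP (LK LD1_c7 LD2_c57 LD3_c34)) :=
  Lre_g IH (LK LD1_c15 LD2_c0 LD3_c46) (LK LD1_c7 LD2_c57 LD3_c34) Lrfl Lrfl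
theorem f214334 : Led Lsl_gt (LP (LK LD1_c9 LD2_c56 LD3_c24)) = (LP (LK LD1_c15 LD2_c0 LD3_c46)) :=
  Lgr Lrot5 (Lpr_ft (K12.f214326 IH) (Lpe (K12.f43858 IH) (Lpe (f31519 IH) (Lpn (LP (LK LD1_c15 LD2_c0 LD3_c46))))))
theorem f214918 : Led Lsl_df (LP (LK LD1_c8 LD2_c51 LD3_c61)) = (LP (LK LD1_c15 LD2_c0 LD3_c46)) :=
  Lgr Lrot84 (Lpe (f46488 IH) (Lpe (f46447 IH) (Lpr_gf (K10.f46484 IH) (Lpe (K1.f45816 IH) (Lpe (f46397 IH) (Lpr_cf (f214914 IH) (Lpe (f214787 IH) (Lpr_dt (K13.f198889 IH) (Lpr_gt (f214334 IH) (Lpn (LP (LK LD1_c15 LD2_c0 LD3_c46))))))))))))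
theorem f31499 : Led Lsl_gt (LP (LK LD1_c7 LD2_c57 LD3_c32)) = (LP (LK LD1_c3 LD2_c58 LD3_c4)) :=
  Lre_g IH (LK LD1_c7 LD2_c57 LD3_c32) (LK LD1_c3 LD2_c58 LD3_c4) Lrfl Lrfl
theorem f191763 : Led Lsl_ct (LP (LK LD1_c4 LD2_c21 LD3_c9)) = (LP (LK LD1_c7 LD2_c57 LD3_c32)) :=
  Lgr Lrot152 (Lpr_gf (K10.f46405 IH) (Lpe (K10.f45985 IH) (Lpe (K10.f46484 IH) (Lpr_ct (f182073 IH) (Lpr_gt (K13.f191759 IH) (Lpr_ct (K9.f31463 IH) (Lpe (K1.f31465 IH) (Lpe (K12.f31509 IH) (Lpe (f31499 IH) (Lpn (LP (LK LD1_c7 LD2_c57 LD3_c32))))))))))))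
theorem f43899 : Led Lsl_dt (LP (LK LD1_c3 LD2_c58 LD3_c4)) = (LP (LK LD1_c7 LD2_c57 LD3_c34)) :=
  Lre_d IH (LK LD1_c3 LD2_c58 LD3_c4) (LK LD1_c7 LD2_c57 LD3_c34) Lrfl Lrfl
theorem f191787 : Led Lsl_df (LP (LK LD1_c8 LD2_c51 LD3_c60)) = (LP (LK LD1_c15 LD2_c0 LD3_c45)) :=
  Lgr Lrot174 (Lpr_ct (K12.f45749 IH) (Lpe (K9.f44246 IH) (Lpe (K9.f44245 IH) (Lpe (K1.f44229 IH) (Lpr_gf (K10.f45744 IH) (Lpr_ct (f191763 IH) (Lpr_gt (f31499 IH) (Lpr_dt (f43899 IH) (Lpr_gt (f44345 IH) (Lpn (LP (LK LD1_c15 LD2_c0 LD3_c45))))))))))))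
theorem f44285 : Led Lsl_dt (LP (LK LD1_c4 LD2_c27 LD3_c7)) = (LP (LK LD1_c2 LD2_c10 LD3_c44)) :=
  Lre_d IH (LK LD1_c4 LD2_c27 LD3_c7) (LK LD1_c2 LD2_c10 LD3_c44) Lrfl Lrfl
theorem f179075 : Led Lsl_dt (LP (LK LD1_c2 LD2_c0 LD3_c29)) = (LP (LK LD1_c4 LD2_c6 LD3_c17)) :=
  Lre_d IH (LK LD1_c2 LD2_c0 LD3_c29) (LK LD1_c4 LD2_c6 LD3_c17) Lrfl Lrfl
theorem f179076 : Led Lsl_ct (LP (LK LD1_c4 LD2_c6 LD3_c17)) = (LP (LK LD1_c8 LD2_c13 LD3_c11)) :=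
  Lre_c IH (LK LD1_c4 LD2_c6 LD3_c17) (LK LD1_c8 LD2_c13 LD3_c11) Lrfl Lrfl
theorem f46444 : Led Lsl_dt (LP (LK LD1_c2 LD2_c36 LD3_c49)) = (LP (LK LD1_c5 LD2_c20 LD3_c22)) :=
  Lre_d IH (LK LD1_c2 LD2_c36 LD3_c49) (LK LD1_c5 LD2_c20 LD3_c22) Lrfl Lrfl
theorem f182755 : Led Lsl_gt (LP (LK LD1_c5 LD2_c20 LD3_c22)) = (LP (LK LD1_c10 LD2_c30 LD3_c48)) :=
  Lre_g IH (LK LD1_c5 LD2_c20 LD3_c22) (LK LD1_c10 LD2_c30 LD3_c48) Lrfl Lrfl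
theorem f179071 : Led Lsl_ct (LP (LK LD1_c8 LD2_c13 LD3_c11)) = (LP (LK LD1_c4 LD2_c6 LD3_c17)) :=
  Lre_c IH (LK LD1_c8 LD2_c13 LD3_c11) (LK LD1_c4 LD2_c6 LD3_c17) Lrfl Lrfl
theorem f191827 : Led Lsl_dt (LP (LK LD1_c10 LD2_c30 LD3_c48)) = (LP (LK LD1_c8 LD2_c13 LD3_c11)) :=
  Lgr Lrot105 (Lpe (f182755 IH) (Lpe (f46444 IH) (Lpe (K10.f46449 IH) (Lpr_cf (K10.f187665 IH) (Lpr_gt (K11.f191755 IH) (Lpr_dt (K10.f31469 IH) (Lpe (K10.f183711 IH) (Lpr_dt (f179075 IH) (Lpe (f179071 IH) (Lpn (LP (LK LD1_c8 LD2_c13 LD3_c11))))))))))))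
theorem f191933 : Led Lsl_df (LP (LK LD1_c10 LD2_c30 LD3_c48)) = (LP (LK LD1_c8 LD2_c13 LD3_c11)) :=
  Lgr Lrot38 (Lpr_dt (f191827 IH) (Lpn (LP (LK LD1_c8 LD2_c13 LD3_c11))))
theorem f215688 : Led Lsl_cf (LP (LK LD1_c15 LD2_c0 LD3_c46)) = (LP (LK LD1_c10 LD2_c30 LD3_c48)) :=
  Lgr Lrot55 (Lpe (f214918 IH) (Lpr_ct (f46489 IH) (Lpr_dt (f44281 IH) (Lpr_ct (f182073 IH) (Lpr_dt (f182077 IH) (Lpr_ct (f192867 IH) (Lpe (f196036 IH) (Lpr_ct (f215678 IH) (Lpe (f191787 IH) (Lpr_ct (K12.f45749 IH) (Lpr_dt (f44285 IH) (Lpr_ct (f179068 IH) (Lpr_dt (f179075 IH) (Lpr_ct (f179076 IH) (Lpe (f191933 IH) (Lpn (LP (LK LD1_c10 LD2_c30 LD3_c48))))))))))))))))))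
theorem f215695 : Led Lsl_ct (LP (LK LD1_c15 LD2_c0 LD3_c46)) = (LP (LK LD1_c10 LD2_c30 LD3_c48)) :=
  Lgr Lrot59 (Lpr_cf (f215688 IH) (Lpn (LP (LK LD1_c10 LD2_c30 LD3_c48))))
theorem f214233 : Led Lsl_dt (LP (LK LD1_c9 LD2_c56 LD3_c24)) = (LP (LK LD1_c5 LD2_c2 LD3_c46)) :=
  Lre_d IH (LK LD1_c9 LD2_c56 LD3_c24) (LK LD1_c5 LD2_c2 LD3_c46) Lrfl Lrfl
theorem f46434 : Led Lsl_gt (LP (LK LD1_c10 LD2_c30 LD3_c48)) = (LP (LK LD1_c5 LD2_c22 LD3_c13)) :=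
  Lre_g IH (LK LD1_c10 LD2_c30 LD3_c48) (LK LD1_c5 LD2_c22 LD3_c13) Lrfl Lrfl
theorem f191781 : Led Lsl_cf (LP (LK LD1_c4 LD2_c21 LD3_c9)) = (LP (LK LD1_c7 LD2_c57 LD3_c32)) :=
  Lgr Lrot11 (Lpr_ct (f191763 IH) (Lpn (LP (LK LD1_c7 LD2_c57 LD3_c32))))
theorem f215724 : Led Lsl_gt (LP (LK LD1_c5 LD2_c2 LD3_c46)) = (LP (LK LD1_c7 LD2_c57 LD3_c32)) :=
  Lgr Lrot9 (Lpe (f214233 IH) (Lpr_gt (f214334 IH) (Lpr_ct (f215695 IH) (Lpr_gt (f46434 IH) (Lpe (K1.f46410 IH) (Lpe (K1.f44218 IH) (Lpe (K1.f44223 IH) (Lpr_gf (K10.f45744 IH) (Lpr_cf (f191781 IH) (Lpn (LP (LK LD1_c7 LD2_c57 LD3_c32))))))))))))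
theorem f214223 : Led Lsl_et (LP (LK LD1_c27 LD2_c51 LD3_c28)) = (LP (LK LD1_c18 LD2_c11 LD3_c16)) :=
  Lre_e IH (LK LD1_c27 LD2_c51 LD3_c28) (LK LD1_c18 LD2_c11 LD3_c16) Lrfl Lrfl
theorem f188478 : Led Lsl_et (LP (LK LD1_c18 LD2_c54 LD3_c19)) = (LP (LK LD1_c28 LD2_c22 LD3_c5)) :=
  Lre_e IH (LK LD1_c18 LD2_c54 LD3_c19) (LK LD1_c28 LD2_c22 LD3_c5) Lrfl Lrfl
theorem f214518 : Led Lsl_cf (LP (LK LD1_c27 LD2_c51 LD3_c28)) = (LP (LK LD1_c28 LD2_c22 LD3_c5)) :=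
  Lgr Lrot39 (Lpr_et (f214223 IH) (Lpr_ct (K13.f214483 IH) (Lpr_et (f188478 IH) (Lpn (LP (LK LD1_c28 LD2_c22 LD3_c5))))))
theorem f214522 : Led Lsl_ct (LP (LK LD1_c27 LD2_c51 LD3_c28)) = (LP (LK LD1_c28 LD2_c22 LD3_c5)) :=
  Lgr Lrot59 (Lpr_cf (f214518 IH) (Lpn (LP (LK LD1_c28 LD2_c22 LD3_c5))))
theorem f214263 : Led Lsl_at (LP (LK LD1_c18 LD2_c11 LD3_c18)) = (LP (LK LD1_c27 LD2_c51 LD3_c28)) :=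
  Lre_a IH (LK LD1_c18 LD2_c11 LD3_c18) (LK LD1_c27 LD2_c51 LD3_c28) Lrfl Lrfl
theorem f214525 : Led Lsl_at (LP (LK LD1_c28 LD2_c22 LD3_c5)) = (LP (LK LD1_c18 LD2_c54 LD3_c20)) :=
  Lre_a IH (LK LD1_c28 LD2_c22 LD3_c5) (LK LD1_c18 LD2_c54 LD3_c20) Lrfl Lrfl
theorem f214526 : Led Lsl_cf (LP (LK LD1_c18 LD2_c11 LD3_c18)) = (LP (LK LD1_c18 LD2_c54 LD3_c20)) :=
  Lgr Lrot1 (Lpr_at (f214263 IH) (Lpr_ct (f214522 IH) (Lpr_at (f214525 IH) (Lpn (LP (LK LD1_c18 LD2_c54 LD3_c20))))))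
theorem f214528 : Led Lsl_et (LP (LK LD1_c18 LD2_c11 LD3_c18)) = (LP (LK LD1_c9 LD2_c56 LD3_c23)) :=
  Lre_e IH (LK LD1_c18 LD2_c11 LD3_c18) (LK LD1_c9 LD2_c56 LD3_c23) Lrfl Lrfl
theorem f214529 : Led Lsl_ct (LP (LK LD1_c9 LD2_c56 LD3_c23)) = (LP (LK LD1_c10 LD2_c25 LD3_c13)) :=
  Lgr Lrot15 (Lpe (f214528 IH) (Lpr_cf (f214526 IH) (Lpe (K13.f188439 IH) (Lpn (LP (LK LD1_c10 LD2_c25 LD3_c13))))))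
theorem f188454 : Led Lsl_gt (LP (LK LD1_c18 LD2_c54 LD3_c18)) = (LP (LK LD1_c10 LD2_c25 LD3_c13)) :=
  Lre_g IH (LK LD1_c18 LD2_c54 LD3_c18) (LK LD1_c10 LD2_c25 LD3_c13) Lrfl Lrfl
theorem f44250 : Led Lsl_gt (LP (LK LD1_c8 LD2_c52 LD3_c2)) = (LP (LK LD1_c16 LD2_c34 LD3_c45)) :=
  Lre_g IH (LK LD1_c8 LD2_c52 LD3_c2) (LK LD1_c16 LD2_c34 LD3_c45) Lrfl Lrfl
theorem f45751 : Led Lsl_bt (LP (LK LD1_c26 LD2_c32 LD3_c11)) = (LP (LK LD1_c16 LD2_c34 LD3_c45)) :=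
  Lre_b IH (LK LD1_c26 LD2_c32 LD3_c11) (LK LD1_c16 LD2_c34 LD3_c45) Lrfl Lrfl
theorem f215732 : Led Lsl_cf (LP (LK LD1_c18 LD2_c54 LD3_c18)) = (LP (LK LD1_c26 LD2_c32 LD3_c11)) :=
  Lgr Lrot160 (Lpr_gt (f188454 IH) (Lpe (f214529 IH) (Lpr_bt (f214226 IH) (Lpr_gt (f215724 IH) (Lpe (f191781 IH) (Lpe (K10.f45744 IH) (Lpe (K1.f44217 IH) (Lpr_bt (K1.f44210 IH) (Lpr_gt (f44250 IH) (Lpe (f45751 IH) (Lpn (LP (LK LD1_c26 LD2_c32 LD3_c11)))))))))))))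
theorem f45034 : Led Lsl_at (LP (LK LD1_c8 LD2_c15 LD3_c8)) = (LP (LK LD1_c15 LD2_c31 LD3_c2)) :=
  Lre_a IH (LK LD1_c8 LD2_c15 LD3_c8) (LK LD1_c15 LD2_c31 LD3_c2) Lrfl Lrfl
theorem f188456 : Led Lsl_ff (LP (LK LD1_c18 LD2_c54 LD3_c19)) = (LP (LK LD1_c15 LD2_c31 LD3_c2)) :=
  Lgr Lrot30 (Lpr_at (K13.f188455 IH) (Lpr_ft (K13.f188450 IH) (Lpr_at (f45034 IH) (Lpn (LP (LK LD1_c15 LD2_c31 LD3_c2))))))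
theorem f188479 : Led Lsl_gf (LP (LK LD1_c18 LD2_c54 LD3_c18)) = (LP (LK LD1_c15 LD2_c31 LD3_c2)) :=
  Lgr Lrot47 (Lpr_gt (f188454 IH) (Lpe (K13.f188455 IH) (Lpr_ff (f188456 IH) (Lpn (LP (LK LD1_c15 LD2_c31 LD3_c2))))))
theorem f171652 : Led Lsl_gt (LP (LK LD1_c10 LD2_c9 LD3_c37)) = (LP (LK LD1_c18 LD2_c30 LD3_c29)) :=
  Lre_g IH (LK LD1_c10 LD2_c9 LD3_c37) (LK LD1_c18 LD2_c30 LD3_c29) Lrfl Lrfl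
theorem f31505 : Led Lsl_at (LP (LK LD1_c7 LD2_c57 LD3_c33)) = (LP (LK LD1_c15 LD2_c0 LD3_c43)) :=
  Lre_a IH (LK LD1_c7 LD2_c57 LD3_c33) (LK LD1_c15 LD2_c0 LD3_c43) Lrfl Lrfl
theorem f214446 : Led Lsl_gt (LP (LK LD1_c18 LD2_c30 LD3_c29)) = (LP (LK LD1_c15 LD2_c0 LD3_c43)) :=
  Lgr Lrot46 (Lpe (f171652 IH) (Lpr_ft (K13.f214435 IH) (Lpr_at (f31505 IH) (Lpn (LP (LK LD1_c15 LD2_c0 LD3_c43))))))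
theorem f165247 : Led Lsl_ct (LP (LK LD1_c2 LD2_c32 LD3_c19)) = (LP (LK LD1_c1 LD2_c13 LD3_c9)) :=
  Lre_c IH (LK LD1_c2 LD2_c32 LD3_c19) (LK LD1_c1 LD2_c13 LD3_c9) Lrfl Lrfl
theorem f44222 : Led Lsl_bt (LP (LK LD1_c8 LD2_c52 LD3_c2)) = (LP (LK LD1_c4 LD2_c27 LD3_c10)) :=
  Lre_b IH (LK LD1_c8 LD2_c52 LD3_c2) (LK LD1_c4 LD2_c27 LD3_c10) Lrfl Lrfl
theorem f44180 : Led Lsl_ct (LP (LK LD1_c8 LD2_c52 LD3_c2)) = (LP (LK LD1_c4 LD2_c27 LD3_c18)) :=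
  Lre_c IH (LK LD1_c8 LD2_c52 LD3_c2) (LK LD1_c4 LD2_c27 LD3_c18) Lrfl Lrfl
theorem f44205 : Led Lsl_gt (LP (LK LD1_c8 LD2_c52 LD3_c22)) = (LP (LK LD1_c4 LD2_c27 LD3_c18)) :=
  Lre_g IH (LK LD1_c8 LD2_c52 LD3_c22) (LK LD1_c4 LD2_c27 LD3_c18) Lrfl Lrfl
theorem f190731 : Led Lsl_ct (LP (LK LD1_c16 LD2_c35 LD3_c24)) = (LP (LK LD1_c8 LD2_c52 LD3_c22)) :=
  Lre_c IH (LK LD1_c16 LD2_c35 LD3_c24) (LK LD1_c8 LD2_c52 LD3_c22) Lrfl Lrfl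
theorem f214281 : Led Lsl_bf (LP (LK LD1_c18 LD2_c30 LD3_c29)) = (LP (LK LD1_c16 LD2_c35 LD3_c24)) :=
  Lgr Lrot34 (Lpe (f171652 IH) (Lpe (f171651 IH) (Lpr_ct (K12.f214102 IH) (Lpr_gf (K12.f214272 IH) (Lpe (f165247 IH) (Lpe (K10.f192927 IH) (Lpe (f44222 IH) (Lpr_ct (f44180 IH) (Lpe (f44205 IH) (Lpe (f190731 IH) (Lpn (LP (LK LD1_c16 LD2_c35 LD3_c24)))))))))))))
theorem f47314 : Led Lsl_gt (LP (LK LD1_c16 LD2_c35 LD3_c18)) = (LP (LK LD1_c8 LD2_c52 LD3_c22)) :=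
  Lre_g IH (LK LD1_c16 LD2_c35 LD3_c18) (LK LD1_c8 LD2_c52 LD3_c22) Lrfl Lrfl
theorem f46422 : Led Lsl_ct (LP (LK LD1_c5 LD2_c22 LD3_c11)) = (LP (LK LD1_c2 LD2_c37 LD3_c35)) :=
  Lre_c IH (LK LD1_c5 LD2_c22 LD3_c11) (LK LD1_c2 LD2_c37 LD3_c35) Lrfl Lrfl
theorem f190653 : Led Lsl_df (LP (LK LD1_c5 LD2_c22 LD3_c11)) = (LP (LK LD1_c5 LD2_c3 LD3_c44)) :=
  Lgr Lrot157 (Lpr_ct (f46422 IH) (Lpr_dt (f46459 IH) (Lpr_ct (K12.f46458 IH) (Lpr_dt (K12.f46457 IH) (Lpr_ct (K10.f44632 IH) (Lpr_dt (K10.f43960 IH) (Lpr_ct (K10.f43931 IH) (Lpe (K10.f46401 IH) (Lpr_ff (K10.f190623 IH) (Lpn (LP (LK LD1_c5 LD2_c3 LD3_c44))))))))))))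
theorem f46492 : Led Lsl_bt (LP (LK LD1_c5 LD2_c22 LD3_c11)) = (LP (LK LD1_c10 LD2_c34 LD3_c52)) :=
  Lre_b IH (LK LD1_c5 LD2_c22 LD3_c11) (LK LD1_c10 LD2_c34 LD3_c52) Lrfl Lrfl
theorem f190655 : Led Lsl_dt (LP (LK LD1_c10 LD2_c34 LD3_c52)) = (LP (LK LD1_c9 LD2_c58 LD3_c18)) :=
  Lgr Lrot79 (Lpe (f46492 IH) (Lpr_df (f190653 IH) (Lpe (f189450 IH) (Lpn (LP (LK LD1_c9 LD2_c58 LD3_c18))))))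
theorem f46421 : Led Lsl_ft (LP (LK LD1_c2 LD2_c37 LD3_c35)) = (LP (LK LD1_c5 LD2_c22 LD3_c13)) :=
  Lre_f IH (LK LD1_c2 LD2_c37 LD3_c35) (LK LD1_c5 LD2_c22 LD3_c13) Lrfl Lrfl
theorem f46423 : Led Lsl_ft (LP (LK LD1_c8 LD2_c52 LD3_c3)) = (LP (LK LD1_c5 LD2_c22 LD3_c11)) :=
  Lgr Lrot4 (Lpr_cf (K1.f46410 IH) (Lpe (f46421 IH) (Lpe (f46422 IH) (Lpn (LP (LK LD1_c5 LD2_c22 LD3_c11))))))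
theorem f46496 : Led Lsl_ff (LP (LK LD1_c8 LD2_c52 LD3_c3)) = (LP (LK LD1_c5 LD2_c22 LD3_c11)) :=
  Lgr Lrot3 (Lpr_ft (f46423 IH) (Lpn (LP (LK LD1_c5 LD2_c22 LD3_c11))))
theorem f46416 : Led Lsl_bt (LP (LK LD1_c8 LD2_c52 LD3_c3)) = (LP (LK LD1_c16 LD2_c34 LD3_c47)) :=
  Lre_b IH (LK LD1_c8 LD2_c52 LD3_c3) (LK LD1_c16 LD2_c34 LD3_c47) Lrfl Lrfl
theorem f46498 : Led Lsl_bt (LP (LK LD1_c10 LD2_c34 LD3_c52)) = (LP (LK LD1_c5 LD2_c22 LD3_c11)) :=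
  Lre_b IH (LK LD1_c10 LD2_c34 LD3_c52) (LK LD1_c5 LD2_c22 LD3_c11) Lrfl Lrfl
theorem f46499 : Led Lsl_ft (LP (LK LD1_c16 LD2_c34 LD3_c47)) = (LP (LK LD1_c10 LD2_c34 LD3_c52)) :=
  Lgr Lrot75 (Lpe (f46416 IH) (Lpr_ff (f46496 IH) (Lpe (f46498 IH) (Lpn (LP (LK LD1_c10 LD2_c34 LD3_c52))))))
theorem f44214 : Led Lsl_dt (LP (LK LD1_c8 LD2_c52 LD3_c2)) = (LP (LK LD1_c16 LD2_c34 LD3_c47)) :=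
  Lre_d IH (LK LD1_c8 LD2_c52 LD3_c2) (LK LD1_c16 LD2_c34 LD3_c47) Lrfl Lrfl
theorem f190708 : Led Lsl_ff (LP (LK LD1_c8 LD2_c52 LD3_c2)) = (LP (LK LD1_c9 LD2_c58 LD3_c18)) :=
  Lgr Lrot19 (Lpr_dt (f44214 IH) (Lpr_ft (f46499 IH) (Lpr_dt (f190655 IH) (Lpn (LP (LK LD1_c9 LD2_c58 LD3_c18))))))
theorem f44204 : Led Lsl_ft (LP (LK LD1_c4 LD2_c27 LD3_c18)) = (LP (LK LD1_c8 LD2_c52 LD3_c25)) :=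
  Lre_f IH (LK LD1_c4 LD2_c27 LD3_c18) (LK LD1_c8 LD2_c52 LD3_c25) Lrfl Lrfl
theorem f190712 : Led Lsl_ct (LP (LK LD1_c8 LD2_c52 LD3_c25)) = (LP (LK LD1_c9 LD2_c58 LD3_c18)) :=
  Lgr Lrot40 (Lpe (f44204 IH) (Lpe (f44180 IH) (Lpr_ff (f190708 IH) (Lpn (LP (LK LD1_c9 LD2_c58 LD3_c18))))))
theorem f47313 : Led Lsl_at (LP (LK LD1_c16 LD2_c35 LD3_c18)) = (LP (LK LD1_c8 LD2_c52 LD3_c25)) :=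
  Lre_a IH (LK LD1_c16 LD2_c35 LD3_c18) (LK LD1_c8 LD2_c52 LD3_c25) Lrfl Lrfl
theorem f190707 : Led Lsl_at (LP (LK LD1_c9 LD2_c58 LD3_c18)) = (LP (LK LD1_c18 LD2_c14 LD3_c30)) :=
  Lre_a IH (LK LD1_c9 LD2_c58 LD3_c18) (LK LD1_c18 LD2_c14 LD3_c30) Lrfl Lrfl
theorem f190714 : Led Lsl_cf (LP (LK LD1_c16 LD2_c35 LD3_c18)) = (LP (LK LD1_c18 LD2_c14 LD3_c30)) :=
  Lgr Lrot1 (Lpr_at (f47313 IH) (Lpr_ct (f190712 IH) (Lpr_at (f190707 IH) (Lpn (LP (LK LD1_c18 LD2_c14 LD3_c30))))))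
theorem f215739 : Led Lsl_gf (LP (LK LD1_c18 LD2_c14 LD3_c30)) = (LP (LK LD1_c16 LD2_c34 LD3_c45)) :=
  Lgr Lrot181 (Lpe (f190714 IH) (Lpr_gt (f47314 IH) (Lpe (f190731 IH) (Lpe (f214281 IH) (Lpr_gt (f214446 IH) (Lpr_bf (K13.f43855 IH) (Lpr_ct (K13.f51308 IH) (Lpe (f188479 IH) (Lpr_cf (f215732 IH) (Lpr_bt (f45751 IH) (Lpn (LP (LK LD1_c16 LD2_c34 LD3_c45)))))))))))))
theorem f43896 : Led Lsl_bt (LP (LK LD1_c7 LD2_c57 LD3_c35)) = (LP (LK LD1_c3 LD2_c58 LD3_c5)) :=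
  Lre_b IH (LK LD1_c7 LD2_c57 LD3_c35) (LK LD1_c3 LD2_c58 LD3_c5) Lrfl Lrfl
theorem f214338 : Led Lsl_ft (LP (LK LD1_c9 LD2_c56 LD3_c23)) = (LP (LK LD1_c7 LD2_c57 LD3_c35)) :=
  Lgr Lrot75 (Lpe (f214219 IH) (Lpr_ff (K13.f214332 IH) (Lpe (f43896 IH) (Lpn (LP (LK LD1_c7 LD2_c57 LD3_c35))))))
theorem f215020 : Led Lsl_gt (LP (LK LD1_c18 LD2_c11 LD3_c14)) = (LP (LK LD1_c15 LD2_c0 LD3_c50)) :=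
  Lgr Lrot46 (Lpe (f214537 IH) (Lpr_ft (f214338 IH) (Lpr_at (K13.f43854 IH) (Lpn (LP (LK LD1_c15 LD2_c0 LD3_c50))))))
theorem f233515 : Led Lsl_gt (LP (LK LD1_c15 LD2_c14 LD3_c44)) = (LP (LK LD1_c8 LD2_c5 LD3_c55)) :=
  Lre_g IH (LK LD1_c15 LD2_c14 LD3_c44) (LK LD1_c8 LD2_c5 LD3_c55) Lrfl Lrfl
theorem f45941 : Led Lsl_ct (LP (LK LD1_c15 LD2_c14 LD3_c50)) = (LP (LK LD1_c8 LD2_c5 LD3_c55)) :=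
  Lre_c IH (LK LD1_c15 LD2_c14 LD3_c50) (LK LD1_c8 LD2_c5 LD3_c55) Lrfl Lrfl
theorem f233534 : Led Lsl_bf (LP (LK LD1_c18 LD2_c11 LD3_c14)) = (LP (LK LD1_c15 LD2_c14 LD3_c50)) :=
  Lgr Lrot165 (Lpr_gt (f215020 IH) (Lpr_ct (K13.f51308 IH) (Lpe (f188479 IH) (Lpr_cf (f215732 IH) (Lpr_bt (f45751 IH) (Lpe (f215739 IH) (Lpr_bf (f192923 IH) (Lpr_ct (f233525 IH) (Lpr_gt (f233515 IH) (Lpe (f45941 IH) (Lpn (LP (LK LD1_c15 LD2_c14 LD3_c50)))))))))))))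
theorem f45937 : Led Lsl_gt (LP (LK LD1_c8 LD2_c5 LD3_c55)) = (LP (LK LD1_c4 LD2_c2 LD3_c39)) :=
  Lre_g IH (LK LD1_c8 LD2_c5 LD3_c55) (LK LD1_c4 LD2_c2 LD3_c39) Lrfl Lrfl
theorem f249067 : Led Lsl_ct (LP (LK LD1_c5 LD2_c10 LD3_c28)) = (LP (LK LD1_c2 LD2_c32 LD3_c18)) :=
  Lre_c IH (LK LD1_c5 LD2_c10 LD3_c28) (LK LD1_c2 LD2_c32 LD3_c18) Lrfl Lrfl
theorem f249074 : Led Lsl_gt (LP (LK LD1_c2 LD2_c37 LD3_c17)) = (LP (LK LD1_c5 LD2_c10 LD3_c28)) :=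
  Lgr Lrot82 (Lpe (f44009 IH) (Lpe (K10.f45929 IH) (Lpe (f45937 IH) (Lpe (f45941 IH) (Lpe (f233534 IH) (Lpe (f214537 IH) (Lpe (f214219 IH) (Lpr_ct (f214130 IH) (Lpr_gf (f249061 IH) (Lpe (f249067 IH) (Lpn (LP (LK LD1_c5 LD2_c10 LD3_c28)))))))))))))
theorem f46185 : Led Lsl_bt (LP (LK LD1_c4 LD2_c27 LD3_c20)) = (LP (LK LD1_c8 LD2_c52 LD3_c25)) :=
  Lre_b IH (LK LD1_c4 LD2_c27 LD3_c20) (LK LD1_c8 LD2_c52 LD3_c25) Lrfl Lrfl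
theorem f190716 : Led Lsl_cf (LP (LK LD1_c4 LD2_c27 LD3_c11)) = (LP (LK LD1_c5 LD2_c3 LD3_c44)) :=
  Lgr Lrot97 (Lpr_bt (K10.f47108 IH) (Lpr_ct (K13.f46171 IH) (Lpr_bt (f46185 IH) (Lpr_ct (f190712 IH) (Lpr_bt (f189450 IH) (Lpn (LP (LK LD1_c5 LD2_c3 LD3_c44))))))))
theorem f192905 : Led Lsl_af (LP (LK LD1_c5 LD2_c3 LD3_c44)) = (LP (LK LD1_c5 LD2_c10 LD3_c30)) :=
  Lgr Lrot68 (Lpe (f190716 IH) (Lpr_at (K1.f46387 IH) (Lpr_ct (K10.f192903 IH) (Lpn (LP (LK LD1_c5 LD2_c10 LD3_c30))))))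
theorem f249081 : Led Lsl_gf (LP (LK LD1_c5 LD2_c3 LD3_c44)) = (LP (LK LD1_c5 LD2_c10 LD3_c28)) :=
  Lgr Lrot76 (Lpr_af (f192905 IH) (Lpr_ff (f233489 IH) (Lpr_gt (f249074 IH) (Lpn (LP (LK LD1_c5 LD2_c10 LD3_c28))))))
theorem f249060 : Led Lsl_ct (LP (LK LD1_c2 LD2_c32 LD3_c18)) = (LP (LK LD1_c5 LD2_c10 LD3_c28)) :=
  Lre_c IH (LK LD1_c2 LD2_c32 LD3_c18) (LK LD1_c5 LD2_c10 LD3_c28) Lrfl Lrfl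
theorem f169857 : Led Lsl_dt (LP (LK LD1_c0 LD2_c33 LD3_c10)) = (LP (LK LD1_c1 LD2_c11 LD3_c39)) :=
  Lre_d IH (LK LD1_c0 LD2_c33 LD3_c10) (LK LD1_c1 LD2_c11 LD3_c39) Lrfl Lrfl
theorem f169856 : Led Lsl_ct (LP (LK LD1_c2 LD2_c29 LD3_c0)) = (LP (LK LD1_c1 LD2_c11 LD3_c39)) :=
  Lre_c IH (LK LD1_c2 LD2_c29 LD3_c0) (LK LD1_c1 LD2_c11 LD3_c39) Lrfl Lrfl
theorem f169976 : Led Lsl_dt (LP (LK LD1_c5 LD2_c2 LD3_c58)) = (LP (LK LD1_c2 LD2_c29 LD3_c0)) :=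
  Lre_d IH (LK LD1_c5 LD2_c2 LD3_c58) (LK LD1_c2 LD2_c29 LD3_c0) Lrfl Lrfl
theorem f249092 : Led Lsl_gt (LP (LK LD1_c5 LD2_c22 LD3_c11)) = (LP (LK LD1_c5 LD2_c2 LD3_c58)) :=
  Lgr Lrot49 (Lpr_df (f190653 IH) (Lpr_gf (f249081 IH) (Lpe (f249060 IH) (Lpe (f249061 IH) (Lpr_dt (K12.f192556 IH) (Lpr_gt (K10.f28372 IH) (Lpr_dt (f169857 IH) (Lpe (f169856 IH) (Lpe (f169976 IH) (Lpn (LP (LK LD1_c5 LD2_c2 LD3_c58))))))))))))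
theorem f190648 : Led Lsl_dt (LP (LK LD1_c5 LD2_c22 LD3_c11)) = (LP (LK LD1_c5 LD2_c3 LD3_c44)) :=
  Lgr Lrot60 (Lpe (f46423 IH) (Lpe (K1.f44218 IH) (Lpr_ff (K10.f190623 IH) (Lpn (LP (LK LD1_c5 LD2_c3 LD3_c44))))))
theorem f3136 : Led Lsl_ct (LP (LK LD1_c2 LD2_c29 LD3_c21)) = (LP (LK LD1_c1 LD2_c11 LD3_c47)) :=
  Lre_c IH (LK LD1_c2 LD2_c29 LD3_c21) (LK LD1_c1 LD2_c11 LD3_c47) Lrfl Lrfl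
theorem f43260 : Led Lsl_ct (LP (LK LD1_c15 LD2_c0 LD3_c52)) = (LP (LK LD1_c7 LD2_c57 LD3_c36)) :=
  Lre_c IH (LK LD1_c15 LD2_c0 LD3_c52) (LK LD1_c7 LD2_c57 LD3_c36) Lrfl Lrfl
theorem f214324 : Led Lsl_ft (LP (LK LD1_c10 LD2_c33 LD3_c29)) = (LP (LK LD1_c15 LD2_c0 LD3_c52)) :=
  Lgr Lrot4 (Lpe (f214308 IH) (Lpr_ff (K12.f214316 IH) (Lpe (f43260 IH) (Lpn (LP (LK LD1_c15 LD2_c0 LD3_c52))))))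
theorem f215791 : Led Lsl_gt (LP (LK LD1_c5 LD2_c21 LD3_c34)) = (LP (LK LD1_c10 LD2_c33 LD3_c28)) :=
  Lre_g IH (LK LD1_c5 LD2_c21 LD3_c34) (LK LD1_c10 LD2_c33 LD3_c28) Lrfl Lrfl
theorem f215792 : Led Lsl_af (LP (LK LD1_c10 LD2_c33 LD3_c28)) = (LP (LK LD1_c15 LD2_c0 LD3_c52)) :=
  Lgr Lrot31 (Lpe (f215791 IH) (Lpe (K12.f198869 IH) (Lpr_ft (f214324 IH) (Lpn (LP (LK LD1_c15 LD2_c0 LD3_c52))))))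
theorem f215794 : Led Lsl_ct (LP (LK LD1_c7 LD2_c57 LD3_c34)) = (LP (LK LD1_c10 LD2_c33 LD3_c28)) :=
  Lgr Lrot98 (Lpe (f43899 IH) (Lpe (K12.f31476 IH) (Lpe (K1.f31516 IH) (Lpe (K9.f31463 IH) (Lpe (K10.f31469 IH) (Lpr_cf (K11.f198874 IH) (Lpr_df (K12.f215674 IH) (Lpr_ft (f214324 IH) (Lpe (f215792 IH) (Lpn (LP (LK LD1_c10 LD2_c33 LD3_c28))))))))))))
theorem f215802 : Led Lsl_cf (LP (LK LD1_c7 LD2_c57 LD3_c34)) = (LP (LK LD1_c10 LD2_c33 LD3_c28)) :=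
  Lgr Lrot11 (Lpr_ct (f215794 IH) (Lpn (LP (LK LD1_c10 LD2_c33 LD3_c28))))
theorem f249547 : Led Lsl_cf (LP (LK LD1_c5 LD2_c21 LD3_c34)) = (LP (LK LD1_c5 LD2_c2 LD3_c58)) :=
  Lgr Lrot169 (Lpr_gt (f215791 IH) (Lpe (f215802 IH) (Lpe (f43899 IH) (Lpe (K12.f31476 IH) (Lpe (K10.f189448 IH) (Lpe (f3136 IH) (Lpe (K10.f166892 IH) (Lpe (f190648 IH) (Lpr_gt (f249092 IH) (Lpn (LP (LK LD1_c5 LD2_c2 LD3_c58))))))))))))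
theorem f189296 : Led Lsl_ct (LP (LK LD1_c5 LD2_c21 LD3_c46)) = (LP (LK LD1_c4 LD2_c50 LD3_c37)) :=
  Lgr Lrot59 (Lpr_cf (K10.f189273 IH) (Lpn (LP (LK LD1_c4 LD2_c50 LD3_c37))))
theorem f215804 : Led Lsl_df (LP (LK LD1_c5 LD2_c21 LD3_c46)) = (LP (LK LD1_c10 LD2_c33 LD3_c28)) :=
  Lgr Lrot43 (Lpr_ct (f189296 IH) (Lpr_dt (f27572 IH) (Lpr_ct (f192553 IH) (Lpr_dt (K12.f192546 IH) (Lpr_ct (f198888 IH) (Lpr_dt (K13.f198889 IH) (Lpr_ct (f214308 IH) (Lpe (K12.f215674 IH) (Lpe (K11.f198874 IH) (Lpr_dt (K10.f31469 IH) (Lpr_ct (K9.f31463 IH) (Lpr_dt (K1.f31516 IH) (Lpr_ct (K12.f31476 IH) (Lpr_dt (f43899 IH) (Lpr_ct (f215794 IH) (Lpn (LP (LK LD1_c10 LD2_c33 LD3_c28))))))))))))))))))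
theorem f198873 : Led Lsl_dt (LP (LK LD1_c2 LD2_c37 LD3_c30)) = (LP (LK LD1_c5 LD2_c21 LD3_c55)) :=
  Lre_d IH (LK LD1_c2 LD2_c37 LD3_c30) (LK LD1_c5 LD2_c21 LD3_c55) Lrfl Lrfl
theorem f249544 : Led Lsl_gf (LP (LK LD1_c5 LD2_c21 LD3_c24)) = (LP (LK LD1_c5 LD2_c2 LD3_c58)) :=
  Lgr Lrot76 (Lpe (K1.f46414 IH) (Lpr_ff (f46496 IH) (Lpr_gt (f249092 IH) (Lpn (LP (LK LD1_c5 LD2_c2 LD3_c58))))))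
theorem f249083 : Led Lsl_dt (LP (LK LD1_c5 LD2_c10 LD3_c28)) = (LP (LK LD1_c10 LD2_c11 LD3_c33)) :=
  Lre_d IH (LK LD1_c5 LD2_c10 LD3_c28) (LK LD1_c10 LD2_c11 LD3_c33) Lrfl Lrfl
theorem f249571 : Led Lsl_ct (LP (LK LD1_c5 LD2_c21 LD3_c55)) = (LP (LK LD1_c10 LD2_c11 LD3_c33)) :=
  Lgr Lrot7 (Lpe (f198873 IH) (Lpe (K11.f198931 IH) (Lpr_df (f215804 IH) (Lpe (f215791 IH) (Lpr_cf (f249547 IH) (Lpe (f249544 IH) (Lpr_dt (K1.f43987 IH) (Lpr_gt (f249074 IH) (Lpr_dt (f249083 IH) (Lpn (LP (LK LD1_c10 LD2_c11 LD3_c33))))))))))))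
theorem f166682 : Led Lsl_bt (LP (LK LD1_c0 LD2_c58 LD3_c41)) = (LP (LK LD1_c0 LD2_c26 LD3_c37)) :=
  Lre_b IH (LK LD1_c0 LD2_c58 LD3_c41) (LK LD1_c0 LD2_c26 LD3_c37) Lrfl Lrfl
theorem f166683 : Led Lsl_dt (LP (LK LD1_c1 LD2_c11 LD3_c47)) = (LP (LK LD1_c0 LD2_c58 LD3_c41)) :=
  Lgr Lrot79 (Lpe (K10.f165614 IH) (Lpr_df (K9.f166679 IH) (Lpe (f166682 IH) (Lpn (LP (LK LD1_c0 LD2_c58 LD3_c41))))))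
theorem f249086 : Led Lsl_dt (LP (LK LD1_c10 LD2_c11 LD3_c33)) = (LP (LK LD1_c5 LD2_c10 LD3_c28)) :=
  Lre_d IH (LK LD1_c10 LD2_c11 LD3_c33) (LK LD1_c5 LD2_c10 LD3_c28) Lrfl Lrfl
theorem f248701 : Led Lsl_at (LP (LK LD1_c1 LD2_c13 LD3_c9)) = (LP (LK LD1_c2 LD2_c32 LD3_c18)) :=
  Lre_a IH (LK LD1_c1 LD2_c13 LD3_c9) (LK LD1_c2 LD2_c32 LD3_c18) Lrfl Lrfl
theorem f249593 : Led Lsl_ft (LP (LK LD1_c1 LD2_c11 LD3_c47)) = (LP (LK LD1_c1 LD2_c13 LD3_c9)) :=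
  Lgr Lrot142 (Lpr_dt (f166683 IH) (Lpe (K12.f199171 IH) (Lpr_dt (K11.f198942 IH) (Lpr_ct (K11.f198865 IH) (Lpr_dt (f198873 IH) (Lpr_ct (f249571 IH) (Lpr_dt (f249086 IH) (Lpr_ct (f249067 IH) (Lpe (f248701 IH) (Lpn (LP (LK LD1_c1 LD2_c13 LD3_c9))))))))))))
theorem f249607 : Led Lsl_ff (LP (LK LD1_c1 LD2_c11 LD3_c47)) = (LP (LK LD1_c1 LD2_c13 LD3_c9)) :=
  Lgr Lrot3 (Lpr_ft (f249593 IH) (Lpn (LP (LK LD1_c1 LD2_c13 LD3_c9))))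
theorem f166881 : Led Lsl_at (LP (LK LD1_c1 LD2_c11 LD3_c47)) = (LP (LK LD1_c2 LD2_c29 LD3_c20)) :=
  Lre_a IH (LK LD1_c1 LD2_c11 LD3_c47) (LK LD1_c2 LD2_c29 LD3_c20) Lrfl Lrfl
theorem f249618 : Led Lsl_gf (LP (LK LD1_c2 LD2_c29 LD3_c20)) = (LP (LK LD1_c2 LD2_c31 LD3_c51)) :=
  Lgr Lrot76 (Lpe (f166881 IH) (Lpr_ff (f249607 IH) (Lpe (K12.f214272 IH) (Lpn (LP (LK LD1_c2 LD2_c31 LD3_c51))))))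
theorem f214107 : Led Lsl_bf (LP (LK LD1_c2 LD2_c31 LD3_c51)) = (LP (LK LD1_c4 LD2_c54 LD3_c19)) :=
  Lgr Lrot93 (Lpr_dt (K12.f190992 IH) (Lpr_bt (K12.f214105 IH) (Lpr_dt (K12.f43288 IH) (Lpn (LP (LK LD1_c4 LD2_c54 LD3_c19))))))
theorem f249624 : Led Lsl_bf (LP (LK LD1_c2 LD2_c29 LD3_c20)) = (LP (LK LD1_c2 LD2_c25 LD3_c5)) :=
  Lgr Lrot34 (Lpr_gf (f249618 IH) (Lpr_bf (f214107 IH) (Lpe (K9.f184081 IH) (Lpr_gf (K12.f230416 IH) (Lpe (K12.f230278 IH) (Lpe (K12.f44265 IH) (Lpe (K1.f44058 IH) (Lpr_ct (K1.f28254 IH) (Lpe (K12.f230551 IH) (Lpe (K12.f43471 IH) (Lpn (LP (LK LD1_c2 LD2_c25 LD3_c5)))))))))))))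
theorem f166907 : Led Lsl_et (LP (LK LD1_c2 LD2_c29 LD3_c20)) = (LP (LK LD1_c5 LD2_c3 LD3_c43)) :=
  Lre_e IH (LK LD1_c2 LD2_c29 LD3_c20) (LK LD1_c5 LD2_c3 LD3_c43) Lrfl Lrfl
theorem f43480 : Led Lsl_et (LP (LK LD1_c4 LD2_c54 LD3_c23)) = (LP (LK LD1_c2 LD2_c25 LD3_c5)) :=
  Lre_e IH (LK LD1_c4 LD2_c54 LD3_c23) (LK LD1_c2 LD2_c25 LD3_c5) Lrfl Lrfl
theorem f249641 : Led Lsl_bt (LP (LK LD1_c5 LD2_c3 LD3_c43)) = (LP (LK LD1_c4 LD2_c54 LD3_c23)) :=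
  Lgr Lrot119 (Lpe (f166907 IH) (Lpr_bf (f249624 IH) (Lpe (f43480 IH) (Lpn (LP (LK LD1_c4 LD2_c54 LD3_c23))))))
theorem f166929 : Led Lsl_ft (LP (LK LD1_c9 LD2_c58 LD3_c17)) = (LP (LK LD1_c5 LD2_c3 LD3_c43)) :=
  Lre_f IH (LK LD1_c9 LD2_c58 LD3_c17) (LK LD1_c5 LD2_c3 LD3_c43) Lrfl Lrfl
theorem f249652 : Led Lsl_bf (LP (LK LD1_c9 LD2_c58 LD3_c17)) = (LP (LK LD1_c9 LD2_c40 LD3_c17)) :=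
  Lgr Lrot61 (Lpr_ft (f166929 IH) (Lpr_bt (f249641 IH) (Lpr_ft (f248510 IH) (Lpn (LP (LK LD1_c9 LD2_c40 LD3_c17))))))
theorem f248747 : Led Lsl_bt (LP (LK LD1_c2 LD2_c32 LD3_c26)) = (LP (LK LD1_c5 LD2_c10 LD3_c36)) :=
  Lre_b IH (LK LD1_c2 LD2_c32 LD3_c26) (LK LD1_c5 LD2_c10 LD3_c36) Lrfl Lrfl
theorem f248748 : Led Lsl_at (LP (LK LD1_c5 LD2_c10 LD3_c36)) = (LP (LK LD1_c10 LD2_c11 LD3_c37)) :=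
  Lre_a IH (LK LD1_c5 LD2_c10 LD3_c36) (LK LD1_c10 LD2_c11 LD3_c37) Lrfl Lrfl
theorem f248749 : Led Lsl_bf (LP (LK LD1_c9 LD2_c39 LD3_c44)) = (LP (LK LD1_c10 LD2_c11 LD3_c37)) :=
  Lgr Lrot81 (Lpe (f248585 IH) (Lpr_bt (f248599 IH) (Lpr_at (f248720 IH) (Lpr_bt (f248747 IH) (Lpr_at (f248748 IH) (Lpn (LP (LK LD1_c10 LD2_c11 LD3_c37))))))))
theorem f249662 : Led Lsl_et (LP (LK LD1_c9 LD2_c58 LD3_c17)) = (LP (LK LD1_c10 LD2_c11 LD3_c37)) :=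
  Lgr Lrot74 (Lpr_bf (f249652 IH) (Lpe (f248517 IH) (Lpr_bf (f248749 IH) (Lpn (LP (LK LD1_c10 LD2_c11 LD3_c37))))))
theorem f166857 : Led Lsl_ct (LP (LK LD1_c18 LD2_c14 LD3_c26)) = (LP (LK LD1_c9 LD2_c58 LD3_c17)) :=
  Lre_c IH (LK LD1_c18 LD2_c14 LD3_c26) (LK LD1_c9 LD2_c58 LD3_c17) Lrfl Lrfl
theorem f249050 : Led Lsl_ct (LP (LK LD1_c10 LD2_c11 LD3_c37)) = (LP (LK LD1_c18 LD2_c34 LD3_c4)) :=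
  Lre_c IH (LK LD1_c10 LD2_c11 LD3_c37) (LK LD1_c18 LD2_c34 LD3_c4) Lrfl Lrfl
theorem f249664 : Led Lsl_ef (LP (LK LD1_c18 LD2_c14 LD3_c26)) = (LP (LK LD1_c18 LD2_c34 LD3_c4)) :=
  Lgr Lrot28 (Lpr_ct (f166857 IH) (Lpr_et (f249662 IH) (Lpr_ct (f249050 IH) (Lpn (LP (LK LD1_c18 LD2_c34 LD3_c4))))))
theorem f166976 : Led Lsl_ft (LP (LK LD1_c18 LD2_c14 LD3_c26)) = (LP (LK LD1_c9 LD2_c58 LD3_c15)) :=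
  Lre_f IH (LK LD1_c18 LD2_c14 LD3_c26) (LK LD1_c9 LD2_c58 LD3_c15) Lrfl Lrfl
theorem f249693 : Led Lsl_et (LP (LK LD1_c9 LD2_c58 LD3_c15)) = (LP (LK LD1_c5 LD2_c3 LD3_c42)) :=
  Lre_e IH (LK LD1_c9 LD2_c58 LD3_c15) (LK LD1_c5 LD2_c3 LD3_c42) Lrfl Lrfl
theorem f249694 : Led Lsl_ft (LP (LK LD1_c10 LD2_c11 LD3_c34)) = (LP (LK LD1_c18 LD2_c34 LD3_c4)) :=
  Lre_f IH (LK LD1_c10 LD2_c11 LD3_c34) (LK LD1_c18 LD2_c34 LD3_c4) Lrfl Lrfl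
theorem f249695 : Led Lsl_et (LP (LK LD1_c5 LD2_c10 LD3_c28)) = (LP (LK LD1_c10 LD2_c11 LD3_c34)) :=
  Lre_e IH (LK LD1_c5 LD2_c10 LD3_c28) (LK LD1_c10 LD2_c11 LD3_c34) Lrfl Lrfl
theorem f249696 : Led Lsl_ft (LP (LK LD1_c5 LD2_c3 LD3_c42)) = (LP (LK LD1_c5 LD2_c10 LD3_c28)) :=
  Lgr Lrot86 (Lpe (f249693 IH) (Lpe (f166976 IH) (Lpr_ef (f249664 IH) (Lpe (f249694 IH) (Lpe (f249695 IH) (Lpn (LP (LK LD1_c5 LD2_c10 LD3_c28))))))))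
theorem f166899 : Led Lsl_dt (LP (LK LD1_c9 LD2_c58 LD3_c14)) = (LP (LK LD1_c5 LD2_c3 LD3_c42)) :=
  Lre_d IH (LK LD1_c9 LD2_c58 LD3_c14) (LK LD1_c5 LD2_c3 LD3_c42) Lrfl Lrfl
theorem f249703 : Led Lsl_ff (LP (LK LD1_c9 LD2_c58 LD3_c14)) = (LP (LK LD1_c10 LD2_c11 LD3_c33)) :=
  Lgr Lrot19 (Lpr_dt (f166899 IH) (Lpr_ft (f249696 IH) (Lpr_dt (f249083 IH) (Lpn (LP (LK LD1_c10 LD2_c11 LD3_c33))))))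
theorem f249712 : Led Lsl_ft (LP (LK LD1_c9 LD2_c58 LD3_c14)) = (LP (LK LD1_c10 LD2_c11 LD3_c33)) :=
  Lgr Lrot48 (Lpr_ff (f249703 IH) (Lpn (LP (LK LD1_c10 LD2_c11 LD3_c33))))
theorem f249720 : Led Lsl_bt (LP (LK LD1_c18 LD2_c14 LD3_c21)) = (LP (LK LD1_c9 LD2_c58 LD3_c14)) :=
  Lre_b IH (LK LD1_c18 LD2_c14 LD3_c21) (LK LD1_c9 LD2_c58 LD3_c14) Lrfl Lrfl
theorem f249581 : Led Lsl_bt (LP (LK LD1_c10 LD2_c11 LD3_c33)) = (LP (LK LD1_c18 LD2_c33 LD3_c60)) :=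
  Lre_b IH (LK LD1_c10 LD2_c11 LD3_c33) (LK LD1_c18 LD2_c33 LD3_c60) Lrfl Lrfl
theorem f249721 : Led Lsl_ff (LP (LK LD1_c18 LD2_c14 LD3_c21)) = (LP (LK LD1_c18 LD2_c33 LD3_c60)) :=
  Lgr Lrot25 (Lpr_bt (f249720 IH) (Lpr_ft (f249712 IH) (Lpr_bt (f249581 IH) (Lpn (LP (LK LD1_c18 LD2_c33 LD3_c60))))))
theorem f249728 : Led Lsl_dt (LP (LK LD1_c18 LD2_c14 LD3_c21)) = (LP (LK LD1_c9 LD2_c58 LD3_c13)) :=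
  Lre_d IH (LK LD1_c18 LD2_c14 LD3_c21) (LK LD1_c9 LD2_c58 LD3_c13) Lrfl Lrfl
theorem f249729 : Led Lsl_dt (LP (LK LD1_c10 LD2_c11 LD3_c32)) = (LP (LK LD1_c18 LD2_c33 LD3_c60)) :=
  Lre_d IH (LK LD1_c10 LD2_c11 LD3_c32) (LK LD1_c18 LD2_c33 LD3_c60) Lrfl Lrfl
theorem f249730 : Led Lsl_ft (LP (LK LD1_c9 LD2_c58 LD3_c13)) = (LP (LK LD1_c10 LD2_c11 LD3_c32)) :=
  Lgr Lrot54 (Lpe (f249728 IH) (Lpr_ff (f249721 IH) (Lpe (f249729 IH) (Lpn (LP (LK LD1_c10 LD2_c11 LD3_c32))))))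
theorem f249733 : Led Lsl_at (LP (LK LD1_c18 LD2_c14 LD3_c20)) = (LP (LK LD1_c9 LD2_c58 LD3_c13)) :=
  Lre_a IH (LK LD1_c18 LD2_c14 LD3_c20) (LK LD1_c9 LD2_c58 LD3_c13) Lrfl Lrfl
theorem f248968 : Led Lsl_at (LP (LK LD1_c10 LD2_c11 LD3_c32)) = (LP (LK LD1_c18 LD2_c33 LD3_c59)) :=
  Lre_a IH (LK LD1_c10 LD2_c11 LD3_c32) (LK LD1_c18 LD2_c33 LD3_c59) Lrfl Lrfl
theorem f249734 : Led Lsl_ff (LP (LK LD1_c18 LD2_c14 LD3_c20)) = (LP (LK LD1_c18 LD2_c33 LD3_c59)) :=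
  Lgr Lrot30 (Lpr_at (f249733 IH) (Lpr_ft (f249730 IH) (Lpr_at (f248968 IH) (Lpn (LP (LK LD1_c18 LD2_c33 LD3_c59))))))
theorem f249745 : Led Lsl_ft (LP (LK LD1_c18 LD2_c14 LD3_c20)) = (LP (LK LD1_c18 LD2_c33 LD3_c59)) :=
  Lgr Lrot48 (Lpr_ff (f249734 IH) (Lpn (LP (LK LD1_c18 LD2_c33 LD3_c59))))
theorem f249757 : Led Lsl_dt (LP (LK LD1_c27 LD2_c54 LD3_c36)) = (LP (LK LD1_c18 LD2_c14 LD3_c20)) :=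
  Lre_d IH (LK LD1_c27 LD2_c54 LD3_c36) (LK LD1_c18 LD2_c14 LD3_c20) Lrfl Lrfl
theorem f248987 : Led Lsl_dt (LP (LK LD1_c18 LD2_c33 LD3_c59)) = (LP (LK LD1_c28 LD2_c8 LD3_c7)) :=
  Lre_d IH (LK LD1_c18 LD2_c33 LD3_c59) (LK LD1_c28 LD2_c8 LD3_c7) Lrfl Lrfl
theorem f249758 : Led Lsl_ff (LP (LK LD1_c27 LD2_c54 LD3_c36)) = (LP (LK LD1_c28 LD2_c8 LD3_c7)) :=
  Lgr Lrot19 (Lpr_dt (f249757 IH) (Lpr_ft (f249745 IH) (Lpr_dt (f248987 IH) (Lpn (LP (LK LD1_c28 LD2_c8 LD3_c7))))))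
theorem f249768 : Led Lsl_bt (LP (LK LD1_c27 LD2_c54 LD3_c36)) = (LP (LK LD1_c18 LD2_c14 LD3_c36)) :=
  Lre_b IH (LK LD1_c27 LD2_c54 LD3_c36) (LK LD1_c18 LD2_c14 LD3_c36) Lrfl Lrfl
theorem f249769 : Led Lsl_bt (LP (LK LD1_c18 LD2_c34 LD3_c16)) = (LP (LK LD1_c28 LD2_c8 LD3_c7)) :=
  Lre_b IH (LK LD1_c18 LD2_c34 LD3_c16) (LK LD1_c28 LD2_c8 LD3_c7) Lrfl Lrfl
theorem f249770 : Led Lsl_ft (LP (LK LD1_c18 LD2_c14 LD3_c36)) = (LP (LK LD1_c18 LD2_c34 LD3_c16)) :=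
  Lgr Lrot75 (Lpe (f249768 IH) (Lpr_ff (f249758 IH) (Lpe (f249769 IH) (Lpn (LP (LK LD1_c18 LD2_c34 LD3_c16))))))
theorem f249785 : Led Lsl_ff (LP (LK LD1_c18 LD2_c14 LD3_c36)) = (LP (LK LD1_c18 LD2_c34 LD3_c16)) :=
  Lgr Lrot3 (Lpr_ft (f249770 IH) (Lpn (LP (LK LD1_c18 LD2_c34 LD3_c16))))
theorem f249790 : Led Lsl_at (LP (LK LD1_c18 LD2_c14 LD3_c36)) = (LP (LK LD1_c9 LD2_c58 LD3_c23)) :=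
  Lre_a IH (LK LD1_c18 LD2_c14 LD3_c36) (LK LD1_c9 LD2_c58 LD3_c23) Lrfl Lrfl
theorem f249791 : Led Lsl_at (LP (LK LD1_c10 LD2_c11 LD3_c43)) = (LP (LK LD1_c18 LD2_c34 LD3_c16)) :=
  Lre_a IH (LK LD1_c10 LD2_c11 LD3_c43) (LK LD1_c18 LD2_c34 LD3_c16) Lrfl Lrfl
theorem f249792 : Led Lsl_ft (LP (LK LD1_c9 LD2_c58 LD3_c23)) = (LP (LK LD1_c10 LD2_c11 LD3_c43)) :=
  Lgr Lrot101 (Lpe (f249790 IH) (Lpr_ff (f249785 IH) (Lpe (f249791 IH) (Lpn (LP (LK LD1_c10 LD2_c11 LD3_c43))))))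
theorem f185218 : Led Lsl_dt (LP (LK LD1_c5 LD2_c3 LD3_c45)) = (LP (LK LD1_c9 LD2_c58 LD3_c23)) :=
  Lre_d IH (LK LD1_c5 LD2_c3 LD3_c45) (LK LD1_c9 LD2_c58 LD3_c23) Lrfl Lrfl
theorem f171624 : Led Lsl_dt (LP (LK LD1_c10 LD2_c11 LD3_c43)) = (LP (LK LD1_c5 LD2_c10 LD3_c31)) :=
  Lre_d IH (LK LD1_c10 LD2_c11 LD3_c43) (LK LD1_c5 LD2_c10 LD3_c31) Lrfl Lrfl
theorem f249811 : Led Lsl_ff (LP (LK LD1_c5 LD2_c3 LD3_c45)) = (LP (LK LD1_c5 LD2_c10 LD3_c31)) :=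
  Lgr Lrot19 (Lpr_dt (f185218 IH) (Lpr_ft (f249792 IH) (Lpr_dt (f171624 IH) (Lpn (LP (LK LD1_c5 LD2_c10 LD3_c31))))))
theorem f249855 : Led Lsl_ft (LP (LK LD1_c5 LD2_c3 LD3_c45)) = (LP (LK LD1_c5 LD2_c10 LD3_c31)) :=
  Lgr Lrot48 (Lpr_ff (f249811 IH) (Lpn (LP (LK LD1_c5 LD2_c10 LD3_c31))))
theorem f165612 : Led Lsl_ct (LP (LK LD1_c2 LD2_c29 LD3_c23)) = (LP (LK LD1_c5 LD2_c3 LD3_c45)) :=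
  Lre_c IH (LK LD1_c2 LD2_c29 LD3_c23) (LK LD1_c5 LD2_c3 LD3_c45) Lrfl Lrfl
theorem f171623 : Led Lsl_ct (LP (LK LD1_c5 LD2_c10 LD3_c31)) = (LP (LK LD1_c2 LD2_c32 LD3_c21)) :=
  Lre_c IH (LK LD1_c5 LD2_c10 LD3_c31) (LK LD1_c2 LD2_c32 LD3_c21) Lrfl Lrfl
theorem f249865 : Led Lsl_ff (LP (LK LD1_c2 LD2_c29 LD3_c23)) = (LP (LK LD1_c2 LD2_c32 LD3_c21)) :=
  Lgr Lrot23 (Lpr_ct (f165612 IH) (Lpr_ft (f249855 IH) (Lpr_ct (f171623 IH) (Lpn (LP (LK LD1_c2 LD2_c32 LD3_c21))))))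
theorem f165737 : Led Lsl_dt (LP (LK LD1_c2 LD2_c29 LD3_c23)) = (LP (LK LD1_c5 LD2_c3 LD3_c54)) :=
  Lre_d IH (LK LD1_c2 LD2_c29 LD3_c23) (LK LD1_c5 LD2_c3 LD3_c54) Lrfl Lrfl
theorem f171640 : Led Lsl_dt (LP (LK LD1_c5 LD2_c10 LD3_c40)) = (LP (LK LD1_c2 LD2_c32 LD3_c21)) :=
  Lre_d IH (LK LD1_c5 LD2_c10 LD3_c40) (LK LD1_c2 LD2_c32 LD3_c21) Lrfl Lrfl
theorem f249879 : Led Lsl_ft (LP (LK LD1_c5 LD2_c3 LD3_c54)) = (LP (LK LD1_c5 LD2_c10 LD3_c40)) :=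
  Lgr Lrot54 (Lpe (f165737 IH) (Lpr_ff (f249865 IH) (Lpe (f171640 IH) (Lpn (LP (LK LD1_c5 LD2_c10 LD3_c40))))))
theorem f249897 : Led Lsl_ff (LP (LK LD1_c5 LD2_c3 LD3_c54)) = (LP (LK LD1_c5 LD2_c10 LD3_c40)) :=
  Lgr Lrot3 (Lpr_ft (f249879 IH) (Lpn (LP (LK LD1_c5 LD2_c10 LD3_c40))))
theorem f165657 : Led Lsl_bt (LP (LK LD1_c5 LD2_c3 LD3_c54)) = (LP (LK LD1_c2 LD2_c29 LD3_c24)) :=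
  Lre_b IH (LK LD1_c5 LD2_c3 LD3_c54) (LK LD1_c2 LD2_c29 LD3_c24) Lrfl Lrfl
theorem f248835 : Led Lsl_bt (LP (LK LD1_c2 LD2_c32 LD3_c22)) = (LP (LK LD1_c5 LD2_c10 LD3_c40)) :=
  Lre_b IH (LK LD1_c2 LD2_c32 LD3_c22) (LK LD1_c5 LD2_c10 LD3_c40) Lrfl Lrfl
theorem f249905 : Led Lsl_ft (LP (LK LD1_c2 LD2_c29 LD3_c24)) = (LP (LK LD1_c2 LD2_c32 LD3_c22)) :=
  Lgr Lrot75 (Lpe (f165657 IH) (Lpr_ff (f249897 IH) (Lpe (f248835 IH) (Lpn (LP (LK LD1_c2 LD2_c32 LD3_c22))))))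
theorem f165843 : Led Lsl_df (LP (LK LD1_c0 LD2_c26 LD3_c37)) = (LP (LK LD1_c0 LD2_c33 LD3_c14)) :=
  Lgr Lrot84 (Lpe (K12.f53185 IH) (Lpe (K9.f53183 IH) (Lpe (K9.f53179 IH) (Lpe (K1.f31556 IH) (Lpe (K9.f31661 IH) (Lpr_cf (K9.f165829 IH) (Lpr_gt (K9.f165274 IH) (Lpr_dt (K8.f163707 IH) (Lpe (K8.f165581 IH) (Lpn (LP (LK LD1_c0 LD2_c33 LD3_c14))))))))))))
theorem f248831 : Led Lsl_af (LP (LK LD1_c2 LD2_c29 LD3_c15)) = (LP (LK LD1_c2 LD2_c32 LD3_c22)) :=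
  Lgr Lrot0 (Lpr_at (f248828 IH) (Lpn (LP (LK LD1_c2 LD2_c32 LD3_c22))))
theorem f249915 : Led Lsl_ct (LP (LK LD1_c1 LD2_c12 LD3_c31)) = (LP (LK LD1_c2 LD2_c29 LD3_c15)) :=
  Lgr Lrot98 (Lpe (K10.f53189 IH) (Lpr_cf (K9.f53186 IH) (Lpe (K9.f6761 IH) (Lpe (K12.f53184 IH) (Lpr_df (f165843 IH) (Lpe (K8.f163667 IH) (Lpe (K10.f165587 IH) (Lpr_ft (f249905 IH) (Lpe (f248831 IH) (Lpn (LP (LK LD1_c2 LD2_c29 LD3_c15))))))))))))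
theorem f165814 : Led Lsl_gt (LP (LK LD1_c2 LD2_c29 LD3_c15)) = (LP (LK LD1_c5 LD2_c3 LD3_c29)) :=
  Lre_g IH (LK LD1_c2 LD2_c29 LD3_c15) (LK LD1_c5 LD2_c3 LD3_c29) Lrfl Lrfl
theorem f249929 : Led Lsl_df (LP (LK LD1_c2 LD2_c30 LD3_c3)) = (LP (LK LD1_c5 LD2_c3 LD3_c29)) :=
  Lgr Lrot16 (Lpr_gt (K10.f180538 IH) (Lpr_dt (K10.f171646 IH) (Lpe (K10.f180633 IH) (Lpe (K10.f180635 IH) (Lpr_gf (K10.f186831 IH) (Lpr_df (K10.f194035 IH) (Lpe (K10.f194044 IH) (Lpr_ct (f249915 IH) (Lpr_gt (f165814 IH) (Lpn (LP (LK LD1_c5 LD2_c3 LD3_c29))))))))))))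
theorem f249952 : Led Lsl_dt (LP (LK LD1_c2 LD2_c30 LD3_c3)) = (LP (LK LD1_c5 LD2_c3 LD3_c29)) :=
  Lgr Lrot42 (Lpr_df (f249929 IH) (Lpn (LP (LK LD1_c5 LD2_c3 LD3_c29))))
theorem f166408 : Led Lsl_gf (LP (LK LD1_c1 LD2_c12 LD3_c17)) = (LP (LK LD1_c2 LD2_c15 LD3_c4)) :=
  Lgr Lrot143 (Lpr_dt (K9.f22143 IH) (Lpe (K9.f22132 IH) (Lpe (K9.f22126 IH) (Lpr_gf (K9.f163677 IH) (Lpe (K8.f163679 IH) (Lpe (K9.f165471 IH) (Lpe (K9.f165473 IH) (Lpr_gt (K9.f166370 IH) (Lpr_dt (K10.f35011 IH) (Lpn (LP (LK LD1_c2 LD2_c15 LD3_c4))))))))))))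
theorem f186771 : Led Lsl_gf (LP (LK LD1_c2 LD2_c30 LD3_c3)) = (LP (LK LD1_c1 LD2_c13 LD3_c6)) :=
  Lgr Lrot147 (Lpr_ct (K10.f169683 IH) (Lpr_gt (K10.f164692 IH) (Lpr_ct (K9.f166246 IH) (Lpe (K9.f169436 IH) (Lpe (K9.f169580 IH) (Lpr_gf (f166408 IH) (Lpr_cf (K2.f34996 IH) (Lpr_gf (K10.f186723 IH) (Lpe (K10.f185397 IH) (Lpn (LP (LK LD1_c1 LD2_c13 LD3_c6))))))))))))
theorem f185398 : Led Lsl_dt (LP (LK LD1_c2 LD2_c32 LD3_c12)) = (LP (LK LD1_c1 LD2_c13 LD3_c6)) :=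
  Lre_d IH (LK LD1_c2 LD2_c32 LD3_c12) (LK LD1_c1 LD2_c13 LD3_c6) Lrfl Lrfl
theorem f186767 : Led Lsl_gt (LP (LK LD1_c1 LD2_c22 LD3_c61)) = (LP (LK LD1_c2 LD2_c32 LD3_c12)) :=
  Lgr Lrot5 (Lpr_ft (K2.f71534 IH) (Lpr_at (K10.f32602 IH) (Lpr_gf (K10.f186723 IH) (Lpn (LP (LK LD1_c2 LD2_c32 LD3_c12))))))
theorem f249977 : Led Lsl_ct (LP (LK LD1_c2 LD2_c30 LD3_c12)) = (LP (LK LD1_c5 LD2_c3 LD3_c29)) :=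
  Lgr Lrot7 (Lpe (K11.f164753 IH) (Lpe (K9.f164693 IH) (Lpe (K9.f164735 IH) (Lpe (K9.f166162 IH) (Lpe (K2.f71525 IH) (Lpr_gt (f186767 IH) (Lpr_dt (f185398 IH) (Lpe (f186771 IH) (Lpr_dt (f249952 IH) (Lpn (LP (LK LD1_c5 LD2_c3 LD3_c29))))))))))))
theorem f249983 : Led Lsl_gt (LP (LK LD1_c5 LD2_c2 LD3_c20)) = (LP (LK LD1_c2 LD2_c32 LD3_c36)) :=
  Lgr Lrot146 (Lpr_dt (K10.f165287 IH) (Lpr_gt (K9.f165280 IH) (Lpr_ct (K9.f163683 IH) (Lpe (K10.f180536 IH) (Lpr_ct (K10.f180532 IH) (Lpr_dt (f249952 IH) (Lpe (f249977 IH) (Lpr_gf (K11.f198577 IH) (Lpr_cf (K10.f186510 IH) (Lpn (LP (LK LD1_c2 LD2_c32 LD3_c36))))))))))))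
theorem f250016 : Led Lsl_gf (LP (LK LD1_c2 LD2_c30 LD3_c11)) = (LP (LK LD1_c1 LD2_c13 LD3_c56)) :=
  Lgr Lrot147 (Lpe (K10.f177313 IH) (Lpr_gt (f249983 IH) (Lpe (K10.f186510 IH) (Lpe (K10.f170841 IH) (Lpe (K10.f164696 IH) (Lpr_gf (K9.f178987 IH) (Lpe (K8.f3159 IH) (Lpr_gf (K10.f164076 IH) (Lpe (K12.f61305 IH) (Lpn (LP (LK LD1_c1 LD2_c13 LD3_c56))))))))))))
theorem f165639 : Led Lsl_gt (LP (LK LD1_c2 LD2_c28 LD3_c50)) = (LP (LK LD1_c1 LD2_c11 LD3_c35)) :=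
  Lre_g IH (LK LD1_c2 LD2_c28 LD3_c50) (LK LD1_c1 LD2_c11 LD3_c35) Lrfl Lrfl
theorem f177356 : Led Lsl_dt (LP (LK LD1_c2 LD2_c28 LD3_c50)) = (LP (LK LD1_c5 LD2_c2 LD3_c32)) :=
  Lre_d IH (LK LD1_c2 LD2_c28 LD3_c50) (LK LD1_c5 LD2_c2 LD3_c32) Lrfl Lrfl
theorem f181043 : Led Lsl_cf (LP (LK LD1_c1 LD2_c13 LD3_c56)) = (LP (LK LD1_c2 LD2_c32 LD3_c30)) :=
  Lgr Lrot14 (Lpe (K12.f61289 IH) (Lpe (K10.f61288 IH) (Lpe (K9.f163633 IH) (Lpe (K10.f59574 IH) (Lpr_ct (K10.f180693 IH) (Lpe (K10.f180570 IH) (Lpr_dt (K9.f71531 IH) (Lpr_gt (K12.f180739 IH) (Lpr_dt (K12.f165258 IH) (Lpn (LP (LK LD1_c2 LD2_c32 LD3_c30))))))))))))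
theorem f250021 : Led Lsl_gt (LP (LK LD1_c5 LD2_c2 LD3_c32)) = (LP (LK LD1_c2 LD2_c32 LD3_c30)) :=
  Lgr Lrot9 (Lpe (f177356 IH) (Lpr_gt (f165639 IH) (Lpr_ct (K9.f165607 IH) (Lpr_gt (K9.f21288 IH) (Lpr_ct (K9.f165279 IH) (Lpe (K10.f165287 IH) (Lpr_cf (K10.f177313 IH) (Lpr_gf (f250016 IH) (Lpr_cf (f181043 IH) (Lpn (LP (LK LD1_c2 LD2_c32 LD3_c30))))))))))))
theorem f166379 : Led Lsl_dt (LP (LK LD1_c1 LD2_c12 LD3_c22)) = (LP (LK LD1_c0 LD2_c33 LD3_c30)) :=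
  Lre_d IH (LK LD1_c1 LD2_c12 LD3_c22) (LK LD1_c0 LD2_c33 LD3_c30) Lrfl Lrfl
theorem f166403 : Led Lsl_gt (LP (LK LD1_c2 LD2_c30 LD3_c44)) = (LP (LK LD1_c1 LD2_c12 LD3_c22)) :=
  Lre_g IH (LK LD1_c2 LD2_c30 LD3_c44) (LK LD1_c1 LD2_c12 LD3_c22) Lrfl Lrfl
theorem f250035 : Led Lsl_cf (LP (LK LD1_c5 LD2_c2 LD3_c32)) = (LP (LK LD1_c2 LD2_c30 LD3_c44)) :=
  Lgr Lrot166 (Lpr_gt (f250021 IH) (Lpr_dt (f165257 IH) (Lpe (K10.f180631 IH) (Lpr_dt (K2.f32286 IH) (Lpe (K2.f34996 IH) (Lpe (K10.f35011 IH) (Lpe (K9.f166370 IH) (Lpe (f166379 IH) (Lpe (f166403 IH) (Lpn (LP (LK LD1_c2 LD2_c30 LD3_c44))))))))))))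
theorem f177443 : Led Lsl_et (LP (LK LD1_c0 LD2_c33 LD3_c32)) = (LP (LK LD1_c1 LD2_c12 LD3_c26)) :=
  Lre_e IH (LK LD1_c0 LD2_c33 LD3_c32) (LK LD1_c1 LD2_c12 LD3_c26) Lrfl Lrfl
theorem f166391 : Led Lsl_et (LP (LK LD1_c0 LD2_c33 LD3_c30)) = (LP (LK LD1_c1 LD2_c12 LD3_c23)) :=
  Lre_e IH (LK LD1_c0 LD2_c33 LD3_c30) (LK LD1_c1 LD2_c12 LD3_c23) Lrfl Lrfl
theorem f185129 : Led Lsl_dt (LP (LK LD1_c1 LD2_c13 LD3_c28)) = (LP (LK LD1_c2 LD2_c30 LD3_c44)) :=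
  Lgr Lrot171 (Lpe (K10.f185128 IH) (Lpr_ef (K10.f185120 IH) (Lpr_dt (K9.f178883 IH) (Lpr_gf (K9.f174220 IH) (Lpe (K9.f172843 IH) (Lpr_et (K12.f172728 IH) (Lpe (K11.f177116 IH) (Lpe (f166391 IH) (Lpr_dt (K10.f166372 IH) (Lpe (f166403 IH) (Lpn (LP (LK LD1_c2 LD2_c30 LD3_c44)))))))))))))
theorem f186166 : Led Lsl_gt (LP (LK LD1_c1 LD2_c12 LD3_c25)) = (LP (LK LD1_c2 LD2_c30 LD3_c44)) :=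
  Lgr Lrot112 (Lpe (K10.f21248 IH) (Lpr_et (f177443 IH) (Lpe (K10.f177438 IH) (Lpe (K9.f175899 IH) (Lpr_dt (K10.f175897 IH) (Lpe (K10.f175903 IH) (Lpe (K10.f176714 IH) (Lpr_gf (K11.f186163 IH) (Lpe (K10.f185142 IH) (Lpr_dt (f185129 IH) (Lpn (LP (LK LD1_c2 LD2_c30 LD3_c44)))))))))))))
theorem f166254 : Led Lsl_ct (LP (LK LD1_c2 LD2_c29 LD3_c30)) = (LP (LK LD1_c1 LD2_c12 LD3_c25)) :=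
  Lgr Lrot59 (Lpr_cf (K10.f166249 IH) (Lpn (LP (LK LD1_c1 LD2_c12 LD3_c25))))
theorem f165445 : Led Lsl_gt (LP (LK LD1_c5 LD2_c4 LD3_c8)) = (LP (LK LD1_c2 LD2_c29 LD3_c30)) :=
  Lre_g IH (LK LD1_c5 LD2_c4 LD3_c8) (LK LD1_c2 LD2_c29 LD3_c30) Lrfl Lrfl
theorem f249975 : Led Lsl_gf (LP (LK LD1_c2 LD2_c29 LD3_c24)) = (LP (LK LD1_c5 LD2_c3 LD3_c29)) :=
  Lgr Lrot143 (Lpr_dt (K10.f165587 IH) (Lpe (K8.f165583 IH) (Lpr_df (K9.f166679 IH) (Lpe (K9.f53239 IH) (Lpr_df (K13.f180598 IH) (Lpe (K13.f186838 IH) (Lpe (K10.f185399 IH) (Lpe (f186771 IH) (Lpr_dt (f249952 IH) (Lpn (LP (LK LD1_c5 LD2_c3 LD3_c29))))))))))))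
theorem f22224 : Led Lsl_gt (LP (LK LD1_c1 LD2_c12 LD3_c28)) = (LP (LK LD1_c2 LD2_c30 LD3_c54)) :=
  Lre_g IH (LK LD1_c1 LD2_c12 LD3_c28) (LK LD1_c2 LD2_c30 LD3_c54) Lrfl Lrfl
theorem f194087 : Led Lsl_cf (LP (LK LD1_c5 LD2_c4 LD3_c8)) = (LP (LK LD1_c2 LD2_c30 LD3_c54)) :=
  Lgr Lrot169 (Lpr_gt (f165445 IH) (Lpr_ct (f166254 IH) (Lpe (K10.f21248 IH) (Lpe (K9.f21247 IH) (Lpr_gf (K9.f164170 IH) (Lpe (K8.f163701 IH) (Lpr_gf (K10.f194079 IH) (Lpe (K10.f68549 IH) (Lpr_gt (f22224 IH) (Lpn (LP (LK LD1_c2 LD2_c30 LD3_c54))))))))))))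
theorem f249981 : Led Lsl_df (LP (LK LD1_c2 LD2_c31 LD3_c59)) = (LP (LK LD1_c5 LD2_c4 LD3_c8)) :=
  Lgr Lrot162 (Lpe (K10.f22020 IH) (Lpe (K10.f22011 IH) (Lpe (K10.f22104 IH) (Lpe (K10.f180538 IH) (Lpr_dt (f249952 IH) (Lpe (f249975 IH) (Lpr_ct (K10.f165653 IH) (Lpr_gt (f22224 IH) (Lpe (f194087 IH) (Lpn (LP (LK LD1_c5 LD2_c4 LD3_c8))))))))))))
theorem f212004 : Led Lsl_gt (LP (LK LD1_c0 LD2_c34 LD3_c7)) = (LP (LK LD1_c1 LD2_c13 LD3_c23)) :=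
  Lgr Lrot49 (Lpe (K10.f165513 IH) (Lpr_gf (K10.f184887 IH) (Lpe (K1.f32278 IH) (Lpe (K9.f31615 IH) (Lpr_dt (K9.f28353 IH) (Lpr_gt (K12.f212000 IH) (Lpr_dt (K10.f169333 IH) (Lpe (K13.f167627 IH) (Lpr_df (K10.f184999 IH) (Lpn (LP (LK LD1_c1 LD2_c13 LD3_c23))))))))))))
theorem f250049 : Led Lsl_cf (LP (LK LD1_c2 LD2_c28 LD3_c50)) = (LP (LK LD1_c1 LD2_c13 LD3_c23)) :=
  Lgr Lrot175 (Lpr_dt (f177356 IH) (Lpr_cf (f250035 IH) (Lpe (f186166 IH) (Lpe (f166254 IH) (Lpe (f165445 IH) (Lpe (f249981 IH) (Lpr_gt (K10.f165511 IH) (Lpr_ct (K10.f165510 IH) (Lpr_gt (f212004 IH) (Lpn (LP (LK LD1_c1 LD2_c13 LD3_c23))))))))))))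
theorem f165655 : Led Lsl_dt (LP (LK LD1_c5 LD2_c2 LD3_c32)) = (LP (LK LD1_c2 LD2_c28 LD3_c50)) :=
  Lre_d IH (LK LD1_c5 LD2_c2 LD3_c32) (LK LD1_c2 LD2_c28 LD3_c50) Lrfl Lrfl
theorem f250057 : Led Lsl_df (LP (LK LD1_c5 LD2_c4 LD3_c8)) = (LP (LK LD1_c2 LD2_c31 LD3_c59)) :=
  Lgr Lrot155 (Lpr_gt (f165445 IH) (Lpr_ct (f166254 IH) (Lpr_gt (f186166 IH) (Lpe (f250035 IH) (Lpr_dt (f165655 IH) (Lpr_cf (f250049 IH) (Lpe (f212004 IH) (Lpe (K10.f165510 IH) (Lpe (K10.f165511 IH) (Lpn (LP (LK LD1_c2 LD2_c31 LD3_c59))))))))))))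
theorem f165498 : Led Lsl_ct (LP (LK LD1_c1 LD2_c13 LD3_c27)) = (LP (LK LD1_c0 LD2_c34 LD3_c1)) :=
  Lre_c IH (LK LD1_c1 LD2_c13 LD3_c27) (LK LD1_c0 LD2_c34 LD3_c1) Lrfl Lrfl
theorem f186574 : Led Lsl_gf (LP (LK LD1_c1 LD2_c13 LD3_c27)) = (LP (LK LD1_c1 LD2_c9 LD3_c37)) :=
  Lgr Lrot147 (Lpr_ct (f165498 IH) (Lpr_gt (K9.f165497 IH) (Lpr_ct (K10.f185084 IH) (Lpe (K10.f185085 IH) (Lpr_cf (K10.f186565 IH) (Lpr_gf (K10.f163936 IH) (Lpe (K8.f163771 IH) (Lpe (K10.f59574 IH) (Lpe (K10.f180635 IH) (Lpn (LP (LK LD1_c1 LD2_c9 LD3_c37))))))))))))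
theorem f250182 : Led Lsl_df (LP (LK LD1_c2 LD2_c30 LD3_c54)) = (LP (LK LD1_c1 LD2_c13 LD3_c27)) :=
  Lgr Lrot174 (Lpe (f194087 IH) (Lpr_df (f250057 IH) (Lpe (K10.f186784 IH) (Lpr_df (K10.f186606 IH) (Lpe (K10.f21388 IH) (Lpe (K8.f163718 IH) (Lpr_gt (K10.f180661 IH) (Lpe (K10.f180637 IH) (Lpe (f186574 IH) (Lpn (LP (LK LD1_c1 LD2_c13 LD3_c27))))))))))))
theorem f250187 : Led Lsl_gt (LP (LK LD1_c2 LD2_c30 LD3_c54)) = (LP (LK LD1_c1 LD2_c12 LD3_c31)) :=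
  Lgr Lrot49 (Lpr_df (f250182 IH) (Lpr_gf (f186574 IH) (Lpe (K10.f31693 IH) (Lpe (K10.f180533 IH) (Lpr_dt (K9.f53205 IH) (Lpr_gt (K9.f53204 IH) (Lpr_dt (K9.f6761 IH) (Lpe (K9.f53198 IH) (Lpe (K10.f53188 IH) (Lpn (LP (LK LD1_c1 LD2_c12 LD3_c31))))))))))))
theorem f186782 : Led Lsl_cf (LP (LK LD1_c1 LD2_c13 LD3_c59)) = (LP (LK LD1_c2 LD2_c32 LD3_c22)) :=
  Lgr Lrot14 (Lpe (K10.f186660 IH) (Lpe (K10.f186664 IH) (Lpe (K8.f3165 IH) (Lpr_gf (K9.f165455 IH) (Lpr_ct (K10.f186773 IH) (Lpe (K10.f186723 IH) (Lpr_dt (K9.f31690 IH) (Lpr_gt (K10.f171618 IH) (Lpr_dt (f171621 IH) (Lpn (LP (LK LD1_c2 LD2_c32 LD3_c22))))))))))))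
theorem f249917 : Led Lsl_af (LP (LK LD1_c1 LD2_c12 LD3_c31)) = (LP (LK LD1_c1 LD2_c13 LD3_c59)) :=
  Lgr Lrot68 (Lpr_ct (f249915 IH) (Lpr_at (f248828 IH) (Lpe (f186782 IH) (Lpn (LP (LK LD1_c1 LD2_c13 LD3_c59))))))
theorem f250202 : Led Lsl_ft (LP (LK LD1_c1 LD2_c12 LD3_c28)) = (LP (LK LD1_c1 LD2_c13 LD3_c59)) :=
  Lgr Lrot2 (Lpr_gt (f22224 IH) (Lpr_gt (f250187 IH) (Lpr_af (f249917 IH) (Lpn (LP (LK LD1_c1 LD2_c13 LD3_c59))))))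
theorem f194085 : Led Lsl_cf (LP (LK LD1_c0 LD2_c32 LD3_c12)) = (LP (LK LD1_c0 LD2_c33 LD3_c34)) :=
  Lgr Lrot166 (Lpr_gt (K10.f31675 IH) (Lpr_dt (K9.f31555 IH) (Lpe (K9.f31615 IH) (Lpr_dt (K9.f28353 IH) (Lpr_ct (K9.f28369 IH) (Lpr_df (K9.f177199 IH) (Lpr_gf (K9.f164109 IH) (Lpe (K8.f163641 IH) (Lpr_gf (K10.f194079 IH) (Lpn (LP (LK LD1_c0 LD2_c33 LD3_c34))))))))))))
theorem f249919 : Led Lsl_cf (LP (LK LD1_c1 LD2_c12 LD3_c31)) = (LP (LK LD1_c2 LD2_c29 LD3_c15)) :=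
  Lgr Lrot11 (Lpr_ct (f249915 IH) (Lpn (LP (LK LD1_c2 LD2_c29 LD3_c15))))
theorem f248472 : Led Lsl_bt (LP (LK LD1_c2 LD2_c6 LD3_c45)) = (LP (LK LD1_c1 LD2_c0 LD3_c24)) :=
  Lre_b IH (LK LD1_c2 LD2_c6 LD3_c45) (LK LD1_c1 LD2_c0 LD3_c24) Lrfl Lrfl
theorem f248476 : Led Lsl_dt (LP (LK LD1_c1 LD2_c0 LD3_c24)) = (LP (LK LD1_c0 LD2_c33 LD3_c13)) :=
  Lgr Lrot79 (Lpe (f248472 IH) (Lpr_df (f248470 IH) (Lpe (K9.f165818 IH) (Lpn (LP (LK LD1_c0 LD2_c33 LD3_c13))))))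
theorem f250212 : Led Lsl_ct (LP (LK LD1_c0 LD2_c27 LD3_c31)) = (LP (LK LD1_c1 LD2_c0 LD3_c24)) :=
  Lre_c IH (LK LD1_c0 LD2_c27 LD3_c31) (LK LD1_c1 LD2_c0 LD3_c24) Lrfl Lrfl
theorem f250213 : Led Lsl_dt (LP (LK LD1_c0 LD2_c32 LD3_c12)) = (LP (LK LD1_c0 LD2_c27 LD3_c31)) :=
  Lgr Lrot32 (Lpr_cf (f194085 IH) (Lpe (K10.f68549 IH) (Lpr_ft (f250202 IH) (Lpe (f249917 IH) (Lpr_cf (f249919 IH) (Lpe (f165813 IH) (Lpe (K9.f165428 IH) (Lpe (f248476 IH) (Lpe (f250212 IH) (Lpn (LP (LK LD1_c0 LD2_c27 LD3_c31))))))))))))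
theorem f193359 : Led Lsl_bf (LP (LK LD1_c0 LD2_c32 LD3_c12)) = (LP (LK LD1_c0 LD2_c15 LD3_c21)) :=
  Lgr Lrot165 (Lpr_gt (K10.f31675 IH) (Lpe (K2.f71479 IH) (Lpe (K10.f185082 IH) (Lpe (K10.f164696 IH) (Lpr_bt (K13.f185096 IH) (Lpr_gt (K10.f193353 IH) (Lpe (K13.f34769 IH) (Lpe (K8.f34885 IH) (Lpr_gt (K10.f185750 IH) (Lpe (K10.f165464 IH) (Lpn (LP (LK LD1_c0 LD2_c15 LD3_c21)))))))))))))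
theorem f242716 : Led Lsl_et (LP (LK LD1_c0 LD2_c32 LD3_c12)) = (LP (LK LD1_c1 LD2_c6 LD3_c36)) :=
  Lgr Lrot74 (Lpr_bf (f193359 IH) (Lpe (K13.f20535 IH) (Lpr_bf (K13.f242653 IH) (Lpn (LP (LK LD1_c1 LD2_c6 LD3_c36))))))
theorem f250225 : Led Lsl_gt (LP (LK LD1_c0 LD2_c26 LD3_c7)) = (LP (LK LD1_c0 LD2_c27 LD3_c31)) :=
  Lgr Lrot112 (Lpe (K9.f59134 IH) (Lpe (K9.f59129 IH) (Lpe (K10.f186048 IH) (Lpe (K10.f176679 IH) (Lpr_dt (K11.f175534 IH) (Lpr_gf (K12.f186448 IH) (Lpr_df (K10.f28386 IH) (Lpe (K13.f242634 IH) (Lpe (f242716 IH) (Lpr_dt (f250213 IH) (Lpn (LP (LK LD1_c0 LD2_c27 LD3_c31)))))))))))))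
theorem f250229 : Led Lsl_gf (LP (LK LD1_c0 LD2_c58 LD3_c46)) = (LP (LK LD1_c1 LD2_c0 LD3_c24)) :=
  Lgr Lrot104 (Lpe (K9.f166694 IH) (Lpe (K9.f177148 IH) (Lpe (f165498 IH) (Lpr_gf (f186574 IH) (Lpe (K10.f31693 IH) (Lpr_gf (K9.f101517 IH) (Lpe (K9.f8259 IH) (Lpr_gt (f250225 IH) (Lpr_ct (f250212 IH) (Lpn (LP (LK LD1_c1 LD2_c0 LD3_c24))))))))))))
theorem f171221 : Led Lsl_ft (LP (LK LD1_c1 LD2_c0 LD3_c24)) = (LP (LK LD1_c0 LD2_c27 LD3_c25)) :=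
  Lre_f IH (LK LD1_c1 LD2_c0 LD3_c24) (LK LD1_c0 LD2_c27 LD3_c25) Lrfl Lrfl
theorem f250231 : Led Lsl_af (LP (LK LD1_c0 LD2_c26 LD3_c37)) = (LP (LK LD1_c0 LD2_c27 LD3_c25)) :=
  Lgr Lrot31 (Lpe (K9.f53239 IH) (Lpr_gf (f250229 IH) (Lpr_ft (f171221 IH) (Lpn (LP (LK LD1_c0 LD2_c27 LD3_c25))))))
theorem f250248 : Led Lsl_at (LP (LK LD1_c0 LD2_c11 LD3_c48)) = (LP (LK LD1_c0 LD2_c12 LD3_c8)) :=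
  Lgr Lrot80 (Lpe (K9.f166476 IH) (Lpr_af (f250231 IH) (Lpe (K12.f171216 IH) (Lpn (LP (LK LD1_c0 LD2_c12 LD3_c8))))))
theorem f250258 : Led Lsl_ff (LP (LK LD1_c0 LD2_c11 LD3_c48)) = (LP (LK LD1_c0 LD2_c12 LD3_c12)) :=
  Lgr Lrot52 (Lpr_at (f250248 IH) (Lpr_gf (K9.f171185 IH) (Lpe (K9.f179726 IH) (Lpn (LP (LK LD1_c0 LD2_c12 LD3_c12))))))
theorem f250269 : Led Lsl_ft (LP (LK LD1_c0 LD2_c11 LD3_c48)) = (LP (LK LD1_c0 LD2_c12 LD3_c12)) :=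
  Lgr Lrot48 (Lpr_ff (f250258 IH) (Lpn (LP (LK LD1_c0 LD2_c12 LD3_c12))))
theorem f250279 : Led Lsl_af (LP (LK LD1_c0 LD2_c11 LD3_c51)) = (LP (LK LD1_c0 LD2_c12 LD3_c12)) :=
  Lgr Lrot31 (Lpr_gf (K9.f167236 IH) (Lpe (K9.f166442 IH) (Lpr_ft (f250269 IH) (Lpn (LP (LK LD1_c0 LD2_c12 LD3_c12))))))
theorem f250250 : Led Lsl_af (LP (LK LD1_c0 LD2_c11 LD3_c48)) = (LP (LK LD1_c0 LD2_c12 LD3_c8)) :=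
  Lgr Lrot0 (Lpr_at (f250248 IH) (Lpn (LP (LK LD1_c0 LD2_c12 LD3_c8))))
theorem f250293 : Led Lsl_ft (LP (LK LD1_c0 LD2_c11 LD3_c51)) = (LP (LK LD1_c0 LD2_c12 LD3_c8)) :=
  Lgr Lrot101 (Lpr_af (f250279 IH) (Lpe (f250269 IH) (Lpr_af (f250250 IH) (Lpn (LP (LK LD1_c0 LD2_c12 LD3_c8))))))
theorem f250303 : Led Lsl_ff (LP (LK LD1_c0 LD2_c11 LD3_c51)) = (LP (LK LD1_c0 LD2_c12 LD3_c8)) :=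
  Lgr Lrot3 (Lpr_ft (f250293 IH) (Lpn (LP (LK LD1_c0 LD2_c12 LD3_c8))))
theorem f178296 : Led Lsl_ft (LP (LK LD1_c0 LD2_c26 LD3_c46)) = (LP (LK LD1_c0 LD2_c58 LD3_c59)) :=
  Lre_f IH (LK LD1_c0 LD2_c26 LD3_c46) (LK LD1_c0 LD2_c58 LD3_c59) Lrfl Lrfl
theorem f250311 : Led Lsl_et (LP (LK LD1_c0 LD2_c58 LD3_c59)) = (LP (LK LD1_c1 LD2_c0 LD3_c24)) :=
  Lgr Lrot69 (Lpe (f178296 IH) (Lpe (K9.f178291 IH) (Lpr_ff (f250303 IH) (Lpe (K9.f171207 IH) (Lpe (f171221 IH) (Lpn (LP (LK LD1_c1 LD2_c0 LD3_c24))))))))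
theorem f250317 : Led Lsl_dt (LP (LK LD1_c0 LD2_c58 LD3_c59)) = (LP (LK LD1_c1 LD2_c3 LD3_c8)) :=
  Lgr Lrot56 (Lpr_et (f250311 IH) (Lpe (f250229 IH) (Lpr_ef (K9.f181875 IH) (Lpe (K9.f178475 IH) (Lpe (K9.f41096 IH) (Lpe (K1.f40834 IH) (Lpr_et (K1.f41312 IH) (Lpr_gt (K9.f181948 IH) (Lpr_dt (K13.f174974 IH) (Lpr_gt (K13.f174975 IH) (Lpn (LP (LK LD1_c1 LD2_c3 LD3_c8)))))))))))))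
theorem f248860 : Led Lsl_ct (LP (LK LD1_c1 LD2_c0 LD3_c24)) = (LP (LK LD1_c0 LD2_c27 LD3_c31)) :=
  Lre_c IH (LK LD1_c1 LD2_c0 LD3_c24) (LK LD1_c0 LD2_c27 LD3_c31) Lrfl Lrfl
theorem f250222 : Led Lsl_gt (LP (LK LD1_c0 LD2_c57 LD3_c22)) = (LP (LK LD1_c1 LD2_c0 LD3_c24)) :=
  Lgr Lrot187 (Lpe (K10.f186788 IH) (Lpe (K10.f178993 IH) (Lpr_dt (K9.f21232 IH) (Lpr_gt (K9.f3770 IH) (Lpr_ct (K8.f3274 IH) (Lpr_gt (K10.f3290 IH) (Lpe (f194085 IH) (Lpr_dt (f250213 IH) (Lpe (f248860 IH) (Lpn (LP (LK LD1_c1 LD2_c0 LD3_c24))))))))))))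
theorem f22055 : Led Lsl_dt (LP (LK LD1_c0 LD2_c26 LD3_c1)) = (LP (LK LD1_c0 LD2_c57 LD3_c21)) :=
  Lre_d IH (LK LD1_c0 LD2_c26 LD3_c1) (LK LD1_c0 LD2_c57 LD3_c21) Lrfl Lrfl
theorem f165004 : Led Lsl_dt (LP (LK LD1_c1 LD2_c2 LD3_c55)) = (LP (LK LD1_c2 LD2_c11 LD3_c51)) :=
  Lre_d IH (LK LD1_c1 LD2_c2 LD3_c55) (LK LD1_c2 LD2_c11 LD3_c51) Lrfl Lrfl
theorem f250327 : Led Lsl_gf (LP (LK LD1_c0 LD2_c58 LD3_c59)) = (LP (LK LD1_c0 LD2_c36 LD3_c44)) :=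
  Lgr Lrot143 (Lpr_dt (f250317 IH) (Lpe (K12.f173928 IH) (Lpe (K12.f172406 IH) (Lpr_gf (K12.f226699 IH) (Lpe (f165004 IH) (Lpe (K9.f173402 IH) (Lpe (K1.f40770 IH) (Lpr_gt (K9.f20824 IH) (Lpr_dt (f171268 IH) (Lpn (LP (LK LD1_c0 LD2_c36 LD3_c44))))))))))))
theorem f28376 : Led Lsl_et (LP (LK LD1_c0 LD2_c14 LD3_c55)) = (LP (LK LD1_c0 LD2_c33 LD3_c12)) :=
  Lre_e IH (LK LD1_c0 LD2_c14 LD3_c55) (LK LD1_c0 LD2_c33 LD3_c12) Lrfl Lrfl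
theorem f250333 : Led Lsl_gf (LP (LK LD1_c0 LD2_c33 LD3_c12)) = (LP (LK LD1_c0 LD2_c28 LD3_c48)) :=
  Lgr Lrot141 (Lpe (f28376 IH) (Lpr_dt (K9.f28373 IH) (Lpr_gt (K9.f169830 IH) (Lpe (K9.f171235 IH) (Lpr_et (K9.f171231 IH) (Lpe (f250327 IH) (Lpr_dt (f250317 IH) (Lpr_gt (K12.f167907 IH) (Lpe (K9.f167837 IH) (Lpr_et (K9.f167865 IH) (Lpn (LP (LK LD1_c0 LD2_c28 LD3_c48)))))))))))))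
theorem f250335 : Led Lsl_gf (LP (LK LD1_c0 LD2_c57 LD3_c21)) = (LP (LK LD1_c1 LD2_c11 LD3_c43)) :=
  Lgr Lrot134 (Lpe (f22055 IH) (Lpr_et (K13.f22024 IH) (Lpr_gt (f250222 IH) (Lpe (f250311 IH) (Lpr_dt (f250317 IH) (Lpr_gt (K12.f167907 IH) (Lpe (K9.f167837 IH) (Lpr_et (K9.f167865 IH) (Lpe (f250333 IH) (Lpr_dt (K8.f21285 IH) (Lpn (LP (LK LD1_c1 LD2_c11 LD3_c43)))))))))))))
theorem f22045 : Led Lsl_gt (LP (LK LD1_c2 LD2_c31 LD3_c60)) = (LP (LK LD1_c5 LD2_c9 LD3_c50)) :=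
  Lre_g IH (LK LD1_c2 LD2_c31 LD3_c60) (LK LD1_c5 LD2_c9 LD3_c50) Lrfl Lrfl
theorem f21306 : Led Lsl_et (LP (LK LD1_c2 LD2_c29 LD3_c9)) = (LP (LK LD1_c1 LD2_c11 LD3_c43)) :=
  Lre_e IH (LK LD1_c2 LD2_c29 LD3_c9) (LK LD1_c1 LD2_c11 LD3_c43) Lrfl Lrfl
theorem f21307 : Led Lsl_dt (LP (LK LD1_c2 LD2_c29 LD3_c9)) = (LP (LK LD1_c1 LD2_c11 LD3_c42)) :=
  Lre_d IH (LK LD1_c2 LD2_c29 LD3_c9) (LK LD1_c1 LD2_c11 LD3_c42) Lrfl Lrfl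
theorem f54863 : Led Lsl_et (LP (LK LD1_c1 LD2_c56 LD3_c4)) = (LP (LK LD1_c0 LD2_c54 LD3_c45)) :=
  Lre_e IH (LK LD1_c1 LD2_c56 LD3_c4) (LK LD1_c0 LD2_c54 LD3_c45) Lrfl Lrfl
theorem f171270 : Led Lsl_et (LP (LK LD1_c0 LD2_c54 LD3_c45)) = (LP (LK LD1_c1 LD2_c56 LD3_c4)) :=
  Lre_e IH (LK LD1_c0 LD2_c54 LD3_c45) (LK LD1_c1 LD2_c56 LD3_c4) Lrfl Lrfl
theorem f165283 : Led Lsl_et (LP (LK LD1_c2 LD2_c28 LD3_c48)) = (LP (LK LD1_c1 LD2_c11 LD3_c34)) :=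
  Lre_e IH (LK LD1_c2 LD2_c28 LD3_c48) (LK LD1_c1 LD2_c11 LD3_c34) Lrfl Lrfl
theorem f171271 : Led Lsl_dt (LP (LK LD1_c1 LD2_c56 LD3_c4)) = (LP (LK LD1_c2 LD2_c28 LD3_c48)) :=
  Lgr Lrot77 (Lpe (f171270 IH) (Lpr_df (K9.f171261 IH) (Lpe (K9.f171231 IH) (Lpr_df (K9.f171233 IH) (Lpe (f165283 IH) (Lpn (LP (LK LD1_c2 LD2_c28 LD3_c48))))))))
theorem f250340 : Led Lsl_gt (LP (LK LD1_c2 LD2_c28 LD3_c48)) = (LP (LK LD1_c1 LD2_c11 LD3_c42)) :=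
  Lgr Lrot112 (Lpe (f171271 IH) (Lpr_et (f54863 IH) (Lpe (K9.f20824 IH) (Lpr_ef (K9.f54854 IH) (Lpr_dt (K1.f8118 IH) (Lpe (K10.f8129 IH) (Lpe (K13.f22025 IH) (Lpr_gf (f250335 IH) (Lpe (f21306 IH) (Lpr_dt (f21307 IH) (Lpn (LP (LK LD1_c1 LD2_c11 LD3_c42)))))))))))))
theorem f171279 : Led Lsl_gt (LP (LK LD1_c3 LD2_c58 LD3_c39)) = (LP (LK LD1_c1 LD2_c56 LD3_c4)) :=
  Lre_g IH (LK LD1_c3 LD2_c58 LD3_c39) (LK LD1_c1 LD2_c56 LD3_c4) Lrfl Lrfl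
theorem f171284 : Led Lsl_et (LP (LK LD1_c7 LD2_c58 LD3_c51)) = (LP (LK LD1_c3 LD2_c58 LD3_c39)) :=
  Lre_e IH (LK LD1_c7 LD2_c58 LD3_c51) (LK LD1_c3 LD2_c58 LD3_c39) Lrfl Lrfl
theorem f250342 : Led Lsl_df (LP (LK LD1_c5 LD2_c9 LD3_c50)) = (LP (LK LD1_c7 LD2_c58 LD3_c51)) :=
  Lgr Lrot168 (Lpe (f22045 IH) (Lpr_df (K13.f22039 IH) (Lpr_et (K13.f22026 IH) (Lpr_gf (f250335 IH) (Lpe (f21306 IH) (Lpr_dt (f21307 IH) (Lpe (f250340 IH) (Lpe (f171271 IH) (Lpe (f171279 IH) (Lpe (f171284 IH) (Lpn (LP (LK LD1_c7 LD2_c58 LD3_c51)))))))))))))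
theorem f250321 : Led Lsl_df (LP (LK LD1_c0 LD2_c58 LD3_c59)) = (LP (LK LD1_c1 LD2_c3 LD3_c8)) :=
  Lgr Lrot38 (Lpr_dt (f250317 IH) (Lpn (LP (LK LD1_c1 LD2_c3 LD3_c8))))
theorem f173976 : Led Lsl_et (LP (LK LD1_c1 LD2_c3 LD3_c8)) = (LP (LK LD1_c2 LD2_c12 LD3_c22)) :=
  Lre_e IH (LK LD1_c1 LD2_c3 LD3_c8) (LK LD1_c2 LD2_c12 LD3_c22) Lrfl Lrfl
theorem f250349 : Led Lsl_gf (LP (LK LD1_c2 LD2_c0 LD3_c48)) = (LP (LK LD1_c2 LD2_c12 LD3_c22)) :=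
  Lgr Lrot138 (Lpe (K13.f22039 IH) (Lpr_gt (f22045 IH) (Lpr_df (f250342 IH) (Lpr_et (f171284 IH) (Lpr_gt (f171279 IH) (Lpe (f171270 IH) (Lpr_dt (f171268 IH) (Lpe (f250327 IH) (Lpr_df (f250321 IH) (Lpr_et (f173976 IH) (Lpn (LP (LK LD1_c2 LD2_c12 LD3_c22)))))))))))))
theorem f22048 : Led Lsl_et (LP (LK LD1_c2 LD2_c31 LD3_c60)) = (LP (LK LD1_c1 LD2_c13 LD3_c0)) :=
  Lre_e IH (LK LD1_c2 LD2_c31 LD3_c60) (LK LD1_c1 LD2_c13 LD3_c0) Lrfl Lrfl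
theorem f250351 : Led Lsl_dt (LP (LK LD1_c1 LD2_c11 LD3_c46)) = (LP (LK LD1_c2 LD2_c12 LD3_c22)) :=
  Lgr Lrot136 (Lpr_et (f21333 IH) (Lpe (K9.f21275 IH) (Lpe (K0.f21281 IH) (Lpr_dt (K8.f21325 IH) (Lpe (K10.f21331 IH) (Lpe (K10.f21332 IH) (Lpr_gf (K10.f185354 IH) (Lpe (f22048 IH) (Lpr_dt (K13.f22027 IH) (Lpr_gf (f250349 IH) (Lpn (LP (LK LD1_c2 LD2_c12 LD3_c22)))))))))))))
theorem f249039 : Led Lsl_bt (LP (LK LD1_c2 LD2_c29 LD3_c13)) = (LP (LK LD1_c1 LD2_c11 LD3_c46)) :=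
  Lre_b IH (LK LD1_c2 LD2_c29 LD3_c13) (LK LD1_c1 LD2_c11 LD3_c46) Lrfl Lrfl
theorem f173959 : Led Lsl_bt (LP (LK LD1_c2 LD2_c12 LD3_c22)) = (LP (LK LD1_c4 LD2_c30 LD3_c54)) :=
  Lre_b IH (LK LD1_c2 LD2_c12 LD3_c22) (LK LD1_c4 LD2_c30 LD3_c54) Lrfl Lrfl
theorem f250353 : Led Lsl_df (LP (LK LD1_c2 LD2_c29 LD3_c13)) = (LP (LK LD1_c4 LD2_c30 LD3_c54)) :=
  Lgr Lrot12 (Lpr_bt (f249039 IH) (Lpr_dt (f250351 IH) (Lpr_bt (f173959 IH) (Lpn (LP (LK LD1_c4 LD2_c30 LD3_c54))))))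
theorem f184052 : Led Lsl_et (LP (LK LD1_c2 LD2_c29 LD3_c13)) = (LP (LK LD1_c1 LD2_c11 LD3_c44)) :=
  Lre_e IH (LK LD1_c2 LD2_c29 LD3_c13) (LK LD1_c1 LD2_c11 LD3_c44) Lrfl Lrfl
theorem f228905 : Led Lsl_bt (LP (LK LD1_c2 LD2_c3 LD3_c54)) = (LP (LK LD1_c0 LD2_c58 LD3_c59)) :=
  Lre_b IH (LK LD1_c2 LD2_c3 LD3_c54) (LK LD1_c0 LD2_c58 LD3_c59) Lrfl Lrfl
theorem f250224 : Led Lsl_bt (LP (LK LD1_c1 LD2_c0 LD3_c24)) = (LP (LK LD1_c2 LD2_c6 LD3_c45)) :=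
  Lre_b IH (LK LD1_c1 LD2_c0 LD3_c24) (LK LD1_c2 LD2_c6 LD3_c45) Lrfl Lrfl
theorem f250313 : Led Lsl_ef (LP (LK LD1_c2 LD2_c3 LD3_c54)) = (LP (LK LD1_c2 LD2_c6 LD3_c45)) :=
  Lgr Lrot29 (Lpr_bt (f228905 IH) (Lpr_et (f250311 IH) (Lpr_bt (f250224 IH) (Lpn (LP (LK LD1_c2 LD2_c6 LD3_c45))))))
theorem f250388 : Led Lsl_et (LP (LK LD1_c2 LD2_c12 LD3_c21)) = (LP (LK LD1_c4 LD2_c30 LD3_c54)) :=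
  Lre_e IH (LK LD1_c2 LD2_c12 LD3_c21) (LK LD1_c4 LD2_c30 LD3_c54) Lrfl Lrfl
theorem f250389 : Led Lsl_dt (LP (LK LD1_c2 LD2_c3 LD3_c54)) = (LP (LK LD1_c2 LD2_c12 LD3_c21)) :=
  Lgr Lrot77 (Lpr_ef (f250313 IH) (Lpr_df (f248470 IH) (Lpe (f184052 IH) (Lpr_df (f250353 IH) (Lpe (f250388 IH) (Lpn (LP (LK LD1_c2 LD2_c12 LD3_c21))))))))
theorem f41405 : Led Lsl_dt (LP (LK LD1_c0 LD2_c32 LD3_c21)) = (LP (LK LD1_c1 LD2_c9 LD3_c59)) :=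
  Lre_d IH (LK LD1_c0 LD2_c32 LD3_c21) (LK LD1_c1 LD2_c9 LD3_c59) Lrfl Lrfl
theorem f246661 : Led Lsl_gt (LP (LK LD1_c2 LD2_c6 LD3_c45)) = (LP (LK LD1_c4 LD2_c13 LD3_c15)) :=
  Lgr Lrot5 (Lpr_ft (f171469 IH) (Lpr_at (f171715 IH) (Lpr_gf (f246659 IH) (Lpn (LP (LK LD1_c4 LD2_c13 LD3_c15))))))
theorem f250418 : Led Lsl_et (LP (LK LD1_c2 LD2_c3 LD3_c54)) = (LP (LK LD1_c2 LD2_c6 LD3_c45)) :=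
  Lgr Lrot185 (Lpr_dt (f250389 IH) (Lpr_gf (K13.f235749 IH) (Lpe (f41405 IH) (Lpe (K12.f41404 IH) (Lpr_ef (K1.f41387 IH) (Lpr_dt (f41237 IH) (Lpe (K9.f41406 IH) (Lpr_df (f246595 IH) (Lpr_et (f246638 IH) (Lpe (f246661 IH) (Lpn (LP (LK LD1_c2 LD2_c6 LD3_c45)))))))))))))
theorem f228819 : Led Lsl_ft (LP (LK LD1_c0 LD2_c58 LD3_c55)) = (LP (LK LD1_c2 LD2_c3 LD3_c54)) :=
  Lre_f IH (LK LD1_c0 LD2_c58 LD3_c55) (LK LD1_c2 LD2_c3 LD3_c54) Lrfl Lrfl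
theorem f228893 : Led Lsl_ft (LP (LK LD1_c2 LD2_c2 LD3_c41)) = (LP (LK LD1_c0 LD2_c58 LD3_c14)) :=
  Lre_f IH (LK LD1_c2 LD2_c2 LD3_c41) (LK LD1_c0 LD2_c58 LD3_c14) Lrfl Lrfl
theorem f228894 : Led Lsl_ct (LP (LK LD1_c2 LD2_c3 LD3_c54)) = (LP (LK LD1_c2 LD2_c2 LD3_c41)) :=
  Lgr Lrot40 (Lpe (f228819 IH) (Lpr_cf (K12.f228808 IH) (Lpe (f228893 IH) (Lpn (LP (LK LD1_c2 LD2_c2 LD3_c41))))))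
theorem f228902 : Led Lsl_cf (LP (LK LD1_c2 LD2_c3 LD3_c54)) = (LP (LK LD1_c2 LD2_c2 LD3_c41)) :=
  Lgr Lrot11 (Lpr_ct (f228894 IH) (Lpn (LP (LK LD1_c2 LD2_c2 LD3_c41))))
theorem f230270 : Led Lsl_ct (LP (LK LD1_c2 LD2_c36 LD3_c22)) = (LP (LK LD1_c4 LD2_c18 LD3_c41)) :=
  Lgr Lrot7 (Lpe (K12.f44266 IH) (Lpe (K12.f44265 IH) (Lpe (K1.f44047 IH) (Lpe (K10.f184620 IH) (Lpe (K10.f189581 IH) (Lpr_gt (K10.f189543 IH) (Lpr_dt (K9.f43345 IH) (Lpr_gt (K12.f43794 IH) (Lpr_dt (K12.f229924 IH) (Lpn (LP (LK LD1_c4 LD2_c18 LD3_c41))))))))))))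
theorem f230284 : Led Lsl_ct (LP (LK LD1_c2 LD2_c6 LD3_c45)) = (LP (LK LD1_c2 LD2_c5 LD3_c47)) :=
  Lgr Lrot111 (Lpe (f230269 IH) (Lpe (f230270 IH) (Lpr_af (K12.f230280 IH) (Lpn (LP (LK LD1_c2 LD2_c5 LD3_c47))))))
theorem f250422 : Led Lsl_ef (LP (LK LD1_c2 LD2_c2 LD3_c41)) = (LP (LK LD1_c2 LD2_c5 LD3_c47)) :=
  Lgr Lrot28 (Lpe (f228902 IH) (Lpr_et (f250418 IH) (Lpr_ct (f230284 IH) (Lpn (LP (LK LD1_c2 LD2_c5 LD3_c47))))))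
theorem f248466 : Led Lsl_dt (LP (LK LD1_c2 LD2_c5 LD3_c47)) = (LP (LK LD1_c1 LD2_c14 LD3_c57)) :=
  Lgr Lrot42 (Lpr_df (f248461 IH) (Lpn (LP (LK LD1_c1 LD2_c14 LD3_c57))))
theorem f28306 : Led Lsl_et (LP (LK LD1_c0 LD2_c15 LD3_c41)) = (LP (LK LD1_c0 LD2_c7 LD3_c5)) :=
  Lre_e IH (LK LD1_c0 LD2_c15 LD3_c41) (LK LD1_c0 LD2_c7 LD3_c5) Lrfl Lrfl
theorem f250430 : Led Lsl_gt (LP (LK LD1_c2 LD2_c2 LD3_c41)) = (LP (LK LD1_c1 LD2_c24 LD3_c61)) :=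
  Lgr Lrot137 (Lpr_ef (f250422 IH) (Lpr_dt (f248466 IH) (Lpr_gf (f192119 IH) (Lpe (K1.f28301 IH) (Lpr_et (f28306 IH) (Lpe (K1.f44306 IH) (Lpe (f41428 IH) (Lpr_dt (K12.f42180 IH) (Lpe (K9.f41271 IH) (Lpr_df (K10.f42160 IH) (Lpn (LP (LK LD1_c1 LD2_c24 LD3_c61)))))))))))))
theorem f42169 : Led Lsl_et (LP (LK LD1_c0 LD2_c39 LD3_c9)) = (LP (LK LD1_c1 LD2_c24 LD3_c61)) :=
  Lre_e IH (LK LD1_c0 LD2_c39 LD3_c9) (LK LD1_c1 LD2_c24 LD3_c61) Lrfl Lrfl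
theorem f42121 : Led Lsl_dt (LP (LK LD1_c0 LD2_c39 LD3_c9)) = (LP (LK LD1_c1 LD2_c24 LD3_c60)) :=
  Lre_d IH (LK LD1_c0 LD2_c39 LD3_c9) (LK LD1_c1 LD2_c24 LD3_c60) Lrfl Lrfl
theorem f249214 : Led Lsl_et (LP (LK LD1_c1 LD2_c15 LD3_c18)) = (LP (LK LD1_c0 LD2_c34 LD3_c56)) :=
  Lre_e IH (LK LD1_c1 LD2_c15 LD3_c18) (LK LD1_c0 LD2_c34 LD3_c56) Lrfl Lrfl
theorem f249215 : Led Lsl_dt (LP (LK LD1_c1 LD2_c15 LD3_c18)) = (LP (LK LD1_c2 LD2_c36 LD3_c37)) :=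
  Lre_d IH (LK LD1_c1 LD2_c15 LD3_c18) (LK LD1_c2 LD2_c36 LD3_c37) Lrfl Lrfl
theorem f250432 : Led Lsl_gt (LP (LK LD1_c1 LD2_c24 LD3_c60)) = (LP (LK LD1_c2 LD2_c36 LD3_c37)) :=
  Lgr Lrot112 (Lpe (f42121 IH) (Lpr_et (f42169 IH) (Lpe (f250430 IH) (Lpr_ef (f250422 IH) (Lpr_dt (f248466 IH) (Lpr_gf (f192119 IH) (Lpe (K1.f28301 IH) (Lpe (K12.f28271 IH) (Lpe (f249214 IH) (Lpr_dt (f249215 IH) (Lpn (LP (LK LD1_c2 LD2_c36 LD3_c37)))))))))))))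
theorem f187400 : Led Lsl_dt (LP (LK LD1_c0 LD2_c57 LD3_c14)) = (LP (LK LD1_c2 LD2_c0 LD3_c31)) :=
  Lre_d IH (LK LD1_c0 LD2_c57 LD3_c14) (LK LD1_c2 LD2_c0 LD3_c31) Lrfl Lrfl
theorem f187405 : Led Lsl_gt (LP (LK LD1_c2 LD2_c0 LD3_c31)) = (LP (LK LD1_c4 LD2_c6 LD3_c22)) :=
  Lre_g IH (LK LD1_c2 LD2_c0 LD3_c31) (LK LD1_c4 LD2_c6 LD3_c22) Lrfl Lrfl
theorem f249225 : Led Lsl_dt (LP (LK LD1_c2 LD2_c36 LD3_c37)) = (LP (LK LD1_c1 LD2_c15 LD3_c18)) :=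
  Lre_d IH (LK LD1_c2 LD2_c36 LD3_c37) (LK LD1_c1 LD2_c15 LD3_c18) Lrfl Lrfl
theorem f43842 : Led Lsl_et (LP (LK LD1_c2 LD2_c25 LD3_c4)) = (LP (LK LD1_c1 LD2_c9 LD3_c46)) :=
  Lre_e IH (LK LD1_c2 LD2_c25 LD3_c4) (LK LD1_c1 LD2_c9 LD3_c46) Lrfl Lrfl
theorem f230548 : Led Lsl_et (LP (LK LD1_c0 LD2_c34 LD3_c56)) = (LP (LK LD1_c1 LD2_c15 LD3_c18)) :=
  Lre_e IH (LK LD1_c0 LD2_c34 LD3_c56) (LK LD1_c1 LD2_c15 LD3_c18) Lrfl Lrfl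
theorem f230549 : Led Lsl_cf (LP (LK LD1_c2 LD2_c25 LD3_c4)) = (LP (LK LD1_c1 LD2_c15 LD3_c18)) :=
  Lgr Lrot39 (Lpr_et (f43842 IH) (Lpr_ct (K12.f230542 IH) (Lpr_et (f230548 IH) (Lpn (LP (LK LD1_c1 LD2_c15 LD3_c18))))))
theorem f250435 : Led Lsl_dt (LP (LK LD1_c4 LD2_c6 LD3_c22)) = (LP (LK LD1_c2 LD2_c25 LD3_c4)) :=
  Lgr Lrot113 (Lpe (f187405 IH) (Lpe (f187400 IH) (Lpe (K9.f54977 IH) (Lpr_ct (K9.f44471 IH) (Lpr_gt (K9.f42120 IH) (Lpr_dt (f42121 IH) (Lpr_gt (f250432 IH) (Lpr_dt (f249225 IH) (Lpe (f230549 IH) (Lpn (LP (LK LD1_c2 LD2_c25 LD3_c4))))))))))))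
theorem f250451 : Led Lsl_df (LP (LK LD1_c4 LD2_c6 LD3_c22)) = (LP (LK LD1_c2 LD2_c25 LD3_c4)) :=
  Lgr Lrot38 (Lpr_dt (f250435 IH) (Lpn (LP (LK LD1_c2 LD2_c25 LD3_c4))))
theorem f248480 : Led Lsl_dt (LP (LK LD1_c2 LD2_c6 LD3_c45)) = (LP (LK LD1_c1 LD2_c11 LD3_c44)) :=
  Lgr Lrot42 (Lpr_df (f248470 IH) (Lpn (LP (LK LD1_c1 LD2_c11 LD3_c44))))
theorem f250472 : Led Lsl_gf (LP (LK LD1_c2 LD2_c0 LD3_c32)) = (LP (LK LD1_c2 LD2_c3 LD3_c54)) :=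
  Lgr Lrot141 (Lpe (K12.f187349 IH) (Lpr_dt (f187400 IH) (Lpr_gt (f187405 IH) (Lpr_df (f250451 IH) (Lpr_et (f43842 IH) (Lpr_gt (K12.f31527 IH) (Lpr_dt (K10.f41393 IH) (Lpr_gt (f184044 IH) (Lpe (f248480 IH) (Lpe (f250313 IH) (Lpn (LP (LK LD1_c2 LD2_c3 LD3_c54)))))))))))))
theorem f187342 : Led Lsl_bt (LP (LK LD1_c4 LD2_c6 LD3_c18)) = (LP (LK LD1_c2 LD2_c0 LD3_c32)) :=
  Lre_b IH (LK LD1_c4 LD2_c6 LD3_c18) (LK LD1_c2 LD2_c0 LD3_c32) Lrfl Lrfl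
theorem f228899 : Led Lsl_bt (LP (LK LD1_c0 LD2_c58 LD3_c59)) = (LP (LK LD1_c2 LD2_c3 LD3_c54)) :=
  Lre_b IH (LK LD1_c0 LD2_c58 LD3_c59) (LK LD1_c2 LD2_c3 LD3_c54) Lrfl Lrfl
theorem f228906 : Led Lsl_ct (LP (LK LD1_c0 LD2_c58 LD3_c59)) = (LP (LK LD1_c0 LD2_c26 LD3_c50)) :=
  Lre_c IH (LK LD1_c0 LD2_c58 LD3_c59) (LK LD1_c0 LD2_c26 LD3_c50) Lrfl Lrfl
theorem f228900 : Led Lsl_ct (LP (LK LD1_c0 LD2_c26 LD3_c50)) = (LP (LK LD1_c0 LD2_c58 LD3_c59)) :=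
  Lre_c IH (LK LD1_c0 LD2_c26 LD3_c50) (LK LD1_c0 LD2_c58 LD3_c59) Lrfl Lrfl
theorem f250331 : Led Lsl_gf (LP (LK LD1_c0 LD2_c26 LD3_c50)) = (LP (LK LD1_c0 LD2_c27 LD3_c39)) :=
  Lgr Lrot172 (Lpr_ct (f228900 IH) (Lpr_dt (f250317 IH) (Lpe (K12.f173928 IH) (Lpr_gf (K12.f225246 IH) (Lpe (K9.f168294 IH) (Lpr_gf (K9.f179116 IH) (Lpe (K0.f7723 IH) (Lpr_gt (K9.f7734 IH) (Lpe (K12.f170310 IH) (Lpn (LP (LK LD1_c0 LD2_c27 LD3_c39))))))))))))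
theorem f201238 : Led Lsl_gt (LP (LK LD1_c4 LD2_c3 LD3_c43)) = (LP (LK LD1_c1 LD2_c58 LD3_c50)) :=
  Lre_g IH (LK LD1_c4 LD2_c3 LD3_c43) (LK LD1_c1 LD2_c58 LD3_c50) Lrfl Lrfl
theorem f250478 : Led Lsl_ct (LP (LK LD1_c4 LD2_c6 LD3_c18)) = (LP (LK LD1_c4 LD2_c3 LD3_c43)) :=
  Lgr Lrot64 (Lpr_bt (f187342 IH) (Lpr_gf (f250472 IH) (Lpe (f228899 IH) (Lpr_ct (f228906 IH) (Lpr_gf (f250331 IH) (Lpr_cf (K12.f170310 IH) (Lpe (K9.f7734 IH) (Lpe (K11.f7717 IH) (Lpr_ct (K11.f201107 IH) (Lpe (f201238 IH) (Lpn (LP (LK LD1_c4 LD2_c3 LD3_c43)))))))))))))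
theorem f250482 : Led Lsl_ef (LP (LK LD1_c2 LD2_c10 LD3_c44)) = (LP (LK LD1_c4 LD2_c3 LD3_c43)) :=
  Lgr Lrot28 (Lpr_ct (f179068 IH) (Lpr_et (K12.f179077 IH) (Lpr_ct (f250478 IH) (Lpn (LP (LK LD1_c4 LD2_c3 LD3_c43))))))
theorem f250488 : Led Lsl_et (LP (LK LD1_c2 LD2_c10 LD3_c44)) = (LP (LK LD1_c4 LD2_c3 LD3_c43)) :=
  Lgr Lrot87 (Lpr_ef (f250482 IH) (Lpn (LP (LK LD1_c4 LD2_c3 LD3_c43))))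
theorem f232026 : Led Lsl_et (LP (LK LD1_c0 LD2_c57 LD3_c60)) = (LP (LK LD1_c2 LD2_c2 LD3_c5)) :=
  Lre_e IH (LK LD1_c0 LD2_c57 LD3_c60) (LK LD1_c2 LD2_c2 LD3_c5) Lrfl Lrfl
theorem f232027 : Led Lsl_ef (LP (LK LD1_c2 LD2_c34 LD3_c22)) = (LP (LK LD1_c4 LD2_c9 LD3_c38)) :=
  Lgr Lrot73 (Lpr_dt (K12.f48936 IH) (Lpr_et (K13.f232022 IH) (Lpr_dt (K13.f51459 IH) (Lpr_et (f232026 IH) (Lpr_dt (K13.f653 IH) (Lpn (LP (LK LD1_c4 LD2_c9 LD3_c38))))))))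
theorem f32430 : Led Lsl_ct (LP (LK LD1_c2 LD2_c34 LD3_c22)) = (LP (LK LD1_c5 LD2_c15 LD3_c1)) :=
  Lre_c IH (LK LD1_c2 LD2_c34 LD3_c22) (LK LD1_c5 LD2_c15 LD3_c1) Lrfl Lrfl
theorem f232032 : Led Lsl_ct (LP (LK LD1_c8 LD2_c19 LD3_c18)) = (LP (LK LD1_c4 LD2_c9 LD3_c38)) :=
  Lre_c IH (LK LD1_c8 LD2_c19 LD3_c18) (LK LD1_c4 LD2_c9 LD3_c38) Lrfl Lrfl
theorem f232033 : Led Lsl_et (LP (LK LD1_c5 LD2_c15 LD3_c1)) = (LP (LK LD1_c8 LD2_c19 LD3_c18)) :=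
  Lgr Lrot158 (Lpe (f32430 IH) (Lpr_ef (f232027 IH) (Lpe (f232032 IH) (Lpn (LP (LK LD1_c8 LD2_c19 LD3_c18))))))
theorem f232037 : Led Lsl_bt (LP (LK LD1_c10 LD2_c19 LD3_c30)) = (LP (LK LD1_c5 LD2_c15 LD3_c1)) :=
  Lre_b IH (LK LD1_c10 LD2_c19 LD3_c30) (LK LD1_c5 LD2_c15 LD3_c1) Lrfl Lrfl
theorem f232038 : Led Lsl_bt (LP (LK LD1_c8 LD2_c19 LD3_c18)) = (LP (LK LD1_c15 LD2_c39 LD3_c11)) :=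
  Lre_b IH (LK LD1_c8 LD2_c19 LD3_c18) (LK LD1_c15 LD2_c39 LD3_c11) Lrfl Lrfl
theorem f232039 : Led Lsl_ef (LP (LK LD1_c10 LD2_c19 LD3_c30)) = (LP (LK LD1_c15 LD2_c39 LD3_c11)) :=
  Lgr Lrot29 (Lpr_bt (f232037 IH) (Lpr_et (f232033 IH) (Lpr_bt (f232038 IH) (Lpn (LP (LK LD1_c15 LD2_c39 LD3_c11))))))
theorem f191797 : Led Lsl_bt (LP (LK LD1_c16 LD2_c34 LD3_c40)) = (LP (LK LD1_c8 LD2_c51 LD3_c60)) :=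
  Lre_b IH (LK LD1_c16 LD2_c34 LD3_c40) (LK LD1_c8 LD2_c51 LD3_c60) Lrfl Lrfl
theorem f32431 : Led Lsl_bt (LP (LK LD1_c5 LD2_c15 LD3_c1)) = (LP (LK LD1_c10 LD2_c19 LD3_c30)) :=
  Lre_b IH (LK LD1_c5 LD2_c15 LD3_c1) (LK LD1_c10 LD2_c19 LD3_c30) Lrfl Lrfl
theorem f212235 : Led Lsl_cf (LP (LK LD1_c16 LD2_c34 LD3_c40)) = (LP (LK LD1_c10 LD2_c19 LD3_c30)) :=
  Lgr Lrot97 (Lpr_bt (f191797 IH) (Lpr_ct (K12.f45749 IH) (Lpr_bt (K12.f212229 IH) (Lpr_ct (f32430 IH) (Lpr_bt (f32431 IH) (Lpn (LP (LK LD1_c10 LD2_c19 LD3_c30))))))))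
theorem f232057 : Led Lsl_ct (LP (LK LD1_c25 LD2_c33 LD3_c61)) = (LP (LK LD1_c15 LD2_c39 LD3_c11)) :=
  Lre_c IH (LK LD1_c25 LD2_c33 LD3_c61) (LK LD1_c15 LD2_c39 LD3_c11) Lrfl Lrfl
theorem f232058 : Led Lsl_et (LP (LK LD1_c16 LD2_c34 LD3_c40)) = (LP (LK LD1_c25 LD2_c33 LD3_c61)) :=
  Lgr Lrot158 (Lpr_cf (f212235 IH) (Lpr_ef (f232039 IH) (Lpe (f232057 IH) (Lpn (LP (LK LD1_c25 LD2_c33 LD3_c61))))))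
theorem f232063 : Led Lsl_ef (LP (LK LD1_c16 LD2_c34 LD3_c40)) = (LP (LK LD1_c25 LD2_c33 LD3_c61)) :=
  Lgr Lrot88 (Lpr_et (f232058 IH) (Lpn (LP (LK LD1_c25 LD2_c33 LD3_c61))))
theorem f232065 : Led Lsl_bt (LP (LK LD1_c15 LD2_c38 LD3_c40)) = (LP (LK LD1_c25 LD2_c33 LD3_c61)) :=
  Lre_b IH (LK LD1_c15 LD2_c38 LD3_c40) (LK LD1_c25 LD2_c33 LD3_c61) Lrfl Lrfl
theorem f232066 : Led Lsl_et (LP (LK LD1_c8 LD2_c51 LD3_c60)) = (LP (LK LD1_c15 LD2_c38 LD3_c40)) :=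
  Lgr Lrot74 (Lpe (f191797 IH) (Lpr_ef (f232063 IH) (Lpe (f232065 IH) (Lpn (LP (LK LD1_c15 LD2_c38 LD3_c40))))))
theorem f232074 : Led Lsl_ct (LP (LK LD1_c15 LD2_c38 LD3_c40)) = (LP (LK LD1_c8 LD2_c19 LD3_c2)) :=
  Lre_c IH (LK LD1_c15 LD2_c38 LD3_c40) (LK LD1_c8 LD2_c19 LD3_c2) Lrfl Lrfl
theorem f232075 : Led Lsl_ef (LP (LK LD1_c4 LD2_c27 LD3_c7)) = (LP (LK LD1_c8 LD2_c19 LD3_c2)) :=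
  Lgr Lrot28 (Lpr_ct (K12.f45747 IH) (Lpr_et (f232066 IH) (Lpr_ct (f232074 IH) (Lpn (LP (LK LD1_c8 LD2_c19 LD3_c2))))))
theorem f232086 : Led Lsl_dt (LP (LK LD1_c4 LD2_c9 LD3_c31)) = (LP (LK LD1_c8 LD2_c19 LD3_c2)) :=
  Lre_d IH (LK LD1_c4 LD2_c9 LD3_c31) (LK LD1_c8 LD2_c19 LD3_c2) Lrfl Lrfl
theorem f232087 : Led Lsl_et (LP (LK LD1_c2 LD2_c2 LD3_c2)) = (LP (LK LD1_c4 LD2_c9 LD3_c31)) :=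
  Lre_e IH (LK LD1_c2 LD2_c2 LD3_c2) (LK LD1_c4 LD2_c9 LD3_c31) Lrfl Lrfl
theorem f250492 : Led Lsl_df (LP (LK LD1_c2 LD2_c2 LD3_c2)) = (LP (LK LD1_c4 LD2_c3 LD3_c43)) :=
  Lgr Lrot70 (Lpr_et (f232087 IH) (Lpr_dt (f232086 IH) (Lpe (f232075 IH) (Lpr_dt (f44285 IH) (Lpr_et (f250488 IH) (Lpn (LP (LK LD1_c4 LD2_c3 LD3_c43))))))))
theorem f45996 : Led Lsl_ef (LP (LK LD1_c1 LD2_c15 LD3_c40)) = (LP (LK LD1_c1 LD2_c15 LD3_c40)) :=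
  Lgr Lrot29 (Lpe (K1.f45807 IH) (Lpr_et (K1.f45994 IH) (Lpr_bt (K12.f45811 IH) (Lpn (LP (LK LD1_c1 LD2_c15 LD3_c40))))))
theorem f250501 : Led Lsl_gf (LP (LK LD1_c2 LD2_c2 LD3_c2)) = (LP (LK LD1_c4 LD2_c8 LD3_c52)) :=
  Lgr Lrot134 (Lpr_df (f250492 IH) (Lpe (f250482 IH) (Lpr_gt (K9.f46478 IH) (Lpr_ef (f45996 IH) (Lpr_dt (K10.f45985 IH) (Lpe (K10.f46405 IH) (Lpe (K10.f45743 IH) (Lpr_et (K10.f45742 IH) (Lpr_gt (f219633 IH) (Lpr_dt (K12.f219294 IH) (Lpn (LP (LK LD1_c4 LD2_c8 LD3_c52)))))))))))))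
theorem f222804 : Led Lsl_bt (LP (LK LD1_c0 LD2_c57 LD3_c60)) = (LP (LK LD1_c2 LD2_c2 LD3_c2)) :=
  Lre_b IH (LK LD1_c0 LD2_c57 LD3_c60) (LK LD1_c2 LD2_c2 LD3_c2) Lrfl Lrfl
theorem f43199 : Led Lsl_gt (LP (LK LD1_c2 LD2_c37 LD3_c12)) = (LP (LK LD1_c5 LD2_c21 LD3_c15)) :=
  Lre_g IH (LK LD1_c2 LD2_c37 LD3_c12) (LK LD1_c5 LD2_c21 LD3_c15) Lrfl Lrfl
theorem f219144 : Led Lsl_gt (LP (LK LD1_c5 LD2_c21 LD3_c15)) = (LP (LK LD1_c4 LD2_c9 LD3_c60)) :=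
  Lgr Lrot46 (Lpe (f43199 IH) (Lpr_ft (K11.f199794 IH) (Lpr_at (K12.f219129 IH) (Lpn (LP (LK LD1_c4 LD2_c9 LD3_c60))))))
theorem f250511 : Led Lsl_ct (LP (LK LD1_c8 LD2_c31 LD3_c57)) = (LP (LK LD1_c5 LD2_c21 LD3_c15)) :=
  Lgr Lrot91 (Lpe (K12.f221836 IH) (Lpr_bf (K12.f53812 IH) (Lpe (K12.f222805 IH) (Lpr_gf (K12.f222786 IH) (Lpe (K12.f53416 IH) (Lpr_bt (f222804 IH) (Lpr_gf (f250501 IH) (Lpe (K12.f219737 IH) (Lpr_ct (K12.f170851 IH) (Lpe (f219144 IH) (Lpn (LP (LK LD1_c5 LD2_c21 LD3_c15)))))))))))))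
theorem f243324 : Led Lsl_bt (LP (LK LD1_c8 LD2_c31 LD3_c57)) = (LP (LK LD1_c4 LD2_c16 LD3_c22)) :=
  Lre_b IH (LK LD1_c8 LD2_c31 LD3_c57) (LK LD1_c4 LD2_c16 LD3_c22) Lrfl Lrfl
theorem f53420 : Led Lsl_ct (LP (LK LD1_c2 LD2_c2 LD3_c2)) = (LP (LK LD1_c4 LD2_c9 LD3_c30)) :=
  Lre_c IH (LK LD1_c2 LD2_c2 LD3_c2) (LK LD1_c4 LD2_c9 LD3_c30) Lrfl Lrfl
theorem f53637 : Led Lsl_ct (LP (LK LD1_c4 LD2_c5 LD3_c1)) = (LP (LK LD1_c1 LD2_c59 LD3_c39)) :=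
  Lre_c IH (LK LD1_c4 LD2_c5 LD3_c1) (LK LD1_c1 LD2_c59 LD3_c39) Lrfl Lrfl
theorem f250509 : Led Lsl_gt (LP (LK LD1_c4 LD2_c9 LD3_c30)) = (LP (LK LD1_c4 LD2_c5 LD3_c1)) :=
  Lgr Lrot150 (Lpe (f53420 IH) (Lpr_gf (f250501 IH) (Lpe (K12.f219294 IH) (Lpr_gt (K12.f190827 IH) (Lpr_ct (K12.f51452 IH) (Lpe (K12.f219284 IH) (Lpr_ct (K10.f53956 IH) (Lpe (K12.f53636 IH) (Lpe (f53637 IH) (Lpn (LP (LK LD1_c4 LD2_c5 LD3_c1))))))))))))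
theorem f53828 : Led Lsl_bt (LP (LK LD1_c4 LD2_c4 LD3_c60)) = (LP (LK LD1_c1 LD2_c59 LD3_c38)) :=
  Lre_b IH (LK LD1_c4 LD2_c4 LD3_c60) (LK LD1_c1 LD2_c59 LD3_c38) Lrfl Lrfl
theorem f53969 : Led Lsl_bf (LP (LK LD1_c2 LD2_c34 LD3_c16)) = (LP (LK LD1_c1 LD2_c59 LD3_c39)) :=
  Lgr Lrot81 (Lpe (K10.f33433 IH) (Lpe (K10.f53833 IH) (Lpr_at (K12.f53825 IH) (Lpr_bt (f53828 IH) (Lpr_at (K12.f53965 IH) (Lpn (LP (LK LD1_c1 LD2_c59 LD3_c39))))))))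
theorem f250525 : Led Lsl_gf (LP (LK LD1_c4 LD2_c16 LD3_c22)) = (LP (LK LD1_c2 LD2_c34 LD3_c16)) :=
  Lgr Lrot124 (Lpe (f243324 IH) (Lpr_ct (f250511 IH) (Lpr_gt (f219144 IH) (Lpe (K12.f170851 IH) (Lpr_bt (K12.f219737 IH) (Lpe (f250501 IH) (Lpr_ct (f53420 IH) (Lpr_gt (f250509 IH) (Lpe (K12.f53961 IH) (Lpe (f53969 IH) (Lpn (LP (LK LD1_c2 LD2_c34 LD3_c16)))))))))))))
theorem f44970 : Led Lsl_dt (LP (LK LD1_c0 LD2_c26 LD3_c60)) = (LP (LK LD1_c0 LD2_c59 LD3_c14)) :=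
  Lre_d IH (LK LD1_c0 LD2_c26 LD3_c60) (LK LD1_c0 LD2_c59 LD3_c14) Lrfl Lrfl
theorem f220528 : Led Lsl_df (LP (LK LD1_c2 LD2_c41 LD3_c7)) = (LP (LK LD1_c2 LD2_c4 LD3_c28)) :=
  Lgr Lrot38 (Lpr_dt (K12.f220526 IH) (Lpn (LP (LK LD1_c2 LD2_c4 LD3_c28))))
theorem f211391 : Led Lsl_ct (LP (LK LD1_c5 LD2_c29 LD3_c44)) = (LP (LK LD1_c2 LD2_c41 LD3_c7)) :=
  Lre_c IH (LK LD1_c5 LD2_c29 LD3_c44) (LK LD1_c2 LD2_c41 LD3_c7) Lrfl Lrfl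
theorem f250527 : Led Lsl_dt (LP (LK LD1_c4 LD2_c16 LD3_c22)) = (LP (LK LD1_c5 LD2_c29 LD3_c44)) :=
  Lgr Lrot105 (Lpr_gf (f250525 IH) (Lpe (K10.f33432 IH) (Lpe (K12.f188894 IH) (Lpe (K12.f167320 IH) (Lpr_gt (K10.f45730 IH) (Lpr_dt (f44970 IH) (Lpr_gt (K12.f49893 IH) (Lpe (f220528 IH) (Lpe (f211391 IH) (Lpn (LP (LK LD1_c5 LD2_c29 LD3_c44))))))))))))
theorem f188966 : Led Lsl_ct (LP (LK LD1_c2 LD2_c5 LD3_c31)) = (LP (LK LD1_c4 LD2_c16 LD3_c22)) :=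
  Lre_c IH (LK LD1_c2 LD2_c5 LD3_c31) (LK LD1_c4 LD2_c16 LD3_c22) Lrfl Lrfl
theorem f168346 : Led Lsl_ct (LP (LK LD1_c2 LD2_c41 LD3_c7)) = (LP (LK LD1_c5 LD2_c29 LD3_c44)) :=
  Lre_c IH (LK LD1_c2 LD2_c41 LD3_c7) (LK LD1_c5 LD2_c29 LD3_c44) Lrfl Lrfl
theorem f250625 : Led Lsl_df (LP (LK LD1_c0 LD2_c59 LD3_c47)) = (LP (LK LD1_c1 LD2_c17 LD3_c22)) :=
  Lgr Lrot155 (Lpr_gt (K12.f600 IH) (Lpr_ct (K9.f585 IH) (Lpr_gt (K12.f1044 IH) (Lpr_ct (f188966 IH) (Lpr_dt (f250527 IH) (Lpe (f168346 IH) (Lpe (K12.f168344 IH) (Lpe (K13.f168317 IH) (Lpe (K13.f168336 IH) (Lpn (LP (LK LD1_c1 LD2_c17 LD3_c22))))))))))))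
theorem f250628 : Led Lsl_dt (LP (LK LD1_c0 LD2_c59 LD3_c47)) = (LP (LK LD1_c1 LD2_c17 LD3_c22)) :=
  Lgr Lrot42 (Lpr_df (f250625 IH) (Lpn (LP (LK LD1_c1 LD2_c17 LD3_c22))))
theorem f1323 : Led Lsl_et (LP (LK LD1_c4 LD2_c15 LD3_c36)) = (LP (LK LD1_c2 LD2_c5 LD3_c9)) :=
  Lre_e IH (LK LD1_c4 LD2_c15 LD3_c36) (LK LD1_c2 LD2_c5 LD3_c9) Lrfl Lrfl
theorem f572 : Led Lsl_et (LP (LK LD1_c2 LD2_c1 LD3_c35)) = (LP (LK LD1_c4 LD2_c8 LD3_c27)) :=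
  Lre_e IH (LK LD1_c2 LD2_c1 LD3_c35) (LK LD1_c4 LD2_c8 LD3_c27) Lrfl Lrfl
theorem f51456 : Led Lsl_df (LP (LK LD1_c4 LD2_c8 LD3_c27)) = (LP (LK LD1_c4 LD2_c8 LD3_c27)) :=
  Lgr Lrot70 (Lpr_et (K9.f797 IH) (Lpr_dt (K12.f573 IH) (Lpr_et (K13.f51441 IH) (Lpr_dt (K9.f50517 IH) (Lpr_et (f572 IH) (Lpn (LP (LK LD1_c4 LD2_c8 LD3_c27))))))))
theorem f549 : Led Lsl_ft (LP (LK LD1_c4 LD2_c8 LD3_c27)) = (LP (LK LD1_c4 LD2_c15 LD3_c36)) :=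
  Lgr Lrot101 (Lpe (K9.f547 IH) (Lpr_ff (K1.f539 IH) (Lpe (K9.f548 IH) (Lpn (LP (LK LD1_c4 LD2_c15 LD3_c36))))))
theorem f783 : Led Lsl_et (LP (LK LD1_c0 LD2_c57 LD3_c49)) = (LP (LK LD1_c0 LD2_c59 LD3_c38)) :=
  Lgr Lrot71 (Lpe (K10.f780 IH) (Lpe (K12.f772 IH) (Lpr_df (K1.f763 IH) (Lpe (K10.f781 IH) (Lpe (K13.f782 IH) (Lpn (LP (LK LD1_c0 LD2_c59 LD3_c38))))))))
theorem f796 : Led Lsl_ft (LP (LK LD1_c2 LD2_c1 LD3_c35)) = (LP (LK LD1_c0 LD2_c57 LD3_c49)) :=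
  Lre_f IH (LK LD1_c2 LD2_c1 LD3_c35) (LK LD1_c0 LD2_c57 LD3_c49) Lrfl Lrfl
theorem f798 : Led Lsl_ft (LP (LK LD1_c0 LD2_c59 LD3_c38)) = (LP (LK LD1_c2 LD2_c5 LD3_c9)) :=
  Lre_f IH (LK LD1_c0 LD2_c59 LD3_c38) (LK LD1_c2 LD2_c5 LD3_c9) Lrfl Lrfl
theorem f800 : Led Lsl_ff (LP (LK LD1_c4 LD2_c8 LD3_c27)) = (LP (LK LD1_c4 LD2_c15 LD3_c36)) :=
  Lgr Lrot72 (Lpr_et (K9.f797 IH) (Lpr_ft (f796 IH) (Lpr_et (f783 IH) (Lpr_ft (f798 IH) (Lpr_et (K9.f799 IH) (Lpn (LP (LK LD1_c4 LD2_c15 LD3_c36))))))))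
theorem f51462 : Led Lsl_dt (LP (LK LD1_c4 LD2_c15 LD3_c36)) = (LP (LK LD1_c4 LD2_c15 LD3_c36)) :=
  Lgr Lrot60 (Lpe (f549 IH) (Lpr_df (f51456 IH) (Lpr_ff (f800 IH) (Lpn (LP (LK LD1_c4 LD2_c15 LD3_c36))))))
theorem f531 : Led Lsl_ft (LP (LK LD1_c2 LD2_c2 LD3_c11)) = (LP (LK LD1_c2 LD2_c5 LD3_c36)) :=
  Lgr Lrot75 (Lpe (K9.f529 IH) (Lpr_ff (K0.f515 IH) (Lpe (K9.f530 IH) (Lpn (LP (LK LD1_c2 LD2_c5 LD3_c36))))))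
theorem f1370 : Led Lsl_gt (LP (LK LD1_c2 LD2_c2 LD3_c11)) = (LP (LK LD1_c4 LD2_c9 LD3_c58)) :=
  Lre_g IH (LK LD1_c2 LD2_c2 LD3_c11) (LK LD1_c4 LD2_c9 LD3_c58) Lrfl Lrfl
theorem f1371 : Led Lsl_gt (LP (LK LD1_c4 LD2_c9 LD3_c58)) = (LP (LK LD1_c4 LD2_c15 LD3_c36)) :=
  Lgr Lrot46 (Lpe (f1370 IH) (Lpr_ft (f531 IH) (Lpr_at (K13.f811 IH) (Lpn (LP (LK LD1_c4 LD2_c15 LD3_c36))))))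
theorem f1374 : Led Lsl_dt (LP (LK LD1_c8 LD2_c20 LD3_c6)) = (LP (LK LD1_c4 LD2_c9 LD3_c58)) :=
  Lre_d IH (LK LD1_c8 LD2_c20 LD3_c6) (LK LD1_c4 LD2_c9 LD3_c58) Lrfl Lrfl
theorem f168533 : Led Lsl_dt (LP (LK LD1_c1 LD2_c17 LD3_c23)) = (LP (LK LD1_c0 LD2_c35 LD3_c46)) :=
  Lre_d IH (LK LD1_c1 LD2_c17 LD3_c23) (LK LD1_c0 LD2_c35 LD3_c46) Lrfl Lrfl
theorem f250639 : Led Lsl_et (LP (LK LD1_c1 LD2_c17 LD3_c23)) = (LP (LK LD1_c2 LD2_c41 LD3_c23)) :=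
  Lre_e IH (LK LD1_c1 LD2_c17 LD3_c23) (LK LD1_c2 LD2_c41 LD3_c23) Lrfl Lrfl
theorem f236153 : Led Lsl_gt (LP (LK LD1_c2 LD2_c41 LD3_c23)) = (LP (LK LD1_c5 LD2_c30 LD3_c14)) :=
  Lre_g IH (LK LD1_c2 LD2_c41 LD3_c23) (LK LD1_c5 LD2_c30 LD3_c14) Lrfl Lrfl
theorem f250640 : Led Lsl_et (LP (LK LD1_c8 LD2_c20 LD3_c6)) = (LP (LK LD1_c5 LD2_c30 LD3_c14)) :=
  Lgr Lrot122 (Lpr_dt (f1374 IH) (Lpr_gt (f1371 IH) (Lpe (f51462 IH) (Lpr_et (f1323 IH) (Lpr_gt (K12.f51466 IH) (Lpr_dt (f250628 IH) (Lpr_gt (K13.f168336 IH) (Lpe (f168533 IH) (Lpr_et (f250639 IH) (Lpr_gt (f236153 IH) (Lpn (LP (LK LD1_c5 LD2_c30 LD3_c14)))))))))))))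
theorem f250648 : Led Lsl_ef (LP (LK LD1_c8 LD2_c20 LD3_c6)) = (LP (LK LD1_c5 LD2_c30 LD3_c14)) :=
  Lgr Lrot88 (Lpr_et (f250640 IH) (Lpn (LP (LK LD1_c5 LD2_c30 LD3_c14))))
theorem f47673 : Led Lsl_et (LP (LK LD1_c4 LD2_c9 LD3_c58)) = (LP (LK LD1_c8 LD2_c20 LD3_c7)) :=
  Lre_e IH (LK LD1_c4 LD2_c9 LD3_c58) (LK LD1_c8 LD2_c20 LD3_c7) Lrfl Lrfl
theorem f236154 : Led Lsl_dt (LP (LK LD1_c10 LD2_c51 LD3_c53)) = (LP (LK LD1_c5 LD2_c30 LD3_c14)) :=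
  Lre_d IH (LK LD1_c10 LD2_c51 LD3_c53) (LK LD1_c5 LD2_c30 LD3_c14) Lrfl Lrfl
theorem f236152 : Led Lsl_dt (LP (LK LD1_c1 LD2_c17 LD3_c20)) = (LP (LK LD1_c2 LD2_c41 LD3_c23)) :=
  Lre_d IH (LK LD1_c1 LD2_c17 LD3_c20) (LK LD1_c2 LD2_c41 LD3_c23) Lrfl Lrfl
theorem f231676 : Led Lsl_et (LP (LK LD1_c2 LD2_c1 LD3_c12)) = (LP (LK LD1_c4 LD2_c7 LD3_c40)) :=
  Lre_e IH (LK LD1_c2 LD2_c1 LD3_c12) (LK LD1_c4 LD2_c7 LD3_c40) Lrfl Lrfl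
theorem f231615 : Led Lsl_gt (LP (LK LD1_c8 LD2_c15 LD3_c20)) = (LP (LK LD1_c4 LD2_c7 LD3_c40)) :=
  Lre_g IH (LK LD1_c8 LD2_c15 LD3_c20) (LK LD1_c4 LD2_c7 LD3_c40) Lrfl Lrfl
theorem f236155 : Led Lsl_et (LP (LK LD1_c10 LD2_c51 LD3_c53)) = (LP (LK LD1_c8 LD2_c15 LD3_c20)) :=
  Lgr Lrot185 (Lpr_dt (f236154 IH) (Lpe (f236153 IH) (Lpe (f236152 IH) (Lpe (K13.f236149 IH) (Lpe (K13.f236150 IH) (Lpr_dt (K13.f236115 IH) (Lpe (K13.f236121 IH) (Lpr_df (K13.f236132 IH) (Lpr_et (f231676 IH) (Lpe (f231615 IH) (Lpn (LP (LK LD1_c8 LD2_c15 LD3_c20)))))))))))))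
theorem f236163 : Led Lsl_ef (LP (LK LD1_c10 LD2_c51 LD3_c53)) = (LP (LK LD1_c8 LD2_c15 LD3_c20)) :=
  Lgr Lrot88 (Lpr_et (f236155 IH) (Lpn (LP (LK LD1_c8 LD2_c15 LD3_c20))))
theorem f250653 : Led Lsl_dt (LP (LK LD1_c8 LD2_c20 LD3_c7)) = (LP (LK LD1_c8 LD2_c15 LD3_c20)) :=
  Lgr Lrot77 (Lpe (f47673 IH) (Lpe (f1374 IH) (Lpr_ef (f250648 IH) (Lpe (f236154 IH) (Lpr_ef (f236163 IH) (Lpn (LP (LK LD1_c8 LD2_c15 LD3_c20))))))))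
theorem f1379 : Led Lsl_et (LP (LK LD1_c8 LD2_c20 LD3_c7)) = (LP (LK LD1_c4 LD2_c9 LD3_c58)) :=
  Lre_e IH (LK LD1_c8 LD2_c20 LD3_c7) (LK LD1_c4 LD2_c9 LD3_c58) Lrfl Lrfl
theorem f1366 : Led Lsl_et (LP (LK LD1_c0 LD2_c58 LD3_c0)) = (LP (LK LD1_c2 LD2_c2 LD3_c11)) :=
  Lre_e IH (LK LD1_c0 LD2_c58 LD3_c0) (LK LD1_c2 LD2_c2 LD3_c11) Lrfl Lrfl
theorem f47674 : Led Lsl_gt (LP (LK LD1_c4 LD2_c8 LD3_c12)) = (LP (LK LD1_c2 LD2_c1 LD3_c28)) :=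
  Lre_g IH (LK LD1_c4 LD2_c8 LD3_c12) (LK LD1_c2 LD2_c1 LD3_c28) Lrfl Lrfl
theorem f236165 : Led Lsl_et (LP (LK LD1_c1 LD2_c17 LD3_c20)) = (LP (LK LD1_c0 LD2_c35 LD3_c45)) :=
  Lre_e IH (LK LD1_c1 LD2_c17 LD3_c20) (LK LD1_c0 LD2_c35 LD3_c45) Lrfl Lrfl
theorem f220683 : Led Lsl_et (LP (LK LD1_c2 LD2_c41 LD3_c15)) = (LP (LK LD1_c1 LD2_c17 LD3_c18)) :=
  Lre_e IH (LK LD1_c2 LD2_c41 LD3_c15) (LK LD1_c1 LD2_c17 LD3_c18) Lrfl Lrfl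
theorem f220570 : Led Lsl_et (LP (LK LD1_c1 LD2_c17 LD3_c18)) = (LP (LK LD1_c2 LD2_c41 LD3_c15)) :=
  Lre_e IH (LK LD1_c1 LD2_c17 LD3_c18) (LK LD1_c2 LD2_c41 LD3_c15) Lrfl Lrfl
theorem f220571 : Led Lsl_et (LP (LK LD1_c0 LD2_c27 LD3_c10)) = (LP (LK LD1_c0 LD2_c59 LD3_c45)) :=
  Lre_e IH (LK LD1_c0 LD2_c27 LD3_c10) (LK LD1_c0 LD2_c59 LD3_c45) Lrfl Lrfl
theorem f1381 : Led Lsl_dt (LP (LK LD1_c0 LD2_c59 LD3_c44)) = (LP (LK LD1_c0 LD2_c27 LD3_c10)) :=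
  Lre_d IH (LK LD1_c0 LD2_c59 LD3_c44) (LK LD1_c0 LD2_c27 LD3_c10) Lrfl Lrfl
theorem f220572 : Led Lsl_et (LP (LK LD1_c2 LD2_c5 LD3_c23)) = (LP (LK LD1_c0 LD2_c59 LD3_c44)) :=
  Lre_e IH (LK LD1_c2 LD2_c5 LD3_c23) (LK LD1_c0 LD2_c59 LD3_c44) Lrfl Lrfl
theorem f220573 : Led Lsl_dt (LP (LK LD1_c2 LD2_c41 LD3_c15)) = (LP (LK LD1_c2 LD2_c5 LD3_c23)) :=
  Lgr Lrot77 (Lpe (f220570 IH) (Lpr_df (K12.f220562 IH) (Lpe (f220571 IH) (Lpe (f1381 IH) (Lpe (f220572 IH) (Lpn (LP (LK LD1_c2 LD2_c5 LD3_c23))))))))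
theorem f1407 : Led Lsl_gt (LP (LK LD1_c4 LD2_c16 LD3_c1)) = (LP (LK LD1_c2 LD2_c5 LD3_c23)) :=
  Lre_g IH (LK LD1_c4 LD2_c16 LD3_c1) (LK LD1_c2 LD2_c5 LD3_c23) Lrfl Lrfl
theorem f236166 : Led Lsl_df (LP (LK LD1_c4 LD2_c16 LD3_c1)) = (LP (LK LD1_c4 LD2_c7 LD3_c40)) :=
  Lgr Lrot135 (Lpr_gt (f1407 IH) (Lpe (f220573 IH) (Lpr_et (f220683 IH) (Lpr_gt (K12.f168355 IH) (Lpe (f236165 IH) (Lpr_dt (f236152 IH) (Lpr_gt (f236153 IH) (Lpe (f236154 IH) (Lpr_et (f236155 IH) (Lpr_gt (f231615 IH) (Lpn (LP (LK LD1_c4 LD2_c7 LD3_c40)))))))))))))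
theorem f236168 : Led Lsl_dt (LP (LK LD1_c4 LD2_c16 LD3_c1)) = (LP (LK LD1_c4 LD2_c7 LD3_c40)) :=
  Lgr Lrot42 (Lpr_df (f236166 IH) (Lpn (LP (LK LD1_c4 LD2_c7 LD3_c40))))
theorem f250656 : Led Lsl_ef (LP (LK LD1_c4 LD2_c8 LD3_c12)) = (LP (LK LD1_c4 LD2_c16 LD3_c1)) :=
  Lgr Lrot167 (Lpr_gt (f47674 IH) (Lpr_dt (K10.f802 IH) (Lpr_gt (K10.f47556 IH) (Lpe (K12.f50142 IH) (Lpr_et (f1366 IH) (Lpr_gt (f1370 IH) (Lpe (f1379 IH) (Lpr_dt (f250653 IH) (Lpr_gt (f231615 IH) (Lpe (f236168 IH) (Lpn (LP (LK LD1_c4 LD2_c16 LD3_c1)))))))))))))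
theorem f250663 : Led Lsl_et (LP (LK LD1_c4 LD2_c8 LD3_c12)) = (LP (LK LD1_c4 LD2_c16 LD3_c1)) :=
  Lgr Lrot87 (Lpr_ef (f250656 IH) (Lpn (LP (LK LD1_c4 LD2_c16 LD3_c1))))
theorem f50102 : Led Lsl_et (LP (LK LD1_c4 LD2_c7 LD3_c40)) = (LP (LK LD1_c2 LD2_c1 LD3_c12)) :=
  Lre_e IH (LK LD1_c4 LD2_c7 LD3_c40) (LK LD1_c2 LD2_c1 LD3_c12) Lrfl Lrfl
theorem f250667 : Led Lsl_df (LP (LK LD1_c4 LD2_c8 LD3_c12)) = (LP (LK LD1_c4 LD2_c9 LD3_c23)) :=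
  Lgr Lrot70 (Lpr_et (f250663 IH) (Lpr_dt (f236168 IH) (Lpr_et (f50102 IH) (Lpe (K13.f236132 IH) (Lpr_et (K13.f246277 IH) (Lpn (LP (LK LD1_c4 LD2_c9 LD3_c23))))))))
theorem f245025 : Led Lsl_et (LP (LK LD1_c1 LD2_c16 LD3_c50)) = (LP (LK LD1_c0 LD2_c35 LD3_c33)) :=
  Lre_e IH (LK LD1_c1 LD2_c16 LD3_c50) (LK LD1_c0 LD2_c35 LD3_c33) Lrfl Lrfl
theorem f197021 : Led Lsl_ft (LP (LK LD1_c2 LD2_c40 LD3_c10)) = (LP (LK LD1_c1 LD2_c16 LD3_c50)) :=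
  Lre_f IH (LK LD1_c2 LD2_c40 LD3_c10) (LK LD1_c1 LD2_c16 LD3_c50) Lrfl Lrfl
theorem f234212 : Led Lsl_et (LP (LK LD1_c0 LD2_c59 LD3_c43)) = (LP (LK LD1_c2 LD2_c5 LD3_c21)) :=
  Lre_e IH (LK LD1_c0 LD2_c59 LD3_c43) (LK LD1_c2 LD2_c5 LD3_c21) Lrfl Lrfl
theorem f236379 : Led Lsl_af (LP (LK LD1_c2 LD2_c6 LD3_c55)) = (LP (LK LD1_c4 LD2_c9 LD3_c23)) :=
  Lgr Lrot0 (Lpr_at (K13.f236377 IH) (Lpn (LP (LK LD1_c4 LD2_c9 LD3_c23))))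
theorem f236410 : Led Lsl_ft (LP (LK LD1_c2 LD2_c5 LD3_c21)) = (LP (LK LD1_c4 LD2_c9 LD3_c23)) :=
  Lgr Lrot101 (Lpr_af (K13.f236399 IH) (Lpe (K13.f236391 IH) (Lpr_af (f236379 IH) (Lpn (LP (LK LD1_c4 LD2_c9 LD3_c23))))))
theorem f245026 : Led Lsl_ef (LP (LK LD1_c2 LD2_c40 LD3_c10)) = (LP (LK LD1_c4 LD2_c9 LD3_c23)) :=
  Lgr Lrot21 (Lpr_ft (f197021 IH) (Lpr_et (f245025 IH) (Lpr_ft (K13.f243606 IH) (Lpr_et (f234212 IH) (Lpr_ft (f236410 IH) (Lpn (LP (LK LD1_c4 LD2_c9 LD3_c23))))))))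
theorem f250685 : Led Lsl_gf (LP (LK LD1_c4 LD2_c8 LD3_c12)) = (LP (LK LD1_c2 LD2_c1 LD3_c30)) :=
  Lgr Lrot134 (Lpr_df (f250667 IH) (Lpe (f245026 IH) (Lpr_gt (K13.f236121 IH) (Lpe (K13.f236103 IH) (Lpr_dt (K13.f236104 IH) (Lpr_gt (K12.f51409 IH) (Lpe (K10.f47555 IH) (Lpe (K10.f27314 IH) (Lpr_gt (K9.f51615 IH) (Lpr_dt (K12.f50153 IH) (Lpn (LP (LK LD1_c2 LD2_c1 LD3_c30)))))))))))))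
theorem f250658 : Led Lsl_ct (LP (LK LD1_c4 LD2_c8 LD3_c12)) = (LP (LK LD1_c8 LD2_c16 LD3_c26)) :=
  Lre_c IH (LK LD1_c4 LD2_c8 LD3_c12) (LK LD1_c8 LD2_c16 LD3_c26) Lrfl Lrfl
theorem f173262 : Led Lsl_dt (LP (LK LD1_c2 LD2_c8 LD3_c35)) = (LP (LK LD1_c1 LD2_c1 LD3_c26)) :=
  Lre_d IH (LK LD1_c2 LD2_c8 LD3_c35) (LK LD1_c1 LD2_c1 LD3_c26) Lrfl Lrfl
theorem f173264 : Led Lsl_ct (LP (LK LD1_c4 LD2_c22 LD3_c18)) = (LP (LK LD1_c2 LD2_c8 LD3_c35)) :=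
  Lre_c IH (LK LD1_c4 LD2_c22 LD3_c18) (LK LD1_c2 LD2_c8 LD3_c35) Lrfl Lrfl
theorem f250687 : Led Lsl_gt (LP (LK LD1_c8 LD2_c16 LD3_c26)) = (LP (LK LD1_c4 LD2_c22 LD3_c18)) :=
  Lgr Lrot150 (Lpe (f250658 IH) (Lpr_gf (f250685 IH) (Lpe (K12.f50153 IH) (Lpr_gt (K9.f776 IH) (Lpr_ct (K9.f50138 IH) (Lpr_gt (K13.f197449 IH) (Lpr_ct (K12.f173251 IH) (Lpe (f173262 IH) (Lpe (f173264 IH) (Lpn (LP (LK LD1_c4 LD2_c22 LD3_c18))))))))))))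
theorem f222955 : Led Lsl_ct (LP (LK LD1_c8 LD2_c16 LD3_c26)) = (LP (LK LD1_c4 LD2_c8 LD3_c12)) :=
  Lre_c IH (LK LD1_c8 LD2_c16 LD3_c26) (LK LD1_c4 LD2_c8 LD3_c12) Lrfl Lrfl
theorem f50143 : Led Lsl_dt (LP (LK LD1_c4 LD2_c9 LD3_c56)) = (LP (LK LD1_c2 LD2_c2 LD3_c10)) :=
  Lre_d IH (LK LD1_c4 LD2_c9 LD3_c56) (LK LD1_c2 LD2_c2 LD3_c10) Lrfl Lrfl
theorem f50430 : Led Lsl_gt (LP (LK LD1_c8 LD2_c16 LD3_c59)) = (LP (LK LD1_c4 LD2_c9 LD3_c56)) :=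
  Lre_g IH (LK LD1_c8 LD2_c16 LD3_c59) (LK LD1_c4 LD2_c9 LD3_c56) Lrfl Lrfl
theorem f250709 : Led Lsl_df (LP (LK LD1_c8 LD2_c16 LD3_c59)) = (LP (LK LD1_c4 LD2_c22 LD3_c18)) :=
  Lgr Lrot153 (Lpr_gt (f50430 IH) (Lpr_dt (f50143 IH) (Lpe (K12.f47727 IH) (Lpe (K10.f47555 IH) (Lpe (K10.f47556 IH) (Lpe (K10.f802 IH) (Lpe (f47674 IH) (Lpe (f222955 IH) (Lpr_gt (f250687 IH) (Lpn (LP (LK LD1_c4 LD2_c22 LD3_c18))))))))))))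
theorem f51616 : Led Lsl_ct (LP (LK LD1_c2 LD2_c1 LD3_c30)) = (LP (LK LD1_c4 LD2_c8 LD3_c15)) :=
  Lre_c IH (LK LD1_c2 LD2_c1 LD3_c30) (LK LD1_c4 LD2_c8 LD3_c15) Lrfl Lrfl
theorem f167653 : Led Lsl_ct (LP (LK LD1_c4 LD2_c16 LD3_c61)) = (LP (LK LD1_c2 LD2_c5 LD3_c48)) :=
  Lre_c IH (LK LD1_c4 LD2_c16 LD3_c61) (LK LD1_c2 LD2_c5 LD3_c48) Lrfl Lrfl
theorem f250722 : Led Lsl_gf (LP (LK LD1_c2 LD2_c1 LD3_c30)) = (LP (LK LD1_c2 LD2_c5 LD3_c48)) :=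
  Lgr Lrot104 (Lpr_ct (f51616 IH) (Lpe (K12.f222251 IH) (Lpr_cf (K13.f222974 IH) (Lpe (K13.f49335 IH) (Lpe (K12.f50406 IH) (Lpe (f50430 IH) (Lpr_df (f250709 IH) (Lpr_gt (f232279 IH) (Lpr_ct (f167653 IH) (Lpn (LP (LK LD1_c2 LD2_c5 LD3_c48))))))))))))
theorem f236397 : Led Lsl_ff (LP (LK LD1_c2 LD2_c1 LD3_c42)) = (LP (LK LD1_c2 LD2_c5 LD3_c48)) :=
  Lgr Lrot19 (Lpr_dt (K12.f220062 IH) (Lpr_ft (K13.f236391 IH) (Lpe (K12.f167733 IH) (Lpn (LP (LK LD1_c2 LD2_c5 LD3_c48))))))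
theorem f250725 : Led Lsl_af (LP (LK LD1_c4 LD2_c8 LD3_c12)) = (LP (LK LD1_c2 LD2_c1 LD3_c42)) :=
  Lgr Lrot31 (Lpr_gf (f250685 IH) (Lpr_gf (f250722 IH) (Lpe (f236397 IH) (Lpn (LP (LK LD1_c2 LD2_c1 LD3_c42))))))
theorem f1312 : Led Lsl_gt (LP (LK LD1_c0 LD2_c57 LD3_c61)) = (LP (LK LD1_c2 LD2_c2 LD3_c6)) :=
  Lre_g IH (LK LD1_c0 LD2_c57 LD3_c61) (LK LD1_c2 LD2_c2 LD3_c6) Lrfl Lrfl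
theorem f1313 : Led Lsl_dt (LP (LK LD1_c2 LD2_c2 LD3_c6)) = (LP (LK LD1_c4 LD2_c9 LD3_c42)) :=
  Lre_d IH (LK LD1_c2 LD2_c2 LD3_c6) (LK LD1_c4 LD2_c9 LD3_c42) Lrfl Lrfl
theorem f1314 : Led Lsl_gt (LP (LK LD1_c4 LD2_c9 LD3_c42)) = (LP (LK LD1_c8 LD2_c19 LD3_c27)) :=
  Lre_g IH (LK LD1_c4 LD2_c9 LD3_c42) (LK LD1_c8 LD2_c19 LD3_c27) Lrfl Lrfl
theorem f250675 : Led Lsl_df (LP (LK LD1_c8 LD2_c16 LD3_c26)) = (LP (LK LD1_c8 LD2_c19 LD3_c27)) :=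
  Lgr Lrot84 (Lpe (f250658 IH) (Lpr_df (f250667 IH) (Lpe (K13.f1406 IH) (Lpe (K13.f1405 IH) (Lpe (K9.f1404 IH) (Lpe (K13.f584 IH) (Lpr_gt (f1312 IH) (Lpr_dt (f1313 IH) (Lpr_gt (f1314 IH) (Lpn (LP (LK LD1_c8 LD2_c19 LD3_c27))))))))))))
theorem f167638 : Led Lsl_bt (LP (LK LD1_c1 LD2_c2 LD3_c51)) = (LP (LK LD1_c0 LD2_c28 LD3_c40)) :=
  Lre_b IH (LK LD1_c1 LD2_c2 LD3_c51) (LK LD1_c0 LD2_c28 LD3_c40) Lrfl Lrfl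
theorem f167639 : Led Lsl_dt (LP (LK LD1_c2 LD2_c5 LD3_c48)) = (LP (LK LD1_c1 LD2_c2 LD3_c51)) :=
  Lgr Lrot79 (Lpe (K12.f167637 IH) (Lpr_df (K9.f167635 IH) (Lpe (f167638 IH) (Lpn (LP (LK LD1_c1 LD2_c2 LD3_c51))))))
theorem f197513 : Led Lsl_df (LP (LK LD1_c2 LD2_c5 LD3_c5)) = (LP (LK LD1_c2 LD2_c11 LD3_c24)) :=
  Lgr Lrot174 (Lpe (K13.f187236 IH) (Lpe (f167639 IH) (Lpr_gf (K12.f189099 IH) (Lpe (K12.f774 IH) (Lpe (K12.f773 IH) (Lpr_ct (K9.f50138 IH) (Lpr_gt (K13.f197449 IH) (Lpr_dt (K12.f173343 IH) (Lpr_gt (K12.f169294 IH) (Lpn (LP (LK LD1_c2 LD2_c11 LD3_c24))))))))))))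
theorem f197623 : Led Lsl_cf (LP (LK LD1_c2 LD2_c5 LD3_c5)) = (LP (LK LD1_c1 LD2_c2 LD3_c51)) :=
  Lgr Lrot14 (Lpr_df (f197513 IH) (Lpe (K12.f169294 IH) (Lpe (K12.f173343 IH) (Lpe (K13.f197449 IH) (Lpe (K9.f50130 IH) (Lpr_gt (K12.f773 IH) (Lpr_dt (K12.f774 IH) (Lpe (K12.f189099 IH) (Lpr_dt (f167639 IH) (Lpn (LP (LK LD1_c1 LD2_c2 LD3_c51))))))))))))
theorem f197591 : Led Lsl_dt (LP (LK LD1_c4 LD2_c28 LD3_c43)) = (LP (LK LD1_c8 LD2_c55 LD3_c43)) :=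
  Lre_d IH (LK LD1_c4 LD2_c28 LD3_c43) (LK LD1_c8 LD2_c55 LD3_c43) Lrfl Lrfl
theorem f250856 : Led Lsl_cf (LP (LK LD1_c8 LD2_c19 LD3_c27)) = (LP (LK LD1_c8 LD2_c55 LD3_c43)) :=
  Lgr Lrot161 (Lpe (f250675 IH) (Lpr_ct (f222955 IH) (Lpr_af (f250725 IH) (Lpr_ff (f236397 IH) (Lpr_dt (f167639 IH) (Lpe (f197623 IH) (Lpr_dt (K13.f197515 IH) (Lpr_ct (K12.f178103 IH) (Lpr_dt (f197591 IH) (Lpn (LP (LK LD1_c8 LD2_c55 LD3_c43))))))))))))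
theorem f53453 : Led Lsl_ct (LP (LK LD1_c2 LD2_c1 LD3_c28)) = (LP (LK LD1_c4 LD2_c8 LD3_c13)) :=
  Lre_c IH (LK LD1_c2 LD2_c1 LD3_c28) (LK LD1_c4 LD2_c8 LD3_c13) Lrfl Lrfl
theorem f220340 : Led Lsl_ct (LP (LK LD1_c2 LD2_c1 LD3_c43)) = (LP (LK LD1_c0 LD2_c57 LD3_c53)) :=
  Lre_c IH (LK LD1_c2 LD2_c1 LD3_c43) (LK LD1_c0 LD2_c57 LD3_c53) Lrfl Lrfl
theorem f233918 : Led Lsl_dt (LP (LK LD1_c4 LD2_c9 LD3_c2)) = (LP (LK LD1_c8 LD2_c6 LD3_c26)) :=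
  Lgr Lrot42 (Lpr_df (K13.f233893 IH) (Lpn (LP (LK LD1_c8 LD2_c6 LD3_c26))))
theorem f234106 : Led Lsl_dt (LP (LK LD1_c4 LD2_c9 LD3_c8)) = (LP (LK LD1_c2 LD2_c1 LD3_c56)) :=
  Lre_d IH (LK LD1_c4 LD2_c9 LD3_c8) (LK LD1_c2 LD2_c1 LD3_c56) Lrfl Lrfl
theorem f234107 : Led Lsl_cf (LP (LK LD1_c4 LD2_c9 LD3_c8)) = (LP (LK LD1_c8 LD2_c6 LD3_c25)) :=
  Lgr Lrot55 (Lpr_dt (f234106 IH) (Lpr_ct (f220048 IH) (Lpr_dt (K12.f575 IH) (Lpr_ct (K12.f51449 IH) (Lpr_dt (K13.f190824 IH) (Lpr_ct (K12.f220732 IH) (Lpr_dt (f233918 IH) (Lpr_ct (K12.f222682 IH) (Lpr_dt (K12.f220131 IH) (Lpr_ct (f220340 IH) (Lpr_dt (K12.f596 IH) (Lpr_ct (K12.f167356 IH) (Lpr_dt (K13.f199760 IH) (Lpr_ct (K13.f199695 IH) (Lpr_dt (K13.f233929 IH) (Lpn (LP (LK LD1_c8 LD2_c6 LD3_c25))))))))))))))))))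
theorem f234330 : Led Lsl_gt (LP (LK LD1_c4 LD2_c9 LD3_c8)) = (LP (LK LD1_c8 LD2_c17 LD3_c38)) :=
  Lgr Lrot150 (Lpr_cf (f234107 IH) (Lpe (K13.f51391 IH) (Lpe (K12.f50189 IH) (Lpr_gt (K13.f50200 IH) (Lpe (K13.f233891 IH) (Lpe (K13.f222461 IH) (Lpr_ct (K12.f222471 IH) (Lpr_df (K13.f234318 IH) (Lpe (K13.f234328 IH) (Lpn (LP (LK LD1_c8 LD2_c17 LD3_c38))))))))))))
theorem f216895 : Led Lsl_gt (LP (LK LD1_c2 LD2_c40 LD3_c55)) = (LP (LK LD1_c4 LD2_c2 LD3_c52)) :=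
  Lgr Lrot5 (Lpr_ft (K12.f216874 IH) (Lpe (K12.f50154 IH) (Lpe (K13.f50204 IH) (Lpn (LP (LK LD1_c4 LD2_c2 LD3_c52))))))
theorem f213209 : Led Lsl_dt (LP (LK LD1_c4 LD2_c2 LD3_c52)) = (LP (LK LD1_c8 LD2_c6 LD3_c18)) :=
  Lre_d IH (LK LD1_c4 LD2_c2 LD3_c52) (LK LD1_c8 LD2_c6 LD3_c18) Lrfl Lrfl
theorem f190855 : Led Lsl_dt (LP (LK LD1_c2 LD2_c1 LD3_c61)) = (LP (LK LD1_c4 LD2_c9 LD3_c21)) :=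
  Lre_d IH (LK LD1_c2 LD2_c1 LD3_c61) (LK LD1_c4 LD2_c9 LD3_c21) Lrfl Lrfl
theorem f234340 : Led Lsl_cf (LP (LK LD1_c8 LD2_c6 LD3_c18)) = (LP (LK LD1_c4 LD2_c9 LD3_c21)) :=
  Lgr Lrot14 (Lpe (f213209 IH) (Lpe (f216895 IH) (Lpr_df (K12.f216889 IH) (Lpe (K13.f50518 IH) (Lpe (f234107 IH) (Lpr_gt (f234330 IH) (Lpe (K12.f222746 IH) (Lpr_gt (K12.f222743 IH) (Lpr_dt (f190855 IH) (Lpn (LP (LK LD1_c4 LD2_c9 LD3_c21))))))))))))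
theorem f213210 : Led Lsl_dt (LP (LK LD1_c8 LD2_c6 LD3_c18)) = (LP (LK LD1_c4 LD2_c2 LD3_c52)) :=
  Lre_d IH (LK LD1_c8 LD2_c6 LD3_c18) (LK LD1_c4 LD2_c2 LD3_c52) Lrfl Lrfl
theorem f232151 : Led Lsl_cf (LP (LK LD1_c5 LD2_c0 LD3_c36)) = (LP (LK LD1_c4 LD2_c2 LD3_c52)) :=
  Lgr Lrot166 (Lpr_gt (K13.f48171 IH) (Lpr_dt (K9.f48170 IH) (Lpr_gt (K13.f232147 IH) (Lpr_dt (K13.f199760 IH) (Lpr_ct (K13.f199695 IH) (Lpe (K13.f232149 IH) (Lpe (K13.f51391 IH) (Lpe (K12.f50189 IH) (Lpe (K13.f50204 IH) (Lpn (LP (LK LD1_c4 LD2_c2 LD3_c52))))))))))))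
theorem f222908 : Led Lsl_ct (LP (LK LD1_c4 LD2_c9 LD3_c35)) = (LP (LK LD1_c2 LD2_c2 LD3_c4)) :=
  Lre_c IH (LK LD1_c4 LD2_c9 LD3_c35) (LK LD1_c2 LD2_c2 LD3_c4) Lrfl Lrfl
theorem f222799 : Led Lsl_dt (LP (LK LD1_c2 LD2_c2 LD3_c3)) = (LP (LK LD1_c4 LD2_c9 LD3_c33)) :=
  Lre_d IH (LK LD1_c2 LD2_c2 LD3_c3) (LK LD1_c4 LD2_c9 LD3_c33) Lrfl Lrfl
theorem f190823 : Led Lsl_ct (LP (LK LD1_c4 LD2_c9 LD3_c24)) = (LP (LK LD1_c2 LD2_c2 LD3_c0)) :=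
  Lre_c IH (LK LD1_c4 LD2_c9 LD3_c24) (LK LD1_c2 LD2_c2 LD3_c0) Lrfl Lrfl
theorem f216878 : Led Lsl_dt (LP (LK LD1_c8 LD2_c6 LD3_c15)) = (LP (LK LD1_c4 LD2_c2 LD3_c51)) :=
  Lre_d IH (LK LD1_c8 LD2_c6 LD3_c15) (LK LD1_c4 LD2_c2 LD3_c51) Lrfl Lrfl
theorem f234360 : Led Lsl_ct (LP (LK LD1_c4 LD2_c9 LD3_c33)) = (LP (LK LD1_c8 LD2_c6 LD3_c15)) :=
  Lgr Lrot176 (Lpe (f222799 IH) (Lpe (K12.f53416 IH) (Lpe (K13.f51459 IH) (Lpe (f222908 IH) (Lpe (K13.f232103 IH) (Lpr_cf (f232151 IH) (Lpe (f213210 IH) (Lpr_cf (f234340 IH) (Lpe (f190855 IH) (Lpe (K12.f167240 IH) (Lpe (K13.f51461 IH) (Lpe (f190823 IH) (Lpr_df (K13.f190820 IH) (Lpr_cf (K13.f233891 IH) (Lpe (f216878 IH) (Lpn (LP (LK LD1_c8 LD2_c6 LD3_c15))))))))))))))))))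
theorem f222906 : Led Lsl_gt (LP (LK LD1_c4 LD2_c9 LD3_c18)) = (LP (LK LD1_c2 LD2_c2 LD3_c3)) :=
  Lgr Lrot5 (Lpr_ft (K12.f222897 IH) (Lpe (K12.f222901 IH) (Lpr_gf (K12.f222786 IH) (Lpn (LP (LK LD1_c2 LD2_c2 LD3_c3))))))
theorem f50201 : Led Lsl_dt (LP (LK LD1_c4 LD2_c2 LD3_c51)) = (LP (LK LD1_c8 LD2_c6 LD3_c15)) :=
  Lre_d IH (LK LD1_c4 LD2_c2 LD3_c51) (LK LD1_c8 LD2_c6 LD3_c15) Lrfl Lrfl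
theorem f220130 : Led Lsl_gt (LP (LK LD1_c4 LD2_c8 LD3_c45)) = (LP (LK LD1_c8 LD2_c17 LD3_c37)) :=
  Lre_g IH (LK LD1_c4 LD2_c8 LD3_c45) (LK LD1_c8 LD2_c17 LD3_c37) Lrfl Lrfl
theorem f234420 : Led Lsl_df (LP (LK LD1_c4 LD2_c9 LD3_c18)) = (LP (LK LD1_c8 LD2_c17 LD3_c37)) :=
  Lgr Lrot16 (Lpr_gt (f222906 IH) (Lpr_dt (f222799 IH) (Lpr_ct (f234360 IH) (Lpe (f50201 IH) (Lpe (K13.f50200 IH) (Lpe (K12.f50161 IH) (Lpe (K12.f50513 IH) (Lpr_ct (K12.f222682 IH) (Lpr_gt (f220130 IH) (Lpn (LP (LK LD1_c8 LD2_c17 LD3_c37))))))))))))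
theorem f44945 : Led Lsl_dt (LP (LK LD1_c5 LD2_c17 LD3_c11)) = (LP (LK LD1_c10 LD2_c24 LD3_c1)) :=
  Lre_d IH (LK LD1_c5 LD2_c17 LD3_c11) (LK LD1_c10 LD2_c24 LD3_c1) Lrfl Lrfl
theorem f234435 : Led Lsl_ft (LP (LK LD1_c10 LD2_c24 LD3_c1)) = (LP (LK LD1_c8 LD2_c17 LD3_c37)) :=
  Lgr Lrot54 (Lpe (f44945 IH) (Lpe (K12.f222897 IH) (Lpr_df (f234420 IH) (Lpn (LP (LK LD1_c8 LD2_c17 LD3_c37))))))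
theorem f222079 : Led Lsl_at (LP (LK LD1_c2 LD2_c3 LD3_c45)) = (LP (LK LD1_c2 LD2_c6 LD3_c36)) :=
  Lgr Lrot66 (Lpr_ff (K12.f222077 IH) (Lpe (K10.f53769 IH) (Lpe (K12.f188852 IH) (Lpn (LP (LK LD1_c2 LD2_c6 LD3_c36))))))
theorem f221827 : Led Lsl_bt (LP (LK LD1_c0 LD2_c31 LD3_c31)) = (LP (LK LD1_c1 LD2_c8 LD3_c59)) :=
  Lre_b IH (LK LD1_c0 LD2_c31 LD3_c31) (LK LD1_c1 LD2_c8 LD3_c59) Lrfl Lrfl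
theorem f221828 : Led Lsl_gf (LP (LK LD1_c2 LD2_c6 LD3_c36)) = (LP (LK LD1_c1 LD2_c8 LD3_c59)) :=
  Lgr Lrot181 (Lpr_ct (K12.f188827 IH) (Lpr_gt (K12.f221812 IH) (Lpe (K12.f51490 IH) (Lpr_bt (K12.f51489 IH) (Lpr_gt (K12.f600 IH) (Lpe (K13.f502 IH) (Lpr_ct (K9.f506 IH) (Lpr_gt (K9.f1128 IH) (Lpr_cf (K9.f171194 IH) (Lpr_bt (f221827 IH) (Lpn (LP (LK LD1_c1 LD2_c8 LD3_c59)))))))))))))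
theorem f222089 : Led Lsl_gf (LP (LK LD1_c1 LD2_c8 LD3_c59)) = (LP (LK LD1_c2 LD2_c0 LD3_c24)) :=
  Lgr Lrot47 (Lpe (f221828 IH) (Lpe (f222079 IH) (Lpr_ff (K12.f222077 IH) (Lpn (LP (LK LD1_c2 LD2_c0 LD3_c24))))))
theorem f222094 : Led Lsl_gt (LP (LK LD1_c4 LD2_c8 LD3_c20)) = (LP (LK LD1_c5 LD2_c17 LD3_c11)) :=
  Lgr Lrot149 (Lpe (K13.f47540 IH) (Lpe (K10.f47554 IH) (Lpe (K9.f47728 IH) (Lpr_ct (K9.f51607 IH) (Lpr_gf (K9.f52225 IH) (Lpr_cf (K9.f171194 IH) (Lpr_bt (f221827 IH) (Lpr_gf (f222089 IH) (Lpe (K10.f53734 IH) (Lpr_ct (K12.f44944 IH) (Lpn (LP (LK LD1_c5 LD2_c17 LD3_c11)))))))))))))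
theorem f222122 : Led Lsl_dt (LP (LK LD1_c8 LD2_c16 LD3_c28)) = (LP (LK LD1_c4 LD2_c8 LD3_c13)) :=
  Lre_d IH (LK LD1_c8 LD2_c16 LD3_c28) (LK LD1_c4 LD2_c8 LD3_c13) Lrfl Lrfl
theorem f222123 : Led Lsl_gf (LP (LK LD1_c8 LD2_c16 LD3_c28)) = (LP (LK LD1_c10 LD2_c24 LD3_c1)) :=
  Lgr Lrot143 (Lpr_dt (f222122 IH) (Lpe (f53453 IH) (Lpe (K12.f774 IH) (Lpe (K12.f773 IH) (Lpe (K9.f766 IH) (Lpe (K10.f1329 IH) (Lpe (K13.f47549 IH) (Lpr_gt (f222094 IH) (Lpr_dt (f44945 IH) (Lpn (LP (LK LD1_c10 LD2_c24 LD3_c1))))))))))))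
theorem f234649 : Led Lsl_af (LP (LK LD1_c10 LD2_c50 LD3_c19)) = (LP (LK LD1_c8 LD2_c17 LD3_c37)) :=
  Lgr Lrot45 (Lpe (K12.f222819 IH) (Lpr_at (K12.f222961 IH) (Lpr_ft (f234435 IH) (Lpn (LP (LK LD1_c8 LD2_c17 LD3_c37))))))
theorem f234651 : Led Lsl_gt (LP (LK LD1_c8 LD2_c16 LD3_c28)) = (LP (LK LD1_c10 LD2_c50 LD3_c19)) :=
  Lgr Lrot46 (Lpr_gf (f222123 IH) (Lpr_ft (f234435 IH) (Lpe (f234649 IH) (Lpn (LP (LK LD1_c10 LD2_c50 LD3_c19))))))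
theorem f222500 : Led Lsl_ct (LP (LK LD1_c10 LD2_c50 LD3_c19)) = (LP (LK LD1_c5 LD2_c30 LD3_c3)) :=
  Lgr Lrot176 (Lpe (K12.f212872 IH) (Lpe (K13.f212871 IH) (Lpe (K12.f212843 IH) (Lpe (K12.f212775 IH) (Lpe (K12.f212849 IH) (Lpr_cf (K12.f213049 IH) (Lpr_df (K13.f216974 IH) (Lpe (K13.f217126 IH) (Lpe (f44945 IH) (Lpe (K12.f44944 IH) (Lpe (K10.f32137 IH) (Lpe (K10.f44938 IH) (Lpe (K10.f44943 IH) (Lpe (K12.f216933 IH) (Lpr_df (K12.f222493 IH) (Lpn (LP (LK LD1_c5 LD2_c30 LD3_c3))))))))))))))))))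
theorem f222674 : Led Lsl_df (LP (LK LD1_c4 LD2_c9 LD3_c53)) = (LP (LK LD1_c2 LD2_c41 LD3_c5)) :=
  Lgr Lrot38 (Lpr_dt (K12.f222531 IH) (Lpn (LP (LK LD1_c2 LD2_c41 LD3_c5))))
theorem f234659 : Led Lsl_gt (LP (LK LD1_c4 LD2_c8 LD3_c13)) = (LP (LK LD1_c5 LD2_c29 LD3_c36)) :=
  Lgr Lrot9 (Lpe (f222122 IH) (Lpr_gt (f234651 IH) (Lpr_ct (f222500 IH) (Lpe (K12.f222517 IH) (Lpe (K12.f222519 IH) (Lpr_df (f222674 IH) (Lpe (K12.f168361 IH) (Lpe (K12.f168373 IH) (Lpe (K12.f213767 IH) (Lpn (LP (LK LD1_c5 LD2_c29 LD3_c36))))))))))))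
theorem f190862 : Led Lsl_dt (LP (LK LD1_c4 LD2_c9 LD3_c21)) = (LP (LK LD1_c2 LD2_c1 LD3_c61)) :=
  Lre_d IH (LK LD1_c4 LD2_c9 LD3_c21) (LK LD1_c2 LD2_c1 LD3_c61) Lrfl Lrfl
theorem f233262 : Led Lsl_gt (LP (LK LD1_c8 LD2_c18 LD3_c46)) = (LP (LK LD1_c4 LD2_c9 LD3_c21)) :=
  Lre_g IH (LK LD1_c8 LD2_c18 LD3_c46) (LK LD1_c4 LD2_c9 LD3_c21) Lrfl Lrfl
theorem f236245 : Led Lsl_dt (LP (LK LD1_c5 LD2_c29 LD3_c36)) = (LP (LK LD1_c8 LD2_c18 LD3_c46)) :=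
  Lgr Lrot57 (Lpe (f234659 IH) (Lpe (f53453 IH) (Lpe (K12.f189099 IH) (Lpr_dt (f167639 IH) (Lpr_gt (K13.f236241 IH) (Lpr_dt (K13.f51461 IH) (Lpe (K12.f190861 IH) (Lpe (f190862 IH) (Lpe (f233262 IH) (Lpn (LP (LK LD1_c8 LD2_c18 LD3_c46))))))))))))
theorem f250862 : Led Lsl_gt (LP (LK LD1_c8 LD2_c6 LD3_c18)) = (LP (LK LD1_c8 LD2_c55 LD3_c43)) :=
  Lgr Lrot150 (Lpr_cf (f234340 IH) (Lpe (f233262 IH) (Lpe (f236245 IH) (Lpe (K12.f222972 IH) (Lpr_ct (K12.f222250 IH) (Lpe (f250685 IH) (Lpr_ct (f250658 IH) (Lpr_df (f250675 IH) (Lpr_cf (f250856 IH) (Lpn (LP (LK LD1_c8 LD2_c55 LD3_c43))))))))))))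
theorem f213143 : Led Lsl_dt (LP (LK LD1_c8 LD2_c6 LD3_c9)) = (LP (LK LD1_c4 LD2_c2 LD3_c48)) :=
  Lre_d IH (LK LD1_c8 LD2_c6 LD3_c9) (LK LD1_c4 LD2_c2 LD3_c48) Lrfl Lrfl
theorem f250864 : Led Lsl_gt (LP (LK LD1_c8 LD2_c19 LD3_c27)) = (LP (LK LD1_c4 LD2_c9 LD3_c45)) :=
  Lgr Lrot150 (Lpr_cf (f250856 IH) (Lpe (f250862 IH) (Lpe (f213209 IH) (Lpr_gt (K13.f50204 IH) (Lpr_ct (K13.f50186 IH) (Lpr_gt (K12.f33099 IH) (Lpr_ct (K12.f200736 IH) (Lpe (f213143 IH) (Lpr_cf (K12.f213179 IH) (Lpn (LP (LK LD1_c4 LD2_c9 LD3_c45))))))))))))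
theorem f220094 : Led Lsl_dt (LP (LK LD1_c4 LD2_c8 LD3_c42)) = (LP (LK LD1_c8 LD2_c17 LD3_c27)) :=
  Lre_d IH (LK LD1_c4 LD2_c8 LD3_c42) (LK LD1_c8 LD2_c17 LD3_c27) Lrfl Lrfl
theorem f213235 : Led Lsl_dt (LP (LK LD1_c5 LD2_c32 LD3_c9)) = (LP (LK LD1_c2 LD2_c42 LD3_c17)) :=
  Lre_d IH (LK LD1_c5 LD2_c32 LD3_c9) (LK LD1_c2 LD2_c42 LD3_c17) Lrfl Lrfl
theorem f213236 : Led Lsl_ft (LP (LK LD1_c8 LD2_c6 LD3_c9)) = (LP (LK LD1_c5 LD2_c32 LD3_c9)) :=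
  Lgr Lrot54 (Lpe (K12.f213144 IH) (Lpr_ff (K12.f213169 IH) (Lpe (f213235 IH) (Lpn (LP (LK LD1_c5 LD2_c32 LD3_c9))))))
theorem f213275 : Led Lsl_at (LP (LK LD1_c5 LD2_c32 LD3_c9)) = (LP (LK LD1_c2 LD2_c42 LD3_c22)) :=
  Lre_a IH (LK LD1_c5 LD2_c32 LD3_c9) (LK LD1_c2 LD2_c42 LD3_c22) Lrfl Lrfl
theorem f213281 : Led Lsl_gt (LP (LK LD1_c5 LD2_c32 LD3_c23)) = (LP (LK LD1_c2 LD2_c42 LD3_c22)) :=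
  Lre_g IH (LK LD1_c5 LD2_c32 LD3_c23) (LK LD1_c2 LD2_c42 LD3_c22) Lrfl Lrfl
theorem f213282 : Led Lsl_gt (LP (LK LD1_c8 LD2_c6 LD3_c9)) = (LP (LK LD1_c5 LD2_c32 LD3_c23)) :=
  Lgr Lrot5 (Lpr_ft (f213236 IH) (Lpr_at (f213275 IH) (Lpe (f213281 IH) (Lpn (LP (LK LD1_c5 LD2_c32 LD3_c23))))))
theorem f250868 : Led Lsl_cf (LP (LK LD1_c8 LD2_c17 LD3_c27)) = (LP (LK LD1_c5 LD2_c32 LD3_c23)) :=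
  Lgr Lrot99 (Lpe (f220094 IH) (Lpr_cf (f220068 IH) (Lpr_gf (f246691 IH) (Lpe (f173264 IH) (Lpe (f250687 IH) (Lpr_df (f250675 IH) (Lpr_gt (f250864 IH) (Lpe (K12.f213179 IH) (Lpr_gt (f213282 IH) (Lpn (LP (LK LD1_c5 LD2_c32 LD3_c23))))))))))))
theorem f213357 : Led Lsl_dt (LP (LK LD1_c2 LD2_c42 LD3_c22)) = (LP (LK LD1_c1 LD2_c17 LD3_c46)) :=
  Lre_d IH (LK LD1_c2 LD2_c42 LD3_c22) (LK LD1_c1 LD2_c17 LD3_c46) Lrfl Lrfl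
theorem f222254 : Led Lsl_dt (LP (LK LD1_c8 LD2_c16 LD3_c39)) = (LP (LK LD1_c4 LD2_c8 LD3_c18)) :=
  Lre_d IH (LK LD1_c8 LD2_c16 LD3_c39) (LK LD1_c4 LD2_c8 LD3_c18) Lrfl Lrfl
theorem f250898 : Led Lsl_gt (LP (LK LD1_c8 LD2_c17 LD3_c27)) = (LP (LK LD1_c8 LD2_c16 LD3_c39)) :=
  Lgr Lrot94 (Lpr_cf (f250868 IH) (Lpr_gt (f213281 IH) (Lpr_dt (f213357 IH) (Lpr_gt (K12.f168084 IH) (Lpr_dt (K12.f222502 IH) (Lpe (f222500 IH) (Lpe (K12.f212872 IH) (Lpr_gf (K12.f222246 IH) (Lpe (f222254 IH) (Lpn (LP (LK LD1_c8 LD2_c16 LD3_c39))))))))))))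
theorem f216853 : Led Lsl_dt (LP (LK LD1_c8 LD2_c17 LD3_c18)) = (LP (LK LD1_c4 LD2_c8 LD3_c38)) :=
  Lre_d IH (LK LD1_c8 LD2_c17 LD3_c18) (LK LD1_c4 LD2_c8 LD3_c38) Lrfl Lrfl
theorem f216854 : Led Lsl_ct (LP (LK LD1_c4 LD2_c8 LD3_c38)) = (LP (LK LD1_c2 LD2_c1 LD3_c41)) :=
  Lre_c IH (LK LD1_c4 LD2_c8 LD3_c38) (LK LD1_c2 LD2_c1 LD3_c41) Lrfl Lrfl
theorem f234161 : Led Lsl_dt (LP (LK LD1_c2 LD2_c1 LD3_c41)) = (LP (LK LD1_c2 LD2_c5 LD3_c21)) :=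
  Lgr Lrot173 (Lpe (f216854 IH) (Lpe (f216853 IH) (Lpe (K13.f233923 IH) (Lpe (K13.f220214 IH) (Lpe (K13.f220213 IH) (Lpe (K12.f216970 IH) (Lpr_cf (K12.f220209 IH) (Lpe (K12.f220062 IH) (Lpe (K12.f220042 IH) (Lpe (K13.f220041 IH) (Lpr_cf (K13.f234121 IH) (Lpe (K13.f220566 IH) (Lpe (K12.f220565 IH) (Lpr_df (K12.f220562 IH) (Lpe (K13.f220567 IH) (Lpn (LP (LK LD1_c2 LD2_c5 LD3_c21))))))))))))))))))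
theorem f250902 : Led Lsl_gt (LP (LK LD1_c2 LD2_c5 LD3_c21)) = (LP (LK LD1_c2 LD2_c40 LD3_c29)) :=
  Lgr Lrot49 (Lpe (f234161 IH) (Lpe (K13.f1434 IH) (Lpe (f220340 IH) (Lpr_gt (f220067 IH) (Lpr_dt (f220094 IH) (Lpr_gt (f250898 IH) (Lpr_dt (f222254 IH) (Lpe (K12.f53450 IH) (Lpe (K13.f236104 IH) (Lpn (LP (LK LD1_c2 LD2_c40 LD3_c29))))))))))))
theorem f250927 : Led Lsl_gf (LP (LK LD1_c2 LD2_c6 LD3_c55)) = (LP (LK LD1_c2 LD2_c40 LD3_c29)) :=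
  Lgr Lrot76 (Lpr_af (f236379 IH) (Lpe (f236410 IH) (Lpr_gt (f250902 IH) (Lpn (LP (LK LD1_c2 LD2_c40 LD3_c29))))))
theorem f227188 : Led Lsl_gf (LP (LK LD1_c0 LD2_c28 LD3_c8)) = (LP (LK LD1_c0 LD2_c27 LD3_c33)) :=
  Lgr Lrot144 (Lpe (K11.f166444 IH) (Lpr_gt (K11.f211268 IH) (Lpr_dt (K11.f28216 IH) (Lpr_cf (K11.f201045 IH) (Lpe (K11.f53072 IH) (Lpr_gf (K12.f226899 IH) (Lpe (K9.f28824 IH) (Lpr_gf (K12.f211441 IH) (Lpe (K10.f170294 IH) (Lpn (LP (LK LD1_c0 LD2_c27 LD3_c33))))))))))))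
theorem f236109 : Led Lsl_ct (LP (LK LD1_c5 LD2_c28 LD3_c17)) = (LP (LK LD1_c2 LD2_c40 LD3_c29)) :=
  Lre_c IH (LK LD1_c5 LD2_c28 LD3_c17) (LK LD1_c2 LD2_c40 LD3_c29) Lrfl Lrfl
theorem f250960 : Led Lsl_bf (LP (LK LD1_c4 LD2_c13 LD3_c14)) = (LP (LK LD1_c5 LD2_c28 LD3_c17)) :=
  Lgr Lrot34 (Lpe (f246577 IH) (Lpe (K12.f166462 IH) (Lpr_ct (K12.f166452 IH) (Lpr_gf (f227188 IH) (Lpe (K12.f180100 IH) (Lpr_gf (K12.f200389 IH) (Lpe (K12.f220211 IH) (Lpr_ct (K13.f220207 IH) (Lpr_gf (f250927 IH) (Lpe (f236109 IH) (Lpn (LP (LK LD1_c5 LD2_c28 LD3_c17)))))))))))))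
theorem f220721 : Led Lsl_bt (LP (LK LD1_c0 LD2_c59 LD3_c45)) = (LP (LK LD1_c2 LD2_c5 LD3_c19)) :=
  Lre_b IH (LK LD1_c0 LD2_c59 LD3_c45) (LK LD1_c2 LD2_c5 LD3_c19) Lrfl Lrfl
theorem f250970 : Led Lsl_gt (LP (LK LD1_c2 LD2_c38 LD3_c54)) = (LP (LK LD1_c2 LD2_c5 LD3_c19)) :=
  Lgr Lrot164 (Lpe (K10.f194599 IH) (Lpr_ct (K12.f42255 IH) (Lpe (K13.f230405 IH) (Lpr_cf (K13.f230385 IH) (Lpe (K13.f246292 IH) (Lpr_bf (f250960 IH) (Lpr_ct (f236109 IH) (Lpe (f250902 IH) (Lpe (K13.f234207 IH) (Lpr_bt (f220721 IH) (Lpn (LP (LK LD1_c2 LD2_c5 LD3_c19)))))))))))))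
theorem f194657 : Led Lsl_gt (LP (LK LD1_c10 LD2_c35 LD3_c18)) = (LP (LK LD1_c5 LD2_c22 LD3_c27)) :=
  Lre_g IH (LK LD1_c10 LD2_c35 LD3_c18) (LK LD1_c5 LD2_c22 LD3_c27) Lrfl Lrfl
theorem f220646 : Led Lsl_et (LP (LK LD1_c2 LD2_c37 LD3_c39)) = (LP (LK LD1_c5 LD2_c22 LD3_c16)) :=
  Lre_e IH (LK LD1_c2 LD2_c37 LD3_c39) (LK LD1_c5 LD2_c22 LD3_c16) Lrfl Lrfl
theorem f220647 : Led Lsl_gt (LP (LK LD1_c5 LD2_c22 LD3_c16)) = (LP (LK LD1_c10 LD2_c34 LD3_c60)) :=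
  Lre_g IH (LK LD1_c5 LD2_c22 LD3_c16) (LK LD1_c10 LD2_c34 LD3_c60) Lrfl Lrfl
theorem f220648 : Led Lsl_et (LP (LK LD1_c19 LD2_c10 LD3_c30)) = (LP (LK LD1_c10 LD2_c34 LD3_c60)) :=
  Lre_e IH (LK LD1_c19 LD2_c10 LD3_c30) (LK LD1_c10 LD2_c34 LD3_c60) Lrfl Lrfl
theorem f250976 : Led Lsl_df (LP (LK LD1_c10 LD2_c35 LD3_c18)) = (LP (LK LD1_c19 LD2_c10 LD3_c30)) :=
  Lgr Lrot170 (Lpr_gt (f194657 IH) (Lpr_df (K10.f194653 IH) (Lpr_et (K10.f194620 IH) (Lpe (K10.f194616 IH) (Lpr_dt (K10.f194605 IH) (Lpr_gt (f250970 IH) (Lpe (K12.f220632 IH) (Lpr_et (f220646 IH) (Lpr_gt (f220647 IH) (Lpe (f220648 IH) (Lpn (LP (LK LD1_c19 LD2_c10 LD3_c30)))))))))))))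
theorem f50363 : Led Lsl_at (LP (LK LD1_c8 LD2_c39 LD3_c48)) = (LP (LK LD1_c8 LD2_c15 LD3_c46)) :=
  Lgr Lrot67 (Lpe (K10.f30981 IH) (Lpe (K10.f27996 IH) (Lpr_bf (K9.f50354 IH) (Lpr_af (K9.f49627 IH) (Lpe (K12.f50095 IH) (Lpn (LP (LK LD1_c8 LD2_c15 LD3_c46))))))))
theorem f196798 : Led Lsl_at (LP (LK LD1_c5 LD2_c22 LD3_c15)) = (LP (LK LD1_c5 LD2_c22 LD3_c27)) :=
  Lgr Lrot66 (Lpr_ff (K12.f196766 IH) (Lpe (f50363 IH) (Lpr_ff (K10.f196550 IH) (Lpn (LP (LK LD1_c5 LD2_c22 LD3_c27))))))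
theorem f196802 : Led Lsl_gf (LP (LK LD1_c10 LD2_c35 LD3_c18)) = (LP (LK LD1_c8 LD2_c15 LD3_c46)) :=
  Lgr Lrot47 (Lpr_gt (f194657 IH) (Lpe (f196798 IH) (Lpr_ff (K12.f196766 IH) (Lpn (LP (LK LD1_c8 LD2_c15 LD3_c46))))))
theorem f50096 : Led Lsl_dt (LP (LK LD1_c8 LD2_c15 LD3_c46)) = (LP (LK LD1_c8 LD2_c15 LD3_c46)) :=
  Lgr Lrot79 (Lpe (K12.f50094 IH) (Lpr_df (K9.f50089 IH) (Lpe (K12.f50095 IH) (Lpn (LP (LK LD1_c8 LD2_c15 LD3_c46))))))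
theorem f188033 : Led Lsl_et (LP (LK LD1_c5 LD2_c21 LD3_c45)) = (LP (LK LD1_c2 LD2_c37 LD3_c27)) :=
  Lre_e IH (LK LD1_c5 LD2_c21 LD3_c45) (LK LD1_c2 LD2_c37 LD3_c27) Lrfl Lrfl
theorem f246339 : Led Lsl_gf (LP (LK LD1_c10 LD2_c35 LD3_c26)) = (LP (LK LD1_c10 LD2_c34 LD3_c60)) :=
  Lgr Lrot76 (Lpr_af (K13.f246331 IH) (Lpe (K13.f220658 IH) (Lpr_gt (f220647 IH) (Lpn (LP (LK LD1_c10 LD2_c34 LD3_c60))))))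
theorem f220663 : Led Lsl_gt (LP (LK LD1_c8 LD2_c30 LD3_c52)) = (LP (LK LD1_c4 LD2_c15 LD3_c55)) :=
  Lre_g IH (LK LD1_c8 LD2_c30 LD3_c52) (LK LD1_c4 LD2_c15 LD3_c55) Lrfl Lrfl
theorem f246351 : Led Lsl_gt (LP (LK LD1_c8 LD2_c40 LD3_c56)) = (LP (LK LD1_c8 LD2_c30 LD3_c52)) :=
  Lgr Lrot5 (Lpr_ft (K13.f196653 IH) (Lpr_at (K13.f246343 IH) (Lpe (f220663 IH) (Lpn (LP (LK LD1_c8 LD2_c30 LD3_c52))))))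
theorem f250983 : Led Lsl_dt (LP (LK LD1_c5 LD2_c21 LD3_c45)) = (LP (LK LD1_c8 LD2_c30 LD3_c52)) :=
  Lgr Lrot56 (Lpr_et (f188033 IH) (Lpe (K11.f188025 IH) (Lpe (K12.f49246 IH) (Lpr_dt (f50096 IH) (Lpe (f196802 IH) (Lpr_df (f250976 IH) (Lpr_et (f220648 IH) (Lpe (f246339 IH) (Lpr_dt (K13.f196651 IH) (Lpr_gt (f246351 IH) (Lpn (LP (LK LD1_c8 LD2_c30 LD3_c52)))))))))))))
theorem f50104 : Led Lsl_dt (LP (LK LD1_c4 LD2_c7 LD3_c52)) = (LP (LK LD1_c2 LD2_c1 LD3_c17)) :=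
  Lre_d IH (LK LD1_c4 LD2_c7 LD3_c52) (LK LD1_c2 LD2_c1 LD3_c17) Lrfl Lrfl
theorem f183898 : Led Lsl_dt (LP (LK LD1_c2 LD2_c33 LD3_c9)) = (LP (LK LD1_c1 LD2_c13 LD3_c32)) :=
  Lre_d IH (LK LD1_c2 LD2_c33 LD3_c9) (LK LD1_c1 LD2_c13 LD3_c32) Lrfl Lrfl
theorem f183961 : Led Lsl_et (LP (LK LD1_c2 LD2_c33 LD3_c9)) = (LP (LK LD1_c5 LD2_c12 LD3_c37)) :=
  Lre_e IH (LK LD1_c2 LD2_c33 LD3_c9) (LK LD1_c5 LD2_c12 LD3_c37) Lrfl Lrfl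
theorem f183951 : Led Lsl_gt (LP (LK LD1_c5 LD2_c12 LD3_c37)) = (LP (LK LD1_c10 LD2_c15 LD3_c38)) :=
  Lre_g IH (LK LD1_c5 LD2_c12 LD3_c37) (LK LD1_c10 LD2_c15 LD3_c38) Lrfl Lrfl
theorem f250994 : Led Lsl_ef (LP (LK LD1_c10 LD2_c15 LD3_c38)) = (LP (LK LD1_c10 LD2_c35 LD3_c26)) :=
  Lgr Lrot17 (Lpe (f183951 IH) (Lpe (f183961 IH) (Lpr_dt (f183898 IH) (Lpe (K10.f183952 IH) (Lpe (f50104 IH) (Lpr_gf (K11.f188025 IH) (Lpe (f188033 IH) (Lpr_dt (f250983 IH) (Lpe (f246351 IH) (Lpe (K13.f196651 IH) (Lpn (LP (LK LD1_c10 LD2_c35 LD3_c26)))))))))))))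
theorem f250997 : Led Lsl_et (LP (LK LD1_c10 LD2_c15 LD3_c38)) = (LP (LK LD1_c10 LD2_c35 LD3_c26)) :=
  Lgr Lrot87 (Lpr_ef (f250994 IH) (Lpn (LP (LK LD1_c10 LD2_c35 LD3_c26))))
theorem f246335 : Led Lsl_at (LP (LK LD1_c10 LD2_c35 LD3_c26)) = (LP (LK LD1_c10 LD2_c35 LD3_c0)) :=
  Lgr Lrot100 (Lpr_af (K13.f246331 IH) (Lpn (LP (LK LD1_c10 LD2_c35 LD3_c0))))
theorem f221591 : Led Lsl_et (LP (LK LD1_c5 LD2_c22 LD3_c35)) = (LP (LK LD1_c2 LD2_c37 LD3_c50)) :=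
  Lre_e IH (LK LD1_c5 LD2_c22 LD3_c35) (LK LD1_c2 LD2_c37 LD3_c50) Lrfl Lrfl
theorem f228761 : Led Lsl_ft (LP (LK LD1_c10 LD2_c35 LD3_c30)) = (LP (LK LD1_c5 LD2_c22 LD3_c35)) :=
  Lre_f IH (LK LD1_c10 LD2_c35 LD3_c30) (LK LD1_c5 LD2_c22 LD3_c35) Lrfl Lrfl
theorem f246315 : Led Lsl_ef (LP (LK LD1_c10 LD2_c35 LD3_c30)) = (LP (LK LD1_c10 LD2_c35 LD3_c0)) :=
  Lgr Lrot21 (Lpr_ft (f228761 IH) (Lpr_et (f221591 IH) (Lpr_ft (K13.f246311 IH) (Lpr_et (f220646 IH) (Lpr_ft (K13.f220658 IH) (Lpn (LP (LK LD1_c10 LD2_c35 LD3_c0))))))))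
theorem f250999 : Led Lsl_af (LP (LK LD1_c10 LD2_c15 LD3_c38)) = (LP (LK LD1_c10 LD2_c35 LD3_c30)) :=
  Lgr Lrot50 (Lpr_et (f250997 IH) (Lpr_at (f246335 IH) (Lpe (f246315 IH) (Lpn (LP (LK LD1_c10 LD2_c35 LD3_c30))))))
theorem f228754 : Led Lsl_ft (LP (LK LD1_c5 LD2_c22 LD3_c35)) = (LP (LK LD1_c10 LD2_c35 LD3_c30)) :=
  Lre_f IH (LK LD1_c5 LD2_c22 LD3_c35) (LK LD1_c10 LD2_c35 LD3_c30) Lrfl Lrfl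
theorem f251004 : Led Lsl_gf (LP (LK LD1_c5 LD2_c12 LD3_c37)) = (LP (LK LD1_c5 LD2_c22 LD3_c35)) :=
  Lgr Lrot47 (Lpr_gt (f183951 IH) (Lpr_af (f250999 IH) (Lpe (f228754 IH) (Lpn (LP (LK LD1_c5 LD2_c22 LD3_c35))))))
theorem f228760 : Led Lsl_et (LP (LK LD1_c2 LD2_c37 LD3_c50)) = (LP (LK LD1_c5 LD2_c22 LD3_c35)) :=
  Lre_e IH (LK LD1_c2 LD2_c37 LD3_c50) (LK LD1_c5 LD2_c22 LD3_c35) Lrfl Lrfl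
theorem f47831 : Led Lsl_df (LP (LK LD1_c0 LD2_c25 LD3_c45)) = (LP (LK LD1_c0 LD2_c14 LD3_c29)) :=
  Lgr Lrot12 (Lpr_bt (K1.f47823 IH) (Lpe (K1.f47799 IH) (Lpr_bt (K1.f41261 IH) (Lpn (LP (LK LD1_c0 LD2_c14 LD3_c29))))))
theorem f222155 : Led Lsl_gt (LP (LK LD1_c0 LD2_c26 LD3_c44)) = (LP (LK LD1_c0 LD2_c57 LD3_c11)) :=
  Lgr Lrot46 (Lpe (K12.f167250 IH) (Lpr_ft (K12.f222086 IH) (Lpe (K10.f53814 IH) (Lpn (LP (LK LD1_c0 LD2_c57 LD3_c11))))))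
theorem f228810 : Led Lsl_df (LP (LK LD1_c1 LD2_c18 LD3_c22)) = (LP (LK LD1_c0 LD2_c58 LD3_c55)) :=
  Lgr Lrot132 (Lpr_gf (K12.f228792 IH) (Lpe (K10.f41908 IH) (Lpe (K9.f41907 IH) (Lpe (K1.f41260 IH) (Lpe (f47831 IH) (Lpr_gf (K1.f47435 IH) (Lpe (K8.f47437 IH) (Lpr_et (K12.f47449 IH) (Lpe (f222155 IH) (Lpe (K12.f222160 IH) (Lpn (LP (LK LD1_c0 LD2_c58 LD3_c55)))))))))))))
theorem f246299 : Led Lsl_dt (LP (LK LD1_c2 LD2_c37 LD3_c50)) = (LP (LK LD1_c4 LD2_c15 LD3_c56)) :=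
  Lgr Lrot27 (Lpe (K13.f196721 IH) (Lpe (K13.f218392 IH) (Lpe (K12.f101437 IH) (Lpe (K12.f228684 IH) (Lpr_df (f228810 IH) (Lpr_gt (K13.f173279 IH) (Lpr_ct (K13.f183240 IH) (Lpr_gt (K13.f246292 IH) (Lpe (K13.f230385 IH) (Lpn (LP (LK LD1_c4 LD2_c15 LD3_c56))))))))))))
theorem f251008 : Led Lsl_gt (LP (LK LD1_c2 LD2_c38 LD3_c34)) = (LP (LK LD1_c4 LD2_c15 LD3_c56)) :=
  Lgr Lrot139 (Lpe (K12.f173121 IH) (Lpr_gf (K12.f182170 IH) (Lpr_ef (K9.f30860 IH) (Lpr_dt (f30873 IH) (Lpr_gf (K9.f183947 IH) (Lpe (f183898 IH) (Lpr_et (f183961 IH) (Lpr_gf (f251004 IH) (Lpe (f228760 IH) (Lpr_dt (f246299 IH) (Lpn (LP (LK LD1_c4 LD2_c15 LD3_c56)))))))))))))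
theorem f230408 : Led Lsl_ef (LP (LK LD1_c4 LD2_c15 LD3_c56)) = (LP (LK LD1_c5 LD2_c19 LD3_c3)) :=
  Lgr Lrot167 (Lpr_gt (K13.f230405 IH) (Lpr_dt (K12.f196772 IH) (Lpr_gt (K12.f30874 IH) (Lpe (K10.f30884 IH) (Lpr_et (K9.f28155 IH) (Lpe (K1.f33114 IH) (Lpe (K1.f28243 IH) (Lpr_dt (K1.f28253 IH) (Lpr_gt (f33116 IH) (Lpe (f33117 IH) (Lpn (LP (LK LD1_c5 LD2_c19 LD3_c3)))))))))))))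
theorem f188310 : Led Lsl_at (LP (LK LD1_c5 LD2_c17 LD3_c49)) = (LP (LK LD1_c8 LD2_c15 LD3_c54)) :=
  Lgr Lrot100 (Lpr_af (K10.f188303 IH) (Lpn (LP (LK LD1_c8 LD2_c15 LD3_c54))))
theorem f188312 : Led Lsl_bt (LP (LK LD1_c5 LD2_c17 LD3_c49)) = (LP (LK LD1_c10 LD2_c25 LD3_c13)) :=
  Lre_b IH (LK LD1_c5 LD2_c17 LD3_c49) (LK LD1_c10 LD2_c25 LD3_c13) Lrfl Lrfl
theorem f188458 : Led Lsl_ff (LP (LK LD1_c5 LD2_c17 LD3_c49)) = (LP (LK LD1_c4 LD2_c7 LD3_c35)) :=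
  Lgr Lrot25 (Lpr_bt (f188312 IH) (Lpr_ft (K13.f188450 IH) (Lpr_bt (K13.f45017 IH) (Lpn (LP (LK LD1_c4 LD2_c7 LD3_c35))))))
theorem f189508 : Led Lsl_gf (LP (LK LD1_c5 LD2_c17 LD3_c4)) = (LP (LK LD1_c4 LD2_c7 LD3_c35)) :=
  Lgr Lrot47 (Lpr_gt (K10.f189506 IH) (Lpe (f188310 IH) (Lpr_ff (f188458 IH) (Lpn (LP (LK LD1_c4 LD2_c7 LD3_c35))))))
theorem f229996 : Led Lsl_bf (LP (LK LD1_c2 LD2_c36 LD3_c10)) = (LP (LK LD1_c2 LD2_c35 LD3_c17)) :=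
  Lgr Lrot34 (Lpe (f33116 IH) (Lpe (f44227 IH) (Lpr_ct (K9.f44118 IH) (Lpe (f44275 IH) (Lpr_cf (f229981 IH) (Lpe (K10.f43554 IH) (Lpr_bf (K10.f50029 IH) (Lpr_ct (K10.f49650 IH) (Lpe (K10.f189506 IH) (Lpe (K10.f32458 IH) (Lpn (LP (LK LD1_c2 LD2_c35 LD3_c17)))))))))))))
theorem f247956 : Led Lsl_gt (LP (LK LD1_c2 LD2_c36 LD3_c10)) = (LP (LK LD1_c2 LD2_c36 LD3_c18)) :=
  Lgr Lrot164 (Lpr_bf (f229996 IH) (Lpr_ct (K10.f32458 IH) (Lpr_gf (f189508 IH) (Lpe (K9.f45005 IH) (Lpe (K10.f45012 IH) (Lpr_bf (f191671 IH) (Lpr_ct (f33359 IH) (Lpr_gf (f247927 IH) (Lpe (K9.f45847 IH) (Lpr_bt (K12.f45845 IH) (Lpn (LP (LK LD1_c2 LD2_c36 LD3_c18)))))))))))))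
theorem f251014 : Led Lsl_dt (LP (LK LD1_c4 LD2_c16 LD3_c60)) = (LP (LK LD1_c5 LD2_c6 LD3_c3)) :=
  Lgr Lrot56 (Lpr_et (f223846 IH) (Lpr_gt (f251008 IH) (Lpr_ef (f230408 IH) (Lpr_dt (f33117 IH) (Lpr_gt (f247956 IH) (Lpe (K1.f45850 IH) (Lpe (K1.f46084 IH) (Lpe (K10.f46353 IH) (Lpr_dt (K11.f28308 IH) (Lpr_gt (K11.f184750 IH) (Lpn (LP (LK LD1_c5 LD2_c6 LD3_c3)))))))))))))
theorem f27512 : Led Lsl_ct (LP (LK LD1_c2 LD2_c4 LD3_c18)) = (LP (LK LD1_c0 LD2_c59 LD3_c39)) :=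
  Lre_c IH (LK LD1_c2 LD2_c4 LD3_c18) (LK LD1_c0 LD2_c59 LD3_c39) Lrfl Lrfl
theorem f217293 : Led Lsl_bf (LP (LK LD1_c1 LD2_c15 LD3_c50)) = (LP (LK LD1_c0 LD2_c35 LD3_c42)) :=
  Lgr Lrot93 (Lpr_dt (K12.f171894 IH) (Lpr_bt (K12.f217291 IH) (Lpr_dt (K12.f213771 IH) (Lpn (LP (LK LD1_c0 LD2_c35 LD3_c42))))))
theorem f223878 : Led Lsl_ct (LP (LK LD1_c1 LD2_c15 LD3_c50)) = (LP (LK LD1_c2 LD2_c25 LD3_c17)) :=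
  Lgr Lrot83 (Lpr_bf (f217293 IH) (Lpr_cf (K12.f216828 IH) (Lpr_bf (K9.f51431 IH) (Lpe (f27512 IH) (Lpr_bf (K12.f223874 IH) (Lpn (LP (LK LD1_c2 LD2_c25 LD3_c17))))))))
theorem f246591 : Led Lsl_gt (LP (LK LD1_c2 LD2_c8 LD3_c21)) = (LP (LK LD1_c2 LD2_c38 LD3_c34)) :=
  Lgr Lrot94 (Lpr_cf (K12.f211411 IH) (Lpr_gt (f246577 IH) (Lpr_dt (f246297 IH) (Lpr_gt (K12.f224252 IH) (Lpr_dt (K12.f223822 IH) (Lpe (f223878 IH) (Lpe (K12.f196585 IH) (Lpr_gf (K12.f196814 IH) (Lpe (K12.f173120 IH) (Lpn (LP (LK LD1_c2 LD2_c38 LD3_c34))))))))))))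
theorem f187076 : Led Lsl_dt (LP (LK LD1_c1 LD2_c1 LD3_c19)) = (LP (LK LD1_c2 LD2_c8 LD3_c20)) :=
  Lre_d IH (LK LD1_c1 LD2_c1 LD3_c19) (LK LD1_c2 LD2_c8 LD3_c20) Lrfl Lrfl
theorem f187075 : Led Lsl_gt (LP (LK LD1_c4 LD2_c21 LD3_c38)) = (LP (LK LD1_c2 LD2_c8 LD3_c20)) :=
  Lre_g IH (LK LD1_c4 LD2_c21 LD3_c38) (LK LD1_c2 LD2_c8 LD3_c20) Lrfl Lrfl
theorem f248291 : Led Lsl_bt (LP (LK LD1_c1 LD2_c15 LD3_c19)) = (LP (LK LD1_c2 LD2_c10 LD3_c55)) :=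
  Lgr Lrot127 (Lpr_bf (f248289 IH) (Lpn (LP (LK LD1_c2 LD2_c10 LD3_c55))))
theorem f46332 : Led Lsl_ct (LP (LK LD1_c1 LD2_c15 LD3_c19)) = (LP (LK LD1_c2 LD2_c36 LD3_c39)) :=
  Lre_c IH (LK LD1_c1 LD2_c15 LD3_c19) (LK LD1_c2 LD2_c36 LD3_c39) Lrfl Lrfl
theorem f214126 : Led Lsl_at (LP (LK LD1_c2 LD2_c31 LD3_c51)) = (LP (LK LD1_c2 LD2_c28 LD3_c57)) :=
  Lgr Lrot100 (Lpr_af (K12.f214124 IH) (Lpn (LP (LK LD1_c2 LD2_c28 LD3_c57))))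
theorem f214268 : Led Lsl_ff (LP (LK LD1_c2 LD2_c31 LD3_c51)) = (LP (LK LD1_c1 LD2_c55 LD3_c48)) :=
  Lgr Lrot25 (Lpr_bt (K12.f214128 IH) (Lpr_ft (K12.f31480 IH) (Lpr_bt (K1.f31466 IH) (Lpn (LP (LK LD1_c1 LD2_c55 LD3_c48))))))
theorem f249063 : Led Lsl_gt (LP (LK LD1_c1 LD2_c55 LD3_c48)) = (LP (LK LD1_c2 LD2_c32 LD3_c18)) :=
  Lgr Lrot5 (Lpe (f214268 IH) (Lpr_at (f214126 IH) (Lpr_gf (f249061 IH) (Lpn (LP (LK LD1_c2 LD2_c32 LD3_c18))))))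
theorem f249098 : Led Lsl_gt (LP (LK LD1_c2 LD2_c36 LD3_c39)) = (LP (LK LD1_c4 LD2_c54 LD3_c18)) :=
  Lgr Lrot65 (Lpe (f46332 IH) (Lpr_bt (f248291 IH) (Lpe (f247437 IH) (Lpe (K10.f47108 IH) (Lpr_ct (K10.f190646 IH) (Lpr_gf (f249081 IH) (Lpe (f249060 IH) (Lpe (f249063 IH) (Lpe (K1.f31466 IH) (Lpr_ct (K9.f31482 IH) (Lpn (LP (LK LD1_c4 LD2_c54 LD3_c18)))))))))))))
theorem f46336 : Led Lsl_ct (LP (LK LD1_c2 LD2_c36 LD3_c39)) = (LP (LK LD1_c1 LD2_c15 LD3_c19)) :=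
  Lre_c IH (LK LD1_c2 LD2_c36 LD3_c39) (LK LD1_c1 LD2_c15 LD3_c19) Lrfl Lrfl
theorem f190319 : Led Lsl_dt (LP (LK LD1_c0 LD2_c33 LD3_c60)) = (LP (LK LD1_c1 LD2_c13 LD3_c21)) :=
  Lre_d IH (LK LD1_c0 LD2_c33 LD3_c60) (LK LD1_c1 LD2_c13 LD3_c21) Lrfl Lrfl
theorem f191165 : Led Lsl_ct (LP (LK LD1_c1 LD2_c13 LD3_c21)) = (LP (LK LD1_c2 LD2_c32 LD3_c53)) :=
  Lre_c IH (LK LD1_c1 LD2_c13 LD3_c21) (LK LD1_c2 LD2_c32 LD3_c53) Lrfl Lrfl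
theorem f185692 : Led Lsl_dt (LP (LK LD1_c5 LD2_c12 LD3_c4)) = (LP (LK LD1_c2 LD2_c32 LD3_c53)) :=
  Lre_d IH (LK LD1_c5 LD2_c12 LD3_c4) (LK LD1_c2 LD2_c32 LD3_c53) Lrfl Lrfl
theorem f249105 : Led Lsl_gf (LP (LK LD1_c5 LD2_c12 LD3_c4)) = (LP (LK LD1_c9 LD2_c40 LD3_c5)) :=
  Lgr Lrot143 (Lpr_dt (f185692 IH) (Lpe (f191165 IH) (Lpe (f190319 IH) (Lpe (K11.f192117 IH) (Lpe (K1.f28255 IH) (Lpe (f28269 IH) (Lpe (f46336 IH) (Lpr_gt (f249098 IH) (Lpr_dt (K9.f43431 IH) (Lpn (LP (LK LD1_c9 LD2_c40 LD3_c5))))))))))))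
theorem f249356 : Led Lsl_gt (LP (LK LD1_c5 LD2_c12 LD3_c4)) = (LP (LK LD1_c9 LD2_c40 LD3_c31)) :=
  Lgr Lrot46 (Lpr_gf (f249105 IH) (Lpe (f43564 IH) (Lpe (f43521 IH) (Lpn (LP (LK LD1_c9 LD2_c40 LD3_c31))))))
theorem f43559 : Led Lsl_dt (LP (LK LD1_c2 LD2_c25 LD3_c6)) = (LP (LK LD1_c4 LD2_c54 LD3_c27)) :=
  Lre_d IH (LK LD1_c2 LD2_c25 LD3_c6) (LK LD1_c4 LD2_c54 LD3_c27) Lrfl Lrfl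
theorem f43475 : Led Lsl_ct (LP (LK LD1_c4 LD2_c54 LD3_c22)) = (LP (LK LD1_c2 LD2_c25 LD3_c5)) :=
  Lre_c IH (LK LD1_c4 LD2_c54 LD3_c22) (LK LD1_c2 LD2_c25 LD3_c5) Lrfl Lrfl
theorem f46523 : Led Lsl_af (LP (LK LD1_c2 LD2_c36 LD3_c12)) = (LP (LK LD1_c2 LD2_c36 LD3_c17)) :=
  Lgr Lrot0 (Lpr_at (K1.f46521 IH) (Lpn (LP (LK LD1_c2 LD2_c36 LD3_c17))))
theorem f233688 : Led Lsl_gf (LP (LK LD1_c4 LD2_c54 LD3_c22)) = (LP (LK LD1_c5 LD2_c3 LD3_c17)) :=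
  Lgr Lrot47 (Lpr_gt (K12.f230551 IH) (Lpr_af (f46523 IH) (Lpr_ff (f233429 IH) (Lpn (LP (LK LD1_c5 LD2_c3 LD3_c17))))))
theorem f233439 : Led Lsl_dt (LP (LK LD1_c5 LD2_c20 LD3_c11)) = (LP (LK LD1_c5 LD2_c3 LD3_c17)) :=
  Lgr Lrot42 (Lpr_df (f233431 IH) (Lpn (LP (LK LD1_c5 LD2_c3 LD3_c17))))
theorem f43833 : Led Lsl_dt (LP (LK LD1_c1 LD2_c9 LD3_c46)) = (LP (LK LD1_c2 LD2_c25 LD3_c3)) :=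
  Lre_d IH (LK LD1_c1 LD2_c9 LD3_c46) (LK LD1_c2 LD2_c25 LD3_c3) Lrfl Lrfl
theorem f43834 : Led Lsl_ct (LP (LK LD1_c4 LD2_c54 LD3_c20)) = (LP (LK LD1_c2 LD2_c25 LD3_c3)) :=
  Lre_c IH (LK LD1_c4 LD2_c54 LD3_c20) (LK LD1_c2 LD2_c25 LD3_c3) Lrfl Lrfl
theorem f43835 : Led Lsl_dt (LP (LK LD1_c9 LD2_c40 LD3_c8)) = (LP (LK LD1_c4 LD2_c54 LD3_c20)) :=
  Lre_d IH (LK LD1_c9 LD2_c40 LD3_c8) (LK LD1_c4 LD2_c54 LD3_c20) Lrfl Lrfl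
theorem f233447 : Led Lsl_gt (LP (LK LD1_c5 LD2_c20 LD3_c11)) = (LP (LK LD1_c9 LD2_c40 LD3_c8)) :=
  Lgr Lrot49 (Lpr_df (f233431 IH) (Lpe (f184046 IH) (Lpe (K13.f165433 IH) (Lpe (K9.f184042 IH) (Lpr_dt (K9.f43356 IH) (Lpr_gt (K12.f43831 IH) (Lpr_dt (f43833 IH) (Lpe (f43834 IH) (Lpe (f43835 IH) (Lpn (LP (LK LD1_c9 LD2_c40 LD3_c8))))))))))))
theorem f249368 : Led Lsl_cf (LP (LK LD1_c5 LD2_c12 LD3_c4)) = (LP (LK LD1_c9 LD2_c40 LD3_c8)) :=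
  Lgr Lrot169 (Lpr_gt (f249356 IH) (Lpr_ct (K9.f43417 IH) (Lpe (f43559 IH) (Lpe (K9.f43465 IH) (Lpe (K12.f31526 IH) (Lpe (f43475 IH) (Lpr_gf (f233688 IH) (Lpe (f233439 IH) (Lpr_gt (f233447 IH) (Lpn (LP (LK LD1_c9 LD2_c40 LD3_c8))))))))))))
theorem f185691 : Led Lsl_ct (LP (LK LD1_c2 LD2_c32 LD3_c53)) = (LP (LK LD1_c1 LD2_c13 LD3_c21)) :=
  Lre_c IH (LK LD1_c2 LD2_c32 LD3_c53) (LK LD1_c1 LD2_c13 LD3_c21) Lrfl Lrfl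
theorem f165322 : Led Lsl_dt (LP (LK LD1_c2 LD2_c28 LD3_c42)) = (LP (LK LD1_c5 LD2_c2 LD3_c12)) :=
  Lre_d IH (LK LD1_c2 LD2_c28 LD3_c42) (LK LD1_c5 LD2_c2 LD3_c12) Lrfl Lrfl
theorem f193135 : Led Lsl_dt (LP (LK LD1_c4 LD2_c54 LD3_c20)) = (LP (LK LD1_c9 LD2_c40 LD3_c8)) :=
  Lre_d IH (LK LD1_c4 LD2_c54 LD3_c20) (LK LD1_c9 LD2_c40 LD3_c8) Lrfl Lrfl
theorem f43836 : Led Lsl_ct (LP (LK LD1_c2 LD2_c25 LD3_c3)) = (LP (LK LD1_c4 LD2_c54 LD3_c20)) :=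
  Lre_c IH (LK LD1_c2 LD2_c25 LD3_c3) (LK LD1_c4 LD2_c54 LD3_c20) Lrfl Lrfl
theorem f230544 : Led Lsl_cf (LP (LK LD1_c1 LD2_c9 LD3_c46)) = (LP (LK LD1_c0 LD2_c34 LD3_c56)) :=
  Lgr Lrot11 (Lpr_ct (K12.f230542 IH) (Lpn (LP (LK LD1_c0 LD2_c34 LD3_c56))))
theorem f28272 : Led Lsl_dt (LP (LK LD1_c1 LD2_c15 LD3_c17)) = (LP (LK LD1_c0 LD2_c34 LD3_c56)) :=
  Lre_d IH (LK LD1_c1 LD2_c15 LD3_c17) (LK LD1_c0 LD2_c34 LD3_c56) Lrfl Lrfl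
theorem f230553 : Led Lsl_ct (LP (LK LD1_c2 LD2_c36 LD3_c34)) = (LP (LK LD1_c1 LD2_c15 LD3_c17)) :=
  Lre_c IH (LK LD1_c2 LD2_c36 LD3_c34) (LK LD1_c1 LD2_c15 LD3_c17) Lrfl Lrfl
theorem f249206 : Led Lsl_dt (LP (LK LD1_c5 LD2_c19 LD3_c49)) = (LP (LK LD1_c2 LD2_c36 LD3_c34)) :=
  Lre_d IH (LK LD1_c5 LD2_c19 LD3_c49) (LK LD1_c2 LD2_c36 LD3_c34) Lrfl Lrfl
theorem f249380 : Led Lsl_ct (LP (LK LD1_c5 LD2_c2 LD3_c12)) = (LP (LK LD1_c5 LD2_c19 LD3_c49)) :=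
  Lgr Lrot176 (Lpe (f165322 IH) (Lpe (K11.f165294 IH) (Lpe (K11.f165326 IH) (Lpr_cf (K10.f192111 IH) (Lpe (K13.f190314 IH) (Lpe (f185691 IH) (Lpe (f185692 IH) (Lpr_cf (f249368 IH) (Lpe (f193135 IH) (Lpe (f43836 IH) (Lpe (f43833 IH) (Lpr_cf (f230544 IH) (Lpe (f28272 IH) (Lpe (f230553 IH) (Lpe (f249206 IH) (Lpn (LP (LK LD1_c5 LD2_c19 LD3_c49))))))))))))))))))
theorem f249107 : Led Lsl_gt (LP (LK LD1_c0 LD2_c34 LD3_c54)) = (LP (LK LD1_c0 LD2_c34 LD3_c56)) :=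
  Lgr Lrot9 (Lpe (K9.f45900 IH) (Lpe (f46330 IH) (Lpr_ct (f46332 IH) (Lpr_gt (f249098 IH) (Lpr_ct (K9.f31474 IH) (Lpe (K1.f31464 IH) (Lpe (K9.f31521 IH) (Lpe (K12.f31527 IH) (Lpr_cf (f230544 IH) (Lpn (LP (LK LD1_c0 LD2_c34 LD3_c56))))))))))))
theorem f43416 : Led Lsl_dt (LP (LK LD1_c4 LD2_c54 LD3_c27)) = (LP (LK LD1_c2 LD2_c25 LD3_c6)) :=
  Lre_d IH (LK LD1_c4 LD2_c54 LD3_c27) (LK LD1_c2 LD2_c25 LD3_c6) Lrfl Lrfl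
theorem f191573 : Led Lsl_df (LP (LK LD1_c9 LD2_c40 LD3_c31)) = (LP (LK LD1_c5 LD2_c18 LD3_c20)) :=
  Lgr Lrot43 (Lpr_ct (K9.f43417 IH) (Lpr_dt (f43416 IH) (Lpr_ct (K10.f43415 IH) (Lpr_dt (K9.f31525 IH) (Lpr_ct (K9.f31521 IH) (Lpr_dt (K1.f31464 IH) (Lpr_ct (K9.f31482 IH) (Lpr_dt (K9.f43431 IH) (Lpr_ct (K9.f43434 IH) (Lpr_dt (K9.f43433 IH) (Lpr_ct (K9.f43432 IH) (Lpr_dt (K9.f43356 IH) (Lpr_ct (K9.f43350 IH) (Lpr_dt (K9.f43387 IH) (Lpr_ct (K12.f191564 IH) (Lpn (LP (LK LD1_c5 LD2_c18 LD3_c20))))))))))))))))))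
theorem f28273 : Led Lsl_dt (LP (LK LD1_c0 LD2_c34 LD3_c56)) = (LP (LK LD1_c1 LD2_c15 LD3_c17)) :=
  Lre_d IH (LK LD1_c0 LD2_c34 LD3_c56) (LK LD1_c1 LD2_c15 LD3_c17) Lrfl Lrfl
theorem f249207 : Led Lsl_gt (LP (LK LD1_c9 LD2_c40 LD3_c31)) = (LP (LK LD1_c5 LD2_c19 LD3_c49)) :=
  Lgr Lrot49 (Lpr_df (f191573 IH) (Lpe (K12.f185504 IH) (Lpe (K10.f32891 IH) (Lpe (K12.f212324 IH) (Lpr_dt (K9.f45900 IH) (Lpr_gt (f249107 IH) (Lpr_dt (f28273 IH) (Lpe (f230553 IH) (Lpe (f249206 IH) (Lpn (LP (LK LD1_c5 LD2_c19 LD3_c49))))))))))))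
theorem f249340 : Led Lsl_gf (LP (LK LD1_c9 LD2_c40 LD3_c5)) = (LP (LK LD1_c5 LD2_c19 LD3_c49)) :=
  Lgr Lrot76 (Lpe (K13.f43532 IH) (Lpe (f43517 IH) (Lpr_gt (f249207 IH) (Lpn (LP (LK LD1_c5 LD2_c19 LD3_c49))))))
theorem f31481 : Led Lsl_dt (LP (LK LD1_c9 LD2_c40 LD3_c5)) = (LP (LK LD1_c4 LD2_c54 LD3_c18)) :=
  Lre_d IH (LK LD1_c9 LD2_c40 LD3_c5) (LK LD1_c4 LD2_c54 LD3_c18) Lrfl Lrfl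
theorem f185501 : Led Lsl_dt (LP (LK LD1_c2 LD2_c35 LD3_c50)) = (LP (LK LD1_c5 LD2_c18 LD3_c21)) :=
  Lre_d IH (LK LD1_c2 LD2_c35 LD3_c50) (LK LD1_c5 LD2_c18 LD3_c21) Lrfl Lrfl
theorem f248456 : Led Lsl_cf (LP (LK LD1_c9 LD2_c40 LD3_c13)) = (LP (LK LD1_c5 LD2_c18 LD3_c21)) :=
  Lgr Lrot11 (Lpr_ct (f248450 IH) (Lpn (LP (LK LD1_c5 LD2_c18 LD3_c21))))
theorem f249424 : Led Lsl_gt (LP (LK LD1_c5 LD2_c2 LD3_c12)) = (LP (LK LD1_c5 LD2_c20 LD3_c11)) :=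
  Lgr Lrot180 (Lpr_ct (f249380 IH) (Lpe (f249340 IH) (Lpr_dt (f31481 IH) (Lpe (K10.f189451 IH) (Lpr_dt (f185501 IH) (Lpe (f248456 IH) (Lpe (f43472 IH) (Lpr_gf (f233688 IH) (Lpe (f233439 IH) (Lpn (LP (LK LD1_c5 LD2_c20 LD3_c11))))))))))))
theorem f165318 : Led Lsl_ct (LP (LK LD1_c5 LD2_c2 LD3_c10)) = (LP (LK LD1_c5 LD2_c6 LD3_c3)) :=
  Lgr Lrot59 (Lpr_cf (K11.f165300 IH) (Lpn (LP (LK LD1_c5 LD2_c6 LD3_c3))))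
theorem f44236 : Led Lsl_dt (LP (LK LD1_c2 LD2_c36 LD3_c6)) = (LP (LK LD1_c1 LD2_c15 LD3_c3)) :=
  Lre_d IH (LK LD1_c2 LD2_c36 LD3_c6) (LK LD1_c1 LD2_c15 LD3_c3) Lrfl Lrfl
theorem f249429 : Led Lsl_gt (LP (LK LD1_c5 LD2_c6 LD3_c3)) = (LP (LK LD1_c2 LD2_c36 LD3_c6)) :=
  Lgr Lrot94 (Lpe (f165318 IH) (Lpr_gt (K11.f165295 IH) (Lpr_dt (f165322 IH) (Lpr_gt (f249424 IH) (Lpr_dt (f233439 IH) (Lpe (f233415 IH) (Lpe (K1.f45850 IH) (Lpe (K9.f46363 IH) (Lpe (f44236 IH) (Lpn (LP (LK LD1_c2 LD2_c36 LD3_c6))))))))))))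
theorem f184845 : Led Lsl_et (LP (LK LD1_c1 LD2_c15 LD3_c3)) = (LP (LK LD1_c2 LD2_c36 LD3_c7)) :=
  Lre_e IH (LK LD1_c1 LD2_c15 LD3_c3) (LK LD1_c2 LD2_c36 LD3_c7) Lrfl Lrfl
theorem f246388 : Led Lsl_et (LP (LK LD1_c1 LD2_c15 LD3_c28)) = (LP (LK LD1_c2 LD2_c36 LD3_c57)) :=
  Lre_e IH (LK LD1_c1 LD2_c15 LD3_c28) (LK LD1_c2 LD2_c36 LD3_c57) Lrfl Lrfl
theorem f251036 : Led Lsl_gf (LP (LK LD1_c2 LD2_c36 LD3_c57)) = (LP (LK LD1_c2 LD2_c36 LD3_c7)) :=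
  Lgr Lrot141 (Lpe (f246388 IH) (Lpr_dt (K12.f223747 IH) (Lpe (f246386 IH) (Lpr_df (f243954 IH) (Lpr_et (K13.f246382 IH) (Lpr_gt (f212339 IH) (Lpr_dt (f251014 IH) (Lpr_gt (f249429 IH) (Lpe (K10.f28265 IH) (Lpr_et (f184845 IH) (Lpn (LP (LK LD1_c2 LD2_c36 LD3_c7)))))))))))))
theorem f251038 : Led Lsl_df (LP (LK LD1_c4 LD2_c21 LD3_c38)) = (LP (LK LD1_c2 LD2_c36 LD3_c57)) :=
  Lgr Lrot135 (Lpr_gt (f187075 IH) (Lpe (f187076 IH) (Lpr_et (K13.f196619 IH) (Lpr_gt (f246591 IH) (Lpe (f223846 IH) (Lpr_dt (f251014 IH) (Lpr_gt (f249429 IH) (Lpe (K10.f28265 IH) (Lpr_et (f184845 IH) (Lpe (f251036 IH) (Lpn (LP (LK LD1_c2 LD2_c36 LD3_c57)))))))))))))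
theorem f223750 : Led Lsl_et (LP (LK LD1_c2 LD2_c36 LD3_c57)) = (LP (LK LD1_c1 LD2_c15 LD3_c28)) :=
  Lre_e IH (LK LD1_c2 LD2_c36 LD3_c57) (LK LD1_c1 LD2_c15 LD3_c28) Lrfl Lrfl
theorem f48282 : Led Lsl_ft (LP (LK LD1_c4 LD2_c15 LD3_c23)) = (LP (LK LD1_c8 LD2_c29 LD3_c40)) :=
  Lre_f IH (LK LD1_c4 LD2_c15 LD3_c23) (LK LD1_c8 LD2_c29 LD3_c40) Lrfl Lrfl
theorem f48283 : Led Lsl_ft (LP (LK LD1_c5 LD2_c18 LD3_c0)) = (LP (LK LD1_c2 LD2_c35 LD3_c43)) :=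
  Lre_f IH (LK LD1_c5 LD2_c18 LD3_c0) (LK LD1_c2 LD2_c35 LD3_c43) Lrfl Lrfl
theorem f48284 : Led Lsl_dt (LP (LK LD1_c8 LD2_c29 LD3_c40)) = (LP (LK LD1_c5 LD2_c18 LD3_c0)) :=
  Lgr Lrot60 (Lpe (f48282 IH) (Lpr_df (K10.f48265 IH) (Lpe (f48283 IH) (Lpn (LP (LK LD1_c5 LD2_c18 LD3_c0))))))
theorem f49001 : Led Lsl_df (LP (LK LD1_c8 LD2_c29 LD3_c40)) = (LP (LK LD1_c5 LD2_c18 LD3_c0)) :=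
  Lgr Lrot38 (Lpr_dt (f48284 IH) (Lpn (LP (LK LD1_c5 LD2_c18 LD3_c0))))
theorem f49006 : Led Lsl_bt (LP (LK LD1_c8 LD2_c29 LD3_c40)) = (LP (LK LD1_c15 LD2_c56 LD3_c47)) :=
  Lre_b IH (LK LD1_c8 LD2_c29 LD3_c40) (LK LD1_c15 LD2_c56 LD3_c47) Lrfl Lrfl
theorem f49007 : Led Lsl_bt (LP (LK LD1_c10 LD2_c25 LD3_c30)) = (LP (LK LD1_c5 LD2_c18 LD3_c0)) :=
  Lre_b IH (LK LD1_c10 LD2_c25 LD3_c30) (LK LD1_c5 LD2_c18 LD3_c0) Lrfl Lrfl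
theorem f49008 : Led Lsl_dt (LP (LK LD1_c15 LD2_c56 LD3_c47)) = (LP (LK LD1_c10 LD2_c25 LD3_c30)) :=
  Lgr Lrot79 (Lpe (f49006 IH) (Lpr_df (f49001 IH) (Lpe (f49007 IH) (Lpn (LP (LK LD1_c10 LD2_c25 LD3_c30))))))
theorem f49011 : Led Lsl_ft (LP (LK LD1_c8 LD2_c29 LD3_c34)) = (LP (LK LD1_c15 LD2_c56 LD3_c47)) :=
  Lre_f IH (LK LD1_c8 LD2_c29 LD3_c34) (LK LD1_c15 LD2_c56 LD3_c47) Lrfl Lrfl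
theorem f49012 : Led Lsl_ft (LP (LK LD1_c10 LD2_c25 LD3_c30)) = (LP (LK LD1_c5 LD2_c17 LD3_c56)) :=
  Lre_f IH (LK LD1_c10 LD2_c25 LD3_c30) (LK LD1_c5 LD2_c17 LD3_c56) Lrfl Lrfl
theorem f49013 : Led Lsl_df (LP (LK LD1_c8 LD2_c29 LD3_c34)) = (LP (LK LD1_c5 LD2_c17 LD3_c56)) :=
  Lgr Lrot78 (Lpr_ft (f49011 IH) (Lpr_dt (f49008 IH) (Lpr_ft (f49012 IH) (Lpn (LP (LK LD1_c5 LD2_c17 LD3_c56))))))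
theorem f49018 : Led Lsl_et (LP (LK LD1_c8 LD2_c29 LD3_c34)) = (LP (LK LD1_c4 LD2_c15 LD3_c19)) :=
  Lre_e IH (LK LD1_c8 LD2_c29 LD3_c34) (LK LD1_c4 LD2_c15 LD3_c19) Lrfl Lrfl
theorem f49019 : Led Lsl_dt (LP (LK LD1_c4 LD2_c15 LD3_c19)) = (LP (LK LD1_c2 LD2_c5 LD3_c1)) :=
  Lre_d IH (LK LD1_c4 LD2_c15 LD3_c19) (LK LD1_c2 LD2_c5 LD3_c1) Lrfl Lrfl
theorem f49020 : Led Lsl_et (LP (LK LD1_c2 LD2_c5 LD3_c1)) = (LP (LK LD1_c4 LD2_c15 LD3_c20)) :=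
  Lre_e IH (LK LD1_c2 LD2_c5 LD3_c1) (LK LD1_c4 LD2_c15 LD3_c20) Lrfl Lrfl
theorem f49021 : Led Lsl_et (LP (LK LD1_c2 LD2_c35 LD3_c41)) = (LP (LK LD1_c5 LD2_c17 LD3_c56)) :=
  Lre_e IH (LK LD1_c2 LD2_c35 LD3_c41) (LK LD1_c5 LD2_c17 LD3_c56) Lrfl Lrfl
theorem f49022 : Led Lsl_dt (LP (LK LD1_c4 LD2_c15 LD3_c20)) = (LP (LK LD1_c2 LD2_c35 LD3_c41)) :=
  Lgr Lrot77 (Lpe (f49020 IH) (Lpe (f49019 IH) (Lpe (f49018 IH) (Lpr_df (f49013 IH) (Lpe (f49021 IH) (Lpn (LP (LK LD1_c2 LD2_c35 LD3_c41))))))))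
theorem f49031 : Led Lsl_et (LP (LK LD1_c4 LD2_c15 LD3_c20)) = (LP (LK LD1_c2 LD2_c5 LD3_c1)) :=
  Lre_e IH (LK LD1_c4 LD2_c15 LD3_c20) (LK LD1_c2 LD2_c5 LD3_c1) Lrfl Lrfl
theorem f232310 : Led Lsl_gf (LP (LK LD1_c2 LD2_c5 LD3_c37)) = (LP (LK LD1_c2 LD2_c5 LD3_c1)) :=
  Lgr Lrot138 (Lpr_dt (K13.f187070 IH) (Lpr_gt (K13.f232257 IH) (Lpe (K12.f216734 IH) (Lpr_et (K12.f44019 IH) (Lpe (K13.f193081 IH) (Lpr_ef (K1.f46113 IH) (Lpr_dt (K1.f28295 IH) (Lpe (K9.f184860 IH) (Lpe (f49022 IH) (Lpr_et (f49031 IH) (Lpn (LP (LK LD1_c2 LD2_c5 LD3_c1)))))))))))))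
theorem f187008 : Led Lsl_ff (LP (LK LD1_c2 LD2_c2 LD3_c33)) = (LP (LK LD1_c1 LD2_c24 LD3_c51)) :=
  Lgr Lrot23 (Lpr_ct (K13.f187007 IH) (Lpr_ft (K10.f187004 IH) (Lpr_ct (K0.f29046 IH) (Lpn (LP (LK LD1_c1 LD2_c24 LD3_c51))))))
theorem f232248 : Led Lsl_af (LP (LK LD1_c2 LD2_c5 LD3_c37)) = (LP (LK LD1_c2 LD2_c2 LD3_c33)) :=
  Lgr Lrot45 (Lpr_ft (K13.f232246 IH) (Lpe (K13.f42038 IH) (Lpe (f187008 IH) (Lpn (LP (LK LD1_c2 LD2_c2 LD3_c33))))))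
theorem f232312 : Led Lsl_gt (LP (LK LD1_c1 LD2_c24 LD3_c51)) = (LP (LK LD1_c2 LD2_c5 LD3_c1)) :=
  Lgr Lrot5 (Lpe (f187008 IH) (Lpe (f232248 IH) (Lpr_gf (f232310 IH) (Lpn (LP (LK LD1_c2 LD2_c5 LD3_c1))))))
theorem f49037 : Led Lsl_dt (LP (LK LD1_c2 LD2_c5 LD3_c1)) = (LP (LK LD1_c4 LD2_c15 LD3_c19)) :=
  Lre_d IH (LK LD1_c2 LD2_c5 LD3_c1) (LK LD1_c4 LD2_c15 LD3_c19) Lrfl Lrfl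
theorem f251047 : Led Lsl_gf (LP (LK LD1_c4 LD2_c21 LD3_c38)) = (LP (LK LD1_c4 LD2_c15 LD3_c19)) :=
  Lgr Lrot134 (Lpr_df (f251038 IH) (Lpr_et (f223750 IH) (Lpr_gt (K12.f223739 IH) (Lpe (K9.f28156 IH) (Lpr_dt (K1.f30841 IH) (Lpr_gt (K1.f41850 IH) (Lpe (K1.f41877 IH) (Lpr_et (K12.f29058 IH) (Lpr_gt (f232312 IH) (Lpr_dt (f49037 IH) (Lpn (LP (LK LD1_c4 LD2_c15 LD3_c19)))))))))))))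
theorem f251049 : Led Lsl_ff (LP (LK LD1_c2 LD2_c5 LD3_c18)) = (LP (LK LD1_c4 LD2_c15 LD3_c19)) :=
  Lgr Lrot52 (Lpe (K13.f246349 IH) (Lpe (f187075 IH) (Lpr_gf (f251047 IH) (Lpn (LP (LK LD1_c4 LD2_c15 LD3_c19))))))
theorem f251060 : Led Lsl_ft (LP (LK LD1_c2 LD2_c5 LD3_c18)) = (LP (LK LD1_c4 LD2_c15 LD3_c19)) :=
  Lgr Lrot48 (Lpr_ff (f251049 IH) (Lpn (LP (LK LD1_c4 LD2_c15 LD3_c19))))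
theorem f49036 : Led Lsl_et (LP (LK LD1_c4 LD2_c15 LD3_c19)) = (LP (LK LD1_c8 LD2_c29 LD3_c34)) :=
  Lre_e IH (LK LD1_c4 LD2_c15 LD3_c19) (LK LD1_c8 LD2_c29 LD3_c34) Lrfl Lrfl
theorem f251068 : Led Lsl_ef (LP (LK LD1_c8 LD2_c30 LD3_c53)) = (LP (LK LD1_c15 LD2_c56 LD3_c47)) :=
  Lgr Lrot21 (Lpr_ft (K13.f220659 IH) (Lpr_et (K13.f220665 IH) (Lpr_ft (f251060 IH) (Lpr_et (f49036 IH) (Lpr_ft (f49011 IH) (Lpn (LP (LK LD1_c15 LD2_c56 LD3_c47))))))))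
theorem f220667 : Led Lsl_bt (LP (LK LD1_c8 LD2_c30 LD3_c53)) = (LP (LK LD1_c4 LD2_c16 LD3_c2)) :=
  Lre_b IH (LK LD1_c8 LD2_c30 LD3_c53) (LK LD1_c4 LD2_c16 LD3_c2) Lrfl Lrfl
theorem f251070 : Led Lsl_et (LP (LK LD1_c4 LD2_c16 LD3_c2)) = (LP (LK LD1_c8 LD2_c29 LD3_c40)) :=
  Lgr Lrot74 (Lpe (f220667 IH) (Lpr_ef (f251068 IH) (Lpe (f49006 IH) (Lpn (LP (LK LD1_c8 LD2_c29 LD3_c40))))))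
theorem f251074 : Led Lsl_ef (LP (LK LD1_c4 LD2_c16 LD3_c2)) = (LP (LK LD1_c8 LD2_c29 LD3_c40)) :=
  Lgr Lrot88 (Lpr_et (f251070 IH) (Lpn (LP (LK LD1_c8 LD2_c29 LD3_c40))))
theorem f220703 : Led Lsl_ct (LP (LK LD1_c4 LD2_c16 LD3_c2)) = (LP (LK LD1_c8 LD2_c31 LD3_c5)) :=
  Lre_c IH (LK LD1_c4 LD2_c16 LD3_c2) (LK LD1_c8 LD2_c31 LD3_c5) Lrfl Lrfl
theorem f48999 : Led Lsl_ct (LP (LK LD1_c15 LD2_c56 LD3_c56)) = (LP (LK LD1_c8 LD2_c29 LD3_c40)) :=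
  Lre_c IH (LK LD1_c15 LD2_c56 LD3_c56) (LK LD1_c8 LD2_c29 LD3_c40) Lrfl Lrfl
theorem f251076 : Led Lsl_et (LP (LK LD1_c8 LD2_c31 LD3_c5)) = (LP (LK LD1_c15 LD2_c56 LD3_c56)) :=
  Lgr Lrot158 (Lpe (f220703 IH) (Lpr_ef (f251074 IH) (Lpe (f48999 IH) (Lpn (LP (LK LD1_c15 LD2_c56 LD3_c56))))))
theorem f251079 : Led Lsl_ft (LP (LK LD1_c4 LD2_c15 LD3_c61)) = (LP (LK LD1_c8 LD2_c31 LD3_c5)) :=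
  Lre_f IH (LK LD1_c4 LD2_c15 LD3_c61) (LK LD1_c8 LD2_c31 LD3_c5) Lrfl Lrfl
theorem f251080 : Led Lsl_et (LP (LK LD1_c2 LD2_c5 LD3_c22)) = (LP (LK LD1_c4 LD2_c15 LD3_c61)) :=
  Lre_e IH (LK LD1_c2 LD2_c5 LD3_c22) (LK LD1_c4 LD2_c15 LD3_c61) Lrfl Lrfl
theorem f251081 : Led Lsl_ft (LP (LK LD1_c15 LD2_c56 LD3_c56)) = (LP (LK LD1_c8 LD2_c29 LD3_c38)) :=
  Lre_f IH (LK LD1_c15 LD2_c56 LD3_c56) (LK LD1_c8 LD2_c29 LD3_c38) Lrfl Lrfl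
theorem f251082 : Led Lsl_et (LP (LK LD1_c8 LD2_c29 LD3_c38)) = (LP (LK LD1_c4 LD2_c15 LD3_c22)) :=
  Lre_e IH (LK LD1_c8 LD2_c29 LD3_c38) (LK LD1_c4 LD2_c15 LD3_c22) Lrfl Lrfl
theorem f251083 : Led Lsl_ff (LP (LK LD1_c2 LD2_c5 LD3_c22)) = (LP (LK LD1_c4 LD2_c15 LD3_c22)) :=
  Lgr Lrot72 (Lpr_et (f251080 IH) (Lpr_ft (f251079 IH) (Lpr_et (f251076 IH) (Lpr_ft (f251081 IH) (Lpr_et (f251082 IH) (Lpn (LP (LK LD1_c4 LD2_c15 LD3_c22))))))))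
theorem f251089 : Led Lsl_ft (LP (LK LD1_c2 LD2_c5 LD3_c22)) = (LP (LK LD1_c4 LD2_c15 LD3_c22)) :=
  Lgr Lrot48 (Lpr_ff (f251083 IH) (Lpn (LP (LK LD1_c4 LD2_c15 LD3_c22))))
theorem f243381 : Led Lsl_dt (LP (LK LD1_c2 LD2_c5 LD3_c22)) = (LP (LK LD1_c4 LD2_c15 LD3_c60)) :=
  Lre_d IH (LK LD1_c2 LD2_c5 LD3_c22) (LK LD1_c4 LD2_c15 LD3_c60) Lrfl Lrfl
theorem f243640 : Led Lsl_ct (LP (LK LD1_c2 LD2_c45 LD3_c23)) = (LP (LK LD1_c2 LD2_c40 LD3_c17)) :=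
  Lre_c IH (LK LD1_c2 LD2_c45 LD3_c23) (LK LD1_c2 LD2_c40 LD3_c17) Lrfl Lrfl
theorem f243522 : Led Lsl_dt (LP (LK LD1_c1 LD2_c16 LD3_c53)) = (LP (LK LD1_c2 LD2_c40 LD3_c19)) :=
  Lre_d IH (LK LD1_c1 LD2_c16 LD3_c53) (LK LD1_c2 LD2_c40 LD3_c19) Lrfl Lrfl
theorem f221050 : Led Lsl_at (LP (LK LD1_c4 LD2_c13 LD3_c53)) = (LP (LK LD1_c2 LD2_c4 LD3_c31)) :=
  Lre_a IH (LK LD1_c4 LD2_c13 LD3_c53) (LK LD1_c2 LD2_c4 LD3_c31) Lrfl Lrfl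
theorem f221051 : Led Lsl_cf (LP (LK LD1_c4 LD2_c13 LD3_c53)) = (LP (LK LD1_c2 LD2_c41 LD3_c49)) :=
  Lgr Lrot1 (Lpr_at (f221050 IH) (Lpr_ct (K12.f187221 IH) (Lpr_at (K12.f220878 IH) (Lpn (LP (LK LD1_c2 LD2_c41 LD3_c49))))))
theorem f243648 : Led Lsl_gt (LP (LK LD1_c2 LD2_c40 LD3_c19)) = (LP (LK LD1_c4 LD2_c16 LD3_c35)) :=
  Lgr Lrot49 (Lpe (f243522 IH) (Lpe (K13.f243632 IH) (Lpe (f243640 IH) (Lpr_gt (K13.f243638 IH) (Lpr_dt (K10.f188532 IH) (Lpr_gt (K12.f27516 IH) (Lpr_dt (K12.f27497 IH) (Lpr_cf (f221051 IH) (Lpr_df (K12.f221080 IH) (Lpn (LP (LK LD1_c4 LD2_c16 LD3_c35))))))))))))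
theorem f221092 : Led Lsl_at (LP (LK LD1_c8 LD2_c27 LD3_c13)) = (LP (LK LD1_c4 LD2_c16 LD3_c35)) :=
  Lre_a IH (LK LD1_c8 LD2_c27 LD3_c13) (LK LD1_c4 LD2_c16 LD3_c35) Lrfl Lrfl
theorem f244674 : Led Lsl_ft (LP (LK LD1_c4 LD2_c14 LD3_c16)) = (LP (LK LD1_c8 LD2_c27 LD3_c13)) :=
  Lre_f IH (LK LD1_c4 LD2_c14 LD3_c16) (LK LD1_c8 LD2_c27 LD3_c13) Lrfl Lrfl
theorem f244675 : Led Lsl_gf (LP (LK LD1_c2 LD2_c40 LD3_c19)) = (LP (LK LD1_c4 LD2_c14 LD3_c16)) :=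
  Lgr Lrot47 (Lpr_gt (f243648 IH) (Lpe (f221092 IH) (Lpe (f244674 IH) (Lpn (LP (LK LD1_c4 LD2_c14 LD3_c16))))))
theorem f244689 : Led Lsl_at (LP (LK LD1_c5 LD2_c27 LD3_c31)) = (LP (LK LD1_c2 LD2_c40 LD3_c19)) :=
  Lre_a IH (LK LD1_c5 LD2_c27 LD3_c31) (LK LD1_c2 LD2_c40 LD3_c19) Lrfl Lrfl
theorem f244690 : Led Lsl_ff (LP (LK LD1_c5 LD2_c27 LD3_c31)) = (LP (LK LD1_c8 LD2_c27 LD3_c10)) :=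
  Lgr Lrot52 (Lpr_at (f244689 IH) (Lpr_gf (f244675 IH) (Lpe (K13.f195806 IH) (Lpn (LP (LK LD1_c8 LD2_c27 LD3_c10))))))
theorem f243636 : Led Lsl_ct (LP (LK LD1_c4 LD2_c15 LD3_c57)) = (LP (LK LD1_c2 LD2_c5 LD3_c20)) :=
  Lre_c IH (LK LD1_c4 LD2_c15 LD3_c57) (LK LD1_c2 LD2_c5 LD3_c20) Lrfl Lrfl
theorem f220729 : Led Lsl_dt (LP (LK LD1_c2 LD2_c5 LD3_c20)) = (LP (LK LD1_c0 LD2_c59 LD3_c43)) :=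
  Lre_d IH (LK LD1_c2 LD2_c5 LD3_c20) (LK LD1_c0 LD2_c59 LD3_c43) Lrfl Lrfl
theorem f188576 : Led Lsl_ct (LP (LK LD1_c0 LD2_c59 LD3_c43)) = (LP (LK LD1_c0 LD2_c27 LD3_c10)) :=
  Lre_c IH (LK LD1_c0 LD2_c59 LD3_c43) (LK LD1_c0 LD2_c27 LD3_c10) Lrfl Lrfl
theorem f53430 : Led Lsl_ct (LP (LK LD1_c0 LD2_c59 LD3_c44)) = (LP (LK LD1_c2 LD2_c5 LD3_c22)) :=
  Lre_c IH (LK LD1_c0 LD2_c59 LD3_c44) (LK LD1_c2 LD2_c5 LD3_c22) Lrfl Lrfl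
theorem f244814 : Led Lsl_cf (LP (LK LD1_c2 LD2_c40 LD3_c19)) = (LP (LK LD1_c4 LD2_c15 LD3_c60)) :=
  Lgr Lrot102 (Lpe (f244689 IH) (Lpr_ff (f244690 IH) (Lpr_dt (K13.f243616 IH) (Lpr_ct (f243636 IH) (Lpr_dt (f220729 IH) (Lpr_ct (f188576 IH) (Lpr_dt (K13.f53429 IH) (Lpr_ct (f53430 IH) (Lpr_dt (f243381 IH) (Lpn (LP (LK LD1_c4 LD2_c15 LD3_c60))))))))))))
theorem f7892 : Led Lsl_ct (LP (LK LD1_c1 LD2_c16 LD3_c53)) = (LP (LK LD1_c0 LD2_c35 LD3_c34)) :=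
  Lre_c IH (LK LD1_c1 LD2_c16 LD3_c53) (LK LD1_c0 LD2_c35 LD3_c34) Lrfl Lrfl
theorem f196999 : Led Lsl_dt (LP (LK LD1_c0 LD2_c35 LD3_c34)) = (LP (LK LD1_c0 LD2_c15 LD3_c56)) :=
  Lre_d IH (LK LD1_c0 LD2_c35 LD3_c34) (LK LD1_c0 LD2_c15 LD3_c56) Lrfl Lrfl
theorem f251101 : Led Lsl_af (LP (LK LD1_c2 LD2_c5 LD3_c12)) = (LP (LK LD1_c4 LD2_c15 LD3_c22)) :=
  Lgr Lrot109 (Lpe (K13.f8011 IH) (Lpe (K13.f760 IH) (Lpr_cf (K10.f196950 IH) (Lpe (f196999 IH) (Lpe (f7892 IH) (Lpe (K13.f7893 IH) (Lpr_cf (f244814 IH) (Lpe (f243381 IH) (Lpr_ft (f251089 IH) (Lpn (LP (LK LD1_c4 LD2_c15 LD3_c22))))))))))))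
theorem f251111 : Led Lsl_at (LP (LK LD1_c4 LD2_c15 LD3_c45)) = (LP (LK LD1_c8 LD2_c29 LD3_c38)) :=
  Lgr Lrot80 (Lpe (K13.f682 IH) (Lpr_af (f251101 IH) (Lpe (f251082 IH) (Lpn (LP (LK LD1_c8 LD2_c29 LD3_c38))))))
theorem f251127 : Led Lsl_ft (LP (LK LD1_c8 LD2_c30 LD3_c37)) = (LP (LK LD1_c4 LD2_c15 LD3_c45)) :=
  Lre_f IH (LK LD1_c8 LD2_c30 LD3_c37) (LK LD1_c4 LD2_c15 LD3_c45) Lrfl Lrfl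
theorem f251099 : Led Lsl_ft (LP (LK LD1_c8 LD2_c29 LD3_c38)) = (LP (LK LD1_c15 LD2_c56 LD3_c56)) :=
  Lre_f IH (LK LD1_c8 LD2_c29 LD3_c38) (LK LD1_c15 LD2_c56 LD3_c56) Lrfl Lrfl
theorem f251128 : Led Lsl_af (LP (LK LD1_c8 LD2_c30 LD3_c37)) = (LP (LK LD1_c15 LD2_c56 LD3_c56)) :=
  Lgr Lrot45 (Lpr_ft (f251127 IH) (Lpr_at (f251111 IH) (Lpr_ft (f251099 IH) (Lpn (LP (LK LD1_c15 LD2_c56 LD3_c56))))))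
theorem f49010 : Led Lsl_ct (LP (LK LD1_c8 LD2_c29 LD3_c40)) = (LP (LK LD1_c15 LD2_c56 LD3_c56)) :=
  Lre_c IH (LK LD1_c8 LD2_c29 LD3_c40) (LK LD1_c15 LD2_c56 LD3_c56) Lrfl Lrfl
theorem f251132 : Led Lsl_at (LP (LK LD1_c4 LD2_c15 LD3_c49)) = (LP (LK LD1_c8 LD2_c29 LD3_c40)) :=
  Lgr Lrot107 (Lpe (K13.f243119 IH) (Lpr_af (f251128 IH) (Lpe (f49010 IH) (Lpn (LP (LK LD1_c8 LD2_c29 LD3_c40))))))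
theorem f243123 : Led Lsl_dt (LP (LK LD1_c8 LD2_c30 LD3_c43)) = (LP (LK LD1_c4 LD2_c15 LD3_c49)) :=
  Lre_d IH (LK LD1_c8 LD2_c30 LD3_c43) (LK LD1_c4 LD2_c15 LD3_c49) Lrfl Lrfl
theorem f251138 : Led Lsl_af (LP (LK LD1_c8 LD2_c30 LD3_c43)) = (LP (LK LD1_c5 LD2_c18 LD3_c0)) :=
  Lgr Lrot117 (Lpr_dt (f243123 IH) (Lpr_at (f251132 IH) (Lpr_dt (f48284 IH) (Lpn (LP (LK LD1_c5 LD2_c18 LD3_c0))))))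
theorem f243129 : Led Lsl_ft (LP (LK LD1_c8 LD2_c30 LD3_c43)) = (LP (LK LD1_c4 LD2_c15 LD3_c48)) :=
  Lre_f IH (LK LD1_c8 LD2_c30 LD3_c43) (LK LD1_c4 LD2_c15 LD3_c48) Lrfl Lrfl
theorem f48286 : Led Lsl_ft (LP (LK LD1_c2 LD2_c35 LD3_c43)) = (LP (LK LD1_c5 LD2_c18 LD3_c0)) :=
  Lre_f IH (LK LD1_c2 LD2_c35 LD3_c43) (LK LD1_c5 LD2_c18 LD3_c0) Lrfl Lrfl
theorem f251144 : Led Lsl_at (LP (LK LD1_c4 LD2_c15 LD3_c48)) = (LP (LK LD1_c2 LD2_c35 LD3_c43)) :=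
  Lgr Lrot66 (Lpe (f243129 IH) (Lpr_af (f251138 IH) (Lpe (f48286 IH) (Lpn (LP (LK LD1_c2 LD2_c35 LD3_c43))))))
theorem f251154 : Led Lsl_af (LP (LK LD1_c2 LD2_c5 LD3_c15)) = (LP (LK LD1_c1 LD2_c14 LD3_c54)) :=
  Lgr Lrot50 (Lpr_et (K13.f197058 IH) (Lpr_at (f251144 IH) (Lpr_et (K10.f32190 IH) (Lpn (LP (LK LD1_c1 LD2_c14 LD3_c54))))))
theorem f32107 : Led Lsl_gt (LP (LK LD1_c2 LD2_c35 LD3_c17)) = (LP (LK LD1_c1 LD2_c14 LD3_c56)) :=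
  Lre_g IH (LK LD1_c2 LD2_c35 LD3_c17) (LK LD1_c1 LD2_c14 LD3_c56) Lrfl Lrfl
theorem f251165 : Led Lsl_ft (LP (LK LD1_c2 LD2_c35 LD3_c17)) = (LP (LK LD1_c1 LD2_c14 LD3_c54)) :=
  Lgr Lrot2 (Lpr_gt (f32107 IH) (Lpe (K10.f197022 IH) (Lpr_af (f251154 IH) (Lpn (LP (LK LD1_c1 LD2_c14 LD3_c54))))))
theorem f251173 : Led Lsl_ff (LP (LK LD1_c2 LD2_c35 LD3_c17)) = (LP (LK LD1_c1 LD2_c14 LD3_c54)) :=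
  Lgr Lrot3 (Lpr_ft (f251165 IH) (Lpn (LP (LK LD1_c1 LD2_c14 LD3_c54))))
theorem f251181 : Led Lsl_at (LP (LK LD1_c2 LD2_c35 LD3_c17)) = (LP (LK LD1_c1 LD2_c14 LD3_c53)) :=
  Lgr Lrot26 (Lpr_ff (f251173 IH) (Lpr_gt (K9.f33097 IH) (Lpr_gt (K13.f49096 IH) (Lpn (LP (LK LD1_c1 LD2_c14 LD3_c53))))))
theorem f251159 : Led Lsl_at (LP (LK LD1_c2 LD2_c5 LD3_c15)) = (LP (LK LD1_c1 LD2_c14 LD3_c54)) :=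
  Lgr Lrot100 (Lpr_af (f251154 IH) (Lpn (LP (LK LD1_c1 LD2_c14 LD3_c54))))
theorem f251190 : Led Lsl_ff (LP (LK LD1_c2 LD2_c5 LD3_c15)) = (LP (LK LD1_c1 LD2_c14 LD3_c53)) :=
  Lgr Lrot30 (Lpr_at (f251159 IH) (Lpe (f251173 IH) (Lpr_at (f251181 IH) (Lpn (LP (LK LD1_c1 LD2_c14 LD3_c53))))))
theorem f251199 : Led Lsl_ft (LP (LK LD1_c2 LD2_c5 LD3_c15)) = (LP (LK LD1_c1 LD2_c14 LD3_c53)) :=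
  Lgr Lrot48 (Lpr_ff (f251190 IH) (Lpn (LP (LK LD1_c1 LD2_c14 LD3_c53))))
theorem f759 : Led Lsl_dt (LP (LK LD1_c0 LD2_c59 LD3_c41)) = (LP (LK LD1_c2 LD2_c5 LD3_c15)) :=
  Lre_d IH (LK LD1_c0 LD2_c59 LD3_c41) (LK LD1_c2 LD2_c5 LD3_c15) Lrfl Lrfl
theorem f251205 : Led Lsl_df (LP (LK LD1_c2 LD2_c5 LD3_c16)) = (LP (LK LD1_c1 LD2_c14 LD3_c53)) :=
  Lgr Lrot78 (Lpr_ft (K13.f197016 IH) (Lpr_dt (f759 IH) (Lpr_ft (f251199 IH) (Lpn (LP (LK LD1_c1 LD2_c14 LD3_c53))))))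
theorem f246228 : Led Lsl_cf (LP (LK LD1_c1 LD2_c16 LD3_c57)) = (LP (LK LD1_c2 LD2_c5 LD3_c16)) :=
  Lgr Lrot97 (Lpr_bt (K13.f175067 IH) (Lpe (K13.f175063 IH) (Lpr_bt (K13.f175066 IH) (Lpr_ct (K13.f243026 IH) (Lpr_bt (K13.f246226 IH) (Lpn (LP (LK LD1_c2 LD2_c5 LD3_c16))))))))
theorem f50771 : Led Lsl_ft (LP (LK LD1_c0 LD2_c57 LD3_c45)) = (LP (LK LD1_c2 LD2_c1 LD3_c25)) :=
  Lre_f IH (LK LD1_c0 LD2_c57 LD3_c45) (LK LD1_c2 LD2_c1 LD3_c25) Lrfl Lrfl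
theorem f188043 : Led Lsl_gt (LP (LK LD1_c0 LD2_c57 LD3_c45)) = (LP (LK LD1_c1 LD2_c25 LD3_c17)) :=
  Lgr Lrot5 (Lpr_ft (f50771 IH) (Lpe (K11.f49618 IH) (Lpr_gf (K10.f188040 IH) (Lpn (LP (LK LD1_c1 LD2_c25 LD3_c17))))))
theorem f251267 : Led Lsl_df (LP (LK LD1_c1 LD2_c16 LD3_c57)) = (LP (LK LD1_c1 LD2_c25 LD3_c17)) :=
  Lgr Lrot84 (Lpr_cf (f246228 IH) (Lpr_df (f251205 IH) (Lpe (K13.f49096 IH) (Lpe (K10.f33096 IH) (Lpe (K9.f48187 IH) (Lpe (K9.f49099 IH) (Lpr_gt (K9.f47744 IH) (Lpr_dt (K9.f1438 IH) (Lpr_gt (f188043 IH) (Lpn (LP (LK LD1_c1 LD2_c25 LD3_c17))))))))))))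
theorem f251277 : Led Lsl_gf (LP (LK LD1_c2 LD2_c58 LD3_c60)) = (LP (LK LD1_c4 LD2_c13 LD3_c50)) :=
  Lgr Lrot147 (Lpr_ct (K12.f169537 IH) (Lpr_gt (K13.f246077 IH) (Lpe (f246228 IH) (Lpr_df (f251267 IH) (Lpe (K10.f183470 IH) (Lpr_gf (K10.f187656 IH) (Lpe (K10.f33027 IH) (Lpe (K10.f33049 IH) (Lpr_df (K13.f191728 IH) (Lpn (LP (LK LD1_c4 LD2_c13 LD3_c50))))))))))))
theorem f163770 : Led Lsl_dt (LP (LK LD1_c2 LD2_c32 LD3_c36)) = (LP (LK LD1_c1 LD2_c13 LD3_c15)) :=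
  Lre_d IH (LK LD1_c2 LD2_c32 LD3_c36) (LK LD1_c1 LD2_c13 LD3_c15) Lrfl Lrfl
theorem f169433 : Led Lsl_bt (LP (LK LD1_c2 LD2_c5 LD3_c47)) = (LP (LK LD1_c0 LD2_c59 LD3_c59)) :=
  Lre_b IH (LK LD1_c2 LD2_c5 LD3_c47) (LK LD1_c0 LD2_c59 LD3_c59) Lrfl Lrfl
theorem f248464 : Led Lsl_dt (LP (LK LD1_c0 LD2_c59 LD3_c59)) = (LP (LK LD1_c0 LD2_c34 LD3_c46)) :=
  Lgr Lrot79 (Lpe (f169433 IH) (Lpr_df (f248461 IH) (Lpe (K12.f185184 IH) (Lpn (LP (LK LD1_c0 LD2_c34 LD3_c46))))))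
theorem f250014 : Led Lsl_gt (LP (LK LD1_c0 LD2_c39 LD3_c18)) = (LP (LK LD1_c0 LD2_c59 LD3_c59)) :=
  Lgr Lrot49 (Lpr_df (K9.f169450 IH) (Lpe (K9.f165227 IH) (Lpe (K9.f166366 IH) (Lpe (K9.f177309 IH) (Lpr_dt (K9.f165288 IH) (Lpr_gt (f249983 IH) (Lpr_dt (f163770 IH) (Lpr_cf (K10.f185187 IH) (Lpe (f248464 IH) (Lpn (LP (LK LD1_c0 LD2_c59 LD3_c59))))))))))))
theorem f236134 : Led Lsl_bt (LP (LK LD1_c5 LD2_c28 LD3_c16)) = (LP (LK LD1_c2 LD2_c40 LD3_c27)) :=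
  Lre_b IH (LK LD1_c5 LD2_c28 LD3_c16) (LK LD1_c2 LD2_c40 LD3_c27) Lrfl Lrfl
theorem f251287 : Led Lsl_cf (LP (LK LD1_c4 LD2_c13 LD3_c15)) = (LP (LK LD1_c5 LD2_c28 LD3_c16)) :=
  Lgr Lrot58 (Lpe (f246661 IH) (Lpr_cf (f230322 IH) (Lpr_bt (f169433 IH) (Lpe (f250014 IH) (Lpe (K9.f169445 IH) (Lpr_ct (K9.f169565 IH) (Lpr_gf (f251277 IH) (Lpe (K13.f187215 IH) (Lpe (K13.f236128 IH) (Lpe (f236134 IH) (Lpn (LP (LK LD1_c5 LD2_c28 LD3_c16)))))))))))))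
theorem f251291 : Led Lsl_ct (LP (LK LD1_c4 LD2_c13 LD3_c15)) = (LP (LK LD1_c5 LD2_c28 LD3_c16)) :=
  Lgr Lrot59 (Lpr_cf (f251287 IH) (Lpn (LP (LK LD1_c5 LD2_c28 LD3_c16))))
theorem f251295 : Led Lsl_ef (LP (LK LD1_c4 LD2_c13 LD3_c14)) = (LP (LK LD1_c5 LD2_c28 LD3_c16)) :=
  Lgr Lrot28 (Lpr_ct (f228897 IH) (Lpr_et (f246638 IH) (Lpr_ct (f251291 IH) (Lpn (LP (LK LD1_c5 LD2_c28 LD3_c16))))))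
theorem f190322 : Led Lsl_gt (LP (LK LD1_c2 LD2_c31 LD3_c33)) = (LP (LK LD1_c5 LD2_c8 LD3_c43)) :=
  Lre_g IH (LK LD1_c2 LD2_c31 LD3_c33) (LK LD1_c5 LD2_c8 LD3_c43) Lrfl Lrfl
theorem f251297 : Led Lsl_df (LP (LK LD1_c5 LD2_c8 LD3_c43)) = (LP (LK LD1_c5 LD2_c28 LD3_c16)) :=
  Lgr Lrot132 (Lpe (f190322 IH) (Lpe (K13.f190306 IH) (Lpr_gf (K12.f190921 IH) (Lpe (K12.f43280 IH) (Lpr_dt (K12.f43288 IH) (Lpr_gf (K9.f43811 IH) (Lpr_df (K12.f229934 IH) (Lpe (K13.f229939 IH) (Lpe (K13.f246292 IH) (Lpr_ef (f251295 IH) (Lpn (LP (LK LD1_c5 LD2_c28 LD3_c16)))))))))))))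
theorem f251303 : Led Lsl_dt (LP (LK LD1_c5 LD2_c8 LD3_c43)) = (LP (LK LD1_c5 LD2_c28 LD3_c16)) :=
  Lgr Lrot42 (Lpr_df (f251297 IH) (Lpn (LP (LK LD1_c5 LD2_c28 LD3_c16))))
theorem f197209 : Led Lsl_bt (LP (LK LD1_c1 LD2_c12 LD3_c52)) = (LP (LK LD1_c2 LD2_c31 LD3_c33)) :=
  Lre_b IH (LK LD1_c1 LD2_c12 LD3_c52) (LK LD1_c2 LD2_c31 LD3_c33) Lrfl Lrfl
theorem f183702 : Led Lsl_et (LP (LK LD1_c11 LD2_c54 LD3_c58)) = (LP (LK LD1_c6 LD2_c5 LD3_c44)) :=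
  Lre_e IH (LK LD1_c11 LD2_c54 LD3_c58) (LK LD1_c6 LD2_c5 LD3_c44) Lrfl Lrfl
theorem f195612 : Led Lsl_bf (LP (LK LD1_c11 LD2_c54 LD3_c58)) = (LP (LK LD1_c8 LD2_c4 LD3_c7)) :=
  Lgr Lrot96 (Lpr_et (f183702 IH) (Lpr_bt (K12.f195605 IH) (Lpr_et (K13.f195611 IH) (Lpn (LP (LK LD1_c8 LD2_c4 LD3_c7))))))
theorem f183703 : Led Lsl_dt (LP (LK LD1_c11 LD2_c54 LD3_c58)) = (LP (LK LD1_c6 LD2_c5 LD3_c43)) :=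
  Lre_d IH (LK LD1_c11 LD2_c54 LD3_c58) (LK LD1_c6 LD2_c5 LD3_c43) Lrfl Lrfl
theorem f195617 : Led Lsl_bt (LP (LK LD1_c6 LD2_c5 LD3_c43)) = (LP (LK LD1_c4 LD2_c1 LD3_c44)) :=
  Lgr Lrot95 (Lpe (f183703 IH) (Lpr_bf (f195612 IH) (Lpe (K13.f195616 IH) (Lpn (LP (LK LD1_c4 LD2_c1 LD3_c44))))))
theorem f183713 : Led Lsl_et (LP (LK LD1_c2 LD2_c58 LD3_c59)) = (LP (LK LD1_c6 LD2_c5 LD3_c43)) :=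
  Lre_e IH (LK LD1_c2 LD2_c58 LD3_c59) (LK LD1_c6 LD2_c5 LD3_c43) Lrfl Lrfl
theorem f195627 : Led Lsl_et (LP (LK LD1_c4 LD2_c1 LD3_c44)) = (LP (LK LD1_c1 LD2_c57 LD3_c49)) :=
  Lre_e IH (LK LD1_c4 LD2_c1 LD3_c44) (LK LD1_c1 LD2_c57 LD3_c49) Lrfl Lrfl
theorem f195628 : Led Lsl_bf (LP (LK LD1_c2 LD2_c58 LD3_c59)) = (LP (LK LD1_c1 LD2_c57 LD3_c49)) :=
  Lgr Lrot96 (Lpr_et (f183713 IH) (Lpr_bt (f195617 IH) (Lpr_et (f195627 IH) (Lpn (LP (LK LD1_c1 LD2_c57 LD3_c49))))))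
theorem f195643 : Led Lsl_bt (LP (LK LD1_c2 LD2_c58 LD3_c59)) = (LP (LK LD1_c1 LD2_c57 LD3_c49)) :=
  Lgr Lrot127 (Lpr_bf (f195628 IH) (Lpn (LP (LK LD1_c1 LD2_c57 LD3_c49))))
theorem f183680 : Led Lsl_ct (LP (LK LD1_c2 LD2_c58 LD3_c59)) = (LP (LK LD1_c6 LD2_c5 LD3_c42)) :=
  Lre_c IH (LK LD1_c2 LD2_c58 LD3_c59) (LK LD1_c6 LD2_c5 LD3_c42) Lrfl Lrfl
theorem f183673 : Led Lsl_dt (LP (LK LD1_c1 LD2_c25 LD3_c12)) = (LP (LK LD1_c2 LD2_c58 LD3_c59)) :=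
  Lre_d IH (LK LD1_c1 LD2_c25 LD3_c12) (LK LD1_c2 LD2_c58 LD3_c59) Lrfl Lrfl
theorem f183674 : Led Lsl_ct (LP (LK LD1_c6 LD2_c5 LD3_c42)) = (LP (LK LD1_c2 LD2_c58 LD3_c59)) :=
  Lre_c IH (LK LD1_c6 LD2_c5 LD3_c42) (LK LD1_c2 LD2_c58 LD3_c59) Lrfl Lrfl
theorem f47748 : Led Lsl_ct (LP (LK LD1_c2 LD2_c34 LD3_c32)) = (LP (LK LD1_c5 LD2_c15 LD3_c21)) :=
  Lre_c IH (LK LD1_c2 LD2_c34 LD3_c32) (LK LD1_c5 LD2_c15 LD3_c21) Lrfl Lrfl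
theorem f183675 : Led Lsl_gf (LP (LK LD1_c6 LD2_c5 LD3_c42)) = (LP (LK LD1_c5 LD2_c15 LD3_c21)) :=
  Lgr Lrot104 (Lpr_ct (f183674 IH) (Lpe (f183673 IH) (Lpe (K9.f177784 IH) (Lpr_gf (K9.f183668 IH) (Lpe (K10.f45229 IH) (Lpe (K10.f32340 IH) (Lpe (K10.f45414 IH) (Lpr_gt (K9.f45398 IH) (Lpr_ct (f47748 IH) (Lpn (LP (LK LD1_c5 LD2_c15 LD3_c21))))))))))))
theorem f189792 : Led Lsl_bf (LP (LK LD1_c2 LD2_c35 LD3_c31)) = (LP (LK LD1_c2 LD2_c34 LD3_c32)) :=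
  Lgr Lrot24 (Lpr_bt (K10.f189786 IH) (Lpn (LP (LK LD1_c2 LD2_c34 LD3_c32))))
theorem f229142 : Led Lsl_bt (LP (LK LD1_c1 LD2_c57 LD3_c55)) = (LP (LK LD1_c1 LD2_c14 LD3_c48)) :=
  Lgr Lrot22 (Lpr_ct (K13.f229126 IH) (Lpr_gf (K12.f229136 IH) (Lpe (K12.f184651 IH) (Lpe (K12.f229140 IH) (Lpe (f195643 IH) (Lpr_ct (f183680 IH) (Lpr_gf (f183675 IH) (Lpe (f47748 IH) (Lpe (f189792 IH) (Lpe (K10.f48192 IH) (Lpn (LP (LK LD1_c1 LD2_c14 LD3_c48)))))))))))))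
theorem f229144 : Led Lsl_bf (LP (LK LD1_c1 LD2_c57 LD3_c55)) = (LP (LK LD1_c1 LD2_c14 LD3_c48)) :=
  Lgr Lrot24 (Lpr_bt (f229142 IH) (Lpn (LP (LK LD1_c1 LD2_c14 LD3_c48))))
theorem f32253 : Led Lsl_ct (LP (LK LD1_c1 LD2_c14 LD3_c48)) = (LP (LK LD1_c2 LD2_c35 LD3_c32)) :=
  Lre_c IH (LK LD1_c1 LD2_c14 LD3_c48) (LK LD1_c2 LD2_c35 LD3_c32) Lrfl Lrfl
theorem f53549 : Led Lsl_gt (LP (LK LD1_c5 LD2_c17 LD3_c32)) = (LP (LK LD1_c2 LD2_c35 LD3_c32)) :=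
  Lre_g IH (LK LD1_c5 LD2_c17 LD3_c32) (LK LD1_c2 LD2_c35 LD3_c32) Lrfl Lrfl
theorem f188316 : Led Lsl_ct (LP (LK LD1_c5 LD2_c17 LD3_c49)) = (LP (LK LD1_c4 LD2_c7 LD3_c36)) :=
  Lgr Lrot111 (Lpr_af (K10.f188303 IH) (Lpe (K10.f49650 IH) (Lpe (K9.f49809 IH) (Lpn (LP (LK LD1_c4 LD2_c7 LD3_c36))))))
theorem f165863 : Led Lsl_dt (LP (LK LD1_c2 LD2_c28 LD3_c13)) = (LP (LK LD1_c1 LD2_c11 LD3_c20)) :=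
  Lre_d IH (LK LD1_c2 LD2_c28 LD3_c13) (LK LD1_c1 LD2_c11 LD3_c20) Lrfl Lrfl
theorem f170516 : Led Lsl_gt (LP (LK LD1_c5 LD2_c0 LD3_c59)) = (LP (LK LD1_c2 LD2_c28 LD3_c13)) :=
  Lre_g IH (LK LD1_c5 LD2_c0 LD3_c59) (LK LD1_c2 LD2_c28 LD3_c13) Lrfl Lrfl
theorem f188402 : Led Lsl_ct (LP (LK LD1_c5 LD2_c0 LD3_c59)) = (LP (LK LD1_c5 LD2_c17 LD3_c32)) :=
  Lgr Lrot8 (Lpr_gt (f170516 IH) (Lpr_dt (f165863 IH) (Lpr_gt (K9.f184117 IH) (Lpr_dt (K9.f49813 IH) (Lpe (f188316 IH) (Lpr_df (K13.f188331 IH) (Lpe (K10.f53547 IH) (Lpe (K10.f48945 IH) (Lpe (f53549 IH) (Lpn (LP (LK LD1_c5 LD2_c17 LD3_c32))))))))))))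
theorem f240137 : Led Lsl_bf (LP (LK LD1_c5 LD2_c8 LD3_c43)) = (LP (LK LD1_c5 LD2_c0 LD3_c59)) :=
  Lgr Lrot34 (Lpe (f190322 IH) (Lpe (f197209 IH) (Lpr_ct (K13.f190274 IH) (Lpr_gf (K13.f240131 IH) (Lpe (K13.f240134 IH) (Lpe (K13.f193633 IH) (Lpr_bf (f229144 IH) (Lpr_ct (f32253 IH) (Lpe (f53549 IH) (Lpe (f188402 IH) (Lpn (LP (LK LD1_c5 LD2_c0 LD3_c59)))))))))))))
theorem f251305 : Led Lsl_df (LP (LK LD1_c5 LD2_c0 LD3_c59)) = (LP (LK LD1_c2 LD2_c40 LD3_c27)) :=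
  Lgr Lrot12 (Lpe (f240137 IH) (Lpr_dt (f251303 IH) (Lpr_bt (f236134 IH) (Lpn (LP (LK LD1_c2 LD2_c40 LD3_c27))))))
theorem f169541 : Led Lsl_ct (LP (LK LD1_c5 LD2_c5 LD3_c30)) = (LP (LK LD1_c2 LD2_c29 LD3_c61)) :=
  Lre_c IH (LK LD1_c5 LD2_c5 LD3_c30) (LK LD1_c2 LD2_c29 LD3_c61) Lrfl Lrfl
theorem f251432 : Led Lsl_gt (LP (LK LD1_c5 LD2_c0 LD3_c60)) = (LP (LK LD1_c5 LD2_c5 LD3_c30)) :=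
  Lgr Lrot150 (Lpe (K10.f3754 IH) (Lpe (f170516 IH) (Lpr_df (f251305 IH) (Lpr_gt (K13.f236128 IH) (Lpr_ct (K13.f187215 IH) (Lpe (f251277 IH) (Lpr_ct (K12.f169537 IH) (Lpr_df (K9.f169447 IH) (Lpe (f169541 IH) (Lpn (LP (LK LD1_c5 LD2_c5 LD3_c30))))))))))))
theorem f240161 : Led Lsl_bt (LP (LK LD1_c5 LD2_c8 LD3_c43)) = (LP (LK LD1_c5 LD2_c0 LD3_c59)) :=
  Lgr Lrot127 (Lpr_bf (f240137 IH) (Lpn (LP (LK LD1_c5 LD2_c0 LD3_c59))))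
theorem f169539 : Led Lsl_ct (LP (LK LD1_c2 LD2_c29 LD3_c61)) = (LP (LK LD1_c5 LD2_c5 LD3_c30)) :=
  Lre_c IH (LK LD1_c2 LD2_c29 LD3_c61) (LK LD1_c5 LD2_c5 LD3_c30) Lrfl Lrfl
theorem f169536 : Led Lsl_bt (LP (LK LD1_c2 LD2_c29 LD3_c61)) = (LP (LK LD1_c1 LD2_c12 LD3_c0)) :=
  Lre_b IH (LK LD1_c2 LD2_c29 LD3_c61) (LK LD1_c1 LD2_c12 LD3_c0) Lrfl Lrfl
theorem f180540 : Led Lsl_bt (LP (LK LD1_c1 LD2_c12 LD3_c11)) = (LP (LK LD1_c0 LD2_c33 LD3_c25)) :=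
  Lre_b IH (LK LD1_c1 LD2_c12 LD3_c11) (LK LD1_c0 LD2_c33 LD3_c25) Lrfl Lrfl
theorem f169670 : Led Lsl_gt (LP (LK LD1_c2 LD2_c30 LD3_c22)) = (LP (LK LD1_c5 LD2_c6 LD3_c8)) :=
  Lre_g IH (LK LD1_c2 LD2_c30 LD3_c22) (LK LD1_c5 LD2_c6 LD3_c8) Lrfl Lrfl
theorem f251449 : Led Lsl_ct (LP (LK LD1_c5 LD2_c8 LD3_c43)) = (LP (LK LD1_c5 LD2_c6 LD3_c8)) :=
  Lgr Lrot10 (Lpr_bt (f240161 IH) (Lpr_gt (f170516 IH) (Lpr_ct (K10.f3754 IH) (Lpr_gt (f251432 IH) (Lpe (f169539 IH) (Lpr_bt (f169536 IH) (Lpr_gt (K10.f178981 IH) (Lpe (f180540 IH) (Lpr_ct (f180544 IH) (Lpr_gt (f169670 IH) (Lpn (LP (LK LD1_c5 LD2_c6 LD3_c8)))))))))))))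
theorem f231703 : Led Lsl_et (LP (LK LD1_c2 LD2_c4 LD3_c9)) = (LP (LK LD1_c4 LD2_c13 LD3_c38)) :=
  Lre_e IH (LK LD1_c2 LD2_c4 LD3_c9) (LK LD1_c4 LD2_c13 LD3_c38) Lrfl Lrfl
theorem f231704 : Led Lsl_cf (LP (LK LD1_c2 LD2_c4 LD3_c51)) = (LP (LK LD1_c4 LD2_c13 LD3_c38)) :=
  Lgr Lrot39 (Lpr_et (K13.f48186 IH) (Lpr_ct (K13.f231693 IH) (Lpr_et (f231703 IH) (Lpn (LP (LK LD1_c4 LD2_c13 LD3_c38))))))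
theorem f231710 : Led Lsl_bf (LP (LK LD1_c0 LD2_c59 LD3_c28)) = (LP (LK LD1_c0 LD2_c57 LD3_c39)) :=
  Lgr Lrot24 (Lpr_bt (K13.f231708 IH) (Lpn (LP (LK LD1_c0 LD2_c57 LD3_c39))))
theorem f189528 : Led Lsl_bf (LP (LK LD1_c1 LD2_c14 LD3_c38)) = (LP (LK LD1_c1 LD2_c15 LD3_c3)) :=
  Lgr Lrot24 (Lpr_bt (K10.f189526 IH) (Lpn (LP (LK LD1_c1 LD2_c15 LD3_c3))))
theorem f231792 : Led Lsl_bt (LP (LK LD1_c2 LD2_c4 LD3_c9)) = (LP (LK LD1_c2 LD2_c24 LD3_c55)) :=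
  Lgr Lrot128 (Lpe (K13.f231693 IH) (Lpr_bf (f231710 IH) (Lpe (K10.f189515 IH) (Lpr_bf (f189528 IH) (Lpe (K9.f184838 IH) (Lpn (LP (LK LD1_c2 LD2_c24 LD3_c55))))))))
theorem f44974 : Led Lsl_et (LP (LK LD1_c4 LD2_c13 LD3_c38)) = (LP (LK LD1_c2 LD2_c4 LD3_c9)) :=
  Lre_e IH (LK LD1_c4 LD2_c13 LD3_c38) (LK LD1_c2 LD2_c4 LD3_c9) Lrfl Lrfl
theorem f231822 : Led Lsl_et (LP (LK LD1_c2 LD2_c24 LD3_c55)) = (LP (LK LD1_c4 LD2_c54 LD3_c1)) :=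
  Lre_e IH (LK LD1_c2 LD2_c24 LD3_c55) (LK LD1_c4 LD2_c54 LD3_c1) Lrfl Lrfl
theorem f231823 : Led Lsl_bf (LP (LK LD1_c4 LD2_c13 LD3_c38)) = (LP (LK LD1_c4 LD2_c54 LD3_c1)) :=
  Lgr Lrot96 (Lpr_et (f44974 IH) (Lpr_bt (f231792 IH) (Lpr_et (f231822 IH) (Lpn (LP (LK LD1_c4 LD2_c54 LD3_c1))))))
theorem f231825 : Led Lsl_bt (LP (LK LD1_c4 LD2_c13 LD3_c38)) = (LP (LK LD1_c4 LD2_c54 LD3_c1)) :=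
  Lgr Lrot127 (Lpr_bf (f231823 IH) (Lpn (LP (LK LD1_c4 LD2_c54 LD3_c1))))
theorem f246722 : Led Lsl_gt (LP (LK LD1_c4 LD2_c54 LD3_c1)) = (LP (LK LD1_c2 LD2_c25 LD3_c29)) :=
  Lgr Lrot82 (Lpe (f231825 IH) (Lpe (f231704 IH) (Lpe (K13.f246241 IH) (Lpr_cf (K12.f220209 IH) (Lpr_bt (K12.f170285 IH) (Lpr_gf (K9.f179031 IH) (Lpe (f7927 IH) (Lpr_ct (f200607 IH) (Lpr_gf (f246712 IH) (Lpe (f246641 IH) (Lpn (LP (LK LD1_c2 LD2_c25 LD3_c29)))))))))))))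
theorem f43824 : Led Lsl_dt (LP (LK LD1_c2 LD2_c24 LD3_c55)) = (LP (LK LD1_c4 LD2_c54 LD3_c0)) :=
  Lre_d IH (LK LD1_c2 LD2_c24 LD3_c55) (LK LD1_c4 LD2_c54 LD3_c0) Lrfl Lrfl
theorem f251299 : Led Lsl_gf (LP (LK LD1_c4 LD2_c54 LD3_c0)) = (LP (LK LD1_c5 LD2_c8 LD3_c43)) :=
  Lgr Lrot145 (Lpe (f43824 IH) (Lpr_et (f231822 IH) (Lpr_gt (f246722 IH) (Lpr_dt (f246759 IH) (Lpe (f246765 IH) (Lpe (f200550 IH) (Lpr_et (K12.f200527 IH) (Lpr_gt (f246577 IH) (Lpr_ef (f251295 IH) (Lpe (f251297 IH) (Lpn (LP (LK LD1_c5 LD2_c8 LD3_c43)))))))))))))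
theorem f43823 : Led Lsl_dt (LP (LK LD1_c4 LD2_c54 LD3_c0)) = (LP (LK LD1_c2 LD2_c24 LD3_c55)) :=
  Lre_d IH (LK LD1_c4 LD2_c54 LD3_c0) (LK LD1_c2 LD2_c24 LD3_c55) Lrfl Lrfl
theorem f251558 : Led Lsl_gf (LP (LK LD1_c2 LD2_c36 LD3_c19)) = (LP (LK LD1_c5 LD2_c6 LD3_c8)) :=
  Lgr Lrot148 (Lpr_dt (K9.f182245 IH) (Lpe (f183985 IH) (Lpe (f184095 IH) (Lpr_ct (K12.f184084 IH) (Lpe (K12.f43288 IH) (Lpr_gf (K12.f43821 IH) (Lpe (f43823 IH) (Lpr_gf (f251299 IH) (Lpr_ct (f251449 IH) (Lpn (LP (LK LD1_c5 LD2_c6 LD3_c8))))))))))))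
theorem f44057 : Led Lsl_dt (LP (LK LD1_c1 LD2_c2 LD3_c24)) = (LP (LK LD1_c2 LD2_c10 LD3_c48)) :=
  Lre_d IH (LK LD1_c1 LD2_c2 LD3_c24) (LK LD1_c2 LD2_c10 LD3_c48) Lrfl Lrfl
theorem f230437 : Led Lsl_bt (LP (LK LD1_c2 LD2_c10 LD3_c48)) = (LP (LK LD1_c1 LD2_c15 LD3_c10)) :=
  Lgr Lrot95 (Lpe (f44057 IH) (Lpr_bf (K12.f230433 IH) (Lpe (K9.f44075 IH) (Lpn (LP (LK LD1_c1 LD2_c15 LD3_c10))))))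
theorem f230444 : Led Lsl_bf (LP (LK LD1_c2 LD2_c10 LD3_c48)) = (LP (LK LD1_c1 LD2_c15 LD3_c10)) :=
  Lgr Lrot24 (Lpr_bt (f230437 IH) (Lpn (LP (LK LD1_c1 LD2_c15 LD3_c10))))
theorem f251560 : Led Lsl_gf (LP (LK LD1_c2 LD2_c33 LD3_c25)) = (LP (LK LD1_c2 LD2_c10 LD3_c48)) :=
  Lgr Lrot124 (Lpr_bf (K13.f240365 IH) (Lpr_ct (K13.f240134 IH) (Lpe (K13.f240131 IH) (Lpe (K13.f190274 IH) (Lpr_bt (f197209 IH) (Lpr_gt (f190322 IH) (Lpr_ct (f251449 IH) (Lpe (f251558 IH) (Lpe (K9.f28276 IH) (Lpe (f230444 IH) (Lpn (LP (LK LD1_c2 LD2_c10 LD3_c48)))))))))))))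
theorem f41527 : Led Lsl_et (LP (LK LD1_c1 LD2_c15 LD3_c45)) = (LP (LK LD1_c0 LD2_c35 LD3_c7)) :=
  Lre_e IH (LK LD1_c1 LD2_c15 LD3_c45) (LK LD1_c0 LD2_c35 LD3_c7) Lrfl Lrfl
theorem f251568 : Led Lsl_df (LP (LK LD1_c2 LD2_c33 LD3_c25)) = (LP (LK LD1_c1 LD2_c15 LD3_c45)) :=
  Lgr Lrot132 (Lpr_gf (f251560 IH) (Lpe (f44057 IH) (Lpe (K10.f44054 IH) (Lpe (K1.f44053 IH) (Lpe (K1.f44037 IH) (Lpe (K1.f2902 IH) (Lpe (K1.f28232 IH) (Lpr_et (K11.f44056 IH) (Lpe (K10.f8482 IH) (Lpe (f41527 IH) (Lpn (LP (LK LD1_c1 LD2_c15 LD3_c45)))))))))))))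
theorem f190767 : Led Lsl_ct (LP (LK LD1_c5 LD2_c16 LD3_c17)) = (LP (LK LD1_c8 LD2_c26 LD3_c15)) :=
  Lgr Lrot59 (Lpr_cf (K10.f190758 IH) (Lpn (LP (LK LD1_c8 LD2_c26 LD3_c15))))
theorem f186752 : Led Lsl_dt (LP (LK LD1_c2 LD2_c29 LD3_c59)) = (LP (LK LD1_c5 LD2_c5 LD3_c25)) :=
  Lre_d IH (LK LD1_c2 LD2_c29 LD3_c59) (LK LD1_c5 LD2_c5 LD3_c25) Lrfl Lrfl
theorem f186729 : Led Lsl_gt (LP (LK LD1_c5 LD2_c5 LD3_c23)) = (LP (LK LD1_c2 LD2_c29 LD3_c59)) :=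
  Lre_g IH (LK LD1_c5 LD2_c5 LD3_c23) (LK LD1_c2 LD2_c29 LD3_c59) Lrfl Lrfl
theorem f169562 : Led Lsl_bt (LP (LK LD1_c1 LD2_c11 LD3_c61)) = (LP (LK LD1_c0 LD2_c33 LD3_c20)) :=
  Lre_b IH (LK LD1_c1 LD2_c11 LD3_c61) (LK LD1_c0 LD2_c33 LD3_c20) Lrfl Lrfl
theorem f186728 : Led Lsl_ct (LP (LK LD1_c1 LD2_c11 LD3_c61)) = (LP (LK LD1_c2 LD2_c29 LD3_c59)) :=
  Lre_c IH (LK LD1_c1 LD2_c11 LD3_c61) (LK LD1_c2 LD2_c29 LD3_c59) Lrfl Lrfl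
theorem f186732 : Led Lsl_bt (LP (LK LD1_c5 LD2_c10 LD3_c3)) = (LP (LK LD1_c2 LD2_c32 LD3_c6)) :=
  Lre_b IH (LK LD1_c5 LD2_c10 LD3_c3) (LK LD1_c2 LD2_c32 LD3_c6) Lrfl Lrfl
theorem f186733 : Led Lsl_cf (LP (LK LD1_c5 LD2_c5 LD3_c23)) = (LP (LK LD1_c5 LD2_c10 LD3_c3)) :=
  Lgr Lrot160 (Lpr_gt (f186729 IH) (Lpe (f186728 IH) (Lpr_bt (f169562 IH) (Lpr_gt (K9.f165227 IH) (Lpr_ct (K10.f169449 IH) (Lpr_gt (K10.f186721 IH) (Lpe (K10.f185396 IH) (Lpr_bt (K10.f186730 IH) (Lpr_gt (K10.f186731 IH) (Lpe (f186732 IH) (Lpn (LP (LK LD1_c5 LD2_c10 LD3_c3)))))))))))))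
theorem f247521 : Led Lsl_gf (LP (LK LD1_c4 LD2_c53 LD3_c56)) = (LP (LK LD1_c5 LD2_c10 LD3_c3)) :=
  Lgr Lrot144 (Lpr_dt (K13.f44464 IH) (Lpr_gt (K10.f51292 IH) (Lpr_dt (K9.f50062 IH) (Lpe (f190767 IH) (Lpr_df (f247484 IH) (Lpe (f186753 IH) (Lpe (f186752 IH) (Lpe (f186729 IH) (Lpr_cf (f186733 IH) (Lpn (LP (LK LD1_c5 LD2_c10 LD3_c3))))))))))))
theorem f251307 : Led Lsl_dt (LP (LK LD1_c2 LD2_c32 LD3_c6)) = (LP (LK LD1_c4 LD2_c13 LD3_c15)) :=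
  Lgr Lrot105 (Lpe (K10.f186731 IH) (Lpe (f189545 IH) (Lpr_gf (K10.f189549 IH) (Lpe (K13.f43283 IH) (Lpe (K12.f190921 IH) (Lpr_dt (K13.f190306 IH) (Lpr_gt (f190322 IH) (Lpr_dt (f251303 IH) (Lpe (f251291 IH) (Lpn (LP (LK LD1_c4 LD2_c13 LD3_c15))))))))))))
theorem f251313 : Led Lsl_df (LP (LK LD1_c2 LD2_c32 LD3_c6)) = (LP (LK LD1_c4 LD2_c13 LD3_c15)) :=
  Lgr Lrot38 (Lpr_dt (f251307 IH) (Lpn (LP (LK LD1_c4 LD2_c13 LD3_c15))))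
theorem f186743 : Led Lsl_bt (LP (LK LD1_c2 LD2_c32 LD3_c6)) = (LP (LK LD1_c5 LD2_c10 LD3_c3)) :=
  Lre_b IH (LK LD1_c2 LD2_c32 LD3_c6) (LK LD1_c5 LD2_c10 LD3_c3) Lrfl Lrfl
theorem f197025 : Led Lsl_ct (LP (LK LD1_c2 LD2_c40 LD3_c27)) = (LP (LK LD1_c1 LD2_c16 LD3_c56)) :=
  Lre_c IH (LK LD1_c2 LD2_c40 LD3_c27) (LK LD1_c1 LD2_c16 LD3_c56) Lrfl Lrfl
theorem f236135 : Led Lsl_bt (LP (LK LD1_c1 LD2_c16 LD3_c56)) = (LP (LK LD1_c2 LD2_c40 LD3_c26)) :=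
  Lre_b IH (LK LD1_c1 LD2_c16 LD3_c56) (LK LD1_c2 LD2_c40 LD3_c26) Lrfl Lrfl
theorem f175057 : Led Lsl_ct (LP (LK LD1_c2 LD2_c40 LD3_c26)) = (LP (LK LD1_c5 LD2_c28 LD3_c14)) :=
  Lre_c IH (LK LD1_c2 LD2_c40 LD3_c26) (LK LD1_c5 LD2_c28 LD3_c14) Lrfl Lrfl
theorem f251293 : Led Lsl_bf (LP (LK LD1_c4 LD2_c13 LD3_c15)) = (LP (LK LD1_c5 LD2_c28 LD3_c14)) :=
  Lgr Lrot90 (Lpr_ct (f251291 IH) (Lpr_bt (f236134 IH) (Lpr_ct (f197025 IH) (Lpr_bt (f236135 IH) (Lpr_ct (f175057 IH) (Lpn (LP (LK LD1_c5 LD2_c28 LD3_c14))))))))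
theorem f251407 : Led Lsl_dt (LP (LK LD1_c5 LD2_c10 LD3_c3)) = (LP (LK LD1_c5 LD2_c28 LD3_c14)) :=
  Lgr Lrot79 (Lpe (f186743 IH) (Lpr_df (f251313 IH) (Lpr_bf (f251293 IH) (Lpn (LP (LK LD1_c5 LD2_c28 LD3_c14))))))
theorem f167353 : Led Lsl_ct (LP (LK LD1_c2 LD2_c1 LD3_c40)) = (LP (LK LD1_c0 LD2_c57 LD3_c54)) :=
  Lre_c IH (LK LD1_c2 LD2_c1 LD3_c40) (LK LD1_c0 LD2_c57 LD3_c54) Lrfl Lrfl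
theorem f33307 : Led Lsl_et (LP (LK LD1_c1 LD2_c8 LD3_c43)) = (LP (LK LD1_c2 LD2_c23 LD3_c13)) :=
  Lre_e IH (LK LD1_c1 LD2_c8 LD3_c43) (LK LD1_c2 LD2_c23 LD3_c13) Lrfl Lrfl
theorem f167341 : Led Lsl_cf (LP (LK LD1_c2 LD2_c1 LD3_c37)) = (LP (LK LD1_c2 LD2_c23 LD3_c13)) :=
  Lgr Lrot39 (Lpr_et (K12.f167340 IH) (Lpr_ct (K12.f167329 IH) (Lpr_et (f33307 IH) (Lpn (LP (LK LD1_c2 LD2_c23 LD3_c13))))))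
theorem f167349 : Led Lsl_ct (LP (LK LD1_c2 LD2_c1 LD3_c37)) = (LP (LK LD1_c2 LD2_c23 LD3_c13)) :=
  Lgr Lrot59 (Lpr_cf (f167341 IH) (Lpn (LP (LK LD1_c2 LD2_c23 LD3_c13))))
theorem f167351 : Led Lsl_bt (LP (LK LD1_c2 LD2_c23 LD3_c13)) = (LP (LK LD1_c4 LD2_c50 LD3_c48)) :=
  Lre_b IH (LK LD1_c2 LD2_c23 LD3_c13) (LK LD1_c4 LD2_c50 LD3_c48) Lrfl Lrfl
theorem f247678 : Led Lsl_cf (LP (LK LD1_c2 LD2_c29 LD3_c3)) = (LP (LK LD1_c4 LD2_c50 LD3_c48)) :=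
  Lgr Lrot97 (Lpr_bt (f247639 IH) (Lpr_ct (f167353 IH) (Lpr_bt (f167352 IH) (Lpr_ct (f167349 IH) (Lpr_bt (f167351 IH) (Lpn (LP (LK LD1_c4 LD2_c50 LD3_c48))))))))
theorem f251574 : Led Lsl_gt (LP (LK LD1_c5 LD2_c28 LD3_c14)) = (LP (LK LD1_c4 LD2_c50 LD3_c48)) :=
  Lgr Lrot9 (Lpe (f251407 IH) (Lpe (f247521 IH) (Lpr_ct (K13.f191779 IH) (Lpr_gt (K13.f230683 IH) (Lpr_ct (K13.f183906 IH) (Lpr_df (f251568 IH) (Lpr_cf (f247633 IH) (Lpe (f28380 IH) (Lpr_cf (f247678 IH) (Lpn (LP (LK LD1_c4 LD2_c50 LD3_c48))))))))))))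
theorem f246631 : Led Lsl_et (LP (LK LD1_c4 LD2_c13 LD3_c15)) = (LP (LK LD1_c2 LD2_c3 LD3_c52)) :=
  Lre_e IH (LK LD1_c4 LD2_c13 LD3_c15) (LK LD1_c2 LD2_c3 LD3_c52) Lrfl Lrfl
theorem f246630 : Led Lsl_et (LP (LK LD1_c1 LD2_c9 LD3_c61)) = (LP (LK LD1_c2 LD2_c25 LD3_c34)) :=
  Lre_e IH (LK LD1_c1 LD2_c9 LD3_c61) (LK LD1_c2 LD2_c25 LD3_c34) Lrfl Lrfl
theorem f55085 : Led Lsl_dt (LP (LK LD1_c2 LD2_c25 LD3_c34)) = (LP (LK LD1_c4 LD2_c55 LD3_c23)) :=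
  Lre_d IH (LK LD1_c2 LD2_c25 LD3_c34) (LK LD1_c4 LD2_c55 LD3_c23) Lrfl Lrfl
theorem f251315 : Led Lsl_ef (LP (LK LD1_c2 LD2_c32 LD3_c6)) = (LP (LK LD1_c4 LD2_c55 LD3_c23)) :=
  Lgr Lrot73 (Lpr_dt (f251307 IH) (Lpr_et (f246631 IH) (Lpe (f246595 IH) (Lpr_et (f246630 IH) (Lpr_dt (f55085 IH) (Lpn (LP (LK LD1_c4 LD2_c55 LD3_c23))))))))
theorem f251337 : Led Lsl_bt (LP (LK LD1_c9 LD2_c42 LD3_c4)) = (LP (LK LD1_c4 LD2_c55 LD3_c23)) :=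
  Lre_b IH (LK LD1_c9 LD2_c42 LD3_c4) (LK LD1_c4 LD2_c55 LD3_c23) Lrfl Lrfl
theorem f251338 : Led Lsl_et (LP (LK LD1_c5 LD2_c10 LD3_c3)) = (LP (LK LD1_c9 LD2_c42 LD3_c4)) :=
  Lgr Lrot74 (Lpe (f186743 IH) (Lpr_ef (f251315 IH) (Lpe (f251337 IH) (Lpn (LP (LK LD1_c9 LD2_c42 LD3_c4))))))
theorem f197026 : Led Lsl_bt (LP (LK LD1_c2 LD2_c40 LD3_c27)) = (LP (LK LD1_c5 LD2_c28 LD3_c16)) :=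
  Lre_b IH (LK LD1_c2 LD2_c40 LD3_c27) (LK LD1_c5 LD2_c28 LD3_c16) Lrfl Lrfl
theorem f175056 : Led Lsl_bt (LP (LK LD1_c2 LD2_c40 LD3_c26)) = (LP (LK LD1_c1 LD2_c16 LD3_c56)) :=
  Lre_b IH (LK LD1_c2 LD2_c40 LD3_c26) (LK LD1_c1 LD2_c16 LD3_c56) Lrfl Lrfl
theorem f193960 : Led Lsl_ct (LP (LK LD1_c5 LD2_c28 LD3_c14)) = (LP (LK LD1_c2 LD2_c40 LD3_c26)) :=
  Lre_c IH (LK LD1_c5 LD2_c28 LD3_c14) (LK LD1_c2 LD2_c40 LD3_c26) Lrfl Lrfl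
theorem f251289 : Led Lsl_bt (LP (LK LD1_c4 LD2_c13 LD3_c15)) = (LP (LK LD1_c5 LD2_c28 LD3_c14)) :=
  Lgr Lrot128 (Lpr_cf (f251287 IH) (Lpe (f197026 IH) (Lpe (K13.f236127 IH) (Lpe (f175056 IH) (Lpe (f193960 IH) (Lpn (LP (LK LD1_c5 LD2_c28 LD3_c14))))))))
theorem f251311 : Led Lsl_df (LP (LK LD1_c5 LD2_c10 LD3_c3)) = (LP (LK LD1_c5 LD2_c28 LD3_c14)) :=
  Lgr Lrot12 (Lpr_bt (f186732 IH) (Lpr_dt (f251307 IH) (Lpr_bt (f251289 IH) (Lpn (LP (LK LD1_c5 LD2_c28 LD3_c14))))))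
theorem f168573 : Led Lsl_dt (LP (LK LD1_c9 LD2_c42 LD3_c4)) = (LP (LK LD1_c4 LD2_c55 LD3_c16)) :=
  Lre_d IH (LK LD1_c9 LD2_c42 LD3_c4) (LK LD1_c4 LD2_c55 LD3_c16) Lrfl Lrfl
theorem f168071 : Led Lsl_et (LP (LK LD1_c4 LD2_c55 LD3_c16)) = (LP (LK LD1_c2 LD2_c25 LD3_c32)) :=
  Lre_e IH (LK LD1_c4 LD2_c55 LD3_c16) (LK LD1_c2 LD2_c25 LD3_c32) Lrfl Lrfl
theorem f168062 : Led Lsl_bt (LP (LK LD1_c1 LD2_c9 LD3_c61)) = (LP (LK LD1_c2 LD2_c25 LD3_c32)) :=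
  Lre_b IH (LK LD1_c1 LD2_c9 LD3_c61) (LK LD1_c2 LD2_c25 LD3_c32) Lrfl Lrfl
theorem f183238 : Led Lsl_bt (LP (LK LD1_c4 LD2_c13 LD3_c13)) = (LP (LK LD1_c2 LD2_c3 LD3_c52)) :=
  Lre_b IH (LK LD1_c4 LD2_c13 LD3_c13) (LK LD1_c2 LD2_c3 LD3_c52) Lrfl Lrfl
theorem f246628 : Led Lsl_dt (LP (LK LD1_c2 LD2_c25 LD3_c32)) = (LP (LK LD1_c4 LD2_c13 LD3_c13)) :=
  Lgr Lrot79 (Lpe (f168062 IH) (Lpr_df (f246595 IH) (Lpe (f183238 IH) (Lpn (LP (LK LD1_c4 LD2_c13 LD3_c13))))))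
theorem f251396 : Led Lsl_ef (LP (LK LD1_c5 LD2_c28 LD3_c14)) = (LP (LK LD1_c4 LD2_c13 LD3_c13)) :=
  Lgr Lrot73 (Lpe (f251311 IH) (Lpr_et (f251338 IH) (Lpr_dt (f168573 IH) (Lpr_et (f168071 IH) (Lpr_dt (f246628 IH) (Lpn (LP (LK LD1_c4 LD2_c13 LD3_c13))))))))
theorem f251343 : Led Lsl_et (LP (LK LD1_c2 LD2_c32 LD3_c6)) = (LP (LK LD1_c4 LD2_c55 LD3_c23)) :=
  Lgr Lrot87 (Lpr_ef (f251315 IH) (Lpn (LP (LK LD1_c4 LD2_c55 LD3_c23))))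
theorem f251346 : Led Lsl_bt (LP (LK LD1_c4 LD2_c55 LD3_c23)) = (LP (LK LD1_c9 LD2_c42 LD3_c4)) :=
  Lre_b IH (LK LD1_c4 LD2_c55 LD3_c23) (LK LD1_c9 LD2_c42 LD3_c4) Lrfl Lrfl
theorem f251347 : Led Lsl_ef (LP (LK LD1_c5 LD2_c10 LD3_c3)) = (LP (LK LD1_c9 LD2_c42 LD3_c4)) :=
  Lgr Lrot29 (Lpr_bt (f186732 IH) (Lpr_et (f251343 IH) (Lpr_bt (f251346 IH) (Lpn (LP (LK LD1_c9 LD2_c42 LD3_c4))))))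
theorem f168567 : Led Lsl_dt (LP (LK LD1_c4 LD2_c55 LD3_c16)) = (LP (LK LD1_c9 LD2_c42 LD3_c4)) :=
  Lre_d IH (LK LD1_c4 LD2_c55 LD3_c16) (LK LD1_c9 LD2_c42 LD3_c4) Lrfl Lrfl
theorem f168589 : Led Lsl_et (LP (LK LD1_c2 LD2_c25 LD3_c32)) = (LP (LK LD1_c4 LD2_c55 LD3_c16)) :=
  Lre_e IH (LK LD1_c2 LD2_c25 LD3_c32) (LK LD1_c4 LD2_c55 LD3_c16) Lrfl Lrfl
theorem f251401 : Led Lsl_et (LP (LK LD1_c5 LD2_c28 LD3_c14)) = (LP (LK LD1_c4 LD2_c13 LD3_c13)) :=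
  Lgr Lrot87 (Lpr_ef (f251396 IH) (Lpn (LP (LK LD1_c4 LD2_c13 LD3_c13))))
theorem f251428 : Led Lsl_df (LP (LK LD1_c2 LD2_c25 LD3_c32)) = (LP (LK LD1_c4 LD2_c13 LD3_c13)) :=
  Lgr Lrot70 (Lpr_et (f168589 IH) (Lpr_dt (f168567 IH) (Lpe (f251347 IH) (Lpr_dt (f251407 IH) (Lpr_et (f251401 IH) (Lpn (LP (LK LD1_c4 LD2_c13 LD3_c13))))))))
theorem f41570 : Led Lsl_dt (LP (LK LD1_c1 LD2_c2 LD3_c41)) = (LP (LK LD1_c0 LD2_c28 LD3_c34)) :=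
  Lre_d IH (LK LD1_c1 LD2_c2 LD3_c41) (LK LD1_c0 LD2_c28 LD3_c34) Lrfl Lrfl
theorem f44734 : Led Lsl_ct (LP (LK LD1_c2 LD2_c11 LD3_c22)) = (LP (LK LD1_c1 LD2_c2 LD3_c41)) :=
  Lre_c IH (LK LD1_c2 LD2_c11 LD3_c22) (LK LD1_c1 LD2_c2 LD3_c41) Lrfl Lrfl
theorem f213900 : Led Lsl_gt (LP (LK LD1_c4 LD2_c4 LD3_c61)) = (LP (LK LD1_c2 LD2_c25 LD3_c32)) :=
  Lgr Lrot9 (Lpe (K9.f47462 IH) (Lpr_gt (K12.f213775 IH) (Lpr_ct (K12.f212485 IH) (Lpr_gt (K12.f213773 IH) (Lpr_ct (K11.f42888 IH) (Lpe (f41570 IH) (Lpe (f44734 IH) (Lpe (K9.f168075 IH) (Lpe (K9.f167941 IH) (Lpn (LP (LK LD1_c2 LD2_c25 LD3_c32))))))))))))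
theorem f251576 : Led Lsl_df (LP (LK LD1_c2 LD2_c28 LD3_c31)) = (LP (LK LD1_c4 LD2_c50 LD3_c48)) :=
  Lgr Lrot135 (Lpe (f247716 IH) (Lpe (K9.f44530 IH) (Lpr_et (K9.f44517 IH) (Lpr_gt (K1.f47445 IH) (Lpe (K12.f47461 IH) (Lpr_dt (K9.f47462 IH) (Lpr_gt (f213900 IH) (Lpr_df (f251428 IH) (Lpe (f251396 IH) (Lpr_gt (f251574 IH) (Lpn (LP (LK LD1_c4 LD2_c50 LD3_c48)))))))))))))
theorem f170685 : Led Lsl_dt (LP (LK LD1_c2 LD2_c2 LD3_c17)) = (LP (LK LD1_c4 LD2_c10 LD3_c9)) :=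
  Lre_d IH (LK LD1_c2 LD2_c2 LD3_c17) (LK LD1_c4 LD2_c10 LD3_c9) Lrfl Lrfl
theorem f251582 : Led Lsl_gf (LP (LK LD1_c2 LD2_c2 LD3_c17)) = (LP (LK LD1_c2 LD2_c40 LD3_c26)) :=
  Lgr Lrot144 (Lpr_dt (f170685 IH) (Lpe (K11.f188004 IH) (Lpr_dt (f30873 IH) (Lpr_cf (K10.f51051 IH) (Lpe (K9.f44570 IH) (Lpr_gf (f247716 IH) (Lpr_df (f251576 IH) (Lpe (f251574 IH) (Lpe (f175057 IH) (Lpn (LP (LK LD1_c2 LD2_c40 LD3_c26))))))))))))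
theorem f214336 : Led Lsl_ft (LP (LK LD1_c5 LD2_c9 LD3_c27)) = (LP (LK LD1_c3 LD2_c58 LD3_c4)) :=
  Lgr Lrot101 (Lpr_af (f214227 IH) (Lpr_ff (K13.f214332 IH) (Lpe (K12.f43849 IH) (Lpn (LP (LK LD1_c3 LD2_c58 LD3_c4))))))
theorem f215023 : Led Lsl_gt (LP (LK LD1_c5 LD2_c15 LD3_c52)) = (LP (LK LD1_c3 LD2_c58 LD3_c5)) :=
  Lgr Lrot46 (Lpe (K12.f214270 IH) (Lpr_ft (f214336 IH) (Lpr_at (K12.f43849 IH) (Lpn (LP (LK LD1_c3 LD2_c58 LD3_c5))))))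
theorem f44788 : Led Lsl_gt (LP (LK LD1_c2 LD2_c10 LD3_c56)) = (LP (LK LD1_c4 LD2_c27 LD3_c26)) :=
  Lre_g IH (LK LD1_c2 LD2_c10 LD3_c56) (LK LD1_c4 LD2_c27 LD3_c26) Lrfl Lrfl
theorem f47259 : Led Lsl_gt (LP (LK LD1_c4 LD2_c27 LD3_c26)) = (LP (LK LD1_c4 LD2_c27 LD3_c20)) :=
  Lgr Lrot46 (Lpe (f44788 IH) (Lpr_ft (K13.f44784 IH) (Lpr_at (K13.f47229 IH) (Lpn (LP (LK LD1_c4 LD2_c27 LD3_c20))))))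
theorem f49822 : Led Lsl_bt (LP (LK LD1_c8 LD2_c15 LD3_c5)) = (LP (LK LD1_c4 LD2_c7 LD3_c33)) :=
  Lre_b IH (LK LD1_c8 LD2_c15 LD3_c5) (LK LD1_c4 LD2_c7 LD3_c33) Lrfl Lrfl
theorem f215035 : Led Lsl_cf (LP (LK LD1_c4 LD2_c27 LD3_c26)) = (LP (LK LD1_c8 LD2_c15 LD3_c5)) :=
  Lgr Lrot160 (Lpr_gt (f47259 IH) (Lpe (K13.f46171 IH) (Lpr_bt (K10.f46170 IH) (Lpr_gt (K12.f212473 IH) (Lpr_ct (K12.f32867 IH) (Lpr_gt (f215023 IH) (Lpe (f43860 IH) (Lpr_bt (f50019 IH) (Lpr_gt (K13.f45010 IH) (Lpe (f49822 IH) (Lpn (LP (LK LD1_c8 LD2_c15 LD3_c5)))))))))))))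
theorem f215048 : Led Lsl_gt (LP (LK LD1_c4 LD2_c13 LD3_c42)) = (LP (LK LD1_c8 LD2_c15 LD3_c5)) :=
  Lgr Lrot9 (Lpe (K9.f44530 IH) (Lpr_gt (K10.f187875 IH) (Lpr_ct (K10.f46221 IH) (Lpr_gt (K9.f46220 IH) (Lpr_ct (K9.f46205 IH) (Lpe (K1.f46136 IH) (Lpe (K1.f46180 IH) (Lpe (f47259 IH) (Lpr_cf (f215035 IH) (Lpn (LP (LK LD1_c8 LD2_c15 LD3_c5))))))))))))
theorem f51290 : Led Lsl_af (LP (LK LD1_c4 LD2_c53 LD3_c61)) = (LP (LK LD1_c8 LD2_c26 LD3_c15)) :=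
  Lgr Lrot45 (Lpr_ft (K12.f44454 IH) (Lpr_at (f51283 IH) (Lpr_ft (K12.f50054 IH) (Lpn (LP (LK LD1_c8 LD2_c26 LD3_c15))))))
theorem f215054 : Led Lsl_gf (LP (LK LD1_c4 LD2_c53 LD3_c61)) = (LP (LK LD1_c8 LD2_c15 LD3_c5)) :=
  Lgr Lrot76 (Lpr_af (f51290 IH) (Lpe (K12.f50054 IH) (Lpr_gt (f215048 IH) (Lpn (LP (LK LD1_c8 LD2_c15 LD3_c5))))))
theorem f28355 : Led Lsl_ct (LP (LK LD1_c0 LD2_c33 LD3_c12)) = (LP (LK LD1_c0 LD2_c32 LD3_c11)) :=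
  Lgr Lrot7 (Lpe (K8.f21291 IH) (Lpe (K8.f21286 IH) (Lpe (K8.f8128 IH) (Lpe (K8.f8127 IH) (Lpe (K1.f21294 IH) (Lpr_gt (K8.f8144 IH) (Lpr_dt (K8.f8146 IH) (Lpr_gt (K8.f8147 IH) (Lpr_dt (K8.f28347 IH) (Lpn (LP (LK LD1_c0 LD2_c32 LD3_c11))))))))))))
theorem f28360 : Led Lsl_bt (LP (LK LD1_c0 LD2_c33 LD3_c12)) = (LP (LK LD1_c1 LD2_c11 LD3_c40)) :=
  Lre_b IH (LK LD1_c0 LD2_c33 LD3_c12) (LK LD1_c1 LD2_c11 LD3_c40) Lrfl Lrfl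
theorem f28378 : Led Lsl_ct (LP (LK LD1_c2 LD2_c29 LD3_c2)) = (LP (LK LD1_c5 LD2_c3 LD3_c2)) :=
  Lre_c IH (LK LD1_c2 LD2_c29 LD3_c2) (LK LD1_c5 LD2_c3 LD3_c2) Lrfl Lrfl
theorem f175054 : Led Lsl_bt (LP (LK LD1_c0 LD2_c15 LD3_c58)) = (LP (LK LD1_c0 LD2_c35 LD3_c35)) :=
  Lre_b IH (LK LD1_c0 LD2_c15 LD3_c58) (LK LD1_c0 LD2_c35 LD3_c35) Lrfl Lrfl
theorem f193957 : Led Lsl_gt (LP (LK LD1_c5 LD2_c3 LD3_c2)) = (LP (LK LD1_c5 LD2_c28 LD3_c14)) :=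
  Lgr Lrot149 (Lpe (f28378 IH) (Lpe (f28361 IH) (Lpe (f28360 IH) (Lpr_ct (f28355 IH) (Lpr_gf (K13.f193950 IH) (Lpr_cf (K10.f174972 IH) (Lpr_bt (f175054 IH) (Lpe (K13.f175055 IH) (Lpe (f175056 IH) (Lpr_ct (f175057 IH) (Lpn (LP (LK LD1_c5 LD2_c28 LD3_c14)))))))))))))
theorem f251587 : Led Lsl_dt (LP (LK LD1_c8 LD2_c15 LD3_c5)) = (LP (LK LD1_c5 LD2_c3 LD3_c2)) :=
  Lgr Lrot6 (Lpe (f215054 IH) (Lpr_ct (K9.f184017 IH) (Lpr_gt (K9.f165817 IH) (Lpr_ct (K12.f32067 IH) (Lpe (K9.f178701 IH) (Lpe (K12.f170682 IH) (Lpr_gf (f251582 IH) (Lpe (f193960 IH) (Lpe (f193957 IH) (Lpn (LP (LK LD1_c5 LD2_c3 LD3_c2))))))))))))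
theorem f190311 : Led Lsl_dt (LP (LK LD1_c2 LD2_c31 LD3_c33)) = (LP (LK LD1_c1 LD2_c12 LD3_c51)) :=
  Lre_d IH (LK LD1_c2 LD2_c31 LD3_c33) (LK LD1_c1 LD2_c12 LD3_c51) Lrfl Lrfl
theorem f190923 : Led Lsl_et (LP (LK LD1_c2 LD2_c31 LD3_c33)) = (LP (LK LD1_c5 LD2_c8 LD3_c46)) :=
  Lre_e IH (LK LD1_c2 LD2_c31 LD3_c33) (LK LD1_c5 LD2_c8 LD3_c46) Lrfl Lrfl
theorem f251596 : Led Lsl_gf (LP (LK LD1_c5 LD2_c8 LD3_c46)) = (LP (LK LD1_c9 LD2_c42 LD3_c4)) :=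
  Lgr Lrot141 (Lpe (f190923 IH) (Lpr_dt (f190311 IH) (Lpr_gt (K12.f190878 IH) (Lpe (K9.f43408 IH) (Lpe (K9.f44571 IH) (Lpr_gt (f215048 IH) (Lpr_dt (f251587 IH) (Lpr_gt (f193957 IH) (Lpe (f251407 IH) (Lpr_et (f251338 IH) (Lpn (LP (LK LD1_c9 LD2_c42 LD3_c4)))))))))))))
theorem f191119 : Led Lsl_dt (LP (LK LD1_c10 LD2_c7 LD3_c57)) = (LP (LK LD1_c5 LD2_c8 LD3_c46)) :=
  Lre_d IH (LK LD1_c10 LD2_c7 LD3_c57) (LK LD1_c5 LD2_c8 LD3_c46) Lrfl Lrfl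
theorem f191118 : Led Lsl_et (LP (LK LD1_c10 LD2_c7 LD3_c57)) = (LP (LK LD1_c5 LD2_c8 LD3_c47)) :=
  Lre_e IH (LK LD1_c10 LD2_c7 LD3_c57) (LK LD1_c5 LD2_c8 LD3_c47) Lrfl Lrfl
theorem f54085 : Led Lsl_et (LP (LK LD1_c4 LD2_c15 LD3_c3)) = (LP (LK LD1_c4 LD2_c4 LD3_c61)) :=
  Lgr Lrot123 (Lpe (K11.f54057 IH) (Lpr_ef (K12.f54083 IH) (Lpe (K9.f53639 IH) (Lpn (LP (LK LD1_c4 LD2_c4 LD3_c61))))))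
theorem f190972 : Led Lsl_dt (LP (LK LD1_c5 LD2_c15 LD3_c33)) = (LP (LK LD1_c2 LD2_c34 LD3_c37)) :=
  Lre_d IH (LK LD1_c5 LD2_c15 LD3_c33) (LK LD1_c2 LD2_c34 LD3_c37) Lrfl Lrfl
theorem f251603 : Led Lsl_gt (LP (LK LD1_c5 LD2_c8 LD3_c47)) = (LP (LK LD1_c5 LD2_c15 LD3_c33)) :=
  Lgr Lrot137 (Lpe (f191118 IH) (Lpr_dt (f191119 IH) (Lpr_gf (f251596 IH) (Lpe (f168567 IH) (Lpr_et (f168071 IH) (Lpe (f213900 IH) (Lpe (f54085 IH) (Lpr_dt (K9.f47790 IH) (Lpr_gf (K13.f196387 IH) (Lpe (f190972 IH) (Lpn (LP (LK LD1_c5 LD2_c15 LD3_c33)))))))))))))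
theorem f237096 : Led Lsl_et (LP (LK LD1_c10 LD2_c20 LD3_c23)) = (LP (LK LD1_c5 LD2_c15 LD3_c33)) :=
  Lre_e IH (LK LD1_c10 LD2_c20 LD3_c23) (LK LD1_c5 LD2_c15 LD3_c33) Lrfl Lrfl
theorem f32955 : Led Lsl_dt (LP (LK LD1_c1 LD2_c14 LD3_c39)) = (LP (LK LD1_c2 LD2_c35 LD3_c16)) :=
  Lre_d IH (LK LD1_c1 LD2_c14 LD3_c39) (LK LD1_c2 LD2_c35 LD3_c16) Lrfl Lrfl
theorem f171526 : Led Lsl_bt (LP (LK LD1_c2 LD2_c35 LD3_c16)) = (LP (LK LD1_c1 LD2_c57 LD3_c35)) :=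
  Lgr Lrot95 (Lpe (f32955 IH) (Lpr_bf (K10.f171517 IH) (Lpe (K13.f171525 IH) (Lpn (LP (LK LD1_c1 LD2_c57 LD3_c35))))))
theorem f33084 : Led Lsl_ct (LP (LK LD1_c2 LD2_c35 LD3_c16)) = (LP (LK LD1_c5 LD2_c17 LD3_c2)) :=
  Lre_c IH (LK LD1_c2 LD2_c35 LD3_c16) (LK LD1_c5 LD2_c17 LD3_c2) Lrfl Lrfl
theorem f171543 : Led Lsl_ct (LP (LK LD1_c5 LD2_c17 LD3_c2)) = (LP (LK LD1_c2 LD2_c35 LD3_c16)) :=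
  Lre_c IH (LK LD1_c5 LD2_c17 LD3_c2) (LK LD1_c2 LD2_c35 LD3_c16) Lrfl Lrfl
theorem f49890 : Led Lsl_et (LP (LK LD1_c2 LD2_c34 LD3_c39)) = (LP (LK LD1_c1 LD2_c14 LD3_c20)) :=
  Lre_e IH (LK LD1_c2 LD2_c34 LD3_c39) (LK LD1_c1 LD2_c14 LD3_c20) Lrfl Lrfl
theorem f49891 : Led Lsl_dt (LP (LK LD1_c2 LD2_c34 LD3_c39)) = (LP (LK LD1_c5 LD2_c15 LD3_c36)) :=
  Lre_d IH (LK LD1_c2 LD2_c34 LD3_c39) (LK LD1_c5 LD2_c15 LD3_c36) Lrfl Lrfl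
theorem f49895 : Led Lsl_gt (LP (LK LD1_c4 LD2_c7 LD3_c30)) = (LP (LK LD1_c5 LD2_c15 LD3_c36)) :=
  Lgr Lrot139 (Lpe (K13.f45066 IH) (Lpe (K10.f44989 IH) (Lpe (K8.f44965 IH) (Lpr_dt (K1.f44963 IH) (Lpe (K1.f8083 IH) (Lpe (K0.f739 IH) (Lpr_et (K10.f27403 IH) (Lpr_gf (K10.f49854 IH) (Lpe (f49890 IH) (Lpr_dt (f49891 IH) (Lpn (LP (LK LD1_c5 LD2_c15 LD3_c36)))))))))))))
theorem f49907 : Led Lsl_ct (LP (LK LD1_c5 LD2_c15 LD3_c36)) = (LP (LK LD1_c10 LD2_c20 LD3_c29)) :=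
  Lre_c IH (LK LD1_c5 LD2_c15 LD3_c36) (LK LD1_c10 LD2_c20 LD3_c29) Lrfl Lrfl
theorem f191150 : Led Lsl_gf (LP (LK LD1_c5 LD2_c17 LD3_c2)) = (LP (LK LD1_c10 LD2_c20 LD3_c29)) :=
  Lgr Lrot104 (Lpr_ct (f171543 IH) (Lpe (f32955 IH) (Lpe (K10.f190250 IH) (Lpr_gf (K10.f191103 IH) (Lpe (K9.f49612 IH) (Lpe (K10.f53583 IH) (Lpe (K13.f44990 IH) (Lpr_gt (f49895 IH) (Lpr_ct (f49907 IH) (Lpn (LP (LK LD1_c10 LD2_c20 LD3_c29))))))))))))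
theorem f237073 : Led Lsl_bt (LP (LK LD1_c1 LD2_c57 LD3_c48)) = (LP (LK LD1_c4 LD2_c1 LD3_c39)) :=
  Lre_b IH (LK LD1_c1 LD2_c57 LD3_c48) (LK LD1_c4 LD2_c1 LD3_c39) Lrfl Lrfl
theorem f182055 : Led Lsl_gt (LP (LK LD1_c4 LD2_c1 LD3_c39)) = (LP (LK LD1_c8 LD2_c3 LD3_c56)) :=
  Lre_g IH (LK LD1_c4 LD2_c1 LD3_c39) (LK LD1_c8 LD2_c3 LD3_c56) Lrfl Lrfl
theorem f237074 : Led Lsl_bt (LP (LK LD1_c5 LD2_c15 LD3_c36)) = (LP (LK LD1_c8 LD2_c3 LD3_c56)) :=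
  Lgr Lrot92 (Lpr_ct (f49907 IH) (Lpe (f191150 IH) (Lpe (f33084 IH) (Lpr_bt (f171526 IH) (Lpr_gt (K13.f237057 IH) (Lpr_ct (K13.f182005 IH) (Lpe (K13.f237071 IH) (Lpe (K13.f33588 IH) (Lpr_bt (f237073 IH) (Lpr_gt (f182055 IH) (Lpn (LP (LK LD1_c8 LD2_c3 LD3_c56)))))))))))))
theorem f49913 : Led Lsl_et (LP (LK LD1_c10 LD2_c20 LD3_c27)) = (LP (LK LD1_c5 LD2_c15 LD3_c36)) :=
  Lre_e IH (LK LD1_c10 LD2_c20 LD3_c27) (LK LD1_c5 LD2_c15 LD3_c36) Lrfl Lrfl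
theorem f237079 : Led Lsl_et (LP (LK LD1_c8 LD2_c3 LD3_c56)) = (LP (LK LD1_c15 LD2_c11 LD3_c0)) :=
  Lre_e IH (LK LD1_c8 LD2_c3 LD3_c56) (LK LD1_c15 LD2_c11 LD3_c0) Lrfl Lrfl
theorem f237080 : Led Lsl_bf (LP (LK LD1_c10 LD2_c20 LD3_c27)) = (LP (LK LD1_c15 LD2_c11 LD3_c0)) :=
  Lgr Lrot96 (Lpr_et (f49913 IH) (Lpr_bt (f237074 IH) (Lpr_et (f237079 IH) (Lpn (LP (LK LD1_c15 LD2_c11 LD3_c0))))))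
theorem f49914 : Led Lsl_dt (LP (LK LD1_c10 LD2_c20 LD3_c27)) = (LP (LK LD1_c5 LD2_c15 LD3_c35)) :=
  Lre_d IH (LK LD1_c10 LD2_c20 LD3_c27) (LK LD1_c5 LD2_c15 LD3_c35) Lrfl Lrfl
theorem f237085 : Led Lsl_bt (LP (LK LD1_c5 LD2_c15 LD3_c35)) = (LP (LK LD1_c10 LD2_c20 LD3_c23)) :=
  Lre_b IH (LK LD1_c5 LD2_c15 LD3_c35) (LK LD1_c10 LD2_c20 LD3_c23) Lrfl Lrfl
theorem f237086 : Led Lsl_dt (LP (LK LD1_c10 LD2_c20 LD3_c23)) = (LP (LK LD1_c15 LD2_c11 LD3_c0)) :=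
  Lgr Lrot79 (Lpe (f237085 IH) (Lpe (f49914 IH) (Lpr_bf (f237080 IH) (Lpn (LP (LK LD1_c15 LD2_c11 LD3_c0))))))
theorem f237095 : Led Lsl_gt (LP (LK LD1_c15 LD2_c11 LD3_c0)) = (LP (LK LD1_c25 LD2_c0 LD3_c11)) :=
  Lre_g IH (LK LD1_c15 LD2_c11 LD3_c0) (LK LD1_c25 LD2_c0 LD3_c11) Lrfl Lrfl
theorem f168578 : Led Lsl_gt (LP (LK LD1_c9 LD2_c42 LD3_c3)) = (LP (LK LD1_c4 LD2_c55 LD3_c16)) :=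
  Lre_g IH (LK LD1_c9 LD2_c42 LD3_c3) (LK LD1_c4 LD2_c55 LD3_c16) Lrfl Lrfl
theorem f251392 : Led Lsl_et (LP (LK LD1_c17 LD2_c50 LD3_c37)) = (LP (LK LD1_c9 LD2_c42 LD3_c3)) :=
  Lre_e IH (LK LD1_c17 LD2_c50 LD3_c37) (LK LD1_c9 LD2_c42 LD3_c3) Lrfl Lrfl
theorem f251605 : Led Lsl_df (LP (LK LD1_c25 LD2_c0 LD3_c11)) = (LP (LK LD1_c17 LD2_c50 LD3_c37)) :=
  Lgr Lrot168 (Lpe (f237095 IH) (Lpe (f237086 IH) (Lpr_et (f237096 IH) (Lpe (f251603 IH) (Lpe (f191118 IH) (Lpr_dt (f191119 IH) (Lpr_gf (f251596 IH) (Lpe (f168567 IH) (Lpe (f168578 IH) (Lpe (f251392 IH) (Lpn (LP (LK LD1_c17 LD2_c50 LD3_c37)))))))))))))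
theorem f251395 : Led Lsl_et (LP (LK LD1_c9 LD2_c42 LD3_c3)) = (LP (LK LD1_c17 LD2_c50 LD3_c37)) :=
  Lre_e IH (LK LD1_c9 LD2_c42 LD3_c3) (LK LD1_c17 LD2_c50 LD3_c37) Lrfl Lrfl
theorem f168592 : Led Lsl_dt (LP (LK LD1_c17 LD2_c50 LD3_c36)) = (LP (LK LD1_c9 LD2_c42 LD3_c3)) :=
  Lre_d IH (LK LD1_c17 LD2_c50 LD3_c36) (LK LD1_c9 LD2_c42 LD3_c3) Lrfl Lrfl
theorem f43287 : Led Lsl_et (LP (LK LD1_c9 LD2_c40 LD3_c6)) = (LP (LK LD1_c4 LD2_c54 LD3_c19)) :=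
  Lre_e IH (LK LD1_c9 LD2_c40 LD3_c6) (LK LD1_c4 LD2_c54 LD3_c19) Lrfl Lrfl
theorem f43557 : Led Lsl_at (LP (LK LD1_c9 LD2_c39 LD3_c34)) = (LP (LK LD1_c9 LD2_c40 LD3_c6)) :=
  Lgr Lrot80 (Lpe (K9.f43388 IH) (Lpr_af (K12.f43552 IH) (Lpe (f43287 IH) (Lpn (LP (LK LD1_c9 LD2_c40 LD3_c6))))))
theorem f43292 : Led Lsl_gt (LP (LK LD1_c17 LD2_c46 LD3_c60)) = (LP (LK LD1_c9 LD2_c40 LD3_c6)) :=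
  Lre_g IH (LK LD1_c17 LD2_c46 LD3_c60) (LK LD1_c9 LD2_c40 LD3_c6) Lrfl Lrfl
theorem f50056 : Led Lsl_gf (LP (LK LD1_c17 LD2_c46 LD3_c60)) = (LP (LK LD1_c15 LD2_c50 LD3_c51)) :=
  Lgr Lrot47 (Lpr_gt (f43292 IH) (Lpe (f43557 IH) (Lpr_ff (K9.f50048 IH) (Lpn (LP (LK LD1_c15 LD2_c50 LD3_c51))))))
theorem f251390 : Led Lsl_ef (LP (LK LD1_c17 LD2_c46 LD3_c60)) = (LP (LK LD1_c17 LD2_c50 LD3_c36)) :=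
  Lgr Lrot17 (Lpr_gf (f50056 IH) (Lpe (K9.f50055 IH) (Lpr_dt (K9.f50059 IH) (Lpe (K10.f51292 IH) (Lpe (K13.f44464 IH) (Lpr_gf (f247521 IH) (Lpr_ef (f251347 IH) (Lpr_dt (f168573 IH) (Lpe (f168578 IH) (Lpe (f168592 IH) (Lpn (LP (LK LD1_c17 LD2_c50 LD3_c36)))))))))))))
theorem f251393 : Led Lsl_et (LP (LK LD1_c17 LD2_c46 LD3_c60)) = (LP (LK LD1_c17 LD2_c50 LD3_c36)) :=
  Lgr Lrot87 (Lpr_ef (f251390 IH) (Lpn (LP (LK LD1_c17 LD2_c50 LD3_c36))))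
theorem f43293 : Led Lsl_dt (LP (LK LD1_c27 LD2_c33 LD3_c45)) = (LP (LK LD1_c17 LD2_c46 LD3_c60)) :=
  Lre_d IH (LK LD1_c27 LD2_c33 LD3_c45) (LK LD1_c17 LD2_c46 LD3_c60) Lrfl Lrfl
theorem f251609 : Led Lsl_et (LP (LK LD1_c25 LD2_c0 LD3_c11)) = (LP (LK LD1_c27 LD2_c33 LD3_c45)) :=
  Lgr Lrot71 (Lpr_df (f251605 IH) (Lpe (f251395 IH) (Lpe (f168592 IH) (Lpe (f251393 IH) (Lpe (f43293 IH) (Lpn (LP (LK LD1_c27 LD2_c33 LD3_c45))))))))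
theorem f251611 : Led Lsl_ef (LP (LK LD1_c25 LD2_c0 LD3_c11)) = (LP (LK LD1_c27 LD2_c33 LD3_c45)) :=
  Lgr Lrot88 (Lpr_et (f251609 IH) (Lpn (LP (LK LD1_c27 LD2_c33 LD3_c45))))
theorem f43289 : Led Lsl_et (LP (LK LD1_c4 LD2_c54 LD3_c19)) = (LP (LK LD1_c9 LD2_c40 LD3_c6)) :=
  Lre_e IH (LK LD1_c4 LD2_c54 LD3_c19) (LK LD1_c9 LD2_c40 LD3_c6) Lrfl Lrfl
theorem f43290 : Led Lsl_df (LP (LK LD1_c9 LD2_c40 LD3_c6)) = (LP (LK LD1_c9 LD2_c40 LD3_c6)) :=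
  Lgr Lrot70 (Lpr_et (f43287 IH) (Lpr_dt (K9.f43286 IH) (Lpr_et (K12.f43280 IH) (Lpr_dt (K12.f43288 IH) (Lpr_et (f43289 IH) (Lpn (LP (LK LD1_c9 LD2_c40 LD3_c6))))))))
theorem f251613 : Led Lsl_dt (LP (LK LD1_c8 LD2_c3 LD3_c56)) = (LP (LK LD1_c4 LD2_c18 LD3_c56)) :=
  Lgr Lrot56 (Lpr_et (f237079 IH) (Lpr_gt (f237095 IH) (Lpr_ef (f251611 IH) (Lpr_dt (f43293 IH) (Lpr_gt (f43292 IH) (Lpr_df (f43290 IH) (Lpr_et (f43287 IH) (Lpr_gt (K12.f212310 IH) (Lpr_dt (K12.f196334 IH) (Lpr_gt (K12.f230412 IH) (Lpn (LP (LK LD1_c4 LD2_c18 LD3_c56)))))))))))))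
theorem f182057 : Led Lsl_dt (LP (LK LD1_c1 LD2_c57 LD3_c47)) = (LP (LK LD1_c4 LD2_c1 LD3_c39)) :=
  Lre_d IH (LK LD1_c1 LD2_c57 LD3_c47) (LK LD1_c4 LD2_c1 LD3_c39) Lrfl Lrfl
theorem f192982 : Led Lsl_gt (LP (LK LD1_c1 LD2_c9 LD3_c45)) = (LP (LK LD1_c1 LD2_c57 LD3_c47)) :=
  Lgr Lrot164 (Lpr_bf (K1.f31458 IH) (Lpr_ct (K9.f31470 IH) (Lpe (K13.f191759 IH) (Lpe (f182073 IH) (Lpr_gf (K10.f46484 IH) (Lpe (K12.f45811 IH) (Lpe (K1.f27852 IH) (Lpr_gf (K10.f60715 IH) (Lpr_cf (K10.f192959 IH) (Lpr_bt (K10.f184647 IH) (Lpn (LP (LK LD1_c1 LD2_c57 LD3_c47)))))))))))))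
theorem f165336 : Led Lsl_gt (LP (LK LD1_c1 LD2_c11 LD3_c32)) = (LP (LK LD1_c2 LD2_c28 LD3_c40)) :=
  Lre_g IH (LK LD1_c1 LD2_c11 LD3_c32) (LK LD1_c2 LD2_c28 LD3_c40) Lrfl Lrfl
theorem f251621 : Led Lsl_dt (LP (LK LD1_c2 LD2_c28 LD3_c40)) = (LP (LK LD1_c2 LD2_c6 LD3_c43)) :=
  Lgr Lrot105 (Lpe (f165336 IH) (Lpe (K11.f165326 IH) (Lpe (K10.f184877 IH) (Lpe (K9.f31462 IH) (Lpr_gt (f192982 IH) (Lpr_dt (f182057 IH) (Lpr_gt (f182055 IH) (Lpr_dt (f251613 IH) (Lpe (f169336 IH) (Lpn (LP (LK LD1_c2 LD2_c6 LD3_c43))))))))))))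
theorem f251626 : Led Lsl_df (LP (LK LD1_c2 LD2_c28 LD3_c40)) = (LP (LK LD1_c2 LD2_c6 LD3_c43)) :=
  Lgr Lrot38 (Lpr_dt (f251621 IH) (Lpn (LP (LK LD1_c2 LD2_c6 LD3_c43))))
theorem f43301 : Led Lsl_et (LP (LK LD1_c0 LD2_c14 LD3_c28)) = (LP (LK LD1_c0 LD2_c32 LD3_c18)) :=
  Lre_e IH (LK LD1_c0 LD2_c14 LD3_c28) (LK LD1_c0 LD2_c32 LD3_c18) Lrfl Lrfl
theorem f251669 : Led Lsl_ef (LP (LK LD1_c2 LD2_c0 LD3_c26)) = (LP (LK LD1_c2 LD2_c6 LD3_c43)) :=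
  Lgr Lrot114 (Lpr_gt (K10.f54527 IH) (Lpe (K1.f47833 IH) (Lpe (K1.f47799 IH) (Lpe (K1.f41377 IH) (Lpr_df (K1.f43907 IH) (Lpr_et (f43301 IH) (Lpr_gt (K10.f184877 IH) (Lpr_dt (K11.f165326 IH) (Lpr_gt (f165336 IH) (Lpr_df (f251626 IH) (Lpn (LP (LK LD1_c2 LD2_c6 LD3_c43)))))))))))))
theorem f47845 : Led Lsl_at (LP (LK LD1_c0 LD2_c57 LD3_c17)) = (LP (LK LD1_c2 LD2_c0 LD3_c28)) :=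
  Lre_a IH (LK LD1_c0 LD2_c57 LD3_c17) (LK LD1_c2 LD2_c0 LD3_c28) Lrfl Lrfl
theorem f47846 : Led Lsl_at (LP (LK LD1_c2 LD2_c0 LD3_c28)) = (LP (LK LD1_c0 LD2_c57 LD3_c17)) :=
  Lre_a IH (LK LD1_c2 LD2_c0 LD3_c28) (LK LD1_c0 LD2_c57 LD3_c17) Lrfl Lrfl
theorem f47847 : Led Lsl_ef (LP (LK LD1_c0 LD2_c57 LD3_c17)) = (LP (LK LD1_c0 LD2_c57 LD3_c17)) :=
  Lgr Lrot20 (Lpr_at (f47845 IH) (Lpr_et (K1.f47843 IH) (Lpr_at (f47846 IH) (Lpn (LP (LK LD1_c0 LD2_c57 LD3_c17))))))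
theorem f166626 : Led Lsl_gt (LP (LK LD1_c2 LD2_c3 LD3_c60)) = (LP (LK LD1_c0 LD2_c58 LD3_c60)) :=
  Lre_g IH (LK LD1_c2 LD2_c3 LD3_c60) (LK LD1_c0 LD2_c58 LD3_c60) Lrfl Lrfl
theorem f166627 : Led Lsl_et (LP (LK LD1_c4 LD2_c13 LD3_c23)) = (LP (LK LD1_c2 LD2_c3 LD3_c60)) :=
  Lre_e IH (LK LD1_c4 LD2_c13 LD3_c23) (LK LD1_c2 LD2_c3 LD3_c60) Lrfl Lrfl
theorem f222000 : Led Lsl_dt (LP (LK LD1_c4 LD2_c13 LD3_c23)) = (LP (LK LD1_c4 LD2_c6 LD3_c14)) :=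
  Lgr Lrot37 (Lpr_et (f166627 IH) (Lpr_gt (f166626 IH) (Lpr_dt (f166576 IH) (Lpr_gt (K12.f221994 IH) (Lpe (K10.f53809 IH) (Lpr_et (K12.f48011 IH) (Lpr_gt (K1.f45779 IH) (Lpe (K1.f47841 IH) (Lpr_dt (K1.f47938 IH) (Lpr_gt (K10.f55007 IH) (Lpn (LP (LK LD1_c4 LD2_c6 LD3_c14)))))))))))))
theorem f43490 : Led Lsl_af (LP (LK LD1_c4 LD2_c54 LD3_c27)) = (LP (LK LD1_c4 LD2_c54 LD3_c12)) :=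
  Lgr Lrot117 (Lpr_dt (f43416 IH) (Lpr_at (K9.f43467 IH) (Lpr_dt (K9.f43489 IH) (Lpn (LP (LK LD1_c4 LD2_c54 LD3_c12))))))
theorem f43763 : Led Lsl_gt (LP (LK LD1_c9 LD2_c40 LD3_c30)) = (LP (LK LD1_c4 LD2_c54 LD3_c27)) :=
  Lre_g IH (LK LD1_c9 LD2_c40 LD3_c30) (LK LD1_c4 LD2_c54 LD3_c27) Lrfl Lrfl
theorem f43764 : Led Lsl_gf (LP (LK LD1_c9 LD2_c40 LD3_c30)) = (LP (LK LD1_c9 LD2_c39 LD3_c60)) :=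
  Lgr Lrot47 (Lpr_gt (f43763 IH) (Lpr_af (f43490 IH) (Lpe (K9.f43439 IH) (Lpn (LP (LK LD1_c9 LD2_c39 LD3_c60))))))
theorem f184829 : Led Lsl_dt (LP (LK LD1_c1 LD2_c14 LD3_c50)) = (LP (LK LD1_c2 LD2_c35 LD3_c34)) :=
  Lre_d IH (LK LD1_c1 LD2_c14 LD3_c50) (LK LD1_c2 LD2_c35 LD3_c34) Lrfl Lrfl
theorem f184835 : Led Lsl_ct (LP (LK LD1_c5 LD2_c17 LD3_c39)) = (LP (LK LD1_c2 LD2_c35 LD3_c34)) :=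
  Lre_c IH (LK LD1_c5 LD2_c17 LD3_c39) (LK LD1_c2 LD2_c35 LD3_c34) Lrfl Lrfl
theorem f193112 : Led Lsl_dt (LP (LK LD1_c9 LD2_c40 LD3_c30)) = (LP (LK LD1_c5 LD2_c17 LD3_c39)) :=
  Lgr Lrot105 (Lpr_gf (f43764 IH) (Lpe (f43449 IH) (Lpe (f43744 IH) (Lpr_cf (f192986 IH) (Lpe (f46375 IH) (Lpr_dt (K1.f28286 IH) (Lpe (K9.f184826 IH) (Lpr_dt (f184829 IH) (Lpe (f184835 IH) (Lpn (LP (LK LD1_c5 LD2_c17 LD3_c39))))))))))))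
theorem f193117 : Led Lsl_df (LP (LK LD1_c9 LD2_c40 LD3_c30)) = (LP (LK LD1_c5 LD2_c17 LD3_c39)) :=
  Lgr Lrot38 (Lpr_dt (f193112 IH) (Lpn (LP (LK LD1_c5 LD2_c17 LD3_c39))))
theorem f43839 : Led Lsl_dt (LP (LK LD1_c2 LD2_c25 LD3_c3)) = (LP (LK LD1_c1 LD2_c9 LD3_c46)) :=
  Lre_d IH (LK LD1_c2 LD2_c25 LD3_c3) (LK LD1_c1 LD2_c9 LD3_c46) Lrfl Lrfl
theorem f165325 : Led Lsl_dt (LP (LK LD1_c1 LD2_c11 LD3_c32)) = (LP (LK LD1_c0 LD2_c33 LD3_c8)) :=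
  Lre_d IH (LK LD1_c1 LD2_c11 LD3_c32) (LK LD1_c0 LD2_c33 LD3_c8) Lrfl Lrfl
theorem f184881 : Led Lsl_ct (LP (LK LD1_c2 LD2_c28 LD3_c40)) = (LP (LK LD1_c5 LD2_c2 LD3_c4)) :=
  Lre_c IH (LK LD1_c2 LD2_c28 LD3_c40) (LK LD1_c5 LD2_c2 LD3_c4) Lrfl Lrfl
theorem f184882 : Led Lsl_gf (LP (LK LD1_c5 LD2_c17 LD3_c39)) = (LP (LK LD1_c5 LD2_c2 LD3_c4)) :=
  Lgr Lrot104 (Lpr_ct (f184835 IH) (Lpe (f184829 IH) (Lpe (K10.f184868 IH) (Lpr_gf (K10.f43413 IH) (Lpe (K9.f43350 IH) (Lpr_gf (K10.f184875 IH) (Lpe (f165325 IH) (Lpr_gt (f165336 IH) (Lpr_ct (f184881 IH) (Lpn (LP (LK LD1_c5 LD2_c2 LD3_c4))))))))))))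
theorem f193130 : Led Lsl_gf (LP (LK LD1_c2 LD2_c25 LD3_c3)) = (LP (LK LD1_c2 LD2_c28 LD3_c40)) :=
  Lgr Lrot144 (Lpr_dt (f43839 IH) (Lpr_gt (K12.f31527 IH) (Lpr_dt (K10.f41393 IH) (Lpe (K10.f43415 IH) (Lpe (f43416 IH) (Lpe (f43763 IH) (Lpr_df (f193117 IH) (Lpr_gf (f184882 IH) (Lpe (f184881 IH) (Lpn (LP (LK LD1_c2 LD2_c28 LD3_c40))))))))))))
theorem f193138 : Led Lsl_et (LP (LK LD1_c1 LD2_c9 LD3_c46)) = (LP (LK LD1_c2 LD2_c25 LD3_c4)) :=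
  Lre_e IH (LK LD1_c1 LD2_c9 LD3_c46) (LK LD1_c2 LD2_c25 LD3_c4) Lrfl Lrfl
theorem f251677 : Led Lsl_gf (LP (LK LD1_c4 LD2_c13 LD3_c23)) = (LP (LK LD1_c2 LD2_c25 LD3_c4)) :=
  Lgr Lrot138 (Lpr_dt (f222000 IH) (Lpr_gt (K10.f47901 IH) (Lpe (K12.f47883 IH) (Lpe (f47847 IH) (Lpr_gt (K10.f47935 IH) (Lpr_ef (f251669 IH) (Lpe (f251626 IH) (Lpe (f193130 IH) (Lpe (f43833 IH) (Lpr_et (f193138 IH) (Lpn (LP (LK LD1_c2 LD2_c25 LD3_c4)))))))))))))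
theorem f200359 : Led Lsl_et (LP (LK LD1_c2 LD2_c3 LD3_c60)) = (LP (LK LD1_c4 LD2_c13 LD3_c23)) :=
  Lre_e IH (LK LD1_c2 LD2_c3 LD3_c60) (LK LD1_c4 LD2_c13 LD3_c23) Lrfl Lrfl
theorem f171499 : Led Lsl_dt (LP (LK LD1_c0 LD2_c27 LD3_c23)) = (LP (LK LD1_c1 LD2_c0 LD3_c18)) :=
  Lre_d IH (LK LD1_c0 LD2_c27 LD3_c23) (LK LD1_c1 LD2_c0 LD3_c18) Lrfl Lrfl
theorem f171508 : Led Lsl_gt (LP (LK LD1_c2 LD2_c6 LD3_c40)) = (LP (LK LD1_c1 LD2_c0 LD3_c18)) :=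
  Lre_g IH (LK LD1_c2 LD2_c6 LD3_c40) (LK LD1_c1 LD2_c0 LD3_c18) Lrfl Lrfl
theorem f251683 : Led Lsl_dt (LP (LK LD1_c2 LD2_c3 LD3_c60)) = (LP (LK LD1_c2 LD2_c6 LD3_c40)) :=
  Lgr Lrot136 (Lpr_et (f200359 IH) (Lpr_gf (f251677 IH) (Lpe (f193138 IH) (Lpr_dt (f43833 IH) (Lpr_gf (f193130 IH) (Lpr_df (f251626 IH) (Lpe (f31684 IH) (Lpe (K12.f171437 IH) (Lpr_dt (f171499 IH) (Lpe (f171508 IH) (Lpn (LP (LK LD1_c2 LD2_c6 LD3_c40)))))))))))))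
theorem f251687 : Led Lsl_df (LP (LK LD1_c2 LD2_c3 LD3_c60)) = (LP (LK LD1_c2 LD2_c6 LD3_c40)) :=
  Lgr Lrot38 (Lpr_dt (f251683 IH) (Lpn (LP (LK LD1_c2 LD2_c6 LD3_c40))))
theorem f200354 : Led Lsl_bt (LP (LK LD1_c2 LD2_c3 LD3_c60)) = (LP (LK LD1_c4 LD2_c13 LD3_c22)) :=
  Lre_b IH (LK LD1_c2 LD2_c3 LD3_c60) (LK LD1_c4 LD2_c13 LD3_c22) Lrfl Lrfl
theorem f222127 : Led Lsl_dt (LP (LK LD1_c4 LD2_c8 LD3_c13)) = (LP (LK LD1_c8 LD2_c16 LD3_c28)) :=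
  Lre_d IH (LK LD1_c4 LD2_c8 LD3_c13) (LK LD1_c8 LD2_c16 LD3_c28) Lrfl Lrfl
theorem f189101 : Led Lsl_ct (LP (LK LD1_c4 LD2_c8 LD3_c13)) = (LP (LK LD1_c2 LD2_c1 LD3_c28)) :=
  Lre_c IH (LK LD1_c4 LD2_c8 LD3_c13) (LK LD1_c2 LD2_c1 LD3_c28) Lrfl Lrfl
theorem f168370 : Led Lsl_gt (LP (LK LD1_c1 LD2_c17 LD3_c15)) = (LP (LK LD1_c2 LD2_c41 LD3_c3)) :=
  Lre_g IH (LK LD1_c1 LD2_c17 LD3_c15) (LK LD1_c2 LD2_c41 LD3_c3) Lrfl Lrfl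
theorem f168375 : Led Lsl_ct (LP (LK LD1_c2 LD2_c41 LD3_c3)) = (LP (LK LD1_c5 LD2_c29 LD3_c33)) :=
  Lre_c IH (LK LD1_c2 LD2_c41 LD3_c3) (LK LD1_c5 LD2_c29 LD3_c33) Lrfl Lrfl
theorem f213769 : Led Lsl_gf (LP (LK LD1_c4 LD2_c8 LD3_c13)) = (LP (LK LD1_c5 LD2_c29 LD3_c33)) :=
  Lgr Lrot104 (Lpr_ct (f189101 IH) (Lpe (K12.f774 IH) (Lpe (K12.f47722 IH) (Lpe (K12.f189685 IH) (Lpr_cf (K10.f44933 IH) (Lpr_gf (K12.f213765 IH) (Lpe (K12.f168351 IH) (Lpr_gt (f168370 IH) (Lpr_ct (f168375 IH) (Lpn (LP (LK LD1_c5 LD2_c29 LD3_c33))))))))))))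
theorem f216857 : Led Lsl_ct (LP (LK LD1_c5 LD2_c29 LD3_c33)) = (LP (LK LD1_c2 LD2_c41 LD3_c3)) :=
  Lre_c IH (LK LD1_c5 LD2_c29 LD3_c33) (LK LD1_c2 LD2_c41 LD3_c3) Lrfl Lrfl
theorem f234655 : Led Lsl_gt (LP (LK LD1_c2 LD2_c41 LD3_c3)) = (LP (LK LD1_c4 LD2_c2 LD3_c43)) :=
  Lgr Lrot94 (Lpe (f216857 IH) (Lpe (f213769 IH) (Lpr_dt (f222127 IH) (Lpr_gt (f234651 IH) (Lpr_dt (K13.f213052 IH) (Lpe (K13.f212871 IH) (Lpe (K12.f212843 IH) (Lpr_gf (K12.f212779 IH) (Lpe (K12.f219939 IH) (Lpn (LP (LK LD1_c4 LD2_c2 LD3_c43))))))))))))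
theorem f219951 : Led Lsl_ct (LP (LK LD1_c4 LD2_c2 LD3_c43)) = (LP (LK LD1_c8 LD2_c6 LD3_c1)) :=
  Lre_c IH (LK LD1_c4 LD2_c2 LD3_c43) (LK LD1_c8 LD2_c6 LD3_c1) Lrfl Lrfl
theorem f234675 : Led Lsl_gf (LP (LK LD1_c5 LD2_c29 LD3_c33)) = (LP (LK LD1_c4 LD2_c8 LD3_c15)) :=
  Lgr Lrot147 (Lpr_ct (f216857 IH) (Lpr_gt (f234655 IH) (Lpr_ct (f219951 IH) (Lpe (K12.f219949 IH) (Lpr_cf (K12.f216982 IH) (Lpe (K12.f216963 IH) (Lpe (K13.f217126 IH) (Lpe (K12.f222970 IH) (Lpe (K12.f222258 IH) (Lpn (LP (LK LD1_c4 LD2_c8 LD3_c15))))))))))))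
theorem f250727 : Led Lsl_bt (LP (LK LD1_c2 LD2_c41 LD3_c3)) = (LP (LK LD1_c2 LD2_c6 LD3_c40)) :=
  Lgr Lrot22 (Lpr_ct (f168375 IH) (Lpr_gf (f234675 IH) (Lpe (f51616 IH) (Lpr_gf (f250722 IH) (Lpe (K12.f167637 IH) (Lpr_ct (K12.f53388 IH) (Lpe (K13.f237792 IH) (Lpe (K13.f171192 IH) (Lpr_bt (K13.f179601 IH) (Lpe (f171508 IH) (Lpn (LP (LK LD1_c2 LD2_c6 LD3_c40)))))))))))))
theorem f251717 : Led Lsl_dt (LP (LK LD1_c4 LD2_c13 LD3_c22)) = (LP (LK LD1_c2 LD2_c41 LD3_c3)) :=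
  Lgr Lrot79 (Lpe (f200354 IH) (Lpr_df (f251687 IH) (Lpe (f250727 IH) (Lpn (LP (LK LD1_c2 LD2_c41 LD3_c3))))))
theorem f190858 : Led Lsl_gt (LP (LK LD1_c4 LD2_c9 LD3_c24)) = (LP (LK LD1_c8 LD2_c18 LD3_c52)) :=
  Lre_g IH (LK LD1_c4 LD2_c9 LD3_c24) (LK LD1_c8 LD2_c18 LD3_c52) Lrfl Lrfl
theorem f251723 : Led Lsl_cf (LP (LK LD1_c4 LD2_c13 LD3_c22)) = (LP (LK LD1_c8 LD2_c18 LD3_c52)) :=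
  Lgr Lrot175 (Lpr_dt (f251717 IH) (Lpe (f216857 IH) (Lpr_gf (f234675 IH) (Lpe (f51616 IH) (Lpr_gf (f250722 IH) (Lpr_dt (f167639 IH) (Lpr_gt (K13.f236241 IH) (Lpr_ct (K13.f53147 IH) (Lpr_gt (f190858 IH) (Lpn (LP (LK LD1_c8 LD2_c18 LD3_c52))))))))))))
theorem f166989 : Led Lsl_bt (LP (LK LD1_c4 LD2_c13 LD3_c22)) = (LP (LK LD1_c2 LD2_c3 LD3_c60)) :=
  Lre_b IH (LK LD1_c4 LD2_c13 LD3_c22) (LK LD1_c2 LD2_c3 LD3_c60) Lrfl Lrfl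
theorem f200145 : Led Lsl_et (LP (LK LD1_c0 LD2_c33 LD3_c60)) = (LP (LK LD1_c1 LD2_c9 LD3_c11)) :=
  Lgr Lrot87 (Lpr_ef (K11.f200138 IH) (Lpn (LP (LK LD1_c1 LD2_c9 LD3_c11))))
theorem f200147 : Led Lsl_cf (LP (LK LD1_c0 LD2_c58 LD3_c60)) = (LP (LK LD1_c1 LD2_c9 LD3_c11)) :=
  Lgr Lrot39 (Lpe (K11.f166613 IH) (Lpr_ct (K10.f192115 IH) (Lpr_et (f200145 IH) (Lpn (LP (LK LD1_c1 LD2_c9 LD3_c11))))))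
theorem f53155 : Led Lsl_ct (LP (LK LD1_c0 LD2_c26 LD3_c39)) = (LP (LK LD1_c0 LD2_c11 LD3_c49)) :=
  Lre_c IH (LK LD1_c0 LD2_c26 LD3_c39) (LK LD1_c0 LD2_c11 LD3_c49) Lrfl Lrfl
theorem f53332 : Led Lsl_bt (LP (LK LD1_c0 LD2_c26 LD3_c39)) = (LP (LK LD1_c0 LD2_c58 LD3_c50)) :=
  Lre_b IH (LK LD1_c0 LD2_c26 LD3_c39) (LK LD1_c0 LD2_c58 LD3_c50) Lrfl Lrfl
theorem f53333 : Led Lsl_gt (LP (LK LD1_c0 LD2_c58 LD3_c50)) = (LP (LK LD1_c2 LD2_c3 LD3_c42)) :=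
  Lre_g IH (LK LD1_c0 LD2_c58 LD3_c50) (LK LD1_c2 LD2_c3 LD3_c42) Lrfl Lrfl
theorem f53334 : Led Lsl_bt (LP (LK LD1_c4 LD2_c12 LD3_c53)) = (LP (LK LD1_c2 LD2_c3 LD3_c42)) :=
  Lre_b IH (LK LD1_c4 LD2_c12 LD3_c53) (LK LD1_c2 LD2_c3 LD3_c42) Lrfl Lrfl
theorem f200352 : Led Lsl_cf (LP (LK LD1_c2 LD2_c3 LD3_c60)) = (LP (LK LD1_c4 LD2_c12 LD3_c53)) :=
  Lgr Lrot160 (Lpr_gt (f166626 IH) (Lpr_cf (f200147 IH) (Lpr_bt (K11.f170626 IH) (Lpe (K9.f178282 IH) (Lpe (K9.f167764 IH) (Lpr_gt (K9.f53321 IH) (Lpe (f53155 IH) (Lpr_bt (f53332 IH) (Lpr_gt (f53333 IH) (Lpe (f53334 IH) (Lpn (LP (LK LD1_c4 LD2_c12 LD3_c53)))))))))))))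
theorem f200357 : Led Lsl_ct (LP (LK LD1_c2 LD2_c3 LD3_c60)) = (LP (LK LD1_c4 LD2_c12 LD3_c53)) :=
  Lgr Lrot59 (Lpr_cf (f200352 IH) (Lpn (LP (LK LD1_c4 LD2_c12 LD3_c53))))
theorem f53337 : Led Lsl_ct (LP (LK LD1_c2 LD2_c3 LD3_c42)) = (LP (LK LD1_c4 LD2_c12 LD3_c54)) :=
  Lre_c IH (LK LD1_c2 LD2_c3 LD3_c42) (LK LD1_c4 LD2_c12 LD3_c54) Lrfl Lrfl
theorem f251725 : Led Lsl_bt (LP (LK LD1_c4 LD2_c12 LD3_c54)) = (LP (LK LD1_c8 LD2_c18 LD3_c52)) :=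
  Lgr Lrot128 (Lpe (f53337 IH) (Lpe (f53334 IH) (Lpe (f200357 IH) (Lpe (f166989 IH) (Lpr_cf (f251723 IH) (Lpn (LP (LK LD1_c8 LD2_c18 LD3_c52))))))))
theorem f200356 : Led Lsl_ct (LP (LK LD1_c4 LD2_c12 LD3_c54)) = (LP (LK LD1_c2 LD2_c3 LD3_c42)) :=
  Lre_c IH (LK LD1_c4 LD2_c12 LD3_c54) (LK LD1_c2 LD2_c3 LD3_c42) Lrfl Lrfl
theorem f180057 : Led Lsl_ct (LP (LK LD1_c2 LD2_c3 LD3_c14)) = (LP (LK LD1_c0 LD2_c58 LD3_c50)) :=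
  Lre_c IH (LK LD1_c2 LD2_c3 LD3_c14) (LK LD1_c0 LD2_c58 LD3_c50) Lrfl Lrfl
theorem f211275 : Led Lsl_bt (LP (LK LD1_c2 LD2_c3 LD3_c14)) = (LP (LK LD1_c0 LD2_c58 LD3_c32)) :=
  Lre_b IH (LK LD1_c2 LD2_c3 LD3_c14) (LK LD1_c0 LD2_c58 LD3_c32) Lrfl Lrfl
theorem f197625 : Led Lsl_bt (LP (LK LD1_c2 LD2_c5 LD3_c5)) = (LP (LK LD1_c1 LD2_c55 LD3_c16)) :=
  Lgr Lrot128 (Lpr_cf (f197623 IH) (Lpe (K13.f167750 IH) (Lpe (K13.f167762 IH) (Lpe (K11.f6801 IH) (Lpe (K11.f173353 IH) (Lpn (LP (LK LD1_c1 LD2_c55 LD3_c16))))))))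
theorem f243605 : Led Lsl_ft (LP (LK LD1_c1 LD2_c16 LD3_c50)) = (LP (LK LD1_c2 LD2_c40 LD3_c10)) :=
  Lre_f IH (LK LD1_c1 LD2_c16 LD3_c50) (LK LD1_c2 LD2_c40 LD3_c10) Lrfl Lrfl
theorem f243604 : Led Lsl_et (LP (LK LD1_c0 LD2_c35 LD3_c33)) = (LP (LK LD1_c1 LD2_c16 LD3_c50)) :=
  Lre_e IH (LK LD1_c0 LD2_c35 LD3_c33) (LK LD1_c1 LD2_c16 LD3_c50) Lrfl Lrfl
theorem f246279 : Led Lsl_ff (LP (LK LD1_c2 LD2_c5 LD3_c21)) = (LP (LK LD1_c4 LD2_c9 LD3_c23)) :=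
  Lgr Lrot72 (Lpr_et (K13.f236407 IH) (Lpe (K13.f243597 IH) (Lpr_et (f243604 IH) (Lpr_ft (f243605 IH) (Lpr_et (K13.f246277 IH) (Lpn (LP (LK LD1_c4 LD2_c9 LD3_c23))))))))
theorem f236401 : Led Lsl_at (LP (LK LD1_c2 LD2_c5 LD3_c21)) = (LP (LK LD1_c1 LD2_c2 LD3_c51)) :=
  Lgr Lrot100 (Lpr_af (K13.f236399 IH) (Lpn (LP (LK LD1_c1 LD2_c2 LD3_c51))))
theorem f246283 : Led Lsl_gt (LP (LK LD1_c2 LD2_c2 LD3_c4)) = (LP (LK LD1_c1 LD2_c2 LD3_c51)) :=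
  Lgr Lrot46 (Lpr_gf (K13.f246281 IH) (Lpe (f246279 IH) (Lpr_at (f236401 IH) (Lpn (LP (LK LD1_c1 LD2_c2 LD3_c51))))))
theorem f251746 : Led Lsl_gf (LP (LK LD1_c4 LD2_c9 LD3_c35)) = (LP (LK LD1_c8 LD2_c18 LD3_c52)) :=
  Lgr Lrot181 (Lpr_ct (f222908 IH) (Lpr_gt (f246283 IH) (Lpr_cf (K13.f187236 IH) (Lpr_bt (f197625 IH) (Lpr_gt (K13.f224984 IH) (Lpe (f211275 IH) (Lpr_ct (f180057 IH) (Lpr_gt (f53333 IH) (Lpe (f200356 IH) (Lpr_bt (f251725 IH) (Lpn (LP (LK LD1_c8 LD2_c18 LD3_c52)))))))))))))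
theorem f236250 : Led Lsl_ct (LP (LK LD1_c4 LD2_c13 LD3_c22)) = (LP (LK LD1_c8 LD2_c18 LD3_c52)) :=
  Lgr Lrot63 (Lpr_bt (f166989 IH) (Lpr_gt (f166626 IH) (Lpe (K11.f51583 IH) (Lpr_ct (K13.f51578 IH) (Lpe (K13.f179531 IH) (Lpr_cf (K9.f167764 IH) (Lpr_bt (K13.f167750 IH) (Lpr_gt (K13.f236241 IH) (Lpr_ct (K13.f53147 IH) (Lpr_gt (f190858 IH) (Lpn (LP (LK LD1_c8 LD2_c18 LD3_c52)))))))))))))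
theorem f251719 : Led Lsl_gf (LP (LK LD1_c4 LD2_c13 LD3_c22)) = (LP (LK LD1_c2 LD2_c45 LD3_c37)) :=
  Lgr Lrot144 (Lpr_dt (f251717 IH) (Lpr_gt (f234655 IH) (Lpr_dt (K12.f219939 IH) (Lpe (K12.f212778 IH) (Lpe (K13.f51400 IH) (Lpe (K13.f233927 IH) (Lpe (K12.f216970 IH) (Lpr_gf (K13.f234168 IH) (Lpe (K13.f234170 IH) (Lpn (LP (LK LD1_c2 LD2_c45 LD3_c37))))))))))))
theorem f170335 : Led Lsl_bt (LP (LK LD1_c1 LD2_c9 LD3_c18)) = (LP (LK LD1_c2 LD2_c24 LD3_c17)) :=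
  Lre_b IH (LK LD1_c1 LD2_c9 LD3_c18) (LK LD1_c2 LD2_c24 LD3_c17) Lrfl Lrfl
theorem f200401 : Led Lsl_df (LP (LK LD1_c2 LD2_c45 LD3_c37)) = (LP (LK LD1_c2 LD2_c24 LD3_c17)) :=
  Lgr Lrot12 (Lpr_bt (K13.f179105 IH) (Lpr_dt (K12.f200399 IH) (Lpr_bt (f170335 IH) (Lpn (LP (LK LD1_c2 LD2_c24 LD3_c17))))))
theorem f251750 : Led Lsl_gf (LP (LK LD1_c4 LD2_c12 LD3_c55)) = (LP (LK LD1_c2 LD2_c24 LD3_c17)) :=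
  Lgr Lrot147 (Lpr_ct (K12.f167242 IH) (Lpr_gt (f222906 IH) (Lpr_ct (K12.f222785 IH) (Lpe (K13.f51459 IH) (Lpe (f222908 IH) (Lpr_gf (f251746 IH) (Lpe (f236250 IH) (Lpr_gf (f251719 IH) (Lpr_df (f200401 IH) (Lpn (LP (LK LD1_c2 LD2_c24 LD3_c17))))))))))))
theorem f222208 : Led Lsl_dt (LP (LK LD1_c4 LD2_c12 LD3_c55)) = (LP (LK LD1_c2 LD2_c3 LD3_c44)) :=
  Lre_d IH (LK LD1_c4 LD2_c12 LD3_c55) (LK LD1_c2 LD2_c3 LD3_c44) Lrfl Lrfl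
theorem f190856 : Led Lsl_dt (LP (LK LD1_c4 LD2_c9 LD3_c24)) = (LP (LK LD1_c5 LD2_c0 LD3_c35)) :=
  Lgr Lrot42 (Lpr_df (K13.f190820 IH) (Lpn (LP (LK LD1_c5 LD2_c0 LD3_c35))))
theorem f167364 : Led Lsl_ct (LP (LK LD1_c4 LD2_c14 LD3_c5)) = (LP (LK LD1_c2 LD2_c4 LD3_c27)) :=
  Lre_c IH (LK LD1_c4 LD2_c14 LD3_c5) (LK LD1_c2 LD2_c4 LD3_c27) Lrfl Lrfl
theorem f251756 : Led Lsl_gf (LP (LK LD1_c4 LD2_c9 LD3_c24)) = (LP (LK LD1_c4 LD2_c14 LD3_c5)) :=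
  Lgr Lrot144 (Lpr_dt (f190856 IH) (Lpe (K13.f222461 IH) (Lpr_dt (K12.f222221 IH) (Lpe (K12.f222218 IH) (Lpe (f222208 IH) (Lpr_gf (f251750 IH) (Lpe (K13.f200568 IH) (Lpr_gf (K13.f234176 IH) (Lpe (f167364 IH) (Lpn (LP (LK LD1_c4 LD2_c14 LD3_c5))))))))))))
theorem f190828 : Led Lsl_et (LP (LK LD1_c2 LD2_c1 LD3_c55)) = (LP (LK LD1_c0 LD2_c57 LD3_c56)) :=
  Lre_e IH (LK LD1_c2 LD2_c1 LD3_c55) (LK LD1_c0 LD2_c57 LD3_c56) Lrfl Lrfl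
theorem f190829 : Led Lsl_dt (LP (LK LD1_c2 LD2_c1 LD3_c55)) = (LP (LK LD1_c4 LD2_c9 LD3_c5)) :=
  Lre_d IH (LK LD1_c2 LD2_c1 LD3_c55) (LK LD1_c4 LD2_c9 LD3_c5) Lrfl Lrfl
theorem f167420 : Led Lsl_dt (LP (LK LD1_c2 LD2_c4 LD3_c25)) = (LP (LK LD1_c4 LD2_c14 LD3_c4)) :=
  Lre_d IH (LK LD1_c2 LD2_c4 LD3_c25) (LK LD1_c4 LD2_c14 LD3_c4) Lrfl Lrfl
theorem f251780 : Led Lsl_gt (LP (LK LD1_c4 LD2_c9 LD3_c5)) = (LP (LK LD1_c4 LD2_c14 LD3_c4)) :=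
  Lgr Lrot112 (Lpe (f190829 IH) (Lpr_et (f190828 IH) (Lpe (K13.f222224 IH) (Lpr_ef (K12.f222230 IH) (Lpr_dt (K13.f199616 IH) (Lpr_gf (K13.f222461 IH) (Lpe (f190856 IH) (Lpr_gf (f251756 IH) (Lpe (K13.f167368 IH) (Lpr_dt (f167420 IH) (Lpn (LP (LK LD1_c4 LD2_c14 LD3_c4)))))))))))))
theorem f229498 : Led Lsl_dt (LP (LK LD1_c1 LD2_c55 LD3_c21)) = (LP (LK LD1_c3 LD2_c57 LD3_c12)) :=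
  Lre_d IH (LK LD1_c1 LD2_c55 LD3_c21) (LK LD1_c3 LD2_c57 LD3_c12) Lrfl Lrfl
theorem f229499 : Led Lsl_gt (LP (LK LD1_c3 LD2_c57 LD3_c12)) = (LP (LK LD1_c7 LD2_c56 LD3_c5)) :=
  Lre_g IH (LK LD1_c3 LD2_c57 LD3_c12) (LK LD1_c7 LD2_c56 LD3_c5) Lrfl Lrfl
theorem f220748 : Led Lsl_et (LP (LK LD1_c4 LD2_c9 LD3_c1)) = (LP (LK LD1_c2 LD2_c1 LD3_c53)) :=
  Lre_e IH (LK LD1_c4 LD2_c9 LD3_c1) (LK LD1_c2 LD2_c1 LD3_c53) Lrfl Lrfl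
theorem f229500 : Led Lsl_df (LP (LK LD1_c7 LD2_c56 LD3_c5)) = (LP (LK LD1_c4 LD2_c9 LD3_c1)) :=
  Lgr Lrot132 (Lpe (f229499 IH) (Lpe (f229498 IH) (Lpr_gf (K12.f229485 IH) (Lpe (K12.f44504 IH) (Lpe (K8.f47502 IH) (Lpr_gf (K12.f45788 IH) (Lpe (K10.f43268 IH) (Lpr_et (K9.f27767 IH) (Lpr_gf (K12.f220738 IH) (Lpe (f220748 IH) (Lpn (LP (LK LD1_c4 LD2_c9 LD3_c1)))))))))))))
theorem f229577 : Led Lsl_bt (LP (LK LD1_c2 LD2_c1 LD3_c55)) = (LP (LK LD1_c4 LD2_c9 LD3_c1)) :=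
  Lre_b IH (LK LD1_c2 LD2_c1 LD3_c55) (LK LD1_c4 LD2_c9 LD3_c1) Lrfl Lrfl
theorem f190834 : Led Lsl_dt (LP (LK LD1_c4 LD2_c9 LD3_c5)) = (LP (LK LD1_c2 LD2_c1 LD3_c55)) :=
  Lre_d IH (LK LD1_c4 LD2_c9 LD3_c5) (LK LD1_c2 LD2_c1 LD3_c55) Lrfl Lrfl
theorem f229578 : Led Lsl_bt (LP (LK LD1_c7 LD2_c56 LD3_c5)) = (LP (LK LD1_c4 LD2_c9 LD3_c5)) :=
  Lgr Lrot95 (Lpr_df (f229500 IH) (Lpe (f229577 IH) (Lpe (f190834 IH) (Lpn (LP (LK LD1_c4 LD2_c9 LD3_c5))))))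
theorem f167766 : Led Lsl_bt (LP (LK LD1_c0 LD2_c59 LD3_c52)) = (LP (LK LD1_c0 LD2_c27 LD3_c14)) :=
  Lre_b IH (LK LD1_c0 LD2_c59 LD3_c52) (LK LD1_c0 LD2_c27 LD3_c14) Lrfl Lrfl
theorem f184240 : Led Lsl_ct (LP (LK LD1_c0 LD2_c59 LD3_c52)) = (LP (LK LD1_c2 LD2_c5 LD3_c43)) :=
  Lre_c IH (LK LD1_c0 LD2_c59 LD3_c52) (LK LD1_c2 LD2_c5 LD3_c43) Lrfl Lrfl
theorem f170261 : Led Lsl_gt (LP (LK LD1_c2 LD2_c5 LD3_c43)) = (LP (LK LD1_c4 LD2_c16 LD3_c51)) :=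
  Lre_g IH (LK LD1_c2 LD2_c5 LD3_c43) (LK LD1_c4 LD2_c16 LD3_c51) Lrfl Lrfl
theorem f251788 : Led Lsl_ct (LP (LK LD1_c7 LD2_c56 LD3_c5)) = (LP (LK LD1_c4 LD2_c16 LD3_c51)) :=
  Lgr Lrot10 (Lpr_bt (f229578 IH) (Lpr_gt (f251780 IH) (Lpr_ct (K13.f167371 IH) (Lpe (K13.f243500 IH) (Lpe (K13.f243265 IH) (Lpr_bt (K13.f243263 IH) (Lpr_gt (K9.f53385 IH) (Lpe (f167766 IH) (Lpr_ct (f184240 IH) (Lpr_gt (f170261 IH) (Lpn (LP (LK LD1_c4 LD2_c16 LD3_c51)))))))))))))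
theorem f169423 : Led Lsl_gt (LP (LK LD1_c2 LD2_c5 LD3_c42)) = (LP (LK LD1_c0 LD2_c59 LD3_c52)) :=
  Lre_g IH (LK LD1_c2 LD2_c5 LD3_c42) (LK LD1_c0 LD2_c59 LD3_c52) Lrfl Lrfl
theorem f178390 : Led Lsl_bt (LP (LK LD1_c4 LD2_c16 LD3_c48)) = (LP (LK LD1_c2 LD2_c5 LD3_c42)) :=
  Lre_b IH (LK LD1_c4 LD2_c16 LD3_c48) (LK LD1_c2 LD2_c5 LD3_c42) Lrfl Lrfl
theorem f178391 : Led Lsl_ct (LP (LK LD1_c4 LD2_c16 LD3_c48)) = (LP (LK LD1_c8 LD2_c32 LD3_c57)) :=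
  Lre_c IH (LK LD1_c4 LD2_c16 LD3_c48) (LK LD1_c8 LD2_c32 LD3_c57) Lrfl Lrfl
theorem f251790 : Led Lsl_gf (LP (LK LD1_c8 LD2_c32 LD3_c57)) = (LP (LK LD1_c4 LD2_c50 LD3_c51)) :=
  Lgr Lrot126 (Lpe (f178391 IH) (Lpr_bt (f178390 IH) (Lpr_gt (f169423 IH) (Lpr_ct (f184240 IH) (Lpr_gt (f170261 IH) (Lpe (f251788 IH) (Lpr_bt (f229578 IH) (Lpr_gt (f251780 IH) (Lpr_bf (K13.f167322 IH) (Lpr_ct (K13.f288 IH) (Lpn (LP (LK LD1_c4 LD2_c50 LD3_c51)))))))))))))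
theorem f251815 : Led Lsl_ct (LP (LK LD1_c8 LD2_c32 LD3_c57)) = (LP (LK LD1_c4 LD2_c16 LD3_c48)) :=
  Lre_c IH (LK LD1_c8 LD2_c32 LD3_c57) (LK LD1_c4 LD2_c16 LD3_c48) Lrfl Lrfl
theorem f232524 : Led Lsl_dt (LP (LK LD1_c4 LD2_c51 LD3_c5)) = (LP (LK LD1_c4 LD2_c51 LD3_c60)) :=
  Lgr Lrot42 (Lpr_df (K13.f232517 IH) (Lpn (LP (LK LD1_c4 LD2_c51 LD3_c60))))
theorem f251816 : Led Lsl_gt (LP (LK LD1_c4 LD2_c16 LD3_c48)) = (LP (LK LD1_c2 LD2_c23 LD3_c22)) :=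
  Lgr Lrot150 (Lpe (f251815 IH) (Lpr_gf (f251790 IH) (Lpe (K13.f167381 IH) (Lpe (K13.f232998 IH) (Lpr_ct (K13.f232982 IH) (Lpe (K13.f233152 IH) (Lpe (K13.f233154 IH) (Lpe (f232524 IH) (Lpe (f186922 IH) (Lpn (LP (LK LD1_c2 LD2_c23 LD3_c22))))))))))))
theorem f251826 : Led Lsl_gt (LP (LK LD1_c8 LD2_c32 LD3_c57)) = (LP (LK LD1_c4 LD2_c50 LD3_c49)) :=
  Lgr Lrot94 (Lpe (f178391 IH) (Lpr_gt (f251816 IH) (Lpr_dt (K13.f2108 IH) (Lpr_gt (K10.f186920 IH) (Lpr_dt (K1.f29137 IH) (Lpe (K13.f29141 IH) (Lpe (K13.f39065 IH) (Lpe (K13.f233012 IH) (Lpe (K13.f167339 IH) (Lpn (LP (LK LD1_c4 LD2_c50 LD3_c49))))))))))))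
theorem f184404 : Led Lsl_bt (LP (LK LD1_c2 LD2_c23 LD3_c12)) = (LP (LK LD1_c4 LD2_c50 LD3_c47)) :=
  Lre_b IH (LK LD1_c2 LD2_c23 LD3_c12) (LK LD1_c4 LD2_c50 LD3_c47) Lrfl Lrfl
theorem f251867 : Led Lsl_gf (LP (LK LD1_c4 LD2_c16 LD3_c48)) = (LP (LK LD1_c2 LD2_c23 LD3_c32)) :=
  Lgr Lrot147 (Lpr_ct (f178391 IH) (Lpr_gt (f251826 IH) (Lpr_ct (K13.f167345 IH) (Lpe (K13.f1734 IH) (Lpe (K12.f167329 IH) (Lpr_gf (K12.f228930 IH) (Lpr_cf (K0.f29121 IH) (Lpe (K12.f228938 IH) (Lpe (K13.f2082 IH) (Lpn (LP (LK LD1_c2 LD2_c23 LD3_c32))))))))))))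
theorem f171179 : Led Lsl_bt (LP (LK LD1_c2 LD2_c1 LD3_c30)) = (LP (LK LD1_c2 LD2_c23 LD3_c32)) :=
  Lgr Lrot95 (Lpe (K12.f50153 IH) (Lpr_bf (K9.f171175 IH) (Lpe (K13.f2082 IH) (Lpn (LP (LK LD1_c2 LD2_c23 LD3_c32))))))
theorem f220350 : Led Lsl_bt (LP (LK LD1_c2 LD2_c41 LD3_c4)) = (LP (LK LD1_c5 LD2_c29 LD3_c35)) :=
  Lre_b IH (LK LD1_c2 LD2_c41 LD3_c4) (LK LD1_c5 LD2_c29 LD3_c35) Lrfl Lrfl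
theorem f251872 : Led Lsl_gf (LP (LK LD1_c5 LD2_c29 LD3_c35)) = (LP (LK LD1_c4 LD2_c50 LD3_c47)) :=
  Lgr Lrot124 (Lpe (f220350 IH) (Lpr_ct (K12.f213768 IH) (Lpe (K12.f222972 IH) (Lpe (f51616 IH) (Lpr_bt (f171179 IH) (Lpe (f251867 IH) (Lpr_ct (f178391 IH) (Lpr_gt (f251826 IH) (Lpe (K13.f30824 IH) (Lpr_bt (f184404 IH) (Lpn (LP (LK LD1_c4 LD2_c50 LD3_c47)))))))))))))
theorem f178505 : Led Lsl_ct (LP (LK LD1_c0 LD2_c58 LD3_c4)) = (LP (LK LD1_c2 LD2_c2 LD3_c20)) :=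
  Lre_c IH (LK LD1_c0 LD2_c58 LD3_c4) (LK LD1_c2 LD2_c2 LD3_c20) Lrfl Lrfl
theorem f171011 : Led Lsl_gt (LP (LK LD1_c2 LD2_c2 LD3_c20)) = (LP (LK LD1_c4 LD2_c10 LD3_c15)) :=
  Lre_g IH (LK LD1_c2 LD2_c2 LD3_c20) (LK LD1_c4 LD2_c10 LD3_c15) Lrfl Lrfl
theorem f168374 : Led Lsl_bt (LP (LK LD1_c5 LD2_c29 LD3_c35)) = (LP (LK LD1_c2 LD2_c41 LD3_c4)) :=
  Lre_b IH (LK LD1_c5 LD2_c29 LD3_c35) (LK LD1_c2 LD2_c41 LD3_c4) Lrfl Lrfl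
theorem f220347 : Led Lsl_cf (LP (LK LD1_c4 LD2_c10 LD3_c15)) = (LP (LK LD1_c5 LD2_c29 LD3_c35)) :=
  Lgr Lrot58 (Lpe (f171011 IH) (Lpe (f178505 IH) (Lpr_bt (K12.f178500 IH) (Lpe (K9.f53440 IH) (Lpe (K12.f220058 IH) (Lpr_ct (K12.f220038 IH) (Lpr_gf (K12.f220338 IH) (Lpe (K12.f168361 IH) (Lpe (K12.f168373 IH) (Lpe (f168374 IH) (Lpn (LP (LK LD1_c5 LD2_c29 LD3_c35)))))))))))))
theorem f231121 : Led Lsl_at (LP (LK LD1_c2 LD2_c6 LD3_c1)) = (LP (LK LD1_c4 LD2_c17 LD3_c14)) :=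
  Lre_a IH (LK LD1_c2 LD2_c6 LD3_c1) (LK LD1_c4 LD2_c17 LD3_c14) Lrfl Lrfl
theorem f231134 : Led Lsl_gf (LP (LK LD1_c4 LD2_c17 LD3_c14)) = (LP (LK LD1_c4 LD2_c10 LD3_c15)) :=
  Lgr Lrot76 (Lpe (f231121 IH) (Lpr_ff (K12.f231104 IH) (Lpr_gt (f171011 IH) (Lpn (LP (LK LD1_c4 LD2_c10 LD3_c15))))))
theorem f231136 : Led Lsl_ct (LP (LK LD1_c2 LD2_c5 LD3_c59)) = (LP (LK LD1_c4 LD2_c17 LD3_c14)) :=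
  Lre_c IH (LK LD1_c2 LD2_c5 LD3_c59) (LK LD1_c4 LD2_c17 LD3_c14) Lrfl Lrfl
theorem f231041 : Led Lsl_at (LP (LK LD1_c1 LD2_c0 LD3_c0)) = (LP (LK LD1_c2 LD2_c5 LD3_c59)) :=
  Lre_a IH (LK LD1_c1 LD2_c0 LD3_c0) (LK LD1_c2 LD2_c5 LD3_c59) Lrfl Lrfl
theorem f167083 : Led Lsl_bt (LP (LK LD1_c0 LD2_c58 LD3_c13)) = (LP (LK LD1_c0 LD2_c26 LD3_c26)) :=
  Lre_b IH (LK LD1_c0 LD2_c58 LD3_c13) (LK LD1_c0 LD2_c26 LD3_c26) Lrfl Lrfl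
theorem f231042 : Led Lsl_at (LP (LK LD1_c2 LD2_c2 LD3_c35)) = (LP (LK LD1_c0 LD2_c58 LD3_c13)) :=
  Lre_a IH (LK LD1_c2 LD2_c2 LD3_c35) (LK LD1_c0 LD2_c58 LD3_c13) Lrfl Lrfl
theorem f231043 : Led Lsl_bt (LP (LK LD1_c2 LD2_c5 LD3_c59)) = (LP (LK LD1_c2 LD2_c2 LD3_c35)) :=
  Lgr Lrot62 (Lpe (f231041 IH) (Lpe (K13.f166489 IH) (Lpr_af (K12.f231037 IH) (Lpe (f167083 IH) (Lpe (f231042 IH) (Lpn (LP (LK LD1_c2 LD2_c2 LD3_c35))))))))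
theorem f251874 : Led Lsl_gf (LP (LK LD1_c2 LD2_c5 LD3_c42)) = (LP (LK LD1_c2 LD2_c2 LD3_c35)) :=
  Lgr Lrot124 (Lpe (f178390 IH) (Lpr_ct (f178391 IH) (Lpr_gt (f251826 IH) (Lpe (K13.f30824 IH) (Lpr_bt (f184404 IH) (Lpe (f251872 IH) (Lpe (f220347 IH) (Lpe (f231134 IH) (Lpe (f231136 IH) (Lpr_bt (f231043 IH) (Lpn (LP (LK LD1_c2 LD2_c2 LD3_c35)))))))))))))
theorem f231009 : Led Lsl_at (LP (LK LD1_c2 LD2_c5 LD3_c39)) = (LP (LK LD1_c0 LD2_c59 LD3_c52)) :=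
  Lre_a IH (LK LD1_c2 LD2_c5 LD3_c39) (LK LD1_c0 LD2_c59 LD3_c52) Lrfl Lrfl
theorem f251886 : Led Lsl_ff (LP (LK LD1_c2 LD2_c5 LD3_c39)) = (LP (LK LD1_c2 LD2_c2 LD3_c35)) :=
  Lgr Lrot52 (Lpr_at (f231009 IH) (Lpe (f169423 IH) (Lpr_gf (f251874 IH) (Lpn (LP (LK LD1_c2 LD2_c2 LD3_c35))))))
theorem f167767 : Led Lsl_ct (LP (LK LD1_c2 LD2_c5 LD3_c43)) = (LP (LK LD1_c0 LD2_c59 LD3_c52)) :=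
  Lre_c IH (LK LD1_c2 LD2_c5 LD3_c43) (LK LD1_c0 LD2_c59 LD3_c52) Lrfl Lrfl
theorem f167768 : Led Lsl_dt (LP (LK LD1_c4 LD2_c16 LD3_c54)) = (LP (LK LD1_c2 LD2_c5 LD3_c43)) :=
  Lre_d IH (LK LD1_c4 LD2_c16 LD3_c54) (LK LD1_c2 LD2_c5 LD3_c43) Lrfl Lrfl
theorem f251891 : Led Lsl_dt (LP (LK LD1_c2 LD2_c2 LD3_c35)) = (LP (LK LD1_c0 LD2_c58 LD3_c12)) :=
  Lre_d IH (LK LD1_c2 LD2_c2 LD3_c35) (LK LD1_c0 LD2_c58 LD3_c12) Lrfl Lrfl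
theorem f228917 : Led Lsl_at (LP (LK LD1_c0 LD2_c58 LD3_c53)) = (LP (LK LD1_c0 LD2_c26 LD3_c44)) :=
  Lre_a IH (LK LD1_c0 LD2_c58 LD3_c53) (LK LD1_c0 LD2_c26 LD3_c44) Lrfl Lrfl
theorem f228918 : Led Lsl_at (LP (LK LD1_c0 LD2_c26 LD3_c25)) = (LP (LK LD1_c0 LD2_c58 LD3_c12)) :=
  Lre_a IH (LK LD1_c0 LD2_c26 LD3_c25) (LK LD1_c0 LD2_c58 LD3_c12) Lrfl Lrfl
theorem f228919 : Led Lsl_cf (LP (LK LD1_c0 LD2_c58 LD3_c53)) = (LP (LK LD1_c0 LD2_c58 LD3_c12)) :=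
  Lgr Lrot1 (Lpr_at (f228917 IH) (Lpr_ct (K12.f228891 IH) (Lpr_at (f228918 IH) (Lpn (LP (LK LD1_c0 LD2_c58 LD3_c12))))))
theorem f251906 : Led Lsl_dt (LP (LK LD1_c0 LD2_c58 LD3_c53)) = (LP (LK LD1_c2 LD2_c3 LD3_c46)) :=
  Lre_d IH (LK LD1_c0 LD2_c58 LD3_c53) (LK LD1_c2 LD2_c3 LD3_c46) Lrfl Lrfl
theorem f251907 : Led Lsl_ct (LP (LK LD1_c2 LD2_c3 LD3_c46)) = (LP (LK LD1_c4 LD2_c12 LD3_c58)) :=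
  Lre_c IH (LK LD1_c2 LD2_c3 LD3_c46) (LK LD1_c4 LD2_c12 LD3_c58) Lrfl Lrfl
theorem f251908 : Led Lsl_dt (LP (LK LD1_c4 LD2_c12 LD3_c58)) = (LP (LK LD1_c8 LD2_c25 LD3_c11)) :=
  Lre_d IH (LK LD1_c4 LD2_c12 LD3_c58) (LK LD1_c8 LD2_c25 LD3_c11) Lrfl Lrfl
theorem f251909 : Led Lsl_cf (LP (LK LD1_c4 LD2_c16 LD3_c54)) = (LP (LK LD1_c8 LD2_c25 LD3_c11)) :=
  Lgr Lrot161 (Lpr_dt (f167768 IH) (Lpr_ct (f167767 IH) (Lpe (f231009 IH) (Lpr_ff (f251886 IH) (Lpr_dt (f251891 IH) (Lpe (f228919 IH) (Lpr_dt (f251906 IH) (Lpr_ct (f251907 IH) (Lpr_dt (f251908 IH) (Lpn (LP (LK LD1_c8 LD2_c25 LD3_c11))))))))))))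
theorem f179731 : Led Lsl_ct (LP (LK LD1_c1 LD2_c0 LD3_c18)) = (LP (LK LD1_c2 LD2_c6 LD3_c41)) :=
  Lre_c IH (LK LD1_c1 LD2_c0 LD3_c18) (LK LD1_c2 LD2_c6 LD3_c41) Lrfl Lrfl
theorem f251922 : Led Lsl_at (LP (LK LD1_c4 LD2_c18 LD3_c39)) = (LP (LK LD1_c2 LD2_c6 LD3_c41)) :=
  Lre_a IH (LK LD1_c4 LD2_c18 LD3_c39) (LK LD1_c2 LD2_c6 LD3_c41) Lrfl Lrfl
theorem f251923 : Led Lsl_ff (LP (LK LD1_c4 LD2_c18 LD3_c39)) = (LP (LK LD1_c4 LD2_c12 LD3_c58)) :=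
  Lgr Lrot103 (Lpr_at (f251922 IH) (Lpe (f179731 IH) (Lpe (f171499 IH) (Lpr_cf (K10.f187061 IH) (Lpe (K10.f169377 IH) (Lpe (f167767 IH) (Lpe (f167768 IH) (Lpr_cf (f251909 IH) (Lpe (f251908 IH) (Lpn (LP (LK LD1_c4 LD2_c12 LD3_c58))))))))))))
theorem f251935 : Led Lsl_ft (LP (LK LD1_c4 LD2_c18 LD3_c39)) = (LP (LK LD1_c4 LD2_c12 LD3_c58)) :=
  Lgr Lrot48 (Lpr_ff (f251923 IH) (Lpn (LP (LK LD1_c4 LD2_c12 LD3_c58))))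
theorem f251942 : Led Lsl_at (LP (LK LD1_c4 LD2_c12 LD3_c58)) = (LP (LK LD1_c2 LD2_c3 LD3_c50)) :=
  Lre_a IH (LK LD1_c4 LD2_c12 LD3_c58) (LK LD1_c2 LD2_c3 LD3_c50) Lrfl Lrfl
theorem f178314 : Led Lsl_ct (LP (LK LD1_c0 LD2_c58 LD3_c54)) = (LP (LK LD1_c2 LD2_c3 LD3_c50)) :=
  Lre_c IH (LK LD1_c0 LD2_c58 LD3_c54) (LK LD1_c2 LD2_c3 LD3_c50) Lrfl Lrfl
theorem f167346 : Led Lsl_bt (LP (LK LD1_c0 LD2_c26 LD3_c44)) = (LP (LK LD1_c0 LD2_c11 LD3_c51)) :=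
  Lre_b IH (LK LD1_c0 LD2_c26 LD3_c44) (LK LD1_c0 LD2_c11 LD3_c51) Lrfl Lrfl
theorem f200371 : Led Lsl_cf (LP (LK LD1_c0 LD2_c26 LD3_c44)) = (LP (LK LD1_c0 LD2_c26 LD3_c25)) :=
  Lgr Lrot97 (Lpr_bt (f167346 IH) (Lpr_ct (K9.f51585 IH) (Lpr_bt (K11.f200369 IH) (Lpe (K11.f171153 IH) (Lpr_bt (K10.f171161 IH) (Lpn (LP (LK LD1_c0 LD2_c26 LD3_c25))))))))
theorem f167111 : Led Lsl_dt (LP (LK LD1_c0 LD2_c58 LD3_c13)) = (LP (LK LD1_c0 LD2_c26 LD3_c25)) :=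
  Lre_d IH (LK LD1_c0 LD2_c58 LD3_c13) (LK LD1_c0 LD2_c26 LD3_c25) Lrfl Lrfl
theorem f167110 : Led Lsl_ct (LP (LK LD1_c2 LD2_c2 LD3_c38)) = (LP (LK LD1_c0 LD2_c58 LD3_c13)) :=
  Lre_c IH (LK LD1_c2 LD2_c2 LD3_c38) (LK LD1_c0 LD2_c58 LD3_c13) Lrfl Lrfl
theorem f167216 : Led Lsl_dt (LP (LK LD1_c4 LD2_c10 LD3_c47)) = (LP (LK LD1_c2 LD2_c2 LD3_c38)) :=
  Lre_d IH (LK LD1_c4 LD2_c10 LD3_c47) (LK LD1_c2 LD2_c2 LD3_c38) Lrfl Lrfl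
theorem f251955 : Led Lsl_ct (LP (LK LD1_c8 LD2_c21 LD3_c30)) = (LP (LK LD1_c4 LD2_c10 LD3_c47)) :=
  Lre_c IH (LK LD1_c8 LD2_c21 LD3_c30) (LK LD1_c4 LD2_c10 LD3_c47) Lrfl Lrfl
theorem f251956 : Led Lsl_dt (LP (LK LD1_c4 LD2_c18 LD3_c39)) = (LP (LK LD1_c8 LD2_c21 LD3_c30)) :=
  Lgr Lrot159 (Lpr_ft (f251935 IH) (Lpr_at (f251942 IH) (Lpe (f178314 IH) (Lpe (f184318 IH) (Lpr_cf (f200371 IH) (Lpe (f167111 IH) (Lpe (f167110 IH) (Lpe (f167216 IH) (Lpe (f251955 IH) (Lpn (LP (LK LD1_c8 LD2_c21 LD3_c30))))))))))))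
theorem f246655 : Led Lsl_ct (LP (LK LD1_c2 LD2_c6 LD3_c37)) = (LP (LK LD1_c4 LD2_c18 LD3_c39)) :=
  Lre_c IH (LK LD1_c2 LD2_c6 LD3_c37) (LK LD1_c4 LD2_c18 LD3_c39) Lrfl Lrfl
theorem f230318 : Led Lsl_dt (LP (LK LD1_c2 LD2_c5 LD3_c39)) = (LP (LK LD1_c0 LD2_c59 LD3_c51)) :=
  Lre_d IH (LK LD1_c2 LD2_c5 LD3_c39) (LK LD1_c0 LD2_c59 LD3_c51) Lrfl Lrfl
theorem f230319 : Led Lsl_ct (LP (LK LD1_c4 LD2_c16 LD3_c44)) = (LP (LK LD1_c2 LD2_c5 LD3_c39)) :=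
  Lre_c IH (LK LD1_c4 LD2_c16 LD3_c44) (LK LD1_c2 LD2_c5 LD3_c39) Lrfl Lrfl
theorem f184314 : Led Lsl_dt (LP (LK LD1_c2 LD2_c3 LD3_c50)) = (LP (LK LD1_c4 LD2_c13 LD3_c9)) :=
  Lre_d IH (LK LD1_c2 LD2_c3 LD3_c50) (LK LD1_c4 LD2_c13 LD3_c9) Lrfl Lrfl
theorem f184352 : Led Lsl_ct (LP (LK LD1_c4 LD2_c13 LD3_c9)) = (LP (LK LD1_c8 LD2_c25 LD3_c35)) :=
  Lre_c IH (LK LD1_c4 LD2_c13 LD3_c9) (LK LD1_c8 LD2_c25 LD3_c35) Lrfl Lrfl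
theorem f251962 : Led Lsl_df (LP (LK LD1_c4 LD2_c16 LD3_c44)) = (LP (LK LD1_c8 LD2_c25 LD3_c35)) :=
  Lgr Lrot43 (Lpr_ct (f230319 IH) (Lpr_dt (f230318 IH) (Lpe (f187057 IH) (Lpr_dt (f246649 IH) (Lpr_ct (f246655 IH) (Lpr_dt (f251956 IH) (Lpr_ct (f251955 IH) (Lpr_dt (f167216 IH) (Lpr_ct (f167110 IH) (Lpr_dt (f167111 IH) (Lpe (f200371 IH) (Lpr_dt (f184318 IH) (Lpr_ct (f178314 IH) (Lpr_dt (f184314 IH) (Lpr_ct (f184352 IH) (Lpn (LP (LK LD1_c8 LD2_c25 LD3_c35))))))))))))))))))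
theorem f251969 : Led Lsl_at (LP (LK LD1_c8 LD2_c21 LD3_c16)) = (LP (LK LD1_c4 LD2_c10 LD3_c47)) :=
  Lre_a IH (LK LD1_c8 LD2_c21 LD3_c16) (LK LD1_c4 LD2_c10 LD3_c47) Lrfl Lrfl
theorem f251970 : Led Lsl_ft (LP (LK LD1_c8 LD2_c25 LD3_c35)) = (LP (LK LD1_c8 LD2_c21 LD3_c16)) :=
  Lgr Lrot142 (Lpe (f251962 IH) (Lpr_ct (f230319 IH) (Lpr_dt (f230318 IH) (Lpe (f187057 IH) (Lpr_dt (f246649 IH) (Lpr_ct (f246655 IH) (Lpr_dt (f251956 IH) (Lpr_ct (f251955 IH) (Lpe (f251969 IH) (Lpn (LP (LK LD1_c8 LD2_c21 LD3_c16))))))))))))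
theorem f251977 : Led Lsl_ff (LP (LK LD1_c8 LD2_c25 LD3_c35)) = (LP (LK LD1_c8 LD2_c21 LD3_c16)) :=
  Lgr Lrot3 (Lpr_ft (f251970 IH) (Lpn (LP (LK LD1_c8 LD2_c21 LD3_c16))))
theorem f251916 : Led Lsl_dt (LP (LK LD1_c8 LD2_c21 LD3_c16)) = (LP (LK LD1_c4 LD2_c10 LD3_c39)) :=
  Lre_d IH (LK LD1_c8 LD2_c21 LD3_c16) (LK LD1_c4 LD2_c10 LD3_c39) Lrfl Lrfl
theorem f251888 : Led Lsl_ct (LP (LK LD1_c4 LD2_c10 LD3_c39)) = (LP (LK LD1_c2 LD2_c2 LD3_c35)) :=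
  Lre_c IH (LK LD1_c4 LD2_c10 LD3_c39) (LK LD1_c2 LD2_c2 LD3_c35) Lrfl Lrfl
theorem f251987 : Led Lsl_at (LP (LK LD1_c8 LD2_c25 LD3_c35)) = (LP (LK LD1_c4 LD2_c16 LD3_c54)) :=
  Lgr Lrot33 (Lpr_ff (f251977 IH) (Lpr_dt (f251916 IH) (Lpr_ct (f251888 IH) (Lpr_dt (f251891 IH) (Lpe (f228919 IH) (Lpr_dt (f251906 IH) (Lpr_ct (f251907 IH) (Lpr_dt (f251908 IH) (Lpe (f251909 IH) (Lpn (LP (LK LD1_c4 LD2_c16 LD3_c54))))))))))))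
theorem f251982 : Led Lsl_at (LP (LK LD1_c4 LD2_c10 LD3_c47)) = (LP (LK LD1_c8 LD2_c21 LD3_c16)) :=
  Lre_a IH (LK LD1_c4 LD2_c10 LD3_c47) (LK LD1_c8 LD2_c21 LD3_c16) Lrfl Lrfl
theorem f251995 : Led Lsl_ff (LP (LK LD1_c4 LD2_c10 LD3_c47)) = (LP (LK LD1_c4 LD2_c16 LD3_c54)) :=
  Lgr Lrot30 (Lpr_at (f251982 IH) (Lpe (f251977 IH) (Lpr_at (f251987 IH) (Lpn (LP (LK LD1_c4 LD2_c16 LD3_c54))))))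
theorem f187064 : Led Lsl_dt (LP (LK LD1_c2 LD2_c5 LD3_c43)) = (LP (LK LD1_c4 LD2_c16 LD3_c54)) :=
  Lre_d IH (LK LD1_c2 LD2_c5 LD3_c43) (LK LD1_c4 LD2_c16 LD3_c54) Lrfl Lrfl
theorem f252005 : Led Lsl_ft (LP (LK LD1_c2 LD2_c2 LD3_c38)) = (LP (LK LD1_c2 LD2_c5 LD3_c43)) :=
  Lgr Lrot54 (Lpe (f167216 IH) (Lpr_ff (f251995 IH) (Lpe (f187064 IH) (Lpn (LP (LK LD1_c2 LD2_c5 LD3_c43))))))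
theorem f252030 : Led Lsl_ff (LP (LK LD1_c2 LD2_c2 LD3_c38)) = (LP (LK LD1_c2 LD2_c5 LD3_c43)) :=
  Lgr Lrot3 (Lpr_ft (f252005 IH) (Lpn (LP (LK LD1_c2 LD2_c5 LD3_c43))))
theorem f252059 : Led Lsl_at (LP (LK LD1_c2 LD2_c2 LD3_c38)) = (LP (LK LD1_c4 LD2_c10 LD3_c39)) :=
  Lre_a IH (LK LD1_c2 LD2_c2 LD3_c38) (LK LD1_c4 LD2_c10 LD3_c39) Lrfl Lrfl
theorem f251890 : Led Lsl_ct (LP (LK LD1_c2 LD2_c2 LD3_c35)) = (LP (LK LD1_c4 LD2_c10 LD3_c39)) :=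
  Lre_c IH (LK LD1_c2 LD2_c2 LD3_c35) (LK LD1_c4 LD2_c10 LD3_c39) Lrfl Lrfl
theorem f251889 : Led Lsl_dt (LP (LK LD1_c0 LD2_c58 LD3_c12)) = (LP (LK LD1_c2 LD2_c2 LD3_c35)) :=
  Lre_d IH (LK LD1_c0 LD2_c58 LD3_c12) (LK LD1_c2 LD2_c2 LD3_c35) Lrfl Lrfl
theorem f251914 : Led Lsl_ct (LP (LK LD1_c4 LD2_c16 LD3_c54)) = (LP (LK LD1_c8 LD2_c25 LD3_c11)) :=
  Lgr Lrot59 (Lpr_cf (f251909 IH) (Lpn (LP (LK LD1_c8 LD2_c25 LD3_c11))))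
theorem f251932 : Led Lsl_dt (LP (LK LD1_c8 LD2_c25 LD3_c11)) = (LP (LK LD1_c4 LD2_c12 LD3_c58)) :=
  Lre_d IH (LK LD1_c8 LD2_c25 LD3_c11) (LK LD1_c4 LD2_c12 LD3_c58) Lrfl Lrfl
theorem f251939 : Led Lsl_ct (LP (LK LD1_c4 LD2_c12 LD3_c58)) = (LP (LK LD1_c2 LD2_c3 LD3_c46)) :=
  Lre_c IH (LK LD1_c4 LD2_c12 LD3_c58) (LK LD1_c2 LD2_c3 LD3_c46) Lrfl Lrfl
theorem f252068 : Led Lsl_dt (LP (LK LD1_c2 LD2_c3 LD3_c46)) = (LP (LK LD1_c0 LD2_c58 LD3_c53)) :=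
  Lre_d IH (LK LD1_c2 LD2_c3 LD3_c46) (LK LD1_c0 LD2_c58 LD3_c53) Lrfl Lrfl
theorem f252069 : Led Lsl_cf (LP (LK LD1_c0 LD2_c58 LD3_c12)) = (LP (LK LD1_c0 LD2_c58 LD3_c53)) :=
  Lgr Lrot161 (Lpr_dt (f251889 IH) (Lpr_ct (f251890 IH) (Lpe (f252059 IH) (Lpr_ff (f252030 IH) (Lpr_dt (f187064 IH) (Lpr_ct (f251914 IH) (Lpr_dt (f251932 IH) (Lpr_ct (f251939 IH) (Lpr_dt (f252068 IH) (Lpn (LP (LK LD1_c0 LD2_c58 LD3_c53))))))))))))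
theorem f252066 : Led Lsl_gf (LP (LK LD1_c4 LD2_c10 LD3_c39)) = (LP (LK LD1_c4 LD2_c16 LD3_c51)) :=
  Lgr Lrot76 (Lpe (f252059 IH) (Lpr_ff (f252030 IH) (Lpr_gt (f170261 IH) (Lpn (LP (LK LD1_c4 LD2_c16 LD3_c51))))))
theorem f229502 : Led Lsl_dt (LP (LK LD1_c3 LD2_c57 LD3_c12)) = (LP (LK LD1_c1 LD2_c55 LD3_c21)) :=
  Lre_d IH (LK LD1_c3 LD2_c57 LD3_c12) (LK LD1_c1 LD2_c55 LD3_c21) Lrfl Lrfl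
theorem f252083 : Led Lsl_gt (LP (LK LD1_c1 LD2_c0 LD3_c16)) = (LP (LK LD1_c0 LD2_c58 LD3_c53)) :=
  Lgr Lrot150 (Lpe (K10.f188759 IH) (Lpe (K12.f229496 IH) (Lpe (f229502 IH) (Lpr_gt (f229499 IH) (Lpr_ct (f251788 IH) (Lpe (f252066 IH) (Lpr_ct (f251888 IH) (Lpe (f251889 IH) (Lpr_cf (f252069 IH) (Lpn (LP (LK LD1_c0 LD2_c58 LD3_c53))))))))))))
theorem f54971 : Led Lsl_ft (LP (LK LD1_c2 LD2_c0 LD3_c40)) = (LP (LK LD1_c0 LD2_c57 LD3_c16)) :=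
  Lre_f IH (LK LD1_c2 LD2_c0 LD3_c40) (LK LD1_c0 LD2_c57 LD3_c16) Lrfl Lrfl
theorem f54515 : Led Lsl_at (LP (LK LD1_c0 LD2_c57 LD3_c16)) = (LP (LK LD1_c2 LD2_c0 LD3_c27)) :=
  Lre_a IH (LK LD1_c0 LD2_c57 LD3_c16) (LK LD1_c2 LD2_c0 LD3_c27) Lrfl Lrfl
theorem f214075 : Led Lsl_gf (LP (LK LD1_c2 LD2_c0 LD3_c27)) = (LP (LK LD1_c2 LD2_c25 LD3_c23)) :=
  Lgr Lrot76 (Lpe (f54515 IH) (Lpe (f54971 IH) (Lpr_gt (K12.f214072 IH) (Lpn (LP (LK LD1_c2 LD2_c25 LD3_c23))))))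
theorem f41410 : Led Lsl_dt (LP (LK LD1_c1 LD2_c9 LD3_c56)) = (LP (LK LD1_c2 LD2_c25 LD3_c23)) :=
  Lre_d IH (LK LD1_c1 LD2_c9 LD3_c56) (LK LD1_c2 LD2_c25 LD3_c23) Lrfl Lrfl
theorem f42501 : Led Lsl_gt (LP (LK LD1_c1 LD2_c15 LD3_c61)) = (LP (LK LD1_c0 LD2_c35 LD3_c13)) :=
  Lre_g IH (LK LD1_c1 LD2_c15 LD3_c61) (LK LD1_c0 LD2_c35 LD3_c13) Lrfl Lrfl
theorem f7926 : Led Lsl_bt (LP (LK LD1_c0 LD2_c27 LD3_c19)) = (LP (LK LD1_c1 LD2_c0 LD3_c6)) :=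
  Lre_b IH (LK LD1_c0 LD2_c27 LD3_c19) (LK LD1_c1 LD2_c0 LD3_c6) Lrfl Lrfl
theorem f29075 : Led Lsl_bf (LP (LK LD1_c1 LD2_c24 LD3_c53)) = (LP (LK LD1_c1 LD2_c55 LD3_c10)) :=
  Lgr Lrot24 (Lpr_bt (K1.f29071 IH) (Lpn (LP (LK LD1_c1 LD2_c55 LD3_c10))))
theorem f184378 : Led Lsl_gf (LP (LK LD1_c1 LD2_c0 LD3_c6)) = (LP (LK LD1_c1 LD2_c24 LD3_c53)) :=
  Lgr Lrot124 (Lpe (f7926 IH) (Lpr_ct (K9.f7930 IH) (Lpr_gt (K9.f167291 IH) (Lpe (K0.f280 IH) (Lpr_bt (K9.f2265 IH) (Lpr_gt (K0.f1573 IH) (Lpr_ct (K13.f33320 IH) (Lpr_gt (K13.f184371 IH) (Lpe (K1.f29078 IH) (Lpe (f29075 IH) (Lpn (LP (LK LD1_c1 LD2_c24 LD3_c53)))))))))))))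
theorem f7914 : Led Lsl_bt (LP (LK LD1_c1 LD2_c0 LD3_c6)) = (LP (LK LD1_c0 LD2_c27 LD3_c19)) :=
  Lre_b IH (LK LD1_c1 LD2_c0 LD3_c6) (LK LD1_c0 LD2_c27 LD3_c19) Lrfl Lrfl
theorem f6918 : Led Lsl_bt (LP (LK LD1_c0 LD2_c31 LD3_c57)) = (LP (LK LD1_c1 LD2_c9 LD3_c28)) :=
  Lre_b IH (LK LD1_c0 LD2_c31 LD3_c57) (LK LD1_c1 LD2_c9 LD3_c28) Lrfl Lrfl
theorem f7915 : Led Lsl_df (LP (LK LD1_c1 LD2_c0 LD3_c6)) = (LP (LK LD1_c1 LD2_c9 LD3_c28)) :=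
  Lgr Lrot12 (Lpr_bt (f7914 IH) (Lpr_dt (K0.f7911 IH) (Lpr_bt (f6918 IH) (Lpn (LP (LK LD1_c1 LD2_c9 LD3_c28))))))
theorem f184385 : Led Lsl_et (LP (LK LD1_c1 LD2_c9 LD3_c28)) = (LP (LK LD1_c1 LD2_c15 LD3_c61)) :=
  Lgr Lrot121 (Lpe (f7915 IH) (Lpr_gf (f184378 IH) (Lpe (K1.f29054 IH) (Lpr_et (K0.f29057 IH) (Lpr_gf (K1.f41797 IH) (Lpe (K1.f41769 IH) (Lpr_dt (K1.f41745 IH) (Lpe (K1.f42491 IH) (Lpe (K1.f41434 IH) (Lpe (f42501 IH) (Lpn (LP (LK LD1_c1 LD2_c15 LD3_c61)))))))))))))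
theorem f200609 : Led Lsl_et (LP (LK LD1_c2 LD2_c6 LD3_c58)) = (LP (LK LD1_c1 LD2_c0 LD3_c27)) :=
  Lre_e IH (LK LD1_c2 LD2_c6 LD3_c58) (LK LD1_c1 LD2_c0 LD3_c27) Lrfl Lrfl
theorem f200610 : Led Lsl_ct (LP (LK LD1_c1 LD2_c15 LD3_c61)) = (LP (LK LD1_c2 LD2_c6 LD3_c58)) :=
  Lgr Lrot15 (Lpe (f184385 IH) (Lpr_cf (f200387 IH) (Lpe (f200609 IH) (Lpn (LP (LK LD1_c2 LD2_c6 LD3_c58))))))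
theorem f216284 : Led Lsl_gt (LP (LK LD1_c2 LD2_c6 LD3_c58)) = (LP (LK LD1_c1 LD2_c9 LD3_c56)) :=
  Lgr Lrot94 (Lpe (f200610 IH) (Lpr_gt (f42501 IH) (Lpr_dt (K1.f41434 IH) (Lpr_gt (K1.f42491 IH) (Lpr_dt (K1.f41751 IH) (Lpr_cf (K10.f183850 IH) (Lpe (K10.f54526 IH) (Lpr_gf (f214075 IH) (Lpe (f41410 IH) (Lpn (LP (LK LD1_c1 LD2_c9 LD3_c56))))))))))))
theorem f200621 : Led Lsl_et (LP (LK LD1_c1 LD2_c0 LD3_c27)) = (LP (LK LD1_c2 LD2_c6 LD3_c58)) :=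
  Lre_e IH (LK LD1_c1 LD2_c0 LD3_c27) (LK LD1_c2 LD2_c6 LD3_c58) Lrfl Lrfl
theorem f222096 : Led Lsl_df (LP (LK LD1_c1 LD2_c8 LD3_c59)) = (LP (LK LD1_c1 LD2_c0 LD3_c27)) :=
  Lgr Lrot168 (Lpr_gf (f222089 IH) (Lpe (K12.f44500 IH) (Lpr_et (K12.f44503 IH) (Lpe (K1.f47441 IH) (Lpe (K1.f47841 IH) (Lpr_dt (K1.f47938 IH) (Lpr_gf (f214075 IH) (Lpe (f41410 IH) (Lpe (f216284 IH) (Lpe (f200621 IH) (Lpn (LP (LK LD1_c1 LD2_c0 LD3_c27)))))))))))))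
theorem f218585 : Led Lsl_et (LP (LK LD1_c0 LD2_c32 LD3_c21)) = (LP (LK LD1_c1 LD2_c9 LD3_c60)) :=
  Lre_e IH (LK LD1_c0 LD2_c32 LD3_c21) (LK LD1_c1 LD2_c9 LD3_c60) Lrfl Lrfl
theorem f218548 : Led Lsl_dt (LP (LK LD1_c2 LD2_c38 LD3_c19)) = (LP (LK LD1_c4 LD2_c55 LD3_c46)) :=
  Lgr Lrot42 (Lpr_df (K13.f218386 IH) (Lpn (LP (LK LD1_c4 LD2_c55 LD3_c46))))
theorem f218559 : Led Lsl_ct (LP (LK LD1_c4 LD2_c54 LD3_c54)) = (LP (LK LD1_c2 LD2_c25 LD3_c20)) :=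
  Lre_c IH (LK LD1_c4 LD2_c54 LD3_c54) (LK LD1_c2 LD2_c25 LD3_c20) Lrfl Lrfl
theorem f55216 : Led Lsl_dt (LP (LK LD1_c2 LD2_c25 LD3_c41)) = (LP (LK LD1_c1 LD2_c10 LD3_c1)) :=
  Lre_d IH (LK LD1_c2 LD2_c25 LD3_c41) (LK LD1_c1 LD2_c10 LD3_c1) Lrfl Lrfl
theorem f218560 : Led Lsl_gt (LP (LK LD1_c2 LD2_c25 LD3_c20)) = (LP (LK LD1_c1 LD2_c9 LD3_c59)) :=
  Lgr Lrot94 (Lpe (f218559 IH) (Lpr_gt (K12.f169254 IH) (Lpr_dt (f218548 IH) (Lpr_gt (K12.f55192 IH) (Lpr_dt (f55216 IH) (Lpe (K9.f167925 IH) (Lpe (K12.f44325 IH) (Lpe (K13.f171911 IH) (Lpe (K13.f171910 IH) (Lpn (LP (LK LD1_c1 LD2_c9 LD3_c59))))))))))))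
theorem f252073 : Led Lsl_et (LP (LK LD1_c2 LD2_c3 LD3_c47)) = (LP (LK LD1_c0 LD2_c58 LD3_c53)) :=
  Lre_e IH (LK LD1_c2 LD2_c3 LD3_c47) (LK LD1_c0 LD2_c58 LD3_c53) Lrfl Lrfl
theorem f252089 : Led Lsl_df (LP (LK LD1_c2 LD2_c25 LD3_c20)) = (LP (LK LD1_c2 LD2_c3 LD3_c47)) :=
  Lgr Lrot170 (Lpr_gt (f218560 IH) (Lpe (f41405 IH) (Lpr_et (f218585 IH) (Lpe (f246712 IH) (Lpe (f222096 IH) (Lpe (f221828 IH) (Lpe (K12.f171483 IH) (Lpr_et (K12.f188771 IH) (Lpr_gt (f252083 IH) (Lpe (f252073 IH) (Lpn (LP (LK LD1_c2 LD2_c3 LD3_c47)))))))))))))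
theorem f228818 : Led Lsl_ft (LP (LK LD1_c2 LD2_c3 LD3_c54)) = (LP (LK LD1_c0 LD2_c58 LD3_c55)) :=
  Lre_f IH (LK LD1_c2 LD2_c3 LD3_c54) (LK LD1_c0 LD2_c58 LD3_c55) Lrfl Lrfl
theorem f228884 : Led Lsl_at (LP (LK LD1_c0 LD2_c58 LD3_c55)) = (LP (LK LD1_c2 LD2_c3 LD3_c47)) :=
  Lre_a IH (LK LD1_c0 LD2_c58 LD3_c55) (LK LD1_c2 LD2_c3 LD3_c47) Lrfl Lrfl
theorem f250474 : Led Lsl_gt (LP (LK LD1_c2 LD2_c0 LD3_c32)) = (LP (LK LD1_c2 LD2_c3 LD3_c47)) :=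
  Lgr Lrot46 (Lpr_gf (f250472 IH) (Lpr_ft (f228818 IH) (Lpr_at (f228884 IH) (Lpn (LP (LK LD1_c2 LD2_c3 LD3_c47))))))
theorem f187346 : Led Lsl_ct (LP (LK LD1_c4 LD2_c6 LD3_c21)) = (LP (LK LD1_c2 LD2_c0 LD3_c32)) :=
  Lre_c IH (LK LD1_c4 LD2_c6 LD3_c21) (LK LD1_c2 LD2_c0 LD3_c32) Lrfl Lrfl
theorem f187473 : Led Lsl_ct (LP (LK LD1_c2 LD2_c0 LD3_c32)) = (LP (LK LD1_c4 LD2_c6 LD3_c21)) :=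
  Lre_c IH (LK LD1_c2 LD2_c0 LD3_c32) (LK LD1_c4 LD2_c6 LD3_c21) Lrfl Lrfl
theorem f250476 : Led Lsl_gt (LP (LK LD1_c4 LD2_c6 LD3_c21)) = (LP (LK LD1_c4 LD2_c15 LD3_c52)) :=
  Lgr Lrot149 (Lpe (f187473 IH) (Lpr_gf (f250472 IH) (Lpe (f228899 IH) (Lpr_ct (f228906 IH) (Lpr_gf (f250331 IH) (Lpr_cf (K12.f170310 IH) (Lpe (K13.f238296 IH) (Lpe (K13.f220579 IH) (Lpe (K12.f220564 IH) (Lpr_ct (K12.f220617 IH) (Lpn (LP (LK LD1_c4 LD2_c15 LD3_c52)))))))))))))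
theorem f252101 : Led Lsl_gf (LP (LK LD1_c2 LD2_c25 LD3_c28)) = (LP (LK LD1_c4 LD2_c54 LD3_c49)) :=
  Lgr Lrot143 (Lpr_dt (f171906 IH) (Lpe (K12.f171903 IH) (Lpe (K13.f171910 IH) (Lpe (f218560 IH) (Lpr_df (f252089 IH) (Lpe (f250474 IH) (Lpe (f187346 IH) (Lpr_gt (f250476 IH) (Lpe (K12.f220615 IH) (Lpn (LP (LK LD1_c4 LD2_c54 LD3_c49))))))))))))
theorem f171979 : Led Lsl_dt (LP (LK LD1_c1 LD2_c9 LD3_c58)) = (LP (LK LD1_c2 LD2_c25 LD3_c28)) :=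
  Lre_d IH (LK LD1_c1 LD2_c9 LD3_c58) (LK LD1_c2 LD2_c25 LD3_c28) Lrfl Lrfl
theorem f219443 : Led Lsl_af (LP (LK LD1_c4 LD2_c18 LD3_c36)) = (LP (LK LD1_c4 LD2_c12 LD3_c10)) :=
  Lgr Lrot45 (Lpr_ft (K10.f188834 IH) (Lpr_at (K12.f53825 IH) (Lpr_ft (K12.f219441 IH) (Lpn (LP (LK LD1_c4 LD2_c12 LD3_c10))))))
theorem f232862 : Led Lsl_gf (LP (LK LD1_c4 LD2_c18 LD3_c36)) = (LP (LK LD1_c4 LD2_c0 LD3_c14)) :=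
  Lgr Lrot76 (Lpr_af (f219443 IH) (Lpe (K12.f219441 IH) (Lpr_gt (K13.f232858 IH) (Lpn (LP (LK LD1_c4 LD2_c0 LD3_c14))))))
theorem f246718 : Led Lsl_gf (LP (LK LD1_c4 LD2_c4 LD3_c45)) = (LP (LK LD1_c2 LD2_c25 LD3_c29)) :=
  Lgr Lrot144 (Lpr_dt (K13.f211484 IH) (Lpe (f232862 IH) (Lpr_dt (K10.f188765 IH) (Lpe (K12.f188696 IH) (Lpe (K12.f188770 IH) (Lpr_gf (f221828 IH) (Lpr_df (f222096 IH) (Lpr_gf (f246712 IH) (Lpe (f246641 IH) (Lpn (LP (LK LD1_c2 LD2_c25 LD3_c29))))))))))))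
theorem f223726 : Led Lsl_dt (LP (LK LD1_c4 LD2_c4 LD3_c31)) = (LP (LK LD1_c8 LD2_c9 LD3_c59)) :=
  Lre_d IH (LK LD1_c4 LD2_c4 LD3_c31) (LK LD1_c8 LD2_c9 LD3_c59) Lrfl Lrfl
theorem f192278 : Led Lsl_et (LP (LK LD1_c2 LD2_c0 LD3_c30)) = (LP (LK LD1_c4 LD2_c6 LD3_c21)) :=
  Lre_e IH (LK LD1_c2 LD2_c0 LD3_c30) (LK LD1_c4 LD2_c6 LD3_c21) Lrfl Lrfl
theorem f183626 : Led Lsl_dt (LP (LK LD1_c2 LD2_c0 LD3_c30)) = (LP (LK LD1_c4 LD2_c6 LD3_c20)) :=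
  Lre_d IH (LK LD1_c2 LD2_c0 LD3_c30) (LK LD1_c4 LD2_c6 LD3_c20) Lrfl Lrfl
theorem f252142 : Led Lsl_gt (LP (LK LD1_c8 LD2_c9 LD3_c59)) = (LP (LK LD1_c4 LD2_c6 LD3_c20)) :=
  Lgr Lrot112 (Lpe (f223726 IH) (Lpr_et (K13.f223708 IH) (Lpr_gf (f246718 IH) (Lpe (f171986 IH) (Lpr_dt (f171979 IH) (Lpr_gf (f252101 IH) (Lpr_df (K12.f220615 IH) (Lpe (f250476 IH) (Lpe (f192278 IH) (Lpr_dt (f183626 IH) (Lpn (LP (LK LD1_c4 LD2_c6 LD3_c20)))))))))))))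
theorem f191142 : Led Lsl_bt (LP (LK LD1_c5 LD2_c8 LD3_c47)) = (LP (LK LD1_c2 LD2_c31 LD3_c37)) :=
  Lre_b IH (LK LD1_c5 LD2_c8 LD3_c47) (LK LD1_c2 LD2_c31 LD3_c37) Lrfl Lrfl
theorem f239460 : Led Lsl_bt (LP (LK LD1_c4 LD2_c4 LD3_c32)) = (LP (LK LD1_c8 LD2_c9 LD3_c59)) :=
  Lre_b IH (LK LD1_c4 LD2_c4 LD3_c32) (LK LD1_c8 LD2_c9 LD3_c59) Lrfl Lrfl
theorem f239461 : Led Lsl_ff (LP (LK LD1_c5 LD2_c8 LD3_c47)) = (LP (LK LD1_c8 LD2_c9 LD3_c59)) :=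
  Lgr Lrot25 (Lpr_bt (f191142 IH) (Lpr_ft (K13.f239458 IH) (Lpr_bt (f239460 IH) (Lpn (LP (LK LD1_c8 LD2_c9 LD3_c59))))))
theorem f183627 : Led Lsl_gt (LP (LK LD1_c4 LD2_c6 LD3_c20)) = (LP (LK LD1_c8 LD2_c13 LD3_c14)) :=
  Lre_g IH (LK LD1_c4 LD2_c6 LD3_c20) (LK LD1_c8 LD2_c13 LD3_c14) Lrfl Lrfl
theorem f252144 : Led Lsl_at (LP (LK LD1_c5 LD2_c8 LD3_c47)) = (LP (LK LD1_c8 LD2_c13 LD3_c14)) :=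
  Lgr Lrot26 (Lpr_ff (f239461 IH) (Lpr_gt (f252142 IH) (Lpr_gt (f183627 IH) (Lpn (LP (LK LD1_c8 LD2_c13 LD3_c14))))))
theorem f192274 : Led Lsl_et (LP (LK LD1_c8 LD2_c13 LD3_c14)) = (LP (LK LD1_c15 LD2_c27 LD3_c46)) :=
  Lre_e IH (LK LD1_c8 LD2_c13 LD3_c14) (LK LD1_c15 LD2_c27 LD3_c46) Lrfl Lrfl
theorem f252152 : Led Lsl_af (LP (LK LD1_c10 LD2_c7 LD3_c57)) = (LP (LK LD1_c15 LD2_c27 LD3_c46)) :=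
  Lgr Lrot50 (Lpr_et (f191118 IH) (Lpr_at (f252144 IH) (Lpr_et (f192274 IH) (Lpn (LP (LK LD1_c15 LD2_c27 LD3_c46))))))
theorem f247047 : Led Lsl_ft (LP (LK LD1_c10 LD2_c7 LD3_c57)) = (LP (LK LD1_c18 LD2_c27 LD3_c21)) :=
  Lre_f IH (LK LD1_c10 LD2_c7 LD3_c57) (LK LD1_c18 LD2_c27 LD3_c21) Lrfl Lrfl
theorem f192283 : Led Lsl_ft (LP (LK LD1_c25 LD2_c19 LD3_c39)) = (LP (LK LD1_c15 LD2_c27 LD3_c46)) :=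
  Lre_f IH (LK LD1_c25 LD2_c19 LD3_c39) (LK LD1_c15 LD2_c27 LD3_c46) Lrfl Lrfl
theorem f252161 : Led Lsl_at (LP (LK LD1_c18 LD2_c27 LD3_c21)) = (LP (LK LD1_c25 LD2_c19 LD3_c39)) :=
  Lgr Lrot66 (Lpe (f247047 IH) (Lpr_af (f252152 IH) (Lpe (f192283 IH) (Lpn (LP (LK LD1_c25 LD2_c19 LD3_c39))))))
theorem f247046 : Led Lsl_dt (LP (LK LD1_c10 LD2_c7 LD3_c58)) = (LP (LK LD1_c18 LD2_c27 LD3_c21)) :=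
  Lre_d IH (LK LD1_c10 LD2_c7 LD3_c58) (LK LD1_c18 LD2_c27 LD3_c21) Lrfl Lrfl
theorem f192266 : Led Lsl_df (LP (LK LD1_c8 LD2_c13 LD3_c14)) = (LP (LK LD1_c4 LD2_c54 LD3_c16)) :=
  Lgr Lrot132 (Lpe (f183627 IH) (Lpe (f183626 IH) (Lpr_gf (K10.f192221 IH) (Lpe (K0.f28666 IH) (Lpe (K1.f45781 IH) (Lpr_gf (K1.f44573 IH) (Lpr_df (K1.f44320 IH) (Lpr_et (K1.f31522 IH) (Lpe (K10.f31471 IH) (Lpe (K10.f43424 IH) (Lpn (LP (LK LD1_c4 LD2_c54 LD3_c16)))))))))))))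
theorem f43422 : Led Lsl_dt (LP (LK LD1_c4 LD2_c54 LD3_c15)) = (LP (LK LD1_c2 LD2_c25 LD3_c0)) :=
  Lre_d IH (LK LD1_c4 LD2_c54 LD3_c15) (LK LD1_c2 LD2_c25 LD3_c0) Lrfl Lrfl
theorem f192275 : Led Lsl_et (LP (LK LD1_c9 LD2_c40 LD3_c2)) = (LP (LK LD1_c4 LD2_c54 LD3_c15)) :=
  Lre_e IH (LK LD1_c9 LD2_c40 LD3_c2) (LK LD1_c4 LD2_c54 LD3_c15) Lrfl Lrfl
theorem f192276 : Led Lsl_dt (LP (LK LD1_c15 LD2_c27 LD3_c46)) = (LP (LK LD1_c9 LD2_c40 LD3_c2)) :=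
  Lgr Lrot77 (Lpe (f192274 IH) (Lpr_df (f192266 IH) (Lpe (K10.f184870 IH) (Lpe (f43422 IH) (Lpe (f192275 IH) (Lpn (LP (LK LD1_c9 LD2_c40 LD3_c2))))))))
theorem f192284 : Led Lsl_ft (LP (LK LD1_c9 LD2_c40 LD3_c2)) = (LP (LK LD1_c17 LD2_c46 LD3_c54)) :=
  Lre_f IH (LK LD1_c9 LD2_c40 LD3_c2) (LK LD1_c17 LD2_c46 LD3_c54) Lrfl Lrfl
theorem f192285 : Led Lsl_df (LP (LK LD1_c25 LD2_c19 LD3_c39)) = (LP (LK LD1_c17 LD2_c46 LD3_c54)) :=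
  Lgr Lrot78 (Lpr_ft (f192283 IH) (Lpr_dt (f192276 IH) (Lpr_ft (f192284 IH) (Lpn (LP (LK LD1_c17 LD2_c46 LD3_c54))))))
theorem f192294 : Led Lsl_dt (LP (LK LD1_c25 LD2_c19 LD3_c39)) = (LP (LK LD1_c17 LD2_c46 LD3_c54)) :=
  Lgr Lrot42 (Lpr_df (f192285 IH) (Lpn (LP (LK LD1_c17 LD2_c46 LD3_c54))))
theorem f252165 : Led Lsl_af (LP (LK LD1_c10 LD2_c7 LD3_c58)) = (LP (LK LD1_c17 LD2_c46 LD3_c54)) :=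
  Lgr Lrot117 (Lpr_dt (f247046 IH) (Lpr_at (f252161 IH) (Lpr_dt (f192294 IH) (Lpn (LP (LK LD1_c17 LD2_c46 LD3_c54))))))
theorem f239904 : Led Lsl_bt (LP (LK LD1_c10 LD2_c7 LD3_c58)) = (LP (LK LD1_c5 LD2_c8 LD3_c54)) :=
  Lre_b IH (LK LD1_c10 LD2_c7 LD3_c58) (LK LD1_c5 LD2_c8 LD3_c54) Lrfl Lrfl
theorem f239817 : Led Lsl_ft (LP (LK LD1_c2 LD2_c31 LD3_c36)) = (LP (LK LD1_c5 LD2_c8 LD3_c54)) :=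
  Lre_f IH (LK LD1_c2 LD2_c31 LD3_c36) (LK LD1_c5 LD2_c8 LD3_c54) Lrfl Lrfl
theorem f239818 : Led Lsl_at (LP (LK LD1_c5 LD2_c8 LD3_c54)) = (LP (LK LD1_c8 LD2_c4 LD3_c8)) :=
  Lgr Lrot66 (Lpe (f239817 IH) (Lpr_af (K13.f239808 IH) (Lpe (K13.f195642 IH) (Lpn (LP (LK LD1_c8 LD2_c4 LD3_c8))))))
theorem f195630 : Led Lsl_ft (LP (LK LD1_c11 LD2_c54 LD3_c59)) = (LP (LK LD1_c6 LD2_c5 LD3_c43)) :=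
  Lre_f IH (LK LD1_c11 LD2_c54 LD3_c59) (LK LD1_c6 LD2_c5 LD3_c43) Lrfl Lrfl
theorem f195632 : Led Lsl_bf (LP (LK LD1_c11 LD2_c54 LD3_c59)) = (LP (LK LD1_c8 LD2_c4 LD3_c8)) :=
  Lgr Lrot61 (Lpr_ft (f195630 IH) (Lpr_bt (f195617 IH) (Lpr_ft (K13.f195631 IH) (Lpn (LP (LK LD1_c8 LD2_c4 LD3_c8))))))
theorem f192272 : Led Lsl_dt (LP (LK LD1_c8 LD2_c13 LD3_c14)) = (LP (LK LD1_c4 LD2_c54 LD3_c16)) :=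
  Lgr Lrot42 (Lpr_df (f192266 IH) (Lpn (LP (LK LD1_c4 LD2_c54 LD3_c16))))
theorem f189780 : Led Lsl_bf (LP (LK LD1_c4 LD2_c13 LD3_c45)) = (LP (LK LD1_c4 LD2_c54 LD3_c16)) :=
  Lgr Lrot24 (Lpr_bt (K10.f189778 IH) (Lpn (LP (LK LD1_c4 LD2_c54 LD3_c16))))
theorem f192297 : Led Lsl_bf (LP (LK LD1_c8 LD2_c13 LD3_c14)) = (LP (LK LD1_c5 LD2_c17 LD3_c13)) :=
  Lgr Lrot93 (Lpr_dt (f192272 IH) (Lpe (f189780 IH) (Lpr_dt (K10.f49161 IH) (Lpn (LP (LK LD1_c5 LD2_c17 LD3_c13))))))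
theorem f49181 : Led Lsl_et (LP (LK LD1_c10 LD2_c24 LD3_c3)) = (LP (LK LD1_c5 LD2_c17 LD3_c13)) :=
  Lre_e IH (LK LD1_c10 LD2_c24 LD3_c3) (LK LD1_c5 LD2_c17 LD3_c13) Lrfl Lrfl
theorem f192300 : Led Lsl_bt (LP (LK LD1_c15 LD2_c27 LD3_c46)) = (LP (LK LD1_c10 LD2_c24 LD3_c3)) :=
  Lgr Lrot119 (Lpe (f192274 IH) (Lpr_bf (f192297 IH) (Lpe (f49181 IH) (Lpn (LP (LK LD1_c10 LD2_c24 LD3_c3))))))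
theorem f49178 : Led Lsl_ft (LP (LK LD1_c10 LD2_c24 LD3_c3)) = (LP (LK LD1_c18 LD2_c52 LD3_c22)) :=
  Lre_f IH (LK LD1_c10 LD2_c24 LD3_c3) (LK LD1_c18 LD2_c52 LD3_c22) Lrfl Lrfl
theorem f192306 : Led Lsl_bf (LP (LK LD1_c25 LD2_c19 LD3_c39)) = (LP (LK LD1_c18 LD2_c52 LD3_c22)) :=
  Lgr Lrot61 (Lpr_ft (f192283 IH) (Lpr_bt (f192300 IH) (Lpr_ft (f49178 IH) (Lpn (LP (LK LD1_c18 LD2_c52 LD3_c22))))))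
theorem f49166 : Led Lsl_dt (LP (LK LD1_c4 LD2_c13 LD3_c44)) = (LP (LK LD1_c2 LD2_c4 LD3_c13)) :=
  Lre_d IH (LK LD1_c4 LD2_c13 LD3_c44) (LK LD1_c2 LD2_c4 LD3_c13) Lrfl Lrfl
theorem f49167 : Led Lsl_et (LP (LK LD1_c8 LD2_c26 LD3_c17)) = (LP (LK LD1_c4 LD2_c13 LD3_c44)) :=
  Lre_e IH (LK LD1_c8 LD2_c26 LD3_c17) (LK LD1_c4 LD2_c13 LD3_c44) Lrfl Lrfl
theorem f49168 : Led Lsl_et (LP (LK LD1_c5 LD2_c17 LD3_c13)) = (LP (LK LD1_c10 LD2_c24 LD3_c3)) :=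
  Lre_e IH (LK LD1_c5 LD2_c17 LD3_c13) (LK LD1_c10 LD2_c24 LD3_c3) Lrfl Lrfl
theorem f49169 : Led Lsl_df (LP (LK LD1_c8 LD2_c26 LD3_c17)) = (LP (LK LD1_c10 LD2_c24 LD3_c3)) :=
  Lgr Lrot70 (Lpr_et (f49167 IH) (Lpr_dt (f49166 IH) (Lpr_et (K10.f49165 IH) (Lpr_dt (K10.f49161 IH) (Lpr_et (f49168 IH) (Lpn (LP (LK LD1_c10 LD2_c24 LD3_c3))))))))
theorem f49174 : Led Lsl_ft (LP (LK LD1_c8 LD2_c26 LD3_c17)) = (LP (LK LD1_c15 LD2_c50 LD3_c54)) :=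
  Lre_f IH (LK LD1_c8 LD2_c26 LD3_c17) (LK LD1_c15 LD2_c50 LD3_c54) Lrfl Lrfl
theorem f49175 : Led Lsl_ft (LP (LK LD1_c18 LD2_c52 LD3_c22)) = (LP (LK LD1_c10 LD2_c24 LD3_c3)) :=
  Lre_f IH (LK LD1_c18 LD2_c52 LD3_c22) (LK LD1_c10 LD2_c24 LD3_c3) Lrfl Lrfl
theorem f49176 : Led Lsl_dt (LP (LK LD1_c15 LD2_c50 LD3_c54)) = (LP (LK LD1_c18 LD2_c52 LD3_c22)) :=
  Lgr Lrot60 (Lpe (f49174 IH) (Lpr_df (f49169 IH) (Lpe (f49175 IH) (Lpn (LP (LK LD1_c18 LD2_c52 LD3_c22))))))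
theorem f192310 : Led Lsl_bt (LP (LK LD1_c17 LD2_c46 LD3_c54)) = (LP (LK LD1_c15 LD2_c50 LD3_c54)) :=
  Lgr Lrot95 (Lpe (f192294 IH) (Lpr_bf (f192306 IH) (Lpe (f49176 IH) (Lpn (LP (LK LD1_c15 LD2_c50 LD3_c54))))))
theorem f192312 : Led Lsl_bf (LP (LK LD1_c17 LD2_c46 LD3_c54)) = (LP (LK LD1_c15 LD2_c50 LD3_c54)) :=
  Lgr Lrot24 (Lpr_bt (f192310 IH) (Lpn (LP (LK LD1_c15 LD2_c50 LD3_c54))))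
theorem f252171 : Led Lsl_at (LP (LK LD1_c11 LD2_c54 LD3_c59)) = (LP (LK LD1_c15 LD2_c50 LD3_c54)) :=
  Lgr Lrot67 (Lpr_bf (f195632 IH) (Lpe (f239818 IH) (Lpe (f239904 IH) (Lpr_af (f252165 IH) (Lpr_bf (f192312 IH) (Lpn (LP (LK LD1_c15 LD2_c50 LD3_c54))))))))
theorem f195641 : Led Lsl_ft (LP (LK LD1_c6 LD2_c5 LD3_c43)) = (LP (LK LD1_c11 LD2_c54 LD3_c59)) :=
  Lre_f IH (LK LD1_c6 LD2_c5 LD3_c43) (LK LD1_c11 LD2_c54 LD3_c59) Lrfl Lrfl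
theorem f49185 : Led Lsl_ft (LP (LK LD1_c15 LD2_c50 LD3_c54)) = (LP (LK LD1_c8 LD2_c26 LD3_c17)) :=
  Lre_f IH (LK LD1_c15 LD2_c50 LD3_c54) (LK LD1_c8 LD2_c26 LD3_c17) Lrfl Lrfl
theorem f252176 : Led Lsl_af (LP (LK LD1_c6 LD2_c5 LD3_c43)) = (LP (LK LD1_c8 LD2_c26 LD3_c17)) :=
  Lgr Lrot45 (Lpr_ft (f195641 IH) (Lpr_at (f252171 IH) (Lpr_ft (f49185 IH) (Lpn (LP (LK LD1_c8 LD2_c26 LD3_c17))))))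
theorem f195685 : Led Lsl_et (LP (LK LD1_c6 LD2_c5 LD3_c43)) = (LP (LK LD1_c2 LD2_c58 LD3_c59)) :=
  Lre_e IH (LK LD1_c6 LD2_c5 LD3_c43) (LK LD1_c2 LD2_c58 LD3_c59) Lrfl Lrfl
theorem f49186 : Led Lsl_et (LP (LK LD1_c4 LD2_c13 LD3_c44)) = (LP (LK LD1_c8 LD2_c26 LD3_c17)) :=
  Lre_e IH (LK LD1_c4 LD2_c13 LD3_c44) (LK LD1_c8 LD2_c26 LD3_c17) Lrfl Lrfl
theorem f252182 : Led Lsl_at (LP (LK LD1_c2 LD2_c58 LD3_c59)) = (LP (LK LD1_c4 LD2_c13 LD3_c44)) :=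
  Lgr Lrot80 (Lpe (f195685 IH) (Lpr_af (f252176 IH) (Lpe (f49186 IH) (Lpn (LP (LK LD1_c4 LD2_c13 LD3_c44))))))
theorem f252190 : Led Lsl_af (LP (LK LD1_c1 LD2_c25 LD3_c12)) = (LP (LK LD1_c2 LD2_c4 LD3_c13)) :=
  Lgr Lrot117 (Lpr_dt (f183673 IH) (Lpr_at (f252182 IH) (Lpr_dt (f49166 IH) (Lpn (LP (LK LD1_c2 LD2_c4 LD3_c13))))))
theorem f252200 : Led Lsl_ft (LP (LK LD1_c2 LD2_c4 LD3_c9)) = (LP (LK LD1_c2 LD2_c4 LD3_c13)) :=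
  Lgr Lrot2 (Lpr_gt (K13.f49544 IH) (Lpe (K9.f183707 IH) (Lpr_af (f252190 IH) (Lpn (LP (LK LD1_c2 LD2_c4 LD3_c13))))))
theorem f252210 : Led Lsl_ff (LP (LK LD1_c2 LD2_c4 LD3_c9)) = (LP (LK LD1_c2 LD2_c4 LD3_c13)) :=
  Lgr Lrot3 (Lpr_ft (f252200 IH) (Lpn (LP (LK LD1_c2 LD2_c4 LD3_c13))))
theorem f252218 : Led Lsl_at (LP (LK LD1_c2 LD2_c4 LD3_c9)) = (LP (LK LD1_c1 LD2_c12 LD3_c48)) :=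
  Lgr Lrot26 (Lpr_ff (f252210 IH) (Lpr_gt (K10.f49159 IH) (Lpe (K10.f190893 IH) (Lpn (LP (LK LD1_c1 LD2_c12 LD3_c48))))))
theorem f252192 : Led Lsl_at (LP (LK LD1_c1 LD2_c25 LD3_c12)) = (LP (LK LD1_c2 LD2_c4 LD3_c13)) :=
  Lgr Lrot100 (Lpr_af (f252190 IH) (Lpn (LP (LK LD1_c2 LD2_c4 LD3_c13))))
theorem f252228 : Led Lsl_ff (LP (LK LD1_c1 LD2_c25 LD3_c12)) = (LP (LK LD1_c1 LD2_c12 LD3_c48)) :=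
  Lgr Lrot30 (Lpr_at (f252192 IH) (Lpe (f252210 IH) (Lpr_at (f252218 IH) (Lpn (LP (LK LD1_c1 LD2_c12 LD3_c48))))))
theorem f45144 : Led Lsl_ct (LP (LK LD1_c4 LD2_c15 LD3_c7)) = (LP (LK LD1_c2 LD2_c4 LD3_c58)) :=
  Lre_c IH (LK LD1_c4 LD2_c15 LD3_c7) (LK LD1_c2 LD2_c4 LD3_c58) Lrfl Lrfl
theorem f45145 : Led Lsl_dt (LP (LK LD1_c8 LD2_c29 LD3_c12)) = (LP (LK LD1_c4 LD2_c15 LD3_c7)) :=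
  Lre_d IH (LK LD1_c8 LD2_c29 LD3_c12) (LK LD1_c4 LD2_c15 LD3_c7) Lrfl Lrfl
theorem f33266 : Led Lsl_dt (LP (LK LD1_c1 LD2_c12 LD3_c48)) = (LP (LK LD1_c2 LD2_c31 LD3_c27)) :=
  Lre_d IH (LK LD1_c1 LD2_c12 LD3_c48) (LK LD1_c2 LD2_c31 LD3_c27) Lrfl Lrfl
theorem f190899 : Led Lsl_ct (LP (LK LD1_c2 LD2_c31 LD3_c27)) = (LP (LK LD1_c5 LD2_c8 LD3_c30)) :=
  Lre_c IH (LK LD1_c2 LD2_c31 LD3_c27) (LK LD1_c5 LD2_c8 LD3_c30) Lrfl Lrfl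
theorem f190916 : Led Lsl_dt (LP (LK LD1_c5 LD2_c8 LD3_c30)) = (LP (LK LD1_c10 LD2_c7 LD3_c22)) :=
  Lre_d IH (LK LD1_c5 LD2_c8 LD3_c30) (LK LD1_c10 LD2_c7 LD3_c22) Lrfl Lrfl
theorem f252234 : Led Lsl_cf (LP (LK LD1_c8 LD2_c29 LD3_c12)) = (LP (LK LD1_c10 LD2_c7 LD3_c22)) :=
  Lgr Lrot116 (Lpr_dt (f45145 IH) (Lpr_ct (f45144 IH) (Lpr_dt (K10.f45148 IH) (Lpe (K10.f49195 IH) (Lpe (f252192 IH) (Lpr_ff (f252228 IH) (Lpr_dt (f33266 IH) (Lpr_ct (f190899 IH) (Lpr_dt (f190916 IH) (Lpn (LP (LK LD1_c10 LD2_c7 LD3_c22))))))))))))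
theorem f252237 : Led Lsl_ct (LP (LK LD1_c8 LD2_c29 LD3_c12)) = (LP (LK LD1_c10 LD2_c7 LD3_c22)) :=
  Lgr Lrot59 (Lpr_cf (f252234 IH) (Lpn (LP (LK LD1_c10 LD2_c7 LD3_c22))))
theorem f49198 : Led Lsl_dt (LP (LK LD1_c4 LD2_c15 LD3_c7)) = (LP (LK LD1_c8 LD2_c29 LD3_c12)) :=
  Lre_d IH (LK LD1_c4 LD2_c15 LD3_c7) (LK LD1_c8 LD2_c29 LD3_c12) Lrfl Lrfl
theorem f45146 : Led Lsl_ct (LP (LK LD1_c2 LD2_c4 LD3_c58)) = (LP (LK LD1_c4 LD2_c15 LD3_c7)) :=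
  Lre_c IH (LK LD1_c2 LD2_c4 LD3_c58) (LK LD1_c4 LD2_c15 LD3_c7) Lrfl Lrfl
theorem f45014 : Led Lsl_dt (LP (LK LD1_c4 LD2_c13 LD3_c37)) = (LP (LK LD1_c2 LD2_c4 LD3_c9)) :=
  Lre_d IH (LK LD1_c4 LD2_c13 LD3_c37) (LK LD1_c2 LD2_c4 LD3_c9) Lrfl Lrfl
theorem f49187 : Led Lsl_dt (LP (LK LD1_c2 LD2_c4 LD3_c13)) = (LP (LK LD1_c4 LD2_c13 LD3_c44)) :=
  Lre_d IH (LK LD1_c2 LD2_c4 LD3_c13) (LK LD1_c4 LD2_c13 LD3_c44) Lrfl Lrfl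
theorem f252208 : Led Lsl_ff (LP (LK LD1_c4 LD2_c13 LD3_c37)) = (LP (LK LD1_c4 LD2_c13 LD3_c44)) :=
  Lgr Lrot19 (Lpr_dt (f45014 IH) (Lpr_ft (f252200 IH) (Lpr_dt (f49187 IH) (Lpn (LP (LK LD1_c4 LD2_c13 LD3_c44))))))
theorem f33196 : Led Lsl_dt (LP (LK LD1_c10 LD2_c7 LD3_c22)) = (LP (LK LD1_c5 LD2_c8 LD3_c30)) :=
  Lre_d IH (LK LD1_c10 LD2_c7 LD3_c22) (LK LD1_c5 LD2_c8 LD3_c30) Lrfl Lrfl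
theorem f33195 : Led Lsl_ct (LP (LK LD1_c5 LD2_c8 LD3_c30)) = (LP (LK LD1_c2 LD2_c31 LD3_c27)) :=
  Lre_c IH (LK LD1_c5 LD2_c8 LD3_c30) (LK LD1_c2 LD2_c31 LD3_c27) Lrfl Lrfl
theorem f252244 : Led Lsl_at (LP (LK LD1_c4 LD2_c13 LD3_c37)) = (LP (LK LD1_c2 LD2_c31 LD3_c27)) :=
  Lgr Lrot33 (Lpr_ff (f252208 IH) (Lpr_dt (f49166 IH) (Lpr_ct (K10.f49193 IH) (Lpr_dt (K10.f45142 IH) (Lpr_ct (f45146 IH) (Lpr_dt (f49198 IH) (Lpr_ct (f252237 IH) (Lpr_dt (f33196 IH) (Lpr_ct (f33195 IH) (Lpn (LP (LK LD1_c2 LD2_c31 LD3_c27))))))))))))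
theorem f33269 : Led Lsl_gt (LP (LK LD1_c5 LD2_c8 LD3_c29)) = (LP (LK LD1_c2 LD2_c31 LD3_c27)) :=
  Lre_g IH (LK LD1_c5 LD2_c8 LD3_c29) (LK LD1_c2 LD2_c31 LD3_c27) Lrfl Lrfl
theorem f252254 : Led Lsl_gt (LP (LK LD1_c4 LD2_c13 LD3_c44)) = (LP (LK LD1_c5 LD2_c8 LD3_c29)) :=
  Lgr Lrot5 (Lpe (f252208 IH) (Lpr_at (f252244 IH) (Lpe (f33269 IH) (Lpn (LP (LK LD1_c5 LD2_c8 LD3_c29))))))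
theorem f47782 : Led Lsl_ct (LP (LK LD1_c2 LD2_c34 LD3_c33)) = (LP (LK LD1_c1 LD2_c14 LD3_c17)) :=
  Lre_c IH (LK LD1_c2 LD2_c34 LD3_c33) (LK LD1_c1 LD2_c14 LD3_c17) Lrfl Lrfl
theorem f189728 : Led Lsl_gt (LP (LK LD1_c5 LD2_c15 LD3_c24)) = (LP (LK LD1_c2 LD2_c34 LD3_c33)) :=
  Lre_g IH (LK LD1_c5 LD2_c15 LD3_c24) (LK LD1_c2 LD2_c34 LD3_c33) Lrfl Lrfl
theorem f252256 : Led Lsl_cf (LP (LK LD1_c5 LD2_c15 LD3_c24)) = (LP (LK LD1_c5 LD2_c8 LD3_c29)) :=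
  Lgr Lrot169 (Lpr_gt (f189728 IH) (Lpr_ct (f47782 IH) (Lpe (K9.f32879 IH) (Lpe (K10.f45241 IH) (Lpe (K10.f189720 IH) (Lpr_cf (K9.f50882 IH) (Lpe (K10.f49159 IH) (Lpe (f49166 IH) (Lpr_gt (f252254 IH) (Lpn (LP (LK LD1_c5 LD2_c8 LD3_c29))))))))))))
theorem f49862 : Led Lsl_dt (LP (LK LD1_c2 LD2_c34 LD3_c33)) = (LP (LK LD1_c5 LD2_c15 LD3_c26)) :=
  Lre_d IH (LK LD1_c2 LD2_c34 LD3_c33) (LK LD1_c5 LD2_c15 LD3_c26) Lrfl Lrfl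
theorem f49933 : Led Lsl_gt (LP (LK LD1_c5 LD2_c15 LD3_c26)) = (LP (LK LD1_c10 LD2_c20 LD3_c12)) :=
  Lre_g IH (LK LD1_c5 LD2_c15 LD3_c26) (LK LD1_c10 LD2_c20 LD3_c12) Lrfl Lrfl
theorem f212451 : Led Lsl_ct (LP (LK LD1_c5 LD2_c15 LD3_c45)) = (LP (LK LD1_c4 LD2_c13 LD3_c41)) :=
  Lgr Lrot59 (Lpr_cf (K12.f212445 IH) (Lpn (LP (LK LD1_c4 LD2_c13 LD3_c41))))
theorem f252265 : Led Lsl_dt (LP (LK LD1_c10 LD2_c20 LD3_c12)) = (LP (LK LD1_c5 LD2_c15 LD3_c45)) :=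
  Lgr Lrot105 (Lpe (f49933 IH) (Lpe (f49862 IH) (Lpe (f189728 IH) (Lpr_cf (f252256 IH) (Lpr_gt (f33269 IH) (Lpr_dt (K12.f33250 IH) (Lpr_gt (K10.f190897 IH) (Lpr_dt (K9.f49439 IH) (Lpe (f212451 IH) (Lpn (LP (LK LD1_c5 LD2_c15 LD3_c45))))))))))))
theorem f50887 : Led Lsl_dt (LP (LK LD1_c4 LD2_c13 LD3_c56)) = (LP (LK LD1_c8 LD2_c26 LD3_c30)) :=
  Lre_d IH (LK LD1_c4 LD2_c13 LD3_c56) (LK LD1_c8 LD2_c26 LD3_c30) Lrfl Lrfl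
theorem f252277 : Led Lsl_cf (LP (LK LD1_c10 LD2_c20 LD3_c12)) = (LP (LK LD1_c8 LD2_c26 LD3_c30)) :=
  Lgr Lrot118 (Lpr_dt (f252265 IH) (Lpr_ct (f212451 IH) (Lpr_dt (K9.f49443 IH) (Lpr_ct (K10.f189588 IH) (Lpr_dt (K11.f47684 IH) (Lpe (K11.f195825 IH) (Lpr_af (K11.f195798 IH) (Lpr_ff (K11.f183780 IH) (Lpr_dt (f50887 IH) (Lpn (LP (LK LD1_c8 LD2_c26 LD3_c30))))))))))))
theorem f252323 : Led Lsl_ct (LP (LK LD1_c10 LD2_c20 LD3_c12)) = (LP (LK LD1_c8 LD2_c26 LD3_c30)) :=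
  Lgr Lrot59 (Lpr_cf (f252277 IH) (Lpn (LP (LK LD1_c8 LD2_c26 LD3_c30))))
theorem f45023 : Led Lsl_dt (LP (LK LD1_c4 LD2_c13 LD3_c40)) = (LP (LK LD1_c8 LD2_c26 LD3_c13)) :=
  Lre_d IH (LK LD1_c4 LD2_c13 LD3_c40) (LK LD1_c8 LD2_c26 LD3_c13) Lrfl Lrfl
theorem f252275 : Led Lsl_ff (LP (LK LD1_c10 LD2_c20 LD3_c12)) = (LP (LK LD1_c8 LD2_c26 LD3_c13)) :=
  Lgr Lrot19 (Lpr_dt (f252265 IH) (Lpr_ft (K12.f212456 IH) (Lpr_dt (f45023 IH) (Lpn (LP (LK LD1_c8 LD2_c26 LD3_c13))))))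
theorem f45033 : Led Lsl_dt (LP (LK LD1_c8 LD2_c26 LD3_c13)) = (LP (LK LD1_c4 LD2_c13 LD3_c40)) :=
  Lre_d IH (LK LD1_c8 LD2_c26 LD3_c13) (LK LD1_c4 LD2_c13 LD3_c40) Lrfl Lrfl
theorem f231877 : Led Lsl_ct (LP (LK LD1_c11 LD2_c55 LD3_c6)) = (LP (LK LD1_c8 LD2_c26 LD3_c13)) :=
  Lgr Lrot53 (Lpr_df (K13.f231691 IH) (Lpr_cf (K11.f183773 IH) (Lpe (K11.f27415 IH) (Lpr_cf (K10.f50905 IH) (Lpe (K9.f49448 IH) (Lpr_ft (K9.f49459 IH) (Lpe (K8.f49431 IH) (Lpe (K12.f45006 IH) (Lpe (f45033 IH) (Lpn (LP (LK LD1_c8 LD2_c26 LD3_c13))))))))))))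
theorem f252326 : Led Lsl_ff (LP (LK LD1_c11 LD2_c55 LD3_c6)) = (LP (LK LD1_c8 LD2_c26 LD3_c30)) :=
  Lgr Lrot23 (Lpr_ct (f231877 IH) (Lpe (f252275 IH) (Lpr_ct (f252323 IH) (Lpn (LP (LK LD1_c8 LD2_c26 LD3_c30))))))
theorem f45101 : Led Lsl_dt (LP (LK LD1_c0 LD2_c59 LD3_c34)) = (LP (LK LD1_c0 LD2_c27 LD3_c7)) :=
  Lre_d IH (LK LD1_c0 LD2_c59 LD3_c34) (LK LD1_c0 LD2_c27 LD3_c7) Lrfl Lrfl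
theorem f192467 : Led Lsl_dt (LP (LK LD1_c0 LD2_c35 LD3_c22)) = (LP (LK LD1_c1 LD2_c16 LD3_c26)) :=
  Lre_d IH (LK LD1_c0 LD2_c35 LD3_c22) (LK LD1_c1 LD2_c16 LD3_c26) Lrfl Lrfl
theorem f166136 : Led Lsl_ct (LP (LK LD1_c2 LD2_c39 LD3_c20)) = (LP (LK LD1_c1 LD2_c16 LD3_c26)) :=
  Lre_c IH (LK LD1_c2 LD2_c39 LD3_c20) (LK LD1_c1 LD2_c16 LD3_c26) Lrfl Lrfl
theorem f166137 : Led Lsl_dt (LP (LK LD1_c5 LD2_c25 LD3_c56)) = (LP (LK LD1_c2 LD2_c39 LD3_c20)) :=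
  Lre_d IH (LK LD1_c5 LD2_c25 LD3_c56) (LK LD1_c2 LD2_c39 LD3_c20) Lrfl Lrfl
theorem f196382 : Led Lsl_gt (LP (LK LD1_c8 LD2_c26 LD3_c30)) = (LP (LK LD1_c5 LD2_c25 LD3_c56)) :=
  Lgr Lrot49 (Lpe (f50887 IH) (Lpr_gf (K10.f50890 IH) (Lpe (K10.f45371 IH) (Lpr_gt (K10.f753 IH) (Lpr_dt (f45101 IH) (Lpr_gt (K10.f196357 IH) (Lpr_dt (f192467 IH) (Lpe (f166136 IH) (Lpe (f166137 IH) (Lpn (LP (LK LD1_c5 LD2_c25 LD3_c56))))))))))))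
theorem f252362 : Led Lsl_gt (LP (LK LD1_c5 LD2_c25 LD3_c56)) = (LP (LK LD1_c10 LD2_c43 LD3_c4)) :=
  Lre_g IH (LK LD1_c5 LD2_c25 LD3_c56) (LK LD1_c10 LD2_c43 LD3_c4) Lrfl Lrfl
theorem f252363 : Led Lsl_at (LP (LK LD1_c11 LD2_c55 LD3_c6)) = (LP (LK LD1_c10 LD2_c43 LD3_c4)) :=
  Lgr Lrot26 (Lpr_ff (f252326 IH) (Lpr_gt (f196382 IH) (Lpr_gt (f252362 IH) (Lpn (LP (LK LD1_c10 LD2_c43 LD3_c4))))))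
theorem f49442 : Led Lsl_dt (LP (LK LD1_c8 LD2_c26 LD3_c30)) = (LP (LK LD1_c4 LD2_c13 LD3_c56)) :=
  Lre_d IH (LK LD1_c8 LD2_c26 LD3_c30) (LK LD1_c4 LD2_c13 LD3_c56) Lrfl Lrfl
theorem f49440 : Led Lsl_dt (LP (LK LD1_c2 LD2_c4 LD3_c19)) = (LP (LK LD1_c0 LD2_c59 LD3_c11)) :=
  Lre_d IH (LK LD1_c2 LD2_c4 LD3_c19) (LK LD1_c0 LD2_c59 LD3_c11) Lrfl Lrfl
theorem f49452 : Led Lsl_dt (LP (LK LD1_c4 LD2_c13 LD3_c47)) = (LP (LK LD1_c8 LD2_c26 LD3_c20)) :=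
  Lre_d IH (LK LD1_c4 LD2_c13 LD3_c47) (LK LD1_c8 LD2_c26 LD3_c20) Lrfl Lrfl
theorem f252365 : Led Lsl_cf (LP (LK LD1_c10 LD2_c43 LD3_c4)) = (LP (LK LD1_c8 LD2_c26 LD3_c20)) :=
  Lgr Lrot102 (Lpe (f252363 IH) (Lpr_ff (f252326 IH) (Lpr_dt (f49442 IH) (Lpr_ct (K10.f49441 IH) (Lpr_dt (f49440 IH) (Lpe (K10.f45710 IH) (Lpr_dt (K8.f45709 IH) (Lpr_ct (K12.f49451 IH) (Lpr_dt (f49452 IH) (Lpn (LP (LK LD1_c8 LD2_c26 LD3_c20))))))))))))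
theorem f252273 : Led Lsl_df (LP (LK LD1_c10 LD2_c20 LD3_c12)) = (LP (LK LD1_c5 LD2_c15 LD3_c45)) :=
  Lgr Lrot38 (Lpr_dt (f252265 IH) (Lpn (LP (LK LD1_c5 LD2_c15 LD3_c45))))
theorem f195815 : Led Lsl_ct (LP (LK LD1_c5 LD2_c26 LD3_c23)) = (LP (LK LD1_c5 LD2_c15 LD3_c15)) :=
  Lgr Lrot111 (Lpr_af (K11.f195798 IH) (Lpr_cf (K11.f183773 IH) (Lpr_af (K11.f189708 IH) (Lpn (LP (LK LD1_c5 LD2_c15 LD3_c15))))))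
theorem f252373 : Led Lsl_dt (LP (LK LD1_c10 LD2_c43 LD3_c4)) = (LP (LK LD1_c5 LD2_c26 LD3_c23)) :=
  Lgr Lrot173 (Lpr_cf (f252365 IH) (Lpe (f49452 IH) (Lpe (K12.f49451 IH) (Lpe (K8.f45709 IH) (Lpr_cf (K10.f45710 IH) (Lpe (f49440 IH) (Lpe (K10.f49441 IH) (Lpe (f49442 IH) (Lpe (f252323 IH) (Lpr_df (f252273 IH) (Lpr_cf (K12.f212445 IH) (Lpe (K9.f49439 IH) (Lpr_cf (K10.f189592 IH) (Lpe (K11.f189598 IH) (Lpe (f195815 IH) (Lpn (LP (LK LD1_c5 LD2_c26 LD3_c23))))))))))))))))))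
theorem f231992 : Led Lsl_ft (LP (LK LD1_c4 LD2_c13 LD3_c47)) = (LP (LK LD1_c8 LD2_c17 LD3_c51)) :=
  Lgr Lrot48 (Lpr_ff (K13.f231980 IH) (Lpn (LP (LK LD1_c8 LD2_c17 LD3_c51))))
theorem f252375 : Led Lsl_af (LP (LK LD1_c5 LD2_c15 LD3_c45)) = (LP (LK LD1_c8 LD2_c17 LD3_c51)) :=
  Lgr Lrot109 (Lpr_cf (K12.f212445 IH) (Lpe (K9.f49439 IH) (Lpr_cf (K10.f189592 IH) (Lpe (K11.f189598 IH) (Lpe (f195815 IH) (Lpe (f252373 IH) (Lpr_cf (f252365 IH) (Lpe (f49452 IH) (Lpr_ft (f231992 IH) (Lpn (LP (LK LD1_c8 LD2_c17 LD3_c51))))))))))))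
theorem f212453 : Led Lsl_et (LP (LK LD1_c5 LD2_c15 LD3_c45)) = (LP (LK LD1_c10 LD2_c20 LD3_c49)) :=
  Lre_e IH (LK LD1_c5 LD2_c15 LD3_c45) (LK LD1_c10 LD2_c20 LD3_c49) Lrfl Lrfl
theorem f231989 : Led Lsl_et (LP (LK LD1_c15 LD2_c36 LD3_c17)) = (LP (LK LD1_c8 LD2_c17 LD3_c51)) :=
  Lre_e IH (LK LD1_c15 LD2_c36 LD3_c17) (LK LD1_c8 LD2_c17 LD3_c51) Lrfl Lrfl
theorem f252380 : Led Lsl_at (LP (LK LD1_c10 LD2_c20 LD3_c49)) = (LP (LK LD1_c15 LD2_c36 LD3_c17)) :=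
  Lgr Lrot80 (Lpe (f212453 IH) (Lpr_af (f252375 IH) (Lpe (f231989 IH) (Lpn (LP (LK LD1_c15 LD2_c36 LD3_c17))))))
theorem f212461 : Led Lsl_et (LP (LK LD1_c10 LD2_c20 LD3_c49)) = (LP (LK LD1_c5 LD2_c15 LD3_c45)) :=
  Lre_e IH (LK LD1_c10 LD2_c20 LD3_c49) (LK LD1_c5 LD2_c15 LD3_c45) Lrfl Lrfl
theorem f212462 : Led Lsl_ff (LP (LK LD1_c10 LD2_c20 LD3_c49)) = (LP (LK LD1_c10 LD2_c25 LD3_c14)) :=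
  Lgr Lrot72 (Lpr_et (f212461 IH) (Lpr_ft (K12.f212456 IH) (Lpe (K13.f44978 IH) (Lpe (f188458 IH) (Lpr_et (K13.f188320 IH) (Lpn (LP (LK LD1_c10 LD2_c25 LD3_c14))))))))
theorem f49802 : Led Lsl_dt (LP (LK LD1_c25 LD2_c25 LD3_c10)) = (LP (LK LD1_c15 LD2_c31 LD3_c56)) :=
  Lre_d IH (LK LD1_c25 LD2_c25 LD3_c10) (LK LD1_c15 LD2_c31 LD3_c56) Lrfl Lrfl
theorem f49358 : Led Lsl_dt (LP (LK LD1_c15 LD2_c33 LD3_c9)) = (LP (LK LD1_c25 LD2_c26 LD3_c46)) :=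
  Lre_d IH (LK LD1_c15 LD2_c33 LD3_c9) (LK LD1_c25 LD2_c26 LD3_c46) Lrfl Lrfl
theorem f53494 : Led Lsl_af (LP (LK LD1_c25 LD2_c25 LD3_c10)) = (LP (LK LD1_c25 LD2_c26 LD3_c46)) :=
  Lgr Lrot117 (Lpr_dt (f49802 IH) (Lpr_at (K10.f53489 IH) (Lpr_dt (f49358 IH) (Lpn (LP (LK LD1_c25 LD2_c26 LD3_c46))))))
theorem f53535 : Led Lsl_at (LP (LK LD1_c25 LD2_c25 LD3_c10)) = (LP (LK LD1_c25 LD2_c26 LD3_c46)) :=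
  Lgr Lrot100 (Lpr_af (f53494 IH) (Lpn (LP (LK LD1_c25 LD2_c26 LD3_c46))))
theorem f49801 : Led Lsl_et (LP (LK LD1_c15 LD2_c31 LD3_c56)) = (LP (LK LD1_c8 LD2_c15 LD3_c35)) :=
  Lre_e IH (LK LD1_c15 LD2_c31 LD3_c56) (LK LD1_c8 LD2_c15 LD3_c35) Lrfl Lrfl
theorem f49803 : Led Lsl_et (LP (LK LD1_c8 LD2_c15 LD3_c54)) = (LP (LK LD1_c15 LD2_c32 LD3_c18)) :=
  Lre_e IH (LK LD1_c8 LD2_c15 LD3_c54) (LK LD1_c15 LD2_c32 LD3_c18) Lrfl Lrfl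
theorem f49804 : Led Lsl_dt (LP (LK LD1_c15 LD2_c32 LD3_c18)) = (LP (LK LD1_c25 LD2_c25 LD3_c40)) :=
  Lre_d IH (LK LD1_c15 LD2_c32 LD3_c18) (LK LD1_c25 LD2_c25 LD3_c40) Lrfl Lrfl
theorem f49805 : Led Lsl_ef (LP (LK LD1_c25 LD2_c25 LD3_c10)) = (LP (LK LD1_c25 LD2_c25 LD3_c40)) :=
  Lgr Lrot73 (Lpr_dt (f49802 IH) (Lpr_et (f49801 IH) (Lpr_dt (K9.f49793 IH) (Lpr_et (f49803 IH) (Lpr_dt (f49804 IH) (Lpn (LP (LK LD1_c25 LD2_c25 LD3_c40))))))))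
theorem f188431 : Led Lsl_at (LP (LK LD1_c18 LD2_c54 LD3_c21)) = (LP (LK LD1_c25 LD2_c25 LD3_c40)) :=
  Lgr Lrot80 (Lpr_ef (K13.f188428 IH) (Lpe (f53535 IH) (Lpr_ef (f49805 IH) (Lpn (LP (LK LD1_c25 LD2_c25 LD3_c40))))))
theorem f50041 : Led Lsl_dt (LP (LK LD1_c25 LD2_c25 LD3_c40)) = (LP (LK LD1_c15 LD2_c32 LD3_c18)) :=
  Lre_d IH (LK LD1_c25 LD2_c25 LD3_c40) (LK LD1_c15 LD2_c32 LD3_c18) Lrfl Lrfl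
theorem f188486 : Led Lsl_af (LP (LK LD1_c10 LD2_c25 LD3_c14)) = (LP (LK LD1_c15 LD2_c32 LD3_c18)) :=
  Lgr Lrot117 (Lpr_dt (K13.f188344 IH) (Lpr_at (f188431 IH) (Lpr_dt (f50041 IH) (Lpn (LP (LK LD1_c15 LD2_c32 LD3_c18))))))
theorem f252391 : Led Lsl_ff (LP (LK LD1_c15 LD2_c32 LD3_c18)) = (LP (LK LD1_c15 LD2_c36 LD3_c17)) :=
  Lgr Lrot30 (Lpe (f188486 IH) (Lpe (f212462 IH) (Lpr_at (f252380 IH) (Lpn (LP (LK LD1_c15 LD2_c36 LD3_c17))))))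
theorem f252396 : Led Lsl_dt (LP (LK LD1_c25 LD2_c30 LD3_c58)) = (LP (LK LD1_c15 LD2_c36 LD3_c17)) :=
  Lre_d IH (LK LD1_c25 LD2_c30 LD3_c58) (LK LD1_c15 LD2_c36 LD3_c17) Lrfl Lrfl
theorem f252397 : Led Lsl_ft (LP (LK LD1_c25 LD2_c25 LD3_c40)) = (LP (LK LD1_c25 LD2_c30 LD3_c58)) :=
  Lgr Lrot54 (Lpe (f49804 IH) (Lpr_ff (f252391 IH) (Lpe (f252396 IH) (Lpn (LP (LK LD1_c25 LD2_c30 LD3_c58))))))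
theorem f49827 : Led Lsl_ct (LP (LK LD1_c15 LD2_c32 LD3_c18)) = (LP (LK LD1_c8 LD2_c15 LD3_c55)) :=
  Lre_c IH (LK LD1_c15 LD2_c32 LD3_c18) (LK LD1_c8 LD2_c15 LD3_c55) Lrfl Lrfl
theorem f50035 : Led Lsl_bt (LP (LK LD1_c9 LD2_c39 LD3_c34)) = (LP (LK LD1_c8 LD2_c15 LD3_c55)) :=
  Lgr Lrot127 (Lpr_bf (K9.f50033 IH) (Lpn (LP (LK LD1_c8 LD2_c15 LD3_c55))))
theorem f50037 : Led Lsl_dt (LP (LK LD1_c8 LD2_c15 LD3_c55)) = (LP (LK LD1_c8 LD2_c15 LD3_c55)) :=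
  Lgr Lrot79 (Lpe (f50035 IH) (Lpr_df (K9.f43389 IH) (Lpr_bf (K9.f50033 IH) (Lpn (LP (LK LD1_c8 LD2_c15 LD3_c55))))))
theorem f49830 : Led Lsl_ct (LP (LK LD1_c8 LD2_c15 LD3_c55)) = (LP (LK LD1_c15 LD2_c32 LD3_c18)) :=
  Lre_c IH (LK LD1_c8 LD2_c15 LD3_c55) (LK LD1_c15 LD2_c32 LD3_c18) Lrfl Lrfl
theorem f53467 : Led Lsl_ct (LP (LK LD1_c25 LD2_c25 LD3_c40)) = (LP (LK LD1_c31 LD2_c53 LD3_c43)) :=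
  Lre_c IH (LK LD1_c25 LD2_c25 LD3_c40) (LK LD1_c31 LD2_c53 LD3_c43) Lrfl Lrfl
theorem f252387 : Led Lsl_dt (LP (LK LD1_c18 LD2_c46 LD3_c40)) = (LP (LK LD1_c10 LD2_c20 LD3_c49)) :=
  Lre_d IH (LK LD1_c18 LD2_c46 LD3_c40) (LK LD1_c10 LD2_c20 LD3_c49) Lrfl Lrfl
theorem f252388 : Led Lsl_dt (LP (LK LD1_c15 LD2_c36 LD3_c17)) = (LP (LK LD1_c25 LD2_c30 LD3_c58)) :=
  Lre_d IH (LK LD1_c15 LD2_c36 LD3_c17) (LK LD1_c25 LD2_c30 LD3_c58) Lrfl Lrfl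
theorem f252389 : Led Lsl_af (LP (LK LD1_c18 LD2_c46 LD3_c40)) = (LP (LK LD1_c25 LD2_c30 LD3_c58)) :=
  Lgr Lrot117 (Lpr_dt (f252387 IH) (Lpr_at (f252380 IH) (Lpr_dt (f252388 IH) (Lpn (LP (LK LD1_c25 LD2_c30 LD3_c58))))))
theorem f252404 : Led Lsl_ct (LP (LK LD1_c28 LD2_c16 LD3_c14)) = (LP (LK LD1_c18 LD2_c46 LD3_c40)) :=
  Lre_c IH (LK LD1_c28 LD2_c16 LD3_c14) (LK LD1_c18 LD2_c46 LD3_c40) Lrfl Lrfl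
theorem f252405 : Led Lsl_dt (LP (LK LD1_c31 LD2_c53 LD3_c43)) = (LP (LK LD1_c28 LD2_c16 LD3_c14)) :=
  Lgr Lrot120 (Lpe (f53467 IH) (Lpe (f49804 IH) (Lpe (f49830 IH) (Lpe (f50037 IH) (Lpe (f49827 IH) (Lpe (f50041 IH) (Lpr_ft (f252397 IH) (Lpe (f252389 IH) (Lpe (f252404 IH) (Lpn (LP (LK LD1_c28 LD2_c16 LD3_c14))))))))))))
theorem f231990 : Led Lsl_ft (LP (LK LD1_c15 LD2_c32 LD3_c18)) = (LP (LK LD1_c15 LD2_c36 LD3_c17)) :=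
  Lgr Lrot86 (Lpe (f49803 IH) (Lpe (K10.f49942 IH) (Lpe (K13.f49846 IH) (Lpr_ff (K13.f231980 IH) (Lpe (f231989 IH) (Lpn (LP (LK LD1_c15 LD2_c36 LD3_c17))))))))
theorem f252382 : Led Lsl_af (LP (LK LD1_c10 LD2_c20 LD3_c49)) = (LP (LK LD1_c15 LD2_c36 LD3_c17)) :=
  Lgr Lrot0 (Lpr_at (f252380 IH) (Lpn (LP (LK LD1_c15 LD2_c36 LD3_c17))))
theorem f212454 : Led Lsl_ct (LP (LK LD1_c10 LD2_c20 LD3_c49)) = (LP (LK LD1_c8 LD2_c26 LD3_c14)) :=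
  Lgr Lrot15 (Lpe (f212453 IH) (Lpr_cf (K12.f212445 IH) (Lpe (K9.f45003 IH) (Lpn (LP (LK LD1_c8 LD2_c26 LD3_c14))))))
theorem f252410 : Led Lsl_cf (LP (LK LD1_c10 LD2_c20 LD3_c49)) = (LP (LK LD1_c8 LD2_c26 LD3_c14)) :=
  Lgr Lrot102 (Lpr_af (f252382 IH) (Lpe (f231990 IH) (Lpr_dt (f49804 IH) (Lpr_ct (f53467 IH) (Lpr_dt (f252405 IH) (Lpr_ct (f252404 IH) (Lpr_dt (f252387 IH) (Lpr_ct (f212454 IH) (Lpr_dt (K9.f50071 IH) (Lpn (LP (LK LD1_c8 LD2_c26 LD3_c14))))))))))))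
theorem f252414 : Led Lsl_ct (LP (LK LD1_c15 LD2_c36 LD3_c17)) = (LP (LK LD1_c8 LD2_c26 LD3_c21)) :=
  Lgr Lrot111 (Lpe (f252380 IH) (Lpr_cf (f252410 IH) (Lpr_af (K9.f49457 IH) (Lpn (LP (LK LD1_c8 LD2_c26 LD3_c21))))))
theorem f252393 : Led Lsl_bt (LP (LK LD1_c25 LD2_c30 LD3_c57)) = (LP (LK LD1_c15 LD2_c36 LD3_c17)) :=
  Lre_b IH (LK LD1_c25 LD2_c30 LD3_c57) (LK LD1_c15 LD2_c36 LD3_c17) Lrfl Lrfl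
theorem f49469 : Led Lsl_bt (LP (LK LD1_c8 LD2_c26 LD3_c21)) = (LP (LK LD1_c15 LD2_c50 LD3_c51)) :=
  Lre_b IH (LK LD1_c8 LD2_c26 LD3_c21) (LK LD1_c15 LD2_c50 LD3_c51) Lrfl Lrfl
theorem f191576 : Led Lsl_cf (LP (LK LD1_c9 LD2_c39 LD3_c34)) = (LP (LK LD1_c10 LD2_c26 LD3_c26)) :=
  Lgr Lrot39 (Lpr_et (K9.f43386 IH) (Lpr_ct (K12.f191564 IH) (Lpr_et (K12.f191575 IH) (Lpn (LP (LK LD1_c10 LD2_c26 LD3_c26))))))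
theorem f191611 : Led Lsl_cf (LP (LK LD1_c10 LD2_c22 LD3_c10)) = (LP (LK LD1_c15 LD2_c50 LD3_c51)) :=
  Lgr Lrot108 (Lpr_ft (K12.f191604 IH) (Lpe (f191576 IH) (Lpr_ft (K9.f50039 IH) (Lpn (LP (LK LD1_c15 LD2_c50 LD3_c51))))))
theorem f191594 : Led Lsl_bt (LP (LK LD1_c10 LD2_c22 LD3_c10)) = (LP (LK LD1_c18 LD2_c49 LD3_c16)) :=
  Lre_b IH (LK LD1_c10 LD2_c22 LD3_c10) (LK LD1_c18 LD2_c49 LD3_c16) Lrfl Lrfl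
theorem f252497 : Led Lsl_cf (LP (LK LD1_c25 LD2_c30 LD3_c57)) = (LP (LK LD1_c18 LD2_c49 LD3_c16)) :=
  Lgr Lrot97 (Lpr_bt (f252393 IH) (Lpr_ct (f252414 IH) (Lpr_bt (f49469 IH) (Lpe (f191611 IH) (Lpr_bt (f191594 IH) (Lpn (LP (LK LD1_c18 LD2_c49 LD3_c16))))))))
theorem f252501 : Led Lsl_et (LP (LK LD1_c25 LD2_c30 LD3_c57)) = (LP (LK LD1_c15 LD2_c36 LD3_c15)) :=
  Lre_e IH (LK LD1_c25 LD2_c30 LD3_c57) (LK LD1_c15 LD2_c36 LD3_c15) Lrfl Lrfl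
theorem f191635 : Led Lsl_et (LP (LK LD1_c10 LD2_c22 LD3_c9)) = (LP (LK LD1_c18 LD2_c49 LD3_c16)) :=
  Lre_e IH (LK LD1_c10 LD2_c22 LD3_c9) (LK LD1_c18 LD2_c49 LD3_c16) Lrfl Lrfl
theorem f252502 : Led Lsl_ct (LP (LK LD1_c15 LD2_c36 LD3_c15)) = (LP (LK LD1_c10 LD2_c22 LD3_c9)) :=
  Lgr Lrot15 (Lpe (f252501 IH) (Lpr_cf (f252497 IH) (Lpe (f191635 IH) (Lpn (LP (LK LD1_c10 LD2_c22 LD3_c9))))))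
theorem f252504 : Led Lsl_cf (LP (LK LD1_c15 LD2_c36 LD3_c15)) = (LP (LK LD1_c10 LD2_c22 LD3_c9)) :=
  Lgr Lrot11 (Lpr_ct (f252502 IH) (Lpn (LP (LK LD1_c10 LD2_c22 LD3_c9))))
theorem f231984 : Led Lsl_bt (LP (LK LD1_c15 LD2_c36 LD3_c15)) = (LP (LK LD1_c8 LD2_c17 LD3_c51)) :=
  Lre_b IH (LK LD1_c15 LD2_c36 LD3_c15) (LK LD1_c8 LD2_c17 LD3_c51) Lrfl Lrfl
theorem f190766 : Led Lsl_bt (LP (LK LD1_c5 LD2_c16 LD3_c17)) = (LP (LK LD1_c10 LD2_c22 LD3_c9)) :=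
  Lre_b IH (LK LD1_c5 LD2_c16 LD3_c17) (LK LD1_c10 LD2_c22 LD3_c9) Lrfl Lrfl
theorem f252506 : Led Lsl_ct (LP (LK LD1_c8 LD2_c17 LD3_c51)) = (LP (LK LD1_c4 LD2_c13 LD3_c48)) :=
  Lgr Lrot83 (Lpe (f231984 IH) (Lpr_cf (f252504 IH) (Lpe (f190766 IH) (Lpr_cf (K10.f190758 IH) (Lpe (K12.f49455 IH) (Lpn (LP (LK LD1_c4 LD2_c13 LD3_c48))))))))
theorem f32852 : Led Lsl_ct (LP (LK LD1_c2 LD2_c34 LD3_c24)) = (LP (LK LD1_c5 LD2_c15 LD3_c4)) :=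
  Lre_c IH (LK LD1_c2 LD2_c34 LD3_c24) (LK LD1_c5 LD2_c15 LD3_c4) Lrfl Lrfl
theorem f252515 : Led Lsl_gf (LP (LK LD1_c8 LD2_c17 LD3_c51)) = (LP (LK LD1_c5 LD2_c15 LD3_c4)) :=
  Lgr Lrot104 (Lpr_ct (f252506 IH) (Lpe (K13.f49464 IH) (Lpe (K9.f50888 IH) (Lpr_gf (K12.f212247 IH) (Lpe (K12.f32435 IH) (Lpe (K10.f32428 IH) (Lpe (K1.f32847 IH) (Lpr_gt (f32318 IH) (Lpr_ct (f32852 IH) (Lpn (LP (LK LD1_c5 LD2_c15 LD3_c4))))))))))))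
theorem f32398 : Led Lsl_gt (LP (LK LD1_c2 LD2_c34 LD3_c24)) = (LP (LK LD1_c1 LD2_c14 LD3_c26)) :=
  Lre_g IH (LK LD1_c2 LD2_c34 LD3_c24) (LK LD1_c1 LD2_c14 LD3_c26) Lrfl Lrfl
theorem f32883 : Led Lsl_dt (LP (LK LD1_c1 LD2_c14 LD3_c12)) = (LP (LK LD1_c2 LD2_c34 LD3_c23)) :=
  Lre_d IH (LK LD1_c1 LD2_c14 LD3_c12) (LK LD1_c2 LD2_c34 LD3_c23) Lrfl Lrfl
theorem f192459 : Led Lsl_ct (LP (LK LD1_c5 LD2_c15 LD3_c2)) = (LP (LK LD1_c2 LD2_c34 LD3_c23)) :=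
  Lre_c IH (LK LD1_c5 LD2_c15 LD3_c2) (LK LD1_c2 LD2_c34 LD3_c23) Lrfl Lrfl
theorem f192463 : Led Lsl_dt (LP (LK LD1_c10 LD2_c19 LD3_c33)) = (LP (LK LD1_c5 LD2_c15 LD3_c2)) :=
  Lre_d IH (LK LD1_c10 LD2_c19 LD3_c33) (LK LD1_c5 LD2_c15 LD3_c2) Lrfl Lrfl
theorem f252534 : Led Lsl_gt (LP (LK LD1_c15 LD2_c36 LD3_c16)) = (LP (LK LD1_c10 LD2_c19 LD3_c33)) :=
  Lgr Lrot49 (Lpe (K13.f231970 IH) (Lpr_gf (f252515 IH) (Lpe (f32852 IH) (Lpr_gt (f32398 IH) (Lpr_dt (K10.f32375 IH) (Lpr_gt (K9.f32877 IH) (Lpr_dt (f32883 IH) (Lpe (f192459 IH) (Lpe (f192463 IH) (Lpn (LP (LK LD1_c10 LD2_c19 LD3_c33))))))))))))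
theorem f229035 : Led Lsl_ct (LP (LK LD1_c4 LD2_c8 LD3_c51)) = (LP (LK LD1_c2 LD2_c1 LD3_c46)) :=
  Lre_c IH (LK LD1_c4 LD2_c8 LD3_c51) (LK LD1_c2 LD2_c1 LD3_c46) Lrfl Lrfl
theorem f48898 : Led Lsl_ft (LP (LK LD1_c1 LD2_c14 LD3_c26)) = (LP (LK LD1_c0 LD2_c34 LD3_c29)) :=
  Lre_f IH (LK LD1_c1 LD2_c14 LD3_c26) (LK LD1_c0 LD2_c34 LD3_c29) Lrfl Lrfl
theorem f232002 : Led Lsl_gf (LP (LK LD1_c1 LD2_c14 LD3_c13)) = (LP (LK LD1_c2 LD2_c1 LD3_c46)) :=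
  Lgr Lrot76 (Lpe (K9.f32440 IH) (Lpe (f48898 IH) (Lpr_gt (K13.f231996 IH) (Lpn (LP (LK LD1_c2 LD2_c1 LD3_c46))))))
theorem f45350 : Led Lsl_dt (LP (LK LD1_c2 LD2_c34 LD3_c25)) = (LP (LK LD1_c5 LD2_c15 LD3_c8)) :=
  Lre_d IH (LK LD1_c2 LD2_c34 LD3_c25) (LK LD1_c5 LD2_c15 LD3_c8) Lrfl Lrfl
theorem f45512 : Led Lsl_at (LP (LK LD1_c5 LD2_c16 LD3_c11)) = (LP (LK LD1_c8 LD2_c29 LD3_c4)) :=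
  Lgr Lrot51 (Lpr_df (K10.f45207 IH) (Lpr_af (K10.f45502 IH) (Lpe (K1.f45274 IH) (Lpn (LP (LK LD1_c8 LD2_c29 LD3_c4))))))
theorem f45216 : Led Lsl_ff (LP (LK LD1_c5 LD2_c16 LD3_c11)) = (LP (LK LD1_c4 LD2_c15 LD3_c16)) :=
  Lgr Lrot19 (Lpr_dt (K1.f45196 IH) (Lpr_ft (K12.f45215 IH) (Lpr_dt (K1.f45160 IH) (Lpn (LP (LK LD1_c4 LD2_c15 LD3_c16))))))
theorem f45364 : Led Lsl_gt (LP (LK LD1_c4 LD2_c15 LD3_c16)) = (LP (LK LD1_c8 LD2_c29 LD3_c30)) :=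
  Lre_g IH (LK LD1_c4 LD2_c15 LD3_c16) (LK LD1_c8 LD2_c29 LD3_c30) Lrfl Lrfl
theorem f45643 : Led Lsl_gt (LP (LK LD1_c8 LD2_c29 LD3_c30)) = (LP (LK LD1_c8 LD2_c29 LD3_c4)) :=
  Lgr Lrot46 (Lpe (f45364 IH) (Lpe (f45216 IH) (Lpr_at (f45512 IH) (Lpn (LP (LK LD1_c8 LD2_c29 LD3_c4))))))
theorem f252540 : Led Lsl_cf (LP (LK LD1_c8 LD2_c29 LD3_c30)) = (LP (LK LD1_c10 LD2_c19 LD3_c33)) :=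
  Lgr Lrot169 (Lpr_gt (f45643 IH) (Lpe (K1.f45249 IH) (Lpe (f45350 IH) (Lpe (K10.f32459 IH) (Lpr_gf (f232002 IH) (Lpe (f229035 IH) (Lpe (K12.f229039 IH) (Lpe (K13.f231967 IH) (Lpr_gt (f252534 IH) (Lpn (LP (LK LD1_c10 LD2_c19 LD3_c33))))))))))))
theorem f252543 : Led Lsl_ct (LP (LK LD1_c8 LD2_c29 LD3_c30)) = (LP (LK LD1_c10 LD2_c19 LD3_c33)) :=
  Lgr Lrot59 (Lpr_cf (f252540 IH) (Lpn (LP (LK LD1_c10 LD2_c19 LD3_c33))))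
theorem f49489 : Led Lsl_ct (LP (LK LD1_c5 LD2_c15 LD3_c6)) = (LP (LK LD1_c4 LD2_c13 LD3_c46)) :=
  Lgr Lrot59 (Lpr_cf (K10.f49484 IH) (Lpn (LP (LK LD1_c4 LD2_c13 LD3_c46))))
theorem f190900 : Led Lsl_gf (LP (LK LD1_c10 LD2_c7 LD3_c22)) = (LP (LK LD1_c5 LD2_c15 LD3_c8)) :=
  Lgr Lrot143 (Lpr_dt (f33196 IH) (Lpe (f190899 IH) (Lpe (f33266 IH) (Lpr_gf (K10.f190893 IH) (Lpe (K8.f49205 IH) (Lpe (K10.f45731 IH) (Lpe (f49489 IH) (Lpr_gt (K10.f32460 IH) (Lpr_dt (f45350 IH) (Lpn (LP (LK LD1_c5 LD2_c15 LD3_c8))))))))))))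
theorem f45409 : Led Lsl_at (LP (LK LD1_c5 LD2_c15 LD3_c8)) = (LP (LK LD1_c2 LD2_c34 LD3_c52)) :=
  Lre_a IH (LK LD1_c5 LD2_c15 LD3_c8) (LK LD1_c2 LD2_c34 LD3_c52) Lrfl Lrfl
theorem f45410 : Led Lsl_ff (LP (LK LD1_c5 LD2_c15 LD3_c8)) = (LP (LK LD1_c8 LD2_c29 LD3_c3)) :=
  Lgr Lrot30 (Lpr_at (f45409 IH) (Lpr_ft (K13.f45354 IH) (Lpr_at (K13.f45396 IH) (Lpn (LP (LK LD1_c8 LD2_c29 LD3_c3))))))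
theorem f45430 : Led Lsl_ft (LP (LK LD1_c5 LD2_c15 LD3_c8)) = (LP (LK LD1_c8 LD2_c29 LD3_c3)) :=
  Lgr Lrot48 (Lpr_ff (f45410 IH) (Lpn (LP (LK LD1_c8 LD2_c29 LD3_c3))))
theorem f45347 : Led Lsl_af (LP (LK LD1_c5 LD2_c16 LD3_c13)) = (LP (LK LD1_c8 LD2_c29 LD3_c3)) :=
  Lgr Lrot68 (Lpr_ct (K1.f45342 IH) (Lpe (K1.f45268 IH) (Lpr_ct (K10.f45286 IH) (Lpn (LP (LK LD1_c8 LD2_c29 LD3_c3))))))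
theorem f190914 : Led Lsl_gt (LP (LK LD1_c10 LD2_c7 LD3_c22)) = (LP (LK LD1_c5 LD2_c16 LD3_c13)) :=
  Lgr Lrot46 (Lpr_gf (f190900 IH) (Lpr_ft (f45430 IH) (Lpe (f45347 IH) (Lpn (LP (LK LD1_c5 LD2_c16 LD3_c13))))))
theorem f212102 : Led Lsl_gf (LP (LK LD1_c0 LD2_c34 LD3_c7)) = (LP (LK LD1_c1 LD2_c13 LD3_c22)) :=
  Lgr Lrot143 (Lpr_dt (K10.f165509 IH) (Lpe (K10.f165508 IH) (Lpe (K9.f20475 IH) (Lpr_gf (K12.f186833 IH) (Lpe (K10.f186814 IH) (Lpe (K10.f178993 IH) (Lpe (K10.f169425 IH) (Lpr_gt (K12.f212096 IH) (Lpe (K12.f185585 IH) (Lpn (LP (LK LD1_c1 LD2_c13 LD3_c22))))))))))))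
theorem f185682 : Led Lsl_bt (LP (LK LD1_c2 LD2_c32 LD3_c55)) = (LP (LK LD1_c1 LD2_c13 LD3_c22)) :=
  Lre_b IH (LK LD1_c2 LD2_c32 LD3_c55) (LK LD1_c1 LD2_c13 LD3_c22) Lrfl Lrfl
theorem f185683 : Led Lsl_ct (LP (LK LD1_c2 LD2_c32 LD3_c55)) = (LP (LK LD1_c5 LD2_c12 LD3_c9)) :=
  Lre_c IH (LK LD1_c2 LD2_c32 LD3_c55) (LK LD1_c5 LD2_c12 LD3_c9) Lrfl Lrfl
theorem f33194 : Led Lsl_bt (LP (LK LD1_c2 LD2_c31 LD3_c27)) = (LP (LK LD1_c1 LD2_c12 LD3_c49)) :=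
  Lre_b IH (LK LD1_c2 LD2_c31 LD3_c27) (LK LD1_c1 LD2_c12 LD3_c49) Lrfl Lrfl
theorem f240363 : Led Lsl_gf (LP (LK LD1_c5 LD2_c12 LD3_c9)) = (LP (LK LD1_c5 LD2_c8 LD3_c30)) :=
  Lgr Lrot126 (Lpe (f185683 IH) (Lpr_bt (f185682 IH) (Lpe (f212102 IH) (Lpr_ct (K10.f165523 IH) (Lpe (K13.f185270 IH) (Lpe (K13.f165485 IH) (Lpr_bt (K13.f240284 IH) (Lpr_gt (K13.f33265 IH) (Lpe (f33194 IH) (Lpr_ct (f190899 IH) (Lpn (LP (LK LD1_c5 LD2_c8 LD3_c30)))))))))))))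
theorem f185684 : Led Lsl_ct (LP (LK LD1_c5 LD2_c12 LD3_c9)) = (LP (LK LD1_c2 LD2_c32 LD3_c55)) :=
  Lre_c IH (LK LD1_c5 LD2_c12 LD3_c9) (LK LD1_c2 LD2_c32 LD3_c55) Lrfl Lrfl
theorem f192458 : Led Lsl_dt (LP (LK LD1_c5 LD2_c15 LD3_c2)) = (LP (LK LD1_c10 LD2_c19 LD3_c33)) :=
  Lre_d IH (LK LD1_c5 LD2_c15 LD3_c2) (LK LD1_c10 LD2_c19 LD3_c33) Lrfl Lrfl
theorem f32895 : Led Lsl_ct (LP (LK LD1_c2 LD2_c34 LD3_c23)) = (LP (LK LD1_c5 LD2_c15 LD3_c2)) :=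
  Lre_c IH (LK LD1_c2 LD2_c34 LD3_c23) (LK LD1_c5 LD2_c15 LD3_c2) Lrfl Lrfl
theorem f252553 : Led Lsl_gt (LP (LK LD1_c2 LD2_c32 LD3_c55)) = (LP (LK LD1_c2 LD2_c34 LD3_c23)) :=
  Lgr Lrot150 (Lpe (f185684 IH) (Lpr_gf (f240363 IH) (Lpe (f33196 IH) (Lpr_gt (f190914 IH) (Lpr_ct (K1.f45342 IH) (Lpr_gt (f45364 IH) (Lpr_ct (f252543 IH) (Lpe (f192458 IH) (Lpe (f32895 IH) (Lpn (LP (LK LD1_c2 LD2_c34 LD3_c23))))))))))))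
theorem f250683 : Led Lsl_gt (LP (LK LD1_c2 LD2_c1 LD3_c29)) = (LP (LK LD1_c1 LD2_c16 LD3_c32)) :=
  Lgr Lrot131 (Lpe (K10.f47568 IH) (Lpr_dt (K12.f774 IH) (Lpe (f47674 IH) (Lpr_df (f250667 IH) (Lpe (K13.f1406 IH) (Lpe (K13.f246267 IH) (Lpr_dt (K13.f246261 IH) (Lpe (K13.f182501 IH) (Lpe (K12.f185688 IH) (Lpr_et (K12.f185671 IH) (Lpn (LP (LK LD1_c1 LD2_c16 LD3_c32)))))))))))))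
theorem f236157 : Led Lsl_gt (LP (LK LD1_c1 LD2_c16 LD3_c55)) = (LP (LK LD1_c2 LD2_c40 LD3_c10)) :=
  Lre_g IH (LK LD1_c1 LD2_c16 LD3_c55) (LK LD1_c2 LD2_c40 LD3_c10) Lrfl Lrfl
theorem f252561 : Led Lsl_ef (LP (LK LD1_c1 LD2_c16 LD3_c55)) = (LP (LK LD1_c1 LD2_c14 LD3_c12)) :=
  Lgr Lrot114 (Lpr_gt (f236157 IH) (Lpr_ef (f245026 IH) (Lpe (f250667 IH) (Lpr_gt (f47674 IH) (Lpe (K12.f774 IH) (Lpr_et (K10.f47568 IH) (Lpr_gt (f250683 IH) (Lpe (K12.f185672 IH) (Lpr_gt (f252553 IH) (Lpe (f32883 IH) (Lpn (LP (LK LD1_c1 LD2_c14 LD3_c12)))))))))))))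
theorem f252570 : Led Lsl_et (LP (LK LD1_c1 LD2_c16 LD3_c55)) = (LP (LK LD1_c1 LD2_c14 LD3_c12)) :=
  Lgr Lrot87 (Lpr_ef (f252561 IH) (Lpn (LP (LK LD1_c1 LD2_c14 LD3_c12))))
theorem f252572 : Led Lsl_et (LP (LK LD1_c1 LD2_c11 LD3_c25)) = (LP (LK LD1_c2 LD2_c28 LD3_c24)) :=
  Lre_e IH (LK LD1_c1 LD2_c11 LD3_c25) (LK LD1_c2 LD2_c28 LD3_c24) Lrfl Lrfl
theorem f252573 : Led Lsl_bf (LP (LK LD1_c1 LD2_c16 LD3_c55)) = (LP (LK LD1_c2 LD2_c28 LD3_c24)) :=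
  Lgr Lrot96 (Lpr_et (f252570 IH) (Lpr_bt (K10.f165850 IH) (Lpr_et (f252572 IH) (Lpn (LP (LK LD1_c2 LD2_c28 LD3_c24))))))
theorem f175071 : Led Lsl_dt (LP (LK LD1_c1 LD2_c16 LD3_c55)) = (LP (LK LD1_c2 LD2_c40 LD3_c25)) :=
  Lre_d IH (LK LD1_c1 LD2_c16 LD3_c55) (LK LD1_c2 LD2_c40 LD3_c25) Lrfl Lrfl
theorem f252678 : Led Lsl_dt (LP (LK LD1_c5 LD2_c1 LD3_c23)) = (LP (LK LD1_c2 LD2_c28 LD3_c24)) :=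
  Lre_d IH (LK LD1_c5 LD2_c1 LD3_c23) (LK LD1_c2 LD2_c28 LD3_c24) Lrfl Lrfl
theorem f252679 : Led Lsl_bt (LP (LK LD1_c2 LD2_c40 LD3_c25)) = (LP (LK LD1_c5 LD2_c1 LD3_c23)) :=
  Lgr Lrot95 (Lpe (f175071 IH) (Lpr_bf (f252573 IH) (Lpe (f252678 IH) (Lpn (LP (LK LD1_c5 LD2_c1 LD3_c23))))))
theorem f252682 : Led Lsl_bf (LP (LK LD1_c2 LD2_c40 LD3_c25)) = (LP (LK LD1_c5 LD2_c1 LD3_c23)) :=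
  Lgr Lrot24 (Lpr_bt (f252679 IH) (Lpn (LP (LK LD1_c5 LD2_c1 LD3_c23))))
theorem f192535 : Led Lsl_gt (LP (LK LD1_c0 LD2_c26 LD3_c16)) = (LP (LK LD1_c0 LD2_c39 LD3_c13)) :=
  Lgr Lrot5 (Lpr_ft (K9.f49599 IH) (Lpe (K9.f49600 IH) (Lpr_gf (K10.f192533 IH) (Lpn (LP (LK LD1_c0 LD2_c39 LD3_c13))))))
theorem f182084 : Led Lsl_dt (LP (LK LD1_c0 LD2_c39 LD3_c13)) = (LP (LK LD1_c1 LD2_c25 LD3_c8)) :=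
  Lre_d IH (LK LD1_c0 LD2_c39 LD3_c13) (LK LD1_c1 LD2_c25 LD3_c8) Lrfl Lrfl
theorem f252580 : Led Lsl_gf (LP (LK LD1_c2 LD2_c40 LD3_c25)) = (LP (LK LD1_c1 LD2_c25 LD3_c8)) :=
  Lgr Lrot134 (Lpe (f175071 IH) (Lpr_et (f252570 IH) (Lpr_gt (K9.f32434 IH) (Lpe (K1.f32319 IH) (Lpr_dt (K8.f47494 IH) (Lpr_gt (K1.f32156 IH) (Lpe (K1.f47534 IH) (Lpr_et (K9.f47743 IH) (Lpr_gt (f192535 IH) (Lpr_dt (f182084 IH) (Lpn (LP (LK LD1_c1 LD2_c25 LD3_c8)))))))))))))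
theorem f183371 : Led Lsl_bt (LP (LK LD1_c0 LD2_c39 LD3_c14)) = (LP (LK LD1_c1 LD2_c25 LD3_c8)) :=
  Lre_b IH (LK LD1_c0 LD2_c39 LD3_c14) (LK LD1_c1 LD2_c25 LD3_c8) Lrfl Lrfl
theorem f181192 : Led Lsl_gt (LP (LK LD1_c2 LD2_c58 LD3_c53)) = (LP (LK LD1_c1 LD2_c25 LD3_c10)) :=
  Lre_g IH (LK LD1_c2 LD2_c58 LD3_c53) (LK LD1_c1 LD2_c25 LD3_c10) Lrfl Lrfl
theorem f181191 : Led Lsl_dt (LP (LK LD1_c1 LD2_c25 LD3_c10)) = (LP (LK LD1_c2 LD2_c58 LD3_c55)) :=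
  Lre_d IH (LK LD1_c1 LD2_c25 LD3_c10) (LK LD1_c2 LD2_c58 LD3_c55) Lrfl Lrfl
theorem f21289 : Led Lsl_gt (LP (LK LD1_c2 LD2_c0 LD3_c42)) = (LP (LK LD1_c0 LD2_c57 LD3_c19)) :=
  Lre_g IH (LK LD1_c2 LD2_c0 LD3_c42) (LK LD1_c0 LD2_c57 LD3_c19) Lrfl Lrfl
theorem f183883 : Led Lsl_cf (LP (LK LD1_c2 LD2_c58 LD3_c53)) = (LP (LK LD1_c2 LD2_c0 LD3_c42)) :=
  Lgr Lrot166 (Lpr_gt (f181192 IH) (Lpr_dt (f181191 IH) (Lpr_gt (K10.f183369 IH) (Lpe (K1.f55433 IH) (Lpr_ct (K1.f47978 IH) (Lpe (K9.f55457 IH) (Lpr_gf (K9.f183878 IH) (Lpe (K10.f21295 IH) (Lpe (f21289 IH) (Lpn (LP (LK LD1_c2 LD2_c0 LD3_c42))))))))))))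
theorem f198661 : Led Lsl_ct (LP (LK LD1_c2 LD2_c30 LD3_c37)) = (LP (LK LD1_c5 LD2_c6 LD3_c40)) :=
  Lre_c IH (LK LD1_c2 LD2_c30 LD3_c37) (LK LD1_c5 LD2_c6 LD3_c40) Lrfl Lrfl
theorem f177470 : Led Lsl_dt (LP (LK LD1_c2 LD2_c59 LD3_c26)) = (LP (LK LD1_c1 LD2_c25 LD3_c24)) :=
  Lre_d IH (LK LD1_c2 LD2_c59 LD3_c26) (LK LD1_c1 LD2_c25 LD3_c24) Lrfl Lrfl
theorem f226038 : Led Lsl_gt (LP (LK LD1_c5 LD2_c6 LD3_c40)) = (LP (LK LD1_c2 LD2_c59 LD3_c26)) :=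
  Lgr Lrot94 (Lpe (f198661 IH) (Lpr_gt (K13.f226036 IH) (Lpr_dt (K13.f175956 IH) (Lpr_gt (K9.f9083 IH) (Lpr_dt (K1.f9065 IH) (Lpe (K10.f9024 IH) (Lpe (K9.f9025 IH) (Lpe (K9.f177455 IH) (Lpe (f177470 IH) (Lpn (LP (LK LD1_c2 LD2_c59 LD3_c26))))))))))))
theorem f55402 : Led Lsl_ft (LP (LK LD1_c2 LD2_c1 LD3_c4)) = (LP (LK LD1_c0 LD2_c57 LD3_c34)) :=
  Lre_f IH (LK LD1_c2 LD2_c1 LD3_c4) (LK LD1_c0 LD2_c57 LD3_c34) Lrfl Lrfl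
theorem f55403 : Led Lsl_af (LP (LK LD1_c0 LD2_c57 LD3_c7)) = (LP (LK LD1_c0 LD2_c57 LD3_c34)) :=
  Lgr Lrot109 (Lpe (K1.f55382 IH) (Lpr_df (K1.f55383 IH) (Lpe (K1.f55389 IH) (Lpe (K1.f47912 IH) (Lpe (K1.f47919 IH) (Lpe (K1.f47927 IH) (Lpe (K9.f55390 IH) (Lpe (K9.f55391 IH) (Lpr_ft (f55402 IH) (Lpn (LP (LK LD1_c0 LD2_c57 LD3_c34))))))))))))
theorem f169097 : Led Lsl_gf (LP (LK LD1_c0 LD2_c57 LD3_c7)) = (LP (LK LD1_c1 LD2_c25 LD3_c39)) :=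
  Lgr Lrot76 (Lpr_af (f55403 IH) (Lpe (f55402 IH) (Lpr_gt (K9.f169090 IH) (Lpn (LP (LK LD1_c1 LD2_c25 LD3_c39))))))
theorem f169094 : Led Lsl_dt (LP (LK LD1_c0 LD2_c39 LD3_c34)) = (LP (LK LD1_c1 LD2_c25 LD3_c41)) :=
  Lre_d IH (LK LD1_c0 LD2_c39 LD3_c34) (LK LD1_c1 LD2_c25 LD3_c41) Lrfl Lrfl
theorem f177549 : Led Lsl_cf (LP (LK LD1_c1 LD2_c25 LD3_c41)) = (LP (LK LD1_c2 LD2_c59 LD3_c26)) :=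
  Lgr Lrot14 (Lpe (f169094 IH) (Lpe (K9.f169087 IH) (Lpe (K1.f55381 IH) (Lpr_gf (f169097 IH) (Lpr_ct (K9.f177448 IH) (Lpr_gt (K9.f9046 IH) (Lpe (K9.f8959 IH) (Lpr_gt (K11.f177544 IH) (Lpr_dt (K11.f177467 IH) (Lpn (LP (LK LD1_c2 LD2_c59 LD3_c26))))))))))))
theorem f226053 : Led Lsl_gf (LP (LK LD1_c2 LD2_c30 LD3_c37)) = (LP (LK LD1_c1 LD2_c25 LD3_c48)) :=
  Lgr Lrot147 (Lpr_ct (f198661 IH) (Lpr_gt (f226038 IH) (Lpe (f177549 IH) (Lpe (f169094 IH) (Lpe (K9.f20589 IH) (Lpe (K0.f6885 IH) (Lpe (K9.f9027 IH) (Lpe (K9.f9042 IH) (Lpe (K11.f9043 IH) (Lpn (LP (LK LD1_c1 LD2_c25 LD3_c48))))))))))))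
theorem f166154 : Led Lsl_dt (LP (LK LD1_c2 LD2_c30 LD3_c37)) = (LP (LK LD1_c1 LD2_c12 LD3_c18)) :=
  Lre_d IH (LK LD1_c2 LD2_c30 LD3_c37) (LK LD1_c1 LD2_c12 LD3_c18) Lrfl Lrfl
theorem f226056 : Led Lsl_gf (LP (LK LD1_c0 LD2_c15 LD3_c1)) = (LP (LK LD1_c0 LD2_c12 LD3_c45)) :=
  Lgr Lrot143 (Lpr_dt (K12.f22136 IH) (Lpe (K11.f166158 IH) (Lpe (f166154 IH) (Lpr_gf (f226053 IH) (Lpe (K11.f20757 IH) (Lpe (K9.f20756 IH) (Lpe (K9.f9066 IH) (Lpr_gt (K9.f20652 IH) (Lpe (K9.f20662 IH) (Lpn (LP (LK LD1_c0 LD2_c12 LD3_c45))))))))))))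
theorem f166140 : Led Lsl_ct (LP (LK LD1_c2 LD2_c30 LD3_c30)) = (LP (LK LD1_c1 LD2_c12 LD3_c15)) :=
  Lre_c IH (LK LD1_c2 LD2_c30 LD3_c30) (LK LD1_c1 LD2_c12 LD3_c15) Lrfl Lrfl
theorem f166134 : Led Lsl_dt (LP (LK LD1_c2 LD2_c30 LD3_c30)) = (LP (LK LD1_c5 LD2_c6 LD3_c28)) :=
  Lre_d IH (LK LD1_c2 LD2_c30 LD3_c30) (LK LD1_c5 LD2_c6 LD3_c28) Lrfl Lrfl
theorem f198716 : Led Lsl_gf (LP (LK LD1_c2 LD2_c30 LD3_c30)) = (LP (LK LD1_c2 LD2_c0 LD3_c43)) :=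
  Lgr Lrot154 (Lpr_dt (f166134 IH) (Lpr_ct (K11.f198705 IH) (Lpe (K10.f20711 IH) (Lpe (K11.f198570 IH) (Lpe (K9.f55907 IH) (Lpe (K9.f175306 IH) (Lpr_ct (K11.f8456 IH) (Lpr_gt (K10.f175314 IH) (Lpr_dt (K12.f187522 IH) (Lpn (LP (LK LD1_c2 LD2_c0 LD3_c43))))))))))))
theorem f226059 : Led Lsl_dt (LP (LK LD1_c2 LD2_c0 LD3_c42)) = (LP (LK LD1_c1 LD2_c0 LD3_c28)) :=
  Lgr Lrot6 (Lpr_gt (f21289 IH) (Lpr_ct (K12.f21290 IH) (Lpe (f198716 IH) (Lpr_ct (f166140 IH) (Lpe (K9.f165880 IH) (Lpe (K9.f166125 IH) (Lpr_gf (f226056 IH) (Lpe (K9.f20659 IH) (Lpe (K9.f179863 IH) (Lpn (LP (LK LD1_c1 LD2_c0 LD3_c28))))))))))))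
theorem f226065 : Led Lsl_gf (LP (LK LD1_c2 LD2_c0 LD3_c42)) = (LP (LK LD1_c0 LD2_c57 LD3_c21)) :=
  Lgr Lrot143 (Lpr_dt (f226059 IH) (Lpe (K9.f179867 IH) (Lpe (K10.f193791 IH) (Lpr_gf (K10.f193795 IH) (Lpe (K10.f59124 IH) (Lpe (K9.f101497 IH) (Lpe (K1.f47089 IH) (Lpe (K10.f187524 IH) (Lpr_dt (f22055 IH) (Lpn (LP (LK LD1_c0 LD2_c57 LD3_c21))))))))))))
theorem f226069 : Led Lsl_bt (LP (LK LD1_c2 LD2_c0 LD3_c45)) = (LP (LK LD1_c0 LD2_c57 LD3_c21)) :=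
  Lre_b IH (LK LD1_c2 LD2_c0 LD3_c45) (LK LD1_c0 LD2_c57 LD3_c21) Lrfl Lrfl
theorem f190942 : Led Lsl_ct (LP (LK LD1_c2 LD2_c0 LD3_c45)) = (LP (LK LD1_c4 LD2_c6 LD3_c50)) :=
  Lre_c IH (LK LD1_c2 LD2_c0 LD3_c45) (LK LD1_c4 LD2_c6 LD3_c50) Lrfl Lrfl
theorem f190944 : Led Lsl_gt (LP (LK LD1_c8 LD2_c14 LD3_c12)) = (LP (LK LD1_c4 LD2_c6 LD3_c50)) :=
  Lre_g IH (LK LD1_c8 LD2_c14 LD3_c12) (LK LD1_c4 LD2_c6 LD3_c50) Lrfl Lrfl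
theorem f252989 : Led Lsl_cf (LP (LK LD1_c8 LD2_c14 LD3_c12)) = (LP (LK LD1_c5 LD2_c1 LD3_c23)) :=
  Lgr Lrot160 (Lpr_gt (f190944 IH) (Lpe (f190942 IH) (Lpr_bt (f226069 IH) (Lpe (f226065 IH) (Lpe (f183883 IH) (Lpr_gt (f181192 IH) (Lpe (K10.f181190 IH) (Lpr_bt (f183371 IH) (Lpe (f252580 IH) (Lpr_bf (f252682 IH) (Lpn (LP (LK LD1_c5 LD2_c1 LD3_c23)))))))))))))
theorem f190940 : Led Lsl_ct (LP (LK LD1_c4 LD2_c6 LD3_c50)) = (LP (LK LD1_c2 LD2_c0 LD3_c45)) :=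
  Lre_c IH (LK LD1_c4 LD2_c6 LD3_c50) (LK LD1_c2 LD2_c0 LD3_c45) Lrfl Lrfl
theorem f190947 : Led Lsl_gt (LP (LK LD1_c1 LD2_c8 LD3_c42)) = (LP (LK LD1_c0 LD2_c57 LD3_c20)) :=
  Lgr Lrot5 (Lpr_ft (K0.f27551 IH) (Lpr_at (K0.f27545 IH) (Lpr_gf (K10.f190945 IH) (Lpn (LP (LK LD1_c0 LD2_c57 LD3_c20))))))
theorem f28176 : Led Lsl_dt (LP (LK LD1_c1 LD2_c57 LD3_c18)) = (LP (LK LD1_c4 LD2_c0 LD3_c61)) :=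
  Lre_d IH (LK LD1_c1 LD2_c57 LD3_c18) (LK LD1_c4 LD2_c0 LD3_c61) Lrfl Lrfl
theorem f253002 : Led Lsl_gt (LP (LK LD1_c4 LD2_c0 LD3_c61)) = (LP (LK LD1_c5 LD2_c1 LD3_c23)) :=
  Lgr Lrot9 (Lpe (f28176 IH) (Lpr_gt (K10.f28055 IH) (Lpr_ct (K10.f50979 IH) (Lpr_gt (f190947 IH) (Lpr_ct (K10.f190933 IH) (Lpe (K13.f22068 IH) (Lpe (f190940 IH) (Lpe (f190944 IH) (Lpr_cf (f252989 IH) (Lpn (LP (LK LD1_c5 LD2_c1 LD3_c23))))))))))))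
theorem f27604 : Led Lsl_dt (LP (LK LD1_c0 LD2_c59 LD3_c16)) = (LP (LK LD1_c2 LD2_c4 LD3_c32)) :=
  Lre_d IH (LK LD1_c0 LD2_c59 LD3_c16) (LK LD1_c2 LD2_c4 LD3_c32) Lrfl Lrfl
theorem f252669 : Led Lsl_ct (LP (LK LD1_c1 LD2_c11 LD3_c27)) = (LP (LK LD1_c2 LD2_c28 LD3_c24)) :=
  Lre_c IH (LK LD1_c1 LD2_c11 LD3_c27) (LK LD1_c2 LD2_c28 LD3_c24) Lrfl Lrfl
theorem f252681 : Led Lsl_dt (LP (LK LD1_c2 LD2_c28 LD3_c27)) = (LP (LK LD1_c1 LD2_c11 LD3_c27)) :=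
  Lre_d IH (LK LD1_c2 LD2_c28 LD3_c27) (LK LD1_c1 LD2_c11 LD3_c27) Lrfl Lrfl
theorem f253031 : Led Lsl_gt (LP (LK LD1_c2 LD2_c4 LD3_c32)) = (LP (LK LD1_c2 LD2_c28 LD3_c27)) :=
  Lgr Lrot49 (Lpe (f27604 IH) (Lpe (K10.f27596 IH) (Lpe (K10.f27918 IH) (Lpr_gt (K10.f28174 IH) (Lpr_dt (f28176 IH) (Lpr_gt (f253002 IH) (Lpr_dt (f252678 IH) (Lpe (f252669 IH) (Lpe (f252681 IH) (Lpn (LP (LK LD1_c2 LD2_c28 LD3_c27))))))))))))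
theorem f27602 : Led Lsl_dt (LP (LK LD1_c2 LD2_c4 LD3_c32)) = (LP (LK LD1_c0 LD2_c59 LD3_c16)) :=
  Lre_d IH (LK LD1_c2 LD2_c4 LD3_c32) (LK LD1_c0 LD2_c59 LD3_c16) Lrfl Lrfl
theorem f28065 : Led Lsl_dt (LP (LK LD1_c0 LD2_c56 LD3_c7)) = (LP (LK LD1_c1 LD2_c58 LD3_c32)) :=
  Lre_d IH (LK LD1_c0 LD2_c56 LD3_c7) (LK LD1_c1 LD2_c58 LD3_c32) Lrfl Lrfl
theorem f187856 : Led Lsl_ct (LP (LK LD1_c4 LD2_c3 LD3_c3)) = (LP (LK LD1_c1 LD2_c58 LD3_c32)) :=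
  Lre_c IH (LK LD1_c4 LD2_c3 LD3_c3) (LK LD1_c1 LD2_c58 LD3_c32) Lrfl Lrfl
theorem f192504 : Led Lsl_ct (LP (LK LD1_c2 LD2_c28 LD3_c27)) = (LP (LK LD1_c5 LD2_c1 LD3_c30)) :=
  Lre_c IH (LK LD1_c2 LD2_c28 LD3_c27) (LK LD1_c5 LD2_c1 LD3_c30) Lrfl Lrfl
theorem f253033 : Led Lsl_gf (LP (LK LD1_c4 LD2_c3 LD3_c3)) = (LP (LK LD1_c5 LD2_c1 LD3_c30)) :=
  Lgr Lrot104 (Lpr_ct (f187856 IH) (Lpe (f28065 IH) (Lpe (K10.f183824 IH) (Lpe (K10.f187847 IH) (Lpe (K10.f50931 IH) (Lpr_gf (K10.f27597 IH) (Lpe (f27602 IH) (Lpr_gt (f253031 IH) (Lpr_ct (f192504 IH) (Lpn (LP (LK LD1_c5 LD2_c1 LD3_c30))))))))))))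
theorem f194397 : Led Lsl_dt (LP (LK LD1_c4 LD2_c3 LD3_c3)) = (LP (LK LD1_c8 LD2_c6 LD3_c43)) :=
  Lre_d IH (LK LD1_c4 LD2_c3 LD3_c3) (LK LD1_c8 LD2_c6 LD3_c43) Lrfl Lrfl
theorem f216126 : Led Lsl_cf (LP (LK LD1_c4 LD2_c1 LD3_c1)) = (LP (LK LD1_c4 LD2_c50 LD3_c41)) :=
  Lgr Lrot11 (Lpr_ct (K13.f216120 IH) (Lpn (LP (LK LD1_c4 LD2_c50 LD3_c41))))
theorem f28046 : Led Lsl_gt (LP (LK LD1_c4 LD2_c1 LD3_c1)) = (LP (LK LD1_c1 LD2_c58 LD3_c37)) :=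
  Lre_g IH (LK LD1_c4 LD2_c1 LD3_c1) (LK LD1_c1 LD2_c58 LD3_c37) Lrfl Lrfl
theorem f27682 : Led Lsl_gt (LP (LK LD1_c4 LD2_c50 LD3_c44)) = (LP (LK LD1_c9 LD2_c33 LD3_c39)) :=
  Lre_g IH (LK LD1_c4 LD2_c50 LD3_c44) (LK LD1_c9 LD2_c33 LD3_c39) Lrfl Lrfl
theorem f51042 : Led Lsl_gt (LP (LK LD1_c1 LD2_c58 LD3_c35)) = (LP (LK LD1_c0 LD2_c56 LD3_c8)) :=
  Lre_g IH (LK LD1_c1 LD2_c58 LD3_c35) (LK LD1_c0 LD2_c56 LD3_c8) Lrfl Lrfl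
theorem f50921 : Led Lsl_ct (LP (LK LD1_c8 LD2_c7 LD3_c10)) = (LP (LK LD1_c4 LD2_c3 LD3_c16)) :=
  Lre_c IH (LK LD1_c8 LD2_c7 LD3_c10) (LK LD1_c4 LD2_c3 LD3_c16) Lrfl Lrfl
theorem f50922 : Led Lsl_at (LP (LK LD1_c9 LD2_c33 LD3_c42)) = (LP (LK LD1_c8 LD2_c7 LD3_c10)) :=
  Lgr Lrot107 (Lpr_cf (K10.f50916 IH) (Lpe (K10.f50920 IH) (Lpe (f50921 IH) (Lpn (LP (LK LD1_c8 LD2_c7 LD3_c10))))))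
theorem f51278 : Led Lsl_gt (LP (LK LD1_c9 LD2_c33 LD3_c39)) = (LP (LK LD1_c8 LD2_c7 LD3_c10)) :=
  Lgr Lrot46 (Lpe (f27682 IH) (Lpr_ft (K10.f50970 IH) (Lpr_at (f50922 IH) (Lpn (LP (LK LD1_c8 LD2_c7 LD3_c10))))))
theorem f192195 : Led Lsl_dt (LP (LK LD1_c8 LD2_c6 LD3_c43)) = (LP (LK LD1_c4 LD2_c3 LD3_c3)) :=
  Lre_d IH (LK LD1_c8 LD2_c6 LD3_c43) (LK LD1_c4 LD2_c3 LD3_c3) Lrfl Lrfl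
theorem f194387 : Led Lsl_gt (LP (LK LD1_c9 LD2_c33 LD3_c42)) = (LP (LK LD1_c8 LD2_c6 LD3_c43)) :=
  Lgr Lrot49 (Lpe (K10.f27591 IH) (Lpr_gf (K10.f194383 IH) (Lpe (K10.f51369 IH) (Lpr_gt (K10.f28066 IH) (Lpr_dt (K9.f28060 IH) (Lpr_gt (K10.f28064 IH) (Lpr_dt (f28065 IH) (Lpe (f187856 IH) (Lpe (f192195 IH) (Lpn (LP (LK LD1_c8 LD2_c6 LD3_c43))))))))))))
theorem f195960 : Led Lsl_cf (LP (LK LD1_c9 LD2_c33 LD3_c39)) = (LP (LK LD1_c8 LD2_c6 LD3_c43)) :=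
  Lgr Lrot169 (Lpr_gt (f51278 IH) (Lpr_ct (f50921 IH) (Lpe (K10.f51027 IH) (Lpe (K10.f50299 IH) (Lpe (f51042 IH) (Lpe (K13.f51280 IH) (Lpr_gf (K13.f195955 IH) (Lpe (K10.f27601 IH) (Lpr_gt (f194387 IH) (Lpn (LP (LK LD1_c8 LD2_c6 LD3_c43))))))))))))
theorem f196001 : Led Lsl_ct (LP (LK LD1_c9 LD2_c33 LD3_c39)) = (LP (LK LD1_c8 LD2_c6 LD3_c43)) :=
  Lgr Lrot59 (Lpr_cf (f195960 IH) (Lpn (LP (LK LD1_c8 LD2_c6 LD3_c43))))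
theorem f216254 : Led Lsl_gf (LP (LK LD1_c4 LD2_c14 LD3_c24)) = (LP (LK LD1_c8 LD2_c6 LD3_c43)) :=
  Lgr Lrot104 (Lpe (K10.f50974 IH) (Lpe (K10.f50912 IH) (Lpe (K10.f50374 IH) (Lpe (f28046 IH) (Lpr_cf (f216126 IH) (Lpe (K13.f27667 IH) (Lpe (K10.f27648 IH) (Lpr_gt (f27682 IH) (Lpr_ct (f196001 IH) (Lpn (LP (LK LD1_c8 LD2_c6 LD3_c43))))))))))))
theorem f253042 : Led Lsl_gf (LP (LK LD1_c2 LD2_c0 LD3_c45)) = (LP (LK LD1_c2 LD2_c28 LD3_c27)) :=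
  Lgr Lrot144 (Lpr_dt (K13.f22068 IH) (Lpe (K10.f190945 IH) (Lpr_dt (K10.f8099 IH) (Lpe (K10.f27647 IH) (Lpe (K10.f50908 IH) (Lpr_gf (f216254 IH) (Lpe (f194397 IH) (Lpr_gf (f253033 IH) (Lpe (f192504 IH) (Lpn (LP (LK LD1_c2 LD2_c28 LD3_c27))))))))))))
theorem f22033 : Led Lsl_bt (LP (LK LD1_c5 LD2_c9 LD3_c47)) = (LP (LK LD1_c2 LD2_c31 LD3_c60)) :=
  Lre_b IH (LK LD1_c5 LD2_c9 LD3_c47) (LK LD1_c2 LD2_c31 LD3_c60) Lrfl Lrfl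
theorem f22034 : Led Lsl_bt (LP (LK LD1_c2 LD2_c0 LD3_c48)) = (LP (LK LD1_c4 LD2_c6 LD3_c51)) :=
  Lre_b IH (LK LD1_c2 LD2_c0 LD3_c48) (LK LD1_c4 LD2_c6 LD3_c51) Lrfl Lrfl
theorem f22035 : Led Lsl_df (LP (LK LD1_c5 LD2_c9 LD3_c47)) = (LP (LK LD1_c4 LD2_c6 LD3_c51)) :=
  Lgr Lrot12 (Lpr_bt (f22033 IH) (Lpr_dt (K13.f22027 IH) (Lpr_bt (f22034 IH) (Lpn (LP (LK LD1_c4 LD2_c6 LD3_c51))))))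
theorem f22078 : Led Lsl_gt (LP (LK LD1_c5 LD2_c9 LD3_c47)) = (LP (LK LD1_c10 LD2_c10 LD3_c20)) :=
  Lre_g IH (LK LD1_c5 LD2_c9 LD3_c47) (LK LD1_c10 LD2_c10 LD3_c20) Lrfl Lrfl
theorem f253041 : Led Lsl_et (LP (LK LD1_c5 LD2_c1 LD3_c28)) = (LP (LK LD1_c2 LD2_c28 LD3_c27)) :=
  Lre_e IH (LK LD1_c5 LD2_c1 LD3_c28) (LK LD1_c2 LD2_c28 LD3_c27) Lrfl Lrfl
theorem f247906 : Led Lsl_dt (LP (LK LD1_c5 LD2_c1 LD3_c28)) = (LP (LK LD1_c2 LD2_c28 LD3_c26)) :=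
  Lre_d IH (LK LD1_c5 LD2_c1 LD3_c28) (LK LD1_c2 LD2_c28 LD3_c26) Lrfl Lrfl
theorem f253117 : Led Lsl_gt (LP (LK LD1_c4 LD2_c14 LD3_c40)) = (LP (LK LD1_c2 LD2_c28 LD3_c26)) :=
  Lgr Lrot112 (Lpe (K13.f190956 IH) (Lpr_et (K13.f190955 IH) (Lpe (K11.f190952 IH) (Lpe (K10.f27685 IH) (Lpr_dt (K10.f50907 IH) (Lpr_gf (K10.f190945 IH) (Lpe (K13.f22068 IH) (Lpr_gf (f253042 IH) (Lpe (f253041 IH) (Lpr_dt (f247906 IH) (Lpn (LP (LK LD1_c2 LD2_c28 LD3_c26)))))))))))))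
theorem f226889 : Led Lsl_gt (LP (LK LD1_c4 LD2_c14 LD3_c39)) = (LP (LK LD1_c2 LD2_c4 LD3_c42)) :=
  Lre_g IH (LK LD1_c4 LD2_c14 LD3_c39) (LK LD1_c2 LD2_c4 LD3_c42) Lrfl Lrfl
theorem f226890 : Led Lsl_et (LP (LK LD1_c8 LD2_c28 LD3_c6)) = (LP (LK LD1_c4 LD2_c14 LD3_c39)) :=
  Lre_e IH (LK LD1_c8 LD2_c28 LD3_c6) (LK LD1_c4 LD2_c14 LD3_c39) Lrfl Lrfl
theorem f253119 : Led Lsl_df (LP (LK LD1_c10 LD2_c10 LD3_c20)) = (LP (LK LD1_c8 LD2_c28 LD3_c6)) :=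
  Lgr Lrot168 (Lpe (f22078 IH) (Lpr_df (f22035 IH) (Lpr_et (K13.f22067 IH) (Lpr_gf (f253042 IH) (Lpe (f253041 IH) (Lpr_dt (f247906 IH) (Lpe (f253117 IH) (Lpe (K13.f190956 IH) (Lpe (f226889 IH) (Lpe (f226890 IH) (Lpn (LP (LK LD1_c8 LD2_c28 LD3_c6)))))))))))))
theorem f239632 : Led Lsl_et (LP (LK LD1_c4 LD2_c14 LD3_c39)) = (LP (LK LD1_c8 LD2_c28 LD3_c6)) :=
  Lre_e IH (LK LD1_c4 LD2_c14 LD3_c39) (LK LD1_c8 LD2_c28 LD3_c6) Lrfl Lrfl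
theorem f239620 : Led Lsl_dt (LP (LK LD1_c8 LD2_c28 LD3_c5)) = (LP (LK LD1_c4 LD2_c14 LD3_c39)) :=
  Lre_d IH (LK LD1_c8 LD2_c28 LD3_c5) (LK LD1_c4 LD2_c14 LD3_c39) Lrfl Lrfl
theorem f229232 : Led Lsl_bt (LP (LK LD1_c8 LD2_c3 LD3_c59)) = (LP (LK LD1_c15 LD2_c11 LD3_c5)) :=
  Lre_b IH (LK LD1_c8 LD2_c3 LD3_c59) (LK LD1_c15 LD2_c11 LD3_c5) Lrfl Lrfl
theorem f3395 : Led Lsl_ct (LP (LK LD1_c9 LD2_c51 LD3_c52)) = (LP (LK LD1_c5 LD2_c0 LD3_c45)) :=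
  Lre_c IH (LK LD1_c9 LD2_c51 LD3_c52) (LK LD1_c5 LD2_c0 LD3_c45) Lrfl Lrfl
theorem f239563 : Led Lsl_bt (LP (LK LD1_c18 LD2_c3 LD3_c18)) = (LP (LK LD1_c9 LD2_c51 LD3_c52)) :=
  Lre_b IH (LK LD1_c18 LD2_c3 LD3_c18) (LK LD1_c9 LD2_c51 LD3_c52) Lrfl Lrfl
theorem f239567 : Led Lsl_ct (LP (LK LD1_c15 LD2_c11 LD3_c5)) = (LP (LK LD1_c18 LD2_c3 LD3_c18)) :=
  Lgr Lrot83 (Lpe (f229232 IH) (Lpe (K12.f184651 IH) (Lpr_bf (K13.f239550 IH) (Lpe (f3395 IH) (Lpe (f239563 IH) (Lpn (LP (LK LD1_c18 LD2_c3 LD3_c18))))))))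
theorem f239554 : Led Lsl_ef (LP (LK LD1_c5 LD2_c8 LD3_c52)) = (LP (LK LD1_c5 LD2_c0 LD3_c45)) :=
  Lgr Lrot88 (Lpr_et (K13.f239548 IH) (Lpn (LP (LK LD1_c5 LD2_c0 LD3_c45))))
theorem f235375 : Led Lsl_ct (LP (LK LD1_c5 LD2_c8 LD3_c52)) = (LP (LK LD1_c10 LD2_c8 LD3_c8)) :=
  Lre_c IH (LK LD1_c5 LD2_c8 LD3_c52) (LK LD1_c10 LD2_c8 LD3_c8) Lrfl Lrfl
theorem f239556 : Led Lsl_et (LP (LK LD1_c10 LD2_c8 LD3_c8)) = (LP (LK LD1_c9 LD2_c51 LD3_c52)) :=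
  Lgr Lrot158 (Lpe (f235375 IH) (Lpr_ef (f239554 IH) (Lpe (f3395 IH) (Lpn (LP (LK LD1_c9 LD2_c51 LD3_c52))))))
theorem f235431 : Led Lsl_bt (LP (LK LD1_c18 LD2_c27 LD3_c40)) = (LP (LK LD1_c10 LD2_c8 LD3_c8)) :=
  Lre_b IH (LK LD1_c18 LD2_c27 LD3_c40) (LK LD1_c10 LD2_c8 LD3_c8) Lrfl Lrfl
theorem f239558 : Led Lsl_bt (LP (LK LD1_c9 LD2_c51 LD3_c52)) = (LP (LK LD1_c18 LD2_c3 LD3_c18)) :=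
  Lre_b IH (LK LD1_c9 LD2_c51 LD3_c52) (LK LD1_c18 LD2_c3 LD3_c18) Lrfl Lrfl
theorem f239559 : Led Lsl_ef (LP (LK LD1_c18 LD2_c27 LD3_c40)) = (LP (LK LD1_c18 LD2_c3 LD3_c18)) :=
  Lgr Lrot29 (Lpr_bt (f235431 IH) (Lpr_et (f239556 IH) (Lpr_bt (f239558 IH) (Lpn (LP (LK LD1_c18 LD2_c3 LD3_c18))))))
theorem f235396 : Led Lsl_bt (LP (LK LD1_c10 LD2_c8 LD3_c8)) = (LP (LK LD1_c18 LD2_c27 LD3_c40)) :=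
  Lre_b IH (LK LD1_c10 LD2_c8 LD3_c8) (LK LD1_c18 LD2_c27 LD3_c40) Lrfl Lrfl
theorem f235417 : Led Lsl_ct (LP (LK LD1_c8 LD2_c28 LD3_c8)) = (LP (LK LD1_c4 LD2_c14 LD3_c40)) :=
  Lre_c IH (LK LD1_c8 LD2_c28 LD3_c8) (LK LD1_c4 LD2_c14 LD3_c40) Lrfl Lrfl
theorem f235418 : Led Lsl_bt (LP (LK LD1_c15 LD2_c54 LD3_c2)) = (LP (LK LD1_c8 LD2_c28 LD3_c8)) :=
  Lre_b IH (LK LD1_c15 LD2_c54 LD3_c2) (LK LD1_c8 LD2_c28 LD3_c8) Lrfl Lrfl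
theorem f235419 : Led Lsl_ct (LP (LK LD1_c18 LD2_c27 LD3_c40)) = (LP (LK LD1_c15 LD2_c54 LD3_c2)) :=
  Lgr Lrot83 (Lpe (f235396 IH) (Lpe (f235375 IH) (Lpr_bf (K13.f235410 IH) (Lpe (f235417 IH) (Lpe (f235418 IH) (Lpn (LP (LK LD1_c15 LD2_c54 LD3_c2))))))))
theorem f239603 : Led Lsl_ef (LP (LK LD1_c15 LD2_c11 LD3_c5)) = (LP (LK LD1_c15 LD2_c54 LD3_c2)) :=
  Lgr Lrot28 (Lpr_ct (f239567 IH) (Lpe (f239559 IH) (Lpr_ct (f235419 IH) (Lpn (LP (LK LD1_c15 LD2_c54 LD3_c2))))))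
theorem f229138 : Led Lsl_bt (LP (LK LD1_c15 LD2_c11 LD3_c5)) = (LP (LK LD1_c8 LD2_c3 LD3_c59)) :=
  Lre_b IH (LK LD1_c15 LD2_c11 LD3_c5) (LK LD1_c8 LD2_c3 LD3_c59) Lrfl Lrfl
theorem f235432 : Led Lsl_bt (LP (LK LD1_c8 LD2_c28 LD3_c8)) = (LP (LK LD1_c15 LD2_c54 LD3_c2)) :=
  Lre_b IH (LK LD1_c8 LD2_c28 LD3_c8) (LK LD1_c15 LD2_c54 LD3_c2) Lrfl Lrfl
theorem f239606 : Led Lsl_et (LP (LK LD1_c8 LD2_c3 LD3_c59)) = (LP (LK LD1_c8 LD2_c28 LD3_c8)) :=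
  Lgr Lrot74 (Lpe (f229138 IH) (Lpr_ef (f239603 IH) (Lpe (f235432 IH) (Lpn (LP (LK LD1_c8 LD2_c28 LD3_c8))))))
theorem f239622 : Led Lsl_ef (LP (LK LD1_c4 LD2_c1 LD3_c40)) = (LP (LK LD1_c4 LD2_c14 LD3_c40)) :=
  Lgr Lrot28 (Lpr_ct (K12.f184651 IH) (Lpr_et (f239606 IH) (Lpr_ct (f235417 IH) (Lpn (LP (LK LD1_c4 LD2_c14 LD3_c40))))))
theorem f34069 : Led Lsl_dt (LP (LK LD1_c1 LD2_c12 LD3_c57)) = (LP (LK LD1_c0 LD2_c33 LD3_c50)) :=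
  Lre_d IH (LK LD1_c1 LD2_c12 LD3_c57) (LK LD1_c0 LD2_c33 LD3_c50) Lrfl Lrfl
theorem f21972 : Led Lsl_et (LP (LK LD1_c1 LD2_c12 LD3_c57)) = (LP (LK LD1_c2 LD2_c31 LD3_c49)) :=
  Lre_e IH (LK LD1_c1 LD2_c12 LD3_c57) (LK LD1_c2 LD2_c31 LD3_c49) Lrfl Lrfl
theorem f21975 : Led Lsl_gt (LP (LK LD1_c2 LD2_c31 LD3_c49)) = (LP (LK LD1_c5 LD2_c9 LD3_c24)) :=
  Lre_g IH (LK LD1_c2 LD2_c31 LD3_c49) (LK LD1_c5 LD2_c9 LD3_c24) Lrfl Lrfl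
theorem f239625 : Led Lsl_ef (LP (LK LD1_c5 LD2_c9 LD3_c24)) = (LP (LK LD1_c8 LD2_c28 LD3_c5)) :=
  Lgr Lrot17 (Lpe (f21975 IH) (Lpe (f21972 IH) (Lpr_dt (f34069 IH) (Lpe (K10.f184649 IH) (Lpe (K12.f182047 IH) (Lpe (K12.f182044 IH) (Lpr_ef (f239622 IH) (Lpr_dt (K13.f228346 IH) (Lpe (f226889 IH) (Lpe (f239620 IH) (Lpn (LP (LK LD1_c8 LD2_c28 LD3_c5)))))))))))))
theorem f239630 : Led Lsl_et (LP (LK LD1_c5 LD2_c9 LD3_c24)) = (LP (LK LD1_c8 LD2_c28 LD3_c5)) :=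
  Lgr Lrot87 (Lpr_ef (f239625 IH) (Lpn (LP (LK LD1_c8 LD2_c28 LD3_c5))))
theorem f21979 : Led Lsl_dt (LP (LK LD1_c10 LD2_c9 LD3_c31)) = (LP (LK LD1_c5 LD2_c9 LD3_c24)) :=
  Lre_d IH (LK LD1_c10 LD2_c9 LD3_c31) (LK LD1_c5 LD2_c9 LD3_c24) Lrfl Lrfl
theorem f253124 : Led Lsl_et (LP (LK LD1_c10 LD2_c10 LD3_c20)) = (LP (LK LD1_c10 LD2_c9 LD3_c31)) :=
  Lgr Lrot71 (Lpr_df (f253119 IH) (Lpe (f239632 IH) (Lpe (f239620 IH) (Lpe (f239630 IH) (Lpe (f21979 IH) (Lpn (LP (LK LD1_c10 LD2_c9 LD3_c31))))))))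
theorem f253157 : Led Lsl_ef (LP (LK LD1_c10 LD2_c10 LD3_c20)) = (LP (LK LD1_c10 LD2_c9 LD3_c31)) :=
  Lgr Lrot88 (Lpr_et (f253124 IH) (Lpn (LP (LK LD1_c10 LD2_c9 LD3_c31))))
theorem f22016 : Led Lsl_bt (LP (LK LD1_c1 LD2_c13 LD3_c0)) = (LP (LK LD1_c2 LD2_c31 LD3_c58)) :=
  Lre_b IH (LK LD1_c1 LD2_c13 LD3_c0) (LK LD1_c2 LD2_c31 LD3_c58) Lrfl Lrfl
theorem f22017 : Led Lsl_bt (LP (LK LD1_c2 LD2_c0 LD3_c46)) = (LP (LK LD1_c0 LD2_c57 LD3_c22)) :=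
  Lre_b IH (LK LD1_c2 LD2_c0 LD3_c46) (LK LD1_c0 LD2_c57 LD3_c22) Lrfl Lrfl
theorem f22018 : Led Lsl_dt (LP (LK LD1_c2 LD2_c31 LD3_c58)) = (LP (LK LD1_c2 LD2_c0 LD3_c46)) :=
  Lgr Lrot79 (Lpe (f22016 IH) (Lpr_df (K10.f22012 IH) (Lpe (f22017 IH) (Lpn (LP (LK LD1_c2 LD2_c0 LD3_c46))))))
theorem f21337 : Led Lsl_ft (LP (LK LD1_c2 LD2_c31 LD3_c49)) = (LP (LK LD1_c2 LD2_c28 LD3_c39)) :=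
  Lgr Lrot75 (Lpe (K10.f21335 IH) (Lpr_ff (K0.f21323 IH) (Lpe (K10.f21336 IH) (Lpn (LP (LK LD1_c2 LD2_c28 LD3_c39))))))
theorem f21971 : Led Lsl_at (LP (LK LD1_c2 LD2_c28 LD3_c39)) = (LP (LK LD1_c5 LD2_c0 LD3_c56)) :=
  Lre_a IH (LK LD1_c2 LD2_c28 LD3_c39) (LK LD1_c5 LD2_c0 LD3_c56) Lrfl Lrfl
theorem f21976 : Led Lsl_gt (LP (LK LD1_c5 LD2_c9 LD3_c24)) = (LP (LK LD1_c5 LD2_c0 LD3_c56)) :=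
  Lgr Lrot46 (Lpe (f21975 IH) (Lpr_ft (f21337 IH) (Lpr_at (f21971 IH) (Lpn (LP (LK LD1_c5 LD2_c0 LD3_c56))))))
theorem f33305 : Led Lsl_df (LP (LK LD1_c2 LD2_c23 LD3_c13)) = (LP (LK LD1_c1 LD2_c11 LD3_c29)) :=
  Lgr Lrot38 (Lpr_dt (K0.f33297 IH) (Lpn (LP (LK LD1_c1 LD2_c11 LD3_c29))))
theorem f253165 : Led Lsl_gf (LP (LK LD1_c2 LD2_c0 LD3_c46)) = (LP (LK LD1_c2 LD2_c23 LD3_c13)) :=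
  Lgr Lrot134 (Lpe (f22018 IH) (Lpr_et (K13.f22066 IH) (Lpr_gt (f22078 IH) (Lpr_ef (f253157 IH) (Lpr_dt (f21979 IH) (Lpr_gt (f21976 IH) (Lpr_df (K10.f33336 IH) (Lpr_et (K10.f33335 IH) (Lpr_gt (K0.f33315 IH) (Lpe (f33305 IH) (Lpn (LP (LK LD1_c2 LD2_c23 LD3_c13)))))))))))))
theorem f190935 : Led Lsl_bt (LP (LK LD1_c0 LD2_c29 LD3_c54)) = (LP (LK LD1_c0 LD2_c29 LD3_c54)) :=
  Lgr Lrot119 (Lpe (K10.f22423 IH) (Lpr_bf (K10.f190890 IH) (Lpe (K12.f9513 IH) (Lpn (LP (LK LD1_c0 LD2_c29 LD3_c54))))))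
theorem f22085 : Led Lsl_bt (LP (LK LD1_c0 LD2_c57 LD3_c22)) = (LP (LK LD1_c2 LD2_c0 LD3_c46)) :=
  Lre_b IH (LK LD1_c0 LD2_c57 LD3_c22) (LK LD1_c2 LD2_c0 LD3_c46) Lrfl Lrfl
theorem f190938 : Led Lsl_cf (LP (LK LD1_c2 LD2_c0 LD3_c46)) = (LP (LK LD1_c2 LD2_c0 LD3_c46)) :=
  Lgr Lrot97 (Lpr_bt (f22017 IH) (Lpe (K12.f186807 IH) (Lpr_bt (f190935 IH) (Lpr_ct (K10.f186788 IH) (Lpr_bt (f22085 IH) (Lpn (LP (LK LD1_c2 LD2_c0 LD3_c46))))))))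
theorem f180261 : Led Lsl_cf (LP (LK LD1_c0 LD2_c58 LD3_c51)) = (LP (LK LD1_c1 LD2_c12 LD3_c8)) :=
  Lgr Lrot166 (Lpr_gt (K10.f180257 IH) (Lpr_dt (K9.f31452 IH) (Lpe (K9.f31677 IH) (Lpr_dt (K9.f31663 IH) (Lpe (K2.f34992 IH) (Lpe (K2.f34994 IH) (Lpr_gf (K9.f166171 IH) (Lpe (K9.f164741 IH) (Lpe (K10.f164751 IH) (Lpn (LP (LK LD1_c1 LD2_c12 LD3_c8))))))))))))
theorem f250220 : Led Lsl_gf (LP (LK LD1_c0 LD2_c26 LD3_c41)) = (LP (LK LD1_c0 LD2_c27 LD3_c31)) :=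
  Lgr Lrot143 (Lpr_dt (K9.f178479 IH) (Lpr_cf (f180261 IH) (Lpe (K10.f166251 IH) (Lpr_gf (K10.f185765 IH) (Lpe (K10.f185753 IH) (Lpe (K10.f185750 IH) (Lpr_cf (K8.f34885 IH) (Lpr_gt (K10.f28352 IH) (Lpr_dt (f250213 IH) (Lpn (LP (LK LD1_c0 LD2_c27 LD3_c31))))))))))))
theorem f178524 : Led Lsl_ct (LP (LK LD1_c0 LD2_c58 LD3_c9)) = (LP (LK LD1_c0 LD2_c26 LD3_c41)) :=
  Lgr Lrot15 (Lpr_ef (K9.f178521 IH) (Lpr_cf (K9.f178455 IH) (Lpe (K10.f178482 IH) (Lpn (LP (LK LD1_c0 LD2_c26 LD3_c41))))))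
theorem f167347 : Led Lsl_bt (LP (LK LD1_c2 LD2_c1 LD3_c37)) = (LP (LK LD1_c0 LD2_c57 LD3_c54)) :=
  Lre_b IH (LK LD1_c2 LD2_c1 LD3_c37) (LK LD1_c0 LD2_c57 LD3_c54) Lrfl Lrfl
theorem f167355 : Led Lsl_gt (LP (LK LD1_c2 LD2_c1 LD3_c45)) = (LP (LK LD1_c0 LD2_c57 LD3_c54)) :=
  Lre_g IH (LK LD1_c2 LD2_c1 LD3_c45) (LK LD1_c0 LD2_c57 LD3_c54) Lrfl Lrfl
theorem f253167 : Led Lsl_bt (LP (LK LD1_c0 LD2_c58 LD3_c9)) = (LP (LK LD1_c2 LD2_c1 LD3_c45)) :=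
  Lgr Lrot22 (Lpr_ct (f178524 IH) (Lpr_gf (f250220 IH) (Lpe (f248860 IH) (Lpe (f250222 IH) (Lpe (f22017 IH) (Lpe (f190938 IH) (Lpr_gf (f253165 IH) (Lpe (f167349 IH) (Lpr_bt (f167347 IH) (Lpe (f167355 IH) (Lpn (LP (LK LD1_c2 LD2_c1 LD3_c45)))))))))))))
theorem f178523 : Led Lsl_bt (LP (LK LD1_c1 LD2_c17 LD3_c35)) = (LP (LK LD1_c0 LD2_c35 LD3_c53)) :=
  Lre_b IH (LK LD1_c1 LD2_c17 LD3_c35) (LK LD1_c0 LD2_c35 LD3_c53) Lrfl Lrfl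
theorem f253174 : Led Lsl_ef (LP (LK LD1_c1 LD2_c17 LD3_c35)) = (LP (LK LD1_c2 LD2_c1 LD3_c45)) :=
  Lgr Lrot29 (Lpr_bt (f178523 IH) (Lpe (K9.f178521 IH) (Lpr_bt (f253167 IH) (Lpn (LP (LK LD1_c2 LD2_c1 LD3_c45))))))
theorem f253179 : Led Lsl_et (LP (LK LD1_c1 LD2_c17 LD3_c35)) = (LP (LK LD1_c2 LD2_c1 LD3_c45)) :=
  Lgr Lrot87 (Lpr_ef (f253174 IH) (Lpn (LP (LK LD1_c2 LD2_c1 LD3_c45))))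
theorem f212209 : Led Lsl_dt (LP (LK LD1_c1 LD2_c17 LD3_c35)) = (LP (LK LD1_c0 LD2_c35 LD3_c51)) :=
  Lre_d IH (LK LD1_c1 LD2_c17 LD3_c35) (LK LD1_c0 LD2_c35 LD3_c51) Lrfl Lrfl
theorem f220323 : Led Lsl_et (LP (LK LD1_c0 LD2_c26 LD3_c18)) = (LP (LK LD1_c0 LD2_c57 LD3_c54)) :=
  Lre_e IH (LK LD1_c0 LD2_c26 LD3_c18) (LK LD1_c0 LD2_c57 LD3_c54) Lrfl Lrfl
theorem f47724 : Led Lsl_gt (LP (LK LD1_c2 LD2_c2 LD3_c10)) = (LP (LK LD1_c4 LD2_c8 LD3_c23)) :=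
  Lre_g IH (LK LD1_c2 LD2_c2 LD3_c10) (LK LD1_c4 LD2_c8 LD3_c23) Lrfl Lrfl
theorem f47725 : Led Lsl_dt (LP (LK LD1_c4 LD2_c8 LD3_c23)) = (LP (LK LD1_c8 LD2_c16 LD3_c52)) :=
  Lre_d IH (LK LD1_c4 LD2_c8 LD3_c23) (LK LD1_c8 LD2_c16 LD3_c52) Lrfl Lrfl
theorem f222904 : Led Lsl_ff (LP (LK LD1_c4 LD2_c9 LD3_c18)) = (LP (LK LD1_c5 LD2_c17 LD3_c11)) :=
  Lgr Lrot3 (Lpr_ft (K12.f222897 IH) (Lpn (LP (LK LD1_c5 LD2_c17 LD3_c11))))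
theorem f222825 : Led Lsl_at (LP (LK LD1_c4 LD2_c9 LD3_c18)) = (LP (LK LD1_c5 LD2_c29 LD3_c31)) :=
  Lgr Lrot100 (Lpr_af (K12.f222823 IH) (Lpn (LP (LK LD1_c5 LD2_c29 LD3_c31))))
theorem f222915 : Led Lsl_gf (LP (LK LD1_c4 LD2_c8 LD3_c18)) = (LP (LK LD1_c5 LD2_c17 LD3_c11)) :=
  Lgr Lrot47 (Lpe (K12.f222246 IH) (Lpe (f222825 IH) (Lpr_ff (f222904 IH) (Lpn (LP (LK LD1_c5 LD2_c17 LD3_c11))))))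
theorem f222255 : Led Lsl_dt (LP (LK LD1_c4 LD2_c8 LD3_c18)) = (LP (LK LD1_c8 LD2_c16 LD3_c39)) :=
  Lre_d IH (LK LD1_c4 LD2_c8 LD3_c18) (LK LD1_c8 LD2_c16 LD3_c39) Lrfl Lrfl
theorem f50170 : Led Lsl_dt (LP (LK LD1_c8 LD2_c6 LD3_c29)) = (LP (LK LD1_c4 LD2_c2 LD3_c55)) :=
  Lre_d IH (LK LD1_c8 LD2_c6 LD3_c29) (LK LD1_c4 LD2_c2 LD3_c55) Lrfl Lrfl
theorem f50169 : Led Lsl_dt (LP (LK LD1_c5 LD2_c16 LD3_c57)) = (LP (LK LD1_c10 LD2_c23 LD3_c27)) :=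
  Lre_d IH (LK LD1_c5 LD2_c16 LD3_c57) (LK LD1_c10 LD2_c23 LD3_c27) Lrfl Lrfl
theorem f222985 : Led Lsl_ct (LP (LK LD1_c8 LD2_c16 LD3_c39)) = (LP (LK LD1_c10 LD2_c23 LD3_c27)) :=
  Lgr Lrot7 (Lpe (f222255 IH) (Lpr_gf (f222915 IH) (Lpe (K12.f44942 IH) (Lpe (K12.f222970 IH) (Lpr_cf (K13.f222974 IH) (Lpe (K13.f50499 IH) (Lpr_dt (f50170 IH) (Lpr_gt (K12.f50166 IH) (Lpr_dt (f50169 IH) (Lpn (LP (LK LD1_c10 LD2_c23 LD3_c27))))))))))))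
theorem f222990 : Led Lsl_cf (LP (LK LD1_c8 LD2_c16 LD3_c39)) = (LP (LK LD1_c10 LD2_c23 LD3_c27)) :=
  Lgr Lrot11 (Lpr_ct (f222985 IH) (Lpn (LP (LK LD1_c10 LD2_c23 LD3_c27))))
theorem f1305 : Led Lsl_gt (LP (LK LD1_c4 LD2_c8 LD3_c23)) = (LP (LK LD1_c2 LD2_c1 LD3_c34)) :=
  Lre_g IH (LK LD1_c4 LD2_c8 LD3_c23) (LK LD1_c2 LD2_c1 LD3_c34) Lrfl Lrfl
theorem f233925 : Led Lsl_cf (LP (LK LD1_c5 LD2_c29 LD3_c46)) = (LP (LK LD1_c8 LD2_c17 LD3_c18)) :=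
  Lgr Lrot14 (Lpe (K13.f220214 IH) (Lpe (K13.f228401 IH) (Lpr_df (K13.f233893 IH) (Lpe (K12.f50514 IH) (Lpr_ct (K12.f50420 IH) (Lpr_gt (K12.f1039 IH) (Lpr_dt (K12.f219949 IH) (Lpe (K13.f220491 IH) (Lpr_dt (K13.f216855 IH) (Lpn (LP (LK LD1_c8 LD2_c17 LD3_c18))))))))))))
theorem f234189 : Led Lsl_gt (LP (LK LD1_c8 LD2_c16 LD3_c52)) = (LP (LK LD1_c8 LD2_c17 LD3_c18)) :=
  Lgr Lrot9 (Lpe (f47725 IH) (Lpr_gt (f1305 IH) (Lpr_ct (K9.f792 IH) (Lpr_gt (K12.f1325 IH) (Lpr_ct (K12.f53450 IH) (Lpe (f222254 IH) (Lpr_cf (f222990 IH) (Lpr_gf (K13.f234180 IH) (Lpr_cf (f233925 IH) (Lpn (LP (LK LD1_c8 LD2_c17 LD3_c18))))))))))))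
theorem f234199 : Led Lsl_df (LP (LK LD1_c2 LD2_c1 LD3_c41)) = (LP (LK LD1_c2 LD2_c5 LD3_c21)) :=
  Lgr Lrot84 (Lpe (f216854 IH) (Lpe (f216853 IH) (Lpe (f234189 IH) (Lpe (f47725 IH) (Lpe (f47724 IH) (Lpe (K12.f47727 IH) (Lpr_gt (K10.f47554 IH) (Lpe (K13.f47542 IH) (Lpr_gt (K13.f234197 IH) (Lpn (LP (LK LD1_c2 LD2_c5 LD3_c21))))))))))))
theorem f253182 : Led Lsl_gf (LP (LK LD1_c0 LD2_c35 LD3_c51)) = (LP (LK LD1_c1 LD2_c14 LD3_c10)) :=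
  Lgr Lrot134 (Lpe (f212209 IH) (Lpr_et (f253179 IH) (Lpr_gt (f167355 IH) (Lpe (f220323 IH) (Lpr_dt (K12.f1433 IH) (Lpr_gt (K13.f1434 IH) (Lpr_df (f234199 IH) (Lpr_et (K13.f236407 IH) (Lpe (K13.f243582 IH) (Lpr_dt (K10.f32329 IH) (Lpn (LP (LK LD1_c1 LD2_c14 LD3_c10)))))))))))))
theorem f212217 : Led Lsl_dt (LP (LK LD1_c0 LD2_c35 LD3_c51)) = (LP (LK LD1_c1 LD2_c17 LD3_c35)) :=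
  Lre_d IH (LK LD1_c0 LD2_c35 LD3_c51) (LK LD1_c1 LD2_c17 LD3_c35) Lrfl Lrfl
theorem f220546 : Led Lsl_df (LP (LK LD1_c1 LD2_c17 LD3_c21)) = (LP (LK LD1_c0 LD2_c59 LD3_c46)) :=
  Lgr Lrot38 (Lpr_dt (K12.f220530 IH) (Lpn (LP (LK LD1_c0 LD2_c59 LD3_c46))))
theorem f253187 : Led Lsl_cf (LP (LK LD1_c1 LD2_c17 LD3_c35)) = (LP (LK LD1_c1 LD2_c17 LD3_c21)) :=
  Lgr Lrot14 (Lpe (f212217 IH) (Lpr_gf (f253182 IH) (Lpe (K10.f32329 IH) (Lpr_gf (K13.f243582 IH) (Lpr_ct (f188576 IH) (Lpr_gt (K12.f755 IH) (Lpr_dt (K12.f1403 IH) (Lpr_gt (K12.f606 IH) (Lpe (f220546 IH) (Lpn (LP (LK LD1_c1 LD2_c17 LD3_c21))))))))))))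
theorem f178471 : Led Lsl_gt (LP (LK LD1_c1 LD2_c17 LD3_c35)) = (LP (LK LD1_c2 LD2_c41 LD3_c53)) :=
  Lre_g IH (LK LD1_c1 LD2_c17 LD3_c35) (LK LD1_c2 LD2_c41 LD3_c53) Lrfl Lrfl
theorem f253245 : Led Lsl_gt (LP (LK LD1_c2 LD2_c7 LD3_c23)) = (LP (LK LD1_c1 LD2_c0 LD3_c44)) :=
  Lre_g IH (LK LD1_c2 LD2_c7 LD3_c23) (LK LD1_c1 LD2_c0 LD3_c44) Lrfl Lrfl
theorem f253246 : Led Lsl_bt (LP (LK LD1_c4 LD2_c19 LD3_c50)) = (LP (LK LD1_c2 LD2_c7 LD3_c23)) :=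
  Lre_b IH (LK LD1_c4 LD2_c19 LD3_c50) (LK LD1_c2 LD2_c7 LD3_c23) Lrfl Lrfl
theorem f253247 : Led Lsl_cf (LP (LK LD1_c2 LD2_c41 LD3_c53)) = (LP (LK LD1_c4 LD2_c19 LD3_c50)) :=
  Lgr Lrot163 (Lpe (f178471 IH) (Lpr_cf (f253187 IH) (Lpe (K12.f168327 IH) (Lpe (K13.f168316 IH) (Lpe (K9.f168320 IH) (Lpr_gf (K10.f179113 IH) (Lpe (f170289 IH) (Lpr_bt (f170290 IH) (Lpe (f253245 IH) (Lpe (f253246 IH) (Lpn (LP (LK LD1_c4 LD2_c19 LD3_c50)))))))))))))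
theorem f237768 : Led Lsl_bf (LP (LK LD1_c1 LD2_c58 LD3_c53)) = (LP (LK LD1_c1 LD2_c17 LD3_c21)) :=
  Lgr Lrot93 (Lpr_dt (K12.f227192 IH) (Lpr_bt (K13.f237727 IH) (Lpe (f220546 IH) (Lpn (LP (LK LD1_c1 LD2_c17 LD3_c21))))))
theorem f201227 : Led Lsl_bt (LP (LK LD1_c1 LD2_c58 LD3_c50)) = (LP (LK LD1_c0 LD2_c56 LD3_c15)) :=
  Lre_b IH (LK LD1_c1 LD2_c58 LD3_c50) (LK LD1_c0 LD2_c56 LD3_c15) Lrfl Lrfl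
theorem f7845 : Led Lsl_gt (LP (LK LD1_c2 LD2_c6 LD3_c4)) = (LP (LK LD1_c1 LD2_c0 LD3_c1)) :=
  Lre_g IH (LK LD1_c2 LD2_c6 LD3_c4) (LK LD1_c1 LD2_c0 LD3_c1) Lrfl Lrfl
theorem f253249 : Led Lsl_ct (LP (LK LD1_c1 LD2_c0 LD3_c44)) = (LP (LK LD1_c2 LD2_c6 LD3_c4)) :=
  Lgr Lrot91 (Lpe (f253245 IH) (Lpe (f253246 IH) (Lpe (f253247 IH) (Lpe (f178471 IH) (Lpr_cf (f253187 IH) (Lpe (f237768 IH) (Lpe (K12.f201237 IH) (Lpe (f201227 IH) (Lpe (K11.f201228 IH) (Lpe (f7845 IH) (Lpn (LP (LK LD1_c2 LD2_c6 LD3_c4)))))))))))))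
theorem f181947 : Led Lsl_bt (LP (LK LD1_c1 LD2_c0 LD3_c44)) = (LP (LK LD1_c0 LD2_c27 LD3_c38)) :=
  Lre_b IH (LK LD1_c1 LD2_c0 LD3_c44) (LK LD1_c0 LD2_c27 LD3_c38) Lrfl Lrfl
theorem f170287 : Led Lsl_ct (LP (LK LD1_c0 LD2_c12 LD3_c13)) = (LP (LK LD1_c0 LD2_c27 LD3_c38)) :=
  Lre_c IH (LK LD1_c0 LD2_c12 LD3_c13) (LK LD1_c0 LD2_c27 LD3_c38) Lrfl Lrfl
theorem f180237 : Led Lsl_df (LP (LK LD1_c0 LD2_c27 LD3_c38)) = (LP (LK LD1_c0 LD2_c31 LD3_c32)) :=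
  Lgr Lrot84 (Lpe (f170287 IH) (Lpe (K9.f167311 IH) (Lpr_gf (K9.f180235 IH) (Lpr_df (K9.f51592 IH) (Lpr_gf (K9.f53133 IH) (Lpe (K9.f53135 IH) (Lpr_gt (K10.f171187 IH) (Lpr_dt (K9.f2172 IH) (Lpe (K13.f2861 IH) (Lpn (LP (LK LD1_c0 LD2_c31 LD3_c32))))))))))))
theorem f181945 : Led Lsl_gt (LP (LK LD1_c0 LD2_c27 LD3_c38)) = (LP (LK LD1_c0 LD2_c28 LD3_c57)) :=
  Lgr Lrot49 (Lpr_df (f180237 IH) (Lpr_gf (K13.f2861 IH) (Lpe (K0.f2162 IH) (Lpe (K9.f170917 IH) (Lpr_dt (K9.f170941 IH) (Lpr_gt (K9.f179102 IH) (Lpe (K9.f178394 IH) (Lpe (K9.f166472 IH) (Lpr_df (K9.f181939 IH) (Lpn (LP (LK LD1_c0 LD2_c28 LD3_c57))))))))))))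
theorem f265 : Led Lsl_ct (LP (LK LD1_c0 LD2_c31 LD3_c38)) = (LP (LK LD1_c0 LD2_c14 LD3_c1)) :=
  Lre_c IH (LK LD1_c0 LD2_c31 LD3_c38) (LK LD1_c0 LD2_c14 LD3_c1) Lrfl Lrfl
theorem f1704 : Led Lsl_bt (LP (LK LD1_c0 LD2_c31 LD3_c38)) = (LP (LK LD1_c1 LD2_c9 LD3_c10)) :=
  Lre_b IH (LK LD1_c0 LD2_c31 LD3_c38) (LK LD1_c1 LD2_c9 LD3_c10) Lrfl Lrfl
theorem f1705 : Led Lsl_gt (LP (LK LD1_c1 LD2_c9 LD3_c10)) = (LP (LK LD1_c2 LD2_c24 LD3_c12)) :=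
  Lre_g IH (LK LD1_c1 LD2_c9 LD3_c10) (LK LD1_c2 LD2_c24 LD3_c12) Lrfl Lrfl
theorem f178978 : Led Lsl_bt (LP (LK LD1_c4 LD2_c52 LD3_c52)) = (LP (LK LD1_c2 LD2_c24 LD3_c12)) :=
  Lre_b IH (LK LD1_c4 LD2_c52 LD3_c52) (LK LD1_c2 LD2_c24 LD3_c12) Lrfl Lrfl
theorem f246158 : Led Lsl_gt (LP (LK LD1_c4 LD2_c17 LD3_c16)) = (LP (LK LD1_c2 LD2_c6 LD3_c4)) :=
  Lre_g IH (LK LD1_c4 LD2_c17 LD3_c16) (LK LD1_c2 LD2_c6 LD3_c4) Lrfl Lrfl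
theorem f253261 : Led Lsl_ct (LP (LK LD1_c4 LD2_c52 LD3_c52)) = (LP (LK LD1_c4 LD2_c17 LD3_c16)) :=
  Lgr Lrot64 (Lpr_bt (f178978 IH) (Lpe (f1705 IH) (Lpe (f1704 IH) (Lpr_ct (f265 IH) (Lpr_gf (K9.f178973 IH) (Lpe (K9.f21243 IH) (Lpe (f181945 IH) (Lpe (f181947 IH) (Lpr_ct (f253249 IH) (Lpe (f246158 IH) (Lpn (LP (LK LD1_c4 LD2_c17 LD3_c16)))))))))))))
theorem f201253 : Led Lsl_ft (LP (LK LD1_c4 LD2_c17 LD3_c16)) = (LP (LK LD1_c2 LD2_c5 LD3_c60)) :=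
  Lre_f IH (LK LD1_c4 LD2_c17 LD3_c16) (LK LD1_c2 LD2_c5 LD3_c60) Lrfl Lrfl
theorem f201246 : Led Lsl_at (LP (LK LD1_c1 LD2_c0 LD3_c1)) = (LP (LK LD1_c2 LD2_c5 LD3_c60)) :=
  Lre_a IH (LK LD1_c1 LD2_c0 LD3_c1) (LK LD1_c2 LD2_c5 LD3_c60) Lrfl Lrfl
theorem f201234 : Led Lsl_at (LP (LK LD1_c4 LD2_c3 LD3_c37)) = (LP (LK LD1_c1 LD2_c58 LD3_c50)) :=
  Lre_a IH (LK LD1_c4 LD2_c3 LD3_c37) (LK LD1_c1 LD2_c58 LD3_c50) Lrfl Lrfl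
theorem f201247 : Led Lsl_ct (LP (LK LD1_c2 LD2_c5 LD3_c60)) = (LP (LK LD1_c4 LD2_c3 LD3_c37)) :=
  Lgr Lrot111 (Lpe (f201246 IH) (Lpr_cf (K11.f201228 IH) (Lpe (f201234 IH) (Lpn (LP (LK LD1_c4 LD2_c3 LD3_c37))))))
theorem f253270 : Led Lsl_ff (LP (LK LD1_c4 LD2_c52 LD3_c52)) = (LP (LK LD1_c4 LD2_c3 LD3_c37)) :=
  Lgr Lrot23 (Lpr_ct (f253261 IH) (Lpr_ft (f201253 IH) (Lpr_ct (f201247 IH) (Lpn (LP (LK LD1_c4 LD2_c3 LD3_c37))))))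
theorem f253275 : Led Lsl_ft (LP (LK LD1_c4 LD2_c52 LD3_c52)) = (LP (LK LD1_c4 LD2_c3 LD3_c37)) :=
  Lgr Lrot48 (Lpr_ff (f253270 IH) (Lpn (LP (LK LD1_c4 LD2_c3 LD3_c37))))
theorem f253280 : Led Lsl_gt (LP (LK LD1_c4 LD2_c52 LD3_c52)) = (LP (LK LD1_c4 LD2_c3 LD3_c43)) :=
  Lgr Lrot5 (Lpr_ft (f253275 IH) (Lpr_at (f201234 IH) (Lpe (f201238 IH) (Lpn (LP (LK LD1_c4 LD2_c3 LD3_c43))))))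
theorem f231219 : Led Lsl_et (LP (LK LD1_c0 LD2_c59 LD3_c61)) = (LP (LK LD1_c2 LD2_c5 LD3_c60)) :=
  Lre_e IH (LK LD1_c0 LD2_c59 LD3_c61) (LK LD1_c2 LD2_c5 LD3_c60) Lrfl Lrfl
theorem f201243 : Led Lsl_ft (LP (LK LD1_c2 LD2_c5 LD3_c60)) = (LP (LK LD1_c4 LD2_c17 LD3_c16)) :=
  Lre_f IH (LK LD1_c2 LD2_c5 LD3_c60) (LK LD1_c4 LD2_c17 LD3_c16) Lrfl Lrfl
theorem f231220 : Led Lsl_et (LP (LK LD1_c4 LD2_c17 LD3_c16)) = (LP (LK LD1_c4 LD2_c10 LD3_c3)) :=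
  Lgr Lrot69 (Lpe (f201243 IH) (Lpe (f231219 IH) (Lpr_ff (K12.f231211 IH) (Lpe (K12.f230936 IH) (Lpe (K12.f230778 IH) (Lpn (LP (LK LD1_c4 LD2_c10 LD3_c3))))))))
theorem f178723 : Led Lsl_at (LP (LK LD1_c2 LD2_c2 LD3_c24)) = (LP (LK LD1_c4 LD2_c10 LD3_c3)) :=
  Lre_a IH (LK LD1_c2 LD2_c2 LD3_c24) (LK LD1_c4 LD2_c10 LD3_c3) Lrfl Lrfl
theorem f247555 : Led Lsl_ct (LP (LK LD1_c4 LD2_c10 LD3_c3)) = (LP (LK LD1_c4 LD2_c27 LD3_c45)) :=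
  Lgr Lrot111 (Lpe (f178723 IH) (Lpe (f170662 IH) (Lpr_af (f247550 IH) (Lpn (LP (LK LD1_c4 LD2_c27 LD3_c45))))))
theorem f253268 : Led Lsl_ef (LP (LK LD1_c4 LD2_c52 LD3_c52)) = (LP (LK LD1_c4 LD2_c27 LD3_c45)) :=
  Lgr Lrot28 (Lpr_ct (f253261 IH) (Lpr_et (f231220 IH) (Lpr_ct (f247555 IH) (Lpn (LP (LK LD1_c4 LD2_c27 LD3_c45))))))
theorem f31028 : Led Lsl_et (LP (LK LD1_c0 LD2_c27 LD3_c59)) = (LP (LK LD1_c0 LD2_c12 LD3_c21)) :=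
  Lre_e IH (LK LD1_c0 LD2_c27 LD3_c59) (LK LD1_c0 LD2_c12 LD3_c21) Lrfl Lrfl
theorem f250499 : Led Lsl_gt (LP (LK LD1_c2 LD2_c2 LD3_c2)) = (LP (LK LD1_c1 LD2_c1 LD3_c12)) :=
  Lgr Lrot112 (Lpr_df (f250492 IH) (Lpe (f250482 IH) (Lpe (K9.f44245 IH) (Lpe (K9.f44243 IH) (Lpe (K1.f44231 IH) (Lpr_gf (K1.f33114 IH) (Lpr_df (K1.f30834 IH) (Lpe (K1.f27909 IH) (Lpe (f31028 IH) (Lpr_dt (K12.f31029 IH) (Lpn (LP (LK LD1_c1 LD2_c1 LD3_c12)))))))))))))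
theorem f253286 : Led Lsl_dt (LP (LK LD1_c4 LD2_c27 LD3_c45)) = (LP (LK LD1_c2 LD2_c37 LD3_c27)) :=
  Lgr Lrot37 (Lpe (f253268 IH) (Lpr_gt (f253280 IH) (Lpe (f250492 IH) (Lpr_gt (f250499 IH) (Lpe (K12.f31029 IH) (Lpr_et (f31028 IH) (Lpr_gt (K1.f27909 IH) (Lpe (K10.f30844 IH) (Lpr_dt (K9.f30859 IH) (Lpr_gt (K10.f188020 IH) (Lpn (LP (LK LD1_c2 LD2_c37 LD3_c27)))))))))))))
theorem f253297 : Led Lsl_ff (LP (LK LD1_c4 LD2_c7 LD3_c50)) = (LP (LK LD1_c2 LD2_c37 LD3_c27)) :=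
  Lgr Lrot19 (Lpr_dt (f231292 IH) (Lpr_ft (f231300 IH) (Lpr_dt (f253286 IH) (Lpn (LP (LK LD1_c2 LD2_c37 LD3_c27))))))
theorem f253307 : Led Lsl_ft (LP (LK LD1_c4 LD2_c7 LD3_c50)) = (LP (LK LD1_c2 LD2_c37 LD3_c27)) :=
  Lgr Lrot48 (Lpr_ff (f253297 IH) (Lpn (LP (LK LD1_c2 LD2_c37 LD3_c27))))
theorem f49238 : Led Lsl_et (LP (LK LD1_c8 LD2_c15 LD3_c43)) = (LP (LK LD1_c4 LD2_c7 LD3_c50)) :=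
  Lre_e IH (LK LD1_c8 LD2_c15 LD3_c43) (LK LD1_c4 LD2_c7 LD3_c50) Lrfl Lrfl
theorem f250989 : Led Lsl_et (LP (LK LD1_c2 LD2_c37 LD3_c27)) = (LP (LK LD1_c5 LD2_c21 LD3_c45)) :=
  Lre_e IH (LK LD1_c2 LD2_c37 LD3_c27) (LK LD1_c5 LD2_c21 LD3_c45) Lrfl Lrfl
theorem f250991 : Led Lsl_ft (LP (LK LD1_c5 LD2_c21 LD3_c45)) = (LP (LK LD1_c10 LD2_c33 LD3_c44)) :=
  Lre_f IH (LK LD1_c5 LD2_c21 LD3_c45) (LK LD1_c10 LD2_c33 LD3_c44) Lrfl Lrfl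
theorem f253346 : Led Lsl_ef (LP (LK LD1_c15 LD2_c32 LD3_c4)) = (LP (LK LD1_c10 LD2_c33 LD3_c44)) :=
  Lgr Lrot21 (Lpr_ft (K13.f231315 IH) (Lpr_et (f49238 IH) (Lpr_ft (f253307 IH) (Lpr_et (f250989 IH) (Lpr_ft (f250991 IH) (Lpn (LP (LK LD1_c10 LD2_c33 LD3_c44))))))))
theorem f231352 : Led Lsl_bt (LP (LK LD1_c4 LD2_c27 LD3_c58)) = (LP (LK LD1_c8 LD2_c53 LD3_c20)) :=
  Lre_b IH (LK LD1_c4 LD2_c27 LD3_c58) (LK LD1_c8 LD2_c53 LD3_c20) Lrfl Lrfl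
theorem f231353 : Led Lsl_dt (LP (LK LD1_c8 LD2_c53 LD3_c53)) = (LP (LK LD1_c4 LD2_c27 LD3_c58)) :=
  Lre_d IH (LK LD1_c8 LD2_c53 LD3_c53) (LK LD1_c4 LD2_c27 LD3_c58) Lrfl Lrfl
theorem f231354 : Led Lsl_bt (LP (LK LD1_c15 LD2_c32 LD3_c4)) = (LP (LK LD1_c8 LD2_c53 LD3_c53)) :=
  Lgr Lrot95 (Lpr_df (K13.f231317 IH) (Lpe (f231352 IH) (Lpe (f231353 IH) (Lpn (LP (LK LD1_c8 LD2_c53 LD3_c53))))))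
theorem f253348 : Led Lsl_bt (LP (LK LD1_c5 LD2_c21 LD3_c53)) = (LP (LK LD1_c10 LD2_c33 LD3_c44)) :=
  Lre_b IH (LK LD1_c5 LD2_c21 LD3_c53) (LK LD1_c10 LD2_c33 LD3_c44) Lrfl Lrfl
theorem f253349 : Led Lsl_et (LP (LK LD1_c8 LD2_c53 LD3_c53)) = (LP (LK LD1_c5 LD2_c21 LD3_c53)) :=
  Lgr Lrot74 (Lpe (f231354 IH) (Lpr_ef (f253346 IH) (Lpe (f253348 IH) (Lpn (LP (LK LD1_c5 LD2_c21 LD3_c53))))))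
theorem f253355 : Led Lsl_ef (LP (LK LD1_c8 LD2_c53 LD3_c53)) = (LP (LK LD1_c5 LD2_c21 LD3_c53)) :=
  Lgr Lrot88 (Lpr_et (f253349 IH) (Lpn (LP (LK LD1_c5 LD2_c21 LD3_c53))))
theorem f231368 : Led Lsl_ct (LP (LK LD1_c8 LD2_c53 LD3_c53)) = (LP (LK LD1_c16 LD2_c38 LD3_c31)) :=
  Lre_c IH (LK LD1_c8 LD2_c53 LD3_c53) (LK LD1_c16 LD2_c38 LD3_c31) Lrfl Lrfl
theorem f253360 : Led Lsl_ct (LP (LK LD1_c10 LD2_c33 LD3_c59)) = (LP (LK LD1_c5 LD2_c21 LD3_c53)) :=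
  Lre_c IH (LK LD1_c10 LD2_c33 LD3_c59) (LK LD1_c5 LD2_c21 LD3_c53) Lrfl Lrfl
theorem f253361 : Led Lsl_et (LP (LK LD1_c16 LD2_c38 LD3_c31)) = (LP (LK LD1_c10 LD2_c33 LD3_c59)) :=
  Lgr Lrot158 (Lpe (f231368 IH) (Lpr_ef (f253355 IH) (Lpe (f253360 IH) (Lpn (LP (LK LD1_c10 LD2_c33 LD3_c59))))))
theorem f253369 : Led Lsl_ft (LP (LK LD1_c8 LD2_c53 LD3_c52)) = (LP (LK LD1_c16 LD2_c38 LD3_c31)) :=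
  Lre_f IH (LK LD1_c8 LD2_c53 LD3_c52) (LK LD1_c16 LD2_c38 LD3_c31) Lrfl Lrfl
theorem f253370 : Led Lsl_et (LP (LK LD1_c4 LD2_c27 LD3_c59)) = (LP (LK LD1_c8 LD2_c53 LD3_c52)) :=
  Lre_e IH (LK LD1_c4 LD2_c27 LD3_c59) (LK LD1_c8 LD2_c53 LD3_c52) Lrfl Lrfl
theorem f253371 : Led Lsl_ft (LP (LK LD1_c10 LD2_c33 LD3_c59)) = (LP (LK LD1_c5 LD2_c21 LD3_c50)) :=
  Lre_f IH (LK LD1_c10 LD2_c33 LD3_c59) (LK LD1_c5 LD2_c21 LD3_c50) Lrfl Lrfl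
theorem f215817 : Led Lsl_et (LP (LK LD1_c5 LD2_c21 LD3_c50)) = (LP (LK LD1_c2 LD2_c37 LD3_c28)) :=
  Lre_e IH (LK LD1_c5 LD2_c21 LD3_c50) (LK LD1_c2 LD2_c37 LD3_c28) Lrfl Lrfl
theorem f253372 : Led Lsl_ff (LP (LK LD1_c4 LD2_c27 LD3_c59)) = (LP (LK LD1_c2 LD2_c37 LD3_c28)) :=
  Lgr Lrot72 (Lpr_et (f253370 IH) (Lpr_ft (f253369 IH) (Lpr_et (f253361 IH) (Lpr_ft (f253371 IH) (Lpr_et (f215817 IH) (Lpn (LP (LK LD1_c2 LD2_c37 LD3_c28))))))))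
theorem f253381 : Led Lsl_at (LP (LK LD1_c4 LD2_c27 LD3_c59)) = (LP (LK LD1_c2 LD2_c37 LD3_c30)) :=
  Lgr Lrot26 (Lpr_ff (f253372 IH) (Lpr_gt (K10.f187528 IH) (Lpr_gt (K11.f198931 IH) (Lpn (LP (LK LD1_c2 LD2_c37 LD3_c30))))))
theorem f3137 : Led Lsl_dt (LP (LK LD1_c5 LD2_c3 LD3_c46)) = (LP (LK LD1_c2 LD2_c29 LD3_c21)) :=
  Lre_d IH (LK LD1_c5 LD2_c3 LD3_c46) (LK LD1_c2 LD2_c29 LD3_c21) Lrfl Lrfl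
theorem f189362 : Led Lsl_dt (LP (LK LD1_c2 LD2_c37 LD3_c28)) = (LP (LK LD1_c5 LD2_c21 LD3_c49)) :=
  Lre_d IH (LK LD1_c2 LD2_c37 LD3_c28) (LK LD1_c5 LD2_c21 LD3_c49) Lrfl Lrfl
theorem f253383 : Led Lsl_cf (LP (LK LD1_c5 LD2_c3 LD3_c46)) = (LP (LK LD1_c5 LD2_c21 LD3_c49)) :=
  Lgr Lrot118 (Lpr_dt (f3137 IH) (Lpr_ct (f3136 IH) (Lpr_dt (f166683 IH) (Lpe (K12.f199171 IH) (Lpr_dt (K11.f198942 IH) (Lpr_ct (K11.f198865 IH) (Lpe (f253381 IH) (Lpr_ff (f253372 IH) (Lpr_dt (f189362 IH) (Lpn (LP (LK LD1_c5 LD2_c21 LD3_c49))))))))))))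
theorem f249590 : Led Lsl_at (LP (LK LD1_c5 LD2_c10 LD3_c32)) = (LP (LK LD1_c10 LD2_c11 LD3_c33)) :=
  Lre_a IH (LK LD1_c5 LD2_c10 LD3_c32) (LK LD1_c10 LD2_c11 LD3_c33) Lrfl Lrfl
theorem f249591 : Led Lsl_ft (LP (LK LD1_c5 LD2_c3 LD3_c46)) = (LP (LK LD1_c5 LD2_c10 LD3_c32)) :=
  Lgr Lrot142 (Lpr_dt (f3137 IH) (Lpr_ct (f3136 IH) (Lpr_dt (f166683 IH) (Lpe (K12.f199171 IH) (Lpr_dt (K11.f198942 IH) (Lpr_ct (K11.f198865 IH) (Lpr_dt (f198873 IH) (Lpr_ct (f249571 IH) (Lpe (f249590 IH) (Lpn (LP (LK LD1_c5 LD2_c10 LD3_c32))))))))))))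
theorem f231402 : Led Lsl_dt (LP (LK LD1_c4 LD2_c27 LD3_c59)) = (LP (LK LD1_c8 LD2_c53 LD3_c56)) :=
  Lre_d IH (LK LD1_c4 LD2_c27 LD3_c59) (LK LD1_c8 LD2_c53 LD3_c56) Lrfl Lrfl
theorem f189364 : Led Lsl_dt (LP (LK LD1_c5 LD2_c21 LD3_c49)) = (LP (LK LD1_c2 LD2_c37 LD3_c28)) :=
  Lre_d IH (LK LD1_c5 LD2_c21 LD3_c49) (LK LD1_c2 LD2_c37 LD3_c28) Lrfl Lrfl
theorem f253377 : Led Lsl_ft (LP (LK LD1_c8 LD2_c53 LD3_c56)) = (LP (LK LD1_c5 LD2_c21 LD3_c49)) :=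
  Lgr Lrot54 (Lpe (f231402 IH) (Lpr_ff (f253372 IH) (Lpe (f189364 IH) (Lpn (LP (LK LD1_c5 LD2_c21 LD3_c49))))))
theorem f253393 : Led Lsl_ct (LP (LK LD1_c5 LD2_c10 LD3_c32)) = (LP (LK LD1_c8 LD2_c53 LD3_c56)) :=
  Lgr Lrot40 (Lpe (f249591 IH) (Lpr_cf (f253383 IH) (Lpe (f253377 IH) (Lpn (LP (LK LD1_c8 LD2_c53 LD3_c56))))))
theorem f192930 : Led Lsl_dt (LP (LK LD1_c2 LD2_c32 LD3_c19)) = (LP (LK LD1_c5 LD2_c10 LD3_c32)) :=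
  Lre_d IH (LK LD1_c2 LD2_c32 LD3_c19) (LK LD1_c5 LD2_c10 LD3_c32) Lrfl Lrfl
theorem f249599 : Led Lsl_ff (LP (LK LD1_c2 LD2_c29 LD3_c21)) = (LP (LK LD1_c2 LD2_c32 LD3_c19)) :=
  Lgr Lrot23 (Lpr_ct (f3136 IH) (Lpr_ft (f249593 IH) (Lpr_ct (K10.f165249 IH) (Lpn (LP (LK LD1_c2 LD2_c32 LD3_c19))))))
theorem f166920 : Led Lsl_at (LP (LK LD1_c2 LD2_c29 LD3_c21)) = (LP (LK LD1_c5 LD2_c3 LD3_c42)) :=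
  Lre_a IH (LK LD1_c2 LD2_c29 LD3_c21) (LK LD1_c5 LD2_c3 LD3_c42) Lrfl Lrfl
theorem f166912 : Led Lsl_ct (LP (LK LD1_c2 LD2_c29 LD3_c20)) = (LP (LK LD1_c5 LD2_c3 LD3_c42)) :=
  Lre_c IH (LK LD1_c2 LD2_c29 LD3_c20) (LK LD1_c5 LD2_c3 LD3_c42) Lrfl Lrfl
theorem f166882 : Led Lsl_at (LP (LK LD1_c2 LD2_c3 LD3_c22)) = (LP (LK LD1_c0 LD2_c58 LD3_c41)) :=
  Lre_a IH (LK LD1_c2 LD2_c3 LD3_c22) (LK LD1_c0 LD2_c58 LD3_c41) Lrfl Lrfl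
theorem f166883 : Led Lsl_dt (LP (LK LD1_c2 LD2_c29 LD3_c20)) = (LP (LK LD1_c2 LD2_c3 LD3_c22)) :=
  Lgr Lrot44 (Lpe (f166881 IH) (Lpr_df (K10.f166854 IH) (Lpe (f166882 IH) (Lpn (LP (LK LD1_c2 LD2_c3 LD3_c22))))))
theorem f166900 : Led Lsl_df (LP (LK LD1_c2 LD2_c29 LD3_c20)) = (LP (LK LD1_c2 LD2_c3 LD3_c22)) :=
  Lgr Lrot38 (Lpr_dt (f166883 IH) (Lpn (LP (LK LD1_c2 LD2_c3 LD3_c22))))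
theorem f231381 : Led Lsl_dt (LP (LK LD1_c8 LD2_c53 LD3_c56)) = (LP (LK LD1_c4 LD2_c27 LD3_c59)) :=
  Lre_d IH (LK LD1_c8 LD2_c53 LD3_c56) (LK LD1_c4 LD2_c27 LD3_c59) Lrfl Lrfl
theorem f231375 : Led Lsl_ct (LP (LK LD1_c4 LD2_c27 LD3_c59)) = (LP (LK LD1_c2 LD2_c11 LD3_c8)) :=
  Lre_c IH (LK LD1_c4 LD2_c27 LD3_c59) (LK LD1_c2 LD2_c11 LD3_c8) Lrfl Lrfl
theorem f231289 : Led Lsl_dt (LP (LK LD1_c2 LD2_c11 LD3_c8)) = (LP (LK LD1_c1 LD2_c2 LD3_c35)) :=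
  Lre_d IH (LK LD1_c2 LD2_c11 LD3_c8) (LK LD1_c1 LD2_c2 LD3_c35) Lrfl Lrfl
theorem f253408 : Led Lsl_cf (LP (LK LD1_c2 LD2_c3 LD3_c22)) = (LP (LK LD1_c1 LD2_c2 LD3_c35)) :=
  Lgr Lrot161 (Lpe (f166900 IH) (Lpr_ct (f166912 IH) (Lpe (f166920 IH) (Lpr_ff (f249599 IH) (Lpr_dt (f192930 IH) (Lpr_ct (f253393 IH) (Lpr_dt (f231381 IH) (Lpr_ct (f231375 IH) (Lpr_dt (f231289 IH) (Lpn (LP (LK LD1_c1 LD2_c2 LD3_c35))))))))))))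
theorem f253421 : Led Lsl_gt (LP (LK LD1_c1 LD2_c15 LD3_c49)) = (LP (LK LD1_c2 LD2_c11 LD3_c8)) :=
  Lgr Lrot49 (Lpe (K1.f46407 IH) (Lpr_gf (f192852 IH) (Lpe (K9.f34626 IH) (Lpr_gt (K10.f171520 IH) (Lpr_dt (K13.f171649 IH) (Lpe (f249618 IH) (Lpr_dt (f166883 IH) (Lpr_cf (f253408 IH) (Lpe (f231289 IH) (Lpn (LP (LK LD1_c2 LD2_c11 LD3_c8))))))))))))
theorem f231380 : Led Lsl_dt (LP (LK LD1_c1 LD2_c2 LD3_c35)) = (LP (LK LD1_c2 LD2_c11 LD3_c8)) :=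
  Lre_d IH (LK LD1_c1 LD2_c2 LD3_c35) (LK LD1_c2 LD2_c11 LD3_c8) Lrfl Lrfl
theorem f253433 : Led Lsl_et (LP (LK LD1_c1 LD2_c2 LD3_c35)) = (LP (LK LD1_c0 LD2_c28 LD3_c31)) :=
  Lre_e IH (LK LD1_c1 LD2_c2 LD3_c35) (LK LD1_c0 LD2_c28 LD3_c31) Lrfl Lrfl
theorem f219462 : Led Lsl_dt (LP (LK LD1_c1 LD2_c1 LD3_c12)) = (LP (LK LD1_c0 LD2_c27 LD3_c59)) :=
  Lre_d IH (LK LD1_c1 LD2_c1 LD3_c12) (LK LD1_c0 LD2_c27 LD3_c59) Lrfl Lrfl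
theorem f253282 : Led Lsl_dt (LP (LK LD1_c2 LD2_c6 LD3_c4)) = (LP (LK LD1_c1 LD2_c2 LD3_c39)) :=
  Lgr Lrot57 (Lpe (f246158 IH) (Lpe (f253261 IH) (Lpr_gt (f253280 IH) (Lpe (f250492 IH) (Lpr_gt (f250499 IH) (Lpr_dt (f219462 IH) (Lpe (K10.f173186 IH) (Lpe (K12.f42297 IH) (Lpe (K12.f42315 IH) (Lpn (LP (LK LD1_c1 LD2_c2 LD3_c39))))))))))))
theorem f253434 : Led Lsl_ef (LP (LK LD1_c1 LD2_c12 LD3_c60)) = (LP (LK LD1_c2 LD2_c6 LD3_c4)) :=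
  Lgr Lrot167 (Lpe (f192852 IH) (Lpr_dt (K1.f46407 IH) (Lpr_gt (f253421 IH) (Lpe (f231380 IH) (Lpr_et (f253433 IH) (Lpr_gt (f41725 IH) (Lpr_ef (f41418 IH) (Lpr_dt (f41549 IH) (Lpr_gt (K12.f41555 IH) (Lpe (f253282 IH) (Lpn (LP (LK LD1_c2 LD2_c6 LD3_c4)))))))))))))
theorem f253445 : Led Lsl_et (LP (LK LD1_c1 LD2_c12 LD3_c60)) = (LP (LK LD1_c2 LD2_c6 LD3_c4)) :=
  Lgr Lrot87 (Lpr_ef (f253434 IH) (Lpn (LP (LK LD1_c2 LD2_c6 LD3_c4))))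
theorem f253449 : Led Lsl_et (LP (LK LD1_c4 LD2_c10 LD3_c3)) = (LP (LK LD1_c4 LD2_c17 LD3_c16)) :=
  Lgr Lrot185 (Lpe (K12.f230779 IH) (Lpe (K12.f44078 IH) (Lpe (K1.f44264 IH) (Lpr_gf (K9.f183891 IH) (Lpe (K9.f183904 IH) (Lpr_dt (K9.f183905 IH) (Lpe (K9.f183913 IH) (Lpe (K9.f183912 IH) (Lpr_et (f253445 IH) (Lpe (f246158 IH) (Lpn (LP (LK LD1_c4 LD2_c17 LD3_c16)))))))))))))
theorem f165525 : Led Lsl_gt (LP (LK LD1_c1 LD2_c13 LD3_c39)) = (LP (LK LD1_c2 LD2_c33 LD3_c24)) :=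
  Lre_g IH (LK LD1_c1 LD2_c13 LD3_c39) (LK LD1_c2 LD2_c33 LD3_c24) Lrfl Lrfl
theorem f246149 : Led Lsl_gt (LP (LK LD1_c2 LD2_c6 LD3_c3)) = (LP (LK LD1_c4 LD2_c17 LD3_c16)) :=
  Lre_g IH (LK LD1_c2 LD2_c6 LD3_c3) (LK LD1_c4 LD2_c17 LD3_c16) Lrfl Lrfl
theorem f247419 : Led Lsl_et (LP (LK LD1_c4 LD2_c10 LD3_c2)) = (LP (LK LD1_c2 LD2_c6 LD3_c3)) :=
  Lgr Lrot87 (Lpr_ef (f247417 IH) (Lpn (LP (LK LD1_c2 LD2_c6 LD3_c3))))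
theorem f253456 : Led Lsl_df (LP (LK LD1_c2 LD2_c33 LD3_c24)) = (LP (LK LD1_c4 LD2_c10 LD3_c2)) :=
  Lgr Lrot132 (Lpe (f165525 IH) (Lpe (K12.f183893 IH) (Lpe (K9.f183889 IH) (Lpr_ef (K1.f46080 IH) (Lpr_dt (K1.f46078 IH) (Lpe (K12.f230660 IH) (Lpr_df (K12.f230779 IH) (Lpr_et (f253449 IH) (Lpe (f246149 IH) (Lpe (f247419 IH) (Lpn (LP (LK LD1_c4 LD2_c10 LD3_c2)))))))))))))
theorem f165532 : Led Lsl_ct (LP (LK LD1_c2 LD2_c33 LD3_c24)) = (LP (LK LD1_c5 LD2_c13 LD3_c4)) :=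
  Lre_c IH (LK LD1_c2 LD2_c33 LD3_c24) (LK LD1_c5 LD2_c13 LD3_c4) Lrfl Lrfl
theorem f238277 : Led Lsl_gt (LP (LK LD1_c5 LD2_c13 LD3_c4)) = (LP (LK LD1_c9 LD2_c39 LD3_c21)) :=
  Lgr Lrot149 (Lpe (f165532 IH) (Lpe (f165525 IH) (Lpe (K13.f165524 IH) (Lpr_ct (K10.f165523 IH) (Lpe (K10.f165511 IH) (Lpe (K10.f22020 IH) (Lpr_bt (f22016 IH) (Lpe (K13.f190953 IH) (Lpr_bf (K13.f238267 IH) (Lpr_ct (K13.f191779 IH) (Lpn (LP (LK LD1_c9 LD2_c39 LD3_c21)))))))))))))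
theorem f165538 : Led Lsl_ct (LP (LK LD1_c5 LD2_c13 LD3_c4)) = (LP (LK LD1_c2 LD2_c33 LD3_c24)) :=
  Lre_c IH (LK LD1_c5 LD2_c13 LD3_c4) (LK LD1_c2 LD2_c33 LD3_c24) Lrfl Lrfl
theorem f230685 : Led Lsl_df (LP (LK LD1_c8 LD2_c52 LD3_c26)) = (LP (LK LD1_c9 LD2_c39 LD3_c21)) :=
  Lgr Lrot155 (Lpe (K13.f47233 IH) (Lpe (K1.f46231 IH) (Lpr_gt (K13.f230676 IH) (Lpr_ct (K12.f230679 IH) (Lpr_dt (K12.f183895 IH) (Lpe (K13.f183897 IH) (Lpe (K13.f171669 IH) (Lpe (K13.f183906 IH) (Lpe (K13.f230683 IH) (Lpn (LP (LK LD1_c9 LD2_c39 LD3_c21))))))))))))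
theorem f44269 : Led Lsl_dt (LP (LK LD1_c2 LD2_c10 LD3_c48)) = (LP (LK LD1_c1 LD2_c2 LD3_c24)) :=
  Lre_d IH (LK LD1_c2 LD2_c10 LD3_c48) (LK LD1_c1 LD2_c2 LD3_c24) Lrfl Lrfl
theorem f238279 : Led Lsl_gt (LP (LK LD1_c2 LD2_c33 LD3_c24)) = (LP (LK LD1_c2 LD2_c10 LD3_c48)) :=
  Lgr Lrot94 (Lpe (f165538 IH) (Lpr_gt (f238277 IH) (Lpe (f230685 IH) (Lpe (K13.f47233 IH) (Lpr_dt (K13.f46165 IH) (Lpe (K1.f46157 IH) (Lpe (K1.f46078 IH) (Lpr_gf (K10.f46163 IH) (Lpe (f44269 IH) (Lpn (LP (LK LD1_c2 LD2_c10 LD3_c48))))))))))))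
theorem f187542 : Led Lsl_et (LP (LK LD1_c1 LD2_c2 LD3_c24)) = (LP (LK LD1_c2 LD2_c10 LD3_c49)) :=
  Lre_e IH (LK LD1_c1 LD2_c2 LD3_c24) (LK LD1_c2 LD2_c10 LD3_c49) Lrfl Lrfl
theorem f253465 : Led Lsl_gt (LP (LK LD1_c2 LD2_c10 LD3_c49)) = (LP (LK LD1_c1 LD2_c2 LD3_c37)) :=
  Lgr Lrot137 (Lpe (f187542 IH) (Lpr_dt (f44057 IH) (Lpe (f238279 IH) (Lpr_df (f253456 IH) (Lpr_et (f247419 IH) (Lpe (f7848 IH) (Lpe (K11.f7816 IH) (Lpr_dt (K13.f7867 IH) (Lpe (f7877 IH) (Lpr_df (f247405 IH) (Lpn (LP (LK LD1_c1 LD2_c2 LD3_c37)))))))))))))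
theorem f170670 : Led Lsl_gt (LP (LK LD1_c2 LD2_c2 LD3_c24)) = (LP (LK LD1_c4 LD2_c10 LD3_c2)) :=
  Lre_g IH (LK LD1_c2 LD2_c2 LD3_c24) (LK LD1_c4 LD2_c10 LD3_c2) Lrfl Lrfl
theorem f201242 : Led Lsl_at (LP (LK LD1_c4 LD2_c17 LD3_c16)) = (LP (LK LD1_c2 LD2_c6 LD3_c5)) :=
  Lre_a IH (LK LD1_c4 LD2_c17 LD3_c16) (LK LD1_c2 LD2_c6 LD3_c5) Lrfl Lrfl
theorem f253451 : Led Lsl_ef (LP (LK LD1_c2 LD2_c2 LD3_c24)) = (LP (LK LD1_c2 LD2_c6 LD3_c5)) :=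
  Lgr Lrot20 (Lpr_at (f178723 IH) (Lpr_et (f253449 IH) (Lpr_at (f201242 IH) (Lpn (LP (LK LD1_c2 LD2_c6 LD3_c5))))))
theorem f191926 : Led Lsl_et (LP (LK LD1_c0 LD2_c28 LD3_c32)) = (LP (LK LD1_c1 LD2_c2 LD3_c37)) :=
  Lre_e IH (LK LD1_c0 LD2_c28 LD3_c32) (LK LD1_c1 LD2_c2 LD3_c37) Lrfl Lrfl
theorem f253467 : Led Lsl_dt (LP (LK LD1_c2 LD2_c6 LD3_c5)) = (LP (LK LD1_c2 LD2_c11 LD3_c4)) :=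
  Lgr Lrot37 (Lpe (f253451 IH) (Lpr_gt (f170670 IH) (Lpe (f253456 IH) (Lpr_gt (f238279 IH) (Lpe (f44057 IH) (Lpr_et (f187542 IH) (Lpr_gt (f253465 IH) (Lpe (f191926 IH) (Lpr_dt (f168604 IH) (Lpr_gt (f191902 IH) (Lpn (LP (LK LD1_c2 LD2_c11 LD3_c4)))))))))))))
theorem f219627 : Led Lsl_dt (LP (LK LD1_c0 LD2_c28 LD3_c31)) = (LP (LK LD1_c1 LD2_c2 LD3_c34)) :=
  Lre_d IH (LK LD1_c0 LD2_c28 LD3_c31) (LK LD1_c1 LD2_c2 LD3_c34) Lrfl Lrfl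
theorem f253415 : Led Lsl_et (LP (LK LD1_c0 LD2_c28 LD3_c31)) = (LP (LK LD1_c1 LD2_c2 LD3_c35)) :=
  Lre_e IH (LK LD1_c0 LD2_c28 LD3_c31) (LK LD1_c1 LD2_c2 LD3_c35) Lrfl Lrfl
theorem f253477 : Led Lsl_gf (LP (LK LD1_c2 LD2_c10 LD3_c54)) = (LP (LK LD1_c1 LD2_c2 LD3_c35)) :=
  Lgr Lrot138 (Lpe (f44599 IH) (Lpr_gt (f195880 IH) (Lpe (f41526 IH) (Lpr_et (f194148 IH) (Lpr_gt (f247627 IH) (Lpr_ef (f253451 IH) (Lpr_dt (f253467 IH) (Lpr_gt (f41731 IH) (Lpe (f219627 IH) (Lpr_et (f253415 IH) (Lpn (LP (LK LD1_c1 LD2_c2 LD3_c35)))))))))))))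
theorem f196040 : Led Lsl_gt (LP (LK LD1_c10 LD2_c30 LD3_c49)) = (LP (LK LD1_c5 LD2_c20 LD3_c22)) :=
  Lre_g IH (LK LD1_c10 LD2_c30 LD3_c49) (LK LD1_c5 LD2_c20 LD3_c22) Lrfl Lrfl
theorem f46486 : Led Lsl_dt (LP (LK LD1_c5 LD2_c20 LD3_c22)) = (LP (LK LD1_c2 LD2_c36 LD3_c49)) :=
  Lre_d IH (LK LD1_c5 LD2_c20 LD3_c22) (LK LD1_c2 LD2_c36 LD3_c49) Lrfl Lrfl
theorem f41534 : Led Lsl_dt (LP (LK LD1_c0 LD2_c34 LD3_c59)) = (LP (LK LD1_c1 LD2_c15 LD3_c23)) :=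
  Lre_d IH (LK LD1_c0 LD2_c34 LD3_c59) (LK LD1_c1 LD2_c15 LD3_c23) Lrfl Lrfl
theorem f179078 : Led Lsl_dt (LP (LK LD1_c2 LD2_c36 LD3_c47)) = (LP (LK LD1_c1 LD2_c15 LD3_c22)) :=
  Lre_d IH (LK LD1_c2 LD2_c36 LD3_c47) (LK LD1_c1 LD2_c15 LD3_c22) Lrfl Lrfl
theorem f196047 : Led Lsl_gf (LP (LK LD1_c2 LD2_c36 LD3_c47)) = (LP (LK LD1_c2 LD2_c33 LD3_c28)) :=
  Lgr Lrot144 (Lpr_dt (f179078 IH) (Lpr_gt (K9.f44319 IH) (Lpr_dt (f41534 IH) (Lpe (K10.f46448 IH) (Lpe (f46486 IH) (Lpe (f196040 IH) (Lpr_df (f196036 IH) (Lpe (f183926 IH) (Lpe (f183925 IH) (Lpn (LP (LK LD1_c2 LD2_c33 LD3_c28))))))))))))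
theorem f46487 : Led Lsl_dt (LP (LK LD1_c1 LD2_c15 LD3_c22)) = (LP (LK LD1_c2 LD2_c36 LD3_c47)) :=
  Lre_d IH (LK LD1_c1 LD2_c15 LD3_c22) (LK LD1_c2 LD2_c36 LD3_c47) Lrfl Lrfl
theorem f230786 : Led Lsl_gt (LP (LK LD1_c2 LD2_c2 LD3_c22)) = (LP (LK LD1_c4 LD2_c10 LD3_c3)) :=
  Lre_g IH (LK LD1_c2 LD2_c2 LD3_c22) (LK LD1_c4 LD2_c10 LD3_c3) Lrfl Lrfl
theorem f230788 : Led Lsl_et (LP (LK LD1_c1 LD2_c15 LD3_c22)) = (LP (LK LD1_c2 LD2_c2 LD3_c22)) :=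
  Lgr Lrot121 (Lpr_dt (f46487 IH) (Lpr_gf (f196047 IH) (Lpe (K9.f183905 IH) (Lpr_et (K9.f183904 IH) (Lpe (K9.f183889 IH) (Lpr_ef (K1.f46080 IH) (Lpr_dt (K1.f46078 IH) (Lpe (K12.f230660 IH) (Lpr_df (K12.f230779 IH) (Lpe (f230786 IH) (Lpn (LP (LK LD1_c2 LD2_c2 LD3_c22)))))))))))))
theorem f230792 : Led Lsl_ef (LP (LK LD1_c1 LD2_c15 LD3_c22)) = (LP (LK LD1_c2 LD2_c2 LD3_c22)) :=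
  Lgr Lrot88 (Lpr_et (f230788 IH) (Lpn (LP (LK LD1_c2 LD2_c2 LD3_c22))))
theorem f165197 : Led Lsl_gt (LP (LK LD1_c1 LD2_c11 LD3_c61)) = (LP (LK LD1_c2 LD2_c29 LD3_c57)) :=
  Lre_g IH (LK LD1_c1 LD2_c11 LD3_c61) (LK LD1_c2 LD2_c29 LD3_c57) Lrfl Lrfl
theorem f230795 : Led Lsl_df (LP (LK LD1_c2 LD2_c29 LD3_c57)) = (LP (LK LD1_c2 LD2_c2 LD3_c22)) :=
  Lgr Lrot132 (Lpe (f165197 IH) (Lpe (f165196 IH) (Lpe (K10.f192357 IH) (Lpe (K1.f41863 IH) (Lpe (K1.f44587 IH) (Lpe (K1.f44306 IH) (Lpe (K1.f41296 IH) (Lpr_et (K1.f41522 IH) (Lpe (K9.f44319 IH) (Lpr_ef (f230792 IH) (Lpn (LP (LK LD1_c2 LD2_c2 LD3_c22)))))))))))))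
theorem f230798 : Led Lsl_dt (LP (LK LD1_c2 LD2_c29 LD3_c57)) = (LP (LK LD1_c2 LD2_c2 LD3_c22)) :=
  Lgr Lrot42 (Lpr_df (f230795 IH) (Lpn (LP (LK LD1_c2 LD2_c2 LD3_c22))))
theorem f169836 : Led Lsl_bt (LP (LK LD1_c5 LD2_c5 LD3_c17)) = (LP (LK LD1_c2 LD2_c29 LD3_c57)) :=
  Lre_b IH (LK LD1_c5 LD2_c5 LD3_c17) (LK LD1_c2 LD2_c29 LD3_c57) Lrfl Lrfl
theorem f49222 : Led Lsl_et (LP (LK LD1_c4 LD2_c7 LD3_c48)) = (LP (LK LD1_c2 LD2_c1 LD3_c15)) :=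
  Lre_e IH (LK LD1_c4 LD2_c7 LD3_c48) (LK LD1_c2 LD2_c1 LD3_c15) Lrfl Lrfl
theorem f230790 : Led Lsl_bf (LP (LK LD1_c4 LD2_c7 LD3_c48)) = (LP (LK LD1_c2 LD2_c2 LD3_c22)) :=
  Lgr Lrot96 (Lpr_et (f49222 IH) (Lpe (K9.f183836 IH) (Lpr_et (f230788 IH) (Lpn (LP (LK LD1_c2 LD2_c2 LD3_c22))))))
theorem f230828 : Led Lsl_df (LP (LK LD1_c5 LD2_c5 LD3_c17)) = (LP (LK LD1_c4 LD2_c7 LD3_c48)) :=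
  Lgr Lrot12 (Lpr_bt (f169836 IH) (Lpr_dt (f230798 IH) (Lpe (f230790 IH) (Lpn (LP (LK LD1_c4 LD2_c7 LD3_c48))))))
theorem f230857 : Led Lsl_dt (LP (LK LD1_c5 LD2_c5 LD3_c17)) = (LP (LK LD1_c4 LD2_c7 LD3_c48)) :=
  Lgr Lrot42 (Lpr_df (f230828 IH) (Lpn (LP (LK LD1_c4 LD2_c7 LD3_c48))))
theorem f169837 : Led Lsl_gt (LP (LK LD1_c5 LD2_c2 LD3_c56)) = (LP (LK LD1_c2 LD2_c29 LD3_c0)) :=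
  Lre_g IH (LK LD1_c5 LD2_c2 LD3_c56) (LK LD1_c2 LD2_c29 LD3_c0) Lrfl Lrfl
theorem f169832 : Led Lsl_bt (LP (LK LD1_c0 LD2_c33 LD3_c20)) = (LP (LK LD1_c1 LD2_c11 LD3_c61)) :=
  Lre_b IH (LK LD1_c0 LD2_c33 LD3_c20) (LK LD1_c1 LD2_c11 LD3_c61) Lrfl Lrfl
theorem f169631 : Led Lsl_bt (LP (LK LD1_c1 LD2_c11 LD3_c39)) = (LP (LK LD1_c0 LD2_c33 LD3_c11)) :=
  Lre_b IH (LK LD1_c1 LD2_c11 LD3_c39) (LK LD1_c0 LD2_c33 LD3_c11) Lrfl Lrfl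
theorem f169632 : Led Lsl_ct (LP (LK LD1_c1 LD2_c11 LD3_c39)) = (LP (LK LD1_c2 LD2_c29 LD3_c0)) :=
  Lre_c IH (LK LD1_c1 LD2_c11 LD3_c39) (LK LD1_c2 LD2_c29 LD3_c0) Lrfl Lrfl
theorem f169838 : Led Lsl_ct (LP (LK LD1_c5 LD2_c5 LD3_c17)) = (LP (LK LD1_c5 LD2_c2 LD3_c56)) :=
  Lgr Lrot64 (Lpr_bt (f169836 IH) (Lpe (f165197 IH) (Lpe (f169832 IH) (Lpr_ct (K9.f166246 IH) (Lpr_gf (K9.f169827 IH) (Lpe (K9.f165277 IH) (Lpe (K9.f169830 IH) (Lpe (f169631 IH) (Lpr_ct (f169632 IH) (Lpe (f169837 IH) (Lpn (LP (LK LD1_c5 LD2_c2 LD3_c56)))))))))))))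
theorem f43962 : Led Lsl_dt (LP (LK LD1_c2 LD2_c37 LD3_c14)) = (LP (LK LD1_c1 LD2_c15 LD3_c38)) :=
  Lre_d IH (LK LD1_c2 LD2_c37 LD3_c14) (LK LD1_c1 LD2_c15 LD3_c38) Lrfl Lrfl
theorem f194158 : Led Lsl_gf (LP (LK LD1_c5 LD2_c5 LD3_c17)) = (LP (LK LD1_c2 LD2_c37 LD3_c14)) :=
  Lgr Lrot147 (Lpr_ct (f169838 IH) (Lpr_gt (f169837 IH) (Lpr_ct (f169856 IH) (Lpe (f169857 IH) (Lpe (K11.f194144 IH) (Lpe (K10.f41525 IH) (Lpe (K10.f46453 IH) (Lpr_gf (K10.f194156 IH) (Lpe (f43962 IH) (Lpn (LP (LK LD1_c2 LD2_c37 LD3_c14))))))))))))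
theorem f43929 : Led Lsl_dt (LP (LK LD1_c1 LD2_c15 LD3_c38)) = (LP (LK LD1_c2 LD2_c37 LD3_c14)) :=
  Lre_d IH (LK LD1_c1 LD2_c15 LD3_c38) (LK LD1_c2 LD2_c37 LD3_c14) Lrfl Lrfl
theorem f44603 : Led Lsl_dt (LP (LK LD1_c2 LD2_c37 LD3_c21)) = (LP (LK LD1_c2 LD2_c10 LD3_c54)) :=
  Lgr Lrot42 (Lpr_df (f44599 IH) (Lpn (LP (LK LD1_c2 LD2_c10 LD3_c54))))
theorem f230922 : Led Lsl_cf (LP (LK LD1_c2 LD2_c10 LD3_c54)) = (LP (LK LD1_c4 LD2_c7 LD3_c48)) :=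
  Lgr Lrot14 (Lpe (f44603 IH) (Lpe (f44596 IH) (Lpe (K12.f8398 IH) (Lpe (K10.f8397 IH) (Lpr_ct (K10.f44632 IH) (Lpr_gt (K10.f43928 IH) (Lpr_dt (f43929 IH) (Lpe (f194158 IH) (Lpr_dt (f230857 IH) (Lpn (LP (LK LD1_c4 LD2_c7 LD3_c48))))))))))))
theorem f169946 : Led Lsl_et (LP (LK LD1_c5 LD2_c5 LD3_c17)) = (LP (LK LD1_c10 LD2_c1 LD3_c38)) :=
  Lre_e IH (LK LD1_c5 LD2_c5 LD3_c17) (LK LD1_c10 LD2_c1 LD3_c38) Lrfl Lrfl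
theorem f230859 : Led Lsl_et (LP (LK LD1_c2 LD2_c1 LD3_c15)) = (LP (LK LD1_c4 LD2_c7 LD3_c48)) :=
  Lre_e IH (LK LD1_c2 LD2_c1 LD3_c15) (LK LD1_c4 LD2_c7 LD3_c48) Lrfl Lrfl
theorem f49247 : Led Lsl_dt (LP (LK LD1_c4 LD2_c7 LD3_c47)) = (LP (LK LD1_c2 LD2_c1 LD3_c15)) :=
  Lre_d IH (LK LD1_c4 LD2_c7 LD3_c47) (LK LD1_c2 LD2_c1 LD3_c15) Lrfl Lrfl
theorem f230860 : Led Lsl_et (LP (LK LD1_c8 LD2_c15 LD3_c40)) = (LP (LK LD1_c4 LD2_c7 LD3_c47)) :=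
  Lre_e IH (LK LD1_c8 LD2_c15 LD3_c40) (LK LD1_c4 LD2_c7 LD3_c47) Lrfl Lrfl
theorem f230861 : Led Lsl_dt (LP (LK LD1_c10 LD2_c1 LD3_c38)) = (LP (LK LD1_c8 LD2_c15 LD3_c40)) :=
  Lgr Lrot77 (Lpe (f169946 IH) (Lpr_df (f230828 IH) (Lpe (f230859 IH) (Lpe (f49247 IH) (Lpe (f230860 IH) (Lpn (LP (LK LD1_c8 LD2_c15 LD3_c40))))))))
theorem f230867 : Led Lsl_df (LP (LK LD1_c10 LD2_c1 LD3_c38)) = (LP (LK LD1_c8 LD2_c15 LD3_c40)) :=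
  Lgr Lrot38 (Lpr_dt (f230861 IH) (Lpn (LP (LK LD1_c8 LD2_c15 LD3_c40))))
theorem f169860 : Led Lsl_bt (LP (LK LD1_c10 LD2_c1 LD3_c38)) = (LP (LK LD1_c5 LD2_c5 LD3_c19)) :=
  Lre_b IH (LK LD1_c10 LD2_c1 LD3_c38) (LK LD1_c5 LD2_c5 LD3_c19) Lrfl Lrfl
theorem f230800 : Led Lsl_et (LP (LK LD1_c2 LD2_c29 LD3_c57)) = (LP (LK LD1_c5 LD2_c5 LD3_c19)) :=
  Lre_e IH (LK LD1_c2 LD2_c29 LD3_c57) (LK LD1_c5 LD2_c5 LD3_c19) Lrfl Lrfl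
theorem f192891 : Led Lsl_et (LP (LK LD1_c5 LD2_c20 LD3_c16)) = (LP (LK LD1_c2 LD2_c36 LD3_c47)) :=
  Lre_e IH (LK LD1_c5 LD2_c20 LD3_c16) (LK LD1_c2 LD2_c36 LD3_c47) Lrfl Lrfl
theorem f230801 : Led Lsl_dt (LP (LK LD1_c5 LD2_c5 LD3_c19)) = (LP (LK LD1_c5 LD2_c20 LD3_c16)) :=
  Lgr Lrot77 (Lpe (f230800 IH) (Lpr_df (f230795 IH) (Lpe (f230788 IH) (Lpe (f179078 IH) (Lpe (f192891 IH) (Lpn (LP (LK LD1_c5 LD2_c20 LD3_c16))))))))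
theorem f230870 : Led Lsl_bt (LP (LK LD1_c5 LD2_c20 LD3_c16)) = (LP (LK LD1_c8 LD2_c15 LD3_c40)) :=
  Lgr Lrot95 (Lpe (f230801 IH) (Lpe (f169860 IH) (Lpr_df (f230867 IH) (Lpn (LP (LK LD1_c8 LD2_c15 LD3_c40))))))
theorem f230794 : Led Lsl_et (LP (LK LD1_c2 LD2_c36 LD3_c47)) = (LP (LK LD1_c5 LD2_c20 LD3_c16)) :=
  Lre_e IH (LK LD1_c2 LD2_c36 LD3_c47) (LK LD1_c5 LD2_c20 LD3_c16) Lrfl Lrfl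
theorem f230873 : Led Lsl_bf (LP (LK LD1_c2 LD2_c36 LD3_c47)) = (LP (LK LD1_c4 LD2_c7 LD3_c47)) :=
  Lgr Lrot96 (Lpr_et (f230794 IH) (Lpr_bt (f230870 IH) (Lpr_et (f230860 IH) (Lpn (LP (LK LD1_c4 LD2_c7 LD3_c47))))))
theorem f50753 : Led Lsl_dt (LP (LK LD1_c2 LD2_c1 LD3_c15)) = (LP (LK LD1_c4 LD2_c7 LD3_c47)) :=
  Lre_d IH (LK LD1_c2 LD2_c1 LD3_c15) (LK LD1_c4 LD2_c7 LD3_c47) Lrfl Lrfl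
theorem f230879 : Led Lsl_bt (LP (LK LD1_c1 LD2_c15 LD3_c22)) = (LP (LK LD1_c2 LD2_c1 LD3_c15)) :=
  Lgr Lrot95 (Lpe (f179078 IH) (Lpr_bf (f230873 IH) (Lpe (f50753 IH) (Lpn (LP (LK LD1_c2 LD2_c1 LD3_c15))))))
theorem f230915 : Led Lsl_bf (LP (LK LD1_c2 LD2_c2 LD3_c22)) = (LP (LK LD1_c4 LD2_c7 LD3_c48)) :=
  Lgr Lrot96 (Lpe (f230792 IH) (Lpr_bt (f230879 IH) (Lpr_et (f230859 IH) (Lpn (LP (LK LD1_c4 LD2_c7 LD3_c48))))))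
theorem f230781 : Led Lsl_bt (LP (LK LD1_c2 LD2_c36 LD3_c22)) = (LP (LK LD1_c4 LD2_c10 LD3_c3)) :=
  Lgr Lrot95 (Lpe (K12.f44266 IH) (Lpe (K12.f230555 IH) (Lpr_df (K12.f230779 IH) (Lpn (LP (LK LD1_c4 LD2_c10 LD3_c3))))))
theorem f253413 : Led Lsl_ct (LP (LK LD1_c2 LD2_c3 LD3_c22)) = (LP (LK LD1_c1 LD2_c2 LD3_c35)) :=
  Lgr Lrot59 (Lpr_cf (f253408 IH) (Lpn (LP (LK LD1_c1 LD2_c2 LD3_c35))))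
theorem f166909 : Led Lsl_gt (LP (LK LD1_c4 LD2_c12 LD3_c16)) = (LP (LK LD1_c2 LD2_c3 LD3_c22)) :=
  Lre_g IH (LK LD1_c4 LD2_c12 LD3_c16) (LK LD1_c2 LD2_c3 LD3_c22) Lrfl Lrfl
theorem f253482 : Led Lsl_bt (LP (LK LD1_c4 LD2_c18 LD3_c58)) = (LP (LK LD1_c4 LD2_c12 LD3_c16)) :=
  Lgr Lrot130 (Lpr_ct (K12.f171476 IH) (Lpe (K12.f229518 IH) (Lpe (f230270 IH) (Lpr_bt (f230781 IH) (Lpe (f230786 IH) (Lpr_bf (f230915 IH) (Lpe (f230922 IH) (Lpr_gf (f253477 IH) (Lpe (f253413 IH) (Lpe (f166909 IH) (Lpn (LP (LK LD1_c4 LD2_c12 LD3_c16)))))))))))))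
theorem f199173 : Led Lsl_gt (LP (LK LD1_c2 LD2_c3 LD3_c29)) = (LP (LK LD1_c4 LD2_c12 LD3_c16)) :=
  Lre_g IH (LK LD1_c2 LD2_c3 LD3_c29) (LK LD1_c4 LD2_c12 LD3_c16) Lrfl Lrfl
theorem f199158 : Led Lsl_bt (LP (LK LD1_c0 LD2_c58 LD3_c47)) = (LP (LK LD1_c2 LD2_c3 LD3_c29)) :=
  Lre_b IH (LK LD1_c0 LD2_c58 LD3_c47) (LK LD1_c2 LD2_c3 LD3_c29) Lrfl Lrfl
theorem f253490 : Led Lsl_gt (LP (LK LD1_c0 LD2_c25 LD3_c53)) = (LP (LK LD1_c0 LD2_c26 LD3_c43)) :=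
  Lgr Lrot149 (Lpe (K12.f182491 IH) (Lpe (K12.f212096 IH) (Lpe (K12.f167615 IH) (Lpe (K12.f187065 IH) (Lpe (K12.f171472 IH) (Lpe (K12.f171476 IH) (Lpr_bt (f253482 IH) (Lpe (f199173 IH) (Lpe (f199158 IH) (Lpr_ct (K12.f199165 IH) (Lpn (LP (LK LD1_c0 LD2_c26 LD3_c43)))))))))))))
theorem f179919 : Led Lsl_et (LP (LK LD1_c0 LD2_c37 LD3_c36)) = (LP (LK LD1_c1 LD2_c18 LD3_c56)) :=
  Lre_e IH (LK LD1_c0 LD2_c37 LD3_c36) (LK LD1_c1 LD2_c18 LD3_c56) Lrfl Lrfl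
theorem f177085 : Led Lsl_dt (LP (LK LD1_c0 LD2_c37 LD3_c36)) = (LP (LK LD1_c1 LD2_c21 LD3_c30)) :=
  Lre_d IH (LK LD1_c0 LD2_c37 LD3_c36) (LK LD1_c1 LD2_c21 LD3_c30) Lrfl Lrfl
theorem f179920 : Led Lsl_gt (LP (LK LD1_c1 LD2_c21 LD3_c30)) = (LP (LK LD1_c1 LD2_c20 LD3_c4)) :=
  Lgr Lrot112 (Lpe (f177085 IH) (Lpr_et (f179919 IH) (Lpr_gf (K12.f179909 IH) (Lpe (K12.f172549 IH) (Lpr_dt (K12.f172547 IH) (Lpe (K9.f172426 IH) (Lpe (K9.f22480 IH) (Lpe (K9.f168534 IH) (Lpe (K11.f172422 IH) (Lpr_dt (K11.f172678 IH) (Lpn (LP (LK LD1_c1 LD2_c20 LD3_c4)))))))))))))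
theorem f179930 : Led Lsl_gf (LP (LK LD1_c0 LD2_c37 LD3_c36)) = (LP (LK LD1_c0 LD2_c18 LD3_c21)) :=
  Lgr Lrot138 (Lpr_dt (f177085 IH) (Lpr_gt (f179920 IH) (Lpe (K11.f172678 IH) (Lpr_et (K11.f172422 IH) (Lpr_gt (K9.f168534 IH) (Lpe (K10.f68575 IH) (Lpr_dt (K1.f23908 IH) (Lpr_gt (K1.f24614 IH) (Lpr_df (K4.f58957 IH) (Lpr_et (K11.f179929 IH) (Lpn (LP (LK LD1_c0 LD2_c18 LD3_c21)))))))))))))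
theorem f146351 : Led Lsl_ct (LP (LK LD1_c0 LD2_c16 LD3_c44)) = (LP (LK LD1_c0 LD2_c37 LD3_c36)) :=
  Lre_c IH (LK LD1_c0 LD2_c16 LD3_c44) (LK LD1_c0 LD2_c37 LD3_c36) Lrfl Lrfl
theorem f179939 : Led Lsl_bt (LP (LK LD1_c0 LD2_c16 LD3_c44)) = (LP (LK LD1_c0 LD2_c37 LD3_c35)) :=
  Lre_b IH (LK LD1_c0 LD2_c16 LD3_c44) (LK LD1_c0 LD2_c37 LD3_c35) Lrfl Lrfl
theorem f25960 : Led Lsl_bt (LP (LK LD1_c0 LD2_c42 LD3_c5)) = (LP (LK LD1_c0 LD2_c18 LD3_c53)) :=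
  Lre_b IH (LK LD1_c0 LD2_c42 LD3_c5) (LK LD1_c0 LD2_c18 LD3_c53) Lrfl Lrfl
theorem f36465 : Led Lsl_bt (LP (LK LD1_c0 LD2_c30 LD3_c8)) = (LP (LK LD1_c1 LD2_c1 LD3_c54)) :=
  Lgr Lrot95 (Lpe (K1.f25934 IH) (Lpe (f25960 IH) (Lpr_df (K1.f36434 IH) (Lpn (LP (LK LD1_c1 LD2_c1 LD3_c54))))))
theorem f210302 : Led Lsl_gt (LP (LK LD1_c0 LD2_c37 LD3_c35)) = (LP (LK LD1_c1 LD2_c1 LD3_c54)) :=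
  Lgr Lrot164 (Lpe (f179939 IH) (Lpr_ct (f146351 IH) (Lpr_gf (f179930 IH) (Lpe (K11.f58987 IH) (Lpe (K9.f59013 IH) (Lpe (K11.f198474 IH) (Lpr_ct (K11.f146333 IH) (Lpr_gf (K11.f210291 IH) (Lpe (K11.f25963 IH) (Lpr_bt (f36465 IH) (Lpn (LP (LK LD1_c1 LD2_c1 LD3_c54)))))))))))))
theorem f210577 : Led Lsl_ef (LP (LK LD1_c1 LD2_c0 LD3_c51)) = (LP (LK LD1_c1 LD2_c31 LD3_c29)) :=
  Lgr Lrot114 (Lpe (K11.f32018 IH) (Lpr_ef (K1.f35805 IH) (Lpe (K1.f35466 IH) (Lpr_gt (K10.f198262 IH) (Lpe (K10.f24550 IH) (Lpr_et (K10.f24565 IH) (Lpr_gt (f210302 IH) (Lpe (K1.f36434 IH) (Lpr_gt (K11.f210563 IH) (Lpe (K13.f205110 IH) (Lpn (LP (LK LD1_c1 LD2_c31 LD3_c29)))))))))))))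
theorem f201401 : Led Lsl_cf (LP (LK LD1_c1 LD2_c2 LD3_c7)) = (LP (LK LD1_c0 LD2_c32 LD3_c2)) :=
  Lgr Lrot108 (Lpr_ft (K2.f70833 IH) (Lpr_ct (K11.f201379 IH) (Lpr_ft (K10.f31547 IH) (Lpn (LP (LK LD1_c0 LD2_c32 LD3_c2))))))
theorem f31451 : Led Lsl_bt (LP (LK LD1_c0 LD2_c32 LD3_c2)) = (LP (LK LD1_c0 LD2_c14 LD3_c21)) :=
  Lre_b IH (LK LD1_c0 LD2_c32 LD3_c2) (LK LD1_c0 LD2_c14 LD3_c21) Lrfl Lrfl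
theorem f201582 : Led Lsl_bt (LP (LK LD1_c1 LD2_c0 LD3_c51)) = (LP (LK LD1_c0 LD2_c32 LD3_c7)) :=
  Lgr Lrot92 (Lpr_ct (K11.f32021 IH) (Lpr_gt (K11.f201574 IH) (Lpe (K11.f201548 IH) (Lpe (K1.f28626 IH) (Lpe (K10.f193346 IH) (Lpr_ct (K11.f171693 IH) (Lpe (K11.f201429 IH) (Lpr_cf (f201401 IH) (Lpr_bt (f31451 IH) (Lpr_gt (K10.f31442 IH) (Lpn (LP (LK LD1_c0 LD2_c32 LD3_c7)))))))))))))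
theorem f210579 : Led Lsl_bt (LP (LK LD1_c0 LD2_c42 LD3_c16)) = (LP (LK LD1_c1 LD2_c31 LD3_c29)) :=
  Lre_b IH (LK LD1_c0 LD2_c42 LD3_c16) (LK LD1_c1 LD2_c31 LD3_c29) Lrfl Lrfl
theorem f210580 : Led Lsl_et (LP (LK LD1_c0 LD2_c32 LD3_c7)) = (LP (LK LD1_c0 LD2_c42 LD3_c16)) :=
  Lgr Lrot74 (Lpe (f201582 IH) (Lpr_ef (f210577 IH) (Lpe (f210579 IH) (Lpn (LP (LK LD1_c0 LD2_c42 LD3_c16))))))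
theorem f253506 : Led Lsl_dt (LP (LK LD1_c0 LD2_c32 LD3_c7)) = (LP (LK LD1_c0 LD2_c26 LD3_c43)) :=
  Lgr Lrot56 (Lpr_et (f210580 IH) (Lpr_gt (K11.f204839 IH) (Lpe (K11.f172421 IH) (Lpe (K9.f183235 IH) (Lpr_gt (K9.f183227 IH) (Lpe (K9.f53174 IH) (Lpe (K9.f53312 IH) (Lpe (K9.f28339 IH) (Lpr_dt (K9.f28341 IH) (Lpr_gt (f253490 IH) (Lpn (LP (LK LD1_c0 LD2_c26 LD3_c43)))))))))))))
theorem f253519 : Led Lsl_gt (LP (LK LD1_c0 LD2_c39 LD3_c32)) = (LP (LK LD1_c0 LD2_c58 LD3_c47)) :=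
  Lgr Lrot187 (Lpe (K9.f177192 IH) (Lpe (K9.f178979 IH) (Lpr_dt (K9.f2883 IH) (Lpr_gt (K9.f20536 IH) (Lpr_ct (K8.f20526 IH) (Lpr_gt (K10.f61288 IH) (Lpe (K10.f171690 IH) (Lpr_dt (f253506 IH) (Lpe (K12.f199165 IH) (Lpn (LP (LK LD1_c0 LD2_c58 LD3_c47))))))))))))
theorem f178269 : Led Lsl_et (LP (LK LD1_c0 LD2_c7 LD3_c14)) = (LP (LK LD1_c0 LD2_c16 LD3_c6)) :=
  Lre_e IH (LK LD1_c0 LD2_c7 LD3_c14) (LK LD1_c0 LD2_c16 LD3_c6) Lrfl Lrfl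
theorem f166690 : Led Lsl_ft (LP (LK LD1_c0 LD2_c58 LD3_c47)) = (LP (LK LD1_c0 LD2_c26 LD3_c37)) :=
  Lre_f IH (LK LD1_c0 LD2_c58 LD3_c47) (LK LD1_c0 LD2_c26 LD3_c37) Lrfl Lrfl
theorem f226770 : Led Lsl_ft (LP (LK LD1_c0 LD2_c27 LD3_c37)) = (LP (LK LD1_c1 LD2_c0 LD3_c43)) :=
  Lre_f IH (LK LD1_c0 LD2_c27 LD3_c37) (LK LD1_c1 LD2_c0 LD3_c43) Lrfl Lrfl
theorem f250277 : Led Lsl_ef (LP (LK LD1_c0 LD2_c58 LD3_c47)) = (LP (LK LD1_c1 LD2_c0 LD3_c43)) :=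
  Lgr Lrot21 (Lpr_ft (f166690 IH) (Lpr_et (K9.f166476 IH) (Lpr_ft (f250269 IH) (Lpr_et (K9.f179527 IH) (Lpr_ft (f226770 IH) (Lpn (LP (LK LD1_c1 LD2_c0 LD3_c43))))))))
theorem f253528 : Led Lsl_df (LP (LK LD1_c0 LD2_c36 LD3_c7)) = (LP (LK LD1_c1 LD2_c0 LD3_c43)) :=
  Lgr Lrot170 (Lpr_gt (K12.f177852 IH) (Lpe (K9.f177869 IH) (Lpr_et (f178269 IH) (Lpe (K11.f185058 IH) (Lpr_dt (K11.f22015 IH) (Lpe (K11.f183079 IH) (Lpe (K10.f9085 IH) (Lpr_et (K10.f177371 IH) (Lpr_gt (f253519 IH) (Lpr_ef (f250277 IH) (Lpn (LP (LK LD1_c1 LD2_c0 LD3_c43)))))))))))))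
theorem f253534 : Led Lsl_ct (LP (LK LD1_c0 LD2_c27 LD3_c41)) = (LP (LK LD1_c1 LD2_c0 LD3_c43)) :=
  Lre_c IH (LK LD1_c0 LD2_c27 LD3_c41) (LK LD1_c1 LD2_c0 LD3_c43) Lrfl Lrfl
theorem f253548 : Led Lsl_gt (LP (LK LD1_c0 LD2_c26 LD3_c48)) = (LP (LK LD1_c0 LD2_c27 LD3_c41)) :=
  Lgr Lrot150 (Lpe (K9.f178467 IH) (Lpe (K9.f178848 IH) (Lpe (K9.f178865 IH) (Lpe (K9.f179758 IH) (Lpr_ct (K12.f167776 IH) (Lpe (K12.f226401 IH) (Lpr_ct (K12.f177860 IH) (Lpr_df (f253528 IH) (Lpe (f253534 IH) (Lpn (LP (LK LD1_c0 LD2_c27 LD3_c41))))))))))))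
theorem f253494 : Led Lsl_df (LP (LK LD1_c0 LD2_c32 LD3_c7)) = (LP (LK LD1_c0 LD2_c26 LD3_c43)) :=
  Lgr Lrot84 (Lpr_cf (K10.f171690 IH) (Lpe (K12.f61305 IH) (Lpe (K12.f186656 IH) (Lpe (K9.f164163 IH) (Lpr_gf (K9.f177179 IH) (Lpe (K9.f28343 IH) (Lpe (K9.f28339 IH) (Lpr_dt (K9.f28341 IH) (Lpr_gt (f253490 IH) (Lpn (LP (LK LD1_c0 LD2_c26 LD3_c43))))))))))))
theorem f253560 : Led Lsl_et (LP (LK LD1_c0 LD2_c26 LD3_c43)) = (LP (LK LD1_c0 LD2_c27 LD3_c41)) :=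
  Lgr Lrot122 (Lpe (f253494 IH) (Lpe (K10.f31669 IH) (Lpe (K9.f31663 IH) (Lpe (K1.f31659 IH) (Lpr_gt (K10.f31687 IH) (Lpr_dt (K10.f31691 IH) (Lpe (K10.f180533 IH) (Lpe (K9.f178479 IH) (Lpr_et (K10.f178482 IH) (Lpr_gt (f253548 IH) (Lpn (LP (LK LD1_c0 LD2_c27 LD3_c41)))))))))))))
theorem f204866 : Led Lsl_dt (LP (LK LD1_c0 LD2_c32 LD3_c6)) = (LP (LK LD1_c0 LD2_c56 LD3_c58)) :=
  Lgr Lrot27 (Lpr_cf (K11.f186717 IH) (Lpr_gf (K11.f185058 IH) (Lpe (K9.f7945 IH) (Lpe (K0.f3073 IH) (Lpr_df (K9.f21252 IH) (Lpr_gt (K9.f177154 IH) (Lpr_ct (K10.f177156 IH) (Lpr_gt (K11.f177157 IH) (Lpr_ct (K11.f204856 IH) (Lpn (LP (LK LD1_c0 LD2_c56 LD3_c58))))))))))))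
theorem f253570 : Led Lsl_gf (LP (LK LD1_c0 LD2_c25 LD3_c51)) = (LP (LK LD1_c0 LD2_c27 LD3_c41)) :=
  Lgr Lrot141 (Lpe (K9.f183197 IH) (Lpr_dt (K9.f168998 IH) (Lpr_gt (K11.f168999 IH) (Lpe (f204866 IH) (Lpr_et (K11.f31696 IH) (Lpr_gt (K9.f31599 IH) (Lpr_dt (K9.f31439 IH) (Lpr_gt (K10.f31442 IH) (Lpr_df (f253494 IH) (Lpr_et (f253560 IH) (Lpn (LP (LK LD1_c0 LD2_c27 LD3_c41)))))))))))))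
theorem f236247 : Led Lsl_gf (LP (LK LD1_c2 LD2_c5 LD3_c5)) = (LP (LK LD1_c1 LD2_c16 LD3_c27)) :=
  Lgr Lrot147 (Lpe (K13.f187236 IH) (Lpr_gt (K13.f236241 IH) (Lpr_ct (K13.f53147 IH) (Lpr_df (K13.f190820 IH) (Lpr_cf (K13.f233891 IH) (Lpe (K13.f50200 IH) (Lpe (K12.f50160 IH) (Lpr_gf (K10.f196391 IH) (Lpe (K10.f183248 IH) (Lpn (LP (LK LD1_c1 LD2_c16 LD3_c27))))))))))))
theorem f253552 : Led Lsl_ct (LP (LK LD1_c1 LD2_c0 LD3_c43)) = (LP (LK LD1_c0 LD2_c27 LD3_c41)) :=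
  Lre_c IH (LK LD1_c1 LD2_c0 LD3_c43) (LK LD1_c0 LD2_c27 LD3_c41) Lrfl Lrfl
theorem f253553 : Led Lsl_bt (LP (LK LD1_c1 LD2_c0 LD3_c43)) = (LP (LK LD1_c2 LD2_c7 LD3_c16)) :=
  Lre_b IH (LK LD1_c1 LD2_c0 LD3_c43) (LK LD1_c2 LD2_c7 LD3_c16) Lrfl Lrfl
theorem f253581 : Led Lsl_gt (LP (LK LD1_c4 LD2_c12 LD3_c34)) = (LP (LK LD1_c2 LD2_c7 LD3_c16)) :=
  Lgr Lrot164 (Lpe (K13.f233845 IH) (Lpr_ct (f190823 IH) (Lpe (K13.f236241 IH) (Lpr_cf (K13.f187236 IH) (Lpr_gf (f236247 IH) (Lpe (K10.f183239 IH) (Lpe (K13.f183231 IH) (Lpr_gf (f253570 IH) (Lpe (f253552 IH) (Lpr_bt (f253553 IH) (Lpn (LP (LK LD1_c2 LD2_c7 LD3_c16)))))))))))))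
theorem f189486 : Led Lsl_df (LP (LK LD1_c4 LD2_c12 LD3_c34)) = (LP (LK LD1_c3 LD2_c58 LD3_c8)) :=
  Lgr Lrot38 (Lpr_dt (K13.f189453 IH) (Lpn (LP (LK LD1_c3 LD2_c58 LD3_c8))))
theorem f189489 : Led Lsl_et (LP (LK LD1_c3 LD2_c58 LD3_c8)) = (LP (LK LD1_c7 LD2_c57 LD3_c42)) :=
  Lre_e IH (LK LD1_c3 LD2_c58 LD3_c8) (LK LD1_c7 LD2_c57 LD3_c42) Lrfl Lrfl
theorem f189495 : Led Lsl_gt (LP (LK LD1_c15 LD2_c1 LD3_c1)) = (LP (LK LD1_c7 LD2_c57 LD3_c42)) :=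
  Lre_g IH (LK LD1_c15 LD2_c1 LD3_c1) (LK LD1_c7 LD2_c57 LD3_c42) Lrfl Lrfl
theorem f250169 : Led Lsl_et (LP (LK LD1_c2 LD2_c28 LD3_c40)) = (LP (LK LD1_c5 LD2_c2 LD3_c5)) :=
  Lre_e IH (LK LD1_c2 LD2_c28 LD3_c40) (LK LD1_c5 LD2_c2 LD3_c5) Lrfl Lrfl
theorem f250125 : Led Lsl_gt (LP (LK LD1_c5 LD2_c2 LD3_c5)) = (LP (LK LD1_c9 LD2_c54 LD3_c54)) :=
  Lre_g IH (LK LD1_c5 LD2_c2 LD3_c5) (LK LD1_c9 LD2_c54 LD3_c54) Lrfl Lrfl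
theorem f43309 : Led Lsl_gt (LP (LK LD1_c9 LD2_c40 LD3_c35)) = (LP (LK LD1_c4 LD2_c54 LD3_c29)) :=
  Lre_g IH (LK LD1_c9 LD2_c40 LD3_c35) (LK LD1_c4 LD2_c54 LD3_c29) Lrfl Lrfl
theorem f43311 : Led Lsl_dt (LP (LK LD1_c17 LD2_c48 LD3_c0)) = (LP (LK LD1_c9 LD2_c40 LD3_c35)) :=
  Lre_d IH (LK LD1_c17 LD2_c48 LD3_c0) (LK LD1_c9 LD2_c40 LD3_c35) Lrfl Lrfl
theorem f251633 : Led Lsl_ef (LP (LK LD1_c9 LD2_c54 LD3_c54)) = (LP (LK LD1_c17 LD2_c48 LD3_c0)) :=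
  Lgr Lrot17 (Lpe (f250125 IH) (Lpe (f250169 IH) (Lpr_dt (f251621 IH) (Lpe (f31684 IH) (Lpr_df (f171212 IH) (Lpe (K12.f212435 IH) (Lpe (K13.f43297 IH) (Lpr_dt (K13.f43298 IH) (Lpe (f43309 IH) (Lpe (f43311 IH) (Lpn (LP (LK LD1_c17 LD2_c48 LD3_c0)))))))))))))
theorem f250126 : Led Lsl_dt (LP (LK LD1_c9 LD2_c54 LD3_c54)) = (LP (LK LD1_c18 LD2_c9 LD3_c0)) :=
  Lre_d IH (LK LD1_c9 LD2_c54 LD3_c54) (LK LD1_c18 LD2_c9 LD3_c0) Lrfl Lrfl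
theorem f214980 : Led Lsl_dt (LP (LK LD1_c9 LD2_c40 LD3_c35)) = (LP (LK LD1_c17 LD2_c48 LD3_c0)) :=
  Lre_d IH (LK LD1_c9 LD2_c40 LD3_c35) (LK LD1_c17 LD2_c48 LD3_c0) Lrfl Lrfl
theorem f43317 : Led Lsl_et (LP (LK LD1_c17 LD2_c48 LD3_c1)) = (LP (LK LD1_c9 LD2_c40 LD3_c35)) :=
  Lre_e IH (LK LD1_c17 LD2_c48 LD3_c1) (LK LD1_c9 LD2_c40 LD3_c35) Lrfl Lrfl
theorem f183930 : Led Lsl_bt (LP (LK LD1_c2 LD2_c33 LD3_c10)) = (LP (LK LD1_c1 LD2_c13 LD3_c34)) :=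
  Lre_b IH (LK LD1_c2 LD2_c33 LD3_c10) (LK LD1_c1 LD2_c13 LD3_c34) Lrfl Lrfl
theorem f246127 : Led Lsl_gt (LP (LK LD1_c1 LD2_c58 LD3_c39)) = (LP (LK LD1_c1 LD2_c13 LD3_c40)) :=
  Lgr Lrot65 (Lpr_cf (K12.f199171 IH) (Lpr_bt (f166682 IH) (Lpe (K9.f53239 IH) (Lpe (K13.f240306 IH) (Lpr_ct (K12.f53130 IH) (Lpe (K13.f246094 IH) (Lpe (K13.f246125 IH) (Lpr_gf (K13.f246117 IH) (Lpe (f183930 IH) (Lpr_ct (K9.f183919 IH) (Lpn (LP (LK LD1_c1 LD2_c13 LD3_c40)))))))))))))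
theorem f183924 : Led Lsl_ct (LP (LK LD1_c1 LD2_c13 LD3_c40)) = (LP (LK LD1_c2 LD2_c33 LD3_c10)) :=
  Lre_c IH (LK LD1_c1 LD2_c13 LD3_c40) (LK LD1_c2 LD2_c33 LD3_c10) Lrfl Lrfl
theorem f196118 : Led Lsl_bt (LP (LK LD1_c5 LD2_c12 LD3_c38)) = (LP (LK LD1_c2 LD2_c33 LD3_c15)) :=
  Lre_b IH (LK LD1_c5 LD2_c12 LD3_c38) (LK LD1_c2 LD2_c33 LD3_c15) Lrfl Lrfl
theorem f22106 : Led Lsl_bt (LP (LK LD1_c1 LD2_c12 LD3_c61)) = (LP (LK LD1_c0 LD2_c33 LD3_c52)) :=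
  Lre_b IH (LK LD1_c1 LD2_c12 LD3_c61) (LK LD1_c0 LD2_c33 LD3_c52) Lrfl Lrfl
theorem f165521 : Led Lsl_ct (LP (LK LD1_c1 LD2_c12 LD3_c61)) = (LP (LK LD1_c2 LD2_c31 LD3_c56)) :=
  Lre_c IH (LK LD1_c1 LD2_c12 LD3_c61) (LK LD1_c2 LD2_c31 LD3_c56) Lrfl Lrfl
theorem f180706 : Led Lsl_gt (LP (LK LD1_c2 LD2_c31 LD3_c56)) = (LP (LK LD1_c5 LD2_c9 LD3_c38)) :=
  Lre_g IH (LK LD1_c2 LD2_c31 LD3_c56) (LK LD1_c5 LD2_c9 LD3_c38) Lrfl Lrfl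
theorem f242345 : Led Lsl_ct (LP (LK LD1_c5 LD2_c12 LD3_c38)) = (LP (LK LD1_c5 LD2_c9 LD3_c38)) :=
  Lgr Lrot10 (Lpr_bt (f196118 IH) (Lpe (K13.f242305 IH) (Lpr_ct (K13.f171545 IH) (Lpr_gt (K13.f242331 IH) (Lpe (K13.f196352 IH) (Lpe (K13.f240256 IH) (Lpr_gt (K13.f165483 IH) (Lpe (f22106 IH) (Lpr_ct (f165521 IH) (Lpr_gt (f180706 IH) (Lpn (LP (LK LD1_c5 LD2_c9 LD3_c38)))))))))))))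
theorem f242369 : Led Lsl_cf (LP (LK LD1_c5 LD2_c12 LD3_c38)) = (LP (LK LD1_c5 LD2_c9 LD3_c38)) :=
  Lgr Lrot11 (Lpr_ct (f242345 IH) (Lpn (LP (LK LD1_c5 LD2_c9 LD3_c38))))
theorem f180607 : Led Lsl_gt (LP (LK LD1_c2 LD2_c31 LD3_c55)) = (LP (LK LD1_c1 LD2_c12 LD3_c61)) :=
  Lre_g IH (LK LD1_c2 LD2_c31 LD3_c55) (LK LD1_c1 LD2_c12 LD3_c61) Lrfl Lrfl
theorem f246142 : Led Lsl_df (LP (LK LD1_c2 LD2_c3 LD3_c28)) = (LP (LK LD1_c2 LD2_c31 LD3_c55)) :=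
  Lgr Lrot155 (Lpr_gt (K13.f166890 IH) (Lpe (K12.f199171 IH) (Lpr_gt (f246127 IH) (Lpr_ct (f183924 IH) (Lpr_dt (K9.f183945 IH) (Lpr_cf (f242369 IH) (Lpe (f180706 IH) (Lpe (f165521 IH) (Lpe (f180607 IH) (Lpn (LP (LK LD1_c2 LD2_c31 LD3_c55))))))))))))
theorem f189488 : Led Lsl_et (LP (LK LD1_c2 LD2_c3 LD3_c28)) = (LP (LK LD1_c4 LD2_c12 LD3_c34)) :=
  Lre_e IH (LK LD1_c2 LD2_c3 LD3_c28) (LK LD1_c4 LD2_c12 LD3_c34) Lrfl Lrfl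
theorem f214989 : Led Lsl_et (LP (LK LD1_c5 LD2_c9 LD3_c37)) = (LP (LK LD1_c2 LD2_c31 LD3_c55)) :=
  Lre_e IH (LK LD1_c5 LD2_c9 LD3_c37) (LK LD1_c2 LD2_c31 LD3_c55) Lrfl Lrfl
theorem f246161 : Led Lsl_dt (LP (LK LD1_c7 LD2_c57 LD3_c42)) = (LP (LK LD1_c5 LD2_c9 LD3_c37)) :=
  Lgr Lrot77 (Lpe (f189489 IH) (Lpe (K13.f189453 IH) (Lpe (f189488 IH) (Lpr_df (f246142 IH) (Lpe (f214989 IH) (Lpn (LP (LK LD1_c5 LD2_c9 LD3_c37))))))))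
theorem f246169 : Led Lsl_df (LP (LK LD1_c7 LD2_c57 LD3_c42)) = (LP (LK LD1_c5 LD2_c9 LD3_c37)) :=
  Lgr Lrot38 (Lpr_dt (f246161 IH) (Lpn (LP (LK LD1_c5 LD2_c9 LD3_c37))))
theorem f165547 : Led Lsl_dt (LP (LK LD1_c1 LD2_c12 LD3_c61)) = (LP (LK LD1_c0 LD2_c33 LD3_c51)) :=
  Lre_d IH (LK LD1_c1 LD2_c12 LD3_c61) (LK LD1_c0 LD2_c33 LD3_c51) Lrfl Lrfl
theorem f43457 : Led Lsl_af (LP (LK LD1_c4 LD2_c54 LD3_c29)) = (LP (LK LD1_c4 LD2_c54 LD3_c14)) :=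
  Lgr Lrot50 (Lpr_et (K13.f43297 IH) (Lpr_at (K9.f43447 IH) (Lpr_et (K13.f43355 IH) (Lpn (LP (LK LD1_c4 LD2_c54 LD3_c14))))))
theorem f214409 : Led Lsl_ft (LP (LK LD1_c5 LD2_c9 LD3_c28)) = (LP (LK LD1_c4 LD2_c54 LD3_c14)) :=
  Lgr Lrot142 (Lpr_dt (K13.f214115 IH) (Lpr_ct (K13.f214120 IH) (Lpr_dt (K12.f214121 IH) (Lpr_ct (K13.f214122 IH) (Lpr_dt (K13.f214405 IH) (Lpr_ct (K13.f43305 IH) (Lpr_dt (K13.f43304 IH) (Lpr_ct (K13.f43303 IH) (Lpr_af (f43457 IH) (Lpn (LP (LK LD1_c4 LD2_c54 LD3_c14))))))))))))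
theorem f214978 : Led Lsl_gt (LP (LK LD1_c5 LD2_c9 LD3_c28)) = (LP (LK LD1_c9 LD2_c40 LD3_c35)) :=
  Lgr Lrot5 (Lpr_ft (f214409 IH) (Lpe (f43457 IH) (Lpe (f43309 IH) (Lpn (LP (LK LD1_c9 LD2_c40 LD3_c35))))))
theorem f246180 : Led Lsl_df (LP (LK LD1_c15 LD2_c1 LD3_c1)) = (LP (LK LD1_c17 LD2_c48 LD3_c1)) :=
  Lgr Lrot170 (Lpr_gt (f189495 IH) (Lpr_df (f246169 IH) (Lpr_et (f214989 IH) (Lpr_gt (f180607 IH) (Lpr_dt (f165547 IH) (Lpr_gt (K10.f171520 IH) (Lpe (K12.f190992 IH) (Lpr_et (K12.f214113 IH) (Lpr_gt (f214978 IH) (Lpe (f43317 IH) (Lpn (LP (LK LD1_c17 LD2_c48 LD3_c1)))))))))))))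
theorem f246183 : Led Lsl_dt (LP (LK LD1_c15 LD2_c1 LD3_c1)) = (LP (LK LD1_c17 LD2_c48 LD3_c1)) :=
  Lgr Lrot42 (Lpr_df (f246180 IH) (Lpn (LP (LK LD1_c17 LD2_c48 LD3_c1))))
theorem f251637 : Led Lsl_et (LP (LK LD1_c18 LD2_c9 LD3_c0)) = (LP (LK LD1_c15 LD2_c1 LD3_c1)) :=
  Lgr Lrot71 (Lpe (f250126 IH) (Lpr_ef (f251633 IH) (Lpe (f214980 IH) (Lpe (f43317 IH) (Lpe (f246183 IH) (Lpn (LP (LK LD1_c15 LD2_c1 LD3_c1))))))))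
theorem f251644 : Led Lsl_dt (LP (LK LD1_c18 LD2_c9 LD3_c0)) = (LP (LK LD1_c9 LD2_c54 LD3_c54)) :=
  Lre_d IH (LK LD1_c18 LD2_c9 LD3_c0) (LK LD1_c9 LD2_c54 LD3_c54) Lrfl Lrfl
theorem f253531 : Led Lsl_bt (LP (LK LD1_c2 LD2_c7 LD3_c16)) = (LP (LK LD1_c1 LD2_c0 LD3_c43)) :=
  Lre_b IH (LK LD1_c2 LD2_c7 LD3_c16) (LK LD1_c1 LD2_c0 LD3_c43) Lrfl Lrfl
theorem f253532 : Led Lsl_dt (LP (LK LD1_c1 LD2_c18 LD3_c25)) = (LP (LK LD1_c2 LD2_c7 LD3_c16)) :=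
  Lgr Lrot79 (Lpe (K12.f178104 IH) (Lpr_df (f253528 IH) (Lpe (f253531 IH) (Lpn (LP (LK LD1_c2 LD2_c7 LD3_c16))))))
theorem f253587 : Led Lsl_et (LP (LK LD1_c1 LD2_c18 LD3_c25)) = (LP (LK LD1_c2 LD2_c44 LD3_c9)) :=
  Lre_e IH (LK LD1_c1 LD2_c18 LD3_c25) (LK LD1_c2 LD2_c44 LD3_c9) Lrfl Lrfl
theorem f253588 : Led Lsl_gt (LP (LK LD1_c2 LD2_c44 LD3_c9)) = (LP (LK LD1_c5 LD2_c36 LD3_c34)) :=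
  Lre_g IH (LK LD1_c2 LD2_c44 LD3_c9) (LK LD1_c5 LD2_c36 LD3_c34) Lrfl Lrfl
theorem f253591 : Led Lsl_df (LP (LK LD1_c5 LD2_c2 LD3_c5)) = (LP (LK LD1_c5 LD2_c36 LD3_c34)) :=
  Lgr Lrot135 (Lpr_gt (f250125 IH) (Lpe (f251644 IH) (Lpr_et (f251637 IH) (Lpr_gt (f189495 IH) (Lpe (f189489 IH) (Lpe (f189486 IH) (Lpr_gt (f253581 IH) (Lpe (f253532 IH) (Lpr_et (f253587 IH) (Lpr_gt (f253588 IH) (Lpn (LP (LK LD1_c5 LD2_c36 LD3_c34)))))))))))))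
theorem f253595 : Led Lsl_dt (LP (LK LD1_c5 LD2_c2 LD3_c5)) = (LP (LK LD1_c5 LD2_c36 LD3_c34)) :=
  Lgr Lrot42 (Lpr_df (f253591 IH) (Lpn (LP (LK LD1_c5 LD2_c36 LD3_c34))))
theorem f166665 : Led Lsl_et (LP (LK LD1_c5 LD2_c2 LD3_c5)) = (LP (LK LD1_c2 LD2_c28 LD3_c40)) :=
  Lre_e IH (LK LD1_c5 LD2_c2 LD3_c5) (LK LD1_c2 LD2_c28 LD3_c40) Lrfl Lrfl
theorem f44327 : Led Lsl_et (LP (LK LD1_c1 LD2_c9 LD3_c47)) = (LP (LK LD1_c1 LD2_c55 LD3_c49)) :=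
  Lgr Lrot123 (Lpr_af (K9.f43460 IH) (Lpr_ef (K1.f44322 IH) (Lpr_af (K12.f43845 IH) (Lpn (LP (LK LD1_c1 LD2_c55 LD3_c49))))))
theorem f214283 : Led Lsl_et (LP (LK LD1_c2 LD2_c32 LD3_c20)) = (LP (LK LD1_c1 LD2_c13 LD3_c9)) :=
  Lre_e IH (LK LD1_c2 LD2_c32 LD3_c20) (LK LD1_c1 LD2_c13 LD3_c9) Lrfl Lrfl
theorem f253610 : Led Lsl_dt (LP (LK LD1_c2 LD2_c32 LD3_c20)) = (LP (LK LD1_c2 LD2_c44 LD3_c9)) :=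
  Lgr Lrot136 (Lpr_et (f214283 IH) (Lpe (K12.f197034 IH) (Lpe (f44327 IH) (Lpr_dt (K9.f31525 IH) (Lpe (K12.f31527 IH) (Lpe (f43839 IH) (Lpr_gf (f193130 IH) (Lpe (f166665 IH) (Lpr_dt (f253595 IH) (Lpe (f253588 IH) (Lpn (LP (LK LD1_c2 LD2_c44 LD3_c9)))))))))))))
theorem f249615 : Led Lsl_ft (LP (LK LD1_c5 LD2_c10 LD3_c36)) = (LP (LK LD1_c2 LD2_c32 LD3_c20)) :=
  Lre_f IH (LK LD1_c5 LD2_c10 LD3_c36) (LK LD1_c2 LD2_c32 LD3_c20) Lrfl Lrfl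
theorem f253624 : Led Lsl_ft (LP (LK LD1_c2 LD2_c44 LD3_c9)) = (LP (LK LD1_c5 LD2_c36 LD3_c36)) :=
  Lre_f IH (LK LD1_c2 LD2_c44 LD3_c9) (LK LD1_c5 LD2_c36 LD3_c36) Lrfl Lrfl
theorem f253625 : Led Lsl_df (LP (LK LD1_c5 LD2_c10 LD3_c36)) = (LP (LK LD1_c5 LD2_c36 LD3_c36)) :=
  Lgr Lrot78 (Lpr_ft (f249615 IH) (Lpr_dt (f253610 IH) (Lpr_ft (f253624 IH) (Lpn (LP (LK LD1_c5 LD2_c36 LD3_c36))))))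
theorem f253655 : Led Lsl_dt (LP (LK LD1_c5 LD2_c10 LD3_c36)) = (LP (LK LD1_c5 LD2_c36 LD3_c36)) :=
  Lgr Lrot42 (Lpr_df (f253625 IH) (Lpn (LP (LK LD1_c5 LD2_c36 LD3_c36))))
theorem f253670 : Led Lsl_bt (LP (LK LD1_c5 LD2_c36 LD3_c36)) = (LP (LK LD1_c2 LD2_c44 LD3_c13)) :=
  Lre_b IH (LK LD1_c5 LD2_c36 LD3_c36) (LK LD1_c2 LD2_c44 LD3_c13) Lrfl Lrfl
theorem f253671 : Led Lsl_df (LP (LK LD1_c2 LD2_c32 LD3_c26)) = (LP (LK LD1_c2 LD2_c44 LD3_c13)) :=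
  Lgr Lrot12 (Lpr_bt (f248747 IH) (Lpr_dt (f253655 IH) (Lpr_bt (f253670 IH) (Lpn (LP (LK LD1_c2 LD2_c44 LD3_c13))))))
theorem f248762 : Led Lsl_dt (LP (LK LD1_c5 LD2_c10 LD3_c46)) = (LP (LK LD1_c10 LD2_c12 LD3_c11)) :=
  Lre_d IH (LK LD1_c5 LD2_c10 LD3_c46) (LK LD1_c10 LD2_c12 LD3_c11) Lrfl Lrfl
theorem f248795 : Led Lsl_ct (LP (LK LD1_c10 LD2_c12 LD3_c11)) = (LP (LK LD1_c18 LD2_c35 LD3_c5)) :=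
  Lre_c IH (LK LD1_c10 LD2_c12 LD3_c11) (LK LD1_c18 LD2_c35 LD3_c5) Lrfl Lrfl
theorem f248729 : Led Lsl_ct (LP (LK LD1_c5 LD2_c10 LD3_c46)) = (LP (LK LD1_c2 LD2_c32 LD3_c26)) :=
  Lre_c IH (LK LD1_c5 LD2_c10 LD3_c46) (LK LD1_c2 LD2_c32 LD3_c26) Lrfl Lrfl
theorem f248757 : Led Lsl_ct (LP (LK LD1_c18 LD2_c35 LD3_c5)) = (LP (LK LD1_c10 LD2_c12 LD3_c11)) :=
  Lre_c IH (LK LD1_c18 LD2_c35 LD3_c5) (LK LD1_c10 LD2_c12 LD3_c11) Lrfl Lrfl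
theorem f173951 : Led Lsl_et (LP (LK LD1_c1 LD2_c17 LD3_c2)) = (LP (LK LD1_c2 LD2_c40 LD3_c46)) :=
  Lre_e IH (LK LD1_c1 LD2_c17 LD3_c2) (LK LD1_c2 LD2_c40 LD3_c46) Lrfl Lrfl
theorem f167908 : Led Lsl_et (LP (LK LD1_c2 LD2_c12 LD3_c22)) = (LP (LK LD1_c1 LD2_c3 LD3_c8)) :=
  Lre_e IH (LK LD1_c2 LD2_c12 LD3_c22) (LK LD1_c1 LD2_c3 LD3_c8) Lrfl Lrfl
theorem f173952 : Led Lsl_ct (LP (LK LD1_c2 LD2_c40 LD3_c46)) = (LP (LK LD1_c2 LD2_c12 LD3_c22)) :=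
  Lgr Lrot15 (Lpe (f173951 IH) (Lpr_cf (K13.f173930 IH) (Lpe (f167908 IH) (Lpn (LP (LK LD1_c2 LD2_c12 LD3_c22))))))
theorem f173963 : Led Lsl_cf (LP (LK LD1_c2 LD2_c40 LD3_c46)) = (LP (LK LD1_c2 LD2_c12 LD3_c22)) :=
  Lgr Lrot11 (Lpr_ct (f173952 IH) (Lpn (LP (LK LD1_c2 LD2_c12 LD3_c22))))
theorem f168561 : Led Lsl_dt (LP (LK LD1_c2 LD2_c40 LD3_c46)) = (LP (LK LD1_c5 LD2_c29 LD3_c1)) :=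
  Lre_d IH (LK LD1_c2 LD2_c40 LD3_c46) (LK LD1_c5 LD2_c29 LD3_c1) Lrfl Lrfl
theorem f173975 : Led Lsl_ct (LP (LK LD1_c5 LD2_c29 LD3_c1)) = (LP (LK LD1_c10 LD2_c49 LD3_c11)) :=
  Lre_c IH (LK LD1_c5 LD2_c29 LD3_c1) (LK LD1_c10 LD2_c49 LD3_c11) Lrfl Lrfl
theorem f250356 : Led Lsl_df (LP (LK LD1_c18 LD2_c35 LD3_c5)) = (LP (LK LD1_c10 LD2_c49 LD3_c11)) :=
  Lgr Lrot13 (Lpr_ct (f248757 IH) (Lpr_dt (f248756 IH) (Lpr_ct (f248729 IH) (Lpe (f248720 IH) (Lpe (f248689 IH) (Lpr_dt (f250351 IH) (Lpe (f173963 IH) (Lpr_dt (f168561 IH) (Lpr_ct (f173975 IH) (Lpn (LP (LK LD1_c10 LD2_c49 LD3_c11))))))))))))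
theorem f250378 : Led Lsl_dt (LP (LK LD1_c18 LD2_c35 LD3_c5)) = (LP (LK LD1_c10 LD2_c49 LD3_c11)) :=
  Lgr Lrot42 (Lpr_df (f250356 IH) (Lpn (LP (LK LD1_c10 LD2_c49 LD3_c11))))
theorem f173966 : Led Lsl_ct (LP (LK LD1_c10 LD2_c49 LD3_c11)) = (LP (LK LD1_c5 LD2_c29 LD3_c1)) :=
  Lre_c IH (LK LD1_c10 LD2_c49 LD3_c11) (LK LD1_c5 LD2_c29 LD3_c1) Lrfl Lrfl
theorem f173965 : Led Lsl_dt (LP (LK LD1_c5 LD2_c29 LD3_c1)) = (LP (LK LD1_c2 LD2_c40 LD3_c46)) :=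
  Lre_d IH (LK LD1_c5 LD2_c29 LD3_c1) (LK LD1_c2 LD2_c40 LD3_c46) Lrfl Lrfl
theorem f253688 : Led Lsl_ft (LP (LK LD1_c2 LD2_c44 LD3_c13)) = (LP (LK LD1_c1 LD2_c18 LD3_c27)) :=
  Lre_f IH (LK LD1_c2 LD2_c44 LD3_c13) (LK LD1_c1 LD2_c18 LD3_c27) Lrfl Lrfl
theorem f253689 : Led Lsl_af (LP (LK LD1_c2 LD2_c12 LD3_c22)) = (LP (LK LD1_c1 LD2_c18 LD3_c27)) :=
  Lgr Lrot109 (Lpe (f173952 IH) (Lpe (f173965 IH) (Lpe (f173966 IH) (Lpe (f250378 IH) (Lpe (f248795 IH) (Lpe (f248762 IH) (Lpe (f248730 IH) (Lpr_df (f253671 IH) (Lpr_ft (f253688 IH) (Lpn (LP (LK LD1_c1 LD2_c18 LD3_c27))))))))))))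
theorem f253537 : Led Lsl_et (LP (LK LD1_c0 LD2_c36 LD3_c7)) = (LP (LK LD1_c1 LD2_c18 LD3_c27)) :=
  Lre_e IH (LK LD1_c0 LD2_c36 LD3_c7) (LK LD1_c1 LD2_c18 LD3_c27) Lrfl Lrfl
theorem f253696 : Led Lsl_at (LP (LK LD1_c1 LD2_c3 LD3_c8)) = (LP (LK LD1_c0 LD2_c36 LD3_c7)) :=
  Lgr Lrot80 (Lpe (f167908 IH) (Lpr_af (f253689 IH) (Lpe (f253537 IH) (Lpn (LP (LK LD1_c0 LD2_c36 LD3_c7))))))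
theorem f253707 : Led Lsl_ff (LP (LK LD1_c1 LD2_c3 LD3_c8)) = (LP (LK LD1_c0 LD2_c36 LD3_c6)) :=
  Lgr Lrot52 (Lpr_at (f253696 IH) (Lpe (K12.f178096 IH) (Lpr_gf (K9.f177920 IH) (Lpn (LP (LK LD1_c0 LD2_c36 LD3_c6))))))
theorem f253711 : Led Lsl_ft (LP (LK LD1_c1 LD2_c17 LD3_c2)) = (LP (LK LD1_c1 LD2_c18 LD3_c23)) :=
  Lgr Lrot4 (Lpr_cf (K13.f173930 IH) (Lpr_ff (f253707 IH) (Lpe (K12.f177922 IH) (Lpn (LP (LK LD1_c1 LD2_c18 LD3_c23))))))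
theorem f253720 : Led Lsl_af (LP (LK LD1_c1 LD2_c17 LD3_c1)) = (LP (LK LD1_c1 LD2_c18 LD3_c23)) :=
  Lgr Lrot31 (Lpe (K12.f7885 IH) (Lpe (K12.f168549 IH) (Lpr_ft (f253711 IH) (Lpn (LP (LK LD1_c1 LD2_c18 LD3_c23))))))
theorem f253703 : Led Lsl_af (LP (LK LD1_c1 LD2_c17 LD3_c2)) = (LP (LK LD1_c1 LD2_c18 LD3_c26)) :=
  Lgr Lrot68 (Lpr_ct (K12.f173928 IH) (Lpr_at (f253696 IH) (Lpr_ct (K12.f177863 IH) (Lpn (LP (LK LD1_c1 LD2_c18 LD3_c26))))))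
theorem f253732 : Led Lsl_ft (LP (LK LD1_c1 LD2_c17 LD3_c1)) = (LP (LK LD1_c1 LD2_c18 LD3_c26)) :=
  Lgr Lrot101 (Lpr_af (f253720 IH) (Lpe (f253711 IH) (Lpr_af (f253703 IH) (Lpn (LP (LK LD1_c1 LD2_c18 LD3_c26))))))
theorem f253743 : Led Lsl_ff (LP (LK LD1_c1 LD2_c17 LD3_c1)) = (LP (LK LD1_c1 LD2_c18 LD3_c26)) :=
  Lgr Lrot3 (Lpr_ft (f253732 IH) (Lpn (LP (LK LD1_c1 LD2_c18 LD3_c26))))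
theorem f165035 : Led Lsl_et (LP (LK LD1_c1 LD2_c17 LD3_c1)) = (LP (LK LD1_c2 LD2_c40 LD3_c43)) :=
  Lre_e IH (LK LD1_c1 LD2_c17 LD3_c1) (LK LD1_c2 LD2_c40 LD3_c43) Lrfl Lrfl
theorem f253753 : Led Lsl_ft (LP (LK LD1_c2 LD2_c40 LD3_c43)) = (LP (LK LD1_c5 LD2_c28 LD3_c55)) :=
  Lre_f IH (LK LD1_c2 LD2_c40 LD3_c43) (LK LD1_c5 LD2_c28 LD3_c55) Lrfl Lrfl
theorem f178109 : Led Lsl_et (LP (LK LD1_c2 LD2_c44 LD3_c11)) = (LP (LK LD1_c1 LD2_c18 LD3_c26)) :=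
  Lre_e IH (LK LD1_c2 LD2_c44 LD3_c11) (LK LD1_c1 LD2_c18 LD3_c26) Lrfl Lrfl
theorem f183184 : Led Lsl_ft (LP (LK LD1_c5 LD2_c36 LD3_c43)) = (LP (LK LD1_c2 LD2_c44 LD3_c11)) :=
  Lre_f IH (LK LD1_c5 LD2_c36 LD3_c43) (LK LD1_c2 LD2_c44 LD3_c11) Lrfl Lrfl
theorem f253754 : Led Lsl_et (LP (LK LD1_c5 LD2_c28 LD3_c55)) = (LP (LK LD1_c5 LD2_c36 LD3_c43)) :=
  Lgr Lrot69 (Lpe (f253753 IH) (Lpe (f165035 IH) (Lpr_ff (f253743 IH) (Lpe (f178109 IH) (Lpe (f183184 IH) (Lpn (LP (LK LD1_c5 LD2_c36 LD3_c43))))))))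
theorem f253756 : Led Lsl_bt (LP (LK LD1_c10 LD2_c48 LD3_c55)) = (LP (LK LD1_c5 LD2_c28 LD3_c55)) :=
  Lre_b IH (LK LD1_c10 LD2_c48 LD3_c55) (LK LD1_c5 LD2_c28 LD3_c55) Lrfl Lrfl
theorem f183180 : Led Lsl_bt (LP (LK LD1_c5 LD2_c36 LD3_c43)) = (LP (LK LD1_c11 LD2_c5 LD3_c29)) :=
  Lre_b IH (LK LD1_c5 LD2_c36 LD3_c43) (LK LD1_c11 LD2_c5 LD3_c29) Lrfl Lrfl
theorem f253757 : Led Lsl_ef (LP (LK LD1_c10 LD2_c48 LD3_c55)) = (LP (LK LD1_c11 LD2_c5 LD3_c29)) :=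
  Lgr Lrot29 (Lpr_bt (f253756 IH) (Lpr_et (f253754 IH) (Lpr_bt (f183180 IH) (Lpn (LP (LK LD1_c11 LD2_c5 LD3_c29))))))
theorem f253769 : Led Lsl_et (LP (LK LD1_c10 LD2_c48 LD3_c55)) = (LP (LK LD1_c11 LD2_c5 LD3_c29)) :=
  Lgr Lrot87 (Lpr_ef (f253757 IH) (Lpn (LP (LK LD1_c11 LD2_c5 LD3_c29))))
theorem f253781 : Led Lsl_ct (LP (LK LD1_c19 LD2_c33 LD3_c5)) = (LP (LK LD1_c10 LD2_c48 LD3_c55)) :=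
  Lre_c IH (LK LD1_c19 LD2_c33 LD3_c5) (LK LD1_c10 LD2_c48 LD3_c55) Lrfl Lrfl
theorem f253782 : Led Lsl_ct (LP (LK LD1_c11 LD2_c5 LD3_c29)) = (LP (LK LD1_c19 LD2_c58 LD3_c8)) :=
  Lre_c IH (LK LD1_c11 LD2_c5 LD3_c29) (LK LD1_c19 LD2_c58 LD3_c8) Lrfl Lrfl
theorem f253783 : Led Lsl_ef (LP (LK LD1_c19 LD2_c33 LD3_c5)) = (LP (LK LD1_c19 LD2_c58 LD3_c8)) :=
  Lgr Lrot28 (Lpr_ct (f253781 IH) (Lpr_et (f253769 IH) (Lpr_ct (f253782 IH) (Lpn (LP (LK LD1_c19 LD2_c58 LD3_c8))))))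
theorem f253794 : Led Lsl_ft (LP (LK LD1_c19 LD2_c33 LD3_c5)) = (LP (LK LD1_c10 LD2_c48 LD3_c49)) :=
  Lre_f IH (LK LD1_c19 LD2_c33 LD3_c5) (LK LD1_c10 LD2_c48 LD3_c49) Lrfl Lrfl
theorem f253795 : Led Lsl_et (LP (LK LD1_c10 LD2_c48 LD3_c49)) = (LP (LK LD1_c5 LD2_c28 LD3_c50)) :=
  Lre_e IH (LK LD1_c10 LD2_c48 LD3_c49) (LK LD1_c5 LD2_c28 LD3_c50) Lrfl Lrfl
theorem f253796 : Led Lsl_ft (LP (LK LD1_c11 LD2_c5 LD3_c11)) = (LP (LK LD1_c19 LD2_c58 LD3_c8)) :=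
  Lre_f IH (LK LD1_c11 LD2_c5 LD3_c11) (LK LD1_c19 LD2_c58 LD3_c8) Lrfl Lrfl
theorem f253797 : Led Lsl_et (LP (LK LD1_c5 LD2_c36 LD3_c31)) = (LP (LK LD1_c11 LD2_c5 LD3_c11)) :=
  Lre_e IH (LK LD1_c5 LD2_c36 LD3_c31) (LK LD1_c11 LD2_c5 LD3_c11) Lrfl Lrfl
theorem f253798 : Led Lsl_ft (LP (LK LD1_c5 LD2_c28 LD3_c50)) = (LP (LK LD1_c5 LD2_c36 LD3_c31)) :=
  Lgr Lrot86 (Lpe (f253795 IH) (Lpe (f253794 IH) (Lpr_ef (f253783 IH) (Lpe (f253796 IH) (Lpe (f253797 IH) (Lpn (LP (LK LD1_c5 LD2_c36 LD3_c31))))))))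
theorem f253808 : Led Lsl_ff (LP (LK LD1_c5 LD2_c28 LD3_c50)) = (LP (LK LD1_c5 LD2_c36 LD3_c31)) :=
  Lgr Lrot3 (Lpr_ft (f253798 IH) (Lpn (LP (LK LD1_c5 LD2_c36 LD3_c31))))
theorem f226761 : Led Lsl_ct (LP (LK LD1_c4 LD2_c19 LD3_c44)) = (LP (LK LD1_c2 LD2_c7 LD3_c15)) :=
  Lre_c IH (LK LD1_c4 LD2_c19 LD3_c44) (LK LD1_c2 LD2_c7 LD3_c15) Lrfl Lrfl
theorem f226762 : Led Lsl_bt (LP (LK LD1_c1 LD2_c17 LD3_c1)) = (LP (LK LD1_c2 LD2_c40 LD3_c41)) :=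
  Lre_b IH (LK LD1_c1 LD2_c17 LD3_c1) (LK LD1_c2 LD2_c40 LD3_c41) Lrfl Lrfl
theorem f226763 : Led Lsl_ct (LP (LK LD1_c2 LD2_c40 LD3_c41)) = (LP (LK LD1_c5 LD2_c28 LD3_c50)) :=
  Lre_c IH (LK LD1_c2 LD2_c40 LD3_c41) (LK LD1_c5 LD2_c28 LD3_c50) Lrfl Lrfl
theorem f226764 : Led Lsl_bf (LP (LK LD1_c4 LD2_c19 LD3_c44)) = (LP (LK LD1_c5 LD2_c28 LD3_c50)) :=
  Lgr Lrot90 (Lpr_ct (f226761 IH) (Lpr_bt (K13.f179861 IH) (Lpr_ct (K12.f226754 IH) (Lpr_bt (f226762 IH) (Lpr_ct (f226763 IH) (Lpn (LP (LK LD1_c5 LD2_c28 LD3_c50))))))))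
theorem f226942 : Led Lsl_bt (LP (LK LD1_c2 LD2_c44 LD3_c8)) = (LP (LK LD1_c5 LD2_c36 LD3_c31)) :=
  Lre_b IH (LK LD1_c2 LD2_c44 LD3_c8) (LK LD1_c5 LD2_c36 LD3_c31) Lrfl Lrfl
theorem f253823 : Led Lsl_ft (LP (LK LD1_c4 LD2_c19 LD3_c44)) = (LP (LK LD1_c2 LD2_c44 LD3_c8)) :=
  Lgr Lrot75 (Lpr_bf (f226764 IH) (Lpr_ff (f253808 IH) (Lpe (f226942 IH) (Lpn (LP (LK LD1_c2 LD2_c44 LD3_c8))))))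
theorem f253887 : Led Lsl_at (LP (LK LD1_c2 LD2_c44 LD3_c8)) = (LP (LK LD1_c5 LD2_c36 LD3_c28)) :=
  Lre_a IH (LK LD1_c2 LD2_c44 LD3_c8) (LK LD1_c5 LD2_c36 LD3_c28) Lrfl Lrfl
theorem f253899 : Led Lsl_gt (LP (LK LD1_c4 LD2_c3 LD3_c40)) = (LP (LK LD1_c5 LD2_c36 LD3_c28)) :=
  Lgr Lrot46 (Lpe (K13.f226786 IH) (Lpr_ft (f253823 IH) (Lpr_at (f253887 IH) (Lpn (LP (LK LD1_c5 LD2_c36 LD3_c28))))))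
theorem f253901 : Led Lsl_ct (LP (LK LD1_c2 LD2_c44 LD3_c7)) = (LP (LK LD1_c5 LD2_c36 LD3_c28)) :=
  Lre_c IH (LK LD1_c2 LD2_c44 LD3_c7) (LK LD1_c5 LD2_c36 LD3_c28) Lrfl Lrfl
theorem f235767 : Led Lsl_at (LP (LK LD1_c4 LD2_c30 LD3_c52)) = (LP (LK LD1_c2 LD2_c12 LD3_c21)) :=
  Lre_a IH (LK LD1_c4 LD2_c30 LD3_c52) (LK LD1_c2 LD2_c12 LD3_c21) Lrfl Lrfl
theorem f253700 : Led Lsl_at (LP (LK LD1_c1 LD2_c18 LD3_c25)) = (LP (LK LD1_c2 LD2_c44 LD3_c7)) :=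
  Lre_a IH (LK LD1_c1 LD2_c18 LD3_c25) (LK LD1_c2 LD2_c44 LD3_c7) Lrfl Lrfl
theorem f253701 : Led Lsl_bf (LP (LK LD1_c4 LD2_c30 LD3_c52)) = (LP (LK LD1_c2 LD2_c44 LD3_c7)) :=
  Lgr Lrot81 (Lpr_at (f235767 IH) (Lpr_bt (K13.f173946 IH) (Lpr_at (f253696 IH) (Lpr_bt (K12.f178104 IH) (Lpr_at (f253700 IH) (Lpn (LP (LK LD1_c2 LD2_c44 LD3_c7))))))))
theorem f253905 : Led Lsl_gf (LP (LK LD1_c2 LD2_c25 LD3_c8)) = (LP (LK LD1_c4 LD2_c30 LD3_c52)) :=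
  Lgr Lrot181 (Lpr_ct (K12.f41909 IH) (Lpe (K13.f221554 IH) (Lpe (K13.f196615 IH) (Lpr_bt (K13.f196613 IH) (Lpe (K12.f226899 IH) (Lpe (K13.f226785 IH) (Lpr_ct (K12.f201090 IH) (Lpr_gt (f253899 IH) (Lpe (f253901 IH) (Lpe (f253701 IH) (Lpn (LP (LK LD1_c4 LD2_c30 LD3_c52)))))))))))))
theorem f171983 : Led Lsl_gt (LP (LK LD1_c5 LD2_c22 LD3_c18)) = (LP (LK LD1_c2 LD2_c37 LD3_c41)) :=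
  Lre_g IH (LK LD1_c5 LD2_c22 LD3_c18) (LK LD1_c2 LD2_c37 LD3_c41) Lrfl Lrfl
theorem f253915 : Led Lsl_ct (LP (LK LD1_c5 LD2_c22 LD3_c18)) = (LP (LK LD1_c4 LD2_c30 LD3_c52)) :=
  Lgr Lrot8 (Lpr_gt (f171983 IH) (Lpr_dt (K12.f172021 IH) (Lpe (K12.f224699 IH) (Lpr_dt (K12.f217324 IH) (Lpe (K12.f179524 IH) (Lpe (K12.f55279 IH) (Lpe (K9.f40805 IH) (Lpe (K10.f55106 IH) (Lpr_gf (f253905 IH) (Lpn (LP (LK LD1_c4 LD2_c30 LD3_c52))))))))))))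
theorem f253919 : Led Lsl_gt (LP (LK LD1_c5 LD2_c20 LD3_c35)) = (LP (LK LD1_c5 LD2_c22 LD3_c18)) :=
  Lgr Lrot9 (Lpr_df (K12.f223867 IH) (Lpr_gt (K12.f173118 IH) (Lpr_ct (K12.f218777 IH) (Lpr_gt (K12.f167958 IH) (Lpe (K12.f218770 IH) (Lpe (K13.f167799 IH) (Lpe (K12.f41909 IH) (Lpr_gf (f253905 IH) (Lpe (f253915 IH) (Lpn (LP (LK LD1_c5 LD2_c22 LD3_c18))))))))))))
theorem f253926 : Led Lsl_df (LP (LK LD1_c9 LD2_c42 LD3_c52)) = (LP (LK LD1_c5 LD2_c22 LD3_c18)) :=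
  Lgr Lrot153 (Lpe (f246504 IH) (Lpr_dt (f167937 IH) (Lpr_cf (K9.f167926 IH) (Lpr_df (K10.f194603 IH) (Lpe (K13.f246370 IH) (Lpe (f243940 IH) (Lpr_gf (f246386 IH) (Lpe (K12.f223869 IH) (Lpr_gt (f253919 IH) (Lpn (LP (LK LD1_c5 LD2_c22 LD3_c18))))))))))))
theorem f246553 : Led Lsl_dt (LP (LK LD1_c8 LD2_c21 LD3_c40)) = (LP (LK LD1_c10 LD2_c40 LD3_c42)) :=
  Lgr Lrot42 (Lpr_df (f246540 IH) (Lpn (LP (LK LD1_c10 LD2_c40 LD3_c42))))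
theorem f187029 : Led Lsl_bt (LP (LK LD1_c4 LD2_c10 LD3_c52)) = (LP (LK LD1_c8 LD2_c21 LD3_c40)) :=
  Lre_b IH (LK LD1_c4 LD2_c10 LD3_c52) (LK LD1_c8 LD2_c21 LD3_c40) Lrfl Lrfl
theorem f246567 : Led Lsl_df (LP (LK LD1_c4 LD2_c10 LD3_c52)) = (LP (LK LD1_c5 LD2_c24 LD3_c60)) :=
  Lgr Lrot12 (Lpr_bt (f187029 IH) (Lpr_dt (f246553 IH) (Lpr_bt (f213038 IH) (Lpn (LP (LK LD1_c5 LD2_c24 LD3_c60))))))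
theorem f228812 : Led Lsl_at (LP (LK LD1_c2 LD2_c3 LD3_c47)) = (LP (LK LD1_c0 LD2_c58 LD3_c55)) :=
  Lre_a IH (LK LD1_c2 LD2_c3 LD3_c47) (LK LD1_c0 LD2_c58 LD3_c55) Lrfl Lrfl
theorem f228896 : Led Lsl_ft (LP (LK LD1_c4 LD2_c12 LD3_c61)) = (LP (LK LD1_c2 LD2_c3 LD3_c47)) :=
  Lre_f IH (LK LD1_c4 LD2_c12 LD3_c61) (LK LD1_c2 LD2_c3 LD3_c47) Lrfl Lrfl
theorem f253917 : Led Lsl_cf (LP (LK LD1_c5 LD2_c22 LD3_c18)) = (LP (LK LD1_c4 LD2_c30 LD3_c52)) :=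
  Lgr Lrot166 (Lpr_gt (f171983 IH) (Lpr_dt (K12.f172021 IH) (Lpe (K12.f224699 IH) (Lpr_dt (K12.f217324 IH) (Lpr_ct (K12.f169315 IH) (Lpe (K12.f55279 IH) (Lpe (K9.f40805 IH) (Lpe (K10.f55106 IH) (Lpr_gf (f253905 IH) (Lpn (LP (LK LD1_c4 LD2_c30 LD3_c52))))))))))))
theorem f253930 : Led Lsl_dt (LP (LK LD1_c4 LD2_c12 LD3_c61)) = (LP (LK LD1_c4 LD2_c30 LD3_c52)) :=
  Lgr Lrot159 (Lpr_ft (f228896 IH) (Lpr_at (f228812 IH) (Lpr_cf (K12.f228808 IH) (Lpe (K12.f187026 IH) (Lpe (f179762 IH) (Lpr_df (f246567 IH) (Lpr_cf (f246495 IH) (Lpr_df (f253926 IH) (Lpr_cf (f253917 IH) (Lpn (LP (LK LD1_c4 LD2_c30 LD3_c52))))))))))))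
theorem f246296 : Led Lsl_gt (LP (LK LD1_c2 LD2_c3 LD3_c52)) = (LP (LK LD1_c4 LD2_c12 LD3_c61)) :=
  Lre_g IH (LK LD1_c2 LD2_c3 LD3_c52) (LK LD1_c4 LD2_c12 LD3_c61) Lrfl Lrfl
theorem f248048 : Led Lsl_et (LP (LK LD1_c0 LD2_c33 LD3_c53)) = (LP (LK LD1_c1 LD2_c13 LD3_c5)) :=
  Lre_e IH (LK LD1_c0 LD2_c33 LD3_c53) (LK LD1_c1 LD2_c13 LD3_c5) Lrfl Lrfl
theorem f253940 : Led Lsl_gf (LP (LK LD1_c1 LD2_c13 LD3_c5)) = (LP (LK LD1_c2 LD2_c25 LD3_c9)) :=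
  Lgr Lrot141 (Lpe (f248048 IH) (Lpr_dt (f189545 IH) (Lpr_gt (K10.f186731 IH) (Lpr_df (f251313 IH) (Lpr_et (f246631 IH) (Lpr_gt (f246296 IH) (Lpr_dt (f253930 IH) (Lpe (f253905 IH) (Lpe (K10.f41908 IH) (Lpr_et (K10.f167801 IH) (Lpn (LP (LK LD1_c2 LD2_c25 LD3_c9)))))))))))))
theorem f246059 : Led Lsl_gt (LP (LK LD1_c0 LD2_c33 LD3_c26)) = (LP (LK LD1_c0 LD2_c35 LD3_c41)) :=
  Lgr Lrot150 (Lpe (K9.f166125 IH) (Lpr_gf (f226056 IH) (Lpr_df (K9.f20662 IH) (Lpr_gt (K9.f6969 IH) (Lpr_ct (K9.f9074 IH) (Lpr_gt (K10.f20675 IH) (Lpr_ct (K10.f175944 IH) (Lpr_df (K13.f246043 IH) (Lpr_cf (K13.f175063 IH) (Lpn (LP (LK LD1_c0 LD2_c35 LD3_c41))))))))))))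
theorem f178244 : Led Lsl_ct (LP (LK LD1_c0 LD2_c26 LD3_c40)) = (LP (LK LD1_c0 LD2_c36 LD3_c10)) :=
  Lgr Lrot8 (Lpe (K9.f53165 IH) (Lpr_dt (K9.f40825 IH) (Lpr_gt (K9.f53167 IH) (Lpr_dt (K1.f53168 IH) (Lpe (K1.f21292 IH) (Lpe (K1.f8118 IH) (Lpr_gf (K9.f178181 IH) (Lpe (K9.f7947 IH) (Lpe (K9.f178243 IH) (Lpn (LP (LK LD1_c0 LD2_c36 LD3_c10))))))))))))
theorem f246057 : Led Lsl_gf (LP (LK LD1_c0 LD2_c26 LD3_c40)) = (LP (LK LD1_c0 LD2_c32 LD3_c33)) :=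
  Lgr Lrot147 (Lpr_ct (f178244 IH) (Lpr_gt (K9.f178243 IH) (Lpr_ct (K11.f7948 IH) (Lpe (K9.f8391 IH) (Lpe (K10.f8386 IH) (Lpe (K10.f177819 IH) (Lpe (K1.f55439 IH) (Lpe (K9.f55605 IH) (Lpr_df (K13.f246043 IH) (Lpn (LP (LK LD1_c0 LD2_c32 LD3_c33))))))))))))
theorem f178261 : Led Lsl_bt (LP (LK LD1_c0 LD2_c36 LD3_c10)) = (LP (LK LD1_c1 LD2_c18 LD3_c34)) :=
  Lre_b IH (LK LD1_c0 LD2_c36 LD3_c10) (LK LD1_c1 LD2_c18 LD3_c34) Lrfl Lrfl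
theorem f253942 : Led Lsl_gt (LP (LK LD1_c1 LD2_c18 LD3_c34)) = (LP (LK LD1_c1 LD2_c55 LD3_c57)) :=
  Lgr Lrot164 (Lpe (f178261 IH) (Lpe (K9.f178246 IH) (Lpr_gf (f246057 IH) (Lpr_cf (K13.f175063 IH) (Lpe (f246059 IH) (Lpe (K11.f189571 IH) (Lpe (K10.f189567 IH) (Lpr_gf (f253940 IH) (Lpe (K10.f169265 IH) (Lpr_bt (K10.f169264 IH) (Lpn (LP (LK LD1_c1 LD2_c55 LD3_c57)))))))))))))
theorem f170843 : Led Lsl_gt (LP (LK LD1_c2 LD2_c2 LD3_c23)) = (LP (LK LD1_c0 LD2_c58 LD3_c5)) :=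
  Lre_g IH (LK LD1_c2 LD2_c2 LD3_c23) (LK LD1_c0 LD2_c58 LD3_c5) Lrfl Lrfl
theorem f253947 : Led Lsl_cf (LP (LK LD1_c1 LD2_c18 LD3_c34)) = (LP (LK LD1_c2 LD2_c2 LD3_c23)) :=
  Lgr Lrot166 (Lpr_gt (f253942 IH) (Lpr_dt (K10.f41371 IH) (Lpr_gt (K10.f47954 IH) (Lpr_dt (K1.f46225 IH) (Lpr_ct (K1.f46212 IH) (Lpe (K1.f44049 IH) (Lpr_gf (K9.f182204 IH) (Lpe (K9.f178701 IH) (Lpe (f170843 IH) (Lpn (LP (LK LD1_c2 LD2_c2 LD3_c23))))))))))))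
theorem f230787 : Led Lsl_gt (LP (LK LD1_c4 LD2_c10 LD3_c3)) = (LP (LK LD1_c2 LD2_c2 LD3_c23)) :=
  Lre_g IH (LK LD1_c4 LD2_c10 LD3_c3) (LK LD1_c2 LD2_c2 LD3_c23) Lrfl Lrfl
theorem f251615 : Led Lsl_bf (LP (LK LD1_c2 LD2_c34 LD3_c39)) = (LP (LK LD1_c4 LD2_c18 LD3_c56)) :=
  Lgr Lrot93 (Lpr_dt (f49891 IH) (Lpr_bt (f237074 IH) (Lpr_dt (f251613 IH) (Lpn (LP (LK LD1_c4 LD2_c18 LD3_c56))))))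
theorem f253949 : Led Lsl_gf (LP (LK LD1_c2 LD2_c34 LD3_c39)) = (LP (LK LD1_c4 LD2_c13 LD3_c59)) :=
  Lgr Lrot124 (Lpr_bf (f251615 IH) (Lpr_ct (K12.f229933 IH) (Lpr_gt (K12.f229932 IH) (Lpe (f230270 IH) (Lpr_bt (f230781 IH) (Lpr_gt (f230787 IH) (Lpe (f253947 IH) (Lpr_gt (f253942 IH) (Lpe (K10.f47974 IH) (Lpr_bt (K10.f188577 IH) (Lpn (LP (LK LD1_c4 LD2_c13 LD3_c59)))))))))))))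
theorem f49906 : Led Lsl_ct (LP (LK LD1_c2 LD2_c34 LD3_c39)) = (LP (LK LD1_c1 LD2_c14 LD3_c22)) :=
  Lre_c IH (LK LD1_c2 LD2_c34 LD3_c39) (LK LD1_c1 LD2_c14 LD3_c22) Lrfl Lrfl
theorem f253965 : Led Lsl_gt (LP (LK LD1_c1 LD2_c14 LD3_c22)) = (LP (LK LD1_c1 LD2_c16 LD3_c57)) :=
  Lgr Lrot150 (Lpe (f49906 IH) (Lpr_gf (f253949 IH) (Lpe (K10.f188720 IH) (Lpr_gt (K10.f49154 IH) (Lpr_ct (K9.f49124 IH) (Lpe (K10.f188289 IH) (Lpr_ct (K10.f188288 IH) (Lpr_df (K13.f246230 IH) (Lpr_cf (K13.f197018 IH) (Lpn (LP (LK LD1_c1 LD2_c16 LD3_c57))))))))))))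
theorem f175061 : Led Lsl_bt (LP (LK LD1_c1 LD2_c10 LD3_c17)) = (LP (LK LD1_c0 LD2_c32 LD3_c33)) :=
  Lre_b IH (LK LD1_c1 LD2_c10 LD3_c17) (LK LD1_c0 LD2_c32 LD3_c33) Lrfl Lrfl
theorem f175062 : Led Lsl_bt (LP (LK LD1_c0 LD2_c35 LD3_c41)) = (LP (LK LD1_c1 LD2_c16 LD3_c57)) :=
  Lre_b IH (LK LD1_c0 LD2_c35 LD3_c41) (LK LD1_c1 LD2_c16 LD3_c57) Lrfl Lrfl
theorem f246222 : Led Lsl_bf (LP (LK LD1_c2 LD2_c8 LD3_c19)) = (LP (LK LD1_c2 LD2_c5 LD3_c16)) :=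
  Lgr Lrot90 (Lpr_ct (K13.f246125 IH) (Lpr_bt (f175061 IH) (Lpr_ct (K13.f175051 IH) (Lpr_bt (f175062 IH) (Lpe (K13.f197018 IH) (Lpn (LP (LK LD1_c2 LD2_c5 LD3_c16))))))))
theorem f253967 : Led Lsl_bf (LP (LK LD1_c2 LD2_c3 LD3_c15)) = (LP (LK LD1_c2 LD2_c2 LD3_c23)) :=
  Lgr Lrot34 (Lpe (K13.f246088 IH) (Lpr_bf (f246222 IH) (Lpe (f246228 IH) (Lpe (f253965 IH) (Lpe (f49906 IH) (Lpr_gf (f253949 IH) (Lpe (K10.f188577 IH) (Lpr_ct (K10.f47974 IH) (Lpe (f253942 IH) (Lpr_cf (f253947 IH) (Lpn (LP (LK LD1_c2 LD2_c2 LD3_c23)))))))))))))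
theorem f229707 : Led Lsl_bt (LP (LK LD1_c3 LD2_c56 LD3_c57)) = (LP (LK LD1_c1 LD2_c55 LD3_c14)) :=
  Lre_b IH (LK LD1_c3 LD2_c56 LD3_c57) (LK LD1_c1 LD2_c55 LD3_c14) Lrfl Lrfl
theorem f229919 : Led Lsl_cf (LP (LK LD1_c3 LD2_c57 LD3_c13)) = (LP (LK LD1_c3 LD2_c56 LD3_c57)) :=
  Lgr Lrot14 (Lpe (K12.f196334 IH) (Lpe (K12.f212310 IH) (Lpe (K12.f43288 IH) (Lpr_gf (K12.f43821 IH) (Lpr_ct (K9.f184838 IH) (Lpr_gt (K9.f46363 IH) (Lpr_dt (K1.f45850 IH) (Lpe (K12.f46530 IH) (Lpr_dt (K12.f229651 IH) (Lpn (LP (LK LD1_c3 LD2_c56 LD3_c57))))))))))))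
theorem f230235 : Led Lsl_bt (LP (LK LD1_c2 LD2_c6 LD3_c43)) = (LP (LK LD1_c4 LD2_c18 LD3_c55)) :=
  Lre_b IH (LK LD1_c2 LD2_c6 LD3_c43) (LK LD1_c4 LD2_c18 LD3_c55) Lrfl Lrfl
theorem f178262 : Led Lsl_gt (LP (LK LD1_c2 LD2_c44 LD3_c25)) = (LP (LK LD1_c1 LD2_c18 LD3_c34)) :=
  Lre_g IH (LK LD1_c2 LD2_c44 LD3_c25) (LK LD1_c1 LD2_c18 LD3_c34) Lrfl Lrfl
theorem f253976 : Led Lsl_ct (LP (LK LD1_c5 LD2_c37 LD3_c2)) = (LP (LK LD1_c2 LD2_c44 LD3_c25)) :=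
  Lre_c IH (LK LD1_c5 LD2_c37 LD3_c2) (LK LD1_c2 LD2_c44 LD3_c25) Lrfl Lrfl
theorem f253977 : Led Lsl_gt (LP (LK LD1_c4 LD2_c18 LD3_c55)) = (LP (LK LD1_c5 LD2_c37 LD3_c2)) :=
  Lgr Lrot82 (Lpe (f230235 IH) (Lpr_ct (f169336 IH) (Lpe (K12.f230412 IH) (Lpr_cf (f229919 IH) (Lpr_bt (f229707 IH) (Lpe (K13.f229710 IH) (Lpr_bf (f253967 IH) (Lpe (f253947 IH) (Lpe (f178262 IH) (Lpe (f253976 IH) (Lpn (LP (LK LD1_c5 LD2_c37 LD3_c2)))))))))))))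
theorem f250033 : Led Lsl_gf (LP (LK LD1_c2 LD2_c28 LD3_c50)) = (LP (LK LD1_c1 LD2_c11 LD3_c41)) :=
  Lgr Lrot144 (Lpr_dt (f177356 IH) (Lpr_gt (f250021 IH) (Lpr_dt (f165257 IH) (Lpe (K10.f165256 IH) (Lpe (K9.f171208 IH) (Lpe (K9.f171223 IH) (Lpr_df (K9.f171233 IH) (Lpe (K9.f169830 IH) (Lpe (K9.f28367 IH) (Lpn (LP (LK LD1_c1 LD2_c11 LD3_c41))))))))))))
theorem f184995 : Led Lsl_bt (LP (LK LD1_c1 LD2_c13 LD3_c23)) = (LP (LK LD1_c2 LD2_c32 LD3_c57)) :=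
  Lre_b IH (LK LD1_c1 LD2_c13 LD3_c23) (LK LD1_c2 LD2_c32 LD3_c57) Lrfl Lrfl
theorem f250064 : Led Lsl_gf (LP (LK LD1_c1 LD2_c14 LD3_c48)) = (LP (LK LD1_c2 LD2_c32 LD3_c57)) :=
  Lgr Lrot124 (Lpe (f229142 IH) (Lpr_ct (K13.f229126 IH) (Lpe (K13.f242847 IH) (Lpe (K11.f165328 IH) (Lpr_bt (K11.f165327 IH) (Lpr_gt (K9.f169610 IH) (Lpr_ct (K9.f28374 IH) (Lpe (f250033 IH) (Lpr_cf (f250049 IH) (Lpr_bt (f184995 IH) (Lpn (LP (LK LD1_c2 LD2_c32 LD3_c57)))))))))))))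
theorem f32861 : Led Lsl_gt (LP (LK LD1_c5 LD2_c18 LD3_c12)) = (LP (LK LD1_c10 LD2_c23 LD3_c60)) :=
  Lre_g IH (LK LD1_c5 LD2_c18 LD3_c12) (LK LD1_c10 LD2_c23 LD3_c60) Lrfl Lrfl
theorem f191533 : Led Lsl_dt (LP (LK LD1_c8 LD2_c15 LD3_c1)) = (LP (LK LD1_c5 LD2_c18 LD3_c12)) :=
  Lgr Lrot42 (Lpr_df (K13.f191524 IH) (Lpn (LP (LK LD1_c5 LD2_c18 LD3_c12))))
theorem f185033 : Led Lsl_ct (LP (LK LD1_c5 LD2_c12 LD3_c15)) = (LP (LK LD1_c2 LD2_c32 LD3_c57)) :=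
  Lre_c IH (LK LD1_c5 LD2_c12 LD3_c15) (LK LD1_c2 LD2_c32 LD3_c57) Lrfl Lrfl
theorem f250066 : Led Lsl_gf (LP (LK LD1_c8 LD2_c15 LD3_c1)) = (LP (LK LD1_c5 LD2_c12 LD3_c15)) :=
  Lgr Lrot144 (Lpr_dt (f191533 IH) (Lpr_gt (f32861 IH) (Lpr_dt (K10.f32860 IH) (Lpe (K10.f32554 IH) (Lpe (K1.f32166 IH) (Lpe (K10.f32177 IH) (Lpe (K10.f48244 IH) (Lpr_gf (f250064 IH) (Lpe (f185033 IH) (Lpn (LP (LK LD1_c5 LD2_c12 LD3_c15))))))))))))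
theorem f187879 : Led Lsl_dt (LP (LK LD1_c1 LD2_c59 LD3_c45)) = (LP (LK LD1_c4 LD2_c5 LD3_c9)) :=
  Lre_d IH (LK LD1_c1 LD2_c59 LD3_c45) (LK LD1_c4 LD2_c5 LD3_c9) Lrfl Lrfl
theorem f191051 : Led Lsl_bf (LP (LK LD1_c4 LD2_c7 LD3_c30)) = (LP (LK LD1_c4 LD2_c5 LD3_c9)) :=
  Lgr Lrot93 (Lpr_dt (K13.f44990 IH) (Lpr_bt (K10.f191047 IH) (Lpr_dt (f187879 IH) (Lpn (LP (LK LD1_c4 LD2_c5 LD3_c9))))))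
theorem f191063 : Led Lsl_bt (LP (LK LD1_c4 LD2_c7 LD3_c30)) = (LP (LK LD1_c4 LD2_c5 LD3_c9)) :=
  Lgr Lrot127 (Lpr_bf (f191051 IH) (Lpn (LP (LK LD1_c4 LD2_c5 LD3_c9))))
theorem f185017 : Led Lsl_ct (LP (LK LD1_c2 LD2_c32 LD3_c57)) = (LP (LK LD1_c5 LD2_c12 LD3_c15)) :=
  Lre_c IH (LK LD1_c2 LD2_c32 LD3_c57) (LK LD1_c5 LD2_c12 LD3_c15) Lrfl Lrfl
theorem f185006 : Led Lsl_bt (LP (LK LD1_c2 LD2_c32 LD3_c57)) = (LP (LK LD1_c1 LD2_c13 LD3_c23)) :=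
  Lre_b IH (LK LD1_c2 LD2_c32 LD3_c57) (LK LD1_c1 LD2_c13 LD3_c23) Lrfl Lrfl
theorem f238300 : Led Lsl_bt (LP (LK LD1_c1 LD2_c13 LD3_c39)) = (LP (LK LD1_c0 LD2_c34 LD3_c7)) :=
  Lre_b IH (LK LD1_c1 LD2_c13 LD3_c39) (LK LD1_c0 LD2_c34 LD3_c7) Lrfl Lrfl
theorem f230702 : Led Lsl_gt (LP (LK LD1_c5 LD2_c13 LD3_c8)) = (LP (LK LD1_c2 LD2_c33 LD3_c26)) :=
  Lre_g IH (LK LD1_c5 LD2_c13 LD3_c8) (LK LD1_c2 LD2_c33 LD3_c26) Lrfl Lrfl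
theorem f192483 : Led Lsl_dt (LP (LK LD1_c2 LD2_c28 LD3_c21)) = (LP (LK LD1_c1 LD2_c11 LD3_c24)) :=
  Lre_d IH (LK LD1_c2 LD2_c28 LD3_c21) (LK LD1_c1 LD2_c11 LD3_c24) Lrfl Lrfl
theorem f192484 : Led Lsl_gt (LP (LK LD1_c5 LD2_c1 LD3_c16)) = (LP (LK LD1_c2 LD2_c28 LD3_c21)) :=
  Lre_g IH (LK LD1_c5 LD2_c1 LD3_c16) (LK LD1_c2 LD2_c28 LD3_c21) Lrfl Lrfl
theorem f230738 : Led Lsl_ct (LP (LK LD1_c5 LD2_c1 LD3_c16)) = (LP (LK LD1_c5 LD2_c13 LD3_c8)) :=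
  Lgr Lrot8 (Lpr_gt (f192484 IH) (Lpr_dt (f192483 IH) (Lpe (K10.f192477 IH) (Lpr_dt (K9.f44530 IH) (Lpr_cf (K9.f183956 IH) (Lpr_df (K12.f230724 IH) (Lpe (K12.f230678 IH) (Lpe (K13.f230674 IH) (Lpe (f230702 IH) (Lpn (LP (LK LD1_c5 LD2_c13 LD3_c8))))))))))))
theorem f250108 : Led Lsl_gt (LP (LK LD1_c4 LD2_c5 LD3_c9)) = (LP (LK LD1_c5 LD2_c1 LD3_c16)) :=
  Lgr Lrot82 (Lpe (f191063 IH) (Lpr_ct (K13.f49897 IH) (Lpr_gf (f250066 IH) (Lpe (f185017 IH) (Lpr_bt (f185006 IH) (Lpe (f212004 IH) (Lpe (f238300 IH) (Lpr_ct (K13.f183897 IH) (Lpe (f230702 IH) (Lpe (f230738 IH) (Lpn (LP (LK LD1_c5 LD2_c1 LD3_c16)))))))))))))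
theorem f165628 : Led Lsl_bt (LP (LK LD1_c0 LD2_c33 LD3_c9)) = (LP (LK LD1_c1 LD2_c11 LD3_c32)) :=
  Lre_b IH (LK LD1_c0 LD2_c33 LD3_c9) (LK LD1_c1 LD2_c11 LD3_c32) Lrfl Lrfl
theorem f184834 : Led Lsl_ct (LP (LK LD1_c2 LD2_c35 LD3_c34)) = (LP (LK LD1_c5 LD2_c17 LD3_c39)) :=
  Lre_c IH (LK LD1_c2 LD2_c35 LD3_c34) (LK LD1_c5 LD2_c17 LD3_c39) Lrfl Lrfl
theorem f193120 : Led Lsl_bt (LP (LK LD1_c2 LD2_c35 LD3_c34)) = (LP (LK LD1_c1 LD2_c14 LD3_c51)) :=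
  Lre_b IH (LK LD1_c2 LD2_c35 LD3_c34) (LK LD1_c1 LD2_c14 LD3_c51) Lrfl Lrfl
theorem f250062 : Led Lsl_gt (LP (LK LD1_c1 LD2_c14 LD3_c51)) = (LP (LK LD1_c2 LD2_c32 LD3_c57)) :=
  Lgr Lrot164 (Lpe (f193120 IH) (Lpr_ct (f184834 IH) (Lpr_gf (f184882 IH) (Lpe (f184881 IH) (Lpe (f165336 IH) (Lpe (f165628 IH) (Lpr_ct (K8.f3785 IH) (Lpe (f165639 IH) (Lpr_cf (f250049 IH) (Lpr_bt (f184995 IH) (Lpn (LP (LK LD1_c2 LD2_c32 LD3_c57)))))))))))))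
theorem f250110 : Led Lsl_bf (LP (LK LD1_c5 LD2_c1 LD3_c16)) = (LP (LK LD1_c2 LD2_c28 LD3_c40)) :=
  Lgr Lrot34 (Lpe (f250108 IH) (Lpe (f191063 IH) (Lpr_ct (K13.f49897 IH) (Lpr_gf (f250066 IH) (Lpe (f185017 IH) (Lpe (f250062 IH) (Lpe (f193120 IH) (Lpr_ct (f184834 IH) (Lpr_gf (f184882 IH) (Lpe (f184881 IH) (Lpn (LP (LK LD1_c2 LD2_c28 LD3_c40)))))))))))))
theorem f169335 : Led Lsl_bt (LP (LK LD1_c4 LD2_c18 LD3_c55)) = (LP (LK LD1_c2 LD2_c6 LD3_c43)) :=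
  Lre_b IH (LK LD1_c4 LD2_c18 LD3_c55) (LK LD1_c2 LD2_c6 LD3_c43) Lrfl Lrfl
theorem f251664 : Led Lsl_dt (LP (LK LD1_c5 LD2_c1 LD3_c16)) = (LP (LK LD1_c4 LD2_c18 LD3_c55)) :=
  Lgr Lrot79 (Lpr_bf (f250110 IH) (Lpr_df (f251626 IH) (Lpe (f169335 IH) (Lpn (LP (LK LD1_c4 LD2_c18 LD3_c55))))))
theorem f192974 : Led Lsl_ct (LP (LK LD1_c2 LD2_c28 LD3_c21)) = (LP (LK LD1_c5 LD2_c1 LD3_c17)) :=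
  Lre_c IH (LK LD1_c2 LD2_c28 LD3_c21) (LK LD1_c5 LD2_c1 LD3_c17) Lrfl Lrfl
theorem f250060 : Led Lsl_bf (LP (LK LD1_c2 LD2_c28 LD3_c40)) = (LP (LK LD1_c5 LD2_c1 LD3_c16)) :=
  Lgr Lrot34 (Lpe (f165336 IH) (Lpe (f165628 IH) (Lpr_ct (K8.f3785 IH) (Lpe (f165639 IH) (Lpr_cf (f250049 IH) (Lpe (f212004 IH) (Lpe (f238300 IH) (Lpr_ct (K13.f183897 IH) (Lpe (f230702 IH) (Lpe (f230738 IH) (Lpn (LP (LK LD1_c5 LD2_c1 LD3_c16)))))))))))))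
theorem f251624 : Led Lsl_df (LP (LK LD1_c5 LD2_c1 LD3_c16)) = (LP (LK LD1_c4 LD2_c18 LD3_c55)) :=
  Lgr Lrot12 (Lpe (f250060 IH) (Lpr_dt (f251621 IH) (Lpr_bt (f230235 IH) (Lpn (LP (LK LD1_c4 LD2_c18 LD3_c55))))))
theorem f253945 : Led Lsl_ct (LP (LK LD1_c1 LD2_c18 LD3_c34)) = (LP (LK LD1_c2 LD2_c2 LD3_c23)) :=
  Lgr Lrot8 (Lpr_gt (f253942 IH) (Lpr_dt (K10.f41371 IH) (Lpr_gt (K10.f47954 IH) (Lpr_dt (K1.f46225 IH) (Lpr_cf (K10.f46223 IH) (Lpe (K1.f44049 IH) (Lpr_gf (K9.f182204 IH) (Lpe (K9.f178701 IH) (Lpe (f170843 IH) (Lpn (LP (LK LD1_c2 LD2_c2 LD3_c23))))))))))))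
theorem f242297 : Led Lsl_gt (LP (LK LD1_c2 LD2_c28 LD3_c44)) = (LP (LK LD1_c1 LD2_c57 LD3_c49)) :=
  Lgr Lrot49 (Lpr_df (K10.f177601 IH) (Lpr_gf (K13.f239522 IH) (Lpe (K13.f28547 IH) (Lpr_gt (K13.f242289 IH) (Lpr_dt (K13.f187900 IH) (Lpe (K10.f194129 IH) (Lpr_dt (K9.f47064 IH) (Lpr_cf (K10.f190756 IH) (Lpe (K13.f194131 IH) (Lpn (LP (LK LD1_c1 LD2_c57 LD3_c49))))))))))))
theorem f31637 : Led Lsl_gt (LP (LK LD1_c2 LD2_c29 LD3_c58)) = (LP (LK LD1_c1 LD2_c11 LD3_c61)) :=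
  Lre_g IH (LK LD1_c2 LD2_c29 LD3_c58) (LK LD1_c1 LD2_c11 LD3_c61) Lrfl Lrfl
theorem f242907 : Led Lsl_bf (LP (LK LD1_c2 LD2_c29 LD3_c58)) = (LP (LK LD1_c4 LD2_c1 LD3_c11)) :=
  Lgr Lrot156 (Lpr_gt (f31637 IH) (Lpe (f169832 IH) (Lpr_ct (K9.f166246 IH) (Lpe (K9.f177309 IH) (Lpe (K9.f165279 IH) (Lpr_bt (K10.f165306 IH) (Lpr_gt (f242297 IH) (Lpr_ct (K13.f165477 IH) (Lpr_gt (K13.f242835 IH) (Lpe (K13.f182005 IH) (Lpn (LP (LK LD1_c4 LD2_c1 LD3_c11)))))))))))))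
theorem f253972 : Led Lsl_dt (LP (LK LD1_c2 LD2_c29 LD3_c58)) = (LP (LK LD1_c2 LD2_c2 LD3_c23)) :=
  Lgr Lrot79 (Lpr_bf (f242907 IH) (Lpe (K13.f237003 IH) (Lpr_bf (f253967 IH) (Lpn (LP (LK LD1_c2 LD2_c2 LD3_c23))))))
theorem f242977 : Led Lsl_ct (LP (LK LD1_c5 LD2_c5 LD3_c20)) = (LP (LK LD1_c2 LD2_c29 LD3_c58)) :=
  Lre_c IH (LK LD1_c5 LD2_c5 LD3_c20) (LK LD1_c2 LD2_c29 LD3_c58) Lrfl Lrfl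
theorem f253979 : Led Lsl_gt (LP (LK LD1_c5 LD2_c1 LD3_c17)) = (LP (LK LD1_c5 LD2_c5 LD3_c20)) :=
  Lgr Lrot150 (Lpe (f192974 IH) (Lpe (f192484 IH) (Lpr_df (f251624 IH) (Lpr_gt (f253977 IH) (Lpr_ct (f253976 IH) (Lpr_gt (f178262 IH) (Lpr_ct (f253945 IH) (Lpe (f253972 IH) (Lpe (f242977 IH) (Lpn (LP (LK LD1_c5 LD2_c5 LD3_c20))))))))))))
theorem f253981 : Led Lsl_df (LP (LK LD1_c2 LD2_c29 LD3_c58)) = (LP (LK LD1_c2 LD2_c2 LD3_c23)) :=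
  Lgr Lrot162 (Lpe (f242977 IH) (Lpe (f253979 IH) (Lpe (f192974 IH) (Lpe (f192484 IH) (Lpr_dt (f251664 IH) (Lpr_gt (f253977 IH) (Lpr_ct (f253976 IH) (Lpr_gt (f178262 IH) (Lpr_ct (f253945 IH) (Lpn (LP (LK LD1_c2 LD2_c2 LD3_c23))))))))))))
theorem f199028 : Led Lsl_et (LP (LK LD1_c0 LD2_c56 LD3_c10)) = (LP (LK LD1_c1 LD2_c58 LD3_c39)) :=
  Lre_e IH (LK LD1_c0 LD2_c56 LD3_c10) (LK LD1_c1 LD2_c58 LD3_c39) Lrfl Lrfl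
theorem f246144 : Led Lsl_df (LP (LK LD1_c4 LD2_c3 LD3_c19)) = (LP (LK LD1_c4 LD2_c17 LD3_c16)) :=
  Lgr Lrot170 (Lpr_gt (K12.f199015 IH) (Lpe (K12.f199005 IH) (Lpr_et (f199028 IH) (Lpr_gt (f246127 IH) (Lpr_dt (K9.f183905 IH) (Lpe (f196047 IH) (Lpe (f46487 IH) (Lpr_et (f230788 IH) (Lpr_gt (f230786 IH) (Lpe (f231220 IH) (Lpn (LP (LK LD1_c4 LD2_c17 LD3_c16)))))))))))))
theorem f213899 : Led Lsl_ct (LP (LK LD1_c4 LD2_c54 LD3_c44)) = (LP (LK LD1_c2 LD2_c25 LD3_c15)) :=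
  Lre_c IH (LK LD1_c4 LD2_c54 LD3_c44) (LK LD1_c2 LD2_c25 LD3_c15) Lrfl Lrfl
theorem f41775 : Led Lsl_gt (LP (LK LD1_c1 LD2_c2 LD3_c30)) = (LP (LK LD1_c0 LD2_c28 LD3_c30)) :=
  Lre_g IH (LK LD1_c1 LD2_c2 LD3_c30) (LK LD1_c0 LD2_c28 LD3_c30) Lrfl Lrfl
theorem f174937 : Led Lsl_dt (LP (LK LD1_c1 LD2_c2 LD3_c30)) = (LP (LK LD1_c2 LD2_c10 LD3_c58)) :=
  Lre_d IH (LK LD1_c1 LD2_c2 LD3_c30) (LK LD1_c2 LD2_c10 LD3_c58) Lrfl Lrfl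
theorem f223292 : Led Lsl_gt (LP (LK LD1_c2 LD2_c10 LD3_c58)) = (LP (LK LD1_c4 LD2_c3 LD3_c19)) :=
  Lgr Lrot9 (Lpe (f174937 IH) (Lpr_gt (f41775 IH) (Lpr_ct (K1.f41890 IH) (Lpr_gt (K12.f212480 IH) (Lpr_ct (K12.f213906 IH) (Lpe (K13.f213908 IH) (Lpe (f213899 IH) (Lpr_gf (K12.f223288 IH) (Lpe (K12.f199126 IH) (Lpn (LP (LK LD1_c4 LD2_c3 LD3_c19))))))))))))
theorem f182262 : Led Lsl_et (LP (LK LD1_c1 LD2_c2 LD3_c30)) = (LP (LK LD1_c2 LD2_c10 LD3_c59)) :=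
  Lre_e IH (LK LD1_c1 LD2_c2 LD3_c30) (LK LD1_c2 LD2_c10 LD3_c59) Lrfl Lrfl
theorem f253988 : Led Lsl_gt (LP (LK LD1_c1 LD2_c9 LD3_c29)) = (LP (LK LD1_c2 LD2_c10 LD3_c59)) :=
  Lgr Lrot131 (Lpr_ef (K11.f165189 IH) (Lpr_dt (f165196 IH) (Lpe (f31637 IH) (Lpr_df (f253981 IH) (Lpe (f230787 IH) (Lpe (f231220 IH) (Lpe (f246144 IH) (Lpe (f223292 IH) (Lpe (f174937 IH) (Lpr_et (f182262 IH) (Lpn (LP (LK LD1_c2 LD2_c10 LD3_c59)))))))))))))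
theorem f192389 : Led Lsl_ct (LP (LK LD1_c5 LD2_c21 LD3_c11)) = (LP (LK LD1_c4 LD2_c50 LD3_c53)) :=
  Lgr Lrot59 (Lpr_cf (K13.f192370 IH) (Lpn (LP (LK LD1_c4 LD2_c50 LD3_c53))))
theorem f189241 : Led Lsl_df (LP (LK LD1_c5 LD2_c36 LD3_c9)) = (LP (LK LD1_c4 LD2_c50 LD3_c53)) :=
  Lgr Lrot12 (Lpr_bt (K13.f189239 IH) (Lpr_dt (K13.f189157 IH) (Lpr_bt (K13.f189240 IH) (Lpn (LP (LK LD1_c4 LD2_c50 LD3_c53))))))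
theorem f253583 : Led Lsl_at (LP (LK LD1_c4 LD2_c19 LD3_c26)) = (LP (LK LD1_c2 LD2_c7 LD3_c16)) :=
  Lre_a IH (LK LD1_c4 LD2_c19 LD3_c26) (LK LD1_c2 LD2_c7 LD3_c16) Lrfl Lrfl
theorem f253584 : Led Lsl_ft (LP (LK LD1_c2 LD2_c7 LD3_c8)) = (LP (LK LD1_c4 LD2_c19 LD3_c26)) :=
  Lre_f IH (LK LD1_c2 LD2_c7 LD3_c8) (LK LD1_c4 LD2_c19 LD3_c26) Lrfl Lrfl
theorem f253585 : Led Lsl_gf (LP (LK LD1_c4 LD2_c12 LD3_c34)) = (LP (LK LD1_c2 LD2_c7 LD3_c8)) :=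
  Lgr Lrot47 (Lpr_gt (f253581 IH) (Lpe (f253583 IH) (Lpe (f253584 IH) (Lpn (LP (LK LD1_c2 LD2_c7 LD3_c8))))))
theorem f253992 : Led Lsl_cf (LP (LK LD1_c2 LD2_c7 LD3_c8)) = (LP (LK LD1_c2 LD2_c10 LD3_c59)) :=
  Lgr Lrot169 (Lpe (f253585 IH) (Lpe (K13.f219197 IH) (Lpr_df (f189241 IH) (Lpe (f192389 IH) (Lpe (K13.f41989 IH) (Lpe (K9.f41928 IH) (Lpr_gf (K13.f192368 IH) (Lpr_df (K13.f167423 IH) (Lpr_gt (f253988 IH) (Lpn (LP (LK LD1_c2 LD2_c10 LD3_c59))))))))))))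
theorem f41800 : Led Lsl_et (LP (LK LD1_c2 LD2_c10 LD3_c59)) = (LP (LK LD1_c1 LD2_c2 LD3_c30)) :=
  Lre_e IH (LK LD1_c2 LD2_c10 LD3_c59) (LK LD1_c1 LD2_c2 LD3_c30) Lrfl Lrfl
theorem f178730 : Led Lsl_dt (LP (LK LD1_c0 LD2_c26 LD3_c22)) = (LP (LK LD1_c0 LD2_c58 LD3_c4)) :=
  Lre_d IH (LK LD1_c0 LD2_c26 LD3_c22) (LK LD1_c0 LD2_c58 LD3_c4) Lrfl Lrfl
theorem f170944 : Led Lsl_gt (LP (LK LD1_c0 LD2_c58 LD3_c4)) = (LP (LK LD1_c2 LD2_c2 LD3_c18)) :=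
  Lre_g IH (LK LD1_c0 LD2_c58 LD3_c4) (LK LD1_c2 LD2_c2 LD3_c18) Lrfl Lrfl
theorem f182202 : Led Lsl_dt (LP (LK LD1_c2 LD2_c10 LD3_c59)) = (LP (LK LD1_c2 LD2_c2 LD3_c18)) :=
  Lgr Lrot56 (Lpr_et (f41800 IH) (Lpr_gt (f41775 IH) (Lpe (K1.f41768 IH) (Lpr_dt (K1.f41747 IH) (Lpe (K1.f41797 IH) (Lpr_df (K1.f29061 IH) (Lpr_et (K9.f41799 IH) (Lpr_gt (K9.f182191 IH) (Lpr_dt (f178730 IH) (Lpr_gt (f170944 IH) (Lpn (LP (LK LD1_c2 LD2_c2 LD3_c18)))))))))))))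
theorem f182260 : Led Lsl_df (LP (LK LD1_c2 LD2_c10 LD3_c59)) = (LP (LK LD1_c2 LD2_c2 LD3_c18)) :=
  Lgr Lrot38 (Lpr_dt (f182202 IH) (Lpn (LP (LK LD1_c2 LD2_c2 LD3_c18))))
theorem f42730 : Led Lsl_dt (LP (LK LD1_c0 LD2_c54 LD3_c41)) = (LP (LK LD1_c1 LD2_c55 LD3_c56)) :=
  Lre_d IH (LK LD1_c0 LD2_c54 LD3_c41) (LK LD1_c1 LD2_c55 LD3_c56) Lrfl Lrfl
theorem f42731 : Led Lsl_gt (LP (LK LD1_c1 LD2_c55 LD3_c56)) = (LP (LK LD1_c3 LD2_c58 LD3_c16)) :=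
  Lre_g IH (LK LD1_c1 LD2_c55 LD3_c56) (LK LD1_c3 LD2_c58 LD3_c16) Lrfl Lrfl
theorem f254012 : Led Lsl_df (LP (LK LD1_c2 LD2_c7 LD3_c8)) = (LP (LK LD1_c3 LD2_c58 LD3_c16)) :=
  Lgr Lrot84 (Lpr_cf (f253992 IH) (Lpr_df (f182260 IH) (Lpe (f170944 IH) (Lpe (f178730 IH) (Lpe (K9.f182191 IH) (Lpr_cf (K9.f42718 IH) (Lpr_gt (K9.f42729 IH) (Lpr_dt (f42730 IH) (Lpr_gt (f42731 IH) (Lpn (LP (LK LD1_c3 LD2_c58 LD3_c16))))))))))))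
theorem f254007 : Led Lsl_et (LP (LK LD1_c2 LD2_c7 LD3_c8)) = (LP (LK LD1_c1 LD2_c0 LD3_c37)) :=
  Lre_e IH (LK LD1_c2 LD2_c7 LD3_c8) (LK LD1_c1 LD2_c0 LD3_c37) Lrfl Lrfl
theorem f254020 : Led Lsl_dt (LP (LK LD1_c1 LD2_c0 LD3_c37)) = (LP (LK LD1_c2 LD2_c7 LD3_c7)) :=
  Lre_d IH (LK LD1_c1 LD2_c0 LD3_c37) (LK LD1_c2 LD2_c7 LD3_c7) Lrfl Lrfl
theorem f254021 : Led Lsl_et (LP (LK LD1_c2 LD2_c7 LD3_c7)) = (LP (LK LD1_c4 LD2_c19 LD3_c25)) :=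
  Lre_e IH (LK LD1_c2 LD2_c7 LD3_c7) (LK LD1_c4 LD2_c19 LD3_c25) Lrfl Lrfl
theorem f221746 : Led Lsl_et (LP (LK LD1_c7 LD2_c57 LD3_c55)) = (LP (LK LD1_c3 LD2_c58 LD3_c16)) :=
  Lre_e IH (LK LD1_c7 LD2_c57 LD3_c55) (LK LD1_c3 LD2_c58 LD3_c16) Lrfl Lrfl
theorem f254022 : Led Lsl_dt (LP (LK LD1_c4 LD2_c19 LD3_c25)) = (LP (LK LD1_c7 LD2_c57 LD3_c55)) :=
  Lgr Lrot77 (Lpe (f254021 IH) (Lpe (f254020 IH) (Lpe (f254007 IH) (Lpr_df (f254012 IH) (Lpe (f221746 IH) (Lpn (LP (LK LD1_c7 LD2_c57 LD3_c55))))))))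
theorem f254046 : Led Lsl_df (LP (LK LD1_c4 LD2_c19 LD3_c25)) = (LP (LK LD1_c7 LD2_c57 LD3_c55)) :=
  Lgr Lrot38 (Lpr_dt (f254022 IH) (Lpn (LP (LK LD1_c7 LD2_c57 LD3_c55))))
theorem f254049 : Led Lsl_at (LP (LK LD1_c4 LD2_c19 LD3_c25)) = (LP (LK LD1_c2 LD2_c7 LD3_c12)) :=
  Lre_a IH (LK LD1_c4 LD2_c19 LD3_c25) (LK LD1_c2 LD2_c7 LD3_c12) Lrfl Lrfl
theorem f254050 : Led Lsl_dt (LP (LK LD1_c2 LD2_c7 LD3_c12)) = (LP (LK LD1_c4 LD2_c19 LD3_c39)) :=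
  Lre_d IH (LK LD1_c2 LD2_c7 LD3_c12) (LK LD1_c4 LD2_c19 LD3_c39) Lrfl Lrfl
theorem f254051 : Led Lsl_at (LP (LK LD1_c4 LD2_c19 LD3_c39)) = (LP (LK LD1_c7 LD2_c57 LD3_c55)) :=
  Lgr Lrot51 (Lpe (f254050 IH) (Lpe (f254049 IH) (Lpr_df (f254046 IH) (Lpn (LP (LK LD1_c7 LD2_c57 LD3_c55))))))
theorem f254068 : Led Lsl_ft (LP (LK LD1_c8 LD2_c37 LD3_c35)) = (LP (LK LD1_c4 LD2_c19 LD3_c39)) :=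
  Lre_f IH (LK LD1_c8 LD2_c37 LD3_c35) (LK LD1_c4 LD2_c19 LD3_c39) Lrfl Lrfl
theorem f221712 : Led Lsl_ft (LP (LK LD1_c7 LD2_c57 LD3_c55)) = (LP (LK LD1_c15 LD2_c1 LD3_c26)) :=
  Lre_f IH (LK LD1_c7 LD2_c57 LD3_c55) (LK LD1_c15 LD2_c1 LD3_c26) Lrfl Lrfl
theorem f254069 : Led Lsl_af (LP (LK LD1_c8 LD2_c37 LD3_c35)) = (LP (LK LD1_c15 LD2_c1 LD3_c26)) :=
  Lgr Lrot45 (Lpr_ft (f254068 IH) (Lpr_at (f254051 IH) (Lpr_ft (f221712 IH) (Lpn (LP (LK LD1_c15 LD2_c1 LD3_c26))))))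
theorem f254074 : Led Lsl_ct (LP (LK LD1_c8 LD2_c37 LD3_c35)) = (LP (LK LD1_c16 LD2_c9 LD3_c37)) :=
  Lre_c IH (LK LD1_c8 LD2_c37 LD3_c35) (LK LD1_c16 LD2_c9 LD3_c37) Lrfl Lrfl
theorem f221710 : Led Lsl_ct (LP (LK LD1_c24 LD2_c49 LD3_c22)) = (LP (LK LD1_c15 LD2_c1 LD3_c26)) :=
  Lre_c IH (LK LD1_c24 LD2_c49 LD3_c22) (LK LD1_c15 LD2_c1 LD3_c26) Lrfl Lrfl
theorem f254084 : Led Lsl_at (LP (LK LD1_c16 LD2_c9 LD3_c37)) = (LP (LK LD1_c24 LD2_c49 LD3_c22)) :=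
  Lgr Lrot107 (Lpe (f254074 IH) (Lpr_af (f254069 IH) (Lpe (f221710 IH) (Lpn (LP (LK LD1_c24 LD2_c49 LD3_c22))))))
theorem f226829 : Led Lsl_et (LP (LK LD1_c8 LD2_c37 LD3_c34)) = (LP (LK LD1_c4 LD2_c19 LD3_c44)) :=
  Lre_e IH (LK LD1_c8 LD2_c37 LD3_c34) (LK LD1_c4 LD2_c19 LD3_c44) Lrfl Lrfl
theorem f253892 : Led Lsl_ft (LP (LK LD1_c16 LD2_c9 LD3_c37)) = (LP (LK LD1_c8 LD2_c37 LD3_c34)) :=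
  Lre_f IH (LK LD1_c16 LD2_c9 LD3_c37) (LK LD1_c8 LD2_c37 LD3_c34) Lrfl Lrfl
theorem f253893 : Led Lsl_et (LP (LK LD1_c2 LD2_c44 LD3_c8)) = (LP (LK LD1_c5 LD2_c36 LD3_c33)) :=
  Lre_e IH (LK LD1_c2 LD2_c44 LD3_c8) (LK LD1_c5 LD2_c36 LD3_c33) Lrfl Lrfl
theorem f253894 : Led Lsl_ft (LP (LK LD1_c5 LD2_c36 LD3_c33)) = (LP (LK LD1_c11 LD2_c5 LD3_c16)) :=
  Lre_f IH (LK LD1_c5 LD2_c36 LD3_c33) (LK LD1_c11 LD2_c5 LD3_c16) Lrfl Lrfl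
theorem f253895 : Led Lsl_ef (LP (LK LD1_c16 LD2_c9 LD3_c37)) = (LP (LK LD1_c11 LD2_c5 LD3_c16)) :=
  Lgr Lrot21 (Lpr_ft (f253892 IH) (Lpr_et (f226829 IH) (Lpr_ft (f253823 IH) (Lpr_et (f253893 IH) (Lpr_ft (f253894 IH) (Lpn (LP (LK LD1_c11 LD2_c5 LD3_c16))))))))
theorem f253677 : Led Lsl_at (LP (LK LD1_c19 LD2_c57 LD3_c54)) = (LP (LK LD1_c11 LD2_c5 LD3_c16)) :=
  Lre_a IH (LK LD1_c19 LD2_c57 LD3_c54) (LK LD1_c11 LD2_c5 LD3_c16) Lrfl Lrfl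
theorem f254092 : Led Lsl_ef (LP (LK LD1_c19 LD2_c57 LD3_c54)) = (LP (LK LD1_c24 LD2_c49 LD3_c22)) :=
  Lgr Lrot20 (Lpr_at (f253677 IH) (Lpe (f253895 IH) (Lpr_at (f254084 IH) (Lpn (LP (LK LD1_c24 LD2_c49 LD3_c22))))))
theorem f253629 : Led Lsl_ft (LP (LK LD1_c19 LD2_c57 LD3_c54)) = (LP (LK LD1_c11 LD2_c5 LD3_c2)) :=
  Lre_f IH (LK LD1_c19 LD2_c57 LD3_c54) (LK LD1_c11 LD2_c5 LD3_c2) Lrfl Lrfl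
theorem f253911 : Led Lsl_et (LP (LK LD1_c11 LD2_c5 LD3_c2)) = (LP (LK LD1_c5 LD2_c36 LD3_c28)) :=
  Lre_e IH (LK LD1_c11 LD2_c5 LD3_c2) (LK LD1_c5 LD2_c36 LD3_c28) Lrfl Lrfl
theorem f254109 : Led Lsl_ft (LP (LK LD1_c15 LD2_c1 LD3_c23)) = (LP (LK LD1_c24 LD2_c49 LD3_c22)) :=
  Lre_f IH (LK LD1_c15 LD2_c1 LD3_c23) (LK LD1_c24 LD2_c49 LD3_c22) Lrfl Lrfl
theorem f254110 : Led Lsl_et (LP (LK LD1_c7 LD2_c57 LD3_c54)) = (LP (LK LD1_c15 LD2_c1 LD3_c23)) :=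
  Lre_e IH (LK LD1_c7 LD2_c57 LD3_c54) (LK LD1_c15 LD2_c1 LD3_c23) Lrfl Lrfl
theorem f254111 : Led Lsl_ft (LP (LK LD1_c5 LD2_c36 LD3_c28)) = (LP (LK LD1_c7 LD2_c57 LD3_c54)) :=
  Lgr Lrot86 (Lpe (f253911 IH) (Lpe (f253629 IH) (Lpr_ef (f254092 IH) (Lpe (f254109 IH) (Lpe (f254110 IH) (Lpn (LP (LK LD1_c7 LD2_c57 LD3_c54))))))))
theorem f254125 : Led Lsl_ff (LP (LK LD1_c5 LD2_c36 LD3_c28)) = (LP (LK LD1_c7 LD2_c57 LD3_c54)) :=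
  Lgr Lrot3 (Lpr_ft (f254111 IH) (Lpn (LP (LK LD1_c7 LD2_c57 LD3_c54))))
theorem f253903 : Led Lsl_ct (LP (LK LD1_c5 LD2_c36 LD3_c28)) = (LP (LK LD1_c2 LD2_c44 LD3_c7)) :=
  Lre_c IH (LK LD1_c5 LD2_c36 LD3_c28) (LK LD1_c2 LD2_c44 LD3_c7) Lrfl Lrfl
theorem f219131 : Led Lsl_ct (LP (LK LD1_c3 LD2_c58 LD3_c16)) = (LP (LK LD1_c7 LD2_c57 LD3_c54)) :=
  Lre_c IH (LK LD1_c3 LD2_c58 LD3_c16) (LK LD1_c7 LD2_c57 LD3_c54) Lrfl Lrfl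
theorem f254133 : Led Lsl_ft (LP (LK LD1_c2 LD2_c44 LD3_c7)) = (LP (LK LD1_c3 LD2_c58 LD3_c16)) :=
  Lgr Lrot4 (Lpe (f253903 IH) (Lpr_ff (f254125 IH) (Lpe (f219131 IH) (Lpn (LP (LK LD1_c3 LD2_c58 LD3_c16))))))
theorem f254065 : Led Lsl_et (LP (LK LD1_c2 LD2_c7 LD3_c15)) = (LP (LK LD1_c4 LD2_c19 LD3_c39)) :=
  Lre_e IH (LK LD1_c2 LD2_c7 LD3_c15) (LK LD1_c4 LD2_c19 LD3_c39) Lrfl Lrfl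
theorem f254066 : Led Lsl_af (LP (LK LD1_c2 LD2_c7 LD3_c15)) = (LP (LK LD1_c3 LD2_c58 LD3_c16)) :=
  Lgr Lrot50 (Lpr_et (f254065 IH) (Lpr_at (f254051 IH) (Lpr_et (f221746 IH) (Lpn (LP (LK LD1_c3 LD2_c58 LD3_c16))))))
theorem f254170 : Led Lsl_gt (LP (LK LD1_c2 LD2_c44 LD3_c7)) = (LP (LK LD1_c3 LD2_c58 LD3_c6)) :=
  Lgr Lrot5 (Lpr_ft (f254133 IH) (Lpe (f254066 IH) (Lpr_gf (K13.f226816 IH) (Lpn (LP (LK LD1_c3 LD2_c58 LD3_c6))))))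
theorem f254166 : Led Lsl_et (LP (LK LD1_c5 LD2_c36 LD3_c29)) = (LP (LK LD1_c2 LD2_c44 LD3_c7)) :=
  Lre_e IH (LK LD1_c5 LD2_c36 LD3_c29) (LK LD1_c2 LD2_c44 LD3_c7) Lrfl Lrfl
theorem f248712 : Led Lsl_at (LP (LK LD1_c5 LD2_c10 LD3_c29)) = (LP (LK LD1_c2 LD2_c32 LD3_c20)) :=
  Lre_a IH (LK LD1_c5 LD2_c10 LD3_c29) (LK LD1_c2 LD2_c32 LD3_c20) Lrfl Lrfl
theorem f253613 : Led Lsl_at (LP (LK LD1_c2 LD2_c44 LD3_c9)) = (LP (LK LD1_c5 LD2_c36 LD3_c29)) :=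
  Lre_a IH (LK LD1_c2 LD2_c44 LD3_c9) (LK LD1_c5 LD2_c36 LD3_c29) Lrfl Lrfl
theorem f253614 : Led Lsl_df (LP (LK LD1_c5 LD2_c10 LD3_c29)) = (LP (LK LD1_c5 LD2_c36 LD3_c29)) :=
  Lgr Lrot18 (Lpr_at (f248712 IH) (Lpr_dt (f253610 IH) (Lpr_at (f253613 IH) (Lpn (LP (LK LD1_c5 LD2_c36 LD3_c29))))))
theorem f250374 : Led Lsl_gt (LP (LK LD1_c10 LD2_c11 LD3_c36)) = (LP (LK LD1_c5 LD2_c10 LD3_c29)) :=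
  Lre_g IH (LK LD1_c10 LD2_c11 LD3_c36) (LK LD1_c5 LD2_c10 LD3_c29) Lrfl Lrfl
theorem f41339 : Led Lsl_dt (LP (LK LD1_c1 LD2_c56 LD3_c2)) = (LP (LK LD1_c0 LD2_c54 LD3_c44)) :=
  Lre_d IH (LK LD1_c1 LD2_c56 LD3_c2) (LK LD1_c0 LD2_c54 LD3_c44) Lrfl Lrfl
theorem f41337 : Led Lsl_et (LP (LK LD1_c1 LD2_c56 LD3_c2)) = (LP (LK LD1_c3 LD2_c58 LD3_c35)) :=
  Lre_e IH (LK LD1_c1 LD2_c56 LD3_c2) (LK LD1_c3 LD2_c58 LD3_c35) Lrfl Lrfl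
theorem f41344 : Led Lsl_gt (LP (LK LD1_c3 LD2_c58 LD3_c35)) = (LP (LK LD1_c7 LD2_c58 LD3_c42)) :=
  Lre_g IH (LK LD1_c3 LD2_c58 LD3_c35) (LK LD1_c7 LD2_c58 LD3_c42) Lrfl Lrfl
theorem f54990 : Led Lsl_et (LP (LK LD1_c15 LD2_c3 LD3_c12)) = (LP (LK LD1_c7 LD2_c58 LD3_c42)) :=
  Lre_e IH (LK LD1_c15 LD2_c3 LD3_c12) (LK LD1_c7 LD2_c58 LD3_c42) Lrfl Lrfl
theorem f254179 : Led Lsl_df (LP (LK LD1_c10 LD2_c11 LD3_c36)) = (LP (LK LD1_c15 LD2_c3 LD3_c12)) :=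
  Lgr Lrot170 (Lpr_gt (f250374 IH) (Lpr_df (f253614 IH) (Lpr_et (f254166 IH) (Lpr_gt (f254170 IH) (Lpr_dt (K13.f55005 IH) (Lpr_gt (K11.f173834 IH) (Lpe (f41339 IH) (Lpr_et (f41337 IH) (Lpr_gt (f41344 IH) (Lpe (f54990 IH) (Lpn (LP (LK LD1_c15 LD2_c3 LD3_c12)))))))))))))
theorem f253662 : Led Lsl_gt (LP (LK LD1_c5 LD2_c10 LD3_c36)) = (LP (LK LD1_c10 LD2_c11 LD3_c36)) :=
  Lre_g IH (LK LD1_c5 LD2_c10 LD3_c36) (LK LD1_c10 LD2_c11 LD3_c36) Lrfl Lrfl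
theorem f54543 : Led Lsl_ft (LP (LK LD1_c3 LD2_c58 LD3_c35)) = (LP (LK LD1_c4 LD2_c6 LD3_c43)) :=
  Lgr Lrot101 (Lpe (K1.f41105 IH) (Lpr_ff (K1.f54535 IH) (Lpe (K9.f47863 IH) (Lpn (LP (LK LD1_c4 LD2_c6 LD3_c43))))))
theorem f54985 : Led Lsl_gt (LP (LK LD1_c7 LD2_c58 LD3_c42)) = (LP (LK LD1_c8 LD2_c13 LD3_c9)) :=
  Lgr Lrot46 (Lpe (f41344 IH) (Lpr_ft (f54543 IH) (Lpr_at (K9.f47863 IH) (Lpn (LP (LK LD1_c8 LD2_c13 LD3_c9))))))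
theorem f47859 : Led Lsl_gt (LP (LK LD1_c2 LD2_c0 LD3_c28)) = (LP (LK LD1_c0 LD2_c57 LD3_c15)) :=
  Lre_g IH (LK LD1_c2 LD2_c0 LD3_c28) (LK LD1_c0 LD2_c57 LD3_c15) Lrfl Lrfl
theorem f54975 : Led Lsl_dt (LP (LK LD1_c2 LD2_c0 LD3_c35)) = (LP (LK LD1_c0 LD2_c57 LD3_c15)) :=
  Lre_d IH (LK LD1_c2 LD2_c0 LD3_c35) (LK LD1_c0 LD2_c57 LD3_c15) Lrfl Lrfl
theorem f54976 : Led Lsl_et (LP (LK LD1_c2 LD2_c0 LD3_c35)) = (LP (LK LD1_c4 LD2_c6 LD3_c31)) :=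
  Lre_e IH (LK LD1_c2 LD2_c0 LD3_c35) (LK LD1_c4 LD2_c6 LD3_c31) Lrfl Lrfl
theorem f254189 : Led Lsl_gf (LP (LK LD1_c5 LD2_c36 LD3_c36)) = (LP (LK LD1_c4 LD2_c6 LD3_c31)) :=
  Lgr Lrot138 (Lpe (f253625 IH) (Lpr_gt (f253662 IH) (Lpr_df (f254179 IH) (Lpr_et (f54990 IH) (Lpr_gt (f54985 IH) (Lpe (K1.f47852 IH) (Lpr_dt (K1.f47849 IH) (Lpr_gt (f47859 IH) (Lpe (f54975 IH) (Lpr_et (f54976 IH) (Lpn (LP (LK LD1_c4 LD2_c6 LD3_c31)))))))))))))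
theorem f253647 : Led Lsl_at (LP (LK LD1_c11 LD2_c5 LD3_c4)) = (LP (LK LD1_c5 LD2_c36 LD3_c36)) :=
  Lre_a IH (LK LD1_c11 LD2_c5 LD3_c4) (LK LD1_c5 LD2_c36 LD3_c36) Lrfl Lrfl
theorem f254191 : Led Lsl_ft (LP (LK LD1_c5 LD2_c36 LD3_c29)) = (LP (LK LD1_c11 LD2_c5 LD3_c4)) :=
  Lre_f IH (LK LD1_c5 LD2_c36 LD3_c29) (LK LD1_c11 LD2_c5 LD3_c4) Lrfl Lrfl
theorem f254192 : Led Lsl_gt (LP (LK LD1_c5 LD2_c36 LD3_c29)) = (LP (LK LD1_c4 LD2_c6 LD3_c31)) :=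
  Lgr Lrot5 (Lpr_ft (f254191 IH) (Lpr_at (f253647 IH) (Lpr_gf (f254189 IH) (Lpn (LP (LK LD1_c4 LD2_c6 LD3_c31))))))
theorem f43574 : Led Lsl_ft (LP (LK LD1_c9 LD2_c40 LD3_c33)) = (LP (LK LD1_c4 LD2_c54 LD3_c27)) :=
  Lre_f IH (LK LD1_c9 LD2_c40 LD3_c33) (LK LD1_c4 LD2_c54 LD3_c27) Lrfl Lrfl
theorem f43566 : Led Lsl_ft (LP (LK LD1_c4 LD2_c54 LD3_c12)) = (LP (LK LD1_c9 LD2_c39 LD3_c60)) :=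
  Lre_f IH (LK LD1_c4 LD2_c54 LD3_c12) (LK LD1_c9 LD2_c39 LD3_c60) Lrfl Lrfl
theorem f43575 : Led Lsl_at (LP (LK LD1_c4 LD2_c54 LD3_c27)) = (LP (LK LD1_c4 LD2_c54 LD3_c12)) :=
  Lgr Lrot66 (Lpe (f43574 IH) (Lpr_af (K13.f43562 IH) (Lpe (f43566 IH) (Lpn (LP (LK LD1_c4 LD2_c54 LD3_c12))))))
theorem f43598 : Led Lsl_gt (LP (LK LD1_c9 LD2_c39 LD3_c57)) = (LP (LK LD1_c4 LD2_c54 LD3_c12)) :=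
  Lre_g IH (LK LD1_c9 LD2_c39 LD3_c57) (LK LD1_c4 LD2_c54 LD3_c12) Lrfl Lrfl
theorem f43599 : Led Lsl_gt (LP (LK LD1_c9 LD2_c40 LD3_c33)) = (LP (LK LD1_c9 LD2_c39 LD3_c57)) :=
  Lgr Lrot5 (Lpr_ft (f43574 IH) (Lpr_at (f43575 IH) (Lpe (f43598 IH) (Lpn (LP (LK LD1_c9 LD2_c39 LD3_c57))))))
theorem f45898 : Led Lsl_dt (LP (LK LD1_c2 LD2_c36 LD3_c18)) = (LP (LK LD1_c1 LD2_c15 LD3_c9)) :=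
  Lre_d IH (LK LD1_c2 LD2_c36 LD3_c18) (LK LD1_c1 LD2_c15 LD3_c9) Lrfl Lrfl
theorem f46356 : Led Lsl_ct (LP (LK LD1_c5 LD2_c19 LD3_c1)) = (LP (LK LD1_c2 LD2_c36 LD3_c8)) :=
  Lre_c IH (LK LD1_c5 LD2_c19 LD3_c1) (LK LD1_c2 LD2_c36 LD3_c8) Lrfl Lrfl
theorem f247960 : Led Lsl_dt (LP (LK LD1_c9 LD2_c39 LD3_c57)) = (LP (LK LD1_c5 LD2_c19 LD3_c1)) :=
  Lgr Lrot105 (Lpe (f43599 IH) (Lpe (K9.f43497 IH) (Lpr_gf (f43781 IH) (Lpe (f229949 IH) (Lpr_gt (f247956 IH) (Lpr_dt (f45898 IH) (Lpe (K10.f46353 IH) (Lpr_dt (K11.f28308 IH) (Lpe (f46356 IH) (Lpn (LP (LK LD1_c5 LD2_c19 LD3_c1))))))))))))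
theorem f247968 : Led Lsl_df (LP (LK LD1_c9 LD2_c39 LD3_c57)) = (LP (LK LD1_c5 LD2_c19 LD3_c1)) :=
  Lgr Lrot38 (Lpr_dt (f247960 IH) (Lpn (LP (LK LD1_c5 LD2_c19 LD3_c1))))
theorem f189551 : Led Lsl_gt (LP (LK LD1_c2 LD2_c32 LD3_c7)) = (LP (LK LD1_c1 LD2_c13 LD3_c4)) :=
  Lre_g IH (LK LD1_c2 LD2_c32 LD3_c7) (LK LD1_c1 LD2_c13 LD3_c4) Lrfl Lrfl
theorem f189552 : Led Lsl_ct (LP (LK LD1_c2 LD2_c32 LD3_c7)) = (LP (LK LD1_c5 LD2_c10 LD3_c5)) :=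
  Lre_c IH (LK LD1_c2 LD2_c32 LD3_c7) (LK LD1_c5 LD2_c10 LD3_c5) Lrfl Lrfl
theorem f247976 : Led Lsl_gt (LP (LK LD1_c5 LD2_c10 LD3_c5)) = (LP (LK LD1_c5 LD2_c19 LD3_c1)) :=
  Lgr Lrot94 (Lpe (f189552 IH) (Lpr_gt (f189551 IH) (Lpr_dt (K10.f189542 IH) (Lpr_gt (K10.f189543 IH) (Lpr_dt (K9.f43345 IH) (Lpe (K9.f43466 IH) (Lpe (f43550 IH) (Lpe (f43598 IH) (Lpr_df (f247968 IH) (Lpn (LP (LK LD1_c5 LD2_c19 LD3_c1))))))))))))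
theorem f46355 : Led Lsl_ct (LP (LK LD1_c2 LD2_c36 LD3_c8)) = (LP (LK LD1_c5 LD2_c19 LD3_c1)) :=
  Lre_c IH (LK LD1_c2 LD2_c36 LD3_c8) (LK LD1_c5 LD2_c19 LD3_c1) Lrfl Lrfl
theorem f239957 : Led Lsl_ct (LP (LK LD1_c4 LD2_c1 LD3_c59)) = (LP (LK LD1_c5 LD2_c8 LD3_c36)) :=
  Lgr Lrot8 (Lpr_gt (K13.f193631 IH) (Lpr_dt (K12.f193630 IH) (Lpr_gt (K10.f193460 IH) (Lpr_dt (K1.f46030 IH) (Lpe (K1.f46947 IH) (Lpe (K1.f46935 IH) (Lpr_gf (K13.f239953 IH) (Lpe (K13.f190450 IH) (Lpe (K13.f196364 IH) (Lpn (LP (LK LD1_c5 LD2_c8 LD3_c36))))))))))))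
theorem f240087 : Led Lsl_gf (LP (LK LD1_c4 LD2_c1 LD3_c59)) = (LP (LK LD1_c1 LD2_c57 LD3_c61)) :=
  Lgr Lrot147 (Lpr_ct (f239957 IH) (Lpr_gt (K13.f196364 IH) (Lpr_ct (K13.f33190 IH) (Lpe (K13.f22109 IH) (Lpe (K12.f196359 IH) (Lpr_gf (K10.f190883 IH) (Lpr_cf (K1.f27832 IH) (Lpe (K12.f190876 IH) (Lpe (K11.f184653 IH) (Lpn (LP (LK LD1_c1 LD2_c57 LD3_c61))))))))))))
theorem f231818 : Led Lsl_bt (LP (LK LD1_c1 LD2_c12 LD3_c49)) = (LP (LK LD1_c2 LD2_c31 LD3_c27)) :=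
  Lre_b IH (LK LD1_c1 LD2_c12 LD3_c49) (LK LD1_c2 LD2_c31 LD3_c27) Lrfl Lrfl
theorem f33271 : Led Lsl_gt (LP (LK LD1_c2 LD2_c31 LD3_c27)) = (LP (LK LD1_c5 LD2_c8 LD3_c28)) :=
  Lre_g IH (LK LD1_c2 LD2_c31 LD3_c27) (LK LD1_c5 LD2_c8 LD3_c28) Lrfl Lrfl
theorem f247995 : Led Lsl_bt (LP (LK LD1_c2 LD2_c32 LD3_c7)) = (LP (LK LD1_c5 LD2_c8 LD3_c28)) :=
  Lgr Lrot92 (Lpr_ct (f189552 IH) (Lpr_gt (f247976 IH) (Lpe (f46355 IH) (Lpr_bt (K11.f184665 IH) (Lpe (f240087 IH) (Lpr_ct (f239957 IH) (Lpr_gt (K13.f196364 IH) (Lpe (K13.f33193 IH) (Lpr_bt (f231818 IH) (Lpr_gt (f33271 IH) (Lpn (LP (LK LD1_c5 LD2_c8 LD3_c28)))))))))))))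
theorem f189560 : Led Lsl_et (LP (LK LD1_c5 LD2_c10 LD3_c6)) = (LP (LK LD1_c2 LD2_c32 LD3_c7)) :=
  Lre_e IH (LK LD1_c5 LD2_c10 LD3_c6) (LK LD1_c2 LD2_c32 LD3_c7) Lrfl Lrfl
theorem f231805 : Led Lsl_et (LP (LK LD1_c5 LD2_c8 LD3_c28)) = (LP (LK LD1_c10 LD2_c7 LD3_c19)) :=
  Lre_e IH (LK LD1_c5 LD2_c8 LD3_c28) (LK LD1_c10 LD2_c7 LD3_c19) Lrfl Lrfl
theorem f248001 : Led Lsl_bf (LP (LK LD1_c5 LD2_c10 LD3_c6)) = (LP (LK LD1_c10 LD2_c7 LD3_c19)) :=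
  Lgr Lrot96 (Lpr_et (f189560 IH) (Lpr_bt (f247995 IH) (Lpr_et (f231805 IH) (Lpn (LP (LK LD1_c10 LD2_c7 LD3_c19))))))
theorem f193192 : Led Lsl_et (LP (LK LD1_c1 LD2_c1 LD3_c27)) = (LP (LK LD1_c2 LD2_c8 LD3_c38)) :=
  Lre_e IH (LK LD1_c1 LD2_c1 LD3_c27) (LK LD1_c2 LD2_c8 LD3_c38) Lrfl Lrfl
theorem f180788 : Led Lsl_et (LP (LK LD1_c4 LD2_c1 LD3_c51)) = (LP (LK LD1_c1 LD2_c57 LD3_c52)) :=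
  Lre_e IH (LK LD1_c4 LD2_c1 LD3_c51) (LK LD1_c1 LD2_c57 LD3_c52) Lrfl Lrfl
theorem f193193 : Led Lsl_dt (LP (LK LD1_c2 LD2_c8 LD3_c38)) = (LP (LK LD1_c4 LD2_c1 LD3_c51)) :=
  Lgr Lrot77 (Lpe (f193192 IH) (Lpe (K10.f193191 IH) (Lpe (K10.f193190 IH) (Lpr_df (K10.f192979 IH) (Lpe (f180788 IH) (Lpn (LP (LK LD1_c4 LD2_c1 LD3_c51))))))))
theorem f193205 : Led Lsl_ft (LP (LK LD1_c4 LD2_c22 LD3_c25)) = (LP (LK LD1_c2 LD2_c8 LD3_c38)) :=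
  Lre_f IH (LK LD1_c4 LD2_c22 LD3_c25) (LK LD1_c2 LD2_c8 LD3_c38) Lrfl Lrfl
theorem f193206 : Led Lsl_ft (LP (LK LD1_c4 LD2_c1 LD3_c51)) = (LP (LK LD1_c8 LD2_c4 LD3_c20)) :=
  Lre_f IH (LK LD1_c4 LD2_c1 LD3_c51) (LK LD1_c8 LD2_c4 LD3_c20) Lrfl Lrfl
theorem f193207 : Led Lsl_df (LP (LK LD1_c4 LD2_c22 LD3_c25)) = (LP (LK LD1_c8 LD2_c4 LD3_c20)) :=
  Lgr Lrot78 (Lpr_ft (f193205 IH) (Lpr_dt (f193193 IH) (Lpr_ft (f193206 IH) (Lpn (LP (LK LD1_c8 LD2_c4 LD3_c20))))))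
theorem f193217 : Led Lsl_dt (LP (LK LD1_c4 LD2_c22 LD3_c25)) = (LP (LK LD1_c8 LD2_c4 LD3_c20)) :=
  Lgr Lrot42 (Lpr_df (f193207 IH) (Lpn (LP (LK LD1_c8 LD2_c4 LD3_c20))))
theorem f193223 : Led Lsl_bt (LP (LK LD1_c8 LD2_c42 LD3_c38)) = (LP (LK LD1_c4 LD2_c22 LD3_c25)) :=
  Lre_b IH (LK LD1_c8 LD2_c42 LD3_c38) (LK LD1_c4 LD2_c22 LD3_c25) Lrfl Lrfl
theorem f180813 : Led Lsl_bt (LP (LK LD1_c8 LD2_c4 LD3_c20)) = (LP (LK LD1_c15 LD2_c11 LD3_c40)) :=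
  Lre_b IH (LK LD1_c8 LD2_c4 LD3_c20) (LK LD1_c15 LD2_c11 LD3_c40) Lrfl Lrfl
theorem f193224 : Led Lsl_df (LP (LK LD1_c8 LD2_c42 LD3_c38)) = (LP (LK LD1_c15 LD2_c11 LD3_c40)) :=
  Lgr Lrot12 (Lpr_bt (f193223 IH) (Lpr_dt (f193217 IH) (Lpr_bt (f180813 IH) (Lpn (LP (LK LD1_c15 LD2_c11 LD3_c40))))))
theorem f193226 : Led Lsl_ft (LP (LK LD1_c8 LD2_c42 LD3_c38)) = (LP (LK LD1_c4 LD2_c22 LD3_c19)) :=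
  Lre_f IH (LK LD1_c8 LD2_c42 LD3_c38) (LK LD1_c4 LD2_c22 LD3_c19) Lrfl Lrfl
theorem f180801 : Led Lsl_ft (LP (LK LD1_c8 LD2_c4 LD3_c15)) = (LP (LK LD1_c15 LD2_c11 LD3_c40)) :=
  Lre_f IH (LK LD1_c8 LD2_c4 LD3_c15) (LK LD1_c15 LD2_c11 LD3_c40) Lrfl Lrfl
theorem f193227 : Led Lsl_dt (LP (LK LD1_c4 LD2_c22 LD3_c19)) = (LP (LK LD1_c8 LD2_c4 LD3_c15)) :=
  Lgr Lrot60 (Lpe (f193226 IH) (Lpr_df (f193224 IH) (Lpe (f180801 IH) (Lpn (LP (LK LD1_c8 LD2_c4 LD3_c15))))))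
theorem f193233 : Led Lsl_et (LP (LK LD1_c2 LD2_c8 LD3_c35)) = (LP (LK LD1_c4 LD2_c22 LD3_c19)) :=
  Lre_e IH (LK LD1_c2 LD2_c8 LD3_c35) (LK LD1_c4 LD2_c22 LD3_c19) Lrfl Lrfl
theorem f173267 : Led Lsl_et (LP (LK LD1_c2 LD2_c8 LD3_c36)) = (LP (LK LD1_c1 LD2_c1 LD3_c26)) :=
  Lre_e IH (LK LD1_c2 LD2_c8 LD3_c36) (LK LD1_c1 LD2_c1 LD3_c26) Lrfl Lrfl
theorem f180776 : Led Lsl_et (LP (LK LD1_c8 LD2_c4 LD3_c15)) = (LP (LK LD1_c4 LD2_c1 LD3_c49)) :=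
  Lre_e IH (LK LD1_c8 LD2_c4 LD3_c15) (LK LD1_c4 LD2_c1 LD3_c49) Lrfl Lrfl
theorem f193234 : Led Lsl_df (LP (LK LD1_c2 LD2_c8 LD3_c36)) = (LP (LK LD1_c4 LD2_c1 LD3_c49)) :=
  Lgr Lrot70 (Lpr_et (f173267 IH) (Lpr_dt (f173259 IH) (Lpr_et (f193233 IH) (Lpr_dt (f193227 IH) (Lpr_et (f180776 IH) (Lpn (LP (LK LD1_c4 LD2_c1 LD3_c49))))))))
theorem f173203 : Led Lsl_bt (LP (LK LD1_c1 LD2_c2 LD3_c43)) = (LP (LK LD1_c0 LD2_c28 LD3_c37)) :=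
  Lre_b IH (LK LD1_c1 LD2_c2 LD3_c43) (LK LD1_c0 LD2_c28 LD3_c37) Lrfl Lrfl
theorem f183337 : Led Lsl_dt (LP (LK LD1_c1 LD2_c25 LD3_c20)) = (LP (LK LD1_c1 LD2_c2 LD3_c43)) :=
  Lgr Lrot79 (Lpe (K9.f183336 IH) (Lpr_df (K9.f183334 IH) (Lpe (f173203 IH) (Lpn (LP (LK LD1_c1 LD2_c2 LD3_c43))))))
theorem f231706 : Led Lsl_gt (LP (LK LD1_c0 LD2_c59 LD3_c28)) = (LP (LK LD1_c0 LD2_c59 LD3_c35)) :=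
  Lgr Lrot180 (Lpr_ct (K13.f231693 IH) (Lpr_gt (K13.f49544 IH) (Lpr_dt (K13.f49464 IH) (Lpe (K10.f183813 IH) (Lpe (f193234 IH) (Lpe (K12.f173246 IH) (Lpe (f183337 IH) (Lpr_gf (K9.f183493 IH) (Lpe (K10.f45222 IH) (Lpn (LP (LK LD1_c0 LD2_c59 LD3_c35))))))))))))
theorem f55032 : Led Lsl_ct (LP (LK LD1_c0 LD2_c57 LD3_c15)) = (LP (LK LD1_c2 LD2_c0 LD3_c34)) :=
  Lre_c IH (LK LD1_c0 LD2_c57 LD3_c15) (LK LD1_c2 LD2_c0 LD3_c34) Lrfl Lrfl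
theorem f187775 : Led Lsl_bt (LP (LK LD1_c0 LD2_c57 LD3_c15)) = (LP (LK LD1_c2 LD2_c0 LD3_c33)) :=
  Lre_b IH (LK LD1_c0 LD2_c57 LD3_c15) (LK LD1_c2 LD2_c0 LD3_c33) Lrfl Lrfl
theorem f231794 : Led Lsl_gt (LP (LK LD1_c2 LD2_c0 LD3_c33)) = (LP (LK LD1_c1 LD2_c14 LD3_c37)) :=
  Lgr Lrot82 (Lpe (f187775 IH) (Lpr_ct (f55032 IH) (Lpr_gf (K10.f187490 IH) (Lpr_cf (K9.f183619 IH) (Lpr_bt (K9.f45153 IH) (Lpe (f231706 IH) (Lpr_bf (f231710 IH) (Lpe (K10.f189520 IH) (Lpe (K9.f32916 IH) (Lpe (K9.f32421 IH) (Lpn (LP (LK LD1_c1 LD2_c14 LD3_c37)))))))))))))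
theorem f192523 : Led Lsl_et (LP (LK LD1_c4 LD2_c6 LD3_c27)) = (LP (LK LD1_c2 LD2_c0 LD3_c33)) :=
  Lre_e IH (LK LD1_c4 LD2_c6 LD3_c27) (LK LD1_c2 LD2_c0 LD3_c33) Lrfl Lrfl
theorem f231797 : Led Lsl_dt (LP (LK LD1_c4 LD2_c6 LD3_c27)) = (LP (LK LD1_c5 LD2_c8 LD3_c28)) :=
  Lgr Lrot56 (Lpr_et (f192523 IH) (Lpr_gt (f231794 IH) (Lpe (K9.f32922 IH) (Lpr_dt (K9.f45722 IH) (Lpe (K1.f47810 IH) (Lpr_df (K8.f49152 IH) (Lpr_et (K10.f49158 IH) (Lpe (K10.f190893 IH) (Lpr_dt (f33266 IH) (Lpr_gt (f33271 IH) (Lpn (LP (LK LD1_c5 LD2_c8 LD3_c28)))))))))))))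
theorem f231803 : Led Lsl_et (LP (LK LD1_c2 LD2_c0 LD3_c33)) = (LP (LK LD1_c4 LD2_c6 LD3_c27)) :=
  Lre_e IH (LK LD1_c2 LD2_c0 LD3_c33) (LK LD1_c4 LD2_c6 LD3_c27) Lrfl Lrfl
theorem f192519 : Led Lsl_dt (LP (LK LD1_c4 LD2_c6 LD3_c26)) = (LP (LK LD1_c2 LD2_c0 LD3_c33)) :=
  Lre_d IH (LK LD1_c4 LD2_c6 LD3_c26) (LK LD1_c2 LD2_c0 LD3_c33) Lrfl Lrfl
theorem f231804 : Led Lsl_et (LP (LK LD1_c8 LD2_c13 LD3_c30)) = (LP (LK LD1_c4 LD2_c6 LD3_c26)) :=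
  Lre_e IH (LK LD1_c8 LD2_c13 LD3_c30) (LK LD1_c4 LD2_c6 LD3_c26) Lrfl Lrfl
theorem f231806 : Led Lsl_df (LP (LK LD1_c8 LD2_c13 LD3_c30)) = (LP (LK LD1_c10 LD2_c7 LD3_c19)) :=
  Lgr Lrot70 (Lpr_et (f231804 IH) (Lpr_dt (f192519 IH) (Lpr_et (f231803 IH) (Lpr_dt (f231797 IH) (Lpr_et (f231805 IH) (Lpn (LP (LK LD1_c10 LD2_c7 LD3_c19))))))))
theorem f231809 : Led Lsl_dt (LP (LK LD1_c8 LD2_c13 LD3_c30)) = (LP (LK LD1_c10 LD2_c7 LD3_c19)) :=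
  Lgr Lrot42 (Lpr_df (f231806 IH) (Lpn (LP (LK LD1_c10 LD2_c7 LD3_c19))))
theorem f231814 : Led Lsl_bt (LP (LK LD1_c4 LD2_c6 LD3_c31)) = (LP (LK LD1_c8 LD2_c13 LD3_c30)) :=
  Lre_b IH (LK LD1_c4 LD2_c6 LD3_c31) (LK LD1_c8 LD2_c13 LD3_c30) Lrfl Lrfl
theorem f248006 : Led Lsl_dt (LP (LK LD1_c5 LD2_c10 LD3_c6)) = (LP (LK LD1_c4 LD2_c6 LD3_c31)) :=
  Lgr Lrot79 (Lpr_bf (f248001 IH) (Lpe (f231809 IH) (Lpe (f231814 IH) (Lpn (LP (LK LD1_c4 LD2_c6 LD3_c31))))))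
theorem f249076 : Led Lsl_et (LP (LK LD1_c5 LD2_c10 LD3_c29)) = (LP (LK LD1_c2 LD2_c32 LD3_c18)) :=
  Lre_e IH (LK LD1_c5 LD2_c10 LD3_c29) (LK LD1_c2 LD2_c32 LD3_c18) Lrfl Lrfl
theorem f254208 : Led Lsl_df (LP (LK LD1_c5 LD2_c36 LD3_c29)) = (LP (LK LD1_c5 LD2_c10 LD3_c29)) :=
  Lgr Lrot170 (Lpr_gt (f254192 IH) (Lpe (f248006 IH) (Lpr_et (f189560 IH) (Lpr_gt (f189551 IH) (Lpr_dt (K10.f189542 IH) (Lpr_gt (K10.f189543 IH) (Lpe (K1.f43549 IH) (Lpr_et (K1.f44333 IH) (Lpr_gt (f249063 IH) (Lpe (f249076 IH) (Lpn (LP (LK LD1_c5 LD2_c10 LD3_c29)))))))))))))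
theorem f248037 : Led Lsl_et (LP (LK LD1_c2 LD2_c32 LD3_c9)) = (LP (LK LD1_c1 LD2_c13 LD3_c4)) :=
  Lre_e IH (LK LD1_c2 LD2_c32 LD3_c9) (LK LD1_c1 LD2_c13 LD3_c4) Lrfl Lrfl
theorem f248038 : Led Lsl_dt (LP (LK LD1_c2 LD2_c32 LD3_c9)) = (LP (LK LD1_c5 LD2_c10 LD3_c13)) :=
  Lre_d IH (LK LD1_c2 LD2_c32 LD3_c9) (LK LD1_c5 LD2_c10 LD3_c13) Lrfl Lrfl
theorem f183114 : Led Lsl_gt (LP (LK LD1_c5 LD2_c10 LD3_c13)) = (LP (LK LD1_c10 LD2_c11 LD3_c10)) :=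
  Lre_g IH (LK LD1_c5 LD2_c10 LD3_c13) (LK LD1_c10 LD2_c11 LD3_c10) Lrfl Lrfl
theorem f248039 : Led Lsl_dt (LP (LK LD1_c18 LD2_c33 LD3_c27)) = (LP (LK LD1_c10 LD2_c11 LD3_c10)) :=
  Lre_d IH (LK LD1_c18 LD2_c33 LD3_c27) (LK LD1_c10 LD2_c11 LD3_c10) Lrfl Lrfl
theorem f254214 : Led Lsl_et (LP (LK LD1_c18 LD2_c33 LD3_c27)) = (LP (LK LD1_c10 LD2_c11 LD3_c36)) :=
  Lgr Lrot121 (Lpr_dt (f248039 IH) (Lpe (f183114 IH) (Lpe (f248038 IH) (Lpr_et (f248037 IH) (Lpe (f189551 IH) (Lpe (f189560 IH) (Lpr_dt (f248006 IH) (Lpe (f254192 IH) (Lpr_df (f254208 IH) (Lpe (f250374 IH) (Lpn (LP (LK LD1_c10 LD2_c11 LD3_c36)))))))))))))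
theorem f189492 : Led Lsl_gt (LP (LK LD1_c4 LD2_c12 LD3_c17)) = (LP (LK LD1_c2 LD2_c3 LD3_c28)) :=
  Lre_g IH (LK LD1_c4 LD2_c12 LD3_c17) (LK LD1_c2 LD2_c3 LD3_c28) Lrfl Lrfl
theorem f249070 : Led Lsl_df (LP (LK LD1_c4 LD2_c12 LD3_c17)) = (LP (LK LD1_c2 LD2_c32 LD3_c18)) :=
  Lgr Lrot155 (Lpr_gt (f189492 IH) (Lpe (K13.f219191 IH) (Lpr_gt (K13.f219187 IH) (Lpr_ct (K13.f46482 IH) (Lpr_dt (K10.f45743 IH) (Lpr_cf (f191781 IH) (Lpe (f215724 IH) (Lpe (f198888 IH) (Lpr_gf (f249061 IH) (Lpn (LP (LK LD1_c2 LD2_c32 LD3_c18))))))))))))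
theorem f246163 : Led Lsl_et (LP (LK LD1_c2 LD2_c31 LD3_c55)) = (LP (LK LD1_c5 LD2_c9 LD3_c37)) :=
  Lre_e IH (LK LD1_c2 LD2_c31 LD3_c55) (LK LD1_c5 LD2_c9 LD3_c37) Lrfl Lrfl
theorem f254218 : Led Lsl_gf (LP (LK LD1_c2 LD2_c32 LD3_c9)) = (LP (LK LD1_c5 LD2_c9 LD3_c37)) :=
  Lgr Lrot138 (Lpr_dt (f248038 IH) (Lpr_gt (f183114 IH) (Lpe (f248039 IH) (Lpr_et (f254214 IH) (Lpr_gt (f250374 IH) (Lpe (f249042 IH) (Lpe (f249070 IH) (Lpr_gt (f189492 IH) (Lpr_df (f246142 IH) (Lpr_et (f246163 IH) (Lpn (LP (LK LD1_c5 LD2_c9 LD3_c37)))))))))))))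
theorem f189576 : Led Lsl_dt (LP (LK LD1_c5 LD2_c10 LD3_c13)) = (LP (LK LD1_c2 LD2_c32 LD3_c9)) :=
  Lre_d IH (LK LD1_c5 LD2_c10 LD3_c13) (LK LD1_c2 LD2_c32 LD3_c9) Lrfl Lrfl
theorem f189575 : Led Lsl_et (LP (LK LD1_c5 LD2_c10 LD3_c13)) = (LP (LK LD1_c2 LD2_c32 LD3_c10)) :=
  Lre_e IH (LK LD1_c5 LD2_c10 LD3_c13) (LK LD1_c2 LD2_c32 LD3_c10) Lrfl Lrfl
theorem f54528 : Led Lsl_dt (LP (LK LD1_c4 LD2_c6 LD3_c13)) = (LP (LK LD1_c2 LD2_c0 LD3_c26)) :=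
  Lre_d IH (LK LD1_c4 LD2_c6 LD3_c13) (LK LD1_c2 LD2_c0 LD3_c26) Lrfl Lrfl
theorem f254228 : Led Lsl_gt (LP (LK LD1_c2 LD2_c32 LD3_c10)) = (LP (LK LD1_c4 LD2_c6 LD3_c13)) :=
  Lgr Lrot137 (Lpe (f189575 IH) (Lpr_dt (f189576 IH) (Lpr_gf (f254218 IH) (Lpe (f246161 IH) (Lpr_et (K13.f41352 IH) (Lpe (K13.f43239 IH) (Lpr_ef (K1.f47939 IH) (Lpr_dt (K10.f54526 IH) (Lpe (K10.f54527 IH) (Lpe (f54528 IH) (Lpn (LP (LK LD1_c4 LD2_c6 LD3_c13)))))))))))))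
theorem f182503 : Led Lsl_bt (LP (LK LD1_c1 LD2_c13 LD3_c8)) = (LP (LK LD1_c2 LD2_c32 LD3_c10)) :=
  Lre_b IH (LK LD1_c1 LD2_c13 LD3_c8) (LK LD1_c2 LD2_c32 LD3_c10) Lrfl Lrfl
theorem f101534 : Led Lsl_et (LP (LK LD1_c0 LD2_c40 LD3_c35)) = (LP (LK LD1_c1 LD2_c27 LD3_c45)) :=
  Lre_e IH (LK LD1_c0 LD2_c40 LD3_c35) (LK LD1_c1 LD2_c27 LD3_c45) Lrfl Lrfl
theorem f210475 : Led Lsl_gt (LP (LK LD1_c1 LD2_c27 LD3_c45)) = (LP (LK LD1_c0 LD2_c41 LD3_c3)) :=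
  Lgr Lrot137 (Lpe (f101534 IH) (Lpr_dt (K9.f101524 IH) (Lpe (K10.f179947 IH) (Lpe (K9.f59115 IH) (Lpr_et (K9.f59114 IH) (Lpr_gf (K11.f210471 IH) (Lpe (K11.f204400 IH) (Lpr_dt (K1.f25934 IH) (Lpe (K11.f210296 IH) (Lpe (K11.f59019 IH) (Lpn (LP (LK LD1_c0 LD2_c41 LD3_c3)))))))))))))
theorem f101516 : Led Lsl_et (LP (LK LD1_c1 LD2_c27 LD3_c45)) = (LP (LK LD1_c0 LD2_c40 LD3_c35)) :=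
  Lre_e IH (LK LD1_c1 LD2_c27 LD3_c45) (LK LD1_c0 LD2_c40 LD3_c35) Lrfl Lrfl
theorem f205152 : Led Lsl_df (LP (LK LD1_c1 LD2_c31 LD3_c26)) = (LP (LK LD1_c1 LD2_c27 LD3_c45)) :=
  Lgr Lrot168 (Lpe (K13.f169783 IH) (Lpe (K11.f25943 IH) (Lpr_et (K11.f205143 IH) (Lpr_gf (K9.f101517 IH) (Lpe (K9.f59131 IH) (Lpr_dt (K9.f59128 IH) (Lpe (K9.f58971 IH) (Lpe (K9.f100645 IH) (Lpe (K9.f101509 IH) (Lpe (f101516 IH) (Lpn (LP (LK LD1_c1 LD2_c27 LD3_c45)))))))))))))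
theorem f205176 : Led Lsl_dt (LP (LK LD1_c1 LD2_c31 LD3_c26)) = (LP (LK LD1_c1 LD2_c27 LD3_c45)) :=
  Lgr Lrot42 (Lpr_df (f205152 IH) (Lpn (LP (LK LD1_c1 LD2_c27 LD3_c45))))
theorem f204852 : Led Lsl_ef (LP (LK LD1_c0 LD2_c42 LD3_c13)) = (LP (LK LD1_c0 LD2_c56 LD3_c58)) :=
  Lgr Lrot88 (Lpr_et (K11.f204849 IH) (Lpn (LP (LK LD1_c0 LD2_c56 LD3_c58))))
theorem f210481 : Led Lsl_gf (LP (LK LD1_c0 LD2_c32 LD3_c6)) = (LP (LK LD1_c0 LD2_c24 LD3_c47)) :=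
  Lgr Lrot145 (Lpr_df (K11.f204868 IH) (Lpe (f204852 IH) (Lpr_gt (K13.f169783 IH) (Lpr_dt (f205176 IH) (Lpr_gt (f210475 IH) (Lpe (K10.f59001 IH) (Lpr_et (K10.f186466 IH) (Lpe (K10.f186489 IH) (Lpe (K11.f53173 IH) (Lpr_dt (K11.f53172 IH) (Lpn (LP (LK LD1_c0 LD2_c24 LD3_c47)))))))))))))
theorem f169072 : Led Lsl_ct (LP (LK LD1_c2 LD2_c32 LD3_c17)) = (LP (LK LD1_c1 LD2_c13 LD3_c8)) :=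
  Lre_c IH (LK LD1_c2 LD2_c32 LD3_c17) (LK LD1_c1 LD2_c13 LD3_c8) Lrfl Lrfl
theorem f173189 : Led Lsl_cf (LP (LK LD1_c0 LD2_c24 LD3_c47)) = (LP (LK LD1_c0 LD2_c28 LD3_c37)) :=
  Lgr Lrot11 (Lpr_ct (K11.f173182 IH) (Lpn (LP (LK LD1_c0 LD2_c28 LD3_c37))))
theorem f195700 : Led Lsl_dt (LP (LK LD1_c1 LD2_c16 LD3_c28)) = (LP (LK LD1_c1 LD2_c2 LD3_c47)) :=
  Lgr Lrot105 (Lpr_gf (K12.f195601 IH) (Lpe (K9.f8474 IH) (Lpr_gf (K9.f182515 IH) (Lpe (K9.f8509 IH) (Lpr_gt (K9.f9512 IH) (Lpr_dt (K9.f9514 IH) (Lpe (K10.f178989 IH) (Lpe (K10.f20702 IH) (Lpr_cf (K13.f183330 IH) (Lpn (LP (LK LD1_c1 LD2_c2 LD3_c47))))))))))))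
theorem f210485 : Led Lsl_gf (LP (LK LD1_c2 LD2_c32 LD3_c17)) = (LP (LK LD1_c1 LD2_c16 LD3_c29)) :=
  Lgr Lrot104 (Lpr_ct (f169072 IH) (Lpe (K11.f22015 IH) (Lpe (K11.f204874 IH) (Lpr_gf (f210481 IH) (Lpr_cf (f173189 IH) (Lpe (K9.f173196 IH) (Lpe (f195700 IH) (Lpr_gt (K12.f166122 IH) (Lpr_ct (K9.f166123 IH) (Lpn (LP (LK LD1_c1 LD2_c16 LD3_c29))))))))))))
theorem f45405 : Led Lsl_ct (LP (LK LD1_c5 LD2_c15 LD3_c52)) = (LP (LK LD1_c2 LD2_c34 LD3_c46)) :=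
  Lre_c IH (LK LD1_c5 LD2_c15 LD3_c52) (LK LD1_c2 LD2_c34 LD3_c46) Lrfl Lrfl
theorem f45809 : Led Lsl_ct (LP (LK LD1_c2 LD2_c37 LD3_c14)) = (LP (LK LD1_c5 LD2_c21 LD3_c19)) :=
  Lre_c IH (LK LD1_c2 LD2_c37 LD3_c14) (LK LD1_c5 LD2_c21 LD3_c19) Lrfl Lrfl
theorem f190370 : Led Lsl_dt (LP (LK LD1_c10 LD2_c32 LD3_c57)) = (LP (LK LD1_c5 LD2_c21 LD3_c19)) :=
  Lre_d IH (LK LD1_c10 LD2_c32 LD3_c57) (LK LD1_c5 LD2_c21 LD3_c19) Lrfl Lrfl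
theorem f215025 : Led Lsl_gf (LP (LK LD1_c10 LD2_c32 LD3_c57)) = (LP (LK LD1_c7 LD2_c57 LD3_c36)) :=
  Lgr Lrot143 (Lpr_dt (f190370 IH) (Lpe (f45809 IH) (Lpe (f43929 IH) (Lpe (K10.f43928 IH) (Lpe (K1.f43922 IH) (Lpr_gf (K12.f212468 IH) (Lpe (f45405 IH) (Lpr_gt (f215023 IH) (Lpr_dt (K12.f43857 IH) (Lpn (LP (LK LD1_c7 LD2_c57 LD3_c36))))))))))))
theorem f190740 : Led Lsl_gf (LP (LK LD1_c4 LD2_c27 LD3_c11)) = (LP (LK LD1_c2 LD2_c37 LD3_c16)) :=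
  Lgr Lrot181 (Lpr_ct (K10.f190646 IH) (Lpr_gt (K10.f166892 IH) (Lpe (K10.f165592 IH) (Lpr_bt (K10.f3135 IH) (Lpr_gt (K8.f3102 IH) (Lpe (f21845 IH) (Lpr_ct (K0.f3574 IH) (Lpr_gt (f21840 IH) (Lpr_cf (K10.f184757 IH) (Lpe (K10.f190448 IH) (Lpn (LP (LK LD1_c2 LD2_c37 LD3_c16)))))))))))))
theorem f46472 : Led Lsl_ct (LP (LK LD1_c2 LD2_c37 LD3_c35)) = (LP (LK LD1_c5 LD2_c22 LD3_c11)) :=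
  Lre_c IH (LK LD1_c2 LD2_c37 LD3_c35) (LK LD1_c5 LD2_c22 LD3_c11) Lrfl Lrfl
theorem f215254 : Led Lsl_ct (LP (LK LD1_c10 LD2_c32 LD3_c57)) = (LP (LK LD1_c5 LD2_c22 LD3_c10)) :=
  Lgr Lrot152 (Lpr_gf (f215025 IH) (Lpe (K12.f43857 IH) (Lpe (f214342 IH) (Lpr_ct (K10.f190482 IH) (Lpe (f190740 IH) (Lpr_ct (K10.f190646 IH) (Lpe (f190648 IH) (Lpe (f46472 IH) (Lpe (f190662 IH) (Lpn (LP (LK LD1_c5 LD2_c22 LD3_c10))))))))))))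
theorem f190437 : Led Lsl_dt (LP (LK LD1_c5 LD2_c21 LD3_c19)) = (LP (LK LD1_c10 LD2_c32 LD3_c57)) :=
  Lre_d IH (LK LD1_c5 LD2_c21 LD3_c19) (LK LD1_c10 LD2_c32 LD3_c57) Lrfl Lrfl
theorem f27711 : Led Lsl_dt (LP (LK LD1_c4 LD2_c50 LD3_c31)) = (LP (LK LD1_c2 LD2_c23 LD3_c2)) :=
  Lre_d IH (LK LD1_c4 LD2_c50 LD3_c31) (LK LD1_c2 LD2_c23 LD3_c2) Lrfl Lrfl
theorem f187870 : Led Lsl_ct (LP (LK LD1_c9 LD2_c33 LD3_c14)) = (LP (LK LD1_c4 LD2_c50 LD3_c31)) :=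
  Lre_c IH (LK LD1_c9 LD2_c33 LD3_c14) (LK LD1_c4 LD2_c50 LD3_c31) Lrfl Lrfl
theorem f46471 : Led Lsl_dt (LP (LK LD1_c1 LD2_c15 LD3_c48)) = (LP (LK LD1_c2 LD2_c37 LD3_c35)) :=
  Lre_d IH (LK LD1_c1 LD2_c15 LD3_c48) (LK LD1_c2 LD2_c37 LD3_c35) Lrfl Lrfl
theorem f194900 : Led Lsl_gt (LP (LK LD1_c2 LD2_c37 LD3_c35)) = (LP (LK LD1_c5 LD2_c22 LD3_c9)) :=
  Lre_g IH (LK LD1_c2 LD2_c37 LD3_c35) (LK LD1_c5 LD2_c22 LD3_c9) Lrfl Lrfl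
theorem f27739 : Led Lsl_dt (LP (LK LD1_c2 LD2_c23 LD3_c2)) = (LP (LK LD1_c4 LD2_c50 LD3_c31)) :=
  Lre_d IH (LK LD1_c2 LD2_c23 LD3_c2) (LK LD1_c4 LD2_c50 LD3_c31) Lrfl Lrfl
theorem f214092 : Led Lsl_dt (LP (LK LD1_c5 LD2_c22 LD3_c9)) = (LP (LK LD1_c9 LD2_c33 LD3_c14)) :=
  Lgr Lrot105 (Lpe (f194900 IH) (Lpe (f46471 IH) (Lpe (K12.f183071 IH) (Lpr_cf (K12.f214081 IH) (Lpr_gt (K12.f27731 IH) (Lpr_dt (K0.f27709 IH) (Lpr_gt (K10.f27710 IH) (Lpr_dt (f27739 IH) (Lpe (f187870 IH) (Lpn (LP (LK LD1_c9 LD2_c33 LD3_c14))))))))))))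
theorem f27715 : Led Lsl_dt (LP (LK LD1_c4 LD2_c50 LD3_c33)) = (LP (LK LD1_c2 LD2_c23 LD3_c3)) :=
  Lre_d IH (LK LD1_c4 LD2_c50 LD3_c33) (LK LD1_c2 LD2_c23 LD3_c3) Lrfl Lrfl
theorem f190928 : Led Lsl_dt (LP (LK LD1_c1 LD2_c14 LD3_c19)) = (LP (LK LD1_c2 LD2_c34 LD3_c35)) :=
  Lre_d IH (LK LD1_c1 LD2_c14 LD3_c19) (LK LD1_c2 LD2_c34 LD3_c35) Lrfl Lrfl
theorem f195843 : Led Lsl_ct (LP (LK LD1_c2 LD2_c34 LD3_c35)) = (LP (LK LD1_c5 LD2_c15 LD3_c31)) :=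
  Lre_c IH (LK LD1_c2 LD2_c34 LD3_c35) (LK LD1_c5 LD2_c15 LD3_c31) Lrfl Lrfl
theorem f195844 : Led Lsl_dt (LP (LK LD1_c5 LD2_c15 LD3_c31)) = (LP (LK LD1_c10 LD2_c20 LD3_c19)) :=
  Lre_d IH (LK LD1_c5 LD2_c15 LD3_c31) (LK LD1_c10 LD2_c20 LD3_c19) Lrfl Lrfl
theorem f215262 : Led Lsl_cf (LP (LK LD1_c5 LD2_c22 LD3_c9)) = (LP (LK LD1_c10 LD2_c20 LD3_c19)) :=
  Lgr Lrot55 (Lpr_dt (f214092 IH) (Lpr_ct (f187870 IH) (Lpr_dt (f27711 IH) (Lpe (K10.f190430 IH) (Lpr_dt (f43929 IH) (Lpr_ct (f45809 IH) (Lpr_dt (f190437 IH) (Lpr_ct (f215254 IH) (Lpe (f195837 IH) (Lpr_ct (f191021 IH) (Lpr_dt (f27715 IH) (Lpr_ct (K10.f191024 IH) (Lpr_dt (f190928 IH) (Lpr_ct (f195843 IH) (Lpr_dt (f195844 IH) (Lpn (LP (LK LD1_c10 LD2_c20 LD3_c19))))))))))))))))))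
theorem f215336 : Led Lsl_ct (LP (LK LD1_c5 LD2_c22 LD3_c9)) = (LP (LK LD1_c10 LD2_c20 LD3_c19)) :=
  Lgr Lrot59 (Lpr_cf (f215262 IH) (Lpn (LP (LK LD1_c10 LD2_c20 LD3_c19))))
theorem f191032 : Led Lsl_dt (LP (LK LD1_c10 LD2_c20 LD3_c19)) = (LP (LK LD1_c5 LD2_c15 LD3_c31)) :=
  Lre_d IH (LK LD1_c10 LD2_c20 LD3_c19) (LK LD1_c5 LD2_c15 LD3_c31) Lrfl Lrfl
theorem f191031 : Led Lsl_ct (LP (LK LD1_c5 LD2_c15 LD3_c31)) = (LP (LK LD1_c2 LD2_c34 LD3_c35)) :=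
  Lre_c IH (LK LD1_c5 LD2_c15 LD3_c31) (LK LD1_c2 LD2_c34 LD3_c35) Lrfl Lrfl
theorem f190926 : Led Lsl_dt (LP (LK LD1_c2 LD2_c34 LD3_c35)) = (LP (LK LD1_c1 LD2_c14 LD3_c19)) :=
  Lre_d IH (LK LD1_c2 LD2_c34 LD3_c35) (LK LD1_c1 LD2_c14 LD3_c19) Lrfl Lrfl
theorem f215260 : Led Lsl_cf (LP (LK LD1_c10 LD2_c32 LD3_c57)) = (LP (LK LD1_c5 LD2_c22 LD3_c10)) :=
  Lgr Lrot11 (Lpr_ct (f215254 IH) (Lpn (LP (LK LD1_c5 LD2_c22 LD3_c10))))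
theorem f190363 : Led Lsl_ct (LP (LK LD1_c5 LD2_c21 LD3_c19)) = (LP (LK LD1_c2 LD2_c37 LD3_c14)) :=
  Lre_c IH (LK LD1_c5 LD2_c21 LD3_c19) (LK LD1_c2 LD2_c37 LD3_c14) Lrfl Lrfl
theorem f187873 : Led Lsl_ct (LP (LK LD1_c4 LD2_c50 LD3_c31)) = (LP (LK LD1_c9 LD2_c33 LD3_c14)) :=
  Lre_c IH (LK LD1_c4 LD2_c50 LD3_c31) (LK LD1_c9 LD2_c33 LD3_c14) Lrfl Lrfl
theorem f215426 : Led Lsl_df (LP (LK LD1_c5 LD2_c22 LD3_c9)) = (LP (LK LD1_c9 LD2_c33 LD3_c14)) :=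
  Lgr Lrot43 (Lpr_ct (f215336 IH) (Lpr_dt (f191032 IH) (Lpr_ct (f191031 IH) (Lpr_dt (f190926 IH) (Lpe (K10.f191026 IH) (Lpr_dt (f43902 IH) (Lpr_ct (f191020 IH) (Lpr_dt (f195845 IH) (Lpe (f215260 IH) (Lpr_dt (f190370 IH) (Lpr_ct (f190363 IH) (Lpr_dt (f43962 IH) (Lpr_ct (K10.f190352 IH) (Lpr_dt (f27739 IH) (Lpr_ct (f187873 IH) (Lpn (LP (LK LD1_c9 LD2_c33 LD3_c14))))))))))))))))))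
theorem f194949 : Led Lsl_gt (LP (LK LD1_c5 LD2_c22 LD3_c9)) = (LP (LK LD1_c10 LD2_c30 LD3_c51)) :=
  Lre_g IH (LK LD1_c5 LD2_c22 LD3_c9) (LK LD1_c10 LD2_c30 LD3_c51) Lrfl Lrfl
theorem f46456 : Led Lsl_dt (LP (LK LD1_c10 LD2_c30 LD3_c51)) = (LP (LK LD1_c5 LD2_c20 LD3_c23)) :=
  Lre_d IH (LK LD1_c10 LD2_c30 LD3_c51) (LK LD1_c5 LD2_c20 LD3_c23) Lrfl Lrfl
theorem f44732 : Led Lsl_gt (LP (LK LD1_c2 LD2_c37 LD3_c22)) = (LP (LK LD1_c1 LD2_c15 LD3_c42)) :=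
  Lre_g IH (LK LD1_c2 LD2_c37 LD3_c22) (LK LD1_c1 LD2_c15 LD3_c42) Lrfl Lrfl
theorem f215431 : Led Lsl_ct (LP (LK LD1_c2 LD2_c37 LD3_c22)) = (LP (LK LD1_c5 LD2_c21 LD3_c30)) :=
  Lre_c IH (LK LD1_c2 LD2_c37 LD3_c22) (LK LD1_c5 LD2_c21 LD3_c30) Lrfl Lrfl
theorem f215432 : Led Lsl_gt (LP (LK LD1_c5 LD2_c21 LD3_c30)) = (LP (LK LD1_c9 LD2_c33 LD3_c14)) :=
  Lgr Lrot94 (Lpe (f215431 IH) (Lpr_gt (f44732 IH) (Lpr_dt (f44641 IH) (Lpr_gt (K11.f41528 IH) (Lpr_dt (K1.f41485 IH) (Lpe (K10.f46455 IH) (Lpe (f46456 IH) (Lpe (f194949 IH) (Lpr_df (f215426 IH) (Lpn (LP (LK LD1_c9 LD2_c33 LD3_c14))))))))))))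
theorem f187865 : Led Lsl_bf (LP (LK LD1_c5 LD2_c0 LD3_c57)) = (LP (LK LD1_c4 LD2_c50 LD3_c31)) :=
  Lgr Lrot93 (Lpr_dt (K12.f165866 IH) (Lpr_bt (K10.f187858 IH) (Lpr_dt (f27739 IH) (Lpn (LP (LK LD1_c4 LD2_c50 LD3_c31))))))
theorem f215449 : Led Lsl_bt (LP (LK LD1_c2 LD2_c37 LD3_c22)) = (LP (LK LD1_c1 LD2_c16 LD3_c28)) :=
  Lgr Lrot92 (Lpr_ct (f215431 IH) (Lpr_gt (f215432 IH) (Lpe (f187873 IH) (Lpe (f187865 IH) (Lpe (K9.f183697 IH) (Lpe (K12.f192580 IH) (Lpr_gt (K12.f192579 IH) (Lpe (K12.f191147 IH) (Lpr_bt (K12.f195604 IH) (Lpe (K12.f195601 IH) (Lpn (LP (LK LD1_c1 LD2_c16 LD3_c28)))))))))))))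
theorem f198880 : Led Lsl_dt (LP (LK LD1_c2 LD2_c37 LD3_c23)) = (LP (LK LD1_c5 LD2_c21 LD3_c34)) :=
  Lre_d IH (LK LD1_c2 LD2_c37 LD3_c23) (LK LD1_c5 LD2_c21 LD3_c34) Lrfl Lrfl
theorem f215435 : Led Lsl_ct (LP (LK LD1_c5 LD2_c21 LD3_c30)) = (LP (LK LD1_c2 LD2_c37 LD3_c22)) :=
  Lre_c IH (LK LD1_c5 LD2_c21 LD3_c30) (LK LD1_c2 LD2_c37 LD3_c22) Lrfl Lrfl
theorem f249549 : Led Lsl_gt (LP (LK LD1_c9 LD2_c33 LD3_c16)) = (LP (LK LD1_c5 LD2_c21 LD3_c30)) :=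
  Lgr Lrot9 (Lpr_df (f195837 IH) (Lpr_gt (f190662 IH) (Lpr_ct (f46472 IH) (Lpr_gt (f249092 IH) (Lpe (f249547 IH) (Lpe (f198880 IH) (Lpe (K12.f8399 IH) (Lpe (f44732 IH) (Lpe (f215435 IH) (Lpn (LP (LK LD1_c5 LD2_c21 LD3_c30))))))))))))
theorem f254232 : Led Lsl_bt (LP (LK LD1_c4 LD2_c50 LD3_c33)) = (LP (LK LD1_c4 LD2_c6 LD3_c13)) :=
  Lgr Lrot92 (Lpr_ct (f191020 IH) (Lpr_gt (f249549 IH) (Lpe (f215431 IH) (Lpr_bt (f215449 IH) (Lpr_gt (K12.f166122 IH) (Lpr_ct (K9.f166123 IH) (Lpe (f210485 IH) (Lpe (K11.f169066 IH) (Lpr_bt (f182503 IH) (Lpr_gt (f254228 IH) (Lpn (LP (LK LD1_c4 LD2_c6 LD3_c13)))))))))))))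
theorem f254240 : Led Lsl_et (LP (LK LD1_c9 LD2_c33 LD3_c17)) = (LP (LK LD1_c4 LD2_c50 LD3_c33)) :=
  Lre_e IH (LK LD1_c9 LD2_c33 LD3_c17) (LK LD1_c4 LD2_c50 LD3_c33) Lrfl Lrfl
theorem f253589 : Led Lsl_et (LP (LK LD1_c4 LD2_c6 LD3_c13)) = (LP (LK LD1_c5 LD2_c36 LD3_c34)) :=
  Lgr Lrot122 (Lpr_dt (f54528 IH) (Lpr_gt (K10.f54527 IH) (Lpe (K10.f54526 IH) (Lpe (K1.f47939 IH) (Lpr_gt (K13.f43239 IH) (Lpe (f189486 IH) (Lpr_gt (f253581 IH) (Lpe (f253532 IH) (Lpr_et (f253587 IH) (Lpr_gt (f253588 IH) (Lpn (LP (LK LD1_c5 LD2_c36 LD3_c34)))))))))))))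
theorem f254241 : Led Lsl_bf (LP (LK LD1_c9 LD2_c33 LD3_c17)) = (LP (LK LD1_c5 LD2_c36 LD3_c34)) :=
  Lgr Lrot96 (Lpr_et (f254240 IH) (Lpr_bt (f254232 IH) (Lpr_et (f253589 IH) (Lpn (LP (LK LD1_c5 LD2_c36 LD3_c34))))))
theorem f230749 : Led Lsl_et (LP (LK LD1_c5 LD2_c1 LD3_c16)) = (LP (LK LD1_c9 LD2_c52 LD3_c58)) :=
  Lre_e IH (LK LD1_c5 LD2_c1 LD3_c16) (LK LD1_c9 LD2_c52 LD3_c58) Lrfl Lrfl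
theorem f250115 : Led Lsl_bt (LP (LK LD1_c9 LD2_c52 LD3_c58)) = (LP (LK LD1_c5 LD2_c2 LD3_c5)) :=
  Lgr Lrot119 (Lpe (f230749 IH) (Lpr_bf (f250110 IH) (Lpe (f166665 IH) (Lpn (LP (LK LD1_c5 LD2_c2 LD3_c5))))))
theorem f254250 : Led Lsl_dt (LP (LK LD1_c9 LD2_c33 LD3_c17)) = (LP (LK LD1_c9 LD2_c52 LD3_c58)) :=
  Lgr Lrot79 (Lpr_bf (f254241 IH) (Lpe (f253595 IH) (Lpe (f250115 IH) (Lpn (LP (LK LD1_c9 LD2_c52 LD3_c58))))))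
theorem f27716 : Led Lsl_et (LP (LK LD1_c4 LD2_c50 LD3_c33)) = (LP (LK LD1_c9 LD2_c33 LD3_c17)) :=
  Lre_e IH (LK LD1_c4 LD2_c50 LD3_c33) (LK LD1_c9 LD2_c33 LD3_c17) Lrfl Lrfl
theorem f192497 : Led Lsl_et (LP (LK LD1_c9 LD2_c52 LD3_c58)) = (LP (LK LD1_c5 LD2_c1 LD3_c16)) :=
  Lre_e IH (LK LD1_c9 LD2_c52 LD3_c58) (LK LD1_c5 LD2_c1 LD3_c16) Lrfl Lrfl
theorem f254255 : Led Lsl_ef (LP (LK LD1_c2 LD2_c23 LD3_c3)) = (LP (LK LD1_c4 LD2_c18 LD3_c55)) :=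
  Lgr Lrot73 (Lpr_dt (f43902 IH) (Lpr_et (f27716 IH) (Lpr_dt (f254250 IH) (Lpr_et (f192497 IH) (Lpr_dt (f251664 IH) (Lpn (LP (LK LD1_c4 LD2_c18 LD3_c55))))))))
theorem f192488 : Led Lsl_dt (LP (LK LD1_c1 LD2_c11 LD3_c24)) = (LP (LK LD1_c2 LD2_c28 LD3_c21)) :=
  Lre_d IH (LK LD1_c1 LD2_c11 LD3_c24) (LK LD1_c2 LD2_c28 LD3_c21) Lrfl Lrfl
theorem f252677 : Led Lsl_et (LP (LK LD1_c1 LD2_c11 LD3_c24)) = (LP (LK LD1_c2 LD2_c28 LD3_c22)) :=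
  Lre_e IH (LK LD1_c1 LD2_c11 LD3_c24) (LK LD1_c2 LD2_c28 LD3_c22) Lrfl Lrfl
theorem f192499 : Led Lsl_gt (LP (LK LD1_c2 LD2_c28 LD3_c22)) = (LP (LK LD1_c5 LD2_c1 LD3_c19)) :=
  Lre_g IH (LK LD1_c2 LD2_c28 LD3_c22) (LK LD1_c5 LD2_c1 LD3_c19) Lrfl Lrfl
theorem f254260 : Led Lsl_df (LP (LK LD1_c4 LD2_c50 LD3_c34)) = (LP (LK LD1_c5 LD2_c1 LD3_c19)) :=
  Lgr Lrot135 (Lpe (K11.f195832 IH) (Lpe (K12.f191006 IH) (Lpr_et (K10.f190988 IH) (Lpe (K10.f191018 IH) (Lpr_ef (f254255 IH) (Lpe (f251624 IH) (Lpr_gt (f192484 IH) (Lpe (f192488 IH) (Lpr_et (f252677 IH) (Lpr_gt (f192499 IH) (Lpn (LP (LK LD1_c5 LD2_c1 LD3_c19)))))))))))))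
theorem f166888 : Led Lsl_ft (LP (LK LD1_c0 LD2_c58 LD3_c41)) = (LP (LK LD1_c2 LD2_c3 LD3_c29)) :=
  Lre_f IH (LK LD1_c0 LD2_c58 LD3_c41) (LK LD1_c2 LD2_c3 LD3_c29) Lrfl Lrfl
theorem f249613 : Led Lsl_dt (LP (LK LD1_c2 LD2_c3 LD3_c29)) = (LP (LK LD1_c1 LD2_c13 LD3_c9)) :=
  Lgr Lrot60 (Lpe (f166888 IH) (Lpe (f166683 IH) (Lpr_ff (f249607 IH) (Lpn (LP (LK LD1_c1 LD2_c13 LD3_c9))))))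
theorem f197027 : Led Lsl_ct (LP (LK LD1_c2 LD2_c40 LD3_c24)) = (LP (LK LD1_c1 LD2_c16 LD3_c55)) :=
  Lre_c IH (LK LD1_c2 LD2_c40 LD3_c24) (LK LD1_c1 LD2_c16 LD3_c55) Lrfl Lrfl
theorem f252575 : Led Lsl_ef (LP (LK LD1_c2 LD2_c40 LD3_c24)) = (LP (LK LD1_c1 LD2_c59 LD3_c48)) :=
  Lgr Lrot28 (Lpr_ct (f197027 IH) (Lpr_et (f252570 IH) (Lpe (K10.f192454 IH) (Lpn (LP (LK LD1_c1 LD2_c59 LD3_c48))))))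
theorem f252664 : Led Lsl_et (LP (LK LD1_c1 LD2_c59 LD3_c50)) = (LP (LK LD1_c0 LD2_c56 LD3_c49)) :=
  Lre_e IH (LK LD1_c1 LD2_c59 LD3_c50) (LK LD1_c0 LD2_c56 LD3_c49) Lrfl Lrfl
theorem f252665 : Led Lsl_bt (LP (LK LD1_c2 LD2_c40 LD3_c24)) = (LP (LK LD1_c1 LD2_c59 LD3_c50)) :=
  Lgr Lrot119 (Lpr_ef (f252575 IH) (Lpe (K10.f192450 IH) (Lpe (f252664 IH) (Lpn (LP (LK LD1_c1 LD2_c59 LD3_c50))))))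
theorem f175059 : Led Lsl_ct (LP (LK LD1_c1 LD2_c16 LD3_c55)) = (LP (LK LD1_c2 LD2_c40 LD3_c24)) :=
  Lre_c IH (LK LD1_c1 LD2_c16 LD3_c55) (LK LD1_c2 LD2_c40 LD3_c24) Lrfl Lrfl
theorem f252670 : Led Lsl_bt (LP (LK LD1_c2 LD2_c28 LD3_c22)) = (LP (LK LD1_c1 LD2_c11 LD3_c27)) :=
  Lre_b IH (LK LD1_c2 LD2_c28 LD3_c22) (LK LD1_c1 LD2_c11 LD3_c27) Lrfl Lrfl
theorem f252671 : Led Lsl_cf (LP (LK LD1_c2 LD2_c28 LD3_c22)) = (LP (LK LD1_c1 LD2_c59 LD3_c50)) :=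
  Lgr Lrot97 (Lpr_bt (f252670 IH) (Lpr_ct (f252669 IH) (Lpe (f252573 IH) (Lpr_ct (f175059 IH) (Lpr_bt (f252665 IH) (Lpn (LP (LK LD1_c1 LD2_c59 LD3_c50))))))))
theorem f254266 : Led Lsl_gf (LP (LK LD1_c2 LD2_c3 LD3_c29)) = (LP (LK LD1_c1 LD2_c59 LD3_c50)) :=
  Lgr Lrot144 (Lpr_dt (f249613 IH) (Lpe (K12.f214272 IH) (Lpr_dt (K12.f190992 IH) (Lpe (K10.f190976 IH) (Lpe (K11.f190985 IH) (Lpr_gf (K11.f195832 IH) (Lpr_df (f254260 IH) (Lpe (f192499 IH) (Lpr_cf (f252671 IH) (Lpn (LP (LK LD1_c1 LD2_c59 LD3_c50))))))))))))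
theorem f199155 : Led Lsl_bt (LP (LK LD1_c4 LD2_c3 LD3_c23)) = (LP (LK LD1_c1 LD2_c58 LD3_c46)) :=
  Lre_b IH (LK LD1_c4 LD2_c3 LD3_c23) (LK LD1_c1 LD2_c58 LD3_c46) Lrfl Lrfl
theorem f192645 : Led Lsl_bf (LP (LK LD1_c0 LD2_c25 LD3_c53)) = (LP (LK LD1_c0 LD2_c55 LD3_c41)) :=
  Lgr Lrot24 (Lpr_bt (K10.f192641 IH) (Lpn (LP (LK LD1_c0 LD2_c55 LD3_c41))))
theorem f216361 : Led Lsl_cf (LP (LK LD1_c2 LD2_c24 LD3_c9)) = (LP (LK LD1_c1 LD2_c57 LD3_c26)) :=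
  Lgr Lrot166 (Lpr_gt (K12.f170847 IH) (Lpe (K10.f187923 IH) (Lpr_gt (K10.f31132 IH) (Lpr_dt (K11.f31416 IH) (Lpe (K0.f31428 IH) (Lpe (K11.f31045 IH) (Lpe (K12.f31537 IH) (Lpr_df (K12.f216354 IH) (Lpe (K12.f211592 IH) (Lpn (LP (LK LD1_c1 LD2_c57 LD3_c26))))))))))))
theorem f199156 : Led Lsl_bt (LP (LK LD1_c0 LD2_c58 LD3_c37)) = (LP (LK LD1_c0 LD2_c26 LD3_c43)) :=
  Lre_b IH (LK LD1_c0 LD2_c58 LD3_c37) (LK LD1_c0 LD2_c26 LD3_c43) Lrfl Lrfl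
theorem f253502 : Led Lsl_gf (LP (LK LD1_c2 LD2_c24 LD3_c9)) = (LP (LK LD1_c1 LD2_c58 LD3_c46)) :=
  Lgr Lrot126 (Lpr_cf (f216361 IH) (Lpe (K13.f232891 IH) (Lpr_gt (K13.f170659 IH) (Lpr_ct (K13.f170684 IH) (Lpr_gt (K13.f240737 IH) (Lpe (K10.f192595 IH) (Lpe (f192645 IH) (Lpr_gt (f253490 IH) (Lpe (f199156 IH) (Lpe (K12.f199161 IH) (Lpn (LP (LK LD1_c1 LD2_c58 LD3_c46)))))))))))))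
theorem f227948 : Led Lsl_et (LP (LK LD1_c2 LD2_c24 LD3_c9)) = (LP (LK LD1_c2 LD2_c7 LD3_c1)) :=
  Lgr Lrot158 (Lpr_cf (f216361 IH) (Lpe (K12.f216350 IH) (Lpr_cf (K12.f227940 IH) (Lpn (LP (LK LD1_c2 LD2_c7 LD3_c1))))))
theorem f232877 : Led Lsl_bt (LP (LK LD1_c2 LD2_c37 LD3_c43)) = (LP (LK LD1_c2 LD2_c24 LD3_c9)) :=
  Lgr Lrot119 (Lpr_ef (K13.f232875 IH) (Lpe (K13.f227952 IH) (Lpe (f227948 IH) (Lpn (LP (LK LD1_c2 LD2_c24 LD3_c9))))))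
theorem f252673 : Led Lsl_ct (LP (LK LD1_c2 LD2_c28 LD3_c22)) = (LP (LK LD1_c1 LD2_c59 LD3_c50)) :=
  Lgr Lrot59 (Lpr_cf (f252671 IH) (Lpn (LP (LK LD1_c1 LD2_c59 LD3_c50))))
theorem f254276 : Led Lsl_gt (LP (LK LD1_c2 LD2_c25 LD3_c16)) = (LP (LK LD1_c2 LD2_c28 LD3_c22)) :=
  Lgr Lrot82 (Lpe (K12.f213914 IH) (Lpr_ct (K12.f214001 IH) (Lpr_gf (K13.f232867 IH) (Lpe (K13.f232869 IH) (Lpr_bt (f232877 IH) (Lpr_gf (f253502 IH) (Lpe (f199155 IH) (Lpr_ct (K12.f199167 IH) (Lpr_gf (f254266 IH) (Lpe (f252673 IH) (Lpn (LP (LK LD1_c2 LD2_c28 LD3_c22)))))))))))))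
theorem f231400 : Led Lsl_at (LP (LK LD1_c5 LD2_c21 LD3_c46)) = (LP (LK LD1_c8 LD2_c53 LD3_c54)) :=
  Lgr Lrot33 (Lpr_ff (K10.f189308 IH) (Lpr_dt (K12.f43904 IH) (Lpe (K12.f214306 IH) (Lpr_dt (K12.f214135 IH) (Lpr_ct (K12.f214102 IH) (Lpr_dt (K12.f190992 IH) (Lpr_ct (K10.f171521 IH) (Lpr_dt (K12.f191006 IH) (Lpr_ct (K13.f231384 IH) (Lpn (LP (LK LD1_c8 LD2_c53 LD3_c54))))))))))))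
theorem f231407 : Led Lsl_gf (LP (LK LD1_c5 LD2_c20 LD3_c17)) = (LP (LK LD1_c4 LD2_c50 LD3_c36)) :=
  Lgr Lrot47 (Lpr_gt (K13.f231405 IH) (Lpe (f231400 IH) (Lpr_ff (K10.f189308 IH) (Lpn (LP (LK LD1_c4 LD2_c50 LD3_c36))))))
theorem f46513 : Led Lsl_ct (LP (LK LD1_c5 LD2_c20 LD3_c17)) = (LP (LK LD1_c2 LD2_c36 LD3_c48)) :=
  Lre_c IH (LK LD1_c5 LD2_c20 LD3_c17) (LK LD1_c2 LD2_c36 LD3_c48) Lrfl Lrfl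
theorem f199157 : Led Lsl_ct (LP (LK LD1_c0 LD2_c26 LD3_c43)) = (LP (LK LD1_c0 LD2_c58 LD3_c47)) :=
  Lre_c IH (LK LD1_c0 LD2_c26 LD3_c43) (LK LD1_c0 LD2_c58 LD3_c47) Lrfl Lrfl
theorem f199159 : Led Lsl_cf (LP (LK LD1_c4 LD2_c3 LD3_c23)) = (LP (LK LD1_c2 LD2_c3 LD3_c29)) :=
  Lgr Lrot97 (Lpr_bt (f199155 IH) (Lpr_ct (K12.f199153 IH) (Lpr_bt (f199156 IH) (Lpr_ct (f199157 IH) (Lpr_bt (f199158 IH) (Lpn (LP (LK LD1_c2 LD2_c3 LD3_c29))))))))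
theorem f254285 : Led Lsl_df (LP (LK LD1_c2 LD2_c36 LD3_c48)) = (LP (LK LD1_c4 LD2_c3 LD3_c23)) :=
  Lgr Lrot162 (Lpe (f46513 IH) (Lpr_gf (f231407 IH) (Lpe (K11.f27720 IH) (Lpe (K12.f27731 IH) (Lpr_dt (K12.f213918 IH) (Lpr_gt (f254276 IH) (Lpr_ct (f252673 IH) (Lpe (f254266 IH) (Lpe (f199159 IH) (Lpn (LP (LK LD1_c4 LD2_c3 LD3_c23))))))))))))
theorem f249601 : Led Lsl_df (LP (LK LD1_c2 LD2_c3 LD3_c29)) = (LP (LK LD1_c1 LD2_c13 LD3_c9)) :=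
  Lgr Lrot78 (Lpr_ft (K12.f166886 IH) (Lpe (K10.f166854 IH) (Lpr_ft (f249593 IH) (Lpn (LP (LK LD1_c1 LD2_c13 LD3_c9))))))
theorem f165248 : Led Lsl_dt (LP (LK LD1_c5 LD2_c10 LD3_c32)) = (LP (LK LD1_c2 LD2_c32 LD3_c19)) :=
  Lre_d IH (LK LD1_c5 LD2_c10 LD3_c32) (LK LD1_c2 LD2_c32 LD3_c19) Lrfl Lrfl
theorem f253403 : Led Lsl_cf (LP (LK LD1_c5 LD2_c10 LD3_c32)) = (LP (LK LD1_c8 LD2_c53 LD3_c56)) :=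
  Lgr Lrot11 (Lpr_ct (f253393 IH) (Lpn (LP (LK LD1_c8 LD2_c53 LD3_c56))))
theorem f253379 : Led Lsl_ft (LP (LK LD1_c4 LD2_c27 LD3_c59)) = (LP (LK LD1_c2 LD2_c37 LD3_c28)) :=
  Lgr Lrot48 (Lpr_ff (f253372 IH) (Lpn (LP (LK LD1_c2 LD2_c37 LD3_c28))))
theorem f254297 : Led Lsl_af (LP (LK LD1_c5 LD2_c20 LD3_c17)) = (LP (LK LD1_c2 LD2_c37 LD3_c28)) :=
  Lgr Lrot109 (Lpe (K13.f214057 IH) (Lpr_df (f254285 IH) (Lpr_cf (f199159 IH) (Lpr_df (f249601 IH) (Lpe (f165247 IH) (Lpe (f165248 IH) (Lpr_cf (f253403 IH) (Lpe (f231402 IH) (Lpr_ft (f253379 IH) (Lpn (LP (LK LD1_c2 LD2_c37 LD3_c28))))))))))))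
theorem f254309 : Led Lsl_et (LP (LK LD1_c5 LD2_c20 LD3_c17)) = (LP (LK LD1_c10 LD2_c30 LD3_c34)) :=
  Lre_e IH (LK LD1_c5 LD2_c20 LD3_c17) (LK LD1_c10 LD2_c30 LD3_c34) Lrfl Lrfl
theorem f254310 : Led Lsl_at (LP (LK LD1_c10 LD2_c30 LD3_c34)) = (LP (LK LD1_c5 LD2_c21 LD3_c50)) :=
  Lgr Lrot80 (Lpe (f254309 IH) (Lpr_af (f254297 IH) (Lpe (f215817 IH) (Lpn (LP (LK LD1_c5 LD2_c21 LD3_c50))))))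
theorem f254320 : Led Lsl_ft (LP (LK LD1_c19 LD2_c2 LD3_c45)) = (LP (LK LD1_c10 LD2_c30 LD3_c34)) :=
  Lre_f IH (LK LD1_c19 LD2_c2 LD3_c45) (LK LD1_c10 LD2_c30 LD3_c34) Lrfl Lrfl
theorem f254321 : Led Lsl_ft (LP (LK LD1_c5 LD2_c21 LD3_c50)) = (LP (LK LD1_c10 LD2_c33 LD3_c59)) :=
  Lre_f IH (LK LD1_c5 LD2_c21 LD3_c50) (LK LD1_c10 LD2_c33 LD3_c59) Lrfl Lrfl
theorem f254322 : Led Lsl_af (LP (LK LD1_c19 LD2_c2 LD3_c45)) = (LP (LK LD1_c10 LD2_c33 LD3_c59)) :=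
  Lgr Lrot45 (Lpr_ft (f254320 IH) (Lpr_at (f254310 IH) (Lpr_ft (f254321 IH) (Lpn (LP (LK LD1_c10 LD2_c33 LD3_c59))))))
theorem f231435 : Led Lsl_ct (LP (LK LD1_c19 LD2_c2 LD3_c45)) = (LP (LK LD1_c10 LD2_c30 LD3_c36)) :=
  Lre_c IH (LK LD1_c19 LD2_c2 LD3_c45) (LK LD1_c10 LD2_c30 LD3_c36) Lrfl Lrfl
theorem f253352 : Led Lsl_ct (LP (LK LD1_c5 LD2_c21 LD3_c53)) = (LP (LK LD1_c10 LD2_c33 LD3_c59)) :=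
  Lre_c IH (LK LD1_c5 LD2_c21 LD3_c53) (LK LD1_c10 LD2_c33 LD3_c59) Lrfl Lrfl
theorem f254334 : Led Lsl_at (LP (LK LD1_c10 LD2_c30 LD3_c36)) = (LP (LK LD1_c5 LD2_c21 LD3_c53)) :=
  Lgr Lrot107 (Lpe (f231435 IH) (Lpr_af (f254322 IH) (Lpe (f253352 IH) (Lpn (LP (LK LD1_c5 LD2_c21 LD3_c53))))))
theorem f254393 : Led Lsl_af (LP (LK LD1_c10 LD2_c30 LD3_c36)) = (LP (LK LD1_c5 LD2_c21 LD3_c53)) :=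
  Lgr Lrot0 (Lpr_at (f254334 IH) (Lpn (LP (LK LD1_c5 LD2_c21 LD3_c53))))
theorem f231437 : Led Lsl_ft (LP (LK LD1_c10 LD2_c30 LD3_c36)) = (LP (LK LD1_c5 LD2_c20 LD3_c18)) :=
  Lre_f IH (LK LD1_c10 LD2_c30 LD3_c36) (LK LD1_c5 LD2_c20 LD3_c18) Lrfl Lrfl
theorem f253365 : Led Lsl_ft (LP (LK LD1_c2 LD2_c37 LD3_c29)) = (LP (LK LD1_c5 LD2_c21 LD3_c53)) :=
  Lre_f IH (LK LD1_c2 LD2_c37 LD3_c29) (LK LD1_c5 LD2_c21 LD3_c53) Lrfl Lrfl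
theorem f254395 : Led Lsl_at (LP (LK LD1_c5 LD2_c20 LD3_c18)) = (LP (LK LD1_c2 LD2_c37 LD3_c29)) :=
  Lgr Lrot66 (Lpe (f231437 IH) (Lpr_af (f254393 IH) (Lpe (f253365 IH) (Lpn (LP (LK LD1_c2 LD2_c37 LD3_c29))))))
theorem f231441 : Led Lsl_et (LP (LK LD1_c2 LD2_c36 LD3_c48)) = (LP (LK LD1_c5 LD2_c20 LD3_c18)) :=
  Lre_e IH (LK LD1_c2 LD2_c36 LD3_c48) (LK LD1_c5 LD2_c20 LD3_c18) Lrfl Lrfl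
theorem f41516 : Led Lsl_et (LP (LK LD1_c2 LD2_c37 LD3_c29)) = (LP (LK LD1_c1 LD2_c15 LD3_c46)) :=
  Lre_e IH (LK LD1_c2 LD2_c37 LD3_c29) (LK LD1_c1 LD2_c15 LD3_c46) Lrfl Lrfl
theorem f254404 : Led Lsl_af (LP (LK LD1_c2 LD2_c36 LD3_c48)) = (LP (LK LD1_c1 LD2_c15 LD3_c46)) :=
  Lgr Lrot50 (Lpr_et (f231441 IH) (Lpr_at (f254395 IH) (Lpr_et (f41516 IH) (Lpn (LP (LK LD1_c1 LD2_c15 LD3_c46))))))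
theorem f231409 : Led Lsl_dt (LP (LK LD1_c10 LD2_c30 LD3_c33)) = (LP (LK LD1_c5 LD2_c20 LD3_c17)) :=
  Lre_d IH (LK LD1_c10 LD2_c30 LD3_c33) (LK LD1_c5 LD2_c20 LD3_c17) Lrfl Lrfl
theorem f231288 : Led Lsl_bt (LP (LK LD1_c1 LD2_c2 LD3_c35)) = (LP (LK LD1_c2 LD2_c11 LD3_c2)) :=
  Lre_b IH (LK LD1_c1 LD2_c2 LD3_c35) (LK LD1_c2 LD2_c11 LD3_c2) Lrfl Lrfl
theorem f231290 : Led Lsl_bt (LP (LK LD1_c4 LD2_c7 LD3_c50)) = (LP (LK LD1_c2 LD2_c11 LD3_c8)) :=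
  Lgr Lrot95 (Lpr_df (K12.f231248 IH) (Lpe (f231288 IH) (Lpe (f231289 IH) (Lpn (LP (LK LD1_c2 LD2_c11 LD3_c8))))))
theorem f253301 : Led Lsl_ft (LP (LK LD1_c2 LD2_c11 LD3_c8)) = (LP (LK LD1_c1 LD2_c15 LD3_c46)) :=
  Lgr Lrot75 (Lpe (f231290 IH) (Lpr_ff (f253297 IH) (Lpe (K10.f188031 IH) (Lpn (LP (LK LD1_c1 LD2_c15 LD3_c46))))))
theorem f166913 : Led Lsl_dt (LP (LK LD1_c5 LD2_c3 LD3_c42)) = (LP (LK LD1_c9 LD2_c58 LD3_c14)) :=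
  Lre_d IH (LK LD1_c5 LD2_c3 LD3_c42) (LK LD1_c9 LD2_c58 LD3_c14) Lrfl Lrfl
theorem f254420 : Led Lsl_cf (LP (LK LD1_c10 LD2_c30 LD3_c33)) = (LP (LK LD1_c9 LD2_c58 LD3_c14)) :=
  Lgr Lrot161 (Lpr_dt (f231409 IH) (Lpr_ct (f46513 IH) (Lpr_af (f254404 IH) (Lpe (f253301 IH) (Lpr_dt (f231289 IH) (Lpe (f253408 IH) (Lpe (f166900 IH) (Lpr_ct (f166912 IH) (Lpr_dt (f166913 IH) (Lpn (LP (LK LD1_c9 LD2_c58 LD3_c14))))))))))))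
theorem f254428 : Led Lsl_af (LP (LK LD1_c10 LD2_c30 LD3_c33)) = (LP (LK LD1_c5 LD2_c21 LD3_c49)) :=
  Lgr Lrot109 (Lpr_cf (f254420 IH) (Lpe (f166913 IH) (Lpe (f166912 IH) (Lpr_df (f166900 IH) (Lpr_cf (f253408 IH) (Lpe (f231289 IH) (Lpe (f231375 IH) (Lpe (f231381 IH) (Lpr_ft (f253377 IH) (Lpn (LP (LK LD1_c5 LD2_c21 LD3_c49))))))))))))
theorem f231391 : Led Lsl_cf (LP (LK LD1_c5 LD2_c9 LD3_c26)) = (LP (LK LD1_c8 LD2_c53 LD3_c54)) :=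
  Lgr Lrot11 (Lpr_ct (K13.f231384 IH) (Lpn (LP (LK LD1_c8 LD2_c53 LD3_c54))))
theorem f192492 : Led Lsl_dt (LP (LK LD1_c2 LD2_c28 LD3_c22)) = (LP (LK LD1_c5 LD2_c1 LD3_c20)) :=
  Lre_d IH (LK LD1_c2 LD2_c28 LD3_c22) (LK LD1_c5 LD2_c1 LD3_c20) Lrfl Lrfl
theorem f226083 : Led Lsl_bt (LP (LK LD1_c0 LD2_c57 LD3_c21)) = (LP (LK LD1_c2 LD2_c0 LD3_c45)) :=
  Lre_b IH (LK LD1_c0 LD2_c57 LD3_c21) (LK LD1_c2 LD2_c0 LD3_c45) Lrfl Lrfl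
theorem f187531 : Led Lsl_ct (LP (LK LD1_c0 LD2_c57 LD3_c21)) = (LP (LK LD1_c2 LD2_c0 LD3_c47)) :=
  Lre_c IH (LK LD1_c0 LD2_c57 LD3_c21) (LK LD1_c2 LD2_c0 LD3_c47) Lrfl Lrfl
theorem f187532 : Led Lsl_ct (LP (LK LD1_c2 LD2_c0 LD3_c47)) = (LP (LK LD1_c0 LD2_c57 LD3_c21)) :=
  Lre_c IH (LK LD1_c2 LD2_c0 LD3_c47) (LK LD1_c0 LD2_c57 LD3_c21) Lrfl Lrfl
theorem f166155 : Led Lsl_ct (LP (LK LD1_c5 LD2_c6 LD3_c40)) = (LP (LK LD1_c2 LD2_c30 LD3_c37)) :=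
  Lre_c IH (LK LD1_c5 LD2_c6 LD3_c40) (LK LD1_c2 LD2_c30 LD3_c37) Lrfl Lrfl
theorem f20707 : Led Lsl_dt (LP (LK LD1_c2 LD2_c33 LD3_c50)) = (LP (LK LD1_c1 LD2_c13 LD3_c54)) :=
  Lre_d IH (LK LD1_c2 LD2_c33 LD3_c50) (LK LD1_c1 LD2_c13 LD3_c54) Lrfl Lrfl
theorem f20706 : Led Lsl_ct (LP (LK LD1_c1 LD2_c13 LD3_c54)) = (LP (LK LD1_c0 LD2_c34 LD3_c15)) :=
  Lre_c IH (LK LD1_c1 LD2_c13 LD3_c54) (LK LD1_c0 LD2_c34 LD3_c15) Lrfl Lrfl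
theorem f195712 : Led Lsl_df (LP (LK LD1_c1 LD2_c16 LD3_c28)) = (LP (LK LD1_c1 LD2_c2 LD3_c47)) :=
  Lgr Lrot38 (Lpr_dt (f195700 IH) (Lpn (LP (LK LD1_c1 LD2_c2 LD3_c47))))
theorem f198712 : Led Lsl_df (LP (LK LD1_c5 LD2_c6 LD3_c40)) = (LP (LK LD1_c2 LD2_c39 LD3_c22)) :=
  Lgr Lrot43 (Lpr_ct (f166155 IH) (Lpr_dt (f166154 IH) (Lpr_ct (K11.f166158 IH) (Lpr_dt (K9.f22128 IH) (Lpr_ct (K9.f166125 IH) (Lpr_dt (K9.f165880 IH) (Lpr_ct (K11.f166131 IH) (Lpr_dt (f166134 IH) (Lpr_ct (K11.f198705 IH) (Lpr_dt (f20707 IH) (Lpr_ct (f20706 IH) (Lpe (K10.f20702 IH) (Lpr_ct (K13.f183347 IH) (Lpe (f195712 IH) (Lpr_ct (K12.f195594 IH) (Lpn (LP (LK LD1_c2 LD2_c39 LD3_c22))))))))))))))))))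
theorem f226067 : Led Lsl_gt (LP (LK LD1_c2 LD2_c0 LD3_c47)) = (LP (LK LD1_c2 LD2_c39 LD3_c22)) :=
  Lgr Lrot180 (Lpr_ct (f187532 IH) (Lpe (f226065 IH) (Lpr_dt (f226059 IH) (Lpr_gt (K9.f179863 IH) (Lpe (K9.f167859 IH) (Lpr_ct (K9.f177456 IH) (Lpe (f177470 IH) (Lpe (f226038 IH) (Lpr_df (f198712 IH) (Lpn (LP (LK LD1_c2 LD2_c39 LD3_c22))))))))))))
theorem f215452 : Led Lsl_bf (LP (LK LD1_c2 LD2_c37 LD3_c22)) = (LP (LK LD1_c1 LD2_c16 LD3_c28)) :=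
  Lgr Lrot24 (Lpr_bt (f215449 IH) (Lpn (LP (LK LD1_c1 LD2_c16 LD3_c28))))
theorem f44630 : Led Lsl_gt (LP (LK LD1_c2 LD2_c37 LD3_c23)) = (LP (LK LD1_c5 LD2_c21 LD3_c31)) :=
  Lre_g IH (LK LD1_c2 LD2_c37 LD3_c23) (LK LD1_c5 LD2_c21 LD3_c31) Lrfl Lrfl
theorem f253039 : Led Lsl_bt (LP (LK LD1_c5 LD2_c1 LD3_c20)) = (LP (LK LD1_c2 LD2_c28 LD3_c27)) :=
  Lre_b IH (LK LD1_c5 LD2_c1 LD3_c20) (LK LD1_c2 LD2_c28 LD3_c27) Lrfl Lrfl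
theorem f253115 : Led Lsl_cf (LP (LK LD1_c5 LD2_c21 LD3_c31)) = (LP (LK LD1_c5 LD2_c1 LD3_c20)) :=
  Lgr Lrot163 (Lpe (f44630 IH) (Lpe (K12.f8399 IH) (Lpe (f44732 IH) (Lpr_bf (f215452 IH) (Lpr_ct (K12.f195594 IH) (Lpe (f226067 IH) (Lpe (f187531 IH) (Lpr_bt (f226083 IH) (Lpr_gf (f253042 IH) (Lpe (f253039 IH) (Lpn (LP (LK LD1_c5 LD2_c1 LD3_c20)))))))))))))
theorem f217873 : Led Lsl_dt (LP (LK LD1_c10 LD2_c33 LD3_c21)) = (LP (LK LD1_c5 LD2_c21 LD3_c31)) :=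
  Lre_d IH (LK LD1_c10 LD2_c33 LD3_c21) (LK LD1_c5 LD2_c21 LD3_c31) Lrfl Lrfl
theorem f254281 : Led Lsl_gt (LP (LK LD1_c8 LD2_c53 LD3_c56)) = (LP (LK LD1_c10 LD2_c33 LD3_c21)) :=
  Lgr Lrot189 (Lpe (f231402 IH) (Lpe (K13.f231383 IH) (Lpe (f231391 IH) (Lpr_gt (K12.f214094 IH) (Lpr_dt (K12.f213918 IH) (Lpr_gt (f254276 IH) (Lpr_dt (f192492 IH) (Lpe (f253115 IH) (Lpe (f217873 IH) (Lpn (LP (LK LD1_c10 LD2_c33 LD3_c21))))))))))))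
theorem f254436 : Led Lsl_gf (LP (LK LD1_c10 LD2_c30 LD3_c33)) = (LP (LK LD1_c10 LD2_c33 LD3_c21)) :=
  Lgr Lrot76 (Lpr_af (f254428 IH) (Lpe (f253377 IH) (Lpr_gt (f254281 IH) (Lpn (LP (LK LD1_c10 LD2_c33 LD3_c21))))))
theorem f231410 : Led Lsl_dt (LP (LK LD1_c5 LD2_c20 LD3_c17)) = (LP (LK LD1_c10 LD2_c30 LD3_c33)) :=
  Lre_d IH (LK LD1_c5 LD2_c20 LD3_c17) (LK LD1_c10 LD2_c30 LD3_c33) Lrfl Lrfl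
theorem f166898 : Led Lsl_ct (LP (LK LD1_c5 LD2_c3 LD3_c42)) = (LP (LK LD1_c2 LD2_c29 LD3_c20)) :=
  Lre_c IH (LK LD1_c5 LD2_c3 LD3_c42) (LK LD1_c2 LD2_c29 LD3_c20) Lrfl Lrfl
theorem f254293 : Led Lsl_ct (LP (LK LD1_c10 LD2_c30 LD3_c33)) = (LP (LK LD1_c9 LD2_c58 LD3_c14)) :=
  Lgr Lrot176 (Lpe (f231410 IH) (Lpe (K13.f214057 IH) (Lpr_df (f254285 IH) (Lpr_cf (f199159 IH) (Lpr_df (f249601 IH) (Lpe (f165247 IH) (Lpe (f165248 IH) (Lpr_cf (f253403 IH) (Lpe (f231402 IH) (Lpe (K13.f231382 IH) (Lpe (f231380 IH) (Lpe (f253413 IH) (Lpe (f166883 IH) (Lpe (f166898 IH) (Lpe (f166899 IH) (Lpn (LP (LK LD1_c9 LD2_c58 LD3_c14))))))))))))))))))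
theorem f190490 : Led Lsl_dt (LP (LK LD1_c5 LD2_c21 LD3_c21)) = (LP (LK LD1_c10 LD2_c32 LD3_c61)) :=
  Lre_d IH (LK LD1_c5 LD2_c21 LD3_c21) (LK LD1_c10 LD2_c32 LD3_c61) Lrfl Lrfl
theorem f199004 : Led Lsl_et (LP (LK LD1_c1 LD2_c58 LD3_c38)) = (LP (LK LD1_c4 LD2_c3 LD3_c21)) :=
  Lre_e IH (LK LD1_c1 LD2_c58 LD3_c38) (LK LD1_c4 LD2_c3 LD3_c21) Lrfl Lrfl
theorem f199007 : Led Lsl_df (LP (LK LD1_c1 LD2_c58 LD3_c39)) = (LP (LK LD1_c1 LD2_c15 LD3_c47)) :=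
  Lgr Lrot70 (Lpr_et (K11.f199006 IH) (Lpr_dt (K12.f199005 IH) (Lpr_et (f199004 IH) (Lpr_dt (K12.f198995 IH) (Lpr_et (K12.f41512 IH) (Lpn (LP (LK LD1_c1 LD2_c15 LD3_c47))))))))
theorem f187502 : Led Lsl_gt (LP (LK LD1_c5 LD2_c20 LD3_c23)) = (LP (LK LD1_c2 LD2_c37 LD3_c33)) :=
  Lre_g IH (LK LD1_c5 LD2_c20 LD3_c23) (LK LD1_c2 LD2_c37 LD3_c33) Lrfl Lrfl
theorem f194966 : Led Lsl_dt (LP (LK LD1_c2 LD2_c37 LD3_c33)) = (LP (LK LD1_c5 LD2_c22 LD3_c2)) :=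
  Lre_d IH (LK LD1_c2 LD2_c37 LD3_c33) (LK LD1_c5 LD2_c22 LD3_c2) Lrfl Lrfl
theorem f183932 : Led Lsl_ct (LP (LK LD1_c5 LD2_c13 LD3_c15)) = (LP (LK LD1_c2 LD2_c33 LD3_c28)) :=
  Lre_c IH (LK LD1_c5 LD2_c13 LD3_c15) (LK LD1_c2 LD2_c33 LD3_c28) Lrfl Lrfl
theorem f183928 : Led Lsl_dt (LP (LK LD1_c10 LD2_c16 LD3_c51)) = (LP (LK LD1_c5 LD2_c13 LD3_c15)) :=
  Lre_d IH (LK LD1_c10 LD2_c16 LD3_c51) (LK LD1_c5 LD2_c13 LD3_c15) Lrfl Lrfl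
theorem f246138 : Led Lsl_gt (LP (LK LD1_c5 LD2_c22 LD3_c2)) = (LP (LK LD1_c10 LD2_c16 LD3_c51)) :=
  Lgr Lrot49 (Lpe (f194966 IH) (Lpe (f187502 IH) (Lpe (K10.f46466 IH) (Lpr_gt (K11.f41511 IH) (Lpe (f199007 IH) (Lpr_gt (f246127 IH) (Lpr_dt (K9.f183905 IH) (Lpe (f183932 IH) (Lpe (f183928 IH) (Lpn (LP (LK LD1_c10 LD2_c16 LD3_c51))))))))))))
theorem f46468 : Led Lsl_ct (LP (LK LD1_c10 LD2_c30 LD3_c51)) = (LP (LK LD1_c5 LD2_c21 LD3_c24)) :=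
  Lre_c IH (LK LD1_c10 LD2_c30 LD3_c51) (LK LD1_c5 LD2_c21 LD3_c24) Lrfl Lrfl
theorem f214232 : Led Lsl_dt (LP (LK LD1_c5 LD2_c9 LD3_c27)) = (LP (LK LD1_c10 LD2_c9 LD3_c38)) :=
  Lre_d IH (LK LD1_c5 LD2_c9 LD3_c27) (LK LD1_c10 LD2_c9 LD3_c38) Lrfl Lrfl
theorem f215342 : Led Lsl_gt (LP (LK LD1_c10 LD2_c9 LD3_c38)) = (LP (LK LD1_c10 LD2_c20 LD3_c19)) :=
  Lgr Lrot9 (Lpe (f214232 IH) (Lpr_gt (K12.f214270 IH) (Lpr_ct (f45405 IH) (Lpe (K12.f212468 IH) (Lpr_ct (K10.f43931 IH) (Lpe (K1.f43987 IH) (Lpe (f46468 IH) (Lpe (f194949 IH) (Lpr_cf (f215262 IH) (Lpn (LP (LK LD1_c10 LD2_c20 LD3_c19))))))))))))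
theorem f43861 : Led Lsl_at (LP (LK LD1_c7 LD2_c57 LD3_c34)) = (LP (LK LD1_c7 LD2_c57 LD3_c36)) :=
  Lgr Lrot100 (Lpr_af (K12.f43858 IH) (Lpn (LP (LK LD1_c7 LD2_c57 LD3_c36))))
theorem f214320 : Led Lsl_ft (LP (LK LD1_c10 LD2_c9 LD3_c38)) = (LP (LK LD1_c7 LD2_c57 LD3_c34)) :=
  Lgr Lrot101 (Lpr_af (K12.f214180 IH) (Lpr_ff (K12.f214316 IH) (Lpe (f43861 IH) (Lpn (LP (LK LD1_c7 LD2_c57 LD3_c34))))))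
theorem f215348 : Led Lsl_gf (LP (LK LD1_c7 LD2_c57 LD3_c36)) = (LP (LK LD1_c10 LD2_c20 LD3_c19)) :=
  Lgr Lrot76 (Lpe (f43861 IH) (Lpe (f214320 IH) (Lpr_gt (f215342 IH) (Lpn (LP (LK LD1_c10 LD2_c20 LD3_c19))))))
theorem f215355 : Led Lsl_cf (LP (LK LD1_c10 LD2_c32 LD3_c61)) = (LP (LK LD1_c5 LD2_c22 LD3_c2)) :=
  Lgr Lrot14 (Lpe (f190490 IH) (Lpr_gf (f214342 IH) (Lpe (K12.f43259 IH) (Lpr_gf (f215348 IH) (Lpe (f215262 IH) (Lpr_gt (f194949 IH) (Lpr_dt (f46456 IH) (Lpr_gt (f187502 IH) (Lpr_dt (f194966 IH) (Lpn (LP (LK LD1_c5 LD2_c22 LD3_c2))))))))))))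
theorem f215686 : Led Lsl_cf (LP (LK LD1_c10 LD2_c30 LD3_c49)) = (LP (LK LD1_c15 LD2_c0 LD3_c45)) :=
  Lgr Lrot11 (Lpr_ct (f215678 IH) (Lpn (LP (LK LD1_c15 LD2_c0 LD3_c45))))
theorem f191793 : Led Lsl_dt (LP (LK LD1_c8 LD2_c51 LD3_c60)) = (LP (LK LD1_c15 LD2_c0 LD3_c45)) :=
  Lgr Lrot42 (Lpr_df (f191787 IH) (Lpn (LP (LK LD1_c15 LD2_c0 LD3_c45))))
theorem f215692 : Led Lsl_dt (LP (LK LD1_c9 LD2_c56 LD3_c30)) = (LP (LK LD1_c5 LD2_c2 LD3_c51)) :=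
  Lre_d IH (LK LD1_c9 LD2_c56 LD3_c30) (LK LD1_c5 LD2_c2 LD3_c51) Lrfl Lrfl
theorem f246195 : Led Lsl_gt (LP (LK LD1_c10 LD2_c32 LD3_c61)) = (LP (LK LD1_c9 LD2_c56 LD3_c30)) :=
  Lgr Lrot94 (Lpr_cf (f215355 IH) (Lpr_gt (f246138 IH) (Lpr_dt (f183928 IH) (Lpr_gt (f183926 IH) (Lpe (f196036 IH) (Lpr_cf (f215686 IH) (Lpe (f191793 IH) (Lpr_gf (K12.f192129 IH) (Lpe (f215692 IH) (Lpn (LP (LK LD1_c9 LD2_c56 LD3_c30))))))))))))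
theorem f254440 : Led Lsl_ct (LP (LK LD1_c9 LD2_c56 LD3_c30)) = (LP (LK LD1_c10 LD2_c33 LD3_c21)) :=
  Lgr Lrot152 (Lpe (f246195 IH) (Lpe (f190490 IH) (Lpe (f214103 IH) (Lpr_ct (K12.f214102 IH) (Lpe (f249618 IH) (Lpr_ct (f166912 IH) (Lpe (f166899 IH) (Lpe (f254293 IH) (Lpr_gf (f254436 IH) (Lpn (LP (LK LD1_c10 LD2_c33 LD3_c21))))))))))))
theorem f242374 : Led Lsl_dt (LP (LK LD1_c5 LD2_c2 LD3_c51)) = (LP (LK LD1_c9 LD2_c56 LD3_c30)) :=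
  Lre_d IH (LK LD1_c5 LD2_c2 LD3_c51) (LK LD1_c9 LD2_c56 LD3_c30) Lrfl Lrfl
theorem f44631 : Led Lsl_dt (LP (LK LD1_c5 LD2_c21 LD3_c31)) = (LP (LK LD1_c10 LD2_c33 LD3_c21)) :=
  Lre_d IH (LK LD1_c5 LD2_c21 LD3_c31) (LK LD1_c10 LD2_c33 LD3_c21) Lrfl Lrfl
theorem f254459 : Led Lsl_gf (LP (LK LD1_c5 LD2_c2 LD3_c51)) = (LP (LK LD1_c8 LD2_c51 LD3_c61)) :=
  Lgr Lrot154 (Lpr_dt (f242374 IH) (Lpr_ct (f254440 IH) (Lpe (f44631 IH) (Lpe (f44630 IH) (Lpe (K12.f198868 IH) (Lpe (K12.f198869 IH) (Lpe (K12.f215615 IH) (Lpr_gt (f214334 IH) (Lpe (f214918 IH) (Lpn (LP (LK LD1_c8 LD2_c51 LD3_c61))))))))))))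
theorem f212239 : Led Lsl_bt (LP (LK LD1_c2 LD2_c28 LD3_c60)) = (LP (LK LD1_c5 LD2_c2 LD3_c50)) :=
  Lre_b IH (LK LD1_c2 LD2_c28 LD3_c60) (LK LD1_c5 LD2_c2 LD3_c50) Lrfl Lrfl
theorem f249112 : Led Lsl_dt (LP (LK LD1_c2 LD2_c32 LD3_c53)) = (LP (LK LD1_c5 LD2_c12 LD3_c4)) :=
  Lre_d IH (LK LD1_c2 LD2_c32 LD3_c53) (LK LD1_c5 LD2_c12 LD3_c4) Lrfl Lrfl
theorem f191166 : Led Lsl_gt (LP (LK LD1_c5 LD2_c12 LD3_c2)) = (LP (LK LD1_c2 LD2_c32 LD3_c53)) :=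
  Lre_g IH (LK LD1_c5 LD2_c12 LD3_c2) (LK LD1_c2 LD2_c32 LD3_c53) Lrfl Lrfl
theorem f212226 : Led Lsl_bt (LP (LK LD1_c5 LD2_c2 LD3_c50)) = (LP (LK LD1_c2 LD2_c28 LD3_c60)) :=
  Lre_b IH (LK LD1_c5 LD2_c2 LD3_c50) (LK LD1_c2 LD2_c28 LD3_c60) Lrfl Lrfl
theorem f185690 : Led Lsl_bt (LP (LK LD1_c1 LD2_c13 LD3_c21)) = (LP (LK LD1_c0 LD2_c33 LD3_c61)) :=
  Lre_b IH (LK LD1_c1 LD2_c13 LD3_c21) (LK LD1_c0 LD2_c33 LD3_c61) Lrfl Lrfl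
theorem f212227 : Led Lsl_ct (LP (LK LD1_c5 LD2_c2 LD3_c50)) = (LP (LK LD1_c5 LD2_c12 LD3_c2)) :=
  Lgr Lrot64 (Lpr_bt (f212226 IH) (Lpe (K12.f169961 IH) (Lpe (K12.f212225 IH) (Lpr_ct (K9.f28374 IH) (Lpe (K12.f212223 IH) (Lpr_cf (K12.f212104 IH) (Lpe (K12.f185578 IH) (Lpe (f185690 IH) (Lpr_ct (f191165 IH) (Lpe (f191166 IH) (Lpn (LP (LK LD1_c5 LD2_c12 LD3_c2)))))))))))))
theorem f191582 : Led Lsl_dt (LP (LK LD1_c9 LD2_c40 LD3_c31)) = (LP (LK LD1_c5 LD2_c18 LD3_c20)) :=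
  Lgr Lrot60 (Lpr_ff (K9.f43511 IH) (Lpe (K9.f43513 IH) (Lpr_ff (K12.f191578 IH) (Lpn (LP (LK LD1_c5 LD2_c18 LD3_c20))))))
theorem f249366 : Led Lsl_gt (LP (LK LD1_c5 LD2_c2 LD3_c50)) = (LP (LK LD1_c4 LD2_c1 LD3_c39)) :=
  Lgr Lrot180 (Lpr_ct (f212227 IH) (Lpr_gt (f191166 IH) (Lpr_dt (f249112 IH) (Lpr_gt (f249356 IH) (Lpr_dt (f191582 IH) (Lpe (f191571 IH) (Lpe (K9.f43387 IH) (Lpr_gf (K10.f192984 IH) (Lpe (K10.f182059 IH) (Lpn (LP (LK LD1_c4 LD2_c1 LD3_c39))))))))))))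
theorem f183941 : Led Lsl_bt (LP (LK LD1_c2 LD2_c33 LD3_c15)) = (LP (LK LD1_c5 LD2_c12 LD3_c38)) :=
  Lre_b IH (LK LD1_c2 LD2_c33 LD3_c15) (LK LD1_c5 LD2_c12 LD3_c38) Lrfl Lrfl
theorem f254461 : Led Lsl_gt (LP (LK LD1_c5 LD2_c12 LD3_c38)) = (LP (LK LD1_c4 LD2_c27 LD3_c8)) :=
  Lgr Lrot82 (Lpe (f183941 IH) (Lpr_ct (K13.f183942 IH) (Lpe (K13.f242299 IH) (Lpe (K13.f33588 IH) (Lpr_bt (f237073 IH) (Lpe (f249366 IH) (Lpe (f212239 IH) (Lpr_ct (K12.f192128 IH) (Lpr_gf (f254459 IH) (Lpe (f46488 IH) (Lpn (LP (LK LD1_c4 LD2_c27 LD3_c8)))))))))))))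
theorem f183949 : Led Lsl_et (LP (LK LD1_c10 LD2_c15 LD3_c39)) = (LP (LK LD1_c5 LD2_c12 LD3_c38)) :=
  Lre_e IH (LK LD1_c10 LD2_c15 LD3_c39) (LK LD1_c5 LD2_c12 LD3_c38) Lrfl Lrfl
theorem f183950 : Led Lsl_dt (LP (LK LD1_c10 LD2_c15 LD3_c39)) = (LP (LK LD1_c5 LD2_c12 LD3_c37)) :=
  Lre_d IH (LK LD1_c10 LD2_c15 LD3_c39) (LK LD1_c5 LD2_c12 LD3_c37) Lrfl Lrfl
theorem f44060 : Led Lsl_ef (LP (LK LD1_c1 LD2_c15 LD3_c5)) = (LP (LK LD1_c2 LD2_c10 LD3_c46)) :=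
  Lgr Lrot29 (Lpr_bt (K1.f44058 IH) (Lpr_et (K1.f44050 IH) (Lpr_bt (K10.f44059 IH) (Lpn (LP (LK LD1_c2 LD2_c10 LD3_c46))))))
theorem f44283 : Led Lsl_et (LP (LK LD1_c5 LD2_c19 LD3_c4)) = (LP (LK LD1_c2 LD2_c36 LD3_c10)) :=
  Lre_e IH (LK LD1_c5 LD2_c19 LD3_c4) (LK LD1_c2 LD2_c36 LD3_c10) Lrfl Lrfl
theorem f254470 : Led Lsl_df (LP (LK LD1_c5 LD2_c22 LD3_c35)) = (LP (LK LD1_c5 LD2_c19 LD3_c4)) :=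
  Lgr Lrot170 (Lpe (f251004 IH) (Lpe (f183950 IH) (Lpr_et (f183949 IH) (Lpr_gt (f254461 IH) (Lpr_dt (f44281 IH) (Lpr_gt (K10.f44244 IH) (Lpe (K1.f44229 IH) (Lpe (f44060 IH) (Lpr_gt (f33116 IH) (Lpe (f44283 IH) (Lpn (LP (LK LD1_c5 LD2_c19 LD3_c4)))))))))))))
theorem f173261 : Led Lsl_gt (LP (LK LD1_c2 LD2_c11 LD3_c25)) = (LP (LK LD1_c1 LD2_c2 LD3_c42)) :=
  Lre_g IH (LK LD1_c2 LD2_c11 LD3_c25) (LK LD1_c1 LD2_c2 LD3_c42) Lrfl Lrfl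
theorem f218483 : Led Lsl_ct (LP (LK LD1_c2 LD2_c37 LD3_c50)) = (LP (LK LD1_c5 LD2_c22 LD3_c34)) :=
  Lre_c IH (LK LD1_c2 LD2_c37 LD3_c50) (LK LD1_c5 LD2_c22 LD3_c34) Lrfl Lrfl
theorem f228735 : Led Lsl_bf (LP (LK LD1_c2 LD2_c11 LD3_c25)) = (LP (LK LD1_c2 LD2_c37 LD3_c50)) :=
  Lgr Lrot156 (Lpr_gt (f173261 IH) (Lpe (K12.f169293 IH) (Lpr_ct (K12.f169280 IH) (Lpr_gt (K12.f179191 IH) (Lpe (K9.f177866 IH) (Lpr_bt (K12.f177928 IH) (Lpr_gt (K12.f228684 IH) (Lpr_ct (K12.f101437 IH) (Lpr_gt (K13.f218392 IH) (Lpe (f218483 IH) (Lpn (LP (LK LD1_c2 LD2_c37 LD3_c50)))))))))))))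
theorem f228746 : Led Lsl_et (LP (LK LD1_c2 LD2_c11 LD3_c25)) = (LP (LK LD1_c4 LD2_c28 LD3_c46)) :=
  Lre_e IH (LK LD1_c2 LD2_c11 LD3_c25) (LK LD1_c4 LD2_c28 LD3_c46) Lrfl Lrfl
theorem f228747 : Led Lsl_bt (LP (LK LD1_c4 LD2_c28 LD3_c46)) = (LP (LK LD1_c5 LD2_c22 LD3_c35)) :=
  Lgr Lrot119 (Lpe (f228746 IH) (Lpr_bf (f228735 IH) (Lpe (f221591 IH) (Lpn (LP (LK LD1_c5 LD2_c22 LD3_c35))))))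
theorem f228749 : Led Lsl_bf (LP (LK LD1_c4 LD2_c28 LD3_c46)) = (LP (LK LD1_c5 LD2_c22 LD3_c35)) :=
  Lgr Lrot24 (Lpr_bt (f228747 IH) (Lpn (LP (LK LD1_c5 LD2_c22 LD3_c35))))
theorem f229951 : Led Lsl_et (LP (LK LD1_c2 LD2_c36 LD3_c10)) = (LP (LK LD1_c5 LD2_c19 LD3_c4)) :=
  Lre_e IH (LK LD1_c2 LD2_c36 LD3_c10) (LK LD1_c5 LD2_c19 LD3_c4) Lrfl Lrfl
theorem f32218 : Led Lsl_et (LP (LK LD1_c5 LD2_c17 LD3_c5)) = (LP (LK LD1_c2 LD2_c35 LD3_c17)) :=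
  Lre_e IH (LK LD1_c5 LD2_c17 LD3_c5) (LK LD1_c2 LD2_c35 LD3_c17) Lrfl Lrfl
theorem f230000 : Led Lsl_bt (LP (LK LD1_c5 LD2_c19 LD3_c4)) = (LP (LK LD1_c5 LD2_c17 LD3_c5)) :=
  Lgr Lrot119 (Lpe (f229951 IH) (Lpr_bf (f229996 IH) (Lpe (f32218 IH) (Lpn (LP (LK LD1_c5 LD2_c17 LD3_c5))))))
theorem f230002 : Led Lsl_bf (LP (LK LD1_c5 LD2_c19 LD3_c4)) = (LP (LK LD1_c5 LD2_c17 LD3_c5)) :=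
  Lgr Lrot24 (Lpr_bt (f230000 IH) (Lpn (LP (LK LD1_c5 LD2_c17 LD3_c5))))
theorem f254474 : Led Lsl_dt (LP (LK LD1_c4 LD2_c28 LD3_c46)) = (LP (LK LD1_c5 LD2_c17 LD3_c5)) :=
  Lgr Lrot79 (Lpr_bf (f228749 IH) (Lpr_df (f254470 IH) (Lpr_bf (f230002 IH) (Lpn (LP (LK LD1_c5 LD2_c17 LD3_c5))))))
theorem f254487 : Led Lsl_df (LP (LK LD1_c4 LD2_c28 LD3_c46)) = (LP (LK LD1_c5 LD2_c17 LD3_c5)) :=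
  Lgr Lrot38 (Lpr_dt (f254474 IH) (Lpn (LP (LK LD1_c5 LD2_c17 LD3_c5))))
theorem f251187 : Led Lsl_et (LP (LK LD1_c1 LD2_c14 LD3_c53)) = (LP (LK LD1_c2 LD2_c35 LD3_c40)) :=
  Lre_e IH (LK LD1_c1 LD2_c14 LD3_c53) (LK LD1_c2 LD2_c35 LD3_c40) Lrfl Lrfl
theorem f251188 : Led Lsl_af (LP (LK LD1_c5 LD2_c17 LD3_c5)) = (LP (LK LD1_c2 LD2_c35 LD3_c40)) :=
  Lgr Lrot50 (Lpr_et (f32218 IH) (Lpr_at (f251181 IH) (Lpr_et (f251187 IH) (Lpn (LP (LK LD1_c2 LD2_c35 LD3_c40))))))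
theorem f220226 : Led Lsl_et (LP (LK LD1_c1 LD2_c17 LD3_c17)) = (LP (LK LD1_c2 LD2_c41 LD3_c13)) :=
  Lre_e IH (LK LD1_c1 LD2_c17 LD3_c17) (LK LD1_c2 LD2_c41 LD3_c13) Lrfl Lrfl
theorem f32191 : Led Lsl_et (LP (LK LD1_c2 LD2_c35 LD3_c40)) = (LP (LK LD1_c1 LD2_c14 LD3_c53)) :=
  Lre_e IH (LK LD1_c2 LD2_c35 LD3_c40) (LK LD1_c1 LD2_c14 LD3_c53) Lrfl Lrfl
theorem f251263 : Led Lsl_dt (LP (LK LD1_c2 LD2_c41 LD3_c13)) = (LP (LK LD1_c2 LD2_c35 LD3_c40)) :=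
  Lgr Lrot77 (Lpe (f220226 IH) (Lpe (K12.f216970 IH) (Lpr_ef (K13.f246232 IH) (Lpr_df (f251205 IH) (Lpe (f32191 IH) (Lpn (LP (LK LD1_c2 LD2_c35 LD3_c40))))))))
theorem f254630 : Led Lsl_at (LP (LK LD1_c4 LD2_c28 LD3_c46)) = (LP (LK LD1_c2 LD2_c41 LD3_c13)) :=
  Lgr Lrot51 (Lpr_df (f254487 IH) (Lpr_af (f251188 IH) (Lpe (f251263 IH) (Lpn (LP (LK LD1_c2 LD2_c41 LD3_c13))))))
theorem f220313 : Led Lsl_et (LP (LK LD1_c2 LD2_c41 LD3_c13)) = (LP (LK LD1_c1 LD2_c17 LD3_c17)) :=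
  Lre_e IH (LK LD1_c2 LD2_c41 LD3_c13) (LK LD1_c1 LD2_c17 LD3_c17) Lrfl Lrfl
theorem f254636 : Led Lsl_af (LP (LK LD1_c2 LD2_c11 LD3_c25)) = (LP (LK LD1_c1 LD2_c17 LD3_c17)) :=
  Lgr Lrot50 (Lpr_et (f228746 IH) (Lpr_at (f254630 IH) (Lpr_et (f220313 IH) (Lpn (LP (LK LD1_c1 LD2_c17 LD3_c17))))))
theorem f228742 : Led Lsl_ct (LP (LK LD1_c2 LD2_c11 LD3_c25)) = (LP (LK LD1_c4 LD2_c28 LD3_c45)) :=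
  Lre_c IH (LK LD1_c2 LD2_c11 LD3_c25) (LK LD1_c4 LD2_c28 LD3_c45) Lrfl Lrfl
theorem f254640 : Led Lsl_at (LP (LK LD1_c4 LD2_c28 LD3_c45)) = (LP (LK LD1_c2 LD2_c41 LD3_c11)) :=
  Lgr Lrot107 (Lpe (f228742 IH) (Lpr_af (f254636 IH) (Lpe (K13.f220215 IH) (Lpn (LP (LK LD1_c2 LD2_c41 LD3_c11))))))
theorem f254648 : Led Lsl_ff (LP (LK LD1_c4 LD2_c28 LD3_c45)) = (LP (LK LD1_c2 LD2_c41 LD3_c14)) :=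
  Lgr Lrot52 (Lpr_at (f254640 IH) (Lpe (K13.f228401 IH) (Lpe (K12.f220606 IH) (Lpn (LP (LK LD1_c2 LD2_c41 LD3_c14))))))
theorem f254658 : Led Lsl_ft (LP (LK LD1_c4 LD2_c28 LD3_c45)) = (LP (LK LD1_c2 LD2_c41 LD3_c14)) :=
  Lgr Lrot48 (Lpr_ff (f254648 IH) (Lpn (LP (LK LD1_c2 LD2_c41 LD3_c14))))
theorem f234326 : Led Lsl_ft (LP (LK LD1_c5 LD2_c30 LD3_c3)) = (LP (LK LD1_c8 LD2_c55 LD3_c58)) :=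
  Lgr Lrot54 (Lpe (K12.f222502 IH) (Lpr_ff (K12.f222480 IH) (Lpr_df (K13.f234318 IH) (Lpn (LP (LK LD1_c8 LD2_c55 LD3_c58))))))
theorem f234745 : Led Lsl_gf (LP (LK LD1_c5 LD2_c30 LD3_c4)) = (LP (LK LD1_c8 LD2_c6 LD3_c5)) :=
  Lgr Lrot76 (Lpr_af (K13.f234738 IH) (Lpe (f234326 IH) (Lpe (K12.f222517 IH) (Lpn (LP (LK LD1_c8 LD2_c6 LD3_c5))))))
theorem f51410 : Led Lsl_ct (LP (LK LD1_c4 LD2_c8 LD3_c18)) = (LP (LK LD1_c2 LD2_c1 LD3_c32)) :=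
  Lre_c IH (LK LD1_c4 LD2_c8 LD3_c18) (LK LD1_c2 LD2_c1 LD3_c32) Lrfl Lrfl
theorem f47723 : Led Lsl_ct (LP (LK LD1_c2 LD2_c2 LD3_c10)) = (LP (LK LD1_c0 LD2_c58 LD3_c0)) :=
  Lre_c IH (LK LD1_c2 LD2_c2 LD3_c10) (LK LD1_c0 LD2_c58 LD3_c0) Lrfl Lrfl
theorem f50144 : Led Lsl_cf (LP (LK LD1_c4 LD2_c9 LD3_c56)) = (LP (LK LD1_c5 LD2_c16 LD3_c59)) :=
  Lgr Lrot55 (Lpr_dt (f50143 IH) (Lpr_ct (f47723 IH) (Lpr_dt (K12.f50142 IH) (Lpr_ct (K12.f28121 IH) (Lpr_dt (K9.f28092 IH) (Lpr_ct (K9.f50135 IH) (Lpr_dt (K9.f50136 IH) (Lpr_ct (K9.f50137 IH) (Lpr_dt (K9.f888 IH) (Lpr_ct (K9.f792 IH) (Lpr_dt (K9.f766 IH) (Lpr_ct (K9.f50138 IH) (Lpr_dt (K9.f32161 IH) (Lpr_ct (K9.f49315 IH) (Lpr_dt (K12.f49328 IH) (Lpn (LP (LK LD1_c5 LD2_c16 LD3_c59))))))))))))))))))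
theorem f49329 : Led Lsl_gt (LP (LK LD1_c10 LD2_c23 LD3_c34)) = (LP (LK LD1_c5 LD2_c16 LD3_c59)) :=
  Lre_g IH (LK LD1_c10 LD2_c23 LD3_c34) (LK LD1_c5 LD2_c16 LD3_c59) Lrfl Lrfl
theorem f222917 : Led Lsl_cf (LP (LK LD1_c10 LD2_c23 LD3_c34)) = (LP (LK LD1_c8 LD2_c16 LD3_c28)) :=
  Lgr Lrot169 (Lpr_gt (f49329 IH) (Lpe (f50144 IH) (Lpe (K12.f50405 IH) (Lpe (K12.f47727 IH) (Lpe (K12.f51409 IH) (Lpe (f51410 IH) (Lpr_gf (f222915 IH) (Lpe (K12.f44942 IH) (Lpe (f222123 IH) (Lpn (LP (LK LD1_c8 LD2_c16 LD3_c28))))))))))))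
theorem f222277 : Led Lsl_ct (LP (LK LD1_c2 LD2_c41 LD3_c17)) = (LP (LK LD1_c2 LD2_c43 LD3_c39)) :=
  Lgr Lrot59 (Lpr_cf (K13.f222244 IH) (Lpn (LP (LK LD1_c2 LD2_c43 LD3_c39))))
theorem f223071 : Led Lsl_dt (LP (LK LD1_c1 LD2_c55 LD3_c58)) = (LP (LK LD1_c3 LD2_c58 LD3_c20)) :=
  Lre_d IH (LK LD1_c1 LD2_c55 LD3_c58) (LK LD1_c3 LD2_c58 LD3_c20) Lrfl Lrfl
theorem f50423 : Led Lsl_ft (LP (LK LD1_c8 LD2_c6 LD3_c29)) = (LP (LK LD1_c4 LD2_c2 LD3_c54)) :=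
  Lre_f IH (LK LD1_c8 LD2_c6 LD3_c29) (LK LD1_c4 LD2_c2 LD3_c54) Lrfl Lrfl
theorem f50424 : Led Lsl_at (LP (LK LD1_c4 LD2_c2 LD3_c54)) = (LP (LK LD1_c5 LD2_c16 LD3_c59)) :=
  Lgr Lrot33 (Lpe (f50423 IH) (Lpr_dt (f50170 IH) (Lpr_ct (K12.f50168 IH) (Lpr_dt (K12.f28091 IH) (Lpr_ct (K12.f28122 IH) (Lpr_dt (K10.f47555 IH) (Lpr_ct (K12.f47727 IH) (Lpr_dt (K12.f50405 IH) (Lpr_ct (K12.f50406 IH) (Lpn (LP (LK LD1_c5 LD2_c16 LD3_c59))))))))))))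
theorem f50444 : Led Lsl_gt (LP (LK LD1_c8 LD2_c6 LD3_c29)) = (LP (LK LD1_c10 LD2_c23 LD3_c34)) :=
  Lgr Lrot5 (Lpr_ft (f50423 IH) (Lpr_at (f50424 IH) (Lpe (f49329 IH) (Lpn (LP (LK LD1_c10 LD2_c23 LD3_c34))))))
theorem f223073 : Led Lsl_df (LP (LK LD1_c7 LD2_c58 LD3_c3)) = (LP (LK LD1_c10 LD2_c23 LD3_c34)) :=
  Lgr Lrot84 (Lpe (K12.f223072 IH) (Lpe (f223071 IH) (Lpr_gf (K12.f223064 IH) (Lpe (K12.f212849 IH) (Lpr_gf (K12.f213032 IH) (Lpr_cf (K12.f216922 IH) (Lpe (K12.f216909 IH) (Lpr_dt (K9.f50136 IH) (Lpr_gt (f50444 IH) (Lpn (LP (LK LD1_c10 LD2_c23 LD3_c34))))))))))))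
theorem f234751 : Led Lsl_gf (LP (LK LD1_c3 LD2_c58 LD3_c20)) = (LP (LK LD1_c2 LD2_c43 LD3_c39)) :=
  Lgr Lrot104 (Lpr_ct (K12.f223072 IH) (Lpr_df (f223073 IH) (Lpr_cf (f222917 IH) (Lpr_gf (f222123 IH) (Lpr_cf (K13.f216980 IH) (Lpr_gf (f234745 IH) (Lpe (K12.f219977 IH) (Lpe (K13.f222554 IH) (Lpr_ct (f222277 IH) (Lpn (LP (LK LD1_c2 LD2_c43 LD3_c39))))))))))))
theorem f234753 : Led Lsl_df (LP (LK LD1_c10 LD2_c23 LD3_c34)) = (LP (LK LD1_c7 LD2_c58 LD3_c3)) :=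
  Lgr Lrot162 (Lpr_cf (f222917 IH) (Lpr_gf (f222123 IH) (Lpr_cf (K13.f216980 IH) (Lpr_gf (f234745 IH) (Lpr_dt (K12.f196393 IH) (Lpe (K13.f222554 IH) (Lpr_ct (f222277 IH) (Lpe (f234751 IH) (Lpr_ct (K12.f223072 IH) (Lpn (LP (LK LD1_c7 LD2_c58 LD3_c3))))))))))))
theorem f222925 : Led Lsl_ct (LP (LK LD1_c10 LD2_c23 LD3_c34)) = (LP (LK LD1_c8 LD2_c16 LD3_c28)) :=
  Lgr Lrot59 (Lpr_cf (f222917 IH) (Lpn (LP (LK LD1_c8 LD2_c16 LD3_c28))))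
theorem f189687 : Led Lsl_ct (LP (LK LD1_c4 LD2_c8 LD3_c10)) = (LP (LK LD1_c8 LD2_c16 LD3_c24)) :=
  Lre_c IH (LK LD1_c4 LD2_c8 LD3_c10) (LK LD1_c8 LD2_c16 LD3_c24) Lrfl Lrfl
theorem f234758 : Led Lsl_dt (LP (LK LD1_c8 LD2_c16 LD3_c24)) = (LP (LK LD1_c10 LD2_c23 LD3_c33)) :=
  Lgr Lrot173 (Lpe (f189687 IH) (Lpe (K12.f51415 IH) (Lpe (K12.f47726 IH) (Lpe (K10.f802 IH) (Lpe (f189101 IH) (Lpe (f222122 IH) (Lpe (f222925 IH) (Lpr_df (f234753 IH) (Lpe (K12.f223072 IH) (Lpe (f223071 IH) (Lpr_cf (K12.f228025 IH) (Lpe (K12.f806 IH) (Lpe (K12.f222250 IH) (Lpe (K12.f222251 IH) (Lpr_cf (K13.f222974 IH) (Lpn (LP (LK LD1_c10 LD2_c23 LD3_c33))))))))))))))))))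
theorem f173256 : Led Lsl_dt (LP (LK LD1_c1 LD2_c2 LD3_c42)) = (LP (LK LD1_c0 LD2_c28 LD3_c35)) :=
  Lre_d IH (LK LD1_c1 LD2_c2 LD3_c42) (LK LD1_c0 LD2_c28 LD3_c35) Lrfl Lrfl
theorem f228781 : Led Lsl_ct (LP (LK LD1_c4 LD2_c28 LD3_c45)) = (LP (LK LD1_c2 LD2_c11 LD3_c25)) :=
  Lre_c IH (LK LD1_c4 LD2_c28 LD3_c45) (LK LD1_c2 LD2_c11 LD3_c25) Lrfl Lrfl
theorem f234774 : Led Lsl_gf (LP (LK LD1_c8 LD2_c16 LD3_c24)) = (LP (LK LD1_c4 LD2_c28 LD3_c45)) :=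
  Lgr Lrot144 (Lpr_dt (f234758 IH) (Lpe (K13.f50499 IH) (Lpr_dt (f50170 IH) (Lpe (K9.f50135 IH) (Lpe (K9.f28092 IH) (Lpe (K12.f182189 IH) (Lpe (f173256 IH) (Lpe (f173261 IH) (Lpe (f228781 IH) (Lpn (LP (LK LD1_c4 LD2_c28 LD3_c45))))))))))))
theorem f250766 : Led Lsl_bf (LP (LK LD1_c2 LD2_c41 LD3_c3)) = (LP (LK LD1_c2 LD2_c6 LD3_c40)) :=
  Lgr Lrot24 (Lpr_bt (f250727 IH) (Lpn (LP (LK LD1_c2 LD2_c6 LD3_c40))))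
theorem f251685 : Led Lsl_df (LP (LK LD1_c4 LD2_c13 LD3_c22)) = (LP (LK LD1_c2 LD2_c41 LD3_c3)) :=
  Lgr Lrot12 (Lpr_bt (f166989 IH) (Lpr_dt (f251683 IH) (Lpe (f250766 IH) (Lpn (LP (LK LD1_c2 LD2_c41 LD3_c3))))))
theorem f216936 : Led Lsl_cf (LP (LK LD1_c2 LD2_c42 LD3_c19)) = (LP (LK LD1_c4 LD2_c7 LD3_c29)) :=
  Lgr Lrot11 (Lpr_ct (K12.f216933 IH) (Lpn (LP (LK LD1_c4 LD2_c7 LD3_c29))))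
theorem f212774 : Led Lsl_dt (LP (LK LD1_c2 LD2_c41 LD3_c2)) = (LP (LK LD1_c1 LD2_c17 LD3_c14)) :=
  Lre_d IH (LK LD1_c2 LD2_c41 LD3_c2) (LK LD1_c1 LD2_c17 LD3_c14) Lrfl Lrfl
theorem f222510 : Led Lsl_cf (LP (LK LD1_c10 LD2_c50 LD3_c19)) = (LP (LK LD1_c5 LD2_c30 LD3_c3)) :=
  Lgr Lrot55 (Lpr_dt (K13.f213052 IH) (Lpr_ct (K12.f213051 IH) (Lpr_dt (f212774 IH) (Lpr_ct (K12.f212773 IH) (Lpr_dt (K13.f212851 IH) (Lpr_ct (K12.f213041 IH) (Lpr_dt (K12.f216964 IH) (Lpe (K13.f216980 IH) (Lpr_dt (K12.f44942 IH) (Lpr_ct (K12.f44941 IH) (Lpr_dt (K10.f44922 IH) (Lpe (K10.f44933 IH) (Lpr_dt (K9.f44940 IH) (Lpe (f216936 IH) (Lpr_dt (K12.f222502 IH) (Lpn (LP (LK LD1_c5 LD2_c30 LD3_c3))))))))))))))))))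
theorem f175175 : Led Lsl_gt (LP (LK LD1_c1 LD2_c17 LD3_c19)) = (LP (LK LD1_c2 LD2_c41 LD3_c16)) :=
  Lre_g IH (LK LD1_c1 LD2_c17 LD3_c19) (LK LD1_c2 LD2_c41 LD3_c16) Lrfl Lrfl
theorem f220578 : Led Lsl_ct (LP (LK LD1_c2 LD2_c41 LD3_c16)) = (LP (LK LD1_c5 LD2_c29 LD3_c54)) :=
  Lre_c IH (LK LD1_c2 LD2_c41 LD3_c16) (LK LD1_c5 LD2_c29 LD3_c54) Lrfl Lrfl
theorem f234776 : Led Lsl_gf (LP (LK LD1_c4 LD2_c8 LD3_c10)) = (LP (LK LD1_c5 LD2_c29 LD3_c54)) :=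
  Lgr Lrot172 (Lpr_ct (f189687 IH) (Lpr_dt (f234758 IH) (Lpe (K13.f222980 IH) (Lpe (K12.f222252 IH) (Lpr_cf (f222510 IH) (Lpe (K12.f217004 IH) (Lpr_dt (K12.f216962 IH) (Lpr_gt (f175175 IH) (Lpr_ct (f220578 IH) (Lpn (LP (LK LD1_c5 LD2_c29 LD3_c54))))))))))))
theorem f234780 : Led Lsl_gf (LP (LK LD1_c4 LD2_c2 LD3_c45)) = (LP (LK LD1_c2 LD2_c41 LD3_c16)) :=
  Lgr Lrot144 (Lpr_dt (K12.f219977 IH) (Lpe (f234745 IH) (Lpe (K13.f216974 IH) (Lpe (K12.f213041 IH) (Lpe (K13.f212851 IH) (Lpr_gf (K12.f222242 IH) (Lpe (K12.f51417 IH) (Lpr_gf (f234776 IH) (Lpe (f220578 IH) (Lpn (LP (LK LD1_c2 LD2_c41 LD3_c16))))))))))))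
theorem f196394 : Led Lsl_ct (LP (LK LD1_c4 LD2_c2 LD3_c45)) = (LP (LK LD1_c1 LD2_c58 LD3_c24)) :=
  Lre_c IH (LK LD1_c4 LD2_c2 LD3_c45) (LK LD1_c1 LD2_c58 LD3_c24) Lrfl Lrfl
theorem f223069 : Led Lsl_gt (LP (LK LD1_c1 LD2_c55 LD3_c58)) = (LP (LK LD1_c2 LD2_c1 LD3_c5)) :=
  Lgr Lrot46 (Lpr_gf (K12.f223064 IH) (Lpe (K12.f212855 IH) (Lpe (K9.f53608 IH) (Lpn (LP (LK LD1_c2 LD2_c1 LD3_c5))))))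
theorem f179129 : Led Lsl_ct (LP (LK LD1_c5 LD2_c29 LD3_c54)) = (LP (LK LD1_c2 LD2_c41 LD3_c16)) :=
  Lre_c IH (LK LD1_c5 LD2_c29 LD3_c54) (LK LD1_c2 LD2_c41 LD3_c16) Lrfl Lrfl
theorem f234799 : Led Lsl_gt (LP (LK LD1_c3 LD2_c58 LD3_c20)) = (LP (LK LD1_c5 LD2_c29 LD3_c54)) :=
  Lgr Lrot9 (Lpe (f223071 IH) (Lpr_gt (f223069 IH) (Lpr_ct (K10.f44938 IH) (Lpr_gt (K12.f219945 IH) (Lpr_ct (K12.f219930 IH) (Lpe (K13.f51400 IH) (Lpe (f196394 IH) (Lpr_gf (f234780 IH) (Lpe (f179129 IH) (Lpn (LP (LK LD1_c5 LD2_c29 LD3_c54))))))))))))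
theorem f251727 : Led Lsl_dt (LP (LK LD1_c5 LD2_c29 LD3_c54)) = (LP (LK LD1_c8 LD2_c18 LD3_c52)) :=
  Lgr Lrot105 (Lpe (f234799 IH) (Lpe (f223071 IH) (Lpr_gf (K12.f223064 IH) (Lpe (K12.f212773 IH) (Lpr_gt (K12.f168537 IH) (Lpr_dt (K12.f168526 IH) (Lpr_gt (f168370 IH) (Lpe (f251685 IH) (Lpr_cf (f251723 IH) (Lpn (LP (LK LD1_c8 LD2_c18 LD3_c52))))))))))))
theorem f251748 : Led Lsl_gf (LP (LK LD1_c4 LD2_c28 LD3_c43)) = (LP (LK LD1_c8 LD2_c16 LD3_c24)) :=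
  Lgr Lrot104 (Lpr_ct (K12.f179290 IH) (Lpe (K13.f197515 IH) (Lpr_cf (f197623 IH) (Lpe (f246283 IH) (Lpe (f222908 IH) (Lpr_gf (f251746 IH) (Lpe (f251727 IH) (Lpe (f234776 IH) (Lpr_ct (f189687 IH) (Lpn (LP (LK LD1_c8 LD2_c16 LD3_c24))))))))))))
theorem f254665 : Led Lsl_af (LP (LK LD1_c4 LD2_c28 LD3_c43)) = (LP (LK LD1_c2 LD2_c41 LD3_c14)) :=
  Lgr Lrot31 (Lpr_gf (f251748 IH) (Lpr_gf (f234774 IH) (Lpr_ft (f254658 IH) (Lpn (LP (LK LD1_c2 LD2_c41 LD3_c14))))))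
theorem f254642 : Led Lsl_af (LP (LK LD1_c4 LD2_c28 LD3_c45)) = (LP (LK LD1_c2 LD2_c41 LD3_c11)) :=
  Lgr Lrot0 (Lpr_at (f254640 IH) (Lpn (LP (LK LD1_c2 LD2_c41 LD3_c11))))
theorem f254679 : Led Lsl_ft (LP (LK LD1_c4 LD2_c28 LD3_c43)) = (LP (LK LD1_c2 LD2_c41 LD3_c11)) :=
  Lgr Lrot101 (Lpr_af (f254665 IH) (Lpe (f254658 IH) (Lpr_af (f254642 IH) (Lpn (LP (LK LD1_c2 LD2_c41 LD3_c11))))))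
theorem f250661 : Led Lsl_dt (LP (LK LD1_c4 LD2_c8 LD3_c12)) = (LP (LK LD1_c4 LD2_c9 LD3_c23)) :=
  Lgr Lrot77 (Lpr_ef (f250656 IH) (Lpr_df (f236166 IH) (Lpe (f231676 IH) (Lpe (K13.f236130 IH) (Lpr_ef (f245026 IH) (Lpn (LP (LK LD1_c4 LD2_c9 LD3_c23))))))))
theorem f254690 : Led Lsl_dt (LP (LK LD1_c2 LD2_c5 LD3_c25)) = (LP (LK LD1_c2 LD2_c11 LD3_c25)) :=
  Lgr Lrot120 (Lpr_cf (K13.f236381 IH) (Lpe (f250661 IH) (Lpe (f222955 IH) (Lpr_df (f250675 IH) (Lpr_cf (f250856 IH) (Lpe (f197591 IH) (Lpr_ft (f254679 IH) (Lpe (f254642 IH) (Lpe (f228742 IH) (Lpn (LP (LK LD1_c2 LD2_c11 LD3_c25))))))))))))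
theorem f197582 : Led Lsl_et (LP (LK LD1_c4 LD2_c28 LD3_c46)) = (LP (LK LD1_c2 LD2_c11 LD3_c25)) :=
  Lre_e IH (LK LD1_c4 LD2_c28 LD3_c46) (LK LD1_c2 LD2_c11 LD3_c25) Lrfl Lrfl
theorem f28093 : Led Lsl_et (LP (LK LD1_c1 LD2_c58 LD3_c28)) = (LP (LK LD1_c4 LD2_c2 LD3_c56)) :=
  Lre_e IH (LK LD1_c1 LD2_c58 LD3_c28) (LK LD1_c4 LD2_c2 LD3_c56) Lrfl Lrfl
theorem f28095 : Led Lsl_gt (LP (LK LD1_c4 LD2_c2 LD3_c56)) = (LP (LK LD1_c8 LD2_c6 LD3_c31)) :=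
  Lre_g IH (LK LD1_c4 LD2_c2 LD3_c56) (LK LD1_c8 LD2_c6 LD3_c31) Lrfl Lrfl
theorem f51382 : Led Lsl_et (LP (LK LD1_c15 LD2_c16 LD3_c5)) = (LP (LK LD1_c8 LD2_c6 LD3_c31)) :=
  Lre_e IH (LK LD1_c15 LD2_c16 LD3_c5) (LK LD1_c8 LD2_c6 LD3_c31) Lrfl Lrfl
theorem f230007 : Led Lsl_gt (LP (LK LD1_c10 LD2_c23 LD3_c47)) = (LP (LK LD1_c5 LD2_c17 LD3_c5)) :=
  Lre_g IH (LK LD1_c10 LD2_c23 LD3_c47) (LK LD1_c5 LD2_c17 LD3_c5) Lrfl Lrfl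
theorem f254489 : Led Lsl_dt (LP (LK LD1_c15 LD2_c16 LD3_c5)) = (LP (LK LD1_c10 LD2_c23 LD3_c47)) :=
  Lgr Lrot136 (Lpr_et (f51382 IH) (Lpe (f28095 IH) (Lpe (f28093 IH) (Lpr_dt (K12.f28091 IH) (Lpe (K12.f182189 IH) (Lpe (f173256 IH) (Lpe (f173261 IH) (Lpe (f197582 IH) (Lpr_dt (f254474 IH) (Lpe (f230007 IH) (Lpn (LP (LK LD1_c10 LD2_c23 LD3_c47)))))))))))))
theorem f191332 : Led Lsl_et (LP (LK LD1_c8 LD2_c6 LD3_c31)) = (LP (LK LD1_c15 LD2_c16 LD3_c5)) :=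
  Lre_e IH (LK LD1_c8 LD2_c6 LD3_c31) (LK LD1_c15 LD2_c16 LD3_c5) Lrfl Lrfl
theorem f28103 : Led Lsl_dt (LP (LK LD1_c15 LD2_c16 LD3_c4)) = (LP (LK LD1_c8 LD2_c6 LD3_c31)) :=
  Lre_d IH (LK LD1_c15 LD2_c16 LD3_c4) (LK LD1_c8 LD2_c6 LD3_c31) Lrfl Lrfl
theorem f49422 : Led Lsl_et (LP (LK LD1_c4 LD2_c8 LD3_c7)) = (LP (LK LD1_c2 LD2_c1 LD3_c25)) :=
  Lre_e IH (LK LD1_c4 LD2_c8 LD3_c7) (LK LD1_c2 LD2_c1 LD3_c25) Lrfl Lrfl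
theorem f51378 : Led Lsl_gt (LP (LK LD1_c8 LD2_c6 LD3_c31)) = (LP (LK LD1_c4 LD2_c8 LD3_c7)) :=
  Lgr Lrot46 (Lpe (f28095 IH) (Lpr_ft (K12.f50224 IH) (Lpr_at (K9.f49771 IH) (Lpn (LP (LK LD1_c4 LD2_c8 LD3_c7))))))
theorem f175058 : Led Lsl_gt (LP (LK LD1_c0 LD2_c35 LD3_c35)) = (LP (LK LD1_c1 LD2_c16 LD3_c55)) :=
  Lre_g IH (LK LD1_c0 LD2_c35 LD3_c35) (LK LD1_c1 LD2_c16 LD3_c55) Lrfl Lrfl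
theorem f191318 : Led Lsl_dt (LP (LK LD1_c2 LD2_c40 LD3_c25)) = (LP (LK LD1_c1 LD2_c16 LD3_c55)) :=
  Lre_d IH (LK LD1_c2 LD2_c40 LD3_c25) (LK LD1_c1 LD2_c16 LD3_c55) Lrfl Lrfl
theorem f191319 : Led Lsl_et (LP (LK LD1_c2 LD2_c40 LD3_c25)) = (LP (LK LD1_c5 LD2_c28 LD3_c13)) :=
  Lre_e IH (LK LD1_c2 LD2_c40 LD3_c25) (LK LD1_c5 LD2_c28 LD3_c13) Lrfl Lrfl
theorem f191320 : Led Lsl_gt (LP (LK LD1_c5 LD2_c28 LD3_c13)) = (LP (LK LD1_c10 LD2_c47 LD3_c39)) :=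
  Lre_g IH (LK LD1_c5 LD2_c28 LD3_c13) (LK LD1_c10 LD2_c47 LD3_c39) Lrfl Lrfl
theorem f191321 : Led Lsl_et (LP (LK LD1_c15 LD2_c16 LD3_c4)) = (LP (LK LD1_c10 LD2_c47 LD3_c39)) :=
  Lgr Lrot122 (Lpr_dt (f28103 IH) (Lpr_gt (f51378 IH) (Lpr_df (K9.f50089 IH) (Lpr_et (f49422 IH) (Lpr_gt (K10.f191183 IH) (Lpe (K10.f8419 IH) (Lpr_gt (f175058 IH) (Lpe (f191318 IH) (Lpr_et (f191319 IH) (Lpr_gt (f191320 IH) (Lpn (LP (LK LD1_c10 LD2_c47 LD3_c39)))))))))))))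
theorem f191327 : Led Lsl_ef (LP (LK LD1_c15 LD2_c16 LD3_c4)) = (LP (LK LD1_c10 LD2_c47 LD3_c39)) :=
  Lgr Lrot88 (Lpr_et (f191321 IH) (Lpn (LP (LK LD1_c10 LD2_c47 LD3_c39))))
theorem f254493 : Led Lsl_et (LP (LK LD1_c10 LD2_c23 LD3_c47)) = (LP (LK LD1_c18 LD2_c51 LD3_c46)) :=
  Lre_e IH (LK LD1_c10 LD2_c23 LD3_c47) (LK LD1_c18 LD2_c51 LD3_c46) Lrfl Lrfl
theorem f254494 : Led Lsl_df (LP (LK LD1_c10 LD2_c47 LD3_c39)) = (LP (LK LD1_c18 LD2_c51 LD3_c46)) :=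
  Lgr Lrot70 (Lpe (f191327 IH) (Lpr_dt (f28103 IH) (Lpr_et (f191332 IH) (Lpr_dt (f254489 IH) (Lpr_et (f254493 IH) (Lpn (LP (LK LD1_c18 LD2_c51 LD3_c46))))))))
theorem f252577 : Led Lsl_et (LP (LK LD1_c5 LD2_c28 LD3_c13)) = (LP (LK LD1_c2 LD2_c40 LD3_c25)) :=
  Lre_e IH (LK LD1_c5 LD2_c28 LD3_c13) (LK LD1_c2 LD2_c40 LD3_c25) Lrfl Lrfl
theorem f48937 : Led Lsl_et (LP (LK LD1_c2 LD2_c34 LD3_c23)) = (LP (LK LD1_c5 LD2_c15 LD3_c3)) :=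
  Lre_e IH (LK LD1_c2 LD2_c34 LD3_c23) (LK LD1_c5 LD2_c15 LD3_c3) Lrfl Lrfl
theorem f252578 : Led Lsl_df (LP (LK LD1_c5 LD2_c28 LD3_c13)) = (LP (LK LD1_c5 LD2_c15 LD3_c3)) :=
  Lgr Lrot70 (Lpr_et (f252577 IH) (Lpr_dt (f191318 IH) (Lpr_et (f252570 IH) (Lpr_dt (f32883 IH) (Lpr_et (f48937 IH) (Lpn (LP (LK LD1_c5 LD2_c15 LD3_c3))))))))
theorem f252563 : Led Lsl_et (LP (LK LD1_c5 LD2_c15 LD3_c3)) = (LP (LK LD1_c2 LD2_c34 LD3_c23)) :=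
  Lre_e IH (LK LD1_c5 LD2_c15 LD3_c3) (LK LD1_c2 LD2_c34 LD3_c23) Lrfl Lrfl
theorem f185681 : Led Lsl_et (LP (LK LD1_c5 LD2_c12 LD3_c10)) = (LP (LK LD1_c2 LD2_c32 LD3_c55)) :=
  Lre_e IH (LK LD1_c5 LD2_c12 LD3_c10) (LK LD1_c2 LD2_c32 LD3_c55) Lrfl Lrfl
theorem f254498 : Led Lsl_et (LP (LK LD1_c18 LD2_c51 LD3_c46)) = (LP (LK LD1_c10 LD2_c23 LD3_c47)) :=
  Lre_e IH (LK LD1_c18 LD2_c51 LD3_c46) (LK LD1_c10 LD2_c23 LD3_c47) Lrfl Lrfl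
theorem f254499 : Led Lsl_gf (LP (LK LD1_c2 LD2_c39 LD3_c32)) = (LP (LK LD1_c4 LD2_c28 LD3_c46)) :=
  Lgr Lrot134 (Lpe (K12.f185661 IH) (Lpr_et (f185681 IH) (Lpr_gt (f252553 IH) (Lpe (f252563 IH) (Lpe (f252578 IH) (Lpr_gt (f191320 IH) (Lpr_df (f254494 IH) (Lpr_et (f254498 IH) (Lpr_gt (f230007 IH) (Lpe (f254487 IH) (Lpn (LP (LK LD1_c4 LD2_c28 LD3_c46)))))))))))))
theorem f185689 : Led Lsl_et (LP (LK LD1_c1 LD2_c16 LD3_c31)) = (LP (LK LD1_c2 LD2_c39 LD3_c32)) :=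
  Lre_e IH (LK LD1_c1 LD2_c16 LD3_c31) (LK LD1_c2 LD2_c39 LD3_c32) Lrfl Lrfl
theorem f50396 : Led Lsl_dt (LP (LK LD1_c1 LD2_c58 LD3_c26)) = (LP (LK LD1_c4 LD2_c2 LD3_c49)) :=
  Lre_d IH (LK LD1_c1 LD2_c58 LD3_c26) (LK LD1_c4 LD2_c2 LD3_c49) Lrfl Lrfl
theorem f230407 : Led Lsl_bt (LP (LK LD1_c2 LD2_c5 LD3_c25)) = (LP (LK LD1_c4 LD2_c15 LD3_c56)) :=
  Lre_b IH (LK LD1_c2 LD2_c5 LD3_c25) (LK LD1_c4 LD2_c15 LD3_c56) Lrfl Lrfl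
theorem f246307 : Led Lsl_dt (LP (LK LD1_c2 LD2_c11 LD3_c25)) = (LP (LK LD1_c2 LD2_c5 LD3_c25)) :=
  Lgr Lrot79 (Lpr_bf (f228735 IH) (Lpr_df (K13.f246303 IH) (Lpe (f230407 IH) (Lpn (LP (LK LD1_c2 LD2_c5 LD3_c25))))))
theorem f254504 : Led Lsl_gt (LP (LK LD1_c4 LD2_c2 LD3_c49)) = (LP (LK LD1_c2 LD2_c5 LD3_c25)) :=
  Lgr Lrot139 (Lpe (f50396 IH) (Lpe (K12.f33099 IH) (Lpr_ef (K9.f50386 IH) (Lpr_dt (K9.f49593 IH) (Lpe (K10.f191145 IH) (Lpe (K12.f185670 IH) (Lpr_et (f185689 IH) (Lpr_gf (f254499 IH) (Lpe (f228746 IH) (Lpr_dt (f246307 IH) (Lpn (LP (LK LD1_c2 LD2_c5 LD3_c25)))))))))))))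
theorem f228791 : Led Lsl_dt (LP (LK LD1_c8 LD2_c55 LD3_c48)) = (LP (LK LD1_c4 LD2_c28 LD3_c45)) :=
  Lre_d IH (LK LD1_c8 LD2_c55 LD3_c48) (LK LD1_c4 LD2_c28 LD3_c45) Lrfl Lrfl
theorem f254692 : Led Lsl_gt (LP (LK LD1_c8 LD2_c6 LD3_c15)) = (LP (LK LD1_c8 LD2_c55 LD3_c48)) :=
  Lgr Lrot49 (Lpe (f50201 IH) (Lpe (K13.f50200 IH) (Lpe (K12.f50160 IH) (Lpr_gt (K12.f33099 IH) (Lpr_dt (f50396 IH) (Lpr_gt (f254504 IH) (Lpr_dt (f254690 IH) (Lpe (f228781 IH) (Lpe (f228791 IH) (Lpn (LP (LK LD1_c8 LD2_c55 LD3_c48))))))))))))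
theorem f213056 : Led Lsl_dt (LP (LK LD1_c1 LD2_c17 LD3_c46)) = (LP (LK LD1_c2 LD2_c42 LD3_c22)) :=
  Lre_d IH (LK LD1_c1 LD2_c17 LD3_c46) (LK LD1_c2 LD2_c42 LD3_c22) Lrfl Lrfl
theorem f234749 : Led Lsl_cf (LP (LK LD1_c2 LD2_c42 LD3_c22)) = (LP (LK LD1_c4 LD2_c9 LD3_c42)) :=
  Lgr Lrot14 (Lpe (f213056 IH) (Lpe (K12.f196395 IH) (Lpr_df (K13.f216974 IH) (Lpr_gf (f234745 IH) (Lpe (K12.f222519 IH) (Lpr_gt (K12.f1043 IH) (Lpr_dt (K13.f1005 IH) (Lpr_gt (f1312 IH) (Lpr_dt (f1313 IH) (Lpn (LP (LK LD1_c4 LD2_c9 LD3_c42))))))))))))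
theorem f234891 : Led Lsl_gt (LP (LK LD1_c8 LD2_c19 LD3_c28)) = (LP (LK LD1_c4 LD2_c9 LD3_c42)) :=
  Lre_g IH (LK LD1_c8 LD2_c19 LD3_c28) (LK LD1_c4 LD2_c9 LD3_c42) Lrfl Lrfl
theorem f254698 : Led Lsl_cf (LP (LK LD1_c8 LD2_c19 LD3_c28)) = (LP (LK LD1_c8 LD2_c55 LD3_c48)) :=
  Lgr Lrot169 (Lpr_gt (f234891 IH) (Lpe (f234749 IH) (Lpe (f213056 IH) (Lpe (K12.f168083 IH) (Lpr_gf (K12.f216940 IH) (Lpe (K12.f216848 IH) (Lpr_gf (K13.f216876 IH) (Lpe (f216878 IH) (Lpr_gt (f254692 IH) (Lpn (LP (LK LD1_c8 LD2_c55 LD3_c48))))))))))))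
theorem f234840 : Led Lsl_dt (LP (LK LD1_c4 LD2_c28 LD3_c45)) = (LP (LK LD1_c8 LD2_c55 LD3_c48)) :=
  Lre_d IH (LK LD1_c4 LD2_c28 LD3_c45) (LK LD1_c8 LD2_c55 LD3_c48) Lrfl Lrfl
theorem f251775 : Led Lsl_gf (LP (LK LD1_c4 LD2_c28 LD3_c45)) = (LP (LK LD1_c7 LD2_c58 LD3_c3)) :=
  Lgr Lrot172 (Lpr_ct (f228781 IH) (Lpr_dt (f246307 IH) (Lpr_cf (K13.f236381 IH) (Lpe (K13.f1406 IH) (Lpe (f190823 IH) (Lpr_gf (f251756 IH) (Lpe (K13.f189429 IH) (Lpe (f234751 IH) (Lpr_ct (K12.f223072 IH) (Lpn (LP (LK LD1_c7 LD2_c58 LD3_c3))))))))))))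
theorem f50415 : Led Lsl_ct (LP (LK LD1_c4 LD2_c8 LD3_c25)) = (LP (LK LD1_c8 LD2_c6 LD3_c29)) :=
  Lre_c IH (LK LD1_c4 LD2_c8 LD3_c25) (LK LD1_c8 LD2_c6 LD3_c29) Lrfl Lrfl
theorem f895 : Led Lsl_gt (LP (LK LD1_c4 LD2_c8 LD3_c25)) = (LP (LK LD1_c8 LD2_c16 LD3_c59)) :=
  Lre_g IH (LK LD1_c4 LD2_c8 LD3_c25) (LK LD1_c8 LD2_c16 LD3_c59) Lrfl Lrfl
theorem f250717 : Led Lsl_dt (LP (LK LD1_c8 LD2_c16 LD3_c59)) = (LP (LK LD1_c4 LD2_c22 LD3_c18)) :=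
  Lgr Lrot42 (Lpr_df (f250709 IH) (Lpn (LP (LK LD1_c4 LD2_c22 LD3_c18))))
theorem f254716 : Led Lsl_df (LP (LK LD1_c8 LD2_c19 LD3_c28)) = (LP (LK LD1_c4 LD2_c16 LD3_c61)) :=
  Lgr Lrot84 (Lpr_cf (f254698 IH) (Lpe (f234840 IH) (Lpr_gf (f251775 IH) (Lpr_df (f223073 IH) (Lpe (f50444 IH) (Lpe (f50415 IH) (Lpr_gt (f895 IH) (Lpr_dt (f250717 IH) (Lpr_gt (f232279 IH) (Lpn (LP (LK LD1_c4 LD2_c16 LD3_c61))))))))))))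
theorem f212500 : Led Lsl_gt (LP (LK LD1_c2 LD2_c35 LD3_c21)) = (LP (LK LD1_c2 LD2_c24 LD3_c17)) :=
  Lgr Lrot9 (Lpe (K10.f32931 IH) (Lpr_gt (K12.f212495 IH) (Lpe (K12.f173215 IH) (Lpr_gt (K12.f182189 IH) (Lpr_ct (K12.f28122 IH) (Lpe (K12.f50142 IH) (Lpe (f47723 IH) (Lpe (K13.f50428 IH) (Lpr_cf (K13.f170332 IH) (Lpn (LP (LK LD1_c2 LD2_c24 LD3_c17))))))))))))
theorem f222816 : Led Lsl_gt (LP (LK LD1_c4 LD2_c9 LD3_c21)) = (LP (LK LD1_c8 LD2_c18 LD3_c45)) :=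
  Lre_g IH (LK LD1_c4 LD2_c9 LD3_c21) (LK LD1_c8 LD2_c18 LD3_c45) Lrfl Lrfl
theorem f251721 : Led Lsl_dt (LP (LK LD1_c8 LD2_c18 LD3_c45)) = (LP (LK LD1_c5 LD2_c29 LD3_c33)) :=
  Lgr Lrot105 (Lpe (f222816 IH) (Lpe (f190855 IH) (Lpe (K12.f222743 IH) (Lpr_cf (K12.f222805 IH) (Lpr_gt (f212500 IH) (Lpe (f200401 IH) (Lpe (f251719 IH) (Lpr_dt (f251717 IH) (Lpe (f216857 IH) (Lpn (LP (LK LD1_c5 LD2_c29 LD3_c33))))))))))))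
theorem f254718 : Led Lsl_gt (LP (LK LD1_c8 LD2_c18 LD3_c45)) = (LP (LK LD1_c4 LD2_c9 LD3_c33)) :=
  Lgr Lrot146 (Lpr_dt (f251721 IH) (Lpe (f213769 IH) (Lpr_ct (f189101 IH) (Lpe (K12.f189099 IH) (Lpr_ct (f167654 IH) (Lpe (f254716 IH) (Lpr_cf (f254698 IH) (Lpe (f254692 IH) (Lpe (f234360 IH) (Lpn (LP (LK LD1_c4 LD2_c9 LD3_c33))))))))))))
theorem f222788 : Led Lsl_dt (LP (LK LD1_c4 LD2_c9 LD3_c33)) = (LP (LK LD1_c2 LD2_c2 LD3_c3)) :=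
  Lre_d IH (LK LD1_c4 LD2_c9 LD3_c33) (LK LD1_c2 LD2_c2 LD3_c3) Lrfl Lrfl
theorem f254721 : Led Lsl_df (LP (LK LD1_c8 LD2_c18 LD3_c45)) = (LP (LK LD1_c5 LD2_c29 LD3_c33)) :=
  Lgr Lrot153 (Lpr_gt (f254718 IH) (Lpr_dt (f222788 IH) (Lpe (K12.f53416 IH) (Lpe (K13.f51459 IH) (Lpr_gf (K13.f246281 IH) (Lpe (f250661 IH) (Lpr_gf (f250685 IH) (Lpe (K12.f222250 IH) (Lpe (f234675 IH) (Lpn (LP (LK LD1_c5 LD2_c29 LD3_c33))))))))))))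
theorem f222279 : Led Lsl_dt (LP (LK LD1_c2 LD2_c41 LD3_c17)) = (LP (LK LD1_c5 LD2_c29 LD3_c58)) :=
  Lre_d IH (LK LD1_c2 LD2_c41 LD3_c17) (LK LD1_c5 LD2_c29 LD3_c58) Lrfl Lrfl
theorem f254748 : Led Lsl_cf (LP (LK LD1_c8 LD2_c18 LD3_c45)) = (LP (LK LD1_c5 LD2_c29 LD3_c58)) :=
  Lgr Lrot14 (Lpr_df (f254721 IH) (Lpr_gf (f234675 IH) (Lpe (K12.f222251 IH) (Lpe (K12.f222252 IH) (Lpr_ct (f222500 IH) (Lpe (K12.f222517 IH) (Lpr_dt (K12.f196393 IH) (Lpe (K13.f222554 IH) (Lpr_dt (f222279 IH) (Lpn (LP (LK LD1_c5 LD2_c29 LD3_c58))))))))))))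
theorem f40801 : Led Lsl_dt (LP (LK LD1_c4 LD2_c29 LD3_c27)) = (LP (LK LD1_c2 LD2_c11 LD3_c48)) :=
  Lre_d IH (LK LD1_c4 LD2_c29 LD3_c27) (LK LD1_c2 LD2_c11 LD3_c48) Lrfl Lrfl
theorem f254757 : Led Lsl_gf (LP (LK LD1_c4 LD2_c29 LD3_c27)) = (LP (LK LD1_c5 LD2_c29 LD3_c58)) :=
  Lgr Lrot144 (Lpr_dt (f40801 IH) (Lpr_gt (K12.f218729 IH) (Lpr_dt (K13.f234323 IH) (Lpe (K13.f234328 IH) (Lpe (K12.f222744 IH) (Lpr_gf (K12.f222786 IH) (Lpe (f222788 IH) (Lpe (f254718 IH) (Lpr_cf (f254748 IH) (Lpn (LP (LK LD1_c5 LD2_c29 LD3_c58))))))))))))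
theorem f220322 : Led Lsl_dt (LP (LK LD1_c5 LD2_c29 LD3_c46)) = (LP (LK LD1_c2 LD2_c41 LD3_c11)) :=
  Lre_d IH (LK LD1_c5 LD2_c29 LD3_c46) (LK LD1_c2 LD2_c41 LD3_c11) Lrfl Lrfl
theorem f254759 : Led Lsl_ct (LP (LK LD1_c4 LD2_c29 LD3_c27)) = (LP (LK LD1_c8 LD2_c16 LD3_c52)) :=
  Lgr Lrot152 (Lpr_gf (f254757 IH) (Lpe (f222279 IH) (Lpr_gt (K13.f217005 IH) (Lpr_ct (K12.f216961 IH) (Lpr_gt (K12.f175246 IH) (Lpr_ct (K13.f220213 IH) (Lpe (f220322 IH) (Lpr_cf (f233925 IH) (Lpe (f234189 IH) (Lpn (LP (LK LD1_c8 LD2_c16 LD3_c52))))))))))))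
theorem f234798 : Led Lsl_dt (LP (LK LD1_c5 LD2_c29 LD3_c55)) = (LP (LK LD1_c2 LD2_c41 LD3_c16)) :=
  Lre_d IH (LK LD1_c5 LD2_c29 LD3_c55) (LK LD1_c2 LD2_c41 LD3_c16) Lrfl Lrfl
theorem f254770 : Led Lsl_gt (LP (LK LD1_c4 LD2_c29 LD3_c27)) = (LP (LK LD1_c5 LD2_c29 LD3_c55)) :=
  Lgr Lrot180 (Lpr_ct (f254759 IH) (Lpr_gt (f234189 IH) (Lpr_dt (f216853 IH) (Lpe (K13.f216850 IH) (Lpe (f222674 IH) (Lpr_ct (K13.f222529 IH) (Lpe (K12.f219977 IH) (Lpr_gf (f234780 IH) (Lpe (f234798 IH) (Lpn (LP (LK LD1_c5 LD2_c29 LD3_c55))))))))))))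
theorem f254768 : Led Lsl_cf (LP (LK LD1_c4 LD2_c29 LD3_c27)) = (LP (LK LD1_c8 LD2_c16 LD3_c52)) :=
  Lgr Lrot11 (Lpr_ct (f254759 IH) (Lpn (LP (LK LD1_c8 LD2_c16 LD3_c52))))
theorem f250677 : Led Lsl_df (LP (LK LD1_c5 LD2_c29 LD3_c54)) = (LP (LK LD1_c8 LD2_c18 LD3_c52)) :=
  Lgr Lrot153 (Lpe (f234776 IH) (Lpr_dt (K12.f51417 IH) (Lpe (K12.f47726 IH) (Lpe (K10.f802 IH) (Lpe (f47674 IH) (Lpr_df (f250667 IH) (Lpe (K13.f1406 IH) (Lpe (f190823 IH) (Lpr_gt (f190858 IH) (Lpn (LP (LK LD1_c8 LD2_c18 LD3_c52))))))))))))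
theorem f175176 : Led Lsl_dt (LP (LK LD1_c2 LD2_c41 LD3_c16)) = (LP (LK LD1_c5 LD2_c29 LD3_c55)) :=
  Lre_d IH (LK LD1_c2 LD2_c41 LD3_c16) (LK LD1_c5 LD2_c29 LD3_c55) Lrfl Lrfl
theorem f220099 : Led Lsl_dt (LP (LK LD1_c8 LD2_c17 LD3_c27)) = (LP (LK LD1_c4 LD2_c8 LD3_c42)) :=
  Lre_d IH (LK LD1_c8 LD2_c17 LD3_c27) (LK LD1_c4 LD2_c8 LD3_c42) Lrfl Lrfl
theorem f250870 : Led Lsl_df (LP (LK LD1_c8 LD2_c19 LD3_c27)) = (LP (LK LD1_c8 LD2_c16 LD3_c26)) :=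
  Lgr Lrot155 (Lpr_gt (f250864 IH) (Lpe (K12.f213179 IH) (Lpr_gt (f213282 IH) (Lpe (f250868 IH) (Lpr_dt (f220099 IH) (Lpr_cf (f220068 IH) (Lpr_gf (f246691 IH) (Lpe (f173264 IH) (Lpe (f250687 IH) (Lpn (LP (LK LD1_c8 LD2_c16 LD3_c26))))))))))))
theorem f250875 : Led Lsl_dt (LP (LK LD1_c8 LD2_c18 LD3_c46)) = (LP (LK LD1_c5 LD2_c29 LD3_c36)) :=
  Lgr Lrot6 (Lpr_gt (f233262 IH) (Lpe (f234340 IH) (Lpr_gt (f250862 IH) (Lpe (f250856 IH) (Lpr_df (f250870 IH) (Lpe (f250658 IH) (Lpr_gf (f250685 IH) (Lpe (K12.f222250 IH) (Lpr_gf (K12.f222972 IH) (Lpn (LP (LK LD1_c5 LD2_c29 LD3_c36))))))))))))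
theorem f254755 : Led Lsl_ct (LP (LK LD1_c5 LD2_c29 LD3_c55)) = (LP (LK LD1_c8 LD2_c18 LD3_c46)) :=
  Lgr Lrot176 (Lpe (f175176 IH) (Lpe (f179129 IH) (Lpr_df (f250677 IH) (Lpe (f236250 IH) (Lpr_df (f251685 IH) (Lpe (f216857 IH) (Lpe (f251721 IH) (Lpr_cf (f254748 IH) (Lpe (f222279 IH) (Lpr_cf (K13.f222244 IH) (Lpr_df (K13.f189429 IH) (Lpe (K13.f167366 IH) (Lpe (K13.f220511 IH) (Lpe (K12.f213767 IH) (Lpe (f250875 IH) (Lpn (LP (LK LD1_c8 LD2_c18 LD3_c46))))))))))))))))))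
theorem f254773 : Led Lsl_gf (LP (LK LD1_c8 LD2_c16 LD3_c52)) = (LP (LK LD1_c8 LD2_c17 LD3_c24)) :=
  Lgr Lrot147 (Lpe (f254768 IH) (Lpr_gt (f254770 IH) (Lpr_ct (f254755 IH) (Lpe (f236245 IH) (Lpe (K12.f213768 IH) (Lpr_gf (K12.f220509 IH) (Lpe (K12.f219948 IH) (Lpe (K12.f220039 IH) (Lpe (K13.f220041 IH) (Lpn (LP (LK LD1_c8 LD2_c17 LD3_c24))))))))))))
theorem f216911 : Led Lsl_dt (LP (LK LD1_c8 LD2_c16 LD3_c52)) = (LP (LK LD1_c4 LD2_c8 LD3_c23)) :=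
  Lre_d IH (LK LD1_c8 LD2_c16 LD3_c52) (LK LD1_c4 LD2_c8 LD3_c23) Lrfl Lrfl
theorem f216912 : Led Lsl_dt (LP (LK LD1_c10 LD2_c23 LD3_c24)) = (LP (LK LD1_c5 LD2_c16 LD3_c56)) :=
  Lre_d IH (LK LD1_c10 LD2_c23 LD3_c24) (LK LD1_c5 LD2_c16 LD3_c56) Lrfl Lrfl
theorem f254786 : Led Lsl_gf (LP (LK LD1_c10 LD2_c23 LD3_c24)) = (LP (LK LD1_c5 LD2_c29 LD3_c49)) :=
  Lgr Lrot144 (Lpr_dt (f216912 IH) (Lpe (K12.f216909 IH) (Lpr_dt (K9.f50136 IH) (Lpe (f50415 IH) (Lpe (K13.f894 IH) (Lpe (f1305 IH) (Lpe (f216911 IH) (Lpr_gf (f254773 IH) (Lpr_cf (K13.f234121 IH) (Lpn (LP (LK LD1_c5 LD2_c29 LD3_c49))))))))))))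
theorem f236136 : Led Lsl_et (LP (LK LD1_c5 LD2_c28 LD3_c17)) = (LP (LK LD1_c2 LD2_c40 LD3_c27)) :=
  Lre_e IH (LK LD1_c5 LD2_c28 LD3_c17) (LK LD1_c2 LD2_c40 LD3_c27) Lrfl Lrfl
theorem f236137 : Led Lsl_dt (LP (LK LD1_c5 LD2_c28 LD3_c17)) = (LP (LK LD1_c5 LD2_c24 LD3_c57)) :=
  Lgr Lrot37 (Lpr_et (f236136 IH) (Lpr_gt (K13.f236128 IH) (Lpe (K11.f191675 IH) (Lpr_gt (K10.f45012 IH) (Lpe (K8.f44966 IH) (Lpr_et (K11.f45009 IH) (Lpr_gt (K1.f744 IH) (Lpe (K9.f44932 IH) (Lpr_dt (K9.f44940 IH) (Lpe (K12.f216927 IH) (Lpn (LP (LK LD1_c5 LD2_c24 LD3_c57)))))))))))))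
theorem f199703 : Led Lsl_gt (LP (LK LD1_c2 LD2_c1 LD3_c39)) = (LP (LK LD1_c4 LD2_c8 LD3_c32)) :=
  Lre_g IH (LK LD1_c2 LD2_c1 LD3_c39) (LK LD1_c4 LD2_c8 LD3_c32) Lrfl Lrfl
theorem f51586 : Led Lsl_bt (LP (LK LD1_c0 LD2_c11 LD3_c51)) = (LP (LK LD1_c0 LD2_c26 LD3_c44)) :=
  Lre_b IH (LK LD1_c0 LD2_c11 LD3_c51) (LK LD1_c0 LD2_c26 LD3_c44) Lrfl Lrfl
theorem f222158 : Led Lsl_gf (LP (LK LD1_c0 LD2_c58 LD3_c3)) = (LP (LK LD1_c1 LD2_c14 LD3_c8)) :=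
  Lgr Lrot126 (Lpe (K12.f53446 IH) (Lpr_bt (K12.f53443 IH) (Lpr_gt (K9.f53438 IH) (Lpr_ct (K9.f27349 IH) (Lpe (K9.f51574 IH) (Lpe (K9.f51585 IH) (Lpr_bt (f51586 IH) (Lpr_gt (f222155 IH) (Lpe (K13.f48027 IH) (Lpr_ct (K10.f53829 IH) (Lpn (LP (LK LD1_c1 LD2_c14 LD3_c8)))))))))))))
theorem f171904 : Led Lsl_bt (LP (LK LD1_c1 LD2_c9 LD3_c57)) = (LP (LK LD1_c0 LD2_c32 LD3_c21)) :=
  Lre_b IH (LK LD1_c1 LD2_c9 LD3_c57) (LK LD1_c0 LD2_c32 LD3_c21) Lrfl Lrfl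
theorem f171985 : Led Lsl_ct (LP (LK LD1_c1 LD2_c9 LD3_c57)) = (LP (LK LD1_c2 LD2_c25 LD3_c25)) :=
  Lre_c IH (LK LD1_c1 LD2_c9 LD3_c57) (LK LD1_c2 LD2_c25 LD3_c25) Lrfl Lrfl
theorem f222165 : Led Lsl_gt (LP (LK LD1_c2 LD2_c25 LD3_c25)) = (LP (LK LD1_c1 LD2_c14 LD3_c9)) :=
  Lgr Lrot65 (Lpe (f171985 IH) (Lpr_bt (f171904 IH) (Lpe (K12.f41404 IH) (Lpe (K9.f40832 IH) (Lpr_ct (K12.f219075 IH) (Lpe (K12.f170616 IH) (Lpe (K9.f53444 IH) (Lpr_gf (f222158 IH) (Lpe (K8.f33448 IH) (Lpr_ct (K8.f33427 IH) (Lpn (LP (LK LD1_c1 LD2_c14 LD3_c9)))))))))))))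
theorem f222182 : Led Lsl_et (LP (LK LD1_c4 LD2_c55 LD3_c4)) = (LP (LK LD1_c2 LD2_c25 LD3_c25)) :=
  Lre_e IH (LK LD1_c4 LD2_c55 LD3_c4) (LK LD1_c2 LD2_c25 LD3_c25) Lrfl Lrfl
theorem f232158 : Led Lsl_dt (LP (LK LD1_c4 LD2_c55 LD3_c4)) = (LP (LK LD1_c4 LD2_c8 LD3_c32)) :=
  Lgr Lrot56 (Lpr_et (f222182 IH) (Lpr_gt (f222165 IH) (Lpe (K8.f33421 IH) (Lpr_dt (K8.f49141 IH) (Lpr_gt (K1.f28462 IH) (Lpr_df (K8.f49143 IH) (Lpr_et (K9.f49151 IH) (Lpr_gt (K13.f232147 IH) (Lpr_dt (K13.f199760 IH) (Lpr_gt (f199703 IH) (Lpn (LP (LK LD1_c4 LD2_c8 LD3_c32)))))))))))))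
theorem f232184 : Led Lsl_df (LP (LK LD1_c4 LD2_c55 LD3_c4)) = (LP (LK LD1_c4 LD2_c8 LD3_c32)) :=
  Lgr Lrot38 (Lpr_dt (f232158 IH) (Lpn (LP (LK LD1_c4 LD2_c8 LD3_c32))))
theorem f254789 : Led Lsl_gf (LP (LK LD1_c5 LD2_c28 LD3_c17)) = (LP (LK LD1_c4 LD2_c55 LD3_c4)) :=
  Lgr Lrot143 (Lpr_dt (f236137 IH) (Lpr_cf (K12.f216922 IH) (Lpe (f216912 IH) (Lpr_gf (f254786 IH) (Lpe (K13.f220566 IH) (Lpe (K13.f234112 IH) (Lpe (K13.f199695 IH) (Lpr_gt (f199703 IH) (Lpe (f232184 IH) (Lpn (LP (LK LD1_c4 LD2_c55 LD3_c4))))))))))))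
theorem f254795 : Led Lsl_gt (LP (LK LD1_c2 LD2_c31 LD3_c28)) = (LP (LK LD1_c2 LD2_c25 LD3_c27)) :=
  Lgr Lrot9 (Lpe (K12.f33199 IH) (Lpr_gt (K12.f190904 IH) (Lpr_ct (K12.f44944 IH) (Lpe (f222915 IH) (Lpr_ct (f51410 IH) (Lpe (K13.f236104 IH) (Lpe (f236109 IH) (Lpr_gf (f254789 IH) (Lpe (f232183 IH) (Lpn (LP (LK LD1_c2 LD2_c25 LD3_c27))))))))))))
theorem f183237 : Led Lsl_bt (LP (LK LD1_c0 LD2_c56 LD3_c57)) = (LP (LK LD1_c0 LD2_c25 LD3_c51)) :=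
  Lre_b IH (LK LD1_c0 LD2_c56 LD3_c57) (LK LD1_c0 LD2_c25 LD3_c51) Lrfl Lrfl
theorem f196365 : Led Lsl_ct (LP (LK LD1_c1 LD2_c16 LD3_c27)) = (LP (LK LD1_c2 LD2_c31 LD3_c28)) :=
  Lgr Lrot83 (Lpe (K10.f183239 IH) (Lpe (K9.f183199 IH) (Lpe (f183237 IH) (Lpr_cf (K12.f196362 IH) (Lpe (K12.f33198 IH) (Lpn (LP (LK LD1_c2 LD2_c31 LD3_c28))))))))
theorem f246305 : Led Lsl_bt (LP (LK LD1_c2 LD2_c3 LD3_c52)) = (LP (LK LD1_c4 LD2_c13 LD3_c13)) :=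
  Lre_b IH (LK LD1_c2 LD2_c3 LD3_c52) (LK LD1_c4 LD2_c13 LD3_c13) Lrfl Lrfl
theorem f251398 : Led Lsl_et (LP (LK LD1_c2 LD2_c40 LD3_c26)) = (LP (LK LD1_c5 LD2_c28 LD3_c15)) :=
  Lre_e IH (LK LD1_c2 LD2_c40 LD3_c26) (LK LD1_c5 LD2_c28 LD3_c15) Lrfl Lrfl
theorem f251399 : Led Lsl_ct (LP (LK LD1_c5 LD2_c28 LD3_c15)) = (LP (LK LD1_c4 LD2_c13 LD3_c13)) :=
  Lgr Lrot15 (Lpe (f251398 IH) (Lpe (f193960 IH) (Lpr_ef (f251396 IH) (Lpn (LP (LK LD1_c4 LD2_c13 LD3_c13))))))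
theorem f236106 : Led Lsl_bt (LP (LK LD1_c5 LD2_c28 LD3_c15)) = (LP (LK LD1_c2 LD2_c40 LD3_c29)) :=
  Lre_b IH (LK LD1_c5 LD2_c28 LD3_c15) (LK LD1_c2 LD2_c40 LD3_c29) Lrfl Lrfl
theorem f246724 : Led Lsl_bt (LP (LK LD1_c2 LD2_c7 LD3_c22)) = (LP (LK LD1_c2 LD2_c25 LD3_c29)) :=
  Lgr Lrot127 (Lpr_bf (f246720 IH) (Lpn (LP (LK LD1_c2 LD2_c25 LD3_c29))))
theorem f170292 : Led Lsl_ct (LP (LK LD1_c2 LD2_c7 LD3_c22)) = (LP (LK LD1_c4 LD2_c19 LD3_c49)) :=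
  Lre_c IH (LK LD1_c2 LD2_c7 LD3_c22) (LK LD1_c4 LD2_c19 LD3_c49) Lrfl Lrfl
theorem f251405 : Led Lsl_gt (LP (LK LD1_c4 LD2_c19 LD3_c49)) = (LP (LK LD1_c4 LD2_c13 LD3_c13)) :=
  Lgr Lrot65 (Lpe (f170292 IH) (Lpr_bt (f246724 IH) (Lpe (f246722 IH) (Lpe (f231825 IH) (Lpe (f231704 IH) (Lpe (K13.f246241 IH) (Lpr_cf (K12.f220209 IH) (Lpr_gf (f250927 IH) (Lpe (f236106 IH) (Lpr_ct (f251399 IH) (Lpn (LP (LK LD1_c4 LD2_c13 LD3_c13)))))))))))))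
theorem f254820 : Led Lsl_bf (LP (LK LD1_c4 LD2_c19 LD3_c49)) = (LP (LK LD1_c4 LD2_c55 LD3_c4)) :=
  Lgr Lrot156 (Lpr_gt (f251405 IH) (Lpe (f246305 IH) (Lpr_ct (K13.f183240 IH) (Lpr_gt (K13.f246292 IH) (Lpe (K13.f230381 IH) (Lpr_bt (K13.f230402 IH) (Lpe (K13.f246285 IH) (Lpr_ct (f196365 IH) (Lpr_gt (f254795 IH) (Lpe (f232200 IH) (Lpn (LP (LK LD1_c4 LD2_c55 LD3_c4)))))))))))))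
theorem f199705 : Led Lsl_bt (LP (LK LD1_c8 LD2_c17 LD3_c9)) = (LP (LK LD1_c4 LD2_c8 LD3_c32)) :=
  Lre_b IH (LK LD1_c8 LD2_c17 LD3_c9) (LK LD1_c4 LD2_c8 LD3_c32) Lrfl Lrfl
theorem f254822 : Led Lsl_dt (LP (LK LD1_c4 LD2_c19 LD3_c49)) = (LP (LK LD1_c8 LD2_c17 LD3_c9)) :=
  Lgr Lrot79 (Lpr_bf (f254820 IH) (Lpr_df (f232184 IH) (Lpe (f199705 IH) (Lpn (LP (LK LD1_c8 LD2_c17 LD3_c9))))))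
theorem f253254 : Led Lsl_cf (LP (LK LD1_c1 LD2_c0 LD3_c44)) = (LP (LK LD1_c2 LD2_c6 LD3_c4)) :=
  Lgr Lrot11 (Lpr_ct (f253249 IH) (Lpn (LP (LK LD1_c2 LD2_c6 LD3_c4))))
theorem f246156 : Led Lsl_dt (LP (LK LD1_c4 LD2_c3 LD3_c19)) = (LP (LK LD1_c4 LD2_c17 LD3_c16)) :=
  Lgr Lrot42 (Lpr_df (f246144 IH) (Lpn (LP (LK LD1_c4 LD2_c17 LD3_c16))))
theorem f196707 : Led Lsl_ct (LP (LK LD1_c1 LD2_c58 LD3_c38)) = (LP (LK LD1_c4 LD2_c3 LD3_c20)) :=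
  Lre_c IH (LK LD1_c1 LD2_c58 LD3_c38) (LK LD1_c4 LD2_c3 LD3_c20) Lrfl Lrfl
theorem f199496 : Led Lsl_gt (LP (LK LD1_c4 LD2_c3 LD3_c20)) = (LP (LK LD1_c8 LD2_c7 LD3_c15)) :=
  Lre_g IH (LK LD1_c4 LD2_c3 LD3_c20) (LK LD1_c8 LD2_c7 LD3_c15) Lrfl Lrfl
theorem f254827 : Led Lsl_ct (LP (LK LD1_c8 LD2_c7 LD3_c15)) = (LP (LK LD1_c8 LD2_c17 LD3_c9)) :=
  Lgr Lrot151 (Lpe (f199496 IH) (Lpe (f196707 IH) (Lpe (K12.f199015 IH) (Lpr_dt (f246156 IH) (Lpr_gt (f246158 IH) (Lpe (f253254 IH) (Lpr_gt (f170291 IH) (Lpr_ct (f170292 IH) (Lpr_dt (f254822 IH) (Lpn (LP (LK LD1_c8 LD2_c17 LD3_c9))))))))))))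
theorem f254830 : Led Lsl_cf (LP (LK LD1_c8 LD2_c7 LD3_c15)) = (LP (LK LD1_c8 LD2_c17 LD3_c9)) :=
  Lgr Lrot11 (Lpr_ct (f254827 IH) (Lpn (LP (LK LD1_c8 LD2_c17 LD3_c9))))
theorem f254835 : Led Lsl_bt (LP (LK LD1_c8 LD2_c7 LD3_c15)) = (LP (LK LD1_c15 LD2_c17 LD3_c33)) :=
  Lre_b IH (LK LD1_c8 LD2_c7 LD3_c15) (LK LD1_c15 LD2_c17 LD3_c33) Lrfl Lrfl
theorem f232182 : Led Lsl_bt (LP (LK LD1_c4 LD2_c8 LD3_c32)) = (LP (LK LD1_c8 LD2_c17 LD3_c9)) :=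
  Lre_b IH (LK LD1_c4 LD2_c8 LD3_c32) (LK LD1_c8 LD2_c17 LD3_c9) Lrfl Lrfl
theorem f173344 : Led Lsl_ct (LP (LK LD1_c1 LD2_c2 LD3_c42)) = (LP (LK LD1_c2 LD2_c11 LD3_c26)) :=
  Lre_c IH (LK LD1_c1 LD2_c2 LD3_c42) (LK LD1_c2 LD2_c11 LD3_c26) Lrfl Lrfl
theorem f173445 : Led Lsl_gt (LP (LK LD1_c2 LD2_c11 LD3_c26)) = (LP (LK LD1_c4 LD2_c28 LD3_c47)) :=
  Lre_g IH (LK LD1_c2 LD2_c11 LD3_c26) (LK LD1_c4 LD2_c28 LD3_c47) Lrfl Lrfl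
theorem f254816 : Led Lsl_ct (LP (LK LD1_c4 LD2_c28 LD3_c47)) = (LP (LK LD1_c4 LD2_c8 LD3_c32)) :=
  Lgr Lrot110 (Lpe (f173445 IH) (Lpe (f173344 IH) (Lpe (f173261 IH) (Lpe (f254690 IH) (Lpe (K13.f246285 IH) (Lpr_ct (f196365 IH) (Lpr_gt (f254795 IH) (Lpr_ct (f232183 IH) (Lpr_df (f232184 IH) (Lpn (LP (LK LD1_c4 LD2_c8 LD3_c32))))))))))))
theorem f254849 : Led Lsl_bt (LP (LK LD1_c8 LD2_c55 LD3_c50)) = (LP (LK LD1_c4 LD2_c28 LD3_c47)) :=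
  Lre_b IH (LK LD1_c8 LD2_c55 LD3_c50) (LK LD1_c4 LD2_c28 LD3_c47) Lrfl Lrfl
theorem f254850 : Led Lsl_ct (LP (LK LD1_c15 LD2_c17 LD3_c33)) = (LP (LK LD1_c8 LD2_c55 LD3_c50)) :=
  Lgr Lrot83 (Lpe (f254835 IH) (Lpr_cf (f254830 IH) (Lpe (f232182 IH) (Lpe (f254816 IH) (Lpe (f254849 IH) (Lpn (LP (LK LD1_c8 LD2_c55 LD3_c50))))))))
theorem f254858 : Led Lsl_et (LP (LK LD1_c25 LD2_c7 LD3_c59)) = (LP (LK LD1_c15 LD2_c17 LD3_c33)) :=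
  Lre_e IH (LK LD1_c25 LD2_c7 LD3_c59) (LK LD1_c15 LD2_c17 LD3_c33) Lrfl Lrfl
theorem f254859 : Led Lsl_et (LP (LK LD1_c8 LD2_c55 LD3_c50)) = (LP (LK LD1_c16 LD2_c43 LD3_c1)) :=
  Lre_e IH (LK LD1_c8 LD2_c55 LD3_c50) (LK LD1_c16 LD2_c43 LD3_c1) Lrfl Lrfl
theorem f254860 : Led Lsl_cf (LP (LK LD1_c25 LD2_c7 LD3_c59)) = (LP (LK LD1_c16 LD2_c43 LD3_c1)) :=
  Lgr Lrot39 (Lpr_et (f254858 IH) (Lpr_ct (f254850 IH) (Lpr_et (f254859 IH) (Lpn (LP (LK LD1_c16 LD2_c43 LD3_c1))))))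
theorem f254871 : Led Lsl_ct (LP (LK LD1_c25 LD2_c7 LD3_c59)) = (LP (LK LD1_c16 LD2_c43 LD3_c1)) :=
  Lgr Lrot59 (Lpr_cf (f254860 IH) (Lpn (LP (LK LD1_c16 LD2_c43 LD3_c1))))
theorem f254839 : Led Lsl_bt (LP (LK LD1_c15 LD2_c17 LD3_c34)) = (LP (LK LD1_c25 LD2_c7 LD3_c59)) :=
  Lre_b IH (LK LD1_c15 LD2_c17 LD3_c34) (LK LD1_c25 LD2_c7 LD3_c59) Lrfl Lrfl
theorem f254832 : Led Lsl_et (LP (LK LD1_c15 LD2_c17 LD3_c34)) = (LP (LK LD1_c8 LD2_c7 LD3_c15)) :=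
  Lre_e IH (LK LD1_c15 LD2_c17 LD3_c34) (LK LD1_c8 LD2_c7 LD3_c15) Lrfl Lrfl
theorem f254826 : Led Lsl_et (LP (LK LD1_c8 LD2_c17 LD3_c9)) = (LP (LK LD1_c15 LD2_c34 LD3_c54)) :=
  Lre_e IH (LK LD1_c8 LD2_c17 LD3_c9) (LK LD1_c15 LD2_c34 LD3_c54) Lrfl Lrfl
theorem f254833 : Led Lsl_cf (LP (LK LD1_c15 LD2_c17 LD3_c34)) = (LP (LK LD1_c15 LD2_c34 LD3_c54)) :=
  Lgr Lrot39 (Lpr_et (f254832 IH) (Lpr_ct (f254827 IH) (Lpr_et (f254826 IH) (Lpn (LP (LK LD1_c15 LD2_c34 LD3_c54))))))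
theorem f232199 : Led Lsl_bt (LP (LK LD1_c8 LD2_c17 LD3_c10)) = (LP (LK LD1_c15 LD2_c34 LD3_c54)) :=
  Lre_b IH (LK LD1_c8 LD2_c17 LD3_c10) (LK LD1_c15 LD2_c34 LD3_c54) Lrfl Lrfl
theorem f254873 : Led Lsl_bt (LP (LK LD1_c16 LD2_c43 LD3_c1)) = (LP (LK LD1_c8 LD2_c55 LD3_c51)) :=
  Lre_b IH (LK LD1_c16 LD2_c43 LD3_c1) (LK LD1_c8 LD2_c55 LD3_c51) Lrfl Lrfl
theorem f254874 : Led Lsl_cf (LP (LK LD1_c8 LD2_c17 LD3_c10)) = (LP (LK LD1_c8 LD2_c55 LD3_c51)) :=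
  Lgr Lrot97 (Lpr_bt (f232199 IH) (Lpe (f254833 IH) (Lpr_bt (f254839 IH) (Lpr_ct (f254871 IH) (Lpr_bt (f254873 IH) (Lpn (LP (LK LD1_c8 LD2_c55 LD3_c51))))))))
theorem f232198 : Led Lsl_et (LP (LK LD1_c8 LD2_c17 LD3_c10)) = (LP (LK LD1_c4 LD2_c8 LD3_c32)) :=
  Lre_e IH (LK LD1_c8 LD2_c17 LD3_c10) (LK LD1_c4 LD2_c8 LD3_c32) Lrfl Lrfl
theorem f254878 : Led Lsl_et (LP (LK LD1_c4 LD2_c28 LD3_c47)) = (LP (LK LD1_c8 LD2_c55 LD3_c51)) :=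
  Lre_e IH (LK LD1_c4 LD2_c28 LD3_c47) (LK LD1_c8 LD2_c55 LD3_c51) Lrfl Lrfl
theorem f254879 : Led Lsl_ct (LP (LK LD1_c4 LD2_c8 LD3_c32)) = (LP (LK LD1_c4 LD2_c28 LD3_c47)) :=
  Lgr Lrot15 (Lpe (f232198 IH) (Lpr_cf (f254874 IH) (Lpe (f254878 IH) (Lpn (LP (LK LD1_c4 LD2_c28 LD3_c47))))))
theorem f219289 : Led Lsl_dt (LP (LK LD1_c4 LD2_c8 LD3_c55)) = (LP (LK LD1_c2 LD2_c1 LD3_c50)) :=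
  Lre_d IH (LK LD1_c4 LD2_c8 LD3_c55) (LK LD1_c2 LD2_c1 LD3_c50) Lrfl Lrfl
theorem f219607 : Led Lsl_bt (LP (LK LD1_c2 LD2_c25 LD3_c10)) = (LP (LK LD1_c4 LD2_c8 LD3_c55)) :=
  Lgr Lrot95 (Lpe (K12.f101436 IH) (Lpr_bf (K12.f219597 IH) (Lpe (f219289 IH) (Lpn (LP (LK LD1_c4 LD2_c8 LD3_c55))))))
theorem f254888 : Led Lsl_gt (LP (LK LD1_c8 LD2_c17 LD3_c9)) = (LP (LK LD1_c4 LD2_c8 LD3_c55)) :=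
  Lgr Lrot164 (Lpe (f232182 IH) (Lpr_ct (f254879 IH) (Lpe (f173445 IH) (Lpe (f173344 IH) (Lpe (f173261 IH) (Lpr_bf (f228735 IH) (Lpr_ct (f218483 IH) (Lpe (K13.f218392 IH) (Lpe (K12.f101437 IH) (Lpr_bt (f219607 IH) (Lpn (LP (LK LD1_c4 LD2_c8 LD3_c55)))))))))))))
theorem f183306 : Led Lsl_bt (LP (LK LD1_c1 LD2_c2 LD3_c42)) = (LP (LK LD1_c0 LD2_c28 LD3_c36)) :=
  Lre_b IH (LK LD1_c1 LD2_c2 LD3_c42) (LK LD1_c0 LD2_c28 LD3_c36) Lrfl Lrfl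
theorem f219324 : Led Lsl_ct (LP (LK LD1_c4 LD2_c8 LD3_c55)) = (LP (LK LD1_c8 LD2_c17 LD3_c57)) :=
  Lre_c IH (LK LD1_c4 LD2_c8 LD3_c55) (LK LD1_c8 LD2_c17 LD3_c57) Lrfl Lrfl
theorem f254891 : Led Lsl_gf (LP (LK LD1_c4 LD2_c27 LD3_c48)) = (LP (LK LD1_c8 LD2_c17 LD3_c57)) :=
  Lgr Lrot129 (Lpe (f191893 IH) (Lpe (f225833 IH) (Lpr_gt (K12.f173184 IH) (Lpe (f183306 IH) (Lpr_ct (f173344 IH) (Lpr_gt (f173445 IH) (Lpe (f254879 IH) (Lpr_bt (f232182 IH) (Lpr_gt (f254888 IH) (Lpr_ct (f219324 IH) (Lpn (LP (LK LD1_c8 LD2_c17 LD3_c57)))))))))))))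
theorem f253473 : Led Lsl_df (LP (LK LD1_c2 LD2_c6 LD3_c5)) = (LP (LK LD1_c2 LD2_c11 LD3_c4)) :=
  Lgr Lrot38 (Lpr_dt (f253467 IH) (Lpn (LP (LK LD1_c2 LD2_c11 LD3_c4))))
theorem f236139 : Led Lsl_ct (LP (LK LD1_c2 LD2_c40 LD3_c29)) = (LP (LK LD1_c5 LD2_c28 LD3_c17)) :=
  Lre_c IH (LK LD1_c2 LD2_c40 LD3_c29) (LK LD1_c5 LD2_c28 LD3_c17) Lrfl Lrfl
theorem f250966 : Led Lsl_ct (LP (LK LD1_c4 LD2_c13 LD3_c13)) = (LP (LK LD1_c5 LD2_c28 LD3_c15)) :=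
  Lgr Lrot83 (Lpe (f246305 IH) (Lpe (f228897 IH) (Lpr_bf (f250960 IH) (Lpe (f236139 IH) (Lpe (f236106 IH) (Lpn (LP (LK LD1_c5 LD2_c28 LD3_c15))))))))
theorem f254895 : Led Lsl_gf (LP (LK LD1_c4 LD2_c3 LD3_c45)) = (LP (LK LD1_c5 LD2_c28 LD3_c15)) :=
  Lgr Lrot104 (Lpe (K12.f201232 IH) (Lpr_df (f253473 IH) (Lpe (f191889 IH) (Lpr_gf (f254891 IH) (Lpe (f219324 IH) (Lpe (f254888 IH) (Lpe (f254822 IH) (Lpr_gt (f251405 IH) (Lpr_ct (f250966 IH) (Lpn (LP (LK LD1_c5 LD2_c28 LD3_c15))))))))))))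
theorem f201239 : Led Lsl_bt (LP (LK LD1_c1 LD2_c58 LD3_c55)) = (LP (LK LD1_c4 LD2_c3 LD3_c45)) :=
  Lre_b IH (LK LD1_c1 LD2_c58 LD3_c55) (LK LD1_c4 LD2_c3 LD3_c45) Lrfl Lrfl
theorem f251404 : Led Lsl_bt (LP (LK LD1_c2 LD2_c40 LD3_c29)) = (LP (LK LD1_c5 LD2_c28 LD3_c15)) :=
  Lre_b IH (LK LD1_c2 LD2_c40 LD3_c29) (LK LD1_c5 LD2_c28 LD3_c15) Lrfl Lrfl
theorem f33260 : Led Lsl_bt (LP (LK LD1_c1 LD2_c12 LD3_c50)) = (LP (LK LD1_c2 LD2_c31 LD3_c28)) :=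
  Lre_b IH (LK LD1_c1 LD2_c12 LD3_c50) (LK LD1_c2 LD2_c31 LD3_c28) Lrfl Lrfl
theorem f254965 : Led Lsl_gt (LP (LK LD1_c0 LD2_c59 LD3_c27)) = (LP (LK LD1_c0 LD2_c56 LD3_c57)) :=
  Lgr Lrot65 (Lpe (K12.f201266 IH) (Lpr_bt (f201239 IH) (Lpr_gf (f254895 IH) (Lpe (f251404 IH) (Lpr_ct (f236139 IH) (Lpr_gf (f254789 IH) (Lpe (f232183 IH) (Lpe (f254795 IH) (Lpe (f33260 IH) (Lpe (K12.f196362 IH) (Lpn (LP (LK LD1_c0 LD2_c56 LD3_c57)))))))))))))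
theorem f201264 : Led Lsl_bt (LP (LK LD1_c0 LD2_c31 LD3_c61)) = (LP (LK LD1_c0 LD2_c59 LD3_c27)) :=
  Lgr Lrot127 (Lpr_bf (K12.f201261 IH) (Lpn (LP (LK LD1_c0 LD2_c59 LD3_c27))))
theorem f196367 : Led Lsl_ct (LP (LK LD1_c0 LD2_c56 LD3_c57)) = (LP (LK LD1_c1 LD2_c12 LD3_c50)) :=
  Lgr Lrot59 (Lpr_cf (K12.f196362 IH) (Lpn (LP (LK LD1_c1 LD2_c12 LD3_c50))))
theorem f227936 : Led Lsl_gt (LP (LK LD1_c1 LD2_c12 LD3_c50)) = (LP (LK LD1_c0 LD2_c56 LD3_c30)) :=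
  Lgr Lrot94 (Lpe (f196367 IH) (Lpr_gt (K12.f227934 IH) (Lpr_dt (K9.f180105 IH) (Lpr_gt (K11.f180207 IH) (Lpr_dt (K9.f34768 IH) (Lpe (K10.f180209 IH) (Lpe (K12.f180210 IH) (Lpe (K12.f224877 IH) (Lpe (K10.f193285 IH) (Lpn (LP (LK LD1_c0 LD2_c56 LD3_c30))))))))))))
theorem f211496 : Led Lsl_bf (LP (LK LD1_c0 LD2_c56 LD3_c32)) = (LP (LK LD1_c0 LD2_c26 LD3_c48)) :=
  Lgr Lrot93 (Lpr_dt (K12.f211493 IH) (Lpr_bt (K12.f172849 IH) (Lpr_dt (K9.f178469 IH) (Lpn (LP (LK LD1_c0 LD2_c26 LD3_c48))))))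
theorem f254981 : Led Lsl_gf (LP (LK LD1_c1 LD2_c0 LD3_c5)) = (LP (LK LD1_c0 LD2_c35 LD3_c53)) :=
  Lgr Lrot126 (Lpr_cf (K12.f7903 IH) (Lpr_bt (f201264 IH) (Lpr_gt (f254965 IH) (Lpr_ct (f196367 IH) (Lpr_gt (f227936 IH) (Lpe (K12.f6930 IH) (Lpr_bt (K10.f192795 IH) (Lpr_gt (K12.f53109 IH) (Lpr_bf (f211496 IH) (Lpe (K9.f178455 IH) (Lpn (LP (LK LD1_c0 LD2_c35 LD3_c53)))))))))))))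
theorem f253471 : Led Lsl_df (LP (LK LD1_c1 LD2_c0 LD3_c5)) = (LP (LK LD1_c1 LD2_c2 LD3_c44)) :=
  Lgr Lrot12 (Lpr_bt (K12.f7905 IH) (Lpr_dt (f253467 IH) (Lpe (f225833 IH) (Lpn (LP (LK LD1_c1 LD2_c2 LD3_c44))))))
theorem f225839 : Led Lsl_et (LP (LK LD1_c1 LD2_c2 LD3_c44)) = (LP (LK LD1_c2 LD2_c11 LD3_c32)) :=
  Lre_e IH (LK LD1_c1 LD2_c2 LD3_c44) (LK LD1_c2 LD2_c11 LD3_c32) Lrfl Lrfl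
theorem f178756 : Led Lsl_et (LP (LK LD1_c0 LD2_c16 LD3_c0)) = (LP (LK LD1_c0 LD2_c35 LD3_c54)) :=
  Lre_e IH (LK LD1_c0 LD2_c16 LD3_c0) (LK LD1_c0 LD2_c35 LD3_c54) Lrfl Lrfl
theorem f198751 : Led Lsl_gt (LP (LK LD1_c1 LD2_c17 LD3_c42)) = (LP (LK LD1_c0 LD2_c35 LD3_c54)) :=
  Lre_g IH (LK LD1_c1 LD2_c17 LD3_c42) (LK LD1_c0 LD2_c35 LD3_c54) Lrfl Lrfl
theorem f198752 : Led Lsl_et (LP (LK LD1_c2 LD2_c42 LD3_c15)) = (LP (LK LD1_c1 LD2_c17 LD3_c42)) :=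
  Lre_e IH (LK LD1_c2 LD2_c42 LD3_c15) (LK LD1_c1 LD2_c17 LD3_c42) Lrfl Lrfl
theorem f182488 : Led Lsl_ct (LP (LK LD1_c0 LD2_c35 LD3_c26)) = (LP (LK LD1_c1 LD2_c16 LD3_c33)) :=
  Lre_c IH (LK LD1_c0 LD2_c35 LD3_c26) (LK LD1_c1 LD2_c16 LD3_c33) Lrfl Lrfl
theorem f198718 : Led Lsl_gt (LP (LK LD1_c1 LD2_c12 LD3_c15)) = (LP (LK LD1_c0 LD2_c35 LD3_c26)) :=
  Lgr Lrot150 (Lpe (f166140 IH) (Lpr_gf (f198716 IH) (Lpe (K12.f187522 IH) (Lpe (K10.f195583 IH) (Lpr_ct (K10.f8394 IH) (Lpr_gt (K9.f182474 IH) (Lpr_ct (K9.f183083 IH) (Lpe (K11.f182489 IH) (Lpe (f182488 IH) (Lpn (LP (LK LD1_c0 LD2_c35 LD3_c26))))))))))))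
theorem f166150 : Led Lsl_et (LP (LK LD1_c2 LD2_c30 LD3_c28)) = (LP (LK LD1_c1 LD2_c12 LD3_c15)) :=
  Lre_e IH (LK LD1_c2 LD2_c30 LD3_c28) (LK LD1_c1 LD2_c12 LD3_c15) Lrfl Lrfl
theorem f166151 : Led Lsl_dt (LP (LK LD1_c2 LD2_c30 LD3_c28)) = (LP (LK LD1_c1 LD2_c12 LD3_c14)) :=
  Lre_d IH (LK LD1_c2 LD2_c30 LD3_c28) (LK LD1_c1 LD2_c12 LD3_c14) Lrfl Lrfl
theorem f178526 : Led Lsl_et (LP (LK LD1_c0 LD2_c35 LD3_c54)) = (LP (LK LD1_c0 LD2_c16 LD3_c0)) :=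
  Lre_e IH (LK LD1_c0 LD2_c35 LD3_c54) (LK LD1_c0 LD2_c16 LD3_c0) Lrfl Lrfl
theorem f178757 : Led Lsl_dt (LP (LK LD1_c0 LD2_c35 LD3_c54)) = (LP (LK LD1_c1 LD2_c17 LD3_c43)) :=
  Lre_d IH (LK LD1_c0 LD2_c35 LD3_c54) (LK LD1_c1 LD2_c17 LD3_c43) Lrfl Lrfl
theorem f198749 : Led Lsl_gf (LP (LK LD1_c1 LD2_c12 LD3_c14)) = (LP (LK LD1_c1 LD2_c17 LD3_c43)) :=
  Lgr Lrot145 (Lpe (f166151 IH) (Lpr_et (f166150 IH) (Lpr_gt (f198718 IH) (Lpr_dt (K9.f8473 IH) (Lpr_gt (K9.f8472 IH) (Lpe (K0.f8387 IH) (Lpr_et (K0.f8541 IH) (Lpr_gt (K9.f168187 IH) (Lpe (f178526 IH) (Lpr_dt (f178757 IH) (Lpn (LP (LK LD1_c1 LD2_c17 LD3_c43)))))))))))))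
theorem f185632 : Led Lsl_df (LP (LK LD1_c2 LD2_c32 LD3_c56)) = (LP (LK LD1_c1 LD2_c16 LD3_c34)) :=
  Lgr Lrot38 (Lpr_dt (K12.f185627 IH) (Lpn (LP (LK LD1_c1 LD2_c16 LD3_c34))))
theorem f185640 : Led Lsl_gt (LP (LK LD1_c2 LD2_c32 LD3_c56)) = (LP (LK LD1_c5 LD2_c12 LD3_c11)) :=
  Lre_g IH (LK LD1_c2 LD2_c32 LD3_c56) (LK LD1_c5 LD2_c12 LD3_c11) Lrfl Lrfl
theorem f198753 : Led Lsl_dt (LP (LK LD1_c2 LD2_c42 LD3_c15)) = (LP (LK LD1_c5 LD2_c12 LD3_c11)) :=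
  Lgr Lrot37 (Lpr_et (f198752 IH) (Lpr_gt (f198751 IH) (Lpr_dt (f178757 IH) (Lpe (f198749 IH) (Lpe (f166151 IH) (Lpr_et (f166150 IH) (Lpr_gt (f198718 IH) (Lpe (K12.f185626 IH) (Lpe (f185632 IH) (Lpr_gt (f185640 IH) (Lpn (LP (LK LD1_c5 LD2_c12 LD3_c11)))))))))))))
theorem f254993 : Led Lsl_gt (LP (LK LD1_c2 LD2_c11 LD3_c32)) = (LP (LK LD1_c1 LD2_c16 LD3_c34)) :=
  Lgr Lrot137 (Lpe (f225839 IH) (Lpe (f253471 IH) (Lpr_gf (f254981 IH) (Lpe (K9.f168188 IH) (Lpr_et (f178756 IH) (Lpe (f198751 IH) (Lpe (f198752 IH) (Lpr_dt (f198753 IH) (Lpe (f185640 IH) (Lpr_df (f185632 IH) (Lpn (LP (LK LD1_c1 LD2_c16 LD3_c34)))))))))))))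
theorem f185644 : Led Lsl_et (LP (LK LD1_c2 LD2_c32 LD3_c56)) = (LP (LK LD1_c1 LD2_c13 LD3_c22)) :=
  Lre_e IH (LK LD1_c2 LD2_c32 LD3_c56) (LK LD1_c1 LD2_c13 LD3_c22) Lrfl Lrfl
theorem f32815 : Led Lsl_et (LP (LK LD1_c1 LD2_c14 LD3_c28)) = (LP (LK LD1_c0 LD2_c34 LD3_c31)) :=
  Lre_e IH (LK LD1_c1 LD2_c14 LD3_c28) (LK LD1_c0 LD2_c34 LD3_c31) Lrfl Lrfl
theorem f254998 : Led Lsl_df (LP (LK LD1_c2 LD2_c11 LD3_c32)) = (LP (LK LD1_c1 LD2_c14 LD3_c28)) :=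
  Lgr Lrot170 (Lpr_gt (f254993 IH) (Lpe (K12.f185627 IH) (Lpr_et (f185644 IH) (Lpe (f212102 IH) (Lpr_dt (K10.f165509 IH) (Lpr_gt (K10.f184884 IH) (Lpe (K8.f31617 IH) (Lpe (K10.f48634 IH) (Lpr_gt (K9.f32806 IH) (Lpe (f32815 IH) (Lpn (LP (LK LD1_c1 LD2_c14 LD3_c28)))))))))))))
theorem f254997 : Led Lsl_et (LP (LK LD1_c1 LD2_c13 LD3_c42)) = (LP (LK LD1_c0 LD2_c34 LD3_c7)) :=
  Lre_e IH (LK LD1_c1 LD2_c13 LD3_c42) (LK LD1_c0 LD2_c34 LD3_c7) Lrfl Lrfl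
theorem f184940 : Led Lsl_dt (LP (LK LD1_c1 LD2_c13 LD3_c42)) = (LP (LK LD1_c2 LD2_c33 LD3_c32)) :=
  Lre_d IH (LK LD1_c1 LD2_c13 LD3_c42) (LK LD1_c2 LD2_c33 LD3_c32) Lrfl Lrfl
theorem f185012 : Led Lsl_gt (LP (LK LD1_c2 LD2_c33 LD3_c32)) = (LP (LK LD1_c5 LD2_c13 LD3_c23)) :=
  Lre_g IH (LK LD1_c2 LD2_c33 LD3_c32) (LK LD1_c5 LD2_c13 LD3_c23) Lrfl Lrfl
theorem f170023 : Led Lsl_gt (LP (LK LD1_c2 LD2_c34 LD3_c58)) = (LP (LK LD1_c1 LD2_c14 LD3_c28)) :=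
  Lre_g IH (LK LD1_c2 LD2_c34 LD3_c58) (LK LD1_c1 LD2_c14 LD3_c28) Lrfl Lrfl
theorem f255006 : Led Lsl_et (LP (LK LD1_c5 LD2_c16 LD3_c25)) = (LP (LK LD1_c2 LD2_c34 LD3_c58)) :=
  Lre_e IH (LK LD1_c5 LD2_c16 LD3_c25) (LK LD1_c2 LD2_c34 LD3_c58) Lrfl Lrfl
theorem f255007 : Led Lsl_df (LP (LK LD1_c5 LD2_c13 LD3_c23)) = (LP (LK LD1_c5 LD2_c16 LD3_c25)) :=
  Lgr Lrot168 (Lpe (f185012 IH) (Lpe (f184940 IH) (Lpr_et (f254997 IH) (Lpr_gf (f212102 IH) (Lpe (f185644 IH) (Lpr_dt (K12.f185627 IH) (Lpe (f254993 IH) (Lpr_df (f254998 IH) (Lpe (f170023 IH) (Lpe (f255006 IH) (Lpn (LP (LK LD1_c5 LD2_c16 LD3_c25)))))))))))))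
theorem f185001 : Led Lsl_ef (LP (LK LD1_c2 LD2_c11 LD3_c55)) = (LP (LK LD1_c1 LD2_c13 LD3_c23)) :=
  Lgr Lrot88 (Lpr_et (K10.f184992 IH) (Lpn (LP (LK LD1_c1 LD2_c13 LD3_c23))))
theorem f170042 : Led Lsl_et (LP (LK LD1_c0 LD2_c34 LD3_c31)) = (LP (LK LD1_c1 LD2_c14 LD3_c28)) :=
  Lre_e IH (LK LD1_c0 LD2_c34 LD3_c31) (LK LD1_c1 LD2_c14 LD3_c28) Lrfl Lrfl
theorem f247621 : Led Lsl_dt (LP (LK LD1_c0 LD2_c34 LD3_c31)) = (LP (LK LD1_c0 LD2_c58 LD3_c10)) :=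
  Lgr Lrot79 (Lpe (K10.f32809 IH) (Lpr_df (f247619 IH) (Lpe (K9.f170669 IH) (Lpn (LP (LK LD1_c0 LD2_c58 LD3_c10))))))
theorem f255013 : Led Lsl_gf (LP (LK LD1_c0 LD2_c59 LD3_c58)) = (LP (LK LD1_c0 LD2_c58 LD3_c10)) :=
  Lgr Lrot145 (Lpr_df (K10.f184999 IH) (Lpe (f185001 IH) (Lpe (K10.f184973 IH) (Lpr_dt (f184940 IH) (Lpr_gt (f185012 IH) (Lpr_df (f255007 IH) (Lpr_et (f255006 IH) (Lpr_gt (f170023 IH) (Lpe (f170042 IH) (Lpr_dt (f247621 IH) (Lpn (LP (LK LD1_c0 LD2_c58 LD3_c10)))))))))))))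
theorem f185010 : Led Lsl_dt (LP (LK LD1_c0 LD2_c59 LD3_c58)) = (LP (LK LD1_c1 LD2_c13 LD3_c23)) :=
  Lgr Lrot77 (Lpr_ef (K9.f167631 IH) (Lpr_df (K12.f165005 IH) (Lpe (K10.f7631 IH) (Lpe (K10.f165036 IH) (Lpr_ef (f185001 IH) (Lpn (LP (LK LD1_c1 LD2_c13 LD3_c23))))))))
theorem f179007 : Led Lsl_ef (LP (LK LD1_c0 LD2_c31 LD3_c41)) = (LP (LK LD1_c0 LD2_c15 LD3_c15)) :=
  Lgr Lrot28 (Lpr_ct (K11.f2143 IH) (Lpr_et (K9.f179005 IH) (Lpr_ct (K10.f165185 IH) (Lpn (LP (LK LD1_c0 LD2_c15 LD3_c15))))))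
theorem f205208 : Led Lsl_ef (LP (LK LD1_c0 LD2_c32 LD3_c7)) = (LP (LK LD1_c0 LD2_c42 LD3_c16)) :=
  Lgr Lrot167 (Lpe (K10.f31669 IH) (Lpr_dt (K1.f31656 IH) (Lpr_gt (K10.f31687 IH) (Lpe (K9.f31695 IH) (Lpr_et (K11.f204872 IH) (Lpr_gt (K11.f204373 IH) (Lpe (K11.f204436 IH) (Lpe (K11.f58995 IH) (Lpe (K11.f204383 IH) (Lpe (K12.f25957 IH) (Lpn (LP (LK LD1_c0 LD2_c42 LD3_c16)))))))))))))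
theorem f25995 : Led Lsl_et (LP (LK LD1_c0 LD2_c42 LD3_c17)) = (LP (LK LD1_c0 LD2_c18 LD3_c52)) :=
  Lre_e IH (LK LD1_c0 LD2_c42 LD3_c17) (LK LD1_c0 LD2_c18 LD3_c52) Lrfl Lrfl
theorem f253565 : Led Lsl_df (LP (LK LD1_c0 LD2_c42 LD3_c17)) = (LP (LK LD1_c0 LD2_c27 LD3_c41)) :=
  Lgr Lrot70 (Lpr_et (f25995 IH) (Lpr_dt (K11.f169786 IH) (Lpe (f205208 IH) (Lpr_dt (f253506 IH) (Lpr_et (f253560 IH) (Lpn (LP (LK LD1_c0 LD2_c27 LD3_c41))))))))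
theorem f253558 : Led Lsl_dt (LP (LK LD1_c0 LD2_c42 LD3_c17)) = (LP (LK LD1_c0 LD2_c27 LD3_c41)) :=
  Lgr Lrot56 (Lpr_et (f25995 IH) (Lpr_gt (K11.f25956 IH) (Lpe (K11.f25984 IH) (Lpr_dt (K1.f7149 IH) (Lpe (K9.f161765 IH) (Lpe (K0.f13434 IH) (Lpr_et (K9.f161771 IH) (Lpr_gt (K9.f53310 IH) (Lpr_dt (K9.f178469 IH) (Lpr_gt (f253548 IH) (Lpn (LP (LK LD1_c0 LD2_c27 LD3_c41)))))))))))))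
theorem f253576 : Led Lsl_gf (LP (LK LD1_c0 LD2_c24 LD3_c46)) = (LP (LK LD1_c0 LD2_c42 LD3_c17)) :=
  Lgr Lrot147 (Lpr_ct (K9.f173180 IH) (Lpe (K9.f178952 IH) (Lpr_ct (K9.f20692 IH) (Lpr_df (K9.f20684 IH) (Lpe (K9.f183256 IH) (Lpe (K9.f183229 IH) (Lpe (K9.f183199 IH) (Lpr_gf (f253570 IH) (Lpe (f253558 IH) (Lpn (LP (LK LD1_c0 LD2_c42 LD3_c17))))))))))))
theorem f254985 : Led Lsl_dt (LP (LK LD1_c1 LD2_c0 LD3_c5)) = (LP (LK LD1_c1 LD2_c2 LD3_c44)) :=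
  Lgr Lrot57 (Lpr_gf (f254981 IH) (Lpr_cf (K9.f178455 IH) (Lpr_gt (f253548 IH) (Lpe (f253565 IH) (Lpe (f253576 IH) (Lpr_dt (K9.f27244 IH) (Lpr_cf (K9.f173165 IH) (Lpe (K9.f8580 IH) (Lpe (K12.f173184 IH) (Lpn (LP (LK LD1_c1 LD2_c2 LD3_c44))))))))))))
theorem f255025 : Led Lsl_et (LP (LK LD1_c1 LD2_c0 LD3_c5)) = (LP (LK LD1_c0 LD2_c58 LD3_c10)) :=
  Lgr Lrot121 (Lpr_dt (f254985 IH) (Lpr_gf (K12.f225821 IH) (Lpe (K9.f165019 IH) (Lpr_et (K9.f167644 IH) (Lpr_gf (K9.f178282 IH) (Lpr_ef (f179007 IH) (Lpr_dt (K10.f185014 IH) (Lpe (K10.f184991 IH) (Lpe (f185010 IH) (Lpr_gf (f255013 IH) (Lpn (LP (LK LD1_c0 LD2_c58 LD3_c10)))))))))))))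
theorem f255033 : Led Lsl_gt (LP (LK LD1_c0 LD2_c35 LD3_c27)) = (LP (LK LD1_c0 LD2_c58 LD3_c10)) :=
  Lgr Lrot131 (Lpe (K12.f182490 IH) (Lpr_dt (K9.f8474 IH) (Lpe (f198718 IH) (Lpe (K9.f165880 IH) (Lpr_gf (K11.f198662 IH) (Lpe (K9.f173204 IH) (Lpr_dt (K9.f20695 IH) (Lpe (K12.f173184 IH) (Lpe (f254985 IH) (Lpr_et (f255025 IH) (Lpn (LP (LK LD1_c0 LD2_c58 LD3_c10)))))))))))))
theorem f194112 : Led Lsl_bt (LP (LK LD1_c0 LD2_c14 LD3_c15)) = (LP (LK LD1_c0 LD2_c12 LD3_c10)) :=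
  Lgr Lrot95 (Lpr_df (K9.f21249 IH) (Lpr_bf (K10.f194106 IH) (Lpe (K9.f6793 IH) (Lpn (LP (LK LD1_c0 LD2_c12 LD3_c10))))))
theorem f167307 : Led Lsl_cf (LP (LK LD1_c0 LD2_c27 LD3_c15)) = (LP (LK LD1_c0 LD2_c14 LD3_c15)) :=
  Lgr Lrot39 (Lpr_et (K9.f498 IH) (Lpr_ct (K9.f167295 IH) (Lpr_et (K9.f3079 IH) (Lpn (LP (LK LD1_c0 LD2_c14 LD3_c15))))))
theorem f238298 : Led Lsl_bf (LP (LK LD1_c0 LD2_c58 LD3_c35)) = (LP (LK LD1_c0 LD2_c27 LD3_c29)) :=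
  Lgr Lrot96 (Lpe (K12.f227287 IH) (Lpr_bt (K13.f238294 IH) (Lpr_et (K10.f170308 IH) (Lpn (LP (LK LD1_c0 LD2_c27 LD3_c29))))))
theorem f170663 : Led Lsl_bt (LP (LK LD1_c0 LD2_c31 LD3_c40)) = (LP (LK LD1_c1 LD2_c9 LD3_c9)) :=
  Lre_b IH (LK LD1_c0 LD2_c31 LD3_c40) (LK LD1_c1 LD2_c9 LD3_c9) Lrfl Lrfl
theorem f255041 : Led Lsl_gf (LP (LK LD1_c0 LD2_c58 LD3_c35)) = (LP (LK LD1_c1 LD2_c9 LD3_c9)) :=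
  Lgr Lrot124 (Lpr_bf (f238298 IH) (Lpe (K12.f167629 IH) (Lpr_gt (K9.f167626 IH) (Lpr_cf (f167307 IH) (Lpr_bt (f194112 IH) (Lpe (K10.f185839 IH) (Lpe (K12.f182511 IH) (Lpr_gt (f255033 IH) (Lpr_cf (K9.f170667 IH) (Lpr_bt (f170663 IH) (Lpn (LP (LK LD1_c1 LD2_c9 LD3_c9)))))))))))))
theorem f216820 : Led Lsl_gf (LP (LK LD1_c1 LD2_c1 LD3_c29)) = (LP (LK LD1_c0 LD2_c28 LD3_c7)) :=
  Lgr Lrot147 (Lpr_ct (K12.f181966 IH) (Lpr_gt (K12.f210335 IH) (Lpr_ct (K13.f179872 IH) (Lpe (K11.f182327 IH) (Lpr_cf (K12.f216808 IH) (Lpe (K12.f177899 IH) (Lpe (K1.f28953 IH) (Lpe (K9.f27826 IH) (Lpe (K9.f34768 IH) (Lpn (LP (LK LD1_c0 LD2_c28 LD3_c7))))))))))))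
theorem f254977 : Led Lsl_dt (LP (LK LD1_c0 LD2_c59 LD3_c27)) = (LP (LK LD1_c1 LD2_c1 LD3_c29)) :=
  Lgr Lrot6 (Lpr_gt (f254965 IH) (Lpr_ct (f196367 IH) (Lpr_gt (f227936 IH) (Lpr_ct (K10.f6957 IH) (Lpe (K10.f6929 IH) (Lpe (K12.f53106 IH) (Lpe (K12.f225024 IH) (Lpe (K12.f173281 IH) (Lpe (K12.f173342 IH) (Lpn (LP (LK LD1_c1 LD2_c1 LD3_c29))))))))))))
theorem f255060 : Led Lsl_et (LP (LK LD1_c0 LD2_c59 LD3_c27)) = (LP (LK LD1_c1 LD2_c9 LD3_c9)) :=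
  Lgr Lrot121 (Lpr_dt (f254977 IH) (Lpr_gf (f216820 IH) (Lpe (K9.f166460 IH) (Lpr_et (K11.f166455 IH) (Lpr_gf (f227188 IH) (Lpr_ef (K10.f180118 IH) (Lpr_dt (K11.f32070 IH) (Lpe (K12.f212021 IH) (Lpr_df (K13.f227285 IH) (Lpr_gf (f255041 IH) (Lpn (LP (LK LD1_c1 LD2_c9 LD3_c9)))))))))))))
theorem f255047 : Led Lsl_ft (LP (LK LD1_c1 LD2_c9 LD3_c9)) = (LP (LK LD1_c0 LD2_c31 LD3_c37)) :=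
  Lre_f IH (LK LD1_c1 LD2_c9 LD3_c9) (LK LD1_c0 LD2_c31 LD3_c37) Lrfl Lrfl
theorem f255066 : Led Lsl_ff (LP (LK LD1_c0 LD2_c11 LD3_c60)) = (LP (LK LD1_c0 LD2_c14 LD3_c0)) :=
  Lgr Lrot72 (Lpr_et (K11.f201064 IH) (Lpr_ft (K12.f201260 IH) (Lpr_et (f255060 IH) (Lpr_ft (f255047 IH) (Lpr_et (K10.f193344 IH) (Lpn (LP (LK LD1_c0 LD2_c14 LD3_c0))))))))
theorem f255076 : Led Lsl_at (LP (LK LD1_c0 LD2_c11 LD3_c60)) = (LP (LK LD1_c0 LD2_c12 LD3_c11)) :=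
  Lgr Lrot26 (Lpr_ff (f255066 IH) (Lpr_gt (K10.f193333 IH) (Lpe (K9.f179842 IH) (Lpn (LP (LK LD1_c0 LD2_c12 LD3_c11))))))
theorem f255084 : Led Lsl_af (LP (LK LD1_c0 LD2_c27 LD3_c4)) = (LP (LK LD1_c0 LD2_c27 LD3_c34)) :=
  Lgr Lrot50 (Lpr_et (K11.f28524 IH) (Lpr_at (f255076 IH) (Lpr_et (K11.f180122 IH) (Lpn (LP (LK LD1_c0 LD2_c27 LD3_c34))))))
theorem f56563 : Led Lsl_gt (LP (LK LD1_c0 LD2_c32 LD3_c35)) = (LP (LK LD1_c1 LD2_c10 LD3_c23)) :=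
  Lre_g IH (LK LD1_c0 LD2_c32 LD3_c35) (LK LD1_c1 LD2_c10 LD3_c23) Lrfl Lrfl
theorem f168199 : Led Lsl_ct (LP (LK LD1_c1 LD2_c10 LD3_c23)) = (LP (LK LD1_c2 LD2_c26 LD3_c16)) :=
  Lre_c IH (LK LD1_c1 LD2_c10 LD3_c23) (LK LD1_c2 LD2_c26 LD3_c16) Lrfl Lrfl
theorem f239112 : Led Lsl_dt (LP (LK LD1_c2 LD2_c26 LD3_c16)) = (LP (LK LD1_c4 LD2_c23 LD3_c8)) :=
  Lgr Lrot27 (Lpe (f168199 IH) (Lpe (f56563 IH) (Lpe (K12.f56556 IH) (Lpe (K12.f182328 IH) (Lpr_df (K13.f239101 IH) (Lpr_gt (K13.f181783 IH) (Lpr_ct (K13.f224996 IH) (Lpr_gt (K13.f237216 IH) (Lpe (K13.f237702 IH) (Lpn (LP (LK LD1_c4 LD2_c23 LD3_c8))))))))))))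
theorem f255090 : Led Lsl_ft (LP (LK LD1_c1 LD2_c0 LD3_c35)) = (LP (LK LD1_c0 LD2_c27 LD3_c34)) :=
  Lre_f IH (LK LD1_c1 LD2_c0 LD3_c35) (LK LD1_c0 LD2_c27 LD3_c34) Lrfl Lrfl
theorem f255095 : Led Lsl_df (LP (LK LD1_c1 LD2_c10 LD3_c23)) = (LP (LK LD1_c1 LD2_c0 LD3_c35)) :=
  Lgr Lrot157 (Lpr_ct (f168199 IH) (Lpr_dt (f239112 IH) (Lpr_ct (K13.f237694 IH) (Lpr_dt (K13.f201277 IH) (Lpr_ct (K13.f201276 IH) (Lpr_dt (K13.f201275 IH) (Lpr_ct (K12.f201273 IH) (Lpr_af (f255084 IH) (Lpe (f255090 IH) (Lpn (LP (LK LD1_c1 LD2_c0 LD3_c35))))))))))))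
theorem f182338 : Led Lsl_ct (LP (LK LD1_c2 LD2_c26 LD3_c16)) = (LP (LK LD1_c1 LD2_c10 LD3_c23)) :=
  Lre_c IH (LK LD1_c2 LD2_c26 LD3_c16) (LK LD1_c1 LD2_c10 LD3_c23) Lrfl Lrfl
theorem f253578 : Led Lsl_ct (LP (LK LD1_c2 LD2_c7 LD3_c3)) = (LP (LK LD1_c1 LD2_c0 LD3_c35)) :=
  Lre_c IH (LK LD1_c2 LD2_c7 LD3_c3) (LK LD1_c1 LD2_c0 LD3_c35) Lrfl Lrfl
theorem f200373 : Led Lsl_bf (LP (LK LD1_c0 LD2_c11 LD3_c53)) = (LP (LK LD1_c0 LD2_c14 LD3_c4)) :=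
  Lgr Lrot96 (Lpr_et (K9.f51588 IH) (Lpr_bt (K11.f200369 IH) (Lpr_et (K9.f20689 IH) (Lpn (LP (LK LD1_c0 LD2_c14 LD3_c4))))))
theorem f211514 : Led Lsl_bt (LP (LK LD1_c0 LD2_c26 LD3_c41)) = (LP (LK LD1_c0 LD2_c56 LD3_c25)) :=
  Lgr Lrot95 (Lpe (K9.f53205 IH) (Lpr_bf (K12.f211510 IH) (Lpe (K12.f28992 IH) (Lpn (LP (LK LD1_c0 LD2_c56 LD3_c25))))))
theorem f211565 : Led Lsl_bf (LP (LK LD1_c0 LD2_c26 LD3_c48)) = (LP (LK LD1_c0 LD2_c56 LD3_c32)) :=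
  Lgr Lrot96 (Lpe (K9.f178477 IH) (Lpr_bt (f211514 IH) (Lpe (K12.f211506 IH) (Lpn (LP (LK LD1_c0 LD2_c56 LD3_c32))))))
theorem f28962 : Led Lsl_cf (LP (LK LD1_c0 LD2_c56 LD3_c25)) = (LP (LK LD1_c1 LD2_c58 LD3_c44)) :=
  Lgr Lrot166 (Lpr_gt (K12.f28785 IH) (Lpr_dt (K10.f28166 IH) (Lpe (K10.f28782 IH) (Lpr_dt (K8.f28611 IH) (Lpr_ct (K0.f28702 IH) (Lpe (K0.f28618 IH) (Lpr_gf (K11.f28815 IH) (Lpe (K11.f28139 IH) (Lpe (K13.f28841 IH) (Lpn (LP (LK LD1_c1 LD2_c58 LD3_c44))))))))))))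
theorem f227221 : Led Lsl_cf (LP (LK LD1_c1 LD2_c58 LD3_c53)) = (LP (LK LD1_c0 LD2_c56 LD3_c32)) :=
  Lgr Lrot39 (Lpr_et (K13.f227219 IH) (Lpe (f28962 IH) (Lpe (K12.f211506 IH) (Lpn (LP (LK LD1_c0 LD2_c56 LD3_c32))))))
theorem f253554 : Led Lsl_bt (LP (LK LD1_c1 LD2_c0 LD3_c35)) = (LP (LK LD1_c0 LD2_c27 LD3_c41)) :=
  Lre_b IH (LK LD1_c1 LD2_c0 LD3_c35) (LK LD1_c0 LD2_c27 LD3_c41) Lrfl Lrfl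
theorem f253555 : Led Lsl_ct (LP (LK LD1_c1 LD2_c0 LD3_c35)) = (LP (LK LD1_c2 LD2_c7 LD3_c3)) :=
  Lre_c IH (LK LD1_c1 LD2_c0 LD3_c35) (LK LD1_c2 LD2_c7 LD3_c3) Lrfl Lrfl
theorem f253579 : Led Lsl_gt (LP (LK LD1_c1 LD2_c58 LD3_c53)) = (LP (LK LD1_c2 LD2_c7 LD3_c3)) :=
  Lgr Lrot65 (Lpr_cf (f227221 IH) (Lpe (f211565 IH) (Lpe (K9.f53314 IH) (Lpr_bf (f200373 IH) (Lpe (K9.f171157 IH) (Lpe (K9.f183229 IH) (Lpe (K9.f183199 IH) (Lpr_gf (f253570 IH) (Lpe (f253554 IH) (Lpr_ct (f253555 IH) (Lpn (LP (LK LD1_c2 LD2_c7 LD3_c3)))))))))))))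
theorem f255107 : Led Lsl_gf (LP (LK LD1_c2 LD2_c26 LD3_c16)) = (LP (LK LD1_c1 LD2_c56 LD3_c11)) :=
  Lgr Lrot104 (Lpr_ct (f182338 IH) (Lpr_df (f255095 IH) (Lpe (f253578 IH) (Lpe (f253579 IH) (Lpr_cf (f227221 IH) (Lpe (K12.f53109 IH) (Lpe (K10.f6929 IH) (Lpe (K12.f224990 IH) (Lpr_ct (K11.f53320 IH) (Lpn (LP (LK LD1_c1 LD2_c56 LD3_c11))))))))))))
theorem f39032 : Led Lsl_af (LP (LK LD1_c3 LD2_c57 LD3_c8)) = (LP (LK LD1_c2 LD2_c8 LD3_c32)) :=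
  Lgr Lrot117 (Lpr_dt (K12.f39031 IH) (Lpr_at (K1.f38998 IH) (Lpr_dt (K1.f38930 IH) (Lpn (LP (LK LD1_c2 LD2_c8 LD3_c32))))))
theorem f38922 : Led Lsl_ft (LP (LK LD1_c3 LD2_c57 LD3_c36)) = (LP (LK LD1_c1 LD2_c55 LD3_c32)) :=
  Lre_f IH (LK LD1_c3 LD2_c57 LD3_c36) (LK LD1_c1 LD2_c55 LD3_c32) Lrfl Lrfl
theorem f38952 : Led Lsl_ft (LP (LK LD1_c3 LD2_c57 LD3_c34)) = (LP (LK LD1_c2 LD2_c8 LD3_c32)) :=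
  Lgr Lrot4 (Lpe (K1.f38951 IH) (Lpe (f38922 IH) (Lpr_cf (K1.f38931 IH) (Lpn (LP (LK LD1_c2 LD2_c8 LD3_c32))))))
theorem f236888 : Led Lsl_gt (LP (LK LD1_c3 LD2_c57 LD3_c34)) = (LP (LK LD1_c4 LD2_c56 LD3_c47)) :=
  Lgr Lrot5 (Lpr_ft (f38952 IH) (Lpe (f39032 IH) (Lpr_gf (K13.f236855 IH) (Lpn (LP (LK LD1_c4 LD2_c56 LD3_c47))))))
theorem f255109 : Led Lsl_gt (LP (LK LD1_c1 LD2_c10 LD3_c23)) = (LP (LK LD1_c0 LD2_c54 LD3_c26)) :=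
  Lgr Lrot150 (Lpe (f182338 IH) (Lpr_gf (f255107 IH) (Lpe (K12.f193485 IH) (Lpr_gt (K11.f35667 IH) (Lpr_ct (K1.f38951 IH) (Lpr_gt (f236888 IH) (Lpe (K13.f236757 IH) (Lpe (K11.f211110 IH) (Lpe (K11.f174950 IH) (Lpn (LP (LK LD1_c0 LD2_c54 LD3_c26))))))))))))
theorem f253562 : Led Lsl_bt (LP (LK LD1_c0 LD2_c27 LD3_c41)) = (LP (LK LD1_c1 LD2_c0 LD3_c35)) :=
  Lre_b IH (LK LD1_c0 LD2_c27 LD3_c41) (LK LD1_c1 LD2_c0 LD3_c35) Lrfl Lrfl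
theorem f253563 : Led Lsl_ef (LP (LK LD1_c0 LD2_c58 LD3_c37)) = (LP (LK LD1_c1 LD2_c0 LD3_c35)) :=
  Lgr Lrot29 (Lpr_bt (f199156 IH) (Lpr_et (f253560 IH) (Lpr_bt (f253562 IH) (Lpn (LP (LK LD1_c1 LD2_c0 LD3_c35))))))
theorem f255128 : Led Lsl_gf (LP (LK LD1_c0 LD2_c58 LD3_c37)) = (LP (LK LD1_c0 LD2_c56 LD3_c38)) :=
  Lgr Lrot141 (Lpr_ef (f253563 IH) (Lpe (f255095 IH) (Lpr_gt (f255109 IH) (Lpe (K13.f28525 IH) (Lpr_et (K10.f28530 IH) (Lpr_gt (K13.f242289 IH) (Lpr_dt (K13.f187900 IH) (Lpe (K10.f194129 IH) (Lpe (K10.f47065 IH) (Lpr_et (K12.f80939 IH) (Lpn (LP (LK LD1_c0 LD2_c56 LD3_c38)))))))))))))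
theorem f187899 : Led Lsl_et (LP (LK LD1_c0 LD2_c34 LD3_c5)) = (LP (LK LD1_c0 LD2_c15 LD3_c17)) :=
  Lre_e IH (LK LD1_c0 LD2_c34 LD3_c5) (LK LD1_c0 LD2_c15 LD3_c17) Lrfl Lrfl
theorem f237348 : Led Lsl_ef (LP (LK LD1_c1 LD2_c13 LD3_c38)) = (LP (LK LD1_c2 LD2_c8 LD3_c61)) :=
  Lgr Lrot73 (Lpr_dt (K13.f194132 IH) (Lpr_et (f187899 IH) (Lpr_dt (K11.f171682 IH) (Lpe (K11.f205331 IH) (Lpr_dt (K13.f237342 IH) (Lpn (LP (LK LD1_c2 LD2_c8 LD3_c61))))))))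
theorem f193104 : Led Lsl_et (LP (LK LD1_c1 LD2_c59 LD3_c30)) = (LP (LK LD1_c0 LD2_c56 LD3_c35)) :=
  Lre_e IH (LK LD1_c1 LD2_c59 LD3_c30) (LK LD1_c0 LD2_c56 LD3_c35) Lrfl Lrfl
theorem f237346 : Led Lsl_df (LP (LK LD1_c1 LD2_c1 LD3_c58)) = (LP (LK LD1_c2 LD2_c8 LD3_c61)) :=
  Lgr Lrot38 (Lpr_dt (K13.f237342 IH) (Lpn (LP (LK LD1_c2 LD2_c8 LD3_c61))))
theorem f70223 : Led Lsl_et (LP (LK LD1_c1 LD2_c1 LD3_c52)) = (LP (LK LD1_c0 LD2_c28 LD3_c13)) :=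
  Lre_e IH (LK LD1_c1 LD2_c1 LD3_c52) (LK LD1_c0 LD2_c28 LD3_c13) Lrfl Lrfl
theorem f205435 : Led Lsl_ft (LP (LK LD1_c2 LD2_c9 LD3_c31)) = (LP (LK LD1_c1 LD2_c1 LD3_c52)) :=
  Lre_f IH (LK LD1_c2 LD2_c9 LD3_c31) (LK LD1_c1 LD2_c1 LD3_c52) Lrfl Lrfl
theorem f205453 : Led Lsl_ef (LP (LK LD1_c2 LD2_c9 LD3_c31)) = (LP (LK LD1_c1 LD2_c31 LD3_c12)) :=
  Lgr Lrot21 (Lpr_ft (f205435 IH) (Lpr_et (f70223 IH) (Lpr_ft (K11.f205444 IH) (Lpr_et (K13.f70532 IH) (Lpr_ft (K13.f205452 IH) (Lpn (LP (LK LD1_c1 LD2_c31 LD3_c12))))))))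
theorem f36469 : Led Lsl_ct (LP (LK LD1_c2 LD2_c9 LD3_c31)) = (LP (LK LD1_c1 LD2_c1 LD3_c54)) :=
  Lre_c IH (LK LD1_c2 LD2_c9 LD3_c31) (LK LD1_c1 LD2_c1 LD3_c54) Lrfl Lrfl
theorem f205455 : Led Lsl_et (LP (LK LD1_c1 LD2_c1 LD3_c54)) = (LP (LK LD1_c0 LD2_c42 LD3_c5)) :=
  Lgr Lrot158 (Lpe (f36469 IH) (Lpr_ef (f205453 IH) (Lpe (K11.f36467 IH) (Lpn (LP (LK LD1_c0 LD2_c42 LD3_c5))))))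
theorem f205109 : Led Lsl_dt (LP (LK LD1_c0 LD2_c42 LD3_c14)) = (LP (LK LD1_c1 LD2_c31 LD3_c29)) :=
  Lre_d IH (LK LD1_c0 LD2_c42 LD3_c14) (LK LD1_c1 LD2_c31 LD3_c29) Lrfl Lrfl
theorem f237358 : Led Lsl_gf (LP (LK LD1_c1 LD2_c1 LD3_c41)) = (LP (LK LD1_c1 LD2_c31 LD3_c29)) :=
  Lgr Lrot134 (Lpe (K13.f237335 IH) (Lpr_et (f193104 IH) (Lpr_gt (K13.f196103 IH) (Lpr_ef (f237348 IH) (Lpe (f237346 IH) (Lpr_gt (K11.f205626 IH) (Lpr_df (K1.f36434 IH) (Lpr_et (f205455 IH) (Lpr_gt (K11.f210563 IH) (Lpr_dt (f205109 IH) (Lpn (LP (LK LD1_c1 LD2_c31 LD3_c29)))))))))))))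
theorem f210584 : Led Lsl_et (LP (LK LD1_c1 LD2_c0 LD3_c51)) = (LP (LK LD1_c1 LD2_c31 LD3_c29)) :=
  Lgr Lrot87 (Lpr_ef (f210577 IH) (Lpn (LP (LK LD1_c1 LD2_c31 LD3_c29))))
theorem f255136 : Led Lsl_df (LP (LK LD1_c0 LD2_c58 LD3_c37)) = (LP (LK LD1_c1 LD2_c0 LD3_c51)) :=
  Lgr Lrot168 (Lpr_gf (f255128 IH) (Lpe (K12.f201313 IH) (Lpr_et (K12.f204899 IH) (Lpe (K12.f210953 IH) (Lpe (K12.f36458 IH) (Lpr_dt (K12.f36450 IH) (Lpe (K10.f56331 IH) (Lpr_df (K13.f237330 IH) (Lpr_gf (f237358 IH) (Lpe (f210584 IH) (Lpn (LP (LK LD1_c1 LD2_c0 LD3_c51)))))))))))))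
theorem f253523 : Led Lsl_gf (LP (LK LD1_c1 LD2_c9 LD3_c8)) = (LP (LK LD1_c0 LD2_c58 LD3_c37)) :=
  Lgr Lrot124 (Lpr_bf (K13.f232891 IH) (Lpe (f216361 IH) (Lpr_gt (K12.f170847 IH) (Lpe (K13.f170684 IH) (Lpr_bt (K11.f170647 IH) (Lpr_gt (K9.f178979 IH) (Lpr_ct (K9.f177192 IH) (Lpr_gt (f253519 IH) (Lpe (f199157 IH) (Lpr_bt (K12.f199164 IH) (Lpn (LP (LK LD1_c0 LD2_c58 LD3_c37)))))))))))))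
theorem f80966 : Led Lsl_ft (LP (LK LD1_c1 LD2_c1 LD3_c39)) = (LP (LK LD1_c2 LD2_c8 LD3_c57)) :=
  Lre_f IH (LK LD1_c1 LD2_c1 LD3_c39) (LK LD1_c2 LD2_c8 LD3_c57) Lrfl Lrfl
theorem f239402 : Led Lsl_et (LP (LK LD1_c2 LD2_c8 LD3_c57)) = (LP (LK LD1_c2 LD2_c26 LD3_c26)) :=
  Lgr Lrot69 (Lpe (f80966 IH) (Lpe (K10.f80964 IH) (Lpr_ff (K13.f239394 IH) (Lpe (K13.f174951 IH) (Lpe (K13.f196379 IH) (Lpn (LP (LK LD1_c2 LD2_c26 LD3_c26))))))))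
theorem f255146 : Led Lsl_gt (LP (LK LD1_c2 LD2_c26 LD3_c26)) = (LP (LK LD1_c1 LD2_c31 LD3_c29)) :=
  Lgr Lrot131 (Lpe (f239402 IH) (Lpe (K13.f241389 IH) (Lpe (K10.f68603 IH) (Lpr_df (K1.f59595 IH) (Lpe (K13.f60634 IH) (Lpr_ef (K13.f240766 IH) (Lpe (K13.f240748 IH) (Lpr_gf (f253523 IH) (Lpr_df (f255136 IH) (Lpr_et (f210584 IH) (Lpn (LP (LK LD1_c1 LD2_c31 LD3_c29)))))))))))))
theorem f227313 : Led Lsl_gf (LP (LK LD1_c2 LD2_c28 LD3_c1)) = (LP (LK LD1_c2 LD2_c9 LD3_c32)) :=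
  Lgr Lrot141 (Lpe (K13.f175843 IH) (Lpr_dt (K10.f175816 IH) (Lpe (K10.f185987 IH) (Lpe (K10.f198043 IH) (Lpr_et (K10.f198039 IH) (Lpe (K10.f56072 IH) (Lpe (K12.f28540 IH) (Lpr_gt (K12.f227309 IH) (Lpe (K10.f193386 IH) (Lpr_et (K10.f36452 IH) (Lpn (LP (LK LD1_c2 LD2_c9 LD3_c32)))))))))))))
theorem f255150 : Led Lsl_ef (LP (LK LD1_c1 LD2_c10 LD3_c23)) = (LP (LK LD1_c0 LD2_c42 LD3_c14)) :=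
  Lgr Lrot114 (Lpr_gt (f255109 IH) (Lpe (K10.f28532 IH) (Lpe (K12.f28540 IH) (Lpr_gt (K12.f227309 IH) (Lpe (K10.f193386 IH) (Lpr_et (K10.f36452 IH) (Lpe (f227313 IH) (Lpr_dt (K13.f241383 IH) (Lpr_gt (f255146 IH) (Lpe (f205109 IH) (Lpn (LP (LK LD1_c0 LD2_c42 LD3_c14)))))))))))))
theorem f255156 : Led Lsl_et (LP (LK LD1_c1 LD2_c10 LD3_c23)) = (LP (LK LD1_c0 LD2_c42 LD3_c14)) :=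
  Lgr Lrot87 (Lpr_ef (f255150 IH) (Lpn (LP (LK LD1_c0 LD2_c42 LD3_c14))))
theorem f255162 : Led Lsl_ef (LP (LK LD1_c1 LD2_c0 LD3_c35)) = (LP (LK LD1_c0 LD2_c58 LD3_c37)) :=
  Lgr Lrot73 (Lpe (f255095 IH) (Lpr_et (f255156 IH) (Lpr_dt (f205109 IH) (Lpe (f210577 IH) (Lpe (f255136 IH) (Lpn (LP (LK LD1_c0 LD2_c58 LD3_c37))))))))
theorem f199170 : Led Lsl_ft (LP (LK LD1_c0 LD2_c26 LD3_c34)) = (LP (LK LD1_c0 LD2_c58 LD3_c37)) :=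
  Lre_f IH (LK LD1_c0 LD2_c26 LD3_c34) (LK LD1_c0 LD2_c58 LD3_c37) Lrfl Lrfl
theorem f255168 : Led Lsl_ft (LP (LK LD1_c0 LD2_c12 LD3_c11)) = (LP (LK LD1_c0 LD2_c11 LD3_c47)) :=
  Lgr Lrot86 (Lpe (K9.f180104 IH) (Lpe (f255090 IH) (Lpr_ef (f255162 IH) (Lpe (f199170 IH) (Lpe (K12.f166458 IH) (Lpn (LP (LK LD1_c0 LD2_c11 LD3_c47))))))))
theorem f255176 : Led Lsl_ff (LP (LK LD1_c0 LD2_c12 LD3_c11)) = (LP (LK LD1_c0 LD2_c11 LD3_c47)) :=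
  Lgr Lrot3 (Lpr_ft (f255168 IH) (Lpn (LP (LK LD1_c0 LD2_c11 LD3_c47))))
theorem f255182 : Led Lsl_ft (LP (LK LD1_c0 LD2_c27 LD3_c33)) = (LP (LK LD1_c0 LD2_c26 LD3_c33)) :=
  Lgr Lrot54 (Lpe (K11.f180099 IH) (Lpr_ff (f255176 IH) (Lpe (K11.f166446 IH) (Lpn (LP (LK LD1_c0 LD2_c26 LD3_c33))))))
theorem f255188 : Led Lsl_af (LP (LK LD1_c0 LD2_c31 LD3_c36)) = (LP (LK LD1_c0 LD2_c26 LD3_c33)) :=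
  Lgr Lrot31 (Lpr_gf (K11.f193348 IH) (Lpr_gf (f227188 IH) (Lpr_ft (f255182 IH) (Lpn (LP (LK LD1_c0 LD2_c26 LD3_c33))))))
theorem f255194 : Led Lsl_at (LP (LK LD1_c1 LD2_c1 LD3_c32)) = (LP (LK LD1_c0 LD2_c58 LD3_c33)) :=
  Lgr Lrot80 (Lpe (K10.f193368 IH) (Lpr_af (f255188 IH) (Lpe (K12.f166463 IH) (Lpn (LP (LK LD1_c0 LD2_c58 LD3_c33))))))
theorem f255202 : Led Lsl_ff (LP (LK LD1_c1 LD2_c1 LD3_c32)) = (LP (LK LD1_c0 LD2_c34 LD3_c5)) :=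
  Lgr Lrot103 (Lpr_at (f255194 IH) (Lpe (K13.f53170 IH) (Lpr_df (K13.f237005 IH) (Lpe (K13.f182004 IH) (Lpr_df (K13.f242553 IH) (Lpr_cf (K13.f242281 IH) (Lpe (K13.f196105 IH) (Lpe (K10.f181141 IH) (Lpe (K13.f187900 IH) (Lpn (LP (LK LD1_c0 LD2_c34 LD3_c5))))))))))))
theorem f255210 : Led Lsl_ft (LP (LK LD1_c1 LD2_c1 LD3_c32)) = (LP (LK LD1_c0 LD2_c34 LD3_c5)) :=
  Lgr Lrot48 (Lpr_ff (f255202 IH) (Lpn (LP (LK LD1_c0 LD2_c34 LD3_c5))))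
theorem f255220 : Led Lsl_af (LP (LK LD1_c1 LD2_c0 LD3_c60)) = (LP (LK LD1_c0 LD2_c34 LD3_c5)) :=
  Lgr Lrot31 (Lpe (K13.f242789 IH) (Lpe (K10.f173268 IH) (Lpr_ft (f255210 IH) (Lpn (LP (LK LD1_c0 LD2_c34 LD3_c5))))))
theorem f255196 : Led Lsl_af (LP (LK LD1_c1 LD2_c1 LD3_c32)) = (LP (LK LD1_c0 LD2_c58 LD3_c33)) :=
  Lgr Lrot0 (Lpr_at (f255194 IH) (Lpn (LP (LK LD1_c0 LD2_c58 LD3_c33))))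
theorem f255230 : Led Lsl_ft (LP (LK LD1_c1 LD2_c0 LD3_c60)) = (LP (LK LD1_c0 LD2_c58 LD3_c33)) :=
  Lgr Lrot101 (Lpr_af (f255220 IH) (Lpe (f255210 IH) (Lpr_af (f255196 IH) (Lpn (LP (LK LD1_c0 LD2_c58 LD3_c33))))))
theorem f255240 : Led Lsl_ff (LP (LK LD1_c1 LD2_c0 LD3_c60)) = (LP (LK LD1_c0 LD2_c58 LD3_c33)) :=
  Lgr Lrot3 (Lpr_ft (f255230 IH) (Lpn (LP (LK LD1_c0 LD2_c58 LD3_c33))))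
theorem f255248 : Led Lsl_ft (LP (LK LD1_c0 LD2_c27 LD3_c48)) = (LP (LK LD1_c0 LD2_c27 LD3_c43)) :=
  Lgr Lrot86 (Lpe (K13.f36340 IH) (Lpr_ff (f255240 IH) (Lpe (K12.f166447 IH) (Lpe (f255182 IH) (Lpr_ef (K10.f180118 IH) (Lpn (LP (LK LD1_c0 LD2_c27 LD3_c43))))))))
theorem f255256 : Led Lsl_af (LP (LK LD1_c0 LD2_c14 LD3_c58)) = (LP (LK LD1_c0 LD2_c27 LD3_c43)) :=
  Lgr Lrot31 (Lpr_gf (K11.f201311 IH) (Lpe (K10.f28619 IH) (Lpr_ft (f255248 IH) (Lpn (LP (LK LD1_c0 LD2_c27 LD3_c43))))))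
theorem f31645 : Led Lsl_ct (LP (LK LD1_c2 LD2_c29 LD3_c48)) = (LP (LK LD1_c1 LD2_c11 LD3_c57)) :=
  Lre_c IH (LK LD1_c2 LD2_c29 LD3_c48) (LK LD1_c1 LD2_c11 LD3_c57) Lrfl Lrfl
theorem f31644 : Led Lsl_dt (LP (LK LD1_c5 LD2_c4 LD3_c61)) = (LP (LK LD1_c2 LD2_c29 LD3_c48)) :=
  Lre_d IH (LK LD1_c5 LD2_c4 LD3_c61) (LK LD1_c2 LD2_c29 LD3_c48) Lrfl Lrfl
theorem f255258 : Led Lsl_ct (LP (LK LD1_c4 LD2_c20 LD3_c32)) = (LP (LK LD1_c5 LD2_c4 LD3_c61)) :=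
  Lgr Lrot41 (Lpe (K12.f36355 IH) (Lpe (K12.f36344 IH) (Lpe (K12.f36339 IH) (Lpr_ft (f255248 IH) (Lpe (f255256 IH) (Lpe (K11.f31626 IH) (Lpe (K13.f31627 IH) (Lpe (f31645 IH) (Lpe (f31644 IH) (Lpn (LP (LK LD1_c5 LD2_c4 LD3_c61))))))))))))
theorem f28708 : Led Lsl_dt (LP (LK LD1_c2 LD2_c7 LD3_c60)) = (LP (LK LD1_c4 LD2_c20 LD3_c59)) :=
  Lre_d IH (LK LD1_c2 LD2_c7 LD3_c60) (LK LD1_c4 LD2_c20 LD3_c59) Lrfl Lrfl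
theorem f201399 : Led Lsl_cf (LP (LK LD1_c4 LD2_c25 LD3_c12)) = (LP (LK LD1_c4 LD2_c20 LD3_c59)) :=
  Lgr Lrot55 (Lpr_dt (K2.f70817 IH) (Lpr_ct (K11.f201379 IH) (Lpr_dt (K1.f31544 IH) (Lpr_ct (K0.f31535 IH) (Lpr_dt (K11.f31139 IH) (Lpr_ct (K9.f31191 IH) (Lpr_dt (K11.f36945 IH) (Lpr_ct (K11.f36944 IH) (Lpr_dt (K11.f36943 IH) (Lpe (K11.f36938 IH) (Lpr_dt (K8.f28611 IH) (Lpr_ct (K0.f28702 IH) (Lpr_dt (K11.f28706 IH) (Lpr_ct (K10.f28707 IH) (Lpr_dt (f28708 IH) (Lpn (LP (LK LD1_c4 LD2_c20 LD3_c59))))))))))))))))))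
theorem f255269 : Led Lsl_dt (LP (LK LD1_c2 LD2_c29 LD3_c48)) = (LP (LK LD1_c5 LD2_c4 LD3_c61)) :=
  Lre_d IH (LK LD1_c2 LD2_c29 LD3_c48) (LK LD1_c5 LD2_c4 LD3_c61) Lrfl Lrfl
theorem f31643 : Led Lsl_ct (LP (LK LD1_c1 LD2_c11 LD3_c57)) = (LP (LK LD1_c2 LD2_c29 LD3_c48)) :=
  Lre_c IH (LK LD1_c1 LD2_c11 LD3_c57) (LK LD1_c2 LD2_c29 LD3_c48) Lrfl Lrfl
theorem f31628 : Led Lsl_gt (LP (LK LD1_c2 LD2_c29 LD3_c47)) = (LP (LK LD1_c1 LD2_c11 LD3_c57)) :=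
  Lre_g IH (LK LD1_c2 LD2_c29 LD3_c47) (LK LD1_c1 LD2_c11 LD3_c57) Lrfl Lrfl
theorem f31630 : Led Lsl_ct (LP (LK LD1_c5 LD2_c4 LD3_c56)) = (LP (LK LD1_c2 LD2_c29 LD3_c47)) :=
  Lre_c IH (LK LD1_c5 LD2_c4 LD3_c56) (LK LD1_c2 LD2_c29 LD3_c47) Lrfl Lrfl
theorem f255274 : Led Lsl_gt (LP (LK LD1_c2 LD2_c59 LD3_c46)) = (LP (LK LD1_c5 LD2_c4 LD3_c56)) :=
  Lgr Lrot9 (Lpe (K13.f182029 IH) (Lpr_gt (K13.f191289 IH) (Lpe (f201399 IH) (Lpe (K12.f204949 IH) (Lpr_ct (f255258 IH) (Lpe (f255269 IH) (Lpe (f31643 IH) (Lpe (f31628 IH) (Lpe (f31630 IH) (Lpn (LP (LK LD1_c5 LD2_c4 LD3_c56))))))))))))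
theorem f164964 : Led Lsl_dt (LP (LK LD1_c2 LD2_c29 LD3_c53)) = (LP (LK LD1_c5 LD2_c5 LD3_c8)) :=
  Lre_d IH (LK LD1_c2 LD2_c29 LD3_c53) (LK LD1_c5 LD2_c5 LD3_c8) Lrfl Lrfl
theorem f255278 : Led Lsl_dt (LP (LK LD1_c5 LD2_c4 LD3_c56)) = (LP (LK LD1_c10 LD2_c0 LD3_c57)) :=
  Lre_d IH (LK LD1_c5 LD2_c4 LD3_c56) (LK LD1_c10 LD2_c0 LD3_c57) Lrfl Lrfl
theorem f255283 : Led Lsl_cf (LP (LK LD1_c5 LD2_c5 LD3_c8)) = (LP (LK LD1_c10 LD2_c0 LD3_c57)) :=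
  Lgr Lrot14 (Lpe (f164964 IH) (Lpe (K12.f164963 IH) (Lpe (K11.f164953 IH) (Lpr_gf (K11.f201347 IH) (Lpr_ct (K13.f36958 IH) (Lpe (K13.f191287 IH) (Lpr_dt (K13.f182029 IH) (Lpr_gt (f255274 IH) (Lpr_dt (f255278 IH) (Lpn (LP (LK LD1_c10 LD2_c0 LD3_c57))))))))))))
theorem f253510 : Led Lsl_df (LP (LK LD1_c1 LD2_c0 LD3_c51)) = (LP (LK LD1_c0 LD2_c58 LD3_c37)) :=
  Lgr Lrot12 (Lpr_bt (f201582 IH) (Lpr_dt (f253506 IH) (Lpr_bt (K12.f199164 IH) (Lpn (LP (LK LD1_c0 LD2_c58 LD3_c37))))))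
theorem f201576 : Led Lsl_dt (LP (LK LD1_c4 LD2_c20 LD3_c6)) = (LP (LK LD1_c2 LD2_c7 LD3_c32)) :=
  Lre_d IH (LK LD1_c4 LD2_c20 LD3_c6) (LK LD1_c2 LD2_c7 LD3_c32) Lrfl Lrfl
theorem f255132 : Led Lsl_gf (LP (LK LD1_c4 LD2_c20 LD3_c6)) = (LP (LK LD1_c5 LD2_c5 LD3_c8)) :=
  Lgr Lrot143 (Lpr_dt (f201576 IH) (Lpe (K11.f32021 IH) (Lpr_df (f253510 IH) (Lpr_gf (f255128 IH) (Lpe (K12.f201313 IH) (Lpe (K12.f164980 IH) (Lpe (K11.f31647 IH) (Lpr_gt (K12.f164963 IH) (Lpr_dt (f164964 IH) (Lpn (LP (LK LD1_c5 LD2_c5 LD3_c8))))))))))))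
theorem f201357 : Led Lsl_dt (LP (LK LD1_c5 LD2_c5 LD3_c8)) = (LP (LK LD1_c2 LD2_c29 LD3_c53)) :=
  Lre_d IH (LK LD1_c5 LD2_c5 LD3_c8) (LK LD1_c2 LD2_c29 LD3_c53) Lrfl Lrfl
theorem f255311 : Led Lsl_gt (LP (LK LD1_c8 LD2_c14 LD3_c20)) = (LP (LK LD1_c10 LD2_c0 LD3_c57)) :=
  Lgr Lrot150 (Lpe (K13.f240960 IH) (Lpr_gf (K13.f240614 IH) (Lpe (K13.f192637 IH) (Lpe (K10.f189869 IH) (Lpr_ct (K10.f28789 IH) (Lpr_gt (K10.f192634 IH) (Lpe (K12.f204921 IH) (Lpe (f201357 IH) (Lpr_cf (f255283 IH) (Lpn (LP (LK LD1_c10 LD2_c0 LD3_c57))))))))))))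
theorem f31743 : Led Lsl_dt (LP (LK LD1_c8 LD2_c37 LD3_c55)) = (LP (LK LD1_c4 LD2_c19 LD3_c59)) :=
  Lre_d IH (LK LD1_c8 LD2_c37 LD3_c55) (LK LD1_c4 LD2_c19 LD3_c59) Lrfl Lrfl
theorem f255313 : Led Lsl_ct (LP (LK LD1_c4 LD2_c20 LD3_c6)) = (LP (LK LD1_c8 LD2_c37 LD3_c55)) :=
  Lgr Lrot110 (Lpr_gf (f255132 IH) (Lpr_cf (f255283 IH) (Lpe (f255311 IH) (Lpe (K13.f182595 IH) (Lpe (K9.f182589 IH) (Lpr_ct (K9.f28700 IH) (Lpe (K10.f31421 IH) (Lpr_ct (K11.f190095 IH) (Lpe (f31743 IH) (Lpn (LP (LK LD1_c8 LD2_c37 LD3_c55))))))))))))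
theorem f201577 : Led Lsl_dt (LP (LK LD1_c2 LD2_c7 LD3_c32)) = (LP (LK LD1_c4 LD2_c20 LD3_c6)) :=
  Lre_d IH (LK LD1_c2 LD2_c7 LD3_c32) (LK LD1_c4 LD2_c20 LD3_c6) Lrfl Lrfl
theorem f255316 : Led Lsl_at (LP (LK LD1_c0 LD2_c26 LD3_c34)) = (LP (LK LD1_c0 LD2_c31 LD3_c37)) :=
  Lgr Lrot33 (Lpe (K12.f199152 IH) (Lpe (f253510 IH) (Lpr_ct (K11.f32021 IH) (Lpr_dt (f201577 IH) (Lpr_ct (f255313 IH) (Lpr_dt (f31743 IH) (Lpe (K11.f201652 IH) (Lpr_dt (K13.f187930 IH) (Lpr_ct (K11.f170648 IH) (Lpn (LP (LK LD1_c0 LD2_c31 LD3_c37))))))))))))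
theorem f255321 : Led Lsl_af (LP (LK LD1_c0 LD2_c58 LD3_c36)) = (LP (LK LD1_c0 LD2_c34 LD3_c13)) :=
  Lgr Lrot117 (Lpr_dt (K12.f166419 IH) (Lpr_at (f255316 IH) (Lpr_dt (K10.f193345 IH) (Lpn (LP (LK LD1_c0 LD2_c34 LD3_c13))))))
theorem f255327 : Led Lsl_ft (LP (LK LD1_c0 LD2_c33 LD3_c29)) = (LP (LK LD1_c0 LD2_c34 LD3_c13)) :=
  Lgr Lrot2 (Lpe (K12.f204981 IH) (Lpe (K9.f166415 IH) (Lpr_af (f255321 IH) (Lpn (LP (LK LD1_c0 LD2_c34 LD3_c13))))))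
theorem f255337 : Led Lsl_ff (LP (LK LD1_c0 LD2_c33 LD3_c29)) = (LP (LK LD1_c0 LD2_c34 LD3_c13)) :=
  Lgr Lrot3 (Lpr_ft (f255327 IH) (Lpn (LP (LK LD1_c0 LD2_c34 LD3_c13))))
theorem f255345 : Led Lsl_at (LP (LK LD1_c0 LD2_c33 LD3_c29)) = (LP (LK LD1_c1 LD2_c0 LD3_c51)) :=
  Lgr Lrot26 (Lpr_ff (f255337 IH) (Lpr_gt (K10.f193353 IH) (Lpr_gt (K11.f32017 IH) (Lpn (LP (LK LD1_c1 LD2_c0 LD3_c51))))))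
theorem f255323 : Led Lsl_at (LP (LK LD1_c0 LD2_c58 LD3_c36)) = (LP (LK LD1_c0 LD2_c34 LD3_c13)) :=
  Lgr Lrot100 (Lpr_af (f255321 IH) (Lpn (LP (LK LD1_c0 LD2_c34 LD3_c13))))
theorem f255353 : Led Lsl_ff (LP (LK LD1_c0 LD2_c58 LD3_c36)) = (LP (LK LD1_c1 LD2_c0 LD3_c51)) :=
  Lgr Lrot30 (Lpr_at (f255323 IH) (Lpe (f255337 IH) (Lpr_at (f255345 IH) (Lpn (LP (LK LD1_c1 LD2_c0 LD3_c51))))))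
theorem f255236 : Led Lsl_ff (LP (LK LD1_c2 LD2_c0 LD3_c0)) = (LP (LK LD1_c1 LD2_c59 LD3_c28)) :=
  Lgr Lrot19 (Lpr_dt (K13.f241814 IH) (Lpr_ft (f255230 IH) (Lpe (K13.f227307 IH) (Lpn (LP (LK LD1_c1 LD2_c59 LD3_c28))))))
theorem f255357 : Led Lsl_ft (LP (LK LD1_c1 LD2_c31 LD3_c14)) = (LP (LK LD1_c1 LD2_c31 LD3_c29)) :=
  Lgr Lrot86 (Lpe (K13.f241816 IH) (Lpr_ff (f255236 IH) (Lpr_ef (K12.f227297 IH) (Lpr_ff (f255353 IH) (Lpr_ef (f210577 IH) (Lpn (LP (LK LD1_c1 LD2_c31 LD3_c29))))))))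
theorem f255367 : Led Lsl_ff (LP (LK LD1_c1 LD2_c31 LD3_c14)) = (LP (LK LD1_c1 LD2_c31 LD3_c29)) :=
  Lgr Lrot3 (Lpr_ft (f255357 IH) (Lpn (LP (LK LD1_c1 LD2_c31 LD3_c29))))
theorem f255375 : Led Lsl_at (LP (LK LD1_c1 LD2_c31 LD3_c14)) = (LP (LK LD1_c2 LD2_c8 LD3_c61)) :=
  Lgr Lrot26 (Lpr_ff (f255367 IH) (Lpe (f237358 IH) (Lpr_gt (K13.f237339 IH) (Lpn (LP (LK LD1_c2 LD2_c8 LD3_c61))))))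
theorem f255208 : Led Lsl_ft (LP (LK LD1_c1 LD2_c13 LD3_c51)) = (LP (LK LD1_c1 LD2_c13 LD3_c38)) :=
  Lgr Lrot54 (Lpr_df (K12.f193372 IH) (Lpr_ff (f255202 IH) (Lpe (K13.f194132 IH) (Lpn (LP (LK LD1_c1 LD2_c13 LD3_c38))))))
theorem f237356 : Led Lsl_et (LP (LK LD1_c1 LD2_c13 LD3_c38)) = (LP (LK LD1_c2 LD2_c8 LD3_c61)) :=
  Lgr Lrot87 (Lpr_ef (f237348 IH) (Lpn (LP (LK LD1_c2 LD2_c8 LD3_c61))))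
theorem f255335 : Led Lsl_ff (LP (LK LD1_c1 LD2_c12 LD3_c20)) = (LP (LK LD1_c2 LD2_c8 LD3_c61)) :=
  Lgr Lrot72 (Lpr_et (K12.f177133 IH) (Lpr_ft (f255327 IH) (Lpr_et (K13.f210633 IH) (Lpr_ft (f255208 IH) (Lpr_et (f237356 IH) (Lpn (LP (LK LD1_c2 LD2_c8 LD3_c61))))))))
theorem f255383 : Led Lsl_af (LP (LK LD1_c1 LD2_c31 LD3_c29)) = (LP (LK LD1_c1 LD2_c12 LD3_c20)) :=
  Lgr Lrot45 (Lpe (f255367 IH) (Lpr_at (f255375 IH) (Lpe (f255335 IH) (Lpn (LP (LK LD1_c1 LD2_c12 LD3_c20))))))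
theorem f255387 : Led Lsl_at (LP (LK LD1_c0 LD2_c42 LD3_c14)) = (LP (LK LD1_c0 LD2_c37 LD3_c52)) :=
  Lgr Lrot51 (Lpe (K13.f205110 IH) (Lpr_af (f255383 IH) (Lpr_df (K13.f177104 IH) (Lpn (LP (LK LD1_c0 LD2_c37 LD3_c52))))))
theorem f255373 : Led Lsl_ft (LP (LK LD1_c0 LD2_c42 LD3_c4)) = (LP (LK LD1_c0 LD2_c42 LD3_c14)) :=
  Lgr Lrot54 (Lpe (K13.f36347 IH) (Lpr_ff (f255367 IH) (Lpe (f205109 IH) (Lpn (LP (LK LD1_c0 LD2_c42 LD3_c14))))))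
theorem f255379 : Led Lsl_af (LP (LK LD1_c0 LD2_c42 LD3_c4)) = (LP (LK LD1_c1 LD2_c1 LD3_c58)) :=
  Lgr Lrot117 (Lpr_dt (K13.f36329 IH) (Lpr_at (f255375 IH) (Lpe (f237346 IH) (Lpn (LP (LK LD1_c1 LD2_c1 LD3_c58))))))
theorem f255393 : Led Lsl_ff (LP (LK LD1_c1 LD2_c1 LD3_c58)) = (LP (LK LD1_c0 LD2_c37 LD3_c52)) :=
  Lgr Lrot30 (Lpe (f255379 IH) (Lpr_ft (f255373 IH) (Lpr_at (f255387 IH) (Lpn (LP (LK LD1_c0 LD2_c37 LD3_c52))))))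
theorem f255399 : Led Lsl_ft (LP (LK LD1_c1 LD2_c1 LD3_c58)) = (LP (LK LD1_c0 LD2_c37 LD3_c52)) :=
  Lgr Lrot48 (Lpr_ff (f255393 IH) (Lpn (LP (LK LD1_c0 LD2_c37 LD3_c52))))
theorem f205321 : Led Lsl_ct (LP (LK LD1_c2 LD2_c9 LD3_c43)) = (LP (LK LD1_c1 LD2_c1 LD3_c58)) :=
  Lre_c IH (LK LD1_c2 LD2_c9 LD3_c43) (LK LD1_c1 LD2_c1 LD3_c58) Lrfl Lrfl
theorem f146308 : Led Lsl_ct (LP (LK LD1_c0 LD2_c37 LD3_c52)) = (LP (LK LD1_c1 LD2_c21 LD3_c51)) :=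
  Lre_c IH (LK LD1_c0 LD2_c37 LD3_c52) (LK LD1_c1 LD2_c21 LD3_c51) Lrfl Lrfl
theorem f255405 : Led Lsl_ff (LP (LK LD1_c2 LD2_c9 LD3_c43)) = (LP (LK LD1_c1 LD2_c21 LD3_c51)) :=
  Lgr Lrot23 (Lpr_ct (f205321 IH) (Lpr_ft (f255399 IH) (Lpr_ct (f146308 IH) (Lpn (LP (LK LD1_c1 LD2_c21 LD3_c51))))))
theorem f59088 : Led Lsl_ct (LP (LK LD1_c0 LD2_c40 LD3_c47)) = (LP (LK LD1_c0 LD2_c18 LD3_c16)) :=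
  Lre_c IH (LK LD1_c0 LD2_c40 LD3_c47) (LK LD1_c0 LD2_c18 LD3_c16) Lrfl Lrfl
theorem f227757 : Led Lsl_gf (LP (LK LD1_c1 LD2_c6 LD3_c25)) = (LP (LK LD1_c1 LD2_c21 LD3_c51)) :=
  Lgr Lrot104 (Lpr_ct (K11.f59077 IH) (Lpr_df (K13.f58983 IH) (Lpe (f59088 IH) (Lpe (K12.f38106 IH) (Lpr_cf (K12.f227743 IH) (Lpe (K12.f227730 IH) (Lpe (K12.f227712 IH) (Lpr_gt (K12.f205391 IH) (Lpr_ct (f146308 IH) (Lpn (LP (LK LD1_c1 LD2_c21 LD3_c51))))))))))))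
theorem f36343 : Led Lsl_ct (LP (LK LD1_c1 LD2_c31 LD3_c13)) = (LP (LK LD1_c0 LD2_c42 LD3_c4)) :=
  Lre_c IH (LK LD1_c1 LD2_c31 LD3_c13) (LK LD1_c0 LD2_c42 LD3_c4) Lrfl Lrfl
theorem f36345 : Led Lsl_ef (LP (LK LD1_c1 LD2_c31 LD3_c13)) = (LP (LK LD1_c2 LD2_c7 LD3_c45)) :=
  Lgr Lrot28 (Lpr_ct (f36343 IH) (Lpr_et (K13.f36341 IH) (Lpr_ct (K12.f36344 IH) (Lpn (LP (LK LD1_c2 LD2_c7 LD3_c45))))))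
theorem f38632 : Led Lsl_et (LP (LK LD1_c0 LD2_c30 LD3_c23)) = (LP (LK LD1_c1 LD2_c6 LD3_c25)) :=
  Lre_e IH (LK LD1_c0 LD2_c30 LD3_c23) (LK LD1_c1 LD2_c6 LD3_c25) Lrfl Lrfl
theorem f204961 : Led Lsl_gf (LP (LK LD1_c1 LD2_c31 LD3_c13)) = (LP (LK LD1_c1 LD2_c6 LD3_c25)) :=
  Lgr Lrot141 (Lpr_ef (f36345 IH) (Lpr_dt (K12.f36355 IH) (Lpr_gt (K12.f204947 IH) (Lpe (K11.f36959 IH) (Lpr_et (K11.f37036 IH) (Lpe (K1.f38619 IH) (Lpr_dt (K1.f16616 IH) (Lpr_gt (K1.f38621 IH) (Lpe (K1.f38631 IH) (Lpr_et (f38632 IH) (Lpn (LP (LK LD1_c1 LD2_c6 LD3_c25)))))))))))))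
theorem f255409 : Led Lsl_at (LP (LK LD1_c2 LD2_c9 LD3_c43)) = (LP (LK LD1_c1 LD2_c31 LD3_c13)) :=
  Lgr Lrot26 (Lpr_ff (f255405 IH) (Lpe (f227757 IH) (Lpe (f204961 IH) (Lpn (LP (LK LD1_c1 LD2_c31 LD3_c13))))))
theorem f205337 : Led Lsl_ef (LP (LK LD1_c2 LD2_c9 LD3_c43)) = (LP (LK LD1_c1 LD2_c13 LD3_c37)) :=
  Lgr Lrot28 (Lpr_ct (f205321 IH) (Lpr_et (K13.f205335 IH) (Lpr_ct (K11.f181106 IH) (Lpn (LP (LK LD1_c1 LD2_c13 LD3_c37))))))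
theorem f36335 : Led Lsl_ct (LP (LK LD1_c0 LD2_c42 LD3_c4)) = (LP (LK LD1_c1 LD2_c31 LD3_c13)) :=
  Lre_c IH (LK LD1_c0 LD2_c42 LD3_c4) (LK LD1_c1 LD2_c31 LD3_c13) Lrfl Lrfl
theorem f36337 : Led Lsl_et (LP (LK LD1_c1 LD2_c31 LD3_c13)) = (LP (LK LD1_c2 LD2_c7 LD3_c45)) :=
  Lgr Lrot158 (Lpe (f36335 IH) (Lpr_ef (K12.f36333 IH) (Lpe (K12.f36336 IH) (Lpn (LP (LK LD1_c2 LD2_c7 LD3_c45))))))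
theorem f255415 : Led Lsl_af (LP (LK LD1_c1 LD2_c13 LD3_c37)) = (LP (LK LD1_c2 LD2_c7 LD3_c45)) :=
  Lgr Lrot50 (Lpe (f205337 IH) (Lpr_at (f255409 IH) (Lpr_et (f36337 IH) (Lpn (LP (LK LD1_c2 LD2_c7 LD3_c45))))))
theorem f255423 : Led Lsl_ft (LP (LK LD1_c2 LD2_c7 LD3_c31)) = (LP (LK LD1_c2 LD2_c7 LD3_c45)) :=
  Lgr Lrot2 (Lpr_gt (K13.f241031 IH) (Lpr_gt (K13.f171681 IH) (Lpr_af (f255415 IH) (Lpn (LP (LK LD1_c2 LD2_c7 LD3_c45))))))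
theorem f255429 : Led Lsl_ff (LP (LK LD1_c2 LD2_c7 LD3_c31)) = (LP (LK LD1_c2 LD2_c7 LD3_c45)) :=
  Lgr Lrot3 (Lpr_ft (f255423 IH) (Lpn (LP (LK LD1_c2 LD2_c7 LD3_c45))))
theorem f255433 : Led Lsl_at (LP (LK LD1_c2 LD2_c7 LD3_c31)) = (LP (LK LD1_c1 LD2_c11 LD3_c60)) :=
  Lgr Lrot26 (Lpr_ff (f255429 IH) (Lpe (K13.f240708 IH) (Lpr_gt (K13.f31648 IH) (Lpn (LP (LK LD1_c1 LD2_c11 LD3_c60))))))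
theorem f255417 : Led Lsl_at (LP (LK LD1_c1 LD2_c13 LD3_c37)) = (LP (LK LD1_c2 LD2_c7 LD3_c45)) :=
  Lgr Lrot100 (Lpr_af (f255415 IH) (Lpn (LP (LK LD1_c2 LD2_c7 LD3_c45))))
theorem f255443 : Led Lsl_ff (LP (LK LD1_c1 LD2_c13 LD3_c37)) = (LP (LK LD1_c1 LD2_c11 LD3_c60)) :=
  Lgr Lrot30 (Lpr_at (f255417 IH) (Lpe (f255429 IH) (Lpr_at (f255433 IH) (Lpn (LP (LK LD1_c1 LD2_c11 LD3_c60))))))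
theorem f255453 : Led Lsl_ft (LP (LK LD1_c1 LD2_c13 LD3_c37)) = (LP (LK LD1_c1 LD2_c11 LD3_c60)) :=
  Lgr Lrot48 (Lpr_ff (f255443 IH) (Lpn (LP (LK LD1_c1 LD2_c11 LD3_c60))))
theorem f205333 : Led Lsl_et (LP (LK LD1_c2 LD2_c9 LD3_c43)) = (LP (LK LD1_c1 LD2_c13 LD3_c37)) :=
  Lgr Lrot158 (Lpe (K11.f59390 IH) (Lpr_ef (K11.f205331 IH) (Lpe (K11.f171680 IH) (Lpn (LP (LK LD1_c1 LD2_c13 LD3_c37))))))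
theorem f238988 : Led Lsl_ef (LP (LK LD1_c1 LD2_c21 LD3_c51)) = (LP (LK LD1_c2 LD2_c8 LD3_c40)) :=
  Lgr Lrot114 (Lpe (f227757 IH) (Lpe (f38632 IH) (Lpr_dt (K1.f38631 IH) (Lpr_gt (K1.f59244 IH) (Lpe (K1.f37040 IH) (Lpr_et (K11.f37872 IH) (Lpr_gt (K11.f59266 IH) (Lpr_dt (K13.f59270 IH) (Lpr_gt (K13.f238975 IH) (Lpe (K13.f210339 IH) (Lpn (LP (LK LD1_c2 LD2_c8 LD3_c40)))))))))))))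
theorem f255461 : Led Lsl_ff (LP (LK LD1_c2 LD2_c8 LD3_c40)) = (LP (LK LD1_c1 LD2_c18 LD3_c36)) :=
  Lgr Lrot72 (Lpe (f238988 IH) (Lpe (f255405 IH) (Lpr_et (f205333 IH) (Lpr_ft (f255453 IH) (Lpe (K11.f164855 IH) (Lpn (LP (LK LD1_c1 LD2_c18 LD3_c36))))))))
theorem f255469 : Led Lsl_at (LP (LK LD1_c2 LD2_c8 LD3_c40)) = (LP (LK LD1_c2 LD2_c26 LD3_c16)) :=
  Lgr Lrot26 (Lpr_ff (f255461 IH) (Lpr_gt (K11.f201326 IH) (Lpe (f255107 IH) (Lpn (LP (LK LD1_c2 LD2_c26 LD3_c16))))))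
theorem f238995 : Led Lsl_et (LP (LK LD1_c1 LD2_c21 LD3_c51)) = (LP (LK LD1_c2 LD2_c8 LD3_c40)) :=
  Lgr Lrot87 (Lpr_ef (f238988 IH) (Lpn (LP (LK LD1_c2 LD2_c8 LD3_c40))))
theorem f255154 : Led Lsl_et (LP (LK LD1_c2 LD2_c26 LD3_c16)) = (LP (LK LD1_c1 LD2_c31 LD3_c28)) :=
  Lgr Lrot158 (Lpe (f168199 IH) (Lpr_ef (f255150 IH) (Lpe (K13.f25991 IH) (Lpn (LP (LK LD1_c1 LD2_c31 LD3_c28))))))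
theorem f255475 : Led Lsl_af (LP (LK LD1_c1 LD2_c21 LD3_c51)) = (LP (LK LD1_c1 LD2_c31 LD3_c28)) :=
  Lgr Lrot50 (Lpr_et (f238995 IH) (Lpr_at (f255469 IH) (Lpr_et (f255154 IH) (Lpn (LP (LK LD1_c1 LD2_c31 LD3_c28))))))
theorem f177132 : Led Lsl_gt (LP (LK LD1_c2 LD2_c51 LD3_c36)) = (LP (LK LD1_c1 LD2_c21 LD3_c51)) :=
  Lre_g IH (LK LD1_c2 LD2_c51 LD3_c36) (LK LD1_c1 LD2_c21 LD3_c51) Lrfl Lrfl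
theorem f255479 : Led Lsl_ft (LP (LK LD1_c1 LD2_c31 LD3_c13)) = (LP (LK LD1_c1 LD2_c31 LD3_c28)) :=
  Lgr Lrot101 (Lpe (f255409 IH) (Lpr_ff (f255405 IH) (Lpr_af (f255475 IH) (Lpn (LP (LK LD1_c1 LD2_c31 LD3_c28))))))
theorem f255481 : Led Lsl_gf (LP (LK LD1_c2 LD2_c51 LD3_c36)) = (LP (LK LD1_c1 LD2_c31 LD3_c13)) :=
  Lgr Lrot47 (Lpr_gt (f177132 IH) (Lpr_af (f255475 IH) (Lpe (f255479 IH) (Lpn (LP (LK LD1_c1 LD2_c31 LD3_c13))))))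
theorem f164147 : Led Lsl_bf (LP (LK LD1_c0 LD2_c30 LD3_c27)) = (LP (LK LD1_c0 LD2_c42 LD3_c4)) :=
  Lgr Lrot24 (Lpr_bt (K13.f164145 IH) (Lpn (LP (LK LD1_c0 LD2_c42 LD3_c4))))
theorem f59136 : Led Lsl_ct (LP (LK LD1_c0 LD2_c30 LD3_c24)) = (LP (LK LD1_c1 LD2_c6 LD3_c25)) :=
  Lre_c IH (LK LD1_c0 LD2_c30 LD3_c24) (LK LD1_c1 LD2_c6 LD3_c25) Lrfl Lrfl
theorem f255489 : Led Lsl_cf (LP (LK LD1_c2 LD2_c51 LD3_c36)) = (LP (LK LD1_c1 LD2_c57 LD3_c5)) :=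
  Lgr Lrot58 (Lpr_gf (f255481 IH) (Lpe (f36335 IH) (Lpe (f164147 IH) (Lpe (K9.f26597 IH) (Lpe (K13.f58981 IH) (Lpr_ct (f59136 IH) (Lpr_gf (f227757 IH) (Lpe (f146308 IH) (Lpe (K12.f205391 IH) (Lpe (K12.f80650 IH) (Lpn (LP (LK LD1_c1 LD2_c57 LD3_c5)))))))))))))
theorem f205194 : Led Lsl_dt (LP (LK LD1_c2 LD2_c51 LD3_c36)) = (LP (LK LD1_c5 LD2_c50 LD3_c48)) :=
  Lre_d IH (LK LD1_c2 LD2_c51 LD3_c36) (LK LD1_c5 LD2_c50 LD3_c48) Lrfl Lrfl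
theorem f59135 : Led Lsl_at (LP (LK LD1_c0 LD2_c40 LD3_c40)) = (LP (LK LD1_c0 LD2_c18 LD3_c16)) :=
  Lre_a IH (LK LD1_c0 LD2_c40 LD3_c40) (LK LD1_c0 LD2_c18 LD3_c16) Lrfl Lrfl
theorem f59089 : Led Lsl_dt (LP (LK LD1_c1 LD2_c28 LD3_c14)) = (LP (LK LD1_c0 LD2_c40 LD3_c47)) :=
  Lre_d IH (LK LD1_c1 LD2_c28 LD3_c14) (LK LD1_c0 LD2_c40 LD3_c47) Lrfl Lrfl
theorem f59137 : Led Lsl_ct (LP (LK LD1_c3 LD2_c4 LD3_c31)) = (LP (LK LD1_c1 LD2_c28 LD3_c14)) :=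
  Lre_c IH (LK LD1_c3 LD2_c4 LD3_c31) (LK LD1_c1 LD2_c28 LD3_c14) Lrfl Lrfl
theorem f59138 : Led Lsl_dt (LP (LK LD1_c6 LD2_c15 LD3_c6)) = (LP (LK LD1_c3 LD2_c4 LD3_c31)) :=
  Lre_d IH (LK LD1_c6 LD2_c15 LD3_c6) (LK LD1_c3 LD2_c4 LD3_c31) Lrfl Lrfl
theorem f255497 : Led Lsl_ct (LP (LK LD1_c5 LD2_c50 LD3_c48)) = (LP (LK LD1_c6 LD2_c15 LD3_c6)) :=
  Lgr Lrot41 (Lpe (f205194 IH) (Lpr_cf (f255489 IH) (Lpr_df (K11.f205287 IH) (Lpr_ft (K11.f80819 IH) (Lpr_at (f59135 IH) (Lpe (f59088 IH) (Lpe (f59089 IH) (Lpe (f59137 IH) (Lpe (f59138 IH) (Lpn (LP (LK LD1_c6 LD2_c15 LD3_c6))))))))))))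
theorem f255499 : Led Lsl_cf (LP (LK LD1_c5 LD2_c50 LD3_c48)) = (LP (LK LD1_c6 LD2_c15 LD3_c6)) :=
  Lgr Lrot11 (Lpr_ct (f255497 IH) (Lpn (LP (LK LD1_c6 LD2_c15 LD3_c6))))
theorem f59081 : Led Lsl_dt (LP (LK LD1_c3 LD2_c4 LD3_c31)) = (LP (LK LD1_c6 LD2_c15 LD3_c6)) :=
  Lre_d IH (LK LD1_c3 LD2_c4 LD3_c31) (LK LD1_c6 LD2_c15 LD3_c6) Lrfl Lrfl
theorem f59080 : Led Lsl_ct (LP (LK LD1_c1 LD2_c28 LD3_c14)) = (LP (LK LD1_c3 LD2_c4 LD3_c31)) :=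
  Lre_c IH (LK LD1_c1 LD2_c28 LD3_c14) (LK LD1_c3 LD2_c4 LD3_c31) Lrfl Lrfl
theorem f37216 : Led Lsl_dt (LP (LK LD1_c0 LD2_c40 LD3_c47)) = (LP (LK LD1_c1 LD2_c28 LD3_c14)) :=
  Lre_d IH (LK LD1_c0 LD2_c40 LD3_c47) (LK LD1_c1 LD2_c28 LD3_c14) Lrfl Lrfl
theorem f59078 : Led Lsl_dt (LP (LK LD1_c2 LD2_c18 LD3_c49)) = (LP (LK LD1_c1 LD2_c6 LD3_c25)) :=
  Lre_d IH (LK LD1_c2 LD2_c18 LD3_c49) (LK LD1_c1 LD2_c6 LD3_c25) Lrfl Lrfl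
theorem f59083 : Led Lsl_ft (LP (LK LD1_c2 LD2_c18 LD3_c49)) = (LP (LK LD1_c4 LD2_c42 LD3_c45)) :=
  Lre_f IH (LK LD1_c2 LD2_c18 LD3_c49) (LK LD1_c4 LD2_c42 LD3_c45) Lrfl Lrfl
theorem f255503 : Led Lsl_af (LP (LK LD1_c5 LD2_c50 LD3_c48)) = (LP (LK LD1_c4 LD2_c42 LD3_c45)) :=
  Lgr Lrot109 (Lpr_cf (f255499 IH) (Lpe (f59081 IH) (Lpe (f59080 IH) (Lpe (f37216 IH) (Lpe (K12.f59079 IH) (Lpe (K11.f59065 IH) (Lpe (K11.f59077 IH) (Lpe (f59078 IH) (Lpr_ft (f59083 IH) (Lpn (LP (LK LD1_c4 LD2_c42 LD3_c45))))))))))))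
theorem f80707 : Led Lsl_dt (LP (LK LD1_c4 LD2_c0 LD3_c38)) = (LP (LK LD1_c1 LD2_c57 LD3_c3)) :=
  Lre_d IH (LK LD1_c4 LD2_c0 LD3_c38) (LK LD1_c1 LD2_c57 LD3_c3) Lrfl Lrfl
theorem f56617 : Led Lsl_dt (LP (LK LD1_c1 LD2_c6 LD3_c25)) = (LP (LK LD1_c2 LD2_c18 LD3_c49)) :=
  Lre_d IH (LK LD1_c1 LD2_c6 LD3_c25) (LK LD1_c2 LD2_c18 LD3_c49) Lrfl Lrfl
theorem f205306 : Led Lsl_af (LP (LK LD1_c4 LD2_c0 LD3_c38)) = (LP (LK LD1_c2 LD2_c18 LD3_c49)) :=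
  Lgr Lrot117 (Lpr_dt (f80707 IH) (Lpr_at (K11.f205302 IH) (Lpr_dt (f56617 IH) (Lpn (LP (LK LD1_c2 LD2_c18 LD3_c49))))))
theorem f205310 : Led Lsl_at (LP (LK LD1_c4 LD2_c0 LD3_c38)) = (LP (LK LD1_c2 LD2_c18 LD3_c49)) :=
  Lgr Lrot100 (Lpr_af (f205306 IH) (Lpn (LP (LK LD1_c2 LD2_c18 LD3_c49))))
theorem f255507 : Led Lsl_ft (LP (LK LD1_c5 LD2_c50 LD3_c48)) = (LP (LK LD1_c4 LD2_c0 LD3_c38)) :=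
  Lgr Lrot101 (Lpr_af (f255503 IH) (Lpe (f59083 IH) (Lpe (f205310 IH) (Lpn (LP (LK LD1_c4 LD2_c0 LD3_c38))))))
theorem f255522 : Led Lsl_ff (LP (LK LD1_c2 LD2_c51 LD3_c36)) = (LP (LK LD1_c1 LD2_c57 LD3_c3)) :=
  Lgr Lrot19 (Lpr_dt (f205194 IH) (Lpr_ft (f255507 IH) (Lpr_dt (f80707 IH) (Lpn (LP (LK LD1_c1 LD2_c57 LD3_c3))))))
theorem f59073 : Led Lsl_ct (LP (LK LD1_c2 LD2_c18 LD3_c50)) = (LP (LK LD1_c1 LD2_c6 LD3_c28)) :=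
  Lre_c IH (LK LD1_c2 LD2_c18 LD3_c50) (LK LD1_c1 LD2_c6 LD3_c28) Lrfl Lrfl
theorem f255491 : Led Lsl_at (LP (LK LD1_c2 LD2_c51 LD3_c36)) = (LP (LK LD1_c2 LD2_c18 LD3_c50)) :=
  Lgr Lrot107 (Lpr_cf (f255489 IH) (Lpr_af (K13.f205285 IH) (Lpe (f59073 IH) (Lpn (LP (LK LD1_c2 LD2_c18 LD3_c50))))))
theorem f255526 : Led Lsl_gf (LP (LK LD1_c2 LD2_c9 LD3_c43)) = (LP (LK LD1_c1 LD2_c57 LD3_c3)) :=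
  Lgr Lrot47 (Lpr_gt (K11.f205317 IH) (Lpe (f255491 IH) (Lpr_ff (f255522 IH) (Lpn (LP (LK LD1_c1 LD2_c57 LD3_c3))))))
theorem f255411 : Led Lsl_af (LP (LK LD1_c2 LD2_c9 LD3_c43)) = (LP (LK LD1_c1 LD2_c31 LD3_c13)) :=
  Lgr Lrot0 (Lpr_at (f255409 IH) (Lpn (LP (LK LD1_c1 LD2_c31 LD3_c13))))
theorem f255528 : Led Lsl_ff (LP (LK LD1_c1 LD2_c31 LD3_c13)) = (LP (LK LD1_c1 LD2_c31 LD3_c28)) :=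
  Lgr Lrot52 (Lpe (f255411 IH) (Lpr_gf (f255526 IH) (Lpr_gf (K11.f205315 IH) (Lpn (LP (LK LD1_c1 LD2_c31 LD3_c28))))))
theorem f255539 : Led Lsl_ft (LP (LK LD1_c2 LD2_c7 LD3_c4)) = (LP (LK LD1_c2 LD2_c26 LD3_c16)) :=
  Lgr Lrot86 (Lpr_ef (K11.f180127 IH) (Lpr_ff (f255429 IH) (Lpe (f36337 IH) (Lpr_ff (f255528 IH) (Lpe (f255154 IH) (Lpn (LP (LK LD1_c2 LD2_c26 LD3_c16))))))))
theorem f255471 : Led Lsl_af (LP (LK LD1_c2 LD2_c8 LD3_c40)) = (LP (LK LD1_c2 LD2_c26 LD3_c16)) :=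
  Lgr Lrot0 (Lpr_at (f255469 IH) (Lpn (LP (LK LD1_c2 LD2_c26 LD3_c16))))
theorem f255545 : Led Lsl_dt (LP (LK LD1_c2 LD2_c8 LD3_c15)) = (LP (LK LD1_c1 LD2_c58 LD3_c55)) :=
  Lgr Lrot140 (Lpe (f238727 IH) (Lpr_df (K13.f238900 IH) (Lpe (K13.f211159 IH) (Lpe (K13.f180133 IH) (Lpr_ft (f255539 IH) (Lpe (f255471 IH) (Lpe (K12.f181966 IH) (Lpe (f254977 IH) (Lpe (K12.f201266 IH) (Lpn (LP (LK LD1_c1 LD2_c58 LD3_c55))))))))))))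
theorem f255552 : Led Lsl_et (LP (LK LD1_c2 LD2_c8 LD3_c15)) = (LP (LK LD1_c4 LD2_c21 LD3_c30)) :=
  Lre_e IH (LK LD1_c2 LD2_c8 LD3_c15) (LK LD1_c4 LD2_c21 LD3_c30) Lrfl Lrfl
theorem f236600 : Led Lsl_cf (LP (LK LD1_c1 LD2_c56 LD3_c55)) = (LP (LK LD1_c3 LD2_c57 LD3_c6)) :=
  Lgr Lrot166 (Lpr_gt (K9.f29652 IH) (Lpr_dt (K1.f28940 IH) (Lpr_gt (K10.f196316 IH) (Lpr_dt (K11.f196319 IH) (Lpr_ct (K13.f196326 IH) (Lpr_df (K13.f236495 IH) (Lpe (K13.f236488 IH) (Lpe (K1.f39181 IH) (Lpe (K12.f39271 IH) (Lpn (LP (LK LD1_c3 LD2_c57 LD3_c6))))))))))))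
theorem f196371 : Led Lsl_dt (LP (LK LD1_c3 LD2_c57 LD3_c6)) = (LP (LK LD1_c7 LD2_c55 LD3_c54)) :=
  Lre_d IH (LK LD1_c3 LD2_c57 LD3_c6) (LK LD1_c7 LD2_c55 LD3_c54) Lrfl Lrfl
theorem f238883 : Led Lsl_gt (LP (LK LD1_c2 LD2_c8 LD3_c33)) = (LP (LK LD1_c3 LD2_c57 LD3_c6)) :=
  Lgr Lrot94 (Lpe (K12.f38988 IH) (Lpe (K13.f229483 IH) (Lpr_dt (K13.f229431 IH) (Lpr_gt (K13.f236473 IH) (Lpr_dt (K13.f216333 IH) (Lpe (K13.f227942 IH) (Lpe (K13.f236475 IH) (Lpr_gf (K13.f238877 IH) (Lpe (f196371 IH) (Lpn (LP (LK LD1_c3 LD2_c57 LD3_c6))))))))))))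
theorem f254979 : Led Lsl_gf (LP (LK LD1_c1 LD2_c58 LD3_c55)) = (LP (LK LD1_c2 LD2_c7 LD3_c1)) :=
  Lgr Lrot147 (Lpr_ct (K12.f201266 IH) (Lpr_gt (f254965 IH) (Lpr_ct (f196367 IH) (Lpe (K12.f33201 IH) (Lpr_cf (f236600 IH) (Lpe (f238883 IH) (Lpe (K12.f38988 IH) (Lpe (K12.f227969 IH) (Lpr_df (K12.f227955 IH) (Lpn (LP (LK LD1_c2 LD2_c7 LD3_c1))))))))))))
theorem f232209 : Led Lsl_et (LP (LK LD1_c2 LD2_c23 LD3_c32)) = (LP (LK LD1_c4 LD2_c51 LD3_c25)) :=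
  Lre_e IH (LK LD1_c2 LD2_c23 LD3_c32) (LK LD1_c4 LD2_c51 LD3_c25) Lrfl Lrfl
theorem f255553 : Led Lsl_gt (LP (LK LD1_c4 LD2_c21 LD3_c30)) = (LP (LK LD1_c4 LD2_c51 LD3_c25)) :=
  Lgr Lrot131 (Lpe (f255552 IH) (Lpr_dt (f255545 IH) (Lpr_gf (f254979 IH) (Lpe (K12.f227950 IH) (Lpe (K12.f31136 IH) (Lpe (K12.f29082 IH) (Lpr_dt (K1.f29070 IH) (Lpe (K12.f228938 IH) (Lpe (K13.f2082 IH) (Lpr_et (f232209 IH) (Lpn (LP (LK LD1_c4 LD2_c51 LD3_c25)))))))))))))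
theorem f235676 : Led Lsl_et (LP (LK LD1_c2 LD2_c38 LD3_c13)) = (LP (LK LD1_c5 LD2_c23 LD3_c26)) :=
  Lre_e IH (LK LD1_c2 LD2_c38 LD3_c13) (LK LD1_c5 LD2_c23 LD3_c26) Lrfl Lrfl
theorem f235677 : Led Lsl_et (LP (LK LD1_c1 LD2_c8 LD3_c52)) = (LP (LK LD1_c2 LD2_c23 LD3_c33)) :=
  Lre_e IH (LK LD1_c1 LD2_c8 LD3_c52) (LK LD1_c2 LD2_c23 LD3_c33) Lrfl Lrfl
theorem f235678 : Led Lsl_et (LP (LK LD1_c4 LD2_c51 LD3_c25)) = (LP (LK LD1_c2 LD2_c23 LD3_c32)) :=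
  Lre_e IH (LK LD1_c4 LD2_c51 LD3_c25) (LK LD1_c2 LD2_c23 LD3_c32) Lrfl Lrfl
theorem f235679 : Led Lsl_dt (LP (LK LD1_c5 LD2_c23 LD3_c26)) = (LP (LK LD1_c4 LD2_c51 LD3_c25)) :=
  Lgr Lrot77 (Lpe (f235676 IH) (Lpr_df (K13.f235671 IH) (Lpe (f235677 IH) (Lpe (K13.f2082 IH) (Lpe (f235678 IH) (Lpn (LP (LK LD1_c4 LD2_c51 LD3_c25))))))))
theorem f235595 : Led Lsl_et (LP (LK LD1_c5 LD2_c23 LD3_c26)) = (LP (LK LD1_c2 LD2_c38 LD3_c13)) :=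
  Lre_e IH (LK LD1_c5 LD2_c23 LD3_c26) (LK LD1_c2 LD2_c38 LD3_c13) Lrfl Lrfl
theorem f224180 : Led Lsl_dt (LP (LK LD1_c1 LD2_c16 LD3_c4)) = (LP (LK LD1_c0 LD2_c35 LD3_c14)) :=
  Lre_d IH (LK LD1_c1 LD2_c16 LD3_c4) (LK LD1_c0 LD2_c35 LD3_c14) Lrfl Lrfl
theorem f235579 : Led Lsl_et (LP (LK LD1_c1 LD2_c16 LD3_c2)) = (LP (LK LD1_c1 LD2_c16 LD3_c2)) :=
  Lgr Lrot122 (Lpr_dt (K13.f234101 IH) (Lpr_gt (K13.f235571 IH) (Lpr_df (K12.f194422 IH) (Lpr_et (K10.f28071 IH) (Lpr_gt (K10.f28070 IH) (Lpr_dt (K10.f28057 IH) (Lpr_gt (K10.f28072 IH) (Lpr_df (K13.f194691 IH) (Lpr_et (K10.f172002 IH) (Lpe (K13.f235577 IH) (Lpn (LP (LK LD1_c1 LD2_c16 LD3_c2)))))))))))))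
theorem f235565 : Led Lsl_ff (LP (LK LD1_c1 LD2_c16 LD3_c2)) = (LP (LK LD1_c1 LD2_c1 LD3_c1)) :=
  Lgr Lrot19 (Lpr_dt (K13.f234101 IH) (Lpr_ft (K13.f235555 IH) (Lpr_dt (K0.f31162 IH) (Lpn (LP (LK LD1_c1 LD2_c1 LD3_c1))))))
theorem f235585 : Led Lsl_ff (LP (LK LD1_c1 LD2_c1 LD3_c1)) = (LP (LK LD1_c1 LD2_c16 LD3_c2)) :=
  Lgr Lrot72 (Lpr_et (K8.f31156 IH) (Lpr_ft (K0.f31122 IH) (Lpr_et (K0.f31133 IH) (Lpe (f235565 IH) (Lpr_et (f235579 IH) (Lpn (LP (LK LD1_c1 LD2_c16 LD3_c2))))))))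
theorem f235591 : Led Lsl_gf (LP (LK LD1_c1 LD2_c1 LD3_c5)) = (LP (LK LD1_c0 LD2_c35 LD3_c14)) :=
  Lgr Lrot76 (Lpe (K0.f31158 IH) (Lpr_ff (f235585 IH) (Lpr_gt (K13.f196572 IH) (Lpn (LP (LK LD1_c0 LD2_c35 LD3_c14))))))
theorem f31214 : Led Lsl_et (LP (LK LD1_c4 LD2_c20 LD3_c57)) = (LP (LK LD1_c2 LD2_c7 LD3_c59)) :=
  Lre_e IH (LK LD1_c4 LD2_c20 LD3_c57) (LK LD1_c2 LD2_c7 LD3_c59) Lrfl Lrfl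
theorem f255565 : Led Lsl_df (LP (LK LD1_c4 LD2_c21 LD3_c30)) = (LP (LK LD1_c4 LD2_c20 LD3_c57)) :=
  Lgr Lrot170 (Lpr_gt (f255553 IH) (Lpe (f235679 IH) (Lpr_et (f235595 IH) (Lpr_gt (K13.f221609 IH) (Lpr_dt (f224180 IH) (Lpe (f235591 IH) (Lpe (K10.f28982 IH) (Lpr_et (K12.f28981 IH) (Lpr_gt (K10.f28958 IH) (Lpe (f31214 IH) (Lpn (LP (LK LD1_c4 LD2_c20 LD3_c57)))))))))))))
theorem f235733 : Led Lsl_df (LP (LK LD1_c5 LD2_c23 LD3_c26)) = (LP (LK LD1_c4 LD2_c51 LD3_c25)) :=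
  Lgr Lrot38 (Lpr_dt (f235679 IH) (Lpn (LP (LK LD1_c4 LD2_c51 LD3_c25))))
theorem f235775 : Led Lsl_ct (LP (LK LD1_c2 LD2_c40 LD3_c11)) = (LP (LK LD1_c1 LD2_c16 LD3_c51)) :=
  Lre_c IH (LK LD1_c2 LD2_c40 LD3_c11) (LK LD1_c1 LD2_c16 LD3_c51) Lrfl Lrfl
theorem f235782 : Led Lsl_bt (LP (LK LD1_c5 LD2_c27 LD3_c37)) = (LP (LK LD1_c2 LD2_c40 LD3_c11)) :=
  Lre_b IH (LK LD1_c5 LD2_c27 LD3_c37) (LK LD1_c2 LD2_c40 LD3_c11) Lrfl Lrfl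
theorem f235681 : Led Lsl_bt (LP (LK LD1_c4 LD2_c31 LD3_c24)) = (LP (LK LD1_c9 LD2_c0 LD3_c44)) :=
  Lre_b IH (LK LD1_c4 LD2_c31 LD3_c24) (LK LD1_c9 LD2_c0 LD3_c44) Lrfl Lrfl
theorem f235794 : Led Lsl_cf (LP (LK LD1_c5 LD2_c27 LD3_c37)) = (LP (LK LD1_c9 LD2_c0 LD3_c44)) :=
  Lgr Lrot97 (Lpr_bt (f235782 IH) (Lpr_ct (f235775 IH) (Lpr_bt (K13.f235786 IH) (Lpr_ct (K13.f235665 IH) (Lpr_bt (f235681 IH) (Lpn (LP (LK LD1_c9 LD2_c0 LD3_c44))))))))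
theorem f235828 : Led Lsl_et (LP (LK LD1_c5 LD2_c27 LD3_c37)) = (LP (LK LD1_c10 LD2_c46 LD3_c21)) :=
  Lre_e IH (LK LD1_c5 LD2_c27 LD3_c37) (LK LD1_c10 LD2_c46 LD3_c21) Lrfl Lrfl
theorem f235829 : Led Lsl_et (LP (LK LD1_c16 LD2_c50 LD3_c27)) = (LP (LK LD1_c9 LD2_c0 LD3_c44)) :=
  Lre_e IH (LK LD1_c16 LD2_c50 LD3_c27) (LK LD1_c9 LD2_c0 LD3_c44) Lrfl Lrfl
theorem f235830 : Led Lsl_ct (LP (LK LD1_c10 LD2_c46 LD3_c21)) = (LP (LK LD1_c16 LD2_c50 LD3_c27)) :=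
  Lgr Lrot15 (Lpe (f235828 IH) (Lpr_cf (f235794 IH) (Lpe (f235829 IH) (Lpn (LP (LK LD1_c16 LD2_c50 LD3_c27))))))
theorem f235802 : Led Lsl_bt (LP (LK LD1_c5 LD2_c27 LD3_c39)) = (LP (LK LD1_c10 LD2_c46 LD3_c21)) :=
  Lre_b IH (LK LD1_c5 LD2_c27 LD3_c39) (LK LD1_c10 LD2_c46 LD3_c21) Lrfl Lrfl
theorem f235801 : Led Lsl_ct (LP (LK LD1_c2 LD2_c40 LD3_c12)) = (LP (LK LD1_c5 LD2_c27 LD3_c39)) :=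
  Lre_c IH (LK LD1_c2 LD2_c40 LD3_c12) (LK LD1_c5 LD2_c27 LD3_c39) Lrfl Lrfl
theorem f235796 : Led Lsl_et (LP (LK LD1_c2 LD2_c40 LD3_c12)) = (LP (LK LD1_c1 LD2_c16 LD3_c51)) :=
  Lre_e IH (LK LD1_c2 LD2_c40 LD3_c12) (LK LD1_c1 LD2_c16 LD3_c51) Lrfl Lrfl
theorem f235797 : Led Lsl_bf (LP (LK LD1_c2 LD2_c40 LD3_c12)) = (LP (LK LD1_c5 LD2_c23 LD3_c26)) :=
  Lgr Lrot96 (Lpr_et (f235796 IH) (Lpr_bt (K13.f235786 IH) (Lpr_et (f235676 IH) (Lpn (LP (LK LD1_c5 LD2_c23 LD3_c26))))))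
theorem f235867 : Led Lsl_bt (LP (LK LD1_c16 LD2_c50 LD3_c27)) = (LP (LK LD1_c9 LD2_c0 LD3_c46)) :=
  Lre_b IH (LK LD1_c16 LD2_c50 LD3_c27) (LK LD1_c9 LD2_c0 LD3_c46) Lrfl Lrfl
theorem f235868 : Led Lsl_cf (LP (LK LD1_c5 LD2_c23 LD3_c26)) = (LP (LK LD1_c9 LD2_c0 LD3_c46)) :=
  Lgr Lrot97 (Lpe (f235797 IH) (Lpr_ct (f235801 IH) (Lpr_bt (f235802 IH) (Lpr_ct (f235830 IH) (Lpr_bt (f235867 IH) (Lpn (LP (LK LD1_c9 LD2_c0 LD3_c46))))))))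
theorem f235920 : Led Lsl_dt (LP (LK LD1_c16 LD2_c50 LD3_c29)) = (LP (LK LD1_c9 LD2_c0 LD3_c46)) :=
  Lre_d IH (LK LD1_c16 LD2_c50 LD3_c29) (LK LD1_c9 LD2_c0 LD3_c46) Lrfl Lrfl
theorem f235870 : Led Lsl_cf (LP (LK LD1_c10 LD2_c46 LD3_c21)) = (LP (LK LD1_c16 LD2_c50 LD3_c27)) :=
  Lgr Lrot11 (Lpr_ct (f235830 IH) (Lpn (LP (LK LD1_c16 LD2_c50 LD3_c27))))
theorem f235811 : Led Lsl_bt (LP (LK LD1_c10 LD2_c46 LD3_c21)) = (LP (LK LD1_c5 LD2_c27 LD3_c39)) :=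
  Lre_b IH (LK LD1_c10 LD2_c46 LD3_c21) (LK LD1_c5 LD2_c27 LD3_c39) Lrfl Lrfl
theorem f235810 : Led Lsl_ct (LP (LK LD1_c5 LD2_c27 LD3_c39)) = (LP (LK LD1_c2 LD2_c40 LD3_c12)) :=
  Lre_c IH (LK LD1_c5 LD2_c27 LD3_c39) (LK LD1_c2 LD2_c40 LD3_c12) Lrfl Lrfl
theorem f235799 : Led Lsl_bt (LP (LK LD1_c2 LD2_c40 LD3_c12)) = (LP (LK LD1_c5 LD2_c23 LD3_c26)) :=
  Lgr Lrot127 (Lpr_bf (f235797 IH) (Lpn (LP (LK LD1_c5 LD2_c23 LD3_c26))))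
theorem f235904 : Led Lsl_bt (LP (LK LD1_c9 LD2_c0 LD3_c46)) = (LP (LK LD1_c16 LD2_c50 LD3_c27)) :=
  Lre_b IH (LK LD1_c9 LD2_c0 LD3_c46) (LK LD1_c16 LD2_c50 LD3_c27) Lrfl Lrfl
theorem f235905 : Led Lsl_ct (LP (LK LD1_c5 LD2_c23 LD3_c26)) = (LP (LK LD1_c9 LD2_c0 LD3_c46)) :=
  Lgr Lrot83 (Lpe (f235799 IH) (Lpe (f235810 IH) (Lpe (f235811 IH) (Lpr_cf (f235870 IH) (Lpe (f235904 IH) (Lpn (LP (LK LD1_c9 LD2_c0 LD3_c46))))))))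
theorem f235916 : Led Lsl_et (LP (LK LD1_c9 LD2_c0 LD3_c46)) = (LP (LK LD1_c4 LD2_c31 LD3_c24)) :=
  Lre_e IH (LK LD1_c9 LD2_c0 LD3_c46) (LK LD1_c4 LD2_c31 LD3_c24) Lrfl Lrfl
theorem f235917 : Led Lsl_cf (LP (LK LD1_c2 LD2_c38 LD3_c13)) = (LP (LK LD1_c4 LD2_c31 LD3_c24)) :=
  Lgr Lrot39 (Lpr_et (f235676 IH) (Lpr_ct (f235905 IH) (Lpr_et (f235916 IH) (Lpn (LP (LK LD1_c4 LD2_c31 LD3_c24))))))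
theorem f177913 : Led Lsl_dt (LP (LK LD1_c2 LD2_c12 LD3_c40)) = (LP (LK LD1_c4 LD2_c31 LD3_c26)) :=
  Lre_d IH (LK LD1_c2 LD2_c12 LD3_c40) (LK LD1_c4 LD2_c31 LD3_c26) Lrfl Lrfl
theorem f235923 : Led Lsl_gf (LP (LK LD1_c8 LD2_c39 LD3_c32)) = (LP (LK LD1_c4 LD2_c31 LD3_c26)) :=
  Lgr Lrot143 (Lpr_dt (K12.f31297 IH) (Lpe (K10.f31296 IH) (Lpe (K0.f31163 IH) (Lpr_gf (f235591 IH) (Lpe (f224180 IH) (Lpe (K13.f221609 IH) (Lpr_cf (f235917 IH) (Lpr_gt (K13.f175041 IH) (Lpr_dt (f177913 IH) (Lpn (LP (LK LD1_c4 LD2_c31 LD3_c26))))))))))))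
theorem f31424 : Led Lsl_dt (LP (LK LD1_c4 LD2_c20 LD3_c56)) = (LP (LK LD1_c8 LD2_c39 LD3_c32)) :=
  Lre_d IH (LK LD1_c4 LD2_c20 LD3_c56) (LK LD1_c8 LD2_c39 LD3_c32) Lrfl Lrfl
theorem f31419 : Led Lsl_et (LP (LK LD1_c4 LD2_c20 LD3_c56)) = (LP (LK LD1_c2 LD2_c7 LD3_c60)) :=
  Lre_e IH (LK LD1_c4 LD2_c20 LD3_c56) (LK LD1_c2 LD2_c7 LD3_c60) Lrfl Lrfl
theorem f191299 : Led Lsl_et (LP (LK LD1_c8 LD2_c37 LD3_c49)) = (LP (LK LD1_c4 LD2_c19 LD3_c56)) :=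
  Lre_e IH (LK LD1_c8 LD2_c37 LD3_c49) (LK LD1_c4 LD2_c19 LD3_c56) Lrfl Lrfl
theorem f191300 : Led Lsl_dt (LP (LK LD1_c8 LD2_c37 LD3_c49)) = (LP (LK LD1_c16 LD2_c9 LD3_c54)) :=
  Lre_d IH (LK LD1_c8 LD2_c37 LD3_c49) (LK LD1_c16 LD2_c9 LD3_c54) Lrfl Lrfl
theorem f235914 : Led Lsl_dt (LP (LK LD1_c9 LD2_c0 LD3_c46)) = (LP (LK LD1_c16 LD2_c50 LD3_c29)) :=
  Lre_d IH (LK LD1_c9 LD2_c0 LD3_c46) (LK LD1_c16 LD2_c50 LD3_c29) Lrfl Lrfl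
theorem f235943 : Led Lsl_gt (LP (LK LD1_c16 LD2_c9 LD3_c54)) = (LP (LK LD1_c16 LD2_c50 LD3_c29)) :=
  Lgr Lrot112 (Lpe (f191300 IH) (Lpr_et (f191299 IH) (Lpe (K13.f233746 IH) (Lpe (f31419 IH) (Lpr_dt (f31424 IH) (Lpr_gf (f235923 IH) (Lpe (f177913 IH) (Lpe (K13.f175041 IH) (Lpe (f235916 IH) (Lpr_dt (f235914 IH) (Lpn (LP (LK LD1_c16 LD2_c50 LD3_c29)))))))))))))
theorem f190013 : Led Lsl_gt (LP (LK LD1_c16 LD2_c9 LD3_c53)) = (LP (LK LD1_c8 LD2_c37 LD3_c49)) :=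
  Lre_g IH (LK LD1_c16 LD2_c9 LD3_c53) (LK LD1_c8 LD2_c37 LD3_c49) Lrfl Lrfl
theorem f255577 : Led Lsl_gt (LP (LK LD1_c8 LD2_c39 LD3_c34)) = (LP (LK LD1_c4 LD2_c20 LD3_c57)) :=
  Lre_g IH (LK LD1_c8 LD2_c39 LD3_c34) (LK LD1_c4 LD2_c20 LD3_c57) Lrfl Lrfl
theorem f255580 : Led Lsl_cf (LP (LK LD1_c16 LD2_c9 LD3_c53)) = (LP (LK LD1_c8 LD2_c39 LD3_c34)) :=
  Lgr Lrot166 (Lpr_gt (f190013 IH) (Lpr_dt (f191300 IH) (Lpr_gt (f235943 IH) (Lpr_dt (f235920 IH) (Lpe (f235868 IH) (Lpr_df (f235733 IH) (Lpe (f255553 IH) (Lpr_df (f255565 IH) (Lpe (f255577 IH) (Lpn (LP (LK LD1_c8 LD2_c39 LD3_c34))))))))))))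
theorem f235963 : Led Lsl_et (LP (LK LD1_c16 LD2_c9 LD3_c53)) = (LP (LK LD1_c26 LD2_c6 LD3_c38)) :=
  Lre_e IH (LK LD1_c16 LD2_c9 LD3_c53) (LK LD1_c26 LD2_c6 LD3_c38) Lrfl Lrfl
theorem f255583 : Led Lsl_et (LP (LK LD1_c16 LD2_c13 LD3_c3)) = (LP (LK LD1_c8 LD2_c39 LD3_c34)) :=
  Lre_e IH (LK LD1_c16 LD2_c13 LD3_c3) (LK LD1_c8 LD2_c39 LD3_c34) Lrfl Lrfl
theorem f255593 : Led Lsl_ct (LP (LK LD1_c26 LD2_c6 LD3_c38)) = (LP (LK LD1_c16 LD2_c13 LD3_c3)) :=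
  Lgr Lrot15 (Lpe (f235963 IH) (Lpr_cf (f255580 IH) (Lpe (f255583 IH) (Lpn (LP (LK LD1_c16 LD2_c13 LD3_c3))))))
theorem f235948 : Led Lsl_et (LP (LK LD1_c26 LD2_c6 LD3_c38)) = (LP (LK LD1_c16 LD2_c9 LD3_c53)) :=
  Lre_e IH (LK LD1_c26 LD2_c6 LD3_c38) (LK LD1_c16 LD2_c9 LD3_c53) Lrfl Lrfl
theorem f235949 : Led Lsl_et (LP (LK LD1_c4 LD2_c31 LD3_c27)) = (LP (LK LD1_c2 LD2_c12 LD3_c40)) :=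
  Lre_e IH (LK LD1_c4 LD2_c31 LD3_c27) (LK LD1_c2 LD2_c12 LD3_c40) Lrfl Lrfl
theorem f212559 : Led Lsl_dt (LP (LK LD1_c4 LD2_c31 LD3_c27)) = (LP (LK LD1_c9 LD2_c0 LD3_c55)) :=
  Lre_d IH (LK LD1_c4 LD2_c31 LD3_c27) (LK LD1_c9 LD2_c0 LD3_c55) Lrfl Lrfl
theorem f235950 : Led Lsl_gt (LP (LK LD1_c9 LD2_c0 LD3_c55)) = (LP (LK LD1_c16 LD2_c50 LD3_c45)) :=
  Lre_g IH (LK LD1_c9 LD2_c0 LD3_c55) (LK LD1_c16 LD2_c50 LD3_c45) Lrfl Lrfl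
theorem f235951 : Led Lsl_dt (LP (LK LD1_c26 LD2_c6 LD3_c38)) = (LP (LK LD1_c16 LD2_c50 LD3_c45)) :=
  Lgr Lrot37 (Lpr_et (f235948 IH) (Lpr_gt (f190013 IH) (Lpr_dt (f191300 IH) (Lpr_gt (f235943 IH) (Lpe (f235914 IH) (Lpr_et (f235916 IH) (Lpr_gt (K13.f175041 IH) (Lpe (f235949 IH) (Lpr_dt (f212559 IH) (Lpr_gt (f235950 IH) (Lpn (LP (LK LD1_c16 LD2_c50 LD3_c45)))))))))))))
theorem f235961 : Led Lsl_df (LP (LK LD1_c26 LD2_c6 LD3_c38)) = (LP (LK LD1_c16 LD2_c50 LD3_c45)) :=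
  Lgr Lrot38 (Lpr_dt (f235951 IH) (Lpn (LP (LK LD1_c16 LD2_c50 LD3_c45))))
theorem f235339 : Led Lsl_et (LP (LK LD1_c2 LD2_c12 LD3_c40)) = (LP (LK LD1_c4 LD2_c31 LD3_c27)) :=
  Lre_e IH (LK LD1_c2 LD2_c12 LD3_c40) (LK LD1_c4 LD2_c31 LD3_c27) Lrfl Lrfl
theorem f227213 : Led Lsl_et (LP (LK LD1_c1 LD2_c1 LD3_c22)) = (LP (LK LD1_c2 LD2_c8 LD3_c25)) :=
  Lre_e IH (LK LD1_c1 LD2_c1 LD3_c22) (LK LD1_c2 LD2_c8 LD3_c25) Lrfl Lrfl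
theorem f42920 : Led Lsl_dt (LP (LK LD1_c2 LD2_c8 LD3_c25)) = (LP (LK LD1_c4 LD2_c21 LD3_c52)) :=
  Lre_d IH (LK LD1_c2 LD2_c8 LD3_c25) (LK LD1_c4 LD2_c21 LD3_c52) Lrfl Lrfl
theorem f227229 : Led Lsl_et (LP (LK LD1_c4 LD2_c21 LD3_c52)) = (LP (LK LD1_c2 LD2_c33 LD3_c11)) :=
  Lgr Lrot71 (Lpe (f42920 IH) (Lpe (f227213 IH) (Lpe (K12.f227192 IH) (Lpr_ef (K13.f227225 IH) (Lpr_df (K13.f225589 IH) (Lpn (LP (LK LD1_c2 LD2_c33 LD3_c11))))))))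
theorem f227245 : Led Lsl_ct (LP (LK LD1_c8 LD2_c41 LD3_c24)) = (LP (LK LD1_c4 LD2_c21 LD3_c52)) :=
  Lre_c IH (LK LD1_c8 LD2_c41 LD3_c24) (LK LD1_c4 LD2_c21 LD3_c52) Lrfl Lrfl
theorem f227246 : Led Lsl_ef (LP (LK LD1_c8 LD2_c41 LD3_c24)) = (LP (LK LD1_c5 LD2_c12 LD3_c39)) :=
  Lgr Lrot28 (Lpr_ct (f227245 IH) (Lpr_et (f227229 IH) (Lpr_ct (K13.f171663 IH) (Lpn (LP (LK LD1_c5 LD2_c12 LD3_c39))))))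
theorem f241001 : Led Lsl_gf (LP (LK LD1_c4 LD2_c31 LD3_c27)) = (LP (LK LD1_c8 LD2_c41 LD3_c24)) :=
  Lgr Lrot141 (Lpe (f235339 IH) (Lpr_dt (f177913 IH) (Lpe (f235923 IH) (Lpe (f31424 IH) (Lpr_et (f31419 IH) (Lpr_gt (K13.f233746 IH) (Lpe (K13.f240731 IH) (Lpe (K13.f240962 IH) (Lpr_df (K13.f240985 IH) (Lpe (f227246 IH) (Lpn (LP (LK LD1_c8 LD2_c41 LD3_c24)))))))))))))
theorem f43138 : Led Lsl_ct (LP (LK LD1_c4 LD2_c21 LD3_c52)) = (LP (LK LD1_c8 LD2_c41 LD3_c24)) :=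
  Lre_c IH (LK LD1_c4 LD2_c21 LD3_c52) (LK LD1_c8 LD2_c41 LD3_c24) Lrfl Lrfl
theorem f235740 : Led Lsl_et (LP (LK LD1_c2 LD2_c38 LD3_c15)) = (LP (LK LD1_c1 LD2_c16 LD3_c4)) :=
  Lre_e IH (LK LD1_c2 LD2_c38 LD3_c15) (LK LD1_c1 LD2_c16 LD3_c4) Lrfl Lrfl
theorem f235741 : Led Lsl_dt (LP (LK LD1_c2 LD2_c38 LD3_c15)) = (LP (LK LD1_c5 LD2_c23 LD3_c31)) :=
  Lre_d IH (LK LD1_c2 LD2_c38 LD3_c15) (LK LD1_c5 LD2_c23 LD3_c31) Lrfl Lrfl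
theorem f235742 : Led Lsl_gt (LP (LK LD1_c5 LD2_c23 LD3_c31)) = (LP (LK LD1_c10 LD2_c37 LD3_c32)) :=
  Lre_g IH (LK LD1_c5 LD2_c23 LD3_c31) (LK LD1_c10 LD2_c37 LD3_c32) Lrfl Lrfl
theorem f255584 : Led Lsl_df (LP (LK LD1_c10 LD2_c37 LD3_c32)) = (LP (LK LD1_c16 LD2_c13 LD3_c3)) :=
  Lgr Lrot168 (Lpe (f235742 IH) (Lpe (f235741 IH) (Lpr_et (f235740 IH) (Lpe (K13.f221609 IH) (Lpe (f235595 IH) (Lpr_dt (f235679 IH) (Lpe (f255553 IH) (Lpr_df (f255565 IH) (Lpe (f255577 IH) (Lpe (f255583 IH) (Lpn (LP (LK LD1_c16 LD2_c13 LD3_c3)))))))))))))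
theorem f255586 : Led Lsl_dt (LP (LK LD1_c10 LD2_c37 LD3_c32)) = (LP (LK LD1_c16 LD2_c13 LD3_c3)) :=
  Lgr Lrot42 (Lpr_df (f255584 IH) (Lpn (LP (LK LD1_c16 LD2_c13 LD3_c3))))
theorem f255597 : Led Lsl_gt (LP (LK LD1_c4 LD2_c21 LD3_c52)) = (LP (LK LD1_c2 LD2_c38 LD3_c15)) :=
  Lgr Lrot180 (Lpr_ct (f43138 IH) (Lpe (f241001 IH) (Lpr_dt (f212559 IH) (Lpr_gt (f235950 IH) (Lpe (f235961 IH) (Lpr_ct (f255593 IH) (Lpe (f255586 IH) (Lpe (f235742 IH) (Lpe (f235741 IH) (Lpn (LP (LK LD1_c2 LD2_c38 LD3_c15))))))))))))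
theorem f42919 : Led Lsl_et (LP (LK LD1_c2 LD2_c8 LD3_c25)) = (LP (LK LD1_c1 LD2_c1 LD3_c22)) :=
  Lre_e IH (LK LD1_c2 LD2_c8 LD3_c25) (LK LD1_c1 LD2_c1 LD3_c22) Lrfl Lrfl
theorem f216791 : Led Lsl_et (LP (LK LD1_c1 LD2_c1 LD3_c15)) = (LP (LK LD1_c0 LD2_c28 LD3_c1)) :=
  Lre_e IH (LK LD1_c1 LD2_c1 LD3_c15) (LK LD1_c0 LD2_c28 LD3_c1) Lrfl Lrfl
theorem f235603 : Led Lsl_dt (LP (LK LD1_c5 LD2_c23 LD3_c31)) = (LP (LK LD1_c2 LD2_c38 LD3_c15)) :=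
  Lre_d IH (LK LD1_c5 LD2_c23 LD3_c31) (LK LD1_c2 LD2_c38 LD3_c15) Lrfl Lrfl
theorem f235602 : Led Lsl_et (LP (LK LD1_c5 LD2_c23 LD3_c31)) = (LP (LK LD1_c2 LD2_c38 LD3_c17)) :=
  Lre_e IH (LK LD1_c5 LD2_c23 LD3_c31) (LK LD1_c2 LD2_c38 LD3_c17) Lrfl Lrfl
theorem f255616 : Led Lsl_gf (LP (LK LD1_c2 LD2_c8 LD3_c10)) = (LP (LK LD1_c2 LD2_c38 LD3_c17)) :=
  Lgr Lrot138 (Lpr_dt (K13.f29134 IH) (Lpr_gt (K13.f29028 IH) (Lpe (K1.f29074 IH) (Lpr_et (f216791 IH) (Lpr_gt (K12.f28839 IH) (Lpe (f42919 IH) (Lpr_dt (f42920 IH) (Lpr_gt (f255597 IH) (Lpe (f235603 IH) (Lpr_et (f235602 IH) (Lpn (LP (LK LD1_c2 LD2_c38 LD3_c17)))))))))))))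
theorem f184366 : Led Lsl_ct (LP (LK LD1_c2 LD2_c8 LD3_c10)) = (LP (LK LD1_c4 LD2_c21 LD3_c18)) :=
  Lre_c IH (LK LD1_c2 LD2_c8 LD3_c10) (LK LD1_c4 LD2_c21 LD3_c18) Lrfl Lrfl
theorem f199320 : Led Lsl_gt (LP (LK LD1_c2 LD2_c23 LD3_c25)) = (LP (LK LD1_c4 LD2_c51 LD3_c10)) :=
  Lre_g IH (LK LD1_c2 LD2_c23 LD3_c25) (LK LD1_c4 LD2_c51 LD3_c10) Lrfl Lrfl
theorem f255620 : Led Lsl_ct (LP (LK LD1_c4 LD2_c51 LD3_c10)) = (LP (LK LD1_c2 LD2_c38 LD3_c17)) :=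
  Lgr Lrot152 (Lpe (f199320 IH) (Lpe (K13.f232545 IH) (Lpr_gt (K13.f232918 IH) (Lpe (K13.f232976 IH) (Lpe (K13.f184376 IH) (Lpr_ct (K13.f233324 IH) (Lpe (K13.f184367 IH) (Lpe (f184366 IH) (Lpr_gf (f255616 IH) (Lpn (LP (LK LD1_c2 LD2_c38 LD3_c17))))))))))))
theorem f255671 : Led Lsl_gt (LP (LK LD1_c4 LD2_c51 LD3_c10)) = (LP (LK LD1_c2 LD2_c23 LD3_c34)) :=
  Lgr Lrot180 (Lpr_ct (f255620 IH) (Lpe (f255616 IH) (Lpr_dt (K13.f29134 IH) (Lpr_gt (K13.f29028 IH) (Lpr_dt (K13.f28812 IH) (Lpr_ct (K1.f29145 IH) (Lpe (K1.f29124 IH) (Lpe (K13.f233212 IH) (Lpe (K13.f233159 IH) (Lpn (LP (LK LD1_c2 LD2_c23 LD3_c34))))))))))))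
theorem f255666 : Led Lsl_cf (LP (LK LD1_c4 LD2_c51 LD3_c10)) = (LP (LK LD1_c2 LD2_c38 LD3_c17)) :=
  Lgr Lrot11 (Lpr_ct (f255620 IH) (Lpn (LP (LK LD1_c2 LD2_c38 LD3_c17))))
theorem f255662 : Led Lsl_bt (LP (LK LD1_c2 LD2_c38 LD3_c17)) = (LP (LK LD1_c1 LD2_c16 LD3_c10)) :=
  Lre_b IH (LK LD1_c2 LD2_c38 LD3_c17) (LK LD1_c1 LD2_c16 LD3_c10) Lrfl Lrfl
theorem f232306 : Led Lsl_bt (LP (LK LD1_c1 LD2_c8 LD3_c53)) = (LP (LK LD1_c2 LD2_c23 LD3_c30)) :=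
  Lre_b IH (LK LD1_c1 LD2_c8 LD3_c53) (LK LD1_c2 LD2_c23 LD3_c30) Lrfl Lrfl
theorem f230952 : Led Lsl_bf (LP (LK LD1_c2 LD2_c5 LD3_c39)) = (LP (LK LD1_c2 LD2_c2 LD3_c13)) :=
  Lgr Lrot24 (Lpr_bt (K12.f230946 IH) (Lpn (LP (LK LD1_c2 LD2_c2 LD3_c13))))
theorem f255681 : Led Lsl_gf (LP (LK LD1_c1 LD2_c16 LD3_c10)) = (LP (LK LD1_c2 LD2_c5 LD3_c39)) :=
  Lgr Lrot124 (Lpe (f255662 IH) (Lpe (f255666 IH) (Lpr_gt (f255671 IH) (Lpe (K13.f29186 IH) (Lpr_bt (f232306 IH) (Lpr_gt (f229618 IH) (Lpr_ct (f231239 IH) (Lpr_gt (f231106 IH) (Lpe (K12.f230955 IH) (Lpe (f230952 IH) (Lpn (LP (LK LD1_c2 LD2_c5 LD3_c39)))))))))))))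
theorem f41439 : Led Lsl_dt (LP (LK LD1_c0 LD2_c35 LD3_c17)) = (LP (LK LD1_c1 LD2_c16 LD3_c10)) :=
  Lre_d IH (LK LD1_c0 LD2_c35 LD3_c17) (LK LD1_c1 LD2_c16 LD3_c10) Lrfl Lrfl
theorem f41438 : Led Lsl_et (LP (LK LD1_c0 LD2_c35 LD3_c17)) = (LP (LK LD1_c0 LD2_c15 LD3_c49)) :=
  Lre_e IH (LK LD1_c0 LD2_c35 LD3_c17) (LK LD1_c0 LD2_c15 LD3_c49) Lrfl Lrfl
theorem f41436 : Led Lsl_dt (LP (LK LD1_c1 LD2_c16 LD3_c14)) = (LP (LK LD1_c0 LD2_c35 LD3_c18)) :=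
  Lre_d IH (LK LD1_c1 LD2_c16 LD3_c14) (LK LD1_c0 LD2_c35 LD3_c18) Lrfl Lrfl
theorem f41440 : Led Lsl_et (LP (LK LD1_c1 LD2_c16 LD3_c14)) = (LP (LK LD1_c2 LD2_c38 LD3_c43)) :=
  Lre_e IH (LK LD1_c1 LD2_c16 LD3_c14) (LK LD1_c2 LD2_c38 LD3_c43) Lrfl Lrfl
theorem f255871 : Led Lsl_gt (LP (LK LD1_c2 LD2_c38 LD3_c43)) = (LP (LK LD1_c2 LD2_c5 LD3_c40)) :=
  Lgr Lrot131 (Lpe (f41440 IH) (Lpr_dt (f41436 IH) (Lpe (K13.f195896 IH) (Lpe (K1.f42558 IH) (Lpe (K9.f42112 IH) (Lpe (f41438 IH) (Lpr_dt (f41439 IH) (Lpr_gf (f255681 IH) (Lpe (K12.f230315 IH) (Lpr_et (K12.f230305 IH) (Lpn (LP (LK LD1_c2 LD2_c5 LD3_c40)))))))))))))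
theorem f223849 : Led Lsl_bt (LP (LK LD1_c2 LD2_c38 LD3_c34)) = (LP (LK LD1_c1 LD2_c16 LD3_c14)) :=
  Lre_b IH (LK LD1_c2 LD2_c38 LD3_c34) (LK LD1_c1 LD2_c16 LD3_c14) Lrfl Lrfl
theorem f223851 : Led Lsl_bf (LP (LK LD1_c4 LD2_c16 LD3_c60)) = (LP (LK LD1_c2 LD2_c38 LD3_c43)) :=
  Lgr Lrot96 (Lpr_et (f223846 IH) (Lpr_bt (f223849 IH) (Lpr_et (f41440 IH) (Lpn (LP (LK LD1_c2 LD2_c38 LD3_c43))))))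
theorem f251026 : Led Lsl_df (LP (LK LD1_c2 LD2_c38 LD3_c43)) = (LP (LK LD1_c2 LD2_c30 LD3_c20)) :=
  Lgr Lrot12 (Lpe (f223851 IH) (Lpr_dt (f251014 IH) (Lpr_bt (K11.f165299 IH) (Lpn (LP (LK LD1_c2 LD2_c30 LD3_c20))))))
theorem f169671 : Led Lsl_dt (LP (LK LD1_c5 LD2_c6 LD3_c8)) = (LP (LK LD1_c10 LD2_c3 LD3_c14)) :=
  Lre_d IH (LK LD1_c5 LD2_c6 LD3_c8) (LK LD1_c10 LD2_c3 LD3_c14) Lrfl Lrfl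
theorem f248444 : Led Lsl_df (LP (LK LD1_c1 LD2_c15 LD3_c19)) = (LP (LK LD1_c2 LD2_c5 LD3_c40)) :=
  Lgr Lrot78 (Lpr_ft (f248440 IH) (Lpr_dt (K12.f44266 IH) (Lpr_ft (K12.f230286 IH) (Lpn (LP (LK LD1_c2 LD2_c5 LD3_c40))))))
theorem f46334 : Led Lsl_dt (LP (LK LD1_c5 LD2_c19 LD3_c57)) = (LP (LK LD1_c2 LD2_c36 LD3_c39)) :=
  Lre_d IH (LK LD1_c5 LD2_c19 LD3_c57) (LK LD1_c2 LD2_c36 LD3_c39) Lrfl Lrfl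
theorem f255879 : Led Lsl_gt (LP (LK LD1_c10 LD2_c3 LD3_c14)) = (LP (LK LD1_c5 LD2_c19 LD3_c57)) :=
  Lgr Lrot49 (Lpe (f169671 IH) (Lpe (f169670 IH) (Lpe (f180544 IH) (Lpr_gt (K10.f165298 IH) (Lpe (f251026 IH) (Lpr_gt (f255871 IH) (Lpe (f248444 IH) (Lpe (f46336 IH) (Lpe (f46334 IH) (Lpn (LP (LK LD1_c5 LD2_c19 LD3_c57))))))))))))
theorem f43577 : Led Lsl_gt (LP (LK LD1_c4 LD2_c54 LD3_c12)) = (LP (LK LD1_c9 LD2_c39 LD3_c56)) :=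
  Lre_g IH (LK LD1_c4 LD2_c54 LD3_c12) (LK LD1_c9 LD2_c39 LD3_c56) Lrfl Lrfl
theorem f43578 : Led Lsl_gf (LP (LK LD1_c9 LD2_c40 LD3_c33)) = (LP (LK LD1_c9 LD2_c39 LD3_c56)) :=
  Lgr Lrot76 (Lpr_af (K13.f43562 IH) (Lpe (f43566 IH) (Lpr_gt (f43577 IH) (Lpn (LP (LK LD1_c9 LD2_c39 LD3_c56))))))
theorem f229057 : Led Lsl_dt (LP (LK LD1_c9 LD2_c39 LD3_c56)) = (LP (LK LD1_c5 LD2_c18 LD3_c61)) :=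
  Lgr Lrot105 (Lpe (f43577 IH) (Lpe (K9.f43489 IH) (Lpe (K12.f43494 IH) (Lpr_cf (K12.f229049 IH) (Lpr_gt (K12.f28268 IH) (Lpr_dt (K12.f28267 IH) (Lpr_gt (K9.f28264 IH) (Lpr_dt (K10.f28265 IH) (Lpe (K10.f184850 IH) (Lpn (LP (LK LD1_c5 LD2_c18 LD3_c61))))))))))))
theorem f240491 : Led Lsl_dt (LP (LK LD1_c2 LD2_c32 LD3_c8)) = (LP (LK LD1_c5 LD2_c10 LD3_c10)) :=
  Lre_d IH (LK LD1_c2 LD2_c32 LD3_c8) (LK LD1_c5 LD2_c10 LD3_c10) Lrfl Lrfl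
theorem f189553 : Led Lsl_ct (LP (LK LD1_c5 LD2_c10 LD3_c5)) = (LP (LK LD1_c2 LD2_c32 LD3_c7)) :=
  Lre_c IH (LK LD1_c5 LD2_c10 LD3_c5) (LK LD1_c2 LD2_c32 LD3_c7) Lrfl Lrfl
theorem f248176 : Led Lsl_gt (LP (LK LD1_c5 LD2_c18 LD3_c61)) = (LP (LK LD1_c5 LD2_c10 LD3_c5)) :=
  Lgr Lrot9 (Lpe (f229057 IH) (Lpe (f43578 IH) (Lpr_ct (K9.f43502 IH) (Lpr_gt (K9.f183983 IH) (Lpr_ct (f248106 IH) (Lpe (f240491 IH) (Lpe (K13.f185405 IH) (Lpe (f189551 IH) (Lpe (f189553 IH) (Lpn (LP (LK LD1_c5 LD2_c10 LD3_c5))))))))))))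
theorem f247992 : Led Lsl_dt (LP (LK LD1_c5 LD2_c10 LD3_c5)) = (LP (LK LD1_c10 LD2_c10 LD3_c55)) :=
  Lre_d IH (LK LD1_c5 LD2_c10 LD3_c5) (LK LD1_c10 LD2_c10 LD3_c55) Lrfl Lrfl
theorem f248239 : Led Lsl_cf (LP (LK LD1_c10 LD2_c3 LD3_c14)) = (LP (LK LD1_c10 LD2_c10 LD3_c55)) :=
  Lgr Lrot14 (Lpe (f169671 IH) (Lpe (f169670 IH) (Lpe (f180542 IH) (Lpe (f248087 IH) (Lpr_ct (f43525 IH) (Lpr_gt (f43577 IH) (Lpr_dt (f229057 IH) (Lpr_gt (f248176 IH) (Lpr_dt (f247992 IH) (Lpn (LP (LK LD1_c10 LD2_c10 LD3_c55))))))))))))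
theorem f43473 : Led Lsl_dt (LP (LK LD1_c9 LD2_c40 LD3_c13)) = (LP (LK LD1_c4 LD2_c54 LD3_c22)) :=
  Lre_d IH (LK LD1_c9 LD2_c40 LD3_c13) (LK LD1_c4 LD2_c54 LD3_c22) Lrfl Lrfl
theorem f246667 : Led Lsl_df (LP (LK LD1_c2 LD2_c6 LD3_c38)) = (LP (LK LD1_c2 LD2_c25 LD3_c5)) :=
  Lgr Lrot38 (Lpr_dt (f246663 IH) (Lpn (LP (LK LD1_c2 LD2_c25 LD3_c5))))
theorem f230297 : Led Lsl_ff (LP (LK LD1_c2 LD2_c36 LD3_c22)) = (LP (LK LD1_c2 LD2_c5 LD3_c40)) :=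
  Lgr Lrot3 (Lpr_ft (K12.f230286 IH) (Lpn (LP (LK LD1_c2 LD2_c5 LD3_c40))))
theorem f230303 : Led Lsl_ct (LP (LK LD1_c2 LD2_c6 LD3_c38)) = (LP (LK LD1_c2 LD2_c5 LD3_c40)) :=
  Lgr Lrot40 (Lpe (K12.f229928 IH) (Lpe (f230270 IH) (Lpr_ff (f230297 IH) (Lpn (LP (LK LD1_c2 LD2_c5 LD3_c40))))))
theorem f46333 : Led Lsl_dt (LP (LK LD1_c2 LD2_c36 LD3_c39)) = (LP (LK LD1_c5 LD2_c19 LD3_c57)) :=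
  Lre_d IH (LK LD1_c2 LD2_c36 LD3_c39) (LK LD1_c5 LD2_c19 LD3_c57) Lrfl Lrfl
theorem f165431 : Led Lsl_ct (LP (LK LD1_c2 LD2_c29 LD3_c12)) = (LP (LK LD1_c1 LD2_c11 LD3_c44)) :=
  Lre_c IH (LK LD1_c2 LD2_c29 LD3_c12) (LK LD1_c1 LD2_c11 LD3_c44) Lrfl Lrfl
theorem f165432 : Led Lsl_dt (LP (LK LD1_c5 LD2_c3 LD3_c19)) = (LP (LK LD1_c2 LD2_c29 LD3_c12)) :=
  Lre_d IH (LK LD1_c5 LD2_c3 LD3_c19) (LK LD1_c2 LD2_c29 LD3_c12) Lrfl Lrfl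
theorem f248478 : Led Lsl_ct (LP (LK LD1_c5 LD2_c19 LD3_c57)) = (LP (LK LD1_c5 LD2_c3 LD3_c19)) :=
  Lgr Lrot176 (Lpe (f46333 IH) (Lpe (f46332 IH) (Lpr_df (f248444 IH) (Lpe (f230303 IH) (Lpr_df (f246667 IH) (Lpe (f43475 IH) (Lpe (f43473 IH) (Lpr_cf (f248456 IH) (Lpe (f185501 IH) (Lpe (K10.f32891 IH) (Lpe (f248466 IH) (Lpe (f230284 IH) (Lpr_df (f248470 IH) (Lpe (f165431 IH) (Lpe (f165432 IH) (Lpn (LP (LK LD1_c5 LD2_c3 LD3_c19))))))))))))))))))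
theorem f184509 : Led Lsl_dt (LP (LK LD1_c2 LD2_c29 LD3_c12)) = (LP (LK LD1_c5 LD2_c3 LD3_c19)) :=
  Lre_d IH (LK LD1_c2 LD2_c29 LD3_c12) (LK LD1_c5 LD2_c3 LD3_c19) Lrfl Lrfl
theorem f43773 : Led Lsl_dt (LP (LK LD1_c9 LD2_c40 LD3_c22)) = (LP (LK LD1_c4 LD2_c54 LD3_c25)) :=
  Lre_d IH (LK LD1_c9 LD2_c40 LD3_c22) (LK LD1_c4 LD2_c54 LD3_c25) Lrfl Lrfl
theorem f255903 : Led Lsl_gf (LP (LK LD1_c10 LD2_c10 LD3_c55)) = (LP (LK LD1_c9 LD2_c40 LD3_c22)) :=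
  Lgr Lrot147 (Lpe (f248239 IH) (Lpr_gt (f255879 IH) (Lpr_ct (f248478 IH) (Lpe (f184509 IH) (Lpe (K13.f165433 IH) (Lpe (f184044 IH) (Lpe (K10.f43415 IH) (Lpe (K9.f43768 IH) (Lpe (f43773 IH) (Lpn (LP (LK LD1_c9 LD2_c40 LD3_c22))))))))))))
theorem f247978 : Led Lsl_dt (LP (LK LD1_c10 LD2_c10 LD3_c55)) = (LP (LK LD1_c5 LD2_c10 LD3_c5)) :=
  Lre_d IH (LK LD1_c10 LD2_c10 LD3_c55) (LK LD1_c5 LD2_c10 LD3_c5) Lrfl Lrfl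
theorem f231801 : Led Lsl_df (LP (LK LD1_c4 LD2_c6 LD3_c27)) = (LP (LK LD1_c5 LD2_c8 LD3_c28)) :=
  Lgr Lrot38 (Lpr_dt (f231797 IH) (Lpn (LP (LK LD1_c5 LD2_c8 LD3_c28))))
theorem f231815 : Led Lsl_bt (LP (LK LD1_c4 LD2_c6 LD3_c27)) = (LP (LK LD1_c2 LD2_c0 LD3_c36)) :=
  Lre_b IH (LK LD1_c4 LD2_c6 LD3_c27) (LK LD1_c2 LD2_c0 LD3_c36) Lrfl Lrfl
theorem f247999 : Led Lsl_df (LP (LK LD1_c2 LD2_c32 LD3_c7)) = (LP (LK LD1_c2 LD2_c0 LD3_c36)) :=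
  Lgr Lrot12 (Lpr_bt (f247995 IH) (Lpe (f231801 IH) (Lpr_bt (f231815 IH) (Lpn (LP (LK LD1_c2 LD2_c0 LD3_c36))))))
theorem f43771 : Led Lsl_dt (LP (LK LD1_c4 LD2_c54 LD3_c25)) = (LP (LK LD1_c9 LD2_c40 LD3_c22)) :=
  Lre_d IH (LK LD1_c4 LD2_c54 LD3_c25) (LK LD1_c9 LD2_c40 LD3_c22) Lrfl Lrfl
theorem f255923 : Led Lsl_gf (LP (LK LD1_c2 LD2_c0 LD3_c36)) = (LP (LK LD1_c2 LD2_c6 LD3_c38)) :=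
  Lgr Lrot143 (Lpe (f247999 IH) (Lpe (f189553 IH) (Lpe (f247978 IH) (Lpr_gf (f255903 IH) (Lpe (f43771 IH) (Lpr_gf (K9.f43769 IH) (Lpe (K9.f43450 IH) (Lpe (K12.f43469 IH) (Lpe (f246667 IH) (Lpn (LP (LK LD1_c2 LD2_c6 LD3_c38))))))))))))
theorem f248026 : Led Lsl_et (LP (LK LD1_c0 LD2_c57 LD3_c15)) = (LP (LK LD1_c2 LD2_c0 LD3_c36)) :=
  Lre_e IH (LK LD1_c0 LD2_c57 LD3_c15) (LK LD1_c2 LD2_c0 LD3_c36) Lrfl Lrfl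
theorem f47861 : Led Lsl_dt (LP (LK LD1_c0 LD2_c57 LD3_c15)) = (LP (LK LD1_c2 LD2_c0 LD3_c35)) :=
  Lre_d IH (LK LD1_c0 LD2_c57 LD3_c15) (LK LD1_c2 LD2_c0 LD3_c35) Lrfl Lrfl
theorem f175072 : Led Lsl_ct (LP (LK LD1_c2 LD2_c40 LD3_c25)) = (LP (LK LD1_c5 LD2_c28 LD3_c12)) :=
  Lre_c IH (LK LD1_c2 LD2_c40 LD3_c25) (LK LD1_c5 LD2_c28 LD3_c12) Lrfl Lrfl
theorem f192517 : Led Lsl_ct (LP (LK LD1_c2 LD2_c1 LD3_c18)) = (LP (LK LD1_c2 LD2_c0 LD3_c33)) :=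
  Lgr Lrot59 (Lpr_cf (K10.f192515 IH) (Lpn (LP (LK LD1_c2 LD2_c0 LD3_c33))))
theorem f192520 : Led Lsl_ct (LP (LK LD1_c8 LD2_c13 LD3_c29)) = (LP (LK LD1_c4 LD2_c6 LD3_c26)) :=
  Lre_c IH (LK LD1_c8 LD2_c13 LD3_c29) (LK LD1_c4 LD2_c6 LD3_c26) Lrfl Lrfl
theorem f252584 : Led Lsl_gt (LP (LK LD1_c5 LD2_c28 LD3_c12)) = (LP (LK LD1_c8 LD2_c13 LD3_c29)) :=
  Lgr Lrot150 (Lpe (f175072 IH) (Lpr_gf (f252580 IH) (Lpe (f182084 IH) (Lpe (K10.f192533 IH) (Lpr_ct (K9.f49604 IH) (Lpe (K10.f51335 IH) (Lpr_ct (f192517 IH) (Lpe (f192519 IH) (Lpe (f192520 IH) (Lpn (LP (LK LD1_c8 LD2_c13 LD3_c29))))))))))))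
theorem f204985 : Led Lsl_ct (LP (LK LD1_c4 LD2_c6 LD3_c26)) = (LP (LK LD1_c8 LD2_c13 LD3_c29)) :=
  Lre_c IH (LK LD1_c4 LD2_c6 LD3_c26) (LK LD1_c8 LD2_c13 LD3_c29) Lrfl Lrfl
theorem f252586 : Led Lsl_bt (LP (LK LD1_c4 LD2_c6 LD3_c26)) = (LP (LK LD1_c2 LD2_c0 LD3_c35)) :=
  Lre_b IH (LK LD1_c4 LD2_c6 LD3_c26) (LK LD1_c2 LD2_c0 LD3_c35) Lrfl Lrfl
theorem f54553 : Led Lsl_gt (LP (LK LD1_c4 LD2_c6 LD3_c23)) = (LP (LK LD1_c2 LD2_c0 LD3_c31)) :=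
  Lre_g IH (LK LD1_c4 LD2_c6 LD3_c23) (LK LD1_c2 LD2_c0 LD3_c31) Lrfl Lrfl
theorem f252104 : Led Lsl_dt (LP (LK LD1_c2 LD2_c6 LD3_c58)) = (LP (LK LD1_c4 LD2_c6 LD3_c23)) :=
  Lgr Lrot136 (Lpr_et (f200609 IH) (Lpr_gf (f246712 IH) (Lpe (f218585 IH) (Lpr_dt (f41405 IH) (Lpe (f218560 IH) (Lpr_df (f252089 IH) (Lpe (f250474 IH) (Lpe (K12.f187349 IH) (Lpr_dt (f187400 IH) (Lpe (f54553 IH) (Lpn (LP (LK LD1_c4 LD2_c6 LD3_c23)))))))))))))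
theorem f252110 : Led Lsl_df (LP (LK LD1_c2 LD2_c6 LD3_c58)) = (LP (LK LD1_c4 LD2_c6 LD3_c23)) :=
  Lgr Lrot38 (Lpr_dt (f252104 IH) (Lpn (LP (LK LD1_c4 LD2_c6 LD3_c23))))
theorem f179868 : Led Lsl_bt (LP (LK LD1_c2 LD2_c6 LD3_c58)) = (LP (LK LD1_c1 LD2_c0 LD3_c28)) :=
  Lre_b IH (LK LD1_c2 LD2_c6 LD3_c58) (LK LD1_c1 LD2_c0 LD3_c28) Lrfl Lrfl
theorem f226061 : Led Lsl_df (LP (LK LD1_c2 LD2_c0 LD3_c42)) = (LP (LK LD1_c1 LD2_c0 LD3_c28)) :=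
  Lgr Lrot155 (Lpr_gt (f21289 IH) (Lpr_ct (K12.f21290 IH) (Lpe (f198716 IH) (Lpr_ct (f166140 IH) (Lpr_dt (K9.f166124 IH) (Lpe (K9.f166125 IH) (Lpr_gf (f226056 IH) (Lpe (K9.f20659 IH) (Lpe (K9.f179863 IH) (Lpn (LP (LK LD1_c1 LD2_c0 LD3_c28))))))))))))
theorem f252114 : Led Lsl_bt (LP (LK LD1_c2 LD2_c0 LD3_c42)) = (LP (LK LD1_c4 LD2_c6 LD3_c23)) :=
  Lgr Lrot95 (Lpr_df (f226061 IH) (Lpe (f179868 IH) (Lpr_df (f252110 IH) (Lpn (LP (LK LD1_c4 LD2_c6 LD3_c23))))))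
theorem f252587 : Led Lsl_gt (LP (LK LD1_c2 LD2_c0 LD3_c35)) = (LP (LK LD1_c4 LD2_c6 LD3_c23)) :=
  Lgr Lrot164 (Lpe (f252586 IH) (Lpr_ct (f204985 IH) (Lpe (f252584 IH) (Lpe (f175072 IH) (Lpr_gf (f252580 IH) (Lpe (f183371 IH) (Lpr_ct (K10.f181190 IH) (Lpe (f181192 IH) (Lpr_cf (f183883 IH) (Lpr_bt (f252114 IH) (Lpn (LP (LK LD1_c4 LD2_c6 LD3_c23)))))))))))))
theorem f200612 : Led Lsl_gt (LP (LK LD1_c1 LD2_c0 LD3_c27)) = (LP (LK LD1_c2 LD2_c6 LD3_c56)) :=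
  Lre_g IH (LK LD1_c1 LD2_c0 LD3_c27) (LK LD1_c2 LD2_c6 LD3_c56) Lrfl Lrfl
theorem f230313 : Led Lsl_dt (LP (LK LD1_c2 LD2_c6 LD3_c37)) = (LP (LK LD1_c1 LD2_c0 LD3_c17)) :=
  Lre_d IH (LK LD1_c2 LD2_c6 LD3_c37) (LK LD1_c1 LD2_c0 LD3_c17) Lrfl Lrfl
theorem f167248 : Led Lsl_ct (LP (LK LD1_c4 LD2_c12 LD3_c56)) = (LP (LK LD1_c2 LD2_c3 LD3_c45)) :=
  Lre_c IH (LK LD1_c4 LD2_c12 LD3_c56) (LK LD1_c2 LD2_c3 LD3_c45) Lrfl Lrfl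
theorem f53907 : Led Lsl_gt (LP (LK LD1_c8 LD2_c12 LD3_c60)) = (LP (LK LD1_c15 LD2_c27 LD3_c20)) :=
  Lre_g IH (LK LD1_c8 LD2_c12 LD3_c60) (LK LD1_c15 LD2_c27 LD3_c20) Lrfl Lrfl
theorem f222869 : Led Lsl_gf (LP (LK LD1_c8 LD2_c25 LD3_c8)) = (LP (LK LD1_c15 LD2_c27 LD3_c20)) :=
  Lgr Lrot76 (Lpr_af (K12.f222859 IH) (Lpr_ff (K12.f188870 IH) (Lpr_gt (f53907 IH) (Lpn (LP (LK LD1_c15 LD2_c27 LD3_c20))))))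
theorem f29053 : Led Lsl_dt (LP (LK LD1_c2 LD2_c58 LD3_c20)) = (LP (LK LD1_c1 LD2_c24 LD3_c51)) :=
  Lre_d IH (LK LD1_c2 LD2_c58 LD3_c20) (LK LD1_c1 LD2_c24 LD3_c51) Lrfl Lrfl
theorem f787 : Led Lsl_gt (LP (LK LD1_c0 LD2_c27 LD3_c8)) = (LP (LK LD1_c0 LD2_c59 LD3_c36)) :=
  Lre_g IH (LK LD1_c0 LD2_c27 LD3_c8) (LK LD1_c0 LD2_c59 LD3_c36) Lrfl Lrfl
theorem f789 : Led Lsl_dt (LP (LK LD1_c0 LD2_c59 LD3_c36)) = (LP (LK LD1_c2 LD2_c5 LD3_c2)) :=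
  Lre_d IH (LK LD1_c0 LD2_c59 LD3_c36) (LK LD1_c2 LD2_c5 LD3_c2) Lrfl Lrfl
theorem f168529 : Led Lsl_dt (LP (LK LD1_c2 LD2_c41 LD3_c9)) = (LP (LK LD1_c1 LD2_c17 LD3_c16)) :=
  Lre_d IH (LK LD1_c2 LD2_c41 LD3_c9) (LK LD1_c1 LD2_c17 LD3_c16) Lrfl Lrfl
theorem f213781 : Led Lsl_gt (LP (LK LD1_c2 LD2_c5 LD3_c2)) = (LP (LK LD1_c1 LD2_c17 LD3_c23)) :=
  Lgr Lrot49 (Lpe (f789 IH) (Lpe (f787 IH) (Lpe (K10.f48250 IH) (Lpr_gt (K9.f45094 IH) (Lpr_dt (K10.f45095 IH) (Lpr_gt (f213778 IH) (Lpr_dt (f168529 IH) (Lpe (K13.f168317 IH) (Lpe (f168533 IH) (Lpn (LP (LK LD1_c1 LD2_c17 LD3_c23))))))))))))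
theorem f213848 : Led Lsl_bt (LP (LK LD1_c4 LD2_c15 LD3_c19)) = (LP (LK LD1_c2 LD2_c5 LD3_c2)) :=
  Lre_b IH (LK LD1_c4 LD2_c15 LD3_c19) (LK LD1_c2 LD2_c5 LD3_c2) Lrfl Lrfl
theorem f178837 : Led Lsl_bt (LP (LK LD1_c0 LD2_c35 LD3_c49)) = (LP (LK LD1_c1 LD2_c17 LD3_c23)) :=
  Lre_b IH (LK LD1_c0 LD2_c35 LD3_c49) (LK LD1_c1 LD2_c17 LD3_c23) Lrfl Lrfl
theorem f178507 : Led Lsl_gt (LP (LK LD1_c0 LD2_c58 LD3_c54)) = (LP (LK LD1_c2 LD2_c3 LD3_c48)) :=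
  Lre_g IH (LK LD1_c0 LD2_c58 LD3_c54) (LK LD1_c2 LD2_c3 LD3_c48) Lrfl Lrfl
theorem f178806 : Led Lsl_ct (LP (LK LD1_c2 LD2_c3 LD3_c48)) = (LP (LK LD1_c4 LD2_c13 LD3_c1)) :=
  Lre_c IH (LK LD1_c2 LD2_c3 LD3_c48) (LK LD1_c4 LD2_c13 LD3_c1) Lrfl Lrfl
theorem f178815 : Led Lsl_gt (LP (LK LD1_c4 LD2_c13 LD3_c1)) = (LP (LK LD1_c8 LD2_c25 LD3_c14)) :=
  Lre_g IH (LK LD1_c4 LD2_c13 LD3_c1) (LK LD1_c8 LD2_c25 LD3_c14) Lrfl Lrfl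
theorem f213852 : Led Lsl_ct (LP (LK LD1_c4 LD2_c15 LD3_c19)) = (LP (LK LD1_c8 LD2_c25 LD3_c14)) :=
  Lgr Lrot63 (Lpr_bt (f213848 IH) (Lpr_gt (f213781 IH) (Lpe (f178837 IH) (Lpr_ct (K9.f168323 IH) (Lpe (K9.f178498 IH) (Lpe (K9.f166578 IH) (Lpr_bt (f178350 IH) (Lpr_gt (f178507 IH) (Lpr_ct (f178806 IH) (Lpr_gt (f178815 IH) (Lpn (LP (LK LD1_c8 LD2_c25 LD3_c14)))))))))))))
theorem f213864 : Led Lsl_cf (LP (LK LD1_c4 LD2_c15 LD3_c19)) = (LP (LK LD1_c8 LD2_c25 LD3_c14)) :=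
  Lgr Lrot11 (Lpr_ct (f213852 IH) (Lpn (LP (LK LD1_c8 LD2_c25 LD3_c14))))
theorem f232315 : Led Lsl_dt (LP (LK LD1_c15 LD2_c27 LD3_c20)) = (LP (LK LD1_c8 LD2_c25 LD3_c14)) :=
  Lgr Lrot105 (Lpe (f53907 IH) (Lpe (K12.f53804 IH) (Lpr_gf (K13.f219170 IH) (Lpe (K13.f216731 IH) (Lpe (K12.f216721 IH) (Lpr_dt (f29053 IH) (Lpr_gt (f232312 IH) (Lpr_dt (f49037 IH) (Lpr_cf (f213864 IH) (Lpn (LP (LK LD1_c8 LD2_c25 LD3_c14))))))))))))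
theorem f232317 : Led Lsl_df (LP (LK LD1_c15 LD2_c27 LD3_c20)) = (LP (LK LD1_c8 LD2_c25 LD3_c14)) :=
  Lgr Lrot38 (Lpr_dt (f232315 IH) (Lpn (LP (LK LD1_c8 LD2_c25 LD3_c14))))
theorem f246680 : Led Lsl_gf (LP (LK LD1_c2 LD2_c6 LD3_c37)) = (LP (LK LD1_c2 LD2_c3 LD3_c48)) :=
  Lgr Lrot144 (Lpr_dt (f230313 IH) (Lpr_gt (f246674 IH) (Lpr_dt (K12.f167247 IH) (Lpe (f167248 IH) (Lpe (K12.f222213 IH) (Lpr_gf (f222869 IH) (Lpr_df (f232317 IH) (Lpe (f178815 IH) (Lpe (f178806 IH) (Lpn (LP (LK LD1_c2 LD2_c3 LD3_c48))))))))))))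
theorem f255928 : Led Lsl_dt (LP (LK LD1_c2 LD2_c6 LD3_c56)) = (LP (LK LD1_c2 LD2_c3 LD3_c48)) :=
  Lgr Lrot171 (Lpe (f200612 IH) (Lpe (f200609 IH) (Lpr_dt (f252104 IH) (Lpe (f252587 IH) (Lpe (f47861 IH) (Lpr_et (f248026 IH) (Lpr_gf (f255923 IH) (Lpe (f230306 IH) (Lpr_dt (f246649 IH) (Lpr_gf (f246680 IH) (Lpn (LP (LK LD1_c2 LD2_c3 LD3_c48)))))))))))))
theorem f255932 : Led Lsl_df (LP (LK LD1_c2 LD2_c6 LD3_c56)) = (LP (LK LD1_c2 LD2_c3 LD3_c48)) :=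
  Lgr Lrot38 (Lpr_dt (f255928 IH) (Lpn (LP (LK LD1_c2 LD2_c3 LD3_c48))))
theorem f200625 : Led Lsl_ct (LP (LK LD1_c2 LD2_c6 LD3_c56)) = (LP (LK LD1_c4 LD2_c19 LD3_c7)) :=
  Lre_c IH (LK LD1_c2 LD2_c6 LD3_c56) (LK LD1_c4 LD2_c19 LD3_c7) Lrfl Lrfl
theorem f200554 : Led Lsl_gt (LP (LK LD1_c2 LD2_c8 LD3_c46)) = (LP (LK LD1_c4 LD2_c22 LD3_c39)) :=
  Lre_g IH (LK LD1_c2 LD2_c8 LD3_c46) (LK LD1_c4 LD2_c22 LD3_c39) Lrfl Lrfl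
theorem f255982 : Led Lsl_df (LP (LK LD1_c4 LD2_c19 LD3_c7)) = (LP (LK LD1_c4 LD2_c22 LD3_c39)) :=
  Lgr Lrot84 (Lpe (f200625 IH) (Lpr_df (f255932 IH) (Lpe (f178507 IH) (Lpe (f184318 IH) (Lpe (K12.f167250 IH) (Lpr_cf (K12.f222151 IH) (Lpe (K12.f219450 IH) (Lpr_dt (f200550 IH) (Lpr_gt (f200554 IH) (Lpn (LP (LK LD1_c4 LD2_c22 LD3_c39))))))))))))
theorem f170893 : Led Lsl_gt (LP (LK LD1_c2 LD2_c2 LD3_c38)) = (LP (LK LD1_c4 LD2_c10 LD3_c44)) :=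
  Lre_g IH (LK LD1_c2 LD2_c2 LD3_c38) (LK LD1_c4 LD2_c10 LD3_c44) Lrfl Lrfl
theorem f230317 : Led Lsl_at (LP (LK LD1_c2 LD2_c5 LD3_c43)) = (LP (LK LD1_c4 LD2_c16 LD3_c44)) :=
  Lre_a IH (LK LD1_c2 LD2_c5 LD3_c43) (LK LD1_c4 LD2_c16 LD3_c44) Lrfl Lrfl
theorem f252032 : Led Lsl_gt (LP (LK LD1_c4 LD2_c10 LD3_c44)) = (LP (LK LD1_c4 LD2_c16 LD3_c44)) :=
  Lgr Lrot46 (Lpe (f170893 IH) (Lpr_ft (f252005 IH) (Lpr_at (f230317 IH) (Lpn (LP (LK LD1_c4 LD2_c16 LD3_c44))))))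
theorem f230310 : Led Lsl_ct (LP (LK LD1_c1 LD2_c0 LD3_c17)) = (LP (LK LD1_c0 LD2_c59 LD3_c51)) :=
  Lgr Lrot15 (Lpe (f230309 IH) (Lpr_cf (K12.f230294 IH) (Lpe (K12.f230305 IH) (Lpn (LP (LK LD1_c0 LD2_c59 LD3_c51))))))
theorem f252035 : Led Lsl_cf (LP (LK LD1_c4 LD2_c10 LD3_c44)) = (LP (LK LD1_c4 LD2_c22 LD3_c39)) :=
  Lgr Lrot169 (Lpr_gt (f252032 IH) (Lpr_ct (f230319 IH) (Lpe (K12.f230315 IH) (Lpe (f230310 IH) (Lpe (f231230 IH) (Lpe (K10.f53810 IH) (Lpr_gf (K12.f211422 IH) (Lpe (K12.f200526 IH) (Lpr_gt (f200554 IH) (Lpn (LP (LK LD1_c4 LD2_c22 LD3_c39))))))))))))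
theorem f252043 : Led Lsl_ct (LP (LK LD1_c4 LD2_c10 LD3_c44)) = (LP (LK LD1_c4 LD2_c22 LD3_c39)) :=
  Lgr Lrot59 (Lpr_cf (f252035 IH) (Lpn (LP (LK LD1_c4 LD2_c22 LD3_c39))))
theorem f167084 : Led Lsl_ct (LP (LK LD1_c0 LD2_c58 LD3_c13)) = (LP (LK LD1_c2 LD2_c2 LD3_c38)) :=
  Lre_c IH (LK LD1_c0 LD2_c58 LD3_c13) (LK LD1_c2 LD2_c2 LD3_c38) Lrfl Lrfl
theorem f251904 : Led Lsl_ft (LP (LK LD1_c2 LD2_c5 LD3_c39)) = (LP (LK LD1_c2 LD2_c2 LD3_c35)) :=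
  Lgr Lrot48 (Lpr_ff (f251886 IH) (Lpn (LP (LK LD1_c2 LD2_c2 LD3_c35))))
theorem f255864 : Led Lsl_gt (LP (LK LD1_c1 LD2_c16 LD3_c10)) = (LP (LK LD1_c0 LD2_c58 LD3_c13)) :=
  Lgr Lrot46 (Lpr_gf (f255681 IH) (Lpr_ft (f251904 IH) (Lpr_at (f231042 IH) (Lpn (LP (LK LD1_c0 LD2_c58 LD3_c13))))))
theorem f255986 : Led Lsl_gf (LP (LK LD1_c1 LD2_c9 LD3_c28)) = (LP (LK LD1_c0 LD2_c35 LD3_c17)) :=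
  Lgr Lrot147 (Lpr_ct (f200607 IH) (Lpr_gt (f200612 IH) (Lpr_ct (f200625 IH) (Lpr_df (f255982 IH) (Lpe (f252043 IH) (Lpe (f170893 IH) (Lpe (f167084 IH) (Lpe (f255864 IH) (Lpe (f41439 IH) (Lpn (LP (LK LD1_c0 LD2_c35 LD3_c17))))))))))))
theorem f2875 : Led Lsl_ct (LP (LK LD1_c2 LD2_c23 LD3_c50)) = (LP (LK LD1_c1 LD2_c8 LD3_c59)) :=
  Lre_c IH (LK LD1_c2 LD2_c23 LD3_c50) (LK LD1_c1 LD2_c8 LD3_c59) Lrfl Lrfl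
theorem f2878 : Led Lsl_gt (LP (LK LD1_c4 LD2_c52 LD3_c9)) = (LP (LK LD1_c2 LD2_c23 LD3_c50)) :=
  Lre_g IH (LK LD1_c4 LD2_c52 LD3_c9) (LK LD1_c2 LD2_c23 LD3_c50) Lrfl Lrfl
theorem f2874 : Led Lsl_bt (LP (LK LD1_c1 LD2_c8 LD3_c59)) = (LP (LK LD1_c0 LD2_c31 LD3_c31)) :=
  Lre_b IH (LK LD1_c1 LD2_c8 LD3_c59) (LK LD1_c0 LD2_c31 LD3_c31) Lrfl Lrfl
theorem f2877 : Led Lsl_ct (LP (LK LD1_c1 LD2_c8 LD3_c59)) = (LP (LK LD1_c2 LD2_c23 LD3_c50)) :=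
  Lre_c IH (LK LD1_c1 LD2_c8 LD3_c59) (LK LD1_c2 LD2_c23 LD3_c50) Lrfl Lrfl
theorem f200135 : Led Lsl_ct (LP (LK LD1_c2 LD2_c58 LD3_c20)) = (LP (LK LD1_c4 LD2_c52 LD3_c9)) :=
  Lgr Lrot64 (Lpr_bt (K1.f42068 IH) (Lpr_gf (K11.f200129 IH) (Lpe (K12.f170625 IH) (Lpr_ct (K9.f53146 IH) (Lpr_gf (K9.f170917 IH) (Lpr_cf (K9.f2170 IH) (Lpe (K9.f2872 IH) (Lpe (f2874 IH) (Lpr_ct (f2877 IH) (Lpe (f2878 IH) (Lpn (LP (LK LD1_c4 LD2_c52 LD3_c9)))))))))))))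
theorem f216740 : Led Lsl_df (LP (LK LD1_c2 LD2_c36 LD3_c15)) = (LP (LK LD1_c2 LD2_c8 LD3_c26)) :=
  Lgr Lrot38 (Lpr_dt (K12.f216734 IH) (Lpn (LP (LK LD1_c2 LD2_c8 LD3_c26))))
theorem f169145 : Led Lsl_ct (LP (LK LD1_c1 LD2_c16 LD3_c7)) = (LP (LK LD1_c0 LD2_c35 LD3_c17)) :=
  Lre_c IH (LK LD1_c1 LD2_c16 LD3_c7) (LK LD1_c0 LD2_c35 LD3_c17) Lrfl Lrfl
theorem f255991 : Led Lsl_gt (LP (LK LD1_c2 LD2_c36 LD3_c15)) = (LP (LK LD1_c1 LD2_c16 LD3_c7)) :=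
  Lgr Lrot9 (Lpr_df (f216740 IH) (Lpe (K12.f216721 IH) (Lpr_ct (f200135 IH) (Lpr_gt (f2878 IH) (Lpr_ct (f2875 IH) (Lpr_df (f222096 IH) (Lpe (f200607 IH) (Lpr_gf (f255986 IH) (Lpe (f169145 IH) (Lpn (LP (LK LD1_c1 LD2_c16 LD3_c7))))))))))))
theorem f169153 : Led Lsl_ct (LP (LK LD1_c0 LD2_c35 LD3_c17)) = (LP (LK LD1_c1 LD2_c16 LD3_c7)) :=
  Lre_c IH (LK LD1_c0 LD2_c35 LD3_c17) (LK LD1_c1 LD2_c16 LD3_c7) Lrfl Lrfl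
theorem f169146 : Led Lsl_bt (LP (LK LD1_c0 LD2_c35 LD3_c17)) = (LP (LK LD1_c1 LD2_c16 LD3_c5)) :=
  Lre_b IH (LK LD1_c0 LD2_c35 LD3_c17) (LK LD1_c1 LD2_c16 LD3_c5) Lrfl Lrfl
theorem f238209 : Led Lsl_cf (LP (LK LD1_c2 LD2_c12 LD3_c42)) = (LP (LK LD1_c2 LD2_c38 LD3_c16)) :=
  Lgr Lrot14 (Lpr_df (K13.f238068 IH) (Lpe (K11.f2792 IH) (Lpe (K1.f1920 IH) (Lpe (K9.f2106 IH) (Lpr_ct (K12.f2081 IH) (Lpr_gt (K12.f228938 IH) (Lpr_dt (K1.f28794 IH) (Lpr_gt (K12.f29084 IH) (Lpe (K13.f235690 IH) (Lpn (LP (LK LD1_c2 LD2_c38 LD3_c16))))))))))))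
theorem f236435 : Led Lsl_cf (LP (LK LD1_c2 LD2_c34 LD3_c28)) = (LP (LK LD1_c2 LD2_c12 LD3_c43)) :=
  Lgr Lrot11 (Lpr_ct (K13.f236418 IH) (Lpn (LP (LK LD1_c2 LD2_c12 LD3_c43))))
theorem f238222 : Led Lsl_gt (LP (LK LD1_c2 LD2_c12 LD3_c42)) = (LP (LK LD1_c4 LD2_c4 LD3_c38)) :=
  Lgr Lrot9 (Lpr_df (K13.f238068 IH) (Lpr_gt (K13.f1587 IH) (Lpr_ct (K12.f1798 IH) (Lpr_gt (K13.f1801 IH) (Lpe (K13.f232512 IH) (Lpr_df (K13.f232368 IH) (Lpr_cf (f236435 IH) (Lpr_gf (K13.f238218 IH) (Lpe (K13.f192812 IH) (Lpn (LP (LK LD1_c4 LD2_c4 LD3_c38))))))))))))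
theorem f39006 : Led Lsl_dt (LP (LK LD1_c2 LD2_c8 LD3_c29)) = (LP (LK LD1_c4 LD2_c22 LD3_c1)) :=
  Lre_d IH (LK LD1_c2 LD2_c8 LD3_c29) (LK LD1_c4 LD2_c22 LD3_c1) Lrfl Lrfl
theorem f237623 : Led Lsl_gf (LP (LK LD1_c1 LD2_c1 LD3_c40)) = (LP (LK LD1_c1 LD2_c57 LD3_c0)) :=
  Lgr Lrot154 (Lpr_dt (K13.f229865 IH) (Lpr_ct (K13.f237477 IH) (Lpe (f39006 IH) (Lpe (K13.f39000 IH) (Lpe (K13.f39178 IH) (Lpe (K13.f38968 IH) (Lpe (K13.f237409 IH) (Lpr_gt (K12.f229287 IH) (Lpr_dt (K12.f29355 IH) (Lpn (LP (LK LD1_c1 LD2_c57 LD3_c0))))))))))))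
theorem f39432 : Led Lsl_ct (LP (LK LD1_c1 LD2_c1 LD3_c40)) = (LP (LK LD1_c0 LD2_c28 LD3_c10)) :=
  Lre_c IH (LK LD1_c1 LD2_c1 LD3_c40) (LK LD1_c0 LD2_c28 LD3_c10) Lrfl Lrfl
theorem f239161 : Led Lsl_gt (LP (LK LD1_c1 LD2_c59 LD3_c24)) = (LP (LK LD1_c1 LD2_c19 LD3_c10)) :=
  Lgr Lrot150 (Lpe (K13.f192808 IH) (Lpr_gf (K13.f239136 IH) (Lpe (K12.f3047 IH) (Lpe (K12.f30807 IH) (Lpr_ct (K1.f29349 IH) (Lpe (f237623 IH) (Lpr_ct (f39432 IH) (Lpe (K13.f237327 IH) (Lpe (K13.f229245 IH) (Lpn (LP (LK LD1_c1 LD2_c19 LD3_c10))))))))))))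
theorem f165225 : Led Lsl_bt (LP (LK LD1_c2 LD2_c45 LD3_c38)) = (LP (LK LD1_c1 LD2_c19 LD3_c10)) :=
  Lre_b IH (LK LD1_c2 LD2_c45 LD3_c38) (LK LD1_c1 LD2_c19 LD3_c10) Lrfl Lrfl
theorem f256009 : Led Lsl_cf (LP (LK LD1_c2 LD2_c36 LD3_c15)) = (LP (LK LD1_c2 LD2_c45 LD3_c38)) :=
  Lgr Lrot160 (Lpr_gt (f255991 IH) (Lpe (f169153 IH) (Lpr_bt (f169146 IH) (Lpr_gt (K13.f235597 IH) (Lpe (f238209 IH) (Lpr_gt (f238222 IH) (Lpe (K13.f192812 IH) (Lpr_bt (K13.f192811 IH) (Lpr_gt (f239161 IH) (Lpe (f165225 IH) (Lpn (LP (LK LD1_c2 LD2_c45 LD3_c38)))))))))))))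
theorem f6919 : Led Lsl_gt (LP (LK LD1_c1 LD2_c9 LD3_c28)) = (LP (LK LD1_c2 LD2_c24 LD3_c42)) :=
  Lre_g IH (LK LD1_c1 LD2_c9 LD3_c28) (LK LD1_c2 LD2_c24 LD3_c42) Lrfl Lrfl
theorem f7961 : Led Lsl_ct (LP (LK LD1_c2 LD2_c24 LD3_c42)) = (LP (LK LD1_c4 LD2_c53 LD3_c47)) :=
  Lre_c IH (LK LD1_c2 LD2_c24 LD3_c42) (LK LD1_c4 LD2_c53 LD3_c47) Lrfl Lrfl
theorem f256015 : Led Lsl_gf (LP (LK LD1_c2 LD2_c36 LD3_c15)) = (LP (LK LD1_c4 LD2_c53 LD3_c47)) :=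
  Lgr Lrot129 (Lpr_cf (f256009 IH) (Lpr_bt (f165225 IH) (Lpr_gt (K12.f165224 IH) (Lpe (K13.f165223 IH) (Lpr_ct (K9.f165220 IH) (Lpe (K9.f165218 IH) (Lpe (K0.f3064 IH) (Lpr_bt (f6918 IH) (Lpr_gt (f6919 IH) (Lpr_ct (f7961 IH) (Lpn (LP (LK LD1_c4 LD2_c53 LD3_c47)))))))))))))
theorem f256011 : Led Lsl_ct (LP (LK LD1_c2 LD2_c36 LD3_c15)) = (LP (LK LD1_c2 LD2_c45 LD3_c38)) :=
  Lgr Lrot59 (Lpr_cf (f256009 IH) (Lpn (LP (LK LD1_c2 LD2_c45 LD3_c38))))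
theorem f7928 : Led Lsl_dt (LP (LK LD1_c1 LD2_c0 LD3_c6)) = (LP (LK LD1_c1 LD2_c9 LD3_c28)) :=
  Lgr Lrot79 (Lpe (f7926 IH) (Lpr_df (K0.f7918 IH) (Lpe (f7927 IH) (Lpn (LP (LK LD1_c1 LD2_c9 LD3_c28))))))
theorem f170066 : Led Lsl_ct (LP (LK LD1_c2 LD2_c5 LD3_c38)) = (LP (LK LD1_c4 LD2_c16 LD3_c42)) :=
  Lre_c IH (LK LD1_c2 LD2_c5 LD3_c38) (LK LD1_c4 LD2_c16 LD3_c42) Lrfl Lrfl
theorem f232738 : Led Lsl_ft (LP (LK LD1_c4 LD2_c16 LD3_c42)) = (LP (LK LD1_c2 LD2_c58 LD3_c21)) :=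
  Lgr Lrot4 (Lpe (f170066 IH) (Lpr_ff (K13.f232736 IH) (Lpe (K9.f29016 IH) (Lpn (LP (LK LD1_c2 LD2_c58 LD3_c21))))))
theorem f232843 : Led Lsl_gt (LP (LK LD1_c4 LD2_c16 LD3_c42)) = (LP (LK LD1_c4 LD2_c52 LD3_c60)) :=
  Lgr Lrot5 (Lpr_ft (f232738 IH) (Lpr_at (K9.f42047 IH) (Lpe (K12.f186941 IH) (Lpn (LP (LK LD1_c4 LD2_c52 LD3_c60))))))
theorem f232845 : Led Lsl_gf (LP (LK LD1_c2 LD2_c5 LD3_c38)) = (LP (LK LD1_c1 LD2_c0 LD3_c6)) :=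
  Lgr Lrot181 (Lpr_ct (f170066 IH) (Lpr_gt (f232843 IH) (Lpe (K12.f30685 IH) (Lpr_bt (K12.f6932 IH) (Lpr_gt (K12.f2451 IH) (Lpe (K13.f2209 IH) (Lpr_ct (K0.f2178 IH) (Lpe (K9.f167293 IH) (Lpe (K9.f7930 IH) (Lpr_bt (f7926 IH) (Lpn (LP (LK LD1_c1 LD2_c0 LD3_c6)))))))))))))
theorem f6933 : Led Lsl_ct (LP (LK LD1_c4 LD2_c52 LD3_c60)) = (LP (LK LD1_c2 LD2_c24 LD3_c19)) :=
  Lre_c IH (LK LD1_c4 LD2_c52 LD3_c60) (LK LD1_c2 LD2_c24 LD3_c19) Lrfl Lrfl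
theorem f256017 : Led Lsl_dt (LP (LK LD1_c2 LD2_c45 LD3_c38)) = (LP (LK LD1_c2 LD2_c24 LD3_c19)) :=
  Lgr Lrot27 (Lpe (f256011 IH) (Lpr_gf (f256015 IH) (Lpe (f7961 IH) (Lpe (f6919 IH) (Lpe (f7928 IH) (Lpe (f232845 IH) (Lpr_ct (f170066 IH) (Lpr_gt (f232843 IH) (Lpr_ct (f6933 IH) (Lpn (LP (LK LD1_c2 LD2_c24 LD3_c19))))))))))))
theorem f239436 : Led Lsl_ff (LP (LK LD1_c2 LD2_c45 LD3_c38)) = (LP (LK LD1_c4 LD2_c4 LD3_c45)) :=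
  Lgr Lrot25 (Lpr_bt (f165225 IH) (Lpr_ft (K13.f239434 IH) (Lpr_bt (K13.f211483 IH) (Lpn (LP (LK LD1_c4 LD2_c4 LD3_c45))))))
theorem f256023 : Led Lsl_ff (LP (LK LD1_c4 LD2_c0 LD3_c14)) = (LP (LK LD1_c2 LD2_c24 LD3_c19)) :=
  Lgr Lrot19 (Lpe (K13.f211491 IH) (Lpe (f239436 IH) (Lpr_dt (f256017 IH) (Lpn (LP (LK LD1_c2 LD2_c24 LD3_c19))))))
theorem f256028 : Led Lsl_at (LP (LK LD1_c4 LD2_c0 LD3_c14)) = (LP (LK LD1_c8 LD2_c1 LD3_c27)) :=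
  Lre_a IH (LK LD1_c4 LD2_c0 LD3_c14) (LK LD1_c8 LD2_c1 LD3_c27) Lrfl Lrfl
theorem f219534 : Led Lsl_gt (LP (LK LD1_c2 LD2_c24 LD3_c19)) = (LP (LK LD1_c4 LD2_c6 LD3_c9)) :=
  Lgr Lrot46 (Lpr_gf (K12.f219453 IH) (Lpe (K12.f219434 IH) (Lpe (K12.f53823 IH) (Lpn (LP (LK LD1_c4 LD2_c6 LD3_c9))))))
theorem f256038 : Led Lsl_gf (LP (LK LD1_c8 LD2_c1 LD3_c27)) = (LP (LK LD1_c4 LD2_c6 LD3_c9)) :=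
  Lgr Lrot76 (Lpe (f256028 IH) (Lpr_ff (f256023 IH) (Lpr_gt (f219534 IH) (Lpn (LP (LK LD1_c4 LD2_c6 LD3_c9))))))
theorem f222797 : Led Lsl_ct (LP (LK LD1_c4 LD2_c9 LD3_c19)) = (LP (LK LD1_c2 LD2_c35 LD3_c21)) :=
  Lgr Lrot110 (Lpr_gf (K12.f222786 IH) (Lpe (K12.f53416 IH) (Lpe (K12.f51458 IH) (Lpe (K9.f50517 IH) (Lpr_gt (K12.f574 IH) (Lpr_ct (K12.f51449 IH) (Lpr_gt (K12.f190817 IH) (Lpr_ct (K8.f48159 IH) (Lpe (K10.f48164 IH) (Lpn (LP (LK LD1_c2 LD2_c35 LD3_c21))))))))))))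
theorem f243556 : Led Lsl_ct (LP (LK LD1_c2 LD2_c34 LD3_c19)) = (LP (LK LD1_c4 LD2_c16 LD3_c4)) :=
  Lgr Lrot15 (Lpr_ef (K12.f49145 IH) (Lpe (f222797 IH) (Lpr_ef (K13.f243549 IH) (Lpn (LP (LK LD1_c4 LD2_c16 LD3_c4))))))
theorem f256042 : Led Lsl_bf (LP (LK LD1_c8 LD2_c1 LD3_c27)) = (LP (LK LD1_c4 LD2_c9 LD3_c41)) :=
  Lgr Lrot34 (Lpr_gf (f256038 IH) (Lpr_bf (K10.f53833 IH) (Lpr_ct (f243556 IH) (Lpe (K13.f243543 IH) (Lpe (K13.f51491 IH) (Lpe (K12.f51466 IH) (Lpe (K9.f51439 IH) (Lpr_ct (K9.f50516 IH) (Lpe (K12.f51487 IH) (Lpe (K12.f51488 IH) (Lpn (LP (LK LD1_c4 LD2_c9 LD3_c41)))))))))))))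
theorem f219436 : Led Lsl_at (LP (LK LD1_c4 LD2_c18 LD3_c36)) = (LP (LK LD1_c4 LD2_c12 LD3_c10)) :=
  Lgr Lrot66 (Lpr_ff (K10.f188805 IH) (Lpr_af (K12.f53823 IH) (Lpr_ff (K12.f219434 IH) (Lpn (LP (LK LD1_c4 LD2_c12 LD3_c10))))))
theorem f256040 : Led Lsl_gt (LP (LK LD1_c8 LD2_c1 LD3_c27)) = (LP (LK LD1_c4 LD2_c12 LD3_c10)) :=
  Lgr Lrot46 (Lpr_gf (f256038 IH) (Lpe (K10.f188805 IH) (Lpr_at (f219436 IH) (Lpn (LP (LK LD1_c4 LD2_c12 LD3_c10))))))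
theorem f53419 : Led Lsl_bt (LP (LK LD1_c2 LD2_c2 LD3_c2)) = (LP (LK LD1_c0 LD2_c57 LD3_c60)) :=
  Lre_b IH (LK LD1_c2 LD2_c2 LD3_c2) (LK LD1_c0 LD2_c57 LD3_c60) Lrfl Lrfl
theorem f256053 : Led Lsl_gt (LP (LK LD1_c4 LD2_c12 LD3_c12)) = (LP (LK LD1_c4 LD2_c9 LD3_c30)) :=
  Lgr Lrot65 (Lpe (K12.f53329 IH) (Lpr_bt (K12.f219438 IH) (Lpe (f256040 IH) (Lpr_bf (f256042 IH) (Lpr_ct (K12.f51488 IH) (Lpe (f1312 IH) (Lpe (K9.f1032 IH) (Lpe (K12.f651 IH) (Lpe (f53419 IH) (Lpr_ct (f53420 IH) (Lpn (LP (LK LD1_c4 LD2_c9 LD3_c30)))))))))))))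
theorem f167006 : Led Lsl_bt (LP (LK LD1_c0 LD2_c31 LD3_c53)) = (LP (LK LD1_c1 LD2_c9 LD3_c22)) :=
  Lre_b IH (LK LD1_c0 LD2_c31 LD3_c53) (LK LD1_c1 LD2_c9 LD3_c22) Lrfl Lrfl
theorem f256056 : Led Lsl_gf (LP (LK LD1_c2 LD2_c3 LD3_c20)) = (LP (LK LD1_c1 LD2_c9 LD3_c22)) :=
  Lgr Lrot181 (Lpr_ct (K12.f53329 IH) (Lpr_gt (f256053 IH) (Lpe (f53420 IH) (Lpr_bt (f53419 IH) (Lpr_gt (K12.f651 IH) (Lpe (K9.f582 IH) (Lpr_ct (K9.f1119 IH) (Lpr_gt (K9.f1399 IH) (Lpr_cf (K9.f166994 IH) (Lpr_bt (f167006 IH) (Lpn (LP (LK LD1_c1 LD2_c9 LD3_c22)))))))))))))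
theorem f250497 : Led Lsl_ct (LP (LK LD1_c4 LD2_c9 LD3_c30)) = (LP (LK LD1_c2 LD2_c2 LD3_c2)) :=
  Lre_c IH (LK LD1_c4 LD2_c9 LD3_c30) (LK LD1_c2 LD2_c2 LD3_c2) Lrfl Lrfl
theorem f212233 : Led Lsl_bf (LP (LK LD1_c4 LD2_c27 LD3_c7)) = (LP (LK LD1_c2 LD2_c34 LD3_c22)) :=
  Lgr Lrot24 (Lpr_bt (K12.f212229 IH) (Lpn (LP (LK LD1_c2 LD2_c34 LD3_c22))))
theorem f232029 : Led Lsl_bt (LP (LK LD1_c8 LD2_c19 LD3_c2)) = (LP (LK LD1_c4 LD2_c9 LD3_c38)) :=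
  Lre_b IH (LK LD1_c8 LD2_c19 LD3_c2) (LK LD1_c4 LD2_c9 LD3_c38) Lrfl Lrfl
theorem f232030 : Led Lsl_et (LP (LK LD1_c4 LD2_c27 LD3_c7)) = (LP (LK LD1_c8 LD2_c19 LD3_c2)) :=
  Lgr Lrot74 (Lpr_bf (f212233 IH) (Lpr_ef (f232027 IH) (Lpe (f232029 IH) (Lpn (LP (LK LD1_c8 LD2_c19 LD3_c2))))))
theorem f232089 : Led Lsl_dt (LP (LK LD1_c8 LD2_c19 LD3_c2)) = (LP (LK LD1_c4 LD2_c9 LD3_c31)) :=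
  Lre_d IH (LK LD1_c8 LD2_c19 LD3_c2) (LK LD1_c4 LD2_c9 LD3_c31) Lrfl Lrfl
theorem f232093 : Led Lsl_et (LP (LK LD1_c4 LD2_c9 LD3_c31)) = (LP (LK LD1_c2 LD2_c2 LD3_c2)) :=
  Lre_e IH (LK LD1_c4 LD2_c9 LD3_c31) (LK LD1_c2 LD2_c2 LD3_c2) Lrfl Lrfl
theorem f250486 : Led Lsl_dt (LP (LK LD1_c2 LD2_c2 LD3_c2)) = (LP (LK LD1_c4 LD2_c3 LD3_c43)) :=
  Lgr Lrot77 (Lpe (f232093 IH) (Lpe (f232089 IH) (Lpe (f232030 IH) (Lpe (K9.f44246 IH) (Lpr_ef (f250482 IH) (Lpn (LP (LK LD1_c4 LD2_c3 LD3_c43))))))))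
theorem f179996 : Led Lsl_bt (LP (LK LD1_c2 LD2_c45 LD3_c49)) = (LP (LK LD1_c1 LD2_c19 LD3_c16)) :=
  Lre_b IH (LK LD1_c2 LD2_c45 LD3_c49) (LK LD1_c1 LD2_c19 LD3_c16) Lrfl Lrfl
theorem f167008 : Led Lsl_bt (LP (LK LD1_c1 LD2_c9 LD3_c23)) = (LP (LK LD1_c2 LD2_c24 LD3_c29)) :=
  Lre_b IH (LK LD1_c1 LD2_c9 LD3_c23) (LK LD1_c2 LD2_c24 LD3_c29) Lrfl Lrfl
theorem f180064 : Led Lsl_df (LP (LK LD1_c2 LD2_c45 LD3_c49)) = (LP (LK LD1_c2 LD2_c24 LD3_c29)) :=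
  Lgr Lrot12 (Lpr_bt (f179996 IH) (Lpr_dt (K13.f179960 IH) (Lpr_bt (f167008 IH) (Lpn (LP (LK LD1_c2 LD2_c24 LD3_c29))))))
theorem f180000 : Led Lsl_ef (LP (LK LD1_c1 LD2_c19 LD3_c16)) = (LP (LK LD1_c1 LD2_c18 LD3_c35)) :=
  Lgr Lrot88 (Lpr_et (K13.f179962 IH) (Lpn (LP (LK LD1_c1 LD2_c18 LD3_c35))))
theorem f179955 : Led Lsl_bt (LP (LK LD1_c1 LD2_c19 LD3_c16)) = (LP (LK LD1_c2 LD2_c45 LD3_c49)) :=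
  Lre_b IH (LK LD1_c1 LD2_c19 LD3_c16) (LK LD1_c2 LD2_c45 LD3_c49) Lrfl Lrfl
theorem f178449 : Led Lsl_bt (LP (LK LD1_c2 LD2_c44 LD3_c27)) = (LP (LK LD1_c1 LD2_c18 LD3_c35)) :=
  Lre_b IH (LK LD1_c2 LD2_c44 LD3_c27) (LK LD1_c1 LD2_c18 LD3_c35) Lrfl Lrfl
theorem f180029 : Led Lsl_et (LP (LK LD1_c2 LD2_c45 LD3_c49)) = (LP (LK LD1_c2 LD2_c44 LD3_c27)) :=
  Lgr Lrot74 (Lpe (f179955 IH) (Lpr_ef (f180000 IH) (Lpe (f178449 IH) (Lpn (LP (LK LD1_c2 LD2_c44 LD3_c27))))))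
theorem f180036 : Led Lsl_dt (LP (LK LD1_c2 LD2_c44 LD3_c27)) = (LP (LK LD1_c1 LD2_c18 LD3_c34)) :=
  Lre_d IH (LK LD1_c2 LD2_c44 LD3_c27) (LK LD1_c1 LD2_c18 LD3_c34) Lrfl Lrfl
theorem f178263 : Led Lsl_bt (LP (LK LD1_c0 LD2_c58 LD3_c50)) = (LP (LK LD1_c0 LD2_c26 LD3_c39)) :=
  Lre_b IH (LK LD1_c0 LD2_c58 LD3_c50) (LK LD1_c0 LD2_c26 LD3_c39) Lrfl Lrfl
theorem f178264 : Led Lsl_ef (LP (LK LD1_c0 LD2_c58 LD3_c50)) = (LP (LK LD1_c1 LD2_c18 LD3_c34)) :=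
  Lgr Lrot29 (Lpr_bt (f178263 IH) (Lpr_et (K9.f178259 IH) (Lpr_bt (f178261 IH) (Lpn (LP (LK LD1_c1 LD2_c18 LD3_c34))))))
theorem f180070 : Led Lsl_et (LP (LK LD1_c1 LD2_c9 LD3_c22)) = (LP (LK LD1_c2 LD2_c24 LD3_c29)) :=
  Lre_e IH (LK LD1_c1 LD2_c9 LD3_c22) (LK LD1_c2 LD2_c24 LD3_c29) Lrfl Lrfl
theorem f180071 : Led Lsl_dt (LP (LK LD1_c0 LD2_c58 LD3_c50)) = (LP (LK LD1_c1 LD2_c9 LD3_c22)) :=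
  Lgr Lrot77 (Lpr_ef (f178264 IH) (Lpe (f180036 IH) (Lpe (f180029 IH) (Lpr_df (f180064 IH) (Lpe (f180070 IH) (Lpn (LP (LK LD1_c1 LD2_c9 LD3_c22))))))))
theorem f256060 : Led Lsl_gf (LP (LK LD1_c4 LD2_c6 LD3_c18)) = (LP (LK LD1_c4 LD2_c12 LD3_c54)) :=
  Lgr Lrot104 (Lpr_ct (f250478 IH) (Lpe (f250486 IH) (Lpe (f250497 IH) (Lpe (f256053 IH) (Lpe (K12.f53329 IH) (Lpr_gf (f256056 IH) (Lpe (f180071 IH) (Lpr_gt (f53333 IH) (Lpr_ct (f53337 IH) (Lpn (LP (LK LD1_c4 LD2_c12 LD3_c54))))))))))))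
theorem f251589 : Led Lsl_df (LP (LK LD1_c8 LD2_c15 LD3_c5)) = (LP (LK LD1_c5 LD2_c3 LD3_c2)) :=
  Lgr Lrot155 (Lpe (f215054 IH) (Lpr_ct (K9.f184017 IH) (Lpr_gt (K9.f165817 IH) (Lpr_ct (K12.f32067 IH) (Lpe (K10.f178533 IH) (Lpe (K12.f170682 IH) (Lpr_gf (f251582 IH) (Lpe (f193960 IH) (Lpe (f193957 IH) (Lpn (LP (LK LD1_c5 LD2_c3 LD3_c2))))))))))))
theorem f256066 : Led Lsl_et (LP (LK LD1_c5 LD2_c3 LD3_c2)) = (LP (LK LD1_c4 LD2_c12 LD3_c54)) :=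
  Lgr Lrot121 (Lpe (f251589 IH) (Lpe (f215048 IH) (Lpe (K9.f44530 IH) (Lpr_et (K9.f44517 IH) (Lpr_gf (K1.f44526 IH) (Lpe (K9.f44528 IH) (Lpr_dt (K9.f44529 IH) (Lpe (K12.f187448 IH) (Lpr_df (K12.f187414 IH) (Lpr_gf (f256060 IH) (Lpn (LP (LK LD1_c4 LD2_c12 LD3_c54)))))))))))))
theorem f256070 : Led Lsl_ef (LP (LK LD1_c5 LD2_c3 LD3_c2)) = (LP (LK LD1_c4 LD2_c12 LD3_c54)) :=
  Lgr Lrot88 (Lpr_et (f256066 IH) (Lpn (LP (LK LD1_c4 LD2_c12 LD3_c54))))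
theorem f193959 : Led Lsl_ct (LP (LK LD1_c5 LD2_c3 LD3_c2)) = (LP (LK LD1_c2 LD2_c29 LD3_c2)) :=
  Lre_c IH (LK LD1_c5 LD2_c3 LD3_c2) (LK LD1_c2 LD2_c29 LD3_c2) Lrfl Lrfl
theorem f256072 : Led Lsl_et (LP (LK LD1_c2 LD2_c29 LD3_c2)) = (LP (LK LD1_c2 LD2_c3 LD3_c42)) :=
  Lgr Lrot158 (Lpe (f193959 IH) (Lpr_ef (f256070 IH) (Lpe (f53337 IH) (Lpn (LP (LK LD1_c2 LD2_c3 LD3_c42))))))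
theorem f28379 : Led Lsl_bt (LP (LK LD1_c5 LD2_c3 LD3_c1)) = (LP (LK LD1_c2 LD2_c29 LD3_c2)) :=
  Lre_b IH (LK LD1_c5 LD2_c3 LD3_c1) (LK LD1_c2 LD2_c29 LD3_c2) Lrfl Lrfl
theorem f200355 : Led Lsl_bt (LP (LK LD1_c2 LD2_c3 LD3_c42)) = (LP (LK LD1_c4 LD2_c12 LD3_c53)) :=
  Lre_b IH (LK LD1_c2 LD2_c3 LD3_c42) (LK LD1_c4 LD2_c12 LD3_c53) Lrfl Lrfl
theorem f256074 : Led Lsl_ef (LP (LK LD1_c5 LD2_c3 LD3_c1)) = (LP (LK LD1_c4 LD2_c12 LD3_c53)) :=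
  Lgr Lrot29 (Lpr_bt (f28379 IH) (Lpr_et (f256072 IH) (Lpr_bt (f200355 IH) (Lpn (LP (LK LD1_c4 LD2_c12 LD3_c53))))))
theorem f256078 : Led Lsl_et (LP (LK LD1_c5 LD2_c3 LD3_c1)) = (LP (LK LD1_c4 LD2_c12 LD3_c53)) :=
  Lgr Lrot87 (Lpr_ef (f256074 IH) (Lpn (LP (LK LD1_c4 LD2_c12 LD3_c53))))
theorem f256025 : Led Lsl_gf (LP (LK LD1_c2 LD2_c45 LD3_c38)) = (LP (LK LD1_c4 LD2_c12 LD3_c53)) :=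
  Lgr Lrot144 (Lpr_dt (f256017 IH) (Lpr_gt (f219534 IH) (Lpr_dt (K10.f53811 IH) (Lpe (K10.f53816 IH) (Lpe (K12.f53774 IH) (Lpe (K12.f221994 IH) (Lpe (f166576 IH) (Lpe (f166626 IH) (Lpr_cf (f200352 IH) (Lpn (LP (LK LD1_c4 LD2_c12 LD3_c53))))))))))))
theorem f229249 : Led Lsl_ef (LP (LK LD1_c2 LD2_c45 LD3_c38)) = (LP (LK LD1_c1 LD2_c57 LD3_c47)) :=
  Lgr Lrot29 (Lpr_bt (f165225 IH) (Lpr_et (K12.f229247 IH) (Lpr_bt (K10.f184647 IH) (Lpn (LP (LK LD1_c1 LD2_c57 LD3_c47))))))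
theorem f251617 : Led Lsl_df (LP (LK LD1_c8 LD2_c3 LD3_c56)) = (LP (LK LD1_c4 LD2_c18 LD3_c56)) :=
  Lgr Lrot38 (Lpr_dt (f251613 IH) (Lpn (LP (LK LD1_c4 LD2_c18 LD3_c56))))
theorem f237094 : Led Lsl_et (LP (LK LD1_c15 LD2_c11 LD3_c0)) = (LP (LK LD1_c8 LD2_c3 LD3_c56)) :=
  Lre_e IH (LK LD1_c15 LD2_c11 LD3_c0) (LK LD1_c8 LD2_c3 LD3_c56) Lrfl Lrfl
theorem f237092 : Led Lsl_et (LP (LK LD1_c5 LD2_c15 LD3_c33)) = (LP (LK LD1_c10 LD2_c20 LD3_c23)) :=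
  Lre_e IH (LK LD1_c5 LD2_c15 LD3_c33) (LK LD1_c10 LD2_c20 LD3_c23) Lrfl Lrfl
theorem f237093 : Led Lsl_dt (LP (LK LD1_c2 LD2_c34 LD3_c37)) = (LP (LK LD1_c5 LD2_c15 LD3_c33)) :=
  Lre_d IH (LK LD1_c2 LD2_c34 LD3_c37) (LK LD1_c5 LD2_c15 LD3_c33) Lrfl Lrfl
theorem f251619 : Led Lsl_ef (LP (LK LD1_c2 LD2_c34 LD3_c37)) = (LP (LK LD1_c4 LD2_c18 LD3_c56)) :=
  Lgr Lrot73 (Lpr_dt (f237093 IH) (Lpr_et (f237092 IH) (Lpr_dt (f237086 IH) (Lpr_et (f237094 IH) (Lpr_dt (f251613 IH) (Lpn (LP (LK LD1_c4 LD2_c18 LD3_c56))))))))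
theorem f256082 : Led Lsl_dt (LP (LK LD1_c5 LD2_c3 LD3_c1)) = (LP (LK LD1_c4 LD2_c5 LD3_c17)) :=
  Lgr Lrot56 (Lpr_et (f256078 IH) (Lpe (f256025 IH) (Lpr_ef (f229249 IH) (Lpr_dt (f182057 IH) (Lpr_gt (f182055 IH) (Lpr_df (f251617 IH) (Lpe (f251619 IH) (Lpe (K13.f196387 IH) (Lpr_dt (K9.f8089 IH) (Lpr_gt (K10.f191100 IH) (Lpn (LP (LK LD1_c4 LD2_c5 LD3_c17)))))))))))))
theorem f182119 : Led Lsl_ft (LP (LK LD1_c6 LD2_c4 LD3_c58)) = (LP (LK LD1_c4 LD2_c20 LD3_c21)) :=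
  Lgr Lrot48 (Lpr_ff (K10.f182112 IH) (Lpn (LP (LK LD1_c4 LD2_c20 LD3_c21))))
theorem f190192 : Led Lsl_at (LP (LK LD1_c4 LD2_c20 LD3_c21)) = (LP (LK LD1_c6 LD2_c4 LD3_c59)) :=
  Lgr Lrot66 (Lpe (f182119 IH) (Lpe (K10.f190099 IH) (Lpr_ff (K10.f190190 IH) (Lpn (LP (LK LD1_c6 LD2_c4 LD3_c59))))))
theorem f194766 : Led Lsl_gt (LP (LK LD1_c6 LD2_c4 LD3_c58)) = (LP (LK LD1_c2 LD2_c58 LD3_c43)) :=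
  Lgr Lrot5 (Lpr_ft (f182119 IH) (Lpr_at (f190192 IH) (Lpr_gf (K10.f194764 IH) (Lpn (LP (LK LD1_c2 LD2_c58 LD3_c43))))))
theorem f42151 : Led Lsl_ct (LP (LK LD1_c2 LD2_c58 LD3_c43)) = (LP (LK LD1_c1 LD2_c25 LD3_c5)) :=
  Lre_c IH (LK LD1_c2 LD2_c58 LD3_c43) (LK LD1_c1 LD2_c25 LD3_c5) Lrfl Lrfl
theorem f256086 : Led Lsl_gt (LP (LK LD1_c5 LD2_c3 LD3_c1)) = (LP (LK LD1_c4 LD2_c4 LD3_c31)) :=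
  Lgr Lrot146 (Lpr_dt (f256082 IH) (Lpe (K11.f191175 IH) (Lpe (K10.f182107 IH) (Lpr_gt (f194766 IH) (Lpr_ct (f42151 IH) (Lpe (K9.f42143 IH) (Lpe (K10.f171990 IH) (Lpe (K13.f171995 IH) (Lpr_cf (K13.f232871 IH) (Lpn (LP (LK LD1_c4 LD2_c4 LD3_c31))))))))))))
theorem f256076 : Led Lsl_ct (LP (LK LD1_c5 LD2_c3 LD3_c1)) = (LP (LK LD1_c4 LD2_c13 LD3_c23)) :=
  Lgr Lrot15 (Lpr_ef (f256074 IH) (Lpe (f200357 IH) (Lpe (f166627 IH) (Lpn (LP (LK LD1_c4 LD2_c13 LD3_c23))))))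
theorem f183628 : Led Lsl_dt (LP (LK LD1_c4 LD2_c6 LD3_c20)) = (LP (LK LD1_c2 LD2_c0 LD3_c30)) :=
  Lre_d IH (LK LD1_c4 LD2_c6 LD3_c20) (LK LD1_c2 LD2_c0 LD3_c30) Lrfl Lrfl
theorem f256117 : Led Lsl_gt (LP (LK LD1_c4 LD2_c13 LD3_c23)) = (LP (LK LD1_c2 LD2_c6 LD3_c58)) :=
  Lgr Lrot94 (Lpe (f256076 IH) (Lpr_gt (f256086 IH) (Lpr_dt (f223726 IH) (Lpr_gt (f252142 IH) (Lpr_dt (f183628 IH) (Lpe (K9.f179074 IH) (Lpe (K12.f54550 IH) (Lpe (f54553 IH) (Lpe (f252104 IH) (Lpn (LP (LK LD1_c2 LD2_c6 LD3_c58))))))))))))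
theorem f200617 : Led Lsl_at (LP (LK LD1_c4 LD2_c19 LD3_c8)) = (LP (LK LD1_c2 LD2_c6 LD3_c58)) :=
  Lre_a IH (LK LD1_c4 LD2_c19 LD3_c8) (LK LD1_c2 LD2_c6 LD3_c58) Lrfl Lrfl
theorem f256120 : Led Lsl_ft (LP (LK LD1_c2 LD2_c25 LD3_c4)) = (LP (LK LD1_c4 LD2_c19 LD3_c8)) :=
  Lgr Lrot2 (Lpe (f251677 IH) (Lpr_gt (f256117 IH) (Lpe (f200617 IH) (Lpn (LP (LK LD1_c4 LD2_c19 LD3_c8))))))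
theorem f192886 : Led Lsl_ct (LP (LK LD1_c4 LD2_c6 LD3_c22)) = (LP (LK LD1_c8 LD2_c13 LD3_c17)) :=
  Lre_c IH (LK LD1_c4 LD2_c6 LD3_c22) (LK LD1_c8 LD2_c13 LD3_c17) Lrfl Lrfl
theorem f250471 : Led Lsl_dt (LP (LK LD1_c8 LD2_c13 LD3_c17)) = (LP (LK LD1_c15 LD2_c27 LD3_c53)) :=
  Lre_d IH (LK LD1_c8 LD2_c13 LD3_c17) (LK LD1_c15 LD2_c27 LD3_c53) Lrfl Lrfl
theorem f184395 : Led Lsl_dt (LP (LK LD1_c2 LD2_c38 LD3_c7)) = (LP (LK LD1_c1 LD2_c15 LD3_c61)) :=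
  Lre_d IH (LK LD1_c2 LD2_c38 LD3_c7) (LK LD1_c1 LD2_c15 LD3_c61) Lrfl Lrfl
theorem f184400 : Led Lsl_ct (LP (LK LD1_c5 LD2_c23 LD3_c19)) = (LP (LK LD1_c2 LD2_c38 LD3_c7)) :=
  Lre_c IH (LK LD1_c5 LD2_c23 LD3_c19) (LK LD1_c2 LD2_c38 LD3_c7) Lrfl Lrfl
theorem f184401 : Led Lsl_dt (LP (LK LD1_c10 LD2_c37 LD3_c9)) = (LP (LK LD1_c5 LD2_c23 LD3_c19)) :=
  Lre_d IH (LK LD1_c10 LD2_c37 LD3_c9) (LK LD1_c5 LD2_c23 LD3_c19) Lrfl Lrfl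
theorem f256233 : Led Lsl_ct (LP (LK LD1_c15 LD2_c27 LD3_c53)) = (LP (LK LD1_c10 LD2_c37 LD3_c9)) :=
  Lgr Lrot41 (Lpe (f250471 IH) (Lpe (f192886 IH) (Lpr_df (f250451 IH) (Lpr_ft (f256120 IH) (Lpr_at (f200617 IH) (Lpe (f200610 IH) (Lpe (f184395 IH) (Lpe (f184400 IH) (Lpe (f184401 IH) (Lpn (LP (LK LD1_c10 LD2_c37 LD3_c9))))))))))))
theorem f249238 : Led Lsl_ft (LP (LK LD1_c2 LD2_c36 LD3_c37)) = (LP (LK LD1_c5 LD2_c19 LD3_c55)) :=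
  Lre_f IH (LK LD1_c2 LD2_c36 LD3_c37) (LK LD1_c5 LD2_c19 LD3_c55) Lrfl Lrfl
theorem f256240 : Led Lsl_at (LP (LK LD1_c5 LD2_c19 LD3_c55)) = (LP (LK LD1_c2 LD2_c38 LD3_c7)) :=
  Lgr Lrot33 (Lpe (f249238 IH) (Lpr_dt (f249225 IH) (Lpe (f230549 IH) (Lpe (f250451 IH) (Lpr_ct (f192886 IH) (Lpr_dt (f250471 IH) (Lpr_ct (f256233 IH) (Lpr_dt (f184401 IH) (Lpr_ct (f184400 IH) (Lpn (LP (LK LD1_c2 LD2_c38 LD3_c7))))))))))))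
theorem f41813 : Led Lsl_dt (LP (LK LD1_c0 LD2_c39 LD3_c10)) = (LP (LK LD1_c1 LD2_c25 LD3_c2)) :=
  Lre_d IH (LK LD1_c0 LD2_c39 LD3_c10) (LK LD1_c1 LD2_c25 LD3_c2) Lrfl Lrfl
theorem f252592 : Led Lsl_gt (LP (LK LD1_c1 LD2_c25 LD3_c2)) = (LP (LK LD1_c2 LD2_c38 LD3_c7)) :=
  Lgr Lrot49 (Lpe (f41813 IH) (Lpe (K9.f41811 IH) (Lpr_cf (K9.f183852 IH) (Lpr_gt (f47859 IH) (Lpr_dt (f47861 IH) (Lpr_gt (f252587 IH) (Lpe (f252110 IH) (Lpe (f200610 IH) (Lpe (f184395 IH) (Lpn (LP (LK LD1_c2 LD2_c38 LD3_c7))))))))))))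
theorem f256251 : Led Lsl_gt (LP (LK LD1_c2 LD2_c36 LD3_c37)) = (LP (LK LD1_c1 LD2_c25 LD3_c2)) :=
  Lgr Lrot5 (Lpr_ft (f249238 IH) (Lpr_at (f256240 IH) (Lpe (f252592 IH) (Lpn (LP (LK LD1_c1 LD2_c25 LD3_c2))))))
theorem f256080 : Led Lsl_cf (LP (LK LD1_c5 LD2_c3 LD3_c1)) = (LP (LK LD1_c4 LD2_c13 LD3_c23)) :=
  Lgr Lrot39 (Lpr_et (f256078 IH) (Lpe (f200352 IH) (Lpr_et (f200359 IH) (Lpn (LP (LK LD1_c4 LD2_c13 LD3_c23))))))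
theorem f182562 : Led Lsl_ct (LP (LK LD1_c6 LD2_c4 LD3_c28)) = (LP (LK LD1_c4 LD2_c5 LD3_c17)) :=
  Lgr Lrot59 (Lpr_cf (K9.f182551 IH) (Lpn (LP (LK LD1_c4 LD2_c5 LD3_c17))))
theorem f42504 : Led Lsl_dt (LP (LK LD1_c1 LD2_c16 LD3_c0)) = (LP (LK LD1_c0 LD2_c35 LD3_c13)) :=
  Lre_d IH (LK LD1_c1 LD2_c16 LD3_c0) (LK LD1_c0 LD2_c35 LD3_c13) Lrfl Lrfl
theorem f256088 : Led Lsl_gf (LP (LK LD1_c1 LD2_c15 LD3_c18)) = (LP (LK LD1_c0 LD2_c35 LD3_c13)) :=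
  Lgr Lrot179 (Lpe (f230549 IH) (Lpe (f251677 IH) (Lpe (f256080 IH) (Lpr_dt (f256082 IH) (Lpe (f182562 IH) (Lpe (K9.f42505 IH) (Lpe (K9.f41764 IH) (Lpe (K1.f42491 IH) (Lpr_dt (f42504 IH) (Lpn (LP (LK LD1_c0 LD2_c35 LD3_c13))))))))))))
theorem f184387 : Led Lsl_et (LP (LK LD1_c0 LD2_c15 LD3_c48)) = (LP (LK LD1_c0 LD2_c35 LD3_c13)) :=
  Lre_e IH (LK LD1_c0 LD2_c15 LD3_c48) (LK LD1_c0 LD2_c35 LD3_c13) Lrfl Lrfl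
theorem f173947 : Led Lsl_ct (LP (LK LD1_c4 LD2_c30 LD3_c53)) = (LP (LK LD1_c2 LD2_c12 LD3_c21)) :=
  Lre_c IH (LK LD1_c4 LD2_c30 LD3_c53) (LK LD1_c2 LD2_c12 LD3_c21) Lrfl Lrfl
theorem f250416 : Led Lsl_gf (LP (LK LD1_c2 LD2_c2 LD3_c41)) = (LP (LK LD1_c2 LD2_c37 LD3_c0)) :=
  Lgr Lrot172 (Lpe (f228902 IH) (Lpr_dt (f250389 IH) (Lpe (f173947 IH) (Lpr_gf (K13.f226904 IH) (Lpe (K12.f169161 IH) (Lpe (K13.f220758 IH) (Lpr_dt (K12.f196616 IH) (Lpr_gt (f246591 IH) (Lpe (f223745 IH) (Lpn (LP (LK LD1_c2 LD2_c37 LD3_c0))))))))))))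
theorem f251010 : Led Lsl_dt (LP (LK LD1_c2 LD2_c2 LD3_c41)) = (LP (LK LD1_c1 LD2_c15 LD3_c58)) :=
  Lgr Lrot57 (Lpr_gf (f250416 IH) (Lpr_cf (f223745 IH) (Lpr_gt (f251008 IH) (Lpe (K13.f246303 IH) (Lpr_gt (K13.f196720 IH) (Lpr_dt (K13.f196611 IH) (Lpe (K13.f172008 IH) (Lpe (K12.f196604 IH) (Lpe (K12.f217718 IH) (Lpn (LP (LK LD1_c1 LD2_c15 LD3_c58))))))))))))
theorem f250426 : Led Lsl_et (LP (LK LD1_c2 LD2_c2 LD3_c41)) = (LP (LK LD1_c2 LD2_c5 LD3_c47)) :=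
  Lgr Lrot87 (Lpr_ef (f250422 IH) (Lpn (LP (LK LD1_c2 LD2_c5 LD3_c47))))
theorem f252615 : Led Lsl_et (LP (LK LD1_c0 LD2_c39 LD3_c10)) = (LP (LK LD1_c1 LD2_c25 LD3_c3)) :=
  Lre_e IH (LK LD1_c0 LD2_c39 LD3_c10) (LK LD1_c1 LD2_c25 LD3_c3) Lrfl Lrfl
theorem f256262 : Led Lsl_gf (LP (LK LD1_c2 LD2_c5 LD3_c47)) = (LP (LK LD1_c1 LD2_c25 LD3_c3)) :=
  Lgr Lrot141 (Lpe (f250426 IH) (Lpr_dt (f251010 IH) (Lpr_gt (K12.f217718 IH) (Lpe (K12.f42493 IH) (Lpr_et (f184387 IH) (Lpe (f256088 IH) (Lpr_dt (f249215 IH) (Lpr_gt (f256251 IH) (Lpe (f41813 IH) (Lpr_et (f252615 IH) (Lpn (LP (LK LD1_c1 LD2_c25 LD3_c3)))))))))))))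
theorem f169401 : Led Lsl_bt (LP (LK LD1_c0 LD2_c27 LD3_c15)) = (LP (LK LD1_c0 LD2_c59 LD3_c53)) :=
  Lre_b IH (LK LD1_c0 LD2_c27 LD3_c15) (LK LD1_c0 LD2_c59 LD3_c53) Lrfl Lrfl
theorem f169407 : Led Lsl_gt (LP (LK LD1_c0 LD2_c59 LD3_c53)) = (LP (LK LD1_c2 LD2_c5 LD3_c45)) :=
  Lre_g IH (LK LD1_c0 LD2_c59 LD3_c53) (LK LD1_c2 LD2_c5 LD3_c45) Lrfl Lrfl
theorem f240282 : Led Lsl_ct (LP (LK LD1_c2 LD2_c58 LD3_c36)) = (LP (LK LD1_c1 LD2_c25 LD3_c3)) :=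
  Lre_c IH (LK LD1_c2 LD2_c58 LD3_c36) (LK LD1_c1 LD2_c25 LD3_c3) Lrfl Lrfl
theorem f256279 : Led Lsl_bf (LP (LK LD1_c2 LD2_c5 LD3_c45)) = (LP (LK LD1_c2 LD2_c58 LD3_c36)) :=
  Lgr Lrot34 (Lpe (f169407 IH) (Lpe (f169401 IH) (Lpr_ct (K10.f169425 IH) (Lpe (K9.f21234 IH) (Lpr_cf (K9.f166694 IH) (Lpr_gf (f250229 IH) (Lpe (f248472 IH) (Lpr_ct (f230284 IH) (Lpr_gf (f256262 IH) (Lpe (f240282 IH) (Lpn (LP (LK LD1_c2 LD2_c58 LD3_c36)))))))))))))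
theorem f230288 : Led Lsl_gf (LP (LK LD1_c2 LD2_c36 LD3_c22)) = (LP (LK LD1_c2 LD2_c5 LD3_c45)) :=
  Lgr Lrot76 (Lpr_af (K12.f230280 IH) (Lpe (K12.f169403 IH) (Lpr_gt (f169407 IH) (Lpn (LP (LK LD1_c2 LD2_c5 LD3_c45))))))
theorem f230282 : Led Lsl_at (LP (LK LD1_c2 LD2_c36 LD3_c22)) = (LP (LK LD1_c2 LD2_c5 LD3_c47)) :=
  Lgr Lrot100 (Lpr_af (K12.f230280 IH) (Lpn (LP (LK LD1_c2 LD2_c5 LD3_c47))))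
theorem f256266 : Led Lsl_gt (LP (LK LD1_c2 LD2_c5 LD3_c40)) = (LP (LK LD1_c1 LD2_c25 LD3_c3)) :=
  Lgr Lrot5 (Lpe (f230297 IH) (Lpr_at (f230282 IH) (Lpr_gf (f256262 IH) (Lpn (LP (LK LD1_c1 LD2_c25 LD3_c3))))))
theorem f256288 : Led Lsl_bf (LP (LK LD1_c2 LD2_c3 LD3_c22)) = (LP (LK LD1_c2 LD2_c6 LD3_c38)) :=
  Lgr Lrot34 (Lpe (f166909 IH) (Lpe (f253482 IH) (Lpr_ct (K12.f171476 IH) (Lpe (K12.f229518 IH) (Lpe (f230270 IH) (Lpr_gf (f230288 IH) (Lpr_bf (f256279 IH) (Lpr_ct (f240282 IH) (Lpe (f256266 IH) (Lpe (f230303 IH) (Lpn (LP (LK LD1_c2 LD2_c6 LD3_c38)))))))))))))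
theorem f166906 : Led Lsl_ft (LP (LK LD1_c2 LD2_c3 LD3_c22)) = (LP (LK LD1_c4 LD2_c12 LD3_c17)) :=
  Lre_f IH (LK LD1_c2 LD2_c3 LD3_c22) (LK LD1_c4 LD2_c12 LD3_c17) Lrfl Lrfl
theorem f256292 : Led Lsl_bt (LP (LK LD1_c4 LD2_c12 LD3_c17)) = (LP (LK LD1_c4 LD2_c18 LD3_c41)) :=
  Lgr Lrot35 (Lpe (f166906 IH) (Lpr_bf (f256288 IH) (Lpe (K12.f229928 IH) (Lpn (LP (LK LD1_c4 LD2_c18 LD3_c41))))))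
theorem f253418 : Led Lsl_ft (LP (LK LD1_c2 LD2_c11 LD3_c9)) = (LP (LK LD1_c1 LD2_c2 LD3_c35)) :=
  Lre_f IH (LK LD1_c2 LD2_c11 LD3_c9) (LK LD1_c1 LD2_c2 LD3_c35) Lrfl Lrfl
theorem f253419 : Led Lsl_ct (LP (LK LD1_c4 LD2_c12 LD3_c17)) = (LP (LK LD1_c2 LD2_c11 LD3_c9)) :=
  Lgr Lrot40 (Lpe (f166906 IH) (Lpr_cf (f253408 IH) (Lpe (f253418 IH) (Lpn (LP (LK LD1_c2 LD2_c11 LD3_c9))))))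
theorem f22394 : Led Lsl_ft (LP (LK LD1_c0 LD2_c13 LD3_c13)) = (LP (LK LD1_c0 LD2_c29 LD3_c56)) :=
  Lre_f IH (LK LD1_c0 LD2_c13 LD3_c13) (LK LD1_c0 LD2_c29 LD3_c56) Lrfl Lrfl
theorem f22395 : Led Lsl_gt (LP (LK LD1_c0 LD2_c13 LD3_c13)) = (LP (LK LD1_c0 LD2_c16 LD3_c21)) :=
  Lgr Lrot5 (Lpr_ft (f22394 IH) (Lpr_at (K1.f22393 IH) (Lpr_gf (K9.f22391 IH) (Lpn (LP (LK LD1_c0 LD2_c16 LD3_c21))))))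
theorem f242145 : Led Lsl_bf (LP (LK LD1_c0 LD2_c59 LD3_c3)) = (LP (LK LD1_c0 LD2_c55 LD3_c57)) :=
  Lgr Lrot34 (Lpr_gf (K13.f196353 IH) (Lpe (K1.f47069 IH) (Lpr_ct (K1.f55439 IH) (Lpe (K9.f172055 IH) (Lpe (K10.f22399 IH) (Lpe (f22395 IH) (Lpe (K9.f56066 IH) (Lpr_ct (K1.f27836 IH) (Lpr_gf (K13.f242135 IH) (Lpe (K12.f34051 IH) (Lpn (LP (LK LD1_c0 LD2_c55 LD3_c57)))))))))))))
theorem f242225 : Led Lsl_bt (LP (LK LD1_c0 LD2_c54 LD3_c27)) = (LP (LK LD1_c0 LD2_c55 LD3_c8)) :=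
  Lgr Lrot95 (Lpe (K12.f28527 IH) (Lpr_bf (f242145 IH) (Lpe (K12.f30821 IH) (Lpn (LP (LK LD1_c0 LD2_c55 LD3_c8))))))
theorem f229648 : Led Lsl_bt (LP (LK LD1_c1 LD2_c55 LD3_c14)) = (LP (LK LD1_c3 LD2_c56 LD3_c57)) :=
  Lre_b IH (LK LD1_c1 LD2_c55 LD3_c14) (LK LD1_c3 LD2_c56 LD3_c57) Lrfl Lrfl
theorem f242229 : Led Lsl_cf (LP (LK LD1_c1 LD2_c55 LD3_c14)) = (LP (LK LD1_c0 LD2_c55 LD3_c8)) :=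
  Lgr Lrot97 (Lpr_bt (f229648 IH) (Lpe (f229919 IH) (Lpr_bt (K12.f196333 IH) (Lpr_ct (K13.f28526 IH) (Lpr_bt (f242225 IH) (Lpn (LP (LK LD1_c0 LD2_c55 LD3_c8))))))))
theorem f171672 : Led Lsl_dt (LP (LK LD1_c1 LD2_c13 LD3_c34)) = (LP (LK LD1_c2 LD2_c33 LD3_c15)) :=
  Lre_d IH (LK LD1_c1 LD2_c13 LD3_c34) (LK LD1_c2 LD2_c33 LD3_c15) Lrfl Lrfl
theorem f242520 : Led Lsl_gt (LP (LK LD1_c1 LD2_c55 LD3_c14)) = (LP (LK LD1_c1 LD2_c13 LD3_c34)) :=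
  Lgr Lrot94 (Lpr_cf (f242229 IH) (Lpr_gt (K13.f242518 IH) (Lpe (K13.f242510 IH) (Lpr_gt (K12.f227918 IH) (Lpr_dt (K10.f171529 IH) (Lpe (K10.f34624 IH) (Lpe (K13.f171525 IH) (Lpr_gf (K13.f242305 IH) (Lpe (f171672 IH) (Lpn (LP (LK LD1_c1 LD2_c13 LD3_c34))))))))))))
theorem f256298 : Led Lsl_gf (LP (LK LD1_c2 LD2_c11 LD3_c9)) = (LP (LK LD1_c1 LD2_c13 LD3_c40)) :=
  Lgr Lrot126 (Lpe (f253419 IH) (Lpr_bt (f256292 IH) (Lpr_gt (K12.f229518 IH) (Lpr_ct (K12.f171473 IH) (Lpe (K12.f229516 IH) (Lpr_cf (f229919 IH) (Lpr_bt (f229707 IH) (Lpr_gt (f242520 IH) (Lpe (f183930 IH) (Lpr_ct (K9.f183919 IH) (Lpn (LP (LK LD1_c1 LD2_c13 LD3_c40)))))))))))))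
theorem f246150 : Led Lsl_et (LP (LK LD1_c0 LD2_c34 LD3_c6)) = (LP (LK LD1_c1 LD2_c13 LD3_c40)) :=
  Lre_e IH (LK LD1_c0 LD2_c34 LD3_c6) (LK LD1_c1 LD2_c13 LD3_c40) Lrfl Lrfl
theorem f256304 : Led Lsl_dt (LP (LK LD1_c2 LD2_c11 LD3_c9)) = (LP (LK LD1_c1 LD2_c15 LD3_c46)) :=
  Lgr Lrot171 (Lpr_gf (f256298 IH) (Lpe (f246150 IH) (Lpr_dt (K12.f183893 IH) (Lpe (K13.f171669 IH) (Lpr_df (f251568 IH) (Lpr_et (f41527 IH) (Lpe (K10.f41525 IH) (Lpr_ef (K1.f41488 IH) (Lpr_dt (K1.f41485 IH) (Lpe (K10.f41515 IH) (Lpn (LP (LK LD1_c1 LD2_c15 LD3_c46)))))))))))))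
theorem f214087 : Led Lsl_ct (LP (LK LD1_c2 LD2_c37 LD3_c33)) = (LP (LK LD1_c4 LD2_c50 LD3_c35)) :=
  Lgr Lrot59 (Lpr_cf (K12.f214081 IH) (Lpn (LP (LK LD1_c4 LD2_c50 LD3_c35))))
theorem f199019 : Led Lsl_gt (LP (LK LD1_c4 LD2_c3 LD3_c22)) = (LP (LK LD1_c1 LD2_c58 LD3_c39)) :=
  Lre_g IH (LK LD1_c4 LD2_c3 LD3_c22) (LK LD1_c1 LD2_c58 LD3_c39) Lrfl Lrfl
theorem f199116 : Led Lsl_ct (LP (LK LD1_c4 LD2_c3 LD3_c22)) = (LP (LK LD1_c8 LD2_c7 LD3_c20)) :=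
  Lre_c IH (LK LD1_c4 LD2_c3 LD3_c22) (LK LD1_c8 LD2_c7 LD3_c20) Lrfl Lrfl
theorem f212475 : Led Lsl_gt (LP (LK LD1_c8 LD2_c7 LD3_c20)) = (LP (LK LD1_c4 LD2_c8 LD3_c9)) :=
  Lgr Lrot94 (Lpe (f199116 IH) (Lpr_gt (f199019 IH) (Lpr_dt (K11.f198942 IH) (Lpr_gt (K11.f47949 IH) (Lpr_dt (K12.f46457 IH) (Lpe (K10.f8445 IH) (Lpe (K1.f43922 IH) (Lpr_gf (K12.f212468 IH) (Lpr_df (K12.f47647 IH) (Lpn (LP (LK LD1_c4 LD2_c8 LD3_c9))))))))))))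
theorem f256313 : Led Lsl_gt (LP (LK LD1_c2 LD2_c11 LD3_c9)) = (LP (LK LD1_c4 LD2_c3 LD3_c22)) :=
  Lgr Lrot146 (Lpr_dt (f256304 IH) (Lpr_gt (K10.f41515 IH) (Lpr_ct (K10.f46466 IH) (Lpr_gt (f187502 IH) (Lpr_ct (f214087 IH) (Lpr_dt (K12.f213918 IH) (Lpe (K12.f213999 IH) (Lpe (f212475 IH) (Lpe (f199116 IH) (Lpn (LP (LK LD1_c4 LD2_c3 LD3_c22))))))))))))
theorem f247554 : Led Lsl_bt (LP (LK LD1_c2 LD2_c11 LD3_c9)) = (LP (LK LD1_c4 LD2_c27 LD3_c45)) :=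
  Lre_b IH (LK LD1_c2 LD2_c11 LD3_c9) (LK LD1_c4 LD2_c27 LD3_c45) Lrfl Lrfl
theorem f253291 : Led Lsl_df (LP (LK LD1_c2 LD2_c11 LD3_c9)) = (LP (LK LD1_c1 LD2_c15 LD3_c46)) :=
  Lgr Lrot12 (Lpr_bt (f247554 IH) (Lpr_dt (f253286 IH) (Lpr_bt (K10.f46464 IH) (Lpn (LP (LK LD1_c1 LD2_c15 LD3_c46))))))
theorem f194810 : Led Lsl_gt (LP (LK LD1_c1 LD2_c15 LD3_c48)) = (LP (LK LD1_c2 LD2_c37 LD3_c32)) :=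
  Lre_g IH (LK LD1_c1 LD2_c15 LD3_c48) (LK LD1_c2 LD2_c37 LD3_c32) Lrfl Lrfl
theorem f215266 : Led Lsl_dt (LP (LK LD1_c2 LD2_c37 LD3_c32)) = (LP (LK LD1_c5 LD2_c21 LD3_c61)) :=
  Lre_d IH (LK LD1_c2 LD2_c37 LD3_c32) (LK LD1_c5 LD2_c21 LD3_c61) Lrfl Lrfl
theorem f215280 : Led Lsl_gt (LP (LK LD1_c5 LD2_c21 LD3_c61)) = (LP (LK LD1_c10 LD2_c34 LD3_c20)) :=
  Lre_g IH (LK LD1_c5 LD2_c21 LD3_c61) (LK LD1_c10 LD2_c34 LD3_c20) Lrfl Lrfl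
theorem f253313 : Led Lsl_bt (LP (LK LD1_c4 LD2_c27 LD3_c45)) = (LP (LK LD1_c2 LD2_c11 LD3_c9)) :=
  Lre_b IH (LK LD1_c4 LD2_c27 LD3_c45) (LK LD1_c2 LD2_c11 LD3_c9) Lrfl Lrfl
theorem f256296 : Led Lsl_cf (LP (LK LD1_c4 LD2_c12 LD3_c17)) = (LP (LK LD1_c2 LD2_c11 LD3_c9)) :=
  Lgr Lrot97 (Lpr_bt (f256292 IH) (Lpe (K12.f230272 IH) (Lpr_bt (f230781 IH) (Lpr_ct (f247555 IH) (Lpr_bt (f253313 IH) (Lpn (LP (LK LD1_c2 LD2_c11 LD3_c9))))))))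
theorem f246140 : Led Lsl_dt (LP (LK LD1_c2 LD2_c3 LD3_c28)) = (LP (LK LD1_c2 LD2_c31 LD3_c55)) :=
  Lgr Lrot6 (Lpr_gt (K13.f166890 IH) (Lpe (K12.f199171 IH) (Lpr_gt (f246127 IH) (Lpr_ct (f183924 IH) (Lpe (K9.f183920 IH) (Lpr_cf (f242369 IH) (Lpe (f180706 IH) (Lpe (f165521 IH) (Lpe (f180607 IH) (Lpn (LP (LK LD1_c2 LD2_c31 LD3_c55))))))))))))
theorem f165488 : Led Lsl_gt (LP (LK LD1_c5 LD2_c9 LD3_c31)) = (LP (LK LD1_c2 LD2_c31 LD3_c53)) :=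
  Lre_g IH (LK LD1_c5 LD2_c9 LD3_c31) (LK LD1_c2 LD2_c31 LD3_c53) Lrfl Lrfl
theorem f256318 : Led Lsl_df (LP (LK LD1_c5 LD2_c9 LD3_c31)) = (LP (LK LD1_c4 LD2_c3 LD3_c22)) :=
  Lgr Lrot153 (Lpr_gt (f165488 IH) (Lpr_dt (f165487 IH) (Lpe (K9.f34626 IH) (Lpe (f165547 IH) (Lpe (f180607 IH) (Lpe (f246140 IH) (Lpe (f189492 IH) (Lpr_cf (f256296 IH) (Lpr_gt (f256313 IH) (Lpn (LP (LK LD1_c4 LD2_c3 LD3_c22))))))))))))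
theorem f192855 : Led Lsl_ct (LP (LK LD1_c10 LD2_c9 LD3_c44)) = (LP (LK LD1_c5 LD2_c9 LD3_c31)) :=
  Lre_c IH (LK LD1_c10 LD2_c9 LD3_c44) (LK LD1_c5 LD2_c9 LD3_c31) Lrfl Lrfl
theorem f256320 : Led Lsl_dt (LP (LK LD1_c10 LD2_c34 LD3_c20)) = (LP (LK LD1_c10 LD2_c9 LD3_c44)) :=
  Lgr Lrot105 (Lpe (f215280 IH) (Lpe (f215266 IH) (Lpe (f194810 IH) (Lpe (K12.f46470 IH) (Lpr_gt (K10.f187512 IH) (Lpe (f253291 IH) (Lpr_gt (f256313 IH) (Lpe (f256318 IH) (Lpe (f192855 IH) (Lpn (LP (LK LD1_c10 LD2_c9 LD3_c44))))))))))))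
theorem f192856 : Led Lsl_gf (LP (LK LD1_c8 LD2_c13 LD3_c11)) = (LP (LK LD1_c10 LD2_c9 LD3_c44)) :=
  Lgr Lrot144 (Lpe (f191933 IH) (Lpr_gt (f46434 IH) (Lpr_dt (K10.f46480 IH) (Lpe (K1.f46408 IH) (Lpe (K1.f46407 IH) (Lpr_gf (f192852 IH) (Lpe (f165487 IH) (Lpe (f165488 IH) (Lpe (f192855 IH) (Lpn (LP (LK LD1_c10 LD2_c9 LD3_c44))))))))))))
theorem f44575 : Led Lsl_et (LP (LK LD1_c0 LD2_c59 LD3_c8)) = (LP (LK LD1_c2 LD2_c4 LD3_c12)) :=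
  Lre_e IH (LK LD1_c0 LD2_c59 LD3_c8) (LK LD1_c2 LD2_c4 LD3_c12) Lrfl Lrfl
theorem f192491 : Led Lsl_et (LP (LK LD1_c2 LD2_c28 LD3_c22)) = (LP (LK LD1_c1 LD2_c11 LD3_c24)) :=
  Lre_e IH (LK LD1_c2 LD2_c28 LD3_c22) (LK LD1_c1 LD2_c11 LD3_c24) Lrfl Lrfl
theorem f192495 : Led Lsl_gt (LP (LK LD1_c4 LD2_c6 LD3_c17)) = (LP (LK LD1_c5 LD2_c1 LD3_c20)) :=
  Lgr Lrot139 (Lpe (f179075 IH) (Lpr_gf (K10.f183711 IH) (Lpe (K9.f43242 IH) (Lpe (K8.f43244 IH) (Lpr_gf (K1.f44542 IH) (Lpe (K1.f44568 IH) (Lpr_et (f44575 IH) (Lpr_gf (K10.f192477 IH) (Lpe (f192491 IH) (Lpr_dt (f192492 IH) (Lpn (LP (LK LD1_c5 LD2_c1 LD3_c20)))))))))))))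
theorem f256327 : Led Lsl_gt (LP (LK LD1_c10 LD2_c34 LD3_c20)) = (LP (LK LD1_c5 LD2_c22 LD3_c2)) :=
  Lgr Lrot146 (Lpr_dt (f256320 IH) (Lpe (f192856 IH) (Lpr_ct (f179071 IH) (Lpr_gt (f192495 IH) (Lpe (f253115 IH) (Lpr_dt (f44631 IH) (Lpe (f254440 IH) (Lpe (f246195 IH) (Lpr_cf (f215355 IH) (Lpn (LP (LK LD1_c5 LD2_c22 LD3_c2))))))))))))
theorem f190626 : Led Lsl_gt (LP (LK LD1_c5 LD2_c3 LD3_c46)) = (LP (LK LD1_c9 LD2_c58 LD3_c25)) :=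
  Lre_g IH (LK LD1_c5 LD2_c3 LD3_c46) (LK LD1_c9 LD2_c58 LD3_c25) Lrfl Lrfl
theorem f256329 : Led Lsl_cf (LP (LK LD1_c10 LD2_c34 LD3_c20)) = (LP (LK LD1_c9 LD2_c58 LD3_c25)) :=
  Lgr Lrot169 (Lpr_gt (f256327 IH) (Lpe (f215355 IH) (Lpe (f190490 IH) (Lpe (f45968 IH) (Lpe (K10.f43943 IH) (Lpe (K1.f43956 IH) (Lpr_gf (K10.f190620 IH) (Lpe (f3137 IH) (Lpr_gt (f190626 IH) (Lpn (LP (LK LD1_c9 LD2_c58 LD3_c25))))))))))))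
theorem f256338 : Led Lsl_ct (LP (LK LD1_c10 LD2_c34 LD3_c20)) = (LP (LK LD1_c9 LD2_c58 LD3_c25)) :=
  Lgr Lrot59 (Lpr_cf (f256329 IH) (Lpn (LP (LK LD1_c9 LD2_c58 LD3_c25))))
theorem f215252 : Led Lsl_gt (LP (LK LD1_c10 LD2_c32 LD3_c57)) = (LP (LK LD1_c10 LD2_c9 LD3_c38)) :=
  Lgr Lrot46 (Lpr_gf (f215025 IH) (Lpe (K12.f214316 IH) (Lpe (K12.f214180 IH) (Lpn (LP (LK LD1_c10 LD2_c9 LD3_c38))))))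
theorem f47656 : Led Lsl_dt (LP (LK LD1_c5 LD2_c15 LD3_c52)) = (LP (LK LD1_c10 LD2_c21 LD3_c4)) :=
  Lre_d IH (LK LD1_c5 LD2_c15 LD3_c52) (LK LD1_c10 LD2_c21 LD3_c4) Lrfl Lrfl
theorem f215267 : Led Lsl_cf (LP (LK LD1_c10 LD2_c21 LD3_c4)) = (LP (LK LD1_c5 LD2_c21 LD3_c61)) :=
  Lgr Lrot14 (Lpe (f47656 IH) (Lpe (K12.f214270 IH) (Lpe (K12.f214135 IH) (Lpe (f215252 IH) (Lpr_ct (f215254 IH) (Lpr_gt (f190662 IH) (Lpr_dt (f46459 IH) (Lpr_gt (f194810 IH) (Lpr_dt (f215266 IH) (Lpn (LP (LK LD1_c5 LD2_c21 LD3_c61))))))))))))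
theorem f215275 : Led Lsl_ct (LP (LK LD1_c10 LD2_c21 LD3_c4)) = (LP (LK LD1_c5 LD2_c21 LD3_c61)) :=
  Lgr Lrot59 (Lpr_cf (f215267 IH) (Lpn (LP (LK LD1_c5 LD2_c21 LD3_c61))))
theorem f231393 : Led Lsl_df (LP (LK LD1_c15 LD2_c0 LD3_c52)) = (LP (LK LD1_c8 LD2_c53 LD3_c54)) :=
  Lgr Lrot43 (Lpr_ct (f43260 IH) (Lpr_dt (K12.f43259 IH) (Lpr_ct (K12.f43258 IH) (Lpr_dt (K9.f43257 IH) (Lpr_ct (K10.f43219 IH) (Lpr_dt (K0.f27701 IH) (Lpr_ct (K11.f27720 IH) (Lpr_dt (K12.f43904 IH) (Lpe (K12.f214306 IH) (Lpr_dt (K12.f214135 IH) (Lpr_ct (K12.f214102 IH) (Lpr_dt (K12.f190992 IH) (Lpr_ct (K10.f171521 IH) (Lpr_dt (K12.f191006 IH) (Lpr_ct (K13.f231384 IH) (Lpn (LP (LK LD1_c8 LD2_c53 LD3_c54))))))))))))))))))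
theorem f45406 : Led Lsl_dt (LP (LK LD1_c10 LD2_c21 LD3_c4)) = (LP (LK LD1_c5 LD2_c15 LD3_c52)) :=
  Lre_d IH (LK LD1_c10 LD2_c21 LD3_c4) (LK LD1_c5 LD2_c15 LD3_c52) Lrfl Lrfl
theorem f254457 : Led Lsl_gt (LP (LK LD1_c9 LD2_c56 LD3_c30)) = (LP (LK LD1_c10 LD2_c21 LD3_c4)) :=
  Lgr Lrot180 (Lpr_ct (f254440 IH) (Lpe (f254436 IH) (Lpr_dt (f231409 IH) (Lpr_gt (K13.f231405 IH) (Lpe (f231393 IH) (Lpr_ct (f43260 IH) (Lpe (K12.f43857 IH) (Lpe (f215023 IH) (Lpe (f45406 IH) (Lpn (LP (LK LD1_c10 LD2_c21 LD3_c4))))))))))))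
theorem f256371 : Led Lsl_dt (LP (LK LD1_c5 LD2_c9 LD3_c38)) = (LP (LK LD1_c9 LD2_c58 LD3_c25)) :=
  Lgr Lrot27 (Lpe (f242345 IH) (Lpe (K9.f183921 IH) (Lpe (K12.f45749 IH) (Lpr_gf (K12.f192129 IH) (Lpe (f215692 IH) (Lpr_gt (f254457 IH) (Lpr_ct (f215275 IH) (Lpr_gt (f215280 IH) (Lpr_ct (f256338 IH) (Lpn (LP (LK LD1_c9 LD2_c58 LD3_c25))))))))))))
theorem f22107 : Led Lsl_ct (LP (LK LD1_c2 LD2_c31 LD3_c56)) = (LP (LK LD1_c1 LD2_c12 LD3_c61)) :=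
  Lre_c IH (LK LD1_c2 LD2_c31 LD3_c56) (LK LD1_c1 LD2_c12 LD3_c61) Lrfl Lrfl
theorem f165572 : Led Lsl_gt (LP (LK LD1_c1 LD2_c12 LD3_c61)) = (LP (LK LD1_c2 LD2_c31 LD3_c54)) :=
  Lre_g IH (LK LD1_c1 LD2_c12 LD3_c61) (LK LD1_c2 LD2_c31 LD3_c54) Lrfl Lrfl
theorem f190661 : Led Lsl_dt (LP (LK LD1_c5 LD2_c22 LD3_c2)) = (LP (LK LD1_c2 LD2_c37 LD3_c33)) :=
  Lre_d IH (LK LD1_c5 LD2_c22 LD3_c2) (LK LD1_c2 LD2_c37 LD3_c33) Lrfl Lrfl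
theorem f256341 : Led Lsl_gf (LP (LK LD1_c10 LD2_c11 LD3_c33)) = (LP (LK LD1_c9 LD2_c58 LD3_c25)) :=
  Lgr Lrot144 (Lpr_dt (f249086 IH) (Lpe (f249081 IH) (Lpe (f190653 IH) (Lpe (f46472 IH) (Lpe (f46471 IH) (Lpe (K12.f183071 IH) (Lpe (f190661 IH) (Lpe (f256327 IH) (Lpr_cf (f256329 IH) (Lpn (LP (LK LD1_c9 LD2_c58 LD3_c25))))))))))))
theorem f249068 : Led Lsl_dt (LP (LK LD1_c4 LD2_c12 LD3_c17)) = (LP (LK LD1_c2 LD2_c32 LD3_c18)) :=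
  Lgr Lrot6 (Lpr_gt (f189492 IH) (Lpe (K13.f219191 IH) (Lpr_gt (K13.f219187 IH) (Lpr_ct (K13.f46482 IH) (Lpe (K10.f45750 IH) (Lpr_cf (f191781 IH) (Lpe (f215724 IH) (Lpe (f198888 IH) (Lpr_gf (f249061 IH) (Lpn (LP (LK LD1_c2 LD2_c32 LD3_c18))))))))))))
theorem f249077 : Led Lsl_gt (LP (LK LD1_c2 LD2_c3 LD3_c27)) = (LP (LK LD1_c4 LD2_c12 LD3_c17)) :=
  Lre_g IH (LK LD1_c2 LD2_c3 LD3_c27) (LK LD1_c4 LD2_c12 LD3_c17) Lrfl Lrfl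
theorem f256393 : Led Lsl_dt (LP (LK LD1_c2 LD2_c31 LD3_c54)) = (LP (LK LD1_c2 LD2_c3 LD3_c27)) :=
  Lgr Lrot57 (Lpe (f165572 IH) (Lpe (f22107 IH) (Lpr_gt (f180706 IH) (Lpr_dt (f256371 IH) (Lpe (f256341 IH) (Lpr_dt (f249086 IH) (Lpe (f249060 IH) (Lpe (f249068 IH) (Lpe (f249077 IH) (Lpn (LP (LK LD1_c2 LD2_c3 LD3_c27))))))))))))
theorem f165548 : Led Lsl_dt (LP (LK LD1_c0 LD2_c33 LD3_c51)) = (LP (LK LD1_c1 LD2_c12 LD3_c61)) :=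
  Lre_d IH (LK LD1_c0 LD2_c33 LD3_c51) (LK LD1_c1 LD2_c12 LD3_c61) Lrfl Lrfl
theorem f199576 : Led Lsl_ct (LP (LK LD1_c4 LD2_c12 LD3_c32)) = (LP (LK LD1_c2 LD2_c3 LD3_c27)) :=
  Lre_c IH (LK LD1_c4 LD2_c12 LD3_c32) (LK LD1_c2 LD2_c3 LD3_c27) Lrfl Lrfl
theorem f199574 : Led Lsl_dt (LP (LK LD1_c8 LD2_c24 LD3_c45)) = (LP (LK LD1_c4 LD2_c12 LD3_c32)) :=
  Lre_d IH (LK LD1_c8 LD2_c24 LD3_c45) (LK LD1_c4 LD2_c12 LD3_c32) Lrfl Lrfl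
theorem f256401 : Led Lsl_gt (LP (LK LD1_c4 LD2_c50 LD3_c31)) = (LP (LK LD1_c8 LD2_c24 LD3_c45)) :=
  Lgr Lrot49 (Lpe (f27739 IH) (Lpe (K10.f27710 IH) (Lpe (K10.f43219 IH) (Lpr_gt (K10.f192566 IH) (Lpr_dt (f165548 IH) (Lpr_gt (f165572 IH) (Lpr_dt (f256393 IH) (Lpe (f199576 IH) (Lpe (f199574 IH) (Lpn (LP (LK LD1_c8 LD2_c24 LD3_c45))))))))))))
theorem f199575 : Led Lsl_dt (LP (LK LD1_c4 LD2_c12 LD3_c32)) = (LP (LK LD1_c8 LD2_c24 LD3_c45)) :=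
  Lre_d IH (LK LD1_c4 LD2_c12 LD3_c32) (LK LD1_c8 LD2_c24 LD3_c45) Lrfl Lrfl
theorem f256428 : Led Lsl_ef (LP (LK LD1_c2 LD2_c24 LD3_c52)) = (LP (LK LD1_c4 LD2_c12 LD3_c32)) :=
  Lgr Lrot114 (Lpr_gt (K12.f44458 IH) (Lpe (K9.f43396 IH) (Lpr_dt (K1.f44443 IH) (Lpe (K1.f44544 IH) (Lpe (K0.f27726 IH) (Lpr_et (K0.f27577 IH) (Lpr_gt (K10.f27710 IH) (Lpr_dt (f27739 IH) (Lpr_gt (f256401 IH) (Lpe (f199575 IH) (Lpn (LP (LK LD1_c4 LD2_c12 LD3_c32)))))))))))))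
theorem f256437 : Led Lsl_et (LP (LK LD1_c2 LD2_c24 LD3_c52)) = (LP (LK LD1_c4 LD2_c12 LD3_c32)) :=
  Lgr Lrot87 (Lpr_ef (f256428 IH) (Lpn (LP (LK LD1_c4 LD2_c12 LD3_c32))))
theorem f187765 : Led Lsl_gt (LP (LK LD1_c2 LD2_c0 LD3_c34)) = (LP (LK LD1_c1 LD2_c0 LD3_c54)) :=
  Lgr Lrot46 (Lpr_gf (K10.f187490 IH) (Lpr_ft (K10.f183636 IH) (Lpe (K9.f54066 IH) (Lpn (LP (LK LD1_c1 LD2_c0 LD3_c54))))))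
theorem f47098 : Led Lsl_bt (LP (LK LD1_c0 LD2_c25 LD3_c48)) = (LP (LK LD1_c0 LD2_c56 LD3_c51)) :=
  Lre_b IH (LK LD1_c0 LD2_c25 LD3_c48) (LK LD1_c0 LD2_c56 LD3_c51) Lrfl Lrfl
theorem f47204 : Led Lsl_gt (LP (LK LD1_c0 LD2_c56 LD3_c51)) = (LP (LK LD1_c1 LD2_c59 LD3_c41)) :=
  Lre_g IH (LK LD1_c0 LD2_c56 LD3_c51) (LK LD1_c1 LD2_c59 LD3_c41) Lrfl Lrfl

end

end K14

end

end Cfsg.Agent.Helper28.S1692
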