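import Cfsg.Agent.Lib.Helper28.S1692.Seeds14

set_option autoImplicit false
set_option maxRecDepth 100000
set_option linter.all false

namespace Cfsg.Agent.Helper28.S1692

open Cfsg.Agent.Helper28
open Cfsg.Spor.ON (Gen)

noncomputable section

namespace K15
abbrev LD1_c0 := D1.c0
abbrev LD1_c1 := D1.c1
abbrev LD1_c2 := D1.c2
abbrev LD1_c3 := D1.c3
abbrev LD1_c4 := D1.c4
abbrev LD1_c5 := D1.c5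
abbrev LD1_c6 := D1.c6
abbrev LD1_c7 := D1.c7
abbrev LD1_c8 := D1.c8
abbrev LD1_c9 := D1.c9
abbrev LD1_c10 := D1.c10
abbrev LD1_c11 := D1.c11
abbrev LD1_c12 := D1.c12
abbrev LD1_c13 := D1.c13
abbrev LD1_c14 := D1.c14
abbrev LD1_c15 := D1.c15
abbrev LD1_c16 := D1.c16
abbrev LD1_c17 := D1.c17
abbrev LD1_c18 := D1.c18
abbrev LD1_c19 := D1.c19
abbrev LD1_c20 := D1.c20
abbrev LD1_c21 := D1.c21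
abbrev LD1_c22 := D1.c22
abbrev LD1_c23 := D1.c23
abbrev LD1_c24 := D1.c24
abbrev LD1_c25 := D1.c25
abbrev LD1_c26 := D1.c26
abbrev LD1_c27 := D1.c27
abbrev LD1_c28 := D1.c28
abbrev LD1_c29 := D1.c29
abbrev LD1_c30 := D1.c30
abbrev LD1_c31 := D1.c31
abbrev LD1_c32 := D1.c32
abbrev LD2_c0 := D2.c0
abbrev LD2_c1 := D2.c1
abbrev LD2_c2 := D2.c2
abbrev LD2_c3 := D2.c3
abbrev LD2_c4 := D2.c4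
abbrev LD2_c5 := D2.c5
abbrev LD2_c6 := D2.c6
abbrev LD2_c7 := D2.c7
abbrev LD2_c8 := D2.c8
abbrev LD2_c9 := D2.c9
abbrev LD2_c10 := D2.c10
abbrev LD2_c11 := D2.c11
abbrev LD2_c12 := D2.c12
abbrev LD2_c13 := D2.c13
abbrev LD2_c14 := D2.c14
abbrev LD2_c15 := D2.c15
abbrev LD2_c16 := D2.c16
abbrev LD2_c17 := D2.c17
abbrev LD2_c18 := D2.c18
abbrev LD2_c19 := D2.c19
abbrev LD2_c20 := D2.c20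
abbrev LD2_c21 := D2.c21
abbrev LD2_c22 := D2.c22
abbrev LD2_c23 := D2.c23
abbrev LD2_c24 := D2.c24
abbrev LD2_c25 := D2.c25
abbrev LD2_c26 := D2.c26
abbrev LD2_c27 := D2.c27
abbrev LD2_c28 := D2.c28
abbrev LD2_c29 := D2.c29
abbrev LD2_c30 := D2.c30
abbrev LD2_c31 := D2.c31
abbrev LD2_c32 := D2.c32
abbrev LD2_c33 := D2.c33
abbrev LD2_c34 := D2.c34
abbrev LD2_c35 := D2.c35
abbrev LD2_c36 := D2.c36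
abbrev LD2_c37 := D2.c37
abbrev LD2_c38 := D2.c38
abbrev LD2_c39 := D2.c39
abbrev LD2_c40 := D2.c40
abbrev LD2_c41 := D2.c41
abbrev LD2_c42 := D2.c42
abbrev LD2_c43 := D2.c43
abbrev LD2_c44 := D2.c44
abbrev LD2_c45 := D2.c45
abbrev LD2_c46 := D2.c46
abbrev LD2_c47 := D2.c47
abbrev LD2_c48 := D2.c48
abbrev LD2_c49 := D2.c49
abbrev LD2_c50 := D2.c50
abbrev LD2_c51 := D2.c51
abbrev LD2_c52 := D2.c52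
abbrev LD2_c53 := D2.c53
abbrev LD2_c54 := D2.c54
abbrev LD2_c55 := D2.c55
abbrev LD2_c56 := D2.c56
abbrev LD2_c57 := D2.c57
abbrev LD2_c58 := D2.c58
abbrev LD2_c59 := D2.c59
abbrev LD3_c0 := D3.c0
abbrev LD3_c1 := D3.c1
abbrev LD3_c2 := D3.c2
abbrev LD3_c3 := D3.c3
abbrev LD3_c4 := D3.c4
abbrev LD3_c5 := D3.c5
abbrev LD3_c6 := D3.c6
abbrev LD3_c7 := D3.c7
abbrev LD3_c8 := D3.c8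
abbrev LD3_c9 := D3.c9
abbrev LD3_c10 := D3.c10
abbrev LD3_c11 := D3.c11
abbrev LD3_c12 := D3.c12
abbrev LD3_c13 := D3.c13
abbrev LD3_c14 := D3.c14
abbrev LD3_c15 := D3.c15
abbrev LD3_c16 := D3.c16
abbrev LD3_c17 := D3.c17
abbrev LD3_c18 := D3.c18
abbrev LD3_c19 := D3.c19
abbrev LD3_c20 := D3.c20
abbrev LD3_c21 := D3.c21
abbrev LD3_c22 := D3.c22
abbrev LD3_c23 := D3.c23
abbrev LD3_c24 := D3.c24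
abbrev LD3_c25 := D3.c25
abbrev LD3_c26 := D3.c26
abbrev LD3_c27 := D3.c27
abbrev LD3_c28 := D3.c28
abbrev LD3_c29 := D3.c29
abbrev LD3_c30 := D3.c30
abbrev LD3_c31 := D3.c31
abbrev LD3_c32 := D3.c32
abbrev LD3_c33 := D3.c33
abbrev LD3_c34 := D3.c34
abbrev LD3_c35 := D3.c35
abbrev LD3_c36 := D3.c36
abbrev LD3_c37 := D3.c37
abbrev LD3_c38 := D3.c38
abbrev LD3_c39 := D3.c39
abbrev LD3_c40 := D3.c40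
abbrev LD3_c41 := D3.c41
abbrev LD3_c42 := D3.c42
abbrev LD3_c43 := D3.c43
abbrev LD3_c44 := D3.c44
abbrev LD3_c45 := D3.c45
abbrev LD3_c46 := D3.c46
abbrev LD3_c47 := D3.c47
abbrev LD3_c48 := D3.c48
abbrev LD3_c49 := D3.c49
abbrev LD3_c50 := D3.c50
abbrev LD3_c51 := D3.c51
abbrev LD3_c52 := D3.c52
abbrev LD3_c53 := D3.c53
abbrev LD3_c54 := D3.c54
abbrev LD3_c55 := D3.c55
abbrev LD3_c56 := D3.c56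
abbrev LD3_c57 := D3.c57
abbrev LD3_c58 := D3.c58
abbrev LD3_c59 := D3.c59
abbrev LD3_c60 := D3.c60
abbrev LD3_c61 := D3.c61
abbrev LG_g := Gen.g
abbrev Lsl_gt : Gen × Bool := sl_gt
alias Lfl_gt := fl_gt
alias Lpr_gt := pr_gt
abbrev Lsl_gf : Gen × Bool := sl_gf
alias Lfl_gf := fl_gf
alias Lpr_gf := pr_gf
alias Lre_g := re_g
alias Leoe_g := eoe_g
abbrev LG_a := Gen.a
abbrev Lsl_at : Gen × Bool := sl_at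
alias Lfl_at := fl_at
alias Lpr_at := pr_at
abbrev Lsl_af : Gen × Bool := sl_af
alias Lfl_af := fl_af
alias Lpr_af := pr_af
alias Lre_a := re_a
alias Leoe_a := eoe_a
abbrev LG_b := Gen.b
abbrev Lsl_bt : Gen × Bool := sl_bt
alias Lfl_bt := fl_bt
alias Lpr_bt := pr_bt
abbrev Lsl_bf : Gen × Bool := sl_bf
alias Lfl_bf := fl_bf
alias Lpr_bf := pr_bf
alias Lre_b := re_b
alias Leoe_b := eoe_b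
abbrev LG_c := Gen.c
abbrev Lsl_ct : Gen × Bool := sl_ct
alias Lfl_ct := fl_ct
alias Lpr_ct := pr_ct
abbrev Lsl_cf : Gen × Bool := sl_cf
alias Lfl_cf := fl_cf
alias Lpr_cf := pr_cf
alias Lre_c := re_c
alias Leoe_c := eoe_c
abbrev LG_d := Gen.d
abbrev Lsl_dt : Gen × Bool := sl_dt
alias Lfl_dt := fl_dt
alias Lpr_dt := pr_dt
abbrev Lsl_df : Gen × Bool := sl_df
alias Lfl_df := fl_df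
alias Lpr_df := pr_df
alias Lre_d := re_d
alias Leoe_d := eoe_d
abbrev LG_e := Gen.e
abbrev Lsl_et : Gen × Bool := sl_et
alias Lfl_et := fl_et
alias Lpr_et := pr_et
abbrev Lsl_ef : Gen × Bool := sl_ef
alias Lfl_ef := fl_ef
alias Lpr_ef := pr_ef
alias Lre_e := re_e
alias Leoe_e := eoe_e
abbrev LG_f := Gen.f
abbrev Lsl_ft : Gen × Bool := sl_ft
alias Lfl_ft := fl_ft
alias Lpr_ft := pr_ft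
abbrev Lsl_ff : Gen × Bool := sl_ff
alias Lfl_ff := fl_ff
alias Lpr_ff := pr_ff
alias Lre_f := re_f
alias Leoe_f := eoe_f
abbrev LK := Pt.mk
abbrev LQ : Type := Qt rels S
abbrev LP (p : Pt) : LQ := P p
abbrev Led (l : Gen × Bool) (c : LQ) : LQ := ed l c
abbrev LEOK (x : Gen) (p : Pt) : Prop := EntryOK rels S fwd inv o plet idx x p
alias Lpe := pe
alias Lpn := pn
alias Lgr := gr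
alias Lpq := pq
alias Lpqs := pqs
alias Llr := lr
alias Leop := eop
alias Lefun := efun
alias Lecon := econ
theorem Lrfl {α : Sort _} {a : α} : a = a := rfl
alias Lrot0 := rot0
alias Lrot1 := rot1
alias Lrot2 := rot2
alias Lrot3 := rot3
alias Lrot4 := rot4
alias Lrot5 := rot5
alias Lrot6 := rot6
alias Lrot7 := rot7
alias Lrot8 := rot8
alias Lrot9 := rot9
alias Lrot10 := rot10
alias Lrot11 := rot11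
alias Lrot12 := rot12
alias Lrot13 := rot13
alias Lrot14 := rot14
alias Lrot15 := rot15
alias Lrot17 := rot17
alias Lrot18 := rot18
alias Lrot19 := rot19
alias Lrot20 := rot20
alias Lrot21 := rot21
alias Lrot22 := rot22
alias Lrot23 := rot23
alias Lrot24 := rot24
alias Lrot25 := rot25
alias Lrot26 := rot26
alias Lrot27 := rot27
alias Lrot28 := rot28
alias Lrot29 := rot29
alias Lrot30 := rot30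
alias Lrot31 := rot31
alias Lrot32 := rot32
alias Lrot33 := rot33
alias Lrot34 := rot34
alias Lrot35 := rot35
alias Lrot36 := rot36
alias Lrot37 := rot37
alias Lrot38 := rot38
alias Lrot39 := rot39
alias Lrot40 := rot40
alias Lrot41 := rot41
alias Lrot42 := rot42
alias Lrot43 := rot43
alias Lrot44 := rot44
alias Lrot45 := rot45
alias Lrot46 := rot46
alias Lrot47 := rot47
alias Lrot48 := rot48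
alias Lrot49 := rot49
alias Lrot50 := rot50
alias Lrot51 := rot51
alias Lrot52 := rot52
alias Lrot53 := rot53
alias Lrot54 := rot54
alias Lrot55 := rot55
alias Lrot56 := rot56
alias Lrot57 := rot57
alias Lrot58 := rot58
alias Lrot59 := rot59
alias Lrot60 := rot60
alias Lrot61 := rot61
alias Lrot62 := rot62
alias Lrot63 := rot63
alias Lrot64 := rot64
alias Lrot65 := rot65
alias Lrot66 := rot66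
alias Lrot67 := rot67
alias Lrot68 := rot68
alias Lrot69 := rot69
alias Lrot70 := rot70
alias Lrot71 := rot71
alias Lrot72 := rot72
alias Lrot73 := rot73
alias Lrot74 := rot74
alias Lrot75 := rot75
alias Lrot76 := rot76
alias Lrot77 := rot77
alias Lrot78 := rot78
alias Lrot79 := rot79
alias Lrot80 := rot80
alias Lrot81 := rot81
alias Lrot82 := rot82
alias Lrot83 := rot83
alias Lrot84 := rot84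
alias Lrot86 := rot86
alias Lrot87 := rot87
alias Lrot88 := rot88
alias Lrot90 := rot90
alias Lrot91 := rot91
alias Lrot92 := rot92
alias Lrot93 := rot93
alias Lrot94 := rot94
alias Lrot95 := rot95
alias Lrot96 := rot96
alias Lrot97 := rot97
alias Lrot98 := rot98
alias Lrot99 := rot99
alias Lrot100 := rot100
alias Lrot101 := rot101
alias Lrot102 := rot102
alias Lrot103 := rot103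
alias Lrot104 := rot104
alias Lrot105 := rot105
alias Lrot107 := rot107
alias Lrot108 := rot108
alias Lrot109 := rot109
alias Lrot110 := rot110
alias Lrot111 := rot111
alias Lrot112 := rot112
alias Lrot113 := rot113
alias Lrot114 := rot114
alias Lrot115 := rot115
alias Lrot116 := rot116
alias Lrot117 := rot117
alias Lrot118 := rot118
alias Lrot119 := rot119
alias Lrot121 := rot121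
alias Lrot122 := rot122
alias Lrot123 := rot123
alias Lrot124 := rot124
alias Lrot125 := rot125
alias Lrot126 := rot126
alias Lrot127 := rot127
alias Lrot128 := rot128
alias Lrot129 := rot129
alias Lrot130 := rot130
alias Lrot131 := rot131
alias Lrot132 := rot132
alias Lrot134 := rot134
alias Lrot135 := rot135
alias Lrot136 := rot136
alias Lrot137 := rot137
alias Lrot138 := rot138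
alias Lrot139 := rot139
alias Lrot140 := rot140
alias Lrot141 := rot141
alias Lrot142 := rot142
alias Lrot143 := rot143
alias Lrot144 := rot144
alias Lrot145 := rot145
alias Lrot146 := rot146
alias Lrot147 := rot147
alias Lrot148 := rot148
alias Lrot149 := rot149
alias Lrot150 := rot150
alias Lrot151 := rot151
alias Lrot152 := rot152
alias Lrot153 := rot153
alias Lrot154 := rot154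
alias Lrot155 := rot155
alias Lrot156 := rot156
alias Lrot157 := rot157
alias Lrot158 := rot158
alias Lrot160 := rot160
alias Lrot161 := rot161
alias Lrot162 := rot162
alias Lrot163 := rot163
alias Lrot164 := rot164
alias Lrot165 := rot165
alias Lrot166 := rot166
alias Lrot167 := rot167
alias Lrot168 := rot168
alias Lrot169 := rot169
alias Lrot170 := rot170
alias Lrot171 := rot171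
alias Lrot172 := rot172
alias Lrot173 := rot173
alias Lrot174 := rot174
alias Lrot175 := rot175
alias Lrot176 := rot176
alias Lrot177 := rot177
alias Lrot179 := rot179
alias Lrot180 := rot180
alias Lrot181 := rot181
alias Lrot185 := rot185
alias Lrot186 := rot186
alias Lrot187 := rot187
alias Lrot188 := rot188
alias Lrot189 := rot189
alias Lrot191 := rot191

section
variable (IH : IHT)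
include IH

theorem f187795 : Led Lsl_bt (LP (LK LD1_c2 LD2_c0 LD3_c34)) = (LP (LK LD1_c1 LD2_c59 LD3_c41)) :=
  Lgr Lrot92 (Lpr_ct (K10.f187489 IH) (Lpr_gt (K10.f54974 IH) (Lpr_cf (K10.f187773 IH) (Lpr_bt (K10.f55912 IH) (Lpr_gt (K9.f55923 IH) (Lpr_ct (K9.f181160 IH) (Lpr_gt (K10.f181229 IH) (Lpe (K1.f47089 IH) (Lpr_bt (K14.f47098 IH) (Lpr_gt (K14.f47204 IH) (Lpn (LP (LK LD1_c1 LD2_c59 LD3_c41)))))))))))))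
theorem f187797 : Led Lsl_bf (LP (LK LD1_c2 LD2_c0 LD3_c34)) = (LP (LK LD1_c1 LD2_c59 LD3_c41)) :=
  Lgr Lrot24 (Lpr_bt (f187795 IH) (Lpn (LP (LK LD1_c1 LD2_c59 LD3_c41))))
theorem f201318 : Led Lsl_cf (LP (LK LD1_c2 LD2_c24 LD3_c52)) = (LP (LK LD1_c1 LD2_c59 LD3_c41)) :=
  Lgr Lrot163 (Lpr_gf (K12.f51285 IH) (Lpe (K10.f51047 IH) (Lpe (K12.f183817 IH) (Lpe (K11.f192530 IH) (Lpr_ct (K11.f31626 IH) (Lpr_gf (K11.f201311 IH) (Lpe (K10.f27887 IH) (Lpr_bt (K0.f28607 IH) (Lpe (K14.f187765 IH) (Lpr_bf (f187797 IH) (Lpn (LP (LK LD1_c1 LD2_c59 LD3_c41)))))))))))))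
theorem f256441 : Led Lsl_ef (LP (LK LD1_c1 LD2_c59 LD3_c41)) = (LP (LK LD1_c2 LD2_c3 LD3_c27)) :=
  Lgr Lrot28 (Lpe (f201318 IH) (Lpr_et (K14.f256437 IH) (Lpr_ct (K14.f199576 IH) (Lpn (LP (LK LD1_c2 LD2_c3 LD3_c27))))))
theorem f187838 : Led Lsl_et (LP (LK LD1_c2 LD2_c0 LD3_c34)) = (LP (LK LD1_c4 LD2_c6 LD3_c29)) :=
  Lre_e IH (LK LD1_c2 LD2_c0 LD3_c34) (LK LD1_c4 LD2_c6 LD3_c29) Lrfl Lrfl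
theorem f256453 : Led Lsl_bt (LP (LK LD1_c4 LD2_c6 LD3_c29)) = (LP (LK LD1_c2 LD2_c3 LD3_c27)) :=
  Lgr Lrot119 (Lpe (f187838 IH) (Lpr_bf (f187797 IH) (Lpr_ef (f256441 IH) (Lpn (LP (LK LD1_c2 LD2_c3 LD3_c27))))))
theorem f231819 : Led Lsl_ct (LP (LK LD1_c4 LD2_c6 LD3_c29)) = (LP (LK LD1_c2 LD2_c0 LD3_c36)) :=
  Lre_c IH (LK LD1_c4 LD2_c6 LD3_c29) (LK LD1_c2 LD2_c0 LD3_c36) Lrfl Lrfl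
theorem f199117 : Led Lsl_ct (LP (LK LD1_c8 LD2_c7 LD3_c20)) = (LP (LK LD1_c4 LD2_c3 LD3_c22)) :=
  Lre_c IH (LK LD1_c8 LD2_c7 LD3_c20) (LK LD1_c4 LD2_c3 LD3_c22) Lrfl Lrfl
theorem f256474 : Led Lsl_bf (LP (LK LD1_c4 LD2_c10 LD3_c2)) = (LP (LK LD1_c8 LD2_c7 LD3_c20)) :=
  Lgr Lrot156 (Lpr_gt (K14.f230939 IH) (Lpe (K12.f230930 IH) (Lpe (K12.f230294 IH) (Lpe (K14.f255923 IH) (Lpe (f231819 IH) (Lpr_bt (f256453 IH) (Lpr_gt (K14.f249077 IH) (Lpr_ct (K14.f253419 IH) (Lpr_gt (K14.f256313 IH) (Lpe (f199117 IH) (Lpn (LP (LK LD1_c8 LD2_c7 LD3_c20)))))))))))))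
theorem f165537 : Led Lsl_bt (LP (LK LD1_c2 LD2_c33 LD3_c24)) = (LP (LK LD1_c5 LD2_c13 LD3_c3)) :=
  Lre_b IH (LK LD1_c2 LD2_c33 LD3_c24) (LK LD1_c5 LD2_c13 LD3_c3) Lrfl Lrfl
theorem f256478 : Led Lsl_dt (LP (LK LD1_c5 LD2_c13 LD3_c3)) = (LP (LK LD1_c8 LD2_c7 LD3_c20)) :=
  Lgr Lrot79 (Lpe (f165537 IH) (Lpr_df (K14.f253456 IH) (Lpr_bf (f256474 IH) (Lpn (LP (LK LD1_c8 LD2_c7 LD3_c20))))))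
theorem f256487 : Led Lsl_gf (LP (LK LD1_c5 LD2_c13 LD3_c3)) = (LP (LK LD1_c4 LD2_c27 LD3_c8)) :=
  Lgr Lrot144 (Lpr_dt (f256478 IH) (Lpr_gt (K14.f212475 IH) (Lpe (K12.f47647 IH) (Lpe (K14.f45405 IH) (Lpe (K14.f45406 IH) (Lpe (K14.f254457 IH) (Lpe (K14.f242374 IH) (Lpr_gf (K14.f254459 IH) (Lpe (K14.f46488 IH) (Lpn (LP (LK LD1_c4 LD2_c27 LD3_c8))))))))))))
theorem f192858 : Led Lsl_ct (LP (LK LD1_c5 LD2_c9 LD3_c31)) = (LP (LK LD1_c10 LD2_c9 LD3_c44)) :=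
  Lre_c IH (LK LD1_c5 LD2_c9 LD3_c31) (LK LD1_c10 LD2_c9 LD3_c44) Lrfl Lrfl
theorem f192883 : Led Lsl_gt (LP (LK LD1_c2 LD2_c36 LD3_c47)) = (LP (LK LD1_c5 LD2_c9 LD3_c31)) :=
  Lgr Lrot9 (Lpe (K14.f46487 IH) (Lpr_gt (K9.f44319 IH) (Lpr_ct (K9.f44295 IH) (Lpr_gt (K9.f44245 IH) (Lpr_ct (K14.f179068 IH) (Lpe (K12.f179070 IH) (Lpe (K14.f179071 IH) (Lpr_gf (K14.f192856 IH) (Lpe (f192858 IH) (Lpn (LP (LK LD1_c5 LD2_c9 LD3_c31))))))))))))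
theorem f256489 : Led Lsl_dt (LP (LK LD1_c5 LD2_c9 LD3_c31)) = (LP (LK LD1_c4 LD2_c3 LD3_c22)) :=
  Lgr Lrot105 (Lpe (f192883 IH) (Lpe (K14.f46487 IH) (Lpe (K9.f9092 IH) (Lpe (K1.f9071 IH) (Lpe (K10.f46484 IH) (Lpr_dt (K14.f46447 IH) (Lpe (f256487 IH) (Lpr_dt (f256478 IH) (Lpe (K14.f199116 IH) (Lpn (LP (LK LD1_c4 LD2_c3 LD3_c22))))))))))))
theorem f183916 : Led Lsl_ct (LP (LK LD1_c2 LD2_c31 LD3_c53)) = (LP (LK LD1_c5 LD2_c9 LD3_c32)) :=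
  Lre_c IH (LK LD1_c2 LD2_c31 LD3_c53) (LK LD1_c5 LD2_c9 LD3_c32) Lrfl Lrfl
theorem f183917 : Led Lsl_gt (LP (LK LD1_c5 LD2_c9 LD3_c32)) = (LP (LK LD1_c10 LD2_c9 LD3_c45)) :=
  Lre_g IH (LK LD1_c5 LD2_c9 LD3_c32) (LK LD1_c10 LD2_c9 LD3_c45) Lrfl Lrfl
theorem f166696 : Led Lsl_bt (LP (LK LD1_c0 LD2_c11 LD3_c50)) = (LP (LK LD1_c0 LD2_c26 LD3_c34)) :=
  Lre_b IH (LK LD1_c0 LD2_c11 LD3_c50) (LK LD1_c0 LD2_c26 LD3_c34) Lrfl Lrfl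
theorem f199147 : Led Lsl_ct (LP (LK LD1_c1 LD2_c58 LD3_c39)) = (LP (LK LD1_c0 LD2_c58 LD3_c41)) :=
  Lgr Lrot83 (Lpe (K11.f198941 IH) (Lpr_cf (K12.f199142 IH) (Lpe (f166696 IH) (Lpe (K12.f53184 IH) (Lpe (K14.f166682 IH) (Lpn (LP (LK LD1_c0 LD2_c58 LD3_c41))))))))
theorem f53191 : Led Lsl_gt (LP (LK LD1_c0 LD2_c58 LD3_c41)) = (LP (LK LD1_c2 LD2_c3 LD3_c27)) :=
  Lre_g IH (LK LD1_c0 LD2_c58 LD3_c41) (LK LD1_c2 LD2_c3 LD3_c27) Lrfl Lrfl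
theorem f166891 : Led Lsl_ct (LP (LK LD1_c2 LD2_c3 LD3_c27)) = (LP (LK LD1_c4 LD2_c12 LD3_c32)) :=
  Lre_c IH (LK LD1_c2 LD2_c3 LD3_c27) (LK LD1_c4 LD2_c12 LD3_c32) Lrfl Lrfl
theorem f256491 : Led Lsl_ct (LP (LK LD1_c10 LD2_c9 LD3_c45)) = (LP (LK LD1_c8 LD2_c24 LD3_c45)) :=
  Lgr Lrot151 (Lpe (f183917 IH) (Lpe (f183916 IH) (Lpe (K14.f165488 IH) (Lpr_dt (f256489 IH) (Lpr_gt (K14.f199019 IH) (Lpr_ct (f199147 IH) (Lpr_gt (f53191 IH) (Lpr_ct (f166891 IH) (Lpr_dt (K14.f199575 IH) (Lpn (LP (LK LD1_c8 LD2_c24 LD3_c45))))))))))))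
theorem f256323 : Led Lsl_df (LP (LK LD1_c10 LD2_c34 LD3_c20)) = (LP (LK LD1_c10 LD2_c9 LD3_c44)) :=
  Lgr Lrot38 (Lpr_dt (K14.f256320 IH) (Lpn (LP (LK LD1_c10 LD2_c9 LD3_c44))))
theorem f192889 : Led Lsl_ct (LP (LK LD1_c5 LD2_c20 LD3_c15)) = (LP (LK LD1_c2 LD2_c36 LD3_c47)) :=
  Lre_c IH (LK LD1_c5 LD2_c20 LD3_c15) (LK LD1_c2 LD2_c36 LD3_c47) Lrfl Lrfl
theorem f215815 : Led Lsl_gt (LP (LK LD1_c10 LD2_c33 LD3_c54)) = (LP (LK LD1_c5 LD2_c21 LD3_c49)) :=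
  Lre_g IH (LK LD1_c10 LD2_c33 LD3_c54) (LK LD1_c5 LD2_c21 LD3_c49) Lrfl Lrfl
theorem f198902 : Led Lsl_ct (LP (LK LD1_c2 LD2_c37 LD3_c28)) = (LP (LK LD1_c1 LD2_c15 LD3_c46)) :=
  Lre_c IH (LK LD1_c2 LD2_c37 LD3_c28) (LK LD1_c1 LD2_c15 LD3_c46) Lrfl Lrfl
theorem f256311 : Led Lsl_dt (LP (LK LD1_c10 LD2_c9 LD3_c45)) = (LP (LK LD1_c10 LD2_c33 LD3_c54)) :=
  Lgr Lrot57 (Lpe (f183917 IH) (Lpe (f183916 IH) (Lpr_gt (K9.f183913 IH) (Lpr_dt (K9.f183918 IH) (Lpe (K14.f256298 IH) (Lpr_dt (K14.f256304 IH) (Lpe (f198902 IH) (Lpe (K14.f189364 IH) (Lpe (f215815 IH) (Lpn (LP (LK LD1_c10 LD2_c33 LD3_c54))))))))))))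
theorem f256343 : Led Lsl_gf (LP (LK LD1_c5 LD2_c20 LD3_c15)) = (LP (LK LD1_c10 LD2_c9 LD3_c45)) :=
  Lgr Lrot147 (Lpr_ct (f192889 IH) (Lpr_gt (f192883 IH) (Lpr_ct (f192858 IH) (Lpe (K14.f256320 IH) (Lpr_cf (K14.f256329 IH) (Lpe (K14.f190626 IH) (Lpr_cf (K14.f253383 IH) (Lpe (f215815 IH) (Lpe (f256311 IH) (Lpn (LP (LK LD1_c10 LD2_c9 LD3_c45))))))))))))
theorem f256345 : Led Lsl_df (LP (LK LD1_c10 LD2_c9 LD3_c45)) = (LP (LK LD1_c10 LD2_c33 LD3_c54)) :=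
  Lgr Lrot155 (Lpe (f256343 IH) (Lpr_ct (f192889 IH) (Lpr_gt (f192883 IH) (Lpr_ct (f192858 IH) (Lpe (f256323 IH) (Lpr_cf (K14.f256329 IH) (Lpe (K14.f190626 IH) (Lpr_cf (K14.f253383 IH) (Lpe (f215815 IH) (Lpn (LP (LK LD1_c10 LD2_c33 LD3_c54))))))))))))
theorem f256315 : Led Lsl_gf (LP (LK LD1_c4 LD2_c12 LD3_c32)) = (LP (LK LD1_c4 LD2_c21 LD3_c5)) :=
  Lgr Lrot179 (Lpr_ct (K14.f199576 IH) (Lpr_gt (K14.f249077 IH) (Lpr_ct (K14.f253419 IH) (Lpr_dt (K14.f256304 IH) (Lpe (f198902 IH) (Lpe (K11.f191211 IH) (Lpe (K11.f194381 IH) (Lpe (K11.f191755 IH) (Lpr_dt (K10.f191751 IH) (Lpn (LP (LK LD1_c4 LD2_c21 LD3_c5))))))))))))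
theorem f256550 : Led Lsl_gf (LP (LK LD1_c10 LD2_c33 LD3_c54)) = (LP (LK LD1_c5 LD2_c21 LD3_c55)) :=
  Lgr Lrot154 (Lpe (f256345 IH) (Lpr_ct (f256491 IH) (Lpe (K14.f199575 IH) (Lpr_gf (f256315 IH) (Lpe (K10.f191751 IH) (Lpr_gf (K10.f191753 IH) (Lpe (K10.f189273 IH) (Lpr_gt (K11.f198931 IH) (Lpr_dt (K14.f198873 IH) (Lpn (LP (LK LD1_c5 LD2_c21 LD3_c55))))))))))))
theorem f254307 : Led Lsl_at (LP (LK LD1_c10 LD2_c30 LD3_c33)) = (LP (LK LD1_c5 LD2_c21 LD3_c49)) :=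
  Lgr Lrot51 (Lpe (K14.f231410 IH) (Lpr_af (K14.f254297 IH) (Lpe (K14.f189364 IH) (Lpn (LP (LK LD1_c5 LD2_c21 LD3_c49))))))
theorem f256557 : Led Lsl_ff (LP (LK LD1_c10 LD2_c30 LD3_c33)) = (LP (LK LD1_c5 LD2_c21 LD3_c55)) :=
  Lgr Lrot52 (Lpr_at (f254307 IH) (Lpe (f215815 IH) (Lpr_gf (f256550 IH) (Lpn (LP (LK LD1_c5 LD2_c21 LD3_c55))))))
theorem f256567 : Led Lsl_ft (LP (LK LD1_c5 LD2_c20 LD3_c17)) = (LP (LK LD1_c2 LD2_c37 LD3_c30)) :=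
  Lgr Lrot54 (Lpe (K14.f231409 IH) (Lpr_ff (f256557 IH) (Lpe (K14.f198873 IH) (Lpn (LP (LK LD1_c2 LD2_c37 LD3_c30))))))
theorem f231415 : Led Lsl_et (LP (LK LD1_c10 LD2_c30 LD3_c34)) = (LP (LK LD1_c5 LD2_c20 LD3_c17)) :=
  Lre_e IH (LK LD1_c10 LD2_c30 LD3_c34) (LK LD1_c5 LD2_c20 LD3_c17) Lrfl Lrfl
theorem f256562 : Led Lsl_et (LP (LK LD1_c2 LD2_c37 LD3_c30)) = (LP (LK LD1_c5 LD2_c21 LD3_c56)) :=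
  Lre_e IH (LK LD1_c2 LD2_c37 LD3_c30) (LK LD1_c5 LD2_c21 LD3_c56) Lrfl Lrfl
theorem f256576 : Led Lsl_ft (LP (LK LD1_c5 LD2_c21 LD3_c56)) = (LP (LK LD1_c10 LD2_c34 LD3_c11)) :=
  Lre_f IH (LK LD1_c5 LD2_c21 LD3_c56) (LK LD1_c10 LD2_c34 LD3_c11) Lrfl Lrfl
theorem f256577 : Led Lsl_ef (LP (LK LD1_c19 LD2_c2 LD3_c45)) = (LP (LK LD1_c10 LD2_c34 LD3_c11)) :=
  Lgr Lrot21 (Lpr_ft (K14.f254320 IH) (Lpr_et (f231415 IH) (Lpr_ft (f256567 IH) (Lpr_et (f256562 IH) (Lpr_ft (f256576 IH) (Lpn (LP (LK LD1_c10 LD2_c34 LD3_c11))))))))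
theorem f256586 : Led Lsl_et (LP (LK LD1_c19 LD2_c2 LD3_c45)) = (LP (LK LD1_c10 LD2_c34 LD3_c11)) :=
  Lgr Lrot87 (Lpr_ef (f256577 IH) (Lpn (LP (LK LD1_c10 LD2_c34 LD3_c11))))
theorem f231436 : Led Lsl_ct (LP (LK LD1_c10 LD2_c30 LD3_c36)) = (LP (LK LD1_c19 LD2_c2 LD3_c45)) :=
  Lre_c IH (LK LD1_c10 LD2_c30 LD3_c36) (LK LD1_c19 LD2_c2 LD3_c45) Lrfl Lrfl
theorem f198971 : Led Lsl_ct (LP (LK LD1_c10 LD2_c34 LD3_c11)) = (LP (LK LD1_c5 LD2_c21 LD3_c59)) :=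
  Lre_c IH (LK LD1_c10 LD2_c34 LD3_c11) (LK LD1_c5 LD2_c21 LD3_c59) Lrfl Lrfl
theorem f256590 : Led Lsl_ef (LP (LK LD1_c10 LD2_c30 LD3_c36)) = (LP (LK LD1_c5 LD2_c21 LD3_c59)) :=
  Lgr Lrot28 (Lpr_ct (f231436 IH) (Lpr_et (f256586 IH) (Lpr_ct (f198971 IH) (Lpn (LP (LK LD1_c5 LD2_c21 LD3_c59))))))
theorem f226919 : Led Lsl_et (LP (LK LD1_c5 LD2_c20 LD3_c18)) = (LP (LK LD1_c2 LD2_c36 LD3_c48)) :=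
  Lre_e IH (LK LD1_c5 LD2_c20 LD3_c18) (LK LD1_c2 LD2_c36 LD3_c48) Lrfl Lrfl
theorem f231421 : Led Lsl_et (LP (LK LD1_c2 LD2_c7 LD3_c52)) = (LP (LK LD1_c4 LD2_c20 LD3_c47)) :=
  Lre_e IH (LK LD1_c2 LD2_c7 LD3_c52) (LK LD1_c4 LD2_c20 LD3_c47) Lrfl Lrfl
theorem f231422 : Led Lsl_bf (LP (LK LD1_c5 LD2_c20 LD3_c18)) = (LP (LK LD1_c4 LD2_c20 LD3_c47)) :=
  Lgr Lrot96 (Lpr_et (f226919 IH) (Lpr_bt (K13.f231413 IH) (Lpr_et (f231421 IH) (Lpn (LP (LK LD1_c4 LD2_c20 LD3_c47))))))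
theorem f231428 : Led Lsl_ft (LP (LK LD1_c5 LD2_c20 LD3_c18)) = (LP (LK LD1_c10 LD2_c30 LD3_c36)) :=
  Lre_f IH (LK LD1_c5 LD2_c20 LD3_c18) (LK LD1_c10 LD2_c30 LD3_c36) Lrfl Lrfl
theorem f231429 : Led Lsl_ft (LP (LK LD1_c8 LD2_c39 LD3_c14)) = (LP (LK LD1_c4 LD2_c20 LD3_c47)) :=
  Lre_f IH (LK LD1_c8 LD2_c39 LD3_c14) (LK LD1_c4 LD2_c20 LD3_c47) Lrfl Lrfl
theorem f231430 : Led Lsl_bt (LP (LK LD1_c10 LD2_c30 LD3_c36)) = (LP (LK LD1_c8 LD2_c39 LD3_c14)) :=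
  Lgr Lrot35 (Lpe (f231428 IH) (Lpr_bf (f231422 IH) (Lpe (f231429 IH) (Lpn (LP (LK LD1_c8 LD2_c39 LD3_c14))))))
theorem f198968 : Led Lsl_bt (LP (LK LD1_c8 LD2_c7 LD3_c43)) = (LP (LK LD1_c5 LD2_c21 LD3_c59)) :=
  Lgr Lrot127 (Lpr_bf (K12.f198960 IH) (Lpn (LP (LK LD1_c5 LD2_c21 LD3_c59))))
theorem f256598 : Led Lsl_et (LP (LK LD1_c8 LD2_c39 LD3_c14)) = (LP (LK LD1_c8 LD2_c7 LD3_c43)) :=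
  Lgr Lrot74 (Lpe (f231430 IH) (Lpr_ef (f256590 IH) (Lpe (f198968 IH) (Lpn (LP (LK LD1_c8 LD2_c7 LD3_c43))))))
theorem f231438 : Led Lsl_ft (LP (LK LD1_c4 LD2_c20 LD3_c47)) = (LP (LK LD1_c8 LD2_c39 LD3_c14)) :=
  Lre_f IH (LK LD1_c4 LD2_c20 LD3_c47) (LK LD1_c8 LD2_c39 LD3_c14) Lrfl Lrfl
theorem f28978 : Led Lsl_et (LP (LK LD1_c4 LD2_c3 LD3_c32)) = (LP (LK LD1_c1 LD2_c58 LD3_c45)) :=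
  Lre_e IH (LK LD1_c4 LD2_c3 LD3_c32) (LK LD1_c1 LD2_c58 LD3_c45) Lrfl Lrfl
theorem f256602 : Led Lsl_ff (LP (LK LD1_c2 LD2_c7 LD3_c52)) = (LP (LK LD1_c1 LD2_c58 LD3_c45)) :=
  Lgr Lrot72 (Lpr_et (f231421 IH) (Lpr_ft (f231438 IH) (Lpr_et (f256598 IH) (Lpr_ft (K12.f198958 IH) (Lpr_et (f28978 IH) (Lpn (LP (LK LD1_c1 LD2_c58 LD3_c45))))))))
theorem f256606 : Led Lsl_ft (LP (LK LD1_c2 LD2_c7 LD3_c52)) = (LP (LK LD1_c1 LD2_c58 LD3_c45)) :=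
  Lgr Lrot48 (Lpr_ff (f256602 IH) (Lpn (LP (LK LD1_c1 LD2_c58 LD3_c45))))
theorem f256610 : Led Lsl_af (LP (LK LD1_c2 LD2_c7 LD3_c53)) = (LP (LK LD1_c1 LD2_c58 LD3_c45)) :=
  Lgr Lrot31 (Lpr_gf (K10.f31421 IH) (Lpe (K13.f31414 IH) (Lpr_ft (f256606 IH) (Lpn (LP (LK LD1_c1 LD2_c58 LD3_c45))))))
theorem f256616 : Led Lsl_at (LP (LK LD1_c4 LD2_c20 LD3_c48)) = (LP (LK LD1_c4 LD2_c3 LD3_c32)) :=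
  Lgr Lrot80 (Lpe (K10.f187932 IH) (Lpr_af (f256610 IH) (Lpe (f28978 IH) (Lpn (LP (LK LD1_c4 LD2_c3 LD3_c32))))))
theorem f199022 : Led Lsl_ft (LP (LK LD1_c4 LD2_c3 LD3_c32)) = (LP (LK LD1_c8 LD2_c7 LD3_c43)) :=
  Lre_f IH (LK LD1_c4 LD2_c3 LD3_c32) (LK LD1_c8 LD2_c7 LD3_c43) Lrfl Lrfl
theorem f256622 : Led Lsl_af (LP (LK LD1_c8 LD2_c39 LD3_c17)) = (LP (LK LD1_c8 LD2_c7 LD3_c43)) :=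
  Lgr Lrot45 (Lpr_ft (K10.f187940 IH) (Lpr_at (f256616 IH) (Lpr_ft (f199022 IH) (Lpn (LP (LK LD1_c8 LD2_c7 LD3_c43))))))
theorem f198991 : Led Lsl_dt (LP (LK LD1_c4 LD2_c3 LD3_c33)) = (LP (LK LD1_c8 LD2_c7 LD3_c43)) :=
  Lre_d IH (LK LD1_c4 LD2_c3 LD3_c33) (LK LD1_c8 LD2_c7 LD3_c43) Lrfl Lrfl
theorem f256630 : Led Lsl_at (LP (LK LD1_c4 LD2_c52 LD3_c50)) = (LP (LK LD1_c4 LD2_c3 LD3_c33)) :=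
  Lgr Lrot51 (Lpe (K10.f187962 IH) (Lpr_af (f256622 IH) (Lpe (f198991 IH) (Lpn (LP (LK LD1_c4 LD2_c3 LD3_c33))))))
theorem f170734 : Led Lsl_ct (LP (LK LD1_c9 LD2_c37 LD3_c37)) = (LP (LK LD1_c4 LD2_c52 LD3_c50)) :=
  Lre_c IH (LK LD1_c9 LD2_c37 LD3_c37) (LK LD1_c4 LD2_c52 LD3_c50) Lrfl Lrfl
theorem f256636 : Led Lsl_ct (LP (LK LD1_c4 LD2_c3 LD3_c33)) = (LP (LK LD1_c8 LD2_c7 LD3_c35)) :=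
  Lre_c IH (LK LD1_c4 LD2_c3 LD3_c33) (LK LD1_c8 LD2_c7 LD3_c35) Lrfl Lrfl
theorem f256637 : Led Lsl_af (LP (LK LD1_c9 LD2_c37 LD3_c37)) = (LP (LK LD1_c8 LD2_c7 LD3_c35)) :=
  Lgr Lrot68 (Lpr_ct (f170734 IH) (Lpr_at (f256630 IH) (Lpr_ct (f256636 IH) (Lpn (LP (LK LD1_c8 LD2_c7 LD3_c35))))))
theorem f256652 : Led Lsl_ft (LP (LK LD1_c9 LD2_c37 LD3_c37)) = (LP (LK LD1_c4 LD2_c52 LD3_c47)) :=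
  Lre_f IH (LK LD1_c9 LD2_c37 LD3_c37) (LK LD1_c4 LD2_c52 LD3_c47) Lrfl Lrfl
theorem f256653 : Led Lsl_ft (LP (LK LD1_c4 LD2_c3 LD3_c29)) = (LP (LK LD1_c8 LD2_c7 LD3_c35)) :=
  Lre_f IH (LK LD1_c4 LD2_c3 LD3_c29) (LK LD1_c8 LD2_c7 LD3_c35) Lrfl Lrfl
theorem f256654 : Led Lsl_at (LP (LK LD1_c4 LD2_c52 LD3_c47)) = (LP (LK LD1_c4 LD2_c3 LD3_c29)) :=
  Lgr Lrot66 (Lpe (f256652 IH) (Lpr_af (f256637 IH) (Lpe (f256653 IH) (Lpn (LP (LK LD1_c4 LD2_c3 LD3_c29))))))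
theorem f244045 : Led Lsl_et (LP (LK LD1_c2 LD2_c24 LD3_c7)) = (LP (LK LD1_c4 LD2_c52 LD3_c47)) :=
  Lre_e IH (LK LD1_c2 LD2_c24 LD3_c7) (LK LD1_c4 LD2_c52 LD3_c47) Lrfl Lrfl
theorem f200921 : Led Lsl_et (LP (LK LD1_c4 LD2_c3 LD3_c29)) = (LP (LK LD1_c1 LD2_c58 LD3_c42)) :=
  Lre_e IH (LK LD1_c4 LD2_c3 LD3_c29) (LK LD1_c1 LD2_c58 LD3_c42) Lrfl Lrfl
theorem f256667 : Led Lsl_af (LP (LK LD1_c2 LD2_c24 LD3_c7)) = (LP (LK LD1_c1 LD2_c58 LD3_c42)) :=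
  Lgr Lrot50 (Lpr_et (f244045 IH) (Lpr_at (f256654 IH) (Lpr_et (f200921 IH) (Lpn (LP (LK LD1_c1 LD2_c58 LD3_c42))))))
theorem f243938 : Led Lsl_bt (LP (LK LD1_c2 LD2_c37 LD3_c40)) = (LP (LK LD1_c2 LD2_c6 LD3_c59)) :=
  Lgr Lrot127 (Lpr_bf (K13.f243936 IH) (Lpn (LP (LK LD1_c2 LD2_c6 LD3_c59))))
theorem f243956 : Led Lsl_dt (LP (LK LD1_c2 LD2_c6 LD3_c59)) = (LP (LK LD1_c1 LD2_c59 LD3_c13)) :=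
  Lgr Lrot79 (Lpe (f243938 IH) (Lpr_df (K14.f243954 IH) (Lpe (K13.f211408 IH) (Lpn (LP (LK LD1_c1 LD2_c59 LD3_c13))))))
theorem f238498 : Led Lsl_dt (LP (LK LD1_c4 LD2_c4 LD3_c20)) = (LP (LK LD1_c2 LD2_c45 LD3_c27)) :=
  Lgr Lrot42 (Lpr_df (K13.f238331 IH) (Lpn (LP (LK LD1_c2 LD2_c45 LD3_c27))))
theorem f8097 : Led Lsl_dt (LP (LK LD1_c0 LD2_c27 LD3_c0)) = (LP (LK LD1_c0 LD2_c59 LD3_c19)) :=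
  Lre_d IH (LK LD1_c0 LD2_c27 LD3_c0) (LK LD1_c0 LD2_c59 LD3_c19) Lrfl Lrfl
theorem f200426 : Led Lsl_gf (LP (LK LD1_c1 LD2_c19 LD3_c6)) = (LP (LK LD1_c0 LD2_c59 LD3_c19)) :=
  Lgr Lrot134 (Lpr_df (K12.f200412 IH) (Lpr_et (K12.f187100 IH) (Lpr_gt (K12.f187085 IH) (Lpe (K0.f2429 IH) (Lpe (K0.f2432 IH) (Lpe (K0.f8069 IH) (Lpe (K0.f8094 IH) (Lpr_et (K12.f8095 IH) (Lpr_gt (K12.f8096 IH) (Lpr_dt (f8097 IH) (Lpn (LP (LK LD1_c0 LD2_c59 LD3_c19)))))))))))))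
theorem f200428 : Led Lsl_ct (LP (LK LD1_c2 LD2_c4 LD3_c36)) = (LP (LK LD1_c0 LD2_c59 LD3_c19)) :=
  Lre_c IH (LK LD1_c2 LD2_c4 LD3_c36) (LK LD1_c0 LD2_c59 LD3_c19) Lrfl Lrfl
theorem f243918 : Led Lsl_gt (LP (LK LD1_c2 LD2_c45 LD3_c29)) = (LP (LK LD1_c2 LD2_c4 LD3_c36)) :=
  Lgr Lrot146 (Lpr_dt (K13.f243712 IH) (Lpe (K12.f226776 IH) (Lpr_ct (K12.f211474 IH) (Lpr_gt (K12.f200702 IH) (Lpr_ct (K12.f200703 IH) (Lpr_dt (f238498 IH) (Lpe (K12.f196937 IH) (Lpr_gf (f200426 IH) (Lpe (f200428 IH) (Lpn (LP (LK LD1_c2 LD2_c4 LD3_c36))))))))))))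
theorem f196929 : Led Lsl_ct (LP (LK LD1_c2 LD2_c4 LD3_c43)) = (LP (LK LD1_c0 LD2_c59 LD3_c22)) :=
  Lre_c IH (LK LD1_c2 LD2_c4 LD3_c43) (LK LD1_c0 LD2_c59 LD3_c22) Lrfl Lrfl
theorem f197268 : Led Lsl_ct (LP (LK LD1_c2 LD2_c4 LD3_c41)) = (LP (LK LD1_c0 LD2_c59 LD3_c21)) :=
  Lre_c IH (LK LD1_c2 LD2_c4 LD3_c41) (LK LD1_c0 LD2_c59 LD3_c21) Lrfl Lrfl
theorem f200429 : Led Lsl_ct (LP (LK LD1_c0 LD2_c59 LD3_c19)) = (LP (LK LD1_c2 LD2_c4 LD3_c36)) :=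
  Lre_c IH (LK LD1_c0 LD2_c59 LD3_c19) (LK LD1_c2 LD2_c4 LD3_c36) Lrfl Lrfl
theorem f228258 : Led Lsl_df (LP (LK LD1_c2 LD2_c4 LD3_c43)) = (LP (LK LD1_c2 LD2_c4 LD3_c36)) :=
  Lgr Lrot43 (Lpr_ct (f196929 IH) (Lpe (K11.f211263 IH) (Lpr_ct (K11.f211242 IH) (Lpr_dt (K11.f52250 IH) (Lpe (K12.f182180 IH) (Lpr_dt (K12.f194685 IH) (Lpr_ct (K12.f178081 IH) (Lpr_dt (K12.f228154 IH) (Lpr_ct (f197268 IH) (Lpr_dt (K13.f196934 IH) (Lpr_ct (K12.f182375 IH) (Lpr_dt (K11.f52249 IH) (Lpe (K12.f216382 IH) (Lpr_dt (f8097 IH) (Lpr_ct (f200429 IH) (Lpn (LP (LK LD1_c2 LD2_c4 LD3_c36))))))))))))))))))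
theorem f211262 : Led Lsl_ct (LP (LK LD1_c0 LD2_c59 LD3_c22)) = (LP (LK LD1_c2 LD2_c4 LD3_c43)) :=
  Lre_c IH (LK LD1_c0 LD2_c59 LD3_c22) (LK LD1_c2 LD2_c4 LD3_c43) Lrfl Lrfl
theorem f238333 : Led Lsl_gt (LP (LK LD1_c2 LD2_c4 LD3_c43)) = (LP (LK LD1_c1 LD2_c57 LD3_c23)) :=
  Lgr Lrot150 (Lpe (f211262 IH) (Lpr_gf (K13.f238329 IH) (Lpe (K10.f182187 IH) (Lpr_gt (K10.f182178 IH) (Lpr_ct (K9.f182174 IH) (Lpr_gt (K9.f28566 IH) (Lpr_ct (K12.f52259 IH) (Lpe (K12.f52241 IH) (Lpe (K10.f52242 IH) (Lpn (LP (LK LD1_c1 LD2_c57 LD3_c23))))))))))))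
theorem f243933 : Led Lsl_gf (LP (LK LD1_c1 LD2_c9 LD3_c5)) = (LP (LK LD1_c2 LD2_c6 LD3_c59)) :=
  Lgr Lrot144 (Lpr_dt (K10.f2881 IH) (Lpr_gt (K9.f180241 IH) (Lpr_dt (K9.f27966 IH) (Lpe (K10.f52236 IH) (Lpr_df (K10.f52247 IH) (Lpe (f238333 IH) (Lpr_df (f228258 IH) (Lpe (f243918 IH) (Lpr_cf (K13.f243920 IH) (Lpn (LP (LK LD1_c2 LD2_c6 LD3_c59))))))))))))
theorem f216417 : Led Lsl_gt (LP (LK LD1_c0 LD2_c27 LD3_c3)) = (LP (LK LD1_c0 LD2_c32 LD3_c36)) :=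
  Lgr Lrot9 (Lpe (K11.f201062 IH) (Lpr_gt (K11.f28215 IH) (Lpr_ct (K10.f52668 IH) (Lpr_gt (K12.f8096 IH) (Lpr_ct (K12.f216369 IH) (Lpe (K11.f52249 IH) (Lpe (K12.f182375 IH) (Lpr_gf (K12.f216413 IH) (Lpe (K12.f168329 IH) (Lpn (LP (LK LD1_c0 LD2_c32 LD3_c36))))))))))))
theorem f243960 : Led Lsl_gt (LP (LK LD1_c2 LD2_c24 LD3_c7)) = (LP (LK LD1_c4 LD2_c4 LD3_c20)) :=
  Lgr Lrot187 (Lpe (K13.f170711 IH) (Lpr_gf (f243933 IH) (Lpr_dt (f243956 IH) (Lpe (K12.f201070 IH) (Lpr_ct (K11.f201069 IH) (Lpr_gt (f216417 IH) (Lpr_ct (K12.f168329 IH) (Lpe (K12.f223689 IH) (Lpe (K12.f200711 IH) (Lpn (LP (LK LD1_c4 LD2_c4 LD3_c20))))))))))))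
theorem f193328 : Led Lsl_ct (LP (LK LD1_c1 LD2_c59 LD3_c20)) = (LP (LK LD1_c0 LD2_c56 LD3_c29)) :=
  Lre_c IH (LK LD1_c1 LD2_c59 LD3_c20) (LK LD1_c0 LD2_c56 LD3_c29) Lrfl Lrfl
theorem f224867 : Led Lsl_dt (LP (LK LD1_c1 LD2_c59 LD3_c0)) = (LP (LK LD1_c1 LD2_c59 LD3_c20)) :=
  Lgr Lrot173 (Lpr_cf (K10.f196399 IH) (Lpr_df (K12.f224862 IH) (Lpe (K12.f53080 IH) (Lpe (K9.f28913 IH) (Lpe (K11.f53023 IH) (Lpe (K12.f200698 IH) (Lpe (K12.f211474 IH) (Lpr_df (K13.f223733 IH) (Lpe (K11.f200723 IH) (Lpe (K13.f189889 IH) (Lpe (K11.f53102 IH) (Lpe (K10.f28161 IH) (Lpe (K11.f53081 IH) (Lpe (K12.f192822 IH) (Lpe (f193328 IH) (Lpn (LP (LK LD1_c1 LD2_c59 LD3_c20))))))))))))))))))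
theorem f244007 : Led Lsl_dt (LP (LK LD1_c2 LD2_c24 LD3_c7)) = (LP (LK LD1_c4 LD2_c1 LD3_c7)) :=
  Lgr Lrot6 (Lpr_gt (f243960 IH) (Lpr_ct (K12.f200711 IH) (Lpr_gt (K12.f223666 IH) (Lpr_ct (K13.f193327 IH) (Lpe (f224867 IH) (Lpr_cf (K10.f196399 IH) (Lpr_gf (K12.f223735 IH) (Lpe (K0.f27679 IH) (Lpr_gf (K12.f216323 IH) (Lpn (LP (LK LD1_c4 LD2_c1 LD3_c7))))))))))))
theorem f200701 : Led Lsl_ct (LP (LK LD1_c4 LD2_c4 LD3_c23)) = (LP (LK LD1_c1 LD2_c59 LD3_c7)) :=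
  Lre_c IH (LK LD1_c4 LD2_c4 LD3_c23) (LK LD1_c1 LD2_c59 LD3_c7) Lrfl Lrfl
theorem f244042 : Led Lsl_gf (LP (LK LD1_c2 LD2_c24 LD3_c7)) = (LP (LK LD1_c4 LD2_c4 LD3_c23)) :=
  Lgr Lrot144 (Lpr_dt (f244007 IH) (Lpe (K12.f216323 IH) (Lpe (K10.f52576 IH) (Lpe (K10.f52654 IH) (Lpe (K10.f27461 IH) (Lpe (K11.f200694 IH) (Lpe (K12.f200698 IH) (Lpe (K12.f200699 IH) (Lpe (f200701 IH) (Lpn (LP (LK LD1_c4 LD2_c4 LD3_c23))))))))))))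
theorem f200881 : Led Lsl_dt (LP (LK LD1_c1 LD2_c58 LD3_c42)) = (LP (LK LD1_c1 LD2_c58 LD3_c60)) :=
  Lgr Lrot42 (Lpr_df (K11.f200820 IH) (Lpn (LP (LK LD1_c1 LD2_c58 LD3_c60))))
theorem f196939 : Led Lsl_gf (LP (LK LD1_c1 LD2_c58 LD3_c42)) = (LP (LK LD1_c2 LD2_c45 LD3_c24)) :=
  Lgr Lrot104 (Lpr_ct (K11.f28918 IH) (Lpe (K9.f28822 IH) (Lpr_cf (K11.f193331 IH) (Lpr_gf (K9.f166429 IH) (Lpe (K10.f52669 IH) (Lpr_gf (K10.f196932 IH) (Lpe (K12.f182182 IH) (Lpr_gt (K13.f179411 IH) (Lpr_ct (K13.f196938 IH) (Lpn (LP (LK LD1_c2 LD2_c45 LD3_c24))))))))))))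
theorem f187916 : Led Lsl_df (LP (LK LD1_c1 LD2_c0 LD3_c32)) = (LP (LK LD1_c1 LD2_c57 LD3_c22)) :=
  Lgr Lrot38 (Lpr_dt (K10.f187913 IH) (Lpn (LP (LK LD1_c1 LD2_c57 LD3_c22))))
theorem f224873 : Led Lsl_cf (LP (LK LD1_c0 LD2_c58 LD3_c48)) = (LP (LK LD1_c1 LD2_c59 LD3_c14)) :=
  Lgr Lrot169 (Lpr_gt (K12.f211445 IH) (Lpr_ct (K10.f170294 IH) (Lpr_df (f187916 IH) (Lpe (K12.f52271 IH) (Lpe (K12.f223586 IH) (Lpe (K10.f52654 IH) (Lpr_gf (K12.f200758 IH) (Lpr_df (K12.f224862 IH) (Lpr_gt (K13.f197267 IH) (Lpn (LP (LK LD1_c1 LD2_c59 LD3_c14))))))))))))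
theorem f200418 : Led Lsl_dt (LP (LK LD1_c1 LD2_c19 LD3_c6)) = (LP (LK LD1_c1 LD2_c1 LD3_c36)) :=
  Lgr Lrot42 (Lpr_df (K12.f200412 IH) (Lpn (LP (LK LD1_c1 LD2_c1 LD3_c36))))
theorem f200700 : Led Lsl_ct (LP (LK LD1_c1 LD2_c59 LD3_c7)) = (LP (LK LD1_c4 LD2_c4 LD3_c23)) :=
  Lre_c IH (LK LD1_c1 LD2_c59 LD3_c7) (LK LD1_c4 LD2_c4 LD3_c23) Lrfl Lrfl
theorem f243709 : Led Lsl_df (LP (LK LD1_c2 LD2_c45 LD3_c24)) = (LP (LK LD1_c4 LD2_c4 LD3_c23)) :=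
  Lgr Lrot43 (Lpr_ct (K13.f179412 IH) (Lpr_dt (K13.f243658 IH) (Lpe (f224873 IH) (Lpr_dt (K12.f178487 IH) (Lpr_ct (K12.f168329 IH) (Lpe (K12.f223689 IH) (Lpr_ct (K12.f200703 IH) (Lpr_dt (f238498 IH) (Lpr_ct (K12.f196936 IH) (Lpr_dt (f200418 IH) (Lpr_ct (K12.f166452 IH) (Lpe (K11.f166444 IH) (Lpr_ct (K11.f166451 IH) (Lpe (K12.f226885 IH) (Lpr_ct (f200700 IH) (Lpn (LP (LK LD1_c4 LD2_c4 LD3_c23))))))))))))))))))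
theorem f243958 : Led Lsl_gt (LP (LK LD1_c2 LD2_c6 LD3_c61)) = (LP (LK LD1_c4 LD2_c4 LD3_c23)) :=
  Lgr Lrot94 (Lpe (K12.f200714 IH) (Lpr_gt (K13.f200712 IH) (Lpr_dt (f243956 IH) (Lpe (K12.f201070 IH) (Lpr_dt (K11.f211278 IH) (Lpe (K11.f53032 IH) (Lpe (f200881 IH) (Lpr_gf (f196939 IH) (Lpr_df (f243709 IH) (Lpn (LP (LK LD1_c4 LD2_c4 LD3_c23))))))))))))
theorem f256681 : Led Lsl_ft (LP (LK LD1_c2 LD2_c6 LD3_c61)) = (LP (LK LD1_c1 LD2_c58 LD3_c42)) :=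
  Lgr Lrot2 (Lpr_gt (f243958 IH) (Lpe (f244042 IH) (Lpr_af (f256667 IH) (Lpn (LP (LK LD1_c1 LD2_c58 LD3_c42))))))
theorem f256692 : Led Lsl_ff (LP (LK LD1_c2 LD2_c6 LD3_c61)) = (LP (LK LD1_c1 LD2_c58 LD3_c42)) :=
  Lgr Lrot3 (Lpr_ft (f256681 IH) (Lpn (LP (LK LD1_c1 LD2_c58 LD3_c42))))
theorem f256704 : Led Lsl_at (LP (LK LD1_c2 LD2_c6 LD3_c61)) = (LP (LK LD1_c1 LD2_c58 LD3_c51)) :=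
  Lgr Lrot26 (Lpr_ff (f256692 IH) (Lpe (K12.f228267 IH) (Lpr_gt (K13.f226984 IH) (Lpn (LP (LK LD1_c1 LD2_c58 LD3_c51))))))
theorem f256673 : Led Lsl_at (LP (LK LD1_c2 LD2_c24 LD3_c7)) = (LP (LK LD1_c1 LD2_c58 LD3_c42)) :=
  Lgr Lrot100 (Lpr_af (f256667 IH) (Lpn (LP (LK LD1_c1 LD2_c58 LD3_c42))))
theorem f256716 : Led Lsl_ff (LP (LK LD1_c2 LD2_c24 LD3_c7)) = (LP (LK LD1_c1 LD2_c58 LD3_c51)) :=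
  Lgr Lrot30 (Lpr_at (f256673 IH) (Lpe (f256692 IH) (Lpr_at (f256704 IH) (Lpn (LP (LK LD1_c1 LD2_c58 LD3_c51))))))
theorem f256728 : Led Lsl_ft (LP (LK LD1_c2 LD2_c24 LD3_c7)) = (LP (LK LD1_c1 LD2_c58 LD3_c51)) :=
  Lgr Lrot48 (Lpr_ff (f256716 IH) (Lpn (LP (LK LD1_c1 LD2_c58 LD3_c51))))
theorem f244012 : Led Lsl_et (LP (LK LD1_c4 LD2_c52 LD3_c47)) = (LP (LK LD1_c2 LD2_c24 LD3_c7)) :=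
  Lre_e IH (LK LD1_c4 LD2_c52 LD3_c47) (LK LD1_c2 LD2_c24 LD3_c7) Lrfl Lrfl
theorem f226990 : Led Lsl_et (LP (LK LD1_c1 LD2_c58 LD3_c51)) = (LP (LK LD1_c4 LD2_c3 LD3_c47)) :=
  Lre_e IH (LK LD1_c1 LD2_c58 LD3_c51) (LK LD1_c4 LD2_c3 LD3_c47) Lrfl Lrfl
theorem f256736 : Led Lsl_ft (LP (LK LD1_c4 LD2_c3 LD3_c47)) = (LP (LK LD1_c8 LD2_c7 LD3_c61)) :=
  Lre_f IH (LK LD1_c4 LD2_c3 LD3_c47) (LK LD1_c8 LD2_c7 LD3_c61) Lrfl Lrfl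
theorem f256737 : Led Lsl_ef (LP (LK LD1_c9 LD2_c37 LD3_c37)) = (LP (LK LD1_c8 LD2_c7 LD3_c61)) :=
  Lgr Lrot21 (Lpr_ft (f256652 IH) (Lpr_et (f244012 IH) (Lpr_ft (f256728 IH) (Lpr_et (f226990 IH) (Lpr_ft (f256736 IH) (Lpn (LP (LK LD1_c8 LD2_c7 LD3_c61))))))))
theorem f256741 : Led Lsl_ct (LP (LK LD1_c4 LD2_c3 LD3_c51)) = (LP (LK LD1_c8 LD2_c7 LD3_c61)) :=
  Lre_c IH (LK LD1_c4 LD2_c3 LD3_c51) (LK LD1_c8 LD2_c7 LD3_c61) Lrfl Lrfl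
theorem f256742 : Led Lsl_et (LP (LK LD1_c4 LD2_c52 LD3_c50)) = (LP (LK LD1_c4 LD2_c3 LD3_c51)) :=
  Lgr Lrot158 (Lpe (f170734 IH) (Lpr_ef (f256737 IH) (Lpe (f256741 IH) (Lpn (LP (LK LD1_c4 LD2_c3 LD3_c51))))))
theorem f256748 : Led Lsl_ef (LP (LK LD1_c4 LD2_c52 LD3_c50)) = (LP (LK LD1_c4 LD2_c3 LD3_c51)) :=
  Lgr Lrot88 (Lpr_et (f256742 IH) (Lpn (LP (LK LD1_c4 LD2_c3 LD3_c51))))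
theorem f256751 : Led Lsl_bt (LP (LK LD1_c8 LD2_c7 LD3_c55)) = (LP (LK LD1_c4 LD2_c3 LD3_c51)) :=
  Lre_b IH (LK LD1_c8 LD2_c7 LD3_c55) (LK LD1_c4 LD2_c3 LD3_c51) Lrfl Lrfl
theorem f256752 : Led Lsl_et (LP (LK LD1_c8 LD2_c20 LD3_c29)) = (LP (LK LD1_c8 LD2_c7 LD3_c55)) :=
  Lgr Lrot74 (Lpr_bf (K10.f170723 IH) (Lpr_ef (f256748 IH) (Lpe (f256751 IH) (Lpn (LP (LK LD1_c8 LD2_c7 LD3_c55))))))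
theorem f170817 : Led Lsl_ft (LP (LK LD1_c4 LD2_c10 LD3_c7)) = (LP (LK LD1_c8 LD2_c20 LD3_c29)) :=
  Lre_f IH (LK LD1_c4 LD2_c10 LD3_c7) (LK LD1_c8 LD2_c20 LD3_c29) Lrfl Lrfl
theorem f237153 : Led Lsl_ft (LP (LK LD1_c8 LD2_c7 LD3_c55)) = (LP (LK LD1_c4 LD2_c3 LD3_c41)) :=
  Lre_f IH (LK LD1_c8 LD2_c7 LD3_c55) (LK LD1_c4 LD2_c3 LD3_c41) Lrfl Lrfl
theorem f256758 : Led Lsl_et (LP (LK LD1_c4 LD2_c3 LD3_c41)) = (LP (LK LD1_c1 LD2_c58 LD3_c49)) :=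
  Lre_e IH (LK LD1_c4 LD2_c3 LD3_c41) (LK LD1_c1 LD2_c58 LD3_c49) Lrfl Lrfl
theorem f256759 : Led Lsl_ff (LP (LK LD1_c2 LD2_c2 LD3_c16)) = (LP (LK LD1_c1 LD2_c58 LD3_c49)) :=
  Lgr Lrot72 (Lpr_et (K10.f170705 IH) (Lpr_ft (f170817 IH) (Lpr_et (f256752 IH) (Lpr_ft (f237153 IH) (Lpr_et (f256758 IH) (Lpn (LP (LK LD1_c1 LD2_c58 LD3_c49))))))))
theorem f256765 : Led Lsl_ft (LP (LK LD1_c2 LD2_c2 LD3_c16)) = (LP (LK LD1_c1 LD2_c58 LD3_c49)) :=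
  Lgr Lrot48 (Lpr_ff (f256759 IH) (Lpn (LP (LK LD1_c1 LD2_c58 LD3_c49))))
theorem f170838 : Led Lsl_dt (LP (LK LD1_c0 LD2_c58 LD3_c3)) = (LP (LK LD1_c2 LD2_c2 LD3_c16)) :=
  Lre_d IH (LK LD1_c0 LD2_c58 LD3_c3) (LK LD1_c2 LD2_c2 LD3_c16) Lrfl Lrfl
theorem f256770 : Led Lsl_ff (LP (LK LD1_c0 LD2_c58 LD3_c3)) = (LP (LK LD1_c0 LD2_c56 LD3_c13)) :=
  Lgr Lrot19 (Lpr_dt (f170838 IH) (Lpr_ft (f256765 IH) (Lpr_dt (K12.f201103 IH) (Lpn (LP (LK LD1_c0 LD2_c56 LD3_c13))))))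
theorem f256784 : Led Lsl_at (LP (LK LD1_c0 LD2_c58 LD3_c3)) = (LP (LK LD1_c1 LD2_c2 LD3_c33)) :=
  Lgr Lrot26 (Lpr_ff (f256770 IH) (Lpe (K12.f212487 IH) (Lpr_gt (K12.f231232 IH) (Lpn (LP (LK LD1_c1 LD2_c2 LD3_c33))))))
theorem f231115 : Led Lsl_dt (LP (LK LD1_c8 LD2_c20 LD3_c16)) = (LP (LK LD1_c4 LD2_c10 LD3_c0)) :=
  Lre_d IH (LK LD1_c8 LD2_c20 LD3_c16) (LK LD1_c4 LD2_c10 LD3_c0) Lrfl Lrfl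
theorem f256786 : Led Lsl_cf (LP (LK LD1_c1 LD2_c2 LD3_c33)) = (LP (LK LD1_c0 LD2_c58 LD3_c2)) :=
  Lgr Lrot102 (Lpe (f256784 IH) (Lpr_ff (f256770 IH) (Lpr_dt (K12.f201089 IH) (Lpr_ct (K12.f201090 IH) (Lpr_dt (K12.f226812 IH) (Lpr_ct (K12.f231165 IH) (Lpr_dt (f231115 IH) (Lpr_ct (K14.f231110 IH) (Lpr_dt (K12.f230945 IH) (Lpn (LP (LK LD1_c0 LD2_c58 LD3_c2))))))))))))
theorem f33451 : Led Lsl_ct (LP (LK LD1_c1 LD2_c14 LD3_c9)) = (LP (LK LD1_c0 LD2_c34 LD3_c25)) :=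
  Lre_c IH (LK LD1_c1 LD2_c14 LD3_c9) (LK LD1_c0 LD2_c34 LD3_c25) Lrfl Lrfl
theorem f188890 : Led Lsl_ff (LP (LK LD1_c1 LD2_c2 LD3_c49)) = (LP (LK LD1_c0 LD2_c34 LD3_c25)) :=
  Lgr Lrot23 (Lpr_ct (K11.f188601 IH) (Lpr_ft (K10.f188840 IH) (Lpr_ct (f33451 IH) (Lpn (LP (LK LD1_c0 LD2_c34 LD3_c25))))))
theorem f201087 : Led Lsl_ff (LP (LK LD1_c1 LD2_c14 LD3_c8)) = (LP (LK LD1_c1 LD2_c58 LD3_c47)) :=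
  Lgr Lrot25 (Lpr_bt (K10.f33509 IH) (Lpe (f188890 IH) (Lpr_bt (K11.f201076 IH) (Lpn (LP (LK LD1_c1 LD2_c58 LD3_c47))))))
theorem f212802 : Led Lsl_af (LP (LK LD1_c1 LD2_c58 LD3_c47)) = (LP (LK LD1_c2 LD2_c2 LD3_c15)) :=
  Lgr Lrot45 (Lpe (f201087 IH) (Lpe (K8.f48037 IH) (Lpr_ft (K12.f212799 IH) (Lpn (LP (LK LD1_c2 LD2_c2 LD3_c15))))))
theorem f231235 : Led Lsl_gf (LP (LK LD1_c1 LD2_c58 LD3_c47)) = (LP (LK LD1_c1 LD2_c2 LD3_c33)) :=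
  Lgr Lrot76 (Lpr_af (f212802 IH) (Lpe (K12.f212799 IH) (Lpr_gt (K12.f231232 IH) (Lpn (LP (LK LD1_c1 LD2_c2 LD3_c33))))))
theorem f169158 : Led Lsl_dt (LP (LK LD1_c1 LD2_c16 LD3_c10)) = (LP (LK LD1_c0 LD2_c35 LD3_c17)) :=
  Lre_d IH (LK LD1_c1 LD2_c16 LD3_c10) (LK LD1_c0 LD2_c35 LD3_c17) Lrfl Lrfl
theorem f255866 : Led Lsl_gt (LP (LK LD1_c0 LD2_c39 LD3_c6)) = (LP (LK LD1_c0 LD2_c59 LD3_c51)) :=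
  Lgr Lrot94 (Lpe (K12.f29011 IH) (Lpr_gt (K12.f229627 IH) (Lpr_dt (K14.f229634 IH) (Lpe (K14.f229641 IH) (Lpr_dt (K14.f169155 IH) (Lpe (K14.f169153 IH) (Lpe (f169158 IH) (Lpr_gf (K14.f255681 IH) (Lpe (K12.f230315 IH) (Lpn (LP (LK LD1_c0 LD2_c59 LD3_c51))))))))))))
theorem f256798 : Led Lsl_gt (LP (LK LD1_c0 LD2_c58 LD3_c12)) = (LP (LK LD1_c0 LD2_c39 LD3_c7)) :=
  Lgr Lrot149 (Lpr_cf (K14.f252069 IH) (Lpe (K14.f252083 IH) (Lpe (K12.f188764 IH) (Lpr_ct (K12.f218077 IH) (Lpr_gf (f231235 IH) (Lpr_cf (f256786 IH) (Lpe (K12.f230937 IH) (Lpe (f255866 IH) (Lpe (K0.f29010 IH) (Lpe (K10.f29048 IH) (Lpn (LP (LK LD1_c0 LD2_c39 LD3_c7)))))))))))))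
theorem f256804 : Led Lsl_et (LP (LK LD1_c2 LD2_c2 LD3_c36)) = (LP (LK LD1_c0 LD2_c58 LD3_c12)) :=
  Lre_e IH (LK LD1_c2 LD2_c2 LD3_c36) (LK LD1_c0 LD2_c58 LD3_c12) Lrfl Lrfl
theorem f42494 : Led Lsl_gt (LP (LK LD1_c0 LD2_c35 LD3_c12)) = (LP (LK LD1_c1 LD2_c15 LD3_c57)) :=
  Lre_g IH (LK LD1_c0 LD2_c35 LD3_c12) (LK LD1_c1 LD2_c15 LD3_c57) Lrfl Lrfl
theorem f256805 : Led Lsl_dt (LP (LK LD1_c2 LD2_c2 LD3_c36)) = (LP (LK LD1_c1 LD2_c15 LD3_c57)) :=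
  Lgr Lrot37 (Lpr_et (f256804 IH) (Lpr_gt (f256798 IH) (Lpr_dt (K1.f29054 IH) (Lpe (K14.f184378 IH) (Lpr_df (K14.f7915 IH) (Lpr_et (K14.f184385 IH) (Lpr_gt (K14.f42501 IH) (Lpe (K14.f184387 IH) (Lpr_dt (K12.f42493 IH) (Lpr_gt (f42494 IH) (Lpn (LP (LK LD1_c1 LD2_c15 LD3_c57)))))))))))))
theorem f228885 : Led Lsl_at (LP (LK LD1_c2 LD2_c2 LD3_c36)) = (LP (LK LD1_c0 LD2_c58 LD3_c14)) :=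
  Lre_a IH (LK LD1_c2 LD2_c2 LD3_c36) (LK LD1_c0 LD2_c58 LD3_c14) Lrfl Lrfl
theorem f228886 : Led Lsl_ct (LP (LK LD1_c2 LD2_c3 LD3_c47)) = (LP (LK LD1_c2 LD2_c2 LD3_c36)) :=
  Lgr Lrot111 (Lpe (K14.f228884 IH) (Lpr_cf (K12.f228808 IH) (Lpe (f228885 IH) (Lpn (LP (LK LD1_c2 LD2_c2 LD3_c36))))))
theorem f166457 : Led Lsl_bt (LP (LK LD1_c2 LD2_c3 LD3_c13)) = (LP (LK LD1_c4 LD2_c12 LD3_c7)) :=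
  Lre_b IH (LK LD1_c2 LD2_c3 LD3_c13) (LK LD1_c4 LD2_c12 LD3_c7) Lrfl Lrfl
theorem f211399 : Led Lsl_cf (LP (LK LD1_c4 LD2_c4 LD3_c34)) = (LP (LK LD1_c4 LD2_c12 LD3_c7)) :=
  Lgr Lrot97 (Lpr_bt (K13.f211292 IH) (Lpr_ct (K12.f28926 IH) (Lpr_bt (K12.f211395 IH) (Lpr_ct (K11.f166451 IH) (Lpr_bt (f166457 IH) (Lpn (LP (LK LD1_c4 LD2_c12 LD3_c7))))))))
theorem f211406 : Led Lsl_ct (LP (LK LD1_c4 LD2_c4 LD3_c34)) = (LP (LK LD1_c4 LD2_c12 LD3_c7)) :=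
  Lgr Lrot59 (Lpr_cf (f211399 IH) (Lpn (LP (LK LD1_c4 LD2_c12 LD3_c7))))
theorem f183664 : Led Lsl_et (LP (LK LD1_c4 LD2_c6 LD3_c21)) = (LP (LK LD1_c2 LD2_c0 LD3_c30)) :=
  Lre_e IH (LK LD1_c4 LD2_c6 LD3_c21) (LK LD1_c2 LD2_c0 LD3_c30) Lrfl Lrfl
theorem f220774 : Led Lsl_dt (LP (LK LD1_c4 LD2_c6 LD3_c21)) = (LP (LK LD1_c5 LD2_c20 LD3_c59)) :=
  Lgr Lrot56 (Lpr_et (f183664 IH) (Lpr_gt (K9.f183612 IH) (Lpr_ef (K10.f183622 IH) (Lpr_dt (K10.f183633 IH) (Lpr_gt (K10.f183662 IH) (Lpe (K10.f187248 IH) (Lpr_et (K10.f167800 IH) (Lpr_gt (K12.f201072 IH) (Lpr_dt (K12.f194661 IH) (Lpr_gt (K12.f220753 IH) (Lpn (LP (LK LD1_c5 LD2_c20 LD3_c59)))))))))))))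
theorem f246372 : Led Lsl_gt (LP (LK LD1_c4 LD2_c12 LD3_c7)) = (LP (LK LD1_c4 LD2_c6 LD3_c21)) :=
  Lgr Lrot94 (Lpe (f211406 IH) (Lpr_gt (K13.f246370 IH) (Lpe (K10.f194603 IH) (Lpr_gt (K12.f194609 IH) (Lpr_dt (K12.f49236 IH) (Lpr_cf (K9.f47484 IH) (Lpe (K10.f43267 IH) (Lpr_gf (K12.f220763 IH) (Lpe (f220774 IH) (Lpn (LP (LK LD1_c4 LD2_c6 LD3_c21))))))))))))
theorem f226891 : Led Lsl_bt (LP (LK LD1_c1 LD2_c59 LD3_c7)) = (LP (LK LD1_c4 LD2_c4 LD3_c22)) :=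
  Lre_b IH (LK LD1_c1 LD2_c59 LD3_c7) (LK LD1_c4 LD2_c4 LD3_c22) Lrfl Lrfl
theorem f211251 : Led Lsl_bt (LP (LK LD1_c4 LD2_c12 LD3_c7)) = (LP (LK LD1_c2 LD2_c3 LD3_c13)) :=
  Lre_b IH (LK LD1_c4 LD2_c12 LD3_c7) (LK LD1_c2 LD2_c3 LD3_c13) Lrfl Lrfl
theorem f226892 : Led Lsl_dt (LP (LK LD1_c4 LD2_c4 LD3_c22)) = (LP (LK LD1_c4 LD2_c12 LD3_c7)) :=
  Lgr Lrot79 (Lpe (f226891 IH) (Lpr_df (K12.f226885 IH) (Lpe (f211251 IH) (Lpn (LP (LK LD1_c4 LD2_c12 LD3_c7))))))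
theorem f224349 : Led Lsl_ct (LP (LK LD1_c2 LD2_c37 LD3_c56)) = (LP (LK LD1_c1 LD2_c15 LD3_c57)) :=
  Lre_c IH (LK LD1_c2 LD2_c37 LD3_c56) (LK LD1_c1 LD2_c15 LD3_c57) Lrfl Lrfl
theorem f171964 : Led Lsl_ct (LP (LK LD1_c4 LD2_c55 LD3_c9)) = (LP (LK LD1_c2 LD2_c25 LD3_c28)) :=
  Lre_c IH (LK LD1_c4 LD2_c55 LD3_c9) (LK LD1_c2 LD2_c25 LD3_c28) Lrfl Lrfl
theorem f224254 : Led Lsl_dt (LP (LK LD1_c2 LD2_c39 LD3_c11)) = (LP (LK LD1_c4 LD2_c55 LD3_c9)) :=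
  Lgr Lrot105 (Lpe (K14.f196717 IH) (Lpe (K14.f217676 IH) (Lpe (K12.f216302 IH) (Lpe (K12.f213030 IH) (Lpr_gt (K12.f224252 IH) (Lpr_dt (K12.f223822 IH) (Lpe (K13.f223895 IH) (Lpr_dt (K14.f171979 IH) (Lpe (f171964 IH) (Lpn (LP (LK LD1_c4 LD2_c55 LD3_c9))))))))))))
theorem f224264 : Led Lsl_df (LP (LK LD1_c2 LD2_c39 LD3_c11)) = (LP (LK LD1_c4 LD2_c55 LD3_c9)) :=
  Lgr Lrot38 (Lpr_dt (f224254 IH) (Lpn (LP (LK LD1_c4 LD2_c55 LD3_c9))))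
theorem f171977 : Led Lsl_gt (LP (LK LD1_c2 LD2_c37 LD3_c56)) = (LP (LK LD1_c4 LD2_c55 LD3_c9)) :=
  Lre_g IH (LK LD1_c2 LD2_c37 LD3_c56) (LK LD1_c4 LD2_c55 LD3_c9) Lrfl Lrfl
theorem f171980 : Led Lsl_ct (LP (LK LD1_c1 LD2_c15 LD3_c57)) = (LP (LK LD1_c2 LD2_c37 LD3_c56)) :=
  Lre_c IH (LK LD1_c1 LD2_c15 LD3_c57) (LK LD1_c2 LD2_c37 LD3_c56) Lrfl Lrfl
theorem f224347 : Led Lsl_gf (LP (LK LD1_c0 LD2_c35 LD3_c16)) = (LP (LK LD1_c1 LD2_c15 LD3_c57)) :=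
  Lgr Lrot144 (Lpr_dt (K13.f167824 IH) (Lpr_gt (K9.f42112 IH) (Lpr_dt (K1.f42558 IH) (Lpe (K12.f218237 IH) (Lpe (K13.f218231 IH) (Lpe (K14.f217344 IH) (Lpr_df (f224264 IH) (Lpe (f171977 IH) (Lpe (f171980 IH) (Lpn (LP (LK LD1_c1 LD2_c15 LD3_c57))))))))))))
theorem f218384 : Led Lsl_cf (LP (LK LD1_c2 LD2_c38 LD3_c25)) = (LP (LK LD1_c4 LD2_c55 LD3_c45)) :=
  Lgr Lrot11 (Lpr_ct (K13.f218232 IH) (Lpn (LP (LK LD1_c4 LD2_c55 LD3_c45))))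
theorem f224403 : Led Lsl_gt (LP (LK LD1_c4 LD2_c54 LD3_c50)) = (LP (LK LD1_c2 LD2_c37 LD3_c56)) :=
  Lgr Lrot9 (Lpe (K13.f224060 IH) (Lpr_gt (K13.f217449 IH) (Lpr_ct (K14.f196716 IH) (Lpr_gt (K13.f55195 IH) (Lpe (f218384 IH) (Lpe (K13.f217754 IH) (Lpe (K13.f217743 IH) (Lpr_gf (f224347 IH) (Lpe (f224349 IH) (Lpn (LP (LK LD1_c2 LD2_c37 LD3_c56))))))))))))
theorem f256820 : Led Lsl_gt (LP (LK LD1_c4 LD2_c4 LD3_c22)) = (LP (LK LD1_c2 LD2_c25 LD3_c18)) :=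
  Lgr Lrot146 (Lpr_dt (f226892 IH) (Lpr_gt (f246372 IH) (Lpr_ct (K14.f187346 IH) (Lpr_gt (K14.f250474 IH) (Lpr_ct (f228886 IH) (Lpr_dt (f256805 IH) (Lpe (f224349 IH) (Lpe (f224403 IH) (Lpe (K13.f214025 IH) (Lpn (LP (LK LD1_c2 LD2_c25 LD3_c18))))))))))))
theorem f216311 : Led Lsl_dt (LP (LK LD1_c2 LD2_c25 LD3_c18)) = (LP (LK LD1_c1 LD2_c9 LD3_c54)) :=
  Lre_d IH (LK LD1_c2 LD2_c25 LD3_c18) (LK LD1_c1 LD2_c9 LD3_c54) Lrfl Lrfl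
theorem f171897 : Led Lsl_gt (LP (LK LD1_c5 LD2_c20 LD3_c29)) = (LP (LK LD1_c2 LD2_c36 LD3_c54)) :=
  Lre_g IH (LK LD1_c5 LD2_c20 LD3_c29) (LK LD1_c2 LD2_c36 LD3_c54) Lrfl Lrfl
theorem f256919 : Led Lsl_ct (LP (LK LD1_c4 LD2_c4 LD3_c22)) = (LP (LK LD1_c5 LD2_c20 LD3_c29)) :=
  Lgr Lrot8 (Lpr_gt (f256820 IH) (Lpr_dt (f216311 IH) (Lpr_gt (K12.f168194 IH) (Lpr_dt (K13.f214015 IH) (Lpr_cf (K12.f224487 IH) (Lpe (K12.f224542 IH) (Lpe (K12.f223796 IH) (Lpe (K12.f171889 IH) (Lpe (f171897 IH) (Lpn (LP (LK LD1_c5 LD2_c20 LD3_c29))))))))))))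
theorem f226903 : Led Lsl_bt (LP (LK LD1_c4 LD2_c4 LD3_c22)) = (LP (LK LD1_c1 LD2_c59 LD3_c7)) :=
  Lre_b IH (LK LD1_c4 LD2_c4 LD3_c22) (LK LD1_c1 LD2_c59 LD3_c7) Lrfl Lrfl
theorem f257005 : Led Lsl_gt (LP (LK LD1_c2 LD2_c36 LD3_c58)) = (LP (LK LD1_c5 LD2_c20 LD3_c29)) :=
  Lgr Lrot65 (Lpe (K12.f169172 IH) (Lpe (K12.f167818 IH) (Lpe (K13.f220758 IH) (Lpr_bf (K13.f196663 IH) (Lpr_ct (K13.f28827 IH) (Lpe (K12.f226897 IH) (Lpe (K12.f223732 IH) (Lpe (K12.f200699 IH) (Lpe (f226903 IH) (Lpr_ct (f256919 IH) (Lpn (LP (LK LD1_c5 LD2_c20 LD3_c29)))))))))))))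
theorem f246634 : Led Lsl_gf (LP (LK LD1_c1 LD2_c16 LD3_c14)) = (LP (LK LD1_c0 LD2_c58 LD3_c14)) :=
  Lgr Lrot144 (Lpr_dt (K14.f41436 IH) (Lpr_gt (K9.f41435 IH) (Lpr_dt (K1.f41420 IH) (Lpe (K1.f41399 IH) (Lpe (K12.f41403 IH) (Lpe (K9.f41406 IH) (Lpr_df (K14.f246595 IH) (Lpe (K13.f173279 IH) (Lpr_cf (K12.f228808 IH) (Lpn (LP (LK LD1_c0 LD2_c58 LD3_c14))))))))))))
theorem f196571 : Led Lsl_ct (LP (LK LD1_c1 LD2_c16 LD3_c14)) = (LP (LK LD1_c2 LD2_c38 LD3_c42)) :=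
  Lre_c IH (LK LD1_c1 LD2_c16 LD3_c14) (LK LD1_c2 LD2_c38 LD3_c42) Lrfl Lrfl
theorem f256921 : Led Lsl_cf (LP (LK LD1_c4 LD2_c4 LD3_c22)) = (LP (LK LD1_c5 LD2_c20 LD3_c29)) :=
  Lgr Lrot166 (Lpr_gt (f256820 IH) (Lpr_dt (f216311 IH) (Lpr_gt (K12.f168194 IH) (Lpr_dt (K13.f214015 IH) (Lpe (K12.f224435 IH) (Lpe (K12.f224542 IH) (Lpe (K12.f223796 IH) (Lpe (K12.f171889 IH) (Lpe (f171897 IH) (Lpn (LP (LK LD1_c5 LD2_c20 LD3_c29))))))))))))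
theorem f256811 : Led Lsl_df (LP (LK LD1_c2 LD2_c2 LD3_c36)) = (LP (LK LD1_c1 LD2_c15 LD3_c57)) :=
  Lgr Lrot38 (Lpr_dt (f256805 IH) (Lpn (LP (LK LD1_c1 LD2_c15 LD3_c57))))
theorem f256923 : Led Lsl_df (LP (LK LD1_c4 LD2_c4 LD3_c22)) = (LP (LK LD1_c4 LD2_c12 LD3_c7)) :=
  Lgr Lrot155 (Lpr_gt (f256820 IH) (Lpr_ct (K13.f214025 IH) (Lpr_gt (f224403 IH) (Lpr_ct (f224349 IH) (Lpe (f256811 IH) (Lpe (f228886 IH) (Lpe (K14.f250474 IH) (Lpe (K14.f187346 IH) (Lpe (f246372 IH) (Lpn (LP (LK LD1_c4 LD2_c12 LD3_c7))))))))))))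
theorem f257007 : Led Lsl_gt (LP (LK LD1_c2 LD2_c38 LD3_c42)) = (LP (LK LD1_c4 LD2_c4 LD3_c34)) :=
  Lgr Lrot150 (Lpe (f196571 IH) (Lpr_gf (f246634 IH) (Lpe (K12.f187026 IH) (Lpr_gt (K13.f226909 IH) (Lpr_ct (K12.f169172 IH) (Lpr_gt (f257005 IH) (Lpe (f256921 IH) (Lpr_df (f256923 IH) (Lpe (f211406 IH) (Lpn (LP (LK LD1_c4 LD2_c4 LD3_c34))))))))))))
theorem f257029 : Led Lsl_et (LP (LK LD1_c5 LD2_c24 LD3_c22)) = (LP (LK LD1_c2 LD2_c38 LD3_c42)) :=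
  Lre_e IH (LK LD1_c5 LD2_c24 LD3_c22) (LK LD1_c2 LD2_c38 LD3_c42) Lrfl Lrfl
theorem f184830 : Led Lsl_gt (LP (LK LD1_c2 LD2_c35 LD3_c34)) = (LP (LK LD1_c5 LD2_c17 LD3_c38)) :=
  Lre_g IH (LK LD1_c2 LD2_c35 LD3_c34) (LK LD1_c5 LD2_c17 LD3_c38) Lrfl Lrfl
theorem f257030 : Led Lsl_dt (LP (LK LD1_c5 LD2_c24 LD3_c22)) = (LP (LK LD1_c5 LD2_c17 LD3_c38)) :=
  Lgr Lrot56 (Lpr_et (f257029 IH) (Lpr_gt (f257007 IH) (Lpr_ef (K13.f246378 IH) (Lpr_dt (K13.f46378 IH) (Lpe (K14.f46375 IH) (Lpe (K1.f28295 IH) (Lpe (K1.f46113 IH) (Lpe (K9.f184826 IH) (Lpr_dt (K14.f184829 IH) (Lpr_gt (f184830 IH) (Lpn (LP (LK LD1_c5 LD2_c17 LD3_c38)))))))))))))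
theorem f223862 : Led Lsl_ct (LP (LK LD1_c5 LD2_c24 LD3_c22)) = (LP (LK LD1_c2 LD2_c38 LD3_c43)) :=
  Lre_c IH (LK LD1_c5 LD2_c24 LD3_c22) (LK LD1_c2 LD2_c38 LD3_c43) Lrfl Lrfl
theorem f255881 : Led Lsl_gf (LP (LK LD1_c5 LD2_c24 LD3_c22)) = (LP (LK LD1_c5 LD2_c19 LD3_c3)) :=
  Lgr Lrot147 (Lpr_ct (f223862 IH) (Lpr_gt (K14.f255871 IH) (Lpe (K12.f230294 IH) (Lpr_df (K14.f246667 IH) (Lpe (K14.f43475 IH) (Lpr_gf (K14.f233688 IH) (Lpe (K14.f233415 IH) (Lpe (K14.f247956 IH) (Lpe (K14.f33117 IH) (Lpn (LP (LK LD1_c5 LD2_c19 LD3_c3))))))))))))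
theorem f229943 : Led Lsl_ct (LP (LK LD1_c5 LD2_c19 LD3_c3)) = (LP (LK LD1_c8 LD2_c36 LD3_c33)) :=
  Lgr Lrot7 (Lpe (K14.f44280 IH) (Lpe (K14.f33116 IH) (Lpe (K1.f28253 IH) (Lpe (K10.f28280 IH) (Lpe (K10.f190304 IH) (Lpr_gt (K12.f190878 IH) (Lpr_dt (K9.f43548 IH) (Lpr_gt (K9.f43810 IH) (Lpr_dt (K14.f229937 IH) (Lpn (LP (LK LD1_c8 LD2_c36 LD3_c33))))))))))))
theorem f230403 : Led Lsl_et (LP (LK LD1_c4 LD2_c15 LD3_c56)) = (LP (LK LD1_c5 LD2_c19 LD3_c3)) :=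
  Lgr Lrot158 (Lpr_cf (K13.f230385 IH) (Lpr_ef (K13.f229939 IH) (Lpe (f229943 IH) (Lpn (LP (LK LD1_c5 LD2_c19 LD3_c3))))))
theorem f221550 : Led Lsl_gt (LP (LK LD1_c5 LD2_c22 LD3_c34)) = (LP (LK LD1_c4 LD2_c54 LD3_c30)) :=
  Lgr Lrot94 (Lpe (K14.f218483 IH) (Lpr_gt (K13.f196720 IH) (Lpr_dt (K13.f196611 IH) (Lpr_gt (K10.f172015 IH) (Lpr_dt (K10.f172029 IH) (Lpe (K12.f194618 IH) (Lpe (K12.f196828 IH) (Lpr_gf (K13.f221545 IH) (Lpe (K13.f167799 IH) (Lpn (LP (LK LD1_c4 LD2_c54 LD3_c30))))))))))))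
theorem f221585 : Led Lsl_gf (LP (LK LD1_c2 LD2_c37 LD3_c50)) = (LP (LK LD1_c1 LD2_c16 LD3_c6)) :=
  Lgr Lrot147 (Lpr_ct (K14.f218483 IH) (Lpr_gt (f221550 IH) (Lpr_ct (K12.f167807 IH) (Lpe (K10.f41908 IH) (Lpe (K9.f167792 IH) (Lpr_gf (K10.f187242 IH) (Lpe (K12.f53140 IH) (Lpr_gf (K12.f196566 IH) (Lpe (K12.f167816 IH) (Lpn (LP (LK LD1_c1 LD2_c16 LD3_c6))))))))))))
theorem f169256 : Led Lsl_dt (LP (LK LD1_c0 LD2_c35 LD3_c15)) = (LP (LK LD1_c1 LD2_c16 LD3_c6)) :=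
  Lre_d IH (LK LD1_c0 LD2_c35 LD3_c15) (LK LD1_c1 LD2_c16 LD3_c6) Lrfl Lrfl
theorem f169156 : Led Lsl_et (LP (LK LD1_c0 LD2_c35 LD3_c15)) = (LP (LK LD1_c1 LD2_c16 LD3_c7)) :=
  Lre_e IH (LK LD1_c0 LD2_c35 LD3_c15) (LK LD1_c1 LD2_c16 LD3_c7) Lrfl Lrfl
theorem f184648 : Led Lsl_et (LP (LK LD1_c1 LD2_c15 LD3_c7)) = (LP (LK LD1_c2 LD2_c36 LD3_c15)) :=
  Lre_e IH (LK LD1_c1 LD2_c15 LD3_c7) (LK LD1_c2 LD2_c36 LD3_c15) Lrfl Lrfl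
theorem f257040 : Led Lsl_gf (LP (LK LD1_c2 LD2_c36 LD3_c14)) = (LP (LK LD1_c5 LD2_c17 LD3_c38)) :=
  Lgr Lrot134 (Lpe (K13.f44020 IH) (Lpr_et (f184648 IH) (Lpr_gt (K14.f255991 IH) (Lpe (f169156 IH) (Lpr_dt (f169256 IH) (Lpe (f221585 IH) (Lpr_df (K13.f246303 IH) (Lpr_et (f230403 IH) (Lpe (f255881 IH) (Lpr_dt (f257030 IH) (Lpn (LP (LK LD1_c5 LD2_c17 LD3_c38)))))))))))))
theorem f193107 : Led Lsl_ct (LP (LK LD1_c4 LD2_c54 LD3_c24)) = (LP (LK LD1_c2 LD2_c36 LD3_c16)) :=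
  Lgr Lrot59 (Lpr_cf (K14.f192986 IH) (Lpn (LP (LK LD1_c2 LD2_c36 LD3_c16))))
theorem f43802 : Led Lsl_gt (LP (LK LD1_c4 LD2_c54 LD3_c27)) = (LP (LK LD1_c9 LD2_c40 LD3_c29)) :=
  Lre_g IH (LK LD1_c4 LD2_c54 LD3_c27) (LK LD1_c9 LD2_c40 LD3_c29) Lrfl Lrfl
theorem f44131 : Led Lsl_gt (LP (LK LD1_c5 LD2_c19 LD3_c38)) = (LP (LK LD1_c2 LD2_c36 LD3_c27)) :=
  Lre_g IH (LK LD1_c5 LD2_c19 LD3_c38) (LK LD1_c2 LD2_c36 LD3_c27) Lrfl Lrfl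
theorem f212341 : Led Lsl_ct (LP (LK LD1_c9 LD2_c40 LD3_c29)) = (LP (LK LD1_c5 LD2_c19 LD3_c38)) :=
  Lgr Lrot186 (Lpe (f43802 IH) (Lpr_dt (K14.f43416 IH) (Lpr_gt (K14.f43743 IH) (Lpr_ct (f193107 IH) (Lpe (K14.f46375 IH) (Lpr_ct (K12.f212326 IH) (Lpe (K14.f212337 IH) (Lpe (K14.f46377 IH) (Lpe (f44131 IH) (Lpn (LP (LK LD1_c5 LD2_c19 LD3_c38))))))))))))
theorem f212352 : Led Lsl_df (LP (LK LD1_c5 LD2_c10 LD3_c52)) = (LP (LK LD1_c5 LD2_c19 LD3_c39)) :=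
  Lgr Lrot162 (Lpe (K12.f212326 IH) (Lpr_gf (K14.f46375 IH) (Lpe (f193107 IH) (Lpe (K14.f43743 IH) (Lpr_dt (K14.f43559 IH) (Lpr_gt (f43802 IH) (Lpr_ct (f212341 IH) (Lpr_gt (f44131 IH) (Lpr_ct (K14.f46377 IH) (Lpn (LP (LK LD1_c5 LD2_c19 LD3_c39))))))))))))
theorem f223863 : Led Lsl_ct (LP (LK LD1_c2 LD2_c38 LD3_c43)) = (LP (LK LD1_c5 LD2_c24 LD3_c22)) :=
  Lre_c IH (LK LD1_c2 LD2_c38 LD3_c43) (LK LD1_c5 LD2_c24 LD3_c22) Lrfl Lrfl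
theorem f169402 : Led Lsl_ft (LP (LK LD1_c2 LD2_c5 LD3_c47)) = (LP (LK LD1_c0 LD2_c59 LD3_c53)) :=
  Lre_f IH (LK LD1_c2 LD2_c5 LD3_c47) (LK LD1_c0 LD2_c59 LD3_c53) Lrfl Lrfl
theorem f255875 : Led Lsl_gf (LP (LK LD1_c2 LD2_c38 LD3_c43)) = (LP (LK LD1_c2 LD2_c5 LD3_c47)) :=
  Lgr Lrot47 (Lpr_gt (K14.f255871 IH) (Lpe (K12.f169434 IH) (Lpe (f169402 IH) (Lpn (LP (LK LD1_c2 LD2_c5 LD3_c47))))))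
theorem f255926 : Led Lsl_gt (LP (LK LD1_c2 LD2_c0 LD3_c36)) = (LP (LK LD1_c2 LD2_c6 LD3_c45)) :=
  Lgr Lrot46 (Lpr_gf (K14.f255923 IH) (Lpr_ft (K12.f229927 IH) (Lpr_at (K14.f230269 IH) (Lpn (LP (LK LD1_c2 LD2_c6 LD3_c45))))))
theorem f248023 : Led Lsl_df (LP (LK LD1_c5 LD2_c10 LD3_c6)) = (LP (LK LD1_c4 LD2_c6 LD3_c31)) :=
  Lgr Lrot38 (Lpr_dt (K14.f248006 IH) (Lpn (LP (LK LD1_c4 LD2_c6 LD3_c31))))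
theorem f47860 : Led Lsl_et (LP (LK LD1_c2 LD2_c0 LD3_c36)) = (LP (LK LD1_c0 LD2_c57 LD3_c15)) :=
  Lre_e IH (LK LD1_c2 LD2_c0 LD3_c36) (LK LD1_c0 LD2_c57 LD3_c15) Lrfl Lrfl
theorem f248042 : Led Lsl_dt (LP (LK LD1_c2 LD2_c32 LD3_c7)) = (LP (LK LD1_c2 LD2_c0 LD3_c36)) :=
  Lgr Lrot77 (Lpe (K14.f189560 IH) (Lpr_df (f248023 IH) (Lpe (K14.f54976 IH) (Lpe (K14.f47861 IH) (Lpe (f47860 IH) (Lpn (LP (LK LD1_c2 LD2_c0 LD3_c36))))))))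
theorem f185406 : Led Lsl_gt (LP (LK LD1_c2 LD2_c32 LD3_c8)) = (LP (LK LD1_c5 LD2_c10 LD3_c7)) :=
  Lre_g IH (LK LD1_c2 LD2_c32 LD3_c8) (LK LD1_c5 LD2_c10 LD3_c7) Lrfl Lrfl
theorem f257035 : Led Lsl_ct (LP (LK LD1_c5 LD2_c10 LD3_c7)) = (LP (LK LD1_c5 LD2_c17 LD3_c38)) :=
  Lgr Lrot151 (Lpe (f185406 IH) (Lpe (K13.f185405 IH) (Lpe (K14.f189551 IH) (Lpr_dt (f248042 IH) (Lpr_gt (f255926 IH) (Lpr_ct (K14.f230284 IH) (Lpe (f255875 IH) (Lpr_ct (f223863 IH) (Lpr_dt (f257030 IH) (Lpn (LP (LK LD1_c5 LD2_c17 LD3_c38))))))))))))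
theorem f257042 : Led Lsl_gf (LP (LK LD1_c4 LD2_c54 LD3_c5)) = (LP (LK LD1_c5 LD2_c10 LD3_c7)) :=
  Lgr Lrot144 (Lpr_dt (K14.f189479 IH) (Lpe (K14.f190634 IH) (Lpe (f212352 IH) (Lpe (K12.f212326 IH) (Lpe (K1.f28295 IH) (Lpr_gf (K13.f193081 IH) (Lpe (K13.f43947 IH) (Lpr_gf (f257040 IH) (Lpe (f257035 IH) (Lpn (LP (LK LD1_c5 LD2_c10 LD3_c7))))))))))))
theorem f257046 : Led Lsl_cf (LP (LK LD1_c5 LD2_c10 LD3_c7)) = (LP (LK LD1_c5 LD2_c17 LD3_c38)) :=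
  Lgr Lrot166 (Lpe (f257042 IH) (Lpr_dt (K14.f189479 IH) (Lpe (K14.f190634 IH) (Lpe (f212352 IH) (Lpe (K14.f212330 IH) (Lpe (K1.f28295 IH) (Lpr_gf (K13.f193081 IH) (Lpe (K13.f43947 IH) (Lpr_gf (f257040 IH) (Lpn (LP (LK LD1_c5 LD2_c17 LD3_c38))))))))))))
theorem f184510 : Led Lsl_gt (LP (LK LD1_c5 LD2_c3 LD3_c19)) = (LP (LK LD1_c9 LD2_c57 LD3_c29)) :=
  Lre_g IH (LK LD1_c5 LD2_c3 LD3_c19) (LK LD1_c9 LD2_c57 LD3_c29) Lrfl Lrfl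
theorem f257422 : Led Lsl_df (LP (LK LD1_c5 LD2_c10 LD3_c7)) = (LP (LK LD1_c9 LD2_c57 LD3_c29)) :=
  Lgr Lrot84 (Lpr_cf (f257046 IH) (Lpe (f257030 IH) (Lpr_gf (f255881 IH) (Lpe (K14.f44280 IH) (Lpe (K14.f33116 IH) (Lpe (K1.f28270 IH) (Lpe (K13.f184229 IH) (Lpr_dt (K14.f184509 IH) (Lpr_gt (f184510 IH) (Lpn (LP (LK LD1_c9 LD2_c57 LD3_c29))))))))))))
theorem f180545 : Led Lsl_gt (LP (LK LD1_c5 LD2_c6 LD3_c9)) = (LP (LK LD1_c2 LD2_c30 LD3_c22)) :=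
  Lre_g IH (LK LD1_c5 LD2_c6 LD3_c9) (LK LD1_c2 LD2_c30 LD3_c22) Lrfl Lrfl
theorem f248113 : Led Lsl_dt (LP (LK LD1_c10 LD2_c3 LD3_c16)) = (LP (LK LD1_c5 LD2_c6 LD3_c9)) :=
  Lre_d IH (LK LD1_c10 LD2_c3 LD3_c16) (LK LD1_c5 LD2_c6 LD3_c9) Lrfl Lrfl
theorem f248104 : Led Lsl_ct (LP (LK LD1_c9 LD2_c39 LD3_c36)) = (LP (LK LD1_c5 LD2_c6 LD3_c11)) :=
  Lgr Lrot59 (Lpr_cf (K14.f248092 IH) (Lpn (LP (LK LD1_c5 LD2_c6 LD3_c11))))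
theorem f257433 : Led Lsl_gf (LP (LK LD1_c10 LD2_c3 LD3_c16)) = (LP (LK LD1_c5 LD2_c19 LD3_c57)) :=
  Lgr Lrot144 (Lpr_dt (f248113 IH) (Lpr_gt (f180545 IH) (Lpr_dt (K14.f189585 IH) (Lpe (f248104 IH) (Lpe (K14.f189479 IH) (Lpr_gf (f257042 IH) (Lpr_df (f257422 IH) (Lpe (f184510 IH) (Lpe (K14.f248478 IH) (Lpn (LP (LK LD1_c5 LD2_c19 LD3_c57))))))))))))
theorem f257435 : Led Lsl_cf (LP (LK LD1_c5 LD2_c19 LD3_c57)) = (LP (LK LD1_c5 LD2_c3 LD3_c19)) :=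
  Lgr Lrot166 (Lpe (f257433 IH) (Lpr_dt (f248113 IH) (Lpr_gt (f180545 IH) (Lpr_dt (K14.f189585 IH) (Lpe (K14.f248092 IH) (Lpe (K14.f189479 IH) (Lpr_gf (f257042 IH) (Lpr_df (f257422 IH) (Lpe (f184510 IH) (Lpn (LP (LK LD1_c5 LD2_c3 LD3_c19))))))))))))
theorem f248663 : Led Lsl_af (LP (LK LD1_c5 LD2_c3 LD3_c19)) = (LP (LK LD1_c9 LD2_c39 LD3_c40)) :=
  Lgr Lrot117 (Lpr_dt (K14.f165432 IH) (Lpr_at (K14.f248647 IH) (Lpr_dt (K12.f229923 IH) (Lpn (LP (LK LD1_c9 LD2_c39 LD3_c40))))))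
theorem f257443 : Led Lsl_at (LP (LK LD1_c5 LD2_c19 LD3_c57)) = (LP (LK LD1_c5 LD2_c16 LD3_c27)) :=
  Lgr Lrot107 (Lpr_cf (f257435 IH) (Lpr_af (f248663 IH) (Lpr_cf (K12.f230240 IH) (Lpn (LP (LK LD1_c5 LD2_c16 LD3_c27))))))
theorem f230290 : Led Lsl_dt (LP (LK LD1_c5 LD2_c19 LD3_c22)) = (LP (LK LD1_c2 LD2_c36 LD3_c21)) :=
  Lre_d IH (LK LD1_c5 LD2_c19 LD3_c22) (LK LD1_c2 LD2_c36 LD3_c21) Lrfl Lrfl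
theorem f257500 : Led Lsl_ff (LP (LK LD1_c5 LD2_c19 LD3_c57)) = (LP (LK LD1_c5 LD2_c19 LD3_c22)) :=
  Lgr Lrot103 (Lpr_at (f257443 IH) (Lpe (K12.f229929 IH) (Lpe (K12.f229923 IH) (Lpe (K12.f43798 IH) (Lpr_df (K12.f229921 IH) (Lpe (K14.f230270 IH) (Lpe (K12.f44266 IH) (Lpe (K12.f230222 IH) (Lpe (f230290 IH) (Lpn (LP (LK LD1_c5 LD2_c19 LD3_c22))))))))))))
theorem f257508 : Led Lsl_ft (LP (LK LD1_c5 LD2_c19 LD3_c57)) = (LP (LK LD1_c5 LD2_c19 LD3_c22)) :=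
  Lgr Lrot48 (Lpr_ff (f257500 IH) (Lpn (LP (LK LD1_c5 LD2_c19 LD3_c22))))
theorem f257516 : Led Lsl_af (LP (LK LD1_c5 LD2_c18 LD3_c21)) = (LP (LK LD1_c5 LD2_c19 LD3_c22)) :=
  Lgr Lrot109 (Lpe (K14.f248450 IH) (Lpe (K14.f43472 IH) (Lpe (K12.f43471 IH) (Lpe (K14.f246663 IH) (Lpr_cf (K12.f230294 IH) (Lpe (K14.f248295 IH) (Lpe (K14.f46336 IH) (Lpe (K14.f46334 IH) (Lpr_ft (f257508 IH) (Lpn (LP (LK LD1_c5 LD2_c19 LD3_c22))))))))))))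
theorem f257529 : Led Lsl_gf (LP (LK LD1_c5 LD2_c18 LD3_c21)) = (LP (LK LD1_c10 LD2_c3 LD3_c16)) :=
  Lgr Lrot76 (Lpr_af (f257516 IH) (Lpe (f257508 IH) (Lpe (f257433 IH) (Lpn (LP (LK LD1_c10 LD2_c3 LD3_c16))))))
theorem f43747 : Led Lsl_dt (LP (LK LD1_c4 LD2_c54 LD3_c24)) = (LP (LK LD1_c9 LD2_c40 LD3_c19)) :=
  Lre_d IH (LK LD1_c4 LD2_c54 LD3_c24) (LK LD1_c9 LD2_c40 LD3_c19) Lrfl Lrfl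
theorem f189540 : Led Lsl_dt (LP (LK LD1_c10 LD2_c10 LD3_c53)) = (LP (LK LD1_c5 LD2_c10 LD3_c4)) :=
  Lre_d IH (LK LD1_c10 LD2_c10 LD3_c53) (LK LD1_c5 LD2_c10 LD3_c4) Lrfl Lrfl
theorem f251409 : Led Lsl_gf (LP (LK LD1_c10 LD2_c10 LD3_c53)) = (LP (LK LD1_c9 LD2_c40 LD3_c19)) :=
  Lgr Lrot143 (Lpr_dt (f189540 IH) (Lpe (K10.f186739 IH) (Lpr_df (K14.f251313 IH) (Lpe (K14.f246661 IH) (Lpr_df (K14.f248470 IH) (Lpe (K14.f184044 IH) (Lpe (K10.f43415 IH) (Lpr_gt (K14.f43743 IH) (Lpr_dt (f43747 IH) (Lpn (LP (LK LD1_c9 LD2_c40 LD3_c19))))))))))))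
theorem f257532 : Led Lsl_ct (LP (LK LD1_c10 LD2_c10 LD3_c53)) = (LP (LK LD1_c10 LD2_c3 LD3_c16)) :=
  Lgr Lrot152 (Lpr_gf (f251409 IH) (Lpe (f43747 IH) (Lpr_gt (K14.f43744 IH) (Lpr_ct (K9.f43432 IH) (Lpe (K12.f43469 IH) (Lpr_ct (K12.f43471 IH) (Lpe (K14.f43473 IH) (Lpr_cf (K14.f248456 IH) (Lpr_gf (f257529 IH) (Lpn (LP (LK LD1_c10 LD2_c3 LD3_c16))))))))))))
theorem f189541 : Led Lsl_dt (LP (LK LD1_c5 LD2_c10 LD3_c4)) = (LP (LK LD1_c10 LD2_c10 LD3_c53)) :=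
  Lre_d IH (LK LD1_c5 LD2_c10 LD3_c4) (LK LD1_c10 LD2_c10 LD3_c53) Lrfl Lrfl
theorem f248178 : Led Lsl_df (LP (LK LD1_c9 LD2_c39 LD3_c56)) = (LP (LK LD1_c5 LD2_c18 LD3_c61)) :=
  Lgr Lrot155 (Lpe (K14.f43578 IH) (Lpr_ct (K9.f43502 IH) (Lpr_gt (K9.f183983 IH) (Lpr_ct (K14.f248106 IH) (Lpr_dt (K14.f189584 IH) (Lpe (K13.f185405 IH) (Lpe (K14.f189551 IH) (Lpe (K14.f189553 IH) (Lpe (K14.f248176 IH) (Lpn (LP (LK LD1_c5 LD2_c18 LD3_c61))))))))))))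
theorem f248189 : Led Lsl_gf (LP (LK LD1_c2 LD2_c24 LD3_c58)) = (LP (LK LD1_c2 LD2_c32 LD3_c6)) :=
  Lgr Lrot144 (Lpr_dt (K14.f43817 IH) (Lpe (K12.f43815 IH) (Lpr_dt (K12.f43294 IH) (Lpe (K14.f43454 IH) (Lpe (K14.f43567 IH) (Lpr_gf (K14.f43578 IH) (Lpr_df (f248178 IH) (Lpe (K10.f189538 IH) (Lpe (K10.f186739 IH) (Lpn (LP (LK LD1_c2 LD2_c32 LD3_c6))))))))))))
theorem f50754 : Led Lsl_ct (LP (LK LD1_c2 LD2_c24 LD3_c58)) = (LP (LK LD1_c4 LD2_c54 LD3_c5)) :=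
  Lre_c IH (LK LD1_c2 LD2_c24 LD3_c58) (LK LD1_c4 LD2_c54 LD3_c5) Lrfl Lrfl
theorem f186744 : Led Lsl_ct (LP (LK LD1_c5 LD2_c10 LD3_c4)) = (LP (LK LD1_c2 LD2_c32 LD3_c6)) :=
  Lre_c IH (LK LD1_c5 LD2_c10 LD3_c4) (LK LD1_c2 LD2_c32 LD3_c6) Lrfl Lrfl
theorem f248192 : Led Lsl_gt (LP (LK LD1_c5 LD2_c19 LD3_c1)) = (LP (LK LD1_c5 LD2_c10 LD3_c4)) :=
  Lgr Lrot9 (Lpe (K14.f247960 IH) (Lpr_gt (K14.f43598 IH) (Lpr_ct (K9.f43440 IH) (Lpr_gt (K14.f248087 IH) (Lpe (K14.f248092 IH) (Lpe (K14.f189479 IH) (Lpe (f50754 IH) (Lpr_gf (f248189 IH) (Lpe (f186744 IH) (Lpn (LP (LK LD1_c5 LD2_c10 LD3_c4))))))))))))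
theorem f257531 : Led Lsl_dt (LP (LK LD1_c5 LD2_c6 LD3_c9)) = (LP (LK LD1_c10 LD2_c3 LD3_c16)) :=
  Lre_d IH (LK LD1_c5 LD2_c6 LD3_c9) (LK LD1_c10 LD2_c3 LD3_c16) Lrfl Lrfl
theorem f257540 : Led Lsl_gt (LP (LK LD1_c2 LD2_c36 LD3_c19)) = (LP (LK LD1_c5 LD2_c6 LD3_c9)) :=
  Lgr Lrot189 (Lpe (K9.f183987 IH) (Lpe (K9.f183983 IH) (Lpe (K14.f43504 IH) (Lpr_gt (K14.f43599 IH) (Lpr_dt (K14.f247960 IH) (Lpr_gt (f248192 IH) (Lpr_dt (f189541 IH) (Lpr_ct (f257532 IH) (Lpe (f257531 IH) (Lpn (LP (LK LD1_c5 LD2_c6 LD3_c9))))))))))))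
theorem f183988 : Led Lsl_ct (LP (LK LD1_c2 LD2_c36 LD3_c19)) = (LP (LK LD1_c1 LD2_c15 LD3_c10)) :=
  Lre_c IH (LK LD1_c2 LD2_c36 LD3_c19) (LK LD1_c1 LD2_c15 LD3_c10) Lrfl Lrfl
theorem f251556 : Led Lsl_cf (LP (LK LD1_c5 LD2_c8 LD3_c43)) = (LP (LK LD1_c5 LD2_c6 LD3_c8)) :=
  Lgr Lrot11 (Lpr_ct (K14.f251449 IH) (Lpn (LP (LK LD1_c5 LD2_c6 LD3_c8))))
theorem f169597 : Led Lsl_gt (LP (LK LD1_c2 LD2_c30 LD3_c21)) = (LP (LK LD1_c1 LD2_c12 LD3_c11)) :=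
  Lre_g IH (LK LD1_c2 LD2_c30 LD3_c21) (LK LD1_c1 LD2_c12 LD3_c11) Lrfl Lrfl
theorem f256270 : Led Lsl_dt (LP (LK LD1_c2 LD2_c30 LD3_c21)) = (LP (LK LD1_c1 LD2_c25 LD3_c3)) :=
  Lgr Lrot6 (Lpr_gt (f169597 IH) (Lpr_ct (K14.f180544 IH) (Lpr_gt (K14.f169670 IH) (Lpe (f251556 IH) (Lpr_df (K14.f251297 IH) (Lpe (K14.f251291 IH) (Lpe (K14.f246661 IH) (Lpr_cf (K14.f230322 IH) (Lpr_gf (K14.f256262 IH) (Lpn (LP (LK LD1_c1 LD2_c25 LD3_c3))))))))))))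
theorem f257542 : Led Lsl_gt (LP (LK LD1_c1 LD2_c15 LD3_c10)) = (LP (LK LD1_c2 LD2_c30 LD3_c21)) :=
  Lgr Lrot94 (Lpe (f183988 IH) (Lpr_gt (f257540 IH) (Lpr_dt (f257531 IH) (Lpe (f257529 IH) (Lpr_dt (K14.f32890 IH) (Lpe (K10.f32891 IH) (Lpe (K14.f248466 IH) (Lpr_gf (K14.f256262 IH) (Lpe (f256270 IH) (Lpn (LP (LK LD1_c2 LD2_c30 LD3_c21))))))))))))
theorem f184627 : Led Lsl_ct (LP (LK LD1_c2 LD2_c30 LD3_c21)) = (LP (LK LD1_c5 LD2_c6 LD3_c6)) :=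
  Lre_c IH (LK LD1_c2 LD2_c30 LD3_c21) (LK LD1_c5 LD2_c6 LD3_c6) Lrfl Lrfl
theorem f257549 : Led Lsl_dt (LP (LK LD1_c10 LD2_c3 LD3_c9)) = (LP (LK LD1_c5 LD2_c6 LD3_c6)) :=
  Lre_d IH (LK LD1_c10 LD2_c3 LD3_c9) (LK LD1_c5 LD2_c6 LD3_c6) Lrfl Lrfl
theorem f257550 : Led Lsl_ct (LP (LK LD1_c9 LD2_c57 LD3_c29)) = (LP (LK LD1_c10 LD2_c3 LD3_c9)) :=
  Lgr Lrot110 (Lpe (f184510 IH) (Lpe (K14.f248478 IH) (Lpe (K14.f255879 IH) (Lpe (K14.f169671 IH) (Lpe (K14.f251558 IH) (Lpr_ct (f183988 IH) (Lpr_gt (f257542 IH) (Lpr_ct (f184627 IH) (Lpe (f257549 IH) (Lpn (LP (LK LD1_c10 LD2_c3 LD3_c9))))))))))))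
theorem f257426 : Led Lsl_dt (LP (LK LD1_c5 LD2_c10 LD3_c7)) = (LP (LK LD1_c9 LD2_c57 LD3_c29)) :=
  Lgr Lrot42 (Lpr_df (f257422 IH) (Lpn (LP (LK LD1_c9 LD2_c57 LD3_c29))))
theorem f44127 : Led Lsl_gt (LP (LK LD1_c2 LD2_c36 LD3_c27)) = (LP (LK LD1_c5 LD2_c19 LD3_c37)) :=
  Lre_g IH (LK LD1_c2 LD2_c36 LD3_c27) (LK LD1_c5 LD2_c19 LD3_c37) Lrfl Lrfl
theorem f31515 : Led Lsl_dt (LP (LK LD1_c2 LD2_c25 LD3_c1)) = (LP (LK LD1_c1 LD2_c9 LD3_c45)) :=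
  Lre_d IH (LK LD1_c2 LD2_c25 LD3_c1) (LK LD1_c1 LD2_c9 LD3_c45) Lrfl Lrfl
theorem f229992 : Led Lsl_dt (LP (LK LD1_c5 LD2_c19 LD3_c37)) = (LP (LK LD1_c8 LD2_c3 LD3_c57)) :=
  Lgr Lrot105 (Lpe (f44127 IH) (Lpe (K14.f44126 IH) (Lpe (K14.f44275 IH) (Lpr_cf (K14.f229981 IH) (Lpr_gt (K10.f31520 IH) (Lpr_dt (f31515 IH) (Lpr_gt (K14.f192982 IH) (Lpr_dt (K14.f182057 IH) (Lpe (K10.f182049 IH) (Lpn (LP (LK LD1_c8 LD2_c3 LD3_c57))))))))))))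
theorem f257552 : Led Lsl_dt (LP (LK LD1_c5 LD2_c6 LD3_c6)) = (LP (LK LD1_c10 LD2_c3 LD3_c9)) :=
  Lre_d IH (LK LD1_c5 LD2_c6 LD3_c6) (LK LD1_c10 LD2_c3 LD3_c9) Lrfl Lrfl
theorem f257559 : Led Lsl_gt (LP (LK LD1_c8 LD2_c3 LD3_c57)) = (LP (LK LD1_c5 LD2_c6 LD3_c6)) :=
  Lgr Lrot189 (Lpe (f229992 IH) (Lpe (f44127 IH) (Lpr_ct (K14.f46377 IH) (Lpr_gt (K14.f248276 IH) (Lpr_dt (K14.f189584 IH) (Lpr_gt (f185406 IH) (Lpr_dt (f257426 IH) (Lpr_ct (f257550 IH) (Lpe (f257552 IH) (Lpn (LP (LK LD1_c5 LD2_c6 LD3_c6))))))))))))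
theorem f184628 : Led Lsl_ct (LP (LK LD1_c5 LD2_c6 LD3_c6)) = (LP (LK LD1_c2 LD2_c30 LD3_c21)) :=
  Lre_c IH (LK LD1_c5 LD2_c6 LD3_c6) (LK LD1_c2 LD2_c30 LD3_c21) Lrfl Lrfl
theorem f256274 : Led Lsl_df (LP (LK LD1_c2 LD2_c30 LD3_c21)) = (LP (LK LD1_c1 LD2_c25 LD3_c3)) :=
  Lgr Lrot155 (Lpr_gt (f169597 IH) (Lpr_ct (K14.f180544 IH) (Lpr_gt (K14.f169670 IH) (Lpe (f251556 IH) (Lpr_dt (K14.f251303 IH) (Lpe (K14.f251291 IH) (Lpe (K14.f246661 IH) (Lpr_cf (K14.f230322 IH) (Lpr_gf (K14.f256262 IH) (Lpn (LP (LK LD1_c1 LD2_c25 LD3_c3))))))))))))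
theorem f256272 : Led Lsl_gt (LP (LK LD1_c3 LD2_c56 LD3_c57)) = (LP (LK LD1_c2 LD2_c58 LD3_c36)) :=
  Lgr Lrot9 (Lpe (K12.f229651 IH) (Lpr_gt (K12.f28268 IH) (Lpr_ct (K1.f28254 IH) (Lpe (K13.f184229 IH) (Lpr_ct (K14.f165431 IH) (Lpe (K14.f248480 IH) (Lpr_cf (K14.f230322 IH) (Lpr_gf (K14.f256262 IH) (Lpe (K14.f240282 IH) (Lpn (LP (LK LD1_c2 LD2_c58 LD3_c36))))))))))))
theorem f257568 : Led Lsl_dt (LP (LK LD1_c5 LD2_c2 LD3_c50)) = (LP (LK LD1_c4 LD2_c18 LD3_c58)) :=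
  Lgr Lrot6 (Lpr_gt (K14.f249366 IH) (Lpr_ct (K10.f182050 IH) (Lpr_gt (f257559 IH) (Lpr_ct (f184628 IH) (Lpr_df (f256274 IH) (Lpe (K14.f240282 IH) (Lpe (f256272 IH) (Lpe (K12.f229917 IH) (Lpr_gf (K12.f229516 IH) (Lpn (LP (LK LD1_c4 LD2_c18 LD3_c58))))))))))))
theorem f45227 : Led Lsl_ct (LP (LK LD1_c0 LD2_c34 LD3_c30)) = (LP (LK LD1_c0 LD2_c59 LD3_c30)) :=
  Lgr Lrot111 (Lpe (K1.f32275 IH) (Lpr_cf (K1.f45220 IH) (Lpe (K10.f45151 IH) (Lpn (LP (LK LD1_c0 LD2_c59 LD3_c30))))))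
theorem f49197 : Led Lsl_ct (LP (LK LD1_c8 LD2_c26 LD3_c16)) = (LP (LK LD1_c4 LD2_c13 LD3_c44)) :=
  Lre_c IH (LK LD1_c8 LD2_c26 LD3_c16) (LK LD1_c4 LD2_c13 LD3_c44) Lrfl Lrfl
theorem f191161 : Led Lsl_gt (LP (LK LD1_c5 LD2_c12 LD3_c9)) = (LP (LK LD1_c8 LD2_c26 LD3_c16)) :=
  Lgr Lrot150 (Lpe (K14.f185683 IH) (Lpr_gf (K12.f191158 IH) (Lpe (K12.f32429 IH) (Lpr_gt (K10.f32876 IH) (Lpr_ct (f45227 IH) (Lpr_gt (K10.f45137 IH) (Lpe (K10.f49195 IH) (Lpe (K14.f49166 IH) (Lpe (f49197 IH) (Lpn (LP (LK LD1_c8 LD2_c26 LD3_c16))))))))))))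
theorem f49199 : Led Lsl_ct (LP (LK LD1_c4 LD2_c13 LD3_c44)) = (LP (LK LD1_c8 LD2_c26 LD3_c16)) :=
  Lre_c IH (LK LD1_c4 LD2_c13 LD3_c44) (LK LD1_c8 LD2_c26 LD3_c16) Lrfl Lrfl
theorem f189776 : Led Lsl_bt (LP (LK LD1_c4 LD2_c13 LD3_c44)) = (LP (LK LD1_c4 LD2_c54 LD3_c15)) :=
  Lgr Lrot95 (Lpe (K14.f49187 IH) (Lpr_bf (K10.f189731 IH) (Lpe (K14.f43422 IH) (Lpn (LP (LK LD1_c4 LD2_c54 LD3_c15))))))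
theorem f212240 : Led Lsl_gf (LP (LK LD1_c5 LD2_c2 LD3_c50)) = (LP (LK LD1_c4 LD2_c54 LD3_c15)) :=
  Lgr Lrot124 (Lpe (K14.f212239 IH) (Lpr_ct (K12.f192128 IH) (Lpe (K12.f192129 IH) (Lpe (K12.f45747 IH) (Lpr_bt (K12.f212229 IH) (Lpe (K12.f191158 IH) (Lpr_ct (K14.f185683 IH) (Lpr_gt (f191161 IH) (Lpe (f49199 IH) (Lpr_bt (f189776 IH) (Lpn (LP (LK LD1_c4 LD2_c54 LD3_c15)))))))))))))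
theorem f43418 : Led Lsl_dt (LP (LK LD1_c2 LD2_c25 LD3_c0)) = (LP (LK LD1_c4 LD2_c54 LD3_c15)) :=
  Lre_d IH (LK LD1_c2 LD2_c25 LD3_c0) (LK LD1_c4 LD2_c54 LD3_c15) Lrfl Lrfl
theorem f45905 : Led Lsl_ct (LP (LK LD1_c2 LD2_c36 LD3_c14)) = (LP (LK LD1_c5 LD2_c19 LD3_c8)) :=
  Lre_c IH (LK LD1_c2 LD2_c36 LD3_c14) (LK LD1_c5 LD2_c19 LD3_c8) Lrfl Lrfl
theorem f255877 : Led Lsl_gt (LP (LK LD1_c5 LD2_c24 LD3_c22)) = (LP (LK LD1_c3 LD2_c56 LD3_c57)) :=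
  Lgr Lrot94 (Lpe (f223863 IH) (Lpr_gt (K14.f255871 IH) (Lpe (K14.f248444 IH) (Lpr_gt (K14.f28269 IH) (Lpr_dt (K1.f28255 IH) (Lpe (K1.f28251 IH) (Lpe (K12.f28267 IH) (Lpe (K12.f28268 IH) (Lpr_df (K12.f229646 IH) (Lpn (LP (LK LD1_c3 LD2_c56 LD3_c57))))))))))))
theorem f165337 : Led Lsl_ct (LP (LK LD1_c5 LD2_c2 LD3_c4)) = (LP (LK LD1_c2 LD2_c28 LD3_c40)) :=
  Lre_c IH (LK LD1_c5 LD2_c2 LD3_c4) (LK LD1_c2 LD2_c28 LD3_c40) Lrfl Lrfl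
theorem f257048 : Led Lsl_gt (LP (LK LD1_c5 LD2_c19 LD3_c8)) = (LP (LK LD1_c5 LD2_c2 LD3_c4)) :=
  Lgr Lrot150 (Lpe (f45905 IH) (Lpr_gf (f257040 IH) (Lpe (f257030 IH) (Lpr_gt (f255877 IH) (Lpe (K14.f229919 IH) (Lpr_gt (K12.f230412 IH) (Lpr_ct (K12.f229933 IH) (Lpe (K14.f251621 IH) (Lpe (f165337 IH) (Lpn (LP (LK LD1_c5 LD2_c2 LD3_c4))))))))))))
theorem f249378 : Led Lsl_ct (LP (LK LD1_c5 LD2_c12 LD3_c4)) = (LP (LK LD1_c9 LD2_c40 LD3_c8)) :=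
  Lgr Lrot59 (Lpr_cf (K14.f249368 IH) (Lpn (LP (LK LD1_c9 LD2_c40 LD3_c8))))
theorem f43436 : Led Lsl_cf (LP (LK LD1_c9 LD2_c40 LD3_c5)) = (LP (LK LD1_c9 LD2_c39 LD3_c60)) :=
  Lgr Lrot11 (Lpr_ct (K9.f43434 IH) (Lpn (LP (LK LD1_c9 LD2_c39 LD3_c60))))
theorem f43444 : Led Lsl_at (LP (LK LD1_c9 LD2_c40 LD3_c33)) = (LP (LK LD1_c9 LD2_c39 LD3_c60)) :=
  Lgr Lrot33 (Lpe (K9.f43443 IH) (Lpr_dt (K14.f43416 IH) (Lpr_ct (K10.f43415 IH) (Lpr_dt (K9.f31525 IH) (Lpr_ct (K9.f31521 IH) (Lpr_dt (K1.f31464 IH) (Lpr_ct (K9.f31482 IH) (Lpr_dt (K9.f43431 IH) (Lpr_ct (K9.f43434 IH) (Lpn (LP (LK LD1_c9 LD2_c39 LD3_c60))))))))))))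
theorem f43803 : Led Lsl_gt (LP (LK LD1_c9 LD2_c40 LD3_c29)) = (LP (LK LD1_c9 LD2_c39 LD3_c60)) :=
  Lgr Lrot46 (Lpe (f43802 IH) (Lpr_ft (K9.f43443 IH) (Lpr_at (f43444 IH) (Lpn (LP (LK LD1_c9 LD2_c39 LD3_c60))))))
theorem f257062 : Led Lsl_dt (LP (LK LD1_c5 LD2_c19 LD3_c8)) = (LP (LK LD1_c9 LD2_c40 LD3_c29)) :=
  Lgr Lrot6 (Lpr_gt (f257048 IH) (Lpr_ct (f165337 IH) (Lpe (K14.f193130 IH) (Lpr_ct (K14.f43836 IH) (Lpe (K14.f43835 IH) (Lpe (f249378 IH) (Lpr_gf (K14.f249105 IH) (Lpr_cf (f43436 IH) (Lpe (f43803 IH) (Lpn (LP (LK LD1_c9 LD2_c40 LD3_c29))))))))))))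
theorem f166628 : Led Lsl_gt (LP (LK LD1_c2 LD2_c28 LD3_c41)) = (LP (LK LD1_c1 LD2_c11 LD3_c32)) :=
  Lre_g IH (LK LD1_c2 LD2_c28 LD3_c41) (LK LD1_c1 LD2_c11 LD3_c32) Lrfl Lrfl
theorem f184879 : Led Lsl_ct (LP (LK LD1_c5 LD2_c2 LD3_c7)) = (LP (LK LD1_c2 LD2_c28 LD3_c41)) :=
  Lre_c IH (LK LD1_c5 LD2_c2 LD3_c7) (LK LD1_c2 LD2_c28 LD3_c41) Lrfl Lrfl
theorem f257083 : Led Lsl_gf (LP (LK LD1_c5 LD2_c19 LD3_c8)) = (LP (LK LD1_c5 LD2_c2 LD3_c7)) :=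
  Lgr Lrot144 (Lpr_dt (f257062 IH) (Lpr_gt (f43803 IH) (Lpr_dt (K9.f43433 IH) (Lpe (K9.f43450 IH) (Lpe (K10.f43354 IH) (Lpr_gf (K10.f184875 IH) (Lpe (K14.f165325 IH) (Lpe (f166628 IH) (Lpe (f184879 IH) (Lpn (LP (LK LD1_c5 LD2_c2 LD3_c7))))))))))))
theorem f184646 : Led Lsl_ct (LP (LK LD1_c5 LD2_c19 LD3_c8)) = (LP (LK LD1_c2 LD2_c36 LD3_c14)) :=
  Lre_c IH (LK LD1_c5 LD2_c19 LD3_c8) (LK LD1_c2 LD2_c36 LD3_c14) Lrfl Lrfl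
theorem f184880 : Led Lsl_ct (LP (LK LD1_c2 LD2_c28 LD3_c41)) = (LP (LK LD1_c5 LD2_c2 LD3_c7)) :=
  Lre_c IH (LK LD1_c2 LD2_c28 LD3_c41) (LK LD1_c5 LD2_c2 LD3_c7) Lrfl Lrfl
theorem f257086 : Led Lsl_gt (LP (LK LD1_c2 LD2_c25 LD3_c3)) = (LP (LK LD1_c2 LD2_c28 LD3_c41)) :=
  Lgr Lrot9 (Lpe (K14.f43833 IH) (Lpr_gt (K12.f31527 IH) (Lpr_ct (K9.f31521 IH) (Lpr_gt (K14.f192982 IH) (Lpr_ct (K10.f184644 IH) (Lpe (K13.f43947 IH) (Lpe (f184646 IH) (Lpr_gf (f257083 IH) (Lpe (f184880 IH) (Lpn (LP (LK LD1_c2 LD2_c28 LD3_c41))))))))))))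
theorem f257574 : Led Lsl_dt (LP (LK LD1_c2 LD2_c28 LD3_c41)) = (LP (LK LD1_c2 LD2_c6 LD3_c44)) :=
  Lgr Lrot105 (Lpe (f257086 IH) (Lpe (K14.f43833 IH) (Lpe (K12.f43831 IH) (Lpe (K9.f43351 IH) (Lpe (K10.f43413 IH) (Lpr_dt (f43418 IH) (Lpe (f212240 IH) (Lpr_dt (f257568 IH) (Lpe (K12.f171473 IH) (Lpn (LP (LK LD1_c2 LD2_c6 LD3_c44))))))))))))
theorem f249418 : Led Lsl_cf (LP (LK LD1_c5 LD2_c2 LD3_c12)) = (LP (LK LD1_c5 LD2_c19 LD3_c49)) :=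
  Lgr Lrot11 (Lpr_ct (K14.f249380 IH) (Lpn (LP (LK LD1_c5 LD2_c19 LD3_c49))))
theorem f177632 : Led Lsl_dt (LP (LK LD1_c5 LD2_c2 LD3_c12)) = (LP (LK LD1_c2 LD2_c28 LD3_c42)) :=
  Lre_d IH (LK LD1_c5 LD2_c2 LD3_c12) (LK LD1_c2 LD2_c28 LD3_c42) Lrfl Lrfl
theorem f43524 : Led Lsl_ct (LP (LK LD1_c4 LD2_c54 LD3_c27)) = (LP (LK LD1_c9 LD2_c40 LD3_c31)) :=
  Lre_c IH (LK LD1_c4 LD2_c54 LD3_c27) (LK LD1_c9 LD2_c40 LD3_c31) Lrfl Lrfl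
theorem f249473 : Led Lsl_gf (LP (LK LD1_c5 LD2_c2 LD3_c7)) = (LP (LK LD1_c5 LD2_c17 LD3_c39)) :=
  Lgr Lrot147 (Lpr_ct (f184879 IH) (Lpr_gt (f166628 IH) (Lpr_ct (K11.f165294 IH) (Lpe (f177632 IH) (Lpr_cf (f249418 IH) (Lpe (K14.f249207 IH) (Lpe (f43524 IH) (Lpe (K14.f43763 IH) (Lpr_df (K14.f193117 IH) (Lpn (LP (LK LD1_c5 LD2_c17 LD3_c39))))))))))))
theorem f256268 : Led Lsl_gf (LP (LK LD1_c5 LD2_c19 LD3_c3)) = (LP (LK LD1_c2 LD2_c58 LD3_c36)) :=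
  Lgr Lrot144 (Lpr_dt (K14.f33117 IH) (Lpr_gt (K14.f247956 IH) (Lpr_dt (K14.f45898 IH) (Lpe (K1.f28293 IH) (Lpe (K9.f45900 IH) (Lpr_gf (K12.f212324 IH) (Lpe (K14.f248466 IH) (Lpr_gf (K14.f256262 IH) (Lpe (K14.f240282 IH) (Lpn (LP (LK LD1_c2 LD2_c58 LD3_c36))))))))))))
theorem f45614 : Led Lsl_et (LP (LK LD1_c0 LD2_c27 LD3_c6)) = (LP (LK LD1_c0 LD2_c59 LD3_c32)) :=
  Lre_e IH (LK LD1_c0 LD2_c27 LD3_c6) (LK LD1_c0 LD2_c59 LD3_c32) Lrfl Lrfl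
theorem f183868 : Led Lsl_et (LP (LK LD1_c2 LD2_c58 LD3_c36)) = (LP (LK LD1_c1 LD2_c25 LD3_c1)) :=
  Lre_e IH (LK LD1_c2 LD2_c58 LD3_c36) (LK LD1_c1 LD2_c25 LD3_c1) Lrfl Lrfl
theorem f240259 : Led Lsl_df (LP (LK LD1_c5 LD2_c11 LD3_c58)) = (LP (LK LD1_c2 LD2_c58 LD3_c36)) :=
  Lgr Lrot132 (Lpr_gf (K13.f240250 IH) (Lpe (K13.f44020 IH) (Lpe (K10.f43946 IH) (Lpe (K1.f43923 IH) (Lpe (K12.f43919 IH) (Lpe (K8.f45790 IH) (Lpe (K8.f47504 IH) (Lpr_et (f45614 IH) (Lpr_gf (K10.f187839 IH) (Lpe (f183868 IH) (Lpn (LP (LK LD1_c2 LD2_c58 LD3_c36)))))))))))))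
theorem f257598 : Led Lsl_gf (LP (LK LD1_c2 LD2_c35 LD3_c34)) = (LP (LK LD1_c5 LD2_c11 LD3_c58)) :=
  Lgr Lrot179 (Lpr_ct (K14.f184834 IH) (Lpe (f249473 IH) (Lpr_ct (f184879 IH) (Lpr_dt (f257574 IH) (Lpe (K12.f171476 IH) (Lpr_gf (K12.f230324 IH) (Lpe (f229943 IH) (Lpr_gf (f256268 IH) (Lpe (f240259 IH) (Lpn (LP (LK LD1_c5 LD2_c11 LD3_c58))))))))))))
theorem f257425 : Led Lsl_bt (LP (LK LD1_c1 LD2_c14 LD3_c51)) = (LP (LK LD1_c2 LD2_c35 LD3_c34)) :=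
  Lre_b IH (LK LD1_c1 LD2_c14 LD3_c51) (LK LD1_c2 LD2_c35 LD3_c34) Lrfl Lrfl
theorem f32414 : Led Lsl_ct (LP (LK LD1_c1 LD2_c14 LD3_c51)) = (LP (LK LD1_c2 LD2_c35 LD3_c36)) :=
  Lre_c IH (LK LD1_c1 LD2_c14 LD3_c51) (LK LD1_c2 LD2_c35 LD3_c36) Lrfl Lrfl
theorem f249483 : Led Lsl_bt (LP (LK LD1_c2 LD2_c28 LD3_c41)) = (LP (LK LD1_c5 LD2_c2 LD3_c6)) :=
  Lre_b IH (LK LD1_c2 LD2_c28 LD3_c41) (LK LD1_c5 LD2_c2 LD3_c6) Lrfl Lrfl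
theorem f193002 : Led Lsl_bf (LP (LK LD1_c1 LD2_c57 LD3_c29)) = (LP (LK LD1_c2 LD2_c36 LD3_c14)) :=
  Lgr Lrot24 (Lpr_bt (K13.f192995 IH) (Lpn (LP (LK LD1_c2 LD2_c36 LD3_c14))))
theorem f257088 : Led Lsl_gt (LP (LK LD1_c2 LD2_c58 LD3_c59)) = (LP (LK LD1_c5 LD2_c2 LD3_c6)) :=
  Lgr Lrot164 (Lpr_bf (K14.f195628 IH) (Lpr_ct (K13.f165477 IH) (Lpr_gf (K13.f196113 IH) (Lpe (K13.f183942 IH) (Lpe (K13.f196110 IH) (Lpr_bf (f193002 IH) (Lpr_ct (f45905 IH) (Lpr_gf (f257083 IH) (Lpe (f184880 IH) (Lpr_bt (f249483 IH) (Lpn (LP (LK LD1_c5 LD2_c2 LD3_c6)))))))))))))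
theorem f240226 : Led Lsl_ft (LP (LK LD1_c2 LD2_c58 LD3_c59)) = (LP (LK LD1_c2 LD2_c31 LD3_c27)) :=
  Lgr Lrot75 (Lpr_bf (K14.f195628 IH) (Lpr_ff (K13.f240224 IH) (Lpe (K14.f33194 IH) (Lpn (LP (LK LD1_c2 LD2_c31 LD3_c27))))))
theorem f252224 : Led Lsl_af (LP (LK LD1_c4 LD2_c13 LD3_c37)) = (LP (LK LD1_c2 LD2_c31 LD3_c27)) :=
  Lgr Lrot117 (Lpr_dt (K14.f45014 IH) (Lpr_at (K14.f252218 IH) (Lpr_dt (K14.f33266 IH) (Lpn (LP (LK LD1_c2 LD2_c31 LD3_c27))))))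
theorem f257090 : Led Lsl_gf (LP (LK LD1_c4 LD2_c13 LD3_c37)) = (LP (LK LD1_c5 LD2_c2 LD3_c6)) :=
  Lgr Lrot76 (Lpr_af (f252224 IH) (Lpe (f240226 IH) (Lpr_gt (f257088 IH) (Lpn (LP (LK LD1_c5 LD2_c2 LD3_c6))))))
theorem f231820 : Led Lsl_bf (LP (LK LD1_c4 LD2_c13 LD3_c37)) = (LP (LK LD1_c4 LD2_c54 LD3_c0)) :=
  Lgr Lrot93 (Lpr_dt (K14.f45014 IH) (Lpr_bt (K14.f231792 IH) (Lpr_dt (K14.f43824 IH) (Lpn (LP (LK LD1_c4 LD2_c54 LD3_c0))))))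
theorem f50764 : Led Lsl_ct (LP (LK LD1_c4 LD2_c54 LD3_c0)) = (LP (LK LD1_c9 LD2_c39 LD3_c29)) :=
  Lre_c IH (LK LD1_c4 LD2_c54 LD3_c0) (LK LD1_c9 LD2_c39 LD3_c29) Lrfl Lrfl
theorem f257779 : Led Lsl_gt (LP (LK LD1_c9 LD2_c39 LD3_c29)) = (LP (LK LD1_c5 LD2_c11 LD3_c59)) :=
  Lgr Lrot65 (Lpe (f50764 IH) (Lpe (f231820 IH) (Lpr_gf (f257090 IH) (Lpe (f249483 IH) (Lpr_ct (f184880 IH) (Lpr_gf (f249473 IH) (Lpe (K14.f184834 IH) (Lpr_gf (f257598 IH) (Lpe (K13.f190325 IH) (Lpr_ct (K13.f190316 IH) (Lpn (LP (LK LD1_c5 LD2_c11 LD3_c59)))))))))))))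
theorem f257781 : Led Lsl_gt (LP (LK LD1_c2 LD2_c35 LD3_c36)) = (LP (LK LD1_c5 LD2_c17 LD3_c32)) :=
  Lgr Lrot65 (Lpe (f32414 IH) (Lpr_bt (f257425 IH) (Lpr_gf (f257598 IH) (Lpe (K13.f190325 IH) (Lpr_ct (K13.f190316 IH) (Lpe (f257779 IH) (Lpe (f50764 IH) (Lpr_gf (K14.f251299 IH) (Lpr_bf (K14.f240137 IH) (Lpr_ct (K14.f188402 IH) (Lpn (LP (LK LD1_c5 LD2_c17 LD3_c32)))))))))))))
theorem f49107 : Led Lsl_dt (LP (LK LD1_c2 LD2_c35 LD3_c36)) = (LP (LK LD1_c5 LD2_c17 LD3_c43)) :=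
  Lre_d IH (LK LD1_c2 LD2_c35 LD3_c36) (LK LD1_c5 LD2_c17 LD3_c43) Lrfl Lrfl
theorem f188404 : Led Lsl_cf (LP (LK LD1_c5 LD2_c0 LD3_c59)) = (LP (LK LD1_c5 LD2_c17 LD3_c32)) :=
  Lgr Lrot166 (Lpr_gt (K14.f170516 IH) (Lpr_dt (K14.f165863 IH) (Lpr_gt (K9.f184117 IH) (Lpr_dt (K9.f49813 IH) (Lpe (K10.f188325 IH) (Lpr_df (K13.f188331 IH) (Lpe (K10.f53547 IH) (Lpe (K10.f48945 IH) (Lpe (K14.f53549 IH) (Lpn (LP (LK LD1_c5 LD2_c17 LD3_c32))))))))))))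
theorem f257785 : Led Lsl_gt (LP (LK LD1_c5 LD2_c17 LD3_c43)) = (LP (LK LD1_c8 LD2_c15 LD3_c53)) :=
  Lgr Lrot9 (Lpe (f49107 IH) (Lpr_gt (f257781 IH) (Lpe (f188404 IH) (Lpr_gt (K14.f170516 IH) (Lpr_ct (K10.f3754 IH) (Lpe (K10.f184119 IH) (Lpe (K10.f188497 IH) (Lpe (K10.f53560 IH) (Lpr_cf (K10.f49569 IH) (Lpn (LP (LK LD1_c8 LD2_c15 LD3_c53))))))))))))
theorem f49110 : Led Lsl_dt (LP (LK LD1_c4 LD2_c7 LD3_c58)) = (LP (LK LD1_c8 LD2_c15 LD3_c57)) :=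
  Lre_d IH (LK LD1_c4 LD2_c7 LD3_c58) (LK LD1_c8 LD2_c15 LD3_c57) Lrfl Lrfl
theorem f48337 : Led Lsl_dt (LP (LK LD1_c1 LD2_c14 LD3_c51)) = (LP (LK LD1_c0 LD2_c34 LD3_c43)) :=
  Lre_d IH (LK LD1_c1 LD2_c14 LD3_c51) (LK LD1_c0 LD2_c34 LD3_c43) Lrfl Lrfl
theorem f49108 : Led Lsl_ct (LP (LK LD1_c2 LD2_c35 LD3_c36)) = (LP (LK LD1_c1 LD2_c14 LD3_c51)) :=
  Lre_c IH (LK LD1_c2 LD2_c35 LD3_c36) (LK LD1_c1 LD2_c14 LD3_c51) Lrfl Lrfl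
theorem f49111 : Led Lsl_dt (LP (LK LD1_c5 LD2_c17 LD3_c43)) = (LP (LK LD1_c2 LD2_c35 LD3_c36)) :=
  Lre_d IH (LK LD1_c5 LD2_c17 LD3_c43) (LK LD1_c2 LD2_c35 LD3_c36) Lrfl Lrfl
theorem f181203 : Led Lsl_ct (LP (LK LD1_c1 LD2_c25 LD3_c8)) = (LP (LK LD1_c2 LD2_c58 LD3_c51)) :=
  Lre_c IH (LK LD1_c1 LD2_c25 LD3_c8) (LK LD1_c2 LD2_c58 LD3_c51) Lrfl Lrfl
theorem f182085 : Led Lsl_dt (LP (LK LD1_c2 LD2_c58 LD3_c51)) = (LP (LK LD1_c6 LD2_c5 LD3_c31)) :=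
  Lre_d IH (LK LD1_c2 LD2_c58 LD3_c51) (LK LD1_c6 LD2_c5 LD3_c31) Lrfl Lrfl
theorem f188211 : Led Lsl_cf (LP (LK LD1_c5 LD2_c17 LD3_c43)) = (LP (LK LD1_c6 LD2_c5 LD3_c31)) :=
  Lgr Lrot55 (Lpr_dt (f49111 IH) (Lpr_ct (f49108 IH) (Lpr_dt (f48337 IH) (Lpe (K9.f49103 IH) (Lpr_dt (K10.f47781 IH) (Lpr_ct (K10.f49109 IH) (Lpr_dt (f49110 IH) (Lpr_ct (K10.f188200 IH) (Lpr_dt (K10.f49120 IH) (Lpr_ct (K10.f48236 IH) (Lpr_dt (K10.f48244 IH) (Lpe (K10.f182062 IH) (Lpr_dt (K14.f182084 IH) (Lpr_ct (f181203 IH) (Lpr_dt (f182085 IH) (Lpn (LP (LK LD1_c6 LD2_c5 LD3_c31))))))))))))))))))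
theorem f50795 : Led Lsl_dt (LP (LK LD1_c5 LD2_c17 LD3_c26)) = (LP (LK LD1_c2 LD2_c35 LD3_c29)) :=
  Lre_d IH (LK LD1_c5 LD2_c17 LD3_c26) (LK LD1_c2 LD2_c35 LD3_c29) Lrfl Lrfl
theorem f257801 : Led Lsl_gf (LP (LK LD1_c6 LD2_c5 LD3_c31)) = (LP (LK LD1_c5 LD2_c17 LD3_c26)) :=
  Lgr Lrot147 (Lpe (f188211 IH) (Lpr_gt (f257785 IH) (Lpe (K10.f49569 IH) (Lpe (K9.f49564 IH) (Lpe (K9.f49563 IH) (Lpr_gf (K10.f188040 IH) (Lpe (K10.f183470 IH) (Lpr_gf (K10.f187656 IH) (Lpe (f50795 IH) (Lpn (LP (LK LD1_c5 LD2_c17 LD3_c26))))))))))))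
theorem f257809 : Led Lsl_ft (LP (LK LD1_c5 LD2_c17 LD3_c26)) = (LP (LK LD1_c10 LD2_c23 LD3_c58)) :=
  Lre_f IH (LK LD1_c5 LD2_c17 LD3_c26) (LK LD1_c10 LD2_c23 LD3_c58) Lrfl Lrfl
theorem f187746 : Led Lsl_at (LP (LK LD1_c10 LD2_c23 LD3_c58)) = (LP (LK LD1_c5 LD2_c18 LD3_c14)) :=
  Lre_a IH (LK LD1_c10 LD2_c23 LD3_c58) (LK LD1_c5 LD2_c18 LD3_c14) Lrfl Lrfl
theorem f257810 : Led Lsl_gt (LP (LK LD1_c6 LD2_c5 LD3_c31)) = (LP (LK LD1_c5 LD2_c18 LD3_c14)) :=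
  Lgr Lrot46 (Lpr_gf (f257801 IH) (Lpr_ft (f257809 IH) (Lpr_at (f187746 IH) (Lpn (LP (LK LD1_c5 LD2_c18 LD3_c14))))))
theorem f182086 : Led Lsl_gt (LP (LK LD1_c6 LD2_c5 LD3_c29)) = (LP (LK LD1_c2 LD2_c58 LD3_c51)) :=
  Lre_g IH (LK LD1_c6 LD2_c5 LD3_c29) (LK LD1_c2 LD2_c58 LD3_c51) Lrfl Lrfl
theorem f187634 : Led Lsl_ct (LP (LK LD1_c6 LD2_c5 LD3_c59)) = (LP (LK LD1_c5 LD2_c17 LD3_c0)) :=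
  Lgr Lrot59 (Lpr_cf (K10.f187495 IH) (Lpn (LP (LK LD1_c5 LD2_c17 LD3_c0))))
theorem f187649 : Led Lsl_gt (LP (LK LD1_c5 LD2_c17 LD3_c14)) = (LP (LK LD1_c2 LD2_c35 LD3_c22)) :=
  Lre_g IH (LK LD1_c5 LD2_c17 LD3_c14) (LK LD1_c2 LD2_c35 LD3_c22) Lrfl Lrfl
theorem f257820 : Led Lsl_cf (LP (LK LD1_c6 LD2_c5 LD3_c29)) = (LP (LK LD1_c5 LD2_c17 LD3_c14)) :=
  Lgr Lrot166 (Lpr_gt (f182086 IH) (Lpr_dt (f182085 IH) (Lpr_gt (f257810 IH) (Lpe (K10.f187730 IH) (Lpr_ct (f187634 IH) (Lpe (K10.f32950 IH) (Lpe (K10.f32906 IH) (Lpe (K13.f49112 IH) (Lpe (f187649 IH) (Lpn (LP (LK LD1_c5 LD2_c17 LD3_c14))))))))))))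
theorem f181202 : Led Lsl_bt (LP (LK LD1_c1 LD2_c25 LD3_c8)) = (LP (LK LD1_c0 LD2_c39 LD3_c14)) :=
  Lre_b IH (LK LD1_c1 LD2_c25 LD3_c8) (LK LD1_c0 LD2_c39 LD3_c14) Lrfl Lrfl
theorem f177540 : Led Lsl_bt (LP (LK LD1_c0 LD2_c39 LD3_c31)) = (LP (LK LD1_c1 LD2_c25 LD3_c35)) :=
  Lre_b IH (LK LD1_c0 LD2_c39 LD3_c31) (LK LD1_c1 LD2_c25 LD3_c35) Lrfl Lrfl
theorem f257843 : Led Lsl_bf (LP (LK LD1_c2 LD2_c59 LD3_c45)) = (LP (LK LD1_c5 LD2_c17 LD3_c14)) :=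
  Lgr Lrot34 (Lpe (K13.f177541 IH) (Lpe (f177540 IH) (Lpr_ct (K10.f177452 IH) (Lpe (K10.f184902 IH) (Lpe (K10.f183937 IH) (Lpr_gf (K10.f184894 IH) (Lpe (f181202 IH) (Lpr_ct (f181203 IH) (Lpe (f182086 IH) (Lpr_cf (f257820 IH) (Lpn (LP (LK LD1_c5 LD2_c17 LD3_c14)))))))))))))
theorem f195607 : Led Lsl_bf (LP (LK LD1_c6 LD2_c5 LD3_c44)) = (LP (LK LD1_c4 LD2_c1 LD3_c45)) :=
  Lgr Lrot24 (Lpr_bt (K12.f195605 IH) (Lpn (LP (LK LD1_c4 LD2_c1 LD3_c45))))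
theorem f257864 : Led Lsl_ft (LP (LK LD1_c6 LD2_c5 LD3_c44)) = (LP (LK LD1_c5 LD2_c17 LD3_c14)) :=
  Lgr Lrot75 (Lpr_bf (f195607 IH) (Lpe (K13.f239485 IH) (Lpr_bf (f257843 IH) (Lpn (LP (LK LD1_c5 LD2_c17 LD3_c14))))))
theorem f257870 : Led Lsl_ff (LP (LK LD1_c6 LD2_c5 LD3_c44)) = (LP (LK LD1_c5 LD2_c17 LD3_c14)) :=
  Lgr Lrot3 (Lpr_ft (f257864 IH) (Lpn (LP (LK LD1_c5 LD2_c17 LD3_c14))))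
theorem f257875 : Led Lsl_at (LP (LK LD1_c6 LD2_c5 LD3_c44)) = (LP (LK LD1_c5 LD2_c17 LD3_c13)) :=
  Lgr Lrot26 (Lpr_ff (f257870 IH) (Lpr_gt (f187649 IH) (Lpr_gt (K10.f48235 IH) (Lpn (LP (LK LD1_c5 LD2_c17 LD3_c13))))))
theorem f257877 : Led Lsl_af (LP (LK LD1_c2 LD2_c58 LD3_c60)) = (LP (LK LD1_c4 LD2_c13 LD3_c45)) :=
  Lgr Lrot117 (Lpr_dt (K9.f169566 IH) (Lpr_at (f257875 IH) (Lpe (K10.f49163 IH) (Lpn (LP (LK LD1_c4 LD2_c13 LD3_c45))))))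
theorem f195698 : Led Lsl_et (LP (LK LD1_c1 LD2_c25 LD3_c12)) = (LP (LK LD1_c2 LD2_c58 LD3_c60)) :=
  Lre_e IH (LK LD1_c1 LD2_c25 LD3_c12) (LK LD1_c2 LD2_c58 LD3_c60) Lrfl Lrfl
theorem f239709 : Led Lsl_ff (LP (LK LD1_c2 LD2_c31 LD3_c28)) = (LP (LK LD1_c2 LD2_c45 LD3_c37)) :=
  Lgr Lrot25 (Lpr_bt (K12.f33198 IH) (Lpr_ft (K13.f239707 IH) (Lpr_bt (K13.f200562 IH) (Lpn (LP (LK LD1_c2 LD2_c45 LD3_c37))))))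
theorem f199572 : Led Lsl_bt (LP (LK LD1_c2 LD2_c3 LD3_c16)) = (LP (LK LD1_c4 LD2_c12 LD3_c8)) :=
  Lre_b IH (LK LD1_c2 LD2_c3 LD3_c16) (LK LD1_c4 LD2_c12 LD3_c8) Lrfl Lrfl
theorem f200557 : Led Lsl_ef (LP (LK LD1_c2 LD2_c45 LD3_c37)) = (LP (LK LD1_c4 LD2_c12 LD3_c8)) :=
  Lgr Lrot29 (Lpr_bt (K13.f179105 IH) (Lpr_et (K13.f200409 IH) (Lpr_bt (f199572 IH) (Lpn (LP (LK LD1_c4 LD2_c12 LD3_c8))))))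
theorem f252232 : Led Lsl_ft (LP (LK LD1_c2 LD2_c58 LD3_c60)) = (LP (LK LD1_c4 LD2_c12 LD3_c8)) :=
  Lgr Lrot86 (Lpe (f195698 IH) (Lpr_ff (K14.f252228 IH) (Lpe (K12.f33261 IH) (Lpr_ff (f239709 IH) (Lpr_ef (f200557 IH) (Lpn (LP (LK LD1_c4 LD2_c12 LD3_c8))))))))
theorem f200566 : Led Lsl_at (LP (LK LD1_c4 LD2_c12 LD3_c8)) = (LP (LK LD1_c8 LD2_c23 LD3_c56)) :=
  Lre_a IH (LK LD1_c4 LD2_c12 LD3_c8) (LK LD1_c8 LD2_c23 LD3_c56) Lrfl Lrfl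
theorem f257885 : Led Lsl_ft (LP (LK LD1_c8 LD2_c23 LD3_c56)) = (LP (LK LD1_c4 LD2_c13 LD3_c45)) :=
  Lgr Lrot101 (Lpe (f200566 IH) (Lpe (f252232 IH) (Lpr_af (f257877 IH) (Lpn (LP (LK LD1_c4 LD2_c13 LD3_c45))))))
theorem f257887 : Led Lsl_gf (LP (LK LD1_c4 LD2_c13 LD3_c50)) = (LP (LK LD1_c8 LD2_c23 LD3_c56)) :=
  Lgr Lrot47 (Lpe (K14.f251277 IH) (Lpr_af (f257877 IH) (Lpe (f257885 IH) (Lpn (LP (LK LD1_c8 LD2_c23 LD3_c56))))))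
theorem f217108 : Led Lsl_ct (LP (LK LD1_c2 LD2_c2 LD3_c6)) = (LP (LK LD1_c4 LD2_c9 LD3_c41)) :=
  Lre_c IH (LK LD1_c2 LD2_c2 LD3_c6) (LK LD1_c4 LD2_c9 LD3_c41) Lrfl Lrfl
theorem f222680 : Led Lsl_gt (LP (LK LD1_c4 LD2_c9 LD3_c41)) = (LP (LK LD1_c2 LD2_c41 LD3_c2)) :=
  Lgr Lrot94 (Lpe (f217108 IH) (Lpr_gt (K12.f51487 IH) (Lpr_dt (K12.f856 IH) (Lpr_gt (K13.f1300 IH) (Lpr_dt (K12.f222531 IH) (Lpe (K12.f168361 IH) (Lpe (K12.f168526 IH) (Lpe (K12.f168537 IH) (Lpe (K14.f212774 IH) (Lpn (LP (LK LD1_c2 LD2_c41 LD3_c2))))))))))))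
theorem f246696 : Led Lsl_gt (LP (LK LD1_c2 LD2_c25 LD3_c27)) = (LP (LK LD1_c4 LD2_c55 LD3_c8)) :=
  Lre_g IH (LK LD1_c2 LD2_c25 LD3_c27) (LK LD1_c4 LD2_c55 LD3_c8) Lrfl Lrfl
theorem f254791 : Led Lsl_df (LP (LK LD1_c4 LD2_c9 LD3_c41)) = (LP (LK LD1_c4 LD2_c55 LD3_c8)) :=
  Lgr Lrot153 (Lpr_gt (f222680 IH) (Lpr_dt (K14.f212774 IH) (Lpe (K12.f212775 IH) (Lpe (K12.f212849 IH) (Lpr_gf (K12.f213032 IH) (Lpe (K14.f236137 IH) (Lpr_gf (K14.f254789 IH) (Lpe (K14.f232183 IH) (Lpr_gt (f246696 IH) (Lpn (LP (LK LD1_c4 LD2_c55 LD3_c8))))))))))))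
theorem f257889 : Led Lsl_et (LP (LK LD1_c4 LD2_c55 LD3_c8)) = (LP (LK LD1_c8 LD2_c23 LD3_c56)) :=
  Lgr Lrot121 (Lpe (f254791 IH) (Lpe (K12.f220608 IH) (Lpe (K10.f32137 IH) (Lpr_et (K12.f32136 IH) (Lpe (K1.f28503 IH) (Lpe (K0.f32080 IH) (Lpr_dt (K9.f32077 IH) (Lpe (K10.f33049 IH) (Lpr_df (K13.f191728 IH) (Lpr_gf (f257887 IH) (Lpn (LP (LK LD1_c8 LD2_c23 LD3_c56)))))))))))))
theorem f257893 : Led Lsl_ff (LP (LK LD1_c4 LD2_c55 LD3_c8)) = (LP (LK LD1_c4 LD2_c13 LD3_c38)) :=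
  Lgr Lrot72 (Lpr_et (f257889 IH) (Lpr_ft (f257885 IH) (Lpr_et (K10.f49160 IH) (Lpe (K14.f252210 IH) (Lpr_et (K14.f231703 IH) (Lpn (LP (LK LD1_c4 LD2_c13 LD3_c38))))))))
theorem f252226 : Led Lsl_af (LP (LK LD1_c4 LD2_c13 LD3_c38)) = (LP (LK LD1_c2 LD2_c31 LD3_c28)) :=
  Lgr Lrot50 (Lpr_et (K14.f44974 IH) (Lpr_at (K14.f252218 IH) (Lpr_et (K12.f33251 IH) (Lpn (LP (LK LD1_c2 LD2_c31 LD3_c28))))))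
theorem f257895 : Led Lsl_at (LP (LK LD1_c4 LD2_c55 LD3_c8)) = (LP (LK LD1_c2 LD2_c45 LD3_c37)) :=
  Lgr Lrot66 (Lpr_ff (f257893 IH) (Lpr_af (f252226 IH) (Lpr_ff (f239709 IH) (Lpn (LP (LK LD1_c2 LD2_c45 LD3_c37))))))
theorem f218717 : Led Lsl_cf (LP (LK LD1_c3 LD2_c58 LD3_c27)) = (LP (LK LD1_c5 LD2_c16 LD3_c57)) :=
  Lgr Lrot11 (Lpr_ct (K12.f218709 IH) (Lpn (LP (LK LD1_c5 LD2_c16 LD3_c57))))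
theorem f236414 : Led Lsl_dt (LP (LK LD1_c1 LD2_c2 LD3_c54)) = (LP (LK LD1_c2 LD2_c5 LD3_c24)) :=
  Lgr Lrot6 (Lpr_gt (K12.f218724 IH) (Lpr_ct (K9.f50135 IH) (Lpr_gt (K12.f50166 IH) (Lpe (f218717 IH) (Lpr_df (K13.f223088 IH) (Lpe (K14.f47721 IH) (Lpr_gf (K13.f236412 IH) (Lpe (K13.f220207 IH) (Lpr_gf (K13.f234168 IH) (Lpn (LP (LK LD1_c2 LD2_c5 LD3_c24))))))))))))
theorem f40800 : Led Lsl_ct (LP (LK LD1_c2 LD2_c11 LD3_c48)) = (LP (LK LD1_c1 LD2_c2 LD3_c54)) :=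
  Lre_c IH (LK LD1_c2 LD2_c11 LD3_c48) (LK LD1_c1 LD2_c2 LD3_c54) Lrfl Lrfl
theorem f53626 : Led Lsl_gt (LP (LK LD1_c5 LD2_c17 LD3_c12)) = (LP (LK LD1_c2 LD2_c35 LD3_c21)) :=
  Lre_g IH (LK LD1_c5 LD2_c17 LD3_c12) (LK LD1_c2 LD2_c35 LD3_c21) Lrfl Lrfl
theorem f231866 : Led Lsl_ct (LP (LK LD1_c2 LD2_c4 LD3_c51)) = (LP (LK LD1_c4 LD2_c13 LD3_c38)) :=
  Lgr Lrot59 (Lpr_cf (K14.f231704 IH) (Lpn (LP (LK LD1_c4 LD2_c13 LD3_c38))))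
theorem f246243 : Led Lsl_gf (LP (LK LD1_c2 LD2_c4 LD3_c27)) = (LP (LK LD1_c4 LD2_c13 LD3_c38)) :=
  Lgr Lrot104 (Lpr_ct (K13.f167366 IH) (Lpe (K13.f189387 IH) (Lpe (K14.f222277 IH) (Lpr_gf (K13.f222554 IH) (Lpe (K12.f53086 IH) (Lpe (K13.f233927 IH) (Lpe (K12.f216970 IH) (Lpr_gt (K13.f246241 IH) (Lpr_ct (f231866 IH) (Lpn (LP (LK LD1_c4 LD2_c13 LD3_c38))))))))))))
theorem f251773 : Led Lsl_df (LP (LK LD1_c5 LD2_c17 LD3_c12)) = (LP (LK LD1_c4 LD2_c13 LD3_c38)) :=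
  Lgr Lrot155 (Lpr_gt (f53626 IH) (Lpe (K12.f222805 IH) (Lpr_gt (K12.f222743 IH) (Lpr_ct (K12.f190861 IH) (Lpr_dt (K13.f1405 IH) (Lpe (K14.f190823 IH) (Lpr_gf (K14.f251756 IH) (Lpe (K13.f167366 IH) (Lpr_gf (f246243 IH) (Lpn (LP (LK LD1_c4 LD2_c13 LD3_c38))))))))))))
theorem f257903 : Led Lsl_cf (LP (LK LD1_c4 LD2_c8 LD3_c23)) = (LP (LK LD1_c5 LD2_c17 LD3_c12)) :=
  Lgr Lrot118 (Lpr_dt (K14.f47725 IH) (Lpe (K14.f254768 IH) (Lpr_dt (K14.f40801 IH) (Lpr_ct (f40800 IH) (Lpr_dt (f236414 IH) (Lpe (K13.f234174 IH) (Lpe (f257895 IH) (Lpr_ff (f257893 IH) (Lpe (f251773 IH) (Lpn (LP (LK LD1_c5 LD2_c17 LD3_c12))))))))))))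
theorem f257912 : Led Lsl_gt (LP (LK LD1_c4 LD2_c13 LD3_c22)) = (LP (LK LD1_c4 LD2_c13 LD3_c38)) :=
  Lgr Lrot49 (Lpr_df (K14.f251685 IH) (Lpe (K14.f168370 IH) (Lpe (K12.f168456 IH) (Lpe (K12.f220338 IH) (Lpr_dt (K13.f220045 IH) (Lpe (K14.f254773 IH) (Lpr_dt (K14.f216911 IH) (Lpr_cf (f257903 IH) (Lpr_df (f251773 IH) (Lpn (LP (LK LD1_c4 LD2_c13 LD3_c38))))))))))))
theorem f251045 : Led Lsl_ct (LP (LK LD1_c4 LD2_c54 LD3_c1)) = (LP (LK LD1_c2 LD2_c36 LD3_c7)) :=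
  Lgr Lrot8 (Lpr_gt (K14.f246722 IH) (Lpr_dt (K14.f246759 IH) (Lpe (K14.f246765 IH) (Lpr_dt (K12.f200526 IH) (Lpe (K12.f211415 IH) (Lpe (K13.f187074 IH) (Lpe (K14.f187075 IH) (Lpr_df (K14.f251038 IH) (Lpr_gf (K14.f251036 IH) (Lpn (LP (LK LD1_c2 LD2_c36 LD3_c7))))))))))))
theorem f169152 : Led Lsl_ct (LP (LK LD1_c1 LD2_c15 LD3_c30)) = (LP (LK LD1_c2 LD2_c36 LD3_c57)) :=
  Lre_c IH (LK LD1_c1 LD2_c15 LD3_c30) (LK LD1_c2 LD2_c36 LD3_c57) Lrfl Lrfl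
theorem f169150 : Led Lsl_gt (LP (LK LD1_c1 LD2_c16 LD3_c7)) = (LP (LK LD1_c2 LD2_c38 LD3_c21)) :=
  Lre_g IH (LK LD1_c1 LD2_c16 LD3_c7) (LK LD1_c2 LD2_c38 LD3_c21) Lrfl Lrfl
theorem f169151 : Led Lsl_ct (LP (LK LD1_c2 LD2_c38 LD3_c21)) = (LP (LK LD1_c5 LD2_c23 LD3_c39)) :=
  Lre_c IH (LK LD1_c2 LD2_c38 LD3_c21) (LK LD1_c5 LD2_c23 LD3_c39) Lrfl Lrfl
theorem f257937 : Led Lsl_gf (LP (LK LD1_c4 LD2_c12 LD3_c53)) = (LP (LK LD1_c5 LD2_c23 LD3_c39)) :=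
  Lgr Lrot129 (Lpe (K14.f200357 IH) (Lpr_bt (K14.f200354 IH) (Lpr_gt (f257912 IH) (Lpr_bf (K14.f231823 IH) (Lpr_ct (f251045 IH) (Lpe (K14.f251036 IH) (Lpe (f169152 IH) (Lpe (K14.f167822 IH) (Lpr_gt (f169150 IH) (Lpr_ct (f169151 IH) (Lpn (LP (LK LD1_c5 LD2_c23 LD3_c39)))))))))))))
theorem f246710 : Led Lsl_cf (LP (LK LD1_c4 LD2_c2 LD3_c49)) = (LP (LK LD1_c4 LD2_c55 LD3_c8)) :=
  Lgr Lrot99 (Lpe (K14.f50396 IH) (Lpe (K12.f213151 IH) (Lpe (K12.f222491 IH) (Lpr_cf (K14.f216936 IH) (Lpe (K12.f223082 IH) (Lpr_df (K13.f223088 IH) (Lpr_gt (K14.f246708 IH) (Lpr_ct (K14.f232200 IH) (Lpr_gt (f246696 IH) (Lpn (LP (LK LD1_c4 LD2_c55 LD3_c8))))))))))))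
theorem f257947 : Led Lsl_bt (LP (LK LD1_c4 LD2_c55 LD3_c8)) = (LP (LK LD1_c5 LD2_c23 LD3_c39)) :=
  Lgr Lrot130 (Lpe (f246710 IH) (Lpe (K13.f236232 IH) (Lpr_cf (K14.f197623 IH) (Lpr_bt (K14.f167638 IH) (Lpr_gf (K9.f178282 IH) (Lpe (K11.f170626 IH) (Lpe (K14.f200147 IH) (Lpe (K14.f166626 IH) (Lpr_cf (K14.f200352 IH) (Lpr_gf (f257937 IH) (Lpn (LP (LK LD1_c5 LD2_c23 LD3_c39)))))))))))))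
theorem f220534 : Led Lsl_gt (LP (LK LD1_c2 LD2_c41 LD3_c0)) = (LP (LK LD1_c1 LD2_c17 LD3_c22)) :=
  Lre_g IH (LK LD1_c2 LD2_c41 LD3_c0) (LK LD1_c1 LD2_c17 LD3_c22) Lrfl Lrfl
theorem f246251 : Led Lsl_ct (LP (LK LD1_c1 LD2_c17 LD3_c22)) = (LP (LK LD1_c2 LD2_c1 LD3_c11)) :=
  Lgr Lrot59 (Lpr_cf (K13.f246245 IH) (Lpn (LP (LK LD1_c2 LD2_c1 LD3_c11))))
theorem f190836 : Led Lsl_ct (LP (LK LD1_c2 LD2_c1 LD3_c55)) = (LP (LK LD1_c0 LD2_c57 LD3_c58)) :=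
  Lre_c IH (LK LD1_c2 LD2_c1 LD3_c55) (LK LD1_c0 LD2_c57 LD3_c58) Lrfl Lrfl
theorem f257962 : Led Lsl_gt (LP (LK LD1_c4 LD2_c9 LD3_c1)) = (LP (LK LD1_c5 LD2_c23 LD3_c39)) :=
  Lgr Lrot164 (Lpe (K14.f229577 IH) (Lpr_ct (f190836 IH) (Lpr_gf (K13.f246255 IH) (Lpe (f246251 IH) (Lpe (f220534 IH) (Lpr_bf (K13.f236372 IH) (Lpe (K13.f236381 IH) (Lpe (K14.f254504 IH) (Lpr_cf (f246710 IH) (Lpr_bt (f257947 IH) (Lpn (LP (LK LD1_c5 LD2_c23 LD3_c39)))))))))))))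
theorem f257932 : Led Lsl_gf (LP (LK LD1_c0 LD2_c59 LD3_c45)) = (LP (LK LD1_c2 LD2_c4 LD3_c51)) :=
  Lgr Lrot104 (Lpr_ct (K13.f234207 IH) (Lpe (K14.f234161 IH) (Lpe (K14.f216854 IH) (Lpr_gf (K13.f220491 IH) (Lpe (K14.f219951 IH) (Lpe (K14.f234655 IH) (Lpe (K14.f251717 IH) (Lpr_gt (f257912 IH) (Lpe (K14.f231704 IH) (Lpn (LP (LK LD1_c2 LD2_c4 LD3_c51))))))))))))
theorem f213843 : Led Lsl_at (LP (LK LD1_c1 LD2_c17 LD3_c13)) = (LP (LK LD1_c0 LD2_c35 LD3_c46)) :=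
  Lre_a IH (LK LD1_c1 LD2_c17 LD3_c13) (LK LD1_c0 LD2_c35 LD3_c46) Lrfl Lrfl
theorem f245863 : Led Lsl_bt (LP (LK LD1_c2 LD2_c5 LD3_c21)) = (LP (LK LD1_c1 LD2_c17 LD3_c13)) :=
  Lgr Lrot62 (Lpr_af (K13.f236399 IH) (Lpe (K13.f167750 IH) (Lpr_af (K13.f245859 IH) (Lpe (K12.f168330 IH) (Lpe (f213843 IH) (Lpn (LP (LK LD1_c1 LD2_c17 LD3_c13))))))))
theorem f257934 : Led Lsl_gt (LP (LK LD1_c1 LD2_c17 LD3_c13)) = (LP (LK LD1_c2 LD2_c40 LD3_c61)) :=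
  Lre_g IH (LK LD1_c1 LD2_c17 LD3_c13) (LK LD1_c2 LD2_c40 LD3_c61) Lrfl Lrfl
theorem f257949 : Led Lsl_bf (LP (LK LD1_c2 LD2_c40 LD3_c61)) = (LP (LK LD1_c2 LD2_c38 LD3_c21)) :=
  Lgr Lrot34 (Lpe (f257934 IH) (Lpe (f245863 IH) (Lpr_ct (K13.f220567 IH) (Lpr_gf (f257932 IH) (Lpr_cf (K14.f231704 IH) (Lpe (f257912 IH) (Lpe (K14.f200354 IH) (Lpr_ct (K14.f200357 IH) (Lpr_gf (f257937 IH) (Lpe (f169151 IH) (Lpn (LP (LK LD1_c2 LD2_c38 LD3_c21)))))))))))))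
theorem f257953 : Led Lsl_gt (LP (LK LD1_c2 LD2_c40 LD3_c61)) = (LP (LK LD1_c1 LD2_c17 LD3_c24)) :=
  Lre_g IH (LK LD1_c2 LD2_c40 LD3_c61) (LK LD1_c1 LD2_c17 LD3_c24) Lrfl Lrfl
theorem f236371 : Led Lsl_bt (LP (LK LD1_c0 LD2_c35 LD3_c50)) = (LP (LK LD1_c1 LD2_c17 LD3_c24)) :=
  Lre_b IH (LK LD1_c0 LD2_c35 LD3_c50) (LK LD1_c1 LD2_c17 LD3_c24) Lrfl Lrfl
theorem f245891 : Led Lsl_cf (LP (LK LD1_c0 LD2_c26 LD3_c38)) = (LP (LK LD1_c0 LD2_c35 LD3_c50)) :=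
  Lgr Lrot169 (Lpr_gt (K10.f178491 IH) (Lpr_ct (K9.f51577 IH) (Lpr_df (K9.f166466 IH) (Lpe (K9.f167032 IH) (Lpr_gf (K9.f52223 IH) (Lpr_cf (K9.f51542 IH) (Lpe (K9.f51518 IH) (Lpr_df (K9.f171155 IH) (Lpr_gt (K13.f245889 IH) (Lpn (LP (LK LD1_c0 LD2_c35 LD3_c50))))))))))))
theorem f51584 : Led Lsl_gt (LP (LK LD1_c0 LD2_c58 LD3_c60)) = (LP (LK LD1_c2 LD2_c3 LD3_c59)) :=
  Lre_g IH (LK LD1_c0 LD2_c58 LD3_c60) (LK LD1_c2 LD2_c3 LD3_c59) Lrfl Lrfl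
theorem f257964 : Led Lsl_cf (LP (LK LD1_c4 LD2_c9 LD3_c1)) = (LP (LK LD1_c2 LD2_c3 LD3_c59)) :=
  Lgr Lrot125 (Lpr_gt (f257962 IH) (Lpe (f169151 IH) (Lpe (f257949 IH) (Lpr_gt (f257953 IH) (Lpe (f236371 IH) (Lpe (f245891 IH) (Lpr_gt (K10.f178491 IH) (Lpe (K13.f51578 IH) (Lpr_bt (K11.f51583 IH) (Lpr_gt (f51584 IH) (Lpn (LP (LK LD1_c2 LD2_c3 LD3_c59)))))))))))))
theorem f257940 : Led Lsl_ct (LP (LK LD1_c5 LD2_c23 LD3_c39)) = (LP (LK LD1_c2 LD2_c38 LD3_c21)) :=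
  Lre_c IH (LK LD1_c5 LD2_c23 LD3_c39) (LK LD1_c2 LD2_c38 LD3_c21) Lrfl Lrfl
theorem f53944 : Led Lsl_gt (LP (LK LD1_c4 LD2_c6 LD3_c10)) = (LP (LK LD1_c8 LD2_c12 LD3_c58)) :=
  Lre_g IH (LK LD1_c4 LD2_c6 LD3_c10) (LK LD1_c8 LD2_c12 LD3_c58) Lrfl Lrfl
theorem f49074 : Led Lsl_bt (LP (LK LD1_c0 LD2_c27 LD3_c22)) = (LP (LK LD1_c0 LD2_c59 LD3_c49)) :=
  Lre_b IH (LK LD1_c0 LD2_c27 LD3_c22) (LK LD1_c0 LD2_c59 LD3_c49) Lrfl Lrfl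
theorem f27369 : Led Lsl_gt (LP (LK LD1_c2 LD2_c5 LD3_c6)) = (LP (LK LD1_c0 LD2_c59 LD3_c49)) :=
  Lre_g IH (LK LD1_c2 LD2_c5 LD3_c6) (LK LD1_c0 LD2_c59 LD3_c49) Lrfl Lrfl
theorem f51564 : Led Lsl_bt (LP (LK LD1_c4 LD2_c15 LD3_c26)) = (LP (LK LD1_c2 LD2_c5 LD3_c6)) :=
  Lre_b IH (LK LD1_c4 LD2_c15 LD3_c26) (LK LD1_c2 LD2_c5 LD3_c6) Lrfl Lrfl
theorem f221998 : Led Lsl_ct (LP (LK LD1_c4 LD2_c15 LD3_c26)) = (LP (LK LD1_c8 LD2_c12 LD3_c58)) :=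
  Lgr Lrot63 (Lpr_bt (f51564 IH) (Lpr_gt (f27369 IH) (Lpe (f49074 IH) (Lpe (K9.f51542 IH) (Lpe (K9.f52223 IH) (Lpr_cf (K9.f167044 IH) (Lpr_bt (K12.f166632 IH) (Lpr_gt (K12.f221994 IH) (Lpr_ct (K12.f53771 IH) (Lpr_gt (f53944 IH) (Lpn (LP (LK LD1_c8 LD2_c12 LD3_c58)))))))))))))
theorem f222009 : Led Lsl_cf (LP (LK LD1_c4 LD2_c15 LD3_c26)) = (LP (LK LD1_c8 LD2_c12 LD3_c58)) :=
  Lgr Lrot11 (Lpr_ct (f221998 IH) (Lpn (LP (LK LD1_c8 LD2_c12 LD3_c58))))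
theorem f257976 : Led Lsl_df (LP (LK LD1_c2 LD2_c38 LD3_c21)) = (LP (LK LD1_c4 LD2_c15 LD3_c26)) :=
  Lgr Lrot162 (Lpe (f257940 IH) (Lpe (f257962 IH) (Lpr_cf (f257964 IH) (Lpe (f51584 IH) (Lpr_dt (K14.f166576 IH) (Lpr_gt (K12.f221994 IH) (Lpr_ct (K12.f53771 IH) (Lpr_gt (f53944 IH) (Lpe (f222009 IH) (Lpn (LP (LK LD1_c4 LD2_c15 LD3_c26))))))))))))
theorem f170630 : Led Lsl_ct (LP (LK LD1_c2 LD2_c2 LD3_c58)) = (LP (LK LD1_c0 LD2_c58 LD3_c22)) :=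
  Lre_c IH (LK LD1_c2 LD2_c2 LD3_c58) (LK LD1_c0 LD2_c58 LD3_c22) Lrfl Lrfl
theorem f167007 : Led Lsl_gt (LP (LK LD1_c4 LD2_c11 LD3_c27)) = (LP (LK LD1_c2 LD2_c2 LD3_c58)) :=
  Lre_g IH (LK LD1_c4 LD2_c11 LD3_c27) (LK LD1_c2 LD2_c2 LD3_c58) Lrfl Lrfl
theorem f256051 : Led Lsl_ct (LP (LK LD1_c4 LD2_c12 LD3_c10)) = (LP (LK LD1_c4 LD2_c11 LD3_c27)) :=
  Lgr Lrot91 (Lpe (K14.f256040 IH) (Lpr_bf (K14.f256042 IH) (Lpr_ct (K12.f51488 IH) (Lpe (K14.f1312 IH) (Lpe (K9.f1032 IH) (Lpr_bt (K9.f501 IH) (Lpe (K9.f1391 IH) (Lpe (K11.f53364 IH) (Lpr_ct (K11.f53365 IH) (Lpe (f167007 IH) (Lpn (LP (LK LD1_c4 LD2_c11 LD3_c27)))))))))))))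
theorem f257941 : Led Lsl_dt (LP (LK LD1_c8 LD2_c1 LD3_c27)) = (LP (LK LD1_c5 LD2_c23 LD3_c39)) :=
  Lgr Lrot6 (Lpr_gt (K14.f256040 IH) (Lpr_ct (f256051 IH) (Lpr_gt (f167007 IH) (Lpr_ct (f170630 IH) (Lpr_df (K11.f170617 IH) (Lpe (K11.f200140 IH) (Lpe (K14.f166626 IH) (Lpr_cf (K14.f200352 IH) (Lpr_gf (f257937 IH) (Lpn (LP (LK LD1_c5 LD2_c23 LD3_c39))))))))))))
theorem f257980 : Led Lsl_gt (LP (LK LD1_c2 LD2_c58 LD3_c20)) = (LP (LK LD1_c4 LD2_c15 LD3_c26)) :=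
  Lgr Lrot49 (Lpe (K12.f29040 IH) (Lpe (K10.f187071 IH) (Lpr_cf (K10.f181973 IH) (Lpe (K12.f211422 IH) (Lpr_dt (K10.f8087 IH) (Lpe (K14.f256038 IH) (Lpr_dt (f257941 IH) (Lpe (f169151 IH) (Lpr_df (f257976 IH) (Lpn (LP (LK LD1_c4 LD2_c15 LD3_c26))))))))))))
theorem f196626 : Led Lsl_et (LP (LK LD1_c0 LD2_c35 LD3_c11)) = (LP (LK LD1_c1 LD2_c15 LD3_c56)) :=
  Lre_e IH (LK LD1_c0 LD2_c35 LD3_c11) (LK LD1_c1 LD2_c15 LD3_c56) Lrfl Lrfl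
theorem f172019 : Led Lsl_gt (LP (LK LD1_c2 LD2_c37 LD3_c53)) = (LP (LK LD1_c1 LD2_c15 LD3_c56)) :=
  Lre_g IH (LK LD1_c2 LD2_c37 LD3_c53) (LK LD1_c1 LD2_c15 LD3_c56) Lrfl Lrfl
theorem f166616 : Led Lsl_et (LP (LK LD1_c1 LD2_c11 LD3_c32)) = (LP (LK LD1_c2 LD2_c28 LD3_c43)) :=
  Lre_e IH (LK LD1_c1 LD2_c11 LD3_c32) (LK LD1_c2 LD2_c28 LD3_c43) Lrfl Lrfl
theorem f166601 : Led Lsl_bt (LP (LK LD1_c1 LD2_c11 LD3_c36)) = (LP (LK LD1_c2 LD2_c28 LD3_c43)) :=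
  Lre_b IH (LK LD1_c1 LD2_c11 LD3_c36) (LK LD1_c2 LD2_c28 LD3_c43) Lrfl Lrfl
theorem f166602 : Led Lsl_bt (LP (LK LD1_c2 LD2_c24 LD3_c35)) = (LP (LK LD1_c1 LD2_c9 LD3_c25)) :=
  Lre_b IH (LK LD1_c2 LD2_c24 LD3_c35) (LK LD1_c1 LD2_c9 LD3_c25) Lrfl Lrfl
theorem f166603 : Led Lsl_dt (LP (LK LD1_c2 LD2_c28 LD3_c43)) = (LP (LK LD1_c2 LD2_c24 LD3_c35)) :=
  Lgr Lrot79 (Lpe (f166601 IH) (Lpr_df (K11.f166592 IH) (Lpe (f166602 IH) (Lpn (LP (LK LD1_c2 LD2_c24 LD3_c35))))))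
theorem f166617 : Led Lsl_et (LP (LK LD1_c2 LD2_c24 LD3_c35)) = (LP (LK LD1_c1 LD2_c9 LD3_c24)) :=
  Lre_e IH (LK LD1_c2 LD2_c24 LD3_c35) (LK LD1_c1 LD2_c9 LD3_c24) Lrfl Lrfl
theorem f166618 : Led Lsl_dt (LP (LK LD1_c1 LD2_c9 LD3_c24)) = (LP (LK LD1_c0 LD2_c58 LD3_c60)) :=
  Lgr Lrot77 (Lpe (f166617 IH) (Lpe (f166603 IH) (Lpe (f166616 IH) (Lpe (K11.f165326 IH) (Lpr_ef (K11.f166613 IH) (Lpn (LP (LK LD1_c0 LD2_c58 LD3_c60))))))))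
theorem f257974 : Led Lsl_dt (LP (LK LD1_c2 LD2_c38 LD3_c21)) = (LP (LK LD1_c4 LD2_c15 LD3_c26)) :=
  Lgr Lrot27 (Lpe (f257940 IH) (Lpe (f257962 IH) (Lpr_cf (f257964 IH) (Lpe (f51584 IH) (Lpe (f166618 IH) (Lpr_gt (K12.f221994 IH) (Lpr_ct (K12.f53771 IH) (Lpr_gt (f53944 IH) (Lpe (f222009 IH) (Lpn (LP (LK LD1_c4 LD2_c15 LD3_c26))))))))))))
theorem f257982 : Led Lsl_ef (LP (LK LD1_c2 LD2_c37 LD3_c53)) = (LP (LK LD1_c2 LD2_c38 LD3_c21)) :=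
  Lgr Lrot114 (Lpr_gt (f172019 IH) (Lpe (f196626 IH) (Lpr_dt (K12.f196595 IH) (Lpr_gt (K12.f196596 IH) (Lpr_df (K12.f196609 IH) (Lpr_et (K12.f187082 IH) (Lpr_gt (K10.f187071 IH) (Lpr_dt (K12.f29040 IH) (Lpr_gt (f257980 IH) (Lpe (f257974 IH) (Lpn (LP (LK LD1_c2 LD2_c38 LD3_c21)))))))))))))
theorem f257987 : Led Lsl_et (LP (LK LD1_c2 LD2_c37 LD3_c53)) = (LP (LK LD1_c2 LD2_c38 LD3_c21)) :=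
  Lgr Lrot87 (Lpr_ef (f257982 IH) (Lpn (LP (LK LD1_c2 LD2_c38 LD3_c21))))
theorem f190112 : Led Lsl_ct (LP (LK LD1_c5 LD2_c22 LD3_c42)) = (LP (LK LD1_c2 LD2_c37 LD3_c53)) :=
  Lre_c IH (LK LD1_c5 LD2_c22 LD3_c42) (LK LD1_c2 LD2_c37 LD3_c53) Lrfl Lrfl
theorem f257989 : Led Lsl_ef (LP (LK LD1_c5 LD2_c22 LD3_c42)) = (LP (LK LD1_c5 LD2_c23 LD3_c39)) :=
  Lgr Lrot28 (Lpr_ct (f190112 IH) (Lpr_et (f257987 IH) (Lpr_ct (f169151 IH) (Lpn (LP (LK LD1_c5 LD2_c23 LD3_c39))))))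
theorem f170627 : Led Lsl_dt (LP (LK LD1_c0 LD2_c58 LD3_c22)) = (LP (LK LD1_c1 LD2_c9 LD3_c11)) :=
  Lgr Lrot79 (Lpe (K12.f170625 IH) (Lpr_df (K9.f170619 IH) (Lpe (K11.f170626 IH) (Lpn (LP (LK LD1_c1 LD2_c9 LD3_c11))))))
theorem f257945 : Led Lsl_df (LP (LK LD1_c8 LD2_c1 LD3_c27)) = (LP (LK LD1_c5 LD2_c23 LD3_c39)) :=
  Lgr Lrot155 (Lpr_gt (K14.f256040 IH) (Lpr_ct (f256051 IH) (Lpr_gt (f167007 IH) (Lpr_ct (f170630 IH) (Lpr_dt (f170627 IH) (Lpe (K11.f200140 IH) (Lpe (K14.f166626 IH) (Lpr_cf (K14.f200352 IH) (Lpr_gf (f257937 IH) (Lpn (LP (LK LD1_c5 LD2_c23 LD3_c39))))))))))))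
theorem f8086 : Led Lsl_et (LP (LK LD1_c2 LD2_c0 LD3_c22)) = (LP (LK LD1_c0 LD2_c57 LD3_c10)) :=
  Lre_e IH (LK LD1_c2 LD2_c0 LD3_c22) (LK LD1_c0 LD2_c57 LD3_c10) Lrfl Lrfl
theorem f258003 : Led Lsl_gt (LP (LK LD1_c5 LD2_c22 LD3_c42)) = (LP (LK LD1_c3 LD2_c58 LD3_c13)) :=
  Lgr Lrot137 (Lpr_ef (f257989 IH) (Lpe (f257945 IH) (Lpr_gf (K14.f256038 IH) (Lpe (K10.f8087 IH) (Lpr_et (f8086 IH) (Lpr_gf (K1.f45775 IH) (Lpe (K0.f28719 IH) (Lpr_dt (K10.f28716 IH) (Lpe (K10.f28673 IH) (Lpe (K10.f187248 IH) (Lpn (LP (LK LD1_c3 LD2_c58 LD3_c13)))))))))))))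
theorem f254230 : Led Lsl_gt (LP (LK LD1_c3 LD2_c58 LD3_c13)) = (LP (LK LD1_c2 LD2_c31 LD3_c34)) :=
  Lgr Lrot94 (Lpr_cf (K10.f167802 IH) (Lpe (K14.f253940 IH) (Lpr_dt (K10.f189559 IH) (Lpr_gt (K14.f254228 IH) (Lpr_dt (K14.f54528 IH) (Lpe (K10.f190968 IH) (Lpe (K14.f190972 IH) (Lpe (K14.f251603 IH) (Lpe (K13.f190335 IH) (Lpn (LP (LK LD1_c2 LD2_c31 LD3_c34))))))))))))
theorem f252150 : Led Lsl_af (LP (LK LD1_c2 LD2_c31 LD3_c34)) = (LP (LK LD1_c4 LD2_c54 LD3_c16)) :=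
  Lgr Lrot117 (Lpr_dt (K13.f190335 IH) (Lpr_at (K14.f252144 IH) (Lpr_dt (K14.f192272 IH) (Lpn (LP (LK LD1_c4 LD2_c54 LD3_c16))))))
theorem f258005 : Led Lsl_ft (LP (LK LD1_c5 LD2_c22 LD3_c42)) = (LP (LK LD1_c4 LD2_c54 LD3_c16)) :=
  Lgr Lrot2 (Lpr_gt (f258003 IH) (Lpr_gt (f254230 IH) (Lpr_af (f252150 IH) (Lpn (LP (LK LD1_c4 LD2_c54 LD3_c16))))))
theorem f258011 : Led Lsl_ff (LP (LK LD1_c5 LD2_c22 LD3_c42)) = (LP (LK LD1_c4 LD2_c54 LD3_c16)) :=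
  Lgr Lrot3 (Lpr_ft (f258005 IH) (Lpn (LP (LK LD1_c4 LD2_c54 LD3_c16))))
theorem f42254 : Led Lsl_dt (LP (LK LD1_c1 LD2_c24 LD3_c58)) = (LP (LK LD1_c2 LD2_c58 LD3_c28)) :=
  Lre_d IH (LK LD1_c1 LD2_c24 LD3_c58) (LK LD1_c2 LD2_c58 LD3_c28) Lrfl Lrfl
theorem f192299 : Led Lsl_dt (LP (LK LD1_c5 LD2_c17 LD3_c41)) = (LP (LK LD1_c2 LD2_c35 LD3_c35)) :=
  Lre_d IH (LK LD1_c5 LD2_c17 LD3_c41) (LK LD1_c2 LD2_c35 LD3_c35) Lrfl Lrfl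
theorem f194184 : Led Lsl_gf (LP (LK LD1_c5 LD2_c17 LD3_c41)) = (LP (LK LD1_c2 LD2_c58 LD3_c28)) :=
  Lgr Lrot143 (Lpr_dt (f192299 IH) (Lpe (K10.f184871 IH) (Lpe (K14.f192272 IH) (Lpe (K14.f183627 IH) (Lpe (K14.f183626 IH) (Lpr_gf (K10.f192221 IH) (Lpr_cf (K0.f28658 IH) (Lpr_gt (K10.f194180 IH) (Lpr_dt (f42254 IH) (Lpn (LP (LK LD1_c2 LD2_c58 LD3_c28))))))))))))
theorem f194186 : Led Lsl_cf (LP (LK LD1_c4 LD2_c54 LD3_c16)) = (LP (LK LD1_c2 LD2_c35 LD3_c35)) :=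
  Lgr Lrot14 (Lpe (K14.f192272 IH) (Lpe (K14.f183627 IH) (Lpe (K14.f183626 IH) (Lpr_gf (K10.f192221 IH) (Lpr_ct (K0.f28609 IH) (Lpr_gt (K10.f194180 IH) (Lpr_dt (f42254 IH) (Lpe (f194184 IH) (Lpr_dt (f192299 IH) (Lpn (LP (LK LD1_c2 LD2_c35 LD3_c35))))))))))))
theorem f258013 : Led Lsl_ft (LP (LK LD1_c2 LD2_c37 LD3_c53)) = (LP (LK LD1_c2 LD2_c35 LD3_c35)) :=
  Lgr Lrot4 (Lpe (f190112 IH) (Lpr_ff (f258011 IH) (Lpr_cf (f194186 IH) (Lpn (LP (LK LD1_c2 LD2_c35 LD3_c35))))))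
theorem f184667 : Led Lsl_et (LP (LK LD1_c1 LD2_c15 LD3_c4)) = (LP (LK LD1_c2 LD2_c36 LD3_c9)) :=
  Lre_e IH (LK LD1_c1 LD2_c15 LD3_c4) (LK LD1_c2 LD2_c36 LD3_c9) Lrfl Lrfl
theorem f251034 : Led Lsl_gt (LP (LK LD1_c1 LD2_c15 LD3_c56)) = (LP (LK LD1_c2 LD2_c36 LD3_c9)) :=
  Lgr Lrot131 (Lpe (f196626 IH) (Lpr_dt (K12.f196595 IH) (Lpe (K13.f196720 IH) (Lpr_df (K13.f246303 IH) (Lpe (K14.f251008 IH) (Lpe (K14.f223846 IH) (Lpr_dt (K14.f251014 IH) (Lpe (K11.f184750 IH) (Lpe (K11.f28308 IH) (Lpr_et (f184667 IH) (Lpn (LP (LK LD1_c2 LD2_c36 LD3_c9)))))))))))))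
theorem f258017 : Led Lsl_af (LP (LK LD1_c2 LD2_c36 LD3_c9)) = (LP (LK LD1_c2 LD2_c35 LD3_c35)) :=
  Lgr Lrot31 (Lpe (f251034 IH) (Lpe (f172019 IH) (Lpr_ft (f258013 IH) (Lpn (LP (LK LD1_c2 LD2_c35 LD3_c35))))))
theorem f46358 : Led Lsl_et (LP (LK LD1_c2 LD2_c36 LD3_c9)) = (LP (LK LD1_c1 LD2_c15 LD3_c4)) :=
  Lre_e IH (LK LD1_c2 LD2_c36 LD3_c9) (LK LD1_c1 LD2_c15 LD3_c4) Lrfl Lrfl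
theorem f257037 : Led Lsl_et (LP (LK LD1_c1 LD2_c14 LD3_c50)) = (LP (LK LD1_c2 LD2_c35 LD3_c35)) :=
  Lre_e IH (LK LD1_c1 LD2_c14 LD3_c50) (LK LD1_c2 LD2_c35 LD3_c35) Lrfl Lrfl
theorem f258023 : Led Lsl_at (LP (LK LD1_c1 LD2_c15 LD3_c4)) = (LP (LK LD1_c1 LD2_c14 LD3_c50)) :=
  Lgr Lrot80 (Lpe (f46358 IH) (Lpr_af (f258017 IH) (Lpe (f257037 IH) (Lpn (LP (LK LD1_c1 LD2_c14 LD3_c50))))))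
theorem f258031 : Led Lsl_ff (LP (LK LD1_c1 LD2_c15 LD3_c4)) = (LP (LK LD1_c1 LD2_c15 LD3_c7)) :=
  Lgr Lrot52 (Lpr_at (f258023 IH) (Lpr_gf (K9.f184826 IH) (Lpr_gf (K13.f193081 IH) (Lpn (LP (LK LD1_c1 LD2_c15 LD3_c7))))))
theorem f43420 : Led Lsl_ct (LP (LK LD1_c9 LD2_c40 LD3_c1)) = (LP (LK LD1_c4 LD2_c54 LD3_c15)) :=
  Lre_c IH (LK LD1_c9 LD2_c40 LD3_c1) (LK LD1_c4 LD2_c54 LD3_c15) Lrfl Lrfl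
theorem f258033 : Led Lsl_dt (LP (LK LD1_c5 LD2_c19 LD3_c38)) = (LP (LK LD1_c9 LD2_c40 LD3_c1)) :=
  Lgr Lrot140 (Lpe (f212341 IH) (Lpe (f257062 IH) (Lpe (f45905 IH) (Lpe (K13.f44020 IH) (Lpe (f258031 IH) (Lpr_at (f258023 IH) (Lpe (K10.f184868 IH) (Lpe (K14.f43422 IH) (Lpe (f43420 IH) (Lpn (LP (LK LD1_c9 LD2_c40 LD3_c1))))))))))))
theorem f249358 : Led Lsl_gt (LP (LK LD1_c2 LD2_c32 LD3_c53)) = (LP (LK LD1_c5 LD2_c12 LD3_c1)) :=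
  Lre_g IH (LK LD1_c2 LD2_c32 LD3_c53) (LK LD1_c5 LD2_c12 LD3_c1) Lrfl Lrfl
theorem f43419 : Led Lsl_ct (LP (LK LD1_c4 LD2_c54 LD3_c15)) = (LP (LK LD1_c9 LD2_c40 LD3_c1)) :=
  Lre_c IH (LK LD1_c4 LD2_c54 LD3_c15) (LK LD1_c9 LD2_c40 LD3_c1) Lrfl Lrfl
theorem f184828 : Led Lsl_dt (LP (LK LD1_c2 LD2_c35 LD3_c34)) = (LP (LK LD1_c1 LD2_c14 LD3_c50)) :=
  Lre_d IH (LK LD1_c2 LD2_c35 LD3_c34) (LK LD1_c1 LD2_c14 LD3_c50) Lrfl Lrfl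
theorem f257777 : Led Lsl_gf (LP (LK LD1_c4 LD2_c54 LD3_c15)) = (LP (LK LD1_c8 LD2_c3 LD3_c56)) :=
  Lgr Lrot143 (Lpr_dt (K14.f43422 IH) (Lpr_cf (K10.f184864 IH) (Lpe (f184828 IH) (Lpr_gf (f257598 IH) (Lpr_df (f240259 IH) (Lpe (f256272 IH) (Lpe (K12.f229917 IH) (Lpr_gt (K12.f230412 IH) (Lpe (K14.f251617 IH) (Lpn (LP (LK LD1_c8 LD2_c3 LD3_c56))))))))))))
theorem f258044 : Led Lsl_ct (LP (LK LD1_c5 LD2_c12 LD3_c1)) = (LP (LK LD1_c8 LD2_c3 LD3_c56)) :=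
  Lgr Lrot186 (Lpe (f249358 IH) (Lpr_dt (K14.f249112 IH) (Lpr_gt (K14.f249356 IH) (Lpr_ct (K9.f43417 IH) (Lpr_gt (f43802 IH) (Lpr_ct (f212341 IH) (Lpr_dt (f258033 IH) (Lpe (f43419 IH) (Lpr_gf (f257777 IH) (Lpn (LP (LK LD1_c8 LD2_c3 LD3_c56))))))))))))
theorem f186799 : Led Lsl_gt (LP (LK LD1_c2 LD2_c32 LD3_c52)) = (LP (LK LD1_c1 LD2_c13 LD3_c21)) :=
  Lre_g IH (LK LD1_c2 LD2_c32 LD3_c52) (LK LD1_c1 LD2_c13 LD3_c21) Lrfl Lrfl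
theorem f258061 : Led Lsl_df (LP (LK LD1_c2 LD2_c32 LD3_c52)) = (LP (LK LD1_c2 LD2_c5 LD3_c46)) :=
  Lgr Lrot155 (Lpr_gt (f186799 IH) (Lpr_ct (K14.f191165 IH) (Lpr_gt (f249358 IH) (Lpr_ct (f258044 IH) (Lpr_dt (K14.f251613 IH) (Lpe (K14.f169336 IH) (Lpe (K14.f31684 IH) (Lpr_cf (K12.f187065 IH) (Lpe (K14.f169404 IH) (Lpn (LP (LK LD1_c2 LD2_c5 LD3_c46))))))))))))
theorem f258068 : Led Lsl_et (LP (LK LD1_c2 LD2_c32 LD3_c52)) = (LP (LK LD1_c5 LD2_c12 LD3_c0)) :=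
  Lre_e IH (LK LD1_c2 LD2_c32 LD3_c52) (LK LD1_c5 LD2_c12 LD3_c0) Lrfl Lrfl
theorem f184505 : Led Lsl_et (LP (LK LD1_c2 LD2_c37 LD3_c1)) = (LP (LK LD1_c1 LD2_c15 LD3_c31)) :=
  Lre_e IH (LK LD1_c2 LD2_c37 LD3_c1) (LK LD1_c1 LD2_c15 LD3_c31) Lrfl Lrfl
theorem f258069 : Led Lsl_dt (LP (LK LD1_c5 LD2_c12 LD3_c0)) = (LP (LK LD1_c2 LD2_c37 LD3_c1)) :=
  Lgr Lrot77 (Lpe (f258068 IH) (Lpr_df (f258061 IH) (Lpr_ef (K14.f184233 IH) (Lpe (K12.f184504 IH) (Lpe (f184505 IH) (Lpn (LP (LK LD1_c2 LD2_c37 LD3_c1))))))))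
theorem f258095 : Led Lsl_df (LP (LK LD1_c5 LD2_c12 LD3_c0)) = (LP (LK LD1_c2 LD2_c37 LD3_c1)) :=
  Lgr Lrot38 (Lpr_dt (f258069 IH) (Lpn (LP (LK LD1_c2 LD2_c37 LD3_c1))))
theorem f183938 : Led Lsl_et (LP (LK LD1_c5 LD2_c13 LD3_c13)) = (LP (LK LD1_c2 LD2_c33 LD3_c28)) :=
  Lre_e IH (LK LD1_c5 LD2_c13 LD3_c13) (LK LD1_c2 LD2_c33 LD3_c28) Lrfl Lrfl
theorem f183939 : Led Lsl_dt (LP (LK LD1_c5 LD2_c13 LD3_c13)) = (LP (LK LD1_c2 LD2_c33 LD3_c27)) :=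
  Lre_d IH (LK LD1_c5 LD2_c13 LD3_c13) (LK LD1_c2 LD2_c33 LD3_c27) Lrfl Lrfl
theorem f258111 : Led Lsl_gt (LP (LK LD1_c5 LD2_c12 LD3_c0)) = (LP (LK LD1_c2 LD2_c33 LD3_c27)) :=
  Lgr Lrot112 (Lpr_df (f258095 IH) (Lpr_et (f184505 IH) (Lpe (K12.f44308 IH) (Lpe (K13.f41760 IH) (Lpr_dt (K10.f42211 IH) (Lpe (K9.f44319 IH) (Lpe (K14.f179078 IH) (Lpr_gf (K14.f196047 IH) (Lpe (f183938 IH) (Lpr_dt (f183939 IH) (Lpn (LP (LK LD1_c2 LD2_c33 LD3_c27)))))))))))))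
theorem f258059 : Led Lsl_dt (LP (LK LD1_c2 LD2_c32 LD3_c52)) = (LP (LK LD1_c2 LD2_c5 LD3_c46)) :=
  Lgr Lrot6 (Lpr_gt (f186799 IH) (Lpr_ct (K14.f191165 IH) (Lpr_gt (f249358 IH) (Lpr_ct (f258044 IH) (Lpr_df (K14.f251617 IH) (Lpe (K14.f169336 IH) (Lpe (K14.f31684 IH) (Lpr_cf (K12.f187065 IH) (Lpe (K14.f169404 IH) (Lpn (LP (LK LD1_c2 LD2_c5 LD3_c46))))))))))))
theorem f230299 : Led Lsl_gt (LP (LK LD1_c2 LD2_c36 LD3_c22)) = (LP (LK LD1_c2 LD2_c5 LD3_c46)) :=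
  Lgr Lrot5 (Lpr_ft (K12.f230286 IH) (Lpr_at (K12.f169400 IH) (Lpe (K14.f169404 IH) (Lpn (LP (LK LD1_c2 LD2_c5 LD3_c46))))))
theorem f230291 : Led Lsl_et (LP (LK LD1_c1 LD2_c15 LD3_c12)) = (LP (LK LD1_c2 LD2_c36 LD3_c23)) :=
  Lre_e IH (LK LD1_c1 LD2_c15 LD3_c12) (LK LD1_c2 LD2_c36 LD3_c23) Lrfl Lrfl
theorem f230301 : Led Lsl_gt (LP (LK LD1_c5 LD2_c19 LD3_c25)) = (LP (LK LD1_c2 LD2_c36 LD3_c23)) :=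
  Lre_g IH (LK LD1_c5 LD2_c19 LD3_c25) (LK LD1_c2 LD2_c36 LD3_c23) Lrfl Lrfl
theorem f230302 : Led Lsl_et (LP (LK LD1_c10 LD2_c28 LD3_c40)) = (LP (LK LD1_c5 LD2_c19 LD3_c25)) :=
  Lre_e IH (LK LD1_c10 LD2_c28 LD3_c40) (LK LD1_c5 LD2_c19 LD3_c25) Lrfl Lrfl
theorem f258113 : Led Lsl_dt (LP (LK LD1_c2 LD2_c33 LD3_c27)) = (LP (LK LD1_c5 LD2_c13 LD3_c13)) :=
  Lre_d IH (LK LD1_c2 LD2_c33 LD3_c27) (LK LD1_c5 LD2_c13 LD3_c13) Lrfl Lrfl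
theorem f184955 : Led Lsl_gt (LP (LK LD1_c5 LD2_c13 LD3_c13)) = (LP (LK LD1_c10 LD2_c16 LD3_c46)) :=
  Lre_g IH (LK LD1_c5 LD2_c13 LD3_c13) (LK LD1_c10 LD2_c16 LD3_c46) Lrfl Lrfl
theorem f258118 : Led Lsl_dt (LP (LK LD1_c10 LD2_c28 LD3_c40)) = (LP (LK LD1_c10 LD2_c16 LD3_c46)) :=
  Lgr Lrot56 (Lpr_et (f230302 IH) (Lpr_gt (f230301 IH) (Lpe (f230291 IH) (Lpr_dt (K12.f44266 IH) (Lpr_gt (f230299 IH) (Lpe (f258059 IH) (Lpr_et (f258068 IH) (Lpr_gt (f258111 IH) (Lpr_dt (f258113 IH) (Lpr_gt (f184955 IH) (Lpn (LP (LK LD1_c10 LD2_c16 LD3_c46)))))))))))))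
theorem f258144 : Led Lsl_et (LP (LK LD1_c5 LD2_c19 LD3_c25)) = (LP (LK LD1_c10 LD2_c28 LD3_c40)) :=
  Lre_e IH (LK LD1_c5 LD2_c19 LD3_c25) (LK LD1_c10 LD2_c28 LD3_c40) Lrfl Lrfl
theorem f41497 : Led Lsl_gt (LP (LK LD1_c2 LD2_c39 LD3_c16)) = (LP (LK LD1_c5 LD2_c20 LD3_c24)) :=
  Lre_g IH (LK LD1_c2 LD2_c39 LD3_c16) (LK LD1_c5 LD2_c20 LD3_c24) Lrfl Lrfl
theorem f41503 : Led Lsl_dt (LP (LK LD1_c5 LD2_c25 LD3_c44)) = (LP (LK LD1_c2 LD2_c39 LD3_c16)) :=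
  Lre_d IH (LK LD1_c5 LD2_c25 LD3_c44) (LK LD1_c2 LD2_c39 LD3_c16) Lrfl Lrfl
theorem f246146 : Led Lsl_et (LP (LK LD1_c2 LD2_c33 LD3_c28)) = (LP (LK LD1_c5 LD2_c13 LD3_c13)) :=
  Lre_e IH (LK LD1_c2 LD2_c33 LD3_c28) (LK LD1_c5 LD2_c13 LD3_c13) Lrfl Lrfl
theorem f246147 : Led Lsl_et (LP (LK LD1_c5 LD2_c25 LD3_c44)) = (LP (LK LD1_c10 LD2_c16 LD3_c46)) :=
  Lgr Lrot122 (Lpr_dt (f41503 IH) (Lpr_gt (f41497 IH) (Lpe (K1.f41454 IH) (Lpr_et (K1.f41486 IH) (Lpr_gt (K11.f41511 IH) (Lpe (K14.f199007 IH) (Lpr_gt (K14.f246127 IH) (Lpe (K9.f183918 IH) (Lpr_et (f246146 IH) (Lpr_gt (f184955 IH) (Lpn (LP (LK LD1_c10 LD2_c16 LD3_c46)))))))))))))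
theorem f246152 : Led Lsl_ef (LP (LK LD1_c5 LD2_c25 LD3_c44)) = (LP (LK LD1_c10 LD2_c16 LD3_c46)) :=
  Lgr Lrot88 (Lpr_et (f246147 IH) (Lpn (LP (LK LD1_c10 LD2_c16 LD3_c46))))
theorem f42470 : Led Lsl_et (LP (LK LD1_c2 LD2_c39 LD3_c16)) = (LP (LK LD1_c5 LD2_c25 LD3_c45)) :=
  Lre_e IH (LK LD1_c2 LD2_c39 LD3_c16) (LK LD1_c5 LD2_c25 LD3_c45) Lrfl Lrfl
theorem f258145 : Led Lsl_df (LP (LK LD1_c5 LD2_c19 LD3_c25)) = (LP (LK LD1_c5 LD2_c25 LD3_c45)) :=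
  Lgr Lrot70 (Lpr_et (f258144 IH) (Lpr_dt (f258118 IH) (Lpe (f246152 IH) (Lpr_dt (f41503 IH) (Lpr_et (f42470 IH) (Lpn (LP (LK LD1_c5 LD2_c25 LD3_c45))))))))
theorem f230575 : Led Lsl_dt (LP (LK LD1_c5 LD2_c19 LD3_c26)) = (LP (LK LD1_c2 LD2_c36 LD3_c23)) :=
  Lre_d IH (LK LD1_c5 LD2_c19 LD3_c26) (LK LD1_c2 LD2_c36 LD3_c23) Lrfl Lrfl
theorem f41513 : Led Lsl_et (LP (LK LD1_c5 LD2_c25 LD3_c45)) = (LP (LK LD1_c2 LD2_c39 LD3_c16)) :=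
  Lre_e IH (LK LD1_c5 LD2_c25 LD3_c45) (LK LD1_c2 LD2_c39 LD3_c16) Lrfl Lrfl
theorem f215488 : Led Lsl_gt (LP (LK LD1_c1 LD2_c16 LD3_c25)) = (LP (LK LD1_c2 LD2_c39 LD3_c16)) :=
  Lre_g IH (LK LD1_c1 LD2_c16 LD3_c25) (LK LD1_c2 LD2_c39 LD3_c16) Lrfl Lrfl
theorem f215490 : Led Lsl_et (LP (LK LD1_c0 LD2_c35 LD3_c21)) = (LP (LK LD1_c1 LD2_c16 LD3_c25)) :=
  Lre_e IH (LK LD1_c0 LD2_c35 LD3_c21) (LK LD1_c1 LD2_c16 LD3_c25) Lrfl Lrfl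
theorem f258236 : Led Lsl_et (LP (LK LD1_c5 LD2_c19 LD3_c26)) = (LP (LK LD1_c2 LD2_c36 LD3_c53)) :=
  Lgr Lrot121 (Lpr_dt (f230575 IH) (Lpe (f230301 IH) (Lpr_df (f258145 IH) (Lpr_et (f41513 IH) (Lpe (f215488 IH) (Lpe (f215490 IH) (Lpr_dt (K12.f167805 IH) (Lpe (K9.f42157 IH) (Lpe (K12.f42146 IH) (Lpe (K12.f42471 IH) (Lpn (LP (LK LD1_c2 LD2_c36 LD3_c53)))))))))))))
theorem f258240 : Led Lsl_ef (LP (LK LD1_c5 LD2_c19 LD3_c26)) = (LP (LK LD1_c2 LD2_c36 LD3_c53)) :=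
  Lgr Lrot88 (Lpr_et (f258236 IH) (Lpn (LP (LK LD1_c2 LD2_c36 LD3_c53))))
theorem f44268 : Led Lsl_dt (LP (LK LD1_c2 LD2_c36 LD3_c23)) = (LP (LK LD1_c5 LD2_c19 LD3_c26)) :=
  Lre_d IH (LK LD1_c2 LD2_c36 LD3_c23) (LK LD1_c5 LD2_c19 LD3_c26) Lrfl Lrfl
theorem f258147 : Led Lsl_et (LP (LK LD1_c2 LD2_c33 LD3_c27)) = (LP (LK LD1_c1 LD2_c13 LD3_c39)) :=
  Lre_e IH (LK LD1_c2 LD2_c33 LD3_c27) (LK LD1_c1 LD2_c13 LD3_c39) Lrfl Lrfl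
theorem f183915 : Led Lsl_et (LP (LK LD1_c5 LD2_c13 LD3_c6)) = (LP (LK LD1_c2 LD2_c33 LD3_c25)) :=
  Lre_e IH (LK LD1_c5 LD2_c13 LD3_c6) (LK LD1_c2 LD2_c33 LD3_c25) Lrfl Lrfl
theorem f240372 : Led Lsl_et (LP (LK LD1_c2 LD2_c33 LD3_c25)) = (LP (LK LD1_c5 LD2_c13 LD3_c6)) :=
  Lre_e IH (LK LD1_c2 LD2_c33 LD3_c25) (LK LD1_c5 LD2_c13 LD3_c6) Lrfl Lrfl
theorem f195901 : Led Lsl_et (LP (LK LD1_c2 LD2_c37 LD3_c26)) = (LP (LK LD1_c1 LD2_c15 LD3_c44)) :=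
  Lre_e IH (LK LD1_c2 LD2_c37 LD3_c26) (LK LD1_c1 LD2_c15 LD3_c44) Lrfl Lrfl
theorem f251572 : Led Lsl_dt (LP (LK LD1_c5 LD2_c13 LD3_c6)) = (LP (LK LD1_c2 LD2_c37 LD3_c26)) :=
  Lgr Lrot77 (Lpe (f240372 IH) (Lpr_df (K14.f251568 IH) (Lpe (K14.f194148 IH) (Lpe (K14.f190434 IH) (Lpe (f195901 IH) (Lpn (LP (LK LD1_c2 LD2_c37 LD3_c26))))))))
theorem f258148 : Led Lsl_gt (LP (LK LD1_c5 LD2_c19 LD3_c26)) = (LP (LK LD1_c2 LD2_c37 LD3_c26)) :=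
  Lgr Lrot139 (Lpe (f44268 IH) (Lpe (f230301 IH) (Lpe (f230302 IH) (Lpr_dt (f258118 IH) (Lpe (f184955 IH) (Lpe (f258113 IH) (Lpr_et (f258147 IH) (Lpe (K13.f171669 IH) (Lpe (f183915 IH) (Lpr_dt (f251572 IH) (Lpn (LP (LK LD1_c2 LD2_c37 LD3_c26)))))))))))))
theorem f258165 : Led Lsl_et (LP (LK LD1_c1 LD2_c15 LD3_c44)) = (LP (LK LD1_c2 LD2_c37 LD3_c26)) :=
  Lre_e IH (LK LD1_c1 LD2_c15 LD3_c44) (LK LD1_c2 LD2_c37 LD3_c26) Lrfl Lrfl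
theorem f195895 : Led Lsl_et (LP (LK LD1_c0 LD2_c35 LD3_c8)) = (LP (LK LD1_c0 LD2_c15 LD3_c50)) :=
  Lre_e IH (LK LD1_c0 LD2_c35 LD3_c8) (LK LD1_c0 LD2_c15 LD3_c50) Lrfl Lrfl
theorem f196569 : Led Lsl_dt (LP (LK LD1_c0 LD2_c35 LD3_c18)) = (LP (LK LD1_c1 LD2_c16 LD3_c14)) :=
  Lre_d IH (LK LD1_c0 LD2_c35 LD3_c18) (LK LD1_c1 LD2_c16 LD3_c14) Lrfl Lrfl
theorem f223850 : Led Lsl_gt (LP (LK LD1_c1 LD2_c16 LD3_c14)) = (LP (LK LD1_c2 LD2_c38 LD3_c41)) :=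
  Lre_g IH (LK LD1_c1 LD2_c16 LD3_c14) (LK LD1_c2 LD2_c38 LD3_c41) Lrfl Lrfl
theorem f258247 : Led Lsl_df (LP (LK LD1_c2 LD2_c38 LD3_c41)) = (LP (LK LD1_c2 LD2_c36 LD3_c53)) :=
  Lgr Lrot132 (Lpe (f223850 IH) (Lpe (f196569 IH) (Lpe (K13.f195896 IH) (Lpe (f195895 IH) (Lpr_dt (K12.f46457 IH) (Lpe (K10.f8482 IH) (Lpe (K14.f190434 IH) (Lpr_et (f258165 IH) (Lpe (f258148 IH) (Lpr_ef (f258240 IH) (Lpn (LP (LK LD1_c2 LD2_c36 LD3_c53)))))))))))))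
theorem f258255 : Led Lsl_cf (LP (LK LD1_c2 LD2_c38 LD3_c41)) = (LP (LK LD1_c4 LD2_c12 LD3_c61)) :=
  Lgr Lrot99 (Lpr_df (f258247 IH) (Lpe (K12.f221667 IH) (Lpr_gf (K12.f224819 IH) (Lpe (K12.f220737 IH) (Lpe (K12.f228398 IH) (Lpr_df (K12.f200528 IH) (Lpr_gt (K14.f246577 IH) (Lpr_ct (K14.f228897 IH) (Lpr_gt (K14.f246296 IH) (Lpn (LP (LK LD1_c4 LD2_c12 LD3_c61))))))))))))
theorem f187027 : Led Lsl_gt (LP (LK LD1_c2 LD2_c36 LD3_c54)) = (LP (LK LD1_c5 LD2_c20 LD3_c28)) :=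
  Lre_g IH (LK LD1_c2 LD2_c36 LD3_c54) (LK LD1_c5 LD2_c20 LD3_c28) Lrfl Lrfl
theorem f171917 : Led Lsl_ct (LP (LK LD1_c2 LD2_c25 LD3_c28)) = (LP (LK LD1_c4 LD2_c55 LD3_c9)) :=
  Lre_c IH (LK LD1_c2 LD2_c25 LD3_c28) (LK LD1_c4 LD2_c55 LD3_c9) Lrfl Lrfl
theorem f246453 : Led Lsl_cf (LP (LK LD1_c2 LD2_c39 LD3_c11)) = (LP (LK LD1_c4 LD2_c54 LD3_c59)) :=
  Lgr Lrot11 (Lpr_ct (K14.f246447 IH) (Lpn (LP (LK LD1_c4 LD2_c54 LD3_c59))))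
theorem f216289 : Led Lsl_dt (LP (LK LD1_c0 LD2_c32 LD3_c20)) = (LP (LK LD1_c1 LD2_c9 LD3_c55)) :=
  Lre_d IH (LK LD1_c0 LD2_c32 LD3_c20) (LK LD1_c1 LD2_c9 LD3_c55) Lrfl Lrfl
theorem f217460 : Led Lsl_ct (LP (LK LD1_c1 LD2_c9 LD3_c55)) = (LP (LK LD1_c2 LD2_c25 LD3_c21)) :=
  Lre_c IH (LK LD1_c1 LD2_c9 LD3_c55) (LK LD1_c2 LD2_c25 LD3_c21) Lrfl Lrfl
theorem f217461 : Led Lsl_dt (LP (LK LD1_c4 LD2_c54 LD3_c59)) = (LP (LK LD1_c2 LD2_c25 LD3_c21)) :=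
  Lre_d IH (LK LD1_c4 LD2_c54 LD3_c59) (LK LD1_c2 LD2_c25 LD3_c21) Lrfl Lrfl
theorem f217462 : Led Lsl_gf (LP (LK LD1_c4 LD2_c54 LD3_c59)) = (LP (LK LD1_c8 LD2_c2 LD3_c45)) :=
  Lgr Lrot143 (Lpr_dt (f217461 IH) (Lpe (f217460 IH) (Lpe (f216289 IH) (Lpe (K12.f168191 IH) (Lpe (K12.f167938 IH) (Lpe (K12.f44326 IH) (Lpe (K12.f217443 IH) (Lpr_gt (K12.f217446 IH) (Lpr_dt (K12.f30890 IH) (Lpn (LP (LK LD1_c8 LD2_c2 LD3_c45))))))))))))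
theorem f223811 : Led Lsl_ct (LP (LK LD1_c10 LD2_c31 LD3_c3)) = (LP (LK LD1_c8 LD2_c2 LD3_c45)) :=
  Lgr Lrot111 (Lpr_af (K12.f223797 IH) (Lpe (K12.f217723 IH) (Lpe (K12.f50645 IH) (Lpn (LP (LK LD1_c8 LD2_c2 LD3_c45))))))
theorem f252131 : Led Lsl_ct (LP (LK LD1_c5 LD2_c20 LD3_c28)) = (LP (LK LD1_c4 LD2_c54 LD3_c49)) :=
  Lgr Lrot152 (Lpe (f187027 IH) (Lpe (K12.f172022 IH) (Lpr_gt (K12.f223796 IH) (Lpr_ct (f223811 IH) (Lpe (f217462 IH) (Lpe (f246453 IH) (Lpr_df (f224264 IH) (Lpe (f171917 IH) (Lpr_gf (K14.f252101 IH) (Lpn (LP (LK LD1_c4 LD2_c54 LD3_c49))))))))))))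
theorem f258253 : Led Lsl_gt (LP (LK LD1_c2 LD2_c38 LD3_c41)) = (LP (LK LD1_c1 LD2_c16 LD3_c18)) :=
  Lgr Lrot9 (Lpr_df (f258247 IH) (Lpr_gt (K12.f42471 IH) (Lpr_ct (K12.f171888 IH) (Lpr_gt (f187027 IH) (Lpr_ct (f252131 IH) (Lpr_df (K12.f220615 IH) (Lpe (K12.f220617 IH) (Lpe (K14.f250970 IH) (Lpe (K10.f42560 IH) (Lpn (LP (LK LD1_c1 LD2_c16 LD3_c18))))))))))))
theorem f194601 : Led Lsl_bf (LP (LK LD1_c1 LD2_c24 LD3_c61)) = (LP (LK LD1_c2 LD2_c38 LD3_c54)) :=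
  Lgr Lrot24 (Lpr_bt (K10.f194599 IH) (Lpn (LP (LK LD1_c2 LD2_c38 LD3_c54))))
theorem f256816 : Led Lsl_gf (LP (LK LD1_c2 LD2_c2 LD3_c36)) = (LP (LK LD1_c1 LD2_c24 LD3_c61)) :=
  Lgr Lrot144 (Lpr_dt (f256805 IH) (Lpe (f224347 IH) (Lpr_dt (K13.f167824 IH) (Lpe (K9.f167808 IH) (Lpe (K12.f167816 IH) (Lpe (K13.f220758 IH) (Lpr_df (K12.f196609 IH) (Lpr_gf (K13.f246368 IH) (Lpe (K12.f42255 IH) (Lpn (LP (LK LD1_c1 LD2_c24 LD3_c61))))))))))))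
theorem f201224 : Led Lsl_at (LP (LK LD1_c1 LD2_c58 LD3_c50)) = (LP (LK LD1_c4 LD2_c3 LD3_c37)) :=
  Lre_a IH (LK LD1_c1 LD2_c58 LD3_c50) (LK LD1_c4 LD2_c3 LD3_c37) Lrfl Lrfl
theorem f201245 : Led Lsl_ft (LP (LK LD1_c4 LD2_c3 LD3_c45)) = (LP (LK LD1_c1 LD2_c58 LD3_c50)) :=
  Lre_f IH (LK LD1_c4 LD2_c3 LD3_c45) (LK LD1_c1 LD2_c58 LD3_c50) Lrfl Lrfl
theorem f253272 : Led Lsl_at (LP (LK LD1_c4 LD2_c52 LD3_c52)) = (LP (LK LD1_c4 LD2_c3 LD3_c45)) :=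
  Lgr Lrot66 (Lpr_ff (K14.f253270 IH) (Lpe (f201224 IH) (Lpe (f201245 IH) (Lpn (LP (LK LD1_c4 LD2_c3 LD3_c45))))))
theorem f254961 : Led Lsl_gt (LP (LK LD1_c4 LD2_c3 LD3_c37)) = (LP (LK LD1_c5 LD2_c28 LD3_c15)) :=
  Lgr Lrot5 (Lpe (K14.f253270 IH) (Lpr_at (f253272 IH) (Lpr_gf (K14.f254895 IH) (Lpn (LP (LK LD1_c5 LD2_c28 LD3_c15))))))
theorem f258288 : Led Lsl_bf (LP (LK LD1_c2 LD2_c2 LD3_c36)) = (LP (LK LD1_c2 LD2_c5 LD3_c60)) :=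
  Lgr Lrot34 (Lpr_gf (f256816 IH) (Lpr_bf (f194601 IH) (Lpr_ct (K10.f42551 IH) (Lpe (f258253 IH) (Lpr_cf (f258255 IH) (Lpe (K14.f246296 IH) (Lpe (K14.f183238 IH) (Lpr_ct (K14.f250966 IH) (Lpe (f254961 IH) (Lpe (K14.f201247 IH) (Lpn (LP (LK LD1_c2 LD2_c5 LD3_c60)))))))))))))
theorem f258249 : Led Lsl_bt (LP (LK LD1_c2 LD2_c38 LD3_c41)) = (LP (LK LD1_c4 LD2_c17 LD3_c16)) :=
  Lgr Lrot95 (Lpr_df (f258247 IH) (Lpr_bf (K12.f223294 IH) (Lpr_df (K14.f246144 IH) (Lpn (LP (LK LD1_c4 LD2_c17 LD3_c16))))))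
theorem f258296 : Led Lsl_ft (LP (LK LD1_c2 LD2_c2 LD3_c36)) = (LP (LK LD1_c2 LD2_c38 LD3_c41)) :=
  Lgr Lrot75 (Lpr_bf (f258288 IH) (Lpe (K14.f201253 IH) (Lpe (f258249 IH) (Lpn (LP (LK LD1_c2 LD2_c38 LD3_c41))))))
theorem f228820 : Led Lsl_at (LP (LK LD1_c2 LD2_c3 LD3_c54)) = (LP (LK LD1_c4 LD2_c12 LD3_c61)) :=
  Lre_a IH (LK LD1_c2 LD2_c3 LD3_c54) (LK LD1_c4 LD2_c12 LD3_c61) Lrfl Lrfl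
theorem f258276 : Led Lsl_at (LP (LK LD1_c2 LD2_c38 LD3_c41)) = (LP (LK LD1_c2 LD2_c2 LD3_c41)) :=
  Lgr Lrot107 (Lpr_cf (f258255 IH) (Lpe (f228820 IH) (Lpr_cf (K14.f228902 IH) (Lpn (LP (LK LD1_c2 LD2_c2 LD3_c41))))))
theorem f258300 : Led Lsl_gt (LP (LK LD1_c2 LD2_c2 LD3_c36)) = (LP (LK LD1_c2 LD2_c37 LD3_c0)) :=
  Lgr Lrot5 (Lpr_ft (f258296 IH) (Lpr_at (f258276 IH) (Lpr_gf (K14.f250416 IH) (Lpn (LP (LK LD1_c2 LD2_c37 LD3_c0))))))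
theorem f251896 : Led Lsl_et (LP (LK LD1_c0 LD2_c58 LD3_c12)) = (LP (LK LD1_c2 LD2_c2 LD3_c36)) :=
  Lre_e IH (LK LD1_c0 LD2_c58 LD3_c12) (LK LD1_c2 LD2_c2 LD3_c36) Lrfl Lrfl
theorem f41412 : Led Lsl_at (LP (LK LD1_c0 LD2_c15 LD3_c51)) = (LP (LK LD1_c0 LD2_c35 LD3_c1)) :=
  Lre_a IH (LK LD1_c0 LD2_c15 LD3_c51) (LK LD1_c0 LD2_c35 LD3_c1) Lrfl Lrfl
theorem f41413 : Led Lsl_at (LP (LK LD1_c0 LD2_c35 LD3_c1)) = (LP (LK LD1_c0 LD2_c15 LD3_c51)) :=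
  Lre_a IH (LK LD1_c0 LD2_c35 LD3_c1) (LK LD1_c0 LD2_c15 LD3_c51) Lrfl Lrfl
theorem f41414 : Led Lsl_ef (LP (LK LD1_c0 LD2_c15 LD3_c51)) = (LP (LK LD1_c0 LD2_c15 LD3_c51)) :=
  Lgr Lrot20 (Lpr_at (f41412 IH) (Lpr_et (K1.f41401 IH) (Lpr_at (f41413 IH) (Lpn (LP (LK LD1_c0 LD2_c15 LD3_c51))))))
theorem f258310 : Led Lsl_gf (LP (LK LD1_c2 LD2_c2 LD3_c35)) = (LP (LK LD1_c2 LD2_c5 LD3_c41)) :=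
  Lgr Lrot145 (Lpe (K14.f251889 IH) (Lpr_et (f251896 IH) (Lpr_gt (f258300 IH) (Lpr_dt (K14.f44309 IH) (Lpr_gt (K12.f171870 IH) (Lpe (K10.f42158 IH) (Lpe (f41414 IH) (Lpr_gt (K9.f167830 IH) (Lpe (K14.f41537 IH) (Lpe (K14.f184244 IH) (Lpn (LP (LK LD1_c2 LD2_c5 LD3_c41)))))))))))))
theorem f29052 : Led Lsl_dt (LP (LK LD1_c6 LD2_c4 LD3_c22)) = (LP (LK LD1_c2 LD2_c58 LD3_c22)) :=
  Lre_d IH (LK LD1_c6 LD2_c4 LD3_c22) (LK LD1_c2 LD2_c58 LD3_c22) Lrfl Lrfl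
theorem f184255 : Led Lsl_ct (LP (LK LD1_c4 LD2_c16 LD3_c46)) = (LP (LK LD1_c2 LD2_c5 LD3_c41)) :=
  Lre_c IH (LK LD1_c4 LD2_c16 LD3_c46) (LK LD1_c2 LD2_c5 LD3_c41) Lrfl Lrfl
theorem f211429 : Led Lsl_dt (LP (LK LD1_c4 LD2_c22 LD3_c40)) = (LP (LK LD1_c8 LD2_c43 LD3_c11)) :=
  Lre_d IH (LK LD1_c4 LD2_c22 LD3_c40) (LK LD1_c8 LD2_c43 LD3_c11) Lrfl Lrfl
theorem f258397 : Led Lsl_gf (LP (LK LD1_c6 LD2_c4 LD3_c22)) = (LP (LK LD1_c8 LD2_c43 LD3_c11)) :=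
  Lgr Lrot143 (Lpr_dt (f29052 IH) (Lpe (K11.f29055 IH) (Lpe (K1.f29054 IH) (Lpe (f256798 IH) (Lpe (K14.f251891 IH) (Lpr_gf (f258310 IH) (Lpe (f184255 IH) (Lpr_gt (K14.f232259 IH) (Lpr_dt (f211429 IH) (Lpn (LP (LK LD1_c8 LD2_c43 LD3_c11))))))))))))
theorem f42054 : Led Lsl_at (LP (LK LD1_c6 LD2_c4 LD3_c19)) = (LP (LK LD1_c6 LD2_c4 LD3_c22)) :=
  Lgr Lrot100 (Lpr_af (K9.f42052 IH) (Lpn (LP (LK LD1_c6 LD2_c4 LD3_c22))))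
theorem f232218 : Led Lsl_dt (LP (LK LD1_c4 LD2_c16 LD3_c42)) = (LP (LK LD1_c8 LD2_c32 LD3_c42)) :=
  Lre_d IH (LK LD1_c4 LD2_c16 LD3_c42) (LK LD1_c8 LD2_c32 LD3_c42) Lrfl Lrfl
theorem f232802 : Led Lsl_ft (LP (LK LD1_c8 LD2_c32 LD3_c42)) = (LP (LK LD1_c6 LD2_c4 LD3_c19)) :=
  Lgr Lrot54 (Lpe (f232218 IH) (Lpr_ff (K13.f232793 IH) (Lpe (K9.f29017 IH) (Lpn (LP (LK LD1_c6 LD2_c4 LD3_c19))))))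
theorem f258411 : Led Lsl_gt (LP (LK LD1_c8 LD2_c32 LD3_c42)) = (LP (LK LD1_c8 LD2_c43 LD3_c11)) :=
  Lgr Lrot5 (Lpr_ft (f232802 IH) (Lpr_at (f42054 IH) (Lpr_gf (f258397 IH) (Lpn (LP (LK LD1_c8 LD2_c43 LD3_c11))))))
theorem f232232 : Led Lsl_ct (LP (LK LD1_c4 LD2_c16 LD3_c42)) = (LP (LK LD1_c2 LD2_c5 LD3_c38)) :=
  Lre_c IH (LK LD1_c4 LD2_c16 LD3_c42) (LK LD1_c2 LD2_c5 LD3_c38) Lrfl Lrfl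
theorem f232732 : Led Lsl_af (LP (LK LD1_c4 LD2_c16 LD3_c42)) = (LP (LK LD1_c4 LD2_c10 LD3_c37)) :=
  Lgr Lrot68 (Lpr_ct (f232232 IH) (Lpr_at (K13.f232728 IH) (Lpr_ct (K11.f187017 IH) (Lpn (LP (LK LD1_c4 LD2_c10 LD3_c37))))))
theorem f29085 : Led Lsl_gt (LP (LK LD1_c2 LD2_c58 LD3_c22)) = (LP (LK LD1_c6 LD2_c4 LD3_c20)) :=
  Lre_g IH (LK LD1_c2 LD2_c58 LD3_c22) (LK LD1_c6 LD2_c4 LD3_c20) Lrfl Lrfl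
theorem f232848 : Led Lsl_gf (LP (LK LD1_c4 LD2_c16 LD3_c42)) = (LP (LK LD1_c6 LD2_c4 LD3_c20)) :=
  Lgr Lrot76 (Lpr_af (f232732 IH) (Lpr_ff (K11.f199919 IH) (Lpr_gt (f29085 IH) (Lpn (LP (LK LD1_c6 LD2_c4 LD3_c20))))))
theorem f219452 : Led Lsl_dt (LP (LK LD1_c8 LD2_c43 LD3_c11)) = (LP (LK LD1_c4 LD2_c22 LD3_c40)) :=
  Lre_d IH (LK LD1_c8 LD2_c43 LD3_c11) (LK LD1_c4 LD2_c22 LD3_c40) Lrfl Lrfl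
theorem f258431 : Led Lsl_cf (LP (LK LD1_c6 LD2_c4 LD3_c20)) = (LP (LK LD1_c8 LD2_c1 LD3_c27)) :=
  Lgr Lrot166 (Lpe (f232848 IH) (Lpr_dt (f232218 IH) (Lpr_gt (f258411 IH) (Lpr_dt (f219452 IH) (Lpr_ct (K14.f211430 IH) (Lpe (K14.f200550 IH) (Lpr_gf (K12.f219450 IH) (Lpe (K12.f219375 IH) (Lpe (K14.f256040 IH) (Lpn (LP (LK LD1_c8 LD2_c1 LD3_c27))))))))))))
theorem f258435 : Led Lsl_et (LP (LK LD1_c6 LD2_c4 LD3_c20)) = (LP (LK LD1_c11 LD2_c52 LD3_c5)) :=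
  Lre_e IH (LK LD1_c6 LD2_c4 LD3_c20) (LK LD1_c11 LD2_c52 LD3_c5) Lrfl Lrfl
theorem f256044 : Led Lsl_et (LP (LK LD1_c15 LD2_c6 LD3_c39)) = (LP (LK LD1_c8 LD2_c1 LD3_c27)) :=
  Lre_e IH (LK LD1_c15 LD2_c6 LD3_c39) (LK LD1_c8 LD2_c1 LD3_c27) Lrfl Lrfl
theorem f258436 : Led Lsl_ct (LP (LK LD1_c11 LD2_c52 LD3_c5)) = (LP (LK LD1_c15 LD2_c6 LD3_c39)) :=
  Lgr Lrot15 (Lpe (f258435 IH) (Lpr_cf (f258431 IH) (Lpe (f256044 IH) (Lpn (LP (LK LD1_c15 LD2_c6 LD3_c39))))))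
theorem f256048 : Led Lsl_et (LP (LK LD1_c8 LD2_c1 LD3_c27)) = (LP (LK LD1_c15 LD2_c6 LD3_c39)) :=
  Lre_e IH (LK LD1_c8 LD2_c1 LD3_c27) (LK LD1_c15 LD2_c6 LD3_c39) Lrfl Lrfl
theorem f221811 : Led Lsl_et (LP (LK LD1_c8 LD2_c19 LD3_c26)) = (LP (LK LD1_c4 LD2_c9 LD3_c41)) :=
  Lre_e IH (LK LD1_c8 LD2_c19 LD3_c26) (LK LD1_c4 LD2_c9 LD3_c41) Lrfl Lrfl
theorem f256049 : Led Lsl_bt (LP (LK LD1_c15 LD2_c6 LD3_c39)) = (LP (LK LD1_c8 LD2_c19 LD3_c26)) :=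
  Lgr Lrot119 (Lpe (f256048 IH) (Lpr_bf (K14.f256042 IH) (Lpe (f221811 IH) (Lpn (LP (LK LD1_c8 LD2_c19 LD3_c26))))))
theorem f251806 : Led Lsl_ct (LP (LK LD1_c8 LD2_c19 LD3_c26)) = (LP (LK LD1_c4 LD2_c9 LD3_c43)) :=
  Lre_c IH (LK LD1_c8 LD2_c19 LD3_c26) (LK LD1_c4 LD2_c9 LD3_c43) Lrfl Lrfl
theorem f251809 : Led Lsl_bt (LP (LK LD1_c4 LD2_c9 LD3_c43)) = (LP (LK LD1_c8 LD2_c19 LD3_c25)) :=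
  Lre_b IH (LK LD1_c4 LD2_c9 LD3_c43) (LK LD1_c8 LD2_c19 LD3_c25) Lrfl Lrfl
theorem f258440 : Led Lsl_ct (LP (LK LD1_c8 LD2_c19 LD3_c25)) = (LP (LK LD1_c15 LD2_c39 LD3_c26)) :=
  Lre_c IH (LK LD1_c8 LD2_c19 LD3_c25) (LK LD1_c15 LD2_c39 LD3_c26) Lrfl Lrfl
theorem f258441 : Led Lsl_bf (LP (LK LD1_c11 LD2_c52 LD3_c5)) = (LP (LK LD1_c15 LD2_c39 LD3_c26)) :=
  Lgr Lrot90 (Lpr_ct (f258436 IH) (Lpr_bt (f256049 IH) (Lpr_ct (f251806 IH) (Lpr_bt (f251809 IH) (Lpr_ct (f258440 IH) (Lpn (LP (LK LD1_c15 LD2_c39 LD3_c26))))))))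
theorem f258456 : Led Lsl_ft (LP (LK LD1_c11 LD2_c52 LD3_c5)) = (LP (LK LD1_c20 LD2_c54 LD3_c52)) :=
  Lre_f IH (LK LD1_c11 LD2_c52 LD3_c5) (LK LD1_c20 LD2_c54 LD3_c52) Lrfl Lrfl
theorem f258461 : Led Lsl_ft (LP (LK LD1_c25 LD2_c34 LD3_c46)) = (LP (LK LD1_c15 LD2_c39 LD3_c26)) :=
  Lre_f IH (LK LD1_c25 LD2_c34 LD3_c46) (LK LD1_c15 LD2_c39 LD3_c26) Lrfl Lrfl
theorem f258462 : Led Lsl_bt (LP (LK LD1_c20 LD2_c54 LD3_c52)) = (LP (LK LD1_c25 LD2_c34 LD3_c46)) :=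
  Lgr Lrot35 (Lpe (f258456 IH) (Lpr_bf (f258441 IH) (Lpe (f258461 IH) (Lpn (LP (LK LD1_c25 LD2_c34 LD3_c46))))))
theorem f258446 : Led Lsl_ft (LP (LK LD1_c20 LD2_c54 LD3_c52)) = (LP (LK LD1_c11 LD2_c52 LD3_c5)) :=
  Lre_f IH (LK LD1_c20 LD2_c54 LD3_c52) (LK LD1_c11 LD2_c52 LD3_c5) Lrfl Lrfl
theorem f258447 : Led Lsl_ft (LP (LK LD1_c15 LD2_c6 LD3_c39)) = (LP (LK LD1_c24 LD2_c54 LD3_c44)) :=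
  Lre_f IH (LK LD1_c15 LD2_c6 LD3_c39) (LK LD1_c24 LD2_c54 LD3_c44) Lrfl Lrfl
theorem f258448 : Led Lsl_cf (LP (LK LD1_c20 LD2_c54 LD3_c52)) = (LP (LK LD1_c24 LD2_c54 LD3_c44)) :=
  Lgr Lrot108 (Lpr_ft (f258446 IH) (Lpr_ct (f258436 IH) (Lpr_ft (f258447 IH) (Lpn (LP (LK LD1_c24 LD2_c54 LD3_c44))))))
theorem f258470 : Led Lsl_ct (LP (LK LD1_c25 LD2_c34 LD3_c46)) = (LP (LK LD1_c15 LD2_c39 LD3_c33)) :=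
  Lre_c IH (LK LD1_c25 LD2_c34 LD3_c46) (LK LD1_c15 LD2_c39 LD3_c33) Lrfl Lrfl
theorem f258471 : Led Lsl_bt (LP (LK LD1_c15 LD2_c39 LD3_c33)) = (LP (LK LD1_c8 LD2_c19 LD3_c31)) :=
  Lre_b IH (LK LD1_c15 LD2_c39 LD3_c33) (LK LD1_c8 LD2_c19 LD3_c31) Lrfl Lrfl
theorem f258472 : Led Lsl_ct (LP (LK LD1_c8 LD2_c19 LD3_c31)) = (LP (LK LD1_c15 LD2_c39 LD3_c35)) :=
  Lre_c IH (LK LD1_c8 LD2_c19 LD3_c31) (LK LD1_c15 LD2_c39 LD3_c35) Lrfl Lrfl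
theorem f258473 : Led Lsl_bf (LP (LK LD1_c24 LD2_c54 LD3_c44)) = (LP (LK LD1_c15 LD2_c39 LD3_c35)) :=
  Lgr Lrot90 (Lpe (f258448 IH) (Lpr_bt (f258462 IH) (Lpr_ct (f258470 IH) (Lpr_bt (f258471 IH) (Lpr_ct (f258472 IH) (Lpn (LP (LK LD1_c15 LD2_c39 LD3_c35))))))))
theorem f258477 : Led Lsl_bt (LP (LK LD1_c24 LD2_c54 LD3_c44)) = (LP (LK LD1_c15 LD2_c39 LD3_c35)) :=
  Lgr Lrot127 (Lpr_bf (f258473 IH) (Lpn (LP (LK LD1_c15 LD2_c39 LD3_c35))))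
theorem f251800 : Led Lsl_ft (LP (LK LD1_c15 LD2_c39 LD3_c35)) = (LP (LK LD1_c8 LD2_c19 LD3_c26)) :=
  Lre_f IH (LK LD1_c15 LD2_c39 LD3_c35) (LK LD1_c8 LD2_c19 LD3_c26) Lrfl Lrfl
theorem f258485 : Led Lsl_bf (LP (LK LD1_c15 LD2_c6 LD3_c39)) = (LP (LK LD1_c8 LD2_c19 LD3_c26)) :=
  Lgr Lrot61 (Lpr_ft (f258447 IH) (Lpr_bt (f258477 IH) (Lpr_ft (f251800 IH) (Lpn (LP (LK LD1_c8 LD2_c19 LD3_c26))))))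
theorem f247134 : Led Lsl_at (LP (LK LD1_c15 LD2_c6 LD3_c39)) = (LP (LK LD1_c8 LD2_c1 LD3_c28)) :=
  Lre_a IH (LK LD1_c15 LD2_c6 LD3_c39) (LK LD1_c8 LD2_c1 LD3_c28) Lrfl Lrfl
theorem f247079 : Led Lsl_bt (LP (LK LD1_c8 LD2_c1 LD3_c28)) = (LP (LK LD1_c4 LD2_c0 LD3_c15)) :=
  Lre_b IH (LK LD1_c8 LD2_c1 LD3_c28) (LK LD1_c4 LD2_c0 LD3_c15) Lrfl Lrfl
theorem f247085 : Led Lsl_ft (LP (LK LD1_c8 LD2_c1 LD3_c30)) = (LP (LK LD1_c4 LD2_c0 LD3_c15)) :=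
  Lre_f IH (LK LD1_c8 LD2_c1 LD3_c30) (LK LD1_c4 LD2_c0 LD3_c15) Lrfl Lrfl
theorem f247086 : Led Lsl_dt (LP (LK LD1_c8 LD2_c10 LD3_c3)) = (LP (LK LD1_c8 LD2_c1 LD3_c30)) :=
  Lgr Lrot60 (Lpe (K14.f247052 IH) (Lpr_df (K14.f247075 IH) (Lpe (f247085 IH) (Lpn (LP (LK LD1_c8 LD2_c1 LD3_c30))))))
theorem f247123 : Led Lsl_df (LP (LK LD1_c8 LD2_c10 LD3_c3)) = (LP (LK LD1_c8 LD2_c1 LD3_c30)) :=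
  Lgr Lrot38 (Lpr_dt (f247086 IH) (Lpn (LP (LK LD1_c8 LD2_c1 LD3_c30))))
theorem f190245 : Led Lsl_et (LP (LK LD1_c8 LD2_c4 LD3_c7)) = (LP (LK LD1_c4 LD2_c1 LD3_c45)) :=
  Lre_e IH (LK LD1_c8 LD2_c4 LD3_c7) (LK LD1_c4 LD2_c1 LD3_c45) Lrfl Lrfl
theorem f2453 : Led Lsl_et (LP (LK LD1_c2 LD2_c24 LD3_c18)) = (LP (LK LD1_c1 LD2_c9 LD3_c18)) :=
  Lre_e IH (LK LD1_c2 LD2_c24 LD3_c18) (LK LD1_c1 LD2_c9 LD3_c18) Lrfl Lrfl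
theorem f200559 : Led Lsl_dt (LP (LK LD1_c4 LD2_c52 LD3_c57)) = (LP (LK LD1_c2 LD2_c24 LD3_c18)) :=
  Lre_d IH (LK LD1_c4 LD2_c52 LD3_c57) (LK LD1_c2 LD2_c24 LD3_c18) Lrfl Lrfl
theorem f239518 : Led Lsl_et (LP (LK LD1_c2 LD2_c59 LD3_c45)) = (LP (LK LD1_c4 LD2_c52 LD3_c57)) :=
  Lgr Lrot71 (Lpr_df (K13.f239516 IH) (Lpe (K13.f200409 IH) (Lpr_df (K13.f200403 IH) (Lpe (f2453 IH) (Lpe (f200559 IH) (Lpn (LP (LK LD1_c4 LD2_c52 LD3_c57))))))))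
theorem f239851 : Led Lsl_ff (LP (LK LD1_c4 LD2_c31 LD3_c28)) = (LP (LK LD1_c4 LD2_c52 LD3_c57)) :=
  Lgr Lrot72 (Lpr_et (K14.f239830 IH) (Lpr_ft (K13.f239836 IH) (Lpr_et (f190245 IH) (Lpe (K13.f239481 IH) (Lpr_et (f239518 IH) (Lpn (LP (LK LD1_c4 LD2_c52 LD3_c57))))))))
theorem f2454 : Led Lsl_dt (LP (LK LD1_c2 LD2_c24 LD3_c18)) = (LP (LK LD1_c4 LD2_c52 LD3_c57)) :=
  Lre_d IH (LK LD1_c2 LD2_c24 LD3_c18) (LK LD1_c4 LD2_c52 LD3_c57) Lrfl Lrfl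
theorem f239860 : Led Lsl_ft (LP (LK LD1_c4 LD2_c52 LD3_c58)) = (LP (LK LD1_c2 LD2_c24 LD3_c18)) :=
  Lre_f IH (LK LD1_c4 LD2_c52 LD3_c58) (LK LD1_c2 LD2_c24 LD3_c18) Lrfl Lrfl
theorem f239861 : Led Lsl_dt (LP (LK LD1_c4 LD2_c31 LD3_c28)) = (LP (LK LD1_c4 LD2_c52 LD3_c58)) :=
  Lgr Lrot60 (Lpr_ff (f239851 IH) (Lpe (f2454 IH) (Lpe (f239860 IH) (Lpn (LP (LK LD1_c4 LD2_c52 LD3_c58))))))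
theorem f247125 : Led Lsl_at (LP (LK LD1_c4 LD2_c52 LD3_c58)) = (LP (LK LD1_c8 LD2_c1 LD3_c30)) :=
  Lgr Lrot51 (Lpe (f239861 IH) (Lpr_af (K14.f247026 IH) (Lpr_df (f247123 IH) (Lpn (LP (LK LD1_c8 LD2_c1 LD3_c30))))))
theorem f239870 : Led Lsl_ft (LP (LK LD1_c2 LD2_c24 LD3_c18)) = (LP (LK LD1_c4 LD2_c52 LD3_c58)) :=
  Lre_f IH (LK LD1_c2 LD2_c24 LD3_c18) (LK LD1_c4 LD2_c52 LD3_c58) Lrfl Lrfl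
theorem f247143 : Led Lsl_af (LP (LK LD1_c2 LD2_c24 LD3_c18)) = (LP (LK LD1_c4 LD2_c0 LD3_c15)) :=
  Lgr Lrot45 (Lpr_ft (f239870 IH) (Lpr_at (f247125 IH) (Lpr_ft (f247085 IH) (Lpn (LP (LK LD1_c4 LD2_c0 LD3_c15))))))
theorem f170372 : Led Lsl_bt (LP (LK LD1_c2 LD2_c24 LD3_c18)) = (LP (LK LD1_c4 LD2_c52 LD3_c54)) :=
  Lre_b IH (LK LD1_c2 LD2_c24 LD3_c18) (LK LD1_c4 LD2_c52 LD3_c54) Lrfl Lrfl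
theorem f258487 : Led Lsl_at (LP (LK LD1_c4 LD2_c52 LD3_c54)) = (LP (LK LD1_c8 LD2_c19 LD3_c26)) :=
  Lgr Lrot67 (Lpe (f170372 IH) (Lpr_af (f247143 IH) (Lpe (f247079 IH) (Lpe (f247134 IH) (Lpr_bf (f258485 IH) (Lpn (LP (LK LD1_c8 LD2_c19 LD3_c26))))))))
theorem f170374 : Led Lsl_et (LP (LK LD1_c2 LD2_c24 LD3_c17)) = (LP (LK LD1_c4 LD2_c52 LD3_c54)) :=
  Lre_e IH (LK LD1_c2 LD2_c24 LD3_c17) (LK LD1_c4 LD2_c52 LD3_c54) Lrfl Lrfl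
theorem f258496 : Led Lsl_af (LP (LK LD1_c2 LD2_c24 LD3_c17)) = (LP (LK LD1_c4 LD2_c9 LD3_c41)) :=
  Lgr Lrot50 (Lpr_et (f170374 IH) (Lpr_at (f258487 IH) (Lpr_et (f221811 IH) (Lpn (LP (LK LD1_c4 LD2_c9 LD3_c41))))))
theorem f258502 : Led Lsl_ft (LP (LK LD1_c5 LD2_c17 LD3_c12)) = (LP (LK LD1_c4 LD2_c9 LD3_c41)) :=
  Lgr Lrot2 (Lpr_gt (f53626 IH) (Lpr_gt (K14.f212500 IH) (Lpr_af (f258496 IH) (Lpn (LP (LK LD1_c4 LD2_c9 LD3_c41))))))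
theorem f257906 : Led Lsl_ct (LP (LK LD1_c4 LD2_c8 LD3_c23)) = (LP (LK LD1_c5 LD2_c17 LD3_c12)) :=
  Lgr Lrot59 (Lpr_cf (f257903 IH) (Lpn (LP (LK LD1_c5 LD2_c17 LD3_c12))))
theorem f258506 : Led Lsl_ff (LP (LK LD1_c4 LD2_c8 LD3_c23)) = (LP (LK LD1_c2 LD2_c2 LD3_c6)) :=
  Lgr Lrot23 (Lpr_ct (f257906 IH) (Lpr_ft (f258502 IH) (Lpr_ct (K12.f51488 IH) (Lpn (LP (LK LD1_c2 LD2_c2 LD3_c6))))))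
theorem f258522 : Led Lsl_at (LP (LK LD1_c4 LD2_c8 LD3_c23)) = (LP (LK LD1_c2 LD2_c2 LD3_c7)) :=
  Lgr Lrot26 (Lpr_ff (f258506 IH) (Lpr_gt (K12.f51487 IH) (Lpr_gt (K9.f51486 IH) (Lpn (LP (LK LD1_c2 LD2_c2 LD3_c7))))))
theorem f258500 : Led Lsl_at (LP (LK LD1_c4 LD2_c8 LD3_c22)) = (LP (LK LD1_c2 LD2_c2 LD3_c6)) :=
  Lgr Lrot107 (Lpr_cf (K13.f170332 IH) (Lpr_af (f258496 IH) (Lpe (f217108 IH) (Lpn (LP (LK LD1_c2 LD2_c2 LD3_c6))))))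
theorem f258535 : Led Lsl_ff (LP (LK LD1_c4 LD2_c8 LD3_c22)) = (LP (LK LD1_c2 LD2_c2 LD3_c7)) :=
  Lgr Lrot30 (Lpr_at (f258500 IH) (Lpe (f258506 IH) (Lpr_at (f258522 IH) (Lpn (LP (LK LD1_c2 LD2_c2 LD3_c7))))))
theorem f258547 : Led Lsl_cf (LP (LK LD1_c4 LD2_c55 LD3_c8)) = (LP (LK LD1_c4 LD2_c2 LD3_c49)) :=
  Lgr Lrot161 (Lpe (f254791 IH) (Lpr_ct (K12.f51488 IH) (Lpe (f258500 IH) (Lpr_ff (f258535 IH) (Lpr_dt (K12.f53400 IH) (Lpe (K12.f213179 IH) (Lpr_dt (K14.f213143 IH) (Lpr_ct (K12.f213151 IH) (Lpr_dt (K14.f50396 IH) (Lpn (LP (LK LD1_c4 LD2_c2 LD3_c49))))))))))))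
theorem f257901 : Led Lsl_ft (LP (LK LD1_c4 LD2_c55 LD3_c8)) = (LP (LK LD1_c4 LD2_c13 LD3_c38)) :=
  Lgr Lrot48 (Lpr_ff (f257893 IH) (Lpn (LP (LK LD1_c4 LD2_c13 LD3_c38))))
theorem f258551 : Led Lsl_ft (LP (LK LD1_c2 LD2_c4 LD3_c51)) = (LP (LK LD1_c4 LD2_c2 LD3_c49)) :=
  Lgr Lrot4 (Lpr_cf (K14.f231704 IH) (Lpe (f257901 IH) (Lpr_cf (f258547 IH) (Lpn (LP (LK LD1_c4 LD2_c2 LD3_c49))))))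
theorem f258557 : Led Lsl_af (LP (LK LD1_c2 LD2_c5 LD3_c24)) = (LP (LK LD1_c4 LD2_c2 LD3_c49)) :=
  Lgr Lrot31 (Lpe (K13.f220579 IH) (Lpr_gf (f257932 IH) (Lpr_ft (f258551 IH) (Lpn (LP (LK LD1_c4 LD2_c2 LD3_c49))))))
theorem f223084 : Led Lsl_dt (LP (LK LD1_c3 LD2_c58 LD3_c27)) = (LP (LK LD1_c2 LD2_c34 LD3_c31)) :=
  Lgr Lrot105 (Lpr_gf (K12.f223075 IH) (Lpe (K13.f212851 IH) (Lpr_gf (K12.f222242 IH) (Lpe (K12.f47726 IH) (Lpr_gt (K10.f47556 IH) (Lpr_dt (K10.f47555 IH) (Lpr_gt (K10.f47554 IH) (Lpe (K13.f47542 IH) (Lpe (K13.f47539 IH) (Lpn (LP (LK LD1_c2 LD2_c34 LD3_c31))))))))))))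
theorem f236416 : Led Lsl_df (LP (LK LD1_c1 LD2_c2 LD3_c54)) = (LP (LK LD1_c2 LD2_c5 LD3_c24)) :=
  Lgr Lrot155 (Lpr_gt (K12.f218724 IH) (Lpr_ct (K9.f50135 IH) (Lpr_gt (K12.f50166 IH) (Lpe (f218717 IH) (Lpr_dt (f223084 IH) (Lpe (K14.f47721 IH) (Lpr_gf (K13.f236412 IH) (Lpe (K13.f220207 IH) (Lpr_gf (K13.f234168 IH) (Lpn (LP (LK LD1_c2 LD2_c5 LD3_c24))))))))))))
theorem f258559 : Led Lsl_at (LP (LK LD1_c1 LD2_c2 LD3_c54)) = (LP (LK LD1_c1 LD2_c58 LD3_c26)) :=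
  Lgr Lrot51 (Lpr_df (f236416 IH) (Lpr_af (f258557 IH) (Lpe (K14.f50396 IH) (Lpn (LP (LK LD1_c1 LD2_c58 LD3_c26))))))
theorem f258567 : Led Lsl_ff (LP (LK LD1_c1 LD2_c2 LD3_c54)) = (LP (LK LD1_c0 LD2_c35 LD3_c55)) :=
  Lgr Lrot30 (Lpr_at (f258559 IH) (Lpr_ft (K12.f213233 IH) (Lpr_at (K12.f213356 IH) (Lpn (LP (LK LD1_c0 LD2_c35 LD3_c55))))))
theorem f258579 : Led Lsl_ft (LP (LK LD1_c1 LD2_c2 LD3_c54)) = (LP (LK LD1_c0 LD2_c35 LD3_c55)) :=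
  Lgr Lrot48 (Lpr_ff (f258567 IH) (Lpn (LP (LK LD1_c0 LD2_c35 LD3_c55))))
theorem f1302 : Led Lsl_dt (LP (LK LD1_c4 LD2_c8 LD3_c22)) = (LP (LK LD1_c8 LD2_c16 LD3_c49)) :=
  Lre_d IH (LK LD1_c4 LD2_c8 LD3_c22) (LK LD1_c8 LD2_c16 LD3_c49) Lrfl Lrfl
theorem f213377 : Led Lsl_at (LP (LK LD1_c0 LD2_c35 LD3_c55)) = (LP (LK LD1_c1 LD2_c17 LD3_c45)) :=
  Lre_a IH (LK LD1_c0 LD2_c35 LD3_c55) (LK LD1_c1 LD2_c17 LD3_c45) Lrfl Lrfl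
theorem f213158 : Led Lsl_ct (LP (LK LD1_c2 LD2_c42 LD3_c17)) = (LP (LK LD1_c1 LD2_c17 LD3_c45)) :=
  Lre_c IH (LK LD1_c2 LD2_c42 LD3_c17) (LK LD1_c1 LD2_c17 LD3_c45) Lrfl Lrfl
theorem f258593 : Led Lsl_ct (LP (LK LD1_c8 LD2_c16 LD3_c49)) = (LP (LK LD1_c5 LD2_c32 LD3_c9)) :=
  Lgr Lrot53 (Lpe (f1302 IH) (Lpr_cf (K13.f170332 IH) (Lpe (K13.f200568 IH) (Lpr_cf (K13.f234174 IH) (Lpe (f236414 IH) (Lpr_ft (f258579 IH) (Lpr_at (f213377 IH) (Lpe (f213158 IH) (Lpe (K14.f213235 IH) (Lpn (LP (LK LD1_c5 LD2_c32 LD3_c9))))))))))))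
theorem f213161 : Led Lsl_dt (LP (LK LD1_c2 LD2_c42 LD3_c17)) = (LP (LK LD1_c5 LD2_c32 LD3_c9)) :=
  Lre_d IH (LK LD1_c2 LD2_c42 LD3_c17) (LK LD1_c5 LD2_c32 LD3_c9) Lrfl Lrfl
theorem f258591 : Led Lsl_gt (LP (LK LD1_c1 LD2_c58 LD3_c28)) = (LP (LK LD1_c1 LD2_c17 LD3_c45)) :=
  Lgr Lrot46 (Lpe (K12.f218724 IH) (Lpr_ft (f258579 IH) (Lpr_at (f213377 IH) (Lpn (LP (LK LD1_c1 LD2_c17 LD3_c45))))))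
theorem f258610 : Led Lsl_gf (LP (LK LD1_c5 LD2_c29 LD3_c46)) = (LP (LK LD1_c10 LD2_c23 LD3_c24)) :=
  Lgr Lrot147 (Lpr_ct (K13.f233923 IH) (Lpe (K13.f234178 IH) (Lpr_ct (f258593 IH) (Lpe (f213161 IH) (Lpe (K12.f213232 IH) (Lpe (f258591 IH) (Lpe (K12.f50168 IH) (Lpr_gf (K12.f216909 IH) (Lpe (K14.f216912 IH) (Lpn (LP (LK LD1_c10 LD2_c23 LD3_c24))))))))))))
theorem f222694 : Led Lsl_gt (LP (LK LD1_c4 LD2_c8 LD3_c43)) = (LP (LK LD1_c2 LD2_c1 LD3_c43)) :=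
  Lre_g IH (LK LD1_c4 LD2_c8 LD3_c43) (LK LD1_c2 LD2_c1 LD3_c43) Lrfl Lrfl
theorem f234648 : Led Lsl_dt (LP (LK LD1_c4 LD2_c8 LD3_c43)) = (LP (LK LD1_c8 LD2_c17 LD3_c30)) :=
  Lre_d IH (LK LD1_c4 LD2_c8 LD3_c43) (LK LD1_c8 LD2_c17 LD3_c30) Lrfl Lrfl
theorem f49355 : Led Lsl_dt (LP (LK LD1_c5 LD2_c16 LD3_c56)) = (LP (LK LD1_c10 LD2_c23 LD3_c24)) :=
  Lre_d IH (LK LD1_c5 LD2_c16 LD3_c56) (LK LD1_c10 LD2_c23 LD3_c24) Lrfl Lrfl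
theorem f47541 : Led Lsl_dt (LP (LK LD1_c4 LD2_c8 LD3_c20)) = (LP (LK LD1_c8 LD2_c16 LD3_c44)) :=
  Lre_d IH (LK LD1_c4 LD2_c8 LD3_c20) (LK LD1_c8 LD2_c16 LD3_c44) Lrfl Lrfl
theorem f234657 : Led Lsl_cf (LP (LK LD1_c10 LD2_c23 LD3_c24)) = (LP (LK LD1_c8 LD2_c16 LD3_c44)) :=
  Lgr Lrot14 (Lpe (f49355 IH) (Lpe (K12.f49352 IH) (Lpe (K12.f49318 IH) (Lpe (K14.f49329 IH) (Lpr_ct (K14.f222925 IH) (Lpr_gt (K14.f234651 IH) (Lpr_dt (K13.f213052 IH) (Lpr_gt (K13.f223028 IH) (Lpr_dt (f47541 IH) (Lpn (LP (LK LD1_c8 LD2_c16 LD3_c44))))))))))))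
theorem f258615 : Led Lsl_gt (LP (LK LD1_c8 LD2_c17 LD3_c30)) = (LP (LK LD1_c8 LD2_c16 LD3_c44)) :=
  Lgr Lrot9 (Lpe (f234648 IH) (Lpr_gt (f222694 IH) (Lpr_ct (K14.f220340 IH) (Lpr_gt (K13.f1434 IH) (Lpr_ct (K13.f216849 IH) (Lpe (K14.f216853 IH) (Lpe (K13.f233923 IH) (Lpr_gf (f258610 IH) (Lpr_cf (f234657 IH) (Lpn (LP (LK LD1_c8 LD2_c16 LD3_c44))))))))))))
theorem f47550 : Led Lsl_dt (LP (LK LD1_c8 LD2_c16 LD3_c44)) = (LP (LK LD1_c4 LD2_c8 LD3_c20)) :=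
  Lre_d IH (LK LD1_c8 LD2_c16 LD3_c44) (LK LD1_c4 LD2_c8 LD3_c20) Lrfl Lrfl
theorem f250904 : Led Lsl_gf (LP (LK LD1_c5 LD2_c29 LD3_c49)) = (LP (LK LD1_c10 LD2_c23 LD3_c27)) :=
  Lgr Lrot104 (Lpe (K13.f234121 IH) (Lpe (K13.f220045 IH) (Lpe (K12.f220038 IH) (Lpr_gf (K12.f220046 IH) (Lpe (K14.f220048 IH) (Lpe (K14.f246697 IH) (Lpe (K14.f220099 IH) (Lpr_gt (K14.f250898 IH) (Lpr_ct (K14.f222985 IH) (Lpn (LP (LK LD1_c10 LD2_c23 LD3_c27))))))))))))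
theorem f222695 : Led Lsl_dt (LP (LK LD1_c8 LD2_c17 LD3_c30)) = (LP (LK LD1_c4 LD2_c8 LD3_c43)) :=
  Lre_d IH (LK LD1_c8 LD2_c17 LD3_c30) (LK LD1_c4 LD2_c8 LD3_c43) Lrfl Lrfl
theorem f250913 : Led Lsl_gf (LP (LK LD1_c8 LD2_c17 LD3_c30)) = (LP (LK LD1_c8 LD2_c16 LD3_c39)) :=
  Lgr Lrot144 (Lpr_dt (f222695 IH) (Lpr_gt (f222694 IH) (Lpr_dt (K12.f724 IH) (Lpe (K12.f222682 IH) (Lpe (K14.f233918 IH) (Lpe (K12.f220606 IH) (Lpe (K13.f220577 IH) (Lpr_gf (f250904 IH) (Lpe (K14.f222985 IH) (Lpn (LP (LK LD1_c8 LD2_c16 LD3_c39))))))))))))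
theorem f213057 : Led Lsl_gt (LP (LK LD1_c2 LD2_c42 LD3_c22)) = (LP (LK LD1_c5 LD2_c32 LD3_c22)) :=
  Lre_g IH (LK LD1_c2 LD2_c42 LD3_c22) (LK LD1_c5 LD2_c32 LD3_c22) Lrfl Lrfl
theorem f254882 : Led Lsl_dt (LP (LK LD1_c5 LD2_c32 LD3_c22)) = (LP (LK LD1_c4 LD2_c28 LD3_c47)) :=
  Lgr Lrot113 (Lpe (f213057 IH) (Lpe (K14.f213056 IH) (Lpe (K12.f196395 IH) (Lpe (K12.f213049 IH) (Lpe (K12.f223075 IH) (Lpr_dt (f223084 IH) (Lpr_gt (K14.f246708 IH) (Lpr_dt (K14.f232158 IH) (Lpr_ct (K14.f254879 IH) (Lpn (LP (LK LD1_c4 LD2_c28 LD3_c47))))))))))))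
theorem f254884 : Led Lsl_ct (LP (LK LD1_c8 LD2_c17 LD3_c30)) = (LP (LK LD1_c5 LD2_c32 LD3_c22)) :=
  Lgr Lrot110 (Lpr_gf (f250913 IH) (Lpr_cf (K14.f222990 IH) (Lpr_gf (K13.f234180 IH) (Lpe (K13.f220214 IH) (Lpe (K13.f226824 IH) (Lpr_ct (K13.f199736 IH) (Lpr_gt (K14.f199703 IH) (Lpr_ct (K14.f254879 IH) (Lpe (f254882 IH) (Lpn (LP (LK LD1_c5 LD2_c32 LD3_c22))))))))))))
theorem f258618 : Led Lsl_gt (LP (LK LD1_c5 LD2_c32 LD3_c22)) = (LP (LK LD1_c8 LD2_c6 LD3_c9)) :=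
  Lgr Lrot94 (Lpe (f254884 IH) (Lpr_gt (f258615 IH) (Lpr_dt (f47550 IH) (Lpr_gt (K14.f222094 IH) (Lpr_dt (K14.f44945 IH) (Lpr_cf (K13.f216980 IH) (Lpe (K12.f216964 IH) (Lpe (K12.f213141 IH) (Lpe (K14.f213143 IH) (Lpn (LP (LK LD1_c8 LD2_c6 LD3_c9))))))))))))
theorem f258622 : Led Lsl_cf (LP (LK LD1_c8 LD2_c17 LD3_c30)) = (LP (LK LD1_c5 LD2_c32 LD3_c22)) :=
  Lgr Lrot166 (Lpr_gt (f258615 IH) (Lpr_dt (f47550 IH) (Lpr_gt (K14.f222094 IH) (Lpr_dt (K14.f44945 IH) (Lpr_ct (K13.f217126 IH) (Lpe (K12.f216964 IH) (Lpe (K12.f213141 IH) (Lpe (K14.f213143 IH) (Lpe (f258618 IH) (Lpn (LP (LK LD1_c5 LD2_c32 LD3_c22))))))))))))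
theorem f258620 : Led Lsl_gf (LP (LK LD1_c4 LD2_c8 LD3_c43)) = (LP (LK LD1_c2 LD2_c1 LD3_c56)) :=
  Lgr Lrot144 (Lpr_dt (f234648 IH) (Lpr_gt (f258615 IH) (Lpr_dt (f47550 IH) (Lpe (K13.f47540 IH) (Lpe (K10.f47536 IH) (Lpr_gf (K13.f236412 IH) (Lpe (K12.f220062 IH) (Lpr_gf (K12.f220046 IH) (Lpe (K14.f220048 IH) (Lpn (LP (LK LD1_c2 LD2_c1 LD3_c56))))))))))))
theorem f233915 : Led Lsl_dt (LP (LK LD1_c2 LD2_c1 LD3_c56)) = (LP (LK LD1_c4 LD2_c9 LD3_c8)) :=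
  Lre_d IH (LK LD1_c2 LD2_c1 LD3_c56) (LK LD1_c4 LD2_c9 LD3_c8) Lrfl Lrfl
theorem f233916 : Led Lsl_ct (LP (LK LD1_c4 LD2_c9 LD3_c8)) = (LP (LK LD1_c8 LD2_c6 LD3_c25)) :=
  Lgr Lrot176 (Lpe (f233915 IH) (Lpe (K14.f51444 IH) (Lpe (K12.f51443 IH) (Lpe (K12.f190819 IH) (Lpe (K12.f190822 IH) (Lpe (K12.f220605 IH) (Lpr_df (K13.f233893 IH) (Lpr_cf (K12.f222689 IH) (Lpe (K12.f724 IH) (Lpe (K12.f53157 IH) (Lpe (K12.f1433 IH) (Lpe (K13.f167332 IH) (Lpe (K13.f199687 IH) (Lpe (K13.f199736 IH) (Lpe (K13.f232149 IH) (Lpn (LP (LK LD1_c8 LD2_c6 LD3_c25))))))))))))))))))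
theorem f234441 : Led Lsl_gf (LP (LK LD1_c4 LD2_c9 LD3_c8)) = (LP (LK LD1_c8 LD2_c17 LD3_c37)) :=
  Lgr Lrot147 (Lpr_ct (f233916 IH) (Lpr_gt (K13.f50518 IH) (Lpr_ct (K12.f50420 IH) (Lpe (K12.f1038 IH) (Lpe (K9.f1032 IH) (Lpe (K12.f651 IH) (Lpe (K12.f222785 IH) (Lpe (K14.f222906 IH) (Lpr_df (K14.f234420 IH) (Lpn (LP (LK LD1_c8 LD2_c17 LD3_c37))))))))))))
theorem f254886 : Led Lsl_df (LP (LK LD1_c5 LD2_c32 LD3_c22)) = (LP (LK LD1_c4 LD2_c28 LD3_c47)) :=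
  Lgr Lrot162 (Lpe (f254884 IH) (Lpr_gf (f250913 IH) (Lpr_cf (K14.f222990 IH) (Lpr_gf (K13.f234180 IH) (Lpr_dt (K14.f220322 IH) (Lpe (K13.f226824 IH) (Lpr_ct (K13.f199736 IH) (Lpr_gt (K14.f199703 IH) (Lpr_ct (K14.f254879 IH) (Lpn (LP (LK LD1_c4 LD2_c28 LD3_c47))))))))))))
theorem f173258 : Led Lsl_dt (LP (LK LD1_c4 LD2_c28 LD3_c50)) = (LP (LK LD1_c2 LD2_c11 LD3_c26)) :=
  Lre_d IH (LK LD1_c4 LD2_c28 LD3_c50) (LK LD1_c2 LD2_c11 LD3_c26) Lrfl Lrfl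
theorem f183307 : Led Lsl_gt (LP (LK LD1_c8 LD2_c55 LD3_c59)) = (LP (LK LD1_c4 LD2_c28 LD3_c50)) :=
  Lre_g IH (LK LD1_c8 LD2_c55 LD3_c59) (LK LD1_c4 LD2_c28 LD3_c50) Lrfl Lrfl
theorem f258650 : Led Lsl_ct (LP (LK LD1_c8 LD2_c17 LD3_c37)) = (LP (LK LD1_c8 LD2_c55 LD3_c59)) :=
  Lgr Lrot8 (Lpe (f234441 IH) (Lpr_dt (K14.f234106 IH) (Lpe (f258620 IH) (Lpr_dt (f234648 IH) (Lpr_cf (f258622 IH) (Lpr_df (f254886 IH) (Lpe (K14.f173445 IH) (Lpe (f173258 IH) (Lpe (f183307 IH) (Lpn (LP (LK LD1_c8 LD2_c55 LD3_c59))))))))))))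
theorem f258662 : Led Lsl_dt (LP (LK LD1_c4 LD2_c29 LD3_c25)) = (LP (LK LD1_c8 LD2_c55 LD3_c59)) :=
  Lgr Lrot27 (Lpe (K13.f234980 IH) (Lpe (K13.f48171 IH) (Lpr_cf (K14.f232151 IH) (Lpe (K14.f216895 IH) (Lpr_df (K12.f216889 IH) (Lpr_gt (K12.f50514 IH) (Lpr_ct (K12.f222682 IH) (Lpr_gt (K14.f220130 IH) (Lpr_ct (f258650 IH) (Lpn (LP (LK LD1_c8 LD2_c55 LD3_c59))))))))))))
theorem f899 : Led Lsl_gt (LP (LK LD1_c8 LD2_c16 LD3_c60)) = (LP (LK LD1_c4 LD2_c8 LD3_c25)) :=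
  Lre_g IH (LK LD1_c8 LD2_c16 LD3_c60) (LK LD1_c4 LD2_c8 LD3_c25) Lrfl Lrfl
theorem f258665 : Led Lsl_cf (LP (LK LD1_c8 LD2_c16 LD3_c60)) = (LP (LK LD1_c4 LD2_c28 LD3_c50)) :=
  Lgr Lrot188 (Lpr_gt (f899 IH) (Lpr_ct (K14.f50415 IH) (Lpr_dt (K14.f50170 IH) (Lpe (K9.f50135 IH) (Lpe (K12.f218724 IH) (Lpe (f40800 IH) (Lpe (K13.f218730 IH) (Lpr_dt (f258662 IH) (Lpr_gt (f183307 IH) (Lpn (LP (LK LD1_c4 LD2_c28 LD3_c50))))))))))))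
theorem f258675 : Led Lsl_gf (LP (LK LD1_c2 LD2_c42 LD3_c17)) = (LP (LK LD1_c4 LD2_c29 LD3_c24)) :=
  Lgr Lrot143 (Lpr_dt (f213161 IH) (Lpe (f258593 IH) (Lpe (f1302 IH) (Lpe (K13.f1301 IH) (Lpe (K9.f888 IH) (Lpe (f899 IH) (Lpr_cf (f258665 IH) (Lpr_gt (K13.f234317 IH) (Lpe (K13.f234318 IH) (Lpn (LP (LK LD1_c4 LD2_c29 LD3_c24))))))))))))
theorem f258682 : Led Lsl_df (LP (LK LD1_c1 LD2_c17 LD3_c45)) = (LP (LK LD1_c2 LD2_c4 LD3_c51)) :=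
  Lgr Lrot162 (Lpe (f213158 IH) (Lpr_gf (f258675 IH) (Lpe (K12.f222471 IH) (Lpr_gf (K13.f222461 IH) (Lpe (K13.f190820 IH) (Lpr_gt (K14.f190858 IH) (Lpe (K14.f251723 IH) (Lpr_gt (f257912 IH) (Lpe (K14.f231704 IH) (Lpn (LP (LK LD1_c2 LD2_c4 LD3_c51))))))))))))
theorem f220603 : Led Lsl_df (LP (LK LD1_c1 LD2_c16 LD3_c27)) = (LP (LK LD1_c0 LD2_c35 LD3_c55)) :=
  Lgr Lrot84 (Lpe (K12.f190965 IH) (Lpe (K12.f33199 IH) (Lpr_gf (K12.f219928 IH) (Lpe (K12.f212843 IH) (Lpr_gf (K12.f212779 IH) (Lpe (K12.f212778 IH) (Lpr_gt (K12.f220598 IH) (Lpr_dt (K12.f213772 IH) (Lpe (K12.f216940 IH) (Lpn (LP (LK LD1_c0 LD2_c35 LD3_c55))))))))))))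
theorem f258687 : Led Lsl_at (LP (LK LD1_c1 LD2_c16 LD3_c27)) = (LP (LK LD1_c2 LD2_c4 LD3_c51)) :=
  Lgr Lrot51 (Lpr_df (f220603 IH) (Lpe (K12.f213356 IH) (Lpr_df (f258682 IH) (Lpn (LP (LK LD1_c2 LD2_c4 LD3_c51))))))
theorem f258889 : Led Lsl_af (LP (LK LD1_c2 LD2_c31 LD3_c28)) = (LP (LK LD1_c4 LD2_c13 LD3_c38)) :=
  Lgr Lrot68 (Lpr_ct (K12.f190965 IH) (Lpr_at (f258687 IH) (Lpr_ct (f231866 IH) (Lpn (LP (LK LD1_c4 LD2_c13 LD3_c38))))))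
theorem f239703 : Led Lsl_at (LP (LK LD1_c1 LD2_c12 LD3_c50)) = (LP (LK LD1_c1 LD2_c19 LD3_c10)) :=
  Lgr Lrot100 (Lpr_af (K13.f239701 IH) (Lpn (LP (LK LD1_c1 LD2_c19 LD3_c10))))
theorem f229242 : Led Lsl_bt (LP (LK LD1_c1 LD2_c19 LD3_c10)) = (LP (LK LD1_c2 LD2_c45 LD3_c38)) :=
  Lre_b IH (LK LD1_c1 LD2_c19 LD3_c10) (LK LD1_c2 LD2_c45 LD3_c38) Lrfl Lrfl
theorem f258891 : Led Lsl_at (LP (LK LD1_c2 LD2_c45 LD3_c38)) = (LP (LK LD1_c4 LD2_c54 LD3_c1)) :=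
  Lgr Lrot67 (Lpe (f229242 IH) (Lpe (f239703 IH) (Lpe (K12.f33198 IH) (Lpr_af (f258889 IH) (Lpr_bf (K14.f231823 IH) (Lpn (LP (LK LD1_c4 LD2_c54 LD3_c1))))))))
theorem f43825 : Led Lsl_et (LP (LK LD1_c4 LD2_c54 LD3_c1)) = (LP (LK LD1_c2 LD2_c24 LD3_c55)) :=
  Lre_e IH (LK LD1_c4 LD2_c54 LD3_c1) (LK LD1_c2 LD2_c24 LD3_c55) Lrfl Lrfl
theorem f258899 : Led Lsl_af (LP (LK LD1_c1 LD2_c57 LD3_c47)) = (LP (LK LD1_c2 LD2_c24 LD3_c55)) :=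
  Lgr Lrot50 (Lpe (K14.f229249 IH) (Lpr_at (f258891 IH) (Lpr_et (f43825 IH) (Lpn (LP (LK LD1_c2 LD2_c24 LD3_c55))))))
theorem f184873 : Led Lsl_bf (LP (LK LD1_c2 LD2_c4 LD3_c9)) = (LP (LK LD1_c2 LD2_c24 LD3_c55)) :=
  Lgr Lrot34 (Lpe (K13.f44973 IH) (Lpe (K9.f50850 IH) (Lpr_ct (K9.f31521 IH) (Lpe (K10.f31471 IH) (Lpr_cf (K10.f184864 IH) (Lpr_gf (K9.f184826 IH) (Lpe (K9.f28281 IH) (Lpr_ct (K1.f28293 IH) (Lpe (K9.f46363 IH) (Lpe (K9.f184838 IH) (Lpn (LP (LK LD1_c2 LD2_c24 LD3_c55)))))))))))))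
theorem f189524 : Led Lsl_bt (LP (LK LD1_c2 LD2_c4 LD3_c13)) = (LP (LK LD1_c2 LD2_c25 LD3_c0)) :=
  Lgr Lrot92 (Lpr_ct (K10.f49193 IH) (Lpr_gt (K10.f45107 IH) (Lpe (K1.f45233 IH) (Lpe (K10.f32262 IH) (Lpr_gt (K9.f32916 IH) (Lpr_ct (K10.f189515 IH) (Lpr_gt (K10.f53585 IH) (Lpe (K9.f49612 IH) (Lpe (K10.f50031 IH) (Lpe (K10.f43413 IH) (Lpn (LP (LK LD1_c2 LD2_c25 LD3_c0)))))))))))))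
theorem f252204 : Led Lsl_ff (LP (LK LD1_c2 LD2_c24 LD3_c55)) = (LP (LK LD1_c2 LD2_c25 LD3_c0)) :=
  Lgr Lrot25 (Lpe (f184873 IH) (Lpr_ft (K14.f252200 IH) (Lpr_bt (f189524 IH) (Lpn (LP (LK LD1_c2 LD2_c25 LD3_c0))))))
theorem f183692 : Led Lsl_bt (LP (LK LD1_c1 LD2_c25 LD3_c12)) = (LP (LK LD1_c0 LD2_c55 LD3_c47)) :=
  Lgr Lrot92 (Lpr_ct (K10.f181426 IH) (Lpr_gt (K9.f183670 IH) (Lpe (K1.f45382 IH) (Lpr_bt (K12.f31598 IH) (Lpr_gt (K9.f167611 IH) (Lpr_ct (K9.f163703 IH) (Lpr_gt (K9.f163697 IH) (Lpe (K8.f34641 IH) (Lpr_bt (K10.f163688 IH) (Lpe (K10.f34017 IH) (Lpn (LP (LK LD1_c0 LD2_c55 LD3_c47)))))))))))))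
theorem f252194 : Led Lsl_at (LP (LK LD1_c1 LD2_c12 LD3_c51)) = (LP (LK LD1_c2 LD2_c25 LD3_c0)) :=
  Lgr Lrot67 (Lpe (K12.f190271 IH) (Lpr_af (K13.f239727 IH) (Lpe (f183692 IH) (Lpr_af (K14.f252190 IH) (Lpr_bf (K10.f189731 IH) (Lpn (LP (LK LD1_c2 LD2_c25 LD3_c0))))))))
theorem f258927 : Led Lsl_ft (LP (LK LD1_c1 LD2_c57 LD3_c47)) = (LP (LK LD1_c1 LD2_c12 LD3_c51)) :=
  Lgr Lrot101 (Lpr_af (f258899 IH) (Lpr_ff (f252204 IH) (Lpe (f252194 IH) (Lpn (LP (LK LD1_c1 LD2_c12 LD3_c51))))))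
theorem f230065 : Led Lsl_df (LP (LK LD1_c5 LD2_c19 LD3_c37)) = (LP (LK LD1_c8 LD2_c3 LD3_c57)) :=
  Lgr Lrot38 (Lpr_dt (f229992 IH) (Lpn (LP (LK LD1_c8 LD2_c3 LD3_c57))))
theorem f258939 : Led Lsl_ct (LP (LK LD1_c5 LD2_c19 LD3_c37)) = (LP (LK LD1_c9 LD2_c40 LD3_c30)) :=
  Lgr Lrot41 (Lpr_df (f230065 IH) (Lpe (K10.f182050 IH) (Lpe (K14.f182057 IH) (Lpr_ft (f258927 IH) (Lpr_at (f252194 IH) (Lpr_cf (K10.f184864 IH) (Lpe (f184828 IH) (Lpe (K14.f184835 IH) (Lpe (K14.f193112 IH) (Lpn (LP (LK LD1_c9 LD2_c40 LD3_c30))))))))))))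
theorem f44271 : Led Lsl_gt (LP (LK LD1_c1 LD2_c15 LD3_c13)) = (LP (LK LD1_c2 LD2_c36 LD3_c24)) :=
  Lre_g IH (LK LD1_c1 LD2_c15 LD3_c13) (LK LD1_c2 LD2_c36 LD3_c24) Lrfl Lrfl
theorem f192964 : Led Lsl_bt (LP (LK LD1_c1 LD2_c57 LD3_c51)) = (LP (LK LD1_c4 LD2_c1 LD3_c46)) :=
  Lre_b IH (LK LD1_c1 LD2_c57 LD3_c51) (LK LD1_c4 LD2_c1 LD3_c46) Lrfl Lrfl
theorem f192965 : Led Lsl_gt (LP (LK LD1_c2 LD2_c25 LD3_c1)) = (LP (LK LD1_c4 LD2_c1 LD3_c46)) :=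
  Lgr Lrot164 (Lpr_bf (K1.f31472 IH) (Lpr_ct (K12.f31476 IH) (Lpe (K14.f31499 IH) (Lpe (K14.f191763 IH) (Lpr_gf (K10.f46405 IH) (Lpe (K1.f45817 IH) (Lpr_ct (K10.f27858 IH) (Lpr_gf (K10.f192953 IH) (Lpe (K10.f165376 IH) (Lpr_bt (f192964 IH) (Lpn (LP (LK LD1_c4 LD2_c1 LD3_c46)))))))))))))
theorem f192971 : Led Lsl_gf (LP (LK LD1_c4 LD2_c54 LD3_c4)) = (LP (LK LD1_c4 LD2_c1 LD3_c46)) :=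
  Lgr Lrot76 (Lpr_af (K12.f43552 IH) (Lpe (K9.f31517 IH) (Lpr_gt (f192965 IH) (Lpn (LP (LK LD1_c4 LD2_c1 LD3_c46))))))
theorem f258943 : Led Lsl_ct (LP (LK LD1_c2 LD2_c36 LD3_c24)) = (LP (LK LD1_c4 LD2_c1 LD3_c46)) :=
  Lgr Lrot152 (Lpe (f44271 IH) (Lpe (K14.f44120 IH) (Lpr_gt (f44127 IH) (Lpr_ct (f258939 IH) (Lpr_gt (K14.f43763 IH) (Lpr_ct (f43524 IH) (Lpr_df (K14.f191573 IH) (Lpe (K12.f191564 IH) (Lpr_gf (f192971 IH) (Lpn (LP (LK LD1_c4 LD2_c1 LD3_c46))))))))))))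
theorem f258954 : Led Lsl_cf (LP (LK LD1_c2 LD2_c36 LD3_c24)) = (LP (LK LD1_c4 LD2_c1 LD3_c46)) :=
  Lgr Lrot11 (Lpr_ct (f258943 IH) (Lpn (LP (LK LD1_c4 LD2_c1 LD3_c46))))
theorem f28291 : Led Lsl_ct (LP (LK LD1_c2 LD2_c36 LD3_c45)) = (LP (LK LD1_c1 LD2_c15 LD3_c21)) :=
  Lre_c IH (LK LD1_c2 LD2_c36 LD3_c45) (LK LD1_c1 LD2_c15 LD3_c21) Lrfl Lrfl
theorem f259050 : Led Lsl_gt (LP (LK LD1_c2 LD2_c36 LD3_c24)) = (LP (LK LD1_c2 LD2_c36 LD3_c45)) :=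
  Lgr Lrot150 (Lpr_cf (f258954 IH) (Lpe (f192965 IH) (Lpe (K1.f31464 IH) (Lpr_gt (K14.f192982 IH) (Lpr_ct (K10.f184644 IH) (Lpe (K13.f193081 IH) (Lpr_ct (K1.f28261 IH) (Lpe (K14.f28290 IH) (Lpe (f28291 IH) (Lpn (LP (LK LD1_c2 LD2_c36 LD3_c45))))))))))))
theorem f44272 : Led Lsl_dt (LP (LK LD1_c2 LD2_c36 LD3_c24)) = (LP (LK LD1_c5 LD2_c19 LD3_c29)) :=
  Lre_d IH (LK LD1_c2 LD2_c36 LD3_c24) (LK LD1_c5 LD2_c19 LD3_c29) Lrfl Lrfl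
theorem f258066 : Led Lsl_ct (LP (LK LD1_c2 LD2_c32 LD3_c52)) = (LP (LK LD1_c5 LD2_c11 LD3_c61)) :=
  Lre_c IH (LK LD1_c2 LD2_c32 LD3_c52) (LK LD1_c5 LD2_c11 LD3_c61) Lrfl Lrfl
theorem f258071 : Led Lsl_dt (LP (LK LD1_c10 LD2_c14 LD3_c49)) = (LP (LK LD1_c5 LD2_c11 LD3_c61)) :=
  Lre_d IH (LK LD1_c10 LD2_c14 LD3_c49) (LK LD1_c5 LD2_c11 LD3_c61) Lrfl Lrfl
theorem f258072 : Led Lsl_gf (LP (LK LD1_c10 LD2_c14 LD3_c49)) = (LP (LK LD1_c5 LD2_c19 LD3_c29)) :=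
  Lgr Lrot143 (Lpr_dt (f258071 IH) (Lpe (f258066 IH) (Lpr_df (f258061 IH) (Lpe (f230299 IH) (Lpe (K12.f44266 IH) (Lpe (K12.f44265 IH) (Lpe (K1.f44062 IH) (Lpr_gt (f44271 IH) (Lpr_dt (f44272 IH) (Lpn (LP (LK LD1_c5 LD2_c19 LD3_c29))))))))))))
theorem f249431 : Led Lsl_gt (LP (LK LD1_c2 LD2_c28 LD3_c42)) = (LP (LK LD1_c5 LD2_c2 LD3_c9)) :=
  Lre_g IH (LK LD1_c2 LD2_c28 LD3_c42) (LK LD1_c5 LD2_c2 LD3_c9) Lrfl Lrfl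
theorem f251628 : Led Lsl_dt (LP (LK LD1_c5 LD2_c2 LD3_c9)) = (LP (LK LD1_c9 LD2_c55 LD3_c2)) :=
  Lre_d IH (LK LD1_c5 LD2_c2 LD3_c9) (LK LD1_c9 LD2_c55 LD3_c2) Lrfl Lrfl
theorem f251629 : Led Lsl_gt (LP (LK LD1_c9 LD2_c55 LD3_c2)) = (LP (LK LD1_c9 LD2_c39 LD3_c40)) :=
  Lgr Lrot49 (Lpe (f251628 IH) (Lpe (f249431 IH) (Lpe (K11.f165294 IH) (Lpr_gt (K14.f165336 IH) (Lpr_dt (K14.f251621 IH) (Lpr_gt (K12.f229932 IH) (Lpe (K12.f229921 IH) (Lpe (K12.f43797 IH) (Lpe (K12.f229931 IH) (Lpn (LP (LK LD1_c9 LD2_c39 LD3_c40))))))))))))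
theorem f259055 : Led Lsl_ct (LP (LK LD1_c10 LD2_c14 LD3_c49)) = (LP (LK LD1_c9 LD2_c55 LD3_c2)) :=
  Lgr Lrot152 (Lpr_gf (f258072 IH) (Lpe (f44272 IH) (Lpr_gt (f259050 IH) (Lpr_ct (f28291 IH) (Lpe (K9.f184226 IH) (Lpr_ct (K9.f32858 IH) (Lpe (K12.f165996 IH) (Lpe (K12.f229929 IH) (Lpe (f251629 IH) (Lpn (LP (LK LD1_c9 LD2_c55 LD3_c2))))))))))))
theorem f212350 : Led Lsl_cf (LP (LK LD1_c9 LD2_c40 LD3_c22)) = (LP (LK LD1_c5 LD2_c19 LD3_c29)) :=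
  Lgr Lrot14 (Lpe (K14.f43771 IH) (Lpr_gf (K9.f43769 IH) (Lpe (K9.f43433 IH) (Lpe (f43803 IH) (Lpr_ct (f212341 IH) (Lpr_gt (f44131 IH) (Lpr_dt (K14.f44120 IH) (Lpr_gt (f44271 IH) (Lpr_dt (f44272 IH) (Lpn (LP (LK LD1_c5 LD2_c19 LD3_c29))))))))))))
theorem f212374 : Led Lsl_ct (LP (LK LD1_c9 LD2_c40 LD3_c22)) = (LP (LK LD1_c5 LD2_c19 LD3_c29)) :=
  Lgr Lrot59 (Lpr_cf (f212350 IH) (Lpn (LP (LK LD1_c5 LD2_c19 LD3_c29))))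
theorem f257538 : Led Lsl_gt (LP (LK LD1_c10 LD2_c10 LD3_c53)) = (LP (LK LD1_c9 LD2_c40 LD3_c22)) :=
  Lgr Lrot180 (Lpr_ct (f257532 IH) (Lpe (f257529 IH) (Lpr_dt (K14.f32890 IH) (Lpr_gt (K12.f185504 IH) (Lpe (K14.f191573 IH) (Lpr_ct (K9.f43417 IH) (Lpe (K14.f43559 IH) (Lpe (K9.f43768 IH) (Lpe (K14.f43773 IH) (Lpn (LP (LK LD1_c9 LD2_c40 LD3_c22))))))))))))
theorem f28266 : Led Lsl_gt (LP (LK LD1_c2 LD2_c36 LD3_c6)) = (LP (LK LD1_c5 LD2_c18 LD3_c60)) :=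
  Lre_g IH (LK LD1_c2 LD2_c36 LD3_c6) (LK LD1_c5 LD2_c18 LD3_c60) Lrfl Lrfl
theorem f259067 : Led Lsl_ct (LP (LK LD1_c5 LD2_c18 LD3_c60)) = (LP (LK LD1_c5 LD2_c2 LD3_c9)) :=
  Lgr Lrot110 (Lpe (f28266 IH) (Lpe (K10.f184850 IH) (Lpe (K10.f189538 IH) (Lpe (f189540 IH) (Lpr_gt (f257538 IH) (Lpr_ct (f212374 IH) (Lpe (f258072 IH) (Lpr_ct (f259055 IH) (Lpe (f251628 IH) (Lpn (LP (LK LD1_c5 LD2_c2 LD3_c9))))))))))))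
theorem f192220 : Led Lsl_et (LP (LK LD1_c4 LD2_c3 LD3_c2)) = (LP (LK LD1_c1 LD2_c58 LD3_c31)) :=
  Lre_e IH (LK LD1_c4 LD2_c3 LD3_c2) (LK LD1_c1 LD2_c58 LD3_c31) Lrfl Lrfl
theorem f47528 : Led Lsl_gf (LP (LK LD1_c0 LD2_c28 LD3_c27)) = (LP (LK LD1_c0 LD2_c35 LD3_c4)) :=
  Lgr Lrot148 (Lpe (K1.f44231 IH) (Lpe (K10.f47488 IH) (Lpe (K10.f47517 IH) (Lpr_ct (K1.f47508 IH) (Lpr_df (K1.f44320 IH) (Lpe (K1.f44540 IH) (Lpr_df (K8.f43244 IH) (Lpe (K1.f43248 IH) (Lpe (K8.f44548 IH) (Lpn (LP (LK LD1_c0 LD2_c35 LD3_c4))))))))))))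
theorem f192223 : Led Lsl_dt (LP (LK LD1_c4 LD2_c3 LD3_c2)) = (LP (LK LD1_c5 LD2_c18 LD3_c60)) :=
  Lgr Lrot56 (Lpr_et (f192220 IH) (Lpr_gt (K10.f192205 IH) (Lpe (K0.f28720 IH) (Lpe (K8.f47806 IH) (Lpe (f47528 IH) (Lpe (K1.f44042 IH) (Lpr_et (K1.f28305 IH) (Lpr_gt (K9.f28264 IH) (Lpr_dt (K10.f28265 IH) (Lpr_gt (f28266 IH) (Lpn (LP (LK LD1_c5 LD2_c18 LD3_c60)))))))))))))
theorem f192225 : Led Lsl_bt (LP (LK LD1_c1 LD2_c58 LD3_c33)) = (LP (LK LD1_c4 LD2_c3 LD3_c2)) :=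
  Lre_b IH (LK LD1_c1 LD2_c58 LD3_c33) (LK LD1_c4 LD2_c3 LD3_c2) Lrfl Lrfl
theorem f184817 : Led Lsl_dt (LP (LK LD1_c4 LD2_c3 LD3_c6)) = (LP (LK LD1_c1 LD2_c58 LD3_c33)) :=
  Lre_d IH (LK LD1_c4 LD2_c3 LD3_c6) (LK LD1_c1 LD2_c58 LD3_c33) Lrfl Lrfl
theorem f192226 : Led Lsl_bf (LP (LK LD1_c4 LD2_c3 LD3_c6)) = (LP (LK LD1_c5 LD2_c18 LD3_c60)) :=
  Lgr Lrot93 (Lpr_dt (f184817 IH) (Lpr_bt (f192225 IH) (Lpr_dt (f192223 IH) (Lpn (LP (LK LD1_c5 LD2_c18 LD3_c60))))))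
theorem f246823 : Led Lsl_bf (LP (LK LD1_c1 LD2_c11 LD3_c34)) = (LP (LK LD1_c2 LD2_c28 LD3_c18)) :=
  Lgr Lrot93 (Lpe (K9.f171233 IH) (Lpr_bt (K14.f171229 IH) (Lpr_dt (K14.f246821 IH) (Lpn (LP (LK LD1_c2 LD2_c28 LD3_c18))))))
theorem f3689 : Led Lsl_ct (LP (LK LD1_c2 LD2_c28 LD3_c18)) = (LP (LK LD1_c5 LD2_c1 LD3_c5)) :=
  Lre_c IH (LK LD1_c2 LD2_c28 LD3_c18) (LK LD1_c5 LD2_c1 LD3_c5) Lrfl Lrfl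
theorem f252684 : Led Lsl_et (LP (LK LD1_c5 LD2_c1 LD3_c23)) = (LP (LK LD1_c9 LD2_c53 LD3_c3)) :=
  Lre_e IH (LK LD1_c5 LD2_c1 LD3_c23) (LK LD1_c9 LD2_c53 LD3_c3) Lrfl Lrfl
theorem f252685 : Led Lsl_bf (LP (LK LD1_c5 LD2_c28 LD3_c13)) = (LP (LK LD1_c9 LD2_c53 LD3_c3)) :=
  Lgr Lrot96 (Lpr_et (K14.f252577 IH) (Lpr_bt (K14.f252679 IH) (Lpr_et (f252684 IH) (Lpn (LP (LK LD1_c9 LD2_c53 LD3_c3))))))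
theorem f45258 : Led Lsl_dt (LP (LK LD1_c2 LD2_c34 LD3_c23)) = (LP (LK LD1_c1 LD2_c14 LD3_c12)) :=
  Lre_d IH (LK LD1_c2 LD2_c34 LD3_c23) (LK LD1_c1 LD2_c14 LD3_c12) Lrfl Lrfl
theorem f252568 : Led Lsl_dt (LP (LK LD1_c5 LD2_c28 LD3_c13)) = (LP (LK LD1_c5 LD2_c15 LD3_c3)) :=
  Lgr Lrot77 (Lpe (K14.f191319 IH) (Lpe (K14.f175071 IH) (Lpr_ef (K14.f252561 IH) (Lpe (f45258 IH) (Lpe (K14.f252563 IH) (Lpn (LP (LK LD1_c5 LD2_c15 LD3_c3))))))))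
theorem f252689 : Led Lsl_dt (LP (LK LD1_c5 LD2_c1 LD3_c22)) = (LP (LK LD1_c9 LD2_c53 LD3_c3)) :=
  Lre_d IH (LK LD1_c5 LD2_c1 LD3_c22) (LK LD1_c9 LD2_c53 LD3_c3) Lrfl Lrfl
theorem f252690 : Led Lsl_bt (LP (LK LD1_c5 LD2_c15 LD3_c3)) = (LP (LK LD1_c5 LD2_c1 LD3_c22)) :=
  Lgr Lrot95 (Lpe (f252568 IH) (Lpr_bf (f252685 IH) (Lpe (f252689 IH) (Lpn (LP (LK LD1_c5 LD2_c1 LD3_c22))))))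
theorem f252696 : Led Lsl_et (LP (LK LD1_c5 LD2_c1 LD3_c22)) = (LP (LK LD1_c2 LD2_c28 LD3_c23)) :=
  Lre_e IH (LK LD1_c5 LD2_c1 LD3_c22) (LK LD1_c2 LD2_c28 LD3_c23) Lrfl Lrfl
theorem f252697 : Led Lsl_bf (LP (LK LD1_c2 LD2_c34 LD3_c23)) = (LP (LK LD1_c2 LD2_c28 LD3_c23)) :=
  Lgr Lrot96 (Lpr_et (K14.f48937 IH) (Lpr_bt (f252690 IH) (Lpr_et (f252696 IH) (Lpn (LP (LK LD1_c2 LD2_c28 LD3_c23))))))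
theorem f3756 : Led Lsl_ct (LP (LK LD1_c2 LD2_c28 LD3_c23)) = (LP (LK LD1_c5 LD2_c1 LD3_c21)) :=
  Lre_c IH (LK LD1_c2 LD2_c28 LD3_c23) (LK LD1_c5 LD2_c1 LD3_c21) Lrfl Lrfl
theorem f252702 : Led Lsl_gf (LP (LK LD1_c5 LD2_c1 LD3_c5)) = (LP (LK LD1_c5 LD2_c1 LD3_c21)) :=
  Lgr Lrot126 (Lpe (f3689 IH) (Lpe (f246823 IH) (Lpr_gt (K9.f165276 IH) (Lpr_ct (K8.f3785 IH) (Lpr_gt (K12.f165626 IH) (Lpr_cf (K12.f212104 IH) (Lpr_bt (K12.f185622 IH) (Lpr_gt (K14.f252553 IH) (Lpr_bf (f252697 IH) (Lpr_ct (f3756 IH) (Lpn (LP (LK LD1_c5 LD2_c1 LD3_c21)))))))))))))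
theorem f259077 : Led Lsl_gt (LP (LK LD1_c4 LD2_c3 LD3_c6)) = (LP (LK LD1_c2 LD2_c28 LD3_c23)) :=
  Lgr Lrot82 (Lpr_bf (f192226 IH) (Lpr_ct (f259067 IH) (Lpe (f249431 IH) (Lpe (K11.f165294 IH) (Lpr_bt (K11.f165293 IH) (Lpe (K9.f165276 IH) (Lpr_bf (f246823 IH) (Lpr_ct (f3689 IH) (Lpr_gf (f252702 IH) (Lpe (f3756 IH) (Lpn (LP (LK LD1_c2 LD2_c28 LD3_c23)))))))))))))
theorem f184819 : Led Lsl_et (LP (LK LD1_c8 LD2_c6 LD3_c46)) = (LP (LK LD1_c4 LD2_c3 LD3_c6)) :=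
  Lre_e IH (LK LD1_c8 LD2_c6 LD3_c46) (LK LD1_c4 LD2_c3 LD3_c6) Lrfl Lrfl
theorem f184820 : Led Lsl_dt (LP (LK LD1_c8 LD2_c6 LD3_c46)) = (LP (LK LD1_c4 LD2_c3 LD3_c4)) :=
  Lre_d IH (LK LD1_c8 LD2_c6 LD3_c46) (LK LD1_c4 LD2_c3 LD3_c4) Lrfl Lrfl
theorem f243951 : Led Lsl_et (LP (LK LD1_c2 LD2_c6 LD3_c59)) = (LP (LK LD1_c4 LD2_c19 LD3_c9)) :=
  Lre_e IH (LK LD1_c2 LD2_c6 LD3_c59) (LK LD1_c4 LD2_c19 LD3_c9) Lrfl Lrfl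
theorem f51366 : Led Lsl_et (LP (LK LD1_c0 LD2_c56 LD3_c8)) = (LP (LK LD1_c0 LD2_c25 LD3_c31)) :=
  Lre_e IH (LK LD1_c0 LD2_c56 LD3_c8) (LK LD1_c0 LD2_c25 LD3_c31) Lrfl Lrfl
theorem f51041 : Led Lsl_dt (LP (LK LD1_c0 LD2_c56 LD3_c8)) = (LP (LK LD1_c0 LD2_c25 LD3_c28)) :=
  Lre_d IH (LK LD1_c0 LD2_c56 LD3_c8) (LK LD1_c0 LD2_c25 LD3_c28) Lrfl Lrfl
theorem f187855 : Led Lsl_dt (LP (LK LD1_c1 LD2_c58 LD3_c32)) = (LP (LK LD1_c0 LD2_c56 LD3_c7)) :=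
  Lre_d IH (LK LD1_c1 LD2_c58 LD3_c32) (LK LD1_c0 LD2_c56 LD3_c7) Lrfl Lrfl
theorem f211405 : Led Lsl_et (LP (LK LD1_c1 LD2_c58 LD3_c32)) = (LP (LK LD1_c4 LD2_c3 LD3_c4)) :=
  Lre_e IH (LK LD1_c1 LD2_c58 LD3_c32) (LK LD1_c4 LD2_c3 LD3_c4) Lrfl Lrfl
theorem f243962 : Led Lsl_gt (LP (LK LD1_c4 LD2_c19 LD3_c9)) = (LP (LK LD1_c4 LD2_c3 LD3_c4)) :=
  Lgr Lrot131 (Lpe (f243951 IH) (Lpr_dt (f243956 IH) (Lpr_gf (K12.f211401 IH) (Lpr_df (K11.f201067 IH) (Lpe (K11.f199144 IH) (Lpe (f51366 IH) (Lpr_dt (f51041 IH) (Lpe (K10.f44919 IH) (Lpe (f187855 IH) (Lpr_et (f211405 IH) (Lpn (LP (LK LD1_c4 LD2_c3 LD3_c4)))))))))))))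
theorem f3737 : Led Lsl_dt (LP (LK LD1_c2 LD2_c28 LD3_c23)) = (LP (LK LD1_c1 LD2_c11 LD3_c25)) :=
  Lre_d IH (LK LD1_c2 LD2_c28 LD3_c23) (LK LD1_c1 LD2_c11 LD3_c25) Lrfl Lrfl
theorem f46342 : Led Lsl_af (LP (LK LD1_c0 LD2_c34 LD3_c55)) = (LP (LK LD1_c0 LD2_c56 LD3_c0)) :=
  Lgr Lrot36 (Lpr_bt (K1.f28250 IH) (Lpr_at (K1.f46326 IH) (Lpr_bt (K10.f28299 IH) (Lpr_at (K9.f46109 IH) (Lpe (K1.f45862 IH) (Lpn (LP (LK LD1_c0 LD2_c56 LD3_c0))))))))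
theorem f192472 : Led Lsl_gf (LP (LK LD1_c0 LD2_c34 LD3_c55)) = (LP (LK LD1_c1 LD2_c11 LD3_c25)) :=
  Lgr Lrot76 (Lpr_af (f46342 IH) (Lpe (K1.f45879 IH) (Lpr_gt (K10.f192470 IH) (Lpn (LP (LK LD1_c1 LD2_c11 LD3_c25))))))
theorem f46992 : Led Lsl_gt (LP (LK LD1_c0 LD2_c55 LD3_c60)) = (LP (LK LD1_c1 LD2_c58 LD3_c12)) :=
  Lre_g IH (LK LD1_c0 LD2_c55 LD3_c60) (LK LD1_c1 LD2_c58 LD3_c12) Lrfl Lrfl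
theorem f46993 : Led Lsl_et (LP (LK LD1_c4 LD2_c2 LD3_c27)) = (LP (LK LD1_c1 LD2_c58 LD3_c12)) :=
  Lre_e IH (LK LD1_c4 LD2_c2 LD3_c27) (LK LD1_c1 LD2_c58 LD3_c12) Lrfl Lrfl
theorem f259083 : Led Lsl_df (LP (LK LD1_c4 LD2_c19 LD3_c9)) = (LP (LK LD1_c4 LD2_c2 LD3_c27)) :=
  Lgr Lrot170 (Lpr_gt (f243962 IH) (Lpe (f184820 IH) (Lpr_et (f184819 IH) (Lpr_gt (f259077 IH) (Lpr_dt (f3737 IH) (Lpe (f192472 IH) (Lpe (K1.f44913 IH) (Lpr_et (K1.f46985 IH) (Lpr_gt (f46992 IH) (Lpe (f46993 IH) (Lpn (LP (LK LD1_c4 LD2_c2 LD3_c27)))))))))))))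
theorem f259100 : Led Lsl_dt (LP (LK LD1_c4 LD2_c19 LD3_c9)) = (LP (LK LD1_c4 LD2_c2 LD3_c27)) :=
  Lgr Lrot42 (Lpr_df (f259083 IH) (Lpn (LP (LK LD1_c4 LD2_c2 LD3_c27))))
theorem f243930 : Led Lsl_et (LP (LK LD1_c4 LD2_c19 LD3_c9)) = (LP (LK LD1_c2 LD2_c6 LD3_c59)) :=
  Lre_e IH (LK LD1_c4 LD2_c19 LD3_c9) (LK LD1_c2 LD2_c6 LD3_c59) Lrfl Lrfl
theorem f28000 : Led Lsl_gt (LP (LK LD1_c1 LD2_c59 LD3_c5)) = (LP (LK LD1_c4 LD2_c4 LD3_c18)) :=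
  Lre_g IH (LK LD1_c1 LD2_c59 LD3_c5) (LK LD1_c4 LD2_c4 LD3_c18) Lrfl Lrfl
theorem f28082 : Led Lsl_et (LP (LK LD1_c8 LD2_c9 LD3_c30)) = (LP (LK LD1_c4 LD2_c4 LD3_c18)) :=
  Lre_e IH (LK LD1_c8 LD2_c9 LD3_c30) (LK LD1_c4 LD2_c4 LD3_c18) Lrfl Lrfl
theorem f259085 : Led Lsl_gt (LP (LK LD1_c8 LD2_c5 LD3_c27)) = (LP (LK LD1_c4 LD2_c2 LD3_c27)) :=
  Lre_g IH (LK LD1_c8 LD2_c5 LD3_c27) (LK LD1_c4 LD2_c2 LD3_c27) Lrfl Lrfl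
theorem f259115 : Led Lsl_dt (LP (LK LD1_c8 LD2_c9 LD3_c30)) = (LP (LK LD1_c8 LD2_c5 LD3_c27)) :=
  Lgr Lrot136 (Lpr_et (f28082 IH) (Lpe (f28000 IH) (Lpe (K9.f27967 IH) (Lpr_dt (K9.f27968 IH) (Lpe (K9.f180241 IH) (Lpe (K10.f2881 IH) (Lpr_gf (f243933 IH) (Lpe (f243930 IH) (Lpr_dt (f259100 IH) (Lpe (f259085 IH) (Lpn (LP (LK LD1_c8 LD2_c5 LD3_c27)))))))))))))
theorem f259126 : Led Lsl_et (LP (LK LD1_c4 LD2_c4 LD3_c18)) = (LP (LK LD1_c8 LD2_c9 LD3_c30)) :=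
  Lre_e IH (LK LD1_c4 LD2_c4 LD3_c18) (LK LD1_c8 LD2_c9 LD3_c30) Lrfl Lrfl
theorem f28016 : Led Lsl_dt (LP (LK LD1_c8 LD2_c9 LD3_c29)) = (LP (LK LD1_c4 LD2_c4 LD3_c18)) :=
  Lre_d IH (LK LD1_c8 LD2_c9 LD3_c29) (LK LD1_c4 LD2_c4 LD3_c18) Lrfl Lrfl
theorem f259127 : Led Lsl_et (LP (LK LD1_c15 LD2_c22 LD3_c2)) = (LP (LK LD1_c8 LD2_c9 LD3_c29)) :=
  Lre_e IH (LK LD1_c15 LD2_c22 LD3_c2) (LK LD1_c8 LD2_c9 LD3_c29) Lrfl Lrfl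
theorem f259128 : Led Lsl_et (LP (LK LD1_c8 LD2_c5 LD3_c27)) = (LP (LK LD1_c15 LD2_c14 LD3_c10)) :=
  Lre_e IH (LK LD1_c8 LD2_c5 LD3_c27) (LK LD1_c15 LD2_c14 LD3_c10) Lrfl Lrfl
theorem f259129 : Led Lsl_df (LP (LK LD1_c15 LD2_c22 LD3_c2)) = (LP (LK LD1_c15 LD2_c14 LD3_c10)) :=
  Lgr Lrot70 (Lpr_et (f259127 IH) (Lpr_dt (f28016 IH) (Lpr_et (f259126 IH) (Lpr_dt (f259115 IH) (Lpr_et (f259128 IH) (Lpn (LP (LK LD1_c15 LD2_c14 LD3_c10))))))))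
theorem f259086 : Led Lsl_et (LP (LK LD1_c15 LD2_c14 LD3_c10)) = (LP (LK LD1_c8 LD2_c5 LD3_c27)) :=
  Lre_e IH (LK LD1_c15 LD2_c14 LD3_c10) (LK LD1_c8 LD2_c5 LD3_c27) Lrfl Lrfl
theorem f259133 : Led Lsl_gf (LP (LK LD1_c15 LD2_c22 LD3_c2)) = (LP (LK LD1_c9 LD2_c53 LD3_c3)) :=
  Lgr Lrot145 (Lpr_df (f259129 IH) (Lpr_et (f259086 IH) (Lpr_gt (f259085 IH) (Lpe (f259083 IH) (Lpr_gt (f243962 IH) (Lpe (f184820 IH) (Lpr_et (f184819 IH) (Lpr_gt (f259077 IH) (Lpe (f252696 IH) (Lpr_dt (f252689 IH) (Lpn (LP (LK LD1_c9 LD2_c53 LD3_c3)))))))))))))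
theorem f28017 : Led Lsl_et (LP (LK LD1_c8 LD2_c9 LD3_c29)) = (LP (LK LD1_c15 LD2_c22 LD3_c2)) :=
  Lre_e IH (LK LD1_c8 LD2_c9 LD3_c29) (LK LD1_c15 LD2_c22 LD3_c2) Lrfl Lrfl
theorem f28075 : Led Lsl_gt (LP (LK LD1_c4 LD2_c4 LD3_c18)) = (LP (LK LD1_c8 LD2_c2 LD3_c52)) :=
  Lre_g IH (LK LD1_c4 LD2_c4 LD3_c18) (LK LD1_c8 LD2_c2 LD3_c52) Lrfl Lrfl
theorem f28059 : Led Lsl_et (LP (LK LD1_c8 LD2_c2 LD3_c52)) = (LP (LK LD1_c4 LD2_c1 LD3_c3)) :=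
  Lre_e IH (LK LD1_c8 LD2_c2 LD3_c52) (LK LD1_c4 LD2_c1 LD3_c3) Lrfl Lrfl
theorem f259135 : Led Lsl_gt (LP (LK LD1_c2 LD2_c37 LD3_c48)) = (LP (LK LD1_c2 LD2_c28 LD3_c24)) :=
  Lgr Lrot139 (Lpe (K10.f194748 IH) (Lpe (K10.f28072 IH) (Lpe (f28059 IH) (Lpr_dt (K10.f28022 IH) (Lpe (f28075 IH) (Lpe (f28016 IH) (Lpr_et (f28017 IH) (Lpr_gf (f259133 IH) (Lpe (f252684 IH) (Lpr_dt (K14.f252678 IH) (Lpn (LP (LK LD1_c2 LD2_c28 LD3_c24)))))))))))))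
theorem f238526 : Led Lsl_dt (LP (LK LD1_c4 LD2_c19 LD3_c15)) = (LP (LK LD1_c2 LD2_c7 LD3_c0)) :=
  Lre_d IH (LK LD1_c4 LD2_c19 LD3_c15) (LK LD1_c2 LD2_c7 LD3_c0) Lrfl Lrfl
theorem f228078 : Led Lsl_gt (LP (LK LD1_c4 LD2_c19 LD3_c14)) = (LP (LK LD1_c2 LD2_c7 LD3_c0)) :=
  Lre_g IH (LK LD1_c4 LD2_c19 LD3_c14) (LK LD1_c2 LD2_c7 LD3_c0) Lrfl Lrfl
theorem f184796 : Led Lsl_et (LP (LK LD1_c0 LD2_c28 LD3_c1)) = (LP (LK LD1_c1 LD2_c1 LD3_c15)) :=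
  Lre_e IH (LK LD1_c0 LD2_c28 LD3_c1) (LK LD1_c1 LD2_c1 LD3_c15) Lrfl Lrfl
theorem f233268 : Led Lsl_et (LP (LK LD1_c4 LD2_c9 LD3_c17)) = (LP (LK LD1_c2 LD2_c1 LD3_c60)) :=
  Lre_e IH (LK LD1_c4 LD2_c9 LD3_c17) (LK LD1_c2 LD2_c1 LD3_c60) Lrfl Lrfl
theorem f238527 : Led Lsl_df (LP (LK LD1_c4 LD2_c19 LD3_c14)) = (LP (LK LD1_c4 LD2_c9 LD3_c17)) :=
  Lgr Lrot170 (Lpr_gt (f228078 IH) (Lpe (f238526 IH) (Lpr_et (K14.f238525 IH) (Lpr_gt (K13.f238506 IH) (Lpr_dt (K13.f28831 IH) (Lpr_gt (K9.f28820 IH) (Lpe (K1.f39170 IH) (Lpr_et (f184796 IH) (Lpe (K13.f228934 IH) (Lpe (f233268 IH) (Lpn (LP (LK LD1_c4 LD2_c9 LD3_c17)))))))))))))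
theorem f238549 : Led Lsl_dt (LP (LK LD1_c4 LD2_c19 LD3_c14)) = (LP (LK LD1_c4 LD2_c9 LD3_c17)) :=
  Lgr Lrot42 (Lpr_df (f238527 IH) (Lpn (LP (LK LD1_c4 LD2_c9 LD3_c17))))
theorem f238529 : Led Lsl_gt (LP (LK LD1_c8 LD2_c18 LD3_c36)) = (LP (LK LD1_c4 LD2_c9 LD3_c17)) :=
  Lre_g IH (LK LD1_c8 LD2_c18 LD3_c36) (LK LD1_c4 LD2_c9 LD3_c17) Lrfl Lrfl
theorem f28850 : Led Lsl_dt (LP (LK LD1_c2 LD2_c8 LD3_c23)) = (LP (LK LD1_c4 LD2_c3 LD3_c25)) :=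
  Lgr Lrot42 (Lpr_df (K13.f28834 IH) (Lpn (LP (LK LD1_c4 LD2_c3 LD3_c25))))
theorem f28867 : Led Lsl_gt (LP (LK LD1_c4 LD2_c3 LD3_c25)) = (LP (LK LD1_c8 LD2_c7 LD3_c23)) :=
  Lre_g IH (LK LD1_c4 LD2_c3 LD3_c25) (LK LD1_c8 LD2_c7 LD3_c23) Lrfl Lrfl
theorem f28910 : Led Lsl_dt (LP (LK LD1_c15 LD2_c17 LD3_c52)) = (LP (LK LD1_c8 LD2_c7 LD3_c23)) :=
  Lre_d IH (LK LD1_c15 LD2_c17 LD3_c52) (LK LD1_c8 LD2_c7 LD3_c23) Lrfl Lrfl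
theorem f238530 : Led Lsl_ef (LP (LK LD1_c8 LD2_c18 LD3_c36)) = (LP (LK LD1_c15 LD2_c17 LD3_c52)) :=
  Lgr Lrot167 (Lpr_gt (f238529 IH) (Lpe (f238527 IH) (Lpr_gt (f228078 IH) (Lpe (f238526 IH) (Lpr_et (K14.f238525 IH) (Lpr_gt (K13.f238506 IH) (Lpe (K13.f28832 IH) (Lpr_dt (f28850 IH) (Lpr_gt (f28867 IH) (Lpe (f28910 IH) (Lpn (LP (LK LD1_c15 LD2_c17 LD3_c52)))))))))))))
theorem f238534 : Led Lsl_et (LP (LK LD1_c8 LD2_c18 LD3_c36)) = (LP (LK LD1_c15 LD2_c17 LD3_c52)) :=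
  Lgr Lrot87 (Lpr_ef (f238530 IH) (Lpn (LP (LK LD1_c15 LD2_c17 LD3_c52))))
theorem f27998 : Led Lsl_gt (LP (LK LD1_c4 LD2_c4 LD3_c19)) = (LP (LK LD1_c1 LD2_c59 LD3_c5)) :=
  Lre_g IH (LK LD1_c4 LD2_c4 LD3_c19) (LK LD1_c1 LD2_c59 LD3_c5) Lrfl Lrfl
theorem f28003 : Led Lsl_dt (LP (LK LD1_c8 LD2_c9 LD3_c33)) = (LP (LK LD1_c4 LD2_c4 LD3_c19)) :=
  Lre_d IH (LK LD1_c8 LD2_c9 LD3_c33) (LK LD1_c4 LD2_c4 LD3_c19) Lrfl Lrfl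
theorem f211448 : Led Lsl_ef (LP (LK LD1_c8 LD2_c7 LD3_c23)) = (LP (LK LD1_c8 LD2_c9 LD3_c33)) :=
  Lgr Lrot17 (Lpe (f28867 IH) (Lpe (K13.f28833 IH) (Lpe (K9.f28828 IH) (Lpr_gf (K12.f211441 IH) (Lpr_df (f187916 IH) (Lpe (K10.f27977 IH) (Lpe (K9.f27969 IH) (Lpr_dt (K9.f27970 IH) (Lpe (f27998 IH) (Lpe (f28003 IH) (Lpn (LP (LK LD1_c8 LD2_c9 LD3_c33)))))))))))))
theorem f211454 : Led Lsl_et (LP (LK LD1_c8 LD2_c7 LD3_c23)) = (LP (LK LD1_c8 LD2_c9 LD3_c33)) :=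
  Lgr Lrot87 (Lpr_ef (f211448 IH) (Lpn (LP (LK LD1_c8 LD2_c9 LD3_c33))))
theorem f211459 : Led Lsl_et (LP (LK LD1_c4 LD2_c4 LD3_c19)) = (LP (LK LD1_c8 LD2_c9 LD3_c34)) :=
  Lre_e IH (LK LD1_c4 LD2_c4 LD3_c19) (LK LD1_c8 LD2_c9 LD3_c34) Lrfl Lrfl
theorem f238536 : Led Lsl_df (LP (LK LD1_c8 LD2_c18 LD3_c36)) = (LP (LK LD1_c8 LD2_c9 LD3_c34)) :=
  Lgr Lrot70 (Lpr_et (f238534 IH) (Lpr_dt (f28910 IH) (Lpr_et (f211454 IH) (Lpr_dt (f28003 IH) (Lpr_et (f211459 IH) (Lpn (LP (LK LD1_c8 LD2_c9 LD3_c34))))))))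
theorem f28015 : Led Lsl_et (LP (LK LD1_c8 LD2_c9 LD3_c34)) = (LP (LK LD1_c4 LD2_c4 LD3_c19)) :=
  Lre_e IH (LK LD1_c8 LD2_c9 LD3_c34) (LK LD1_c4 LD2_c4 LD3_c19) Lrfl Lrfl
theorem f28076 : Led Lsl_gt (LP (LK LD1_c8 LD2_c2 LD3_c52)) = (LP (LK LD1_c4 LD2_c4 LD3_c19)) :=
  Lre_g IH (LK LD1_c8 LD2_c2 LD3_c52) (LK LD1_c4 LD2_c4 LD3_c19) Lrfl Lrfl
theorem f51250 : Led Lsl_dt (LP (LK LD1_c1 LD2_c58 LD3_c29)) = (LP (LK LD1_c0 LD2_c56 LD3_c6)) :=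
  Lre_d IH (LK LD1_c1 LD2_c58 LD3_c29) (LK LD1_c0 LD2_c56 LD3_c6) Lrfl Lrfl
theorem f51251 : Led Lsl_gt (LP (LK LD1_c4 LD2_c2 LD3_c58)) = (LP (LK LD1_c1 LD2_c58 LD3_c29)) :=
  Lre_g IH (LK LD1_c4 LD2_c2 LD3_c58) (LK LD1_c1 LD2_c58 LD3_c29) Lrfl Lrfl
theorem f238562 : Led Lsl_et (LP (LK LD1_c4 LD2_c19 LD3_c14)) = (LP (LK LD1_c4 LD2_c2 LD3_c58)) :=
  Lgr Lrot121 (Lpr_dt (f238549 IH) (Lpe (f238529 IH) (Lpr_df (f238536 IH) (Lpr_et (f28015 IH) (Lpe (f28076 IH) (Lpe (K10.f28058 IH) (Lpr_dt (K9.f28060 IH) (Lpe (K10.f28070 IH) (Lpe (f51250 IH) (Lpe (f51251 IH) (Lpn (LP (LK LD1_c4 LD2_c2 LD3_c58)))))))))))))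
theorem f238567 : Led Lsl_ef (LP (LK LD1_c4 LD2_c19 LD3_c14)) = (LP (LK LD1_c4 LD2_c2 LD3_c58)) :=
  Lgr Lrot88 (Lpr_et (f238562 IH) (Lpn (LP (LK LD1_c4 LD2_c2 LD3_c58))))
theorem f238569 : Led Lsl_dt (LP (LK LD1_c2 LD2_c43 LD3_c58)) = (LP (LK LD1_c4 LD2_c2 LD3_c58)) :=
  Lgr Lrot77 (Lpe (K13.f233737 IH) (Lpe (K13.f167271 IH) (Lpe (f233268 IH) (Lpe (f238549 IH) (Lpr_ef (f238567 IH) (Lpn (LP (LK LD1_c4 LD2_c2 LD3_c58))))))))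
theorem f50809 : Led Lsl_ct (LP (LK LD1_c1 LD2_c58 LD3_c29)) = (LP (LK LD1_c4 LD2_c2 LD3_c59)) :=
  Lre_c IH (LK LD1_c1 LD2_c58 LD3_c29) (LK LD1_c4 LD2_c2 LD3_c59) Lrfl Lrfl
theorem f252676 : Led Lsl_ct (LP (LK LD1_c2 LD2_c28 LD3_c24)) = (LP (LK LD1_c1 LD2_c11 LD3_c27)) :=
  Lre_c IH (LK LD1_c2 LD2_c28 LD3_c24) (LK LD1_c1 LD2_c11 LD3_c27) Lrfl Lrfl
theorem f252996 : Led Lsl_ct (LP (LK LD1_c5 LD2_c1 LD3_c30)) = (LP (LK LD1_c2 LD2_c28 LD3_c27)) :=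
  Lre_c IH (LK LD1_c5 LD2_c1 LD3_c30) (LK LD1_c2 LD2_c28 LD3_c27) Lrfl Lrfl
theorem f259139 : Led Lsl_gt (LP (LK LD1_c4 LD2_c2 LD3_c59)) = (LP (LK LD1_c5 LD2_c1 LD3_c30)) :=
  Lgr Lrot150 (Lpe (f50809 IH) (Lpe (f51251 IH) (Lpe (f238569 IH) (Lpe (K13.f233739 IH) (Lpe (K10.f171998 IH) (Lpr_gt (f259135 IH) (Lpr_ct (f252676 IH) (Lpe (K14.f252681 IH) (Lpe (f252996 IH) (Lpn (LP (LK LD1_c5 LD2_c1 LD3_c30))))))))))))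
theorem f259141 : Led Lsl_dt (LP (LK LD1_c4 LD2_c2 LD3_c59)) = (LP (LK LD1_c8 LD2_c6 LD3_c35)) :=
  Lre_d IH (LK LD1_c4 LD2_c2 LD3_c59) (LK LD1_c8 LD2_c6 LD3_c35) Lrfl Lrfl
theorem f190941 : Led Lsl_dt (LP (LK LD1_c8 LD2_c14 LD3_c14)) = (LP (LK LD1_c4 LD2_c6 LD3_c50)) :=
  Lre_d IH (LK LD1_c8 LD2_c14 LD3_c14) (LK LD1_c4 LD2_c6 LD3_c50) Lrfl Lrfl
theorem f22095 : Led Lsl_dt (LP (LK LD1_c0 LD2_c57 LD3_c20)) = (LP (LK LD1_c2 LD2_c0 LD3_c45)) :=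
  Lre_d IH (LK LD1_c0 LD2_c57 LD3_c20) (LK LD1_c2 LD2_c0 LD3_c45) Lrfl Lrfl
theorem f189980 : Led Lsl_ct (LP (LK LD1_c4 LD2_c14 LD3_c21)) = (LP (LK LD1_c2 LD2_c4 LD3_c33)) :=
  Lre_c IH (LK LD1_c4 LD2_c14 LD3_c21) (LK LD1_c2 LD2_c4 LD3_c33) Lrfl Lrfl
theorem f233744 : Led Lsl_gf (LP (LK LD1_c8 LD2_c14 LD3_c14)) = (LP (LK LD1_c8 LD2_c7 LD3_c12)) :=
  Lgr Lrot143 (Lpr_dt (f190941 IH) (Lpe (K14.f190942 IH) (Lpe (f22095 IH) (Lpe (K14.f190947 IH) (Lpe (K10.f27563 IH) (Lpr_gf (K13.f233741 IH) (Lpe (f189980 IH) (Lpr_gt (K10.f189976 IH) (Lpr_dt (K10.f50912 IH) (Lpn (LP (LK LD1_c8 LD2_c7 LD3_c12))))))))))))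
theorem f178249 : Led Lsl_ct (LP (LK LD1_c2 LD2_c43 LD3_c61)) = (LP (LK LD1_c1 LD2_c18 LD3_c20)) :=
  Lre_c IH (LK LD1_c2 LD2_c43 LD3_c61) (LK LD1_c1 LD2_c18 LD3_c20) Lrfl Lrfl
theorem f189146 : Led Lsl_ct (LP (LK LD1_c4 LD2_c14 LD3_c19)) = (LP (LK LD1_c2 LD2_c4 LD3_c32)) :=
  Lre_c IH (LK LD1_c4 LD2_c14 LD3_c19) (LK LD1_c2 LD2_c4 LD3_c32) Lrfl Lrfl
theorem f189147 : Led Lsl_dt (LP (LK LD1_c8 LD2_c27 LD3_c18)) = (LP (LK LD1_c4 LD2_c14 LD3_c19)) :=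
  Lre_d IH (LK LD1_c8 LD2_c27 LD3_c18) (LK LD1_c4 LD2_c14 LD3_c19) Lrfl Lrfl
theorem f189148 : Led Lsl_gt (LP (LK LD1_c8 LD2_c2 LD3_c50)) = (LP (LK LD1_c8 LD2_c27 LD3_c18)) :=
  Lgr Lrot49 (Lpe (K10.f50909 IH) (Lpr_gf (K10.f188027 IH) (Lpe (K10.f178253 IH) (Lpr_gt (K10.f189141 IH) (Lpr_dt (K10.f50907 IH) (Lpr_gt (K10.f27596 IH) (Lpr_dt (K14.f27604 IH) (Lpe (f189146 IH) (Lpe (f189147 IH) (Lpn (LP (LK LD1_c8 LD2_c27 LD3_c18))))))))))))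
theorem f189265 : Led Lsl_gf (LP (LK LD1_c8 LD2_c7 LD3_c12)) = (LP (LK LD1_c8 LD2_c27 LD3_c18)) :=
  Lgr Lrot76 (Lpe (K10.f50965 IH) (Lpr_ff (K10.f50951 IH) (Lpr_gt (f189148 IH) (Lpn (LP (LK LD1_c8 LD2_c27 LD3_c18))))))
theorem f233751 : Led Lsl_ct (LP (LK LD1_c8 LD2_c14 LD3_c14)) = (LP (LK LD1_c8 LD2_c27 LD3_c18)) :=
  Lgr Lrot152 (Lpr_gf (f233744 IH) (Lpe (K10.f50912 IH) (Lpr_gt (K10.f188034 IH) (Lpr_ct (f178249 IH) (Lpr_gt (K10.f189141 IH) (Lpr_ct (K10.f27599 IH) (Lpe (K10.f50908 IH) (Lpr_cf (K10.f50913 IH) (Lpr_gf (f189265 IH) (Lpn (LP (LK LD1_c8 LD2_c27 LD3_c18))))))))))))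
theorem f233759 : Led Lsl_cf (LP (LK LD1_c8 LD2_c14 LD3_c14)) = (LP (LK LD1_c8 LD2_c27 LD3_c18)) :=
  Lgr Lrot11 (Lpr_ct (f233751 IH) (Lpn (LP (LK LD1_c8 LD2_c27 LD3_c18))))
theorem f259142 : Led Lsl_gt (LP (LK LD1_c8 LD2_c6 LD3_c35)) = (LP (LK LD1_c9 LD2_c33 LD3_c42)) :=
  Lgr Lrot9 (Lpe (f259141 IH) (Lpr_gt (f259139 IH) (Lpr_ct (f252996 IH) (Lpe (K14.f253042 IH) (Lpr_ct (K14.f190942 IH) (Lpe (f190941 IH) (Lpr_cf (f233759 IH) (Lpe (f189148 IH) (Lpe (K10.f50929 IH) (Lpn (LP (LK LD1_c9 LD2_c33 LD3_c42))))))))))))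
theorem f50942 : Led Lsl_at (LP (LK LD1_c8 LD2_c2 LD3_c50)) = (LP (LK LD1_c4 LD2_c3 LD3_c16)) :=
  Lre_a IH (LK LD1_c8 LD2_c2 LD3_c50) (LK LD1_c4 LD2_c3 LD3_c16) Lrfl Lrfl
theorem f50943 : Led Lsl_ft (LP (LK LD1_c4 LD2_c3 LD3_c16)) = (LP (LK LD1_c8 LD2_c7 LD3_c12)) :=
  Lre_f IH (LK LD1_c4 LD2_c3 LD3_c16) (LK LD1_c8 LD2_c7 LD3_c12) Lrfl Lrfl
theorem f50944 : Led Lsl_af (LP (LK LD1_c9 LD2_c33 LD3_c41)) = (LP (LK LD1_c8 LD2_c7 LD3_c12)) :=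
  Lgr Lrot45 (Lpr_ft (K10.f50935 IH) (Lpr_at (f50942 IH) (Lpr_ft (f50943 IH) (Lpn (LP (LK LD1_c8 LD2_c7 LD3_c12))))))
theorem f50976 : Led Lsl_at (LP (LK LD1_c4 LD2_c50 LD3_c44)) = (LP (LK LD1_c4 LD2_c14 LD3_c24)) :=
  Lgr Lrot107 (Lpe (K10.f50955 IH) (Lpr_af (f50944 IH) (Lpr_cf (K10.f50974 IH) (Lpn (LP (LK LD1_c4 LD2_c14 LD3_c24))))))
theorem f51009 : Led Lsl_at (LP (LK LD1_c8 LD2_c7 LD3_c10)) = (LP (LK LD1_c9 LD2_c33 LD3_c42)) :=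
  Lgr Lrot66 (Lpr_ff (K10.f51000 IH) (Lpe (f50976 IH) (Lpe (K10.f50933 IH) (Lpn (LP (LK LD1_c9 LD2_c33 LD3_c42))))))
theorem f259146 : Led Lsl_gf (LP (LK LD1_c8 LD2_c6 LD3_c35)) = (LP (LK LD1_c4 LD2_c14 LD3_c24)) :=
  Lgr Lrot47 (Lpr_gt (f259142 IH) (Lpe (f51009 IH) (Lpr_ff (K10.f51000 IH) (Lpn (LP (LK LD1_c4 LD2_c14 LD3_c24))))))
theorem f194385 : Led Lsl_gt (LP (LK LD1_c2 LD2_c4 LD3_c34)) = (LP (LK LD1_c4 LD2_c3 LD3_c8)) :=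
  Lgr Lrot5 (Lpr_ft (K0.f27635 IH) (Lpe (K0.f27614 IH) (Lpr_gf (K10.f194383 IH) (Lpn (LP (LK LD1_c4 LD2_c3 LD3_c8))))))
theorem f51252 : Led Lsl_ct (LP (LK LD1_c4 LD2_c3 LD3_c8)) = (LP (LK LD1_c1 LD2_c58 LD3_c34)) :=
  Lre_c IH (LK LD1_c4 LD2_c3 LD3_c8) (LK LD1_c1 LD2_c58 LD3_c34) Lrfl Lrfl
theorem f50972 : Led Lsl_dt (LP (LK LD1_c9 LD2_c33 LD3_c41)) = (LP (LK LD1_c8 LD2_c2 LD3_c51)) :=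
  Lgr Lrot60 (Lpr_ff (K10.f50951 IH) (Lpe (K10.f50909 IH) (Lpe (K10.f50971 IH) (Lpn (LP (LK LD1_c8 LD2_c2 LD3_c51))))))
theorem f27683 : Led Lsl_gt (LP (LK LD1_c9 LD2_c33 LD3_c40)) = (LP (LK LD1_c4 LD2_c50 LD3_c44)) :=
  Lre_g IH (LK LD1_c9 LD2_c33 LD3_c40) (LK LD1_c4 LD2_c50 LD3_c44) Lrfl Lrfl
theorem f259153 : Led Lsl_ct (LP (LK LD1_c8 LD2_c6 LD3_c35)) = (LP (LK LD1_c9 LD2_c33 LD3_c40)) :=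
  Lgr Lrot152 (Lpr_gf (f259146 IH) (Lpe (K10.f27600 IH) (Lpr_gt (f194385 IH) (Lpr_ct (f51252 IH) (Lpr_gt (K10.f28066 IH) (Lpr_ct (K9.f30971 IH) (Lpe (f50972 IH) (Lpe (K10.f50934 IH) (Lpe (f27683 IH) (Lpn (LP (LK LD1_c9 LD2_c33 LD3_c40))))))))))))
theorem f50992 : Led Lsl_df (LP (LK LD1_c8 LD2_c7 LD3_c10)) = (LP (LK LD1_c4 LD2_c14 LD3_c25)) :=
  Lgr Lrot78 (Lpr_ft (K10.f50983 IH) (Lpr_dt (K10.f50908 IH) (Lpr_ft (K0.f27635 IH) (Lpn (LP (LK LD1_c4 LD2_c14 LD3_c25))))))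
theorem f51002 : Led Lsl_gt (LP (LK LD1_c8 LD2_c7 LD3_c10)) = (LP (LK LD1_c9 LD2_c33 LD3_c40)) :=
  Lgr Lrot5 (Lpr_ft (K10.f50983 IH) (Lpe (K10.f27649 IH) (Lpe (f27683 IH) (Lpn (LP (LK LD1_c9 LD2_c33 LD3_c40))))))
theorem f187851 : Led Lsl_dt (LP (LK LD1_c1 LD2_c25 LD3_c0)) = (LP (LK LD1_c2 LD2_c58 LD3_c33)) :=
  Lre_d IH (LK LD1_c1 LD2_c25 LD3_c0) (LK LD1_c2 LD2_c58 LD3_c33) Lrfl Lrfl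
theorem f187853 : Led Lsl_ct (LP (LK LD1_c6 LD2_c4 LD3_c46)) = (LP (LK LD1_c2 LD2_c58 LD3_c33)) :=
  Lre_c IH (LK LD1_c6 LD2_c4 LD3_c46) (LK LD1_c2 LD2_c58 LD3_c33) Lrfl Lrfl
theorem f216189 : Led Lsl_dt (LP (LK LD1_c9 LD2_c33 LD3_c40)) = (LP (LK LD1_c6 LD2_c4 LD3_c46)) :=
  Lgr Lrot105 (Lpe (f51002 IH) (Lpr_df (f50992 IH) (Lpr_gf (K13.f216131 IH) (Lpe (K13.f216120 IH) (Lpr_gt (K14.f28046 IH) (Lpr_dt (K10.f28029 IH) (Lpr_gt (K10.f187847 IH) (Lpr_dt (f187851 IH) (Lpe (f187853 IH) (Lpn (LP (LK LD1_c6 LD2_c4 LD3_c46))))))))))))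
theorem f187854 : Led Lsl_ct (LP (LK LD1_c2 LD2_c58 LD3_c33)) = (LP (LK LD1_c6 LD2_c4 LD3_c46)) :=
  Lre_c IH (LK LD1_c2 LD2_c58 LD3_c33) (LK LD1_c6 LD2_c4 LD3_c46) Lrfl Lrfl
theorem f190943 : Led Lsl_dt (LP (LK LD1_c4 LD2_c6 LD3_c50)) = (LP (LK LD1_c8 LD2_c14 LD3_c14)) :=
  Lre_d IH (LK LD1_c4 LD2_c6 LD3_c50) (LK LD1_c8 LD2_c14 LD3_c14) Lrfl Lrfl
theorem f233748 : Led Lsl_gt (LP (LK LD1_c8 LD2_c14 LD3_c14)) = (LP (LK LD1_c8 LD2_c2 LD3_c50)) :=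
  Lgr Lrot46 (Lpr_gf (f233744 IH) (Lpr_ft (K10.f50964 IH) (Lpr_at (K10.f50920 IH) (Lpn (LP (LK LD1_c8 LD2_c2 LD3_c50))))))
theorem f187860 : Led Lsl_dt (LP (LK LD1_c2 LD2_c58 LD3_c33)) = (LP (LK LD1_c1 LD2_c25 LD3_c0)) :=
  Lre_d IH (LK LD1_c2 LD2_c58 LD3_c33) (LK LD1_c1 LD2_c25 LD3_c0) Lrfl Lrfl
theorem f253000 : Led Lsl_gf (LP (LK LD1_c2 LD2_c58 LD3_c33)) = (LP (LK LD1_c5 LD2_c1 LD3_c23)) :=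
  Lgr Lrot144 (Lpr_dt (f187860 IH) (Lpe (K10.f187849 IH) (Lpr_dt (K10.f28796 IH) (Lpe (K10.f31012 IH) (Lpe (K10.f31023 IH) (Lpe (f233748 IH) (Lpe (f190943 IH) (Lpe (K14.f190944 IH) (Lpr_cf (K14.f252989 IH) (Lpn (LP (LK LD1_c5 LD2_c1 LD3_c23))))))))))))
theorem f252994 : Led Lsl_ct (LP (LK LD1_c8 LD2_c14 LD3_c12)) = (LP (LK LD1_c5 LD2_c1 LD3_c23)) :=
  Lgr Lrot59 (Lpr_cf (K14.f252989 IH) (Lpn (LP (LK LD1_c5 LD2_c1 LD3_c23))))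
theorem f189202 : Led Lsl_dt (LP (LK LD1_c4 LD2_c14 LD3_c19)) = (LP (LK LD1_c8 LD2_c27 LD3_c18)) :=
  Lre_d IH (LK LD1_c4 LD2_c14 LD3_c19) (LK LD1_c8 LD2_c27 LD3_c18) Lrfl Lrfl
theorem f259155 : Led Lsl_gf (LP (LK LD1_c8 LD2_c14 LD3_c12)) = (LP (LK LD1_c4 LD2_c14 LD3_c19)) :=
  Lgr Lrot147 (Lpr_ct (f252994 IH) (Lpe (f253000 IH) (Lpr_ct (f187854 IH) (Lpe (f216189 IH) (Lpe (f259153 IH) (Lpr_gf (f259146 IH) (Lpr_cf (K10.f50913 IH) (Lpr_gf (f189265 IH) (Lpe (f189202 IH) (Lpn (LP (LK LD1_c4 LD2_c14 LD3_c19))))))))))))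
theorem f50892 : Led Lsl_ct (LP (LK LD1_c2 LD2_c4 LD3_c32)) = (LP (LK LD1_c4 LD2_c14 LD3_c19)) :=
  Lre_c IH (LK LD1_c2 LD2_c4 LD3_c32) (LK LD1_c4 LD2_c14 LD3_c19) Lrfl Lrfl
theorem f189877 : Led Lsl_bt (LP (LK LD1_c2 LD2_c4 LD3_c32)) = (LP (LK LD1_c2 LD2_c7 LD3_c26)) :=
  Lgr Lrot95 (Lpe (K14.f27604 IH) (Lpr_bf (K10.f189873 IH) (Lpe (K13.f32031 IH) (Lpn (LP (LK LD1_c2 LD2_c7 LD3_c26))))))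
theorem f237809 : Led Lsl_gt (LP (LK LD1_c0 LD2_c39 LD3_c31)) = (LP (LK LD1_c1 LD2_c18 LD3_c35)) :=
  Lgr Lrot112 (Lpe (K10.f9085 IH) (Lpr_et (K10.f177371 IH) (Lpr_gf (K10.f185823 IH) (Lpe (K12.f171216 IH) (Lpr_dt (K9.f171189 IH) (Lpe (K13.f171490 IH) (Lpr_df (K13.f237798 IH) (Lpe (K11.f53326 IH) (Lpr_ef (K11.f178267 IH) (Lpr_dt (K11.f178266 IH) (Lpn (LP (LK LD1_c1 LD2_c18 LD3_c35)))))))))))))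
theorem f191291 : Led Lsl_bt (LP (LK LD1_c1 LD2_c25 LD3_c35)) = (LP (LK LD1_c0 LD2_c39 LD3_c31)) :=
  Lre_b IH (LK LD1_c1 LD2_c25 LD3_c35) (LK LD1_c0 LD2_c39 LD3_c31) Lrfl Lrfl
theorem f182555 : Led Lsl_dt (LP (LK LD1_c1 LD2_c16 LD3_c29)) = (LP (LK LD1_c2 LD2_c39 LD3_c25)) :=
  Lre_d IH (LK LD1_c1 LD2_c16 LD3_c29) (LK LD1_c2 LD2_c39 LD3_c25) Lrfl Lrfl
theorem f166132 : Led Lsl_gt (LP (LK LD1_c2 LD2_c39 LD3_c23)) = (LP (LK LD1_c1 LD2_c16 LD3_c29)) :=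
  Lre_g IH (LK LD1_c2 LD2_c39 LD3_c23) (LK LD1_c1 LD2_c16 LD3_c29) Lrfl Lrfl
theorem f183031 : Led Lsl_cf (LP (LK LD1_c2 LD2_c39 LD3_c23)) = (LP (LK LD1_c1 LD2_c18 LD3_c35)) :=
  Lgr Lrot166 (Lpr_gt (f166132 IH) (Lpr_dt (f182555 IH) (Lpr_gt (K9.f183024 IH) (Lpr_dt (K2.f55394 IH) (Lpr_ct (K2.f55427 IH) (Lpe (K1.f47912 IH) (Lpr_gf (K9.f168996 IH) (Lpe (K9.f168977 IH) (Lpe (K11.f178301 IH) (Lpn (LP (LK LD1_c1 LD2_c18 LD3_c35))))))))))))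
theorem f183026 : Led Lsl_bt (LP (LK LD1_c0 LD2_c35 LD3_c23)) = (LP (LK LD1_c1 LD2_c16 LD3_c26)) :=
  Lre_b IH (LK LD1_c0 LD2_c35 LD3_c23) (LK LD1_c1 LD2_c16 LD3_c26) Lrfl Lrfl
theorem f183027 : Led Lsl_gt (LP (LK LD1_c1 LD2_c16 LD3_c26)) = (LP (LK LD1_c2 LD2_c39 LD3_c18)) :=
  Lre_g IH (LK LD1_c1 LD2_c16 LD3_c26) (LK LD1_c2 LD2_c39 LD3_c18) Lrfl Lrfl
theorem f237811 : Led Lsl_bt (LP (LK LD1_c2 LD2_c29 LD3_c46)) = (LP (LK LD1_c2 LD2_c39 LD3_c18)) :=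
  Lgr Lrot92 (Lpr_ct (K13.f31633 IH) (Lpe (K13.f192351 IH) (Lpe (K13.f182032 IH) (Lpr_bt (f191291 IH) (Lpr_gt (f237809 IH) (Lpe (f183031 IH) (Lpr_gt (f166132 IH) (Lpe (K9.f166123 IH) (Lpr_bt (f183026 IH) (Lpr_gt (f183027 IH) (Lpn (LP (LK LD1_c2 LD2_c39 LD3_c18)))))))))))))
theorem f183677 : Led Lsl_dt (LP (LK LD1_c2 LD2_c58 LD3_c59)) = (LP (LK LD1_c1 LD2_c25 LD3_c12)) :=
  Lre_d IH (LK LD1_c2 LD2_c58 LD3_c59) (LK LD1_c1 LD2_c25 LD3_c12) Lrfl Lrfl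
theorem f191160 : Led Lsl_ct (LP (LK LD1_c5 LD2_c15 LD3_c1)) = (LP (LK LD1_c2 LD2_c34 LD3_c22)) :=
  Lre_c IH (LK LD1_c5 LD2_c15 LD3_c1) (LK LD1_c2 LD2_c34 LD3_c22) Lrfl Lrfl
theorem f212232 : Led Lsl_ct (LP (LK LD1_c5 LD2_c2 LD3_c6)) = (LP (LK LD1_c9 LD2_c54 LD3_c57)) :=
  Lre_c IH (LK LD1_c5 LD2_c2 LD3_c6) (LK LD1_c9 LD2_c54 LD3_c57) Lrfl Lrfl
theorem f257092 : Led Lsl_gf (LP (LK LD1_c5 LD2_c15 LD3_c1)) = (LP (LK LD1_c9 LD2_c54 LD3_c57)) :=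
  Lgr Lrot104 (Lpr_ct (f191160 IH) (Lpe (K12.f32429 IH) (Lpe (K10.f45386 IH) (Lpe (K12.f212245 IH) (Lpe (K9.f49462 IH) (Lpe (K9.f183705 IH) (Lpe (f183677 IH) (Lpr_gt (f257088 IH) (Lpr_ct (f212232 IH) (Lpn (LP (LK LD1_c9 LD2_c54 LD3_c57))))))))))))
theorem f216159 : Led Lsl_dt (LP (LK LD1_c5 LD2_c15 LD3_c1)) = (LP (LK LD1_c10 LD2_c19 LD3_c31)) :=
  Lre_d IH (LK LD1_c5 LD2_c15 LD3_c1) (LK LD1_c10 LD2_c19 LD3_c31) Lrfl Lrfl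
theorem f257095 : Led Lsl_gt (LP (LK LD1_c10 LD2_c19 LD3_c31)) = (LP (LK LD1_c15 LD2_c36 LD3_c16)) :=
  Lgr Lrot49 (Lpe (f216159 IH) (Lpr_gf (f257092 IH) (Lpe (f212232 IH) (Lpe (f257090 IH) (Lpr_dt (K14.f45014 IH) (Lpr_gt (K13.f49544 IH) (Lpr_dt (K13.f49464 IH) (Lpe (K14.f252506 IH) (Lpe (K13.f231967 IH) (Lpn (LP (LK LD1_c15 LD2_c36 LD3_c16))))))))))))
theorem f252378 : Led Lsl_at (LP (LK LD1_c10 LD2_c20 LD3_c12)) = (LP (LK LD1_c15 LD2_c36 LD3_c16)) :=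
  Lgr Lrot51 (Lpr_df (K14.f252273 IH) (Lpr_af (K14.f252375 IH) (Lpe (K13.f231967 IH) (Lpn (LP (LK LD1_c15 LD2_c36 LD3_c16))))))
theorem f257098 : Led Lsl_gf (LP (LK LD1_c10 LD2_c19 LD3_c31)) = (LP (LK LD1_c8 LD2_c26 LD3_c13)) :=
  Lgr Lrot47 (Lpr_gt (f257095 IH) (Lpe (f252378 IH) (Lpr_ff (K14.f252275 IH) (Lpn (LP (LK LD1_c8 LD2_c26 LD3_c13))))))
theorem f173248 : Led Lsl_bt (LP (LK LD1_c1 LD2_c1 LD3_c28)) = (LP (LK LD1_c2 LD2_c8 LD3_c36)) :=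
  Lre_b IH (LK LD1_c1 LD2_c1 LD3_c28) (LK LD1_c2 LD2_c8 LD3_c36) Lrfl Lrfl
theorem f193186 : Led Lsl_dt (LP (LK LD1_c2 LD2_c8 LD3_c36)) = (LP (LK LD1_c4 LD2_c1 LD3_c49)) :=
  Lgr Lrot79 (Lpe (f173248 IH) (Lpr_df (K10.f192979 IH) (Lpe (K10.f165374 IH) (Lpn (LP (LK LD1_c4 LD2_c1 LD3_c49))))))
theorem f212508 : Led Lsl_gf (LP (LK LD1_c2 LD2_c4 LD3_c10)) = (LP (LK LD1_c4 LD2_c1 LD3_c49)) :=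
  Lgr Lrot145 (Lpe (K13.f27396 IH) (Lpr_et (K8.f27395 IH) (Lpr_gt (K1.f27391 IH) (Lpr_dt (K1.f45081 IH) (Lpe (K13.f45724 IH) (Lpr_df (K8.f48177 IH) (Lpr_et (K8.f48167 IH) (Lpr_gt (K12.f212495 IH) (Lpe (K14.f173267 IH) (Lpr_dt (f193186 IH) (Lpn (LP (LK LD1_c4 LD2_c1 LD3_c49)))))))))))))
theorem f214834 : Led Lsl_gf (LP (LK LD1_c5 LD2_c15 LD3_c4)) = (LP (LK LD1_c4 LD2_c13 LD3_c40)) :=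
  Lgr Lrot129 (Lpe (K14.f32852 IH) (Lpr_bt (K14.f214797 IH) (Lpr_gt (K14.f46397 IH) (Lpe (K1.f45817 IH) (Lpr_ct (K10.f27858 IH) (Lpr_gt (K13.f190751 IH) (Lpe (K10.f180783 IH) (Lpr_bt (K10.f180769 IH) (Lpe (f212508 IH) (Lpr_ct (K13.f44977 IH) (Lpn (LP (LK LD1_c4 LD2_c13 LD3_c40)))))))))))))
theorem f32912 : Led Lsl_dt (LP (LK LD1_c5 LD2_c16 LD3_c13)) = (LP (LK LD1_c2 LD2_c34 LD3_c53)) :=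
  Lre_d IH (LK LD1_c5 LD2_c16 LD3_c13) (LK LD1_c2 LD2_c34 LD3_c53) Lrfl Lrfl
theorem f32558 : Led Lsl_ft (LP (LK LD1_c1 LD2_c14 LD3_c13)) = (LP (LK LD1_c2 LD2_c34 LD3_c26)) :=
  Lre_f IH (LK LD1_c1 LD2_c14 LD3_c13) (LK LD1_c2 LD2_c34 LD3_c26) Lrfl Lrfl
theorem f32803 : Led Lsl_at (LP (LK LD1_c2 LD2_c34 LD3_c26)) = (LP (LK LD1_c1 LD2_c14 LD3_c26)) :=
  Lre_a IH (LK LD1_c2 LD2_c34 LD3_c26) (LK LD1_c1 LD2_c14 LD3_c26) Lrfl Lrfl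
theorem f45251 : Led Lsl_cf (LP (LK LD1_c5 LD2_c16 LD3_c13)) = (LP (LK LD1_c4 LD2_c15 LD3_c16)) :=
  Lgr Lrot161 (Lpr_dt (f32912 IH) (Lpr_ct (K10.f32911 IH) (Lpe (f32803 IH) (Lpe (f32558 IH) (Lpr_dt (K1.f32847 IH) (Lpr_ct (K1.f45233 IH) (Lpr_dt (K1.f752 IH) (Lpr_ct (K1.f45159 IH) (Lpr_dt (K1.f45160 IH) (Lpn (LP (LK LD1_c4 LD2_c15 LD3_c16))))))))))))
theorem f45366 : Led Lsl_gt (LP (LK LD1_c8 LD2_c29 LD3_c31)) = (LP (LK LD1_c4 LD2_c15 LD3_c16)) :=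
  Lre_g IH (LK LD1_c8 LD2_c29 LD3_c31) (LK LD1_c4 LD2_c15 LD3_c16) Lrfl Lrfl
theorem f257101 : Led Lsl_ct (LP (LK LD1_c10 LD2_c19 LD3_c31)) = (LP (LK LD1_c8 LD2_c29 LD3_c31)) :=
  Lgr Lrot152 (Lpr_gf (f257098 IH) (Lpe (K14.f45023 IH) (Lpe (f214834 IH) (Lpr_ct (K14.f214828 IH) (Lpr_gt (K14.f32398 IH) (Lpr_ct (K1.f32892 IH) (Lpe (f32912 IH) (Lpr_cf (f45251 IH) (Lpe (f45366 IH) (Lpn (LP (LK LD1_c8 LD2_c29 LD3_c31))))))))))))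
theorem f212244 : Led Lsl_dt (LP (LK LD1_c5 LD2_c15 LD3_c0)) = (LP (LK LD1_c2 LD2_c34 LD3_c21)) :=
  Lre_d IH (LK LD1_c5 LD2_c15 LD3_c0) (LK LD1_c2 LD2_c34 LD3_c21) Lrfl Lrfl
theorem f212250 : Led Lsl_ct (LP (LK LD1_c10 LD2_c19 LD3_c28)) = (LP (LK LD1_c5 LD2_c15 LD3_c0)) :=
  Lre_c IH (LK LD1_c10 LD2_c19 LD3_c28) (LK LD1_c5 LD2_c15 LD3_c0) Lrfl Lrfl
theorem f212249 : Led Lsl_dt (LP (LK LD1_c2 LD2_c34 LD3_c21)) = (LP (LK LD1_c5 LD2_c15 LD3_c0)) :=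
  Lre_d IH (LK LD1_c2 LD2_c34 LD3_c21) (LK LD1_c5 LD2_c15 LD3_c0) Lrfl Lrfl
theorem f216144 : Led Lsl_dt (LP (LK LD1_c8 LD2_c29 LD3_c30)) = (LP (LK LD1_c10 LD2_c19 LD3_c28)) :=
  Lgr Lrot105 (Lpe (K14.f45364 IH) (Lpe (K1.f45160 IH) (Lpe (K13.f45257 IH) (Lpe (K13.f194224 IH) (Lpr_gt (K13.f216136 IH) (Lpr_dt (K11.f49525 IH) (Lpr_gt (K12.f212245 IH) (Lpr_dt (f212249 IH) (Lpe (f212250 IH) (Lpn (LP (LK LD1_c10 LD2_c19 LD3_c28))))))))))))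
theorem f192456 : Led Lsl_dt (LP (LK LD1_c4 LD2_c5 LD3_c14)) = (LP (LK LD1_c1 LD2_c59 LD3_c48)) :=
  Lre_d IH (LK LD1_c4 LD2_c5 LD3_c14) (LK LD1_c1 LD2_c59 LD3_c48) Lrfl Lrfl
theorem f192457 : Led Lsl_ct (LP (LK LD1_c8 LD2_c11 LD3_c17)) = (LP (LK LD1_c4 LD2_c5 LD3_c14)) :=
  Lre_c IH (LK LD1_c8 LD2_c11 LD3_c17) (LK LD1_c4 LD2_c5 LD3_c14) Lrfl Lrfl
theorem f257107 : Led Lsl_df (LP (LK LD1_c8 LD2_c11 LD3_c17)) = (LP (LK LD1_c8 LD2_c29 LD3_c31)) :=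
  Lgr Lrot43 (Lpr_ct (f192457 IH) (Lpr_dt (f192456 IH) (Lpr_ct (K10.f192366 IH) (Lpr_dt (K14.f32883 IH) (Lpr_ct (K14.f32895 IH) (Lpr_dt (K14.f192458 IH) (Lpe (K14.f252540 IH) (Lpr_dt (f216144 IH) (Lpr_ct (f212250 IH) (Lpr_dt (f212244 IH) (Lpr_ct (K10.f45386 IH) (Lpr_dt (K12.f32429 IH) (Lpr_ct (K14.f32430 IH) (Lpr_dt (f216159 IH) (Lpr_ct (f257101 IH) (Lpn (LP (LK LD1_c8 LD2_c29 LD3_c31))))))))))))))))))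
theorem f257142 : Led Lsl_dt (LP (LK LD1_c8 LD2_c11 LD3_c17)) = (LP (LK LD1_c8 LD2_c29 LD3_c31)) :=
  Lgr Lrot42 (Lpr_df (f257107 IH) (Lpn (LP (LK LD1_c8 LD2_c29 LD3_c31))))
theorem f192462 : Led Lsl_dt (LP (LK LD1_c1 LD2_c59 LD3_c48)) = (LP (LK LD1_c4 LD2_c5 LD3_c14)) :=
  Lre_d IH (LK LD1_c1 LD2_c59 LD3_c48) (LK LD1_c4 LD2_c5 LD3_c14) Lrfl Lrfl
theorem f190963 : Led Lsl_dt (LP (LK LD1_c1 LD2_c16 LD3_c26)) = (LP (LK LD1_c0 LD2_c35 LD3_c22)) :=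
  Lre_d IH (LK LD1_c1 LD2_c16 LD3_c26) (LK LD1_c0 LD2_c35 LD3_c22) Lrfl Lrfl
theorem f192464 : Led Lsl_ct (LP (LK LD1_c2 LD2_c39 LD3_c18)) = (LP (LK LD1_c5 LD2_c25 LD3_c50)) :=
  Lre_c IH (LK LD1_c2 LD2_c39 LD3_c18) (LK LD1_c5 LD2_c25 LD3_c50) Lrfl Lrfl
theorem f192465 : Led Lsl_gf (LP (LK LD1_c8 LD2_c11 LD3_c17)) = (LP (LK LD1_c5 LD2_c25 LD3_c50)) :=
  Lgr Lrot104 (Lpr_ct (f192457 IH) (Lpe (f192462 IH) (Lpr_cf (K10.f192454 IH) (Lpe (K9.f32877 IH) (Lpr_cf (K1.f45356 IH) (Lpe (K10.f192353 IH) (Lpe (f190963 IH) (Lpr_gt (f183027 IH) (Lpr_ct (f192464 IH) (Lpn (LP (LK LD1_c5 LD2_c25 LD3_c50))))))))))))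
theorem f237834 : Led Lsl_ct (LP (LK LD1_c5 LD2_c25 LD3_c50)) = (LP (LK LD1_c2 LD2_c39 LD3_c18)) :=
  Lre_c IH (LK LD1_c5 LD2_c25 LD3_c50) (LK LD1_c2 LD2_c39 LD3_c18) Lrfl Lrfl
theorem f257153 : Led Lsl_gt (LP (LK LD1_c2 LD2_c39 LD3_c18)) = (LP (LK LD1_c2 LD2_c4 LD3_c58)) :=
  Lgr Lrot94 (Lpe (f237834 IH) (Lpe (f192465 IH) (Lpr_dt (f257142 IH) (Lpr_gt (f45366 IH) (Lpr_dt (K10.f45308 IH) (Lpe (K1.f45159 IH) (Lpe (K1.f752 IH) (Lpe (K10.f45107 IH) (Lpe (K10.f45148 IH) (Lpn (LP (LK LD1_c2 LD2_c4 LD3_c58))))))))))))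
theorem f257845 : Led Lsl_gf (LP (LK LD1_c6 LD2_c5 LD3_c29)) = (LP (LK LD1_c4 LD2_c7 LD3_c58)) :=
  Lgr Lrot126 (Lpr_cf (f257820 IH) (Lpe (f257843 IH) (Lpr_gt (K13.f239487 IH) (Lpr_ct (K13.f189925 IH) (Lpe (K13.f239514 IH) (Lpe (K13.f31633 IH) (Lpr_bt (f237811 IH) (Lpr_gt (f257153 IH) (Lpr_bf (K10.f189814 IH) (Lpr_ct (K10.f49109 IH) (Lpn (LP (LK LD1_c4 LD2_c7 LD3_c58)))))))))))))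
theorem f259190 : Led Lsl_gt (LP (LK LD1_c2 LD2_c40 LD3_c25)) = (LP (LK LD1_c2 LD2_c1 LD3_c21)) :=
  Lgr Lrot82 (Lpr_bf (K14.f252682 IH) (Lpe (K14.f252989 IH) (Lpr_gf (f259155 IH) (Lpe (f50892 IH) (Lpr_bt (f189877 IH) (Lpe (K13.f239487 IH) (Lpr_bf (f257843 IH) (Lpe (f257820 IH) (Lpr_gf (f257845 IH) (Lpe (K10.f49109 IH) (Lpn (LP (LK LD1_c2 LD2_c1 LD3_c21)))))))))))))
theorem f32288 : Led Lsl_ef (LP (LK LD1_c0 LD2_c34 LD3_c30)) = (LP (LK LD1_c0 LD2_c34 LD3_c30)) :=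
  Lgr Lrot29 (Lpr_bt (K1.f32274 IH) (Lpr_et (K1.f32283 IH) (Lpr_bt (K9.f32287 IH) (Lpn (LP (LK LD1_c0 LD2_c34 LD3_c30))))))
theorem f47760 : Led Lsl_gt (LP (LK LD1_c2 LD2_c1 LD3_c22)) = (LP (LK LD1_c4 LD2_c7 LD3_c60)) :=
  Lre_g IH (LK LD1_c2 LD2_c1 LD3_c22) (LK LD1_c4 LD2_c7 LD3_c60) Lrfl Lrfl
theorem f259206 : Led Lsl_df (LP (LK LD1_c2 LD2_c34 LD3_c24)) = (LP (LK LD1_c4 LD2_c7 LD3_c60)) :=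
  Lgr Lrot135 (Lpr_gt (K14.f32398 IH) (Lpe (K1.f32374 IH) (Lpe (f32288 IH) (Lpr_gt (K9.f32877 IH) (Lpe (K14.f252570 IH) (Lpr_dt (K14.f175071 IH) (Lpr_gt (f259190 IH) (Lpe (K10.f47781 IH) (Lpr_et (K10.f47751 IH) (Lpr_gt (f47760 IH) (Lpn (LP (LK LD1_c4 LD2_c7 LD3_c60)))))))))))))
theorem f219936 : Led Lsl_dt (LP (LK LD1_c4 LD2_c13 LD3_c46)) = (LP (LK LD1_c4 LD2_c2 LD3_c44)) :=
  Lgr Lrot42 (Lpr_df (K12.f219933 IH) (Lpn (LP (LK LD1_c4 LD2_c2 LD3_c44))))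
theorem f219935 : Led Lsl_ct (LP (LK LD1_c1 LD2_c58 LD3_c25)) = (LP (LK LD1_c4 LD2_c2 LD3_c44)) :=
  Lre_c IH (LK LD1_c1 LD2_c58 LD3_c25) (LK LD1_c4 LD2_c2 LD3_c44) Lrfl Lrfl
theorem f220548 : Led Lsl_et (LP (LK LD1_c2 LD2_c41 LD3_c25)) = (LP (LK LD1_c1 LD2_c17 LD3_c21)) :=
  Lre_e IH (LK LD1_c2 LD2_c41 LD3_c25) (LK LD1_c1 LD2_c17 LD3_c21) Lrfl Lrfl
theorem f253241 : Led Lsl_ct (LP (LK LD1_c2 LD2_c1 LD3_c45)) = (LP (LK LD1_c2 LD2_c41 LD3_c25)) :=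
  Lgr Lrot15 (Lpe (K14.f253179 IH) (Lpr_cf (K14.f253187 IH) (Lpe (f220548 IH) (Lpn (LP (LK LD1_c2 LD2_c41 LD3_c25))))))
theorem f259210 : Led Lsl_gf (LP (LK LD1_c2 LD2_c1 LD3_c45)) = (LP (LK LD1_c4 LD2_c7 LD3_c60)) :=
  Lgr Lrot147 (Lpr_ct (f253241 IH) (Lpe (K12.f220585 IH) (Lpr_ct (f219935 IH) (Lpe (f219936 IH) (Lpe (K14.f49489 IH) (Lpe (K10.f32893 IH) (Lpe (K1.f32892 IH) (Lpe (K14.f32398 IH) (Lpr_df (f259206 IH) (Lpn (LP (LK LD1_c4 LD2_c7 LD3_c60))))))))))))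
theorem f47758 : Led Lsl_ft (LP (LK LD1_c2 LD2_c1 LD3_c22)) = (LP (LK LD1_c4 LD2_c7 LD3_c61)) :=
  Lre_f IH (LK LD1_c2 LD2_c1 LD3_c22) (LK LD1_c4 LD2_c7 LD3_c61) Lrfl Lrfl
theorem f259212 : Led Lsl_af (LP (LK LD1_c2 LD2_c1 LD3_c45)) = (LP (LK LD1_c4 LD2_c7 LD3_c61)) :=
  Lgr Lrot31 (Lpr_gf (f259210 IH) (Lpe (f47760 IH) (Lpr_ft (f47758 IH) (Lpn (LP (LK LD1_c4 LD2_c7 LD3_c61))))))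
theorem f253176 : Led Lsl_at (LP (LK LD1_c1 LD2_c17 LD3_c35)) = (LP (LK LD1_c2 LD2_c41 LD3_c47)) :=
  Lre_a IH (LK LD1_c1 LD2_c17 LD3_c35) (LK LD1_c2 LD2_c41 LD3_c47) Lrfl Lrfl
theorem f259225 : Led Lsl_et (LP (LK LD1_c2 LD2_c41 LD3_c47)) = (LP (LK LD1_c4 LD2_c7 LD3_c61)) :=
  Lgr Lrot123 (Lpe (f253176 IH) (Lpr_ef (K14.f253174 IH) (Lpr_af (f259212 IH) (Lpn (LP (LK LD1_c4 LD2_c7 LD3_c61))))))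
theorem f259228 : Led Lsl_ef (LP (LK LD1_c2 LD2_c41 LD3_c47)) = (LP (LK LD1_c4 LD2_c7 LD3_c61)) :=
  Lgr Lrot88 (Lpr_et (f259225 IH) (Lpn (LP (LK LD1_c4 LD2_c7 LD3_c61))))
theorem f48205 : Led Lsl_ft (LP (LK LD1_c2 LD2_c4 LD3_c59)) = (LP (LK LD1_c4 LD2_c15 LD3_c10)) :=
  Lre_f IH (LK LD1_c2 LD2_c4 LD3_c59) (LK LD1_c4 LD2_c15 LD3_c10) Lrfl Lrfl
theorem f47757 : Led Lsl_ft (LP (LK LD1_c4 LD2_c7 LD3_c61)) = (LP (LK LD1_c2 LD2_c1 LD3_c22)) :=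
  Lre_f IH (LK LD1_c4 LD2_c7 LD3_c61) (LK LD1_c2 LD2_c1 LD3_c22) Lrfl Lrfl
theorem f189788 : Led Lsl_bt (LP (LK LD1_c4 LD2_c15 LD3_c10)) = (LP (LK LD1_c4 LD2_c7 LD3_c61)) :=
  Lgr Lrot35 (Lpe (f48205 IH) (Lpr_bf (K10.f189782 IH) (Lpe (f47757 IH) (Lpn (LP (LK LD1_c4 LD2_c7 LD3_c61))))))
theorem f252206 : Led Lsl_ff (LP (LK LD1_c0 LD2_c59 LD3_c28)) = (LP (LK LD1_c0 LD2_c59 LD3_c33)) :=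
  Lgr Lrot23 (Lpr_ct (K13.f231693 IH) (Lpr_ft (K14.f252200 IH) (Lpr_ct (K10.f49193 IH) (Lpn (LP (LK LD1_c0 LD2_c59 LD3_c33))))))
theorem f48204 : Led Lsl_ft (LP (LK LD1_c4 LD2_c15 LD3_c10)) = (LP (LK LD1_c2 LD2_c4 LD3_c59)) :=
  Lre_f IH (LK LD1_c4 LD2_c15 LD3_c10) (LK LD1_c2 LD2_c4 LD3_c59) Lrfl Lrfl
theorem f258555 : Led Lsl_ef (LP (LK LD1_c4 LD2_c15 LD3_c10)) = (LP (LK LD1_c4 LD2_c2 LD3_c49)) :=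
  Lgr Lrot21 (Lpr_ft (f48204 IH) (Lpr_et (K10.f45108 IH) (Lpe (f252206 IH) (Lpr_et (K13.f49095 IH) (Lpr_ft (f258551 IH) (Lpn (LP (LK LD1_c4 LD2_c2 LD3_c49))))))))
theorem f259231 : Led Lsl_bt (LP (LK LD1_c2 LD2_c41 LD3_c47)) = (LP (LK LD1_c4 LD2_c2 LD3_c49)) :=
  Lgr Lrot119 (Lpr_ef (f259228 IH) (Lpe (f189788 IH) (Lpr_ef (f258555 IH) (Lpn (LP (LK LD1_c4 LD2_c2 LD3_c49))))))
theorem f257897 : Led Lsl_ft (LP (LK LD1_c4 LD2_c2 LD3_c49)) = (LP (LK LD1_c2 LD2_c4 LD3_c51)) :=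
  Lgr Lrot4 (Lpr_cf (f246710 IH) (Lpr_ff (f257893 IH) (Lpe (f231866 IH) (Lpn (LP (LK LD1_c2 LD2_c4 LD3_c51))))))
theorem f231716 : Led Lsl_bt (LP (LK LD1_c2 LD2_c4 LD3_c51)) = (LP (LK LD1_c2 LD2_c1 LD3_c11)) :=
  Lgr Lrot127 (Lpr_bf (K13.f231714 IH) (Lpn (LP (LK LD1_c2 LD2_c1 LD3_c11))))
theorem f259242 : Led Lsl_ff (LP (LK LD1_c2 LD2_c41 LD3_c47)) = (LP (LK LD1_c2 LD2_c1 LD3_c11)) :=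
  Lgr Lrot25 (Lpr_bt (f259231 IH) (Lpr_ft (f257897 IH) (Lpr_bt (f231716 IH) (Lpn (LP (LK LD1_c2 LD2_c1 LD3_c11))))))
theorem f259246 : Led Lsl_ft (LP (LK LD1_c2 LD2_c41 LD3_c47)) = (LP (LK LD1_c2 LD2_c1 LD3_c11)) :=
  Lgr Lrot48 (Lpr_ff (f259242 IH) (Lpn (LP (LK LD1_c2 LD2_c1 LD3_c11))))
theorem f53587 : Led Lsl_et (LP (LK LD1_c2 LD2_c1 LD3_c11)) = (LP (LK LD1_c0 LD2_c57 LD3_c39)) :=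
  Lre_e IH (LK LD1_c2 LD2_c1 LD3_c11) (LK LD1_c0 LD2_c57 LD3_c39) Lrfl Lrfl
theorem f259294 : Led Lsl_ff (LP (LK LD1_c0 LD2_c57 LD3_c44)) = (LP (LK LD1_c0 LD2_c57 LD3_c39)) :=
  Lgr Lrot72 (Lpr_et (K10.f47751 IH) (Lpr_ft (f47758 IH) (Lpe (f259228 IH) (Lpr_ft (f259246 IH) (Lpr_et (f53587 IH) (Lpn (LP (LK LD1_c0 LD2_c57 LD3_c39))))))))
theorem f259300 : Led Lsl_at (LP (LK LD1_c0 LD2_c57 LD3_c44)) = (LP (LK LD1_c0 LD2_c35 LD3_c25)) :=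
  Lgr Lrot26 (Lpr_ff (f259294 IH) (Lpr_gt (K10.f53585 IH) (Lpe (K10.f191103 IH) (Lpn (LP (LK LD1_c0 LD2_c35 LD3_c25))))))
theorem f259310 : Led Lsl_af (LP (LK LD1_c2 LD2_c1 LD3_c22)) = (LP (LK LD1_c1 LD2_c16 LD3_c32)) :=
  Lgr Lrot50 (Lpr_et (K9.f47745 IH) (Lpr_at (f259300 IH) (Lpr_et (K12.f185671 IH) (Lpn (LP (LK LD1_c1 LD2_c16 LD3_c32))))))
theorem f259316 : Led Lsl_ft (LP (LK LD1_c2 LD2_c1 LD3_c45)) = (LP (LK LD1_c1 LD2_c16 LD3_c32)) :=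
  Lgr Lrot101 (Lpr_af (f259212 IH) (Lpe (f47758 IH) (Lpr_af (f259310 IH) (Lpn (LP (LK LD1_c1 LD2_c16 LD3_c32))))))
theorem f259318 : Led Lsl_gf (LP (LK LD1_c2 LD2_c1 LD3_c22)) = (LP (LK LD1_c0 LD2_c57 LD3_c54)) :=
  Lgr Lrot76 (Lpr_af (f259310 IH) (Lpe (f259316 IH) (Lpr_gt (K14.f167355 IH) (Lpn (LP (LK LD1_c0 LD2_c57 LD3_c54))))))
theorem f236143 : Led Lsl_dt (LP (LK LD1_c1 LD2_c16 LD3_c56)) = (LP (LK LD1_c2 LD2_c40 LD3_c28)) :=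
  Lre_d IH (LK LD1_c1 LD2_c16 LD3_c56) (LK LD1_c2 LD2_c40 LD3_c28) Lrfl Lrfl
theorem f259323 : Led Lsl_gt (LP (LK LD1_c2 LD2_c1 LD3_c21)) = (LP (LK LD1_c2 LD2_c40 LD3_c28)) :=
  Lgr Lrot112 (Lpe (K10.f47781 IH) (Lpr_et (K10.f47751 IH) (Lpr_gf (f259318 IH) (Lpe (K14.f220323 IH) (Lpr_dt (K12.f1433 IH) (Lpe (K12.f1363 IH) (Lpr_df (K13.f220205 IH) (Lpr_gf (K14.f250927 IH) (Lpe (K13.f236114 IH) (Lpr_dt (f236143 IH) (Lpn (LP (LK LD1_c2 LD2_c40 LD3_c28)))))))))))))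
theorem f8476 : Led Lsl_ct (LP (LK LD1_c2 LD2_c39 LD3_c46)) = (LP (LK LD1_c1 LD2_c16 LD3_c38)) :=
  Lre_c IH (LK LD1_c2 LD2_c39 LD3_c46) (LK LD1_c1 LD2_c16 LD3_c38) Lrfl Lrfl
theorem f8477 : Led Lsl_dt (LP (LK LD1_c5 LD2_c26 LD3_c44)) = (LP (LK LD1_c2 LD2_c39 LD3_c46)) :=
  Lre_d IH (LK LD1_c5 LD2_c26 LD3_c44) (LK LD1_c2 LD2_c39 LD3_c46) Lrfl Lrfl
theorem f8478 : Led Lsl_gt (LP (LK LD1_c10 LD2_c44 LD3_c37)) = (LP (LK LD1_c5 LD2_c26 LD3_c44)) :=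
  Lre_g IH (LK LD1_c10 LD2_c44 LD3_c37) (LK LD1_c5 LD2_c26 LD3_c44) Lrfl Lrfl
theorem f259333 : Led Lsl_dt (LP (LK LD1_c6 LD2_c5 LD3_c29)) = (LP (LK LD1_c10 LD2_c44 LD3_c37)) :=
  Lgr Lrot57 (Lpr_gf (f257845 IH) (Lpe (K10.f49109 IH) (Lpr_gt (f259323 IH) (Lpr_dt (K13.f236115 IH) (Lpr_gt (K13.f175055 IH) (Lpr_dt (K13.f236119 IH) (Lpe (f8476 IH) (Lpe (f8477 IH) (Lpe (f8478 IH) (Lpn (LP (LK LD1_c10 LD2_c44 LD3_c37))))))))))))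
theorem f257860 : Led Lsl_dt (LP (LK LD1_c4 LD2_c12 LD3_c8)) = (LP (LK LD1_c5 LD2_c17 LD3_c14)) :=
  Lgr Lrot79 (Lpe (f199572 IH) (Lpe (K13.f227295 IH) (Lpr_bf (f257843 IH) (Lpn (LP (LK LD1_c5 LD2_c17 LD3_c14))))))
theorem f239649 : Led Lsl_ff (LP (LK LD1_c2 LD2_c58 LD3_c60)) = (LP (LK LD1_c4 LD2_c12 LD3_c8)) :=
  Lgr Lrot25 (Lpr_bt (K13.f195691 IH) (Lpr_ft (K13.f239520 IH) (Lpr_bt (f199572 IH) (Lpn (LP (LK LD1_c4 LD2_c12 LD3_c8))))))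
theorem f252198 : Led Lsl_at (LP (LK LD1_c2 LD2_c58 LD3_c60)) = (LP (LK LD1_c4 LD2_c13 LD3_c45)) :=
  Lgr Lrot80 (Lpe (f195698 IH) (Lpr_af (K14.f252190 IH) (Lpe (K10.f49160 IH) (Lpn (LP (LK LD1_c4 LD2_c13 LD3_c45))))))
theorem f48206 : Led Lsl_ct (LP (LK LD1_c5 LD2_c17 LD3_c29)) = (LP (LK LD1_c2 LD2_c35 LD3_c31)) :=
  Lre_c IH (LK LD1_c5 LD2_c17 LD3_c29) (LK LD1_c2 LD2_c35 LD3_c31) Lrfl Lrfl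
theorem f48207 : Led Lsl_dt (LP (LK LD1_c10 LD2_c24 LD3_c32)) = (LP (LK LD1_c5 LD2_c17 LD3_c29)) :=
  Lre_d IH (LK LD1_c10 LD2_c24 LD3_c32) (LK LD1_c5 LD2_c17 LD3_c29) Lrfl Lrfl
theorem f259363 : Led Lsl_cf (LP (LK LD1_c10 LD2_c24 LD3_c32)) = (LP (LK LD1_c10 LD2_c44 LD3_c37)) :=
  Lgr Lrot116 (Lpr_dt (f48207 IH) (Lpr_ct (f48206 IH) (Lpe (K10.f48197 IH) (Lpe (K10.f49191 IH) (Lpe (f252198 IH) (Lpr_ff (f239649 IH) (Lpr_dt (f257860 IH) (Lpe (f257820 IH) (Lpr_dt (f259333 IH) (Lpn (LP (LK LD1_c10 LD2_c44 LD3_c37))))))))))))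
theorem f48196 : Led Lsl_dt (LP (LK LD1_c5 LD2_c17 LD3_c29)) = (LP (LK LD1_c10 LD2_c24 LD3_c32)) :=
  Lre_d IH (LK LD1_c5 LD2_c17 LD3_c29) (LK LD1_c10 LD2_c24 LD3_c32) Lrfl Lrfl
theorem f259365 : Led Lsl_gt (LP (LK LD1_c8 LD2_c15 LD3_c1)) = (LP (LK LD1_c5 LD2_c17 LD3_c29)) :=
  Lgr Lrot189 (Lpr_df (K13.f191524 IH) (Lpe (K13.f48413 IH) (Lpr_ct (K10.f187650 IH) (Lpe (K10.f188045 IH) (Lpr_dt (K10.f49106 IH) (Lpe (f257845 IH) (Lpr_dt (f259333 IH) (Lpe (f259363 IH) (Lpe (f48196 IH) (Lpn (LP (LK LD1_c5 LD2_c17 LD3_c29))))))))))))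
theorem f50789 : Led Lsl_ct (LP (LK LD1_c10 LD2_c23 LD3_c60)) = (LP (LK LD1_c5 LD2_c17 LD3_c26)) :=
  Lre_c IH (LK LD1_c10 LD2_c23 LD3_c60) (LK LD1_c5 LD2_c17 LD3_c26) Lrfl Lrfl
theorem f259373 : Led Lsl_gf (LP (LK LD1_c1 LD2_c14 LD3_c51)) = (LP (LK LD1_c2 LD2_c35 LD3_c31)) :=
  Lgr Lrot104 (Lpr_ct (f32414 IH) (Lpe (f49111 IH) (Lpr_cf (f188211 IH) (Lpr_gf (f257801 IH) (Lpe (f50789 IH) (Lpe (K14.f32861 IH) (Lpe (K14.f191533 IH) (Lpr_gt (f259365 IH) (Lpr_ct (f48206 IH) (Lpn (LP (LK LD1_c2 LD2_c35 LD3_c31))))))))))))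
theorem f231827 : Led Lsl_bt (LP (LK LD1_c4 LD2_c13 LD3_c37)) = (LP (LK LD1_c4 LD2_c54 LD3_c0)) :=
  Lgr Lrot127 (Lpr_bf (f231820 IH) (Lpn (LP (LK LD1_c4 LD2_c54 LD3_c0))))
theorem f50856 : Led Lsl_ct (LP (LK LD1_c4 LD2_c13 LD3_c37)) = (LP (LK LD1_c8 LD2_c26 LD3_c9)) :=
  Lre_c IH (LK LD1_c4 LD2_c13 LD3_c37) (LK LD1_c8 LD2_c26 LD3_c9) Lrfl Lrfl
theorem f259388 : Led Lsl_gt (LP (LK LD1_c8 LD2_c26 LD3_c9)) = (LP (LK LD1_c5 LD2_c15 LD3_c21)) :=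
  Lgr Lrot65 (Lpe (f50856 IH) (Lpr_bt (f231827 IH) (Lpr_gf (K14.f251299 IH) (Lpr_bf (K14.f240137 IH) (Lpr_ct (K14.f188402 IH) (Lpe (f257781 IH) (Lpe (f32414 IH) (Lpr_gf (f259373 IH) (Lpr_bf (K14.f189792 IH) (Lpr_ct (K14.f47748 IH) (Lpn (LP (LK LD1_c5 LD2_c15 LD3_c21)))))))))))))
theorem f44975 : Led Lsl_dt (LP (LK LD1_c2 LD2_c4 LD3_c9)) = (LP (LK LD1_c4 LD2_c13 LD3_c37)) :=
  Lre_d IH (LK LD1_c2 LD2_c4 LD3_c9) (LK LD1_c4 LD2_c13 LD3_c37) Lrfl Lrfl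
theorem f180773 : Led Lsl_ct (LP (LK LD1_c2 LD2_c34 LD3_c50)) = (LP (LK LD1_c4 LD2_c1 LD3_c49)) :=
  Lgr Lrot59 (Lpr_cf (K10.f180766 IH) (Lpn (LP (LK LD1_c4 LD2_c1 LD3_c49))))
theorem f212510 : Led Lsl_df (LP (LK LD1_c8 LD2_c26 LD3_c9)) = (LP (LK LD1_c5 LD2_c16 LD3_c9)) :=
  Lgr Lrot84 (Lpe (f50856 IH) (Lpe (f44975 IH) (Lpe (K13.f44973 IH) (Lpe (K8.f44967 IH) (Lpr_gf (f212508 IH) (Lpe (f180773 IH) (Lpr_gt (K10.f45519 IH) (Lpr_dt (K1.f45193 IH) (Lpr_gt (K13.f45294 IH) (Lpn (LP (LK LD1_c5 LD2_c16 LD3_c9))))))))))))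
theorem f212527 : Led Lsl_dt (LP (LK LD1_c8 LD2_c26 LD3_c9)) = (LP (LK LD1_c5 LD2_c16 LD3_c9)) :=
  Lgr Lrot42 (Lpr_df (f212510 IH) (Lpn (LP (LK LD1_c5 LD2_c16 LD3_c9))))
theorem f45415 : Led Lsl_gt (LP (LK LD1_c4 LD2_c15 LD3_c0)) = (LP (LK LD1_c8 LD2_c29 LD3_c1)) :=
  Lre_g IH (LK LD1_c4 LD2_c15 LD3_c0) (LK LD1_c8 LD2_c29 LD3_c1) Lrfl Lrfl
theorem f47759 : Led Lsl_ct (LP (LK LD1_c5 LD2_c15 LD3_c21)) = (LP (LK LD1_c2 LD2_c34 LD3_c32)) :=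
  Lre_c IH (LK LD1_c5 LD2_c15 LD3_c21) (LK LD1_c2 LD2_c34 LD3_c32) Lrfl Lrfl
theorem f231697 : Led Lsl_dt (LP (LK LD1_c2 LD2_c59 LD3_c0)) = (LP (LK LD1_c6 LD2_c5 LD3_c49)) :=
  Lre_d IH (LK LD1_c2 LD2_c59 LD3_c0) (LK LD1_c6 LD2_c5 LD3_c49) Lrfl Lrfl
theorem f45231 : Led Lsl_dt (LP (LK LD1_c5 LD2_c15 LD3_c9)) = (LP (LK LD1_c8 LD2_c29 LD3_c3)) :=
  Lgr Lrot173 (Lpe (K1.f32508 IH) (Lpe (K1.f32335 IH) (Lpr_cf (K1.f45220 IH) (Lpe (K1.f45154 IH) (Lpe (K1.f45195 IH) (Lpe (K1.f45196 IH) (Lpe (K1.f45194 IH) (Lpe (K1.f45193 IH) (Lpe (K1.f45192 IH) (Lpe (K1.f45191 IH) (Lpe (K1.f44536 IH) (Lpe (K1.f45131 IH) (Lpe (K13.f45204 IH) (Lpe (K1.f45205 IH) (Lpe (K13.f45206 IH) (Lpn (LP (LK LD1_c8 LD2_c29 LD3_c3))))))))))))))))))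
theorem f45223 : Led Lsl_gt (LP (LK LD1_c5 LD2_c16 LD3_c10)) = (LP (LK LD1_c2 LD2_c34 LD3_c52)) :=
  Lre_g IH (LK LD1_c5 LD2_c16 LD3_c10) (LK LD1_c2 LD2_c34 LD3_c52) Lrfl Lrfl
theorem f45432 : Led Lsl_gf (LP (LK LD1_c5 LD2_c16 LD3_c10)) = (LP (LK LD1_c8 LD2_c29 LD3_c3)) :=
  Lgr Lrot47 (Lpr_gt (f45223 IH) (Lpe (K14.f45409 IH) (Lpr_ff (K14.f45410 IH) (Lpn (LP (LK LD1_c8 LD2_c29 LD3_c3))))))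
theorem f184070 : Led Lsl_df (LP (LK LD1_c6 LD2_c5 LD3_c42)) = (LP (LK LD1_c5 LD2_c16 LD3_c10)) :=
  Lgr Lrot174 (Lpr_ct (K14.f183674 IH) (Lpe (K14.f183673 IH) (Lpr_gf (K9.f183707 IH) (Lpe (K9.f49448 IH) (Lpe (K12.f49460 IH) (Lpr_ct (K9.f184062 IH) (Lpr_gt (K9.f32526 IH) (Lpr_dt (f45231 IH) (Lpe (f45432 IH) (Lpn (LP (LK LD1_c5 LD2_c16 LD3_c10))))))))))))
theorem f212512 : Led Lsl_ct (LP (LK LD1_c8 LD2_c26 LD3_c9)) = (LP (LK LD1_c4 LD2_c13 LD3_c37)) :=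
  Lre_c IH (LK LD1_c8 LD2_c26 LD3_c9) (LK LD1_c4 LD2_c13 LD3_c37) Lrfl Lrfl
theorem f231701 : Led Lsl_cf (LP (LK LD1_c0 LD2_c59 LD3_c28)) = (LP (LK LD1_c2 LD2_c4 LD3_c9)) :=
  Lgr Lrot11 (Lpr_ct (K13.f231693 IH) (Lpn (LP (LK LD1_c2 LD2_c4 LD3_c9))))
theorem f49075 : Led Lsl_ct (LP (LK LD1_c2 LD2_c4 LD3_c50)) = (LP (LK LD1_c4 LD2_c14 LD3_c55)) :=
  Lre_c IH (LK LD1_c2 LD2_c4 LD3_c50) (LK LD1_c4 LD2_c14 LD3_c55) Lrfl Lrfl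
theorem f231868 : Led Lsl_dt (LP (LK LD1_c4 LD2_c14 LD3_c55)) = (LP (LK LD1_c8 LD2_c28 LD3_c41)) :=
  Lre_d IH (LK LD1_c4 LD2_c14 LD3_c55) (LK LD1_c8 LD2_c28 LD3_c41) Lrfl Lrfl
theorem f231886 : Led Lsl_cf (LP (LK LD1_c5 LD2_c16 LD3_c10)) = (LP (LK LD1_c8 LD2_c28 LD3_c41)) :=
  Lgr Lrot55 (Lpe (f184070 IH) (Lpr_ct (K14.f183674 IH) (Lpr_dt (f183677 IH) (Lpr_ct (K10.f181426 IH) (Lpr_dt (K10.f169558 IH) (Lpr_ct (K13.f179045 IH) (Lpr_dt (f231697 IH) (Lpr_ct (K13.f231879 IH) (Lpe (f212510 IH) (Lpr_ct (f212512 IH) (Lpr_dt (K14.f45014 IH) (Lpe (f231701 IH) (Lpr_dt (K9.f45400 IH) (Lpr_ct (f49075 IH) (Lpr_dt (f231868 IH) (Lpn (LP (LK LD1_c8 LD2_c28 LD3_c41))))))))))))))))))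
theorem f231896 : Led Lsl_ct (LP (LK LD1_c5 LD2_c16 LD3_c10)) = (LP (LK LD1_c8 LD2_c28 LD3_c41)) :=
  Lgr Lrot59 (Lpr_cf (f231886 IH) (Lpn (LP (LK LD1_c8 LD2_c28 LD3_c41))))
theorem f183495 : Led Lsl_dt (LP (LK LD1_c8 LD2_c28 LD3_c41)) = (LP (LK LD1_c4 LD2_c14 LD3_c55)) :=
  Lre_d IH (LK LD1_c8 LD2_c28 LD3_c41) (LK LD1_c4 LD2_c14 LD3_c55) Lrfl Lrfl
theorem f49079 : Led Lsl_ct (LP (LK LD1_c4 LD2_c14 LD3_c55)) = (LP (LK LD1_c2 LD2_c4 LD3_c50)) :=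
  Lre_c IH (LK LD1_c4 LD2_c14 LD3_c55) (LK LD1_c2 LD2_c4 LD3_c50) Lrfl Lrfl
theorem f49082 : Led Lsl_dt (LP (LK LD1_c2 LD2_c4 LD3_c50)) = (LP (LK LD1_c0 LD2_c59 LD3_c28)) :=
  Lre_d IH (LK LD1_c2 LD2_c4 LD3_c50) (LK LD1_c0 LD2_c59 LD3_c28) Lrfl Lrfl
theorem f179041 : Led Lsl_ct (LP (LK LD1_c2 LD2_c59 LD3_c0)) = (LP (LK LD1_c1 LD2_c25 LD3_c13)) :=
  Lre_c IH (LK LD1_c2 LD2_c59 LD3_c0) (LK LD1_c1 LD2_c25 LD3_c13) Lrfl Lrfl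
theorem f231911 : Led Lsl_df (LP (LK LD1_c5 LD2_c16 LD3_c10)) = (LP (LK LD1_c6 LD2_c5 LD3_c42)) :=
  Lgr Lrot43 (Lpr_ct (f231896 IH) (Lpr_dt (f183495 IH) (Lpr_ct (f49079 IH) (Lpr_dt (f49082 IH) (Lpr_ct (K13.f231693 IH) (Lpr_dt (f44975 IH) (Lpr_ct (f50856 IH) (Lpr_dt (f212527 IH) (Lpe (K13.f231884 IH) (Lpr_dt (K13.f179042 IH) (Lpr_ct (f179041 IH) (Lpr_dt (K9.f169517 IH) (Lpr_ct (K9.f177784 IH) (Lpr_dt (K14.f183673 IH) (Lpr_ct (K14.f183680 IH) (Lpn (LP (LK LD1_c6 LD2_c5 LD3_c42))))))))))))))))))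
theorem f45404 : Led Lsl_dt (LP (LK LD1_c1 LD2_c14 LD3_c21)) = (LP (LK LD1_c0 LD2_c34 LD3_c28)) :=
  Lre_d IH (LK LD1_c1 LD2_c14 LD3_c21) (LK LD1_c0 LD2_c34 LD3_c28) Lrfl Lrfl
theorem f231943 : Led Lsl_gf (LP (LK LD1_c1 LD2_c14 LD3_c21)) = (LP (LK LD1_c2 LD2_c34 LD3_c32)) :=
  Lgr Lrot144 (Lpr_dt (f45404 IH) (Lpr_gt (K10.f45402 IH) (Lpr_dt (K1.f45191 IH) (Lpe (K10.f45390 IH) (Lpe (K10.f45391 IH) (Lpe (f45223 IH) (Lpr_df (f231911 IH) (Lpr_gf (K14.f183675 IH) (Lpe (K14.f47748 IH) (Lpn (LP (LK LD1_c2 LD2_c34 LD3_c32))))))))))))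
theorem f32900 : Led Lsl_ct (LP (LK LD1_c1 LD2_c14 LD3_c21)) = (LP (LK LD1_c2 LD2_c34 LD3_c40)) :=
  Lre_c IH (LK LD1_c1 LD2_c14 LD3_c21) (LK LD1_c2 LD2_c34 LD3_c40) Lrfl Lrfl
theorem f231947 : Led Lsl_dt (LP (LK LD1_c5 LD2_c15 LD3_c38)) = (LP (LK LD1_c2 LD2_c34 LD3_c40)) :=
  Lre_d IH (LK LD1_c5 LD2_c15 LD3_c38) (LK LD1_c2 LD2_c34 LD3_c40) Lrfl Lrfl
theorem f259394 : Led Lsl_ct (LP (LK LD1_c8 LD2_c29 LD3_c1)) = (LP (LK LD1_c5 LD2_c15 LD3_c38)) :=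
  Lgr Lrot110 (Lpe (f45415 IH) (Lpe (K13.f45206 IH) (Lpe (K13.f45412 IH) (Lpe (f212527 IH) (Lpr_gt (f259388 IH) (Lpr_ct (f47759 IH) (Lpe (f231943 IH) (Lpr_ct (f32900 IH) (Lpe (f231947 IH) (Lpn (LP (LK LD1_c5 LD2_c15 LD3_c38))))))))))))
theorem f259398 : Led Lsl_cf (LP (LK LD1_c8 LD2_c29 LD3_c1)) = (LP (LK LD1_c5 LD2_c15 LD3_c38)) :=
  Lgr Lrot11 (Lpr_ct (f259394 IH) (Lpn (LP (LK LD1_c5 LD2_c15 LD3_c38))))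
theorem f189723 : Led Lsl_dt (LP (LK LD1_c8 LD2_c29 LD3_c1)) = (LP (LK LD1_c5 LD2_c15 LD3_c18)) :=
  Lgr Lrot105 (Lpe (f45415 IH) (Lpe (K10.f45392 IH) (Lpe (K13.f45403 IH) (Lpe (K13.f189624 IH) (Lpr_gt (K12.f45729 IH) (Lpr_dt (K14.f49440 IH) (Lpr_gt (K10.f189720 IH) (Lpr_dt (K10.f183689 IH) (Lpe (K10.f183686 IH) (Lpn (LP (LK LD1_c5 LD2_c15 LD3_c18))))))))))))
theorem f32880 : Led Lsl_ct (LP (LK LD1_c1 LD2_c14 LD3_c17)) = (LP (LK LD1_c2 LD2_c34 LD3_c33)) :=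
  Lre_c IH (LK LD1_c1 LD2_c14 LD3_c17) (LK LD1_c2 LD2_c34 LD3_c33) Lrfl Lrfl
theorem f189631 : Led Lsl_cf (LP (LK LD1_c4 LD2_c13 LD3_c55)) = (LP (LK LD1_c4 LD2_c14 LD3_c60)) :=
  Lgr Lrot11 (Lpr_ct (K13.f189624 IH) (Lpn (LP (LK LD1_c4 LD2_c14 LD3_c60))))
theorem f28724 : Led Lsl_ft (LP (LK LD1_c2 LD2_c7 LD3_c56)) = (LP (LK LD1_c4 LD2_c20 LD3_c54)) :=
  Lre_f IH (LK LD1_c2 LD2_c7 LD3_c56) (LK LD1_c4 LD2_c20 LD3_c54) Lrfl Lrfl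
theorem f194191 : Led Lsl_gf (LP (LK LD1_c4 LD2_c15 LD3_c6)) = (LP (LK LD1_c2 LD2_c58 LD3_c39)) :=
  Lgr Lrot76 (Lpe (K10.f54281 IH) (Lpe (f28724 IH) (Lpr_gt (K10.f194189 IH) (Lpn (LP (LK LD1_c2 LD2_c58 LD3_c39))))))
theorem f214005 : Led Lsl_bt (LP (LK LD1_c4 LD2_c13 LD3_c55)) = (LP (LK LD1_c4 LD2_c54 LD3_c52)) :=
  Lgr Lrot95 (Lpr_df (K12.f189655 IH) (Lpr_bf (K12.f214002 IH) (Lpe (K12.f214004 IH) (Lpn (LP (LK LD1_c4 LD2_c54 LD3_c52))))))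
theorem f216293 : Led Lsl_gt (LP (LK LD1_c4 LD2_c15 LD3_c17)) = (LP (LK LD1_c4 LD2_c14 LD3_c60)) :=
  Lgr Lrot65 (Lpe (K1.f45180 IH) (Lpr_bt (K10.f45178 IH) (Lpr_gf (f194191 IH) (Lpe (K10.f182152 IH) (Lpr_ct (K10.f177478 IH) (Lpe (K10.f190189 IH) (Lpe (K10.f190197 IH) (Lpr_gf (K12.f214070 IH) (Lpe (f214005 IH) (Lpr_ct (K13.f189624 IH) (Lpn (LP (LK LD1_c4 LD2_c14 LD3_c60)))))))))))))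
theorem f45291 : Led Lsl_gt (LP (LK LD1_c8 LD2_c29 LD3_c2)) = (LP (LK LD1_c4 LD2_c15 LD3_c0)) :=
  Lre_g IH (LK LD1_c8 LD2_c29 LD3_c2) (LK LD1_c4 LD2_c15 LD3_c0) Lrfl Lrfl
theorem f45292 : Led Lsl_gf (LP (LK LD1_c8 LD2_c29 LD3_c2)) = (LP (LK LD1_c5 LD2_c16 LD3_c11)) :=
  Lgr Lrot47 (Lpr_gt (f45291 IH) (Lpr_af (K1.f45268 IH) (Lpe (K1.f45289 IH) (Lpn (LP (LK LD1_c5 LD2_c16 LD3_c11))))))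
theorem f252328 : Led Lsl_cf (LP (LK LD1_c5 LD2_c15 LD3_c26)) = (LP (LK LD1_c8 LD2_c29 LD3_c2)) :=
  Lgr Lrot169 (Lpr_gt (K14.f49933 IH) (Lpr_ct (K14.f252323 IH) (Lpe (K14.f50887 IH) (Lpe (K10.f49885 IH) (Lpe (K12.f45729 IH) (Lpr_cf (f189631 IH) (Lpe (f216293 IH) (Lpe (K1.f45196 IH) (Lpe (f45292 IH) (Lpn (LP (LK LD1_c8 LD2_c29 LD3_c2))))))))))))
theorem f252331 : Led Lsl_ct (LP (LK LD1_c5 LD2_c15 LD3_c26)) = (LP (LK LD1_c8 LD2_c29 LD3_c2)) :=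
  Lgr Lrot59 (Lpr_cf (f252328 IH) (Lpn (LP (LK LD1_c8 LD2_c29 LD3_c2))))
theorem f231946 : Led Lsl_dt (LP (LK LD1_c2 LD2_c34 LD3_c40)) = (LP (LK LD1_c5 LD2_c15 LD3_c38)) :=
  Lre_d IH (LK LD1_c2 LD2_c34 LD3_c40) (LK LD1_c5 LD2_c15 LD3_c38) Lrfl Lrfl
theorem f32346 : Led Lsl_dt (LP (LK LD1_c0 LD2_c34 LD3_c28)) = (LP (LK LD1_c1 LD2_c14 LD3_c21)) :=
  Lre_d IH (LK LD1_c0 LD2_c34 LD3_c28) (LK LD1_c1 LD2_c14 LD3_c21) Lrfl Lrfl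
theorem f45237 : Led Lsl_dt (LP (LK LD1_c2 LD2_c34 LD3_c38)) = (LP (LK LD1_c1 LD2_c14 LD3_c20)) :=
  Lre_d IH (LK LD1_c2 LD2_c34 LD3_c38) (LK LD1_c1 LD2_c14 LD3_c20) Lrfl Lrfl
theorem f45236 : Led Lsl_ct (LP (LK LD1_c5 LD2_c15 LD3_c34)) = (LP (LK LD1_c2 LD2_c34 LD3_c38)) :=
  Lre_c IH (LK LD1_c5 LD2_c15 LD3_c34) (LK LD1_c2 LD2_c34 LD3_c38) Lrfl Lrfl
theorem f259417 : Led Lsl_dt (LP (LK LD1_c8 LD2_c29 LD3_c2)) = (LP (LK LD1_c5 LD2_c15 LD3_c34)) :=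
  Lgr Lrot173 (Lpe (f252331 IH) (Lpe (K14.f49862 IH) (Lpe (f32880 IH) (Lpe (K9.f32879 IH) (Lpe (K10.f45241 IH) (Lpe (K10.f183685 IH) (Lpe (K10.f183686 IH) (Lpe (f189723 IH) (Lpr_cf (f259398 IH) (Lpe (f231946 IH) (Lpe (f32900 IH) (Lpe (f32346 IH) (Lpe (K10.f45238 IH) (Lpe (f45237 IH) (Lpe (f45236 IH) (Lpn (LP (LK LD1_c5 LD2_c15 LD3_c34))))))))))))))))))
theorem f189607 : Led Lsl_ct (LP (LK LD1_c2 LD2_c34 LD3_c38)) = (LP (LK LD1_c5 LD2_c15 LD3_c34)) :=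
  Lre_c IH (LK LD1_c2 LD2_c34 LD3_c38) (LK LD1_c5 LD2_c15 LD3_c34) Lrfl Lrfl
theorem f45235 : Led Lsl_dt (LP (LK LD1_c1 LD2_c14 LD3_c20)) = (LP (LK LD1_c2 LD2_c34 LD3_c38)) :=
  Lre_d IH (LK LD1_c1 LD2_c14 LD3_c20) (LK LD1_c2 LD2_c34 LD3_c38) Lrfl Lrfl
theorem f189614 : Led Lsl_at (LP (LK LD1_c4 LD2_c13 LD3_c57)) = (LP (LK LD1_c5 LD2_c15 LD3_c15)) :=
  Lgr Lrot66 (Lpe (K11.f50881 IH) (Lpr_af (K12.f50864 IH) (Lpr_ff (K11.f189612 IH) (Lpn (LP (LK LD1_c5 LD2_c15 LD3_c15))))))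
theorem f189716 : Led Lsl_gt (LP (LK LD1_c4 LD2_c13 LD3_c54)) = (LP (LK LD1_c5 LD2_c15 LD3_c15)) :=
  Lgr Lrot46 (Lpe (K10.f49884 IH) (Lpr_ft (K11.f50881 IH) (Lpr_at (f189614 IH) (Lpn (LP (LK LD1_c5 LD2_c15 LD3_c15))))))
theorem f259425 : Led Lsl_ct (LP (LK LD1_c4 LD2_c14 LD3_c59)) = (LP (LK LD1_c4 LD2_c13 LD3_c54)) :=
  Lgr Lrot8 (Lpe (K10.f45517 IH) (Lpe (K10.f45207 IH) (Lpe (f45292 IH) (Lpr_dt (f259417 IH) (Lpe (f189607 IH) (Lpe (f45235 IH) (Lpr_gf (K10.f189605 IH) (Lpe (K11.f189598 IH) (Lpe (f189716 IH) (Lpn (LP (LK LD1_c4 LD2_c13 LD3_c54))))))))))))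
theorem f45523 : Led Lsl_bt (LP (LK LD1_c8 LD2_c28 LD3_c52)) = (LP (LK LD1_c4 LD2_c14 LD3_c59)) :=
  Lre_b IH (LK LD1_c8 LD2_c28 LD3_c52) (LK LD1_c4 LD2_c14 LD3_c59) Lrfl Lrfl
theorem f194632 : Led Lsl_ct (LP (LK LD1_c2 LD2_c37 LD3_c54)) = (LP (LK LD1_c5 LD2_c22 LD3_c44)) :=
  Lre_c IH (LK LD1_c2 LD2_c37 LD3_c54) (LK LD1_c5 LD2_c22 LD3_c44) Lrfl Lrfl
theorem f45240 : Led Lsl_bt (LP (LK LD1_c0 LD2_c59 LD3_c35)) = (LP (LK LD1_c2 LD2_c4 LD3_c57)) :=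
  Lre_b IH (LK LD1_c0 LD2_c59 LD3_c35) (LK LD1_c2 LD2_c4 LD3_c57) Lrfl Lrfl
theorem f192207 : Led Lsl_gf (LP (LK LD1_c1 LD2_c58 LD3_c31)) = (LP (LK LD1_c2 LD2_c4 LD3_c57)) :=
  Lgr Lrot124 (Lpe (K10.f192204 IH) (Lpr_ct (K10.f192191 IH) (Lpe (K10.f187849 IH) (Lpe (K9.f50885 IH) (Lpr_bt (K9.f27584 IH) (Lpr_gt (K10.f189720 IH) (Lpr_ct (K10.f45241 IH) (Lpr_gt (K10.f32340 IH) (Lpr_cf (K1.f45220 IH) (Lpr_bt (f45240 IH) (Lpn (LP (LK LD1_c2 LD2_c4 LD3_c57)))))))))))))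
theorem f183690 : Led Lsl_bf (LP (LK LD1_c1 LD2_c59 LD3_c40)) = (LP (LK LD1_c1 LD2_c14 LD3_c16)) :=
  Lgr Lrot156 (Lpr_gt (K10.f47205 IH) (Lpe (K14.f47098 IH) (Lpr_ct (K1.f47089 IH) (Lpr_gt (K9.f101497 IH) (Lpr_cf (K9.f177785 IH) (Lpr_bt (K9.f177783 IH) (Lpr_gt (K9.f183670 IH) (Lpr_ct (K1.f44536 IH) (Lpr_gt (K9.f32878 IH) (Lpe (K10.f45241 IH) (Lpn (LP (LK LD1_c1 LD2_c14 LD3_c16)))))))))))))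
theorem f192215 : Led Lsl_ct (LP (LK LD1_c1 LD2_c58 LD3_c31)) = (LP (LK LD1_c1 LD2_c24 LD3_c55)) :=
  Lgr Lrot91 (Lpr_gf (f192207 IH) (Lpe (f45240 IH) (Lpe (K1.f45220 IH) (Lpe (K10.f32340 IH) (Lpe (K10.f45241 IH) (Lpe (f183690 IH) (Lpe (K10.f46241 IH) (Lpr_bf (K1.f47834 IH) (Lpe (K10.f183850 IH) (Lpe (K9.f41752 IH) (Lpn (LP (LK LD1_c1 LD2_c24 LD3_c55)))))))))))))
theorem f54518 : Led Lsl_ct (LP (LK LD1_c4 LD2_c6 LD3_c15)) = (LP (LK LD1_c2 LD2_c0 LD3_c27)) :=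
  Lre_c IH (LK LD1_c4 LD2_c6 LD3_c15) (LK LD1_c2 LD2_c0 LD3_c27) Lrfl Lrfl
theorem f194633 : Led Lsl_gf (LP (LK LD1_c4 LD2_c6 LD3_c15)) = (LP (LK LD1_c5 LD2_c22 LD3_c44)) :=
  Lgr Lrot104 (Lpr_ct (f54518 IH) (Lpe (K1.f47938 IH) (Lpe (K9.f183845 IH) (Lpe (K9.f41752 IH) (Lpe (f192215 IH) (Lpr_gf (f192207 IH) (Lpe (K10.f45608 IH) (Lpr_gt (K10.f194628 IH) (Lpr_ct (f194632 IH) (Lpn (LP (LK LD1_c5 LD2_c22 LD3_c44))))))))))))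
theorem f47451 : Led Lsl_gt (LP (LK LD1_c1 LD2_c59 LD3_c42)) = (LP (LK LD1_c4 LD2_c5 LD3_c4)) :=
  Lre_g IH (LK LD1_c1 LD2_c59 LD3_c42) (LK LD1_c4 LD2_c5 LD3_c4) Lrfl Lrfl
theorem f194637 : Led Lsl_bt (LP (LK LD1_c4 LD2_c13 LD3_c54)) = (LP (LK LD1_c4 LD2_c5 LD3_c4)) :=
  Lgr Lrot92 (Lpr_ct (K10.f189726 IH) (Lpe (K10.f45517 IH) (Lpe (K1.f45180 IH) (Lpr_bt (K10.f45178 IH) (Lpr_gt (K10.f194628 IH) (Lpr_ct (f194632 IH) (Lpe (f194633 IH) (Lpe (K10.f54576 IH) (Lpe (K10.f55088 IH) (Lpr_gt (f47451 IH) (Lpn (LP (LK LD1_c4 LD2_c5 LD3_c4)))))))))))))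
theorem f259427 : Led Lsl_ct (LP (LK LD1_c4 LD2_c5 LD3_c4)) = (LP (LK LD1_c8 LD2_c10 LD3_c55)) :=
  Lre_c IH (LK LD1_c4 LD2_c5 LD3_c4) (LK LD1_c8 LD2_c10 LD3_c55) Lrfl Lrfl
theorem f259428 : Led Lsl_bt (LP (LK LD1_c8 LD2_c10 LD3_c55)) = (LP (LK LD1_c15 LD2_c24 LD3_c20)) :=
  Lre_b IH (LK LD1_c8 LD2_c10 LD3_c55) (LK LD1_c15 LD2_c24 LD3_c20) Lrfl Lrfl
theorem f259429 : Led Lsl_cf (LP (LK LD1_c8 LD2_c28 LD3_c52)) = (LP (LK LD1_c15 LD2_c24 LD3_c20)) :=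
  Lgr Lrot97 (Lpr_bt (f45523 IH) (Lpr_ct (f259425 IH) (Lpr_bt (f194637 IH) (Lpr_ct (f259427 IH) (Lpr_bt (f259428 IH) (Lpn (LP (LK LD1_c15 LD2_c24 LD3_c20))))))))
theorem f259533 : Led Lsl_ct (LP (LK LD1_c8 LD2_c28 LD3_c52)) = (LP (LK LD1_c15 LD2_c24 LD3_c20)) :=
  Lgr Lrot59 (Lpr_cf (f259429 IH) (Lpn (LP (LK LD1_c15 LD2_c24 LD3_c20))))
theorem f259436 : Led Lsl_bt (LP (LK LD1_c4 LD2_c14 LD3_c59)) = (LP (LK LD1_c8 LD2_c28 LD3_c52)) :=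
  Lre_b IH (LK LD1_c4 LD2_c14 LD3_c59) (LK LD1_c8 LD2_c28 LD3_c52) Lrfl Lrfl
theorem f259540 : Led Lsl_bt (LP (LK LD1_c15 LD2_c24 LD3_c20)) = (LP (LK LD1_c8 LD2_c10 LD3_c55)) :=
  Lre_b IH (LK LD1_c15 LD2_c24 LD3_c20) (LK LD1_c8 LD2_c10 LD3_c55) Lrfl Lrfl
theorem f259541 : Led Lsl_ct (LP (LK LD1_c8 LD2_c10 LD3_c55)) = (LP (LK LD1_c4 LD2_c5 LD3_c4)) :=
  Lre_c IH (LK LD1_c8 LD2_c10 LD3_c55) (LK LD1_c4 LD2_c5 LD3_c4) Lrfl Lrfl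
theorem f259542 : Led Lsl_bf (LP (LK LD1_c4 LD2_c13 LD3_c54)) = (LP (LK LD1_c4 LD2_c5 LD3_c4)) :=
  Lgr Lrot90 (Lpr_ct (K10.f189726 IH) (Lpr_bt (f259436 IH) (Lpr_ct (f259533 IH) (Lpr_bt (f259540 IH) (Lpr_ct (f259541 IH) (Lpn (LP (LK LD1_c4 LD2_c5 LD3_c4))))))))
theorem f259550 : Led Lsl_gf (LP (LK LD1_c8 LD2_c39 LD3_c47)) = (LP (LK LD1_c8 LD2_c10 LD3_c55)) :=
  Lgr Lrot126 (Lpe (K9.f30959 IH) (Lpe (K9.f30973 IH) (Lpr_gt (K10.f28072 IH) (Lpr_ct (K10.f30985 IH) (Lpr_gt (K10.f192199 IH) (Lpe (K10.f27599 IH) (Lpr_bt (K10.f43274 IH) (Lpr_gt (K10.f49884 IH) (Lpr_bf (f259542 IH) (Lpr_ct (f259427 IH) (Lpn (LP (LK LD1_c8 LD2_c10 LD3_c55)))))))))))))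
theorem f47100 : Led Lsl_gt (LP (LK LD1_c4 LD2_c5 LD3_c4)) = (LP (LK LD1_c1 LD2_c59 LD3_c54)) :=
  Lre_g IH (LK LD1_c4 LD2_c5 LD3_c4) (LK LD1_c1 LD2_c59 LD3_c54) Lrfl Lrfl
theorem f46244 : Led Lsl_dt (LP (LK LD1_c1 LD2_c59 LD3_c41)) = (LP (LK LD1_c4 LD2_c5 LD3_c3)) :=
  Lre_d IH (LK LD1_c1 LD2_c59 LD3_c41) (LK LD1_c4 LD2_c5 LD3_c3) Lrfl Lrfl
theorem f187803 : Led Lsl_ct (LP (LK LD1_c8 LD2_c10 LD3_c53)) = (LP (LK LD1_c4 LD2_c5 LD3_c3)) :=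
  Lre_c IH (LK LD1_c8 LD2_c10 LD3_c53) (LK LD1_c4 LD2_c5 LD3_c3) Lrfl Lrfl
theorem f187810 : Led Lsl_dt (LP (LK LD1_c15 LD2_c24 LD3_c18)) = (LP (LK LD1_c8 LD2_c10 LD3_c53)) :=
  Lre_d IH (LK LD1_c15 LD2_c24 LD3_c18) (LK LD1_c8 LD2_c10 LD3_c53) Lrfl Lrfl
theorem f259552 : Led Lsl_gt (LP (LK LD1_c16 LD2_c13 LD3_c30)) = (LP (LK LD1_c15 LD2_c24 LD3_c18)) :=
  Lgr Lrot49 (Lpe (K9.f50620 IH) (Lpr_gf (f259550 IH) (Lpe (f259427 IH) (Lpr_gt (f47100 IH) (Lpr_dt (K10.f47099 IH) (Lpr_gt (K14.f47204 IH) (Lpr_dt (f46244 IH) (Lpe (f187803 IH) (Lpe (f187810 IH) (Lpn (LP (LK LD1_c15 LD2_c24 LD3_c18))))))))))))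
theorem f259566 : Led Lsl_cf (LP (LK LD1_c8 LD2_c52 LD3_c26)) = (LP (LK LD1_c15 LD2_c24 LD3_c18)) :=
  Lgr Lrot169 (Lpe (K13.f47233 IH) (Lpe (K1.f46231 IH) (Lpe (K13.f47196 IH) (Lpe (K1.f47195 IH) (Lpe (K10.f47954 IH) (Lpe (K14.f47964 IH) (Lpr_gf (K10.f194351 IH) (Lpe (K9.f30984 IH) (Lpr_gt (f259552 IH) (Lpn (LP (LK LD1_c15 LD2_c24 LD3_c18))))))))))))
theorem f259568 : Led Lsl_ct (LP (LK LD1_c8 LD2_c52 LD3_c26)) = (LP (LK LD1_c15 LD2_c24 LD3_c18)) :=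
  Lgr Lrot59 (Lpr_cf (f259566 IH) (Lpn (LP (LK LD1_c15 LD2_c24 LD3_c18))))
theorem f187548 : Led Lsl_dt (LP (LK LD1_c1 LD2_c15 LD3_c41)) = (LP (LK LD1_c2 LD2_c37 LD3_c19)) :=
  Lre_d IH (LK LD1_c1 LD2_c15 LD3_c41) (LK LD1_c2 LD2_c37 LD3_c19) Lrfl Lrfl
theorem f187549 : Led Lsl_ct (LP (LK LD1_c2 LD2_c37 LD3_c19)) = (LP (LK LD1_c5 LD2_c21 LD3_c26)) :=
  Lre_c IH (LK LD1_c2 LD2_c37 LD3_c19) (LK LD1_c5 LD2_c21 LD3_c26) Lrfl Lrfl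
theorem f230681 : Led Lsl_df (LP (LK LD1_c5 LD2_c21 LD3_c26)) = (LP (LK LD1_c10 LD2_c16 LD3_c44)) :=
  Lgr Lrot84 (Lpe (f187549 IH) (Lpe (f187548 IH) (Lpe (K10.f188008 IH) (Lpe (K14.f30873 IH) (Lpr_gf (K11.f188004 IH) (Lpe (K12.f188000 IH) (Lpr_gt (K10.f47409 IH) (Lpr_dt (K13.f47196 IH) (Lpr_gt (K13.f230676 IH) (Lpn (LP (LK LD1_c10 LD2_c16 LD3_c44))))))))))))
theorem f44634 : Led Lsl_bt (LP (LK LD1_c2 LD2_c37 LD3_c19)) = (LP (LK LD1_c1 LD2_c15 LD3_c42)) :=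
  Lre_b IH (LK LD1_c2 LD2_c37 LD3_c19) (LK LD1_c1 LD2_c15 LD3_c42) Lrfl Lrfl
theorem f21302 : Led Lsl_bt (LP (LK LD1_c2 LD2_c29 LD3_c4)) = (LP (LK LD1_c1 LD2_c11 LD3_c43)) :=
  Lre_b IH (LK LD1_c2 LD2_c29 LD3_c4) (LK LD1_c1 LD2_c11 LD3_c43) Lrfl Lrfl
theorem f250337 : Led Lsl_gt (LP (LK LD1_c5 LD2_c21 LD3_c26)) = (LP (LK LD1_c5 LD2_c3 LD3_c3)) :=
  Lgr Lrot65 (Lpe (f187549 IH) (Lpr_bt (f44634 IH) (Lpe (K14.f44732 IH) (Lpr_bf (K14.f215452 IH) (Lpr_ct (K12.f195594 IH) (Lpe (K14.f226067 IH) (Lpe (K14.f187531 IH) (Lpr_gf (K14.f250335 IH) (Lpe (f21302 IH) (Lpr_ct (K13.f21303 IH) (Lpn (LP (LK LD1_c5 LD2_c3 LD3_c3)))))))))))))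
theorem f192146 : Led Lsl_ct (LP (LK LD1_c5 LD2_c3 LD3_c3)) = (LP (LK LD1_c2 LD2_c29 LD3_c4)) :=
  Lre_c IH (LK LD1_c5 LD2_c3 LD3_c3) (LK LD1_c2 LD2_c29 LD3_c4) Lrfl Lrfl
theorem f212259 : Led Lsl_dt (LP (LK LD1_c8 LD2_c10 LD3_c53)) = (LP (LK LD1_c15 LD2_c24 LD3_c18)) :=
  Lre_d IH (LK LD1_c8 LD2_c10 LD3_c53) (LK LD1_c15 LD2_c24 LD3_c18) Lrfl Lrfl
theorem f55607 : Led Lsl_ct (LP (LK LD1_c4 LD2_c5 LD3_c3)) = (LP (LK LD1_c8 LD2_c10 LD3_c53)) :=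
  Lre_c IH (LK LD1_c4 LD2_c5 LD3_c3) (LK LD1_c8 LD2_c10 LD3_c53) Lrfl Lrfl
theorem f259577 : Led Lsl_gt (LP (LK LD1_c2 LD2_c29 LD3_c4)) = (LP (LK LD1_c4 LD2_c5 LD3_c3)) :=
  Lgr Lrot150 (Lpe (f192146 IH) (Lpe (f250337 IH) (Lpr_df (f230681 IH) (Lpe (K12.f230672 IH) (Lpr_ct (K12.f47202 IH) (Lpr_gt (K13.f44158 IH) (Lpr_ct (f259568 IH) (Lpe (f212259 IH) (Lpe (f55607 IH) (Lpn (LP (LK LD1_c4 LD2_c5 LD3_c3))))))))))))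
theorem f192150 : Led Lsl_et (LP (LK LD1_c5 LD2_c2 LD3_c61)) = (LP (LK LD1_c2 LD2_c29 LD3_c4)) :=
  Lre_e IH (LK LD1_c5 LD2_c2 LD3_c61) (LK LD1_c2 LD2_c29 LD3_c4) Lrfl Lrfl
theorem f192151 : Led Lsl_dt (LP (LK LD1_c5 LD2_c2 LD3_c61)) = (LP (LK LD1_c2 LD2_c29 LD3_c1)) :=
  Lre_d IH (LK LD1_c5 LD2_c2 LD3_c61) (LK LD1_c2 LD2_c29 LD3_c1) Lrfl Lrfl
theorem f257600 : Led Lsl_et (LP (LK LD1_c2 LD2_c28 LD3_c41)) = (LP (LK LD1_c5 LD2_c2 LD3_c8)) :=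
  Lre_e IH (LK LD1_c2 LD2_c28 LD3_c41) (LK LD1_c5 LD2_c2 LD3_c8) Lrfl Lrfl
theorem f192135 : Led Lsl_et (LP (LK LD1_c1 LD2_c11 LD3_c39)) = (LP (LK LD1_c2 LD2_c29 LD3_c1)) :=
  Lre_e IH (LK LD1_c1 LD2_c11 LD3_c39) (LK LD1_c2 LD2_c29 LD3_c1) Lrfl Lrfl
theorem f257601 : Led Lsl_gt (LP (LK LD1_c5 LD2_c2 LD3_c8)) = (LP (LK LD1_c2 LD2_c29 LD3_c1)) :=
  Lgr Lrot131 (Lpe (f257600 IH) (Lpr_dt (f257574 IH) (Lpe (K12.f229518 IH) (Lpe (K12.f229924 IH) (Lpe (K12.f43794 IH) (Lpr_ef (K1.f44322 IH) (Lpr_dt (K1.f31465 IH) (Lpr_gf (K10.f192121 IH) (Lpe (K12.f169858 IH) (Lpr_et (f192135 IH) (Lpn (LP (LK LD1_c2 LD2_c29 LD3_c1)))))))))))))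
theorem f46245 : Led Lsl_dt (LP (LK LD1_c4 LD2_c5 LD3_c3)) = (LP (LK LD1_c1 LD2_c59 LD3_c41)) :=
  Lre_d IH (LK LD1_c4 LD2_c5 LD3_c3) (LK LD1_c1 LD2_c59 LD3_c41) Lrfl Lrfl
theorem f55095 : Led Lsl_et (LP (LK LD1_c4 LD2_c54 LD3_c35)) = (LP (LK LD1_c2 LD2_c25 LD3_c11)) :=
  Lre_e IH (LK LD1_c4 LD2_c54 LD3_c35) (LK LD1_c2 LD2_c25 LD3_c11) Lrfl Lrfl
theorem f259592 : Led Lsl_df (LP (LK LD1_c5 LD2_c2 LD3_c8)) = (LP (LK LD1_c4 LD2_c54 LD3_c35)) :=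
  Lgr Lrot170 (Lpr_gt (f257601 IH) (Lpe (f192151 IH) (Lpr_et (f192150 IH) (Lpr_gt (f259577 IH) (Lpr_dt (f46245 IH) (Lpr_gt (K12.f46243 IH) (Lpe (K1.f46225 IH) (Lpr_et (K1.f55071 IH) (Lpr_gt (K12.f41227 IH) (Lpe (f55095 IH) (Lpn (LP (LK LD1_c4 LD2_c54 LD3_c35)))))))))))))
theorem f201161 : Led Lsl_gt (LP (LK LD1_c9 LD2_c40 LD3_c45)) = (LP (LK LD1_c4 LD2_c54 LD3_c35)) :=
  Lre_g IH (LK LD1_c9 LD2_c40 LD3_c45) (LK LD1_c4 LD2_c54 LD3_c35) Lrfl Lrfl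
theorem f259596 : Led Lsl_et (LP (LK LD1_c17 LD2_c48 LD3_c20)) = (LP (LK LD1_c9 LD2_c40 LD3_c45)) :=
  Lre_e IH (LK LD1_c17 LD2_c48 LD3_c20) (LK LD1_c9 LD2_c40 LD3_c45) Lrfl Lrfl
theorem f187807 : Led Lsl_et (LP (LK LD1_c8 LD2_c10 LD3_c54)) = (LP (LK LD1_c4 LD2_c5 LD3_c3)) :=
  Lre_e IH (LK LD1_c8 LD2_c10 LD3_c54) (LK LD1_c4 LD2_c5 LD3_c3) Lrfl Lrfl
theorem f55096 : Led Lsl_et (LP (LK LD1_c4 LD2_c5 LD3_c3)) = (LP (LK LD1_c8 LD2_c10 LD3_c54)) :=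
  Lre_e IH (LK LD1_c4 LD2_c5 LD3_c3) (LK LD1_c8 LD2_c10 LD3_c54) Lrfl Lrfl
theorem f256400 : Led Lsl_et (LP (LK LD1_c5 LD2_c9 LD3_c34)) = (LP (LK LD1_c2 LD2_c31 LD3_c54)) :=
  Lre_e IH (LK LD1_c5 LD2_c9 LD3_c34) (LK LD1_c2 LD2_c31 LD3_c54) Lrfl Lrfl
theorem f256455 : Led Lsl_dt (LP (LK LD1_c8 LD2_c10 LD3_c54)) = (LP (LK LD1_c5 LD2_c9 LD3_c34)) :=
  Lgr Lrot77 (Lpe (f55096 IH) (Lpe (f46244 IH) (Lpr_ef (f256441 IH) (Lpe (K14.f256393 IH) (Lpe (f256400 IH) (Lpn (LP (LK LD1_c5 LD2_c9 LD3_c34))))))))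
theorem f256404 : Led Lsl_gt (LP (LK LD1_c5 LD2_c9 LD3_c34)) = (LP (LK LD1_c10 LD2_c9 LD3_c51)) :=
  Lre_g IH (LK LD1_c5 LD2_c9 LD3_c34) (LK LD1_c10 LD2_c9 LD3_c51) Lrfl Lrfl
theorem f259597 : Led Lsl_dt (LP (LK LD1_c17 LD2_c48 LD3_c20)) = (LP (LK LD1_c10 LD2_c9 LD3_c51)) :=
  Lgr Lrot37 (Lpr_et (f259596 IH) (Lpr_gt (f201161 IH) (Lpe (f259592 IH) (Lpr_gt (f257601 IH) (Lpe (f192151 IH) (Lpr_et (f192150 IH) (Lpr_gt (f259577 IH) (Lpe (f187807 IH) (Lpr_dt (f256455 IH) (Lpr_gt (f256404 IH) (Lpn (LP (LK LD1_c10 LD2_c9 LD3_c51)))))))))))))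
theorem f259601 : Led Lsl_et (LP (LK LD1_c9 LD2_c40 LD3_c45)) = (LP (LK LD1_c17 LD2_c48 LD3_c20)) :=
  Lre_e IH (LK LD1_c9 LD2_c40 LD3_c45) (LK LD1_c17 LD2_c48 LD3_c20) Lrfl Lrfl
theorem f256403 : Led Lsl_et (LP (LK LD1_c2 LD2_c31 LD3_c54)) = (LP (LK LD1_c5 LD2_c9 LD3_c34)) :=
  Lre_e IH (LK LD1_c2 LD2_c31 LD3_c54) (LK LD1_c5 LD2_c9 LD3_c34) Lrfl Lrfl
theorem f214147 : Led Lsl_at (LP (LK LD1_c27 LD2_c51 LD3_c28)) = (LP (LK LD1_c18 LD2_c11 LD3_c18)) :=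
  Lre_a IH (LK LD1_c27 LD2_c51 LD3_c28) (LK LD1_c18 LD2_c11 LD3_c18) Lrfl Lrfl
theorem f188489 : Led Lsl_at (LP (LK LD1_c18 LD2_c54 LD3_c20)) = (LP (LK LD1_c28 LD2_c22 LD3_c5)) :=
  Lre_a IH (LK LD1_c18 LD2_c54 LD3_c20) (LK LD1_c28 LD2_c22 LD3_c5) Lrfl Lrfl
theorem f214520 : Led Lsl_ct (LP (LK LD1_c18 LD2_c11 LD3_c18)) = (LP (LK LD1_c18 LD2_c54 LD3_c20)) :=
  Lgr Lrot111 (Lpe (f214147 IH) (Lpr_cf (K14.f214518 IH) (Lpe (f188489 IH) (Lpn (LP (LK LD1_c18 LD2_c54 LD3_c20))))))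
theorem f214262 : Led Lsl_bt (LP (LK LD1_c9 LD2_c56 LD3_c25)) = (LP (LK LD1_c18 LD2_c11 LD3_c18)) :=
  Lre_b IH (LK LD1_c9 LD2_c56 LD3_c25) (LK LD1_c18 LD2_c11 LD3_c18) Lrfl Lrfl
theorem f214534 : Led Lsl_bt (LP (LK LD1_c18 LD2_c54 LD3_c20)) = (LP (LK LD1_c10 LD2_c25 LD3_c14)) :=
  Lre_b IH (LK LD1_c18 LD2_c54 LD3_c20) (LK LD1_c10 LD2_c25 LD3_c14) Lrfl Lrfl
theorem f188327 : Led Lsl_ct (LP (LK LD1_c10 LD2_c25 LD3_c14)) = (LP (LK LD1_c8 LD2_c15 LD3_c10)) :=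
  Lgr Lrot15 (Lpe (K13.f188320 IH) (Lpr_cf (K10.f188325 IH) (Lpe (K9.f44983 IH) (Lpn (LP (LK LD1_c8 LD2_c15 LD3_c10))))))
theorem f214539 : Led Lsl_bf (LP (LK LD1_c5 LD2_c2 LD3_c47)) = (LP (LK LD1_c8 LD2_c15 LD3_c10)) :=
  Lgr Lrot90 (Lpr_ct (K12.f214138 IH) (Lpr_bt (f214262 IH) (Lpr_ct (f214520 IH) (Lpr_bt (f214534 IH) (Lpr_ct (f188327 IH) (Lpn (LP (LK LD1_c8 LD2_c15 LD3_c10))))))))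
theorem f214136 : Led Lsl_af (LP (LK LD1_c5 LD2_c9 LD3_c28)) = (LP (LK LD1_c5 LD2_c2 LD3_c47)) :=
  Lgr Lrot0 (Lpr_at (K12.f214133 IH) (Lpn (LP (LK LD1_c5 LD2_c2 LD3_c47))))
theorem f43560 : Led Lsl_af (LP (LK LD1_c9 LD2_c39 LD3_c34)) = (LP (LK LD1_c9 LD2_c40 LD3_c6)) :=
  Lgr Lrot0 (Lpr_at (K14.f43557 IH) (Lpn (LP (LK LD1_c9 LD2_c40 LD3_c6))))
theorem f214543 : Led Lsl_bt (LP (LK LD1_c5 LD2_c9 LD3_c28)) = (LP (LK LD1_c9 LD2_c40 LD3_c6)) :=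
  Lgr Lrot62 (Lpr_af (f214136 IH) (Lpr_bf (f214539 IH) (Lpr_af (K9.f49817 IH) (Lpe (K14.f50035 IH) (Lpr_af (f43560 IH) (Lpn (LP (LK LD1_c9 LD2_c40 LD3_c6))))))))
theorem f43384 : Led Lsl_et (LP (LK LD1_c4 LD2_c53 LD3_c61)) = (LP (LK LD1_c9 LD2_c39 LD3_c28)) :=
  Lre_e IH (LK LD1_c4 LD2_c53 LD3_c61) (LK LD1_c9 LD2_c39 LD3_c28) Lrfl Lrfl
theorem f44446 : Led Lsl_ft (LP (LK LD1_c9 LD2_c39 LD3_c28)) = (LP (LK LD1_c9 LD2_c40 LD3_c6)) :=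
  Lgr Lrot86 (Lpe (f43384 IH) (Lpe (K9.f44445 IH) (Lpr_ef (K1.f44335 IH) (Lpe (K12.f31480 IH) (Lpe (K14.f43287 IH) (Lpn (LP (LK LD1_c9 LD2_c40 LD3_c6))))))))
theorem f43360 : Led Lsl_bt (LP (LK LD1_c9 LD2_c39 LD3_c28)) = (LP (LK LD1_c4 LD2_c54 LD3_c14)) :=
  Lre_b IH (LK LD1_c9 LD2_c39 LD3_c28) (LK LD1_c4 LD2_c54 LD3_c14) Lrfl Lrfl
theorem f43361 : Led Lsl_bt (LP (LK LD1_c4 LD2_c54 LD3_c14)) = (LP (LK LD1_c9 LD2_c39 LD3_c28)) :=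
  Lre_b IH (LK LD1_c4 LD2_c54 LD3_c14) (LK LD1_c9 LD2_c39 LD3_c28) Lrfl Lrfl
theorem f43362 : Led Lsl_df (LP (LK LD1_c9 LD2_c39 LD3_c28)) = (LP (LK LD1_c9 LD2_c39 LD3_c28)) :=
  Lgr Lrot12 (Lpr_bt (f43360 IH) (Lpr_dt (K13.f43358 IH) (Lpr_bt (f43361 IH) (Lpn (LP (LK LD1_c9 LD2_c39 LD3_c28))))))
theorem f44452 : Led Lsl_ff (LP (LK LD1_c9 LD2_c39 LD3_c28)) = (LP (LK LD1_c9 LD2_c40 LD3_c6)) :=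
  Lgr Lrot19 (Lpe (f43362 IH) (Lpr_ft (f44446 IH) (Lpe (K14.f43290 IH) (Lpn (LP (LK LD1_c9 LD2_c40 LD3_c6))))))
theorem f214551 : Led Lsl_ff (LP (LK LD1_c5 LD2_c9 LD3_c28)) = (LP (LK LD1_c4 LD2_c54 LD3_c14)) :=
  Lgr Lrot25 (Lpr_bt (f214543 IH) (Lpe (f44452 IH) (Lpr_bt (f43360 IH) (Lpn (LP (LK LD1_c4 LD2_c54 LD3_c14))))))
theorem f43370 : Led Lsl_gt (LP (LK LD1_c4 LD2_c54 LD3_c14)) = (LP (LK LD1_c9 LD2_c40 LD3_c0)) :=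
  Lre_g IH (LK LD1_c4 LD2_c54 LD3_c14) (LK LD1_c9 LD2_c40 LD3_c0) Lrfl Lrfl
theorem f214553 : Led Lsl_gf (LP (LK LD1_c5 LD2_c2 LD3_c47)) = (LP (LK LD1_c9 LD2_c40 LD3_c0)) :=
  Lgr Lrot76 (Lpe (K12.f214133 IH) (Lpr_ff (f214551 IH) (Lpr_gt (f43370 IH) (Lpn (LP (LK LD1_c9 LD2_c40 LD3_c0))))))
theorem f43380 : Led Lsl_dt (LP (LK LD1_c17 LD2_c46 LD3_c50)) = (LP (LK LD1_c9 LD2_c40 LD3_c0)) :=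
  Lre_d IH (LK LD1_c17 LD2_c46 LD3_c50) (LK LD1_c9 LD2_c40 LD3_c0) Lrfl Lrfl
theorem f256405 : Led Lsl_ef (LP (LK LD1_c10 LD2_c9 LD3_c51)) = (LP (LK LD1_c17 LD2_c46 LD3_c50)) :=
  Lgr Lrot17 (Lpe (f256404 IH) (Lpe (f256403 IH) (Lpr_dt (K14.f256393 IH) (Lpe (f53191 IH) (Lpe (K14.f166683 IH) (Lpr_gf (K12.f194152 IH) (Lpe (K12.f192557 IH) (Lpr_dt (K13.f192558 IH) (Lpr_gf (f214553 IH) (Lpe (f43380 IH) (Lpn (LP (LK LD1_c17 LD2_c46 LD3_c50)))))))))))))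
theorem f256412 : Led Lsl_et (LP (LK LD1_c10 LD2_c9 LD3_c51)) = (LP (LK LD1_c17 LD2_c46 LD3_c50)) :=
  Lgr Lrot87 (Lpr_ef (f256405 IH) (Lpn (LP (LK LD1_c17 LD2_c46 LD3_c50))))
theorem f214563 : Led Lsl_et (LP (LK LD1_c9 LD2_c40 LD3_c0)) = (LP (LK LD1_c17 LD2_c46 LD3_c51)) :=
  Lre_e IH (LK LD1_c9 LD2_c40 LD3_c0) (LK LD1_c17 LD2_c46 LD3_c51) Lrfl Lrfl
theorem f259602 : Led Lsl_df (LP (LK LD1_c9 LD2_c40 LD3_c45)) = (LP (LK LD1_c17 LD2_c46 LD3_c51)) :=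
  Lgr Lrot70 (Lpr_et (f259601 IH) (Lpr_dt (f259597 IH) (Lpr_et (f256412 IH) (Lpr_dt (f43380 IH) (Lpr_et (f214563 IH) (Lpn (LP (LK LD1_c17 LD2_c46 LD3_c51))))))))
theorem f184886 : Led Lsl_et (LP (LK LD1_c17 LD2_c46 LD3_c51)) = (LP (LK LD1_c9 LD2_c40 LD3_c0)) :=
  Lre_e IH (LK LD1_c17 LD2_c46 LD3_c51) (LK LD1_c9 LD2_c40 LD3_c0) Lrfl Lrfl
theorem f166667 : Led Lsl_et (LP (LK LD1_c5 LD2_c2 LD3_c8)) = (LP (LK LD1_c2 LD2_c28 LD3_c41)) :=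
  Lre_e IH (LK LD1_c5 LD2_c2 LD3_c8) (LK LD1_c2 LD2_c28 LD3_c41) Lrfl Lrfl
theorem f259607 : Led Lsl_df (LP (LK LD1_c4 LD2_c54 LD3_c35)) = (LP (LK LD1_c5 LD2_c2 LD3_c8)) :=
  Lgr Lrot168 (Lpe (f201161 IH) (Lpr_df (f259602 IH) (Lpr_et (f184886 IH) (Lpe (f43370 IH) (Lpe (K13.f43355 IH) (Lpr_dt (K9.f43356 IH) (Lpr_gf (K10.f184875 IH) (Lpe (K14.f165325 IH) (Lpe (f166628 IH) (Lpe (f166667 IH) (Lpn (LP (LK LD1_c5 LD2_c2 LD3_c8)))))))))))))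
theorem f27504 : Led Lsl_et (LP (LK LD1_c4 LD2_c14 LD3_c10)) = (LP (LK LD1_c2 LD2_c4 LD3_c28)) :=
  Lre_e IH (LK LD1_c4 LD2_c14 LD3_c10) (LK LD1_c2 LD2_c4 LD3_c28) Lrfl Lrfl
theorem f201134 : Led Lsl_et (LP (LK LD1_c2 LD2_c25 LD3_c11)) = (LP (LK LD1_c4 LD2_c54 LD3_c35)) :=
  Lre_e IH (LK LD1_c2 LD2_c25 LD3_c11) (LK LD1_c4 LD2_c54 LD3_c35) Lrfl Lrfl
theorem f201135 : Led Lsl_bf (LP (LK LD1_c4 LD2_c14 LD3_c10)) = (LP (LK LD1_c4 LD2_c54 LD3_c35)) :=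
  Lgr Lrot96 (Lpr_et (f27504 IH) (Lpr_bt (K12.f201127 IH) (Lpr_et (f201134 IH) (Lpn (LP (LK LD1_c4 LD2_c54 LD3_c35))))))
theorem f27505 : Led Lsl_dt (LP (LK LD1_c4 LD2_c14 LD3_c10)) = (LP (LK LD1_c8 LD2_c26 LD3_c54)) :=
  Lre_d IH (LK LD1_c4 LD2_c14 LD3_c10) (LK LD1_c8 LD2_c26 LD3_c54) Lrfl Lrfl
theorem f259609 : Led Lsl_bt (LP (LK LD1_c8 LD2_c26 LD3_c54)) = (LP (LK LD1_c5 LD2_c2 LD3_c8)) :=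
  Lgr Lrot95 (Lpe (f27505 IH) (Lpr_bf (f201135 IH) (Lpr_df (f259607 IH) (Lpn (LP (LK LD1_c5 LD2_c2 LD3_c8))))))
theorem f259618 : Led Lsl_ef (LP (LK LD1_c8 LD2_c26 LD3_c54)) = (LP (LK LD1_c5 LD2_c2 LD3_c6)) :=
  Lgr Lrot29 (Lpr_bt (f259609 IH) (Lpr_et (f166667 IH) (Lpr_bt (f249483 IH) (Lpn (LP (LK LD1_c5 LD2_c2 LD3_c6))))))
theorem f201158 : Led Lsl_dt (LP (LK LD1_c8 LD2_c26 LD3_c54)) = (LP (LK LD1_c4 LD2_c14 LD3_c10)) :=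
  Lre_d IH (LK LD1_c8 LD2_c26 LD3_c54) (LK LD1_c4 LD2_c14 LD3_c10) Lrfl Lrfl
theorem f212231 : Led Lsl_bt (LP (LK LD1_c5 LD2_c2 LD3_c6)) = (LP (LK LD1_c2 LD2_c28 LD3_c41)) :=
  Lre_b IH (LK LD1_c5 LD2_c2 LD3_c6) (LK LD1_c2 LD2_c28 LD3_c41) Lrfl Lrfl
theorem f229519 : Led Lsl_bt (LP (LK LD1_c2 LD2_c6 LD3_c44)) = (LP (LK LD1_c4 LD2_c18 LD3_c57)) :=
  Lre_b IH (LK LD1_c2 LD2_c6 LD3_c44) (LK LD1_c4 LD2_c18 LD3_c57) Lrfl Lrfl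
theorem f257592 : Led Lsl_df (LP (LK LD1_c5 LD2_c2 LD3_c6)) = (LP (LK LD1_c4 LD2_c18 LD3_c57)) :=
  Lgr Lrot12 (Lpr_bt (f212231 IH) (Lpr_dt (f257574 IH) (Lpr_bt (f229519 IH) (Lpn (LP (LK LD1_c4 LD2_c18 LD3_c57))))))
theorem f259620 : Led Lsl_et (LP (LK LD1_c2 LD2_c41 LD3_c7)) = (LP (LK LD1_c4 LD2_c18 LD3_c57)) :=
  Lgr Lrot71 (Lpr_df (K14.f220528 IH) (Lpe (f27504 IH) (Lpe (f201158 IH) (Lpr_ef (f259618 IH) (Lpr_df (f257592 IH) (Lpn (LP (LK LD1_c4 LD2_c18 LD3_c57))))))))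
theorem f219938 : Led Lsl_et (LP (LK LD1_c1 LD2_c58 LD3_c23)) = (LP (LK LD1_c4 LD2_c2 LD3_c44)) :=
  Lre_e IH (LK LD1_c1 LD2_c58 LD3_c23) (LK LD1_c4 LD2_c2 LD3_c44) Lrfl Lrfl
theorem f259629 : Led Lsl_gf (LP (LK LD1_c4 LD2_c2 LD3_c44)) = (LP (LK LD1_c4 LD2_c18 LD3_c57)) :=
  Lgr Lrot141 (Lpe (f219938 IH) (Lpr_dt (K12.f219947 IH) (Lpe (K12.f220509 IH) (Lpr_df (K12.f220515 IH) (Lpr_et (K12.f27519 IH) (Lpr_gt (K10.f45730 IH) (Lpr_dt (K14.f44970 IH) (Lpr_gt (K12.f49893 IH) (Lpe (K12.f220526 IH) (Lpr_et (f259620 IH) (Lpn (LP (LK LD1_c4 LD2_c18 LD3_c57)))))))))))))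
theorem f220587 : Led Lsl_ct (LP (LK LD1_c4 LD2_c2 LD3_c44)) = (LP (LK LD1_c1 LD2_c58 LD3_c25)) :=
  Lre_c IH (LK LD1_c4 LD2_c2 LD3_c44) (LK LD1_c1 LD2_c58 LD3_c25) Lrfl Lrfl
theorem f259631 : Led Lsl_gt (LP (LK LD1_c1 LD2_c58 LD3_c25)) = (LP (LK LD1_c1 LD2_c14 LD3_c52)) :=
  Lgr Lrot187 (Lpe (f220587 IH) (Lpr_gf (f259629 IH) (Lpe (f257592 IH) (Lpe (f257090 IH) (Lpr_ct (f50856 IH) (Lpr_gt (f259388 IH) (Lpr_ct (f47759 IH) (Lpe (K9.f47749 IH) (Lpr_cf (K9.f49080 IH) (Lpn (LP (LK LD1_c1 LD2_c14 LD3_c52))))))))))))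
theorem f49077 : Led Lsl_ct (LP (LK LD1_c2 LD2_c1 LD3_c22)) = (LP (LK LD1_c1 LD2_c14 LD3_c52)) :=
  Lgr Lrot7 (Lpr_df (K9.f47749 IH) (Lpe (K9.f45398 IH) (Lpe (K9.f32879 IH) (Lpe (K9.f32878 IH) (Lpe (K1.f44536 IH) (Lpr_gt (K9.f45399 IH) (Lpr_dt (K9.f45400 IH) (Lpr_gt (K9.f48188 IH) (Lpr_dt (K9.f49076 IH) (Lpn (LP (LK LD1_c1 LD2_c14 LD3_c52))))))))))))
theorem f48208 : Led Lsl_gt (LP (LK LD1_c2 LD2_c4 LD3_c59)) = (LP (LK LD1_c4 LD2_c15 LD3_c9)) :=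
  Lre_g IH (LK LD1_c2 LD2_c4 LD3_c59) (LK LD1_c4 LD2_c15 LD3_c9) Lrfl Lrfl
theorem f259633 : Led Lsl_bf (LP (LK LD1_c4 LD2_c15 LD3_c9)) = (LP (LK LD1_c5 LD2_c19 LD3_c3)) :=
  Lgr Lrot34 (Lpe (f48208 IH) (Lpr_bf (K10.f189782 IH) (Lpr_ct (f49077 IH) (Lpe (f259631 IH) (Lpe (f220587 IH) (Lpr_gf (f259629 IH) (Lpe (f229519 IH) (Lpr_ct (K12.f171473 IH) (Lpr_gf (K12.f230324 IH) (Lpe (f229943 IH) (Lpn (LP (LK LD1_c5 LD2_c19 LD3_c3)))))))))))))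
theorem f31683 : Led Lsl_bt (LP (LK LD1_c0 LD2_c27 LD3_c25)) = (LP (LK LD1_c1 LD2_c0 LD3_c19)) :=
  Lre_b IH (LK LD1_c0 LD2_c27 LD3_c25) (LK LD1_c1 LD2_c0 LD3_c19) Lrfl Lrfl
theorem f253517 : Led Lsl_gf (LP (LK LD1_c0 LD2_c27 LD3_c29)) = (LP (LK LD1_c0 LD2_c26 LD3_c43)) :=
  Lgr Lrot143 (Lpr_dt (K10.f169334 IH) (Lpr_cf (K10.f186508 IH) (Lpr_df (K12.f194024 IH) (Lpe (K10.f166373 IH) (Lpe (K10.f166372 IH) (Lpr_gf (K9.f166367 IH) (Lpr_cf (K9.f71505 IH) (Lpr_gt (K10.f31442 IH) (Lpr_dt (K14.f253506 IH) (Lpn (LP (LK LD1_c0 LD2_c26 LD3_c43))))))))))))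
theorem f197024 : Led Lsl_gt (LP (LK LD1_c2 LD2_c5 LD3_c14)) = (LP (LK LD1_c0 LD2_c59 LD3_c41)) :=
  Lre_g IH (LK LD1_c2 LD2_c5 LD3_c14) (LK LD1_c0 LD2_c59 LD3_c41) Lrfl Lrfl
theorem f254274 : Led Lsl_bt (LP (LK LD1_c0 LD2_c59 LD3_c58)) = (LP (LK LD1_c2 LD2_c5 LD3_c14)) :=
  Lgr Lrot130 (Lpr_ct (K13.f167627 IH) (Lpr_gf (f253517 IH) (Lpe (K12.f199165 IH) (Lpr_bt (K14.f199158 IH) (Lpr_gf (K14.f254266 IH) (Lpe (K14.f252665 IH) (Lpr_ct (K14.f197027 IH) (Lpe (K14.f175058 IH) (Lpe (K10.f197002 IH) (Lpe (f197024 IH) (Lpn (LP (LK LD1_c2 LD2_c5 LD3_c14)))))))))))))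
theorem f259642 : Led Lsl_gt (LP (LK LD1_c4 LD2_c15 LD3_c9)) = (LP (LK LD1_c2 LD2_c5 LD3_c14)) :=
  Lgr Lrot164 (Lpr_bf (f259633 IH) (Lpr_ct (f229943 IH) (Lpe (K12.f169337 IH) (Lpe (K14.f169336 IH) (Lpe (K14.f31684 IH) (Lpe (f31683 IH) (Lpr_ct (K9.f31681 IH) (Lpe (K10.f6815 IH) (Lpe (K13.f167627 IH) (Lpr_bt (f254274 IH) (Lpn (LP (LK LD1_c2 LD2_c5 LD3_c14)))))))))))))
theorem f259638 : Led Lsl_dt (LP (LK LD1_c4 LD2_c15 LD3_c9)) = (LP (LK LD1_c2 LD2_c35 LD3_c17)) :=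
  Lgr Lrot79 (Lpr_bf (f259633 IH) (Lpe (K14.f44280 IH) (Lpr_bf (K14.f229996 IH) (Lpn (LP (LK LD1_c2 LD2_c35 LD3_c17))))))
theorem f188579 : Led Lsl_ct (LP (LK LD1_c2 LD2_c4 LD3_c23)) = (LP (LK LD1_c4 LD2_c13 LD3_c59)) :=
  Lre_c IH (LK LD1_c2 LD2_c4 LD3_c23) (LK LD1_c4 LD2_c13 LD3_c59) Lrfl Lrfl
theorem f241906 : Led Lsl_gf (LP (LK LD1_c2 LD2_c33 LD3_c12)) = (LP (LK LD1_c2 LD2_c7 LD3_c30)) :=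
  Lgr Lrot143 (Lpr_dt (K13.f241896 IH) (Lpe (K13.f184674 IH) (Lpe (K13.f184676 IH) (Lpr_gf (K13.f241279 IH) (Lpe (K11.f31054 IH) (Lpe (K9.f31053 IH) (Lpr_cf (K0.f31428 IH) (Lpe (K10.f187901 IH) (Lpr_dt (K11.f180205 IH) (Lpn (LP (LK LD1_c2 LD2_c7 LD3_c30))))))))))))
theorem f240947 : Led Lsl_dt (LP (LK LD1_c10 LD2_c4 LD3_c16)) = (LP (LK LD1_c5 LD2_c12 LD3_c43)) :=
  Lgr Lrot42 (Lpr_df (K13.f240938 IH) (Lpn (LP (LK LD1_c5 LD2_c12 LD3_c43))))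
theorem f241917 : Led Lsl_gt (LP (LK LD1_c5 LD2_c12 LD3_c43)) = (LP (LK LD1_c4 LD2_c20 LD3_c2)) :=
  Lgr Lrot9 (Lpe (f240947 IH) (Lpr_gt (K13.f231496 IH) (Lpr_ct (K13.f204951 IH) (Lpr_gt (K13.f197832 IH) (Lpr_ct (K13.f201378 IH) (Lpr_df (K13.f231486 IH) (Lpe (K13.f171660 IH) (Lpr_gf (f241906 IH) (Lpe (K11.f182038 IH) (Lpn (LP (LK LD1_c4 LD2_c20 LD3_c2))))))))))))
theorem f241920 : Led Lsl_ct (LP (LK LD1_c5 LD2_c12 LD3_c43)) = (LP (LK LD1_c2 LD2_c59 LD3_c45)) :=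
  Lgr Lrot8 (Lpr_gt (f241917 IH) (Lpe (K11.f201659 IH) (Lpr_gt (K11.f201634 IH) (Lpr_dt (K11.f31725 IH) (Lpe (K0.f31829 IH) (Lpe (K0.f31075 IH) (Lpr_gf (K10.f32029 IH) (Lpe (K13.f32031 IH) (Lpe (K13.f239487 IH) (Lpn (LP (LK LD1_c2 LD2_c59 LD3_c45))))))))))))
theorem f255054 : Led Lsl_gt (LP (LK LD1_c1 LD2_c58 LD3_c0)) = (LP (LK LD1_c2 LD2_c24 LD3_c10)) :=
  Lgr Lrot9 (Lpe (K13.f241896 IH) (Lpr_gt (K13.f171658 IH) (Lpr_ct (K11.f171678 IH) (Lpr_gt (K13.f191120 IH) (Lpr_ct (f241920 IH) (Lpr_df (K13.f239516 IH) (Lpe (K13.f166423 IH) (Lpr_gf (K14.f255041 IH) (Lpe (K9.f170673 IH) (Lpn (LP (LK LD1_c2 LD2_c24 LD3_c10))))))))))))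
theorem f184668 : Led Lsl_et (LP (LK LD1_c1 LD2_c58 LD3_c0)) = (LP (LK LD1_c0 LD2_c55 LD3_c53)) :=
  Lre_e IH (LK LD1_c1 LD2_c58 LD3_c0) (LK LD1_c0 LD2_c55 LD3_c53) Lrfl Lrfl
theorem f184669 : Led Lsl_bt (LP (LK LD1_c2 LD2_c36 LD3_c9)) = (LP (LK LD1_c1 LD2_c58 LD3_c0)) :=
  Lgr Lrot119 (Lpe (f184667 IH) (Lpr_bf (K10.f184658 IH) (Lpe (f184668 IH) (Lpn (LP (LK LD1_c1 LD2_c58 LD3_c0))))))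
theorem f190308 : Led Lsl_et (LP (LK LD1_c1 LD2_c12 LD3_c51)) = (LP (LK LD1_c2 LD2_c31 LD3_c34)) :=
  Lre_e IH (LK LD1_c1 LD2_c12 LD3_c51) (LK LD1_c2 LD2_c31 LD3_c34) Lrfl Lrfl
theorem f190309 : Led Lsl_ct (LP (LK LD1_c2 LD2_c31 LD3_c34)) = (LP (LK LD1_c2 LD2_c36 LD3_c9)) :=
  Lgr Lrot15 (Lpe (f190308 IH) (Lpr_cf (K10.f190282 IH) (Lpe (f46358 IH) (Lpn (LP (LK LD1_c2 LD2_c36 LD3_c9))))))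
theorem f190331 : Led Lsl_cf (LP (LK LD1_c2 LD2_c31 LD3_c34)) = (LP (LK LD1_c2 LD2_c36 LD3_c9)) :=
  Lgr Lrot11 (Lpr_ct (f190309 IH) (Lpn (LP (LK LD1_c2 LD2_c36 LD3_c9))))
theorem f188526 : Led Lsl_bt (LP (LK LD1_c2 LD2_c25 LD3_c9)) = (LP (LK LD1_c2 LD2_c4 LD3_c23)) :=
  Lgr Lrot95 (Lpr_df (K10.f187301 IH) (Lpe (K10.f181247 IH) (Lpr_df (K10.f188524 IH) (Lpn (LP (LK LD1_c2 LD2_c4 LD3_c23))))))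
theorem f255058 : Led Lsl_gt (LP (LK LD1_c4 LD2_c12 LD3_c8)) = (LP (LK LD1_c2 LD2_c4 LD3_c23)) :=
  Lgr Lrot164 (Lpe (f199572 IH) (Lpr_ct (K13.f166426 IH) (Lpr_gf (K14.f255041 IH) (Lpe (K9.f170673 IH) (Lpe (f255054 IH) (Lpe (f184669 IH) (Lpe (f190331 IH) (Lpe (f254230 IH) (Lpr_cf (K10.f167802 IH) (Lpr_bt (f188526 IH) (Lpn (LP (LK LD1_c2 LD2_c4 LD3_c23)))))))))))))
theorem f259646 : Led Lsl_cf (LP (LK LD1_c4 LD2_c12 LD3_c8)) = (LP (LK LD1_c2 LD2_c5 LD3_c14)) :=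
  Lgr Lrot169 (Lpr_gt (f255058 IH) (Lpr_ct (f188579 IH) (Lpe (K10.f188720 IH) (Lpe (K10.f184180 IH) (Lpe (K10.f32814 IH) (Lpe (K9.f32813 IH) (Lpe (K14.f32107 IH) (Lpe (f259638 IH) (Lpr_gt (f259642 IH) (Lpn (LP (LK LD1_c2 LD2_c5 LD3_c14))))))))))))
theorem f259650 : Led Lsl_df (LP (LK LD1_c4 LD2_c15 LD3_c9)) = (LP (LK LD1_c2 LD2_c35 LD3_c17)) :=
  Lgr Lrot155 (Lpr_gt (f259642 IH) (Lpe (f259646 IH) (Lpr_gt (f255058 IH) (Lpr_ct (f188579 IH) (Lpe (K10.f188723 IH) (Lpe (K10.f184180 IH) (Lpe (K10.f32814 IH) (Lpe (K9.f32813 IH) (Lpe (K14.f32107 IH) (Lpn (LP (LK LD1_c2 LD2_c35 LD3_c17))))))))))))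
theorem f48326 : Led Lsl_et (LP (LK LD1_c1 LD2_c14 LD3_c13)) = (LP (LK LD1_c1 LD2_c14 LD3_c40)) :=
  Lgr Lrot123 (Lpe (K9.f32440 IH) (Lpr_ef (K10.f48324 IH) (Lpe (K9.f32438 IH) (Lpn (LP (LK LD1_c1 LD2_c14 LD3_c40))))))
theorem f49223 : Led Lsl_bt (LP (LK LD1_c2 LD2_c1 LD3_c16)) = (LP (LK LD1_c0 LD2_c57 LD3_c45)) :=
  Lre_b IH (LK LD1_c2 LD2_c1 LD3_c16) (LK LD1_c0 LD2_c57 LD3_c45) Lrfl Lrfl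
theorem f49225 : Led Lsl_et (LP (LK LD1_c0 LD2_c57 LD3_c45)) = (LP (LK LD1_c1 LD2_c14 LD3_c36)) :=
  Lgr Lrot74 (Lpe (f49223 IH) (Lpr_ef (K9.f49218 IH) (Lpe (K9.f49224 IH) (Lpn (LP (LK LD1_c1 LD2_c14 LD3_c36))))))
theorem f185036 : Led Lsl_et (LP (LK LD1_c2 LD2_c11 LD3_c49)) = (LP (LK LD1_c1 LD2_c2 LD3_c54)) :=
  Lre_e IH (LK LD1_c2 LD2_c11 LD3_c49) (LK LD1_c1 LD2_c2 LD3_c54) Lrfl Lrfl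
theorem f185020 : Led Lsl_dt (LP (LK LD1_c2 LD2_c11 LD3_c49)) = (LP (LK LD1_c4 LD2_c29 LD3_c31)) :=
  Lre_d IH (LK LD1_c2 LD2_c11 LD3_c49) (LK LD1_c4 LD2_c29 LD3_c31) Lrfl Lrfl
theorem f259202 : Led Lsl_gf (LP (LK LD1_c5 LD2_c15 LD3_c3)) = (LP (LK LD1_c4 LD2_c29 LD3_c31)) :=
  Lgr Lrot145 (Lpe (f252568 IH) (Lpr_et (K14.f252577 IH) (Lpr_gt (f259190 IH) (Lpr_dt (K10.f47752 IH) (Lpr_gt (K9.f47744 IH) (Lpe (K9.f47733 IH) (Lpr_et (f49225 IH) (Lpe (K12.f218726 IH) (Lpe (f185036 IH) (Lpr_dt (f185020 IH) (Lpn (LP (LK LD1_c4 LD2_c29 LD3_c31)))))))))))))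
theorem f184994 : Led Lsl_bt (LP (LK LD1_c4 LD2_c29 LD3_c31)) = (LP (LK LD1_c2 LD2_c11 LD3_c55)) :=
  Lre_b IH (LK LD1_c4 LD2_c29 LD3_c31) (LK LD1_c2 LD2_c11 LD3_c55) Lrfl Lrfl
theorem f184996 : Led Lsl_ef (LP (LK LD1_c4 LD2_c29 LD3_c31)) = (LP (LK LD1_c2 LD2_c32 LD3_c57)) :=
  Lgr Lrot29 (Lpr_bt (f184994 IH) (Lpr_et (K10.f184992 IH) (Lpr_bt (K14.f184995 IH) (Lpn (LP (LK LD1_c2 LD2_c32 LD3_c57))))))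
theorem f259654 : Led Lsl_dt (LP (LK LD1_c2 LD2_c32 LD3_c57)) = (LP (LK LD1_c2 LD2_c5 LD3_c14)) :=
  Lgr Lrot56 (Lpe (f184996 IH) (Lpe (f259202 IH) (Lpe (K14.f48937 IH) (Lpr_dt (f45258 IH) (Lpr_gt (K9.f32434 IH) (Lpe (K1.f32847 IH) (Lpr_et (f48326 IH) (Lpr_gt (K10.f32454 IH) (Lpe (f259650 IH) (Lpr_gt (f259642 IH) (Lpn (LP (LK LD1_c2 LD2_c5 LD3_c14)))))))))))))
theorem f48237 : Led Lsl_gt (LP (LK LD1_c2 LD2_c35 LD3_c32)) = (LP (LK LD1_c5 LD2_c17 LD3_c31)) :=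
  Lre_g IH (LK LD1_c2 LD2_c35 LD3_c32) (LK LD1_c5 LD2_c17 LD3_c31) Lrfl Lrfl
theorem f170518 : Led Lsl_gt (LP (LK LD1_c2 LD2_c28 LD3_c13)) = (LP (LK LD1_c5 LD2_c0 LD3_c58)) :=
  Lre_g IH (LK LD1_c2 LD2_c28 LD3_c13) (LK LD1_c5 LD2_c0 LD3_c58) Lrfl Lrfl
theorem f252582 : Led Lsl_df (LP (LK LD1_c2 LD2_c40 LD3_c24)) = (LP (LK LD1_c5 LD2_c0 LD3_c58)) :=
  Lgr Lrot84 (Lpe (K14.f175059 IH) (Lpe (K14.f191318 IH) (Lpr_gf (K14.f252580 IH) (Lpe (K14.f182084 IH) (Lpe (K14.f192535 IH) (Lpe (K9.f49118 IH) (Lpe (K9.f184110 IH) (Lpr_dt (K10.f165865 IH) (Lpr_gt (f170518 IH) (Lpn (LP (LK LD1_c5 LD2_c0 LD3_c58))))))))))))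
theorem f252629 : Led Lsl_dt (LP (LK LD1_c2 LD2_c40 LD3_c24)) = (LP (LK LD1_c5 LD2_c0 LD3_c58)) :=
  Lgr Lrot42 (Lpr_df (f252582 IH) (Lpn (LP (LK LD1_c5 LD2_c0 LD3_c58))))
theorem f259666 : Led Lsl_ct (LP (LK LD1_c5 LD2_c17 LD3_c31)) = (LP (LK LD1_c5 LD2_c0 LD3_c58)) :=
  Lgr Lrot151 (Lpe (f48237 IH) (Lpe (K14.f32253 IH) (Lpr_gf (K14.f250064 IH) (Lpr_dt (f259654 IH) (Lpr_gt (f197024 IH) (Lpr_ct (K10.f197002 IH) (Lpr_gt (K14.f175058 IH) (Lpr_ct (K14.f175059 IH) (Lpr_dt (f252629 IH) (Lpn (LP (LK LD1_c5 LD2_c0 LD3_c58))))))))))))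
theorem f165901 : Led Lsl_dt (LP (LK LD1_c2 LD2_c35 LD3_c48)) = (LP (LK LD1_c5 LD2_c18 LD3_c16)) :=
  Lre_d IH (LK LD1_c2 LD2_c35 LD3_c48) (LK LD1_c5 LD2_c18 LD3_c16) Lrfl Lrfl
theorem f51337 : Led Lsl_dt (LP (LK LD1_c2 LD2_c1 LD3_c18)) = (LP (LK LD1_c4 LD2_c7 LD3_c53)) :=
  Lre_d IH (LK LD1_c2 LD2_c1 LD3_c18) (LK LD1_c4 LD2_c7 LD3_c53) Lrfl Lrfl
theorem f51339 : Led Lsl_ct (LP (LK LD1_c8 LD2_c15 LD3_c47)) = (LP (LK LD1_c4 LD2_c7 LD3_c53)) :=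
  Lre_c IH (LK LD1_c8 LD2_c15 LD3_c47) (LK LD1_c4 LD2_c7 LD3_c53) Lrfl Lrfl
theorem f184211 : Led Lsl_dt (LP (LK LD1_c10 LD2_c23 LD3_c57)) = (LP (LK LD1_c8 LD2_c15 LD3_c47)) :=
  Lgr Lrot105 (Lpe (K10.f71630 IH) (Lpe (f165901 IH) (Lpr_gf (K9.f165894 IH) (Lpe (K9.f165377 IH) (Lpr_gt (K10.f184108 IH) (Lpr_dt (K8.f49560 IH) (Lpe (K10.f51335 IH) (Lpr_dt (f51337 IH) (Lpe (f51339 IH) (Lpn (LP (LK LD1_c8 LD2_c15 LD3_c47))))))))))))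
theorem f51338 : Led Lsl_ct (LP (LK LD1_c4 LD2_c7 LD3_c53)) = (LP (LK LD1_c8 LD2_c15 LD3_c47)) :=
  Lre_c IH (LK LD1_c4 LD2_c7 LD3_c53) (LK LD1_c8 LD2_c15 LD3_c47) Lrfl Lrfl
theorem f259673 : Led Lsl_gf (LP (LK LD1_c4 LD2_c7 LD3_c53)) = (LP (LK LD1_c5 LD2_c0 LD3_c58)) :=
  Lgr Lrot104 (Lpr_ct (f51338 IH) (Lpe (f184211 IH) (Lpr_cf (K10.f184155 IH) (Lpe (K10.f49347 IH) (Lpe (K10.f49687 IH) (Lpe (K10.f53547 IH) (Lpe (K10.f48945 IH) (Lpr_gt (f48237 IH) (Lpr_ct (f259666 IH) (Lpn (LP (LK LD1_c5 LD2_c0 LD3_c58))))))))))))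
theorem f189760 : Led Lsl_et (LP (LK LD1_c2 LD2_c1 LD3_c18)) = (LP (LK LD1_c4 LD2_c7 LD3_c54)) :=
  Lre_e IH (LK LD1_c2 LD2_c1 LD3_c18) (LK LD1_c4 LD2_c7 LD3_c54) Lrfl Lrfl
theorem f189767 : Led Lsl_gt (LP (LK LD1_c4 LD2_c7 LD3_c54)) = (LP (LK LD1_c8 LD2_c15 LD3_c49)) :=
  Lre_g IH (LK LD1_c4 LD2_c7 LD3_c54) (LK LD1_c8 LD2_c15 LD3_c49) Lrfl Lrfl
theorem f252566 : Led Lsl_et (LP (LK LD1_c2 LD2_c40 LD3_c24)) = (LP (LK LD1_c1 LD2_c59 LD3_c48)) :=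
  Lgr Lrot158 (Lpe (K14.f175059 IH) (Lpr_ef (K14.f252561 IH) (Lpe (K10.f192366 IH) (Lpn (LP (LK LD1_c1 LD2_c59 LD3_c48))))))
theorem f216138 : Led Lsl_gf (LP (LK LD1_c1 LD2_c59 LD3_c48)) = (LP (LK LD1_c2 LD2_c4 LD3_c20)) :=
  Lgr Lrot147 (Lpr_ct (K10.f192366 IH) (Lpr_gt (K9.f32434 IH) (Lpr_ct (K1.f45233 IH) (Lpe (K14.f45101 IH) (Lpe (K10.f45256 IH) (Lpe (K13.f45257 IH) (Lpe (K13.f194224 IH) (Lpr_gf (K13.f216134 IH) (Lpe (K11.f27415 IH) (Lpn (LP (LK LD1_c2 LD2_c4 LD3_c20))))))))))))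
theorem f259683 : Led Lsl_dt (LP (LK LD1_c8 LD2_c15 LD3_c49)) = (LP (LK LD1_c8 LD2_c26 LD3_c8)) :=
  Lgr Lrot171 (Lpe (f189767 IH) (Lpe (f189760 IH) (Lpr_dt (f51337 IH) (Lpr_gf (f259673 IH) (Lpe (f252629 IH) (Lpr_et (f252566 IH) (Lpr_gf (f216138 IH) (Lpe (K11.f27407 IH) (Lpr_dt (K11.f27415 IH) (Lpr_gf (K11.f189714 IH) (Lpn (LP (LK LD1_c8 LD2_c26 LD3_c8)))))))))))))
theorem f173253 : Led Lsl_gt (LP (LK LD1_c4 LD2_c22 LD3_c20)) = (LP (LK LD1_c2 LD2_c8 LD3_c36)) :=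
  Lre_g IH (LK LD1_c4 LD2_c22 LD3_c20) (LK LD1_c2 LD2_c8 LD3_c36) Lrfl Lrfl
theorem f232142 : Led Lsl_gt (LP (LK LD1_c4 LD2_c8 LD3_c36)) = (LP (LK LD1_c2 LD2_c1 LD3_c40)) :=
  Lre_g IH (LK LD1_c4 LD2_c8 LD3_c36) (LK LD1_c2 LD2_c1 LD3_c40) Lrfl Lrfl
theorem f232145 : Led Lsl_cf (LP (LK LD1_c4 LD2_c22 LD3_c20)) = (LP (LK LD1_c4 LD2_c8 LD3_c36)) :=
  Lgr Lrot166 (Lpr_gt (f173253 IH) (Lpr_dt (f193186 IH) (Lpe (f212508 IH) (Lpr_dt (K8.f44967 IH) (Lpr_ct (K9.f49462 IH) (Lpe (K11.f49525 IH) (Lpe (K13.f216136 IH) (Lpr_df (K13.f232136 IH) (Lpe (f232142 IH) (Lpn (LP (LK LD1_c4 LD2_c8 LD3_c36))))))))))))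
theorem f259689 : Led Lsl_gt (LP (LK LD1_c8 LD2_c15 LD3_c49)) = (LP (LK LD1_c4 LD2_c8 LD3_c36)) :=
  Lgr Lrot146 (Lpr_dt (f259683 IH) (Lpe (K11.f189714 IH) (Lpe (K11.f183773 IH) (Lpr_gt (K11.f183496 IH) (Lpr_ct (K13.f55920 IH) (Lpr_dt (K14.f183337 IH) (Lpr_cf (K12.f173246 IH) (Lpe (f173253 IH) (Lpr_cf (f232145 IH) (Lpn (LP (LK LD1_c4 LD2_c8 LD3_c36))))))))))))
theorem f252977 : Led Lsl_ct (LP (LK LD1_c9 LD2_c54 LD3_c57)) = (LP (LK LD1_c5 LD2_c2 LD3_c6)) :=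
  Lre_c IH (LK LD1_c9 LD2_c54 LD3_c57) (LK LD1_c5 LD2_c2 LD3_c6) Lrfl Lrfl
theorem f252557 : Led Lsl_gf (LP (LK LD1_c9 LD2_c54 LD3_c57)) = (LP (LK LD1_c5 LD2_c15 LD3_c2)) :=
  Lgr Lrot129 (Lpe (f212232 IH) (Lpr_bt (f212231 IH) (Lpr_gt (f166628 IH) (Lpe (K14.f165628 IH) (Lpr_ct (K8.f3785 IH) (Lpr_gt (K12.f165626 IH) (Lpr_cf (K12.f212104 IH) (Lpr_bt (K12.f185622 IH) (Lpr_gt (K14.f252553 IH) (Lpr_ct (K14.f32895 IH) (Lpn (LP (LK LD1_c5 LD2_c15 LD3_c2)))))))))))))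
theorem f49483 : Led Lsl_dt (LP (LK LD1_c8 LD2_c26 LD3_c20)) = (LP (LK LD1_c4 LD2_c13 LD3_c47)) :=
  Lre_d IH (LK LD1_c8 LD2_c26 LD3_c20) (LK LD1_c4 LD2_c13 LD3_c47) Lrfl Lrfl
theorem f49523 : Led Lsl_at (LP (LK LD1_c8 LD2_c26 LD3_c13)) = (LP (LK LD1_c8 LD2_c26 LD3_c20)) :=
  Lgr Lrot51 (Lpe (K14.f45023 IH) (Lpr_af (K12.f49478 IH) (Lpe (f49483 IH) (Lpn (LP (LK LD1_c8 LD2_c26 LD3_c20))))))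
theorem f49526 : Led Lsl_af (LP (LK LD1_c8 LD2_c26 LD3_c13)) = (LP (LK LD1_c8 LD2_c26 LD3_c20)) :=
  Lgr Lrot0 (Lpr_at (f49523 IH) (Lpn (LP (LK LD1_c8 LD2_c26 LD3_c20))))
theorem f252513 : Led Lsl_ft (LP (LK LD1_c15 LD2_c36 LD3_c16)) = (LP (LK LD1_c8 LD2_c26 LD3_c20)) :=
  Lgr Lrot142 (Lpr_dt (K13.f231967 IH) (Lpr_ct (K14.f252506 IH) (Lpr_dt (K9.f49448 IH) (Lpe (K10.f50905 IH) (Lpr_dt (K11.f27415 IH) (Lpe (K11.f183773 IH) (Lpe (K13.f231691 IH) (Lpr_ct (K14.f231877 IH) (Lpr_af (f49526 IH) (Lpn (LP (LK LD1_c8 LD2_c26 LD3_c20))))))))))))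
theorem f252538 : Led Lsl_gf (LP (LK LD1_c8 LD2_c26 LD3_c13)) = (LP (LK LD1_c10 LD2_c19 LD3_c33)) :=
  Lgr Lrot76 (Lpr_af (f49526 IH) (Lpe (f252513 IH) (Lpr_gt (K14.f252534 IH) (Lpn (LP (LK LD1_c10 LD2_c19 LD3_c33))))))
theorem f257197 : Led Lsl_cf (LP (LK LD1_c11 LD2_c55 LD3_c6)) = (LP (LK LD1_c8 LD2_c26 LD3_c13)) :=
  Lgr Lrot169 (Lpr_gt (K13.f179043 IH) (Lpr_ct (K13.f231879 IH) (Lpe (f212527 IH) (Lpe (f50856 IH) (Lpr_gf (f257090 IH) (Lpe (f252977 IH) (Lpr_gf (f252557 IH) (Lpe (K14.f192463 IH) (Lpe (f252538 IH) (Lpn (LP (LK LD1_c8 LD2_c26 LD3_c13))))))))))))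
theorem f231872 : Led Lsl_dt (LP (LK LD1_c11 LD2_c55 LD3_c6)) = (LP (LK LD1_c6 LD2_c6 LD3_c17)) :=
  Lgr Lrot42 (Lpr_df (K13.f231691 IH) (Lpn (LP (LK LD1_c6 LD2_c6 LD3_c17))))
theorem f54488 : Led Lsl_gt (LP (LK LD1_c2 LD2_c4 LD3_c61)) = (LP (LK LD1_c4 LD2_c15 LD3_c13)) :=
  Lre_g IH (LK LD1_c2 LD2_c4 LD3_c61) (LK LD1_c4 LD2_c15 LD3_c13) Lrfl Lrfl
theorem f257205 : Led Lsl_cf (LP (LK LD1_c8 LD2_c26 LD3_c8)) = (LP (LK LD1_c4 LD2_c15 LD3_c13)) :=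
  Lgr Lrot169 (Lpe (K11.f189714 IH) (Lpe (K11.f183773 IH) (Lpe (f231872 IH) (Lpr_cf (f257197 IH) (Lpr_gf (f252538 IH) (Lpe (K14.f252543 IH) (Lpe (K14.f45364 IH) (Lpe (K1.f45160 IH) (Lpr_gt (f54488 IH) (Lpn (LP (LK LD1_c4 LD2_c15 LD3_c13))))))))))))
theorem f257211 : Led Lsl_ct (LP (LK LD1_c8 LD2_c26 LD3_c8)) = (LP (LK LD1_c4 LD2_c15 LD3_c13)) :=
  Lgr Lrot59 (Lpr_cf (f257205 IH) (Lpn (LP (LK LD1_c4 LD2_c15 LD3_c13))))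
theorem f54491 : Led Lsl_dt (LP (LK LD1_c4 LD2_c15 LD3_c13)) = (LP (LK LD1_c8 LD2_c29 LD3_c20)) :=
  Lre_d IH (LK LD1_c4 LD2_c15 LD3_c13) (LK LD1_c8 LD2_c29 LD3_c20) Lrfl Lrfl
theorem f231998 : Led Lsl_dt (LP (LK LD1_c4 LD2_c8 LD3_c51)) = (LP (LK LD1_c8 LD2_c17 LD3_c53)) :=
  Lre_d IH (LK LD1_c4 LD2_c8 LD3_c51) (LK LD1_c8 LD2_c17 LD3_c53) Lrfl Lrfl
theorem f257110 : Led Lsl_cf (LP (LK LD1_c8 LD2_c17 LD3_c53)) = (LP (LK LD1_c8 LD2_c29 LD3_c20)) :=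
  Lgr Lrot14 (Lpe (f231998 IH) (Lpe (K12.f229039 IH) (Lpe (K13.f231967 IH) (Lpe (f257095 IH) (Lpr_ct (f257101 IH) (Lpr_gt (f45366 IH) (Lpr_dt (K10.f45308 IH) (Lpr_gt (f54488 IH) (Lpr_dt (f54491 IH) (Lpn (LP (LK LD1_c8 LD2_c29 LD3_c20))))))))))))
theorem f229037 : Led Lsl_dt (LP (LK LD1_c8 LD2_c17 LD3_c53)) = (LP (LK LD1_c4 LD2_c8 LD3_c51)) :=
  Lre_d IH (LK LD1_c8 LD2_c17 LD3_c53) (LK LD1_c4 LD2_c8 LD3_c51) Lrfl Lrfl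
theorem f167348 : Led Lsl_ct (LP (LK LD1_c0 LD2_c57 LD3_c54)) = (LP (LK LD1_c2 LD2_c1 LD3_c40)) :=
  Lre_c IH (LK LD1_c0 LD2_c57 LD3_c54) (LK LD1_c2 LD2_c1 LD3_c40) Lrfl Lrfl
theorem f45273 : Led Lsl_dt (LP (LK LD1_c4 LD2_c15 LD3_c14)) = (LP (LK LD1_c8 LD2_c29 LD3_c23)) :=
  Lre_d IH (LK LD1_c4 LD2_c15 LD3_c14) (LK LD1_c8 LD2_c29 LD3_c23) Lrfl Lrfl
theorem f214836 : Led Lsl_dt (LP (LK LD1_c5 LD2_c15 LD3_c4)) = (LP (LK LD1_c10 LD2_c19 LD3_c36)) :=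
  Lre_d IH (LK LD1_c5 LD2_c15 LD3_c4) (LK LD1_c10 LD2_c19 LD3_c36) Lrfl Lrfl
theorem f252545 : Led Lsl_ct (LP (LK LD1_c8 LD2_c29 LD3_c23)) = (LP (LK LD1_c10 LD2_c19 LD3_c36)) :=
  Lgr Lrot7 (Lpe (f45273 IH) (Lpe (K13.f45271 IH) (Lpe (K1.f45274 IH) (Lpe (K14.f45643 IH) (Lpr_cf (K14.f252540 IH) (Lpe (f252538 IH) (Lpr_dt (K14.f45033 IH) (Lpe (f214834 IH) (Lpr_dt (f214836 IH) (Lpn (LP (LK LD1_c10 LD2_c19 LD3_c36))))))))))))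
theorem f214833 : Led Lsl_dt (LP (LK LD1_c10 LD2_c19 LD3_c36)) = (LP (LK LD1_c5 LD2_c15 LD3_c4)) :=
  Lre_d IH (LK LD1_c10 LD2_c19 LD3_c36) (LK LD1_c5 LD2_c15 LD3_c4) Lrfl Lrfl
theorem f259208 : Led Lsl_dt (LP (LK LD1_c2 LD2_c34 LD3_c24)) = (LP (LK LD1_c4 LD2_c7 LD3_c60)) :=
  Lgr Lrot42 (Lpr_df (f259206 IH) (Lpn (LP (LK LD1_c4 LD2_c7 LD3_c60))))
theorem f259685 : Led Lsl_cf (LP (LK LD1_c8 LD2_c15 LD3_c49)) = (LP (LK LD1_c4 LD2_c7 LD3_c60)) :=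
  Lgr Lrot55 (Lpr_dt (f259683 IH) (Lpr_ct (f257211 IH) (Lpr_dt (f54491 IH) (Lpe (f257110 IH) (Lpr_dt (f229037 IH) (Lpr_ct (K14.f229035 IH) (Lpr_dt (K14.f228968 IH) (Lpr_ct (f167348 IH) (Lpe (K13.f232136 IH) (Lpr_ct (K13.f194224 IH) (Lpr_dt (f45273 IH) (Lpr_ct (f252545 IH) (Lpr_dt (f214833 IH) (Lpr_ct (K14.f214828 IH) (Lpr_dt (f259208 IH) (Lpn (LP (LK LD1_c4 LD2_c7 LD3_c60))))))))))))))))))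
theorem f189784 : Led Lsl_bt (LP (LK LD1_c2 LD2_c4 LD3_c59)) = (LP (LK LD1_c2 LD2_c1 LD3_c22)) :=
  Lgr Lrot127 (Lpr_bf (K10.f189782 IH) (Lpn (LP (LK LD1_c2 LD2_c1 LD3_c22))))
theorem f232143 : Led Lsl_ct (LP (LK LD1_c4 LD2_c22 LD3_c20)) = (LP (LK LD1_c4 LD2_c8 LD3_c36)) :=
  Lgr Lrot8 (Lpr_gt (f173253 IH) (Lpr_dt (f193186 IH) (Lpe (f212508 IH) (Lpr_dt (K8.f44967 IH) (Lpe (K9.f49430 IH) (Lpe (K11.f49525 IH) (Lpe (K13.f216136 IH) (Lpr_df (K13.f232136 IH) (Lpe (f232142 IH) (Lpn (LP (LK LD1_c4 LD2_c8 LD3_c36))))))))))))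
theorem f182510 : Led Lsl_bt (LP (LK LD1_c1 LD2_c16 LD3_c32)) = (LP (LK LD1_c0 LD2_c35 LD3_c27)) :=
  Lre_b IH (LK LD1_c1 LD2_c16 LD3_c32) (LK LD1_c0 LD2_c35 LD3_c27) Lrfl Lrfl
theorem f255015 : Led Lsl_gf (LP (LK LD1_c0 LD2_c31 LD3_c58)) = (LP (LK LD1_c0 LD2_c31 LD3_c40)) :=
  Lgr Lrot144 (Lpe (K9.f177152 IH) (Lpr_gt (K9.f165497 IH) (Lpr_dt (K9.f20471 IH) (Lpe (K10.f165496 IH) (Lpe (K10.f184990 IH) (Lpe (K10.f184991 IH) (Lpe (K14.f185010 IH) (Lpr_gf (K14.f255013 IH) (Lpr_cf (K9.f170667 IH) (Lpn (LP (LK LD1_c0 LD2_c31 LD3_c40))))))))))))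
theorem f173225 : Led Lsl_bt (LP (LK LD1_c2 LD2_c8 LD3_c36)) = (LP (LK LD1_c1 LD2_c1 LD3_c28)) :=
  Lre_b IH (LK LD1_c2 LD2_c8 LD3_c36) (LK LD1_c1 LD2_c1 LD3_c28) Lrfl Lrfl
theorem f173195 : Led Lsl_gt (LP (LK LD1_c1 LD2_c2 LD3_c43)) = (LP (LK LD1_c2 LD2_c11 LD3_c28)) :=
  Lre_g IH (LK LD1_c1 LD2_c2 LD3_c43) (LK LD1_c2 LD2_c11 LD3_c28) Lrfl Lrfl
theorem f255039 : Led Lsl_ct (LP (LK LD1_c1 LD2_c16 LD3_c32)) = (LP (LK LD1_c2 LD2_c11 LD3_c28)) :=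
  Lgr Lrot10 (Lpr_bt (f182510 IH) (Lpr_gt (K14.f255033 IH) (Lpr_ct (K9.f170655 IH) (Lpe (f255015 IH) (Lpr_cf (K9.f166694 IH) (Lpe (K13.f240302 IH) (Lpe (K12.f193261 IH) (Lpe (f173225 IH) (Lpe (K12.f173246 IH) (Lpr_gt (f173195 IH) (Lpn (LP (LK LD1_c2 LD2_c11 LD3_c28)))))))))))))
theorem f170661 : Led Lsl_bt (LP (LK LD1_c2 LD2_c2 LD3_c24)) = (LP (LK LD1_c0 LD2_c58 LD3_c10)) :=
  Lre_b IH (LK LD1_c2 LD2_c2 LD3_c24) (LK LD1_c0 LD2_c58 LD3_c10) Lrfl Lrfl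
theorem f231302 : Led Lsl_ct (LP (LK LD1_c7 LD2_c57 LD3_c53)) = (LP (LK LD1_c4 LD2_c27 LD3_c44)) :=
  Lgr Lrot8 (Lpr_gt (K14.f188588 IH) (Lpr_dt (K12.f190811 IH) (Lpr_gt (K10.f44450 IH) (Lpr_dt (K1.f44442 IH) (Lpe (K9.f50749 IH) (Lpe (K9.f49216 IH) (Lpe (K12.f47813 IH) (Lpr_df (K12.f231248 IH) (Lpe (K14.f231301 IH) (Lpn (LP (LK LD1_c4 LD2_c27 LD3_c44))))))))))))
theorem f255043 : Led Lsl_bf (LP (LK LD1_c4 LD2_c22 LD3_c20)) = (LP (LK LD1_c7 LD2_c57 LD3_c53)) :=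
  Lgr Lrot165 (Lpr_gt (f173253 IH) (Lpe (K12.f173246 IH) (Lpr_gt (f173195 IH) (Lpe (f255039 IH) (Lpr_bt (f182510 IH) (Lpr_gt (K14.f255033 IH) (Lpe (f170661 IH) (Lpr_ct (K9.f170671 IH) (Lpr_gt (K14.f247540 IH) (Lpe (f231302 IH) (Lpn (LP (LK LD1_c7 LD2_c57 LD3_c53)))))))))))))
theorem f255045 : Led Lsl_bt (LP (LK LD1_c4 LD2_c22 LD3_c20)) = (LP (LK LD1_c7 LD2_c57 LD3_c53)) :=
  Lgr Lrot127 (Lpr_bf (f255043 IH) (Lpn (LP (LK LD1_c7 LD2_c57 LD3_c53))))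
theorem f259697 : Led Lsl_gf (LP (LK LD1_c4 LD2_c13 LD3_c45)) = (LP (LK LD1_c2 LD2_c4 LD3_c23)) :=
  Lgr Lrot126 (Lpr_cf (K10.f49191 IH) (Lpr_bt (f189784 IH) (Lpr_gt (f47760 IH) (Lpe (f259685 IH) (Lpr_gt (f259689 IH) (Lpe (f232143 IH) (Lpr_bt (f255045 IH) (Lpr_gt (K14.f188588 IH) (Lpr_bf (K10.f188580 IH) (Lpr_ct (K10.f188528 IH) (Lpn (LP (LK LD1_c2 LD2_c4 LD3_c23)))))))))))))
theorem f49188 : Led Lsl_ct (LP (LK LD1_c4 LD2_c13 LD3_c45)) = (LP (LK LD1_c2 LD2_c4 LD3_c59)) :=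
  Lgr Lrot7 (Lpr_df (K10.f49163 IH) (Lpe (K10.f48235 IH) (Lpe (K10.f32087 IH) (Lpe (K10.f32086 IH) (Lpe (K10.f32247 IH) (Lpr_gt (K10.f32251 IH) (Lpr_dt (K10.f32252 IH) (Lpr_gt (K10.f48192 IH) (Lpe (K10.f48197 IH) (Lpn (LP (LK LD1_c2 LD2_c4 LD3_c59))))))))))))
theorem f219194 : Led Lsl_bt (LP (LK LD1_c2 LD2_c3 LD3_c28)) = (LP (LK LD1_c4 LD2_c12 LD3_c33)) :=
  Lre_b IH (LK LD1_c2 LD2_c3 LD3_c28) (LK LD1_c4 LD2_c12 LD3_c33) Lrfl Lrfl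
theorem f233849 : Led Lsl_ef (LP (LK LD1_c4 LD2_c9 LD3_c24)) = (LP (LK LD1_c4 LD2_c12 LD3_c33)) :=
  Lgr Lrot29 (Lpr_bt (K13.f233845 IH) (Lpr_et (K13.f166896 IH) (Lpr_bt (f219194 IH) (Lpn (LP (LK LD1_c4 LD2_c12 LD3_c33))))))
theorem f233851 : Led Lsl_et (LP (LK LD1_c4 LD2_c9 LD3_c24)) = (LP (LK LD1_c4 LD2_c12 LD3_c33)) :=
  Lgr Lrot87 (Lpr_ef (f233849 IH) (Lpn (LP (LK LD1_c4 LD2_c12 LD3_c33))))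
theorem f190830 : Led Lsl_gf (LP (LK LD1_c4 LD2_c9 LD3_c5)) = (LP (LK LD1_c4 LD2_c13 LD3_c58)) :=
  Lgr Lrot134 (Lpe (K14.f190829 IH) (Lpr_et (K14.f190828 IH) (Lpr_gt (K12.f190817 IH) (Lpe (K9.f49151 IH) (Lpe (K8.f49143 IH) (Lpr_gt (K1.f28503 IH) (Lpe (K1.f44920 IH) (Lpr_et (K12.f33506 IH) (Lpr_gt (K12.f188729 IH) (Lpr_dt (K12.f188589 IH) (Lpn (LP (LK LD1_c4 LD2_c13 LD3_c58)))))))))))))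
theorem f233853 : Led Lsl_gf (LP (LK LD1_c4 LD2_c13 LD3_c59)) = (LP (LK LD1_c4 LD2_c12 LD3_c33)) :=
  Lgr Lrot141 (Lpe (K10.f188585 IH) (Lpr_dt (K12.f188589 IH) (Lpe (f190830 IH) (Lpe (K14.f190829 IH) (Lpr_et (K14.f190828 IH) (Lpr_gt (K12.f190817 IH) (Lpr_dt (K12.f49156 IH) (Lpr_gt (K13.f49157 IH) (Lpe (K14.f190856 IH) (Lpr_et (f233851 IH) (Lpn (LP (LK LD1_c4 LD2_c12 LD3_c33)))))))))))))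
theorem f233859 : Led Lsl_bf (LP (LK LD1_c9 LD2_c51 LD3_c27)) = (LP (LK LD1_c7 LD2_c57 LD3_c42)) :=
  Lgr Lrot24 (Lpr_bt (K13.f233857 IH) (Lpn (LP (LK LD1_c7 LD2_c57 LD3_c42))))
theorem f246175 : Led Lsl_bt (LP (LK LD1_c10 LD2_c9 LD3_c55)) = (LP (LK LD1_c5 LD2_c9 LD3_c37)) :=
  Lre_b IH (LK LD1_c10 LD2_c9 LD3_c55) (LK LD1_c5 LD2_c9 LD3_c37) Lrfl Lrfl
theorem f246176 : Led Lsl_dt (LP (LK LD1_c9 LD2_c51 LD3_c27)) = (LP (LK LD1_c10 LD2_c9 LD3_c55)) :=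
  Lgr Lrot79 (Lpr_bf (f233859 IH) (Lpr_df (K14.f246169 IH) (Lpe (f246175 IH) (Lpn (LP (LK LD1_c10 LD2_c9 LD3_c55))))))
theorem f246188 : Led Lsl_et (LP (LK LD1_c10 LD2_c9 LD3_c55)) = (LP (LK LD1_c5 LD2_c9 LD3_c35)) :=
  Lre_e IH (LK LD1_c10 LD2_c9 LD3_c55) (LK LD1_c5 LD2_c9 LD3_c35) Lrfl Lrfl
theorem f246189 : Led Lsl_df (LP (LK LD1_c4 LD2_c12 LD3_c33)) = (LP (LK LD1_c5 LD2_c9 LD3_c35)) :=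
  Lgr Lrot70 (Lpe (f233849 IH) (Lpr_dt (K14.f190856 IH) (Lpr_et (K13.f190860 IH) (Lpr_dt (f246176 IH) (Lpr_et (f246188 IH) (Lpn (LP (LK LD1_c5 LD2_c9 LD3_c35))))))))
theorem f259699 : Led Lsl_gf (LP (LK LD1_c4 LD2_c7 LD3_c30)) = (LP (LK LD1_c5 LD2_c9 LD3_c35)) :=
  Lgr Lrot147 (Lpr_ct (K13.f49897 IH) (Lpr_gt (f259365 IH) (Lpr_ct (f48206 IH) (Lpe (K10.f48193 IH) (Lpe (f49188 IH) (Lpr_gf (f259697 IH) (Lpe (K10.f188528 IH) (Lpr_gf (f233853 IH) (Lpr_df (f246189 IH) (Lpn (LP (LK LD1_c5 LD2_c9 LD3_c35))))))))))))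
theorem f48195 : Led Lsl_ct (LP (LK LD1_c2 LD2_c35 LD3_c31)) = (LP (LK LD1_c5 LD2_c17 LD3_c29)) :=
  Lre_c IH (LK LD1_c2 LD2_c35 LD3_c31) (LK LD1_c5 LD2_c17 LD3_c29) Lrfl Lrfl
theorem f215350 : Led Lsl_bt (LP (LK LD1_c2 LD2_c34 LD3_c35)) = (LP (LK LD1_c1 LD2_c14 LD3_c21)) :=
  Lre_b IH (LK LD1_c2 LD2_c34 LD3_c35) (LK LD1_c1 LD2_c14 LD3_c21) Lrfl Lrfl
theorem f215596 : Led Lsl_bt (LP (LK LD1_c2 LD2_c31 LD3_c55)) = (LP (LK LD1_c5 LD2_c9 LD3_c35)) :=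
  Lre_b IH (LK LD1_c2 LD2_c31 LD3_c55) (LK LD1_c5 LD2_c9 LD3_c35) Lrfl Lrfl
theorem f215585 : Led Lsl_ct (LP (LK LD1_c2 LD2_c31 LD3_c55)) = (LP (LK LD1_c5 LD2_c9 LD3_c36)) :=
  Lre_c IH (LK LD1_c2 LD2_c31 LD3_c55) (LK LD1_c5 LD2_c9 LD3_c36) Lrfl Lrfl
theorem f259707 : Led Lsl_gt (LP (LK LD1_c5 LD2_c15 LD3_c31)) = (LP (LK LD1_c5 LD2_c9 LD3_c36)) :=
  Lgr Lrot65 (Lpe (K14.f195843 IH) (Lpr_bt (f215350 IH) (Lpr_gf (f231943 IH) (Lpe (K10.f189786 IH) (Lpr_ct (f48195 IH) (Lpe (f259365 IH) (Lpe (K13.f49897 IH) (Lpr_gf (f259699 IH) (Lpe (f215596 IH) (Lpr_ct (f215585 IH) (Lpn (LP (LK LD1_c5 LD2_c9 LD3_c36)))))))))))))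
theorem f43898 : Led Lsl_ct (LP (LK LD1_c7 LD2_c57 LD3_c36)) = (LP (LK LD1_c15 LD2_c0 LD3_c52)) :=
  Lre_c IH (LK LD1_c7 LD2_c57 LD3_c36) (LK LD1_c15 LD2_c0 LD3_c52) Lrfl Lrfl
theorem f215582 : Led Lsl_ct (LP (LK LD1_c5 LD2_c9 LD3_c36)) = (LP (LK LD1_c2 LD2_c31 LD3_c55)) :=
  Lre_c IH (LK LD1_c5 LD2_c9 LD3_c36) (LK LD1_c2 LD2_c31 LD3_c55) Lrfl Lrfl
theorem f22108 : Led Lsl_dt (LP (LK LD1_c5 LD2_c9 LD3_c41)) = (LP (LK LD1_c2 LD2_c31 LD3_c56)) :=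
  Lre_d IH (LK LD1_c5 LD2_c9 LD3_c41) (LK LD1_c2 LD2_c31 LD3_c56) Lrfl Lrfl
theorem f259732 : Led Lsl_ct (LP (LK LD1_c10 LD2_c10 LD3_c7)) = (LP (LK LD1_c5 LD2_c9 LD3_c41)) :=
  Lre_c IH (LK LD1_c10 LD2_c10 LD3_c7) (LK LD1_c5 LD2_c9 LD3_c41) Lrfl Lrfl
theorem f259733 : Led Lsl_gt (LP (LK LD1_c15 LD2_c0 LD3_c52)) = (LP (LK LD1_c10 LD2_c10 LD3_c7)) :=
  Lgr Lrot150 (Lpe (f43898 IH) (Lpr_gf (K14.f215348 IH) (Lpe (K14.f195844 IH) (Lpr_gt (f259707 IH) (Lpr_ct (f215582 IH) (Lpr_gt (K14.f180607 IH) (Lpr_ct (K14.f165521 IH) (Lpe (f22108 IH) (Lpe (f259732 IH) (Lpn (LP (LK LD1_c10 LD2_c10 LD3_c7))))))))))))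
theorem f177815 : Led Lsl_ct (LP (LK LD1_c2 LD2_c36 LD3_c47)) = (LP (LK LD1_c5 LD2_c20 LD3_c15)) :=
  Lre_c IH (LK LD1_c2 LD2_c36 LD3_c47) (LK LD1_c5 LD2_c20 LD3_c15) Lrfl Lrfl
theorem f259752 : Led Lsl_df (LP (LK LD1_c5 LD2_c20 LD3_c15)) = (LP (LK LD1_c10 LD2_c10 LD3_c7)) :=
  Lgr Lrot84 (Lpe (f177815 IH) (Lpe (K14.f46487 IH) (Lpe (K9.f9092 IH) (Lpe (K10.f45819 IH) (Lpe (K13.f45820 IH) (Lpe (K14.f46513 IH) (Lpr_gt (K13.f231405 IH) (Lpe (K14.f231393 IH) (Lpr_gt (f259733 IH) (Lpn (LP (LK LD1_c10 LD2_c10 LD3_c7))))))))))))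
theorem f183881 : Led Lsl_ct (LP (LK LD1_c2 LD2_c58 LD3_c53)) = (LP (LK LD1_c2 LD2_c0 LD3_c42)) :=
  Lgr Lrot8 (Lpr_gt (K14.f181192 IH) (Lpr_dt (K14.f181191 IH) (Lpr_gt (K10.f183369 IH) (Lpe (K1.f55433 IH) (Lpe (K9.f47979 IH) (Lpe (K9.f55457 IH) (Lpr_gf (K9.f183878 IH) (Lpe (K10.f21295 IH) (Lpe (K14.f21289 IH) (Lpn (LP (LK LD1_c2 LD2_c0 LD3_c42))))))))))))
theorem f195585 : Led Lsl_gt (LP (LK LD1_c1 LD2_c25 LD3_c15)) = (LP (LK LD1_c2 LD2_c58 LD3_c53)) :=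
  Lgr Lrot9 (Lpe (K10.f179061 IH) (Lpe (K10.f183428 IH) (Lpr_ct (K1.f55522 IH) (Lpr_gt (K9.f55811 IH) (Lpr_ct (K10.f195578 IH) (Lpr_df (K12.f187555 IH) (Lpe (K12.f21290 IH) (Lpe (K14.f21289 IH) (Lpe (f183881 IH) (Lpn (LP (LK LD1_c2 LD2_c58 LD3_c53))))))))))))
theorem f184914 : Led Lsl_bt (LP (LK LD1_c2 LD2_c33 LD3_c28)) = (LP (LK LD1_c1 LD2_c13 LD3_c43)) :=
  Lre_b IH (LK LD1_c2 LD2_c33 LD3_c28) (LK LD1_c1 LD2_c13 LD3_c43) Lrfl Lrfl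
theorem f191939 : Led Lsl_bt (LP (LK LD1_c4 LD2_c6 LD3_c17)) = (LP (LK LD1_c2 LD2_c0 LD3_c31)) :=
  Lre_b IH (LK LD1_c4 LD2_c6 LD3_c17) (LK LD1_c2 LD2_c0 LD3_c31) Lrfl Lrfl
theorem f252118 : Led Lsl_gf (LP (LK LD1_c5 LD2_c13 LD3_c15)) = (LP (LK LD1_c8 LD2_c13 LD3_c11)) :=
  Lgr Lrot126 (Lpe (K14.f183925 IH) (Lpr_bt (f184914 IH) (Lpr_gt (K10.f184926 IH) (Lpr_ct (K10.f177787 IH) (Lpr_gt (f195585 IH) (Lpr_cf (K14.f183883 IH) (Lpr_bt (K14.f252114 IH) (Lpr_gt (K14.f54553 IH) (Lpe (f191939 IH) (Lpr_ct (K14.f179076 IH) (Lpn (LP (LK LD1_c8 LD2_c13 LD3_c11)))))))))))))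
theorem f165566 : Led Lsl_ct (LP (LK LD1_c5 LD2_c9 LD3_c41)) = (LP (LK LD1_c10 LD2_c10 LD3_c7)) :=
  Lre_c IH (LK LD1_c5 LD2_c9 LD3_c41) (LK LD1_c10 LD2_c10 LD3_c7) Lrfl Lrfl
theorem f259767 : Led Lsl_gt (LP (LK LD1_c8 LD2_c52 LD3_c3)) = (LP (LK LD1_c5 LD2_c9 LD3_c41)) :=
  Lgr Lrot150 (Lpr_cf (K1.f46410 IH) (Lpe (K14.f46434 IH) (Lpr_df (K14.f191933 IH) (Lpe (f252118 IH) (Lpr_ct (K14.f183932 IH) (Lpe (K14.f196047 IH) (Lpr_ct (f177815 IH) (Lpr_df (f259752 IH) (Lpe (f165566 IH) (Lpn (LP (LK LD1_c5 LD2_c9 LD3_c41))))))))))))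
theorem f165546 : Led Lsl_gt (LP (LK LD1_c5 LD2_c9 LD3_c41)) = (LP (LK LD1_c10 LD2_c10 LD3_c6)) :=
  Lre_g IH (LK LD1_c5 LD2_c9 LD3_c41) (LK LD1_c10 LD2_c10 LD3_c6) Lrfl Lrfl
theorem f259772 : Led Lsl_at (LP (LK LD1_c5 LD2_c22 LD3_c11)) = (LP (LK LD1_c10 LD2_c10 LD3_c6)) :=
  Lgr Lrot26 (Lpe (K14.f46423 IH) (Lpr_gt (f259767 IH) (Lpr_gt (f165546 IH) (Lpn (LP (LK LD1_c10 LD2_c10 LD3_c6))))))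
theorem f259804 : Led Lsl_df (LP (LK LD1_c5 LD2_c10 LD3_c30)) = (LP (LK LD1_c10 LD2_c10 LD3_c6)) :=
  Lgr Lrot18 (Lpe (K14.f192905 IH) (Lpe (K14.f190653 IH) (Lpr_at (f259772 IH) (Lpn (LP (LK LD1_c10 LD2_c10 LD3_c6))))))
theorem f215624 : Led Lsl_ft (LP (LK LD1_c15 LD2_c0 LD3_c52)) = (LP (LK LD1_c10 LD2_c33 LD3_c29)) :=
  Lgr Lrot4 (Lpe (f43898 IH) (Lpe (K12.f214326 IH) (Lpr_cf (K12.f215615 IH) (Lpn (LP (LK LD1_c10 LD2_c33 LD3_c29))))))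
theorem f259750 : Led Lsl_gf (LP (LK LD1_c9 LD2_c33 LD3_c21)) = (LP (LK LD1_c10 LD2_c10 LD3_c7)) :=
  Lgr Lrot76 (Lpr_af (K14.f198929 IH) (Lpe (f215624 IH) (Lpr_gt (f259733 IH) (Lpn (LP (LK LD1_c10 LD2_c10 LD3_c7))))))
theorem f259978 : Led Lsl_gt (LP (LK LD1_c5 LD2_c10 LD3_c30)) = (LP (LK LD1_c5 LD2_c3 LD3_c42)) :=
  Lgr Lrot49 (Lpr_df (f259804 IH) (Lpe (f165546 IH) (Lpe (f259732 IH) (Lpe (f259750 IH) (Lpr_dt (K14.f43275 IH) (Lpe (K14.f231407 IH) (Lpr_dt (K14.f231410 IH) (Lpr_cf (K14.f254420 IH) (Lpe (K14.f166913 IH) (Lpn (LP (LK LD1_c5 LD2_c3 LD3_c42))))))))))))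
theorem f249635 : Led Lsl_bt (LP (LK LD1_c2 LD2_c29 LD3_c20)) = (LP (LK LD1_c2 LD2_c25 LD3_c5)) :=
  Lgr Lrot127 (Lpr_bf (K14.f249624 IH) (Lpn (LP (LK LD1_c2 LD2_c25 LD3_c5))))
theorem f43382 : Led Lsl_dt (LP (LK LD1_c4 LD2_c53 LD3_c61)) = (LP (LK LD1_c2 LD2_c24 LD3_c54)) :=
  Lre_d IH (LK LD1_c4 LD2_c53 LD3_c61) (LK LD1_c2 LD2_c24 LD3_c54) Lrfl Lrfl
theorem f44785 : Led Lsl_gt (LP (LK LD1_c4 LD2_c27 LD3_c27)) = (LP (LK LD1_c2 LD2_c10 LD3_c56)) :=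
  Lre_g IH (LK LD1_c4 LD2_c27 LD3_c27) (LK LD1_c2 LD2_c10 LD3_c56) Lrfl Lrfl
theorem f247718 : Led Lsl_cf (LP (LK LD1_c4 LD2_c27 LD3_c27)) = (LP (LK LD1_c2 LD2_c28 LD3_c31)) :=
  Lgr Lrot169 (Lpr_gt (f44785 IH) (Lpr_ct (K1.f44769 IH) (Lpe (K14.f41835 IH) (Lpe (K9.f47191 IH) (Lpe (K10.f47419 IH) (Lpr_cf (K10.f192452 IH) (Lpe (K10.f192481 IH) (Lpe (f43382 IH) (Lpr_gt (K14.f247714 IH) (Lpn (LP (LK LD1_c2 LD2_c28 LD3_c31))))))))))))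
theorem f44746 : Led Lsl_ct (LP (LK LD1_c1 LD2_c2 LD3_c28)) = (LP (LK LD1_c2 LD2_c10 LD3_c56)) :=
  Lre_c IH (LK LD1_c1 LD2_c2 LD3_c28) (LK LD1_c2 LD2_c10 LD3_c56) Lrfl Lrfl
theorem f47092 : Led Lsl_bf (LP (LK LD1_c0 LD2_c55 LD3_c60)) = (LP (LK LD1_c1 LD2_c2 LD3_c28)) :=
  Lgr Lrot93 (Lpr_dt (K1.f46575 IH) (Lpr_bt (K1.f47051 IH) (Lpr_dt (K14.f41835 IH) (Lpn (LP (LK LD1_c1 LD2_c2 LD3_c28))))))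
theorem f247720 : Led Lsl_bt (LP (LK LD1_c2 LD2_c36 LD3_c16)) = (LP (LK LD1_c1 LD2_c58 LD3_c12)) :=
  Lgr Lrot92 (Lpe (K14.f192986 IH) (Lpr_gt (K14.f43744 IH) (Lpe (K9.f43450 IH) (Lpr_bt (K12.f43453 IH) (Lpr_gt (K14.f247714 IH) (Lpe (f247718 IH) (Lpr_gt (f44785 IH) (Lpe (f44746 IH) (Lpe (f47092 IH) (Lpr_gt (f46992 IH) (Lpn (LP (LK LD1_c1 LD2_c58 LD3_c12)))))))))))))
theorem f259994 : Led Lsl_gf (LP (LK LD1_c1 LD2_c58 LD3_c22)) = (LP (LK LD1_c1 LD2_c58 LD3_c12)) :=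
  Lgr Lrot124 (Lpr_bf (K10.f45821 IH) (Lpr_ct (K10.f192903 IH) (Lpr_gt (f259978 IH) (Lpe (K14.f166912 IH) (Lpr_bt (f249635 IH) (Lpr_gt (K12.f31526 IH) (Lpr_ct (K9.f43465 IH) (Lpr_gt (K14.f43743 IH) (Lpr_cf (K14.f192986 IH) (Lpr_bt (f247720 IH) (Lpn (LP (LK LD1_c1 LD2_c58 LD3_c12)))))))))))))
theorem f33778 : Led Lsl_dt (LP (LK LD1_c4 LD2_c1 LD3_c56)) = (LP (LK LD1_c4 LD2_c1 LD3_c36)) :=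
  Lgr Lrot173 (Lpe (K0.f33777 IH) (Lpe (K0.f33610 IH) (Lpe (K0.f33594 IH) (Lpe (K0.f33603 IH) (Lpe (K0.f33776 IH) (Lpe (K0.f33740 IH) (Lpr_cf (K0.f33765 IH) (Lpe (K0.f21707 IH) (Lpe (K0.f21837 IH) (Lpe (K0.f21846 IH) (Lpr_cf (K0.f33106 IH) (Lpe (K0.f33666 IH) (Lpe (K0.f33764 IH) (Lpe (K0.f33713 IH) (Lpe (K12.f33692 IH) (Lpn (LP (LK LD1_c4 LD2_c1 LD3_c36))))))))))))))))))
theorem f259996 : Led Lsl_ct (LP (LK LD1_c2 LD2_c31 LD3_c44)) = (LP (LK LD1_c1 LD2_c58 LD3_c12)) :=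
  Lgr Lrot8 (Lpe (K13.f33820 IH) (Lpr_dt (f33778 IH) (Lpe (K13.f34107 IH) (Lpe (K13.f242311 IH) (Lpe (K13.f171545 IH) (Lpe (K13.f171537 IH) (Lpe (K10.f192586 IH) (Lpe (K1.f27861 IH) (Lpr_gf (f259994 IH) (Lpn (LP (LK LD1_c1 LD2_c58 LD3_c12))))))))))))
theorem f242585 : Led Lsl_ct (LP (LK LD1_c1 LD2_c25 LD3_c36)) = (LP (LK LD1_c1 LD2_c10 LD3_c15)) :=
  Lgr Lrot15 (Lpe (K10.f177600 IH) (Lpr_cf (K9.f182015 IH) (Lpr_ef (K13.f242581 IH) (Lpn (LP (LK LD1_c1 LD2_c10 LD3_c15))))))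
theorem f33825 : Led Lsl_dt (LP (LK LD1_c5 LD2_c9 LD3_c10)) = (LP (LK LD1_c2 LD2_c31 LD3_c44)) :=
  Lre_d IH (LK LD1_c5 LD2_c9 LD3_c10) (LK LD1_c2 LD2_c31 LD3_c44) Lrfl Lrfl
theorem f240519 : Led Lsl_cf (LP (LK LD1_c5 LD2_c9 LD3_c10)) = (LP (LK LD1_c4 LD2_c1 LD3_c26)) :=
  Lgr Lrot14 (Lpe (K13.f21745 IH) (Lpe (K13.f21744 IH) (Lpe (K0.f21838 IH) (Lpe (K13.f21728 IH) (Lpr_ct (K13.f240239 IH) (Lpe (K13.f227325 IH) (Lpr_dt (K1.f27856 IH) (Lpr_gt (K9.f182449 IH) (Lpr_dt (K12.f182359 IH) (Lpn (LP (LK LD1_c4 LD2_c1 LD3_c26))))))))))))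
theorem f229709 : Led Lsl_ft (LP (LK LD1_c1 LD2_c55 LD3_c14)) = (LP (LK LD1_c3 LD2_c56 LD3_c61)) :=
  Lre_f IH (LK LD1_c1 LD2_c55 LD3_c14) (LK LD1_c3 LD2_c56 LD3_c61) Lrfl Lrfl
theorem f246119 : Led Lsl_af (LP (LK LD1_c2 LD2_c8 LD3_c19)) = (LP (LK LD1_c3 LD2_c56 LD3_c61)) :=
  Lgr Lrot31 (Lpr_gf (K13.f246117 IH) (Lpe (K14.f242520 IH) (Lpr_ft (f229709 IH) (Lpn (LP (LK LD1_c3 LD2_c56 LD3_c61))))))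
theorem f242238 : Led Lsl_ft (LP (LK LD1_c1 LD2_c56 LD3_c43)) = (LP (LK LD1_c0 LD2_c55 LD3_c8)) :=
  Lre_f IH (LK LD1_c1 LD2_c56 LD3_c43) (LK LD1_c0 LD2_c55 LD3_c8) Lrfl Lrfl
theorem f242239 : Led Lsl_ct (LP (LK LD1_c3 LD2_c56 LD3_c61)) = (LP (LK LD1_c1 LD2_c56 LD3_c43)) :=
  Lgr Lrot40 (Lpe (f229709 IH) (Lpr_cf (K14.f242229 IH) (Lpe (f242238 IH) (Lpn (LP (LK LD1_c1 LD2_c56 LD3_c43))))))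
theorem f242241 : Led Lsl_cf (LP (LK LD1_c3 LD2_c56 LD3_c61)) = (LP (LK LD1_c1 LD2_c56 LD3_c43)) :=
  Lgr Lrot11 (Lpr_ct (f242239 IH) (Lpn (LP (LK LD1_c1 LD2_c56 LD3_c43))))
theorem f246220 : Led Lsl_af (LP (LK LD1_c1 LD2_c56 LD3_c43)) = (LP (LK LD1_c1 LD2_c10 LD3_c17)) :=
  Lgr Lrot68 (Lpe (f242241 IH) (Lpe (f246119 IH) (Lpr_ct (K13.f246125 IH) (Lpn (LP (LK LD1_c1 LD2_c10 LD3_c17))))))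
theorem f260166 : Led Lsl_df (LP (LK LD1_c3 LD2_c56 LD3_c61)) = (LP (LK LD1_c1 LD2_c58 LD3_c12)) :=
  Lgr Lrot177 (Lpr_ct (f242239 IH) (Lpr_af (f246220 IH) (Lpe (K13.f182368 IH) (Lpr_dt (K9.f182354 IH) (Lpr_ct (K9.f182358 IH) (Lpr_dt (K12.f182359 IH) (Lpe (f240519 IH) (Lpr_dt (f33825 IH) (Lpr_ct (f259996 IH) (Lpn (LP (LK LD1_c1 LD2_c58 LD3_c12))))))))))))
theorem f260168 : Led Lsl_gt (LP (LK LD1_c1 LD2_c10 LD3_c15)) = (LP (LK LD1_c1 LD2_c56 LD3_c43)) :=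
  Lgr Lrot187 (Lpe (f242585 IH) (Lpr_gf (K13.f239522 IH) (Lpe (K10.f196331 IH) (Lpr_gt (K10.f22006 IH) (Lpr_ct (K0.f21837 IH) (Lpr_gt (K13.f21744 IH) (Lpr_ct (f259996 IH) (Lpe (f260166 IH) (Lpr_cf (f242241 IH) (Lpn (LP (LK LD1_c1 LD2_c56 LD3_c43))))))))))))
theorem f182030 : Led Lsl_dt (LP (LK LD1_c0 LD2_c33 LD3_c40)) = (LP (LK LD1_c1 LD2_c12 LD3_c44)) :=
  Lre_d IH (LK LD1_c0 LD2_c33 LD3_c40) (LK LD1_c1 LD2_c12 LD3_c44) Lrfl Lrfl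
theorem f260198 : Led Lsl_et (LP (LK LD1_c0 LD2_c56 LD3_c22)) = (LP (LK LD1_c1 LD2_c56 LD3_c43)) :=
  Lgr Lrot122 (Lpr_dt (K9.f28915 IH) (Lpr_gt (K12.f197265 IH) (Lpe (K12.f28572 IH) (Lpr_et (K12.f182382 IH) (Lpr_gt (K13.f211590 IH) (Lpr_dt (K10.f171540 IH) (Lpr_gt (K13.f204952 IH) (Lpe (f182030 IH) (Lpr_et (K13.f242589 IH) (Lpr_gt (f260168 IH) (Lpn (LP (LK LD1_c1 LD2_c56 LD3_c43)))))))))))))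
theorem f260208 : Led Lsl_gf (LP (LK LD1_c1 LD2_c10 LD3_c16)) = (LP (LK LD1_c1 LD2_c56 LD3_c43)) :=
  Lgr Lrot141 (Lpr_ef (K11.f182373 IH) (Lpr_dt (K11.f52249 IH) (Lpr_gt (K12.f27953 IH) (Lpe (K10.f51605 IH) (Lpr_et (K1.f27933 IH) (Lpr_gt (K9.f27955 IH) (Lpr_dt (K11.f27957 IH) (Lpe (K12.f223698 IH) (Lpe (K9.f28915 IH) (Lpr_et (f260198 IH) (Lpn (LP (LK LD1_c1 LD2_c56 LD3_c43)))))))))))))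
theorem f28535 : Led Lsl_ft (LP (LK LD1_c1 LD2_c55 LD3_c26)) = (LP (LK LD1_c0 LD2_c54 LD3_c27)) :=
  Lre_f IH (LK LD1_c1 LD2_c55 LD3_c26) (LK LD1_c0 LD2_c54 LD3_c27) Lrfl Lrfl
theorem f242231 : Led Lsl_ft (LP (LK LD1_c0 LD2_c55 LD3_c8)) = (LP (LK LD1_c1 LD2_c56 LD3_c43)) :=
  Lre_f IH (LK LD1_c0 LD2_c55 LD3_c8) (LK LD1_c1 LD2_c56 LD3_c43) Lrfl Lrfl
theorem f242232 : Led Lsl_bf (LP (LK LD1_c1 LD2_c55 LD3_c26)) = (LP (LK LD1_c1 LD2_c56 LD3_c43)) :=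
  Lgr Lrot61 (Lpr_ft (f28535 IH) (Lpr_bt (K14.f242225 IH) (Lpr_ft (f242231 IH) (Lpn (LP (LK LD1_c1 LD2_c56 LD3_c43))))))
theorem f242234 : Led Lsl_bt (LP (LK LD1_c1 LD2_c55 LD3_c26)) = (LP (LK LD1_c1 LD2_c56 LD3_c43)) :=
  Lgr Lrot127 (Lpr_bf (f242232 IH) (Lpn (LP (LK LD1_c1 LD2_c56 LD3_c43))))
theorem f242236 : Led Lsl_ct (LP (LK LD1_c1 LD2_c55 LD3_c26)) = (LP (LK LD1_c3 LD2_c57 LD3_c16)) :=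
  Lre_c IH (LK LD1_c1 LD2_c55 LD3_c26) (LK LD1_c3 LD2_c57 LD3_c16) Lrfl Lrfl
theorem f260214 : Led Lsl_gt (LP (LK LD1_c2 LD2_c7 LD3_c40)) = (LP (LK LD1_c3 LD2_c57 LD3_c16)) :=
  Lgr Lrot65 (Lpr_cf (K13.f242516 IH) (Lpr_bt (K13.f242512 IH) (Lpe (K13.f242518 IH) (Lpe (K14.f242225 IH) (Lpr_ct (K13.f28547 IH) (Lpe (K11.f196345 IH) (Lpe (K11.f182369 IH) (Lpr_gf (f260208 IH) (Lpe (f242234 IH) (Lpr_ct (f242236 IH) (Lpn (LP (LK LD1_c3 LD2_c57 LD3_c16)))))))))))))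
theorem f33151 : Led Lsl_et (LP (LK LD1_c1 LD2_c0 LD3_c55)) = (LP (LK LD1_c2 LD2_c7 LD3_c40)) :=
  Lre_e IH (LK LD1_c1 LD2_c0 LD3_c55) (LK LD1_c2 LD2_c7 LD3_c40) Lrfl Lrfl
theorem f241886 : Led Lsl_gf (LP (LK LD1_c1 LD2_c9 LD3_c31)) = (LP (LK LD1_c1 LD2_c58 LD3_c2)) :=
  Lgr Lrot148 (Lpr_dt (K13.f31574 IH) (Lpr_gt (K13.f31051 IH) (Lpr_dt (K8.f31040 IH) (Lpe (K14.f201401 IH) (Lpe (K11.f201422 IH) (Lpr_gf (K13.f231461 IH) (Lpe (K11.f201584 IH) (Lpe (K13.f171681 IH) (Lpr_ct (K13.f241880 IH) (Lpn (LP (LK LD1_c1 LD2_c58 LD3_c2))))))))))))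
theorem f33152 : Led Lsl_dt (LP (LK LD1_c2 LD2_c7 LD3_c39)) = (LP (LK LD1_c1 LD2_c0 LD3_c55)) :=
  Lre_d IH (LK LD1_c2 LD2_c7 LD3_c39) (LK LD1_c1 LD2_c0 LD3_c55) Lrfl Lrfl
theorem f241894 : Led Lsl_gt (LP (LK LD1_c4 LD2_c1 LD3_c45)) = (LP (LK LD1_c2 LD2_c7 LD3_c39)) :=
  Lgr Lrot49 (Lpe (K12.f33355 IH) (Lpr_gf (K12.f225638 IH) (Lpe (K10.f28994 IH) (Lpr_gt (K13.f241888 IH) (Lpr_dt (K13.f34073 IH) (Lpe (f241886 IH) (Lpr_dt (K13.f31574 IH) (Lpe (K13.f239285 IH) (Lpe (f33152 IH) (Lpn (LP (LK LD1_c2 LD2_c7 LD3_c39))))))))))))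
theorem f260230 : Led Lsl_et (LP (LK LD1_c2 LD2_c3 LD3_c13)) = (LP (LK LD1_c3 LD2_c57 LD3_c16)) :=
  Lgr Lrot122 (Lpe (K12.f226885 IH) (Lpr_gt (K12.f200699 IH) (Lpe (K12.f200691 IH) (Lpr_et (K11.f200688 IH) (Lpe (K12.f225638 IH) (Lpr_dt (K12.f33355 IH) (Lpr_gt (f241894 IH) (Lpe (K13.f33184 IH) (Lpr_et (f33151 IH) (Lpr_gt (f260214 IH) (Lpn (LP (LK LD1_c3 LD2_c57 LD3_c16)))))))))))))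
theorem f260237 : Led Lsl_ef (LP (LK LD1_c2 LD2_c3 LD3_c13)) = (LP (LK LD1_c3 LD2_c57 LD3_c16)) :=
  Lgr Lrot88 (Lpr_et (f260230 IH) (Lpn (LP (LK LD1_c3 LD2_c57 LD3_c16))))
theorem f260241 : Led Lsl_et (LP (LK LD1_c0 LD2_c58 LD3_c31)) = (LP (LK LD1_c1 LD2_c55 LD3_c26)) :=
  Lgr Lrot158 (Lpe (K11.f166456 IH) (Lpr_ef (f260237 IH) (Lpe (f242236 IH) (Lpn (LP (LK LD1_c1 LD2_c55 LD3_c26))))))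
theorem f36348 : Led Lsl_et (LP (LK LD1_c0 LD2_c27 LD3_c48)) = (LP (LK LD1_c1 LD2_c0 LD3_c60)) :=
  Lre_e IH (LK LD1_c0 LD2_c27 LD3_c48) (LK LD1_c1 LD2_c0 LD3_c60) Lrfl Lrfl
theorem f260243 : Led Lsl_gt (LP (LK LD1_c1 LD2_c0 LD3_c60)) = (LP (LK LD1_c1 LD2_c55 LD3_c26)) :=
  Lgr Lrot131 (Lpe (f36348 IH) (Lpr_dt (K12.f36339 IH) (Lpe (K12.f204911 IH) (Lpr_df (K13.f201322 IH) (Lpe (K13.f210629 IH) (Lpe (K13.f193352 IH) (Lpr_dt (K12.f193338 IH) (Lpr_gf (K11.f193348 IH) (Lpe (K11.f166453 IH) (Lpr_et (f260241 IH) (Lpn (LP (LK LD1_c1 LD2_c55 LD3_c26)))))))))))))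
theorem f175069 : Led Lsl_bt (LP (LK LD1_c0 LD2_c32 LD3_c29)) = (LP (LK LD1_c0 LD2_c14 LD3_c35)) :=
  Lre_b IH (LK LD1_c0 LD2_c32 LD3_c29) (LK LD1_c0 LD2_c14 LD3_c35) Lrfl Lrfl
theorem f197011 : Led Lsl_cf (LP (LK LD1_c0 LD2_c59 LD3_c41)) = (LP (LK LD1_c0 LD2_c35 LD3_c35)) :=
  Lgr Lrot11 (Lpr_ct (K10.f197002 IH) (Lpn (LP (LK LD1_c0 LD2_c35 LD3_c35))))
theorem f243023 : Led Lsl_bt (LP (LK LD1_c0 LD2_c59 LD3_c41)) = (LP (LK LD1_c1 LD2_c1 LD3_c18)) :=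
  Lgr Lrot128 (Lpr_cf (f197011 IH) (Lpe (K14.f175054 IH) (Lpe (K10.f175048 IH) (Lpe (f175069 IH) (Lpr_cf (K13.f243020 IH) (Lpn (LP (LK LD1_c1 LD2_c1 LD3_c18))))))))
theorem f242237 : Led Lsl_ct (LP (LK LD1_c3 LD2_c57 LD3_c16)) = (LP (LK LD1_c1 LD2_c55 LD3_c26)) :=
  Lre_c IH (LK LD1_c3 LD2_c57 LD3_c16) (LK LD1_c1 LD2_c55 LD3_c26) Lrfl Lrfl
theorem f230411 : Led Lsl_bt (LP (LK LD1_c3 LD2_c57 LD3_c16)) = (LP (LK LD1_c7 LD2_c56 LD3_c7)) :=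
  Lre_b IH (LK LD1_c3 LD2_c57 LD3_c16) (LK LD1_c7 LD2_c56 LD3_c7) Lrfl Lrfl
theorem f260249 : Led Lsl_gf (LP (LK LD1_c5 LD2_c28 LD3_c16)) = (LP (LK LD1_c7 LD2_c56 LD3_c7)) :=
  Lgr Lrot124 (Lpe (K14.f197026 IH) (Lpr_ct (K14.f197025 IH) (Lpr_gt (K13.f175055 IH) (Lpe (K10.f197002 IH) (Lpr_bt (f243023 IH) (Lpe (K13.f242785 IH) (Lpr_ct (K13.f164141 IH) (Lpr_gt (f260243 IH) (Lpe (f242237 IH) (Lpr_bt (f230411 IH) (Lpn (LP (LK LD1_c7 LD2_c56 LD3_c7)))))))))))))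
theorem f249103 : Led Lsl_gf (LP (LK LD1_c2 LD2_c36 LD3_c39)) = (LP (LK LD1_c5 LD2_c18 LD3_c20)) :=
  Lgr Lrot47 (Lpr_gt (K14.f249098 IH) (Lpe (K9.f43534 IH) (Lpr_ff (K12.f191578 IH) (Lpn (LP (LK LD1_c5 LD2_c18 LD3_c20))))))
theorem f260259 : Led Lsl_df (LP (LK LD1_c4 LD2_c1 LD3_c46)) = (LP (LK LD1_c7 LD2_c56 LD3_c7)) :=
  Lgr Lrot155 (Lpe (f192971 IH) (Lpr_ct (K12.f191564 IH) (Lpe (f249103 IH) (Lpr_ct (K14.f46336 IH) (Lpr_dt (K14.f248295 IH) (Lpe (K14.f230303 IH) (Lpr_gf (K14.f246659 IH) (Lpr_cf (K14.f251287 IH) (Lpr_gf (f260249 IH) (Lpn (LP (LK LD1_c7 LD2_c56 LD3_c7))))))))))))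
theorem f248045 : Led Lsl_ct (LP (LK LD1_c2 LD2_c0 LD3_c36)) = (LP (LK LD1_c4 LD2_c6 LD3_c29)) :=
  Lre_c IH (LK LD1_c2 LD2_c0 LD3_c36) (LK LD1_c4 LD2_c6 LD3_c29) Lrfl Lrfl
theorem f260269 : Led Lsl_gt (LP (LK LD1_c4 LD2_c6 LD3_c29)) = (LP (LK LD1_c7 LD2_c56 LD3_c7)) :=
  Lgr Lrot94 (Lpe (f248045 IH) (Lpr_gt (f255926 IH) (Lpr_dt (K14.f248480 IH) (Lpe (K9.f184042 IH) (Lpr_dt (K9.f43356 IH) (Lpe (K9.f43351 IH) (Lpe (K9.f43385 IH) (Lpr_gf (f192971 IH) (Lpr_df (f260259 IH) (Lpn (LP (LK LD1_c7 LD2_c56 LD3_c7))))))))))))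
theorem f187767 : Led Lsl_dt (LP (LK LD1_c2 LD2_c0 LD3_c34)) = (LP (LK LD1_c4 LD2_c6 LD3_c28)) :=
  Lre_d IH (LK LD1_c2 LD2_c0 LD3_c34) (LK LD1_c4 LD2_c6 LD3_c28) Lrfl Lrfl
theorem f260271 : Led Lsl_gt (LP (LK LD1_c8 LD2_c13 LD3_c14)) = (LP (LK LD1_c4 LD2_c6 LD3_c28)) :=
  Lgr Lrot112 (Lpr_df (K14.f192266 IH) (Lpr_et (K10.f43424 IH) (Lpr_gf (K10.f43413 IH) (Lpe (K9.f43352 IH) (Lpr_dt (K9.f43387 IH) (Lpr_gf (f192971 IH) (Lpr_df (f260259 IH) (Lpe (f260269 IH) (Lpe (f187838 IH) (Lpr_dt (f187767 IH) (Lpn (LP (LK LD1_c4 LD2_c6 LD3_c28)))))))))))))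
theorem f230410 : Led Lsl_bt (LP (LK LD1_c7 LD2_c56 LD3_c7)) = (LP (LK LD1_c3 LD2_c57 LD3_c16)) :=
  Lre_b IH (LK LD1_c7 LD2_c56 LD3_c7) (LK LD1_c3 LD2_c57 LD3_c16) Lrfl Lrfl
theorem f260239 : Led Lsl_et (LP (LK LD1_c4 LD2_c12 LD3_c7)) = (LP (LK LD1_c7 LD2_c56 LD3_c7)) :=
  Lgr Lrot74 (Lpe (f166457 IH) (Lpr_ef (f260237 IH) (Lpe (f230410 IH) (Lpn (LP (LK LD1_c7 LD2_c56 LD3_c7))))))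
theorem f260277 : Led Lsl_gf (LP (LK LD1_c4 LD2_c54 LD3_c16)) = (LP (LK LD1_c2 LD2_c25 LD3_c19)) :=
  Lgr Lrot138 (Lpe (K14.f192266 IH) (Lpr_gt (f260271 IH) (Lpe (f187767 IH) (Lpr_et (f187838 IH) (Lpr_gt (f260269 IH) (Lpe (f260239 IH) (Lpe (f256923 IH) (Lpr_gt (f256820 IH) (Lpe (K12.f214012 IH) (Lpr_et (K12.f214007 IH) (Lpn (LP (LK LD1_c2 LD2_c25 LD3_c19)))))))))))))
theorem f184832 : Led Lsl_dt (LP (LK LD1_c2 LD2_c35 LD3_c35)) = (LP (LK LD1_c5 LD2_c17 LD3_c41)) :=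
  Lre_d IH (LK LD1_c2 LD2_c35 LD3_c35) (LK LD1_c5 LD2_c17 LD3_c41) Lrfl Lrfl
theorem f192502 : Led Lsl_ct (LP (LK LD1_c2 LD2_c0 LD3_c31)) = (LP (LK LD1_c4 LD2_c6 LD3_c24)) :=
  Lre_c IH (LK LD1_c2 LD2_c0 LD3_c31) (LK LD1_c4 LD2_c6 LD3_c24) Lrfl Lrfl
theorem f191961 : Led Lsl_gt (LP (LK LD1_c4 LD2_c6 LD3_c24)) = (LP (LK LD1_c8 LD2_c13 LD3_c20)) :=
  Lre_g IH (LK LD1_c4 LD2_c6 LD3_c24) (LK LD1_c8 LD2_c13 LD3_c20) Lrfl Lrfl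
theorem f260283 : Led Lsl_cf (LP (LK LD1_c5 LD2_c17 LD3_c41)) = (LP (LK LD1_c8 LD2_c13 LD3_c20)) :=
  Lgr Lrot99 (Lpe (f184832 IH) (Lpe (K10.f184871 IH) (Lpr_gf (f260277 IH) (Lpe (K12.f214001 IH) (Lpe (K14.f216284 IH) (Lpr_df (K14.f252110 IH) (Lpr_gt (K14.f54553 IH) (Lpr_ct (f192502 IH) (Lpr_gt (f191961 IH) (Lpn (LP (LK LD1_c8 LD2_c13 LD3_c20))))))))))))
theorem f260288 : Led Lsl_ct (LP (LK LD1_c5 LD2_c17 LD3_c41)) = (LP (LK LD1_c8 LD2_c13 LD3_c20)) :=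
  Lgr Lrot59 (Lpr_cf (f260283 IH) (Lpn (LP (LK LD1_c8 LD2_c13 LD3_c20))))
theorem f49088 : Led Lsl_bt (LP (LK LD1_c5 LD2_c17 LD3_c41)) = (LP (LK LD1_c2 LD2_c35 LD3_c38)) :=
  Lre_b IH (LK LD1_c5 LD2_c17 LD3_c41) (LK LD1_c2 LD2_c35 LD3_c38) Lrfl Lrfl
theorem f260383 : Led Lsl_gt (LP (LK LD1_c2 LD2_c35 LD3_c38)) = (LP (LK LD1_c1 LD2_c25 LD3_c13)) :=
  Lgr Lrot164 (Lpe (f49088 IH) (Lpr_ct (f260288 IH) (Lpe (f191961 IH) (Lpe (f192502 IH) (Lpe (K14.f54553 IH) (Lpe (K14.f252114 IH) (Lpe (K14.f183883 IH) (Lpe (f195585 IH) (Lpe (K10.f177787 IH) (Lpr_bt (K10.f183466 IH) (Lpn (LP (LK LD1_c1 LD2_c25 LD3_c13)))))))))))))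
theorem f49084 : Led Lsl_ct (LP (LK LD1_c5 LD2_c17 LD3_c48)) = (LP (LK LD1_c2 LD2_c35 LD3_c38)) :=
  Lre_c IH (LK LD1_c5 LD2_c17 LD3_c48) (LK LD1_c2 LD2_c35 LD3_c38) Lrfl Lrfl
theorem f259434 : Led Lsl_gt (LP (LK LD1_c5 LD2_c15 LD3_c38)) = (LP (LK LD1_c8 LD2_c26 LD3_c20)) :=
  Lgr Lrot150 (Lpe (f259394 IH) (Lpe (f45415 IH) (Lpe (K10.f45392 IH) (Lpr_gt (K10.f45516 IH) (Lpr_ct (f259425 IH) (Lpr_gt (f189716 IH) (Lpe (K11.f195825 IH) (Lpe (K14.f252373 IH) (Lpr_cf (K14.f252365 IH) (Lpn (LP (LK LD1_c8 LD2_c26 LD3_c20))))))))))))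
theorem f231875 : Led Lsl_ft (LP (LK LD1_c11 LD2_c55 LD3_c6)) = (LP (LK LD1_c8 LD2_c26 LD3_c30)) :=
  Lgr Lrot54 (Lpr_df (K13.f231691 IH) (Lpr_ff (K11.f183780 IH) (Lpe (K14.f49442 IH) (Lpn (LP (LK LD1_c8 LD2_c26 LD3_c30))))))
theorem f257201 : Led Lsl_ft (LP (LK LD1_c10 LD2_c20 LD3_c12)) = (LP (LK LD1_c8 LD2_c26 LD3_c13)) :=
  Lgr Lrot4 (Lpr_cf (K14.f252277 IH) (Lpe (f231875 IH) (Lpr_cf (f257197 IH) (Lpn (LP (LK LD1_c8 LD2_c26 LD3_c13))))))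
theorem f259455 : Led Lsl_gf (LP (LK LD1_c5 LD2_c15 LD3_c38)) = (LP (LK LD1_c10 LD2_c20 LD3_c12)) :=
  Lgr Lrot47 (Lpr_gt (f259434 IH) (Lpe (f49523 IH) (Lpe (f257201 IH) (Lpn (LP (LK LD1_c10 LD2_c20 LD3_c12))))))
theorem f47573 : Led Lsl_ct (LP (LK LD1_c2 LD2_c34 LD3_c47)) = (LP (LK LD1_c1 LD2_c14 LD3_c24)) :=
  Lre_c IH (LK LD1_c2 LD2_c34 LD3_c47) (LK LD1_c1 LD2_c14 LD3_c24) Lrfl Lrfl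
theorem f259482 : Led Lsl_gt (LP (LK LD1_c8 LD2_c29 LD3_c1)) = (LP (LK LD1_c5 LD2_c16 LD3_c11)) :=
  Lgr Lrot150 (Lpr_cf (f259398 IH) (Lpr_gf (f259455 IH) (Lpr_df (K14.f252273 IH) (Lpr_gt (K12.f212466 IH) (Lpr_ct (f47573 IH) (Lpr_gt (K10.f45401 IH) (Lpr_ct (K1.f45192 IH) (Lpe (K10.f45391 IH) (Lpe (K10.f45295 IH) (Lpn (LP (LK LD1_c5 LD2_c16 LD3_c11))))))))))))
theorem f260386 : Led Lsl_gf (LP (LK LD1_c5 LD2_c17 LD3_c48)) = (LP (LK LD1_c5 LD2_c15 LD3_c18)) :=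
  Lgr Lrot179 (Lpr_ct (f49084 IH) (Lpr_gt (f260383 IH) (Lpr_ct (K13.f179045 IH) (Lpr_dt (f231697 IH) (Lpr_cf (K13.f231884 IH) (Lpe (K13.f45294 IH) (Lpe (K10.f45295 IH) (Lpe (f259482 IH) (Lpr_dt (f189723 IH) (Lpn (LP (LK LD1_c5 LD2_c15 LD3_c18))))))))))))
theorem f260392 : Led Lsl_df (LP (LK LD1_c8 LD2_c29 LD3_c1)) = (LP (LK LD1_c5 LD2_c15 LD3_c18)) :=
  Lgr Lrot155 (Lpr_gt (f259482 IH) (Lpr_ct (K10.f45295 IH) (Lpr_gt (K13.f45294 IH) (Lpe (K13.f231884 IH) (Lpr_dt (K13.f179042 IH) (Lpe (K13.f179045 IH) (Lpe (f260383 IH) (Lpe (f49084 IH) (Lpr_gf (f260386 IH) (Lpn (LP (LK LD1_c5 LD2_c15 LD3_c18))))))))))))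
theorem f260399 : Led Lsl_gf (LP (LK LD1_c2 LD2_c4 LD3_c50)) = (LP (LK LD1_c2 LD2_c58 LD3_c61)) :=
  Lgr Lrot144 (Lpr_dt (f49082 IH) (Lpr_gt (K14.f231706 IH) (Lpr_dt (K10.f45222 IH) (Lpe (K1.f45195 IH) (Lpe (K1.f45196 IH) (Lpe (f259482 IH) (Lpr_df (f260392 IH) (Lpe (K10.f183687 IH) (Lpe (K10.f183684 IH) (Lpn (LP (LK LD1_c2 LD2_c58 LD3_c61))))))))))))
theorem f260407 : Led Lsl_dt (LP (LK LD1_c2 LD2_c41 LD3_c25)) = (LP (LK LD1_c2 LD2_c58 LD3_c61)) :=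
  Lgr Lrot136 (Lpr_et (f220548 IH) (Lpe (K12.f168327 IH) (Lpe (K12.f220561 IH) (Lpr_dt (K12.f216847 IH) (Lpe (K12.f168355 IH) (Lpr_df (K12.f220562 IH) (Lpr_gf (f257932 IH) (Lpe (K13.f49095 IH) (Lpr_dt (K9.f45400 IH) (Lpr_gf (f260399 IH) (Lpn (LP (LK LD1_c2 LD2_c58 LD3_c61)))))))))))))
theorem f260411 : Led Lsl_df (LP (LK LD1_c2 LD2_c41 LD3_c25)) = (LP (LK LD1_c2 LD2_c58 LD3_c61)) :=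
  Lgr Lrot38 (Lpr_dt (f260407 IH) (Lpn (LP (LK LD1_c2 LD2_c58 LD3_c61))))
theorem f212208 : Led Lsl_et (LP (LK LD1_c0 LD2_c35 LD3_c51)) = (LP (LK LD1_c1 LD2_c17 LD3_c36)) :=
  Lre_e IH (LK LD1_c0 LD2_c35 LD3_c51) (LK LD1_c1 LD2_c17 LD3_c36) Lrfl Lrfl
theorem f212207 : Led Lsl_dt (LP (LK LD1_c1 LD2_c17 LD3_c36)) = (LP (LK LD1_c2 LD2_c41 LD3_c56)) :=
  Lre_d IH (LK LD1_c1 LD2_c17 LD3_c36) (LK LD1_c2 LD2_c41 LD3_c56) Lrfl Lrfl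
theorem f32363 : Led Lsl_bt (LP (LK LD1_c1 LD2_c14 LD3_c34)) = (LP (LK LD1_c2 LD2_c34 LD3_c54)) :=
  Lre_b IH (LK LD1_c1 LD2_c14 LD3_c34) (LK LD1_c2 LD2_c34 LD3_c54) Lrfl Lrfl
theorem f48342 : Led Lsl_ff (LP (LK LD1_c1 LD2_c14 LD3_c34)) = (LP (LK LD1_c1 LD2_c15 LD3_c2)) :=
  Lgr Lrot25 (Lpr_bt (f32363 IH) (Lpr_ft (K10.f48334 IH) (Lpr_bt (K1.f32192 IH) (Lpn (LP (LK LD1_c1 LD2_c15 LD3_c2))))))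
theorem f32227 : Led Lsl_gt (LP (LK LD1_c1 LD2_c15 LD3_c2)) = (LP (LK LD1_c2 LD2_c36 LD3_c5)) :=
  Lre_g IH (LK LD1_c1 LD2_c15 LD3_c2) (LK LD1_c2 LD2_c36 LD3_c5) Lrfl Lrfl
theorem f48917 : Led Lsl_gf (LP (LK LD1_c1 LD2_c15 LD3_c2)) = (LP (LK LD1_c2 LD2_c36 LD3_c5)) :=
  Lgr Lrot76 (Lpr_af (K2.f32546 IH) (Lpr_ff (f48342 IH) (Lpr_gt (f32227 IH) (Lpn (LP (LK LD1_c2 LD2_c36 LD3_c5))))))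
theorem f32233 : Led Lsl_dt (LP (LK LD1_c5 LD2_c18 LD3_c59)) = (LP (LK LD1_c2 LD2_c36 LD3_c5)) :=
  Lre_d IH (LK LD1_c5 LD2_c18 LD3_c59) (LK LD1_c2 LD2_c36 LD3_c5) Lrfl Lrfl
theorem f185579 : Led Lsl_dt (LP (LK LD1_c1 LD2_c13 LD3_c22)) = (LP (LK LD1_c0 LD2_c35 LD3_c27)) :=
  Lgr Lrot105 (Lpe (K12.f185578 IH) (Lpe (K10.f185014 IH) (Lpr_gf (K10.f185574 IH) (Lpr_cf (K1.f32241 IH) (Lpr_gt (K9.f28334 IH) (Lpr_dt (K9.f28338 IH) (Lpe (K9.f28339 IH) (Lpr_dt (K9.f28341 IH) (Lpe (K12.f182491 IH) (Lpn (LP (LK LD1_c0 LD2_c35 LD3_c27))))))))))))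
theorem f212108 : Led Lsl_et (LP (LK LD1_c5 LD2_c18 LD3_c59)) = (LP (LK LD1_c5 LD2_c12 LD3_c11)) :=
  Lgr Lrot122 (Lpr_dt (f32233 IH) (Lpe (f48917 IH) (Lpe (K1.f32194 IH) (Lpr_et (K1.f32223 IH) (Lpr_gt (K9.f32853 IH) (Lpe (K10.f167618 IH) (Lpr_gt (K12.f212096 IH) (Lpe (f185579 IH) (Lpr_et (K12.f185625 IH) (Lpr_gt (K14.f185640 IH) (Lpn (LP (LK LD1_c5 LD2_c12 LD3_c11)))))))))))))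
theorem f32228 : Led Lsl_dt (LP (LK LD1_c2 LD2_c36 LD3_c5)) = (LP (LK LD1_c5 LD2_c18 LD3_c59)) :=
  Lre_d IH (LK LD1_c2 LD2_c36 LD3_c5) (LK LD1_c5 LD2_c18 LD3_c59) Lrfl Lrfl
theorem f198757 : Led Lsl_df (LP (LK LD1_c2 LD2_c42 LD3_c15)) = (LP (LK LD1_c5 LD2_c12 LD3_c11)) :=
  Lgr Lrot38 (Lpr_dt (K14.f198753 IH) (Lpn (LP (LK LD1_c5 LD2_c12 LD3_c11))))
theorem f198763 : Led Lsl_dt (LP (LK LD1_c1 LD2_c17 LD3_c42)) = (LP (LK LD1_c2 LD2_c42 LD3_c14)) :=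
  Lre_d IH (LK LD1_c1 LD2_c17 LD3_c42) (LK LD1_c2 LD2_c42 LD3_c14) Lrfl Lrfl
theorem f212112 : Led Lsl_ef (LP (LK LD1_c2 LD2_c36 LD3_c5)) = (LP (LK LD1_c2 LD2_c42 LD3_c14)) :=
  Lgr Lrot73 (Lpr_dt (f32228 IH) (Lpr_et (f212108 IH) (Lpe (f198757 IH) (Lpr_et (K14.f198752 IH) (Lpr_dt (f198763 IH) (Lpn (LP (LK LD1_c2 LD2_c42 LD3_c14))))))))
theorem f198760 : Led Lsl_dt (LP (LK LD1_c2 LD2_c42 LD3_c14)) = (LP (LK LD1_c1 LD2_c17 LD3_c42)) :=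
  Lre_d IH (LK LD1_c2 LD2_c42 LD3_c14) (LK LD1_c1 LD2_c17 LD3_c42) Lrfl Lrfl
theorem f175266 : Led Lsl_dt (LP (LK LD1_c1 LD2_c17 LD3_c43)) = (LP (LK LD1_c0 LD2_c35 LD3_c54)) :=
  Lre_d IH (LK LD1_c1 LD2_c17 LD3_c43) (LK LD1_c0 LD2_c35 LD3_c54) Lrfl Lrfl
theorem f212134 : Led Lsl_ef (LP (LK LD1_c1 LD2_c12 LD3_c1)) = (LP (LK LD1_c1 LD2_c17 LD3_c43)) :=
  Lgr Lrot167 (Lpr_gt (K10.f164692 IH) (Lpr_dt (K9.f164691 IH) (Lpr_gt (K9.f166410 IH) (Lpe (K1.f32224 IH) (Lpr_et (K1.f32221 IH) (Lpr_gt (f32227 IH) (Lpr_ef (f212112 IH) (Lpr_dt (f198760 IH) (Lpr_gt (K14.f198751 IH) (Lpe (f175266 IH) (Lpn (LP (LK LD1_c1 LD2_c17 LD3_c43)))))))))))))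
theorem f212140 : Led Lsl_et (LP (LK LD1_c1 LD2_c12 LD3_c1)) = (LP (LK LD1_c1 LD2_c17 LD3_c43)) :=
  Lgr Lrot87 (Lpr_ef (f212134 IH) (Lpn (LP (LK LD1_c1 LD2_c17 LD3_c43))))
theorem f177320 : Led Lsl_bt (LP (LK LD1_c2 LD2_c30 LD3_c2)) = (LP (LK LD1_c1 LD2_c12 LD3_c1)) :=
  Lre_b IH (LK LD1_c2 LD2_c30 LD3_c2) (LK LD1_c1 LD2_c12 LD3_c1) Lrfl Lrfl
theorem f212143 : Led Lsl_bt (LP (LK LD1_c1 LD2_c17 LD3_c43)) = (LP (LK LD1_c2 LD2_c41 LD3_c56)) :=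
  Lre_b IH (LK LD1_c1 LD2_c17 LD3_c43) (LK LD1_c2 LD2_c41 LD3_c56) Lrfl Lrfl
theorem f212144 : Led Lsl_ef (LP (LK LD1_c2 LD2_c30 LD3_c2)) = (LP (LK LD1_c2 LD2_c41 LD3_c56)) :=
  Lgr Lrot29 (Lpr_bt (f177320 IH) (Lpr_et (f212140 IH) (Lpr_bt (f212143 IH) (Lpn (LP (LK LD1_c2 LD2_c41 LD3_c56))))))
theorem f253177 : Led Lsl_dt (LP (LK LD1_c2 LD2_c30 LD3_c2)) = (LP (LK LD1_c2 LD2_c1 LD3_c45)) :=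
  Lgr Lrot77 (Lpr_ef (f212144 IH) (Lpe (f212207 IH) (Lpe (f212208 IH) (Lpe (K14.f212209 IH) (Lpr_ef (K14.f253174 IH) (Lpn (LP (LK LD1_c2 LD2_c1 LD3_c45))))))))
theorem f260593 : Led Lsl_gf (LP (LK LD1_c2 LD2_c30 LD3_c2)) = (LP (LK LD1_c1 LD2_c14 LD3_c21)) :=
  Lgr Lrot154 (Lpr_dt (f253177 IH) (Lpr_ct (f253241 IH) (Lpr_df (f260411 IH) (Lpe (K10.f169561 IH) (Lpe (K10.f169558 IH) (Lpr_gf (K9.f183668 IH) (Lpe (K1.f45220 IH) (Lpr_gt (K10.f32343 IH) (Lpr_dt (f32346 IH) (Lpn (LP (LK LD1_c1 LD2_c14 LD3_c21))))))))))))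
theorem f177321 : Led Lsl_ct (LP (LK LD1_c2 LD2_c30 LD3_c2)) = (LP (LK LD1_c5 LD2_c5 LD3_c38)) :=
  Lre_c IH (LK LD1_c2 LD2_c30 LD3_c2) (LK LD1_c5 LD2_c5 LD3_c38) Lrfl Lrfl
theorem f260599 : Led Lsl_gt (LP (LK LD1_c5 LD2_c5 LD3_c38)) = (LP (LK LD1_c8 LD2_c26 LD3_c9)) :=
  Lgr Lrot150 (Lpe (f177321 IH) (Lpr_gf (f260593 IH) (Lpe (f32346 IH) (Lpr_gt (K10.f45402 IH) (Lpr_ct (K1.f45382 IH) (Lpr_gt (K9.f45399 IH) (Lpr_ct (K13.f231693 IH) (Lpe (K14.f45014 IH) (Lpe (f212512 IH) (Lpn (LP (LK LD1_c8 LD2_c26 LD3_c9))))))))))))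
theorem f212188 : Led Lsl_ct (LP (LK LD1_c5 LD2_c5 LD3_c38)) = (LP (LK LD1_c2 LD2_c30 LD3_c2)) :=
  Lre_c IH (LK LD1_c5 LD2_c5 LD3_c38) (LK LD1_c2 LD2_c30 LD3_c2) Lrfl Lrfl
theorem f260628 : Led Lsl_gt (LP (LK LD1_c2 LD2_c30 LD3_c2)) = (LP (LK LD1_c1 LD2_c14 LD3_c17)) :=
  Lgr Lrot94 (Lpe (f212188 IH) (Lpr_gt (f260599 IH) (Lpr_dt (f212527 IH) (Lpr_gt (K13.f45412 IH) (Lpe (K10.f45393 IH) (Lpe (K1.f32508 IH) (Lpe (K1.f32335 IH) (Lpe (K10.f32340 IH) (Lpe (K10.f45414 IH) (Lpn (LP (LK LD1_c1 LD2_c14 LD3_c17))))))))))))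
theorem f253172 : Led Lsl_df (LP (LK LD1_c2 LD2_c30 LD3_c2)) = (LP (LK LD1_c2 LD2_c1 LD3_c45)) :=
  Lgr Lrot12 (Lpr_bt (f177320 IH) (Lpe (K10.f178985 IH) (Lpr_bt (K14.f253167 IH) (Lpn (LP (LK LD1_c2 LD2_c1 LD3_c45))))))
theorem f253181 : Led Lsl_at (LP (LK LD1_c2 LD2_c41 LD3_c47)) = (LP (LK LD1_c1 LD2_c17 LD3_c35)) :=
  Lre_a IH (LK LD1_c2 LD2_c41 LD3_c47) (LK LD1_c1 LD2_c17 LD3_c35) Lrfl Lrfl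
theorem f259248 : Led Lsl_gf (LP (LK LD1_c1 LD2_c17 LD3_c35)) = (LP (LK LD1_c0 LD2_c57 LD3_c58)) :=
  Lgr Lrot76 (Lpe (f253181 IH) (Lpr_ff (f259242 IH) (Lpe (K13.f246255 IH) (Lpn (LP (LK LD1_c0 LD2_c57 LD3_c58))))))
theorem f260641 : Led Lsl_gf (LP (LK LD1_c0 LD2_c57 LD3_c57)) = (LP (LK LD1_c2 LD2_c1 LD3_c41)) :=
  Lgr Lrot134 (Lpe (K12.f51443 IH) (Lpr_et (K13.f220057 IH) (Lpe (f259248 IH) (Lpr_ef (K14.f253174 IH) (Lpe (f253172 IH) (Lpr_gt (f260628 IH) (Lpe (K9.f32879 IH) (Lpr_et (K13.f47544 IH) (Lpr_gt (K13.f234197 IH) (Lpe (K14.f234199 IH) (Lpn (LP (LK LD1_c2 LD2_c1 LD3_c41)))))))))))))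
theorem f250671 : Led Lsl_at (LP (LK LD1_c4 LD2_c8 LD3_c12)) = (LP (LK LD1_c2 LD2_c1 LD3_c42)) :=
  Lgr Lrot51 (Lpr_df (K14.f250667 IH) (Lpe (K13.f236377 IH) (Lpe (K12.f220062 IH) (Lpn (LP (LK LD1_c2 LD2_c1 LD3_c42))))))
theorem f260643 : Led Lsl_ff (LP (LK LD1_c4 LD2_c8 LD3_c12)) = (LP (LK LD1_c2 LD2_c1 LD3_c41)) :=
  Lgr Lrot52 (Lpr_at (f250671 IH) (Lpr_gf (K12.f220046 IH) (Lpr_gf (f260641 IH) (Lpn (LP (LK LD1_c2 LD2_c1 LD3_c41))))))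
theorem f260652 : Led Lsl_ft (LP (LK LD1_c8 LD2_c16 LD3_c26)) = (LP (LK LD1_c4 LD2_c8 LD3_c38)) :=
  Lgr Lrot4 (Lpe (K14.f250658 IH) (Lpr_ff (f260643 IH) (Lpe (K14.f216854 IH) (Lpn (LP (LK LD1_c4 LD2_c8 LD3_c38))))))
theorem f260662 : Led Lsl_af (LP (LK LD1_c4 LD2_c16 LD3_c61)) = (LP (LK LD1_c4 LD2_c8 LD3_c38)) :=
  Lgr Lrot31 (Lpe (K14.f232279 IH) (Lpe (K14.f250687 IH) (Lpr_ft (f260652 IH) (Lpn (LP (LK LD1_c4 LD2_c8 LD3_c38))))))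
theorem f260664 : Led Lsl_at (LP (LK LD1_c4 LD2_c16 LD3_c61)) = (LP (LK LD1_c4 LD2_c8 LD3_c38)) :=
  Lgr Lrot100 (Lpr_af (f260662 IH) (Lpn (LP (LK LD1_c4 LD2_c8 LD3_c38))))
theorem f260660 : Led Lsl_ff (LP (LK LD1_c8 LD2_c16 LD3_c26)) = (LP (LK LD1_c4 LD2_c8 LD3_c38)) :=
  Lgr Lrot3 (Lpr_ft (f260652 IH) (Lpn (LP (LK LD1_c4 LD2_c8 LD3_c38))))
theorem f250852 : Led Lsl_at (LP (LK LD1_c8 LD2_c16 LD3_c26)) = (LP (LK LD1_c4 LD2_c8 LD3_c40)) :=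
  Lgr Lrot107 (Lpe (K14.f250658 IH) (Lpr_af (K14.f250725 IH) (Lpe (K12.f220042 IH) (Lpn (LP (LK LD1_c4 LD2_c8 LD3_c40))))))
theorem f260700 : Led Lsl_ff (LP (LK LD1_c4 LD2_c16 LD3_c61)) = (LP (LK LD1_c4 LD2_c8 LD3_c40)) :=
  Lgr Lrot30 (Lpr_at (f260664 IH) (Lpe (f260660 IH) (Lpr_at (f250852 IH) (Lpn (LP (LK LD1_c4 LD2_c8 LD3_c40))))))
theorem f260704 : Led Lsl_ft (LP (LK LD1_c4 LD2_c16 LD3_c61)) = (LP (LK LD1_c4 LD2_c8 LD3_c40)) :=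
  Lgr Lrot48 (Lpr_ff (f260700 IH) (Lpn (LP (LK LD1_c4 LD2_c8 LD3_c40))))
theorem f232290 : Led Lsl_bt (LP (LK LD1_c8 LD2_c33 LD3_c22)) = (LP (LK LD1_c4 LD2_c16 LD3_c61)) :=
  Lre_b IH (LK LD1_c8 LD2_c33 LD3_c22) (LK LD1_c4 LD2_c16 LD3_c61) Lrfl Lrfl
theorem f220049 : Led Lsl_bt (LP (LK LD1_c4 LD2_c8 LD3_c40)) = (LP (LK LD1_c8 LD2_c17 LD3_c23)) :=
  Lre_b IH (LK LD1_c4 LD2_c8 LD3_c40) (LK LD1_c8 LD2_c17 LD3_c23) Lrfl Lrfl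
theorem f260708 : Led Lsl_ff (LP (LK LD1_c8 LD2_c33 LD3_c22)) = (LP (LK LD1_c8 LD2_c17 LD3_c23)) :=
  Lgr Lrot25 (Lpr_bt (f232290 IH) (Lpr_ft (f260704 IH) (Lpr_bt (f220049 IH) (Lpn (LP (LK LD1_c8 LD2_c17 LD3_c23))))))
theorem f232291 : Led Lsl_ct (LP (LK LD1_c8 LD2_c33 LD3_c22)) = (LP (LK LD1_c4 LD2_c17 LD3_c1)) :=
  Lre_c IH (LK LD1_c8 LD2_c33 LD3_c22) (LK LD1_c4 LD2_c17 LD3_c1) Lrfl Lrfl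
theorem f167078 : Led Lsl_bt (LP (LK LD1_c4 LD2_c10 LD3_c23)) = (LP (LK LD1_c2 LD2_c2 LD3_c25)) :=
  Lre_b IH (LK LD1_c4 LD2_c10 LD3_c23) (LK LD1_c2 LD2_c2 LD3_c25) Lrfl Lrfl
theorem f220060 : Led Lsl_ct (LP (LK LD1_c8 LD2_c17 LD3_c23)) = (LP (LK LD1_c4 LD2_c10 LD3_c23)) :=
  Lgr Lrot83 (Lpe (f220049 IH) (Lpe (K12.f220038 IH) (Lpr_bf (K12.f220052 IH) (Lpe (K9.f53442 IH) (Lpe (f167078 IH) (Lpn (LP (LK LD1_c4 LD2_c10 LD3_c23))))))))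
theorem f220325 : Led Lsl_cf (LP (LK LD1_c8 LD2_c17 LD3_c23)) = (LP (LK LD1_c4 LD2_c10 LD3_c23)) :=
  Lgr Lrot11 (Lpr_ct (f220060 IH) (Lpn (LP (LK LD1_c4 LD2_c10 LD3_c23))))
theorem f260710 : Led Lsl_ft (LP (LK LD1_c4 LD2_c17 LD3_c1)) = (LP (LK LD1_c4 LD2_c10 LD3_c23)) :=
  Lgr Lrot4 (Lpe (f232291 IH) (Lpr_ff (f260708 IH) (Lpr_cf (f220325 IH) (Lpn (LP (LK LD1_c4 LD2_c10 LD3_c23))))))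
theorem f167649 : Led Lsl_bt (LP (LK LD1_c2 LD2_c5 LD3_c49)) = (LP (LK LD1_c4 LD2_c17 LD3_c1)) :=
  Lre_b IH (LK LD1_c2 LD2_c5 LD3_c49) (LK LD1_c4 LD2_c17 LD3_c1) Lrfl Lrfl
theorem f260715 : Led Lsl_ff (LP (LK LD1_c2 LD2_c5 LD3_c49)) = (LP (LK LD1_c2 LD2_c2 LD3_c25)) :=
  Lgr Lrot25 (Lpr_bt (f167649 IH) (Lpr_ft (f260710 IH) (Lpr_bt (f167078 IH) (Lpn (LP (LK LD1_c2 LD2_c2 LD3_c25))))))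
theorem f168326 : Led Lsl_ct (LP (LK LD1_c1 LD2_c17 LD3_c32)) = (LP (LK LD1_c0 LD2_c35 LD3_c49)) :=
  Lre_c IH (LK LD1_c1 LD2_c17 LD3_c32) (LK LD1_c0 LD2_c35 LD3_c49) Lrfl Lrfl
theorem f178840 : Led Lsl_gt (LP (LK LD1_c0 LD2_c58 LD3_c44)) = (LP (LK LD1_c1 LD2_c17 LD3_c32)) :=
  Lgr Lrot9 (Lpe (K9.f167046 IH) (Lpr_gt (K9.f1401 IH) (Lpr_ct (K9.f505 IH) (Lpr_gt (K9.f1386 IH) (Lpr_ct (K9.f51521 IH) (Lpe (K9.f170862 IH) (Lpe (K9.f53460 IH) (Lpr_gf (K9.f178830 IH) (Lpe (f168326 IH) (Lpn (LP (LK LD1_c1 LD2_c17 LD3_c32))))))))))))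
theorem f260730 : Led Lsl_at (LP (LK LD1_c2 LD2_c5 LD3_c49)) = (LP (LK LD1_c1 LD2_c17 LD3_c32)) :=
  Lgr Lrot26 (Lpr_ff (f260715 IH) (Lpr_gt (K9.f167076 IH) (Lpr_gt (f178840 IH) (Lpn (LP (LK LD1_c1 LD2_c17 LD3_c32))))))
theorem f237794 : Led Lsl_df (LP (LK LD1_c1 LD2_c17 LD3_c32)) = (LP (LK LD1_c2 LD2_c5 LD3_c49)) :=
  Lgr Lrot153 (Lpe (K9.f178498 IH) (Lpe (K9.f178325 IH) (Lpr_cf (K9.f166994 IH) (Lpe (K9.f178270 IH) (Lpr_gf (K9.f178278 IH) (Lpe (K9.f170079 IH) (Lpe (K9.f171190 IH) (Lpe (K9.f171193 IH) (Lpr_gt (K13.f237792 IH) (Lpn (LP (LK LD1_c2 LD2_c5 LD3_c49))))))))))))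
theorem f260728 : Led Lsl_ft (LP (LK LD1_c1 LD2_c17 LD3_c32)) = (LP (LK LD1_c2 LD2_c5 LD3_c51)) :=
  Lgr Lrot54 (Lpr_df (f237794 IH) (Lpr_ff (f260715 IH) (Lpr_df (K9.f179563 IH) (Lpn (LP (LK LD1_c2 LD2_c5 LD3_c51))))))
theorem f260736 : Led Lsl_af (LP (LK LD1_c2 LD2_c2 LD3_c25)) = (LP (LK LD1_c2 LD2_c5 LD3_c51)) :=
  Lgr Lrot45 (Lpe (f260715 IH) (Lpr_at (f260730 IH) (Lpr_ft (f260728 IH) (Lpn (LP (LK LD1_c2 LD2_c5 LD3_c51))))))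
theorem f260742 : Led Lsl_df (LP (LK LD1_c2 LD2_c5 LD3_c49)) = (LP (LK LD1_c1 LD2_c17 LD3_c32)) :=
  Lgr Lrot157 (Lpr_ct (K13.f167648 IH) (Lpr_dt (K9.f167641 IH) (Lpe (K9.f167764 IH) (Lpr_dt (K9.f6799 IH) (Lpr_ct (K9.f6805 IH) (Lpr_dt (K9.f179021 IH) (Lpr_ct (K9.f53441 IH) (Lpr_af (f260736 IH) (Lpe (f260728 IH) (Lpn (LP (LK LD1_c1 LD2_c17 LD3_c32))))))))))))
theorem f170849 : Led Lsl_gt (LP (LK LD1_c2 LD2_c2 LD3_c27)) = (LP (LK LD1_c0 LD2_c58 LD3_c7)) :=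
  Lre_g IH (LK LD1_c2 LD2_c2 LD3_c27) (LK LD1_c0 LD2_c58 LD3_c7) Lrfl Lrfl
theorem f260748 : Led Lsl_dt (LP (LK LD1_c2 LD2_c3 LD3_c34)) = (LP (LK LD1_c2 LD2_c2 LD3_c27)) :=
  Lgr Lrot6 (Lpr_gt (K14.f170163 IH) (Lpr_ct (K9.f167306 IH) (Lpr_gt (K9.f500 IH) (Lpr_ct (K12.f53388 IH) (Lpr_df (f260742 IH) (Lpe (K9.f168323 IH) (Lpe (K9.f178496 IH) (Lpe (K9.f170610 IH) (Lpe (f170849 IH) (Lpn (LP (LK LD1_c2 LD2_c2 LD3_c27))))))))))))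
theorem f178307 : Led Lsl_gf (LP (LK LD1_c0 LD2_c58 LD3_c43)) = (LP (LK LD1_c0 LD2_c26 LD3_c45)) :=
  Lgr Lrot147 (Lpr_ct (K14.f166468 IH) (Lpr_gt (K14.f170163 IH) (Lpr_ct (K9.f167306 IH) (Lpe (K9.f499 IH) (Lpr_cf (K9.f167304 IH) (Lpe (K0.f3057 IH) (Lpe (K0.f2130 IH) (Lpr_gf (K9.f178303 IH) (Lpe (K9.f51582 IH) (Lpn (LP (LK LD1_c0 LD2_c26 LD3_c45))))))))))))
theorem f178276 : Led Lsl_df (LP (LK LD1_c0 LD2_c26 LD3_c39)) = (LP (LK LD1_c0 LD2_c31 LD3_c53)) :=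
  Lgr Lrot38 (Lpr_dt (K9.f178270 IH) (Lpn (LP (LK LD1_c0 LD2_c31 LD3_c53))))
theorem f260761 : Led Lsl_ct (LP (LK LD1_c1 LD2_c0 LD3_c20)) = (LP (LK LD1_c2 LD2_c2 LD3_c27)) :=
  Lgr Lrot7 (Lpr_df (K13.f237798 IH) (Lpe (K11.f53326 IH) (Lpr_df (f178276 IH) (Lpe (K9.f2864 IH) (Lpe (K0.f2216 IH) (Lpe (K9.f167293 IH) (Lpe (K9.f170149 IH) (Lpr_gt (K14.f170180 IH) (Lpr_dt (f260748 IH) (Lpn (LP (LK LD1_c2 LD2_c2 LD3_c27))))))))))))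
theorem f260765 : Led Lsl_gt (LP (LK LD1_c0 LD2_c27 LD3_c36)) = (LP (LK LD1_c1 LD2_c0 LD3_c20)) :=
  Lgr Lrot187 (Lpe (K12.f179543 IH) (Lpr_gf (K12.f180239 IH) (Lpe (f237794 IH) (Lpe (K9.f178498 IH) (Lpr_ct (K9.f51581 IH) (Lpe (f178307 IH) (Lpr_ct (K14.f166468 IH) (Lpr_dt (f260748 IH) (Lpe (f260761 IH) (Lpn (LP (LK LD1_c1 LD2_c0 LD3_c20))))))))))))
theorem f179545 : Led Lsl_bt (LP (LK LD1_c1 LD2_c0 LD3_c38)) = (LP (LK LD1_c0 LD2_c27 LD3_c36)) :=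
  Lre_b IH (LK LD1_c1 LD2_c0 LD3_c38) (LK LD1_c0 LD2_c27 LD3_c36) Lrfl Lrfl
theorem f179546 : Led Lsl_ct (LP (LK LD1_c1 LD2_c0 LD3_c38)) = (LP (LK LD1_c2 LD2_c7 LD3_c11)) :=
  Lre_c IH (LK LD1_c1 LD2_c0 LD3_c38) (LK LD1_c2 LD2_c7 LD3_c11) Lrfl Lrfl
theorem f260772 : Led Lsl_gt (LP (LK LD1_c4 LD2_c19 LD3_c34)) = (LP (LK LD1_c2 LD2_c7 LD3_c11)) :=
  Lre_g IH (LK LD1_c4 LD2_c19 LD3_c34) (LK LD1_c2 LD2_c7 LD3_c11) Lrfl Lrfl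
theorem f200381 : Led Lsl_bt (LP (LK LD1_c2 LD2_c6 LD3_c46)) = (LP (LK LD1_c1 LD2_c0 LD3_c20)) :=
  Lre_b IH (LK LD1_c2 LD2_c6 LD3_c46) (LK LD1_c1 LD2_c0 LD3_c20) Lrfl Lrfl
theorem f237802 : Led Lsl_ct (LP (LK LD1_c2 LD2_c6 LD3_c46)) = (LP (LK LD1_c4 LD2_c18 LD3_c60)) :=
  Lre_c IH (LK LD1_c2 LD2_c6 LD3_c46) (LK LD1_c4 LD2_c18 LD3_c60) Lrfl Lrfl
theorem f232930 : Led Lsl_dt (LP (LK LD1_c9 LD2_c34 LD3_c22)) = (LP (LK LD1_c4 LD2_c51 LD3_c10)) :=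
  Lre_d IH (LK LD1_c9 LD2_c34 LD3_c22) (LK LD1_c4 LD2_c51 LD3_c10) Lrfl Lrfl
theorem f199193 : Led Lsl_df (LP (LK LD1_c1 LD2_c59 LD3_c19)) = (LP (LK LD1_c2 LD2_c23 LD3_c24)) :=
  Lgr Lrot38 (Lpr_dt (K13.f199188 IH) (Lpn (LP (LK LD1_c2 LD2_c23 LD3_c24))))
theorem f199321 : Led Lsl_dt (LP (LK LD1_c4 LD2_c51 LD3_c10)) = (LP (LK LD1_c9 LD2_c34 LD3_c22)) :=
  Lre_d IH (LK LD1_c4 LD2_c51 LD3_c10) (LK LD1_c9 LD2_c34 LD3_c22) Lrfl Lrfl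
theorem f233937 : Led Lsl_gt (LP (LK LD1_c9 LD2_c34 LD3_c22)) = (LP (LK LD1_c9 LD2_c33 LD3_c53)) :=
  Lgr Lrot49 (Lpe (f199321 IH) (Lpe (K14.f199320 IH) (Lpe (K13.f272 IH) (Lpr_gt (K13.f2079 IH) (Lpe (f199193 IH) (Lpr_gt (K13.f233935 IH) (Lpr_dt (K13.f189157 IH) (Lpe (K13.f2078 IH) (Lpe (K13.f189249 IH) (Lpn (LP (LK LD1_c9 LD2_c33 LD3_c53))))))))))))
theorem f200106 : Led Lsl_gt (LP (LK LD1_c4 LD2_c51 LD3_c34)) = (LP (LK LD1_c9 LD2_c35 LD3_c13)) :=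
  Lre_g IH (LK LD1_c4 LD2_c51 LD3_c34) (LK LD1_c9 LD2_c35 LD3_c13) Lrfl Lrfl
theorem f233973 : Led Lsl_cf (LP (LK LD1_c9 LD2_c34 LD3_c22)) = (LP (LK LD1_c9 LD2_c35 LD3_c13)) :=
  Lgr Lrot169 (Lpr_gt (f233937 IH) (Lpe (K13.f233705 IH) (Lpe (K13.f184771 IH) (Lpe (K13.f184770 IH) (Lpr_gf (K14.f233406 IH) (Lpe (K11.f186991 IH) (Lpe (K11.f171039 IH) (Lpe (K13.f200111 IH) (Lpr_gt (f200106 IH) (Lpn (LP (LK LD1_c9 LD2_c35 LD3_c13))))))))))))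
theorem f232906 : Led Lsl_dt (LP (LK LD1_c4 LD2_c51 LD3_c43)) = (LP (LK LD1_c2 LD2_c23 LD3_c41)) :=
  Lre_d IH (LK LD1_c4 LD2_c51 LD3_c43) (LK LD1_c2 LD2_c23 LD3_c41) Lrfl Lrfl
theorem f233990 : Led Lsl_gf (LP (LK LD1_c4 LD2_c51 LD3_c43)) = (LP (LK LD1_c9 LD2_c35 LD3_c13)) :=
  Lgr Lrot144 (Lpr_dt (f232906 IH) (Lpe (K13.f232899 IH) (Lpr_dt (K13.f29146 IH) (Lpe (K1.f29125 IH) (Lpr_df (K1.f39059 IH) (Lpr_gf (K13.f232308 IH) (Lpe (K13.f189249 IH) (Lpe (f233937 IH) (Lpr_cf (f233973 IH) (Lpn (LP (LK LD1_c9 LD2_c35 LD3_c13))))))))))))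
theorem f232907 : Led Lsl_dt (LP (LK LD1_c2 LD2_c23 LD3_c41)) = (LP (LK LD1_c4 LD2_c51 LD3_c43)) :=
  Lre_d IH (LK LD1_c2 LD2_c23 LD3_c41) (LK LD1_c4 LD2_c51 LD3_c43) Lrfl Lrfl
theorem f2794 : Led Lsl_dt (LP (LK LD1_c2 LD2_c23 LD3_c43)) = (LP (LK LD1_c4 LD2_c51 LD3_c50)) :=
  Lre_d IH (LK LD1_c2 LD2_c23 LD3_c43) (LK LD1_c4 LD2_c51 LD3_c50) Lrfl Lrfl
theorem f233084 : Led Lsl_ct (LP (LK LD1_c4 LD2_c51 LD3_c43)) = (LP (LK LD1_c4 LD2_c51 LD3_c50)) :=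
  Lgr Lrot7 (Lpe (f232907 IH) (Lpe (K13.f232902 IH) (Lpr_df (K13.f233004 IH) (Lpe (K13.f232918 IH) (Lpe (K13.f232944 IH) (Lpr_gt (K13.f1794 IH) (Lpr_dt (K1.f1917 IH) (Lpr_gt (K12.f2793 IH) (Lpr_dt (f2794 IH) (Lpn (LP (LK LD1_c4 LD2_c51 LD3_c50))))))))))))
theorem f1930 : Led Lsl_dt (LP (LK LD1_c4 LD2_c51 LD3_c50)) = (LP (LK LD1_c2 LD2_c23 LD3_c43)) :=
  Lre_d IH (LK LD1_c4 LD2_c51 LD3_c50) (LK LD1_c2 LD2_c23 LD3_c43) Lrfl Lrfl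
theorem f233985 : Led Lsl_ct (LP (LK LD1_c9 LD2_c34 LD3_c22)) = (LP (LK LD1_c9 LD2_c35 LD3_c13)) :=
  Lgr Lrot59 (Lpr_cf (f233973 IH) (Lpn (LP (LK LD1_c9 LD2_c35 LD3_c13))))
theorem f233992 : Led Lsl_gt (LP (LK LD1_c9 LD2_c33 LD3_c56)) = (LP (LK LD1_c9 LD2_c34 LD3_c22)) :=
  Lgr Lrot9 (Lpe (K13.f33321 IH) (Lpr_gt (K13.f184371 IH) (Lpr_ct (K1.f29111 IH) (Lpr_gt (K12.f29084 IH) (Lpe (K12.f186923 IH) (Lpe (f1930 IH) (Lpe (f233084 IH) (Lpr_gf (f233990 IH) (Lpe (f233985 IH) (Lpn (LP (LK LD1_c9 LD2_c34 LD3_c22))))))))))))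
theorem f255675 : Led Lsl_gt (LP (LK LD1_c4 LD2_c18 LD3_c60)) = (LP (LK LD1_c4 LD2_c51 LD3_c5)) :=
  Lgr Lrot49 (Lpe (K13.f200383 IH) (Lpr_gf (K13.f238008 IH) (Lpe (K13.f233341 IH) (Lpr_gt (f233992 IH) (Lpr_dt (f232930 IH) (Lpr_gt (K14.f255671 IH) (Lpr_dt (K13.f233159 IH) (Lpe (K13.f233167 IH) (Lpe (K14.f232524 IH) (Lpn (LP (LK LD1_c4 LD2_c51 LD3_c5))))))))))))
theorem f219651 : Led Lsl_at (LP (LK LD1_c4 LD2_c8 LD3_c53)) = (LP (LK LD1_c2 LD2_c1 LD3_c51)) :=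
  Lre_a IH (LK LD1_c4 LD2_c8 LD3_c53) (LK LD1_c2 LD2_c1 LD3_c51) Lrfl Lrfl
theorem f219591 : Led Lsl_gt (LP (LK LD1_c4 LD2_c8 LD3_c58)) = (LP (LK LD1_c2 LD2_c1 LD3_c51)) :=
  Lre_g IH (LK LD1_c4 LD2_c8 LD3_c58) (LK LD1_c2 LD2_c1 LD3_c51) Lrfl Lrfl
theorem f219658 : Led Lsl_gt (LP (LK LD1_c2 LD2_c8 LD3_c5)) = (LP (LK LD1_c4 LD2_c8 LD3_c58)) :=
  Lgr Lrot5 (Lpr_ft (K14.f219647 IH) (Lpr_at (f219651 IH) (Lpe (f219591 IH) (Lpn (LP (LK LD1_c4 LD2_c8 LD3_c58))))))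
theorem f260773 : Led Lsl_cf (LP (LK LD1_c4 LD2_c19 LD3_c34)) = (LP (LK LD1_c4 LD2_c8 LD3_c58)) :=
  Lgr Lrot125 (Lpr_gt (f260772 IH) (Lpe (f179546 IH) (Lpr_bt (f179545 IH) (Lpr_gt (f260765 IH) (Lpe (f200381 IH) (Lpr_ct (f237802 IH) (Lpr_gt (f255675 IH) (Lpe (K14.f186922 IH) (Lpe (K14.f187151 IH) (Lpr_gt (f219658 IH) (Lpn (LP (LK LD1_c4 LD2_c8 LD3_c58)))))))))))))
theorem f170943 : Led Lsl_bt (LP (LK LD1_c0 LD2_c26 LD3_c23)) = (LP (LK LD1_c0 LD2_c58 LD3_c4)) :=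
  Lre_b IH (LK LD1_c0 LD2_c26 LD3_c23) (LK LD1_c0 LD2_c58 LD3_c4) Lrfl Lrfl
theorem f260795 : Led Lsl_bf (LP (LK LD1_c2 LD2_c2 LD3_c18)) = (LP (LK LD1_c4 LD2_c8 LD3_c58)) :=
  Lgr Lrot34 (Lpe (K14.f170944 IH) (Lpe (f170943 IH) (Lpr_ct (K9.f170848 IH) (Lpe (f170849 IH) (Lpe (f260761 IH) (Lpe (f260765 IH) (Lpe (f179545 IH) (Lpr_ct (f179546 IH) (Lpe (f260772 IH) (Lpr_cf (f260773 IH) (Lpn (LP (LK LD1_c4 LD2_c8 LD3_c58)))))))))))))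
theorem f260797 : Led Lsl_bt (LP (LK LD1_c2 LD2_c2 LD3_c18)) = (LP (LK LD1_c4 LD2_c8 LD3_c58)) :=
  Lgr Lrot127 (Lpr_bf (f260795 IH) (Lpn (LP (LK LD1_c4 LD2_c8 LD3_c58))))
theorem f182258 : Led Lsl_ct (LP (LK LD1_c2 LD2_c2 LD3_c18)) = (LP (LK LD1_c4 LD2_c10 LD3_c11)) :=
  Lre_c IH (LK LD1_c2 LD2_c2 LD3_c18) (LK LD1_c4 LD2_c10 LD3_c11) Lrfl Lrfl
theorem f232202 : Led Lsl_ct (LP (LK LD1_c2 LD2_c23 LD3_c34)) = (LP (LK LD1_c1 LD2_c8 LD3_c53)) :=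
  Lre_c IH (LK LD1_c2 LD2_c23 LD3_c34) (LK LD1_c1 LD2_c8 LD3_c53) Lrfl Lrfl
theorem f238037 : Led Lsl_gt (LP (LK LD1_c1 LD2_c8 LD3_c53)) = (LP (LK LD1_c2 LD2_c6 LD3_c46)) :=
  Lgr Lrot94 (Lpe (f232202 IH) (Lpe (K13.f233380 IH) (Lpr_dt (K13.f233140 IH) (Lpr_gt (K13.f238011 IH) (Lpr_dt (K13.f33330 IH) (Lpe (K13.f33320 IH) (Lpr_df (K0.f33316 IH) (Lpe (K13.f236354 IH) (Lpe (K13.f237806 IH) (Lpn (LP (LK LD1_c2 LD2_c6 LD3_c46))))))))))))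
theorem f246812 : Led Lsl_bt (LP (LK LD1_c2 LD2_c23 LD3_c30)) = (LP (LK LD1_c1 LD2_c8 LD3_c53)) :=
  Lre_b IH (LK LD1_c2 LD2_c23 LD3_c30) (LK LD1_c1 LD2_c8 LD3_c53) Lrfl Lrfl
theorem f229619 : Led Lsl_ct (LP (LK LD1_c2 LD2_c23 LD3_c30)) = (LP (LK LD1_c4 LD2_c51 LD3_c21)) :=
  Lre_c IH (LK LD1_c2 LD2_c23 LD3_c30) (LK LD1_c4 LD2_c51 LD3_c21) Lrfl Lrfl
theorem f260886 : Led Lsl_gt (LP (LK LD1_c4 LD2_c10 LD3_c11)) = (LP (LK LD1_c4 LD2_c51 LD3_c21)) :=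
  Lgr Lrot65 (Lpe (f182258 IH) (Lpr_bt (f260797 IH) (Lpe (f219658 IH) (Lpr_bf (K14.f187151 IH) (Lpr_ct (K14.f186922 IH) (Lpe (f255675 IH) (Lpe (f237802 IH) (Lpe (f238037 IH) (Lpe (f246812 IH) (Lpr_ct (f229619 IH) (Lpn (LP (LK LD1_c4 LD2_c51 LD3_c21)))))))))))))
theorem f229621 : Led Lsl_ct (LP (LK LD1_c4 LD2_c51 LD3_c21)) = (LP (LK LD1_c2 LD2_c23 LD3_c30)) :=
  Lre_c IH (LK LD1_c4 LD2_c51 LD3_c21) (LK LD1_c2 LD2_c23 LD3_c30) Lrfl Lrfl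
theorem f260889 : Led Lsl_ct (LP (LK LD1_c0 LD2_c54 LD3_c42)) = (LP (LK LD1_c1 LD2_c8 LD3_c51)) :=
  Lgr Lrot110 (Lpe (K12.f41372 IH) (Lpr_cf (K12.f219119 IH) (Lpe (K12.f170616 IH) (Lpe (K9.f170695 IH) (Lpr_gt (K14.f170944 IH) (Lpr_ct (f182258 IH) (Lpr_gt (f260886 IH) (Lpr_ct (f229621 IH) (Lpe (K14.f229617 IH) (Lpn (LP (LK LD1_c1 LD2_c8 LD3_c51))))))))))))
theorem f223079 : Led Lsl_bt (LP (LK LD1_c0 LD2_c54 LD3_c42)) = (LP (LK LD1_c1 LD2_c55 LD3_c58)) :=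
  Lre_b IH (LK LD1_c0 LD2_c54 LD3_c42) (LK LD1_c1 LD2_c55 LD3_c58) Lrfl Lrfl
theorem f201080 : Led Lsl_cf (LP (LK LD1_c2 LD2_c6 LD3_c34)) = (LP (LK LD1_c1 LD2_c58 LD3_c47)) :=
  Lgr Lrot97 (Lpr_bt (K12.f188764 IH) (Lpr_ct (K12.f188696 IH) (Lpr_bt (K10.f188760 IH) (Lpr_ct (K10.f187239 IH) (Lpr_bt (K11.f201076 IH) (Lpn (LP (LK LD1_c1 LD2_c58 LD3_c47))))))))
theorem f231243 : Led Lsl_bt (LP (LK LD1_c0 LD2_c28 LD3_c31)) = (LP (LK LD1_c1 LD2_c2 LD3_c33)) :=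
  Lre_b IH (LK LD1_c0 LD2_c28 LD3_c31) (LK LD1_c1 LD2_c2 LD3_c33) Lrfl Lrfl
theorem f166905 : Led Lsl_et (LP (LK LD1_c2 LD2_c3 LD3_c22)) = (LP (LK LD1_c0 LD2_c58 LD3_c39)) :=
  Lre_e IH (LK LD1_c2 LD2_c3 LD3_c22) (LK LD1_c0 LD2_c58 LD3_c39) Lrfl Lrfl
theorem f256290 : Led Lsl_bt (LP (LK LD1_c0 LD2_c58 LD3_c39)) = (LP (LK LD1_c1 LD2_c0 LD3_c17)) :=
  Lgr Lrot119 (Lpe (f166905 IH) (Lpr_bf (K14.f256288 IH) (Lpe (K14.f230306 IH) (Lpn (LP (LK LD1_c1 LD2_c0 LD3_c17))))))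
theorem f256788 : Led Lsl_ct (LP (LK LD1_c0 LD2_c28 LD3_c31)) = (LP (LK LD1_c0 LD2_c58 LD3_c39)) :=
  Lgr Lrot83 (Lpe (K12.f171914 IH) (Lpr_cf (f256786 IH) (Lpe (K14.f230943 IH) (Lpe (K14.f230310 IH) (Lpe (f256290 IH) (Lpn (LP (LK LD1_c0 LD2_c58 LD3_c39))))))))
theorem f260908 : Led Lsl_gt (LP (LK LD1_c0 LD2_c56 LD3_c45)) = (LP (LK LD1_c0 LD2_c58 LD3_c39)) :=
  Lgr Lrot65 (Lpe (K10.f44499 IH) (Lpe (K9.f47468 IH) (Lpe (K14.f223069 IH) (Lpe (f223079 IH) (Lpr_ct (f260889 IH) (Lpr_gf (K12.f229610 IH) (Lpr_cf (f201080 IH) (Lpr_gf (f231235 IH) (Lpe (f231243 IH) (Lpr_ct (f256788 IH) (Lpn (LP (LK LD1_c0 LD2_c58 LD3_c39)))))))))))))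
theorem f53730 : Led Lsl_at (LP (LK LD1_c0 LD2_c57 LD3_c11)) = (LP (LK LD1_c0 LD2_c57 LD3_c12)) :=
  Lgr Lrot67 (Lpe (K13.f48027 IH) (Lpe (K10.f48019 IH) (Lpr_bf (K8.f48160 IH) (Lpe (K10.f53612 IH) (Lpr_bf (K10.f53728 IH) (Lpn (LP (LK LD1_c0 LD2_c57 LD3_c12))))))))
theorem f252085 : Led Lsl_gf (LP (LK LD1_c0 LD2_c57 LD3_c12)) = (LP (LK LD1_c0 LD2_c58 LD3_c53)) :=
  Lgr Lrot76 (Lpe (f53730 IH) (Lpe (K12.f188842 IH) (Lpr_gt (K14.f252083 IH) (Lpn (LP (LK LD1_c0 LD2_c58 LD3_c53))))))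
theorem f258294 : Led Lsl_bt (LP (LK LD1_c0 LD2_c58 LD3_c12)) = (LP (LK LD1_c0 LD2_c59 LD3_c61)) :=
  Lgr Lrot119 (Lpe (f256804 IH) (Lpr_bf (f258288 IH) (Lpe (K14.f231219 IH) (Lpn (LP (LK LD1_c0 LD2_c59 LD3_c61))))))
theorem f253416 : Led Lsl_ct (LP (LK LD1_c0 LD2_c58 LD3_c39)) = (LP (LK LD1_c0 LD2_c28 LD3_c31)) :=
  Lgr Lrot15 (Lpe (f166905 IH) (Lpr_cf (K14.f253408 IH) (Lpe (K14.f253415 IH) (Lpn (LP (LK LD1_c0 LD2_c28 LD3_c31))))))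
theorem f219616 : Led Lsl_cf (LP (LK LD1_c1 LD2_c2 LD3_c32)) = (LP (LK LD1_c2 LD2_c1 LD3_c48)) :=
  Lgr Lrot11 (Lpr_ct (K12.f219609 IH) (Lpn (LP (LK LD1_c2 LD2_c1 LD3_c48))))
theorem f219614 : Led Lsl_bf (LP (LK LD1_c0 LD2_c58 LD3_c1)) = (LP (LK LD1_c2 LD2_c1 LD3_c48)) :=
  Lgr Lrot90 (Lpe (K12.f219119 IH) (Lpr_bt (K9.f40832 IH) (Lpr_ct (K1.f41399 IH) (Lpr_bt (K14.f41417 IH) (Lpr_ct (K12.f219609 IH) (Lpn (LP (LK LD1_c2 LD2_c1 LD3_c48))))))))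
theorem f260916 : Led Lsl_gf (LP (LK LD1_c0 LD2_c59 LD3_c61)) = (LP (LK LD1_c0 LD2_c58 LD3_c1)) :=
  Lgr Lrot124 (Lpe (f258294 IH) (Lpe (K14.f228919 IH) (Lpe (f252085 IH) (Lpr_cf (K10.f44491 IH) (Lpr_bt (K10.f44489 IH) (Lpr_gt (f260908 IH) (Lpr_ct (f253416 IH) (Lpr_gt (K14.f41725 IH) (Lpr_cf (f219616 IH) (Lpe (f219614 IH) (Lpn (LP (LK LD1_c0 LD2_c58 LD3_c1)))))))))))))
theorem f201095 : Led Lsl_at (LP (LK LD1_c0 LD2_c27 LD3_c16)) = (LP (LK LD1_c0 LD2_c59 LD3_c61)) :=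
  Lre_a IH (LK LD1_c0 LD2_c27 LD3_c16) (LK LD1_c0 LD2_c59 LD3_c61) Lrfl Lrfl
theorem f201096 : Led Lsl_at (LP (LK LD1_c1 LD2_c58 LD3_c48)) = (LP (LK LD1_c0 LD2_c56 LD3_c13)) :=
  Lre_a IH (LK LD1_c1 LD2_c58 LD3_c48) (LK LD1_c0 LD2_c56 LD3_c13) Lrfl Lrfl
theorem f201097 : Led Lsl_ct (LP (LK LD1_c0 LD2_c59 LD3_c61)) = (LP (LK LD1_c1 LD2_c58 LD3_c48)) :=
  Lgr Lrot111 (Lpe (f201095 IH) (Lpr_cf (K11.f201093 IH) (Lpe (f201096 IH) (Lpn (LP (LK LD1_c1 LD2_c58 LD3_c48))))))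
theorem f260990 : Led Lsl_gt (LP (LK LD1_c1 LD2_c58 LD3_c48)) = (LP (LK LD1_c1 LD2_c14 LD3_c8)) :=
  Lgr Lrot149 (Lpe (f201097 IH) (Lpr_gf (f260916 IH) (Lpr_bf (f219614 IH) (Lpe (f219616 IH) (Lpe (K14.f41725 IH) (Lpe (f253416 IH) (Lpr_bt (f256290 IH) (Lpe (K14.f231230 IH) (Lpe (K13.f48027 IH) (Lpr_ct (K10.f53829 IH) (Lpn (LP (LK LD1_c1 LD2_c14 LD3_c8)))))))))))))
theorem f253277 : Led Lsl_et (LP (LK LD1_c4 LD2_c3 LD3_c37)) = (LP (LK LD1_c1 LD2_c58 LD3_c48)) :=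
  Lre_e IH (LK LD1_c4 LD2_c3 LD3_c37) (LK LD1_c1 LD2_c58 LD3_c48) Lrfl Lrfl
theorem f260997 : Led Lsl_dt (LP (LK LD1_c4 LD2_c3 LD3_c37)) = (LP (LK LD1_c4 LD2_c8 LD3_c58)) :=
  Lgr Lrot56 (Lpr_et (f253277 IH) (Lpr_gt (f260990 IH) (Lpe (K8.f33508 IH) (Lpr_dt (K1.f45097 IH) (Lpr_gt (K1.f45726 IH) (Lpe (K1.f29003 IH) (Lpr_et (K10.f41846 IH) (Lpr_gt (K10.f45741 IH) (Lpr_dt (K14.f45746 IH) (Lpr_gt (f219658 IH) (Lpn (LP (LK LD1_c4 LD2_c8 LD3_c58)))))))))))))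
theorem f253274 : Led Lsl_et (LP (LK LD1_c1 LD2_c58 LD3_c48)) = (LP (LK LD1_c4 LD2_c3 LD3_c37)) :=
  Lre_e IH (LK LD1_c1 LD2_c58 LD3_c48) (LK LD1_c4 LD2_c3 LD3_c37) Lrfl Lrfl
theorem f256774 : Led Lsl_dt (LP (LK LD1_c4 LD2_c3 LD3_c36)) = (LP (LK LD1_c1 LD2_c58 LD3_c48)) :=
  Lre_d IH (LK LD1_c4 LD2_c3 LD3_c36) (LK LD1_c1 LD2_c58 LD3_c48) Lrfl Lrfl
theorem f256777 : Led Lsl_et (LP (LK LD1_c8 LD2_c7 LD3_c46)) = (LP (LK LD1_c4 LD2_c3 LD3_c36)) :=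
  Lre_e IH (LK LD1_c8 LD2_c7 LD3_c46) (LK LD1_c4 LD2_c3 LD3_c36) Lrfl Lrfl
theorem f260819 : Led Lsl_et (LP (LK LD1_c4 LD2_c8 LD3_c58)) = (LP (LK LD1_c8 LD2_c17 LD3_c60)) :=
  Lre_e IH (LK LD1_c4 LD2_c8 LD3_c58) (LK LD1_c8 LD2_c17 LD3_c60) Lrfl Lrfl
theorem f261006 : Led Lsl_df (LP (LK LD1_c8 LD2_c7 LD3_c46)) = (LP (LK LD1_c8 LD2_c17 LD3_c60)) :=
  Lgr Lrot70 (Lpr_et (f256777 IH) (Lpr_dt (f256774 IH) (Lpr_et (f253274 IH) (Lpr_dt (f260997 IH) (Lpr_et (f260819 IH) (Lpn (LP (LK LD1_c8 LD2_c17 LD3_c60))))))))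
theorem f261025 : Led Lsl_ft (LP (LK LD1_c8 LD2_c7 LD3_c46)) = (LP (LK LD1_c15 LD2_c18 LD3_c29)) :=
  Lre_f IH (LK LD1_c8 LD2_c7 LD3_c46) (LK LD1_c15 LD2_c18 LD3_c29) Lrfl Lrfl
theorem f260815 : Led Lsl_ft (LP (LK LD1_c15 LD2_c36 LD3_c29)) = (LP (LK LD1_c8 LD2_c17 LD3_c60)) :=
  Lre_f IH (LK LD1_c15 LD2_c36 LD3_c29) (LK LD1_c8 LD2_c17 LD3_c60) Lrfl Lrfl
theorem f261026 : Led Lsl_dt (LP (LK LD1_c15 LD2_c18 LD3_c29)) = (LP (LK LD1_c15 LD2_c36 LD3_c29)) :=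
  Lgr Lrot60 (Lpe (f261025 IH) (Lpr_df (f261006 IH) (Lpe (f260815 IH) (Lpn (LP (LK LD1_c15 LD2_c36 LD3_c29))))))
theorem f261034 : Led Lsl_df (LP (LK LD1_c15 LD2_c18 LD3_c29)) = (LP (LK LD1_c15 LD2_c36 LD3_c29)) :=
  Lgr Lrot38 (Lpr_dt (f261026 IH) (Lpn (LP (LK LD1_c15 LD2_c36 LD3_c29))))
theorem f182264 : Led Lsl_et (LP (LK LD1_c2 LD2_c2 LD3_c18)) = (LP (LK LD1_c4 LD2_c10 LD3_c12)) :=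
  Lre_e IH (LK LD1_c2 LD2_c2 LD3_c18) (LK LD1_c4 LD2_c10 LD3_c12) Lrfl Lrfl
theorem f219602 : Led Lsl_et (LP (LK LD1_c8 LD2_c17 LD3_c60)) = (LP (LK LD1_c4 LD2_c8 LD3_c58)) :=
  Lre_e IH (LK LD1_c8 LD2_c17 LD3_c60) (LK LD1_c4 LD2_c8 LD3_c58) Lrfl Lrfl
theorem f260802 : Led Lsl_bt (LP (LK LD1_c4 LD2_c10 LD3_c12)) = (LP (LK LD1_c8 LD2_c17 LD3_c60)) :=
  Lgr Lrot119 (Lpe (f182264 IH) (Lpr_bf (f260795 IH) (Lpe (f219602 IH) (Lpn (LP (LK LD1_c8 LD2_c17 LD3_c60))))))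
theorem f182276 : Led Lsl_ft (LP (LK LD1_c8 LD2_c20 LD3_c34)) = (LP (LK LD1_c4 LD2_c10 LD3_c12)) :=
  Lre_f IH (LK LD1_c8 LD2_c20 LD3_c34) (LK LD1_c4 LD2_c10 LD3_c12) Lrfl Lrfl
theorem f260807 : Led Lsl_ft (LP (LK LD1_c8 LD2_c17 LD3_c60)) = (LP (LK LD1_c15 LD2_c36 LD3_c29)) :=
  Lre_f IH (LK LD1_c8 LD2_c17 LD3_c60) (LK LD1_c15 LD2_c36 LD3_c29) Lrfl Lrfl
theorem f260808 : Led Lsl_bf (LP (LK LD1_c8 LD2_c20 LD3_c34)) = (LP (LK LD1_c15 LD2_c36 LD3_c29)) :=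
  Lgr Lrot61 (Lpr_ft (f182276 IH) (Lpr_bt (f260802 IH) (Lpr_ft (f260807 IH) (Lpn (LP (LK LD1_c15 LD2_c36 LD3_c29))))))
theorem f260812 : Led Lsl_bt (LP (LK LD1_c8 LD2_c20 LD3_c34)) = (LP (LK LD1_c15 LD2_c36 LD3_c29)) :=
  Lgr Lrot127 (Lpr_bf (f260808 IH) (Lpn (LP (LK LD1_c15 LD2_c36 LD3_c29))))
theorem f41776 : Led Lsl_dt (LP (LK LD1_c2 LD2_c10 LD3_c58)) = (LP (LK LD1_c1 LD2_c2 LD3_c30)) :=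
  Lre_d IH (LK LD1_c2 LD2_c10 LD3_c58) (LK LD1_c1 LD2_c2 LD3_c30) Lrfl Lrfl
theorem f182263 : Led Lsl_et (LP (LK LD1_c4 LD2_c27 LD3_c33)) = (LP (LK LD1_c2 LD2_c10 LD3_c58)) :=
  Lre_e IH (LK LD1_c4 LD2_c27 LD3_c33) (LK LD1_c2 LD2_c10 LD3_c58) Lrfl Lrfl
theorem f182265 : Led Lsl_df (LP (LK LD1_c4 LD2_c27 LD3_c33)) = (LP (LK LD1_c4 LD2_c10 LD3_c12)) :=
  Lgr Lrot70 (Lpr_et (f182263 IH) (Lpr_dt (f41776 IH) (Lpr_et (K14.f182262 IH) (Lpr_dt (K14.f182202 IH) (Lpr_et (f182264 IH) (Lpn (LP (LK LD1_c4 LD2_c10 LD3_c12))))))))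
theorem f182275 : Led Lsl_ft (LP (LK LD1_c4 LD2_c27 LD3_c33)) = (LP (LK LD1_c8 LD2_c52 LD3_c57)) :=
  Lre_f IH (LK LD1_c4 LD2_c27 LD3_c33) (LK LD1_c8 LD2_c52 LD3_c57) Lrfl Lrfl
theorem f182277 : Led Lsl_dt (LP (LK LD1_c8 LD2_c52 LD3_c57)) = (LP (LK LD1_c8 LD2_c20 LD3_c34)) :=
  Lgr Lrot60 (Lpe (f182275 IH) (Lpr_df (f182265 IH) (Lpe (f182276 IH) (Lpn (LP (LK LD1_c8 LD2_c20 LD3_c34))))))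
theorem f261042 : Led Lsl_bt (LP (LK LD1_c15 LD2_c18 LD3_c29)) = (LP (LK LD1_c8 LD2_c52 LD3_c57)) :=
  Lgr Lrot95 (Lpr_df (f261034 IH) (Lpe (f260812 IH) (Lpe (f182277 IH) (Lpn (LP (LK LD1_c8 LD2_c52 LD3_c57))))))
theorem f182296 : Led Lsl_ft (LP (LK LD1_c8 LD2_c52 LD3_c57)) = (LP (LK LD1_c4 LD2_c27 LD3_c33)) :=
  Lre_f IH (LK LD1_c8 LD2_c52 LD3_c57) (LK LD1_c4 LD2_c27 LD3_c33) Lrfl Lrfl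
theorem f261044 : Led Lsl_bf (LP (LK LD1_c8 LD2_c7 LD3_c46)) = (LP (LK LD1_c4 LD2_c27 LD3_c33)) :=
  Lgr Lrot61 (Lpr_ft (f261025 IH) (Lpr_bt (f261042 IH) (Lpr_ft (f182296 IH) (Lpn (LP (LK LD1_c4 LD2_c27 LD3_c33))))))
theorem f41779 : Led Lsl_et (LP (LK LD1_c2 LD2_c10 LD3_c58)) = (LP (LK LD1_c4 LD2_c27 LD3_c33)) :=
  Lre_e IH (LK LD1_c2 LD2_c10 LD3_c58) (LK LD1_c4 LD2_c27 LD3_c33) Lrfl Lrfl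
theorem f261048 : Led Lsl_bt (LP (LK LD1_c4 LD2_c3 LD3_c36)) = (LP (LK LD1_c2 LD2_c10 LD3_c58)) :=
  Lgr Lrot119 (Lpe (f256777 IH) (Lpr_bf (f261044 IH) (Lpe (f41779 IH) (Lpn (LP (LK LD1_c2 LD2_c10 LD3_c58))))))
theorem f221601 : Led Lsl_bt (LP (LK LD1_c3 LD2_c58 LD3_c12)) = (LP (LK LD1_c1 LD2_c55 LD3_c56)) :=
  Lre_b IH (LK LD1_c3 LD2_c58 LD3_c12) (LK LD1_c1 LD2_c55 LD3_c56) Lrfl Lrfl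
theorem f254127 : Led Lsl_at (LP (LK LD1_c5 LD2_c36 LD3_c28)) = (LP (LK LD1_c2 LD2_c44 LD3_c8)) :=
  Lre_a IH (LK LD1_c5 LD2_c36 LD3_c28) (LK LD1_c2 LD2_c44 LD3_c8) Lrfl Lrfl
theorem f226563 : Led Lsl_gt (LP (LK LD1_c5 LD2_c36 LD3_c30)) = (LP (LK LD1_c2 LD2_c44 LD3_c8)) :=
  Lre_g IH (LK LD1_c5 LD2_c36 LD3_c30) (LK LD1_c2 LD2_c44 LD3_c8) Lrfl Lrfl
theorem f254139 : Led Lsl_gf (LP (LK LD1_c5 LD2_c36 LD3_c30)) = (LP (LK LD1_c7 LD2_c57 LD3_c54)) :=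
  Lgr Lrot47 (Lpr_gt (f226563 IH) (Lpe (f254127 IH) (Lpr_ff (K14.f254125 IH) (Lpn (LP (LK LD1_c7 LD2_c57 LD3_c54))))))
theorem f261057 : Led Lsl_ct (LP (LK LD1_c4 LD2_c3 LD3_c36)) = (LP (LK LD1_c5 LD2_c36 LD3_c30)) :=
  Lgr Lrot63 (Lpr_bt (f261048 IH) (Lpr_gt (K14.f223292 IH) (Lpe (K12.f223300 IH) (Lpr_ct (K12.f221670 IH) (Lpe (K12.f221668 IH) (Lpe (K12.f169271 IH) (Lpr_bt (f221601 IH) (Lpr_gt (K14.f42731 IH) (Lpr_ct (K14.f219131 IH) (Lpe (f254139 IH) (Lpn (LP (LK LD1_c5 LD2_c36 LD3_c30)))))))))))))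
theorem f7721 : Led Lsl_ct (LP (LK LD1_c0 LD2_c35 LD3_c36)) = (LP (LK LD1_c1 LD2_c16 LD3_c59)) :=
  Lre_c IH (LK LD1_c0 LD2_c35 LD3_c36) (LK LD1_c1 LD2_c16 LD3_c59) Lrfl Lrfl
theorem f261069 : Led Lsl_gf (LP (LK LD1_c2 LD2_c10 LD3_c58)) = (LP (LK LD1_c1 LD2_c16 LD3_c58)) :=
  Lgr Lrot124 (Lpe (f261048 IH) (Lpr_ct (f261057 IH) (Lpr_gt (f226563 IH) (Lpe (K12.f178121 IH) (Lpr_bt (K12.f177853 IH) (Lpr_gt (K12.f177852 IH) (Lpr_ct (K12.f178170 IH) (Lpr_gt (K12.f226537 IH) (Lpe (f7721 IH) (Lpr_bt (K12.f7718 IH) (Lpn (LP (LK LD1_c1 LD2_c16 LD3_c58)))))))))))))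
theorem f254008 : Led Lsl_ct (LP (LK LD1_c1 LD2_c0 LD3_c37)) = (LP (LK LD1_c1 LD2_c2 LD3_c30)) :=
  Lgr Lrot15 (Lpe (K14.f254007 IH) (Lpr_cf (K14.f253992 IH) (Lpe (K14.f182262 IH) (Lpn (LP (LK LD1_c1 LD2_c2 LD3_c30))))))
theorem f254056 : Led Lsl_dt (LP (LK LD1_c2 LD2_c7 LD3_c7)) = (LP (LK LD1_c1 LD2_c0 LD3_c37)) :=
  Lre_d IH (LK LD1_c2 LD2_c7 LD3_c7) (LK LD1_c1 LD2_c0 LD3_c37) Lrfl Lrfl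
theorem f261075 : Led Lsl_gf (LP (LK LD1_c2 LD2_c7 LD3_c7)) = (LP (LK LD1_c2 LD2_c3 LD3_c23)) :=
  Lgr Lrot154 (Lpr_dt (f254056 IH) (Lpr_ct (f254008 IH) (Lpe (f41776 IH) (Lpr_gf (f261069 IH) (Lpe (K12.f7818 IH) (Lpe (K14.f7845 IH) (Lpe (K14.f253254 IH) (Lpr_gt (K14.f170291 IH) (Lpr_dt (K14.f246733 IH) (Lpn (LP (LK LD1_c2 LD2_c3 LD3_c23))))))))))))
theorem f261091 : Led Lsl_cf (LP (LK LD1_c1 LD2_c0 LD3_c37)) = (LP (LK LD1_c1 LD2_c2 LD3_c30)) :=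
  Lgr Lrot14 (Lpe (f254056 IH) (Lpr_gf (f261075 IH) (Lpe (K14.f246733 IH) (Lpe (K14.f170291 IH) (Lpr_ct (K14.f253249 IH) (Lpr_gt (K14.f7845 IH) (Lpr_dt (K12.f7818 IH) (Lpe (f261069 IH) (Lpr_dt (f41776 IH) (Lpn (LP (LK LD1_c1 LD2_c2 LD3_c30))))))))))))
theorem f261096 : Led Lsl_ct (LP (LK LD1_c4 LD2_c19 LD3_c24)) = (LP (LK LD1_c2 LD2_c7 LD3_c7)) :=
  Lre_c IH (LK LD1_c4 LD2_c19 LD3_c24) (LK LD1_c2 LD2_c7 LD3_c7) Lrfl Lrfl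
theorem f174936 : Led Lsl_gt (LP (LK LD1_c0 LD2_c28 LD3_c34)) = (LP (LK LD1_c1 LD2_c2 LD3_c30)) :=
  Lre_g IH (LK LD1_c0 LD2_c28 LD3_c34) (LK LD1_c1 LD2_c2 LD3_c30) Lrfl Lrfl
theorem f197632 : Led Lsl_bt (LP (LK LD1_c1 LD2_c55 LD3_c15)) = (LP (LK LD1_c2 LD2_c5 LD3_c4)) :=
  Lgr Lrot127 (Lpr_bf (K13.f197629 IH) (Lpn (LP (LK LD1_c2 LD2_c5 LD3_c4))))
theorem f178321 : Led Lsl_bt (LP (LK LD1_c2 LD2_c3 LD3_c33)) = (LP (LK LD1_c0 LD2_c58 LD3_c43)) :=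
  Lre_b IH (LK LD1_c2 LD2_c3 LD3_c33) (LK LD1_c0 LD2_c58 LD3_c43) Lrfl Lrfl
theorem f236230 : Led Lsl_gt (LP (LK LD1_c3 LD2_c57 LD3_c0)) = (LP (LK LD1_c4 LD2_c12 LD3_c42)) :=
  Lgr Lrot65 (Lpe (K12.f42883 IH) (Lpr_bt (f197632 IH) (Lpr_gf (K13.f236220 IH) (Lpe (K14.f178837 IH) (Lpr_ct (K9.f168323 IH) (Lpe (f178840 IH) (Lpe (K9.f166992 IH) (Lpe (K14.f53325 IH) (Lpe (f178321 IH) (Lpr_ct (K14.f178322 IH) (Lpn (LP (LK LD1_c4 LD2_c12 LD3_c42)))))))))))))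
theorem f166486 : Led Lsl_bt (LP (LK LD1_c0 LD2_c58 LD3_c40)) = (LP (LK LD1_c0 LD2_c26 LD3_c36)) :=
  Lre_b IH (LK LD1_c0 LD2_c58 LD3_c40) (LK LD1_c0 LD2_c26 LD3_c36) Lrfl Lrfl
theorem f166487 : Led Lsl_ct (LP (LK LD1_c0 LD2_c58 LD3_c40)) = (LP (LK LD1_c2 LD2_c3 LD3_c25)) :=
  Lre_c IH (LK LD1_c0 LD2_c58 LD3_c40) (LK LD1_c2 LD2_c3 LD3_c25) Lrfl Lrfl
theorem f236995 : Led Lsl_gt (LP (LK LD1_c2 LD2_c3 LD3_c25)) = (LP (LK LD1_c4 LD2_c12 LD3_c24)) :=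
  Lre_g IH (LK LD1_c2 LD2_c3 LD3_c25) (LK LD1_c4 LD2_c12 LD3_c24) Lrfl Lrfl
theorem f229901 : Led Lsl_bt (LP (LK LD1_c4 LD2_c3 LD3_c44)) = (LP (LK LD1_c1 LD2_c58 LD3_c54)) :=
  Lre_b IH (LK LD1_c4 LD2_c3 LD3_c44) (LK LD1_c1 LD2_c58 LD3_c54) Lrfl Lrfl
theorem f236996 : Led Lsl_cf (LP (LK LD1_c4 LD2_c12 LD3_c24)) = (LP (LK LD1_c4 LD2_c3 LD3_c44)) :=
  Lgr Lrot58 (Lpe (f236995 IH) (Lpe (f166487 IH) (Lpr_bt (f166486 IH) (Lpe (K14.f53325 IH) (Lpe (f178321 IH) (Lpr_ct (K14.f178322 IH) (Lpe (f236230 IH) (Lpe (K12.f42883 IH) (Lpr_gf (K13.f236892 IH) (Lpe (f229901 IH) (Lpn (LP (LK LD1_c4 LD2_c3 LD3_c44)))))))))))))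
theorem f261110 : Led Lsl_gf (LP (LK LD1_c4 LD2_c19 LD3_c24)) = (LP (LK LD1_c4 LD2_c12 LD3_c24)) :=
  Lgr Lrot104 (Lpr_ct (f261096 IH) (Lpe (K14.f254020 IH) (Lpr_cf (f261091 IH) (Lpe (f174936 IH) (Lpe (K11.f42888 IH) (Lpe (K12.f213773 IH) (Lpe (K12.f47645 IH) (Lpe (K12.f212482 IH) (Lpe (f236996 IH) (Lpn (LP (LK LD1_c4 LD2_c12 LD3_c24))))))))))))
theorem f261093 : Led Lsl_ct (LP (LK LD1_c2 LD2_c7 LD3_c7)) = (LP (LK LD1_c4 LD2_c19 LD3_c24)) :=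
  Lre_c IH (LK LD1_c2 LD2_c7 LD3_c7) (LK LD1_c4 LD2_c19 LD3_c24) Lrfl Lrfl
theorem f229896 : Led Lsl_bt (LP (LK LD1_c3 LD2_c56 LD3_c56)) = (LP (LK LD1_c1 LD2_c55 LD3_c13)) :=
  Lre_b IH (LK LD1_c3 LD2_c56 LD3_c56) (LK LD1_c1 LD2_c55 LD3_c13) Lrfl Lrfl
theorem f229637 : Led Lsl_ct (LP (LK LD1_c3 LD2_c56 LD3_c56)) = (LP (LK LD1_c7 LD2_c55 LD3_c30)) :=
  Lre_c IH (LK LD1_c3 LD2_c56 LD3_c56) (LK LD1_c7 LD2_c55 LD3_c30) Lrfl Lrfl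
theorem f250768 : Led Lsl_ct (LP (LK LD1_c2 LD2_c6 LD3_c40)) = (LP (LK LD1_c4 LD2_c18 LD3_c45)) :=
  Lre_c IH (LK LD1_c2 LD2_c6 LD3_c40) (LK LD1_c4 LD2_c18 LD3_c45) Lrfl Lrfl
theorem f250820 : Led Lsl_gf (LP (LK LD1_c7 LD2_c55 LD3_c30)) = (LP (LK LD1_c4 LD2_c18 LD3_c45)) :=
  Lgr Lrot126 (Lpe (f229637 IH) (Lpr_bt (f229896 IH) (Lpe (K13.f229890 IH) (Lpr_ct (K13.f229892 IH) (Lpr_gt (K13.f229893 IH) (Lpe (K13.f168371 IH) (Lpr_bt (K12.f168352 IH) (Lpr_gt (K14.f168370 IH) (Lpr_bf (K14.f250766 IH) (Lpr_ct (f250768 IH) (Lpn (LP (LK LD1_c4 LD2_c18 LD3_c45)))))))))))))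
theorem f252095 : Led Lsl_et (LP (LK LD1_c0 LD2_c58 LD3_c53)) = (LP (LK LD1_c2 LD2_c3 LD3_c47)) :=
  Lre_e IH (LK LD1_c0 LD2_c58 LD3_c53) (LK LD1_c2 LD2_c3 LD3_c47) Lrfl Lrfl
theorem f256124 : Led Lsl_gf (LP (LK LD1_c2 LD2_c6 LD3_c40)) = (LP (LK LD1_c2 LD2_c3 LD3_c46)) :=
  Lgr Lrot145 (Lpe (K14.f251683 IH) (Lpr_et (K14.f200359 IH) (Lpr_gt (K14.f256117 IH) (Lpr_dt (K14.f252104 IH) (Lpr_gt (K14.f54553 IH) (Lpe (K14.f187400 IH) (Lpr_et (K12.f187349 IH) (Lpr_gt (K14.f250474 IH) (Lpe (f252095 IH) (Lpr_dt (K14.f251906 IH) (Lpn (LP (LK LD1_c2 LD2_c3 LD3_c46)))))))))))))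
theorem f261112 : Led Lsl_bt (LP (LK LD1_c2 LD2_c7 LD3_c7)) = (LP (LK LD1_c2 LD2_c3 LD3_c46)) :=
  Lgr Lrot130 (Lpr_ct (f261093 IH) (Lpr_gf (f261110 IH) (Lpr_cf (f236996 IH) (Lpr_bt (f229901 IH) (Lpr_gf (K13.f229890 IH) (Lpe (f229896 IH) (Lpr_ct (f229637 IH) (Lpr_gf (f250820 IH) (Lpe (f250768 IH) (Lpr_gf (f256124 IH) (Lpn (LP (LK LD1_c2 LD2_c3 LD3_c46)))))))))))))
theorem f261119 : Led Lsl_bf (LP (LK LD1_c2 LD2_c7 LD3_c7)) = (LP (LK LD1_c2 LD2_c3 LD3_c46)) :=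
  Lgr Lrot24 (Lpr_bt (f261112 IH) (Lpn (LP (LK LD1_c2 LD2_c3 LD3_c46))))
theorem f252096 : Led Lsl_et (LP (LK LD1_c4 LD2_c12 LD3_c59)) = (LP (LK LD1_c2 LD2_c3 LD3_c46)) :=
  Lre_e IH (LK LD1_c4 LD2_c12 LD3_c59) (LK LD1_c2 LD2_c3 LD3_c46) Lrfl Lrfl
theorem f261140 : Led Lsl_bt (LP (LK LD1_c4 LD2_c19 LD3_c25)) = (LP (LK LD1_c4 LD2_c12 LD3_c59)) :=
  Lgr Lrot119 (Lpe (K14.f254021 IH) (Lpr_bf (f261119 IH) (Lpe (f252096 IH) (Lpn (LP (LK LD1_c4 LD2_c12 LD3_c59))))))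
theorem f221678 : Led Lsl_bf (LP (LK LD1_c3 LD2_c58 LD3_c16)) = (LP (LK LD1_c2 LD2_c25 LD3_c20)) :=
  Lgr Lrot34 (Lpe (K14.f42731 IH) (Lpe (f221601 IH) (Lpr_ct (K12.f169271 IH) (Lpr_gf (K12.f221668 IH) (Lpe (K12.f221670 IH) (Lpe (K12.f221676 IH) (Lpe (K12.f169159 IH) (Lpr_ct (K12.f169161 IH) (Lpe (K12.f169254 IH) (Lpe (K12.f169258 IH) (Lpn (LP (LK LD1_c2 LD2_c25 LD3_c20)))))))))))))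
theorem f221685 : Led Lsl_et (LP (LK LD1_c3 LD2_c58 LD3_c16)) = (LP (LK LD1_c7 LD2_c57 LD3_c55)) :=
  Lre_e IH (LK LD1_c3 LD2_c58 LD3_c16) (LK LD1_c7 LD2_c57 LD3_c55) Lrfl Lrfl
theorem f218583 : Led Lsl_et (LP (LK LD1_c4 LD2_c54 LD3_c55)) = (LP (LK LD1_c2 LD2_c25 LD3_c20)) :=
  Lre_e IH (LK LD1_c4 LD2_c54 LD3_c55) (LK LD1_c2 LD2_c25 LD3_c20) Lrfl Lrfl
theorem f221686 : Led Lsl_bt (LP (LK LD1_c7 LD2_c57 LD3_c55)) = (LP (LK LD1_c4 LD2_c54 LD3_c55)) :=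
  Lgr Lrot119 (Lpe (f221685 IH) (Lpr_bf (f221678 IH) (Lpe (f218583 IH) (Lpn (LP (LK LD1_c4 LD2_c54 LD3_c55))))))
theorem f221688 : Led Lsl_bf (LP (LK LD1_c7 LD2_c57 LD3_c55)) = (LP (LK LD1_c4 LD2_c54 LD3_c55)) :=
  Lgr Lrot24 (Lpr_bt (f221686 IH) (Lpn (LP (LK LD1_c4 LD2_c54 LD3_c55))))
theorem f261145 : Led Lsl_df (LP (LK LD1_c4 LD2_c54 LD3_c55)) = (LP (LK LD1_c4 LD2_c12 LD3_c59)) :=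
  Lgr Lrot12 (Lpe (f221688 IH) (Lpe (K14.f254046 IH) (Lpr_bt (f261140 IH) (Lpn (LP (LK LD1_c4 LD2_c12 LD3_c59))))))
theorem f228822 : Led Lsl_at (LP (LK LD1_c2 LD2_c3 LD3_c51)) = (LP (LK LD1_c4 LD2_c12 LD3_c59)) :=
  Lre_a IH (LK LD1_c2 LD2_c3 LD3_c51) (LK LD1_c4 LD2_c12 LD3_c59) Lrfl Lrfl
theorem f228813 : Led Lsl_et (LP (LK LD1_c1 LD2_c18 LD3_c22)) = (LP (LK LD1_c2 LD2_c44 LD3_c1)) :=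
  Lre_e IH (LK LD1_c1 LD2_c18 LD3_c22) (LK LD1_c2 LD2_c44 LD3_c1) Lrfl Lrfl
theorem f184317 : Led Lsl_dt (LP (LK LD1_c0 LD2_c58 LD3_c54)) = (LP (LK LD1_c0 LD2_c26 LD3_c44)) :=
  Lre_d IH (LK LD1_c0 LD2_c58 LD3_c54) (LK LD1_c0 LD2_c26 LD3_c44) Lrfl Lrfl
theorem f228815 : Led Lsl_et (LP (LK LD1_c2 LD2_c3 LD3_c51)) = (LP (LK LD1_c0 LD2_c58 LD3_c54)) :=
  Lre_e IH (LK LD1_c2 LD2_c3 LD3_c51) (LK LD1_c0 LD2_c58 LD3_c54) Lrfl Lrfl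
theorem f228816 : Led Lsl_dt (LP (LK LD1_c2 LD2_c44 LD3_c1)) = (LP (LK LD1_c2 LD2_c3 LD3_c51)) :=
  Lgr Lrot77 (Lpe (f228813 IH) (Lpr_df (K14.f228810 IH) (Lpe (K14.f228814 IH) (Lpe (f184317 IH) (Lpe (f228815 IH) (Lpn (LP (LK LD1_c2 LD2_c3 LD3_c51))))))))
theorem f261147 : Led Lsl_at (LP (LK LD1_c4 LD2_c54 LD3_c55)) = (LP (LK LD1_c2 LD2_c44 LD3_c1)) :=
  Lgr Lrot51 (Lpr_df (f261145 IH) (Lpe (f228822 IH) (Lpe (f228816 IH) (Lpn (LP (LK LD1_c2 LD2_c44 LD3_c1))))))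
theorem f221713 : Led Lsl_ft (LP (LK LD1_c9 LD2_c41 LD3_c18)) = (LP (LK LD1_c4 LD2_c54 LD3_c55)) :=
  Lre_f IH (LK LD1_c9 LD2_c41 LD3_c18) (LK LD1_c4 LD2_c54 LD3_c55) Lrfl Lrfl
theorem f228835 : Led Lsl_ft (LP (LK LD1_c2 LD2_c44 LD3_c1)) = (LP (LK LD1_c5 LD2_c36 LD3_c17)) :=
  Lre_f IH (LK LD1_c2 LD2_c44 LD3_c1) (LK LD1_c5 LD2_c36 LD3_c17) Lrfl Lrfl
theorem f261168 : Led Lsl_af (LP (LK LD1_c9 LD2_c41 LD3_c18)) = (LP (LK LD1_c5 LD2_c36 LD3_c17)) :=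
  Lgr Lrot45 (Lpr_ft (f221713 IH) (Lpr_at (f261147 IH) (Lpr_ft (f228835 IH) (Lpn (LP (LK LD1_c5 LD2_c36 LD3_c17))))))
theorem f221709 : Led Lsl_ct (LP (LK LD1_c9 LD2_c41 LD3_c18)) = (LP (LK LD1_c17 LD2_c49 LD3_c10)) :=
  Lre_c IH (LK LD1_c9 LD2_c41 LD3_c18) (LK LD1_c17 LD2_c49 LD3_c10) Lrfl Lrfl
theorem f228858 : Led Lsl_ct (LP (LK LD1_c11 LD2_c4 LD3_c45)) = (LP (LK LD1_c5 LD2_c36 LD3_c17)) :=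
  Lre_c IH (LK LD1_c11 LD2_c4 LD3_c45) (LK LD1_c5 LD2_c36 LD3_c17) Lrfl Lrfl
theorem f261179 : Led Lsl_at (LP (LK LD1_c17 LD2_c49 LD3_c10)) = (LP (LK LD1_c11 LD2_c4 LD3_c45)) :=
  Lgr Lrot107 (Lpe (f221709 IH) (Lpr_af (f261168 IH) (Lpe (f228858 IH) (Lpn (LP (LK LD1_c11 LD2_c4 LD3_c45))))))
theorem f261187 : Led Lsl_af (LP (LK LD1_c17 LD2_c49 LD3_c10)) = (LP (LK LD1_c11 LD2_c4 LD3_c45)) :=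
  Lgr Lrot0 (Lpr_at (f261179 IH) (Lpn (LP (LK LD1_c11 LD2_c4 LD3_c45))))
theorem f261193 : Led Lsl_ft (LP (LK LD1_c17 LD2_c49 LD3_c10)) = (LP (LK LD1_c9 LD2_c41 LD3_c15)) :=
  Lre_f IH (LK LD1_c17 LD2_c49 LD3_c10) (LK LD1_c9 LD2_c41 LD3_c15) Lrfl Lrfl
theorem f261194 : Led Lsl_ft (LP (LK LD1_c5 LD2_c36 LD3_c14)) = (LP (LK LD1_c11 LD2_c4 LD3_c45)) :=
  Lre_f IH (LK LD1_c5 LD2_c36 LD3_c14) (LK LD1_c11 LD2_c4 LD3_c45) Lrfl Lrfl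
theorem f261195 : Led Lsl_at (LP (LK LD1_c9 LD2_c41 LD3_c15)) = (LP (LK LD1_c5 LD2_c36 LD3_c14)) :=
  Lgr Lrot66 (Lpe (f261193 IH) (Lpr_af (f261187 IH) (Lpe (f261194 IH) (Lpn (LP (LK LD1_c5 LD2_c36 LD3_c14))))))
theorem f261203 : Led Lsl_et (LP (LK LD1_c4 LD2_c54 LD3_c54)) = (LP (LK LD1_c9 LD2_c41 LD3_c15)) :=
  Lre_e IH (LK LD1_c4 LD2_c54 LD3_c54) (LK LD1_c9 LD2_c41 LD3_c15) Lrfl Lrfl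
theorem f228697 : Led Lsl_et (LP (LK LD1_c5 LD2_c36 LD3_c14)) = (LP (LK LD1_c2 LD2_c44 LD3_c0)) :=
  Lre_e IH (LK LD1_c5 LD2_c36 LD3_c14) (LK LD1_c2 LD2_c44 LD3_c0) Lrfl Lrfl
theorem f261204 : Led Lsl_af (LP (LK LD1_c4 LD2_c54 LD3_c54)) = (LP (LK LD1_c2 LD2_c44 LD3_c0)) :=
  Lgr Lrot50 (Lpr_et (f261203 IH) (Lpr_at (f261195 IH) (Lpr_et (f228697 IH) (Lpn (LP (LK LD1_c2 LD2_c44 LD3_c0))))))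
theorem f261211 : Led Lsl_at (LP (LK LD1_c4 LD2_c54 LD3_c54)) = (LP (LK LD1_c2 LD2_c44 LD3_c0)) :=
  Lgr Lrot100 (Lpr_af (f261204 IH) (Lpn (LP (LK LD1_c2 LD2_c44 LD3_c0))))
theorem f261228 : Led Lsl_ff (LP (LK LD1_c4 LD2_c54 LD3_c54)) = (LP (LK LD1_c5 LD2_c22 LD3_c18)) :=
  Lgr Lrot52 (Lpr_at (f261211 IH) (Lpr_gf (K12.f228681 IH) (Lpe (K14.f171983 IH) (Lpn (LP (LK LD1_c5 LD2_c22 LD3_c18))))))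
theorem f261234 : Led Lsl_ft (LP (LK LD1_c4 LD2_c54 LD3_c54)) = (LP (LK LD1_c5 LD2_c22 LD3_c18)) :=
  Lgr Lrot48 (Lpr_ff (f261228 IH) (Lpn (LP (LK LD1_c5 LD2_c22 LD3_c18))))
theorem f261240 : Led Lsl_af (LP (LK LD1_c4 LD2_c30 LD3_c53)) = (LP (LK LD1_c5 LD2_c22 LD3_c18)) :=
  Lgr Lrot31 (Lpr_gf (K13.f226904 IH) (Lpe (K12.f169254 IH) (Lpr_ft (f261234 IH) (Lpn (LP (LK LD1_c5 LD2_c22 LD3_c18))))))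
theorem f261246 : Led Lsl_ft (LP (LK LD1_c4 LD2_c30 LD3_c53)) = (LP (LK LD1_c2 LD2_c44 LD3_c0)) :=
  Lgr Lrot101 (Lpr_af (f261240 IH) (Lpe (f261234 IH) (Lpr_af (f261204 IH) (Lpn (LP (LK LD1_c2 LD2_c44 LD3_c0))))))
theorem f261254 : Led Lsl_gt (LP (LK LD1_c2 LD2_c37 LD3_c51)) = (LP (LK LD1_c4 LD2_c54 LD3_c54)) :=
  Lgr Lrot46 (Lpe (K13.f235669 IH) (Lpr_ft (f261246 IH) (Lpe (f261204 IH) (Lpn (LP (LK LD1_c4 LD2_c54 LD3_c54))))))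
theorem f228740 : Led Lsl_bt (LP (LK LD1_c2 LD2_c11 LD3_c25)) = (LP (LK LD1_c2 LD2_c37 LD3_c50)) :=
  Lgr Lrot127 (Lpr_bf (K14.f228735 IH) (Lpn (LP (LK LD1_c2 LD2_c37 LD3_c50))))
theorem f261265 : Led Lsl_gf (LP (LK LD1_c1 LD2_c55 LD3_c59)) = (LP (LK LD1_c3 LD2_c58 LD3_c16)) :=
  Lgr Lrot124 (Lpe (K12.f227992 IH) (Lpr_ct (K12.f223072 IH) (Lpe (K14.f251775 IH) (Lpe (K14.f228742 IH) (Lpr_bt (f228740 IH) (Lpr_gt (K13.f196720 IH) (Lpr_ct (K13.f196597 IH) (Lpr_gt (f261254 IH) (Lpe (K12.f169258 IH) (Lpe (f221678 IH) (Lpn (LP (LK LD1_c3 LD2_c58 LD3_c16)))))))))))))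
theorem f228024 : Led Lsl_et (LP (LK LD1_c0 LD2_c54 LD3_c42)) = (LP (LK LD1_c1 LD2_c55 LD3_c60)) :=
  Lre_e IH (LK LD1_c0 LD2_c54 LD3_c42) (LK LD1_c1 LD2_c55 LD3_c60) Lrfl Lrfl
theorem f254018 : Led Lsl_dt (LP (LK LD1_c2 LD2_c7 LD3_c8)) = (LP (LK LD1_c3 LD2_c58 LD3_c16)) :=
  Lgr Lrot42 (Lpr_df (K14.f254012 IH) (Lpn (LP (LK LD1_c3 LD2_c58 LD3_c16))))
theorem f250283 : Led Lsl_at (LP (LK LD1_c0 LD2_c26 LD3_c44)) = (LP (LK LD1_c0 LD2_c58 LD3_c53)) :=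
  Lre_a IH (LK LD1_c0 LD2_c26 LD3_c44) (LK LD1_c0 LD2_c58 LD3_c53) Lrfl Lrfl
theorem f179840 : Led Lsl_bt (LP (LK LD1_c0 LD2_c27 LD3_c35)) = (LP (LK LD1_c0 LD2_c12 LD3_c12)) :=
  Lre_b IH (LK LD1_c0 LD2_c27 LD3_c35) (LK LD1_c0 LD2_c12 LD3_c12) Lrfl Lrfl
theorem f250284 : Led Lsl_at (LP (LK LD1_c1 LD2_c0 LD3_c37)) = (LP (LK LD1_c0 LD2_c27 LD3_c35)) :=
  Lre_a IH (LK LD1_c1 LD2_c0 LD3_c37) (LK LD1_c0 LD2_c27 LD3_c35) Lrfl Lrfl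
theorem f250285 : Led Lsl_bt (LP (LK LD1_c0 LD2_c58 LD3_c53)) = (LP (LK LD1_c1 LD2_c0 LD3_c37)) :=
  Lgr Lrot62 (Lpe (f250283 IH) (Lpe (K14.f51586 IH) (Lpr_af (K14.f250279 IH) (Lpe (f179840 IH) (Lpe (f250284 IH) (Lpn (LP (LK LD1_c1 LD2_c0 LD3_c37))))))))
theorem f256802 : Led Lsl_gf (LP (LK LD1_c1 LD2_c0 LD3_c37)) = (LP (LK LD1_c0 LD2_c58 LD3_c38)) :=
  Lgr Lrot124 (Lpe (f250285 IH) (Lpe (K14.f252069 IH) (Lpr_gt (f256798 IH) (Lpr_cf (K10.f29048 IH) (Lpr_bt (K0.f29010 IH) (Lpr_gt (f255866 IH) (Lpe (K14.f187057 IH) (Lpr_gt (K14.f246674 IH) (Lpr_cf (K12.f222151 IH) (Lpr_bt (K12.f219350 IH) (Lpn (LP (LK LD1_c0 LD2_c58 LD3_c38)))))))))))))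
theorem f261279 : Led Lsl_gt (LP (LK LD1_c1 LD2_c55 LD3_c60)) = (LP (LK LD1_c0 LD2_c58 LD3_c50)) :=
  Lgr Lrot137 (Lpe (f228024 IH) (Lpr_dt (K12.f41374 IH) (Lpr_gf (f261265 IH) (Lpe (f254018 IH) (Lpr_et (K14.f254007 IH) (Lpr_gf (f256802 IH) (Lpe (K12.f219341 IH) (Lpr_dt (K12.f53328 IH) (Lpr_gf (K14.f256056 IH) (Lpe (K14.f180071 IH) (Lpn (LP (LK LD1_c0 LD2_c58 LD3_c50)))))))))))))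
theorem f41373 : Led Lsl_et (LP (LK LD1_c1 LD2_c55 LD3_c60)) = (LP (LK LD1_c0 LD2_c54 LD3_c42)) :=
  Lre_e IH (LK LD1_c1 LD2_c55 LD3_c60) (LK LD1_c0 LD2_c54 LD3_c42) Lrfl Lrfl
theorem f238181 : Led Lsl_et (LP (LK LD1_c1 LD2_c8 LD3_c51)) = (LP (LK LD1_c2 LD2_c23 LD3_c31)) :=
  Lre_e IH (LK LD1_c1 LD2_c8 LD3_c51) (LK LD1_c2 LD2_c23 LD3_c31) Lrfl Lrfl
theorem f260899 : Led Lsl_cf (LP (LK LD1_c1 LD2_c55 LD3_c60)) = (LP (LK LD1_c2 LD2_c23 LD3_c31)) :=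
  Lgr Lrot39 (Lpr_et (f41373 IH) (Lpr_ct (f260889 IH) (Lpr_et (f238181 IH) (Lpn (LP (LK LD1_c2 LD2_c23 LD3_c31))))))
theorem f196989 : Led Lsl_ct (LP (LK LD1_c0 LD2_c58 LD3_c50)) = (LP (LK LD1_c2 LD2_c3 LD3_c14)) :=
  Lre_c IH (LK LD1_c0 LD2_c58 LD3_c50) (LK LD1_c2 LD2_c3 LD3_c14) Lrfl Lrfl
theorem f211276 : Led Lsl_dt (LP (LK LD1_c1 LD2_c58 LD3_c56)) = (LP (LK LD1_c2 LD2_c3 LD3_c14)) :=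
  Lgr Lrot79 (Lpe (K12.f200808 IH) (Lpr_df (K11.f211272 IH) (Lpe (K14.f211275 IH) (Lpn (LP (LK LD1_c2 LD2_c3 LD3_c14))))))
theorem f201296 : Led Lsl_ct (LP (LK LD1_c4 LD2_c3 LD3_c53)) = (LP (LK LD1_c1 LD2_c58 LD3_c56)) :=
  Lre_c IH (LK LD1_c4 LD2_c3 LD3_c53) (LK LD1_c1 LD2_c58 LD3_c56) Lrfl Lrfl
theorem f53644 : Led Lsl_ct (LP (LK LD1_c2 LD2_c28 LD3_c5)) = (LP (LK LD1_c5 LD2_c0 LD3_c41)) :=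
  Lre_c IH (LK LD1_c2 LD2_c28 LD3_c5) (LK LD1_c5 LD2_c0 LD3_c41) Lrfl Lrfl
theorem f52300 : Led Lsl_bt (LP (LK LD1_c1 LD2_c58 LD3_c56)) = (LP (LK LD1_c0 LD2_c56 LD3_c16)) :=
  Lre_b IH (LK LD1_c1 LD2_c58 LD3_c56) (LK LD1_c0 LD2_c56 LD3_c16) Lrfl Lrfl
theorem f52301 : Led Lsl_ct (LP (LK LD1_c1 LD2_c58 LD3_c56)) = (LP (LK LD1_c4 LD2_c3 LD3_c53)) :=
  Lre_c IH (LK LD1_c1 LD2_c58 LD3_c56) (LK LD1_c4 LD2_c3 LD3_c53) Lrfl Lrfl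
theorem f218814 : Led Lsl_gt (LP (LK LD1_c5 LD2_c0 LD3_c41)) = (LP (LK LD1_c4 LD2_c3 LD3_c53)) :=
  Lgr Lrot149 (Lpe (f53644 IH) (Lpe (K12.f187448 IH) (Lpe (K12.f173146 IH) (Lpr_ct (K12.f173148 IH) (Lpr_gf (K12.f218754 IH) (Lpe (K12.f172030 IH) (Lpe (K12.f196534 IH) (Lpe (K11.f28114 IH) (Lpe (f52300 IH) (Lpr_ct (f52301 IH) (Lpn (LP (LK LD1_c4 LD2_c3 LD3_c53)))))))))))))
theorem f261281 : Led Lsl_gf (LP (LK LD1_c2 LD2_c23 LD3_c31)) = (LP (LK LD1_c4 LD2_c6 LD3_c18)) :=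
  Lgr Lrot147 (Lpe (f260899 IH) (Lpr_gt (f261279 IH) (Lpr_ct (f196989 IH) (Lpe (f211276 IH) (Lpe (f201296 IH) (Lpe (f218814 IH) (Lpe (f53644 IH) (Lpe (K12.f187448 IH) (Lpr_df (K12.f187414 IH) (Lpn (LP (LK LD1_c4 LD2_c6 LD3_c18))))))))))))
theorem f187343 : Led Lsl_dt (LP (LK LD1_c4 LD2_c28 LD3_c27)) = (LP (LK LD1_c4 LD2_c6 LD3_c18)) :=
  Lgr Lrot79 (Lpe (K12.f173146 IH) (Lpr_df (K12.f187340 IH) (Lpe (K14.f187342 IH) (Lpn (LP (LK LD1_c4 LD2_c6 LD3_c18))))))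
theorem f261283 : Led Lsl_df (LP (LK LD1_c1 LD2_c58 LD3_c56)) = (LP (LK LD1_c2 LD2_c3 LD3_c14)) :=
  Lgr Lrot162 (Lpe (f201296 IH) (Lpe (f218814 IH) (Lpe (f53644 IH) (Lpe (K12.f187448 IH) (Lpr_dt (f187343 IH) (Lpe (f261281 IH) (Lpe (f260899 IH) (Lpr_gt (f261279 IH) (Lpr_ct (f196989 IH) (Lpn (LP (LK LD1_c2 LD2_c3 LD3_c14))))))))))))
theorem f242937 : Led Lsl_et (LP (LK LD1_c1 LD2_c58 LD3_c56)) = (LP (LK LD1_c4 LD2_c3 LD3_c54)) :=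
  Lre_e IH (LK LD1_c1 LD2_c58 LD3_c56) (LK LD1_c4 LD2_c3 LD3_c54) Lrfl Lrfl
theorem f242916 : Led Lsl_et (LP (LK LD1_c2 LD2_c29 LD3_c58)) = (LP (LK LD1_c5 LD2_c5 LD3_c21)) :=
  Lre_e IH (LK LD1_c2 LD2_c29 LD3_c58) (LK LD1_c5 LD2_c5 LD3_c21) Lrfl Lrfl
theorem f28115 : Led Lsl_et (LP (LK LD1_c1 LD2_c58 LD3_c58)) = (LP (LK LD1_c0 LD2_c56 LD3_c16)) :=
  Lre_e IH (LK LD1_c1 LD2_c58 LD3_c58) (LK LD1_c0 LD2_c56 LD3_c16) Lrfl Lrfl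
theorem f237007 : Led Lsl_dt (LP (LK LD1_c4 LD2_c3 LD3_c59)) = (LP (LK LD1_c1 LD2_c58 LD3_c58)) :=
  Lre_d IH (LK LD1_c4 LD2_c3 LD3_c59) (LK LD1_c1 LD2_c58 LD3_c58) Lrfl Lrfl
theorem f237008 : Led Lsl_ef (LP (LK LD1_c4 LD2_c3 LD3_c59)) = (LP (LK LD1_c4 LD2_c1 LD3_c11)) :=
  Lgr Lrot73 (Lpr_dt (f237007 IH) (Lpr_et (f28115 IH) (Lpe (K11.f201067 IH) (Lpr_et (K13.f211283 IH) (Lpr_dt (K13.f237003 IH) (Lpn (LP (LK LD1_c4 LD2_c1 LD3_c11))))))))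
theorem f237014 : Led Lsl_et (LP (LK LD1_c4 LD2_c3 LD3_c59)) = (LP (LK LD1_c4 LD2_c1 LD3_c11)) :=
  Lgr Lrot87 (Lpr_ef (f237008 IH) (Lpn (LP (LK LD1_c4 LD2_c1 LD3_c11))))
theorem f242917 : Led Lsl_bt (LP (LK LD1_c5 LD2_c5 LD3_c21)) = (LP (LK LD1_c4 LD2_c3 LD3_c59)) :=
  Lgr Lrot119 (Lpe (f242916 IH) (Lpr_bf (K14.f242907 IH) (Lpe (f237014 IH) (Lpn (LP (LK LD1_c4 LD2_c3 LD3_c59))))))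
theorem f242925 : Led Lsl_bt (LP (LK LD1_c1 LD2_c58 LD3_c58)) = (LP (LK LD1_c4 LD2_c3 LD3_c54)) :=
  Lre_b IH (LK LD1_c1 LD2_c58 LD3_c58) (LK LD1_c4 LD2_c3 LD3_c54) Lrfl Lrfl
theorem f242926 : Led Lsl_df (LP (LK LD1_c5 LD2_c5 LD3_c21)) = (LP (LK LD1_c4 LD2_c3 LD3_c54)) :=
  Lgr Lrot12 (Lpr_bt (f242917 IH) (Lpr_dt (f237007 IH) (Lpr_bt (f242925 IH) (Lpn (LP (LK LD1_c4 LD2_c3 LD3_c54))))))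
theorem f167523 : Led Lsl_et (LP (LK LD1_c5 LD2_c5 LD3_c21)) = (LP (LK LD1_c2 LD2_c29 LD3_c58)) :=
  Lre_e IH (LK LD1_c5 LD2_c5 LD3_c21) (LK LD1_c2 LD2_c29 LD3_c58) Lrfl Lrfl
theorem f261292 : Led Lsl_et (LP (LK LD1_c2 LD2_c2 LD3_c23)) = (LP (LK LD1_c2 LD2_c3 LD3_c14)) :=
  Lgr Lrot71 (Lpe (K14.f253972 IH) (Lpe (f167523 IH) (Lpr_df (f242926 IH) (Lpe (f242937 IH) (Lpr_df (f261283 IH) (Lpn (LP (LK LD1_c2 LD2_c3 LD3_c14))))))))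
theorem f242910 : Led Lsl_bt (LP (LK LD1_c2 LD2_c29 LD3_c58)) = (LP (LK LD1_c4 LD2_c1 LD3_c11)) :=
  Lgr Lrot127 (Lpr_bf (K14.f242907 IH) (Lpn (LP (LK LD1_c4 LD2_c1 LD3_c11))))
theorem f242912 : Led Lsl_ct (LP (LK LD1_c2 LD2_c29 LD3_c58)) = (LP (LK LD1_c5 LD2_c5 LD3_c20)) :=
  Lre_c IH (LK LD1_c2 LD2_c29 LD3_c58) (LK LD1_c5 LD2_c5 LD3_c20) Lrfl Lrfl
theorem f187881 : Led Lsl_ct (LP (LK LD1_c4 LD2_c5 LD3_c9)) = (LP (LK LD1_c8 LD2_c11 LD3_c4)) :=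
  Lre_c IH (LK LD1_c4 LD2_c5 LD3_c9) (LK LD1_c8 LD2_c11 LD3_c4) Lrfl Lrfl
theorem f242995 : Led Lsl_gt (LP (LK LD1_c5 LD2_c5 LD3_c20)) = (LP (LK LD1_c8 LD2_c11 LD3_c4)) :=
  Lgr Lrot65 (Lpe (f242912 IH) (Lpr_bt (f242910 IH) (Lpe (K13.f237057 IH) (Lpe (K14.f171526 IH) (Lpr_ct (K14.f33084 IH) (Lpr_gf (K14.f191150 IH) (Lpe (K14.f49907 IH) (Lpe (K14.f49895 IH) (Lpr_bf (K14.f191051 IH) (Lpr_ct (f187881 IH) (Lpn (LP (LK LD1_c8 LD2_c11 LD3_c4)))))))))))))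
theorem f187880 : Led Lsl_ct (LP (LK LD1_c8 LD2_c11 LD3_c4)) = (LP (LK LD1_c4 LD2_c5 LD3_c9)) :=
  Lre_c IH (LK LD1_c8 LD2_c11 LD3_c4) (LK LD1_c4 LD2_c5 LD3_c9) Lrfl Lrfl
theorem f44607 : Led Lsl_dt (LP (LK LD1_c2 LD2_c10 LD3_c53)) = (LP (LK LD1_c1 LD2_c2 LD3_c27)) :=
  Lre_d IH (LK LD1_c2 LD2_c10 LD3_c53) (LK LD1_c1 LD2_c2 LD3_c27) Lrfl Lrfl
theorem f242998 : Led Lsl_gf (LP (LK LD1_c2 LD2_c29 LD3_c58)) = (LP (LK LD1_c2 LD2_c10 LD3_c53)) :=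
  Lgr Lrot147 (Lpr_ct (f242912 IH) (Lpr_gt (f242995 IH) (Lpr_ct (f187880 IH) (Lpe (K14.f187879 IH) (Lpe (K10.f182522 IH) (Lpe (K9.f47415 IH) (Lpr_cf (K1.f41864 IH) (Lpe (K9.f44597 IH) (Lpe (f44607 IH) (Lpn (LP (LK LD1_c2 LD2_c10 LD3_c53))))))))))))
theorem f44626 : Led Lsl_dt (LP (LK LD1_c1 LD2_c2 LD3_c27)) = (LP (LK LD1_c2 LD2_c10 LD3_c53)) :=
  Lre_d IH (LK LD1_c1 LD2_c2 LD3_c27) (LK LD1_c2 LD2_c10 LD3_c53) Lrfl Lrfl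
theorem f7902 : Led Lsl_bt (LP (LK LD1_c2 LD2_c6 LD3_c5)) = (LP (LK LD1_c1 LD2_c0 LD3_c5)) :=
  Lre_b IH (LK LD1_c2 LD2_c6 LD3_c5) (LK LD1_c1 LD2_c0 LD3_c5) Lrfl Lrfl
theorem f255027 : Led Lsl_ef (LP (LK LD1_c2 LD2_c6 LD3_c5)) = (LP (LK LD1_c2 LD2_c2 LD3_c24)) :=
  Lgr Lrot29 (Lpr_bt (f7902 IH) (Lpr_et (K14.f255025 IH) (Lpr_bt (K9.f170669 IH) (Lpn (LP (LK LD1_c2 LD2_c2 LD3_c24))))))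
theorem f261294 : Led Lsl_gf (LP (LK LD1_c2 LD2_c6 LD3_c5)) = (LP (LK LD1_c2 LD2_c3 LD3_c14)) :=
  Lgr Lrot141 (Lpr_ef (f255027 IH) (Lpe (K14.f247619 IH) (Lpe (K10.f190742 IH) (Lpe (K13.f46135 IH) (Lpe (K1.f46131 IH) (Lpe (K9.f183838 IH) (Lpr_dt (f44626 IH) (Lpe (f242998 IH) (Lpr_df (K14.f253981 IH) (Lpr_et (f261292 IH) (Lpn (LP (LK LD1_c2 LD2_c3 LD3_c14)))))))))))))
theorem f27740 : Led Lsl_et (LP (LK LD1_c4 LD2_c50 LD3_c32)) = (LP (LK LD1_c2 LD2_c23 LD3_c2)) :=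
  Lre_e IH (LK LD1_c4 LD2_c50 LD3_c32) (LK LD1_c2 LD2_c23 LD3_c2) Lrfl Lrfl
theorem f223217 : Led Lsl_dt (LP (LK LD1_c4 LD2_c50 LD3_c32)) = (LP (LK LD1_c4 LD2_c14 LD3_c11)) :=
  Lgr Lrot136 (Lpr_et (f27740 IH) (Lpe (K10.f27710 IH) (Lpe (K0.f27577 IH) (Lpr_dt (K0.f27726 IH) (Lpr_gf (K1.f44544 IH) (Lpe (K1.f44443 IH) (Lpr_gf (K1.f47472 IH) (Lpe (K12.f47461 IH) (Lpr_dt (K9.f47462 IH) (Lpr_gf (K12.f223207 IH) (Lpn (LP (LK LD1_c4 LD2_c14 LD3_c11)))))))))))))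
theorem f43930 : Led Lsl_et (LP (LK LD1_c2 LD2_c37 LD3_c15)) = (LP (LK LD1_c1 LD2_c15 LD3_c38)) :=
  Lre_e IH (LK LD1_c2 LD2_c37 LD3_c15) (LK LD1_c1 LD2_c15 LD3_c38) Lrfl Lrfl
theorem f187867 : Led Lsl_et (LP (LK LD1_c2 LD2_c23 LD3_c2)) = (LP (LK LD1_c4 LD2_c50 LD3_c32)) :=
  Lre_e IH (LK LD1_c2 LD2_c23 LD3_c2) (LK LD1_c4 LD2_c50 LD3_c32) Lrfl Lrfl
theorem f190432 : Led Lsl_cf (LP (LK LD1_c2 LD2_c37 LD3_c15)) = (LP (LK LD1_c4 LD2_c50 LD3_c32)) :=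
  Lgr Lrot39 (Lpr_et (f43930 IH) (Lpr_ct (K10.f190352 IH) (Lpr_et (f187867 IH) (Lpn (LP (LK LD1_c4 LD2_c50 LD3_c32))))))
theorem f190435 : Led Lsl_ct (LP (LK LD1_c2 LD2_c37 LD3_c15)) = (LP (LK LD1_c4 LD2_c50 LD3_c32)) :=
  Lgr Lrot59 (Lpr_cf (f190432 IH) (Lpn (LP (LK LD1_c4 LD2_c50 LD3_c32))))
theorem f261300 : Led Lsl_gt (LP (LK LD1_c4 LD2_c3 LD3_c45)) = (LP (LK LD1_c2 LD2_c37 LD3_c15)) :=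
  Lgr Lrot150 (Lpe (K12.f201240 IH) (Lpr_gf (f261294 IH) (Lpe (f211276 IH) (Lpr_gt (K12.f220796 IH) (Lpr_ct (K9.f44737 IH) (Lpr_gt (K12.f44735 IH) (Lpe (K12.f220864 IH) (Lpe (f223217 IH) (Lpe (f190435 IH) (Lpn (LP (LK LD1_c2 LD2_c37 LD3_c15))))))))))))
theorem f239382 : Led Lsl_at (LP (LK LD1_c0 LD2_c56 LD3_c36)) = (LP (LK LD1_c0 LD2_c56 LD3_c57)) :=
  Lgr Lrot51 (Lpr_df (K13.f237313 IH) (Lpr_af (K13.f239376 IH) (Lpe (K12.f196372 IH) (Lpn (LP (LK LD1_c0 LD2_c56 LD3_c57))))))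
theorem f254969 : Led Lsl_gf (LP (LK LD1_c0 LD2_c59 LD3_c27)) = (LP (LK LD1_c1 LD2_c0 LD3_c33)) :=
  Lgr Lrot47 (Lpr_gt (K14.f254965 IH) (Lpe (f239382 IH) (Lpr_ff (K13.f239428 IH) (Lpn (LP (LK LD1_c1 LD2_c0 LD3_c33))))))
theorem f261315 : Led Lsl_gf (LP (LK LD1_c4 LD2_c19 LD3_c49)) = (LP (LK LD1_c4 LD2_c50 LD3_c32)) :=
  Lgr Lrot129 (Lpe (K14.f170292 IH) (Lpr_bt (K14.f246724 IH) (Lpe (K14.f246718 IH) (Lpe (K13.f211483 IH) (Lpr_ct (K12.f211472 IH) (Lpe (f254969 IH) (Lpe (K12.f201266 IH) (Lpr_bt (K14.f201239 IH) (Lpr_gt (f261300 IH) (Lpr_ct (f190435 IH) (Lpn (LP (LK LD1_c4 LD2_c50 LD3_c32)))))))))))))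
theorem f219295 : Led Lsl_dt (LP (LK LD1_c2 LD2_c1 LD3_c50)) = (LP (LK LD1_c4 LD2_c8 LD3_c55)) :=
  Lre_d IH (LK LD1_c2 LD2_c1 LD3_c50) (LK LD1_c4 LD2_c8 LD3_c55) Lrfl Lrfl
theorem f219303 : Led Lsl_et (LP (LK LD1_c2 LD2_c1 LD3_c50)) = (LP (LK LD1_c4 LD2_c8 LD3_c56)) :=
  Lre_e IH (LK LD1_c2 LD2_c1 LD3_c50) (LK LD1_c4 LD2_c8 LD3_c56) Lrfl Lrfl
theorem f190859 : Led Lsl_bt (LP (LK LD1_c2 LD2_c2 LD3_c0)) = (LP (LK LD1_c4 LD2_c9 LD3_c16)) :=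
  Lre_b IH (LK LD1_c2 LD2_c2 LD3_c0) (LK LD1_c4 LD2_c9 LD3_c16) Lrfl Lrfl
theorem f233729 : Led Lsl_bf (LP (LK LD1_c4 LD2_c9 LD3_c24)) = (LP (LK LD1_c4 LD2_c12 LD3_c34)) :=
  Lgr Lrot90 (Lpr_ct (K14.f190823 IH) (Lpr_bt (f190859 IH) (Lpr_ct (K13.f233711 IH) (Lpr_bt (K13.f189254 IH) (Lpr_ct (K13.f219195 IH) (Lpn (LP (LK LD1_c4 LD2_c12 LD3_c34))))))))
theorem f219322 : Led Lsl_bt (LP (LK LD1_c2 LD2_c1 LD3_c52)) = (LP (LK LD1_c0 LD2_c57 LD3_c58)) :=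
  Lre_b IH (LK LD1_c2 LD2_c1 LD3_c52) (LK LD1_c0 LD2_c57 LD3_c58) Lrfl Lrfl
theorem f219300 : Led Lsl_ct (LP (LK LD1_c2 LD2_c1 LD3_c52)) = (LP (LK LD1_c4 LD2_c8 LD3_c56)) :=
  Lre_c IH (LK LD1_c2 LD2_c1 LD3_c52) (LK LD1_c4 LD2_c8 LD3_c56) Lrfl Lrfl
theorem f257935 : Led Lsl_gf (LP (LK LD1_c5 LD2_c36 LD3_c9)) = (LP (LK LD1_c4 LD2_c8 LD3_c56)) :=
  Lgr Lrot126 (Lpr_cf (K13.f219197 IH) (Lpe (f233729 IH) (Lpr_gt (K14.f190858 IH) (Lpe (K14.f251723 IH) (Lpr_gt (f257912 IH) (Lpe (f231866 IH) (Lpr_bt (f231716 IH) (Lpe (K13.f246255 IH) (Lpe (f219322 IH) (Lpr_ct (f219300 IH) (Lpn (LP (LK LD1_c4 LD2_c8 LD3_c56)))))))))))))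
theorem f189263 : Led Lsl_dt (LP (LK LD1_c2 LD2_c43 LD3_c57)) = (LP (LK LD1_c5 LD2_c36 LD3_c8)) :=
  Lre_d IH (LK LD1_c2 LD2_c43 LD3_c57) (LK LD1_c5 LD2_c36 LD3_c8) Lrfl Lrfl
theorem f261321 : Led Lsl_gt (LP (LK LD1_c5 LD2_c36 LD3_c8)) = (LP (LK LD1_c4 LD2_c50 LD3_c31)) :=
  Lgr Lrot112 (Lpe (f189263 IH) (Lpr_et (K13.f189259 IH) (Lpr_gf (f257935 IH) (Lpe (f219303 IH) (Lpr_dt (f219295 IH) (Lpe (K14.f254888 IH) (Lpe (K14.f254822 IH) (Lpr_gf (f261315 IH) (Lpe (f187867 IH) (Lpr_dt (K14.f27739 IH) (Lpn (LP (LK LD1_c4 LD2_c50 LD3_c31)))))))))))))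
theorem f216455 : Led Lsl_bt (LP (LK LD1_c2 LD2_c43 LD3_c59)) = (LP (LK LD1_c5 LD2_c36 LD3_c8)) :=
  Lre_b IH (LK LD1_c2 LD2_c43 LD3_c59) (LK LD1_c5 LD2_c36 LD3_c8) Lrfl Lrfl
theorem f216458 : Led Lsl_ct (LP (LK LD1_c2 LD2_c43 LD3_c59)) = (LP (LK LD1_c5 LD2_c36 LD3_c10)) :=
  Lre_c IH (LK LD1_c2 LD2_c43 LD3_c59) (LK LD1_c5 LD2_c36 LD3_c10) Lrfl Lrfl
theorem f187868 : Led Lsl_bt (LP (LK LD1_c5 LD2_c0 LD3_c57)) = (LP (LK LD1_c4 LD2_c50 LD3_c31)) :=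
  Lgr Lrot127 (Lpr_bf (K14.f187865 IH) (Lpn (LP (LK LD1_c4 LD2_c50 LD3_c31))))
theorem f165861 : Led Lsl_ct (LP (LK LD1_c5 LD2_c0 LD3_c57)) = (LP (LK LD1_c9 LD2_c52 LD3_c17)) :=
  Lre_c IH (LK LD1_c5 LD2_c0 LD3_c57) (LK LD1_c9 LD2_c52 LD3_c17) Lrfl Lrfl
theorem f191311 : Led Lsl_ct (LP (LK LD1_c5 LD2_c28 LD3_c12)) = (LP (LK LD1_c2 LD2_c40 LD3_c25)) :=
  Lre_c IH (LK LD1_c5 LD2_c28 LD3_c12) (LK LD1_c2 LD2_c40 LD3_c25) Lrfl Lrfl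
theorem f49316 : Led Lsl_dt (LP (LK LD1_c2 LD2_c1 LD3_c24)) = (LP (LK LD1_c4 LD2_c8 LD3_c5)) :=
  Lre_d IH (LK LD1_c2 LD2_c1 LD3_c24) (LK LD1_c4 LD2_c8 LD3_c5) Lrfl Lrfl
theorem f165860 : Led Lsl_ct (LP (LK LD1_c9 LD2_c52 LD3_c17)) = (LP (LK LD1_c5 LD2_c0 LD3_c57)) :=
  Lre_c IH (LK LD1_c9 LD2_c52 LD3_c17) (LK LD1_c5 LD2_c0 LD3_c57) Lrfl Lrfl
theorem f188522 : Led Lsl_dt (LP (LK LD1_c8 LD2_c16 LD3_c16)) = (LP (LK LD1_c9 LD2_c52 LD3_c17)) :=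
  Lgr Lrot105 (Lpe (K10.f49347 IH) (Lpe (f49316 IH) (Lpe (K10.f49332 IH) (Lpr_cf (K10.f188047 IH) (Lpr_gt (K10.f188518 IH) (Lpr_dt (K9.f32427 IH) (Lpr_gt (K9.f165855 IH) (Lpr_dt (K9.f165859 IH) (Lpe (f165860 IH) (Lpn (LP (LK LD1_c9 LD2_c52 LD3_c17))))))))))))
theorem f259197 : Led Lsl_gf (LP (LK LD1_c5 LD2_c28 LD3_c12)) = (LP (LK LD1_c9 LD2_c52 LD3_c17)) :=
  Lgr Lrot179 (Lpr_ct (f191311 IH) (Lpr_gt (f259190 IH) (Lpr_ct (K10.f49109 IH) (Lpr_dt (f49110 IH) (Lpr_cf (K10.f188209 IH) (Lpe (K10.f49121 IH) (Lpe (K9.f49565 IH) (Lpr_gf (K10.f53567 IH) (Lpr_dt (f188522 IH) (Lpn (LP (LK LD1_c9 LD2_c52 LD3_c17))))))))))))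
theorem f261323 : Led Lsl_gf (LP (LK LD1_c5 LD2_c36 LD3_c10)) = (LP (LK LD1_c6 LD2_c4 LD3_c46)) :=
  Lgr Lrot129 (Lpe (f216458 IH) (Lpr_bt (f216455 IH) (Lpr_gt (f261321 IH) (Lpe (f187868 IH) (Lpr_ct (f165861 IH) (Lpe (f259197 IH) (Lpe (K14.f175072 IH) (Lpr_bt (K14.f252679 IH) (Lpe (f253000 IH) (Lpr_ct (f187854 IH) (Lpn (LP (LK LD1_c6 LD2_c4 LD3_c46)))))))))))))
theorem f216197 : Led Lsl_bt (LP (LK LD1_c2 LD2_c58 LD3_c33)) = (LP (LK LD1_c1 LD2_c25 LD3_c2)) :=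
  Lre_b IH (LK LD1_c2 LD2_c58 LD3_c33) (LK LD1_c1 LD2_c25 LD3_c2) Lrfl Lrfl
theorem f230431 : Led Lsl_gf (LP (LK LD1_c0 LD2_c34 LD3_c58)) = (LP (LK LD1_c0 LD2_c34 LD3_c52)) :=
  Lgr Lrot144 (Lpr_dt (K12.f28287 IH) (Lpe (K9.f184226 IH) (Lpe (K12.f167616 IH) (Lpe (K12.f230307 IH) (Lpr_df (K14.f171212 IH) (Lpe (K12.f212435 IH) (Lpe (K12.f43294 IH) (Lpr_gf (K12.f43815 IH) (Lpr_cf (K12.f230425 IH) (Lpn (LP (LK LD1_c0 LD2_c34 LD3_c52))))))))))))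
theorem f249211 : Led Lsl_bt (LP (LK LD1_c1 LD2_c2 LD3_c27)) = (LP (LK LD1_c0 LD2_c34 LD3_c56)) :=
  Lgr Lrot92 (Lpr_ct (K14.f183828 IH) (Lpr_gt (K9.f49221 IH) (Lpr_cf (K9.f47520 IH) (Lpr_bt (K11.f43830 IH) (Lpr_gt (K12.f43814 IH) (Lpr_ct (K14.f230429 IH) (Lpe (f230431 IH) (Lpe (K1.f28261 IH) (Lpr_bt (K1.f28292 IH) (Lpr_gt (K14.f249107 IH) (Lpn (LP (LK LD1_c0 LD2_c34 LD3_c56)))))))))))))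
theorem f249220 : Led Lsl_bf (LP (LK LD1_c2 LD2_c10 LD3_c54)) = (LP (LK LD1_c1 LD2_c15 LD3_c18)) :=
  Lgr Lrot96 (Lpr_et (K14.f44598 IH) (Lpr_bt (f249211 IH) (Lpr_et (K14.f230548 IH) (Lpn (LP (LK LD1_c1 LD2_c15 LD3_c18))))))
theorem f249226 : Led Lsl_bt (LP (LK LD1_c2 LD2_c37 LD3_c21)) = (LP (LK LD1_c2 LD2_c36 LD3_c37)) :=
  Lgr Lrot95 (Lpr_df (K14.f44599 IH) (Lpr_bf (f249220 IH) (Lpe (K14.f249225 IH) (Lpn (LP (LK LD1_c2 LD2_c36 LD3_c37))))))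
theorem f261327 : Led Lsl_gt (LP (LK LD1_c9 LD2_c33 LD3_c14)) = (LP (LK LD1_c5 LD2_c21 LD3_c28)) :=
  Lgr Lrot149 (Lpe (K14.f187873 IH) (Lpe (f261321 IH) (Lpe (f216455 IH) (Lpr_ct (f216458 IH) (Lpr_gf (f261323 IH) (Lpe (f187854 IH) (Lpr_bt (f216197 IH) (Lpe (K14.f256251 IH) (Lpe (f249226 IH) (Lpr_ct (K14.f44601 IH) (Lpn (LP (LK LD1_c5 LD2_c21 LD3_c28)))))))))))))
theorem f189260 : Led Lsl_dt (LP (LK LD1_c5 LD2_c36 LD3_c8)) = (LP (LK LD1_c2 LD2_c43 LD3_c57)) :=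
  Lre_d IH (LK LD1_c5 LD2_c36 LD3_c8) (LK LD1_c2 LD2_c43 LD3_c57) Lrfl Lrfl
theorem f261333 : Led Lsl_gt (LP (LK LD1_c2 LD2_c8 LD3_c6)) = (LP (LK LD1_c4 LD2_c7 LD3_c48)) :=
  Lgr Lrot150 (Lpe (K13.f46482 IH) (Lpe (K13.f219187 IH) (Lpe (f189260 IH) (Lpr_gt (f261321 IH) (Lpr_ct (K14.f187873 IH) (Lpr_gt (f261327 IH) (Lpr_ct (K14.f44612 IH) (Lpr_df (K14.f44599 IH) (Lpr_cf (K14.f230922 IH) (Lpn (LP (LK LD1_c4 LD2_c7 LD3_c48))))))))))))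
theorem f246730 : Led Lsl_ct (LP (LK LD1_c4 LD2_c19 LD3_c49)) = (LP (LK LD1_c2 LD2_c7 LD3_c22)) :=
  Lre_c IH (LK LD1_c4 LD2_c19 LD3_c49) (LK LD1_c2 LD2_c7 LD3_c22) Lrfl Lrfl
theorem f246737 : Led Lsl_df (LP (LK LD1_c2 LD2_c7 LD3_c22)) = (LP (LK LD1_c2 LD2_c3 LD3_c23)) :=
  Lgr Lrot38 (Lpr_dt (K14.f246733 IH) (Lpn (LP (LK LD1_c2 LD2_c3 LD3_c23))))
theorem f166570 : Led Lsl_ct (LP (LK LD1_c4 LD2_c12 LD3_c19)) = (LP (LK LD1_c2 LD2_c3 LD3_c23)) :=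
  Lre_c IH (LK LD1_c4 LD2_c12 LD3_c19) (LK LD1_c2 LD2_c3 LD3_c23) Lrfl Lrfl
theorem f261319 : Led Lsl_df (LP (LK LD1_c4 LD2_c8 LD3_c57)) = (LP (LK LD1_c4 LD2_c3 LD3_c45)) :=
  Lgr Lrot155 (Lpr_gt (K14.f246772 IH) (Lpr_ct (K14.f187153 IH) (Lpr_gt (K14.f219711 IH) (Lpr_ct (f166570 IH) (Lpe (f246737 IH) (Lpe (f246730 IH) (Lpr_gf (f261315 IH) (Lpe (f190435 IH) (Lpe (f261300 IH) (Lpn (LP (LK LD1_c4 LD2_c3 LD3_c45))))))))))))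
theorem f31636 : Led Lsl_dt (LP (LK LD1_c1 LD2_c11 LD3_c61)) = (LP (LK LD1_c0 LD2_c33 LD3_c19)) :=
  Lre_d IH (LK LD1_c1 LD2_c11 LD3_c61) (LK LD1_c0 LD2_c33 LD3_c19) Lrfl Lrfl
theorem f192362 : Led Lsl_dt (LP (LK LD1_c2 LD2_c29 LD3_c45)) = (LP (LK LD1_c1 LD2_c11 LD3_c56)) :=
  Lre_d IH (LK LD1_c2 LD2_c29 LD3_c45) (LK LD1_c1 LD2_c11 LD3_c56) Lrfl Lrfl
theorem f211378 : Led Lsl_gt (LP (LK LD1_c5 LD2_c4 LD3_c50)) = (LP (LK LD1_c2 LD2_c29 LD3_c45)) :=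
  Lre_g IH (LK LD1_c5 LD2_c4 LD3_c50) (LK LD1_c2 LD2_c29 LD3_c45) Lrfl Lrfl
theorem f247546 : Led Lsl_af (LP (LK LD1_c4 LD2_c10 LD3_c9)) = (LP (LK LD1_c4 LD2_c7 LD3_c50)) :=
  Lgr Lrot117 (Lpr_dt (K10.f170844 IH) (Lpr_at (K14.f247542 IH) (Lpe (K12.f231248 IH) (Lpn (LP (LK LD1_c4 LD2_c7 LD3_c50))))))
theorem f253295 : Led Lsl_df (LP (LK LD1_c4 LD2_c27 LD3_c45)) = (LP (LK LD1_c2 LD2_c37 LD3_c27)) :=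
  Lgr Lrot38 (Lpr_dt (K14.f253286 IH) (Lpn (LP (LK LD1_c2 LD2_c37 LD3_c27))))
theorem f253309 : Led Lsl_cf (LP (LK LD1_c4 LD2_c10 LD3_c3)) = (LP (LK LD1_c4 LD2_c27 LD3_c45)) :=
  Lgr Lrot118 (Lpe (K12.f230779 IH) (Lpr_ct (K12.f187550 IH) (Lpr_dt (K12.f188017 IH) (Lpr_ct (K12.f230740 IH) (Lpr_dt (K12.f47410 IH) (Lpr_ct (K12.f188000 IH) (Lpr_af (f247546 IH) (Lpr_ff (K14.f253297 IH) (Lpe (f253295 IH) (Lpn (LP (LK LD1_c4 LD2_c27 LD3_c45))))))))))))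
theorem f247544 : Led Lsl_af (LP (LK LD1_c2 LD2_c2 LD3_c17)) = (LP (LK LD1_c2 LD2_c11 LD3_c2)) :=
  Lgr Lrot0 (Lpr_at (K14.f247542 IH) (Lpn (LP (LK LD1_c2 LD2_c11 LD3_c2))))
theorem f231299 : Led Lsl_ft (LP (LK LD1_c4 LD2_c27 LD3_c45)) = (LP (LK LD1_c2 LD2_c11 LD3_c2)) :=
  Lre_f IH (LK LD1_c4 LD2_c27 LD3_c45) (LK LD1_c2 LD2_c11 LD3_c2) Lrfl Lrfl
theorem f251585 : Led Lsl_gt (LP (LK LD1_c4 LD2_c27 LD3_c45)) = (LP (LK LD1_c2 LD2_c40 LD3_c26)) :=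
  Lgr Lrot5 (Lpr_ft (f231299 IH) (Lpe (f247544 IH) (Lpr_gf (K14.f251582 IH) (Lpn (LP (LK LD1_c2 LD2_c40 LD3_c26))))))
theorem f253986 : Led Lsl_df (LP (LK LD1_c5 LD2_c4 LD3_c50)) = (LP (LK LD1_c2 LD2_c40 LD3_c26)) :=
  Lgr Lrot153 (Lpr_gt (f211378 IH) (Lpr_dt (f192362 IH) (Lpe (K11.f31635 IH) (Lpe (f31636 IH) (Lpe (K14.f31637 IH) (Lpr_df (K14.f253981 IH) (Lpe (K14.f230787 IH) (Lpr_cf (f253309 IH) (Lpr_gt (f251585 IH) (Lpn (LP (LK LD1_c2 LD2_c40 LD3_c26))))))))))))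
theorem f261343 : Led Lsl_gf (LP (LK LD1_c5 LD2_c4 LD3_c50)) = (LP (LK LD1_c4 LD2_c7 LD3_c47)) :=
  Lgr Lrot145 (Lpr_df (f253986 IH) (Lpr_et (K14.f251398 IH) (Lpe (K14.f254895 IH) (Lpe (f261319 IH) (Lpr_gt (K14.f246772 IH) (Lpe (K14.f45746 IH) (Lpr_et (K10.f187108 IH) (Lpr_gt (f261333 IH) (Lpe (K14.f230859 IH) (Lpr_dt (K14.f50753 IH) (Lpn (LP (LK LD1_c4 LD2_c7 LD3_c47)))))))))))))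
theorem f230875 : Led Lsl_bt (LP (LK LD1_c2 LD2_c36 LD3_c47)) = (LP (LK LD1_c4 LD2_c7 LD3_c47)) :=
  Lgr Lrot127 (Lpr_bf (K14.f230873 IH) (Lpn (LP (LK LD1_c4 LD2_c7 LD3_c47))))
theorem f256547 : Led Lsl_cf (LP (LK LD1_c10 LD2_c9 LD3_c45)) = (LP (LK LD1_c8 LD2_c24 LD3_c45)) :=
  Lgr Lrot11 (Lpr_ct (f256491 IH) (Lpn (LP (LK LD1_c8 LD2_c24 LD3_c45))))
theorem f236144 : Led Lsl_ct (LP (LK LD1_c2 LD2_c40 LD3_c28)) = (LP (LK LD1_c5 LD2_c28 LD3_c18)) :=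
  Lre_c IH (LK LD1_c2 LD2_c40 LD3_c28) (LK LD1_c5 LD2_c28 LD3_c18) Lrfl Lrfl
theorem f259335 : Led Lsl_gf (LP (LK LD1_c9 LD2_c52 LD3_c17)) = (LP (LK LD1_c5 LD2_c28 LD3_c18)) :=
  Lgr Lrot104 (Lpr_ct (f165860 IH) (Lpe (K9.f165859 IH) (Lpe (K9.f3747 IH) (Lpr_gf (K9.f184110 IH) (Lpe (K9.f49113 IH) (Lpe (K9.f47744 IH) (Lpe (K10.f47752 IH) (Lpr_gt (f259323 IH) (Lpr_ct (f236144 IH) (Lpn (LP (LK LD1_c5 LD2_c28 LD3_c18))))))))))))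
theorem f261352 : Led Lsl_bf (LP (LK LD1_c5 LD2_c4 LD3_c50)) = (LP (LK LD1_c2 LD2_c40 LD3_c28)) :=
  Lgr Lrot34 (Lpr_gf (f261343 IH) (Lpe (f230875 IH) (Lpr_ct (f177815 IH) (Lpr_gf (f256343 IH) (Lpr_cf (f256547 IH) (Lpe (K14.f256401 IH) (Lpe (f187868 IH) (Lpr_ct (f165861 IH) (Lpr_gf (f259335 IH) (Lpe (f236144 IH) (Lpn (LP (LK LD1_c2 LD2_c40 LD3_c28)))))))))))))
theorem f261354 : Led Lsl_bt (LP (LK LD1_c5 LD2_c4 LD3_c50)) = (LP (LK LD1_c2 LD2_c40 LD3_c28)) :=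
  Lgr Lrot127 (Lpr_bf (f261352 IH) (Lpn (LP (LK LD1_c2 LD2_c40 LD3_c28))))
theorem f259586 : Led Lsl_ct (LP (LK LD1_c5 LD2_c4 LD3_c50)) = (LP (LK LD1_c10 LD2_c0 LD3_c43)) :=
  Lre_c IH (LK LD1_c5 LD2_c4 LD3_c50) (LK LD1_c10 LD2_c0 LD3_c43) Lrfl Lrfl
theorem f192139 : Led Lsl_dt (LP (LK LD1_c2 LD2_c29 LD3_c4)) = (LP (LK LD1_c1 LD2_c11 LD3_c40)) :=
  Lre_d IH (LK LD1_c2 LD2_c29 LD3_c4) (LK LD1_c1 LD2_c11 LD3_c40) Lrfl Lrfl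
theorem f259581 : Led Lsl_ct (LP (LK LD1_c10 LD2_c0 LD3_c43)) = (LP (LK LD1_c5 LD2_c4 LD3_c50)) :=
  Lre_c IH (LK LD1_c10 LD2_c0 LD3_c43) (LK LD1_c5 LD2_c4 LD3_c50) Lrfl Lrfl
theorem f259582 : Led Lsl_gf (LP (LK LD1_c10 LD2_c0 LD3_c43)) = (LP (LK LD1_c8 LD2_c10 LD3_c53)) :=
  Lgr Lrot104 (Lpr_ct (f259581 IH) (Lpr_df (f253986 IH) (Lpe (K14.f193960 IH) (Lpe (K14.f193957 IH) (Lpe (K14.f28378 IH) (Lpe (K14.f28361 IH) (Lpe (f192139 IH) (Lpr_gt (f259577 IH) (Lpr_ct (f55607 IH) (Lpn (LP (LK LD1_c8 LD2_c10 LD3_c53))))))))))))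
theorem f21301 : Led Lsl_ct (LP (LK LD1_c2 LD2_c29 LD3_c11)) = (LP (LK LD1_c1 LD2_c11 LD3_c43)) :=
  Lre_c IH (LK LD1_c2 LD2_c29 LD3_c11) (LK LD1_c1 LD2_c11 LD3_c43) Lrfl Lrfl
theorem f193955 : Led Lsl_gf (LP (LK LD1_c2 LD2_c29 LD3_c11)) = (LP (LK LD1_c1 LD2_c25 LD3_c10)) :=
  Lgr Lrot104 (Lpr_ct (f21301 IH) (Lpe (K8.f21285 IH) (Lpr_cf (K8.f28358 IH) (Lpr_gf (K13.f193950 IH) (Lpr_cf (K10.f174972 IH) (Lpe (K0.f7738 IH) (Lpe (K9.f7942 IH) (Lpe (K9.f181195 IH) (Lpr_ct (K10.f181190 IH) (Lpn (LP (LK LD1_c1 LD2_c25 LD3_c10))))))))))))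
theorem f261382 : Led Lsl_gf (LP (LK LD1_c1 LD2_c25 LD3_c8)) = (LP (LK LD1_c2 LD2_c40 LD3_c28)) :=
  Lgr Lrot124 (Lpe (K14.f183371 IH) (Lpr_ct (K10.f181190 IH) (Lpe (f193955 IH) (Lpe (K10.f21296 IH) (Lpr_bt (K10.f192147 IH) (Lpr_gt (f259577 IH) (Lpr_ct (f55607 IH) (Lpe (f259582 IH) (Lpe (f259586 IH) (Lpr_bt (f261354 IH) (Lpn (LP (LK LD1_c2 LD2_c40 LD3_c28)))))))))))))
theorem f182083 : Led Lsl_et (LP (LK LD1_c0 LD2_c39 LD3_c13)) = (LP (LK LD1_c1 LD2_c25 LD3_c9)) :=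
  Lre_e IH (LK LD1_c0 LD2_c39 LD3_c13) (LK LD1_c1 LD2_c25 LD3_c9) Lrfl Lrfl
theorem f250929 : Led Lsl_gf (LP (LK LD1_c2 LD2_c5 LD3_c20)) = (LP (LK LD1_c1 LD2_c16 LD3_c51)) :=
  Lgr Lrot145 (Lpe (K13.f234213 IH) (Lpr_et (K14.f234212 IH) (Lpr_gt (K14.f250902 IH) (Lpr_dt (K13.f236104 IH) (Lpr_gt (K12.f51409 IH) (Lpe (K10.f47555 IH) (Lpe (K10.f27314 IH) (Lpr_gt (K9.f51615 IH) (Lpe (K13.f777 IH) (Lpe (K13.f235997 IH) (Lpn (LP (LK LD1_c1 LD2_c16 LD3_c51)))))))))))))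
theorem f261395 : Led Lsl_gt (LP (LK LD1_c1 LD2_c25 LD3_c9)) = (LP (LK LD1_c2 LD2_c1 LD3_c31)) :=
  Lgr Lrot137 (Lpe (f182083 IH) (Lpr_dt (K14.f182084 IH) (Lpr_gf (f261382 IH) (Lpe (f236143 IH) (Lpr_et (K13.f236114 IH) (Lpe (K14.f250902 IH) (Lpe (K14.f234212 IH) (Lpr_dt (K13.f234213 IH) (Lpr_gf (f250929 IH) (Lpr_df (K13.f235997 IH) (Lpn (LP (LK LD1_c2 LD2_c1 LD3_c31)))))))))))))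
theorem f182067 : Led Lsl_et (LP (LK LD1_c1 LD2_c25 LD3_c9)) = (LP (LK LD1_c0 LD2_c39 LD3_c13)) :=
  Lre_e IH (LK LD1_c1 LD2_c25 LD3_c9) (LK LD1_c0 LD2_c39 LD3_c13) Lrfl Lrfl
theorem f48211 : Led Lsl_et (LP (LK LD1_c0 LD2_c34 LD3_c42)) = (LP (LK LD1_c1 LD2_c14 LD3_c49)) :=
  Lre_e IH (LK LD1_c0 LD2_c34 LD3_c42) (LK LD1_c1 LD2_c14 LD3_c49) Lrfl Lrfl
theorem f182068 : Led Lsl_cf (LP (LK LD1_c1 LD2_c25 LD3_c9)) = (LP (LK LD1_c1 LD2_c14 LD3_c49)) :=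
  Lgr Lrot39 (Lpr_et (f182067 IH) (Lpr_ct (K10.f182040 IH) (Lpr_et (f48211 IH) (Lpn (LP (LK LD1_c1 LD2_c14 LD3_c49))))))
theorem f229148 : Led Lsl_et (LP (LK LD1_c4 LD2_c1 LD3_c61)) = (LP (LK LD1_c1 LD2_c57 LD3_c55)) :=
  Lre_e IH (LK LD1_c4 LD2_c1 LD3_c61) (LK LD1_c1 LD2_c57 LD3_c55) Lrfl Lrfl
theorem f229433 : Led Lsl_et (LP (LK LD1_c1 LD2_c55 LD3_c18)) = (LP (LK LD1_c3 LD2_c57 LD3_c4)) :=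
  Lre_e IH (LK LD1_c1 LD2_c55 LD3_c18) (LK LD1_c3 LD2_c57 LD3_c4) Lrfl Lrfl
theorem f229717 : Led Lsl_df (LP (LK LD1_c4 LD2_c1 LD3_c61)) = (LP (LK LD1_c3 LD2_c57 LD3_c4)) :=
  Lgr Lrot70 (Lpr_et (f229148 IH) (Lpr_dt (K12.f193630 IH) (Lpr_et (K13.f229716 IH) (Lpr_dt (K13.f229712 IH) (Lpr_et (f229433 IH) (Lpn (LP (LK LD1_c3 LD2_c57 LD3_c4))))))))
theorem f229157 : Led Lsl_ft (LP (LK LD1_c4 LD2_c1 LD3_c61)) = (LP (LK LD1_c8 LD2_c4 LD3_c41)) :=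
  Lre_f IH (LK LD1_c4 LD2_c1 LD3_c61) (LK LD1_c8 LD2_c4 LD3_c41) Lrfl Lrfl
theorem f229725 : Led Lsl_ft (LP (LK LD1_c7 LD2_c55 LD3_c50)) = (LP (LK LD1_c3 LD2_c57 LD3_c4)) :=
  Lre_f IH (LK LD1_c7 LD2_c55 LD3_c50) (LK LD1_c3 LD2_c57 LD3_c4) Lrfl Lrfl
theorem f229726 : Led Lsl_dt (LP (LK LD1_c8 LD2_c4 LD3_c41)) = (LP (LK LD1_c7 LD2_c55 LD3_c50)) :=
  Lgr Lrot60 (Lpe (f229157 IH) (Lpr_df (f229717 IH) (Lpe (f229725 IH) (Lpn (LP (LK LD1_c7 LD2_c55 LD3_c50))))))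
theorem f229750 : Led Lsl_df (LP (LK LD1_c8 LD2_c4 LD3_c41)) = (LP (LK LD1_c7 LD2_c55 LD3_c50)) :=
  Lgr Lrot38 (Lpr_dt (f229726 IH) (Lpn (LP (LK LD1_c7 LD2_c55 LD3_c50))))
theorem f229149 : Led Lsl_bf (LP (LK LD1_c4 LD2_c1 LD3_c61)) = (LP (LK LD1_c2 LD2_c35 LD3_c33)) :=
  Lgr Lrot96 (Lpr_et (f229148 IH) (Lpr_bt (K14.f229142 IH) (Lpr_et (K10.f48298 IH) (Lpn (LP (LK LD1_c2 LD2_c35 LD3_c33))))))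
theorem f49060 : Led Lsl_ft (LP (LK LD1_c5 LD2_c17 LD3_c37)) = (LP (LK LD1_c2 LD2_c35 LD3_c33)) :=
  Lre_f IH (LK LD1_c5 LD2_c17 LD3_c37) (LK LD1_c2 LD2_c35 LD3_c33) Lrfl Lrfl
theorem f229158 : Led Lsl_bt (LP (LK LD1_c8 LD2_c4 LD3_c41)) = (LP (LK LD1_c5 LD2_c17 LD3_c37)) :=
  Lgr Lrot35 (Lpe (f229157 IH) (Lpr_bf (f229149 IH) (Lpe (f49060 IH) (Lpn (LP (LK LD1_c5 LD2_c17 LD3_c37))))))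
theorem f48243 : Led Lsl_et (LP (LK LD1_c2 LD2_c5 LD3_c7)) = (LP (LK LD1_c4 LD2_c15 LD3_c30)) :=
  Lre_e IH (LK LD1_c2 LD2_c5 LD3_c7) (LK LD1_c4 LD2_c15 LD3_c30) Lrfl Lrfl
theorem f48231 : Led Lsl_et (LP (LK LD1_c2 LD2_c35 LD3_c33)) = (LP (LK LD1_c1 LD2_c14 LD3_c48)) :=
  Lre_e IH (LK LD1_c2 LD2_c35 LD3_c33) (LK LD1_c1 LD2_c14 LD3_c48) Lrfl Lrfl
theorem f48245 : Led Lsl_dt (LP (LK LD1_c4 LD2_c15 LD3_c30)) = (LP (LK LD1_c2 LD2_c35 LD3_c33)) :=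
  Lgr Lrot77 (Lpe (f48243 IH) (Lpr_df (K10.f48190 IH) (Lpe (f48211 IH) (Lpe (K10.f48244 IH) (Lpe (f48231 IH) (Lpn (LP (LK LD1_c2 LD2_c35 LD3_c33))))))))
theorem f49046 : Led Lsl_ft (LP (LK LD1_c8 LD2_c29 LD3_c57)) = (LP (LK LD1_c4 LD2_c15 LD3_c30)) :=
  Lre_f IH (LK LD1_c8 LD2_c29 LD3_c57) (LK LD1_c4 LD2_c15 LD3_c30) Lrfl Lrfl
theorem f49047 : Led Lsl_ft (LP (LK LD1_c2 LD2_c35 LD3_c33)) = (LP (LK LD1_c5 LD2_c17 LD3_c37)) :=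
  Lre_f IH (LK LD1_c2 LD2_c35 LD3_c33) (LK LD1_c5 LD2_c17 LD3_c37) Lrfl Lrfl
theorem f49048 : Led Lsl_df (LP (LK LD1_c8 LD2_c29 LD3_c57)) = (LP (LK LD1_c5 LD2_c17 LD3_c37)) :=
  Lgr Lrot78 (Lpr_ft (f49046 IH) (Lpr_dt (f48245 IH) (Lpr_ft (f49047 IH) (Lpn (LP (LK LD1_c5 LD2_c17 LD3_c37))))))
theorem f229753 : Led Lsl_bt (LP (LK LD1_c8 LD2_c29 LD3_c57)) = (LP (LK LD1_c7 LD2_c55 LD3_c50)) :=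
  Lgr Lrot95 (Lpr_df (f49048 IH) (Lpe (f229158 IH) (Lpr_df (f229750 IH) (Lpn (LP (LK LD1_c7 LD2_c55 LD3_c50))))))
theorem f49050 : Led Lsl_ft (LP (LK LD1_c4 LD2_c15 LD3_c30)) = (LP (LK LD1_c8 LD2_c29 LD3_c57)) :=
  Lre_f IH (LK LD1_c4 LD2_c15 LD3_c30) (LK LD1_c8 LD2_c29 LD3_c57) Lrfl Lrfl
theorem f229757 : Led Lsl_bf (LP (LK LD1_c4 LD2_c15 LD3_c30)) = (LP (LK LD1_c3 LD2_c57 LD3_c4)) :=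
  Lgr Lrot61 (Lpr_ft (f49050 IH) (Lpr_bt (f229753 IH) (Lpr_ft (f229725 IH) (Lpn (LP (LK LD1_c3 LD2_c57 LD3_c4))))))
theorem f805 : Led Lsl_et (LP (LK LD1_c4 LD2_c15 LD3_c30)) = (LP (LK LD1_c2 LD2_c5 LD3_c7)) :=
  Lre_e IH (LK LD1_c4 LD2_c15 LD3_c30) (LK LD1_c2 LD2_c5 LD3_c7) Lrfl Lrfl
theorem f229759 : Led Lsl_bt (LP (LK LD1_c2 LD2_c5 LD3_c7)) = (LP (LK LD1_c1 LD2_c55 LD3_c18)) :=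
  Lgr Lrot119 (Lpe (f805 IH) (Lpr_bf (f229757 IH) (Lpe (f229433 IH) (Lpn (LP (LK LD1_c1 LD2_c55 LD3_c18))))))
theorem f229761 : Led Lsl_bf (LP (LK LD1_c2 LD2_c5 LD3_c7)) = (LP (LK LD1_c1 LD2_c55 LD3_c18)) :=
  Lgr Lrot24 (Lpr_bt (f229759 IH) (Lpn (LP (LK LD1_c1 LD2_c55 LD3_c18))))
theorem f48241 : Led Lsl_dt (LP (LK LD1_c2 LD2_c5 LD3_c7)) = (LP (LK LD1_c1 LD2_c14 LD3_c49)) :=
  Lgr Lrot42 (Lpr_df (K10.f48190 IH) (Lpn (LP (LK LD1_c1 LD2_c14 LD3_c49))))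
theorem f229854 : Led Lsl_bt (LP (LK LD1_c1 LD2_c14 LD3_c49)) = (LP (LK LD1_c1 LD2_c57 LD3_c56)) :=
  Lgr Lrot95 (Lpe (f48241 IH) (Lpr_bf (f229761 IH) (Lpe (K13.f229712 IH) (Lpn (LP (LK LD1_c1 LD2_c57 LD3_c56))))))
theorem f254973 : Led Lsl_gt (LP (LK LD1_c1 LD2_c58 LD3_c55)) = (LP (LK LD1_c1 LD2_c57 LD3_c56)) :=
  Lgr Lrot94 (Lpr_cf (K12.f201268 IH) (Lpr_gt (K14.f254965 IH) (Lpr_dt (K12.f196372 IH) (Lpr_gt (K9.f174944 IH) (Lpr_dt (K1.f35597 IH) (Lpe (K9.f42722 IH) (Lpe (K12.f42868 IH) (Lpe (K12.f43209 IH) (Lpe (K13.f229712 IH) (Lpn (LP (LK LD1_c1 LD2_c57 LD3_c56))))))))))))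
theorem f261285 : Led Lsl_bt (LP (LK LD1_c3 LD2_c58 LD3_c21)) = (LP (LK LD1_c1 LD2_c55 LD3_c60)) :=
  Lre_b IH (LK LD1_c3 LD2_c58 LD3_c21) (LK LD1_c1 LD2_c55 LD3_c60) Lrfl Lrfl
theorem f261399 : Led Lsl_ct (LP (LK LD1_c3 LD2_c58 LD3_c21)) = (LP (LK LD1_c2 LD2_c1 LD3_c31)) :=
  Lgr Lrot10 (Lpr_bt (f261285 IH) (Lpr_gt (f261279 IH) (Lpr_ct (f196989 IH) (Lpe (f261294 IH) (Lpr_cf (K12.f201232 IH) (Lpr_bt (K12.f201244 IH) (Lpr_gt (f254973 IH) (Lpe (f229854 IH) (Lpe (f182068 IH) (Lpr_gt (f261395 IH) (Lpn (LP (LK LD1_c2 LD2_c1 LD3_c31)))))))))))))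
theorem f261404 : Led Lsl_gt (LP (LK LD1_c1 LD2_c17 LD3_c24)) = (LP (LK LD1_c1 LD2_c14 LD3_c49)) :=
  Lgr Lrot82 (Lpe (f236371 IH) (Lpe (f245891 IH) (Lpe (K9.f6759 IH) (Lpe (K14.f53155 IH) (Lpr_bt (K14.f53332 IH) (Lpe (f261279 IH) (Lpe (f261285 IH) (Lpr_ct (f261399 IH) (Lpe (f261395 IH) (Lpr_cf (f182068 IH) (Lpn (LP (LK LD1_c1 LD2_c14 LD3_c49)))))))))))))
theorem f251784 : Led Lsl_ct (LP (LK LD1_c2 LD2_c41 LD3_c10)) = (LP (LK LD1_c1 LD2_c17 LD3_c24)) :=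
  Lre_c IH (LK LD1_c2 LD2_c41 LD3_c10) (LK LD1_c1 LD2_c17 LD3_c24) Lrfl Lrfl
theorem f182079 : Led Lsl_ct (LP (LK LD1_c1 LD2_c25 LD3_c9)) = (LP (LK LD1_c1 LD2_c14 LD3_c49)) :=
  Lgr Lrot59 (Lpr_cf (f182068 IH) (Lpn (LP (LK LD1_c1 LD2_c14 LD3_c49))))
theorem f181187 : Led Lsl_bt (LP (LK LD1_c1 LD2_c25 LD3_c9)) = (LP (LK LD1_c0 LD2_c39 LD3_c15)) :=
  Lre_b IH (LK LD1_c1 LD2_c25 LD3_c9) (LK LD1_c0 LD2_c39 LD3_c15) Lrfl Lrfl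
theorem f224865 : Led Lsl_bt (LP (LK LD1_c0 LD2_c58 LD3_c58)) = (LP (LK LD1_c0 LD2_c56 LD3_c23)) :=
  Lgr Lrot95 (Lpe (K13.f181877 IH) (Lpe (K10.f41099 IH) (Lpr_df (K12.f224862 IH) (Lpn (LP (LK LD1_c0 LD2_c56 LD3_c23))))))
theorem f261418 : Led Lsl_bt (LP (LK LD1_c2 LD2_c41 LD3_c10)) = (LP (LK LD1_c1 LD2_c59 LD3_c14)) :=
  Lgr Lrot92 (Lpr_ct (f251784 IH) (Lpr_gt (f261404 IH) (Lpe (f182079 IH) (Lpr_bt (f181187 IH) (Lpr_gt (K9.f181206 IH) (Lpr_ct (K9.f7882 IH) (Lpr_gt (K9.f164705 IH) (Lpr_cf (K9.f181873 IH) (Lpr_bt (f224865 IH) (Lpr_gt (K13.f197267 IH) (Lpn (LP (LK LD1_c1 LD2_c59 LD3_c14)))))))))))))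
theorem f53097 : Led Lsl_ct (LP (LK LD1_c0 LD2_c56 LD3_c31)) = (LP (LK LD1_c0 LD2_c25 LD3_c37)) :=
  Lre_c IH (LK LD1_c0 LD2_c56 LD3_c31) (LK LD1_c0 LD2_c25 LD3_c37) Lrfl Lrfl
theorem f197627 : Led Lsl_bf (LP (LK LD1_c2 LD2_c5 LD3_c5)) = (LP (LK LD1_c1 LD2_c55 LD3_c16)) :=
  Lgr Lrot24 (Lpr_bt (K14.f197625 IH) (Lpn (LP (LK LD1_c1 LD2_c55 LD3_c16))))
theorem f261441 : Led Lsl_cf (LP (LK LD1_c2 LD2_c40 LD3_c61)) = (LP (LK LD1_c2 LD2_c41 LD3_c47)) :=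
  Lgr Lrot160 (Lpr_gt (f257953 IH) (Lpe (f251784 IH) (Lpr_bt (f261418 IH) (Lpe (K13.f226879 IH) (Lpr_ct (f53097 IH) (Lpr_gt (K12.f226855 IH) (Lpe (K11.f173353 IH) (Lpe (f197627 IH) (Lpr_gt (K13.f236232 IH) (Lpe (f259231 IH) (Lpn (LP (LK LD1_c2 LD2_c41 LD3_c47)))))))))))))
theorem f245893 : Led Lsl_ct (LP (LK LD1_c1 LD2_c17 LD3_c24)) = (LP (LK LD1_c2 LD2_c41 LD3_c10)) :=
  Lre_c IH (LK LD1_c1 LD2_c17 LD3_c24) (LK LD1_c2 LD2_c41 LD3_c10) Lrfl Lrfl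
theorem f243660 : Led Lsl_df (LP (LK LD1_c1 LD2_c19 LD3_c5)) = (LP (LK LD1_c1 LD2_c59 LD3_c14)) :=
  Lgr Lrot162 (Lpe (K13.f179412 IH) (Lpr_gf (K13.f243650 IH) (Lpe (K11.f200800 IH) (Lpr_gf (K12.f226899 IH) (Lpe (K9.f28828 IH) (Lpe (K13.f238503 IH) (Lpr_ct (K12.f193350 IH) (Lpr_gt (K12.f193366 IH) (Lpr_ct (K13.f224988 IH) (Lpn (LP (LK LD1_c1 LD2_c59 LD3_c14))))))))))))
theorem f261437 : Led Lsl_df (LP (LK LD1_c2 LD2_c41 LD3_c10)) = (LP (LK LD1_c2 LD2_c45 LD3_c23)) :=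
  Lgr Lrot12 (Lpr_bt (f261418 IH) (Lpe (f243660 IH) (Lpr_bt (K13.f199592 IH) (Lpn (LP (LK LD1_c2 LD2_c45 LD3_c23))))))
theorem f261448 : Led Lsl_gt (LP (LK LD1_c2 LD2_c1 LD3_c31)) = (LP (LK LD1_c2 LD2_c41 LD3_c47)) :=
  Lgr Lrot146 (Lpe (K13.f235997 IH) (Lpe (f250929 IH) (Lpr_ct (K13.f243608 IH) (Lpe (K13.f243633 IH) (Lpr_ct (K13.f243637 IH) (Lpe (f261437 IH) (Lpe (f245893 IH) (Lpe (f257953 IH) (Lpr_cf (f261441 IH) (Lpn (LP (LK LD1_c2 LD2_c41 LD3_c47))))))))))))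
theorem f259230 : Led Lsl_dt (LP (LK LD1_c2 LD2_c41 LD3_c47)) = (LP (LK LD1_c1 LD2_c17 LD3_c33)) :=
  Lre_d IH (LK LD1_c2 LD2_c41 LD3_c47) (LK LD1_c1 LD2_c17 LD3_c33) Lrfl Lrfl
theorem f261457 : Led Lsl_gf (LP (LK LD1_c2 LD2_c11 LD3_c39)) = (LP (LK LD1_c1 LD2_c17 LD3_c33)) :=
  Lgr Lrot134 (Lpe (K12.f187238 IH) (Lpr_et (K12.f188744 IH) (Lpr_gt (K10.f167754 IH) (Lpe (K12.f167753 IH) (Lpe (K12.f167733 IH) (Lpe (K14.f250722 IH) (Lpe (K12.f50153 IH) (Lpr_et (K13.f171181 IH) (Lpr_gt (f261448 IH) (Lpr_dt (f259230 IH) (Lpn (LP (LK LD1_c1 LD2_c17 LD3_c33)))))))))))))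
theorem f188967 : Led Lsl_bt (LP (LK LD1_c4 LD2_c29 LD3_c2)) = (LP (LK LD1_c8 LD2_c56 LD3_c23)) :=
  Lre_b IH (LK LD1_c4 LD2_c29 LD3_c2) (LK LD1_c8 LD2_c56 LD3_c23) Lrfl Lrfl
theorem f189073 : Led Lsl_gt (LP (LK LD1_c8 LD2_c56 LD3_c23)) = (LP (LK LD1_c16 LD2_c44 LD3_c0)) :=
  Lre_g IH (LK LD1_c8 LD2_c56 LD3_c23) (LK LD1_c16 LD2_c44 LD3_c0) Lrfl Lrfl
theorem f224459 : Led Lsl_at (LP (LK LD1_c10 LD2_c31 LD3_c29)) = (LP (LK LD1_c19 LD2_c4 LD3_c24)) :=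
  Lre_a IH (LK LD1_c10 LD2_c31 LD3_c29) (LK LD1_c19 LD2_c4 LD3_c24) Lrfl Lrfl
theorem f224460 : Led Lsl_ff (LP (LK LD1_c10 LD2_c39 LD3_c3)) = (LP (LK LD1_c19 LD2_c4 LD3_c24)) :=
  Lgr Lrot30 (Lpr_at (K12.f217883 IH) (Lpr_ft (K12.f224455 IH) (Lpr_at (f224459 IH) (Lpn (LP (LK LD1_c19 LD2_c4 LD3_c24))))))
theorem f217886 : Led Lsl_gt (LP (LK LD1_c10 LD2_c39 LD3_c2)) = (LP (LK LD1_c5 LD2_c24 LD3_c9)) :=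
  Lre_g IH (LK LD1_c10 LD2_c39 LD3_c2) (LK LD1_c5 LD2_c24 LD3_c9) Lrfl Lrfl
theorem f224836 : Led Lsl_gf (LP (LK LD1_c10 LD2_c39 LD3_c2)) = (LP (LK LD1_c19 LD2_c4 LD3_c24)) :=
  Lgr Lrot47 (Lpr_gt (f217886 IH) (Lpe (K12.f217883 IH) (Lpr_ff (f224460 IH) (Lpn (LP (LK LD1_c19 LD2_c4 LD3_c24))))))
theorem f217888 : Led Lsl_ct (LP (LK LD1_c19 LD2_c17 LD3_c31)) = (LP (LK LD1_c10 LD2_c39 LD3_c2)) :=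
  Lre_c IH (LK LD1_c19 LD2_c17 LD3_c31) (LK LD1_c10 LD2_c39 LD3_c2) Lrfl Lrfl
theorem f221047 : Led Lsl_at (LP (LK LD1_c5 LD2_c31 LD3_c4)) = (LP (LK LD1_c10 LD2_c53 LD3_c41)) :=
  Lre_a IH (LK LD1_c5 LD2_c31 LD3_c4) (LK LD1_c10 LD2_c53 LD3_c41) Lrfl Lrfl
theorem f224446 : Led Lsl_at (LP (LK LD1_c19 LD2_c4 LD3_c24)) = (LP (LK LD1_c10 LD2_c31 LD3_c29)) :=
  Lre_a IH (LK LD1_c19 LD2_c4 LD3_c24) (LK LD1_c10 LD2_c31 LD3_c29) Lrfl Lrfl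
theorem f224447 : Led Lsl_ct (LP (LK LD1_c10 LD2_c53 LD3_c41)) = (LP (LK LD1_c19 LD2_c4 LD3_c24)) :=
  Lgr Lrot111 (Lpe (f221047 IH) (Lpr_cf (K12.f224442 IH) (Lpe (f224446 IH) (Lpn (LP (LK LD1_c19 LD2_c4 LD3_c24))))))
theorem f52864 : Led Lsl_bt (LP (LK LD1_c8 LD2_c27 LD3_c9)) = (LP (LK LD1_c4 LD2_c14 LD3_c17)) :=
  Lre_b IH (LK LD1_c8 LD2_c27 LD3_c9) (LK LD1_c4 LD2_c14 LD3_c17) Lrfl Lrfl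
theorem f52781 : Led Lsl_at (LP (LK LD1_c15 LD2_c52 LD3_c4)) = (LP (LK LD1_c8 LD2_c27 LD3_c9)) :=
  Lre_a IH (LK LD1_c15 LD2_c52 LD3_c4) (LK LD1_c8 LD2_c27 LD3_c9) Lrfl Lrfl
theorem f221048 : Led Lsl_bf (LP (LK LD1_c15 LD2_c52 LD3_c4)) = (LP (LK LD1_c10 LD2_c53 LD3_c41)) :=
  Lgr Lrot81 (Lpr_at (f52781 IH) (Lpr_bt (f52864 IH) (Lpr_at (K12.f220878 IH) (Lpr_bt (K12.f221046 IH) (Lpr_at (f221047 IH) (Lpn (LP (LK LD1_c10 LD2_c53 LD3_c41))))))))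
theorem f52751 : Led Lsl_gt (LP (LK LD1_c8 LD2_c27 LD3_c5)) = (LP (LK LD1_c15 LD2_c52 LD3_c4)) :=
  Lre_g IH (LK LD1_c8 LD2_c27 LD3_c5) (LK LD1_c15 LD2_c52 LD3_c4) Lrfl Lrfl
theorem f188949 : Led Lsl_bt (LP (LK LD1_c15 LD2_c52 LD3_c6)) = (LP (LK LD1_c8 LD2_c27 LD3_c5)) :=
  Lre_b IH (LK LD1_c15 LD2_c52 LD3_c6) (LK LD1_c8 LD2_c27 LD3_c5) Lrfl Lrfl
theorem f217975 : Led Lsl_et (LP (LK LD1_c7 LD2_c58 LD3_c11)) = (LP (LK LD1_c15 LD2_c2 LD3_c3)) :=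
  Lre_e IH (LK LD1_c7 LD2_c58 LD3_c11) (LK LD1_c15 LD2_c2 LD3_c3) Lrfl Lrfl
theorem f54376 : Led Lsl_ef (LP (LK LD1_c5 LD2_c14 LD3_c57)) = (LP (LK LD1_c4 LD2_c15 LD3_c5)) :=
  Lgr Lrot28 (Lpr_ct (K12.f48055 IH) (Lpr_et (K11.f54371 IH) (Lpr_ct (K10.f54375 IH) (Lpn (LP (LK LD1_c4 LD2_c15 LD3_c5))))))
theorem f183521 : Led Lsl_et (LP (LK LD1_c15 LD2_c28 LD3_c29)) = (LP (LK LD1_c8 LD2_c13 LD3_c37)) :=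
  Lre_e IH (LK LD1_c15 LD2_c28 LD3_c29) (LK LD1_c8 LD2_c13 LD3_c37) Lrfl Lrfl
theorem f217990 : Led Lsl_ft (LP (LK LD1_c15 LD2_c2 LD3_c3)) = (LP (LK LD1_c15 LD2_c28 LD3_c29)) :=
  Lgr Lrot86 (Lpe (f217975 IH) (Lpr_ff (K12.f217986 IH) (Lpr_ef (f54376 IH) (Lpe (K10.f183514 IH) (Lpe (f183521 IH) (Lpn (LP (LK LD1_c15 LD2_c28 LD3_c29))))))))
theorem f183511 : Led Lsl_et (LP (LK LD1_c8 LD2_c13 LD3_c37)) = (LP (LK LD1_c15 LD2_c28 LD3_c29)) :=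
  Lre_e IH (LK LD1_c8 LD2_c13 LD3_c37) (LK LD1_c15 LD2_c28 LD3_c29) Lrfl Lrfl
theorem f183512 : Led Lsl_ct (LP (LK LD1_c15 LD2_c28 LD3_c29)) = (LP (LK LD1_c8 LD2_c29 LD3_c10)) :=
  Lgr Lrot15 (Lpe (f183511 IH) (Lpr_cf (K9.f183502 IH) (Lpe (K10.f45607 IH) (Lpn (LP (LK LD1_c8 LD2_c29 LD3_c10))))))
theorem f201120 : Led Lsl_et (LP (LK LD1_c8 LD2_c7 LD3_c45)) = (LP (LK LD1_c4 LD2_c3 LD3_c35)) :=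
  Lre_e IH (LK LD1_c8 LD2_c7 LD3_c45) (LK LD1_c4 LD2_c3 LD3_c35) Lrfl Lrfl
theorem f201212 : Led Lsl_ft (LP (LK LD1_c8 LD2_c29 LD3_c10)) = (LP (LK LD1_c8 LD2_c7 LD3_c45)) :=
  Lgr Lrot86 (Lpe (K10.f45609 IH) (Lpe (K10.f54287 IH) (Lpe (K11.f54371 IH) (Lpr_ff (K12.f201125 IH) (Lpe (f201120 IH) (Lpn (LP (LK LD1_c8 LD2_c7 LD3_c45))))))))
theorem f217995 : Led Lsl_cf (LP (LK LD1_c15 LD2_c2 LD3_c3)) = (LP (LK LD1_c8 LD2_c7 LD3_c45)) :=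
  Lgr Lrot108 (Lpr_ft (f217990 IH) (Lpr_ct (f183512 IH) (Lpr_ft (f201212 IH) (Lpn (LP (LK LD1_c8 LD2_c7 LD3_c45))))))
theorem f218003 : Led Lsl_bt (LP (LK LD1_c15 LD2_c2 LD3_c3)) = (LP (LK LD1_c24 LD2_c50 LD3_c33)) :=
  Lre_b IH (LK LD1_c15 LD2_c2 LD3_c3) (LK LD1_c24 LD2_c50 LD3_c33) Lrfl Lrfl
theorem f201122 : Led Lsl_et (LP (LK LD1_c4 LD2_c3 LD3_c35)) = (LP (LK LD1_c8 LD2_c7 LD3_c45)) :=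
  Lre_e IH (LK LD1_c4 LD2_c3 LD3_c35) (LK LD1_c8 LD2_c7 LD3_c45) Lrfl Lrfl
theorem f201218 : Led Lsl_ff (LP (LK LD1_c8 LD2_c29 LD3_c10)) = (LP (LK LD1_c8 LD2_c7 LD3_c45)) :=
  Lgr Lrot72 (Lpr_et (K10.f45607 IH) (Lpr_ft (K13.f54382 IH) (Lpe (K11.f54378 IH) (Lpr_ft (K12.f201214 IH) (Lpr_et (f201122 IH) (Lpn (LP (LK LD1_c8 LD2_c7 LD3_c45))))))))
theorem f45601 : Led Lsl_ct (LP (LK LD1_c8 LD2_c29 LD3_c33)) = (LP (LK LD1_c4 LD2_c15 LD3_c18)) :=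
  Lre_c IH (LK LD1_c8 LD2_c29 LD3_c33) (LK LD1_c4 LD2_c15 LD3_c18) Lrfl Lrfl
theorem f188979 : Led Lsl_ff (LP (LK LD1_c4 LD2_c29 LD3_c3)) = (LP (LK LD1_c4 LD2_c15 LD3_c18)) :=
  Lgr Lrot23 (Lpr_ct (K12.f188752 IH) (Lpr_ft (K12.f188974 IH) (Lpr_ct (f45601 IH) (Lpn (LP (LK LD1_c4 LD2_c15 LD3_c18))))))
theorem f201220 : Led Lsl_bt (LP (LK LD1_c4 LD2_c29 LD3_c3)) = (LP (LK LD1_c8 LD2_c7 LD3_c45)) :=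
  Lgr Lrot35 (Lpr_ff (f188979 IH) (Lpe (K10.f45602 IH) (Lpr_ff (f201218 IH) (Lpn (LP (LK LD1_c8 LD2_c7 LD3_c45))))))
theorem f188976 : Led Lsl_bt (LP (LK LD1_c16 LD2_c44 LD3_c4)) = (LP (LK LD1_c8 LD2_c56 LD3_c25)) :=
  Lre_b IH (LK LD1_c16 LD2_c44 LD3_c4) (LK LD1_c8 LD2_c56 LD3_c25) Lrfl Lrfl
theorem f218004 : Led Lsl_ct (LP (LK LD1_c24 LD2_c50 LD3_c33)) = (LP (LK LD1_c16 LD2_c44 LD3_c4)) :=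
  Lgr Lrot83 (Lpe (f218003 IH) (Lpr_cf (f217995 IH) (Lpe (f201220 IH) (Lpe (K12.f188754 IH) (Lpe (f188976 IH) (Lpn (LP (LK LD1_c16 LD2_c44 LD3_c4))))))))
theorem f218012 : Led Lsl_et (LP (LK LD1_c15 LD2_c2 LD3_c2)) = (LP (LK LD1_c24 LD2_c50 LD3_c33)) :=
  Lre_e IH (LK LD1_c15 LD2_c2 LD3_c2) (LK LD1_c24 LD2_c50 LD3_c33) Lrfl Lrfl
theorem f189058 : Led Lsl_et (LP (LK LD1_c16 LD2_c44 LD3_c4)) = (LP (LK LD1_c8 LD2_c56 LD3_c23)) :=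
  Lre_e IH (LK LD1_c16 LD2_c44 LD3_c4) (LK LD1_c8 LD2_c56 LD3_c23) Lrfl Lrfl
theorem f218013 : Led Lsl_cf (LP (LK LD1_c15 LD2_c2 LD3_c2)) = (LP (LK LD1_c8 LD2_c56 LD3_c23)) :=
  Lgr Lrot39 (Lpr_et (f218012 IH) (Lpr_ct (f218004 IH) (Lpr_et (f189058 IH) (Lpn (LP (LK LD1_c8 LD2_c56 LD3_c23))))))
theorem f218022 : Led Lsl_gt (LP (LK LD1_c24 LD2_c50 LD3_c31)) = (LP (LK LD1_c15 LD2_c2 LD3_c2)) :=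
  Lre_g IH (LK LD1_c24 LD2_c50 LD3_c31) (LK LD1_c15 LD2_c2 LD3_c2) Lrfl Lrfl
theorem f188946 : Led Lsl_ct (LP (LK LD1_c2 LD2_c4 LD3_c30)) = (LP (LK LD1_c0 LD2_c59 LD3_c14)) :=
  Lre_c IH (LK LD1_c2 LD2_c4 LD3_c30) (LK LD1_c0 LD2_c59 LD3_c14) Lrfl Lrfl
theorem f188947 : Led Lsl_bt (LP (LK LD1_c2 LD2_c4 LD3_c30)) = (LP (LK LD1_c4 LD2_c14 LD3_c15)) :=
  Lre_b IH (LK LD1_c2 LD2_c4 LD3_c30) (LK LD1_c4 LD2_c14 LD3_c15) Lrfl Lrfl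
theorem f188948 : Led Lsl_gt (LP (LK LD1_c4 LD2_c14 LD3_c15)) = (LP (LK LD1_c8 LD2_c27 LD3_c5)) :=
  Lre_g IH (LK LD1_c4 LD2_c14 LD3_c15) (LK LD1_c8 LD2_c27 LD3_c5) Lrfl Lrfl
theorem f218023 : Led Lsl_cf (LP (LK LD1_c24 LD2_c50 LD3_c31)) = (LP (LK LD1_c15 LD2_c52 LD3_c6)) :=
  Lgr Lrot160 (Lpr_gt (f218022 IH) (Lpr_cf (f218013 IH) (Lpr_bt (K12.f188616 IH) (Lpr_gt (K12.f188939 IH) (Lpr_ct (K12.f188899 IH) (Lpr_gt (K12.f44971 IH) (Lpe (f188946 IH) (Lpr_bt (f188947 IH) (Lpr_gt (f188948 IH) (Lpe (f188949 IH) (Lpn (LP (LK LD1_c15 LD2_c52 LD3_c6)))))))))))))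
theorem f218016 : Led Lsl_at (LP (LK LD1_c15 LD2_c2 LD3_c2)) = (LP (LK LD1_c24 LD2_c50 LD3_c32)) :=
  Lre_a IH (LK LD1_c15 LD2_c2 LD3_c2) (LK LD1_c24 LD2_c50 LD3_c32) Lrfl Lrfl
theorem f218017 : Led Lsl_ct (LP (LK LD1_c24 LD2_c50 LD3_c32)) = (LP (LK LD1_c16 LD2_c44 LD3_c2)) :=
  Lgr Lrot111 (Lpe (f218016 IH) (Lpr_cf (f218013 IH) (Lpe (K12.f189036 IH) (Lpn (LP (LK LD1_c16 LD2_c44 LD3_c2))))))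
theorem f189022 : Led Lsl_et (LP (LK LD1_c26 LD2_c42 LD3_c43)) = (LP (LK LD1_c16 LD2_c44 LD3_c2)) :=
  Lre_e IH (LK LD1_c26 LD2_c42 LD3_c43) (LK LD1_c16 LD2_c44 LD3_c2) Lrfl Lrfl
theorem f45624 : Led Lsl_et (LP (LK LD1_c15 LD2_c56 LD3_c29)) = (LP (LK LD1_c25 LD2_c52 LD3_c59)) :=
  Lre_e IH (LK LD1_c15 LD2_c56 LD3_c29) (LK LD1_c25 LD2_c52 LD3_c59) Lrfl Lrfl
theorem f45662 : Led Lsl_ft (LP (LK LD1_c8 LD2_c29 LD3_c27)) = (LP (LK LD1_c15 LD2_c56 LD3_c29)) :=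
  Lre_f IH (LK LD1_c8 LD2_c29 LD3_c27) (LK LD1_c15 LD2_c56 LD3_c29) Lrfl Lrfl
theorem f189023 : Led Lsl_ft (LP (LK LD1_c16 LD2_c44 LD3_c2)) = (LP (LK LD1_c10 LD2_c19 LD3_c24)) :=
  Lgr Lrot86 (Lpe (f189022 IH) (Lpr_ff (K12.f189013 IH) (Lpe (f45624 IH) (Lpe (f45662 IH) (Lpe (K12.f54425 IH) (Lpn (LP (LK LD1_c10 LD2_c19 LD3_c24))))))))
theorem f218042 : Led Lsl_ff (LP (LK LD1_c24 LD2_c50 LD3_c32)) = (LP (LK LD1_c18 LD2_c44 LD3_c15)) :=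
  Lgr Lrot23 (Lpr_ct (f218017 IH) (Lpr_ft (f189023 IH) (Lpr_ct (K12.f33499 IH) (Lpn (LP (LK LD1_c18 LD2_c44 LD3_c15))))))
theorem f218019 : Led Lsl_at (LP (LK LD1_c24 LD2_c50 LD3_c32)) = (LP (LK LD1_c15 LD2_c2 LD3_c2)) :=
  Lre_a IH (LK LD1_c24 LD2_c50 LD3_c32) (LK LD1_c15 LD2_c2 LD3_c2) Lrfl Lrfl
theorem f218049 : Led Lsl_gf (LP (LK LD1_c24 LD2_c50 LD3_c31)) = (LP (LK LD1_c18 LD2_c44 LD3_c15)) :=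
  Lgr Lrot47 (Lpr_gt (f218022 IH) (Lpe (f218019 IH) (Lpr_ff (f218042 IH) (Lpn (LP (LK LD1_c18 LD2_c44 LD3_c15))))))
theorem f33496 : Led Lsl_bt (LP (LK LD1_c5 LD2_c14 LD3_c60)) = (LP (LK LD1_c2 LD2_c34 LD3_c20)) :=
  Lre_b IH (LK LD1_c5 LD2_c14 LD3_c60) (LK LD1_c2 LD2_c34 LD3_c20) Lrfl Lrfl
theorem f188968 : Led Lsl_ft (LP (LK LD1_c8 LD2_c56 LD3_c23)) = (LP (LK LD1_c5 LD2_c14 LD3_c60)) :=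
  Lgr Lrot75 (Lpe (f188967 IH) (Lpr_ff (K12.f188937 IH) (Lpe (f33496 IH) (Lpn (LP (LK LD1_c5 LD2_c14 LD3_c60))))))
theorem f189074 : Led Lsl_gt (LP (LK LD1_c16 LD2_c44 LD3_c0)) = (LP (LK LD1_c10 LD2_c19 LD3_c24)) :=
  Lgr Lrot46 (Lpe (f189073 IH) (Lpr_ft (f188968 IH) (Lpr_at (K10.f33462 IH) (Lpn (LP (LK LD1_c10 LD2_c19 LD3_c24))))))
theorem f224840 : Led Lsl_bt (LP (LK LD1_c19 LD2_c17 LD3_c31)) = (LP (LK LD1_c16 LD2_c44 LD3_c0)) :=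
  Lgr Lrot130 (Lpr_ct (f217888 IH) (Lpr_gf (f224836 IH) (Lpe (f224447 IH) (Lpe (f221048 IH) (Lpe (f52751 IH) (Lpe (f188949 IH) (Lpe (f218023 IH) (Lpr_gf (f218049 IH) (Lpe (K12.f33499 IH) (Lpe (f189074 IH) (Lpn (LP (LK LD1_c16 LD2_c44 LD3_c0)))))))))))))
theorem f221315 : Led Lsl_ct (LP (LK LD1_c2 LD2_c41 LD3_c46)) = (LP (LK LD1_c1 LD2_c17 LD3_c33)) :=
  Lre_c IH (LK LD1_c2 LD2_c41 LD3_c46) (LK LD1_c1 LD2_c17 LD3_c33) Lrfl Lrfl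
theorem f261465 : Led Lsl_gt (LP (LK LD1_c4 LD2_c13 LD3_c52)) = (LP (LK LD1_c2 LD2_c41 LD3_c46)) :=
  Lgr Lrot82 (Lpe (K12.f183739 IH) (Lpr_ct (K12.f217912 IH) (Lpe (f217886 IH) (Lpe (f217888 IH) (Lpr_bt (f224840 IH) (Lpe (f189073 IH) (Lpe (f188967 IH) (Lpr_ct (K12.f188596 IH) (Lpr_gf (f261457 IH) (Lpe (f221315 IH) (Lpn (LP (LK LD1_c2 LD2_c41 LD3_c46)))))))))))))
theorem f221331 : Led Lsl_ct (LP (LK LD1_c1 LD2_c17 LD3_c33)) = (LP (LK LD1_c2 LD2_c41 LD3_c46)) :=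
  Lre_c IH (LK LD1_c1 LD2_c17 LD3_c33) (LK LD1_c2 LD2_c41 LD3_c46) Lrfl Lrfl
theorem f261478 : Led Lsl_bf (LP (LK LD1_c1 LD2_c58 LD3_c26)) = (LP (LK LD1_c1 LD2_c17 LD3_c33)) :=
  Lgr Lrot156 (Lpr_gt (K12.f216947 IH) (Lpe (K12.f217291 IH) (Lpr_ct (K12.f217295 IH) (Lpe (K12.f217444 IH) (Lpe (K12.f217450 IH) (Lpr_bt (K12.f217451 IH) (Lpr_gt (K12.f217485 IH) (Lpr_ct (K12.f183742 IH) (Lpr_gt (f261465 IH) (Lpe (f221331 IH) (Lpn (LP (LK LD1_c1 LD2_c17 LD3_c33)))))))))))))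
theorem f213267 : Led Lsl_et (LP (LK LD1_c1 LD2_c58 LD3_c26)) = (LP (LK LD1_c4 LD2_c2 LD3_c50)) :=
  Lre_e IH (LK LD1_c1 LD2_c58 LD3_c26) (LK LD1_c4 LD2_c2 LD3_c50) Lrfl Lrfl
theorem f259227 : Led Lsl_et (LP (LK LD1_c2 LD2_c41 LD3_c48)) = (LP (LK LD1_c1 LD2_c17 LD3_c33)) :=
  Lre_e IH (LK LD1_c2 LD2_c41 LD3_c48) (LK LD1_c1 LD2_c17 LD3_c33) Lrfl Lrfl
theorem f261601 : Led Lsl_bt (LP (LK LD1_c4 LD2_c2 LD3_c50)) = (LP (LK LD1_c2 LD2_c41 LD3_c48)) :=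
  Lgr Lrot119 (Lpe (f213267 IH) (Lpr_bf (f261478 IH) (Lpe (f259227 IH) (Lpn (LP (LK LD1_c2 LD2_c41 LD3_c48))))))
theorem f261606 : Led Lsl_bf (LP (LK LD1_c4 LD2_c2 LD3_c50)) = (LP (LK LD1_c2 LD2_c41 LD3_c48)) :=
  Lgr Lrot24 (Lpr_bt (f261601 IH) (Lpn (LP (LK LD1_c2 LD2_c41 LD3_c48))))
theorem f258565 : Led Lsl_af (LP (LK LD1_c2 LD2_c11 LD3_c49)) = (LP (LK LD1_c4 LD2_c2 LD3_c50)) :=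
  Lgr Lrot50 (Lpr_et (f185036 IH) (Lpr_at (f258559 IH) (Lpr_et (f213267 IH) (Lpn (LP (LK LD1_c4 LD2_c2 LD3_c50))))))
theorem f261751 : Led Lsl_bt (LP (LK LD1_c2 LD2_c11 LD3_c49)) = (LP (LK LD1_c1 LD2_c2 LD3_c56)) :=
  Lre_b IH (LK LD1_c2 LD2_c11 LD3_c49) (LK LD1_c1 LD2_c2 LD3_c56) Lrfl Lrfl
theorem f261752 : Led Lsl_at (LP (LK LD1_c1 LD2_c17 LD3_c36)) = (LP (LK LD1_c2 LD2_c41 LD3_c48)) :=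
  Lre_a IH (LK LD1_c1 LD2_c17 LD3_c36) (LK LD1_c2 LD2_c41 LD3_c48) Lrfl Lrfl
theorem f185886 : Led Lsl_bt (LP (LK LD1_c0 LD2_c35 LD3_c54)) = (LP (LK LD1_c1 LD2_c17 LD3_c36)) :=
  Lre_b IH (LK LD1_c0 LD2_c35 LD3_c54) (LK LD1_c1 LD2_c17 LD3_c36) Lrfl Lrfl
theorem f261753 : Led Lsl_at (LP (LK LD1_c1 LD2_c2 LD3_c56)) = (LP (LK LD1_c0 LD2_c35 LD3_c54)) :=
  Lgr Lrot67 (Lpe (f261751 IH) (Lpr_af (f258565 IH) (Lpr_bf (f261606 IH) (Lpe (f261752 IH) (Lpe (f185886 IH) (Lpn (LP (LK LD1_c0 LD2_c35 LD3_c54))))))))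
theorem f261767 : Led Lsl_ft (LP (LK LD1_c2 LD2_c11 LD3_c56)) = (LP (LK LD1_c1 LD2_c2 LD3_c56)) :=
  Lre_f IH (LK LD1_c2 LD2_c11 LD3_c56) (LK LD1_c1 LD2_c2 LD3_c56) Lrfl Lrfl
theorem f261771 : Led Lsl_gt (LP (LK LD1_c2 LD2_c11 LD3_c56)) = (LP (LK LD1_c1 LD2_c17 LD3_c42)) :=
  Lgr Lrot5 (Lpr_ft (f261767 IH) (Lpr_at (f261753 IH) (Lpe (K14.f198751 IH) (Lpn (LP (LK LD1_c1 LD2_c17 LD3_c42))))))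
theorem f165877 : Led Lsl_et (LP (LK LD1_c0 LD2_c33 LD3_c25)) = (LP (LK LD1_c1 LD2_c12 LD3_c14)) :=
  Lre_e IH (LK LD1_c0 LD2_c33 LD3_c25) (LK LD1_c1 LD2_c12 LD3_c14) Lrfl Lrfl
theorem f165878 : Led Lsl_gt (LP (LK LD1_c1 LD2_c12 LD3_c14)) = (LP (LK LD1_c2 LD2_c30 LD3_c27)) :=
  Lre_g IH (LK LD1_c1 LD2_c12 LD3_c14) (LK LD1_c2 LD2_c30 LD3_c27) Lrfl Lrfl
theorem f261784 : Led Lsl_df (LP (LK LD1_c2 LD2_c11 LD3_c56)) = (LP (LK LD1_c2 LD2_c30 LD3_c27)) :=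
  Lgr Lrot135 (Lpr_gt (f261771 IH) (Lpe (f198760 IH) (Lpe (f212112 IH) (Lpe (f48917 IH) (Lpe (K1.f32221 IH) (Lpr_dt (K1.f32224 IH) (Lpr_gt (K9.f165867 IH) (Lpe (K9.f163684 IH) (Lpr_et (f165877 IH) (Lpr_gt (f165878 IH) (Lpn (LP (LK LD1_c2 LD2_c30 LD3_c27)))))))))))))
theorem f261793 : Led Lsl_ft (LP (LK LD1_c2 LD2_c11 LD3_c55)) = (LP (LK LD1_c2 LD2_c30 LD3_c27)) :=
  Lgr Lrot54 (Lpe (K10.f7632 IH) (Lpe (f261767 IH) (Lpr_df (f261784 IH) (Lpn (LP (LK LD1_c2 LD2_c30 LD3_c27))))))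
theorem f184919 : Led Lsl_gt (LP (LK LD1_c1 LD2_c13 LD3_c42)) = (LP (LK LD1_c2 LD2_c33 LD3_c31)) :=
  Lre_g IH (LK LD1_c1 LD2_c13 LD3_c42) (LK LD1_c2 LD2_c33 LD3_c31) Lrfl Lrfl
theorem f261803 : Led Lsl_af (LP (LK LD1_c2 LD2_c33 LD3_c31)) = (LP (LK LD1_c2 LD2_c30 LD3_c27)) :=
  Lgr Lrot31 (Lpe (f184919 IH) (Lpr_gf (K10.f184973 IH) (Lpr_ft (f261793 IH) (Lpn (LP (LK LD1_c2 LD2_c30 LD3_c27))))))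
theorem f261763 : Led Lsl_af (LP (LK LD1_c2 LD2_c11 LD3_c55)) = (LP (LK LD1_c1 LD2_c17 LD3_c43)) :=
  Lgr Lrot117 (Lpr_dt (K10.f165036 IH) (Lpr_at (f261753 IH) (Lpr_dt (K14.f178757 IH) (Lpn (LP (LK LD1_c1 LD2_c17 LD3_c43))))))
theorem f261816 : Led Lsl_ft (LP (LK LD1_c2 LD2_c33 LD3_c31)) = (LP (LK LD1_c1 LD2_c17 LD3_c43)) :=
  Lgr Lrot101 (Lpr_af (f261803 IH) (Lpe (f261793 IH) (Lpr_af (f261763 IH) (Lpn (LP (LK LD1_c1 LD2_c17 LD3_c43))))))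
theorem f261823 : Led Lsl_ff (LP (LK LD1_c2 LD2_c33 LD3_c31)) = (LP (LK LD1_c1 LD2_c17 LD3_c43)) :=
  Lgr Lrot3 (Lpr_ft (f261816 IH) (Lpn (LP (LK LD1_c1 LD2_c17 LD3_c43))))
theorem f261809 : Led Lsl_bt (LP (LK LD1_c2 LD2_c33 LD3_c31)) = (LP (LK LD1_c5 LD2_c13 LD3_c22)) :=
  Lre_b IH (LK LD1_c2 LD2_c33 LD3_c31) (LK LD1_c5 LD2_c13 LD3_c22) Lrfl Lrfl
theorem f198771 : Led Lsl_bt (LP (LK LD1_c2 LD2_c41 LD3_c56)) = (LP (LK LD1_c1 LD2_c17 LD3_c43)) :=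
  Lre_b IH (LK LD1_c2 LD2_c41 LD3_c56) (LK LD1_c1 LD2_c17 LD3_c43) Lrfl Lrfl
theorem f261829 : Led Lsl_ft (LP (LK LD1_c5 LD2_c13 LD3_c22)) = (LP (LK LD1_c2 LD2_c41 LD3_c56)) :=
  Lgr Lrot75 (Lpe (f261809 IH) (Lpr_ff (f261823 IH) (Lpe (f198771 IH) (Lpn (LP (LK LD1_c2 LD2_c41 LD3_c56))))))
theorem f212210 : Led Lsl_dt (LP (LK LD1_c2 LD2_c41 LD3_c56)) = (LP (LK LD1_c1 LD2_c17 LD3_c36)) :=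
  Lre_d IH (LK LD1_c2 LD2_c41 LD3_c56) (LK LD1_c1 LD2_c17 LD3_c36) Lrfl Lrfl
theorem f261836 : Led Lsl_ft (LP (LK LD1_c1 LD2_c17 LD3_c36)) = (LP (LK LD1_c2 LD2_c41 LD3_c57)) :=
  Lre_f IH (LK LD1_c1 LD2_c17 LD3_c36) (LK LD1_c2 LD2_c41 LD3_c57) Lrfl Lrfl
theorem f261837 : Led Lsl_df (LP (LK LD1_c5 LD2_c13 LD3_c22)) = (LP (LK LD1_c2 LD2_c41 LD3_c57)) :=
  Lgr Lrot78 (Lpr_ft (f261829 IH) (Lpr_dt (f212210 IH) (Lpr_ft (f261836 IH) (Lpn (LP (LK LD1_c2 LD2_c41 LD3_c57))))))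
theorem f261846 : Led Lsl_dt (LP (LK LD1_c5 LD2_c13 LD3_c22)) = (LP (LK LD1_c2 LD2_c41 LD3_c57)) :=
  Lgr Lrot42 (Lpr_df (f261837 IH) (Lpn (LP (LK LD1_c2 LD2_c41 LD3_c57))))
theorem f261832 : Led Lsl_at (LP (LK LD1_c10 LD2_c17 LD3_c2)) = (LP (LK LD1_c5 LD2_c13 LD3_c22)) :=
  Lre_a IH (LK LD1_c10 LD2_c17 LD3_c2) (LK LD1_c5 LD2_c13 LD3_c22) Lrfl Lrfl
theorem f261623 : Led Lsl_at (LP (LK LD1_c2 LD2_c41 LD3_c57)) = (LP (LK LD1_c5 LD2_c31 LD3_c3)) :=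
  Lre_a IH (LK LD1_c2 LD2_c41 LD3_c57) (LK LD1_c5 LD2_c31 LD3_c3) Lrfl Lrfl
theorem f261859 : Led Lsl_df (LP (LK LD1_c10 LD2_c17 LD3_c2)) = (LP (LK LD1_c5 LD2_c31 LD3_c3)) :=
  Lgr Lrot18 (Lpr_at (f261832 IH) (Lpr_dt (f261846 IH) (Lpr_at (f261623 IH) (Lpn (LP (LK LD1_c5 LD2_c31 LD3_c3))))))
theorem f261810 : Led Lsl_at (LP (LK LD1_c5 LD2_c13 LD3_c22)) = (LP (LK LD1_c10 LD2_c17 LD3_c2)) :=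
  Lre_a IH (LK LD1_c5 LD2_c13 LD3_c22) (LK LD1_c10 LD2_c17 LD3_c2) Lrfl Lrfl
theorem f261787 : Led Lsl_bt (LP (LK LD1_c5 LD2_c6 LD3_c22)) = (LP (LK LD1_c2 LD2_c30 LD3_c27)) :=
  Lre_b IH (LK LD1_c5 LD2_c6 LD3_c22) (LK LD1_c2 LD2_c30 LD3_c27) Lrfl Lrfl
theorem f261811 : Led Lsl_at (LP (LK LD1_c10 LD2_c3 LD3_c47)) = (LP (LK LD1_c5 LD2_c6 LD3_c22)) :=
  Lre_a IH (LK LD1_c10 LD2_c3 LD3_c47) (LK LD1_c5 LD2_c6 LD3_c22) Lrfl Lrfl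
theorem f261812 : Led Lsl_bt (LP (LK LD1_c10 LD2_c17 LD3_c2)) = (LP (LK LD1_c10 LD2_c3 LD3_c47)) :=
  Lgr Lrot62 (Lpe (f261810 IH) (Lpe (f261809 IH) (Lpr_af (f261803 IH) (Lpe (f261787 IH) (Lpe (f261811 IH) (Lpn (LP (LK LD1_c10 LD2_c3 LD3_c47))))))))
theorem f213260 : Led Lsl_ft (LP (LK LD1_c8 LD2_c6 LD3_c13)) = (LP (LK LD1_c4 LD2_c2 LD3_c50)) :=
  Lre_f IH (LK LD1_c8 LD2_c6 LD3_c13) (LK LD1_c4 LD2_c2 LD3_c50) Lrfl Lrfl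
theorem f261614 : Led Lsl_ft (LP (LK LD1_c2 LD2_c41 LD3_c48)) = (LP (LK LD1_c5 LD2_c31 LD3_c3)) :=
  Lre_f IH (LK LD1_c2 LD2_c41 LD3_c48) (LK LD1_c5 LD2_c31 LD3_c3) Lrfl Lrfl
theorem f261615 : Led Lsl_bf (LP (LK LD1_c8 LD2_c6 LD3_c13)) = (LP (LK LD1_c5 LD2_c31 LD3_c3)) :=
  Lgr Lrot61 (Lpr_ft (f213260 IH) (Lpr_bt (f261601 IH) (Lpr_ft (f261614 IH) (Lpn (LP (LK LD1_c5 LD2_c31 LD3_c3))))))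
theorem f261625 : Led Lsl_bt (LP (LK LD1_c8 LD2_c6 LD3_c13)) = (LP (LK LD1_c5 LD2_c31 LD3_c3)) :=
  Lgr Lrot127 (Lpr_bf (f261615 IH) (Lpn (LP (LK LD1_c5 LD2_c31 LD3_c3))))
theorem f261865 : Led Lsl_dt (LP (LK LD1_c10 LD2_c3 LD3_c47)) = (LP (LK LD1_c8 LD2_c6 LD3_c13)) :=
  Lgr Lrot79 (Lpe (f261812 IH) (Lpr_df (f261859 IH) (Lpe (f261625 IH) (Lpn (LP (LK LD1_c8 LD2_c6 LD3_c13))))))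
theorem f261875 : Led Lsl_at (LP (LK LD1_c5 LD2_c6 LD3_c22)) = (LP (LK LD1_c10 LD2_c3 LD3_c47)) :=
  Lre_a IH (LK LD1_c5 LD2_c6 LD3_c22) (LK LD1_c10 LD2_c3 LD3_c47) Lrfl Lrfl
theorem f261786 : Led Lsl_bt (LP (LK LD1_c2 LD2_c11 LD3_c56)) = (LP (LK LD1_c4 LD2_c29 LD3_c32)) :=
  Lre_b IH (LK LD1_c2 LD2_c11 LD3_c56) (LK LD1_c4 LD2_c29 LD3_c32) Lrfl Lrfl
theorem f261788 : Led Lsl_dt (LP (LK LD1_c4 LD2_c29 LD3_c32)) = (LP (LK LD1_c5 LD2_c6 LD3_c22)) :=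
  Lgr Lrot79 (Lpe (f261786 IH) (Lpr_df (f261784 IH) (Lpe (f261787 IH) (Lpn (LP (LK LD1_c5 LD2_c6 LD3_c22))))))
theorem f261876 : Led Lsl_af (LP (LK LD1_c4 LD2_c29 LD3_c32)) = (LP (LK LD1_c8 LD2_c6 LD3_c13)) :=
  Lgr Lrot117 (Lpr_dt (f261788 IH) (Lpr_at (f261875 IH) (Lpr_dt (f261865 IH) (Lpn (LP (LK LD1_c8 LD2_c6 LD3_c13))))))
theorem f258587 : Led Lsl_ft (LP (LK LD1_c4 LD2_c29 LD3_c32)) = (LP (LK LD1_c2 LD2_c11 LD3_c49)) :=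
  Lre_f IH (LK LD1_c4 LD2_c29 LD3_c32) (LK LD1_c2 LD2_c11 LD3_c49) Lrfl Lrfl
theorem f213266 : Led Lsl_ft (LP (LK LD1_c4 LD2_c2 LD3_c50)) = (LP (LK LD1_c8 LD2_c6 LD3_c13)) :=
  Lre_f IH (LK LD1_c4 LD2_c2 LD3_c50) (LK LD1_c8 LD2_c6 LD3_c13) Lrfl Lrfl
theorem f261894 : Led Lsl_at (LP (LK LD1_c2 LD2_c11 LD3_c49)) = (LP (LK LD1_c4 LD2_c2 LD3_c50)) :=
  Lgr Lrot66 (Lpe (f258587 IH) (Lpr_af (f261876 IH) (Lpe (f213266 IH) (Lpn (LP (LK LD1_c4 LD2_c2 LD3_c50))))))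
theorem f261885 : Led Lsl_ct (LP (LK LD1_c4 LD2_c29 LD3_c28)) = (LP (LK LD1_c2 LD2_c11 LD3_c49)) :=
  Lre_c IH (LK LD1_c4 LD2_c29 LD3_c28) (LK LD1_c2 LD2_c11 LD3_c49) Lrfl Lrfl
theorem f261619 : Led Lsl_ct (LP (LK LD1_c4 LD2_c2 LD3_c50)) = (LP (LK LD1_c8 LD2_c6 LD3_c10)) :=
  Lre_c IH (LK LD1_c4 LD2_c2 LD3_c50) (LK LD1_c8 LD2_c6 LD3_c10) Lrfl Lrfl
theorem f261907 : Led Lsl_af (LP (LK LD1_c4 LD2_c29 LD3_c28)) = (LP (LK LD1_c8 LD2_c6 LD3_c10)) :=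
  Lgr Lrot68 (Lpr_ct (f261885 IH) (Lpr_at (f261894 IH) (Lpr_ct (f261619 IH) (Lpn (LP (LK LD1_c8 LD2_c6 LD3_c10))))))
theorem f235102 : Led Lsl_et (LP (LK LD1_c4 LD2_c29 LD3_c28)) = (LP (LK LD1_c2 LD2_c11 LD3_c48)) :=
  Lre_e IH (LK LD1_c4 LD2_c29 LD3_c28) (LK LD1_c2 LD2_c11 LD3_c48) Lrfl Lrfl
theorem f213238 : Led Lsl_et (LP (LK LD1_c4 LD2_c2 LD3_c48)) = (LP (LK LD1_c8 LD2_c6 LD3_c10)) :=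
  Lre_e IH (LK LD1_c4 LD2_c2 LD3_c48) (LK LD1_c8 LD2_c6 LD3_c10) Lrfl Lrfl
theorem f261923 : Led Lsl_at (LP (LK LD1_c2 LD2_c11 LD3_c48)) = (LP (LK LD1_c4 LD2_c2 LD3_c48)) :=
  Lgr Lrot80 (Lpe (f235102 IH) (Lpr_af (f261907 IH) (Lpe (f213238 IH) (Lpn (LP (LK LD1_c4 LD2_c2 LD3_c48))))))
theorem f261937 : Led Lsl_af (LP (LK LD1_c4 LD2_c29 LD3_c27)) = (LP (LK LD1_c8 LD2_c6 LD3_c9)) :=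
  Lgr Lrot117 (Lpr_dt (K14.f40801 IH) (Lpr_at (f261923 IH) (Lpr_dt (K12.f213144 IH) (Lpn (LP (LK LD1_c8 LD2_c6 LD3_c9))))))
theorem f261944 : Led Lsl_at (LP (LK LD1_c8 LD2_c16 LD3_c52)) = (LP (LK LD1_c4 LD2_c9 LD3_c45)) :=
  Lgr Lrot107 (Lpe (K14.f254759 IH) (Lpr_af (f261937 IH) (Lpr_cf (K12.f213179 IH) (Lpn (LP (LK LD1_c4 LD2_c9 LD3_c45))))))
theorem f261969 : Led Lsl_ff (LP (LK LD1_c8 LD2_c16 LD3_c52)) = (LP (LK LD1_c4 LD2_c9 LD3_c42)) :=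
  Lgr Lrot52 (Lpr_at (f261944 IH) (Lpe (K14.f250864 IH) (Lpe (K14.f1314 IH) (Lpn (LP (LK LD1_c4 LD2_c9 LD3_c42))))))
theorem f213162 : Led Lsl_ff (LP (LK LD1_c8 LD2_c6 LD3_c9)) = (LP (LK LD1_c5 LD2_c32 LD3_c9)) :=
  Lgr Lrot19 (Lpr_dt (K14.f213143 IH) (Lpr_ft (K12.f213149 IH) (Lpr_dt (f213161 IH) (Lpn (LP (LK LD1_c5 LD2_c32 LD3_c9))))))
theorem f258604 : Led Lsl_ff (LP (LK LD1_c8 LD2_c16 LD3_c49)) = (LP (LK LD1_c4 LD2_c9 LD3_c45)) :=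
  Lgr Lrot23 (Lpr_ct (f258593 IH) (Lpe (f213162 IH) (Lpr_ct (K12.f213171 IH) (Lpn (LP (LK LD1_c4 LD2_c9 LD3_c45))))))
theorem f261971 : Led Lsl_at (LP (LK LD1_c8 LD2_c16 LD3_c49)) = (LP (LK LD1_c4 LD2_c9 LD3_c42)) :=
  Lgr Lrot66 (Lpr_ff (f258604 IH) (Lpe (f261944 IH) (Lpr_ff (f261969 IH) (Lpn (LP (LK LD1_c4 LD2_c9 LD3_c42))))))
theorem f261981 : Led Lsl_gt (LP (LK LD1_c4 LD2_c9 LD3_c45)) = (LP (LK LD1_c8 LD2_c19 LD3_c28)) :=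
  Lgr Lrot5 (Lpe (f258604 IH) (Lpr_at (f261971 IH) (Lpe (K14.f234891 IH) (Lpn (LP (LK LD1_c8 LD2_c19 LD3_c28))))))
theorem f254710 : Led Lsl_dt (LP (LK LD1_c8 LD2_c19 LD3_c28)) = (LP (LK LD1_c4 LD2_c16 LD3_c61)) :=
  Lgr Lrot173 (Lpr_cf (K14.f254698 IH) (Lpe (K14.f234840 IH) (Lpe (K14.f228742 IH) (Lpe (K14.f254690 IH) (Lpr_cf (K13.f236381 IH) (Lpe (K14.f250661 IH) (Lpe (K14.f222955 IH) (Lpr_df (K14.f250675 IH) (Lpr_cf (K14.f250856 IH) (Lpe (K14.f197591 IH) (Lpe (K12.f178103 IH) (Lpe (K13.f197515 IH) (Lpr_cf (K14.f197623 IH) (Lpe (K14.f167639 IH) (Lpe (K14.f167653 IH) (Lpn (LP (LK LD1_c4 LD2_c16 LD3_c61))))))))))))))))))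
theorem f260698 : Led Lsl_af (LP (LK LD1_c8 LD2_c19 LD3_c28)) = (LP (LK LD1_c8 LD2_c17 LD3_c18)) :=
  Lgr Lrot117 (Lpr_dt (f254710 IH) (Lpr_at (f260664 IH) (Lpr_dt (K13.f216855 IH) (Lpn (LP (LK LD1_c8 LD2_c17 LD3_c18))))))
theorem f261983 : Led Lsl_ft (LP (LK LD1_c8 LD2_c19 LD3_c27)) = (LP (LK LD1_c8 LD2_c17 LD3_c18)) :=
  Lgr Lrot2 (Lpr_gt (K14.f250864 IH) (Lpr_gt (f261981 IH) (Lpr_af (f260698 IH) (Lpn (LP (LK LD1_c8 LD2_c17 LD3_c18))))))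
theorem f254662 : Led Lsl_ff (LP (LK LD1_c8 LD2_c55 LD3_c48)) = (LP (LK LD1_c5 LD2_c29 LD3_c49)) :=
  Lgr Lrot19 (Lpr_dt (K14.f228791 IH) (Lpr_ft (K14.f254658 IH) (Lpr_dt (K13.f220566 IH) (Lpn (LP (LK LD1_c5 LD2_c29 LD3_c49))))))
theorem f254712 : Led Lsl_ft (LP (LK LD1_c8 LD2_c19 LD3_c28)) = (LP (LK LD1_c8 LD2_c17 LD3_c24)) :=
  Lgr Lrot4 (Lpr_cf (K14.f254698 IH) (Lpr_ff (f254662 IH) (Lpe (K13.f234119 IH) (Lpn (LP (LK LD1_c8 LD2_c17 LD3_c24))))))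
theorem f261991 : Led Lsl_af (LP (LK LD1_c8 LD2_c19 LD3_c27)) = (LP (LK LD1_c8 LD2_c17 LD3_c24)) :=
  Lgr Lrot45 (Lpr_ft (f261983 IH) (Lpe (f260698 IH) (Lpr_ft (f254712 IH) (Lpn (LP (LK LD1_c8 LD2_c17 LD3_c24))))))
theorem f262004 : Led Lsl_at (LP (LK LD1_c8 LD2_c19 LD3_c27)) = (LP (LK LD1_c8 LD2_c17 LD3_c24)) :=
  Lgr Lrot100 (Lpr_af (f261991 IH) (Lpn (LP (LK LD1_c8 LD2_c17 LD3_c24))))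
theorem f262006 : Led Lsl_af (LP (LK LD1_c8 LD2_c55 LD3_c43)) = (LP (LK LD1_c5 LD2_c29 LD3_c49)) :=
  Lgr Lrot68 (Lpe (K14.f250856 IH) (Lpr_at (f262004 IH) (Lpr_ct (K13.f234119 IH) (Lpn (LP (LK LD1_c5 LD2_c29 LD3_c49))))))
theorem f228227 : Led Lsl_bt (LP (LK LD1_c8 LD2_c55 LD3_c43)) = (LP (LK LD1_c16 LD2_c42 LD3_c48)) :=
  Lre_b IH (LK LD1_c8 LD2_c55 LD3_c43) (LK LD1_c16 LD2_c42 LD3_c48) Lrfl Lrfl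
theorem f262008 : Led Lsl_at (LP (LK LD1_c16 LD2_c42 LD3_c48)) = (LP (LK LD1_c26 LD2_c41 LD3_c31)) :=
  Lre_a IH (LK LD1_c16 LD2_c42 LD3_c48) (LK LD1_c26 LD2_c41 LD3_c31) Lrfl Lrfl
theorem f234157 : Led Lsl_bt (LP (LK LD1_c10 LD2_c50 LD3_c53)) = (LP (LK LD1_c5 LD2_c29 LD3_c49)) :=
  Lre_b IH (LK LD1_c10 LD2_c50 LD3_c53) (LK LD1_c5 LD2_c29 LD3_c49) Lrfl Lrfl
theorem f262009 : Led Lsl_at (LP (LK LD1_c19 LD2_c36 LD3_c31)) = (LP (LK LD1_c10 LD2_c50 LD3_c53)) :=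
  Lre_a IH (LK LD1_c19 LD2_c36 LD3_c31) (LK LD1_c10 LD2_c50 LD3_c53) Lrfl Lrfl
theorem f262010 : Led Lsl_bt (LP (LK LD1_c26 LD2_c41 LD3_c31)) = (LP (LK LD1_c19 LD2_c36 LD3_c31)) :=
  Lgr Lrot62 (Lpe (f262008 IH) (Lpe (f228227 IH) (Lpr_af (f262006 IH) (Lpe (f234157 IH) (Lpe (f262009 IH) (Lpn (LP (LK LD1_c19 LD2_c36 LD3_c31))))))))
theorem f262015 : Led Lsl_dt (LP (LK LD1_c16 LD2_c42 LD3_c47)) = (LP (LK LD1_c26 LD2_c41 LD3_c31)) :=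
  Lre_d IH (LK LD1_c16 LD2_c42 LD3_c47) (LK LD1_c26 LD2_c41 LD3_c31) Lrfl Lrfl
theorem f262016 : Led Lsl_dt (LP (LK LD1_c19 LD2_c36 LD3_c31)) = (LP (LK LD1_c10 LD2_c50 LD3_c52)) :=
  Lre_d IH (LK LD1_c19 LD2_c36 LD3_c31) (LK LD1_c10 LD2_c50 LD3_c52) Lrfl Lrfl
theorem f262017 : Led Lsl_bf (LP (LK LD1_c16 LD2_c42 LD3_c47)) = (LP (LK LD1_c10 LD2_c50 LD3_c52)) :=
  Lgr Lrot93 (Lpr_dt (f262015 IH) (Lpr_bt (f262010 IH) (Lpr_dt (f262016 IH) (Lpn (LP (LK LD1_c10 LD2_c50 LD3_c52))))))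
theorem f262020 : Led Lsl_et (LP (LK LD1_c16 LD2_c42 LD3_c47)) = (LP (LK LD1_c26 LD2_c41 LD3_c32)) :=
  Lre_e IH (LK LD1_c16 LD2_c42 LD3_c47) (LK LD1_c26 LD2_c41 LD3_c32) Lrfl Lrfl
theorem f262021 : Led Lsl_et (LP (LK LD1_c19 LD2_c36 LD3_c32)) = (LP (LK LD1_c10 LD2_c50 LD3_c52)) :=
  Lre_e IH (LK LD1_c19 LD2_c36 LD3_c32) (LK LD1_c10 LD2_c50 LD3_c52) Lrfl Lrfl
theorem f262022 : Led Lsl_bt (LP (LK LD1_c26 LD2_c41 LD3_c32)) = (LP (LK LD1_c19 LD2_c36 LD3_c32)) :=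
  Lgr Lrot119 (Lpe (f262020 IH) (Lpr_bf (f262017 IH) (Lpe (f262021 IH) (Lpn (LP (LK LD1_c19 LD2_c36 LD3_c32))))))
theorem f262024 : Led Lsl_at (LP (LK LD1_c16 LD2_c42 LD3_c49)) = (LP (LK LD1_c26 LD2_c41 LD3_c32)) :=
  Lre_a IH (LK LD1_c16 LD2_c42 LD3_c49) (LK LD1_c26 LD2_c41 LD3_c32) Lrfl Lrfl
theorem f197621 : Led Lsl_bt (LP (LK LD1_c8 LD2_c55 LD3_c44)) = (LP (LK LD1_c16 LD2_c42 LD3_c49)) :=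
  Lre_b IH (LK LD1_c8 LD2_c55 LD3_c44) (LK LD1_c16 LD2_c42 LD3_c49) Lrfl Lrfl
theorem f262025 : Led Lsl_at (LP (LK LD1_c19 LD2_c36 LD3_c32)) = (LP (LK LD1_c10 LD2_c50 LD3_c54)) :=
  Lre_a IH (LK LD1_c19 LD2_c36 LD3_c32) (LK LD1_c10 LD2_c50 LD3_c54) Lrfl Lrfl
theorem f220717 : Led Lsl_bt (LP (LK LD1_c10 LD2_c50 LD3_c54)) = (LP (LK LD1_c5 LD2_c29 LD3_c50)) :=
  Lre_b IH (LK LD1_c10 LD2_c50 LD3_c54) (LK LD1_c5 LD2_c29 LD3_c50) Lrfl Lrfl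
theorem f262026 : Led Lsl_af (LP (LK LD1_c8 LD2_c55 LD3_c44)) = (LP (LK LD1_c5 LD2_c29 LD3_c50)) :=
  Lgr Lrot36 (Lpr_bt (f197621 IH) (Lpr_at (f262024 IH) (Lpr_bt (f262022 IH) (Lpr_at (f262025 IH) (Lpr_bt (f220717 IH) (Lpn (LP (LK LD1_c5 LD2_c29 LD3_c50))))))))
theorem f262039 : Led Lsl_ft (LP (LK LD1_c8 LD2_c55 LD3_c44)) = (LP (LK LD1_c16 LD2_c42 LD3_c52)) :=
  Lre_f IH (LK LD1_c8 LD2_c55 LD3_c44) (LK LD1_c16 LD2_c42 LD3_c52) Lrfl Lrfl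
theorem f254657 : Led Lsl_ft (LP (LK LD1_c10 LD2_c50 LD3_c57)) = (LP (LK LD1_c5 LD2_c29 LD3_c50)) :=
  Lre_f IH (LK LD1_c10 LD2_c50 LD3_c57) (LK LD1_c5 LD2_c29 LD3_c50) Lrfl Lrfl
theorem f262040 : Led Lsl_at (LP (LK LD1_c16 LD2_c42 LD3_c52)) = (LP (LK LD1_c10 LD2_c50 LD3_c57)) :=
  Lgr Lrot66 (Lpe (f262039 IH) (Lpr_af (f262026 IH) (Lpe (f254657 IH) (Lpn (LP (LK LD1_c10 LD2_c50 LD3_c57))))))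
theorem f220690 : Led Lsl_ct (LP (LK LD1_c10 LD2_c50 LD3_c57)) = (LP (LK LD1_c5 LD2_c29 LD3_c52)) :=
  Lre_c IH (LK LD1_c10 LD2_c50 LD3_c57) (LK LD1_c5 LD2_c29 LD3_c52) Lrfl Lrfl
theorem f262047 : Led Lsl_af (LP (LK LD1_c8 LD2_c55 LD3_c46)) = (LP (LK LD1_c5 LD2_c29 LD3_c52)) :=
  Lgr Lrot68 (Lpr_ct (K12.f197614 IH) (Lpr_at (f262040 IH) (Lpr_ct (f220690 IH) (Lpn (LP (LK LD1_c5 LD2_c29 LD3_c52))))))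
theorem f197615 : Led Lsl_df (LP (LK LD1_c8 LD2_c29 LD3_c45)) = (LP (LK LD1_c8 LD2_c55 LD3_c46)) :=
  Lgr Lrot38 (Lpr_dt (K13.f197603 IH) (Lpn (LP (LK LD1_c8 LD2_c55 LD3_c46))))
theorem f220651 : Led Lsl_bt (LP (LK LD1_c2 LD2_c5 LD3_c23)) = (LP (LK LD1_c4 LD2_c15 LD3_c55)) :=
  Lre_b IH (LK LD1_c2 LD2_c5 LD3_c23) (LK LD1_c4 LD2_c15 LD3_c55) Lrfl Lrfl
theorem f220652 : Led Lsl_bt (LP (LK LD1_c5 LD2_c22 LD3_c16)) = (LP (LK LD1_c2 LD2_c41 LD3_c15)) :=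
  Lgr Lrot95 (Lpr_df (K13.f220642 IH) (Lpe (f220651 IH) (Lpe (K14.f220573 IH) (Lpn (LP (LK LD1_c2 LD2_c41 LD3_c15))))))
theorem f220670 : Led Lsl_ft (LP (LK LD1_c10 LD2_c35 LD3_c0)) = (LP (LK LD1_c5 LD2_c22 LD3_c16)) :=
  Lre_f IH (LK LD1_c10 LD2_c35 LD3_c0) (LK LD1_c5 LD2_c22 LD3_c16) Lrfl Lrfl
theorem f220684 : Led Lsl_ft (LP (LK LD1_c2 LD2_c41 LD3_c15)) = (LP (LK LD1_c5 LD2_c29 LD3_c52)) :=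
  Lre_f IH (LK LD1_c2 LD2_c41 LD3_c15) (LK LD1_c5 LD2_c29 LD3_c52) Lrfl Lrfl
theorem f220685 : Led Lsl_bf (LP (LK LD1_c10 LD2_c35 LD3_c0)) = (LP (LK LD1_c5 LD2_c29 LD3_c52)) :=
  Lgr Lrot61 (Lpr_ft (f220670 IH) (Lpr_bt (f220652 IH) (Lpr_ft (f220684 IH) (Lpn (LP (LK LD1_c5 LD2_c29 LD3_c52))))))
theorem f220692 : Led Lsl_dt (LP (LK LD1_c4 LD2_c16 LD3_c2)) = (LP (LK LD1_c5 LD2_c29 LD3_c52)) :=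
  Lgr Lrot79 (Lpe (K14.f220667 IH) (Lpe (K13.f220660 IH) (Lpr_bf (f220685 IH) (Lpn (LP (LK LD1_c5 LD2_c29 LD3_c52))))))
theorem f262056 : Led Lsl_at (LP (LK LD1_c8 LD2_c29 LD3_c45)) = (LP (LK LD1_c4 LD2_c16 LD3_c2)) :=
  Lgr Lrot51 (Lpr_df (f197615 IH) (Lpr_af (f262047 IH) (Lpe (f220692 IH) (Lpn (LP (LK LD1_c4 LD2_c16 LD3_c2))))))
theorem f220700 : Led Lsl_ft (LP (LK LD1_c4 LD2_c16 LD3_c2)) = (LP (LK LD1_c2 LD2_c5 LD3_c23)) :=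
  Lre_f IH (LK LD1_c4 LD2_c16 LD3_c2) (LK LD1_c2 LD2_c5 LD3_c23) Lrfl Lrfl
theorem f262064 : Led Lsl_af (LP (LK LD1_c4 LD2_c15 LD3_c25)) = (LP (LK LD1_c2 LD2_c5 LD3_c23)) :=
  Lgr Lrot45 (Lpr_ft (K13.f197601 IH) (Lpr_at (f262056 IH) (Lpr_ft (f220700 IH) (Lpn (LP (LK LD1_c2 LD2_c5 LD3_c23))))))
theorem f220064 : Led Lsl_et (LP (LK LD1_c2 LD2_c1 LD3_c42)) = (LP (LK LD1_c4 LD2_c8 LD3_c41)) :=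
  Lre_e IH (LK LD1_c2 LD2_c1 LD3_c42) (LK LD1_c4 LD2_c8 LD3_c41) Lrfl Lrfl
theorem f236112 : Led Lsl_df (LP (LK LD1_c2 LD2_c40 LD3_c29)) = (LP (LK LD1_c2 LD2_c1 LD3_c32)) :=
  Lgr Lrot38 (Lpr_dt (K13.f236104 IH) (Lpn (LP (LK LD1_c2 LD2_c1 LD3_c32))))
theorem f236197 : Led Lsl_gt (LP (LK LD1_c8 LD2_c16 LD3_c41)) = (LP (LK LD1_c4 LD2_c8 LD3_c19)) :=
  Lre_g IH (LK LD1_c8 LD2_c16 LD3_c41) (LK LD1_c4 LD2_c8 LD3_c19) Lrfl Lrfl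
theorem f236219 : Led Lsl_et (LP (LK LD1_c15 LD2_c33 LD3_c57)) = (LP (LK LD1_c8 LD2_c16 LD3_c41)) :=
  Lre_e IH (LK LD1_c15 LD2_c33 LD3_c57) (LK LD1_c8 LD2_c16 LD3_c41) Lrfl Lrfl
theorem f197599 : Led Lsl_dt (LP (LK LD1_c4 LD2_c15 LD3_c25)) = (LP (LK LD1_c4 LD2_c28 LD3_c44)) :=
  Lgr Lrot42 (Lpr_df (K13.f197594 IH) (Lpn (LP (LK LD1_c4 LD2_c28 LD3_c44))))
theorem f197609 : Led Lsl_gt (LP (LK LD1_c4 LD2_c28 LD3_c44)) = (LP (LK LD1_c8 LD2_c55 LD3_c45)) :=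
  Lre_g IH (LK LD1_c4 LD2_c28 LD3_c44) (LK LD1_c8 LD2_c55 LD3_c45) Lrfl Lrfl
theorem f236234 : Led Lsl_df (LP (LK LD1_c8 LD2_c55 LD3_c45)) = (LP (LK LD1_c15 LD2_c33 LD3_c57)) :=
  Lgr Lrot168 (Lpe (f197609 IH) (Lpe (f197599 IH) (Lpr_et (K13.f197592 IH) (Lpr_gf (K13.f236220 IH) (Lpe (K13.f213856 IH) (Lpr_dt (K13.f213857 IH) (Lpe (K13.f236149 IH) (Lpe (K13.f236195 IH) (Lpe (f236197 IH) (Lpe (f236219 IH) (Lpn (LP (LK LD1_c15 LD2_c33 LD3_c57)))))))))))))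
theorem f250962 : Led Lsl_gt (LP (LK LD1_c4 LD2_c8 LD3_c41)) = (LP (LK LD1_c4 LD2_c15 LD3_c25)) :=
  Lgr Lrot137 (Lpe (f220064 IH) (Lpr_dt (K12.f220062 IH) (Lpr_gf (K14.f250927 IH) (Lpr_df (f236112 IH) (Lpr_et (K13.f236116 IH) (Lpe (f236197 IH) (Lpe (f236219 IH) (Lpe (f236234 IH) (Lpe (f197609 IH) (Lpe (f197599 IH) (Lpn (LP (LK LD1_c4 LD2_c15 LD3_c25)))))))))))))
theorem f262078 : Led Lsl_gf (LP (LK LD1_c4 LD2_c8 LD3_c41)) = (LP (LK LD1_c4 LD2_c16 LD3_c2)) :=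
  Lgr Lrot47 (Lpr_gt (f250962 IH) (Lpr_af (f262064 IH) (Lpe (f220700 IH) (Lpn (LP (LK LD1_c4 LD2_c16 LD3_c2))))))
theorem f220065 : Led Lsl_bt (LP (LK LD1_c4 LD2_c8 LD3_c41)) = (LP (LK LD1_c2 LD2_c2 LD3_c26)) :=
  Lgr Lrot119 (Lpe (f220064 IH) (Lpr_bf (K12.f220052 IH) (Lpe (K13.f53447 IH) (Lpn (LP (LK LD1_c2 LD2_c2 LD3_c26))))))
theorem f179796 : Led Lsl_bt (LP (LK LD1_c1 LD2_c25 LD3_c19)) = (LP (LK LD1_c2 LD2_c59 LD3_c8)) :=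
  Lre_b IH (LK LD1_c1 LD2_c25 LD3_c19) (LK LD1_c2 LD2_c59 LD3_c8) Lrfl Lrfl
theorem f220159 : Led Lsl_df (LP (LK LD1_c4 LD2_c8 LD3_c41)) = (LP (LK LD1_c2 LD2_c59 LD3_c8)) :=
  Lgr Lrot12 (Lpr_bt (f220065 IH) (Lpe (K13.f179790 IH) (Lpr_bt (f179796 IH) (Lpn (LP (LK LD1_c2 LD2_c59 LD3_c8))))))
theorem f188050 : Led Lsl_et (LP (LK LD1_c2 LD2_c59 LD3_c8)) = (LP (LK LD1_c1 LD2_c25 LD3_c17)) :=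
  Lre_e IH (LK LD1_c2 LD2_c59 LD3_c8) (LK LD1_c1 LD2_c25 LD3_c17) Lrfl Lrfl
theorem f47780 : Led Lsl_et (LP (LK LD1_c2 LD2_c1 LD3_c21)) = (LP (LK LD1_c4 LD2_c7 LD3_c59)) :=
  Lre_e IH (LK LD1_c2 LD2_c1 LD3_c21) (LK LD1_c4 LD2_c7 LD3_c59) Lrfl Lrfl
theorem f47772 : Led Lsl_gt (LP (LK LD1_c4 LD2_c7 LD3_c59)) = (LP (LK LD1_c8 LD2_c15 LD3_c59)) :=
  Lre_g IH (LK LD1_c4 LD2_c7 LD3_c59) (LK LD1_c8 LD2_c15 LD3_c59) Lrfl Lrfl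
theorem f220696 : Led Lsl_df (LP (LK LD1_c4 LD2_c16 LD3_c2)) = (LP (LK LD1_c5 LD2_c29 LD3_c52)) :=
  Lgr Lrot38 (Lpr_dt (f220692 IH) (Lpn (LP (LK LD1_c5 LD2_c29 LD3_c52))))
theorem f262082 : Led Lsl_ef (LP (LK LD1_c8 LD2_c15 LD3_c59)) = (LP (LK LD1_c5 LD2_c29 LD3_c52)) :=
  Lgr Lrot17 (Lpe (f47772 IH) (Lpe (f47780 IH) (Lpr_dt (K10.f47752 IH) (Lpe (K9.f49602 IH) (Lpe (K9.f49605 IH) (Lpr_gf (K10.f188040 IH) (Lpe (f188050 IH) (Lpe (f220159 IH) (Lpr_gf (f262078 IH) (Lpr_df (f220696 IH) (Lpn (LP (LK LD1_c5 LD2_c29 LD3_c52)))))))))))))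
theorem f254652 : Led Lsl_ft (LP (LK LD1_c2 LD2_c11 LD3_c25)) = (LP (LK LD1_c1 LD2_c17 LD3_c18)) :=
  Lgr Lrot4 (Lpe (K14.f228781 IH) (Lpr_ff (K14.f254648 IH) (Lpe (K12.f220565 IH) (Lpn (LP (LK LD1_c1 LD2_c17 LD3_c18))))))
theorem f262090 : Led Lsl_ft (LP (LK LD1_c8 LD2_c15 LD3_c59)) = (LP (LK LD1_c4 LD2_c28 LD3_c46)) :=
  Lgr Lrot86 (Lpr_ef (f262082 IH) (Lpe (f220684 IH) (Lpe (K14.f220570 IH) (Lpe (f254652 IH) (Lpe (K14.f197582 IH) (Lpn (LP (LK LD1_c4 LD2_c28 LD3_c46))))))))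
theorem f262096 : Led Lsl_ff (LP (LK LD1_c8 LD2_c15 LD3_c59)) = (LP (LK LD1_c4 LD2_c28 LD3_c46)) :=
  Lgr Lrot3 (Lpr_ft (f262090 IH) (Lpn (LP (LK LD1_c4 LD2_c28 LD3_c46))))
theorem f183151 : Led Lsl_gt (LP (LK LD1_c2 LD2_c39 LD3_c32)) = (LP (LK LD1_c5 LD2_c26 LD3_c12)) :=
  Lre_g IH (LK LD1_c2 LD2_c39 LD3_c32) (LK LD1_c5 LD2_c26 LD3_c12) Lrfl Lrfl
theorem f262098 : Led Lsl_at (LP (LK LD1_c8 LD2_c15 LD3_c59)) = (LP (LK LD1_c5 LD2_c26 LD3_c12)) :=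
  Lgr Lrot26 (Lpr_ff (f262096 IH) (Lpe (K14.f254499 IH) (Lpr_gt (f183151 IH) (Lpn (LP (LK LD1_c5 LD2_c26 LD3_c12))))))
theorem f254632 : Led Lsl_af (LP (LK LD1_c4 LD2_c28 LD3_c46)) = (LP (LK LD1_c2 LD2_c41 LD3_c13)) :=
  Lgr Lrot0 (Lpr_at (K14.f254630 IH) (Lpn (LP (LK LD1_c2 LD2_c41 LD3_c13))))
theorem f262107 : Led Lsl_ff (LP (LK LD1_c2 LD2_c41 LD3_c13)) = (LP (LK LD1_c5 LD2_c26 LD3_c12)) :=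
  Lgr Lrot30 (Lpe (f254632 IH) (Lpe (f262096 IH) (Lpr_at (f262098 IH) (Lpn (LP (LK LD1_c5 LD2_c26 LD3_c12))))))
theorem f262115 : Led Lsl_ft (LP (LK LD1_c2 LD2_c41 LD3_c13)) = (LP (LK LD1_c5 LD2_c26 LD3_c12)) :=
  Lgr Lrot48 (Lpr_ff (f262107 IH) (Lpn (LP (LK LD1_c5 LD2_c26 LD3_c12))))
theorem f262052 : Led Lsl_at (LP (LK LD1_c8 LD2_c55 LD3_c46)) = (LP (LK LD1_c5 LD2_c29 LD3_c52)) :=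
  Lgr Lrot100 (Lpr_af (f262047 IH) (Lpn (LP (LK LD1_c5 LD2_c29 LD3_c52))))
theorem f262105 : Led Lsl_ef (LP (LK LD1_c8 LD2_c55 LD3_c46)) = (LP (LK LD1_c5 LD2_c26 LD3_c12)) :=
  Lgr Lrot20 (Lpr_at (f262052 IH) (Lpe (f262082 IH) (Lpr_at (f262098 IH) (Lpn (LP (LK LD1_c5 LD2_c26 LD3_c12))))))
theorem f262121 : Led Lsl_ff (LP (LK LD1_c1 LD2_c17 LD3_c17)) = (LP (LK LD1_c2 LD2_c11 LD3_c24)) :=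
  Lgr Lrot72 (Lpr_et (K14.f220226 IH) (Lpr_ft (f262115 IH) (Lpe (f262105 IH) (Lpr_ft (K13.f197602 IH) (Lpr_et (K12.f197583 IH) (Lpn (LP (LK LD1_c2 LD2_c11 LD3_c24))))))))
theorem f228036 : Led Lsl_bt (LP (LK LD1_c2 LD2_c6 LD3_c60)) = (LP (LK LD1_c2 LD2_c11 LD3_c24)) :=
  Lgr Lrot127 (Lpr_bf (K12.f228028 IH) (Lpn (LP (LK LD1_c2 LD2_c11 LD3_c24))))
theorem f262127 : Led Lsl_ft (LP (LK LD1_c1 LD2_c58 LD3_c41)) = (LP (LK LD1_c2 LD2_c6 LD3_c60)) :=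
  Lgr Lrot75 (Lpe (K12.f220220 IH) (Lpr_ff (f262121 IH) (Lpe (f228036 IH) (Lpn (LP (LK LD1_c2 LD2_c6 LD3_c60))))))
theorem f262135 : Led Lsl_af (LP (LK LD1_c1 LD2_c58 LD3_c40)) = (LP (LK LD1_c2 LD2_c6 LD3_c60)) :=
  Lgr Lrot31 (Lpe (K9.f28823 IH) (Lpe (K12.f53020 IH) (Lpr_ft (f262127 IH) (Lpn (LP (LK LD1_c2 LD2_c6 LD3_c60))))))
theorem f262143 : Led Lsl_at (LP (LK LD1_c4 LD2_c3 LD3_c25)) = (LP (LK LD1_c4 LD2_c19 LD3_c10)) :=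
  Lgr Lrot80 (Lpe (K13.f28833 IH) (Lpr_af (f262135 IH) (Lpe (K13.f227985 IH) (Lpn (LP (LK LD1_c4 LD2_c19 LD3_c10))))))
theorem f28883 : Led Lsl_df (LP (LK LD1_c4 LD2_c21 LD3_c46)) = (LP (LK LD1_c8 LD2_c7 LD3_c25)) :=
  Lgr Lrot38 (Lpr_dt (K13.f28854 IH) (Lpn (LP (LK LD1_c8 LD2_c7 LD3_c25))))
theorem f28891 : Led Lsl_ct (LP (LK LD1_c4 LD2_c21 LD3_c46)) = (LP (LK LD1_c8 LD2_c41 LD3_c3)) :=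
  Lre_c IH (LK LD1_c4 LD2_c21 LD3_c46) (LK LD1_c8 LD2_c41 LD3_c3) Lrfl Lrfl
theorem f28892 : Led Lsl_dt (LP (LK LD1_c8 LD2_c41 LD3_c3)) = (LP (LK LD1_c16 LD2_c15 LD3_c59)) :=
  Lre_d IH (LK LD1_c8 LD2_c41 LD3_c3) (LK LD1_c16 LD2_c15 LD3_c59) Lrfl Lrfl
theorem f28893 : Led Lsl_ct (LP (LK LD1_c16 LD2_c15 LD3_c59)) = (LP (LK LD1_c26 LD2_c13 LD3_c44)) :=
  Lre_c IH (LK LD1_c16 LD2_c15 LD3_c59) (LK LD1_c26 LD2_c13 LD3_c44) Lrfl Lrfl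
theorem f228107 : Led Lsl_bt (LP (LK LD1_c11 LD2_c9 LD3_c5)) = (LP (LK LD1_c5 LD2_c39 LD3_c3)) :=
  Lre_b IH (LK LD1_c11 LD2_c9 LD3_c5) (LK LD1_c5 LD2_c39 LD3_c3) Lrfl Lrfl
theorem f197620 : Led Lsl_ct (LP (LK LD1_c4 LD2_c28 LD3_c44)) = (LP (LK LD1_c8 LD2_c55 LD3_c44)) :=
  Lre_c IH (LK LD1_c4 LD2_c28 LD3_c44) (LK LD1_c8 LD2_c55 LD3_c44) Lrfl Lrfl
theorem f228108 : Led Lsl_ct (LP (LK LD1_c5 LD2_c39 LD3_c3)) = (LP (LK LD1_c4 LD2_c19 LD3_c10)) :=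
  Lgr Lrot83 (Lpe (f228107 IH) (Lpr_cf (K12.f228091 IH) (Lpe (f197621 IH) (Lpe (f197620 IH) (Lpe (K12.f228042 IH) (Lpn (LP (LK LD1_c4 LD2_c19 LD3_c10))))))))
theorem f228152 : Led Lsl_dt (LP (LK LD1_c11 LD2_c9 LD3_c6)) = (LP (LK LD1_c5 LD2_c39 LD3_c3)) :=
  Lre_d IH (LK LD1_c11 LD2_c9 LD3_c6) (LK LD1_c5 LD2_c39 LD3_c3) Lrfl Lrfl
theorem f228153 : Led Lsl_ct (LP (LK LD1_c20 LD2_c3 LD3_c4)) = (LP (LK LD1_c11 LD2_c9 LD3_c6)) :=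
  Lre_c IH (LK LD1_c20 LD2_c3 LD3_c4) (LK LD1_c11 LD2_c9 LD3_c6) Lrfl Lrfl
theorem f262151 : Led Lsl_dt (LP (LK LD1_c26 LD2_c13 LD3_c44)) = (LP (LK LD1_c20 LD2_c3 LD3_c4)) :=
  Lgr Lrot140 (Lpe (f28893 IH) (Lpe (f28892 IH) (Lpe (f28891 IH) (Lpr_df (f28883 IH) (Lpr_ft (K13.f28853 IH) (Lpr_at (f262143 IH) (Lpe (f228108 IH) (Lpe (f228152 IH) (Lpe (f228153 IH) (Lpn (LP (LK LD1_c20 LD2_c3 LD3_c4))))))))))))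
theorem f28887 : Led Lsl_ct (LP (LK LD1_c15 LD2_c17 LD3_c50)) = (LP (LK LD1_c8 LD2_c7 LD3_c25)) :=
  Lre_c IH (LK LD1_c15 LD2_c17 LD3_c50) (LK LD1_c8 LD2_c7 LD3_c25) Lrfl Lrfl
theorem f28888 : Led Lsl_dt (LP (LK LD1_c25 LD2_c8 LD3_c31)) = (LP (LK LD1_c15 LD2_c17 LD3_c50)) :=
  Lre_d IH (LK LD1_c25 LD2_c8 LD3_c31) (LK LD1_c15 LD2_c17 LD3_c50) Lrfl Lrfl
theorem f28894 : Led Lsl_ft (LP (LK LD1_c25 LD2_c8 LD3_c31)) = (LP (LK LD1_c15 LD2_c17 LD3_c49)) :=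
  Lre_f IH (LK LD1_c25 LD2_c8 LD3_c31) (LK LD1_c15 LD2_c17 LD3_c49) Lrfl Lrfl
theorem f262167 : Led Lsl_at (LP (LK LD1_c15 LD2_c17 LD3_c49)) = (LP (LK LD1_c11 LD2_c9 LD3_c6)) :=
  Lgr Lrot33 (Lpe (f28894 IH) (Lpr_dt (f28888 IH) (Lpr_ct (f28887 IH) (Lpe (f28883 IH) (Lpr_ct (f28891 IH) (Lpr_dt (f28892 IH) (Lpr_ct (f28893 IH) (Lpr_dt (f262151 IH) (Lpr_ct (f228153 IH) (Lpn (LP (LK LD1_c11 LD2_c9 LD3_c6))))))))))))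
theorem f228196 : Led Lsl_ft (LP (LK LD1_c11 LD2_c9 LD3_c6)) = (LP (LK LD1_c20 LD2_c3 LD3_c5)) :=
  Lre_f IH (LK LD1_c11 LD2_c9 LD3_c6) (LK LD1_c20 LD2_c3 LD3_c5) Lrfl Lrfl
theorem f262176 : Led Lsl_af (LP (LK LD1_c25 LD2_c8 LD3_c31)) = (LP (LK LD1_c20 LD2_c3 LD3_c5)) :=
  Lgr Lrot45 (Lpr_ft (f28894 IH) (Lpr_at (f262167 IH) (Lpr_ft (f228196 IH) (Lpn (LP (LK LD1_c20 LD2_c3 LD3_c5))))))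
theorem f262186 : Led Lsl_dt (LP (LK LD1_c11 LD2_c9 LD3_c7)) = (LP (LK LD1_c20 LD2_c3 LD3_c5)) :=
  Lre_d IH (LK LD1_c11 LD2_c9 LD3_c7) (LK LD1_c20 LD2_c3 LD3_c5) Lrfl Lrfl
theorem f262187 : Led Lsl_at (LP (LK LD1_c15 LD2_c17 LD3_c50)) = (LP (LK LD1_c11 LD2_c9 LD3_c7)) :=
  Lgr Lrot51 (Lpe (f28888 IH) (Lpr_af (f262176 IH) (Lpe (f262186 IH) (Lpn (LP (LK LD1_c11 LD2_c9 LD3_c7))))))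
theorem f262197 : Led Lsl_ft (LP (LK LD1_c8 LD2_c7 LD3_c22)) = (LP (LK LD1_c15 LD2_c17 LD3_c50)) :=
  Lre_f IH (LK LD1_c8 LD2_c7 LD3_c22) (LK LD1_c15 LD2_c17 LD3_c50) Lrfl Lrfl
theorem f28900 : Led Lsl_dt (LP (LK LD1_c8 LD2_c7 LD3_c22)) = (LP (LK LD1_c15 LD2_c17 LD3_c49)) :=
  Lre_d IH (LK LD1_c8 LD2_c7 LD3_c22) (LK LD1_c15 LD2_c17 LD3_c49) Lrfl Lrfl
theorem f28901 : Led Lsl_ct (LP (LK LD1_c15 LD2_c17 LD3_c49)) = (LP (LK LD1_c25 LD2_c8 LD3_c30)) :=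
  Lre_c IH (LK LD1_c15 LD2_c17 LD3_c49) (LK LD1_c25 LD2_c8 LD3_c30) Lrfl Lrfl
theorem f228126 : Led Lsl_bt (LP (LK LD1_c11 LD2_c9 LD3_c7)) = (LP (LK LD1_c20 LD2_c3 LD3_c2)) :=
  Lre_b IH (LK LD1_c11 LD2_c9 LD3_c7) (LK LD1_c20 LD2_c3 LD3_c2) Lrfl Lrfl
theorem f228053 : Led Lsl_bt (LP (LK LD1_c26 LD2_c41 LD3_c35)) = (LP (LK LD1_c16 LD2_c42 LD3_c52)) :=
  Lre_b IH (LK LD1_c26 LD2_c41 LD3_c35) (LK LD1_c16 LD2_c42 LD3_c52) Lrfl Lrfl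
theorem f197618 : Led Lsl_ct (LP (LK LD1_c16 LD2_c42 LD3_c52)) = (LP (LK LD1_c8 LD2_c55 LD3_c46)) :=
  Lre_c IH (LK LD1_c16 LD2_c42 LD3_c52) (LK LD1_c8 LD2_c55 LD3_c46) Lrfl Lrfl
theorem f228127 : Led Lsl_cf (LP (LK LD1_c11 LD2_c9 LD3_c7)) = (LP (LK LD1_c8 LD2_c36 LD3_c46)) :=
  Lgr Lrot97 (Lpr_bt (f228126 IH) (Lpr_ct (K12.f228115 IH) (Lpr_bt (f228053 IH) (Lpr_ct (f197618 IH) (Lpe (K12.f228049 IH) (Lpn (LP (LK LD1_c8 LD2_c36 LD3_c46))))))))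
theorem f197654 : Led Lsl_ct (LP (LK LD1_c14 LD2_c57 LD3_c22)) = (LP (LK LD1_c7 LD2_c55 LD3_c42)) :=
  Lre_c IH (LK LD1_c14 LD2_c57 LD3_c22) (LK LD1_c7 LD2_c55 LD3_c42) Lrfl Lrfl
theorem f197657 : Led Lsl_dt (LP (LK LD1_c24 LD2_c44 LD3_c57)) = (LP (LK LD1_c14 LD2_c57 LD3_c22)) :=
  Lre_d IH (LK LD1_c24 LD2_c44 LD3_c57) (LK LD1_c14 LD2_c57 LD3_c22) Lrfl Lrfl
theorem f228061 : Led Lsl_ct (LP (LK LD1_c31 LD2_c38 LD3_c18)) = (LP (LK LD1_c24 LD2_c44 LD3_c57)) :=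
  Lre_c IH (LK LD1_c31 LD2_c38 LD3_c18) (LK LD1_c24 LD2_c44 LD3_c57) Lrfl Lrfl
theorem f262201 : Led Lsl_dt (LP (LK LD1_c25 LD2_c8 LD3_c30)) = (LP (LK LD1_c31 LD2_c38 LD3_c18)) :=
  Lgr Lrot32 (Lpe (f28901 IH) (Lpe (f28900 IH) (Lpr_ft (f262197 IH) (Lpr_at (f262187 IH) (Lpr_cf (f228127 IH) (Lpr_df (K13.f228058 IH) (Lpe (f197654 IH) (Lpe (f197657 IH) (Lpe (f228061 IH) (Lpn (LP (LK LD1_c31 LD2_c38 LD3_c18))))))))))))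
theorem f28899 : Led Lsl_ct (LP (LK LD1_c4 LD2_c3 LD3_c25)) = (LP (LK LD1_c8 LD2_c7 LD3_c22)) :=
  Lre_c IH (LK LD1_c4 LD2_c3 LD3_c25) (LK LD1_c8 LD2_c7 LD3_c22) Lrfl Lrfl
theorem f28864 : Led Lsl_ct (LP (LK LD1_c4 LD2_c21 LD3_c43)) = (LP (LK LD1_c2 LD2_c8 LD3_c23)) :=
  Lre_c IH (LK LD1_c4 LD2_c21 LD3_c43) (LK LD1_c2 LD2_c8 LD3_c23) Lrfl Lrfl
theorem f28858 : Led Lsl_dt (LP (LK LD1_c8 LD2_c41 LD3_c2)) = (LP (LK LD1_c4 LD2_c21 LD3_c43)) :=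
  Lre_d IH (LK LD1_c8 LD2_c41 LD3_c2) (LK LD1_c4 LD2_c21 LD3_c43) Lrfl Lrfl
theorem f28904 : Led Lsl_ft (LP (LK LD1_c8 LD2_c41 LD3_c2)) = (LP (LK LD1_c16 LD2_c15 LD3_c59)) :=
  Lre_f IH (LK LD1_c8 LD2_c41 LD3_c2) (LK LD1_c16 LD2_c15 LD3_c59) Lrfl Lrfl
theorem f262211 : Led Lsl_at (LP (LK LD1_c16 LD2_c15 LD3_c59)) = (LP (LK LD1_c24 LD2_c44 LD3_c57)) :=
  Lgr Lrot33 (Lpe (f28904 IH) (Lpr_dt (f28858 IH) (Lpr_ct (f28864 IH) (Lpr_dt (f28850 IH) (Lpr_ct (f28899 IH) (Lpr_dt (f28900 IH) (Lpr_ct (f28901 IH) (Lpr_dt (f262201 IH) (Lpr_ct (f228061 IH) (Lpn (LP (LK LD1_c24 LD2_c44 LD3_c57))))))))))))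
theorem f224959 : Led Lsl_ft (LP (LK LD1_c24 LD2_c44 LD3_c57)) = (LP (LK LD1_c14 LD2_c57 LD3_c21)) :=
  Lre_f IH (LK LD1_c24 LD2_c44 LD3_c57) (LK LD1_c14 LD2_c57 LD3_c21) Lrfl Lrfl
theorem f262219 : Led Lsl_af (LP (LK LD1_c8 LD2_c41 LD3_c2)) = (LP (LK LD1_c14 LD2_c57 LD3_c21)) :=
  Lgr Lrot45 (Lpr_ft (f28904 IH) (Lpr_at (f262211 IH) (Lpr_ft (f224959 IH) (Lpn (LP (LK LD1_c14 LD2_c57 LD3_c21))))))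
theorem f238029 : Led Lsl_et (LP (LK LD1_c8 LD2_c41 LD3_c2)) = (LP (LK LD1_c16 LD2_c15 LD3_c51)) :=
  Lre_e IH (LK LD1_c8 LD2_c41 LD3_c2) (LK LD1_c16 LD2_c15 LD3_c51) Lrfl Lrfl
theorem f197718 : Led Lsl_et (LP (LK LD1_c7 LD2_c55 LD3_c39)) = (LP (LK LD1_c3 LD2_c57 LD3_c0)) :=
  Lre_e IH (LK LD1_c7 LD2_c55 LD3_c39) (LK LD1_c3 LD2_c57 LD3_c0) Lrfl Lrfl
theorem f197647 : Led Lsl_dt (LP (LK LD1_c14 LD2_c57 LD3_c21)) = (LP (LK LD1_c7 LD2_c55 LD3_c39)) :=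
  Lre_d IH (LK LD1_c14 LD2_c57 LD3_c21) (LK LD1_c7 LD2_c55 LD3_c39) Lrfl Lrfl
theorem f197741 : Led Lsl_et (LP (LK LD1_c4 LD2_c53 LD3_c14)) = (LP (LK LD1_c9 LD2_c38 LD3_c29)) :=
  Lre_e IH (LK LD1_c4 LD2_c53 LD3_c14) (LK LD1_c9 LD2_c38 LD3_c29) Lrfl Lrfl
theorem f2524 : Led Lsl_dt (LP (LK LD1_c9 LD2_c38 LD3_c29)) = (LP (LK LD1_c17 LD2_c44 LD3_c40)) :=
  Lre_d IH (LK LD1_c9 LD2_c38 LD3_c29) (LK LD1_c17 LD2_c44 LD3_c40) Lrfl Lrfl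
theorem f224920 : Led Lsl_ef (LP (LK LD1_c14 LD2_c57 LD3_c21)) = (LP (LK LD1_c17 LD2_c44 LD3_c40)) :=
  Lgr Lrot73 (Lpr_dt (f197647 IH) (Lpr_et (f197718 IH) (Lpr_dt (K12.f224879 IH) (Lpr_et (f197741 IH) (Lpr_dt (f2524 IH) (Lpn (LP (LK LD1_c17 LD2_c44 LD3_c40))))))))
theorem f262227 : Led Lsl_at (LP (LK LD1_c16 LD2_c15 LD3_c51)) = (LP (LK LD1_c17 LD2_c44 LD3_c40)) :=
  Lgr Lrot80 (Lpe (f238029 IH) (Lpr_af (f262219 IH) (Lpr_ef (f224920 IH) (Lpn (LP (LK LD1_c17 LD2_c44 LD3_c40))))))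
theorem f216686 : Led Lsl_ft (LP (LK LD1_c26 LD2_c13 LD3_c34)) = (LP (LK LD1_c16 LD2_c15 LD3_c51)) :=
  Lre_f IH (LK LD1_c26 LD2_c13 LD3_c34) (LK LD1_c16 LD2_c15 LD3_c51) Lrfl Lrfl
theorem f197760 : Led Lsl_ft (LP (LK LD1_c17 LD2_c44 LD3_c40)) = (LP (LK LD1_c27 LD2_c31 LD3_c22)) :=
  Lre_f IH (LK LD1_c17 LD2_c44 LD3_c40) (LK LD1_c27 LD2_c31 LD3_c22) Lrfl Lrfl
theorem f262240 : Led Lsl_af (LP (LK LD1_c26 LD2_c13 LD3_c34)) = (LP (LK LD1_c27 LD2_c31 LD3_c22)) :=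
  Lgr Lrot45 (Lpr_ft (f216686 IH) (Lpr_at (f262227 IH) (Lpr_ft (f197760 IH) (Lpn (LP (LK LD1_c27 LD2_c31 LD3_c22))))))
theorem f216677 : Led Lsl_dt (LP (LK LD1_c26 LD2_c13 LD3_c34)) = (LP (LK LD1_c16 LD2_c15 LD3_c52)) :=
  Lre_d IH (LK LD1_c26 LD2_c13 LD3_c34) (LK LD1_c16 LD2_c15 LD3_c52) Lrfl Lrfl
theorem f197770 : Led Lsl_dt (LP (LK LD1_c17 LD2_c44 LD3_c41)) = (LP (LK LD1_c27 LD2_c31 LD3_c22)) :=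
  Lre_d IH (LK LD1_c17 LD2_c44 LD3_c41) (LK LD1_c27 LD2_c31 LD3_c22) Lrfl Lrfl
theorem f262246 : Led Lsl_at (LP (LK LD1_c16 LD2_c15 LD3_c52)) = (LP (LK LD1_c17 LD2_c44 LD3_c41)) :=
  Lgr Lrot51 (Lpe (f216677 IH) (Lpr_af (f262240 IH) (Lpe (f197770 IH) (Lpn (LP (LK LD1_c17 LD2_c44 LD3_c41))))))
theorem f196977 : Led Lsl_et (LP (LK LD1_c4 LD2_c21 LD3_c42)) = (LP (LK LD1_c8 LD2_c41 LD3_c0)) :=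
  Lre_e IH (LK LD1_c4 LD2_c21 LD3_c42) (LK LD1_c8 LD2_c41 LD3_c0) Lrfl Lrfl
theorem f100994 : Led Lsl_et (LP (LK LD1_c4 LD2_c23 LD3_c35)) = (LP (LK LD1_c2 LD2_c9 LD3_c11)) :=
  Lre_e IH (LK LD1_c4 LD2_c23 LD3_c35) (LK LD1_c2 LD2_c9 LD3_c11) Lrfl Lrfl
theorem f216648 : Led Lsl_ct (LP (LK LD1_c8 LD2_c41 LD3_c0)) = (LP (LK LD1_c4 LD2_c23 LD3_c35)) :=
  Lgr Lrot15 (Lpe (f196977 IH) (Lpr_cf (K12.f216590 IH) (Lpe (f100994 IH) (Lpn (LP (LK LD1_c4 LD2_c23 LD3_c35))))))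
theorem f216659 : Led Lsl_ft (LP (LK LD1_c16 LD2_c15 LD3_c52)) = (LP (LK LD1_c8 LD2_c41 LD3_c0)) :=
  Lre_f IH (LK LD1_c16 LD2_c15 LD3_c52) (LK LD1_c8 LD2_c41 LD3_c0) Lrfl Lrfl
theorem f216660 : Led Lsl_ft (LP (LK LD1_c4 LD2_c23 LD3_c35)) = (LP (LK LD1_c8 LD2_c44 LD3_c58)) :=
  Lre_f IH (LK LD1_c4 LD2_c23 LD3_c35) (LK LD1_c8 LD2_c44 LD3_c58) Lrfl Lrfl
theorem f216661 : Led Lsl_cf (LP (LK LD1_c16 LD2_c15 LD3_c52)) = (LP (LK LD1_c8 LD2_c44 LD3_c58)) :=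
  Lgr Lrot108 (Lpr_ft (f216659 IH) (Lpr_ct (f216648 IH) (Lpr_ft (f216660 IH) (Lpn (LP (LK LD1_c8 LD2_c44 LD3_c58))))))
theorem f197740 : Led Lsl_et (LP (LK LD1_c7 LD2_c56 LD3_c31)) = (LP (LK LD1_c3 LD2_c57 LD3_c32)) :=
  Lre_e IH (LK LD1_c7 LD2_c56 LD3_c31) (LK LD1_c3 LD2_c57 LD3_c32) Lrfl Lrfl
theorem f197742 : Led Lsl_cf (LP (LK LD1_c7 LD2_c56 LD3_c31)) = (LP (LK LD1_c9 LD2_c38 LD3_c29)) :=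
  Lgr Lrot39 (Lpr_et (f197740 IH) (Lpr_ct (K12.f197721 IH) (Lpr_et (f197741 IH) (Lpn (LP (LK LD1_c9 LD2_c38 LD3_c29))))))
theorem f197756 : Led Lsl_ft (LP (LK LD1_c7 LD2_c56 LD3_c31)) = (LP (LK LD1_c14 LD2_c59 LD3_c2)) :=
  Lre_f IH (LK LD1_c7 LD2_c56 LD3_c31) (LK LD1_c14 LD2_c59 LD3_c2) Lrfl Lrfl
theorem f197757 : Led Lsl_ft (LP (LK LD1_c17 LD2_c44 LD3_c41)) = (LP (LK LD1_c9 LD2_c38 LD3_c29)) :=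
  Lre_f IH (LK LD1_c17 LD2_c44 LD3_c41) (LK LD1_c9 LD2_c38 LD3_c29) Lrfl Lrfl
theorem f197758 : Led Lsl_ct (LP (LK LD1_c14 LD2_c59 LD3_c2)) = (LP (LK LD1_c17 LD2_c44 LD3_c41)) :=
  Lgr Lrot40 (Lpe (f197756 IH) (Lpr_cf (f197742 IH) (Lpe (f197757 IH) (Lpn (LP (LK LD1_c17 LD2_c44 LD3_c41))))))
theorem f197767 : Led Lsl_cf (LP (LK LD1_c14 LD2_c59 LD3_c2)) = (LP (LK LD1_c17 LD2_c44 LD3_c41)) :=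
  Lgr Lrot11 (Lpr_ct (f197758 IH) (Lpn (LP (LK LD1_c17 LD2_c44 LD3_c41))))
theorem f262252 : Led Lsl_af (LP (LK LD1_c8 LD2_c44 LD3_c58)) = (LP (LK LD1_c14 LD2_c59 LD3_c2)) :=
  Lgr Lrot68 (Lpe (f216661 IH) (Lpr_at (f262246 IH) (Lpe (f197767 IH) (Lpn (LP (LK LD1_c14 LD2_c59 LD3_c2))))))
theorem f216685 : Led Lsl_ft (LP (LK LD1_c8 LD2_c44 LD3_c58)) = (LP (LK LD1_c4 LD2_c23 LD3_c35)) :=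
  Lre_f IH (LK LD1_c8 LD2_c44 LD3_c58) (LK LD1_c4 LD2_c23 LD3_c35) Lrfl Lrfl
theorem f262260 : Led Lsl_at (LP (LK LD1_c4 LD2_c23 LD3_c35)) = (LP (LK LD1_c7 LD2_c56 LD3_c31)) :=
  Lgr Lrot66 (Lpe (f216685 IH) (Lpr_af (f262252 IH) (Lpe (f197756 IH) (Lpn (LP (LK LD1_c7 LD2_c56 LD3_c31))))))
theorem f210331 : Led Lsl_et (LP (LK LD1_c2 LD2_c9 LD3_c11)) = (LP (LK LD1_c4 LD2_c23 LD3_c35)) :=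
  Lre_e IH (LK LD1_c2 LD2_c9 LD3_c11) (LK LD1_c4 LD2_c23 LD3_c35) Lrfl Lrfl
theorem f262270 : Led Lsl_af (LP (LK LD1_c2 LD2_c9 LD3_c11)) = (LP (LK LD1_c3 LD2_c57 LD3_c32)) :=
  Lgr Lrot50 (Lpr_et (f210331 IH) (Lpr_at (f262260 IH) (Lpr_et (f197740 IH) (Lpn (LP (LK LD1_c3 LD2_c57 LD3_c32))))))
theorem f262282 : Led Lsl_ft (LP (LK LD1_c2 LD2_c9 LD3_c12)) = (LP (LK LD1_c3 LD2_c57 LD3_c32)) :=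
  Lgr Lrot2 (Lpr_gt (K13.f39191 IH) (Lpr_gt (K12.f29617 IH) (Lpr_af (f262270 IH) (Lpn (LP (LK LD1_c3 LD2_c57 LD3_c32))))))
theorem f262292 : Led Lsl_ff (LP (LK LD1_c2 LD2_c9 LD3_c12)) = (LP (LK LD1_c3 LD2_c57 LD3_c32)) :=
  Lgr Lrot3 (Lpr_ft (f262282 IH) (Lpn (LP (LK LD1_c3 LD2_c57 LD3_c32))))
theorem f262302 : Led Lsl_at (LP (LK LD1_c2 LD2_c9 LD3_c12)) = (LP (LK LD1_c3 LD2_c57 LD3_c33)) :=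
  Lgr Lrot26 (Lpr_ff (f262292 IH) (Lpe (K12.f229408 IH) (Lpe (K11.f39891 IH) (Lpn (LP (LK LD1_c3 LD2_c57 LD3_c33))))))
theorem f262274 : Led Lsl_at (LP (LK LD1_c2 LD2_c9 LD3_c11)) = (LP (LK LD1_c3 LD2_c57 LD3_c32)) :=
  Lgr Lrot100 (Lpr_af (f262270 IH) (Lpn (LP (LK LD1_c3 LD2_c57 LD3_c32))))
theorem f262312 : Led Lsl_ff (LP (LK LD1_c2 LD2_c9 LD3_c11)) = (LP (LK LD1_c3 LD2_c57 LD3_c33)) :=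
  Lgr Lrot30 (Lpr_at (f262274 IH) (Lpe (f262292 IH) (Lpr_at (f262302 IH) (Lpn (LP (LK LD1_c3 LD2_c57 LD3_c33))))))
theorem f262322 : Led Lsl_ft (LP (LK LD1_c2 LD2_c9 LD3_c11)) = (LP (LK LD1_c3 LD2_c57 LD3_c33)) :=
  Lgr Lrot48 (Lpr_ff (f262312 IH) (Lpn (LP (LK LD1_c3 LD2_c57 LD3_c33))))
theorem f193487 : Led Lsl_et (LP (LK LD1_c3 LD2_c57 LD3_c33)) = (LP (LK LD1_c7 LD2_c56 LD3_c33)) :=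
  Lre_e IH (LK LD1_c3 LD2_c57 LD3_c33) (LK LD1_c7 LD2_c56 LD3_c33) Lrfl Lrfl
theorem f193552 : Led Lsl_ft (LP (LK LD1_c7 LD2_c56 LD3_c33)) = (LP (LK LD1_c14 LD2_c59 LD3_c7)) :=
  Lre_f IH (LK LD1_c7 LD2_c56 LD3_c33) (LK LD1_c14 LD2_c59 LD3_c7) Lrfl Lrfl
theorem f262330 : Led Lsl_ef (LP (LK LD1_c8 LD2_c44 LD3_c58)) = (LP (LK LD1_c14 LD2_c59 LD3_c7)) :=
  Lgr Lrot21 (Lpr_ft (f216685 IH) (Lpr_et (f100994 IH) (Lpr_ft (f262322 IH) (Lpr_et (f193487 IH) (Lpr_ft (f193552 IH) (Lpn (LP (LK LD1_c14 LD2_c59 LD3_c7))))))))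
theorem f262256 : Led Lsl_at (LP (LK LD1_c8 LD2_c44 LD3_c58)) = (LP (LK LD1_c14 LD2_c59 LD3_c2)) :=
  Lgr Lrot100 (Lpr_af (f262252 IH) (Lpn (LP (LK LD1_c14 LD2_c59 LD3_c2))))
theorem f201473 : Led Lsl_et (LP (LK LD1_c4 LD2_c23 LD3_c37)) = (LP (LK LD1_c2 LD2_c9 LD3_c12)) :=
  Lre_e IH (LK LD1_c4 LD2_c23 LD3_c37) (LK LD1_c2 LD2_c9 LD3_c12) Lrfl Lrfl
theorem f201479 : Led Lsl_ft (LP (LK LD1_c8 LD2_c45 LD3_c2)) = (LP (LK LD1_c4 LD2_c23 LD3_c37)) :=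
  Lre_f IH (LK LD1_c8 LD2_c45 LD3_c2) (LK LD1_c4 LD2_c23 LD3_c37) Lrfl Lrfl
theorem f197784 : Led Lsl_et (LP (LK LD1_c3 LD2_c57 LD3_c32)) = (LP (LK LD1_c7 LD2_c56 LD3_c31)) :=
  Lre_e IH (LK LD1_c3 LD2_c57 LD3_c32) (LK LD1_c7 LD2_c56 LD3_c31) Lrfl Lrfl
theorem f262290 : Led Lsl_ef (LP (LK LD1_c8 LD2_c45 LD3_c2)) = (LP (LK LD1_c14 LD2_c59 LD3_c2)) :=
  Lgr Lrot21 (Lpr_ft (f201479 IH) (Lpr_et (f201473 IH) (Lpr_ft (f262282 IH) (Lpr_et (f197784 IH) (Lpr_ft (f197756 IH) (Lpn (LP (LK LD1_c14 LD2_c59 LD3_c2))))))))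
theorem f262332 : Led Lsl_at (LP (LK LD1_c8 LD2_c45 LD3_c2)) = (LP (LK LD1_c14 LD2_c59 LD3_c7)) :=
  Lgr Lrot80 (Lpr_ef (f262290 IH) (Lpe (f262256 IH) (Lpr_ef (f262330 IH) (Lpn (LP (LK LD1_c14 LD2_c59 LD3_c7))))))
theorem f201467 : Led Lsl_et (LP (LK LD1_c2 LD2_c9 LD3_c12)) = (LP (LK LD1_c4 LD2_c23 LD3_c37)) :=
  Lre_e IH (LK LD1_c2 LD2_c9 LD3_c12) (LK LD1_c4 LD2_c23 LD3_c37) Lrfl Lrfl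
theorem f69747 : Led Lsl_et (LP (LK LD1_c8 LD2_c3 LD3_c29)) = (LP (LK LD1_c4 LD2_c1 LD3_c24)) :=
  Lre_e IH (LK LD1_c8 LD2_c3 LD3_c29) (LK LD1_c4 LD2_c1 LD3_c24) Lrfl Lrfl
theorem f201468 : Led Lsl_dt (LP (LK LD1_c4 LD2_c23 LD3_c37)) = (LP (LK LD1_c8 LD2_c3 LD3_c29)) :=
  Lgr Lrot77 (Lpe (f201467 IH) (Lpr_df (K13.f201460 IH) (Lpr_ef (K13.f69716 IH) (Lpe (K13.f69746 IH) (Lpe (f69747 IH) (Lpn (LP (LK LD1_c8 LD2_c3 LD3_c29))))))))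
theorem f196189 : Led Lsl_ft (LP (LK LD1_c8 LD2_c3 LD3_c29)) = (LP (LK LD1_c15 LD2_c10 LD3_c11)) :=
  Lre_f IH (LK LD1_c8 LD2_c3 LD3_c29) (LK LD1_c15 LD2_c10 LD3_c11) Lrfl Lrfl
theorem f201480 : Led Lsl_df (LP (LK LD1_c8 LD2_c45 LD3_c2)) = (LP (LK LD1_c15 LD2_c10 LD3_c11)) :=
  Lgr Lrot78 (Lpr_ft (f201479 IH) (Lpr_dt (f201468 IH) (Lpr_ft (f196189 IH) (Lpn (LP (LK LD1_c15 LD2_c10 LD3_c11))))))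
theorem f193472 : Led Lsl_et (LP (LK LD1_c1 LD2_c58 LD3_c3)) = (LP (LK LD1_c1 LD2_c56 LD3_c11)) :=
  Lgr Lrot158 (Lpe (K10.f34063 IH) (Lpr_ef (K11.f193470 IH) (Lpe (K12.f173351 IH) (Lpn (LP (LK LD1_c1 LD2_c56 LD3_c11))))))
theorem f193488 : Led Lsl_et (LP (LK LD1_c8 LD2_c4 LD3_c51)) = (LP (LK LD1_c4 LD2_c2 LD3_c8)) :=
  Lre_e IH (LK LD1_c8 LD2_c4 LD3_c51) (LK LD1_c4 LD2_c2 LD3_c8) Lrfl Lrfl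
theorem f193489 : Led Lsl_dt (LP (LK LD1_c7 LD2_c56 LD3_c33)) = (LP (LK LD1_c8 LD2_c4 LD3_c51)) :=
  Lgr Lrot77 (Lpe (f193487 IH) (Lpr_df (K11.f193480 IH) (Lpe (f193472 IH) (Lpe (K13.f193457 IH) (Lpe (f193488 IH) (Lpn (LP (LK LD1_c8 LD2_c4 LD3_c51))))))))
theorem f193548 : Led Lsl_ft (LP (LK LD1_c14 LD2_c59 LD3_c7)) = (LP (LK LD1_c7 LD2_c56 LD3_c33)) :=
  Lre_f IH (LK LD1_c14 LD2_c59 LD3_c7) (LK LD1_c7 LD2_c56 LD3_c33) Lrfl Lrfl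
theorem f193549 : Led Lsl_ft (LP (LK LD1_c8 LD2_c4 LD3_c51)) = (LP (LK LD1_c15 LD2_c12 LD3_c58)) :=
  Lre_f IH (LK LD1_c8 LD2_c4 LD3_c51) (LK LD1_c15 LD2_c12 LD3_c58) Lrfl Lrfl
theorem f193550 : Led Lsl_df (LP (LK LD1_c14 LD2_c59 LD3_c7)) = (LP (LK LD1_c15 LD2_c12 LD3_c58)) :=
  Lgr Lrot78 (Lpr_ft (f193548 IH) (Lpr_dt (f193489 IH) (Lpr_ft (f193549 IH) (Lpn (LP (LK LD1_c15 LD2_c12 LD3_c58))))))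
theorem f193566 : Led Lsl_dt (LP (LK LD1_c14 LD2_c59 LD3_c7)) = (LP (LK LD1_c15 LD2_c12 LD3_c58)) :=
  Lgr Lrot42 (Lpr_df (f193550 IH) (Lpn (LP (LK LD1_c15 LD2_c12 LD3_c58))))
theorem f262344 : Led Lsl_af (LP (LK LD1_c15 LD2_c10 LD3_c11)) = (LP (LK LD1_c15 LD2_c12 LD3_c58)) :=
  Lgr Lrot117 (Lpe (f201480 IH) (Lpr_at (f262332 IH) (Lpr_dt (f193566 IH) (Lpn (LP (LK LD1_c15 LD2_c12 LD3_c58))))))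
theorem f196185 : Led Lsl_ft (LP (LK LD1_c15 LD2_c10 LD3_c11)) = (LP (LK LD1_c8 LD2_c3 LD3_c29)) :=
  Lre_f IH (LK LD1_c15 LD2_c10 LD3_c11) (LK LD1_c8 LD2_c3 LD3_c29) Lrfl Lrfl
theorem f262350 : Led Lsl_at (LP (LK LD1_c8 LD2_c3 LD3_c29)) = (LP (LK LD1_c8 LD2_c4 LD3_c51)) :=
  Lgr Lrot66 (Lpe (f196185 IH) (Lpr_af (f262344 IH) (Lpe (f193549 IH) (Lpn (LP (LK LD1_c8 LD2_c4 LD3_c51))))))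
theorem f69728 : Led Lsl_et (LP (LK LD1_c4 LD2_c1 LD3_c24)) = (LP (LK LD1_c8 LD2_c3 LD3_c29)) :=
  Lre_e IH (LK LD1_c4 LD2_c1 LD3_c24) (LK LD1_c8 LD2_c3 LD3_c29) Lrfl Lrfl
theorem f262356 : Led Lsl_af (LP (LK LD1_c4 LD2_c1 LD3_c24)) = (LP (LK LD1_c4 LD2_c2 LD3_c8)) :=
  Lgr Lrot50 (Lpr_et (f69728 IH) (Lpr_at (f262350 IH) (Lpr_et (f193488 IH) (Lpn (LP (LK LD1_c4 LD2_c2 LD3_c8))))))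
theorem f262366 : Led Lsl_ft (LP (LK LD1_c4 LD2_c1 LD3_c26)) = (LP (LK LD1_c4 LD2_c2 LD3_c8)) :=
  Lgr Lrot2 (Lpr_gt (K13.f242083 IH) (Lpr_gt (K13.f69748 IH) (Lpr_af (f262356 IH) (Lpn (LP (LK LD1_c4 LD2_c2 LD3_c8))))))
theorem f262377 : Led Lsl_ff (LP (LK LD1_c4 LD2_c1 LD3_c26)) = (LP (LK LD1_c4 LD2_c2 LD3_c8)) :=
  Lgr Lrot3 (Lpr_ft (f262366 IH) (Lpn (LP (LK LD1_c4 LD2_c2 LD3_c8))))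
theorem f262388 : Led Lsl_at (LP (LK LD1_c4 LD2_c1 LD3_c26)) = (LP (LK LD1_c4 LD2_c2 LD3_c10)) :=
  Lgr Lrot26 (Lpr_ff (f262377 IH) (Lpr_gt (K13.f242262 IH) (Lpe (K12.f227329 IH) (Lpn (LP (LK LD1_c4 LD2_c2 LD3_c10))))))
theorem f193439 : Led Lsl_bf (LP (LK LD1_c0 LD2_c55 LD3_c56)) = (LP (LK LD1_c0 LD2_c26 LD3_c8)) :=
  Lgr Lrot34 (Lpe (K10.f28752 IH) (Lpe (K2.f69749 IH) (Lpr_ct (K0.f33684 IH) (Lpe (K10.f33719 IH) (Lpr_cf (K10.f193407 IH) (Lpe (K9.f47077 IH) (Lpr_bf (K1.f45988 IH) (Lpr_ct (K9.f9066 IH) (Lpe (K9.f9083 IH) (Lpr_cf (K9.f175954 IH) (Lpn (LP (LK LD1_c0 LD2_c26 LD3_c8)))))))))))))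
theorem f246045 : Led Lsl_dt (LP (LK LD1_c0 LD2_c55 LD3_c56)) = (LP (LK LD1_c1 LD2_c10 LD3_c17)) :=
  Lgr Lrot79 (Lpr_bf (f193439 IH) (Lpr_df (K13.f246043 IH) (Lpe (K14.f175061 IH) (Lpn (LP (LK LD1_c1 LD2_c10 LD3_c17))))))
theorem f246096 : Led Lsl_dt (LP (LK LD1_c2 LD2_c8 LD3_c19)) = (LP (LK LD1_c1 LD2_c58 LD3_c19)) :=
  Lgr Lrot6 (Lpr_gt (K13.f246088 IH) (Lpr_ct (K13.f53170 IH) (Lpr_gt (K12.f166448 IH) (Lpr_ct (K13.f28547 IH) (Lpe (K13.f196336 IH) (Lpe (K10.f34005 IH) (Lpe (K10.f190441 IH) (Lpe (K1.f46932 IH) (Lpe (K12.f46962 IH) (Lpn (LP (LK LD1_c1 LD2_c58 LD3_c19))))))))))))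
theorem f188307 : Led Lsl_bt (LP (LK LD1_c5 LD2_c17 LD3_c50)) = (LP (LK LD1_c2 LD2_c35 LD3_c39)) :=
  Lre_b IH (LK LD1_c5 LD2_c17 LD3_c50) (LK LD1_c2 LD2_c35 LD3_c39) Lrfl Lrfl
theorem f32822 : Led Lsl_bt (LP (LK LD1_c5 LD2_c18 LD3_c4)) = (LP (LK LD1_c2 LD2_c35 LD3_c45)) :=
  Lre_b IH (LK LD1_c5 LD2_c18 LD3_c4) (LK LD1_c2 LD2_c35 LD3_c45) Lrfl Lrfl
theorem f33368 : Led Lsl_bt (LP (LK LD1_c4 LD2_c51 LD3_c18)) = (LP (LK LD1_c9 LD2_c34 LD3_c42)) :=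
  Lre_b IH (LK LD1_c4 LD2_c51 LD3_c18) (LK LD1_c9 LD2_c34 LD3_c42) Lrfl Lrfl
theorem f191673 : Led Lsl_cf (LP (LK LD1_c5 LD2_c18 LD3_c4)) = (LP (LK LD1_c9 LD2_c34 LD3_c42)) :=
  Lgr Lrot97 (Lpr_bt (f32822 IH) (Lpe (K10.f191516 IH) (Lpr_bt (K10.f191562 IH) (Lpr_ct (K14.f33359 IH) (Lpr_bt (f33368 IH) (Lpn (LP (LK LD1_c9 LD2_c34 LD3_c42))))))))
theorem f192023 : Led Lsl_ct (LP (LK LD1_c5 LD2_c18 LD3_c4)) = (LP (LK LD1_c9 LD2_c34 LD3_c42)) :=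
  Lgr Lrot59 (Lpr_cf (f191673 IH) (Lpn (LP (LK LD1_c9 LD2_c34 LD3_c42))))
theorem f192030 : Led Lsl_bt (LP (LK LD1_c2 LD2_c35 LD3_c39)) = (LP (LK LD1_c5 LD2_c17 LD3_c50)) :=
  Lre_b IH (LK LD1_c2 LD2_c35 LD3_c39) (LK LD1_c5 LD2_c17 LD3_c50) Lrfl Lrfl
theorem f192031 : Led Lsl_gt (LP (LK LD1_c5 LD2_c17 LD3_c50)) = (LP (LK LD1_c10 LD2_c25 LD3_c15)) :=
  Lre_g IH (LK LD1_c5 LD2_c17 LD3_c50) (LK LD1_c10 LD2_c25 LD3_c15) Lrfl Lrfl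
theorem f192032 : Led Lsl_bt (LP (LK LD1_c18 LD2_c54 LD3_c22)) = (LP (LK LD1_c10 LD2_c25 LD3_c15)) :=
  Lre_b IH (LK LD1_c18 LD2_c54 LD3_c22) (LK LD1_c10 LD2_c25 LD3_c15) Lrfl Lrfl
theorem f33369 : Led Lsl_gt (LP (LK LD1_c17 LD2_c38 LD3_c19)) = (LP (LK LD1_c9 LD2_c34 LD3_c42)) :=
  Lre_g IH (LK LD1_c17 LD2_c38 LD3_c19) (LK LD1_c9 LD2_c34 LD3_c42) Lrfl Lrfl
theorem f192033 : Led Lsl_ct (LP (LK LD1_c18 LD2_c54 LD3_c22)) = (LP (LK LD1_c17 LD2_c38 LD3_c19)) :=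
  Lgr Lrot64 (Lpr_bt (f192032 IH) (Lpe (f192031 IH) (Lpe (f192030 IH) (Lpr_ct (K10.f188288 IH) (Lpe (K13.f49096 IH) (Lpe (K10.f48330 IH) (Lpe (K10.f48933 IH) (Lpe (f32822 IH) (Lpr_ct (f192023 IH) (Lpe (f33369 IH) (Lpn (LP (LK LD1_c17 LD2_c38 LD3_c19)))))))))))))
theorem f192045 : Led Lsl_cf (LP (LK LD1_c18 LD2_c54 LD3_c22)) = (LP (LK LD1_c17 LD2_c38 LD3_c19)) :=
  Lgr Lrot11 (Lpr_ct (f192033 IH) (Lpn (LP (LK LD1_c17 LD2_c38 LD3_c19))))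
theorem f192040 : Led Lsl_ct (LP (LK LD1_c10 LD2_c25 LD3_c15)) = (LP (LK LD1_c18 LD2_c54 LD3_c23)) :=
  Lre_c IH (LK LD1_c10 LD2_c25 LD3_c15) (LK LD1_c18 LD2_c54 LD3_c23) Lrfl Lrfl
theorem f33370 : Led Lsl_bt (LP (LK LD1_c27 LD2_c26 LD3_c27)) = (LP (LK LD1_c17 LD2_c38 LD3_c19)) :=
  Lre_b IH (LK LD1_c27 LD2_c26 LD3_c27) (LK LD1_c17 LD2_c38 LD3_c19) Lrfl Lrfl
theorem f33366 : Led Lsl_bt (LP (LK LD1_c2 LD2_c28 LD3_c10)) = (LP (LK LD1_c5 LD2_c0 LD3_c53)) :=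
  Lre_b IH (LK LD1_c2 LD2_c28 LD3_c10) (LK LD1_c5 LD2_c0 LD3_c53) Lrfl Lrfl
theorem f33367 : Led Lsl_gt (LP (LK LD1_c5 LD2_c0 LD3_c53)) = (LP (LK LD1_c9 LD2_c52 LD3_c8)) :=
  Lre_g IH (LK LD1_c5 LD2_c0 LD3_c53) (LK LD1_c9 LD2_c52 LD3_c8) Lrfl Lrfl
theorem f3654 : Led Lsl_ct (LP (LK LD1_c9 LD2_c52 LD3_c8)) = (LP (LK LD1_c18 LD2_c3 LD3_c58)) :=
  Lre_c IH (LK LD1_c9 LD2_c52 LD3_c8) (LK LD1_c18 LD2_c3 LD3_c58) Lrfl Lrfl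
theorem f3655 : Led Lsl_gt (LP (LK LD1_c18 LD2_c3 LD3_c58)) = (LP (LK LD1_c27 LD2_c45 LD3_c37)) :=
  Lre_g IH (LK LD1_c18 LD2_c3 LD3_c58) (LK LD1_c27 LD2_c45 LD3_c37) Lrfl Lrfl
theorem f33371 : Led Lsl_ct (LP (LK LD1_c27 LD2_c26 LD3_c27)) = (LP (LK LD1_c27 LD2_c45 LD3_c37)) :=
  Lgr Lrot63 (Lpr_bt (f33370 IH) (Lpr_gt (f33369 IH) (Lpe (f33368 IH) (Lpr_ct (K14.f33362 IH) (Lpr_gt (K10.f33350 IH) (Lpe (K0.f3328 IH) (Lpr_bt (f33366 IH) (Lpr_gt (f33367 IH) (Lpr_ct (f3654 IH) (Lpr_gt (f3655 IH) (Lpn (LP (LK LD1_c27 LD2_c45 LD3_c37)))))))))))))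
theorem f33376 : Led Lsl_cf (LP (LK LD1_c27 LD2_c26 LD3_c27)) = (LP (LK LD1_c27 LD2_c45 LD3_c37)) :=
  Lgr Lrot11 (Lpr_ct (f33371 IH) (Lpn (LP (LK LD1_c27 LD2_c45 LD3_c37))))
theorem f192047 : Led Lsl_bt (LP (LK LD1_c18 LD2_c54 LD3_c23)) = (LP (LK LD1_c27 LD2_c45 LD3_c37)) :=
  Lgr Lrot128 (Lpe (f192040 IH) (Lpe (f192032 IH) (Lpr_cf (f192045 IH) (Lpe (f33370 IH) (Lpr_cf (f33376 IH) (Lpn (LP (LK LD1_c27 LD2_c45 LD3_c37))))))))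
theorem f192042 : Led Lsl_ct (LP (LK LD1_c18 LD2_c54 LD3_c23)) = (LP (LK LD1_c10 LD2_c25 LD3_c15)) :=
  Lre_c IH (LK LD1_c18 LD2_c54 LD3_c23) (LK LD1_c10 LD2_c25 LD3_c15) Lrfl Lrfl
theorem f33378 : Led Lsl_gt (LP (LK LD1_c27 LD2_c45 LD3_c37)) = (LP (LK LD1_c18 LD2_c4 LD3_c0)) :=
  Lre_g IH (LK LD1_c27 LD2_c45 LD3_c37) (LK LD1_c18 LD2_c4 LD3_c0) Lrfl Lrfl
theorem f33380 : Led Lsl_ct (LP (LK LD1_c18 LD2_c4 LD3_c0)) = (LP (LK LD1_c9 LD2_c52 LD3_c9)) :=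
  Lre_c IH (LK LD1_c18 LD2_c4 LD3_c0) (LK LD1_c9 LD2_c52 LD3_c9) Lrfl Lrfl
theorem f3725 : Led Lsl_gt (LP (LK LD1_c9 LD2_c52 LD3_c9)) = (LP (LK LD1_c5 LD2_c0 LD3_c53)) :=
  Lre_g IH (LK LD1_c9 LD2_c52 LD3_c9) (LK LD1_c5 LD2_c0 LD3_c53) Lrfl Lrfl
theorem f33834 : Led Lsl_bt (LP (LK LD1_c4 LD2_c1 LD3_c54)) = (LP (LK LD1_c1 LD2_c57 LD3_c53)) :=
  Lre_b IH (LK LD1_c4 LD2_c1 LD3_c54) (LK LD1_c1 LD2_c57 LD3_c53) Lrfl Lrfl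
theorem f33861 : Led Lsl_gt (LP (LK LD1_c1 LD2_c57 LD3_c53)) = (LP (LK LD1_c4 LD2_c1 LD3_c52)) :=
  Lre_g IH (LK LD1_c1 LD2_c57 LD3_c53) (LK LD1_c4 LD2_c1 LD3_c52) Lrfl Lrfl
theorem f165369 : Led Lsl_bt (LP (LK LD1_c8 LD2_c4 LD3_c21)) = (LP (LK LD1_c4 LD2_c1 LD3_c52)) :=
  Lre_b IH (LK LD1_c8 LD2_c4 LD3_c21) (LK LD1_c4 LD2_c1 LD3_c52) Lrfl Lrfl
theorem f192050 : Led Lsl_cf (LP (LK LD1_c5 LD2_c17 LD3_c50)) = (LP (LK LD1_c8 LD2_c4 LD3_c21)) :=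
  Lgr Lrot160 (Lpr_gt (f192031 IH) (Lpe (f192042 IH) (Lpr_bt (f192047 IH) (Lpr_gt (f33378 IH) (Lpr_ct (f33380 IH) (Lpr_gt (f3725 IH) (Lpr_cf (K10.f165357 IH) (Lpr_bt (f33834 IH) (Lpr_gt (f33861 IH) (Lpe (f165369 IH) (Lpn (LP (LK LD1_c8 LD2_c4 LD3_c21)))))))))))))
theorem f192056 : Led Lsl_bt (LP (LK LD1_c4 LD2_c1 LD3_c52)) = (LP (LK LD1_c8 LD2_c4 LD3_c21)) :=
  Lre_b IH (LK LD1_c4 LD2_c1 LD3_c52) (LK LD1_c8 LD2_c4 LD3_c21) Lrfl Lrfl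
theorem f212300 : Led Lsl_cf (LP (LK LD1_c4 LD2_c1 LD3_c52)) = (LP (LK LD1_c1 LD2_c58 LD3_c19)) :=
  Lgr Lrot97 (Lpr_bt (f192056 IH) (Lpe (f192050 IH) (Lpr_bt (f188307 IH) (Lpr_ct (K10.f188288 IH) (Lpr_bt (K12.f212296 IH) (Lpn (LP (LK LD1_c1 LD2_c58 LD3_c19))))))))
theorem f33862 : Led Lsl_dt (LP (LK LD1_c4 LD2_c1 LD3_c52)) = (LP (LK LD1_c8 LD2_c4 LD3_c22)) :=
  Lre_d IH (LK LD1_c4 LD2_c1 LD3_c52) (LK LD1_c8 LD2_c4 LD3_c22) Lrfl Lrfl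
theorem f262390 : Led Lsl_cf (LP (LK LD1_c4 LD2_c2 LD3_c10)) = (LP (LK LD1_c8 LD2_c4 LD3_c22)) :=
  Lgr Lrot102 (Lpe (f262388 IH) (Lpr_ff (f262377 IH) (Lpr_dt (K13.f193457 IH) (Lpr_ct (K11.f34067 IH) (Lpr_dt (f246045 IH) (Lpr_ct (K13.f243026 IH) (Lpr_dt (f246096 IH) (Lpe (f212300 IH) (Lpr_dt (f33862 IH) (Lpn (LP (LK LD1_c8 LD2_c4 LD3_c22))))))))))))
theorem f240244 : Led Lsl_dt (LP (LK LD1_c10 LD2_c7 LD3_c34)) = (LP (LK LD1_c5 LD2_c8 LD3_c34)) :=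
  Lre_d IH (LK LD1_c10 LD2_c7 LD3_c34) (LK LD1_c5 LD2_c8 LD3_c34) Lrfl Lrfl
theorem f262396 : Led Lsl_gf (LP (LK LD1_c10 LD2_c7 LD3_c34)) = (LP (LK LD1_c8 LD2_c4 LD3_c22)) :=
  Lgr Lrot144 (Lpr_dt (f240244 IH) (Lpr_gt (K13.f240242 IH) (Lpe (K13.f240234 IH) (Lpe (K12.f196154 IH) (Lpe (K10.f192722 IH) (Lpr_gf (K10.f196099 IH) (Lpe (K13.f181140 IH) (Lpe (K13.f242287 IH) (Lpr_cf (f262390 IH) (Lpn (LP (LK LD1_c8 LD2_c4 LD3_c22))))))))))))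
theorem f262362 : Led Lsl_at (LP (LK LD1_c5 LD2_c9 LD3_c13)) = (LP (LK LD1_c8 LD2_c4 LD3_c25)) :=
  Lgr Lrot107 (Lpe (K13.f196174 IH) (Lpr_af (f262356 IH) (Lpr_cf (K13.f242066 IH) (Lpn (LP (LK LD1_c8 LD2_c4 LD3_c25))))))
theorem f262399 : Led Lsl_ff (LP (LK LD1_c5 LD2_c9 LD3_c13)) = (LP (LK LD1_c8 LD2_c4 LD3_c22)) :=
  Lgr Lrot52 (Lpr_at (f262362 IH) (Lpr_gf (K13.f242335 IH) (Lpr_gf (f262396 IH) (Lpn (LP (LK LD1_c8 LD2_c4 LD3_c22))))))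
theorem f262453 : Led Lsl_ft (LP (LK LD1_c5 LD2_c9 LD3_c13)) = (LP (LK LD1_c8 LD2_c4 LD3_c22)) :=
  Lgr Lrot48 (Lpr_ff (f262399 IH) (Lpn (LP (LK LD1_c8 LD2_c4 LD3_c22))))
theorem f242827 : Led Lsl_gf (LP (LK LD1_c5 LD2_c9 LD3_c10)) = (LP (LK LD1_c9 LD2_c55 LD3_c23)) :=
  Lgr Lrot144 (Lpr_dt (f33825 IH) (Lpe (K13.f33820 IH) (Lpr_dt (f33778 IH) (Lpe (K0.f33826 IH) (Lpe (K0.f33822 IH) (Lpe (K13.f33823 IH) (Lpe (K13.f33824 IH) (Lpe (K13.f240645 IH) (Lpr_cf (K13.f242797 IH) (Lpn (LP (LK LD1_c9 LD2_c55 LD3_c23))))))))))))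
theorem f262461 : Led Lsl_af (LP (LK LD1_c5 LD2_c9 LD3_c10)) = (LP (LK LD1_c8 LD2_c4 LD3_c22)) :=
  Lgr Lrot31 (Lpr_gf (f242827 IH) (Lpr_gf (K13.f239524 IH) (Lpr_ft (f262453 IH) (Lpn (LP (LK LD1_c8 LD2_c4 LD3_c22))))))
theorem f262381 : Led Lsl_ft (LP (LK LD1_c5 LD2_c9 LD3_c10)) = (LP (LK LD1_c8 LD2_c4 LD3_c25)) :=
  Lgr Lrot4 (Lpr_cf (f240519 IH) (Lpr_ff (f262377 IH) (Lpr_cf (K13.f242066 IH) (Lpn (LP (LK LD1_c8 LD2_c4 LD3_c25))))))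
theorem f262465 : Led Lsl_at (LP (LK LD1_c8 LD2_c4 LD3_c25)) = (LP (LK LD1_c5 LD2_c9 LD3_c13)) :=
  Lgr Lrot66 (Lpe (f262381 IH) (Lpr_af (f262461 IH) (Lpe (f262453 IH) (Lpn (LP (LK LD1_c5 LD2_c9 LD3_c13))))))
theorem f262468 : Led Lsl_af (LP (LK LD1_c4 LD2_c1 LD3_c53)) = (LP (LK LD1_c2 LD2_c31 LD3_c45)) :=
  Lgr Lrot117 (Lpr_dt (K13.f229088 IH) (Lpr_at (f262465 IH) (Lpr_dt (K13.f33791 IH) (Lpn (LP (LK LD1_c2 LD2_c31 LD3_c45))))))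
theorem f242569 : Led Lsl_dt (LP (LK LD1_c8 LD2_c4 LD3_c22)) = (LP (LK LD1_c4 LD2_c1 LD3_c52)) :=
  Lre_d IH (LK LD1_c8 LD2_c4 LD3_c22) (LK LD1_c4 LD2_c1 LD3_c52) Lrfl Lrfl
theorem f262459 : Led Lsl_ff (LP (LK LD1_c2 LD2_c31 LD3_c45)) = (LP (LK LD1_c4 LD2_c1 LD3_c52)) :=
  Lgr Lrot19 (Lpr_dt (K13.f33846 IH) (Lpr_ft (f262453 IH) (Lpr_dt (f242569 IH) (Lpn (LP (LK LD1_c4 LD2_c1 LD3_c52))))))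
theorem f262463 : Led Lsl_at (LP (LK LD1_c2 LD2_c31 LD3_c44)) = (LP (LK LD1_c4 LD2_c1 LD3_c52)) :=
  Lgr Lrot51 (Lpe (f33825 IH) (Lpr_af (f262461 IH) (Lpe (f33862 IH) (Lpn (LP (LK LD1_c4 LD2_c1 LD3_c52))))))
theorem f262487 : Led Lsl_ft (LP (LK LD1_c4 LD2_c1 LD3_c53)) = (LP (LK LD1_c2 LD2_c31 LD3_c44)) :=
  Lgr Lrot101 (Lpr_af (f262468 IH) (Lpr_ff (f262459 IH) (Lpe (f262463 IH) (Lpn (LP (LK LD1_c2 LD2_c31 LD3_c44))))))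
theorem f262496 : Led Lsl_ff (LP (LK LD1_c4 LD2_c1 LD3_c53)) = (LP (LK LD1_c2 LD2_c31 LD3_c44)) :=
  Lgr Lrot3 (Lpr_ft (f262487 IH) (Lpn (LP (LK LD1_c2 LD2_c31 LD3_c44))))
theorem f229093 : Led Lsl_cf (LP (LK LD1_c1 LD2_c58 LD3_c20)) = (LP (LK LD1_c4 LD2_c1 LD3_c53)) :=
  Lgr Lrot11 (Lpr_ct (K12.f229084 IH) (Lpn (LP (LK LD1_c4 LD2_c1 LD3_c53))))
theorem f259998 : Led Lsl_cf (LP (LK LD1_c2 LD2_c31 LD3_c44)) = (LP (LK LD1_c1 LD2_c58 LD3_c12)) :=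
  Lgr Lrot166 (Lpe (K13.f33820 IH) (Lpr_dt (f33778 IH) (Lpe (K13.f34107 IH) (Lpe (K13.f242311 IH) (Lpr_ct (K13.f171536 IH) (Lpe (K13.f171537 IH) (Lpe (K10.f192586 IH) (Lpe (K1.f27861 IH) (Lpr_gf (f259994 IH) (Lpn (LP (LK LD1_c1 LD2_c58 LD3_c12))))))))))))
theorem f262502 : Led Lsl_ft (LP (LK LD1_c1 LD2_c58 LD3_c20)) = (LP (LK LD1_c1 LD2_c58 LD3_c12)) :=
  Lgr Lrot4 (Lpr_cf (f229093 IH) (Lpr_ff (f262496 IH) (Lpr_cf (f259998 IH) (Lpn (LP (LK LD1_c1 LD2_c58 LD3_c12))))))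
theorem f262521 : Led Lsl_af (LP (LK LD1_c1 LD2_c58 LD3_c19)) = (LP (LK LD1_c1 LD2_c58 LD3_c12)) :=
  Lgr Lrot31 (Lpe (K12.f28154 IH) (Lpe (K12.f27849 IH) (Lpr_ft (f262502 IH) (Lpn (LP (LK LD1_c1 LD2_c58 LD3_c12))))))
theorem f251201 : Led Lsl_ff (LP (LK LD1_c1 LD2_c58 LD3_c13)) = (LP (LK LD1_c1 LD2_c58 LD3_c19)) :=
  Lgr Lrot25 (Lpe (K10.f197040 IH) (Lpr_ft (K14.f251199 IH) (Lpr_bt (K12.f212296 IH) (Lpn (LP (LK LD1_c1 LD2_c58 LD3_c19))))))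
theorem f262529 : Led Lsl_at (LP (LK LD1_c1 LD2_c58 LD3_c13)) = (LP (LK LD1_c1 LD2_c58 LD3_c20)) :=
  Lgr Lrot66 (Lpr_ff (f251201 IH) (Lpr_af (f262521 IH) (Lpe (f262502 IH) (Lpn (LP (LK LD1_c1 LD2_c58 LD3_c20))))))
theorem f262535 : Led Lsl_af (LP (LK LD1_c4 LD2_c2 LD3_c28)) = (LP (LK LD1_c4 LD2_c2 LD3_c38)) :=
  Lgr Lrot50 (Lpr_et (K13.f46991 IH) (Lpr_at (f262529 IH) (Lpr_et (K13.f229064 IH) (Lpn (LP (LK LD1_c4 LD2_c2 LD3_c38))))))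
theorem f243060 : Led Lsl_ft (LP (LK LD1_c4 LD2_c2 LD3_c28)) = (LP (LK LD1_c8 LD2_c5 LD3_c31)) :=
  Lre_f IH (LK LD1_c4 LD2_c2 LD3_c28) (LK LD1_c8 LD2_c5 LD3_c31) Lrfl Lrfl
theorem f262543 : Led Lsl_at (LP (LK LD1_c8 LD2_c5 LD3_c31)) = (LP (LK LD1_c8 LD2_c5 LD3_c53)) :=
  Lgr Lrot66 (Lpe (f243060 IH) (Lpr_af (f262535 IH) (Lpe (K13.f229069 IH) (Lpn (LP (LK LD1_c8 LD2_c5 LD3_c53))))))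
theorem f243056 : Led Lsl_ft (LP (LK LD1_c8 LD2_c5 LD3_c31)) = (LP (LK LD1_c4 LD2_c2 LD3_c28)) :=
  Lre_f IH (LK LD1_c8 LD2_c5 LD3_c31) (LK LD1_c4 LD2_c2 LD3_c28) Lrfl Lrfl
theorem f243057 : Led Lsl_ft (LP (LK LD1_c2 LD2_c8 LD3_c17)) = (LP (LK LD1_c4 LD2_c21 LD3_c37)) :=
  Lre_f IH (LK LD1_c2 LD2_c8 LD3_c17) (LK LD1_c4 LD2_c21 LD3_c37) Lrfl Lrfl
theorem f243058 : Led Lsl_df (LP (LK LD1_c8 LD2_c5 LD3_c31)) = (LP (LK LD1_c4 LD2_c21 LD3_c37)) :=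
  Lgr Lrot78 (Lpr_ft (f243056 IH) (Lpr_dt (K13.f243048 IH) (Lpr_ft (f243057 IH) (Lpn (LP (LK LD1_c4 LD2_c21 LD3_c37))))))
theorem f229670 : Led Lsl_bt (LP (LK LD1_c7 LD2_c55 LD3_c37)) = (LP (LK LD1_c14 LD2_c57 LD3_c7)) :=
  Lre_b IH (LK LD1_c7 LD2_c55 LD3_c37) (LK LD1_c14 LD2_c57 LD3_c7) Lrfl Lrfl
theorem f229671 : Led Lsl_dt (LP (LK LD1_c8 LD2_c5 LD3_c53)) = (LP (LK LD1_c7 LD2_c55 LD3_c37)) :=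
  Lgr Lrot79 (Lpr_bf (K13.f229071 IH) (Lpr_df (K13.f229665 IH) (Lpe (f229670 IH) (Lpn (LP (LK LD1_c7 LD2_c55 LD3_c37))))))
theorem f262551 : Led Lsl_af (LP (LK LD1_c4 LD2_c21 LD3_c37)) = (LP (LK LD1_c7 LD2_c55 LD3_c37)) :=
  Lgr Lrot117 (Lpe (f243058 IH) (Lpr_at (f262543 IH) (Lpr_dt (f229671 IH) (Lpn (LP (LK LD1_c7 LD2_c55 LD3_c37))))))
theorem f229679 : Led Lsl_ct (LP (LK LD1_c14 LD2_c57 LD3_c12)) = (LP (LK LD1_c7 LD2_c55 LD3_c37)) :=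
  Lre_c IH (LK LD1_c14 LD2_c57 LD3_c12) (LK LD1_c7 LD2_c55 LD3_c37) Lrfl Lrfl
theorem f262560 : Led Lsl_at (LP (LK LD1_c8 LD2_c40 LD3_c46)) = (LP (LK LD1_c14 LD2_c57 LD3_c12)) :=
  Lgr Lrot107 (Lpe (K13.f243100 IH) (Lpr_af (f262551 IH) (Lpe (f229679 IH) (Lpn (LP (LK LD1_c14 LD2_c57 LD3_c12))))))
theorem f262566 : Led Lsl_ft (LP (LK LD1_c4 LD2_c21 LD3_c34)) = (LP (LK LD1_c8 LD2_c40 LD3_c46)) :=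
  Lre_f IH (LK LD1_c4 LD2_c21 LD3_c34) (LK LD1_c8 LD2_c40 LD3_c46) Lrfl Lrfl
theorem f262567 : Led Lsl_ft (LP (LK LD1_c14 LD2_c57 LD3_c12)) = (LP (LK LD1_c7 LD2_c55 LD3_c34)) :=
  Lre_f IH (LK LD1_c14 LD2_c57 LD3_c12) (LK LD1_c7 LD2_c55 LD3_c34) Lrfl Lrfl
theorem f262568 : Led Lsl_af (LP (LK LD1_c4 LD2_c21 LD3_c34)) = (LP (LK LD1_c7 LD2_c55 LD3_c34)) :=
  Lgr Lrot45 (Lpr_ft (f262566 IH) (Lpr_at (f262560 IH) (Lpr_ft (f262567 IH) (Lpn (LP (LK LD1_c7 LD2_c55 LD3_c34))))))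
theorem f238927 : Led Lsl_et (LP (LK LD1_c4 LD2_c21 LD3_c34)) = (LP (LK LD1_c2 LD2_c8 LD3_c16)) :=
  Lre_e IH (LK LD1_c4 LD2_c21 LD3_c34) (LK LD1_c2 LD2_c8 LD3_c16) Lrfl Lrfl
theorem f229465 : Led Lsl_et (LP (LK LD1_c3 LD2_c56 LD3_c59)) = (LP (LK LD1_c7 LD2_c55 LD3_c34)) :=
  Lre_e IH (LK LD1_c3 LD2_c56 LD3_c59) (LK LD1_c7 LD2_c55 LD3_c34) Lrfl Lrfl
theorem f262573 : Led Lsl_at (LP (LK LD1_c2 LD2_c8 LD3_c16)) = (LP (LK LD1_c3 LD2_c56 LD3_c59)) :=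
  Lgr Lrot80 (Lpe (f238927 IH) (Lpr_af (f262568 IH) (Lpe (f229465 IH) (Lpn (LP (LK LD1_c3 LD2_c56 LD3_c59))))))
theorem f262585 : Led Lsl_ff (LP (LK LD1_c2 LD2_c8 LD3_c16)) = (LP (LK LD1_c3 LD2_c57 LD3_c0)) :=
  Lgr Lrot52 (Lpr_at (f262573 IH) (Lpr_gf (K14.f232266 IH) (Lpe (f236230 IH) (Lpn (LP (LK LD1_c3 LD2_c57 LD3_c0))))))
theorem f262595 : Led Lsl_ft (LP (LK LD1_c2 LD2_c8 LD3_c16)) = (LP (LK LD1_c3 LD2_c57 LD3_c0)) :=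
  Lgr Lrot48 (Lpr_ff (f262585 IH) (Lpn (LP (LK LD1_c3 LD2_c57 LD3_c0))))
theorem f262605 : Led Lsl_af (LP (LK LD1_c2 LD2_c8 LD3_c22)) = (LP (LK LD1_c3 LD2_c57 LD3_c0)) :=
  Lgr Lrot31 (Lpr_gf (K12.f196962 IH) (Lpr_gf (K13.f238917 IH) (Lpr_ft (f262595 IH) (Lpn (LP (LK LD1_c3 LD2_c57 LD3_c0))))))
theorem f262578 : Led Lsl_af (LP (LK LD1_c2 LD2_c8 LD3_c16)) = (LP (LK LD1_c3 LD2_c56 LD3_c59)) :=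
  Lgr Lrot0 (Lpr_at (f262573 IH) (Lpn (LP (LK LD1_c3 LD2_c56 LD3_c59))))
theorem f262614 : Led Lsl_ft (LP (LK LD1_c2 LD2_c8 LD3_c22)) = (LP (LK LD1_c3 LD2_c56 LD3_c59)) :=
  Lgr Lrot101 (Lpr_af (f262605 IH) (Lpe (f262595 IH) (Lpr_af (f262578 IH) (Lpn (LP (LK LD1_c3 LD2_c56 LD3_c59))))))
theorem f262623 : Led Lsl_ff (LP (LK LD1_c2 LD2_c8 LD3_c22)) = (LP (LK LD1_c3 LD2_c56 LD3_c59)) :=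
  Lgr Lrot3 (Lpr_ft (f262614 IH) (Lpn (LP (LK LD1_c3 LD2_c56 LD3_c59))))
theorem f216607 : Led Lsl_et (LP (LK LD1_c2 LD2_c8 LD3_c22)) = (LP (LK LD1_c4 LD2_c21 LD3_c43)) :=
  Lre_e IH (LK LD1_c2 LD2_c8 LD3_c22) (LK LD1_c4 LD2_c21 LD3_c43) Lrfl Lrfl
theorem f262629 : Led Lsl_ft (LP (LK LD1_c4 LD2_c21 LD3_c43)) = (LP (LK LD1_c8 LD2_c41 LD3_c3)) :=
  Lre_f IH (LK LD1_c4 LD2_c21 LD3_c43) (LK LD1_c8 LD2_c41 LD3_c3) Lrfl Lrfl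
theorem f229474 : Led Lsl_et (LP (LK LD1_c7 LD2_c55 LD3_c34)) = (LP (LK LD1_c3 LD2_c56 LD3_c59)) :=
  Lre_e IH (LK LD1_c7 LD2_c55 LD3_c34) (LK LD1_c3 LD2_c56 LD3_c59) Lrfl Lrfl
theorem f262630 : Led Lsl_et (LP (LK LD1_c8 LD2_c41 LD3_c3)) = (LP (LK LD1_c14 LD2_c57 LD3_c12)) :=
  Lgr Lrot69 (Lpe (f262629 IH) (Lpe (f216607 IH) (Lpr_ff (f262623 IH) (Lpe (f229474 IH) (Lpe (f262567 IH) (Lpn (LP (LK LD1_c14 LD2_c57 LD3_c12))))))))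
theorem f262633 : Led Lsl_ef (LP (LK LD1_c4 LD2_c21 LD3_c46)) = (LP (LK LD1_c7 LD2_c55 LD3_c37)) :=
  Lgr Lrot28 (Lpr_ct (f28891 IH) (Lpr_et (f262630 IH) (Lpr_ct (f229679 IH) (Lpn (LP (LK LD1_c7 LD2_c55 LD3_c37))))))
theorem f262641 : Led Lsl_et (LP (LK LD1_c4 LD2_c21 LD3_c46)) = (LP (LK LD1_c7 LD2_c55 LD3_c37)) :=
  Lgr Lrot87 (Lpr_ef (f262633 IH) (Lpn (LP (LK LD1_c7 LD2_c55 LD3_c37))))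
theorem f262643 : Led Lsl_ef (LP (LK LD1_c8 LD2_c40 LD3_c56)) = (LP (LK LD1_c14 LD2_c57 LD3_c7)) :=
  Lgr Lrot29 (Lpr_bt (K13.f28877 IH) (Lpr_et (f262641 IH) (Lpr_bt (f229670 IH) (Lpn (LP (LK LD1_c14 LD2_c57 LD3_c7))))))
theorem f229644 : Led Lsl_et (LP (LK LD1_c3 LD2_c56 LD3_c56)) = (LP (LK LD1_c7 LD2_c55 LD3_c31)) :=
  Lre_e IH (LK LD1_c3 LD2_c56 LD3_c56) (LK LD1_c7 LD2_c55 LD3_c31) Lrfl Lrfl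
theorem f262645 : Led Lsl_ft (LP (LK LD1_c2 LD2_c8 LD3_c20)) = (LP (LK LD1_c3 LD2_c56 LD3_c56)) :=
  Lgr Lrot86 (Lpe (K13.f196620 IH) (Lpe (K13.f196653 IH) (Lpr_ef (f262643 IH) (Lpe (K13.f229664 IH) (Lpe (f229644 IH) (Lpn (LP (LK LD1_c3 LD2_c56 LD3_c56))))))))
theorem f262648 : Led Lsl_af (LP (LK LD1_c4 LD2_c15 LD3_c19)) = (LP (LK LD1_c3 LD2_c56 LD3_c56)) :=
  Lgr Lrot45 (Lpe (K14.f251049 IH) (Lpe (K13.f246349 IH) (Lpr_ft (f262645 IH) (Lpn (LP (LK LD1_c3 LD2_c56 LD3_c56))))))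
theorem f262658 : Led Lsl_ct (LP (LK LD1_c8 LD2_c43 LD3_c11)) = (LP (LK LD1_c15 LD2_c27 LD3_c20)) :=
  Lgr Lrot53 (Lpe (f211429 IH) (Lpe (K14.f211428 IH) (Lpe (K14.f200550 IH) (Lpe (K12.f211415 IH) (Lpe (K13.f187074 IH) (Lpr_ft (f262645 IH) (Lpe (f262648 IH) (Lpr_cf (K14.f213864 IH) (Lpe (K14.f232315 IH) (Lpn (LP (LK LD1_c15 LD2_c27 LD3_c20))))))))))))
theorem f167085 : Led Lsl_gt (LP (LK LD1_c4 LD2_c10 LD3_c45)) = (LP (LK LD1_c2 LD2_c2 LD3_c38)) :=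
  Lre_g IH (LK LD1_c4 LD2_c10 LD3_c45) (LK LD1_c2 LD2_c2 LD3_c38) Lrfl Lrfl
theorem f167086 : Led Lsl_bt (LP (LK LD1_c4 LD2_c12 LD3_c18)) = (LP (LK LD1_c2 LD2_c3 LD3_c23)) :=
  Lre_b IH (LK LD1_c4 LD2_c12 LD3_c18) (LK LD1_c2 LD2_c3 LD3_c23) Lrfl Lrfl
theorem f167087 : Led Lsl_cf (LP (LK LD1_c4 LD2_c10 LD3_c45)) = (LP (LK LD1_c4 LD2_c12 LD3_c18)) :=
  Lgr Lrot160 (Lpr_gt (f167085 IH) (Lpe (K14.f167084 IH) (Lpr_bt (K14.f167083 IH) (Lpe (K9.f167080 IH) (Lpr_ct (K9.f53441 IH) (Lpr_gt (K9.f167076 IH) (Lpe (K9.f166992 IH) (Lpr_bt (K12.f167073 IH) (Lpr_gt (K12.f166569 IH) (Lpe (f167086 IH) (Lpn (LP (LK LD1_c4 LD2_c12 LD3_c18)))))))))))))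
theorem f167100 : Led Lsl_ct (LP (LK LD1_c4 LD2_c10 LD3_c45)) = (LP (LK LD1_c4 LD2_c12 LD3_c18)) :=
  Lgr Lrot59 (Lpr_cf (f167087 IH) (Lpn (LP (LK LD1_c4 LD2_c12 LD3_c18))))
theorem f167107 : Led Lsl_dt (LP (LK LD1_c2 LD2_c2 LD3_c38)) = (LP (LK LD1_c4 LD2_c10 LD3_c47)) :=
  Lre_d IH (LK LD1_c2 LD2_c2 LD3_c38) (LK LD1_c4 LD2_c10 LD3_c47) Lrfl Lrfl
theorem f167108 : Led Lsl_gt (LP (LK LD1_c4 LD2_c10 LD3_c47)) = (LP (LK LD1_c8 LD2_c21 LD3_c28)) :=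
  Lre_g IH (LK LD1_c4 LD2_c10 LD3_c47) (LK LD1_c8 LD2_c21 LD3_c28) Lrfl Lrfl
theorem f246767 : Led Lsl_df (LP (LK LD1_c4 LD2_c11 LD3_c26)) = (LP (LK LD1_c8 LD2_c21 LD3_c28)) :=
  Lgr Lrot84 (Lpe (K11.f191974 IH) (Lpe (K10.f8087 IH) (Lpr_gf (K12.f211422 IH) (Lpe (K12.f200526 IH) (Lpr_gf (K14.f246765 IH) (Lpe (f167100 IH) (Lpr_gt (f167085 IH) (Lpr_dt (f167107 IH) (Lpr_gt (f167108 IH) (Lpn (LP (LK LD1_c8 LD2_c21 LD3_c28))))))))))))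
theorem f262662 : Led Lsl_cf (LP (LK LD1_c8 LD2_c21 LD3_c28)) = (LP (LK LD1_c8 LD2_c25 LD3_c8)) :=
  Lgr Lrot175 (Lpe (f246767 IH) (Lpe (K11.f191974 IH) (Lpe (K14.f219534 IH) (Lpe (K14.f6933 IH) (Lpe (K14.f232843 IH) (Lpr_dt (f232218 IH) (Lpr_gt (f258411 IH) (Lpr_ct (f262658 IH) (Lpe (K14.f222869 IH) (Lpn (LP (LK LD1_c8 LD2_c25 LD3_c8))))))))))))
theorem f232233 : Led Lsl_dt (LP (LK LD1_c8 LD2_c32 LD3_c42)) = (LP (LK LD1_c4 LD2_c16 LD3_c42)) :=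
  Lre_d IH (LK LD1_c8 LD2_c32 LD3_c42) (LK LD1_c4 LD2_c16 LD3_c42) Lrfl Lrfl
theorem f262672 : Led Lsl_df (LP (LK LD1_c8 LD2_c21 LD3_c28)) = (LP (LK LD1_c4 LD2_c11 LD3_c26)) :=
  Lgr Lrot162 (Lpr_cf (f262662 IH) (Lpr_gf (K14.f222869 IH) (Lpe (f262658 IH) (Lpe (f258411 IH) (Lpr_dt (f232233 IH) (Lpr_gt (K14.f232843 IH) (Lpr_ct (K14.f6933 IH) (Lpr_gt (K14.f219534 IH) (Lpr_ct (K11.f191974 IH) (Lpn (LP (LK LD1_c4 LD2_c11 LD3_c26))))))))))))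
theorem f262678 : Led Lsl_gt (LP (LK LD1_c8 LD2_c21 LD3_c28)) = (LP (LK LD1_c8 LD2_c25 LD3_c35)) :=
  Lgr Lrot49 (Lpr_df (f262672 IH) (Lpe (K11.f53366 IH) (Lpe (K11.f53365 IH) (Lpe (K11.f200129 IH) (Lpr_dt (K1.f29015 IH) (Lpr_gt (f255866 IH) (Lpr_dt (K12.f230315 IH) (Lpe (K14.f230319 IH) (Lpr_df (K14.f251962 IH) (Lpn (LP (LK LD1_c8 LD2_c25 LD3_c35))))))))))))
theorem f228921 : Led Lsl_ct (LP (LK LD1_c8 LD2_c25 LD3_c35)) = (LP (LK LD1_c4 LD2_c13 LD3_c9)) :=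
  Lre_c IH (LK LD1_c8 LD2_c25 LD3_c35) (LK LD1_c4 LD2_c13 LD3_c9) Lrfl Lrfl
theorem f220088 : Led Lsl_ct (LP (LK LD1_c4 LD2_c13 LD3_c4)) = (LP (LK LD1_c2 LD2_c3 LD3_c49)) :=
  Lre_c IH (LK LD1_c4 LD2_c13 LD3_c4) (LK LD1_c2 LD2_c3 LD3_c49) Lrfl Lrfl
theorem f262681 : Led Lsl_gt (LP (LK LD1_c8 LD2_c25 LD3_c14)) = (LP (LK LD1_c4 LD2_c13 LD3_c4)) :=
  Lgr Lrot9 (Lpe (K14.f232315 IH) (Lpe (K14.f222869 IH) (Lpe (f262662 IH) (Lpr_gt (f262678 IH) (Lpr_ct (f228921 IH) (Lpe (K14.f184314 IH) (Lpe (K14.f178314 IH) (Lpe (K14.f178351 IH) (Lpe (f220088 IH) (Lpn (LP (LK LD1_c4 LD2_c13 LD3_c4))))))))))))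
theorem f179690 : Led Lsl_ct (LP (LK LD1_c4 LD2_c15 LD3_c54)) = (LP (LK LD1_c2 LD2_c5 LD3_c18)) :=
  Lre_c IH (LK LD1_c4 LD2_c15 LD3_c54) (LK LD1_c2 LD2_c5 LD3_c18) Lrfl Lrfl
theorem f251064 : Led Lsl_ff (LP (LK LD1_c4 LD2_c15 LD3_c54)) = (LP (LK LD1_c8 LD2_c25 LD3_c14)) :=
  Lgr Lrot23 (Lpr_ct (f179690 IH) (Lpr_ft (K14.f251060 IH) (Lpr_ct (K14.f213852 IH) (Lpn (LP (LK LD1_c8 LD2_c25 LD3_c14))))))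
theorem f262686 : Led Lsl_at (LP (LK LD1_c4 LD2_c15 LD3_c54)) = (LP (LK LD1_c4 LD2_c21 LD3_c39)) :=
  Lgr Lrot26 (Lpr_ff (f251064 IH) (Lpr_gt (f262681 IH) (Lpr_gt (K14.f246682 IH) (Lpn (LP (LK LD1_c4 LD2_c21 LD3_c39))))))
theorem f179693 : Led Lsl_bt (LP (LK LD1_c8 LD2_c30 LD3_c48)) = (LP (LK LD1_c4 LD2_c15 LD3_c54)) :=
  Lre_b IH (LK LD1_c8 LD2_c30 LD3_c48) (LK LD1_c4 LD2_c15 LD3_c54) Lrfl Lrfl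
theorem f262696 : Led Lsl_at (LP (LK LD1_c15 LD2_c59 LD3_c2)) = (LP (LK LD1_c8 LD2_c30 LD3_c48)) :=
  Lre_a IH (LK LD1_c15 LD2_c59 LD3_c2) (LK LD1_c8 LD2_c30 LD3_c48) Lrfl Lrfl
theorem f232261 : Led Lsl_bt (LP (LK LD1_c4 LD2_c21 LD3_c39)) = (LP (LK LD1_c8 LD2_c40 LD3_c53)) :=
  Lre_b IH (LK LD1_c4 LD2_c21 LD3_c39) (LK LD1_c8 LD2_c40 LD3_c53) Lrfl Lrfl
theorem f262697 : Led Lsl_at (LP (LK LD1_c8 LD2_c40 LD3_c53)) = (LP (LK LD1_c16 LD2_c15 LD3_c26)) :=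
  Lre_a IH (LK LD1_c8 LD2_c40 LD3_c53) (LK LD1_c16 LD2_c15 LD3_c26) Lrfl Lrfl
theorem f262698 : Led Lsl_bf (LP (LK LD1_c15 LD2_c59 LD3_c2)) = (LP (LK LD1_c16 LD2_c15 LD3_c26)) :=
  Lgr Lrot81 (Lpr_at (f262696 IH) (Lpr_bt (f179693 IH) (Lpr_at (f262686 IH) (Lpr_bt (f232261 IH) (Lpr_at (f262697 IH) (Lpn (LP (LK LD1_c16 LD2_c15 LD3_c26))))))))
theorem f262726 : Led Lsl_bt (LP (LK LD1_c15 LD2_c59 LD3_c2)) = (LP (LK LD1_c16 LD2_c15 LD3_c26)) :=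
  Lgr Lrot127 (Lpr_bf (f262698 IH) (Lpn (LP (LK LD1_c16 LD2_c15 LD3_c26))))
theorem f262736 : Led Lsl_ct (LP (LK LD1_c8 LD2_c30 LD3_c60)) = (LP (LK LD1_c15 LD2_c59 LD3_c2)) :=
  Lre_c IH (LK LD1_c8 LD2_c30 LD3_c60) (LK LD1_c15 LD2_c59 LD3_c2) Lrfl Lrfl
theorem f262732 : Led Lsl_ct (LP (LK LD1_c16 LD2_c15 LD3_c26)) = (LP (LK LD1_c8 LD2_c40 LD3_c59)) :=
  Lre_c IH (LK LD1_c16 LD2_c15 LD3_c26) (LK LD1_c8 LD2_c40 LD3_c59) Lrfl Lrfl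
theorem f43118 : Led Lsl_bt (LP (LK LD1_c2 LD2_c8 LD3_c22)) = (LP (LK LD1_c4 LD2_c21 LD3_c41)) :=
  Lre_b IH (LK LD1_c2 LD2_c8 LD3_c22) (LK LD1_c4 LD2_c21 LD3_c41) Lrfl Lrfl
theorem f262609 : Led Lsl_at (LP (LK LD1_c4 LD2_c21 LD3_c41)) = (LP (LK LD1_c8 LD2_c40 LD3_c59)) :=
  Lre_a IH (LK LD1_c4 LD2_c21 LD3_c41) (LK LD1_c8 LD2_c40 LD3_c59) Lrfl Lrfl
theorem f197688 : Led Lsl_bt (LP (LK LD1_c7 LD2_c55 LD3_c38)) = (LP (LK LD1_c3 LD2_c57 LD3_c0)) :=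
  Lre_b IH (LK LD1_c7 LD2_c55 LD3_c38) (LK LD1_c3 LD2_c57 LD3_c0) Lrfl Lrfl
theorem f197690 : Led Lsl_at (LP (LK LD1_c14 LD2_c57 LD3_c19)) = (LP (LK LD1_c7 LD2_c55 LD3_c38)) :=
  Lre_a IH (LK LD1_c14 LD2_c57 LD3_c19) (LK LD1_c7 LD2_c55 LD3_c38) Lrfl Lrfl
theorem f262610 : Led Lsl_bt (LP (LK LD1_c8 LD2_c40 LD3_c59)) = (LP (LK LD1_c14 LD2_c57 LD3_c19)) :=
  Lgr Lrot62 (Lpe (f262609 IH) (Lpe (f43118 IH) (Lpr_af (f262605 IH) (Lpe (f197688 IH) (Lpe (f197690 IH) (Lpn (LP (LK LD1_c14 LD2_c57 LD3_c19))))))))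
theorem f197640 : Led Lsl_ct (LP (LK LD1_c7 LD2_c55 LD3_c39)) = (LP (LK LD1_c3 LD2_c57 LD3_c1)) :=
  Lre_c IH (LK LD1_c7 LD2_c55 LD3_c39) (LK LD1_c3 LD2_c57 LD3_c1) Lrfl Lrfl
theorem f197641 : Led Lsl_bt (LP (LK LD1_c14 LD2_c57 LD3_c20)) = (LP (LK LD1_c7 LD2_c55 LD3_c39)) :=
  Lre_b IH (LK LD1_c14 LD2_c57 LD3_c20) (LK LD1_c7 LD2_c55 LD3_c39) Lrfl Lrfl
theorem f197597 : Led Lsl_ct (LP (LK LD1_c4 LD2_c15 LD3_c25)) = (LP (LK LD1_c8 LD2_c29 LD3_c43)) :=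
  Lre_c IH (LK LD1_c4 LD2_c15 LD3_c25) (LK LD1_c8 LD2_c29 LD3_c43) Lrfl Lrfl
theorem f197612 : Led Lsl_bt (LP (LK LD1_c8 LD2_c29 LD3_c43)) = (LP (LK LD1_c15 LD2_c57 LD3_c0)) :=
  Lre_b IH (LK LD1_c8 LD2_c29 LD3_c43) (LK LD1_c15 LD2_c57 LD3_c0) Lrfl Lrfl
theorem f197642 : Led Lsl_cf (LP (LK LD1_c14 LD2_c57 LD3_c20)) = (LP (LK LD1_c15 LD2_c57 LD3_c0)) :=
  Lgr Lrot97 (Lpr_bt (f197641 IH) (Lpr_ct (f197640 IH) (Lpr_bt (K13.f197636 IH) (Lpr_ct (f197597 IH) (Lpr_bt (f197612 IH) (Lpn (LP (LK LD1_c15 LD2_c57 LD3_c0))))))))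
theorem f197662 : Led Lsl_ct (LP (LK LD1_c14 LD2_c57 LD3_c20)) = (LP (LK LD1_c15 LD2_c57 LD3_c0)) :=
  Lgr Lrot59 (Lpr_cf (f197642 IH) (Lpn (LP (LK LD1_c15 LD2_c57 LD3_c0))))
theorem f197679 : Led Lsl_et (LP (LK LD1_c7 LD2_c55 LD3_c38)) = (LP (LK LD1_c14 LD2_c57 LD3_c20)) :=
  Lre_e IH (LK LD1_c7 LD2_c55 LD3_c38) (LK LD1_c14 LD2_c57 LD3_c20) Lrfl Lrfl
theorem f197680 : Led Lsl_et (LP (LK LD1_c15 LD2_c57 LD3_c0)) = (LP (LK LD1_c8 LD2_c29 LD3_c41)) :=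
  Lre_e IH (LK LD1_c15 LD2_c57 LD3_c0) (LK LD1_c8 LD2_c29 LD3_c41) Lrfl Lrfl
theorem f197681 : Led Lsl_cf (LP (LK LD1_c7 LD2_c55 LD3_c38)) = (LP (LK LD1_c8 LD2_c29 LD3_c41)) :=
  Lgr Lrot39 (Lpr_et (f197679 IH) (Lpr_ct (f197662 IH) (Lpr_et (f197680 IH) (Lpn (LP (LK LD1_c8 LD2_c29 LD3_c41))))))
theorem f197684 : Led Lsl_at (LP (LK LD1_c7 LD2_c55 LD3_c38)) = (LP (LK LD1_c14 LD2_c57 LD3_c19)) :=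
  Lre_a IH (LK LD1_c7 LD2_c55 LD3_c38) (LK LD1_c14 LD2_c57 LD3_c19) Lrfl Lrfl
theorem f197685 : Led Lsl_at (LP (LK LD1_c15 LD2_c56 LD3_c60)) = (LP (LK LD1_c8 LD2_c29 LD3_c41)) :=
  Lre_a IH (LK LD1_c15 LD2_c56 LD3_c60) (LK LD1_c8 LD2_c29 LD3_c41) Lrfl Lrfl
theorem f197686 : Led Lsl_ct (LP (LK LD1_c14 LD2_c57 LD3_c19)) = (LP (LK LD1_c15 LD2_c56 LD3_c60)) :=
  Lgr Lrot111 (Lpe (f197684 IH) (Lpr_cf (f197681 IH) (Lpe (f197685 IH) (Lpn (LP (LK LD1_c15 LD2_c56 LD3_c60))))))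
theorem f262737 : Led Lsl_bf (LP (LK LD1_c8 LD2_c30 LD3_c60)) = (LP (LK LD1_c15 LD2_c56 LD3_c60)) :=
  Lgr Lrot90 (Lpr_ct (f262736 IH) (Lpr_bt (f262726 IH) (Lpr_ct (f262732 IH) (Lpr_bt (f262610 IH) (Lpr_ct (f197686 IH) (Lpn (LP (LK LD1_c15 LD2_c56 LD3_c60))))))))
theorem f262749 : Led Lsl_et (LP (LK LD1_c8 LD2_c30 LD3_c60)) = (LP (LK LD1_c15 LD2_c59 LD3_c18)) :=
  Lre_e IH (LK LD1_c8 LD2_c30 LD3_c60) (LK LD1_c15 LD2_c59 LD3_c18) Lrfl Lrfl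
theorem f197705 : Led Lsl_et (LP (LK LD1_c25 LD2_c53 LD3_c29)) = (LP (LK LD1_c15 LD2_c56 LD3_c60)) :=
  Lre_e IH (LK LD1_c25 LD2_c53 LD3_c29) (LK LD1_c15 LD2_c56 LD3_c60) Lrfl Lrfl
theorem f262750 : Led Lsl_bt (LP (LK LD1_c15 LD2_c59 LD3_c18)) = (LP (LK LD1_c25 LD2_c53 LD3_c29)) :=
  Lgr Lrot119 (Lpe (f262749 IH) (Lpr_bf (f262737 IH) (Lpe (f197705 IH) (Lpn (LP (LK LD1_c25 LD2_c53 LD3_c29))))))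
theorem f262754 : Led Lsl_bf (LP (LK LD1_c15 LD2_c59 LD3_c18)) = (LP (LK LD1_c25 LD2_c53 LD3_c29)) :=
  Lgr Lrot24 (Lpr_bt (f262750 IH) (Lpn (LP (LK LD1_c25 LD2_c53 LD3_c29))))
theorem f262757 : Led Lsl_at (LP (LK LD1_c15 LD2_c59 LD3_c18)) = (LP (LK LD1_c8 LD2_c31 LD3_c0)) :=
  Lre_a IH (LK LD1_c15 LD2_c59 LD3_c18) (LK LD1_c8 LD2_c31 LD3_c0) Lrfl Lrfl
theorem f262758 : Led Lsl_bt (LP (LK LD1_c8 LD2_c31 LD3_c0)) = (LP (LK LD1_c4 LD2_c15 LD3_c61)) :=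
  Lre_b IH (LK LD1_c8 LD2_c31 LD3_c0) (LK LD1_c4 LD2_c15 LD3_c61) Lrfl Lrfl
theorem f197675 : Led Lsl_at (LP (LK LD1_c15 LD2_c57 LD3_c0)) = (LP (LK LD1_c25 LD2_c53 LD3_c29)) :=
  Lre_a IH (LK LD1_c15 LD2_c57 LD3_c0) (LK LD1_c25 LD2_c53 LD3_c29) Lrfl Lrfl
theorem f262759 : Led Lsl_at (LP (LK LD1_c4 LD2_c15 LD3_c61)) = (LP (LK LD1_c8 LD2_c29 LD3_c43)) :=
  Lgr Lrot67 (Lpe (f262758 IH) (Lpe (f262757 IH) (Lpr_bf (f262754 IH) (Lpe (f197675 IH) (Lpe (f197612 IH) (Lpn (LP (LK LD1_c8 LD2_c29 LD3_c43))))))))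
theorem f190854 : Led Lsl_et (LP (LK LD1_c8 LD2_c29 LD3_c43)) = (LP (LK LD1_c4 LD2_c15 LD3_c24)) :=
  Lre_e IH (LK LD1_c8 LD2_c29 LD3_c43) (LK LD1_c4 LD2_c15 LD3_c24) Lrfl Lrfl
theorem f262763 : Led Lsl_af (LP (LK LD1_c2 LD2_c5 LD3_c22)) = (LP (LK LD1_c4 LD2_c15 LD3_c24)) :=
  Lgr Lrot50 (Lpr_et (K14.f251080 IH) (Lpr_at (f262759 IH) (Lpr_et (f190854 IH) (Lpn (LP (LK LD1_c4 LD2_c15 LD3_c24))))))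
theorem f262770 : Led Lsl_ft (LP (LK LD1_c2 LD2_c5 LD3_c12)) = (LP (LK LD1_c4 LD2_c15 LD3_c24)) :=
  Lgr Lrot101 (Lpr_af (K14.f251101 IH) (Lpe (K14.f251089 IH) (Lpr_af (f262763 IH) (Lpn (LP (LK LD1_c4 LD2_c15 LD3_c24))))))
theorem f262784 : Led Lsl_ff (LP (LK LD1_c2 LD2_c5 LD3_c12)) = (LP (LK LD1_c4 LD2_c15 LD3_c24)) :=
  Lgr Lrot3 (Lpr_ft (f262770 IH) (Lpn (LP (LK LD1_c4 LD2_c15 LD3_c24))))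
theorem f251103 : Led Lsl_at (LP (LK LD1_c2 LD2_c5 LD3_c12)) = (LP (LK LD1_c4 LD2_c15 LD3_c22)) :=
  Lgr Lrot100 (Lpr_af (K14.f251101 IH) (Lpn (LP (LK LD1_c4 LD2_c15 LD3_c22))))
theorem f51418 : Led Lsl_ct (LP (LK LD1_c2 LD2_c5 LD3_c2)) = (LP (LK LD1_c4 LD2_c15 LD3_c22)) :=
  Lre_c IH (LK LD1_c2 LD2_c5 LD3_c2) (LK LD1_c4 LD2_c15 LD3_c22) Lrfl Lrfl
theorem f187234 : Led Lsl_dt (LP (LK LD1_c4 LD2_c15 LD3_c24)) = (LP (LK LD1_c8 LD2_c29 LD3_c42)) :=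
  Lre_d IH (LK LD1_c4 LD2_c15 LD3_c24) (LK LD1_c8 LD2_c29 LD3_c42) Lrfl Lrfl
theorem f245035 : Led Lsl_cf (LP (LK LD1_c5 LD2_c27 LD3_c31)) = (LP (LK LD1_c8 LD2_c29 LD3_c42)) :=
  Lgr Lrot11 (Lpr_ct (K13.f245030 IH) (Lpn (LP (LK LD1_c8 LD2_c29 LD3_c42))))
theorem f244812 : Led Lsl_dt (LP (LK LD1_c5 LD2_c27 LD3_c31)) = (LP (LK LD1_c2 LD2_c40 LD3_c7)) :=
  Lre_d IH (LK LD1_c5 LD2_c27 LD3_c31) (LK LD1_c2 LD2_c40 LD3_c7) Lrfl Lrfl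
theorem f243625 : Led Lsl_ct (LP (LK LD1_c2 LD2_c40 LD3_c7)) = (LP (LK LD1_c1 LD2_c16 LD3_c49)) :=
  Lre_c IH (LK LD1_c2 LD2_c40 LD3_c7) (LK LD1_c1 LD2_c16 LD3_c49) Lrfl Lrfl
theorem f244842 : Led Lsl_dt (LP (LK LD1_c1 LD2_c16 LD3_c49)) = (LP (LK LD1_c0 LD2_c35 LD3_c33)) :=
  Lre_d IH (LK LD1_c1 LD2_c16 LD3_c49) (LK LD1_c0 LD2_c35 LD3_c33) Lrfl Lrfl
theorem f262795 : Led Lsl_cf (LP (LK LD1_c0 LD2_c59 LD3_c36)) = (LP (LK LD1_c0 LD2_c35 LD3_c33)) :=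
  Lgr Lrot161 (Lpr_dt (K14.f789 IH) (Lpr_ct (f51418 IH) (Lpe (f251103 IH) (Lpr_ff (f262784 IH) (Lpr_dt (f187234 IH) (Lpe (f245035 IH) (Lpr_dt (f244812 IH) (Lpr_ct (f243625 IH) (Lpr_dt (f244842 IH) (Lpn (LP (LK LD1_c0 LD2_c35 LD3_c33))))))))))))
theorem f27479 : Led Lsl_bt (LP (LK LD1_c0 LD2_c59 LD3_c15)) = (LP (LK LD1_c0 LD2_c27 LD3_c2)) :=
  Lre_b IH (LK LD1_c0 LD2_c59 LD3_c15) (LK LD1_c0 LD2_c27 LD3_c2) Lrfl Lrfl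
theorem f262815 : Led Lsl_bf (LP (LK LD1_c0 LD2_c56 LD3_c3)) = (LP (LK LD1_c0 LD2_c35 LD3_c33)) :=
  Lgr Lrot34 (Lpe (K12.f51399 IH) (Lpe (K12.f50122 IH) (Lpr_ct (K9.f28919 IH) (Lpe (K10.f53078 IH) (Lpe (K11.f53081 IH) (Lpr_gf (K10.f193322 IH) (Lpe (f27479 IH) (Lpr_ct (K10.f27357 IH) (Lpe (K10.f27368 IH) (Lpr_cf (f262795 IH) (Lpn (LP (LK LD1_c0 LD2_c35 LD3_c33)))))))))))))
theorem f220600 : Led Lsl_at (LP (LK LD1_c0 LD2_c35 LD3_c43)) = (LP (LK LD1_c0 LD2_c15 LD3_c59)) :=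
  Lre_a IH (LK LD1_c0 LD2_c35 LD3_c43) (LK LD1_c0 LD2_c15 LD3_c59) Lrfl Lrfl
theorem f220601 : Led Lsl_ft (LP (LK LD1_c0 LD2_c56 LD3_c3)) = (LP (LK LD1_c0 LD2_c35 LD3_c43)) :=
  Lgr Lrot2 (Lpr_gt (K12.f220598 IH) (Lpr_gt (K12.f168196 IH) (Lpe (f220600 IH) (Lpn (LP (LK LD1_c0 LD2_c35 LD3_c43))))))
theorem f262821 : Led Lsl_bt (LP (LK LD1_c0 LD2_c35 LD3_c43)) = (LP (LK LD1_c0 LD2_c59 LD3_c43)) :=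
  Lgr Lrot35 (Lpe (f220601 IH) (Lpr_bf (f262815 IH) (Lpr_ff (K13.f243597 IH) (Lpn (LP (LK LD1_c0 LD2_c59 LD3_c43))))))
theorem f222642 : Led Lsl_ct (LP (LK LD1_c0 LD2_c35 LD3_c43)) = (LP (LK LD1_c1 LD2_c17 LD3_c11)) :=
  Lre_c IH (LK LD1_c0 LD2_c35 LD3_c43) (LK LD1_c1 LD2_c17 LD3_c11) Lrfl Lrfl
theorem f53950 : Led Lsl_cf (LP (LK LD1_c2 LD2_c0 LD3_c21)) = (LP (LK LD1_c1 LD2_c14 LD3_c8)) :=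
  Lgr Lrot11 (Lpr_ct (K10.f53829 IH) (Lpn (LP (LK LD1_c1 LD2_c14 LD3_c8))))
theorem f199607 : Led Lsl_bt (LP (LK LD1_c1 LD2_c55 LD3_c50)) = (LP (LK LD1_c0 LD2_c57 LD3_c52)) :=
  Lgr Lrot128 (Lpr_cf (K11.f199586 IH) (Lpe (K12.f167333 IH) (Lpe (K12.f167329 IH) (Lpe (K12.f167331 IH) (Lpe (K13.f167332 IH) (Lpn (LP (LK LD1_c0 LD2_c57 LD3_c52))))))))
theorem f262832 : Led Lsl_gf (LP (LK LD1_c1 LD2_c17 LD3_c11)) = (LP (LK LD1_c2 LD2_c3 LD3_c44)) :=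
  Lgr Lrot129 (Lpe (f222642 IH) (Lpr_bt (f262821 IH) (Lpe (K13.f243582 IH) (Lpe (K10.f33509 IH) (Lpe (f53950 IH) (Lpr_gt (K12.f211424 IH) (Lpe (K13.f199609 IH) (Lpr_bt (f199607 IH) (Lpr_gt (K12.f199615 IH) (Lpr_ct (K12.f199624 IH) (Lpn (LP (LK LD1_c2 LD2_c3 LD3_c44)))))))))))))
theorem f262847 : Led Lsl_et (LP (LK LD1_c2 LD2_c40 LD3_c58)) = (LP (LK LD1_c1 LD2_c17 LD3_c11)) :=
  Lre_e IH (LK LD1_c2 LD2_c40 LD3_c58) (LK LD1_c1 LD2_c17 LD3_c11) Lrfl Lrfl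
theorem f222190 : Led Lsl_et (LP (LK LD1_c2 LD2_c3 LD3_c44)) = (LP (LK LD1_c2 LD2_c3 LD3_c44)) :=
  Lgr Lrot74 (Lpe (K12.f222189 IH) (Lpr_ef (K12.f222153 IH) (Lpe (K12.f222148 IH) (Lpn (LP (LK LD1_c2 LD2_c3 LD3_c44))))))
theorem f222209 : Led Lsl_dt (LP (LK LD1_c2 LD2_c3 LD3_c44)) = (LP (LK LD1_c4 LD2_c12 LD3_c55)) :=
  Lre_d IH (LK LD1_c2 LD2_c3 LD3_c44) (LK LD1_c4 LD2_c12 LD3_c55) Lrfl Lrfl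
theorem f220520 : Led Lsl_et (LP (LK LD1_c0 LD2_c59 LD3_c13)) = (LP (LK LD1_c2 LD2_c4 LD3_c27)) :=
  Lre_e IH (LK LD1_c0 LD2_c59 LD3_c13) (LK LD1_c2 LD2_c4 LD3_c27) Lrfl Lrfl
theorem f172918 : Led Lsl_gt (LP (LK LD1_c1 LD2_c16 LD3_c53)) = (LP (LK LD1_c2 LD2_c40 LD3_c16)) :=
  Lre_g IH (LK LD1_c1 LD2_c16 LD3_c53) (LK LD1_c2 LD2_c40 LD3_c16) Lrfl Lrfl
theorem f245046 : Led Lsl_af (LP (LK LD1_c4 LD2_c15 LD3_c57)) = (LP (LK LD1_c2 LD2_c11 LD3_c41)) :=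
  Lgr Lrot0 (Lpr_at (K13.f245041 IH) (Lpn (LP (LK LD1_c2 LD2_c11 LD3_c41))))
theorem f245089 : Led Lsl_gt (LP (LK LD1_c2 LD2_c40 LD3_c16)) = (LP (LK LD1_c4 LD2_c15 LD3_c57)) :=
  Lgr Lrot46 (Lpe (f172918 IH) (Lpr_ft (K13.f245074 IH) (Lpe (f245046 IH) (Lpn (LP (LK LD1_c4 LD2_c15 LD3_c57))))))
theorem f54514 : Led Lsl_gt (LP (LK LD1_c2 LD2_c4 LD3_c22)) = (LP (LK LD1_c4 LD2_c13 LD3_c60)) :=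
  Lre_g IH (LK LD1_c2 LD2_c4 LD3_c22) (LK LD1_c4 LD2_c13 LD3_c60) Lrfl Lrfl
theorem f245091 : Led Lsl_cf (LP (LK LD1_c2 LD2_c40 LD3_c16)) = (LP (LK LD1_c4 LD2_c13 LD3_c60)) :=
  Lgr Lrot169 (Lpr_gt (f245089 IH) (Lpr_ct (K14.f243636 IH) (Lpe (K13.f234213 IH) (Lpe (K13.f53437 IH) (Lpe (K12.f1380 IH) (Lpe (K14.f27512 IH) (Lpe (K12.f27516 IH) (Lpe (K10.f188532 IH) (Lpr_gt (f54514 IH) (Lpn (LP (LK LD1_c4 LD2_c13 LD3_c60))))))))))))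
theorem f167328 : Led Lsl_dt (LP (LK LD1_c2 LD2_c4 LD3_c26)) = (LP (LK LD1_c0 LD2_c59 LD3_c13)) :=
  Lre_d IH (LK LD1_c2 LD2_c4 LD3_c26) (LK LD1_c0 LD2_c59 LD3_c13) Lrfl Lrfl
theorem f245141 : Led Lsl_gf (LP (LK LD1_c2 LD2_c4 LD3_c26)) = (LP (LK LD1_c4 LD2_c13 LD3_c60)) :=
  Lgr Lrot144 (Lpr_dt (f167328 IH) (Lpr_gt (K10.f45730 IH) (Lpr_dt (K14.f44970 IH) (Lpe (f188946 IH) (Lpe (K13.f188942 IH) (Lpe (K13.f195806 IH) (Lpr_df (K13.f243609 IH) (Lpe (f245089 IH) (Lpr_cf (f245091 IH) (Lpn (LP (LK LD1_c4 LD2_c13 LD3_c60))))))))))))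
theorem f262848 : Led Lsl_dt (LP (LK LD1_c2 LD2_c40 LD3_c58)) = (LP (LK LD1_c4 LD2_c13 LD3_c60)) :=
  Lgr Lrot136 (Lpr_et (f262847 IH) (Lpr_gf (f262832 IH) (Lpe (f222190 IH) (Lpr_dt (f222209 IH) (Lpr_gf (K14.f251750 IH) (Lpe (K13.f200568 IH) (Lpr_gf (K13.f234176 IH) (Lpe (f220520 IH) (Lpr_dt (K13.f27520 IH) (Lpr_gf (f245141 IH) (Lpn (LP (LK LD1_c4 LD2_c13 LD3_c60)))))))))))))
theorem f27438 : Led Lsl_dt (LP (LK LD1_c0 LD2_c59 LD3_c15)) = (LP (LK LD1_c2 LD2_c4 LD3_c31)) :=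
  Lre_d IH (LK LD1_c0 LD2_c59 LD3_c15) (LK LD1_c2 LD2_c4 LD3_c31) Lrfl Lrfl
theorem f27359 : Led Lsl_ef (LP (LK LD1_c0 LD2_c59 LD3_c15)) = (LP (LK LD1_c0 LD2_c59 LD3_c15)) :=
  Lgr Lrot28 (Lpr_ct (K10.f27357 IH) (Lpr_et (K0.f27347 IH) (Lpr_ct (K9.f27358 IH) (Lpn (LP (LK LD1_c0 LD2_c59 LD3_c15))))))
theorem f32956 : Led Lsl_et (LP (LK LD1_c2 LD2_c35 LD3_c23)) = (LP (LK LD1_c1 LD2_c14 LD3_c44)) :=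
  Lre_e IH (LK LD1_c2 LD2_c35 LD3_c23) (LK LD1_c1 LD2_c14 LD3_c44) Lrfl Lrfl
theorem f217493 : Led Lsl_df (LP (LK LD1_c2 LD2_c25 LD3_c35)) = (LP (LK LD1_c2 LD2_c35 LD3_c23)) :=
  Lgr Lrot168 (Lpr_gf (K12.f217477 IH) (Lpe (f27438 IH) (Lpe (f27359 IH) (Lpe (K9.f53464 IH) (Lpe (K10.f45096 IH) (Lpe (K13.f191728 IH) (Lpe (K10.f32953 IH) (Lpe (K10.f32950 IH) (Lpe (K10.f32906 IH) (Lpe (f32956 IH) (Lpn (LP (LK LD1_c2 LD2_c35 LD3_c23)))))))))))))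
theorem f217496 : Led Lsl_dt (LP (LK LD1_c2 LD2_c25 LD3_c35)) = (LP (LK LD1_c2 LD2_c35 LD3_c23)) :=
  Lgr Lrot42 (Lpr_df (f217493 IH) (Lpn (LP (LK LD1_c2 LD2_c35 LD3_c23))))
theorem f259238 : Led Lsl_cf (LP (LK LD1_c2 LD2_c41 LD3_c47)) = (LP (LK LD1_c2 LD2_c40 LD3_c61)) :=
  Lgr Lrot97 (Lpr_bt (f259231 IH) (Lpe (f258547 IH) (Lpr_bt (f257947 IH) (Lpr_ct (f257940 IH) (Lpe (f257949 IH) (Lpn (LP (LK LD1_c2 LD2_c40 LD3_c61))))))))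
theorem f261450 : Led Lsl_ct (LP (LK LD1_c2 LD2_c40 LD3_c58)) = (LP (LK LD1_c1 LD2_c17 LD3_c13)) :=
  Lre_c IH (LK LD1_c2 LD2_c40 LD3_c58) (LK LD1_c1 LD2_c17 LD3_c13) Lrfl Lrfl
theorem f261476 : Led Lsl_gt (LP (LK LD1_c2 LD2_c35 LD3_c23)) = (LP (LK LD1_c2 LD2_c40 LD3_c58)) :=
  Lgr Lrot9 (Lpe (f217496 IH) (Lpr_gt (K12.f217485 IH) (Lpr_ct (K12.f183742 IH) (Lpr_gt (f261465 IH) (Lpr_ct (f221315 IH) (Lpe (f259230 IH) (Lpr_cf (f259238 IH) (Lpe (f257934 IH) (Lpe (f261450 IH) (Lpn (LP (LK LD1_c2 LD2_c40 LD3_c58))))))))))))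
theorem f182081 : Led Lsl_dt (LP (LK LD1_c2 LD2_c11 LD3_c58)) = (LP (LK LD1_c4 LD2_c29 LD3_c51)) :=
  Lre_d IH (LK LD1_c2 LD2_c11 LD3_c58) (LK LD1_c4 LD2_c29 LD3_c51) Lrfl Lrfl
theorem f245136 : Led Lsl_ct (LP (LK LD1_c2 LD2_c40 LD3_c16)) = (LP (LK LD1_c4 LD2_c13 LD3_c60)) :=
  Lgr Lrot59 (Lpr_cf (f245091 IH) (Lpn (LP (LK LD1_c4 LD2_c13 LD3_c60))))
theorem f244700 : Led Lsl_dt (LP (LK LD1_c5 LD2_c27 LD3_c51)) = (LP (LK LD1_c2 LD2_c40 LD3_c16)) :=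
  Lre_d IH (LK LD1_c5 LD2_c27 LD3_c51) (LK LD1_c2 LD2_c40 LD3_c16) Lrfl Lrfl
theorem f262865 : Led Lsl_gt (LP (LK LD1_c4 LD2_c29 LD3_c51)) = (LP (LK LD1_c5 LD2_c27 LD3_c51)) :=
  Lgr Lrot49 (Lpe (f182081 IH) (Lpe (K12.f217945 IH) (Lpe (K12.f187221 IH) (Lpe (K12.f217477 IH) (Lpr_dt (f217496 IH) (Lpr_gt (f261476 IH) (Lpr_dt (f262848 IH) (Lpe (f245136 IH) (Lpe (f244700 IH) (Lpn (LP (LK LD1_c5 LD2_c27 LD3_c51))))))))))))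
theorem f172919 : Led Lsl_dt (LP (LK LD1_c2 LD2_c40 LD3_c16)) = (LP (LK LD1_c5 LD2_c27 LD3_c51)) :=
  Lre_d IH (LK LD1_c2 LD2_c40 LD3_c16) (LK LD1_c5 LD2_c27 LD3_c51) Lrfl Lrfl
theorem f221332 : Led Lsl_dt (LP (LK LD1_c5 LD2_c30 LD3_c61)) = (LP (LK LD1_c2 LD2_c41 LD3_c46)) :=
  Lre_d IH (LK LD1_c5 LD2_c30 LD3_c61) (LK LD1_c2 LD2_c41 LD3_c46) Lrfl Lrfl
theorem f261453 : Led Lsl_gt (LP (LK LD1_c5 LD2_c27 LD3_c51)) = (LP (LK LD1_c5 LD2_c30 LD3_c61)) :=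
  Lgr Lrot49 (Lpe (f172919 IH) (Lpe (f172918 IH) (Lpe (K13.f236001 IH) (Lpr_gt (K13.f168542 IH) (Lpr_dt (K13.f235995 IH) (Lpr_gt (f261448 IH) (Lpr_dt (f259230 IH) (Lpe (f221315 IH) (Lpe (f221332 IH) (Lpn (LP (LK LD1_c5 LD2_c30 LD3_c61))))))))))))
theorem f221424 : Led Lsl_at (LP (LK LD1_c2 LD2_c41 LD3_c51)) = (LP (LK LD1_c5 LD2_c30 LD3_c61)) :=
  Lre_a IH (LK LD1_c2 LD2_c41 LD3_c51) (LK LD1_c5 LD2_c30 LD3_c61) Lrfl Lrfl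
theorem f262870 : Led Lsl_ft (LP (LK LD1_c4 LD2_c29 LD3_c51)) = (LP (LK LD1_c2 LD2_c41 LD3_c51)) :=
  Lgr Lrot2 (Lpr_gt (f262865 IH) (Lpr_gt (f261453 IH) (Lpe (f221424 IH) (Lpn (LP (LK LD1_c2 LD2_c41 LD3_c51))))))
theorem f217954 : Led Lsl_dt (LP (LK LD1_c4 LD2_c29 LD3_c51)) = (LP (LK LD1_c2 LD2_c11 LD3_c58)) :=
  Lre_d IH (LK LD1_c4 LD2_c29 LD3_c51) (LK LD1_c2 LD2_c11 LD3_c58) Lrfl Lrfl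
theorem f182082 : Led Lsl_ct (LP (LK LD1_c2 LD2_c11 LD3_c58)) = (LP (LK LD1_c1 LD2_c2 LD3_c57)) :=
  Lre_c IH (LK LD1_c2 LD2_c11 LD3_c58) (LK LD1_c1 LD2_c2 LD3_c57) Lrfl Lrfl
theorem f245028 : Led Lsl_gt (LP (LK LD1_c0 LD2_c35 LD3_c33)) = (LP (LK LD1_c1 LD2_c2 LD3_c49)) :=
  Lgr Lrot5 (Lpr_ft (K13.f243606 IH) (Lpr_at (K13.f236408 IH) (Lpe (K10.f167754 IH) (Lpn (LP (LK LD1_c1 LD2_c2 LD3_c49))))))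
theorem f262811 : Led Lsl_df (LP (LK LD1_c1 LD2_c25 LD3_c9)) = (LP (LK LD1_c1 LD2_c2 LD3_c57)) :=
  Lgr Lrot84 (Lpr_cf (f182068 IH) (Lpe (f48241 IH) (Lpe (K10.f27367 IH) (Lpe (K10.f27362 IH) (Lpe (K10.f27368 IH) (Lpr_cf (f262795 IH) (Lpr_gt (f245028 IH) (Lpr_dt (K12.f187238 IH) (Lpr_gt (K12.f217961 IH) (Lpn (LP (LK LD1_c1 LD2_c2 LD3_c57))))))))))))
theorem f48239 : Led Lsl_ct (LP (LK LD1_c2 LD2_c5 LD3_c7)) = (LP (LK LD1_c4 LD2_c15 LD3_c29)) :=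
  Lre_c IH (LK LD1_c2 LD2_c5 LD3_c7) (LK LD1_c4 LD2_c15 LD3_c29) Lrfl Lrfl
theorem f48240 : Led Lsl_dt (LP (LK LD1_c4 LD2_c15 LD3_c29)) = (LP (LK LD1_c8 LD2_c29 LD3_c54)) :=
  Lre_d IH (LK LD1_c4 LD2_c15 LD3_c29) (LK LD1_c8 LD2_c29 LD3_c54) Lrfl Lrfl
theorem f262890 : Led Lsl_ct (LP (LK LD1_c8 LD2_c29 LD3_c54)) = (LP (LK LD1_c5 LD2_c30 LD3_c61)) :=
  Lgr Lrot98 (Lpe (f48240 IH) (Lpe (f48239 IH) (Lpr_df (K10.f48190 IH) (Lpe (f182079 IH) (Lpr_df (f262811 IH) (Lpe (f182082 IH) (Lpe (f217954 IH) (Lpr_ft (f262870 IH) (Lpr_at (f221424 IH) (Lpn (LP (LK LD1_c5 LD2_c30 LD3_c61))))))))))))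
theorem f261596 : Led Lsl_at (LP (LK LD1_c0 LD2_c35 LD3_c51)) = (LP (LK LD1_c1 LD2_c17 LD3_c33)) :=
  Lre_a IH (LK LD1_c0 LD2_c35 LD3_c51) (LK LD1_c1 LD2_c17 LD3_c33) Lrfl Lrfl
theorem f262902 : Led Lsl_ft (LP (LK LD1_c1 LD2_c2 LD3_c57)) = (LP (LK LD1_c0 LD2_c35 LD3_c51)) :=
  Lgr Lrot142 (Lpe (f262811 IH) (Lpr_ct (f182079 IH) (Lpe (K10.f48190 IH) (Lpr_ct (f48239 IH) (Lpr_dt (f48240 IH) (Lpr_ct (f262890 IH) (Lpr_dt (f221332 IH) (Lpr_ct (f221315 IH) (Lpe (f261596 IH) (Lpn (LP (LK LD1_c0 LD2_c35 LD3_c51))))))))))))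
theorem f262978 : Led Lsl_gt (LP (LK LD1_c1 LD2_c14 LD3_c7)) = (LP (LK LD1_c1 LD2_c17 LD3_c33)) :=
  Lgr Lrot46 (Lpr_gf (K12.f218133 IH) (Lpr_ft (f262902 IH) (Lpr_at (f261596 IH) (Lpn (LP (LK LD1_c1 LD2_c17 LD3_c33))))))
theorem f54366 : Led Lsl_ef (LP (LK LD1_c1 LD2_c14 LD3_c7)) = (LP (LK LD1_c0 LD2_c59 LD3_c29)) :=
  Lgr Lrot88 (Lpr_et (K11.f54362 IH) (Lpn (LP (LK LD1_c0 LD2_c59 LD3_c29))))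
theorem f49093 : Led Lsl_et (LP (LK LD1_c5 LD2_c17 LD3_c46)) = (LP (LK LD1_c2 LD2_c35 LD3_c38)) :=
  Lre_e IH (LK LD1_c5 LD2_c17 LD3_c46) (LK LD1_c2 LD2_c35 LD3_c38) Lrfl Lrfl
theorem f49094 : Led Lsl_dt (LP (LK LD1_c5 LD2_c17 LD3_c46)) = (LP (LK LD1_c2 LD2_c35 LD3_c37)) :=
  Lre_d IH (LK LD1_c5 LD2_c17 LD3_c46) (LK LD1_c2 LD2_c35 LD3_c37) Lrfl Lrfl
theorem f48339 : Led Lsl_gt (LP (LK LD1_c5 LD2_c17 LD3_c45)) = (LP (LK LD1_c2 LD2_c35 LD3_c37)) :=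
  Lre_g IH (LK LD1_c5 LD2_c17 LD3_c45) (LK LD1_c2 LD2_c35 LD3_c37) Lrfl Lrfl
theorem f262986 : Led Lsl_df (LP (LK LD1_c5 LD2_c17 LD3_c45)) = (LP (LK LD1_c2 LD2_c41 LD3_c48)) :=
  Lgr Lrot170 (Lpr_gt (f48339 IH) (Lpe (f49094 IH) (Lpr_et (f49093 IH) (Lpr_gt (f260383 IH) (Lpr_dt (K9.f169517 IH) (Lpr_gt (K9.f183670 IH) (Lpe (K1.f45131 IH) (Lpe (f54366 IH) (Lpr_gt (f262978 IH) (Lpe (f259227 IH) (Lpn (LP (LK LD1_c2 LD2_c41 LD3_c48)))))))))))))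
theorem f261629 : Led Lsl_ft (LP (LK LD1_c5 LD2_c31 LD3_c3)) = (LP (LK LD1_c2 LD2_c41 LD3_c48)) :=
  Lre_f IH (LK LD1_c5 LD2_c31 LD3_c3) (LK LD1_c2 LD2_c41 LD3_c48) Lrfl Lrfl
theorem f261627 : Led Lsl_at (LP (LK LD1_c5 LD2_c31 LD3_c3)) = (LP (LK LD1_c2 LD2_c41 LD3_c57)) :=
  Lre_a IH (LK LD1_c5 LD2_c31 LD3_c3) (LK LD1_c2 LD2_c41 LD3_c57) Lrfl Lrfl
theorem f261840 : Led Lsl_dt (LP (LK LD1_c10 LD2_c17 LD3_c2)) = (LP (LK LD1_c5 LD2_c31 LD3_c3)) :=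
  Lgr Lrot44 (Lpe (f261810 IH) (Lpr_df (f261837 IH) (Lpe (f261627 IH) (Lpn (LP (LK LD1_c5 LD2_c31 LD3_c3))))))
theorem f262995 : Led Lsl_ft (LP (LK LD1_c5 LD2_c17 LD3_c45)) = (LP (LK LD1_c10 LD2_c17 LD3_c2)) :=
  Lgr Lrot54 (Lpr_df (f262986 IH) (Lpe (f261629 IH) (Lpe (f261840 IH) (Lpn (LP (LK LD1_c10 LD2_c17 LD3_c2))))))
theorem f263019 : Led Lsl_gt (LP (LK LD1_c2 LD2_c35 LD3_c37)) = (LP (LK LD1_c5 LD2_c13 LD3_c22)) :=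
  Lgr Lrot46 (Lpe (f48339 IH) (Lpr_ft (f262995 IH) (Lpr_at (f261832 IH) (Lpn (LP (LK LD1_c5 LD2_c13 LD3_c22))))))
theorem f48338 : Led Lsl_et (LP (LK LD1_c1 LD2_c14 LD3_c51)) = (LP (LK LD1_c2 LD2_c35 LD3_c37)) :=
  Lre_e IH (LK LD1_c1 LD2_c14 LD3_c51) (LK LD1_c2 LD2_c35 LD3_c37) Lrfl Lrfl
theorem f32383 : Led Lsl_gt (LP (LK LD1_c2 LD2_c34 LD3_c54)) = (LP (LK LD1_c5 LD2_c16 LD3_c15)) :=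
  Lre_g IH (LK LD1_c2 LD2_c34 LD3_c54) (LK LD1_c5 LD2_c16 LD3_c15) Lrfl Lrfl
theorem f48348 : Led Lsl_gt (LP (LK LD1_c5 LD2_c16 LD3_c15)) = (LP (LK LD1_c5 LD2_c17 LD3_c10)) :=
  Lgr Lrot46 (Lpe (f32383 IH) (Lpr_ft (K10.f48334 IH) (Lpr_at (K1.f32180 IH) (Lpn (LP (LK LD1_c5 LD2_c17 LD3_c10))))))
theorem f48897 : Led Lsl_et (LP (LK LD1_c10 LD2_c22 LD3_c5)) = (LP (LK LD1_c5 LD2_c16 LD3_c15)) :=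
  Lre_e IH (LK LD1_c10 LD2_c22 LD3_c5) (LK LD1_c5 LD2_c16 LD3_c15) Lrfl Lrfl
theorem f261856 : Led Lsl_gt (LP (LK LD1_c2 LD2_c41 LD3_c57)) = (LP (LK LD1_c5 LD2_c31 LD3_c2)) :=
  Lre_g IH (LK LD1_c2 LD2_c41 LD3_c57) (LK LD1_c5 LD2_c31 LD3_c2) Lrfl Lrfl
theorem f263030 : Led Lsl_dt (LP (LK LD1_c10 LD2_c22 LD3_c5)) = (LP (LK LD1_c5 LD2_c31 LD3_c2)) :=
  Lgr Lrot56 (Lpr_et (f48897 IH) (Lpr_gt (f48348 IH) (Lpe (K1.f32167 IH) (Lpr_dt (K1.f32168 IH) (Lpr_gt (K9.f32172 IH) (Lpe (f48337 IH) (Lpr_et (f48338 IH) (Lpr_gt (f263019 IH) (Lpr_dt (f261846 IH) (Lpr_gt (f261856 IH) (Lpn (LP (LK LD1_c5 LD2_c31 LD3_c2)))))))))))))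
theorem f261621 : Led Lsl_gt (LP (LK LD1_c5 LD2_c31 LD3_c2)) = (LP (LK LD1_c2 LD2_c41 LD3_c48)) :=
  Lre_g IH (LK LD1_c5 LD2_c31 LD3_c2) (LK LD1_c2 LD2_c41 LD3_c48) Lrfl Lrfl
theorem f262991 : Led Lsl_dt (LP (LK LD1_c5 LD2_c17 LD3_c45)) = (LP (LK LD1_c2 LD2_c41 LD3_c48)) :=
  Lgr Lrot42 (Lpr_df (f262986 IH) (Lpn (LP (LK LD1_c2 LD2_c41 LD3_c48))))
theorem f259233 : Led Lsl_et (LP (LK LD1_c1 LD2_c17 LD3_c33)) = (LP (LK LD1_c2 LD2_c41 LD3_c48)) :=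
  Lre_e IH (LK LD1_c1 LD2_c17 LD3_c33) (LK LD1_c2 LD2_c41 LD3_c48) Lrfl Lrfl
theorem f212206 : Led Lsl_at (LP (LK LD1_c2 LD2_c30 LD3_c2)) = (LP (LK LD1_c5 LD2_c5 LD3_c37)) :=
  Lre_a IH (LK LD1_c2 LD2_c30 LD3_c2) (LK LD1_c5 LD2_c5 LD3_c37) Lrfl Lrfl
theorem f259223 : Led Lsl_dt (LP (LK LD1_c5 LD2_c5 LD3_c37)) = (LP (LK LD1_c4 LD2_c7 LD3_c61)) :=
  Lgr Lrot44 (Lpe (f212206 IH) (Lpr_df (f253172 IH) (Lpr_af (f259212 IH) (Lpn (LP (LK LD1_c4 LD2_c7 LD3_c61))))))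
theorem f262993 : Led Lsl_et (LP (LK LD1_c5 LD2_c17 LD3_c45)) = (LP (LK LD1_c5 LD2_c5 LD3_c37)) :=
  Lgr Lrot71 (Lpr_df (f262986 IH) (Lpe (f259233 IH) (Lpe (f259230 IH) (Lpr_ef (f259228 IH) (Lpe (f259223 IH) (Lpn (LP (LK LD1_c5 LD2_c5 LD3_c37))))))))
theorem f263061 : Led Lsl_gf (LP (LK LD1_c2 LD2_c34 LD3_c22)) = (LP (LK LD1_c5 LD2_c5 LD3_c37)) :=
  Lgr Lrot138 (Lpr_dt (K12.f48936 IH) (Lpr_gt (K10.f32876 IH) (Lpe (K10.f32375 IH) (Lpr_et (K10.f32373 IH) (Lpr_gt (f32383 IH) (Lpe (f48897 IH) (Lpr_dt (f263030 IH) (Lpr_gt (f261621 IH) (Lpe (f262991 IH) (Lpr_et (f262993 IH) (Lpn (LP (LK LD1_c5 LD2_c5 LD3_c37)))))))))))))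
theorem f216169 : Led Lsl_dt (LP (LK LD1_c10 LD2_c19 LD3_c31)) = (LP (LK LD1_c5 LD2_c15 LD3_c1)) :=
  Lre_d IH (LK LD1_c10 LD2_c19 LD3_c31) (LK LD1_c5 LD2_c15 LD3_c1) Lrfl Lrfl
theorem f257105 : Led Lsl_cf (LP (LK LD1_c10 LD2_c19 LD3_c31)) = (LP (LK LD1_c8 LD2_c29 LD3_c31)) :=
  Lgr Lrot11 (Lpr_ct (f257101 IH) (Lpn (LP (LK LD1_c8 LD2_c29 LD3_c31))))
theorem f194232 : Led Lsl_cf (LP (LK LD1_c4 LD2_c5 LD3_c20)) = (LP (LK LD1_c4 LD2_c15 LD3_c14)) :=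
  Lgr Lrot11 (Lpr_ct (K13.f194224 IH) (Lpn (LP (LK LD1_c4 LD2_c15 LD3_c14))))
theorem f257195 : Led Lsl_gt (LP (LK LD1_c8 LD2_c29 LD3_c4)) = (LP (LK LD1_c8 LD2_c29 LD3_c31)) :=
  Lgr Lrot9 (Lpe (K1.f45141 IH) (Lpr_gt (K13.f45271 IH) (Lpe (f194232 IH) (Lpr_gt (K13.f216136 IH) (Lpe (K11.f183719 IH) (Lpe (K13.f231978 IH) (Lpr_cf (K13.f231973 IH) (Lpe (f257095 IH) (Lpr_cf (f257105 IH) (Lpn (LP (LK LD1_c8 LD2_c29 LD3_c31))))))))))))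
theorem f45380 : Led Lsl_ct (LP (LK LD1_c5 LD2_c15 LD3_c8)) = (LP (LK LD1_c8 LD2_c29 LD3_c4)) :=
  Lgr Lrot176 (Lpe (K14.f45350 IH) (Lpe (K10.f32459 IH) (Lpe (K2.f32317 IH) (Lpr_cf (K10.f45245 IH) (Lpe (K14.f45101 IH) (Lpe (K10.f45256 IH) (Lpe (K10.f45308 IH) (Lpe (K1.f45342 IH) (Lpe (K1.f45349 IH) (Lpe (K1.f32892 IH) (Lpe (K1.f32374 IH) (Lpr_cf (K1.f45356 IH) (Lpe (K1.f45143 IH) (Lpe (K1.f45179 IH) (Lpe (K1.f45274 IH) (Lpn (LP (LK LD1_c8 LD2_c29 LD3_c4))))))))))))))))))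
theorem f32456 : Led Lsl_gt (LP (LK LD1_c10 LD2_c19 LD3_c48)) = (LP (LK LD1_c5 LD2_c15 LD3_c8)) :=
  Lre_g IH (LK LD1_c10 LD2_c19 LD3_c48) (LK LD1_c5 LD2_c15 LD3_c8) Lrfl Lrfl
theorem f252555 : Led Lsl_dt (LP (LK LD1_c8 LD2_c26 LD3_c16)) = (LP (LK LD1_c10 LD2_c19 LD3_c48)) :=
  Lgr Lrot57 (Lpe (f191161 IH) (Lpe (K14.f185683 IH) (Lpr_gt (K14.f252553 IH) (Lpr_dt (f45258 IH) (Lpr_gt (K9.f32434 IH) (Lpr_dt (K2.f32317 IH) (Lpe (K1.f32448 IH) (Lpe (K1.f32455 IH) (Lpe (f32456 IH) (Lpn (LP (LK LD1_c10 LD2_c19 LD3_c48))))))))))))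
theorem f263065 : Led Lsl_ct (LP (LK LD1_c10 LD2_c2 LD3_c20)) = (LP (LK LD1_c5 LD2_c5 LD3_c37)) :=
  Lre_c IH (LK LD1_c10 LD2_c2 LD3_c20) (LK LD1_c5 LD2_c5 LD3_c37) Lrfl Lrfl
theorem f263069 : Led Lsl_gt (LP (LK LD1_c8 LD2_c26 LD3_c16)) = (LP (LK LD1_c10 LD2_c2 LD3_c20)) :=
  Lgr Lrot146 (Lpr_dt (f252555 IH) (Lpr_gt (f32456 IH) (Lpr_ct (f45380 IH) (Lpr_gt (f257195 IH) (Lpe (f257105 IH) (Lpr_dt (f216169 IH) (Lpe (K14.f32430 IH) (Lpr_gf (f263061 IH) (Lpe (f263065 IH) (Lpn (LP (LK LD1_c10 LD2_c2 LD3_c20))))))))))))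
theorem f263111 : Led Lsl_df (LP (LK LD1_c8 LD2_c26 LD3_c16)) = (LP (LK LD1_c10 LD2_c19 LD3_c48)) :=
  Lgr Lrot155 (Lpr_gt (f263069 IH) (Lpr_ct (f263065 IH) (Lpe (f263061 IH) (Lpr_ct (K14.f32430 IH) (Lpr_dt (f216159 IH) (Lpr_cf (f257105 IH) (Lpe (f257195 IH) (Lpe (f45380 IH) (Lpe (f32456 IH) (Lpn (LP (LK LD1_c10 LD2_c19 LD3_c48))))))))))))
theorem f252196 : Led Lsl_at (LP (LK LD1_c0 LD2_c39 LD3_c16)) = (LP (LK LD1_c0 LD2_c59 LD3_c33)) :=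
  Lgr Lrot107 (Lpe (K10.f181426 IH) (Lpr_af (K14.f252190 IH) (Lpr_cf (K10.f49195 IH) (Lpn (LP (LK LD1_c0 LD2_c59 LD3_c33))))))
theorem f166138 : Led Lsl_ct (LP (LK LD1_c1 LD2_c16 LD3_c26)) = (LP (LK LD1_c2 LD2_c39 LD3_c20)) :=
  Lre_c IH (LK LD1_c1 LD2_c16 LD3_c26) (LK LD1_c2 LD2_c39 LD3_c20) Lrfl Lrfl
theorem f252241 : Led Lsl_dt (LP (LK LD1_c2 LD2_c39 LD3_c20)) = (LP (LK LD1_c5 LD2_c25 LD3_c56)) :=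
  Lre_d IH (LK LD1_c2 LD2_c39 LD3_c20) (LK LD1_c5 LD2_c25 LD3_c56) Lrfl Lrfl
theorem f263118 : Led Lsl_ct (LP (LK LD1_c5 LD2_c25 LD3_c56)) = (LP (LK LD1_c10 LD2_c19 LD3_c48)) :=
  Lgr Lrot176 (Lpe (f252241 IH) (Lpe (f166138 IH) (Lpe (K14.f192467 IH) (Lpe (K10.f190961 IH) (Lpe (K12.f33250 IH) (Lpe (K14.f33195 IH) (Lpe (K14.f33196 IH) (Lpe (K14.f252237 IH) (Lpe (K14.f49198 IH) (Lpe (K14.f45146 IH) (Lpe (K10.f45142 IH) (Lpe (K10.f49193 IH) (Lpe (K14.f49166 IH) (Lpe (f49197 IH) (Lpr_df (f263111 IH) (Lpn (LP (LK LD1_c10 LD2_c19 LD3_c48))))))))))))))))))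
theorem f263120 : Led Lsl_ff (LP (LK LD1_c0 LD2_c39 LD3_c16)) = (LP (LK LD1_c0 LD2_c35 LD3_c22)) :=
  Lgr Lrot103 (Lpr_at (f252196 IH) (Lpe (K10.f49193 IH) (Lpe (K14.f49166 IH) (Lpe (f49197 IH) (Lpr_df (f263111 IH) (Lpe (f263118 IH) (Lpe (f252241 IH) (Lpe (f166138 IH) (Lpe (K14.f192467 IH) (Lpn (LP (LK LD1_c0 LD2_c35 LD3_c22))))))))))))
theorem f258573 : Led Lsl_ft (LP (LK LD1_c2 LD2_c5 LD3_c24)) = (LP (LK LD1_c1 LD2_c16 LD3_c27)) :=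
  Lgr Lrot54 (Lpe (f236414 IH) (Lpr_ff (f258567 IH) (Lpe (K10.f183248 IH) (Lpn (LP (LK LD1_c1 LD2_c16 LD3_c27))))))
theorem f185005 : Led Lsl_bt (LP (LK LD1_c2 LD2_c11 LD3_c55)) = (LP (LK LD1_c4 LD2_c29 LD3_c31)) :=
  Lre_b IH (LK LD1_c2 LD2_c11 LD3_c55) (LK LD1_c4 LD2_c29 LD3_c31) Lrfl Lrfl
theorem f185007 : Led Lsl_et (LP (LK LD1_c4 LD2_c29 LD3_c31)) = (LP (LK LD1_c2 LD2_c32 LD3_c57)) :=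
  Lgr Lrot74 (Lpe (f185005 IH) (Lpr_ef (K14.f185001 IH) (Lpe (K14.f185006 IH) (Lpn (LP (LK LD1_c2 LD2_c32 LD3_c57))))))
theorem f185021 : Led Lsl_et (LP (LK LD1_c1 LD2_c2 LD3_c54)) = (LP (LK LD1_c2 LD2_c11 LD3_c49)) :=
  Lre_e IH (LK LD1_c1 LD2_c2 LD3_c54) (LK LD1_c2 LD2_c11 LD3_c49) Lrfl Lrfl
theorem f259660 : Led Lsl_ef (LP (LK LD1_c2 LD2_c5 LD3_c24)) = (LP (LK LD1_c2 LD2_c5 LD3_c14)) :=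
  Lgr Lrot73 (Lpe (f236416 IH) (Lpr_et (f185021 IH) (Lpr_dt (f185020 IH) (Lpr_et (f185007 IH) (Lpr_dt (f259654 IH) (Lpn (LP (LK LD1_c2 LD2_c5 LD3_c14))))))))
theorem f263126 : Led Lsl_ft (LP (LK LD1_c1 LD2_c25 LD3_c14)) = (LP (LK LD1_c2 LD2_c5 LD3_c14)) :=
  Lgr Lrot86 (Lpe (K9.f169518 IH) (Lpr_ff (f263120 IH) (Lpe (K10.f190964 IH) (Lpe (f258573 IH) (Lpr_ef (f259660 IH) (Lpn (LP (LK LD1_c2 LD2_c5 LD3_c14))))))))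
theorem f263132 : Led Lsl_ff (LP (LK LD1_c1 LD2_c25 LD3_c14)) = (LP (LK LD1_c2 LD2_c5 LD3_c14)) :=
  Lgr Lrot3 (Lpr_ft (f263126 IH) (Lpn (LP (LK LD1_c2 LD2_c5 LD3_c14))))
theorem f252230 : Led Lsl_ft (LP (LK LD1_c0 LD2_c39 LD3_c16)) = (LP (LK LD1_c0 LD2_c35 LD3_c22)) :=
  Lgr Lrot4 (Lpe (K10.f181426 IH) (Lpr_ff (K14.f252228 IH) (Lpr_cf (K10.f190950 IH) (Lpn (LP (LK LD1_c0 LD2_c35 LD3_c22))))))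
theorem f196381 : Led Lsl_et (LP (LK LD1_c0 LD2_c35 LD3_c22)) = (LP (LK LD1_c1 LD2_c16 LD3_c27)) :=
  Lre_e IH (LK LD1_c0 LD2_c35 LD3_c22) (LK LD1_c1 LD2_c16 LD3_c27) Lrfl Lrfl
theorem f258585 : Led Lsl_ff (LP (LK LD1_c2 LD2_c5 LD3_c24)) = (LP (LK LD1_c1 LD2_c16 LD3_c27)) :=
  Lgr Lrot19 (Lpe (f236416 IH) (Lpr_ft (f258579 IH) (Lpe (f220603 IH) (Lpn (LP (LK LD1_c1 LD2_c16 LD3_c27))))))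
theorem f263138 : Led Lsl_et (LP (LK LD1_c2 LD2_c5 LD3_c24)) = (LP (LK LD1_c2 LD2_c5 LD3_c14)) :=
  Lgr Lrot69 (Lpr_ff (f258585 IH) (Lpe (f196381 IH) (Lpe (f252230 IH) (Lpe (K9.f169545 IH) (Lpr_ff (f263132 IH) (Lpn (LP (LK LD1_c2 LD2_c5 LD3_c14))))))))
theorem f262826 : Led Lsl_ct (LP (LK LD1_c1 LD2_c17 LD3_c11)) = (LP (LK LD1_c0 LD2_c35 LD3_c43)) :=
  Lre_c IH (LK LD1_c1 LD2_c17 LD3_c11) (LK LD1_c0 LD2_c35 LD3_c43) Lrfl Lrfl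
theorem f254746 : Led Lsl_ct (LP (LK LD1_c8 LD2_c18 LD3_c45)) = (LP (LK LD1_c5 LD2_c29 LD3_c58)) :=
  Lgr Lrot7 (Lpr_df (K14.f254721 IH) (Lpr_gf (K14.f234675 IH) (Lpe (K12.f222251 IH) (Lpe (K12.f222252 IH) (Lpr_cf (K14.f222510 IH) (Lpe (K12.f222517 IH) (Lpr_dt (K12.f196393 IH) (Lpe (K13.f222554 IH) (Lpr_dt (K14.f222279 IH) (Lpn (LP (LK LD1_c5 LD2_c29 LD3_c58))))))))))))
theorem f167251 : Led Lsl_ct (LP (LK LD1_c4 LD2_c9 LD3_c18)) = (LP (LK LD1_c4 LD2_c12 LD3_c55)) :=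
  Lre_c IH (LK LD1_c4 LD2_c9 LD3_c18) (LK LD1_c4 LD2_c12 LD3_c55) Lrfl Lrfl
theorem f257914 : Led Lsl_gt (LP (LK LD1_c4 LD2_c12 LD3_c55)) = (LP (LK LD1_c5 LD2_c17 LD3_c12)) :=
  Lgr Lrot150 (Lpe (f167251 IH) (Lpe (K12.f167241 IH) (Lpe (K14.f190862 IH) (Lpr_gt (K14.f222816 IH) (Lpr_ct (f254746 IH) (Lpe (K14.f254757 IH) (Lpr_ct (K14.f254759 IH) (Lpe (K14.f47725 IH) (Lpr_cf (f257903 IH) (Lpn (LP (LK LD1_c5 LD2_c17 LD3_c12))))))))))))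
theorem f262840 : Led Lsl_gt (LP (LK LD1_c0 LD2_c35 LD3_c43)) = (LP (LK LD1_c0 LD2_c34 LD3_c36)) :=
  Lgr Lrot150 (Lpe (f262826 IH) (Lpr_gf (f262832 IH) (Lpe (K14.f222208 IH) (Lpr_gt (f257914 IH) (Lpe (f257903 IH) (Lpr_gt (K14.f1305 IH) (Lpr_ct (K9.f792 IH) (Lpe (K10.f780 IH) (Lpr_cf (K9.f50130 IH) (Lpn (LP (LK LD1_c0 LD2_c34 LD3_c36))))))))))))
theorem f262831 : Led Lsl_et (LP (LK LD1_c1 LD2_c17 LD3_c13)) = (LP (LK LD1_c0 LD2_c35 LD3_c43)) :=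
  Lre_e IH (LK LD1_c1 LD2_c17 LD3_c13) (LK LD1_c0 LD2_c35 LD3_c43) Lrfl Lrfl
theorem f761 : Led Lsl_gt (LP (LK LD1_c0 LD2_c59 LD3_c40)) = (LP (LK LD1_c2 LD2_c5 LD3_c10)) :=
  Lre_g IH (LK LD1_c0 LD2_c59 LD3_c40) (LK LD1_c2 LD2_c5 LD3_c10) Lrfl Lrfl
theorem f263140 : Led Lsl_dt (LP (LK LD1_c1 LD2_c17 LD3_c13)) = (LP (LK LD1_c2 LD2_c5 LD3_c10)) :=
  Lgr Lrot37 (Lpr_et (f262831 IH) (Lpr_gt (f262840 IH) (Lpr_dt (K9.f32161 IH) (Lpe (K12.f218726 IH) (Lpr_df (f236416 IH) (Lpr_et (f263138 IH) (Lpr_gt (f197024 IH) (Lpe (K10.f197000 IH) (Lpr_dt (K13.f760 IH) (Lpr_gt (f761 IH) (Lpn (LP (LK LD1_c2 LD2_c5 LD3_c10)))))))))))))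
theorem f188954 : Led Lsl_cf (LP (LK LD1_c8 LD2_c26 LD3_c45)) = (LP (LK LD1_c4 LD2_c16 LD3_c33)) :=
  Lgr Lrot11 (Lpr_ct (K13.f188944 IH) (Lpn (LP (LK LD1_c4 LD2_c16 LD3_c33))))
theorem f188645 : Led Lsl_ct (LP (LK LD1_c4 LD2_c13 LD3_c58)) = (LP (LK LD1_c8 LD2_c26 LD3_c32)) :=
  Lre_c IH (LK LD1_c4 LD2_c13 LD3_c58) (LK LD1_c8 LD2_c26 LD3_c32) Lrfl Lrfl
theorem f188561 : Led Lsl_ct (LP (LK LD1_c4 LD2_c13 LD3_c61)) = (LP (LK LD1_c2 LD2_c4 LD3_c22)) :=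
  Lre_c IH (LK LD1_c4 LD2_c13 LD3_c61) (LK LD1_c2 LD2_c4 LD3_c22) Lrfl Lrfl
theorem f243304 : Led Lsl_dt (LP (LK LD1_c8 LD2_c26 LD3_c42)) = (LP (LK LD1_c4 LD2_c16 LD3_c34)) :=
  Lgr Lrot173 (Lpe (K13.f167371 IH) (Lpe (K14.f167420 IH) (Lpe (K12.f167320 IH) (Lpe (f167328 IH) (Lpe (K13.f188606 IH) (Lpe (K13.f188607 IH) (Lpr_cf (f188954 IH) (Lpr_df (K13.f243284 IH) (Lpe (f188645 IH) (Lpe (K12.f188589 IH) (Lpe (K11.f188571 IH) (Lpe (K10.f188532 IH) (Lpe (f188561 IH) (Lpe (K12.f188567 IH) (Lpr_cf (K13.f221076 IH) (Lpn (LP (LK LD1_c4 LD2_c16 LD3_c34))))))))))))))))))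
theorem f167408 : Led Lsl_gt (LP (LK LD1_c4 LD2_c15 LD3_c37)) = (LP (LK LD1_c8 LD2_c26 LD3_c42)) :=
  Lre_g IH (LK LD1_c4 LD2_c15 LD3_c37) (LK LD1_c8 LD2_c26 LD3_c42) Lrfl Lrfl
theorem f243354 : Led Lsl_ct (LP (LK LD1_c4 LD2_c15 LD3_c37)) = (LP (LK LD1_c2 LD2_c5 LD3_c10)) :=
  Lre_c IH (LK LD1_c4 LD2_c15 LD3_c37) (LK LD1_c2 LD2_c5 LD3_c10) Lrfl Lrfl
theorem f1270 : Led Lsl_dt (LP (LK LD1_c2 LD2_c5 LD3_c34)) = (LP (LK LD1_c0 LD2_c59 LD3_c48)) :=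
  Lre_d IH (LK LD1_c2 LD2_c5 LD3_c34) (LK LD1_c0 LD2_c59 LD3_c48) Lrfl Lrfl
theorem f243355 : Led Lsl_gt (LP (LK LD1_c2 LD2_c5 LD3_c10)) = (LP (LK LD1_c0 LD2_c59 LD3_c44)) :=
  Lgr Lrot94 (Lpe (f243354 IH) (Lpr_gt (f167408 IH) (Lpr_dt (f243304 IH) (Lpr_gt (K12.f1021 IH) (Lpr_dt (f1270 IH) (Lpe (K9.f585 IH) (Lpe (K12.f1403 IH) (Lpe (K12.f755 IH) (Lpe (K14.f1381 IH) (Lpn (LP (LK LD1_c0 LD2_c59 LD3_c44))))))))))))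
theorem f27964 : Led Lsl_et (LP (LK LD1_c0 LD2_c56 LD3_c5)) = (LP (LK LD1_c0 LD2_c56 LD3_c5)) :=
  Lgr Lrot74 (Lpe (K12.f27962 IH) (Lpr_ef (K1.f27951 IH) (Lpe (K12.f27963 IH) (Lpn (LP (LK LD1_c0 LD2_c56 LD3_c5))))))
theorem f263155 : Led Lsl_gf (LP (LK LD1_c0 LD2_c35 LD3_c43)) = (LP (LK LD1_c0 LD2_c56 LD3_c5)) :=
  Lgr Lrot141 (Lpe (f262831 IH) (Lpr_dt (f263140 IH) (Lpr_gt (f243355 IH) (Lpe (K13.f53429 IH) (Lpr_et (K14.f220571 IH) (Lpr_gt (K13.f220579 IH) (Lpe (f236416 IH) (Lpr_gt (K12.f218724 IH) (Lpe (K9.f28092 IH) (Lpr_et (f27964 IH) (Lpn (LP (LK LD1_c0 LD2_c56 LD3_c5)))))))))))))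
theorem f222645 : Led Lsl_dt (LP (LK LD1_c0 LD2_c35 LD3_c43)) = (LP (LK LD1_c1 LD2_c17 LD3_c12)) :=
  Lre_d IH (LK LD1_c0 LD2_c35 LD3_c43) (LK LD1_c1 LD2_c17 LD3_c12) Lrfl Lrfl
theorem f246290 : Led Lsl_cf (LP (LK LD1_c4 LD2_c9 LD3_c23)) = (LP (LK LD1_c2 LD2_c5 LD3_c25)) :=
  Lgr Lrot166 (Lpe (K13.f246281 IH) (Lpr_dt (K13.f51459 IH) (Lpr_gt (K12.f651 IH) (Lpr_dt (K12.f594 IH) (Lpr_ct (K9.f50128 IH) (Lpe (K12.f50132 IH) (Lpr_gf (K10.f196391 IH) (Lpe (K10.f183248 IH) (Lpr_gf (K13.f246285 IH) (Lpn (LP (LK LD1_c2 LD2_c5 LD3_c25))))))))))))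
theorem f263159 : Led Lsl_gt (LP (LK LD1_c1 LD2_c17 LD3_c12)) = (LP (LK LD1_c2 LD2_c11 LD3_c25)) :=
  Lgr Lrot49 (Lpe (f222645 IH) (Lpr_gf (f263155 IH) (Lpe (K12.f28121 IH) (Lpr_gt (K9.f51615 IH) (Lpr_dt (K12.f50153 IH) (Lpe (K14.f250685 IH) (Lpr_dt (K14.f250661 IH) (Lpr_cf (f246290 IH) (Lpe (K14.f246307 IH) (Lpn (LP (LK LD1_c2 LD2_c11 LD3_c25))))))))))))
theorem f263169 : Led Lsl_et (LP (LK LD1_c2 LD2_c5 LD3_c25)) = (LP (LK LD1_c4 LD2_c15 LD3_c9)) :=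
  Lgr Lrot185 (Lpr_dt (K14.f254690 IH) (Lpe (f263159 IH) (Lpe (f222645 IH) (Lpr_gf (f263155 IH) (Lpe (f27964 IH) (Lpr_dt (K9.f28092 IH) (Lpe (K12.f218724 IH) (Lpr_df (f236416 IH) (Lpr_et (f263138 IH) (Lpe (f259642 IH) (Lpn (LP (LK LD1_c4 LD2_c15 LD3_c9)))))))))))))
theorem f173266 : Led Lsl_et (LP (LK LD1_c0 LD2_c28 LD3_c35)) = (LP (LK LD1_c1 LD2_c2 LD3_c43)) :=
  Lre_e IH (LK LD1_c0 LD2_c28 LD3_c35) (LK LD1_c1 LD2_c2 LD3_c43) Lrfl Lrfl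
theorem f263176 : Led Lsl_dt (LP (LK LD1_c2 LD2_c11 LD3_c28)) = (LP (LK LD1_c2 LD2_c39 LD3_c18)) :=
  Lgr Lrot171 (Lpe (f173195 IH) (Lpe (f173266 IH) (Lpr_dt (K12.f173343 IH) (Lpe (K14.f173261 IH) (Lpe (K14.f254690 IH) (Lpr_et (f263169 IH) (Lpe (f48208 IH) (Lpe (K10.f48199 IH) (Lpr_dt (K10.f45142 IH) (Lpe (f257153 IH) (Lpn (LP (LK LD1_c2 LD2_c39 LD3_c18)))))))))))))
theorem f259640 : Led Lsl_et (LP (LK LD1_c4 LD2_c15 LD3_c9)) = (LP (LK LD1_c2 LD2_c5 LD3_c25)) :=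
  Lgr Lrot74 (Lpr_bf (f259633 IH) (Lpe (f230403 IH) (Lpe (K14.f230407 IH) (Lpn (LP (LK LD1_c2 LD2_c5 LD3_c25))))))
theorem f32159 : Led Lsl_dt (LP (LK LD1_c0 LD2_c34 LD3_c38)) = (LP (LK LD1_c1 LD2_c14 LD3_c40)) :=
  Lre_d IH (LK LD1_c0 LD2_c34 LD3_c38) (LK LD1_c1 LD2_c14 LD3_c40) Lrfl Lrfl
theorem f263186 : Led Lsl_et (LP (LK LD1_c2 LD2_c11 LD3_c28)) = (LP (LK LD1_c1 LD2_c14 LD3_c39)) :=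
  Lgr Lrot121 (Lpr_dt (f263176 IH) (Lpe (f183027 IH) (Lpe (K14.f192467 IH) (Lpr_et (f196381 IH) (Lpr_gf (K13.f246285 IH) (Lpe (f259640 IH) (Lpr_dt (f259638 IH) (Lpe (K10.f32454 IH) (Lpe (f32159 IH) (Lpe (K10.f32921 IH) (Lpn (LP (LK LD1_c1 LD2_c14 LD3_c39)))))))))))))
theorem f259306 : Led Lsl_af (LP (LK LD1_c0 LD2_c34 LD3_c43)) = (LP (LK LD1_c1 LD2_c14 LD3_c39)) :=
  Lgr Lrot68 (Lpe (K9.f49103 IH) (Lpr_at (f259300 IH) (Lpr_ct (K10.f190250 IH) (Lpn (LP (LK LD1_c1 LD2_c14 LD3_c39))))))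
theorem f263188 : Led Lsl_af (LP (LK LD1_c2 LD2_c11 LD3_c28)) = (LP (LK LD1_c1 LD2_c14 LD3_c52)) :=
  Lgr Lrot50 (Lpr_et (f263186 IH) (Lpe (f259306 IH) (Lpr_et (K9.f49098 IH) (Lpn (LP (LK LD1_c1 LD2_c14 LD3_c52))))))
theorem f173205 : Led Lsl_gt (LP (LK LD1_c2 LD2_c11 LD3_c29)) = (LP (LK LD1_c1 LD2_c2 LD3_c43)) :=
  Lre_g IH (LK LD1_c2 LD2_c11 LD3_c29) (LK LD1_c1 LD2_c2 LD3_c43) Lrfl Lrfl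
theorem f263196 : Led Lsl_ft (LP (LK LD1_c2 LD2_c11 LD3_c29)) = (LP (LK LD1_c1 LD2_c14 LD3_c52)) :=
  Lgr Lrot2 (Lpr_gt (f173205 IH) (Lpr_gt (f173195 IH) (Lpr_af (f263188 IH) (Lpn (LP (LK LD1_c1 LD2_c14 LD3_c52))))))
theorem f263204 : Led Lsl_ff (LP (LK LD1_c2 LD2_c11 LD3_c29)) = (LP (LK LD1_c1 LD2_c14 LD3_c52)) :=
  Lgr Lrot3 (Lpr_ft (f263196 IH) (Lpn (LP (LK LD1_c1 LD2_c14 LD3_c52))))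
theorem f263208 : Led Lsl_ct (LP (LK LD1_c2 LD2_c11 LD3_c29)) = (LP (LK LD1_c4 LD2_c7 LD3_c61)) :=
  Lgr Lrot40 (Lpr_ff (f263204 IH) (Lpe (f49077 IH) (Lpe (f47757 IH) (Lpn (LP (LK LD1_c4 LD2_c7 LD3_c61))))))
theorem f263210 : Led Lsl_af (LP (LK LD1_c2 LD2_c11 LD3_c29)) = (LP (LK LD1_c2 LD2_c41 LD3_c25)) :=
  Lgr Lrot68 (Lpr_ct (f263208 IH) (Lpe (f259212 IH) (Lpr_ct (f253241 IH) (Lpn (LP (LK LD1_c2 LD2_c41 LD3_c25))))))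
theorem f263216 : Led Lsl_ft (LP (LK LD1_c2 LD2_c11 LD3_c28)) = (LP (LK LD1_c2 LD2_c41 LD3_c25)) :=
  Lgr Lrot101 (Lpr_af (f263188 IH) (Lpe (f263196 IH) (Lpr_af (f263210 IH) (Lpn (LP (LK LD1_c2 LD2_c41 LD3_c25))))))
theorem f263222 : Led Lsl_ff (LP (LK LD1_c2 LD2_c11 LD3_c28)) = (LP (LK LD1_c2 LD2_c41 LD3_c25)) :=
  Lgr Lrot3 (Lpr_ft (f263216 IH) (Lpn (LP (LK LD1_c2 LD2_c41 LD3_c25))))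
theorem f263226 : Led Lsl_ft (LP (LK LD1_c2 LD2_c39 LD3_c18)) = (LP (LK LD1_c2 LD2_c58 LD3_c61)) :=
  Lgr Lrot54 (Lpe (f263176 IH) (Lpr_ff (f263222 IH) (Lpr_df (f260411 IH) (Lpn (LP (LK LD1_c2 LD2_c58 LD3_c61))))))
theorem f216160 : Led Lsl_df (LP (LK LD1_c8 LD2_c29 LD3_c30)) = (LP (LK LD1_c10 LD2_c19 LD3_c28)) :=
  Lgr Lrot38 (Lpr_dt (f216144 IH) (Lpn (LP (LK LD1_c10 LD2_c19 LD3_c28))))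
theorem f190967 : Led Lsl_gt (LP (LK LD1_c2 LD2_c39 LD3_c19)) = (LP (LK LD1_c1 LD2_c16 LD3_c26)) :=
  Lre_g IH (LK LD1_c2 LD2_c39 LD3_c19) (LK LD1_c1 LD2_c16 LD3_c26) Lrfl Lrfl
theorem f216171 : Led Lsl_ct (LP (LK LD1_c2 LD2_c39 LD3_c19)) = (LP (LK LD1_c5 LD2_c25 LD3_c52)) :=
  Lre_c IH (LK LD1_c2 LD2_c39 LD3_c19) (LK LD1_c5 LD2_c25 LD3_c52) Lrfl Lrfl
theorem f216172 : Led Lsl_gt (LP (LK LD1_c5 LD2_c25 LD3_c52)) = (LP (LK LD1_c10 LD2_c19 LD3_c28)) :=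
  Lgr Lrot94 (Lpe (f216171 IH) (Lpr_gt (f190967 IH) (Lpr_dt (f190963 IH) (Lpr_gt (K10.f192353 IH) (Lpr_dt (K1.f45139 IH) (Lpe (K1.f45179 IH) (Lpe (K1.f45274 IH) (Lpe (K14.f45643 IH) (Lpr_df (f216160 IH) (Lpn (LP (LK LD1_c10 LD2_c19 LD3_c28))))))))))))
theorem f216176 : Led Lsl_gf (LP (LK LD1_c2 LD2_c39 LD3_c19)) = (LP (LK LD1_c2 LD2_c4 LD3_c58)) :=
  Lgr Lrot147 (Lpr_ct (f216171 IH) (Lpr_gt (f216172 IH) (Lpr_ct (f212250 IH) (Lpe (f212249 IH) (Lpe (K12.f32435 IH) (Lpe (K10.f32428 IH) (Lpr_cf (K10.f45245 IH) (Lpe (K10.f45107 IH) (Lpe (K10.f45148 IH) (Lpn (LP (LK LD1_c2 LD2_c4 LD3_c58))))))))))))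
theorem f263232 : Led Lsl_af (LP (LK LD1_c2 LD2_c39 LD3_c19)) = (LP (LK LD1_c2 LD2_c58 LD3_c61)) :=
  Lgr Lrot31 (Lpr_gf (f216176 IH) (Lpe (f257153 IH) (Lpr_ft (f263226 IH) (Lpn (LP (LK LD1_c2 LD2_c58 LD3_c61))))))
theorem f263212 : Led Lsl_at (LP (LK LD1_c2 LD2_c11 LD3_c29)) = (LP (LK LD1_c2 LD2_c41 LD3_c25)) :=
  Lgr Lrot100 (Lpr_af (f263210 IH) (Lpn (LP (LK LD1_c2 LD2_c41 LD3_c25))))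
theorem f263238 : Led Lsl_dt (LP (LK LD1_c2 LD2_c39 LD3_c19)) = (LP (LK LD1_c2 LD2_c11 LD3_c29)) :=
  Lgr Lrot44 (Lpr_af (f263232 IH) (Lpe (f260407 IH) (Lpe (f263212 IH) (Lpn (LP (LK LD1_c2 LD2_c11 LD3_c29))))))
theorem f263200 : Led Lsl_cf (LP (LK LD1_c2 LD2_c11 LD3_c29)) = (LP (LK LD1_c4 LD2_c7 LD3_c61)) :=
  Lgr Lrot108 (Lpr_ft (f263196 IH) (Lpe (K9.f49080 IH) (Lpr_ft (f47758 IH) (Lpn (LP (LK LD1_c4 LD2_c7 LD3_c61))))))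
theorem f263248 : Led Lsl_gt (LP (LK LD1_c2 LD2_c34 LD3_c23)) = (LP (LK LD1_c5 LD2_c5 LD3_c37)) :=
  Lgr Lrot49 (Lpe (K14.f32883 IH) (Lpe (K9.f32877 IH) (Lpr_cf (K1.f45356 IH) (Lpr_gt (K10.f45137 IH) (Lpr_dt (K10.f45142 IH) (Lpe (f216176 IH) (Lpr_dt (f263238 IH) (Lpr_cf (f263200 IH) (Lpe (f259223 IH) (Lpn (LP (LK LD1_c5 LD2_c5 LD3_c37))))))))))))
theorem f263260 : Led Lsl_ft (LP (LK LD1_c2 LD2_c32 LD3_c55)) = (LP (LK LD1_c2 LD2_c30 LD3_c2)) :=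
  Lgr Lrot2 (Lpr_gt (K14.f252553 IH) (Lpr_gt (f263248 IH) (Lpe (f212206 IH) (Lpn (LP (LK LD1_c2 LD2_c30 LD3_c2))))))
theorem f263392 : Led Lsl_ff (LP (LK LD1_c2 LD2_c32 LD3_c55)) = (LP (LK LD1_c2 LD2_c30 LD3_c2)) :=
  Lgr Lrot3 (Lpr_ft (f263260 IH) (Lpn (LP (LK LD1_c2 LD2_c30 LD3_c2))))
theorem f185674 : Led Lsl_ft (LP (LK LD1_c5 LD2_c12 LD3_c10)) = (LP (LK LD1_c10 LD2_c15 LD3_c7)) :=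
  Lre_f IH (LK LD1_c5 LD2_c12 LD3_c10) (LK LD1_c10 LD2_c15 LD3_c7) Lrfl Lrfl
theorem f263398 : Led Lsl_et (LP (LK LD1_c10 LD2_c15 LD3_c7)) = (LP (LK LD1_c5 LD2_c13 LD3_c22)) :=
  Lgr Lrot69 (Lpe (f185674 IH) (Lpe (K12.f185668 IH) (Lpr_ff (f263392 IH) (Lpr_ef (f212144 IH) (Lpe (f261829 IH) (Lpn (LP (LK LD1_c5 LD2_c13 LD3_c22))))))))
theorem f185645 : Led Lsl_bt (LP (LK LD1_c5 LD2_c12 LD3_c13)) = (LP (LK LD1_c10 LD2_c15 LD3_c7)) :=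
  Lre_b IH (LK LD1_c5 LD2_c12 LD3_c13) (LK LD1_c10 LD2_c15 LD3_c7) Lrfl Lrfl
theorem f185646 : Led Lsl_bt (LP (LK LD1_c5 LD2_c26 LD3_c13)) = (LP (LK LD1_c2 LD2_c39 LD3_c37)) :=
  Lre_b IH (LK LD1_c5 LD2_c26 LD3_c13) (LK LD1_c2 LD2_c39 LD3_c37) Lrfl Lrfl
theorem f185647 : Led Lsl_dt (LP (LK LD1_c10 LD2_c15 LD3_c7)) = (LP (LK LD1_c5 LD2_c26 LD3_c13)) :=
  Lgr Lrot79 (Lpe (f185645 IH) (Lpr_df (K12.f185636 IH) (Lpe (f185646 IH) (Lpn (LP (LK LD1_c5 LD2_c26 LD3_c13))))))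
theorem f230004 : Led Lsl_ft (LP (LK LD1_c5 LD2_c17 LD3_c5)) = (LP (LK LD1_c10 LD2_c23 LD3_c48)) :=
  Lre_f IH (LK LD1_c5 LD2_c17 LD3_c5) (LK LD1_c10 LD2_c23 LD3_c48) Lrfl Lrfl
theorem f262094 : Led Lsl_df (LP (LK LD1_c8 LD2_c15 LD3_c59)) = (LP (LK LD1_c10 LD2_c23 LD3_c48)) :=
  Lgr Lrot78 (Lpr_ft (f262090 IH) (Lpr_dt (K14.f254474 IH) (Lpr_ft (f230004 IH) (Lpn (LP (LK LD1_c10 LD2_c23 LD3_c48))))))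
theorem f690 : Led Lsl_et (LP (LK LD1_c4 LD2_c15 LD3_c48)) = (LP (LK LD1_c2 LD2_c5 LD3_c15)) :=
  Lre_e IH (LK LD1_c4 LD2_c15 LD3_c48) (LK LD1_c2 LD2_c5 LD3_c15) Lrfl Lrfl
theorem f251207 : Led Lsl_ft (LP (LK LD1_c2 LD2_c35 LD3_c40)) = (LP (LK LD1_c5 LD2_c17 LD3_c55)) :=
  Lre_f IH (LK LD1_c2 LD2_c35 LD3_c40) (LK LD1_c5 LD2_c17 LD3_c55) Lrfl Lrfl
theorem f251208 : Led Lsl_ef (LP (LK LD1_c8 LD2_c30 LD3_c43)) = (LP (LK LD1_c5 LD2_c17 LD3_c55)) :=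
  Lgr Lrot21 (Lpr_ft (K14.f243129 IH) (Lpr_et (f690 IH) (Lpr_ft (K14.f251199 IH) (Lpr_et (K14.f251187 IH) (Lpr_ft (f251207 IH) (Lpn (LP (LK LD1_c5 LD2_c17 LD3_c55))))))))
theorem f251142 : Led Lsl_at (LP (LK LD1_c8 LD2_c30 LD3_c43)) = (LP (LK LD1_c5 LD2_c18 LD3_c0)) :=
  Lgr Lrot100 (Lpr_af (K14.f251138 IH) (Lpn (LP (LK LD1_c5 LD2_c18 LD3_c0))))
theorem f230010 : Led Lsl_ft (LP (LK LD1_c10 LD2_c23 LD3_c48)) = (LP (LK LD1_c5 LD2_c17 LD3_c5)) :=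
  Lre_f IH (LK LD1_c10 LD2_c23 LD3_c48) (LK LD1_c5 LD2_c17 LD3_c5) Lrfl Lrfl
theorem f251171 : Led Lsl_ef (LP (LK LD1_c10 LD2_c23 LD3_c48)) = (LP (LK LD1_c5 LD2_c18 LD3_c0)) :=
  Lgr Lrot21 (Lpr_ft (f230010 IH) (Lpr_et (K14.f32218 IH) (Lpr_ft (K14.f251165 IH) (Lpr_et (K10.f48264 IH) (Lpr_ft (K14.f48286 IH) (Lpn (LP (LK LD1_c5 LD2_c18 LD3_c0))))))))
theorem f251243 : Led Lsl_at (LP (LK LD1_c10 LD2_c23 LD3_c48)) = (LP (LK LD1_c5 LD2_c17 LD3_c55)) :=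
  Lgr Lrot80 (Lpr_ef (f251171 IH) (Lpe (f251142 IH) (Lpr_ef (f251208 IH) (Lpn (LP (LK LD1_c5 LD2_c17 LD3_c55))))))
theorem f251245 : Led Lsl_af (LP (LK LD1_c10 LD2_c23 LD3_c48)) = (LP (LK LD1_c5 LD2_c17 LD3_c55)) :=
  Lgr Lrot0 (Lpr_at (f251243 IH) (Lpn (LP (LK LD1_c5 LD2_c17 LD3_c55))))
theorem f262103 : Led Lsl_df (LP (LK LD1_c5 LD2_c17 LD3_c55)) = (LP (LK LD1_c5 LD2_c26 LD3_c12)) :=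
  Lgr Lrot18 (Lpe (f251245 IH) (Lpe (f262094 IH) (Lpr_at (f262098 IH) (Lpn (LP (LK LD1_c5 LD2_c26 LD3_c12))))))
theorem f251196 : Led Lsl_ft (LP (LK LD1_c5 LD2_c17 LD3_c55)) = (LP (LK LD1_c2 LD2_c35 LD3_c40)) :=
  Lre_f IH (LK LD1_c5 LD2_c17 LD3_c55) (LK LD1_c2 LD2_c35 LD3_c40) Lrfl Lrfl
theorem f262119 : Led Lsl_df (LP (LK LD1_c2 LD2_c41 LD3_c13)) = (LP (LK LD1_c2 LD2_c35 LD3_c40)) :=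
  Lgr Lrot78 (Lpr_ft (f262115 IH) (Lpe (f262103 IH) (Lpr_ft (f251196 IH) (Lpn (LP (LK LD1_c2 LD2_c35 LD3_c40))))))
theorem f263404 : Led Lsl_gt (LP (LK LD1_c5 LD2_c26 LD3_c13)) = (LP (LK LD1_c2 LD2_c41 LD3_c13)) :=
  Lgr Lrot112 (Lpe (f185647 IH) (Lpr_et (f263398 IH) (Lpe (f263019 IH) (Lpe (f48338 IH) (Lpr_dt (f48337 IH) (Lpe (K9.f32172 IH) (Lpe (K1.f32168 IH) (Lpe (K10.f32174 IH) (Lpe (K14.f32191 IH) (Lpe (f262119 IH) (Lpn (LP (LK LD1_c2 LD2_c41 LD3_c13)))))))))))))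
theorem f185663 : Led Lsl_ft (LP (LK LD1_c5 LD2_c26 LD3_c13)) = (LP (LK LD1_c2 LD2_c39 LD3_c32)) :=
  Lre_f IH (LK LD1_c5 LD2_c26 LD3_c13) (LK LD1_c2 LD2_c39 LD3_c32) Lrfl Lrfl
theorem f262101 : Led Lsl_af (LP (LK LD1_c8 LD2_c15 LD3_c59)) = (LP (LK LD1_c5 LD2_c26 LD3_c12)) :=
  Lgr Lrot0 (Lpr_at (f262098 IH) (Lpn (LP (LK LD1_c5 LD2_c26 LD3_c12))))
theorem f262123 : Led Lsl_gt (LP (LK LD1_c2 LD2_c41 LD3_c13)) = (LP (LK LD1_c4 LD2_c7 LD3_c59)) :=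
  Lgr Lrot5 (Lpr_ft (f262115 IH) (Lpe (f262101 IH) (Lpe (f47772 IH) (Lpn (LP (LK LD1_c4 LD2_c7 LD3_c59))))))
theorem f263408 : Led Lsl_at (LP (LK LD1_c2 LD2_c39 LD3_c32)) = (LP (LK LD1_c4 LD2_c7 LD3_c59)) :=
  Lgr Lrot26 (Lpe (f185663 IH) (Lpr_gt (f263404 IH) (Lpr_gt (f262123 IH) (Lpn (LP (LK LD1_c4 LD2_c7 LD3_c59))))))
theorem f263419 : Led Lsl_af (LP (LK LD1_c1 LD2_c16 LD3_c31)) = (LP (LK LD1_c2 LD2_c1 LD3_c21)) :=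
  Lgr Lrot50 (Lpr_et (K14.f185689 IH) (Lpr_at (f263408 IH) (Lpr_et (K10.f47753 IH) (Lpn (LP (LK LD1_c2 LD2_c1 LD3_c21))))))
theorem f49105 : Led Lsl_ct (LP (LK LD1_c4 LD2_c7 LD3_c58)) = (LP (LK LD1_c2 LD2_c1 LD3_c21)) :=
  Lre_c IH (LK LD1_c4 LD2_c7 LD3_c58) (LK LD1_c2 LD2_c1 LD3_c21) Lrfl Lrfl
theorem f263448 : Led Lsl_at (LP (LK LD1_c2 LD2_c39 LD3_c31)) = (LP (LK LD1_c4 LD2_c7 LD3_c58)) :=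
  Lgr Lrot107 (Lpe (K12.f191147 IH) (Lpr_af (f263419 IH) (Lpe (f49105 IH) (Lpn (LP (LK LD1_c4 LD2_c7 LD3_c58))))))
theorem f263459 : Led Lsl_ff (LP (LK LD1_c2 LD2_c39 LD3_c31)) = (LP (LK LD1_c2 LD2_c58 LD3_c51)) :=
  Lgr Lrot103 (Lpr_at (f263448 IH) (Lpe (K10.f49109 IH) (Lpe (K10.f47781 IH) (Lpr_cf (K9.f49103 IH) (Lpe (f48337 IH) (Lpe (f49108 IH) (Lpe (f49111 IH) (Lpr_cf (f188211 IH) (Lpe (f182085 IH) (Lpn (LP (LK LD1_c2 LD2_c58 LD3_c51))))))))))))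
theorem f181204 : Led Lsl_gt (LP (LK LD1_c2 LD2_c58 LD3_c51)) = (LP (LK LD1_c6 LD2_c5 LD3_c28)) :=
  Lre_g IH (LK LD1_c2 LD2_c58 LD3_c51) (LK LD1_c6 LD2_c5 LD3_c28) Lrfl Lrfl
theorem f263475 : Led Lsl_gf (LP (LK LD1_c4 LD2_c7 LD3_c58)) = (LP (LK LD1_c6 LD2_c5 LD3_c28)) :=
  Lgr Lrot76 (Lpe (f263448 IH) (Lpr_ff (f263459 IH) (Lpr_gt (f181204 IH) (Lpn (LP (LK LD1_c6 LD2_c5 LD3_c28))))))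
theorem f54047 : Led Lsl_dt (LP (LK LD1_c2 LD2_c35 LD3_c25)) = (LP (LK LD1_c1 LD2_c14 LD3_c45)) :=
  Lre_d IH (LK LD1_c2 LD2_c35 LD3_c25) (LK LD1_c1 LD2_c14 LD3_c45) Lrfl Lrfl
theorem f187768 : Led Lsl_ct (LP (LK LD1_c4 LD2_c6 LD3_c28)) = (LP (LK LD1_c8 LD2_c13 LD3_c31)) :=
  Lre_c IH (LK LD1_c4 LD2_c6 LD3_c28) (LK LD1_c8 LD2_c13 LD3_c31) Lrfl Lrfl
theorem f184391 : Led Lsl_ef (LP (LK LD1_c1 LD2_c9 LD3_c28)) = (LP (LK LD1_c1 LD2_c15 LD3_c61)) :=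
  Lgr Lrot88 (Lpr_et (K14.f184385 IH) (Lpn (LP (LK LD1_c1 LD2_c15 LD3_c61))))
theorem f184393 : Led Lsl_bt (LP (LK LD1_c0 LD2_c35 LD3_c40)) = (LP (LK LD1_c1 LD2_c15 LD3_c61)) :=
  Lgr Lrot119 (Lpr_ef (K0.f7933 IH) (Lpe (K14.f7927 IH) (Lpr_ef (f184391 IH) (Lpn (LP (LK LD1_c1 LD2_c15 LD3_c61))))))
theorem f184390 : Led Lsl_dt (LP (LK LD1_c1 LD2_c15 LD3_c61)) = (LP (LK LD1_c2 LD2_c38 LD3_c7)) :=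
  Lre_d IH (LK LD1_c1 LD2_c15 LD3_c61) (LK LD1_c2 LD2_c38 LD3_c7) Lrfl Lrfl
theorem f184396 : Led Lsl_bf (LP (LK LD1_c1 LD2_c17 LD3_c9)) = (LP (LK LD1_c2 LD2_c38 LD3_c7)) :=
  Lgr Lrot93 (Lpr_dt (K9.f7942 IH) (Lpr_bt (f184393 IH) (Lpr_dt (f184390 IH) (Lpn (LP (LK LD1_c2 LD2_c38 LD3_c7))))))
theorem f184402 : Led Lsl_ct (LP (LK LD1_c2 LD2_c38 LD3_c7)) = (LP (LK LD1_c5 LD2_c23 LD3_c19)) :=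
  Lre_c IH (LK LD1_c2 LD2_c38 LD3_c7) (LK LD1_c5 LD2_c23 LD3_c19) Lrfl Lrfl
theorem f187776 : Led Lsl_dt (LP (LK LD1_c4 LD2_c6 LD3_c28)) = (LP (LK LD1_c2 LD2_c0 LD3_c34)) :=
  Lre_d IH (LK LD1_c4 LD2_c6 LD3_c28) (LK LD1_c2 LD2_c0 LD3_c34) Lrfl Lrfl
theorem f187799 : Led Lsl_bf (LP (LK LD1_c4 LD2_c6 LD3_c28)) = (LP (LK LD1_c4 LD2_c5 LD3_c3)) :=
  Lgr Lrot93 (Lpr_dt (f187776 IH) (Lpr_bt (f187795 IH) (Lpr_dt (f46244 IH) (Lpn (LP (LK LD1_c4 LD2_c5 LD3_c3))))))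
theorem f187801 : Led Lsl_bt (LP (LK LD1_c4 LD2_c6 LD3_c28)) = (LP (LK LD1_c4 LD2_c5 LD3_c3)) :=
  Lgr Lrot127 (Lpr_bf (f187799 IH) (Lpn (LP (LK LD1_c4 LD2_c5 LD3_c3))))
theorem f259590 : Led Lsl_gf (LP (LK LD1_c5 LD2_c23 LD3_c19)) = (LP (LK LD1_c8 LD2_c13 LD3_c31)) :=
  Lgr Lrot126 (Lpe (f184402 IH) (Lpe (f184396 IH) (Lpe (K9.f181195 IH) (Lpr_ct (K10.f181190 IH) (Lpe (f193955 IH) (Lpe (K10.f21296 IH) (Lpr_bt (K10.f192147 IH) (Lpr_gt (f259577 IH) (Lpe (f187801 IH) (Lpr_ct (f187768 IH) (Lpn (LP (LK LD1_c8 LD2_c13 LD3_c31)))))))))))))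
theorem f260275 : Led Lsl_ct (LP (LK LD1_c5 LD2_c17 LD3_c13)) = (LP (LK LD1_c6 LD2_c5 LD3_c28)) :=
  Lgr Lrot10 (Lpe (K14.f192297 IH) (Lpr_gt (f260271 IH) (Lpr_ct (f187768 IH) (Lpe (f259590 IH) (Lpe (f184402 IH) (Lpe (f184396 IH) (Lpe (K9.f181195 IH) (Lpe (f181202 IH) (Lpr_ct (f181203 IH) (Lpr_gt (f181204 IH) (Lpn (LP (LK LD1_c6 LD2_c5 LD3_c28)))))))))))))
theorem f263477 : Led Lsl_gf (LP (LK LD1_c2 LD2_c35 LD3_c25)) = (LP (LK LD1_c5 LD2_c17 LD3_c13)) :=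
  Lgr Lrot144 (Lpr_dt (f54047 IH) (Lpr_gt (K10.f32091 IH) (Lpr_dt (K9.f32077 IH) (Lpe (K10.f32995 IH) (Lpe (f50795 IH) (Lpe (K10.f188198 IH) (Lpe (f49110 IH) (Lpr_gf (f263475 IH) (Lpe (f260275 IH) (Lpn (LP (LK LD1_c5 LD2_c17 LD3_c13))))))))))))
theorem f33046 : Led Lsl_dt (LP (LK LD1_c1 LD2_c14 LD3_c46)) = (LP (LK LD1_c0 LD2_c34 LD3_c41)) :=
  Lre_d IH (LK LD1_c1 LD2_c14 LD3_c46) (LK LD1_c0 LD2_c34 LD3_c41) Lrfl Lrfl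
theorem f54048 : Led Lsl_et (LP (LK LD1_c9 LD2_c51 LD3_c27)) = (LP (LK LD1_c5 LD2_c0 LD3_c35)) :=
  Lre_e IH (LK LD1_c9 LD2_c51 LD3_c27) (LK LD1_c5 LD2_c0 LD3_c35) Lrfl Lrfl
theorem f263554 : Led Lsl_gt (LP (LK LD1_c10 LD2_c9 LD3_c55)) = (LP (LK LD1_c8 LD2_c26 LD3_c17)) :=
  Lgr Lrot112 (Lpe (f246176 IH) (Lpr_et (f54048 IH) (Lpe (K13.f49157 IH) (Lpe (K9.f54035 IH) (Lpr_dt (f33046 IH) (Lpe (K10.f32091 IH) (Lpe (f54047 IH) (Lpr_gf (f263477 IH) (Lpe (K14.f49181 IH) (Lpe (K14.f49169 IH) (Lpn (LP (LK LD1_c8 LD2_c26 LD3_c17)))))))))))))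
theorem f252180 : Led Lsl_at (LP (LK LD1_c6 LD2_c5 LD3_c43)) = (LP (LK LD1_c8 LD2_c26 LD3_c17)) :=
  Lgr Lrot100 (Lpr_af (K14.f252176 IH) (Lpn (LP (LK LD1_c8 LD2_c26 LD3_c17))))
theorem f263557 : Led Lsl_gf (LP (LK LD1_c10 LD2_c9 LD3_c55)) = (LP (LK LD1_c11 LD2_c54 LD3_c59)) :=
  Lgr Lrot47 (Lpr_gt (f263554 IH) (Lpe (f252180 IH) (Lpe (K14.f195630 IH) (Lpn (LP (LK LD1_c11 LD2_c54 LD3_c59))))))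
theorem f222456 : Led Lsl_et (LP (LK LD1_c8 LD2_c17 LD3_c8)) = (LP (LK LD1_c4 LD2_c8 LD3_c31)) :=
  Lre_e IH (LK LD1_c8 LD2_c17 LD3_c8) (LK LD1_c4 LD2_c8 LD3_c31) Lrfl Lrfl
theorem f222454 : Led Lsl_dt (LP (LK LD1_c8 LD2_c17 LD3_c8)) = (LP (LK LD1_c8 LD2_c17 LD3_c8)) :=
  Lgr Lrot60 (Lpr_ff (K12.f222444 IH) (Lpr_df (K10.f32934 IH) (Lpe (K12.f222438 IH) (Lpn (LP (LK LD1_c8 LD2_c17 LD3_c8))))))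
theorem f32942 : Led Lsl_gt (LP (LK LD1_c10 LD2_c24 LD3_c30)) = (LP (LK LD1_c5 LD2_c17 LD3_c28)) :=
  Lre_g IH (LK LD1_c10 LD2_c24 LD3_c30) (LK LD1_c5 LD2_c17 LD3_c28) Lrfl Lrfl
theorem f222446 : Led Lsl_gt (LP (LK LD1_c8 LD2_c17 LD3_c8)) = (LP (LK LD1_c10 LD2_c24 LD3_c30)) :=
  Lgr Lrot5 (Lpr_ft (K12.f222438 IH) (Lpr_at (K10.f32932 IH) (Lpe (f32942 IH) (Lpn (LP (LK LD1_c10 LD2_c24 LD3_c30))))))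
theorem f32945 : Led Lsl_dt (LP (LK LD1_c18 LD2_c52 LD3_c59)) = (LP (LK LD1_c10 LD2_c24 LD3_c30)) :=
  Lre_d IH (LK LD1_c18 LD2_c52 LD3_c59) (LK LD1_c10 LD2_c24 LD3_c30) Lrfl Lrfl
theorem f49180 : Led Lsl_gt (LP (LK LD1_c10 LD2_c24 LD3_c3)) = (LP (LK LD1_c18 LD2_c52 LD3_c21)) :=
  Lre_g IH (LK LD1_c10 LD2_c24 LD3_c3) (LK LD1_c18 LD2_c52 LD3_c21) Lrfl Lrfl
theorem f259701 : Led Lsl_ef (LP (LK LD1_c18 LD2_c52 LD3_c21)) = (LP (LK LD1_c18 LD2_c52 LD3_c59)) :=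
  Lgr Lrot17 (Lpe (f49180 IH) (Lpe (K14.f49168 IH) (Lpe (K10.f49163 IH) (Lpr_gf (f259697 IH) (Lpe (K10.f188529 IH) (Lpr_gf (K10.f188520 IH) (Lpe (K10.f32118 IH) (Lpr_dt (K10.f32119 IH) (Lpe (f32942 IH) (Lpe (f32945 IH) (Lpn (LP (LK LD1_c18 LD2_c52 LD3_c59)))))))))))))
theorem f190832 : Led Lsl_et (LP (LK LD1_c2 LD2_c1 LD3_c54)) = (LP (LK LD1_c4 LD2_c9 LD3_c3)) :=
  Lre_e IH (LK LD1_c2 LD2_c1 LD3_c54) (LK LD1_c4 LD2_c9 LD3_c3) Lrfl Lrfl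
theorem f190848 : Led Lsl_gt (LP (LK LD1_c4 LD2_c9 LD3_c3)) = (LP (LK LD1_c8 LD2_c18 LD3_c9)) :=
  Lre_g IH (LK LD1_c4 LD2_c9 LD3_c3) (LK LD1_c8 LD2_c18 LD3_c9) Lrfl Lrfl
theorem f222465 : Led Lsl_et (LP (LK LD1_c15 LD2_c36 LD3_c49)) = (LP (LK LD1_c8 LD2_c18 LD3_c9)) :=
  Lre_e IH (LK LD1_c15 LD2_c36 LD3_c49) (LK LD1_c8 LD2_c18 LD3_c9) Lrfl Lrfl
theorem f263559 : Led Lsl_dt (LP (LK LD1_c15 LD2_c36 LD3_c49)) = (LP (LK LD1_c11 LD2_c54 LD3_c59)) :=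
  Lgr Lrot136 (Lpr_et (f222465 IH) (Lpe (f190848 IH) (Lpe (f190832 IH) (Lpr_dt (K12.f190822 IH) (Lpe (K13.f222224 IH) (Lpe (K12.f222221 IH) (Lpr_gf (K13.f222461 IH) (Lpe (f54048 IH) (Lpr_dt (f246176 IH) (Lpr_gf (f263557 IH) (Lpn (LP (LK LD1_c11 LD2_c54 LD3_c59)))))))))))))
theorem f263561 : Led Lsl_gt (LP (LK LD1_c18 LD2_c52 LD3_c21)) = (LP (LK LD1_c15 LD2_c36 LD3_c49)) :=
  Lgr Lrot137 (Lpr_ef (f259701 IH) (Lpr_dt (f32945 IH) (Lpe (f222446 IH) (Lpe (f222454 IH) (Lpr_et (f222456 IH) (Lpr_gf (K13.f222461 IH) (Lpe (f54048 IH) (Lpr_dt (f246176 IH) (Lpr_gf (f263557 IH) (Lpe (f263559 IH) (Lpn (LP (LK LD1_c15 LD2_c36 LD3_c49)))))))))))))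
theorem f263563 : Led Lsl_at (LP (LK LD1_c18 LD2_c52 LD3_c22)) = (LP (LK LD1_c15 LD2_c36 LD3_c49)) :=
  Lgr Lrot26 (Lpe (K14.f49178 IH) (Lpr_gt (f49180 IH) (Lpr_gt (f263561 IH) (Lpn (LP (LK LD1_c15 LD2_c36 LD3_c49))))))
theorem f252156 : Led Lsl_bt (LP (LK LD1_c10 LD2_c7 LD3_c57)) = (LP (LK LD1_c5 LD2_c8 LD3_c53)) :=
  Lre_b IH (LK LD1_c10 LD2_c7 LD3_c57) (LK LD1_c5 LD2_c8 LD3_c53) Lrfl Lrfl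
theorem f192302 : Led Lsl_bf (LP (LK LD1_c15 LD2_c27 LD3_c46)) = (LP (LK LD1_c10 LD2_c24 LD3_c3)) :=
  Lgr Lrot24 (Lpr_bt (K14.f192300 IH) (Lpn (LP (LK LD1_c10 LD2_c24 LD3_c3))))
theorem f252157 : Led Lsl_at (LP (LK LD1_c11 LD2_c54 LD3_c58)) = (LP (LK LD1_c10 LD2_c24 LD3_c3)) :=
  Lgr Lrot67 (Lpr_bf (K14.f195612 IH) (Lpe (K14.f239815 IH) (Lpe (f252156 IH) (Lpr_af (K14.f252152 IH) (Lpr_bf (f192302 IH) (Lpn (LP (LK LD1_c10 LD2_c24 LD3_c3))))))))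
theorem f263570 : Led Lsl_ff (LP (LK LD1_c11 LD2_c54 LD3_c58)) = (LP (LK LD1_c15 LD2_c36 LD3_c49)) :=
  Lgr Lrot30 (Lpr_at (f252157 IH) (Lpr_ft (K14.f49178 IH) (Lpr_at (f263563 IH) (Lpn (LP (LK LD1_c15 LD2_c36 LD3_c49))))))
theorem f263576 : Led Lsl_ft (LP (LK LD1_c11 LD2_c54 LD3_c58)) = (LP (LK LD1_c15 LD2_c36 LD3_c49)) :=
  Lgr Lrot48 (Lpr_ff (f263570 IH) (Lpn (LP (LK LD1_c15 LD2_c36 LD3_c49))))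
theorem f195689 : Led Lsl_et (LP (LK LD1_c6 LD2_c5 LD3_c44)) = (LP (LK LD1_c11 LD2_c54 LD3_c58)) :=
  Lre_e IH (LK LD1_c6 LD2_c5 LD3_c44) (LK LD1_c11 LD2_c54 LD3_c58) Lrfl Lrfl
theorem f239865 : Led Lsl_bt (LP (LK LD1_c4 LD2_c52 LD3_c57)) = (LP (LK LD1_c9 LD2_c37 LD3_c44)) :=
  Lre_b IH (LK LD1_c4 LD2_c52 LD3_c57) (LK LD1_c9 LD2_c37 LD3_c44) Lrfl Lrfl
theorem f257862 : Led Lsl_et (LP (LK LD1_c9 LD2_c37 LD3_c44)) = (LP (LK LD1_c5 LD2_c17 LD3_c14)) :=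
  Lgr Lrot74 (Lpe (f239865 IH) (Lpe (f239518 IH) (Lpr_bf (f257843 IH) (Lpn (LP (LK LD1_c5 LD2_c17 LD3_c14))))))
theorem f263578 : Led Lsl_ff (LP (LK LD1_c9 LD2_c37 LD3_c44)) = (LP (LK LD1_c8 LD2_c18 LD3_c9)) :=
  Lgr Lrot72 (Lpr_et (f257862 IH) (Lpe (f257870 IH) (Lpr_et (f195689 IH) (Lpr_ft (f263576 IH) (Lpr_et (f222465 IH) (Lpn (LP (LK LD1_c8 LD2_c18 LD3_c9))))))))
theorem f263584 : Led Lsl_ft (LP (LK LD1_c9 LD2_c37 LD3_c44)) = (LP (LK LD1_c8 LD2_c18 LD3_c9)) :=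
  Lgr Lrot48 (Lpr_ff (f263578 IH) (Lpn (LP (LK LD1_c8 LD2_c18 LD3_c9))))
theorem f170349 : Led Lsl_dt (LP (LK LD1_c4 LD2_c52 LD3_c54)) = (LP (LK LD1_c9 LD2_c37 LD3_c44)) :=
  Lre_d IH (LK LD1_c4 LD2_c52 LD3_c54) (LK LD1_c9 LD2_c37 LD3_c44) Lrfl Lrfl
theorem f170371 : Led Lsl_ft (LP (LK LD1_c9 LD2_c37 LD3_c45)) = (LP (LK LD1_c4 LD2_c52 LD3_c54)) :=
  Lre_f IH (LK LD1_c9 LD2_c37 LD3_c45) (LK LD1_c4 LD2_c52 LD3_c54) Lrfl Lrfl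
theorem f263588 : Led Lsl_df (LP (LK LD1_c9 LD2_c37 LD3_c45)) = (LP (LK LD1_c8 LD2_c18 LD3_c9)) :=
  Lgr Lrot78 (Lpr_ft (f170371 IH) (Lpr_dt (f170349 IH) (Lpr_ft (f263584 IH) (Lpn (LP (LK LD1_c8 LD2_c18 LD3_c9))))))
theorem f263574 : Led Lsl_dt (LP (LK LD1_c11 LD2_c54 LD3_c59)) = (LP (LK LD1_c15 LD2_c36 LD3_c49)) :=
  Lgr Lrot60 (Lpe (K14.f195641 IH) (Lpe (K14.f183703 IH) (Lpr_ff (f263570 IH) (Lpn (LP (LK LD1_c15 LD2_c36 LD3_c49))))))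
theorem f195636 : Led Lsl_bt (LP (LK LD1_c11 LD2_c54 LD3_c59)) = (LP (LK LD1_c8 LD2_c4 LD3_c8)) :=
  Lgr Lrot127 (Lpr_bf (K14.f195632 IH) (Lpn (LP (LK LD1_c8 LD2_c4 LD3_c8))))
theorem f240220 : Led Lsl_ef (LP (LK LD1_c11 LD2_c54 LD3_c59)) = (LP (LK LD1_c10 LD2_c7 LD3_c26)) :=
  Lgr Lrot29 (Lpr_bt (f195636 IH) (Lpr_et (K13.f240217 IH) (Lpr_bt (K12.f33236 IH) (Lpn (LP (LK LD1_c10 LD2_c7 LD3_c26))))))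
theorem f33227 : Led Lsl_bt (LP (LK LD1_c8 LD2_c1 LD3_c33)) = (LP (LK LD1_c15 LD2_c6 LD3_c45)) :=
  Lre_b IH (LK LD1_c8 LD2_c1 LD3_c33) (LK LD1_c15 LD2_c6 LD3_c45) Lrfl Lrfl
theorem f33228 : Led Lsl_bt (LP (LK LD1_c10 LD2_c7 LD3_c26)) = (LP (LK LD1_c5 LD2_c8 LD3_c42)) :=
  Lre_b IH (LK LD1_c10 LD2_c7 LD3_c26) (LK LD1_c5 LD2_c8 LD3_c42) Lrfl Lrfl
theorem f33229 : Led Lsl_dt (LP (LK LD1_c15 LD2_c6 LD3_c45)) = (LP (LK LD1_c10 LD2_c7 LD3_c26)) :=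
  Lgr Lrot79 (Lpe (f33227 IH) (Lpr_df (K12.f33216 IH) (Lpe (f33228 IH) (Lpn (LP (LK LD1_c10 LD2_c7 LD3_c26))))))
theorem f263592 : Led Lsl_et (LP (LK LD1_c9 LD2_c37 LD3_c45)) = (LP (LK LD1_c15 LD2_c6 LD3_c45)) :=
  Lgr Lrot71 (Lpr_df (f263588 IH) (Lpe (f222465 IH) (Lpe (f263574 IH) (Lpr_ef (f240220 IH) (Lpe (f33229 IH) (Lpn (LP (LK LD1_c15 LD2_c6 LD3_c45))))))))
theorem f170351 : Led Lsl_ft (LP (LK LD1_c4 LD2_c52 LD3_c54)) = (LP (LK LD1_c9 LD2_c37 LD3_c45)) :=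
  Lre_f IH (LK LD1_c4 LD2_c52 LD3_c54) (LK LD1_c9 LD2_c37 LD3_c45) Lrfl Lrfl
theorem f33258 : Led Lsl_et (LP (LK LD1_c8 LD2_c1 LD3_c31)) = (LP (LK LD1_c4 LD2_c0 LD3_c16)) :=
  Lre_e IH (LK LD1_c8 LD2_c1 LD3_c31) (LK LD1_c4 LD2_c0 LD3_c16) Lrfl Lrfl
theorem f263601 : Led Lsl_ff (LP (LK LD1_c2 LD2_c24 LD3_c17)) = (LP (LK LD1_c4 LD2_c0 LD3_c16)) :=
  Lgr Lrot72 (Lpr_et (f170374 IH) (Lpr_ft (f170351 IH) (Lpr_et (f263592 IH) (Lpr_ft (K12.f33240 IH) (Lpr_et (f33258 IH) (Lpn (LP (LK LD1_c4 LD2_c0 LD3_c16))))))))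
theorem f258498 : Led Lsl_at (LP (LK LD1_c2 LD2_c24 LD3_c17)) = (LP (LK LD1_c4 LD2_c9 LD3_c41)) :=
  Lgr Lrot100 (Lpr_af (f258496 IH) (Lpn (LP (LK LD1_c4 LD2_c9 LD3_c41))))
theorem f251771 : Led Lsl_dt (LP (LK LD1_c5 LD2_c17 LD3_c12)) = (LP (LK LD1_c4 LD2_c13 LD3_c38)) :=
  Lgr Lrot6 (Lpr_gt (f53626 IH) (Lpe (K12.f222805 IH) (Lpr_gt (K12.f222743 IH) (Lpr_ct (K12.f190861 IH) (Lpe (K13.f51461 IH) (Lpe (K14.f190823 IH) (Lpr_gf (K14.f251756 IH) (Lpe (K13.f167366 IH) (Lpr_gf (f246243 IH) (Lpn (LP (LK LD1_c4 LD2_c13 LD3_c38))))))))))))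
theorem f257899 : Led Lsl_ft (LP (LK LD1_c4 LD2_c9 LD3_c41)) = (LP (LK LD1_c5 LD2_c17 LD3_c12)) :=
  Lgr Lrot54 (Lpr_df (f254791 IH) (Lpr_ff (f257893 IH) (Lpe (f251771 IH) (Lpn (LP (LK LD1_c5 LD2_c17 LD3_c12))))))
theorem f263603 : Led Lsl_at (LP (LK LD1_c5 LD2_c17 LD3_c12)) = (LP (LK LD1_c4 LD2_c0 LD3_c16)) :=
  Lgr Lrot66 (Lpe (f257899 IH) (Lpe (f258498 IH) (Lpr_ff (f263601 IH) (Lpn (LP (LK LD1_c4 LD2_c0 LD3_c16))))))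
theorem f53847 : Led Lsl_et (LP (LK LD1_c10 LD2_c24 LD3_c2)) = (LP (LK LD1_c5 LD2_c17 LD3_c12)) :=
  Lre_e IH (LK LD1_c10 LD2_c24 LD3_c2) (LK LD1_c5 LD2_c17 LD3_c12) Lrfl Lrfl
theorem f263605 : Led Lsl_af (LP (LK LD1_c10 LD2_c24 LD3_c2)) = (LP (LK LD1_c8 LD2_c1 LD3_c31)) :=
  Lgr Lrot50 (Lpr_et (f53847 IH) (Lpr_at (f263603 IH) (Lpr_et (K12.f33248 IH) (Lpn (LP (LK LD1_c8 LD2_c1 LD3_c31))))))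
theorem f263607 : Led Lsl_at (LP (LK LD1_c10 LD2_c24 LD3_c2)) = (LP (LK LD1_c8 LD2_c1 LD3_c31)) :=
  Lgr Lrot100 (Lpr_af (f263605 IH) (Lpn (LP (LK LD1_c8 LD2_c1 LD3_c31))))
theorem f231849 : Led Lsl_et (LP (LK LD1_c8 LD2_c26 LD3_c10)) = (LP (LK LD1_c4 LD2_c13 LD3_c37)) :=
  Lre_e IH (LK LD1_c8 LD2_c26 LD3_c10) (LK LD1_c4 LD2_c13 LD3_c37) Lrfl Lrfl
theorem f33267 : Led Lsl_et (LP (LK LD1_c2 LD2_c31 LD3_c27)) = (LP (LK LD1_c5 LD2_c8 LD3_c31)) :=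
  Lre_e IH (LK LD1_c2 LD2_c31 LD3_c27) (LK LD1_c5 LD2_c8 LD3_c31) Lrfl Lrfl
theorem f252250 : Led Lsl_af (LP (LK LD1_c8 LD2_c26 LD3_c10)) = (LP (LK LD1_c5 LD2_c8 LD3_c31)) :=
  Lgr Lrot50 (Lpr_et (f231849 IH) (Lpr_at (K14.f252244 IH) (Lpr_et (f33267 IH) (Lpn (LP (LK LD1_c5 LD2_c8 LD3_c31))))))
theorem f263612 : Led Lsl_df (LP (LK LD1_c10 LD2_c24 LD3_c2)) = (LP (LK LD1_c8 LD2_c26 LD3_c10)) :=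
  Lgr Lrot18 (Lpr_at (f263607 IH) (Lpr_dt (K12.f33242 IH) (Lpe (f252250 IH) (Lpn (LP (LK LD1_c8 LD2_c26 LD3_c10))))))
theorem f258513 : Led Lsl_ft (LP (LK LD1_c10 LD2_c24 LD3_c2)) = (LP (LK LD1_c18 LD2_c52 LD3_c20)) :=
  Lre_f IH (LK LD1_c10 LD2_c24 LD3_c2) (LK LD1_c18 LD2_c52 LD3_c20) Lrfl Lrfl
theorem f231839 : Led Lsl_ft (LP (LK LD1_c15 LD2_c50 LD3_c43)) = (LP (LK LD1_c8 LD2_c26 LD3_c10)) :=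
  Lre_f IH (LK LD1_c15 LD2_c50 LD3_c43) (LK LD1_c8 LD2_c26 LD3_c10) Lrfl Lrfl
theorem f263618 : Led Lsl_dt (LP (LK LD1_c18 LD2_c52 LD3_c20)) = (LP (LK LD1_c15 LD2_c50 LD3_c43)) :=
  Lgr Lrot60 (Lpe (f258513 IH) (Lpr_df (f263612 IH) (Lpe (f231839 IH) (Lpn (LP (LK LD1_c15 LD2_c50 LD3_c43))))))
theorem f263622 : Led Lsl_df (LP (LK LD1_c18 LD2_c52 LD3_c20)) = (LP (LK LD1_c15 LD2_c50 LD3_c43)) :=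
  Lgr Lrot38 (Lpr_dt (f263618 IH) (Lpn (LP (LK LD1_c15 LD2_c50 LD3_c43))))
theorem f263609 : Led Lsl_at (LP (LK LD1_c18 LD2_c52 LD3_c20)) = (LP (LK LD1_c15 LD2_c6 LD3_c45)) :=
  Lgr Lrot66 (Lpe (f258513 IH) (Lpr_af (f263605 IH) (Lpe (K12.f33240 IH) (Lpn (LP (LK LD1_c15 LD2_c6 LD3_c45))))))
theorem f263624 : Led Lsl_at (LP (LK LD1_c10 LD2_c7 LD3_c26)) = (LP (LK LD1_c15 LD2_c50 LD3_c43)) :=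
  Lgr Lrot51 (Lpe (f33229 IH) (Lpe (f263609 IH) (Lpr_df (f263622 IH) (Lpn (LP (LK LD1_c15 LD2_c50 LD3_c43))))))
theorem f263626 : Led Lsl_af (LP (LK LD1_c5 LD2_c8 LD3_c31)) = (LP (LK LD1_c8 LD2_c26 LD3_c10)) :=
  Lgr Lrot45 (Lpr_ft (K12.f33241 IH) (Lpr_at (f263624 IH) (Lpr_ft (f231839 IH) (Lpn (LP (LK LD1_c8 LD2_c26 LD3_c10))))))
theorem f33247 : Led Lsl_ct (LP (LK LD1_c5 LD2_c8 LD3_c31)) = (LP (LK LD1_c10 LD2_c7 LD3_c23)) :=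
  Lre_c IH (LK LD1_c5 LD2_c8 LD3_c31) (LK LD1_c10 LD2_c7 LD3_c23) Lrfl Lrfl
theorem f191709 : Led Lsl_ct (LP (LK LD1_c15 LD2_c50 LD3_c41)) = (LP (LK LD1_c8 LD2_c26 LD3_c10)) :=
  Lre_c IH (LK LD1_c15 LD2_c50 LD3_c41) (LK LD1_c8 LD2_c26 LD3_c10) Lrfl Lrfl
theorem f263630 : Led Lsl_at (LP (LK LD1_c10 LD2_c7 LD3_c23)) = (LP (LK LD1_c15 LD2_c50 LD3_c41)) :=
  Lgr Lrot107 (Lpe (f33247 IH) (Lpr_af (f263626 IH) (Lpe (f191709 IH) (Lpn (LP (LK LD1_c15 LD2_c50 LD3_c41))))))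
theorem f190917 : Led Lsl_et (LP (LK LD1_c5 LD2_c8 LD3_c30)) = (LP (LK LD1_c10 LD2_c7 LD3_c23)) :=
  Lre_e IH (LK LD1_c5 LD2_c8 LD3_c30) (LK LD1_c10 LD2_c7 LD3_c23) Lrfl Lrfl
theorem f212535 : Led Lsl_et (LP (LK LD1_c15 LD2_c50 LD3_c41)) = (LP (LK LD1_c8 LD2_c26 LD3_c9)) :=
  Lre_e IH (LK LD1_c15 LD2_c50 LD3_c41) (LK LD1_c8 LD2_c26 LD3_c9) Lrfl Lrfl
theorem f263636 : Led Lsl_af (LP (LK LD1_c5 LD2_c8 LD3_c30)) = (LP (LK LD1_c8 LD2_c26 LD3_c9)) :=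
  Lgr Lrot50 (Lpr_et (f190917 IH) (Lpr_at (f263630 IH) (Lpr_et (f212535 IH) (Lpn (LP (LK LD1_c8 LD2_c26 LD3_c9))))))
theorem f263066 : Led Lsl_gf (LP (LK LD1_c5 LD2_c8 LD3_c30)) = (LP (LK LD1_c10 LD2_c2 LD3_c20)) :=
  Lgr Lrot144 (Lpr_dt (K14.f190916 IH) (Lpr_gt (K14.f190914 IH) (Lpr_dt (f32912 IH) (Lpe (K1.f32892 IH) (Lpe (K1.f32374 IH) (Lpe (K10.f32876 IH) (Lpe (K12.f48936 IH) (Lpr_gf (f263061 IH) (Lpe (f263065 IH) (Lpn (LP (LK LD1_c10 LD2_c2 LD3_c20))))))))))))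
theorem f263640 : Led Lsl_ft (LP (LK LD1_c8 LD2_c26 LD3_c16)) = (LP (LK LD1_c8 LD2_c26 LD3_c9)) :=
  Lgr Lrot2 (Lpr_gt (f263069 IH) (Lpe (f263066 IH) (Lpr_af (f263636 IH) (Lpn (LP (LK LD1_c8 LD2_c26 LD3_c9))))))
theorem f263642 : Led Lsl_cf (LP (LK LD1_c5 LD2_c25 LD3_c56)) = (LP (LK LD1_c10 LD2_c19 LD3_c48)) :=
  Lgr Lrot118 (Lpr_dt (K14.f166137 IH) (Lpr_ct (K14.f166136 IH) (Lpr_dt (f190963 IH) (Lpe (K10.f190950 IH) (Lpr_dt (K14.f33266 IH) (Lpr_ct (K14.f190899 IH) (Lpr_af (f263636 IH) (Lpe (f263640 IH) (Lpr_dt (f252555 IH) (Lpn (LP (LK LD1_c10 LD2_c19 LD3_c48))))))))))))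
theorem f216174 : Led Lsl_ct (LP (LK LD1_c5 LD2_c25 LD3_c52)) = (LP (LK LD1_c2 LD2_c39 LD3_c19)) :=
  Lre_c IH (LK LD1_c5 LD2_c25 LD3_c52) (LK LD1_c2 LD2_c39 LD3_c19) Lrfl Lrfl
theorem f45363 : Led Lsl_gt (LP (LK LD1_c5 LD2_c16 LD3_c13)) = (LP (LK LD1_c10 LD2_c19 LD3_c48)) :=
  Lre_g IH (LK LD1_c5 LD2_c16 LD3_c13) (LK LD1_c10 LD2_c19 LD3_c48) Lrfl Lrfl
theorem f263650 : Led Lsl_gf (LP (LK LD1_c5 LD2_c25 LD3_c52)) = (LP (LK LD1_c8 LD2_c11 LD3_c17)) :=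
  Lgr Lrot147 (Lpr_ct (f216174 IH) (Lpr_gt (f190967 IH) (Lpr_ct (f166138 IH) (Lpe (K14.f166137 IH) (Lpr_cf (f263642 IH) (Lpe (f45363 IH) (Lpr_cf (f45251 IH) (Lpe (f45366 IH) (Lpe (f257142 IH) (Lpn (LP (LK LD1_c8 LD2_c11 LD3_c17))))))))))))
theorem f188095 : Led Lsl_ct (LP (LK LD1_c4 LD2_c5 LD3_c14)) = (LP (LK LD1_c8 LD2_c11 LD3_c17)) :=
  Lre_c IH (LK LD1_c4 LD2_c5 LD3_c14) (LK LD1_c8 LD2_c11 LD3_c17) Lrfl Lrfl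
theorem f188094 : Led Lsl_bt (LP (LK LD1_c4 LD2_c5 LD3_c14)) = (LP (LK LD1_c1 LD2_c59 LD3_c49)) :=
  Lre_b IH (LK LD1_c4 LD2_c5 LD3_c14) (LK LD1_c1 LD2_c59 LD3_c49) Lrfl Lrfl
theorem f50766 : Led Lsl_ct (LP (LK LD1_c8 LD2_c15 LD3_c39)) = (LP (LK LD1_c4 LD2_c7 LD3_c47)) :=
  Lre_c IH (LK LD1_c8 LD2_c15 LD3_c39) (LK LD1_c4 LD2_c7 LD3_c47) Lrfl Lrfl
theorem f46186 : Led Lsl_ct (LP (LK LD1_c8 LD2_c52 LD3_c51)) = (LP (LK LD1_c4 LD2_c27 LD3_c29)) :=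
  Lre_c IH (LK LD1_c8 LD2_c52 LD3_c51) (LK LD1_c4 LD2_c27 LD3_c29) Lrfl Lrfl
theorem f46207 : Led Lsl_dt (LP (LK LD1_c8 LD2_c10 LD3_c60)) = (LP (LK LD1_c8 LD2_c52 LD3_c51)) :=
  Lgr Lrot173 (Lpe (K1.f46194 IH) (Lpe (K1.f46195 IH) (Lpr_cf (K1.f46196 IH) (Lpe (K1.f46136 IH) (Lpe (K1.f46180 IH) (Lpe (K1.f46181 IH) (Lpe (K1.f46179 IH) (Lpe (K1.f46178 IH) (Lpe (K1.f46177 IH) (Lpe (K1.f46176 IH) (Lpr_cf (K1.f41864 IH) (Lpe (K1.f44591 IH) (Lpe (K1.f44769 IH) (Lpe (K13.f44838 IH) (Lpe (f46186 IH) (Lpn (LP (LK LD1_c8 LD2_c52 LD3_c51))))))))))))))))))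
theorem f47214 : Led Lsl_ct (LP (LK LD1_c8 LD2_c11 LD3_c47)) = (LP (LK LD1_c4 LD2_c5 LD3_c25)) :=
  Lre_c IH (LK LD1_c8 LD2_c11 LD3_c47) (LK LD1_c4 LD2_c5 LD3_c25) Lrfl Lrfl
theorem f47228 : Led Lsl_at (LP (LK LD1_c8 LD2_c10 LD3_c59)) = (LP (LK LD1_c4 LD2_c5 LD3_c25)) :=
  Lre_a IH (LK LD1_c8 LD2_c10 LD3_c59) (LK LD1_c4 LD2_c5 LD3_c25) Lrfl Lrfl
theorem f47272 : Led Lsl_ft (LP (LK LD1_c8 LD2_c52 LD3_c51)) = (LP (LK LD1_c8 LD2_c10 LD3_c59)) :=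
  Lgr Lrot142 (Lpr_dt (K13.f47261 IH) (Lpr_ct (K13.f46218 IH) (Lpr_dt (K1.f46216 IH) (Lpr_ct (K9.f46205 IH) (Lpr_dt (K13.f46135 IH) (Lpr_ct (K13.f46171 IH) (Lpe (K13.f46187 IH) (Lpr_ct (f47214 IH) (Lpe (f47228 IH) (Lpn (LP (LK LD1_c8 LD2_c10 LD3_c59))))))))))))
theorem f47286 : Led Lsl_gt (LP (LK LD1_c8 LD2_c52 LD3_c51)) = (LP (LK LD1_c8 LD2_c11 LD3_c46)) :=
  Lgr Lrot5 (Lpr_ft (f47272 IH) (Lpr_at (f47228 IH) (Lpe (K14.f46200 IH) (Lpn (LP (LK LD1_c8 LD2_c11 LD3_c46))))))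
theorem f188071 : Led Lsl_df (LP (LK LD1_c8 LD2_c15 LD3_c39)) = (LP (LK LD1_c8 LD2_c11 LD3_c46)) :=
  Lgr Lrot174 (Lpr_ct (f50766 IH) (Lpe (K14.f50753 IH) (Lpe (K9.f50628 IH) (Lpe (K9.f30848 IH) (Lpr_gf (K10.f50618 IH) (Lpr_ct (K10.f188062 IH) (Lpr_gt (K10.f46219 IH) (Lpr_dt (f46207 IH) (Lpr_gt (f47286 IH) (Lpn (LP (LK LD1_c8 LD2_c11 LD3_c46))))))))))))
theorem f188074 : Led Lsl_dt (LP (LK LD1_c8 LD2_c15 LD3_c39)) = (LP (LK LD1_c8 LD2_c11 LD3_c46)) :=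
  Lgr Lrot42 (Lpr_df (f188071 IH) (Lpn (LP (LK LD1_c8 LD2_c11 LD3_c46))))
theorem f47417 : Led Lsl_gt (LP (LK LD1_c1 LD2_c59 LD3_c46)) = (LP (LK LD1_c4 LD2_c5 LD3_c11)) :=
  Lre_g IH (LK LD1_c1 LD2_c59 LD3_c46) (LK LD1_c4 LD2_c5 LD3_c11) Lrfl Lrfl
theorem f183840 : Led Lsl_ct (LP (LK LD1_c4 LD2_c5 LD3_c11)) = (LP (LK LD1_c8 LD2_c11 LD3_c7)) :=
  Lre_c IH (LK LD1_c4 LD2_c5 LD3_c11) (LK LD1_c8 LD2_c11 LD3_c7) Lrfl Lrfl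
theorem f183841 : Led Lsl_gf (LP (LK LD1_c8 LD2_c15 LD3_c39)) = (LP (LK LD1_c8 LD2_c11 LD3_c7)) :=
  Lgr Lrot104 (Lpr_ct (f50766 IH) (Lpe (K14.f50753 IH) (Lpe (K14.f183828 IH) (Lpr_gf (K9.f183838 IH) (Lpe (K9.f46205 IH) (Lpe (K9.f46220 IH) (Lpe (K13.f47278 IH) (Lpr_gt (f47417 IH) (Lpr_ct (f183840 IH) (Lpn (LP (LK LD1_c8 LD2_c11 LD3_c7))))))))))))
theorem f188084 : Led Lsl_ct (LP (LK LD1_c8 LD2_c11 LD3_c7)) = (LP (LK LD1_c4 LD2_c5 LD3_c11)) :=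
  Lre_c IH (LK LD1_c8 LD2_c11 LD3_c7) (LK LD1_c4 LD2_c5 LD3_c11) Lrfl Lrfl
theorem f47420 : Led Lsl_dt (LP (LK LD1_c1 LD2_c59 LD3_c49)) = (LP (LK LD1_c0 LD2_c56 LD3_c49)) :=
  Lre_d IH (LK LD1_c1 LD2_c59 LD3_c49) (LK LD1_c0 LD2_c56 LD3_c49) Lrfl Lrfl
theorem f188085 : Led Lsl_gt (LP (LK LD1_c4 LD2_c5 LD3_c11)) = (LP (LK LD1_c1 LD2_c59 LD3_c49)) :=
  Lgr Lrot94 (Lpe (f188084 IH) (Lpe (f183841 IH) (Lpr_dt (f188074 IH) (Lpr_gt (K14.f46200 IH) (Lpr_dt (K14.f47266 IH) (Lpe (K1.f46177 IH) (Lpe (K1.f46176 IH) (Lpe (K10.f47419 IH) (Lpe (f47420 IH) (Lpn (LP (LK LD1_c1 LD2_c59 LD3_c49))))))))))))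
theorem f50767 : Led Lsl_ct (LP (LK LD1_c4 LD2_c7 LD3_c47)) = (LP (LK LD1_c8 LD2_c15 LD3_c39)) :=
  Lre_c IH (LK LD1_c4 LD2_c7 LD3_c47) (LK LD1_c8 LD2_c15 LD3_c39) Lrfl Lrfl
theorem f230881 : Led Lsl_bf (LP (LK LD1_c4 LD2_c6 LD3_c22)) = (LP (LK LD1_c4 LD2_c5 LD3_c11)) :=
  Lgr Lrot34 (Lpe (K14.f187405 IH) (Lpe (f191939 IH) (Lpr_ct (K14.f179076 IH) (Lpr_gf (K14.f192856 IH) (Lpe (f192858 IH) (Lpe (f192883 IH) (Lpr_bf (K14.f230873 IH) (Lpr_ct (f50767 IH) (Lpr_gf (f183841 IH) (Lpe (f183840 IH) (Lpn (LP (LK LD1_c4 LD2_c5 LD3_c11)))))))))))))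
theorem f230886 : Led Lsl_bt (LP (LK LD1_c4 LD2_c6 LD3_c22)) = (LP (LK LD1_c4 LD2_c5 LD3_c11)) :=
  Lgr Lrot127 (Lpr_bf (f230881 IH) (Lpn (LP (LK LD1_c4 LD2_c5 LD3_c11))))
theorem f256096 : Led Lsl_dt (LP (LK LD1_c2 LD2_c37 LD3_c53)) = (LP (LK LD1_c5 LD2_c22 LD3_c43)) :=
  Lre_d IH (LK LD1_c2 LD2_c37 LD3_c53) (LK LD1_c5 LD2_c22 LD3_c43) Lrfl Lrfl
theorem f196774 : Led Lsl_et (LP (LK LD1_c1 LD2_c24 LD3_c59)) = (LP (LK LD1_c2 LD2_c58 LD3_c30)) :=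
  Lre_e IH (LK LD1_c1 LD2_c24 LD3_c59) (LK LD1_c2 LD2_c58 LD3_c30) Lrfl Lrfl
theorem f182098 : Led Lsl_dt (LP (LK LD1_c1 LD2_c24 LD3_c59)) = (LP (LK LD1_c2 LD2_c58 LD3_c29)) :=
  Lre_d IH (LK LD1_c1 LD2_c24 LD3_c59) (LK LD1_c2 LD2_c58 LD3_c29) Lrfl Lrfl
theorem f257991 : Led Lsl_gt (LP (LK LD1_c5 LD2_c22 LD3_c43)) = (LP (LK LD1_c2 LD2_c58 LD3_c29)) :=
  Lgr Lrot112 (Lpe (f256096 IH) (Lpr_et (f257987 IH) (Lpe (f169150 IH) (Lpe (f169156 IH) (Lpr_dt (f169256 IH) (Lpe (K13.f220758 IH) (Lpr_df (K12.f196609 IH) (Lpr_gf (K13.f246368 IH) (Lpe (f196774 IH) (Lpr_dt (f182098 IH) (Lpn (LP (LK LD1_c2 LD2_c58 LD3_c29)))))))))))))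
theorem f256095 : Led Lsl_dt (LP (LK LD1_c5 LD2_c22 LD3_c43)) = (LP (LK LD1_c2 LD2_c37 LD3_c53)) :=
  Lre_d IH (LK LD1_c5 LD2_c22 LD3_c43) (LK LD1_c2 LD2_c37 LD3_c53) Lrfl Lrfl
theorem f230911 : Led Lsl_ct (LP (LK LD1_c8 LD2_c13 LD3_c17)) = (LP (LK LD1_c4 LD2_c6 LD3_c22)) :=
  Lre_c IH (LK LD1_c8 LD2_c13 LD3_c17) (LK LD1_c4 LD2_c6 LD3_c22) Lrfl Lrfl
theorem f182160 : Led Lsl_ct (LP (LK LD1_c2 LD2_c58 LD3_c29)) = (LP (LK LD1_c6 LD2_c4 LD3_c36)) :=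
  Lre_c IH (LK LD1_c2 LD2_c58 LD3_c29) (LK LD1_c6 LD2_c4 LD3_c36) Lrfl Lrfl
theorem f257995 : Led Lsl_gf (LP (LK LD1_c8 LD2_c13 LD3_c17)) = (LP (LK LD1_c6 LD2_c4 LD3_c36)) :=
  Lgr Lrot104 (Lpr_ct (f230911 IH) (Lpr_df (K14.f250451 IH) (Lpr_cf (K14.f230549 IH) (Lpr_gf (K14.f256088 IH) (Lpe (K10.f42528 IH) (Lpe (f172019 IH) (Lpe (f256095 IH) (Lpr_gt (f257991 IH) (Lpr_ct (f182160 IH) (Lpn (LP (LK LD1_c6 LD2_c4 LD3_c36))))))))))))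
theorem f263654 : Led Lsl_bt (LP (LK LD1_c2 LD2_c39 LD3_c19)) = (LP (LK LD1_c5 LD2_c22 LD3_c43)) :=
  Lgr Lrot130 (Lpr_ct (f216171 IH) (Lpr_gf (f263650 IH) (Lpe (f188095 IH) (Lpr_bt (f188094 IH) (Lpe (f188085 IH) (Lpe (f230886 IH) (Lpr_ct (K14.f192886 IH) (Lpr_gf (f257995 IH) (Lpe (f182160 IH) (Lpe (f257991 IH) (Lpn (LP (LK LD1_c5 LD2_c22 LD3_c43)))))))))))))
theorem f182097 : Led Lsl_dt (LP (LK LD1_c2 LD2_c58 LD3_c29)) = (LP (LK LD1_c1 LD2_c24 LD3_c59)) :=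
  Lre_d IH (LK LD1_c2 LD2_c58 LD3_c29) (LK LD1_c1 LD2_c24 LD3_c59) Lrfl Lrfl
theorem f192510 : Led Lsl_bt (LP (LK LD1_c4 LD2_c0 LD3_c61)) = (LP (LK LD1_c2 LD2_c58 LD3_c29)) :=
  Lgr Lrot95 (Lpe (K14.f28176 IH) (Lpr_bf (K10.f192489 IH) (Lpe (f182097 IH) (Lpn (LP (LK LD1_c2 LD2_c58 LD3_c29))))))
theorem f31025 : Led Lsl_ct (LP (LK LD1_c4 LD2_c0 LD3_c61)) = (LP (LK LD1_c8 LD2_c2 LD3_c46)) :=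
  Lre_c IH (LK LD1_c4 LD2_c0 LD3_c61) (LK LD1_c8 LD2_c2 LD3_c46) Lrfl Lrfl
theorem f28069 : Led Lsl_dt (LP (LK LD1_c1 LD2_c58 LD3_c33)) = (LP (LK LD1_c4 LD2_c3 LD3_c6)) :=
  Lre_d IH (LK LD1_c1 LD2_c58 LD3_c33) (LK LD1_c4 LD2_c3 LD3_c6) Lrfl Lrfl
theorem f28068 : Led Lsl_et (LP (LK LD1_c1 LD2_c58 LD3_c33)) = (LP (LK LD1_c0 LD2_c56 LD3_c7)) :=
  Lre_e IH (LK LD1_c1 LD2_c58 LD3_c33) (LK LD1_c0 LD2_c56 LD3_c7) Lrfl Lrfl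
theorem f28067 : Led Lsl_dt (LP (LK LD1_c4 LD2_c3 LD3_c9)) = (LP (LK LD1_c1 LD2_c58 LD3_c34)) :=
  Lre_d IH (LK LD1_c4 LD2_c3 LD3_c9) (LK LD1_c1 LD2_c58 LD3_c34) Lrfl Lrfl
theorem f3742 : Led Lsl_dt (LP (LK LD1_c1 LD2_c11 LD3_c25)) = (LP (LK LD1_c2 LD2_c28 LD3_c23)) :=
  Lre_d IH (LK LD1_c1 LD2_c11 LD3_c25) (LK LD1_c2 LD2_c28 LD3_c23) Lrfl Lrfl
theorem f259087 : Led Lsl_gf (LP (LK LD1_c4 LD2_c3 LD3_c9)) = (LP (LK LD1_c2 LD2_c28 LD3_c24)) :=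
  Lgr Lrot138 (Lpr_dt (f28067 IH) (Lpr_gt (K10.f28066 IH) (Lpe (K10.f28057 IH) (Lpe (K13.f28050 IH) (Lpr_gt (K10.f28064 IH) (Lpe (f28068 IH) (Lpr_dt (f28069 IH) (Lpr_gt (f259077 IH) (Lpe (f3742 IH) (Lpr_et (K14.f252572 IH) (Lpn (LP (LK LD1_c2 LD2_c28 LD3_c24)))))))))))))
theorem f194389 : Led Lsl_dt (LP (LK LD1_c8 LD2_c6 LD3_c50)) = (LP (LK LD1_c4 LD2_c3 LD3_c8)) :=
  Lre_d IH (LK LD1_c8 LD2_c6 LD3_c50) (LK LD1_c4 LD2_c3 LD3_c8) Lrfl Lrfl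
theorem f189981 : Led Lsl_dt (LP (LK LD1_c8 LD2_c27 LD3_c24)) = (LP (LK LD1_c4 LD2_c14 LD3_c21)) :=
  Lre_d IH (LK LD1_c8 LD2_c27 LD3_c24) (LK LD1_c4 LD2_c14 LD3_c21) Lrfl Lrfl
theorem f199345 : Led Lsl_ff (LP (LK LD1_c0 LD2_c56 LD3_c28)) = (LP (LK LD1_c0 LD2_c36 LD3_c3)) :=
  Lgr Lrot3 (Lpr_ft (K12.f199184 IH) (Lpn (LP (LK LD1_c0 LD2_c36 LD3_c3))))
theorem f199544 : Led Lsl_et (LP (LK LD1_c1 LD2_c18 LD3_c13)) = (LP (LK LD1_c0 LD2_c36 LD3_c3)) :=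
  Lre_e IH (LK LD1_c1 LD2_c18 LD3_c13) (LK LD1_c0 LD2_c36 LD3_c3) Lrfl Lrfl
theorem f199545 : Led Lsl_ft (LP (LK LD1_c2 LD2_c43 LD3_c38)) = (LP (LK LD1_c1 LD2_c18 LD3_c13)) :=
  Lre_f IH (LK LD1_c2 LD2_c43 LD3_c38) (LK LD1_c1 LD2_c18 LD3_c13) Lrfl Lrfl
theorem f199546 : Led Lsl_et (LP (LK LD1_c4 LD2_c4 LD3_c38)) = (LP (LK LD1_c2 LD2_c43 LD3_c38)) :=
  Lgr Lrot69 (Lpe (K13.f192814 IH) (Lpe (K13.f192828 IH) (Lpr_ff (f199345 IH) (Lpe (f199544 IH) (Lpe (f199545 IH) (Lpn (LP (LK LD1_c2 LD2_c43 LD3_c38))))))))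
theorem f199549 : Led Lsl_cf (LP (LK LD1_c2 LD2_c43 LD3_c38)) = (LP (LK LD1_c2 LD2_c43 LD3_c38)) :=
  Lgr Lrot39 (Lpe (K13.f199343 IH) (Lpr_ct (K13.f192812 IH) (Lpr_et (f199546 IH) (Lpn (LP (LK LD1_c2 LD2_c43 LD3_c38))))))
theorem f199552 : Led Lsl_at (LP (LK LD1_c1 LD2_c18 LD3_c21)) = (LP (LK LD1_c2 LD2_c43 LD3_c38)) :=
  Lre_a IH (LK LD1_c1 LD2_c18 LD3_c21) (LK LD1_c2 LD2_c43 LD3_c38) Lrfl Lrfl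
theorem f199557 : Led Lsl_ft (LP (LK LD1_c0 LD2_c36 LD3_c5)) = (LP (LK LD1_c1 LD2_c18 LD3_c21)) :=
  Lre_f IH (LK LD1_c0 LD2_c36 LD3_c5) (LK LD1_c1 LD2_c18 LD3_c21) Lrfl Lrfl
theorem f187623 : Led Lsl_dt (LP (LK LD1_c2 LD2_c43 LD3_c61)) = (LP (LK LD1_c5 LD2_c36 LD3_c11)) :=
  Lre_d IH (LK LD1_c2 LD2_c43 LD3_c61) (LK LD1_c5 LD2_c36 LD3_c11) Lrfl Lrfl
theorem f216474 : Led Lsl_cf (LP (LK LD1_c8 LD2_c27 LD3_c24)) = (LP (LK LD1_c5 LD2_c36 LD3_c11)) :=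
  Lgr Lrot116 (Lpr_dt (f189981 IH) (Lpr_ct (f189980 IH) (Lpr_dt (K13.f216469 IH) (Lpe (f199549 IH) (Lpe (f199552 IH) (Lpe (f199557 IH) (Lpr_dt (K10.f187613 IH) (Lpr_ct (K10.f178253 IH) (Lpr_dt (f187623 IH) (Lpn (LP (LK LD1_c5 LD2_c36 LD3_c11))))))))))))
theorem f195957 : Led Lsl_dt (LP (LK LD1_c4 LD2_c3 LD3_c11)) = (LP (LK LD1_c8 LD2_c6 LD3_c56)) :=
  Lre_d IH (LK LD1_c4 LD2_c3 LD3_c11) (LK LD1_c8 LD2_c6 LD3_c56) Lrfl Lrfl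
theorem f188039 : Led Lsl_dt (LP (LK LD1_c1 LD2_c18 LD3_c20)) = (LP (LK LD1_c0 LD2_c36 LD3_c5)) :=
  Lre_d IH (LK LD1_c1 LD2_c18 LD3_c20) (LK LD1_c0 LD2_c36 LD3_c5) Lrfl Lrfl
theorem f7950 : Led Lsl_gt (LP (LK LD1_c0 LD2_c36 LD3_c5)) = (LP (LK LD1_c1 LD2_c18 LD3_c18)) :=
  Lre_g IH (LK LD1_c0 LD2_c36 LD3_c5) (LK LD1_c1 LD2_c18 LD3_c18) Lrfl Lrfl
theorem f177444 : Led Lsl_dt (LP (LK LD1_c1 LD2_c18 LD3_c18)) = (LP (LK LD1_c2 LD2_c43 LD3_c56)) :=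
  Lre_d IH (LK LD1_c1 LD2_c18 LD3_c18) (LK LD1_c2 LD2_c43 LD3_c56) Lrfl Lrfl
theorem f189272 : Led Lsl_ct (LP (LK LD1_c5 LD2_c36 LD3_c6)) = (LP (LK LD1_c2 LD2_c43 LD3_c56)) :=
  Lre_c IH (LK LD1_c5 LD2_c36 LD3_c6) (LK LD1_c2 LD2_c43 LD3_c56) Lrfl Lrfl
theorem f189271 : Led Lsl_dt (LP (LK LD1_c11 LD2_c4 LD3_c32)) = (LP (LK LD1_c5 LD2_c36 LD3_c6)) :=
  Lre_d IH (LK LD1_c11 LD2_c4 LD3_c32) (LK LD1_c5 LD2_c36 LD3_c6) Lrfl Lrfl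
theorem f195958 : Led Lsl_gt (LP (LK LD1_c8 LD2_c6 LD3_c56)) = (LP (LK LD1_c11 LD2_c4 LD3_c32)) :=
  Lgr Lrot49 (Lpe (f195957 IH) (Lpr_gf (K13.f195955 IH) (Lpe (K10.f27590 IH) (Lpe (K10.f189144 IH) (Lpr_dt (f188039 IH) (Lpr_gt (f7950 IH) (Lpr_dt (f177444 IH) (Lpe (f189272 IH) (Lpe (f189271 IH) (Lpn (LP (LK LD1_c11 LD2_c4 LD3_c32))))))))))))
theorem f178251 : Led Lsl_gt (LP (LK LD1_c11 LD2_c4 LD3_c38)) = (LP (LK LD1_c5 LD2_c36 LD3_c11)) :=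
  Lre_g IH (LK LD1_c11 LD2_c4 LD3_c38) (LK LD1_c5 LD2_c36 LD3_c11) Lrfl Lrfl
theorem f216492 : Led Lsl_ct (LP (LK LD1_c11 LD2_c4 LD3_c32)) = (LP (LK LD1_c11 LD2_c4 LD3_c38)) :=
  Lgr Lrot152 (Lpe (f195958 IH) (Lpe (f195957 IH) (Lpr_gt (K10.f192199 IH) (Lpr_ct (K10.f27647 IH) (Lpr_gt (K10.f8100 IH) (Lpr_ct (K10.f50896 IH) (Lpe (f189981 IH) (Lpr_cf (f216474 IH) (Lpe (f178251 IH) (Lpn (LP (LK LD1_c11 LD2_c4 LD3_c38))))))))))))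
theorem f178250 : Led Lsl_dt (LP (LK LD1_c5 LD2_c36 LD3_c11)) = (LP (LK LD1_c2 LD2_c43 LD3_c61)) :=
  Lre_d IH (LK LD1_c5 LD2_c36 LD3_c11) (LK LD1_c2 LD2_c43 LD3_c61) Lrfl Lrfl
theorem f216500 : Led Lsl_gt (LP (LK LD1_c11 LD2_c4 LD3_c32)) = (LP (LK LD1_c8 LD2_c6 LD3_c50)) :=
  Lgr Lrot180 (Lpr_ct (f216492 IH) (Lpr_gt (f178251 IH) (Lpr_dt (f178250 IH) (Lpe (K10.f188027 IH) (Lpr_dt (K10.f50909 IH) (Lpe (K10.f50916 IH) (Lpe (K10.f27591 IH) (Lpr_gf (K10.f194383 IH) (Lpe (f194389 IH) (Lpn (LP (LK LD1_c8 LD2_c6 LD3_c50))))))))))))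
theorem f195965 : Led Lsl_dt (LP (LK LD1_c5 LD2_c36 LD3_c6)) = (LP (LK LD1_c11 LD2_c4 LD3_c32)) :=
  Lre_d IH (LK LD1_c5 LD2_c36 LD3_c6) (LK LD1_c11 LD2_c4 LD3_c32) Lrfl Lrfl
theorem f194413 : Led Lsl_ct (LP (LK LD1_c8 LD2_c2 LD3_c46)) = (LP (LK LD1_c4 LD2_c0 LD3_c61)) :=
  Lre_c IH (LK LD1_c8 LD2_c2 LD3_c46) (LK LD1_c4 LD2_c0 LD3_c61) Lrfl Lrfl
theorem f259089 : Led Lsl_gf (LP (LK LD1_c5 LD2_c36 LD3_c6)) = (LP (LK LD1_c8 LD2_c2 LD3_c46)) :=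
  Lgr Lrot144 (Lpr_dt (f195965 IH) (Lpr_gt (f216500 IH) (Lpr_dt (f194389 IH) (Lpe (K10.f51369 IH) (Lpe (f28067 IH) (Lpr_gf (f259087 IH) (Lpe (K14.f252678 IH) (Lpe (K14.f253002 IH) (Lpe (f194413 IH) (Lpn (LP (LK LD1_c8 LD2_c2 LD3_c46))))))))))))
theorem f177445 : Led Lsl_ct (LP (LK LD1_c2 LD2_c43 LD3_c56)) = (LP (LK LD1_c5 LD2_c36 LD3_c6)) :=
  Lre_c IH (LK LD1_c2 LD2_c43 LD3_c56) (LK LD1_c5 LD2_c36 LD3_c6) Lrfl Lrfl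
theorem f196011 : Led Lsl_bt (LP (LK LD1_c2 LD2_c43 LD3_c56)) = (LP (LK LD1_c5 LD2_c36 LD3_c5)) :=
  Lre_b IH (LK LD1_c2 LD2_c43 LD3_c56) (LK LD1_c5 LD2_c36 LD3_c5) Lrfl Lrfl
theorem f263656 : Led Lsl_gt (LP (LK LD1_c5 LD2_c36 LD3_c5)) = (LP (LK LD1_c4 LD2_c5 LD3_c14)) :=
  Lgr Lrot82 (Lpe (f196011 IH) (Lpr_ct (f177445 IH) (Lpr_gf (f259089 IH) (Lpe (f31025 IH) (Lpr_bt (f192510 IH) (Lpe (f257991 IH) (Lpe (f263654 IH) (Lpr_ct (f216171 IH) (Lpr_gf (f263650 IH) (Lpe (f188095 IH) (Lpn (LP (LK LD1_c4 LD2_c5 LD3_c14)))))))))))))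
theorem f263660 : Led Lsl_dt (LP (LK LD1_c2 LD2_c43 LD3_c54)) = (LP (LK LD1_c5 LD2_c36 LD3_c5)) :=
  Lre_d IH (LK LD1_c2 LD2_c43 LD3_c54) (LK LD1_c5 LD2_c36 LD3_c5) Lrfl Lrfl
theorem f263661 : Led Lsl_gf (LP (LK LD1_c2 LD2_c43 LD3_c54)) = (LP (LK LD1_c4 LD2_c8 LD3_c11)) :=
  Lgr Lrot144 (Lpr_dt (f263660 IH) (Lpr_gt (f263656 IH) (Lpr_dt (f192456 IH) (Lpr_cf (K10.f192454 IH) (Lpe (f45258 IH) (Lpe (K14.f252553 IH) (Lpr_df (K12.f185672 IH) (Lpe (K14.f250683 IH) (Lpe (K12.f47564 IH) (Lpn (LP (LK LD1_c4 LD2_c8 LD3_c11))))))))))))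
theorem f189676 : Led Lsl_et (LP (LK LD1_c2 LD2_c1 LD3_c27)) = (LP (LK LD1_c4 LD2_c8 LD3_c11)) :=
  Lre_e IH (LK LD1_c2 LD2_c1 LD3_c27) (LK LD1_c4 LD2_c8 LD3_c11) Lrfl Lrfl
theorem f175060 : Led Lsl_gt (LP (LK LD1_c2 LD2_c40 LD3_c24)) = (LP (LK LD1_c5 LD2_c28 LD3_c11)) :=
  Lre_g IH (LK LD1_c2 LD2_c40 LD3_c24) (LK LD1_c5 LD2_c28 LD3_c11) Lrfl Lrfl
theorem f263672 : Led Lsl_et (LP (LK LD1_c8 LD2_c18 LD3_c52)) = (LP (LK LD1_c5 LD2_c28 LD3_c11)) :=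
  Lgr Lrot122 (Lpe (K14.f250677 IH) (Lpe (K14.f234776 IH) (Lpe (K12.f51415 IH) (Lpr_et (f189676 IH) (Lpe (f263661 IH) (Lpr_dt (f263660 IH) (Lpr_gt (f263656 IH) (Lpe (f192462 IH) (Lpe (K14.f252575 IH) (Lpr_gt (f175060 IH) (Lpn (LP (LK LD1_c5 LD2_c28 LD3_c11)))))))))))))
theorem f234816 : Led Lsl_et (LP (LK LD1_c1 LD2_c55 LD3_c58)) = (LP (LK LD1_c3 LD2_c58 LD3_c21)) :=
  Lre_e IH (LK LD1_c1 LD2_c55 LD3_c58) (LK LD1_c3 LD2_c58 LD3_c21) Lrfl Lrfl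
theorem f263678 : Led Lsl_gf (LP (LK LD1_c2 LD2_c40 LD3_c27)) = (LP (LK LD1_c5 LD2_c28 LD3_c11)) :=
  Lgr Lrot141 (Lpe (K14.f236136 IH) (Lpr_dt (K14.f236137 IH) (Lpe (K12.f213032 IH) (Lpe (K13.f212851 IH) (Lpr_et (K12.f212846 IH) (Lpe (K12.f223064 IH) (Lpr_dt (K14.f223071 IH) (Lpr_gt (K14.f234799 IH) (Lpr_df (K14.f250677 IH) (Lpr_et (f263672 IH) (Lpn (LP (LK LD1_c5 LD2_c28 LD3_c11)))))))))))))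
theorem f170548 : Led Lsl_et (LP (LK LD1_c1 LD2_c11 LD3_c20)) = (LP (LK LD1_c2 LD2_c28 LD3_c14)) :=
  Lre_e IH (LK LD1_c1 LD2_c11 LD3_c20) (LK LD1_c2 LD2_c28 LD3_c14) Lrfl Lrfl
theorem f263680 : Led Lsl_gf (LP (LK LD1_c3 LD2_c58 LD3_c21)) = (LP (LK LD1_c2 LD2_c28 LD3_c14)) :=
  Lgr Lrot141 (Lpe (f234816 IH) (Lpr_dt (K14.f223071 IH) (Lpr_gt (K14.f234799 IH) (Lpr_df (K14.f250677 IH) (Lpr_et (f263672 IH) (Lpe (f263678 IH) (Lpe (K14.f251305 IH) (Lpr_gt (K14.f170516 IH) (Lpe (K10.f165865 IH) (Lpr_et (f170548 IH) (Lpn (LP (LK LD1_c2 LD2_c28 LD3_c14)))))))))))))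
theorem f245877 : Led Lsl_dt (LP (LK LD1_c2 LD2_c5 LD3_c11)) = (LP (LK LD1_c1 LD2_c17 LD3_c24)) :=
  Lgr Lrot79 (Lpr_bf (K13.f243261 IH) (Lpr_df (K13.f245873 IH) (Lpe (K13.f236376 IH) (Lpn (LP (LK LD1_c1 LD2_c17 LD3_c24))))))
theorem f243213 : Led Lsl_gt (LP (LK LD1_c2 LD2_c5 LD3_c12)) = (LP (LK LD1_c4 LD2_c15 LD3_c41)) :=
  Lre_g IH (LK LD1_c2 LD2_c5 LD3_c12) (LK LD1_c4 LD2_c15 LD3_c41) Lrfl Lrfl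
theorem f179570 : Led Lsl_gt (LP (LK LD1_c2 LD2_c7 LD3_c10)) = (LP (LK LD1_c1 LD2_c0 LD3_c38)) :=
  Lre_g IH (LK LD1_c2 LD2_c7 LD3_c10) (LK LD1_c1 LD2_c0 LD3_c38) Lrfl Lrfl
theorem f179571 : Led Lsl_bt (LP (LK LD1_c4 LD2_c19 LD3_c30)) = (LP (LK LD1_c2 LD2_c7 LD3_c10)) :=
  Lre_b IH (LK LD1_c4 LD2_c19 LD3_c30) (LK LD1_c2 LD2_c7 LD3_c10) Lrfl Lrfl
theorem f243272 : Led Lsl_cf (LP (LK LD1_c4 LD2_c15 LD3_c41)) = (LP (LK LD1_c4 LD2_c19 LD3_c30)) :=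
  Lgr Lrot163 (Lpe (f243213 IH) (Lpe (K13.f8011 IH) (Lpe (K13.f839 IH) (Lpr_bf (K13.f243261 IH) (Lpr_ct (K9.f53387 IH) (Lpe (K9.f179558 IH) (Lpe (K9.f179533 IH) (Lpr_bt (K12.f179560 IH) (Lpe (f179570 IH) (Lpe (f179571 IH) (Lpn (LP (LK LD1_c4 LD2_c19 LD3_c30)))))))))))))
theorem f243398 : Led Lsl_ct (LP (LK LD1_c4 LD2_c15 LD3_c41)) = (LP (LK LD1_c4 LD2_c19 LD3_c30)) :=
  Lgr Lrot59 (Lpr_cf (f243272 IH) (Lpn (LP (LK LD1_c4 LD2_c19 LD3_c30))))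
theorem f261402 : Led Lsl_cf (LP (LK LD1_c3 LD2_c58 LD3_c21)) = (LP (LK LD1_c2 LD2_c1 LD3_c31)) :=
  Lgr Lrot11 (Lpr_ct (f261399 IH) (Lpn (LP (LK LD1_c2 LD2_c1 LD3_c31))))
theorem f261414 : Led Lsl_df (LP (LK LD1_c4 LD2_c19 LD3_c30)) = (LP (LK LD1_c3 LD2_c58 LD3_c21)) :=
  Lgr Lrot162 (Lpe (f243398 IH) (Lpe (f243213 IH) (Lpe (K13.f8011 IH) (Lpe (K13.f839 IH) (Lpr_dt (f245877 IH) (Lpr_gt (f261404 IH) (Lpe (f182068 IH) (Lpr_gt (f261395 IH) (Lpe (f261402 IH) (Lpn (LP (LK LD1_c3 LD2_c58 LD3_c21))))))))))))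
theorem f236140 : Led Lsl_et (LP (LK LD1_c2 LD2_c40 LD3_c27)) = (LP (LK LD1_c5 LD2_c28 LD3_c17)) :=
  Lre_e IH (LK LD1_c2 LD2_c40 LD3_c27) (LK LD1_c5 LD2_c28 LD3_c17) Lrfl Lrfl
theorem f232186 : Led Lsl_et (LP (LK LD1_c2 LD2_c25 LD3_c25)) = (LP (LK LD1_c4 LD2_c55 LD3_c4)) :=
  Lre_e IH (LK LD1_c2 LD2_c25 LD3_c25) (LK LD1_c4 LD2_c55 LD3_c4) Lrfl Lrfl
theorem f219086 : Led Lsl_dt (LP (LK LD1_c2 LD2_c25 LD3_c25)) = (LP (LK LD1_c4 LD2_c55 LD3_c3)) :=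
  Lre_d IH (LK LD1_c2 LD2_c25 LD3_c25) (LK LD1_c4 LD2_c55 LD3_c3) Lrfl Lrfl
theorem f263684 : Led Lsl_gt (LP (LK LD1_c4 LD2_c19 LD3_c30)) = (LP (LK LD1_c4 LD2_c55 LD3_c3)) :=
  Lgr Lrot139 (Lpr_df (f261414 IH) (Lpr_gf (f263680 IH) (Lpe (f170548 IH) (Lpr_dt (K10.f165865 IH) (Lpe (K14.f170516 IH) (Lpr_df (K14.f251305 IH) (Lpr_et (f236140 IH) (Lpr_gf (K14.f254789 IH) (Lpe (f232186 IH) (Lpr_dt (f219086 IH) (Lpn (LP (LK LD1_c4 LD2_c55 LD3_c3)))))))))))))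
theorem f219089 : Led Lsl_dt (LP (LK LD1_c4 LD2_c55 LD3_c3)) = (LP (LK LD1_c2 LD2_c25 LD3_c25)) :=
  Lre_d IH (LK LD1_c4 LD2_c55 LD3_c3) (LK LD1_c2 LD2_c25 LD3_c25) Lrfl Lrfl
theorem f219092 : Led Lsl_dt (LP (LK LD1_c2 LD2_c25 LD3_c26)) = (LP (LK LD1_c1 LD2_c9 LD3_c57)) :=
  Lre_d IH (LK LD1_c2 LD2_c25 LD3_c26) (LK LD1_c1 LD2_c9 LD3_c57) Lrfl Lrfl
theorem f263688 : Led Lsl_gt (LP (LK LD1_c2 LD2_c41 LD3_c9)) = (LP (LK LD1_c2 LD2_c25 LD3_c26)) :=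
  Lgr Lrot49 (Lpe (K14.f168338 IH) (Lpe (K13.f168345 IH) (Lpr_cf (K13.f236358 IH) (Lpe (f263680 IH) (Lpe (f261414 IH) (Lpr_gt (f263684 IH) (Lpr_dt (f219089 IH) (Lpe (K14.f171985 IH) (Lpe (f219092 IH) (Lpn (LP (LK LD1_c2 LD2_c25 LD3_c26))))))))))))
theorem f223691 : Led Lsl_bt (LP (LK LD1_c1 LD2_c59 LD3_c6)) = (LP (LK LD1_c2 LD2_c41 LD3_c9)) :=
  Lgr Lrot95 (Lpr_df (K12.f223689 IH) (Lpr_bf (K13.f168318 IH) (Lpe (K14.f168529 IH) (Lpn (LP (LK LD1_c2 LD2_c41 LD3_c9))))))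
theorem f263707 : Led Lsl_bt (LP (LK LD1_c1 LD2_c9 LD3_c59)) = (LP (LK LD1_c2 LD2_c25 LD3_c26)) :=
  Lre_b IH (LK LD1_c1 LD2_c9 LD3_c59) (LK LD1_c2 LD2_c25 LD3_c26) Lrfl Lrfl
theorem f218571 : Led Lsl_ct (LP (LK LD1_c1 LD2_c9 LD3_c59)) = (LP (LK LD1_c2 LD2_c25 LD3_c30)) :=
  Lre_c IH (LK LD1_c1 LD2_c9 LD3_c59) (LK LD1_c2 LD2_c25 LD3_c30) Lrfl Lrfl
theorem f263708 : Led Lsl_gf (LP (LK LD1_c4 LD2_c54 LD3_c57)) = (LP (LK LD1_c2 LD2_c25 LD3_c30)) :=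
  Lgr Lrot126 (Lpe (K14.f246391 IH) (Lpr_bt (f243938 IH) (Lpe (f243933 IH) (Lpr_ct (K13.f170711 IH) (Lpr_gt (f243960 IH) (Lpe (K12.f200703 IH) (Lpr_bt (f223691 IH) (Lpr_gt (f263688 IH) (Lpe (f263707 IH) (Lpr_ct (f218571 IH) (Lpn (LP (LK LD1_c2 LD2_c25 LD3_c30)))))))))))))
theorem f246399 : Led Lsl_cf (LP (LK LD1_c2 LD2_c37 LD3_c40)) = (LP (LK LD1_c4 LD2_c54 LD3_c57)) :=
  Lgr Lrot11 (Lpr_ct (K14.f246391 IH) (Lpn (LP (LK LD1_c4 LD2_c54 LD3_c57))))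
theorem f218572 : Led Lsl_dt (LP (LK LD1_c4 LD2_c55 LD3_c12)) = (LP (LK LD1_c2 LD2_c25 LD3_c30)) :=
  Lre_d IH (LK LD1_c4 LD2_c55 LD3_c12) (LK LD1_c2 LD2_c25 LD3_c30) Lrfl Lrfl
theorem f263728 : Led Lsl_gf (LP (LK LD1_c8 LD2_c2 LD3_c45)) = (LP (LK LD1_c4 LD2_c55 LD3_c12)) :=
  Lgr Lrot147 (Lpe (K12.f223818 IH) (Lpr_gt (K12.f224553 IH) (Lpe (K12.f224654 IH) (Lpe (K12.f172021 IH) (Lpe (K12.f171982 IH) (Lpe (K13.f171895 IH) (Lpr_cf (f246399 IH) (Lpr_gf (f263708 IH) (Lpe (f218572 IH) (Lpn (LP (LK LD1_c4 LD2_c55 LD3_c12))))))))))))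
theorem f217341 : Led Lsl_dt (LP (LK LD1_c2 LD2_c25 LD3_c33)) = (LP (LK LD1_c4 LD2_c55 LD3_c19)) :=
  Lre_d IH (LK LD1_c2 LD2_c25 LD3_c33) (LK LD1_c4 LD2_c55 LD3_c19) Lrfl Lrfl
theorem f218574 : Led Lsl_ct (LP (LK LD1_c2 LD2_c25 LD3_c30)) = (LP (LK LD1_c1 LD2_c9 LD3_c59)) :=
  Lre_c IH (LK LD1_c2 LD2_c25 LD3_c30) (LK LD1_c1 LD2_c9 LD3_c59) Lrfl Lrfl
theorem f246455 : Led Lsl_cf (LP (LK LD1_c4 LD2_c55 LD3_c12)) = (LP (LK LD1_c2 LD2_c39 LD3_c10)) :=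
  Lgr Lrot55 (Lpr_dt (f218572 IH) (Lpr_ct (f218574 IH) (Lpr_dt (K13.f171910 IH) (Lpr_ct (K12.f171903 IH) (Lpr_dt (K14.f171979 IH) (Lpr_ct (f171917 IH) (Lpe (f224264 IH) (Lpr_ct (K14.f246447 IH) (Lpr_dt (f217461 IH) (Lpr_ct (K14.f216305 IH) (Lpr_dt (K14.f55082 IH) (Lpr_ct (K12.f168193 IH) (Lpr_dt (K12.f214012 IH) (Lpr_ct (K13.f214025 IH) (Lpe (K13.f224064 IH) (Lpn (LP (LK LD1_c2 LD2_c39 LD3_c10))))))))))))))))))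
theorem f263764 : Led Lsl_ct (LP (LK LD1_c4 LD2_c55 LD3_c19)) = (LP (LK LD1_c2 LD2_c39 LD3_c3)) :=
  Lgr Lrot7 (Lpe (f217341 IH) (Lpe (K14.f217339 IH) (Lpe (K12.f30904 IH) (Lpr_gf (f263728 IH) (Lpr_cf (f246455 IH) (Lpr_gt (K13.f217449 IH) (Lpr_dt (K12.f217659 IH) (Lpr_gt (K9.f173104 IH) (Lpr_dt (K14.f218496 IH) (Lpn (LP (LK LD1_c2 LD2_c39 LD3_c3))))))))))))
theorem f246426 : Led Lsl_gt (LP (LK LD1_c9 LD2_c42 LD3_c13)) = (LP (LK LD1_c4 LD2_c55 LD3_c19)) :=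
  Lre_g IH (LK LD1_c9 LD2_c42 LD3_c13) (LK LD1_c4 LD2_c55 LD3_c19) Lrfl Lrfl
theorem f228898 : Led Lsl_at (LP (LK LD1_c4 LD2_c12 LD3_c61)) = (LP (LK LD1_c2 LD2_c3 LD3_c54)) :=
  Lre_a IH (LK LD1_c4 LD2_c12 LD3_c61) (LK LD1_c2 LD2_c3 LD3_c54) Lrfl Lrfl
theorem f250411 : Led Lsl_at (LP (LK LD1_c2 LD2_c12 LD3_c21)) = (LP (LK LD1_c4 LD2_c30 LD3_c52)) :=
  Lre_a IH (LK LD1_c2 LD2_c12 LD3_c21) (LK LD1_c4 LD2_c30 LD3_c52) Lrfl Lrfl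
theorem f250412 : Led Lsl_df (LP (LK LD1_c4 LD2_c12 LD3_c61)) = (LP (LK LD1_c4 LD2_c30 LD3_c52)) :=
  Lgr Lrot18 (Lpr_at (f228898 IH) (Lpr_dt (K14.f250389 IH) (Lpr_at (f250411 IH) (Lpn (LP (LK LD1_c4 LD2_c30 LD3_c52))))))
theorem f258286 : Led Lsl_gt (LP (LK LD1_c2 LD2_c25 LD3_c10)) = (LP (LK LD1_c4 LD2_c30 LD3_c52)) :=
  Lgr Lrot49 (Lpe (K12.f101436 IH) (Lpe (K12.f40822 IH) (Lpe (K9.f167791 IH) (Lpr_gt (K9.f167830 IH) (Lpr_dt (K12.f167817 IH) (Lpr_gt (K12.f221676 IH) (Lpe (f258247 IH) (Lpr_cf (f258255 IH) (Lpr_df (f250412 IH) (Lpn (LP (LK LD1_c4 LD2_c30 LD3_c52))))))))))))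
theorem f263928 : Led Lsl_dt (LP (LK LD1_c9 LD2_c42 LD3_c13)) = (LP (LK LD1_c5 LD2_c22 LD3_c32)) :=
  Lgr Lrot6 (Lpr_gt (f246426 IH) (Lpr_ct (f263764 IH) (Lpr_gt (K14.f246506 IH) (Lpr_ct (K14.f246501 IH) (Lpr_df (K14.f253926 IH) (Lpr_cf (K14.f253917 IH) (Lpe (f258286 IH) (Lpe (K12.f201189 IH) (Lpe (K13.f220755 IH) (Lpn (LP (LK LD1_c5 LD2_c22 LD3_c32))))))))))))
theorem f263938 : Led Lsl_gf (LP (LK LD1_c9 LD2_c42 LD3_c13)) = (LP (LK LD1_c4 LD2_c55 LD3_c28)) :=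
  Lgr Lrot143 (Lpr_dt (f263928 IH) (Lpe (K13.f196615 IH) (Lpr_df (K12.f196609 IH) (Lpr_gf (K13.f246368 IH) (Lpr_df (K14.f196770 IH) (Lpe (K12.f196768 IH) (Lpr_cf (K12.f217302 IH) (Lpe (K12.f217444 IH) (Lpr_dt (K14.f217448 IH) (Lpn (LP (LK LD1_c4 LD2_c55 LD3_c28))))))))))))
theorem f195891 : Led Lsl_gt (LP (LK LD1_c2 LD2_c38 LD3_c61)) = (LP (LK LD1_c5 LD2_c24 LD3_c59)) :=
  Lre_g IH (LK LD1_c2 LD2_c38 LD3_c61) (LK LD1_c5 LD2_c24 LD3_c59) Lrfl Lrfl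
theorem f263940 : Led Lsl_dt (LP (LK LD1_c5 LD2_c24 LD3_c59)) = (LP (LK LD1_c5 LD2_c20 LD3_c27)) :=
  Lgr Lrot115 (Lpe (f195891 IH) (Lpr_ct (K14.f246466 IH) (Lpe (f263938 IH) (Lpr_dt (f263928 IH) (Lpr_gt (K13.f220755 IH) (Lpr_dt (K12.f201196 IH) (Lpe (K12.f218812 IH) (Lpe (K12.f221594 IH) (Lpr_gf (K12.f221668 IH) (Lpn (LP (LK LD1_c5 LD2_c20 LD3_c27))))))))))))
theorem f263981 : Led Lsl_df (LP (LK LD1_c5 LD2_c24 LD3_c59)) = (LP (LK LD1_c5 LD2_c20 LD3_c27)) :=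
  Lgr Lrot38 (Lpr_dt (f263940 IH) (Lpn (LP (LK LD1_c5 LD2_c20 LD3_c27))))
theorem f217824 : Led Lsl_gf (LP (LK LD1_c3 LD2_c58 LD3_c12)) = (LP (LK LD1_c5 LD2_c22 LD3_c58)) :=
  Lgr Lrot144 (Lpr_dt (K10.f167797 IH) (Lpr_gt (K12.f201072 IH) (Lpr_dt (K12.f194661 IH) (Lpe (K10.f196594 IH) (Lpr_df (K12.f217735 IH) (Lpe (K12.f217674 IH) (Lpe (K12.f196711 IH) (Lpe (K12.f196602 IH) (Lpe (K12.f196603 IH) (Lpn (LP (LK LD1_c5 LD2_c22 LD3_c58))))))))))))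
theorem f217826 : Led Lsl_ct (LP (LK LD1_c2 LD2_c37 LD3_c61)) = (LP (LK LD1_c5 LD2_c22 LD3_c58)) :=
  Lre_c IH (LK LD1_c2 LD2_c37 LD3_c61) (LK LD1_c5 LD2_c22 LD3_c58) Lrfl Lrfl
theorem f221599 : Led Lsl_gf (LP (LK LD1_c2 LD2_c37 LD3_c61)) = (LP (LK LD1_c1 LD2_c16 LD3_c8)) :=
  Lgr Lrot147 (Lpr_ct (f217826 IH) (Lpe (f217824 IH) (Lpr_ct (K12.f169271 IH) (Lpr_df (K12.f221543 IH) (Lpr_cf (K12.f218812 IH) (Lpe (K12.f201191 IH) (Lpr_cf (K12.f217655 IH) (Lpr_gf (K14.f217840 IH) (Lpe (K13.f217754 IH) (Lpn (LP (LK LD1_c1 LD2_c16 LD3_c8))))))))))))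
theorem f258306 : Led Lsl_dt (LP (LK LD1_c5 LD2_c22 LD3_c58)) = (LP (LK LD1_c8 LD2_c11 LD3_c3)) :=
  Lgr Lrot27 (Lpe (f217826 IH) (Lpr_gf (f221599 IH) (Lpe (K13.f217743 IH) (Lpr_gf (f224347 IH) (Lpe (f256805 IH) (Lpr_gt (f258300 IH) (Lpr_ct (K12.f223743 IH) (Lpr_gt (K14.f251008 IH) (Lpr_ct (K13.f230381 IH) (Lpn (LP (LK LD1_c8 LD2_c11 LD3_c3))))))))))))
theorem f173103 : Led Lsl_dt (LP (LK LD1_c2 LD2_c39 LD3_c3)) = (LP (LK LD1_c1 LD2_c16 LD3_c21)) :=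
  Lre_d IH (LK LD1_c2 LD2_c39 LD3_c3) (LK LD1_c1 LD2_c16 LD3_c21) Lrfl Lrfl
theorem f263999 : Led Lsl_gt (LP (LK LD1_c5 LD2_c24 LD3_c59)) = (LP (LK LD1_c2 LD2_c39 LD3_c3)) :=
  Lgr Lrot49 (Lpr_df (f263981 IH) (Lpr_gf (K12.f224819 IH) (Lpe (K12.f220737 IH) (Lpe (K12.f220734 IH) (Lpr_dt (f258306 IH) (Lpr_gt (K13.f191117 IH) (Lpe (K13.f223906 IH) (Lpe (K14.f173094 IH) (Lpe (f173103 IH) (Lpn (LP (LK LD1_c2 LD2_c39 LD3_c3))))))))))))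
theorem f226881 : Led Lsl_dt (LP (LK LD1_c1 LD2_c57 LD3_c21)) = (LP (LK LD1_c1 LD2_c9 LD3_c7)) :=
  Lgr Lrot27 (Lpe (K12.f52270 IH) (Lpe (K12.f223590 IH) (Lpe (K10.f27660 IH) (Lpe (K11.f200721 IH) (Lpe (K13.f189889 IH) (Lpr_gt (K12.f226877 IH) (Lpr_ct (K12.f166452 IH) (Lpe (K11.f193348 IH) (Lpr_ct (K12.f178977 IH) (Lpn (LP (LK LD1_c1 LD2_c9 LD3_c7))))))))))))
theorem f20678 : Led Lsl_bt (LP (LK LD1_c0 LD2_c31 LD3_c36)) = (LP (LK LD1_c0 LD2_c14 LD3_c1)) :=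
  Lre_b IH (LK LD1_c0 LD2_c31 LD3_c36) (LK LD1_c0 LD2_c14 LD3_c1) Lrfl Lrfl
theorem f200406 : Led Lsl_bt (LP (LK LD1_c2 LD2_c8 LD3_c29)) = (LP (LK LD1_c4 LD2_c22 LD3_c0)) :=
  Lre_b IH (LK LD1_c2 LD2_c8 LD3_c29) (LK LD1_c4 LD2_c22 LD3_c0) Lrfl Lrfl
theorem f200407 : Led Lsl_gt (LP (LK LD1_c4 LD2_c22 LD3_c0)) = (LP (LK LD1_c8 LD2_c41 LD3_c45)) :=
  Lre_g IH (LK LD1_c4 LD2_c22 LD3_c0) (LK LD1_c8 LD2_c41 LD3_c45) Lrfl Lrfl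
theorem f200408 : Led Lsl_dt (LP (LK LD1_c8 LD2_c41 LD3_c45)) = (LP (LK LD1_c16 LD2_c17 LD3_c7)) :=
  Lre_d IH (LK LD1_c8 LD2_c41 LD3_c45) (LK LD1_c16 LD2_c17 LD3_c7) Lrfl Lrfl
theorem f263766 : Led Lsl_bt (LP (LK LD1_c9 LD2_c41 LD3_c56)) = (LP (LK LD1_c4 LD2_c55 LD3_c12)) :=
  Lre_b IH (LK LD1_c9 LD2_c41 LD3_c56) (LK LD1_c4 LD2_c55 LD3_c12) Lrfl Lrfl
theorem f263767 : Led Lsl_ct (LP (LK LD1_c16 LD2_c17 LD3_c7)) = (LP (LK LD1_c9 LD2_c41 LD3_c56)) :=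
  Lgr Lrot191 (Lpe (f200408 IH) (Lpe (f200407 IH) (Lpe (f200406 IH) (Lpr_cf (K13.f193274 IH) (Lpe (K12.f200399 IH) (Lpe (K12.f179104 IH) (Lpe (K13.f165223 IH) (Lpe (K9.f165221 IH) (Lpe (K9.f20704 IH) (Lpe (K9.f2879 IH) (Lpe (f20678 IH) (Lpe (K12.f193350 IH) (Lpe (f226881 IH) (Lpe (K12.f28175 IH) (Lpe (K9.f30862 IH) (Lpe (K9.f30880 IH) (Lpe (K12.f30904 IH) (Lpr_gf (f263728 IH) (Lpe (f263766 IH) (Lpn (LP (LK LD1_c9 LD2_c41 LD3_c56))))))))))))))))))))))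
theorem f263773 : Led Lsl_cf (LP (LK LD1_c16 LD2_c17 LD3_c7)) = (LP (LK LD1_c9 LD2_c41 LD3_c56)) :=
  Lgr Lrot11 (Lpr_ct (f263767 IH) (Lpn (LP (LK LD1_c9 LD2_c41 LD3_c56))))
theorem f263781 : Led Lsl_bt (LP (LK LD1_c4 LD2_c55 LD3_c12)) = (LP (LK LD1_c9 LD2_c41 LD3_c56)) :=
  Lre_b IH (LK LD1_c4 LD2_c55 LD3_c12) (LK LD1_c9 LD2_c41 LD3_c56) Lrfl Lrfl
theorem f218398 : Led Lsl_bt (LP (LK LD1_c5 LD2_c25 LD3_c29)) = (LP (LK LD1_c2 LD2_c39 LD3_c10)) :=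
  Lre_b IH (LK LD1_c5 LD2_c25 LD3_c29) (LK LD1_c2 LD2_c39 LD3_c10) Lrfl Lrfl
theorem f218477 : Led Lsl_ct (LP (LK LD1_c10 LD2_c42 LD3_c4)) = (LP (LK LD1_c5 LD2_c25 LD3_c29)) :=
  Lre_c IH (LK LD1_c10 LD2_c42 LD3_c4) (LK LD1_c5 LD2_c25 LD3_c29) Lrfl Lrfl
theorem f263782 : Led Lsl_bt (LP (LK LD1_c16 LD2_c17 LD3_c7)) = (LP (LK LD1_c10 LD2_c42 LD3_c4)) :=
  Lgr Lrot128 (Lpr_cf (f263773 IH) (Lpe (f263781 IH) (Lpr_cf (f246455 IH) (Lpe (f218398 IH) (Lpe (f218477 IH) (Lpn (LP (LK LD1_c10 LD2_c42 LD3_c4))))))))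
theorem f263785 : Led Lsl_bf (LP (LK LD1_c16 LD2_c17 LD3_c7)) = (LP (LK LD1_c10 LD2_c42 LD3_c4)) :=
  Lgr Lrot24 (Lpr_bt (f263782 IH) (Lpn (LP (LK LD1_c10 LD2_c42 LD3_c4))))
theorem f218399 : Led Lsl_ct (LP (LK LD1_c5 LD2_c25 LD3_c29)) = (LP (LK LD1_c10 LD2_c42 LD3_c4)) :=
  Lre_c IH (LK LD1_c5 LD2_c25 LD3_c29) (LK LD1_c10 LD2_c42 LD3_c4) Lrfl Lrfl
theorem f224123 : Led Lsl_bt (LP (LK LD1_c2 LD2_c39 LD3_c10)) = (LP (LK LD1_c5 LD2_c25 LD3_c29)) :=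
  Lre_b IH (LK LD1_c2 LD2_c39 LD3_c10) (LK LD1_c5 LD2_c25 LD3_c29) Lrfl Lrfl
theorem f263853 : Led Lsl_ct (LP (LK LD1_c4 LD2_c55 LD3_c12)) = (LP (LK LD1_c2 LD2_c39 LD3_c10)) :=
  Lgr Lrot83 (Lpe (f263766 IH) (Lpe (f263767 IH) (Lpr_bf (f263785 IH) (Lpe (f218399 IH) (Lpe (f224123 IH) (Lpn (LP (LK LD1_c2 LD2_c39 LD3_c10))))))))
theorem f263857 : Led Lsl_cf (LP (LK LD1_c4 LD2_c55 LD3_c19)) = (LP (LK LD1_c2 LD2_c39 LD3_c3)) :=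
  Lgr Lrot14 (Lpe (f217341 IH) (Lpe (K14.f217339 IH) (Lpe (K12.f30904 IH) (Lpr_gf (f263728 IH) (Lpr_ct (f263853 IH) (Lpr_gt (K13.f217449 IH) (Lpr_dt (K12.f217659 IH) (Lpr_gt (K9.f173104 IH) (Lpr_dt (K14.f218496 IH) (Lpn (LP (LK LD1_c2 LD2_c39 LD3_c3))))))))))))
theorem f217342 : Led Lsl_gt (LP (LK LD1_c4 LD2_c55 LD3_c19)) = (LP (LK LD1_c9 LD2_c42 LD3_c12)) :=
  Lre_g IH (LK LD1_c4 LD2_c55 LD3_c19) (LK LD1_c9 LD2_c42 LD3_c12) Lrfl Lrfl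
theorem f218686 : Led Lsl_dt (LP (LK LD1_c5 LD2_c22 LD3_c55)) = (LP (LK LD1_c2 LD2_c37 LD3_c60)) :=
  Lre_d IH (LK LD1_c5 LD2_c22 LD3_c55) (LK LD1_c2 LD2_c37 LD3_c60) Lrfl Lrfl
theorem f264001 : Led Lsl_ct (LP (LK LD1_c9 LD2_c42 LD3_c12)) = (LP (LK LD1_c5 LD2_c22 LD3_c55)) :=
  Lgr Lrot110 (Lpe (f217342 IH) (Lpr_cf (f263857 IH) (Lpe (f263999 IH) (Lpr_df (f263981 IH) (Lpe (K12.f221668 IH) (Lpr_ct (K12.f167798 IH) (Lpr_gt (K12.f211417 IH) (Lpr_ct (K12.f228418 IH) (Lpe (f218686 IH) (Lpn (LP (LK LD1_c5 LD2_c22 LD3_c55))))))))))))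
theorem f217925 : Led Lsl_dt (LP (LK LD1_c2 LD2_c37 LD3_c60)) = (LP (LK LD1_c5 LD2_c22 LD3_c55)) :=
  Lre_d IH (LK LD1_c2 LD2_c37 LD3_c60) (LK LD1_c5 LD2_c22 LD3_c55) Lrfl Lrfl
theorem f258304 : Led Lsl_gt (LP (LK LD1_c5 LD2_c22 LD3_c55)) = (LP (LK LD1_c5 LD2_c20 LD3_c45)) :=
  Lgr Lrot49 (Lpe (f217925 IH) (Lpe (K12.f217729 IH) (Lpe (K12.f196710 IH) (Lpr_gt (f42494 IH) (Lpe (f256811 IH) (Lpr_gt (f258300 IH) (Lpr_dt (K14.f44309 IH) (Lpe (K12.f223848 IH) (Lpe (K12.f223864 IH) (Lpn (LP (LK LD1_c5 LD2_c20 LD3_c45))))))))))))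
theorem f217455 : Led Lsl_dt (LP (LK LD1_c4 LD2_c55 LD3_c28)) = (LP (LK LD1_c2 LD2_c25 LD3_c36)) :=
  Lre_d IH (LK LD1_c4 LD2_c55 LD3_c28) (LK LD1_c2 LD2_c25 LD3_c36) Lrfl Lrfl
theorem f264023 : Led Lsl_gt (LP (LK LD1_c9 LD2_c42 LD3_c12)) = (LP (LK LD1_c4 LD2_c55 LD3_c28)) :=
  Lgr Lrot180 (Lpr_ct (f264001 IH) (Lpr_gt (f258304 IH) (Lpr_dt (K12.f223864 IH) (Lpr_gt (K12.f172024 IH) (Lpe (K12.f224548 IH) (Lpr_ct (f223811 IH) (Lpe (K12.f30890 IH) (Lpe (K12.f217446 IH) (Lpe (f217455 IH) (Lpn (LP (LK LD1_c4 LD2_c55 LD3_c28))))))))))))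
theorem f264016 : Led Lsl_cf (LP (LK LD1_c9 LD2_c42 LD3_c12)) = (LP (LK LD1_c5 LD2_c22 LD3_c55)) :=
  Lgr Lrot11 (Lpr_ct (f264001 IH) (Lpn (LP (LK LD1_c5 LD2_c22 LD3_c55))))
theorem f264026 : Led Lsl_gf (LP (LK LD1_c5 LD2_c22 LD3_c55)) = (LP (LK LD1_c5 LD2_c20 LD3_c51)) :=
  Lgr Lrot147 (Lpe (f264016 IH) (Lpr_gt (f264023 IH) (Lpe (K14.f246460 IH) (Lpe (K14.f195890 IH) (Lpe (K12.f213030 IH) (Lpe (K12.f216303 IH) (Lpe (K12.f27721 IH) (Lpe (K12.f223748 IH) (Lpe (K12.f42174 IH) (Lpn (LP (LK LD1_c5 LD2_c20 LD3_c51))))))))))))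
theorem f223910 : Led Lsl_dt (LP (LK LD1_c2 LD2_c39 LD3_c2)) = (LP (LK LD1_c4 LD2_c5 LD3_c8)) :=
  Lgr Lrot42 (Lpr_df (K13.f223906 IH) (Lpn (LP (LK LD1_c4 LD2_c5 LD3_c8))))
theorem f264032 : Led Lsl_gf (LP (LK LD1_c2 LD2_c8 LD3_c47)) = (LP (LK LD1_c4 LD2_c5 LD3_c8)) :=
  Lgr Lrot143 (Lpe (K12.f200528 IH) (Lpr_cf (K12.f228406 IH) (Lpe (f218686 IH) (Lpr_gf (f264026 IH) (Lpe (K12.f42164 IH) (Lpr_gf (K12.f224437 IH) (Lpr_cf (K12.f224435 IH) (Lpe (K13.f223897 IH) (Lpr_dt (f223910 IH) (Lpn (LP (LK LD1_c4 LD2_c5 LD3_c8))))))))))))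
theorem f220745 : Led Lsl_et (LP (LK LD1_c2 LD2_c1 LD3_c53)) = (LP (LK LD1_c4 LD2_c9 LD3_c1)) :=
  Lre_e IH (LK LD1_c2 LD2_c1 LD3_c53) (LK LD1_c4 LD2_c9 LD3_c1) Lrfl Lrfl
theorem f257984 : Led Lsl_ct (LP (LK LD1_c2 LD2_c37 LD3_c53)) = (LP (LK LD1_c5 LD2_c22 LD3_c42)) :=
  Lre_c IH (LK LD1_c2 LD2_c37 LD3_c53) (LK LD1_c5 LD2_c22 LD3_c42) Lrfl Lrfl
theorem f257985 : Led Lsl_et (LP (LK LD1_c5 LD2_c22 LD3_c42)) = (LP (LK LD1_c5 LD2_c23 LD3_c39)) :=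
  Lgr Lrot158 (Lpe (f257984 IH) (Lpr_ef (f257982 IH) (Lpe (f257940 IH) (Lpn (LP (LK LD1_c5 LD2_c23 LD3_c39))))))
theorem f182531 : Led Lsl_gt (LP (LK LD1_c8 LD2_c11 LD3_c0)) = (LP (LK LD1_c4 LD2_c5 LD3_c7)) :=
  Lre_g IH (LK LD1_c8 LD2_c11 LD3_c0) (LK LD1_c4 LD2_c5 LD3_c7) Lrfl Lrfl
theorem f264046 : Led Lsl_dt (LP (LK LD1_c5 LD2_c22 LD3_c42)) = (LP (LK LD1_c8 LD2_c11 LD3_c0)) :=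
  Lgr Lrot136 (Lpr_et (f257985 IH) (Lpe (f257962 IH) (Lpe (f220745 IH) (Lpr_dt (K12.f220736 IH) (Lpe (K12.f228398 IH) (Lpr_df (K12.f200528 IH) (Lpr_gf (f264032 IH) (Lpe (K13.f182536 IH) (Lpr_dt (K13.f182534 IH) (Lpe (f182531 IH) (Lpn (LP (LK LD1_c8 LD2_c11 LD3_c0)))))))))))))
theorem f264063 : Led Lsl_gt (LP (LK LD1_c5 LD2_c15 LD3_c33)) = (LP (LK LD1_c8 LD2_c11 LD3_c0)) :=
  Lgr Lrot139 (Lpe (K14.f237093 IH) (Lpe (K12.f187908 IH) (Lpe (K0.f31073 IH) (Lpr_dt (K12.f28683 IH) (Lpr_gf (K11.f191175 IH) (Lpe (K14.f256082 IH) (Lpr_et (K14.f256078 IH) (Lpr_gf (f257937 IH) (Lpe (f257985 IH) (Lpr_dt (f264046 IH) (Lpn (LP (LK LD1_c8 LD2_c11 LD3_c0)))))))))))))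
theorem f54275 : Led Lsl_af (LP (LK LD1_c2 LD2_c7 LD3_c57)) = (LP (LK LD1_c2 LD2_c4 LD3_c57)) :=
  Lgr Lrot0 (Lpr_at (K10.f54273 IH) (Lpn (LP (LK LD1_c2 LD2_c4 LD3_c57))))
theorem f45613 : Led Lsl_ft (LP (LK LD1_c0 LD2_c59 LD3_c32)) = (LP (LK LD1_c2 LD2_c4 LD3_c57)) :=
  Lre_f IH (LK LD1_c0 LD2_c59 LD3_c32) (LK LD1_c2 LD2_c4 LD3_c57) Lrfl Lrfl
theorem f182093 : Led Lsl_gf (LP (LK LD1_c1 LD2_c24 LD3_c59)) = (LP (LK LD1_c0 LD2_c59 LD3_c32)) :=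
  Lgr Lrot47 (Lpr_gt (K9.f182089 IH) (Lpr_af (f54275 IH) (Lpe (f45613 IH) (Lpn (LP (LK LD1_c0 LD2_c59 LD3_c32))))))
theorem f182799 : Led Lsl_ct (LP (LK LD1_c2 LD2_c58 LD3_c31)) = (LP (LK LD1_c1 LD2_c24 LD3_c60)) :=
  Lre_c IH (LK LD1_c2 LD2_c58 LD3_c31) (LK LD1_c1 LD2_c24 LD3_c60) Lrfl Lrfl
theorem f231861 : Led Lsl_gt (LP (LK LD1_c6 LD2_c4 LD3_c39)) = (LP (LK LD1_c2 LD2_c58 LD3_c31)) :=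
  Lre_g IH (LK LD1_c6 LD2_c4 LD3_c39) (LK LD1_c2 LD2_c58 LD3_c31) Lrfl Lrfl
theorem f264067 : Led Lsl_cf (LP (LK LD1_c6 LD2_c4 LD3_c39)) = (LP (LK LD1_c8 LD2_c11 LD3_c0)) :=
  Lgr Lrot169 (Lpr_gt (f231861 IH) (Lpr_ct (f182799 IH) (Lpe (K14.f42121 IH) (Lpe (K9.f42474 IH) (Lpr_gf (f182093 IH) (Lpe (K9.f54068 IH) (Lpr_gf (K13.f196387 IH) (Lpe (K14.f190972 IH) (Lpr_gt (f264063 IH) (Lpn (LP (LK LD1_c8 LD2_c11 LD3_c0))))))))))))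
theorem f182766 : Led Lsl_ct (LP (LK LD1_c1 LD2_c24 LD3_c60)) = (LP (LK LD1_c2 LD2_c58 LD3_c31)) :=
  Lre_c IH (LK LD1_c1 LD2_c24 LD3_c60) (LK LD1_c2 LD2_c58 LD3_c31) Lrfl Lrfl
theorem f231860 : Led Lsl_bt (LP (LK LD1_c1 LD2_c24 LD3_c60)) = (LP (LK LD1_c2 LD2_c58 LD3_c28)) :=
  Lre_b IH (LK LD1_c1 LD2_c24 LD3_c60) (LK LD1_c2 LD2_c58 LD3_c28) Lrfl Lrfl
theorem f42241 : Led Lsl_dt (LP (LK LD1_c2 LD2_c58 LD3_c28)) = (LP (LK LD1_c1 LD2_c24 LD3_c58)) :=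
  Lre_d IH (LK LD1_c2 LD2_c58 LD3_c28) (LK LD1_c1 LD2_c24 LD3_c58) Lrfl Lrfl
theorem f187770 : Led Lsl_ct (LP (LK LD1_c4 LD2_c6 LD3_c30)) = (LP (LK LD1_c2 LD2_c0 LD3_c35)) :=
  Lre_c IH (LK LD1_c4 LD2_c6 LD3_c30) (LK LD1_c2 LD2_c0 LD3_c35) Lrfl Lrfl
theorem f260381 : Led Lsl_gf (LP (LK LD1_c4 LD2_c6 LD3_c30)) = (LP (LK LD1_c8 LD2_c13 LD3_c20)) :=
  Lgr Lrot104 (Lpr_ct (f187770 IH) (Lpe (K14.f47861 IH) (Lpe (K10.f187489 IH) (Lpr_gf (K10.f187490 IH) (Lpr_cf (K9.f183619 IH) (Lpr_gf (K10.f194182 IH) (Lpe (f42241 IH) (Lpe (f194184 IH) (Lpr_ct (f260288 IH) (Lpn (LP (LK LD1_c8 LD2_c13 LD3_c20))))))))))))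
theorem f55027 : Led Lsl_ct (LP (LK LD1_c2 LD2_c0 LD3_c35)) = (LP (LK LD1_c4 LD2_c6 LD3_c30)) :=
  Lre_c IH (LK LD1_c2 LD2_c0 LD3_c35) (LK LD1_c4 LD2_c6 LD3_c30) Lrfl Lrfl
theorem f260385 : Led Lsl_bt (LP (LK LD1_c2 LD2_c0 LD3_c35)) = (LP (LK LD1_c4 LD2_c6 LD3_c26)) :=
  Lre_b IH (LK LD1_c2 LD2_c0 LD3_c35) (LK LD1_c4 LD2_c6 LD3_c26) Lrfl Lrfl
theorem f231796 : Led Lsl_gt (LP (LK LD1_c4 LD2_c6 LD3_c26)) = (LP (LK LD1_c8 LD2_c13 LD3_c28)) :=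
  Lre_g IH (LK LD1_c4 LD2_c6 LD3_c26) (LK LD1_c8 LD2_c13 LD3_c28) Lrfl Lrfl
theorem f264077 : Led Lsl_bf (LP (LK LD1_c8 LD2_c13 LD3_c28)) = (LP (LK LD1_c8 LD2_c11 LD3_c0)) :=
  Lgr Lrot34 (Lpe (f231796 IH) (Lpe (f260385 IH) (Lpr_ct (f55027 IH) (Lpr_gf (f260381 IH) (Lpe (f260288 IH) (Lpr_gf (f194184 IH) (Lpe (f231860 IH) (Lpr_ct (f182766 IH) (Lpe (f231861 IH) (Lpr_cf (f264067 IH) (Lpn (LP (LK LD1_c8 LD2_c11 LD3_c0)))))))))))))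
theorem f264081 : Led Lsl_bt (LP (LK LD1_c8 LD2_c13 LD3_c28)) = (LP (LK LD1_c8 LD2_c11 LD3_c0)) :=
  Lgr Lrot127 (Lpr_bf (f264077 IH) (Lpn (LP (LK LD1_c8 LD2_c11 LD3_c0))))
theorem f182535 : Led Lsl_ct (LP (LK LD1_c4 LD2_c5 LD3_c7)) = (LP (LK LD1_c8 LD2_c11 LD3_c1)) :=
  Lre_c IH (LK LD1_c4 LD2_c5 LD3_c7) (LK LD1_c8 LD2_c11 LD3_c1) Lrfl Lrfl
theorem f184638 : Led Lsl_ct (LP (LK LD1_c5 LD2_c6 LD3_c16)) = (LP (LK LD1_c2 LD2_c30 LD3_c24)) :=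
  Lre_c IH (LK LD1_c5 LD2_c6 LD3_c16) (LK LD1_c2 LD2_c30 LD3_c24) Lrfl Lrfl
theorem f264061 : Led Lsl_gf (LP (LK LD1_c5 LD2_c6 LD3_c16)) = (LP (LK LD1_c8 LD2_c11 LD3_c1)) :=
  Lgr Lrot172 (Lpr_ct (f184638 IH) (Lpr_dt (K10.f184635 IH) (Lpe (K11.f189565 IH) (Lpr_gf (K14.f253940 IH) (Lpe (K10.f169265 IH) (Lpe (f258003 IH) (Lpr_dt (f264046 IH) (Lpr_gt (f182531 IH) (Lpr_ct (f182535 IH) (Lpn (LP (LK LD1_c8 LD2_c11 LD3_c1))))))))))))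
theorem f166143 : Led Lsl_ct (LP (LK LD1_c2 LD2_c30 LD3_c24)) = (LP (LK LD1_c5 LD2_c6 LD3_c16)) :=
  Lre_c IH (LK LD1_c2 LD2_c30 LD3_c24) (LK LD1_c5 LD2_c6 LD3_c16) Lrfl Lrfl
theorem f166142 : Led Lsl_bt (LP (LK LD1_c2 LD2_c30 LD3_c24)) = (LP (LK LD1_c1 LD2_c12 LD3_c15)) :=
  Lre_b IH (LK LD1_c2 LD2_c30 LD3_c24) (LK LD1_c1 LD2_c12 LD3_c15) Lrfl Lrfl
theorem f198747 : Led Lsl_gt (LP (LK LD1_c2 LD2_c39 LD3_c31)) = (LP (LK LD1_c5 LD2_c26 LD3_c7)) :=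
  Lre_g IH (LK LD1_c2 LD2_c39 LD3_c31) (LK LD1_c5 LD2_c26 LD3_c7) Lrfl Lrfl
theorem f264088 : Led Lsl_ct (LP (LK LD1_c8 LD2_c13 LD3_c28)) = (LP (LK LD1_c5 LD2_c26 LD3_c7)) :=
  Lgr Lrot10 (Lpr_bt (f264081 IH) (Lpr_gt (f182531 IH) (Lpr_ct (f182535 IH) (Lpe (f264061 IH) (Lpe (f166143 IH) (Lpr_bt (f166142 IH) (Lpr_gt (K14.f198718 IH) (Lpe (K12.f195604 IH) (Lpr_ct (K12.f191147 IH) (Lpr_gt (f198747 IH) (Lpn (LP (LK LD1_c5 LD2_c26 LD3_c7)))))))))))))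
theorem f49918 : Led Lsl_ct (LP (LK LD1_c4 LD2_c7 LD3_c37)) = (LP (LK LD1_c2 LD2_c1 LD3_c10)) :=
  Lre_c IH (LK LD1_c4 LD2_c7 LD3_c37) (LK LD1_c2 LD2_c1 LD3_c10) Lrfl Lrfl
theorem f264098 : Led Lsl_gf (LP (LK LD1_c4 LD2_c7 LD3_c37)) = (LP (LK LD1_c5 LD2_c26 LD3_c7)) :=
  Lgr Lrot104 (Lpr_ct (f49918 IH) (Lpe (K13.f49900 IH) (Lpe (K10.f189515 IH) (Lpe (K9.f32916 IH) (Lpe (K9.f32421 IH) (Lpe (K14.f231794 IH) (Lpe (K14.f192519 IH) (Lpr_gt (f231796 IH) (Lpr_ct (f264088 IH) (Lpn (LP (LK LD1_c5 LD2_c26 LD3_c7))))))))))))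
theorem f231712 : Led Lsl_bf (LP (LK LD1_c2 LD2_c4 LD3_c50)) = (LP (LK LD1_c2 LD2_c1 LD3_c10)) :=
  Lgr Lrot93 (Lpr_dt (f49082 IH) (Lpr_bt (K13.f231708 IH) (Lpr_dt (K13.f49900 IH) (Lpn (LP (LK LD1_c2 LD2_c1 LD3_c10))))))
theorem f49917 : Led Lsl_ct (LP (LK LD1_c2 LD2_c1 LD3_c10)) = (LP (LK LD1_c4 LD2_c7 LD3_c37)) :=
  Lre_c IH (LK LD1_c2 LD2_c1 LD3_c10) (LK LD1_c4 LD2_c7 LD3_c37) Lrfl Lrfl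
theorem f260404 : Led Lsl_gt (LP (LK LD1_c4 LD2_c7 LD3_c37)) = (LP (LK LD1_c5 LD2_c26 LD3_c8)) :=
  Lgr Lrot65 (Lpe (f49917 IH) (Lpe (f231712 IH) (Lpr_gf (f260399 IH) (Lpe (K13.f192161 IH) (Lpr_ct (K13.f171663 IH) (Lpe (K13.f241023 IH) (Lpe (K13.f239287 IH) (Lpe (f241894 IH) (Lpe (K12.f195605 IH) (Lpe (K12.f192580 IH) (Lpn (LP (LK LD1_c5 LD2_c26 LD3_c8)))))))))))))
theorem f264059 : Led Lsl_ff (LP (LK LD1_c8 LD2_c13 LD3_c14)) = (LP (LK LD1_c8 LD2_c11 LD3_c0)) :=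
  Lgr Lrot19 (Lpr_dt (K14.f192272 IH) (Lpe (f258011 IH) (Lpr_dt (f264046 IH) (Lpn (LP (LK LD1_c8 LD2_c11 LD3_c0))))))
theorem f192270 : Led Lsl_bt (LP (LK LD1_c8 LD2_c13 LD3_c14)) = (LP (LK LD1_c5 LD2_c17 LD3_c13)) :=
  Lgr Lrot95 (Lpr_df (K14.f192266 IH) (Lpe (K10.f189778 IH) (Lpr_df (K10.f49163 IH) (Lpn (LP (LK LD1_c5 LD2_c17 LD3_c13))))))
theorem f264085 : Led Lsl_ff (LP (LK LD1_c8 LD2_c13 LD3_c28)) = (LP (LK LD1_c5 LD2_c17 LD3_c13)) :=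
  Lgr Lrot25 (Lpr_bt (f264081 IH) (Lpe (f264059 IH) (Lpr_bt (f192270 IH) (Lpn (LP (LK LD1_c5 LD2_c17 LD3_c13))))))
theorem f259384 : Led Lsl_gt (LP (LK LD1_c0 LD2_c59 LD3_c41)) = (LP (LK LD1_c2 LD2_c4 LD3_c59)) :=
  Lgr Lrot94 (Lpr_cf (f197011 IH) (Lpr_gt (K14.f175058 IH) (Lpr_dt (K14.f175071 IH) (Lpr_gt (f259190 IH) (Lpr_dt (K10.f47752 IH) (Lpr_cf (K9.f49103 IH) (Lpe (f48337 IH) (Lpr_gf (f259373 IH) (Lpe (K10.f48193 IH) (Lpn (LP (LK LD1_c2 LD2_c4 LD3_c59))))))))))))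
theorem f261388 : Led Lsl_ct (LP (LK LD1_c6 LD2_c5 LD3_c28)) = (LP (LK LD1_c5 LD2_c17 LD3_c13)) :=
  Lgr Lrot110 (Lpe (f181204 IH) (Lpe (f181203 IH) (Lpr_gf (f261382 IH) (Lpe (f236143 IH) (Lpr_gt (K13.f175055 IH) (Lpe (f197011 IH) (Lpr_gt (f259384 IH) (Lpe (K10.f49191 IH) (Lpr_df (K10.f49163 IH) (Lpn (LP (LK LD1_c5 LD2_c17 LD3_c13))))))))))))
theorem f264096 : Led Lsl_ff (LP (LK LD1_c6 LD2_c5 LD3_c28)) = (LP (LK LD1_c5 LD2_c26 LD3_c7)) :=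
  Lgr Lrot23 (Lpr_ct (f261388 IH) (Lpe (f264085 IH) (Lpr_ct (f264088 IH) (Lpn (LP (LK LD1_c5 LD2_c26 LD3_c7))))))
theorem f264103 : Led Lsl_af (LP (LK LD1_c5 LD2_c26 LD3_c8)) = (LP (LK LD1_c6 LD2_c5 LD3_c28)) :=
  Lgr Lrot31 (Lpe (f260404 IH) (Lpr_gf (f264098 IH) (Lpe (f264096 IH) (Lpn (LP (LK LD1_c6 LD2_c5 LD3_c28))))))
theorem f257816 : Led Lsl_ct (LP (LK LD1_c6 LD2_c5 LD3_c29)) = (LP (LK LD1_c5 LD2_c17 LD3_c14)) :=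
  Lgr Lrot8 (Lpr_gt (f182086 IH) (Lpr_dt (f182085 IH) (Lpr_gt (f257810 IH) (Lpe (K10.f187730 IH) (Lpr_cf (K10.f187495 IH) (Lpe (K10.f32950 IH) (Lpe (K10.f32906 IH) (Lpe (K13.f49112 IH) (Lpe (f187649 IH) (Lpn (LP (LK LD1_c5 LD2_c17 LD3_c14))))))))))))
theorem f257873 : Led Lsl_ft (LP (LK LD1_c5 LD2_c26 LD3_c8)) = (LP (LK LD1_c6 LD2_c5 LD3_c29)) :=
  Lgr Lrot4 (Lpr_cf (K12.f192580 IH) (Lpr_ff (f257870 IH) (Lpe (f257816 IH) (Lpn (LP (LK LD1_c6 LD2_c5 LD3_c29))))))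
theorem f264124 : Led Lsl_at (LP (LK LD1_c6 LD2_c5 LD3_c29)) = (LP (LK LD1_c5 LD2_c26 LD3_c7)) :=
  Lgr Lrot66 (Lpe (f257873 IH) (Lpr_af (f264103 IH) (Lpr_ff (f264096 IH) (Lpn (LP (LK LD1_c5 LD2_c26 LD3_c7))))))
theorem f259358 : Led Lsl_df (LP (LK LD1_c6 LD2_c5 LD3_c29)) = (LP (LK LD1_c10 LD2_c44 LD3_c37)) :=
  Lgr Lrot38 (Lpr_dt (f259333 IH) (Lpn (LP (LK LD1_c10 LD2_c44 LD3_c37))))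
theorem f251434 : Led Lsl_dt (LP (LK LD1_c5 LD2_c26 LD3_c7)) = (LP (LK LD1_c10 LD2_c43 LD3_c32)) :=
  Lre_d IH (LK LD1_c5 LD2_c26 LD3_c7) (LK LD1_c10 LD2_c43 LD3_c32) Lrfl Lrfl
theorem f264132 : Led Lsl_af (LP (LK LD1_c10 LD2_c44 LD3_c37)) = (LP (LK LD1_c10 LD2_c43 LD3_c32)) :=
  Lgr Lrot117 (Lpe (f259358 IH) (Lpr_at (f264124 IH) (Lpr_dt (f251434 IH) (Lpn (LP (LK LD1_c10 LD2_c43 LD3_c32))))))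
theorem f184168 : Led Lsl_ct (LP (LK LD1_c10 LD2_c23 LD3_c58)) = (LP (LK LD1_c5 LD2_c17 LD3_c8)) :=
  Lre_c IH (LK LD1_c10 LD2_c23 LD3_c58) (LK LD1_c5 LD2_c17 LD3_c8) Lrfl Lrfl
theorem f191148 : Led Lsl_dt (LP (LK LD1_c5 LD2_c26 LD3_c10)) = (LP (LK LD1_c2 LD2_c39 LD3_c31)) :=
  Lre_d IH (LK LD1_c5 LD2_c26 LD3_c10) (LK LD1_c2 LD2_c39 LD3_c31) Lrfl Lrfl
theorem f231580 : Led Lsl_gt (LP (LK LD1_c10 LD2_c23 LD3_c58)) = (LP (LK LD1_c5 LD2_c26 LD3_c10)) :=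
  Lgr Lrot49 (Lpe (K10.f184153 IH) (Lpr_gf (K13.f231576 IH) (Lpe (K13.f50391 IH) (Lpr_gt (K13.f49631 IH) (Lpr_dt (K9.f49615 IH) (Lpe (K10.f191103 IH) (Lpr_dt (K12.f185688 IH) (Lpe (K12.f191149 IH) (Lpe (f191148 IH) (Lpn (LP (LK LD1_c5 LD2_c26 LD3_c10))))))))))))
theorem f169540 : Led Lsl_dt (LP (LK LD1_c5 LD2_c5 LD3_c30)) = (LP (LK LD1_c10 LD2_c2 LD3_c7)) :=
  Lre_d IH (LK LD1_c5 LD2_c5 LD3_c30) (LK LD1_c10 LD2_c2 LD3_c7) Lrfl Lrfl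
theorem f251437 : Led Lsl_cf (LP (LK LD1_c10 LD2_c43 LD3_c32)) = (LP (LK LD1_c10 LD2_c2 LD3_c7)) :=
  Lgr Lrot14 (Lpe (f251434 IH) (Lpe (f198747 IH) (Lpe (f191148 IH) (Lpe (f231580 IH) (Lpr_ct (f184168 IH) (Lpr_gt (K10.f184189 IH) (Lpr_dt (K10.f184119 IH) (Lpr_gt (K14.f251432 IH) (Lpr_dt (f169540 IH) (Lpn (LP (LK LD1_c10 LD2_c2 LD3_c7))))))))))))
theorem f264137 : Led Lsl_at (LP (LK LD1_c10 LD2_c24 LD3_c32)) = (LP (LK LD1_c10 LD2_c2 LD3_c7)) :=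
  Lgr Lrot107 (Lpr_cf (f259363 IH) (Lpr_af (f264132 IH) (Lpr_cf (f251437 IH) (Lpn (LP (LK LD1_c10 LD2_c2 LD3_c7))))))
theorem f169542 : Led Lsl_dt (LP (LK LD1_c10 LD2_c2 LD3_c7)) = (LP (LK LD1_c5 LD2_c5 LD3_c30)) :=
  Lre_d IH (LK LD1_c10 LD2_c2 LD3_c7) (LK LD1_c5 LD2_c5 LD3_c30) Lrfl Lrfl
theorem f264150 : Led Lsl_af (LP (LK LD1_c5 LD2_c17 LD3_c29)) = (LP (LK LD1_c5 LD2_c5 LD3_c30)) :=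
  Lgr Lrot117 (Lpr_dt (f48196 IH) (Lpr_at (f264137 IH) (Lpr_dt (f169542 IH) (Lpn (LP (LK LD1_c5 LD2_c5 LD3_c30))))))
theorem f264174 : Led Lsl_ft (LP (LK LD1_c5 LD2_c12 LD3_c15)) = (LP (LK LD1_c5 LD2_c5 LD3_c30)) :=
  Lgr Lrot2 (Lpe (K14.f250066 IH) (Lpr_gt (f259365 IH) (Lpr_af (f264150 IH) (Lpn (LP (LK LD1_c5 LD2_c5 LD3_c30))))))
theorem f250051 : Led Lsl_bt (LP (LK LD1_c2 LD2_c28 LD3_c50)) = (LP (LK LD1_c5 LD2_c2 LD3_c31)) :=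
  Lre_b IH (LK LD1_c2 LD2_c28 LD3_c50) (LK LD1_c5 LD2_c2 LD3_c31) Lrfl Lrfl
theorem f250052 : Led Lsl_ct (LP (LK LD1_c5 LD2_c2 LD3_c31)) = (LP (LK LD1_c9 LD2_c55 LD3_c58)) :=
  Lre_c IH (LK LD1_c5 LD2_c2 LD3_c31) (LK LD1_c9 LD2_c55 LD3_c58) Lrfl Lrfl
theorem f250053 : Led Lsl_bt (LP (LK LD1_c9 LD2_c55 LD3_c58)) = (LP (LK LD1_c5 LD2_c12 LD3_c15)) :=
  Lgr Lrot128 (Lpe (f250052 IH) (Lpe (f250051 IH) (Lpr_cf (K14.f250049 IH) (Lpe (K14.f185006 IH) (Lpe (K14.f185033 IH) (Lpn (LP (LK LD1_c5 LD2_c12 LD3_c15))))))))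
theorem f169543 : Led Lsl_bt (LP (LK LD1_c5 LD2_c5 LD3_c30)) = (LP (LK LD1_c10 LD2_c2 LD3_c6)) :=
  Lre_b IH (LK LD1_c5 LD2_c5 LD3_c30) (LK LD1_c10 LD2_c2 LD3_c6) Lrfl Lrfl
theorem f264176 : Led Lsl_ff (LP (LK LD1_c9 LD2_c55 LD3_c58)) = (LP (LK LD1_c10 LD2_c2 LD3_c6)) :=
  Lgr Lrot25 (Lpr_bt (f250053 IH) (Lpr_ft (f264174 IH) (Lpr_bt (f169543 IH) (Lpn (LP (LK LD1_c10 LD2_c2 LD3_c6))))))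
theorem f264200 : Led Lsl_ft (LP (LK LD1_c9 LD2_c55 LD3_c58)) = (LP (LK LD1_c10 LD2_c2 LD3_c6)) :=
  Lgr Lrot48 (Lpr_ff (f264176 IH) (Lpn (LP (LK LD1_c10 LD2_c2 LD3_c6))))
theorem f186725 : Led Lsl_ct (LP (LK LD1_c10 LD2_c2 LD3_c6)) = (LP (LK LD1_c5 LD2_c5 LD3_c32)) :=
  Lre_c IH (LK LD1_c10 LD2_c2 LD3_c6) (LK LD1_c5 LD2_c5 LD3_c32) Lrfl Lrfl
theorem f264207 : Led Lsl_ff (LP (LK LD1_c5 LD2_c2 LD3_c31)) = (LP (LK LD1_c5 LD2_c5 LD3_c32)) :=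
  Lgr Lrot23 (Lpr_ct (f250052 IH) (Lpr_ft (f264200 IH) (Lpr_ct (f186725 IH) (Lpn (LP (LK LD1_c5 LD2_c5 LD3_c32))))))
theorem f165780 : Led Lsl_bt (LP (LK LD1_c5 LD2_c2 LD3_c31)) = (LP (LK LD1_c2 LD2_c28 LD3_c50)) :=
  Lre_b IH (LK LD1_c5 LD2_c2 LD3_c31) (LK LD1_c2 LD2_c28 LD3_c50) Lrfl Lrfl
theorem f169458 : Led Lsl_bt (LP (LK LD1_c2 LD2_c30 LD3_c0)) = (LP (LK LD1_c5 LD2_c5 LD3_c32)) :=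
  Lre_b IH (LK LD1_c2 LD2_c30 LD3_c0) (LK LD1_c5 LD2_c5 LD3_c32) Lrfl Lrfl
theorem f264237 : Led Lsl_ft (LP (LK LD1_c2 LD2_c28 LD3_c50)) = (LP (LK LD1_c2 LD2_c30 LD3_c0)) :=
  Lgr Lrot75 (Lpe (f165780 IH) (Lpr_ff (f264207 IH) (Lpe (f169458 IH) (Lpn (LP (LK LD1_c2 LD2_c30 LD3_c0))))))
theorem f264250 : Led Lsl_af (LP (LK LD1_c2 LD2_c28 LD3_c49)) = (LP (LK LD1_c2 LD2_c30 LD3_c0)) :=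
  Lgr Lrot31 (Lpe (K12.f165626 IH) (Lpe (K14.f165639 IH) (Lpr_ft (f264237 IH) (Lpn (LP (LK LD1_c2 LD2_c30 LD3_c0))))))
theorem f212099 : Led Lsl_et (LP (LK LD1_c2 LD2_c28 LD3_c49)) = (LP (LK LD1_c5 LD2_c2 LD3_c30)) :=
  Lre_e IH (LK LD1_c2 LD2_c28 LD3_c49) (LK LD1_c5 LD2_c2 LD3_c30) Lrfl Lrfl
theorem f180613 : Led Lsl_et (LP (LK LD1_c5 LD2_c5 LD3_c33)) = (LP (LK LD1_c2 LD2_c30 LD3_c0)) :=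
  Lre_e IH (LK LD1_c5 LD2_c5 LD3_c33) (LK LD1_c2 LD2_c30 LD3_c0) Lrfl Lrfl
theorem f264259 : Led Lsl_at (LP (LK LD1_c5 LD2_c2 LD3_c30)) = (LP (LK LD1_c5 LD2_c5 LD3_c33)) :=
  Lgr Lrot80 (Lpe (f212099 IH) (Lpr_af (f264250 IH) (Lpe (f180613 IH) (Lpn (LP (LK LD1_c5 LD2_c5 LD3_c33))))))
theorem f264261 : Led Lsl_af (LP (LK LD1_c5 LD2_c2 LD3_c30)) = (LP (LK LD1_c5 LD2_c5 LD3_c33)) :=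
  Lgr Lrot0 (Lpr_at (f264259 IH) (Lpn (LP (LK LD1_c5 LD2_c5 LD3_c33))))
theorem f212221 : Led Lsl_ct (LP (LK LD1_c5 LD2_c2 LD3_c30)) = (LP (LK LD1_c2 LD2_c32 LD3_c56)) :=
  Lgr Lrot15 (Lpe (f212099 IH) (Lpr_cf (K12.f212104 IH) (Lpe (K14.f185644 IH) (Lpn (LP (LK LD1_c2 LD2_c32 LD3_c56))))))
theorem f169549 : Led Lsl_ct (LP (LK LD1_c2 LD2_c30 LD3_c1)) = (LP (LK LD1_c5 LD2_c5 LD3_c33)) :=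
  Lre_c IH (LK LD1_c2 LD2_c30 LD3_c1) (LK LD1_c5 LD2_c5 LD3_c33) Lrfl Lrfl
theorem f264301 : Led Lsl_at (LP (LK LD1_c2 LD2_c32 LD3_c56)) = (LP (LK LD1_c2 LD2_c30 LD3_c1)) :=
  Lgr Lrot107 (Lpe (f212221 IH) (Lpr_af (f264261 IH) (Lpe (f169549 IH) (Lpn (LP (LK LD1_c2 LD2_c30 LD3_c1))))))
theorem f169473 : Led Lsl_ft (LP (LK LD1_c2 LD2_c30 LD3_c1)) = (LP (LK LD1_c5 LD2_c5 LD3_c36)) :=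
  Lre_f IH (LK LD1_c2 LD2_c30 LD3_c1) (LK LD1_c5 LD2_c5 LD3_c36) Lrfl Lrfl
theorem f264311 : Led Lsl_af (LP (LK LD1_c5 LD2_c12 LD3_c13)) = (LP (LK LD1_c5 LD2_c5 LD3_c36)) :=
  Lgr Lrot45 (Lpr_ft (K12.f185634 IH) (Lpr_at (f264301 IH) (Lpr_ft (f169473 IH) (Lpn (LP (LK LD1_c5 LD2_c5 LD3_c36))))))
theorem f264321 : Led Lsl_at (LP (LK LD1_c2 LD2_c39 LD3_c37)) = (LP (LK LD1_c2 LD2_c59 LD3_c6)) :=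
  Lgr Lrot51 (Lpe (K12.f185650 IH) (Lpr_af (f264311 IH) (Lpe (K9.f169471 IH) (Lpn (LP (LK LD1_c2 LD2_c59 LD3_c6))))))
theorem f264352 : Led Lsl_af (LP (LK LD1_c2 LD2_c39 LD3_c37)) = (LP (LK LD1_c2 LD2_c59 LD3_c6)) :=
  Lgr Lrot0 (Lpr_at (f264321 IH) (Lpn (LP (LK LD1_c2 LD2_c59 LD3_c6))))
theorem f185652 : Led Lsl_ft (LP (LK LD1_c2 LD2_c39 LD3_c37)) = (LP (LK LD1_c1 LD2_c16 LD3_c34)) :=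
  Lre_f IH (LK LD1_c2 LD2_c39 LD3_c37) (LK LD1_c1 LD2_c16 LD3_c34) Lrfl Lrfl
theorem f264356 : Led Lsl_at (LP (LK LD1_c1 LD2_c16 LD3_c34)) = (LP (LK LD1_c1 LD2_c25 LD3_c16)) :=
  Lgr Lrot66 (Lpe (f185652 IH) (Lpr_af (f264352 IH) (Lpe (K9.f169469 IH) (Lpn (LP (LK LD1_c1 LD2_c25 LD3_c16))))))
theorem f185687 : Led Lsl_et (LP (LK LD1_c0 LD2_c35 LD3_c26)) = (LP (LK LD1_c1 LD2_c16 LD3_c34)) :=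
  Lre_e IH (LK LD1_c0 LD2_c35 LD3_c26) (LK LD1_c1 LD2_c16 LD3_c34) Lrfl Lrfl
theorem f264364 : Led Lsl_af (LP (LK LD1_c0 LD2_c35 LD3_c26)) = (LP (LK LD1_c0 LD2_c39 LD3_c17)) :=
  Lgr Lrot50 (Lpr_et (f185687 IH) (Lpr_at (f264356 IH) (Lpr_et (K9.f169453 IH) (Lpn (LP (LK LD1_c0 LD2_c39 LD3_c17))))))
theorem f264372 : Led Lsl_ft (LP (LK LD1_c0 LD2_c35 LD3_c23)) = (LP (LK LD1_c0 LD2_c39 LD3_c17)) :=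
  Lgr Lrot2 (Lpr_gt (K9.f166120 IH) (Lpr_gt (K14.f198718 IH) (Lpr_af (f264364 IH) (Lpn (LP (LK LD1_c0 LD2_c39 LD3_c17))))))
theorem f264379 : Led Lsl_ff (LP (LK LD1_c0 LD2_c35 LD3_c23)) = (LP (LK LD1_c0 LD2_c39 LD3_c17)) :=
  Lgr Lrot3 (Lpr_ft (f264372 IH) (Lpn (LP (LK LD1_c0 LD2_c39 LD3_c17))))
theorem f264390 : Led Lsl_at (LP (LK LD1_c0 LD2_c35 LD3_c23)) = (LP (LK LD1_c0 LD2_c39 LD3_c14)) :=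
  Lgr Lrot26 (Lpr_ff (f264379 IH) (Lpe (K9.f179033 IH) (Lpe (K9.f181195 IH) (Lpn (LP (LK LD1_c0 LD2_c39 LD3_c14))))))
theorem f264366 : Led Lsl_at (LP (LK LD1_c0 LD2_c35 LD3_c26)) = (LP (LK LD1_c0 LD2_c39 LD3_c17)) :=
  Lgr Lrot100 (Lpr_af (f264364 IH) (Lpn (LP (LK LD1_c0 LD2_c39 LD3_c17))))
theorem f264400 : Led Lsl_ff (LP (LK LD1_c0 LD2_c35 LD3_c26)) = (LP (LK LD1_c0 LD2_c39 LD3_c14)) :=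
  Lgr Lrot30 (Lpr_at (f264366 IH) (Lpe (f264379 IH) (Lpr_at (f264390 IH) (Lpn (LP (LK LD1_c0 LD2_c39 LD3_c14))))))
theorem f264409 : Led Lsl_ft (LP (LK LD1_c0 LD2_c35 LD3_c26)) = (LP (LK LD1_c0 LD2_c39 LD3_c14)) :=
  Lgr Lrot48 (Lpr_ff (f264400 IH) (Lpn (LP (LK LD1_c0 LD2_c39 LD3_c14))))
theorem f181197 : Led Lsl_et (LP (LK LD1_c0 LD2_c39 LD3_c14)) = (LP (LK LD1_c1 LD2_c25 LD3_c11)) :=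
  Lre_e IH (LK LD1_c0 LD2_c39 LD3_c14) (LK LD1_c1 LD2_c25 LD3_c11) Lrfl Lrfl
theorem f264417 : Led Lsl_ft (LP (LK LD1_c1 LD2_c25 LD3_c11)) = (LP (LK LD1_c2 LD2_c58 LD3_c58)) :=
  Lre_f IH (LK LD1_c1 LD2_c25 LD3_c11) (LK LD1_c2 LD2_c58 LD3_c58) Lrfl Lrfl
theorem f264418 : Led Lsl_ef (LP (LK LD1_c2 LD2_c39 LD3_c37)) = (LP (LK LD1_c2 LD2_c58 LD3_c58)) :=
  Lgr Lrot21 (Lpr_ft (f185652 IH) (Lpr_et (K12.f185626 IH) (Lpr_ft (f264409 IH) (Lpr_et (f181197 IH) (Lpr_ft (f264417 IH) (Lpn (LP (LK LD1_c2 LD2_c58 LD3_c58))))))))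
theorem f264422 : Led Lsl_bt (LP (LK LD1_c6 LD2_c5 LD3_c35)) = (LP (LK LD1_c2 LD2_c58 LD3_c58)) :=
  Lre_b IH (LK LD1_c6 LD2_c5 LD3_c35) (LK LD1_c2 LD2_c58 LD3_c58) Lrfl Lrfl
theorem f264423 : Led Lsl_et (LP (LK LD1_c5 LD2_c26 LD3_c13)) = (LP (LK LD1_c6 LD2_c5 LD3_c35)) :=
  Lgr Lrot74 (Lpe (K12.f185654 IH) (Lpr_ef (f264418 IH) (Lpe (f264422 IH) (Lpn (LP (LK LD1_c6 LD2_c5 LD3_c35))))))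
theorem f264428 : Led Lsl_ef (LP (LK LD1_c5 LD2_c26 LD3_c13)) = (LP (LK LD1_c6 LD2_c5 LD3_c35)) :=
  Lgr Lrot88 (Lpr_et (f264423 IH) (Lpn (LP (LK LD1_c6 LD2_c5 LD3_c35))))
theorem f218137 : Led Lsl_et (LP (LK LD1_c2 LD2_c11 LD3_c59)) = (LP (LK LD1_c1 LD2_c2 LD3_c57)) :=
  Lre_e IH (LK LD1_c2 LD2_c11 LD3_c59) (LK LD1_c1 LD2_c2 LD3_c57) Lrfl Lrfl
theorem f262973 : Led Lsl_ft (LP (LK LD1_c4 LD2_c29 LD3_c55)) = (LP (LK LD1_c2 LD2_c11 LD3_c59)) :=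
  Lre_f IH (LK LD1_c4 LD2_c29 LD3_c55) (LK LD1_c2 LD2_c11 LD3_c59) Lrfl Lrfl
theorem f262974 : Led Lsl_ef (LP (LK LD1_c4 LD2_c29 LD3_c55)) = (LP (LK LD1_c2 LD2_c41 LD3_c57)) :=
  Lgr Lrot21 (Lpr_ft (f262973 IH) (Lpr_et (f218137 IH) (Lpr_ft (f262902 IH) (Lpr_et (f212208 IH) (Lpr_ft (f261836 IH) (Lpn (LP (LK LD1_c2 LD2_c41 LD3_c57))))))))
theorem f264433 : Led Lsl_dt (LP (LK LD1_c4 LD2_c29 LD3_c55)) = (LP (LK LD1_c6 LD2_c5 LD3_c35)) :=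
  Lgr Lrot77 (Lpr_ef (f262974 IH) (Lpe (f261846 IH) (Lpe (f263398 IH) (Lpr_df (K12.f185655 IH) (Lpr_ef (f264428 IH) (Lpn (LP (LK LD1_c6 LD2_c5 LD3_c35))))))))
theorem f264442 : Led Lsl_ft (LP (LK LD1_c2 LD2_c11 LD3_c59)) = (LP (LK LD1_c4 LD2_c29 LD3_c55)) :=
  Lre_f IH (LK LD1_c2 LD2_c11 LD3_c59) (LK LD1_c4 LD2_c29 LD3_c55) Lrfl Lrfl
theorem f264430 : Led Lsl_ft (LP (LK LD1_c6 LD2_c5 LD3_c35)) = (LP (LK LD1_c2 LD2_c58 LD3_c52)) :=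
  Lre_f IH (LK LD1_c6 LD2_c5 LD3_c35) (LK LD1_c2 LD2_c58 LD3_c52) Lrfl Lrfl
theorem f264443 : Led Lsl_df (LP (LK LD1_c2 LD2_c11 LD3_c59)) = (LP (LK LD1_c2 LD2_c58 LD3_c52)) :=
  Lgr Lrot78 (Lpr_ft (f264442 IH) (Lpr_dt (f264433 IH) (Lpr_ft (f264430 IH) (Lpn (LP (LK LD1_c2 LD2_c58 LD3_c52))))))
theorem f264450 : Led Lsl_bt (LP (LK LD1_c2 LD2_c11 LD3_c59)) = (LP (LK LD1_c1 LD2_c2 LD3_c59)) :=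
  Lre_b IH (LK LD1_c2 LD2_c11 LD3_c59) (LK LD1_c1 LD2_c2 LD3_c59) Lrfl Lrfl
theorem f258709 : Led Lsl_bt (LP (LK LD1_c1 LD2_c25 LD3_c11)) = (LP (LK LD1_c2 LD2_c58 LD3_c52)) :=
  Lre_b IH (LK LD1_c1 LD2_c25 LD3_c11) (LK LD1_c2 LD2_c58 LD3_c52) Lrfl Lrfl
theorem f264451 : Led Lsl_dt (LP (LK LD1_c1 LD2_c2 LD3_c59)) = (LP (LK LD1_c1 LD2_c25 LD3_c11)) :=
  Lgr Lrot79 (Lpe (f264450 IH) (Lpr_df (f264443 IH) (Lpe (f258709 IH) (Lpn (LP (LK LD1_c1 LD2_c25 LD3_c11))))))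
theorem f166149 : Led Lsl_et (LP (LK LD1_c1 LD2_c16 LD3_c30)) = (LP (LK LD1_c0 LD2_c35 LD3_c23)) :=
  Lre_e IH (LK LD1_c1 LD2_c16 LD3_c30) (LK LD1_c0 LD2_c35 LD3_c23) Lrfl Lrfl
theorem f264398 : Led Lsl_af (LP (LK LD1_c1 LD2_c16 LD3_c30)) = (LP (LK LD1_c1 LD2_c25 LD3_c11)) :=
  Lgr Lrot50 (Lpr_et (f166149 IH) (Lpr_at (f264390 IH) (Lpr_et (f181197 IH) (Lpn (LP (LK LD1_c1 LD2_c25 LD3_c11))))))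
theorem f183252 : Led Lsl_et (LP (LK LD1_c0 LD2_c35 LD3_c23)) = (LP (LK LD1_c1 LD2_c16 LD3_c30)) :=
  Lre_e IH (LK LD1_c0 LD2_c35 LD3_c23) (LK LD1_c1 LD2_c16 LD3_c30) Lrfl Lrfl
theorem f183253 : Led Lsl_et (LP (LK LD1_c0 LD2_c35 LD3_c57)) = (LP (LK LD1_c0 LD2_c16 LD3_c1)) :=
  Lre_e IH (LK LD1_c0 LD2_c35 LD3_c57) (LK LD1_c0 LD2_c16 LD3_c1) Lrfl Lrfl
theorem f183254 : Led Lsl_dt (LP (LK LD1_c1 LD2_c16 LD3_c30)) = (LP (LK LD1_c0 LD2_c35 LD3_c57)) :=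
  Lgr Lrot77 (Lpe (f183252 IH) (Lpe (K9.f8471 IH) (Lpe (K9.f183198 IH) (Lpr_df (K9.f183243 IH) (Lpe (f183253 IH) (Lpn (LP (LK LD1_c0 LD2_c35 LD3_c57))))))))
theorem f264516 : Led Lsl_af (LP (LK LD1_c1 LD2_c2 LD3_c59)) = (LP (LK LD1_c0 LD2_c35 LD3_c57)) :=
  Lgr Lrot117 (Lpr_dt (f264451 IH) (Lpe (f264398 IH) (Lpr_dt (f183254 IH) (Lpn (LP (LK LD1_c0 LD2_c35 LD3_c57))))))
theorem f264520 : Led Lsl_ft (LP (LK LD1_c1 LD2_c2 LD3_c59)) = (LP (LK LD1_c2 LD2_c12 LD3_c3)) :=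
  Lre_f IH (LK LD1_c1 LD2_c2 LD3_c59) (LK LD1_c2 LD2_c12 LD3_c3) Lrfl Lrfl
theorem f264593 : Led Lsl_ft (LP (LK LD1_c1 LD2_c17 LD3_c53)) = (LP (LK LD1_c0 LD2_c35 LD3_c57)) :=
  Lre_f IH (LK LD1_c1 LD2_c17 LD3_c53) (LK LD1_c0 LD2_c35 LD3_c57) Lrfl Lrfl
theorem f264594 : Led Lsl_at (LP (LK LD1_c2 LD2_c12 LD3_c3)) = (LP (LK LD1_c1 LD2_c17 LD3_c53)) :=
  Lgr Lrot66 (Lpe (f264520 IH) (Lpr_af (f264516 IH) (Lpe (f264593 IH) (Lpn (LP (LK LD1_c1 LD2_c17 LD3_c53))))))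
theorem f263045 : Led Lsl_bt (LP (LK LD1_c2 LD2_c12 LD3_c3)) = (LP (LK LD1_c4 LD2_c29 LD3_c55)) :=
  Lre_b IH (LK LD1_c2 LD2_c12 LD3_c3) (LK LD1_c4 LD2_c29 LD3_c55) Lrfl Lrfl
theorem f264437 : Led Lsl_df (LP (LK LD1_c2 LD2_c12 LD3_c3)) = (LP (LK LD1_c2 LD2_c58 LD3_c58)) :=
  Lgr Lrot12 (Lpr_bt (f263045 IH) (Lpr_dt (f264433 IH) (Lpr_bt (f264422 IH) (Lpn (LP (LK LD1_c2 LD2_c58 LD3_c58))))))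
theorem f264376 : Led Lsl_ft (LP (LK LD1_c2 LD2_c39 LD3_c29)) = (LP (LK LD1_c1 LD2_c16 LD3_c30)) :=
  Lre_f IH (LK LD1_c2 LD2_c39 LD3_c29) (LK LD1_c1 LD2_c16 LD3_c30) Lrfl Lrfl
theorem f165047 : Led Lsl_et (LP (LK LD1_c0 LD2_c39 LD3_c17)) = (LP (LK LD1_c1 LD2_c25 LD3_c16)) :=
  Lre_e IH (LK LD1_c0 LD2_c39 LD3_c17) (LK LD1_c1 LD2_c25 LD3_c16) Lrfl Lrfl
theorem f264377 : Led Lsl_ef (LP (LK LD1_c2 LD2_c39 LD3_c29)) = (LP (LK LD1_c2 LD2_c59 LD3_c6)) :=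
  Lgr Lrot21 (Lpr_ft (f264376 IH) (Lpr_et (f166149 IH) (Lpr_ft (f264372 IH) (Lpr_et (f165047 IH) (Lpr_ft (K9.f169469 IH) (Lpn (LP (LK LD1_c2 LD2_c59 LD3_c6))))))))
theorem f264420 : Led Lsl_at (LP (LK LD1_c2 LD2_c39 LD3_c29)) = (LP (LK LD1_c2 LD2_c58 LD3_c58)) :=
  Lgr Lrot80 (Lpr_ef (f264377 IH) (Lpe (f264321 IH) (Lpr_ef (f264418 IH) (Lpn (LP (LK LD1_c2 LD2_c58 LD3_c58))))))
theorem f264609 : Led Lsl_df (LP (LK LD1_c2 LD2_c39 LD3_c29)) = (LP (LK LD1_c1 LD2_c17 LD3_c53)) :=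
  Lgr Lrot18 (Lpr_at (f264420 IH) (Lpe (f264437 IH) (Lpr_at (f264594 IH) (Lpn (LP (LK LD1_c1 LD2_c17 LD3_c53))))))
theorem f264621 : Led Lsl_dt (LP (LK LD1_c2 LD2_c39 LD3_c29)) = (LP (LK LD1_c1 LD2_c17 LD3_c53)) :=
  Lgr Lrot42 (Lpr_df (f264609 IH) (Lpn (LP (LK LD1_c1 LD2_c17 LD3_c53))))
theorem f264387 : Led Lsl_ft (LP (LK LD1_c1 LD2_c16 LD3_c30)) = (LP (LK LD1_c2 LD2_c39 LD3_c29)) :=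
  Lre_f IH (LK LD1_c1 LD2_c16 LD3_c30) (LK LD1_c2 LD2_c39 LD3_c29) Lrfl Lrfl
theorem f264627 : Led Lsl_df (LP (LK LD1_c1 LD2_c16 LD3_c30)) = (LP (LK LD1_c0 LD2_c35 LD3_c57)) :=
  Lgr Lrot78 (Lpr_ft (f264387 IH) (Lpr_dt (f264621 IH) (Lpr_ft (f264593 IH) (Lpn (LP (LK LD1_c0 LD2_c35 LD3_c57))))))
theorem f264631 : Led Lsl_bt (LP (LK LD1_c1 LD2_c16 LD3_c30)) = (LP (LK LD1_c2 LD2_c39 LD3_c21)) :=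
  Lre_b IH (LK LD1_c1 LD2_c16 LD3_c30) (LK LD1_c2 LD2_c39 LD3_c21) Lrfl Lrfl
theorem f264585 : Led Lsl_bt (LP (LK LD1_c1 LD2_c17 LD3_c47)) = (LP (LK LD1_c0 LD2_c35 LD3_c57)) :=
  Lre_b IH (LK LD1_c1 LD2_c17 LD3_c47) (LK LD1_c0 LD2_c35 LD3_c57) Lrfl Lrfl
theorem f264632 : Led Lsl_dt (LP (LK LD1_c2 LD2_c39 LD3_c21)) = (LP (LK LD1_c1 LD2_c17 LD3_c47)) :=
  Lgr Lrot79 (Lpe (f264631 IH) (Lpr_df (f264627 IH) (Lpe (f264585 IH) (Lpn (LP (LK LD1_c1 LD2_c17 LD3_c47))))))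
theorem f264684 : Led Lsl_ct (LP (LK LD1_c5 LD2_c25 LD3_c57)) = (LP (LK LD1_c2 LD2_c39 LD3_c21)) :=
  Lre_c IH (LK LD1_c5 LD2_c25 LD3_c57) (LK LD1_c2 LD2_c39 LD3_c21) Lrfl Lrfl
theorem f264685 : Led Lsl_dt (LP (LK LD1_c10 LD2_c43 LD3_c7)) = (LP (LK LD1_c5 LD2_c25 LD3_c57)) :=
  Lre_d IH (LK LD1_c10 LD2_c43 LD3_c7) (LK LD1_c5 LD2_c25 LD3_c57) Lrfl Lrfl
theorem f264688 : Led Lsl_ct (LP (LK LD1_c19 LD2_c24 LD3_c8)) = (LP (LK LD1_c10 LD2_c43 LD3_c7)) :=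
  Lre_c IH (LK LD1_c19 LD2_c24 LD3_c8) (LK LD1_c10 LD2_c43 LD3_c7) Lrfl Lrfl
theorem f264689 : Led Lsl_dt (LP (LK LD1_c28 LD2_c47 LD3_c58)) = (LP (LK LD1_c19 LD2_c24 LD3_c8)) :=
  Lre_d IH (LK LD1_c28 LD2_c47 LD3_c58) (LK LD1_c19 LD2_c24 LD3_c8) Lrfl Lrfl
theorem f258836 : Led Lsl_ct (LP (LK LD1_c1 LD2_c17 LD3_c47)) = (LP (LK LD1_c2 LD2_c42 LD3_c23)) :=
  Lre_c IH (LK LD1_c1 LD2_c17 LD3_c47) (LK LD1_c2 LD2_c42 LD3_c23) Lrfl Lrfl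
theorem f222524 : Led Lsl_dt (LP (LK LD1_c2 LD2_c42 LD3_c23)) = (LP (LK LD1_c5 LD2_c32 LD3_c27)) :=
  Lre_d IH (LK LD1_c2 LD2_c42 LD3_c23) (LK LD1_c5 LD2_c32 LD3_c27) Lrfl Lrfl
theorem f258835 : Led Lsl_ct (LP (LK LD1_c5 LD2_c32 LD3_c27)) = (LP (LK LD1_c10 LD2_c56 LD3_c43)) :=
  Lre_c IH (LK LD1_c5 LD2_c32 LD3_c27) (LK LD1_c10 LD2_c56 LD3_c43) Lrfl Lrfl
theorem f264701 : Led Lsl_at (LP (LK LD1_c19 LD2_c44 LD3_c44)) = (LP (LK LD1_c10 LD2_c56 LD3_c43)) :=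
  Lre_a IH (LK LD1_c19 LD2_c44 LD3_c44) (LK LD1_c10 LD2_c56 LD3_c43) Lrfl Lrfl
theorem f264702 : Led Lsl_ft (LP (LK LD1_c28 LD2_c47 LD3_c58)) = (LP (LK LD1_c19 LD2_c44 LD3_c44)) :=
  Lgr Lrot142 (Lpr_dt (f264689 IH) (Lpr_ct (f264688 IH) (Lpr_dt (f264685 IH) (Lpr_ct (f264684 IH) (Lpr_dt (f264632 IH) (Lpr_ct (f258836 IH) (Lpr_dt (f222524 IH) (Lpr_ct (f258835 IH) (Lpe (f264701 IH) (Lpn (LP (LK LD1_c19 LD2_c44 LD3_c44))))))))))))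
theorem f264725 : Led Lsl_ff (LP (LK LD1_c28 LD2_c47 LD3_c58)) = (LP (LK LD1_c19 LD2_c44 LD3_c44)) :=
  Lgr Lrot3 (Lpr_ft (f264702 IH) (Lpn (LP (LK LD1_c19 LD2_c44 LD3_c44))))
theorem f264737 : Led Lsl_ft (LP (LK LD1_c19 LD2_c24 LD3_c8)) = (LP (LK LD1_c28 LD2_c47 LD3_c59)) :=
  Lre_f IH (LK LD1_c19 LD2_c24 LD3_c8) (LK LD1_c28 LD2_c47 LD3_c59) Lrfl Lrfl
theorem f264738 : Led Lsl_dt (LP (LK LD1_c28 LD2_c47 LD3_c59)) = (LP (LK LD1_c19 LD2_c44 LD3_c44)) :=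
  Lgr Lrot60 (Lpe (f264737 IH) (Lpe (f264689 IH) (Lpr_ff (f264725 IH) (Lpn (LP (LK LD1_c19 LD2_c44 LD3_c44))))))
theorem f264751 : Led Lsl_ct (LP (LK LD1_c19 LD2_c24 LD3_c9)) = (LP (LK LD1_c28 LD2_c47 LD3_c59)) :=
  Lre_c IH (LK LD1_c19 LD2_c24 LD3_c9) (LK LD1_c28 LD2_c47 LD3_c59) Lrfl Lrfl
theorem f264752 : Led Lsl_dt (LP (LK LD1_c10 LD2_c43 LD3_c8)) = (LP (LK LD1_c19 LD2_c24 LD3_c9)) :=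
  Lre_d IH (LK LD1_c10 LD2_c43 LD3_c8) (LK LD1_c19 LD2_c24 LD3_c9) Lrfl Lrfl
theorem f264756 : Led Lsl_ft (LP (LK LD1_c10 LD2_c43 LD3_c8)) = (LP (LK LD1_c5 LD2_c25 LD3_c57)) :=
  Lre_f IH (LK LD1_c10 LD2_c43 LD3_c8) (LK LD1_c5 LD2_c25 LD3_c57) Lrfl Lrfl
theorem f258789 : Led Lsl_ct (LP (LK LD1_c19 LD2_c44 LD3_c44)) = (LP (LK LD1_c10 LD2_c56 LD3_c1)) :=
  Lre_c IH (LK LD1_c19 LD2_c44 LD3_c44) (LK LD1_c10 LD2_c56 LD3_c1) Lrfl Lrfl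
theorem f258778 : Led Lsl_dt (LP (LK LD1_c10 LD2_c56 LD3_c1)) = (LP (LK LD1_c5 LD2_c32 LD3_c10)) :=
  Lre_d IH (LK LD1_c10 LD2_c56 LD3_c1) (LK LD1_c5 LD2_c32 LD3_c10) Lrfl Lrfl
theorem f258788 : Led Lsl_ct (LP (LK LD1_c5 LD2_c32 LD3_c10)) = (LP (LK LD1_c2 LD2_c42 LD3_c18)) :=
  Lre_c IH (LK LD1_c5 LD2_c32 LD3_c10) (LK LD1_c2 LD2_c42 LD3_c18) Lrfl Lrfl
theorem f213261 : Led Lsl_et (LP (LK LD1_c1 LD2_c17 LD3_c45)) = (LP (LK LD1_c2 LD2_c42 LD3_c18)) :=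
  Lre_e IH (LK LD1_c1 LD2_c17 LD3_c45) (LK LD1_c2 LD2_c42 LD3_c18) Lrfl Lrfl
theorem f49092 : Led Lsl_et (LP (LK LD1_c4 LD2_c14 LD3_c56)) = (LP (LK LD1_c2 LD2_c4 LD3_c50)) :=
  Lre_e IH (LK LD1_c4 LD2_c14 LD3_c56) (LK LD1_c2 LD2_c4 LD3_c50) Lrfl Lrfl
theorem f258689 : Led Lsl_dt (LP (LK LD1_c2 LD2_c42 LD3_c18)) = (LP (LK LD1_c4 LD2_c14 LD3_c56)) :=
  Lgr Lrot77 (Lpe (f213261 IH) (Lpr_df (f258682 IH) (Lpe (K13.f49095 IH) (Lpe (f49082 IH) (Lpe (f49092 IH) (Lpn (LP (LK LD1_c4 LD2_c14 LD3_c56))))))))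
theorem f231738 : Led Lsl_ct (LP (LK LD1_c4 LD2_c14 LD3_c56)) = (LP (LK LD1_c8 LD2_c28 LD3_c42)) :=
  Lre_c IH (LK LD1_c4 LD2_c14 LD3_c56) (LK LD1_c8 LD2_c28 LD3_c42) Lrfl Lrfl
theorem f264757 : Led Lsl_at (LP (LK LD1_c5 LD2_c25 LD3_c57)) = (LP (LK LD1_c8 LD2_c28 LD3_c42)) :=
  Lgr Lrot33 (Lpe (f264756 IH) (Lpr_dt (f264752 IH) (Lpr_ct (f264751 IH) (Lpr_dt (f264738 IH) (Lpr_ct (f258789 IH) (Lpr_dt (f258778 IH) (Lpr_ct (f258788 IH) (Lpr_dt (f258689 IH) (Lpr_ct (f231738 IH) (Lpn (LP (LK LD1_c8 LD2_c28 LD3_c42))))))))))))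
theorem f258815 : Led Lsl_ft (LP (LK LD1_c8 LD2_c28 LD3_c42)) = (LP (LK LD1_c15 LD2_c55 LD3_c11)) :=
  Lre_f IH (LK LD1_c8 LD2_c28 LD3_c42) (LK LD1_c15 LD2_c55 LD3_c11) Lrfl Lrfl
theorem f264774 : Led Lsl_af (LP (LK LD1_c10 LD2_c43 LD3_c8)) = (LP (LK LD1_c15 LD2_c55 LD3_c11)) :=
  Lgr Lrot45 (Lpr_ft (f264756 IH) (Lpr_at (f264757 IH) (Lpr_ft (f258815 IH) (Lpn (LP (LK LD1_c15 LD2_c55 LD3_c11))))))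
theorem f264778 : Led Lsl_at (LP (LK LD1_c10 LD2_c43 LD3_c8)) = (LP (LK LD1_c15 LD2_c55 LD3_c11)) :=
  Lgr Lrot100 (Lpr_af (f264774 IH) (Lpn (LP (LK LD1_c15 LD2_c55 LD3_c11))))
theorem f264753 : Led Lsl_ct (LP (LK LD1_c5 LD2_c25 LD3_c60)) = (LP (LK LD1_c10 LD2_c43 LD3_c8)) :=
  Lre_c IH (LK LD1_c5 LD2_c25 LD3_c60) (LK LD1_c10 LD2_c43 LD3_c8) Lrfl Lrfl
theorem f231747 : Led Lsl_ct (LP (LK LD1_c15 LD2_c55 LD3_c11)) = (LP (LK LD1_c8 LD2_c28 LD3_c45)) :=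
  Lre_c IH (LK LD1_c15 LD2_c55 LD3_c11) (LK LD1_c8 LD2_c28 LD3_c45) Lrfl Lrfl
theorem f264782 : Led Lsl_af (LP (LK LD1_c5 LD2_c25 LD3_c60)) = (LP (LK LD1_c8 LD2_c28 LD3_c45)) :=
  Lgr Lrot68 (Lpr_ct (f264753 IH) (Lpr_at (f264778 IH) (Lpr_ct (f231747 IH) (Lpn (LP (LK LD1_c8 LD2_c28 LD3_c45))))))
theorem f264694 : Led Lsl_ft (LP (LK LD1_c5 LD2_c25 LD3_c60)) = (LP (LK LD1_c2 LD2_c39 LD3_c21)) :=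
  Lre_f IH (LK LD1_c5 LD2_c25 LD3_c60) (LK LD1_c2 LD2_c39 LD3_c21) Lrfl Lrfl
theorem f231748 : Led Lsl_ft (LP (LK LD1_c4 LD2_c14 LD3_c56)) = (LP (LK LD1_c8 LD2_c28 LD3_c45)) :=
  Lre_f IH (LK LD1_c4 LD2_c14 LD3_c56) (LK LD1_c8 LD2_c28 LD3_c45) Lrfl Lrfl
theorem f264806 : Led Lsl_at (LP (LK LD1_c2 LD2_c39 LD3_c21)) = (LP (LK LD1_c4 LD2_c14 LD3_c56)) :=
  Lgr Lrot66 (Lpe (f264694 IH) (Lpr_af (f264782 IH) (Lpe (f231748 IH) (Lpn (LP (LK LD1_c4 LD2_c14 LD3_c56))))))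
theorem f196389 : Led Lsl_et (LP (LK LD1_c1 LD2_c16 LD3_c26)) = (LP (LK LD1_c2 LD2_c39 LD3_c21)) :=
  Lre_e IH (LK LD1_c1 LD2_c16 LD3_c26) (LK LD1_c2 LD2_c39 LD3_c21) Lrfl Lrfl
theorem f264818 : Led Lsl_af (LP (LK LD1_c1 LD2_c16 LD3_c26)) = (LP (LK LD1_c2 LD2_c4 LD3_c50)) :=
  Lgr Lrot50 (Lpr_et (f196389 IH) (Lpr_at (f264806 IH) (Lpr_et (f49092 IH) (Lpn (LP (LK LD1_c2 LD2_c4 LD3_c50))))))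
theorem f264828 : Led Lsl_ft (LP (LK LD1_c2 LD2_c4 LD3_c58)) = (LP (LK LD1_c2 LD2_c4 LD3_c50)) :=
  Lgr Lrot2 (Lpe (f216176 IH) (Lpr_gt (f190967 IH) (Lpr_af (f264818 IH) (Lpn (LP (LK LD1_c2 LD2_c4 LD3_c50))))))
theorem f264836 : Led Lsl_ff (LP (LK LD1_c2 LD2_c4 LD3_c58)) = (LP (LK LD1_c2 LD2_c4 LD3_c50)) :=
  Lgr Lrot3 (Lpr_ft (f264828 IH) (Lpn (LP (LK LD1_c2 LD2_c4 LD3_c50))))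
theorem f264838 : Led Lsl_ft (LP (LK LD1_c4 LD2_c15 LD3_c7)) = (LP (LK LD1_c4 LD2_c14 LD3_c55)) :=
  Lgr Lrot4 (Lpe (K14.f45146 IH) (Lpr_ff (f264836 IH) (Lpe (f49079 IH) (Lpn (LP (LK LD1_c4 LD2_c14 LD3_c55))))))
theorem f257386 : Led Lsl_et (LP (LK LD1_c2 LD2_c39 LD3_c20)) = (LP (LK LD1_c5 LD2_c25 LD3_c57)) :=
  Lre_e IH (LK LD1_c2 LD2_c39 LD3_c20) (LK LD1_c5 LD2_c25 LD3_c57) Lrfl Lrfl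
theorem f264771 : Led Lsl_et (LP (LK LD1_c8 LD2_c28 LD3_c42)) = (LP (LK LD1_c4 LD2_c14 LD3_c55)) :=
  Lre_e IH (LK LD1_c8 LD2_c28 LD3_c42) (LK LD1_c4 LD2_c14 LD3_c55) Lrfl Lrfl
theorem f264772 : Led Lsl_af (LP (LK LD1_c2 LD2_c39 LD3_c20)) = (LP (LK LD1_c4 LD2_c14 LD3_c55)) :=
  Lgr Lrot50 (Lpr_et (f257386 IH) (Lpr_at (f264757 IH) (Lpr_et (f264771 IH) (Lpn (LP (LK LD1_c4 LD2_c14 LD3_c55))))))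
theorem f166139 : Led Lsl_gt (LP (LK LD1_c5 LD2_c25 LD3_c54)) = (LP (LK LD1_c2 LD2_c39 LD3_c20)) :=
  Lre_g IH (LK LD1_c5 LD2_c25 LD3_c54) (LK LD1_c2 LD2_c39 LD3_c20) Lrfl Lrfl
theorem f264845 : Led Lsl_gt (LP (LK LD1_c4 LD2_c15 LD3_c7)) = (LP (LK LD1_c5 LD2_c25 LD3_c54)) :=
  Lgr Lrot5 (Lpr_ft (f264838 IH) (Lpe (f264772 IH) (Lpe (f166139 IH) (Lpn (LP (LK LD1_c5 LD2_c25 LD3_c54))))))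
theorem f33992 : Led Lsl_ct (LP (LK LD1_c5 LD2_c8 LD3_c56)) = (LP (LK LD1_c2 LD2_c31 LD3_c38)) :=
  Lre_c IH (LK LD1_c5 LD2_c8 LD3_c56) (LK LD1_c2 LD2_c31 LD3_c38) Lrfl Lrfl
theorem f252279 : Led Lsl_gf (LP (LK LD1_c8 LD2_c26 LD3_c30)) = (LP (LK LD1_c8 LD2_c29 LD3_c12)) :=
  Lgr Lrot172 (Lpe (K14.f252277 IH) (Lpr_dt (K14.f252265 IH) (Lpr_cf (K12.f212445 IH) (Lpr_gf (K12.f197162 IH) (Lpe (f33992 IH) (Lpe (K10.f197061 IH) (Lpr_dt (K14.f45350 IH) (Lpe (K14.f190900 IH) (Lpe (K14.f252234 IH) (Lpn (LP (LK LD1_c8 LD2_c29 LD3_c12))))))))))))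
theorem f186861 : Led Lsl_gt (LP (LK LD1_c5 LD2_c15 LD3_c17)) = (LP (LK LD1_c2 LD2_c34 LD3_c30)) :=
  Lre_g IH (LK LD1_c5 LD2_c15 LD3_c17) (LK LD1_c2 LD2_c34 LD3_c30) Lrfl Lrfl
theorem f264847 : Led Lsl_cf (LP (LK LD1_c5 LD2_c15 LD3_c17)) = (LP (LK LD1_c5 LD2_c25 LD3_c54)) :=
  Lgr Lrot169 (Lpr_gt (f186861 IH) (Lpr_ct (K10.f189725 IH) (Lpe (f189723 IH) (Lpr_cf (f259398 IH) (Lpr_gf (f259455 IH) (Lpr_cf (K14.f252277 IH) (Lpr_gf (f252279 IH) (Lpe (K14.f49198 IH) (Lpr_gt (f264845 IH) (Lpn (LP (LK LD1_c5 LD2_c25 LD3_c54))))))))))))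
theorem f264850 : Led Lsl_ct (LP (LK LD1_c5 LD2_c15 LD3_c17)) = (LP (LK LD1_c5 LD2_c25 LD3_c54)) :=
  Lgr Lrot59 (Lpr_cf (f264847 IH) (Lpn (LP (LK LD1_c5 LD2_c25 LD3_c54))))
theorem f264857 : Led Lsl_gf (LP (LK LD1_c5 LD2_c15 LD3_c17)) = (LP (LK LD1_c2 LD2_c34 LD3_c38)) :=
  Lgr Lrot147 (Lpr_ct (f264850 IH) (Lpr_gt (f166139 IH) (Lpr_ct (K14.f166136 IH) (Lpe (K14.f192467 IH) (Lpe (K10.f190961 IH) (Lpr_gf (K10.f190893 IH) (Lpr_cf (K10.f45710 IH) (Lpr_gf (K10.f49854 IH) (Lpe (f45237 IH) (Lpn (LP (LK LD1_c2 LD2_c34 LD3_c38))))))))))))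
theorem f264859 : Led Lsl_bt (LP (LK LD1_c5 LD2_c15 LD3_c33)) = (LP (LK LD1_c2 LD2_c34 LD3_c38)) :=
  Lre_b IH (LK LD1_c5 LD2_c15 LD3_c33) (LK LD1_c2 LD2_c34 LD3_c38) Lrfl Lrfl
theorem f166135 : Led Lsl_bt (LP (LK LD1_c1 LD2_c16 LD3_c26)) = (LP (LK LD1_c0 LD2_c35 LD3_c23)) :=
  Lre_b IH (LK LD1_c1 LD2_c16 LD3_c26) (LK LD1_c0 LD2_c35 LD3_c23) Lrfl Lrfl
theorem f166144 : Led Lsl_gt (LP (LK LD1_c5 LD2_c6 LD3_c16)) = (LP (LK LD1_c10 LD2_c3 LD3_c32)) :=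
  Lre_g IH (LK LD1_c5 LD2_c6 LD3_c16) (LK LD1_c10 LD2_c3 LD3_c32) Lrfl Lrfl
theorem f264860 : Led Lsl_ct (LP (LK LD1_c5 LD2_c15 LD3_c33)) = (LP (LK LD1_c10 LD2_c3 LD3_c32)) :=
  Lgr Lrot10 (Lpr_bt (f264859 IH) (Lpe (f264857 IH) (Lpr_ct (f264850 IH) (Lpr_gt (f166139 IH) (Lpe (f166138 IH) (Lpr_bt (f166135 IH) (Lpr_gt (K9.f166120 IH) (Lpe (f166142 IH) (Lpr_ct (f166143 IH) (Lpr_gt (f166144 IH) (Lpn (LP (LK LD1_c10 LD2_c3 LD3_c32)))))))))))))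
theorem f182568 : Led Lsl_dt (LP (LK LD1_c2 LD2_c58 LD3_c49)) = (LP (LK LD1_c6 LD2_c5 LD3_c24)) :=
  Lre_d IH (LK LD1_c2 LD2_c58 LD3_c49) (LK LD1_c6 LD2_c5 LD3_c24) Lrfl Lrfl
theorem f182569 : Led Lsl_gt (LP (LK LD1_c6 LD2_c5 LD3_c24)) = (LP (LK LD1_c11 LD2_c52 LD3_c36)) :=
  Lre_g IH (LK LD1_c6 LD2_c5 LD3_c24) (LK LD1_c11 LD2_c52 LD3_c36) Lrfl Lrfl
theorem f264864 : Led Lsl_dt (LP (LK LD1_c11 LD2_c52 LD3_c36)) = (LP (LK LD1_c10 LD2_c3 LD3_c32)) :=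
  Lgr Lrot113 (Lpe (f182569 IH) (Lpe (f182568 IH) (Lpe (K9.f8549 IH) (Lpr_ct (K14.f182562 IH) (Lpe (K11.f191175 IH) (Lpr_dt (K10.f28689 IH) (Lpr_gt (K12.f187908 IH) (Lpr_dt (K14.f237093 IH) (Lpr_ct (f264860 IH) (Lpn (LP (LK LD1_c10 LD2_c3 LD3_c32))))))))))))
theorem f264866 : Led Lsl_df (LP (LK LD1_c11 LD2_c52 LD3_c36)) = (LP (LK LD1_c10 LD2_c3 LD3_c32)) :=
  Lgr Lrot38 (Lpr_dt (f264864 IH) (Lpn (LP (LK LD1_c10 LD2_c3 LD3_c32))))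
theorem f195315 : Led Lsl_gt (LP (LK LD1_c11 LD2_c52 LD3_c36)) = (LP (LK LD1_c6 LD2_c4 LD3_c31)) :=
  Lre_g IH (LK LD1_c11 LD2_c52 LD3_c36) (LK LD1_c6 LD2_c4 LD3_c31) Lrfl Lrfl
theorem f42508 : Led Lsl_dt (LP (LK LD1_c6 LD2_c4 LD3_c31)) = (LP (LK LD1_c2 LD2_c58 LD3_c26)) :=
  Lre_d IH (LK LD1_c6 LD2_c4 LD3_c31) (LK LD1_c2 LD2_c58 LD3_c26) Lrfl Lrfl
theorem f41753 : Led Lsl_dt (LP (LK LD1_c2 LD2_c58 LD3_c24)) = (LP (LK LD1_c1 LD2_c24 LD3_c55)) :=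
  Lre_d IH (LK LD1_c2 LD2_c58 LD3_c24) (LK LD1_c1 LD2_c24 LD3_c55) Lrfl Lrfl
theorem f264876 : Led Lsl_gf (LP (LK LD1_c2 LD2_c58 LD3_c24)) = (LP (LK LD1_c2 LD2_c30 LD3_c24)) :=
  Lgr Lrot144 (Lpr_dt (f41753 IH) (Lpr_gt (K9.f41752 IH) (Lpr_dt (K1.f41745 IH) (Lpe (K12.f41740 IH) (Lpe (f42508 IH) (Lpe (f195315 IH) (Lpr_df (f264866 IH) (Lpe (f166144 IH) (Lpe (f166143 IH) (Lpn (LP (LK LD1_c2 LD2_c30 LD3_c24))))))))))))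
theorem f22403 : Led Lsl_dt (LP (LK LD1_c1 LD2_c24 LD3_c55)) = (LP (LK LD1_c2 LD2_c58 LD3_c24)) :=
  Lre_d IH (LK LD1_c1 LD2_c24 LD3_c55) (LK LD1_c2 LD2_c58 LD3_c24) Lrfl Lrfl
theorem f46056 : Led Lsl_et (LP (LK LD1_c0 LD2_c34 LD3_c58)) = (LP (LK LD1_c0 LD2_c34 LD3_c58)) :=
  Lgr Lrot74 (Lpe (K1.f28294 IH) (Lpr_ef (K1.f46054 IH) (Lpe (K10.f28283 IH) (Lpn (LP (LK LD1_c0 LD2_c34 LD3_c58))))))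
theorem f264899 : Led Lsl_et (LP (LK LD1_c1 LD2_c24 LD3_c55)) = (LP (LK LD1_c2 LD2_c5 LD3_c45)) :=
  Lgr Lrot121 (Lpr_dt (f22403 IH) (Lpr_gf (f264876 IH) (Lpe (K10.f184626 IH) (Lpr_et (K10.f184625 IH) (Lpr_gf (K10.f184616 IH) (Lpe (f46056 IH) (Lpr_dt (K12.f28287 IH) (Lpe (K14.f248083 IH) (Lpe (K12.f184631 IH) (Lpr_gf (K14.f230288 IH) (Lpn (LP (LK LD1_c2 LD2_c5 LD3_c45)))))))))))))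
theorem f258251 : Led Lsl_et (LP (LK LD1_c2 LD2_c38 LD3_c41)) = (LP (LK LD1_c2 LD2_c36 LD3_c22)) :=
  Lgr Lrot71 (Lpr_df (f258247 IH) (Lpe (f258236 IH) (Lpe (f44268 IH) (Lpe (f230291 IH) (Lpe (K12.f184631 IH) (Lpn (LP (LK LD1_c2 LD2_c36 LD3_c22))))))))
theorem f196570 : Led Lsl_ct (LP (LK LD1_c2 LD2_c38 LD3_c42)) = (LP (LK LD1_c1 LD2_c16 LD3_c14)) :=
  Lre_c IH (LK LD1_c2 LD2_c38 LD3_c42) (LK LD1_c1 LD2_c16 LD3_c14) Lrfl Lrfl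
theorem f257027 : Led Lsl_dt (LP (LK LD1_c2 LD2_c38 LD3_c41)) = (LP (LK LD1_c2 LD2_c36 LD3_c53)) :=
  Lgr Lrot57 (Lpe (f223850 IH) (Lpe (f196570 IH) (Lpr_gt (f257007 IH) (Lpe (K14.f243954 IH) (Lpr_gt (K13.f171895 IH) (Lpr_dt (K12.f171885 IH) (Lpr_cf (K12.f171883 IH) (Lpe (K12.f42146 IH) (Lpe (K12.f42471 IH) (Lpn (LP (LK LD1_c2 LD2_c36 LD3_c53))))))))))))
theorem f264902 : Led Lsl_gt (LP (LK LD1_c1 LD2_c15 LD3_c27)) = (LP (LK LD1_c1 LD2_c12 LD3_c12)) :=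
  Lgr Lrot137 (Lpe (K9.f42145 IH) (Lpr_dt (K12.f42132 IH) (Lpe (K12.f42471 IH) (Lpe (f257027 IH) (Lpr_et (f258251 IH) (Lpr_gf (K14.f230288 IH) (Lpe (f264899 IH) (Lpr_dt (f22403 IH) (Lpr_gf (f264876 IH) (Lpe (K10.f184626 IH) (Lpn (LP (LK LD1_c1 LD2_c12 LD3_c12)))))))))))))
theorem f223856 : Led Lsl_et (LP (LK LD1_c2 LD2_c38 LD3_c43)) = (LP (LK LD1_c1 LD2_c16 LD3_c14)) :=
  Lre_e IH (LK LD1_c2 LD2_c38 LD3_c43) (LK LD1_c1 LD2_c16 LD3_c14) Lrfl Lrfl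
theorem f264914 : Led Lsl_dt (LP (LK LD1_c2 LD2_c38 LD3_c43)) = (LP (LK LD1_c2 LD2_c30 LD3_c20)) :=
  Lgr Lrot37 (Lpr_et (f223856 IH) (Lpr_gt (f223850 IH) (Lpr_dt (f257027 IH) (Lpr_gt (K12.f42471 IH) (Lpe (K12.f42132 IH) (Lpr_et (K9.f42145 IH) (Lpr_gt (f264902 IH) (Lpe (K10.f189580 IH) (Lpr_dt (K10.f182058 IH) (Lpr_gt (K10.f165298 IH) (Lpn (LP (LK LD1_c2 LD2_c30 LD3_c20)))))))))))))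
theorem f165314 : Led Lsl_ct (LP (LK LD1_c5 LD2_c6 LD3_c4)) = (LP (LK LD1_c2 LD2_c30 LD3_c20)) :=
  Lre_c IH (LK LD1_c5 LD2_c6 LD3_c4) (LK LD1_c2 LD2_c30 LD3_c20) Lrfl Lrfl
theorem f264920 : Led Lsl_gt (LP (LK LD1_c9 LD2_c40 LD3_c1)) = (LP (LK LD1_c5 LD2_c6 LD3_c4)) :=
  Lgr Lrot187 (Lpe (f43419 IH) (Lpr_gf (f257777 IH) (Lpr_dt (K14.f251613 IH) (Lpr_gt (K12.f169337 IH) (Lpe (K14.f229945 IH) (Lpe (f255881 IH) (Lpr_ct (f223862 IH) (Lpr_dt (f264914 IH) (Lpe (f165314 IH) (Lpn (LP (LK LD1_c5 LD2_c6 LD3_c4))))))))))))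
theorem f192281 : Led Lsl_df (LP (LK LD1_c15 LD2_c27 LD3_c46)) = (LP (LK LD1_c9 LD2_c40 LD3_c2)) :=
  Lgr Lrot38 (Lpr_dt (K14.f192276 IH) (Lpn (LP (LK LD1_c9 LD2_c40 LD3_c2))))
theorem f192304 : Led Lsl_bf (LP (LK LD1_c9 LD2_c40 LD3_c2)) = (LP (LK LD1_c8 LD2_c26 LD3_c17)) :=
  Lgr Lrot93 (Lpe (f192281 IH) (Lpr_bt (K14.f192300 IH) (Lpe (K14.f49169 IH) (Lpn (LP (LK LD1_c8 LD2_c26 LD3_c17))))))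
theorem f192317 : Led Lsl_bt (LP (LK LD1_c4 LD2_c54 LD3_c15)) = (LP (LK LD1_c4 LD2_c13 LD3_c44)) :=
  Lgr Lrot119 (Lpe (K14.f192275 IH) (Lpr_bf (f192304 IH) (Lpe (K14.f49186 IH) (Lpn (LP (LK LD1_c4 LD2_c13 LD3_c44))))))
theorem f165313 : Led Lsl_bt (LP (LK LD1_c2 LD2_c30 LD3_c20)) = (LP (LK LD1_c5 LD2_c6 LD3_c3)) :=
  Lre_b IH (LK LD1_c2 LD2_c30 LD3_c20) (LK LD1_c5 LD2_c6 LD3_c3) Lrfl Lrfl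
theorem f264933 : Led Lsl_gf (LP (LK LD1_c4 LD2_c13 LD3_c44)) = (LP (LK LD1_c5 LD2_c8 LD3_c28)) :=
  Lgr Lrot124 (Lpe (f192317 IH) (Lpr_ct (f43419 IH) (Lpr_gt (f264920 IH) (Lpe (K10.f165307 IH) (Lpr_bt (f165313 IH) (Lpr_gt (K14.f249429 IH) (Lpr_ct (K10.f184844 IH) (Lpr_gt (K14.f248176 IH) (Lpe (K14.f189552 IH) (Lpr_bt (K14.f247995 IH) (Lpn (LP (LK LD1_c5 LD2_c8 LD3_c28)))))))))))))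
theorem f49851 : Led Lsl_dt (LP (LK LD1_c5 LD2_c15 LD3_c26)) = (LP (LK LD1_c2 LD2_c34 LD3_c33)) :=
  Lre_d IH (LK LD1_c5 LD2_c15 LD3_c26) (LK LD1_c2 LD2_c34 LD3_c33) Lrfl Lrfl
theorem f47783 : Led Lsl_gt (LP (LK LD1_c2 LD2_c34 LD3_c33)) = (LP (LK LD1_c5 LD2_c15 LD3_c23)) :=
  Lre_g IH (LK LD1_c2 LD2_c34 LD3_c33) (LK LD1_c5 LD2_c15 LD3_c23) Lrfl Lrfl
theorem f264940 : Led Lsl_ct (LP (LK LD1_c5 LD2_c15 LD3_c23)) = (LP (LK LD1_c5 LD2_c8 LD3_c28)) :=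
  Lgr Lrot152 (Lpe (f47783 IH) (Lpe (f49851 IH) (Lpr_gt (K14.f49933 IH) (Lpr_ct (K14.f252323 IH) (Lpr_gt (K14.f196382 IH) (Lpr_ct (f263118 IH) (Lpe (f252555 IH) (Lpe (f49199 IH) (Lpr_gf (f264933 IH) (Lpn (LP (LK LD1_c5 LD2_c8 LD3_c28))))))))))))
theorem f192524 : Led Lsl_ct (LP (LK LD1_c4 LD2_c7 LD3_c54)) = (LP (LK LD1_c4 LD2_c6 LD3_c27)) :=
  Lgr Lrot15 (Lpe (f189760 IH) (Lpr_cf (K10.f192515 IH) (Lpe (K14.f192523 IH) (Lpn (LP (LK LD1_c4 LD2_c6 LD3_c27))))))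
theorem f264948 : Led Lsl_gt (LP (LK LD1_c2 LD2_c1 LD3_c40)) = (LP (LK LD1_c4 LD2_c7 LD3_c54)) :=
  Lgr Lrot150 (Lpe (f167348 IH) (Lpe (K14.f167355 IH) (Lpe (f253177 IH) (Lpr_gt (f260628 IH) (Lpr_ct (f32880 IH) (Lpr_gt (f47783 IH) (Lpr_ct (f264940 IH) (Lpe (K14.f231797 IH) (Lpe (f192524 IH) (Lpn (LP (LK LD1_c4 LD2_c7 LD3_c54))))))))))))
theorem f51345 : Led Lsl_et (LP (LK LD1_c4 LD2_c7 LD3_c54)) = (LP (LK LD1_c2 LD2_c1 LD3_c18)) :=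
  Lre_e IH (LK LD1_c4 LD2_c7 LD3_c54) (LK LD1_c2 LD2_c1 LD3_c18) Lrfl Lrfl
theorem f189722 : Led Lsl_gt (LP (LK LD1_c2 LD2_c34 LD3_c30)) = (LP (LK LD1_c5 LD2_c15 LD3_c16)) :=
  Lre_g IH (LK LD1_c2 LD2_c34 LD3_c30) (LK LD1_c5 LD2_c15 LD3_c16) Lrfl Lrfl
theorem f189733 : Led Lsl_dt (LP (LK LD1_c4 LD2_c7 LD3_c54)) = (LP (LK LD1_c5 LD2_c15 LD3_c16)) :=
  Lgr Lrot56 (Lpr_et (f51345 IH) (Lpr_gt (K10.f51334 IH) (Lpe (K8.f49204 IH) (Lpr_dt (K10.f47821 IH) (Lpr_gt (K1.f746 IH) (Lpe (K0.f739 IH) (Lpr_et (K10.f27403 IH) (Lpr_gt (K10.f189720 IH) (Lpr_dt (K10.f183689 IH) (Lpr_gt (f189722 IH) (Lpn (LP (LK LD1_c5 LD2_c15 LD3_c16)))))))))))))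
theorem f264953 : Led Lsl_gf (LP (LK LD1_c2 LD2_c34 LD3_c38)) = (LP (LK LD1_c5 LD2_c15 LD3_c16)) :=
  Lgr Lrot143 (Lpr_dt (f45237 IH) (Lpe (K10.f32908 IH) (Lpe (f45404 IH) (Lpr_gf (f231943 IH) (Lpe (K9.f47746 IH) (Lpr_gf (f259318 IH) (Lpe (K14.f167353 IH) (Lpr_gt (f264948 IH) (Lpr_dt (f189733 IH) (Lpn (LP (LK LD1_c5 LD2_c15 LD3_c16))))))))))))
theorem f259422 : Led Lsl_df (LP (LK LD1_c8 LD2_c29 LD3_c2)) = (LP (LK LD1_c5 LD2_c15 LD3_c34)) :=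
  Lgr Lrot38 (Lpr_dt (f259417 IH) (Lpn (LP (LK LD1_c5 LD2_c15 LD3_c34))))
theorem f49852 : Led Lsl_gt (LP (LK LD1_c8 LD2_c26 LD3_c20)) = (LP (LK LD1_c5 LD2_c15 LD3_c26)) :=
  Lgr Lrot49 (Lpe (K14.f49452 IH) (Lpr_gf (K10.f49849 IH) (Lpe (K10.f32868 IH) (Lpr_gt (K10.f45401 IH) (Lpr_dt (K10.f45389 IH) (Lpr_gt (K9.f32878 IH) (Lpr_dt (K9.f32879 IH) (Lpe (K14.f47782 IH) (Lpe (f49851 IH) (Lpn (LP (LK LD1_c5 LD2_c15 LD3_c26))))))))))))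
theorem f252371 : Led Lsl_ct (LP (LK LD1_c10 LD2_c43 LD3_c4)) = (LP (LK LD1_c8 LD2_c26 LD3_c20)) :=
  Lgr Lrot59 (Lpr_cf (K14.f252365 IH) (Lpn (LP (LK LD1_c8 LD2_c26 LD3_c20))))
theorem f215458 : Led Lsl_gt (LP (LK LD1_c2 LD2_c39 LD3_c20)) = (LP (LK LD1_c5 LD2_c25 LD3_c53)) :=
  Lre_g IH (LK LD1_c2 LD2_c39 LD3_c20) (LK LD1_c5 LD2_c25 LD3_c53) Lrfl Lrfl
theorem f264959 : Led Lsl_ct (LP (LK LD1_c5 LD2_c25 LD3_c53)) = (LP (LK LD1_c5 LD2_c15 LD3_c16)) :=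
  Lgr Lrot152 (Lpe (f215458 IH) (Lpe (K14.f166137 IH) (Lpr_gt (K14.f252362 IH) (Lpr_ct (f252371 IH) (Lpr_gt (f49852 IH) (Lpr_ct (f252331 IH) (Lpr_df (f259422 IH) (Lpe (f189607 IH) (Lpr_gf (f264953 IH) (Lpn (LP (LK LD1_c5 LD2_c15 LD3_c16))))))))))))
theorem f264983 : Led Lsl_cf (LP (LK LD1_c5 LD2_c25 LD3_c53)) = (LP (LK LD1_c5 LD2_c15 LD3_c16)) :=
  Lgr Lrot11 (Lpr_ct (f264959 IH) (Lpn (LP (LK LD1_c5 LD2_c15 LD3_c16))))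
theorem f44465 : Led Lsl_dt (LP (LK LD1_c4 LD2_c53 LD3_c57)) = (LP (LK LD1_c2 LD2_c24 LD3_c52)) :=
  Lre_d IH (LK LD1_c4 LD2_c53 LD3_c57) (LK LD1_c2 LD2_c24 LD3_c52) Lrfl Lrfl
theorem f212275 : Led Lsl_et (LP (LK LD1_c9 LD2_c39 LD3_c23)) = (LP (LK LD1_c4 LD2_c53 LD3_c57)) :=
  Lre_e IH (LK LD1_c9 LD2_c39 LD3_c23) (LK LD1_c4 LD2_c53 LD3_c57) Lrfl Lrfl
theorem f256317 : Led Lsl_et (LP (LK LD1_c8 LD2_c24 LD3_c45)) = (LP (LK LD1_c15 LD2_c48 LD3_c52)) :=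
  Lre_e IH (LK LD1_c8 LD2_c24 LD3_c45) (LK LD1_c15 LD2_c48 LD3_c52) Lrfl Lrfl
theorem f256443 : Led Lsl_df (LP (LK LD1_c9 LD2_c39 LD3_c23)) = (LP (LK LD1_c15 LD2_c48 LD3_c52)) :=
  Lgr Lrot70 (Lpr_et (f212275 IH) (Lpr_dt (f44465 IH) (Lpr_et (K14.f256437 IH) (Lpr_dt (K14.f199575 IH) (Lpr_et (f256317 IH) (Lpn (LP (LK LD1_c15 LD2_c48 LD3_c52))))))))
theorem f193634 : Led Lsl_bf (LP (LK LD1_c0 LD2_c55 LD3_c50)) = (LP (LK LD1_c0 LD2_c34 LD3_c42)) :=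
  Lgr Lrot165 (Lpr_gt (K10.f193460 IH) (Lpe (K10.f46948 IH) (Lpe (K10.f47082 IH) (Lpr_cf (K10.f190272 IH) (Lpr_bt (K12.f190271 IH) (Lpr_gt (K12.f190878 IH) (Lpe (K9.f50762 IH) (Lpr_ct (K9.f49118 IH) (Lpr_gt (K14.f192535 IH) (Lpr_cf (K10.f182062 IH) (Lpn (LP (LK LD1_c0 LD2_c34 LD3_c42)))))))))))))
theorem f212265 : Led Lsl_bt (LP (LK LD1_c2 LD2_c24 LD3_c52)) = (LP (LK LD1_c2 LD2_c1 LD3_c18)) :=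
  Lgr Lrot130 (Lpr_ct (K12.f212254 IH) (Lpe (K14.f47204 IH) (Lpr_cf (K1.f47104 IH) (Lpe (K1.f47094 IH) (Lpe (K10.f193460 IH) (Lpr_bf (f193634 IH) (Lpe (K10.f182062 IH) (Lpe (K14.f192535 IH) (Lpe (K9.f49118 IH) (Lpe (K10.f51334 IH) (Lpn (LP (LK LD1_c2 LD2_c1 LD3_c18)))))))))))))
theorem f212267 : Led Lsl_bf (LP (LK LD1_c4 LD2_c53 LD3_c57)) = (LP (LK LD1_c4 LD2_c7 LD3_c53)) :=
  Lgr Lrot93 (Lpr_dt (f44465 IH) (Lpr_bt (f212265 IH) (Lpr_dt (f51337 IH) (Lpn (LP (LK LD1_c4 LD2_c7 LD3_c53))))))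
theorem f44466 : Led Lsl_et (LP (LK LD1_c4 LD2_c53 LD3_c57)) = (LP (LK LD1_c9 LD2_c39 LD3_c23)) :=
  Lre_e IH (LK LD1_c4 LD2_c53 LD3_c57) (LK LD1_c9 LD2_c39 LD3_c23) Lrfl Lrfl
theorem f189761 : Led Lsl_et (LP (LK LD1_c8 LD2_c15 LD3_c48)) = (LP (LK LD1_c4 LD2_c7 LD3_c53)) :=
  Lre_e IH (LK LD1_c8 LD2_c15 LD3_c48) (LK LD1_c4 LD2_c7 LD3_c53) Lrfl Lrfl
theorem f212271 : Led Lsl_bt (LP (LK LD1_c9 LD2_c39 LD3_c23)) = (LP (LK LD1_c8 LD2_c15 LD3_c48)) :=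
  Lgr Lrot119 (Lpe (f44466 IH) (Lpr_bf (f212267 IH) (Lpe (f189761 IH) (Lpn (LP (LK LD1_c8 LD2_c15 LD3_c48))))))
theorem f51342 : Led Lsl_dt (LP (LK LD1_c4 LD2_c7 LD3_c53)) = (LP (LK LD1_c2 LD2_c1 LD3_c18)) :=
  Lre_d IH (LK LD1_c4 LD2_c7 LD3_c53) (LK LD1_c2 LD2_c1 LD3_c18) Lrfl Lrfl
theorem f189762 : Led Lsl_et (LP (LK LD1_c5 LD2_c15 LD3_c16)) = (LP (LK LD1_c10 LD2_c19 LD3_c57)) :=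
  Lre_e IH (LK LD1_c5 LD2_c15 LD3_c16) (LK LD1_c10 LD2_c19 LD3_c57) Lrfl Lrfl
theorem f189763 : Led Lsl_df (LP (LK LD1_c8 LD2_c15 LD3_c48)) = (LP (LK LD1_c10 LD2_c19 LD3_c57)) :=
  Lgr Lrot70 (Lpr_et (f189761 IH) (Lpr_dt (f51342 IH) (Lpr_et (f189760 IH) (Lpr_dt (f189733 IH) (Lpr_et (f189762 IH) (Lpn (LP (LK LD1_c10 LD2_c19 LD3_c57))))))))
theorem f189769 : Led Lsl_dt (LP (LK LD1_c8 LD2_c15 LD3_c48)) = (LP (LK LD1_c10 LD2_c19 LD3_c57)) :=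
  Lgr Lrot42 (Lpr_df (f189763 IH) (Lpn (LP (LK LD1_c10 LD2_c19 LD3_c57))))
theorem f256445 : Led Lsl_bt (LP (LK LD1_c10 LD2_c19 LD3_c57)) = (LP (LK LD1_c15 LD2_c48 LD3_c52)) :=
  Lgr Lrot95 (Lpe (f189769 IH) (Lpe (f212271 IH) (Lpr_df (f256443 IH) (Lpn (LP (LK LD1_c15 LD2_c48 LD3_c52))))))
theorem f256430 : Led Lsl_et (LP (LK LD1_c15 LD2_c48 LD3_c52)) = (LP (LK LD1_c8 LD2_c24 LD3_c45)) :=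
  Lre_e IH (LK LD1_c15 LD2_c48 LD3_c52) (LK LD1_c8 LD2_c24 LD3_c45) Lrfl Lrfl
theorem f256449 : Led Lsl_bf (LP (LK LD1_c5 LD2_c15 LD3_c16)) = (LP (LK LD1_c8 LD2_c24 LD3_c45)) :=
  Lgr Lrot96 (Lpr_et (f189762 IH) (Lpr_bt (f256445 IH) (Lpr_et (f256430 IH) (Lpn (LP (LK LD1_c8 LD2_c24 LD3_c45))))))
theorem f256451 : Led Lsl_bt (LP (LK LD1_c5 LD2_c15 LD3_c16)) = (LP (LK LD1_c8 LD2_c24 LD3_c45)) :=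
  Lgr Lrot127 (Lpr_bf (f256449 IH) (Lpn (LP (LK LD1_c8 LD2_c24 LD3_c45))))
theorem f265004 : Led Lsl_gf (LP (LK LD1_c4 LD2_c50 LD3_c33)) = (LP (LK LD1_c8 LD2_c24 LD3_c45)) :=
  Lgr Lrot181 (Lpr_ct (K14.f191020 IH) (Lpr_gt (K14.f249549 IH) (Lpe (K14.f215431 IH) (Lpr_bt (K14.f215449 IH) (Lpr_gt (K12.f166122 IH) (Lpe (f166135 IH) (Lpr_ct (f166138 IH) (Lpr_gt (f215458 IH) (Lpr_cf (f264983 IH) (Lpr_bt (f256451 IH) (Lpn (LP (LK LD1_c8 LD2_c24 LD3_c45)))))))))))))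
theorem f251671 : Led Lsl_et (LP (LK LD1_c2 LD2_c23 LD3_c3)) = (LP (LK LD1_c4 LD2_c18 LD3_c55)) :=
  Lgr Lrot74 (Lpr_bf (K13.f192570 IH) (Lpr_ef (K14.f251669 IH) (Lpe (K14.f169335 IH) (Lpn (LP (LK LD1_c4 LD2_c18 LD3_c55))))))
theorem f265013 : Led Lsl_dt (LP (LK LD1_c5 LD2_c37 LD3_c2)) = (LP (LK LD1_c4 LD2_c53 LD3_c58)) :=
  Lgr Lrot171 (Lpe (K14.f253977 IH) (Lpe (f251671 IH) (Lpr_dt (K14.f43902 IH) (Lpr_gf (f265004 IH) (Lpe (K14.f199575 IH) (Lpe (K14.f256428 IH) (Lpr_gf (K12.f51285 IH) (Lpr_ef (K9.f50063 IH) (Lpr_dt (K9.f50062 IH) (Lpe (K12.f51294 IH) (Lpn (LP (LK LD1_c4 LD2_c53 LD3_c58)))))))))))))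
theorem f47404 : Led Lsl_ct (LP (LK LD1_c4 LD2_c27 LD3_c24)) = (LP (LK LD1_c2 LD2_c10 LD3_c55)) :=
  Lre_c IH (LK LD1_c4 LD2_c27 LD3_c24) (LK LD1_c2 LD2_c10 LD3_c55) Lrfl Lrfl
theorem f247439 : Led Lsl_ct (LP (LK LD1_c2 LD2_c11 LD3_c2)) = (LP (LK LD1_c2 LD2_c2 LD3_c14)) :=
  Lgr Lrot7 (Lpe (K14.f231292 IH) (Lpe (K14.f50614 IH) (Lpe (K9.f30850 IH) (Lpe (K12.f183817 IH) (Lpe (K11.f31635 IH) (Lpe (K14.f192359 IH) (Lpr_dt (K13.f46135 IH) (Lpr_gt (K14.f247437 IH) (Lpe (K14.f247426 IH) (Lpn (LP (LK LD1_c2 LD2_c2 LD3_c14))))))))))))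
theorem f265022 : Led Lsl_gt (LP (LK LD1_c5 LD2_c37 LD3_c2)) = (LP (LK LD1_c7 LD2_c57 LD3_c53)) :=
  Lgr Lrot146 (Lpr_dt (f265013 IH) (Lpr_gt (K12.f51294 IH) (Lpe (K10.f190758 IH) (Lpr_gt (K14.f247452 IH) (Lpr_ct (f47404 IH) (Lpe (K14.f247426 IH) (Lpe (f247439 IH) (Lpe (K14.f231301 IH) (Lpe (f231302 IH) (Lpn (LP (LK LD1_c7 LD2_c57 LD3_c53))))))))))))
theorem f229044 : Led Lsl_bt (LP (LK LD1_c4 LD2_c53 LD3_c58)) = (LP (LK LD1_c2 LD2_c28 LD3_c9)) :=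
  Lgr Lrot127 (Lpr_bf (K12.f229042 IH) (Lpn (LP (LK LD1_c2 LD2_c28 LD3_c9))))
theorem f199201 : Led Lsl_et (LP (LK LD1_c0 LD2_c31 LD3_c27)) = (LP (LK LD1_c1 LD2_c8 LD3_c50)) :=
  Lre_e IH (LK LD1_c0 LD2_c31 LD3_c27) (LK LD1_c1 LD2_c8 LD3_c50) Lrfl Lrfl
theorem f213487 : Led Lsl_gf (LP (LK LD1_c1 LD2_c8 LD3_c50)) = (LP (LK LD1_c2 LD2_c6 LD3_c53)) :=
  Lgr Lrot141 (Lpe (f199201 IH) (Lpr_dt (K13.f271 IH) (Lpr_gt (K13.f2079 IH) (Lpe (K13.f199188 IH) (Lpr_et (K13.f192827 IH) (Lpr_gt (K12.f199181 IH) (Lpr_dt (K9.f21866 IH) (Lpr_gt (K13.f213478 IH) (Lpr_df (K14.f171297 IH) (Lpe (K14.f171254 IH) (Lpn (LP (LK LD1_c2 LD2_c6 LD3_c53)))))))))))))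
theorem f192944 : Led Lsl_cf (LP (LK LD1_c4 LD2_c2 LD3_c34)) = (LP (LK LD1_c5 LD2_c0 LD3_c52)) :=
  Lgr Lrot11 (Lpr_ct (K10.f192931 IH) (Lpn (LP (LK LD1_c5 LD2_c0 LD3_c52))))
theorem f204917 : Led Lsl_bt (LP (LK LD1_c0 LD2_c31 LD3_c39)) = (LP (LK LD1_c0 LD2_c31 LD3_c39)) :=
  Lgr Lrot95 (Lpe (K9.f164679 IH) (Lpr_bf (K12.f204913 IH) (Lpr_df (K9.f164683 IH) (Lpn (LP (LK LD1_c0 LD2_c31 LD3_c39))))))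
theorem f205059 : Led Lsl_cf (LP (LK LD1_c2 LD2_c6 LD3_c53)) = (LP (LK LD1_c2 LD2_c6 LD3_c53)) :=
  Lgr Lrot97 (Lpr_bt (K14.f171228 IH) (Lpr_ct (K10.f171224 IH) (Lpr_bt (f204917 IH) (Lpe (K9.f171226 IH) (Lpr_bt (K14.f171229 IH) (Lpn (LP (LK LD1_c2 LD2_c6 LD3_c53))))))))
theorem f171307 : Led Lsl_gt (LP (LK LD1_c4 LD2_c19 LD3_c4)) = (LP (LK LD1_c2 LD2_c6 LD3_c53)) :=
  Lre_g IH (LK LD1_c4 LD2_c19 LD3_c4) (LK LD1_c2 LD2_c6 LD3_c53) Lrfl Lrfl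
theorem f213489 : Led Lsl_dt (LP (LK LD1_c2 LD2_c28 LD3_c9)) = (LP (LK LD1_c4 LD2_c19 LD3_c4)) :=
  Lgr Lrot6 (Lpr_gt (K14.f3333 IH) (Lpr_ct (K0.f3308 IH) (Lpr_gt (K10.f3391 IH) (Lpe (f192944 IH) (Lpe (K10.f186888 IH) (Lpe (K10.f33383 IH) (Lpr_gf (f213487 IH) (Lpr_cf (f205059 IH) (Lpe (f171307 IH) (Lpn (LP (LK LD1_c4 LD2_c19 LD3_c4))))))))))))
theorem f265015 : Led Lsl_bf (LP (LK LD1_c5 LD2_c37 LD3_c2)) = (LP (LK LD1_c4 LD2_c19 LD3_c4)) :=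
  Lgr Lrot93 (Lpr_dt (f265013 IH) (Lpr_bt (f229044 IH) (Lpr_dt (f213489 IH) (Lpn (LP (LK LD1_c4 LD2_c19 LD3_c4))))))
theorem f230934 : Led Lsl_bf (LP (LK LD1_c2 LD2_c5 LD3_c40)) = (LP (LK LD1_c2 LD2_c2 LD3_c14)) :=
  Lgr Lrot24 (Lpr_bt (K12.f230930 IH) (Lpn (LP (LK LD1_c2 LD2_c2 LD3_c14))))
theorem f256276 : Led Lsl_bt (LP (LK LD1_c2 LD2_c58 LD3_c34)) = (LP (LK LD1_c1 LD2_c25 LD3_c3)) :=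
  Lre_b IH (LK LD1_c2 LD2_c58 LD3_c34) (LK LD1_c1 LD2_c25 LD3_c3) Lrfl Lrfl
theorem f192196 : Led Lsl_et (LP (LK LD1_c1 LD2_c25 LD3_c0)) = (LP (LK LD1_c2 LD2_c58 LD3_c34)) :=
  Lre_e IH (LK LD1_c1 LD2_c25 LD3_c0) (LK LD1_c2 LD2_c58 LD3_c34) Lrfl Lrfl
theorem f192197 : Led Lsl_cf (LP (LK LD1_c1 LD2_c58 LD3_c33)) = (LP (LK LD1_c2 LD2_c58 LD3_c34)) :=
  Lgr Lrot39 (Lpr_et (f28068 IH) (Lpr_ct (K10.f192191 IH) (Lpr_et (f192196 IH) (Lpn (LP (LK LD1_c2 LD2_c58 LD3_c34))))))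
theorem f184818 : Led Lsl_gt (LP (LK LD1_c1 LD2_c58 LD3_c33)) = (LP (LK LD1_c4 LD2_c3 LD3_c5)) :=
  Lre_g IH (LK LD1_c1 LD2_c58 LD3_c33) (LK LD1_c4 LD2_c3 LD3_c5) Lrfl Lrfl
theorem f265024 : Led Lsl_ct (LP (LK LD1_c4 LD2_c19 LD3_c4)) = (LP (LK LD1_c4 LD2_c3 LD3_c5)) :=
  Lgr Lrot10 (Lpe (f265015 IH) (Lpr_gt (f265022 IH) (Lpr_ct (f231302 IH) (Lpr_gt (K14.f231301 IH) (Lpr_cf (K14.f247441 IH) (Lpe (f230934 IH) (Lpr_gt (K14.f256266 IH) (Lpe (f256276 IH) (Lpe (f192197 IH) (Lpr_gt (f184818 IH) (Lpn (LP (LK LD1_c4 LD2_c3 LD3_c5)))))))))))))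
theorem f265026 : Led Lsl_gf (LP (LK LD1_c2 LD2_c58 LD3_c34)) = (LP (LK LD1_c2 LD2_c1 LD3_c37)) :=
  Lgr Lrot181 (Lpe (f192197 IH) (Lpr_gt (f184818 IH) (Lpe (f265024 IH) (Lpe (f265015 IH) (Lpr_gt (f265022 IH) (Lpe (f255045 IH) (Lpr_ct (f232143 IH) (Lpr_gt (f232142 IH) (Lpe (f167348 IH) (Lpr_bt (K14.f167352 IH) (Lpn (LP (LK LD1_c2 LD2_c1 LD3_c37)))))))))))))
theorem f187852 : Led Lsl_gt (LP (LK LD1_c2 LD2_c58 LD3_c33)) = (LP (LK LD1_c6 LD2_c4 LD3_c45)) :=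
  Lre_g IH (LK LD1_c2 LD2_c58 LD3_c33) (LK LD1_c6 LD2_c4 LD3_c45) Lrfl Lrfl
theorem f172017 : Led Lsl_et (LP (LK LD1_c1 LD2_c15 LD3_c54)) = (LP (LK LD1_c2 LD2_c37 LD3_c48)) :=
  Lre_e IH (LK LD1_c1 LD2_c15 LD3_c54) (LK LD1_c2 LD2_c37 LD3_c48) Lrfl Lrfl
theorem f172006 : Led Lsl_gt (LP (LK LD1_c5 LD2_c22 LD3_c30)) = (LP (LK LD1_c2 LD2_c37 LD3_c48)) :=
  Lre_g IH (LK LD1_c5 LD2_c22 LD3_c30) (LK LD1_c2 LD2_c37 LD3_c48) Lrfl Lrfl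
theorem f235686 : Led Lsl_ef (LP (LK LD1_c5 LD2_c22 LD3_c30)) = (LP (LK LD1_c2 LD2_c38 LD3_c16)) :=
  Lgr Lrot114 (Lpr_gt (f172006 IH) (Lpe (f172017 IH) (Lpr_dt (K10.f172027 IH) (Lpe (K13.f235637 IH) (Lpr_df (K13.f235671 IH) (Lpr_et (K13.f171182 IH) (Lpr_gt (K12.f228938 IH) (Lpr_dt (K1.f28794 IH) (Lpr_gt (K12.f29084 IH) (Lpe (K13.f235684 IH) (Lpn (LP (LK LD1_c2 LD2_c38 LD3_c16)))))))))))))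
theorem f235688 : Led Lsl_et (LP (LK LD1_c5 LD2_c22 LD3_c30)) = (LP (LK LD1_c2 LD2_c38 LD3_c16)) :=
  Lgr Lrot87 (Lpr_ef (f235686 IH) (Lpn (LP (LK LD1_c2 LD2_c38 LD3_c16))))
theorem f265028 : Led Lsl_df (LP (LK LD1_c6 LD2_c4 LD3_c45)) = (LP (LK LD1_c5 LD2_c22 LD3_c30)) :=
  Lgr Lrot168 (Lpe (f187852 IH) (Lpe (f187851 IH) (Lpr_et (f192196 IH) (Lpr_gf (f265026 IH) (Lpe (K12.f167354 IH) (Lpr_dt (K13.f167357 IH) (Lpe (K13.f167344 IH) (Lpe (K13.f236441 IH) (Lpr_gf (K13.f236449 IH) (Lpe (f235688 IH) (Lpn (LP (LK LD1_c5 LD2_c22 LD3_c30)))))))))))))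
theorem f171987 : Led Lsl_bt (LP (LK LD1_c1 LD2_c15 LD3_c52)) = (LP (LK LD1_c0 LD2_c35 LD3_c13)) :=
  Lre_b IH (LK LD1_c1 LD2_c15 LD3_c52) (LK LD1_c0 LD2_c35 LD3_c13) Lrfl Lrfl
theorem f42526 : Led Lsl_ct (LP (LK LD1_c0 LD2_c35 LD3_c13)) = (LP (LK LD1_c1 LD2_c15 LD3_c56)) :=
  Lre_c IH (LK LD1_c0 LD2_c35 LD3_c13) (LK LD1_c1 LD2_c15 LD3_c56) Lrfl Lrfl
theorem f171988 : Led Lsl_ct (LP (LK LD1_c2 LD2_c37 LD3_c48)) = (LP (LK LD1_c2 LD2_c36 LD3_c52)) :=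
  Lgr Lrot83 (Lpe (K13.f42534 IH) (Lpe (f42526 IH) (Lpe (f171987 IH) (Lpr_cf (K9.f171891 IH) (Lpe (K10.f42137 IH) (Lpn (LP (LK LD1_c2 LD2_c36 LD3_c52))))))))
theorem f31022 : Led Lsl_at (LP (LK LD1_c0 LD2_c56 LD3_c8)) = (LP (LK LD1_c1 LD2_c57 LD3_c19)) :=
  Lre_a IH (LK LD1_c0 LD2_c56 LD3_c8) (LK LD1_c1 LD2_c57 LD3_c19) Lrfl Lrfl
theorem f194757 : Led Lsl_gf (LP (LK LD1_c1 LD2_c57 LD3_c19)) = (LP (LK LD1_c2 LD2_c58 LD3_c42)) :=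
  Lgr Lrot76 (Lpe (f31022 IH) (Lpe (K9.f50378 IH) (Lpr_gt (K10.f194753 IH) (Lpn (LP (LK LD1_c2 LD2_c58 LD3_c42))))))
theorem f42147 : Led Lsl_et (LP (LK LD1_c2 LD2_c36 LD3_c55)) = (LP (LK LD1_c1 LD2_c15 LD3_c26)) :=
  Lre_e IH (LK LD1_c2 LD2_c36 LD3_c55) (LK LD1_c1 LD2_c15 LD3_c26) Lrfl Lrfl
theorem f42148 : Led Lsl_et (LP (LK LD1_c1 LD2_c25 LD3_c5)) = (LP (LK LD1_c2 LD2_c58 LD3_c44)) :=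
  Lre_e IH (LK LD1_c1 LD2_c25 LD3_c5) (LK LD1_c2 LD2_c58 LD3_c44) Lrfl Lrfl
theorem f42149 : Led Lsl_df (LP (LK LD1_c2 LD2_c36 LD3_c55)) = (LP (LK LD1_c2 LD2_c58 LD3_c44)) :=
  Lgr Lrot70 (Lpr_et (f42147 IH) (Lpr_dt (K12.f42146 IH) (Lpr_et (K9.f42145 IH) (Lpr_dt (K9.f42135 IH) (Lpr_et (f42148 IH) (Lpn (LP (LK LD1_c2 LD2_c58 LD3_c44))))))))
theorem f42279 : Led Lsl_ft (LP (LK LD1_c2 LD2_c36 LD3_c55)) = (LP (LK LD1_c5 LD2_c20 LD3_c34)) :=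
  Lre_f IH (LK LD1_c2 LD2_c36 LD3_c55) (LK LD1_c5 LD2_c20 LD3_c34) Lrfl Lrfl
theorem f42280 : Led Lsl_ft (LP (LK LD1_c6 LD2_c5 LD3_c8)) = (LP (LK LD1_c2 LD2_c58 LD3_c44)) :=
  Lre_f IH (LK LD1_c6 LD2_c5 LD3_c8) (LK LD1_c2 LD2_c58 LD3_c44) Lrfl Lrfl
theorem f42281 : Led Lsl_dt (LP (LK LD1_c5 LD2_c20 LD3_c34)) = (LP (LK LD1_c6 LD2_c5 LD3_c8)) :=
  Lgr Lrot60 (Lpe (f42279 IH) (Lpr_df (f42149 IH) (Lpe (f42280 IH) (Lpn (LP (LK LD1_c6 LD2_c5 LD3_c8))))))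
theorem f42428 : Led Lsl_df (LP (LK LD1_c5 LD2_c20 LD3_c34)) = (LP (LK LD1_c6 LD2_c5 LD3_c8)) :=
  Lgr Lrot38 (Lpr_dt (f42281 IH) (Lpn (LP (LK LD1_c6 LD2_c5 LD3_c8))))
theorem f42435 : Led Lsl_bt (LP (LK LD1_c5 LD2_c20 LD3_c34)) = (LP (LK LD1_c10 LD2_c30 LD3_c55)) :=
  Lre_b IH (LK LD1_c5 LD2_c20 LD3_c34) (LK LD1_c10 LD2_c30 LD3_c55) Lrfl Lrfl
theorem f42436 : Led Lsl_bt (LP (LK LD1_c11 LD2_c53 LD3_c28)) = (LP (LK LD1_c6 LD2_c5 LD3_c8)) :=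
  Lre_b IH (LK LD1_c11 LD2_c53 LD3_c28) (LK LD1_c6 LD2_c5 LD3_c8) Lrfl Lrfl
theorem f42437 : Led Lsl_dt (LP (LK LD1_c10 LD2_c30 LD3_c55)) = (LP (LK LD1_c11 LD2_c53 LD3_c28)) :=
  Lgr Lrot79 (Lpe (f42435 IH) (Lpr_df (f42428 IH) (Lpe (f42436 IH) (Lpn (LP (LK LD1_c11 LD2_c53 LD3_c28))))))
theorem f42443 : Led Lsl_ft (LP (LK LD1_c5 LD2_c20 LD3_c26)) = (LP (LK LD1_c10 LD2_c30 LD3_c55)) :=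
  Lre_f IH (LK LD1_c5 LD2_c20 LD3_c26) (LK LD1_c10 LD2_c30 LD3_c55) Lrfl Lrfl
theorem f42444 : Led Lsl_ft (LP (LK LD1_c11 LD2_c53 LD3_c28)) = (LP (LK LD1_c6 LD2_c5 LD3_c2)) :=
  Lre_f IH (LK LD1_c11 LD2_c53 LD3_c28) (LK LD1_c6 LD2_c5 LD3_c2) Lrfl Lrfl
theorem f42445 : Led Lsl_df (LP (LK LD1_c5 LD2_c20 LD3_c26)) = (LP (LK LD1_c6 LD2_c5 LD3_c2)) :=
  Lgr Lrot78 (Lpr_ft (f42443 IH) (Lpr_dt (f42437 IH) (Lpr_ft (f42444 IH) (Lpn (LP (LK LD1_c6 LD2_c5 LD3_c2))))))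
theorem f42450 : Led Lsl_et (LP (LK LD1_c5 LD2_c20 LD3_c26)) = (LP (LK LD1_c2 LD2_c36 LD3_c51)) :=
  Lre_e IH (LK LD1_c5 LD2_c20 LD3_c26) (LK LD1_c2 LD2_c36 LD3_c51) Lrfl Lrfl
theorem f42451 : Led Lsl_dt (LP (LK LD1_c2 LD2_c36 LD3_c51)) = (LP (LK LD1_c1 LD2_c15 LD3_c25)) :=
  Lre_d IH (LK LD1_c2 LD2_c36 LD3_c51) (LK LD1_c1 LD2_c15 LD3_c25) Lrfl Lrfl
theorem f42453 : Led Lsl_et (LP (LK LD1_c2 LD2_c58 LD3_c42)) = (LP (LK LD1_c6 LD2_c5 LD3_c2)) :=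
  Lre_e IH (LK LD1_c2 LD2_c58 LD3_c42) (LK LD1_c6 LD2_c5 LD3_c2) Lrfl Lrfl
theorem f42454 : Led Lsl_dt (LP (LK LD1_c2 LD2_c36 LD3_c52)) = (LP (LK LD1_c2 LD2_c58 LD3_c42)) :=
  Lgr Lrot77 (Lpe (K12.f42452 IH) (Lpe (f42451 IH) (Lpe (f42450 IH) (Lpr_df (f42445 IH) (Lpe (f42453 IH) (Lpn (LP (LK LD1_c2 LD2_c58 LD3_c42))))))))
theorem f199551 : Led Lsl_gt (LP (LK LD1_c1 LD2_c18 LD3_c18)) = (LP (LK LD1_c2 LD2_c43 LD3_c38)) :=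
  Lre_g IH (LK LD1_c1 LD2_c18 LD3_c18) (LK LD1_c2 LD2_c43 LD3_c38) Lrfl Lrfl
theorem f199558 : Led Lsl_ct (LP (LK LD1_c2 LD2_c43 LD3_c55)) = (LP (LK LD1_c1 LD2_c18 LD3_c18)) :=
  Lre_c IH (LK LD1_c2 LD2_c43 LD3_c55) (LK LD1_c1 LD2_c18 LD3_c18) Lrfl Lrfl
theorem f216479 : Led Lsl_gt (LP (LK LD1_c2 LD2_c36 LD3_c52)) = (LP (LK LD1_c2 LD2_c43 LD3_c55)) :=
  Lgr Lrot146 (Lpr_dt (f42454 IH) (Lpe (f194757 IH) (Lpr_ct (K10.f30937 IH) (Lpe (K13.f189978 IH) (Lpr_ct (f189980 IH) (Lpr_dt (K13.f216469 IH) (Lpr_cf (f199549 IH) (Lpe (f199551 IH) (Lpe (f199558 IH) (Lpn (LP (LK LD1_c2 LD2_c43 LD3_c55))))))))))))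
theorem f189275 : Led Lsl_dt (LP (LK LD1_c2 LD2_c43 LD3_c56)) = (LP (LK LD1_c1 LD2_c18 LD3_c18)) :=
  Lre_d IH (LK LD1_c2 LD2_c43 LD3_c56) (LK LD1_c1 LD2_c18 LD3_c18) Lrfl Lrfl
theorem f265034 : Led Lsl_gt (LP (LK LD1_c6 LD2_c4 LD3_c45)) = (LP (LK LD1_c4 LD2_c0 LD3_c61)) :=
  Lgr Lrot9 (Lpr_df (f265028 IH) (Lpr_gt (f172006 IH) (Lpr_ct (f171988 IH) (Lpr_gt (f216479 IH) (Lpr_ct (f199558 IH) (Lpe (f189275 IH) (Lpe (f189272 IH) (Lpr_gf (f259089 IH) (Lpe (f31025 IH) (Lpn (LP (LK LD1_c4 LD2_c0 LD3_c61))))))))))))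
theorem f265036 : Led Lsl_gt (LP (LK LD1_c4 LD2_c1 LD3_c0)) = (LP (LK LD1_c2 LD2_c23 LD3_c33)) :=
  Lgr Lrot137 (Lpe (K10.f192512 IH) (Lpr_dt (K14.f28176 IH) (Lpe (f265034 IH) (Lpr_df (f265028 IH) (Lpr_et (f235688 IH) (Lpe (K13.f235597 IH) (Lpe (K13.f235683 IH) (Lpr_dt (K13.f224181 IH) (Lpe (K13.f221609 IH) (Lpr_df (K13.f235671 IH) (Lpn (LP (LK LD1_c2 LD2_c23 LD3_c33)))))))))))))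
theorem f235744 : Led Lsl_ct (LP (LK LD1_c2 LD2_c23 LD3_c33)) = (LP (LK LD1_c1 LD2_c8 LD3_c54)) :=
  Lre_c IH (LK LD1_c2 LD2_c23 LD3_c33) (LK LD1_c1 LD2_c8 LD3_c54) Lrfl Lrfl
theorem f205063 : Led Lsl_ct (LP (LK LD1_c1 LD2_c19 LD3_c36)) = (LP (LK LD1_c1 LD2_c19 LD3_c36)) :=
  Lgr Lrot15 (Lpe (K14.f171259 IH) (Lpr_cf (f205059 IH) (Lpr_ef (K14.f171254 IH) (Lpn (LP (LK LD1_c1 LD2_c19 LD3_c36))))))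
theorem f265038 : Led Lsl_bf (LP (LK LD1_c4 LD2_c1 LD3_c0)) = (LP (LK LD1_c2 LD2_c58 LD3_c30)) :=
  Lgr Lrot165 (Lpr_gt (f265036 IH) (Lpr_ct (f235744 IH) (Lpe (K14.f246817 IH) (Lpe (f205063 IH) (Lpr_bt (K14.f171258 IH) (Lpe (K14.f250327 IH) (Lpe (K14.f228905 IH) (Lpr_ct (K14.f228894 IH) (Lpr_gt (K14.f250430 IH) (Lpe (K10.f42165 IH) (Lpn (LP (LK LD1_c2 LD2_c58 LD3_c30)))))))))))))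
theorem f228904 : Led Lsl_gt (LP (LK LD1_c4 LD2_c12 LD3_c60)) = (LP (LK LD1_c2 LD2_c3 LD3_c54)) :=
  Lre_g IH (LK LD1_c4 LD2_c12 LD3_c60) (LK LD1_c2 LD2_c3 LD3_c54) Lrfl Lrfl
theorem f188602 : Led Lsl_dt (LP (LK LD1_c4 LD2_c29 LD3_c1)) = (LP (LK LD1_c2 LD2_c11 LD3_c38)) :=
  Lre_d IH (LK LD1_c4 LD2_c29 LD3_c1) (LK LD1_c2 LD2_c11 LD3_c38) Lrfl Lrfl
theorem f874 : Led Lsl_dt (LP (LK LD1_c4 LD2_c15 LD3_c35)) = (LP (LK LD1_c8 LD2_c27 LD3_c11)) :=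
  Lre_d IH (LK LD1_c4 LD2_c15 LD3_c35) (LK LD1_c8 LD2_c27 LD3_c11) Lrfl Lrfl
theorem f243316 : Led Lsl_gf (LP (LK LD1_c4 LD2_c29 LD3_c1)) = (LP (LK LD1_c4 LD2_c16 LD3_c22)) :=
  Lgr Lrot144 (Lpr_dt (f188602 IH) (Lpe (K10.f188736 IH) (Lpr_dt (K14.f167420 IH) (Lpe (K13.f167413 IH) (Lpr_df (K13.f243311 IH) (Lpe (K13.f1345 IH) (Lpe (f874 IH) (Lpe (K12.f53401 IH) (Lpe (K12.f53417 IH) (Lpn (LP (LK LD1_c4 LD2_c16 LD3_c22))))))))))))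
theorem f250623 : Led Lsl_df (LP (LK LD1_c4 LD2_c16 LD3_c22)) = (LP (LK LD1_c5 LD2_c29 LD3_c44)) :=
  Lgr Lrot38 (Lpr_dt (K14.f250527 IH) (Lpn (LP (LK LD1_c5 LD2_c29 LD3_c44))))
theorem f261463 : Led Lsl_gf (LP (LK LD1_c5 LD2_c29 LD3_c44)) = (LP (LK LD1_c3 LD2_c58 LD3_c21)) :=
  Lgr Lrot144 (Lpe (f250623 IH) (Lpe (f243316 IH) (Lpr_dt (f188602 IH) (Lpe (K11.f188601 IH) (Lpe (K12.f187241 IH) (Lpr_gf (f261457 IH) (Lpe (f259230 IH) (Lpe (f261448 IH) (Lpe (f261399 IH) (Lpn (LP (LK LD1_c3 LD2_c58 LD3_c21))))))))))))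
theorem f265040 : Led Lsl_bf (LP (LK LD1_c4 LD2_c12 LD3_c60)) = (LP (LK LD1_c2 LD2_c41 LD3_c7)) :=
  Lgr Lrot165 (Lpr_gt (f228904 IH) (Lpr_ct (K14.f228894 IH) (Lpr_gt (K14.f250430 IH) (Lpe (K10.f42165 IH) (Lpe (f265038 IH) (Lpr_gt (f265036 IH) (Lpe (K13.f171183 IH) (Lpe (f261402 IH) (Lpe (f261463 IH) (Lpe (K14.f168346 IH) (Lpn (LP (LK LD1_c2 LD2_c41 LD3_c7)))))))))))))
theorem f259627 : Led Lsl_ef (LP (LK LD1_c2 LD2_c41 LD3_c7)) = (LP (LK LD1_c4 LD2_c18 LD3_c57)) :=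
  Lgr Lrot88 (Lpr_et (f259620 IH) (Lpn (LP (LK LD1_c4 LD2_c18 LD3_c57))))
theorem f265044 : Led Lsl_et (LP (LK LD1_c4 LD2_c12 LD3_c60)) = (LP (LK LD1_c2 LD2_c6 LD3_c44)) :=
  Lgr Lrot74 (Lpr_bf (f265040 IH) (Lpr_ef (f259627 IH) (Lpe (f229519 IH) (Lpn (LP (LK LD1_c2 LD2_c6 LD3_c44))))))
theorem f265048 : Led Lsl_ef (LP (LK LD1_c4 LD2_c12 LD3_c60)) = (LP (LK LD1_c2 LD2_c6 LD3_c44)) :=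
  Lgr Lrot88 (Lpr_et (f265044 IH) (Lpn (LP (LK LD1_c2 LD2_c6 LD3_c44))))
theorem f235747 : Led Lsl_gt (LP (LK LD1_c2 LD2_c12 LD3_c21)) = (LP (LK LD1_c1 LD2_c9 LD3_c55)) :=
  Lgr Lrot94 (Lpe (K14.f173947 IH) (Lpr_gt (K13.f235669 IH) (Lpr_dt (K13.f196712 IH) (Lpr_gt (K13.f41242 IH) (Lpr_dt (K12.f41241 IH) (Lpe (K9.f41136 IH) (Lpe (K14.f41237 IH) (Lpe (K12.f41408 IH) (Lpe (K14.f55082 IH) (Lpn (LP (LK LD1_c1 LD2_c9 LD3_c55))))))))))))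
theorem f216288 : Led Lsl_et (LP (LK LD1_c0 LD2_c32 LD3_c20)) = (LP (LK LD1_c1 LD2_c9 LD3_c56)) :=
  Lre_e IH (LK LD1_c0 LD2_c32 LD3_c20) (LK LD1_c1 LD2_c9 LD3_c56) Lrfl Lrfl
theorem f257594 : Led Lsl_df (LP (LK LD1_c2 LD2_c28 LD3_c41)) = (LP (LK LD1_c2 LD2_c6 LD3_c44)) :=
  Lgr Lrot38 (Lpr_dt (f257574 IH) (Lpn (LP (LK LD1_c2 LD2_c6 LD3_c44))))
theorem f265050 : Led Lsl_gt (LP (LK LD1_c1 LD2_c9 LD3_c56)) = (LP (LK LD1_c2 LD2_c25 LD3_c4)) :=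
  Lgr Lrot131 (Lpe (f216288 IH) (Lpr_dt (f216289 IH) (Lpe (f235747 IH) (Lpe (K14.f250389 IH) (Lpe (f228904 IH) (Lpr_ef (f265048 IH) (Lpe (f257594 IH) (Lpe (f257086 IH) (Lpe (K14.f43833 IH) (Lpr_et (K14.f193138 IH) (Lpn (LP (LK LD1_c2 LD2_c25 LD3_c4)))))))))))))
theorem f265052 : Led Lsl_ft (LP (LK LD1_c1 LD2_c9 LD3_c56)) = (LP (LK LD1_c2 LD2_c25 LD3_c24)) :=
  Lre_f IH (LK LD1_c1 LD2_c9 LD3_c56) (LK LD1_c2 LD2_c25 LD3_c24) Lrfl Lrfl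
theorem f265053 : Led Lsl_at (LP (LK LD1_c2 LD2_c25 LD3_c24)) = (LP (LK LD1_c4 LD2_c13 LD3_c23)) :=
  Lgr Lrot26 (Lpe (f265052 IH) (Lpr_gt (f265050 IH) (Lpe (K14.f251677 IH) (Lpn (LP (LK LD1_c4 LD2_c13 LD3_c23))))))
theorem f214079 : Led Lsl_dt (LP (LK LD1_c4 LD2_c55 LD3_c2)) = (LP (LK LD1_c9 LD2_c41 LD3_c41)) :=
  Lre_d IH (LK LD1_c4 LD2_c55 LD3_c2) (LK LD1_c9 LD2_c41 LD3_c41) Lrfl Lrfl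
theorem f256084 : Led Lsl_df (LP (LK LD1_c5 LD2_c3 LD3_c1)) = (LP (LK LD1_c4 LD2_c5 LD3_c17)) :=
  Lgr Lrot38 (Lpr_dt (K14.f256082 IH) (Lpn (LP (LK LD1_c4 LD2_c5 LD3_c17))))
theorem f42531 : Led Lsl_dt (LP (LK LD1_c11 LD2_c52 LD3_c25)) = (LP (LK LD1_c6 LD2_c4 LD3_c28)) :=
  Lre_d IH (LK LD1_c11 LD2_c52 LD3_c25) (LK LD1_c6 LD2_c4 LD3_c28) Lrfl Lrfl
theorem f265109 : Led Lsl_ct (LP (LK LD1_c9 LD2_c41 LD3_c41)) = (LP (LK LD1_c11 LD2_c52 LD3_c25)) :=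
  Lgr Lrot41 (Lpe (f214079 IH) (Lpe (K13.f213978 IH) (Lpe (K14.f41410 IH) (Lpr_ft (f265052 IH) (Lpr_at (f265053 IH) (Lpe (K14.f256076 IH) (Lpr_df (f256084 IH) (Lpe (K14.f182562 IH) (Lpe (f42531 IH) (Lpn (LP (LK LD1_c11 LD2_c52 LD3_c25))))))))))))
theorem f28686 : Led Lsl_dt (LP (LK LD1_c16 LD2_c12 LD3_c57)) = (LP (LK LD1_c8 LD2_c39 LD3_c28)) :=
  Lre_d IH (LK LD1_c16 LD2_c12 LD3_c57) (LK LD1_c8 LD2_c39 LD3_c28) Lrfl Lrfl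
theorem f263206 : Led Lsl_bt (LP (LK LD1_c2 LD2_c11 LD3_c29)) = (LP (LK LD1_c2 LD2_c37 LD3_c53)) :=
  Lgr Lrot35 (Lpr_ff (f263204 IH) (Lpe (K10.f49097 IH) (Lpe (f258013 IH) (Lpn (LP (LK LD1_c2 LD2_c37 LD3_c53))))))
theorem f263240 : Led Lsl_bf (LP (LK LD1_c2 LD2_c39 LD3_c19)) = (LP (LK LD1_c5 LD2_c22 LD3_c43)) :=
  Lgr Lrot93 (Lpr_dt (f263238 IH) (Lpr_bt (f263206 IH) (Lpr_dt (f256096 IH) (Lpn (LP (LK LD1_c5 LD2_c22 LD3_c43))))))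
theorem f257993 : Led Lsl_ct (LP (LK LD1_c5 LD2_c22 LD3_c43)) = (LP (LK LD1_c10 LD2_c35 LD3_c44)) :=
  Lre_c IH (LK LD1_c5 LD2_c22 LD3_c43) (LK LD1_c10 LD2_c35 LD3_c44) Lrfl Lrfl
theorem f217498 : Led Lsl_et (LP (LK LD1_c2 LD2_c25 LD3_c35)) = (LP (LK LD1_c4 LD2_c55 LD3_c26)) :=
  Lre_e IH (LK LD1_c2 LD2_c25 LD3_c35) (LK LD1_c4 LD2_c55 LD3_c26) Lrfl Lrfl
theorem f49171 : Led Lsl_et (LP (LK LD1_c1 LD2_c14 LD3_c44)) = (LP (LK LD1_c2 LD2_c35 LD3_c23)) :=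
  Lre_e IH (LK LD1_c1 LD2_c14 LD3_c44) (LK LD1_c2 LD2_c35 LD3_c23) Lrfl Lrfl
theorem f49182 : Led Lsl_et (LP (LK LD1_c5 LD2_c17 LD3_c16)) = (LP (LK LD1_c2 LD2_c35 LD3_c22)) :=
  Lre_e IH (LK LD1_c5 LD2_c17 LD3_c16) (LK LD1_c2 LD2_c35 LD3_c22) Lrfl Lrfl
theorem f217499 : Led Lsl_dt (LP (LK LD1_c4 LD2_c55 LD3_c26)) = (LP (LK LD1_c5 LD2_c17 LD3_c16)) :=
  Lgr Lrot77 (Lpe (f217498 IH) (Lpr_df (f217493 IH) (Lpe (f49171 IH) (Lpe (K13.f49112 IH) (Lpe (f49182 IH) (Lpn (LP (LK LD1_c5 LD2_c17 LD3_c16))))))))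
theorem f217510 : Led Lsl_ft (LP (LK LD1_c9 LD2_c42 LD3_c29)) = (LP (LK LD1_c4 LD2_c55 LD3_c26)) :=
  Lre_f IH (LK LD1_c9 LD2_c42 LD3_c29) (LK LD1_c4 LD2_c55 LD3_c26) Lrfl Lrfl
theorem f217511 : Led Lsl_ft (LP (LK LD1_c5 LD2_c17 LD3_c16)) = (LP (LK LD1_c10 LD2_c24 LD3_c8)) :=
  Lre_f IH (LK LD1_c5 LD2_c17 LD3_c16) (LK LD1_c10 LD2_c24 LD3_c8) Lrfl Lrfl
theorem f217512 : Led Lsl_df (LP (LK LD1_c9 LD2_c42 LD3_c29)) = (LP (LK LD1_c10 LD2_c24 LD3_c8)) :=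
  Lgr Lrot78 (Lpr_ft (f217510 IH) (Lpr_dt (f217499 IH) (Lpr_ft (f217511 IH) (Lpn (LP (LK LD1_c10 LD2_c24 LD3_c8))))))
theorem f217525 : Led Lsl_dt (LP (LK LD1_c9 LD2_c42 LD3_c29)) = (LP (LK LD1_c10 LD2_c24 LD3_c8)) :=
  Lgr Lrot42 (Lpr_df (f217512 IH) (Lpn (LP (LK LD1_c10 LD2_c24 LD3_c8))))
theorem f217528 : Led Lsl_bt (LP (LK LD1_c4 LD2_c55 LD3_c33)) = (LP (LK LD1_c9 LD2_c42 LD3_c29)) :=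
  Lre_b IH (LK LD1_c4 LD2_c55 LD3_c33) (LK LD1_c9 LD2_c42 LD3_c29) Lrfl Lrfl
theorem f217529 : Led Lsl_dt (LP (LK LD1_c9 LD2_c42 LD3_c45)) = (LP (LK LD1_c4 LD2_c55 LD3_c33)) :=
  Lre_d IH (LK LD1_c9 LD2_c42 LD3_c45) (LK LD1_c4 LD2_c55 LD3_c33) Lrfl Lrfl
theorem f217530 : Led Lsl_bf (LP (LK LD1_c9 LD2_c42 LD3_c45)) = (LP (LK LD1_c10 LD2_c24 LD3_c8)) :=
  Lgr Lrot93 (Lpr_dt (f217529 IH) (Lpr_bt (f217528 IH) (Lpr_dt (f217525 IH) (Lpn (LP (LK LD1_c10 LD2_c24 LD3_c8))))))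
theorem f217535 : Led Lsl_ft (LP (LK LD1_c9 LD2_c42 LD3_c45)) = (LP (LK LD1_c4 LD2_c55 LD3_c32)) :=
  Lre_f IH (LK LD1_c9 LD2_c42 LD3_c45) (LK LD1_c4 LD2_c55 LD3_c32) Lrfl Lrfl
theorem f217536 : Led Lsl_bt (LP (LK LD1_c4 LD2_c55 LD3_c32)) = (LP (LK LD1_c5 LD2_c17 LD3_c16)) :=
  Lgr Lrot35 (Lpe (f217535 IH) (Lpr_bf (f217530 IH) (Lpe (f217511 IH) (Lpn (LP (LK LD1_c5 LD2_c17 LD3_c16))))))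
theorem f54530 : Led Lsl_dt (LP (LK LD1_c4 LD2_c6 LD3_c12)) = (LP (LK LD1_c2 LD2_c0 LD3_c25)) :=
  Lre_d IH (LK LD1_c4 LD2_c6 LD3_c12) (LK LD1_c2 LD2_c0 LD3_c25) Lrfl Lrfl
theorem f191096 : Led Lsl_bt (LP (LK LD1_c2 LD2_c35 LD3_c22)) = (LP (LK LD1_c4 LD2_c6 LD3_c12)) :=
  Lgr Lrot95 (Lpe (K10.f32087 IH) (Lpr_bf (K10.f191049 IH) (Lpe (f54530 IH) (Lpn (LP (LK LD1_c4 LD2_c6 LD3_c12))))))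
theorem f217544 : Led Lsl_ef (LP (LK LD1_c4 LD2_c55 LD3_c32)) = (LP (LK LD1_c4 LD2_c6 LD3_c12)) :=
  Lgr Lrot29 (Lpr_bt (f217536 IH) (Lpr_et (f49182 IH) (Lpr_bt (f191096 IH) (Lpn (LP (LK LD1_c4 LD2_c6 LD3_c12))))))
theorem f217553 : Led Lsl_et (LP (LK LD1_c4 LD2_c55 LD3_c32)) = (LP (LK LD1_c4 LD2_c6 LD3_c12)) :=
  Lgr Lrot87 (Lpr_ef (f217544 IH) (Lpn (LP (LK LD1_c4 LD2_c6 LD3_c12))))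
theorem f217501 : Led Lsl_bt (LP (LK LD1_c2 LD2_c25 LD3_c37)) = (LP (LK LD1_c4 LD2_c55 LD3_c26)) :=
  Lre_b IH (LK LD1_c2 LD2_c25 LD3_c37) (LK LD1_c4 LD2_c55 LD3_c26) Lrfl Lrfl
theorem f217502 : Led Lsl_dt (LP (LK LD1_c4 LD2_c55 LD3_c32)) = (LP (LK LD1_c2 LD2_c25 LD3_c37)) :=
  Lre_d IH (LK LD1_c4 LD2_c55 LD3_c32) (LK LD1_c2 LD2_c25 LD3_c37) Lrfl Lrfl
theorem f217503 : Led Lsl_bf (LP (LK LD1_c4 LD2_c55 LD3_c32)) = (LP (LK LD1_c5 LD2_c17 LD3_c16)) :=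
  Lgr Lrot93 (Lpr_dt (f217502 IH) (Lpr_bt (f217501 IH) (Lpr_dt (f217499 IH) (Lpn (LP (LK LD1_c5 LD2_c17 LD3_c16))))))
theorem f54044 : Led Lsl_et (LP (LK LD1_c2 LD2_c35 LD3_c22)) = (LP (LK LD1_c5 LD2_c17 LD3_c16)) :=
  Lre_e IH (LK LD1_c2 LD2_c35 LD3_c22) (LK LD1_c5 LD2_c17 LD3_c16) Lrfl Lrfl
theorem f217558 : Led Lsl_bf (LP (LK LD1_c2 LD2_c35 LD3_c22)) = (LP (LK LD1_c4 LD2_c6 LD3_c12)) :=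
  Lgr Lrot96 (Lpr_et (f54044 IH) (Lpe (f217503 IH) (Lpr_et (f217553 IH) (Lpn (LP (LK LD1_c4 LD2_c6 LD3_c12))))))
theorem f182212 : Led Lsl_ct (LP (LK LD1_c4 LD2_c6 LD3_c12)) = (LP (LK LD1_c8 LD2_c13 LD3_c2)) :=
  Lre_c IH (LK LD1_c4 LD2_c6 LD3_c12) (LK LD1_c8 LD2_c13 LD3_c2) Lrfl Lrfl
theorem f263482 : Led Lsl_gt (LP (LK LD1_c10 LD2_c35 LD3_c44)) = (LP (LK LD1_c8 LD2_c13 LD3_c2)) :=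
  Lgr Lrot65 (Lpe (f257993 IH) (Lpe (f263240 IH) (Lpr_gf (f216176 IH) (Lpr_bf (K10.f189814 IH) (Lpr_ct (K10.f49109 IH) (Lpr_gf (f263475 IH) (Lpe (f260275 IH) (Lpe (K10.f48235 IH) (Lpr_bf (f217558 IH) (Lpr_ct (f182212 IH) (Lpn (LP (LK LD1_c8 LD2_c13 LD3_c2)))))))))))))
theorem f257994 : Led Lsl_ct (LP (LK LD1_c10 LD2_c35 LD3_c44)) = (LP (LK LD1_c5 LD2_c22 LD3_c43)) :=
  Lre_c IH (LK LD1_c10 LD2_c35 LD3_c44) (LK LD1_c5 LD2_c22 LD3_c43) Lrfl Lrfl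
theorem f182526 : Led Lsl_dt (LP (LK LD1_c8 LD2_c13 LD3_c2)) = (LP (LK LD1_c15 LD2_c27 LD3_c27)) :=
  Lre_d IH (LK LD1_c8 LD2_c13 LD3_c2) (LK LD1_c15 LD2_c27 LD3_c27) Lrfl Lrfl
theorem f263508 : Led Lsl_gf (LP (LK LD1_c16 LD2_c12 LD3_c57)) = (LP (LK LD1_c15 LD2_c27 LD3_c27)) :=
  Lgr Lrot143 (Lpr_dt (f28686 IH) (Lpe (K10.f28694 IH) (Lpe (K9.f28693 IH) (Lpe (K9.f182089 IH) (Lpe (f182097 IH) (Lpe (f257991 IH) (Lpe (f257994 IH) (Lpr_gt (f263482 IH) (Lpr_dt (f182526 IH) (Lpn (LP (LK LD1_c15 LD2_c27 LD3_c27))))))))))))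
theorem f42533 : Led Lsl_dt (LP (LK LD1_c6 LD2_c4 LD3_c28)) = (LP (LK LD1_c11 LD2_c52 LD3_c25)) :=
  Lre_d IH (LK LD1_c6 LD2_c4 LD3_c28) (LK LD1_c11 LD2_c52 LD3_c25) Lrfl Lrfl
theorem f265119 : Led Lsl_cf (LP (LK LD1_c15 LD2_c27 LD3_c27)) = (LP (LK LD1_c11 LD2_c52 LD3_c36)) :=
  Lgr Lrot166 (Lpe (f263508 IH) (Lpr_dt (f28686 IH) (Lpr_gt (K13.f216109 IH) (Lpr_dt (f214079 IH) (Lpr_ct (f265109 IH) (Lpe (f42533 IH) (Lpe (K9.f42505 IH) (Lpe (f42508 IH) (Lpe (f195315 IH) (Lpn (LP (LK LD1_c11 LD2_c52 LD3_c36))))))))))))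
theorem f265121 : Led Lsl_ct (LP (LK LD1_c15 LD2_c27 LD3_c27)) = (LP (LK LD1_c11 LD2_c52 LD3_c36)) :=
  Lgr Lrot59 (Lpr_cf (f265119 IH) (Lpn (LP (LK LD1_c11 LD2_c52 LD3_c36))))
theorem f182532 : Led Lsl_ct (LP (LK LD1_c8 LD2_c13 LD3_c2)) = (LP (LK LD1_c4 LD2_c6 LD3_c12)) :=
  Lre_c IH (LK LD1_c8 LD2_c13 LD3_c2) (LK LD1_c4 LD2_c6 LD3_c12) Lrfl Lrfl
theorem f182533 : Led Lsl_dt (LP (LK LD1_c15 LD2_c27 LD3_c27)) = (LP (LK LD1_c8 LD2_c13 LD3_c2)) :=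
  Lre_d IH (LK LD1_c15 LD2_c27 LD3_c27) (LK LD1_c8 LD2_c13 LD3_c2) Lrfl Lrfl
theorem f216111 : Led Lsl_gt (LP (LK LD1_c8 LD2_c29 LD3_c9)) = (LP (LK LD1_c15 LD2_c27 LD3_c27)) :=
  Lgr Lrot49 (Lpe (K12.f54388 IH) (Lpr_gf (K13.f214077 IH) (Lpe (K13.f213978 IH) (Lpe (K14.f214075 IH) (Lpr_dt (K10.f54526 IH) (Lpr_gt (K9.f54529 IH) (Lpr_dt (K10.f182211 IH) (Lpe (f182532 IH) (Lpe (f182533 IH) (Lpn (LP (LK LD1_c15 LD2_c27 LD3_c27))))))))))))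
theorem f54078 : Led Lsl_dt (LP (LK LD1_c8 LD2_c29 LD3_c9)) = (LP (LK LD1_c4 LD2_c15 LD3_c5)) :=
  Lre_d IH (LK LD1_c8 LD2_c29 LD3_c9) (LK LD1_c4 LD2_c15 LD3_c5) Lrfl Lrfl
theorem f187986 : Led Lsl_ct (LP (LK LD1_c8 LD2_c13 LD3_c4)) = (LP (LK LD1_c4 LD2_c6 LD3_c14)) :=
  Lre_c IH (LK LD1_c8 LD2_c13 LD3_c4) (LK LD1_c4 LD2_c6 LD3_c14) Lrfl Lrfl
theorem f177483 : Led Lsl_dt (LP (LK LD1_c4 LD2_c6 LD3_c42)) = (LP (LK LD1_c8 LD2_c14 LD3_c2)) :=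
  Lre_d IH (LK LD1_c4 LD2_c6 LD3_c42) (LK LD1_c8 LD2_c14 LD3_c2) Lrfl Lrfl
theorem f265136 : Led Lsl_cf (LP (LK LD1_c8 LD2_c14 LD3_c2)) = (LP (LK LD1_c6 LD2_c4 LD3_c31)) :=
  Lgr Lrot99 (Lpe (f177483 IH) (Lpe (K10.f169134 IH) (Lpe (K10.f47901 IH) (Lpe (f187986 IH) (Lpe (K10.f187979 IH) (Lpe (f54078 IH) (Lpr_gt (f216111 IH) (Lpr_ct (f265121 IH) (Lpr_gt (f195315 IH) (Lpn (LP (LK LD1_c6 LD2_c4 LD3_c31))))))))))))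
theorem f265148 : Led Lsl_ft (LP (LK LD1_c8 LD2_c14 LD3_c2)) = (LP (LK LD1_c4 LD2_c6 LD3_c41)) :=
  Lre_f IH (LK LD1_c8 LD2_c14 LD3_c2) (LK LD1_c4 LD2_c6 LD3_c41) Lrfl Lrfl
theorem f182775 : Led Lsl_ct (LP (LK LD1_c4 LD2_c6 LD3_c41)) = (LP (LK LD1_c8 LD2_c14 LD3_c0)) :=
  Lre_c IH (LK LD1_c4 LD2_c6 LD3_c41) (LK LD1_c8 LD2_c14 LD3_c0) Lrfl Lrfl
theorem f265149 : Led Lsl_ft (LP (LK LD1_c8 LD2_c14 LD3_c0)) = (LP (LK LD1_c6 LD2_c4 LD3_c31)) :=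
  Lgr Lrot4 (Lpe (f182775 IH) (Lpe (f265148 IH) (Lpr_cf (f265136 IH) (Lpn (LP (LK LD1_c6 LD2_c4 LD3_c31))))))
theorem f265164 : Led Lsl_ff (LP (LK LD1_c8 LD2_c14 LD3_c0)) = (LP (LK LD1_c6 LD2_c4 LD3_c31)) :=
  Lgr Lrot3 (Lpr_ft (f265149 IH) (Lpn (LP (LK LD1_c6 LD2_c4 LD3_c31))))
theorem f265140 : Led Lsl_at (LP (LK LD1_c2 LD2_c58 LD3_c48)) = (LP (LK LD1_c6 LD2_c4 LD3_c31)) :=
  Lre_a IH (LK LD1_c2 LD2_c58 LD3_c48) (LK LD1_c6 LD2_c4 LD3_c31) Lrfl Lrfl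
theorem f265203 : Led Lsl_ft (LP (LK LD1_c6 LD2_c5 LD3_c24)) = (LP (LK LD1_c2 LD2_c58 LD3_c48)) :=
  Lre_f IH (LK LD1_c6 LD2_c5 LD3_c24) (LK LD1_c2 LD2_c58 LD3_c48) Lrfl Lrfl
theorem f265204 : Led Lsl_at (LP (LK LD1_c8 LD2_c14 LD3_c0)) = (LP (LK LD1_c6 LD2_c5 LD3_c24)) :=
  Lgr Lrot66 (Lpr_ff (f265164 IH) (Lpe (f265140 IH) (Lpe (f265203 IH) (Lpn (LP (LK LD1_c6 LD2_c5 LD3_c24))))))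
theorem f183018 : Led Lsl_gt (LP (LK LD1_c6 LD2_c4 LD3_c31)) = (LP (LK LD1_c11 LD2_c52 LD3_c35)) :=
  Lre_g IH (LK LD1_c6 LD2_c4 LD3_c31) (LK LD1_c11 LD2_c52 LD3_c35) Lrfl Lrfl
theorem f265214 : Led Lsl_gf (LP (LK LD1_c6 LD2_c5 LD3_c24)) = (LP (LK LD1_c11 LD2_c52 LD3_c35)) :=
  Lgr Lrot76 (Lpe (f265204 IH) (Lpr_ff (f265164 IH) (Lpr_gt (f183018 IH) (Lpn (LP (LK LD1_c11 LD2_c52 LD3_c35))))))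
theorem f8548 : Led Lsl_dt (LP (LK LD1_c6 LD2_c5 LD3_c24)) = (LP (LK LD1_c2 LD2_c58 LD3_c49)) :=
  Lre_d IH (LK LD1_c6 LD2_c5 LD3_c24) (LK LD1_c2 LD2_c58 LD3_c49) Lrfl Lrfl
theorem f42525 : Led Lsl_dt (LP (LK LD1_c6 LD2_c4 LD3_c29)) = (LP (LK LD1_c11 LD2_c52 LD3_c28)) :=
  Lre_d IH (LK LD1_c6 LD2_c4 LD3_c29) (LK LD1_c11 LD2_c52 LD3_c28) Lrfl Lrfl
theorem f182527 : Led Lsl_dt (LP (LK LD1_c4 LD2_c5 LD3_c7)) = (LP (LK LD1_c1 LD2_c59 LD3_c44)) :=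
  Lre_d IH (LK LD1_c4 LD2_c5 LD3_c7) (LK LD1_c1 LD2_c59 LD3_c44) Lrfl Lrfl
theorem f182528 : Led Lsl_ct (LP (LK LD1_c8 LD2_c11 LD3_c1)) = (LP (LK LD1_c4 LD2_c5 LD3_c7)) :=
  Lre_c IH (LK LD1_c8 LD2_c11 LD3_c1) (LK LD1_c4 LD2_c5 LD3_c7) Lrfl Lrfl
theorem f214061 : Led Lsl_ct (LP (LK LD1_c6 LD2_c4 LD3_c29)) = (LP (LK LD1_c4 LD2_c54 LD3_c52)) :=
  Lgr Lrot59 (Lpr_cf (K12.f214055 IH) (Lpn (LP (LK LD1_c4 LD2_c54 LD3_c52))))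
theorem f42510 : Led Lsl_dt (LP (LK LD1_c2 LD2_c58 LD3_c26)) = (LP (LK LD1_c6 LD2_c4 LD3_c31)) :=
  Lre_d IH (LK LD1_c2 LD2_c58 LD3_c26) (LK LD1_c6 LD2_c4 LD3_c31) Lrfl Lrfl
theorem f216290 : Led Lsl_df (LP (LK LD1_c8 LD2_c11 LD3_c1)) = (LP (LK LD1_c11 LD2_c52 LD3_c35)) :=
  Lgr Lrot84 (Lpe (f182535 IH) (Lpe (K13.f182534 IH) (Lpe (K10.f191098 IH) (Lpe (K9.f47790 IH) (Lpr_gf (K12.f214070 IH) (Lpe (f214061 IH) (Lpr_gt (K12.f190973 IH) (Lpr_dt (f42510 IH) (Lpr_gt (f183018 IH) (Lpn (LP (LK LD1_c11 LD2_c52 LD3_c35))))))))))))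
theorem f264862 : Led Lsl_cf (LP (LK LD1_c5 LD2_c15 LD3_c33)) = (LP (LK LD1_c10 LD2_c3 LD3_c32)) :=
  Lgr Lrot11 (Lpr_ct (f264860 IH) (Lpn (LP (LK LD1_c10 LD2_c3 LD3_c32))))
theorem f47936 : Led Lsl_dt (LP (LK LD1_c2 LD2_c0 LD3_c26)) = (LP (LK LD1_c4 LD2_c6 LD3_c13)) :=
  Lre_d IH (LK LD1_c2 LD2_c0 LD3_c26) (LK LD1_c4 LD2_c6 LD3_c13) Lrfl Lrfl
theorem f175308 : Led Lsl_ct (LP (LK LD1_c4 LD2_c6 LD3_c13)) = (LP (LK LD1_c8 LD2_c13 LD3_c3)) :=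
  Lre_c IH (LK LD1_c4 LD2_c6 LD3_c13) (LK LD1_c8 LD2_c13 LD3_c3) Lrfl Lrfl
theorem f187990 : Led Lsl_dt (LP (LK LD1_c8 LD2_c13 LD3_c3)) = (LP (LK LD1_c15 LD2_c27 LD3_c29)) :=
  Lre_d IH (LK LD1_c8 LD2_c13 LD3_c3) (LK LD1_c15 LD2_c27 LD3_c29) Lrfl Lrfl
theorem f265134 : Led Lsl_cf (LP (LK LD1_c11 LD2_c52 LD3_c35)) = (LP (LK LD1_c15 LD2_c27 LD3_c29)) :=
  Lgr Lrot55 (Lpe (f216290 IH) (Lpr_ct (f182528 IH) (Lpr_dt (f182527 IH) (Lpe (K9.f182520 IH) (Lpr_dt (K10.f182211 IH) (Lpr_ct (f182212 IH) (Lpr_dt (f182526 IH) (Lpr_ct (f265121 IH) (Lpr_dt (f264864 IH) (Lpe (f264862 IH) (Lpr_dt (K14.f190972 IH) (Lpr_ct (K10.f190968 IH) (Lpr_dt (f47936 IH) (Lpr_ct (f175308 IH) (Lpr_dt (f187990 IH) (Lpn (LP (LK LD1_c15 LD2_c27 LD3_c29))))))))))))))))))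
theorem f28695 : Led Lsl_dt (LP (LK LD1_c8 LD2_c39 LD3_c28)) = (LP (LK LD1_c16 LD2_c12 LD3_c57)) :=
  Lre_d IH (LK LD1_c8 LD2_c39 LD3_c28) (LK LD1_c16 LD2_c12 LD3_c57) Lrfl Lrfl
theorem f187981 : Led Lsl_ct (LP (LK LD1_c8 LD2_c13 LD3_c3)) = (LP (LK LD1_c4 LD2_c6 LD3_c13)) :=
  Lre_c IH (LK LD1_c8 LD2_c13 LD3_c3) (LK LD1_c4 LD2_c6 LD3_c13) Lrfl Lrfl
theorem f187982 : Led Lsl_dt (LP (LK LD1_c15 LD2_c27 LD3_c29)) = (LP (LK LD1_c8 LD2_c13 LD3_c3)) :=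
  Lre_d IH (LK LD1_c15 LD2_c27 LD3_c29) (LK LD1_c8 LD2_c13 LD3_c3) Lrfl Lrfl
theorem f187983 : Led Lsl_gt (LP (LK LD1_c16 LD2_c12 LD3_c57)) = (LP (LK LD1_c15 LD2_c27 LD3_c29)) :=
  Lgr Lrot49 (Lpe (f28695 IH) (Lpr_gf (K10.f187977 IH) (Lpe (K10.f182537 IH) (Lpr_gt (K10.f47901 IH) (Lpr_dt (K10.f47884 IH) (Lpr_gt (K10.f47935 IH) (Lpr_dt (f47936 IH) (Lpe (f187981 IH) (Lpe (f187982 IH) (Lpn (LP (LK LD1_c15 LD2_c27 LD3_c29))))))))))))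
theorem f28687 : Led Lsl_ft (LP (LK LD1_c16 LD2_c12 LD3_c57)) = (LP (LK LD1_c8 LD2_c39 LD3_c27)) :=
  Lre_f IH (LK LD1_c16 LD2_c12 LD3_c57) (LK LD1_c8 LD2_c39 LD3_c27) Lrfl Lrfl
theorem f187995 : Led Lsl_gf (LP (LK LD1_c8 LD2_c29 LD3_c9)) = (LP (LK LD1_c15 LD2_c27 LD3_c29)) :=
  Lgr Lrot76 (Lpe (K12.f54400 IH) (Lpe (f28687 IH) (Lpr_gt (f187983 IH) (Lpn (LP (LK LD1_c15 LD2_c27 LD3_c29))))))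
theorem f187987 : Led Lsl_dt (LP (LK LD1_c8 LD2_c13 LD3_c4)) = (LP (LK LD1_c15 LD2_c27 LD3_c31)) :=
  Lre_d IH (LK LD1_c8 LD2_c13 LD3_c4) (LK LD1_c15 LD2_c27 LD3_c31) Lrfl Lrfl
theorem f265216 : Led Lsl_ct (LP (LK LD1_c11 LD2_c52 LD3_c28)) = (LP (LK LD1_c15 LD2_c27 LD3_c31)) :=
  Lgr Lrot7 (Lpe (f42525 IH) (Lpe (K12.f8524 IH) (Lpe (f8548 IH) (Lpr_gf (f265214 IH) (Lpr_cf (f265134 IH) (Lpe (f187995 IH) (Lpr_dt (f54078 IH) (Lpr_gt (K10.f187979 IH) (Lpr_dt (f187987 IH) (Lpn (LP (LK LD1_c15 LD2_c27 LD3_c31))))))))))))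
theorem f194635 : Led Lsl_dt (LP (LK LD1_c10 LD2_c35 LD3_c46)) = (LP (LK LD1_c5 LD2_c22 LD3_c44)) :=
  Lre_d IH (LK LD1_c10 LD2_c35 LD3_c46) (LK LD1_c5 LD2_c22 LD3_c44) Lrfl Lrfl
theorem f200615 : Led Lsl_cf (LP (LK LD1_c1 LD2_c15 LD3_c61)) = (LP (LK LD1_c2 LD2_c6 LD3_c58)) :=
  Lgr Lrot11 (Lpr_ct (K14.f200610 IH) (Lpn (LP (LK LD1_c2 LD2_c6 LD3_c58))))
theorem f194639 : Led Lsl_ct (LP (LK LD1_c5 LD2_c22 LD3_c44)) = (LP (LK LD1_c2 LD2_c37 LD3_c54)) :=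
  Lre_c IH (LK LD1_c5 LD2_c22 LD3_c44) (LK LD1_c2 LD2_c37 LD3_c54) Lrfl Lrfl
theorem f256122 : Led Lsl_gt (LP (LK LD1_c4 LD2_c6 LD3_c42)) = (LP (LK LD1_c5 LD2_c22 LD3_c44)) :=
  Lgr Lrot150 (Lpe (K10.f169134 IH) (Lpe (K10.f47901 IH) (Lpe (K14.f222000 IH) (Lpr_gt (K14.f256117 IH) (Lpe (f200615 IH) (Lpr_gt (K14.f42501 IH) (Lpr_ct (f42526 IH) (Lpe (K13.f42527 IH) (Lpe (f194639 IH) (Lpn (LP (LK LD1_c5 LD2_c22 LD3_c44))))))))))))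
theorem f194636 : Led Lsl_dt (LP (LK LD1_c5 LD2_c22 LD3_c44)) = (LP (LK LD1_c10 LD2_c35 LD3_c46)) :=
  Lre_d IH (LK LD1_c5 LD2_c22 LD3_c44) (LK LD1_c10 LD2_c35 LD3_c46) Lrfl Lrfl
theorem f230913 : Led Lsl_dt (LP (LK LD1_c15 LD2_c27 LD3_c53)) = (LP (LK LD1_c8 LD2_c13 LD3_c17)) :=
  Lre_d IH (LK LD1_c15 LD2_c27 LD3_c53) (LK LD1_c8 LD2_c13 LD3_c17) Lrfl Lrfl
theorem f265057 : Led Lsl_gt (LP (LK LD1_c10 LD2_c35 LD3_c46)) = (LP (LK LD1_c15 LD2_c27 LD3_c53)) :=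
  Lgr Lrot49 (Lpe (f194636 IH) (Lpe (f256122 IH) (Lpe (K10.f169134 IH) (Lpr_gt (K12.f214072 IH) (Lpr_dt (K12.f213915 IH) (Lpr_gt (f265050 IH) (Lpe (K14.f250451 IH) (Lpe (f230911 IH) (Lpe (f230913 IH) (Lpn (LP (LK LD1_c15 LD2_c27 LD3_c53))))))))))))
theorem f265278 : Led Lsl_gf (LP (LK LD1_c11 LD2_c52 LD3_c28)) = (LP (LK LD1_c10 LD2_c37 LD3_c9)) :=
  Lgr Lrot104 (Lpr_ct (f265216 IH) (Lpe (f187987 IH) (Lpe (K10.f182537 IH) (Lpe (K10.f55007 IH) (Lpe (f54518 IH) (Lpr_gf (f194633 IH) (Lpe (f194635 IH) (Lpr_gt (f265057 IH) (Lpr_ct (K14.f256233 IH) (Lpn (LP (LK LD1_c10 LD2_c37 LD3_c9))))))))))))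
theorem f214067 : Led Lsl_dt (LP (LK LD1_c11 LD2_c52 LD3_c28)) = (LP (LK LD1_c6 LD2_c4 LD3_c29)) :=
  Lre_d IH (LK LD1_c11 LD2_c52 LD3_c28) (LK LD1_c6 LD2_c4 LD3_c29) Lrfl Lrfl
theorem f223728 : Led Lsl_dt (LP (LK LD1_c8 LD2_c9 LD3_c59)) = (LP (LK LD1_c4 LD2_c4 LD3_c31)) :=
  Lre_d IH (LK LD1_c8 LD2_c9 LD3_c59) (LK LD1_c4 LD2_c4 LD3_c31) Lrfl Lrfl
theorem f200620 : Led Lsl_dt (LP (LK LD1_c5 LD2_c23 LD3_c19)) = (LP (LK LD1_c10 LD2_c37 LD3_c9)) :=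
  Lre_d IH (LK LD1_c5 LD2_c23 LD3_c19) (LK LD1_c10 LD2_c37 LD3_c9) Lrfl Lrfl
theorem f265282 : Led Lsl_gf (LP (LK LD1_c8 LD2_c9 LD3_c59)) = (LP (LK LD1_c4 LD2_c6 LD3_c28)) :=
  Lgr Lrot144 (Lpr_dt (f223728 IH) (Lpe (K13.f232867 IH) (Lpr_dt (K12.f214054 IH) (Lpe (f214061 IH) (Lpe (f214067 IH) (Lpr_gf (f265278 IH) (Lpe (f200620 IH) (Lpr_gf (f259590 IH) (Lpe (f187768 IH) (Lpn (LP (LK LD1_c4 LD2_c6 LD3_c28))))))))))))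
theorem f191778 : Led Lsl_gt (LP (LK LD1_c2 LD2_c29 LD3_c45)) = (LP (LK LD1_c5 LD2_c4 LD3_c49)) :=
  Lre_g IH (LK LD1_c2 LD2_c29 LD3_c45) (LK LD1_c5 LD2_c4 LD3_c49) Lrfl Lrfl
theorem f212262 : Led Lsl_ct (LP (LK LD1_c5 LD2_c4 LD3_c49)) = (LP (LK LD1_c10 LD2_c0 LD3_c41)) :=
  Lre_c IH (LK LD1_c5 LD2_c4 LD3_c49) (LK LD1_c10 LD2_c0 LD3_c41) Lrfl Lrfl
theorem f212263 : Led Lsl_gt (LP (LK LD1_c10 LD2_c0 LD3_c41)) = (LP (LK LD1_c8 LD2_c10 LD3_c53)) :=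
  Lgr Lrot150 (Lpe (f212262 IH) (Lpe (f191778 IH) (Lpe (K11.f191777 IH) (Lpr_gt (K12.f183817 IH) (Lpr_ct (K10.f51047 IH) (Lpe (K12.f51285 IH) (Lpr_ct (K12.f212254 IH) (Lpe (f46245 IH) (Lpe (f187803 IH) (Lpn (LP (LK LD1_c8 LD2_c10 LD3_c53))))))))))))
theorem f212282 : Led Lsl_bt (LP (LK LD1_c1 LD2_c11 LD3_c57)) = (LP (LK LD1_c2 LD2_c29 LD3_c45)) :=
  Lre_b IH (LK LD1_c1 LD2_c11 LD3_c57) (LK LD1_c2 LD2_c29 LD3_c45) Lrfl Lrfl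
theorem f201315 : Led Lsl_gt (LP (LK LD1_c5 LD2_c4 LD3_c59)) = (LP (LK LD1_c2 LD2_c29 LD3_c48)) :=
  Lre_g IH (LK LD1_c5 LD2_c4 LD3_c59) (LK LD1_c2 LD2_c29 LD3_c48) Lrfl Lrfl
theorem f265291 : Led Lsl_ct (LP (LK LD1_c4 LD2_c4 LD3_c32)) = (LP (LK LD1_c5 LD2_c4 LD3_c59)) :=
  Lgr Lrot64 (Lpr_bt (K14.f239460 IH) (Lpr_gf (f265282 IH) (Lpr_bf (f187799 IH) (Lpr_ct (f55607 IH) (Lpe (f212263 IH) (Lpe (f212262 IH) (Lpe (f191778 IH) (Lpe (f212282 IH) (Lpr_ct (K14.f31643 IH) (Lpe (f201315 IH) (Lpn (LP (LK LD1_c5 LD2_c4 LD3_c59)))))))))))))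
theorem f212251 : Led Lsl_ct (LP (LK LD1_c5 LD2_c15 LD3_c0)) = (LP (LK LD1_c10 LD2_c19 LD3_c28)) :=
  Lre_c IH (LK LD1_c5 LD2_c15 LD3_c0) (LK LD1_c10 LD2_c19 LD3_c28) Lrfl Lrfl
theorem f263480 : Led Lsl_bt (LP (LK LD1_c5 LD2_c15 LD3_c0)) = (LP (LK LD1_c4 LD2_c6 LD3_c20)) :=
  Lgr Lrot22 (Lpr_ct (f212251 IH) (Lpe (f216172 IH) (Lpe (f216171 IH) (Lpr_gf (f216176 IH) (Lpr_bf (K10.f189814 IH) (Lpr_ct (K10.f49109 IH) (Lpr_gf (f263475 IH) (Lpe (f260275 IH) (Lpe (K14.f192297 IH) (Lpe (K14.f183627 IH) (Lpn (LP (LK LD1_c4 LD2_c6 LD3_c20)))))))))))))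
theorem f257156 : Led Lsl_gf (LP (LK LD1_c5 LD2_c25 LD3_c50)) = (LP (LK LD1_c10 LD2_c19 LD3_c28)) :=
  Lgr Lrot147 (Lpr_ct (f237834 IH) (Lpr_gt (f257153 IH) (Lpr_ct (K14.f45146 IH) (Lpe (K14.f45145 IH) (Lpr_cf (K14.f252234 IH) (Lpr_gf (K14.f190900 IH) (Lpr_cf (K1.f45249 IH) (Lpe (K14.f45643 IH) (Lpr_df (f216160 IH) (Lpn (LP (LK LD1_c10 LD2_c19 LD3_c28))))))))))))
theorem f192636 : Led Lsl_bt (LP (LK LD1_c2 LD2_c29 LD3_c45)) = (LP (LK LD1_c1 LD2_c11 LD3_c57)) :=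
  Lre_b IH (LK LD1_c2 LD2_c29 LD3_c45) (LK LD1_c1 LD2_c11 LD3_c57) Lrfl Lrfl
theorem f237813 : Led Lsl_ct (LP (LK LD1_c2 LD2_c29 LD3_c45)) = (LP (LK LD1_c5 LD2_c4 LD3_c51)) :=
  Lre_c IH (LK LD1_c2 LD2_c29 LD3_c45) (LK LD1_c5 LD2_c4 LD3_c51) Lrfl Lrfl
theorem f178452 : Led Lsl_ct (LP (LK LD1_c2 LD2_c44 LD3_c27)) = (LP (LK LD1_c5 LD2_c37 LD3_c4)) :=
  Lre_c IH (LK LD1_c2 LD2_c44 LD3_c27) (LK LD1_c5 LD2_c37 LD3_c4) Lrfl Lrfl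
theorem f237814 : Led Lsl_gf (LP (LK LD1_c5 LD2_c4 LD3_c51)) = (LP (LK LD1_c5 LD2_c37 LD3_c4)) :=
  Lgr Lrot126 (Lpe (f237813 IH) (Lpr_bt (f192636 IH) (Lpr_gt (K10.f31632 IH) (Lpr_ct (K13.f31633 IH) (Lpe (K13.f192351 IH) (Lpe (K13.f182032 IH) (Lpr_bt (f191291 IH) (Lpr_gt (f237809 IH) (Lpe (K14.f178449 IH) (Lpr_ct (f178452 IH) (Lpn (LP (LK LD1_c5 LD2_c37 LD3_c4)))))))))))))
theorem f192363 : Led Lsl_ct (LP (LK LD1_c5 LD2_c4 LD3_c51)) = (LP (LK LD1_c2 LD2_c29 LD3_c45)) :=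
  Lre_c IH (LK LD1_c5 LD2_c4 LD3_c51) (LK LD1_c2 LD2_c29 LD3_c45) Lrfl Lrfl
theorem f46215 : Led Lsl_dt (LP (LK LD1_c0 LD2_c56 LD3_c49)) = (LP (LK LD1_c1 LD2_c59 LD3_c49)) :=
  Lre_d IH (LK LD1_c0 LD2_c56 LD3_c49) (LK LD1_c1 LD2_c59 LD3_c49) Lrfl Lrfl
theorem f237825 : Led Lsl_gt (LP (LK LD1_c1 LD2_c59 LD3_c49)) = (LP (LK LD1_c2 LD2_c44 LD3_c27)) :=
  Lgr Lrot9 (Lpe (f46215 IH) (Lpr_gt (K10.f47419 IH) (Lpr_ct (K9.f47191 IH) (Lpr_gt (K10.f192357 IH) (Lpr_ct (K11.f31635 IH) (Lpe (f192362 IH) (Lpe (f192363 IH) (Lpr_gf (f237814 IH) (Lpe (f178452 IH) (Lpn (LP (LK LD1_c2 LD2_c44 LD3_c27))))))))))))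
theorem f237830 : Led Lsl_bf (LP (LK LD1_c2 LD2_c29 LD3_c46)) = (LP (LK LD1_c2 LD2_c39 LD3_c18)) :=
  Lgr Lrot34 (Lpe (K10.f31632 IH) (Lpe (f192636 IH) (Lpr_ct (f237813 IH) (Lpr_gf (f237814 IH) (Lpe (f178452 IH) (Lpe (f237825 IH) (Lpe (f188094 IH) (Lpr_ct (f188095 IH) (Lpr_gf (f192465 IH) (Lpe (f192464 IH) (Lpn (LP (LK LD1_c2 LD2_c39 LD3_c18)))))))))))))
theorem f164160 : Led Lsl_dt (LP (LK LD1_c2 LD2_c7 LD3_c43)) = (LP (LK LD1_c1 LD2_c0 LD3_c58)) :=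
  Lre_d IH (LK LD1_c2 LD2_c7 LD3_c43) (LK LD1_c1 LD2_c0 LD3_c58) Lrfl Lrfl
theorem f240744 : Led Lsl_gf (LP (LK LD1_c2 LD2_c7 LD3_c43)) = (LP (LK LD1_c2 LD2_c29 LD3_c46)) :=
  Lgr Lrot143 (Lpr_dt (f164160 IH) (Lpe (K10.f164134 IH) (Lpe (K12.f36223 IH) (Lpe (K12.f204911 IH) (Lpr_df (K13.f201322 IH) (Lpe (K13.f210629 IH) (Lpe (K11.f170648 IH) (Lpr_gt (K13.f240737 IH) (Lpe (K10.f192592 IH) (Lpn (LP (LK LD1_c2 LD2_c29 LD3_c46))))))))))))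
theorem f192331 : Led Lsl_ct (LP (LK LD1_c2 LD2_c7 LD3_c43)) = (LP (LK LD1_c4 LD2_c20 LD3_c30)) :=
  Lre_c IH (LK LD1_c2 LD2_c7 LD3_c43) (LK LD1_c4 LD2_c20 LD3_c30) Lrfl Lrfl
theorem f265310 : Led Lsl_gt (LP (LK LD1_c4 LD2_c20 LD3_c30)) = (LP (LK LD1_c5 LD2_c4 LD3_c59)) :=
  Lgr Lrot149 (Lpe (f192331 IH) (Lpr_gf (f240744 IH) (Lpr_bf (f237830 IH) (Lpr_ct (f192464 IH) (Lpr_gf (f257156 IH) (Lpe (f212251 IH) (Lpr_bt (f263480 IH) (Lpe (K14.f252142 IH) (Lpe (K14.f239460 IH) (Lpr_ct (f265291 IH) (Lpn (LP (LK LD1_c5 LD2_c4 LD3_c59)))))))))))))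
theorem f192256 : Led Lsl_ct (LP (LK LD1_c4 LD2_c6 LD3_c20)) = (LP (LK LD1_c8 LD2_c13 LD3_c15)) :=
  Lre_c IH (LK LD1_c4 LD2_c6 LD3_c20) (LK LD1_c8 LD2_c13 LD3_c15) Lrfl Lrfl
theorem f213996 : Led Lsl_ct (LP (LK LD1_c2 LD2_c25 LD3_c19)) = (LP (LK LD1_c1 LD2_c9 LD3_c56)) :=
  Lre_c IH (LK LD1_c2 LD2_c25 LD3_c19) (LK LD1_c1 LD2_c9 LD3_c56) Lrfl Lrfl
theorem f250455 : Led Lsl_cf (LP (LK LD1_c1 LD2_c15 LD3_c18)) = (LP (LK LD1_c2 LD2_c25 LD3_c4)) :=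
  Lgr Lrot14 (Lpe (K14.f249225 IH) (Lpe (K14.f250432 IH) (Lpe (K14.f42121 IH) (Lpe (K9.f42120 IH) (Lpe (K10.f187773 IH) (Lpr_gt (K9.f54977 IH) (Lpr_dt (K14.f187400 IH) (Lpr_gt (K14.f187405 IH) (Lpr_dt (K14.f250435 IH) (Lpn (LP (LK LD1_c2 LD2_c25 LD3_c4))))))))))))
theorem f249316 : Led Lsl_ct (LP (LK LD1_c5 LD2_c19 LD3_c54)) = (LP (LK LD1_c2 LD2_c36 LD3_c37)) :=
  Lre_c IH (LK LD1_c5 LD2_c19 LD3_c54) (LK LD1_c2 LD2_c36 LD3_c37) Lrfl Lrfl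
theorem f265059 : Led Lsl_gt (LP (LK LD1_c8 LD2_c13 LD3_c15)) = (LP (LK LD1_c5 LD2_c19 LD3_c54)) :=
  Lgr Lrot150 (Lpe (f192256 IH) (Lpe (K14.f252142 IH) (Lpe (K14.f223726 IH) (Lpe (K13.f232867 IH) (Lpr_ct (f213996 IH) (Lpr_gt (f265050 IH) (Lpe (f250455 IH) (Lpe (K14.f249225 IH) (Lpe (f249316 IH) (Lpn (LP (LK LD1_c5 LD2_c19 LD3_c54))))))))))))
theorem f249231 : Led Lsl_ct (LP (LK LD1_c2 LD2_c36 LD3_c37)) = (LP (LK LD1_c5 LD2_c19 LD3_c54)) :=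
  Lre_c IH (LK LD1_c2 LD2_c36 LD3_c37) (LK LD1_c5 LD2_c19 LD3_c54) Lrfl Lrfl
theorem f249229 : Led Lsl_bf (LP (LK LD1_c2 LD2_c37 LD3_c21)) = (LP (LK LD1_c2 LD2_c36 LD3_c37)) :=
  Lgr Lrot24 (Lpr_bt (f249226 IH) (Lpn (LP (LK LD1_c2 LD2_c36 LD3_c37))))
theorem f265318 : Led Lsl_bt (LP (LK LD1_c2 LD2_c7 LD3_c43)) = (LP (LK LD1_c1 LD2_c15 LD3_c44)) :=
  Lgr Lrot92 (Lpr_ct (f192331 IH) (Lpr_gt (f265310 IH) (Lpe (f265291 IH) (Lpr_bt (K14.f239460 IH) (Lpr_gt (K14.f252142 IH) (Lpr_ct (f192256 IH) (Lpr_gt (f265059 IH) (Lpe (f249231 IH) (Lpe (f249229 IH) (Lpr_gt (K14.f195880 IH) (Lpn (LP (LK LD1_c1 LD2_c15 LD3_c44)))))))))))))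
theorem f265326 : Led Lsl_bf (LP (LK LD1_c2 LD2_c7 LD3_c43)) = (LP (LK LD1_c1 LD2_c15 LD3_c44)) :=
  Lgr Lrot24 (Lpr_bt (f265318 IH) (Lpn (LP (LK LD1_c1 LD2_c15 LD3_c44))))
theorem f265365 : Led Lsl_bt (LP (LK LD1_c1 LD2_c0 LD3_c58)) = (LP (LK LD1_c0 LD2_c35 LD3_c7)) :=
  Lgr Lrot95 (Lpe (f164160 IH) (Lpr_bf (f265326 IH) (Lpe (K14.f41526 IH) (Lpn (LP (LK LD1_c0 LD2_c35 LD3_c7))))))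
theorem f255252 : Led Lsl_ff (LP (LK LD1_c1 LD2_c0 LD3_c58)) = (LP (LK LD1_c1 LD2_c0 LD3_c49)) :=
  Lgr Lrot23 (Lpr_ct (K10.f164159 IH) (Lpr_ft (K14.f255248 IH) (Lpr_ct (K10.f32073 IH) (Lpn (LP (LK LD1_c1 LD2_c0 LD3_c49))))))
theorem f265369 : Led Lsl_ff (LP (LK LD1_c1 LD2_c12 LD3_c60)) = (LP (LK LD1_c0 LD2_c35 LD3_c7)) :=
  Lgr Lrot25 (Lpe (K13.f190993 IH) (Lpe (f255252 IH) (Lpr_bt (f265365 IH) (Lpn (LP (LK LD1_c0 LD2_c35 LD3_c7))))))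
theorem f265379 : Led Lsl_at (LP (LK LD1_c1 LD2_c12 LD3_c60)) = (LP (LK LD1_c0 LD2_c35 LD3_c6)) :=
  Lgr Lrot26 (Lpr_ff (f265369 IH) (Lpr_gt (K10.f8482 IH) (Lpr_gt (K10.f8397 IH) (Lpn (LP (LK LD1_c0 LD2_c35 LD3_c6))))))
theorem f44615 : Led Lsl_et (LP (LK LD1_c0 LD2_c35 LD3_c6)) = (LP (LK LD1_c1 LD2_c15 LD3_c43)) :=
  Lre_e IH (LK LD1_c0 LD2_c35 LD3_c6) (LK LD1_c1 LD2_c15 LD3_c43) Lrfl Lrfl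
theorem f265387 : Led Lsl_af (LP (LK LD1_c2 LD2_c6 LD3_c4)) = (LP (LK LD1_c1 LD2_c15 LD3_c43)) :=
  Lgr Lrot50 (Lpe (K14.f253434 IH) (Lpr_at (f265379 IH) (Lpr_et (f44615 IH) (Lpn (LP (LK LD1_c1 LD2_c15 LD3_c43))))))
theorem f265396 : Led Lsl_ft (LP (LK LD1_c2 LD2_c6 LD3_c3)) = (LP (LK LD1_c1 LD2_c15 LD3_c43)) :=
  Lgr Lrot2 (Lpr_gt (K14.f246149 IH) (Lpr_gt (K14.f246158 IH) (Lpr_af (f265387 IH) (Lpn (LP (LK LD1_c1 LD2_c15 LD3_c43))))))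
theorem f265402 : Led Lsl_ff (LP (LK LD1_c2 LD2_c6 LD3_c3)) = (LP (LK LD1_c1 LD2_c15 LD3_c43)) :=
  Lgr Lrot3 (Lpr_ft (f265396 IH) (Lpn (LP (LK LD1_c1 LD2_c15 LD3_c43))))
theorem f44639 : Led Lsl_df (LP (LK LD1_c1 LD2_c15 LD3_c43)) = (LP (LK LD1_c2 LD2_c10 LD3_c60)) :=
  Lgr Lrot38 (Lpr_dt (K11.f44594 IH) (Lpn (LP (LK LD1_c2 LD2_c10 LD3_c60))))
theorem f265406 : Led Lsl_ft (LP (LK LD1_c1 LD2_c2 LD3_c38)) = (LP (LK LD1_c2 LD2_c10 LD3_c60)) :=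
  Lgr Lrot54 (Lpe (K14.f247412 IH) (Lpr_ff (f265402 IH) (Lpr_df (f44639 IH) (Lpn (LP (LK LD1_c2 LD2_c10 LD3_c60))))))
theorem f265413 : Led Lsl_af (LP (LK LD1_c1 LD2_c2 LD3_c39)) = (LP (LK LD1_c2 LD2_c10 LD3_c60)) :=
  Lgr Lrot31 (Lpe (K12.f41555 IH) (Lpe (K12.f41558 IH) (Lpr_ft (f265406 IH) (Lpn (LP (LK LD1_c2 LD2_c10 LD3_c60))))))
theorem f223554 : Led Lsl_et (LP (LK LD1_c1 LD2_c2 LD3_c39)) = (LP (LK LD1_c2 LD2_c11 LD3_c17)) :=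
  Lre_e IH (LK LD1_c1 LD2_c2 LD3_c39) (LK LD1_c2 LD2_c11 LD3_c17) Lrfl Lrfl
theorem f41599 : Led Lsl_et (LP (LK LD1_c4 LD2_c27 LD3_c35)) = (LP (LK LD1_c2 LD2_c10 LD3_c60)) :=
  Lre_e IH (LK LD1_c4 LD2_c27 LD3_c35) (LK LD1_c2 LD2_c10 LD3_c60) Lrfl Lrfl
theorem f265417 : Led Lsl_at (LP (LK LD1_c2 LD2_c11 LD3_c17)) = (LP (LK LD1_c4 LD2_c27 LD3_c35)) :=
  Lgr Lrot80 (Lpe (f223554 IH) (Lpr_af (f265413 IH) (Lpe (f41599 IH) (Lpn (LP (LK LD1_c4 LD2_c27 LD3_c35))))))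
theorem f42321 : Led Lsl_dt (LP (LK LD1_c4 LD2_c28 LD3_c20)) = (LP (LK LD1_c2 LD2_c11 LD3_c17)) :=
  Lre_d IH (LK LD1_c4 LD2_c28 LD3_c20) (LK LD1_c2 LD2_c11 LD3_c17) Lrfl Lrfl
theorem f44624 : Led Lsl_et (LP (LK LD1_c2 LD2_c37 LD3_c24)) = (LP (LK LD1_c1 LD2_c15 LD3_c42)) :=
  Lre_e IH (LK LD1_c2 LD2_c37 LD3_c24) (LK LD1_c1 LD2_c15 LD3_c42) Lrfl Lrfl
theorem f44642 : Led Lsl_et (LP (LK LD1_c2 LD2_c10 LD3_c60)) = (LP (LK LD1_c4 LD2_c27 LD3_c35)) :=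
  Lre_e IH (LK LD1_c2 LD2_c10 LD3_c60) (LK LD1_c4 LD2_c27 LD3_c35) Lrfl Lrfl
theorem f44643 : Led Lsl_df (LP (LK LD1_c2 LD2_c37 LD3_c24)) = (LP (LK LD1_c4 LD2_c27 LD3_c35)) :=
  Lgr Lrot70 (Lpr_et (f44624 IH) (Lpr_dt (K14.f44641 IH) (Lpr_et (f44615 IH) (Lpr_dt (K11.f44594 IH) (Lpr_et (f44642 IH) (Lpn (LP (LK LD1_c4 LD2_c27 LD3_c35))))))))
theorem f265423 : Led Lsl_af (LP (LK LD1_c4 LD2_c28 LD3_c20)) = (LP (LK LD1_c2 LD2_c37 LD3_c24)) :=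
  Lgr Lrot117 (Lpr_dt (f42321 IH) (Lpr_at (f265417 IH) (Lpe (f44643 IH) (Lpn (LP (LK LD1_c2 LD2_c37 LD3_c24))))))
theorem f41556 : Led Lsl_et (LP (LK LD1_c2 LD2_c11 LD3_c17)) = (LP (LK LD1_c1 LD2_c2 LD3_c39)) :=
  Lre_e IH (LK LD1_c2 LD2_c11 LD3_c17) (LK LD1_c1 LD2_c2 LD3_c39) Lrfl Lrfl
theorem f187918 : Led Lsl_et (LP (LK LD1_c1 LD2_c57 LD3_c22)) = (LP (LK LD1_c4 LD2_c1 LD3_c8)) :=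
  Lre_e IH (LK LD1_c1 LD2_c57 LD3_c22) (LK LD1_c4 LD2_c1 LD3_c8) Lrfl Lrfl
theorem f223389 : Led Lsl_bf (LP (LK LD1_c2 LD2_c11 LD3_c17)) = (LP (LK LD1_c4 LD2_c1 LD3_c8)) :=
  Lgr Lrot96 (Lpr_et (f41556 IH) (Lpr_bt (K12.f223381 IH) (Lpr_et (f187918 IH) (Lpn (LP (LK LD1_c4 LD2_c1 LD3_c8))))))
theorem f223392 : Led Lsl_bt (LP (LK LD1_c2 LD2_c11 LD3_c17)) = (LP (LK LD1_c4 LD2_c1 LD3_c8)) :=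
  Lgr Lrot127 (Lpr_bf (f223389 IH) (Lpn (LP (LK LD1_c4 LD2_c1 LD3_c8))))
theorem f180220 : Led Lsl_et (LP (LK LD1_c4 LD2_c20 LD3_c3)) = (LP (LK LD1_c2 LD2_c7 LD3_c30)) :=
  Lre_e IH (LK LD1_c4 LD2_c20 LD3_c3) (LK LD1_c2 LD2_c7 LD3_c30) Lrfl Lrfl
theorem f187919 : Led Lsl_df (LP (LK LD1_c4 LD2_c20 LD3_c3)) = (LP (LK LD1_c4 LD2_c1 LD3_c8)) :=
  Lgr Lrot70 (Lpr_et (f180220 IH) (Lpr_dt (K11.f180219 IH) (Lpe (K13.f180113 IH) (Lpr_dt (K10.f187913 IH) (Lpr_et (f187918 IH) (Lpn (LP (LK LD1_c4 LD2_c1 LD3_c8))))))))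
theorem f223552 : Led Lsl_bf (LP (LK LD1_c4 LD2_c28 LD3_c20)) = (LP (LK LD1_c4 LD2_c20 LD3_c3)) :=
  Lgr Lrot93 (Lpr_dt (f42321 IH) (Lpr_bt (f223392 IH) (Lpe (f187919 IH) (Lpn (LP (LK LD1_c4 LD2_c20 LD3_c3))))))
theorem f180206 : Led Lsl_et (LP (LK LD1_c2 LD2_c7 LD3_c30)) = (LP (LK LD1_c4 LD2_c20 LD3_c3)) :=
  Lre_e IH (LK LD1_c2 LD2_c7 LD3_c30) (LK LD1_c4 LD2_c20 LD3_c3) Lrfl Lrfl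
theorem f190995 : Led Lsl_bt (LP (LK LD1_c2 LD2_c7 LD3_c30)) = (LP (LK LD1_c2 LD2_c31 LD3_c53)) :=
  Lgr Lrot95 (Lpe (K11.f180205 IH) (Lpr_bf (K13.f190993 IH) (Lpe (K14.f165487 IH) (Lpn (LP (LK LD1_c2 LD2_c31 LD3_c53))))))
theorem f190998 : Led Lsl_bf (LP (LK LD1_c2 LD2_c7 LD3_c30)) = (LP (LK LD1_c2 LD2_c31 LD3_c53)) :=
  Lgr Lrot24 (Lpr_bt (f190995 IH) (Lpn (LP (LK LD1_c2 LD2_c31 LD3_c53))))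
theorem f223558 : Led Lsl_et (LP (LK LD1_c4 LD2_c28 LD3_c20)) = (LP (LK LD1_c2 LD2_c31 LD3_c53)) :=
  Lgr Lrot74 (Lpr_bf (f223552 IH) (Lpe (f180206 IH) (Lpr_bf (f190998 IH) (Lpn (LP (LK LD1_c2 LD2_c31 LD3_c53))))))
theorem f44729 : Led Lsl_et (LP (LK LD1_c1 LD2_c15 LD3_c42)) = (LP (LK LD1_c2 LD2_c37 LD3_c24)) :=
  Lre_e IH (LK LD1_c1 LD2_c15 LD3_c42) (LK LD1_c2 LD2_c37 LD3_c24) Lrfl Lrfl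
theorem f265538 : Led Lsl_at (LP (LK LD1_c2 LD2_c31 LD3_c53)) = (LP (LK LD1_c1 LD2_c15 LD3_c42)) :=
  Lgr Lrot80 (Lpe (f223558 IH) (Lpr_af (f265423 IH) (Lpe (f44729 IH) (Lpn (LP (LK LD1_c1 LD2_c15 LD3_c42))))))
theorem f215447 : Led Lsl_gf (LP (LK LD1_c2 LD2_c37 LD3_c22)) = (LP (LK LD1_c1 LD2_c15 LD3_c44)) :=
  Lgr Lrot147 (Lpr_ct (K14.f215431 IH) (Lpr_gt (K14.f215432 IH) (Lpr_ct (K14.f187870 IH) (Lpe (K14.f27739 IH) (Lpe (K10.f190352 IH) (Lpe (K10.f43928 IH) (Lpe (K10.f44632 IH) (Lpe (K10.f8482 IH) (Lpe (K14.f190434 IH) (Lpn (LP (LK LD1_c1 LD2_c15 LD3_c44))))))))))))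
theorem f265544 : Led Lsl_ff (LP (LK LD1_c2 LD2_c31 LD3_c53)) = (LP (LK LD1_c1 LD2_c15 LD3_c44)) :=
  Lgr Lrot52 (Lpr_at (f265538 IH) (Lpe (K14.f44732 IH) (Lpr_gf (f215447 IH) (Lpn (LP (LK LD1_c1 LD2_c15 LD3_c44))))))
theorem f194151 : Led Lsl_ct (LP (LK LD1_c2 LD2_c37 LD3_c25)) = (LP (LK LD1_c1 LD2_c15 LD3_c44)) :=
  Lre_c IH (LK LD1_c2 LD2_c37 LD3_c25) (LK LD1_c1 LD2_c15 LD3_c44) Lrfl Lrfl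
theorem f265548 : Led Lsl_ft (LP (LK LD1_c5 LD2_c9 LD3_c32)) = (LP (LK LD1_c2 LD2_c37 LD3_c25)) :=
  Lgr Lrot4 (Lpe (f183916 IH) (Lpr_ff (f265544 IH) (Lpe (f194151 IH) (Lpn (LP (LK LD1_c2 LD2_c37 LD3_c25))))))
theorem f265554 : Led Lsl_af (LP (LK LD1_c5 LD2_c20 LD3_c15)) = (LP (LK LD1_c2 LD2_c37 LD3_c25)) :=
  Lgr Lrot31 (Lpr_gf (f256343 IH) (Lpe (f183917 IH) (Lpr_ft (f265548 IH) (Lpn (LP (LK LD1_c2 LD2_c37 LD3_c25))))))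
theorem f183923 : Led Lsl_ct (LP (LK LD1_c5 LD2_c9 LD3_c32)) = (LP (LK LD1_c2 LD2_c31 LD3_c53)) :=
  Lre_c IH (LK LD1_c5 LD2_c9 LD3_c32) (LK LD1_c2 LD2_c31 LD3_c53) Lrfl Lrfl
theorem f265542 : Led Lsl_af (LP (LK LD1_c5 LD2_c9 LD3_c32)) = (LP (LK LD1_c2 LD2_c37 LD3_c23)) :=
  Lgr Lrot68 (Lpr_ct (f183923 IH) (Lpr_at (f265538 IH) (Lpr_ct (K12.f8399 IH) (Lpn (LP (LK LD1_c2 LD2_c37 LD3_c23))))))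
theorem f265564 : Led Lsl_ft (LP (LK LD1_c5 LD2_c20 LD3_c15)) = (LP (LK LD1_c2 LD2_c37 LD3_c23)) :=
  Lgr Lrot101 (Lpr_af (f265554 IH) (Lpe (f265548 IH) (Lpr_af (f265542 IH) (Lpn (LP (LK LD1_c2 LD2_c37 LD3_c23))))))
theorem f183927 : Led Lsl_gt (LP (LK LD1_c10 LD2_c9 LD3_c46)) = (LP (LK LD1_c5 LD2_c9 LD3_c32)) :=
  Lre_g IH (LK LD1_c10 LD2_c9 LD3_c46) (LK LD1_c5 LD2_c9 LD3_c32) Lrfl Lrfl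
theorem f265574 : Led Lsl_gt (LP (LK LD1_c5 LD2_c20 LD3_c15)) = (LP (LK LD1_c10 LD2_c9 LD3_c46)) :=
  Lgr Lrot5 (Lpr_ft (f265564 IH) (Lpe (f265542 IH) (Lpe (f183927 IH) (Lpn (LP (LK LD1_c10 LD2_c9 LD3_c46))))))
theorem f183936 : Led Lsl_bt (LP (LK LD1_c1 LD2_c13 LD3_c43)) = (LP (LK LD1_c2 LD2_c33 LD3_c28)) :=
  Lre_b IH (LK LD1_c1 LD2_c13 LD3_c43) (LK LD1_c2 LD2_c33 LD3_c28) Lrfl Lrfl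
theorem f177497 : Led Lsl_bt (LP (LK LD1_c0 LD2_c39 LD3_c24)) = (LP (LK LD1_c1 LD2_c25 LD3_c29)) :=
  Lre_b IH (LK LD1_c0 LD2_c39 LD3_c24) (LK LD1_c1 LD2_c25 LD3_c29) Lrfl Lrfl
theorem f216463 : Led Lsl_bt (LP (LK LD1_c5 LD2_c36 LD3_c8)) = (LP (LK LD1_c2 LD2_c43 LD3_c59)) :=
  Lre_b IH (LK LD1_c5 LD2_c36 LD3_c8) (LK LD1_c2 LD2_c43 LD3_c59) Lrfl Lrfl
theorem f265578 : Led Lsl_ct (LP (LK LD1_c5 LD2_c36 LD3_c8)) = (LP (LK LD1_c10 LD2_c9 LD3_c46)) :=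
  Lgr Lrot63 (Lpr_bt (f216463 IH) (Lpe (K14.f247180 IH) (Lpe (f177497 IH) (Lpr_ct (K10.f169001 IH) (Lpe (K10.f184968 IH) (Lpe (K10.f183937 IH) (Lpr_bt (f183936 IH) (Lpe (K14.f196047 IH) (Lpr_ct (f177815 IH) (Lpr_gt (f265574 IH) (Lpn (LP (LK LD1_c10 LD2_c9 LD3_c46)))))))))))))
theorem f265583 : Led Lsl_gf (LP (LK LD1_c5 LD2_c36 LD3_c8)) = (LP (LK LD1_c4 LD2_c50 LD3_c33)) :=
  Lgr Lrot147 (Lpr_ct (f265578 IH) (Lpr_gt (f183927 IH) (Lpr_ct (f183923 IH) (Lpe (K9.f183912 IH) (Lpe (K9.f34626 IH) (Lpe (K10.f192566 IH) (Lpe (K9.f43900 IH) (Lpe (K10.f27714 IH) (Lpe (K14.f27715 IH) (Lpn (LP (LK LD1_c4 LD2_c50 LD3_c33))))))))))))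
theorem f254236 : Led Lsl_bf (LP (LK LD1_c4 LD2_c50 LD3_c33)) = (LP (LK LD1_c4 LD2_c6 LD3_c13)) :=
  Lgr Lrot24 (Lpr_bt (K14.f254232 IH) (Lpn (LP (LK LD1_c4 LD2_c6 LD3_c13))))
theorem f241899 : Led Lsl_bt (LP (LK LD1_c5 LD2_c12 LD3_c40)) = (LP (LK LD1_c2 LD2_c33 LD3_c12)) :=
  Lre_b IH (LK LD1_c5 LD2_c12 LD3_c40) (LK LD1_c2 LD2_c33 LD3_c12) Lrfl Lrfl
theorem f241919 : Led Lsl_ct (LP (LK LD1_c5 LD2_c12 LD3_c40)) = (LP (LK LD1_c10 LD2_c15 LD3_c42)) :=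
  Lre_c IH (LK LD1_c5 LD2_c12 LD3_c40) (LK LD1_c10 LD2_c15 LD3_c42) Lrfl Lrfl
theorem f265585 : Led Lsl_gf (LP (LK LD1_c8 LD2_c13 LD3_c3)) = (LP (LK LD1_c10 LD2_c15 LD3_c42)) :=
  Lgr Lrot126 (Lpe (f175308 IH) (Lpe (f254236 IH) (Lpe (f265583 IH) (Lpr_ct (f265578 IH) (Lpr_gt (f183927 IH) (Lpe (f183916 IH) (Lpe (f190998 IH) (Lpe (f241906 IH) (Lpe (f241899 IH) (Lpr_ct (f241919 IH) (Lpn (LP (LK LD1_c10 LD2_c15 LD3_c42)))))))))))))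
theorem f265587 : Led Lsl_gt (LP (LK LD1_c2 LD2_c58 LD3_c29)) = (LP (LK LD1_c5 LD2_c12 LD3_c40)) :=
  Lgr Lrot9 (Lpe (f182098 IH) (Lpr_gt (K9.f182089 IH) (Lpe (K0.f28670 IH) (Lpr_gt (K12.f187908 IH) (Lpr_ct (K10.f190968 IH) (Lpe (K14.f54528 IH) (Lpe (f187981 IH) (Lpr_gf (f265585 IH) (Lpe (f241919 IH) (Lpn (LP (LK LD1_c5 LD2_c12 LD3_c40))))))))))))
theorem f265590 : Led Lsl_gt (LP (LK LD1_c5 LD2_c36 LD3_c10)) = (LP (LK LD1_c8 LD2_c2 LD3_c46)) :=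
  Lgr Lrot65 (Lpe (f216458 IH) (Lpr_bt (f216455 IH) (Lpr_gf (f265583 IH) (Lpr_bf (f254236 IH) (Lpr_ct (f175308 IH) (Lpr_gf (f265585 IH) (Lpe (f241919 IH) (Lpe (f265587 IH) (Lpe (f192510 IH) (Lpr_ct (f31025 IH) (Lpn (LP (LK LD1_c8 LD2_c2 LD3_c46)))))))))))))
theorem f43903 : Led Lsl_gt (LP (LK LD1_c1 LD2_c8 LD3_c40)) = (LP (LK LD1_c0 LD2_c31 LD3_c25)) :=
  Lre_g IH (LK LD1_c1 LD2_c8 LD3_c40) (LK LD1_c0 LD2_c31 LD3_c25) Lrfl Lrfl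
theorem f51043 : Led Lsl_dt (LP (LK LD1_c2 LD2_c23 LD3_c6)) = (LP (LK LD1_c1 LD2_c8 LD3_c40)) :=
  Lre_d IH (LK LD1_c2 LD2_c23 LD3_c6) (LK LD1_c1 LD2_c8 LD3_c40) Lrfl Lrfl
theorem f265596 : Led Lsl_gf (LP (LK LD1_c2 LD2_c43 LD3_c59)) = (LP (LK LD1_c2 LD2_c23 LD3_c6)) :=
  Lgr Lrot147 (Lpr_ct (f216458 IH) (Lpr_gt (f265590 IH) (Lpr_ct (f194413 IH) (Lpe (K14.f28176 IH) (Lpr_cf (K10.f194390 IH) (Lpe (K10.f50807 IH) (Lpr_cf (K10.f51035 IH) (Lpe (f43903 IH) (Lpe (f51043 IH) (Lpn (LP (LK LD1_c2 LD2_c23 LD3_c6))))))))))))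
theorem f231488 : Led Lsl_bt (LP (LK LD1_c2 LD2_c33 LD3_c12)) = (LP (LK LD1_c5 LD2_c12 LD3_c40)) :=
  Lre_b IH (LK LD1_c2 LD2_c33 LD3_c12) (LK LD1_c5 LD2_c12 LD3_c40) Lrfl Lrfl
theorem f265598 : Led Lsl_bf (LP (LK LD1_c2 LD2_c23 LD3_c6)) = (LP (LK LD1_c2 LD2_c7 LD3_c39)) :=
  Lgr Lrot165 (Lpe (f265596 IH) (Lpr_ct (f216458 IH) (Lpr_gt (f265590 IH) (Lpe (f31025 IH) (Lpr_bt (f192510 IH) (Lpr_gt (f265587 IH) (Lpe (f231488 IH) (Lpr_ct (K13.f171660 IH) (Lpe (K13.f241021 IH) (Lpe (K13.f239287 IH) (Lpn (LP (LK LD1_c2 LD2_c7 LD3_c39)))))))))))))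
theorem f179046 : Led Lsl_gt (LP (LK LD1_c6 LD2_c5 LD3_c47)) = (LP (LK LD1_c2 LD2_c59 LD3_c0)) :=
  Lre_g IH (LK LD1_c6 LD2_c5 LD3_c47) (LK LD1_c2 LD2_c59 LD3_c0) Lrfl Lrfl
theorem f263663 : Led Lsl_cf (LP (LK LD1_c5 LD2_c36 LD3_c5)) = (LP (LK LD1_c6 LD2_c5 LD3_c47)) :=
  Lgr Lrot166 (Lpr_gt (f263656 IH) (Lpr_dt (f192456 IH) (Lpr_gt (K10.f192468 IH) (Lpr_dt (K11.f45085 IH) (Lpe (K11.f183719 IH) (Lpe (K13.f231978 IH) (Lpe (K13.f231889 IH) (Lpe (f231697 IH) (Lpe (f179046 IH) (Lpn (LP (LK LD1_c6 LD2_c5 LD3_c47))))))))))))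
theorem f231913 : Led Lsl_gf (LP (LK LD1_c11 LD2_c55 LD3_c6)) = (LP (LK LD1_c8 LD2_c28 LD3_c41)) :=
  Lgr Lrot104 (Lpr_ct (K14.f231877 IH) (Lpe (K14.f45023 IH) (Lpe (K13.f44977 IH) (Lpr_gf (f212508 IH) (Lpe (f180773 IH) (Lpe (K10.f32528 IH) (Lpr_df (K10.f45393 IH) (Lpe (f45432 IH) (Lpr_ct (f231896 IH) (Lpn (LP (LK LD1_c8 LD2_c28 LD3_c41))))))))))))
theorem f263666 : Led Lsl_gf (LP (LK LD1_c6 LD2_c5 LD3_c47)) = (LP (LK LD1_c4 LD2_c14 LD3_c55)) :=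
  Lgr Lrot147 (Lpe (f263663 IH) (Lpr_gt (f263656 IH) (Lpr_ct (f188095 IH) (Lpr_df (f257107 IH) (Lpe (f257101 IH) (Lpr_gf (f257098 IH) (Lpe (K14.f231877 IH) (Lpr_gf (f231913 IH) (Lpe (f231868 IH) (Lpn (LP (LK LD1_c4 LD2_c14 LD3_c55))))))))))))
theorem f263658 : Led Lsl_ct (LP (LK LD1_c5 LD2_c36 LD3_c5)) = (LP (LK LD1_c6 LD2_c5 LD3_c47)) :=
  Lgr Lrot8 (Lpr_gt (f263656 IH) (Lpr_dt (f192456 IH) (Lpr_gt (K10.f192468 IH) (Lpr_dt (K11.f45085 IH) (Lpe (K11.f183709 IH) (Lpe (K13.f231978 IH) (Lpe (K13.f231889 IH) (Lpe (f231697 IH) (Lpe (f179046 IH) (Lpn (LP (LK LD1_c6 LD2_c5 LD3_c47))))))))))))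
theorem f265610 : Led Lsl_bt (LP (LK LD1_c5 LD2_c36 LD3_c5)) = (LP (LK LD1_c2 LD2_c43 LD3_c56)) :=
  Lre_b IH (LK LD1_c5 LD2_c36 LD3_c5) (LK LD1_c2 LD2_c43 LD3_c56) Lrfl Lrfl
theorem f265611 : Led Lsl_gf (LP (LK LD1_c2 LD2_c23 LD3_c6)) = (LP (LK LD1_c2 LD2_c43 LD3_c56)) :=
  Lgr Lrot124 (Lpr_bf (f265598 IH) (Lpr_ct (K13.f239287 IH) (Lpr_gt (K13.f241023 IH) (Lpe (K13.f171663 IH) (Lpr_bt (K13.f192161 IH) (Lpe (f260399 IH) (Lpr_ct (f49075 IH) (Lpe (f263666 IH) (Lpe (f263658 IH) (Lpr_bt (f265610 IH) (Lpn (LP (LK LD1_c2 LD2_c43 LD3_c56)))))))))))))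
theorem f189974 : Led Lsl_cf (LP (LK LD1_c0 LD2_c36 LD3_c5)) = (LP (LK LD1_c0 LD2_c36 LD3_c5)) :=
  Lgr Lrot14 (Lpe (f188039 IH) (Lpr_gf (K10.f189144 IH) (Lpe (K0.f27561 IH) (Lpr_gf (K10.f27597 IH) (Lpr_ct (K10.f189968 IH) (Lpe (K10.f27597 IH) (Lpr_dt (K0.f27561 IH) (Lpe (K10.f189144 IH) (Lpr_dt (f188039 IH) (Lpn (LP (LK LD1_c0 LD2_c36 LD3_c5))))))))))))
theorem f265615 : Led Lsl_ct (LP (LK LD1_c1 LD2_c8 LD3_c40)) = (LP (LK LD1_c1 LD2_c8 LD3_c40)) :=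
  Lgr Lrot7 (Lpe (f51043 IH) (Lpr_gf (f265611 IH) (Lpe (f177444 IH) (Lpe (f7950 IH) (Lpr_cf (f189974 IH) (Lpr_gt (f7950 IH) (Lpr_dt (f177444 IH) (Lpe (f265611 IH) (Lpr_dt (f51043 IH) (Lpn (LP (LK LD1_c1 LD2_c8 LD3_c40))))))))))))
theorem f50381 : Led Lsl_ct (LP (LK LD1_c1 LD2_c58 LD3_c36)) = (LP (LK LD1_c0 LD2_c56 LD3_c8)) :=
  Lre_c IH (LK LD1_c1 LD2_c58 LD3_c36) (LK LD1_c0 LD2_c56 LD3_c8) Lrfl Lrfl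
theorem f231695 : Led Lsl_gf (LP (LK LD1_c2 LD2_c23 LD3_c8)) = (LP (LK LD1_c2 LD2_c4 LD3_c35)) :=
  Lgr Lrot124 (Lpe (K13.f231548 IH) (Lpr_ct (K13.f27890 IH) (Lpr_gt (K13.f231512 IH) (Lpe (K9.f31282 IH) (Lpr_bt (K9.f45694 IH) (Lpr_gt (K13.f45188 IH) (Lpr_ct (K13.f183672 IH) (Lpr_gt (K13.f231684 IH) (Lpr_cf (K11.f183773 IH) (Lpr_bt (K11.f183796 IH) (Lpn (LP (LK LD1_c2 LD2_c4 LD3_c35)))))))))))))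
theorem f265629 : Led Lsl_gf (LP (LK LD1_c1 LD2_c8 LD3_c40)) = (LP (LK LD1_c0 LD2_c59 LD3_c18)) :=
  Lgr Lrot147 (Lpr_ct (f265615 IH) (Lpr_gt (f43903 IH) (Lpe (K10.f51035 IH) (Lpe (f51041 IH) (Lpe (f50381 IH) (Lpe (K13.f50332 IH) (Lpr_cf (K13.f231574 IH) (Lpr_gf (f231695 IH) (Lpe (K13.f27526 IH) (Lpn (LP (LK LD1_c0 LD2_c59 LD3_c18))))))))))))
theorem f51044 : Led Lsl_dt (LP (LK LD1_c1 LD2_c8 LD3_c40)) = (LP (LK LD1_c2 LD2_c23 LD3_c6)) :=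
  Lre_d IH (LK LD1_c1 LD2_c8 LD3_c40) (LK LD1_c2 LD2_c23 LD3_c6) Lrfl Lrfl
theorem f265602 : Led Lsl_ct (LP (LK LD1_c2 LD2_c23 LD3_c6)) = (LP (LK LD1_c4 LD2_c50 LD3_c38)) :=
  Lre_c IH (LK LD1_c2 LD2_c23 LD3_c6) (LK LD1_c4 LD2_c50 LD3_c38) Lrfl Lrfl
theorem f177492 : Led Lsl_dt (LP (LK LD1_c2 LD2_c59 LD3_c33)) = (LP (LK LD1_c1 LD2_c25 LD3_c37)) :=
  Lgr Lrot173 (Lpr_cf (K10.f177393 IH) (Lpe (K10.f177159 IH) (Lpe (K10.f177156 IH) (Lpe (K9.f20806 IH) (Lpe (K9.f9091 IH) (Lpe (K9.f168977 IH) (Lpe (K9.f169000 IH) (Lpr_df (K9.f177468 IH) (Lpe (K9.f177448 IH) (Lpe (K9.f169096 IH) (Lpe (K9.f45992 IH) (Lpe (K9.f9081 IH) (Lpe (K9.f9088 IH) (Lpe (K10.f9087 IH) (Lpe (K10.f9086 IH) (Lpn (LP (LK LD1_c1 LD2_c25 LD3_c37))))))))))))))))))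
theorem f198851 : Led Lsl_gt (LP (LK LD1_c0 LD2_c56 LD3_c52)) = (LP (LK LD1_c0 LD2_c57 LD3_c25)) :=
  Lgr Lrot180 (Lpr_ct (K11.f198814 IH) (Lpe (K11.f198810 IH) (Lpr_dt (K0.f9008 IH) (Lpe (K10.f9062 IH) (Lpr_dt (f177492 IH) (Lpr_ct (K10.f9086 IH) (Lpe (K10.f9085 IH) (Lpe (K9.f177379 IH) (Lpe (K2.f47910 IH) (Lpn (LP (LK LD1_c0 LD2_c57 LD3_c25))))))))))))
theorem f198844 : Led Lsl_bt (LP (LK LD1_c1 LD2_c59 LD3_c55)) = (LP (LK LD1_c0 LD2_c56 LD3_c52)) :=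
  Lre_b IH (LK LD1_c1 LD2_c59 LD3_c55) (LK LD1_c0 LD2_c56 LD3_c52) Lrfl Lrfl
theorem f194686 : Led Lsl_bf (LP (LK LD1_c1 LD2_c58 LD3_c35)) = (LP (LK LD1_c2 LD2_c37 LD3_c54)) :=
  Lgr Lrot24 (Lpr_bt (K10.f194642 IH) (Lpn (LP (LK LD1_c2 LD2_c37 LD3_c54))))
theorem f50323 : Led Lsl_gt (LP (LK LD1_c1 LD2_c58 LD3_c36)) = (LP (LK LD1_c4 LD2_c3 LD3_c13)) :=
  Lre_g IH (LK LD1_c1 LD2_c58 LD3_c36) (LK LD1_c4 LD2_c3 LD3_c13) Lrfl Lrfl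
theorem f256131 : Led Lsl_ct (LP (LK LD1_c1 LD2_c59 LD3_c55)) = (LP (LK LD1_c4 LD2_c3 LD3_c13)) :=
  Lgr Lrot63 (Lpr_bt (f198844 IH) (Lpr_gt (f198851 IH) (Lpe (K10.f55426 IH) (Lpr_ct (K10.f169134 IH) (Lpr_gt (f256122 IH) (Lpe (f194632 IH) (Lpe (f194686 IH) (Lpr_gt (K14.f51042 IH) (Lpr_ct (K10.f50299 IH) (Lpr_gt (f50323 IH) (Lpn (LP (LK LD1_c4 LD2_c3 LD3_c13)))))))))))))
theorem f256141 : Led Lsl_cf (LP (LK LD1_c1 LD2_c59 LD3_c55)) = (LP (LK LD1_c4 LD2_c3 LD3_c13)) :=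
  Lgr Lrot11 (Lpr_ct (f256131 IH) (Lpn (LP (LK LD1_c4 LD2_c3 LD3_c13))))
theorem f30977 : Led Lsl_gt (LP (LK LD1_c4 LD2_c3 LD3_c13)) = (LP (LK LD1_c8 LD2_c2 LD3_c51)) :=
  Lre_g IH (LK LD1_c4 LD2_c3 LD3_c13) (LK LD1_c8 LD2_c2 LD3_c51) Lrfl Lrfl
theorem f50389 : Led Lsl_gt (LP (LK LD1_c8 LD2_c7 LD3_c9)) = (LP (LK LD1_c4 LD2_c3 LD3_c16)) :=
  Lre_g IH (LK LD1_c8 LD2_c7 LD3_c9) (LK LD1_c4 LD2_c3 LD3_c16) Lrfl Lrfl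
theorem f50953 : Led Lsl_gt (LP (LK LD1_c9 LD2_c33 LD3_c41)) = (LP (LK LD1_c8 LD2_c7 LD3_c9)) :=
  Lgr Lrot5 (Lpr_ft (K10.f50935 IH) (Lpr_at (f50942 IH) (Lpe (f50389 IH) (Lpn (LP (LK LD1_c8 LD2_c7 LD3_c9))))))
theorem f265633 : Led Lsl_df (LP (LK LD1_c4 LD2_c50 LD3_c38)) = (LP (LK LD1_c8 LD2_c7 LD3_c9)) :=
  Lgr Lrot84 (Lpe (f265602 IH) (Lpe (f51044 IH) (Lpr_gf (f265629 IH) (Lpe (K0.f27527 IH) (Lpe (K11.f198853 IH) (Lpr_cf (f256141 IH) (Lpr_gt (f30977 IH) (Lpe (K10.f50949 IH) (Lpr_gt (f50953 IH) (Lpn (LP (LK LD1_c8 LD2_c7 LD3_c9))))))))))))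
theorem f265637 : Led Lsl_dt (LP (LK LD1_c4 LD2_c50 LD3_c38)) = (LP (LK LD1_c8 LD2_c7 LD3_c9)) :=
  Lgr Lrot42 (Lpr_df (f265633 IH) (Lpn (LP (LK LD1_c8 LD2_c7 LD3_c9))))
theorem f265617 : Led Lsl_ct (LP (LK LD1_c4 LD2_c50 LD3_c38)) = (LP (LK LD1_c2 LD2_c23 LD3_c6)) :=
  Lre_c IH (LK LD1_c4 LD2_c50 LD3_c38) (LK LD1_c2 LD2_c23 LD3_c6) Lrfl Lrfl
theorem f216466 : Led Lsl_ct (LP (LK LD1_c5 LD2_c36 LD3_c10)) = (LP (LK LD1_c2 LD2_c43 LD3_c59)) :=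
  Lre_c IH (LK LD1_c5 LD2_c36 LD3_c10) (LK LD1_c2 LD2_c43 LD3_c59) Lrfl Lrfl
theorem f169070 : Led Lsl_ct (LP (LK LD1_c1 LD2_c25 LD3_c29)) = (LP (LK LD1_c2 LD2_c59 LD3_c36)) :=
  Lre_c IH (LK LD1_c1 LD2_c25 LD3_c29) (LK LD1_c2 LD2_c59 LD3_c36) Lrfl Lrfl
theorem f181704 : Led Lsl_dt (LP (LK LD1_c2 LD2_c59 LD3_c36)) = (LP (LK LD1_c6 LD2_c6 LD3_c60)) :=
  Lre_d IH (LK LD1_c2 LD2_c59 LD3_c36) (LK LD1_c6 LD2_c6 LD3_c60) Lrfl Lrfl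
theorem f261325 : Led Lsl_cf (LP (LK LD1_c6 LD2_c6 LD3_c60)) = (LP (LK LD1_c8 LD2_c7 LD3_c9)) :=
  Lgr Lrot99 (Lpe (f181704 IH) (Lpe (f169070 IH) (Lpr_gf (K14.f247180 IH) (Lpe (f216466 IH) (Lpr_gf (f261323 IH) (Lpe (f216189 IH) (Lpr_gt (f27683 IH) (Lpr_ct (K10.f50934 IH) (Lpr_gt (f50953 IH) (Lpn (LP (LK LD1_c8 LD2_c7 LD3_c9))))))))))))
theorem f169069 : Led Lsl_dt (LP (LK LD1_c6 LD2_c6 LD3_c60)) = (LP (LK LD1_c2 LD2_c59 LD3_c36)) :=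
  Lre_d IH (LK LD1_c6 LD2_c6 LD3_c60) (LK LD1_c2 LD2_c59 LD3_c36) Lrfl Lrfl
theorem f169068 : Led Lsl_ct (LP (LK LD1_c2 LD2_c59 LD3_c36)) = (LP (LK LD1_c1 LD2_c25 LD3_c29)) :=
  Lre_c IH (LK LD1_c2 LD2_c59 LD3_c36) (LK LD1_c1 LD2_c25 LD3_c29) Lrfl Lrfl
theorem f265673 : Led Lsl_cf (LP (LK LD1_c8 LD2_c7 LD3_c9)) = (LP (LK LD1_c6 LD2_c6 LD3_c60)) :=
  Lgr Lrot55 (Lpe (f265633 IH) (Lpr_ct (f265617 IH) (Lpr_dt (f51043 IH) (Lpr_ct (f265615 IH) (Lpr_dt (f51044 IH) (Lpr_ct (f265602 IH) (Lpr_dt (f265637 IH) (Lpe (f261325 IH) (Lpr_dt (f169069 IH) (Lpr_ct (f169068 IH) (Lpr_dt (K14.f168988 IH) (Lpr_ct (K9.f181433 IH) (Lpr_dt (K14.f168942 IH) (Lpr_ct (f169070 IH) (Lpr_dt (f181704 IH) (Lpn (LP (LK LD1_c6 LD2_c6 LD3_c60))))))))))))))))))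
theorem f265592 : Led Lsl_df (LP (LK LD1_c9 LD2_c33 LD3_c39)) = (LP (LK LD1_c8 LD2_c2 LD3_c46)) :=
  Lgr Lrot153 (Lpr_gt (K14.f51278 IH) (Lpr_dt (K10.f51015 IH) (Lpe (K0.f27613 IH) (Lpe (K13.f27526 IH) (Lpe (K9.f183819 IH) (Lpe (K14.f168988 IH) (Lpr_gf (K14.f247180 IH) (Lpe (f216466 IH) (Lpr_gt (f265590 IH) (Lpn (LP (LK LD1_c8 LD2_c2 LD3_c46))))))))))))
theorem f265705 : Led Lsl_gt (LP (LK LD1_c4 LD2_c3 LD3_c16)) = (LP (LK LD1_c6 LD2_c6 LD3_c60)) :=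
  Lgr Lrot150 (Lpe (K14.f50921 IH) (Lpe (K14.f51278 IH) (Lpr_df (f265592 IH) (Lpe (f259089 IH) (Lpr_ct (f189272 IH) (Lpe (f265611 IH) (Lpr_ct (f265602 IH) (Lpr_df (f265633 IH) (Lpr_cf (f265673 IH) (Lpn (LP (LK LD1_c6 LD2_c6 LD3_c60))))))))))))
theorem f265707 : Led Lsl_df (LP (LK LD1_c8 LD2_c2 LD3_c46)) = (LP (LK LD1_c9 LD2_c33 LD3_c39)) :=
  Lgr Lrot155 (Lpe (f259089 IH) (Lpr_ct (f189272 IH) (Lpe (f265611 IH) (Lpr_ct (f265602 IH) (Lpr_dt (f265637 IH) (Lpr_cf (f265673 IH) (Lpe (f265705 IH) (Lpe (K14.f50921 IH) (Lpe (K14.f51278 IH) (Lpn (LP (LK LD1_c9 LD2_c33 LD3_c39))))))))))))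
theorem f233750 : Led Lsl_gt (LP (LK LD1_c4 LD2_c6 LD3_c50)) = (LP (LK LD1_c8 LD2_c14 LD3_c11)) :=
  Lre_g IH (LK LD1_c4 LD2_c6 LD3_c50) (LK LD1_c8 LD2_c14 LD3_c11) Lrfl Lrfl
theorem f265714 : Led Lsl_cf (LP (LK LD1_c6 LD2_c4 LD3_c45)) = (LP (LK LD1_c8 LD2_c14 LD3_c11)) :=
  Lgr Lrot169 (Lpr_gt (f265034 IH) (Lpr_ct (f31025 IH) (Lpr_df (f265707 IH) (Lpr_cf (K14.f195960 IH) (Lpe (K14.f194387 IH) (Lpr_cf (K10.f50916 IH) (Lpe (f233748 IH) (Lpe (f190943 IH) (Lpr_gt (f233750 IH) (Lpn (LP (LK LD1_c8 LD2_c14 LD3_c11))))))))))))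
theorem f265719 : Led Lsl_ct (LP (LK LD1_c6 LD2_c4 LD3_c45)) = (LP (LK LD1_c8 LD2_c14 LD3_c11)) :=
  Lgr Lrot59 (Lpr_cf (f265714 IH) (Lpn (LP (LK LD1_c8 LD2_c14 LD3_c11))))
theorem f224206 : Led Lsl_et (LP (LK LD1_c0 LD2_c15 LD3_c49)) = (LP (LK LD1_c0 LD2_c35 LD3_c17)) :=
  Lre_e IH (LK LD1_c0 LD2_c15 LD3_c49) (LK LD1_c0 LD2_c35 LD3_c17) Lrfl Lrfl
theorem f256823 : Led Lsl_gf (LP (LK LD1_c1 LD2_c24 LD3_c60)) = (LP (LK LD1_c2 LD2_c38 LD3_c7)) :=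
  Lgr Lrot145 (Lpe (K14.f42121 IH) (Lpr_et (K14.f42169 IH) (Lpe (f256816 IH) (Lpr_dt (f256805 IH) (Lpe (f224347 IH) (Lpe (K13.f41441 IH) (Lpr_et (f224206 IH) (Lpe (K14.f255986 IH) (Lpr_ef (f184391 IH) (Lpr_dt (f184390 IH) (Lpn (LP (LK LD1_c2 LD2_c38 LD3_c7)))))))))))))
theorem f250434 : Led Lsl_gt (LP (LK LD1_c2 LD2_c58 LD3_c31)) = (LP (LK LD1_c6 LD2_c4 LD3_c38)) :=
  Lre_g IH (LK LD1_c2 LD2_c58 LD3_c31) (LK LD1_c6 LD2_c4 LD3_c38) Lrfl Lrfl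
theorem f184398 : Led Lsl_bt (LP (LK LD1_c1 LD2_c17 LD3_c9)) = (LP (LK LD1_c2 LD2_c38 LD3_c7)) :=
  Lgr Lrot127 (Lpr_bf (f184396 IH) (Lpn (LP (LK LD1_c2 LD2_c38 LD3_c7))))
theorem f7944 : Led Lsl_ct (LP (LK LD1_c2 LD2_c40 LD3_c54)) = (LP (LK LD1_c1 LD2_c17 LD3_c9)) :=
  Lre_c IH (LK LD1_c2 LD2_c40 LD3_c54) (LK LD1_c1 LD2_c17 LD3_c9) Lrfl Lrfl
theorem f183383 : Led Lsl_gf (LP (LK LD1_c2 LD2_c40 LD3_c54)) = (LP (LK LD1_c1 LD2_c25 LD3_c37)) :=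
  Lgr Lrot147 (Lpr_ct (f7944 IH) (Lpe (K9.f181195 IH) (Lpr_ct (K10.f181190 IH) (Lpe (K10.f181177 IH) (Lpr_cf (K10.f183373 IH) (Lpe (K9.f59951 IH) (Lpe (K10.f9024 IH) (Lpe (K10.f9061 IH) (Lpr_df (K10.f177501 IH) (Lpn (LP (LK LD1_c1 LD2_c25 LD3_c37))))))))))))
theorem f256827 : Led Lsl_cf (LP (LK LD1_c6 LD2_c4 LD3_c38)) = (LP (LK LD1_c5 LD2_c8 LD3_c47)) :=
  Lgr Lrot163 (Lpe (f250434 IH) (Lpe (f182766 IH) (Lpr_gf (f256823 IH) (Lpe (f184398 IH) (Lpr_ct (K9.f7943 IH) (Lpr_gf (f183383 IH) (Lpe (K10.f177452 IH) (Lpr_bt (f177540 IH) (Lpe (K13.f201735 IH) (Lpe (K14.f191142 IH) (Lpn (LP (LK LD1_c5 LD2_c8 LD3_c47)))))))))))))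
theorem f183870 : Led Lsl_dt (LP (LK LD1_c1 LD2_c25 LD3_c2)) = (LP (LK LD1_c0 LD2_c39 LD3_c10)) :=
  Lre_d IH (LK LD1_c1 LD2_c25 LD3_c2) (LK LD1_c0 LD2_c39 LD3_c10) Lrfl Lrfl
theorem f187844 : Led Lsl_ct (LP (LK LD1_c2 LD2_c58 LD3_c37)) = (LP (LK LD1_c1 LD2_c25 LD3_c2)) :=
  Lre_c IH (LK LD1_c2 LD2_c58 LD3_c37) (LK LD1_c1 LD2_c25 LD3_c2) Lrfl Lrfl
theorem f256849 : Led Lsl_gt (LP (LK LD1_c6 LD2_c4 LD3_c38)) = (LP (LK LD1_c2 LD2_c58 LD3_c37)) :=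
  Lgr Lrot150 (Lpr_cf (f256827 IH) (Lpr_gf (K13.f191105 IH) (Lpe (K13.f182534 IH) (Lpr_gt (K10.f183908 IH) (Lpr_ct (K0.f28681 IH) (Lpr_gt (K10.f187792 IH) (Lpr_ct (K9.f183859 IH) (Lpe (f183870 IH) (Lpe (f187844 IH) (Lpn (LP (LK LD1_c2 LD2_c58 LD3_c37))))))))))))
theorem f194169 : Led Lsl_ct (LP (LK LD1_c1 LD2_c25 LD3_c2)) = (LP (LK LD1_c2 LD2_c58 LD3_c37)) :=
  Lre_c IH (LK LD1_c1 LD2_c25 LD3_c2) (LK LD1_c2 LD2_c58 LD3_c37) Lrfl Lrfl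
theorem f256852 : Led Lsl_bt (LP (LK LD1_c1 LD2_c25 LD3_c2)) = (LP (LK LD1_c2 LD2_c58 LD3_c33)) :=
  Lre_b IH (LK LD1_c1 LD2_c25 LD3_c2) (LK LD1_c2 LD2_c58 LD3_c33) Lrfl Lrfl
theorem f256853 : Led Lsl_bf (LP (LK LD1_c6 LD2_c4 LD3_c45)) = (LP (LK LD1_c5 LD2_c12 LD3_c34)) :=
  Lgr Lrot34 (Lpe (f187852 IH) (Lpe (f256852 IH) (Lpr_ct (f194169 IH) (Lpe (f256849 IH) (Lpr_cf (f256827 IH) (Lpr_gf (K13.f191105 IH) (Lpe (K13.f191109 IH) (Lpr_ct (K13.f182447 IH) (Lpe (K13.f187883 IH) (Lpe (K13.f187884 IH) (Lpn (LP (LK LD1_c5 LD2_c12 LD3_c34)))))))))))))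
theorem f256855 : Led Lsl_bt (LP (LK LD1_c6 LD2_c4 LD3_c45)) = (LP (LK LD1_c5 LD2_c12 LD3_c34)) :=
  Lgr Lrot127 (Lpr_bf (f256853 IH) (Lpn (LP (LK LD1_c5 LD2_c12 LD3_c34))))
theorem f265771 : Led Lsl_gt (LP (LK LD1_c5 LD2_c12 LD3_c34)) = (LP (LK LD1_c2 LD2_c37 LD3_c19)) :=
  Lgr Lrot82 (Lpe (f256855 IH) (Lpr_ct (f265719 IH) (Lpe (f233750 IH) (Lpe (K14.f190942 IH) (Lpr_bt (K14.f226069 IH) (Lpr_gf (K14.f250335 IH) (Lpe (f21302 IH) (Lpr_ct (K13.f21303 IH) (Lpe (f250337 IH) (Lpe (f187549 IH) (Lpn (LP (LK LD1_c2 LD2_c37 LD3_c19)))))))))))))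
theorem f247629 : Led Lsl_gf (LP (LK LD1_c1 LD2_c15 LD3_c45)) = (LP (LK LD1_c2 LD2_c2 LD3_c14)) :=
  Lgr Lrot47 (Lpr_gt (K14.f247627 IH) (Lpe (K14.f230924 IH) (Lpe (K12.f230785 IH) (Lpn (LP (LK LD1_c2 LD2_c2 LD3_c14))))))
theorem f265781 : Led Lsl_dt (LP (LK LD1_c5 LD2_c12 LD3_c34)) = (LP (LK LD1_c4 LD2_c27 LD3_c44)) :=
  Lgr Lrot6 (Lpr_gt (f265771 IH) (Lpr_ct (f187549 IH) (Lpr_gt (f250337 IH) (Lpr_ct (f192146 IH) (Lpe (K10.f192134 IH) (Lpe (K14.f194149 IH) (Lpr_gf (f247629 IH) (Lpe (f247439 IH) (Lpe (K14.f231301 IH) (Lpn (LP (LK LD1_c4 LD2_c27 LD3_c44))))))))))))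
theorem f192485 : Led Lsl_gt (LP (LK LD1_c2 LD2_c28 LD3_c21)) = (LP (LK LD1_c5 LD2_c1 LD3_c15)) :=
  Lre_g IH (LK LD1_c2 LD2_c28 LD3_c21) (LK LD1_c5 LD2_c1 LD3_c15) Lrfl Lrfl
theorem f265789 : Led Lsl_dt (LP (LK LD1_c5 LD2_c1 LD3_c15)) = (LP (LK LD1_c7 LD2_c57 LD3_c53)) :=
  Lgr Lrot105 (Lpe (f192485 IH) (Lpe (K14.f192488 IH) (Lpe (K10.f192481 IH) (Lpe (K9.f50757 IH) (Lpr_gt (K10.f183952 IH) (Lpr_dt (K13.f183900 IH) (Lpr_gt (K13.f183955 IH) (Lpr_dt (f265781 IH) (Lpe (f231302 IH) (Lpn (LP (LK LD1_c7 LD2_c57 LD3_c53))))))))))))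
theorem f185417 : Led Lsl_gt (LP (LK LD1_c2 LD2_c33 LD3_c26)) = (LP (LK LD1_c5 LD2_c13 LD3_c7)) :=
  Lre_g IH (LK LD1_c2 LD2_c33 LD3_c26) (LK LD1_c5 LD2_c13 LD3_c7) Lrfl Lrfl
theorem f265835 : Led Lsl_cf (LP (LK LD1_c5 LD2_c1 LD3_c15)) = (LP (LK LD1_c5 LD2_c13 LD3_c7)) :=
  Lgr Lrot175 (Lpr_dt (f265789 IH) (Lpr_cf (K14.f231304 IH) (Lpe (K14.f247540 IH) (Lpe (K9.f170671 IH) (Lpe (K14.f247627 IH) (Lpe (K14.f251568 IH) (Lpr_gt (K13.f171669 IH) (Lpr_ct (K13.f183897 IH) (Lpr_gt (f185417 IH) (Lpn (LP (LK LD1_c5 LD2_c13 LD3_c7))))))))))))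
theorem f265830 : Led Lsl_df (LP (LK LD1_c5 LD2_c1 LD3_c15)) = (LP (LK LD1_c7 LD2_c57 LD3_c53)) :=
  Lgr Lrot38 (Lpr_dt (f265789 IH) (Lpn (LP (LK LD1_c7 LD2_c57 LD3_c53))))
theorem f265017 : Led Lsl_df (LP (LK LD1_c5 LD2_c37 LD3_c2)) = (LP (LK LD1_c4 LD2_c53 LD3_c58)) :=
  Lgr Lrot38 (Lpr_dt (f265013 IH) (Lpn (LP (LK LD1_c4 LD2_c53 LD3_c58))))
theorem f170056 : Led Lsl_dt (LP (LK LD1_c2 LD2_c34 LD3_c55)) = (LP (LK LD1_c5 LD2_c16 LD3_c18)) :=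
  Lre_d IH (LK LD1_c2 LD2_c34 LD3_c55) (LK LD1_c5 LD2_c16 LD3_c18) Lrfl Lrfl
theorem f265851 : Led Lsl_dt (LP (LK LD1_c10 LD2_c16 LD3_c33)) = (LP (LK LD1_c5 LD2_c13 LD3_c7)) :=
  Lre_d IH (LK LD1_c10 LD2_c16 LD3_c33) (LK LD1_c5 LD2_c13 LD3_c7) Lrfl Lrfl
theorem f265855 : Led Lsl_gt (LP (LK LD1_c5 LD2_c16 LD3_c18)) = (LP (LK LD1_c10 LD2_c16 LD3_c33)) :=
  Lgr Lrot49 (Lpe (f170056 IH) (Lpr_gf (K10.f190780 IH) (Lpe (K9.f44395 IH) (Lpr_gt (K12.f44448 IH) (Lpe (f265017 IH) (Lpr_gt (f265022 IH) (Lpe (f265830 IH) (Lpr_cf (f265835 IH) (Lpe (f265851 IH) (Lpn (LP (LK LD1_c10 LD2_c16 LD3_c33))))))))))))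
theorem f247559 : Led Lsl_ct (LP (LK LD1_c5 LD2_c16 LD3_c18)) = (LP (LK LD1_c8 LD2_c11 LD3_c43)) :=
  Lgr Lrot59 (Lpr_cf (K14.f247557 IH) (Lpn (LP (LK LD1_c8 LD2_c11 LD3_c43))))
theorem f192142 : Led Lsl_dt (LP (LK LD1_c9 LD2_c56 LD3_c57)) = (LP (LK LD1_c5 LD2_c3 LD3_c3)) :=
  Lre_d IH (LK LD1_c9 LD2_c56 LD3_c57) (LK LD1_c5 LD2_c3 LD3_c3) Lrfl Lrfl
theorem f47276 : Led Lsl_gt (LP (LK LD1_c8 LD2_c10 LD3_c60)) = (LP (LK LD1_c4 LD2_c5 LD3_c24)) :=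
  Lre_g IH (LK LD1_c8 LD2_c10 LD3_c60) (LK LD1_c4 LD2_c5 LD3_c24) Lrfl Lrfl
theorem f247641 : Led Lsl_gf (LP (LK LD1_c9 LD2_c56 LD3_c57)) = (LP (LK LD1_c8 LD2_c11 LD3_c43)) :=
  Lgr Lrot143 (Lpr_dt (f192142 IH) (Lpe (K13.f21303 IH) (Lpe (K10.f192134 IH) (Lpe (K14.f28380 IH) (Lpr_df (K14.f247637 IH) (Lpe (K13.f55046 IH) (Lpe (K13.f46218 IH) (Lpr_gt (f47276 IH) (Lpr_dt (K14.f47277 IH) (Lpn (LP (LK LD1_c8 LD2_c11 LD3_c43))))))))))))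
theorem f230698 : Led Lsl_dt (LP (LK LD1_c5 LD2_c12 LD3_c36)) = (LP (LK LD1_c10 LD2_c15 LD3_c36)) :=
  Lre_d IH (LK LD1_c5 LD2_c12 LD3_c36) (LK LD1_c10 LD2_c15 LD3_c36) Lrfl Lrfl
theorem f230694 : Led Lsl_dt (LP (LK LD1_c5 LD2_c21 LD3_c26)) = (LP (LK LD1_c10 LD2_c16 LD3_c44)) :=
  Lgr Lrot42 (Lpr_df (f230681 IH) (Lpn (LP (LK LD1_c10 LD2_c16 LD3_c44))))
theorem f182210 : Led Lsl_ct (LP (LK LD1_c4 LD2_c27 LD3_c12)) = (LP (LK LD1_c2 LD2_c10 LD3_c48)) :=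
  Lre_c IH (LK LD1_c4 LD2_c27 LD3_c12) (LK LD1_c2 LD2_c10 LD3_c48) Lrfl Lrfl
theorem f182209 : Led Lsl_dt (LP (LK LD1_c8 LD2_c52 LD3_c6)) = (LP (LK LD1_c4 LD2_c27 LD3_c12)) :=
  Lre_d IH (LK LD1_c8 LD2_c52 LD3_c6) (LK LD1_c4 LD2_c27 LD3_c12) Lrfl Lrfl
theorem f171668 : Led Lsl_dt (LP (LK LD1_c1 LD2_c13 LD3_c39)) = (LP (LK LD1_c0 LD2_c34 LD3_c6)) :=
  Lre_d IH (LK LD1_c1 LD2_c13 LD3_c39) (LK LD1_c0 LD2_c34 LD3_c6) Lrfl Lrfl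
theorem f230699 : Led Lsl_cf (LP (LK LD1_c8 LD2_c52 LD3_c6)) = (LP (LK LD1_c10 LD2_c15 LD3_c36)) :=
  Lgr Lrot55 (Lpr_dt (f182209 IH) (Lpr_ct (f182210 IH) (Lpr_dt (K14.f44269 IH) (Lpe (K12.f187538 IH) (Lpr_dt (f187548 IH) (Lpr_ct (f187549 IH) (Lpr_dt (f230694 IH) (Lpr_ct (K12.f230679 IH) (Lpr_dt (K12.f183895 IH) (Lpr_ct (K12.f183894 IH) (Lpr_dt (f171668 IH) (Lpr_ct (K9.f171667 IH) (Lpr_dt (K13.f183900 IH) (Lpr_ct (K13.f192144 IH) (Lpr_dt (f230698 IH) (Lpn (LP (LK LD1_c10 LD2_c15 LD3_c36))))))))))))))))))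
theorem f184498 : Led Lsl_dt (LP (LK LD1_c4 LD2_c27 LD3_c12)) = (LP (LK LD1_c8 LD2_c52 LD3_c6)) :=
  Lre_d IH (LK LD1_c4 LD2_c27 LD3_c12) (LK LD1_c8 LD2_c52 LD3_c6) Lrfl Lrfl
theorem f265861 : Led Lsl_gf (LP (LK LD1_c4 LD2_c27 LD3_c12)) = (LP (LK LD1_c5 LD2_c13 LD3_c7)) :=
  Lgr Lrot143 (Lpr_dt (f184498 IH) (Lpr_cf (f230699 IH) (Lpe (f230698 IH) (Lpr_gf (K13.f192140 IH) (Lpe (f192142 IH) (Lpr_gf (f247641 IH) (Lpe (f247559 IH) (Lpr_gt (f265855 IH) (Lpr_dt (f265851 IH) (Lpn (LP (LK LD1_c5 LD2_c13 LD3_c7))))))))))))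
theorem f182208 : Led Lsl_ct (LP (LK LD1_c2 LD2_c10 LD3_c48)) = (LP (LK LD1_c4 LD2_c27 LD3_c12)) :=
  Lre_c IH (LK LD1_c2 LD2_c10 LD3_c48) (LK LD1_c4 LD2_c27 LD3_c12) Lrfl Lrfl
theorem f169598 : Led Lsl_bt (LP (LK LD1_c5 LD2_c6 LD3_c5)) = (LP (LK LD1_c2 LD2_c30 LD3_c21)) :=
  Lre_b IH (LK LD1_c5 LD2_c6 LD3_c5) (LK LD1_c2 LD2_c30 LD3_c21) Lrfl Lrfl
theorem f3753 : Led Lsl_bt (LP (LK LD1_c2 LD2_c28 LD3_c13)) = (LP (LK LD1_c1 LD2_c11 LD3_c22)) :=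
  Lre_b IH (LK LD1_c2 LD2_c28 LD3_c13) (LK LD1_c1 LD2_c11 LD3_c22) Lrfl Lrfl
theorem f251453 : Led Lsl_bf (LP (LK LD1_c2 LD2_c28 LD3_c18)) = (LP (LK LD1_c1 LD2_c11 LD3_c34)) :=
  Lgr Lrot156 (Lpr_gt (K14.f3688 IH) (Lpe (f3753 IH) (Lpr_ct (K10.f3754 IH) (Lpr_gt (K14.f251432 IH) (Lpe (K14.f169539 IH) (Lpr_bt (K14.f169536 IH) (Lpr_gt (K10.f178981 IH) (Lpr_ct (K9.f165296 IH) (Lpr_gt (K9.f169585 IH) (Lpe (K9.f165277 IH) (Lpn (LP (LK LD1_c1 LD2_c11 LD3_c34)))))))))))))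
theorem f194116 : Led Lsl_ct (LP (LK LD1_c1 LD2_c11 LD3_c22)) = (LP (LK LD1_c2 LD2_c28 LD3_c19)) :=
  Lre_c IH (LK LD1_c1 LD2_c11 LD3_c22) (LK LD1_c2 LD2_c28 LD3_c19) Lrfl Lrfl
theorem f240164 : Led Lsl_gt (LP (LK LD1_c2 LD2_c28 LD3_c19)) = (LP (LK LD1_c5 LD2_c1 LD3_c7)) :=
  Lre_g IH (LK LD1_c2 LD2_c28 LD3_c19) (LK LD1_c5 LD2_c1 LD3_c7) Lrfl Lrfl
theorem f251459 : Led Lsl_cf (LP (LK LD1_c5 LD2_c1 LD3_c7)) = (LP (LK LD1_c5 LD2_c6 LD3_c5)) :=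
  Lgr Lrot163 (Lpe (f240164 IH) (Lpe (f194116 IH) (Lpe (K14.f3688 IH) (Lpr_bf (f251453 IH) (Lpr_ct (K9.f165277 IH) (Lpe (K9.f169585 IH) (Lpe (K9.f165296 IH) (Lpr_bt (K10.f165297 IH) (Lpe (f169597 IH) (Lpe (f169598 IH) (Lpn (LP (LK LD1_c5 LD2_c6 LD3_c5)))))))))))))
theorem f265849 : Led Lsl_ct (LP (LK LD1_c5 LD2_c1 LD3_c15)) = (LP (LK LD1_c5 LD2_c13 LD3_c7)) :=
  Lgr Lrot59 (Lpr_cf (f265835 IH) (Lpn (LP (LK LD1_c5 LD2_c13 LD3_c7))))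
theorem f247890 : Led Lsl_bt (LP (LK LD1_c1 LD2_c11 LD3_c26)) = (LP (LK LD1_c2 LD2_c28 LD3_c21)) :=
  Lre_b IH (LK LD1_c1 LD2_c11 LD3_c26) (LK LD1_c2 LD2_c28 LD3_c21) Lrfl Lrfl
theorem f265897 : Led Lsl_gt (LP (LK LD1_c5 LD2_c1 LD3_c7)) = (LP (LK LD1_c2 LD2_c28 LD3_c25)) :=
  Lgr Lrot65 (Lpr_cf (f251459 IH) (Lpr_bt (f169598 IH) (Lpe (f257542 IH) (Lpe (K14.f230437 IH) (Lpr_ct (f182208 IH) (Lpr_gf (f265861 IH) (Lpe (f265849 IH) (Lpe (f192485 IH) (Lpe (f247890 IH) (Lpr_ct (K14.f33604 IH) (Lpn (LP (LK LD1_c2 LD2_c28 LD3_c25)))))))))))))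
theorem f192474 : Led Lsl_ct (LP (LK LD1_c2 LD2_c28 LD3_c25)) = (LP (LK LD1_c1 LD2_c11 LD3_c26)) :=
  Lre_c IH (LK LD1_c2 LD2_c28 LD3_c25) (LK LD1_c1 LD2_c11 LD3_c26) Lrfl Lrfl
theorem f265904 : Led Lsl_gf (LP (LK LD1_c5 LD2_c6 LD3_c5)) = (LP (LK LD1_c2 LD2_c34 LD3_c27)) :=
  Lgr Lrot147 (Lpe (f251459 IH) (Lpr_gt (f265897 IH) (Lpr_ct (f192474 IH) (Lpe (K14.f3732 IH) (Lpe (K9.f3748 IH) (Lpe (K10.f192470 IH) (Lpr_cf (K1.f45881 IH) (Lpe (K10.f186853 IH) (Lpe (K13.f186845 IH) (Lpn (LP (LK LD1_c2 LD2_c34 LD3_c27))))))))))))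
theorem f186850 : Led Lsl_dt (LP (LK LD1_c1 LD2_c14 LD3_c15)) = (LP (LK LD1_c2 LD2_c34 LD3_c27)) :=
  Lre_d IH (LK LD1_c1 LD2_c14 LD3_c15) (LK LD1_c2 LD2_c34 LD3_c27) Lrfl Lrfl
theorem f187862 : Led Lsl_et (LP (LK LD1_c2 LD2_c58 LD3_c34)) = (LP (LK LD1_c1 LD2_c25 LD3_c0)) :=
  Lre_e IH (LK LD1_c2 LD2_c58 LD3_c34) (LK LD1_c1 LD2_c25 LD3_c0) Lrfl Lrfl
theorem f265930 : Led Lsl_df (LP (LK LD1_c5 LD2_c6 LD3_c5)) = (LP (LK LD1_c2 LD2_c58 LD3_c34)) :=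
  Lgr Lrot132 (Lpr_gf (f265904 IH) (Lpe (f186850 IH) (Lpr_gf (K10.f186855 IH) (Lpe (K9.f28153 IH) (Lpr_dt (K1.f27799 IH) (Lpr_gf (K1.f28149 IH) (Lpe (K0.f27762 IH) (Lpr_et (K10.f27917 IH) (Lpr_gf (K10.f187849 IH) (Lpe (f187862 IH) (Lpn (LP (LK LD1_c2 LD2_c58 LD3_c34)))))))))))))
theorem f247746 : Led Lsl_dt (LP (LK LD1_c9 LD2_c52 LD3_c40)) = (LP (LK LD1_c5 LD2_c1 LD3_c7)) :=
  Lre_d IH (LK LD1_c9 LD2_c52 LD3_c40) (LK LD1_c5 LD2_c1 LD3_c7) Lrfl Lrfl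
theorem f228971 : Led Lsl_df (LP (LK LD1_c2 LD2_c1 LD3_c37)) = (LP (LK LD1_c2 LD2_c36 LD3_c31)) :=
  Lgr Lrot38 (Lpr_dt (K12.f228944 IH) (Lpn (LP (LK LD1_c2 LD2_c36 LD3_c31))))
theorem f33385 : Led Lsl_dt (LP (LK LD1_c4 LD2_c51 LD3_c18)) = (LP (LK LD1_c9 LD2_c34 LD3_c43)) :=
  Lre_d IH (LK LD1_c4 LD2_c51 LD3_c18) (LK LD1_c9 LD2_c34 LD3_c43) Lrfl Lrfl
theorem f265934 : Led Lsl_gf (LP (LK LD1_c9 LD2_c52 LD3_c40)) = (LP (LK LD1_c9 LD2_c34 LD3_c43)) :=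
  Lgr Lrot143 (Lpr_dt (f247746 IH) (Lpr_cf (f251459 IH) (Lpr_df (f265930 IH) (Lpr_gf (f265026 IH) (Lpr_df (f228971 IH) (Lpe (K14.f233413 IH) (Lpe (K9.f45893 IH) (Lpe (K14.f247927 IH) (Lpr_dt (f33385 IH) (Lpn (LP (LK LD1_c9 LD2_c34 LD3_c43))))))))))))
theorem f247812 : Led Lsl_dt (LP (LK LD1_c2 LD2_c28 LD3_c25)) = (LP (LK LD1_c5 LD2_c1 LD3_c25)) :=
  Lre_d IH (LK LD1_c2 LD2_c28 LD3_c25) (LK LD1_c5 LD2_c1 LD3_c25) Lrfl Lrfl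
theorem f3690 : Led Lsl_ct (LP (LK LD1_c5 LD2_c1 LD3_c5)) = (LP (LK LD1_c2 LD2_c28 LD3_c18)) :=
  Lre_c IH (LK LD1_c5 LD2_c1 LD3_c5) (LK LD1_c2 LD2_c28 LD3_c18) Lrfl Lrfl
theorem f3322 : Led Lsl_ft (LP (LK LD1_c2 LD2_c28 LD3_c10)) = (LP (LK LD1_c5 LD2_c0 LD3_c55)) :=
  Lre_f IH (LK LD1_c2 LD2_c28 LD3_c10) (LK LD1_c5 LD2_c0 LD3_c55) Lrfl Lrfl
theorem f3414 : Led Lsl_df (LP (LK LD1_c5 LD2_c1 LD3_c60)) = (LP (LK LD1_c5 LD2_c0 LD3_c55)) :=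
  Lgr Lrot78 (Lpr_ft (K2.f3387 IH) (Lpr_dt (K0.f3327 IH) (Lpr_ft (f3322 IH) (Lpn (LP (LK LD1_c5 LD2_c0 LD3_c55))))))
theorem f3421 : Led Lsl_gt (LP (LK LD1_c5 LD2_c1 LD3_c59)) = (LP (LK LD1_c2 LD2_c28 LD3_c37)) :=
  Lre_g IH (LK LD1_c5 LD2_c1 LD3_c59) (LK LD1_c2 LD2_c28 LD3_c37) Lrfl Lrfl
theorem f247742 : Led Lsl_cf (LP (LK LD1_c5 LD2_c1 LD3_c59)) = (LP (LK LD1_c5 LD2_c1 LD3_c10)) :=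
  Lgr Lrot169 (Lpr_gt (f3421 IH) (Lpr_ct (K14.f3339 IH) (Lpr_df (f3414 IH) (Lpe (K10.f3427 IH) (Lpe (K14.f3585 IH) (Lpe (K14.f3586 IH) (Lpr_gf (K13.f184544 IH) (Lpe (K9.f45865 IH) (Lpr_gt (K14.f247728 IH) (Lpn (LP (LK LD1_c5 LD2_c1 LD3_c10))))))))))))
theorem f247752 : Led Lsl_ct (LP (LK LD1_c5 LD2_c1 LD3_c59)) = (LP (LK LD1_c5 LD2_c1 LD3_c10)) :=
  Lgr Lrot59 (Lpr_cf (f247742 IH) (Lpn (LP (LK LD1_c5 LD2_c1 LD3_c10))))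
theorem f3422 : Led Lsl_gt (LP (LK LD1_c5 LD2_c1 LD3_c60)) = (LP (LK LD1_c5 LD2_c1 LD3_c59)) :=
  Lgr Lrot5 (Lpr_ft (K2.f3387 IH) (Lpr_at (K14.f3338 IH) (Lpe (f3421 IH) (Lpn (LP (LK LD1_c5 LD2_c1 LD3_c59))))))
theorem f252704 : Led Lsl_df (LP (LK LD1_c5 LD2_c1 LD3_c59)) = (LP (LK LD1_c5 LD2_c1 LD3_c21)) :=
  Lgr Lrot155 (Lpr_gt (f3421 IH) (Lpr_ct (K14.f3339 IH) (Lpr_gt (f3422 IH) (Lpr_ct (f247752 IH) (Lpr_dt (K14.f247727 IH) (Lpe (f194116 IH) (Lpe (K14.f3688 IH) (Lpe (f3690 IH) (Lpr_gf (f252702 IH) (Lpn (LP (LK LD1_c5 LD2_c1 LD3_c21))))))))))))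
theorem f3687 : Led Lsl_dt (LP (LK LD1_c1 LD2_c11 LD3_c22)) = (LP (LK LD1_c0 LD2_c33 LD3_c4)) :=
  Lre_d IH (LK LD1_c1 LD2_c11 LD3_c22) (LK LD1_c0 LD2_c33 LD3_c4) Lrfl Lrfl
theorem f3782 : Led Lsl_dt (LP (LK LD1_c1 LD2_c11 LD3_c21)) = (LP (LK LD1_c2 LD2_c28 LD3_c15)) :=
  Lre_d IH (LK LD1_c1 LD2_c11 LD3_c21) (LK LD1_c2 LD2_c28 LD3_c15) Lrfl Lrfl
theorem f184755 : Led Lsl_ct (LP (LK LD1_c2 LD2_c28 LD3_c15)) = (LP (LK LD1_c5 LD2_c1 LD3_c1)) :=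
  Lre_c IH (LK LD1_c2 LD2_c28 LD3_c15) (LK LD1_c5 LD2_c1 LD3_c1) Lrfl Lrfl
theorem f3781 : Led Lsl_dt (LP (LK LD1_c1 LD2_c11 LD3_c26)) = (LP (LK LD1_c0 LD2_c33 LD3_c5)) :=
  Lre_d IH (LK LD1_c1 LD2_c11 LD3_c26) (LK LD1_c0 LD2_c33 LD3_c5) Lrfl Lrfl
theorem f252712 : Led Lsl_dt (LP (LK LD1_c5 LD2_c1 LD3_c1)) = (LP (LK LD1_c5 LD2_c1 LD3_c58)) :=
  Lgr Lrot173 (Lpe (f184755 IH) (Lpe (f3782 IH) (Lpe (K9.f3778 IH) (Lpe (f3687 IH) (Lpe (K14.f184759 IH) (Lpe (K14.f247727 IH) (Lpe (f247752 IH) (Lpr_df (f252704 IH) (Lpe (f3756 IH) (Lpe (f3742 IH) (Lpe (K10.f3736 IH) (Lpe (f3781 IH) (Lpe (f192474 IH) (Lpe (K14.f247804 IH) (Lpe (K14.f247839 IH) (Lpn (LP (LK LD1_c5 LD2_c1 LD3_c58))))))))))))))))))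
theorem f3379 : Led Lsl_dt (LP (LK LD1_c5 LD2_c1 LD3_c60)) = (LP (LK LD1_c5 LD2_c0 LD3_c55)) :=
  Lgr Lrot60 (Lpr_ff (K2.f3357 IH) (Lpe (K0.f3318 IH) (Lpe (K0.f3378 IH) (Lpn (LP (LK LD1_c5 LD2_c0 LD3_c55))))))
theorem f252948 : Led Lsl_gf (LP (LK LD1_c5 LD2_c1 LD3_c1)) = (LP (LK LD1_c5 LD2_c1 LD3_c5)) :=
  Lgr Lrot144 (Lpr_dt (f252712 IH) (Lpe (K14.f3683 IH) (Lpr_dt (f3379 IH) (Lpe (K10.f3427 IH) (Lpe (K0.f3426 IH) (Lpe (K0.f3686 IH) (Lpe (f3687 IH) (Lpe (K14.f3688 IH) (Lpe (f3690 IH) (Lpn (LP (LK LD1_c5 LD2_c1 LD3_c5))))))))))))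
theorem f246831 : Led Lsl_dt (LP (LK LD1_c9 LD2_c52 LD3_c37)) = (LP (LK LD1_c5 LD2_c1 LD3_c5)) :=
  Lre_d IH (LK LD1_c9 LD2_c52 LD3_c37) (LK LD1_c5 LD2_c1 LD3_c5) Lrfl Lrfl
theorem f33387 : Led Lsl_dt (LP (LK LD1_c5 LD2_c0 LD3_c51)) = (LP (LK LD1_c9 LD2_c52 LD3_c3)) :=
  Lre_d IH (LK LD1_c5 LD2_c0 LD3_c51) (LK LD1_c9 LD2_c52 LD3_c3) Lrfl Lrfl
theorem f246832 : Led Lsl_gt (LP (LK LD1_c9 LD2_c52 LD3_c3)) = (LP (LK LD1_c9 LD2_c52 LD3_c37)) :=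
  Lgr Lrot49 (Lpe (f33387 IH) (Lpe (K10.f33365 IH) (Lpe (K0.f3317 IH) (Lpr_gt (K12.f33358 IH) (Lpr_dt (f213489 IH) (Lpr_gt (f171307 IH) (Lpr_dt (K14.f246821 IH) (Lpe (f3690 IH) (Lpe (f246831 IH) (Lpn (LP (LK LD1_c9 LD2_c52 LD3_c37))))))))))))
theorem f265939 : Led Lsl_cf (LP (LK LD1_c9 LD2_c52 LD3_c3)) = (LP (LK LD1_c9 LD2_c34 LD3_c43)) :=
  Lgr Lrot166 (Lpr_gt (f246832 IH) (Lpr_dt (f246831 IH) (Lpe (f252948 IH) (Lpr_dt (f252712 IH) (Lpr_ct (K14.f247839 IH) (Lpe (f247812 IH) (Lpe (f265897 IH) (Lpe (f247746 IH) (Lpr_gf (f265934 IH) (Lpn (LP (LK LD1_c9 LD2_c34 LD3_c43))))))))))))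
theorem f3571 : Led Lsl_ct (LP (LK LD1_c1 LD2_c11 LD3_c30)) = (LP (LK LD1_c0 LD2_c33 LD3_c6)) :=
  Lre_c IH (LK LD1_c1 LD2_c11 LD3_c30) (LK LD1_c0 LD2_c33 LD3_c6) Lrfl Lrfl
theorem f3734 : Led Lsl_gt (LP (LK LD1_c1 LD2_c11 LD3_c22)) = (LP (LK LD1_c2 LD2_c28 LD3_c17)) :=
  Lre_g IH (LK LD1_c1 LD2_c11 LD3_c22) (LK LD1_c2 LD2_c28 LD3_c17) Lrfl Lrfl
theorem f3735 : Led Lsl_ct (LP (LK LD1_c2 LD2_c28 LD3_c17)) = (LP (LK LD1_c5 LD2_c1 LD3_c3)) :=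
  Lre_c IH (LK LD1_c2 LD2_c28 LD3_c17) (LK LD1_c5 LD2_c1 LD3_c3) Lrfl Lrfl
theorem f3738 : Led Lsl_ct (LP (LK LD1_c5 LD2_c1 LD3_c21)) = (LP (LK LD1_c2 LD2_c28 LD3_c23)) :=
  Lre_c IH (LK LD1_c5 LD2_c1 LD3_c21) (LK LD1_c2 LD2_c28 LD3_c23) Lrfl Lrfl
theorem f3739 : Led Lsl_gt (LP (LK LD1_c5 LD2_c1 LD3_c3)) = (LP (LK LD1_c5 LD2_c1 LD3_c21)) :=
  Lgr Lrot150 (Lpe (f3735 IH) (Lpe (f3734 IH) (Lpe (K14.f3733 IH) (Lpr_gt (K0.f3686 IH) (Lpr_ct (K9.f3305 IH) (Lpr_gt (K9.f3731 IH) (Lpr_ct (K10.f3736 IH) (Lpe (f3737 IH) (Lpe (f3738 IH) (Lpn (LP (LK LD1_c5 LD2_c1 LD3_c21))))))))))))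
theorem f252717 : Led Lsl_gf (LP (LK LD1_c1 LD2_c11 LD3_c26)) = (LP (LK LD1_c2 LD2_c28 LD3_c17)) :=
  Lgr Lrot144 (Lpr_dt (f3781 IH) (Lpr_gt (K9.f3777 IH) (Lpr_dt (K0.f3573 IH) (Lpe (f3571 IH) (Lpe (K0.f3570 IH) (Lpe (f3421 IH) (Lpr_df (f252704 IH) (Lpe (f3739 IH) (Lpe (f3735 IH) (Lpn (LP (LK LD1_c2 LD2_c28 LD3_c17))))))))))))
theorem f3749 : Led Lsl_ct (LP (LK LD1_c5 LD2_c1 LD3_c3)) = (LP (LK LD1_c2 LD2_c28 LD3_c17)) :=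
  Lre_c IH (LK LD1_c5 LD2_c1 LD3_c3) (LK LD1_c2 LD2_c28 LD3_c17) Lrfl Lrfl
theorem f252743 : Led Lsl_gt (LP (LK LD1_c5 LD2_c1 LD3_c1)) = (LP (LK LD1_c5 LD2_c1 LD3_c3)) :=
  Lgr Lrot146 (Lpr_dt (f252712 IH) (Lpe (K14.f3683 IH) (Lpr_ct (K2.f3356 IH) (Lpr_gt (K14.f3428 IH) (Lpr_ct (K14.f247839 IH) (Lpr_dt (K14.f247804 IH) (Lpe (K14.f33604 IH) (Lpr_gf (f252717 IH) (Lpe (f3749 IH) (Lpn (LP (LK LD1_c5 LD2_c1 LD3_c3))))))))))))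
theorem f252763 : Led Lsl_df (LP (LK LD1_c5 LD2_c1 LD3_c1)) = (LP (LK LD1_c5 LD2_c1 LD3_c58)) :=
  Lgr Lrot155 (Lpr_gt (f252743 IH) (Lpr_ct (f3749 IH) (Lpe (f252717 IH) (Lpr_ct (K14.f33604 IH) (Lpr_dt (f247812 IH) (Lpe (K14.f247839 IH) (Lpe (K14.f3428 IH) (Lpe (K2.f3356 IH) (Lpr_gf (K14.f3683 IH) (Lpn (LP (LK LD1_c5 LD2_c1 LD3_c58))))))))))))
theorem f3751 : Led Lsl_dt (LP (LK LD1_c5 LD2_c1 LD3_c3)) = (LP (LK LD1_c9 LD2_c52 LD3_c31)) :=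
  Lre_d IH (LK LD1_c5 LD2_c1 LD3_c3) (LK LD1_c9 LD2_c52 LD3_c31) Lrfl Lrfl
theorem f247925 : Led Lsl_dt (LP (LK LD1_c5 LD2_c1 LD3_c59)) = (LP (LK LD1_c5 LD2_c1 LD3_c21)) :=
  Lgr Lrot105 (Lpe (f3422 IH) (Lpr_df (f3414 IH) (Lpe (K10.f3429 IH) (Lpr_cf (K10.f184757 IH) (Lpr_gt (K14.f247895 IH) (Lpr_dt (K1.f45849 IH) (Lpr_gt (K10.f192470 IH) (Lpr_dt (f3742 IH) (Lpe (f3738 IH) (Lpn (LP (LK LD1_c5 LD2_c1 LD3_c21))))))))))))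
theorem f246825 : Led Lsl_dt (LP (LK LD1_c5 LD2_c1 LD3_c5)) = (LP (LK LD1_c9 LD2_c52 LD3_c37)) :=
  Lre_d IH (LK LD1_c5 LD2_c1 LD3_c5) (LK LD1_c9 LD2_c52 LD3_c37) Lrfl Lrfl
theorem f252773 : Led Lsl_cf (LP (LK LD1_c9 LD2_c52 LD3_c31)) = (LP (LK LD1_c9 LD2_c52 LD3_c37)) :=
  Lgr Lrot14 (Lpe (f3751 IH) (Lpe (f252743 IH) (Lpr_df (f252763 IH) (Lpe (K14.f3428 IH) (Lpr_ct (K14.f3339 IH) (Lpr_gt (f3422 IH) (Lpr_dt (f247925 IH) (Lpe (f252702 IH) (Lpr_dt (f246825 IH) (Lpn (LP (LK LD1_c9 LD2_c52 LD3_c37))))))))))))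
theorem f3750 : Led Lsl_dt (LP (LK LD1_c9 LD2_c52 LD3_c31)) = (LP (LK LD1_c5 LD2_c1 LD3_c3)) :=
  Lre_d IH (LK LD1_c9 LD2_c52 LD3_c31) (LK LD1_c5 LD2_c1 LD3_c3) Lrfl Lrfl
theorem f184760 : Led Lsl_gt (LP (LK LD1_c5 LD2_c1 LD3_c8)) = (LP (LK LD1_c2 LD2_c28 LD3_c19)) :=
  Lre_g IH (LK LD1_c5 LD2_c1 LD3_c8) (LK LD1_c2 LD2_c28 LD3_c19) Lrfl Lrfl
theorem f252780 : Led Lsl_dt (LP (LK LD1_c5 LD2_c1 LD3_c8)) = (LP (LK LD1_c9 LD2_c52 LD3_c43)) :=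
  Lre_d IH (LK LD1_c5 LD2_c1 LD3_c8) (LK LD1_c9 LD2_c52 LD3_c43) Lrfl Lrfl
theorem f265953 : Led Lsl_gt (LP (LK LD1_c9 LD2_c52 LD3_c43)) = (LP (LK LD1_c9 LD2_c34 LD3_c43)) :=
  Lgr Lrot9 (Lpe (f252780 IH) (Lpr_gt (f184760 IH) (Lpr_ct (K14.f184759 IH) (Lpr_gt (f3734 IH) (Lpr_ct (f3735 IH) (Lpe (f3750 IH) (Lpr_cf (f252773 IH) (Lpe (f246832 IH) (Lpr_cf (f265939 IH) (Lpn (LP (LK LD1_c9 LD2_c34 LD3_c43))))))))))))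
theorem f33386 : Led Lsl_dt (LP (LK LD1_c9 LD2_c34 LD3_c43)) = (LP (LK LD1_c4 LD2_c51 LD3_c18)) :=
  Lre_d IH (LK LD1_c9 LD2_c34 LD3_c43) (LK LD1_c4 LD2_c51 LD3_c18) Lrfl Lrfl
theorem f46550 : Led Lsl_ft (LP (LK LD1_c8 LD2_c5 LD3_c46)) = (LP (LK LD1_c4 LD2_c2 LD3_c35)) :=
  Lre_f IH (LK LD1_c8 LD2_c5 LD3_c46) (LK LD1_c4 LD2_c2 LD3_c35) Lrfl Lrfl
theorem f46534 : Led Lsl_af (LP (LK LD1_c2 LD2_c36 LD3_c32)) = (LP (LK LD1_c4 LD2_c2 LD3_c35)) :=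
  Lgr Lrot68 (Lpr_ct (K1.f45886 IH) (Lpr_at (K1.f46528 IH) (Lpr_ct (K9.f45866 IH) (Lpn (LP (LK LD1_c4 LD2_c2 LD3_c35))))))
theorem f247952 : Led Lsl_gt (LP (LK LD1_c4 LD2_c51 LD3_c18)) = (LP (LK LD1_c2 LD2_c36 LD3_c32)) :=
  Lgr Lrot46 (Lpr_gf (K14.f247927 IH) (Lpr_ft (f46550 IH) (Lpe (f46534 IH) (Lpn (LP (LK LD1_c2 LD2_c36 LD3_c32))))))
theorem f247790 : Led Lsl_cf (LP (LK LD1_c5 LD2_c19 LD3_c46)) = (LP (LK LD1_c9 LD2_c52 LD3_c50)) :=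
  Lgr Lrot1 (Lpr_at (K14.f47030 IH) (Lpr_ct (K9.f45902 IH) (Lpr_at (K14.f247739 IH) (Lpn (LP (LK LD1_c9 LD2_c52 LD3_c50))))))
theorem f184213 : Led Lsl_dt (LP (LK LD1_c5 LD2_c1 LD3_c35)) = (LP (LK LD1_c2 LD2_c28 LD3_c29)) :=
  Lre_d IH (LK LD1_c5 LD2_c1 LD3_c35) (LK LD1_c2 LD2_c28 LD3_c29) Lrfl Lrfl
theorem f184214 : Led Lsl_gt (LP (LK LD1_c9 LD2_c53 LD3_c31)) = (LP (LK LD1_c5 LD2_c1 LD3_c35)) :=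
  Lre_g IH (LK LD1_c9 LD2_c53 LD3_c31) (LK LD1_c5 LD2_c1 LD3_c35) Lrfl Lrfl
theorem f265957 : Led Lsl_ct (LP (LK LD1_c9 LD2_c52 LD3_c43)) = (LP (LK LD1_c9 LD2_c53 LD3_c31)) :=
  Lgr Lrot8 (Lpr_gt (f265953 IH) (Lpr_dt (f33386 IH) (Lpr_gt (f247952 IH) (Lpr_dt (K14.f45878 IH) (Lpr_cf (f247790 IH) (Lpe (K14.f247800 IH) (Lpe (K9.f165897 IH) (Lpe (f184213 IH) (Lpe (f184214 IH) (Lpn (LP (LK LD1_c9 LD2_c53 LD3_c31))))))))))))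
theorem f3430 : Led Lsl_gt (LP (LK LD1_c5 LD2_c0 LD3_c55)) = (LP (LK LD1_c2 LD2_c28 LD3_c35)) :=
  Lre_g IH (LK LD1_c5 LD2_c0 LD3_c55) (LK LD1_c2 LD2_c28 LD3_c35) Lrfl Lrfl
theorem f3685 : Led Lsl_dt (LP (LK LD1_c2 LD2_c28 LD3_c35)) = (LP (LK LD1_c5 LD2_c1 LD3_c51)) :=
  Lre_d IH (LK LD1_c2 LD2_c28 LD3_c35) (LK LD1_c5 LD2_c1 LD3_c51) Lrfl Lrfl
theorem f184546 : Led Lsl_dt (LP (LK LD1_c2 LD2_c28 LD3_c29)) = (LP (LK LD1_c5 LD2_c1 LD3_c35)) :=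
  Lre_d IH (LK LD1_c2 LD2_c28 LD3_c29) (LK LD1_c5 LD2_c1 LD3_c35) Lrfl Lrfl
theorem f247893 : Led Lsl_cf (LP (LK LD1_c5 LD2_c1 LD3_c51)) = (LP (LK LD1_c5 LD2_c1 LD3_c35)) :=
  Lgr Lrot14 (Lpe (f3685 IH) (Lpe (f3430 IH) (Lpe (f3379 IH) (Lpr_gf (K14.f3683 IH) (Lpr_ct (K14.f247839 IH) (Lpr_gt (K14.f247888 IH) (Lpr_dt (K9.f45865 IH) (Lpe (K13.f184544 IH) (Lpr_dt (f184546 IH) (Lpn (LP (LK LD1_c5 LD2_c1 LD3_c35))))))))))))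
theorem f186870 : Led Lsl_dt (LP (LK LD1_c9 LD2_c51 LD3_c60)) = (LP (LK LD1_c5 LD2_c0 LD3_c49)) :=
  Lre_d IH (LK LD1_c9 LD2_c51 LD3_c60) (LK LD1_c5 LD2_c0 LD3_c49) Lrfl Lrfl
theorem f266006 : Led Lsl_gf (LP (LK LD1_c9 LD2_c52 LD3_c43)) = (LP (LK LD1_c9 LD2_c51 LD3_c60)) :=
  Lgr Lrot147 (Lpr_ct (f265957 IH) (Lpr_gt (f184214 IH) (Lpe (f247893 IH) (Lpe (f3685 IH) (Lpr_cf (K14.f232010 IH) (Lpe (K14.f233413 IH) (Lpe (K9.f45893 IH) (Lpe (K12.f186859 IH) (Lpe (f186870 IH) (Lpn (LP (LK LD1_c9 LD2_c51 LD3_c60))))))))))))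
theorem f3392 : Led Lsl_dt (LP (LK LD1_c5 LD2_c0 LD3_c52)) = (LP (LK LD1_c9 LD2_c52 LD3_c6)) :=
  Lre_d IH (LK LD1_c5 LD2_c0 LD3_c52) (LK LD1_c9 LD2_c52 LD3_c6) Lrfl Lrfl
theorem f186872 : Led Lsl_dt (LP (LK LD1_c5 LD2_c0 LD3_c49)) = (LP (LK LD1_c9 LD2_c51 LD3_c60)) :=
  Lre_d IH (LK LD1_c5 LD2_c0 LD3_c49) (LK LD1_c9 LD2_c51 LD3_c60) Lrfl Lrfl
theorem f248052 : Led Lsl_ct (LP (LK LD1_c9 LD2_c52 LD3_c6)) = (LP (LK LD1_c9 LD2_c51 LD3_c60)) :=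
  Lgr Lrot7 (Lpe (f3392 IH) (Lpe (K10.f3391 IH) (Lpe (K0.f3312 IH) (Lpr_gf (K14.f3389 IH) (Lpr_cf (K14.f247954 IH) (Lpr_gt (K14.f186880 IH) (Lpr_dt (K1.f45903 IH) (Lpe (K12.f186865 IH) (Lpr_dt (f186872 IH) (Lpn (LP (LK LD1_c9 LD2_c51 LD3_c60))))))))))))
theorem f265961 : Led Lsl_cf (LP (LK LD1_c9 LD2_c52 LD3_c43)) = (LP (LK LD1_c9 LD2_c53 LD3_c31)) :=
  Lgr Lrot166 (Lpr_gt (f265953 IH) (Lpr_dt (f33386 IH) (Lpr_gt (f247952 IH) (Lpr_dt (K14.f45878 IH) (Lpr_ct (K14.f247796 IH) (Lpe (K14.f247800 IH) (Lpe (K9.f165897 IH) (Lpe (f184213 IH) (Lpe (f184214 IH) (Lpn (LP (LK LD1_c9 LD2_c53 LD3_c31))))))))))))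
theorem f33312 : Led Lsl_dt (LP (LK LD1_c5 LD2_c1 LD3_c42)) = (LP (LK LD1_c2 LD2_c28 LD3_c32)) :=
  Lre_d IH (LK LD1_c5 LD2_c1 LD3_c42) (LK LD1_c2 LD2_c28 LD3_c32) Lrfl Lrfl
theorem f265963 : Led Lsl_gf (LP (LK LD1_c9 LD2_c53 LD3_c31)) = (LP (LK LD1_c5 LD2_c1 LD3_c42)) :=
  Lgr Lrot147 (Lpe (f265961 IH) (Lpr_gt (f265953 IH) (Lpe (f265939 IH) (Lpe (f33387 IH) (Lpe (K10.f180748 IH) (Lpe (K12.f212443 IH) (Lpe (K9.f45858 IH) (Lpr_gf (K14.f247722 IH) (Lpe (f33312 IH) (Lpn (LP (LK LD1_c5 LD2_c1 LD3_c42))))))))))))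
theorem f33304 : Led Lsl_dt (LP (LK LD1_c2 LD2_c28 LD3_c32)) = (LP (LK LD1_c5 LD2_c1 LD3_c42)) :=
  Lre_d IH (LK LD1_c2 LD2_c28 LD3_c32) (LK LD1_c5 LD2_c1 LD3_c42) Lrfl Lrfl
theorem f256277 : Led Lsl_gt (LP (LK LD1_c2 LD2_c23 LD3_c23)) = (LP (LK LD1_c1 LD2_c58 LD3_c33)) :=
  Lgr Lrot65 (Lpe (K10.f33383 IH) (Lpr_bt (K11.f186895 IH) (Lpe (K13.f236128 IH) (Lpe (K14.f236134 IH) (Lpe (K14.f251287 IH) (Lpe (K14.f246661 IH) (Lpr_cf (K14.f230322 IH) (Lpr_gf (K14.f256262 IH) (Lpe (f256276 IH) (Lpe (f192197 IH) (Lpn (LP (LK LD1_c1 LD2_c58 LD3_c33)))))))))))))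
theorem f184824 : Led Lsl_ct (LP (LK LD1_c8 LD2_c6 LD3_c48)) = (LP (LK LD1_c4 LD2_c3 LD3_c6)) :=
  Lre_c IH (LK LD1_c8 LD2_c6 LD3_c48) (LK LD1_c4 LD2_c3 LD3_c6) Lrfl Lrfl
theorem f265968 : Led Lsl_dt (LP (LK LD1_c9 LD2_c53 LD3_c31)) = (LP (LK LD1_c8 LD2_c6 LD3_c48)) :=
  Lgr Lrot105 (Lpr_gf (f265963 IH) (Lpe (f33304 IH) (Lpe (K14.f247725 IH) (Lpr_cf (K9.f184521 IH) (Lpr_gt (K10.f46540 IH) (Lpe (K10.f186857 IH) (Lpr_gt (f256277 IH) (Lpr_dt (f28069 IH) (Lpe (f184824 IH) (Lpn (LP (LK LD1_c8 LD2_c6 LD3_c48))))))))))))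
theorem f265976 : Led Lsl_df (LP (LK LD1_c9 LD2_c53 LD3_c31)) = (LP (LK LD1_c8 LD2_c6 LD3_c48)) :=
  Lgr Lrot38 (Lpr_dt (f265968 IH) (Lpn (LP (LK LD1_c8 LD2_c6 LD3_c48))))
theorem f184823 : Led Lsl_ct (LP (LK LD1_c4 LD2_c3 LD3_c6)) = (LP (LK LD1_c8 LD2_c6 LD3_c48)) :=
  Lre_c IH (LK LD1_c4 LD2_c3 LD3_c6) (LK LD1_c8 LD2_c6 LD3_c48) Lrfl Lrfl
theorem f184765 : Led Lsl_gt (LP (LK LD1_c2 LD2_c28 LD3_c15)) = (LP (LK LD1_c4 LD2_c3 LD3_c6)) :=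
  Lgr Lrot139 (Lpe (f3782 IH) (Lpr_gf (K9.f184614 IH) (Lpe (K1.f44918 IH) (Lpr_dt (K1.f44589 IH) (Lpe (K0.f748 IH) (Lpe (K0.f9633 IH) (Lpr_et (K9.f27789 IH) (Lpe (K10.f44919 IH) (Lpe (f28068 IH) (Lpr_dt (f28069 IH) (Lpn (LP (LK LD1_c4 LD2_c3 LD3_c6)))))))))))))
theorem f3780 : Led Lsl_ct (LP (LK LD1_c5 LD2_c1 LD3_c1)) = (LP (LK LD1_c2 LD2_c28 LD3_c15)) :=
  Lre_c IH (LK LD1_c5 LD2_c1 LD3_c1) (LK LD1_c2 LD2_c28 LD3_c15) Lrfl Lrfl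
theorem f266008 : Led Lsl_gf (LP (LK LD1_c9 LD2_c52 LD3_c6)) = (LP (LK LD1_c9 LD2_c52 LD3_c37)) :=
  Lgr Lrot147 (Lpr_ct (f248052 IH) (Lpe (f266006 IH) (Lpr_ct (f265957 IH) (Lpr_df (f265976 IH) (Lpe (f184823 IH) (Lpe (f184765 IH) (Lpe (f3780 IH) (Lpr_gf (f252948 IH) (Lpe (f246831 IH) (Lpn (LP (LK LD1_c9 LD2_c52 LD3_c37))))))))))))
theorem f252769 : Led Lsl_ct (LP (LK LD1_c9 LD2_c52 LD3_c31)) = (LP (LK LD1_c9 LD2_c52 LD3_c37)) :=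
  Lgr Lrot7 (Lpe (f3751 IH) (Lpe (f252743 IH) (Lpr_df (f252763 IH) (Lpe (K14.f3428 IH) (Lpe (K2.f3356 IH) (Lpr_gt (f3422 IH) (Lpr_dt (f247925 IH) (Lpe (f252702 IH) (Lpr_dt (f246825 IH) (Lpn (LP (LK LD1_c9 LD2_c52 LD3_c37))))))))))))
theorem f266014 : Led Lsl_gt (LP (LK LD1_c9 LD2_c52 LD3_c6)) = (LP (LK LD1_c9 LD2_c52 LD3_c31)) :=
  Lgr Lrot9 (Lpe (f3392 IH) (Lpr_gt (K10.f3365 IH) (Lpr_ct (K0.f3328 IH) (Lpr_gt (K12.f33358 IH) (Lpr_ct (K12.f186852 IH) (Lpe (f186870 IH) (Lpe (f248052 IH) (Lpr_gf (f266008 IH) (Lpe (f252769 IH) (Lpn (LP (LK LD1_c9 LD2_c52 LD3_c31))))))))))))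
theorem f248058 : Led Lsl_cf (LP (LK LD1_c9 LD2_c52 LD3_c6)) = (LP (LK LD1_c9 LD2_c51 LD3_c60)) :=
  Lgr Lrot11 (Lpr_ct (f248052 IH) (Lpn (LP (LK LD1_c9 LD2_c51 LD3_c60))))
theorem f3779 : Led Lsl_dt (LP (LK LD1_c2 LD2_c28 LD3_c15)) = (LP (LK LD1_c1 LD2_c11 LD3_c21)) :=
  Lre_d IH (LK LD1_c2 LD2_c28 LD3_c15) (LK LD1_c1 LD2_c11 LD3_c21) Lrfl Lrfl
theorem f252950 : Led Lsl_gt (LP (LK LD1_c1 LD2_c11 LD3_c26)) = (LP (LK LD1_c2 LD2_c28 LD3_c18)) :=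
  Lgr Lrot9 (Lpe (K14.f3732 IH) (Lpr_gt (K9.f3777 IH) (Lpr_ct (K9.f3117 IH) (Lpr_gt (K9.f3776 IH) (Lpr_ct (K9.f3778 IH) (Lpe (f3779 IH) (Lpe (f3780 IH) (Lpr_gf (f252948 IH) (Lpe (f3689 IH) (Lpn (LP (LK LD1_c2 LD2_c28 LD3_c18))))))))))))
theorem f266016 : Led Lsl_gf (LP (LK LD1_c9 LD2_c51 LD3_c60)) = (LP (LK LD1_c9 LD2_c52 LD3_c40)) :=
  Lgr Lrot147 (Lpe (f248058 IH) (Lpr_gt (f266014 IH) (Lpr_ct (f252769 IH) (Lpe (f246825 IH) (Lpe (f3689 IH) (Lpe (f252950 IH) (Lpe (f192474 IH) (Lpe (f265897 IH) (Lpe (f247746 IH) (Lpn (LP (LK LD1_c9 LD2_c52 LD3_c40))))))))))))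
theorem f3366 : Led Lsl_dt (LP (LK LD1_c9 LD2_c52 LD3_c6)) = (LP (LK LD1_c5 LD2_c0 LD3_c52)) :=
  Lre_d IH (LK LD1_c9 LD2_c52 LD3_c6) (LK LD1_c5 LD2_c0 LD3_c52) Lrfl Lrfl
theorem f184547 : Led Lsl_gt (LP (LK LD1_c5 LD2_c1 LD3_c35)) = (LP (LK LD1_c9 LD2_c53 LD3_c30)) :=
  Lre_g IH (LK LD1_c5 LD2_c1 LD3_c35) (LK LD1_c9 LD2_c53 LD3_c30) Lrfl Lrfl
theorem f266020 : Led Lsl_ct (LP (LK LD1_c9 LD2_c53 LD3_c30)) = (LP (LK LD1_c9 LD2_c52 LD3_c40)) :=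
  Lgr Lrot152 (Lpe (f184547 IH) (Lpe (f184546 IH) (Lpr_gt (K9.f165897 IH) (Lpr_ct (K9.f184532 IH) (Lpr_gt (K10.f46540 IH) (Lpr_ct (K10.f192931 IH) (Lpe (f3366 IH) (Lpr_cf (f248058 IH) (Lpr_gf (f266016 IH) (Lpn (LP (LK LD1_c9 LD2_c52 LD3_c40))))))))))))
theorem f266028 : Led Lsl_gt (LP (LK LD1_c9 LD2_c53 LD3_c30)) = (LP (LK LD1_c5 LD2_c1 LD3_c42)) :=
  Lgr Lrot180 (Lpr_ct (f266020 IH) (Lpe (f266016 IH) (Lpr_dt (f186870 IH) (Lpr_gt (K12.f186859 IH) (Lpr_dt (K9.f46542 IH) (Lpr_ct (K9.f45875 IH) (Lpe (K1.f45901 IH) (Lpr_gf (K14.f247722 IH) (Lpe (f33312 IH) (Lpn (LP (LK LD1_c5 LD2_c1 LD3_c42))))))))))))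
theorem f266026 : Led Lsl_cf (LP (LK LD1_c9 LD2_c53 LD3_c30)) = (LP (LK LD1_c9 LD2_c52 LD3_c40)) :=
  Lgr Lrot11 (Lpr_ct (f266020 IH) (Lpn (LP (LK LD1_c9 LD2_c52 LD3_c40))))
theorem f21842 : Led Lsl_dt (LP (LK LD1_c2 LD2_c28 LD3_c34)) = (LP (LK LD1_c5 LD2_c1 LD3_c48)) :=
  Lre_d IH (LK LD1_c2 LD2_c28 LD3_c34) (LK LD1_c5 LD2_c1 LD3_c48) Lrfl Lrfl
theorem f266030 : Led Lsl_cf (LP (LK LD1_c5 LD2_c1 LD3_c48)) = (LP (LK LD1_c5 LD2_c1 LD3_c42)) :=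
  Lgr Lrot99 (Lpe (f21842 IH) (Lpr_cf (K10.f184757 IH) (Lpe (K10.f184756 IH) (Lpe (K1.f45886 IH) (Lpe (f247952 IH) (Lpe (f33386 IH) (Lpe (f265934 IH) (Lpe (f266026 IH) (Lpr_gt (f266028 IH) (Lpn (LP (LK LD1_c5 LD2_c1 LD3_c42))))))))))))
theorem f21843 : Led Lsl_gt (LP (LK LD1_c5 LD2_c1 LD3_c48)) = (LP (LK LD1_c9 LD2_c54 LD3_c2)) :=
  Lre_g IH (LK LD1_c5 LD2_c1 LD3_c48) (LK LD1_c9 LD2_c54 LD3_c2) Lrfl Lrfl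
theorem f186877 : Led Lsl_dt (LP (LK LD1_c5 LD2_c0 LD3_c47)) = (LP (LK LD1_c9 LD2_c51 LD3_c57)) :=
  Lre_d IH (LK LD1_c5 LD2_c0 LD3_c47) (LK LD1_c9 LD2_c51 LD3_c57) Lrfl Lrfl
theorem f259079 : Led Lsl_gt (LP (LK LD1_c8 LD2_c6 LD3_c48)) = (LP (LK LD1_c5 LD2_c0 LD3_c47)) :=
  Lgr Lrot94 (Lpe (f184823 IH) (Lpr_gt (f259077 IH) (Lpr_dt (f3737 IH) (Lpe (f192472 IH) (Lpr_dt (K12.f45876 IH) (Lpe (K1.f45886 IH) (Lpe (K1.f45903 IH) (Lpe (K14.f186880 IH) (Lpe (f186877 IH) (Lpn (LP (LK LD1_c5 LD2_c0 LD3_c47))))))))))))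
theorem f47784 : Led Lsl_bt (LP (LK LD1_c2 LD2_c34 LD3_c27)) = (LP (LK LD1_c1 LD2_c14 LD3_c17)) :=
  Lre_b IH (LK LD1_c2 LD2_c34 LD3_c27) (LK LD1_c1 LD2_c14 LD3_c17) Lrfl Lrfl
theorem f183682 : Led Lsl_ct (LP (LK LD1_c2 LD2_c34 LD3_c27)) = (LP (LK LD1_c5 LD2_c15 LD3_c12)) :=
  Lre_c IH (LK LD1_c2 LD2_c34 LD3_c27) (LK LD1_c5 LD2_c15 LD3_c12) Lrfl Lrfl
theorem f3394 : Led Lsl_ct (LP (LK LD1_c5 LD2_c0 LD3_c45)) = (LP (LK LD1_c9 LD2_c51 LD3_c52)) :=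
  Lre_c IH (LK LD1_c5 LD2_c0 LD3_c45) (LK LD1_c9 LD2_c51 LD3_c52) Lrfl Lrfl
theorem f239569 : Led Lsl_gf (LP (LK LD1_c5 LD2_c15 LD3_c12)) = (LP (LK LD1_c9 LD2_c51 LD3_c52)) :=
  Lgr Lrot126 (Lpe (f183682 IH) (Lpr_bt (f47784 IH) (Lpr_gt (K9.f45398 IH) (Lpr_ct (K14.f47748 IH) (Lpe (K14.f183675 IH) (Lpe (K14.f183680 IH) (Lpr_bt (K14.f195643 IH) (Lpr_gt (K12.f229140 IH) (Lpr_bf (K13.f239550 IH) (Lpr_ct (f3394 IH) (Lpn (LP (LK LD1_c9 LD2_c51 LD3_c52)))))))))))))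
theorem f239571 : Led Lsl_dt (LP (LK LD1_c5 LD2_c15 LD3_c12)) = (LP (LK LD1_c9 LD2_c52 LD3_c13)) :=
  Lgr Lrot57 (Lpr_gf (f239569 IH) (Lpe (f3394 IH) (Lpr_gt (K13.f3393 IH) (Lpr_dt (K13.f3336 IH) (Lpr_gt (K10.f3335 IH) (Lpr_dt (K0.f3307 IH) (Lpe (K0.f3311 IH) (Lpe (K0.f3312 IH) (Lpr_gf (K14.f3389 IH) (Lpn (LP (LK LD1_c9 LD2_c52 LD3_c13))))))))))))
theorem f266042 : Led Lsl_dt (LP (LK LD1_c9 LD2_c54 LD3_c2)) = (LP (LK LD1_c9 LD2_c51 LD3_c52)) :=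
  Lgr Lrot57 (Lpe (f21843 IH) (Lpr_cf (f266030 IH) (Lpe (f265963 IH) (Lpr_dt (f265968 IH) (Lpr_gt (f259079 IH) (Lpr_dt (f186877 IH) (Lpe (K14.f248050 IH) (Lpe (f239571 IH) (Lpr_gf (f239569 IH) (Lpn (LP (LK LD1_c9 LD2_c51 LD3_c52))))))))))))
theorem f47785 : Led Lsl_ct (LP (LK LD1_c5 LD2_c15 LD3_c12)) = (LP (LK LD1_c2 LD2_c34 LD3_c27)) :=
  Lre_c IH (LK LD1_c5 LD2_c15 LD3_c12) (LK LD1_c2 LD2_c34 LD3_c27) Lrfl Lrfl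
theorem f247741 : Led Lsl_dt (LP (LK LD1_c5 LD2_c1 LD3_c7)) = (LP (LK LD1_c9 LD2_c52 LD3_c40)) :=
  Lre_d IH (LK LD1_c5 LD2_c1 LD3_c7) (LK LD1_c9 LD2_c52 LD3_c40) Lrfl Lrfl
theorem f247891 : Led Lsl_ct (LP (LK LD1_c5 LD2_c1 LD3_c51)) = (LP (LK LD1_c5 LD2_c1 LD3_c35)) :=
  Lgr Lrot7 (Lpe (f3685 IH) (Lpe (f3430 IH) (Lpe (f3379 IH) (Lpr_gf (K14.f3683 IH) (Lpr_cf (K14.f247807 IH) (Lpr_gt (K14.f247888 IH) (Lpr_dt (K9.f45865 IH) (Lpe (K13.f184544 IH) (Lpr_dt (f184546 IH) (Lpn (LP (LK LD1_c5 LD2_c1 LD3_c35))))))))))))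
theorem f266057 : Led Lsl_gt (LP (LK LD1_c9 LD2_c54 LD3_c2)) = (LP (LK LD1_c5 LD2_c1 LD3_c51)) :=
  Lgr Lrot146 (Lpr_dt (f266042 IH) (Lpe (f239569 IH) (Lpr_ct (f47785 IH) (Lpe (f265904 IH) (Lpe (f251459 IH) (Lpr_dt (f247741 IH) (Lpe (f266020 IH) (Lpe (f184547 IH) (Lpe (f247891 IH) (Lpn (LP (LK LD1_c5 LD2_c1 LD3_c51))))))))))))
theorem f3582 : Led Lsl_dt (LP (LK LD1_c5 LD2_c1 LD3_c51)) = (LP (LK LD1_c2 LD2_c28 LD3_c35)) :=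
  Lre_d IH (LK LD1_c5 LD2_c1 LD3_c51) (LK LD1_c2 LD2_c28 LD3_c35) Lrfl Lrfl
theorem f3575 : Led Lsl_dt (LP (LK LD1_c1 LD2_c11 LD3_c30)) = (LP (LK LD1_c2 LD2_c28 LD3_c37)) :=
  Lre_d IH (LK LD1_c1 LD2_c11 LD3_c30) (LK LD1_c2 LD2_c28 LD3_c37) Lrfl Lrfl
theorem f3583 : Led Lsl_dt (LP (LK LD1_c5 LD2_c1 LD3_c48)) = (LP (LK LD1_c2 LD2_c28 LD3_c34)) :=
  Lre_d IH (LK LD1_c5 LD2_c1 LD3_c48) (LK LD1_c2 LD2_c28 LD3_c34) Lrfl Lrfl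
theorem f3584 : Led Lsl_gt (LP (LK LD1_c9 LD2_c54 LD3_c3)) = (LP (LK LD1_c5 LD2_c1 LD3_c48)) :=
  Lre_g IH (LK LD1_c9 LD2_c54 LD3_c3) (LK LD1_c5 LD2_c1 LD3_c48) Lrfl Lrfl
theorem f266067 : Led Lsl_cf (LP (LK LD1_c9 LD2_c54 LD3_c2)) = (LP (LK LD1_c9 LD2_c54 LD3_c3)) :=
  Lgr Lrot166 (Lpr_gt (f266057 IH) (Lpr_dt (f3582 IH) (Lpr_gt (K14.f3581 IH) (Lpr_dt (f3575 IH) (Lpr_ct (K14.f3339 IH) (Lpr_df (f3414 IH) (Lpe (K10.f3429 IH) (Lpe (f3583 IH) (Lpe (f3584 IH) (Lpn (LP (LK LD1_c9 LD2_c54 LD3_c3))))))))))))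
theorem f266069 : Led Lsl_gf (LP (LK LD1_c9 LD2_c54 LD3_c3)) = (LP (LK LD1_c5 LD2_c1 LD3_c51)) :=
  Lgr Lrot147 (Lpe (f266067 IH) (Lpr_gt (f266057 IH) (Lpr_ct (f247891 IH) (Lpe (f184546 IH) (Lpe (K9.f165896 IH) (Lpe (K9.f21861 IH) (Lpe (f3571 IH) (Lpe (K14.f3581 IH) (Lpe (f3582 IH) (Lpn (LP (LK LD1_c5 LD2_c1 LD3_c51))))))))))))
theorem f22087 : Led Lsl_ct (LP (LK LD1_c5 LD2_c9 LD3_c46)) = (LP (LK LD1_c2 LD2_c31 LD3_c58)) :=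
  Lre_c IH (LK LD1_c5 LD2_c9 LD3_c46) (LK LD1_c2 LD2_c31 LD3_c58) Lrfl Lrfl
theorem f266078 : Led Lsl_dt (LP (LK LD1_c9 LD2_c54 LD3_c3)) = (LP (LK LD1_c5 LD2_c9 LD3_c46)) :=
  Lgr Lrot105 (Lpr_gf (f266069 IH) (Lpe (f3685 IH) (Lpe (f3430 IH) (Lpe (K10.f3427 IH) (Lpr_gt (K0.f33315 IH) (Lpe (K14.f33305 IH) (Lpe (K14.f253165 IH) (Lpe (K13.f22070 IH) (Lpe (f22087 IH) (Lpn (LP (LK LD1_c5 LD2_c9 LD3_c46))))))))))))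
theorem f266065 : Led Lsl_ct (LP (LK LD1_c9 LD2_c54 LD3_c2)) = (LP (LK LD1_c9 LD2_c54 LD3_c3)) :=
  Lgr Lrot8 (Lpr_gt (f266057 IH) (Lpr_dt (f3582 IH) (Lpr_gt (K14.f3581 IH) (Lpr_dt (f3575 IH) (Lpe (K2.f3356 IH) (Lpr_df (f3414 IH) (Lpe (K10.f3429 IH) (Lpe (f3583 IH) (Lpe (f3584 IH) (Lpn (LP (LK LD1_c9 LD2_c54 LD3_c3))))))))))))
theorem f22086 : Led Lsl_ct (LP (LK LD1_c2 LD2_c31 LD3_c58)) = (LP (LK LD1_c5 LD2_c9 LD3_c46)) :=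
  Lre_c IH (LK LD1_c2 LD2_c31 LD3_c58) (LK LD1_c5 LD2_c9 LD3_c46) Lrfl Lrfl
theorem f33360 : Led Lsl_ct (LP (LK LD1_c5 LD2_c0 LD3_c46)) = (LP (LK LD1_c2 LD2_c28 LD3_c7)) :=
  Lre_c IH (LK LD1_c5 LD2_c0 LD3_c46) (LK LD1_c2 LD2_c28 LD3_c7) Lrfl Lrfl
theorem f186849 : Led Lsl_gt (LP (LK LD1_c9 LD2_c51 LD3_c53)) = (LP (LK LD1_c5 LD2_c0 LD3_c46)) :=
  Lre_g IH (LK LD1_c9 LD2_c51 LD3_c53) (LK LD1_c5 LD2_c0 LD3_c46) Lrfl Lrfl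
theorem f266088 : Led Lsl_df (LP (LK LD1_c9 LD2_c53 LD3_c30)) = (LP (LK LD1_c9 LD2_c51 LD3_c53)) :=
  Lgr Lrot155 (Lpr_gt (f266028 IH) (Lpe (f266030 IH) (Lpr_gt (f21843 IH) (Lpr_ct (f266065 IH) (Lpr_dt (f266078 IH) (Lpe (f22086 IH) (Lpe (K13.f190953 IH) (Lpe (f33360 IH) (Lpe (f186849 IH) (Lpn (LP (LK LD1_c9 LD2_c51 LD3_c53))))))))))))
theorem f266093 : Led Lsl_gt (LP (LK LD1_c5 LD2_c0 LD3_c47)) = (LP (LK LD1_c9 LD2_c51 LD3_c53)) :=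
  Lgr Lrot49 (Lpe (K14.f186867 IH) (Lpr_gf (K14.f186868 IH) (Lpe (K9.f45902 IH) (Lpr_gt (K14.f247728 IH) (Lpr_dt (K14.f247727 IH) (Lpr_gt (f240164 IH) (Lpr_dt (f247741 IH) (Lpe (f266020 IH) (Lpr_df (f266088 IH) (Lpn (LP (LK LD1_c9 LD2_c51 LD3_c53))))))))))))
theorem f184127 : Led Lsl_gt (LP (LK LD1_c5 LD2_c1 LD3_c0)) = (LP (LK LD1_c2 LD2_c28 LD3_c15)) :=
  Lre_g IH (LK LD1_c5 LD2_c1 LD3_c0) (LK LD1_c2 LD2_c28 LD3_c15) Lrfl Lrfl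
theorem f266102 : Led Lsl_cf (LP (LK LD1_c5 LD2_c1 LD3_c0)) = (LP (LK LD1_c9 LD2_c51 LD3_c53)) :=
  Lgr Lrot169 (Lpr_gt (f184127 IH) (Lpr_ct (f184755 IH) (Lpr_df (f252763 IH) (Lpr_cf (K14.f247807 IH) (Lpr_gf (K14.f247805 IH) (Lpe (K14.f247796 IH) (Lpe (K14.f186880 IH) (Lpe (f186877 IH) (Lpr_gt (f266093 IH) (Lpn (LP (LK LD1_c9 LD2_c51 LD3_c53))))))))))))
theorem f186846 : Led Lsl_dt (LP (LK LD1_c5 LD2_c0 LD3_c46)) = (LP (LK LD1_c9 LD2_c51 LD3_c55)) :=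
  Lre_d IH (LK LD1_c5 LD2_c0 LD3_c46) (LK LD1_c9 LD2_c51 LD3_c55) Lrfl Lrfl
theorem f266106 : Led Lsl_gf (LP (LK LD1_c15 LD2_c14 LD3_c38)) = (LP (LK LD1_c9 LD2_c51 LD3_c55)) :=
  Lgr Lrot143 (Lpe (K9.f46544 IH) (Lpe (K9.f45847 IH) (Lpe (K9.f45890 IH) (Lpe (K9.f184611 IH) (Lpe (f3779 IH) (Lpe (f184127 IH) (Lpr_cf (f266102 IH) (Lpr_gt (f186849 IH) (Lpr_dt (f186846 IH) (Lpn (LP (LK LD1_c9 LD2_c51 LD3_c55))))))))))))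
theorem f266114 : Led Lsl_gf (LP (LK LD1_c8 LD2_c6 LD3_c48)) = (LP (LK LD1_c5 LD2_c0 LD3_c46)) :=
  Lgr Lrot147 (Lpr_ct (f184824 IH) (Lpr_gt (f259077 IH) (Lpr_ct (f3756 IH) (Lpe (f247925 IH) (Lpr_cf (f247742 IH) (Lpe (K14.f247728 IH) (Lpe (K9.f45875 IH) (Lpr_gf (f266106 IH) (Lpe (f186846 IH) (Lpn (LP (LK LD1_c5 LD2_c0 LD3_c46))))))))))))
theorem f192230 : Led Lsl_et (LP (LK LD1_c1 LD2_c58 LD3_c31)) = (LP (LK LD1_c4 LD2_c3 LD3_c2)) :=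
  Lre_e IH (LK LD1_c1 LD2_c58 LD3_c31) (LK LD1_c4 LD2_c3 LD3_c2) Lrfl Lrfl
theorem f192217 : Led Lsl_dt (LP (LK LD1_c4 LD2_c3 LD3_c1)) = (LP (LK LD1_c1 LD2_c58 LD3_c31)) :=
  Lre_d IH (LK LD1_c4 LD2_c3 LD3_c1) (LK LD1_c1 LD2_c58 LD3_c31) Lrfl Lrfl
theorem f192231 : Led Lsl_et (LP (LK LD1_c8 LD2_c6 LD3_c41)) = (LP (LK LD1_c4 LD2_c3 LD3_c1)) :=
  Lre_e IH (LK LD1_c8 LD2_c6 LD3_c41) (LK LD1_c4 LD2_c3 LD3_c1) Lrfl Lrfl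
theorem f192232 : Led Lsl_et (LP (LK LD1_c5 LD2_c18 LD3_c60)) = (LP (LK LD1_c10 LD2_c27 LD3_c50)) :=
  Lre_e IH (LK LD1_c5 LD2_c18 LD3_c60) (LK LD1_c10 LD2_c27 LD3_c50) Lrfl Lrfl
theorem f192233 : Led Lsl_df (LP (LK LD1_c8 LD2_c6 LD3_c41)) = (LP (LK LD1_c10 LD2_c27 LD3_c50)) :=
  Lgr Lrot70 (Lpr_et (f192231 IH) (Lpr_dt (f192217 IH) (Lpr_et (f192230 IH) (Lpr_dt (f192223 IH) (Lpr_et (f192232 IH) (Lpn (LP (LK LD1_c10 LD2_c27 LD3_c50))))))))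
theorem f192239 : Led Lsl_dt (LP (LK LD1_c8 LD2_c6 LD3_c41)) = (LP (LK LD1_c10 LD2_c27 LD3_c50)) :=
  Lgr Lrot42 (Lpr_df (f192233 IH) (Lpn (LP (LK LD1_c10 LD2_c27 LD3_c50))))
theorem f192244 : Led Lsl_bt (LP (LK LD1_c4 LD2_c3 LD3_c4)) = (LP (LK LD1_c8 LD2_c6 LD3_c41)) :=
  Lre_b IH (LK LD1_c4 LD2_c3 LD3_c4) (LK LD1_c8 LD2_c6 LD3_c41) Lrfl Lrfl
theorem f192245 : Led Lsl_bf (LP (LK LD1_c8 LD2_c6 LD3_c46)) = (LP (LK LD1_c10 LD2_c27 LD3_c50)) :=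
  Lgr Lrot93 (Lpr_dt (f184820 IH) (Lpr_bt (f192244 IH) (Lpr_dt (f192239 IH) (Lpn (LP (LK LD1_c10 LD2_c27 LD3_c50))))))
theorem f192249 : Led Lsl_bt (LP (LK LD1_c4 LD2_c3 LD3_c6)) = (LP (LK LD1_c5 LD2_c18 LD3_c60)) :=
  Lgr Lrot119 (Lpe (f184819 IH) (Lpr_bf (f192245 IH) (Lpe (f192232 IH) (Lpn (LP (LK LD1_c5 LD2_c18 LD3_c60))))))
theorem f33363 : Led Lsl_ct (LP (LK LD1_c2 LD2_c28 LD3_c7)) = (LP (LK LD1_c5 LD2_c0 LD3_c46)) :=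
  Lre_c IH (LK LD1_c2 LD2_c28 LD3_c7) (LK LD1_c5 LD2_c0 LD3_c46) Lrfl Lrfl
theorem f266120 : Led Lsl_gt (LP (LK LD1_c5 LD2_c18 LD3_c60)) = (LP (LK LD1_c2 LD2_c36 LD3_c8)) :=
  Lgr Lrot82 (Lpe (f192249 IH) (Lpr_ct (f184823 IH) (Lpr_gf (f266114 IH) (Lpe (f33363 IH) (Lpr_bt (K13.f190872 IH) (Lpr_gf (K14.f247521 IH) (Lpe (K14.f186743 IH) (Lpr_ct (K10.f186739 IH) (Lpe (f248192 IH) (Lpe (K14.f46355 IH) (Lpn (LP (LK LD1_c2 LD2_c36 LD3_c8)))))))))))))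
theorem f192228 : Led Lsl_df (LP (LK LD1_c4 LD2_c3 LD3_c2)) = (LP (LK LD1_c5 LD2_c18 LD3_c60)) :=
  Lgr Lrot38 (Lpr_dt (f192223 IH) (Lpn (LP (LK LD1_c5 LD2_c18 LD3_c60))))
theorem f260253 : Led Lsl_ct (LP (LK LD1_c5 LD2_c19 LD3_c10)) = (LP (LK LD1_c7 LD2_c56 LD3_c7)) :=
  Lgr Lrot8 (Lpr_gt (K14.f212339 IH) (Lpr_dt (K14.f251014 IH) (Lpr_gt (K14.f249429 IH) (Lpr_dt (K14.f44236 IH) (Lpe (K9.f184838 IH) (Lpe (K14.f43823 IH) (Lpr_gf (K14.f251299 IH) (Lpr_df (K14.f251297 IH) (Lpr_gf (f260249 IH) (Lpn (LP (LK LD1_c7 LD2_c56 LD3_c7))))))))))))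
theorem f266124 : Led Lsl_gt (LP (LK LD1_c4 LD2_c3 LD3_c2)) = (LP (LK LD1_c5 LD2_c19 LD3_c10)) :=
  Lgr Lrot9 (Lpr_df (f192228 IH) (Lpr_gt (f266120 IH) (Lpr_ct (K14.f46355 IH) (Lpr_gt (f248192 IH) (Lpr_ct (f186744 IH) (Lpr_df (K14.f251313 IH) (Lpr_cf (K14.f251287 IH) (Lpr_gf (f260249 IH) (Lpe (f260253 IH) (Lpn (LP (LK LD1_c5 LD2_c19 LD3_c10))))))))))))
theorem f266135 : Led Lsl_cf (LP (LK LD1_c4 LD2_c3 LD3_c2)) = (LP (LK LD1_c2 LD2_c5 LD3_c45)) :=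
  Lgr Lrot166 (Lpr_gt (f266124 IH) (Lpr_dt (K13.f46378 IH) (Lpe (K14.f46375 IH) (Lpr_dt (K1.f28286 IH) (Lpr_ct (K1.f28261 IH) (Lpe (K14.f28290 IH) (Lpe (K14.f248083 IH) (Lpe (K12.f184631 IH) (Lpr_gf (K14.f230288 IH) (Lpn (LP (LK LD1_c2 LD2_c5 LD3_c45))))))))))))
theorem f266137 : Led Lsl_dt (LP (LK LD1_c2 LD2_c32 LD3_c51)) = (LP (LK LD1_c2 LD2_c5 LD3_c45)) :=
  Lgr Lrot105 (Lpe (K13.f190315 IH) (Lpe (K14.f190319 IH) (Lpe (K11.f192117 IH) (Lpe (K1.f28251 IH) (Lpr_gt (K9.f28264 IH) (Lpr_dt (K10.f28265 IH) (Lpr_gt (f28266 IH) (Lpe (f192228 IH) (Lpr_cf (f266135 IH) (Lpn (LP (LK LD1_c2 LD2_c5 LD3_c45))))))))))))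
theorem f249359 : Led Lsl_dt (LP (LK LD1_c5 LD2_c12 LD3_c1)) = (LP (LK LD1_c10 LD2_c14 LD3_c51)) :=
  Lre_d IH (LK LD1_c5 LD2_c12 LD3_c1) (LK LD1_c10 LD2_c14 LD3_c51) Lrfl Lrfl
theorem f266141 : Led Lsl_gt (LP (LK LD1_c10 LD2_c14 LD3_c51)) = (LP (LK LD1_c5 LD2_c19 LD3_c22)) :=
  Lgr Lrot49 (Lpe (f249359 IH) (Lpe (f249358 IH) (Lpe (K14.f191165 IH) (Lpr_gt (K13.f190315 IH) (Lpr_dt (f266137 IH) (Lpe (K14.f230288 IH) (Lpr_dt (K12.f184631 IH) (Lpe (K12.f230222 IH) (Lpe (f230290 IH) (Lpn (LP (LK LD1_c5 LD2_c19 LD3_c22))))))))))))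
theorem f249475 : Led Lsl_dt (LP (LK LD1_c5 LD2_c2 LD3_c7)) = (LP (LK LD1_c9 LD2_c54 LD3_c59)) :=
  Lre_d IH (LK LD1_c5 LD2_c2 LD3_c7) (LK LD1_c9 LD2_c54 LD3_c59) Lrfl Lrfl
theorem f249476 : Led Lsl_ct (LP (LK LD1_c9 LD2_c54 LD3_c59)) = (LP (LK LD1_c10 LD2_c14 LD3_c51)) :=
  Lgr Lrot7 (Lpe (f249475 IH) (Lpr_gf (f249473 IH) (Lpe (K14.f193112 IH) (Lpr_gf (K14.f43764 IH) (Lpe (K9.f43434 IH) (Lpe (K14.f249105 IH) (Lpr_dt (K14.f185692 IH) (Lpr_gt (f249358 IH) (Lpr_dt (f249359 IH) (Lpn (LP (LK LD1_c10 LD2_c14 LD3_c51))))))))))))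
theorem f171475 : Led Lsl_dt (LP (LK LD1_c5 LD2_c10 LD3_c54)) = (LP (LK LD1_c2 LD2_c32 LD3_c27)) :=
  Lre_d IH (LK LD1_c5 LD2_c10 LD3_c54) (LK LD1_c2 LD2_c32 LD3_c27) Lrfl Lrfl
theorem f230279 : Led Lsl_dt (LP (LK LD1_c2 LD2_c36 LD3_c21)) = (LP (LK LD1_c5 LD2_c19 LD3_c22)) :=
  Lre_d IH (LK LD1_c2 LD2_c36 LD3_c21) (LK LD1_c5 LD2_c19 LD3_c22) Lrfl Lrfl
theorem f230320 : Led Lsl_cf (LP (LK LD1_c5 LD2_c10 LD3_c54)) = (LP (LK LD1_c5 LD2_c19 LD3_c22)) :=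
  Lgr Lrot55 (Lpr_dt (f171475 IH) (Lpr_ct (K14.f171474 IH) (Lpe (K14.f171212 IH) (Lpr_ct (K12.f230307 IH) (Lpr_dt (K10.f169380 IH) (Lpr_ct (K9.f32858 IH) (Lpr_dt (K12.f166057 IH) (Lpe (K12.f230240 IH) (Lpr_dt (K12.f229931 IH) (Lpr_ct (K12.f43797 IH) (Lpr_dt (K12.f229924 IH) (Lpe (K12.f230272 IH) (Lpr_dt (K12.f184631 IH) (Lpr_ct (K12.f230278 IH) (Lpr_dt (f230279 IH) (Lpn (LP (LK LD1_c5 LD2_c19 LD3_c22))))))))))))))))))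
theorem f171468 : Led Lsl_dt (LP (LK LD1_c2 LD2_c32 LD3_c27)) = (LP (LK LD1_c5 LD2_c10 LD3_c54)) :=
  Lre_d IH (LK LD1_c2 LD2_c32 LD3_c27) (LK LD1_c5 LD2_c10 LD3_c54) Lrfl Lrfl
theorem f43783 : Led Lsl_dt (LP (LK LD1_c9 LD2_c39 LD3_c46)) = (LP (LK LD1_c4 LD2_c54 LD3_c9)) :=
  Lre_d IH (LK LD1_c9 LD2_c39 LD3_c46) (LK LD1_c4 LD2_c54 LD3_c9) Lrfl Lrfl
theorem f266159 : Led Lsl_gf (LP (LK LD1_c9 LD2_c54 LD3_c59)) = (LP (LK LD1_c9 LD2_c39 LD3_c46)) :=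
  Lgr Lrot147 (Lpr_ct (f249476 IH) (Lpr_gt (f266141 IH) (Lpe (f230320 IH) (Lpe (f171468 IH) (Lpe (K12.f165266 IH) (Lpe (K12.f212435 IH) (Lpe (K14.f43454 IH) (Lpr_gf (K14.f43781 IH) (Lpe (f43783 IH) (Lpn (LP (LK LD1_c9 LD2_c39 LD3_c46))))))))))))
theorem f249486 : Led Lsl_dt (LP (LK LD1_c9 LD2_c54 LD3_c59)) = (LP (LK LD1_c5 LD2_c2 LD3_c7)) :=
  Lre_d IH (LK LD1_c9 LD2_c54 LD3_c59) (LK LD1_c5 LD2_c2 LD3_c7) Lrfl Lrfl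
theorem f258039 : Led Lsl_df (LP (LK LD1_c5 LD2_c19 LD3_c38)) = (LP (LK LD1_c9 LD2_c40 LD3_c1)) :=
  Lgr Lrot38 (Lpr_dt (f258033 IH) (Lpn (LP (LK LD1_c9 LD2_c40 LD3_c1))))
theorem f257547 : Led Lsl_gf (LP (LK LD1_c9 LD2_c40 LD3_c1)) = (LP (LK LD1_c5 LD2_c6 LD3_c6)) :=
  Lgr Lrot104 (Lpr_ct (f43420 IH) (Lpe (f43418 IH) (Lpr_cf (K10.f184864 IH) (Lpr_gf (K9.f184826 IH) (Lpr_cf (K1.f28284 IH) (Lpr_gf (f230431 IH) (Lpe (K9.f44075 IH) (Lpr_gt (f257542 IH) (Lpr_ct (f184627 IH) (Lpn (LP (LK LD1_c5 LD2_c6 LD3_c6))))))))))))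
theorem f43584 : Led Lsl_dt (LP (LK LD1_c9 LD2_c39 LD3_c49)) = (LP (LK LD1_c4 LD2_c54 LD3_c10)) :=
  Lre_d IH (LK LD1_c9 LD2_c39 LD3_c49) (LK LD1_c4 LD2_c54 LD3_c10) Lrfl Lrfl
theorem f44905 : Led Lsl_dt (LP (LK LD1_c2 LD2_c36 LD3_c41)) = (LP (LK LD1_c5 LD2_c20 LD3_c1)) :=
  Lre_d IH (LK LD1_c2 LD2_c36 LD3_c41) (LK LD1_c5 LD2_c20 LD3_c1) Lrfl Lrfl
theorem f230333 : Led Lsl_cf (LP (LK LD1_c9 LD2_c39 LD3_c49)) = (LP (LK LD1_c5 LD2_c20 LD3_c1)) :=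
  Lgr Lrot116 (Lpr_dt (f43584 IH) (Lpr_ct (K12.f229052 IH) (Lpr_dt (K12.f229651 IH) (Lpe (K14.f229919 IH) (Lpe (K12.f229508 IH) (Lpr_ff (K12.f230326 IH) (Lpe (K12.f229934 IH) (Lpr_ct (K9.f184848 IH) (Lpr_dt (f44905 IH) (Lpn (LP (LK LD1_c5 LD2_c20 LD3_c1))))))))))))
theorem f46276 : Led Lsl_dt (LP (LK LD1_c2 LD2_c36 LD3_c42)) = (LP (LK LD1_c5 LD2_c20 LD3_c4)) :=
  Lre_d IH (LK LD1_c2 LD2_c36 LD3_c42) (LK LD1_c5 LD2_c20 LD3_c4) Lrfl Lrfl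
theorem f230338 : Led Lsl_ct (LP (LK LD1_c5 LD2_c20 LD3_c4)) = (LP (LK LD1_c9 LD2_c39 LD3_c46)) :=
  Lgr Lrot176 (Lpe (f46276 IH) (Lpr_cf (K12.f212313 IH) (Lpe (K12.f229506 IH) (Lpr_cf (K14.f229919 IH) (Lpe (K12.f229651 IH) (Lpe (K12.f229052 IH) (Lpe (f43584 IH) (Lpr_cf (f230333 IH) (Lpe (f44905 IH) (Lpe (K9.f184848 IH) (Lpr_df (K12.f229934 IH) (Lpe (f229943 IH) (Lpe (K14.f44280 IH) (Lpr_cf (K14.f229947 IH) (Lpe (f43783 IH) (Lpn (LP (LK LD1_c9 LD2_c39 LD3_c46))))))))))))))))))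
theorem f266165 : Led Lsl_gf (LP (LK LD1_c10 LD2_c3 LD3_c9)) = (LP (LK LD1_c5 LD2_c20 LD3_c4)) :=
  Lgr Lrot144 (Lpr_dt (f257549 IH) (Lpe (f257547 IH) (Lpe (f258039 IH) (Lpe (f212341 IH) (Lpe (f257062 IH) (Lpr_gf (f257083 IH) (Lpe (f249486 IH) (Lpr_gf (f266159 IH) (Lpe (f230338 IH) (Lpn (LP (LK LD1_c5 LD2_c20 LD3_c4))))))))))))
theorem f257554 : Led Lsl_cf (LP (LK LD1_c9 LD2_c57 LD3_c29)) = (LP (LK LD1_c10 LD2_c3 LD3_c9)) :=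
  Lgr Lrot11 (Lpr_ct (f257550 IH) (Lpn (LP (LK LD1_c10 LD2_c3 LD3_c9))))
theorem f266177 : Led Lsl_gt (LP (LK LD1_c9 LD2_c57 LD3_c29)) = (LP (LK LD1_c9 LD2_c40 LD3_c13)) :=
  Lgr Lrot150 (Lpr_cf (f257554 IH) (Lpr_gf (f266165 IH) (Lpe (f46276 IH) (Lpr_gt (K12.f28309 IH) (Lpr_ct (K9.f28256 IH) (Lpe (K14.f192119 IH) (Lpr_ct (K10.f32891 IH) (Lpe (K14.f32890 IH) (Lpe (K14.f248450 IH) (Lpn (LP (LK LD1_c9 LD2_c40 LD3_c13))))))))))))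
theorem f247993 : Led Lsl_gf (LP (LK LD1_c2 LD2_c32 LD3_c7)) = (LP (LK LD1_c2 LD2_c24 LD3_c58)) :=
  Lgr Lrot147 (Lpr_ct (K14.f189552 IH) (Lpr_gt (K14.f247976 IH) (Lpr_ct (K14.f46356 IH) (Lpe (K11.f28308 IH) (Lpe (K10.f190304 IH) (Lpr_gf (K12.f190921 IH) (Lpe (K10.f43282 IH) (Lpr_gf (K12.f43815 IH) (Lpe (K14.f43817 IH) (Lpn (LP (LK LD1_c2 LD2_c24 LD3_c58))))))))))))
theorem f248237 : Led Lsl_ct (LP (LK LD1_c10 LD2_c3 LD3_c14)) = (LP (LK LD1_c10 LD2_c10 LD3_c55)) :=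
  Lgr Lrot7 (Lpe (K14.f169671 IH) (Lpe (K14.f169670 IH) (Lpe (K14.f180542 IH) (Lpe (K14.f248087 IH) (Lpe (K9.f43440 IH) (Lpr_gt (K14.f43577 IH) (Lpr_dt (K14.f229057 IH) (Lpr_gt (K14.f248176 IH) (Lpr_dt (K14.f247992 IH) (Lpn (LP (LK LD1_c10 LD2_c10 LD3_c55))))))))))))
theorem f266179 : Led Lsl_gf (LP (LK LD1_c10 LD2_c3 LD3_c14)) = (LP (LK LD1_c5 LD2_c18 LD3_c21)) :=
  Lgr Lrot104 (Lpr_ct (f248237 IH) (Lpe (K14.f247992 IH) (Lpe (K14.f189552 IH) (Lpr_gf (f247993 IH) (Lpe (K14.f190637 IH) (Lpr_gf (f257042 IH) (Lpr_df (f257422 IH) (Lpr_gt (f266177 IH) (Lpr_ct (K14.f248450 IH) (Lpn (LP (LK LD1_c5 LD2_c18 LD3_c21))))))))))))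
theorem f43746 : Led Lsl_dt (LP (LK LD1_c9 LD2_c40 LD3_c19)) = (LP (LK LD1_c4 LD2_c54 LD3_c24)) :=
  Lre_d IH (LK LD1_c9 LD2_c40 LD3_c19) (LK LD1_c4 LD2_c54 LD3_c24) Lrfl Lrfl
theorem f255901 : Led Lsl_gt (LP (LK LD1_c10 LD2_c10 LD3_c55)) = (LP (LK LD1_c9 LD2_c40 LD3_c19)) :=
  Lgr Lrot94 (Lpe (f248237 IH) (Lpr_gt (K14.f255879 IH) (Lpr_dt (K14.f46334 IH) (Lpr_gt (K14.f249098 IH) (Lpr_dt (K9.f43431 IH) (Lpr_cf (f43436 IH) (Lpe (K14.f43449 IH) (Lpe (K14.f43744 IH) (Lpe (f43746 IH) (Lpn (LP (LK LD1_c9 LD2_c40 LD3_c19))))))))))))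
theorem f212428 : Led Lsl_dt (LP (LK LD1_c5 LD2_c19 LD3_c32)) = (LP (LK LD1_c2 LD2_c36 LD3_c25)) :=
  Lre_d IH (LK LD1_c5 LD2_c19 LD3_c32) (LK LD1_c2 LD2_c36 LD3_c25) Lrfl Lrfl
theorem f266195 : Led Lsl_ct (LP (LK LD1_c9 LD2_c40 LD3_c19)) = (LP (LK LD1_c5 LD2_c19 LD3_c32)) :=
  Lgr Lrot110 (Lpe (f255901 IH) (Lpe (f248237 IH) (Lpr_gf (f266179 IH) (Lpe (K14.f185501 IH) (Lpr_gt (K12.f185504 IH) (Lpe (K14.f191571 IH) (Lpr_gt (K10.f43554 IH) (Lpe (K14.f229981 IH) (Lpe (f212428 IH) (Lpn (LP (LK LD1_c5 LD2_c19 LD3_c32))))))))))))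
theorem f260255 : Led Lsl_cf (LP (LK LD1_c5 LD2_c19 LD3_c10)) = (LP (LK LD1_c7 LD2_c56 LD3_c7)) :=
  Lgr Lrot166 (Lpr_gt (K14.f212339 IH) (Lpr_dt (K14.f251014 IH) (Lpr_gt (K14.f249429 IH) (Lpr_dt (K14.f44236 IH) (Lpe (K12.f184841 IH) (Lpe (K14.f43823 IH) (Lpr_gf (K14.f251299 IH) (Lpr_df (K14.f251297 IH) (Lpr_gf (f260249 IH) (Lpn (LP (LK LD1_c7 LD2_c56 LD3_c7))))))))))))
theorem f260257 : Led Lsl_dt (LP (LK LD1_c4 LD2_c1 LD3_c46)) = (LP (LK LD1_c7 LD2_c56 LD3_c7)) :=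
  Lgr Lrot6 (Lpe (f192971 IH) (Lpr_ct (K12.f191564 IH) (Lpe (f249103 IH) (Lpr_ct (K14.f46336 IH) (Lpr_df (K14.f248444 IH) (Lpe (K14.f230303 IH) (Lpr_gf (K14.f246659 IH) (Lpr_cf (K14.f251287 IH) (Lpr_gf (f260249 IH) (Lpn (LP (LK LD1_c7 LD2_c56 LD3_c7))))))))))))
theorem f260265 : Led Lsl_ft (LP (LK LD1_c4 LD2_c1 LD3_c46)) = (LP (LK LD1_c2 LD2_c31 LD3_c41)) :=
  Lgr Lrot54 (Lpr_df (f260259 IH) (Lpe (K12.f229515 IH) (Lpe (K12.f196334 IH) (Lpn (LP (LK LD1_c2 LD2_c31 LD3_c41))))))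
theorem f229986 : Led Lsl_ct (LP (LK LD1_c2 LD2_c36 LD3_c25)) = (LP (LK LD1_c4 LD2_c54 LD3_c17)) :=
  Lgr Lrot59 (Lpr_cf (K14.f229981 IH) (Lpn (LP (LK LD1_c4 LD2_c54 LD3_c17))))
theorem f266203 : Led Lsl_at (LP (LK LD1_c2 LD2_c31 LD3_c41)) = (LP (LK LD1_c4 LD2_c54 LD3_c17)) :=
  Lgr Lrot33 (Lpe (f260265 IH) (Lpr_dt (f260257 IH) (Lpe (f260255 IH) (Lpr_dt (K13.f46378 IH) (Lpe (K14.f192986 IH) (Lpr_dt (f43747 IH) (Lpr_ct (f266195 IH) (Lpr_dt (f212428 IH) (Lpr_ct (f229986 IH) (Lpn (LP (LK LD1_c4 LD2_c54 LD3_c17))))))))))))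
theorem f212312 : Led Lsl_et (LP (LK LD1_c5 LD2_c9 LD3_c2)) = (LP (LK LD1_c2 LD2_c31 LD3_c41)) :=
  Lre_e IH (LK LD1_c5 LD2_c9 LD3_c2) (LK LD1_c2 LD2_c31 LD3_c41) Lrfl Lrfl
theorem f189503 : Led Lsl_et (LP (LK LD1_c4 LD2_c54 LD3_c17)) = (LP (LK LD1_c9 LD2_c40 LD3_c3)) :=
  Lre_e IH (LK LD1_c4 LD2_c54 LD3_c17) (LK LD1_c9 LD2_c40 LD3_c3) Lrfl Lrfl
theorem f266213 : Led Lsl_af (LP (LK LD1_c5 LD2_c9 LD3_c2)) = (LP (LK LD1_c9 LD2_c40 LD3_c3)) :=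
  Lgr Lrot50 (Lpr_et (f212312 IH) (Lpr_at (f266203 IH) (Lpr_et (f189503 IH) (Lpn (LP (LK LD1_c9 LD2_c40 LD3_c3))))))
theorem f229536 : Led Lsl_ft (LP (LK LD1_c5 LD2_c9 LD3_c2)) = (LP (LK LD1_c10 LD2_c8 LD3_c38)) :=
  Lre_f IH (LK LD1_c5 LD2_c9 LD3_c2) (LK LD1_c10 LD2_c8 LD3_c38) Lrfl Lrfl
theorem f230103 : Led Lsl_ft (LP (LK LD1_c17 LD2_c46 LD3_c56)) = (LP (LK LD1_c9 LD2_c40 LD3_c3)) :=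
  Lre_f IH (LK LD1_c17 LD2_c46 LD3_c56) (LK LD1_c9 LD2_c40 LD3_c3) Lrfl Lrfl
theorem f266219 : Led Lsl_at (LP (LK LD1_c10 LD2_c8 LD3_c38)) = (LP (LK LD1_c17 LD2_c46 LD3_c56)) :=
  Lgr Lrot66 (Lpe (f229536 IH) (Lpr_af (f266213 IH) (Lpe (f230103 IH) (Lpn (LP (LK LD1_c17 LD2_c46 LD3_c56))))))
theorem f229509 : Led Lsl_et (LP (LK LD1_c1 LD2_c55 LD3_c21)) = (LP (LK LD1_c3 LD2_c57 LD3_c13)) :=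
  Lre_e IH (LK LD1_c1 LD2_c55 LD3_c21) (LK LD1_c3 LD2_c57 LD3_c13) Lrfl Lrfl
theorem f229510 : Led Lsl_et (LP (LK LD1_c7 LD2_c56 LD3_c6)) = (LP (LK LD1_c3 LD2_c57 LD3_c12)) :=
  Lre_e IH (LK LD1_c7 LD2_c56 LD3_c6) (LK LD1_c3 LD2_c57 LD3_c12) Lrfl Lrfl
theorem f229511 : Led Lsl_et (LP (LK LD1_c2 LD2_c31 LD3_c41)) = (LP (LK LD1_c5 LD2_c9 LD3_c2)) :=
  Lre_e IH (LK LD1_c2 LD2_c31 LD3_c41) (LK LD1_c5 LD2_c9 LD3_c2) Lrfl Lrfl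
theorem f229512 : Led Lsl_df (LP (LK LD1_c7 LD2_c56 LD3_c6)) = (LP (LK LD1_c5 LD2_c9 LD3_c2)) :=
  Lgr Lrot70 (Lpr_et (f229510 IH) (Lpr_dt (K14.f229502 IH) (Lpr_et (f229509 IH) (Lpr_dt (K12.f229506 IH) (Lpr_et (f229511 IH) (Lpn (LP (LK LD1_c5 LD2_c9 LD3_c2))))))))
theorem f229531 : Led Lsl_ft (LP (LK LD1_c7 LD2_c56 LD3_c6)) = (LP (LK LD1_c14 LD2_c58 LD3_c13)) :=
  Lre_f IH (LK LD1_c7 LD2_c56 LD3_c6) (LK LD1_c14 LD2_c58 LD3_c13) Lrfl Lrfl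
theorem f229532 : Led Lsl_ft (LP (LK LD1_c10 LD2_c8 LD3_c38)) = (LP (LK LD1_c5 LD2_c9 LD3_c2)) :=
  Lre_f IH (LK LD1_c10 LD2_c8 LD3_c38) (LK LD1_c5 LD2_c9 LD3_c2) Lrfl Lrfl
theorem f229533 : Led Lsl_dt (LP (LK LD1_c14 LD2_c58 LD3_c13)) = (LP (LK LD1_c10 LD2_c8 LD3_c38)) :=
  Lgr Lrot60 (Lpe (f229531 IH) (Lpr_df (f229512 IH) (Lpe (f229532 IH) (Lpn (LP (LK LD1_c10 LD2_c8 LD3_c38))))))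
theorem f229539 : Led Lsl_at (LP (LK LD1_c24 LD2_c45 LD3_c46)) = (LP (LK LD1_c14 LD2_c58 LD3_c13)) :=
  Lre_a IH (LK LD1_c24 LD2_c45 LD3_c46) (LK LD1_c14 LD2_c58 LD3_c13) Lrfl Lrfl
theorem f266225 : Led Lsl_df (LP (LK LD1_c24 LD2_c45 LD3_c46)) = (LP (LK LD1_c17 LD2_c46 LD3_c56)) :=
  Lgr Lrot18 (Lpr_at (f229539 IH) (Lpr_dt (f229533 IH) (Lpr_at (f266219 IH) (Lpn (LP (LK LD1_c17 LD2_c46 LD3_c56))))))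
theorem f266230 : Led Lsl_dt (LP (LK LD1_c24 LD2_c45 LD3_c46)) = (LP (LK LD1_c17 LD2_c46 LD3_c56)) :=
  Lgr Lrot42 (Lpr_df (f266225 IH) (Lpn (LP (LK LD1_c17 LD2_c46 LD3_c56))))
theorem f230396 : Led Lsl_ft (LP (LK LD1_c14 LD2_c58 LD3_c9)) = (LP (LK LD1_c24 LD2_c45 LD3_c46)) :=
  Lre_f IH (LK LD1_c14 LD2_c58 LD3_c9) (LK LD1_c24 LD2_c45 LD3_c46) Lrfl Lrfl
theorem f266233 : Led Lsl_df (LP (LK LD1_c14 LD2_c58 LD3_c9)) = (LP (LK LD1_c9 LD2_c40 LD3_c3)) :=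
  Lgr Lrot78 (Lpr_ft (f230396 IH) (Lpr_dt (f266230 IH) (Lpr_ft (f230103 IH) (Lpn (LP (LK LD1_c9 LD2_c40 LD3_c3))))))
theorem f230400 : Led Lsl_et (LP (LK LD1_c14 LD2_c58 LD3_c9)) = (LP (LK LD1_c7 LD2_c56 LD3_c3)) :=
  Lre_e IH (LK LD1_c14 LD2_c58 LD3_c9) (LK LD1_c7 LD2_c56 LD3_c3) Lrfl Lrfl
theorem f230390 : Led Lsl_dt (LP (LK LD1_c7 LD2_c56 LD3_c3)) = (LP (LK LD1_c3 LD2_c57 LD3_c11)) :=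
  Lre_d IH (LK LD1_c7 LD2_c56 LD3_c3) (LK LD1_c3 LD2_c57 LD3_c11) Lrfl Lrfl
theorem f266235 : Led Lsl_dt (LP (LK LD1_c7 LD2_c56 LD3_c4)) = (LP (LK LD1_c4 LD2_c54 LD3_c17)) :=
  Lgr Lrot77 (Lpe (K13.f230378 IH) (Lpe (f230390 IH) (Lpe (f230400 IH) (Lpr_df (f266233 IH) (Lpe (f189503 IH) (Lpn (LP (LK LD1_c4 LD2_c54 LD3_c17))))))))
theorem f230330 : Led Lsl_et (LP (LK LD1_c7 LD2_c56 LD3_c4)) = (LP (LK LD1_c3 LD2_c57 LD3_c11)) :=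
  Lre_e IH (LK LD1_c7 LD2_c56 LD3_c4) (LK LD1_c3 LD2_c57 LD3_c11) Lrfl Lrfl
theorem f266247 : Led Lsl_gf (LP (LK LD1_c3 LD2_c57 LD3_c11)) = (LP (LK LD1_c2 LD2_c0 LD3_c22)) :=
  Lgr Lrot141 (Lpe (f230330 IH) (Lpr_dt (f266235 IH) (Lpr_gt (K10.f31520 IH) (Lpe (K1.f31464 IH) (Lpr_et (K1.f31456 IH) (Lpe (K1.f44544 IH) (Lpe (K0.f27704 IH) (Lpr_gt (K1.f27580 IH) (Lpe (K8.f44556 IH) (Lpr_et (K10.f45770 IH) (Lpn (LP (LK LD1_c2 LD2_c0 LD3_c22)))))))))))))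
theorem f51433 : Led Lsl_bt (LP (LK LD1_c2 LD2_c5 LD3_c1)) = (LP (LK LD1_c0 LD2_c59 LD3_c36)) :=
  Lre_b IH (LK LD1_c2 LD2_c5 LD3_c1) (LK LD1_c0 LD2_c59 LD3_c36) Lrfl Lrfl
theorem f266259 : Led Lsl_cf (LP (LK LD1_c3 LD2_c57 LD3_c11)) = (LP (LK LD1_c2 LD2_c5 LD3_c1)) :=
  Lgr Lrot163 (Lpr_gf (f266247 IH) (Lpe (K10.f53816 IH) (Lpe (K14.f222155 IH) (Lpe (K14.f51586 IH) (Lpr_ct (K9.f51585 IH) (Lpr_gf (K9.f51574 IH) (Lpe (K9.f27349 IH) (Lpr_bt (K0.f27345 IH) (Lpe (K10.f27368 IH) (Lpe (f51433 IH) (Lpn (LP (LK LD1_c2 LD2_c5 LD3_c1)))))))))))))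
theorem f266265 : Led Lsl_ct (LP (LK LD1_c7 LD2_c56 LD3_c4)) = (LP (LK LD1_c4 LD2_c15 LD3_c20)) :=
  Lgr Lrot15 (Lpe (K13.f230378 IH) (Lpr_cf (f266259 IH) (Lpe (K14.f49031 IH) (Lpn (LP (LK LD1_c4 LD2_c15 LD3_c20))))))
theorem f229514 : Led Lsl_ft (LP (LK LD1_c7 LD2_c56 LD3_c7)) = (LP (LK LD1_c3 LD2_c57 LD3_c13)) :=
  Lre_f IH (LK LD1_c7 LD2_c56 LD3_c7) (LK LD1_c3 LD2_c57 LD3_c13) Lrfl Lrfl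
theorem f230375 : Led Lsl_at (LP (LK LD1_c3 LD2_c57 LD3_c13)) = (LP (LK LD1_c7 LD2_c56 LD3_c4)) :=
  Lre_a IH (LK LD1_c3 LD2_c57 LD3_c13) (LK LD1_c7 LD2_c56 LD3_c4) Lrfl Lrfl
theorem f260251 : Led Lsl_gt (LP (LK LD1_c5 LD2_c28 LD3_c16)) = (LP (LK LD1_c7 LD2_c56 LD3_c4)) :=
  Lgr Lrot46 (Lpr_gf (f260249 IH) (Lpr_ft (f229514 IH) (Lpr_at (f230375 IH) (Lpn (LP (LK LD1_c7 LD2_c56 LD3_c4))))))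
theorem f190321 : Led Lsl_ct (LP (LK LD1_c5 LD2_c11 LD3_c59)) = (LP (LK LD1_c2 LD2_c32 LD3_c51)) :=
  Lre_c IH (LK LD1_c5 LD2_c11 LD3_c59) (LK LD1_c2 LD2_c32 LD3_c51) Lrfl Lrfl
theorem f266133 : Led Lsl_ct (LP (LK LD1_c4 LD2_c3 LD3_c2)) = (LP (LK LD1_c2 LD2_c5 LD3_c45)) :=
  Lgr Lrot8 (Lpr_gt (f266124 IH) (Lpr_dt (K13.f46378 IH) (Lpe (K14.f46375 IH) (Lpr_dt (K1.f28286 IH) (Lpr_cf (K1.f28284 IH) (Lpe (K14.f28290 IH) (Lpe (K14.f248083 IH) (Lpe (K12.f184631 IH) (Lpr_gf (K14.f230288 IH) (Lpn (LP (LK LD1_c2 LD2_c5 LD3_c45))))))))))))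
theorem f266275 : Led Lsl_gf (LP (LK LD1_c4 LD2_c3 LD3_c2)) = (LP (LK LD1_c4 LD2_c15 LD3_c20)) :=
  Lgr Lrot104 (Lpr_ct (f266133 IH) (Lpe (f266137 IH) (Lpe (f190321 IH) (Lpe (f257779 IH) (Lpe (f50764 IH) (Lpr_gf (K14.f251299 IH) (Lpr_df (K14.f251297 IH) (Lpr_gt (f260251 IH) (Lpr_ct (f266265 IH) (Lpn (LP (LK LD1_c4 LD2_c15 LD3_c20))))))))))))
theorem f256282 : Led Lsl_bt (LP (LK LD1_c2 LD2_c5 LD3_c45)) = (LP (LK LD1_c2 LD2_c58 LD3_c36)) :=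
  Lgr Lrot127 (Lpr_bf (K14.f256279 IH) (Lpn (LP (LK LD1_c2 LD2_c58 LD3_c36))))
theorem f266277 : Led Lsl_bt (LP (LK LD1_c7 LD2_c56 LD3_c4)) = (LP (LK LD1_c4 LD2_c2 LD3_c44)) :=
  Lgr Lrot92 (Lpr_ct (f266265 IH) (Lpe (f266275 IH) (Lpr_cf (f266135 IH) (Lpr_bt (f256282 IH) (Lpe (f256268 IH) (Lpr_ct (f229943 IH) (Lpe (K12.f230324 IH) (Lpe (K12.f171473 IH) (Lpr_bt (f229519 IH) (Lpe (f259629 IH) (Lpn (LP (LK LD1_c4 LD2_c2 LD3_c44)))))))))))))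
theorem f219944 : Led Lsl_ft (LP (LK LD1_c4 LD2_c2 LD3_c44)) = (LP (LK LD1_c8 LD2_c6 LD3_c3)) :=
  Lre_f IH (LK LD1_c4 LD2_c2 LD3_c44) (LK LD1_c8 LD2_c6 LD3_c3) Lrfl Lrfl
theorem f266281 : Led Lsl_bf (LP (LK LD1_c8 LD2_c36 LD3_c33)) = (LP (LK LD1_c8 LD2_c6 LD3_c3)) :=
  Lgr Lrot61 (Lpe (K12.f230326 IH) (Lpr_bt (f266277 IH) (Lpr_ft (f219944 IH) (Lpn (LP (LK LD1_c8 LD2_c6 LD3_c3))))))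
theorem f266290 : Led Lsl_ct (LP (LK LD1_c8 LD2_c6 LD3_c3)) = (LP (LK LD1_c4 LD2_c2 LD3_c47)) :=
  Lre_c IH (LK LD1_c8 LD2_c6 LD3_c3) (LK LD1_c4 LD2_c2 LD3_c47) Lrfl Lrfl
theorem f266291 : Led Lsl_gt (LP (LK LD1_c2 LD2_c11 LD3_c28)) = (LP (LK LD1_c4 LD2_c2 LD3_c47)) :=
  Lgr Lrot65 (Lpe (f255039 IH) (Lpr_bt (f182510 IH) (Lpe (K12.f212096 IH) (Lpe (K12.f167615 IH) (Lpe (K12.f187065 IH) (Lpe (K12.f171472 IH) (Lpe (K12.f171476 IH) (Lpr_gf (K12.f230324 IH) (Lpr_bf (f266281 IH) (Lpr_ct (f266290 IH) (Lpn (LP (LK LD1_c4 LD2_c2 LD3_c47)))))))))))))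
theorem f237856 : Led Lsl_et (LP (LK LD1_c2 LD2_c39 LD3_c18)) = (LP (LK LD1_c5 LD2_c25 LD3_c51)) :=
  Lre_e IH (LK LD1_c2 LD2_c39 LD3_c18) (LK LD1_c5 LD2_c25 LD3_c51) Lrfl Lrfl
theorem f192599 : Led Lsl_et (LP (LK LD1_c2 LD2_c29 LD3_c46)) = (LP (LK LD1_c5 LD2_c4 LD3_c54)) :=
  Lre_e IH (LK LD1_c2 LD2_c29 LD3_c46) (LK LD1_c5 LD2_c4 LD3_c54) Lrfl Lrfl
theorem f237838 : Led Lsl_et (LP (LK LD1_c5 LD2_c25 LD3_c51)) = (LP (LK LD1_c2 LD2_c39 LD3_c18)) :=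
  Lre_e IH (LK LD1_c5 LD2_c25 LD3_c51) (LK LD1_c2 LD2_c39 LD3_c18) Lrfl Lrfl
theorem f237839 : Led Lsl_bt (LP (LK LD1_c5 LD2_c4 LD3_c54)) = (LP (LK LD1_c5 LD2_c25 LD3_c51)) :=
  Lgr Lrot119 (Lpe (f192599 IH) (Lpr_bf (f237830 IH) (Lpe (f237838 IH) (Lpn (LP (LK LD1_c5 LD2_c25 LD3_c51))))))
theorem f171617 : Led Lsl_et (LP (LK LD1_c0 LD2_c55 LD3_c39)) = (LP (LK LD1_c1 LD2_c57 LD3_c36)) :=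
  Lre_e IH (LK LD1_c0 LD2_c55 LD3_c39) (LK LD1_c1 LD2_c57 LD3_c36) Lrfl Lrfl
theorem f171607 : Led Lsl_et (LP (LK LD1_c4 LD2_c1 LD3_c20)) = (LP (LK LD1_c1 LD2_c57 LD3_c35)) :=
  Lre_e IH (LK LD1_c4 LD2_c1 LD3_c20) (LK LD1_c1 LD2_c57 LD3_c35) Lrfl Lrfl
theorem f192600 : Led Lsl_dt (LP (LK LD1_c5 LD2_c4 LD3_c54)) = (LP (LK LD1_c4 LD2_c1 LD3_c20)) :=
  Lgr Lrot77 (Lpe (f192599 IH) (Lpr_df (K10.f192592 IH) (Lpe (f171617 IH) (Lpe (K13.f171525 IH) (Lpe (f171607 IH) (Lpn (LP (LK LD1_c4 LD2_c1 LD3_c20))))))))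
theorem f192608 : Led Lsl_df (LP (LK LD1_c5 LD2_c4 LD3_c54)) = (LP (LK LD1_c4 LD2_c1 LD3_c20)) :=
  Lgr Lrot38 (Lpr_dt (f192600 IH) (Lpn (LP (LK LD1_c4 LD2_c1 LD3_c20))))
theorem f171549 : Led Lsl_et (LP (LK LD1_c5 LD2_c17 LD3_c3)) = (LP (LK LD1_c2 LD2_c35 LD3_c16)) :=
  Lre_e IH (LK LD1_c5 LD2_c17 LD3_c3) (LK LD1_c2 LD2_c35 LD3_c16) Lrfl Lrfl
theorem f171550 : Led Lsl_et (LP (LK LD1_c1 LD2_c57 LD3_c35)) = (LP (LK LD1_c4 LD2_c1 LD3_c20)) :=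
  Lre_e IH (LK LD1_c1 LD2_c57 LD3_c35) (LK LD1_c4 LD2_c1 LD3_c20) Lrfl Lrfl
theorem f171551 : Led Lsl_bf (LP (LK LD1_c5 LD2_c17 LD3_c3)) = (LP (LK LD1_c4 LD2_c1 LD3_c20)) :=
  Lgr Lrot96 (Lpr_et (f171549 IH) (Lpr_bt (K14.f171526 IH) (Lpr_et (f171550 IH) (Lpn (LP (LK LD1_c4 LD2_c1 LD3_c20))))))
theorem f171554 : Led Lsl_bt (LP (LK LD1_c5 LD2_c17 LD3_c3)) = (LP (LK LD1_c4 LD2_c1 LD3_c20)) :=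
  Lgr Lrot127 (Lpr_bf (f171551 IH) (Lpn (LP (LK LD1_c4 LD2_c1 LD3_c20))))
theorem f237849 : Led Lsl_df (LP (LK LD1_c5 LD2_c17 LD3_c3)) = (LP (LK LD1_c5 LD2_c25 LD3_c51)) :=
  Lgr Lrot12 (Lpr_bt (f171554 IH) (Lpe (f192608 IH) (Lpr_bt (f237839 IH) (Lpn (LP (LK LD1_c5 LD2_c25 LD3_c51))))))
theorem f48720 : Led Lsl_dt (LP (LK LD1_c2 LD2_c35 LD3_c16)) = (LP (LK LD1_c1 LD2_c14 LD3_c39)) :=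
  Lre_d IH (LK LD1_c2 LD2_c35 LD3_c16) (LK LD1_c1 LD2_c14 LD3_c39) Lrfl Lrfl
theorem f263182 : Led Lsl_ef (LP (LK LD1_c2 LD2_c11 LD3_c28)) = (LP (LK LD1_c1 LD2_c14 LD3_c39)) :=
  Lgr Lrot73 (Lpr_dt (f263176 IH) (Lpr_et (f237856 IH) (Lpe (f237849 IH) (Lpr_et (f171549 IH) (Lpr_dt (f48720 IH) (Lpn (LP (LK LD1_c1 LD2_c14 LD3_c39))))))))
theorem f171541 : Led Lsl_bf (LP (LK LD1_c2 LD2_c35 LD3_c16)) = (LP (LK LD1_c1 LD2_c57 LD3_c35)) :=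
  Lgr Lrot24 (Lpr_bt (K14.f171526 IH) (Lpn (LP (LK LD1_c1 LD2_c57 LD3_c35))))
theorem f242350 : Led Lsl_gf (LP (LK LD1_c2 LD2_c35 LD3_c16)) = (LP (LK LD1_c2 LD2_c29 LD3_c61)) :=
  Lgr Lrot124 (Lpr_bf (f171541 IH) (Lpr_ct (K13.f171545 IH) (Lpr_gt (K13.f242331 IH) (Lpe (K13.f196352 IH) (Lpe (K13.f240256 IH) (Lpr_gt (K13.f165483 IH) (Lpr_ct (K10.f22100 IH) (Lpe (K13.f180585 IH) (Lpe (K10.f169449 IH) (Lpr_bt (K9.f169446 IH) (Lpn (LP (LK LD1_c2 LD2_c29 LD3_c61)))))))))))))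
theorem f266301 : Led Lsl_df (LP (LK LD1_c2 LD2_c4 LD3_c52)) = (LP (LK LD1_c4 LD2_c2 LD3_c47)) :=
  Lgr Lrot135 (Lpr_gt (K13.f45189 IH) (Lpe (K10.f45222 IH) (Lpe (K10.f45114 IH) (Lpe (K9.f183668 IH) (Lpe (K9.f169545 IH) (Lpr_dt (K9.f169520 IH) (Lpe (f242350 IH) (Lpe (K14.f32955 IH) (Lpe (f263182 IH) (Lpr_gt (f266291 IH) (Lpn (LP (LK LD1_c4 LD2_c2 LD3_c47)))))))))))))
theorem f220553 : Led Lsl_gt (LP (LK LD1_c1 LD2_c17 LD3_c21)) = (LP (LK LD1_c2 LD2_c41 LD3_c0)) :=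
  Lre_g IH (LK LD1_c1 LD2_c17 LD3_c21) (LK LD1_c2 LD2_c41 LD3_c0) Lrfl Lrfl
theorem f266313 : Led Lsl_ef (LP (LK LD1_c2 LD2_c41 LD3_c0)) = (LP (LK LD1_c4 LD2_c2 LD3_c47)) :=
  Lgr Lrot17 (Lpe (f220553 IH) (Lpe (f220548 IH) (Lpr_dt (f260407 IH) (Lpe (K10.f169561 IH) (Lpe (K10.f169558 IH) (Lpr_gf (K9.f183668 IH) (Lpr_ef (K10.f45114 IH) (Lpr_dt (K10.f45222 IH) (Lpe (K13.f45189 IH) (Lpr_df (f266301 IH) (Lpn (LP (LK LD1_c4 LD2_c2 LD3_c47)))))))))))))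
theorem f213844 : Led Lsl_ft (LP (LK LD1_c2 LD2_c41 LD3_c0)) = (LP (LK LD1_c1 LD2_c17 LD3_c13)) :=
  Lre_f IH (LK LD1_c2 LD2_c41 LD3_c0) (LK LD1_c1 LD2_c17 LD3_c13) Lrfl Lrfl
theorem f220596 : Led Lsl_ft (LP (LK LD1_c1 LD2_c58 LD3_c25)) = (LP (LK LD1_c4 LD2_c2 LD3_c47)) :=
  Lre_f IH (LK LD1_c1 LD2_c58 LD3_c25) (LK LD1_c4 LD2_c2 LD3_c47) Lrfl Lrfl
theorem f266321 : Led Lsl_ft (LP (LK LD1_c0 LD2_c35 LD3_c43)) = (LP (LK LD1_c0 LD2_c56 LD3_c3)) :=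
  Lgr Lrot86 (Lpe (f262831 IH) (Lpe (f213844 IH) (Lpr_ef (f266313 IH) (Lpe (f220596 IH) (Lpe (K12.f220584 IH) (Lpn (LP (LK LD1_c0 LD2_c56 LD3_c3))))))))
theorem f222561 : Led Lsl_ct (LP (LK LD1_c1 LD2_c17 LD3_c12)) = (LP (LK LD1_c2 LD2_c40 LD3_c59)) :=
  Lre_c IH (LK LD1_c1 LD2_c17 LD3_c12) (LK LD1_c2 LD2_c40 LD3_c59) Lrfl Lrfl
theorem f222546 : Led Lsl_dt (LP (LK LD1_c2 LD2_c40 LD3_c59)) = (LP (LK LD1_c5 LD2_c29 LD3_c26)) :=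
  Lre_d IH (LK LD1_c2 LD2_c40 LD3_c59) (LK LD1_c5 LD2_c29 LD3_c26) Lrfl Lrfl
theorem f262823 : Led Lsl_at (LP (LK LD1_c0 LD2_c15 LD3_c59)) = (LP (LK LD1_c0 LD2_c35 LD3_c43)) :=
  Lre_a IH (LK LD1_c0 LD2_c15 LD3_c59) (LK LD1_c0 LD2_c35 LD3_c43) Lrfl Lrfl
theorem f263157 : Led Lsl_ff (LP (LK LD1_c0 LD2_c15 LD3_c59)) = (LP (LK LD1_c0 LD2_c28 LD3_c35)) :=
  Lgr Lrot52 (Lpr_at (f262823 IH) (Lpr_gf (f263155 IH) (Lpe (K12.f182189 IH) (Lpn (LP (LK LD1_c0 LD2_c28 LD3_c35))))))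
theorem f266323 : Led Lsl_af (LP (LK LD1_c0 LD2_c28 LD3_c35)) = (LP (LK LD1_c0 LD2_c56 LD3_c3)) :=
  Lgr Lrot45 (Lpe (f263157 IH) (Lpr_at (f262823 IH) (Lpr_ft (f266321 IH) (Lpn (LP (LK LD1_c0 LD2_c56 LD3_c3))))))
theorem f266325 : Led Lsl_ct (LP (LK LD1_c5 LD2_c29 LD3_c26)) = (LP (LK LD1_c8 LD2_c16 LD3_c59)) :=
  Lgr Lrot41 (Lpe (f222546 IH) (Lpe (f222561 IH) (Lpe (f222645 IH) (Lpr_ft (f266321 IH) (Lpe (f266323 IH) (Lpr_cf (K12.f173215 IH) (Lpe (K14.f173262 IH) (Lpe (K14.f173264 IH) (Lpe (K14.f250717 IH) (Lpn (LP (LK LD1_c8 LD2_c16 LD3_c59))))))))))))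
theorem f218733 : Led Lsl_dt (LP (LK LD1_c2 LD2_c11 LD3_c48)) = (LP (LK LD1_c4 LD2_c29 LD3_c27)) :=
  Lre_d IH (LK LD1_c2 LD2_c11 LD3_c48) (LK LD1_c4 LD2_c29 LD3_c27) Lrfl Lrfl
theorem f234432 : Led Lsl_dt (LP (LK LD1_c4 LD2_c9 LD3_c18)) = (LP (LK LD1_c8 LD2_c17 LD3_c37)) :=
  Lgr Lrot42 (Lpr_df (K14.f234420 IH) (Lpn (LP (LK LD1_c8 LD2_c17 LD3_c37))))
theorem f234984 : Led Lsl_ft (LP (LK LD1_c2 LD2_c42 LD3_c20)) = (LP (LK LD1_c4 LD2_c29 LD3_c25)) :=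
  Lgr Lrot48 (Lpr_ff (K13.f234974 IH) (Lpn (LP (LK LD1_c4 LD2_c29 LD3_c25))))
theorem f234991 : Led Lsl_cf (LP (LK LD1_c2 LD2_c28 LD3_c3)) = (LP (LK LD1_c4 LD2_c29 LD3_c25)) :=
  Lgr Lrot108 (Lpr_ft (K12.f212859 IH) (Lpr_ct (K12.f213041 IH) (Lpr_ft (f234984 IH) (Lpn (LP (LK LD1_c4 LD2_c29 LD3_c25))))))
theorem f258656 : Led Lsl_df (LP (LK LD1_c4 LD2_c29 LD3_c25)) = (LP (LK LD1_c8 LD2_c55 LD3_c59)) :=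
  Lgr Lrot43 (Lpe (f234991 IH) (Lpr_dt (K9.f48170 IH) (Lpr_ct (K8.f48159 IH) (Lpr_dt (K10.f32931 IH) (Lpe (K12.f222805 IH) (Lpr_dt (K12.f222744 IH) (Lpr_ct (K13.f234328 IH) (Lpe (K13.f234318 IH) (Lpe (K13.f222219 IH) (Lpr_dt (K12.f222221 IH) (Lpr_ct (K12.f199624 IH) (Lpr_dt (f222209 IH) (Lpr_ct (K12.f167242 IH) (Lpr_dt (f234432 IH) (Lpr_ct (f258650 IH) (Lpn (LP (LK LD1_c8 LD2_c55 LD3_c59))))))))))))))))))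
theorem f266339 : Led Lsl_gt (LP (LK LD1_c5 LD2_c29 LD3_c26)) = (LP (LK LD1_c8 LD2_c55 LD3_c59)) :=
  Lgr Lrot180 (Lpr_ct (f266325 IH) (Lpr_gt (K14.f50430 IH) (Lpr_dt (K14.f50143 IH) (Lpr_gt (K14.f47724 IH) (Lpr_dt (K14.f47725 IH) (Lpe (K14.f254768 IH) (Lpe (f218733 IH) (Lpe (K13.f218730 IH) (Lpr_df (f258656 IH) (Lpn (LP (LK LD1_c8 LD2_c55 LD3_c59))))))))))))
theorem f222562 : Led Lsl_dt (LP (LK LD1_c5 LD2_c29 LD3_c26)) = (LP (LK LD1_c2 LD2_c40 LD3_c59)) :=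
  Lre_d IH (LK LD1_c5 LD2_c29 LD3_c26) (LK LD1_c2 LD2_c40 LD3_c59) Lrfl Lrfl
theorem f258654 : Led Lsl_cf (LP (LK LD1_c8 LD2_c17 LD3_c37)) = (LP (LK LD1_c8 LD2_c55 LD3_c59)) :=
  Lgr Lrot11 (Lpr_ct (f258650 IH) (Lpn (LP (LK LD1_c8 LD2_c55 LD3_c59))))
theorem f266343 : Led Lsl_gt (LP (LK LD1_c2 LD2_c40 LD3_c59)) = (LP (LK LD1_c4 LD2_c28 LD3_c48)) :=
  Lgr Lrot9 (Lpe (f222562 IH) (Lpr_gt (f266339 IH) (Lpe (f258654 IH) (Lpe (f234441 IH) (Lpr_ct (f233916 IH) (Lpe (K13.f233929 IH) (Lpe (K13.f199695 IH) (Lpe (K13.f199704 IH) (Lpr_cf (K13.f234314 IH) (Lpn (LP (LK LD1_c4 LD2_c28 LD3_c48))))))))))))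
theorem f222543 : Led Lsl_ct (LP (LK LD1_c2 LD2_c40 LD3_c59)) = (LP (LK LD1_c1 LD2_c17 LD3_c12)) :=
  Lre_c IH (LK LD1_c2 LD2_c40 LD3_c59) (LK LD1_c1 LD2_c17 LD3_c12) Lrfl Lrfl
theorem f266348 : Led Lsl_df (LP (LK LD1_c5 LD2_c32 LD3_c23)) = (LP (LK LD1_c4 LD2_c28 LD3_c48)) :=
  Lgr Lrot153 (Lpr_gt (K14.f213281 IH) (Lpr_dt (K14.f213357 IH) (Lpe (K12.f168083 IH) (Lpe (K10.f183248 IH) (Lpr_gf (K13.f246285 IH) (Lpe (K14.f246307 IH) (Lpe (f263159 IH) (Lpe (f222543 IH) (Lpr_gt (f266343 IH) (Lpn (LP (LK LD1_c4 LD2_c28 LD3_c48))))))))))))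
theorem f266414 : Led Lsl_dt (LP (LK LD1_c5 LD2_c32 LD3_c23)) = (LP (LK LD1_c4 LD2_c28 LD3_c48)) :=
  Lgr Lrot42 (Lpr_df (f266348 IH) (Lpn (LP (LK LD1_c4 LD2_c28 LD3_c48))))
theorem f222643 : Led Lsl_dt (LP (LK LD1_c1 LD2_c17 LD3_c11)) = (LP (LK LD1_c2 LD2_c40 LD3_c57)) :=
  Lre_d IH (LK LD1_c1 LD2_c17 LD3_c11) (LK LD1_c2 LD2_c40 LD3_c57) Lrfl Lrfl
theorem f220485 : Led Lsl_ct (LP (LK LD1_c5 LD2_c29 LD3_c21)) = (LP (LK LD1_c2 LD2_c40 LD3_c57)) :=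
  Lre_c IH (LK LD1_c5 LD2_c29 LD3_c21) (LK LD1_c2 LD2_c40 LD3_c57) Lrfl Lrfl
theorem f263163 : Led Lsl_gf (LP (LK LD1_c5 LD2_c29 LD3_c21)) = (LP (LK LD1_c4 LD2_c16 LD3_c61)) :=
  Lgr Lrot104 (Lpr_ct (f220485 IH) (Lpe (f222643 IH) (Lpe (f222642 IH) (Lpr_gf (f263155 IH) (Lpe (K12.f28121 IH) (Lpe (K10.f47556 IH) (Lpe (K10.f802 IH) (Lpe (K12.f189099 IH) (Lpr_ct (K14.f167654 IH) (Lpn (LP (LK LD1_c4 LD2_c16 LD3_c61))))))))))))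
theorem f258670 : Led Lsl_ct (LP (LK LD1_c8 LD2_c16 LD3_c60)) = (LP (LK LD1_c4 LD2_c28 LD3_c50)) :=
  Lgr Lrot59 (Lpr_cf (f258665 IH) (Lpn (LP (LK LD1_c4 LD2_c28 LD3_c50))))
theorem f266420 : Led Lsl_dt (LP (LK LD1_c5 LD2_c29 LD3_c21)) = (LP (LK LD1_c8 LD2_c16 LD3_c60)) :=
  Lgr Lrot105 (Lpr_gf (f263163 IH) (Lpe (f254710 IH) (Lpe (f261981 IH) (Lpe (K12.f213171 IH) (Lpr_gt (K14.f213282 IH) (Lpr_dt (f266414 IH) (Lpr_gt (K13.f173346 IH) (Lpr_dt (K13.f173345 IH) (Lpe (f258670 IH) (Lpn (LP (LK LD1_c8 LD2_c16 LD3_c60))))))))))))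
theorem f266437 : Led Lsl_gf (LP (LK LD1_c2 LD2_c40 LD3_c57)) = (LP (LK LD1_c4 LD2_c13 LD3_c3)) :=
  Lgr Lrot172 (Lpr_ct (K12.f220497 IH) (Lpr_dt (f266420 IH) (Lpr_cf (f258665 IH) (Lpe (f183307 IH) (Lpe (f258650 IH) (Lpe (K14.f220130 IH) (Lpr_dt (K12.f220131 IH) (Lpr_gt (K14.f220067 IH) (Lpr_ct (K14.f220092 IH) (Lpn (LP (LK LD1_c4 LD2_c13 LD3_c3))))))))))))
theorem f262859 : Led Lsl_et (LP (LK LD1_c1 LD2_c17 LD3_c11)) = (LP (LK LD1_c2 LD2_c40 LD3_c58)) :=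
  Lre_e IH (LK LD1_c1 LD2_c17 LD3_c11) (LK LD1_c2 LD2_c40 LD3_c58) Lrfl Lrfl
theorem f262869 : Led Lsl_gt (LP (LK LD1_c2 LD2_c40 LD3_c58)) = (LP (LK LD1_c5 LD2_c29 LD3_c23)) :=
  Lre_g IH (LK LD1_c2 LD2_c40 LD3_c58) (LK LD1_c5 LD2_c29 LD3_c23) Lrfl Lrfl
theorem f252367 : Led Lsl_at (LP (LK LD1_c10 LD2_c43 LD3_c4)) = (LP (LK LD1_c11 LD2_c55 LD3_c6)) :=
  Lgr Lrot107 (Lpr_cf (K14.f252365 IH) (Lpe (f49523 IH) (Lpe (K14.f231877 IH) (Lpn (LP (LK LD1_c11 LD2_c55 LD3_c6))))))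
theorem f257203 : Led Lsl_ff (LP (LK LD1_c10 LD2_c43 LD3_c4)) = (LP (LK LD1_c11 LD2_c55 LD3_c5)) :=
  Lgr Lrot103 (Lpr_at (f252367 IH) (Lpr_cf (f257197 IH) (Lpe (K14.f45023 IH) (Lpe (K13.f44977 IH) (Lpe (K13.f27396 IH) (Lpe (K9.f49430 IH) (Lpe (K11.f49525 IH) (Lpe (K11.f183709 IH) (Lpe (K13.f231978 IH) (Lpn (LP (LK LD1_c11 LD2_c55 LD3_c5))))))))))))
theorem f257357 : Led Lsl_ft (LP (LK LD1_c10 LD2_c43 LD3_c4)) = (LP (LK LD1_c11 LD2_c55 LD3_c5)) :=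
  Lgr Lrot48 (Lpr_ff (f257203 IH) (Lpn (LP (LK LD1_c11 LD2_c55 LD3_c5))))
theorem f257370 : Led Lsl_af (LP (LK LD1_c8 LD2_c26 LD3_c30)) = (LP (LK LD1_c11 LD2_c55 LD3_c5)) :=
  Lgr Lrot45 (Lpe (K14.f252326 IH) (Lpr_at (K14.f252363 IH) (Lpr_ft (f257357 IH) (Lpn (LP (LK LD1_c11 LD2_c55 LD3_c5))))))
theorem f257377 : Led Lsl_gt (LP (LK LD1_c10 LD2_c43 LD3_c4)) = (LP (LK LD1_c8 LD2_c29 LD3_c12)) :=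
  Lgr Lrot5 (Lpr_ft (f257357 IH) (Lpe (f257370 IH) (Lpr_gf (f252279 IH) (Lpn (LP (LK LD1_c8 LD2_c29 LD3_c12))))))
theorem f252260 : Led Lsl_ct (LP (LK LD1_c5 LD2_c15 LD3_c24)) = (LP (LK LD1_c5 LD2_c8 LD3_c29)) :=
  Lgr Lrot59 (Lpr_cf (K14.f252256 IH) (Lpn (LP (LK LD1_c5 LD2_c8 LD3_c29))))
theorem f259457 : Led Lsl_gt (LP (LK LD1_c2 LD2_c34 LD3_c40)) = (LP (LK LD1_c5 LD2_c15 LD3_c24)) :=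
  Lgr Lrot9 (Lpe (f231947 IH) (Lpr_gt (f259434 IH) (Lpe (K14.f252365 IH) (Lpr_gt (f257377 IH) (Lpr_ct (K14.f252237 IH) (Lpe (K14.f190916 IH) (Lpe (K14.f190899 IH) (Lpe (K14.f33269 IH) (Lpe (f252260 IH) (Lpn (LP (LK LD1_c5 LD2_c15 LD3_c24))))))))))))
theorem f259695 : Led Lsl_df (LP (LK LD1_c5 LD2_c8 LD3_c29)) = (LP (LK LD1_c4 LD2_c22 LD3_c20)) :=
  Lgr Lrot162 (Lpe (f252260 IH) (Lpe (f259457 IH) (Lpe (f32900 IH) (Lpr_gf (f231943 IH) (Lpe (K9.f47749 IH) (Lpr_gt (f47760 IH) (Lpe (f259685 IH) (Lpr_gt (f259689 IH) (Lpe (f232145 IH) (Lpn (LP (LK LD1_c4 LD2_c22 LD3_c20))))))))))))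
theorem f266451 : Led Lsl_ef (LP (LK LD1_c5 LD2_c29 LD3_c23)) = (LP (LK LD1_c4 LD2_c22 LD3_c20)) :=
  Lgr Lrot17 (Lpe (f262869 IH) (Lpe (f262859 IH) (Lpr_dt (f222643 IH) (Lpr_gf (f266437 IH) (Lpr_df (K14.f246701 IH) (Lpe (K14.f254795 IH) (Lpe (K12.f33251 IH) (Lpr_dt (K14.f33266 IH) (Lpe (K14.f33269 IH) (Lpr_df (f259695 IH) (Lpn (LP (LK LD1_c4 LD2_c22 LD3_c20)))))))))))))
theorem f266455 : Led Lsl_et (LP (LK LD1_c5 LD2_c29 LD3_c23)) = (LP (LK LD1_c4 LD2_c22 LD3_c20)) :=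
  Lgr Lrot87 (Lpr_ef (f266451 IH) (Lpn (LP (LK LD1_c4 LD2_c22 LD3_c20))))
theorem f266449 : Led Lsl_dt (LP (LK LD1_c5 LD2_c29 LD3_c23)) = (LP (LK LD1_c4 LD2_c13 LD3_c51)) :=
  Lgr Lrot171 (Lpe (f262869 IH) (Lpe (f262859 IH) (Lpr_dt (f222643 IH) (Lpr_gf (f266437 IH) (Lpr_df (K14.f246701 IH) (Lpr_et (K14.f219095 IH) (Lpr_gf (K14.f219077 IH) (Lpr_ef (f27359 IH) (Lpr_dt (f27438 IH) (Lpe (K12.f27450 IH) (Lpn (LP (LK LD1_c4 LD2_c13 LD3_c51)))))))))))))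
theorem f219082 : Led Lsl_dt (LP (LK LD1_c1 LD2_c9 LD3_c57)) = (LP (LK LD1_c2 LD2_c25 LD3_c26)) :=
  Lre_d IH (LK LD1_c1 LD2_c9 LD3_c57) (LK LD1_c2 LD2_c25 LD3_c26) Lrfl Lrfl
theorem f219083 : Led Lsl_gt (LP (LK LD1_c2 LD2_c25 LD3_c26)) = (LP (LK LD1_c4 LD2_c55 LD3_c5)) :=
  Lre_g IH (LK LD1_c2 LD2_c25 LD3_c26) (LK LD1_c4 LD2_c55 LD3_c5) Lrfl Lrfl
theorem f260390 : Led Lsl_df (LP (LK LD1_c4 LD2_c8 LD3_c36)) = (LP (LK LD1_c5 LD2_c15 LD3_c17)) :=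
  Lgr Lrot155 (Lpr_gt (f232142 IH) (Lpr_ct (K14.f167353 IH) (Lpe (f259318 IH) (Lpr_ct (f49077 IH) (Lpr_dt (K9.f32176 IH) (Lpe (f49084 IH) (Lpr_gf (f260386 IH) (Lpe (K10.f189725 IH) (Lpe (f186861 IH) (Lpn (LP (LK LD1_c5 LD2_c15 LD3_c17))))))))))))
theorem f266285 : Led Lsl_ct (LP (LK LD1_c4 LD2_c2 LD3_c47)) = (LP (LK LD1_c8 LD2_c6 LD3_c3)) :=
  Lre_c IH (LK LD1_c4 LD2_c2 LD3_c47) (LK LD1_c8 LD2_c6 LD3_c3) Lrfl Lrfl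
theorem f266297 : Led Lsl_gf (LP (LK LD1_c4 LD2_c22 LD3_c20)) = (LP (LK LD1_c8 LD2_c6 LD3_c3)) :=
  Lgr Lrot104 (Lpr_ct (f232143 IH) (Lpr_df (f260390 IH) (Lpr_cf (f264847 IH) (Lpe (f264845 IH) (Lpe (K14.f45146 IH) (Lpe (f257153 IH) (Lpe (f263176 IH) (Lpr_gt (f266291 IH) (Lpr_ct (f266285 IH) (Lpn (LP (LK LD1_c8 LD2_c6 LD3_c3))))))))))))
theorem f266317 : Led Lsl_et (LP (LK LD1_c5 LD2_c29 LD3_c24)) = (LP (LK LD1_c8 LD2_c6 LD3_c3)) :=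
  Lgr Lrot158 (Lpe (K13.f213795 IH) (Lpr_ef (f266313 IH) (Lpe (f266290 IH) (Lpn (LP (LK LD1_c8 LD2_c6 LD3_c3))))))
theorem f266462 : Led Lsl_df (LP (LK LD1_c4 LD2_c55 LD3_c5)) = (LP (LK LD1_c5 LD2_c29 LD3_c24)) :=
  Lgr Lrot132 (Lpe (f219083 IH) (Lpe (f219082 IH) (Lpr_gf (K14.f219077 IH) (Lpr_ef (f27359 IH) (Lpr_dt (f27438 IH) (Lpe (K12.f27450 IH) (Lpe (f266449 IH) (Lpr_et (f266455 IH) (Lpr_gf (f266297 IH) (Lpe (f266317 IH) (Lpn (LP (LK LD1_c5 LD2_c29 LD3_c24)))))))))))))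
theorem f220532 : Led Lsl_gt (LP (LK LD1_c2 LD2_c41 LD3_c7)) = (LP (LK LD1_c5 LD2_c29 LD3_c24)) :=
  Lre_g IH (LK LD1_c2 LD2_c41 LD3_c7) (LK LD1_c5 LD2_c29 LD3_c24) Lrfl Lrfl
theorem f266473 : Led Lsl_gt (LP (LK LD1_c4 LD2_c55 LD3_c5)) = (LP (LK LD1_c4 LD2_c13 LD3_c49)) :=
  Lgr Lrot139 (Lpr_df (f266462 IH) (Lpe (f220532 IH) (Lpr_ef (f259627 IH) (Lpe (f257592 IH) (Lpe (f257088 IH) (Lpe (K14.f183673 IH) (Lpr_et (f195698 IH) (Lpr_gf (K14.f251277 IH) (Lpe (K10.f171170 IH) (Lpr_dt (K10.f45095 IH) (Lpn (LP (LK LD1_c4 LD2_c13 LD3_c49)))))))))))))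
theorem f232004 : Led Lsl_dt (LP (LK LD1_c4 LD2_c5 LD3_c20)) = (LP (LK LD1_c2 LD2_c1 LD3_c40)) :=
  Lgr Lrot105 (Lpr_gf (K13.f216134 IH) (Lpe (K11.f27415 IH) (Lpr_gf (K12.f212247 IH) (Lpe (K12.f32435 IH) (Lpr_gt (K10.f32876 IH) (Lpr_dt (K1.f32374 IH) (Lpr_gt (K13.f231996 IH) (Lpr_dt (K14.f228968 IH) (Lpe (K14.f167353 IH) (Lpn (LP (LK LD1_c2 LD2_c1 LD3_c40))))))))))))
theorem f266311 : Led Lsl_gt (LP (LK LD1_c4 LD2_c6 LD3_c27)) = (LP (LK LD1_c8 LD2_c6 LD3_c3)) :=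
  Lgr Lrot150 (Lpe (f192524 IH) (Lpe (f264948 IH) (Lpe (f232004 IH) (Lpr_gt (K13.f216136 IH) (Lpe (K11.f183719 IH) (Lpe (K13.f231682 IH) (Lpr_ct (K13.f45224 IH) (Lpr_df (f266301 IH) (Lpe (f266290 IH) (Lpn (LP (LK LD1_c8 LD2_c6 LD3_c3))))))))))))
theorem f192537 : Led Lsl_dt (LP (LK LD1_c2 LD2_c0 LD3_c33)) = (LP (LK LD1_c4 LD2_c6 LD3_c26)) :=
  Lre_d IH (LK LD1_c2 LD2_c0 LD3_c33) (LK LD1_c4 LD2_c6 LD3_c26) Lrfl Lrfl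
theorem f266475 : Led Lsl_gt (LP (LK LD1_c6 LD2_c5 LD3_c44)) = (LP (LK LD1_c4 LD2_c6 LD3_c26)) :=
  Lgr Lrot139 (Lpe (K9.f169566 IH) (Lpr_gf (K14.f251277 IH) (Lpe (K10.f171170 IH) (Lpr_dt (K10.f45095 IH) (Lpe (f266473 IH) (Lpr_df (f266462 IH) (Lpr_et (f266317 IH) (Lpe (f266311 IH) (Lpe (K14.f231803 IH) (Lpr_dt (f192537 IH) (Lpn (LP (LK LD1_c4 LD2_c6 LD3_c26)))))))))))))
theorem f188235 : Led Lsl_ct (LP (LK LD1_c5 LD2_c17 LD3_c43)) = (LP (LK LD1_c6 LD2_c5 LD3_c31)) :=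
  Lgr Lrot59 (Lpr_cf (f188211 IH) (Lpn (LP (LK LD1_c6 LD2_c5 LD3_c31))))
theorem f49667 : Led Lsl_af (LP (LK LD1_c8 LD2_c15 LD3_c53)) = (LP (LK LD1_c8 LD2_c15 LD3_c9)) :=
  Lgr Lrot68 (Lpe (K10.f49569 IH) (Lpr_at (K9.f49659 IH) (Lpe (K10.f49644 IH) (Lpn (LP (LK LD1_c8 LD2_c15 LD3_c9))))))
theorem f49657 : Led Lsl_ff (LP (LK LD1_c8 LD2_c15 LD3_c9)) = (LP (LK LD1_c8 LD2_c16 LD3_c18)) :=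
  Lgr Lrot23 (Lpr_ct (K9.f49636 IH) (Lpr_ft (K9.f49656 IH) (Lpr_ct (K10.f49571 IH) (Lpn (LP (LK LD1_c8 LD2_c16 LD3_c18))))))
theorem f257799 : Led Lsl_gf (LP (LK LD1_c5 LD2_c17 LD3_c43)) = (LP (LK LD1_c8 LD2_c16 LD3_c18)) :=
  Lgr Lrot47 (Lpr_gt (f257785 IH) (Lpr_af (f49667 IH) (Lpr_ff (f49657 IH) (Lpn (LP (LK LD1_c8 LD2_c16 LD3_c18))))))
theorem f184217 : Led Lsl_df (LP (LK LD1_c10 LD2_c23 LD3_c57)) = (LP (LK LD1_c8 LD2_c15 LD3_c47)) :=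
  Lgr Lrot38 (Lpr_dt (f184211 IH) (Lpn (LP (LK LD1_c8 LD2_c15 LD3_c47))))
theorem f184200 : Led Lsl_dt (LP (LK LD1_c5 LD2_c0 LD3_c60)) = (LP (LK LD1_c9 LD2_c52 LD3_c22)) :=
  Lre_d IH (LK LD1_c5 LD2_c0 LD3_c60) (LK LD1_c9 LD2_c52 LD3_c22) Lrfl Lrfl
theorem f192521 : Led Lsl_dt (LP (LK LD1_c8 LD2_c16 LD3_c17)) = (LP (LK LD1_c8 LD2_c13 LD3_c29)) :=
  Lgr Lrot173 (Lpr_cf (K10.f188329 IH) (Lpe (f184200 IH) (Lpe (K10.f3754 IH) (Lpe (K10.f165865 IH) (Lpe (K10.f165862 IH) (Lpe (K12.f165866 IH) (Lpe (f165860 IH) (Lpe (f188522 IH) (Lpe (K10.f184164 IH) (Lpr_df (f184217 IH) (Lpe (f51338 IH) (Lpe (f51337 IH) (Lpr_cf (K10.f192515 IH) (Lpe (K14.f192519 IH) (Lpe (K14.f192520 IH) (Lpn (LP (LK LD1_c8 LD2_c13 LD3_c29))))))))))))))))))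
theorem f236148 : Led Lsl_ct (LP (LK LD1_c5 LD2_c28 LD3_c18)) = (LP (LK LD1_c2 LD2_c40 LD3_c28)) :=
  Lre_c IH (LK LD1_c5 LD2_c28 LD3_c18) (LK LD1_c2 LD2_c40 LD3_c28) Lrfl Lrfl
theorem f261390 : Led Lsl_gt (LP (LK LD1_c8 LD2_c13 LD3_c29)) = (LP (LK LD1_c5 LD2_c28 LD3_c18)) :=
  Lgr Lrot9 (Lpe (f192521 IH) (Lpr_gt (K10.f49351 IH) (Lpr_ct (K10.f49571 IH) (Lpe (f257799 IH) (Lpr_ct (f188235 IH) (Lpe (f182085 IH) (Lpe (f181203 IH) (Lpr_gf (f261382 IH) (Lpe (f236148 IH) (Lpn (LP (LK LD1_c5 LD2_c28 LD3_c18))))))))))))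
theorem f192632 : Led Lsl_gt (LP (LK LD1_c2 LD2_c29 LD3_c48)) = (LP (LK LD1_c5 LD2_c4 LD3_c58)) :=
  Lre_g IH (LK LD1_c2 LD2_c29 LD3_c48) (LK LD1_c5 LD2_c4 LD3_c58) Lrfl Lrfl
theorem f266485 : Led Lsl_ct (LP (LK LD1_c4 LD2_c1 LD3_c45)) = (LP (LK LD1_c5 LD2_c4 LD3_c58)) :=
  Lgr Lrot10 (Lpe (f195607 IH) (Lpr_gt (f266475 IH) (Lpr_ct (K14.f204985 IH) (Lpr_gt (f261390 IH) (Lpe (f236144 IH) (Lpe (f261352 IH) (Lpr_gt (f211378 IH) (Lpe (f212282 IH) (Lpr_ct (K14.f31643 IH) (Lpr_gt (f192632 IH) (Lpn (LP (LK LD1_c5 LD2_c4 LD3_c58)))))))))))))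
theorem f239291 : Led Lsl_ct (LP (LK LD1_c4 LD2_c20 LD3_c23)) = (LP (LK LD1_c2 LD2_c7 LD3_c39)) :=
  Lre_c IH (LK LD1_c4 LD2_c20 LD3_c23) (LK LD1_c2 LD2_c7 LD3_c39) Lrfl Lrfl
theorem f240760 : Led Lsl_gf (LP (LK LD1_c4 LD2_c4 LD3_c32)) = (LP (LK LD1_c2 LD2_c7 LD3_c39)) :=
  Lgr Lrot143 (Lpr_dt (K13.f223719 IH) (Lpr_cf (K13.f223717 IH) (Lpr_df (K13.f240748 IH) (Lpe (K13.f240679 IH) (Lpe (K12.f36339 IH) (Lpe (K12.f201320 IH) (Lpe (K1.f28481 IH) (Lpe (K13.f239294 IH) (Lpr_dt (K13.f33184 IH) (Lpn (LP (LK LD1_c2 LD2_c7 LD3_c39))))))))))))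
theorem f241029 : Led Lsl_gf (LP (LK LD1_c8 LD2_c9 LD3_c60)) = (LP (LK LD1_c10 LD2_c4 LD3_c13)) :=
  Lgr Lrot143 (Lpr_dt (K13.f194199 IH) (Lpe (K10.f194193 IH) (Lpe (K11.f28995 IH) (Lpe (K13.f194096 IH) (Lpe (K13.f223719 IH) (Lpr_gf (f240760 IH) (Lpe (f239291 IH) (Lpr_gt (K13.f241023 IH) (Lpe (K13.f240985 IH) (Lpn (LP (LK LD1_c10 LD2_c4 LD3_c13))))))))))))
theorem f231527 : Led Lsl_cf (LP (LK LD1_c8 LD2_c14 LD3_c7)) = (LP (LK LD1_c4 LD2_c20 LD3_c42)) :=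
  Lgr Lrot11 (Lpr_ct (K13.f231514 IH) (Lpn (LP (LK LD1_c4 LD2_c20 LD3_c42))))
theorem f240651 : Led Lsl_cf (LP (LK LD1_c8 LD2_c38 LD3_c37)) = (LP (LK LD1_c4 LD2_c20 LD3_c41)) :=
  Lgr Lrot55 (Lpr_dt (K13.f239296 IH) (Lpr_ct (f239291 IH) (Lpr_dt (f33152 IH) (Lpr_ct (K13.f239285 IH) (Lpr_dt (K13.f31571 IH) (Lpr_ct (K13.f31572 IH) (Lpr_dt (K13.f239303 IH) (Lpe (f231527 IH) (Lpr_dt (K13.f21299 IH) (Lpr_ct (K13.f21298 IH) (Lpr_dt (K14.f190234 IH) (Lpe (K9.f183887 IH) (Lpr_dt (K11.f31054 IH) (Lpr_ct (K12.f190262 IH) (Lpr_dt (K13.f240649 IH) (Lpn (LP (LK LD1_c4 LD2_c20 LD3_c41))))))))))))))))))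
theorem f241369 : Led Lsl_cf (LP (LK LD1_c4 LD2_c20 LD3_c8)) = (LP (LK LD1_c8 LD2_c9 LD3_c60)) :=
  Lgr Lrot166 (Lpr_gt (K13.f241365 IH) (Lpr_dt (K13.f240659 IH) (Lpe (K13.f240657 IH) (Lpr_dt (K13.f240649 IH) (Lpe (f240651 IH) (Lpe (K13.f239288 IH) (Lpr_gf (K13.f241021 IH) (Lpe (K13.f231493 IH) (Lpe (K13.f227362 IH) (Lpn (LP (LK LD1_c8 LD2_c9 LD3_c60))))))))))))
theorem f266507 : Led Lsl_dt (LP (LK LD1_c10 LD2_c0 LD3_c60)) = (LP (LK LD1_c5 LD2_c4 LD3_c58)) :=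
  Lre_d IH (LK LD1_c10 LD2_c0 LD3_c60) (LK LD1_c5 LD2_c4 LD3_c58) Lrfl Lrfl
theorem f266510 : Led Lsl_ct (LP (LK LD1_c5 LD2_c5 LD3_c6)) = (LP (LK LD1_c10 LD2_c0 LD3_c60)) :=
  Lgr Lrot110 (Lpe (K13.f241365 IH) (Lpr_cf (f241369 IH) (Lpr_gf (f241029 IH) (Lpr_df (K13.f240985 IH) (Lpr_gt (K13.f192185 IH) (Lpr_ct (K13.f21298 IH) (Lpr_gt (K12.f190232 IH) (Lpr_ct (f266485 IH) (Lpe (f266507 IH) (Lpn (LP (LK LD1_c10 LD2_c0 LD3_c60))))))))))))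
theorem f31580 : Led Lsl_dt (LP (LK LD1_c4 LD2_c4 LD3_c35)) = (LP (LK LD1_c1 LD2_c59 LD3_c17)) :=
  Lre_d IH (LK LD1_c4 LD2_c4 LD3_c35) (LK LD1_c1 LD2_c59 LD3_c17) Lrfl Lrfl
theorem f193355 : Led Lsl_dt (LP (LK LD1_c1 LD2_c13 LD3_c50)) = (LP (LK LD1_c2 LD2_c33 LD3_c44)) :=
  Lre_d IH (LK LD1_c1 LD2_c13 LD3_c50) (LK LD1_c2 LD2_c33 LD3_c44) Lrfl Lrfl
theorem f187929 : Led Lsl_ct (LP (LK LD1_c5 LD2_c13 LD3_c42)) = (LP (LK LD1_c2 LD2_c33 LD3_c44)) :=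
  Lre_c IH (LK LD1_c5 LD2_c13 LD3_c42) (LK LD1_c2 LD2_c33 LD3_c44) Lrfl Lrfl
theorem f201748 : Led Lsl_dt (LP (LK LD1_c4 LD2_c19 LD3_c58)) = (LP (LK LD1_c5 LD2_c13 LD3_c42)) :=
  Lgr Lrot105 (Lpe (K13.f33021 IH) (Lpe (K0.f31709 IH) (Lpe (K11.f201731 IH) (Lpr_cf (K11.f201657 IH) (Lpr_gt (K11.f201741 IH) (Lpr_dt (K12.f201624 IH) (Lpr_gt (K11.f171694 IH) (Lpr_dt (f193355 IH) (Lpe (f187929 IH) (Lpn (LP (LK LD1_c5 LD2_c13 LD3_c42))))))))))))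
theorem f201773 : Led Lsl_df (LP (LK LD1_c4 LD2_c19 LD3_c58)) = (LP (LK LD1_c5 LD2_c13 LD3_c42)) :=
  Lgr Lrot38 (Lpr_dt (f201748 IH) (Lpn (LP (LK LD1_c5 LD2_c13 LD3_c42))))
theorem f266517 : Led Lsl_gf (LP (LK LD1_c5 LD2_c13 LD3_c42)) = (LP (LK LD1_c10 LD2_c0 LD3_c60)) :=
  Lgr Lrot148 (Lpe (f201773 IH) (Lpe (K13.f231452 IH) (Lpr_dt (K0.f31992 IH) (Lpr_ct (K0.f31991 IH) (Lpe (K11.f31722 IH) (Lpr_gf (K10.f192349 IH) (Lpe (f31580 IH) (Lpr_gf (K13.f241283 IH) (Lpr_ct (f266510 IH) (Lpn (LP (LK LD1_c10 LD2_c0 LD3_c60))))))))))))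
theorem f216363 : Led Lsl_gt (LP (LK LD1_c2 LD2_c33 LD3_c44)) = (LP (LK LD1_c5 LD2_c5 LD3_c8)) :=
  Lgr Lrot49 (Lpe (f193355 IH) (Lpe (K11.f171694 IH) (Lpe (K11.f201548 IH) (Lpe (K12.f31587 IH) (Lpr_dt (K12.f216356 IH) (Lpr_gt (K13.f211590 IH) (Lpr_dt (K10.f171540 IH) (Lpe (K13.f204926 IH) (Lpe (K14.f201357 IH) (Lpn (LP (LK LD1_c5 LD2_c5 LD3_c8))))))))))))
theorem f255281 : Led Lsl_ct (LP (LK LD1_c5 LD2_c5 LD3_c8)) = (LP (LK LD1_c10 LD2_c0 LD3_c57)) :=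
  Lgr Lrot7 (Lpe (K14.f164964 IH) (Lpe (K12.f164963 IH) (Lpe (K11.f164953 IH) (Lpr_gf (K11.f201347 IH) (Lpe (K11.f36944 IH) (Lpe (K13.f191287 IH) (Lpr_dt (K13.f182029 IH) (Lpr_gt (K14.f255274 IH) (Lpr_dt (K14.f255278 IH) (Lpn (LP (LK LD1_c10 LD2_c0 LD3_c57))))))))))))
theorem f255292 : Led Lsl_dt (LP (LK LD1_c10 LD2_c0 LD3_c57)) = (LP (LK LD1_c5 LD2_c4 LD3_c56)) :=
  Lre_d IH (LK LD1_c10 LD2_c0 LD3_c57) (LK LD1_c5 LD2_c4 LD3_c56) Lrfl Lrfl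
theorem f31629 : Led Lsl_ct (LP (LK LD1_c2 LD2_c29 LD3_c47)) = (LP (LK LD1_c5 LD2_c4 LD3_c56)) :=
  Lre_c IH (LK LD1_c2 LD2_c29 LD3_c47) (LK LD1_c5 LD2_c4 LD3_c56) Lrfl Lrfl
theorem f192633 : Led Lsl_dt (LP (LK LD1_c5 LD2_c4 LD3_c58)) = (LP (LK LD1_c10 LD2_c0 LD3_c60)) :=
  Lre_d IH (LK LD1_c5 LD2_c4 LD3_c58) (LK LD1_c10 LD2_c0 LD3_c60) Lrfl Lrfl
theorem f265297 : Led Lsl_cf (LP (LK LD1_c4 LD2_c4 LD3_c32)) = (LP (LK LD1_c5 LD2_c4 LD3_c59)) :=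
  Lgr Lrot11 (Lpr_ct (f265291 IH) (Lpn (LP (LK LD1_c5 LD2_c4 LD3_c59))))
theorem f239243 : Led Lsl_ct (LP (LK LD1_c2 LD2_c7 LD3_c47)) = (LP (LK LD1_c1 LD2_c9 LD3_c34)) :=
  Lgr Lrot59 (Lpr_cf (K13.f239240 IH) (Lpn (LP (LK LD1_c1 LD2_c9 LD3_c34))))
theorem f239252 : Led Lsl_gf (LP (LK LD1_c4 LD2_c20 LD3_c42)) = (LP (LK LD1_c4 LD2_c20 LD3_c18)) :=
  Lgr Lrot147 (Lpe (f231527 IH) (Lpr_gt (K13.f231475 IH) (Lpr_ct (K13.f201408 IH) (Lpe (K11.f80912 IH) (Lpr_cf (K14.f201401 IH) (Lpe (K12.f31537 IH) (Lpe (f239243 IH) (Lpr_gf (K13.f239250 IH) (Lpe (K0.f31768 IH) (Lpn (LP (LK LD1_c4 LD2_c20 LD3_c18))))))))))))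
theorem f265314 : Led Lsl_dt (LP (LK LD1_c4 LD2_c20 LD3_c30)) = (LP (LK LD1_c5 LD2_c5 LD3_c15)) :=
  Lgr Lrot6 (Lpr_gt (f265310 IH) (Lpe (f265297 IH) (Lpr_gt (K13.f223723 IH) (Lpr_ct (K13.f21300 IH) (Lpe (K13.f21299 IH) (Lpr_cf (f231527 IH) (Lpr_gf (f239252 IH) (Lpr_cf (K0.f31793 IH) (Lpr_gf (K13.f204983 IH) (Lpn (LP (LK LD1_c5 LD2_c5 LD3_c15))))))))))))
theorem f266505 : Led Lsl_gf (LP (LK LD1_c4 LD2_c20 LD3_c30)) = (LP (LK LD1_c5 LD2_c4 LD3_c58)) :=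
  Lgr Lrot148 (Lpr_dt (f265314 IH) (Lpe (K13.f204983 IH) (Lpr_dt (K13.f27894 IH) (Lpr_ct (K13.f27896 IH) (Lpe (K0.f27882 IH) (Lpe (K13.f28677 IH) (Lpe (f33152 IH) (Lpe (f241894 IH) (Lpr_ct (f266485 IH) (Lpn (LP (LK LD1_c5 LD2_c4 LD3_c58))))))))))))
theorem f192330 : Led Lsl_ct (LP (LK LD1_c4 LD2_c20 LD3_c30)) = (LP (LK LD1_c2 LD2_c7 LD3_c43)) :=
  Lre_c IH (LK LD1_c4 LD2_c20 LD3_c30) (LK LD1_c2 LD2_c7 LD3_c43) Lrfl Lrfl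
theorem f266634 : Led Lsl_gf (LP (LK LD1_c2 LD2_c29 LD3_c47)) = (LP (LK LD1_c2 LD2_c7 LD3_c43)) :=
  Lgr Lrot104 (Lpr_ct (f31629 IH) (Lpe (f255292 IH) (Lpe (f255281 IH) (Lpe (f216363 IH) (Lpe (f187929 IH) (Lpr_gf (f266517 IH) (Lpe (f192633 IH) (Lpe (f266505 IH) (Lpr_ct (f192330 IH) (Lpn (LP (LK LD1_c2 LD2_c7 LD3_c43))))))))))))
theorem f163708 : Led Lsl_bt (LP (LK LD1_c5 LD2_c4 LD3_c55)) = (LP (LK LD1_c2 LD2_c29 LD3_c47)) :=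
  Lre_b IH (LK LD1_c5 LD2_c4 LD3_c55) (LK LD1_c2 LD2_c29 LD3_c47) Lrfl Lrfl
theorem f194146 : Led Lsl_ct (LP (LK LD1_c1 LD2_c15 LD3_c44)) = (LP (LK LD1_c2 LD2_c37 LD3_c25)) :=
  Lre_c IH (LK LD1_c1 LD2_c15 LD3_c44) (LK LD1_c2 LD2_c37 LD3_c25) Lrfl Lrfl
theorem f192329 : Led Lsl_dt (LP (LK LD1_c1 LD2_c0 LD3_c58)) = (LP (LK LD1_c2 LD2_c7 LD3_c43)) :=
  Lre_d IH (LK LD1_c1 LD2_c0 LD3_c58) (LK LD1_c2 LD2_c7 LD3_c43) Lrfl Lrfl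
theorem f189864 : Led Lsl_ct (LP (LK LD1_c4 LD2_c19 LD3_c54)) = (LP (LK LD1_c2 LD2_c7 LD3_c26)) :=
  Lre_c IH (LK LD1_c4 LD2_c19 LD3_c54) (LK LD1_c2 LD2_c7 LD3_c26) Lrfl Lrfl
theorem f266644 : Led Lsl_gt (LP (LK LD1_c5 LD2_c4 LD3_c56)) = (LP (LK LD1_c4 LD2_c19 LD3_c54)) :=
  Lgr Lrot150 (Lpe (f31629 IH) (Lpr_gf (f266634 IH) (Lpe (f192329 IH) (Lpe (K12.f192327 IH) (Lpr_ct (K0.f28579 IH) (Lpr_gt (K10.f28710 IH) (Lpr_ct (K13.f189862 IH) (Lpe (K13.f32031 IH) (Lpe (f189864 IH) (Lpn (LP (LK LD1_c4 LD2_c19 LD3_c54))))))))))))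
theorem f189922 : Led Lsl_bf (LP (LK LD1_c2 LD2_c4 LD3_c32)) = (LP (LK LD1_c2 LD2_c7 LD3_c26)) :=
  Lgr Lrot24 (Lpr_bt (f189877 IH) (Lpn (LP (LK LD1_c2 LD2_c7 LD3_c26))))
theorem f266646 : Led Lsl_gt (LP (LK LD1_c5 LD2_c21 LD3_c31)) = (LP (LK LD1_c2 LD2_c37 LD3_c25)) :=
  Lgr Lrot65 (Lpr_cf (K14.f253115 IH) (Lpr_bt (K14.f253039 IH) (Lpe (K14.f253031 IH) (Lpr_bf (f189922 IH) (Lpr_ct (K13.f189925 IH) (Lpe (f266644 IH) (Lpe (f31629 IH) (Lpr_gf (f266634 IH) (Lpr_bf (f265326 IH) (Lpr_ct (f194146 IH) (Lpn (LP (LK LD1_c2 LD2_c37 LD3_c25)))))))))))))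
theorem f192500 : Led Lsl_bt (LP (LK LD1_c2 LD2_c0 LD3_c31)) = (LP (LK LD1_c4 LD2_c6 LD3_c17)) :=
  Lre_b IH (LK LD1_c2 LD2_c0 LD3_c31) (LK LD1_c4 LD2_c6 LD3_c17) Lrfl Lrfl
theorem f192262 : Led Lsl_gt (LP (LK LD1_c8 LD2_c13 LD3_c21)) = (LP (LK LD1_c4 LD2_c6 LD3_c24)) :=
  Lre_g IH (LK LD1_c8 LD2_c13 LD3_c21) (LK LD1_c4 LD2_c6 LD3_c24) Lrfl Lrfl
theorem f266650 : Led Lsl_ct (LP (LK LD1_c5 LD2_c4 LD3_c55)) = (LP (LK LD1_c8 LD2_c13 LD3_c21)) :=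
  Lgr Lrot64 (Lpr_bt (f163708 IH) (Lpr_gf (f266634 IH) (Lpr_bf (f265326 IH) (Lpr_ct (f194146 IH) (Lpe (f266646 IH) (Lpr_cf (K14.f253115 IH) (Lpe (K14.f192495 IH) (Lpe (f192500 IH) (Lpr_ct (f192502 IH) (Lpe (f192262 IH) (Lpn (LP (LK LD1_c8 LD2_c13 LD3_c21)))))))))))))
theorem f266671 : Led Lsl_gt (LP (LK LD1_c4 LD2_c6 LD3_c30)) = (LP (LK LD1_c8 LD2_c13 LD3_c21)) :=
  Lgr Lrot65 (Lpe (f55027 IH) (Lpr_bt (f260385 IH) (Lpe (f266475 IH) (Lpr_bf (f195607 IH) (Lpr_ct (f266485 IH) (Lpe (f192632 IH) (Lpe (K14.f31643 IH) (Lpe (K14.f31628 IH) (Lpe (f163708 IH) (Lpr_ct (f266650 IH) (Lpn (LP (LK LD1_c8 LD2_c13 LD3_c21)))))))))))))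
theorem f213977 : Led Lsl_dt (LP (LK LD1_c9 LD2_c41 LD3_c41)) = (LP (LK LD1_c4 LD2_c55 LD3_c2)) :=
  Lre_d IH (LK LD1_c9 LD2_c41 LD3_c41) (LK LD1_c4 LD2_c55 LD3_c2) Lrfl Lrfl
theorem f266664 : Led Lsl_dt (LP (LK LD1_c8 LD2_c13 LD3_c21)) = (LP (LK LD1_c15 LD2_c27 LD3_c60)) :=
  Lre_d IH (LK LD1_c8 LD2_c13 LD3_c21) (LK LD1_c15 LD2_c27 LD3_c60) Lrfl Lrfl
theorem f266675 : Led Lsl_gf (LP (LK LD1_c9 LD2_c41 LD3_c41)) = (LP (LK LD1_c15 LD2_c27 LD3_c60)) :=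
  Lgr Lrot143 (Lpr_dt (f213977 IH) (Lpe (K13.f213978 IH) (Lpe (K14.f41410 IH) (Lpe (K14.f216284 IH) (Lpr_df (K14.f252110 IH) (Lpe (K14.f252587 IH) (Lpe (f187770 IH) (Lpr_gt (f266671 IH) (Lpr_dt (f266664 IH) (Lpn (LP (LK LD1_c15 LD2_c27 LD3_c60))))))))))))
theorem f192261 : Led Lsl_ct (LP (LK LD1_c4 LD2_c6 LD3_c24)) = (LP (LK LD1_c2 LD2_c0 LD3_c31)) :=
  Lre_c IH (LK LD1_c4 LD2_c6 LD3_c24) (LK LD1_c2 LD2_c0 LD3_c31) Lrfl Lrfl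
theorem f256236 : Led Lsl_cf (LP (LK LD1_c15 LD2_c27 LD3_c53)) = (LP (LK LD1_c10 LD2_c37 LD3_c9)) :=
  Lgr Lrot11 (Lpr_ct (K14.f256233 IH) (Lpn (LP (LK LD1_c10 LD2_c37 LD3_c9))))
theorem f266694 : Led Lsl_gt (LP (LK LD1_c11 LD2_c52 LD3_c25)) = (LP (LK LD1_c10 LD2_c37 LD3_c9)) :=
  Lgr Lrot150 (Lpe (f265109 IH) (Lpr_gf (f266675 IH) (Lpe (f266664 IH) (Lpr_gt (f192262 IH) (Lpr_ct (f192261 IH) (Lpr_gt (K14.f187405 IH) (Lpr_ct (K14.f192886 IH) (Lpe (f230913 IH) (Lpr_cf (f256236 IH) (Lpn (LP (LK LD1_c10 LD2_c37 LD3_c9))))))))))))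
theorem f42529 : Led Lsl_dt (LP (LK LD1_c2 LD2_c38 LD3_c8)) = (LP (LK LD1_c5 LD2_c23 LD3_c22)) :=
  Lre_d IH (LK LD1_c2 LD2_c38 LD3_c8) (LK LD1_c5 LD2_c23 LD3_c22) Lrfl Lrfl
theorem f42530 : Led Lsl_ct (LP (LK LD1_c10 LD2_c37 LD3_c18)) = (LP (LK LD1_c5 LD2_c23 LD3_c22)) :=
  Lre_c IH (LK LD1_c10 LD2_c37 LD3_c18) (LK LD1_c5 LD2_c23 LD3_c22) Lrfl Lrfl
theorem f266698 : Led Lsl_gf (LP (LK LD1_c10 LD2_c37 LD3_c18)) = (LP (LK LD1_c15 LD2_c27 LD3_c53)) :=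
  Lgr Lrot104 (Lpr_ct (f42530 IH) (Lpe (f42529 IH) (Lpe (K10.f42498 IH) (Lpr_gf (K1.f42496 IH) (Lpe (K10.f8547 IH) (Lpe (K9.f8549 IH) (Lpe (f42531 IH) (Lpr_gt (f266694 IH) (Lpe (f256236 IH) (Lpn (LP (LK LD1_c15 LD2_c27 LD3_c53))))))))))))
theorem f55011 : Led Lsl_at (LP (LK LD1_c0 LD2_c25 LD3_c61)) = (LP (LK LD1_c0 LD2_c57 LD3_c13)) :=
  Lre_a IH (LK LD1_c0 LD2_c25 LD3_c61) (LK LD1_c0 LD2_c57 LD3_c13) Lrfl Lrfl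
theorem f47933 : Led Lsl_ft (LP (LK LD1_c0 LD2_c57 LD3_c17)) = (LP (LK LD1_c0 LD2_c25 LD3_c61)) :=
  Lre_f IH (LK LD1_c0 LD2_c57 LD3_c17) (LK LD1_c0 LD2_c25 LD3_c61) Lrfl Lrfl
theorem f183854 : Led Lsl_cf (LP (LK LD1_c6 LD2_c4 LD3_c31)) = (LP (LK LD1_c8 LD2_c14 LD3_c2)) :=
  Lgr Lrot116 (Lpr_dt (f42508 IH) (Lpr_ct (K12.f41740 IH) (Lpr_dt (K1.f41751 IH) (Lpr_ct (K9.f183845 IH) (Lpe (f55011 IH) (Lpe (f47933 IH) (Lpr_dt (K12.f47883 IH) (Lpr_ct (K10.f169134 IH) (Lpr_dt (f177483 IH) (Lpn (LP (LK LD1_c8 LD2_c14 LD3_c2))))))))))))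
theorem f266701 : Led Lsl_dt (LP (LK LD1_c10 LD2_c37 LD3_c18)) = (LP (LK LD1_c6 LD2_c4 LD3_c56)) :=
  Lgr Lrot57 (Lpr_gf (f266698 IH) (Lpr_cf (f256236 IH) (Lpe (f265278 IH) (Lpr_dt (f214067 IH) (Lpr_gt (K12.f190973 IH) (Lpr_dt (f42510 IH) (Lpr_cf (f183854 IH) (Lpe (f177483 IH) (Lpr_gf (K10.f177476 IH) (Lpn (LP (LK LD1_c6 LD2_c4 LD3_c56))))))))))))
theorem f265112 : Led Lsl_cf (LP (LK LD1_c9 LD2_c41 LD3_c41)) = (LP (LK LD1_c11 LD2_c52 LD3_c25)) :=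
  Lgr Lrot11 (Lpr_ct (f265109 IH) (Lpn (LP (LK LD1_c11 LD2_c52 LD3_c25))))
theorem f187794 : Led Lsl_ct (LP (LK LD1_c8 LD2_c13 LD3_c15)) = (LP (LK LD1_c4 LD2_c6 LD3_c20)) :=
  Lre_c IH (LK LD1_c8 LD2_c13 LD3_c15) (LK LD1_c4 LD2_c6 LD3_c20) Lrfl Lrfl
theorem f260273 : Led Lsl_gt (LP (LK LD1_c4 LD2_c54 LD3_c16)) = (LP (LK LD1_c5 LD2_c3 LD3_c1)) :=
  Lgr Lrot9 (Lpe (K14.f192272 IH) (Lpr_gt (f260271 IH) (Lpr_ct (f187768 IH) (Lpe (f259590 IH) (Lpr_ct (K14.f184400 IH) (Lpe (f184390 IH) (Lpr_cf (f200615 IH) (Lpe (K14.f256117 IH) (Lpe (K14.f256076 IH) (Lpn (LP (LK LD1_c5 LD2_c3 LD3_c1))))))))))))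
theorem f250439 : Led Lsl_dt (LP (LK LD1_c5 LD2_c19 LD3_c54)) = (LP (LK LD1_c10 LD2_c29 LD3_c40)) :=
  Lre_d IH (LK LD1_c5 LD2_c19 LD3_c54) (LK LD1_c10 LD2_c29 LD3_c40) Lrfl Lrfl
theorem f265061 : Led Lsl_gf (LP (LK LD1_c11 LD2_c52 LD3_c25)) = (LP (LK LD1_c10 LD2_c29 LD3_c40)) :=
  Lgr Lrot143 (Lpr_dt (f42531 IH) (Lpr_cf (K9.f182551 IH) (Lpe (K14.f256082 IH) (Lpe (f260273 IH) (Lpe (K14.f192272 IH) (Lpe (K14.f183627 IH) (Lpe (f187794 IH) (Lpr_gt (f265059 IH) (Lpr_dt (f250439 IH) (Lpn (LP (LK LD1_c10 LD2_c29 LD3_c40))))))))))))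
theorem f249337 : Led Lsl_dt (LP (LK LD1_c10 LD2_c29 LD3_c40)) = (LP (LK LD1_c5 LD2_c19 LD3_c54)) :=
  Lre_d IH (LK LD1_c10 LD2_c29 LD3_c40) (LK LD1_c5 LD2_c19 LD3_c54) Lrfl Lrfl
theorem f252108 : Led Lsl_ct (LP (LK LD1_c4 LD2_c6 LD3_c23)) = (LP (LK LD1_c8 LD2_c13 LD3_c19)) :=
  Lre_c IH (LK LD1_c4 LD2_c6 LD3_c23) (LK LD1_c8 LD2_c13 LD3_c19) Lrfl Lrfl
theorem f252109 : Led Lsl_dt (LP (LK LD1_c8 LD2_c13 LD3_c19)) = (LP (LK LD1_c15 LD2_c27 LD3_c55)) :=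
  Lre_d IH (LK LD1_c8 LD2_c13 LD3_c19) (LK LD1_c15 LD2_c27 LD3_c55) Lrfl Lrfl
theorem f256238 : Led Lsl_cf (LP (LK LD1_c10 LD2_c29 LD3_c40)) = (LP (LK LD1_c15 LD2_c27 LD3_c55)) :=
  Lgr Lrot55 (Lpr_dt (f249337 IH) (Lpr_ct (f249316 IH) (Lpr_dt (K14.f249225 IH) (Lpe (K14.f230549 IH) (Lpe (K14.f250451 IH) (Lpr_ct (K14.f192886 IH) (Lpr_dt (K14.f250471 IH) (Lpr_ct (K14.f256233 IH) (Lpr_dt (K14.f184401 IH) (Lpr_ct (K14.f184400 IH) (Lpr_dt (K14.f184395 IH) (Lpr_ct (K14.f200610 IH) (Lpr_dt (K14.f252104 IH) (Lpr_ct (f252108 IH) (Lpr_dt (f252109 IH) (Lpn (LP (LK LD1_c15 LD2_c27 LD3_c55))))))))))))))))))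
theorem f266710 : Led Lsl_gt (LP (LK LD1_c10 LD2_c37 LD3_c18)) = (LP (LK LD1_c15 LD2_c27 LD3_c55)) :=
  Lgr Lrot146 (Lpr_dt (f266701 IH) (Lpe (K10.f177476 IH) (Lpr_ct (K10.f169132 IH) (Lpr_gt (K12.f214072 IH) (Lpr_ct (K13.f213978 IH) (Lpr_dt (f214079 IH) (Lpr_cf (f265112 IH) (Lpr_gf (f265061 IH) (Lpr_cf (f256238 IH) (Lpn (LP (LK LD1_c15 LD2_c27 LD3_c55))))))))))))
theorem f190161 : Led Lsl_ct (LP (LK LD1_c5 LD2_c23 LD3_c22)) = (LP (LK LD1_c10 LD2_c37 LD3_c18)) :=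
  Lre_c IH (LK LD1_c5 LD2_c23 LD3_c22) (LK LD1_c10 LD2_c37 LD3_c18) Lrfl Lrfl
theorem f182161 : Led Lsl_gt (LP (LK LD1_c10 LD2_c37 LD3_c17)) = (LP (LK LD1_c5 LD2_c23 LD3_c22)) :=
  Lre_g IH (LK LD1_c10 LD2_c37 LD3_c17) (LK LD1_c5 LD2_c23 LD3_c22) Lrfl Lrfl
theorem f266728 : Led Lsl_df (LP (LK LD1_c10 LD2_c37 LD3_c17)) = (LP (LK LD1_c6 LD2_c4 LD3_c39)) :=
  Lgr Lrot155 (Lpr_gt (f182161 IH) (Lpr_ct (f190161 IH) (Lpr_gt (f266710 IH) (Lpe (f256238 IH) (Lpr_dt (f249337 IH) (Lpe (f249231 IH) (Lpe (K14.f250432 IH) (Lpe (f182799 IH) (Lpe (f231861 IH) (Lpn (LP (LK LD1_c6 LD2_c4 LD3_c39))))))))))))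
theorem f42532 : Led Lsl_dt (LP (LK LD1_c5 LD2_c23 LD3_c22)) = (LP (LK LD1_c2 LD2_c38 LD3_c8)) :=
  Lre_d IH (LK LD1_c5 LD2_c23 LD3_c22) (LK LD1_c2 LD2_c38 LD3_c8) Lrfl Lrfl
theorem f42502 : Led Lsl_ct (LP (LK LD1_c2 LD2_c38 LD3_c8)) = (LP (LK LD1_c1 LD2_c16 LD3_c0)) :=
  Lre_c IH (LK LD1_c2 LD2_c38 LD3_c8) (LK LD1_c1 LD2_c16 LD3_c0) Lrfl Lrfl
theorem f266740 : Led Lsl_gt (LP (LK LD1_c2 LD2_c58 LD3_c37)) = (LP (LK LD1_c6 LD2_c4 LD3_c39)) :=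
  Lgr Lrot94 (Lpe (f194169 IH) (Lpr_gt (K14.f252592 IH) (Lpr_dt (K14.f184395 IH) (Lpr_gt (K14.f42501 IH) (Lpr_dt (K1.f41434 IH) (Lpe (f42502 IH) (Lpe (f42532 IH) (Lpe (f182161 IH) (Lpr_df (f266728 IH) (Lpn (LP (LK LD1_c6 LD2_c4 LD3_c39))))))))))))
theorem f266764 : Led Lsl_gf (LP (LK LD1_c5 LD2_c0 LD3_c57)) = (LP (LK LD1_c8 LD2_c13 LD3_c28)) :=
  Lgr Lrot124 (Lpr_bf (K14.f187865 IH) (Lpr_ct (K14.f187873 IH) (Lpr_gt (f261327 IH) (Lpe (K14.f44601 IH) (Lpr_bt (f249226 IH) (Lpr_gt (K14.f256251 IH) (Lpr_ct (f194169 IH) (Lpr_gt (f266740 IH) (Lpr_cf (f264067 IH) (Lpe (f264077 IH) (Lpn (LP (LK LD1_c8 LD2_c13 LD3_c28)))))))))))))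
theorem f264054 : Led Lsl_df (LP (LK LD1_c5 LD2_c22 LD3_c42)) = (LP (LK LD1_c8 LD2_c11 LD3_c0)) :=
  Lgr Lrot38 (Lpr_dt (f264046 IH) (Lpn (LP (LK LD1_c8 LD2_c11 LD3_c0))))
theorem f257891 : Led Lsl_ef (LP (LK LD1_c4 LD2_c55 LD3_c8)) = (LP (LK LD1_c8 LD2_c23 LD3_c56)) :=
  Lgr Lrot88 (Lpr_et (f257889 IH) (Lpn (LP (LK LD1_c8 LD2_c23 LD3_c56))))
theorem f258001 : Led Lsl_bt (LP (LK LD1_c5 LD2_c22 LD3_c42)) = (LP (LK LD1_c8 LD2_c23 LD3_c56)) :=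
  Lgr Lrot119 (Lpr_ef (f257989 IH) (Lpe (f257947 IH) (Lpr_ef (f257891 IH) (Lpn (LP (LK LD1_c8 LD2_c23 LD3_c56))))))
theorem f264083 : Led Lsl_df (LP (LK LD1_c8 LD2_c13 LD3_c28)) = (LP (LK LD1_c8 LD2_c23 LD3_c56)) :=
  Lgr Lrot12 (Lpr_bt (f264081 IH) (Lpe (f264054 IH) (Lpr_bt (f258001 IH) (Lpn (LP (LK LD1_c8 LD2_c23 LD3_c56))))))
theorem f246704 : Led Lsl_et (LP (LK LD1_c1 LD2_c9 LD3_c57)) = (LP (LK LD1_c2 LD2_c25 LD3_c27)) :=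
  Lre_e IH (LK LD1_c1 LD2_c9 LD3_c57) (LK LD1_c2 LD2_c25 LD3_c27) Lrfl Lrfl
theorem f266774 : Led Lsl_et (LP (LK LD1_c2 LD2_c28 LD3_c12)) = (LP (LK LD1_c2 LD2_c41 LD3_c8)) :=
  Lgr Lrot121 (Lpr_dt (K9.f165859 IH) (Lpr_gf (f266764 IH) (Lpr_df (f264083 IH) (Lpe (f257891 IH) (Lpe (f246696 IH) (Lpe (f246704 IH) (Lpr_dt (f219082 IH) (Lpe (f263688 IH) (Lpe (K14.f168338 IH) (Lpe (K13.f168345 IH) (Lpn (LP (LK LD1_c2 LD2_c41 LD3_c8)))))))))))))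
theorem f266299 : Led Lsl_df (LP (LK LD1_c4 LD2_c13 LD3_c39)) = (LP (LK LD1_c8 LD2_c6 LD3_c3)) :=
  Lgr Lrot162 (Lpr_cf (K13.f184065 IH) (Lpe (K9.f47574 IH) (Lpe (K1.f45192 IH) (Lpe (K10.f45401 IH) (Lpr_dt (K12.f47565 IH) (Lpr_gt (K14.f250683 IH) (Lpr_ct (f255039 IH) (Lpr_gt (f266291 IH) (Lpr_ct (f266285 IH) (Lpn (LP (LK LD1_c8 LD2_c6 LD3_c3))))))))))))
theorem f266776 : Led Lsl_et (LP (LK LD1_c8 LD2_c6 LD3_c3)) = (LP (LK LD1_c5 LD2_c29 LD3_c24)) :=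
  Lgr Lrot185 (Lpe (f266299 IH) (Lpe (K9.f44995 IH) (Lpe (K13.f27396 IH) (Lpe (K9.f183705 IH) (Lpe (K9.f183701 IH) (Lpr_dt (K9.f169566 IH) (Lpr_gf (K9.f183697 IH) (Lpe (K9.f165859 IH) (Lpr_et (f266774 IH) (Lpe (K13.f220554 IH) (Lpn (LP (LK LD1_c5 LD2_c29 LD3_c24)))))))))))))
theorem f266283 : Led Lsl_bt (LP (LK LD1_c8 LD2_c36 LD3_c33)) = (LP (LK LD1_c8 LD2_c6 LD3_c3)) :=
  Lgr Lrot127 (Lpr_bf (f266281 IH) (Lpn (LP (LK LD1_c8 LD2_c6 LD3_c3))))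
theorem f229941 : Led Lsl_et (LP (LK LD1_c8 LD2_c11 LD3_c3)) = (LP (LK LD1_c8 LD2_c36 LD3_c33)) :=
  Lgr Lrot87 (Lpr_ef (K13.f229939 IH) (Lpn (LP (LK LD1_c8 LD2_c36 LD3_c33))))
theorem f266778 : Led Lsl_bf (LP (LK LD1_c8 LD2_c11 LD3_c3)) = (LP (LK LD1_c5 LD2_c29 LD3_c24)) :=
  Lgr Lrot96 (Lpr_et (f229941 IH) (Lpr_bt (f266283 IH) (Lpr_et (f266776 IH) (Lpn (LP (LK LD1_c5 LD2_c29 LD3_c24))))))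
theorem f191061 : Led Lsl_bt (LP (LK LD1_c1 LD2_c59 LD3_c47)) = (LP (LK LD1_c4 LD2_c5 LD3_c8)) :=
  Lre_b IH (LK LD1_c1 LD2_c59 LD3_c47) (LK LD1_c4 LD2_c5 LD3_c8) Lrfl Lrfl
theorem f191058 : Led Lsl_ct (LP (LK LD1_c1 LD2_c59 LD3_c47)) = (LP (LK LD1_c4 LD2_c5 LD3_c10)) :=
  Lre_c IH (LK LD1_c1 LD2_c59 LD3_c47) (LK LD1_c4 LD2_c5 LD3_c10) Lrfl Lrfl
theorem f220533 : Led Lsl_ct (LP (LK LD1_c5 LD2_c29 LD3_c24)) = (LP (LK LD1_c2 LD2_c41 LD3_c0)) :=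
  Lre_c IH (LK LD1_c5 LD2_c29 LD3_c24) (LK LD1_c2 LD2_c41 LD3_c0) Lrfl Lrfl
theorem f253185 : Led Lsl_ct (LP (LK LD1_c1 LD2_c17 LD3_c35)) = (LP (LK LD1_c1 LD2_c17 LD3_c21)) :=
  Lgr Lrot7 (Lpe (K14.f212217 IH) (Lpr_gf (K14.f253182 IH) (Lpe (K10.f32329 IH) (Lpr_gf (K13.f243582 IH) (Lpe (K13.f53437 IH) (Lpr_gt (K12.f755 IH) (Lpr_dt (K12.f1403 IH) (Lpr_gt (K12.f606 IH) (Lpe (K14.f220546 IH) (Lpn (LP (LK LD1_c1 LD2_c17 LD3_c21))))))))))))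
theorem f266805 : Led Lsl_gt (LP (LK LD1_c4 LD2_c5 LD3_c10)) = (LP (LK LD1_c4 LD2_c8 LD3_c56)) :=
  Lgr Lrot65 (Lpe (f191058 IH) (Lpr_bt (f191061 IH) (Lpe (K13.f191117 IH) (Lpr_bf (f266778 IH) (Lpr_ct (f220533 IH) (Lpe (f220553 IH) (Lpe (f253185 IH) (Lpr_gf (f259248 IH) (Lpe (f219322 IH) (Lpr_ct (f219300 IH) (Lpn (LP (LK LD1_c4 LD2_c8 LD3_c56)))))))))))))
theorem f178466 : Led Lsl_bt (LP (LK LD1_c0 LD2_c35 LD3_c53)) = (LP (LK LD1_c1 LD2_c17 LD3_c35)) :=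
  Lre_b IH (LK LD1_c0 LD2_c35 LD3_c53) (LK LD1_c1 LD2_c17 LD3_c35) Lrfl Lrfl
theorem f266809 : Led Lsl_gf (LP (LK LD1_c1 LD2_c59 LD3_c47)) = (LP (LK LD1_c2 LD2_c7 LD3_c16)) :=
  Lgr Lrot181 (Lpr_ct (f191058 IH) (Lpr_gt (f266805 IH) (Lpe (f219300 IH) (Lpr_bt (f219322 IH) (Lpe (f259248 IH) (Lpe (f178466 IH) (Lpr_ct (K9.f178467 IH) (Lpr_gt (K14.f253548 IH) (Lpe (K14.f253552 IH) (Lpr_bt (K14.f253553 IH) (Lpn (LP (LK LD1_c2 LD2_c7 LD3_c16)))))))))))))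
theorem f223912 : Led Lsl_et (LP (LK LD1_c2 LD2_c39 LD3_c2)) = (LP (LK LD1_c5 LD2_c25 LD3_c7)) :=
  Lre_e IH (LK LD1_c2 LD2_c39 LD3_c2) (LK LD1_c5 LD2_c25 LD3_c7) Lrfl Lrfl
theorem f191116 : Led Lsl_et (LP (LK LD1_c8 LD2_c11 LD3_c2)) = (LP (LK LD1_c4 LD2_c5 LD3_c7)) :=
  Lre_e IH (LK LD1_c8 LD2_c11 LD3_c2) (LK LD1_c4 LD2_c5 LD3_c7) Lrfl Lrfl
theorem f223913 : Led Lsl_dt (LP (LK LD1_c5 LD2_c25 LD3_c7)) = (LP (LK LD1_c8 LD2_c11 LD3_c2)) :=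
  Lgr Lrot77 (Lpe (f223912 IH) (Lpr_df (K13.f223906 IH) (Lpe (K13.f182536 IH) (Lpe (f182527 IH) (Lpe (f191116 IH) (Lpn (LP (LK LD1_c8 LD2_c11 LD3_c2))))))))
theorem f173099 : Led Lsl_et (LP (LK LD1_c3 LD2_c58 LD3_c9)) = (LP (LK LD1_c7 LD2_c57 LD3_c44)) :=
  Lre_e IH (LK LD1_c3 LD2_c58 LD3_c9) (LK LD1_c7 LD2_c57 LD3_c44) Lrfl Lrfl
theorem f173100 : Led Lsl_et (LP (LK LD1_c5 LD2_c25 LD3_c7)) = (LP (LK LD1_c2 LD2_c39 LD3_c2)) :=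
  Lre_e IH (LK LD1_c5 LD2_c25 LD3_c7) (LK LD1_c2 LD2_c39 LD3_c2) Lrfl Lrfl
theorem f173101 : Led Lsl_bt (LP (LK LD1_c7 LD2_c57 LD3_c44)) = (LP (LK LD1_c5 LD2_c25 LD3_c7)) :=
  Lgr Lrot119 (Lpe (f173099 IH) (Lpr_bf (K9.f173090 IH) (Lpe (f173100 IH) (Lpn (LP (LK LD1_c5 LD2_c25 LD3_c7))))))
theorem f223916 : Led Lsl_bt (LP (LK LD1_c8 LD2_c11 LD3_c2)) = (LP (LK LD1_c4 LD2_c5 LD3_c13)) :=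
  Lre_b IH (LK LD1_c8 LD2_c11 LD3_c2) (LK LD1_c4 LD2_c5 LD3_c13) Lrfl Lrfl
theorem f223917 : Led Lsl_df (LP (LK LD1_c7 LD2_c57 LD3_c44)) = (LP (LK LD1_c4 LD2_c5 LD3_c13)) :=
  Lgr Lrot12 (Lpr_bt (f173101 IH) (Lpr_dt (f223913 IH) (Lpr_bt (f223916 IH) (Lpn (LP (LK LD1_c4 LD2_c5 LD3_c13))))))
theorem f223958 : Led Lsl_dt (LP (LK LD1_c7 LD2_c57 LD3_c44)) = (LP (LK LD1_c4 LD2_c5 LD3_c13)) :=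
  Lgr Lrot42 (Lpr_df (f223917 IH) (Lpn (LP (LK LD1_c4 LD2_c5 LD3_c13))))
theorem f223974 : Led Lsl_et (LP (LK LD1_c4 LD2_c5 LD3_c13)) = (LP (LK LD1_c1 LD2_c59 LD3_c46)) :=
  Lre_e IH (LK LD1_c4 LD2_c5 LD3_c13) (LK LD1_c1 LD2_c59 LD3_c46) Lrfl Lrfl
theorem f224056 : Led Lsl_et (LP (LK LD1_c0 LD2_c56 LD3_c48)) = (LP (LK LD1_c1 LD2_c59 LD3_c47)) :=
  Lre_e IH (LK LD1_c0 LD2_c56 LD3_c48) (LK LD1_c1 LD2_c59 LD3_c47) Lrfl Lrfl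
theorem f224057 : Led Lsl_df (LP (LK LD1_c3 LD2_c58 LD3_c9)) = (LP (LK LD1_c1 LD2_c59 LD3_c47)) :=
  Lgr Lrot70 (Lpr_et (f173099 IH) (Lpr_dt (f223958 IH) (Lpr_et (f223974 IH) (Lpr_dt (K13.f47278 IH) (Lpr_et (f224056 IH) (Lpn (LP (LK LD1_c1 LD2_c59 LD3_c47))))))))
theorem f266815 : Led Lsl_et (LP (LK LD1_c2 LD2_c3 LD3_c29)) = (LP (LK LD1_c2 LD2_c7 LD3_c16)) :=
  Lgr Lrot121 (Lpr_dt (K14.f249613 IH) (Lpe (K12.f197034 IH) (Lpe (K9.f41381 IH) (Lpr_et (K9.f41380 IH) (Lpr_gf (K1.f41377 IH) (Lpe (K1.f41259 IH) (Lpr_dt (K1.f41218 IH) (Lpe (K9.f41379 IH) (Lpr_df (f224057 IH) (Lpr_gf (f266809 IH) (Lpn (LP (LK LD1_c2 LD2_c7 LD3_c16)))))))))))))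
theorem f253620 : Led Lsl_df (LP (LK LD1_c2 LD2_c32 LD3_c20)) = (LP (LK LD1_c2 LD2_c44 LD3_c9)) :=
  Lgr Lrot38 (Lpr_dt (K14.f253610 IH) (Lpn (LP (LK LD1_c2 LD2_c44 LD3_c9))))
theorem f266818 : Led Lsl_df (LP (LK LD1_c1 LD2_c18 LD3_c25)) = (LP (LK LD1_c2 LD2_c7 LD3_c16)) :=
  Lgr Lrot70 (Lpr_et (K14.f253587 IH) (Lpe (f253620 IH) (Lpr_et (K14.f214283 IH) (Lpe (K14.f249601 IH) (Lpr_et (f266815 IH) (Lpn (LP (LK LD1_c2 LD2_c7 LD3_c16))))))))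
theorem f266820 : Led Lsl_dt (LP (LK LD1_c2 LD2_c44 LD3_c7)) = (LP (LK LD1_c4 LD2_c19 LD3_c26)) :=
  Lgr Lrot44 (Lpe (K14.f253700 IH) (Lpr_df (f266818 IH) (Lpe (K14.f253583 IH) (Lpn (LP (LK LD1_c4 LD2_c19 LD3_c26))))))
theorem f254207 : Led Lsl_et (LP (LK LD1_c2 LD2_c44 LD3_c7)) = (LP (LK LD1_c5 LD2_c36 LD3_c29)) :=
  Lre_e IH (LK LD1_c2 LD2_c44 LD3_c7) (LK LD1_c5 LD2_c36 LD3_c29) Lrfl Lrfl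
theorem f42753 : Led Lsl_at (LP (LK LD1_c3 LD2_c58 LD3_c10)) = (LP (LK LD1_c1 LD2_c56 LD3_c1)) :=
  Lre_a IH (LK LD1_c3 LD2_c58 LD3_c10) (LK LD1_c1 LD2_c56 LD3_c1) Lrfl Lrfl
theorem f54570 : Led Lsl_at (LP (LK LD1_c2 LD2_c0 LD3_c39)) = (LP (LK LD1_c4 LD2_c6 LD3_c15)) :=
  Lre_a IH (LK LD1_c2 LD2_c0 LD3_c39) (LK LD1_c4 LD2_c6 LD3_c15) Lrfl Lrfl
theorem f54571 : Led Lsl_et (LP (LK LD1_c1 LD2_c56 LD3_c1)) = (LP (LK LD1_c2 LD2_c0 LD3_c39)) :=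
  Lgr Lrot123 (Lpe (f42753 IH) (Lpr_ef (K1.f54562 IH) (Lpe (f54570 IH) (Lpn (LP (LK LD1_c2 LD2_c0 LD3_c39))))))
theorem f54956 : Led Lsl_ef (LP (LK LD1_c0 LD2_c54 LD3_c43)) = (LP (LK LD1_c0 LD2_c57 LD3_c16)) :=
  Lgr Lrot28 (Lpr_ct (K12.f42746 IH) (Lpr_et (f54571 IH) (Lpr_ct (K10.f54955 IH) (Lpn (LP (LK LD1_c0 LD2_c57 LD3_c16))))))
theorem f254172 : Led Lsl_gt (LP (LK LD1_c2 LD2_c7 LD3_c13)) = (LP (LK LD1_c4 LD2_c19 LD3_c26)) :=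
  Lre_g IH (LK LD1_c2 LD2_c7 LD3_c13) (LK LD1_c4 LD2_c19 LD3_c26) Lrfl Lrfl
theorem f266870 : Led Lsl_dt (LP (LK LD1_c1 LD2_c55 LD3_c61)) = (LP (LK LD1_c2 LD2_c7 LD3_c13)) :=
  Lgr Lrot171 (Lpe (K12.f54972 IH) (Lpr_ef (f54956 IH) (Lpr_dt (K9.f54973 IH) (Lpe (K10.f54974 IH) (Lpe (K14.f54975 IH) (Lpr_et (K14.f54976 IH) (Lpe (K14.f254192 IH) (Lpe (f254207 IH) (Lpr_dt (f266820 IH) (Lpe (f254172 IH) (Lpn (LP (LK LD1_c2 LD2_c7 LD3_c13)))))))))))))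
theorem f42745 : Led Lsl_dt (LP (LK LD1_c0 LD2_c24 LD3_c43)) = (LP (LK LD1_c0 LD2_c54 LD3_c43)) :=
  Lre_d IH (LK LD1_c0 LD2_c24 LD3_c43) (LK LD1_c0 LD2_c54 LD3_c43) Lrfl Lrfl
theorem f254173 : Led Lsl_ct (LP (LK LD1_c4 LD2_c19 LD3_c42)) = (LP (LK LD1_c2 LD2_c7 LD3_c13)) :=
  Lre_c IH (LK LD1_c4 LD2_c19 LD3_c42) (LK LD1_c2 LD2_c7 LD3_c13) Lrfl Lrfl
theorem f266879 : Led Lsl_dt (LP (LK LD1_c8 LD2_c31 LD3_c57)) = (LP (LK LD1_c4 LD2_c19 LD3_c42)) :=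
  Lgr Lrot105 (Lpe (K12.f221836 IH) (Lpe (K10.f43251 IH) (Lpe (K13.f229615 IH) (Lpe (f260889 IH) (Lpr_gt (K12.f42733 IH) (Lpr_dt (f42745 IH) (Lpr_gt (K12.f54972 IH) (Lpr_dt (f266870 IH) (Lpe (f254173 IH) (Lpn (LP (LK LD1_c4 LD2_c19 LD3_c42))))))))))))
theorem f266886 : Led Lsl_df (LP (LK LD1_c8 LD2_c31 LD3_c57)) = (LP (LK LD1_c4 LD2_c19 LD3_c42)) :=
  Lgr Lrot38 (Lpr_dt (f266879 IH) (Lpn (LP (LK LD1_c4 LD2_c19 LD3_c42))))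
theorem f229632 : Led Lsl_et (LP (LK LD1_c2 LD2_c23 LD3_c31)) = (LP (LK LD1_c1 LD2_c8 LD3_c51)) :=
  Lre_e IH (LK LD1_c2 LD2_c23 LD3_c31) (LK LD1_c1 LD2_c8 LD3_c51) Lrfl Lrfl
theorem f177914 : Led Lsl_gt (LP (LK LD1_c2 LD2_c12 LD3_c39)) = (LP (LK LD1_c1 LD2_c3 LD3_c21)) :=
  Lre_g IH (LK LD1_c2 LD2_c12 LD3_c39) (LK LD1_c1 LD2_c3 LD3_c21) Lrfl Lrfl
theorem f1599 : Led Lsl_et (LP (LK LD1_c1 LD2_c8 LD3_c54)) = (LP (LK LD1_c0 LD2_c31 LD3_c28)) :=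
  Lre_e IH (LK LD1_c1 LD2_c8 LD3_c54) (LK LD1_c0 LD2_c31 LD3_c28) Lrfl Lrfl
theorem f238070 : Led Lsl_df (LP (LK LD1_c2 LD2_c12 LD3_c39)) = (LP (LK LD1_c1 LD2_c8 LD3_c54)) :=
  Lgr Lrot170 (Lpr_gt (f177914 IH) (Lpe (K13.f177912 IH) (Lpr_et (K14.f177909 IH) (Lpr_gt (K13.f21245 IH) (Lpr_dt (K13.f238062 IH) (Lpr_gt (K13.f1587 IH) (Lpe (K0.f1578 IH) (Lpe (K0.f1581 IH) (Lpr_gt (K9.f1597 IH) (Lpe (f1599 IH) (Lpn (LP (LK LD1_c1 LD2_c8 LD3_c54)))))))))))))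
theorem f238079 : Led Lsl_et (LP (LK LD1_c2 LD2_c12 LD3_c39)) = (LP (LK LD1_c4 LD2_c31 LD3_c22)) :=
  Lre_e IH (LK LD1_c2 LD2_c12 LD3_c39) (LK LD1_c4 LD2_c31 LD3_c22) Lrfl Lrfl
theorem f2110 : Led Lsl_dt (LP (LK LD1_c1 LD2_c8 LD3_c53)) = (LP (LK LD1_c0 LD2_c31 LD3_c28)) :=
  Lre_d IH (LK LD1_c1 LD2_c8 LD3_c53) (LK LD1_c0 LD2_c31 LD3_c28) Lrfl Lrfl
theorem f238081 : Led Lsl_et (LP (LK LD1_c2 LD2_c23 LD3_c35)) = (LP (LK LD1_c1 LD2_c8 LD3_c53)) :=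
  Lre_e IH (LK LD1_c2 LD2_c23 LD3_c35) (LK LD1_c1 LD2_c8 LD3_c53) Lrfl Lrfl
theorem f238082 : Led Lsl_dt (LP (LK LD1_c4 LD2_c31 LD3_c22)) = (LP (LK LD1_c2 LD2_c23 LD3_c35)) :=
  Lgr Lrot77 (Lpe (f238079 IH) (Lpr_df (f238070 IH) (Lpe (K14.f238080 IH) (Lpe (f2110 IH) (Lpe (f238081 IH) (Lpn (LP (LK LD1_c2 LD2_c23 LD3_c35))))))))
theorem f238101 : Led Lsl_ft (LP (LK LD1_c9 LD2_c0 LD3_c40)) = (LP (LK LD1_c4 LD2_c31 LD3_c22)) :=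
  Lre_f IH (LK LD1_c9 LD2_c0 LD3_c40) (LK LD1_c4 LD2_c31 LD3_c22) Lrfl Lrfl
theorem f238102 : Led Lsl_ft (LP (LK LD1_c2 LD2_c23 LD3_c35)) = (LP (LK LD1_c4 LD2_c51 LD3_c30)) :=
  Lre_f IH (LK LD1_c2 LD2_c23 LD3_c35) (LK LD1_c4 LD2_c51 LD3_c30) Lrfl Lrfl
theorem f238103 : Led Lsl_df (LP (LK LD1_c9 LD2_c0 LD3_c40)) = (LP (LK LD1_c4 LD2_c51 LD3_c30)) :=
  Lgr Lrot78 (Lpr_ft (f238101 IH) (Lpr_dt (f238082 IH) (Lpr_ft (f238102 IH) (Lpn (LP (LK LD1_c4 LD2_c51 LD3_c30))))))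
theorem f238157 : Led Lsl_dt (LP (LK LD1_c9 LD2_c0 LD3_c40)) = (LP (LK LD1_c4 LD2_c51 LD3_c30)) :=
  Lgr Lrot42 (Lpr_df (f238103 IH) (Lpn (LP (LK LD1_c4 LD2_c51 LD3_c30))))
theorem f238163 : Led Lsl_bt (LP (LK LD1_c16 LD2_c50 LD3_c3)) = (LP (LK LD1_c9 LD2_c0 LD3_c40)) :=
  Lre_b IH (LK LD1_c16 LD2_c50 LD3_c3) (LK LD1_c9 LD2_c0 LD3_c40) Lrfl Lrfl
theorem f238164 : Led Lsl_bt (LP (LK LD1_c4 LD2_c51 LD3_c30)) = (LP (LK LD1_c9 LD2_c34 LD3_c50)) :=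
  Lre_b IH (LK LD1_c4 LD2_c51 LD3_c30) (LK LD1_c9 LD2_c34 LD3_c50) Lrfl Lrfl
theorem f238165 : Led Lsl_df (LP (LK LD1_c16 LD2_c50 LD3_c3)) = (LP (LK LD1_c9 LD2_c34 LD3_c50)) :=
  Lgr Lrot12 (Lpr_bt (f238163 IH) (Lpr_dt (f238157 IH) (Lpr_bt (f238164 IH) (Lpn (LP (LK LD1_c9 LD2_c34 LD3_c50))))))
theorem f238170 : Led Lsl_ft (LP (LK LD1_c16 LD2_c50 LD3_c3)) = (LP (LK LD1_c9 LD2_c0 LD3_c35)) :=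
  Lre_f IH (LK LD1_c16 LD2_c50 LD3_c3) (LK LD1_c9 LD2_c0 LD3_c35) Lrfl Lrfl
theorem f238171 : Led Lsl_ft (LP (LK LD1_c4 LD2_c51 LD3_c22)) = (LP (LK LD1_c9 LD2_c34 LD3_c50)) :=
  Lre_f IH (LK LD1_c4 LD2_c51 LD3_c22) (LK LD1_c9 LD2_c34 LD3_c50) Lrfl Lrfl
theorem f238172 : Led Lsl_dt (LP (LK LD1_c9 LD2_c0 LD3_c35)) = (LP (LK LD1_c4 LD2_c51 LD3_c22)) :=
  Lgr Lrot60 (Lpe (f238170 IH) (Lpr_df (f238165 IH) (Lpe (f238171 IH) (Lpn (LP (LK LD1_c4 LD2_c51 LD3_c22))))))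
theorem f238179 : Led Lsl_et (LP (LK LD1_c4 LD2_c31 LD3_c20)) = (LP (LK LD1_c9 LD2_c0 LD3_c35)) :=
  Lre_e IH (LK LD1_c4 LD2_c31 LD3_c20) (LK LD1_c9 LD2_c0 LD3_c35) Lrfl Lrfl
theorem f238180 : Led Lsl_et (LP (LK LD1_c4 LD2_c51 LD3_c22)) = (LP (LK LD1_c2 LD2_c23 LD3_c30)) :=
  Lre_e IH (LK LD1_c4 LD2_c51 LD3_c22) (LK LD1_c2 LD2_c23 LD3_c30) Lrfl Lrfl
theorem f229629 : Led Lsl_dt (LP (LK LD1_c2 LD2_c23 LD3_c30)) = (LP (LK LD1_c1 LD2_c8 LD3_c51)) :=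
  Lre_d IH (LK LD1_c2 LD2_c23 LD3_c30) (LK LD1_c1 LD2_c8 LD3_c51) Lrfl Lrfl
theorem f238182 : Led Lsl_df (LP (LK LD1_c4 LD2_c31 LD3_c20)) = (LP (LK LD1_c2 LD2_c23 LD3_c31)) :=
  Lgr Lrot70 (Lpr_et (f238179 IH) (Lpr_dt (f238172 IH) (Lpr_et (f238180 IH) (Lpr_dt (f229629 IH) (Lpr_et (f238181 IH) (Lpn (LP (LK LD1_c2 LD2_c23 LD3_c31))))))))
theorem f238190 : Led Lsl_gf (LP (LK LD1_c4 LD2_c31 LD3_c20)) = (LP (LK LD1_c2 LD2_c25 LD3_c15)) :=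
  Lgr Lrot134 (Lpr_df (f238182 IH) (Lpr_et (f229632 IH) (Lpr_gt (K13.f229615 IH) (Lpe (K8.f44551 IH) (Lpe (K1.f44558 IH) (Lpe (K1.f8077 IH) (Lpr_df (K8.f47455 IH) (Lpr_et (K9.f47467 IH) (Lpr_gt (K12.f213775 IH) (Lpr_dt (K12.f213898 IH) (Lpn (LP (LK LD1_c2 LD2_c25 LD3_c15)))))))))))))
theorem f213927 : Led Lsl_gt (LP (LK LD1_c4 LD2_c54 LD3_c46)) = (LP (LK LD1_c2 LD2_c25 LD3_c16)) :=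
  Lre_g IH (LK LD1_c4 LD2_c54 LD3_c46) (LK LD1_c2 LD2_c25 LD3_c16) Lrfl Lrfl
theorem f266890 : Led Lsl_ef (LP (LK LD1_c4 LD2_c54 LD3_c46)) = (LP (LK LD1_c4 LD2_c19 LD3_c42)) :=
  Lgr Lrot114 (Lpr_gt (f213927 IH) (Lpe (K12.f213921 IH) (Lpr_dt (K12.f213898 IH) (Lpe (f238190 IH) (Lpr_df (f238182 IH) (Lpr_et (f229632 IH) (Lpr_gt (K13.f229615 IH) (Lpr_dt (K10.f43251 IH) (Lpr_gt (K12.f221836 IH) (Lpr_df (f266886 IH) (Lpn (LP (LK LD1_c4 LD2_c19 LD3_c42)))))))))))))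
theorem f266892 : Led Lsl_et (LP (LK LD1_c4 LD2_c54 LD3_c46)) = (LP (LK LD1_c4 LD2_c19 LD3_c42)) :=
  Lgr Lrot87 (Lpr_ef (f266890 IH) (Lpn (LP (LK LD1_c4 LD2_c19 LD3_c42))))
theorem f182513 : Led Lsl_bt (LP (LK LD1_c0 LD2_c35 LD3_c27)) = (LP (LK LD1_c1 LD2_c16 LD3_c32)) :=
  Lre_b IH (LK LD1_c0 LD2_c35 LD3_c27) (LK LD1_c1 LD2_c16 LD3_c32) Lrfl Lrfl
theorem f253504 : Led Lsl_cf (LP (LK LD1_c4 LD2_c54 LD3_c46)) = (LP (LK LD1_c4 LD2_c12 LD3_c16)) :=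
  Lgr Lrot125 (Lpr_gt (f213927 IH) (Lpe (K12.f213999 IH) (Lpr_bt (K12.f47560 IH) (Lpr_gt (K14.f250683 IH) (Lpe (f182513 IH) (Lpr_ct (K12.f182491 IH) (Lpr_gt (K14.f253490 IH) (Lpe (K12.f199165 IH) (Lpr_bt (K14.f199158 IH) (Lpr_gt (K14.f199173 IH) (Lpn (LP (LK LD1_c4 LD2_c12 LD3_c16)))))))))))))
theorem f266894 : Led Lsl_ef (LP (LK LD1_c4 LD2_c12 LD3_c16)) = (LP (LK LD1_c2 LD2_c7 LD3_c13)) :=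
  Lgr Lrot28 (Lpe (f253504 IH) (Lpr_et (f266892 IH) (Lpr_ct (f254173 IH) (Lpn (LP (LK LD1_c2 LD2_c7 LD3_c13))))))
theorem f266900 : Led Lsl_et (LP (LK LD1_c4 LD2_c12 LD3_c16)) = (LP (LK LD1_c2 LD2_c7 LD3_c13)) :=
  Lgr Lrot87 (Lpr_ef (f266894 IH) (Lpn (LP (LK LD1_c2 LD2_c7 LD3_c13))))
theorem f257572 : Led Lsl_df (LP (LK LD1_c2 LD2_c28 LD3_c60)) = (LP (LK LD1_c4 LD2_c12 LD3_c16)) :=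
  Lgr Lrot12 (Lpr_bt (K14.f212239 IH) (Lpr_dt (f257568 IH) (Lpr_bt (K14.f253482 IH) (Lpn (LP (LK LD1_c4 LD2_c12 LD3_c16))))))
theorem f266907 : Led Lsl_et (LP (LK LD1_c4 LD2_c12 LD3_c17)) = (LP (LK LD1_c4 LD2_c19 LD3_c26)) :=
  Lgr Lrot122 (Lpr_dt (K14.f249068 IH) (Lpe (K14.f249061 IH) (Lpe (K12.f192546 IH) (Lpe (K10.f192549 IH) (Lpr_gt (K10.f28372 IH) (Lpr_dt (K14.f169857 IH) (Lpr_gt (K12.f169961 IH) (Lpr_df (f257572 IH) (Lpr_et (f266900 IH) (Lpr_gt (f254172 IH) (Lpn (LP (LK LD1_c4 LD2_c19 LD3_c26)))))))))))))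
theorem f42748 : Led Lsl_et (LP (LK LD1_c0 LD2_c24 LD3_c43)) = (LP (LK LD1_c0 LD2_c10 LD3_c60)) :=
  Lre_e IH (LK LD1_c0 LD2_c24 LD3_c43) (LK LD1_c0 LD2_c10 LD3_c60) Lrfl Lrfl
theorem f254174 : Led Lsl_gt (LP (LK LD1_c4 LD2_c19 LD3_c26)) = (LP (LK LD1_c2 LD2_c7 LD3_c14)) :=
  Lre_g IH (LK LD1_c4 LD2_c19 LD3_c26) (LK LD1_c2 LD2_c7 LD3_c14) Lrfl Lrfl
theorem f266913 : Led Lsl_df (LP (LK LD1_c1 LD2_c56 LD3_c0)) = (LP (LK LD1_c2 LD2_c7 LD3_c14)) :=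
  Lgr Lrot135 (Lpr_gt (K12.f42732 IH) (Lpe (f42745 IH) (Lpr_et (f42748 IH) (Lpr_gt (K1.f28206 IH) (Lpe (K10.f31523 IH) (Lpr_dt (K1.f31516 IH) (Lpr_gt (K14.f249063 IH) (Lpe (K14.f249068 IH) (Lpr_et (f266907 IH) (Lpr_gt (f254174 IH) (Lpn (LP (LK LD1_c2 LD2_c7 LD3_c14)))))))))))))
theorem f266918 : Led Lsl_ef (LP (LK LD1_c1 LD2_c59 LD3_c40)) = (LP (LK LD1_c2 LD2_c7 LD3_c14)) :=
  Lgr Lrot17 (Lpe (K10.f46241 IH) (Lpe (K1.f46228 IH) (Lpe (K10.f47808 IH) (Lpe (K1.f43342 IH) (Lpe (K10.f43909 IH) (Lpe (K1.f28206 IH) (Lpe (f42748 IH) (Lpr_dt (f42745 IH) (Lpe (K12.f42732 IH) (Lpr_df (f266913 IH) (Lpn (LP (LK LD1_c2 LD2_c7 LD3_c14)))))))))))))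
theorem f266915 : Led Lsl_ct (LP (LK LD1_c4 LD2_c19 LD3_c43)) = (LP (LK LD1_c2 LD2_c7 LD3_c14)) :=
  Lre_c IH (LK LD1_c4 LD2_c19 LD3_c43) (LK LD1_c2 LD2_c7 LD3_c14) Lrfl Lrfl
theorem f266920 : Led Lsl_et (LP (LK LD1_c2 LD2_c24 LD3_c51)) = (LP (LK LD1_c4 LD2_c19 LD3_c43)) :=
  Lgr Lrot158 (Lpe (K10.f190863 IH) (Lpr_ef (f266918 IH) (Lpe (f266915 IH) (Lpn (LP (LK LD1_c4 LD2_c19 LD3_c43))))))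
theorem f190870 : Led Lsl_bt (LP (LK LD1_c1 LD2_c11 LD3_c16)) = (LP (LK LD1_c2 LD2_c24 LD3_c51)) :=
  Lgr Lrot127 (Lpr_bf (K10.f190868 IH) (Lpn (LP (LK LD1_c2 LD2_c24 LD3_c51))))
theorem f236437 : Led Lsl_ef (LP (LK LD1_c1 LD2_c11 LD3_c16)) = (LP (LK LD1_c2 LD2_c12 LD3_c43)) :=
  Lgr Lrot28 (Lpe (K10.f186843 IH) (Lpr_et (K13.f186851 IH) (Lpr_ct (K13.f236418 IH) (Lpn (LP (LK LD1_c2 LD2_c12 LD3_c43))))))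
theorem f266922 : Led Lsl_bf (LP (LK LD1_c2 LD2_c12 LD3_c43)) = (LP (LK LD1_c4 LD2_c19 LD3_c43)) :=
  Lgr Lrot96 (Lpe (f236437 IH) (Lpr_bt (f190870 IH) (Lpr_et (f266920 IH) (Lpn (LP (LK LD1_c4 LD2_c19 LD3_c43))))))
theorem f247403 : Led Lsl_bf (LP (LK LD1_c1 LD2_c0 LD3_c31)) = (LP (LK LD1_c1 LD2_c2 LD3_c37)) :=
  Lgr Lrot93 (Lpr_dt (K13.f216333 IH) (Lpr_bt (K14.f238620 IH) (Lpr_dt (K14.f247393 IH) (Lpn (LP (LK LD1_c1 LD2_c2 LD3_c37))))))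
theorem f170320 : Led Lsl_gt (LP (LK LD1_c2 LD2_c7 LD3_c14)) = (LP (LK LD1_c1 LD2_c0 LD3_c39)) :=
  Lre_g IH (LK LD1_c2 LD2_c7 LD3_c14) (LK LD1_c1 LD2_c0 LD3_c39) Lrfl Lrfl
theorem f266939 : Led Lsl_ct (LP (LK LD1_c1 LD2_c2 LD3_c37)) = (LP (LK LD1_c1 LD2_c0 LD3_c39)) :=
  Lgr Lrot10 (Lpe (f247403 IH) (Lpr_gt (K12.f181212 IH) (Lpe (K12.f227940 IH) (Lpe (K13.f239136 IH) (Lpe (K13.f192810 IH) (Lpr_bt (K13.f192809 IH) (Lpe (K13.f238218 IH) (Lpr_bf (f266922 IH) (Lpr_ct (f266915 IH) (Lpr_gt (f170320 IH) (Lpn (LP (LK LD1_c1 LD2_c0 LD3_c39)))))))))))))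
theorem f199584 : Led Lsl_ct (LP (LK LD1_c4 LD2_c17 LD3_c20)) = (LP (LK LD1_c2 LD2_c6 LD3_c0)) :=
  Lre_c IH (LK LD1_c4 LD2_c17 LD3_c20) (LK LD1_c2 LD2_c6 LD3_c0) Lrfl Lrfl
theorem f238719 : Led Lsl_dt (LP (LK LD1_c8 LD2_c33 LD3_c47)) = (LP (LK LD1_c4 LD2_c17 LD3_c20)) :=
  Lre_d IH (LK LD1_c8 LD2_c33 LD3_c47) (LK LD1_c4 LD2_c17 LD3_c20) Lrfl Lrfl
theorem f254004 : Led Lsl_at (LP (LK LD1_c2 LD2_c7 LD3_c8)) = (LP (LK LD1_c1 LD2_c0 LD3_c39)) :=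
  Lre_a IH (LK LD1_c2 LD2_c7 LD3_c8) (LK LD1_c1 LD2_c0 LD3_c39) Lrfl Lrfl
theorem f266869 : Led Lsl_ft (LP (LK LD1_c4 LD2_c19 LD3_c26)) = (LP (LK LD1_c2 LD2_c7 LD3_c8)) :=
  Lre_f IH (LK LD1_c4 LD2_c19 LD3_c26) (LK LD1_c2 LD2_c7 LD3_c8) Lrfl Lrfl
theorem f254164 : Led Lsl_df (LP (LK LD1_c2 LD2_c44 LD3_c7)) = (LP (LK LD1_c4 LD2_c19 LD3_c26)) :=
  Lgr Lrot78 (Lpr_ft (K14.f254133 IH) (Lpe (K14.f254012 IH) (Lpr_ft (K14.f253584 IH) (Lpn (LP (LK LD1_c4 LD2_c19 LD3_c26))))))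
theorem f253902 : Led Lsl_dt (LP (LK LD1_c5 LD2_c36 LD3_c28)) = (LP (LK LD1_c11 LD2_c5 LD3_c1)) :=
  Lre_d IH (LK LD1_c5 LD2_c36 LD3_c28) (LK LD1_c11 LD2_c5 LD3_c1) Lrfl Lrfl
theorem f266947 : Led Lsl_cf (LP (LK LD1_c8 LD2_c33 LD3_c47)) = (LP (LK LD1_c11 LD2_c5 LD3_c1)) :=
  Lgr Lrot116 (Lpr_dt (f238719 IH) (Lpr_ct (f199584 IH) (Lpr_dt (K14.f247393 IH) (Lpr_ct (f266939 IH) (Lpe (f254004 IH) (Lpe (f266869 IH) (Lpe (f254164 IH) (Lpr_ct (K14.f253901 IH) (Lpr_dt (f253902 IH) (Lpn (LP (LK LD1_c11 LD2_c5 LD3_c1))))))))))))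
theorem f266966 : Led Lsl_et (LP (LK LD1_c8 LD2_c33 LD3_c47)) = (LP (LK LD1_c16 LD2_c4 LD3_c23)) :=
  Lre_e IH (LK LD1_c8 LD2_c33 LD3_c47) (LK LD1_c16 LD2_c4 LD3_c23) Lrfl Lrfl
theorem f254151 : Led Lsl_et (LP (LK LD1_c19 LD2_c57 LD3_c51)) = (LP (LK LD1_c11 LD2_c5 LD3_c1)) :=
  Lre_e IH (LK LD1_c19 LD2_c57 LD3_c51) (LK LD1_c11 LD2_c5 LD3_c1) Lrfl Lrfl
theorem f266967 : Led Lsl_ct (LP (LK LD1_c16 LD2_c4 LD3_c23)) = (LP (LK LD1_c19 LD2_c57 LD3_c51)) :=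
  Lgr Lrot15 (Lpe (f266966 IH) (Lpr_cf (f266947 IH) (Lpe (f254151 IH) (Lpn (LP (LK LD1_c19 LD2_c57 LD3_c51))))))
theorem f266972 : Led Lsl_cf (LP (LK LD1_c16 LD2_c4 LD3_c23)) = (LP (LK LD1_c19 LD2_c57 LD3_c51)) :=
  Lgr Lrot11 (Lpr_ct (f266967 IH) (Lpn (LP (LK LD1_c19 LD2_c57 LD3_c51))))
theorem f266833 : Led Lsl_at (LP (LK LD1_c11 LD2_c5 LD3_c12)) = (LP (LK LD1_c19 LD2_c57 LD3_c51)) :=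
  Lre_a IH (LK LD1_c11 LD2_c5 LD3_c12) (LK LD1_c19 LD2_c57 LD3_c51) Lrfl Lrfl
theorem f227990 : Led Lsl_dt (LP (LK LD1_c2 LD2_c44 LD3_c8)) = (LP (LK LD1_c5 LD2_c36 LD3_c32)) :=
  Lre_d IH (LK LD1_c2 LD2_c44 LD3_c8) (LK LD1_c5 LD2_c36 LD3_c32) Lrfl Lrfl
theorem f254011 : Led Lsl_ft (LP (LK LD1_c2 LD2_c7 LD3_c16)) = (LP (LK LD1_c1 LD2_c0 LD3_c39)) :=
  Lre_f IH (LK LD1_c2 LD2_c7 LD3_c16) (LK LD1_c1 LD2_c0 LD3_c39) Lrfl Lrfl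
theorem f254010 : Led Lsl_at (LP (LK LD1_c1 LD2_c0 LD3_c39)) = (LP (LK LD1_c2 LD2_c7 LD3_c8)) :=
  Lre_a IH (LK LD1_c1 LD2_c0 LD3_c39) (LK LD1_c2 LD2_c7 LD3_c8) Lrfl Lrfl
theorem f178826 : Led Lsl_ct (LP (LK LD1_c4 LD2_c10 LD3_c11)) = (LP (LK LD1_c2 LD2_c2 LD3_c18)) :=
  Lre_c IH (LK LD1_c4 LD2_c10 LD3_c11) (LK LD1_c2 LD2_c2 LD3_c18) Lrfl Lrfl
theorem f182267 : Led Lsl_dt (LP (LK LD1_c8 LD2_c20 LD3_c31)) = (LP (LK LD1_c4 LD2_c10 LD3_c11)) :=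
  Lre_d IH (LK LD1_c8 LD2_c20 LD3_c31) (LK LD1_c4 LD2_c10 LD3_c11) Lrfl Lrfl
theorem f266823 : Led Lsl_ct (LP (LK LD1_c5 LD2_c36 LD3_c32)) = (LP (LK LD1_c8 LD2_c20 LD3_c31)) :=
  Lgr Lrot41 (Lpe (f227990 IH) (Lpe (K12.f178121 IH) (Lpr_df (f266818 IH) (Lpr_ft (f254011 IH) (Lpr_at (f254010 IH) (Lpr_cf (K14.f253992 IH) (Lpr_df (K14.f182260 IH) (Lpe (f178826 IH) (Lpe (f182267 IH) (Lpn (LP (LK LD1_c8 LD2_c20 LD3_c31))))))))))))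
theorem f266829 : Led Lsl_et (LP (LK LD1_c11 LD2_c5 LD3_c12)) = (LP (LK LD1_c5 LD2_c36 LD3_c32)) :=
  Lre_e IH (LK LD1_c11 LD2_c5 LD3_c12) (LK LD1_c5 LD2_c36 LD3_c32) Lrfl Lrfl
theorem f260896 : Led Lsl_et (LP (LK LD1_c8 LD2_c20 LD3_c31)) = (LP (LK LD1_c15 LD2_c42 LD3_c4)) :=
  Lre_e IH (LK LD1_c8 LD2_c20 LD3_c31) (LK LD1_c15 LD2_c42 LD3_c4) Lrfl Lrfl
theorem f266830 : Led Lsl_cf (LP (LK LD1_c11 LD2_c5 LD3_c12)) = (LP (LK LD1_c15 LD2_c42 LD3_c4)) :=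
  Lgr Lrot39 (Lpr_et (f266829 IH) (Lpr_ct (f266823 IH) (Lpr_et (f260896 IH) (Lpn (LP (LK LD1_c15 LD2_c42 LD3_c4))))))
theorem f266977 : Led Lsl_at (LP (LK LD1_c16 LD2_c4 LD3_c23)) = (LP (LK LD1_c15 LD2_c42 LD3_c4)) :=
  Lgr Lrot107 (Lpr_cf (f266972 IH) (Lpe (f266833 IH) (Lpr_cf (f266830 IH) (Lpn (LP (LK LD1_c15 LD2_c42 LD3_c4))))))
theorem f266861 : Led Lsl_et (LP (LK LD1_c15 LD2_c42 LD3_c4)) = (LP (LK LD1_c8 LD2_c20 LD3_c31)) :=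
  Lre_e IH (LK LD1_c15 LD2_c42 LD3_c4) (LK LD1_c8 LD2_c20 LD3_c31) Lrfl Lrfl
theorem f266980 : Led Lsl_af (LP (LK LD1_c8 LD2_c33 LD3_c47)) = (LP (LK LD1_c8 LD2_c20 LD3_c31)) :=
  Lgr Lrot50 (Lpr_et (f266966 IH) (Lpr_at (f266977 IH) (Lpr_et (f266861 IH) (Lpn (LP (LK LD1_c8 LD2_c20 LD3_c31))))))
theorem f182259 : Led Lsl_dt (LP (LK LD1_c4 LD2_c10 LD3_c11)) = (LP (LK LD1_c8 LD2_c20 LD3_c31)) :=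
  Lre_d IH (LK LD1_c4 LD2_c10 LD3_c11) (LK LD1_c8 LD2_c20 LD3_c31) Lrfl Lrfl
theorem f266983 : Led Lsl_at (LP (LK LD1_c4 LD2_c17 LD3_c20)) = (LP (LK LD1_c4 LD2_c10 LD3_c11)) :=
  Lgr Lrot51 (Lpe (f238719 IH) (Lpr_af (f266980 IH) (Lpe (f182259 IH) (Lpn (LP (LK LD1_c4 LD2_c10 LD3_c11))))))
theorem f266991 : Led Lsl_et (LP (LK LD1_c8 LD2_c33 LD3_c48)) = (LP (LK LD1_c4 LD2_c17 LD3_c20)) :=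
  Lre_e IH (LK LD1_c8 LD2_c33 LD3_c48) (LK LD1_c4 LD2_c17 LD3_c20) Lrfl Lrfl
theorem f266992 : Led Lsl_et (LP (LK LD1_c4 LD2_c10 LD3_c11)) = (LP (LK LD1_c8 LD2_c20 LD3_c32)) :=
  Lre_e IH (LK LD1_c4 LD2_c10 LD3_c11) (LK LD1_c8 LD2_c20 LD3_c32) Lrfl Lrfl
theorem f266993 : Led Lsl_af (LP (LK LD1_c8 LD2_c33 LD3_c48)) = (LP (LK LD1_c8 LD2_c20 LD3_c32)) :=
  Lgr Lrot50 (Lpr_et (f266991 IH) (Lpr_at (f266983 IH) (Lpr_et (f266992 IH) (Lpn (LP (LK LD1_c8 LD2_c20 LD3_c32))))))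
theorem f267003 : Led Lsl_ft (LP (LK LD1_c8 LD2_c33 LD3_c48)) = (LP (LK LD1_c16 LD2_c4 LD3_c27)) :=
  Lre_f IH (LK LD1_c8 LD2_c33 LD3_c48) (LK LD1_c16 LD2_c4 LD3_c27) Lrfl Lrfl
theorem f267004 : Led Lsl_ft (LP (LK LD1_c15 LD2_c42 LD3_c8)) = (LP (LK LD1_c8 LD2_c20 LD3_c32)) :=
  Lre_f IH (LK LD1_c15 LD2_c42 LD3_c8) (LK LD1_c8 LD2_c20 LD3_c32) Lrfl Lrfl
theorem f267005 : Led Lsl_at (LP (LK LD1_c16 LD2_c4 LD3_c27)) = (LP (LK LD1_c15 LD2_c42 LD3_c8)) :=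
  Lgr Lrot66 (Lpe (f267003 IH) (Lpr_af (f266993 IH) (Lpe (f267004 IH) (Lpn (LP (LK LD1_c15 LD2_c42 LD3_c8))))))
theorem f238655 : Led Lsl_ct (LP (LK LD1_c8 LD2_c33 LD3_c50)) = (LP (LK LD1_c16 LD2_c4 LD3_c27)) :=
  Lre_c IH (LK LD1_c8 LD2_c33 LD3_c50) (LK LD1_c16 LD2_c4 LD3_c27) Lrfl Lrfl
theorem f182298 : Led Lsl_ct (LP (LK LD1_c15 LD2_c42 LD3_c8)) = (LP (LK LD1_c8 LD2_c20 LD3_c34)) :=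
  Lre_c IH (LK LD1_c15 LD2_c42 LD3_c8) (LK LD1_c8 LD2_c20 LD3_c34) Lrfl Lrfl
theorem f267011 : Led Lsl_af (LP (LK LD1_c8 LD2_c33 LD3_c50)) = (LP (LK LD1_c8 LD2_c20 LD3_c34)) :=
  Lgr Lrot68 (Lpr_ct (f238655 IH) (Lpr_at (f267005 IH) (Lpr_ct (f182298 IH) (Lpn (LP (LK LD1_c8 LD2_c20 LD3_c34))))))
theorem f267036 : Led Lsl_at (LP (LK LD1_c4 LD2_c28 LD3_c3)) = (LP (LK LD1_c8 LD2_c52 LD3_c57)) :=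
  Lgr Lrot51 (Lpe (K14.f247381 IH) (Lpr_af (f267011 IH) (Lpe (f182277 IH) (Lpn (LP (LK LD1_c8 LD2_c52 LD3_c57))))))
theorem f247383 : Led Lsl_ft (LP (LK LD1_c2 LD2_c11 LD3_c11)) = (LP (LK LD1_c4 LD2_c28 LD3_c3)) :=
  Lre_f IH (LK LD1_c2 LD2_c11 LD3_c11) (LK LD1_c4 LD2_c28 LD3_c3) Lrfl Lrfl
theorem f267047 : Led Lsl_af (LP (LK LD1_c2 LD2_c11 LD3_c11)) = (LP (LK LD1_c4 LD2_c27 LD3_c33)) :=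
  Lgr Lrot45 (Lpr_ft (f247383 IH) (Lpr_at (f267036 IH) (Lpr_ft (f182296 IH) (Lpn (LP (LK LD1_c4 LD2_c27 LD3_c33))))))
theorem f191925 : Led Lsl_et (LP (LK LD1_c2 LD2_c11 LD3_c11)) = (LP (LK LD1_c1 LD2_c2 LD3_c36)) :=
  Lre_e IH (LK LD1_c2 LD2_c11 LD3_c11) (LK LD1_c1 LD2_c2 LD3_c36) Lrfl Lrfl
theorem f267060 : Led Lsl_at (LP (LK LD1_c1 LD2_c2 LD3_c36)) = (LP (LK LD1_c2 LD2_c10 LD3_c58)) :=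
  Lgr Lrot80 (Lpe (f191925 IH) (Lpr_af (f267047 IH) (Lpe (f41779 IH) (Lpn (LP (LK LD1_c2 LD2_c10 LD3_c58))))))
theorem f267073 : Led Lsl_ff (LP (LK LD1_c1 LD2_c2 LD3_c36)) = (LP (LK LD1_c1 LD2_c58 LD3_c38)) :=
  Lgr Lrot52 (Lpr_at (f267060 IH) (Lpr_gf (f261069 IH) (Lpe (K12.f199588 IH) (Lpn (LP (LK LD1_c1 LD2_c58 LD3_c38))))))
theorem f267081 : Led Lsl_ft (LP (LK LD1_c1 LD2_c2 LD3_c36)) = (LP (LK LD1_c1 LD2_c58 LD3_c38)) :=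
  Lgr Lrot48 (Lpr_ff (f267073 IH) (Lpn (LP (LK LD1_c1 LD2_c58 LD3_c38))))
theorem f191904 : Led Lsl_dt (LP (LK LD1_c1 LD2_c2 LD3_c36)) = (LP (LK LD1_c0 LD2_c28 LD3_c32)) :=
  Lre_d IH (LK LD1_c1 LD2_c2 LD3_c36) (LK LD1_c0 LD2_c28 LD3_c32) Lrfl Lrfl
theorem f260770 : Led Lsl_ct (LP (LK LD1_c2 LD2_c7 LD3_c11)) = (LP (LK LD1_c1 LD2_c0 LD3_c38)) :=
  Lre_c IH (LK LD1_c2 LD2_c7 LD3_c11) (LK LD1_c1 LD2_c0 LD3_c38) Lrfl Lrfl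
theorem f189113 : Led Lsl_dt (LP (LK LD1_c1 LD2_c0 LD3_c38)) = (LP (LK LD1_c0 LD2_c27 LD3_c35)) :=
  Lre_d IH (LK LD1_c1 LD2_c0 LD3_c38) (LK LD1_c0 LD2_c27 LD3_c35) Lrfl Lrfl
theorem f260792 : Led Lsl_cf (LP (LK LD1_c0 LD2_c27 LD3_c35)) = (LP (LK LD1_c0 LD2_c28 LD3_c32)) :=
  Lgr Lrot99 (Lpe (f189113 IH) (Lpe (f260770 IH) (Lpe (f260772 IH) (Lpr_cf (f260773 IH) (Lpe (f219658 IH) (Lpe (K14.f45746 IH) (Lpr_gt (K14.f219633 IH) (Lpe (f219616 IH) (Lpr_gt (K14.f168603 IH) (Lpn (LP (LK LD1_c0 LD2_c28 LD3_c32))))))))))))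
theorem f260788 : Led Lsl_dt (LP (LK LD1_c2 LD2_c7 LD3_c11)) = (LP (LK LD1_c4 LD2_c19 LD3_c36)) :=
  Lre_d IH (LK LD1_c2 LD2_c7 LD3_c11) (LK LD1_c4 LD2_c19 LD3_c36) Lrfl Lrfl
theorem f267089 : Led Lsl_af (LP (LK LD1_c1 LD2_c2 LD3_c34)) = (LP (LK LD1_c1 LD2_c58 LD3_c38)) :=
  Lgr Lrot31 (Lpe (K14.f41731 IH) (Lpe (K14.f191902 IH) (Lpr_ft (f267081 IH) (Lpn (LP (LK LD1_c1 LD2_c58 LD3_c38))))))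
theorem f254898 : Led Lsl_ct (LP (LK LD1_c2 LD2_c11 LD3_c5)) = (LP (LK LD1_c1 LD2_c2 LD3_c34)) :=
  Lre_c IH (LK LD1_c2 LD2_c11 LD3_c5) (LK LD1_c1 LD2_c2 LD3_c34) Lrfl Lrfl
theorem f254897 : Led Lsl_dt (LP (LK LD1_c4 LD2_c27 LD3_c53)) = (LP (LK LD1_c2 LD2_c11 LD3_c5)) :=
  Lre_d IH (LK LD1_c4 LD2_c27 LD3_c53) (LK LD1_c2 LD2_c11 LD3_c5) Lrfl Lrfl
theorem f267091 : Led Lsl_ct (LP (LK LD1_c4 LD2_c19 LD3_c36)) = (LP (LK LD1_c4 LD2_c27 LD3_c53)) :=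
  Lgr Lrot53 (Lpe (f260788 IH) (Lpe (f179546 IH) (Lpe (K12.f189114 IH) (Lpr_cf (f260792 IH) (Lpe (f191904 IH) (Lpr_ft (f267081 IH) (Lpe (f267089 IH) (Lpe (f254898 IH) (Lpe (f254897 IH) (Lpn (LP (LK LD1_c4 LD2_c27 LD3_c53))))))))))))
theorem f166904 : Led Lsl_dt (LP (LK LD1_c0 LD2_c58 LD3_c39)) = (LP (LK LD1_c2 LD2_c3 LD3_c21)) :=
  Lre_d IH (LK LD1_c0 LD2_c58 LD3_c39) (LK LD1_c2 LD2_c3 LD3_c21) Lrfl Lrfl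
theorem f260912 : Led Lsl_ct (LP (LK LD1_c2 LD2_c3 LD3_c21)) = (LP (LK LD1_c4 LD2_c12 LD3_c14)) :=
  Lre_c IH (LK LD1_c2 LD2_c3 LD3_c21) (LK LD1_c4 LD2_c12 LD3_c14) Lrfl Lrfl
theorem f267106 : Led Lsl_at (LP (LK LD1_c2 LD2_c3 LD3_c25)) = (LP (LK LD1_c4 LD2_c12 LD3_c14)) :=
  Lre_a IH (LK LD1_c2 LD2_c3 LD3_c25) (LK LD1_c4 LD2_c12 LD3_c14) Lrfl Lrfl
theorem f267107 : Led Lsl_ft (LP (LK LD1_c2 LD2_c7 LD3_c11)) = (LP (LK LD1_c2 LD2_c3 LD3_c25)) :=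
  Lgr Lrot142 (Lpr_dt (f260788 IH) (Lpr_ct (f267091 IH) (Lpr_dt (f254897 IH) (Lpr_ct (f254898 IH) (Lpr_dt (K14.f41726 IH) (Lpr_ct (f256788 IH) (Lpr_dt (f166904 IH) (Lpr_ct (f260912 IH) (Lpe (f267106 IH) (Lpn (LP (LK LD1_c2 LD2_c3 LD3_c25))))))))))))
theorem f179547 : Led Lsl_gt (LP (LK LD1_c2 LD2_c7 LD3_c11)) = (LP (LK LD1_c4 LD2_c19 LD3_c33)) :=
  Lre_g IH (LK LD1_c2 LD2_c7 LD3_c11) (LK LD1_c4 LD2_c19 LD3_c33) Lrfl Lrfl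
theorem f267123 : Led Lsl_gt (LP (LK LD1_c4 LD2_c19 LD3_c33)) = (LP (LK LD1_c4 LD2_c12 LD3_c14)) :=
  Lgr Lrot46 (Lpe (f179547 IH) (Lpr_ft (f267107 IH) (Lpr_at (f267106 IH) (Lpn (LP (LK LD1_c4 LD2_c12 LD3_c14))))))
theorem f260910 : Led Lsl_ct (LP (LK LD1_c4 LD2_c12 LD3_c14)) = (LP (LK LD1_c2 LD2_c3 LD3_c21)) :=
  Lre_c IH (LK LD1_c4 LD2_c12 LD3_c14) (LK LD1_c2 LD2_c3 LD3_c21) Lrfl Lrfl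
theorem f219590 : Led Lsl_dt (LP (LK LD1_c2 LD2_c1 LD3_c51)) = (LP (LK LD1_c0 LD2_c57 LD3_c55)) :=
  Lre_d IH (LK LD1_c2 LD2_c1 LD3_c51) (LK LD1_c0 LD2_c57 LD3_c55) Lrfl Lrfl
theorem f267128 : Led Lsl_cf (LP (LK LD1_c4 LD2_c19 LD3_c33)) = (LP (LK LD1_c4 LD2_c8 LD3_c57)) :=
  Lgr Lrot169 (Lpr_gt (f267123 IH) (Lpr_ct (f260910 IH) (Lpe (f166904 IH) (Lpe (f256788 IH) (Lpe (K12.f42298 IH) (Lpe (K12.f211432 IH) (Lpr_gf (K12.f219584 IH) (Lpe (f219590 IH) (Lpr_gt (K14.f167184 IH) (Lpn (LP (LK LD1_c4 LD2_c8 LD3_c57))))))))))))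
theorem f267133 : Led Lsl_bf (LP (LK LD1_c2 LD2_c6 LD3_c37)) = (LP (LK LD1_c2 LD2_c3 LD3_c21)) :=
  Lgr Lrot156 (Lpr_gt (K14.f246650 IH) (Lpe (K14.f178352 IH) (Lpe (K14.f220068 IH) (Lpr_gt (K14.f246697 IH) (Lpe (K14.f51444 IH) (Lpr_bt (K14.f234446 IH) (Lpr_gt (K14.f167184 IH) (Lpe (f267128 IH) (Lpr_gt (f267123 IH) (Lpe (f260912 IH) (Lpn (LP (LK LD1_c2 LD2_c3 LD3_c21)))))))))))))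
theorem f267136 : Led Lsl_bt (LP (LK LD1_c4 LD2_c8 LD3_c57)) = (LP (LK LD1_c2 LD2_c8 LD3_c15)) :=
  Lgr Lrot92 (Lpe (f267128 IH) (Lpr_gt (f267123 IH) (Lpe (f260912 IH) (Lpe (f267133 IH) (Lpr_gt (K14.f246650 IH) (Lpr_ct (K14.f220126 IH) (Lpr_gt (K14.f246682 IH) (Lpe (K14.f232256 IH) (Lpr_bt (K14.f238518 IH) (Lpe (K13.f238734 IH) (Lpn (LP (LK LD1_c2 LD2_c8 LD3_c15)))))))))))))
theorem f246783 : Led Lsl_et (LP (LK LD1_c8 LD2_c17 LD3_c59)) = (LP (LK LD1_c4 LD2_c8 LD3_c57)) :=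
  Lre_e IH (LK LD1_c8 LD2_c17 LD3_c59) (LK LD1_c4 LD2_c8 LD3_c57) Lrfl Lrfl
theorem f267143 : Led Lsl_bf (LP (LK LD1_c8 LD2_c17 LD3_c59)) = (LP (LK LD1_c4 LD2_c21 LD3_c30)) :=
  Lgr Lrot96 (Lpr_et (f246783 IH) (Lpr_bt (f267136 IH) (Lpr_et (K14.f255552 IH) (Lpn (LP (LK LD1_c4 LD2_c21 LD3_c30))))))
theorem f267145 : Led Lsl_bt (LP (LK LD1_c8 LD2_c17 LD3_c59)) = (LP (LK LD1_c4 LD2_c21 LD3_c30)) :=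
  Lgr Lrot127 (Lpr_bf (f267143 IH) (Lpn (LP (LK LD1_c4 LD2_c21 LD3_c30))))
theorem f255568 : Led Lsl_dt (LP (LK LD1_c4 LD2_c21 LD3_c30)) = (LP (LK LD1_c4 LD2_c20 LD3_c57)) :=
  Lgr Lrot42 (Lpr_df (K14.f255565 IH) (Lpn (LP (LK LD1_c4 LD2_c20 LD3_c57))))
theorem f49237 : Led Lsl_et (LP (LK LD1_c8 LD2_c15 LD3_c42)) = (LP (LK LD1_c4 LD2_c7 LD3_c49)) :=
  Lre_e IH (LK LD1_c8 LD2_c15 LD3_c42) (LK LD1_c4 LD2_c7 LD3_c49) Lrfl Lrfl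
theorem f194219 : Led Lsl_et (LP (LK LD1_c2 LD2_c7 LD3_c59)) = (LP (LK LD1_c4 LD2_c20 LD3_c57)) :=
  Lre_e IH (LK LD1_c2 LD2_c7 LD3_c59) (LK LD1_c4 LD2_c20 LD3_c57) Lrfl Lrfl
theorem f194220 : Led Lsl_bf (LP (LK LD1_c8 LD2_c15 LD3_c42)) = (LP (LK LD1_c4 LD2_c20 LD3_c57)) :=
  Lgr Lrot96 (Lpr_et (f49237 IH) (Lpr_bt (K10.f194215 IH) (Lpr_et (f194219 IH) (Lpn (LP (LK LD1_c4 LD2_c20 LD3_c57))))))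
theorem f267147 : Led Lsl_df (LP (LK LD1_c8 LD2_c17 LD3_c59)) = (LP (LK LD1_c8 LD2_c15 LD3_c42)) :=
  Lgr Lrot12 (Lpr_bt (f267145 IH) (Lpr_dt (f255568 IH) (Lpe (f194220 IH) (Lpn (LP (LK LD1_c8 LD2_c15 LD3_c42))))))
theorem f196645 : Led Lsl_et (LP (LK LD1_c5 LD2_c22 LD3_c33)) = (LP (LK LD1_c2 LD2_c37 LD3_c49)) :=
  Lre_e IH (LK LD1_c5 LD2_c22 LD3_c33) (LK LD1_c2 LD2_c37 LD3_c49) Lrfl Lrfl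
theorem f267154 : Led Lsl_gt (LP (LK LD1_c8 LD2_c17 LD3_c59)) = (LP (LK LD1_c4 LD2_c21 LD3_c40)) :=
  Lgr Lrot112 (Lpr_df (f267147 IH) (Lpr_et (f49237 IH) (Lpe (K10.f49235 IH) (Lpr_ef (K9.f49218 IH) (Lpr_dt (K12.f49236 IH) (Lpr_gf (K12.f196566 IH) (Lpe (K12.f167816 IH) (Lpe (K13.f220758 IH) (Lpe (f196645 IH) (Lpr_dt (K13.f196621 IH) (Lpn (LP (LK LD1_c4 LD2_c21 LD3_c40)))))))))))))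
theorem f267149 : Led Lsl_et (LP (LK LD1_c4 LD2_c8 LD3_c57)) = (LP (LK LD1_c8 LD2_c17 LD3_c59)) :=
  Lre_e IH (LK LD1_c4 LD2_c8 LD3_c57) (LK LD1_c8 LD2_c17 LD3_c59) Lrfl Lrfl
theorem f261317 : Led Lsl_dt (LP (LK LD1_c4 LD2_c8 LD3_c57)) = (LP (LK LD1_c4 LD2_c3 LD3_c45)) :=
  Lgr Lrot6 (Lpr_gt (K14.f246772 IH) (Lpr_ct (K14.f187153 IH) (Lpr_gt (K14.f219711 IH) (Lpr_ct (f166570 IH) (Lpe (K14.f246733 IH) (Lpe (f246730 IH) (Lpr_gf (f261315 IH) (Lpe (f190435 IH) (Lpe (f261300 IH) (Lpn (LP (LK LD1_c4 LD2_c3 LD3_c45))))))))))))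
theorem f222257 : Led Lsl_bt (LP (LK LD1_c2 LD2_c1 LD3_c32)) = (LP (LK LD1_c4 LD2_c8 LD3_c17)) :=
  Lre_b IH (LK LD1_c2 LD2_c1 LD3_c32) (LK LD1_c4 LD2_c8 LD3_c17) Lrfl Lrfl
theorem f236107 : Led Lsl_df (LP (LK LD1_c5 LD2_c28 LD3_c15)) = (LP (LK LD1_c4 LD2_c8 LD3_c17)) :=
  Lgr Lrot12 (Lpr_bt (K14.f236106 IH) (Lpr_dt (K13.f236104 IH) (Lpr_bt (f222257 IH) (Lpn (LP (LK LD1_c4 LD2_c8 LD3_c17))))))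
theorem f267160 : Led Lsl_gf (LP (LK LD1_c4 LD2_c8 LD3_c17)) = (LP (LK LD1_c2 LD2_c8 LD3_c2)) :=
  Lgr Lrot138 (Lpe (f236107 IH) (Lpe (K14.f254895 IH) (Lpe (f261317 IH) (Lpr_et (f267149 IH) (Lpr_gt (f267154 IH) (Lpe (K13.f187084 IH) (Lpr_dt (K13.f187074 IH) (Lpr_gt (K10.f187071 IH) (Lpe (K14.f29053 IH) (Lpr_et (K1.f42075 IH) (Lpn (LP (LK LD1_c2 LD2_c8 LD3_c2)))))))))))))
theorem f41985 : Led Lsl_ct (LP (LK LD1_c2 LD2_c8 LD3_c2)) = (LP (LK LD1_c4 LD2_c21 LD3_c2)) :=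
  Lre_c IH (LK LD1_c2 LD2_c8 LD3_c2) (LK LD1_c4 LD2_c21 LD3_c2) Lrfl Lrfl
theorem f2867 : Led Lsl_bt (LP (LK LD1_c1 LD2_c9 LD3_c22)) = (LP (LK LD1_c0 LD2_c31 LD3_c53)) :=
  Lre_b IH (LK LD1_c1 LD2_c9 LD3_c22) (LK LD1_c0 LD2_c31 LD3_c53) Lrfl Lrfl
theorem f2870 : Led Lsl_ct (LP (LK LD1_c1 LD2_c9 LD3_c22)) = (LP (LK LD1_c2 LD2_c24 LD3_c28)) :=
  Lre_c IH (LK LD1_c1 LD2_c9 LD3_c22) (LK LD1_c2 LD2_c24 LD3_c28) Lrfl Lrfl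
theorem f192374 : Led Lsl_gt (LP (LK LD1_c4 LD2_c21 LD3_c2)) = (LP (LK LD1_c2 LD2_c24 LD3_c28)) :=
  Lgr Lrot65 (Lpe (f41985 IH) (Lpe (K1.f41982 IH) (Lpr_gf (K13.f192368 IH) (Lpe (K13.f167527 IH) (Lpr_ct (K9.f53376 IH) (Lpr_gf (K9.f170069 IH) (Lpe (K0.f280 IH) (Lpr_gf (K9.f2865 IH) (Lpe (f2867 IH) (Lpr_ct (f2870 IH) (Lpn (LP (LK LD1_c2 LD2_c24 LD3_c28)))))))))))))
theorem f180083 : Led Lsl_dt (LP (LK LD1_c2 LD2_c24 LD3_c28)) = (LP (LK LD1_c4 LD2_c53 LD3_c20)) :=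
  Lre_d IH (LK LD1_c2 LD2_c24 LD3_c28) (LK LD1_c4 LD2_c53 LD3_c20) Lrfl Lrfl
theorem f267125 : Led Lsl_dt (LP (LK LD1_c8 LD2_c37 LD3_c21)) = (LP (LK LD1_c4 LD2_c19 LD3_c33)) :=
  Lre_d IH (LK LD1_c8 LD2_c37 LD3_c21) (LK LD1_c4 LD2_c19 LD3_c33) Lrfl Lrfl
theorem f42005 : Led Lsl_ct (LP (LK LD1_c4 LD2_c21 LD3_c2)) = (LP (LK LD1_c2 LD2_c8 LD3_c2)) :=
  Lre_c IH (LK LD1_c4 LD2_c21 LD3_c2) (LK LD1_c2 LD2_c8 LD3_c2) Lrfl Lrfl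
theorem f267164 : Led Lsl_gf (LP (LK LD1_c8 LD2_c37 LD3_c21)) = (LP (LK LD1_c4 LD2_c53 LD3_c20)) :=
  Lgr Lrot143 (Lpr_dt (f267125 IH) (Lpr_cf (f267128 IH) (Lpr_df (f261319 IH) (Lpr_gf (K14.f254895 IH) (Lpr_df (f236107 IH) (Lpr_gf (f267160 IH) (Lpe (f42005 IH) (Lpr_gt (f192374 IH) (Lpr_dt (f180083 IH) (Lpn (LP (LK LD1_c4 LD2_c53 LD3_c20))))))))))))
theorem f267166 : Led Lsl_cf (LP (LK LD1_c4 LD2_c8 LD3_c57)) = (LP (LK LD1_c4 LD2_c19 LD3_c33)) :=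
  Lgr Lrot14 (Lpr_df (f261319 IH) (Lpr_gf (K14.f254895 IH) (Lpr_df (f236107 IH) (Lpr_gf (f267160 IH) (Lpr_ct (f41985 IH) (Lpr_gt (f192374 IH) (Lpr_dt (f180083 IH) (Lpe (f267164 IH) (Lpr_dt (f267125 IH) (Lpn (LP (LK LD1_c4 LD2_c19 LD3_c33))))))))))))
theorem f267181 : Led Lsl_df (LP (LK LD1_c1 LD2_c55 LD3_c60)) = (LP (LK LD1_c2 LD2_c7 LD3_c10)) :=
  Lgr Lrot155 (Lpr_gt (f261279 IH) (Lpr_ct (f196989 IH) (Lpe (f261294 IH) (Lpr_ct (K12.f201240 IH) (Lpe (f261319 IH) (Lpr_cf (f267166 IH) (Lpe (f179547 IH) (Lpe (f179546 IH) (Lpe (f179570 IH) (Lpn (LP (LK LD1_c2 LD2_c7 LD3_c10))))))))))))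
theorem f238072 : Led Lsl_bt (LP (LK LD1_c2 LD2_c12 LD3_c39)) = (LP (LK LD1_c4 LD2_c31 LD3_c20)) :=
  Lre_b IH (LK LD1_c2 LD2_c12 LD3_c39) (LK LD1_c4 LD2_c31 LD3_c20) Lrfl Lrfl
theorem f238073 : Led Lsl_bt (LP (LK LD1_c2 LD2_c23 LD3_c31)) = (LP (LK LD1_c1 LD2_c8 LD3_c54)) :=
  Lre_b IH (LK LD1_c2 LD2_c23 LD3_c31) (LK LD1_c1 LD2_c8 LD3_c54) Lrfl Lrfl
theorem f238074 : Led Lsl_dt (LP (LK LD1_c4 LD2_c31 LD3_c20)) = (LP (LK LD1_c2 LD2_c23 LD3_c31)) :=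
  Lgr Lrot79 (Lpe (f238072 IH) (Lpr_df (f238070 IH) (Lpe (f238073 IH) (Lpn (LP (LK LD1_c2 LD2_c23 LD3_c31))))))
theorem f267192 : Led Lsl_gt (LP (LK LD1_c2 LD2_c3 LD3_c21)) = (LP (LK LD1_c2 LD2_c7 LD3_c10)) :=
  Lgr Lrot189 (Lpe (f166904 IH) (Lpe (f260908 IH) (Lpr_ct (K10.f44490 IH) (Lpr_gt (K12.f213775 IH) (Lpr_dt (K12.f213898 IH) (Lpe (f238190 IH) (Lpr_dt (f238074 IH) (Lpe (f260899 IH) (Lpr_df (f267181 IH) (Lpn (LP (LK LD1_c2 LD2_c7 LD3_c10))))))))))))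
theorem f261136 : Led Lsl_at (LP (LK LD1_c2 LD2_c7 LD3_c7)) = (LP (LK LD1_c1 LD2_c0 LD3_c38)) :=
  Lre_a IH (LK LD1_c2 LD2_c7 LD3_c7) (LK LD1_c1 LD2_c0 LD3_c38) Lrfl Lrfl
theorem f267195 : Led Lsl_ft (LP (LK LD1_c2 LD2_c3 LD3_c21)) = (LP (LK LD1_c2 LD2_c7 LD3_c7)) :=
  Lgr Lrot2 (Lpr_gt (f267192 IH) (Lpr_gt (f179570 IH) (Lpe (f261136 IH) (Lpn (LP (LK LD1_c2 LD2_c7 LD3_c7))))))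
theorem f267209 : Led Lsl_ff (LP (LK LD1_c2 LD2_c3 LD3_c21)) = (LP (LK LD1_c2 LD2_c7 LD3_c7)) :=
  Lgr Lrot3 (Lpr_ft (f267195 IH) (Lpn (LP (LK LD1_c2 LD2_c7 LD3_c7))))
theorem f267211 : Led Lsl_at (LP (LK LD1_c2 LD2_c3 LD3_c21)) = (LP (LK LD1_c0 LD2_c58 LD3_c40)) :=
  Lre_a IH (LK LD1_c2 LD2_c3 LD3_c21) (LK LD1_c0 LD2_c58 LD3_c40) Lrfl Lrfl
theorem f166514 : Led Lsl_ct (LP (LK LD1_c2 LD2_c3 LD3_c25)) = (LP (LK LD1_c0 LD2_c58 LD3_c40)) :=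
  Lre_c IH (LK LD1_c2 LD2_c3 LD3_c25) (LK LD1_c0 LD2_c58 LD3_c40) Lrfl Lrfl
theorem f177905 : Led Lsl_dt (LP (LK LD1_c4 LD2_c12 LD3_c27)) = (LP (LK LD1_c2 LD2_c3 LD3_c25)) :=
  Lre_d IH (LK LD1_c4 LD2_c12 LD3_c27) (LK LD1_c2 LD2_c3 LD3_c25) Lrfl Lrfl
theorem f199577 : Led Lsl_ct (LP (LK LD1_c8 LD2_c24 LD3_c34)) = (LP (LK LD1_c4 LD2_c12 LD3_c27)) :=
  Lre_c IH (LK LD1_c8 LD2_c24 LD3_c34) (LK LD1_c4 LD2_c12 LD3_c27) Lrfl Lrfl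
theorem f174938 : Led Lsl_ct (LP (LK LD1_c2 LD2_c10 LD3_c58)) = (LP (LK LD1_c4 LD2_c27 LD3_c32)) :=
  Lre_c IH (LK LD1_c2 LD2_c10 LD3_c58) (LK LD1_c4 LD2_c27 LD3_c32) Lrfl Lrfl
theorem f267216 : Led Lsl_df (LP (LK LD1_c8 LD2_c24 LD3_c34)) = (LP (LK LD1_c4 LD2_c27 LD3_c32)) :=
  Lgr Lrot13 (Lpr_ct (f199577 IH) (Lpr_dt (f177905 IH) (Lpr_ct (f166514 IH) (Lpe (f267211 IH) (Lpr_ff (f267209 IH) (Lpr_dt (f254056 IH) (Lpr_ct (f254008 IH) (Lpr_dt (K14.f174937 IH) (Lpr_ct (f174938 IH) (Lpn (LP (LK LD1_c4 LD2_c27 LD3_c32))))))))))))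
theorem f267223 : Led Lsl_at (LP (LK LD1_c8 LD2_c24 LD3_c4)) = (LP (LK LD1_c4 LD2_c12 LD3_c27)) :=
  Lre_a IH (LK LD1_c8 LD2_c24 LD3_c4) (LK LD1_c4 LD2_c12 LD3_c27) Lrfl Lrfl
theorem f261095 : Led Lsl_dt (LP (LK LD1_c8 LD2_c37 LD3_c8)) = (LP (LK LD1_c4 LD2_c19 LD3_c24)) :=
  Lre_d IH (LK LD1_c8 LD2_c37 LD3_c8) (LK LD1_c4 LD2_c19 LD3_c24) Lrfl Lrfl
theorem f267224 : Led Lsl_ff (LP (LK LD1_c8 LD2_c24 LD3_c4)) = (LP (LK LD1_c8 LD2_c37 LD3_c8)) :=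
  Lgr Lrot103 (Lpr_at (f267223 IH) (Lpe (f199577 IH) (Lpr_df (f267216 IH) (Lpe (f174938 IH) (Lpe (K14.f174937 IH) (Lpe (f254008 IH) (Lpe (f254056 IH) (Lpe (f261096 IH) (Lpe (f261095 IH) (Lpn (LP (LK LD1_c8 LD2_c37 LD3_c8))))))))))))
theorem f177906 : Led Lsl_gt (LP (LK LD1_c8 LD2_c24 LD3_c33)) = (LP (LK LD1_c4 LD2_c12 LD3_c27)) :=
  Lre_g IH (LK LD1_c8 LD2_c24 LD3_c33) (LK LD1_c4 LD2_c12 LD3_c27) Lrfl Lrfl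
theorem f267242 : Led Lsl_gf (LP (LK LD1_c8 LD2_c24 LD3_c33)) = (LP (LK LD1_c8 LD2_c37 LD3_c8)) :=
  Lgr Lrot47 (Lpr_gt (f177906 IH) (Lpe (f267223 IH) (Lpr_ff (f267224 IH) (Lpn (LP (LK LD1_c8 LD2_c37 LD3_c8))))))
theorem f199497 : Led Lsl_dt (LP (LK LD1_c4 LD2_c3 LD3_c20)) = (LP (LK LD1_c8 LD2_c7 LD3_c17)) :=
  Lre_d IH (LK LD1_c4 LD2_c3 LD3_c20) (LK LD1_c8 LD2_c7 LD3_c17) Lrfl Lrfl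
theorem f267220 : Led Lsl_ct (LP (LK LD1_c8 LD2_c7 LD3_c17)) = (LP (LK LD1_c8 LD2_c37 LD3_c8)) :=
  Lgr Lrot176 (Lpe (f199497 IH) (Lpe (K14.f196707 IH) (Lpe (K12.f199005 IH) (Lpr_cf (K11.f199130 IH) (Lpe (K10.f166515 IH) (Lpe (f166514 IH) (Lpe (f177905 IH) (Lpe (f199577 IH) (Lpr_df (f267216 IH) (Lpe (f174938 IH) (Lpe (K14.f174937 IH) (Lpe (f254008 IH) (Lpe (f254056 IH) (Lpe (f261096 IH) (Lpe (f261095 IH) (Lpn (LP (LK LD1_c8 LD2_c37 LD3_c8))))))))))))))))))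
theorem f44637 : Led Lsl_ct (LP (LK LD1_c2 LD2_c10 LD3_c60)) = (LP (LK LD1_c4 LD2_c27 LD3_c34)) :=
  Lre_c IH (LK LD1_c2 LD2_c10 LD3_c60) (LK LD1_c4 LD2_c27 LD3_c34) Lrfl Lrfl
theorem f213484 : Led Lsl_gf (LP (LK LD1_c5 LD2_c0 LD3_c41)) = (LP (LK LD1_c4 LD2_c27 LD3_c34)) :=
  Lgr Lrot129 (Lpe (f53644 IH) (Lpr_bt (K9.f53643 IH) (Lpr_gt (K13.f213478 IH) (Lpe (K13.f171263 IH) (Lpr_ct (K9.f178171 IH) (Lpr_gt (K9.f174126 IH) (Lpe (K9.f172858 IH) (Lpr_bt (K13.f44738 IH) (Lpr_gt (K11.f41598 IH) (Lpr_ct (f44637 IH) (Lpn (LP (LK LD1_c4 LD2_c27 LD3_c34)))))))))))))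
theorem f54099 : Led Lsl_dt (LP (LK LD1_c5 LD2_c0 LD3_c41)) = (LP (LK LD1_c9 LD2_c51 LD3_c43)) :=
  Lre_d IH (LK LD1_c5 LD2_c0 LD3_c41) (LK LD1_c9 LD2_c51 LD3_c43) Lrfl Lrfl
theorem f28924 : Led Lsl_ct (LP (LK LD1_c4 LD2_c3 LD3_c20)) = (LP (LK LD1_c1 LD2_c58 LD3_c38)) :=
  Lre_c IH (LK LD1_c4 LD2_c3 LD3_c20) (LK LD1_c1 LD2_c58 LD3_c38) Lrfl Lrfl
theorem f28925 : Led Lsl_dt (LP (LK LD1_c8 LD2_c7 LD3_c17)) = (LP (LK LD1_c4 LD2_c3 LD3_c20)) :=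
  Lre_d IH (LK LD1_c8 LD2_c7 LD3_c17) (LK LD1_c4 LD2_c3 LD3_c20) Lrfl Lrfl
theorem f213498 : Led Lsl_gt (LP (LK LD1_c9 LD2_c51 LD3_c43)) = (LP (LK LD1_c8 LD2_c7 LD3_c17)) :=
  Lgr Lrot49 (Lpe (f54099 IH) (Lpr_gf (f213484 IH) (Lpe (f44637 IH) (Lpr_gt (K11.f41755 IH) (Lpr_dt (K1.f41743 IH) (Lpe (K11.f199120 IH) (Lpr_dt (K12.f199005 IH) (Lpe (f28924 IH) (Lpe (f28925 IH) (Lpn (LP (LK LD1_c8 LD2_c7 LD3_c17))))))))))))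
theorem f267244 : Led Lsl_ct (LP (LK LD1_c8 LD2_c24 LD3_c33)) = (LP (LK LD1_c4 LD2_c28 LD3_c39)) :=
  Lgr Lrot110 (Lpr_gf (f267242 IH) (Lpe (f267220 IH) (Lpe (f213498 IH) (Lpe (f54099 IH) (Lpr_gt (f218814 IH) (Lpr_ct (f201296 IH) (Lpr_gt (K12.f220796 IH) (Lpr_ct (K9.f44737 IH) (Lpe (K12.f183259 IH) (Lpn (LP (LK LD1_c4 LD2_c28 LD3_c39))))))))))))
theorem f267264 : Led Lsl_at (LP (LK LD1_c8 LD2_c40 LD3_c10)) = (LP (LK LD1_c4 LD2_c28 LD3_c39)) :=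
  Lre_a IH (LK LD1_c8 LD2_c40 LD3_c10) (LK LD1_c4 LD2_c28 LD3_c39) Lrfl Lrfl
theorem f267265 : Led Lsl_ft (LP (LK LD1_c4 LD2_c27 LD3_c39)) = (LP (LK LD1_c8 LD2_c40 LD3_c10)) :=
  Lre_f IH (LK LD1_c4 LD2_c27 LD3_c39) (LK LD1_c8 LD2_c40 LD3_c10) Lrfl Lrfl
theorem f168600 : Led Lsl_dt (LP (LK LD1_c4 LD2_c27 LD3_c39)) = (LP (LK LD1_c2 LD2_c10 LD3_c61)) :=
  Lre_d IH (LK LD1_c4 LD2_c27 LD3_c39) (LK LD1_c2 LD2_c10 LD3_c61) Lrfl Lrfl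
theorem f41763 : Led Lsl_ct (LP (LK LD1_c2 LD2_c10 LD3_c61)) = (LP (LK LD1_c1 LD2_c2 LD3_c31)) :=
  Lre_c IH (LK LD1_c2 LD2_c10 LD3_c61) (LK LD1_c1 LD2_c2 LD3_c31) Lrfl Lrfl
theorem f41856 : Led Lsl_dt (LP (LK LD1_c1 LD2_c1 LD3_c9)) = (LP (LK LD1_c2 LD2_c8 LD3_c2)) :=
  Lre_d IH (LK LD1_c1 LD2_c1 LD3_c9) (LK LD1_c2 LD2_c8 LD3_c2) Lrfl Lrfl
theorem f267266 : Led Lsl_df (LP (LK LD1_c8 LD2_c24 LD3_c33)) = (LP (LK LD1_c4 LD2_c21 LD3_c2)) :=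
  Lgr Lrot177 (Lpr_ct (f267244 IH) (Lpe (f267264 IH) (Lpe (f267265 IH) (Lpr_dt (f168600 IH) (Lpr_ct (f41763 IH) (Lpr_dt (K1.f41743 IH) (Lpr_ct (K1.f41890 IH) (Lpr_dt (f41856 IH) (Lpr_ct (f41985 IH) (Lpn (LP (LK LD1_c4 LD2_c21 LD3_c2))))))))))))
theorem f166542 : Led Lsl_ct (LP (LK LD1_c4 LD2_c12 LD3_c27)) = (LP (LK LD1_c8 LD2_c24 LD3_c34)) :=
  Lre_c IH (LK LD1_c4 LD2_c12 LD3_c27) (LK LD1_c8 LD2_c24 LD3_c34) Lrfl Lrfl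
theorem f2868 : Led Lsl_ct (LP (LK LD1_c2 LD2_c24 LD3_c28)) = (LP (LK LD1_c1 LD2_c9 LD3_c22)) :=
  Lre_c IH (LK LD1_c2 LD2_c24 LD3_c28) (LK LD1_c1 LD2_c9 LD3_c22) Lrfl Lrfl
theorem f219402 : Led Lsl_dt (LP (LK LD1_c8 LD2_c24 LD3_c0)) = (LP (LK LD1_c4 LD2_c12 LD3_c12)) :=
  Lre_d IH (LK LD1_c8 LD2_c24 LD3_c0) (LK LD1_c4 LD2_c12 LD3_c12) Lrfl Lrfl
theorem f219388 : Led Lsl_ct (LP (LK LD1_c9 LD2_c51 LD3_c43)) = (LP (LK LD1_c8 LD2_c24 LD3_c0)) :=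
  Lgr Lrot59 (Lpr_cf (K12.f219384 IH) (Lpn (LP (LK LD1_c8 LD2_c24 LD3_c0))))
theorem f267278 : Led Lsl_gt (LP (LK LD1_c8 LD2_c24 LD3_c34)) = (LP (LK LD1_c9 LD2_c51 LD3_c43)) :=
  Lgr Lrot150 (Lpe (f166542 IH) (Lpe (f177906 IH) (Lpr_df (f267266 IH) (Lpr_gt (f192374 IH) (Lpr_ct (f2868 IH) (Lpe (K14.f256056 IH) (Lpr_ct (K12.f53329 IH) (Lpe (f219402 IH) (Lpe (f219388 IH) (Lpn (LP (LK LD1_c9 LD2_c51 LD3_c43))))))))))))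
theorem f261102 : Led Lsl_at (LP (LK LD1_c0 LD2_c27 LD3_c35)) = (LP (LK LD1_c1 LD2_c0 LD3_c37)) :=
  Lre_a IH (LK LD1_c0 LD2_c27 LD3_c35) (LK LD1_c1 LD2_c0 LD3_c37) Lrfl Lrfl
theorem f250260 : Led Lsl_ft (LP (LK LD1_c0 LD2_c26 LD3_c35)) = (LP (LK LD1_c0 LD2_c27 LD3_c35)) :=
  Lgr Lrot75 (Lpe (K10.f51603 IH) (Lpr_ff (K14.f250258 IH) (Lpe (f179840 IH) (Lpn (LP (LK LD1_c0 LD2_c27 LD3_c35))))))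
theorem f166511 : Led Lsl_dt (LP (LK LD1_c2 LD2_c3 LD3_c25)) = (LP (LK LD1_c4 LD2_c12 LD3_c27)) :=
  Lre_d IH (LK LD1_c2 LD2_c3 LD3_c25) (LK LD1_c4 LD2_c12 LD3_c27) Lrfl Lrfl
theorem f220857 : Led Lsl_ct (LP (LK LD1_c4 LD2_c27 LD3_c32)) = (LP (LK LD1_c2 LD2_c10 LD3_c58)) :=
  Lre_c IH (LK LD1_c4 LD2_c27 LD3_c32) (LK LD1_c2 LD2_c10 LD3_c58) Lrfl Lrfl
theorem f261103 : Led Lsl_dt (LP (LK LD1_c8 LD2_c24 LD3_c34)) = (LP (LK LD1_c4 LD2_c27 LD3_c32)) :=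
  Lgr Lrot140 (Lpe (f166542 IH) (Lpe (f166511 IH) (Lpe (f166487 IH) (Lpe (K14.f166516 IH) (Lpr_ft (f250260 IH) (Lpr_at (f261102 IH) (Lpr_cf (f261091 IH) (Lpe (f41776 IH) (Lpe (f220857 IH) (Lpn (LP (LK LD1_c4 LD2_c27 LD3_c32))))))))))))
theorem f189441 : Led Lsl_bt (LP (LK LD1_c0 LD2_c16 LD3_c5)) = (LP (LK LD1_c0 LD2_c36 LD3_c4)) :=
  Lre_b IH (LK LD1_c0 LD2_c16 LD3_c5) (LK LD1_c0 LD2_c36 LD3_c4) Lrfl Lrfl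
theorem f177872 : Led Lsl_bt (LP (LK LD1_c2 LD2_c43 LD3_c42)) = (LP (LK LD1_c1 LD2_c18 LD3_c15)) :=
  Lre_b IH (LK LD1_c2 LD2_c43 LD3_c42) (LK LD1_c1 LD2_c18 LD3_c15) Lrfl Lrfl
theorem f199491 : Led Lsl_ct (LP (LK LD1_c2 LD2_c43 LD3_c42)) = (LP (LK LD1_c5 LD2_c35 LD3_c31)) :=
  Lre_c IH (LK LD1_c2 LD2_c43 LD3_c42) (LK LD1_c5 LD2_c35 LD3_c31) Lrfl Lrfl
theorem f261078 : Led Lsl_gt (LP (LK LD1_c4 LD2_c27 LD3_c32)) = (LP (LK LD1_c5 LD2_c35 LD3_c31)) :=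
  Lgr Lrot149 (Lpe (f174938 IH) (Lpr_gf (f261069 IH) (Lpe (K12.f7718 IH) (Lpr_ct (f7721 IH) (Lpe (K12.f226537 IH) (Lpe (K12.f178170 IH) (Lpr_bt (f189441 IH) (Lpe (K12.f177871 IH) (Lpe (f177872 IH) (Lpr_ct (f199491 IH) (Lpn (LP (LK LD1_c5 LD2_c35 LD3_c31)))))))))))))
theorem f177873 : Led Lsl_ct (LP (LK LD1_c5 LD2_c35 LD3_c31)) = (LP (LK LD1_c2 LD2_c43 LD3_c42)) :=
  Lre_c IH (LK LD1_c5 LD2_c35 LD3_c31) (LK LD1_c2 LD2_c43 LD3_c42) Lrfl Lrfl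
theorem f219293 : Led Lsl_dt (LP (LK LD1_c4 LD2_c8 LD3_c52)) = (LP (LK LD1_c2 LD2_c1 LD3_c48)) :=
  Lre_d IH (LK LD1_c4 LD2_c8 LD3_c52) (LK LD1_c2 LD2_c1 LD3_c48) Lrfl Lrfl
theorem f219593 : Led Lsl_dt (LP (LK LD1_c0 LD2_c57 LD3_c55)) = (LP (LK LD1_c2 LD2_c1 LD3_c51)) :=
  Lre_d IH (LK LD1_c0 LD2_c57 LD3_c55) (LK LD1_c2 LD2_c1 LD3_c51) Lrfl Lrfl
theorem f167183 : Led Lsl_ct (LP (LK LD1_c4 LD2_c8 LD3_c59)) = (LP (LK LD1_c2 LD2_c1 LD3_c51)) :=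
  Lre_c IH (LK LD1_c4 LD2_c8 LD3_c59) (LK LD1_c2 LD2_c1 LD3_c51) Lrfl Lrfl
theorem f219660 : Led Lsl_dt (LP (LK LD1_c8 LD2_c18 LD3_c0)) = (LP (LK LD1_c4 LD2_c8 LD3_c59)) :=
  Lre_d IH (LK LD1_c8 LD2_c18 LD3_c0) (LK LD1_c4 LD2_c8 LD3_c59) Lrfl Lrfl
theorem f219763 : Led Lsl_gt (LP (LK LD1_c8 LD2_c24 LD3_c0)) = (LP (LK LD1_c8 LD2_c18 LD3_c0)) :=
  Lgr Lrot49 (Lpe (K12.f219383 IH) (Lpe (K12.f219460 IH) (Lpe (K12.f219459 IH) (Lpr_gt (K12.f219761 IH) (Lpr_dt (f219293 IH) (Lpr_gt (K12.f190827 IH) (Lpr_dt (f219593 IH) (Lpe (f167183 IH) (Lpe (f219660 IH) (Lpn (LP (LK LD1_c8 LD2_c18 LD3_c0))))))))))))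
theorem f187158 : Led Lsl_dt (LP (LK LD1_c2 LD2_c8 LD3_c5)) = (LP (LK LD1_c1 LD2_c1 LD3_c11)) :=
  Lre_d IH (LK LD1_c2 LD2_c8 LD3_c5) (LK LD1_c1 LD2_c1 LD3_c11) Lrfl Lrfl
theorem f219661 : Led Lsl_ct (LP (LK LD1_c4 LD2_c28 LD3_c35)) = (LP (LK LD1_c8 LD2_c18 LD3_c0)) :=
  Lgr Lrot53 (Lpe (K14.f191844 IH) (Lpe (K14.f187197 IH) (Lpe (K10.f187187 IH) (Lpe (K10.f187103 IH) (Lpe (f187158 IH) (Lpr_ft (K14.f219647 IH) (Lpr_at (f219651 IH) (Lpe (f167183 IH) (Lpe (f219660 IH) (Lpn (LP (LK LD1_c8 LD2_c18 LD3_c0))))))))))))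
theorem f219664 : Led Lsl_cf (LP (LK LD1_c4 LD2_c28 LD3_c35)) = (LP (LK LD1_c8 LD2_c18 LD3_c0)) :=
  Lgr Lrot11 (Lpr_ct (f219661 IH) (Lpn (LP (LK LD1_c8 LD2_c18 LD3_c0))))
theorem f267283 : Led Lsl_gt (LP (LK LD1_c2 LD2_c43 LD3_c42)) = (LP (LK LD1_c4 LD2_c21 LD3_c4)) :=
  Lgr Lrot150 (Lpe (f177873 IH) (Lpe (f261078 IH) (Lpe (f261103 IH) (Lpr_gt (f267278 IH) (Lpr_ct (f219388 IH) (Lpr_gt (f219763 IH) (Lpe (f219664 IH) (Lpe (K14.f191844 IH) (Lpe (K14.f187197 IH) (Lpn (LP (LK LD1_c4 LD2_c21 LD3_c4))))))))))))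
theorem f196671 : Led Lsl_gt (LP (LK LD1_c4 LD2_c3 LD3_c24)) = (LP (LK LD1_c1 LD2_c59 LD3_c20)) :=
  Lre_g IH (LK LD1_c4 LD2_c3 LD3_c24) (LK LD1_c1 LD2_c59 LD3_c20) Lrfl Lrfl
theorem f28923 : Led Lsl_bt (LP (LK LD1_c1 LD2_c58 LD3_c38)) = (LP (LK LD1_c0 LD2_c56 LD3_c11)) :=
  Lre_b IH (LK LD1_c1 LD2_c58 LD3_c38) (LK LD1_c0 LD2_c56 LD3_c11) Lrfl Lrfl
theorem f199492 : Led Lsl_gf (LP (LK LD1_c4 LD2_c3 LD3_c20)) = (LP (LK LD1_c5 LD2_c35 LD3_c31)) :=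
  Lgr Lrot126 (Lpe (K14.f196707 IH) (Lpr_bt (f28923 IH) (Lpr_gt (K9.f28823 IH) (Lpr_ct (K13.f28827 IH) (Lpr_gt (f196671 IH) (Lpe (K13.f193327 IH) (Lpr_bt (K13.f196672 IH) (Lpr_gt (K12.f199480 IH) (Lpe (f177872 IH) (Lpr_ct (f199491 IH) (Lpn (LP (LK LD1_c5 LD2_c35 LD3_c31)))))))))))))
theorem f199498 : Led Lsl_gt (LP (LK LD1_c8 LD2_c7 LD3_c17)) = (LP (LK LD1_c15 LD2_c17 LD3_c40)) :=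
  Lre_g IH (LK LD1_c8 LD2_c7 LD3_c17) (LK LD1_c15 LD2_c17 LD3_c40) Lrfl Lrfl
theorem f218816 : Led Lsl_gt (LP (LK LD1_c4 LD2_c3 LD3_c53)) = (LP (LK LD1_c8 LD2_c8 LD3_c10)) :=
  Lre_g IH (LK LD1_c4 LD2_c3 LD3_c53) (LK LD1_c8 LD2_c8 LD3_c10) Lrfl Lrfl
theorem f53327 : Led Lsl_gt (LP (LK LD1_c0 LD2_c26 LD3_c35)) = (LP (LK LD1_c0 LD2_c58 LD3_c38)) :=
  Lre_g IH (LK LD1_c0 LD2_c26 LD3_c35) (LK LD1_c0 LD2_c58 LD3_c38) Lrfl Lrfl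
theorem f220798 : Led Lsl_ct (LP (LK LD1_c8 LD2_c8 LD3_c10)) = (LP (LK LD1_c4 LD2_c12 LD3_c11)) :=
  Lgr Lrot110 (Lpe (f218816 IH) (Lpe (f52301 IH) (Lpr_gf (K12.f220767 IH) (Lpe (K1.f41767 IH) (Lpe (K11.f199120 IH) (Lpr_ct (K12.f199174 IH) (Lpr_gt (f53327 IH) (Lpr_ct (K12.f199178 IH) (Lpe (K12.f199179 IH) (Lpn (LP (LK LD1_c4 LD2_c12 LD3_c11))))))))))))
theorem f267305 : Led Lsl_dt (LP (LK LD1_c15 LD2_c17 LD3_c40)) = (LP (LK LD1_c8 LD2_c8 LD3_c10)) :=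
  Lgr Lrot105 (Lpe (f199498 IH) (Lpe (f199497 IH) (Lpr_gf (f199492 IH) (Lpe (f199491 IH) (Lpr_gt (f267283 IH) (Lpr_dt (K14.f187214 IH) (Lpr_gt (K12.f219456 IH) (Lpr_dt (K12.f199180 IH) (Lpe (f220798 IH) (Lpn (LP (LK LD1_c8 LD2_c8 LD3_c10))))))))))))
theorem f267312 : Led Lsl_df (LP (LK LD1_c15 LD2_c17 LD3_c40)) = (LP (LK LD1_c8 LD2_c8 LD3_c10)) :=
  Lgr Lrot38 (Lpr_dt (f267305 IH) (Lpn (LP (LK LD1_c8 LD2_c8 LD3_c10))))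
theorem f220808 : Led Lsl_cf (LP (LK LD1_c8 LD2_c8 LD3_c10)) = (LP (LK LD1_c4 LD2_c12 LD3_c11)) :=
  Lgr Lrot11 (Lpr_ct (f220798 IH) (Lpn (LP (LK LD1_c4 LD2_c12 LD3_c11))))
theorem f53638 : Led Lsl_dt (LP (LK LD1_c8 LD2_c10 LD3_c51)) = (LP (LK LD1_c4 LD2_c5 LD3_c1)) :=
  Lre_d IH (LK LD1_c8 LD2_c10 LD3_c51) (LK LD1_c4 LD2_c5 LD3_c1) Lrfl Lrfl
theorem f267319 : Led Lsl_ct (LP (LK LD1_c15 LD2_c17 LD3_c40)) = (LP (LK LD1_c8 LD2_c10 LD3_c51)) :=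
  Lgr Lrot176 (Lpr_df (f267312 IH) (Lpr_cf (f220808 IH) (Lpe (K12.f199180 IH) (Lpe (K12.f199178 IH) (Lpe (K12.f219354 IH) (Lpe (K12.f219412 IH) (Lpe (f219402 IH) (Lpe (f219388 IH) (Lpe (f54099 IH) (Lpe (f53644 IH) (Lpe (K9.f44529 IH) (Lpr_cf (K12.f44583 IH) (Lpe (K12.f53636 IH) (Lpe (K14.f53637 IH) (Lpe (f53638 IH) (Lpn (LP (LK LD1_c8 LD2_c10 LD3_c51))))))))))))))))))
theorem f223365 : Led Lsl_at (LP (LK LD1_c4 LD2_c28 LD3_c7)) = (LP (LK LD1_c5 LD2_c0 LD3_c41)) :=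
  Lgr Lrot107 (Lpr_cf (K12.f223205 IH) (Lpr_af (K9.f53634 IH) (Lpe (K12.f53642 IH) (Lpn (LP (LK LD1_c5 LD2_c0 LD3_c41))))))
theorem f267321 : Led Lsl_ff (LP (LK LD1_c4 LD2_c28 LD3_c7)) = (LP (LK LD1_c8 LD2_c8 LD3_c10)) :=
  Lgr Lrot103 (Lpr_at (f223365 IH) (Lpe (f53644 IH) (Lpe (K9.f44529 IH) (Lpr_cf (K12.f44583 IH) (Lpe (K12.f53636 IH) (Lpe (K14.f53637 IH) (Lpe (f53638 IH) (Lpe (f267319 IH) (Lpr_df (f267312 IH) (Lpn (LP (LK LD1_c8 LD2_c8 LD3_c10))))))))))))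
theorem f267328 : Led Lsl_gf (LP (LK LD1_c4 LD2_c27 LD3_c34)) = (LP (LK LD1_c8 LD2_c8 LD3_c10)) :=
  Lgr Lrot47 (Lpe (f213484 IH) (Lpe (f223365 IH) (Lpr_ff (f267321 IH) (Lpn (LP (LK LD1_c8 LD2_c8 LD3_c10))))))
theorem f44645 : Led Lsl_ct (LP (LK LD1_c4 LD2_c27 LD3_c34)) = (LP (LK LD1_c2 LD2_c10 LD3_c60)) :=
  Lre_c IH (LK LD1_c4 LD2_c27 LD3_c34) (LK LD1_c2 LD2_c10 LD3_c60) Lrfl Lrfl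
theorem f267323 : Led Lsl_gt (LP (LK LD1_c15 LD2_c17 LD3_c40)) = (LP (LK LD1_c8 LD2_c24 LD3_c34)) :=
  Lgr Lrot49 (Lpr_df (f267312 IH) (Lpe (f218816 IH) (Lpe (f52301 IH) (Lpr_gt (K12.f220796 IH) (Lpr_dt (K14.f41570 IH) (Lpr_gt (f174936 IH) (Lpr_dt (K14.f174937 IH) (Lpe (f220857 IH) (Lpe (f261103 IH) (Lpn (LP (LK LD1_c8 LD2_c24 LD3_c34))))))))))))
theorem f166512 : Led Lsl_gt (LP (LK LD1_c4 LD2_c12 LD3_c27)) = (LP (LK LD1_c8 LD2_c24 LD3_c32)) :=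
  Lre_g IH (LK LD1_c4 LD2_c12 LD3_c27) (LK LD1_c8 LD2_c24 LD3_c32) Lrfl Lrfl
theorem f267334 : Led Lsl_cf (LP (LK LD1_c4 LD2_c27 LD3_c39)) = (LP (LK LD1_c8 LD2_c24 LD3_c32)) :=
  Lgr Lrot99 (Lpe (K12.f168602 IH) (Lpe (K9.f41739 IH) (Lpe (K11.f41755 IH) (Lpe (f44645 IH) (Lpr_gf (f267328 IH) (Lpe (f267305 IH) (Lpr_gt (f267323 IH) (Lpr_ct (f199577 IH) (Lpr_gt (f166512 IH) (Lpn (LP (LK LD1_c8 LD2_c24 LD3_c32))))))))))))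
theorem f191855 : Led Lsl_ct (LP (LK LD1_c8 LD2_c40 LD3_c10)) = (LP (LK LD1_c4 LD2_c21 LD3_c15)) :=
  Lre_c IH (LK LD1_c8 LD2_c40 LD3_c10) (LK LD1_c4 LD2_c21 LD3_c15) Lrfl Lrfl
theorem f267378 : Led Lsl_ft (LP (LK LD1_c4 LD2_c21 LD3_c15)) = (LP (LK LD1_c8 LD2_c24 LD3_c32)) :=
  Lgr Lrot4 (Lpe (f191855 IH) (Lpe (f267265 IH) (Lpr_cf (f267334 IH) (Lpn (LP (LK LD1_c8 LD2_c24 LD3_c32))))))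
theorem f232426 : Led Lsl_ft (LP (LK LD1_c4 LD2_c21 LD3_c16)) = (LP (LK LD1_c2 LD2_c8 LD3_c8)) :=
  Lre_f IH (LK LD1_c4 LD2_c21 LD3_c16) (LK LD1_c2 LD2_c8 LD3_c8) Lrfl Lrfl
theorem f267389 : Led Lsl_df (LP (LK LD1_c4 LD2_c21 LD3_c16)) = (LP (LK LD1_c8 LD2_c24 LD3_c32)) :=
  Lgr Lrot78 (Lpr_ft (f232426 IH) (Lpr_dt (K12.f219619 IH) (Lpr_ft (f267378 IH) (Lpn (LP (LK LD1_c8 LD2_c24 LD3_c32))))))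
theorem f199128 : Led Lsl_ct (LP (LK LD1_c4 LD2_c21 LD3_c16)) = (LP (LK LD1_c2 LD2_c8 LD3_c9)) :=
  Lre_c IH (LK LD1_c4 LD2_c21 LD3_c16) (LK LD1_c2 LD2_c8 LD3_c9) Lrfl Lrfl
theorem f43077 : Led Lsl_dt (LP (LK LD1_c1 LD2_c1 LD3_c13)) = (LP (LK LD1_c2 LD2_c8 LD3_c9)) :=
  Lre_d IH (LK LD1_c1 LD2_c1 LD3_c13) (LK LD1_c2 LD2_c8 LD3_c9) Lrfl Lrfl
theorem f166488 : Led Lsl_gt (LP (LK LD1_c4 LD2_c12 LD3_c25)) = (LP (LK LD1_c2 LD2_c3 LD3_c25)) :=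
  Lre_g IH (LK LD1_c4 LD2_c12 LD3_c25) (LK LD1_c2 LD2_c3 LD3_c25) Lrfl Lrfl
theorem f166490 : Led Lsl_bt (LP (LK LD1_c4 LD2_c17 LD3_c17)) = (LP (LK LD1_c2 LD2_c5 LD3_c61)) :=
  Lre_b IH (LK LD1_c4 LD2_c17 LD3_c17) (LK LD1_c2 LD2_c5 LD3_c61) Lrfl Lrfl
theorem f166491 : Led Lsl_cf (LP (LK LD1_c4 LD2_c12 LD3_c25)) = (LP (LK LD1_c4 LD2_c17 LD3_c17)) :=
  Lgr Lrot160 (Lpr_gt (f166488 IH) (Lpe (f166487 IH) (Lpr_bt (f166486 IH) (Lpr_gt (K9.f166471 IH) (Lpr_ct (K9.f166472 IH) (Lpr_gt (K9.f166473 IH) (Lpe (K9.f7991 IH) (Lpr_bt (K13.f166489 IH) (Lpr_gt (K13.f7874 IH) (Lpe (f166490 IH) (Lpn (LP (LK LD1_c4 LD2_c17 LD3_c17)))))))))))))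
theorem f267448 : Led Lsl_gf (LP (LK LD1_c4 LD2_c8 LD3_c8)) = (LP (LK LD1_c4 LD2_c17 LD3_c17)) :=
  Lgr Lrot144 (Lpr_dt (K12.f47645 IH) (Lpr_gt (K12.f213773 IH) (Lpr_dt (f43077 IH) (Lpe (f199128 IH) (Lpr_df (f267389 IH) (Lpe (f166512 IH) (Lpe (f166511 IH) (Lpe (f166488 IH) (Lpr_cf (f166491 IH) (Lpn (LP (LK LD1_c4 LD2_c17 LD3_c17))))))))))))
theorem f261000 : Led Lsl_af (LP (LK LD1_c4 LD2_c3 LD3_c44)) = (LP (LK LD1_c4 LD2_c8 LD3_c58)) :=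
  Lgr Lrot117 (Lpr_dt (K12.f201236 IH) (Lpr_at (f201224 IH) (Lpr_dt (f260997 IH) (Lpn (LP (LK LD1_c4 LD2_c8 LD3_c58))))))
theorem f267451 : Led Lsl_ff (LP (LK LD1_c4 LD2_c8 LD3_c58)) = (LP (LK LD1_c4 LD2_c17 LD3_c17)) :=
  Lgr Lrot52 (Lpe (f261000 IH) (Lpr_gf (K12.f212482 IH) (Lpr_gf (f267448 IH) (Lpn (LP (LK LD1_c4 LD2_c17 LD3_c17))))))
theorem f267461 : Led Lsl_ft (LP (LK LD1_c4 LD2_c8 LD3_c58)) = (LP (LK LD1_c4 LD2_c17 LD3_c17)) :=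
  Lgr Lrot48 (Lpr_ff (f267451 IH) (Lpn (LP (LK LD1_c4 LD2_c17 LD3_c17))))
theorem f267469 : Led Lsl_af (LP (LK LD1_c4 LD2_c8 LD3_c57)) = (LP (LK LD1_c4 LD2_c17 LD3_c17)) :=
  Lgr Lrot31 (Lpe (K14.f167184 IH) (Lpe (f219591 IH) (Lpr_ft (f267461 IH) (Lpn (LP (LK LD1_c4 LD2_c17 LD3_c17))))))
theorem f267471 : Led Lsl_at (LP (LK LD1_c4 LD2_c8 LD3_c57)) = (LP (LK LD1_c4 LD2_c17 LD3_c17)) :=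
  Lgr Lrot100 (Lpr_af (f267469 IH) (Lpn (LP (LK LD1_c4 LD2_c17 LD3_c17))))
theorem f267497 : Led Lsl_ff (LP (LK LD1_c4 LD2_c8 LD3_c57)) = (LP (LK LD1_c4 LD2_c3 LD3_c44)) :=
  Lgr Lrot30 (Lpr_at (f267471 IH) (Lpe (f267451 IH) (Lpe (f261000 IH) (Lpn (LP (LK LD1_c4 LD2_c3 LD3_c44))))))
theorem f7840 : Led Lsl_ct (LP (LK LD1_c1 LD2_c16 LD3_c58)) = (LP (LK LD1_c2 LD2_c40 LD3_c30)) :=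
  Lre_c IH (LK LD1_c1 LD2_c16 LD3_c58) (LK LD1_c2 LD2_c40 LD3_c30) Lrfl Lrfl
theorem f7841 : Led Lsl_dt (LP (LK LD1_c2 LD2_c40 LD3_c30)) = (LP (LK LD1_c5 LD2_c28 LD3_c21)) :=
  Lre_d IH (LK LD1_c2 LD2_c40 LD3_c30) (LK LD1_c5 LD2_c28 LD3_c21) Lrfl Lrfl
theorem f166507 : Led Lsl_ct (LP (LK LD1_c4 LD2_c12 LD3_c25)) = (LP (LK LD1_c4 LD2_c17 LD3_c17)) :=
  Lgr Lrot59 (Lpr_cf (f166491 IH) (Lpn (LP (LK LD1_c4 LD2_c17 LD3_c17))))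
theorem f166513 : Led Lsl_dt (LP (LK LD1_c8 LD2_c24 LD3_c27)) = (LP (LK LD1_c4 LD2_c12 LD3_c25)) :=
  Lre_d IH (LK LD1_c8 LD2_c24 LD3_c27) (LK LD1_c4 LD2_c12 LD3_c25) Lrfl Lrfl
theorem f267499 : Led Lsl_ct (LP (LK LD1_c5 LD2_c28 LD3_c21)) = (LP (LK LD1_c8 LD2_c24 LD3_c27)) :=
  Lgr Lrot53 (Lpe (f7841 IH) (Lpe (f7840 IH) (Lpe (K12.f7818 IH) (Lpr_cf (K11.f201228 IH) (Lpe (K12.f201236 IH) (Lpe (f267497 IH) (Lpr_at (f267471 IH) (Lpe (f166507 IH) (Lpe (f166513 IH) (Lpn (LP (LK LD1_c8 LD2_c24 LD3_c27))))))))))))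
theorem f237119 : Led Lsl_ct (LP (LK LD1_c4 LD2_c12 LD3_c24)) = (LP (LK LD1_c4 LD2_c3 LD3_c44)) :=
  Lgr Lrot59 (Lpr_cf (f236996 IH) (Lpn (LP (LK LD1_c4 LD2_c3 LD3_c44))))
theorem f237126 : Led Lsl_dt (LP (LK LD1_c8 LD2_c24 LD3_c24)) = (LP (LK LD1_c4 LD2_c12 LD3_c24)) :=
  Lre_d IH (LK LD1_c8 LD2_c24 LD3_c24) (LK LD1_c4 LD2_c12 LD3_c24) Lrfl Lrfl
theorem f267473 : Led Lsl_at (LP (LK LD1_c4 LD2_c19 LD3_c33)) = (LP (LK LD1_c4 LD2_c12 LD3_c25)) :=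
  Lgr Lrot107 (Lpr_cf (f267128 IH) (Lpr_af (f267469 IH) (Lpe (f166507 IH) (Lpn (LP (LK LD1_c4 LD2_c12 LD3_c25))))))
theorem f166509 : Led Lsl_dt (LP (LK LD1_c4 LD2_c12 LD3_c25)) = (LP (LK LD1_c8 LD2_c24 LD3_c27)) :=
  Lre_d IH (LK LD1_c4 LD2_c12 LD3_c25) (LK LD1_c8 LD2_c24 LD3_c27) Lrfl Lrfl
theorem f267477 : Led Lsl_af (LP (LK LD1_c8 LD2_c37 LD3_c21)) = (LP (LK LD1_c8 LD2_c24 LD3_c27)) :=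
  Lgr Lrot117 (Lpr_dt (f267125 IH) (Lpr_at (f267473 IH) (Lpr_dt (f166509 IH) (Lpn (LP (LK LD1_c8 LD2_c24 LD3_c27))))))
theorem f267484 : Led Lsl_at (LP (LK LD1_c8 LD2_c37 LD3_c21)) = (LP (LK LD1_c8 LD2_c24 LD3_c27)) :=
  Lgr Lrot100 (Lpr_af (f267477 IH) (Lpn (LP (LK LD1_c8 LD2_c24 LD3_c27))))
theorem f267508 : Led Lsl_ft (LP (LK LD1_c8 LD2_c24 LD3_c24)) = (LP (LK LD1_c8 LD2_c37 LD3_c21)) :=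
  Lgr Lrot142 (Lpr_dt (f237126 IH) (Lpr_ct (f237119 IH) (Lpr_dt (K12.f201236 IH) (Lpe (K11.f201228 IH) (Lpr_dt (K12.f7818 IH) (Lpr_ct (f7840 IH) (Lpr_dt (f7841 IH) (Lpr_ct (f267499 IH) (Lpe (f267484 IH) (Lpn (LP (LK LD1_c8 LD2_c37 LD3_c21))))))))))))
theorem f267516 : Led Lsl_ff (LP (LK LD1_c8 LD2_c24 LD3_c24)) = (LP (LK LD1_c8 LD2_c37 LD3_c21)) :=
  Lgr Lrot3 (Lpr_ft (f267508 IH) (Lpn (LP (LK LD1_c8 LD2_c37 LD3_c21))))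
theorem f191905 : Led Lsl_dt (LP (LK LD1_c4 LD2_c27 LD3_c48)) = (LP (LK LD1_c8 LD2_c53 LD3_c28)) :=
  Lre_d IH (LK LD1_c4 LD2_c27 LD3_c48) (LK LD1_c8 LD2_c53 LD3_c28) Lrfl Lrfl
theorem f191892 : Led Lsl_dt (LP (LK LD1_c8 LD2_c53 LD3_c28)) = (LP (LK LD1_c4 LD2_c27 LD3_c48)) :=
  Lre_d IH (LK LD1_c8 LD2_c53 LD3_c28) (LK LD1_c4 LD2_c27 LD3_c48) Lrfl Lrfl
theorem f260784 : Led Lsl_dt (LP (LK LD1_c4 LD2_c19 LD3_c34)) = (LP (LK LD1_c8 LD2_c37 LD3_c24)) :=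
  Lre_d IH (LK LD1_c4 LD2_c19 LD3_c34) (LK LD1_c8 LD2_c37 LD3_c24) Lrfl Lrfl
theorem f261008 : Led Lsl_cf (LP (LK LD1_c8 LD2_c53 LD3_c28)) = (LP (LK LD1_c8 LD2_c37 LD3_c24)) :=
  Lgr Lrot116 (Lpr_dt (f191892 IH) (Lpr_ct (K14.f191889 IH) (Lpe (K14.f253473 IH) (Lpr_ct (K12.f201240 IH) (Lpe (f253272 IH) (Lpr_ff (K14.f253270 IH) (Lpr_dt (f260997 IH) (Lpe (f260773 IH) (Lpr_dt (f260784 IH) (Lpn (LP (LK LD1_c8 LD2_c37 LD3_c24))))))))))))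
theorem f261013 : Led Lsl_ct (LP (LK LD1_c8 LD2_c53 LD3_c28)) = (LP (LK LD1_c8 LD2_c37 LD3_c24)) :=
  Lgr Lrot59 (Lpr_cf (f261008 IH) (Lpn (LP (LK LD1_c8 LD2_c37 LD3_c24))))
theorem f267523 : Led Lsl_at (LP (LK LD1_c8 LD2_c24 LD3_c24)) = (LP (LK LD1_c8 LD2_c37 LD3_c24)) :=
  Lgr Lrot33 (Lpr_ff (f267516 IH) (Lpr_dt (f267125 IH) (Lpe (f267166 IH) (Lpr_dt (f261317 IH) (Lpe (K12.f201232 IH) (Lpr_dt (K14.f253467 IH) (Lpr_ct (K14.f191893 IH) (Lpr_dt (f191905 IH) (Lpr_ct (f261013 IH) (Lpn (LP (LK LD1_c8 LD2_c37 LD3_c24))))))))))))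
theorem f267529 : Led Lsl_ff (LP (LK LD1_c8 LD2_c24 LD3_c27)) = (LP (LK LD1_c8 LD2_c37 LD3_c24)) :=
  Lgr Lrot30 (Lpe (f267477 IH) (Lpe (f267516 IH) (Lpr_at (f267523 IH) (Lpn (LP (LK LD1_c8 LD2_c37 LD3_c24))))))
theorem f267537 : Led Lsl_gf (LP (LK LD1_c4 LD2_c53 LD3_c20)) = (LP (LK LD1_c8 LD2_c37 LD3_c24)) :=
  Lgr Lrot47 (Lpe (f267164 IH) (Lpr_af (f267477 IH) (Lpr_ff (f267529 IH) (Lpn (LP (LK LD1_c8 LD2_c37 LD3_c24))))))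
theorem f2869 : Led Lsl_dt (LP (LK LD1_c4 LD2_c53 LD3_c20)) = (LP (LK LD1_c2 LD2_c24 LD3_c28)) :=
  Lre_d IH (LK LD1_c4 LD2_c53 LD3_c20) (LK LD1_c2 LD2_c24 LD3_c28) Lrfl Lrfl
theorem f267541 : Led Lsl_gt (LP (LK LD1_c4 LD2_c12 LD3_c14)) = (LP (LK LD1_c4 LD2_c19 LD3_c34)) :=
  Lgr Lrot94 (Lpe (f260912 IH) (Lpr_gt (f267192 IH) (Lpe (f267181 IH) (Lpr_gt (f261279 IH) (Lpr_dt (K14.f180071 IH) (Lpe (f2868 IH) (Lpe (f2869 IH) (Lpr_gf (f267537 IH) (Lpe (f260784 IH) (Lpn (LP (LK LD1_c4 LD2_c19 LD3_c34))))))))))))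
theorem f178508 : Led Lsl_bt (LP (LK LD1_c4 LD2_c13 LD3_c0)) = (LP (LK LD1_c2 LD2_c3 LD3_c48)) :=
  Lre_b IH (LK LD1_c4 LD2_c13 LD3_c0) (LK LD1_c2 LD2_c3 LD3_c48) Lrfl Lrfl
theorem f178506 : Led Lsl_gt (LP (LK LD1_c4 LD2_c10 LD3_c16)) = (LP (LK LD1_c2 LD2_c2 LD3_c20)) :=
  Lre_g IH (LK LD1_c4 LD2_c10 LD3_c16) (LK LD1_c2 LD2_c2 LD3_c20) Lrfl Lrfl
theorem f178509 : Led Lsl_cf (LP (LK LD1_c4 LD2_c10 LD3_c16)) = (LP (LK LD1_c4 LD2_c13 LD3_c0)) :=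
  Lgr Lrot160 (Lpr_gt (f178506 IH) (Lpe (K14.f178505 IH) (Lpr_bt (K12.f178500 IH) (Lpr_gt (K9.f178496 IH) (Lpr_ct (K9.f168323 IH) (Lpe (K9.f178498 IH) (Lpe (K9.f166578 IH) (Lpr_bt (K14.f178350 IH) (Lpr_gt (K14.f178507 IH) (Lpe (f178508 IH) (Lpn (LP (LK LD1_c4 LD2_c13 LD3_c0)))))))))))))
theorem f184251 : Led Lsl_et (LP (LK LD1_c2 LD2_c5 LD3_c41)) = (LP (LK LD1_c4 LD2_c16 LD3_c47)) :=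
  Lre_e IH (LK LD1_c2 LD2_c5 LD3_c41) (LK LD1_c4 LD2_c16 LD3_c47) Lrfl Lrfl
theorem f169168 : Led Lsl_et (LP (LK LD1_c2 LD2_c36 LD3_c59)) = (LP (LK LD1_c1 LD2_c15 LD3_c29)) :=
  Lre_e IH (LK LD1_c2 LD2_c36 LD3_c59) (LK LD1_c1 LD2_c15 LD3_c29) Lrfl Lrfl
theorem f184252 : Led Lsl_dt (LP (LK LD1_c4 LD2_c16 LD3_c47)) = (LP (LK LD1_c2 LD2_c36 LD3_c59)) :=
  Lgr Lrot77 (Lpe (f184251 IH) (Lpr_df (K14.f184244 IH) (Lpe (K14.f167821 IH) (Lpe (K12.f169257 IH) (Lpe (f169168 IH) (Lpn (LP (LK LD1_c2 LD2_c36 LD3_c59))))))))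
theorem f184266 : Led Lsl_ft (LP (LK LD1_c8 LD2_c32 LD3_c56)) = (LP (LK LD1_c4 LD2_c16 LD3_c47)) :=
  Lre_f IH (LK LD1_c8 LD2_c32 LD3_c56) (LK LD1_c4 LD2_c16 LD3_c47) Lrfl Lrfl
theorem f169183 : Led Lsl_ft (LP (LK LD1_c2 LD2_c36 LD3_c59)) = (LP (LK LD1_c5 LD2_c20 LD3_c41)) :=
  Lre_f IH (LK LD1_c2 LD2_c36 LD3_c59) (LK LD1_c5 LD2_c20 LD3_c41) Lrfl Lrfl
theorem f184267 : Led Lsl_df (LP (LK LD1_c8 LD2_c32 LD3_c56)) = (LP (LK LD1_c5 LD2_c20 LD3_c41)) :=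
  Lgr Lrot78 (Lpr_ft (f184266 IH) (Lpr_dt (f184252 IH) (Lpr_ft (f169183 IH) (Lpn (LP (LK LD1_c5 LD2_c20 LD3_c41))))))
theorem f184280 : Led Lsl_dt (LP (LK LD1_c8 LD2_c32 LD3_c56)) = (LP (LK LD1_c5 LD2_c20 LD3_c41)) :=
  Lgr Lrot42 (Lpr_df (f184267 IH) (Lpn (LP (LK LD1_c5 LD2_c20 LD3_c41))))
theorem f169167 : Led Lsl_et (LP (LK LD1_c1 LD2_c16 LD3_c6)) = (LP (LK LD1_c2 LD2_c38 LD3_c20)) :=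
  Lre_e IH (LK LD1_c1 LD2_c16 LD3_c6) (LK LD1_c2 LD2_c38 LD3_c20) Lrfl Lrfl
theorem f169169 : Led Lsl_bt (LP (LK LD1_c2 LD2_c38 LD3_c20)) = (LP (LK LD1_c2 LD2_c36 LD3_c59)) :=
  Lgr Lrot119 (Lpe (f169167 IH) (Lpr_bf (K12.f167818 IH) (Lpe (f169168 IH) (Lpn (LP (LK LD1_c2 LD2_c36 LD3_c59))))))
theorem f169182 : Led Lsl_ft (LP (LK LD1_c5 LD2_c23 LD3_c38)) = (LP (LK LD1_c2 LD2_c38 LD3_c20)) :=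
  Lre_f IH (LK LD1_c5 LD2_c23 LD3_c38) (LK LD1_c2 LD2_c38 LD3_c20) Lrfl Lrfl
theorem f169184 : Led Lsl_bf (LP (LK LD1_c5 LD2_c23 LD3_c38)) = (LP (LK LD1_c5 LD2_c20 LD3_c41)) :=
  Lgr Lrot61 (Lpr_ft (f169182 IH) (Lpr_bt (f169169 IH) (Lpr_ft (f169183 IH) (Lpn (LP (LK LD1_c5 LD2_c20 LD3_c41))))))
theorem f169194 : Led Lsl_dt (LP (LK LD1_c5 LD2_c23 LD3_c38)) = (LP (LK LD1_c10 LD2_c37 LD3_c47)) :=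
  Lre_d IH (LK LD1_c5 LD2_c23 LD3_c38) (LK LD1_c10 LD2_c37 LD3_c47) Lrfl Lrfl
theorem f184284 : Led Lsl_bf (LP (LK LD1_c8 LD2_c32 LD3_c56)) = (LP (LK LD1_c10 LD2_c37 LD3_c47)) :=
  Lgr Lrot93 (Lpr_dt (f184280 IH) (Lpe (f169184 IH) (Lpr_dt (f169194 IH) (Lpn (LP (LK LD1_c10 LD2_c37 LD3_c47))))))
theorem f184288 : Led Lsl_ft (LP (LK LD1_c5 LD2_c23 LD3_c37)) = (LP (LK LD1_c10 LD2_c37 LD3_c47)) :=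
  Lre_f IH (LK LD1_c5 LD2_c23 LD3_c37) (LK LD1_c10 LD2_c37 LD3_c47) Lrfl Lrfl
theorem f184289 : Led Lsl_bt (LP (LK LD1_c4 LD2_c16 LD3_c47)) = (LP (LK LD1_c5 LD2_c23 LD3_c37)) :=
  Lgr Lrot35 (Lpe (f184266 IH) (Lpr_bf (f184284 IH) (Lpe (f184288 IH) (Lpn (LP (LK LD1_c5 LD2_c23 LD3_c37))))))
theorem f184292 : Led Lsl_et (LP (LK LD1_c5 LD2_c23 LD3_c37)) = (LP (LK LD1_c2 LD2_c38 LD3_c22)) :=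
  Lre_e IH (LK LD1_c5 LD2_c23 LD3_c37) (LK LD1_c2 LD2_c38 LD3_c22) Lrfl Lrfl
theorem f184293 : Led Lsl_bf (LP (LK LD1_c2 LD2_c5 LD3_c41)) = (LP (LK LD1_c2 LD2_c38 LD3_c22)) :=
  Lgr Lrot96 (Lpr_et (f184251 IH) (Lpr_bt (f184289 IH) (Lpr_et (f184292 IH) (Lpn (LP (LK LD1_c2 LD2_c38 LD3_c22))))))
theorem f178311 : Led Lsl_bt (LP (LK LD1_c0 LD2_c58 LD3_c54)) = (LP (LK LD1_c0 LD2_c26 LD3_c45)) :=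
  Lre_b IH (LK LD1_c0 LD2_c58 LD3_c54) (LK LD1_c0 LD2_c26 LD3_c45) Lrfl Lrfl
theorem f178315 : Led Lsl_gt (LP (LK LD1_c4 LD2_c13 LD3_c7)) = (LP (LK LD1_c2 LD2_c3 LD3_c50)) :=
  Lre_g IH (LK LD1_c4 LD2_c13 LD3_c7) (LK LD1_c2 LD2_c3 LD3_c50) Lrfl Lrfl
theorem f184300 : Led Lsl_cf (LP (LK LD1_c4 LD2_c13 LD3_c7)) = (LP (LK LD1_c2 LD2_c38 LD3_c22)) :=
  Lgr Lrot160 (Lpr_gt (f178315 IH) (Lpe (K14.f178314 IH) (Lpr_bt (f178311 IH) (Lpe (f178307 IH) (Lpr_ct (K14.f166468 IH) (Lpr_gt (K14.f170163 IH) (Lpe (K9.f167761 IH) (Lpr_bt (K12.f170113 IH) (Lpr_gt (K14.f169420 IH) (Lpr_bf (f184293 IH) (Lpn (LP (LK LD1_c2 LD2_c38 LD3_c22)))))))))))))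
theorem f251953 : Led Lsl_gt (LP (LK LD1_c4 LD2_c18 LD3_c39)) = (LP (LK LD1_c4 LD2_c13 LD3_c7)) :=
  Lgr Lrot5 (Lpr_ft (K14.f251935 IH) (Lpr_at (K14.f251942 IH) (Lpe (f178315 IH) (Lpn (LP (LK LD1_c4 LD2_c13 LD3_c7))))))
theorem f258399 : Led Lsl_gt (LP (LK LD1_c4 LD2_c17 LD3_c14)) = (LP (LK LD1_c4 LD2_c10 LD3_c16)) :=
  Lgr Lrot65 (Lpe (K14.f231136 IH) (Lpr_bt (K14.f231043 IH) (Lpr_gf (f258310 IH) (Lpr_bf (f184293 IH) (Lpe (f184300 IH) (Lpe (f251953 IH) (Lpe (K14.f246655 IH) (Lpr_gf (K14.f246680 IH) (Lpe (f178508 IH) (Lpe (f178509 IH) (Lpn (LP (LK LD1_c4 LD2_c10 LD3_c16)))))))))))))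
theorem f267551 : Led Lsl_gf (LP (LK LD1_c2 LD2_c5 LD3_c59)) = (LP (LK LD1_c2 LD2_c2 LD3_c18)) :=
  Lgr Lrot181 (Lpr_ct (K14.f231136 IH) (Lpr_gt (f258399 IH) (Lpr_cf (f178509 IH) (Lpr_bt (f178508 IH) (Lpe (K14.f246680 IH) (Lpr_bf (f267133 IH) (Lpr_ct (f260912 IH) (Lpr_gt (f267541 IH) (Lpr_cf (f260773 IH) (Lpe (f260795 IH) (Lpn (LP (LK LD1_c2 LD2_c2 LD3_c18)))))))))))))
theorem f231140 : Led Lsl_dt (LP (LK LD1_c2 LD2_c5 LD3_c59)) = (LP (LK LD1_c0 LD2_c59 LD3_c61)) :=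
  Lre_d IH (LK LD1_c2 LD2_c5 LD3_c59) (LK LD1_c0 LD2_c59 LD3_c61) Lrfl Lrfl
theorem f219125 : Led Lsl_ff (LP (LK LD1_c0 LD2_c35 LD3_c2)) = (LP (LK LD1_c0 LD2_c58 LD3_c1)) :=
  Lgr Lrot23 (Lpr_ct (K1.f41887 IH) (Lpr_ft (K1.f41263 IH) (Lpr_ct (K12.f219075 IH) (Lpn (LP (LK LD1_c0 LD2_c58 LD3_c1))))))
theorem f42741 : Led Lsl_af (LP (LK LD1_c0 LD2_c35 LD3_c3)) = (LP (LK LD1_c0 LD2_c35 LD3_c2)) :=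
  Lgr Lrot68 (Lpr_ct (K9.f42725 IH) (Lpr_at (K9.f41899 IH) (Lpe (K11.f41893 IH) (Lpn (LP (LK LD1_c0 LD2_c35 LD3_c2))))))
theorem f260985 : Led Lsl_gt (LP (LK LD1_c0 LD2_c59 LD3_c61)) = (LP (LK LD1_c0 LD2_c35 LD3_c3)) :=
  Lgr Lrot46 (Lpr_gf (f260916 IH) (Lpe (f219125 IH) (Lpe (f42741 IH) (Lpn (LP (LK LD1_c0 LD2_c35 LD3_c3))))))
theorem f260888 : Led Lsl_dt (LP (LK LD1_c4 LD2_c51 LD3_c21)) = (LP (LK LD1_c9 LD2_c34 LD3_c47)) :=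
  Lre_d IH (LK LD1_c4 LD2_c51 LD3_c21) (LK LD1_c9 LD2_c34 LD3_c47) Lrfl Lrfl
theorem f267554 : Led Lsl_gf (LP (LK LD1_c5 LD2_c21 LD3_c17)) = (LP (LK LD1_c9 LD2_c34 LD3_c47)) :=
  Lgr Lrot143 (Lpr_dt (K9.f42658 IH) (Lpe (K9.f42650 IH) (Lpe (K9.f41536 IH) (Lpe (f260985 IH) (Lpe (f231140 IH) (Lpr_gf (f267551 IH) (Lpe (f178826 IH) (Lpr_gt (f260886 IH) (Lpr_dt (f260888 IH) (Lpn (LP (LK LD1_c9 LD2_c34 LD3_c47))))))))))))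
theorem f42770 : Led Lsl_ct (LP (LK LD1_c3 LD2_c58 LD3_c25)) = (LP (LK LD1_c1 LD2_c55 LD3_c61)) :=
  Lre_c IH (LK LD1_c3 LD2_c58 LD3_c25) (LK LD1_c1 LD2_c55 LD3_c61) Lrfl Lrfl
theorem f218877 : Led Lsl_gf (LP (LK LD1_c3 LD2_c58 LD3_c25)) = (LP (LK LD1_c5 LD2_c21 LD3_c18)) :=
  Lgr Lrot126 (Lpe (K12.f168005 IH) (Lpr_bt (K12.f167945 IH) (Lpr_gt (K12.f218871 IH) (Lpr_ct (K12.f196833 IH) (Lpr_gt (K12.f217930 IH) (Lpe (K12.f194444 IH) (Lpr_bt (K13.f194441 IH) (Lpr_gt (K12.f194439 IH) (Lpe (K10.f48120 IH) (Lpr_ct (K12.f48068 IH) (Lpn (LP (LK LD1_c5 LD2_c21 LD3_c18)))))))))))))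
theorem f181401 : Led Lsl_ct (LP (LK LD1_c1 LD2_c55 LD3_c56)) = (LP (LK LD1_c3 LD2_c58 LD3_c17)) :=
  Lre_c IH (LK LD1_c1 LD2_c55 LD3_c56) (LK LD1_c3 LD2_c58 LD3_c17) Lrfl Lrfl
theorem f211420 : Led Lsl_dt (LP (LK LD1_c7 LD2_c57 LD3_c59)) = (LP (LK LD1_c3 LD2_c58 LD3_c17)) :=
  Lre_d IH (LK LD1_c7 LD2_c57 LD3_c59) (LK LD1_c3 LD2_c58 LD3_c17) Lrfl Lrfl
theorem f223128 : Led Lsl_gf (LP (LK LD1_c7 LD2_c57 LD3_c59)) = (LP (LK LD1_c10 LD2_c32 LD3_c55)) :=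
  Lgr Lrot143 (Lpr_dt (f211420 IH) (Lpe (f181401 IH) (Lpe (K14.f42730 IH) (Lpe (K9.f42729 IH) (Lpe (K9.f42717 IH) (Lpe (K12.f42732 IH) (Lpe (K12.f218712 IH) (Lpr_gt (K12.f223086 IH) (Lpr_dt (K12.f48065 IH) (Lpn (LP (LK LD1_c10 LD2_c32 LD3_c55))))))))))))
theorem f267560 : Led Lsl_ct (LP (LK LD1_c7 LD2_c57 LD3_c59)) = (LP (LK LD1_c9 LD2_c34 LD3_c47)) :=
  Lgr Lrot152 (Lpr_gf (f223128 IH) (Lpe (K12.f48065 IH) (Lpe (f218877 IH) (Lpr_ct (f42770 IH) (Lpr_gt (K12.f41248 IH) (Lpr_ct (K12.f41233 IH) (Lpe (K12.f42705 IH) (Lpe (K9.f42714 IH) (Lpr_gf (f267554 IH) (Lpn (LP (LK LD1_c9 LD2_c34 LD3_c47))))))))))))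
theorem f223135 : Led Lsl_dt (LP (LK LD1_c3 LD2_c58 LD3_c17)) = (LP (LK LD1_c7 LD2_c57 LD3_c59)) :=
  Lre_d IH (LK LD1_c3 LD2_c58 LD3_c17) (LK LD1_c7 LD2_c57 LD3_c59) Lrfl Lrfl
theorem f229620 : Led Lsl_dt (LP (LK LD1_c9 LD2_c34 LD3_c47)) = (LP (LK LD1_c4 LD2_c51 LD3_c21)) :=
  Lre_d IH (LK LD1_c9 LD2_c34 LD3_c47) (LK LD1_c4 LD2_c51 LD3_c21) Lrfl Lrfl
theorem f267575 : Led Lsl_at (LP (LK LD1_c4 LD2_c51 LD3_c19)) = (LP (LK LD1_c2 LD2_c23 LD3_c30)) :=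
  Lre_a IH (LK LD1_c4 LD2_c51 LD3_c19) (LK LD1_c2 LD2_c23 LD3_c30) Lrfl Lrfl
theorem f267576 : Led Lsl_ft (LP (LK LD1_c3 LD2_c58 LD3_c14)) = (LP (LK LD1_c4 LD2_c51 LD3_c19)) :=
  Lgr Lrot142 (Lpr_dt (K12.f42755 IH) (Lpr_ct (K10.f42760 IH) (Lpr_dt (K14.f42730 IH) (Lpr_ct (f181401 IH) (Lpr_dt (f223135 IH) (Lpr_ct (f267560 IH) (Lpr_dt (f229620 IH) (Lpr_ct (f229621 IH) (Lpe (f267575 IH) (Lpn (LP (LK LD1_c4 LD2_c51 LD3_c19))))))))))))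
theorem f42758 : Led Lsl_dt (LP (LK LD1_c1 LD2_c55 LD3_c55)) = (LP (LK LD1_c3 LD2_c58 LD3_c14)) :=
  Lre_d IH (LK LD1_c1 LD2_c55 LD3_c55) (LK LD1_c3 LD2_c58 LD3_c14) Lrfl Lrfl
theorem f179610 : Led Lsl_gt (LP (LK LD1_c4 LD2_c17 LD3_c23)) = (LP (LK LD1_c2 LD2_c6 LD3_c1)) :=
  Lre_g IH (LK LD1_c4 LD2_c17 LD3_c23) (LK LD1_c2 LD2_c6 LD3_c1) Lrfl Lrfl
theorem f179609 : Led Lsl_bt (LP (LK LD1_c4 LD2_c18 LD3_c42)) = (LP (LK LD1_c2 LD2_c6 LD3_c39)) :=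
  Lre_b IH (LK LD1_c4 LD2_c18 LD3_c42) (LK LD1_c2 LD2_c6 LD3_c39) Lrfl Lrfl
theorem f179611 : Led Lsl_ct (LP (LK LD1_c4 LD2_c18 LD3_c42)) = (LP (LK LD1_c4 LD2_c17 LD3_c23)) :=
  Lgr Lrot64 (Lpr_bt (f179609 IH) (Lpe (K13.f171505 IH) (Lpe (K13.f179601 IH) (Lpr_ct (K13.f171192 IH) (Lpr_gf (K9.f179581 IH) (Lpe (K9.f53387 IH) (Lpe (K9.f179599 IH) (Lpe (K14.f167657 IH) (Lpr_ct (K14.f167658 IH) (Lpe (f179610 IH) (Lpn (LP (LK LD1_c4 LD2_c17 LD3_c23)))))))))))))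
theorem f218082 : Led Lsl_gt (LP (LK LD1_c3 LD2_c58 LD3_c14)) = (LP (LK LD1_c4 LD2_c18 LD3_c42)) :=
  Lgr Lrot9 (Lpe (f42758 IH) (Lpr_gt (K12.f188698 IH) (Lpr_ct (K12.f218077 IH) (Lpr_gt (K11.f201075 IH) (Lpe (K11.f201093 IH) (Lpe (K12.f7815 IH) (Lpe (K12.f179628 IH) (Lpe (f179610 IH) (Lpe (f179611 IH) (Lpn (LP (LK LD1_c4 LD2_c18 LD3_c42))))))))))))
theorem f267585 : Led Lsl_gt (LP (LK LD1_c4 LD2_c18 LD3_c42)) = (LP (LK LD1_c2 LD2_c23 LD3_c30)) :=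
  Lgr Lrot46 (Lpe (f218082 IH) (Lpr_ft (f267576 IH) (Lpr_at (f267575 IH) (Lpn (LP (LK LD1_c2 LD2_c23 LD3_c30))))))
theorem f219296 : Led Lsl_et (LP (LK LD1_c4 LD2_c8 LD3_c56)) = (LP (LK LD1_c2 LD2_c1 LD3_c50)) :=
  Lre_e IH (LK LD1_c4 LD2_c8 LD3_c56) (LK LD1_c2 LD2_c1 LD3_c50) Lrfl Lrfl
theorem f219298 : Led Lsl_df (LP (LK LD1_c4 LD2_c18 LD3_c42)) = (LP (LK LD1_c4 LD2_c8 LD3_c56)) :=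
  Lgr Lrot132 (Lpe (f218082 IH) (Lpe (f42758 IH) (Lpr_gf (K12.f190813 IH) (Lpe (K8.f44551 IH) (Lpe (K1.f44558 IH) (Lpr_gf (K1.f45775 IH) (Lpr_df (K1.f33127 IH) (Lpr_et (K13.f45787 IH) (Lpr_gf (K12.f219284 IH) (Lpe (f219296 IH) (Lpn (LP (LK LD1_c4 LD2_c8 LD3_c56)))))))))))))
theorem f247411 : Led Lsl_ft (LP (LK LD1_c2 LD2_c11 LD3_c12)) = (LP (LK LD1_c1 LD2_c2 LD3_c37)) :=
  Lre_f IH (LK LD1_c2 LD2_c11 LD3_c12) (LK LD1_c1 LD2_c2 LD3_c37) Lrfl Lrfl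
theorem f266822 : Led Lsl_ft (LP (LK LD1_c1 LD2_c0 LD3_c39)) = (LP (LK LD1_c2 LD2_c7 LD3_c16)) :=
  Lre_f IH (LK LD1_c1 LD2_c0 LD3_c39) (LK LD1_c2 LD2_c7 LD3_c16) Lrfl Lrfl
theorem f266945 : Led Lsl_cf (LP (LK LD1_c2 LD2_c11 LD3_c12)) = (LP (LK LD1_c2 LD2_c7 LD3_c16)) :=
  Lgr Lrot108 (Lpr_ft (f247411 IH) (Lpr_ct (f266939 IH) (Lpr_ft (f266822 IH) (Lpn (LP (LK LD1_c2 LD2_c7 LD3_c16))))))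
theorem f199195 : Led Lsl_et (LP (LK LD1_c4 LD2_c4 LD3_c37)) = (LP (LK LD1_c1 LD2_c59 LD3_c18)) :=
  Lre_e IH (LK LD1_c4 LD2_c4 LD3_c37) (LK LD1_c1 LD2_c59 LD3_c18) Lrfl Lrfl
theorem f199196 : Led Lsl_et (LP (LK LD1_c2 LD2_c23 LD3_c24)) = (LP (LK LD1_c4 LD2_c51 LD3_c9)) :=
  Lre_e IH (LK LD1_c2 LD2_c23 LD3_c24) (LK LD1_c4 LD2_c51 LD3_c9) Lrfl Lrfl
theorem f199197 : Led Lsl_df (LP (LK LD1_c4 LD2_c4 LD3_c37)) = (LP (LK LD1_c4 LD2_c51 LD3_c9)) :=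
  Lgr Lrot70 (Lpr_et (f199195 IH) (Lpr_dt (K12.f192823 IH) (Lpr_et (K13.f192828 IH) (Lpr_dt (K13.f199188 IH) (Lpr_et (f199196 IH) (Lpn (LP (LK LD1_c4 LD2_c51 LD3_c9))))))))
theorem f199213 : Led Lsl_ft (LP (LK LD1_c4 LD2_c4 LD3_c37)) = (LP (LK LD1_c8 LD2_c10 LD3_c4)) :=
  Lre_f IH (LK LD1_c4 LD2_c4 LD3_c37) (LK LD1_c8 LD2_c10 LD3_c4) Lrfl Lrfl
theorem f199214 : Led Lsl_ft (LP (LK LD1_c9 LD2_c34 LD3_c20)) = (LP (LK LD1_c4 LD2_c51 LD3_c9)) :=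
  Lre_f IH (LK LD1_c9 LD2_c34 LD3_c20) (LK LD1_c4 LD2_c51 LD3_c9) Lrfl Lrfl
theorem f199215 : Led Lsl_dt (LP (LK LD1_c8 LD2_c10 LD3_c4)) = (LP (LK LD1_c9 LD2_c34 LD3_c20)) :=
  Lgr Lrot60 (Lpe (f199213 IH) (Lpr_df (f199197 IH) (Lpe (f199214 IH) (Lpn (LP (LK LD1_c9 LD2_c34 LD3_c20))))))
theorem f199235 : Led Lsl_df (LP (LK LD1_c8 LD2_c10 LD3_c4)) = (LP (LK LD1_c9 LD2_c34 LD3_c20)) :=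
  Lgr Lrot38 (Lpr_dt (f199215 IH) (Lpn (LP (LK LD1_c9 LD2_c34 LD3_c20))))
theorem f199238 : Led Lsl_bt (LP (LK LD1_c8 LD2_c10 LD3_c4)) = (LP (LK LD1_c4 LD2_c4 LD3_c44)) :=
  Lre_b IH (LK LD1_c8 LD2_c10 LD3_c4) (LK LD1_c4 LD2_c4 LD3_c44) Lrfl Lrfl
theorem f199239 : Led Lsl_dt (LP (LK LD1_c4 LD2_c4 LD3_c44)) = (LP (LK LD1_c8 LD2_c10 LD3_c20)) :=
  Lre_d IH (LK LD1_c4 LD2_c4 LD3_c44) (LK LD1_c8 LD2_c10 LD3_c20) Lrfl Lrfl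
theorem f199240 : Led Lsl_bt (LP (LK LD1_c8 LD2_c10 LD3_c20)) = (LP (LK LD1_c9 LD2_c34 LD3_c20)) :=
  Lgr Lrot95 (Lpe (f199239 IH) (Lpe (f199238 IH) (Lpr_df (f199235 IH) (Lpn (LP (LK LD1_c9 LD2_c34 LD3_c20))))))
theorem f199245 : Led Lsl_ft (LP (LK LD1_c4 LD2_c4 LD3_c43)) = (LP (LK LD1_c8 LD2_c10 LD3_c20)) :=
  Lre_f IH (LK LD1_c4 LD2_c4 LD3_c43) (LK LD1_c8 LD2_c10 LD3_c20) Lrfl Lrfl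
theorem f199246 : Led Lsl_bf (LP (LK LD1_c4 LD2_c4 LD3_c43)) = (LP (LK LD1_c4 LD2_c51 LD3_c9)) :=
  Lgr Lrot61 (Lpr_ft (f199245 IH) (Lpr_bt (f199240 IH) (Lpr_ft (f199214 IH) (Lpn (LP (LK LD1_c4 LD2_c51 LD3_c9))))))
theorem f199257 : Led Lsl_et (LP (LK LD1_c4 LD2_c4 LD3_c43)) = (LP (LK LD1_c1 LD2_c59 LD3_c23)) :=
  Lre_e IH (LK LD1_c4 LD2_c4 LD3_c43) (LK LD1_c1 LD2_c59 LD3_c23) Lrfl Lrfl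
theorem f199258 : Led Lsl_bt (LP (LK LD1_c1 LD2_c59 LD3_c23)) = (LP (LK LD1_c2 LD2_c23 LD3_c24)) :=
  Lgr Lrot119 (Lpe (f199257 IH) (Lpr_bf (f199246 IH) (Lpe (f199196 IH) (Lpn (LP (LK LD1_c2 LD2_c23 LD3_c24))))))
theorem f236918 : Led Lsl_ct (LP (LK LD1_c3 LD2_c56 LD3_c58)) = (LP (LK LD1_c4 LD2_c56 LD3_c45)) :=
  Lgr Lrot59 (Lpr_cf (K13.f236894 IH) (Lpn (LP (LK LD1_c4 LD2_c56 LD3_c45))))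
theorem f236936 : Led Lsl_gt (LP (LK LD1_c1 LD2_c55 LD3_c15)) = (LP (LK LD1_c3 LD2_c56 LD3_c58)) :=
  Lgr Lrot9 (Lpe (K12.f42880 IH) (Lpr_gt (K10.f28799 IH) (Lpr_ct (K9.f42722 IH) (Lpr_gt (K10.f28518 IH) (Lpr_ct (K10.f43094 IH) (Lpe (K12.f196318 IH) (Lpe (K13.f196325 IH) (Lpr_gf (K13.f236921 IH) (Lpe (f236918 IH) (Lpn (LP (LK LD1_c3 LD2_c56 LD3_c58))))))))))))
theorem f51600 : Led Lsl_ct (LP (LK LD1_c2 LD2_c5 LD3_c4)) = (LP (LK LD1_c4 LD2_c15 LD3_c24)) :=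
  Lre_c IH (LK LD1_c2 LD2_c5 LD3_c4) (LK LD1_c4 LD2_c15 LD3_c24) Lrfl Lrfl
theorem f190839 : Led Lsl_ct (LP (LK LD1_c4 LD2_c9 LD3_c5)) = (LP (LK LD1_c8 LD2_c18 LD3_c13)) :=
  Lre_c IH (LK LD1_c4 LD2_c9 LD3_c5) (LK LD1_c8 LD2_c18 LD3_c13) Lrfl Lrfl
theorem f190840 : Led Lsl_gt (LP (LK LD1_c8 LD2_c18 LD3_c13)) = (LP (LK LD1_c4 LD2_c15 LD3_c24)) :=
  Lgr Lrot150 (Lpe (f190839 IH) (Lpr_gf (f190830 IH) (Lpe (K12.f188589 IH) (Lpe (K10.f188592 IH) (Lpr_ct (K10.f187239 IH) (Lpr_gt (K10.f167754 IH) (Lpr_ct (K10.f187226 IH) (Lpe (K13.f1326 IH) (Lpe (K13.f187240 IH) (Lpn (LP (LK LD1_c4 LD2_c15 LD3_c24))))))))))))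
theorem f188633 : Led Lsl_bt (LP (LK LD1_c3 LD2_c58 LD3_c14)) = (LP (LK LD1_c4 LD2_c13 LD3_c58)) :=
  Lgr Lrot127 (Lpr_bf (K12.f188590 IH) (Lpn (LP (LK LD1_c4 LD2_c13 LD3_c58))))
theorem f188635 : Led Lsl_ct (LP (LK LD1_c3 LD2_c58 LD3_c14)) = (LP (LK LD1_c7 LD2_c57 LD3_c51)) :=
  Lre_c IH (LK LD1_c3 LD2_c58 LD3_c14) (LK LD1_c7 LD2_c57 LD3_c51) Lrfl Lrfl
theorem f167252 : Led Lsl_bt (LP (LK LD1_c0 LD2_c57 LD3_c59)) = (LP (LK LD1_c2 LD2_c1 LD3_c60)) :=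
  Lre_b IH (LK LD1_c0 LD2_c57 LD3_c59) (LK LD1_c2 LD2_c1 LD3_c60) Lrfl Lrfl
theorem f233264 : Led Lsl_gf (LP (LK LD1_c4 LD2_c50 LD3_c30)) = (LP (LK LD1_c2 LD2_c23 LD3_c40)) :=
  Lgr Lrot124 (Lpr_bf (K12.f53812 IH) (Lpe (K12.f222805 IH) (Lpr_gt (K12.f222743 IH) (Lpe (K12.f167240 IH) (Lpr_bt (f167252 IH) (Lpr_gt (K13.f233258 IH) (Lpr_ct (K11.f200061 IH) (Lpr_gt (K13.f232902 IH) (Lpe (K13.f29812 IH) (Lpr_bt (K13.f232898 IH) (Lpn (LP (LK LD1_c2 LD2_c23 LD3_c40)))))))))))))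
theorem f2113 : Led Lsl_ct (LP (LK LD1_c4 LD2_c51 LD3_c40)) = (LP (LK LD1_c2 LD2_c23 LD3_c40)) :=
  Lre_c IH (LK LD1_c4 LD2_c51 LD3_c40) (LK LD1_c2 LD2_c23 LD3_c40) Lrfl Lrfl
theorem f42663 : Led Lsl_gt (LP (LK LD1_c5 LD2_c21 LD3_c17)) = (LP (LK LD1_c10 LD2_c32 LD3_c51)) :=
  Lre_g IH (LK LD1_c5 LD2_c21 LD3_c17) (LK LD1_c10 LD2_c32 LD3_c51) Lrfl Lrfl
theorem f233269 : Led Lsl_df (LP (LK LD1_c7 LD2_c57 LD3_c51)) = (LP (LK LD1_c10 LD2_c32 LD3_c51)) :=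
  Lgr Lrot84 (Lpe (f188635 IH) (Lpe (f42758 IH) (Lpr_gf (K12.f190813 IH) (Lpe (K10.f48028 IH) (Lpr_gf (f233264 IH) (Lpe (f2113 IH) (Lpr_gt (K13.f219774 IH) (Lpr_dt (K9.f42662 IH) (Lpr_gt (f42663 IH) (Lpn (LP (LK LD1_c10 LD2_c32 LD3_c51))))))))))))
theorem f233276 : Led Lsl_dt (LP (LK LD1_c7 LD2_c57 LD3_c51)) = (LP (LK LD1_c10 LD2_c32 LD3_c51)) :=
  Lgr Lrot42 (Lpr_df (f233269 IH) (Lpn (LP (LK LD1_c10 LD2_c32 LD3_c51))))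
theorem f41921 : Led Lsl_ct (LP (LK LD1_c7 LD2_c58 LD3_c38)) = (LP (LK LD1_c3 LD2_c58 LD3_c33)) :=
  Lre_c IH (LK LD1_c7 LD2_c58 LD3_c38) (LK LD1_c3 LD2_c58 LD3_c33) Lrfl Lrfl
theorem f41922 : Led Lsl_ft (LP (LK LD1_c5 LD2_c21 LD3_c14)) = (LP (LK LD1_c7 LD2_c58 LD3_c38)) :=
  Lgr Lrot4 (Lpr_cf (K9.f41902 IH) (Lpe (K9.f41920 IH) (Lpe (f41921 IH) (Lpn (LP (LK LD1_c7 LD2_c58 LD3_c38))))))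
theorem f219156 : Led Lsl_dt (LP (LK LD1_c7 LD2_c58 LD3_c38)) = (LP (LK LD1_c4 LD2_c9 LD3_c60)) :=
  Lgr Lrot60 (Lpe (f41922 IH) (Lpe (K11.f41925 IH) (Lpr_ff (K12.f219142 IH) (Lpn (LP (LK LD1_c4 LD2_c9 LD3_c60))))))
theorem f219257 : Led Lsl_af (LP (LK LD1_c7 LD2_c58 LD3_c38)) = (LP (LK LD1_c8 LD2_c33 LD3_c36)) :=
  Lgr Lrot117 (Lpr_dt (f219156 IH) (Lpe (K13.f219133 IH) (Lpr_dt (K11.f199771 IH) (Lpn (LP (LK LD1_c8 LD2_c33 LD3_c36))))))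
theorem f42815 : Led Lsl_ft (LP (LK LD1_c19 LD2_c6 LD3_c9)) = (LP (LK LD1_c15 LD2_c1 LD3_c10)) :=
  Lgr Lrot48 (Lpr_ff (K12.f42801 IH) (Lpn (LP (LK LD1_c15 LD2_c1 LD3_c10))))
theorem f42826 : Led Lsl_bt (LP (LK LD1_c15 LD2_c1 LD3_c10)) = (LP (LK LD1_c7 LD2_c57 LD3_c46)) :=
  Lre_b IH (LK LD1_c15 LD2_c1 LD3_c10) (LK LD1_c7 LD2_c57 LD3_c46) Lrfl Lrfl
theorem f42827 : Led Lsl_ff (LP (LK LD1_c10 LD2_c32 LD3_c52)) = (LP (LK LD1_c7 LD2_c57 LD3_c46)) :=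
  Lgr Lrot25 (Lpr_bt (K12.f42702 IH) (Lpr_ft (f42815 IH) (Lpr_bt (f42826 IH) (Lpn (LP (LK LD1_c7 LD2_c57 LD3_c46))))))
theorem f199782 : Led Lsl_ft (LP (LK LD1_c5 LD2_c21 LD3_c17)) = (LP (LK LD1_c8 LD2_c33 LD3_c36)) :=
  Lgr Lrot4 (Lpe (K9.f42697 IH) (Lpr_ff (f42827 IH) (Lpr_cf (K11.f199772 IH) (Lpn (LP (LK LD1_c8 LD2_c33 LD3_c36))))))
theorem f219267 : Led Lsl_gf (LP (LK LD1_c7 LD2_c58 LD3_c38)) = (LP (LK LD1_c10 LD2_c32 LD3_c51)) :=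
  Lgr Lrot76 (Lpr_af (f219257 IH) (Lpe (f199782 IH) (Lpr_gt (f42663 IH) (Lpn (LP (LK LD1_c10 LD2_c32 LD3_c51))))))
theorem f170696 : Led Lsl_gt (LP (LK LD1_c2 LD2_c2 LD3_c19)) = (LP (LK LD1_c0 LD2_c58 LD3_c4)) :=
  Lre_g IH (LK LD1_c2 LD2_c2 LD3_c19) (LK LD1_c0 LD2_c58 LD3_c4) Lrfl Lrfl
theorem f219261 : Led Lsl_ct (LP (LK LD1_c4 LD2_c10 LD3_c13)) = (LP (LK LD1_c2 LD2_c2 LD3_c19)) :=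
  Lre_c IH (LK LD1_c4 LD2_c10 LD3_c13) (LK LD1_c2 LD2_c2 LD3_c19) Lrfl Lrfl
theorem f233291 : Led Lsl_gf (LP (LK LD1_c7 LD2_c57 LD3_c51)) = (LP (LK LD1_c4 LD2_c10 LD3_c13)) :=
  Lgr Lrot144 (Lpr_dt (f233276 IH) (Lpe (f219267 IH) (Lpr_dt (f219156 IH) (Lpe (K12.f170851 IH) (Lpe (K12.f170850 IH) (Lpe (K12.f170616 IH) (Lpe (K9.f170695 IH) (Lpe (f170696 IH) (Lpe (f219261 IH) (Lpn (LP (LK LD1_c4 LD2_c10 LD3_c13))))))))))))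
theorem f219262 : Led Lsl_ct (LP (LK LD1_c2 LD2_c2 LD3_c19)) = (LP (LK LD1_c4 LD2_c10 LD3_c13)) :=
  Lre_c IH (LK LD1_c2 LD2_c2 LD3_c19) (LK LD1_c4 LD2_c10 LD3_c13) Lrfl Lrfl
theorem f236940 : Led Lsl_bt (LP (LK LD1_c2 LD2_c2 LD3_c19)) = (LP (LK LD1_c3 LD2_c56 LD3_c58)) :=
  Lgr Lrot92 (Lpr_ct (f219262 IH) (Lpe (f233291 IH) (Lpe (f188635 IH) (Lpr_bt (f188633 IH) (Lpe (f190830 IH) (Lpr_ct (f190839 IH) (Lpr_gt (f190840 IH) (Lpe (f51600 IH) (Lpe (K13.f197629 IH) (Lpr_gt (f236936 IH) (Lpn (LP (LK LD1_c3 LD2_c56 LD3_c58)))))))))))))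
theorem f246813 : Led Lsl_gf (LP (LK LD1_c4 LD2_c10 LD3_c13)) = (LP (LK LD1_c4 LD2_c51 LD3_c21)) :=
  Lgr Lrot126 (Lpe (f219262 IH) (Lpr_bt (f236940 IH) (Lpr_gt (K13.f229466 IH) (Lpr_ct (K12.f42737 IH) (Lpe (K13.f238756 IH) (Lpe (K12.f197444 IH) (Lpr_bt (f199258 IH) (Lpr_gt (K14.f246786 IH) (Lpe (f246812 IH) (Lpr_ct (f229619 IH) (Lpn (LP (LK LD1_c4 LD2_c51 LD3_c21)))))))))))))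
theorem f267591 : Led Lsl_df (LP (LK LD1_c2 LD2_c11 LD3_c12)) = (LP (LK LD1_c2 LD2_c2 LD3_c19)) :=
  Lgr Lrot162 (Lpr_cf (f266945 IH) (Lpe (K14.f253581 IH) (Lpe (K13.f219195 IH) (Lpr_gf (f257935 IH) (Lpe (f219298 IH) (Lpr_gt (f267585 IH) (Lpr_ct (f229619 IH) (Lpe (f246813 IH) (Lpr_ct (f219261 IH) (Lpn (LP (LK LD1_c2 LD2_c2 LD3_c19))))))))))))
theorem f231137 : Led Lsl_dt (LP (LK LD1_c0 LD2_c59 LD3_c61)) = (LP (LK LD1_c2 LD2_c5 LD3_c59)) :=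
  Lre_d IH (LK LD1_c0 LD2_c59 LD3_c61) (LK LD1_c2 LD2_c5 LD3_c59) Lrfl Lrfl
theorem f267613 : Led Lsl_gt (LP (LK LD1_c2 LD2_c5 LD3_c59)) = (LP (LK LD1_c2 LD2_c2 LD3_c19)) :=
  Lgr Lrot189 (Lpe (f231137 IH) (Lpr_gf (f260916 IH) (Lpe (K12.f219119 IH) (Lpr_gt (K12.f41372 IH) (Lpr_dt (K12.f41374 IH) (Lpr_gt (K12.f227988 IH) (Lpr_dt (K14.f253532 IH) (Lpe (f266945 IH) (Lpr_df (f267591 IH) (Lpn (LP (LK LD1_c2 LD2_c2 LD3_c19))))))))))))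
theorem f267622 : Led Lsl_bf (LP (LK LD1_c2 LD2_c5 LD3_c59)) = (LP (LK LD1_c2 LD2_c2 LD3_c35)) :=
  Lgr Lrot165 (Lpr_gt (f267613 IH) (Lpr_ct (f219262 IH) (Lpe (f233291 IH) (Lpe (f188635 IH) (Lpr_bt (f188633 IH) (Lpe (f190830 IH) (Lpe (K14.f229578 IH) (Lpr_ct (K14.f251788 IH) (Lpe (K14.f252066 IH) (Lpe (K14.f251890 IH) (Lpn (LP (LK LD1_c2 LD2_c2 LD3_c35)))))))))))))
theorem f260992 : Led Lsl_et (LP (LK LD1_c2 LD2_c5 LD3_c59)) = (LP (LK LD1_c4 LD2_c17 LD3_c15)) :=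
  Lre_e IH (LK LD1_c2 LD2_c5 LD3_c59) (LK LD1_c4 LD2_c17 LD3_c15) Lrfl Lrfl
theorem f251895 : Led Lsl_et (LP (LK LD1_c4 LD2_c10 LD3_c40)) = (LP (LK LD1_c2 LD2_c2 LD3_c35)) :=
  Lre_e IH (LK LD1_c4 LD2_c10 LD3_c40) (LK LD1_c2 LD2_c2 LD3_c35) Lrfl Lrfl
theorem f267629 : Led Lsl_bt (LP (LK LD1_c4 LD2_c17 LD3_c15)) = (LP (LK LD1_c4 LD2_c10 LD3_c40)) :=
  Lgr Lrot119 (Lpe (f260992 IH) (Lpr_bf (f267622 IH) (Lpe (f251895 IH) (Lpn (LP (LK LD1_c4 LD2_c10 LD3_c40))))))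
theorem f7797 : Led Lsl_at (LP (LK LD1_c2 LD2_c6 LD3_c2)) = (LP (LK LD1_c4 LD2_c17 LD3_c15)) :=
  Lre_a IH (LK LD1_c2 LD2_c6 LD3_c2) (LK LD1_c4 LD2_c17 LD3_c15) Lrfl Lrfl
theorem f7739 : Led Lsl_bt (LP (LK LD1_c1 LD2_c0 LD3_c3)) = (LP (LK LD1_c2 LD2_c6 LD3_c2)) :=
  Lre_b IH (LK LD1_c1 LD2_c0 LD3_c3) (LK LD1_c2 LD2_c6 LD3_c2) Lrfl Lrfl
theorem f267631 : Led Lsl_at (LP (LK LD1_c4 LD2_c10 LD3_c40)) = (LP (LK LD1_c2 LD2_c2 LD3_c39)) :=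
  Lre_a IH (LK LD1_c4 LD2_c10 LD3_c40) (LK LD1_c2 LD2_c2 LD3_c39) Lrfl Lrfl
theorem f179091 : Led Lsl_bt (LP (LK LD1_c2 LD2_c2 LD3_c39)) = (LP (LK LD1_c0 LD2_c58 LD3_c16)) :=
  Lre_b IH (LK LD1_c2 LD2_c2 LD3_c39) (LK LD1_c0 LD2_c58 LD3_c16) Lrfl Lrfl
theorem f267632 : Led Lsl_af (LP (LK LD1_c1 LD2_c0 LD3_c3)) = (LP (LK LD1_c0 LD2_c58 LD3_c16)) :=
  Lgr Lrot36 (Lpr_bt (f7739 IH) (Lpr_at (f7797 IH) (Lpr_bt (f267629 IH) (Lpr_at (f267631 IH) (Lpr_bt (f179091 IH) (Lpn (LP (LK LD1_c0 LD2_c58 LD3_c16))))))))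
theorem f231023 : Led Lsl_ft (LP (LK LD1_c2 LD2_c2 LD3_c46)) = (LP (LK LD1_c0 LD2_c58 LD3_c16)) :=
  Lre_f IH (LK LD1_c2 LD2_c2 LD3_c46) (LK LD1_c0 LD2_c58 LD3_c16) Lrfl Lrfl
theorem f267648 : Led Lsl_gf (LP (LK LD1_c2 LD2_c5 LD3_c52)) = (LP (LK LD1_c2 LD2_c2 LD3_c46)) :=
  Lgr Lrot47 (Lpe (K13.f245894 IH) (Lpr_af (f267632 IH) (Lpe (f231023 IH) (Lpn (LP (LK LD1_c2 LD2_c2 LD3_c46))))))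
theorem f8527 : Led Lsl_et (LP (LK LD1_c1 LD2_c25 LD3_c28)) = (LP (LK LD1_c0 LD2_c39 LD3_c22)) :=
  Lre_e IH (LK LD1_c1 LD2_c25 LD3_c28) (LK LD1_c0 LD2_c39 LD3_c22) Lrfl Lrfl
theorem f7610 : Led Lsl_gt (LP (LK LD1_c1 LD2_c18 LD3_c8)) = (LP (LK LD1_c0 LD2_c36 LD3_c1)) :=
  Lre_g IH (LK LD1_c1 LD2_c18 LD3_c8) (LK LD1_c0 LD2_c36 LD3_c1) Lrfl Lrfl
theorem f8594 : Led Lsl_gt (LP (LK LD1_c1 LD2_c25 LD3_c28)) = (LP (LK LD1_c1 LD2_c18 LD3_c8)) :=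
  Lgr Lrot5 (Lpr_ft (K0.f8570 IH) (Lpr_at (K0.f7590 IH) (Lpe (f7610 IH) (Lpn (LP (LK LD1_c1 LD2_c18 LD3_c8))))))
theorem f7611 : Led Lsl_dt (LP (LK LD1_c2 LD2_c43 LD3_c29)) = (LP (LK LD1_c1 LD2_c18 LD3_c8)) :=
  Lre_d IH (LK LD1_c2 LD2_c43 LD3_c29) (LK LD1_c1 LD2_c18 LD3_c8) Lrfl Lrfl
theorem f7762 : Led Lsl_gt (LP (LK LD1_c1 LD2_c16 LD3_c60)) = (LP (LK LD1_c2 LD2_c40 LD3_c35)) :=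
  Lre_g IH (LK LD1_c1 LD2_c16 LD3_c60) (LK LD1_c2 LD2_c40 LD3_c35) Lrfl Lrfl
theorem f181800 : Led Lsl_ef (LP (LK LD1_c2 LD2_c40 LD3_c35)) = (LP (LK LD1_c2 LD2_c43 LD3_c29)) :=
  Lgr Lrot17 (Lpe (f7762 IH) (Lpe (K12.f7727 IH) (Lpe (K0.f7723 IH) (Lpe (K9.f181206 IH) (Lpr_df (K9.f181218 IH) (Lpe (K9.f7633 IH) (Lpe (K9.f7597 IH) (Lpe (K0.f7587 IH) (Lpe (f7610 IH) (Lpe (f7611 IH) (Lpn (LP (LK LD1_c2 LD2_c43 LD3_c29)))))))))))))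
theorem f267656 : Led Lsl_dt (LP (LK LD1_c4 LD2_c10 LD3_c61)) = (LP (LK LD1_c2 LD2_c2 LD3_c46)) :=
  Lre_d IH (LK LD1_c4 LD2_c10 LD3_c61) (LK LD1_c2 LD2_c2 LD3_c46) Lrfl Lrfl
theorem f267664 : Led Lsl_gt (LP (LK LD1_c2 LD2_c40 LD3_c35)) = (LP (LK LD1_c4 LD2_c10 LD3_c61)) :=
  Lgr Lrot137 (Lpr_ef (f181800 IH) (Lpr_dt (f7611 IH) (Lpe (f8594 IH) (Lpe (K0.f8616 IH) (Lpr_et (f8527 IH) (Lpr_gf (K9.f8505 IH) (Lpe (K13.f8525 IH) (Lpr_dt (K13.f245899 IH) (Lpr_gf (f267648 IH) (Lpe (f267656 IH) (Lpn (LP (LK LD1_c4 LD2_c10 LD3_c61)))))))))))))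
theorem f7754 : Led Lsl_ft (LP (LK LD1_c1 LD2_c16 LD3_c60)) = (LP (LK LD1_c2 LD2_c40 LD3_c37)) :=
  Lre_f IH (LK LD1_c1 LD2_c16 LD3_c60) (LK LD1_c2 LD2_c40 LD3_c37) Lrfl Lrfl
theorem f267666 : Led Lsl_at (LP (LK LD1_c2 LD2_c40 LD3_c37)) = (LP (LK LD1_c4 LD2_c10 LD3_c61)) :=
  Lgr Lrot26 (Lpe (f7754 IH) (Lpr_gt (f7762 IH) (Lpr_gt (f267664 IH) (Lpn (LP (LK LD1_c4 LD2_c10 LD3_c61))))))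
theorem f267677 : Led Lsl_ft (LP (LK LD1_c4 LD2_c10 LD3_c61)) = (LP (LK LD1_c2 LD2_c2 LD3_c45)) :=
  Lre_f IH (LK LD1_c4 LD2_c10 LD3_c61) (LK LD1_c2 LD2_c2 LD3_c45) Lrfl Lrfl
theorem f267678 : Led Lsl_af (LP (LK LD1_c1 LD2_c16 LD3_c60)) = (LP (LK LD1_c2 LD2_c2 LD3_c45)) :=
  Lgr Lrot45 (Lpr_ft (f7754 IH) (Lpr_at (f267666 IH) (Lpr_ft (f267677 IH) (Lpn (LP (LK LD1_c2 LD2_c2 LD3_c45))))))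
theorem f178864 : Led Lsl_et (LP (LK LD1_c0 LD2_c58 LD3_c17)) = (LP (LK LD1_c2 LD2_c2 LD3_c45)) :=
  Lre_e IH (LK LD1_c0 LD2_c58 LD3_c17) (LK LD1_c2 LD2_c2 LD3_c45) Lrfl Lrfl
theorem f267682 : Led Lsl_at (LP (LK LD1_c0 LD2_c35 LD3_c36)) = (LP (LK LD1_c0 LD2_c58 LD3_c17)) :=
  Lgr Lrot80 (Lpe (K13.f7766 IH) (Lpr_af (f267678 IH) (Lpe (f178864 IH) (Lpn (LP (LK LD1_c0 LD2_c58 LD3_c17))))))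
theorem f267703 : Led Lsl_ff (LP (LK LD1_c0 LD2_c35 LD3_c36)) = (LP (LK LD1_c1 LD2_c2 LD3_c44)) :=
  Lgr Lrot52 (Lpr_at (f267682 IH) (Lpr_gf (K9.f183304 IH) (Lpe (K12.f173184 IH) (Lpn (LP (LK LD1_c1 LD2_c2 LD3_c44))))))
theorem f267707 : Led Lsl_ft (LP (LK LD1_c0 LD2_c35 LD3_c36)) = (LP (LK LD1_c1 LD2_c2 LD3_c44)) :=
  Lgr Lrot48 (Lpr_ff (f267703 IH) (Lpn (LP (LK LD1_c1 LD2_c2 LD3_c44))))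
theorem f179299 : Led Lsl_dt (LP (LK LD1_c1 LD2_c16 LD3_c61)) = (LP (LK LD1_c2 LD2_c40 LD3_c39)) :=
  Lre_d IH (LK LD1_c1 LD2_c16 LD3_c61) (LK LD1_c2 LD2_c40 LD3_c39) Lrfl Lrfl
theorem f180282 : Led Lsl_ct (LP (LK LD1_c1 LD2_c18 LD3_c38)) = (LP (LK LD1_c2 LD2_c40 LD3_c39)) :=
  Lgr Lrot7 (Lpe (K9.f164733 IH) (Lpr_gf (K10.f180278 IH) (Lpr_df (K9.f172427 IH) (Lpe (K9.f172426 IH) (Lpe (K9.f171852 IH) (Lpr_gt (K9.f168230 IH) (Lpr_dt (K9.f179182 IH) (Lpe (K12.f179189 IH) (Lpr_dt (f179299 IH) (Lpn (LP (LK LD1_c2 LD2_c40 LD3_c39))))))))))))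
theorem f179312 : Led Lsl_dt (LP (LK LD1_c2 LD2_c40 LD3_c39)) = (LP (LK LD1_c1 LD2_c16 LD3_c61)) :=
  Lre_d IH (LK LD1_c2 LD2_c40 LD3_c39) (LK LD1_c1 LD2_c16 LD3_c61) Lrfl Lrfl
theorem f267711 : Led Lsl_af (LP (LK LD1_c0 LD2_c35 LD3_c37)) = (LP (LK LD1_c1 LD2_c2 LD3_c44)) :=
  Lgr Lrot109 (Lpe (K12.f172408 IH) (Lpe (f179312 IH) (Lpe (f180282 IH) (Lpe (K9.f164733 IH) (Lpe (K9.f164745 IH) (Lpe (K0.f3069 IH) (Lpe (K9.f7882 IH) (Lpr_df (K0.f7723 IH) (Lpr_ft (f267707 IH) (Lpn (LP (LK LD1_c1 LD2_c2 LD3_c44))))))))))))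
theorem f267724 : Led Lsl_gf (LP (LK LD1_c0 LD2_c35 LD3_c37)) = (LP (LK LD1_c0 LD2_c15 LD3_c60)) :=
  Lgr Lrot76 (Lpr_af (f267711 IH) (Lpe (f267707 IH) (Lpe (K9.f179116 IH) (Lpn (LP (LK LD1_c0 LD2_c15 LD3_c60))))))
theorem f164175 : Led Lsl_ef (LP (LK LD1_c0 LD2_c31 LD3_c60)) = (LP (LK LD1_c0 LD2_c14 LD3_c59)) :=
  Lgr Lrot28 (Lpr_ct (K9.f3086 IH) (Lpr_et (K9.f164172 IH) (Lpr_ct (K9.f3140 IH) (Lpn (LP (LK LD1_c0 LD2_c14 LD3_c59))))))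
theorem f178983 : Led Lsl_dt (LP (LK LD1_c0 LD2_c58 LD3_c9)) = (LP (LK LD1_c1 LD2_c12 LD3_c1)) :=
  Lgr Lrot6 (Lpr_gt (K9.f170660 IH) (Lpr_ct (K10.f170651 IH) (Lpr_gt (K9.f178979 IH) (Lpr_ct (K9.f177192 IH) (Lpe (K10.f177368 IH) (Lpe (K9.f165286 IH) (Lpr_gf (K9.f177309 IH) (Lpe (K9.f166246 IH) (Lpe (K10.f164692 IH) (Lpn (LP (LK LD1_c1 LD2_c12 LD3_c1))))))))))))
theorem f53190 : Led Lsl_bt (LP (LK LD1_c0 LD2_c26 LD3_c37)) = (LP (LK LD1_c0 LD2_c58 LD3_c41)) :=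
  Lre_b IH (LK LD1_c0 LD2_c26 LD3_c37) (LK LD1_c0 LD2_c58 LD3_c41) Lrfl Lrfl
theorem f256472 : Led Lsl_gt (LP (LK LD1_c0 LD2_c59 LD3_c59)) = (LP (LK LD1_c0 LD2_c58 LD3_c9)) :=
  Lgr Lrot82 (Lpe (K14.f169433 IH) (Lpe (K14.f230322 IH) (Lpe (f255926 IH) (Lpe (f231819 IH) (Lpr_bt (f256453 IH) (Lpe (f53191 IH) (Lpe (f53190 IH) (Lpr_ct (K12.f53184 IH) (Lpe (K9.f53204 IH) (Lpe (K14.f178524 IH) (Lpn (LP (LK LD1_c0 LD2_c58 LD3_c9)))))))))))))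
theorem f228901 : Led Lsl_bt (LP (LK LD1_c2 LD2_c2 LD3_c41)) = (LP (LK LD1_c0 LD2_c58 LD3_c18)) :=
  Lre_b IH (LK LD1_c2 LD2_c2 LD3_c41) (LK LD1_c0 LD2_c58 LD3_c18) Lrfl Lrfl
theorem f169430 : Led Lsl_bt (LP (LK LD1_c0 LD2_c59 LD3_c59)) = (LP (LK LD1_c2 LD2_c5 LD3_c47)) :=
  Lre_b IH (LK LD1_c0 LD2_c59 LD3_c59) (LK LD1_c2 LD2_c5 LD3_c47) Lrfl Lrfl
theorem f250424 : Led Lsl_et (LP (LK LD1_c0 LD2_c58 LD3_c18)) = (LP (LK LD1_c0 LD2_c59 LD3_c59)) :=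
  Lgr Lrot74 (Lpe (f228901 IH) (Lpr_ef (K14.f250422 IH) (Lpe (f169430 IH) (Lpn (LP (LK LD1_c0 LD2_c59 LD3_c59))))))
theorem f267745 : Led Lsl_df (LP (LK LD1_c0 LD2_c35 LD3_c37)) = (LP (LK LD1_c0 LD2_c58 LD3_c18)) :=
  Lgr Lrot168 (Lpr_gf (f267724 IH) (Lpe (K9.f168293 IH) (Lpr_et (K9.f168334 IH) (Lpe (K11.f179100 IH) (Lpr_ef (f164175 IH) (Lpr_dt (K9.f165191 IH) (Lpe (K10.f164692 IH) (Lpe (f178983 IH) (Lpe (f256472 IH) (Lpe (f250424 IH) (Lpn (LP (LK LD1_c0 LD2_c58 LD3_c18)))))))))))))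
theorem f183301 : Led Lsl_ft (LP (LK LD1_c0 LD2_c58 LD3_c18)) = (LP (LK LD1_c0 LD2_c26 LD3_c27)) :=
  Lre_f IH (LK LD1_c0 LD2_c58 LD3_c18) (LK LD1_c0 LD2_c26 LD3_c27) Lrfl Lrfl
theorem f20691 : Led Lsl_ft (LP (LK LD1_c0 LD2_c14 LD3_c4)) = (LP (LK LD1_c0 LD2_c31 LD3_c42)) :=
  Lre_f IH (LK LD1_c0 LD2_c14 LD3_c4) (LK LD1_c0 LD2_c31 LD3_c42) Lrfl Lrfl
theorem f183302 : Led Lsl_cf (LP (LK LD1_c0 LD2_c58 LD3_c18)) = (LP (LK LD1_c0 LD2_c31 LD3_c42)) :=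
  Lgr Lrot108 (Lpr_ft (f183301 IH) (Lpr_ct (K9.f183256 IH) (Lpr_ft (f20691 IH) (Lpn (LP (LK LD1_c0 LD2_c31 LD3_c42))))))
theorem f267757 : Led Lsl_gt (LP (LK LD1_c0 LD2_c29 LD3_c0)) = (LP (LK LD1_c0 LD2_c31 LD3_c42)) :=
  Lgr Lrot150 (Lpr_cf (K9.f181873 IH) (Lpe (K9.f178299 IH) (Lpr_df (K12.f178168 IH) (Lpe (K9.f177920 IH) (Lpr_ct (K9.f171860 IH) (Lpe (K12.f179189 IH) (Lpr_ct (K12.f172408 IH) (Lpr_df (f267745 IH) (Lpr_cf (f183302 IH) (Lpn (LP (LK LD1_c0 LD2_c31 LD3_c42))))))))))))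
theorem f253544 : Led Lsl_gt (LP (LK LD1_c0 LD2_c58 LD3_c58)) = (LP (LK LD1_c1 LD2_c0 LD3_c43)) :=
  Lgr Lrot49 (Lpe (K13.f181877 IH) (Lpe (K9.f3105 IH) (Lpe (K1.f40994 IH) (Lpr_gt (K9.f172861 IH) (Lpr_dt (K12.f173036 IH) (Lpr_gt (K12.f173037 IH) (Lpe (K12.f178885 IH) (Lpe (K12.f177863 IH) (Lpr_df (K14.f253528 IH) (Lpn (LP (LK LD1_c1 LD2_c0 LD3_c43))))))))))))
theorem f267761 : Led Lsl_df (LP (LK LD1_c0 LD2_c16 LD3_c8)) = (LP (LK LD1_c0 LD2_c31 LD3_c42)) :=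
  Lgr Lrot153 (Lpr_gt (K12.f164307 IH) (Lpr_dt (K9.f24442 IH) (Lpe (K9.f172319 IH) (Lpe (K9.f172320 IH) (Lpe (K12.f177852 IH) (Lpr_df (K14.f253528 IH) (Lpe (f253544 IH) (Lpe (K9.f181794 IH) (Lpr_gt (f267757 IH) (Lpn (LP (LK LD1_c0 LD2_c31 LD3_c42))))))))))))
theorem f7733 : Led Lsl_dt (LP (LK LD1_c2 LD2_c40 LD3_c33)) = (LP (LK LD1_c1 LD2_c16 LD3_c59)) :=
  Lre_d IH (LK LD1_c2 LD2_c40 LD3_c33) (LK LD1_c1 LD2_c16 LD3_c59) Lrfl Lrfl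
theorem f174741 : Led Lsl_dt (LP (LK LD1_c1 LD2_c2 LD3_c61)) = (LP (LK LD1_c2 LD2_c12 LD3_c8)) :=
  Lre_d IH (LK LD1_c1 LD2_c2 LD3_c61) (LK LD1_c2 LD2_c12 LD3_c8) Lrfl Lrfl
theorem f181792 : Led Lsl_gf (LP (LK LD1_c2 LD2_c40 LD3_c33)) = (LP (LK LD1_c2 LD2_c12 LD3_c8)) :=
  Lgr Lrot143 (Lpr_dt (f7733 IH) (Lpe (f7721 IH) (Lpe (K0.f7715 IH) (Lpe (K9.f181206 IH) (Lpr_df (K9.f181218 IH) (Lpe (K9.f7633 IH) (Lpe (K9.f42261 IH) (Lpr_gt (K12.f165013 IH) (Lpr_dt (f174741 IH) (Lpn (LP (LK LD1_c2 LD2_c12 LD3_c8))))))))))))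
theorem f20630 : Led Lsl_dt (LP (LK LD1_c0 LD2_c29 LD3_c2)) = (LP (LK LD1_c1 LD2_c3 LD3_c35)) :=
  Lre_d IH (LK LD1_c0 LD2_c29 LD3_c2) (LK LD1_c1 LD2_c3 LD3_c35) Lrfl Lrfl
theorem f9236 : Led Lsl_gt (LP (LK LD1_c2 LD2_c12 LD3_c16)) = (LP (LK LD1_c1 LD2_c3 LD3_c1)) :=
  Lre_g IH (LK LD1_c2 LD2_c12 LD3_c16) (LK LD1_c1 LD2_c3 LD3_c1) Lrfl Lrfl
theorem f165038 : Led Lsl_dt (LP (LK LD1_c1 LD2_c2 LD3_c60)) = (LP (LK LD1_c2 LD2_c12 LD3_c5)) :=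
  Lre_d IH (LK LD1_c1 LD2_c2 LD3_c60) (LK LD1_c2 LD2_c12 LD3_c5) Lrfl Lrfl
theorem f225170 : Led Lsl_ct (LP (LK LD1_c1 LD2_c3 LD3_c35)) = (LP (LK LD1_c2 LD2_c12 LD3_c5)) :=
  Lgr Lrot7 (Lpe (f20630 IH) (Lpe (K9.f174744 IH) (Lpe (K1.f40841 IH) (Lpe (K12.f211776 IH) (Lpr_cf (K12.f225160 IH) (Lpr_gt (f9236 IH) (Lpr_dt (K9.f168797 IH) (Lpr_gt (K9.f165037 IH) (Lpr_dt (f165038 IH) (Lpn (LP (LK LD1_c2 LD2_c12 LD3_c5))))))))))))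
theorem f165000 : Led Lsl_dt (LP (LK LD1_c0 LD2_c28 LD3_c61)) = (LP (LK LD1_c1 LD2_c3 LD3_c30)) :=
  Lre_d IH (LK LD1_c0 LD2_c28 LD3_c61) (LK LD1_c1 LD2_c3 LD3_c30) Lrfl Lrfl
theorem f180399 : Led Lsl_dt (LP (LK LD1_c2 LD2_c12 LD3_c8)) = (LP (LK LD1_c1 LD2_c2 LD3_c61)) :=
  Lre_d IH (LK LD1_c2 LD2_c12 LD3_c8) (LK LD1_c1 LD2_c2 LD3_c61) Lrfl Lrfl
theorem f225183 : Led Lsl_ct (LP (LK LD1_c1 LD2_c3 LD3_c30)) = (LP (LK LD1_c2 LD2_c12 LD3_c8)) :=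
  Lgr Lrot176 (Lpe (f165000 IH) (Lpe (K9.f29625 IH) (Lpe (K9.f20222 IH) (Lpr_cf (K9.f181873 IH) (Lpe (K13.f181877 IH) (Lpr_cf (K9.f167911 IH) (Lpe (K12.f167918 IH) (Lpe (f225170 IH) (Lpe (f20630 IH) (Lpe (K9.f20629 IH) (Lpr_df (K9.f20627 IH) (Lpe (K9.f20631 IH) (Lpe (K9.f168824 IH) (Lpr_cf (K12.f225172 IH) (Lpe (f180399 IH) (Lpn (LP (LK LD1_c2 LD2_c12 LD3_c8))))))))))))))))))
theorem f164713 : Led Lsl_dt (LP (LK LD1_c1 LD2_c3 LD3_c30)) = (LP (LK LD1_c0 LD2_c28 LD3_c61)) :=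
  Lre_d IH (LK LD1_c1 LD2_c3 LD3_c30) (LK LD1_c0 LD2_c28 LD3_c61) Lrfl Lrfl
theorem f164714 : Led Lsl_gt (LP (LK LD1_c1 LD2_c18 LD3_c42)) = (LP (LK LD1_c1 LD2_c3 LD3_c30)) :=
  Lgr Lrot49 (Lpe (K12.f164711 IH) (Lpe (K9.f164710 IH) (Lpe (K9.f164709 IH) (Lpr_gt (K0.f3070 IH) (Lpr_dt (K0.f7881 IH) (Lpr_gt (K9.f164705 IH) (Lpr_dt (K9.f20222 IH) (Lpe (K9.f164712 IH) (Lpe (f164713 IH) (Lpn (LP (LK LD1_c1 LD2_c3 LD3_c30))))))))))))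
theorem f226693 : Led Lsl_gf (LP (LK LD1_c0 LD2_c16 LD3_c8)) = (LP (LK LD1_c0 LD2_c7 LD3_c19)) :=
  Lgr Lrot104 (Lpr_ct (K12.f172676 IH) (Lpe (K12.f172675 IH) (Lpr_cf (K12.f226556 IH) (Lpr_gf (f181792 IH) (Lpe (f225183 IH) (Lpe (f164714 IH) (Lpe (K12.f164711 IH) (Lpe (K9.f171864 IH) (Lpr_ct (K9.f165213 IH) (Lpn (LP (LK LD1_c0 LD2_c7 LD3_c19))))))))))))
theorem f167624 : Led Lsl_ft (LP (LK LD1_c0 LD2_c59 LD3_c59)) = (LP (LK LD1_c0 LD2_c27 LD3_c15)) :=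
  Lre_f IH (LK LD1_c0 LD2_c59 LD3_c59) (LK LD1_c0 LD2_c27 LD3_c15) Lrfl Lrfl
theorem f21255 : Led Lsl_ft (LP (LK LD1_c0 LD2_c14 LD3_c15)) = (LP (LK LD1_c0 LD2_c31 LD3_c59)) :=
  Lre_f IH (LK LD1_c0 LD2_c14 LD3_c15) (LK LD1_c0 LD2_c31 LD3_c59) Lrfl Lrfl
theorem f169428 : Led Lsl_cf (LP (LK LD1_c0 LD2_c59 LD3_c59)) = (LP (LK LD1_c0 LD2_c31 LD3_c59)) :=
  Lgr Lrot108 (Lpr_ft (f167624 IH) (Lpr_ct (K10.f169425 IH) (Lpr_ft (f21255 IH) (Lpn (LP (LK LD1_c0 LD2_c31 LD3_c59))))))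
theorem f169431 : Led Lsl_ct (LP (LK LD1_c0 LD2_c59 LD3_c59)) = (LP (LK LD1_c0 LD2_c31 LD3_c59)) :=
  Lgr Lrot59 (Lpr_cf (f169428 IH) (Lpn (LP (LK LD1_c0 LD2_c31 LD3_c59))))
theorem f251285 : Led Lsl_gt (LP (LK LD1_c0 LD2_c31 LD3_c59)) = (LP (LK LD1_c0 LD2_c31 LD3_c39)) :=
  Lgr Lrot149 (Lpe (f169431 IH) (Lpe (K14.f250014 IH) (Lpe (K9.f169445 IH) (Lpr_ct (K9.f169565 IH) (Lpr_gf (K14.f251277 IH) (Lpe (K13.f187215 IH) (Lpr_bt (K10.f187178 IH) (Lpr_gf (f213487 IH) (Lpe (K14.f171229 IH) (Lpr_ct (K10.f171224 IH) (Lpn (LP (LK LD1_c0 LD2_c31 LD3_c39)))))))))))))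
theorem f267773 : Led Lsl_ef (LP (LK LD1_c0 LD2_c31 LD3_c59)) = (LP (LK LD1_c0 LD2_c31 LD3_c42)) :=
  Lgr Lrot114 (Lpr_gt (f251285 IH) (Lpe (K9.f9489 IH) (Lpr_dt (K9.f9485 IH) (Lpr_gt (K9.f9456 IH) (Lpe (K0.f9444 IH) (Lpr_et (K0.f9445 IH) (Lpr_gt (K9.f9486 IH) (Lpr_dt (K9.f9490 IH) (Lpe (f226693 IH) (Lpr_df (f267761 IH) (Lpn (LP (LK LD1_c0 LD2_c31 LD3_c42)))))))))))))
theorem f267787 : Led Lsl_gf (LP (LK LD1_c0 LD2_c31 LD3_c59)) = (LP (LK LD1_c0 LD2_c17 LD3_c44)) :=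
  Lgr Lrot141 (Lpr_ef (f267773 IH) (Lpe (f267761 IH) (Lpr_gt (K12.f164307 IH) (Lpe (K0.f3071 IH) (Lpr_et (K0.f3072 IH) (Lpe (K11.f185052 IH) (Lpr_dt (K10.f20496 IH) (Lpe (K9.f181129 IH) (Lpe (K9.f9081 IH) (Lpr_et (K9.f164308 IH) (Lpn (LP (LK LD1_c0 LD2_c17 LD3_c44)))))))))))))
theorem f185760 : Led Lsl_cf (LP (LK LD1_c2 LD2_c32 LD3_c39)) = (LP (LK LD1_c1 LD2_c13 LD3_c48)) :=
  Lgr Lrot14 (Lpe (K10.f163790 IH) (Lpe (K10.f163788 IH) (Lpr_df (K8.f163916 IH) (Lpr_gf (K10.f164635 IH) (Lpr_ct (K10.f185165 IH) (Lpe (K10.f185153 IH) (Lpr_dt (K9.f35185 IH) (Lpr_gt (K10.f185750 IH) (Lpr_dt (K10.f185753 IH) (Lpn (LP (LK LD1_c1 LD2_c13 LD3_c48))))))))))))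
theorem f185825 : Led Lsl_gt (LP (LK LD1_c2 LD2_c30 LD3_c12)) = (LP (LK LD1_c1 LD2_c13 LD3_c48)) :=
  Lgr Lrot9 (Lpe (K11.f164753 IH) (Lpr_gt (K9.f177757 IH) (Lpr_ct (K9.f22123 IH) (Lpe (K9.f165845 IH) (Lpr_ct (K9.f163700 IH) (Lpe (K9.f164098 IH) (Lpe (K9.f177311 IH) (Lpr_gf (K10.f185818 IH) (Lpr_cf (f185760 IH) (Lpn (LP (LK LD1_c1 LD2_c13 LD3_c48))))))))))))
theorem f175537 : Led Lsl_et (LP (LK LD1_c0 LD2_c29 LD3_c5)) = (LP (LK LD1_c1 LD2_c3 LD3_c44)) :=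
  Lre_e IH (LK LD1_c0 LD2_c29 LD3_c5) (LK LD1_c1 LD2_c3 LD3_c44) Lrfl Lrfl
theorem f185780 : Led Lsl_et (LP (LK LD1_c0 LD2_c34 LD3_c11)) = (LP (LK LD1_c1 LD2_c13 LD3_c49)) :=
  Lre_e IH (LK LD1_c0 LD2_c34 LD3_c11) (LK LD1_c1 LD2_c13 LD3_c49) Lrfl Lrfl
theorem f185832 : Led Lsl_gf (LP (LK LD1_c1 LD2_c3 LD3_c44)) = (LP (LK LD1_c1 LD2_c13 LD3_c49)) :=
  Lgr Lrot141 (Lpe (f175537 IH) (Lpr_dt (K9.f20810 IH) (Lpe (K9.f177162 IH) (Lpe (K9.f164733 IH) (Lpr_et (K9.f164739 IH) (Lpr_gt (K9.f164693 IH) (Lpr_dt (K11.f164753 IH) (Lpr_gt (f185825 IH) (Lpe (K10.f185753 IH) (Lpr_et (f185780 IH) (Lpn (LP (LK LD1_c1 LD2_c13 LD3_c49)))))))))))))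
theorem f177691 : Led Lsl_et (LP (LK LD1_c1 LD2_c4 LD3_c4)) = (LP (LK LD1_c2 LD2_c14 LD3_c5)) :=
  Lre_e IH (LK LD1_c1 LD2_c4 LD3_c4) (LK LD1_c2 LD2_c14 LD3_c5) Lrfl Lrfl
theorem f26796 : Led Lsl_dt (LP (LK LD1_c1 LD2_c4 LD3_c4)) = (LP (LK LD1_c2 LD2_c14 LD3_c4)) :=
  Lre_d IH (LK LD1_c1 LD2_c4 LD3_c4) (LK LD1_c2 LD2_c14 LD3_c4) Lrfl Lrfl
theorem f177759 : Led Lsl_gf (LP (LK LD1_c2 LD2_c14 LD3_c4)) = (LP (LK LD1_c2 LD2_c13 LD3_c22)) :=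
  Lgr Lrot145 (Lpe (f26796 IH) (Lpr_et (f177691 IH) (Lpe (K10.f177753 IH) (Lpr_dt (K9.f177744 IH) (Lpr_gt (K9.f26684 IH) (Lpe (K9.f23957 IH) (Lpr_et (K9.f23959 IH) (Lpr_gt (K9.f20809 IH) (Lpe (K10.f26793 IH) (Lpr_dt (K10.f26794 IH) (Lpn (LP (LK LD1_c2 LD2_c13 LD3_c22)))))))))))))
theorem f26677 : Led Lsl_dt (LP (LK LD1_c2 LD2_c14 LD3_c4)) = (LP (LK LD1_c1 LD2_c4 LD3_c4)) :=
  Lre_d IH (LK LD1_c2 LD2_c14 LD3_c4) (LK LD1_c1 LD2_c4 LD3_c4) Lrfl Lrfl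
theorem f185834 : Led Lsl_gf (LP (LK LD1_c0 LD2_c29 LD3_c3)) = (LP (LK LD1_c0 LD2_c34 LD3_c12)) :=
  Lgr Lrot144 (Lpr_dt (K9.f20638 IH) (Lpr_gt (K9.f26674 IH) (Lpr_dt (K9.f26622 IH) (Lpe (K12.f26676 IH) (Lpe (f26677 IH) (Lpr_gf (f177759 IH) (Lpe (K10.f26794 IH) (Lpr_gf (f185832 IH) (Lpe (K13.f185776 IH) (Lpn (LP (LK LD1_c0 LD2_c34 LD3_c12))))))))))))
theorem f185838 : Led Lsl_et (LP (LK LD1_c0 LD2_c15 LD3_c21)) = (LP (LK LD1_c0 LD2_c34 LD3_c12)) :=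
  Lre_e IH (LK LD1_c0 LD2_c15 LD3_c21) (LK LD1_c0 LD2_c34 LD3_c12) Lrfl Lrfl
theorem f267797 : Led Lsl_df (LP (LK LD1_c0 LD2_c31 LD3_c59)) = (LP (LK LD1_c0 LD2_c15 LD3_c21)) :=
  Lgr Lrot168 (Lpr_gf (f267787 IH) (Lpe (K9.f177171 IH) (Lpr_et (K9.f177173 IH) (Lpr_gf (K9.f26681 IH) (Lpe (K9.f26657 IH) (Lpr_dt (K9.f26631 IH) (Lpe (K9.f26674 IH) (Lpe (K9.f20638 IH) (Lpr_gf (f185834 IH) (Lpe (f185838 IH) (Lpn (LP (LK LD1_c0 LD2_c15 LD3_c21)))))))))))))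
theorem f185752 : Led Lsl_dt (LP (LK LD1_c1 LD2_c13 LD3_c48)) = (LP (LK LD1_c0 LD2_c34 LD3_c11)) :=
  Lre_d IH (LK LD1_c1 LD2_c13 LD3_c48) (LK LD1_c0 LD2_c34 LD3_c11) Lrfl Lrfl
theorem f186602 : Led Lsl_ct (LP (LK LD1_c0 LD2_c34 LD3_c47)) = (LP (LK LD1_c1 LD2_c13 LD3_c16)) :=
  Lgr Lrot59 (Lpr_cf (K10.f186576 IH) (Lpn (LP (LK LD1_c1 LD2_c13 LD3_c16))))
theorem f267803 : Led Lsl_af (LP (LK LD1_c0 LD2_c59 LD3_c59)) = (LP (LK LD1_c0 LD2_c58 LD3_c10)) :=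
  Lgr Lrot109 (Lpr_cf (f169428 IH) (Lpr_df (f267797 IH) (Lpe (K10.f163742 IH) (Lpe (f185752 IH) (Lpe (K10.f185758 IH) (Lpe (K10.f163790 IH) (Lpe (f186602 IH) (Lpe (K9.f178530 IH) (Lpr_ft (K9.f170653 IH) (Lpn (LP (LK LD1_c0 LD2_c58 LD3_c10))))))))))))
theorem f267807 : Led Lsl_at (LP (LK LD1_c0 LD2_c27 LD3_c15)) = (LP (LK LD1_c0 LD2_c26 LD3_c24)) :=
  Lgr Lrot66 (Lpe (f167624 IH) (Lpr_af (f267803 IH) (Lpe (K9.f170653 IH) (Lpn (LP (LK LD1_c0 LD2_c26 LD3_c24))))))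
theorem f267811 : Led Lsl_af (LP (LK LD1_c0 LD2_c34 LD3_c32)) = (LP (LK LD1_c0 LD2_c34 LD3_c47)) :=
  Lgr Lrot117 (Lpe (K10.f167618 IH) (Lpr_at (f267807 IH) (Lpr_dt (K9.f178530 IH) (Lpn (LP (LK LD1_c0 LD2_c34 LD3_c47))))))
theorem f267819 : Led Lsl_ft (LP (LK LD1_c0 LD2_c34 LD3_c31)) = (LP (LK LD1_c0 LD2_c34 LD3_c47)) :=
  Lgr Lrot2 (Lpe (K9.f32807 IH) (Lpr_gt (K9.f32853 IH) (Lpr_af (f267811 IH) (Lpn (LP (LK LD1_c0 LD2_c34 LD3_c47))))))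
theorem f267827 : Led Lsl_ff (LP (LK LD1_c0 LD2_c34 LD3_c31)) = (LP (LK LD1_c0 LD2_c34 LD3_c47)) :=
  Lgr Lrot3 (Lpr_ft (f267819 IH) (Lpn (LP (LK LD1_c0 LD2_c34 LD3_c47))))
theorem f267833 : Led Lsl_at (LP (LK LD1_c0 LD2_c34 LD3_c31)) = (LP (LK LD1_c0 LD2_c34 LD3_c46)) :=
  Lgr Lrot26 (Lpr_ff (f267827 IH) (Lpr_gt (K9.f32065 IH) (Lpr_gt (K10.f32885 IH) (Lpn (LP (LK LD1_c0 LD2_c34 LD3_c46))))))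
theorem f267813 : Led Lsl_at (LP (LK LD1_c0 LD2_c34 LD3_c32)) = (LP (LK LD1_c0 LD2_c34 LD3_c47)) :=
  Lgr Lrot100 (Lpr_af (f267811 IH) (Lpn (LP (LK LD1_c0 LD2_c34 LD3_c47))))
theorem f267841 : Led Lsl_ff (LP (LK LD1_c0 LD2_c34 LD3_c32)) = (LP (LK LD1_c0 LD2_c34 LD3_c46)) :=
  Lgr Lrot30 (Lpr_at (f267813 IH) (Lpe (f267827 IH) (Lpr_at (f267833 IH) (Lpn (LP (LK LD1_c0 LD2_c34 LD3_c46))))))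
theorem f165942 : Led Lsl_ft (LP (LK LD1_c1 LD2_c14 LD3_c30)) = (LP (LK LD1_c2 LD2_c35 LD3_c2)) :=
  Lre_f IH (LK LD1_c1 LD2_c14 LD3_c30) (LK LD1_c2 LD2_c35 LD3_c2) Lrfl Lrfl
theorem f32894 : Led Lsl_et (LP (LK LD1_c1 LD2_c14 LD3_c58)) = (LP (LK LD1_c0 LD2_c34 LD3_c46)) :=
  Lre_e IH (LK LD1_c1 LD2_c14 LD3_c58) (LK LD1_c0 LD2_c34 LD3_c46) Lrfl Lrfl
theorem f185439 : Led Lsl_ft (LP (LK LD1_c2 LD2_c35 LD3_c54)) = (LP (LK LD1_c1 LD2_c14 LD3_c58)) :=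
  Lre_f IH (LK LD1_c2 LD2_c35 LD3_c54) (LK LD1_c1 LD2_c14 LD3_c58) Lrfl Lrfl
theorem f267845 : Led Lsl_et (LP (LK LD1_c2 LD2_c35 LD3_c2)) = (LP (LK LD1_c2 LD2_c35 LD3_c54)) :=
  Lgr Lrot69 (Lpe (f165942 IH) (Lpe (K10.f166066 IH) (Lpr_ff (f267841 IH) (Lpe (f32894 IH) (Lpe (f185439 IH) (Lpn (LP (LK LD1_c2 LD2_c35 LD3_c54))))))))
theorem f267853 : Led Lsl_ef (LP (LK LD1_c2 LD2_c35 LD3_c2)) = (LP (LK LD1_c2 LD2_c35 LD3_c54)) :=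
  Lgr Lrot88 (Lpr_et (f267845 IH) (Lpn (LP (LK LD1_c2 LD2_c35 LD3_c54))))
theorem f32859 : Led Lsl_et (LP (LK LD1_c1 LD2_c14 LD3_c30)) = (LP (LK LD1_c0 LD2_c34 LD3_c32)) :=
  Lre_e IH (LK LD1_c1 LD2_c14 LD3_c30) (LK LD1_c0 LD2_c34 LD3_c32) Lrfl Lrfl
theorem f165887 : Led Lsl_et (LP (LK LD1_c1 LD2_c11 LD3_c51)) = (LP (LK LD1_c2 LD2_c29 LD3_c34)) :=
  Lre_e IH (LK LD1_c1 LD2_c11 LD3_c51) (LK LD1_c2 LD2_c29 LD3_c34) Lrfl Lrfl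
theorem f165888 : Led Lsl_cf (LP (LK LD1_c1 LD2_c14 LD3_c30)) = (LP (LK LD1_c2 LD2_c29 LD3_c34)) :=
  Lgr Lrot39 (Lpr_et (f32859 IH) (Lpr_ct (K9.f165872 IH) (Lpr_et (f165887 IH) (Lpn (LP (LK LD1_c2 LD2_c29 LD3_c34))))))
theorem f165943 : Led Lsl_ft (LP (LK LD1_c5 LD2_c4 LD3_c20)) = (LP (LK LD1_c2 LD2_c29 LD3_c34)) :=
  Lre_f IH (LK LD1_c5 LD2_c4 LD3_c20) (LK LD1_c2 LD2_c29 LD3_c34) Lrfl Lrfl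
theorem f165944 : Led Lsl_ct (LP (LK LD1_c2 LD2_c35 LD3_c2)) = (LP (LK LD1_c5 LD2_c4 LD3_c20)) :=
  Lgr Lrot40 (Lpe (f165942 IH) (Lpr_cf (f165888 IH) (Lpe (f165943 IH) (Lpn (LP (LK LD1_c5 LD2_c4 LD3_c20))))))
theorem f21998 : Led Lsl_et (LP (LK LD1_c2 LD2_c32 LD3_c37)) = (LP (LK LD1_c1 LD2_c13 LD3_c15)) :=
  Lre_e IH (LK LD1_c2 LD2_c32 LD3_c37) (LK LD1_c1 LD2_c13 LD3_c15) Lrfl Lrfl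
theorem f185189 : Led Lsl_et (LP (LK LD1_c0 LD2_c34 LD3_c46)) = (LP (LK LD1_c1 LD2_c14 LD3_c58)) :=
  Lre_e IH (LK LD1_c0 LD2_c34 LD3_c46) (LK LD1_c1 LD2_c14 LD3_c58) Lrfl Lrfl
theorem f185190 : Led Lsl_cf (LP (LK LD1_c2 LD2_c32 LD3_c37)) = (LP (LK LD1_c1 LD2_c14 LD3_c58)) :=
  Lgr Lrot39 (Lpr_et (f21998 IH) (Lpr_ct (K10.f185181 IH) (Lpr_et (f185189 IH) (Lpn (LP (LK LD1_c1 LD2_c14 LD3_c58))))))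
theorem f185438 : Led Lsl_ft (LP (LK LD1_c2 LD2_c32 LD3_c37)) = (LP (LK LD1_c5 LD2_c11 LD3_c18)) :=
  Lre_f IH (LK LD1_c2 LD2_c32 LD3_c37) (LK LD1_c5 LD2_c11 LD3_c18) Lrfl Lrfl
theorem f185440 : Led Lsl_ct (LP (LK LD1_c5 LD2_c11 LD3_c18)) = (LP (LK LD1_c2 LD2_c35 LD3_c54)) :=
  Lgr Lrot40 (Lpe (f185438 IH) (Lpr_cf (f185190 IH) (Lpe (f185439 IH) (Lpn (LP (LK LD1_c2 LD2_c35 LD3_c54))))))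
theorem f267857 : Led Lsl_et (LP (LK LD1_c5 LD2_c4 LD3_c20)) = (LP (LK LD1_c5 LD2_c11 LD3_c18)) :=
  Lgr Lrot158 (Lpe (f165944 IH) (Lpr_ef (f267853 IH) (Lpe (f185440 IH) (Lpn (LP (LK LD1_c5 LD2_c11 LD3_c18))))))
theorem f165969 : Led Lsl_ft (LP (LK LD1_c2 LD2_c29 LD3_c34)) = (LP (LK LD1_c5 LD2_c4 LD3_c20)) :=
  Lre_f IH (LK LD1_c2 LD2_c29 LD3_c34) (LK LD1_c5 LD2_c4 LD3_c20) Lrfl Lrfl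
theorem f185471 : Led Lsl_ft (LP (LK LD1_c5 LD2_c11 LD3_c18)) = (LP (LK LD1_c2 LD2_c32 LD3_c37)) :=
  Lre_f IH (LK LD1_c5 LD2_c11 LD3_c18) (LK LD1_c2 LD2_c32 LD3_c37) Lrfl Lrfl
theorem f267900 : Led Lsl_ff (LP (LK LD1_c1 LD2_c11 LD3_c51)) = (LP (LK LD1_c1 LD2_c13 LD3_c15)) :=
  Lgr Lrot72 (Lpr_et (f165887 IH) (Lpr_ft (f165969 IH) (Lpr_et (f267857 IH) (Lpr_ft (f185471 IH) (Lpr_et (f21998 IH) (Lpn (LP (LK LD1_c1 LD2_c13 LD3_c15))))))))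
theorem f267906 : Led Lsl_ft (LP (LK LD1_c2 LD2_c29 LD3_c33)) = (LP (LK LD1_c2 LD2_c32 LD3_c36)) :=
  Lgr Lrot54 (Lpe (K10.f165407 IH) (Lpr_ff (f267900 IH) (Lpe (K14.f163770 IH) (Lpn (LP (LK LD1_c2 LD2_c32 LD3_c36))))))
theorem f250189 : Led Lsl_cf (LP (LK LD1_c2 LD2_c30 LD3_c54)) = (LP (LK LD1_c5 LD2_c4 LD3_c8)) :=
  Lgr Lrot14 (Lpr_df (K14.f250182 IH) (Lpr_gf (K14.f186574 IH) (Lpr_df (K10.f180637 IH) (Lpe (K10.f180661 IH) (Lpr_ct (K10.f163724 IH) (Lpr_gt (K10.f21388 IH) (Lpe (K10.f186606 IH) (Lpr_gt (K10.f186784 IH) (Lpe (K14.f250057 IH) (Lpn (LP (LK LD1_c5 LD2_c4 LD3_c8))))))))))))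
theorem f186168 : Led Lsl_df (LP (LK LD1_c1 LD2_c13 LD3_c28)) = (LP (LK LD1_c2 LD2_c30 LD3_c44)) :=
  Lgr Lrot84 (Lpr_cf (K10.f185147 IH) (Lpe (K9.f28337 IH) (Lpr_gf (K10.f185839 IH) (Lpe (K9.f31450 IH) (Lpe (K9.f31679 IH) (Lpe (K2.f34920 IH) (Lpr_gt (K10.f166160 IH) (Lpr_dt (K10.f21248 IH) (Lpr_gt (K14.f186166 IH) (Lpn (LP (LK LD1_c2 LD2_c30 LD3_c44))))))))))))
theorem f169770 : Led Lsl_cf (LP (LK LD1_c2 LD2_c29 LD3_c33)) = (LP (LK LD1_c1 LD2_c12 LD3_c22)) :=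
  Lgr Lrot14 (Lpe (K10.f165407 IH) (Lpr_gf (K9.f165405 IH) (Lpe (K9.f163652 IH) (Lpe (K9.f165420 IH) (Lpe (K9.f169678 IH) (Lpr_gt (K9.f169748 IH) (Lpr_dt (K2.f71507 IH) (Lpe (K9.f166367 IH) (Lpr_dt (K10.f166372 IH) (Lpn (LP (LK LD1_c1 LD2_c12 LD3_c22))))))))))))
theorem f250191 : Led Lsl_gf (LP (LK LD1_c5 LD2_c4 LD3_c8)) = (LP (LK LD1_c2 LD2_c29 LD3_c33)) :=
  Lgr Lrot104 (Lpe (f250189 IH) (Lpr_df (K14.f250182 IH) (Lpe (K9.f165499 IH) (Lpr_gf (K9.f181104 IH) (Lpe (K10.f20481 IH) (Lpe (K10.f185149 IH) (Lpr_df (f186168 IH) (Lpr_gt (K14.f166403 IH) (Lpe (f169770 IH) (Lpn (LP (LK LD1_c2 LD2_c29 LD3_c33))))))))))))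
theorem f267914 : Led Lsl_af (LP (LK LD1_c2 LD2_c29 LD3_c30)) = (LP (LK LD1_c2 LD2_c32 LD3_c36)) :=
  Lgr Lrot31 (Lpe (K14.f165445 IH) (Lpr_gf (f250191 IH) (Lpr_ft (f267906 IH) (Lpn (LP (LK LD1_c2 LD2_c32 LD3_c36))))))
theorem f165453 : Led Lsl_et (LP (LK LD1_c2 LD2_c29 LD3_c30)) = (LP (LK LD1_c5 LD2_c4 LD3_c9)) :=
  Lre_e IH (LK LD1_c2 LD2_c29 LD3_c30) (LK LD1_c5 LD2_c4 LD3_c9) Lrfl Lrfl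
theorem f186540 : Led Lsl_et (LP (LK LD1_c5 LD2_c11 LD3_c16)) = (LP (LK LD1_c2 LD2_c32 LD3_c36)) :=
  Lre_e IH (LK LD1_c5 LD2_c11 LD3_c16) (LK LD1_c2 LD2_c32 LD3_c36) Lrfl Lrfl
theorem f267920 : Led Lsl_at (LP (LK LD1_c5 LD2_c4 LD3_c9)) = (LP (LK LD1_c5 LD2_c11 LD3_c16)) :=
  Lgr Lrot80 (Lpe (f165453 IH) (Lpr_af (f267914 IH) (Lpe (f186540 IH) (Lpn (LP (LK LD1_c5 LD2_c11 LD3_c16))))))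
theorem f166262 : Led Lsl_dt (LP (LK LD1_c9 LD2_c59 LD3_c10)) = (LP (LK LD1_c5 LD2_c4 LD3_c9)) :=
  Lre_d IH (LK LD1_c9 LD2_c59 LD3_c10) (LK LD1_c5 LD2_c4 LD3_c9) Lrfl Lrfl
theorem f186549 : Led Lsl_dt (LP (LK LD1_c5 LD2_c11 LD3_c16)) = (LP (LK LD1_c10 LD2_c13 LD3_c7)) :=
  Lre_d IH (LK LD1_c5 LD2_c11 LD3_c16) (LK LD1_c10 LD2_c13 LD3_c7) Lrfl Lrfl
theorem f267926 : Led Lsl_af (LP (LK LD1_c9 LD2_c59 LD3_c10)) = (LP (LK LD1_c10 LD2_c13 LD3_c7)) :=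
  Lgr Lrot117 (Lpr_dt (f166262 IH) (Lpr_at (f267920 IH) (Lpr_dt (f186549 IH) (Lpn (LP (LK LD1_c10 LD2_c13 LD3_c7))))))
theorem f185373 : Led Lsl_et (LP (LK LD1_c9 LD2_c59 LD3_c10)) = (LP (LK LD1_c5 LD2_c4 LD3_c10)) :=
  Lre_e IH (LK LD1_c9 LD2_c59 LD3_c10) (LK LD1_c5 LD2_c4 LD3_c10) Lrfl Lrfl
theorem f267930 : Led Lsl_et (LP (LK LD1_c5 LD2_c11 LD3_c17)) = (LP (LK LD1_c10 LD2_c13 LD3_c7)) :=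
  Lre_e IH (LK LD1_c5 LD2_c11 LD3_c17) (LK LD1_c10 LD2_c13 LD3_c7) Lrfl Lrfl
theorem f267931 : Led Lsl_at (LP (LK LD1_c5 LD2_c4 LD3_c10)) = (LP (LK LD1_c5 LD2_c11 LD3_c17)) :=
  Lgr Lrot80 (Lpe (f185373 IH) (Lpr_af (f267926 IH) (Lpe (f267930 IH) (Lpn (LP (LK LD1_c5 LD2_c11 LD3_c17))))))
theorem f170038 : Led Lsl_ft (LP (LK LD1_c9 LD2_c59 LD3_c14)) = (LP (LK LD1_c5 LD2_c4 LD3_c10)) :=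
  Lre_f IH (LK LD1_c9 LD2_c59 LD3_c14) (LK LD1_c5 LD2_c4 LD3_c10) Lrfl Lrfl
theorem f169614 : Led Lsl_ft (LP (LK LD1_c5 LD2_c11 LD3_c17)) = (LP (LK LD1_c10 LD2_c13 LD3_c9)) :=
  Lre_f IH (LK LD1_c5 LD2_c11 LD3_c17) (LK LD1_c10 LD2_c13 LD3_c9) Lrfl Lrfl
theorem f267938 : Led Lsl_af (LP (LK LD1_c9 LD2_c59 LD3_c14)) = (LP (LK LD1_c10 LD2_c13 LD3_c9)) :=
  Lgr Lrot45 (Lpr_ft (f170038 IH) (Lpr_at (f267931 IH) (Lpr_ft (f169614 IH) (Lpn (LP (LK LD1_c10 LD2_c13 LD3_c9))))))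
theorem f170032 : Led Lsl_dt (LP (LK LD1_c9 LD2_c59 LD3_c14)) = (LP (LK LD1_c5 LD2_c4 LD3_c11)) :=
  Lre_d IH (LK LD1_c9 LD2_c59 LD3_c14) (LK LD1_c5 LD2_c4 LD3_c11) Lrfl Lrfl
theorem f185470 : Led Lsl_dt (LP (LK LD1_c5 LD2_c11 LD3_c18)) = (LP (LK LD1_c10 LD2_c13 LD3_c9)) :=
  Lre_d IH (LK LD1_c5 LD2_c11 LD3_c18) (LK LD1_c10 LD2_c13 LD3_c9) Lrfl Lrfl
theorem f267947 : Led Lsl_at (LP (LK LD1_c5 LD2_c4 LD3_c11)) = (LP (LK LD1_c5 LD2_c11 LD3_c18)) :=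
  Lgr Lrot51 (Lpe (f170032 IH) (Lpr_af (f267938 IH) (Lpe (f185470 IH) (Lpn (LP (LK LD1_c5 LD2_c11 LD3_c18))))))
theorem f267957 : Led Lsl_af (LP (LK LD1_c5 LD2_c4 LD3_c11)) = (LP (LK LD1_c5 LD2_c11 LD3_c18)) :=
  Lgr Lrot0 (Lpr_at (f267947 IH) (Lpn (LP (LK LD1_c5 LD2_c11 LD3_c18))))
theorem f170011 : Led Lsl_ft (LP (LK LD1_c5 LD2_c4 LD3_c11)) = (LP (LK LD1_c2 LD2_c29 LD3_c31)) :=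
  Lre_f IH (LK LD1_c5 LD2_c4 LD3_c11) (LK LD1_c2 LD2_c29 LD3_c31) Lrfl Lrfl
theorem f267961 : Led Lsl_at (LP (LK LD1_c2 LD2_c29 LD3_c31)) = (LP (LK LD1_c2 LD2_c32 LD3_c37)) :=
  Lgr Lrot66 (Lpe (f170011 IH) (Lpr_af (f267957 IH) (Lpe (f185438 IH) (Lpn (LP (LK LD1_c2 LD2_c32 LD3_c37))))))
theorem f170005 : Led Lsl_bt (LP (LK LD1_c5 LD2_c4 LD3_c6)) = (LP (LK LD1_c2 LD2_c29 LD3_c31)) :=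
  Lre_b IH (LK LD1_c5 LD2_c4 LD3_c6) (LK LD1_c2 LD2_c29 LD3_c31) Lrfl Lrfl
theorem f267963 : Led Lsl_at (LP (LK LD1_c9 LD2_c58 LD3_c59)) = (LP (LK LD1_c5 LD2_c4 LD3_c6)) :=
  Lre_a IH (LK LD1_c9 LD2_c58 LD3_c59) (LK LD1_c5 LD2_c4 LD3_c6) Lrfl Lrfl
theorem f185430 : Led Lsl_bt (LP (LK LD1_c2 LD2_c32 LD3_c37)) = (LP (LK LD1_c5 LD2_c11 LD3_c15)) :=
  Lre_b IH (LK LD1_c2 LD2_c32 LD3_c37) (LK LD1_c5 LD2_c11 LD3_c15) Lrfl Lrfl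
theorem f267964 : Led Lsl_at (LP (LK LD1_c5 LD2_c11 LD3_c15)) = (LP (LK LD1_c10 LD2_c12 LD3_c59)) :=
  Lre_a IH (LK LD1_c5 LD2_c11 LD3_c15) (LK LD1_c10 LD2_c12 LD3_c59) Lrfl Lrfl
theorem f267965 : Led Lsl_bf (LP (LK LD1_c9 LD2_c58 LD3_c59)) = (LP (LK LD1_c10 LD2_c12 LD3_c59)) :=
  Lgr Lrot81 (Lpr_at (f267963 IH) (Lpr_bt (f170005 IH) (Lpr_at (f267961 IH) (Lpr_bt (f185430 IH) (Lpr_at (f267964 IH) (Lpn (LP (LK LD1_c10 LD2_c12 LD3_c59))))))))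
theorem f267970 : Led Lsl_et (LP (LK LD1_c9 LD2_c58 LD3_c59)) = (LP (LK LD1_c5 LD2_c4 LD3_c3)) :=
  Lre_e IH (LK LD1_c9 LD2_c58 LD3_c59) (LK LD1_c5 LD2_c4 LD3_c3) Lrfl Lrfl
theorem f267971 : Led Lsl_et (LP (LK LD1_c5 LD2_c11 LD3_c12)) = (LP (LK LD1_c10 LD2_c12 LD3_c59)) :=
  Lre_e IH (LK LD1_c5 LD2_c11 LD3_c12) (LK LD1_c10 LD2_c12 LD3_c59) Lrfl Lrfl
theorem f267972 : Led Lsl_bt (LP (LK LD1_c5 LD2_c4 LD3_c3)) = (LP (LK LD1_c5 LD2_c11 LD3_c12)) :=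
  Lgr Lrot119 (Lpe (f267970 IH) (Lpr_bf (f267965 IH) (Lpe (f267971 IH) (Lpn (LP (LK LD1_c5 LD2_c11 LD3_c12))))))
theorem f267978 : Led Lsl_bf (LP (LK LD1_c5 LD2_c4 LD3_c3)) = (LP (LK LD1_c5 LD2_c11 LD3_c12)) :=
  Lgr Lrot24 (Lpr_bt (f267972 IH) (Lpn (LP (LK LD1_c5 LD2_c11 LD3_c12))))
theorem f267982 : Led Lsl_ct (LP (LK LD1_c5 LD2_c4 LD3_c3)) = (LP (LK LD1_c9 LD2_c58 LD3_c58)) :=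
  Lre_c IH (LK LD1_c5 LD2_c4 LD3_c3) (LK LD1_c9 LD2_c58 LD3_c58) Lrfl Lrfl
theorem f165446 : Led Lsl_bt (LP (LK LD1_c2 LD2_c29 LD3_c29)) = (LP (LK LD1_c1 LD2_c11 LD3_c50)) :=
  Lre_b IH (LK LD1_c2 LD2_c29 LD3_c29) (LK LD1_c1 LD2_c11 LD3_c50) Lrfl Lrfl
theorem f165447 : Led Lsl_ct (LP (LK LD1_c5 LD2_c4 LD3_c4)) = (LP (LK LD1_c2 LD2_c29 LD3_c29)) :=
  Lre_c IH (LK LD1_c5 LD2_c4 LD3_c4) (LK LD1_c2 LD2_c29 LD3_c29) Lrfl Lrfl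
theorem f170047 : Led Lsl_bt (LP (LK LD1_c2 LD2_c34 LD3_c55)) = (LP (LK LD1_c5 LD2_c4 LD3_c4)) :=
  Lgr Lrot128 (Lpe (K10.f32812 IH) (Lpe (K10.f169577 IH) (Lpr_cf (K9.f169570 IH) (Lpe (f165446 IH) (Lpe (f165447 IH) (Lpn (LP (LK LD1_c5 LD2_c4 LD3_c4))))))))
theorem f170052 : Led Lsl_at (LP (LK LD1_c5 LD2_c4 LD3_c4)) = (LP (LK LD1_c9 LD2_c58 LD3_c58)) :=
  Lre_a IH (LK LD1_c5 LD2_c4 LD3_c4) (LK LD1_c9 LD2_c58 LD3_c58) Lrfl Lrfl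
theorem f188018 : Led Lsl_bt (LP (LK LD1_c8 LD2_c52 LD3_c9)) = (LP (LK LD1_c4 LD2_c27 LD3_c14)) :=
  Lre_b IH (LK LD1_c8 LD2_c52 LD3_c9) (LK LD1_c4 LD2_c27 LD3_c14) Lrfl Lrfl
theorem f230630 : Led Lsl_at (LP (LK LD1_c16 LD2_c34 LD3_c58)) = (LP (LK LD1_c8 LD2_c52 LD3_c9)) :=
  Lre_a IH (LK LD1_c16 LD2_c34 LD3_c58) (LK LD1_c8 LD2_c52 LD3_c9) Lrfl Lrfl
theorem f247613 : Led Lsl_bt (LP (LK LD1_c9 LD2_c58 LD3_c58)) = (LP (LK LD1_c16 LD2_c34 LD3_c58)) :=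
  Lgr Lrot62 (Lpe (f170052 IH) (Lpe (f170047 IH) (Lpr_af (K14.f247608 IH) (Lpe (f188018 IH) (Lpe (f230630 IH) (Lpn (LP (LK LD1_c16 LD2_c34 LD3_c58))))))))
theorem f230565 : Led Lsl_bf (LP (LK LD1_c4 LD2_c27 LD3_c15)) = (LP (LK LD1_c2 LD2_c36 LD3_c23)) :=
  Lgr Lrot96 (Lpr_et (K14.f44079 IH) (Lpr_bt (K12.f230555 IH) (Lpr_et (f230291 IH) (Lpn (LP (LK LD1_c2 LD2_c36 LD3_c23))))))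
theorem f230569 : Led Lsl_ct (LP (LK LD1_c4 LD2_c27 LD3_c15)) = (LP (LK LD1_c8 LD2_c52 LD3_c11)) :=
  Lre_c IH (LK LD1_c4 LD2_c27 LD3_c15) (LK LD1_c8 LD2_c52 LD3_c11) Lrfl Lrfl
theorem f230570 : Led Lsl_bt (LP (LK LD1_c8 LD2_c52 LD3_c11)) = (LP (LK LD1_c16 LD2_c34 LD3_c60)) :=
  Lre_b IH (LK LD1_c8 LD2_c52 LD3_c11) (LK LD1_c16 LD2_c34 LD3_c60) Lrfl Lrfl
theorem f230571 : Led Lsl_ct (LP (LK LD1_c5 LD2_c19 LD3_c23)) = (LP (LK LD1_c2 LD2_c36 LD3_c23)) :=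
  Lre_c IH (LK LD1_c5 LD2_c19 LD3_c23) (LK LD1_c2 LD2_c36 LD3_c23) Lrfl Lrfl
theorem f230572 : Led Lsl_bt (LP (LK LD1_c10 LD2_c28 LD3_c31)) = (LP (LK LD1_c5 LD2_c19 LD3_c23)) :=
  Lre_b IH (LK LD1_c10 LD2_c28 LD3_c31) (LK LD1_c5 LD2_c19 LD3_c23) Lrfl Lrfl
theorem f230573 : Led Lsl_ct (LP (LK LD1_c16 LD2_c34 LD3_c60)) = (LP (LK LD1_c10 LD2_c28 LD3_c31)) :=
  Lgr Lrot83 (Lpe (f230570 IH) (Lpe (f230569 IH) (Lpr_bf (f230565 IH) (Lpe (f230571 IH) (Lpe (f230572 IH) (Lpn (LP (LK LD1_c10 LD2_c28 LD3_c31))))))))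
theorem f230605 : Led Lsl_cf (LP (LK LD1_c16 LD2_c34 LD3_c60)) = (LP (LK LD1_c10 LD2_c28 LD3_c31)) :=
  Lgr Lrot11 (Lpr_ct (f230573 IH) (Lpn (LP (LK LD1_c10 LD2_c28 LD3_c31))))
theorem f230622 : Led Lsl_et (LP (LK LD1_c16 LD2_c34 LD3_c60)) = (LP (LK LD1_c8 LD2_c52 LD3_c9)) :=
  Lre_e IH (LK LD1_c16 LD2_c34 LD3_c60) (LK LD1_c8 LD2_c52 LD3_c9) Lrfl Lrfl
theorem f230623 : Led Lsl_et (LP (LK LD1_c5 LD2_c19 LD3_c21)) = (LP (LK LD1_c10 LD2_c28 LD3_c31)) :=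
  Lre_e IH (LK LD1_c5 LD2_c19 LD3_c21) (LK LD1_c10 LD2_c28 LD3_c31) Lrfl Lrfl
theorem f230624 : Led Lsl_ct (LP (LK LD1_c8 LD2_c52 LD3_c9)) = (LP (LK LD1_c5 LD2_c19 LD3_c21)) :=
  Lgr Lrot15 (Lpe (f230622 IH) (Lpr_cf (f230605 IH) (Lpe (f230623 IH) (Lpn (LP (LK LD1_c5 LD2_c19 LD3_c21))))))
theorem f230631 : Led Lsl_at (LP (LK LD1_c5 LD2_c19 LD3_c21)) = (LP (LK LD1_c10 LD2_c28 LD3_c29)) :=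
  Lre_a IH (LK LD1_c5 LD2_c19 LD3_c21) (LK LD1_c10 LD2_c28 LD3_c29) Lrfl Lrfl
theorem f230632 : Led Lsl_cf (LP (LK LD1_c16 LD2_c34 LD3_c58)) = (LP (LK LD1_c10 LD2_c28 LD3_c29)) :=
  Lgr Lrot1 (Lpr_at (f230630 IH) (Lpr_ct (f230624 IH) (Lpr_at (f230631 IH) (Lpn (LP (LK LD1_c10 LD2_c28 LD3_c29))))))
theorem f230647 : Led Lsl_ct (LP (LK LD1_c16 LD2_c34 LD3_c58)) = (LP (LK LD1_c10 LD2_c28 LD3_c29)) :=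
  Lgr Lrot59 (Lpr_cf (f230632 IH) (Lpn (LP (LK LD1_c10 LD2_c28 LD3_c29))))
theorem f267985 : Led Lsl_ct (LP (LK LD1_c10 LD2_c12 LD3_c58)) = (LP (LK LD1_c5 LD2_c11 LD3_c12)) :=
  Lre_c IH (LK LD1_c10 LD2_c12 LD3_c58) (LK LD1_c5 LD2_c11 LD3_c12) Lrfl Lrfl
theorem f267986 : Led Lsl_bt (LP (LK LD1_c10 LD2_c28 LD3_c29)) = (LP (LK LD1_c10 LD2_c12 LD3_c58)) :=
  Lgr Lrot128 (Lpe (f230647 IH) (Lpe (f247613 IH) (Lpe (f267982 IH) (Lpr_bf (f267978 IH) (Lpe (f267985 IH) (Lpn (LP (LK LD1_c10 LD2_c12 LD3_c58))))))))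
theorem f230650 : Led Lsl_et (LP (LK LD1_c18 LD2_c59 LD3_c3)) = (LP (LK LD1_c10 LD2_c28 LD3_c29)) :=
  Lre_e IH (LK LD1_c18 LD2_c59 LD3_c3) (LK LD1_c10 LD2_c28 LD3_c29) Lrfl Lrfl
theorem f267992 : Led Lsl_et (LP (LK LD1_c10 LD2_c12 LD3_c58)) = (LP (LK LD1_c18 LD2_c35 LD3_c59)) :=
  Lre_e IH (LK LD1_c10 LD2_c12 LD3_c58) (LK LD1_c18 LD2_c35 LD3_c59) Lrfl Lrfl
theorem f267993 : Led Lsl_bf (LP (LK LD1_c18 LD2_c59 LD3_c3)) = (LP (LK LD1_c18 LD2_c35 LD3_c59)) :=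
  Lgr Lrot96 (Lpr_et (f230650 IH) (Lpr_bt (f267986 IH) (Lpr_et (f267992 IH) (Lpn (LP (LK LD1_c18 LD2_c35 LD3_c59))))))
theorem f267999 : Led Lsl_dt (LP (LK LD1_c18 LD2_c59 LD3_c3)) = (LP (LK LD1_c28 LD2_c26 LD3_c18)) :=
  Lre_d IH (LK LD1_c18 LD2_c59 LD3_c3) (LK LD1_c28 LD2_c26 LD3_c18) Lrfl Lrfl
theorem f267974 : Led Lsl_dt (LP (LK LD1_c28 LD2_c9 LD3_c42)) = (LP (LK LD1_c18 LD2_c35 LD3_c59)) :=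
  Lre_d IH (LK LD1_c28 LD2_c9 LD3_c42) (LK LD1_c18 LD2_c35 LD3_c59) Lrfl Lrfl
theorem f268000 : Led Lsl_bt (LP (LK LD1_c28 LD2_c26 LD3_c18)) = (LP (LK LD1_c28 LD2_c9 LD3_c42)) :=
  Lgr Lrot95 (Lpe (f267999 IH) (Lpr_bf (f267993 IH) (Lpe (f267974 IH) (Lpn (LP (LK LD1_c28 LD2_c9 LD3_c42))))))
theorem f268009 : Led Lsl_bf (LP (LK LD1_c28 LD2_c26 LD3_c18)) = (LP (LK LD1_c28 LD2_c9 LD3_c42)) :=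
  Lgr Lrot24 (Lpr_bt (f268000 IH) (Lpn (LP (LK LD1_c28 LD2_c9 LD3_c42))))
theorem f268011 : Led Lsl_at (LP (LK LD1_c28 LD2_c26 LD3_c18)) = (LP (LK LD1_c18 LD2_c59 LD3_c9)) :=
  Lre_a IH (LK LD1_c28 LD2_c26 LD3_c18) (LK LD1_c18 LD2_c59 LD3_c9) Lrfl Lrfl
theorem f268012 : Led Lsl_bt (LP (LK LD1_c18 LD2_c59 LD3_c9)) = (LP (LK LD1_c10 LD2_c28 LD3_c35)) :=
  Lre_b IH (LK LD1_c18 LD2_c59 LD3_c9) (LK LD1_c10 LD2_c28 LD3_c35) Lrfl Lrfl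
theorem f185539 : Led Lsl_at (LP (LK LD1_c18 LD2_c36 LD3_c4)) = (LP (LK LD1_c28 LD2_c9 LD3_c42)) :=
  Lre_a IH (LK LD1_c18 LD2_c36 LD3_c4) (LK LD1_c28 LD2_c9 LD3_c42) Lrfl Lrfl
theorem f185459 : Led Lsl_cf (LP (LK LD1_c5 LD2_c11 LD3_c18)) = (LP (LK LD1_c2 LD2_c35 LD3_c54)) :=
  Lgr Lrot11 (Lpr_ct (f185440 IH) (Lpn (LP (LK LD1_c2 LD2_c35 LD3_c54))))
theorem f185463 : Led Lsl_bt (LP (LK LD1_c5 LD2_c11 LD3_c18)) = (LP (LK LD1_c10 LD2_c13 LD3_c6)) :=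
  Lre_b IH (LK LD1_c5 LD2_c11 LD3_c18) (LK LD1_c10 LD2_c13 LD3_c6) Lrfl Lrfl
theorem f185465 : Led Lsl_ct (LP (LK LD1_c10 LD2_c13 LD3_c6)) = (LP (LK LD1_c18 LD2_c36 LD3_c5)) :=
  Lre_c IH (LK LD1_c10 LD2_c13 LD3_c6) (LK LD1_c18 LD2_c36 LD3_c5) Lrfl Lrfl
theorem f185466 : Led Lsl_bt (LP (LK LD1_c5 LD2_c18 LD3_c25)) = (LP (LK LD1_c2 LD2_c35 LD3_c54)) :=
  Lre_b IH (LK LD1_c5 LD2_c18 LD3_c25) (LK LD1_c2 LD2_c35 LD3_c54) Lrfl Lrfl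
theorem f185467 : Led Lsl_ct (LP (LK LD1_c10 LD2_c26 LD3_c31)) = (LP (LK LD1_c5 LD2_c18 LD3_c25)) :=
  Lre_c IH (LK LD1_c10 LD2_c26 LD3_c31) (LK LD1_c5 LD2_c18 LD3_c25) Lrfl Lrfl
theorem f185468 : Led Lsl_bt (LP (LK LD1_c18 LD2_c36 LD3_c5)) = (LP (LK LD1_c10 LD2_c26 LD3_c31)) :=
  Lgr Lrot128 (Lpe (f185465 IH) (Lpe (f185463 IH) (Lpr_cf (f185459 IH) (Lpe (f185466 IH) (Lpe (f185467 IH) (Lpn (LP (LK LD1_c10 LD2_c26 LD3_c31))))))))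
theorem f185478 : Led Lsl_ft (LP (LK LD1_c10 LD2_c13 LD3_c1)) = (LP (LK LD1_c18 LD2_c36 LD3_c5)) :=
  Lre_f IH (LK LD1_c10 LD2_c13 LD3_c1) (LK LD1_c18 LD2_c36 LD3_c5) Lrfl Lrfl
theorem f185479 : Led Lsl_ft (LP (LK LD1_c10 LD2_c26 LD3_c31)) = (LP (LK LD1_c5 LD2_c18 LD3_c22)) :=
  Lre_f IH (LK LD1_c10 LD2_c26 LD3_c31) (LK LD1_c5 LD2_c18 LD3_c22) Lrfl Lrfl
theorem f185480 : Led Lsl_bf (LP (LK LD1_c10 LD2_c13 LD3_c1)) = (LP (LK LD1_c5 LD2_c18 LD3_c22)) :=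
  Lgr Lrot61 (Lpr_ft (f185478 IH) (Lpr_bt (f185468 IH) (Lpr_ft (f185479 IH) (Lpn (LP (LK LD1_c5 LD2_c18 LD3_c22))))))
theorem f185487 : Led Lsl_dt (LP (LK LD1_c10 LD2_c13 LD3_c1)) = (LP (LK LD1_c18 LD2_c36 LD3_c4)) :=
  Lre_d IH (LK LD1_c10 LD2_c13 LD3_c1) (LK LD1_c18 LD2_c36 LD3_c4) Lrfl Lrfl
theorem f185488 : Led Lsl_dt (LP (LK LD1_c10 LD2_c26 LD3_c30)) = (LP (LK LD1_c5 LD2_c18 LD3_c22)) :=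
  Lre_d IH (LK LD1_c10 LD2_c26 LD3_c30) (LK LD1_c5 LD2_c18 LD3_c22) Lrfl Lrfl
theorem f185489 : Led Lsl_bt (LP (LK LD1_c18 LD2_c36 LD3_c4)) = (LP (LK LD1_c10 LD2_c26 LD3_c30)) :=
  Lgr Lrot95 (Lpe (f185487 IH) (Lpr_bf (f185480 IH) (Lpe (f185488 IH) (Lpn (LP (LK LD1_c10 LD2_c26 LD3_c30))))))
theorem f185529 : Led Lsl_bf (LP (LK LD1_c18 LD2_c36 LD3_c4)) = (LP (LK LD1_c10 LD2_c26 LD3_c30)) :=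
  Lgr Lrot24 (Lpr_bt (f185489 IH) (Lpn (LP (LK LD1_c10 LD2_c26 LD3_c30))))
theorem f268013 : Led Lsl_at (LP (LK LD1_c10 LD2_c28 LD3_c35)) = (LP (LK LD1_c10 LD2_c26 LD3_c30)) :=
  Lgr Lrot67 (Lpe (f268012 IH) (Lpe (f268011 IH) (Lpr_bf (f268009 IH) (Lpe (f185539 IH) (Lpr_bf (f185529 IH) (Lpn (LP (LK LD1_c10 LD2_c26 LD3_c30))))))))
theorem f268024 : Led Lsl_ft (LP (LK LD1_c18 LD2_c59 LD3_c21)) = (LP (LK LD1_c10 LD2_c28 LD3_c35)) :=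
  Lre_f IH (LK LD1_c18 LD2_c59 LD3_c21) (LK LD1_c10 LD2_c28 LD3_c35) Lrfl Lrfl
theorem f230603 : Led Lsl_dt (LP (LK LD1_c18 LD2_c59 LD3_c21)) = (LP (LK LD1_c10 LD2_c28 LD3_c36)) :=
  Lre_d IH (LK LD1_c18 LD2_c59 LD3_c21) (LK LD1_c10 LD2_c28 LD3_c36) Lrfl Lrfl
theorem f230598 : Led Lsl_ct (LP (LK LD1_c10 LD2_c28 LD3_c36)) = (LP (LK LD1_c5 LD2_c19 LD3_c27)) :=
  Lre_c IH (LK LD1_c10 LD2_c28 LD3_c36) (LK LD1_c5 LD2_c19 LD3_c27) Lrfl Lrfl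
theorem f230596 : Led Lsl_dt (LP (LK LD1_c5 LD2_c19 LD3_c27)) = (LP (LK LD1_c10 LD2_c28 LD3_c43)) :=
  Lre_d IH (LK LD1_c5 LD2_c19 LD3_c27) (LK LD1_c10 LD2_c28 LD3_c43) Lrfl Lrfl
theorem f258213 : Led Lsl_ct (LP (LK LD1_c10 LD2_c28 LD3_c43)) = (LP (LK LD1_c18 LD2_c59 LD3_c30)) :=
  Lre_c IH (LK LD1_c10 LD2_c28 LD3_c43) (LK LD1_c18 LD2_c59 LD3_c30) Lrfl Lrfl
theorem f258198 : Led Lsl_dt (LP (LK LD1_c18 LD2_c59 LD3_c30)) = (LP (LK LD1_c28 LD2_c26 LD3_c47)) :=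
  Lre_d IH (LK LD1_c18 LD2_c59 LD3_c30) (LK LD1_c28 LD2_c26 LD3_c47) Lrfl Lrfl
theorem f185540 : Led Lsl_ct (LP (LK LD1_c18 LD2_c56 LD3_c18)) = (LP (LK LD1_c10 LD2_c26 LD3_c30)) :=
  Lre_c IH (LK LD1_c18 LD2_c56 LD3_c18) (LK LD1_c10 LD2_c26 LD3_c30) Lrfl Lrfl
theorem f185548 : Led Lsl_dt (LP (LK LD1_c28 LD2_c24 LD3_c31)) = (LP (LK LD1_c18 LD2_c56 LD3_c18)) :=
  Lre_d IH (LK LD1_c28 LD2_c24 LD3_c31) (LK LD1_c18 LD2_c56 LD3_c18) Lrfl Lrfl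
theorem f268029 : Led Lsl_ct (LP (LK LD1_c28 LD2_c26 LD3_c47)) = (LP (LK LD1_c28 LD2_c24 LD3_c31)) :=
  Lgr Lrot53 (Lpe (f258198 IH) (Lpe (f258213 IH) (Lpe (f230596 IH) (Lpe (f230598 IH) (Lpe (f230603 IH) (Lpr_ft (f268024 IH) (Lpr_at (f268013 IH) (Lpe (f185540 IH) (Lpe (f185548 IH) (Lpn (LP (LK LD1_c28 LD2_c24 LD3_c31))))))))))))
theorem f230577 : Led Lsl_ft (LP (LK LD1_c5 LD2_c19 LD3_c27)) = (LP (LK LD1_c2 LD2_c36 LD3_c23)) :=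
  Lre_f IH (LK LD1_c5 LD2_c19 LD3_c27) (LK LD1_c2 LD2_c36 LD3_c23) Lrfl Lrfl
theorem f185433 : Led Lsl_ct (LP (LK LD1_c5 LD2_c18 LD3_c22)) = (LP (LK LD1_c2 LD2_c35 LD3_c51)) :=
  Lre_c IH (LK LD1_c5 LD2_c18 LD3_c22) (LK LD1_c2 LD2_c35 LD3_c51) Lrfl Lrfl
theorem f268037 : Led Lsl_at (LP (LK LD1_c2 LD2_c36 LD3_c23)) = (LP (LK LD1_c2 LD2_c35 LD3_c51)) :=
  Lgr Lrot33 (Lpe (f230577 IH) (Lpr_dt (f230596 IH) (Lpr_ct (f258213 IH) (Lpr_dt (f258198 IH) (Lpr_ct (f268029 IH) (Lpr_dt (f185548 IH) (Lpr_ct (f185540 IH) (Lpr_dt (f185488 IH) (Lpr_ct (f185433 IH) (Lpn (LP (LK LD1_c2 LD2_c35 LD3_c51))))))))))))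
theorem f268043 : Led Lsl_ft (LP (LK LD1_c2 LD2_c35 LD3_c51)) = (LP (LK LD1_c5 LD2_c18 LD3_c25)) :=
  Lre_f IH (LK LD1_c2 LD2_c35 LD3_c51) (LK LD1_c5 LD2_c18 LD3_c25) Lrfl Lrfl
theorem f268044 : Led Lsl_af (LP (LK LD1_c5 LD2_c19 LD3_c27)) = (LP (LK LD1_c5 LD2_c18 LD3_c25)) :=
  Lgr Lrot45 (Lpr_ft (f230577 IH) (Lpr_at (f268037 IH) (Lpr_ft (f268043 IH) (Lpn (LP (LK LD1_c5 LD2_c18 LD3_c25))))))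
theorem f258150 : Led Lsl_ft (LP (LK LD1_c5 LD2_c19 LD3_c26)) = (LP (LK LD1_c10 LD2_c28 LD3_c43)) :=
  Lre_f IH (LK LD1_c5 LD2_c19 LD3_c26) (LK LD1_c10 LD2_c28 LD3_c43) Lrfl Lrfl
theorem f258151 : Led Lsl_gt (LP (LK LD1_c2 LD2_c37 LD3_c26)) = (LP (LK LD1_c5 LD2_c21 LD3_c42)) :=
  Lre_g IH (LK LD1_c2 LD2_c37 LD3_c26) (LK LD1_c5 LD2_c21 LD3_c42) Lrfl Lrfl
theorem f258152 : Led Lsl_at (LP (LK LD1_c10 LD2_c28 LD3_c43)) = (LP (LK LD1_c5 LD2_c21 LD3_c42)) :=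
  Lgr Lrot26 (Lpe (f258150 IH) (Lpr_gt (f258148 IH) (Lpr_gt (f258151 IH) (Lpn (LP (LK LD1_c5 LD2_c21 LD3_c42))))))
theorem f268056 : Led Lsl_dt (LP (LK LD1_c5 LD2_c21 LD3_c42)) = (LP (LK LD1_c5 LD2_c18 LD3_c25)) :=
  Lgr Lrot44 (Lpe (f258152 IH) (Lpe (f230596 IH) (Lpr_af (f268044 IH) (Lpn (LP (LK LD1_c5 LD2_c18 LD3_c25))))))
theorem f268064 : Led Lsl_df (LP (LK LD1_c5 LD2_c21 LD3_c42)) = (LP (LK LD1_c5 LD2_c18 LD3_c25)) :=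
  Lgr Lrot38 (Lpr_dt (f268056 IH) (Lpn (LP (LK LD1_c5 LD2_c18 LD3_c25))))
theorem f185455 : Led Lsl_bt (LP (LK LD1_c2 LD2_c35 LD3_c54)) = (LP (LK LD1_c5 LD2_c18 LD3_c25)) :=
  Lre_b IH (LK LD1_c2 LD2_c35 LD3_c54) (LK LD1_c5 LD2_c18 LD3_c25) Lrfl Lrfl
theorem f1394 : Led Lsl_et (LP (LK LD1_c0 LD2_c27 LD3_c14)) = (LP (LK LD1_c0 LD2_c59 LD3_c57)) :=
  Lre_e IH (LK LD1_c0 LD2_c27 LD3_c14) (LK LD1_c0 LD2_c59 LD3_c57) Lrfl Lrfl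
theorem f231024 : Led Lsl_et (LP (LK LD1_c2 LD2_c5 LD3_c57)) = (LP (LK LD1_c2 LD2_c2 LD3_c46)) :=
  Lgr Lrot69 (Lpe (K10.f169344 IH) (Lpe (f1394 IH) (Lpr_ff (K12.f231015 IH) (Lpe (K13.f167226 IH) (Lpe (f231023 IH) (Lpn (LP (LK LD1_c2 LD2_c2 LD3_c46))))))))
theorem f267650 : Led Lsl_dt (LP (LK LD1_c2 LD2_c2 LD3_c46)) = (LP (LK LD1_c4 LD2_c10 LD3_c61)) :=
  Lre_d IH (LK LD1_c2 LD2_c2 LD3_c46) (LK LD1_c4 LD2_c10 LD3_c61) Lrfl Lrfl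
theorem f183135 : Led Lsl_gt (LP (LK LD1_c1 LD2_c16 LD3_c34)) = (LP (LK LD1_c2 LD2_c39 LD3_c36)) :=
  Lre_g IH (LK LD1_c1 LD2_c16 LD3_c34) (LK LD1_c2 LD2_c39 LD3_c36) Lrfl Lrfl
theorem f267662 : Led Lsl_ef (LP (LK LD1_c2 LD2_c39 LD3_c36)) = (LP (LK LD1_c4 LD2_c10 LD3_c61)) :=
  Lgr Lrot17 (Lpe (f183135 IH) (Lpe (f185687 IH) (Lpr_dt (K9.f8473 IH) (Lpr_gf (K9.f182515 IH) (Lpe (K9.f8449 IH) (Lpr_gf (K9.f8505 IH) (Lpe (K13.f8525 IH) (Lpr_dt (K13.f245899 IH) (Lpr_gf (f267648 IH) (Lpe (f267656 IH) (Lpn (LP (LK LD1_c4 LD2_c10 LD3_c61)))))))))))))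
theorem f267859 : Led Lsl_dt (LP (LK LD1_c2 LD2_c39 LD3_c36)) = (LP (LK LD1_c2 LD2_c35 LD3_c54)) :=
  Lgr Lrot77 (Lpr_ef (f267662 IH) (Lpe (f267650 IH) (Lpe (f231024 IH) (Lpr_df (K10.f169351 IH) (Lpr_ef (f267853 IH) (Lpn (LP (LK LD1_c2 LD2_c35 LD3_c54))))))))
theorem f268095 : Led Lsl_bt (LP (LK LD1_c5 LD2_c21 LD3_c42)) = (LP (LK LD1_c2 LD2_c39 LD3_c36)) :=
  Lgr Lrot95 (Lpr_df (f268064 IH) (Lpe (f185455 IH) (Lpe (f267859 IH) (Lpn (LP (LK LD1_c2 LD2_c39 LD3_c36))))))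
theorem f258169 : Led Lsl_ct (LP (LK LD1_c5 LD2_c21 LD3_c42)) = (LP (LK LD1_c10 LD2_c33 LD3_c39)) :=
  Lre_c IH (LK LD1_c5 LD2_c21 LD3_c42) (LK LD1_c10 LD2_c33 LD3_c39) Lrfl Lrfl
theorem f195887 : Led Lsl_et (LP (LK LD1_c1 LD2_c15 LD3_c48)) = (LP (LK LD1_c0 LD2_c35 LD3_c20)) :=
  Lre_e IH (LK LD1_c1 LD2_c15 LD3_c48) (LK LD1_c0 LD2_c35 LD3_c20) Lrfl Lrfl
theorem f195847 : Led Lsl_et (LP (LK LD1_c9 LD2_c33 LD3_c16)) = (LP (LK LD1_c17 LD2_c35 LD3_c43)) :=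
  Lre_e IH (LK LD1_c9 LD2_c33 LD3_c16) (LK LD1_c17 LD2_c35 LD3_c43) Lrfl Lrfl
theorem f258156 : Led Lsl_ct (LP (LK LD1_c10 LD2_c28 LD3_c42)) = (LP (LK LD1_c5 LD2_c19 LD3_c26)) :=
  Lre_c IH (LK LD1_c10 LD2_c28 LD3_c42) (LK LD1_c5 LD2_c19 LD3_c26) Lrfl Lrfl
theorem f258238 : Led Lsl_ef (LP (LK LD1_c10 LD2_c28 LD3_c42)) = (LP (LK LD1_c5 LD2_c20 LD3_c27)) :=
  Lgr Lrot28 (Lpr_ct (f258156 IH) (Lpr_et (f258236 IH) (Lpr_ct (K12.f221670 IH) (Lpn (LP (LK LD1_c5 LD2_c20 LD3_c27))))))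
theorem f264003 : Led Lsl_gf (LP (LK LD1_c17 LD2_c35 LD3_c43)) = (LP (LK LD1_c10 LD2_c28 LD3_c42)) :=
  Lgr Lrot141 (Lpe (f195847 IH) (Lpr_dt (K14.f195845 IH) (Lpr_gt (K14.f190662 IH) (Lpe (K14.f46471 IH) (Lpr_et (f195887 IH) (Lpr_gt (K12.f195888 IH) (Lpr_dt (K14.f195890 IH) (Lpr_gt (f195891 IH) (Lpr_df (f263981 IH) (Lpe (f258238 IH) (Lpn (LP (LK LD1_c10 LD2_c28 LD3_c42)))))))))))))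
theorem f258214 : Led Lsl_ft (LP (LK LD1_c10 LD2_c28 LD3_c42)) = (LP (LK LD1_c18 LD2_c59 LD3_c30)) :=
  Lre_f IH (LK LD1_c10 LD2_c28 LD3_c42) (LK LD1_c18 LD2_c59 LD3_c30) Lrfl Lrfl
theorem f230587 : Led Lsl_ct (LP (LK LD1_c2 LD2_c36 LD3_c23)) = (LP (LK LD1_c5 LD2_c19 LD3_c23)) :=
  Lre_c IH (LK LD1_c2 LD2_c36 LD3_c23) (LK LD1_c5 LD2_c19 LD3_c23) Lrfl Lrfl
theorem f230424 : Led Lsl_dt (LP (LK LD1_c5 LD2_c19 LD3_c23)) = (LP (LK LD1_c10 LD2_c28 LD3_c35)) :=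
  Lre_d IH (LK LD1_c5 LD2_c19 LD3_c23) (LK LD1_c10 LD2_c28 LD3_c35) Lrfl Lrfl
theorem f258172 : Led Lsl_ct (LP (LK LD1_c10 LD2_c28 LD3_c35)) = (LP (LK LD1_c18 LD2_c59 LD3_c20)) :=
  Lre_c IH (LK LD1_c10 LD2_c28 LD3_c35) (LK LD1_c18 LD2_c59 LD3_c20) Lrfl Lrfl
theorem f258173 : Led Lsl_dt (LP (LK LD1_c18 LD2_c59 LD3_c20)) = (LP (LK LD1_c28 LD2_c26 LD3_c36)) :=
  Lre_d IH (LK LD1_c18 LD2_c59 LD3_c20) (LK LD1_c28 LD2_c26 LD3_c36) Lrfl Lrfl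
theorem f258174 : Led Lsl_ct (LP (LK LD1_c10 LD2_c33 LD3_c39)) = (LP (LK LD1_c5 LD2_c21 LD3_c42)) :=
  Lre_c IH (LK LD1_c10 LD2_c33 LD3_c39) (LK LD1_c5 LD2_c21 LD3_c42) Lrfl Lrfl
theorem f258175 : Led Lsl_dt (LP (LK LD1_c19 LD2_c7 LD3_c36)) = (LP (LK LD1_c10 LD2_c33 LD3_c39)) :=
  Lre_d IH (LK LD1_c19 LD2_c7 LD3_c36) (LK LD1_c10 LD2_c33 LD3_c39) Lrfl Lrfl
theorem f258176 : Led Lsl_ct (LP (LK LD1_c28 LD2_c26 LD3_c36)) = (LP (LK LD1_c19 LD2_c7 LD3_c36)) :=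
  Lgr Lrot53 (Lpe (f258173 IH) (Lpe (f258172 IH) (Lpe (f230424 IH) (Lpe (f230587 IH) (Lpe (f230575 IH) (Lpr_ft (f258150 IH) (Lpr_at (f258152 IH) (Lpe (f258174 IH) (Lpe (f258175 IH) (Lpn (LP (LK LD1_c19 LD2_c7 LD3_c36))))))))))))
theorem f258182 : Led Lsl_dt (LP (LK LD1_c18 LD2_c59 LD3_c29)) = (LP (LK LD1_c10 LD2_c28 LD3_c42)) :=
  Lre_d IH (LK LD1_c18 LD2_c59 LD3_c29) (LK LD1_c10 LD2_c28 LD3_c42) Lrfl Lrfl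
theorem f258188 : Led Lsl_ft (LP (LK LD1_c18 LD2_c59 LD3_c29)) = (LP (LK LD1_c28 LD2_c26 LD3_c47)) :=
  Lre_f IH (LK LD1_c18 LD2_c59 LD3_c29) (LK LD1_c28 LD2_c26 LD3_c47) Lrfl Lrfl
theorem f258189 : Led Lsl_at (LP (LK LD1_c28 LD2_c26 LD3_c47)) = (LP (LK LD1_c19 LD2_c7 LD3_c36)) :=
  Lgr Lrot33 (Lpe (f258188 IH) (Lpr_dt (f258182 IH) (Lpr_ct (f258156 IH) (Lpr_dt (f230575 IH) (Lpr_ct (f230587 IH) (Lpr_dt (f230424 IH) (Lpr_ct (f258172 IH) (Lpr_dt (f258173 IH) (Lpr_ct (f258176 IH) (Lpn (LP (LK LD1_c19 LD2_c7 LD3_c36))))))))))))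
theorem f258196 : Led Lsl_af (LP (LK LD1_c28 LD2_c26 LD3_c47)) = (LP (LK LD1_c19 LD2_c7 LD3_c36)) :=
  Lgr Lrot0 (Lpr_at (f258189 IH) (Lpn (LP (LK LD1_c19 LD2_c7 LD3_c36))))
theorem f258206 : Led Lsl_dt (LP (LK LD1_c28 LD2_c26 LD3_c47)) = (LP (LK LD1_c18 LD2_c59 LD3_c30)) :=
  Lre_d IH (LK LD1_c28 LD2_c26 LD3_c47) (LK LD1_c18 LD2_c59 LD3_c30) Lrfl Lrfl
theorem f258193 : Led Lsl_dt (LP (LK LD1_c10 LD2_c33 LD3_c39)) = (LP (LK LD1_c19 LD2_c7 LD3_c36)) :=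
  Lre_d IH (LK LD1_c10 LD2_c33 LD3_c39) (LK LD1_c19 LD2_c7 LD3_c36) Lrfl Lrfl
theorem f258207 : Led Lsl_at (LP (LK LD1_c18 LD2_c59 LD3_c30)) = (LP (LK LD1_c10 LD2_c33 LD3_c39)) :=
  Lgr Lrot51 (Lpe (f258206 IH) (Lpr_af (f258196 IH) (Lpe (f258193 IH) (Lpn (LP (LK LD1_c10 LD2_c33 LD3_c39))))))
theorem f264005 : Led Lsl_gt (LP (LK LD1_c17 LD2_c35 LD3_c43)) = (LP (LK LD1_c10 LD2_c33 LD3_c39)) :=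
  Lgr Lrot46 (Lpr_gf (f264003 IH) (Lpr_ft (f258214 IH) (Lpr_at (f258207 IH) (Lpn (LP (LK LD1_c10 LD2_c33 LD3_c39))))))
theorem f254245 : Led Lsl_ct (LP (LK LD1_c9 LD2_c33 LD3_c17)) = (LP (LK LD1_c17 LD2_c35 LD3_c43)) :=
  Lre_c IH (LK LD1_c9 LD2_c33 LD3_c17) (LK LD1_c17 LD2_c35 LD3_c43) Lrfl Lrfl
theorem f254243 : Led Lsl_bt (LP (LK LD1_c9 LD2_c33 LD3_c17)) = (LP (LK LD1_c5 LD2_c36 LD3_c34)) :=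
  Lgr Lrot127 (Lpr_bf (K14.f254241 IH) (Lpn (LP (LK LD1_c5 LD2_c36 LD3_c34))))
theorem f183155 : Led Lsl_bt (LP (LK LD1_c1 LD2_c18 LD3_c27)) = (LP (LK LD1_c2 LD2_c44 LD3_c9)) :=
  Lre_b IH (LK LD1_c1 LD2_c18 LD3_c27) (LK LD1_c2 LD2_c44 LD3_c9) Lrfl Lrfl
theorem f183132 : Led Lsl_ct (LP (LK LD1_c1 LD2_c18 LD3_c27)) = (LP (LK LD1_c2 LD2_c44 LD3_c11)) :=
  Lre_c IH (LK LD1_c1 LD2_c18 LD3_c27) (LK LD1_c2 LD2_c44 LD3_c11) Lrfl Lrfl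
theorem f178905 : Led Lsl_gt (LP (LK LD1_c5 LD2_c36 LD3_c41)) = (LP (LK LD1_c2 LD2_c44 LD3_c11)) :=
  Lre_g IH (LK LD1_c5 LD2_c36 LD3_c41) (LK LD1_c2 LD2_c44 LD3_c11) Lrfl Lrfl
theorem f264354 : Led Lsl_gt (LP (LK LD1_c2 LD2_c39 LD3_c36)) = (LP (LK LD1_c2 LD2_c59 LD3_c6)) :=
  Lgr Lrot46 (Lpe (f183135 IH) (Lpr_ft (K12.f185635 IH) (Lpr_at (f264321 IH) (Lpn (LP (LK LD1_c2 LD2_c59 LD3_c6))))))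
theorem f268101 : Led Lsl_cf (LP (LK LD1_c5 LD2_c36 LD3_c41)) = (LP (LK LD1_c2 LD2_c59 LD3_c6)) :=
  Lgr Lrot125 (Lpr_gt (f178905 IH) (Lpe (f183132 IH) (Lpr_bt (f183155 IH) (Lpr_gt (K14.f253588 IH) (Lpe (f254243 IH) (Lpr_ct (f254245 IH) (Lpr_gt (f264005 IH) (Lpe (f258169 IH) (Lpr_bt (f268095 IH) (Lpr_gt (f264354 IH) (Lpn (LP (LK LD1_c2 LD2_c59 LD3_c6)))))))))))))
theorem f169477 : Led Lsl_ct (LP (LK LD1_c2 LD2_c59 LD3_c4)) = (LP (LK LD1_c1 LD2_c25 LD3_c16)) :=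
  Lre_c IH (LK LD1_c2 LD2_c59 LD3_c4) (LK LD1_c1 LD2_c25 LD3_c16) Lrfl Lrfl
theorem f268111 : Led Lsl_ft (LP (LK LD1_c5 LD2_c36 LD3_c41)) = (LP (LK LD1_c2 LD2_c59 LD3_c4)) :=
  Lgr Lrot4 (Lpr_cf (f268101 IH) (Lpe (K9.f169469 IH) (Lpe (f169477 IH) (Lpn (LP (LK LD1_c2 LD2_c59 LD3_c4))))))
theorem f268121 : Led Lsl_ff (LP (LK LD1_c5 LD2_c36 LD3_c41)) = (LP (LK LD1_c2 LD2_c59 LD3_c4)) :=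
  Lgr Lrot3 (Lpr_ft (f268111 IH) (Lpn (LP (LK LD1_c2 LD2_c59 LD3_c4))))
theorem f185649 : Led Lsl_ct (LP (LK LD1_c5 LD2_c26 LD3_c21)) = (LP (LK LD1_c2 LD2_c39 LD3_c37)) :=
  Lre_c IH (LK LD1_c5 LD2_c26 LD3_c21) (LK LD1_c2 LD2_c39 LD3_c37) Lrfl Lrfl
theorem f268103 : Led Lsl_at (LP (LK LD1_c5 LD2_c36 LD3_c41)) = (LP (LK LD1_c5 LD2_c26 LD3_c21)) :=
  Lgr Lrot107 (Lpr_cf (f268101 IH) (Lpe (f264321 IH) (Lpe (f185649 IH) (Lpn (LP (LK LD1_c5 LD2_c26 LD3_c21))))))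
theorem f268123 : Led Lsl_ft (LP (LK LD1_c5 LD2_c26 LD3_c21)) = (LP (LK LD1_c2 LD2_c39 LD3_c35)) :=
  Lre_f IH (LK LD1_c5 LD2_c26 LD3_c21) (LK LD1_c2 LD2_c39 LD3_c35) Lrfl Lrfl
theorem f268124 : Led Lsl_at (LP (LK LD1_c2 LD2_c39 LD3_c35)) = (LP (LK LD1_c2 LD2_c59 LD3_c4)) :=
  Lgr Lrot66 (Lpe (f268123 IH) (Lpe (f268103 IH) (Lpr_ff (f268121 IH) (Lpn (LP (LK LD1_c2 LD2_c59 LD3_c4))))))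
theorem f183072 : Led Lsl_et (LP (LK LD1_c1 LD2_c16 LD3_c33)) = (LP (LK LD1_c2 LD2_c39 LD3_c35)) :=
  Lre_e IH (LK LD1_c1 LD2_c16 LD3_c33) (LK LD1_c2 LD2_c39 LD3_c35) Lrfl Lrfl
theorem f195593 : Led Lsl_et (LP (LK LD1_c2 LD2_c59 LD3_c4)) = (LP (LK LD1_c1 LD2_c25 LD3_c15)) :=
  Lre_e IH (LK LD1_c2 LD2_c59 LD3_c4) (LK LD1_c1 LD2_c25 LD3_c15) Lrfl Lrfl
theorem f268164 : Led Lsl_af (LP (LK LD1_c1 LD2_c16 LD3_c33)) = (LP (LK LD1_c1 LD2_c25 LD3_c15)) :=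
  Lgr Lrot50 (Lpr_et (f183072 IH) (Lpr_at (f268124 IH) (Lpr_et (f195593 IH) (Lpn (LP (LK LD1_c1 LD2_c25 LD3_c15))))))
theorem f268172 : Led Lsl_at (LP (LK LD1_c2 LD2_c39 LD3_c34)) = (LP (LK LD1_c2 LD2_c59 LD3_c3)) :=
  Lgr Lrot51 (Lpe (K11.f182489 IH) (Lpr_af (f268164 IH) (Lpe (K10.f179061 IH) (Lpn (LP (LK LD1_c2 LD2_c59 LD3_c3))))))
theorem f268178 : Led Lsl_ff (LP (LK LD1_c2 LD2_c39 LD3_c34)) = (LP (LK LD1_c2 LD2_c58 LD3_c55)) :=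
  Lgr Lrot52 (Lpr_at (f268172 IH) (Lpe (K10.f183432 IH) (Lpe (K10.f183369 IH) (Lpn (LP (LK LD1_c2 LD2_c58 LD3_c55))))))
theorem f268184 : Led Lsl_ft (LP (LK LD1_c2 LD2_c39 LD3_c34)) = (LP (LK LD1_c2 LD2_c58 LD3_c55)) :=
  Lgr Lrot48 (Lpr_ff (f268178 IH) (Lpn (LP (LK LD1_c2 LD2_c58 LD3_c55))))
theorem f268190 : Led Lsl_af (LP (LK LD1_c2 LD2_c39 LD3_c25)) = (LP (LK LD1_c2 LD2_c58 LD3_c55)) :=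
  Lgr Lrot31 (Lpr_gf (K9.f182541 IH) (Lpr_gf (K9.f183074 IH) (Lpr_ft (f268184 IH) (Lpn (LP (LK LD1_c2 LD2_c58 LD3_c55))))))
theorem f268174 : Led Lsl_af (LP (LK LD1_c2 LD2_c39 LD3_c34)) = (LP (LK LD1_c2 LD2_c59 LD3_c3)) :=
  Lgr Lrot0 (Lpr_at (f268172 IH) (Lpn (LP (LK LD1_c2 LD2_c59 LD3_c3))))
theorem f268202 : Led Lsl_ft (LP (LK LD1_c2 LD2_c39 LD3_c25)) = (LP (LK LD1_c2 LD2_c59 LD3_c3)) :=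
  Lgr Lrot101 (Lpr_af (f268190 IH) (Lpe (f268184 IH) (Lpr_af (f268174 IH) (Lpn (LP (LK LD1_c2 LD2_c59 LD3_c3))))))
theorem f268206 : Led Lsl_ff (LP (LK LD1_c2 LD2_c39 LD3_c25)) = (LP (LK LD1_c2 LD2_c59 LD3_c3)) :=
  Lgr Lrot3 (Lpr_ft (f268202 IH) (Lpn (LP (LK LD1_c2 LD2_c59 LD3_c3))))
theorem f268208 : Led Lsl_ft (LP (LK LD1_c2 LD2_c0 LD3_c7)) = (LP (LK LD1_c1 LD2_c25 LD3_c55)) :=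
  Lgr Lrot4 (Lpe (K9.f183039 IH) (Lpr_ff (f268206 IH) (Lpe (K10.f183378 IH) (Lpn (LP (LK LD1_c1 LD2_c25 LD3_c55))))))
theorem f268214 : Led Lsl_ff (LP (LK LD1_c0 LD2_c57 LD3_c0)) = (LP (LK LD1_c0 LD2_c57 LD3_c28)) :=
  Lgr Lrot19 (Lpr_dt (K9.f175318 IH) (Lpr_ft (f268208 IH) (Lpe (K9.f177798 IH) (Lpn (LP (LK LD1_c0 LD2_c57 LD3_c28))))))
theorem f181132 : Led Lsl_gf (LP (LK LD1_c0 LD2_c57 LD3_c30)) = (LP (LK LD1_c1 LD2_c13 LD3_c46)) :=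
  Lgr Lrot144 (Lpe (K9.f175917 IH) (Lpr_gt (K9.f9044 IH) (Lpr_dt (K9.f9028 IH) (Lpe (K9.f9074 IH) (Lpe (K9.f6884 IH) (Lpe (K0.f20566 IH) (Lpe (K0.f20567 IH) (Lpr_gf (K9.f181129 IH) (Lpe (K9.f181131 IH) (Lpn (LP (LK LD1_c1 LD2_c13 LD3_c46))))))))))))
theorem f268223 : Led Lsl_at (LP (LK LD1_c0 LD2_c57 LD3_c0)) = (LP (LK LD1_c0 LD2_c57 LD3_c30)) :=
  Lgr Lrot26 (Lpr_ff (f268214 IH) (Lpr_gt (K9.f181134 IH) (Lpe (f181132 IH) (Lpn (LP (LK LD1_c0 LD2_c57 LD3_c30))))))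
theorem f268229 : Led Lsl_af (LP (LK LD1_c0 LD2_c38 LD3_c60)) = (LP (LK LD1_c1 LD2_c5 LD3_c11)) :=
  Lgr Lrot50 (Lpr_et (K9.f175331 IH) (Lpr_at (f268223 IH) (Lpe (K9.f175913 IH) (Lpn (LP (LK LD1_c1 LD2_c5 LD3_c11))))))
theorem f268237 : Led Lsl_ft (LP (LK LD1_c0 LD2_c38 LD3_c61)) = (LP (LK LD1_c1 LD2_c5 LD3_c11)) :=
  Lgr Lrot2 (Lpr_gt (K9.f9392 IH) (Lpr_gt (K10.f26781 IH) (Lpr_af (f268229 IH) (Lpn (LP (LK LD1_c1 LD2_c5 LD3_c11))))))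
theorem f268243 : Led Lsl_ff (LP (LK LD1_c0 LD2_c38 LD3_c61)) = (LP (LK LD1_c1 LD2_c5 LD3_c11)) :=
  Lgr Lrot3 (Lpr_ft (f268237 IH) (Lpn (LP (LK LD1_c1 LD2_c5 LD3_c11))))
theorem f268247 : Led Lsl_at (LP (LK LD1_c0 LD2_c38 LD3_c61)) = (LP (LK LD1_c1 LD2_c5 LD3_c12)) :=
  Lgr Lrot26 (Lpr_ff (f268243 IH) (Lpr_gt (K9.f23958 IH) (Lpr_gt (K9.f26663 IH) (Lpn (LP (LK LD1_c1 LD2_c5 LD3_c12))))))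
theorem f268231 : Led Lsl_at (LP (LK LD1_c0 LD2_c38 LD3_c60)) = (LP (LK LD1_c1 LD2_c5 LD3_c11)) :=
  Lgr Lrot100 (Lpr_af (f268229 IH) (Lpn (LP (LK LD1_c1 LD2_c5 LD3_c11))))
theorem f268255 : Led Lsl_ff (LP (LK LD1_c0 LD2_c38 LD3_c60)) = (LP (LK LD1_c1 LD2_c5 LD3_c12)) :=
  Lgr Lrot30 (Lpr_at (f268231 IH) (Lpe (f268243 IH) (Lpr_at (f268247 IH) (Lpn (LP (LK LD1_c1 LD2_c5 LD3_c12))))))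
theorem f268263 : Led Lsl_ft (LP (LK LD1_c0 LD2_c38 LD3_c60)) = (LP (LK LD1_c1 LD2_c5 LD3_c12)) :=
  Lgr Lrot48 (Lpr_ff (f268255 IH) (Lpn (LP (LK LD1_c1 LD2_c5 LD3_c12))))
theorem f268269 : Led Lsl_ff (LP (LK LD1_c1 LD2_c24 LD3_c38)) = (LP (LK LD1_c2 LD2_c16 LD3_c38)) :=
  Lgr Lrot19 (Lpr_dt (K10.f9418 IH) (Lpr_ft (f268263 IH) (Lpr_dt (K10.f26664 IH) (Lpn (LP (LK LD1_c2 LD2_c16 LD3_c38))))))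
theorem f176065 : Led Lsl_ct (LP (LK LD1_c4 LD2_c39 LD3_c18)) = (LP (LK LD1_c2 LD2_c16 LD3_c38)) :=
  Lre_c IH (LK LD1_c4 LD2_c39 LD3_c18) (LK LD1_c2 LD2_c16 LD3_c38) Lrfl Lrfl
theorem f268275 : Led Lsl_ft (LP (LK LD1_c2 LD2_c57 LD3_c54)) = (LP (LK LD1_c4 LD2_c39 LD3_c18)) :=
  Lgr Lrot4 (Lpe (K10.f175385 IH) (Lpr_ff (f268269 IH) (Lpe (f176065 IH) (Lpn (LP (LK LD1_c4 LD2_c39 LD3_c18))))))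
theorem f268322 : Led Lsl_af (LP (LK LD1_c2 LD2_c57 LD3_c56)) = (LP (LK LD1_c4 LD2_c39 LD3_c18)) :=
  Lgr Lrot31 (Lpr_gf (K10.f176603 IH) (Lpe (K10.f177709 IH) (Lpr_ft (f268275 IH) (Lpn (LP (LK LD1_c4 LD2_c39 LD3_c18))))))
theorem f268326 : Led Lsl_at (LP (LK LD1_c2 LD2_c57 LD3_c59)) = (LP (LK LD1_c4 LD2_c39 LD3_c21)) :=
  Lgr Lrot51 (Lpr_df (K10.f175672 IH) (Lpr_af (f268322 IH) (Lpr_df (K10.f176063 IH) (Lpn (LP (LK LD1_c4 LD2_c39 LD3_c21))))))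
theorem f176808 : Led Lsl_gt (LP (LK LD1_c4 LD2_c39 LD3_c24)) = (LP (LK LD1_c3 LD2_c3 LD3_c32)) :=
  Lgr Lrot150 (Lpe (K10.f23938 IH) (Lpe (K9.f23956 IH) (Lpe (K9.f23957 IH) (Lpr_gt (K9.f26663 IH) (Lpr_ct (K9.f176801 IH) (Lpr_gt (K9.f101509 IH) (Lpr_ct (K9.f100592 IH) (Lpe (K9.f100595 IH) (Lpe (K9.f100627 IH) (Lpn (LP (LK LD1_c3 LD2_c3 LD3_c32))))))))))))
theorem f268379 : Led Lsl_ff (LP (LK LD1_c2 LD2_c57 LD3_c59)) = (LP (LK LD1_c4 LD2_c39 LD3_c24)) :=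
  Lgr Lrot52 (Lpr_at (f268326 IH) (Lpr_gf (K9.f176059 IH) (Lpe (f176808 IH) (Lpn (LP (LK LD1_c4 LD2_c39 LD3_c24))))))
theorem f268390 : Led Lsl_ft (LP (LK LD1_c2 LD2_c57 LD3_c59)) = (LP (LK LD1_c4 LD2_c39 LD3_c24)) :=
  Lgr Lrot48 (Lpr_ff (f268379 IH) (Lpn (LP (LK LD1_c4 LD2_c39 LD3_c24))))
theorem f268399 : Led Lsl_af (LP (LK LD1_c2 LD2_c58 LD3_c0)) = (LP (LK LD1_c4 LD2_c39 LD3_c24)) :=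
  Lgr Lrot31 (Lpr_gf (K10.f175591 IH) (Lpe (K10.f175788 IH) (Lpr_ft (f268390 IH) (Lpn (LP (LK LD1_c4 LD2_c39 LD3_c24))))))
theorem f268373 : Led Lsl_af (LP (LK LD1_c2 LD2_c57 LD3_c59)) = (LP (LK LD1_c4 LD2_c39 LD3_c21)) :=
  Lgr Lrot0 (Lpr_at (f268326 IH) (Lpn (LP (LK LD1_c4 LD2_c39 LD3_c21))))
theorem f268407 : Led Lsl_ft (LP (LK LD1_c2 LD2_c58 LD3_c0)) = (LP (LK LD1_c4 LD2_c39 LD3_c21)) :=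
  Lgr Lrot101 (Lpr_af (f268399 IH) (Lpe (f268390 IH) (Lpr_af (f268373 IH) (Lpn (LP (LK LD1_c4 LD2_c39 LD3_c21))))))
theorem f268411 : Led Lsl_ff (LP (LK LD1_c1 LD2_c24 LD3_c41)) = (LP (LK LD1_c2 LD2_c16 LD3_c39)) :=
  Lgr Lrot23 (Lpr_ct (K10.f9420 IH) (Lpr_ft (f268407 IH) (Lpr_ct (K9.f176061 IH) (Lpn (LP (LK LD1_c2 LD2_c16 LD3_c39))))))
theorem f268424 : Led Lsl_ft (LP (LK LD1_c1 LD2_c24 LD3_c41)) = (LP (LK LD1_c2 LD2_c16 LD3_c39)) :=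
  Lgr Lrot48 (Lpr_ff (f268411 IH) (Lpn (LP (LK LD1_c2 LD2_c16 LD3_c39))))
theorem f268430 : Led Lsl_ff (LP (LK LD1_c2 LD2_c28 LD3_c2)) = (LP (LK LD1_c2 LD2_c30 LD3_c13)) :=
  Lgr Lrot19 (Lpe (K9.f175393 IH) (Lpr_ft (f268424 IH) (Lpe (K10.f177746 IH) (Lpn (LP (LK LD1_c2 LD2_c30 LD3_c13))))))
theorem f268437 : Led Lsl_at (LP (LK LD1_c2 LD2_c28 LD3_c2)) = (LP (LK LD1_c3 LD2_c0 LD3_c54)) :=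
  Lgr Lrot26 (Lpr_ff (f268430 IH) (Lpr_gt (K10.f177755 IH) (Lpe (K9.f24447 IH) (Lpn (LP (LK LD1_c3 LD2_c0 LD3_c54))))))
theorem f175425 : Led Lsl_ef (LP (LK LD1_c2 LD2_c28 LD3_c2)) = (LP (LK LD1_c1 LD2_c20 LD3_c44)) :=
  Lgr Lrot28 (Lpr_ct (K9.f100656 IH) (Lpr_et (K9.f175286 IH) (Lpr_ct (K10.f175421 IH) (Lpn (LP (LK LD1_c1 LD2_c20 LD3_c44))))))
theorem f268443 : Led Lsl_af (LP (LK LD1_c1 LD2_c20 LD3_c44)) = (LP (LK LD1_c1 LD2_c26 LD3_c14)) :=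
  Lgr Lrot50 (Lpe (f175425 IH) (Lpr_at (f268437 IH) (Lpr_et (K9.f23930 IH) (Lpn (LP (LK LD1_c1 LD2_c26 LD3_c14))))))
theorem f268451 : Led Lsl_ft (LP (LK LD1_c1 LD2_c20 LD3_c45)) = (LP (LK LD1_c1 LD2_c26 LD3_c14)) :=
  Lgr Lrot2 (Lpr_gt (K10.f175847 IH) (Lpr_gt (K10.f60159 IH) (Lpr_af (f268443 IH) (Lpn (LP (LK LD1_c1 LD2_c26 LD3_c14))))))
theorem f268459 : Led Lsl_ff (LP (LK LD1_c1 LD2_c20 LD3_c45)) = (LP (LK LD1_c1 LD2_c26 LD3_c14)) :=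
  Lgr Lrot3 (Lpr_ft (f268451 IH) (Lpn (LP (LK LD1_c1 LD2_c26 LD3_c14))))
theorem f268467 : Led Lsl_at (LP (LK LD1_c1 LD2_c20 LD3_c45)) = (LP (LK LD1_c1 LD2_c26 LD3_c15)) :=
  Lgr Lrot26 (Lpr_ff (f268459 IH) (Lpe (K10.f175930 IH) (Lpe (K10.f60126 IH) (Lpn (LP (LK LD1_c1 LD2_c26 LD3_c15))))))
theorem f193779 : Led Lsl_dt (LP (LK LD1_c0 LD2_c54 LD3_c55)) = (LP (LK LD1_c1 LD2_c5 LD3_c46)) :=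
  Lgr Lrot42 (Lpr_df (K10.f193777 IH) (Lpn (LP (LK LD1_c1 LD2_c5 LD3_c46))))
theorem f26946 : Led Lsl_ct (LP (LK LD1_c4 LD2_c32 LD3_c21)) = (LP (LK LD1_c2 LD2_c13 LD3_c13)) :=
  Lre_c IH (LK LD1_c4 LD2_c32 LD3_c21) (LK LD1_c2 LD2_c13 LD3_c13) Lrfl Lrfl
theorem f23933 : Led Lsl_dt (LP (LK LD1_c1 LD2_c26 LD3_c14)) = (LP (LK LD1_c3 LD2_c0 LD3_c53)) :=
  Lre_d IH (LK LD1_c1 LD2_c26 LD3_c14) (LK LD1_c3 LD2_c0 LD3_c53) Lrfl Lrfl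
theorem f26945 : Led Lsl_ct (LP (LK LD1_c3 LD2_c0 LD3_c53)) = (LP (LK LD1_c6 LD2_c9 LD3_c3)) :=
  Lre_c IH (LK LD1_c3 LD2_c0 LD3_c53) (LK LD1_c6 LD2_c9 LD3_c3) Lrfl Lrfl

end

end K15

end

end Cfsg.Agent.Helper28.S1692
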