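import Cfsg.Agent.Lib.Helper28.S1692.Seeds15

set_option autoImplicit false
set_option maxRecDepth 100000
set_option linter.all false

namespace Cfsg.Agent.Helper28.S1692

open Cfsg.Agent.Helper28
open Cfsg.Spor.ON (Gen)

noncomputable section

namespace K16
abbrev LD1_c0 := D1.c0
abbrev LD1_c1 := D1.c1
abbrev LD1_c2 := D1.c2
abbrev LD1_c3 := D1.c3
abbrev LD1_c4 := D1.c4
abbrev LD1_c5 := D1.c5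
abbrev LD1_c6 := D1.c6
abbrev LD1_c7 := D1.c7
abbrev LD1_c8 := D1.c8
abbrev LD1_c9 := D1.c9
abbrev LD1_c10 := D1.c10
abbrev LD1_c11 := D1.c11
abbrev LD1_c12 := D1.c12
abbrev LD1_c13 := D1.c13
abbrev LD1_c14 := D1.c14
abbrev LD1_c15 := D1.c15
abbrev LD1_c16 := D1.c16
abbrev LD1_c17 := D1.c17
abbrev LD1_c18 := D1.c18
abbrev LD1_c19 := D1.c19
abbrev LD1_c20 := D1.c20
abbrev LD1_c21 := D1.c21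
abbrev LD1_c22 := D1.c22
abbrev LD1_c23 := D1.c23
abbrev LD1_c24 := D1.c24
abbrev LD1_c25 := D1.c25
abbrev LD1_c26 := D1.c26
abbrev LD1_c27 := D1.c27
abbrev LD1_c28 := D1.c28
abbrev LD1_c29 := D1.c29
abbrev LD1_c30 := D1.c30
abbrev LD1_c31 := D1.c31
abbrev LD1_c32 := D1.c32
abbrev LD2_c0 := D2.c0
abbrev LD2_c1 := D2.c1
abbrev LD2_c2 := D2.c2
abbrev LD2_c3 := D2.c3
abbrev LD2_c4 := D2.c4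
abbrev LD2_c5 := D2.c5
abbrev LD2_c6 := D2.c6
abbrev LD2_c7 := D2.c7
abbrev LD2_c8 := D2.c8
abbrev LD2_c9 := D2.c9
abbrev LD2_c10 := D2.c10
abbrev LD2_c11 := D2.c11
abbrev LD2_c12 := D2.c12
abbrev LD2_c13 := D2.c13
abbrev LD2_c14 := D2.c14
abbrev LD2_c15 := D2.c15
abbrev LD2_c16 := D2.c16
abbrev LD2_c17 := D2.c17
abbrev LD2_c18 := D2.c18
abbrev LD2_c19 := D2.c19
abbrev LD2_c20 := D2.c20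
abbrev LD2_c21 := D2.c21
abbrev LD2_c22 := D2.c22
abbrev LD2_c23 := D2.c23
abbrev LD2_c24 := D2.c24
abbrev LD2_c25 := D2.c25
abbrev LD2_c26 := D2.c26
abbrev LD2_c27 := D2.c27
abbrev LD2_c28 := D2.c28
abbrev LD2_c29 := D2.c29
abbrev LD2_c30 := D2.c30
abbrev LD2_c31 := D2.c31
abbrev LD2_c32 := D2.c32
abbrev LD2_c33 := D2.c33
abbrev LD2_c34 := D2.c34
abbrev LD2_c35 := D2.c35
abbrev LD2_c36 := D2.c36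
abbrev LD2_c37 := D2.c37
abbrev LD2_c38 := D2.c38
abbrev LD2_c39 := D2.c39
abbrev LD2_c40 := D2.c40
abbrev LD2_c41 := D2.c41
abbrev LD2_c42 := D2.c42
abbrev LD2_c43 := D2.c43
abbrev LD2_c44 := D2.c44
abbrev LD2_c45 := D2.c45
abbrev LD2_c46 := D2.c46
abbrev LD2_c47 := D2.c47
abbrev LD2_c48 := D2.c48
abbrev LD2_c49 := D2.c49
abbrev LD2_c50 := D2.c50
abbrev LD2_c51 := D2.c51
abbrev LD2_c52 := D2.c52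
abbrev LD2_c53 := D2.c53
abbrev LD2_c54 := D2.c54
abbrev LD2_c55 := D2.c55
abbrev LD2_c56 := D2.c56
abbrev LD2_c57 := D2.c57
abbrev LD2_c58 := D2.c58
abbrev LD2_c59 := D2.c59
abbrev LD3_c0 := D3.c0
abbrev LD3_c1 := D3.c1
abbrev LD3_c2 := D3.c2
abbrev LD3_c3 := D3.c3
abbrev LD3_c4 := D3.c4
abbrev LD3_c5 := D3.c5
abbrev LD3_c6 := D3.c6
abbrev LD3_c7 := D3.c7
abbrev LD3_c8 := D3.c8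
abbrev LD3_c9 := D3.c9
abbrev LD3_c10 := D3.c10
abbrev LD3_c11 := D3.c11
abbrev LD3_c12 := D3.c12
abbrev LD3_c13 := D3.c13
abbrev LD3_c14 := D3.c14
abbrev LD3_c15 := D3.c15
abbrev LD3_c16 := D3.c16
abbrev LD3_c17 := D3.c17
abbrev LD3_c18 := D3.c18
abbrev LD3_c19 := D3.c19
abbrev LD3_c20 := D3.c20
abbrev LD3_c21 := D3.c21
abbrev LD3_c22 := D3.c22
abbrev LD3_c23 := D3.c23
abbrev LD3_c24 := D3.c24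
abbrev LD3_c25 := D3.c25
abbrev LD3_c26 := D3.c26
abbrev LD3_c27 := D3.c27
abbrev LD3_c28 := D3.c28
abbrev LD3_c29 := D3.c29
abbrev LD3_c30 := D3.c30
abbrev LD3_c31 := D3.c31
abbrev LD3_c32 := D3.c32
abbrev LD3_c33 := D3.c33
abbrev LD3_c34 := D3.c34
abbrev LD3_c35 := D3.c35
abbrev LD3_c36 := D3.c36
abbrev LD3_c37 := D3.c37
abbrev LD3_c38 := D3.c38
abbrev LD3_c39 := D3.c39
abbrev LD3_c40 := D3.c40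
abbrev LD3_c41 := D3.c41
abbrev LD3_c42 := D3.c42
abbrev LD3_c43 := D3.c43
abbrev LD3_c44 := D3.c44
abbrev LD3_c45 := D3.c45
abbrev LD3_c46 := D3.c46
abbrev LD3_c47 := D3.c47
abbrev LD3_c48 := D3.c48
abbrev LD3_c49 := D3.c49
abbrev LD3_c50 := D3.c50
abbrev LD3_c51 := D3.c51
abbrev LD3_c52 := D3.c52
abbrev LD3_c53 := D3.c53
abbrev LD3_c54 := D3.c54
abbrev LD3_c55 := D3.c55
abbrev LD3_c56 := D3.c56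
abbrev LD3_c57 := D3.c57
abbrev LD3_c58 := D3.c58
abbrev LD3_c59 := D3.c59
abbrev LD3_c60 := D3.c60
abbrev LD3_c61 := D3.c61
abbrev LG_g := Gen.g
abbrev Lsl_gt : Gen × Bool := sl_gt
alias Lfl_gt := fl_gt
alias Lpr_gt := pr_gt
abbrev Lsl_gf : Gen × Bool := sl_gf
alias Lfl_gf := fl_gf
alias Lpr_gf := pr_gf
alias Lre_g := re_g
alias Leoe_g := eoe_g
abbrev LG_a := Gen.a
abbrev Lsl_at : Gen × Bool := sl_at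
alias Lfl_at := fl_at
alias Lpr_at := pr_at
abbrev Lsl_af : Gen × Bool := sl_af
alias Lfl_af := fl_af
alias Lpr_af := pr_af
alias Lre_a := re_a
alias Leoe_a := eoe_a
abbrev LG_b := Gen.b
abbrev Lsl_bt : Gen × Bool := sl_bt
alias Lfl_bt := fl_bt
alias Lpr_bt := pr_bt
abbrev Lsl_bf : Gen × Bool := sl_bf
alias Lfl_bf := fl_bf
alias Lpr_bf := pr_bf
alias Lre_b := re_b
alias Leoe_b := eoe_b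
abbrev LG_c := Gen.c
abbrev Lsl_ct : Gen × Bool := sl_ct
alias Lfl_ct := fl_ct
alias Lpr_ct := pr_ct
abbrev Lsl_cf : Gen × Bool := sl_cf
alias Lfl_cf := fl_cf
alias Lpr_cf := pr_cf
alias Lre_c := re_c
alias Leoe_c := eoe_c
abbrev LG_d := Gen.d
abbrev Lsl_dt : Gen × Bool := sl_dt
alias Lfl_dt := fl_dt
alias Lpr_dt := pr_dt
abbrev Lsl_df : Gen × Bool := sl_df
alias Lfl_df := fl_df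
alias Lpr_df := pr_df
alias Lre_d := re_d
alias Leoe_d := eoe_d
abbrev LG_e := Gen.e
abbrev Lsl_et : Gen × Bool := sl_et
alias Lfl_et := fl_et
alias Lpr_et := pr_et
abbrev Lsl_ef : Gen × Bool := sl_ef
alias Lfl_ef := fl_ef
alias Lpr_ef := pr_ef
alias Lre_e := re_e
alias Leoe_e := eoe_e
abbrev LG_f := Gen.f
abbrev Lsl_ft : Gen × Bool := sl_ft
alias Lfl_ft := fl_ft
alias Lpr_ft := pr_ft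
abbrev Lsl_ff : Gen × Bool := sl_ff
alias Lfl_ff := fl_ff
alias Lpr_ff := pr_ff
alias Lre_f := re_f
alias Leoe_f := eoe_f
abbrev LK := Pt.mk
abbrev LQ : Type := Qt rels S
abbrev LP (p : Pt) : LQ := P p
abbrev Led (l : Gen × Bool) (c : LQ) : LQ := ed l c
abbrev LEOK (x : Gen) (p : Pt) : Prop := EntryOK rels S fwd inv o plet idx x p
alias Lpe := pe
alias Lpn := pn
alias Lgr := gr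
alias Lpq := pq
alias Lpqs := pqs
alias Llr := lr
alias Leop := eop
alias Lefun := efun
alias Lecon := econ
theorem Lrfl {α : Sort _} {a : α} : a = a := rfl
alias Lrot0 := rot0
alias Lrot1 := rot1
alias Lrot2 := rot2
alias Lrot3 := rot3
alias Lrot4 := rot4
alias Lrot5 := rot5
alias Lrot6 := rot6
alias Lrot7 := rot7
alias Lrot8 := rot8
alias Lrot9 := rot9
alias Lrot10 := rot10
alias Lrot11 := rot11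
alias Lrot12 := rot12
alias Lrot13 := rot13
alias Lrot14 := rot14
alias Lrot15 := rot15
alias Lrot17 := rot17
alias Lrot18 := rot18
alias Lrot19 := rot19
alias Lrot20 := rot20
alias Lrot21 := rot21
alias Lrot23 := rot23
alias Lrot24 := rot24
alias Lrot25 := rot25
alias Lrot26 := rot26
alias Lrot27 := rot27
alias Lrot28 := rot28
alias Lrot29 := rot29
alias Lrot30 := rot30
alias Lrot31 := rot31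
alias Lrot32 := rot32
alias Lrot33 := rot33
alias Lrot34 := rot34
alias Lrot35 := rot35
alias Lrot36 := rot36
alias Lrot37 := rot37
alias Lrot38 := rot38
alias Lrot39 := rot39
alias Lrot40 := rot40
alias Lrot41 := rot41
alias Lrot42 := rot42
alias Lrot43 := rot43
alias Lrot44 := rot44
alias Lrot45 := rot45
alias Lrot46 := rot46
alias Lrot47 := rot47
alias Lrot48 := rot48
alias Lrot49 := rot49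
alias Lrot50 := rot50
alias Lrot51 := rot51
alias Lrot52 := rot52
alias Lrot53 := rot53
alias Lrot54 := rot54
alias Lrot55 := rot55
alias Lrot56 := rot56
alias Lrot57 := rot57
alias Lrot58 := rot58
alias Lrot59 := rot59
alias Lrot60 := rot60
alias Lrot61 := rot61
alias Lrot62 := rot62
alias Lrot63 := rot63
alias Lrot64 := rot64
alias Lrot65 := rot65
alias Lrot66 := rot66
alias Lrot67 := rot67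
alias Lrot68 := rot68
alias Lrot69 := rot69
alias Lrot70 := rot70
alias Lrot71 := rot71
alias Lrot72 := rot72
alias Lrot73 := rot73
alias Lrot74 := rot74
alias Lrot75 := rot75
alias Lrot76 := rot76
alias Lrot77 := rot77
alias Lrot78 := rot78
alias Lrot79 := rot79
alias Lrot80 := rot80
alias Lrot81 := rot81
alias Lrot82 := rot82
alias Lrot83 := rot83
alias Lrot84 := rot84
alias Lrot86 := rot86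
alias Lrot87 := rot87
alias Lrot88 := rot88
alias Lrot90 := rot90
alias Lrot91 := rot91
alias Lrot92 := rot92
alias Lrot93 := rot93
alias Lrot94 := rot94
alias Lrot95 := rot95
alias Lrot96 := rot96
alias Lrot97 := rot97
alias Lrot98 := rot98
alias Lrot99 := rot99
alias Lrot100 := rot100
alias Lrot101 := rot101
alias Lrot102 := rot102
alias Lrot103 := rot103
alias Lrot104 := rot104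
alias Lrot105 := rot105
alias Lrot106 := rot106
alias Lrot107 := rot107
alias Lrot108 := rot108
alias Lrot109 := rot109
alias Lrot110 := rot110
alias Lrot111 := rot111
alias Lrot112 := rot112
alias Lrot113 := rot113
alias Lrot114 := rot114
alias Lrot116 := rot116
alias Lrot117 := rot117
alias Lrot118 := rot118
alias Lrot119 := rot119
alias Lrot120 := rot120
alias Lrot121 := rot121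
alias Lrot122 := rot122
alias Lrot123 := rot123
alias Lrot124 := rot124
alias Lrot125 := rot125
alias Lrot126 := rot126
alias Lrot127 := rot127
alias Lrot128 := rot128
alias Lrot129 := rot129
alias Lrot130 := rot130
alias Lrot131 := rot131
alias Lrot132 := rot132
alias Lrot133 := rot133
alias Lrot134 := rot134
alias Lrot135 := rot135
alias Lrot136 := rot136
alias Lrot137 := rot137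
alias Lrot138 := rot138
alias Lrot139 := rot139
alias Lrot140 := rot140
alias Lrot141 := rot141
alias Lrot142 := rot142
alias Lrot143 := rot143
alias Lrot144 := rot144
alias Lrot145 := rot145
alias Lrot146 := rot146
alias Lrot147 := rot147
alias Lrot148 := rot148
alias Lrot149 := rot149
alias Lrot150 := rot150
alias Lrot152 := rot152
alias Lrot153 := rot153
alias Lrot154 := rot154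
alias Lrot155 := rot155
alias Lrot156 := rot156
alias Lrot157 := rot157
alias Lrot158 := rot158
alias Lrot160 := rot160
alias Lrot161 := rot161
alias Lrot162 := rot162
alias Lrot163 := rot163
alias Lrot164 := rot164
alias Lrot165 := rot165
alias Lrot166 := rot166
alias Lrot167 := rot167
alias Lrot168 := rot168
alias Lrot169 := rot169
alias Lrot170 := rot170
alias Lrot171 := rot171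
alias Lrot172 := rot172
alias Lrot173 := rot173
alias Lrot174 := rot174
alias Lrot175 := rot175
alias Lrot176 := rot176
alias Lrot177 := rot177
alias Lrot179 := rot179
alias Lrot180 := rot180
alias Lrot181 := rot181
alias Lrot183 := rot183
alias Lrot185 := rot185
alias Lrot186 := rot186
alias Lrot187 := rot187
alias Lrot189 := rot189

section
variable (IH : IHT)
include IH

theorem f268469 : Led Lsl_df (LP (LK LD1_c4 LD2_c32 LD3_c21)) = (LP (LK LD1_c6 LD2_c9 LD3_c3)) :=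
  Lgr Lrot106 (Lpr_ct (K15.f26946 IH) (Lpr_dt (K10.f26951 IH) (Lpe (K10.f173362 IH) (Lpr_dt (K15.f193779 IH) (Lpr_ct (K10.f193972 IH) (Lpe (K15.f268467 IH) (Lpr_ff (K15.f268459 IH) (Lpr_dt (K15.f23933 IH) (Lpr_ct (K15.f26945 IH) (Lpn (LP (LK LD1_c6 LD2_c9 LD3_c3))))))))))))
theorem f268471 : Led Lsl_dt (LP (LK LD1_c4 LD2_c32 LD3_c21)) = (LP (LK LD1_c6 LD2_c9 LD3_c3)) :=
  Lgr Lrot42 (Lpr_df (f268469 IH) (Lpn (LP (LK LD1_c6 LD2_c9 LD3_c3))))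
theorem f26950 : Led Lsl_ct (LP (LK LD1_c2 LD2_c13 LD3_c13)) = (LP (LK LD1_c4 LD2_c32 LD3_c21)) :=
  Lre_c IH (LK LD1_c2 LD2_c13 LD3_c13) (LK LD1_c4 LD2_c32 LD3_c21) Lrfl Lrfl
theorem f193977 : Led Lsl_cf (LP (LK LD1_c1 LD2_c5 LD3_c46)) = (LP (LK LD1_c1 LD2_c26 LD3_c15)) :=
  Lgr Lrot11 (Lpr_ct (K10.f193972 IH) (Lpn (LP (LK LD1_c1 LD2_c26 LD3_c15))))
theorem f60110 : Led Lsl_dt (LP (LK LD1_c3 LD2_c0 LD3_c56)) = (LP (LK LD1_c1 LD2_c26 LD3_c15)) :=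
  Lre_d IH (LK LD1_c3 LD2_c0 LD3_c56) (LK LD1_c1 LD2_c26 LD3_c15) Lrfl Lrfl
theorem f26949 : Led Lsl_ct (LP (LK LD1_c6 LD2_c9 LD3_c3)) = (LP (LK LD1_c3 LD2_c0 LD3_c53)) :=
  Lre_c IH (LK LD1_c6 LD2_c9 LD3_c3) (LK LD1_c3 LD2_c0 LD3_c53) Lrfl Lrfl
theorem f68595 : Led Lsl_dt (LP (LK LD1_c1 LD2_c20 LD3_c44)) = (LP (LK LD1_c2 LD2_c49 LD3_c11)) :=
  Lre_d IH (LK LD1_c1 LD2_c20 LD3_c44) (LK LD1_c2 LD2_c49 LD3_c11) Lrfl Lrfl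
theorem f22900 : Led Lsl_dt (LP (LK LD1_c3 LD2_c0 LD3_c53)) = (LP (LK LD1_c1 LD2_c26 LD3_c14)) :=
  Lre_d IH (LK LD1_c3 LD2_c0 LD3_c53) (LK LD1_c1 LD2_c26 LD3_c14) Lrfl Lrfl
theorem f268449 : Led Lsl_at (LP (LK LD1_c2 LD2_c49 LD3_c11)) = (LP (LK LD1_c3 LD2_c0 LD3_c53)) :=
  Lgr Lrot51 (Lpe (f68595 IH) (Lpr_af (K15.f268443 IH) (Lpe (f22900 IH) (Lpn (LP (LK LD1_c3 LD2_c0 LD3_c53))))))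
theorem f268477 : Led Lsl_ft (LP (LK LD1_c3 LD2_c0 LD3_c56)) = (LP (LK LD1_c2 LD2_c49 LD3_c11)) :=
  Lgr Lrot142 (Lpr_dt (f60110 IH) (Lpe (f193977 IH) (Lpe (K10.f193777 IH) (Lpe (K10.f180350 IH) (Lpr_dt (K10.f23962 IH) (Lpr_ct (f26950 IH) (Lpr_dt (f268471 IH) (Lpr_ct (f26949 IH) (Lpe (f268449 IH) (Lpn (LP (LK LD1_c2 LD2_c49 LD3_c11))))))))))))
theorem f268487 : Led Lsl_ff (LP (LK LD1_c3 LD2_c0 LD3_c56)) = (LP (LK LD1_c2 LD2_c49 LD3_c11)) :=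
  Lgr Lrot3 (Lpr_ft (f268477 IH) (Lpn (LP (LK LD1_c2 LD2_c49 LD3_c11))))
theorem f20228 : Led Lsl_ct (LP (LK LD1_c1 LD2_c3 LD3_c31)) = (LP (LK LD1_c2 LD2_c12 LD3_c58)) :=
  Lre_c IH (LK LD1_c1 LD2_c3 LD3_c31) (LK LD1_c2 LD2_c12 LD3_c58) Lrfl Lrfl
theorem f164276 : Led Lsl_ef (LP (LK LD1_c1 LD2_c4 LD3_c31)) = (LP (LK LD1_c2 LD2_c12 LD3_c58)) :=
  Lgr Lrot28 (Lpr_ct (K10.f164263 IH) (Lpr_et (K9.f164272 IH) (Lpr_ct (f20228 IH) (Lpn (LP (LK LD1_c2 LD2_c12 LD3_c58))))))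
theorem f175511 : Led Lsl_gt (LP (LK LD1_c2 LD2_c49 LD3_c11)) = (LP (LK LD1_c4 LD2_c31 LD3_c54)) :=
  Lgr Lrot112 (Lpe (f68595 IH) (Lpe (K15.f175425 IH) (Lpe (K9.f175413 IH) (Lpe (K10.f26655 IH) (Lpe (K10.f175415 IH) (Lpe (K10.f71419 IH) (Lpe (K10.f26790 IH) (Lpr_gf (K10.f175503 IH) (Lpr_ef (f164276 IH) (Lpr_dt (K10.f60207 IH) (Lpn (LP (LK LD1_c4 LD2_c31 LD3_c54)))))))))))))
theorem f268496 : Led Lsl_at (LP (LK LD1_c3 LD2_c0 LD3_c56)) = (LP (LK LD1_c2 LD2_c49 LD3_c13)) :=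
  Lgr Lrot26 (Lpr_ff (f268487 IH) (Lpr_gt (f175511 IH) (Lpe (K10.f180348 IH) (Lpn (LP (LK LD1_c2 LD2_c49 LD3_c13))))))
theorem f268465 : Led Lsl_ft (LP (LK LD1_c2 LD2_c49 LD3_c13)) = (LP (LK LD1_c3 LD2_c0 LD3_c53)) :=
  Lgr Lrot54 (Lpe (K10.f175854 IH) (Lpr_ff (K15.f268459 IH) (Lpe (f22900 IH) (Lpn (LP (LK LD1_c3 LD2_c0 LD3_c53))))))
theorem f268502 : Led Lsl_af (LP (LK LD1_c2 LD2_c49 LD3_c11)) = (LP (LK LD1_c3 LD2_c0 LD3_c53)) :=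
  Lgr Lrot45 (Lpe (f268487 IH) (Lpr_at (f268496 IH) (Lpr_ft (f268465 IH) (Lpn (LP (LK LD1_c3 LD2_c0 LD3_c53))))))
theorem f68594 : Led Lsl_ct (LP (LK LD1_c1 LD2_c19 LD3_c57)) = (LP (LK LD1_c2 LD2_c47 LD3_c9)) :=
  Lre_c IH (LK LD1_c1 LD2_c19 LD3_c57) (LK LD1_c2 LD2_c47 LD3_c9) Lrfl Lrfl
theorem f68782 : Led Lsl_dt (LP (LK LD1_c2 LD2_c47 LD3_c9)) = (LP (LK LD1_c5 LD2_c42 LD3_c24)) :=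
  Lre_d IH (LK LD1_c2 LD2_c47 LD3_c9) (LK LD1_c5 LD2_c42 LD3_c24) Lrfl Lrfl
theorem f268508 : Led Lsl_cf (LP (LK LD1_c2 LD2_c49 LD3_c11)) = (LP (LK LD1_c5 LD2_c42 LD3_c24)) :=
  Lgr Lrot102 (Lpr_af (f268502 IH) (Lpe (f268465 IH) (Lpr_dt (K10.f175858 IH) (Lpr_ct (K10.f175852 IH) (Lpe (K9.f161776 IH) (Lpr_ct (K10.f175475 IH) (Lpr_dt (K10.f68578 IH) (Lpr_ct (f68594 IH) (Lpr_dt (f68782 IH) (Lpn (LP (LK LD1_c5 LD2_c42 LD3_c24))))))))))))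
theorem f68621 : Led Lsl_dt (LP (LK LD1_c2 LD2_c49 LD3_c11)) = (LP (LK LD1_c1 LD2_c20 LD3_c44)) :=
  Lre_d IH (LK LD1_c2 LD2_c49 LD3_c11) (LK LD1_c1 LD2_c20 LD3_c44) Lrfl Lrfl
theorem f268463 : Led Lsl_ft (LP (LK LD1_c0 LD2_c40 LD3_c55)) = (LP (LK LD1_c1 LD2_c5 LD3_c45)) :=
  Lgr Lrot4 (Lpe (K10.f175852 IH) (Lpr_ff (K15.f268459 IH) (Lpr_cf (K10.f175907 IH) (Lpn (LP (LK LD1_c1 LD2_c5 LD3_c45))))))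
theorem f268520 : Led Lsl_af (LP (LK LD1_c0 LD2_c40 LD3_c54)) = (LP (LK LD1_c1 LD2_c5 LD3_c45)) :=
  Lgr Lrot109 (Lpr_cf (K10.f175423 IH) (Lpe (f68621 IH) (Lpr_cf (f268508 IH) (Lpe (f68782 IH) (Lpe (f68594 IH) (Lpe (K10.f68578 IH) (Lpe (K10.f175475 IH) (Lpr_df (K9.f161776 IH) (Lpr_ft (f268463 IH) (Lpn (LP (LK LD1_c1 LD2_c5 LD3_c45))))))))))))
theorem f268527 : Led Lsl_at (LP (LK LD1_c1 LD2_c11 LD3_c10)) = (LP (LK LD1_c1 LD2_c27 LD3_c44)) :=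
  Lgr Lrot80 (Lpr_ef (K10.f175289 IH) (Lpr_af (f268520 IH) (Lpr_ef (K9.f101514 IH) (Lpn (LP (LK LD1_c1 LD2_c27 LD3_c44))))))
theorem f241447 : Led Lsl_ff (LP (LK LD1_c1 LD2_c11 LD3_c10)) = (LP (LK LD1_c1 LD2_c27 LD3_c42)) :=
  Lgr Lrot25 (Lpr_bt (K10.f175304 IH) (Lpr_ft (K13.f241445 IH) (Lpr_bt (K12.f176791 IH) (Lpn (LP (LK LD1_c1 LD2_c27 LD3_c42))))))
theorem f241850 : Led Lsl_bt (LP (LK LD1_c2 LD2_c33 LD3_c18)) = (LP (LK LD1_c3 LD2_c3 LD3_c41)) :=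
  Lgr Lrot127 (Lpr_bf (K13.f241848 IH) (Lpn (LP (LK LD1_c3 LD2_c3 LD3_c41))))
theorem f241864 : Led Lsl_at (LP (LK LD1_c1 LD2_c11 LD3_c8)) = (LP (LK LD1_c1 LD2_c27 LD3_c42)) :=
  Lgr Lrot67 (Lpe (K12.f26039 IH) (Lpr_af (K13.f241860 IH) (Lpe (f241850 IH) (Lpr_af (K13.f241435 IH) (Lpe (K12.f204907 IH) (Lpn (LP (LK LD1_c1 LD2_c27 LD3_c42))))))))
theorem f268531 : Led Lsl_ff (LP (LK LD1_c1 LD2_c11 LD3_c8)) = (LP (LK LD1_c1 LD2_c27 LD3_c44)) :=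
  Lgr Lrot30 (Lpr_at (f241864 IH) (Lpe (f241447 IH) (Lpr_at (f268527 IH) (Lpn (LP (LK LD1_c1 LD2_c27 LD3_c44))))))
theorem f268539 : Led Lsl_ft (LP (LK LD1_c1 LD2_c11 LD3_c8)) = (LP (LK LD1_c1 LD2_c27 LD3_c44)) :=
  Lgr Lrot48 (Lpr_ff (f268531 IH) (Lpn (LP (LK LD1_c1 LD2_c27 LD3_c44))))
theorem f268455 : Led Lsl_ff (LP (LK LD1_c0 LD2_c40 LD3_c55)) = (LP (LK LD1_c1 LD2_c5 LD3_c45)) :=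
  Lgr Lrot23 (Lpe (K10.f175848 IH) (Lpr_ft (K15.f268451 IH) (Lpr_ct (K10.f175910 IH) (Lpn (LP (LK LD1_c1 LD2_c5 LD3_c45))))))
theorem f268547 : Led Lsl_ff (LP (LK LD1_c0 LD2_c57 LD3_c1)) = (LP (LK LD1_c0 LD2_c58 LD3_c51)) :=
  Lgr Lrot72 (Lpe (K10.f175299 IH) (Lpr_ft (f268539 IH) (Lpe (K9.f101514 IH) (Lpe (f268455 IH) (Lpe (K10.f180264 IH) (Lpn (LP (LK LD1_c0 LD2_c58 LD3_c51))))))))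
theorem f268553 : Led Lsl_at (LP (LK LD1_c0 LD2_c57 LD3_c1)) = (LP (LK LD1_c0 LD2_c57 LD3_c31)) :=
  Lgr Lrot26 (Lpr_ff (f268547 IH) (Lpr_gt (K10.f180257 IH) (Lpe (K9.f177771 IH) (Lpn (LP (LK LD1_c0 LD2_c57 LD3_c31))))))
theorem f268561 : Led Lsl_af (LP (LK LD1_c0 LD2_c25 LD3_c53)) = (LP (LK LD1_c0 LD2_c26 LD3_c7)) :=
  Lgr Lrot117 (Lpr_dt (K9.f28337 IH) (Lpr_at (f268553 IH) (Lpr_dt (K9.f59134 IH) (Lpn (LP (LK LD1_c0 LD2_c26 LD3_c7))))))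
theorem f268571 : Led Lsl_ft (LP (LK LD1_c0 LD2_c27 LD3_c29)) = (LP (LK LD1_c0 LD2_c26 LD3_c7)) :=
  Lgr Lrot2 (Lpr_gt (K10.f6815 IH) (Lpe (K10.f185839 IH) (Lpr_af (f268561 IH) (Lpn (LP (LK LD1_c0 LD2_c26 LD3_c7))))))
theorem f240553 : Led Lsl_ff (LP (LK LD1_c0 LD2_c11 LD3_c29)) = (LP (LK LD1_c0 LD2_c11 LD3_c36)) :=
  Lgr Lrot25 (Lpr_bt (K10.f183193 IH) (Lpr_ft (K13.f240551 IH) (Lpe (K10.f181424 IH) (Lpn (LP (LK LD1_c0 LD2_c11 LD3_c36))))))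
theorem f268577 : Led Lsl_ff (LP (LK LD1_c0 LD2_c27 LD3_c39)) = (LP (LK LD1_c0 LD2_c25 LD3_c51)) :=
  Lgr Lrot72 (Lpr_et (K10.f170308 IH) (Lpr_ft (f268571 IH) (Lpr_et (K9.f8258 IH) (Lpe (f240553 IH) (Lpr_et (K9.f183197 IH) (Lpn (LP (LK LD1_c0 LD2_c25 LD3_c51))))))))
theorem f268583 : Led Lsl_at (LP (LK LD1_c0 LD2_c27 LD3_c39)) = (LP (LK LD1_c0 LD2_c26 LD3_c48)) :=
  Lgr Lrot26 (Lpr_ff (f268577 IH) (Lpr_gt (K9.f183227 IH) (Lpr_gt (K9.f53314 IH) (Lpn (LP (LK LD1_c0 LD2_c26 LD3_c48))))))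
theorem f268591 : Led Lsl_af (LP (LK LD1_c0 LD2_c24 LD3_c51)) = (LP (LK LD1_c0 LD2_c14 LD3_c39)) :=
  Lgr Lrot117 (Lpe (K10.f170299 IH) (Lpr_at (f268583 IH) (Lpe (K9.f178473 IH) (Lpn (LP (LK LD1_c0 LD2_c14 LD3_c39))))))
theorem f268601 : Led Lsl_ft (LP (LK LD1_c0 LD2_c24 LD3_c52)) = (LP (LK LD1_c0 LD2_c14 LD3_c39)) :=
  Lgr Lrot2 (Lpr_gt (K9.f28326 IH) (Lpr_gt (K9.f6813 IH) (Lpr_af (f268591 IH) (Lpn (LP (LK LD1_c0 LD2_c14 LD3_c39))))))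
theorem f268613 : Led Lsl_ff (LP (LK LD1_c0 LD2_c24 LD3_c52)) = (LP (LK LD1_c0 LD2_c14 LD3_c39)) :=
  Lgr Lrot3 (Lpr_ft (f268601 IH) (Lpn (LP (LK LD1_c0 LD2_c14 LD3_c39))))
theorem f268623 : Led Lsl_et (LP (LK LD1_c1 LD2_c31 LD3_c26)) = (LP (LK LD1_c1 LD2_c10 LD3_c29)) :=
  Lgr Lrot69 (Lpe (K13.f242611 IH) (Lpe (K10.f28385 IH) (Lpr_ff (f268613 IH) (Lpe (K9.f161772 IH) (Lpe (K10.f161779 IH) (Lpn (LP (LK LD1_c1 LD2_c10 LD3_c29))))))))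
theorem f185958 : Led Lsl_gf (LP (LK LD1_c1 LD2_c27 LD3_c45)) = (LP (LK LD1_c0 LD2_c41 LD3_c6)) :=
  Lgr Lrot141 (Lpe (K14.f101534 IH) (Lpr_dt (K9.f101524 IH) (Lpe (K10.f185956 IH) (Lpe (K10.f26033 IH) (Lpr_et (K10.f185950 IH) (Lpe (K10.f56042 IH) (Lpr_dt (K10.f53316 IH) (Lpr_gt (K11.f183223 IH) (Lpe (K10.f179902 IH) (Lpr_et (K10.f59525 IH) (Lpn (LP (LK LD1_c0 LD2_c41 LD3_c6)))))))))))))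
theorem f268633 : Led Lsl_gf (LP (LK LD1_c1 LD2_c28 LD3_c54)) = (LP (LK LD1_c1 LD2_c10 LD3_c29)) :=
  Lgr Lrot141 (Lpe (K10.f59020 IH) (Lpr_dt (K11.f59019 IH) (Lpr_gt (K11.f210296 IH) (Lpe (K1.f25934 IH) (Lpr_et (K11.f204400 IH) (Lpe (K11.f210471 IH) (Lpr_dt (K10.f59029 IH) (Lpe (f185958 IH) (Lpe (K14.f205176 IH) (Lpr_et (f268623 IH) (Lpn (LP (LK LD1_c1 LD2_c10 LD3_c29)))))))))))))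
theorem f186485 : Led Lsl_dt (LP (LK LD1_c1 LD2_c10 LD3_c27)) = (LP (LK LD1_c1 LD2_c28 LD3_c54)) :=
  Lgr Lrot77 (Lpr_ef (K10.f186483 IH) (Lpe (K10.f186475 IH) (Lpe (K10.f186466 IH) (Lpe (K11.f59019 IH) (Lpe (K10.f186463 IH) (Lpn (LP (LK LD1_c1 LD2_c28 LD3_c54))))))))
theorem f268641 : Led Lsl_dt (LP (LK LD1_c1 LD2_c5 LD3_c45)) = (LP (LK LD1_c1 LD2_c10 LD3_c29)) :=
  Lgr Lrot136 (Lpr_et (K10.f101525 IH) (Lpe (K10.f179947 IH) (Lpr_ef (K10.f179906 IH) (Lpe (K10.f179904 IH) (Lpe (K10.f37720 IH) (Lpr_df (K10.f37703 IH) (Lpe (K10.f59524 IH) (Lpe (K10.f186481 IH) (Lpr_dt (f186485 IH) (Lpr_gf (f268633 IH) (Lpn (LP (LK LD1_c1 LD2_c10 LD3_c29)))))))))))))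
theorem f268655 : Led Lsl_gt (LP (LK LD1_c2 LD2_c12 LD3_c58)) = (LP (LK LD1_c1 LD2_c19 LD3_c58)) :=
  Lgr Lrot187 (Lpe (f20228 IH) (Lpe (K9.f20227 IH) (Lpr_dt (K9.f20214 IH) (Lpr_gt (K9.f9535 IH) (Lpr_ct (K1.f9526 IH) (Lpr_gt (K9.f20229 IH) (Lpr_ct (K10.f175910 IH) (Lpr_dt (f268641 IH) (Lpr_cf (K10.f175480 IH) (Lpn (LP (LK LD1_c1 LD2_c19 LD3_c58))))))))))))
theorem f23030 : Led Lsl_dt (LP (LK LD1_c1 LD2_c25 LD3_c49)) = (LP (LK LD1_c3 LD2_c0 LD3_c4)) :=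
  Lre_d IH (LK LD1_c1 LD2_c25 LD3_c49) (LK LD1_c3 LD2_c0 LD3_c4) Lrfl Lrfl
theorem f164274 : Led Lsl_dt (LP (LK LD1_c2 LD2_c14 LD3_c48)) = (LP (LK LD1_c1 LD2_c4 LD3_c31)) :=
  Lre_d IH (LK LD1_c2 LD2_c14 LD3_c48) (LK LD1_c1 LD2_c4 LD3_c31) Lrfl Lrfl
theorem f227558 : Led Lsl_gt (LP (LK LD1_c3 LD2_c0 LD3_c4)) = (LP (LK LD1_c2 LD2_c14 LD3_c48)) :=
  Lgr Lrot49 (Lpe (f23030 IH) (Lpr_gf (K12.f227552 IH) (Lpe (K12.f24552 IH) (Lpe (K12.f211746 IH) (Lpe (K9.f20668 IH) (Lpr_gt (K9.f20724 IH) (Lpe (K9.f164267 IH) (Lpe (K10.f164263 IH) (Lpe (f164274 IH) (Lpn (LP (LK LD1_c2 LD2_c14 LD3_c48))))))))))))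
theorem f23029 : Led Lsl_et (LP (LK LD1_c1 LD2_c25 LD3_c49)) = (LP (LK LD1_c0 LD2_c39 LD3_c39)) :=
  Lre_e IH (LK LD1_c1 LD2_c25 LD3_c49) (LK LD1_c0 LD2_c39 LD3_c39) Lrfl Lrfl
theorem f68732 : Led Lsl_dt (LP (LK LD1_c1 LD2_c19 LD3_c58)) = (LP (LK LD1_c2 LD2_c47 LD3_c10)) :=
  Lre_d IH (LK LD1_c1 LD2_c19 LD3_c58) (LK LD1_c2 LD2_c47 LD3_c10) Lrfl Lrfl
theorem f268657 : Led Lsl_gf (LP (LK LD1_c2 LD2_c49 LD3_c16)) = (LP (LK LD1_c2 LD2_c47 LD3_c10)) :=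
  Lgr Lrot134 (Lpe (K1.f59935 IH) (Lpe (K1.f59918 IH) (Lpr_gt (K9.f20756 IH) (Lpe (f23029 IH) (Lpr_dt (f23030 IH) (Lpr_gt (f227558 IH) (Lpe (K10.f164269 IH) (Lpr_et (K10.f164280 IH) (Lpr_gt (f268655 IH) (Lpr_dt (f68732 IH) (Lpn (LP (LK LD1_c2 LD2_c47 LD3_c10)))))))))))))
theorem f68795 : Led Lsl_ft (LP (LK LD1_c2 LD2_c47 LD3_c10)) = (LP (LK LD1_c1 LD2_c19 LD3_c57)) :=
  Lre_f IH (LK LD1_c2 LD2_c47 LD3_c10) (LK LD1_c1 LD2_c19 LD3_c57) Lrfl Lrfl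
theorem f268664 : Led Lsl_af (LP (LK LD1_c2 LD2_c13 LD3_c13)) = (LP (LK LD1_c1 LD2_c19 LD3_c57)) :=
  Lgr Lrot31 (Lpe (K10.f175932 IH) (Lpr_gf (f268657 IH) (Lpr_ft (f68795 IH) (Lpn (LP (LK LD1_c1 LD2_c19 LD3_c57))))))
theorem f68591 : Led Lsl_ft (LP (LK LD1_c1 LD2_c19 LD3_c57)) = (LP (LK LD1_c2 LD2_c47 LD3_c10)) :=
  Lre_f IH (LK LD1_c1 LD2_c19 LD3_c57) (LK LD1_c2 LD2_c47 LD3_c10) Lrfl Lrfl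
theorem f59821 : Led Lsl_gt (LP (LK LD1_c1 LD2_c20 LD3_c46)) = (LP (LK LD1_c2 LD2_c49 LD3_c14)) :=
  Lre_g IH (LK LD1_c1 LD2_c20 LD3_c46) (LK LD1_c2 LD2_c49 LD3_c14) Lrfl Lrfl
theorem f68592 : Led Lsl_at (LP (LK LD1_c2 LD2_c47 LD3_c10)) = (LP (LK LD1_c2 LD2_c49 LD3_c14)) :=
  Lgr Lrot26 (Lpe (f68591 IH) (Lpr_gt (K10.f68579 IH) (Lpr_gt (f59821 IH) (Lpn (LP (LK LD1_c2 LD2_c49 LD3_c14))))))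
theorem f68725 : Led Lsl_af (LP (LK LD1_c2 LD2_c47 LD3_c10)) = (LP (LK LD1_c2 LD2_c49 LD3_c14)) :=
  Lgr Lrot0 (Lpr_at (f68592 IH) (Lpn (LP (LK LD1_c2 LD2_c49 LD3_c14))))
theorem f268674 : Led Lsl_ft (LP (LK LD1_c2 LD2_c13 LD3_c13)) = (LP (LK LD1_c2 LD2_c49 LD3_c14)) :=
  Lgr Lrot101 (Lpr_af (f268664 IH) (Lpe (f68795 IH) (Lpr_af (f68725 IH) (Lpn (LP (LK LD1_c2 LD2_c49 LD3_c14))))))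
theorem f60129 : Led Lsl_ct (LP (LK LD1_c3 LD2_c0 LD3_c56)) = (LP (LK LD1_c6 LD2_c9 LD3_c6)) :=
  Lre_c IH (LK LD1_c3 LD2_c0 LD3_c56) (LK LD1_c6 LD2_c9 LD3_c6) Lrfl Lrfl
theorem f68728 : Led Lsl_ct (LP (LK LD1_c5 LD2_c42 LD3_c25)) = (LP (LK LD1_c2 LD2_c47 LD3_c10)) :=
  Lre_c IH (LK LD1_c5 LD2_c42 LD3_c25) (LK LD1_c2 LD2_c47 LD3_c10) Lrfl Lrfl
theorem f268686 : Led Lsl_dt (LP (LK LD1_c6 LD2_c9 LD3_c6)) = (LP (LK LD1_c5 LD2_c42 LD3_c25)) :=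
  Lgr Lrot120 (Lpe (f60129 IH) (Lpe (K10.f60128 IH) (Lpe (K10.f193972 IH) (Lpe (K15.f193779 IH) (Lpr_cf (K10.f173362 IH) (Lpe (K10.f26951 IH) (Lpr_ft (f268674 IH) (Lpe (f68725 IH) (Lpe (f68728 IH) (Lpn (LP (LK LD1_c5 LD2_c42 LD3_c25))))))))))))
theorem f268518 : Led Lsl_ft (LP (LK LD1_c6 LD2_c9 LD3_c6)) = (LP (LK LD1_c5 LD2_c42 LD3_c24)) :=
  Lgr Lrot4 (Lpe (f60129 IH) (Lpr_ff (f268487 IH) (Lpr_cf (f268508 IH) (Lpn (LP (LK LD1_c5 LD2_c42 LD3_c24))))))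
theorem f68794 : Led Lsl_dt (LP (LK LD1_c2 LD2_c47 LD3_c10)) = (LP (LK LD1_c1 LD2_c19 LD3_c58)) :=
  Lre_d IH (LK LD1_c2 LD2_c47 LD3_c10) (LK LD1_c1 LD2_c19 LD3_c58) Lrfl Lrfl
theorem f268629 : Led Lsl_df (LP (LK LD1_c1 LD2_c5 LD3_c45)) = (LP (LK LD1_c1 LD2_c10 LD3_c29)) :=
  Lgr Lrot70 (Lpr_et (K10.f101525 IH) (Lpr_dt (K9.f101510 IH) (Lpr_et (K14.f101534 IH) (Lpe (K14.f205152 IH) (Lpr_et (f268623 IH) (Lpn (LP (LK LD1_c1 LD2_c10 LD3_c29))))))))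
theorem f268694 : Led Lsl_at (LP (LK LD1_c5 LD2_c42 LD3_c24)) = (LP (LK LD1_c6 LD2_c9 LD3_c3)) :=
  Lgr Lrot33 (Lpe (f268518 IH) (Lpr_dt (f268686 IH) (Lpr_ct (f68728 IH) (Lpr_dt (f68794 IH) (Lpe (K10.f175480 IH) (Lpe (f268629 IH) (Lpe (K10.f175907 IH) (Lpr_dt (K15.f23933 IH) (Lpr_ct (K15.f26945 IH) (Lpn (LP (LK LD1_c6 LD2_c9 LD3_c3))))))))))))
theorem f60130 : Led Lsl_ct (LP (LK LD1_c6 LD2_c9 LD3_c6)) = (LP (LK LD1_c3 LD2_c0 LD3_c56)) :=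
  Lre_c IH (LK LD1_c6 LD2_c9 LD3_c6) (LK LD1_c3 LD2_c0 LD3_c56) Lrfl Lrfl
theorem f175855 : Led Lsl_ct (LP (LK LD1_c2 LD2_c49 LD3_c13)) = (LP (LK LD1_c5 LD2_c46 LD3_c54)) :=
  Lre_c IH (LK LD1_c2 LD2_c49 LD3_c13) (LK LD1_c5 LD2_c46 LD3_c54) Lrfl Lrfl
theorem f268498 : Led Lsl_af (LP (LK LD1_c6 LD2_c9 LD3_c6)) = (LP (LK LD1_c5 LD2_c46 LD3_c54)) :=
  Lgr Lrot68 (Lpr_ct (f60130 IH) (Lpr_at (f268496 IH) (Lpr_ct (f175855 IH) (Lpn (LP (LK LD1_c5 LD2_c46 LD3_c54))))))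
theorem f268699 : Led Lsl_ff (LP (LK LD1_c5 LD2_c46 LD3_c54)) = (LP (LK LD1_c6 LD2_c9 LD3_c3)) :=
  Lgr Lrot30 (Lpe (f268498 IH) (Lpr_ft (f268518 IH) (Lpr_at (f268694 IH) (Lpn (LP (LK LD1_c6 LD2_c9 LD3_c3))))))
theorem f268701 : Led Lsl_ft (LP (LK LD1_c5 LD2_c46 LD3_c54)) = (LP (LK LD1_c6 LD2_c9 LD3_c3)) :=
  Lgr Lrot48 (Lpr_ff (f268699 IH) (Lpn (LP (LK LD1_c6 LD2_c9 LD3_c3))))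
theorem f68737 : Led Lsl_ct (LP (LK LD1_c5 LD2_c46 LD3_c56)) = (LP (LK LD1_c2 LD2_c49 LD3_c14)) :=
  Lre_c IH (LK LD1_c5 LD2_c46 LD3_c56) (LK LD1_c2 LD2_c49 LD3_c14) Lrfl Lrfl
theorem f175856 : Led Lsl_dt (LP (LK LD1_c5 LD2_c46 LD3_c54)) = (LP (LK LD1_c5 LD2_c46 LD3_c56)) :=
  Lgr Lrot120 (Lpe (f175855 IH) (Lpe (K10.f175854 IH) (Lpr_cf (K10.f175848 IH) (Lpe (K9.f161773 IH) (Lpr_cf (K10.f174959 IH) (Lpe (K10.f68599 IH) (Lpr_ft (f68591 IH) (Lpr_at (f68592 IH) (Lpe (f68737 IH) (Lpn (LP (LK LD1_c5 LD2_c46 LD3_c56))))))))))))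
theorem f268678 : Led Lsl_ft (LP (LK LD1_c2 LD2_c13 LD3_c14)) = (LP (LK LD1_c1 LD2_c3 LD3_c41)) :=
  Lre_f IH (LK LD1_c2 LD2_c13 LD3_c14) (LK LD1_c1 LD2_c3 LD3_c41) Lrfl Lrfl
theorem f268679 : Led Lsl_df (LP (LK LD1_c2 LD2_c13 LD3_c14)) = (LP (LK LD1_c2 LD2_c49 LD3_c14)) :=
  Lgr Lrot78 (Lpr_ft (f268678 IH) (Lpr_dt (K10.f23962 IH) (Lpr_ft (f268674 IH) (Lpn (LP (LK LD1_c2 LD2_c49 LD3_c14))))))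
theorem f268510 : Led Lsl_at (LP (LK LD1_c6 LD2_c9 LD3_c3)) = (LP (LK LD1_c5 LD2_c42 LD3_c24)) :=
  Lgr Lrot107 (Lpe (K15.f26945 IH) (Lpe (f268449 IH) (Lpr_cf (f268508 IH) (Lpn (LP (LK LD1_c5 LD2_c42 LD3_c24))))))
theorem f268513 : Led Lsl_ct (LP (LK LD1_c2 LD2_c49 LD3_c11)) = (LP (LK LD1_c5 LD2_c42 LD3_c24)) :=
  Lgr Lrot59 (Lpr_cf (f268508 IH) (Lpn (LP (LK LD1_c5 LD2_c42 LD3_c24))))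
theorem f268705 : Led Lsl_ct (LP (LK LD1_c2 LD2_c13 LD3_c14)) = (LP (LK LD1_c1 LD2_c28 LD3_c30)) :=
  Lgr Lrot41 (Lpr_df (f268679 IH) (Lpe (f68737 IH) (Lpe (f175856 IH) (Lpr_ft (f268701 IH) (Lpr_at (f268510 IH) (Lpe (f268513 IH) (Lpe (f68595 IH) (Lpe (K10.f175421 IH) (Lpe (K13.f60733 IH) (Lpn (LP (LK LD1_c1 LD2_c28 LD3_c30))))))))))))
theorem f60460 : Led Lsl_dt (LP (LK LD1_c0 LD2_c40 LD3_c54)) = (LP (LK LD1_c1 LD2_c28 LD3_c30)) :=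
  Lre_d IH (LK LD1_c0 LD2_c40 LD3_c54) (LK LD1_c1 LD2_c28 LD3_c30) Lrfl Lrfl
theorem f60158 : Led Lsl_ct (LP (LK LD1_c0 LD2_c36 LD3_c45)) = (LP (LK LD1_c1 LD2_c19 LD3_c38)) :=
  Lre_c IH (LK LD1_c0 LD2_c36 LD3_c45) (LK LD1_c1 LD2_c19 LD3_c38) Lrfl Lrfl
theorem f268717 : Led Lsl_gf (LP (LK LD1_c2 LD2_c13 LD3_c14)) = (LP (LK LD1_c1 LD2_c19 LD3_c38)) :=
  Lgr Lrot104 (Lpr_ct (f268705 IH) (Lpe (f60460 IH) (Lpr_cf (K10.f175423 IH) (Lpe (K10.f60159 IH) (Lpe (K1.f60119 IH) (Lpe (K9.f60151 IH) (Lpe (K9.f9458 IH) (Lpr_gt (K9.f22412 IH) (Lpr_ct (f60158 IH) (Lpn (LP (LK LD1_c1 LD2_c19 LD3_c38))))))))))))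
theorem f268711 : Led Lsl_ef (LP (LK LD1_c2 LD2_c13 LD3_c14)) = (LP (LK LD1_c1 LD2_c20 LD3_c5)) :=
  Lgr Lrot28 (Lpr_ct (f268705 IH) (Lpr_et (K13.f242626 IH) (Lpr_ct (K13.f172712 IH) (Lpn (LP (LK LD1_c1 LD2_c20 LD3_c5))))))
theorem f172718 : Led Lsl_dt (LP (LK LD1_c1 LD2_c20 LD3_c5)) = (LP (LK LD1_c2 LD2_c47 LD3_c34)) :=
  Lre_d IH (LK LD1_c1 LD2_c20 LD3_c5) (LK LD1_c2 LD2_c47 LD3_c34) Lrfl Lrfl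
theorem f176904 : Led Lsl_ct (LP (LK LD1_c1 LD2_c19 LD3_c38)) = (LP (LK LD1_c0 LD2_c36 LD3_c45)) :=
  Lre_c IH (LK LD1_c1 LD2_c19 LD3_c38) (LK LD1_c0 LD2_c36 LD3_c45) Lrfl Lrfl
theorem f176992 : Led Lsl_ef (LP (LK LD1_c1 LD2_c19 LD3_c38)) = (LP (LK LD1_c0 LD2_c38 LD3_c17)) :=
  Lgr Lrot28 (Lpr_ct (f176904 IH) (Lpr_et (K9.f176901 IH) (Lpr_ct (K11.f24427 IH) (Lpn (LP (LK LD1_c0 LD2_c38 LD3_c17))))))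
theorem f24258 : Led Lsl_dt (LP (LK LD1_c0 LD2_c38 LD3_c15)) = (LP (LK LD1_c1 LD2_c22 LD3_c33)) :=
  Lre_d IH (LK LD1_c0 LD2_c38 LD3_c15) (LK LD1_c1 LD2_c22 LD3_c33) Lrfl Lrfl
theorem f198505 : Led Lsl_gt (LP (LK LD1_c1 LD2_c22 LD3_c33)) = (LP (LK LD1_c2 LD2_c52 LD3_c57)) :=
  Lre_g IH (LK LD1_c1 LD2_c22 LD3_c33) (LK LD1_c2 LD2_c52 LD3_c57) Lrfl Lrfl
theorem f182482 : Led Lsl_et (LP (LK LD1_c2 LD2_c0 LD3_c12)) = (LP (LK LD1_c0 LD2_c57 LD3_c4)) :=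
  Lre_e IH (LK LD1_c2 LD2_c0 LD3_c12) (LK LD1_c0 LD2_c57 LD3_c4) Lrfl Lrfl
theorem f198511 : Led Lsl_df (LP (LK LD1_c2 LD2_c52 LD3_c57)) = (LP (LK LD1_c2 LD2_c0 LD3_c12)) :=
  Lgr Lrot132 (Lpe (f198505 IH) (Lpe (f24258 IH) (Lpr_gf (K11.f198501 IH) (Lpe (K2.f23916 IH) (Lpr_dt (K0.f23915 IH) (Lpr_gf (K0.f23895 IH) (Lpe (K1.f20073 IH) (Lpr_et (K9.f22474 IH) (Lpr_gf (K9.f182468 IH) (Lpe (f182482 IH) (Lpn (LP (LK LD1_c2 LD2_c0 LD3_c12)))))))))))))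
theorem f179895 : Led Lsl_ct (LP (LK LD1_c2 LD2_c0 LD3_c12)) = (LP (LK LD1_c0 LD2_c57 LD3_c5)) :=
  Lre_c IH (LK LD1_c2 LD2_c0 LD3_c12) (LK LD1_c0 LD2_c57 LD3_c5) Lrfl Lrfl
theorem f185980 : Led Lsl_gt (LP (LK LD1_c2 LD2_c12 LD3_c35)) = (LP (LK LD1_c2 LD2_c0 LD3_c12)) :=
  Lgr Lrot150 (Lpe (K10.f20726 IH) (Lpe (K9.f20724 IH) (Lpr_df (K9.f20668 IH) (Lpr_gt (K10.f178991 IH) (Lpr_ct (K10.f24240 IH) (Lpr_gt (K12.f185976 IH) (Lpr_ct (K10.f179899 IH) (Lpe (K10.f179892 IH) (Lpe (f179895 IH) (Lpn (LP (LK LD1_c2 LD2_c0 LD3_c12))))))))))))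
theorem f24479 : Led Lsl_dt (LP (LK LD1_c1 LD2_c22 LD3_c36)) = (LP (LK LD1_c0 LD2_c38 LD3_c17)) :=
  Lre_d IH (LK LD1_c1 LD2_c22 LD3_c36) (LK LD1_c0 LD2_c38 LD3_c17) Lrfl Lrfl
theorem f198527 : Led Lsl_gt (LP (LK LD1_c2 LD2_c52 LD3_c57)) = (LP (LK LD1_c1 LD2_c22 LD3_c36)) :=
  Lgr Lrot49 (Lpr_df (f198511 IH) (Lpe (f185980 IH) (Lpe (K10.f20726 IH) (Lpe (K9.f164674 IH) (Lpr_dt (K9.f8411 IH) (Lpr_gt (K12.f9522 IH) (Lpr_dt (K9.f24440 IH) (Lpe (K10.f24429 IH) (Lpe (f24479 IH) (Lpn (LP (LK LD1_c1 LD2_c22 LD3_c36))))))))))))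
theorem f268723 : Led Lsl_gt (LP (LK LD1_c2 LD2_c47 LD3_c34)) = (LP (LK LD1_c2 LD2_c14 LD3_c1)) :=
  Lgr Lrot112 (Lpe (f172718 IH) (Lpe (f268711 IH) (Lpr_gf (f268717 IH) (Lpr_ef (f176992 IH) (Lpr_dt (K10.f24480 IH) (Lpe (f198527 IH) (Lpr_df (f198511 IH) (Lpe (f185980 IH) (Lpe (K10.f20791 IH) (Lpr_dt (K10.f20798 IH) (Lpn (LP (LK LD1_c2 LD2_c14 LD3_c1)))))))))))))
theorem f172715 : Led Lsl_ft (LP (LK LD1_c2 LD2_c47 LD3_c34)) = (LP (LK LD1_c1 LD2_c20 LD3_c4)) :=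
  Lre_f IH (LK LD1_c2 LD2_c47 LD3_c34) (LK LD1_c1 LD2_c20 LD3_c4) Lrfl Lrfl
theorem f268725 : Led Lsl_at (LP (LK LD1_c1 LD2_c20 LD3_c4)) = (LP (LK LD1_c2 LD2_c13 LD3_c22)) :=
  Lgr Lrot26 (Lpe (f172715 IH) (Lpr_gt (f268723 IH) (Lpe (K10.f175515 IH) (Lpn (LP (LK LD1_c2 LD2_c13 LD3_c22))))))
theorem f176863 : Led Lsl_et (LP (LK LD1_c2 LD2_c47 LD3_c31)) = (LP (LK LD1_c1 LD2_c20 LD3_c4)) :=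
  Lre_e IH (LK LD1_c2 LD2_c47 LD3_c31) (LK LD1_c1 LD2_c20 LD3_c4) Lrfl Lrfl
theorem f185836 : Led Lsl_et (LP (LK LD1_c2 LD2_c13 LD3_c22)) = (LP (LK LD1_c4 LD2_c32 LD3_c45)) :=
  Lre_e IH (LK LD1_c2 LD2_c13 LD3_c22) (LK LD1_c4 LD2_c32 LD3_c45) Lrfl Lrfl
theorem f268736 : Led Lsl_af (LP (LK LD1_c2 LD2_c47 LD3_c31)) = (LP (LK LD1_c4 LD2_c32 LD3_c45)) :=
  Lgr Lrot50 (Lpr_et (f176863 IH) (Lpr_at (f268725 IH) (Lpr_et (f185836 IH) (Lpn (LP (LK LD1_c4 LD2_c32 LD3_c45))))))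
theorem f268749 : Led Lsl_ft (LP (LK LD1_c2 LD2_c47 LD3_c31)) = (LP (LK LD1_c5 LD2_c43 LD3_c6)) :=
  Lre_f IH (LK LD1_c2 LD2_c47 LD3_c31) (LK LD1_c5 LD2_c43 LD3_c6) Lrfl Lrfl
theorem f268750 : Led Lsl_ft (LP (LK LD1_c9 LD2_c2 LD3_c56)) = (LP (LK LD1_c4 LD2_c32 LD3_c45)) :=
  Lre_f IH (LK LD1_c9 LD2_c2 LD3_c56) (LK LD1_c4 LD2_c32 LD3_c45) Lrfl Lrfl
theorem f268751 : Led Lsl_at (LP (LK LD1_c5 LD2_c43 LD3_c6)) = (LP (LK LD1_c9 LD2_c2 LD3_c56)) :=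
  Lgr Lrot66 (Lpe (f268749 IH) (Lpr_af (f268736 IH) (Lpe (f268750 IH) (Lpn (LP (LK LD1_c9 LD2_c2 LD3_c56))))))
theorem f268767 : Led Lsl_dt (LP (LK LD1_c2 LD2_c47 LD3_c32)) = (LP (LK LD1_c5 LD2_c43 LD3_c6)) :=
  Lre_d IH (LK LD1_c2 LD2_c47 LD3_c32) (LK LD1_c5 LD2_c43 LD3_c6) Lrfl Lrfl
theorem f268756 : Led Lsl_dt (LP (LK LD1_c9 LD2_c2 LD3_c56)) = (LP (LK LD1_c4 LD2_c32 LD3_c46)) :=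
  Lre_d IH (LK LD1_c9 LD2_c2 LD3_c56) (LK LD1_c4 LD2_c32 LD3_c46) Lrfl Lrfl
theorem f268768 : Led Lsl_af (LP (LK LD1_c2 LD2_c47 LD3_c32)) = (LP (LK LD1_c4 LD2_c32 LD3_c46)) :=
  Lgr Lrot117 (Lpr_dt (f268767 IH) (Lpr_at (f268751 IH) (Lpr_dt (f268756 IH) (Lpn (LP (LK LD1_c4 LD2_c32 LD3_c46))))))
theorem f268773 : Led Lsl_bt (LP (LK LD1_c2 LD2_c47 LD3_c32)) = (LP (LK LD1_c5 LD2_c42 LD3_c60)) :=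
  Lre_b IH (LK LD1_c2 LD2_c47 LD3_c32) (LK LD1_c5 LD2_c42 LD3_c60) Lrfl Lrfl
theorem f268774 : Led Lsl_at (LP (LK LD1_c5 LD2_c42 LD3_c60)) = (LP (LK LD1_c11 LD2_c15 LD3_c26)) :=
  Lre_a IH (LK LD1_c5 LD2_c42 LD3_c60) (LK LD1_c11 LD2_c15 LD3_c26) Lrfl Lrfl
theorem f268775 : Led Lsl_bt (LP (LK LD1_c9 LD2_c2 LD3_c49)) = (LP (LK LD1_c4 LD2_c32 LD3_c46)) :=
  Lre_b IH (LK LD1_c9 LD2_c2 LD3_c49) (LK LD1_c4 LD2_c32 LD3_c46) Lrfl Lrfl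
theorem f268776 : Led Lsl_at (LP (LK LD1_c16 LD2_c52 LD3_c56)) = (LP (LK LD1_c9 LD2_c2 LD3_c49)) :=
  Lre_a IH (LK LD1_c16 LD2_c52 LD3_c56) (LK LD1_c9 LD2_c2 LD3_c49) Lrfl Lrfl
theorem f268777 : Led Lsl_bt (LP (LK LD1_c11 LD2_c15 LD3_c26)) = (LP (LK LD1_c16 LD2_c52 LD3_c56)) :=
  Lgr Lrot62 (Lpe (f268774 IH) (Lpe (f268773 IH) (Lpr_af (f268768 IH) (Lpe (f268775 IH) (Lpe (f268776 IH) (Lpn (LP (LK LD1_c16 LD2_c52 LD3_c56))))))))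
theorem f268794 : Led Lsl_ft (LP (LK LD1_c5 LD2_c42 LD3_c36)) = (LP (LK LD1_c11 LD2_c15 LD3_c26)) :=
  Lre_f IH (LK LD1_c5 LD2_c42 LD3_c36) (LK LD1_c11 LD2_c15 LD3_c26) Lrfl Lrfl
theorem f268795 : Led Lsl_ft (LP (LK LD1_c16 LD2_c52 LD3_c56)) = (LP (LK LD1_c9 LD2_c2 LD3_c33)) :=
  Lre_f IH (LK LD1_c16 LD2_c52 LD3_c56) (LK LD1_c9 LD2_c2 LD3_c33) Lrfl Lrfl
theorem f268796 : Led Lsl_bf (LP (LK LD1_c5 LD2_c42 LD3_c36)) = (LP (LK LD1_c9 LD2_c2 LD3_c33)) :=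
  Lgr Lrot61 (Lpr_ft (f268794 IH) (Lpr_bt (f268777 IH) (Lpr_ft (f268795 IH) (Lpn (LP (LK LD1_c9 LD2_c2 LD3_c33))))))
theorem f268817 : Led Lsl_et (LP (LK LD1_c5 LD2_c42 LD3_c36)) = (LP (LK LD1_c2 LD2_c47 LD3_c17)) :=
  Lre_e IH (LK LD1_c5 LD2_c42 LD3_c36) (LK LD1_c2 LD2_c47 LD3_c17) Lrfl Lrfl
theorem f268818 : Led Lsl_et (LP (LK LD1_c4 LD2_c32 LD3_c29)) = (LP (LK LD1_c9 LD2_c2 LD3_c33)) :=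
  Lre_e IH (LK LD1_c4 LD2_c32 LD3_c29) (LK LD1_c9 LD2_c2 LD3_c33) Lrfl Lrfl
theorem f268819 : Led Lsl_bt (LP (LK LD1_c2 LD2_c47 LD3_c17)) = (LP (LK LD1_c4 LD2_c32 LD3_c29)) :=
  Lgr Lrot119 (Lpe (f268817 IH) (Lpr_bf (f268796 IH) (Lpe (f268818 IH) (Lpn (LP (LK LD1_c4 LD2_c32 LD3_c29))))))
theorem f268839 : Led Lsl_dt (LP (LK LD1_c1 LD2_c19 LD3_c61)) = (LP (LK LD1_c2 LD2_c47 LD3_c17)) :=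
  Lre_d IH (LK LD1_c1 LD2_c19 LD3_c61) (LK LD1_c2 LD2_c47 LD3_c17) Lrfl Lrfl
theorem f268840 : Led Lsl_dt (LP (LK LD1_c4 LD2_c32 LD3_c29)) = (LP (LK LD1_c2 LD2_c13 LD3_c17)) :=
  Lre_d IH (LK LD1_c4 LD2_c32 LD3_c29) (LK LD1_c2 LD2_c13 LD3_c17) Lrfl Lrfl
theorem f268841 : Led Lsl_bf (LP (LK LD1_c1 LD2_c19 LD3_c61)) = (LP (LK LD1_c2 LD2_c13 LD3_c17)) :=
  Lgr Lrot93 (Lpr_dt (f268839 IH) (Lpr_bt (f268819 IH) (Lpr_dt (f268840 IH) (Lpn (LP (LK LD1_c2 LD2_c13 LD3_c17))))))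
theorem f268849 : Led Lsl_bt (LP (LK LD1_c1 LD2_c19 LD3_c61)) = (LP (LK LD1_c2 LD2_c13 LD3_c17)) :=
  Lgr Lrot127 (Lpr_bf (f268841 IH) (Lpn (LP (LK LD1_c2 LD2_c13 LD3_c17))))
theorem f268869 : Led Lsl_at (LP (LK LD1_c0 LD2_c37 LD3_c0)) = (LP (LK LD1_c1 LD2_c19 LD3_c61)) :=
  Lre_a IH (LK LD1_c0 LD2_c37 LD3_c0) (LK LD1_c1 LD2_c19 LD3_c61) Lrfl Lrfl
theorem f172433 : Led Lsl_bt (LP (LK LD1_c0 LD2_c16 LD3_c31)) = (LP (LK LD1_c0 LD2_c37 LD3_c0)) :=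
  Lre_b IH (LK LD1_c0 LD2_c16 LD3_c31) (LK LD1_c0 LD2_c37 LD3_c0) Lrfl Lrfl
theorem f268870 : Led Lsl_at (LP (LK LD1_c2 LD2_c13 LD3_c17)) = (LP (LK LD1_c1 LD2_c3 LD3_c42)) :=
  Lre_a IH (LK LD1_c2 LD2_c13 LD3_c17) (LK LD1_c1 LD2_c3 LD3_c42) Lrfl Lrfl
theorem f174522 : Led Lsl_bt (LP (LK LD1_c1 LD2_c3 LD3_c42)) = (LP (LK LD1_c0 LD2_c29 LD3_c5)) :=
  Lre_b IH (LK LD1_c1 LD2_c3 LD3_c42) (LK LD1_c0 LD2_c29 LD3_c5) Lrfl Lrfl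
theorem f268871 : Led Lsl_af (LP (LK LD1_c0 LD2_c16 LD3_c31)) = (LP (LK LD1_c0 LD2_c29 LD3_c5)) :=
  Lgr Lrot36 (Lpr_bt (f172433 IH) (Lpr_at (f268869 IH) (Lpr_bt (f268849 IH) (Lpr_at (f268870 IH) (Lpr_bt (f174522 IH) (Lpn (LP (LK LD1_c0 LD2_c29 LD3_c5))))))))
theorem f268607 : Led Lsl_ff (LP (LK LD1_c0 LD2_c29 LD3_c5)) = (LP (LK LD1_c0 LD2_c16 LD3_c30)) :=
  Lgr Lrot23 (Lpe (K9.f174518 IH) (Lpr_ft (f268601 IH) (Lpr_ct (K9.f174953 IH) (Lpn (LP (LK LD1_c0 LD2_c16 LD3_c30))))))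
theorem f268597 : Led Lsl_at (LP (LK LD1_c0 LD2_c29 LD3_c4)) = (LP (LK LD1_c0 LD2_c16 LD3_c30)) :=
  Lgr Lrot107 (Lpe (K9.f173206 IH) (Lpr_af (f268591 IH) (Lpr_cf (K9.f174957 IH) (Lpn (LP (LK LD1_c0 LD2_c16 LD3_c30))))))
theorem f268879 : Led Lsl_ft (LP (LK LD1_c0 LD2_c16 LD3_c31)) = (LP (LK LD1_c0 LD2_c29 LD3_c4)) :=
  Lgr Lrot101 (Lpr_af (f268871 IH) (Lpr_ff (f268607 IH) (Lpe (f268597 IH) (Lpn (LP (LK LD1_c0 LD2_c29 LD3_c4))))))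
theorem f268887 : Led Lsl_ff (LP (LK LD1_c0 LD2_c16 LD3_c31)) = (LP (LK LD1_c0 LD2_c29 LD3_c4)) :=
  Lgr Lrot3 (Lpr_ft (f268879 IH) (Lpn (LP (LK LD1_c0 LD2_c29 LD3_c4))))
theorem f268893 : Led Lsl_ft (LP (LK LD1_c0 LD2_c37 LD3_c1)) = (LP (LK LD1_c1 LD2_c3 LD3_c40)) :=
  Lgr Lrot54 (Lpe (K9.f172843 IH) (Lpr_ff (f268887 IH) (Lpe (K10.f173367 IH) (Lpn (LP (LK LD1_c1 LD2_c3 LD3_c40))))))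
theorem f268902 : Led Lsl_af (LP (LK LD1_c0 LD2_c36 LD3_c60)) = (LP (LK LD1_c1 LD2_c3 LD3_c40)) :=
  Lgr Lrot31 (Lpe (K9.f174128 IH) (Lpr_gf (K9.f174220 IH) (Lpr_ft (f268893 IH) (Lpn (LP (LK LD1_c1 LD2_c3 LD3_c40))))))
theorem f268826 : Led Lsl_at (LP (LK LD1_c1 LD2_c20 LD3_c1)) = (LP (LK LD1_c2 LD2_c47 LD3_c17)) :=
  Lre_a IH (LK LD1_c1 LD2_c20 LD3_c1) (LK LD1_c2 LD2_c47 LD3_c17) Lrfl Lrfl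
theorem f268827 : Led Lsl_bt (LP (LK LD1_c0 LD2_c37 LD3_c1)) = (LP (LK LD1_c1 LD2_c20 LD3_c1)) :=
  Lre_b IH (LK LD1_c0 LD2_c37 LD3_c1) (LK LD1_c1 LD2_c20 LD3_c1) Lrfl Lrfl
theorem f268828 : Led Lsl_at (LP (LK LD1_c4 LD2_c32 LD3_c29)) = (LP (LK LD1_c2 LD2_c13 LD3_c19)) :=
  Lre_a IH (LK LD1_c4 LD2_c32 LD3_c29) (LK LD1_c2 LD2_c13 LD3_c19) Lrfl Lrfl
theorem f177735 : Led Lsl_bt (LP (LK LD1_c2 LD2_c13 LD3_c19)) = (LP (LK LD1_c1 LD2_c3 LD3_c43)) :=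
  Lre_b IH (LK LD1_c2 LD2_c13 LD3_c19) (LK LD1_c1 LD2_c3 LD3_c43) Lrfl Lrfl
theorem f268829 : Led Lsl_af (LP (LK LD1_c0 LD2_c37 LD3_c1)) = (LP (LK LD1_c1 LD2_c3 LD3_c43)) :=
  Lgr Lrot36 (Lpr_bt (f268827 IH) (Lpr_at (f268826 IH) (Lpr_bt (f268819 IH) (Lpr_at (f268828 IH) (Lpr_bt (f177735 IH) (Lpn (LP (LK LD1_c1 LD2_c3 LD3_c43))))))))
theorem f268914 : Led Lsl_ft (LP (LK LD1_c0 LD2_c36 LD3_c60)) = (LP (LK LD1_c1 LD2_c3 LD3_c43)) :=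
  Lgr Lrot101 (Lpr_af (f268902 IH) (Lpe (f268893 IH) (Lpr_af (f268829 IH) (Lpn (LP (LK LD1_c1 LD2_c3 LD3_c43))))))
theorem f268922 : Led Lsl_ff (LP (LK LD1_c0 LD2_c36 LD3_c60)) = (LP (LK LD1_c1 LD2_c3 LD3_c43)) :=
  Lgr Lrot3 (Lpr_ft (f268914 IH) (Lpn (LP (LK LD1_c1 LD2_c3 LD3_c43))))
theorem f174302 : Led Lsl_et (LP (LK LD1_c0 LD2_c36 LD3_c60)) = (LP (LK LD1_c1 LD2_c19 LD3_c56)) :=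
  Lre_e IH (LK LD1_c0 LD2_c36 LD3_c60) (LK LD1_c1 LD2_c19 LD3_c56) Lrfl Lrfl
theorem f174288 : Led Lsl_ft (LP (LK LD1_c1 LD2_c19 LD3_c56)) = (LP (LK LD1_c2 LD2_c47 LD3_c7)) :=
  Lre_f IH (LK LD1_c1 LD2_c19 LD3_c56) (LK LD1_c2 LD2_c47 LD3_c7) Lrfl Lrfl
theorem f177741 : Led Lsl_et (LP (LK LD1_c2 LD2_c13 LD3_c21)) = (LP (LK LD1_c1 LD2_c3 LD3_c43)) :=
  Lre_e IH (LK LD1_c2 LD2_c13 LD3_c21) (LK LD1_c1 LD2_c3 LD3_c43) Lrfl Lrfl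
theorem f268928 : Led Lsl_ft (LP (LK LD1_c4 LD2_c32 LD3_c46)) = (LP (LK LD1_c2 LD2_c13 LD3_c21)) :=
  Lre_f IH (LK LD1_c4 LD2_c32 LD3_c46) (LK LD1_c2 LD2_c13 LD3_c21) Lrfl Lrfl
theorem f268929 : Led Lsl_et (LP (LK LD1_c2 LD2_c47 LD3_c7)) = (LP (LK LD1_c4 LD2_c32 LD3_c46)) :=
  Lgr Lrot69 (Lpe (f174288 IH) (Lpe (f174302 IH) (Lpr_ff (f268922 IH) (Lpe (f177741 IH) (Lpe (f268928 IH) (Lpn (LP (LK LD1_c4 LD2_c32 LD3_c46))))))))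
theorem f268931 : Led Lsl_bt (LP (LK LD1_c5 LD2_c41 LD3_c59)) = (LP (LK LD1_c2 LD2_c47 LD3_c7)) :=
  Lre_b IH (LK LD1_c5 LD2_c41 LD3_c59) (LK LD1_c2 LD2_c47 LD3_c7) Lrfl Lrfl
theorem f268932 : Led Lsl_bt (LP (LK LD1_c4 LD2_c32 LD3_c46)) = (LP (LK LD1_c9 LD2_c2 LD3_c49)) :=
  Lre_b IH (LK LD1_c4 LD2_c32 LD3_c46) (LK LD1_c9 LD2_c2 LD3_c49) Lrfl Lrfl
theorem f268933 : Led Lsl_ef (LP (LK LD1_c5 LD2_c41 LD3_c59)) = (LP (LK LD1_c9 LD2_c2 LD3_c49)) :=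
  Lgr Lrot29 (Lpr_bt (f268931 IH) (Lpr_et (f268929 IH) (Lpr_bt (f268932 IH) (Lpn (LP (LK LD1_c9 LD2_c2 LD3_c49))))))
theorem f268945 : Led Lsl_et (LP (LK LD1_c5 LD2_c41 LD3_c59)) = (LP (LK LD1_c9 LD2_c2 LD3_c49)) :=
  Lgr Lrot87 (Lpr_ef (f268933 IH) (Lpn (LP (LK LD1_c9 LD2_c2 LD3_c49))))
theorem f268960 : Led Lsl_ct (LP (LK LD1_c11 LD2_c14 LD3_c8)) = (LP (LK LD1_c5 LD2_c41 LD3_c59)) :=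
  Lre_c IH (LK LD1_c11 LD2_c14 LD3_c8) (LK LD1_c5 LD2_c41 LD3_c59) Lrfl Lrfl
theorem f268961 : Led Lsl_ct (LP (LK LD1_c9 LD2_c2 LD3_c49)) = (LP (LK LD1_c16 LD2_c53 LD3_c18)) :=
  Lre_c IH (LK LD1_c9 LD2_c2 LD3_c49) (LK LD1_c16 LD2_c53 LD3_c18) Lrfl Lrfl
theorem f268962 : Led Lsl_ef (LP (LK LD1_c11 LD2_c14 LD3_c8)) = (LP (LK LD1_c16 LD2_c53 LD3_c18)) :=
  Lgr Lrot28 (Lpr_ct (f268960 IH) (Lpr_et (f268945 IH) (Lpr_ct (f268961 IH) (Lpn (LP (LK LD1_c16 LD2_c53 LD3_c18))))))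
theorem f174377 : Led Lsl_ft (LP (LK LD1_c11 LD2_c14 LD3_c8)) = (LP (LK LD1_c5 LD2_c41 LD3_c55)) :=
  Lre_f IH (LK LD1_c11 LD2_c14 LD3_c8) (LK LD1_c5 LD2_c41 LD3_c55) Lrfl Lrfl
theorem f174315 : Led Lsl_et (LP (LK LD1_c5 LD2_c41 LD3_c55)) = (LP (LK LD1_c2 LD2_c46 LD3_c57)) :=
  Lre_e IH (LK LD1_c5 LD2_c41 LD3_c55) (LK LD1_c2 LD2_c46 LD3_c57) Lrfl Lrfl
theorem f268974 : Led Lsl_ft (LP (LK LD1_c9 LD2_c2 LD3_c45)) = (LP (LK LD1_c16 LD2_c53 LD3_c18)) :=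
  Lre_f IH (LK LD1_c9 LD2_c2 LD3_c45) (LK LD1_c16 LD2_c53 LD3_c18) Lrfl Lrfl
theorem f268975 : Led Lsl_et (LP (LK LD1_c4 LD2_c32 LD3_c37)) = (LP (LK LD1_c9 LD2_c2 LD3_c45)) :=
  Lre_e IH (LK LD1_c4 LD2_c32 LD3_c37) (LK LD1_c9 LD2_c2 LD3_c45) Lrfl Lrfl
theorem f268976 : Led Lsl_ft (LP (LK LD1_c2 LD2_c46 LD3_c57)) = (LP (LK LD1_c4 LD2_c32 LD3_c37)) :=
  Lgr Lrot86 (Lpe (f174315 IH) (Lpe (f174377 IH) (Lpr_ef (f268962 IH) (Lpe (f268974 IH) (Lpe (f268975 IH) (Lpn (LP (LK LD1_c4 LD2_c32 LD3_c37))))))))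
theorem f174362 : Led Lsl_dt (LP (LK LD1_c2 LD2_c46 LD3_c57)) = (LP (LK LD1_c5 LD2_c41 LD3_c54)) :=
  Lre_d IH (LK LD1_c2 LD2_c46 LD3_c57) (LK LD1_c5 LD2_c41 LD3_c54) Lrfl Lrfl
theorem f174352 : Led Lsl_ct (LP (LK LD1_c5 LD2_c41 LD3_c54)) = (LP (LK LD1_c11 LD2_c14 LD3_c3)) :=
  Lre_c IH (LK LD1_c5 LD2_c41 LD3_c54) (LK LD1_c11 LD2_c14 LD3_c3) Lrfl Lrfl
theorem f268979 : Led Lsl_at (LP (LK LD1_c4 LD2_c32 LD3_c37)) = (LP (LK LD1_c9 LD2_c2 LD3_c32)) :=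
  Lre_a IH (LK LD1_c4 LD2_c32 LD3_c37) (LK LD1_c9 LD2_c2 LD3_c32) Lrfl Lrfl
theorem f268835 : Led Lsl_ct (LP (LK LD1_c4 LD2_c32 LD3_c29)) = (LP (LK LD1_c9 LD2_c2 LD3_c32)) :=
  Lre_c IH (LK LD1_c4 LD2_c32 LD3_c29) (LK LD1_c9 LD2_c2 LD3_c32) Lrfl Lrfl
theorem f268875 : Led Lsl_dt (LP (LK LD1_c2 LD2_c13 LD3_c17)) = (LP (LK LD1_c4 LD2_c32 LD3_c29)) :=
  Lre_d IH (LK LD1_c2 LD2_c13 LD3_c17) (LK LD1_c4 LD2_c32 LD3_c29) Lrfl Lrfl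
theorem f268852 : Led Lsl_ct (LP (LK LD1_c4 LD2_c32 LD3_c28)) = (LP (LK LD1_c2 LD2_c13 LD3_c17)) :=
  Lre_c IH (LK LD1_c4 LD2_c32 LD3_c28) (LK LD1_c2 LD2_c13 LD3_c17) Lrfl Lrfl
theorem f268857 : Led Lsl_dt (LP (LK LD1_c9 LD2_c2 LD3_c31)) = (LP (LK LD1_c4 LD2_c32 LD3_c28)) :=
  Lre_d IH (LK LD1_c9 LD2_c2 LD3_c31) (LK LD1_c4 LD2_c32 LD3_c28) Lrfl Lrfl
theorem f268991 : Led Lsl_ct (LP (LK LD1_c16 LD2_c52 LD3_c50)) = (LP (LK LD1_c9 LD2_c2 LD3_c31)) :=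
  Lre_c IH (LK LD1_c16 LD2_c52 LD3_c50) (LK LD1_c9 LD2_c2 LD3_c31) Lrfl Lrfl
theorem f268992 : Led Lsl_dt (LP (LK LD1_c11 LD2_c14 LD3_c3)) = (LP (LK LD1_c16 LD2_c52 LD3_c50)) :=
  Lgr Lrot32 (Lpe (f174352 IH) (Lpe (f174362 IH) (Lpr_ft (f268976 IH) (Lpr_at (f268979 IH) (Lpe (f268835 IH) (Lpe (f268875 IH) (Lpe (f268852 IH) (Lpe (f268857 IH) (Lpe (f268991 IH) (Lpn (LP (LK LD1_c16 LD2_c52 LD3_c50))))))))))))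
theorem f174331 : Led Lsl_ct (LP (LK LD1_c1 LD2_c19 LD3_c52)) = (LP (LK LD1_c2 LD2_c46 LD3_c57)) :=
  Lre_c IH (LK LD1_c1 LD2_c19 LD3_c52) (LK LD1_c2 LD2_c46 LD3_c57) Lrfl Lrfl
theorem f174338 : Led Lsl_dt (LP (LK LD1_c0 LD2_c36 LD3_c59)) = (LP (LK LD1_c1 LD2_c19 LD3_c52)) :=
  Lre_d IH (LK LD1_c0 LD2_c36 LD3_c59) (LK LD1_c1 LD2_c19 LD3_c52) Lrfl Lrfl
theorem f181570 : Led Lsl_dt (LP (LK LD1_c2 LD2_c46 LD3_c53)) = (LP (LK LD1_c1 LD2_c19 LD3_c51)) :=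
  Lre_d IH (LK LD1_c2 LD2_c46 LD3_c53) (LK LD1_c1 LD2_c19 LD3_c51) Lrfl Lrfl
theorem f181365 : Led Lsl_at (LP (LK LD1_c4 LD2_c32 LD3_c33)) = (LP (LK LD1_c9 LD2_c2 LD3_c31)) :=
  Lre_a IH (LK LD1_c4 LD2_c32 LD3_c33) (LK LD1_c9 LD2_c2 LD3_c31) Lrfl Lrfl
theorem f269009 : Led Lsl_ft (LP (LK LD1_c2 LD2_c46 LD3_c53)) = (LP (LK LD1_c4 LD2_c32 LD3_c33)) :=
  Lgr Lrot142 (Lpr_dt (f181570 IH) (Lpr_ct (K10.f181558 IH) (Lpr_dt (f174338 IH) (Lpr_ct (f174331 IH) (Lpr_dt (f174362 IH) (Lpr_ct (f174352 IH) (Lpr_dt (f268992 IH) (Lpr_ct (f268991 IH) (Lpe (f181365 IH) (Lpn (LP (LK LD1_c4 LD2_c32 LD3_c33))))))))))))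
theorem f269024 : Led Lsl_ff (LP (LK LD1_c2 LD2_c46 LD3_c53)) = (LP (LK LD1_c4 LD2_c32 LD3_c33)) :=
  Lgr Lrot3 (Lpr_ft (f269009 IH) (Lpn (LP (LK LD1_c4 LD2_c32 LD3_c33))))
theorem f181679 : Led Lsl_at (LP (LK LD1_c2 LD2_c46 LD3_c53)) = (LP (LK LD1_c5 LD2_c41 LD3_c32)) :=
  Lre_a IH (LK LD1_c2 LD2_c46 LD3_c53) (LK LD1_c5 LD2_c41 LD3_c32) Lrfl Lrfl
theorem f269045 : Led Lsl_ct (LP (LK LD1_c11 LD2_c13 LD3_c13)) = (LP (LK LD1_c5 LD2_c41 LD3_c32)) :=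
  Lre_c IH (LK LD1_c11 LD2_c13 LD3_c13) (LK LD1_c5 LD2_c41 LD3_c32) Lrfl Lrfl
theorem f181344 : Led Lsl_dt (LP (LK LD1_c4 LD2_c32 LD3_c33)) = (LP (LK LD1_c2 LD2_c13 LD3_c18)) :=
  Lre_d IH (LK LD1_c4 LD2_c32 LD3_c33) (LK LD1_c2 LD2_c13 LD3_c18) Lrfl Lrfl
theorem f174523 : Led Lsl_ct (LP (LK LD1_c2 LD2_c13 LD3_c18)) = (LP (LK LD1_c1 LD2_c3 LD3_c42)) :=
  Lre_c IH (LK LD1_c2 LD2_c13 LD3_c18) (LK LD1_c1 LD2_c3 LD3_c42) Lrfl Lrfl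
theorem f174567 : Led Lsl_dt (LP (LK LD1_c1 LD2_c3 LD3_c42)) = (LP (LK LD1_c2 LD2_c13 LD3_c19)) :=
  Lre_d IH (LK LD1_c1 LD2_c3 LD3_c42) (LK LD1_c2 LD2_c13 LD3_c19) Lrfl Lrfl
theorem f174568 : Led Lsl_ct (LP (LK LD1_c2 LD2_c13 LD3_c19)) = (LP (LK LD1_c4 LD2_c32 LD3_c37)) :=
  Lre_c IH (LK LD1_c2 LD2_c13 LD3_c19) (LK LD1_c4 LD2_c32 LD3_c37) Lrfl Lrfl
theorem f268984 : Led Lsl_dt (LP (LK LD1_c4 LD2_c32 LD3_c37)) = (LP (LK LD1_c9 LD2_c2 LD3_c44)) :=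
  Lre_d IH (LK LD1_c4 LD2_c32 LD3_c37) (LK LD1_c9 LD2_c2 LD3_c44) Lrfl Lrfl
theorem f269046 : Led Lsl_ct (LP (LK LD1_c9 LD2_c2 LD3_c44)) = (LP (LK LD1_c16 LD2_c53 LD3_c16)) :=
  Lre_c IH (LK LD1_c9 LD2_c2 LD3_c44) (LK LD1_c16 LD2_c53 LD3_c16) Lrfl Lrfl
theorem f269047 : Led Lsl_df (LP (LK LD1_c11 LD2_c13 LD3_c13)) = (LP (LK LD1_c16 LD2_c53 LD3_c16)) :=
  Lgr Lrot177 (Lpr_ct (f269045 IH) (Lpe (f181679 IH) (Lpr_ff (f269024 IH) (Lpr_dt (f181344 IH) (Lpr_ct (f174523 IH) (Lpr_dt (f174567 IH) (Lpr_ct (f174568 IH) (Lpr_dt (f268984 IH) (Lpr_ct (f269046 IH) (Lpn (LP (LK LD1_c16 LD2_c53 LD3_c16))))))))))))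
theorem f269057 : Led Lsl_dt (LP (LK LD1_c5 LD2_c41 LD3_c32)) = (LP (LK LD1_c2 LD2_c46 LD3_c49)) :=
  Lre_d IH (LK LD1_c5 LD2_c41 LD3_c32) (LK LD1_c2 LD2_c46 LD3_c49) Lrfl Lrfl
theorem f269058 : Led Lsl_ct (LP (LK LD1_c2 LD2_c46 LD3_c49)) = (LP (LK LD1_c1 LD2_c19 LD3_c50)) :=
  Lre_c IH (LK LD1_c2 LD2_c46 LD3_c49) (LK LD1_c1 LD2_c19 LD3_c50) Lrfl Lrfl
theorem f269066 : Led Lsl_at (LP (LK LD1_c0 LD2_c36 LD3_c59)) = (LP (LK LD1_c1 LD2_c19 LD3_c50)) :=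
  Lre_a IH (LK LD1_c0 LD2_c36 LD3_c59) (LK LD1_c1 LD2_c19 LD3_c50) Lrfl Lrfl
theorem f269067 : Led Lsl_ff (LP (LK LD1_c0 LD2_c36 LD3_c59)) = (LP (LK LD1_c1 LD2_c3 LD3_c42)) :=
  Lgr Lrot103 (Lpr_at (f269066 IH) (Lpe (f269058 IH) (Lpe (f269057 IH) (Lpe (f269045 IH) (Lpr_df (f269047 IH) (Lpe (f269046 IH) (Lpe (f268984 IH) (Lpe (f174568 IH) (Lpe (f174567 IH) (Lpn (LP (LK LD1_c1 LD2_c3 LD3_c42))))))))))))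
theorem f269074 : Led Lsl_et (LP (LK LD1_c0 LD2_c36 LD3_c59)) = (LP (LK LD1_c1 LD2_c19 LD3_c53)) :=
  Lre_e IH (LK LD1_c0 LD2_c36 LD3_c59) (LK LD1_c1 LD2_c19 LD3_c53) Lrfl Lrfl
theorem f269075 : Led Lsl_ft (LP (LK LD1_c1 LD2_c19 LD3_c53)) = (LP (LK LD1_c2 LD2_c46 LD3_c61)) :=
  Lre_f IH (LK LD1_c1 LD2_c19 LD3_c53) (LK LD1_c2 LD2_c46 LD3_c61) Lrfl Lrfl
theorem f269076 : Led Lsl_et (LP (LK LD1_c2 LD2_c13 LD3_c20)) = (LP (LK LD1_c1 LD2_c3 LD3_c42)) :=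
  Lre_e IH (LK LD1_c2 LD2_c13 LD3_c20) (LK LD1_c1 LD2_c3 LD3_c42) Lrfl Lrfl
theorem f269077 : Led Lsl_ft (LP (LK LD1_c4 LD2_c32 LD3_c42)) = (LP (LK LD1_c2 LD2_c13 LD3_c20)) :=
  Lre_f IH (LK LD1_c4 LD2_c32 LD3_c42) (LK LD1_c2 LD2_c13 LD3_c20) Lrfl Lrfl
theorem f269078 : Led Lsl_et (LP (LK LD1_c2 LD2_c46 LD3_c61)) = (LP (LK LD1_c4 LD2_c32 LD3_c42)) :=
  Lgr Lrot69 (Lpe (f269075 IH) (Lpe (f269074 IH) (Lpr_ff (f269067 IH) (Lpe (f269076 IH) (Lpe (f269077 IH) (Lpn (LP (LK LD1_c4 LD2_c32 LD3_c42))))))))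
theorem f269093 : Led Lsl_ef (LP (LK LD1_c2 LD2_c46 LD3_c61)) = (LP (LK LD1_c4 LD2_c32 LD3_c42)) :=
  Lgr Lrot88 (Lpr_et (f269078 IH) (Lpn (LP (LK LD1_c4 LD2_c32 LD3_c42))))
theorem f175488 : Led Lsl_bt (LP (LK LD1_c2 LD2_c46 LD3_c61)) = (LP (LK LD1_c1 LD2_c19 LD3_c58)) :=
  Lre_b IH (LK LD1_c2 LD2_c46 LD3_c61) (LK LD1_c1 LD2_c19 LD3_c58) Lrfl Lrfl
theorem f269096 : Led Lsl_bt (LP (LK LD1_c2 LD2_c13 LD3_c23)) = (LP (LK LD1_c4 LD2_c32 LD3_c42)) :=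
  Lre_b IH (LK LD1_c2 LD2_c13 LD3_c23) (LK LD1_c4 LD2_c32 LD3_c42) Lrfl Lrfl
theorem f269097 : Led Lsl_et (LP (LK LD1_c1 LD2_c19 LD3_c58)) = (LP (LK LD1_c2 LD2_c13 LD3_c23)) :=
  Lgr Lrot74 (Lpe (f175488 IH) (Lpr_ef (f269093 IH) (Lpe (f269096 IH) (Lpn (LP (LK LD1_c2 LD2_c13 LD3_c23))))))
theorem f268653 : Led Lsl_gt (LP (LK LD1_c1 LD2_c26 LD3_c16)) = (LP (LK LD1_c2 LD2_c47 LD3_c10)) :=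
  Lgr Lrot49 (Lpe (K9.f9527 IH) (Lpe (K10.f9538 IH) (Lpe (K10.f193972 IH) (Lpr_gt (K10.f60907 IH) (Lpe (K1.f60901 IH) (Lpr_gt (K9.f59523 IH) (Lpr_dt (f268641 IH) (Lpr_cf (K10.f175480 IH) (Lpe (f68794 IH) (Lpn (LP (LK LD1_c2 LD2_c47 LD3_c10))))))))))))
theorem f269110 : Led Lsl_gf (LP (LK LD1_c1 LD2_c12 LD3_c23)) = (LP (LK LD1_c2 LD2_c13 LD3_c23)) :=
  Lgr Lrot141 (Lpe (K14.f166391 IH) (Lpr_dt (K10.f166372 IH) (Lpr_gt (K10.f166373 IH) (Lpe (K10.f194019 IH) (Lpr_et (K10.f193986 IH) (Lpr_gt (K10.f9538 IH) (Lpr_dt (K9.f9527 IH) (Lpr_gt (f268653 IH) (Lpe (f68732 IH) (Lpr_et (f269097 IH) (Lpn (LP (LK LD1_c2 LD2_c13 LD3_c23)))))))))))))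
theorem f175532 : Led Lsl_cf (LP (LK LD1_c0 LD2_c54 LD3_c57)) = (LP (LK LD1_c1 LD2_c3 LD3_c44)) :=
  Lgr Lrot14 (Lpe (K10.f28395 IH) (Lpe (K10.f175530 IH) (Lpe (K10.f25987 IH) (Lpe (K10.f25948 IH) (Lpr_ct (K11.f25980 IH) (Lpr_gt (K10.f175527 IH) (Lpr_dt (K10.f20798 IH) (Lpe (K10.f175515 IH) (Lpr_dt (K10.f175517 IH) (Lpn (LP (LK LD1_c1 LD2_c3 LD3_c44))))))))))))
theorem f175538 : Led Lsl_ft (LP (LK LD1_c2 LD2_c13 LD3_c23)) = (LP (LK LD1_c1 LD2_c3 LD3_c44)) :=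
  Lre_f IH (LK LD1_c2 LD2_c13 LD3_c23) (LK LD1_c1 LD2_c3 LD3_c44) Lrfl Lrfl
theorem f242617 : Led Lsl_cf (LP (LK LD1_c2 LD2_c13 LD3_c23)) = (LP (LK LD1_c1 LD2_c31 LD3_c26)) :=
  Lgr Lrot108 (Lpr_ft (f175538 IH) (Lpe (f175532 IH) (Lpr_ft (K13.f242611 IH) (Lpn (LP (LK LD1_c1 LD2_c31 LD3_c26))))))
theorem f269112 : Led Lsl_gf (LP (LK LD1_c0 LD2_c42 LD3_c16)) = (LP (LK LD1_c1 LD2_c31 LD3_c26)) :=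
  Lgr Lrot144 (Lpr_dt (K12.f25957 IH) (Lpr_gt (K11.f25956 IH) (Lpr_dt (K10.f25930 IH) (Lpe (K10.f25926 IH) (Lpe (K8.f25927 IH) (Lpe (K11.f25988 IH) (Lpe (K11.f166384 IH) (Lpr_gf (f269110 IH) (Lpr_cf (f242617 IH) (Lpn (LP (LK LD1_c1 LD2_c31 LD3_c26))))))))))))
theorem f210586 : Led Lsl_ef (LP (LK LD1_c2 LD2_c7 LD3_c32)) = (LP (LK LD1_c3 LD2_c10 LD3_c28)) :=
  Lgr Lrot28 (Lpr_ct (K11.f32020 IH) (Lpr_et (K14.f210584 IH) (Lpr_ct (K13.f204848 IH) (Lpn (LP (LK LD1_c3 LD2_c10 LD3_c28))))))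
theorem f171689 : Led Lsl_bt (LP (LK LD1_c0 LD2_c34 LD3_c16)) = (LP (LK LD1_c1 LD2_c13 LD3_c55)) :=
  Lre_b IH (LK LD1_c0 LD2_c34 LD3_c16) (LK LD1_c1 LD2_c13 LD3_c55) Lrfl Lrfl
theorem f164082 : Led Lsl_ct (LP (LK LD1_c1 LD2_c13 LD3_c55)) = (LP (LK LD1_c2 LD2_c33 LD3_c54)) :=
  Lre_c IH (LK LD1_c1 LD2_c13 LD3_c55) (LK LD1_c2 LD2_c33 LD3_c54) Lrfl Lrfl
theorem f201586 : Led Lsl_bf (LP (LK LD1_c2 LD2_c7 LD3_c32)) = (LP (LK LD1_c2 LD2_c33 LD3_c54)) :=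
  Lgr Lrot90 (Lpr_ct (K11.f32020 IH) (Lpr_bt (K14.f201582 IH) (Lpr_ct (K10.f171647 IH) (Lpr_bt (f171689 IH) (Lpr_ct (f164082 IH) (Lpn (LP (LK LD1_c2 LD2_c33 LD3_c54))))))))
theorem f201589 : Led Lsl_bt (LP (LK LD1_c2 LD2_c7 LD3_c32)) = (LP (LK LD1_c2 LD2_c33 LD3_c54)) :=
  Lgr Lrot127 (Lpr_bf (f201586 IH) (Lpn (LP (LK LD1_c2 LD2_c33 LD3_c54))))
theorem f201618 : Led Lsl_et (LP (LK LD1_c2 LD2_c33 LD3_c54)) = (LP (LK LD1_c5 LD2_c14 LD3_c0)) :=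
  Lre_e IH (LK LD1_c2 LD2_c33 LD3_c54) (LK LD1_c5 LD2_c14 LD3_c0) Lrfl Lrfl
theorem f210588 : Led Lsl_bt (LP (LK LD1_c5 LD2_c14 LD3_c0)) = (LP (LK LD1_c3 LD2_c10 LD3_c28)) :=
  Lgr Lrot119 (Lpe (f201618 IH) (Lpe (f201589 IH) (Lpr_ef (f210586 IH) (Lpn (LP (LK LD1_c3 LD2_c10 LD3_c28))))))
theorem f61419 : Led Lsl_ct (LP (LK LD1_c2 LD2_c33 LD3_c56)) = (LP (LK LD1_c5 LD2_c14 LD3_c0)) :=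
  Lre_c IH (LK LD1_c2 LD2_c33 LD3_c56) (LK LD1_c5 LD2_c14 LD3_c0) Lrfl Lrfl
theorem f61372 : Led Lsl_bt (LP (LK LD1_c1 LD2_c13 LD3_c57)) = (LP (LK LD1_c2 LD2_c33 LD3_c56)) :=
  Lre_b IH (LK LD1_c1 LD2_c13 LD3_c57) (LK LD1_c2 LD2_c33 LD3_c56) Lrfl Lrfl
theorem f210592 : Led Lsl_cf (LP (LK LD1_c1 LD2_c13 LD3_c57)) = (LP (LK LD1_c0 LD2_c42 LD3_c16)) :=
  Lgr Lrot97 (Lpr_bt (f61372 IH) (Lpr_ct (f61419 IH) (Lpr_bt (f210588 IH) (Lpr_ct (K13.f204847 IH) (Lpr_bt (K13.f204846 IH) (Lpn (LP (LK LD1_c0 LD2_c42 LD3_c16))))))))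
theorem f59022 : Led Lsl_ct (LP (LK LD1_c0 LD2_c41 LD3_c5)) = (LP (LK LD1_c0 LD2_c18 LD3_c23)) :=
  Lre_c IH (LK LD1_c0 LD2_c41 LD3_c5) (LK LD1_c0 LD2_c18 LD3_c23) Lrfl Lrfl
theorem f59023 : Led Lsl_dt (LP (LK LD1_c1 LD2_c28 LD3_c56)) = (LP (LK LD1_c0 LD2_c41 LD3_c5)) :=
  Lre_d IH (LK LD1_c1 LD2_c28 LD3_c56) (LK LD1_c0 LD2_c41 LD3_c5) Lrfl Lrfl
theorem f172128 : Led Lsl_ct (LP (LK LD1_c0 LD2_c41 LD3_c7)) = (LP (LK LD1_c1 LD2_c28 LD3_c57)) :=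
  Lre_c IH (LK LD1_c0 LD2_c41 LD3_c7) (LK LD1_c1 LD2_c28 LD3_c57) Lrfl Lrfl
theorem f186025 : Led Lsl_gf (LP (LK LD1_c2 LD2_c16 LD3_c44)) = (LP (LK LD1_c1 LD2_c28 LD3_c57)) :=
  Lgr Lrot104 (Lpr_ct (K10.f26692 IH) (Lpe (K9.f20582 IH) (Lpe (K10.f26690 IH) (Lpr_gf (K10.f176553 IH) (Lpe (K9.f26036 IH) (Lpe (K9.f27239 IH) (Lpe (K9.f27240 IH) (Lpr_gt (K11.f186023 IH) (Lpr_ct (f172128 IH) (Lpn (LP (LK LD1_c1 LD2_c28 LD3_c57))))))))))))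
theorem f186031 : Led Lsl_et (LP (LK LD1_c0 LD2_c41 LD3_c5)) = (LP (LK LD1_c1 LD2_c28 LD3_c57)) :=
  Lre_e IH (LK LD1_c0 LD2_c41 LD3_c5) (LK LD1_c1 LD2_c28 LD3_c57) Lrfl Lrfl
theorem f186032 : Led Lsl_dt (LP (LK LD1_c0 LD2_c41 LD3_c5)) = (LP (LK LD1_c1 LD2_c28 LD3_c56)) :=
  Lre_d IH (LK LD1_c0 LD2_c41 LD3_c5) (LK LD1_c1 LD2_c28 LD3_c56) Lrfl Lrfl
theorem f186033 : Led Lsl_gt (LP (LK LD1_c2 LD2_c13 LD3_c4)) = (LP (LK LD1_c1 LD2_c28 LD3_c56)) :=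
  Lgr Lrot112 (Lpe (K12.f20805 IH) (Lpr_et (K12.f174898 IH) (Lpe (K9.f174744 IH) (Lpe (K9.f100942 IH) (Lpr_dt (K9.f100603 IH) (Lpe (K10.f101573 IH) (Lpr_df (K10.f177651 IH) (Lpr_gf (f186025 IH) (Lpe (f186031 IH) (Lpr_dt (f186032 IH) (Lpn (LP (LK LD1_c1 LD2_c28 LD3_c56)))))))))))))
theorem f210596 : Led Lsl_gt (LP (LK LD1_c1 LD2_c13 LD3_c57)) = (LP (LK LD1_c1 LD2_c3 LD3_c36)) :=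
  Lgr Lrot94 (Lpr_cf (f210592 IH) (Lpr_gt (K11.f204839 IH) (Lpr_dt (K10.f186453 IH) (Lpr_gt (K10.f59017 IH) (Lpr_dt (K10.f59014 IH) (Lpe (f59022 IH) (Lpe (f59023 IH) (Lpe (f186033 IH) (Lpe (K12.f20805 IH) (Lpn (LP (LK LD1_c1 LD2_c3 LD3_c36))))))))))))
theorem f237344 : Led Lsl_bf (LP (LK LD1_c1 LD2_c3 LD3_c37)) = (LP (LK LD1_c2 LD2_c8 LD3_c61)) :=
  Lgr Lrot93 (Lpr_dt (K9.f181117 IH) (Lpe (K11.f205329 IH) (Lpr_dt (K13.f237342 IH) (Lpn (LP (LK LD1_c2 LD2_c8 LD3_c61))))))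
theorem f237340 : Led Lsl_ct (LP (LK LD1_c2 LD2_c8 LD3_c61)) = (LP (LK LD1_c4 LD2_c23 LD3_c7)) :=
  Lre_c IH (LK LD1_c2 LD2_c8 LD3_c61) (LK LD1_c4 LD2_c23 LD3_c7) Lrfl Lrfl
theorem f269118 : Led Lsl_gt (LP (LK LD1_c4 LD2_c23 LD3_c7)) = (LP (LK LD1_c6 LD2_c25 LD3_c29)) :=
  Lgr Lrot65 (Lpe (f237340 IH) (Lpe (f237344 IH) (Lpe (K9.f20765 IH) (Lpe (K10.f181443 IH) (Lpr_ct (K10.f20778 IH) (Lpe (f210596 IH) (Lpr_cf (f210592 IH) (Lpr_gf (f269112 IH) (Lpe (K13.f205104 IH) (Lpr_ct (K13.f205105 IH) (Lpn (LP (LK LD1_c6 LD2_c25 LD3_c29)))))))))))))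
theorem f29613 : Led Lsl_et (LP (LK LD1_c1 LD2_c1 LD3_c43)) = (LP (LK LD1_c2 LD2_c9 LD3_c5)) :=
  Lre_e IH (LK LD1_c1 LD2_c1 LD3_c43) (LK LD1_c2 LD2_c9 LD3_c5) Lrfl Lrfl
theorem f29614 : Led Lsl_cf (LP (LK LD1_c1 LD2_c56 LD3_c59)) = (LP (LK LD1_c2 LD2_c9 LD3_c5)) :=
  Lgr Lrot39 (Lpr_et (K12.f29306 IH) (Lpr_ct (K13.f29605 IH) (Lpr_et (f29613 IH) (Lpn (LP (LK LD1_c2 LD2_c9 LD3_c5))))))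
theorem f29626 : Led Lsl_ct (LP (LK LD1_c1 LD2_c56 LD3_c59)) = (LP (LK LD1_c2 LD2_c9 LD3_c5)) :=
  Lgr Lrot59 (Lpr_cf (f29614 IH) (Lpn (LP (LK LD1_c2 LD2_c9 LD3_c5))))
theorem f269120 : Led Lsl_gt (LP (LK LD1_c3 LD2_c10 LD3_c28)) = (LP (LK LD1_c2 LD2_c9 LD3_c5)) :=
  Lgr Lrot65 (Lpe (K13.f204848 IH) (Lpr_bt (K13.f204846 IH) (Lpr_gf (f269112 IH) (Lpe (K13.f205104 IH) (Lpr_ct (K13.f205105 IH) (Lpe (f269118 IH) (Lpe (f237340 IH) (Lpe (K13.f237339 IH) (Lpe (K13.f237332 IH) (Lpr_ct (f29626 IH) (Lpn (LP (LK LD1_c2 LD2_c9 LD3_c5)))))))))))))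
theorem f164153 : Led Lsl_ct (LP (LK LD1_c3 LD2_c10 LD3_c9)) = (LP (LK LD1_c1 LD2_c31 LD3_c14)) :=
  Lre_c IH (LK LD1_c3 LD2_c10 LD3_c9) (LK LD1_c1 LD2_c31 LD3_c14) Lrfl Lrfl
theorem f255363 : Led Lsl_ff (LP (LK LD1_c3 LD2_c10 LD3_c9)) = (LP (LK LD1_c3 LD2_c10 LD3_c28)) :=
  Lgr Lrot23 (Lpr_ct (f164153 IH) (Lpr_ft (K14.f255357 IH) (Lpr_ct (K13.f204848 IH) (Lpn (LP (LK LD1_c3 LD2_c10 LD3_c28))))))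
theorem f237350 : Led Lsl_ct (LP (LK LD1_c4 LD2_c23 LD3_c7)) = (LP (LK LD1_c2 LD2_c8 LD3_c61)) :=
  Lre_c IH (LK LD1_c4 LD2_c23 LD3_c7) (LK LD1_c2 LD2_c8 LD3_c61) Lrfl Lrfl
theorem f237354 : Led Lsl_et (LP (LK LD1_c2 LD2_c33 LD3_c23)) = (LP (LK LD1_c4 LD2_c23 LD3_c7)) :=
  Lgr Lrot158 (Lpe (K10.f181141 IH) (Lpr_ef (K14.f237348 IH) (Lpe (f237350 IH) (Lpn (LP (LK LD1_c4 LD2_c23 LD3_c7))))))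
theorem f255113 : Led Lsl_gt (LP (LK LD1_c2 LD2_c9 LD3_c5)) = (LP (LK LD1_c4 LD2_c23 LD3_c7)) :=
  Lgr Lrot131 (Lpe (f29613 IH) (Lpr_dt (K13.f29612 IH) (Lpe (K13.f237705 IH) (Lpe (K14.f239112 IH) (Lpr_gf (K14.f255107 IH) (Lpe (K15.f193472 IH) (Lpr_dt (K13.f193458 IH) (Lpr_gf (K13.f242273 IH) (Lpe (K13.f196105 IH) (Lpr_et (f237354 IH) (Lpn (LP (LK LD1_c4 LD2_c23 LD3_c7)))))))))))))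
theorem f269124 : Led Lsl_at (LP (LK LD1_c3 LD2_c10 LD3_c9)) = (LP (LK LD1_c4 LD2_c23 LD3_c7)) :=
  Lgr Lrot26 (Lpr_ff (f255363 IH) (Lpr_gt (f269120 IH) (Lpr_gt (f255113 IH) (Lpn (LP (LK LD1_c4 LD2_c23 LD3_c7))))))
theorem f237361 : Led Lsl_ef (LP (LK LD1_c2 LD2_c33 LD3_c23)) = (LP (LK LD1_c4 LD2_c23 LD3_c7)) :=
  Lgr Lrot28 (Lpr_ct (K13.f181139 IH) (Lpr_et (K14.f237356 IH) (Lpr_ct (f237340 IH) (Lpn (LP (LK LD1_c4 LD2_c23 LD3_c7))))))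
theorem f269126 : Led Lsl_af (LP (LK LD1_c4 LD2_c2 LD3_c2)) = (LP (LK LD1_c2 LD2_c33 LD3_c23)) :=
  Lgr Lrot50 (Lpe (K13.f242764 IH) (Lpr_at (f269124 IH) (Lpe (f237361 IH) (Lpn (LP (LK LD1_c2 LD2_c33 LD3_c23))))))
theorem f229132 : Led Lsl_ct (LP (LK LD1_c1 LD2_c57 LD3_c59)) = (LP (LK LD1_c0 LD2_c55 LD3_c51)) :=
  Lre_c IH (LK LD1_c1 LD2_c57 LD3_c59) (LK LD1_c0 LD2_c55 LD3_c51) Lrfl Lrfl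
theorem f164690 : Led Lsl_ct (LP (LK LD1_c1 LD2_c13 LD3_c51)) = (LP (LK LD1_c2 LD2_c33 LD3_c45)) :=
  Lre_c IH (LK LD1_c1 LD2_c13 LD3_c51) (LK LD1_c2 LD2_c33 LD3_c45) Lrfl Lrfl
theorem f240540 : Led Lsl_gf (LP (LK LD1_c1 LD2_c57 LD3_c59)) = (LP (LK LD1_c2 LD2_c33 LD3_c45)) :=
  Lgr Lrot104 (Lpr_ct (f229132 IH) (Lpe (K13.f180878 IH) (Lpe (K10.f192108 IH) (Lpr_gf (K10.f193628 IH) (Lpe (K1.f27834 IH) (Lpe (K10.f27851 IH) (Lpe (K12.f27879 IH) (Lpr_gt (K13.f240526 IH) (Lpr_ct (f164690 IH) (Lpn (LP (LK LD1_c2 LD2_c33 LD3_c45))))))))))))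
theorem f269132 : Led Lsl_ft (LP (LK LD1_c2 LD2_c33 LD3_c45)) = (LP (LK LD1_c2 LD2_c33 LD3_c23)) :=
  Lgr Lrot2 (Lpe (f240540 IH) (Lpr_gt (K13.f240596 IH) (Lpr_af (f269126 IH) (Lpn (LP (LK LD1_c2 LD2_c33 LD3_c23))))))
theorem f269139 : Led Lsl_ff (LP (LK LD1_c2 LD2_c33 LD3_c45)) = (LP (LK LD1_c2 LD2_c33 LD3_c23)) :=
  Lgr Lrot3 (Lpr_ft (f269132 IH) (Lpn (LP (LK LD1_c2 LD2_c33 LD3_c23))))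
theorem f269145 : Led Lsl_at (LP (LK LD1_c2 LD2_c33 LD3_c45)) = (LP (LK LD1_c4 LD2_c1 LD3_c16)) :=
  Lgr Lrot26 (Lpr_ff (f269139 IH) (Lpe (K10.f196099 IH) (Lpr_gt (K12.f227327 IH) (Lpn (LP (LK LD1_c4 LD2_c1 LD3_c16))))))
theorem f269128 : Led Lsl_at (LP (LK LD1_c4 LD2_c2 LD3_c2)) = (LP (LK LD1_c2 LD2_c33 LD3_c23)) :=
  Lgr Lrot100 (Lpr_af (f269126 IH) (Lpn (LP (LK LD1_c2 LD2_c33 LD3_c23))))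
theorem f269151 : Led Lsl_ff (LP (LK LD1_c4 LD2_c2 LD3_c2)) = (LP (LK LD1_c4 LD2_c1 LD3_c16)) :=
  Lgr Lrot30 (Lpr_at (f269128 IH) (Lpe (f269139 IH) (Lpr_at (f269145 IH) (Lpn (LP (LK LD1_c4 LD2_c1 LD3_c16))))))
theorem f269157 : Led Lsl_ft (LP (LK LD1_c4 LD2_c2 LD3_c2)) = (LP (LK LD1_c4 LD2_c1 LD3_c16)) :=
  Lgr Lrot48 (Lpr_ff (f269151 IH) (Lpn (LP (LK LD1_c4 LD2_c1 LD3_c16))))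
theorem f269159 : Led Lsl_ff (LP (LK LD1_c8 LD2_c3 LD3_c28)) = (LP (LK LD1_c8 LD2_c3 LD3_c16)) :=
  Lgr Lrot19 (Lpe (K13.f242791 IH) (Lpr_ft (f269157 IH) (Lpr_dt (K12.f227319 IH) (Lpn (LP (LK LD1_c8 LD2_c3 LD3_c16))))))
theorem f269163 : Led Lsl_ft (LP (LK LD1_c10 LD2_c7 LD3_c39)) = (LP (LK LD1_c10 LD2_c8 LD3_c26)) :=
  Lgr Lrot4 (Lpe (K13.f242077 IH) (Lpr_ff (f269159 IH) (Lpe (K13.f242140 IH) (Lpn (LP (LK LD1_c10 LD2_c8 LD3_c26))))))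
theorem f242096 : Led Lsl_gt (LP (LK LD1_c8 LD2_c4 LD3_c17)) = (LP (LK LD1_c10 LD2_c7 LD3_c36)) :=
  Lgr Lrot180 (Lpr_ct (K13.f242081 IH) (Lpe (K13.f211659 IH) (Lpr_dt (K13.f211588 IH) (Lpr_gt (K12.f211585 IH) (Lpe (K12.f211594 IH) (Lpr_ct (K10.f197215 IH) (Lpe (K13.f190275 IH) (Lpr_gf (K13.f240131 IH) (Lpe (K13.f240133 IH) (Lpn (LP (LK LD1_c10 LD2_c7 LD3_c36))))))))))))
theorem f269172 : Led Lsl_af (LP (LK LD1_c10 LD2_c7 LD3_c36)) = (LP (LK LD1_c10 LD2_c8 LD3_c26)) :=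
  Lgr Lrot31 (Lpe (f242096 IH) (Lpr_gf (K13.f242073 IH) (Lpr_ft (f269163 IH) (Lpn (LP (LK LD1_c10 LD2_c8 LD3_c26))))))
theorem f242303 : Led Lsl_df (LP (LK LD1_c10 LD2_c8 LD3_c26)) = (LP (LK LD1_c5 LD2_c12 LD3_c51)) :=
  Lgr Lrot84 (Lpr_cf (K13.f242142 IH) (Lpe (K12.f227319 IH) (Lpe (K12.f227327 IH) (Lpe (K10.f171534 IH) (Lpr_gf (K10.f196130 IH) (Lpe (K1.f46588 IH) (Lpr_gt (K13.f190754 IH) (Lpr_dt (K13.f190753 IH) (Lpr_gt (K13.f242299 IH) (Lpn (LP (LK LD1_c5 LD2_c12 LD3_c51))))))))))))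
theorem f269177 : Led Lsl_at (LP (LK LD1_c5 LD2_c8 LD3_c35)) = (LP (LK LD1_c5 LD2_c12 LD3_c51)) :=
  Lgr Lrot51 (Lpe (K13.f240133 IH) (Lpr_af (f269172 IH) (Lpr_df (f242303 IH) (Lpn (LP (LK LD1_c5 LD2_c12 LD3_c51))))))
theorem f269207 : Led Lsl_ff (LP (LK LD1_c5 LD2_c8 LD3_c35)) = (LP (LK LD1_c8 LD2_c3 LD3_c8)) :=
  Lgr Lrot52 (Lpr_at (f269177 IH) (Lpe (K13.f242299 IH) (Lpr_gf (K13.f237071 IH) (Lpn (LP (LK LD1_c8 LD2_c3 LD3_c8))))))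
theorem f269219 : Led Lsl_ft (LP (LK LD1_c5 LD2_c8 LD3_c35)) = (LP (LK LD1_c8 LD2_c3 LD3_c8)) :=
  Lgr Lrot48 (Lpr_ff (f269207 IH) (Lpn (LP (LK LD1_c8 LD2_c3 LD3_c8))))
theorem f269229 : Led Lsl_af (LP (LK LD1_c5 LD2_c8 LD3_c36)) = (LP (LK LD1_c8 LD2_c3 LD3_c8)) :=
  Lgr Lrot31 (Lpe (K13.f242070 IH) (Lpr_gf (K13.f240131 IH) (Lpr_ft (f269219 IH) (Lpn (LP (LK LD1_c8 LD2_c3 LD3_c8))))))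
theorem f269199 : Led Lsl_af (LP (LK LD1_c5 LD2_c8 LD3_c35)) = (LP (LK LD1_c5 LD2_c12 LD3_c51)) :=
  Lgr Lrot0 (Lpr_at (f269177 IH) (Lpn (LP (LK LD1_c5 LD2_c12 LD3_c51))))
theorem f269240 : Led Lsl_ft (LP (LK LD1_c5 LD2_c8 LD3_c36)) = (LP (LK LD1_c5 LD2_c12 LD3_c51)) :=
  Lgr Lrot101 (Lpr_af (f269229 IH) (Lpe (f269219 IH) (Lpr_af (f269199 IH) (Lpn (LP (LK LD1_c5 LD2_c12 LD3_c51))))))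
theorem f269244 : Led Lsl_ff (LP (LK LD1_c4 LD2_c1 LD3_c59)) = (LP (LK LD1_c2 LD2_c33 LD3_c15)) :=
  Lgr Lrot23 (Lpr_ct (K14.f239957 IH) (Lpr_ft (f269240 IH) (Lpr_ct (K13.f196115 IH) (Lpn (LP (LK LD1_c2 LD2_c33 LD3_c15))))))
theorem f269252 : Led Lsl_ft (LP (LK LD1_c4 LD2_c1 LD3_c59)) = (LP (LK LD1_c2 LD2_c33 LD3_c15)) :=
  Lgr Lrot48 (Lpr_ff (f269244 IH) (Lpn (LP (LK LD1_c2 LD2_c33 LD3_c15))))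
theorem f269203 : Led Lsl_af (LP (LK LD1_c4 LD2_c1 LD3_c58)) = (LP (LK LD1_c2 LD2_c33 LD3_c15)) :=
  Lgr Lrot68 (Lpr_ct (K13.f240134 IH) (Lpr_at (f269177 IH) (Lpr_ct (K13.f196115 IH) (Lpn (LP (LK LD1_c2 LD2_c33 LD3_c15))))))
theorem f269213 : Led Lsl_ft (LP (LK LD1_c4 LD2_c1 LD3_c58)) = (LP (LK LD1_c4 LD2_c1 LD3_c11)) :=
  Lgr Lrot4 (Lpr_cf (K13.f240166 IH) (Lpr_ff (f269207 IH) (Lpe (K13.f182005 IH) (Lpn (LP (LK LD1_c4 LD2_c1 LD3_c11))))))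
theorem f269254 : Led Lsl_af (LP (LK LD1_c4 LD2_c1 LD3_c59)) = (LP (LK LD1_c4 LD2_c1 LD3_c11)) :=
  Lgr Lrot45 (Lpr_ft (f269252 IH) (Lpe (f269203 IH) (Lpr_ft (f269213 IH) (Lpn (LP (LK LD1_c4 LD2_c1 LD3_c11))))))
theorem f28018 : Led Lsl_et (LP (LK LD1_c4 LD2_c1 LD3_c6)) = (LP (LK LD1_c1 LD2_c57 LD3_c21)) :=
  Lre_e IH (LK LD1_c4 LD2_c1 LD3_c6) (LK LD1_c1 LD2_c57 LD3_c21) Lrfl Lrfl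
theorem f216342 : Led Lsl_dt (LP (LK LD1_c8 LD2_c2 LD3_c58)) = (LP (LK LD1_c4 LD2_c1 LD3_c6)) :=
  Lre_d IH (LK LD1_c8 LD2_c2 LD3_c58) (LK LD1_c4 LD2_c1 LD3_c6) Lrfl Lrfl
theorem f243043 : Led Lsl_ef (LP (LK LD1_c8 LD2_c2 LD3_c58)) = (LP (LK LD1_c4 LD2_c1 LD3_c59)) :=
  Lgr Lrot73 (Lpr_dt (f216342 IH) (Lpr_et (f28018 IH) (Lpr_dt (K15.f226881 IH) (Lpr_et (K13.f243039 IH) (Lpe (K13.f243031 IH) (Lpn (LP (LK LD1_c4 LD2_c1 LD3_c59))))))))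
theorem f269265 : Led Lsl_at (LP (LK LD1_c8 LD2_c2 LD3_c58)) = (LP (LK LD1_c4 LD2_c3 LD3_c59)) :=
  Lgr Lrot80 (Lpr_ef (f243043 IH) (Lpr_af (f269254 IH) (Lpe (K15.f237014 IH) (Lpn (LP (LK LD1_c4 LD2_c3 LD3_c59))))))
theorem f269256 : Led Lsl_ft (LP (LK LD1_c15 LD2_c9 LD3_c20)) = (LP (LK LD1_c8 LD2_c2 LD3_c58)) :=
  Lre_f IH (LK LD1_c15 LD2_c9 LD3_c20) (LK LD1_c8 LD2_c2 LD3_c58) Lrfl Lrfl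
theorem f237016 : Led Lsl_ft (LP (LK LD1_c4 LD2_c3 LD3_c59)) = (LP (LK LD1_c8 LD2_c8 LD3_c32)) :=
  Lre_f IH (LK LD1_c4 LD2_c3 LD3_c59) (LK LD1_c8 LD2_c8 LD3_c32) Lrfl Lrfl
theorem f269271 : Led Lsl_af (LP (LK LD1_c15 LD2_c9 LD3_c20)) = (LP (LK LD1_c8 LD2_c8 LD3_c32)) :=
  Lgr Lrot45 (Lpr_ft (f269256 IH) (Lpr_at (f269265 IH) (Lpr_ft (f237016 IH) (Lpn (LP (LK LD1_c8 LD2_c8 LD3_c32))))))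
theorem f269260 : Led Lsl_dt (LP (LK LD1_c15 LD2_c9 LD3_c20)) = (LP (LK LD1_c8 LD2_c2 LD3_c59)) :=
  Lre_d IH (LK LD1_c15 LD2_c9 LD3_c20) (LK LD1_c8 LD2_c2 LD3_c59) Lrfl Lrfl
theorem f247922 : Led Lsl_dt (LP (LK LD1_c4 LD2_c3 LD3_c60)) = (LP (LK LD1_c8 LD2_c8 LD3_c32)) :=
  Lre_d IH (LK LD1_c4 LD2_c3 LD3_c60) (LK LD1_c8 LD2_c8 LD3_c32) Lrfl Lrfl
theorem f269287 : Led Lsl_at (LP (LK LD1_c8 LD2_c2 LD3_c59)) = (LP (LK LD1_c4 LD2_c3 LD3_c60)) :=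
  Lgr Lrot51 (Lpe (f269260 IH) (Lpr_af (f269271 IH) (Lpe (f247922 IH) (Lpn (LP (LK LD1_c4 LD2_c3 LD3_c60))))))
theorem f218985 : Led Lsl_ct (LP (LK LD1_c15 LD2_c9 LD3_c15)) = (LP (LK LD1_c8 LD2_c2 LD3_c59)) :=
  Lre_c IH (LK LD1_c15 LD2_c9 LD3_c15) (LK LD1_c8 LD2_c2 LD3_c59) Lrfl Lrfl
theorem f269295 : Led Lsl_ct (LP (LK LD1_c4 LD2_c3 LD3_c60)) = (LP (LK LD1_c8 LD2_c8 LD3_c23)) :=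
  Lre_c IH (LK LD1_c4 LD2_c3 LD3_c60) (LK LD1_c8 LD2_c8 LD3_c23) Lrfl Lrfl
theorem f269296 : Led Lsl_af (LP (LK LD1_c15 LD2_c9 LD3_c15)) = (LP (LK LD1_c8 LD2_c8 LD3_c23)) :=
  Lgr Lrot68 (Lpr_ct (f218985 IH) (Lpr_at (f269287 IH) (Lpr_ct (f269295 IH) (Lpn (LP (LK LD1_c8 LD2_c8 LD3_c23))))))
theorem f269313 : Led Lsl_ft (LP (LK LD1_c15 LD2_c9 LD3_c15)) = (LP (LK LD1_c8 LD2_c2 LD3_c55)) :=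
  Lre_f IH (LK LD1_c15 LD2_c9 LD3_c15) (LK LD1_c8 LD2_c2 LD3_c55) Lrfl Lrfl
theorem f269314 : Led Lsl_ft (LP (LK LD1_c4 LD2_c3 LD3_c56)) = (LP (LK LD1_c8 LD2_c8 LD3_c23)) :=
  Lre_f IH (LK LD1_c4 LD2_c3 LD3_c56) (LK LD1_c8 LD2_c8 LD3_c23) Lrfl Lrfl
theorem f269315 : Led Lsl_at (LP (LK LD1_c8 LD2_c2 LD3_c55)) = (LP (LK LD1_c4 LD2_c3 LD3_c56)) :=
  Lgr Lrot66 (Lpe (f269313 IH) (Lpr_af (f269296 IH) (Lpe (f269314 IH) (Lpn (LP (LK LD1_c4 LD2_c3 LD3_c56))))))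
theorem f216344 : Led Lsl_dt (LP (LK LD1_c15 LD2_c9 LD3_c14)) = (LP (LK LD1_c8 LD2_c2 LD3_c55)) :=
  Lre_d IH (LK LD1_c15 LD2_c9 LD3_c14) (LK LD1_c8 LD2_c2 LD3_c55) Lrfl Lrfl
theorem f200815 : Led Lsl_dt (LP (LK LD1_c4 LD2_c3 LD3_c56)) = (LP (LK LD1_c8 LD2_c8 LD3_c22)) :=
  Lre_d IH (LK LD1_c4 LD2_c3 LD3_c56) (LK LD1_c8 LD2_c8 LD3_c22) Lrfl Lrfl
theorem f269326 : Led Lsl_af (LP (LK LD1_c15 LD2_c9 LD3_c14)) = (LP (LK LD1_c8 LD2_c8 LD3_c22)) :=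
  Lgr Lrot117 (Lpr_dt (f216344 IH) (Lpr_at (f269315 IH) (Lpr_dt (f200815 IH) (Lpn (LP (LK LD1_c8 LD2_c8 LD3_c22))))))
theorem f223603 : Led Lsl_et (LP (LK LD1_c2 LD2_c6 LD3_c61)) = (LP (LK LD1_c4 LD2_c19 LD3_c12)) :=
  Lre_e IH (LK LD1_c2 LD2_c6 LD3_c61) (LK LD1_c4 LD2_c19 LD3_c12) Lrfl Lrfl
theorem f200719 : Led Lsl_dt (LP (LK LD1_c4 LD2_c19 LD3_c12)) = (LP (LK LD1_c8 LD2_c36 LD3_c51)) :=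
  Lre_d IH (LK LD1_c4 LD2_c19 LD3_c12) (LK LD1_c8 LD2_c36 LD3_c51) Lrfl Lrfl
theorem f223595 : Led Lsl_et (LP (LK LD1_c8 LD2_c2 LD3_c55)) = (LP (LK LD1_c4 LD2_c1 LD3_c5)) :=
  Lre_e IH (LK LD1_c8 LD2_c2 LD3_c55) (LK LD1_c4 LD2_c1 LD3_c5) Lrfl Lrfl
theorem f223604 : Led Lsl_et (LP (LK LD1_c8 LD2_c36 LD3_c51)) = (LP (LK LD1_c15 LD2_c9 LD3_c14)) :=
  Lgr Lrot71 (Lpe (f200719 IH) (Lpe (f223603 IH) (Lpr_df (K12.f223593 IH) (Lpe (f223595 IH) (Lpe (f216344 IH) (Lpn (LP (LK LD1_c15 LD2_c9 LD3_c14))))))))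
theorem f223615 : Led Lsl_ef (LP (LK LD1_c8 LD2_c36 LD3_c51)) = (LP (LK LD1_c15 LD2_c9 LD3_c14)) :=
  Lgr Lrot88 (Lpr_et (f223604 IH) (Lpn (LP (LK LD1_c15 LD2_c9 LD3_c14))))
theorem f226980 : Led Lsl_et (LP (LK LD1_c1 LD2_c58 LD3_c57)) = (LP (LK LD1_c4 LD2_c3 LD3_c56)) :=
  Lre_e IH (LK LD1_c1 LD2_c58 LD3_c57) (LK LD1_c4 LD2_c3 LD3_c56) Lrfl Lrfl
theorem f226981 : Led Lsl_et (LP (LK LD1_c4 LD2_c3 LD3_c47)) = (LP (LK LD1_c1 LD2_c58 LD3_c51)) :=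
  Lre_e IH (LK LD1_c4 LD2_c3 LD3_c47) (LK LD1_c1 LD2_c58 LD3_c51) Lrfl Lrfl
theorem f226871 : Led Lsl_dt (LP (LK LD1_c8 LD2_c7 LD3_c60)) = (LP (LK LD1_c4 LD2_c3 LD3_c47)) :=
  Lre_d IH (LK LD1_c8 LD2_c7 LD3_c60) (LK LD1_c4 LD2_c3 LD3_c47) Lrfl Lrfl
theorem f226982 : Led Lsl_et (LP (LK LD1_c8 LD2_c8 LD3_c22)) = (LP (LK LD1_c8 LD2_c7 LD3_c60)) :=
  Lgr Lrot71 (Lpe (f200815 IH) (Lpe (f226980 IH) (Lpr_df (K13.f226901 IH) (Lpe (f226981 IH) (Lpe (f226871 IH) (Lpn (LP (LK LD1_c8 LD2_c7 LD3_c60))))))))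
theorem f227082 : Led Lsl_ef (LP (LK LD1_c8 LD2_c8 LD3_c22)) = (LP (LK LD1_c8 LD2_c7 LD3_c60)) :=
  Lgr Lrot88 (Lpr_et (f226982 IH) (Lpn (LP (LK LD1_c8 LD2_c7 LD3_c60))))
theorem f269334 : Led Lsl_at (LP (LK LD1_c8 LD2_c36 LD3_c51)) = (LP (LK LD1_c8 LD2_c7 LD3_c60)) :=
  Lgr Lrot80 (Lpr_ef (f223615 IH) (Lpr_af (f269326 IH) (Lpr_ef (f227082 IH) (Lpn (LP (LK LD1_c8 LD2_c7 LD3_c60))))))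
theorem f223617 : Led Lsl_ft (LP (LK LD1_c16 LD2_c8 LD3_c24)) = (LP (LK LD1_c8 LD2_c36 LD3_c51)) :=
  Lre_f IH (LK LD1_c16 LD2_c8 LD3_c24) (LK LD1_c8 LD2_c36 LD3_c51) Lrfl Lrfl
theorem f247375 : Led Lsl_dt (LP (LK LD1_c16 LD2_c8 LD3_c24)) = (LP (LK LD1_c8 LD2_c36 LD3_c52)) :=
  Lre_d IH (LK LD1_c16 LD2_c8 LD3_c24) (LK LD1_c8 LD2_c36 LD3_c52) Lrfl Lrfl
theorem f247367 : Led Lsl_ct (LP (LK LD1_c8 LD2_c36 LD3_c52)) = (LP (LK LD1_c4 LD2_c19 LD3_c16)) :=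
  Lre_c IH (LK LD1_c8 LD2_c36 LD3_c52) (LK LD1_c4 LD2_c19 LD3_c16) Lrfl Lrfl
theorem f238659 : Led Lsl_dt (LP (LK LD1_c4 LD2_c19 LD3_c16)) = (LP (LK LD1_c8 LD2_c36 LD3_c59)) :=
  Lre_d IH (LK LD1_c4 LD2_c19 LD3_c16) (LK LD1_c8 LD2_c36 LD3_c59) Lrfl Lrfl
theorem f238661 : Led Lsl_ct (LP (LK LD1_c8 LD2_c36 LD3_c59)) = (LP (LK LD1_c16 LD2_c8 LD3_c29)) :=
  Lre_c IH (LK LD1_c8 LD2_c36 LD3_c59) (LK LD1_c16 LD2_c8 LD3_c29) Lrfl Lrfl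
theorem f269345 : Led Lsl_dt (LP (LK LD1_c16 LD2_c8 LD3_c29)) = (LP (LK LD1_c26 LD2_c5 LD3_c15)) :=
  Lre_d IH (LK LD1_c16 LD2_c8 LD3_c29) (LK LD1_c26 LD2_c5 LD3_c15) Lrfl Lrfl
theorem f226997 : Led Lsl_ct (LP (LK LD1_c15 LD2_c18 LD3_c52)) = (LP (LK LD1_c8 LD2_c7 LD3_c60)) :=
  Lre_c IH (LK LD1_c15 LD2_c18 LD3_c52) (LK LD1_c8 LD2_c7 LD3_c60) Lrfl Lrfl
theorem f226998 : Led Lsl_dt (LP (LK LD1_c25 LD2_c9 LD3_c49)) = (LP (LK LD1_c15 LD2_c18 LD3_c52)) :=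
  Lre_d IH (LK LD1_c25 LD2_c9 LD3_c49) (LK LD1_c15 LD2_c18 LD3_c52) Lrfl Lrfl
theorem f269346 : Led Lsl_ct (LP (LK LD1_c26 LD2_c5 LD3_c15)) = (LP (LK LD1_c25 LD2_c9 LD3_c49)) :=
  Lgr Lrot53 (Lpe (f269345 IH) (Lpe (f238661 IH) (Lpe (f238659 IH) (Lpe (f247367 IH) (Lpe (f247375 IH) (Lpr_ft (f223617 IH) (Lpr_at (f269334 IH) (Lpe (f226997 IH) (Lpe (f226998 IH) (Lpn (LP (LK LD1_c25 LD2_c9 LD3_c49))))))))))))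
theorem f269356 : Led Lsl_ft (LP (LK LD1_c16 LD2_c8 LD3_c29)) = (LP (LK LD1_c8 LD2_c36 LD3_c58)) :=
  Lre_f IH (LK LD1_c16 LD2_c8 LD3_c29) (LK LD1_c8 LD2_c36 LD3_c58) Lrfl Lrfl
theorem f226874 : Led Lsl_ct (LP (LK LD1_c4 LD2_c3 LD3_c47)) = (LP (LK LD1_c1 LD2_c58 LD3_c52)) :=
  Lre_c IH (LK LD1_c4 LD2_c3 LD3_c47) (LK LD1_c1 LD2_c58 LD3_c52) Lrfl Lrfl
theorem f226860 : Led Lsl_dt (LP (LK LD1_c1 LD2_c58 LD3_c52)) = (LP (LK LD1_c4 LD2_c3 LD3_c50)) :=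
  Lre_d IH (LK LD1_c1 LD2_c58 LD3_c52) (LK LD1_c4 LD2_c3 LD3_c50) Lrfl Lrfl
theorem f226875 : Led Lsl_ct (LP (LK LD1_c4 LD2_c3 LD3_c50)) = (LP (LK LD1_c8 LD2_c8 LD3_c6)) :=
  Lre_c IH (LK LD1_c4 LD2_c3 LD3_c50) (LK LD1_c8 LD2_c8 LD3_c6) Lrfl Lrfl
theorem f269357 : Led Lsl_at (LP (LK LD1_c8 LD2_c36 LD3_c58)) = (LP (LK LD1_c8 LD2_c8 LD3_c6)) :=
  Lgr Lrot33 (Lpe (f269356 IH) (Lpr_dt (f269345 IH) (Lpr_ct (f269346 IH) (Lpr_dt (f226998 IH) (Lpr_ct (f226997 IH) (Lpr_dt (f226871 IH) (Lpr_ct (f226874 IH) (Lpr_dt (f226860 IH) (Lpr_ct (f226875 IH) (Lpn (LP (LK LD1_c8 LD2_c8 LD3_c6))))))))))))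
theorem f269370 : Led Lsl_ft (LP (LK LD1_c8 LD2_c8 LD3_c6)) = (LP (LK LD1_c15 LD2_c19 LD3_c2)) :=
  Lre_f IH (LK LD1_c8 LD2_c8 LD3_c6) (LK LD1_c15 LD2_c19 LD3_c2) Lrfl Lrfl
theorem f269371 : Led Lsl_af (LP (LK LD1_c16 LD2_c8 LD3_c29)) = (LP (LK LD1_c15 LD2_c19 LD3_c2)) :=
  Lgr Lrot45 (Lpr_ft (f269356 IH) (Lpr_at (f269357 IH) (Lpr_ft (f269370 IH) (Lpn (LP (LK LD1_c15 LD2_c19 LD3_c2))))))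
theorem f269373 : Led Lsl_at (LP (LK LD1_c16 LD2_c8 LD3_c29)) = (LP (LK LD1_c15 LD2_c19 LD3_c2)) :=
  Lgr Lrot100 (Lpr_af (f269371 IH) (Lpn (LP (LK LD1_c15 LD2_c19 LD3_c2))))
theorem f237149 : Led Lsl_ct (LP (LK LD1_c15 LD2_c19 LD3_c2)) = (LP (LK LD1_c8 LD2_c8 LD3_c7)) :=
  Lre_c IH (LK LD1_c15 LD2_c19 LD3_c2) (LK LD1_c8 LD2_c8 LD3_c7) Lrfl Lrfl
theorem f269375 : Led Lsl_af (LP (LK LD1_c8 LD2_c36 LD3_c59)) = (LP (LK LD1_c8 LD2_c8 LD3_c7)) :=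
  Lgr Lrot68 (Lpr_ct (f238661 IH) (Lpr_at (f269373 IH) (Lpr_ct (f237149 IH) (Lpn (LP (LK LD1_c8 LD2_c8 LD3_c7))))))
theorem f238713 : Led Lsl_ft (LP (LK LD1_c8 LD2_c36 LD3_c59)) = (LP (LK LD1_c4 LD2_c19 LD3_c15)) :=
  Lre_f IH (LK LD1_c8 LD2_c36 LD3_c59) (LK LD1_c4 LD2_c19 LD3_c15) Lrfl Lrfl
theorem f269381 : Led Lsl_ft (LP (LK LD1_c4 LD2_c3 LD3_c50)) = (LP (LK LD1_c8 LD2_c8 LD3_c7)) :=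
  Lre_f IH (LK LD1_c4 LD2_c3 LD3_c50) (LK LD1_c8 LD2_c8 LD3_c7) Lrfl Lrfl
theorem f269382 : Led Lsl_at (LP (LK LD1_c4 LD2_c19 LD3_c15)) = (LP (LK LD1_c4 LD2_c3 LD3_c50)) :=
  Lgr Lrot66 (Lpe (f238713 IH) (Lpr_af (f269375 IH) (Lpe (f269381 IH) (Lpn (LP (LK LD1_c4 LD2_c3 LD3_c50))))))
theorem f229902 : Led Lsl_et (LP (LK LD1_c4 LD2_c3 LD3_c50)) = (LP (LK LD1_c1 LD2_c58 LD3_c54)) :=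
  Lre_e IH (LK LD1_c4 LD2_c3 LD3_c50) (LK LD1_c1 LD2_c58 LD3_c54) Lrfl Lrfl
theorem f269398 : Led Lsl_af (LP (LK LD1_c2 LD2_c7 LD3_c2)) = (LP (LK LD1_c1 LD2_c58 LD3_c54)) :=
  Lgr Lrot50 (Lpr_et (K13.f227961 IH) (Lpr_at (f269382 IH) (Lpr_et (f229902 IH) (Lpn (LP (LK LD1_c1 LD2_c58 LD3_c54))))))
theorem f269482 : Led Lsl_ft (LP (LK LD1_c2 LD2_c8 LD3_c15)) = (LP (LK LD1_c1 LD2_c58 LD3_c54)) :=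
  Lgr Lrot2 (Lpr_gt (K13.f216819 IH) (Lpe (K13.f180222 IH) (Lpr_af (f269398 IH) (Lpn (LP (LK LD1_c1 LD2_c58 LD3_c54))))))
theorem f269484 : Led Lsl_ff (LP (LK LD1_c4 LD2_c21 LD3_c29)) = (LP (LK LD1_c4 LD2_c3 LD3_c52)) :=
  Lgr Lrot23 (Lpr_ct (K14.f238727 IH) (Lpr_ft (f269482 IH) (Lpr_ct (K13.f229892 IH) (Lpn (LP (LK LD1_c4 LD2_c3 LD3_c52))))))
theorem f269492 : Led Lsl_at (LP (LK LD1_c4 LD2_c21 LD3_c29)) = (LP (LK LD1_c4 LD2_c56 LD3_c45)) :=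
  Lgr Lrot26 (Lpr_ff (f269484 IH) (Lpr_gt (K13.f229893 IH) (Lpr_gt (K13.f168372 IH) (Lpn (LP (LK LD1_c4 LD2_c56 LD3_c45))))))
theorem f269478 : Led Lsl_at (LP (LK LD1_c4 LD2_c19 LD3_c18)) = (LP (LK LD1_c4 LD2_c3 LD3_c52)) :=
  Lgr Lrot107 (Lpe (K13.f236476 IH) (Lpr_af (f269398 IH) (Lpe (K13.f201276 IH) (Lpn (LP (LK LD1_c4 LD2_c3 LD3_c52))))))
theorem f269505 : Led Lsl_ff (LP (LK LD1_c4 LD2_c19 LD3_c18)) = (LP (LK LD1_c4 LD2_c56 LD3_c45)) :=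
  Lgr Lrot30 (Lpr_at (f269478 IH) (Lpe (f269484 IH) (Lpr_at (f269492 IH) (Lpn (LP (LK LD1_c4 LD2_c56 LD3_c45))))))
theorem f269515 : Led Lsl_ft (LP (LK LD1_c4 LD2_c19 LD3_c18)) = (LP (LK LD1_c4 LD2_c56 LD3_c45)) :=
  Lgr Lrot48 (Lpr_ff (f269505 IH) (Lpn (LP (LK LD1_c4 LD2_c56 LD3_c45))))
theorem f238624 : Led Lsl_et (LP (LK LD1_c8 LD2_c36 LD3_c58)) = (LP (LK LD1_c4 LD2_c19 LD3_c18)) :=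
  Lre_e IH (LK LD1_c8 LD2_c36 LD3_c58) (LK LD1_c4 LD2_c19 LD3_c18) Lrfl Lrfl
theorem f247376 : Led Lsl_ct (LP (LK LD1_c4 LD2_c19 LD3_c16)) = (LP (LK LD1_c8 LD2_c36 LD3_c52)) :=
  Lre_c IH (LK LD1_c4 LD2_c19 LD3_c16) (LK LD1_c8 LD2_c36 LD3_c52) Lrfl Lrfl
theorem f269402 : Led Lsl_dt (LP (LK LD1_c8 LD2_c36 LD3_c52)) = (LP (LK LD1_c16 LD2_c8 LD3_c24)) :=
  Lre_d IH (LK LD1_c8 LD2_c36 LD3_c52) (LK LD1_c16 LD2_c8 LD3_c24) Lrfl Lrfl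
theorem f269403 : Led Lsl_ct (LP (LK LD1_c16 LD2_c8 LD3_c24)) = (LP (LK LD1_c26 LD2_c5 LD3_c10)) :=
  Lre_c IH (LK LD1_c16 LD2_c8 LD3_c24) (LK LD1_c26 LD2_c5 LD3_c10) Lrfl Lrfl
theorem f227004 : Led Lsl_ct (LP (LK LD1_c8 LD2_c8 LD3_c6)) = (LP (LK LD1_c4 LD2_c3 LD3_c50)) :=
  Lre_c IH (LK LD1_c8 LD2_c8 LD3_c6) (LK LD1_c4 LD2_c3 LD3_c50) Lrfl Lrfl
theorem f236901 : Led Lsl_dt (LP (LK LD1_c15 LD2_c19 LD3_c1)) = (LP (LK LD1_c8 LD2_c8 LD3_c6)) :=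
  Lre_d IH (LK LD1_c15 LD2_c19 LD3_c1) (LK LD1_c8 LD2_c8 LD3_c6) Lrfl Lrfl
theorem f236906 : Led Lsl_ct (LP (LK LD1_c25 LD2_c10 LD3_c2)) = (LP (LK LD1_c15 LD2_c19 LD3_c1)) :=
  Lre_c IH (LK LD1_c25 LD2_c10 LD3_c2) (LK LD1_c15 LD2_c19 LD3_c1) Lrfl Lrfl
theorem f269404 : Led Lsl_dt (LP (LK LD1_c26 LD2_c5 LD3_c10)) = (LP (LK LD1_c25 LD2_c10 LD3_c2)) :=
  Lgr Lrot140 (Lpe (f269403 IH) (Lpe (f269402 IH) (Lpe (f247376 IH) (Lpe (K14.f238712 IH) (Lpr_ft (f238713 IH) (Lpr_at (f269382 IH) (Lpe (f227004 IH) (Lpe (f236901 IH) (Lpe (f236906 IH) (Lpn (LP (LK LD1_c25 LD2_c10 LD3_c2))))))))))))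
theorem f238653 : Led Lsl_ct (LP (LK LD1_c16 LD2_c8 LD3_c29)) = (LP (LK LD1_c8 LD2_c36 LD3_c59)) :=
  Lre_c IH (LK LD1_c16 LD2_c8 LD3_c29) (LK LD1_c8 LD2_c36 LD3_c59) Lrfl Lrfl
theorem f238660 : Led Lsl_dt (LP (LK LD1_c26 LD2_c5 LD3_c15)) = (LP (LK LD1_c16 LD2_c8 LD3_c29)) :=
  Lre_d IH (LK LD1_c26 LD2_c5 LD3_c15) (LK LD1_c16 LD2_c8 LD3_c29) Lrfl Lrfl
theorem f269412 : Led Lsl_ft (LP (LK LD1_c26 LD2_c5 LD3_c15)) = (LP (LK LD1_c16 LD2_c8 LD3_c28)) :=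
  Lre_f IH (LK LD1_c26 LD2_c5 LD3_c15) (LK LD1_c16 LD2_c8 LD3_c28) Lrfl Lrfl
theorem f269413 : Led Lsl_at (LP (LK LD1_c16 LD2_c8 LD3_c28)) = (LP (LK LD1_c15 LD2_c19 LD3_c1)) :=
  Lgr Lrot33 (Lpe (f269412 IH) (Lpr_dt (f238660 IH) (Lpr_ct (f238653 IH) (Lpr_dt (K14.f238712 IH) (Lpr_ct (f247376 IH) (Lpr_dt (f269402 IH) (Lpr_ct (f269403 IH) (Lpr_dt (f269404 IH) (Lpr_ct (f236906 IH) (Lpn (LP (LK LD1_c15 LD2_c19 LD3_c1))))))))))))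
theorem f184383 : Led Lsl_et (LP (LK LD1_c1 LD2_c55 LD3_c19)) = (LP (LK LD1_c3 LD2_c56 LD3_c54)) :=
  Lre_e IH (LK LD1_c1 LD2_c55 LD3_c19) (LK LD1_c3 LD2_c56 LD3_c54) Lrfl Lrfl
theorem f232330 : Led Lsl_et (LP (LK LD1_c9 LD2_c33 LD3_c54)) = (LP (LK LD1_c4 LD2_c50 LD3_c54)) :=
  Lre_e IH (LK LD1_c9 LD2_c33 LD3_c54) (LK LD1_c4 LD2_c50 LD3_c54) Lrfl Lrfl
theorem f216582 : Led Lsl_dt (LP (LK LD1_c9 LD2_c33 LD3_c54)) = (LP (LK LD1_c17 LD2_c36 LD3_c49)) :=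
  Lre_d IH (LK LD1_c9 LD2_c33 LD3_c54) (LK LD1_c17 LD2_c36 LD3_c49) Lrfl Lrfl
theorem f229908 : Led Lsl_et (LP (LK LD1_c8 LD2_c8 LD3_c6)) = (LP (LK LD1_c4 LD2_c3 LD3_c52)) :=
  Lre_e IH (LK LD1_c8 LD2_c8 LD3_c6) (LK LD1_c4 LD2_c3 LD3_c52) Lrfl Lrfl
theorem f229909 : Led Lsl_dt (LP (LK LD1_c8 LD2_c8 LD3_c6)) = (LP (LK LD1_c15 LD2_c19 LD3_c1)) :=
  Lre_d IH (LK LD1_c8 LD2_c8 LD3_c6) (LK LD1_c15 LD2_c19 LD3_c1) Lrfl Lrfl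
theorem f236899 : Led Lsl_gt (LP (LK LD1_c17 LD2_c36 LD3_c49)) = (LP (LK LD1_c15 LD2_c19 LD3_c1)) :=
  Lgr Lrot112 (Lpe (f216582 IH) (Lpr_et (f232330 IH) (Lpe (K13.f232325 IH) (Lpe (f184383 IH) (Lpr_dt (K1.f39181 IH) (Lpr_gf (K13.f236855 IH) (Lpe (K13.f216426 IH) (Lpe (K13.f229893 IH) (Lpe (f229908 IH) (Lpr_dt (f229909 IH) (Lpn (LP (LK LD1_c15 LD2_c19 LD3_c1)))))))))))))
theorem f269417 : Led Lsl_gt (LP (LK LD1_c26 LD2_c5 LD3_c15)) = (LP (LK LD1_c17 LD2_c36 LD3_c49)) :=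
  Lgr Lrot5 (Lpr_ft (f269412 IH) (Lpr_at (f269413 IH) (Lpe (f236899 IH) (Lpn (LP (LK LD1_c17 LD2_c36 LD3_c49))))))
theorem f232329 : Led Lsl_et (LP (LK LD1_c4 LD2_c50 LD3_c51)) = (LP (LK LD1_c9 LD2_c33 LD3_c50)) :=
  Lre_e IH (LK LD1_c4 LD2_c50 LD3_c51) (LK LD1_c9 LD2_c33 LD3_c50) Lrfl Lrfl
theorem f167392 : Led Lsl_gt (LP (LK LD1_c9 LD2_c33 LD3_c50)) = (LP (LK LD1_c17 LD2_c36 LD3_c40)) :=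
  Lre_g IH (LK LD1_c9 LD2_c33 LD3_c50) (LK LD1_c17 LD2_c36 LD3_c40) Lrfl Lrfl
theorem f269420 : Led Lsl_et (LP (LK LD1_c16 LD2_c8 LD3_c29)) = (LP (LK LD1_c17 LD2_c36 LD3_c40)) :=
  Lgr Lrot122 (Lpr_dt (f269345 IH) (Lpr_gt (f269417 IH) (Lpe (f216582 IH) (Lpr_et (f232330 IH) (Lpe (K13.f232308 IH) (Lpe (K1.f39059 IH) (Lpr_gt (K13.f232327 IH) (Lpe (K13.f184419 IH) (Lpr_et (f232329 IH) (Lpr_gt (f167392 IH) (Lpn (LP (LK LD1_c17 LD2_c36 LD3_c40)))))))))))))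
theorem f269427 : Led Lsl_ef (LP (LK LD1_c16 LD2_c8 LD3_c29)) = (LP (LK LD1_c17 LD2_c36 LD3_c40)) :=
  Lgr Lrot88 (Lpr_et (f269420 IH) (Lpn (LP (LK LD1_c17 LD2_c36 LD3_c40))))
theorem f255668 : Led Lsl_et (LP (LK LD1_c9 LD2_c34 LD3_c23)) = (LP (LK LD1_c4 LD2_c51 LD3_c10)) :=
  Lre_e IH (LK LD1_c9 LD2_c34 LD3_c23) (LK LD1_c4 LD2_c51 LD3_c10) Lrfl Lrfl
theorem f232934 : Led Lsl_et (LP (LK LD1_c2 LD2_c8 LD3_c13)) = (LP (LK LD1_c1 LD2_c1 LD3_c24)) :=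
  Lre_e IH (LK LD1_c2 LD2_c8 LD3_c13) (LK LD1_c1 LD2_c1 LD3_c24) Lrfl Lrfl
theorem f39011 : Led Lsl_et (LP (LK LD1_c4 LD2_c22 LD3_c2)) = (LP (LK LD1_c2 LD2_c8 LD3_c29)) :=
  Lre_e IH (LK LD1_c4 LD2_c22 LD3_c2) (LK LD1_c2 LD2_c8 LD3_c29) Lrfl Lrfl
theorem f39012 : Led Lsl_dt (LP (LK LD1_c4 LD2_c22 LD3_c2)) = (LP (LK LD1_c8 LD2_c41 LD3_c51)) :=
  Lre_d IH (LK LD1_c4 LD2_c22 LD3_c2) (LK LD1_c8 LD2_c41 LD3_c51) Lrfl Lrfl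
theorem f255683 : Led Lsl_gt (LP (LK LD1_c8 LD2_c41 LD3_c51)) = (LP (LK LD1_c16 LD2_c17 LD3_c23)) :=
  Lre_g IH (LK LD1_c8 LD2_c41 LD3_c51) (LK LD1_c16 LD2_c17 LD3_c23) Lrfl Lrfl
theorem f255684 : Led Lsl_dt (LP (LK LD1_c9 LD2_c34 LD3_c23)) = (LP (LK LD1_c16 LD2_c17 LD3_c23)) :=
  Lgr Lrot37 (Lpr_et (f255668 IH) (Lpr_gt (K14.f255671 IH) (Lpr_dt (K13.f233159 IH) (Lpr_gt (K13.f233212 IH) (Lpe (K13.f29146 IH) (Lpr_et (f232934 IH) (Lpr_gt (K13.f39000 IH) (Lpe (f39011 IH) (Lpr_dt (f39012 IH) (Lpr_gt (f255683 IH) (Lpn (LP (LK LD1_c16 LD2_c17 LD3_c23)))))))))))))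
theorem f255692 : Led Lsl_df (LP (LK LD1_c9 LD2_c34 LD3_c23)) = (LP (LK LD1_c16 LD2_c17 LD3_c23)) :=
  Lgr Lrot38 (Lpr_dt (f255684 IH) (Lpn (LP (LK LD1_c16 LD2_c17 LD3_c23))))
theorem f235730 : Led Lsl_et (LP (LK LD1_c2 LD2_c38 LD3_c17)) = (LP (LK LD1_c5 LD2_c23 LD3_c31)) :=
  Lre_e IH (LK LD1_c2 LD2_c38 LD3_c17) (LK LD1_c5 LD2_c23 LD3_c31) Lrfl Lrfl
theorem f255669 : Led Lsl_cf (LP (LK LD1_c9 LD2_c34 LD3_c23)) = (LP (LK LD1_c5 LD2_c23 LD3_c31)) :=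
  Lgr Lrot39 (Lpr_et (f255668 IH) (Lpr_ct (K14.f255620 IH) (Lpr_et (f235730 IH) (Lpn (LP (LK LD1_c5 LD2_c23 LD3_c31))))))
theorem f227234 : Led Lsl_gt (LP (LK LD1_c4 LD2_c21 LD3_c51)) = (LP (LK LD1_c2 LD2_c8 LD3_c25)) :=
  Lre_g IH (LK LD1_c4 LD2_c21 LD3_c51) (LK LD1_c2 LD2_c8 LD3_c25) Lrfl Lrfl
theorem f255605 : Led Lsl_ct (LP (LK LD1_c8 LD2_c41 LD3_c20)) = (LP (LK LD1_c4 LD2_c21 LD3_c51)) :=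
  Lre_c IH (LK LD1_c8 LD2_c41 LD3_c20) (LK LD1_c4 LD2_c21 LD3_c51) Lrfl Lrfl
theorem f255702 : Led Lsl_gt (LP (LK LD1_c8 LD2_c41 LD3_c20)) = (LP (LK LD1_c4 LD2_c22 LD3_c2)) :=
  Lgr Lrot180 (Lpr_ct (f255605 IH) (Lpr_gt (f227234 IH) (Lpr_dt (K14.f42920 IH) (Lpr_gt (K14.f255597 IH) (Lpr_dt (K14.f235741 IH) (Lpe (f255669 IH) (Lpr_df (f255692 IH) (Lpe (f255683 IH) (Lpe (f39012 IH) (Lpn (LP (LK LD1_c4 LD2_c22 LD3_c2))))))))))))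
theorem f255711 : Led Lsl_et (LP (LK LD1_c16 LD2_c16 LD3_c34)) = (LP (LK LD1_c8 LD2_c41 LD3_c20)) :=
  Lre_e IH (LK LD1_c16 LD2_c16 LD3_c34) (LK LD1_c8 LD2_c41 LD3_c20) Lrfl Lrfl
theorem f238045 : Led Lsl_et (LP (LK LD1_c4 LD2_c51 LD3_c28)) = (LP (LK LD1_c2 LD2_c23 LD3_c34)) :=
  Lre_e IH (LK LD1_c4 LD2_c51 LD3_c28) (LK LD1_c2 LD2_c23 LD3_c34) Lrfl Lrfl
theorem f238046 : Led Lsl_dt (LP (LK LD1_c4 LD2_c51 LD3_c28)) = (LP (LK LD1_c9 LD2_c35 LD3_c1)) :=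
  Lre_d IH (LK LD1_c4 LD2_c51 LD3_c28) (LK LD1_c9 LD2_c35 LD3_c1) Lrfl Lrfl
theorem f255687 : Led Lsl_gt (LP (LK LD1_c9 LD2_c35 LD3_c1)) = (LP (LK LD1_c17 LD2_c38 LD3_c53)) :=
  Lre_g IH (LK LD1_c9 LD2_c35 LD3_c1) (LK LD1_c17 LD2_c38 LD3_c53) Lrfl Lrfl
theorem f255712 : Led Lsl_dt (LP (LK LD1_c16 LD2_c16 LD3_c34)) = (LP (LK LD1_c17 LD2_c38 LD3_c53)) :=
  Lgr Lrot37 (Lpr_et (f255711 IH) (Lpr_gt (f255702 IH) (Lpr_dt (f39012 IH) (Lpr_gt (f255683 IH) (Lpe (f255684 IH) (Lpr_et (f255668 IH) (Lpr_gt (K14.f255671 IH) (Lpe (f238045 IH) (Lpr_dt (f238046 IH) (Lpr_gt (f255687 IH) (Lpn (LP (LK LD1_c17 LD2_c38 LD3_c53)))))))))))))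
theorem f238113 : Led Lsl_gt (LP (LK LD1_c9 LD2_c35 LD3_c0)) = (LP (LK LD1_c4 LD2_c51 LD3_c28)) :=
  Lre_g IH (LK LD1_c9 LD2_c35 LD3_c0) (LK LD1_c4 LD2_c51 LD3_c28) Lrfl Lrfl
theorem f238946 : Led Lsl_dt (LP (LK LD1_c4 LD2_c56 LD3_c45)) = (LP (LK LD1_c5 LD2_c37 LD3_c9)) :=
  Lgr Lrot6 (Lpe (K13.f236921 IH) (Lpr_ct (K13.f196325 IH) (Lpr_gt (K11.f196952 IH) (Lpr_ct (K12.f179542 IH) (Lpe (K13.f179541 IH) (Lpr_cf (K13.f238919 IH) (Lpe (K13.f193691 IH) (Lpr_cf (K13.f237250 IH) (Lpr_gf (K13.f236573 IH) (Lpn (LP (LK LD1_c5 LD2_c37 LD3_c9))))))))))))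
theorem f255714 : Led Lsl_ef (LP (LK LD1_c9 LD2_c35 LD3_c0)) = (LP (LK LD1_c4 LD2_c56 LD3_c45)) :=
  Lgr Lrot167 (Lpr_gt (f238113 IH) (Lpr_dt (f238046 IH) (Lpr_gt (f255687 IH) (Lpe (f255712 IH) (Lpr_et (f255711 IH) (Lpr_gt (f255702 IH) (Lpe (K13.f237208 IH) (Lpr_dt (K14.f39006 IH) (Lpr_gt (K13.f238967 IH) (Lpe (f238946 IH) (Lpn (LP (LK LD1_c4 LD2_c56 LD3_c45)))))))))))))
theorem f269523 : Led Lsl_ff (LP (LK LD1_c17 LD2_c36 LD3_c40)) = (LP (LK LD1_c9 LD2_c35 LD3_c0)) :=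
  Lgr Lrot72 (Lpe (f269427 IH) (Lpr_ft (f269356 IH) (Lpr_et (f238624 IH) (Lpr_ft (f269515 IH) (Lpe (f255714 IH) (Lpn (LP (LK LD1_c9 LD2_c35 LD3_c0))))))))
theorem f233161 : Led Lsl_gt (LP (LK LD1_c4 LD2_c51 LD3_c28)) = (LP (LK LD1_c9 LD2_c34 LD3_c61)) :=
  Lre_g IH (LK LD1_c4 LD2_c51 LD3_c28) (LK LD1_c9 LD2_c34 LD3_c61) Lrfl Lrfl
theorem f269531 : Led Lsl_at (LP (LK LD1_c17 LD2_c36 LD3_c40)) = (LP (LK LD1_c9 LD2_c34 LD3_c61)) :=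
  Lgr Lrot26 (Lpr_ff (f269523 IH) (Lpr_gt (f238113 IH) (Lpr_gt (f233161 IH) (Lpn (LP (LK LD1_c9 LD2_c34 LD3_c61))))))
theorem f269537 : Led Lsl_ef (LP (LK LD1_c15 LD2_c19 LD3_c2)) = (LP (LK LD1_c9 LD2_c34 LD3_c61)) :=
  Lgr Lrot20 (Lpe (f269371 IH) (Lpr_et (f269420 IH) (Lpr_at (f269531 IH) (Lpn (LP (LK LD1_c9 LD2_c34 LD3_c61))))))
theorem f269378 : Led Lsl_ft (LP (LK LD1_c15 LD2_c19 LD3_c2)) = (LP (LK LD1_c8 LD2_c8 LD3_c6)) :=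
  Lre_f IH (LK LD1_c15 LD2_c19 LD3_c2) (LK LD1_c8 LD2_c8 LD3_c6) Lrfl Lrfl
theorem f238906 : Led Lsl_et (LP (LK LD1_c4 LD2_c21 LD3_c29)) = (LP (LK LD1_c8 LD2_c40 LD3_c34)) :=
  Lre_e IH (LK LD1_c4 LD2_c21 LD3_c29) (LK LD1_c8 LD2_c40 LD3_c34) Lrfl Lrfl
theorem f269543 : Led Lsl_ft (LP (LK LD1_c8 LD2_c40 LD3_c34)) = (LP (LK LD1_c9 LD2_c34 LD3_c61)) :=
  Lgr Lrot86 (Lpe (f238906 IH) (Lpr_ff (f269484 IH) (Lpe (f229908 IH) (Lpe (f269378 IH) (Lpr_ef (f269537 IH) (Lpn (LP (LK LD1_c9 LD2_c34 LD3_c61))))))))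
theorem f269547 : Led Lsl_ff (LP (LK LD1_c8 LD2_c40 LD3_c34)) = (LP (LK LD1_c9 LD2_c34 LD3_c61)) :=
  Lgr Lrot3 (Lpr_ft (f269543 IH) (Lpn (LP (LK LD1_c9 LD2_c34 LD3_c61))))
theorem f238731 : Led Lsl_dt (LP (LK LD1_c8 LD2_c40 LD3_c34)) = (LP (LK LD1_c16 LD2_c14 LD3_c54)) :=
  Lre_d IH (LK LD1_c8 LD2_c40 LD3_c34) (LK LD1_c16 LD2_c14 LD3_c54) Lrfl Lrfl
theorem f269539 : Led Lsl_dt (LP (LK LD1_c17 LD2_c38 LD3_c50)) = (LP (LK LD1_c9 LD2_c34 LD3_c61)) :=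
  Lre_d IH (LK LD1_c17 LD2_c38 LD3_c50) (LK LD1_c9 LD2_c34 LD3_c61) Lrfl Lrfl
theorem f269554 : Led Lsl_ft (LP (LK LD1_c16 LD2_c14 LD3_c54)) = (LP (LK LD1_c17 LD2_c38 LD3_c50)) :=
  Lgr Lrot54 (Lpe (f238731 IH) (Lpr_ff (f269547 IH) (Lpe (f269539 IH) (Lpn (LP (LK LD1_c17 LD2_c38 LD3_c50))))))
theorem f269434 : Led Lsl_dt (LP (LK LD1_c27 LD2_c24 LD3_c53)) = (LP (LK LD1_c17 LD2_c36 LD3_c40)) :=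
  Lre_d IH (LK LD1_c27 LD2_c24 LD3_c53) (LK LD1_c17 LD2_c36 LD3_c40) Lrfl Lrfl
theorem f233162 : Led Lsl_dt (LP (LK LD1_c9 LD2_c34 LD3_c61)) = (LP (LK LD1_c17 LD2_c38 LD3_c50)) :=
  Lre_d IH (LK LD1_c9 LD2_c34 LD3_c61) (LK LD1_c17 LD2_c38 LD3_c50) Lrfl Lrfl
theorem f269535 : Led Lsl_af (LP (LK LD1_c27 LD2_c24 LD3_c53)) = (LP (LK LD1_c17 LD2_c38 LD3_c50)) :=
  Lgr Lrot117 (Lpr_dt (f269434 IH) (Lpr_at (f269531 IH) (Lpr_dt (f233162 IH) (Lpn (LP (LK LD1_c17 LD2_c38 LD3_c50))))))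
theorem f232338 : Led Lsl_dt (LP (LK LD1_c17 LD2_c36 LD3_c40)) = (LP (LK LD1_c27 LD2_c24 LD3_c53)) :=
  Lre_d IH (LK LD1_c17 LD2_c36 LD3_c40) (LK LD1_c27 LD2_c24 LD3_c53) Lrfl Lrfl
theorem f255732 : Led Lsl_dt (LP (LK LD1_c17 LD2_c38 LD3_c52)) = (LP (LK LD1_c9 LD2_c35 LD3_c0)) :=
  Lre_d IH (LK LD1_c17 LD2_c38 LD3_c52) (LK LD1_c9 LD2_c35 LD3_c0) Lrfl Lrfl
theorem f269529 : Led Lsl_ft (LP (LK LD1_c27 LD2_c24 LD3_c53)) = (LP (LK LD1_c17 LD2_c38 LD3_c52)) :=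
  Lgr Lrot54 (Lpe (f232338 IH) (Lpr_ff (f269523 IH) (Lpe (f255732 IH) (Lpn (LP (LK LD1_c17 LD2_c38 LD3_c52))))))
theorem f269556 : Led Lsl_af (LP (LK LD1_c16 LD2_c14 LD3_c54)) = (LP (LK LD1_c17 LD2_c38 LD3_c52)) :=
  Lgr Lrot45 (Lpr_ft (f269554 IH) (Lpe (f269535 IH) (Lpr_ft (f269529 IH) (Lpn (LP (LK LD1_c17 LD2_c38 LD3_c52))))))
theorem f238907 : Led Lsl_et (LP (LK LD1_c16 LD2_c8 LD3_c36)) = (LP (LK LD1_c8 LD2_c37 LD3_c1)) :=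
  Lre_e IH (LK LD1_c16 LD2_c8 LD3_c36) (LK LD1_c8 LD2_c37 LD3_c1) Lrfl Lrfl
theorem f180162 : Led Lsl_dt (LP (LK LD1_c26 LD2_c5 LD3_c22)) = (LP (LK LD1_c16 LD2_c8 LD3_c36)) :=
  Lre_d IH (LK LD1_c26 LD2_c5 LD3_c22) (LK LD1_c16 LD2_c8 LD3_c36) Lrfl Lrfl
theorem f238908 : Led Lsl_et (LP (LK LD1_c16 LD2_c14 LD3_c54)) = (LP (LK LD1_c26 LD2_c5 LD3_c22)) :=
  Lgr Lrot71 (Lpe (f238731 IH) (Lpe (f238906 IH) (Lpr_df (K13.f238900 IH) (Lpe (f238907 IH) (Lpe (f180162 IH) (Lpn (LP (LK LD1_c26 LD2_c5 LD3_c22))))))))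
theorem f255725 : Led Lsl_et (LP (LK LD1_c9 LD2_c35 LD3_c0)) = (LP (LK LD1_c4 LD2_c56 LD3_c45)) :=
  Lgr Lrot87 (Lpr_ef (f255714 IH) (Lpn (LP (LK LD1_c4 LD2_c56 LD3_c45))))
theorem f238950 : Led Lsl_et (LP (LK LD1_c5 LD2_c37 LD3_c9)) = (LP (LK LD1_c11 LD2_c6 LD3_c13)) :=
  Lre_e IH (LK LD1_c5 LD2_c37 LD3_c9) (LK LD1_c11 LD2_c6 LD3_c13) Lrfl Lrfl
theorem f164901 : Led Lsl_dt (LP (LK LD1_c11 LD2_c6 LD3_c13)) = (LP (LK LD1_c19 LD2_c59 LD3_c40)) :=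
  Lre_d IH (LK LD1_c11 LD2_c6 LD3_c13) (LK LD1_c19 LD2_c59 LD3_c40) Lrfl Lrfl
theorem f255733 : Led Lsl_ef (LP (LK LD1_c17 LD2_c38 LD3_c52)) = (LP (LK LD1_c19 LD2_c59 LD3_c40)) :=
  Lgr Lrot73 (Lpr_dt (f255732 IH) (Lpr_et (f255725 IH) (Lpr_dt (f238946 IH) (Lpr_et (f238950 IH) (Lpr_dt (f164901 IH) (Lpn (LP (LK LD1_c19 LD2_c59 LD3_c40))))))))
theorem f269566 : Led Lsl_at (LP (LK LD1_c26 LD2_c5 LD3_c22)) = (LP (LK LD1_c19 LD2_c59 LD3_c40)) :=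
  Lgr Lrot80 (Lpe (f238908 IH) (Lpr_af (f269556 IH) (Lpr_ef (f255733 IH) (Lpn (LP (LK LD1_c19 LD2_c59 LD3_c40))))))
theorem f180156 : Led Lsl_dt (LP (LK LD1_c16 LD2_c8 LD3_c36)) = (LP (LK LD1_c26 LD2_c5 LD3_c22)) :=
  Lre_d IH (LK LD1_c16 LD2_c8 LD3_c36) (LK LD1_c26 LD2_c5 LD3_c22) Lrfl Lrfl
theorem f164917 : Led Lsl_dt (LP (LK LD1_c19 LD2_c59 LD3_c40)) = (LP (LK LD1_c11 LD2_c6 LD3_c13)) :=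
  Lre_d IH (LK LD1_c19 LD2_c59 LD3_c40) (LK LD1_c11 LD2_c6 LD3_c13) Lrfl Lrfl
theorem f269572 : Led Lsl_af (LP (LK LD1_c16 LD2_c8 LD3_c36)) = (LP (LK LD1_c11 LD2_c6 LD3_c13)) :=
  Lgr Lrot117 (Lpr_dt (f180156 IH) (Lpr_at (f269566 IH) (Lpr_dt (f164917 IH) (Lpn (LP (LK LD1_c11 LD2_c6 LD3_c13))))))
theorem f269578 : Led Lsl_at (LP (LK LD1_c8 LD2_c37 LD3_c1)) = (LP (LK LD1_c5 LD2_c37 LD3_c9)) :=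
  Lgr Lrot80 (Lpe (f238907 IH) (Lpr_af (f269572 IH) (Lpe (f238950 IH) (Lpn (LP (LK LD1_c5 LD2_c37 LD3_c9))))))
theorem f269583 : Led Lsl_ff (LP (LK LD1_c8 LD2_c37 LD3_c1)) = (LP (LK LD1_c8 LD2_c8 LD3_c9)) :=
  Lgr Lrot52 (Lpr_at (f269578 IH) (Lpe (K13.f238967 IH) (Lpr_gf (K13.f237206 IH) (Lpn (LP (LK LD1_c8 LD2_c8 LD3_c9))))))
theorem f269589 : Led Lsl_ft (LP (LK LD1_c4 LD2_c19 LD3_c20)) = (LP (LK LD1_c4 LD2_c23 LD3_c8)) :=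
  Lgr Lrot4 (Lpe (K13.f180224 IH) (Lpr_ff (f269583 IH) (Lpe (K13.f237694 IH) (Lpn (LP (LK LD1_c4 LD2_c23 LD3_c8))))))
theorem f255543 : Led Lsl_ff (LP (LK LD1_c2 LD2_c7 LD3_c4)) = (LP (LK LD1_c2 LD2_c26 LD3_c16)) :=
  Lgr Lrot3 (Lpr_ft (K14.f255539 IH) (Lpn (LP (LK LD1_c2 LD2_c26 LD3_c16))))
theorem f269591 : Led Lsl_df (LP (LK LD1_c2 LD2_c26 LD3_c16)) = (LP (LK LD1_c4 LD2_c23 LD3_c8)) :=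
  Lgr Lrot78 (Lpe (f255543 IH) (Lpr_dt (K13.f180133 IH) (Lpr_ft (f269589 IH) (Lpn (LP (LK LD1_c4 LD2_c23 LD3_c8))))))
theorem f255122 : Led Lsl_gt (LP (LK LD1_c2 LD2_c26 LD3_c16)) = (LP (LK LD1_c1 LD2_c56 LD3_c41)) :=
  Lgr Lrot94 (Lpe (K14.f168199 IH) (Lpr_gt (K14.f255109 IH) (Lpr_dt (K10.f28531 IH) (Lpe (K10.f43091 IH) (Lpr_dt (K12.f43087 IH) (Lpe (K1.f39247 IH) (Lpe (K1.f39199 IH) (Lpr_gf (K12.f229408 IH) (Lpe (K12.f210732 IH) (Lpn (LP (LK LD1_c1 LD2_c56 LD3_c41))))))))))))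
theorem f197712 : Led Lsl_dt (LP (LK LD1_c8 LD2_c10 LD3_c22)) = (LP (LK LD1_c4 LD2_c4 LD3_c46)) :=
  Lre_d IH (LK LD1_c8 LD2_c10 LD3_c22) (LK LD1_c4 LD2_c4 LD3_c46) Lrfl Lrfl
theorem f269612 : Led Lsl_ct (LP (LK LD1_c4 LD2_c21 LD3_c57)) = (LP (LK LD1_c2 LD2_c9 LD3_c1)) :=
  Lgr Lrot8 (Lpr_gt (K13.f238836 IH) (Lpr_dt (f197712 IH) (Lpe (K12.f197445 IH) (Lpr_dt (K12.f224879 IH) (Lpe (K12.f197721 IH) (Lpe (K12.f210732 IH) (Lpe (f255122 IH) (Lpr_df (f269591 IH) (Lpe (K13.f39206 IH) (Lpn (LP (LK LD1_c2 LD2_c9 LD3_c1))))))))))))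
theorem f181583 : Led Lsl_dt (LP (LK LD1_c2 LD2_c46 LD3_c54)) = (LP (LK LD1_c5 LD2_c41 LD3_c45)) :=
  Lre_d IH (LK LD1_c2 LD2_c46 LD3_c54) (LK LD1_c5 LD2_c41 LD3_c45) Lrfl Lrfl
theorem f181584 : Led Lsl_bt (LP (LK LD1_c5 LD2_c41 LD3_c45)) = (LP (LK LD1_c4 LD2_c23 LD3_c10)) :=
  Lgr Lrot95 (Lpe (f181583 IH) (Lpr_bf (K10.f181574 IH) (Lpe (K13.f80609 IH) (Lpn (LP (LK LD1_c4 LD2_c23 LD3_c10))))))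
theorem f181609 : Led Lsl_et (LP (LK LD1_c11 LD2_c13 LD3_c39)) = (LP (LK LD1_c5 LD2_c41 LD3_c45)) :=
  Lre_e IH (LK LD1_c11 LD2_c13 LD3_c39) (LK LD1_c5 LD2_c41 LD3_c45) Lrfl Lrfl
theorem f80975 : Led Lsl_et (LP (LK LD1_c4 LD2_c23 LD3_c10)) = (LP (LK LD1_c8 LD2_c44 LD3_c2)) :=
  Lre_e IH (LK LD1_c4 LD2_c23 LD3_c10) (LK LD1_c8 LD2_c44 LD3_c2) Lrfl Lrfl
theorem f181610 : Led Lsl_bf (LP (LK LD1_c11 LD2_c13 LD3_c39)) = (LP (LK LD1_c8 LD2_c44 LD3_c2)) :=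
  Lgr Lrot96 (Lpr_et (f181609 IH) (Lpr_bt (f181584 IH) (Lpr_et (f80975 IH) (Lpn (LP (LK LD1_c8 LD2_c44 LD3_c2))))))
theorem f181620 : Led Lsl_ft (LP (LK LD1_c11 LD2_c13 LD3_c39)) = (LP (LK LD1_c20 LD2_c8 LD3_c23)) :=
  Lre_f IH (LK LD1_c11 LD2_c13 LD3_c39) (LK LD1_c20 LD2_c8 LD3_c23) Lrfl Lrfl
theorem f181621 : Led Lsl_ft (LP (LK LD1_c16 LD2_c21 LD3_c21)) = (LP (LK LD1_c8 LD2_c44 LD3_c2)) :=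
  Lre_f IH (LK LD1_c16 LD2_c21 LD3_c21) (LK LD1_c8 LD2_c44 LD3_c2) Lrfl Lrfl
theorem f181622 : Led Lsl_bt (LP (LK LD1_c20 LD2_c8 LD3_c23)) = (LP (LK LD1_c16 LD2_c21 LD3_c21)) :=
  Lgr Lrot35 (Lpe (f181620 IH) (Lpr_bf (f181610 IH) (Lpe (f181621 IH) (Lpn (LP (LK LD1_c16 LD2_c21 LD3_c21))))))
theorem f181632 : Led Lsl_dt (LP (LK LD1_c11 LD2_c13 LD3_c40)) = (LP (LK LD1_c20 LD2_c8 LD3_c23)) :=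
  Lre_d IH (LK LD1_c11 LD2_c13 LD3_c40) (LK LD1_c20 LD2_c8 LD3_c23) Lrfl Lrfl
theorem f181633 : Led Lsl_dt (LP (LK LD1_c16 LD2_c21 LD3_c21)) = (LP (LK LD1_c8 LD2_c44 LD3_c3)) :=
  Lre_d IH (LK LD1_c16 LD2_c21 LD3_c21) (LK LD1_c8 LD2_c44 LD3_c3) Lrfl Lrfl
theorem f181634 : Led Lsl_bf (LP (LK LD1_c11 LD2_c13 LD3_c40)) = (LP (LK LD1_c8 LD2_c44 LD3_c3)) :=
  Lgr Lrot93 (Lpr_dt (f181632 IH) (Lpr_bt (f181622 IH) (Lpr_dt (f181633 IH) (Lpn (LP (LK LD1_c8 LD2_c44 LD3_c3))))))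
theorem f181636 : Led Lsl_bt (LP (LK LD1_c11 LD2_c13 LD3_c40)) = (LP (LK LD1_c8 LD2_c44 LD3_c3)) :=
  Lgr Lrot127 (Lpr_bf (f181634 IH) (Lpn (LP (LK LD1_c8 LD2_c44 LD3_c3))))
theorem f181642 : Led Lsl_ft (LP (LK LD1_c5 LD2_c41 LD3_c43)) = (LP (LK LD1_c11 LD2_c13 LD3_c40)) :=
  Lre_f IH (LK LD1_c5 LD2_c41 LD3_c43) (LK LD1_c11 LD2_c13 LD3_c40) Lrfl Lrfl
theorem f181643 : Led Lsl_ft (LP (LK LD1_c8 LD2_c44 LD3_c3)) = (LP (LK LD1_c4 LD2_c23 LD3_c9)) :=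
  Lre_f IH (LK LD1_c8 LD2_c44 LD3_c3) (LK LD1_c4 LD2_c23 LD3_c9) Lrfl Lrfl
theorem f181644 : Led Lsl_bf (LP (LK LD1_c5 LD2_c41 LD3_c43)) = (LP (LK LD1_c4 LD2_c23 LD3_c9)) :=
  Lgr Lrot61 (Lpr_ft (f181642 IH) (Lpr_bt (f181636 IH) (Lpr_ft (f181643 IH) (Lpn (LP (LK LD1_c4 LD2_c23 LD3_c9))))))
theorem f181650 : Led Lsl_et (LP (LK LD1_c5 LD2_c41 LD3_c43)) = (LP (LK LD1_c2 LD2_c46 LD3_c53)) :=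
  Lre_e IH (LK LD1_c5 LD2_c41 LD3_c43) (LK LD1_c2 LD2_c46 LD3_c53) Lrfl Lrfl
theorem f39215 : Led Lsl_et (LP (LK LD1_c2 LD2_c9 LD3_c1)) = (LP (LK LD1_c4 LD2_c23 LD3_c9)) :=
  Lre_e IH (LK LD1_c2 LD2_c9 LD3_c1) (LK LD1_c4 LD2_c23 LD3_c9) Lrfl Lrfl
theorem f181651 : Led Lsl_bt (LP (LK LD1_c2 LD2_c46 LD3_c53)) = (LP (LK LD1_c2 LD2_c9 LD3_c1)) :=
  Lgr Lrot119 (Lpe (f181650 IH) (Lpr_bf (f181644 IH) (Lpe (f39215 IH) (Lpn (LP (LK LD1_c2 LD2_c9 LD3_c1))))))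
theorem f28401 : Led Lsl_bt (LP (LK LD1_c0 LD2_c54 LD3_c57)) = (LP (LK LD1_c1 LD2_c56 LD3_c13)) :=
  Lre_b IH (LK LD1_c0 LD2_c54 LD3_c57) (LK LD1_c1 LD2_c56 LD3_c13) Lrfl Lrfl
theorem f175535 : Led Lsl_bt (LP (LK LD1_c2 LD2_c13 LD3_c20)) = (LP (LK LD1_c1 LD2_c3 LD3_c44)) :=
  Lre_b IH (LK LD1_c2 LD2_c13 LD3_c20) (LK LD1_c1 LD2_c3 LD3_c44) Lrfl Lrfl
theorem f175536 : Led Lsl_ct (LP (LK LD1_c4 LD2_c32 LD3_c34)) = (LP (LK LD1_c2 LD2_c13 LD3_c20)) :=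
  Lre_c IH (LK LD1_c4 LD2_c32 LD3_c34) (LK LD1_c2 LD2_c13 LD3_c20) Lrfl Lrfl
theorem f181337 : Led Lsl_bf (LP (LK LD1_c4 LD2_c32 LD3_c34)) = (LP (LK LD1_c3 LD2_c57 LD3_c27)) :=
  Lgr Lrot90 (Lpr_ct (f175536 IH) (Lpr_bt (f175535 IH) (Lpe (f175532 IH) (Lpr_bt (f28401 IH) (Lpr_ct (K13.f181335 IH) (Lpn (LP (LK LD1_c3 LD2_c57 LD3_c27))))))))
theorem f181340 : Led Lsl_et (LP (LK LD1_c4 LD2_c32 LD3_c34)) = (LP (LK LD1_c2 LD2_c13 LD3_c18)) :=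
  Lre_e IH (LK LD1_c4 LD2_c32 LD3_c34) (LK LD1_c2 LD2_c13 LD3_c18) Lrfl Lrfl
theorem f181341 : Led Lsl_bt (LP (LK LD1_c2 LD2_c13 LD3_c18)) = (LP (LK LD1_c1 LD2_c55 LD3_c30)) :=
  Lgr Lrot119 (Lpe (f181340 IH) (Lpr_bf (f181337 IH) (Lpe (K13.f181318 IH) (Lpn (LP (LK LD1_c1 LD2_c55 LD3_c30))))))
theorem f181345 : Led Lsl_bf (LP (LK LD1_c4 LD2_c32 LD3_c33)) = (LP (LK LD1_c3 LD2_c57 LD3_c26)) :=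
  Lgr Lrot93 (Lpr_dt (f181344 IH) (Lpr_bt (f181341 IH) (Lpr_dt (K13.f181316 IH) (Lpn (LP (LK LD1_c3 LD2_c57 LD3_c26))))))
theorem f269035 : Led Lsl_ft (LP (LK LD1_c2 LD2_c9 LD3_c1)) = (LP (LK LD1_c3 LD2_c57 LD3_c26)) :=
  Lgr Lrot75 (Lpe (f181651 IH) (Lpr_ff (f269024 IH) (Lpr_bf (f181345 IH) (Lpn (LP (LK LD1_c3 LD2_c57 LD3_c26))))))
theorem f269700 : Led Lsl_ff (LP (LK LD1_c4 LD2_c21 LD3_c57)) = (LP (LK LD1_c4 LD2_c53 LD3_c4)) :=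
  Lgr Lrot23 (Lpr_ct (f269612 IH) (Lpr_ft (f269035 IH) (Lpr_ct (K13.f229410 IH) (Lpn (LP (LK LD1_c4 LD2_c53 LD3_c4))))))
theorem f269722 : Led Lsl_at (LP (LK LD1_c4 LD2_c21 LD3_c57)) = (LP (LK LD1_c4 LD2_c53 LD3_c7)) :=
  Lgr Lrot26 (Lpr_ff (f269700 IH) (Lpr_gt (K13.f239114 IH) (Lpe (K13.f238985 IH) (Lpn (LP (LK LD1_c4 LD2_c53 LD3_c7))))))
theorem f238847 : Led Lsl_et (LP (LK LD1_c8 LD2_c41 LD3_c35)) = (LP (LK LD1_c4 LD2_c21 LD3_c57)) :=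
  Lre_e IH (LK LD1_c8 LD2_c41 LD3_c35) (LK LD1_c4 LD2_c21 LD3_c57) Lrfl Lrfl
theorem f29713 : Led Lsl_et (LP (LK LD1_c4 LD2_c53 LD3_c7)) = (LP (LK LD1_c9 LD2_c38 LD3_c13)) :=
  Lre_e IH (LK LD1_c4 LD2_c53 LD3_c7) (LK LD1_c9 LD2_c38 LD3_c13) Lrfl Lrfl
theorem f269734 : Led Lsl_af (LP (LK LD1_c8 LD2_c41 LD3_c35)) = (LP (LK LD1_c9 LD2_c38 LD3_c13)) :=
  Lgr Lrot50 (Lpr_et (f238847 IH) (Lpr_at (f269722 IH) (Lpr_et (f29713 IH) (Lpn (LP (LK LD1_c9 LD2_c38 LD3_c13))))))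
theorem f269716 : Led Lsl_ft (LP (LK LD1_c8 LD2_c41 LD3_c35)) = (LP (LK LD1_c16 LD2_c16 LD3_c56)) :=
  Lre_f IH (LK LD1_c8 LD2_c41 LD3_c35) (LK LD1_c16 LD2_c16 LD3_c56) Lrfl Lrfl
theorem f229881 : Led Lsl_ft (LP (LK LD1_c17 LD2_c44 LD3_c10)) = (LP (LK LD1_c9 LD2_c38 LD3_c13)) :=
  Lre_f IH (LK LD1_c17 LD2_c44 LD3_c10) (LK LD1_c9 LD2_c38 LD3_c13) Lrfl Lrfl
theorem f269741 : Led Lsl_at (LP (LK LD1_c16 LD2_c16 LD3_c56)) = (LP (LK LD1_c17 LD2_c44 LD3_c10)) :=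
  Lgr Lrot66 (Lpe (f269716 IH) (Lpr_af (f269734 IH) (Lpe (f229881 IH) (Lpn (LP (LK LD1_c17 LD2_c44 LD3_c10))))))
theorem f269750 : Led Lsl_dt (LP (LK LD1_c26 LD2_c14 LD3_c58)) = (LP (LK LD1_c16 LD2_c16 LD3_c56)) :=
  Lre_d IH (LK LD1_c26 LD2_c14 LD3_c58) (LK LD1_c16 LD2_c16 LD3_c56) Lrfl Lrfl
theorem f229880 : Led Lsl_dt (LP (LK LD1_c17 LD2_c44 LD3_c10)) = (LP (LK LD1_c27 LD2_c30 LD3_c56)) :=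
  Lre_d IH (LK LD1_c17 LD2_c44 LD3_c10) (LK LD1_c27 LD2_c30 LD3_c56) Lrfl Lrfl
theorem f269751 : Led Lsl_af (LP (LK LD1_c26 LD2_c14 LD3_c58)) = (LP (LK LD1_c27 LD2_c30 LD3_c56)) :=
  Lgr Lrot117 (Lpr_dt (f269750 IH) (Lpr_at (f269741 IH) (Lpr_dt (f229880 IH) (Lpn (LP (LK LD1_c27 LD2_c30 LD3_c56))))))
theorem f269756 : Led Lsl_at (LP (LK LD1_c26 LD2_c14 LD3_c58)) = (LP (LK LD1_c27 LD2_c30 LD3_c56)) :=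
  Lgr Lrot100 (Lpr_af (f269751 IH) (Lpn (LP (LK LD1_c27 LD2_c30 LD3_c56))))
theorem f269762 : Led Lsl_ft (LP (LK LD1_c16 LD2_c16 LD3_c55)) = (LP (LK LD1_c26 LD2_c14 LD3_c58)) :=
  Lre_f IH (LK LD1_c16 LD2_c16 LD3_c55) (LK LD1_c26 LD2_c14 LD3_c58) Lrfl Lrfl
theorem f229879 : Led Lsl_ft (LP (LK LD1_c27 LD2_c30 LD3_c56)) = (LP (LK LD1_c17 LD2_c44 LD3_c9)) :=
  Lre_f IH (LK LD1_c27 LD2_c30 LD3_c56) (LK LD1_c17 LD2_c44 LD3_c9) Lrfl Lrfl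
theorem f269763 : Led Lsl_af (LP (LK LD1_c16 LD2_c16 LD3_c55)) = (LP (LK LD1_c17 LD2_c44 LD3_c9)) :=
  Lgr Lrot45 (Lpr_ft (f269762 IH) (Lpr_at (f269756 IH) (Lpr_ft (f229879 IH) (Lpn (LP (LK LD1_c17 LD2_c44 LD3_c9))))))
theorem f269769 : Led Lsl_et (LP (LK LD1_c16 LD2_c16 LD3_c55)) = (LP (LK LD1_c8 LD2_c41 LD3_c38)) :=
  Lre_e IH (LK LD1_c16 LD2_c16 LD3_c55) (LK LD1_c8 LD2_c41 LD3_c38) Lrfl Lrfl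
theorem f269770 : Led Lsl_et (LP (LK LD1_c9 LD2_c38 LD3_c14)) = (LP (LK LD1_c17 LD2_c44 LD3_c9)) :=
  Lre_e IH (LK LD1_c9 LD2_c38 LD3_c14) (LK LD1_c17 LD2_c44 LD3_c9) Lrfl Lrfl
theorem f269771 : Led Lsl_at (LP (LK LD1_c8 LD2_c41 LD3_c38)) = (LP (LK LD1_c9 LD2_c38 LD3_c14)) :=
  Lgr Lrot80 (Lpe (f269769 IH) (Lpr_af (f269763 IH) (Lpe (f269770 IH) (Lpn (LP (LK LD1_c9 LD2_c38 LD3_c14))))))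
theorem f216795 : Led Lsl_ft (LP (LK LD1_c16 LD2_c16 LD3_c61)) = (LP (LK LD1_c8 LD2_c41 LD3_c38)) :=
  Lre_f IH (LK LD1_c16 LD2_c16 LD3_c61) (LK LD1_c8 LD2_c41 LD3_c38) Lrfl Lrfl
theorem f229842 : Led Lsl_ft (LP (LK LD1_c9 LD2_c38 LD3_c14)) = (LP (LK LD1_c17 LD2_c44 LD3_c11)) :=
  Lre_f IH (LK LD1_c9 LD2_c38 LD3_c14) (LK LD1_c17 LD2_c44 LD3_c11) Lrfl Lrfl
theorem f269781 : Led Lsl_af (LP (LK LD1_c16 LD2_c16 LD3_c61)) = (LP (LK LD1_c17 LD2_c44 LD3_c11)) :=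
  Lgr Lrot45 (Lpr_ft (f216795 IH) (Lpr_at (f269771 IH) (Lpr_ft (f229842 IH) (Lpn (LP (LK LD1_c17 LD2_c44 LD3_c11))))))
theorem f216773 : Led Lsl_dt (LP (LK LD1_c16 LD2_c16 LD3_c61)) = (LP (LK LD1_c8 LD2_c41 LD3_c39)) :=
  Lre_d IH (LK LD1_c16 LD2_c16 LD3_c61) (LK LD1_c8 LD2_c41 LD3_c39) Lrfl Lrfl
theorem f229834 : Led Lsl_dt (LP (LK LD1_c9 LD2_c38 LD3_c15)) = (LP (LK LD1_c17 LD2_c44 LD3_c11)) :=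
  Lre_d IH (LK LD1_c9 LD2_c38 LD3_c15) (LK LD1_c17 LD2_c44 LD3_c11) Lrfl Lrfl
theorem f269786 : Led Lsl_at (LP (LK LD1_c8 LD2_c41 LD3_c39)) = (LP (LK LD1_c9 LD2_c38 LD3_c15)) :=
  Lgr Lrot51 (Lpe (f216773 IH) (Lpr_af (f269781 IH) (Lpe (f229834 IH) (Lpn (LP (LK LD1_c9 LD2_c38 LD3_c15))))))
theorem f216766 : Led Lsl_ct (LP (LK LD1_c4 LD2_c21 LD3_c61)) = (LP (LK LD1_c8 LD2_c41 LD3_c39)) :=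
  Lre_c IH (LK LD1_c4 LD2_c21 LD3_c61) (LK LD1_c8 LD2_c41 LD3_c39) Lrfl Lrfl
theorem f48249 : Led Lsl_ct (LP (LK LD1_c4 LD2_c15 LD3_c29)) = (LP (LK LD1_c2 LD2_c5 LD3_c7)) :=
  Lre_c IH (LK LD1_c4 LD2_c15 LD3_c29) (LK LD1_c2 LD2_c5 LD3_c7) Lrfl Lrfl
theorem f229763 : Led Lsl_bt (LP (LK LD1_c8 LD2_c29 LD3_c53)) = (LP (LK LD1_c4 LD2_c15 LD3_c29)) :=
  Lre_b IH (LK LD1_c8 LD2_c29 LD3_c53) (LK LD1_c4 LD2_c15 LD3_c29) Lrfl Lrfl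
theorem f229438 : Led Lsl_bt (LP (LK LD1_c2 LD2_c24 LD3_c22)) = (LP (LK LD1_c4 LD2_c53 LD3_c6)) :=
  Lre_b IH (LK LD1_c2 LD2_c24 LD3_c22) (LK LD1_c4 LD2_c53 LD3_c6) Lrfl Lrfl
theorem f229764 : Led Lsl_cf (LP (LK LD1_c8 LD2_c29 LD3_c53)) = (LP (LK LD1_c4 LD2_c53 LD3_c6)) :=
  Lgr Lrot97 (Lpr_bt (f229763 IH) (Lpr_ct (f48249 IH) (Lpr_bt (K15.f229759 IH) (Lpr_ct (K13.f229429 IH) (Lpr_bt (f229438 IH) (Lpn (LP (LK LD1_c4 LD2_c53 LD3_c6))))))))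
theorem f229776 : Led Lsl_et (LP (LK LD1_c8 LD2_c29 LD3_c53)) = (LP (LK LD1_c15 LD2_c57 LD3_c22)) :=
  Lre_e IH (LK LD1_c8 LD2_c29 LD3_c53) (LK LD1_c15 LD2_c57 LD3_c22) Lrfl Lrfl
theorem f229777 : Led Lsl_et (LP (LK LD1_c9 LD2_c38 LD3_c12)) = (LP (LK LD1_c4 LD2_c53 LD3_c6)) :=
  Lre_e IH (LK LD1_c9 LD2_c38 LD3_c12) (LK LD1_c4 LD2_c53 LD3_c6) Lrfl Lrfl
theorem f229778 : Led Lsl_ct (LP (LK LD1_c15 LD2_c57 LD3_c22)) = (LP (LK LD1_c9 LD2_c38 LD3_c12)) :=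
  Lgr Lrot15 (Lpe (f229776 IH) (Lpr_cf (f229764 IH) (Lpe (f229777 IH) (Lpn (LP (LK LD1_c9 LD2_c38 LD3_c12))))))
theorem f229806 : Led Lsl_ft (LP (LK LD1_c25 LD2_c53 LD3_c47)) = (LP (LK LD1_c15 LD2_c57 LD3_c22)) :=
  Lre_f IH (LK LD1_c25 LD2_c53 LD3_c47) (LK LD1_c15 LD2_c57 LD3_c22) Lrfl Lrfl
theorem f229807 : Led Lsl_ft (LP (LK LD1_c9 LD2_c38 LD3_c12)) = (LP (LK LD1_c17 LD2_c44 LD3_c8)) :=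
  Lre_f IH (LK LD1_c9 LD2_c38 LD3_c12) (LK LD1_c17 LD2_c44 LD3_c8) Lrfl Lrfl
theorem f229808 : Led Lsl_cf (LP (LK LD1_c25 LD2_c53 LD3_c47)) = (LP (LK LD1_c17 LD2_c44 LD3_c8)) :=
  Lgr Lrot108 (Lpr_ft (f229806 IH) (Lpr_ct (f229778 IH) (Lpr_ft (f229807 IH) (Lpn (LP (LK LD1_c17 LD2_c44 LD3_c8))))))
theorem f229820 : Led Lsl_ct (LP (LK LD1_c25 LD2_c53 LD3_c47)) = (LP (LK LD1_c17 LD2_c44 LD3_c8)) :=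
  Lgr Lrot59 (Lpr_cf (f229808 IH) (Lpn (LP (LK LD1_c17 LD2_c44 LD3_c8))))
theorem f49062 : Led Lsl_bt (LP (LK LD1_c15 LD2_c57 LD3_c27)) = (LP (LK LD1_c25 LD2_c53 LD3_c47)) :=
  Lre_b IH (LK LD1_c15 LD2_c57 LD3_c27) (LK LD1_c25 LD2_c53 LD3_c47) Lrfl Lrfl
theorem f49056 : Led Lsl_ct (LP (LK LD1_c8 LD2_c29 LD3_c57)) = (LP (LK LD1_c15 LD2_c57 LD3_c27)) :=
  Lre_c IH (LK LD1_c8 LD2_c29 LD3_c57) (LK LD1_c15 LD2_c57 LD3_c27) Lrfl Lrfl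
theorem f229161 : Led Lsl_bf (LP (LK LD1_c8 LD2_c4 LD3_c41)) = (LP (LK LD1_c5 LD2_c17 LD3_c37)) :=
  Lgr Lrot24 (Lpr_bt (K15.f229158 IH) (Lpn (LP (LK LD1_c5 LD2_c17 LD3_c37))))
theorem f49058 : Led Lsl_dt (LP (LK LD1_c8 LD2_c29 LD3_c57)) = (LP (LK LD1_c5 LD2_c17 LD3_c37)) :=
  Lgr Lrot42 (Lpr_df (K15.f49048 IH) (Lpn (LP (LK LD1_c5 LD2_c17 LD3_c37))))
theorem f229748 : Led Lsl_bf (LP (LK LD1_c8 LD2_c29 LD3_c57)) = (LP (LK LD1_c7 LD2_c55 LD3_c50)) :=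
  Lgr Lrot93 (Lpr_dt (f49058 IH) (Lpe (f229161 IH) (Lpr_dt (K15.f229726 IH) (Lpn (LP (LK LD1_c7 LD2_c55 LD3_c50))))))
theorem f229825 : Led Lsl_bt (LP (LK LD1_c17 LD2_c44 LD3_c8)) = (LP (LK LD1_c9 LD2_c38 LD3_c15)) :=
  Lre_b IH (LK LD1_c17 LD2_c44 LD3_c8) (LK LD1_c9 LD2_c38 LD3_c15) Lrfl Lrfl
theorem f229826 : Led Lsl_cf (LP (LK LD1_c7 LD2_c55 LD3_c50)) = (LP (LK LD1_c9 LD2_c38 LD3_c15)) :=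
  Lgr Lrot97 (Lpe (f229748 IH) (Lpr_ct (f49056 IH) (Lpr_bt (f49062 IH) (Lpr_ct (f229820 IH) (Lpr_bt (f229825 IH) (Lpn (LP (LK LD1_c9 LD2_c38 LD3_c15))))))))
theorem f269800 : Led Lsl_af (LP (LK LD1_c4 LD2_c21 LD3_c61)) = (LP (LK LD1_c7 LD2_c55 LD3_c50)) :=
  Lgr Lrot68 (Lpr_ct (f216766 IH) (Lpr_at (f269786 IH) (Lpe (f229826 IH) (Lpn (LP (LK LD1_c7 LD2_c55 LD3_c50))))))
theorem f216768 : Led Lsl_ft (LP (LK LD1_c4 LD2_c21 LD3_c61)) = (LP (LK LD1_c2 LD2_c8 LD3_c28)) :=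
  Lre_f IH (LK LD1_c4 LD2_c21 LD3_c61) (LK LD1_c2 LD2_c8 LD3_c28) Lrfl Lrfl
theorem f229728 : Led Lsl_ft (LP (LK LD1_c3 LD2_c57 LD3_c4)) = (LP (LK LD1_c7 LD2_c55 LD3_c50)) :=
  Lre_f IH (LK LD1_c3 LD2_c57 LD3_c4) (LK LD1_c7 LD2_c55 LD3_c50) Lrfl Lrfl
theorem f269810 : Led Lsl_at (LP (LK LD1_c2 LD2_c8 LD3_c28)) = (LP (LK LD1_c3 LD2_c57 LD3_c4)) :=
  Lgr Lrot66 (Lpe (f216768 IH) (Lpr_af (f269800 IH) (Lpe (f229728 IH) (Lpn (LP (LK LD1_c3 LD2_c57 LD3_c4))))))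
theorem f216778 : Led Lsl_et (LP (LK LD1_c1 LD2_c1 LD3_c23)) = (LP (LK LD1_c2 LD2_c8 LD3_c28)) :=
  Lre_e IH (LK LD1_c1 LD2_c1 LD3_c23) (LK LD1_c2 LD2_c8 LD3_c28) Lrfl Lrfl
theorem f186929 : Led Lsl_et (LP (LK LD1_c3 LD2_c57 LD3_c4)) = (LP (LK LD1_c1 LD2_c55 LD3_c18)) :=
  Lre_e IH (LK LD1_c3 LD2_c57 LD3_c4) (LK LD1_c1 LD2_c55 LD3_c18) Lrfl Lrfl
theorem f269818 : Led Lsl_af (LP (LK LD1_c1 LD2_c1 LD3_c23)) = (LP (LK LD1_c1 LD2_c55 LD3_c18)) :=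
  Lgr Lrot50 (Lpr_et (f216778 IH) (Lpr_at (f269810 IH) (Lpr_et (f186929 IH) (Lpn (LP (LK LD1_c1 LD2_c55 LD3_c18))))))
theorem f269828 : Led Lsl_ft (LP (LK LD1_c1 LD2_c1 LD3_c22)) = (LP (LK LD1_c1 LD2_c55 LD3_c18)) :=
  Lgr Lrot2 (Lpe (K12.f39168 IH) (Lpr_gt (K12.f216806 IH) (Lpr_af (f269818 IH) (Lpn (LP (LK LD1_c1 LD2_c55 LD3_c18))))))
theorem f269838 : Led Lsl_ff (LP (LK LD1_c1 LD2_c1 LD3_c22)) = (LP (LK LD1_c1 LD2_c55 LD3_c18)) :=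
  Lgr Lrot3 (Lpr_ft (f269828 IH) (Lpn (LP (LK LD1_c1 LD2_c55 LD3_c18))))
theorem f269848 : Led Lsl_at (LP (LK LD1_c1 LD2_c1 LD3_c22)) = (LP (LK LD1_c1 LD2_c55 LD3_c17)) :=
  Lgr Lrot26 (Lpr_ff (f269838 IH) (Lpr_gt (K12.f43209 IH) (Lpr_gt (K12.f31136 IH) (Lpn (LP (LK LD1_c1 LD2_c55 LD3_c17))))))
theorem f269822 : Led Lsl_at (LP (LK LD1_c1 LD2_c1 LD3_c23)) = (LP (LK LD1_c1 LD2_c55 LD3_c18)) :=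
  Lgr Lrot100 (Lpr_af (f269818 IH) (Lpn (LP (LK LD1_c1 LD2_c55 LD3_c18))))
theorem f269858 : Led Lsl_ff (LP (LK LD1_c1 LD2_c1 LD3_c23)) = (LP (LK LD1_c1 LD2_c55 LD3_c17)) :=
  Lgr Lrot30 (Lpr_at (f269822 IH) (Lpe (f269838 IH) (Lpr_at (f269848 IH) (Lpn (LP (LK LD1_c1 LD2_c55 LD3_c17))))))
theorem f269867 : Led Lsl_ft (LP (LK LD1_c1 LD2_c1 LD3_c23)) = (LP (LK LD1_c1 LD2_c55 LD3_c17)) :=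
  Lgr Lrot48 (Lpr_ff (f269858 IH) (Lpn (LP (LK LD1_c1 LD2_c55 LD3_c17))))
theorem f216790 : Led Lsl_et (LP (LK LD1_c2 LD2_c8 LD3_c28)) = (LP (LK LD1_c1 LD2_c1 LD3_c23)) :=
  Lre_e IH (LK LD1_c2 LD2_c8 LD3_c28) (LK LD1_c1 LD2_c1 LD3_c23) Lrfl Lrfl
theorem f227958 : Led Lsl_et (LP (LK LD1_c1 LD2_c55 LD3_c17)) = (LP (LK LD1_c3 LD2_c57 LD3_c3)) :=
  Lre_e IH (LK LD1_c1 LD2_c55 LD3_c17) (LK LD1_c3 LD2_c57 LD3_c3) Lrfl Lrfl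
theorem f269875 : Led Lsl_ft (LP (LK LD1_c3 LD2_c57 LD3_c3)) = (LP (LK LD1_c7 LD2_c55 LD3_c47)) :=
  Lre_f IH (LK LD1_c3 LD2_c57 LD3_c3) (LK LD1_c7 LD2_c55 LD3_c47) Lrfl Lrfl
theorem f269876 : Led Lsl_ef (LP (LK LD1_c4 LD2_c21 LD3_c61)) = (LP (LK LD1_c7 LD2_c55 LD3_c47)) :=
  Lgr Lrot21 (Lpr_ft (f216768 IH) (Lpr_et (f216790 IH) (Lpr_ft (f269867 IH) (Lpr_et (f227958 IH) (Lpr_ft (f269875 IH) (Lpn (LP (LK LD1_c7 LD2_c55 LD3_c47))))))))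
theorem f269806 : Led Lsl_at (LP (LK LD1_c4 LD2_c21 LD3_c61)) = (LP (LK LD1_c7 LD2_c55 LD3_c50)) :=
  Lgr Lrot100 (Lpr_af (f269800 IH) (Lpn (LP (LK LD1_c7 LD2_c55 LD3_c50))))
theorem f260441 : Led Lsl_ft (LP (LK LD1_c4 LD2_c21 LD3_c53)) = (LP (LK LD1_c2 LD2_c8 LD3_c25)) :=
  Lre_f IH (LK LD1_c4 LD2_c21 LD3_c53) (LK LD1_c2 LD2_c8 LD3_c25) Lrfl Lrfl
theorem f269836 : Led Lsl_ef (LP (LK LD1_c4 LD2_c21 LD3_c53)) = (LP (LK LD1_c7 LD2_c55 LD3_c50)) :=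
  Lgr Lrot21 (Lpr_ft (f260441 IH) (Lpr_et (K14.f42919 IH) (Lpr_ft (f269828 IH) (Lpr_et (K15.f229433 IH) (Lpr_ft (f229728 IH) (Lpn (LP (LK LD1_c7 LD2_c55 LD3_c50))))))))
theorem f269878 : Led Lsl_at (LP (LK LD1_c4 LD2_c21 LD3_c53)) = (LP (LK LD1_c7 LD2_c55 LD3_c47)) :=
  Lgr Lrot80 (Lpr_ef (f269836 IH) (Lpe (f269806 IH) (Lpr_ef (f269876 IH) (Lpn (LP (LK LD1_c7 LD2_c55 LD3_c47))))))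
theorem f269888 : Led Lsl_af (LP (LK LD1_c4 LD2_c21 LD3_c53)) = (LP (LK LD1_c7 LD2_c55 LD3_c47)) :=
  Lgr Lrot0 (Lpr_at (f269878 IH) (Lpn (LP (LK LD1_c7 LD2_c55 LD3_c47))))
theorem f269898 : Led Lsl_at (LP (LK LD1_c2 LD2_c8 LD3_c25)) = (LP (LK LD1_c3 LD2_c57 LD3_c3)) :=
  Lgr Lrot66 (Lpe (f260441 IH) (Lpr_af (f269888 IH) (Lpe (f269875 IH) (Lpn (LP (LK LD1_c3 LD2_c57 LD3_c3))))))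
theorem f43132 : Led Lsl_ct (LP (LK LD1_c4 LD2_c21 LD3_c49)) = (LP (LK LD1_c2 LD2_c8 LD3_c25)) :=
  Lre_c IH (LK LD1_c4 LD2_c21 LD3_c49) (LK LD1_c2 LD2_c8 LD3_c25) Lrfl Lrfl
theorem f2501 : Led Lsl_et (LP (LK LD1_c4 LD2_c53 LD3_c5)) = (LP (LK LD1_c2 LD2_c24 LD3_c21)) :=
  Lre_e IH (LK LD1_c4 LD2_c53 LD3_c5) (LK LD1_c2 LD2_c24 LD3_c21) Lrfl Lrfl
theorem f229272 : Led Lsl_ct (LP (LK LD1_c3 LD2_c57 LD3_c3)) = (LP (LK LD1_c4 LD2_c53 LD3_c5)) :=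
  Lgr Lrot15 (Lpe (f227958 IH) (Lpr_cf (K12.f229262 IH) (Lpe (f2501 IH) (Lpn (LP (LK LD1_c4 LD2_c53 LD3_c5))))))
theorem f269908 : Led Lsl_af (LP (LK LD1_c4 LD2_c21 LD3_c49)) = (LP (LK LD1_c4 LD2_c53 LD3_c5)) :=
  Lgr Lrot68 (Lpr_ct (f43132 IH) (Lpr_at (f269898 IH) (Lpr_ct (f229272 IH) (Lpn (LP (LK LD1_c4 LD2_c53 LD3_c5))))))
theorem f43137 : Led Lsl_ct (LP (LK LD1_c2 LD2_c8 LD3_c25)) = (LP (LK LD1_c4 LD2_c21 LD3_c49)) :=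
  Lre_c IH (LK LD1_c2 LD2_c8 LD3_c25) (LK LD1_c4 LD2_c21 LD3_c49) Lrfl Lrfl
theorem f43131 : Led Lsl_dt (LP (LK LD1_c4 LD2_c21 LD3_c52)) = (LP (LK LD1_c2 LD2_c8 LD3_c25)) :=
  Lre_d IH (LK LD1_c4 LD2_c21 LD3_c52) (LK LD1_c2 LD2_c8 LD3_c25) Lrfl Lrfl
theorem f227266 : Led Lsl_dt (LP (LK LD1_c16 LD2_c16 LD3_c38)) = (LP (LK LD1_c8 LD2_c41 LD3_c24)) :=
  Lre_d IH (LK LD1_c16 LD2_c16 LD3_c38) (LK LD1_c8 LD2_c41 LD3_c24) Lrfl Lrfl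
theorem f269934 : Led Lsl_ct (LP (LK LD1_c26 LD2_c14 LD3_c37)) = (LP (LK LD1_c16 LD2_c16 LD3_c38)) :=
  Lre_c IH (LK LD1_c26 LD2_c14 LD3_c37) (LK LD1_c16 LD2_c16 LD3_c38) Lrfl Lrfl
theorem f269929 : Led Lsl_ft (LP (LK LD1_c9 LD2_c38 LD3_c7)) = (LP (LK LD1_c4 LD2_c53 LD3_c5)) :=
  Lre_f IH (LK LD1_c9 LD2_c38 LD3_c7) (LK LD1_c4 LD2_c53 LD3_c5) Lrfl Lrfl
theorem f269935 : Led Lsl_dt (LP (LK LD1_c9 LD2_c38 LD3_c7)) = (LP (LK LD1_c17 LD2_c43 LD3_c58)) :=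
  Lre_d IH (LK LD1_c9 LD2_c38 LD3_c7) (LK LD1_c17 LD2_c43 LD3_c58) Lrfl Lrfl
theorem f269936 : Led Lsl_ct (LP (LK LD1_c17 LD2_c43 LD3_c58)) = (LP (LK LD1_c27 LD2_c30 LD3_c43)) :=
  Lre_c IH (LK LD1_c17 LD2_c43 LD3_c58) (LK LD1_c27 LD2_c30 LD3_c43) Lrfl Lrfl
theorem f269937 : Led Lsl_df (LP (LK LD1_c26 LD2_c14 LD3_c37)) = (LP (LK LD1_c27 LD2_c30 LD3_c43)) :=
  Lgr Lrot106 (Lpr_ct (f269934 IH) (Lpr_dt (f227266 IH) (Lpr_ct (K14.f227245 IH) (Lpr_dt (f43131 IH) (Lpr_ct (f43137 IH) (Lpr_af (f269908 IH) (Lpe (f269929 IH) (Lpr_dt (f269935 IH) (Lpr_ct (f269936 IH) (Lpn (LP (LK LD1_c27 LD2_c30 LD3_c43))))))))))))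
theorem f237734 : Led Lsl_dt (LP (LK LD1_c4 LD2_c21 LD3_c49)) = (LP (LK LD1_c8 LD2_c41 LD3_c16)) :=
  Lre_d IH (LK LD1_c4 LD2_c21 LD3_c49) (LK LD1_c8 LD2_c41 LD3_c16) Lrfl Lrfl
theorem f237749 : Led Lsl_ct (LP (LK LD1_c8 LD2_c41 LD3_c16)) = (LP (LK LD1_c16 LD2_c16 LD3_c26)) :=
  Lre_c IH (LK LD1_c8 LD2_c41 LD3_c16) (LK LD1_c16 LD2_c16 LD3_c26) Lrfl Lrfl
theorem f269943 : Led Lsl_ft (LP (LK LD1_c27 LD2_c30 LD3_c43)) = (LP (LK LD1_c17 LD2_c43 LD3_c57)) :=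
  Lre_f IH (LK LD1_c27 LD2_c30 LD3_c43) (LK LD1_c17 LD2_c43 LD3_c57) Lrfl Lrfl
theorem f269944 : Led Lsl_af (LP (LK LD1_c16 LD2_c16 LD3_c26)) = (LP (LK LD1_c17 LD2_c43 LD3_c57)) :=
  Lgr Lrot109 (Lpe (f237749 IH) (Lpe (f237734 IH) (Lpe (f43137 IH) (Lpe (f43131 IH) (Lpe (K14.f227245 IH) (Lpe (f227266 IH) (Lpe (f269934 IH) (Lpr_df (f269937 IH) (Lpr_ft (f269943 IH) (Lpn (LP (LK LD1_c17 LD2_c43 LD3_c57))))))))))))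
theorem f269950 : Led Lsl_ft (LP (LK LD1_c16 LD2_c16 LD3_c26)) = (LP (LK LD1_c26 LD2_c14 LD3_c26)) :=
  Lre_f IH (LK LD1_c16 LD2_c16 LD3_c26) (LK LD1_c26 LD2_c14 LD3_c26) Lrfl Lrfl
theorem f269951 : Led Lsl_at (LP (LK LD1_c26 LD2_c14 LD3_c26)) = (LP (LK LD1_c27 LD2_c30 LD3_c43)) :=
  Lgr Lrot66 (Lpe (f269950 IH) (Lpr_af (f269944 IH) (Lpe (f269943 IH) (Lpn (LP (LK LD1_c27 LD2_c30 LD3_c43))))))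
theorem f269958 : Led Lsl_ct (LP (LK LD1_c16 LD2_c16 LD3_c27)) = (LP (LK LD1_c26 LD2_c14 LD3_c26)) :=
  Lre_c IH (LK LD1_c16 LD2_c16 LD3_c27) (LK LD1_c26 LD2_c14 LD3_c26) Lrfl Lrfl
theorem f269955 : Led Lsl_ct (LP (LK LD1_c27 LD2_c30 LD3_c43)) = (LP (LK LD1_c17 LD2_c43 LD3_c58)) :=
  Lre_c IH (LK LD1_c27 LD2_c30 LD3_c43) (LK LD1_c17 LD2_c43 LD3_c58) Lrfl Lrfl
theorem f269959 : Led Lsl_af (LP (LK LD1_c16 LD2_c16 LD3_c27)) = (LP (LK LD1_c17 LD2_c43 LD3_c58)) :=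
  Lgr Lrot68 (Lpr_ct (f269958 IH) (Lpr_at (f269951 IH) (Lpr_ct (f269955 IH) (Lpn (LP (LK LD1_c17 LD2_c43 LD3_c58))))))
theorem f269961 : Led Lsl_at (LP (LK LD1_c16 LD2_c16 LD3_c27)) = (LP (LK LD1_c17 LD2_c43 LD3_c58)) :=
  Lgr Lrot100 (Lpr_af (f269959 IH) (Lpn (LP (LK LD1_c17 LD2_c43 LD3_c58))))
theorem f237748 : Led Lsl_ft (LP (LK LD1_c8 LD2_c41 LD3_c16)) = (LP (LK LD1_c16 LD2_c16 LD3_c27)) :=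
  Lre_f IH (LK LD1_c8 LD2_c41 LD3_c16) (LK LD1_c16 LD2_c16 LD3_c27) Lrfl Lrfl
theorem f269978 : Led Lsl_ft (LP (LK LD1_c17 LD2_c43 LD3_c58)) = (LP (LK LD1_c9 LD2_c38 LD3_c6)) :=
  Lre_f IH (LK LD1_c17 LD2_c43 LD3_c58) (LK LD1_c9 LD2_c38 LD3_c6) Lrfl Lrfl
theorem f269979 : Led Lsl_af (LP (LK LD1_c8 LD2_c41 LD3_c16)) = (LP (LK LD1_c9 LD2_c38 LD3_c6)) :=
  Lgr Lrot45 (Lpr_ft (f237748 IH) (Lpr_at (f269961 IH) (Lpr_ft (f269978 IH) (Lpn (LP (LK LD1_c9 LD2_c38 LD3_c6))))))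
theorem f269987 : Led Lsl_et (LP (LK LD1_c8 LD2_c41 LD3_c16)) = (LP (LK LD1_c16 LD2_c16 LD3_c19)) :=
  Lre_e IH (LK LD1_c8 LD2_c41 LD3_c16) (LK LD1_c16 LD2_c16 LD3_c19) Lrfl Lrfl
theorem f269988 : Led Lsl_et (LP (LK LD1_c17 LD2_c43 LD3_c54)) = (LP (LK LD1_c9 LD2_c38 LD3_c6)) :=
  Lre_e IH (LK LD1_c17 LD2_c43 LD3_c54) (LK LD1_c9 LD2_c38 LD3_c6) Lrfl Lrfl
theorem f269989 : Led Lsl_at (LP (LK LD1_c16 LD2_c16 LD3_c19)) = (LP (LK LD1_c17 LD2_c43 LD3_c54)) :=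
  Lgr Lrot80 (Lpe (f269987 IH) (Lpr_af (f269979 IH) (Lpe (f269988 IH) (Lpn (LP (LK LD1_c17 LD2_c43 LD3_c54))))))
theorem f269636 : Led Lsl_dt (LP (LK LD1_c8 LD2_c41 LD3_c13)) = (LP (LK LD1_c16 LD2_c16 LD3_c19)) :=
  Lre_d IH (LK LD1_c8 LD2_c41 LD3_c13) (LK LD1_c16 LD2_c16 LD3_c19) Lrfl Lrfl
theorem f270001 : Led Lsl_dt (LP (LK LD1_c17 LD2_c43 LD3_c54)) = (LP (LK LD1_c9 LD2_c38 LD3_c5)) :=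
  Lre_d IH (LK LD1_c17 LD2_c43 LD3_c54) (LK LD1_c9 LD2_c38 LD3_c5) Lrfl Lrfl
theorem f270002 : Led Lsl_af (LP (LK LD1_c8 LD2_c41 LD3_c13)) = (LP (LK LD1_c9 LD2_c38 LD3_c5)) :=
  Lgr Lrot117 (Lpr_dt (f269636 IH) (Lpr_at (f269989 IH) (Lpr_dt (f270001 IH) (Lpn (LP (LK LD1_c9 LD2_c38 LD3_c5))))))
theorem f270015 : Led Lsl_ft (LP (LK LD1_c8 LD2_c41 LD3_c13)) = (LP (LK LD1_c16 LD2_c16 LD3_c20)) :=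
  Lre_f IH (LK LD1_c8 LD2_c41 LD3_c13) (LK LD1_c16 LD2_c16 LD3_c20) Lrfl Lrfl
theorem f269717 : Led Lsl_ft (LP (LK LD1_c17 LD2_c43 LD3_c55)) = (LP (LK LD1_c9 LD2_c38 LD3_c5)) :=
  Lre_f IH (LK LD1_c17 LD2_c43 LD3_c55) (LK LD1_c9 LD2_c38 LD3_c5) Lrfl Lrfl
theorem f270016 : Led Lsl_at (LP (LK LD1_c16 LD2_c16 LD3_c20)) = (LP (LK LD1_c17 LD2_c43 LD3_c55)) :=
  Lgr Lrot66 (Lpe (f270015 IH) (Lpr_af (f270002 IH) (Lpe (f269717 IH) (Lpn (LP (LK LD1_c17 LD2_c43 LD3_c55))))))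
theorem f270025 : Led Lsl_af (LP (LK LD1_c16 LD2_c16 LD3_c20)) = (LP (LK LD1_c17 LD2_c43 LD3_c55)) :=
  Lgr Lrot0 (Lpr_at (f270016 IH) (Lpn (LP (LK LD1_c17 LD2_c43 LD3_c55))))
theorem f216726 : Led Lsl_et (LP (LK LD1_c4 LD2_c21 LD3_c57)) = (LP (LK LD1_c8 LD2_c41 LD3_c35)) :=
  Lre_e IH (LK LD1_c4 LD2_c21 LD3_c57) (LK LD1_c8 LD2_c41 LD3_c35) Lrfl Lrfl
theorem f238930 : Led Lsl_et (LP (LK LD1_c9 LD2_c38 LD3_c5)) = (LP (LK LD1_c4 LD2_c53 LD3_c4)) :=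
  Lre_e IH (LK LD1_c9 LD2_c38 LD3_c5) (LK LD1_c4 LD2_c53 LD3_c4) Lrfl Lrfl
theorem f269718 : Led Lsl_et (LP (LK LD1_c16 LD2_c16 LD3_c56)) = (LP (LK LD1_c17 LD2_c43 LD3_c55)) :=
  Lgr Lrot69 (Lpe (f269716 IH) (Lpe (f216726 IH) (Lpr_ff (f269700 IH) (Lpe (f238930 IH) (Lpe (f269717 IH) (Lpn (LP (LK LD1_c17 LD2_c43 LD3_c55))))))))
theorem f269747 : Led Lsl_af (LP (LK LD1_c16 LD2_c16 LD3_c56)) = (LP (LK LD1_c17 LD2_c44 LD3_c10)) :=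
  Lgr Lrot0 (Lpr_at (f269741 IH) (Lpn (LP (LK LD1_c17 LD2_c44 LD3_c10))))
theorem f270034 : Led Lsl_et (LP (LK LD1_c16 LD2_c16 LD3_c20)) = (LP (LK LD1_c17 LD2_c44 LD3_c10)) :=
  Lgr Lrot123 (Lpr_af (f270025 IH) (Lpe (f269718 IH) (Lpr_af (f269747 IH) (Lpn (LP (LK LD1_c17 LD2_c44 LD3_c10))))))
theorem f237716 : Led Lsl_et (LP (LK LD1_c4 LD2_c21 LD3_c48)) = (LP (LK LD1_c8 LD2_c41 LD3_c13)) :=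
  Lre_e IH (LK LD1_c4 LD2_c21 LD3_c48) (LK LD1_c8 LD2_c41 LD3_c13) Lrfl Lrfl
theorem f229862 : Led Lsl_et (LP (LK LD1_c9 LD2_c38 LD3_c13)) = (LP (LK LD1_c4 LD2_c53 LD3_c7)) :=
  Lre_e IH (LK LD1_c9 LD2_c38 LD3_c13) (LK LD1_c4 LD2_c53 LD3_c7) Lrfl Lrfl
theorem f270040 : Led Lsl_ff (LP (LK LD1_c4 LD2_c21 LD3_c48)) = (LP (LK LD1_c4 LD2_c53 LD3_c7)) :=
  Lgr Lrot72 (Lpr_et (f237716 IH) (Lpr_ft (f270015 IH) (Lpr_et (f270034 IH) (Lpr_ft (f229881 IH) (Lpr_et (f229862 IH) (Lpn (LP (LK LD1_c4 LD2_c53 LD3_c7))))))))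
theorem f270046 : Led Lsl_ft (LP (LK LD1_c4 LD2_c21 LD3_c48)) = (LP (LK LD1_c4 LD2_c53 LD3_c7)) :=
  Lgr Lrot48 (Lpr_ff (f270040 IH) (Lpn (LP (LK LD1_c4 LD2_c53 LD3_c7))))
theorem f270052 : Led Lsl_ff (LP (LK LD1_c2 LD2_c9 LD3_c4)) = (LP (LK LD1_c3 LD2_c57 LD3_c24)) :=
  Lgr Lrot23 (Lpe (K13.f237707 IH) (Lpr_ft (f270046 IH) (Lpe (K13.f229714 IH) (Lpn (LP (LK LD1_c3 LD2_c57 LD3_c24))))))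
theorem f270061 : Led Lsl_at (LP (LK LD1_c2 LD2_c9 LD3_c4)) = (LP (LK LD1_c3 LD2_c57 LD3_c26)) :=
  Lgr Lrot26 (Lpr_ff (f270052 IH) (Lpr_gt (K13.f238975 IH) (Lpr_gt (K13.f238874 IH) (Lpn (LP (LK LD1_c3 LD2_c57 LD3_c26))))))
theorem f181571 : Led Lsl_bf (LP (LK LD1_c2 LD2_c46 LD3_c53)) = (LP (LK LD1_c2 LD2_c9 LD3_c1)) :=
  Lgr Lrot93 (Lpr_dt (f181570 IH) (Lpr_bt (K10.f181562 IH) (Lpr_dt (K13.f39207 IH) (Lpn (LP (LK LD1_c2 LD2_c9 LD3_c1))))))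
theorem f181366 : Led Lsl_bt (LP (LK LD1_c4 LD2_c32 LD3_c33)) = (LP (LK LD1_c3 LD2_c57 LD3_c26)) :=
  Lgr Lrot127 (Lpr_bf (f181345 IH) (Lpn (LP (LK LD1_c3 LD2_c57 LD3_c26))))
theorem f269016 : Led Lsl_ff (LP (LK LD1_c2 LD2_c9 LD3_c1)) = (LP (LK LD1_c3 LD2_c57 LD3_c26)) :=
  Lgr Lrot25 (Lpe (f181571 IH) (Lpr_ft (f269009 IH) (Lpr_bt (f181366 IH) (Lpn (LP (LK LD1_c3 LD2_c57 LD3_c26))))))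
theorem f270069 : Led Lsl_af (LP (LK LD1_c3 LD2_c57 LD3_c24)) = (LP (LK LD1_c2 LD2_c9 LD3_c1)) :=
  Lgr Lrot45 (Lpe (f270052 IH) (Lpr_at (f270061 IH) (Lpe (f269016 IH) (Lpn (LP (LK LD1_c2 LD2_c9 LD3_c1))))))
theorem f59303 : Led Lsl_et (LP (LK LD1_c3 LD2_c57 LD3_c24)) = (LP (LK LD1_c7 LD2_c56 LD3_c21)) :=
  Lre_e IH (LK LD1_c3 LD2_c57 LD3_c24) (LK LD1_c7 LD2_c56 LD3_c21) Lrfl Lrfl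
theorem f181669 : Led Lsl_et (LP (LK LD1_c4 LD2_c23 LD3_c9)) = (LP (LK LD1_c2 LD2_c9 LD3_c1)) :=
  Lre_e IH (LK LD1_c4 LD2_c23 LD3_c9) (LK LD1_c2 LD2_c9 LD3_c1) Lrfl Lrfl
theorem f270075 : Led Lsl_at (LP (LK LD1_c7 LD2_c56 LD3_c21)) = (LP (LK LD1_c4 LD2_c23 LD3_c9)) :=
  Lgr Lrot80 (Lpe (f59303 IH) (Lpr_af (f270069 IH) (Lpe (f181669 IH) (Lpn (LP (LK LD1_c4 LD2_c23 LD3_c9))))))
theorem f59275 : Led Lsl_et (LP (LK LD1_c5 LD2_c46 LD3_c41)) = (LP (LK LD1_c11 LD2_c23 LD3_c34)) :=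
  Lre_e IH (LK LD1_c5 LD2_c46 LD3_c41) (LK LD1_c11 LD2_c23 LD3_c34) Lrfl Lrfl
theorem f59278 : Led Lsl_et (LP (LK LD1_c7 LD2_c56 LD3_c21)) = (LP (LK LD1_c3 LD2_c57 LD3_c24)) :=
  Lre_e IH (LK LD1_c7 LD2_c56 LD3_c21) (LK LD1_c3 LD2_c57 LD3_c24) Lrfl Lrfl
theorem f59279 : Led Lsl_dt (LP (LK LD1_c11 LD2_c23 LD3_c34)) = (LP (LK LD1_c7 LD2_c56 LD3_c21)) :=
  Lgr Lrot77 (Lpe (f59275 IH) (Lpr_df (K11.f59268 IH) (Lpe (K13.f59276 IH) (Lpe (K13.f59277 IH) (Lpe (f59278 IH) (Lpn (LP (LK LD1_c7 LD2_c56 LD3_c21))))))))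
theorem f39230 : Led Lsl_dt (LP (LK LD1_c4 LD2_c23 LD3_c9)) = (LP (LK LD1_c8 LD2_c44 LD3_c2)) :=
  Lre_d IH (LK LD1_c4 LD2_c23 LD3_c9) (LK LD1_c8 LD2_c44 LD3_c2) Lrfl Lrfl
theorem f270079 : Led Lsl_af (LP (LK LD1_c11 LD2_c23 LD3_c34)) = (LP (LK LD1_c8 LD2_c44 LD3_c2)) :=
  Lgr Lrot117 (Lpr_dt (f59279 IH) (Lpr_at (f270075 IH) (Lpr_dt (f39230 IH) (Lpn (LP (LK LD1_c8 LD2_c44 LD3_c2))))))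
theorem f59292 : Led Lsl_et (LP (LK LD1_c11 LD2_c23 LD3_c34)) = (LP (LK LD1_c5 LD2_c46 LD3_c41)) :=
  Lre_e IH (LK LD1_c11 LD2_c23 LD3_c34) (LK LD1_c5 LD2_c46 LD3_c41) Lrfl Lrfl
theorem f270137 : Led Lsl_at (LP (LK LD1_c5 LD2_c46 LD3_c41)) = (LP (LK LD1_c4 LD2_c23 LD3_c10)) :=
  Lgr Lrot80 (Lpe (f59292 IH) (Lpr_af (f270079 IH) (Lpe (f80975 IH) (Lpn (LP (LK LD1_c4 LD2_c23 LD3_c10))))))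
theorem f270145 : Led Lsl_ff (LP (LK LD1_c5 LD2_c46 LD3_c41)) = (LP (LK LD1_c6 LD2_c14 LD3_c26)) :=
  Lgr Lrot52 (Lpr_at (f270137 IH) (Lpr_gf (K10.f80605 IH) (Lpe (K10.f60504 IH) (Lpn (LP (LK LD1_c6 LD2_c14 LD3_c26))))))
theorem f270151 : Led Lsl_ft (LP (LK LD1_c5 LD2_c46 LD3_c41)) = (LP (LK LD1_c6 LD2_c14 LD3_c26)) :=
  Lgr Lrot48 (Lpr_ff (f270145 IH) (Lpn (LP (LK LD1_c6 LD2_c14 LD3_c26))))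
theorem f270157 : Led Lsl_af (LP (LK LD1_c5 LD2_c46 LD3_c40)) = (LP (LK LD1_c6 LD2_c14 LD3_c26)) :=
  Lgr Lrot31 (Lpe (K13.f60777 IH) (Lpe (K11.f56606 IH) (Lpr_ft (f270151 IH) (Lpn (LP (LK LD1_c6 LD2_c14 LD3_c26))))))
theorem f270139 : Led Lsl_af (LP (LK LD1_c5 LD2_c46 LD3_c41)) = (LP (LK LD1_c4 LD2_c23 LD3_c10)) :=
  Lgr Lrot0 (Lpr_at (f270137 IH) (Lpn (LP (LK LD1_c4 LD2_c23 LD3_c10))))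
theorem f270166 : Led Lsl_ft (LP (LK LD1_c5 LD2_c46 LD3_c40)) = (LP (LK LD1_c4 LD2_c23 LD3_c10)) :=
  Lgr Lrot101 (Lpr_af (f270157 IH) (Lpe (f270151 IH) (Lpr_af (f270139 IH) (Lpn (LP (LK LD1_c4 LD2_c23 LD3_c10))))))
theorem f270175 : Led Lsl_ff (LP (LK LD1_c5 LD2_c46 LD3_c40)) = (LP (LK LD1_c4 LD2_c23 LD3_c10)) :=
  Lgr Lrot3 (Lpr_ft (f270166 IH) (Lpn (LP (LK LD1_c4 LD2_c23 LD3_c10))))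
theorem f270177 : Led Lsl_ft (LP (LK LD1_c11 LD2_c23 LD3_c30)) = (LP (LK LD1_c8 LD2_c44 LD3_c4)) :=
  Lgr Lrot4 (Lpe (K13.f60781 IH) (Lpr_ff (f270175 IH) (Lpe (K10.f80608 IH) (Lpn (LP (LK LD1_c8 LD2_c44 LD3_c4))))))
theorem f270196 : Led Lsl_ff (LP (LK LD1_c11 LD2_c23 LD3_c28)) = (LP (LK LD1_c12 LD2_c6 LD3_c45)) :=
  Lgr Lrot19 (Lpr_dt (K13.f197497 IH) (Lpr_ft (f270177 IH) (Lpr_dt (K10.f197861 IH) (Lpn (LP (LK LD1_c12 LD2_c6 LD3_c45))))))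
theorem f241296 : Led Lsl_ct (LP (LK LD1_c6 LD2_c13 LD3_c61)) = (LP (LK LD1_c11 LD2_c23 LD3_c35)) :=
  Lgr Lrot8 (Lpr_gt (K13.f69936 IH) (Lpr_dt (K2.f69781 IH) (Lpr_gt (K13.f241291 IH) (Lpr_dt (K13.f60640 IH) (Lpe (K13.f60639 IH) (Lpr_df (K13.f241096 IH) (Lpe (K13.f59286 IH) (Lpe (K1.f60590 IH) (Lpe (K13.f60604 IH) (Lpn (LP (LK LD1_c11 LD2_c23 LD3_c35))))))))))))
theorem f193707 : Led Lsl_ct (LP (LK LD1_c16 LD2_c20 LD3_c58)) = (LP (LK LD1_c8 LD2_c43 LD3_c49)) :=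
  Lre_c IH (LK LD1_c16 LD2_c20 LD3_c58) (LK LD1_c8 LD2_c43 LD3_c49) Lrfl Lrfl
theorem f241358 : Led Lsl_gt (LP (LK LD1_c12 LD2_c6 LD3_c45)) = (LP (LK LD1_c16 LD2_c20 LD3_c58)) :=
  Lgr Lrot9 (Lpe (K10.f197861 IH) (Lpr_gt (K10.f197840 IH) (Lpr_ct (K2.f37232 IH) (Lpr_gt (K13.f69935 IH) (Lpr_ct (f241296 IH) (Lpe (K13.f241093 IH) (Lpe (K13.f175005 IH) (Lpr_gf (K13.f240781 IH) (Lpe (f193707 IH) (Lpn (LP (LK LD1_c16 LD2_c20 LD3_c58))))))))))))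
theorem f241361 : Led Lsl_gf (LP (LK LD1_c12 LD2_c6 LD3_c47)) = (LP (LK LD1_c16 LD2_c20 LD3_c58)) :=
  Lgr Lrot144 (Lpr_dt (K12.f197863 IH) (Lpr_gt (K10.f69842 IH) (Lpr_dt (K2.f37233 IH) (Lpe (K13.f37235 IH) (Lpe (K13.f37234 IH) (Lpr_gf (K13.f241294 IH) (Lpe (K13.f60638 IH) (Lpr_gf (K13.f240781 IH) (Lpe (f193707 IH) (Lpn (LP (LK LD1_c16 LD2_c20 LD3_c58))))))))))))
theorem f270205 : Led Lsl_at (LP (LK LD1_c11 LD2_c23 LD3_c28)) = (LP (LK LD1_c12 LD2_c6 LD3_c47)) :=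
  Lgr Lrot26 (Lpr_ff (f270196 IH) (Lpr_gt (f241358 IH) (Lpe (f241361 IH) (Lpn (LP (LK LD1_c12 LD2_c6 LD3_c47))))))
theorem f197504 : Led Lsl_et (LP (LK LD1_c20 LD2_c21 LD3_c11)) = (LP (LK LD1_c11 LD2_c23 LD3_c28)) :=
  Lre_e IH (LK LD1_c20 LD2_c21 LD3_c11) (LK LD1_c11 LD2_c23 LD3_c28) Lrfl Lrfl
theorem f197865 : Led Lsl_et (LP (LK LD1_c12 LD2_c6 LD3_c47)) = (LP (LK LD1_c21 LD2_c12 LD3_c54)) :=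
  Lre_e IH (LK LD1_c12 LD2_c6 LD3_c47) (LK LD1_c21 LD2_c12 LD3_c54) Lrfl Lrfl
theorem f270211 : Led Lsl_af (LP (LK LD1_c20 LD2_c21 LD3_c11)) = (LP (LK LD1_c21 LD2_c12 LD3_c54)) :=
  Lgr Lrot50 (Lpr_et (f197504 IH) (Lpr_at (f270205 IH) (Lpr_et (f197865 IH) (Lpn (LP (LK LD1_c21 LD2_c12 LD3_c54))))))
theorem f240870 : Led Lsl_ct (LP (LK LD1_c20 LD2_c21 LD3_c11)) = (LP (LK LD1_c11 LD2_c23 LD3_c29)) :=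
  Lre_c IH (LK LD1_c20 LD2_c21 LD3_c11) (LK LD1_c11 LD2_c23 LD3_c29) Lrfl Lrfl
theorem f211535 : Led Lsl_ct (LP (LK LD1_c12 LD2_c6 LD3_c48)) = (LP (LK LD1_c21 LD2_c12 LD3_c54)) :=
  Lre_c IH (LK LD1_c12 LD2_c6 LD3_c48) (LK LD1_c21 LD2_c12 LD3_c54) Lrfl Lrfl
theorem f270215 : Led Lsl_at (LP (LK LD1_c11 LD2_c23 LD3_c29)) = (LP (LK LD1_c12 LD2_c6 LD3_c48)) :=
  Lgr Lrot107 (Lpe (f240870 IH) (Lpr_af (f270211 IH) (Lpe (f211535 IH) (Lpn (LP (LK LD1_c12 LD2_c6 LD3_c48))))))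
theorem f240887 : Led Lsl_ft (LP (LK LD1_c20 LD2_c21 LD3_c14)) = (LP (LK LD1_c11 LD2_c23 LD3_c29)) :=
  Lre_f IH (LK LD1_c20 LD2_c21 LD3_c14) (LK LD1_c11 LD2_c23 LD3_c29) Lrfl Lrfl
theorem f211539 : Led Lsl_ft (LP (LK LD1_c12 LD2_c6 LD3_c48)) = (LP (LK LD1_c21 LD2_c12 LD3_c57)) :=
  Lre_f IH (LK LD1_c12 LD2_c6 LD3_c48) (LK LD1_c21 LD2_c12 LD3_c57) Lrfl Lrfl
theorem f270222 : Led Lsl_af (LP (LK LD1_c20 LD2_c21 LD3_c14)) = (LP (LK LD1_c21 LD2_c12 LD3_c57)) :=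
  Lgr Lrot45 (Lpr_ft (f240887 IH) (Lpr_at (f270215 IH) (Lpr_ft (f211539 IH) (Lpn (LP (LK LD1_c21 LD2_c12 LD3_c57))))))
theorem f212034 : Led Lsl_et (LP (LK LD1_c11 LD2_c23 LD3_c29)) = (LP (LK LD1_c5 LD2_c46 LD3_c39)) :=
  Lre_e IH (LK LD1_c11 LD2_c23 LD3_c29) (LK LD1_c5 LD2_c46 LD3_c39) Lrfl Lrfl
theorem f240713 : Led Lsl_et (LP (LK LD1_c5 LD2_c5 LD3_c10)) = (LP (LK LD1_c10 LD2_c1 LD3_c26)) :=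
  Lre_e IH (LK LD1_c5 LD2_c5 LD3_c10) (LK LD1_c10 LD2_c1 LD3_c26) Lrfl Lrfl
theorem f240855 : Led Lsl_df (LP (LK LD1_c11 LD2_c23 LD3_c29)) = (LP (LK LD1_c10 LD2_c1 LD3_c26)) :=
  Lgr Lrot70 (Lpr_et (f212034 IH) (Lpr_dt (K13.f60607 IH) (Lpr_et (K13.f240844 IH) (Lpr_dt (K13.f240701 IH) (Lpr_et (f240713 IH) (Lpn (LP (LK LD1_c10 LD2_c1 LD3_c26))))))))
theorem f240864 : Led Lsl_ft (LP (LK LD1_c11 LD2_c23 LD3_c29)) = (LP (LK LD1_c20 LD2_c21 LD3_c14)) :=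
  Lre_f IH (LK LD1_c11 LD2_c23 LD3_c29) (LK LD1_c20 LD2_c21 LD3_c14) Lrfl Lrfl
theorem f240865 : Led Lsl_ft (LP (LK LD1_c18 LD2_c19 LD3_c1)) = (LP (LK LD1_c10 LD2_c1 LD3_c26)) :=
  Lre_f IH (LK LD1_c18 LD2_c19 LD3_c1) (LK LD1_c10 LD2_c1 LD3_c26) Lrfl Lrfl
theorem f240866 : Led Lsl_dt (LP (LK LD1_c20 LD2_c21 LD3_c14)) = (LP (LK LD1_c18 LD2_c19 LD3_c1)) :=
  Lgr Lrot60 (Lpe (f240864 IH) (Lpr_df (f240855 IH) (Lpe (f240865 IH) (Lpn (LP (LK LD1_c18 LD2_c19 LD3_c1))))))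
theorem f211529 : Led Lsl_et (LP (LK LD1_c12 LD2_c6 LD3_c48)) = (LP (LK LD1_c6 LD2_c14 LD3_c7)) :=
  Lre_e IH (LK LD1_c12 LD2_c6 LD3_c48) (LK LD1_c6 LD2_c14 LD3_c7) Lrfl Lrfl
theorem f211530 : Led Lsl_et (LP (LK LD1_c5 LD2_c6 LD3_c44)) = (LP (LK LD1_c10 LD2_c4 LD3_c12)) :=
  Lre_e IH (LK LD1_c5 LD2_c6 LD3_c44) (LK LD1_c10 LD2_c4 LD3_c12) Lrfl Lrfl
theorem f211531 : Led Lsl_df (LP (LK LD1_c12 LD2_c6 LD3_c48)) = (LP (LK LD1_c10 LD2_c4 LD3_c12)) :=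
  Lgr Lrot70 (Lpr_et (f211529 IH) (Lpr_dt (K10.f197813 IH) (Lpe (K13.f211522 IH) (Lpr_dt (K13.f211524 IH) (Lpr_et (f211530 IH) (Lpn (LP (LK LD1_c10 LD2_c4 LD3_c12))))))))
theorem f211540 : Led Lsl_ft (LP (LK LD1_c18 LD2_c22 LD3_c55)) = (LP (LK LD1_c10 LD2_c4 LD3_c12)) :=
  Lre_f IH (LK LD1_c18 LD2_c22 LD3_c55) (LK LD1_c10 LD2_c4 LD3_c12) Lrfl Lrfl
theorem f211541 : Led Lsl_dt (LP (LK LD1_c21 LD2_c12 LD3_c57)) = (LP (LK LD1_c18 LD2_c22 LD3_c55)) :=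
  Lgr Lrot60 (Lpe (f211539 IH) (Lpr_df (f211531 IH) (Lpe (f211540 IH) (Lpn (LP (LK LD1_c18 LD2_c22 LD3_c55))))))
theorem f211552 : Led Lsl_df (LP (LK LD1_c21 LD2_c12 LD3_c57)) = (LP (LK LD1_c18 LD2_c22 LD3_c55)) :=
  Lgr Lrot38 (Lpr_dt (f211541 IH) (Lpn (LP (LK LD1_c18 LD2_c22 LD3_c55))))
theorem f270228 : Led Lsl_at (LP (LK LD1_c18 LD2_c19 LD3_c1)) = (LP (LK LD1_c18 LD2_c22 LD3_c55)) :=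
  Lgr Lrot51 (Lpe (f240866 IH) (Lpr_af (f270222 IH) (Lpr_df (f211552 IH) (Lpn (LP (LK LD1_c18 LD2_c22 LD3_c55))))))
theorem f270232 : Led Lsl_af (LP (LK LD1_c18 LD2_c19 LD3_c1)) = (LP (LK LD1_c18 LD2_c22 LD3_c55)) :=
  Lgr Lrot0 (Lpr_at (f270228 IH) (Lpn (LP (LK LD1_c18 LD2_c22 LD3_c55))))
theorem f211543 : Led Lsl_ft (LP (LK LD1_c10 LD2_c4 LD3_c12)) = (LP (LK LD1_c18 LD2_c22 LD3_c55)) :=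
  Lre_f IH (LK LD1_c10 LD2_c4 LD3_c12) (LK LD1_c18 LD2_c22 LD3_c55) Lrfl Lrfl
theorem f270236 : Led Lsl_at (LP (LK LD1_c10 LD2_c1 LD3_c26)) = (LP (LK LD1_c10 LD2_c4 LD3_c12)) :=
  Lgr Lrot66 (Lpe (f240865 IH) (Lpr_af (f270232 IH) (Lpe (f211543 IH) (Lpn (LP (LK LD1_c10 LD2_c4 LD3_c12))))))
theorem f211548 : Led Lsl_et (LP (LK LD1_c10 LD2_c4 LD3_c12)) = (LP (LK LD1_c5 LD2_c6 LD3_c44)) :=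
  Lre_e IH (LK LD1_c10 LD2_c4 LD3_c12) (LK LD1_c5 LD2_c6 LD3_c44) Lrfl Lrfl
theorem f270244 : Led Lsl_af (LP (LK LD1_c5 LD2_c5 LD3_c10)) = (LP (LK LD1_c5 LD2_c6 LD3_c44)) :=
  Lgr Lrot50 (Lpr_et (f240713 IH) (Lpr_at (f270236 IH) (Lpr_et (f211548 IH) (Lpn (LP (LK LD1_c5 LD2_c6 LD3_c44))))))
theorem f270248 : Led Lsl_at (LP (LK LD1_c10 LD2_c0 LD3_c50)) = (LP (LK LD1_c10 LD2_c4 LD3_c11)) :=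
  Lgr Lrot107 (Lpr_cf (K13.f242023 IH) (Lpr_af (f270244 IH) (Lpe (K13.f201389 IH) (Lpn (LP (LK LD1_c10 LD2_c4 LD3_c11))))))
theorem f270254 : Led Lsl_ff (LP (LK LD1_c10 LD2_c0 LD3_c50)) = (LP (LK LD1_c10 LD2_c4 LD3_c13)) :=
  Lgr Lrot52 (Lpr_at (f270248 IH) (Lpe (K13.f227362 IH) (Lpr_gf (K15.f241029 IH) (Lpn (LP (LK LD1_c10 LD2_c4 LD3_c13))))))
theorem f270262 : Led Lsl_ft (LP (LK LD1_c5 LD2_c4 LD3_c53)) = (LP (LK LD1_c5 LD2_c12 LD3_c39)) :=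
  Lgr Lrot54 (Lpe (K13.f192602 IH) (Lpr_ff (f270254 IH) (Lpr_df (K13.f240985 IH) (Lpn (LP (LK LD1_c5 LD2_c12 LD3_c39))))))
theorem f270269 : Led Lsl_af (LP (LK LD1_c5 LD2_c4 LD3_c56)) = (LP (LK LD1_c5 LD2_c12 LD3_c39)) :=
  Lgr Lrot31 (Lpe (K14.f255274 IH) (Lpr_gf (K13.f192351 IH) (Lpr_ft (f270262 IH) (Lpn (LP (LK LD1_c5 LD2_c12 LD3_c39))))))
theorem f192594 : Led Lsl_dt (LP (LK LD1_c5 LD2_c4 LD3_c53)) = (LP (LK LD1_c10 LD2_c0 LD3_c50)) :=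
  Lre_d IH (LK LD1_c5 LD2_c4 LD3_c53) (LK LD1_c10 LD2_c0 LD3_c50) Lrfl Lrfl
theorem f270252 : Led Lsl_af (LP (LK LD1_c5 LD2_c4 LD3_c53)) = (LP (LK LD1_c5 LD2_c12 LD3_c41)) :=
  Lgr Lrot117 (Lpr_dt (f192594 IH) (Lpr_at (f270248 IH) (Lpr_dt (K13.f231493 IH) (Lpn (LP (LK LD1_c5 LD2_c12 LD3_c41))))))
theorem f270281 : Led Lsl_ft (LP (LK LD1_c5 LD2_c4 LD3_c56)) = (LP (LK LD1_c5 LD2_c12 LD3_c41)) :=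
  Lgr Lrot101 (Lpr_af (f270269 IH) (Lpe (f270262 IH) (Lpr_af (f270252 IH) (Lpn (LP (LK LD1_c5 LD2_c12 LD3_c41))))))
theorem f270287 : Led Lsl_ff (LP (LK LD1_c5 LD2_c4 LD3_c56)) = (LP (LK LD1_c5 LD2_c12 LD3_c41)) :=
  Lgr Lrot3 (Lpr_ft (f270281 IH) (Lpn (LP (LK LD1_c5 LD2_c12 LD3_c41))))
theorem f270295 : Led Lsl_ft (LP (LK LD1_c10 LD2_c0 LD3_c57)) = (LP (LK LD1_c10 LD2_c4 LD3_c11)) :=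
  Lgr Lrot54 (Lpe (K14.f255278 IH) (Lpr_ff (f270287 IH) (Lpe (K13.f231493 IH) (Lpn (LP (LK LD1_c10 LD2_c4 LD3_c11))))))
theorem f270250 : Led Lsl_af (LP (LK LD1_c10 LD2_c0 LD3_c50)) = (LP (LK LD1_c10 LD2_c4 LD3_c11)) :=
  Lgr Lrot0 (Lpr_at (f270248 IH) (Lpn (LP (LK LD1_c10 LD2_c4 LD3_c11))))
theorem f240704 : Led Lsl_dt (LP (LK LD1_c5 LD2_c5 LD3_c10)) = (LP (LK LD1_c2 LD2_c29 LD3_c54)) :=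
  Lre_d IH (LK LD1_c5 LD2_c5 LD3_c10) (LK LD1_c2 LD2_c29 LD3_c54) Lrfl Lrfl
theorem f242017 : Led Lsl_ft (LP (LK LD1_c5 LD2_c6 LD3_c45)) = (LP (LK LD1_c5 LD2_c5 LD3_c10)) :=
  Lgr Lrot54 (Lpe (K13.f239502 IH) (Lpr_ff (K13.f242011 IH) (Lpe (f240704 IH) (Lpn (LP (LK LD1_c5 LD2_c5 LD3_c10))))))
theorem f242034 : Led Lsl_ft (LP (LK LD1_c10 LD2_c0 LD3_c50)) = (LP (LK LD1_c10 LD2_c4 LD3_c13)) :=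
  Lgr Lrot4 (Lpr_cf (K13.f242023 IH) (Lpe (f242017 IH) (Lpe (K13.f201376 IH) (Lpn (LP (LK LD1_c10 LD2_c4 LD3_c13))))))
theorem f270297 : Led Lsl_af (LP (LK LD1_c10 LD2_c0 LD3_c57)) = (LP (LK LD1_c10 LD2_c4 LD3_c13)) :=
  Lgr Lrot45 (Lpr_ft (f270295 IH) (Lpe (f270250 IH) (Lpr_ft (f242034 IH) (Lpn (LP (LK LD1_c10 LD2_c4 LD3_c13))))))
theorem f255293 : Led Lsl_et (LP (LK LD1_c10 LD2_c0 LD3_c57)) = (LP (LK LD1_c18 LD2_c18 LD3_c6)) :=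
  Lre_e IH (LK LD1_c10 LD2_c0 LD3_c57) (LK LD1_c18 LD2_c18 LD3_c6) Lrfl Lrfl
theorem f240973 : Led Lsl_et (LP (LK LD1_c18 LD2_c22 LD3_c57)) = (LP (LK LD1_c10 LD2_c4 LD3_c13)) :=
  Lre_e IH (LK LD1_c18 LD2_c22 LD3_c57) (LK LD1_c10 LD2_c4 LD3_c13) Lrfl Lrfl
theorem f270315 : Led Lsl_at (LP (LK LD1_c18 LD2_c18 LD3_c6)) = (LP (LK LD1_c18 LD2_c22 LD3_c57)) :=
  Lgr Lrot80 (Lpe (f255293 IH) (Lpr_af (f270297 IH) (Lpe (f240973 IH) (Lpn (LP (LK LD1_c18 LD2_c22 LD3_c57))))))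
theorem f270321 : Led Lsl_dt (LP (LK LD1_c27 LD2_c56 LD3_c51)) = (LP (LK LD1_c18 LD2_c18 LD3_c6)) :=
  Lre_d IH (LK LD1_c27 LD2_c56 LD3_c51) (LK LD1_c18 LD2_c18 LD3_c6) Lrfl Lrfl
theorem f227259 : Led Lsl_dt (LP (LK LD1_c8 LD2_c41 LD3_c24)) = (LP (LK LD1_c16 LD2_c16 LD3_c38)) :=
  Lre_d IH (LK LD1_c8 LD2_c41 LD3_c24) (LK LD1_c16 LD2_c16 LD3_c38) Lrfl Lrfl
theorem f227260 : Led Lsl_et (LP (LK LD1_c16 LD2_c16 LD3_c38)) = (LP (LK LD1_c26 LD2_c14 LD3_c38)) :=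
  Lre_e IH (LK LD1_c16 LD2_c16 LD3_c38) (LK LD1_c26 LD2_c14 LD3_c38) Lrfl Lrfl
theorem f240987 : Led Lsl_df (LP (LK LD1_c18 LD2_c22 LD3_c57)) = (LP (LK LD1_c26 LD2_c14 LD3_c38)) :=
  Lgr Lrot70 (Lpr_et (f240973 IH) (Lpr_dt (K13.f240967 IH) (Lpe (K14.f227246 IH) (Lpr_dt (f227259 IH) (Lpr_et (f227260 IH) (Lpn (LP (LK LD1_c26 LD2_c14 LD3_c38))))))))
theorem f240993 : Led Lsl_dt (LP (LK LD1_c18 LD2_c22 LD3_c57)) = (LP (LK LD1_c26 LD2_c14 LD3_c38)) :=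
  Lgr Lrot42 (Lpr_df (f240987 IH) (Lpn (LP (LK LD1_c26 LD2_c14 LD3_c38))))
theorem f270322 : Led Lsl_af (LP (LK LD1_c27 LD2_c56 LD3_c51)) = (LP (LK LD1_c26 LD2_c14 LD3_c38)) :=
  Lgr Lrot117 (Lpr_dt (f270321 IH) (Lpr_at (f270315 IH) (Lpr_dt (f240993 IH) (Lpn (LP (LK LD1_c26 LD2_c14 LD3_c38))))))
theorem f270331 : Led Lsl_et (LP (LK LD1_c27 LD2_c56 LD3_c51)) = (LP (LK LD1_c18 LD2_c18 LD3_c7)) :=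
  Lre_e IH (LK LD1_c27 LD2_c56 LD3_c51) (LK LD1_c18 LD2_c18 LD3_c7) Lrfl Lrfl
theorem f270332 : Led Lsl_at (LP (LK LD1_c18 LD2_c18 LD3_c7)) = (LP (LK LD1_c16 LD2_c16 LD3_c38)) :=
  Lgr Lrot80 (Lpe (f270331 IH) (Lpr_af (f270322 IH) (Lpe (f227260 IH) (Lpn (LP (LK LD1_c16 LD2_c16 LD3_c38))))))
theorem f255295 : Led Lsl_dt (LP (LK LD1_c10 LD2_c0 LD3_c58)) = (LP (LK LD1_c18 LD2_c18 LD3_c7)) :=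
  Lre_d IH (LK LD1_c10 LD2_c0 LD3_c58) (LK LD1_c18 LD2_c18 LD3_c7) Lrfl Lrfl
theorem f270337 : Led Lsl_af (LP (LK LD1_c10 LD2_c0 LD3_c58)) = (LP (LK LD1_c8 LD2_c41 LD3_c24)) :=
  Lgr Lrot117 (Lpr_dt (f255295 IH) (Lpr_at (f270332 IH) (Lpr_dt (f227266 IH) (Lpn (LP (LK LD1_c8 LD2_c41 LD3_c24))))))
theorem f270343 : Led Lsl_ct (LP (LK LD1_c10 LD2_c0 LD3_c58)) = (LP (LK LD1_c5 LD2_c4 LD3_c57)) :=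
  Lre_c IH (LK LD1_c10 LD2_c0 LD3_c58) (LK LD1_c5 LD2_c4 LD3_c57) Lrfl Lrfl
theorem f270344 : Led Lsl_at (LP (LK LD1_c5 LD2_c4 LD3_c57)) = (LP (LK LD1_c4 LD2_c21 LD3_c52)) :=
  Lgr Lrot107 (Lpe (f270343 IH) (Lpr_af (f270337 IH) (Lpe (K14.f43138 IH) (Lpn (LP (LK LD1_c4 LD2_c21 LD3_c52))))))
theorem f227274 : Led Lsl_ft (LP (LK LD1_c4 LD2_c21 LD3_c52)) = (LP (LK LD1_c8 LD2_c41 LD3_c25)) :=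
  Lre_f IH (LK LD1_c4 LD2_c21 LD3_c52) (LK LD1_c8 LD2_c41 LD3_c25) Lrfl Lrfl
theorem f234100 : Led Lsl_gt (LP (LK LD1_c2 LD2_c38 LD3_c15)) = (LP (LK LD1_c5 LD2_c23 LD3_c30)) :=
  Lre_g IH (LK LD1_c2 LD2_c38 LD3_c15) (LK LD1_c5 LD2_c23 LD3_c30) Lrfl Lrfl
theorem f255602 : Led Lsl_at (LP (LK LD1_c8 LD2_c41 LD3_c25)) = (LP (LK LD1_c5 LD2_c23 LD3_c30)) :=
  Lgr Lrot26 (Lpe (f227274 IH) (Lpr_gt (K14.f255597 IH) (Lpr_gt (f234100 IH) (Lpn (LP (LK LD1_c5 LD2_c23 LD3_c30))))))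
theorem f270355 : Led Lsl_ff (LP (LK LD1_c5 LD2_c4 LD3_c57)) = (LP (LK LD1_c5 LD2_c23 LD3_c30)) :=
  Lgr Lrot30 (Lpr_at (f270344 IH) (Lpr_ft (f227274 IH) (Lpr_at (f255602 IH) (Lpn (LP (LK LD1_c5 LD2_c23 LD3_c30))))))
theorem f260455 : Led Lsl_dt (LP (LK LD1_c4 LD2_c21 LD3_c53)) = (LP (LK LD1_c8 LD2_c41 LD3_c25)) :=
  Lre_d IH (LK LD1_c4 LD2_c21 LD3_c53) (LK LD1_c8 LD2_c41 LD3_c25) Lrfl Lrfl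
theorem f269896 : Led Lsl_dt (LP (LK LD1_c5 LD2_c23 LD3_c30)) = (LP (LK LD1_c7 LD2_c55 LD3_c47)) :=
  Lgr Lrot44 (Lpe (f255602 IH) (Lpe (f260455 IH) (Lpr_af (f269888 IH) (Lpn (LP (LK LD1_c7 LD2_c55 LD3_c47))))))
theorem f270359 : Led Lsl_ct (LP (LK LD1_c7 LD2_c55 LD3_c47)) = (LP (LK LD1_c9 LD2_c38 LD3_c7)) :=
  Lgr Lrot133 (Lpe (f269896 IH) (Lpe (f270355 IH) (Lpr_at (f270344 IH) (Lpe (K14.f227245 IH) (Lpe (f227266 IH) (Lpe (f269934 IH) (Lpr_df (f269937 IH) (Lpe (f269936 IH) (Lpe (f269935 IH) (Lpn (LP (LK LD1_c9 LD2_c38 LD3_c7))))))))))))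
theorem f216782 : Led Lsl_ft (LP (LK LD1_c2 LD2_c8 LD3_c28)) = (LP (LK LD1_c4 LD2_c21 LD3_c61)) :=
  Lre_f IH (LK LD1_c2 LD2_c8 LD3_c28) (LK LD1_c4 LD2_c21 LD3_c61) Lrfl Lrfl
theorem f227957 : Led Lsl_et (LP (LK LD1_c3 LD2_c57 LD3_c3)) = (LP (LK LD1_c1 LD2_c55 LD3_c17)) :=
  Lre_e IH (LK LD1_c3 LD2_c57 LD3_c3) (LK LD1_c1 LD2_c55 LD3_c17) Lrfl Lrfl
theorem f269864 : Led Lsl_ft (LP (LK LD1_c7 LD2_c55 LD3_c47)) = (LP (LK LD1_c3 LD2_c57 LD3_c3)) :=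
  Lre_f IH (LK LD1_c7 LD2_c55 LD3_c47) (LK LD1_c3 LD2_c57 LD3_c3) Lrfl Lrfl
theorem f269865 : Led Lsl_et (LP (LK LD1_c4 LD2_c21 LD3_c61)) = (LP (LK LD1_c7 LD2_c55 LD3_c47)) :=
  Lgr Lrot69 (Lpe (f216782 IH) (Lpe (f216778 IH) (Lpr_ff (f269858 IH) (Lpe (f227957 IH) (Lpe (f269864 IH) (Lpn (LP (LK LD1_c7 LD2_c55 LD3_c47))))))))
theorem f216772 : Led Lsl_ct (LP (LK LD1_c8 LD2_c41 LD3_c39)) = (LP (LK LD1_c4 LD2_c21 LD3_c61)) :=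
  Lre_c IH (LK LD1_c8 LD2_c41 LD3_c39) (LK LD1_c4 LD2_c21 LD3_c61) Lrfl Lrfl
theorem f270364 : Led Lsl_ef (LP (LK LD1_c8 LD2_c41 LD3_c39)) = (LP (LK LD1_c9 LD2_c38 LD3_c7)) :=
  Lgr Lrot28 (Lpr_ct (f216772 IH) (Lpr_et (f269865 IH) (Lpr_ct (f270359 IH) (Lpn (LP (LK LD1_c9 LD2_c38 LD3_c7))))))
theorem f270391 : Led Lsl_et (LP (LK LD1_c8 LD2_c41 LD3_c39)) = (LP (LK LD1_c9 LD2_c38 LD3_c7)) :=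
  Lgr Lrot87 (Lpr_ef (f270364 IH) (Lpn (LP (LK LD1_c9 LD2_c38 LD3_c7))))
theorem f269798 : Led Lsl_af (LP (LK LD1_c8 LD2_c41 LD3_c39)) = (LP (LK LD1_c9 LD2_c38 LD3_c15)) :=
  Lgr Lrot0 (Lpr_at (f269786 IH) (Lpn (LP (LK LD1_c9 LD2_c38 LD3_c15))))
theorem f269906 : Led Lsl_dt (LP (LK LD1_c8 LD2_c41 LD3_c17)) = (LP (LK LD1_c16 LD2_c16 LD3_c27)) :=
  Lre_d IH (LK LD1_c8 LD2_c41 LD3_c17) (LK LD1_c16 LD2_c16 LD3_c27) Lrfl Lrfl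
theorem f269975 : Led Lsl_dt (LP (LK LD1_c17 LD2_c43 LD3_c58)) = (LP (LK LD1_c9 LD2_c38 LD3_c7)) :=
  Lre_d IH (LK LD1_c17 LD2_c43 LD3_c58) (LK LD1_c9 LD2_c38 LD3_c7) Lrfl Lrfl
theorem f269976 : Led Lsl_af (LP (LK LD1_c8 LD2_c41 LD3_c17)) = (LP (LK LD1_c9 LD2_c38 LD3_c7)) :=
  Lgr Lrot117 (Lpr_dt (f269906 IH) (Lpr_at (f269961 IH) (Lpr_dt (f269975 IH) (Lpn (LP (LK LD1_c9 LD2_c38 LD3_c7))))))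
theorem f270395 : Led Lsl_ef (LP (LK LD1_c9 LD2_c38 LD3_c15)) = (LP (LK LD1_c8 LD2_c41 LD3_c17)) :=
  Lgr Lrot20 (Lpe (f269798 IH) (Lpr_et (f270391 IH) (Lpe (f269976 IH) (Lpn (LP (LK LD1_c8 LD2_c41 LD3_c17))))))
theorem f229817 : Led Lsl_bt (LP (LK LD1_c9 LD2_c38 LD3_c15)) = (LP (LK LD1_c17 LD2_c44 LD3_c8)) :=
  Lre_b IH (LK LD1_c9 LD2_c38 LD3_c15) (LK LD1_c17 LD2_c44 LD3_c8) Lrfl Lrfl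
theorem f260474 : Led Lsl_bt (LP (LK LD1_c16 LD2_c16 LD3_c16)) = (LP (LK LD1_c8 LD2_c41 LD3_c17)) :=
  Lre_b IH (LK LD1_c16 LD2_c16 LD3_c16) (LK LD1_c8 LD2_c41 LD3_c17) Lrfl Lrfl
theorem f270403 : Led Lsl_et (LP (LK LD1_c17 LD2_c44 LD3_c8)) = (LP (LK LD1_c16 LD2_c16 LD3_c16)) :=
  Lgr Lrot74 (Lpe (f229817 IH) (Lpr_ef (f270395 IH) (Lpe (f260474 IH) (Lpn (LP (LK LD1_c16 LD2_c16 LD3_c16))))))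
theorem f229839 : Led Lsl_et (LP (LK LD1_c4 LD2_c53 LD3_c6)) = (LP (LK LD1_c9 LD2_c38 LD3_c12)) :=
  Lre_e IH (LK LD1_c4 LD2_c53 LD3_c6) (LK LD1_c9 LD2_c38 LD3_c12) Lrfl Lrfl
theorem f260483 : Led Lsl_ft (LP (LK LD1_c16 LD2_c16 LD3_c16)) = (LP (LK LD1_c8 LD2_c41 LD3_c12)) :=
  Lre_f IH (LK LD1_c16 LD2_c16 LD3_c16) (LK LD1_c8 LD2_c41 LD3_c12) Lrfl Lrfl
theorem f260548 : Led Lsl_et (LP (LK LD1_c8 LD2_c41 LD3_c12)) = (LP (LK LD1_c4 LD2_c21 LD3_c47)) :=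
  Lre_e IH (LK LD1_c8 LD2_c41 LD3_c12) (LK LD1_c4 LD2_c21 LD3_c47) Lrfl Lrfl
theorem f270409 : Led Lsl_ff (LP (LK LD1_c4 LD2_c53 LD3_c6)) = (LP (LK LD1_c4 LD2_c21 LD3_c47)) :=
  Lgr Lrot72 (Lpr_et (f229839 IH) (Lpr_ft (f229807 IH) (Lpr_et (f270403 IH) (Lpr_ft (f260483 IH) (Lpr_et (f260548 IH) (Lpn (LP (LK LD1_c4 LD2_c21 LD3_c47))))))))
theorem f270415 : Led Lsl_ft (LP (LK LD1_c4 LD2_c53 LD3_c6)) = (LP (LK LD1_c4 LD2_c21 LD3_c47)) :=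
  Lgr Lrot48 (Lpr_ff (f270409 IH) (Lpn (LP (LK LD1_c4 LD2_c21 LD3_c47))))
theorem f229454 : Led Lsl_dt (LP (LK LD1_c4 LD2_c53 LD3_c6)) = (LP (LK LD1_c9 LD2_c38 LD3_c11)) :=
  Lre_d IH (LK LD1_c4 LD2_c53 LD3_c6) (LK LD1_c9 LD2_c38 LD3_c11) Lrfl Lrfl
theorem f229455 : Led Lsl_ct (LP (LK LD1_c9 LD2_c38 LD3_c11)) = (LP (LK LD1_c17 LD2_c44 LD3_c4)) :=
  Lre_c IH (LK LD1_c9 LD2_c38 LD3_c11) (LK LD1_c17 LD2_c44 LD3_c4) Lrfl Lrfl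
theorem f229859 : Led Lsl_bt (LP (LK LD1_c9 LD2_c38 LD3_c11)) = (LP (LK LD1_c4 LD2_c53 LD3_c7)) :=
  Lre_b IH (LK LD1_c9 LD2_c38 LD3_c11) (LK LD1_c4 LD2_c53 LD3_c7) Lrfl Lrfl
theorem f229775 : Led Lsl_ct (LP (LK LD1_c17 LD2_c44 LD3_c4)) = (LP (LK LD1_c9 LD2_c38 LD3_c11)) :=
  Lre_c IH (LK LD1_c17 LD2_c44 LD3_c4) (LK LD1_c9 LD2_c38 LD3_c11) Lrfl Lrfl
theorem f179540 : Led Lsl_ct (LP (LK LD1_c2 LD2_c45 LD3_c39)) = (LP (LK LD1_c1 LD2_c19 LD3_c11)) :=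
  Lre_c IH (LK LD1_c2 LD2_c45 LD3_c39) (LK LD1_c1 LD2_c19 LD3_c11) Lrfl Lrfl
theorem f216307 : Led Lsl_bt (LP (LK LD1_c4 LD2_c54 LD3_c50)) = (LP (LK LD1_c9 LD2_c41 LD3_c8)) :=
  Lre_b IH (LK LD1_c4 LD2_c54 LD3_c50) (LK LD1_c9 LD2_c41 LD3_c8) Lrfl Lrfl
theorem f216308 : Led Lsl_gt (LP (LK LD1_c9 LD2_c41 LD3_c8)) = (LP (LK LD1_c17 LD2_c48 LD3_c56)) :=
  Lre_g IH (LK LD1_c9 LD2_c41 LD3_c8) (LK LD1_c17 LD2_c48 LD3_c56) Lrfl Lrfl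
theorem f238977 : Led Lsl_df (LP (LK LD1_c17 LD2_c44 LD3_c4)) = (LP (LK LD1_c17 LD2_c48 LD3_c56)) :=
  Lgr Lrot183 (Lpr_ct (f229775 IH) (Lpr_bt (f229859 IH) (Lpr_gt (K13.f238969 IH) (Lpr_dt (K13.f179541 IH) (Lpr_ct (f179540 IH) (Lpr_bt (K13.f179539 IH) (Lpe (K9.f179529 IH) (Lpr_dt (K9.f170286 IH) (Lpr_ct (K12.f8004 IH) (Lpr_bt (K9.f179538 IH) (Lpr_gt (K9.f180097 IH) (Lpe (K10.f52680 IH) (Lpr_ct (K10.f52678 IH) (Lpr_bt (K10.f52687 IH) (Lpr_gt (K12.f216296 IH) (Lpr_dt (K12.f214012 IH) (Lpr_ct (K13.f214025 IH) (Lpr_bt (f216307 IH) (Lpr_gt (f216308 IH) (Lpn (LP (LK LD1_c17 LD2_c48 LD3_c56))))))))))))))))))))))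
theorem f238980 : Led Lsl_dt (LP (LK LD1_c17 LD2_c44 LD3_c4)) = (LP (LK LD1_c17 LD2_c48 LD3_c56)) :=
  Lgr Lrot42 (Lpr_df (f238977 IH) (Lpn (LP (LK LD1_c17 LD2_c48 LD3_c56))))
theorem f224124 : Led Lsl_ct (LP (LK LD1_c17 LD2_c48 LD3_c56)) = (LP (LK LD1_c27 LD2_c35 LD3_c59)) :=
  Lre_c IH (LK LD1_c17 LD2_c48 LD3_c56) (LK LD1_c27 LD2_c35 LD3_c59) Lrfl Lrfl
theorem f260527 : Led Lsl_at (LP (LK LD1_c4 LD2_c21 LD3_c47)) = (LP (LK LD1_c8 LD2_c41 LD3_c10)) :=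
  Lre_a IH (LK LD1_c4 LD2_c21 LD3_c47) (LK LD1_c8 LD2_c41 LD3_c10) Lrfl Lrfl
theorem f607 : Led Lsl_et (LP (LK LD1_c2 LD2_c5 LD3_c27)) = (LP (LK LD1_c0 LD2_c59 LD3_c46)) :=
  Lre_e IH (LK LD1_c2 LD2_c5 LD3_c27) (LK LD1_c0 LD2_c59 LD3_c46) Lrfl Lrfl
theorem f260413 : Led Lsl_dt (LP (LK LD1_c4 LD2_c16 LD3_c10)) = (LP (LK LD1_c2 LD2_c5 LD3_c27)) :=
  Lre_d IH (LK LD1_c4 LD2_c16 LD3_c10) (LK LD1_c2 LD2_c5 LD3_c27) Lrfl Lrfl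
theorem f260414 : Led Lsl_ef (LP (LK LD1_c4 LD2_c16 LD3_c10)) = (LP (LK LD1_c2 LD2_c58 LD3_c61)) :=
  Lgr Lrot73 (Lpr_dt (f260413 IH) (Lpr_et (f607 IH) (Lpe (K14.f220546 IH) (Lpr_et (K12.f220560 IH) (Lpr_dt (K15.f260407 IH) (Lpn (LP (LK LD1_c2 LD2_c58 LD3_c61))))))))
theorem f260416 : Led Lsl_bt (LP (LK LD1_c4 LD2_c16 LD3_c10)) = (LP (LK LD1_c4 LD2_c21 LD3_c52)) :=
  Lgr Lrot119 (Lpr_ef (f260414 IH) (Lpe (K13.f192161 IH) (Lpe (K14.f227229 IH) (Lpn (LP (LK LD1_c4 LD2_c21 LD3_c52))))))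
theorem f608 : Led Lsl_dt (LP (LK LD1_c2 LD2_c5 LD3_c27)) = (LP (LK LD1_c4 LD2_c16 LD3_c10)) :=
  Lre_d IH (LK LD1_c2 LD2_c5 LD3_c27) (LK LD1_c4 LD2_c16 LD3_c10) Lrfl Lrfl
theorem f260433 : Led Lsl_bf (LP (LK LD1_c2 LD2_c5 LD3_c27)) = (LP (LK LD1_c2 LD2_c8 LD3_c25)) :=
  Lgr Lrot93 (Lpr_dt (f608 IH) (Lpr_bt (f260416 IH) (Lpr_dt (f43131 IH) (Lpn (LP (LK LD1_c2 LD2_c8 LD3_c25))))))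
theorem f260440 : Led Lsl_ft (LP (LK LD1_c2 LD2_c5 LD3_c27)) = (LP (LK LD1_c4 LD2_c16 LD3_c11)) :=
  Lre_f IH (LK LD1_c2 LD2_c5 LD3_c27) (LK LD1_c4 LD2_c16 LD3_c11) Lrfl Lrfl
theorem f260442 : Led Lsl_bt (LP (LK LD1_c4 LD2_c16 LD3_c11)) = (LP (LK LD1_c4 LD2_c21 LD3_c53)) :=
  Lgr Lrot35 (Lpe (f260440 IH) (Lpr_bf (f260433 IH) (Lpe (f260441 IH) (Lpn (LP (LK LD1_c4 LD2_c21 LD3_c53))))))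
theorem f260449 : Led Lsl_ct (LP (LK LD1_c8 LD2_c31 LD3_c23)) = (LP (LK LD1_c4 LD2_c16 LD3_c11)) :=
  Lre_c IH (LK LD1_c8 LD2_c31 LD3_c23) (LK LD1_c4 LD2_c16 LD3_c11) Lrfl Lrfl
theorem f260450 : Led Lsl_bt (LP (LK LD1_c15 LD2_c59 LD3_c54)) = (LP (LK LD1_c8 LD2_c31 LD3_c23)) :=
  Lre_b IH (LK LD1_c15 LD2_c59 LD3_c54) (LK LD1_c8 LD2_c31 LD3_c23) Lrfl Lrfl
theorem f260451 : Led Lsl_ct (LP (LK LD1_c4 LD2_c21 LD3_c53)) = (LP (LK LD1_c8 LD2_c41 LD3_c17)) :=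
  Lre_c IH (LK LD1_c4 LD2_c21 LD3_c53) (LK LD1_c8 LD2_c41 LD3_c17) Lrfl Lrfl
theorem f260452 : Led Lsl_bt (LP (LK LD1_c8 LD2_c41 LD3_c17)) = (LP (LK LD1_c16 LD2_c16 LD3_c16)) :=
  Lre_b IH (LK LD1_c8 LD2_c41 LD3_c17) (LK LD1_c16 LD2_c16 LD3_c16) Lrfl Lrfl
theorem f260453 : Led Lsl_cf (LP (LK LD1_c15 LD2_c59 LD3_c54)) = (LP (LK LD1_c16 LD2_c16 LD3_c16)) :=
  Lgr Lrot97 (Lpr_bt (f260450 IH) (Lpr_ct (f260449 IH) (Lpr_bt (f260442 IH) (Lpr_ct (f260451 IH) (Lpr_bt (f260452 IH) (Lpn (LP (LK LD1_c16 LD2_c16 LD3_c16))))))))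
theorem f260461 : Led Lsl_ct (LP (LK LD1_c15 LD2_c59 LD3_c54)) = (LP (LK LD1_c16 LD2_c16 LD3_c16)) :=
  Lgr Lrot59 (Lpr_cf (f260453 IH) (Lpn (LP (LK LD1_c16 LD2_c16 LD3_c16))))
theorem f260482 : Led Lsl_ft (LP (LK LD1_c8 LD2_c31 LD3_c16)) = (LP (LK LD1_c15 LD2_c59 LD3_c54)) :=
  Lre_f IH (LK LD1_c8 LD2_c31 LD3_c16) (LK LD1_c15 LD2_c59 LD3_c54) Lrfl Lrfl
theorem f260484 : Led Lsl_cf (LP (LK LD1_c8 LD2_c31 LD3_c16)) = (LP (LK LD1_c8 LD2_c41 LD3_c12)) :=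
  Lgr Lrot108 (Lpr_ft (f260482 IH) (Lpr_ct (f260461 IH) (Lpr_ft (f260483 IH) (Lpn (LP (LK LD1_c8 LD2_c41 LD3_c12))))))
theorem f260488 : Led Lsl_at (LP (LK LD1_c8 LD2_c31 LD3_c16)) = (LP (LK LD1_c15 LD2_c59 LD3_c46)) :=
  Lre_a IH (LK LD1_c8 LD2_c31 LD3_c16) (LK LD1_c15 LD2_c59 LD3_c46) Lrfl Lrfl
theorem f260489 : Led Lsl_at (LP (LK LD1_c16 LD2_c16 LD3_c10)) = (LP (LK LD1_c8 LD2_c41 LD3_c12)) :=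
  Lre_a IH (LK LD1_c16 LD2_c16 LD3_c10) (LK LD1_c8 LD2_c41 LD3_c12) Lrfl Lrfl
theorem f260490 : Led Lsl_ct (LP (LK LD1_c15 LD2_c59 LD3_c46)) = (LP (LK LD1_c16 LD2_c16 LD3_c10)) :=
  Lgr Lrot111 (Lpe (f260488 IH) (Lpr_cf (f260484 IH) (Lpe (f260489 IH) (Lpn (LP (LK LD1_c16 LD2_c16 LD3_c10))))))
theorem f260516 : Led Lsl_et (LP (LK LD1_c8 LD2_c31 LD3_c14)) = (LP (LK LD1_c15 LD2_c59 LD3_c46)) :=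
  Lre_e IH (LK LD1_c8 LD2_c31 LD3_c14) (LK LD1_c15 LD2_c59 LD3_c46) Lrfl Lrfl
theorem f260517 : Led Lsl_et (LP (LK LD1_c16 LD2_c16 LD3_c10)) = (LP (LK LD1_c8 LD2_c41 LD3_c10)) :=
  Lre_e IH (LK LD1_c16 LD2_c16 LD3_c10) (LK LD1_c8 LD2_c41 LD3_c10) Lrfl Lrfl
theorem f260518 : Led Lsl_cf (LP (LK LD1_c8 LD2_c31 LD3_c14)) = (LP (LK LD1_c8 LD2_c41 LD3_c10)) :=
  Lgr Lrot39 (Lpr_et (f260516 IH) (Lpr_ct (f260490 IH) (Lpr_et (f260517 IH) (Lpn (LP (LK LD1_c8 LD2_c41 LD3_c10))))))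
theorem f260528 : Led Lsl_ct (LP (LK LD1_c8 LD2_c31 LD3_c14)) = (LP (LK LD1_c8 LD2_c41 LD3_c10)) :=
  Lgr Lrot59 (Lpr_cf (f260518 IH) (Lpn (LP (LK LD1_c8 LD2_c41 LD3_c10))))
theorem f260535 : Led Lsl_dt (LP (LK LD1_c15 LD2_c59 LD3_c45)) = (LP (LK LD1_c8 LD2_c31 LD3_c14)) :=
  Lre_d IH (LK LD1_c15 LD2_c59 LD3_c45) (LK LD1_c8 LD2_c31 LD3_c14) Lrfl Lrfl
theorem f260536 : Led Lsl_ct (LP (LK LD1_c25 LD2_c56 LD3_c58)) = (LP (LK LD1_c15 LD2_c59 LD3_c45)) :=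
  Lre_c IH (LK LD1_c25 LD2_c56 LD3_c58) (LK LD1_c15 LD2_c59 LD3_c45) Lrfl Lrfl
theorem f270435 : Led Lsl_dt (LP (LK LD1_c27 LD2_c35 LD3_c59)) = (LP (LK LD1_c25 LD2_c56 LD3_c58)) :=
  Lgr Lrot140 (Lpe (f224124 IH) (Lpe (f238980 IH) (Lpe (f229455 IH) (Lpe (f229454 IH) (Lpr_ft (f270415 IH) (Lpr_at (f260527 IH) (Lpe (f260528 IH) (Lpe (f260535 IH) (Lpe (f260536 IH) (Lpn (LP (LK LD1_c25 LD2_c56 LD3_c58))))))))))))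
theorem f229770 : Led Lsl_ct (LP (LK LD1_c8 LD2_c29 LD3_c53)) = (LP (LK LD1_c4 LD2_c53 LD3_c6)) :=
  Lgr Lrot59 (Lpr_cf (f229764 IH) (Lpn (LP (LK LD1_c4 LD2_c53 LD3_c6))))
theorem f229781 : Led Lsl_dt (LP (LK LD1_c15 LD2_c57 LD3_c21)) = (LP (LK LD1_c8 LD2_c29 LD3_c53)) :=
  Lre_d IH (LK LD1_c15 LD2_c57 LD3_c21) (LK LD1_c8 LD2_c29 LD3_c53) Lrfl Lrfl
theorem f270439 : Led Lsl_at (LP (LK LD1_c8 LD2_c31 LD3_c15)) = (LP (LK LD1_c15 LD2_c59 LD3_c45)) :=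
  Lre_a IH (LK LD1_c8 LD2_c31 LD3_c15) (LK LD1_c15 LD2_c59 LD3_c45) Lrfl Lrfl
theorem f270440 : Led Lsl_ft (LP (LK LD1_c15 LD2_c57 LD3_c21)) = (LP (LK LD1_c8 LD2_c31 LD3_c15)) :=
  Lgr Lrot142 (Lpr_dt (f229781 IH) (Lpr_ct (f229770 IH) (Lpr_dt (f229454 IH) (Lpr_ct (f229455 IH) (Lpr_dt (f238980 IH) (Lpr_ct (f224124 IH) (Lpr_dt (f270435 IH) (Lpr_ct (f260536 IH) (Lpe (f270439 IH) (Lpn (LP (LK LD1_c8 LD2_c31 LD3_c15))))))))))))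
theorem f270450 : Led Lsl_ff (LP (LK LD1_c15 LD2_c57 LD3_c21)) = (LP (LK LD1_c8 LD2_c31 LD3_c15)) :=
  Lgr Lrot3 (Lpr_ft (f270440 IH) (Lpn (LP (LK LD1_c8 LD2_c31 LD3_c15))))
theorem f262892 : Led Lsl_bt (LP (LK LD1_c15 LD2_c57 LD3_c21)) = (LP (LK LD1_c8 LD2_c29 LD3_c54)) :=
  Lre_b IH (LK LD1_c15 LD2_c57 LD3_c21) (LK LD1_c8 LD2_c29 LD3_c54) Lrfl Lrfl
theorem f270456 : Led Lsl_bt (LP (LK LD1_c4 LD2_c16 LD3_c6)) = (LP (LK LD1_c8 LD2_c31 LD3_c15)) :=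
  Lre_b IH (LK LD1_c4 LD2_c16 LD3_c6) (LK LD1_c8 LD2_c31 LD3_c15) Lrfl Lrfl
theorem f270457 : Led Lsl_ft (LP (LK LD1_c8 LD2_c29 LD3_c54)) = (LP (LK LD1_c4 LD2_c16 LD3_c6)) :=
  Lgr Lrot75 (Lpe (f262892 IH) (Lpr_ff (f270450 IH) (Lpe (f270456 IH) (Lpn (LP (LK LD1_c4 LD2_c16 LD3_c6))))))
theorem f220551 : Led Lsl_dt (LP (LK LD1_c4 LD2_c16 LD3_c6)) = (LP (LK LD1_c2 LD2_c5 LD3_c26)) :=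
  Lre_d IH (LK LD1_c4 LD2_c16 LD3_c6) (LK LD1_c2 LD2_c5 LD3_c26) Lrfl Lrfl
theorem f270468 : Led Lsl_ff (LP (LK LD1_c4 LD2_c15 LD3_c29)) = (LP (LK LD1_c2 LD2_c5 LD3_c26)) :=
  Lgr Lrot19 (Lpr_dt (K15.f48240 IH) (Lpr_ft (f270457 IH) (Lpr_dt (f220551 IH) (Lpn (LP (LK LD1_c2 LD2_c5 LD3_c26))))))
theorem f270475 : Led Lsl_ft (LP (LK LD1_c4 LD2_c15 LD3_c29)) = (LP (LK LD1_c2 LD2_c5 LD3_c26)) :=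
  Lgr Lrot48 (Lpr_ff (f270468 IH) (Lpn (LP (LK LD1_c2 LD2_c5 LD3_c26))))
theorem f33435 : Led Lsl_ct (LP (LK LD1_c0 LD2_c34 LD3_c22)) = (LP (LK LD1_c1 LD2_c14 LD3_c6)) :=
  Lre_c IH (LK LD1_c0 LD2_c34 LD3_c22) (LK LD1_c1 LD2_c14 LD3_c6) Lrfl Lrfl
theorem f189093 : Led Lsl_gt (LP (LK LD1_c4 LD2_c15 LD3_c29)) = (LP (LK LD1_c5 LD2_c14 LD3_c54)) :=
  Lgr Lrot150 (Lpe (K15.f48239 IH) (Lpe (K10.f27367 IH) (Lpe (K10.f27362 IH) (Lpr_gt (K10.f27370 IH) (Lpe (K10.f187230 IH) (Lpr_gt (K10.f188919 IH) (Lpr_ct (f33435 IH) (Lpe (K12.f33446 IH) (Lpe (K12.f33442 IH) (Lpn (LP (LK LD1_c5 LD2_c14 LD3_c54))))))))))))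
theorem f222004 : Led Lsl_bt (LP (LK LD1_c2 LD2_c5 LD3_c6)) = (LP (LK LD1_c4 LD2_c15 LD3_c26)) :=
  Lre_b IH (LK LD1_c2 LD2_c5 LD3_c6) (LK LD1_c4 LD2_c15 LD3_c26) Lrfl Lrfl
theorem f257978 : Led Lsl_dt (LP (LK LD1_c2 LD2_c40 LD3_c61)) = (LP (LK LD1_c2 LD2_c5 LD3_c6)) :=
  Lgr Lrot79 (Lpr_bf (K15.f257949 IH) (Lpr_df (K15.f257976 IH) (Lpe (f222004 IH) (Lpn (LP (LK LD1_c2 LD2_c5 LD3_c6))))))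
theorem f52030 : Led Lsl_ct (LP (LK LD1_c4 LD2_c15 LD3_c27)) = (LP (LK LD1_c2 LD2_c5 LD3_c6)) :=
  Lre_c IH (LK LD1_c4 LD2_c15 LD3_c27) (LK LD1_c2 LD2_c5 LD3_c6) Lrfl Lrfl
theorem f167287 : Led Lsl_et (LP (LK LD1_c8 LD2_c32 LD3_c7)) = (LP (LK LD1_c4 LD2_c16 LD3_c26)) :=
  Lre_e IH (LK LD1_c8 LD2_c32 LD3_c7) (LK LD1_c4 LD2_c16 LD3_c26) Lrfl Lrfl
theorem f33325 : Led Lsl_et (LP (LK LD1_c2 LD2_c23 LD3_c17)) = (LP (LK LD1_c4 LD2_c50 LD3_c57)) :=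
  Lre_e IH (LK LD1_c2 LD2_c23 LD3_c17) (LK LD1_c4 LD2_c50 LD3_c57) Lrfl Lrfl
theorem f167288 : Led Lsl_bf (LP (LK LD1_c8 LD2_c32 LD3_c7)) = (LP (LK LD1_c4 LD2_c50 LD3_c57)) :=
  Lgr Lrot96 (Lpr_et (f167287 IH) (Lpr_bt (K9.f167277 IH) (Lpr_et (f33325 IH) (Lpn (LP (LK LD1_c4 LD2_c50 LD3_c57))))))
theorem f170418 : Led Lsl_bt (LP (LK LD1_c8 LD2_c32 LD3_c7)) = (LP (LK LD1_c4 LD2_c50 LD3_c57)) :=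
  Lgr Lrot127 (Lpr_bf (f167288 IH) (Lpn (LP (LK LD1_c4 LD2_c50 LD3_c57))))
theorem f33327 : Led Lsl_et (LP (LK LD1_c2 LD2_c28 LD3_c20)) = (LP (LK LD1_c1 LD2_c11 LD3_c22)) :=
  Lre_e IH (LK LD1_c2 LD2_c28 LD3_c20) (LK LD1_c1 LD2_c11 LD3_c22) Lrfl Lrfl
theorem f33328 : Led Lsl_dt (LP (LK LD1_c4 LD2_c50 LD3_c57)) = (LP (LK LD1_c2 LD2_c28 LD3_c20)) :=
  Lgr Lrot77 (Lpe (f33325 IH) (Lpr_df (K0.f33316 IH) (Lpe (K14.f33326 IH) (Lpe (K15.f3687 IH) (Lpe (f33327 IH) (Lpn (LP (LK LD1_c2 LD2_c28 LD3_c20))))))))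
theorem f170494 : Led Lsl_bt (LP (LK LD1_c2 LD2_c28 LD3_c20)) = (LP (LK LD1_c5 LD2_c0 LD3_c61)) :=
  Lre_b IH (LK LD1_c2 LD2_c28 LD3_c20) (LK LD1_c5 LD2_c0 LD3_c61) Lrfl Lrfl
theorem f170495 : Led Lsl_df (LP (LK LD1_c8 LD2_c32 LD3_c7)) = (LP (LK LD1_c5 LD2_c0 LD3_c61)) :=
  Lgr Lrot12 (Lpr_bt (f170418 IH) (Lpr_dt (f33328 IH) (Lpr_bt (f170494 IH) (Lpn (LP (LK LD1_c5 LD2_c0 LD3_c61))))))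
theorem f170503 : Led Lsl_et (LP (LK LD1_c2 LD2_c28 LD3_c13)) = (LP (LK LD1_c5 LD2_c0 LD3_c61)) :=
  Lre_e IH (LK LD1_c2 LD2_c28 LD3_c13) (LK LD1_c5 LD2_c0 LD3_c61) Lrfl Lrfl
theorem f170505 : Led Lsl_dt (LP (LK LD1_c4 LD2_c16 LD3_c26)) = (LP (LK LD1_c2 LD2_c28 LD3_c14)) :=
  Lgr Lrot77 (Lpe (f167287 IH) (Lpr_df (f170495 IH) (Lpe (f170503 IH) (Lpe (K10.f165865 IH) (Lpe (K10.f170504 IH) (Lpn (LP (LK LD1_c2 LD2_c28 LD3_c14))))))))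
theorem f33444 : Led Lsl_ct (LP (LK LD1_c2 LD2_c34 LD3_c16)) = (LP (LK LD1_c5 LD2_c14 LD3_c54)) :=
  Lre_c IH (LK LD1_c2 LD2_c34 LD3_c16) (LK LD1_c5 LD2_c14 LD3_c54) Lrfl Lrfl
theorem f263682 : Led Lsl_gf (LP (LK LD1_c4 LD2_c15 LD3_c27)) = (LP (LK LD1_c5 LD2_c14 LD3_c54)) :=
  Lgr Lrot104 (Lpr_ct (f52030 IH) (Lpe (f257978 IH) (Lpr_cf (K15.f261441 IH) (Lpe (K15.f261448 IH) (Lpe (K15.f261399 IH) (Lpr_gf (K15.f263680 IH) (Lpe (f170505 IH) (Lpr_gt (K10.f184123 IH) (Lpr_ct (f33444 IH) (Lpn (LP (LK LD1_c5 LD2_c14 LD3_c54))))))))))))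
theorem f270482 : Led Lsl_af (LP (LK LD1_c4 LD2_c15 LD3_c27)) = (LP (LK LD1_c2 LD2_c5 LD3_c26)) :=
  Lgr Lrot31 (Lpr_gf (f263682 IH) (Lpe (f189093 IH) (Lpr_ft (f270475 IH) (Lpn (LP (LK LD1_c2 LD2_c5 LD3_c26))))))
theorem f270492 : Led Lsl_et (LP (LK LD1_c4 LD2_c15 LD3_c27)) = (LP (LK LD1_c8 LD2_c29 LD3_c50)) :=
  Lre_e IH (LK LD1_c4 LD2_c15 LD3_c27) (LK LD1_c8 LD2_c29 LD3_c50) Lrfl Lrfl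
theorem f243572 : Led Lsl_et (LP (LK LD1_c4 LD2_c16 LD3_c7)) = (LP (LK LD1_c2 LD2_c5 LD3_c26)) :=
  Lre_e IH (LK LD1_c4 LD2_c16 LD3_c7) (LK LD1_c2 LD2_c5 LD3_c26) Lrfl Lrfl
theorem f270493 : Led Lsl_at (LP (LK LD1_c8 LD2_c29 LD3_c50)) = (LP (LK LD1_c4 LD2_c16 LD3_c7)) :=
  Lgr Lrot80 (Lpe (f270492 IH) (Lpr_af (f270482 IH) (Lpe (f243572 IH) (Lpn (LP (LK LD1_c4 LD2_c16 LD3_c7))))))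
theorem f270499 : Led Lsl_ft (LP (LK LD1_c15 LD2_c57 LD3_c16)) = (LP (LK LD1_c8 LD2_c29 LD3_c50)) :=
  Lre_f IH (LK LD1_c15 LD2_c57 LD3_c16) (LK LD1_c8 LD2_c29 LD3_c50) Lrfl Lrfl
theorem f270479 : Led Lsl_ft (LP (LK LD1_c4 LD2_c16 LD3_c7)) = (LP (LK LD1_c8 LD2_c31 LD3_c23)) :=
  Lre_f IH (LK LD1_c4 LD2_c16 LD3_c7) (LK LD1_c8 LD2_c31 LD3_c23) Lrfl Lrfl
theorem f270500 : Led Lsl_af (LP (LK LD1_c15 LD2_c57 LD3_c16)) = (LP (LK LD1_c8 LD2_c31 LD3_c23)) :=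
  Lgr Lrot45 (Lpr_ft (f270499 IH) (Lpr_at (f270493 IH) (Lpr_ft (f270479 IH) (Lpn (LP (LK LD1_c8 LD2_c31 LD3_c23))))))
theorem f270504 : Led Lsl_ct (LP (LK LD1_c15 LD2_c57 LD3_c16)) = (LP (LK LD1_c8 LD2_c29 LD3_c52)) :=
  Lre_c IH (LK LD1_c15 LD2_c57 LD3_c16) (LK LD1_c8 LD2_c29 LD3_c52) Lrfl Lrfl
theorem f260456 : Led Lsl_ct (LP (LK LD1_c4 LD2_c16 LD3_c11)) = (LP (LK LD1_c8 LD2_c31 LD3_c23)) :=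
  Lre_c IH (LK LD1_c4 LD2_c16 LD3_c11) (LK LD1_c8 LD2_c31 LD3_c23) Lrfl Lrfl
theorem f270510 : Led Lsl_at (LP (LK LD1_c8 LD2_c29 LD3_c52)) = (LP (LK LD1_c4 LD2_c16 LD3_c11)) :=
  Lgr Lrot107 (Lpe (f270504 IH) (Lpr_af (f270500 IH) (Lpe (f260456 IH) (Lpn (LP (LK LD1_c4 LD2_c16 LD3_c11))))))
theorem f270517 : Led Lsl_bt (LP (LK LD1_c15 LD2_c57 LD3_c6)) = (LP (LK LD1_c8 LD2_c29 LD3_c52)) :=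
  Lre_b IH (LK LD1_c15 LD2_c57 LD3_c6) (LK LD1_c8 LD2_c29 LD3_c52) Lrfl Lrfl
theorem f269886 : Led Lsl_bt (LP (LK LD1_c7 LD2_c55 LD3_c47)) = (LP (LK LD1_c14 LD2_c57 LD3_c25)) :=
  Lre_b IH (LK LD1_c7 LD2_c55 LD3_c47) (LK LD1_c14 LD2_c57 LD3_c25) Lrfl Lrfl
theorem f270518 : Led Lsl_af (LP (LK LD1_c15 LD2_c57 LD3_c6)) = (LP (LK LD1_c14 LD2_c57 LD3_c25)) :=
  Lgr Lrot36 (Lpr_bt (f270517 IH) (Lpr_at (f270510 IH) (Lpr_bt (f260442 IH) (Lpr_at (f269878 IH) (Lpr_bt (f269886 IH) (Lpn (LP (LK LD1_c14 LD2_c57 LD3_c25))))))))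
theorem f222038 : Led Lsl_ft (LP (LK LD1_c15 LD2_c57 LD3_c6)) = (LP (LK LD1_c8 LD2_c29 LD3_c46)) :=
  Lre_f IH (LK LD1_c15 LD2_c57 LD3_c6) (LK LD1_c8 LD2_c29 LD3_c46) Lrfl Lrfl
theorem f269887 : Led Lsl_ft (LP (LK LD1_c7 LD2_c55 LD3_c44)) = (LP (LK LD1_c14 LD2_c57 LD3_c25)) :=
  Lre_f IH (LK LD1_c7 LD2_c55 LD3_c44) (LK LD1_c14 LD2_c57 LD3_c25) Lrfl Lrfl
theorem f270522 : Led Lsl_at (LP (LK LD1_c8 LD2_c29 LD3_c46)) = (LP (LK LD1_c7 LD2_c55 LD3_c44)) :=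
  Lgr Lrot66 (Lpe (f222038 IH) (Lpr_af (f270518 IH) (Lpe (f269887 IH) (Lpn (LP (LK LD1_c7 LD2_c55 LD3_c44))))))
theorem f222037 : Led Lsl_et (LP (LK LD1_c4 LD2_c15 LD3_c26)) = (LP (LK LD1_c8 LD2_c29 LD3_c46)) :=
  Lre_e IH (LK LD1_c4 LD2_c15 LD3_c26) (LK LD1_c8 LD2_c29 LD3_c46) Lrfl Lrfl
theorem f232879 : Led Lsl_et (LP (LK LD1_c7 LD2_c55 LD3_c44)) = (LP (LK LD1_c3 LD2_c57 LD3_c2)) :=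
  Lre_e IH (LK LD1_c7 LD2_c55 LD3_c44) (LK LD1_c3 LD2_c57 LD3_c2) Lrfl Lrfl
theorem f270529 : Led Lsl_af (LP (LK LD1_c4 LD2_c15 LD3_c26)) = (LP (LK LD1_c3 LD2_c57 LD3_c2)) :=
  Lgr Lrot50 (Lpr_et (f222037 IH) (Lpr_at (f270522 IH) (Lpr_et (f232879 IH) (Lpn (LP (LK LD1_c3 LD2_c57 LD3_c2))))))
theorem f222015 : Led Lsl_dt (LP (LK LD1_c15 LD2_c27 LD3_c15)) = (LP (LK LD1_c8 LD2_c12 LD3_c58)) :=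
  Lre_d IH (LK LD1_c15 LD2_c27 LD3_c15) (LK LD1_c8 LD2_c12 LD3_c58) Lrfl Lrfl
theorem f43210 : Led Lsl_bt (LP (LK LD1_c3 LD2_c57 LD3_c2)) = (LP (LK LD1_c1 LD2_c55 LD3_c17)) :=
  Lre_b IH (LK LD1_c3 LD2_c57 LD3_c2) (LK LD1_c1 LD2_c55 LD3_c17) Lrfl Lrfl
theorem f269860 : Led Lsl_ft (LP (LK LD1_c2 LD2_c8 LD3_c26)) = (LP (LK LD1_c3 LD2_c57 LD3_c2)) :=
  Lgr Lrot75 (Lpe (K12.f216720 IH) (Lpr_ff (f269858 IH) (Lpe (f43210 IH) (Lpn (LP (LK LD1_c3 LD2_c57 LD3_c2))))))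
theorem f186943 : Led Lsl_dt (LP (LK LD1_c4 LD2_c52 LD3_c60)) = (LP (LK LD1_c9 LD2_c37 LD3_c53)) :=
  Lre_d IH (LK LD1_c4 LD2_c52 LD3_c60) (LK LD1_c9 LD2_c37 LD3_c53) Lrfl Lrfl
theorem f270539 : Led Lsl_cf (LP (LK LD1_c15 LD2_c27 LD3_c15)) = (LP (LK LD1_c9 LD2_c37 LD3_c53)) :=
  Lgr Lrot161 (Lpr_dt (f222015 IH) (Lpe (K15.f222009 IH) (Lpr_af (f270529 IH) (Lpe (f269860 IH) (Lpe (K14.f216740 IH) (Lpr_ct (K14.f256011 IH) (Lpr_dt (K14.f256017 IH) (Lpr_ct (K12.f30685 IH) (Lpr_dt (f186943 IH) (Lpn (LP (LK LD1_c9 LD2_c37 LD3_c53))))))))))))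
theorem f53947 : Led Lsl_dt (LP (LK LD1_c8 LD2_c12 LD3_c58)) = (LP (LK LD1_c15 LD2_c27 LD3_c15)) :=
  Lre_d IH (LK LD1_c8 LD2_c12 LD3_c58) (LK LD1_c15 LD2_c27 LD3_c15) Lrfl Lrfl
theorem f246687 : Led Lsl_dt (LP (LK LD1_c4 LD2_c21 LD3_c39)) = (LP (LK LD1_c8 LD2_c40 LD3_c54)) :=
  Lre_d IH (LK LD1_c4 LD2_c21 LD3_c39) (LK LD1_c8 LD2_c40 LD3_c54) Lrfl Lrfl
theorem f246688 : Led Lsl_gf (LP (LK LD1_c8 LD2_c12 LD3_c60)) = (LP (LK LD1_c8 LD2_c40 LD3_c54)) :=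
  Lgr Lrot143 (Lpr_dt (K12.f53776 IH) (Lpe (K12.f53771 IH) (Lpe (K10.f53809 IH) (Lpe (K14.f222155 IH) (Lpe (K15.f184317 IH) (Lpe (K14.f178351 IH) (Lpe (K15.f220088 IH) (Lpr_gt (K14.f246682 IH) (Lpr_dt (f246687 IH) (Lpn (LP (LK LD1_c8 LD2_c40 LD3_c54))))))))))))
theorem f187018 : Led Lsl_dt (LP (LK LD1_c4 LD2_c10 LD3_c37)) = (LP (LK LD1_c8 LD2_c21 LD3_c13)) :=
  Lre_d IH (LK LD1_c4 LD2_c10 LD3_c37) (LK LD1_c8 LD2_c21 LD3_c13) Lrfl Lrfl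
theorem f232791 : Led Lsl_af (LP (LK LD1_c8 LD2_c32 LD3_c42)) = (LP (LK LD1_c8 LD2_c21 LD3_c13)) :=
  Lgr Lrot117 (Lpr_dt (K15.f232233 IH) (Lpr_at (K13.f232780 IH) (Lpr_dt (f187018 IH) (Lpn (LP (LK LD1_c8 LD2_c21 LD3_c13))))))
theorem f199933 : Led Lsl_dt (LP (LK LD1_c8 LD2_c21 LD3_c13)) = (LP (LK LD1_c4 LD2_c10 LD3_c37)) :=
  Lre_d IH (LK LD1_c8 LD2_c21 LD3_c13) (LK LD1_c4 LD2_c10 LD3_c37) Lrfl Lrfl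
theorem f199934 : Led Lsl_ff (LP (LK LD1_c8 LD2_c21 LD3_c13)) = (LP (LK LD1_c6 LD2_c4 LD3_c22)) :=
  Lgr Lrot19 (Lpr_dt (f199933 IH) (Lpr_ft (K11.f199928 IH) (Lpr_dt (K9.f29056 IH) (Lpn (LP (LK LD1_c6 LD2_c4 LD3_c22))))))
theorem f42680 : Led Lsl_gt (LP (LK LD1_c6 LD2_c4 LD3_c22)) = (LP (LK LD1_c11 LD2_c52 LD3_c10)) :=
  Lre_g IH (LK LD1_c6 LD2_c4 LD3_c22) (LK LD1_c11 LD2_c52 LD3_c10) Lrfl Lrfl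
theorem f232822 : Led Lsl_gf (LP (LK LD1_c8 LD2_c32 LD3_c42)) = (LP (LK LD1_c11 LD2_c52 LD3_c10)) :=
  Lgr Lrot76 (Lpr_af (f232791 IH) (Lpr_ff (f199934 IH) (Lpr_gt (f42680 IH) (Lpn (LP (LK LD1_c11 LD2_c52 LD3_c10))))))
theorem f270545 : Led Lsl_ct (LP (LK LD1_c8 LD2_c40 LD3_c54)) = (LP (LK LD1_c11 LD2_c52 LD3_c10)) :=
  Lgr Lrot8 (Lpe (f246688 IH) (Lpr_dt (K12.f53776 IH) (Lpr_gt (K15.f53944 IH) (Lpr_dt (f53947 IH) (Lpr_cf (f270539 IH) (Lpe (f186943 IH) (Lpe (K14.f232843 IH) (Lpe (K15.f232233 IH) (Lpr_gf (f232822 IH) (Lpn (LP (LK LD1_c11 LD2_c52 LD3_c10))))))))))))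
theorem f270548 : Led Lsl_cf (LP (LK LD1_c8 LD2_c40 LD3_c54)) = (LP (LK LD1_c11 LD2_c52 LD3_c10)) :=
  Lgr Lrot11 (Lpr_ct (f270545 IH) (Lpn (LP (LK LD1_c11 LD2_c52 LD3_c10))))
theorem f211427 : Led Lsl_dt (LP (LK LD1_c8 LD2_c40 LD3_c54)) = (LP (LK LD1_c4 LD2_c21 LD3_c39)) :=
  Lre_d IH (LK LD1_c8 LD2_c40 LD3_c54) (LK LD1_c4 LD2_c21 LD3_c39) Lrfl Lrfl
theorem f184506 : Led Lsl_et (LP (LK LD1_c2 LD2_c5 LD3_c46)) = (LP (LK LD1_c2 LD2_c37 LD3_c0)) :=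
  Lgr Lrot87 (Lpr_ef (K14.f184233 IH) (Lpn (LP (LK LD1_c2 LD2_c37 LD3_c0))))
theorem f258313 : Led Lsl_gf (LP (LK LD1_c1 LD2_c15 LD3_c30)) = (LP (LK LD1_c1 LD2_c9 LD3_c11)) :=
  Lgr Lrot138 (Lpe (K14.f184244 IH) (Lpe (K15.f258310 IH) (Lpe (K14.f251889 IH) (Lpr_et (K15.f251896 IH) (Lpr_gt (K15.f258300 IH) (Lpe (f184506 IH) (Lpe (K15.f258061 IH) (Lpr_gt (K15.f186799 IH) (Lpe (K14.f190319 IH) (Lpr_et (K14.f200145 IH) (Lpn (LP (LK LD1_c1 LD2_c9 LD3_c11)))))))))))))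
theorem f250775 : Led Lsl_gt (LP (LK LD1_c2 LD2_c6 LD3_c41)) = (LP (LK LD1_c4 LD2_c18 LD3_c47)) :=
  Lre_g IH (LK LD1_c2 LD2_c6 LD3_c41) (LK LD1_c4 LD2_c18 LD3_c47) Lrfl Lrfl
theorem f258318 : Led Lsl_cf (LP (LK LD1_c4 LD2_c21 LD3_c38)) = (LP (LK LD1_c4 LD2_c18 LD3_c47)) :=
  Lgr Lrot99 (Lpr_df (K14.f251038 IH) (Lpe (K15.f169152 IH) (Lpr_gf (f258313 IH) (Lpe (K11.f200140 IH) (Lpe (K14.f166626 IH) (Lpr_df (K14.f251687 IH) (Lpr_gt (K14.f171508 IH) (Lpr_ct (K14.f179731 IH) (Lpr_gt (f250775 IH) (Lpn (LP (LK LD1_c4 LD2_c18 LD3_c47))))))))))))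
theorem f179751 : Led Lsl_dt (LP (LK LD1_c2 LD2_c6 LD3_c41)) = (LP (LK LD1_c4 LD2_c18 LD3_c50)) :=
  Lre_d IH (LK LD1_c2 LD2_c6 LD3_c41) (LK LD1_c4 LD2_c18 LD3_c50) Lrfl Lrfl
theorem f179752 : Led Lsl_gt (LP (LK LD1_c4 LD2_c18 LD3_c50)) = (LP (LK LD1_c8 LD2_c36 LD3_c20)) :=
  Lre_g IH (LK LD1_c4 LD2_c18 LD3_c50) (LK LD1_c8 LD2_c36 LD3_c20) Lrfl Lrfl
theorem f270556 : Led Lsl_ct (LP (LK LD1_c8 LD2_c36 LD3_c20)) = (LP (LK LD1_c6 LD2_c4 LD3_c22)) :=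
  Lgr Lrot152 (Lpe (f179752 IH) (Lpe (f179751 IH) (Lpr_gt (f250775 IH) (Lpe (f258318 IH) (Lpr_gt (K14.f187075 IH) (Lpr_ct (K14.f232256 IH) (Lpe (f211427 IH) (Lpr_cf (f270548 IH) (Lpe (f42680 IH) (Lpn (LP (LK LD1_c6 LD2_c4 LD3_c22))))))))))))
theorem f53732 : Led Lsl_bt (LP (LK LD1_c1 LD2_c14 LD3_c42)) = (LP (LK LD1_c0 LD2_c57 LD3_c12)) :=
  Lgr Lrot127 (Lpr_bf (K10.f53728 IH) (Lpn (LP (LK LD1_c0 LD2_c57 LD3_c12))))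
theorem f232207 : Led Lsl_gt (LP (LK LD1_c0 LD2_c57 LD3_c12)) = (LP (LK LD1_c0 LD2_c27 LD3_c23)) :=
  Lgr Lrot82 (Lpe (f53732 IH) (Lpe (K10.f44933 IH) (Lpe (K14.f223069 IH) (Lpr_cf (K12.f228025 IH) (Lpr_bt (K12.f171177 IH) (Lpr_gf (K13.f232156 IH) (Lpe (K13.f232205 IH) (Lpr_ct (K13.f187073 IH) (Lpe (K13.f167313 IH) (Lpe (K10.f187019 IH) (Lpn (LP (LK LD1_c0 LD2_c27 LD3_c23)))))))))))))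
theorem f222092 : Led Lsl_gt (LP (LK LD1_c2 LD2_c23 LD3_c50)) = (LP (LK LD1_c4 LD2_c52 LD3_c8)) :=
  Lre_g IH (LK LD1_c2 LD2_c23 LD3_c50) (LK LD1_c4 LD2_c52 LD3_c8) Lrfl Lrfl
theorem f232212 : Led Lsl_ct (LP (LK LD1_c4 LD2_c52 LD3_c8)) = (LP (LK LD1_c4 LD2_c16 LD3_c41)) :=
  Lgr Lrot110 (Lpe (f222092 IH) (Lpe (K14.f2877 IH) (Lpr_gf (K14.f222089 IH) (Lpe (K12.f44500 IH) (Lpr_gt (f232207 IH) (Lpr_ct (K10.f187019 IH) (Lpr_gt (K13.f167313 IH) (Lpr_ct (K13.f167314 IH) (Lpe (K13.f187068 IH) (Lpn (LP (LK LD1_c4 LD2_c16 LD3_c41))))))))))))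
theorem f232216 : Led Lsl_cf (LP (LK LD1_c4 LD2_c52 LD3_c8)) = (LP (LK LD1_c4 LD2_c16 LD3_c41)) :=
  Lgr Lrot11 (Lpr_ct (f232212 IH) (Lpn (LP (LK LD1_c4 LD2_c16 LD3_c41))))
theorem f270564 : Led Lsl_df (LP (LK LD1_c8 LD2_c36 LD3_c20)) = (LP (LK LD1_c4 LD2_c52 LD3_c8)) :=
  Lgr Lrot177 (Lpr_ct (f270556 IH) (Lpe (K15.f42054 IH) (Lpe (K15.f232802 IH) (Lpr_dt (K15.f232233 IH) (Lpr_ct (K15.f232232 IH) (Lpr_dt (K13.f184452 IH) (Lpr_ct (K13.f167314 IH) (Lpr_dt (K13.f187070 IH) (Lpe (f232216 IH) (Lpn (LP (LK LD1_c4 LD2_c52 LD3_c8))))))))))))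
theorem f2208 : Led Lsl_bt (LP (LK LD1_c0 LD2_c31 LD3_c29)) = (LP (LK LD1_c0 LD2_c13 LD3_c60)) :=
  Lre_b IH (LK LD1_c0 LD2_c31 LD3_c29) (LK LD1_c0 LD2_c13 LD3_c60) Lrfl Lrfl
theorem f232398 : Led Lsl_bt (LP (LK LD1_c4 LD2_c16 LD3_c41)) = (LP (LK LD1_c2 LD2_c8 LD3_c14)) :=
  Lgr Lrot130 (Lpe (f232216 IH) (Lpe (f222092 IH) (Lpe (K14.f2877 IH) (Lpr_bt (K14.f2874 IH) (Lpe (K9.f2798 IH) (Lpe (f2208 IH) (Lpr_ct (K12.f1921 IH) (Lpe (K13.f1928 IH) (Lpe (K13.f232396 IH) (Lpr_gf (K13.f232392 IH) (Lpn (LP (LK LD1_c2 LD2_c8 LD3_c14)))))))))))))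
theorem f232231 : Led Lsl_et (LP (LK LD1_c8 LD2_c32 LD3_c40)) = (LP (LK LD1_c4 LD2_c16 LD3_c41)) :=
  Lre_e IH (LK LD1_c8 LD2_c32 LD3_c40) (LK LD1_c4 LD2_c16 LD3_c41) Lrfl Lrfl
theorem f232408 : Led Lsl_bf (LP (LK LD1_c8 LD2_c32 LD3_c40)) = (LP (LK LD1_c4 LD2_c21 LD3_c28)) :=
  Lgr Lrot96 (Lpr_et (f232231 IH) (Lpr_bt (f232398 IH) (Lpr_et (K13.f39116 IH) (Lpn (LP (LK LD1_c4 LD2_c21 LD3_c28))))))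
theorem f39119 : Led Lsl_bt (LP (LK LD1_c4 LD2_c21 LD3_c17)) = (LP (LK LD1_c2 LD2_c8 LD3_c34)) :=
  Lre_b IH (LK LD1_c4 LD2_c21 LD3_c17) (LK LD1_c2 LD2_c8 LD3_c34) Lrfl Lrfl
theorem f232417 : Led Lsl_ft (LP (LK LD1_c8 LD2_c32 LD3_c40)) = (LP (LK LD1_c4 LD2_c21 LD3_c17)) :=
  Lgr Lrot75 (Lpr_bf (f232408 IH) (Lpe (K13.f39144 IH) (Lpe (f39119 IH) (Lpn (LP (LK LD1_c4 LD2_c21 LD3_c17))))))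
theorem f232410 : Led Lsl_bt (LP (LK LD1_c8 LD2_c32 LD3_c40)) = (LP (LK LD1_c4 LD2_c21 LD3_c28)) :=
  Lgr Lrot127 (Lpr_bf (f232408 IH) (Lpn (LP (LK LD1_c4 LD2_c21 LD3_c28))))
theorem f232415 : Led Lsl_dt (LP (LK LD1_c8 LD2_c32 LD3_c40)) = (LP (LK LD1_c8 LD2_c32 LD3_c40)) :=
  Lgr Lrot79 (Lpr_bf (f232408 IH) (Lpe (K13.f42924 IH) (Lpe (f232410 IH) (Lpn (LP (LK LD1_c8 LD2_c32 LD3_c40))))))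
theorem f39135 : Led Lsl_bt (LP (LK LD1_c2 LD2_c8 LD3_c34)) = (LP (LK LD1_c4 LD2_c21 LD3_c17)) :=
  Lre_b IH (LK LD1_c2 LD2_c8 LD3_c34) (LK LD1_c4 LD2_c21 LD3_c17) Lrfl Lrfl
theorem f43064 : Led Lsl_dt (LP (LK LD1_c4 LD2_c21 LD3_c17)) = (LP (LK LD1_c4 LD2_c21 LD3_c17)) :=
  Lgr Lrot79 (Lpe (f39135 IH) (Lpr_df (K13.f42908 IH) (Lpe (f39119 IH) (Lpn (LP (LK LD1_c4 LD2_c21 LD3_c17))))))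
theorem f232421 : Led Lsl_ff (LP (LK LD1_c8 LD2_c32 LD3_c40)) = (LP (LK LD1_c4 LD2_c21 LD3_c17)) :=
  Lgr Lrot19 (Lpr_dt (f232415 IH) (Lpr_ft (f232417 IH) (Lpr_dt (f43064 IH) (Lpn (LP (LK LD1_c4 LD2_c21 LD3_c17))))))
theorem f232219 : Led Lsl_et (LP (LK LD1_c9 LD2_c36 LD3_c40)) = (LP (LK LD1_c4 LD2_c52 LD3_c8)) :=
  Lre_e IH (LK LD1_c9 LD2_c36 LD3_c40) (LK LD1_c4 LD2_c52 LD3_c8) Lrfl Lrfl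
theorem f232220 : Led Lsl_et (LP (LK LD1_c4 LD2_c16 LD3_c41)) = (LP (LK LD1_c8 LD2_c32 LD3_c40)) :=
  Lre_e IH (LK LD1_c4 LD2_c16 LD3_c41) (LK LD1_c8 LD2_c32 LD3_c40) Lrfl Lrfl
theorem f232221 : Led Lsl_cf (LP (LK LD1_c9 LD2_c36 LD3_c40)) = (LP (LK LD1_c8 LD2_c32 LD3_c40)) :=
  Lgr Lrot39 (Lpr_et (f232219 IH) (Lpr_ct (f232212 IH) (Lpr_et (f232220 IH) (Lpn (LP (LK LD1_c8 LD2_c32 LD3_c40))))))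
theorem f43072 : Led Lsl_ct (LP (LK LD1_c8 LD2_c40 LD3_c12)) = (LP (LK LD1_c4 LD2_c21 LD3_c17)) :=
  Lre_c IH (LK LD1_c8 LD2_c40 LD3_c12) (LK LD1_c4 LD2_c21 LD3_c17) Lrfl Lrfl
theorem f232423 : Led Lsl_ft (LP (LK LD1_c9 LD2_c36 LD3_c40)) = (LP (LK LD1_c8 LD2_c40 LD3_c12)) :=
  Lgr Lrot4 (Lpr_cf (f232221 IH) (Lpr_ff (f232421 IH) (Lpe (f43072 IH) (Lpn (LP (LK LD1_c8 LD2_c40 LD3_c12))))))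
theorem f232230 : Led Lsl_et (LP (LK LD1_c4 LD2_c52 LD3_c8)) = (LP (LK LD1_c9 LD2_c36 LD3_c40)) :=
  Lre_e IH (LK LD1_c4 LD2_c52 LD3_c8) (LK LD1_c9 LD2_c36 LD3_c40) Lrfl Lrfl
theorem f232425 : Led Lsl_et (LP (LK LD1_c8 LD2_c40 LD3_c12)) = (LP (LK LD1_c4 LD2_c21 LD3_c16)) :=
  Lre_e IH (LK LD1_c8 LD2_c40 LD3_c12) (LK LD1_c4 LD2_c21 LD3_c16) Lrfl Lrfl
theorem f232427 : Led Lsl_et (LP (LK LD1_c2 LD2_c8 LD3_c8)) = (LP (LK LD1_c4 LD2_c21 LD3_c3)) :=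
  Lre_e IH (LK LD1_c2 LD2_c8 LD3_c8) (LK LD1_c4 LD2_c21 LD3_c3) Lrfl Lrfl
theorem f232428 : Led Lsl_ff (LP (LK LD1_c4 LD2_c52 LD3_c8)) = (LP (LK LD1_c4 LD2_c21 LD3_c3)) :=
  Lgr Lrot72 (Lpr_et (f232230 IH) (Lpr_ft (f232423 IH) (Lpr_et (f232425 IH) (Lpr_ft (K15.f232426 IH) (Lpr_et (f232427 IH) (Lpn (LP (LK LD1_c4 LD2_c21 LD3_c3))))))))
theorem f232433 : Led Lsl_ft (LP (LK LD1_c4 LD2_c52 LD3_c8)) = (LP (LK LD1_c4 LD2_c21 LD3_c3)) :=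
  Lgr Lrot48 (Lpr_ff (f232428 IH) (Lpn (LP (LK LD1_c4 LD2_c21 LD3_c3))))
theorem f270566 : Led Lsl_at (LP (LK LD1_c4 LD2_c21 LD3_c3)) = (LP (LK LD1_c4 LD2_c52 LD3_c9)) :=
  Lgr Lrot33 (Lpe (f232433 IH) (Lpe (f270564 IH) (Lpr_ct (f270556 IH) (Lpr_dt (K15.f29052 IH) (Lpr_ct (K9.f29051 IH) (Lpr_dt (K9.f29050 IH) (Lpr_ct (K0.f29046 IH) (Lpr_dt (K12.f29040 IH) (Lpr_ct (K14.f200135 IH) (Lpn (LP (LK LD1_c4 LD2_c52 LD3_c9))))))))))))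
theorem f270570 : Led Lsl_af (LP (LK LD1_c4 LD2_c21 LD3_c3)) = (LP (LK LD1_c4 LD2_c52 LD3_c9)) :=
  Lgr Lrot0 (Lpr_at (f270566 IH) (Lpn (LP (LK LD1_c4 LD2_c52 LD3_c9))))
theorem f2860 : Led Lsl_ct (LP (LK LD1_c1 LD2_c9 LD3_c24)) = (LP (LK LD1_c2 LD2_c24 LD3_c34)) :=
  Lre_c IH (LK LD1_c1 LD2_c9 LD3_c24) (LK LD1_c2 LD2_c24 LD3_c34) Lrfl Lrfl
theorem f29019 : Led Lsl_ct (LP (LK LD1_c4 LD2_c21 LD3_c3)) = (LP (LK LD1_c2 LD2_c8 LD3_c3)) :=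
  Lre_c IH (LK LD1_c4 LD2_c21 LD3_c3) (LK LD1_c2 LD2_c8 LD3_c3) Lrfl Lrfl
theorem f228924 : Led Lsl_gt (LP (LK LD1_c2 LD2_c24 LD3_c34)) = (LP (LK LD1_c4 LD2_c21 LD3_c3)) :=
  Lgr Lrot150 (Lpe (f2860 IH) (Lpe (K12.f167244 IH) (Lpe (K12.f167247 IH) (Lpr_gt (K12.f167250 IH) (Lpr_ct (K12.f228891 IH) (Lpr_gt (K10.f187015 IH) (Lpe (K0.f29007 IH) (Lpe (K13.f29018 IH) (Lpe (f29019 IH) (Lpn (LP (LK LD1_c4 LD2_c21 LD3_c3))))))))))))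
theorem f166635 : Led Lsl_gt (LP (LK LD1_c4 LD2_c53 LD3_c31)) = (LP (LK LD1_c2 LD2_c24 LD3_c34)) :=
  Lre_g IH (LK LD1_c4 LD2_c53 LD3_c31) (LK LD1_c2 LD2_c24 LD3_c34) Lrfl Lrfl
theorem f270643 : Led Lsl_ft (LP (LK LD1_c4 LD2_c53 LD3_c31)) = (LP (LK LD1_c4 LD2_c52 LD3_c9)) :=
  Lgr Lrot2 (Lpr_gt (f166635 IH) (Lpr_gt (f228924 IH) (Lpr_af (f270570 IH) (Lpn (LP (LK LD1_c4 LD2_c52 LD3_c9))))))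
theorem f270645 : Led Lsl_af (LP (LK LD1_c4 LD2_c53 LD3_c31)) = (LP (LK LD1_c4 LD2_c52 LD3_c8)) :=
  Lgr Lrot45 (Lpr_ft (f270643 IH) (Lpe (f270570 IH) (Lpe (f232428 IH) (Lpn (LP (LK LD1_c4 LD2_c52 LD3_c8))))))
theorem f199921 : Led Lsl_dt (LP (LK LD1_c2 LD2_c2 LD3_c33)) = (LP (LK LD1_c4 LD2_c10 LD3_c36)) :=
  Lre_d IH (LK LD1_c2 LD2_c2 LD3_c33) (LK LD1_c4 LD2_c10 LD3_c36) Lrfl Lrfl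
theorem f232850 : Led Lsl_af (LP (LK LD1_c4 LD2_c16 LD3_c41)) = (LP (LK LD1_c4 LD2_c10 LD3_c36)) :=
  Lgr Lrot117 (Lpr_dt (K13.f187068 IH) (Lpr_at (K13.f232726 IH) (Lpr_dt (f199921 IH) (Lpn (LP (LK LD1_c4 LD2_c10 LD3_c36))))))
theorem f270657 : Led Lsl_ct (LP (LK LD1_c4 LD2_c53 LD3_c31)) = (LP (LK LD1_c4 LD2_c10 LD3_c36)) :=
  Lgr Lrot111 (Lpr_af (f270645 IH) (Lpr_cf (f232216 IH) (Lpr_af (f232850 IH) (Lpn (LP (LK LD1_c4 LD2_c10 LD3_c36))))))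
theorem f270648 : Led Lsl_ff (LP (LK LD1_c4 LD2_c53 LD3_c31)) = (LP (LK LD1_c4 LD2_c52 LD3_c9)) :=
  Lgr Lrot3 (Lpr_ft (f270643 IH) (Lpn (LP (LK LD1_c4 LD2_c52 LD3_c9))))
theorem f270663 : Led Lsl_ff (LP (LK LD1_c2 LD2_c58 LD3_c20)) = (LP (LK LD1_c4 LD2_c10 LD3_c36)) :=
  Lgr Lrot23 (Lpr_ct (K14.f200135 IH) (Lpe (f270648 IH) (Lpr_ct (f270657 IH) (Lpn (LP (LK LD1_c4 LD2_c10 LD3_c36))))))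
theorem f270667 : Led Lsl_bt (LP (LK LD1_c2 LD2_c5 LD3_c38)) = (LP (LK LD1_c4 LD2_c10 LD3_c36)) :=
  Lgr Lrot35 (Lpr_ff (K13.f232736 IH) (Lpe (K1.f42068 IH) (Lpr_ff (f270663 IH) (Lpn (LP (LK LD1_c4 LD2_c10 LD3_c36))))))
theorem f270720 : Led Lsl_gt (LP (LK LD1_c3 LD2_c57 LD3_c2)) = (LP (LK LD1_c4 LD2_c10 LD3_c36)) :=
  Lgr Lrot164 (Lpe (K13.f227966 IH) (Lpr_ct (K13.f229270 IH) (Lpe (K12.f2500 IH) (Lpe (K1.f2441 IH) (Lpe (K12.f2451 IH) (Lpe (K12.f6932 IH) (Lpr_ct (K12.f30685 IH) (Lpe (K14.f232843 IH) (Lpe (K14.f170066 IH) (Lpr_bt (f270667 IH) (Lpn (LP (LK LD1_c4 LD2_c10 LD3_c36)))))))))))))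
theorem f227953 : Led Lsl_df (LP (LK LD1_c3 LD2_c57 LD3_c2)) = (LP (LK LD1_c4 LD2_c19 LD3_c17)) :=
  Lgr Lrot12 (Lpr_bt (f43210 IH) (Lpr_dt (K12.f227950 IH) (Lpr_bt (K13.f227952 IH) (Lpn (LP (LK LD1_c4 LD2_c19 LD3_c17))))))
theorem f232852 : Led Lsl_ef (LP (LK LD1_c2 LD2_c2 LD3_c33)) = (LP (LK LD1_c2 LD2_c2 LD3_c33)) :=
  Lgr Lrot20 (Lpe (K14.f232248 IH) (Lpe (K13.f232238 IH) (Lpr_at (K13.f232726 IH) (Lpn (LP (LK LD1_c2 LD2_c2 LD3_c33))))))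
theorem f266253 : Led Lsl_ct (LP (LK LD1_c3 LD2_c57 LD3_c11)) = (LP (LK LD1_c2 LD2_c5 LD3_c1)) :=
  Lgr Lrot152 (Lpr_gf (K15.f266247 IH) (Lpe (K10.f53811 IH) (Lpe (K14.f256038 IH) (Lpe (K15.f258431 IH) (Lpe (K15.f232848 IH) (Lpr_ct (K15.f232232 IH) (Lpe (K13.f169410 IH) (Lpe (K13.f187073 IH) (Lpr_gf (K14.f232310 IH) (Lpn (LP (LK LD1_c2 LD2_c5 LD3_c1))))))))))))
theorem f232724 : Led Lsl_bt (LP (LK LD1_c0 LD2_c59 LD3_c50)) = (LP (LK LD1_c2 LD2_c2 LD3_c33)) :=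
  Lgr Lrot62 (Lpr_af (K13.f232710 IH) (Lpr_bf (K10.f186994 IH) (Lpr_af (K13.f39087 IH) (Lpe (K13.f232205 IH) (Lpr_af (K14.f232248 IH) (Lpn (LP (LK LD1_c2 LD2_c2 LD3_c33))))))))
theorem f220728 : Led Lsl_bt (LP (LK LD1_c0 LD2_c27 LD3_c10)) = (LP (LK LD1_c0 LD2_c59 LD3_c42)) :=
  Lre_b IH (LK LD1_c0 LD2_c27 LD3_c10) (LK LD1_c0 LD2_c59 LD3_c42) Lrfl Lrfl
theorem f266255 : Led Lsl_gt (LP (LK LD1_c2 LD2_c2 LD3_c33)) = (LP (LK LD1_c0 LD2_c59 LD3_c42)) :=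
  Lgr Lrot164 (Lpe (f232724 IH) (Lpr_ct (K13.f167314 IH) (Lpr_gf (K14.f232310 IH) (Lpe (f266253 IH) (Lpr_gf (K15.f266247 IH) (Lpr_bf (K10.f53821 IH) (Lpr_ct (K15.f33451 IH) (Lpr_gf (K13.f243582 IH) (Lpe (K13.f53437 IH) (Lpr_bt (f220728 IH) (Lpn (LP (LK LD1_c0 LD2_c59 LD3_c42)))))))))))))
theorem f246374 : Led Lsl_gf (LP (LK LD1_c0 LD2_c58 LD3_c14)) = (LP (LK LD1_c1 LD2_c16 LD3_c18)) :=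
  Lgr Lrot104 (Lpe (K12.f228808 IH) (Lpe (K12.f178288 IH) (Lpe (K12.f178071 IH) (Lpr_gf (K12.f228681 IH) (Lpe (K12.f171982 IH) (Lpe (K13.f171895 IH) (Lpr_df (K14.f243954 IH) (Lpr_gt (K13.f246370 IH) (Lpr_ct (K10.f42551 IH) (Lpn (LP (LK LD1_c1 LD2_c16 LD3_c18))))))))))))
theorem f250974 : Led Lsl_gf (LP (LK LD1_c2 LD2_c36 LD3_c56)) = (LP (LK LD1_c2 LD2_c37 LD3_c39)) :=
  Lgr Lrot143 (Lpr_dt (K12.f169263 IH) (Lpe (K12.f167815 IH) (Lpe (K12.f169257 IH) (Lpe (K13.f226909 IH) (Lpe (K12.f187022 IH) (Lpr_gf (f246374 IH) (Lpe (K10.f42551 IH) (Lpr_gt (K14.f250970 IH) (Lpe (K13.f220636 IH) (Lpn (LP (LK LD1_c2 LD2_c37 LD3_c39))))))))))))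
theorem f270726 : Led Lsl_gf (LP (LK LD1_c4 LD2_c19 LD3_c17)) = (LP (LK LD1_c2 LD2_c36 LD3_c57)) :=
  Lgr Lrot138 (Lpe (f227953 IH) (Lpr_gt (f270720 IH) (Lpe (f199921 IH) (Lpe (f232852 IH) (Lpr_gt (f266255 IH) (Lpe (K13.f220639 IH) (Lpe (K13.f220636 IH) (Lpe (f250974 IH) (Lpe (K12.f223747 IH) (Lpr_et (K14.f246388 IH) (Lpn (LP (LK LD1_c2 LD2_c36 LD3_c57)))))))))))))
theorem f270734 : Led Lsl_cf (LP (LK LD1_c4 LD2_c0 LD3_c14)) = (LP (LK LD1_c6 LD2_c4 LD3_c16)) :=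
  Lgr Lrot99 (Lpe (K13.f211484 IH) (Lpr_cf (K13.f232884 IH) (Lpr_gf (f270726 IH) (Lpe (K15.f169152 IH) (Lpr_gf (f258313 IH) (Lpe (K15.f170627 IH) (Lpe (K11.f200129 IH) (Lpr_ct (K9.f29023 IH) (Lpr_gt (K12.f42091 IH) (Lpn (LP (LK LD1_c6 LD2_c4 LD3_c16))))))))))))
theorem f232889 : Led Lsl_ct (LP (LK LD1_c7 LD2_c55 LD3_c43)) = (LP (LK LD1_c3 LD2_c57 LD3_c2)) :=
  Lre_c IH (LK LD1_c7 LD2_c55 LD3_c43) (LK LD1_c3 LD2_c57 LD3_c2) Lrfl Lrfl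
theorem f270535 : Led Lsl_at (LP (LK LD1_c8 LD2_c12 LD3_c58)) = (LP (LK LD1_c7 LD2_c55 LD3_c43)) :=
  Lgr Lrot107 (Lpe (K15.f221998 IH) (Lpr_af (f270529 IH) (Lpe (f232889 IH) (Lpn (LP (LK LD1_c7 LD2_c55 LD3_c43))))))
theorem f232797 : Led Lsl_dt (LP (LK LD1_c11 LD2_c51 LD3_c61)) = (LP (LK LD1_c6 LD2_c4 LD3_c16)) :=
  Lre_d IH (LK LD1_c11 LD2_c51 LD3_c61) (LK LD1_c6 LD2_c4 LD3_c16) Lrfl Lrfl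
theorem f42092 : Led Lsl_dt (LP (LK LD1_c6 LD2_c4 LD3_c16)) = (LP (LK LD1_c11 LD2_c51 LD3_c61)) :=
  Lre_d IH (LK LD1_c6 LD2_c4 LD3_c16) (LK LD1_c11 LD2_c51 LD3_c61) Lrfl Lrfl
theorem f184846 : Led Lsl_cf (LP (LK LD1_c4 LD2_c54 LD3_c1)) = (LP (LK LD1_c2 LD2_c36 LD3_c7)) :=
  Lgr Lrot39 (Lpr_et (K15.f43825 IH) (Lpr_ct (K9.f184838 IH) (Lpr_et (K14.f184845 IH) (Lpn (LP (LK LD1_c2 LD2_c36 LD3_c7))))))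
theorem f246703 : Led Lsl_bt (LP (LK LD1_c1 LD2_c9 LD3_c60)) = (LP (LK LD1_c2 LD2_c25 LD3_c27)) :=
  Lre_b IH (LK LD1_c1 LD2_c9 LD3_c60) (LK LD1_c2 LD2_c25 LD3_c27) Lrfl Lrfl
theorem f246656 : Led Lsl_ct (LP (LK LD1_c1 LD2_c9 LD3_c60)) = (LP (LK LD1_c2 LD2_c25 LD3_c29)) :=
  Lre_c IH (LK LD1_c1 LD2_c9 LD3_c60) (LK LD1_c2 LD2_c25 LD3_c29) Lrfl Lrfl
theorem f254506 : Led Lsl_bt (LP (LK LD1_c2 LD2_c36 LD3_c7)) = (LP (LK LD1_c1 LD2_c17 LD3_c22)) :=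
  Lgr Lrot92 (Lpe (f184846 IH) (Lpr_gt (K14.f246722 IH) (Lpe (f246656 IH) (Lpr_bt (f246703 IH) (Lpr_gt (K15.f246696 IH) (Lpe (K15.f246710 IH) (Lpr_gt (K14.f254504 IH) (Lpr_cf (K13.f236381 IH) (Lpe (K13.f236372 IH) (Lpr_gt (K15.f220534 IH) (Lpn (LP (LK LD1_c1 LD2_c17 LD3_c22)))))))))))))
theorem f250627 : Led Lsl_bt (LP (LK LD1_c0 LD2_c59 LD3_c47)) = (LP (LK LD1_c2 LD2_c5 LD3_c28)) :=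
  Lre_b IH (LK LD1_c0 LD2_c59 LD3_c47) (LK LD1_c2 LD2_c5 LD3_c28) Lrfl Lrfl
theorem f254515 : Led Lsl_df (LP (LK LD1_c2 LD2_c36 LD3_c7)) = (LP (LK LD1_c2 LD2_c5 LD3_c28)) :=
  Lgr Lrot12 (Lpr_bt (f254506 IH) (Lpe (K14.f250625 IH) (Lpr_bt (f250627 IH) (Lpn (LP (LK LD1_c2 LD2_c5 LD3_c28))))))
theorem f221815 : Led Lsl_ct (LP (LK LD1_c4 LD2_c16 LD3_c12)) = (LP (LK LD1_c2 LD2_c5 LD3_c28)) :=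
  Lre_c IH (LK LD1_c4 LD2_c16 LD3_c12) (LK LD1_c2 LD2_c5 LD3_c28) Lrfl Lrfl
theorem f221814 : Led Lsl_dt (LP (LK LD1_c8 LD2_c31 LD3_c31)) = (LP (LK LD1_c4 LD2_c16 LD3_c12)) :=
  Lre_d IH (LK LD1_c8 LD2_c31 LD3_c31) (LK LD1_c4 LD2_c16 LD3_c12) Lrfl Lrfl
theorem f258903 : Led Lsl_ct (LP (LK LD1_c11 LD2_c51 LD3_c61)) = (LP (LK LD1_c8 LD2_c31 LD3_c31)) :=
  Lgr Lrot41 (Lpe (f42092 IH) (Lpr_cf (K12.f200132 IH) (Lpe (K13.f211484 IH) (Lpe (K14.f239436 IH) (Lpr_at (K15.f258891 IH) (Lpr_cf (f184846 IH) (Lpr_df (f254515 IH) (Lpe (f221815 IH) (Lpe (f221814 IH) (Lpn (LP (LK LD1_c8 LD2_c31 LD3_c31))))))))))))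
theorem f258906 : Led Lsl_cf (LP (LK LD1_c11 LD2_c51 LD3_c61)) = (LP (LK LD1_c8 LD2_c31 LD3_c31)) :=
  Lgr Lrot11 (Lpr_ct (f258903 IH) (Lpn (LP (LK LD1_c8 LD2_c31 LD3_c31))))
theorem f221816 : Led Lsl_dt (LP (LK LD1_c4 LD2_c16 LD3_c12)) = (LP (LK LD1_c8 LD2_c31 LD3_c31)) :=
  Lre_d IH (LK LD1_c4 LD2_c16 LD3_c12) (LK LD1_c8 LD2_c31 LD3_c31) Lrfl Lrfl
theorem f270744 : Led Lsl_ff (LP (LK LD1_c8 LD2_c12 LD3_c58)) = (LP (LK LD1_c4 LD2_c16 LD3_c12)) :=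
  Lgr Lrot103 (Lpr_at (f270535 IH) (Lpe (K13.f43211 IH) (Lpr_df (f227953 IH) (Lpe (K13.f227944 IH) (Lpr_df (K13.f211491 IH) (Lpr_cf (f270734 IH) (Lpe (f232797 IH) (Lpr_cf (f258906 IH) (Lpe (f221816 IH) (Lpn (LP (LK LD1_c4 LD2_c16 LD3_c12))))))))))))
theorem f270757 : Led Lsl_gf (LP (LK LD1_c7 LD2_c55 LD3_c43)) = (LP (LK LD1_c4 LD2_c6 LD3_c11)) :=
  Lgr Lrot76 (Lpe (f270535 IH) (Lpr_ff (f270744 IH) (Lpe (K12.f221805 IH) (Lpn (LP (LK LD1_c4 LD2_c6 LD3_c11))))))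
theorem f232897 : Led Lsl_dt (LP (LK LD1_c7 LD2_c55 LD3_c43)) = (LP (LK LD1_c14 LD2_c57 LD3_c23)) :=
  Lre_d IH (LK LD1_c7 LD2_c55 LD3_c43) (LK LD1_c14 LD2_c57 LD3_c23) Lrfl Lrfl
theorem f222102 : Led Lsl_dt (LP (LK LD1_c1 LD2_c8 LD3_c59)) = (LP (LK LD1_c1 LD2_c0 LD3_c27)) :=
  Lgr Lrot42 (Lpr_df (K14.f222096 IH) (Lpn (LP (LK LD1_c1 LD2_c0 LD3_c27))))
theorem f178760 : Led Lsl_ct (LP (LK LD1_c4 LD2_c13 LD3_c1)) = (LP (LK LD1_c2 LD2_c3 LD3_c48)) :=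
  Lre_c IH (LK LD1_c4 LD2_c13 LD3_c1) (LK LD1_c2 LD2_c3 LD3_c48) Lrfl Lrfl
theorem f213893 : Led Lsl_dt (LP (LK LD1_c8 LD2_c25 LD3_c16)) = (LP (LK LD1_c4 LD2_c13 LD3_c1)) :=
  Lre_d IH (LK LD1_c8 LD2_c25 LD3_c16) (LK LD1_c4 LD2_c13 LD3_c1) Lrfl Lrfl
theorem f270759 : Led Lsl_gt (LP (LK LD1_c14 LD2_c57 LD3_c23)) = (LP (LK LD1_c8 LD2_c25 LD3_c16)) :=
  Lgr Lrot49 (Lpe (f232897 IH) (Lpr_gf (f270757 IH) (Lpe (K12.f44501 IH) (Lpe (K14.f222089 IH) (Lpr_dt (f222102 IH) (Lpr_gt (K14.f200612 IH) (Lpr_dt (K14.f255928 IH) (Lpe (f178760 IH) (Lpe (f213893 IH) (Lpn (LP (LK LD1_c8 LD2_c25 LD3_c16))))))))))))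
theorem f262660 : Led Lsl_cf (LP (LK LD1_c8 LD2_c43 LD3_c11)) = (LP (LK LD1_c15 LD2_c27 LD3_c20)) :=
  Lgr Lrot11 (Lpr_ct (K15.f262658 IH) (Lpn (LP (LK LD1_c15 LD2_c27 LD3_c20))))
theorem f184254 : Led Lsl_dt (LP (LK LD1_c8 LD2_c32 LD3_c52)) = (LP (LK LD1_c4 LD2_c16 LD3_c46)) :=
  Lre_d IH (LK LD1_c8 LD2_c32 LD3_c52) (LK LD1_c4 LD2_c16 LD3_c46) Lrfl Lrfl
theorem f29027 : Led Lsl_gt (LP (LK LD1_c6 LD2_c4 LD3_c17)) = (LP (LK LD1_c2 LD2_c58 LD3_c21)) :=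
  Lre_g IH (LK LD1_c6 LD2_c4 LD3_c17) (LK LD1_c2 LD2_c58 LD3_c21) Lrfl Lrfl
theorem f199937 : Led Lsl_gt (LP (LK LD1_c4 LD2_c10 LD3_c37)) = (LP (LK LD1_c6 LD2_c4 LD3_c17)) :=
  Lgr Lrot5 (Lpr_ft (K11.f199928 IH) (Lpe (K12.f42049 IH) (Lpe (f29027 IH) (Lpn (LP (LK LD1_c6 LD2_c4 LD3_c17))))))
theorem f199939 : Led Lsl_dt (LP (LK LD1_c6 LD2_c4 LD3_c17)) = (LP (LK LD1_c11 LD2_c52 LD3_c2)) :=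
  Lre_d IH (LK LD1_c6 LD2_c4 LD3_c17) (LK LD1_c11 LD2_c52 LD3_c2) Lrfl Lrfl
theorem f258316 : Led Lsl_gf (LP (LK LD1_c8 LD2_c32 LD3_c52)) = (LP (LK LD1_c11 LD2_c52 LD3_c2)) :=
  Lgr Lrot143 (Lpr_dt (f184254 IH) (Lpe (K14.f170174 IH) (Lpr_df (K14.f184244 IH) (Lpr_gf (f258313 IH) (Lpe (K15.f170627 IH) (Lpe (K11.f200127 IH) (Lpe (K11.f199918 IH) (Lpr_gt (f199937 IH) (Lpr_dt (f199939 IH) (Lpn (LP (LK LD1_c11 LD2_c52 LD3_c2))))))))))))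
theorem f270767 : Led Lsl_cf (LP (LK LD1_c14 LD2_c57 LD3_c23)) = (LP (LK LD1_c11 LD2_c52 LD3_c2)) :=
  Lgr Lrot166 (Lpr_gt (f270759 IH) (Lpr_dt (f213893 IH) (Lpr_gt (K14.f178815 IH) (Lpe (K14.f232317 IH) (Lpe (f262660 IH) (Lpe (K15.f211429 IH) (Lpe (K14.f232259 IH) (Lpe (f184254 IH) (Lpr_gf (f258316 IH) (Lpn (LP (LK LD1_c11 LD2_c52 LD3_c2))))))))))))
theorem f232890 : Led Lsl_dt (LP (LK LD1_c14 LD2_c57 LD3_c23)) = (LP (LK LD1_c7 LD2_c55 LD3_c43)) :=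
  Lre_d IH (LK LD1_c14 LD2_c57 LD3_c23) (LK LD1_c7 LD2_c55 LD3_c43) Lrfl Lrfl
theorem f270736 : Led Lsl_at (LP (LK LD1_c6 LD2_c4 LD3_c20)) = (LP (LK LD1_c6 LD2_c4 LD3_c16)) :=
  Lgr Lrot107 (Lpr_cf (K15.f258431 IH) (Lpe (K14.f256028 IH) (Lpr_cf (f270734 IH) (Lpn (LP (LK LD1_c6 LD2_c4 LD3_c16))))))
theorem f270779 : Led Lsl_ff (LP (LK LD1_c6 LD2_c4 LD3_c20)) = (LP (LK LD1_c6 LD2_c4 LD3_c17)) :=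
  Lgr Lrot103 (Lpr_at (f270736 IH) (Lpr_cf (K12.f200132 IH) (Lpe (K13.f211484 IH) (Lpr_cf (K13.f232884 IH) (Lpe (K13.f227967 IH) (Lpe (f232889 IH) (Lpe (f232890 IH) (Lpr_cf (f270767 IH) (Lpe (f199939 IH) (Lpn (LP (LK LD1_c6 LD2_c4 LD3_c17))))))))))))
theorem f270788 : Led Lsl_ft (LP (LK LD1_c6 LD2_c4 LD3_c20)) = (LP (LK LD1_c6 LD2_c4 LD3_c17)) :=
  Lgr Lrot48 (Lpr_ff (f270779 IH) (Lpn (LP (LK LD1_c6 LD2_c4 LD3_c17))))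
theorem f270794 : Led Lsl_af (LP (LK LD1_c4 LD2_c52 LD3_c60)) = (LP (LK LD1_c6 LD2_c4 LD3_c17)) :=
  Lgr Lrot31 (Lpe (K14.f232843 IH) (Lpr_gf (K15.f232848 IH) (Lpr_ft (f270788 IH) (Lpn (LP (LK LD1_c6 LD2_c4 LD3_c17))))))
theorem f256036 : Led Lsl_ft (LP (LK LD1_c4 LD2_c0 LD3_c14)) = (LP (LK LD1_c2 LD2_c24 LD3_c19)) :=
  Lgr Lrot48 (Lpr_ff (K14.f256023 IH) (Lpn (LP (LK LD1_c2 LD2_c24 LD3_c19))))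
theorem f270742 : Led Lsl_ft (LP (LK LD1_c4 LD2_c52 LD3_c60)) = (LP (LK LD1_c6 LD2_c4 LD3_c16)) :=
  Lgr Lrot4 (Lpe (K12.f30685 IH) (Lpe (f256036 IH) (Lpr_cf (f270734 IH) (Lpn (LP (LK LD1_c6 LD2_c4 LD3_c16))))))
theorem f270804 : Led Lsl_at (LP (LK LD1_c6 LD2_c4 LD3_c16)) = (LP (LK LD1_c6 LD2_c4 LD3_c20)) :=
  Lgr Lrot66 (Lpe (f270742 IH) (Lpr_af (f270794 IH) (Lpe (f270788 IH) (Lpn (LP (LK LD1_c6 LD2_c4 LD3_c20))))))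
theorem f42093 : Led Lsl_et (LP (LK LD1_c11 LD2_c52 LD3_c0)) = (LP (LK LD1_c6 LD2_c4 LD3_c16)) :=
  Lre_e IH (LK LD1_c11 LD2_c52 LD3_c0) (LK LD1_c6 LD2_c4 LD3_c16) Lrfl Lrfl
theorem f270810 : Led Lsl_af (LP (LK LD1_c11 LD2_c52 LD3_c0)) = (LP (LK LD1_c11 LD2_c52 LD3_c5)) :=
  Lgr Lrot50 (Lpr_et (f42093 IH) (Lpr_at (f270804 IH) (Lpr_et (K15.f258435 IH) (Lpn (LP (LK LD1_c11 LD2_c52 LD3_c5))))))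
theorem f258443 : Led Lsl_cf (LP (LK LD1_c11 LD2_c52 LD3_c5)) = (LP (LK LD1_c15 LD2_c6 LD3_c39)) :=
  Lgr Lrot11 (Lpr_ct (K15.f258436 IH) (Lpn (LP (LK LD1_c15 LD2_c6 LD3_c39))))
theorem f247159 : Led Lsl_at (LP (LK LD1_c8 LD2_c1 LD3_c28)) = (LP (LK LD1_c15 LD2_c6 LD3_c39)) :=
  Lre_a IH (LK LD1_c8 LD2_c1 LD3_c28) (LK LD1_c15 LD2_c6 LD3_c39) Lrfl Lrfl
theorem f270815 : Led Lsl_ct (LP (LK LD1_c11 LD2_c52 LD3_c0)) = (LP (LK LD1_c8 LD2_c1 LD3_c28)) :=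
  Lgr Lrot111 (Lpr_af (f270810 IH) (Lpr_cf (f258443 IH) (Lpe (f247159 IH) (Lpn (LP (LK LD1_c8 LD2_c1 LD3_c28))))))
theorem f270826 : Led Lsl_bt (LP (LK LD1_c20 LD2_c54 LD3_c40)) = (LP (LK LD1_c11 LD2_c52 LD3_c0)) :=
  Lre_b IH (LK LD1_c20 LD2_c54 LD3_c40) (LK LD1_c11 LD2_c52 LD3_c0) Lrfl Lrfl
theorem f236486 : Led Lsl_cf (LP (LK LD1_c7 LD2_c55 LD3_c52)) = (LP (LK LD1_c4 LD2_c0 LD3_c15)) :=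
  Lgr Lrot39 (Lpr_et (K13.f233000 IH) (Lpr_ct (K13.f236477 IH) (Lpr_et (K14.f211488 IH) (Lpn (LP (LK LD1_c4 LD2_c0 LD3_c15))))))
theorem f241671 : Led Lsl_bt (LP (LK LD1_c7 LD2_c55 LD3_c52)) = (LP (LK LD1_c14 LD2_c57 LD3_c37)) :=
  Lre_b IH (LK LD1_c7 LD2_c55 LD3_c52) (LK LD1_c14 LD2_c57 LD3_c37) Lrfl Lrfl
theorem f270827 : Led Lsl_cf (LP (LK LD1_c20 LD2_c54 LD3_c40)) = (LP (LK LD1_c14 LD2_c57 LD3_c37)) :=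
  Lgr Lrot97 (Lpr_bt (f270826 IH) (Lpr_ct (f270815 IH) (Lpr_bt (K15.f247079 IH) (Lpe (f236486 IH) (Lpr_bt (f241671 IH) (Lpn (LP (LK LD1_c14 LD2_c57 LD3_c37))))))))
theorem f270830 : Led Lsl_ct (LP (LK LD1_c20 LD2_c54 LD3_c40)) = (LP (LK LD1_c14 LD2_c57 LD3_c37)) :=
  Lgr Lrot59 (Lpr_cf (f270827 IH) (Lpn (LP (LK LD1_c14 LD2_c57 LD3_c37))))
theorem f270814 : Led Lsl_bt (LP (LK LD1_c11 LD2_c52 LD3_c0)) = (LP (LK LD1_c20 LD2_c54 LD3_c40)) :=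
  Lre_b IH (LK LD1_c11 LD2_c52 LD3_c0) (LK LD1_c20 LD2_c54 LD3_c40) Lrfl Lrfl
theorem f223729 : Led Lsl_et (LP (LK LD1_c4 LD2_c0 LD3_c14)) = (LP (LK LD1_c8 LD2_c1 LD3_c28)) :=
  Lre_e IH (LK LD1_c4 LD2_c0 LD3_c14) (LK LD1_c8 LD2_c1 LD3_c28) Lrfl Lrfl
theorem f270740 : Led Lsl_ct (LP (LK LD1_c8 LD2_c1 LD3_c28)) = (LP (LK LD1_c11 LD2_c52 LD3_c0)) :=
  Lgr Lrot15 (Lpe (f223729 IH) (Lpr_cf (f270734 IH) (Lpe (f42093 IH) (Lpn (LP (LK LD1_c11 LD2_c52 LD3_c0))))))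
theorem f247135 : Led Lsl_bt (LP (LK LD1_c4 LD2_c0 LD3_c15)) = (LP (LK LD1_c8 LD2_c1 LD3_c28)) :=
  Lre_b IH (LK LD1_c4 LD2_c0 LD3_c15) (LK LD1_c8 LD2_c1 LD3_c28) Lrfl Lrfl
theorem f270834 : Led Lsl_bt (LP (LK LD1_c14 LD2_c57 LD3_c37)) = (LP (LK LD1_c7 LD2_c55 LD3_c52)) :=
  Lre_b IH (LK LD1_c14 LD2_c57 LD3_c37) (LK LD1_c7 LD2_c55 LD3_c52) Lrfl Lrfl
theorem f270835 : Led Lsl_cf (LP (LK LD1_c4 LD2_c0 LD3_c15)) = (LP (LK LD1_c7 LD2_c55 LD3_c52)) :=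
  Lgr Lrot97 (Lpr_bt (f247135 IH) (Lpr_ct (f270740 IH) (Lpr_bt (f270814 IH) (Lpr_ct (f270830 IH) (Lpr_bt (f270834 IH) (Lpn (LP (LK LD1_c7 LD2_c55 LD3_c52))))))))
theorem f247088 : Led Lsl_ft (LP (LK LD1_c4 LD2_c0 LD3_c15)) = (LP (LK LD1_c8 LD2_c1 LD3_c30)) :=
  Lre_f IH (LK LD1_c4 LD2_c0 LD3_c15) (LK LD1_c8 LD2_c1 LD3_c30) Lrfl Lrfl
theorem f241681 : Led Lsl_ft (LP (LK LD1_c14 LD2_c57 LD3_c39)) = (LP (LK LD1_c7 LD2_c55 LD3_c52)) :=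
  Lre_f IH (LK LD1_c14 LD2_c57 LD3_c39) (LK LD1_c7 LD2_c55 LD3_c52) Lrfl Lrfl
theorem f270841 : Led Lsl_ct (LP (LK LD1_c8 LD2_c1 LD3_c30)) = (LP (LK LD1_c14 LD2_c57 LD3_c39)) :=
  Lgr Lrot40 (Lpe (f247088 IH) (Lpr_cf (f270835 IH) (Lpe (f241681 IH) (Lpn (LP (LK LD1_c14 LD2_c57 LD3_c39))))))
theorem f241654 : Led Lsl_ft (LP (LK LD1_c7 LD2_c55 LD3_c52)) = (LP (LK LD1_c14 LD2_c57 LD3_c39)) :=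
  Lre_f IH (LK LD1_c7 LD2_c55 LD3_c52) (LK LD1_c14 LD2_c57 LD3_c39) Lrfl Lrfl
theorem f39045 : Led Lsl_et (LP (LK LD1_c4 LD2_c22 LD3_c5)) = (LP (LK LD1_c2 LD2_c8 LD3_c30)) :=
  Lre_e IH (LK LD1_c4 LD2_c22 LD3_c5) (LK LD1_c2 LD2_c8 LD3_c30) Lrfl Lrfl
theorem f237537 : Led Lsl_ft (LP (LK LD1_c8 LD2_c41 LD3_c61)) = (LP (LK LD1_c4 LD2_c22 LD3_c5)) :=
  Lre_f IH (LK LD1_c8 LD2_c41 LD3_c61) (LK LD1_c4 LD2_c22 LD3_c5) Lrfl Lrfl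
theorem f241655 : Led Lsl_et (LP (LK LD1_c14 LD2_c57 LD3_c39)) = (LP (LK LD1_c8 LD2_c41 LD3_c61)) :=
  Lgr Lrot69 (Lpe (f241654 IH) (Lpe (K13.f238858 IH) (Lpr_ff (K13.f241649 IH) (Lpe (f39045 IH) (Lpe (f237537 IH) (Lpn (LP (LK LD1_c8 LD2_c41 LD3_c61))))))))
theorem f229259 : Led Lsl_et (LP (LK LD1_c1 LD2_c9 LD3_c19)) = (LP (LK LD1_c2 LD2_c24 LD3_c20)) :=
  Lre_e IH (LK LD1_c1 LD2_c9 LD3_c19) (LK LD1_c2 LD2_c24 LD3_c20) Lrfl Lrfl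
theorem f237479 : Led Lsl_ct (LP (LK LD1_c2 LD2_c24 LD3_c20)) = (LP (LK LD1_c4 LD2_c22 LD3_c5)) :=
  Lgr Lrot15 (Lpe (f229259 IH) (Lpr_cf (K13.f237467 IH) (Lpe (f39045 IH) (Lpn (LP (LK LD1_c4 LD2_c22 LD3_c5))))))
theorem f237514 : Led Lsl_ft (LP (LK LD1_c4 LD2_c53 LD3_c2)) = (LP (LK LD1_c2 LD2_c24 LD3_c20)) :=
  Lre_f IH (LK LD1_c4 LD2_c53 LD3_c2) (LK LD1_c2 LD2_c24 LD3_c20) Lrfl Lrfl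
theorem f237515 : Led Lsl_ft (LP (LK LD1_c4 LD2_c22 LD3_c5)) = (LP (LK LD1_c8 LD2_c41 LD3_c61)) :=
  Lre_f IH (LK LD1_c4 LD2_c22 LD3_c5) (LK LD1_c8 LD2_c41 LD3_c61) Lrfl Lrfl
theorem f237516 : Led Lsl_cf (LP (LK LD1_c4 LD2_c53 LD3_c2)) = (LP (LK LD1_c8 LD2_c41 LD3_c61)) :=
  Lgr Lrot108 (Lpr_ft (f237514 IH) (Lpr_ct (f237479 IH) (Lpr_ft (f237515 IH) (Lpn (LP (LK LD1_c8 LD2_c41 LD3_c61))))))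
theorem f270847 : Led Lsl_ef (LP (LK LD1_c8 LD2_c1 LD3_c30)) = (LP (LK LD1_c4 LD2_c53 LD3_c2)) :=
  Lgr Lrot28 (Lpr_ct (f270841 IH) (Lpr_et (f241655 IH) (Lpe (f237516 IH) (Lpn (LP (LK LD1_c4 LD2_c53 LD3_c2))))))
theorem f270849 : Led Lsl_et (LP (LK LD1_c8 LD2_c1 LD3_c30)) = (LP (LK LD1_c4 LD2_c53 LD3_c2)) :=
  Lgr Lrot87 (Lpr_ef (f270847 IH) (Lpn (LP (LK LD1_c4 LD2_c53 LD3_c2))))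
theorem f247127 : Led Lsl_bt (LP (LK LD1_c15 LD2_c6 LD3_c42)) = (LP (LK LD1_c8 LD2_c1 LD3_c30)) :=
  Lre_b IH (LK LD1_c15 LD2_c6 LD3_c42) (LK LD1_c8 LD2_c1 LD3_c30) Lrfl Lrfl
theorem f237526 : Led Lsl_bt (LP (LK LD1_c4 LD2_c53 LD3_c2)) = (LP (LK LD1_c9 LD2_c37 LD3_c57)) :=
  Lre_b IH (LK LD1_c4 LD2_c53 LD3_c2) (LK LD1_c9 LD2_c37 LD3_c57) Lrfl Lrfl
theorem f270853 : Led Lsl_ef (LP (LK LD1_c15 LD2_c6 LD3_c42)) = (LP (LK LD1_c9 LD2_c37 LD3_c57)) :=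
  Lgr Lrot29 (Lpr_bt (f247127 IH) (Lpr_et (f270849 IH) (Lpr_bt (f237526 IH) (Lpn (LP (LK LD1_c9 LD2_c37 LD3_c57))))))
theorem f247130 : Led Lsl_at (LP (LK LD1_c15 LD2_c6 LD3_c42)) = (LP (LK LD1_c24 LD2_c54 LD3_c44)) :=
  Lre_a IH (LK LD1_c15 LD2_c6 LD3_c42) (LK LD1_c24 LD2_c54 LD3_c44) Lrfl Lrfl
theorem f270862 : Led Lsl_at (LP (LK LD1_c17 LD2_c43 LD3_c31)) = (LP (LK LD1_c9 LD2_c37 LD3_c57)) :=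
  Lre_a IH (LK LD1_c17 LD2_c43 LD3_c31) (LK LD1_c9 LD2_c37 LD3_c57) Lrfl Lrfl
theorem f270863 : Led Lsl_et (LP (LK LD1_c24 LD2_c54 LD3_c44)) = (LP (LK LD1_c17 LD2_c43 LD3_c31)) :=
  Lgr Lrot123 (Lpe (f247130 IH) (Lpr_ef (f270853 IH) (Lpe (f270862 IH) (Lpn (LP (LK LD1_c17 LD2_c43 LD3_c31))))))
theorem f270872 : Led Lsl_ft (LP (LK LD1_c17 LD2_c43 LD3_c31)) = (LP (LK LD1_c9 LD2_c37 LD3_c52)) :=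
  Lre_f IH (LK LD1_c17 LD2_c43 LD3_c31) (LK LD1_c9 LD2_c37 LD3_c52) Lrfl Lrfl
theorem f270873 : Led Lsl_et (LP (LK LD1_c9 LD2_c37 LD3_c52)) = (LP (LK LD1_c4 LD2_c52 LD3_c59)) :=
  Lre_e IH (LK LD1_c9 LD2_c37 LD3_c52) (LK LD1_c4 LD2_c52 LD3_c59) Lrfl Lrfl
theorem f270874 : Led Lsl_ff (LP (LK LD1_c8 LD2_c1 LD3_c27)) = (LP (LK LD1_c4 LD2_c52 LD3_c59)) :=
  Lgr Lrot72 (Lpr_et (K15.f256048 IH) (Lpr_ft (K15.f258447 IH) (Lpr_et (f270863 IH) (Lpr_ft (f270872 IH) (Lpr_et (f270873 IH) (Lpn (LP (LK LD1_c4 LD2_c52 LD3_c59))))))))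
theorem f232861 : Led Lsl_at (LP (LK LD1_c8 LD2_c1 LD3_c27)) = (LP (LK LD1_c4 LD2_c0 LD3_c14)) :=
  Lre_a IH (LK LD1_c8 LD2_c1 LD3_c27) (LK LD1_c4 LD2_c0 LD3_c14) Lrfl Lrfl
theorem f246249 : Led Lsl_bt (LP (LK LD1_c1 LD2_c17 LD3_c22)) = (LP (LK LD1_c2 LD2_c36 LD3_c7)) :=
  Lgr Lrot128 (Lpr_cf (K13.f246245 IH) (Lpe (K15.f231716 IH) (Lpr_cf (K14.f231704 IH) (Lpr_bf (K14.f231823 IH) (Lpr_cf (f184846 IH) (Lpn (LP (LK LD1_c2 LD2_c36 LD3_c7))))))))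
theorem f250632 : Led Lsl_df (LP (LK LD1_c2 LD2_c5 LD3_c28)) = (LP (LK LD1_c2 LD2_c36 LD3_c7)) :=
  Lgr Lrot12 (Lpr_bt (K12.f51489 IH) (Lpr_dt (K14.f250628 IH) (Lpr_bt (f246249 IH) (Lpn (LP (LK LD1_c2 LD2_c36 LD3_c7))))))
theorem f270884 : Led Lsl_df (LP (LK LD1_c4 LD2_c54 LD3_c1)) = (LP (LK LD1_c4 LD2_c52 LD3_c59)) :=
  Lgr Lrot157 (Lpr_ct (K15.f251045 IH) (Lpe (f250632 IH) (Lpr_ct (K12.f51490 IH) (Lpr_dt (f221816 IH) (Lpe (f258906 IH) (Lpr_dt (f232797 IH) (Lpe (f270734 IH) (Lpe (f232861 IH) (Lpr_ff (f270874 IH) (Lpn (LP (LK LD1_c4 LD2_c52 LD3_c59))))))))))))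
theorem f7957 : Led Lsl_ct (LP (LK LD1_c2 LD2_c6 LD3_c11)) = (LP (LK LD1_c1 LD2_c0 LD3_c6)) :=
  Lre_c IH (LK LD1_c2 LD2_c6 LD3_c11) (LK LD1_c1 LD2_c0 LD3_c6) Lrfl Lrfl
theorem f7962 : Led Lsl_gt (LP (LK LD1_c4 LD2_c17 LD3_c40)) = (LP (LK LD1_c2 LD2_c6 LD3_c11)) :=
  Lre_g IH (LK LD1_c4 LD2_c17 LD3_c40) (LK LD1_c2 LD2_c6 LD3_c11) Lrfl Lrfl
theorem f270882 : Led Lsl_gf (LP (LK LD1_c4 LD2_c4 LD3_c60)) = (LP (LK LD1_c4 LD2_c52 LD3_c59)) :=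
  Lgr Lrot47 (Lpr_gt (K13.f232858 IH) (Lpe (f232861 IH) (Lpr_ff (f270874 IH) (Lpn (LP (LK LD1_c4 LD2_c52 LD3_c59))))))
theorem f270890 : Led Lsl_cf (LP (LK LD1_c4 LD2_c17 LD3_c40)) = (LP (LK LD1_c4 LD2_c4 LD3_c60)) :=
  Lgr Lrot169 (Lpr_gt (f7962 IH) (Lpr_ct (f7957 IH) (Lpr_df (K14.f7915 IH) (Lpr_cf (K14.f200387 IH) (Lpr_gf (K14.f246712 IH) (Lpe (K14.f246641 IH) (Lpe (K14.f246722 IH) (Lpr_df (f270884 IH) (Lpe (f270882 IH) (Lpn (LP (LK LD1_c4 LD2_c4 LD3_c60))))))))))))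
theorem f7985 : Led Lsl_ct (LP (LK LD1_c1 LD2_c0 LD3_c6)) = (LP (LK LD1_c2 LD2_c6 LD3_c11)) :=
  Lre_c IH (LK LD1_c1 LD2_c0 LD3_c6) (LK LD1_c2 LD2_c6 LD3_c11) Lrfl Lrfl
theorem f237785 : Led Lsl_bt (LP (LK LD1_c0 LD2_c31 LD3_c32)) = (LP (LK LD1_c1 LD2_c8 LD3_c61)) :=
  Lre_b IH (LK LD1_c0 LD2_c31 LD3_c32) (LK LD1_c1 LD2_c8 LD3_c61) Lrfl Lrfl
theorem f270906 : Led Lsl_gt (LP (LK LD1_c1 LD2_c8 LD3_c61)) = (LP (LK LD1_c1 LD2_c59 LD3_c38)) :=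
  Lgr Lrot164 (Lpe (f237785 IH) (Lpr_ct (K13.f237772 IH) (Lpe (K13.f53367 IH) (Lpe (K9.f51607 IH) (Lpr_gf (K9.f53424 IH) (Lpe (K14.f7914 IH) (Lpr_ct (f7985 IH) (Lpe (f7962 IH) (Lpr_cf (f270890 IH) (Lpr_bt (K14.f53828 IH) (Lpn (LP (LK LD1_c1 LD2_c59 LD3_c38)))))))))))))
theorem f47447 : Led Lsl_et (LP (LK LD1_c0 LD2_c56 LD3_c45)) = (LP (LK LD1_c0 LD2_c25 LD3_c43)) :=
  Lre_e IH (LK LD1_c0 LD2_c56 LD3_c45) (LK LD1_c0 LD2_c25 LD3_c43) Lrfl Lrfl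
theorem f253447 : Led Lsl_ef (LP (LK LD1_c0 LD2_c33 LD3_c51)) = (LP (LK LD1_c1 LD2_c0 LD3_c44)) :=
  Lgr Lrot28 (Lpr_ct (K9.f34626 IH) (Lpr_et (K14.f253445 IH) (Lpe (K14.f253254 IH) (Lpn (LP (LK LD1_c1 LD2_c0 LD3_c44))))))
theorem f270912 : Led Lsl_df (LP (LK LD1_c1 LD2_c8 LD3_c61)) = (LP (LK LD1_c1 LD2_c0 LD3_c44)) :=
  Lgr Lrot170 (Lpr_gt (f270906 IH) (Lpe (K12.f47448 IH) (Lpr_et (f47447 IH) (Lpe (K1.f47435 IH) (Lpe (K10.f47808 IH) (Lpr_gt (K1.f41389 IH) (Lpe (K1.f43911 IH) (Lpr_et (K9.f43218 IH) (Lpr_gt (K10.f192566 IH) (Lpr_ef (f253447 IH) (Lpn (LP (LK LD1_c1 LD2_c0 LD3_c44)))))))))))))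
theorem f53650 : Led Lsl_dt (LP (LK LD1_c1 LD2_c59 LD3_c38)) = (LP (LK LD1_c0 LD2_c56 LD3_c45)) :=
  Lre_d IH (LK LD1_c1 LD2_c59 LD3_c38) (LK LD1_c0 LD2_c56 LD3_c45) Lrfl Lrfl
theorem f253258 : Led Lsl_ct (LP (LK LD1_c4 LD2_c19 LD3_c51)) = (LP (LK LD1_c2 LD2_c7 LD3_c23)) :=
  Lre_c IH (LK LD1_c4 LD2_c19 LD3_c51) (LK LD1_c2 LD2_c7 LD3_c23) Lrfl Lrfl
theorem f270923 : Led Lsl_gf (LP (LK LD1_c4 LD2_c50 LD3_c32)) = (LP (LK LD1_c4 LD2_c19 LD3_c51)) :=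
  Lgr Lrot144 (Lpr_dt (K15.f223217 IH) (Lpe (K12.f223207 IH) (Lpr_dt (K9.f53633 IH) (Lpe (K10.f44490 IH) (Lpe (f53650 IH) (Lpe (f270906 IH) (Lpr_df (f270912 IH) (Lpe (K14.f253245 IH) (Lpe (f253258 IH) (Lpn (LP (LK LD1_c4 LD2_c19 LD3_c51))))))))))))
theorem f271000 : Led Lsl_et (LP (LK LD1_c5 LD2_c37 LD3_c2)) = (LP (LK LD1_c4 LD2_c19 LD3_c51)) :=
  Lgr Lrot121 (Lpr_dt (K15.f265013 IH) (Lpe (K12.f44448 IH) (Lpe (K9.f44463 IH) (Lpr_et (K1.f43397 IH) (Lpr_gf (K1.f47472 IH) (Lpe (K12.f47461 IH) (Lpr_dt (K9.f47462 IH) (Lpr_gf (K12.f223207 IH) (Lpe (K15.f223217 IH) (Lpr_gf (f270923 IH) (Lpn (LP (LK LD1_c4 LD2_c19 LD3_c51)))))))))))))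
theorem f51287 : Led Lsl_dt (LP (LK LD1_c2 LD2_c24 LD3_c52)) = (LP (LK LD1_c4 LD2_c53 LD3_c57)) :=
  Lre_d IH (LK LD1_c2 LD2_c24 LD3_c52) (LK LD1_c4 LD2_c53 LD3_c57) Lrfl Lrfl
theorem f192528 : Led Lsl_gf (LP (LK LD1_c8 LD2_c15 LD3_c47)) = (LP (LK LD1_c5 LD2_c5 LD3_c30)) :=
  Lgr Lrot172 (Lpr_ct (K15.f51339 IH) (Lpr_dt (K15.f51342 IH) (Lpr_cf (K10.f192515 IH) (Lpe (K11.f192526 IH) (Lpe (K1.f32097 IH) (Lpe (K10.f32110 IH) (Lpr_dt (K9.f32917 IH) (Lpe (K9.f183694 IH) (Lpr_ct (K14.f169539 IH) (Lpn (LP (LK LD1_c5 LD2_c5 LD3_c30))))))))))))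
theorem f212273 : Led Lsl_gt (LP (LK LD1_c4 LD2_c53 LD3_c57)) = (LP (LK LD1_c5 LD2_c10 LD3_c3)) :=
  Lgr Lrot82 (Lpr_bf (K15.f212267 IH) (Lpr_ct (K15.f51338 IH) (Lpr_gf (f192528 IH) (Lpe (K14.f169539 IH) (Lpr_bt (K14.f169536 IH) (Lpe (K9.f165227 IH) (Lpe (K14.f169562 IH) (Lpr_ct (K14.f186728 IH) (Lpe (K14.f186729 IH) (Lpr_cf (K14.f186733 IH) (Lpn (LP (LK LD1_c5 LD2_c10 LD3_c3)))))))))))))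
theorem f271013 : Led Lsl_gt (LP (LK LD1_c4 LD2_c13 LD3_c13)) = (LP (LK LD1_c4 LD2_c19 LD3_c51)) :=
  Lgr Lrot131 (Lpe (K14.f251401 IH) (Lpe (K14.f251311 IH) (Lpe (f212273 IH) (Lpe (f51287 IH) (Lpr_gf (K12.f51285 IH) (Lpr_ef (K9.f50063 IH) (Lpr_dt (K9.f50062 IH) (Lpe (K12.f51294 IH) (Lpe (K15.f265013 IH) (Lpr_et (f271000 IH) (Lpn (LP (LK LD1_c4 LD2_c19 LD3_c51)))))))))))))
theorem f259279 : Led Lsl_ct (LP (LK LD1_c2 LD2_c7 LD3_c23)) = (LP (LK LD1_c4 LD2_c19 LD3_c51)) :=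
  Lre_c IH (LK LD1_c2 LD2_c7 LD3_c23) (LK LD1_c4 LD2_c19 LD3_c51) Lrfl Lrfl
theorem f259278 : Led Lsl_bt (LP (LK LD1_c2 LD2_c7 LD3_c23)) = (LP (LK LD1_c4 LD2_c19 LD3_c50)) :=
  Lre_b IH (LK LD1_c2 LD2_c7 LD3_c23) (LK LD1_c4 LD2_c19 LD3_c50) Lrfl Lrfl
theorem f261002 : Led Lsl_bf (LP (LK LD1_c4 LD2_c3 LD3_c37)) = (LP (LK LD1_c2 LD2_c10 LD3_c59)) :=
  Lgr Lrot93 (Lpr_dt (K15.f260997 IH) (Lpe (K15.f260795 IH) (Lpe (K14.f182260 IH) (Lpn (LP (LK LD1_c2 LD2_c10 LD3_c59))))))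
theorem f266813 : Led Lsl_gt (LP (LK LD1_c1 LD2_c59 LD3_c47)) = (LP (LK LD1_c2 LD2_c7 LD3_c8)) :=
  Lgr Lrot46 (Lpr_gf (K15.f266809 IH) (Lpr_ft (K15.f254011 IH) (Lpr_at (K15.f254010 IH) (Lpn (LP (LK LD1_c2 LD2_c7 LD3_c8))))))
theorem f191060 : Led Lsl_ct (LP (LK LD1_c4 LD2_c5 LD3_c10)) = (LP (LK LD1_c1 LD2_c59 LD3_c47)) :=
  Lre_c IH (LK LD1_c4 LD2_c5 LD3_c10) (LK LD1_c1 LD2_c59 LD3_c47) Lrfl Lrfl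
theorem f45067 : Led Lsl_et (LP (LK LD1_c4 LD2_c7 LD3_c31)) = (LP (LK LD1_c2 LD2_c1 LD3_c6)) :=
  Lre_e IH (LK LD1_c4 LD2_c7 LD3_c31) (LK LD1_c2 LD2_c1 LD3_c6) Lrfl Lrfl
theorem f191053 : Led Lsl_et (LP (LK LD1_c1 LD2_c59 LD3_c45)) = (LP (LK LD1_c4 LD2_c5 LD3_c10)) :=
  Lre_e IH (LK LD1_c1 LD2_c59 LD3_c45) (LK LD1_c4 LD2_c5 LD3_c10) Lrfl Lrfl
theorem f191054 : Led Lsl_bf (LP (LK LD1_c4 LD2_c7 LD3_c31)) = (LP (LK LD1_c4 LD2_c5 LD3_c10)) :=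
  Lgr Lrot96 (Lpr_et (f45067 IH) (Lpr_bt (K10.f191047 IH) (Lpr_et (f191053 IH) (Lpn (LP (LK LD1_c4 LD2_c5 LD3_c10))))))
theorem f271019 : Led Lsl_gf (LP (LK LD1_c4 LD2_c7 LD3_c31)) = (LP (LK LD1_c4 LD2_c19 LD3_c50)) :=
  Lgr Lrot124 (Lpr_bf (f191054 IH) (Lpr_ct (f191060 IH) (Lpr_gt (f266813 IH) (Lpr_cf (K14.f253992 IH) (Lpe (f261002 IH) (Lpr_gt (K15.f254961 IH) (Lpr_ct (K14.f251399 IH) (Lpr_gt (f271013 IH) (Lpe (f259279 IH) (Lpr_bt (f259278 IH) (Lpn (LP (LK LD1_c4 LD2_c19 LD3_c50)))))))))))))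
theorem f49916 : Led Lsl_et (LP (LK LD1_c2 LD2_c1 LD3_c6)) = (LP (LK LD1_c4 LD2_c7 LD3_c31)) :=
  Lre_e IH (LK LD1_c2 LD2_c1 LD3_c6) (LK LD1_c4 LD2_c7 LD3_c31) Lrfl Lrfl
theorem f180608 : Led Lsl_bt (LP (LK LD1_c5 LD2_c9 LD3_c35)) = (LP (LK LD1_c2 LD2_c31 LD3_c55)) :=
  Lre_b IH (LK LD1_c5 LD2_c9 LD3_c35) (LK LD1_c2 LD2_c31 LD3_c55) Lrfl Lrfl
theorem f246159 : Led Lsl_dt (LP (LK LD1_c4 LD2_c12 LD3_c33)) = (LP (LK LD1_c5 LD2_c9 LD3_c35)) :=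
  Lgr Lrot79 (Lpe (K15.f219194 IH) (Lpr_df (K14.f246142 IH) (Lpe (f180608 IH) (Lpn (LP (LK LD1_c5 LD2_c9 LD3_c35))))))
theorem f259711 : Led Lsl_gt (LP (LK LD1_c4 LD2_c7 LD3_c31)) = (LP (LK LD1_c2 LD2_c1 LD3_c55)) :=
  Lgr Lrot137 (Lpe (f49916 IH) (Lpr_dt (K13.f45066 IH) (Lpr_gf (K15.f259699 IH) (Lpe (f246159 IH) (Lpe (K15.f233849 IH) (Lpr_gf (K14.f251756 IH) (Lpe (K13.f167368 IH) (Lpr_dt (K14.f167420 IH) (Lpe (K14.f251780 IH) (Lpe (K14.f190829 IH) (Lpn (LP (LK LD1_c2 LD2_c1 LD3_c55)))))))))))))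
theorem f262867 : Led Lsl_cf (LP (LK LD1_c2 LD2_c35 LD3_c23)) = (LP (LK LD1_c4 LD2_c7 LD3_c31)) :=
  Lgr Lrot166 (Lpr_gt (K15.f261476 IH) (Lpr_dt (K15.f262848 IH) (Lpe (K15.f245141 IH) (Lpr_dt (K15.f167328 IH) (Lpr_ct (K12.f167320 IH) (Lpe (K13.f167321 IH) (Lpe (K14.f251780 IH) (Lpe (K14.f190829 IH) (Lpe (f259711 IH) (Lpn (LP (LK LD1_c4 LD2_c7 LD3_c31))))))))))))
theorem f262854 : Led Lsl_ct (LP (LK LD1_c1 LD2_c17 LD3_c13)) = (LP (LK LD1_c2 LD2_c40 LD3_c58)) :=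
  Lre_c IH (LK LD1_c1 LD2_c17 LD3_c13) (LK LD1_c2 LD2_c40 LD3_c58) Lrfl Lrfl
theorem f271021 : Led Lsl_bf (LP (LK LD1_c2 LD2_c5 LD3_c21)) = (LP (LK LD1_c1 LD2_c17 LD3_c13)) :=
  Lgr Lrot156 (Lpr_gt (K14.f250902 IH) (Lpe (K14.f236106 IH) (Lpr_ct (K14.f251399 IH) (Lpr_gt (f271013 IH) (Lpe (f259279 IH) (Lpr_bt (f259278 IH) (Lpe (f271019 IH) (Lpe (f262867 IH) (Lpr_gt (K15.f261476 IH) (Lpe (f262854 IH) (Lpn (LP (LK LD1_c1 LD2_c17 LD3_c13)))))))))))))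
theorem f190835 : Led Lsl_gt (LP (LK LD1_c2 LD2_c1 LD3_c55)) = (LP (LK LD1_c4 LD2_c9 LD3_c4)) :=
  Lre_g IH (LK LD1_c2 LD2_c1 LD3_c55) (LK LD1_c4 LD2_c9 LD3_c4) Lrfl Lrfl
theorem f251785 : Led Lsl_gt (LP (LK LD1_c5 LD2_c29 LD3_c23)) = (LP (LK LD1_c2 LD2_c41 LD3_c10)) :=
  Lre_g IH (LK LD1_c5 LD2_c29 LD3_c23) (LK LD1_c2 LD2_c41 LD3_c10) Lrfl Lrfl
theorem f251786 : Led Lsl_ct (LP (LK LD1_c4 LD2_c9 LD3_c4)) = (LP (LK LD1_c5 LD2_c29 LD3_c23)) :=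
  Lgr Lrot186 (Lpe (f190835 IH) (Lpr_dt (K14.f190829 IH) (Lpr_gt (K14.f251780 IH) (Lpr_ct (K13.f167371 IH) (Lpe (K13.f243500 IH) (Lpr_ct (K13.f243282 IH) (Lpr_dt (K15.f245877 IH) (Lpe (K15.f251784 IH) (Lpe (f251785 IH) (Lpn (LP (LK LD1_c5 LD2_c29 LD3_c23))))))))))))
theorem f271029 : Led Lsl_bf (LP (LK LD1_c2 LD2_c12 LD3_c42)) = (LP (LK LD1_c4 LD2_c9 LD3_c4)) :=
  Lgr Lrot165 (Lpr_gt (K14.f238222 IH) (Lpr_ct (K13.f192812 IH) (Lpe (K13.f238218 IH) (Lpe (K13.f236418 IH) (Lpr_bt (K13.f47538 IH) (Lpr_gt (K13.f234197 IH) (Lpr_bf (f271021 IH) (Lpr_ct (f262854 IH) (Lpr_gt (K15.f262869 IH) (Lpe (f251786 IH) (Lpn (LP (LK LD1_c4 LD2_c9 LD3_c4)))))))))))))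
theorem f271033 : Led Lsl_dt (LP (LK LD1_c2 LD2_c23 LD3_c37)) = (LP (LK LD1_c4 LD2_c9 LD3_c4)) :=
  Lgr Lrot79 (Lpe (K11.f171041 IH) (Lpe (K13.f238062 IH) (Lpr_bf (f271029 IH) (Lpn (LP (LK LD1_c4 LD2_c9 LD3_c4))))))
theorem f222236 : Led Lsl_ft (LP (LK LD1_c2 LD2_c3 LD3_c44)) = (LP (LK LD1_c1 LD2_c14 LD3_c42)) :=
  Lgr Lrot4 (Lpe (K12.f199624 IH) (Lpr_ff (K12.f222232 IH) (Lpr_cf (K10.f44933 IH) (Lpn (LP (LK LD1_c1 LD2_c14 LD3_c42))))))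
theorem f262836 : Led Lsl_gt (LP (LK LD1_c1 LD2_c17 LD3_c11)) = (LP (LK LD1_c1 LD2_c14 LD3_c43)) :=
  Lgr Lrot46 (Lpr_gf (K15.f262832 IH) (Lpr_ft (f222236 IH) (Lpr_at (K10.f53612 IH) (Lpn (LP (LK LD1_c1 LD2_c14 LD3_c43))))))
theorem f220501 : Led Lsl_dt (LP (LK LD1_c2 LD2_c40 LD3_c57)) = (LP (LK LD1_c1 LD2_c17 LD3_c11)) :=
  Lre_d IH (LK LD1_c2 LD2_c40 LD3_c57) (LK LD1_c1 LD2_c17 LD3_c11) Lrfl Lrfl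
theorem f220504 : Led Lsl_et (LP (LK LD1_c2 LD2_c40 LD3_c57)) = (LP (LK LD1_c5 LD2_c29 LD3_c22)) :=
  Lre_e IH (LK LD1_c2 LD2_c40 LD3_c57) (LK LD1_c5 LD2_c29 LD3_c22) Lrfl Lrfl
theorem f259250 : Led Lsl_ft (LP (LK LD1_c0 LD2_c57 LD3_c58)) = (LP (LK LD1_c2 LD2_c1 LD3_c59)) :=
  Lre_f IH (LK LD1_c0 LD2_c57 LD3_c58) (LK LD1_c2 LD2_c1 LD3_c59) Lrfl Lrfl
theorem f259251 : Led Lsl_af (LP (LK LD1_c2 LD2_c41 LD3_c53)) = (LP (LK LD1_c2 LD2_c1 LD3_c59)) :=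
  Lgr Lrot31 (Lpe (K14.f178471 IH) (Lpr_gf (K15.f259248 IH) (Lpr_ft (f259250 IH) (Lpn (LP (LK LD1_c2 LD2_c1 LD3_c59))))))
theorem f259264 : Led Lsl_at (LP (LK LD1_c2 LD2_c41 LD3_c53)) = (LP (LK LD1_c2 LD2_c1 LD3_c59)) :=
  Lgr Lrot100 (Lpr_af (f259251 IH) (Lpn (LP (LK LD1_c2 LD2_c1 LD3_c59))))
theorem f259269 : Led Lsl_ct (LP (LK LD1_c2 LD2_c1 LD3_c59)) = (LP (LK LD1_c4 LD2_c9 LD3_c6)) :=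
  Lre_c IH (LK LD1_c2 LD2_c1 LD3_c59) (LK LD1_c4 LD2_c9 LD3_c6) Lrfl Lrfl
theorem f259270 : Led Lsl_af (LP (LK LD1_c4 LD2_c19 LD3_c50)) = (LP (LK LD1_c4 LD2_c9 LD3_c6)) :=
  Lgr Lrot68 (Lpe (K14.f253247 IH) (Lpr_at (f259264 IH) (Lpr_ct (f259269 IH) (Lpn (LP (LK LD1_c4 LD2_c9 LD3_c6))))))
theorem f259275 : Led Lsl_ft (LP (LK LD1_c2 LD2_c1 LD3_c55)) = (LP (LK LD1_c4 LD2_c9 LD3_c6)) :=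
  Lre_f IH (LK LD1_c2 LD2_c1 LD3_c55) (LK LD1_c4 LD2_c9 LD3_c6) Lrfl Lrfl
theorem f259276 : Led Lsl_gf (LP (LK LD1_c4 LD2_c19 LD3_c50)) = (LP (LK LD1_c4 LD2_c9 LD3_c4)) :=
  Lgr Lrot76 (Lpr_af (f259270 IH) (Lpe (f259275 IH) (Lpr_gt (f190835 IH) (Lpn (LP (LK LD1_c4 LD2_c9 LD3_c4))))))
theorem f259273 : Led Lsl_at (LP (LK LD1_c4 LD2_c19 LD3_c50)) = (LP (LK LD1_c4 LD2_c9 LD3_c6)) :=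
  Lgr Lrot100 (Lpr_af (f259270 IH) (Lpn (LP (LK LD1_c4 LD2_c9 LD3_c6))))
theorem f259267 : Led Lsl_ct (LP (LK LD1_c4 LD2_c9 LD3_c6)) = (LP (LK LD1_c2 LD2_c1 LD3_c59)) :=
  Lre_c IH (LK LD1_c4 LD2_c9 LD3_c6) (LK LD1_c2 LD2_c1 LD3_c59) Lrfl Lrfl
theorem f259280 : Led Lsl_cf (LP (LK LD1_c4 LD2_c19 LD3_c50)) = (LP (LK LD1_c2 LD2_c41 LD3_c53)) :=
  Lgr Lrot1 (Lpr_at (f259273 IH) (Lpr_ct (f259267 IH) (Lpe (f259251 IH) (Lpn (LP (LK LD1_c2 LD2_c41 LD3_c53))))))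
theorem f166984 : Led Lsl_gt (LP (LK LD1_c2 LD2_c3 LD3_c24)) = (LP (LK LD1_c0 LD2_c58 LD3_c40)) :=
  Lre_g IH (LK LD1_c2 LD2_c3 LD3_c24) (LK LD1_c0 LD2_c58 LD3_c40) Lrfl Lrfl
theorem f199578 : Led Lsl_bt (LP (LK LD1_c4 LD2_c12 LD3_c21)) = (LP (LK LD1_c2 LD2_c3 LD3_c24)) :=
  Lre_b IH (LK LD1_c4 LD2_c12 LD3_c21) (LK LD1_c2 LD2_c3 LD3_c24) Lrfl Lrfl
theorem f236226 : Led Lsl_ct (LP (LK LD1_c4 LD2_c12 LD3_c21)) = (LP (LK LD1_c8 LD2_c24 LD3_c16)) :=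
  Lre_c IH (LK LD1_c4 LD2_c12 LD3_c21) (LK LD1_c8 LD2_c24 LD3_c16) Lrfl Lrfl
theorem f236227 : Led Lsl_gt (LP (LK LD1_c4 LD2_c15 LD3_c24)) = (LP (LK LD1_c8 LD2_c24 LD3_c16)) :=
  Lgr Lrot149 (Lpe (K15.f51600 IH) (Lpr_gf (K13.f236220 IH) (Lpe (K14.f178837 IH) (Lpr_ct (K9.f168323 IH) (Lpe (K15.f178840 IH) (Lpe (K9.f166992 IH) (Lpr_bt (K12.f167073 IH) (Lpe (f166984 IH) (Lpe (f199578 IH) (Lpr_ct (f236226 IH) (Lpn (LP (LK LD1_c8 LD2_c24 LD3_c16)))))))))))))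
theorem f199579 : Led Lsl_ct (LP (LK LD1_c8 LD2_c24 LD3_c16)) = (LP (LK LD1_c4 LD2_c12 LD3_c21)) :=
  Lre_c IH (LK LD1_c8 LD2_c24 LD3_c16) (LK LD1_c4 LD2_c12 LD3_c21) Lrfl Lrfl
theorem f259285 : Led Lsl_df (LP (LK LD1_c4 LD2_c19 LD3_c50)) = (LP (LK LD1_c4 LD2_c12 LD3_c21)) :=
  Lgr Lrot162 (Lpr_cf (f259280 IH) (Lpe (K14.f178471 IH) (Lpr_cf (K14.f253187 IH) (Lpe (K12.f168327 IH) (Lpr_dt (K13.f213841 IH) (Lpe (K13.f236220 IH) (Lpr_ct (K15.f51600 IH) (Lpr_gt (f236227 IH) (Lpr_ct (f199579 IH) (Lpn (LP (LK LD1_c4 LD2_c12 LD3_c21))))))))))))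
theorem f259289 : Led Lsl_et (LP (LK LD1_c4 LD2_c12 LD3_c21)) = (LP (LK LD1_c8 LD2_c24 LD3_c17)) :=
  Lre_e IH (LK LD1_c4 LD2_c12 LD3_c21) (LK LD1_c8 LD2_c24 LD3_c17) Lrfl Lrfl
theorem f271041 : Led Lsl_gf (LP (LK LD1_c5 LD2_c29 LD3_c22)) = (LP (LK LD1_c8 LD2_c24 LD3_c17)) :=
  Lgr Lrot141 (Lpe (f220504 IH) (Lpr_dt (f220501 IH) (Lpr_gt (f262836 IH) (Lpe (K10.f48164 IH) (Lpe (K12.f49145 IH) (Lpr_gt (K11.f191970 IH) (Lpr_dt (f271033 IH) (Lpe (f259276 IH) (Lpr_df (f259285 IH) (Lpr_et (f259289 IH) (Lpn (LP (LK LD1_c8 LD2_c24 LD3_c17)))))))))))))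
theorem f262860 : Led Lsl_et (LP (LK LD1_c5 LD2_c29 LD3_c22)) = (LP (LK LD1_c2 LD2_c40 LD3_c57)) :=
  Lre_e IH (LK LD1_c5 LD2_c29 LD3_c22) (LK LD1_c2 LD2_c40 LD3_c57) Lrfl Lrfl
theorem f245191 : Led Lsl_et (LP (LK LD1_c4 LD2_c13 LD3_c60)) = (LP (LK LD1_c8 LD2_c26 LD3_c34)) :=
  Lre_e IH (LK LD1_c4 LD2_c13 LD3_c60) (LK LD1_c8 LD2_c26 LD3_c34) Lrfl Lrfl
theorem f262861 : Led Lsl_df (LP (LK LD1_c5 LD2_c29 LD3_c22)) = (LP (LK LD1_c8 LD2_c26 LD3_c34)) :=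
  Lgr Lrot70 (Lpr_et (f262860 IH) (Lpr_dt (f220501 IH) (Lpr_et (K15.f262859 IH) (Lpr_dt (K15.f262848 IH) (Lpr_et (f245191 IH) (Lpn (LP (LK LD1_c8 LD2_c26 LD3_c34))))))))
theorem f188556 : Led Lsl_et (LP (LK LD1_c8 LD2_c26 LD3_c34)) = (LP (LK LD1_c4 LD2_c13 LD3_c60)) :=
  Lre_e IH (LK LD1_c8 LD2_c26 LD3_c34) (LK LD1_c4 LD2_c13 LD3_c60) Lrfl Lrfl
theorem f50878 : Led Lsl_et (LP (LK LD1_c0 LD2_c59 LD3_c14)) = (LP (LK LD1_c2 LD2_c4 LD3_c19)) :=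
  Lre_e IH (LK LD1_c0 LD2_c59 LD3_c14) (LK LD1_c2 LD2_c4 LD3_c19) Lrfl Lrfl
theorem f189719 : Led Lsl_et (LP (LK LD1_c8 LD2_c26 LD3_c27)) = (LP (LK LD1_c4 LD2_c13 LD3_c54)) :=
  Lre_e IH (LK LD1_c8 LD2_c26 LD3_c27) (LK LD1_c4 LD2_c13 LD3_c54) Lrfl Lrfl
theorem f271054 : Led Lsl_dt (LP (LK LD1_c8 LD2_c26 LD3_c27)) = (LP (LK LD1_c8 LD2_c24 LD3_c17)) :=
  Lgr Lrot136 (Lpr_et (f189719 IH) (Lpe (K10.f49884 IH) (Lpe (f50878 IH) (Lpr_dt (K12.f188597 IH) (Lpe (K10.f45730 IH) (Lpe (K15.f167328 IH) (Lpr_gf (K15.f245141 IH) (Lpe (f188556 IH) (Lpe (f262861 IH) (Lpr_gf (f271041 IH) (Lpn (LP (LK LD1_c8 LD2_c24 LD3_c17)))))))))))))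
theorem f271061 : Led Lsl_df (LP (LK LD1_c8 LD2_c26 LD3_c27)) = (LP (LK LD1_c8 LD2_c24 LD3_c17)) :=
  Lgr Lrot38 (Lpr_dt (f271054 IH) (Lpn (LP (LK LD1_c8 LD2_c24 LD3_c17))))
theorem f259431 : Led Lsl_et (LP (LK LD1_c4 LD2_c13 LD3_c54)) = (LP (LK LD1_c8 LD2_c26 LD3_c27)) :=
  Lre_e IH (LK LD1_c4 LD2_c13 LD3_c54) (LK LD1_c8 LD2_c26 LD3_c27) Lrfl Lrfl
theorem f55105 : Led Lsl_et (LP (LK LD1_c8 LD2_c10 LD3_c56)) = (LP (LK LD1_c4 LD2_c5 LD3_c4)) :=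
  Lre_e IH (LK LD1_c8 LD2_c10 LD3_c56) (LK LD1_c4 LD2_c5 LD3_c4) Lrfl Lrfl
theorem f259545 : Led Lsl_bt (LP (LK LD1_c8 LD2_c26 LD3_c27)) = (LP (LK LD1_c8 LD2_c10 LD3_c56)) :=
  Lgr Lrot119 (Lpe (f259431 IH) (Lpr_bf (K15.f259542 IH) (Lpe (f55105 IH) (Lpn (LP (LK LD1_c8 LD2_c10 LD3_c56))))))
theorem f271047 : Led Lsl_bt (LP (LK LD1_c4 LD2_c12 LD3_c23)) = (LP (LK LD1_c8 LD2_c24 LD3_c17)) :=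
  Lre_b IH (LK LD1_c4 LD2_c12 LD3_c23) (LK LD1_c8 LD2_c24 LD3_c17) Lrfl Lrfl
theorem f271067 : Led Lsl_dt (LP (LK LD1_c8 LD2_c10 LD3_c56)) = (LP (LK LD1_c4 LD2_c12 LD3_c23)) :=
  Lgr Lrot79 (Lpe (f259545 IH) (Lpr_df (f271061 IH) (Lpe (f271047 IH) (Lpn (LP (LK LD1_c4 LD2_c12 LD3_c23))))))
theorem f228738 : Led Lsl_et (LP (LK LD1_c2 LD2_c44 LD3_c1)) = (LP (LK LD1_c1 LD2_c18 LD3_c22)) :=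
  Lre_e IH (LK LD1_c2 LD2_c44 LD3_c1) (LK LD1_c1 LD2_c18 LD3_c22) Lrfl Lrfl
theorem f271084 : Led Lsl_gf (LP (LK LD1_c2 LD2_c3 LD3_c51)) = (LP (LK LD1_c4 LD2_c12 LD3_c23)) :=
  Lgr Lrot145 (Lpe (K15.f228816 IH) (Lpr_et (f228738 IH) (Lpr_gt (K12.f228684 IH) (Lpr_dt (K12.f55103 IH) (Lpr_gt (K12.f41974 IH) (Lpe (K1.f41219 IH) (Lpe (K1.f55092 IH) (Lpr_gt (K15.f47451 IH) (Lpe (f55105 IH) (Lpr_dt (f271067 IH) (Lpn (LP (LK LD1_c4 LD2_c12 LD3_c23)))))))))))))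
theorem f228872 : Led Lsl_at (LP (LK LD1_c4 LD2_c12 LD3_c59)) = (LP (LK LD1_c2 LD2_c3 LD3_c51)) :=
  Lre_a IH (LK LD1_c4 LD2_c12 LD3_c59) (LK LD1_c2 LD2_c3 LD3_c51) Lrfl Lrfl
theorem f271083 : Led Lsl_gt (LP (LK LD1_c8 LD2_c24 LD3_c21)) = (LP (LK LD1_c4 LD2_c12 LD3_c23)) :=
  Lre_g IH (LK LD1_c8 LD2_c24 LD3_c21) (LK LD1_c4 LD2_c12 LD3_c23) Lrfl Lrfl
theorem f271086 : Led Lsl_ff (LP (LK LD1_c4 LD2_c12 LD3_c59)) = (LP (LK LD1_c8 LD2_c24 LD3_c21)) :=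
  Lgr Lrot52 (Lpr_at (f228872 IH) (Lpr_gf (f271084 IH) (Lpe (f271083 IH) (Lpn (LP (LK LD1_c8 LD2_c24 LD3_c21))))))
theorem f271137 : Led Lsl_ft (LP (LK LD1_c4 LD2_c12 LD3_c59)) = (LP (LK LD1_c8 LD2_c24 LD3_c21)) :=
  Lgr Lrot48 (Lpr_ff (f271086 IH) (Lpn (LP (LK LD1_c8 LD2_c24 LD3_c21))))
theorem f252088 : Led Lsl_et (LP (LK LD1_c2 LD2_c3 LD3_c46)) = (LP (LK LD1_c4 LD2_c12 LD3_c59)) :=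
  Lre_e IH (LK LD1_c2 LD2_c3 LD3_c46) (LK LD1_c4 LD2_c12 LD3_c59) Lrfl Lrfl
theorem f246652 : Led Lsl_at (LP (LK LD1_c2 LD2_c3 LD3_c46)) = (LP (LK LD1_c0 LD2_c58 LD3_c54)) :=
  Lre_a IH (LK LD1_c2 LD2_c3 LD3_c46) (LK LD1_c0 LD2_c58 LD3_c54) Lrfl Lrfl
theorem f246653 : Led Lsl_ft (LP (LK LD1_c2 LD2_c6 LD3_c37)) = (LP (LK LD1_c2 LD2_c3 LD3_c46)) :=
  Lgr Lrot2 (Lpr_gt (K14.f246650 IH) (Lpr_gt (K14.f178351 IH) (Lpe (f246652 IH) (Lpn (LP (LK LD1_c2 LD2_c3 LD3_c46))))))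
theorem f246658 : Led Lsl_et (LP (LK LD1_c4 LD2_c18 LD3_c40)) = (LP (LK LD1_c2 LD2_c6 LD3_c37)) :=
  Lre_e IH (LK LD1_c4 LD2_c18 LD3_c40) (LK LD1_c2 LD2_c6 LD3_c37) Lrfl Lrfl
theorem f271146 : Led Lsl_ft (LP (LK LD1_c8 LD2_c36 LD3_c2)) = (LP (LK LD1_c4 LD2_c18 LD3_c40)) :=
  Lre_f IH (LK LD1_c8 LD2_c36 LD3_c2) (LK LD1_c4 LD2_c18 LD3_c40) Lrfl Lrfl
theorem f271147 : Led Lsl_ef (LP (LK LD1_c8 LD2_c36 LD3_c2)) = (LP (LK LD1_c8 LD2_c24 LD3_c21)) :=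
  Lgr Lrot21 (Lpr_ft (f271146 IH) (Lpr_et (f246658 IH) (Lpr_ft (f246653 IH) (Lpr_et (f252088 IH) (Lpr_ft (f271137 IH) (Lpn (LP (LK LD1_c8 LD2_c24 LD3_c21))))))))
theorem f171409 : Led Lsl_at (LP (LK LD1_c8 LD2_c36 LD3_c2)) = (LP (LK LD1_c4 LD2_c18 LD3_c54)) :=
  Lre_a IH (LK LD1_c8 LD2_c36 LD3_c2) (LK LD1_c4 LD2_c18 LD3_c54) Lrfl Lrfl
theorem f228832 : Led Lsl_ft (LP (LK LD1_c2 LD2_c3 LD3_c51)) = (LP (LK LD1_c4 LD2_c13 LD3_c12)) :=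
  Lre_f IH (LK LD1_c2 LD2_c3 LD3_c51) (LK LD1_c4 LD2_c13 LD3_c12) Lrfl Lrfl
theorem f271127 : Led Lsl_at (LP (LK LD1_c4 LD2_c13 LD3_c12)) = (LP (LK LD1_c8 LD2_c24 LD3_c21)) :=
  Lgr Lrot66 (Lpe (f228832 IH) (Lpe (f228872 IH) (Lpr_ff (f271086 IH) (Lpn (LP (LK LD1_c8 LD2_c24 LD3_c21))))))
theorem f271149 : Led Lsl_et (LP (LK LD1_c4 LD2_c18 LD3_c54)) = (LP (LK LD1_c4 LD2_c13 LD3_c12)) :=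
  Lgr Lrot123 (Lpe (f171409 IH) (Lpr_ef (f271147 IH) (Lpe (f271127 IH) (Lpn (LP (LK LD1_c4 LD2_c13 LD3_c12))))))
theorem f171498 : Led Lsl_et (LP (LK LD1_c1 LD2_c0 LD3_c18)) = (LP (LK LD1_c2 LD2_c6 LD3_c42)) :=
  Lre_e IH (LK LD1_c1 LD2_c0 LD3_c18) (LK LD1_c2 LD2_c6 LD3_c42) Lrfl Lrfl
theorem f228856 : Led Lsl_ft (LP (LK LD1_c4 LD2_c13 LD3_c12)) = (LP (LK LD1_c2 LD2_c3 LD3_c51)) :=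
  Lre_f IH (LK LD1_c4 LD2_c13 LD3_c12) (LK LD1_c2 LD2_c3 LD3_c51) Lrfl Lrfl
theorem f271156 : Led Lsl_ff (LP (LK LD1_c1 LD2_c0 LD3_c18)) = (LP (LK LD1_c0 LD2_c58 LD3_c54)) :=
  Lgr Lrot72 (Lpr_et (f171498 IH) (Lpr_ft (K12.f171411 IH) (Lpr_et (f271149 IH) (Lpr_ft (f228856 IH) (Lpr_et (K15.f228815 IH) (Lpn (LP (LK LD1_c0 LD2_c58 LD3_c54))))))))
theorem f271159 : Led Lsl_ft (LP (LK LD1_c1 LD2_c0 LD3_c18)) = (LP (LK LD1_c0 LD2_c58 LD3_c54)) :=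
  Lgr Lrot48 (Lpr_ff (f271156 IH) (Lpn (LP (LK LD1_c0 LD2_c58 LD3_c54))))
theorem f261137 : Led Lsl_at (LP (LK LD1_c0 LD2_c58 LD3_c54)) = (LP (LK LD1_c2 LD2_c3 LD3_c46)) :=
  Lre_a IH (LK LD1_c0 LD2_c58 LD3_c54) (LK LD1_c2 LD2_c3 LD3_c46) Lrfl Lrfl
theorem f271161 : Led Lsl_gt (LP (LK LD1_c2 LD2_c6 LD3_c39)) = (LP (LK LD1_c2 LD2_c3 LD3_c46)) :=
  Lgr Lrot46 (Lpe (K13.f171505 IH) (Lpr_ft (f271159 IH) (Lpr_at (f261137 IH) (Lpn (LP (LK LD1_c2 LD2_c3 LD3_c46))))))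
theorem f171506 : Led Lsl_et (LP (LK LD1_c4 LD2_c18 LD3_c44)) = (LP (LK LD1_c2 LD2_c6 LD3_c39)) :=
  Lre_e IH (LK LD1_c4 LD2_c18 LD3_c44) (LK LD1_c2 LD2_c6 LD3_c39) Lrfl Lrfl
theorem f254902 : Led Lsl_bf (LP (LK LD1_c2 LD2_c25 LD3_c10)) = (LP (LK LD1_c4 LD2_c8 LD3_c55)) :=
  Lgr Lrot34 (Lpe (K12.f228684 IH) (Lpe (K12.f177928 IH) (Lpr_ct (K9.f177866 IH) (Lpe (K12.f179191 IH) (Lpe (K12.f169280 IH) (Lpe (K12.f173184 IH) (Lpr_bf (K14.f225833 IH) (Lpr_ct (K14.f191893 IH) (Lpr_gf (K14.f254891 IH) (Lpe (K14.f219324 IH) (Lpn (LP (LK LD1_c4 LD2_c8 LD3_c55)))))))))))))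
theorem f55104 : Led Lsl_et (LP (LK LD1_c2 LD2_c25 LD3_c10)) = (LP (LK LD1_c4 LD2_c54 LD3_c33)) :=
  Lre_e IH (LK LD1_c2 LD2_c25 LD3_c10) (LK LD1_c4 LD2_c54 LD3_c33) Lrfl Lrfl
theorem f219304 : Led Lsl_et (LP (LK LD1_c8 LD2_c17 LD3_c58)) = (LP (LK LD1_c4 LD2_c8 LD3_c55)) :=
  Lre_e IH (LK LD1_c8 LD2_c17 LD3_c58) (LK LD1_c4 LD2_c8 LD3_c55) Lrfl Lrfl
theorem f254906 : Led Lsl_bt (LP (LK LD1_c4 LD2_c54 LD3_c33)) = (LP (LK LD1_c8 LD2_c17 LD3_c58)) :=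
  Lgr Lrot119 (Lpe (f55104 IH) (Lpr_bf (f254902 IH) (Lpe (f219304 IH) (Lpn (LP (LK LD1_c8 LD2_c17 LD3_c58))))))
theorem f179669 : Led Lsl_et (LP (LK LD1_c4 LD2_c18 LD3_c42)) = (LP (LK LD1_c8 LD2_c36 LD3_c3)) :=
  Lre_e IH (LK LD1_c4 LD2_c18 LD3_c42) (LK LD1_c8 LD2_c36 LD3_c3) Lrfl Lrfl
theorem f219305 : Led Lsl_dt (LP (LK LD1_c8 LD2_c36 LD3_c3)) = (LP (LK LD1_c8 LD2_c17 LD3_c58)) :=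
  Lgr Lrot77 (Lpe (f179669 IH) (Lpr_df (K15.f219298 IH) (Lpe (K15.f219303 IH) (Lpe (K14.f219289 IH) (Lpe (f219304 IH) (Lpn (LP (LK LD1_c8 LD2_c17 LD3_c58))))))))
theorem f219309 : Led Lsl_df (LP (LK LD1_c8 LD2_c36 LD3_c3)) = (LP (LK LD1_c8 LD2_c17 LD3_c58)) :=
  Lgr Lrot38 (Lpr_dt (f219305 IH) (Lpn (LP (LK LD1_c8 LD2_c17 LD3_c58))))
theorem f179631 : Led Lsl_bt (LP (LK LD1_c8 LD2_c36 LD3_c3)) = (LP (LK LD1_c4 LD2_c18 LD3_c44)) :=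
  Lre_b IH (LK LD1_c8 LD2_c36 LD3_c3) (LK LD1_c4 LD2_c18 LD3_c44) Lrfl Lrfl
theorem f254912 : Led Lsl_df (LP (LK LD1_c4 LD2_c54 LD3_c33)) = (LP (LK LD1_c4 LD2_c18 LD3_c44)) :=
  Lgr Lrot12 (Lpr_bt (f254906 IH) (Lpe (f219309 IH) (Lpr_bt (f179631 IH) (Lpn (LP (LK LD1_c4 LD2_c18 LD3_c44))))))
theorem f179997 : Led Lsl_bt (LP (LK LD1_c1 LD2_c18 LD3_c35)) = (LP (LK LD1_c2 LD2_c44 LD3_c27)) :=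
  Lre_b IH (LK LD1_c1 LD2_c18 LD3_c35) (LK LD1_c2 LD2_c44 LD3_c27) Lrfl Lrfl
theorem f179998 : Led Lsl_ef (LP (LK LD1_c2 LD2_c45 LD3_c49)) = (LP (LK LD1_c2 LD2_c44 LD3_c27)) :=
  Lgr Lrot29 (Lpr_bt (K14.f179996 IH) (Lpr_et (K13.f179962 IH) (Lpr_bt (f179997 IH) (Lpn (LP (LK LD1_c2 LD2_c44 LD3_c27))))))
theorem f167019 : Led Lsl_bt (LP (LK LD1_c2 LD2_c24 LD3_c29)) = (LP (LK LD1_c1 LD2_c9 LD3_c23)) :=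
  Lre_b IH (LK LD1_c2 LD2_c24 LD3_c29) (LK LD1_c1 LD2_c9 LD3_c23) Lrfl Lrfl
theorem f179956 : Led Lsl_dt (LP (LK LD1_c2 LD2_c45 LD3_c49)) = (LP (LK LD1_c2 LD2_c24 LD3_c29)) :=
  Lgr Lrot79 (Lpe (K14.f179955 IH) (Lpr_df (K13.f179847 IH) (Lpe (f167019 IH) (Lpn (LP (LK LD1_c2 LD2_c24 LD3_c29))))))
theorem f180049 : Led Lsl_et (LP (LK LD1_c2 LD2_c24 LD3_c29)) = (LP (LK LD1_c1 LD2_c9 LD3_c22)) :=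
  Lre_e IH (LK LD1_c2 LD2_c24 LD3_c29) (LK LD1_c1 LD2_c9 LD3_c22) Lrfl Lrfl
theorem f178272 : Led Lsl_df (LP (LK LD1_c0 LD2_c58 LD3_c50)) = (LP (LK LD1_c1 LD2_c9 LD3_c22)) :=
  Lgr Lrot12 (Lpr_bt (K14.f178263 IH) (Lpr_dt (K9.f178270 IH) (Lpr_bt (K14.f167006 IH) (Lpn (LP (LK LD1_c1 LD2_c9 LD3_c22))))))
theorem f180050 : Led Lsl_dt (LP (LK LD1_c1 LD2_c18 LD3_c34)) = (LP (LK LD1_c2 LD2_c44 LD3_c27)) :=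
  Lre_d IH (LK LD1_c1 LD2_c18 LD3_c34) (LK LD1_c2 LD2_c44 LD3_c27) Lrfl Lrfl
theorem f180051 : Led Lsl_et (LP (LK LD1_c0 LD2_c58 LD3_c50)) = (LP (LK LD1_c1 LD2_c18 LD3_c34)) :=
  Lgr Lrot71 (Lpr_df (f178272 IH) (Lpe (f180049 IH) (Lpe (f179956 IH) (Lpr_ef (f179998 IH) (Lpe (f180050 IH) (Lpn (LP (LK LD1_c1 LD2_c18 LD3_c34))))))))
theorem f253951 : Led Lsl_gf (LP (LK LD1_c1 LD2_c9 LD3_c22)) = (LP (LK LD1_c1 LD2_c59 LD3_c39)) :=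
  Lgr Lrot145 (Lpe (K14.f180071 IH) (Lpr_et (f180051 IH) (Lpr_gt (K14.f253942 IH) (Lpr_dt (K10.f41371 IH) (Lpr_gt (K10.f47954 IH) (Lpe (K10.f47194 IH) (Lpr_et (K1.f47450 IH) (Lpe (K8.f47946 IH) (Lpe (K10.f47956 IH) (Lpr_dt (K12.f47957 IH) (Lpn (LP (LK LD1_c1 LD2_c59 LD3_c39)))))))))))))
theorem f271171 : Led Lsl_gf (LP (LK LD1_c4 LD2_c54 LD3_c33)) = (LP (LK LD1_c2 LD2_c45 LD3_c49)) :=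
  Lgr Lrot145 (Lpr_df (f254912 IH) (Lpr_et (f171506 IH) (Lpr_gt (f271161 IH) (Lpr_dt (K14.f252068 IH) (Lpe (K15.f252085 IH) (Lpe (K10.f44493 IH) (Lpr_et (K12.f53979 IH) (Lpe (f253951 IH) (Lpe (f180049 IH) (Lpe (K14.f180064 IH) (Lpn (LP (LK LD1_c2 LD2_c45 LD3_c49)))))))))))))
theorem f254915 : Led Lsl_dt (LP (LK LD1_c4 LD2_c54 LD3_c33)) = (LP (LK LD1_c4 LD2_c18 LD3_c44)) :=
  Lgr Lrot42 (Lpr_df (f254912 IH) (Lpn (LP (LK LD1_c4 LD2_c18 LD3_c44))))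
theorem f179647 : Led Lsl_gt (LP (LK LD1_c4 LD2_c18 LD3_c44)) = (LP (LK LD1_c8 LD2_c36 LD3_c7)) :=
  Lre_g IH (LK LD1_c4 LD2_c18 LD3_c44) (LK LD1_c8 LD2_c36 LD3_c7) Lrfl Lrfl
theorem f254921 : Led Lsl_dt (LP (LK LD1_c16 LD2_c7 LD3_c31)) = (LP (LK LD1_c8 LD2_c36 LD3_c7)) :=
  Lre_d IH (LK LD1_c16 LD2_c7 LD3_c31) (LK LD1_c8 LD2_c36 LD3_c7) Lrfl Lrfl
theorem f228739 : Led Lsl_et (LP (LK LD1_c4 LD2_c54 LD3_c33)) = (LP (LK LD1_c2 LD2_c25 LD3_c10)) :=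
  Lre_e IH (LK LD1_c4 LD2_c54 LD3_c33) (LK LD1_c2 LD2_c25 LD3_c10) Lrfl Lrfl
theorem f271082 : Led Lsl_gt (LP (LK LD1_c15 LD2_c24 LD3_c23)) = (LP (LK LD1_c8 LD2_c10 LD3_c56)) :=
  Lre_g IH (LK LD1_c15 LD2_c24 LD3_c23) (LK LD1_c8 LD2_c10 LD3_c56) Lrfl Lrfl
theorem f271100 : Led Lsl_et (LP (LK LD1_c16 LD2_c7 LD3_c31)) = (LP (LK LD1_c15 LD2_c24 LD3_c23)) :=
  Lgr Lrot121 (Lpr_dt (f254921 IH) (Lpe (f179647 IH) (Lpe (f254915 IH) (Lpr_et (f228739 IH) (Lpe (K12.f228684 IH) (Lpe (f228738 IH) (Lpr_dt (K15.f228816 IH) (Lpr_gf (f271084 IH) (Lpe (f271067 IH) (Lpe (f271082 IH) (Lpn (LP (LK LD1_c15 LD2_c24 LD3_c23)))))))))))))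
theorem f271074 : Led Lsl_et (LP (LK LD1_c4 LD2_c5 LD3_c4)) = (LP (LK LD1_c8 LD2_c10 LD3_c56)) :=
  Lre_e IH (LK LD1_c4 LD2_c5 LD3_c4) (LK LD1_c8 LD2_c10 LD3_c56) Lrfl Lrfl
theorem f271186 : Led Lsl_dt (LP (LK LD1_c4 LD2_c5 LD3_c4)) = (LP (LK LD1_c2 LD2_c44 LD3_c25)) :=
  Lgr Lrot136 (Lpr_et (f271074 IH) (Lpe (f271082 IH) (Lpe (f271100 IH) (Lpr_dt (f254921 IH) (Lpe (f179647 IH) (Lpe (f254915 IH) (Lpr_gf (f271171 IH) (Lpr_ef (f179998 IH) (Lpr_dt (K14.f180036 IH) (Lpe (K14.f178262 IH) (Lpn (LP (LK LD1_c2 LD2_c44 LD3_c25)))))))))))))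
theorem f259548 : Led Lsl_gt (LP (LK LD1_c4 LD2_c7 LD3_c51)) = (LP (LK LD1_c8 LD2_c10 LD3_c55)) :=
  Lgr Lrot65 (Lpe (K11.f49227 IH) (Lpr_bt (K15.f49223 IH) (Lpe (K10.f1439 IH) (Lpe (K10.f189984 IH) (Lpr_ct (K10.f45371 IH) (Lpe (K11.f195830 IH) (Lpr_cf (K11.f195825 IH) (Lpe (K15.f189716 IH) (Lpr_bf (K15.f259542 IH) (Lpr_ct (K15.f259427 IH) (Lpn (LP (LK LD1_c8 LD2_c10 LD3_c55)))))))))))))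
theorem f254257 : Led Lsl_et (LP (LK LD1_c1 LD2_c14 LD3_c19)) = (LP (LK LD1_c2 LD2_c34 LD3_c36)) :=
  Lre_e IH (LK LD1_c1 LD2_c14 LD3_c19) (LK LD1_c2 LD2_c34 LD3_c36) Lrfl Lrfl
theorem f254258 : Led Lsl_ct (LP (LK LD1_c2 LD2_c34 LD3_c36)) = (LP (LK LD1_c4 LD2_c18 LD3_c55)) :=
  Lgr Lrot15 (Lpe (f254257 IH) (Lpe (K10.f191024 IH) (Lpr_ef (K14.f254255 IH) (Lpn (LP (LK LD1_c4 LD2_c18 LD3_c55))))))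
theorem f271192 : Led Lsl_gt (LP (LK LD1_c2 LD2_c11 LD3_c2)) = (LP (LK LD1_c2 LD2_c34 LD3_c36)) :=
  Lgr Lrot146 (Lpe (K12.f231248 IH) (Lpr_gt (K12.f47813 IH) (Lpr_ct (K11.f49227 IH) (Lpr_gt (f259548 IH) (Lpr_ct (K15.f259541 IH) (Lpr_dt (f271186 IH) (Lpe (K14.f253976 IH) (Lpe (K14.f253977 IH) (Lpe (f254258 IH) (Lpn (LP (LK LD1_c2 LD2_c34 LD3_c36))))))))))))
theorem f271198 : Led Lsl_ct (LP (LK LD1_c4 LD2_c18 LD3_c55)) = (LP (LK LD1_c2 LD2_c34 LD3_c36)) :=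
  Lgr Lrot63 (Lpr_bt (K14.f169335 IH) (Lpr_gt (K12.f229932 IH) (Lpe (K14.f256292 IH) (Lpr_ct (K14.f253419 IH) (Lpr_gt (K14.f256313 IH) (Lpe (K15.f199117 IH) (Lpe (K15.f256474 IH) (Lpr_gt (K14.f230939 IH) (Lpe (K14.f247441 IH) (Lpr_gt (f271192 IH) (Lpn (LP (LK LD1_c2 LD2_c34 LD3_c36)))))))))))))
theorem f271200 : Led Lsl_bt (LP (LK LD1_c2 LD2_c34 LD3_c36)) = (LP (LK LD1_c1 LD2_c14 LD3_c22)) :=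
  Lre_b IH (LK LD1_c2 LD2_c34 LD3_c36) (LK LD1_c1 LD2_c14 LD3_c22) Lrfl Lrfl
theorem f49901 : Led Lsl_ct (LP (LK LD1_c1 LD2_c14 LD3_c22)) = (LP (LK LD1_c2 LD2_c34 LD3_c39)) :=
  Lre_c IH (LK LD1_c1 LD2_c14 LD3_c22) (LK LD1_c2 LD2_c34 LD3_c39) Lrfl Lrfl
theorem f271201 : Led Lsl_bf (LP (LK LD1_c4 LD2_c18 LD3_c56)) = (LP (LK LD1_c2 LD2_c34 LD3_c39)) :=
  Lgr Lrot90 (Lpr_ct (K12.f229933 IH) (Lpr_bt (K14.f230235 IH) (Lpr_ct (f271198 IH) (Lpr_bt (f271200 IH) (Lpr_ct (f49901 IH) (Lpn (LP (LK LD1_c2 LD2_c34 LD3_c39))))))))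
theorem f266295 : Led Lsl_gf (LP (LK LD1_c2 LD2_c11 LD3_c29)) = (LP (LK LD1_c4 LD2_c2 LD3_c47)) :=
  Lgr Lrot76 (Lpr_af (K15.f263210 IH) (Lpe (K15.f263216 IH) (Lpr_gt (K15.f266291 IH) (Lpn (LP (LK LD1_c4 LD2_c2 LD3_c47))))))
theorem f189790 : Led Lsl_bf (LP (LK LD1_c4 LD2_c15 LD3_c10)) = (LP (LK LD1_c4 LD2_c7 LD3_c61)) :=
  Lgr Lrot24 (Lpr_bt (K15.f189788 IH) (Lpn (LP (LK LD1_c4 LD2_c7 LD3_c61))))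
theorem f223860 : Led Lsl_gt (LP (LK LD1_c4 LD2_c16 LD3_c60)) = (LP (LK LD1_c4 LD2_c15 LD3_c20)) :=
  Lgr Lrot137 (Lpr_ef (K14.f223854 IH) (Lpr_dt (K12.f173120 IH) (Lpr_gf (K12.f182170 IH) (Lpe (K10.f30884 IH) (Lpr_et (K9.f28155 IH) (Lpr_gf (K1.f44304 IH) (Lpe (K1.f43961 IH) (Lpr_dt (K1.f43924 IH) (Lpe (K13.f184862 IH) (Lpe (K14.f49022 IH) (Lpn (LP (LK LD1_c4 LD2_c15 LD3_c20)))))))))))))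
theorem f49030 : Led Lsl_bt (LP (LK LD1_c2 LD2_c5 LD3_c3)) = (LP (LK LD1_c4 LD2_c15 LD3_c20)) :=
  Lre_b IH (LK LD1_c2 LD2_c5 LD3_c3) (LK LD1_c4 LD2_c15 LD3_c20) Lrfl Lrfl
theorem f262803 : Led Lsl_ct (LP (LK LD1_c2 LD2_c5 LD3_c3)) = (LP (LK LD1_c1 LD2_c16 LD3_c50)) :=
  Lgr Lrot15 (Lpe (K10.f48262 IH) (Lpr_cf (K15.f262795 IH) (Lpe (K14.f245025 IH) (Lpn (LP (LK LD1_c1 LD2_c16 LD3_c50))))))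
theorem f271203 : Led Lsl_gt (LP (LK LD1_c1 LD2_c16 LD3_c50)) = (LP (LK LD1_c1 LD2_c14 LD3_c22)) :=
  Lgr Lrot65 (Lpe (f262803 IH) (Lpr_bt (f49030 IH) (Lpe (f223860 IH) (Lpr_bf (K14.f223851 IH) (Lpr_ct (K15.f223863 IH) (Lpr_gf (K15.f255881 IH) (Lpr_cf (K14.f229945 IH) (Lpe (K12.f169337 IH) (Lpr_bf (f271201 IH) (Lpr_ct (K14.f49906 IH) (Lpn (LP (LK LD1_c1 LD2_c14 LD3_c22)))))))))))))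
theorem f271205 : Led Lsl_gt (LP (LK LD1_c4 LD2_c15 LD3_c10)) = (LP (LK LD1_c2 LD2_c5 LD3_c3)) :=
  Lgr Lrot82 (Lpr_bf (f189790 IH) (Lpe (K15.f263200 IH) (Lpr_gf (f266295 IH) (Lpe (K15.f266290 IH) (Lpe (K15.f266281 IH) (Lpe (K12.f169337 IH) (Lpr_bf (f271201 IH) (Lpr_ct (K14.f49906 IH) (Lpe (f271203 IH) (Lpe (f262803 IH) (Lpn (LP (LK LD1_c2 LD2_c5 LD3_c3)))))))))))))
theorem f271211 : Led Lsl_cf (LP (LK LD1_c4 LD2_c15 LD3_c10)) = (LP (LK LD1_c8 LD2_c23 LD3_c56)) :=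
  Lgr Lrot166 (Lpr_gt (f271205 IH) (Lpr_dt (K10.f48253 IH) (Lpr_gt (K9.f33097 IH) (Lpr_dt (K10.f48183 IH) (Lpr_ct (K10.f32247 IH) (Lpe (K15.f33046 IH) (Lpe (K10.f33049 IH) (Lpr_df (K13.f191728 IH) (Lpr_gf (K15.f257887 IH) (Lpn (LP (LK LD1_c8 LD2_c23 LD3_c56))))))))))))
theorem f251163 : Led Lsl_at (LP (LK LD1_c0 LD2_c59 LD3_c41)) = (LP (LK LD1_c2 LD2_c5 LD3_c3)) :=
  Lgr Lrot51 (Lpe (K10.f197013 IH) (Lpr_af (K14.f251154 IH) (Lpe (K10.f48253 IH) (Lpn (LP (LK LD1_c2 LD2_c5 LD3_c3))))))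
theorem f271207 : Led Lsl_gf (LP (LK LD1_c4 LD2_c15 LD3_c10)) = (LP (LK LD1_c2 LD2_c5 LD3_c16)) :=
  Lgr Lrot47 (Lpr_gt (f271205 IH) (Lpe (f251163 IH) (Lpe (K13.f197016 IH) (Lpn (LP (LK LD1_c2 LD2_c5 LD3_c16))))))
theorem f259652 : Led Lsl_gf (LP (LK LD1_c4 LD2_c18 LD3_c55)) = (LP (LK LD1_c3 LD2_c58 LD3_c15)) :=
  Lgr Lrot124 (Lpe (K14.f230235 IH) (Lpr_ct (K14.f169336 IH) (Lpr_gt (K12.f169337 IH) (Lpe (K15.f229943 IH) (Lpe (K15.f259633 IH) (Lpr_gt (K15.f259642 IH) (Lpe (K15.f259646 IH) (Lpr_gt (K15.f255058 IH) (Lpe (K10.f188528 IH) (Lpe (K10.f188580 IH) (Lpn (LP (LK LD1_c3 LD2_c58 LD3_c15)))))))))))))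
theorem f271219 : Led Lsl_bf (LP (LK LD1_c5 LD2_c22 LD3_c42)) = (LP (LK LD1_c8 LD2_c23 LD3_c56)) :=
  Lgr Lrot156 (Lpr_gt (K15.f258003 IH) (Lpe (K10.f169267 IH) (Lpr_ct (K10.f47973 IH) (Lpe (f259652 IH) (Lpe (f254258 IH) (Lpr_bt (f271200 IH) (Lpr_gt (K14.f253965 IH) (Lpe (K13.f197018 IH) (Lpe (f271207 IH) (Lpr_cf (f271211 IH) (Lpn (LP (LK LD1_c8 LD2_c23 LD3_c56)))))))))))))
theorem f239450 : Led Lsl_af (LP (LK LD1_c2 LD2_c3 LD3_c16)) = (LP (LK LD1_c1 LD2_c59 LD3_c10)) :=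
  Lgr Lrot0 (Lpr_at (K13.f239448 IH) (Lpn (LP (LK LD1_c1 LD2_c59 LD3_c10))))
theorem f271221 : Led Lsl_at (LP (LK LD1_c5 LD2_c22 LD3_c42)) = (LP (LK LD1_c4 LD2_c4 LD3_c31)) :=
  Lgr Lrot67 (Lpr_bf (f271219 IH) (Lpe (K15.f200566 IH) (Lpe (K15.f199572 IH) (Lpr_af (f239450 IH) (Lpe (K13.f223720 IH) (Lpn (LP (LK LD1_c4 LD2_c4 LD3_c31))))))))
theorem f271227 : Led Lsl_af (LP (LK LD1_c5 LD2_c23 LD3_c39)) = (LP (LK LD1_c4 LD2_c4 LD3_c45)) :=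
  Lgr Lrot50 (Lpe (K15.f257989 IH) (Lpr_at (f271221 IH) (Lpr_et (K13.f223708 IH) (Lpn (LP (LK LD1_c4 LD2_c4 LD3_c45))))))
theorem f257960 : Led Lsl_ff (LP (LK LD1_c4 LD2_c54 LD3_c1)) = (LP (LK LD1_c5 LD2_c23 LD3_c39)) :=
  Lgr Lrot25 (Lpe (K14.f231823 IH) (Lpe (K15.f257893 IH) (Lpr_bt (K15.f257947 IH) (Lpn (LP (LK LD1_c5 LD2_c23 LD3_c39))))))
theorem f258893 : Led Lsl_af (LP (LK LD1_c2 LD2_c45 LD3_c38)) = (LP (LK LD1_c4 LD2_c54 LD3_c1)) :=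
  Lgr Lrot0 (Lpr_at (K15.f258891 IH) (Lpn (LP (LK LD1_c4 LD2_c54 LD3_c1))))
theorem f271229 : Led Lsl_ft (LP (LK LD1_c2 LD2_c45 LD3_c38)) = (LP (LK LD1_c4 LD2_c4 LD3_c45)) :=
  Lgr Lrot101 (Lpr_af (f258893 IH) (Lpr_ff (f257960 IH) (Lpr_af (f271227 IH) (Lpn (LP (LK LD1_c4 LD2_c4 LD3_c45))))))
theorem f271231 : Led Lsl_ff (LP (LK LD1_c2 LD2_c36 LD3_c15)) = (LP (LK LD1_c4 LD2_c19 LD3_c17)) :=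
  Lgr Lrot23 (Lpr_ct (K14.f256011 IH) (Lpr_ft (f271229 IH) (Lpr_ct (K13.f227944 IH) (Lpn (LP (LK LD1_c4 LD2_c19 LD3_c17))))))
theorem f271235 : Led Lsl_ft (LP (LK LD1_c2 LD2_c36 LD3_c9)) = (LP (LK LD1_c2 LD2_c37 LD3_c43)) :=
  Lgr Lrot86 (Lpe (K15.f184667 IH) (Lpr_ff (K15.f258031 IH) (Lpe (K12.f44019 IH) (Lpr_ff (f271231 IH) (Lpe (K13.f232880 IH) (Lpn (LP (LK LD1_c2 LD2_c37 LD3_c43))))))))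
theorem f271239 : Led Lsl_ff (LP (LK LD1_c2 LD2_c36 LD3_c9)) = (LP (LK LD1_c2 LD2_c37 LD3_c43)) :=
  Lgr Lrot3 (Lpr_ft (f271235 IH) (Lpn (LP (LK LD1_c2 LD2_c37 LD3_c43))))
theorem f184671 : Led Lsl_bf (LP (LK LD1_c2 LD2_c36 LD3_c9)) = (LP (LK LD1_c1 LD2_c58 LD3_c0)) :=
  Lgr Lrot24 (Lpr_bt (K15.f184669 IH) (Lpn (LP (LK LD1_c1 LD2_c58 LD3_c0))))
theorem f241900 : Led Lsl_df (LP (LK LD1_c5 LD2_c12 LD3_c40)) = (LP (LK LD1_c2 LD2_c36 LD3_c9)) :=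
  Lgr Lrot12 (Lpr_bt (K15.f241899 IH) (Lpr_dt (K13.f241896 IH) (Lpe (f184671 IH) (Lpn (LP (LK LD1_c2 LD2_c36 LD3_c9))))))
theorem f189572 : Led Lsl_ct (LP (LK LD1_c5 LD2_c10 LD3_c15)) = (LP (LK LD1_c2 LD2_c32 LD3_c10)) :=
  Lre_c IH (LK LD1_c5 LD2_c10 LD3_c15) (LK LD1_c2 LD2_c32 LD3_c10) Lrfl Lrfl
theorem f250440 : Led Lsl_bt (LP (LK LD1_c2 LD2_c58 LD3_c28)) = (LP (LK LD1_c1 LD2_c24 LD3_c60)) :=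
  Lre_b IH (LK LD1_c2 LD2_c58 LD3_c28) (LK LD1_c1 LD2_c24 LD3_c60) Lrfl Lrfl
theorem f194188 : Led Lsl_ct (LP (LK LD1_c2 LD2_c58 LD3_c28)) = (LP (LK LD1_c6 LD2_c4 LD3_c34)) :=
  Lre_c IH (LK LD1_c2 LD2_c58 LD3_c28) (LK LD1_c6 LD2_c4 LD3_c34) Lrfl Lrfl
theorem f169077 : Led Lsl_bt (LP (LK LD1_c2 LD2_c32 LD3_c10)) = (LP (LK LD1_c1 LD2_c13 LD3_c8)) :=
  Lre_b IH (LK LD1_c2 LD2_c32 LD3_c10) (LK LD1_c1 LD2_c13 LD3_c8) Lrfl Lrfl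
theorem f169078 : Led Lsl_ct (LP (LK LD1_c2 LD2_c32 LD3_c10)) = (LP (LK LD1_c5 LD2_c10 LD3_c15)) :=
  Lre_c IH (LK LD1_c2 LD2_c32 LD3_c10) (LK LD1_c5 LD2_c10 LD3_c15) Lrfl Lrfl
theorem f256830 : Led Lsl_gt (LP (LK LD1_c6 LD2_c4 LD3_c34)) = (LP (LK LD1_c5 LD2_c10 LD3_c15)) :=
  Lgr Lrot65 (Lpe (f194188 IH) (Lpr_bt (f250440 IH) (Lpr_gf (K15.f256823 IH) (Lpe (K15.f184398 IH) (Lpr_ct (K9.f7943 IH) (Lpr_gf (K15.f183383 IH) (Lpe (K10.f177452 IH) (Lpr_gf (K11.f183079 IH) (Lpe (f169077 IH) (Lpr_ct (f169078 IH) (Lpn (LP (LK LD1_c5 LD2_c10 LD3_c15)))))))))))))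
theorem f255286 : Led Lsl_bt (LP (LK LD1_c2 LD2_c29 LD3_c47)) = (LP (LK LD1_c5 LD2_c4 LD3_c55)) :=
  Lre_b IH (LK LD1_c2 LD2_c29 LD3_c47) (LK LD1_c5 LD2_c4 LD3_c55) Lrfl Lrfl
theorem f256833 : Led Lsl_gf (LP (LK LD1_c2 LD2_c58 LD3_c28)) = (LP (LK LD1_c5 LD2_c4 LD3_c55)) :=
  Lgr Lrot181 (Lpr_ct (f194188 IH) (Lpr_gt (f256830 IH) (Lpe (f169078 IH) (Lpr_bt (f169077 IH) (Lpe (K11.f183079 IH) (Lpe (K15.f191291 IH) (Lpr_ct (K13.f182032 IH) (Lpr_gt (K14.f255274 IH) (Lpe (K15.f31629 IH) (Lpr_bt (f255286 IH) (Lpn (LP (LK LD1_c5 LD2_c4 LD3_c55)))))))))))))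
theorem f264910 : Led Lsl_df (LP (LK LD1_c2 LD2_c37 LD3_c43)) = (LP (LK LD1_c5 LD2_c4 LD3_c55)) :=
  Lgr Lrot155 (Lpr_gt (K13.f171995 IH) (Lpr_ct (K10.f171990 IH) (Lpr_gt (K15.f264902 IH) (Lpe (K10.f189567 IH) (Lpr_dt (K10.f189559 IH) (Lpe (f189572 IH) (Lpe (f256830 IH) (Lpe (f194188 IH) (Lpr_gf (f256833 IH) (Lpn (LP (LK LD1_c5 LD2_c4 LD3_c55))))))))))))
theorem f271243 : Led Lsl_ft (LP (LK LD1_c5 LD2_c12 LD3_c40)) = (LP (LK LD1_c5 LD2_c4 LD3_c55)) :=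
  Lgr Lrot54 (Lpr_df (f241900 IH) (Lpr_ff (f271239 IH) (Lpr_df (f264910 IH) (Lpn (LP (LK LD1_c5 LD2_c4 LD3_c55))))))
theorem f183865 : Led Lsl_dt (LP (LK LD1_c2 LD2_c58 LD3_c35)) = (LP (LK LD1_c1 LD2_c25 LD3_c1)) :=
  Lre_d IH (LK LD1_c2 LD2_c58 LD3_c35) (LK LD1_c1 LD2_c25 LD3_c1) Lrfl Lrfl
theorem f256255 : Led Lsl_gt (LP (LK LD1_c5 LD2_c12 LD3_c40)) = (LP (LK LD1_c2 LD2_c58 LD3_c35)) :=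
  Lgr Lrot49 (Lpr_df (f241900 IH) (Lpe (K15.f251034 IH) (Lpe (K15.f42526 IH) (Lpe (K14.f256088 IH) (Lpr_dt (K14.f249215 IH) (Lpr_gt (K14.f256251 IH) (Lpr_dt (K15.f183870 IH) (Lpe (K9.f183859 IH) (Lpe (f183865 IH) (Lpn (LP (LK LD1_c2 LD2_c58 LD3_c35))))))))))))
theorem f263510 : Led Lsl_gf (LP (LK LD1_c5 LD2_c22 LD3_c43)) = (LP (LK LD1_c2 LD2_c58 LD3_c35)) :=
  Lgr Lrot147 (Lpr_ct (K15.f257993 IH) (Lpr_gt (K15.f263482 IH) (Lpr_ct (K15.f182532 IH) (Lpe (K10.f182211 IH) (Lpr_cf (K9.f182520 IH) (Lpe (K10.f191098 IH) (Lpe (K10.f45242 IH) (Lpr_gf (K10.f187839 IH) (Lpe (f183865 IH) (Lpn (LP (LK LD1_c2 LD2_c58 LD3_c35))))))))))))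
theorem f271251 : Led Lsl_af (LP (LK LD1_c5 LD2_c22 LD3_c43)) = (LP (LK LD1_c5 LD2_c4 LD3_c55)) :=
  Lgr Lrot31 (Lpr_gf (f263510 IH) (Lpe (f256255 IH) (Lpr_ft (f271243 IH) (Lpn (LP (LK LD1_c5 LD2_c4 LD3_c55))))))
theorem f258015 : Led Lsl_ff (LP (LK LD1_c5 LD2_c22 LD3_c43)) = (LP (LK LD1_c5 LD2_c17 LD3_c41)) :=
  Lgr Lrot19 (Lpr_dt (K15.f256095 IH) (Lpr_ft (K15.f258013 IH) (Lpr_dt (K15.f184832 IH) (Lpn (LP (LK LD1_c5 LD2_c17 LD3_c41))))))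
theorem f260295 : Led Lsl_ft (LP (LK LD1_c10 LD2_c35 LD3_c44)) = (LP (LK LD1_c8 LD2_c13 LD3_c20)) :=
  Lgr Lrot4 (Lpe (K15.f257993 IH) (Lpr_ff (f258015 IH) (Lpr_cf (K15.f260283 IH) (Lpn (LP (LK LD1_c8 LD2_c13 LD3_c20))))))
theorem f260312 : Led Lsl_ff (LP (LK LD1_c10 LD2_c35 LD3_c44)) = (LP (LK LD1_c8 LD2_c13 LD3_c20)) :=
  Lgr Lrot3 (Lpr_ft (f260295 IH) (Lpn (LP (LK LD1_c8 LD2_c13 LD3_c20))))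
theorem f260316 : Led Lsl_ft (LP (LK LD1_c5 LD2_c22 LD3_c43)) = (LP (LK LD1_c5 LD2_c17 LD3_c41)) :=
  Lgr Lrot4 (Lpe (K15.f257994 IH) (Lpr_ff (f260312 IH) (Lpe (K15.f260288 IH) (Lpn (LP (LK LD1_c5 LD2_c17 LD3_c41))))))
theorem f271255 : Led Lsl_at (LP (LK LD1_c5 LD2_c17 LD3_c41)) = (LP (LK LD1_c5 LD2_c12 LD3_c40)) :=
  Lgr Lrot66 (Lpe (f260316 IH) (Lpr_af (f271251 IH) (Lpe (f271243 IH) (Lpn (LP (LK LD1_c5 LD2_c12 LD3_c40))))))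
theorem f258019 : Led Lsl_at (LP (LK LD1_c2 LD2_c36 LD3_c9)) = (LP (LK LD1_c2 LD2_c35 LD3_c35)) :=
  Lgr Lrot100 (Lpr_af (K15.f258017 IH) (Lpn (LP (LK LD1_c2 LD2_c35 LD3_c35))))
theorem f271261 : Led Lsl_df (LP (LK LD1_c2 LD2_c36 LD3_c9)) = (LP (LK LD1_c5 LD2_c12 LD3_c40)) :=
  Lgr Lrot18 (Lpr_at (f258019 IH) (Lpr_dt (K15.f184832 IH) (Lpr_at (f271255 IH) (Lpn (LP (LK LD1_c5 LD2_c12 LD3_c40))))))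
theorem f44241 : Led Lsl_et (LP (LK LD1_c2 LD2_c36 LD3_c8)) = (LP (LK LD1_c5 LD2_c19 LD3_c2)) :=
  Lre_e IH (LK LD1_c2 LD2_c36 LD3_c8) (LK LD1_c5 LD2_c19 LD3_c2) Lrfl Lrfl
theorem f271247 : Led Lsl_et (LP (LK LD1_c10 LD2_c15 LD3_c43)) = (LP (LK LD1_c5 LD2_c12 LD3_c40)) :=
  Lre_e IH (LK LD1_c10 LD2_c15 LD3_c43) (LK LD1_c5 LD2_c12 LD3_c40) Lrfl Lrfl
theorem f271276 : Led Lsl_dt (LP (LK LD1_c5 LD2_c19 LD3_c2)) = (LP (LK LD1_c10 LD2_c15 LD3_c43)) :=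
  Lgr Lrot77 (Lpe (f44241 IH) (Lpe (K11.f28308 IH) (Lpe (K15.f46358 IH) (Lpr_df (f271261 IH) (Lpe (f271247 IH) (Lpn (LP (LK LD1_c10 LD2_c15 LD3_c43))))))))
theorem f271282 : Led Lsl_df (LP (LK LD1_c5 LD2_c19 LD3_c2)) = (LP (LK LD1_c10 LD2_c15 LD3_c43)) :=
  Lgr Lrot38 (Lpr_dt (f271276 IH) (Lpn (LP (LK LD1_c10 LD2_c15 LD3_c43))))
theorem f260358 : Led Lsl_et (LP (LK LD1_c10 LD2_c24 LD3_c58)) = (LP (LK LD1_c5 LD2_c17 LD3_c41)) :=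
  Lre_e IH (LK LD1_c10 LD2_c24 LD3_c58) (LK LD1_c5 LD2_c17 LD3_c41) Lrfl Lrfl
theorem f271263 : Led Lsl_et (LP (LK LD1_c5 LD2_c12 LD3_c40)) = (LP (LK LD1_c10 LD2_c15 LD3_c43)) :=
  Lre_e IH (LK LD1_c5 LD2_c12 LD3_c40) (LK LD1_c10 LD2_c15 LD3_c43) Lrfl Lrfl
theorem f271264 : Led Lsl_af (LP (LK LD1_c10 LD2_c24 LD3_c58)) = (LP (LK LD1_c10 LD2_c15 LD3_c43)) :=
  Lgr Lrot50 (Lpr_et (f260358 IH) (Lpr_at (f271255 IH) (Lpr_et (f271263 IH) (Lpn (LP (LK LD1_c10 LD2_c15 LD3_c43))))))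
theorem f271266 : Led Lsl_at (LP (LK LD1_c10 LD2_c24 LD3_c58)) = (LP (LK LD1_c10 LD2_c15 LD3_c43)) :=
  Lgr Lrot100 (Lpr_af (f271264 IH) (Lpn (LP (LK LD1_c10 LD2_c15 LD3_c43))))
theorem f246212 : Led Lsl_dt (LP (LK LD1_c5 LD2_c17 LD3_c40)) = (LP (LK LD1_c10 LD2_c24 LD3_c58)) :=
  Lre_d IH (LK LD1_c5 LD2_c17 LD3_c40) (LK LD1_c10 LD2_c24 LD3_c58) Lrfl Lrfl
theorem f271289 : Led Lsl_at (LP (LK LD1_c5 LD2_c19 LD3_c2)) = (LP (LK LD1_c5 LD2_c17 LD3_c40)) :=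
  Lgr Lrot51 (Lpr_df (f271282 IH) (Lpe (f271266 IH) (Lpe (f246212 IH) (Lpn (LP (LK LD1_c5 LD2_c17 LD3_c40))))))
theorem f184726 : Led Lsl_ct (LP (LK LD1_c10 LD2_c27 LD3_c57)) = (LP (LK LD1_c5 LD2_c19 LD3_c2)) :=
  Lre_c IH (LK LD1_c10 LD2_c27 LD3_c57) (LK LD1_c5 LD2_c19 LD3_c2) Lrfl Lrfl
theorem f246214 : Led Lsl_ct (LP (LK LD1_c5 LD2_c17 LD3_c40)) = (LP (LK LD1_c10 LD2_c24 LD3_c56)) :=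
  Lre_c IH (LK LD1_c5 LD2_c17 LD3_c40) (LK LD1_c10 LD2_c24 LD3_c56) Lrfl Lrfl
theorem f271291 : Led Lsl_af (LP (LK LD1_c10 LD2_c27 LD3_c57)) = (LP (LK LD1_c10 LD2_c24 LD3_c56)) :=
  Lgr Lrot68 (Lpr_ct (f184726 IH) (Lpr_at (f271289 IH) (Lpr_ct (f246214 IH) (Lpn (LP (LK LD1_c10 LD2_c24 LD3_c56))))))
theorem f247975 : Led Lsl_et (LP (LK LD1_c10 LD2_c27 LD3_c57)) = (LP (LK LD1_c5 LD2_c19 LD3_c1)) :=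
  Lre_e IH (LK LD1_c10 LD2_c27 LD3_c57) (LK LD1_c5 LD2_c19 LD3_c1) Lrfl Lrfl
theorem f193119 : Led Lsl_et (LP (LK LD1_c5 LD2_c17 LD3_c39)) = (LP (LK LD1_c10 LD2_c24 LD3_c56)) :=
  Lre_e IH (LK LD1_c5 LD2_c17 LD3_c39) (LK LD1_c10 LD2_c24 LD3_c56) Lrfl Lrfl
theorem f271305 : Led Lsl_at (LP (LK LD1_c5 LD2_c19 LD3_c1)) = (LP (LK LD1_c5 LD2_c17 LD3_c39)) :=
  Lgr Lrot80 (Lpe (f247975 IH) (Lpr_af (f271291 IH) (Lpe (f193119 IH) (Lpn (LP (LK LD1_c5 LD2_c17 LD3_c39))))))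
theorem f271311 : Led Lsl_ff (LP (LK LD1_c5 LD2_c19 LD3_c1)) = (LP (LK LD1_c5 LD2_c19 LD3_c8)) :=
  Lgr Lrot52 (Lpr_at (f271305 IH) (Lpr_gf (K14.f184882 IH) (Lpe (K15.f257048 IH) (Lpn (LP (LK LD1_c5 LD2_c19 LD3_c8))))))
theorem f271320 : Led Lsl_ft (LP (LK LD1_c5 LD2_c19 LD3_c1)) = (LP (LK LD1_c5 LD2_c19 LD3_c8)) :=
  Lgr Lrot48 (Lpr_ff (f271311 IH) (Lpn (LP (LK LD1_c5 LD2_c19 LD3_c8))))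
theorem f271329 : Led Lsl_af (LP (LK LD1_c5 LD2_c18 LD3_c61)) = (LP (LK LD1_c5 LD2_c19 LD3_c8)) :=
  Lgr Lrot31 (Lpe (K10.f189538 IH) (Lpe (K15.f248192 IH) (Lpr_ft (f271320 IH) (Lpn (LP (LK LD1_c5 LD2_c19 LD3_c8))))))
theorem f271307 : Led Lsl_af (LP (LK LD1_c5 LD2_c19 LD3_c1)) = (LP (LK LD1_c5 LD2_c17 LD3_c39)) :=
  Lgr Lrot0 (Lpr_at (f271305 IH) (Lpn (LP (LK LD1_c5 LD2_c17 LD3_c39))))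
theorem f271341 : Led Lsl_ft (LP (LK LD1_c5 LD2_c18 LD3_c61)) = (LP (LK LD1_c5 LD2_c17 LD3_c39)) :=
  Lgr Lrot101 (Lpr_af (f271329 IH) (Lpe (f271320 IH) (Lpr_af (f271307 IH) (Lpn (LP (LK LD1_c5 LD2_c17 LD3_c39))))))
theorem f271349 : Led Lsl_ff (LP (LK LD1_c5 LD2_c18 LD3_c61)) = (LP (LK LD1_c5 LD2_c17 LD3_c39)) :=
  Lgr Lrot3 (Lpr_ft (f271341 IH) (Lpn (LP (LK LD1_c5 LD2_c17 LD3_c39))))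
theorem f271353 : Led Lsl_ft (LP (LK LD1_c9 LD2_c39 LD3_c56)) = (LP (LK LD1_c9 LD2_c40 LD3_c30)) :=
  Lgr Lrot54 (Lpr_df (K15.f248178 IH) (Lpr_ff (f271349 IH) (Lpe (K14.f193112 IH) (Lpn (LP (LK LD1_c9 LD2_c40 LD3_c30))))))
theorem f271309 : Led Lsl_af (LP (LK LD1_c9 LD2_c39 LD3_c57)) = (LP (LK LD1_c9 LD2_c40 LD3_c30)) :=
  Lgr Lrot117 (Lpr_dt (K14.f247960 IH) (Lpr_at (f271305 IH) (Lpe (K14.f193117 IH) (Lpn (LP (LK LD1_c9 LD2_c40 LD3_c30))))))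
theorem f257064 : Led Lsl_df (LP (LK LD1_c5 LD2_c19 LD3_c8)) = (LP (LK LD1_c9 LD2_c40 LD3_c29)) :=
  Lgr Lrot155 (Lpr_gt (K15.f257048 IH) (Lpr_ct (K15.f165337 IH) (Lpe (K14.f193130 IH) (Lpr_ct (K14.f43836 IH) (Lpr_dt (K14.f193135 IH) (Lpe (K15.f249378 IH) (Lpr_gf (K14.f249105 IH) (Lpr_cf (K15.f43436 IH) (Lpe (K15.f43803 IH) (Lpn (LP (LK LD1_c9 LD2_c40 LD3_c29))))))))))))
theorem f271317 : Led Lsl_ft (LP (LK LD1_c9 LD2_c39 LD3_c57)) = (LP (LK LD1_c9 LD2_c40 LD3_c29)) :=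
  Lgr Lrot54 (Lpr_df (K14.f247968 IH) (Lpr_ff (f271311 IH) (Lpr_df (f257064 IH) (Lpn (LP (LK LD1_c9 LD2_c40 LD3_c29))))))
theorem f271355 : Led Lsl_af (LP (LK LD1_c9 LD2_c39 LD3_c56)) = (LP (LK LD1_c9 LD2_c40 LD3_c29)) :=
  Lgr Lrot45 (Lpr_ft (f271353 IH) (Lpe (f271309 IH) (Lpr_ft (f271317 IH) (Lpn (LP (LK LD1_c9 LD2_c40 LD3_c29))))))
theorem f248185 : Led Lsl_et (LP (LK LD1_c9 LD2_c39 LD3_c56)) = (LP (LK LD1_c17 LD2_c46 LD3_c40)) :=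
  Lre_e IH (LK LD1_c9 LD2_c39 LD3_c56) (LK LD1_c17 LD2_c46 LD3_c40) Lrfl Lrfl
theorem f43805 : Led Lsl_et (LP (LK LD1_c17 LD2_c47 LD3_c50)) = (LP (LK LD1_c9 LD2_c40 LD3_c29)) :=
  Lre_e IH (LK LD1_c17 LD2_c47 LD3_c50) (LK LD1_c9 LD2_c40 LD3_c29) Lrfl Lrfl
theorem f271373 : Led Lsl_at (LP (LK LD1_c17 LD2_c46 LD3_c40)) = (LP (LK LD1_c17 LD2_c47 LD3_c50)) :=
  Lgr Lrot80 (Lpe (f248185 IH) (Lpr_af (f271355 IH) (Lpe (f43805 IH) (Lpn (LP (LK LD1_c17 LD2_c47 LD3_c50))))))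
theorem f248214 : Led Lsl_dt (LP (LK LD1_c27 LD2_c33 LD3_c24)) = (LP (LK LD1_c17 LD2_c46 LD3_c40)) :=
  Lre_d IH (LK LD1_c27 LD2_c33 LD3_c24) (LK LD1_c17 LD2_c46 LD3_c40) Lrfl Lrfl
theorem f43806 : Led Lsl_dt (LP (LK LD1_c17 LD2_c47 LD3_c50)) = (LP (LK LD1_c27 LD2_c35 LD3_c2)) :=
  Lre_d IH (LK LD1_c17 LD2_c47 LD3_c50) (LK LD1_c27 LD2_c35 LD3_c2) Lrfl Lrfl
theorem f271378 : Led Lsl_af (LP (LK LD1_c27 LD2_c33 LD3_c24)) = (LP (LK LD1_c27 LD2_c35 LD3_c2)) :=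
  Lgr Lrot117 (Lpr_dt (f248214 IH) (Lpr_at (f271373 IH) (Lpr_dt (f43806 IH) (Lpn (LP (LK LD1_c27 LD2_c35 LD3_c2))))))
theorem f43586 : Led Lsl_dt (LP (LK LD1_c17 LD2_c46 LD3_c40)) = (LP (LK LD1_c27 LD2_c33 LD3_c24)) :=
  Lre_d IH (LK LD1_c17 LD2_c46 LD3_c40) (LK LD1_c27 LD2_c33 LD3_c24) Lrfl Lrfl
theorem f189546 : Led Lsl_et (LP (LK LD1_c10 LD2_c27 LD3_c52)) = (LP (LK LD1_c5 LD2_c18 LD3_c61)) :=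
  Lre_e IH (LK LD1_c10 LD2_c27 LD3_c52) (LK LD1_c5 LD2_c18 LD3_c61) Lrfl Lrfl
theorem f248186 : Led Lsl_dt (LP (LK LD1_c18 LD2_c58 LD3_c12)) = (LP (LK LD1_c10 LD2_c27 LD3_c52)) :=
  Lre_d IH (LK LD1_c18 LD2_c58 LD3_c12) (LK LD1_c10 LD2_c27 LD3_c52) Lrfl Lrfl
theorem f248187 : Led Lsl_et (LP (LK LD1_c27 LD2_c33 LD3_c24)) = (LP (LK LD1_c18 LD2_c58 LD3_c12)) :=
  Lgr Lrot71 (Lpe (f43586 IH) (Lpe (f248185 IH) (Lpr_df (K15.f248178 IH) (Lpe (f189546 IH) (Lpe (f248186 IH) (Lpn (LP (LK LD1_c18 LD2_c58 LD3_c12))))))))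
theorem f257076 : Led Lsl_et (LP (LK LD1_c5 LD2_c19 LD3_c8)) = (LP (LK LD1_c10 LD2_c28 LD3_c4)) :=
  Lre_e IH (LK LD1_c5 LD2_c19 LD3_c8) (LK LD1_c10 LD2_c28 LD3_c4) Lrfl Lrfl
theorem f216749 : Led Lsl_dt (LP (LK LD1_c10 LD2_c28 LD3_c4)) = (LP (LK LD1_c18 LD2_c58 LD3_c21)) :=
  Lre_d IH (LK LD1_c10 LD2_c28 LD3_c4) (LK LD1_c18 LD2_c58 LD3_c21) Lrfl Lrfl
theorem f212420 : Led Lsl_dt (LP (LK LD1_c27 LD2_c35 LD3_c2)) = (LP (LK LD1_c17 LD2_c47 LD3_c50)) :=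
  Lre_d IH (LK LD1_c27 LD2_c35 LD3_c2) (LK LD1_c17 LD2_c47 LD3_c50) Lrfl Lrfl
theorem f257077 : Led Lsl_et (LP (LK LD1_c18 LD2_c58 LD3_c21)) = (LP (LK LD1_c27 LD2_c35 LD3_c2)) :=
  Lgr Lrot71 (Lpe (f216749 IH) (Lpe (f257076 IH) (Lpr_df (f257064 IH) (Lpe (f43805 IH) (Lpe (f212420 IH) (Lpn (LP (LK LD1_c27 LD2_c35 LD3_c2))))))))
theorem f271382 : Led Lsl_at (LP (LK LD1_c18 LD2_c58 LD3_c12)) = (LP (LK LD1_c18 LD2_c58 LD3_c21)) :=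
  Lgr Lrot80 (Lpe (f248187 IH) (Lpr_af (f271378 IH) (Lpe (f257077 IH) (Lpn (LP (LK LD1_c18 LD2_c58 LD3_c21))))))
theorem f189547 : Led Lsl_dt (LP (LK LD1_c10 LD2_c27 LD3_c52)) = (LP (LK LD1_c18 LD2_c58 LD3_c12)) :=
  Lre_d IH (LK LD1_c10 LD2_c27 LD3_c52) (LK LD1_c18 LD2_c58 LD3_c12) Lrfl Lrfl
theorem f193024 : Led Lsl_dt (LP (LK LD1_c18 LD2_c58 LD3_c21)) = (LP (LK LD1_c10 LD2_c28 LD3_c4)) :=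
  Lre_d IH (LK LD1_c18 LD2_c58 LD3_c21) (LK LD1_c10 LD2_c28 LD3_c4) Lrfl Lrfl
theorem f271386 : Led Lsl_af (LP (LK LD1_c10 LD2_c27 LD3_c52)) = (LP (LK LD1_c10 LD2_c28 LD3_c4)) :=
  Lgr Lrot117 (Lpr_dt (f189547 IH) (Lpr_at (f271382 IH) (Lpr_dt (f193024 IH) (Lpn (LP (LK LD1_c10 LD2_c28 LD3_c4))))))
theorem f45763 : Led Lsl_ct (LP (LK LD1_c10 LD2_c27 LD3_c52)) = (LP (LK LD1_c5 LD2_c19 LD3_c0)) :=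
  Lre_c IH (LK LD1_c10 LD2_c27 LD3_c52) (LK LD1_c5 LD2_c19 LD3_c0) Lrfl Lrfl
theorem f193026 : Led Lsl_ct (LP (LK LD1_c5 LD2_c19 LD3_c9)) = (LP (LK LD1_c10 LD2_c28 LD3_c4)) :=
  Lre_c IH (LK LD1_c5 LD2_c19 LD3_c9) (LK LD1_c10 LD2_c28 LD3_c4) Lrfl Lrfl
theorem f271390 : Led Lsl_at (LP (LK LD1_c5 LD2_c19 LD3_c0)) = (LP (LK LD1_c5 LD2_c19 LD3_c9)) :=
  Lgr Lrot107 (Lpe (f45763 IH) (Lpr_af (f271386 IH) (Lpe (f193026 IH) (Lpn (LP (LK LD1_c5 LD2_c19 LD3_c9))))))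
theorem f254531 : Led Lsl_ft (LP (LK LD1_c10 LD2_c27 LD3_c55)) = (LP (LK LD1_c5 LD2_c19 LD3_c0)) :=
  Lre_f IH (LK LD1_c10 LD2_c27 LD3_c55) (LK LD1_c5 LD2_c19 LD3_c0) Lrfl Lrfl
theorem f193038 : Led Lsl_ft (LP (LK LD1_c5 LD2_c19 LD3_c9)) = (LP (LK LD1_c10 LD2_c28 LD3_c6)) :=
  Lre_f IH (LK LD1_c5 LD2_c19 LD3_c9) (LK LD1_c10 LD2_c28 LD3_c6) Lrfl Lrfl
theorem f271398 : Led Lsl_af (LP (LK LD1_c10 LD2_c27 LD3_c55)) = (LP (LK LD1_c10 LD2_c28 LD3_c6)) :=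
  Lgr Lrot45 (Lpr_ft (f254531 IH) (Lpr_at (f271390 IH) (Lpr_ft (f193038 IH) (Lpn (LP (LK LD1_c10 LD2_c28 LD3_c6))))))
theorem f46365 : Led Lsl_et (LP (LK LD1_c2 LD2_c36 LD3_c7)) = (LP (LK LD1_c1 LD2_c15 LD3_c3)) :=
  Lre_e IH (LK LD1_c2 LD2_c36 LD3_c7) (LK LD1_c1 LD2_c15 LD3_c3) Lrfl Lrfl
theorem f44237 : Led Lsl_et (LP (LK LD1_c2 LD2_c36 LD3_c6)) = (LP (LK LD1_c5 LD2_c19 LD3_c0)) :=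
  Lre_e IH (LK LD1_c2 LD2_c36 LD3_c6) (LK LD1_c5 LD2_c19 LD3_c0) Lrfl Lrfl
theorem f250839 : Led Lsl_et (LP (LK LD1_c4 LD2_c16 LD3_c13)) = (LP (LK LD1_c2 LD2_c5 LD3_c28)) :=
  Lre_e IH (LK LD1_c4 LD2_c16 LD3_c13) (LK LD1_c2 LD2_c5 LD3_c28) Lrfl Lrfl
theorem f254520 : Led Lsl_dt (LP (LK LD1_c5 LD2_c19 LD3_c0)) = (LP (LK LD1_c4 LD2_c16 LD3_c13)) :=
  Lgr Lrot77 (Lpe (f44237 IH) (Lpe (K10.f28265 IH) (Lpe (f46365 IH) (Lpr_df (f254515 IH) (Lpe (f250839 IH) (Lpn (LP (LK LD1_c4 LD2_c16 LD3_c13))))))))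
theorem f254532 : Led Lsl_ft (LP (LK LD1_c4 LD2_c16 LD3_c13)) = (LP (LK LD1_c8 LD2_c31 LD3_c35)) :=
  Lre_f IH (LK LD1_c4 LD2_c16 LD3_c13) (LK LD1_c8 LD2_c31 LD3_c35) Lrfl Lrfl
theorem f254533 : Led Lsl_df (LP (LK LD1_c10 LD2_c27 LD3_c55)) = (LP (LK LD1_c8 LD2_c31 LD3_c35)) :=
  Lgr Lrot78 (Lpr_ft (f254531 IH) (Lpr_dt (f254520 IH) (Lpr_ft (f254532 IH) (Lpn (LP (LK LD1_c8 LD2_c31 LD3_c35))))))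
theorem f254544 : Led Lsl_dt (LP (LK LD1_c10 LD2_c27 LD3_c55)) = (LP (LK LD1_c8 LD2_c31 LD3_c35)) :=
  Lgr Lrot42 (Lpr_df (f254533 IH) (Lpn (LP (LK LD1_c8 LD2_c31 LD3_c35))))
theorem f193074 : Led Lsl_et (LP (LK LD1_c5 LD2_c19 LD3_c9)) = (LP (LK LD1_c2 LD2_c36 LD3_c14)) :=
  Lre_e IH (LK LD1_c5 LD2_c19 LD3_c9) (LK LD1_c2 LD2_c36 LD3_c14) Lrfl Lrfl
theorem f216742 : Led Lsl_et (LP (LK LD1_c2 LD2_c8 LD3_c26)) = (LP (LK LD1_c4 LD2_c21 LD3_c55)) :=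
  Lre_e IH (LK LD1_c2 LD2_c8 LD3_c26) (LK LD1_c4 LD2_c21 LD3_c55) Lrfl Lrfl
theorem f216743 : Led Lsl_df (LP (LK LD1_c5 LD2_c19 LD3_c9)) = (LP (LK LD1_c4 LD2_c21 LD3_c55)) :=
  Lgr Lrot70 (Lpr_et (f193074 IH) (Lpr_dt (K13.f43947 IH) (Lpr_et (K15.f184648 IH) (Lpr_dt (K12.f216734 IH) (Lpr_et (f216742 IH) (Lpn (LP (LK LD1_c4 LD2_c21 LD3_c55))))))))
theorem f216754 : Led Lsl_ft (LP (LK LD1_c8 LD2_c41 LD3_c29)) = (LP (LK LD1_c4 LD2_c21 LD3_c55)) :=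
  Lre_f IH (LK LD1_c8 LD2_c41 LD3_c29) (LK LD1_c4 LD2_c21 LD3_c55) Lrfl Lrfl
theorem f216755 : Led Lsl_dt (LP (LK LD1_c10 LD2_c28 LD3_c6)) = (LP (LK LD1_c8 LD2_c41 LD3_c29)) :=
  Lgr Lrot60 (Lpe (f193038 IH) (Lpr_df (f216743 IH) (Lpe (f216754 IH) (Lpn (LP (LK LD1_c8 LD2_c41 LD3_c29))))))
theorem f216761 : Led Lsl_df (LP (LK LD1_c10 LD2_c28 LD3_c6)) = (LP (LK LD1_c8 LD2_c41 LD3_c29)) :=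
  Lgr Lrot38 (Lpr_dt (f216755 IH) (Lpn (LP (LK LD1_c8 LD2_c41 LD3_c29))))
theorem f271404 : Led Lsl_at (LP (LK LD1_c8 LD2_c31 LD3_c35)) = (LP (LK LD1_c8 LD2_c41 LD3_c29)) :=
  Lgr Lrot51 (Lpe (f254544 IH) (Lpr_af (f271398 IH) (Lpr_df (f216761 IH) (Lpn (LP (LK LD1_c8 LD2_c41 LD3_c29))))))
theorem f216763 : Led Lsl_bt (LP (LK LD1_c4 LD2_c21 LD3_c61)) = (LP (LK LD1_c8 LD2_c41 LD3_c29)) :=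
  Lre_b IH (LK LD1_c4 LD2_c21 LD3_c61) (LK LD1_c8 LD2_c41 LD3_c29) Lrfl Lrfl
theorem f269880 : Led Lsl_bt (LP (LK LD1_c14 LD2_c57 LD3_c25)) = (LP (LK LD1_c7 LD2_c55 LD3_c47)) :=
  Lre_b IH (LK LD1_c14 LD2_c57 LD3_c25) (LK LD1_c7 LD2_c55 LD3_c47) Lrfl Lrfl
theorem f269881 : Led Lsl_et (LP (LK LD1_c8 LD2_c41 LD3_c29)) = (LP (LK LD1_c14 LD2_c57 LD3_c25)) :=
  Lgr Lrot74 (Lpe (f216763 IH) (Lpr_ef (f269876 IH) (Lpe (f269880 IH) (Lpn (LP (LK LD1_c14 LD2_c57 LD3_c25))))))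
theorem f271410 : Led Lsl_ef (LP (LK LD1_c8 LD2_c31 LD3_c35)) = (LP (LK LD1_c15 LD2_c57 LD3_c6)) :=
  Lgr Lrot20 (Lpr_at (f271404 IH) (Lpr_et (f269881 IH) (Lpe (f270518 IH) (Lpn (LP (LK LD1_c15 LD2_c57 LD3_c6))))))
theorem f271416 : Led Lsl_et (LP (LK LD1_c8 LD2_c31 LD3_c35)) = (LP (LK LD1_c15 LD2_c57 LD3_c6)) :=
  Lgr Lrot87 (Lpr_ef (f271410 IH) (Lpn (LP (LK LD1_c15 LD2_c57 LD3_c6))))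
theorem f254539 : Led Lsl_bt (LP (LK LD1_c4 LD2_c16 LD3_c20)) = (LP (LK LD1_c8 LD2_c31 LD3_c35)) :=
  Lre_b IH (LK LD1_c4 LD2_c16 LD3_c20) (LK LD1_c8 LD2_c31 LD3_c35) Lrfl Lrfl
theorem f271418 : Led Lsl_ef (LP (LK LD1_c4 LD2_c16 LD3_c20)) = (LP (LK LD1_c8 LD2_c29 LD3_c52)) :=
  Lgr Lrot29 (Lpr_bt (f254539 IH) (Lpr_et (f271416 IH) (Lpr_bt (f270517 IH) (Lpn (LP (LK LD1_c8 LD2_c29 LD3_c52))))))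
theorem f271423 : Led Lsl_ft (LP (LK LD1_c4 LD2_c16 LD3_c20)) = (LP (LK LD1_c2 LD2_c5 LD3_c30)) :=
  Lre_f IH (LK LD1_c4 LD2_c16 LD3_c20) (LK LD1_c2 LD2_c5 LD3_c30) Lrfl Lrfl
theorem f250749 : Led Lsl_ft (LP (LK LD1_c4 LD2_c15 LD3_c28)) = (LP (LK LD1_c8 LD2_c29 LD3_c52)) :=
  Lre_f IH (LK LD1_c4 LD2_c15 LD3_c28) (LK LD1_c8 LD2_c29 LD3_c52) Lrfl Lrfl
theorem f250740 : Led Lsl_et (LP (LK LD1_c2 LD2_c5 LD3_c6)) = (LP (LK LD1_c4 LD2_c15 LD3_c28)) :=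
  Lre_e IH (LK LD1_c2 LD2_c5 LD3_c6) (LK LD1_c4 LD2_c15 LD3_c28) Lrfl Lrfl
theorem f271424 : Led Lsl_ft (LP (LK LD1_c0 LD2_c59 LD3_c47)) = (LP (LK LD1_c2 LD2_c5 LD3_c6)) :=
  Lgr Lrot86 (Lpe (K13.f601 IH) (Lpe (f271423 IH) (Lpr_ef (f271418 IH) (Lpe (f250749 IH) (Lpe (f250740 IH) (Lpn (LP (LK LD1_c2 LD2_c5 LD3_c6))))))))
theorem f271430 : Led Lsl_ff (LP (LK LD1_c0 LD2_c59 LD3_c47)) = (LP (LK LD1_c2 LD2_c5 LD3_c6)) :=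
  Lgr Lrot3 (Lpr_ft (f271424 IH) (Lpn (LP (LK LD1_c2 LD2_c5 LD3_c6))))
theorem f271435 : Led Lsl_at (LP (LK LD1_c0 LD2_c59 LD3_c47)) = (LP (LK LD1_c2 LD2_c5 LD3_c7)) :=
  Lgr Lrot26 (Lpr_ff (f271430 IH) (Lpr_gt (K15.f27369 IH) (Lpr_gt (K10.f27367 IH) (Lpn (LP (LK LD1_c2 LD2_c5 LD3_c7))))))
theorem f237764 : Led Lsl_bf (LP (LK LD1_c1 LD2_c1 LD3_c22)) = (LP (LK LD1_c0 LD2_c59 LD3_c46)) :=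
  Lgr Lrot24 (Lpr_bt (K13.f237727 IH) (Lpn (LP (LK LD1_c0 LD2_c59 LD3_c46))))
theorem f269830 : Led Lsl_ff (LP (LK LD1_c0 LD2_c59 LD3_c46)) = (LP (LK LD1_c2 LD2_c5 LD3_c7)) :=
  Lgr Lrot25 (Lpe (f237764 IH) (Lpr_ft (f269828 IH) (Lpe (K15.f229761 IH) (Lpn (LP (LK LD1_c2 LD2_c5 LD3_c7))))))
theorem f271443 : Led Lsl_af (LP (LK LD1_c2 LD2_c5 LD3_c6)) = (LP (LK LD1_c0 LD2_c59 LD3_c46)) :=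
  Lgr Lrot45 (Lpe (f271430 IH) (Lpr_at (f271435 IH) (Lpe (f269830 IH) (Lpn (LP (LK LD1_c0 LD2_c59 LD3_c46))))))
theorem f270698 : Led Lsl_dt (LP (LK LD1_c8 LD2_c29 LD3_c49)) = (LP (LK LD1_c4 LD2_c15 LD3_c27)) :=
  Lre_d IH (LK LD1_c8 LD2_c29 LD3_c49) (LK LD1_c4 LD2_c15 LD3_c27) Lrfl Lrfl
theorem f181184 : Led Lsl_bt (LP (LK LD1_c0 LD2_c39 LD3_c15)) = (LP (LK LD1_c1 LD2_c25 LD3_c9)) :=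
  Lre_b IH (LK LD1_c0 LD2_c39 LD3_c15) (LK LD1_c1 LD2_c25 LD3_c9) Lrfl Lrfl
theorem f181784 : Led Lsl_dt (LP (LK LD1_c1 LD2_c25 LD3_c9)) = (LP (LK LD1_c1 LD2_c2 LD3_c57)) :=
  Lgr Lrot79 (Lpe (f181184 IH) (Lpr_df (K9.f181218 IH) (Lpe (K12.f167923 IH) (Lpn (LP (LK LD1_c1 LD2_c2 LD3_c57))))))
theorem f271447 : Led Lsl_cf (LP (LK LD1_c8 LD2_c29 LD3_c49)) = (LP (LK LD1_c4 LD2_c29 LD3_c51)) :=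
  Lgr Lrot161 (Lpr_dt (f270698 IH) (Lpr_ct (f52030 IH) (Lpr_af (f271443 IH) (Lpr_ff (f269830 IH) (Lpr_dt (K15.f48241 IH) (Lpe (K15.f182068 IH) (Lpr_dt (f181784 IH) (Lpr_ct (K12.f167924 IH) (Lpr_dt (K15.f182081 IH) (Lpn (LP (LK LD1_c4 LD2_c29 LD3_c51))))))))))))
theorem f197006 : Led Lsl_gt (LP (LK LD1_c4 LD2_c15 LD3_c42)) = (LP (LK LD1_c2 LD2_c5 LD3_c12)) :=
  Lre_g IH (LK LD1_c4 LD2_c15 LD3_c42) (LK LD1_c2 LD2_c5 LD3_c12) Lrfl Lrfl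
theorem f243525 : Led Lsl_dt (LP (LK LD1_c8 LD2_c30 LD3_c24)) = (LP (LK LD1_c4 LD2_c15 LD3_c42)) :=
  Lre_d IH (LK LD1_c8 LD2_c30 LD3_c24) (LK LD1_c4 LD2_c15 LD3_c42) Lrfl Lrfl
theorem f271454 : Led Lsl_gt (LP (LK LD1_c8 LD2_c29 LD3_c49)) = (LP (LK LD1_c8 LD2_c30 LD3_c24)) :=
  Lgr Lrot94 (Lpr_cf (f271447 IH) (Lpr_gt (K15.f262865 IH) (Lpr_dt (K15.f244700 IH) (Lpr_gt (K15.f245089 IH) (Lpe (K13.f243609 IH) (Lpe (K13.f243520 IH) (Lpe (K13.f683 IH) (Lpe (f197006 IH) (Lpe (f243525 IH) (Lpn (LP (LK LD1_c8 LD2_c30 LD3_c24))))))))))))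
theorem f53372 : Led Lsl_ct (LP (LK LD1_c2 LD2_c5 LD3_c6)) = (LP (LK LD1_c4 LD2_c15 LD3_c27)) :=
  Lre_c IH (LK LD1_c2 LD2_c5 LD3_c6) (LK LD1_c4 LD2_c15 LD3_c27) Lrfl Lrfl
theorem f807 : Led Lsl_gt (LP (LK LD1_c0 LD2_c59 LD3_c38)) = (LP (LK LD1_c2 LD2_c5 LD3_c6)) :=
  Lre_g IH (LK LD1_c0 LD2_c59 LD3_c38) (LK LD1_c2 LD2_c5 LD3_c6) Lrfl Lrfl
theorem f887 : Led Lsl_ct (LP (LK LD1_c2 LD2_c5 LD3_c8)) = (LP (LK LD1_c0 LD2_c59 LD3_c38)) :=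
  Lre_c IH (LK LD1_c2 LD2_c5 LD3_c8) (LK LD1_c0 LD2_c59 LD3_c38) Lrfl Lrfl
theorem f896 : Led Lsl_gt (LP (LK LD1_c4 LD2_c15 LD3_c32)) = (LP (LK LD1_c2 LD2_c5 LD3_c8)) :=
  Lre_g IH (LK LD1_c4 LD2_c15 LD3_c32) (LK LD1_c2 LD2_c5 LD3_c8) Lrfl Lrfl
theorem f49072 : Led Lsl_dt (LP (LK LD1_c4 LD2_c15 LD3_c32)) = (LP (LK LD1_c8 LD2_c30 LD3_c0)) :=
  Lre_d IH (LK LD1_c4 LD2_c15 LD3_c32) (LK LD1_c8 LD2_c30 LD3_c0) Lrfl Lrfl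
theorem f261406 : Led Lsl_ft (LP (LK LD1_c1 LD2_c17 LD3_c24)) = (LP (LK LD1_c0 LD2_c35 LD3_c46)) :=
  Lre_f IH (LK LD1_c1 LD2_c17 LD3_c24) (LK LD1_c0 LD2_c35 LD3_c46) Lrfl Lrfl
theorem f261407 : Led Lsl_at (LP (LK LD1_c0 LD2_c35 LD3_c46)) = (LP (LK LD1_c1 LD2_c17 LD3_c13)) :=
  Lre_a IH (LK LD1_c0 LD2_c35 LD3_c46) (LK LD1_c1 LD2_c17 LD3_c13) Lrfl Lrfl
theorem f261408 : Led Lsl_gf (LP (LK LD1_c1 LD2_c17 LD3_c13)) = (LP (LK LD1_c1 LD2_c14 LD3_c49)) :=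
  Lgr Lrot76 (Lpe (f261407 IH) (Lpe (f261406 IH) (Lpr_gt (K15.f261404 IH) (Lpn (LP (LK LD1_c1 LD2_c14 LD3_c49))))))
theorem f49071 : Led Lsl_gt (LP (LK LD1_c2 LD2_c5 LD3_c35)) = (LP (LK LD1_c4 LD2_c15 LD3_c32)) :=
  Lre_g IH (LK LD1_c2 LD2_c5 LD3_c35) (LK LD1_c4 LD2_c15 LD3_c32) Lrfl Lrfl
theorem f243320 : Led Lsl_dt (LP (LK LD1_c8 LD2_c30 LD3_c12)) = (LP (LK LD1_c4 LD2_c15 LD3_c37)) :=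
  Lre_d IH (LK LD1_c8 LD2_c30 LD3_c12) (LK LD1_c4 LD2_c15 LD3_c37) Lrfl Lrfl
theorem f263152 : Led Lsl_gt (LP (LK LD1_c8 LD2_c30 LD3_c0)) = (LP (LK LD1_c8 LD2_c30 LD3_c12)) :=
  Lgr Lrot49 (Lpe (f49072 IH) (Lpe (f49071 IH) (Lpe (K11.f49070 IH) (Lpr_gt (K10.f27367 IH) (Lpr_dt (K15.f48241 IH) (Lpe (f261408 IH) (Lpr_dt (K15.f263140 IH) (Lpe (K15.f243354 IH) (Lpe (f243320 IH) (Lpn (LP (LK LD1_c8 LD2_c30 LD3_c12))))))))))))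
theorem f243276 : Led Lsl_ct (LP (LK LD1_c2 LD2_c5 LD3_c22)) = (LP (LK LD1_c0 LD2_c59 LD3_c44)) :=
  Lre_c IH (LK LD1_c2 LD2_c5 LD3_c22) (LK LD1_c0 LD2_c59 LD3_c44) Lrfl Lrfl
theorem f243380 : Led Lsl_dt (LP (LK LD1_c4 LD2_c15 LD3_c60)) = (LP (LK LD1_c2 LD2_c5 LD3_c22)) :=
  Lre_d IH (LK LD1_c4 LD2_c15 LD3_c60) (LK LD1_c2 LD2_c5 LD3_c22) Lrfl Lrfl
theorem f243614 : Led Lsl_ct (LP (LK LD1_c2 LD2_c40 LD3_c19)) = (LP (LK LD1_c4 LD2_c15 LD3_c60)) :=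
  Lgr Lrot176 (Lpe (K14.f243522 IH) (Lpe (K13.f236001 IH) (Lpe (K13.f235781 IH) (Lpe (K13.f196997 IH) (Lpe (K13.f635 IH) (Lpe (K13.f197005 IH) (Lpe (K13.f243469 IH) (Lpr_cf (K13.f243502 IH) (Lpr_df (K13.f243609 IH) (Lpe (K13.f243608 IH) (Lpe (K13.f234213 IH) (Lpe (K13.f53437 IH) (Lpe (K14.f1381 IH) (Lpe (f243276 IH) (Lpe (f243380 IH) (Lpn (LP (LK LD1_c4 LD2_c15 LD3_c60))))))))))))))))))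
theorem f244696 : Led Lsl_gf (LP (LK LD1_c4 LD2_c15 LD3_c37)) = (LP (LK LD1_c8 LD2_c26 LD3_c32)) :=
  Lgr Lrot147 (Lpr_ct (K15.f243354 IH) (Lpr_gt (K15.f243355 IH) (Lpr_ct (K14.f53430 IH) (Lpe (f243380 IH) (Lpe (f243614 IH) (Lpr_gf (K14.f244675 IH) (Lpe (K13.f188943 IH) (Lpe (K13.f875 IH) (Lpr_df (K13.f243284 IH) (Lpn (LP (LK LD1_c8 LD2_c26 LD3_c32))))))))))))
theorem f243373 : Led Lsl_dt (LP (LK LD1_c4 LD2_c15 LD3_c37)) = (LP (LK LD1_c8 LD2_c30 LD3_c12)) :=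
  Lre_d IH (LK LD1_c4 LD2_c15 LD3_c37) (LK LD1_c8 LD2_c30 LD3_c12) Lrfl Lrfl
theorem f1024 : Led Lsl_gt (LP (LK LD1_c2 LD2_c5 LD3_c34)) = (LP (LK LD1_c4 LD2_c16 LD3_c33)) :=
  Lre_g IH (LK LD1_c2 LD2_c5 LD3_c34) (LK LD1_c4 LD2_c16 LD3_c33) Lrfl Lrfl
theorem f188958 : Led Lsl_ct (LP (LK LD1_c4 LD2_c16 LD3_c35)) = (LP (LK LD1_c2 LD2_c5 LD3_c34)) :=
  Lre_c IH (LK LD1_c4 LD2_c16 LD3_c35) (LK LD1_c2 LD2_c5 LD3_c34) Lrfl Lrfl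
theorem f243635 : Led Lsl_dt (LP (LK LD1_c2 LD2_c40 LD3_c17)) = (LP (LK LD1_c5 LD2_c27 LD3_c54)) :=
  Lre_d IH (LK LD1_c2 LD2_c40 LD3_c17) (LK LD1_c5 LD2_c27 LD3_c54) Lrfl Lrfl
theorem f244708 : Led Lsl_ct (LP (LK LD1_c8 LD2_c30 LD3_c12)) = (LP (LK LD1_c5 LD2_c27 LD3_c54)) :=
  Lgr Lrot7 (Lpe (f243373 IH) (Lpr_gf (f244696 IH) (Lpe (K13.f243306 IH) (Lpe (f1024 IH) (Lpe (f188958 IH) (Lpr_gt (K13.f52087 IH) (Lpr_dt (K13.f243616 IH) (Lpe (K13.f243633 IH) (Lpr_dt (f243635 IH) (Lpn (LP (LK LD1_c5 LD2_c27 LD3_c54))))))))))))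
theorem f271458 : Led Lsl_gt (LP (LK LD1_c5 LD2_c27 LD3_c54)) = (LP (LK LD1_c4 LD2_c29 LD3_c51)) :=
  Lgr Lrot150 (Lpe (f244708 IH) (Lpe (f263152 IH) (Lpe (f49072 IH) (Lpr_gt (f896 IH) (Lpr_ct (f887 IH) (Lpr_gt (f807 IH) (Lpr_ct (f53372 IH) (Lpe (f270698 IH) (Lpr_cf (f271447 IH) (Lpn (LP (LK LD1_c4 LD2_c29 LD3_c51))))))))))))
theorem f235776 : Led Lsl_dt (LP (LK LD1_c5 LD2_c27 LD3_c38)) = (LP (LK LD1_c2 LD2_c40 LD3_c11)) :=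
  Lre_d IH (LK LD1_c5 LD2_c27 LD3_c38) (LK LD1_c2 LD2_c40 LD3_c11) Lrfl Lrfl
theorem f271460 : Led Lsl_ct (LP (LK LD1_c8 LD2_c30 LD3_c24)) = (LP (LK LD1_c5 LD2_c27 LD3_c38)) :=
  Lgr Lrot110 (Lpe (f271454 IH) (Lpr_cf (f271447 IH) (Lpe (f271458 IH) (Lpe (f243635 IH) (Lpr_gt (K13.f243632 IH) (Lpr_ct (K14.f7892 IH) (Lpr_gt (K13.f168542 IH) (Lpr_ct (K13.f173955 IH) (Lpe (f235776 IH) (Lpn (LP (LK LD1_c5 LD2_c27 LD3_c38))))))))))))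
theorem f53373 : Led Lsl_gt (LP (LK LD1_c4 LD2_c15 LD3_c27)) = (LP (LK LD1_c8 LD2_c29 LD3_c47)) :=
  Lre_g IH (LK LD1_c4 LD2_c15 LD3_c27) (LK LD1_c8 LD2_c29 LD3_c47) Lrfl Lrfl
theorem f251113 : Led Lsl_gf (LP (LK LD1_c4 LD2_c15 LD3_c42)) = (LP (LK LD1_c2 LD2_c5 LD3_c22)) :=
  Lgr Lrot47 (Lpr_gt (f197006 IH) (Lpr_af (K14.f251101 IH) (Lpe (K14.f251089 IH) (Lpn (LP (LK LD1_c2 LD2_c5 LD3_c22))))))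
theorem f244735 : Led Lsl_dt (LP (LK LD1_c4 LD2_c15 LD3_c42)) = (LP (LK LD1_c8 LD2_c30 LD3_c24)) :=
  Lre_d IH (LK LD1_c4 LD2_c15 LD3_c42) (LK LD1_c8 LD2_c30 LD3_c24) Lrfl Lrfl
theorem f48247 : Led Lsl_dt (LP (LK LD1_c8 LD2_c29 LD3_c54)) = (LP (LK LD1_c4 LD2_c15 LD3_c29)) :=
  Lre_d IH (LK LD1_c8 LD2_c29 LD3_c54) (LK LD1_c4 LD2_c15 LD3_c29) Lrfl Lrfl
theorem f261412 : Led Lsl_gt (LP (LK LD1_c8 LD2_c30 LD3_c24)) = (LP (LK LD1_c8 LD2_c29 LD3_c54)) :=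
  Lgr Lrot49 (Lpe (f244735 IH) (Lpr_gf (f251113 IH) (Lpe (K14.f53430 IH) (Lpe (K13.f243274 IH) (Lpr_dt (K15.f245877 IH) (Lpr_gt (K15.f261404 IH) (Lpe (K10.f48190 IH) (Lpe (f48249 IH) (Lpe (f48247 IH) (Lpn (LP (LK LD1_c8 LD2_c29 LD3_c54))))))))))))
theorem f53859 : Led Lsl_dt (LP (LK LD1_c5 LD2_c14 LD3_c54)) = (LP (LK LD1_c10 LD2_c19 LD3_c11)) :=
  Lre_d IH (LK LD1_c5 LD2_c14 LD3_c54) (LK LD1_c10 LD2_c19 LD3_c11) Lrfl Lrfl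
theorem f188610 : Led Lsl_dt (LP (LK LD1_c8 LD2_c26 LD3_c50)) = (LP (LK LD1_c4 LD2_c14 LD3_c9)) :=
  Lre_d IH (LK LD1_c8 LD2_c26 LD3_c50) (LK LD1_c4 LD2_c14 LD3_c9) Lrfl Lrfl
theorem f271473 : Led Lsl_gf (LP (LK LD1_c8 LD2_c26 LD3_c50)) = (LP (LK LD1_c5 LD2_c27 LD3_c38)) :=
  Lgr Lrot148 (Lpr_dt (f188610 IH) (Lpe (K12.f188599 IH) (Lpr_dt (K12.f188605 IH) (Lpr_ct (K12.f188921 IH) (Lpe (f53859 IH) (Lpe (f189093 IH) (Lpe (f48247 IH) (Lpe (f261412 IH) (Lpr_ct (f271460 IH) (Lpn (LP (LK LD1_c5 LD2_c27 LD3_c38))))))))))))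
theorem f33500 : Led Lsl_dt (LP (LK LD1_c5 LD2_c14 LD3_c61)) = (LP (LK LD1_c2 LD2_c34 LD3_c20)) :=
  Lre_d IH (LK LD1_c5 LD2_c14 LD3_c61) (LK LD1_c2 LD2_c34 LD3_c20) Lrfl Lrfl
theorem f188972 : Led Lsl_ft (LP (LK LD1_c8 LD2_c56 LD3_c24)) = (LP (LK LD1_c5 LD2_c14 LD3_c61)) :=
  Lgr Lrot54 (Lpe (K12.f188605 IH) (Lpr_ff (K12.f188937 IH) (Lpe (f33500 IH) (Lpn (LP (LK LD1_c5 LD2_c14 LD3_c61))))))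
theorem f33467 : Led Lsl_dt (LP (LK LD1_c2 LD2_c34 LD3_c20)) = (LP (LK LD1_c5 LD2_c14 LD3_c61)) :=
  Lre_d IH (LK LD1_c2 LD2_c34 LD3_c20) (LK LD1_c5 LD2_c14 LD3_c61) Lrfl Lrfl
theorem f33468 : Led Lsl_at (LP (LK LD1_c5 LD2_c14 LD3_c61)) = (LP (LK LD1_c5 LD2_c14 LD3_c56)) :=
  Lgr Lrot51 (Lpe (f33467 IH) (Lpr_af (K10.f33457 IH) (Lpe (K12.f33438 IH) (Lpn (LP (LK LD1_c5 LD2_c14 LD3_c56))))))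
theorem f189063 : Led Lsl_gt (LP (LK LD1_c8 LD2_c26 LD3_c45)) = (LP (LK LD1_c5 LD2_c14 LD3_c56)) :=
  Lgr Lrot46 (Lpe (K13.f188608 IH) (Lpr_ft (f188972 IH) (Lpr_at (f33468 IH) (Lpn (LP (LK LD1_c5 LD2_c14 LD3_c56))))))
theorem f52210 : Led Lsl_dt (LP (LK LD1_c2 LD2_c5 LD3_c32)) = (LP (LK LD1_c4 LD2_c16 LD3_c27)) :=
  Lre_d IH (LK LD1_c2 LD2_c5 LD3_c32) (LK LD1_c4 LD2_c16 LD3_c27) Lrfl Lrfl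
theorem f188613 : Led Lsl_dt (LP (LK LD1_c4 LD2_c14 LD3_c9)) = (LP (LK LD1_c8 LD2_c26 LD3_c50)) :=
  Lre_d IH (LK LD1_c4 LD2_c14 LD3_c9) (LK LD1_c8 LD2_c26 LD3_c50) Lrfl Lrfl
theorem f218174 : Led Lsl_cf (LP (LK LD1_c4 LD2_c16 LD3_c27)) = (LP (LK LD1_c8 LD2_c26 LD3_c50)) :=
  Lgr Lrot14 (Lpe (f52210 IH) (Lpe (K9.f52209 IH) (Lpe (K12.f53412 IH) (Lpe (K13.f875 IH) (Lpe (K15.f188954 IH) (Lpr_gt (f189063 IH) (Lpr_dt (K12.f33438 IH) (Lpr_gt (K12.f218138 IH) (Lpr_dt (f188613 IH) (Lpn (LP (LK LD1_c8 LD2_c26 LD3_c50))))))))))))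
theorem f271475 : Led Lsl_ct (LP (LK LD1_c8 LD2_c29 LD3_c47)) = (LP (LK LD1_c4 LD2_c29 LD3_c1)) :=
  Lgr Lrot152 (Lpe (f53373 IH) (Lpe (f270698 IH) (Lpr_gt (f271454 IH) (Lpr_ct (f271460 IH) (Lpe (f271473 IH) (Lpe (f218174 IH) (Lpe (f52210 IH) (Lpe (K9.f53423 IH) (Lpr_gf (K10.f188731 IH) (Lpn (LP (LK LD1_c4 LD2_c29 LD3_c1))))))))))))
theorem f243404 : Led Lsl_dt (LP (LK LD1_c8 LD2_c30 LD3_c21)) = (LP (LK LD1_c4 LD2_c15 LD3_c41)) :=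
  Lre_d IH (LK LD1_c8 LD2_c30 LD3_c21) (LK LD1_c4 LD2_c15 LD3_c41) Lrfl Lrfl
theorem f261416 : Led Lsl_df (LP (LK LD1_c5 LD2_c29 LD3_c23)) = (LP (LK LD1_c4 LD2_c13 LD3_c51)) :=
  Lgr Lrot155 (Lpr_gt (f251785 IH) (Lpr_ct (K15.f251784 IH) (Lpr_gt (K15.f261404 IH) (Lpe (K15.f182068 IH) (Lpr_dt (f181784 IH) (Lpe (K15.f182082 IH) (Lpe (K12.f217945 IH) (Lpe (K12.f187221 IH) (Lpe (K12.f27450 IH) (Lpn (LP (LK LD1_c4 LD2_c13 LD3_c51))))))))))))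
theorem f261455 : Led Lsl_df (LP (LK LD1_c2 LD2_c45 LD3_c23)) = (LP (LK LD1_c2 LD2_c41 LD3_c10)) :=
  Lgr Lrot162 (Lpe (K13.f243637 IH) (Lpr_gf (K13.f243633 IH) (Lpe (K13.f243608 IH) (Lpr_gf (K15.f250929 IH) (Lpr_dt (K13.f235995 IH) (Lpr_gt (K15.f261448 IH) (Lpe (K15.f261441 IH) (Lpr_gt (K15.f257953 IH) (Lpr_ct (K15.f245893 IH) (Lpn (LP (LK LD1_c2 LD2_c41 LD3_c10))))))))))))
theorem f243642 : Led Lsl_dt (LP (LK LD1_c5 LD2_c27 LD3_c54)) = (LP (LK LD1_c2 LD2_c40 LD3_c17)) :=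
  Lre_d IH (LK LD1_c5 LD2_c27 LD3_c54) (LK LD1_c2 LD2_c40 LD3_c17) Lrfl Lrfl
theorem f221316 : Led Lsl_dt (LP (LK LD1_c2 LD2_c41 LD3_c46)) = (LP (LK LD1_c5 LD2_c30 LD3_c61)) :=
  Lre_d IH (LK LD1_c2 LD2_c41 LD3_c46) (LK LD1_c5 LD2_c30 LD3_c61) Lrfl Lrfl
theorem f261472 : Led Lsl_gf (LP (LK LD1_c5 LD2_c27 LD3_c54)) = (LP (LK LD1_c5 LD2_c30 LD3_c61)) :=
  Lgr Lrot143 (Lpr_dt (f243642 IH) (Lpe (K14.f243640 IH) (Lpr_df (f261455 IH) (Lpe (f251785 IH) (Lpr_df (f261416 IH) (Lpe (K12.f27399 IH) (Lpe (K11.f50874 IH) (Lpr_gt (K15.f261465 IH) (Lpr_dt (f221316 IH) (Lpn (LP (LK LD1_c5 LD2_c30 LD3_c61))))))))))))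
theorem f262772 : Led Lsl_gf (LP (LK LD1_c2 LD2_c5 LD3_c22)) = (LP (LK LD1_c4 LD2_c15 LD3_c41)) :=
  Lgr Lrot76 (Lpr_af (K15.f262763 IH) (Lpe (K15.f262770 IH) (Lpr_gt (K15.f243213 IH) (Lpn (LP (LK LD1_c4 LD2_c15 LD3_c41))))))
theorem f262904 : Led Lsl_gt (LP (LK LD1_c8 LD2_c29 LD3_c54)) = (LP (LK LD1_c8 LD2_c30 LD3_c21)) :=
  Lgr Lrot180 (Lpr_ct (K15.f262890 IH) (Lpe (f261472 IH) (Lpr_dt (f243642 IH) (Lpr_gt (K13.f243632 IH) (Lpr_dt (K14.f243522 IH) (Lpr_ct (f243614 IH) (Lpe (K14.f243381 IH) (Lpr_gf (f262772 IH) (Lpe (f243404 IH) (Lpn (LP (LK LD1_c8 LD2_c30 LD3_c21))))))))))))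
theorem f271491 : Led Lsl_gt (LP (LK LD1_c8 LD2_c29 LD3_c47)) = (LP (LK LD1_c4 LD2_c15 LD3_c29)) :=
  Lgr Lrot180 (Lpr_ct (f271475 IH) (Lpe (K10.f188731 IH) (Lpr_dt (f170505 IH) (Lpe (K15.f263680 IH) (Lpe (K15.f261414 IH) (Lpe (K15.f243272 IH) (Lpe (f243404 IH) (Lpe (f262904 IH) (Lpe (K15.f48240 IH) (Lpn (LP (LK LD1_c4 LD2_c15 LD3_c29))))))))))))
theorem f33479 : Led Lsl_ct (LP (LK LD1_c5 LD2_c14 LD3_c56)) = (LP (LK LD1_c10 LD2_c19 LD3_c16)) :=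
  Lre_c IH (LK LD1_c5 LD2_c14 LD3_c56) (LK LD1_c10 LD2_c19 LD3_c16) Lrfl Lrfl
theorem f271484 : Led Lsl_df (LP (LK LD1_c8 LD2_c29 LD3_c47)) = (LP (LK LD1_c10 LD2_c19 LD3_c16)) :=
  Lgr Lrot43 (Lpr_ct (f271475 IH) (Lpr_dt (K15.f188602 IH) (Lpr_ct (K10.f187239 IH) (Lpr_dt (K12.f187238 IH) (Lpr_ct (K12.f188615 IH) (Lpr_dt (K12.f188605 IH) (Lpr_ct (K12.f188921 IH) (Lpr_dt (K12.f33447 IH) (Lpr_ct (K12.f33442 IH) (Lpr_dt (K12.f33446 IH) (Lpr_ct (K8.f33428 IH) (Lpr_dt (K12.f32315 IH) (Lpr_ct (K10.f33456 IH) (Lpr_dt (K12.f33501 IH) (Lpr_ct (f33479 IH) (Lpn (LP (LK LD1_c10 LD2_c19 LD3_c16))))))))))))))))))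
theorem f793 : Led Lsl_ct (LP (LK LD1_c0 LD2_c59 LD3_c38)) = (LP (LK LD1_c2 LD2_c5 LD3_c8)) :=
  Lre_c IH (LK LD1_c0 LD2_c59 LD3_c38) (LK LD1_c2 LD2_c5 LD3_c8) Lrfl Lrfl
theorem f890 : Led Lsl_dt (LP (LK LD1_c2 LD2_c5 LD3_c8)) = (LP (LK LD1_c4 LD2_c15 LD3_c34)) :=
  Lre_d IH (LK LD1_c2 LD2_c5 LD3_c8) (LK LD1_c4 LD2_c15 LD3_c34) Lrfl Lrfl
theorem f271535 : Led Lsl_ct (LP (LK LD1_c8 LD2_c27 LD3_c13)) = (LP (LK LD1_c4 LD2_c15 LD3_c34)) :=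
  Lre_c IH (LK LD1_c8 LD2_c27 LD3_c13) (LK LD1_c4 LD2_c15 LD3_c34) Lrfl Lrfl
theorem f261445 : Led Lsl_dt (LP (LK LD1_c4 LD2_c15 LD3_c27)) = (LP (LK LD1_c8 LD2_c29 LD3_c49)) :=
  Lre_d IH (LK LD1_c4 LD2_c15 LD3_c27) (LK LD1_c8 LD2_c29 LD3_c49) Lrfl Lrfl
theorem f251782 : Led Lsl_gt (LP (LK LD1_c8 LD2_c29 LD3_c42)) = (LP (LK LD1_c10 LD2_c19 LD3_c11)) :=
  Lgr Lrot49 (Lpe (K15.f187234 IH) (Lpe (K15.f190840 IH) (Lpe (K15.f190839 IH) (Lpr_gt (K14.f251780 IH) (Lpr_dt (K13.f167321 IH) (Lpr_gt (K12.f188894 IH) (Lpr_dt (K10.f33432 IH) (Lpe (K12.f33442 IH) (Lpe (K12.f33447 IH) (Lpn (LP (LK LD1_c10 LD2_c19 LD3_c11))))))))))))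
theorem f271456 : Led Lsl_gt (LP (LK LD1_c5 LD2_c27 LD3_c31)) = (LP (LK LD1_c8 LD2_c27 LD3_c13)) :=
  Lgr Lrot94 (Lpr_cf (K15.f245035 IH) (Lpr_gt (f251782 IH) (Lpr_dt (K12.f33447 IH) (Lpe (f263682 IH) (Lpr_dt (f261445 IH) (Lpr_cf (f271447 IH) (Lpe (K15.f182081 IH) (Lpe (K12.f217945 IH) (Lpe (K12.f200727 IH) (Lpn (LP (LK LD1_c8 LD2_c27 LD3_c13))))))))))))
theorem f271536 : Led Lsl_gt (LP (LK LD1_c10 LD2_c19 LD3_c16)) = (LP (LK LD1_c8 LD2_c29 LD3_c42)) :=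
  Lgr Lrot146 (Lpe (f271484 IH) (Lpr_gt (f271491 IH) (Lpr_ct (f48249 IH) (Lpr_gt (K10.f804 IH) (Lpr_ct (f793 IH) (Lpr_dt (f890 IH) (Lpe (f271535 IH) (Lpe (f271456 IH) (Lpr_cf (K15.f245035 IH) (Lpn (LP (LK LD1_c8 LD2_c29 LD3_c42))))))))))))
theorem f199532 : Led Lsl_bt (LP (LK LD1_c1 LD2_c59 LD3_c18)) = (LP (LK LD1_c0 LD2_c56 LD3_c29)) :=
  Lre_b IH (LK LD1_c1 LD2_c59 LD3_c18) (LK LD1_c0 LD2_c56 LD3_c29) Lrfl Lrfl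
theorem f177935 : Led Lsl_ct (LP (LK LD1_c0 LD2_c36 LD3_c4)) = (LP (LK LD1_c1 LD2_c18 LD3_c16)) :=
  Lre_c IH (LK LD1_c0 LD2_c36 LD3_c4) (LK LD1_c1 LD2_c18 LD3_c16) Lrfl Lrfl
theorem f199357 : Led Lsl_at (LP (LK LD1_c2 LD2_c43 LD3_c35)) = (LP (LK LD1_c1 LD2_c18 LD3_c16)) :=
  Lre_a IH (LK LD1_c2 LD2_c43 LD3_c35) (LK LD1_c1 LD2_c18 LD3_c16) Lrfl Lrfl
theorem f199358 : Led Lsl_ft (LP (LK LD1_c4 LD2_c4 LD3_c36)) = (LP (LK LD1_c2 LD2_c43 LD3_c35)) :=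
  Lgr Lrot142 (Lpr_dt (K12.f199348 IH) (Lpr_ct (K12.f199347 IH) (Lpr_dt (K12.f189125 IH) (Lpr_ct (K12.f177955 IH) (Lpr_dt (K12.f177870 IH) (Lpr_ct (K10.f177850 IH) (Lpr_dt (K13.f177956 IH) (Lpr_ct (f177935 IH) (Lpe (f199357 IH) (Lpn (LP (LK LD1_c2 LD2_c43 LD3_c35))))))))))))
theorem f177936 : Led Lsl_gt (LP (LK LD1_c2 LD2_c43 LD3_c46)) = (LP (LK LD1_c1 LD2_c18 LD3_c16)) :=
  Lre_g IH (LK LD1_c2 LD2_c43 LD3_c46) (LK LD1_c1 LD2_c18 LD3_c16) Lrfl Lrfl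
theorem f199530 : Led Lsl_gt (LP (LK LD1_c4 LD2_c4 LD3_c36)) = (LP (LK LD1_c2 LD2_c43 LD3_c46)) :=
  Lgr Lrot5 (Lpr_ft (f199358 IH) (Lpr_at (f199357 IH) (Lpe (f177936 IH) (Lpn (LP (LK LD1_c2 LD2_c43 LD3_c46))))))
theorem f177926 : Led Lsl_bt (LP (LK LD1_c0 LD2_c28 LD3_c39)) = (LP (LK LD1_c1 LD2_c2 LD3_c50)) :=
  Lre_b IH (LK LD1_c0 LD2_c28 LD3_c39) (LK LD1_c1 LD2_c2 LD3_c50) Lrfl Lrfl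
theorem f167759 : Led Lsl_gt (LP (LK LD1_c1 LD2_c2 LD3_c50)) = (LP (LK LD1_c2 LD2_c11 LD3_c40)) :=
  Lre_g IH (LK LD1_c1 LD2_c2 LD3_c50) (LK LD1_c2 LD2_c11 LD3_c40) Lrfl Lrfl
theorem f177933 : Led Lsl_bt (LP (LK LD1_c4 LD2_c29 LD3_c4)) = (LP (LK LD1_c2 LD2_c11 LD3_c40)) :=
  Lre_b IH (LK LD1_c4 LD2_c29 LD3_c4) (LK LD1_c2 LD2_c11 LD3_c40) Lrfl Lrfl
theorem f177934 : Led Lsl_bt (LP (LK LD1_c0 LD2_c36 LD3_c4)) = (LP (LK LD1_c0 LD2_c16 LD3_c5)) :=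
  Lre_b IH (LK LD1_c0 LD2_c36 LD3_c4) (LK LD1_c0 LD2_c16 LD3_c5) Lrfl Lrfl
theorem f177937 : Led Lsl_ct (LP (LK LD1_c4 LD2_c29 LD3_c4)) = (LP (LK LD1_c2 LD2_c43 LD3_c46)) :=
  Lgr Lrot64 (Lpr_bt (f177933 IH) (Lpe (f167759 IH) (Lpe (f177926 IH) (Lpr_ct (K12.f167776 IH) (Lpr_gf (K9.f177867 IH) (Lpe (K9.f177866 IH) (Lpe (K9.f177865 IH) (Lpe (f177934 IH) (Lpr_ct (f177935 IH) (Lpe (f177936 IH) (Lpn (LP (LK LD1_c2 LD2_c43 LD3_c46)))))))))))))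
theorem f245060 : Led Lsl_gt (LP (LK LD1_c2 LD2_c40 LD3_c7)) = (LP (LK LD1_c4 LD2_c29 LD3_c8)) :=
  Lgr Lrot5 (Lpr_ft (K13.f243630 IH) (Lpr_at (K13.f245041 IH) (Lpe (K14.f213783 IH) (Lpn (LP (LK LD1_c4 LD2_c29 LD3_c8))))))
theorem f247325 : Led Lsl_gt (LP (LK LD1_c2 LD2_c11 LD3_c40)) = (LP (LK LD1_c1 LD2_c16 LD3_c49)) :=
  Lgr Lrot82 (Lpe (f177933 IH) (Lpr_ct (f177937 IH) (Lpe (f199530 IH) (Lpe (K12.f192826 IH) (Lpr_bt (f199532 IH) (Lpe (K12.f223666 IH) (Lpr_bf (K14.f247315 IH) (Lpe (K14.f213784 IH) (Lpe (f245060 IH) (Lpe (K13.f244841 IH) (Lpn (LP (LK LD1_c1 LD2_c16 LD3_c49)))))))))))))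
theorem f177943 : Led Lsl_ct (LP (LK LD1_c4 LD2_c29 LD3_c5)) = (LP (LK LD1_c2 LD2_c11 LD3_c40)) :=
  Lre_c IH (LK LD1_c4 LD2_c29 LD3_c5) (LK LD1_c2 LD2_c11 LD3_c40) Lrfl Lrfl
theorem f271543 : Led Lsl_gt (LP (LK LD1_c4 LD2_c14 LD3_c6)) = (LP (LK LD1_c4 LD2_c29 LD3_c5)) :=
  Lgr Lrot9 (Lpe (K13.f188607 IH) (Lpr_gt (f189063 IH) (Lpr_ct (f33479 IH) (Lpr_gt (f271536 IH) (Lpe (K15.f245035 IH) (Lpe (K13.f243626 IH) (Lpe (K13.f244841 IH) (Lpe (f247325 IH) (Lpe (f177943 IH) (Lpn (LP (LK LD1_c4 LD2_c29 LD3_c5))))))))))))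
theorem f171905 : Led Lsl_ct (LP (LK LD1_c2 LD2_c25 LD3_c25)) = (LP (LK LD1_c1 LD2_c9 LD3_c57)) :=
  Lre_c IH (LK LD1_c2 LD2_c25 LD3_c25) (LK LD1_c1 LD2_c9 LD3_c57) Lrfl Lrfl
theorem f27398 : Led Lsl_dt (LP (LK LD1_c0 LD2_c59 LD3_c10)) = (LP (LK LD1_c2 LD2_c4 LD3_c17)) :=
  Lre_d IH (LK LD1_c0 LD2_c59 LD3_c10) (LK LD1_c2 LD2_c4 LD3_c17) Lrfl Lrfl
theorem f271039 : Led Lsl_ct (LP (LK LD1_c5 LD2_c29 LD3_c23)) = (LP (LK LD1_c4 LD2_c9 LD3_c4)) :=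
  Lgr Lrot7 (Lpr_df (f261416 IH) (Lpe (K12.f27399 IH) (Lpe (f27398 IH) (Lpe (K14.f219080 IH) (Lpe (f171905 IH) (Lpr_gt (K14.f222165 IH) (Lpr_dt (K11.f33445 IH) (Lpr_gt (K11.f191970 IH) (Lpr_dt (f271033 IH) (Lpn (LP (LK LD1_c4 LD2_c9 LD3_c4))))))))))))
theorem f271575 : Led Lsl_df (LP (LK LD1_c2 LD2_c41 LD3_c53)) = (LP (LK LD1_c2 LD2_c11 LD3_c40)) :=
  Lgr Lrot162 (Lpr_cf (K14.f253247 IH) (Lpr_gf (f259276 IH) (Lpe (f271039 IH) (Lpe (K15.f262869 IH) (Lpr_dt (K15.f262848 IH) (Lpe (K15.f245141 IH) (Lpr_ct (K13.f188611 IH) (Lpr_gt (f271543 IH) (Lpr_ct (f177943 IH) (Lpn (LP (LK LD1_c2 LD2_c11 LD3_c40))))))))))))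
theorem f271581 : Led Lsl_gt (LP (LK LD1_c2 LD2_c41 LD3_c53)) = (LP (LK LD1_c2 LD2_c1 LD3_c11)) :=
  Lgr Lrot9 (Lpr_df (f271575 IH) (Lpr_gt (f247325 IH) (Lpr_ct (K13.f244841 IH) (Lpr_gt (f245060 IH) (Lpr_ct (K14.f213789 IH) (Lpe (K14.f168338 IH) (Lpe (K13.f168317 IH) (Lpe (K13.f168336 IH) (Lpr_cf (K13.f246245 IH) (Lpn (LP (LK LD1_c2 LD2_c1 LD3_c11))))))))))))
theorem f262971 : Led Lsl_ff (LP (LK LD1_c1 LD2_c25 LD3_c9)) = (LP (LK LD1_c1 LD2_c17 LD3_c35)) :=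
  Lgr Lrot19 (Lpr_dt (f181784 IH) (Lpr_ft (K15.f262902 IH) (Lpr_dt (K14.f212217 IH) (Lpn (LP (LK LD1_c1 LD2_c17 LD3_c35))))))
theorem f271613 : Led Lsl_at (LP (LK LD1_c1 LD2_c25 LD3_c9)) = (LP (LK LD1_c2 LD2_c1 LD3_c11)) :=
  Lgr Lrot26 (Lpr_ff (f262971 IH) (Lpr_gt (K14.f178471 IH) (Lpr_gt (f271581 IH) (Lpn (LP (LK LD1_c2 LD2_c1 LD3_c11))))))
theorem f220880 : Led Lsl_dt (LP (LK LD1_c1 LD2_c17 LD3_c34)) = (LP (LK LD1_c2 LD2_c41 LD3_c51)) :=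
  Lre_d IH (LK LD1_c1 LD2_c17 LD3_c34) (LK LD1_c2 LD2_c41 LD3_c51) Lrfl Lrfl
theorem f243546 : Led Lsl_ct (LP (LK LD1_c2 LD2_c5 LD3_c29)) = (LP (LK LD1_c0 LD2_c59 LD3_c47)) :=
  Lre_c IH (LK LD1_c2 LD2_c5 LD3_c29) (LK LD1_c0 LD2_c59 LD3_c47) Lrfl Lrfl
theorem f243545 : Led Lsl_dt (LP (LK LD1_c4 LD2_c16 LD3_c15)) = (LP (LK LD1_c2 LD2_c5 LD3_c29)) :=
  Lre_d IH (LK LD1_c4 LD2_c16 LD3_c15) (LK LD1_c2 LD2_c5 LD3_c29) Lrfl Lrfl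
theorem f271625 : Led Lsl_ct (LP (LK LD1_c2 LD2_c41 LD3_c51)) = (LP (LK LD1_c4 LD2_c16 LD3_c15)) :=
  Lgr Lrot41 (Lpe (f220880 IH) (Lpe (K12.f220871 IH) (Lpe (K14.f212209 IH) (Lpe (f262971 IH) (Lpr_at (f271613 IH) (Lpe (K15.f246251 IH) (Lpe (K14.f250628 IH) (Lpe (f243546 IH) (Lpe (f243545 IH) (Lpn (LP (LK LD1_c4 LD2_c16 LD3_c15))))))))))))
theorem f174992 : Led Lsl_dt (LP (LK LD1_c2 LD2_c41 LD3_c51)) = (LP (LK LD1_c1 LD2_c17 LD3_c34)) :=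
  Lre_d IH (LK LD1_c2 LD2_c41 LD3_c51) (LK LD1_c1 LD2_c17 LD3_c34) Lrfl Lrfl
theorem f262885 : Led Lsl_ff (LP (LK LD1_c2 LD2_c11 LD3_c58)) = (LP (LK LD1_c1 LD2_c17 LD3_c34)) :=
  Lgr Lrot19 (Lpr_dt (K15.f182081 IH) (Lpr_ft (K15.f262870 IH) (Lpr_dt (f174992 IH) (Lpn (LP (LK LD1_c1 LD2_c17 LD3_c34))))))
theorem f218132 : Led Lsl_at (LP (LK LD1_c2 LD2_c11 LD3_c57)) = (LP (LK LD1_c1 LD2_c2 LD3_c57)) :=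
  Lre_a IH (LK LD1_c2 LD2_c11 LD3_c57) (LK LD1_c1 LD2_c2 LD3_c57) Lrfl Lrfl
theorem f271621 : Led Lsl_df (LP (LK LD1_c2 LD2_c11 LD3_c57)) = (LP (LK LD1_c2 LD2_c1 LD3_c11)) :=
  Lgr Lrot18 (Lpr_at (f218132 IH) (Lpe (K15.f262811 IH) (Lpr_at (f271613 IH) (Lpn (LP (LK LD1_c2 LD2_c1 LD3_c11))))))
theorem f220874 : Led Lsl_at (LP (LK LD1_c2 LD2_c41 LD3_c46)) = (LP (LK LD1_c1 LD2_c17 LD3_c34)) :=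
  Lre_a IH (LK LD1_c2 LD2_c41 LD3_c46) (LK LD1_c1 LD2_c17 LD3_c34) Lrfl Lrfl
theorem f216392 : Led Lsl_gt (LP (LK LD1_c4 LD2_c14 LD3_c14)) = (LP (LK LD1_c2 LD2_c4 LD3_c30)) :=
  Lre_g IH (LK LD1_c4 LD2_c14 LD3_c14) (LK LD1_c2 LD2_c4 LD3_c30) Lrfl Lrfl
theorem f220875 : Led Lsl_ft (LP (LK LD1_c4 LD2_c14 LD3_c14)) = (LP (LK LD1_c2 LD2_c41 LD3_c46)) :=
  Lgr Lrot2 (Lpr_gt (f216392 IH) (Lpr_gt (K12.f220872 IH) (Lpe (f220874 IH) (Lpn (LP (LK LD1_c2 LD2_c41 LD3_c46))))))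
theorem f218201 : Led Lsl_dt (LP (LK LD1_c4 LD2_c14 LD3_c14)) = (LP (LK LD1_c8 LD2_c27 LD3_c3)) :=
  Lre_d IH (LK LD1_c4 LD2_c14 LD3_c14) (LK LD1_c8 LD2_c27 LD3_c3) Lrfl Lrfl
theorem f253243 : Led Lsl_ct (LP (LK LD1_c8 LD2_c27 LD3_c3)) = (LP (LK LD1_c4 LD2_c16 LD3_c6)) :=
  Lgr Lrot133 (Lpe (f218201 IH) (Lpr_ft (f220875 IH) (Lpr_at (f220874 IH) (Lpe (K12.f220871 IH) (Lpe (K14.f212209 IH) (Lpr_cf (K14.f253187 IH) (Lpr_df (K14.f220546 IH) (Lpe (K13.f220550 IH) (Lpe (f220551 IH) (Lpn (LP (LK LD1_c4 LD2_c16 LD3_c6))))))))))))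
theorem f271636 : Led Lsl_cf (LP (LK LD1_c4 LD2_c14 LD3_c14)) = (LP (LK LD1_c2 LD2_c11 LD3_c57)) :=
  Lgr Lrot55 (Lpr_dt (f218201 IH) (Lpr_ct (f253243 IH) (Lpr_dt (f220551 IH) (Lpr_ct (K13.f220550 IH) (Lpe (K14.f220546 IH) (Lpe (K14.f253187 IH) (Lpr_dt (K14.f212209 IH) (Lpr_ct (K12.f220871 IH) (Lpr_dt (f220880 IH) (Lpr_ct (f271625 IH) (Lpr_dt (f243545 IH) (Lpr_ct (f243546 IH) (Lpr_dt (K14.f250628 IH) (Lpr_ct (K15.f246251 IH) (Lpe (f271621 IH) (Lpn (LP (LK LD1_c2 LD2_c11 LD3_c57))))))))))))))))))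
theorem f271645 : Led Lsl_at (LP (LK LD1_c2 LD2_c11 LD3_c58)) = (LP (LK LD1_c4 LD2_c14 LD3_c14)) :=
  Lgr Lrot33 (Lpr_ff (f262885 IH) (Lpr_dt (f220880 IH) (Lpr_ct (f271625 IH) (Lpr_dt (f243545 IH) (Lpr_ct (f243546 IH) (Lpr_dt (K14.f250628 IH) (Lpr_ct (K15.f246251 IH) (Lpe (f271621 IH) (Lpe (f271636 IH) (Lpn (LP (LK LD1_c4 LD2_c14 LD3_c14))))))))))))
theorem f217957 : Led Lsl_et (LP (LK LD1_c4 LD2_c29 LD3_c52)) = (LP (LK LD1_c2 LD2_c11 LD3_c58)) :=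
  Lre_e IH (LK LD1_c4 LD2_c29 LD3_c52) (LK LD1_c2 LD2_c11 LD3_c58) Lrfl Lrfl
theorem f221335 : Led Lsl_et (LP (LK LD1_c4 LD2_c14 LD3_c14)) = (LP (LK LD1_c8 LD2_c27 LD3_c4)) :=
  Lre_e IH (LK LD1_c4 LD2_c14 LD3_c14) (LK LD1_c8 LD2_c27 LD3_c4) Lrfl Lrfl
theorem f271725 : Led Lsl_af (LP (LK LD1_c4 LD2_c29 LD3_c52)) = (LP (LK LD1_c8 LD2_c27 LD3_c4)) :=
  Lgr Lrot50 (Lpr_et (f217957 IH) (Lpr_at (f271645 IH) (Lpr_et (f221335 IH) (Lpn (LP (LK LD1_c8 LD2_c27 LD3_c4))))))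
theorem f271737 : Led Lsl_ft (LP (LK LD1_c4 LD2_c29 LD3_c52)) = (LP (LK LD1_c8 LD2_c57 LD3_c57)) :=
  Lre_f IH (LK LD1_c4 LD2_c29 LD3_c52) (LK LD1_c8 LD2_c57 LD3_c57) Lrfl Lrfl
theorem f221319 : Led Lsl_ft (LP (LK LD1_c15 LD2_c52 LD3_c3)) = (LP (LK LD1_c8 LD2_c27 LD3_c4)) :=
  Lre_f IH (LK LD1_c15 LD2_c52 LD3_c3) (LK LD1_c8 LD2_c27 LD3_c4) Lrfl Lrfl
theorem f271738 : Led Lsl_at (LP (LK LD1_c8 LD2_c57 LD3_c57)) = (LP (LK LD1_c15 LD2_c52 LD3_c3)) :=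
  Lgr Lrot66 (Lpe (f271737 IH) (Lpr_af (f271725 IH) (Lpe (f221319 IH) (Lpn (LP (LK LD1_c15 LD2_c52 LD3_c3))))))
theorem f221324 : Led Lsl_ff (LP (LK LD1_c4 LD2_c14 LD3_c14)) = (LP (LK LD1_c2 LD2_c41 LD3_c46)) :=
  Lgr Lrot3 (Lpr_ft (f220875 IH) (Lpn (LP (LK LD1_c2 LD2_c41 LD3_c46))))
theorem f221336 : Led Lsl_ft (LP (LK LD1_c8 LD2_c27 LD3_c4)) = (LP (LK LD1_c15 LD2_c52 LD3_c3)) :=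
  Lre_f IH (LK LD1_c8 LD2_c27 LD3_c4) (LK LD1_c15 LD2_c52 LD3_c3) Lrfl Lrfl
theorem f221337 : Led Lsl_et (LP (LK LD1_c5 LD2_c31 LD3_c0)) = (LP (LK LD1_c2 LD2_c41 LD3_c46)) :=
  Lre_e IH (LK LD1_c5 LD2_c31 LD3_c0) (LK LD1_c2 LD2_c41 LD3_c46) Lrfl Lrfl
theorem f221338 : Led Lsl_ft (LP (LK LD1_c10 LD2_c53 LD3_c34)) = (LP (LK LD1_c5 LD2_c31 LD3_c0)) :=
  Lre_f IH (LK LD1_c10 LD2_c53 LD3_c34) (LK LD1_c5 LD2_c31 LD3_c0) Lrfl Lrfl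
theorem f221339 : Led Lsl_et (LP (LK LD1_c15 LD2_c52 LD3_c3)) = (LP (LK LD1_c10 LD2_c53 LD3_c34)) :=
  Lgr Lrot69 (Lpe (f221336 IH) (Lpe (f221335 IH) (Lpr_ff (f221324 IH) (Lpe (f221337 IH) (Lpe (f221338 IH) (Lpn (LP (LK LD1_c10 LD2_c53 LD3_c34))))))))
theorem f221341 : Led Lsl_at (LP (LK LD1_c10 LD2_c53 LD3_c34)) = (LP (LK LD1_c5 LD2_c31 LD3_c17)) :=
  Lre_a IH (LK LD1_c10 LD2_c53 LD3_c34) (LK LD1_c5 LD2_c31 LD3_c17) Lrfl Lrfl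
theorem f271752 : Led Lsl_ef (LP (LK LD1_c8 LD2_c57 LD3_c57)) = (LP (LK LD1_c5 LD2_c31 LD3_c17)) :=
  Lgr Lrot20 (Lpr_at (f271738 IH) (Lpr_et (f221339 IH) (Lpr_at (f221341 IH) (Lpn (LP (LK LD1_c5 LD2_c31 LD3_c17))))))
theorem f263041 : Led Lsl_ct (LP (LK LD1_c8 LD2_c57 LD3_c57)) = (LP (LK LD1_c4 LD2_c29 LD3_c55)) :=
  Lre_c IH (LK LD1_c8 LD2_c57 LD3_c57) (LK LD1_c4 LD2_c29 LD3_c55) Lrfl Lrfl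
theorem f261861 : Led Lsl_ct (LP (LK LD1_c2 LD2_c41 LD3_c57)) = (LP (LK LD1_c5 LD2_c31 LD3_c17)) :=
  Lre_c IH (LK LD1_c2 LD2_c41 LD3_c57) (LK LD1_c5 LD2_c31 LD3_c17) Lrfl Lrfl
theorem f271765 : Led Lsl_et (LP (LK LD1_c4 LD2_c29 LD3_c55)) = (LP (LK LD1_c2 LD2_c41 LD3_c57)) :=
  Lgr Lrot158 (Lpe (f263041 IH) (Lpr_ef (f271752 IH) (Lpe (f261861 IH) (Lpn (LP (LK LD1_c2 LD2_c41 LD3_c57))))))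
theorem f261628 : Led Lsl_bt (LP (LK LD1_c2 LD2_c41 LD3_c57)) = (LP (LK LD1_c1 LD2_c17 LD3_c44)) :=
  Lre_b IH (LK LD1_c2 LD2_c41 LD3_c57) (LK LD1_c1 LD2_c17 LD3_c44) Lrfl Lrfl
theorem f271776 : Led Lsl_ef (LP (LK LD1_c2 LD2_c12 LD3_c3)) = (LP (LK LD1_c1 LD2_c17 LD3_c44)) :=
  Lgr Lrot29 (Lpr_bt (K15.f263045 IH) (Lpr_et (f271765 IH) (Lpr_bt (f261628 IH) (Lpn (LP (LK LD1_c1 LD2_c17 LD3_c44))))))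
theorem f264519 : Led Lsl_ft (LP (LK LD1_c2 LD2_c12 LD3_c3)) = (LP (LK LD1_c1 LD2_c2 LD3_c59)) :=
  Lre_f IH (LK LD1_c2 LD2_c12 LD3_c3) (LK LD1_c1 LD2_c2 LD3_c59) Lrfl Lrfl
theorem f7634 : Led Lsl_et (LP (LK LD1_c1 LD2_c2 LD3_c59)) = (LP (LK LD1_c0 LD2_c28 LD3_c42)) :=
  Lre_e IH (LK LD1_c1 LD2_c2 LD3_c59) (LK LD1_c0 LD2_c28 LD3_c42) Lrfl Lrfl
theorem f261768 : Led Lsl_ft (LP (LK LD1_c0 LD2_c35 LD3_c54)) = (LP (LK LD1_c1 LD2_c17 LD3_c44)) :=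
  Lre_f IH (LK LD1_c0 LD2_c35 LD3_c54) (LK LD1_c1 LD2_c17 LD3_c44) Lrfl Lrfl
theorem f271782 : Led Lsl_ft (LP (LK LD1_c0 LD2_c28 LD3_c42)) = (LP (LK LD1_c0 LD2_c16 LD3_c0)) :=
  Lgr Lrot86 (Lpe (f7634 IH) (Lpe (f264519 IH) (Lpr_ef (f271776 IH) (Lpe (f261768 IH) (Lpe (K14.f178756 IH) (Lpn (LP (LK LD1_c0 LD2_c16 LD3_c0))))))))
theorem f271788 : Led Lsl_ff (LP (LK LD1_c0 LD2_c39 LD3_c15)) = (LP (LK LD1_c0 LD2_c35 LD3_c53)) :=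
  Lgr Lrot19 (Lpr_dt (K9.f181788 IH) (Lpr_ft (f271782 IH) (Lpr_dt (K9.f168188 IH) (Lpn (LP (LK LD1_c0 LD2_c35 LD3_c53))))))
theorem f254963 : Led Lsl_gt (LP (LK LD1_c1 LD2_c0 LD3_c5)) = (LP (LK LD1_c0 LD2_c35 LD3_c24)) :=
  Lgr Lrot82 (Lpe (K15.f7902 IH) (Lpr_ct (K12.f201240 IH) (Lpr_gf (K14.f254895 IH) (Lpe (K14.f250966 IH) (Lpr_bt (K14.f183238 IH) (Lpe (K13.f173279 IH) (Lpe (K13.f173278 IH) (Lpr_ct (K9.f165141 IH) (Lpe (K9.f183227 IH) (Lpr_cf (K13.f183231 IH) (Lpn (LP (LK LD1_c0 LD2_c35 LD3_c24)))))))))))))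
theorem f271794 : Led Lsl_at (LP (LK LD1_c0 LD2_c39 LD3_c15)) = (LP (LK LD1_c0 LD2_c35 LD3_c24)) :=
  Lgr Lrot26 (Lpr_ff (f271788 IH) (Lpe (K14.f254981 IH) (Lpr_gt (f254963 IH) (Lpn (LP (LK LD1_c0 LD2_c35 LD3_c24))))))
theorem f271798 : Led Lsl_af (LP (LK LD1_c0 LD2_c17 LD3_c34)) = (LP (LK LD1_c0 LD2_c15 LD3_c52)) :=
  Lgr Lrot50 (Lpr_et (K9.f181188 IH) (Lpr_at (f271794 IH) (Lpr_et (K9.f183198 IH) (Lpn (LP (LK LD1_c0 LD2_c15 LD3_c52))))))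
theorem f271804 : Led Lsl_at (LP (LK LD1_c0 LD2_c11 LD3_c35)) = (LP (LK LD1_c0 LD2_c11 LD3_c29)) :=
  Lgr Lrot107 (Lpe (K9.f181160 IH) (Lpr_af (f271798 IH) (Lpe (K10.f183195 IH) (Lpn (LP (LK LD1_c0 LD2_c11 LD3_c29))))))
theorem f271810 : Led Lsl_ff (LP (LK LD1_c0 LD2_c11 LD3_c35)) = (LP (LK LD1_c0 LD2_c11 LD3_c30)) :=
  Lgr Lrot52 (Lpr_at (f271804 IH) (Lpe (K9.f47067 IH) (Lpe (K9.f28335 IH) (Lpn (LP (LK LD1_c0 LD2_c11 LD3_c30))))))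
theorem f271818 : Led Lsl_ft (LP (LK LD1_c0 LD2_c11 LD3_c35)) = (LP (LK LD1_c0 LD2_c11 LD3_c30)) :=
  Lgr Lrot48 (Lpr_ff (f271810 IH) (Lpn (LP (LK LD1_c0 LD2_c11 LD3_c30))))
theorem f192576 : Led Lsl_bt (LP (LK LD1_c0 LD2_c11 LD3_c30)) = (LP (LK LD1_c0 LD2_c25 LD3_c16)) :=
  Lgr Lrot128 (Lpe (K9.f182486 IH) (Lpe (K10.f8481 IH) (Lpr_cf (K10.f192572 IH) (Lpr_bf (K10.f171517 IH) (Lpe (K10.f171524 IH) (Lpn (LP (LK LD1_c0 LD2_c25 LD3_c16))))))))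
theorem f271820 : Led Lsl_ff (LP (LK LD1_c0 LD2_c25 LD3_c20)) = (LP (LK LD1_c0 LD2_c25 LD3_c16)) :=
  Lgr Lrot25 (Lpr_bt (K10.f193636 IH) (Lpr_ft (f271818 IH) (Lpr_bt (f192576 IH) (Lpn (LP (LK LD1_c0 LD2_c25 LD3_c16))))))
theorem f271826 : Led Lsl_ft (LP (LK LD1_c0 LD2_c55 LD3_c51)) = (LP (LK LD1_c0 LD2_c55 LD3_c40)) :=
  Lgr Lrot54 (Lpe (K13.f180878 IH) (Lpr_ff (f271820 IH) (Lpe (K10.f171529 IH) (Lpn (LP (LK LD1_c0 LD2_c55 LD3_c40))))))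
theorem f271832 : Led Lsl_af (LP (LK LD1_c0 LD2_c55 LD3_c54)) = (LP (LK LD1_c0 LD2_c55 LD3_c40)) :=
  Lgr Lrot31 (Lpr_gf (K13.f243018 IH) (Lpe (K10.f182046 IH) (Lpr_ft (f271826 IH) (Lpn (LP (LK LD1_c0 LD2_c55 LD3_c40))))))
theorem f271838 : Led Lsl_at (LP (LK LD1_c1 LD2_c27 LD3_c49)) = (LP (LK LD1_c1 LD2_c11 LD3_c7)) :=
  Lgr Lrot80 (Lpr_ef (K13.f241267 IH) (Lpr_af (f271832 IH) (Lpe (K10.f192660 IH) (Lpn (LP (LK LD1_c1 LD2_c11 LD3_c7))))))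
theorem f69405 : Led Lsl_dt (LP (LK LD1_c6 LD2_c13 LD3_c6)) = (LP (LK LD1_c3 LD2_c3 LD3_c18)) :=
  Lre_d IH (LK LD1_c6 LD2_c13 LD3_c6) (LK LD1_c3 LD2_c3 LD3_c18) Lrfl Lrfl
theorem f241257 : Led Lsl_cf (LP (LK LD1_c1 LD2_c27 LD3_c49)) = (LP (LK LD1_c3 LD2_c3 LD3_c18)) :=
  Lgr Lrot14 (Lpe (K13.f37973 IH) (Lpr_gf (K13.f241250 IH) (Lpe (K13.f210912 IH) (Lpe (K13.f175804 IH) (Lpr_ct (K12.f26041 IH) (Lpe (K12.f198361 IH) (Lpr_dt (K12.f229371 IH) (Lpr_gt (K12.f101353 IH) (Lpr_dt (f69405 IH) (Lpn (LP (LK LD1_c3 LD2_c3 LD3_c18))))))))))))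
theorem f271840 : Led Lsl_af (LP (LK LD1_c3 LD2_c3 LD3_c18)) = (LP (LK LD1_c2 LD2_c10 LD3_c36)) :=
  Lgr Lrot68 (Lpe (f241257 IH) (Lpr_at (f271838 IH) (Lpr_ct (K9.f175810 IH) (Lpn (LP (LK LD1_c2 LD2_c10 LD3_c36))))))
theorem f271846 : Led Lsl_ft (LP (LK LD1_c3 LD2_c3 LD3_c19)) = (LP (LK LD1_c2 LD2_c10 LD3_c36)) :=
  Lgr Lrot2 (Lpr_gt (K9.f80910 IH) (Lpr_gt (K12.f69404 IH) (Lpr_af (f271840 IH) (Lpn (LP (LK LD1_c2 LD2_c10 LD3_c36))))))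
theorem f271854 : Led Lsl_ff (LP (LK LD1_c3 LD2_c3 LD3_c19)) = (LP (LK LD1_c2 LD2_c10 LD3_c36)) :=
  Lgr Lrot3 (Lpr_ft (f271846 IH) (Lpn (LP (LK LD1_c2 LD2_c10 LD3_c36))))
theorem f271862 : Led Lsl_at (LP (LK LD1_c3 LD2_c3 LD3_c19)) = (LP (LK LD1_c2 LD2_c10 LD3_c37)) :=
  Lgr Lrot26 (Lpr_ff (f271854 IH) (Lpe (K9.f101399 IH) (Lpr_gt (K10.f101312 IH) (Lpn (LP (LK LD1_c2 LD2_c10 LD3_c37))))))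
theorem f271842 : Led Lsl_at (LP (LK LD1_c3 LD2_c3 LD3_c18)) = (LP (LK LD1_c2 LD2_c10 LD3_c36)) :=
  Lgr Lrot100 (Lpr_af (f271840 IH) (Lpn (LP (LK LD1_c2 LD2_c10 LD3_c36))))
theorem f271870 : Led Lsl_ff (LP (LK LD1_c3 LD2_c3 LD3_c18)) = (LP (LK LD1_c2 LD2_c10 LD3_c37)) :=
  Lgr Lrot30 (Lpr_at (f271842 IH) (Lpe (f271854 IH) (Lpr_at (f271862 IH) (Lpn (LP (LK LD1_c2 LD2_c10 LD3_c37))))))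
theorem f271876 : Led Lsl_ft (LP (LK LD1_c3 LD2_c3 LD3_c18)) = (LP (LK LD1_c2 LD2_c10 LD3_c37)) :=
  Lgr Lrot48 (Lpr_ff (f271870 IH) (Lpn (LP (LK LD1_c2 LD2_c10 LD3_c37))))
theorem f271880 : Led Lsl_ff (LP (LK LD1_c6 LD2_c13 LD3_c6)) = (LP (LK LD1_c4 LD2_c26 LD3_c57)) :=
  Lgr Lrot19 (Lpr_dt (f69405 IH) (Lpr_ft (f271876 IH) (Lpr_dt (K12.f101314 IH) (Lpn (LP (LK LD1_c4 LD2_c26 LD3_c57))))))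
theorem f69406 : Led Lsl_et (LP (LK LD1_c6 LD2_c13 LD3_c6)) = (LP (LK LD1_c12 LD2_c5 LD3_c8)) :=
  Lre_e IH (LK LD1_c6 LD2_c13 LD3_c6) (LK LD1_c12 LD2_c5 LD3_c8) Lrfl Lrfl
theorem f193516 : Led Lsl_ft (LP (LK LD1_c12 LD2_c5 LD3_c8)) = (LP (LK LD1_c21 LD2_c10 LD3_c32)) :=
  Lre_f IH (LK LD1_c12 LD2_c5 LD3_c8) (LK LD1_c21 LD2_c10 LD3_c32) Lrfl Lrfl
theorem f198398 : Led Lsl_et (LP (LK LD1_c8 LD2_c51 LD3_c42)) = (LP (LK LD1_c4 LD2_c26 LD3_c57)) :=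
  Lre_e IH (LK LD1_c8 LD2_c51 LD3_c42) (LK LD1_c4 LD2_c26 LD3_c57) Lrfl Lrfl
theorem f239047 : Led Lsl_ft (LP (LK LD1_c16 LD2_c34 LD3_c5)) = (LP (LK LD1_c8 LD2_c51 LD3_c42)) :=
  Lre_f IH (LK LD1_c16 LD2_c34 LD3_c5) (LK LD1_c8 LD2_c51 LD3_c42) Lrfl Lrfl
theorem f271886 : Led Lsl_et (LP (LK LD1_c21 LD2_c10 LD3_c32)) = (LP (LK LD1_c16 LD2_c34 LD3_c5)) :=
  Lgr Lrot69 (Lpe (f193516 IH) (Lpe (f69406 IH) (Lpr_ff (f271880 IH) (Lpe (f198398 IH) (Lpe (f239047 IH) (Lpn (LP (LK LD1_c16 LD2_c34 LD3_c5))))))))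
theorem f271890 : Led Lsl_ef (LP (LK LD1_c21 LD2_c10 LD3_c32)) = (LP (LK LD1_c16 LD2_c34 LD3_c5)) :=
  Lgr Lrot88 (Lpr_et (f271886 IH) (Lpn (LP (LK LD1_c16 LD2_c34 LD3_c5))))
theorem f193531 : Led Lsl_ct (LP (LK LD1_c21 LD2_c10 LD3_c32)) = (LP (LK LD1_c29 LD2_c52 LD3_c49)) :=
  Lre_c IH (LK LD1_c21 LD2_c10 LD3_c32) (LK LD1_c29 LD2_c52 LD3_c49) Lrfl Lrfl
theorem f239044 : Led Lsl_ct (LP (LK LD1_c26 LD2_c31 LD3_c5)) = (LP (LK LD1_c16 LD2_c34 LD3_c5)) :=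
  Lre_c IH (LK LD1_c26 LD2_c31 LD3_c5) (LK LD1_c16 LD2_c34 LD3_c5) Lrfl Lrfl
theorem f271892 : Led Lsl_et (LP (LK LD1_c29 LD2_c52 LD3_c49)) = (LP (LK LD1_c26 LD2_c31 LD3_c5)) :=
  Lgr Lrot158 (Lpe (f193531 IH) (Lpr_ef (f271890 IH) (Lpe (f239044 IH) (Lpn (LP (LK LD1_c26 LD2_c31 LD3_c5))))))
theorem f271894 : Led Lsl_ft (LP (LK LD1_c21 LD2_c10 LD3_c29)) = (LP (LK LD1_c29 LD2_c52 LD3_c49)) :=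
  Lre_f IH (LK LD1_c21 LD2_c10 LD3_c29) (LK LD1_c29 LD2_c52 LD3_c49) Lrfl Lrfl
theorem f241233 : Led Lsl_et (LP (LK LD1_c12 LD2_c5 LD3_c7)) = (LP (LK LD1_c21 LD2_c10 LD3_c29)) :=
  Lre_e IH (LK LD1_c12 LD2_c5 LD3_c7) (LK LD1_c21 LD2_c10 LD3_c29) Lrfl Lrfl
theorem f271895 : Led Lsl_ft (LP (LK LD1_c26 LD2_c31 LD3_c5)) = (LP (LK LD1_c16 LD2_c34 LD3_c2)) :=
  Lre_f IH (LK LD1_c26 LD2_c31 LD3_c5) (LK LD1_c16 LD2_c34 LD3_c2) Lrfl Lrfl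
theorem f198127 : Led Lsl_et (LP (LK LD1_c16 LD2_c34 LD3_c2)) = (LP (LK LD1_c8 LD2_c51 LD3_c41)) :=
  Lre_e IH (LK LD1_c16 LD2_c34 LD3_c2) (LK LD1_c8 LD2_c51 LD3_c41) Lrfl Lrfl
theorem f271896 : Led Lsl_ff (LP (LK LD1_c12 LD2_c5 LD3_c7)) = (LP (LK LD1_c8 LD2_c51 LD3_c41)) :=
  Lgr Lrot72 (Lpr_et (f241233 IH) (Lpr_ft (f271894 IH) (Lpr_et (f271892 IH) (Lpr_ft (f271895 IH) (Lpr_et (f198127 IH) (Lpn (LP (LK LD1_c8 LD2_c51 LD3_c41))))))))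
theorem f271902 : Led Lsl_at (LP (LK LD1_c12 LD2_c5 LD3_c7)) = (LP (LK LD1_c8 LD2_c51 LD3_c38)) :=
  Lgr Lrot33 (Lpr_ff (f271896 IH) (Lpe (K13.f198117 IH) (Lpr_ct (K12.f101044 IH) (Lpr_dt (K12.f198006 IH) (Lpr_ct (K12.f26040 IH) (Lpr_dt (K10.f192658 IH) (Lpr_ct (K9.f175810 IH) (Lpr_dt (K12.f101409 IH) (Lpr_ct (K12.f192769 IH) (Lpn (LP (LK LD1_c8 LD2_c51 LD3_c38))))))))))))
theorem f229384 : Led Lsl_et (LP (LK LD1_c21 LD2_c10 LD3_c29)) = (LP (LK LD1_c12 LD2_c5 LD3_c7)) :=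
  Lre_e IH (LK LD1_c21 LD2_c10 LD3_c29) (LK LD1_c12 LD2_c5 LD3_c7) Lrfl Lrfl
theorem f198104 : Led Lsl_et (LP (LK LD1_c8 LD2_c51 LD3_c38)) = (LP (LK LD1_c16 LD2_c33 LD3_c57)) :=
  Lre_e IH (LK LD1_c8 LD2_c51 LD3_c38) (LK LD1_c16 LD2_c33 LD3_c57) Lrfl Lrfl
theorem f271910 : Led Lsl_af (LP (LK LD1_c21 LD2_c10 LD3_c29)) = (LP (LK LD1_c16 LD2_c33 LD3_c57)) :=
  Lgr Lrot50 (Lpr_et (f229384 IH) (Lpr_at (f271902 IH) (Lpr_et (f198104 IH) (Lpn (LP (LK LD1_c16 LD2_c33 LD3_c57))))))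
theorem f271918 : Led Lsl_ft (LP (LK LD1_c26 LD2_c30 LD3_c55)) = (LP (LK LD1_c16 LD2_c33 LD3_c57)) :=
  Lre_f IH (LK LD1_c26 LD2_c30 LD3_c55) (LK LD1_c16 LD2_c33 LD3_c57) Lrfl Lrfl
theorem f271919 : Led Lsl_at (LP (LK LD1_c29 LD2_c52 LD3_c49)) = (LP (LK LD1_c26 LD2_c30 LD3_c55)) :=
  Lgr Lrot66 (Lpe (f271894 IH) (Lpr_af (f271910 IH) (Lpe (f271918 IH) (Lpn (LP (LK LD1_c26 LD2_c30 LD3_c55))))))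
theorem f192758 : Led Lsl_ct (LP (LK LD1_c26 LD2_c30 LD3_c55)) = (LP (LK LD1_c16 LD2_c33 LD3_c60)) :=
  Lre_c IH (LK LD1_c26 LD2_c30 LD3_c55) (LK LD1_c16 LD2_c33 LD3_c60) Lrfl Lrfl
theorem f271923 : Led Lsl_af (LP (LK LD1_c21 LD2_c10 LD3_c32)) = (LP (LK LD1_c16 LD2_c33 LD3_c60)) :=
  Lgr Lrot68 (Lpr_ct (f193531 IH) (Lpr_at (f271919 IH) (Lpr_ct (f192758 IH) (Lpn (LP (LK LD1_c16 LD2_c33 LD3_c60))))))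
theorem f193510 : Led Lsl_et (LP (LK LD1_c12 LD2_c5 LD3_c8)) = (LP (LK LD1_c6 LD2_c13 LD3_c6)) :=
  Lre_e IH (LK LD1_c12 LD2_c5 LD3_c8) (LK LD1_c6 LD2_c13 LD3_c6) Lrfl Lrfl
theorem f193511 : Led Lsl_et (LP (LK LD1_c4 LD2_c2 LD3_c7)) = (LP (LK LD1_c8 LD2_c4 LD3_c50)) :=
  Lre_e IH (LK LD1_c4 LD2_c2 LD3_c7) (LK LD1_c8 LD2_c4 LD3_c50) Lrfl Lrfl
theorem f193512 : Led Lsl_df (LP (LK LD1_c12 LD2_c5 LD3_c8)) = (LP (LK LD1_c8 LD2_c4 LD3_c50)) :=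
  Lgr Lrot70 (Lpr_et (f193510 IH) (Lpr_dt (f69405 IH) (Lpr_et (K12.f193499 IH) (Lpr_dt (K12.f193464 IH) (Lpr_et (f193511 IH) (Lpn (LP (LK LD1_c8 LD2_c4 LD3_c50))))))))
theorem f193517 : Led Lsl_ft (LP (LK LD1_c15 LD2_c12 LD3_c55)) = (LP (LK LD1_c8 LD2_c4 LD3_c50)) :=
  Lre_f IH (LK LD1_c15 LD2_c12 LD3_c55) (LK LD1_c8 LD2_c4 LD3_c50) Lrfl Lrfl
theorem f193518 : Led Lsl_dt (LP (LK LD1_c21 LD2_c10 LD3_c32)) = (LP (LK LD1_c15 LD2_c12 LD3_c55)) :=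
  Lgr Lrot60 (Lpe (f193516 IH) (Lpr_df (f193512 IH) (Lpe (f193517 IH) (Lpn (LP (LK LD1_c15 LD2_c12 LD3_c55))))))
theorem f101410 : Led Lsl_et (LP (LK LD1_c4 LD2_c26 LD3_c55)) = (LP (LK LD1_c8 LD2_c51 LD3_c39)) :=
  Lre_e IH (LK LD1_c4 LD2_c26 LD3_c55) (LK LD1_c8 LD2_c51 LD3_c39) Lrfl Lrfl
theorem f192732 : Led Lsl_et (LP (LK LD1_c8 LD2_c3 LD3_c24)) = (LP (LK LD1_c4 LD2_c1 LD3_c22)) :=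
  Lre_e IH (LK LD1_c8 LD2_c3 LD3_c24) (LK LD1_c4 LD2_c1 LD3_c22) Lrfl Lrfl
theorem f192733 : Led Lsl_dt (LP (LK LD1_c8 LD2_c51 LD3_c39)) = (LP (LK LD1_c8 LD2_c3 LD3_c24)) :=
  Lgr Lrot77 (Lpe (f101410 IH) (Lpe (K12.f101409 IH) (Lpr_ef (K12.f192726 IH) (Lpe (K10.f171534 IH) (Lpe (f192732 IH) (Lpn (LP (LK LD1_c8 LD2_c3 LD3_c24))))))))
theorem f192739 : Led Lsl_ft (LP (LK LD1_c16 LD2_c33 LD3_c60)) = (LP (LK LD1_c8 LD2_c51 LD3_c39)) :=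
  Lre_f IH (LK LD1_c16 LD2_c33 LD3_c60) (LK LD1_c8 LD2_c51 LD3_c39) Lrfl Lrfl
theorem f192740 : Led Lsl_ft (LP (LK LD1_c8 LD2_c3 LD3_c24)) = (LP (LK LD1_c15 LD2_c10 LD3_c6)) :=
  Lre_f IH (LK LD1_c8 LD2_c3 LD3_c24) (LK LD1_c15 LD2_c10 LD3_c6) Lrfl Lrfl
theorem f192741 : Led Lsl_df (LP (LK LD1_c16 LD2_c33 LD3_c60)) = (LP (LK LD1_c15 LD2_c10 LD3_c6)) :=
  Lgr Lrot78 (Lpr_ft (f192739 IH) (Lpr_dt (f192733 IH) (Lpr_ft (f192740 IH) (Lpn (LP (LK LD1_c15 LD2_c10 LD3_c6))))))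
theorem f271927 : Led Lsl_at (LP (LK LD1_c15 LD2_c12 LD3_c55)) = (LP (LK LD1_c15 LD2_c10 LD3_c6)) :=
  Lgr Lrot51 (Lpe (f193518 IH) (Lpr_af (f271923 IH) (Lpr_df (f192741 IH) (Lpn (LP (LK LD1_c15 LD2_c10 LD3_c6))))))
theorem f193520 : Led Lsl_ft (LP (LK LD1_c8 LD2_c4 LD3_c50)) = (LP (LK LD1_c15 LD2_c12 LD3_c55)) :=
  Lre_f IH (LK LD1_c8 LD2_c4 LD3_c50) (LK LD1_c15 LD2_c12 LD3_c55) Lrfl Lrfl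
theorem f192757 : Led Lsl_ft (LP (LK LD1_c15 LD2_c10 LD3_c6)) = (LP (LK LD1_c8 LD2_c3 LD3_c24)) :=
  Lre_f IH (LK LD1_c15 LD2_c10 LD3_c6) (LK LD1_c8 LD2_c3 LD3_c24) Lrfl Lrfl
theorem f271933 : Led Lsl_af (LP (LK LD1_c8 LD2_c4 LD3_c50)) = (LP (LK LD1_c8 LD2_c3 LD3_c24)) :=
  Lgr Lrot45 (Lpr_ft (f193520 IH) (Lpr_at (f271927 IH) (Lpr_ft (f192757 IH) (Lpn (LP (LK LD1_c8 LD2_c3 LD3_c24))))))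
theorem f193496 : Led Lsl_et (LP (LK LD1_c8 LD2_c4 LD3_c50)) = (LP (LK LD1_c4 LD2_c2 LD3_c7)) :=
  Lre_e IH (LK LD1_c8 LD2_c4 LD3_c50) (LK LD1_c4 LD2_c2 LD3_c7) Lrfl Lrfl
theorem f192723 : Led Lsl_et (LP (LK LD1_c4 LD2_c1 LD3_c22)) = (LP (LK LD1_c8 LD2_c3 LD3_c24)) :=
  Lre_e IH (LK LD1_c4 LD2_c1 LD3_c22) (LK LD1_c8 LD2_c3 LD3_c24) Lrfl Lrfl
theorem f271942 : Led Lsl_at (LP (LK LD1_c4 LD2_c2 LD3_c7)) = (LP (LK LD1_c4 LD2_c1 LD3_c22)) :=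
  Lgr Lrot80 (Lpe (f193496 IH) (Lpr_af (f271933 IH) (Lpe (f192723 IH) (Lpn (LP (LK LD1_c4 LD2_c1 LD3_c22))))))
theorem f271953 : Led Lsl_ff (LP (LK LD1_c4 LD2_c2 LD3_c7)) = (LP (LK LD1_c4 LD2_c1 LD3_c17)) :=
  Lgr Lrot52 (Lpr_at (f271942 IH) (Lpr_gf (K10.f196130 IH) (Lpr_gf (K13.f227325 IH) (Lpn (LP (LK LD1_c4 LD2_c1 LD3_c17))))))
theorem f271960 : Led Lsl_ft (LP (LK LD1_c4 LD2_c2 LD3_c7)) = (LP (LK LD1_c4 LD2_c1 LD3_c17)) :=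
  Lgr Lrot48 (Lpr_ff (f271953 IH) (Lpn (LP (LK LD1_c4 LD2_c1 LD3_c17))))
theorem f271966 : Led Lsl_af (LP (LK LD1_c4 LD2_c2 LD3_c3)) = (LP (LK LD1_c4 LD2_c1 LD3_c17)) :=
  Lgr Lrot31 (Lpe (K13.f242126 IH) (Lpr_gf (K12.f193501 IH) (Lpr_ft (f271960 IH) (Lpn (LP (LK LD1_c4 LD2_c1 LD3_c17))))))
theorem f271947 : Led Lsl_af (LP (LK LD1_c4 LD2_c2 LD3_c7)) = (LP (LK LD1_c4 LD2_c1 LD3_c22)) :=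
  Lgr Lrot0 (Lpr_at (f271942 IH) (Lpn (LP (LK LD1_c4 LD2_c1 LD3_c22))))
theorem f271976 : Led Lsl_ft (LP (LK LD1_c4 LD2_c2 LD3_c3)) = (LP (LK LD1_c4 LD2_c1 LD3_c22)) :=
  Lgr Lrot101 (Lpr_af (f271966 IH) (Lpe (f271960 IH) (Lpr_af (f271947 IH) (Lpn (LP (LK LD1_c4 LD2_c1 LD3_c22))))))
theorem f271982 : Led Lsl_ff (LP (LK LD1_c4 LD2_c2 LD3_c3)) = (LP (LK LD1_c4 LD2_c1 LD3_c22)) :=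
  Lgr Lrot3 (Lpr_ft (f271976 IH) (Lpn (LP (LK LD1_c4 LD2_c1 LD3_c22))))
theorem f271986 : Led Lsl_ft (LP (LK LD1_c1 LD2_c57 LD3_c59)) = (LP (LK LD1_c1 LD2_c57 LD3_c37)) :=
  Lgr Lrot54 (Lpe (K13.f229133 IH) (Lpr_ff (f271982 IH) (Lpe (K10.f192722 IH) (Lpn (LP (LK LD1_c1 LD2_c57 LD3_c37))))))
theorem f271951 : Led Lsl_af (LP (LK LD1_c1 LD2_c58 LD3_c1)) = (LP (LK LD1_c1 LD2_c57 LD3_c37)) :=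
  Lgr Lrot117 (Lpr_dt (K12.f193464 IH) (Lpr_at (f271942 IH) (Lpr_dt (K10.f171534 IH) (Lpn (LP (LK LD1_c1 LD2_c57 LD3_c37))))))
theorem f271957 : Led Lsl_ft (LP (LK LD1_c1 LD2_c58 LD3_c1)) = (LP (LK LD1_c1 LD2_c57 LD3_c33)) :=
  Lgr Lrot54 (Lpe (K12.f34066 IH) (Lpr_ff (f271953 IH) (Lpe (K13.f182465 IH) (Lpn (LP (LK LD1_c1 LD2_c57 LD3_c33))))))
theorem f271994 : Led Lsl_af (LP (LK LD1_c1 LD2_c57 LD3_c59)) = (LP (LK LD1_c1 LD2_c57 LD3_c33)) :=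
  Lgr Lrot45 (Lpr_ft (f271986 IH) (Lpe (f271951 IH) (Lpr_ft (f271957 IH) (Lpn (LP (LK LD1_c1 LD2_c57 LD3_c33))))))
theorem f271996 : Led Lsl_at (LP (LK LD1_c0 LD2_c55 LD3_c51)) = (LP (LK LD1_c0 LD2_c55 LD3_c37)) :=
  Lgr Lrot107 (Lpe (f229132 IH) (Lpr_af (f271994 IH) (Lpe (K13.f165181 IH) (Lpn (LP (LK LD1_c0 LD2_c55 LD3_c37))))))
theorem f193660 : Led Lsl_et (LP (LK LD1_c1 LD2_c57 LD3_c60)) = (LP (LK LD1_c0 LD2_c55 LD3_c51)) :=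
  Lre_e IH (LK LD1_c1 LD2_c57 LD3_c60) (LK LD1_c0 LD2_c55 LD3_c51) Lrfl Lrfl
theorem f272002 : Led Lsl_af (LP (LK LD1_c1 LD2_c57 LD3_c60)) = (LP (LK LD1_c1 LD2_c57 LD3_c34)) :=
  Lgr Lrot50 (Lpr_et (f193660 IH) (Lpr_at (f271996 IH) (Lpr_et (K12.f182399 IH) (Lpn (LP (LK LD1_c1 LD2_c57 LD3_c34))))))
theorem f240705 : Led Lsl_gt (LP (LK LD1_c1 LD2_c12 LD3_c44)) = (LP (LK LD1_c2 LD2_c29 LD3_c51)) :=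
  Lgr Lrot9 (Lpe (K15.f182030 IH) (Lpr_gt (K10.f192347 IH) (Lpr_ct (K0.f28702 IH) (Lpe (K10.f31624 IH) (Lpr_ct (K11.f31626 IH) (Lpe (K11.f31649 IH) (Lpe (K11.f31647 IH) (Lpe (K13.f31648 IH) (Lpr_cf (K13.f240694 IH) (Lpn (LP (LK LD1_c2 LD2_c29 LD3_c51))))))))))))
theorem f59143 : Led Lsl_dt (LP (LK LD1_c1 LD2_c6 LD3_c26)) = (LP (LK LD1_c2 LD2_c18 LD3_c51)) :=
  Lre_d IH (LK LD1_c1 LD2_c6 LD3_c26) (LK LD1_c2 LD2_c18 LD3_c51) Lrfl Lrfl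
theorem f240899 : Led Lsl_dt (LP (LK LD1_c1 LD2_c57 LD3_c60)) = (LP (LK LD1_c1 LD2_c56 LD3_c13)) :=
  Lgr Lrot136 (Lpr_et (f193660 IH) (Lpe (K13.f194133 IH) (Lpe (K13.f240603 IH) (Lpr_dt (K12.f216356 IH) (Lpe (K12.f211592 IH) (Lpr_df (K13.f240895 IH) (Lpe (f240705 IH) (Lpr_ef (K13.f210877 IH) (Lpr_dt (f59143 IH) (Lpe (K13.f239168 IH) (Lpn (LP (LK LD1_c1 LD2_c56 LD3_c13)))))))))))))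
theorem f240901 : Led Lsl_bf (LP (LK LD1_c1 LD2_c57 LD3_c60)) = (LP (LK LD1_c0 LD2_c57 LD3_c29)) :=
  Lgr Lrot93 (Lpr_dt (f240899 IH) (Lpr_bt (K13.f28392 IH) (Lpe (K10.f28386 IH) (Lpn (LP (LK LD1_c0 LD2_c57 LD3_c29))))))
theorem f240903 : Led Lsl_bt (LP (LK LD1_c1 LD2_c57 LD3_c60)) = (LP (LK LD1_c0 LD2_c57 LD3_c29)) :=
  Lgr Lrot127 (Lpr_bf (f240901 IH) (Lpn (LP (LK LD1_c0 LD2_c57 LD3_c29))))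
theorem f239374 : Led Lsl_af (LP (LK LD1_c1 LD2_c59 LD3_c30)) = (LP (LK LD1_c2 LD2_c0 LD3_c2)) :=
  Lgr Lrot117 (Lpr_dt (K13.f237335 IH) (Lpr_at (K13.f239368 IH) (Lpe (K13.f196377 IH) (Lpn (LP (LK LD1_c2 LD2_c0 LD3_c2))))))
theorem f272006 : Led Lsl_at (LP (LK LD1_c0 LD2_c57 LD3_c29)) = (LP (LK LD1_c0 LD2_c56 LD3_c61)) :=
  Lgr Lrot67 (Lpe (f240903 IH) (Lpr_af (f272002 IH) (Lpr_bf (K13.f193096 IH) (Lpr_af (f239374 IH) (Lpe (K13.f186455 IH) (Lpn (LP (LK LD1_c0 LD2_c56 LD3_c61))))))))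
theorem f28398 : Led Lsl_ct (LP (LK LD1_c2 LD2_c0 LD3_c56)) = (LP (LK LD1_c0 LD2_c57 LD3_c29)) :=
  Lre_c IH (LK LD1_c2 LD2_c0 LD3_c56) (LK LD1_c0 LD2_c57 LD3_c29) Lrfl Lrfl
theorem f272010 : Led Lsl_af (LP (LK LD1_c2 LD2_c0 LD3_c56)) = (LP (LK LD1_c2 LD2_c0 LD3_c5)) :=
  Lgr Lrot68 (Lpr_ct (f28398 IH) (Lpr_at (f272006 IH) (Lpr_ct (K11.f59021 IH) (Lpn (LP (LK LD1_c2 LD2_c0 LD3_c5))))))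
theorem f181147 : Led Lsl_et (LP (LK LD1_c2 LD2_c0 LD3_c56)) = (LP (LK LD1_c0 LD2_c57 LD3_c28)) :=
  Lre_e IH (LK LD1_c2 LD2_c0 LD3_c56) (LK LD1_c0 LD2_c57 LD3_c28) Lrfl Lrfl
theorem f272016 : Led Lsl_at (LP (LK LD1_c0 LD2_c57 LD3_c28)) = (LP (LK LD1_c0 LD2_c56 LD3_c60)) :=
  Lgr Lrot80 (Lpe (f181147 IH) (Lpr_af (f272010 IH) (Lpe (K11.f182481 IH) (Lpn (LP (LK LD1_c0 LD2_c56 LD3_c60))))))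
theorem f272020 : Led Lsl_af (LP (LK LD1_c1 LD2_c25 LD3_c55)) = (LP (LK LD1_c2 LD2_c0 LD3_c4)) :=
  Lgr Lrot117 (Lpe (K9.f177798 IH) (Lpr_at (f272016 IH) (Lpr_dt (K9.f182480 IH) (Lpn (LP (LK LD1_c2 LD2_c0 LD3_c4))))))
theorem f181146 : Led Lsl_et (LP (LK LD1_c1 LD2_c25 LD3_c55)) = (LP (LK LD1_c3 LD2_c0 LD3_c20)) :=
  Lre_e IH (LK LD1_c1 LD2_c25 LD3_c55) (LK LD1_c3 LD2_c0 LD3_c20) Lrfl Lrfl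
theorem f183191 : Led Lsl_et (LP (LK LD1_c4 LD2_c5 LD3_c37)) = (LP (LK LD1_c2 LD2_c0 LD3_c4)) :=
  Lre_e IH (LK LD1_c4 LD2_c5 LD3_c37) (LK LD1_c2 LD2_c0 LD3_c4) Lrfl Lrfl
theorem f411155 : Led Lsl_at (LP (LK LD1_c3 LD2_c0 LD3_c20)) = (LP (LK LD1_c4 LD2_c5 LD3_c37)) :=
  Lgr Lrot80 (Lpe (f181146 IH) (Lpr_af (f272020 IH) (Lpe (f183191 IH) (Lpn (LP (LK LD1_c4 LD2_c5 LD3_c37))))))
theorem f411157 : Led Lsl_af (LP (LK LD1_c3 LD2_c0 LD3_c20)) = (LP (LK LD1_c4 LD2_c5 LD3_c37)) :=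
  Lgr Lrot0 (Lpr_at (f411155 IH) (Lpn (LP (LK LD1_c4 LD2_c5 LD3_c37))))
theorem f59955 : Led Lsl_dt (LP (LK LD1_c3 LD2_c0 LD3_c20)) = (LP (LK LD1_c6 LD2_c8 LD3_c13)) :=
  Lre_d IH (LK LD1_c3 LD2_c0 LD3_c20) (LK LD1_c6 LD2_c8 LD3_c13) Lrfl Lrfl
theorem f198628 : Led Lsl_dt (LP (LK LD1_c5 LD2_c50 LD3_c44)) = (LP (LK LD1_c4 LD2_c5 LD3_c37)) :=
  Lgr Lrot77 (Lpe (K11.f198627 IH) (Lpr_df (K11.f198623 IH) (Lpe (K11.f182481 IH) (Lpe (K9.f182473 IH) (Lpe (f183191 IH) (Lpn (LP (LK LD1_c4 LD2_c5 LD3_c37))))))))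
theorem f411173 : Led Lsl_at (LP (LK LD1_c6 LD2_c8 LD3_c13)) = (LP (LK LD1_c5 LD2_c50 LD3_c44)) :=
  Lgr Lrot51 (Lpe (f59955 IH) (Lpr_af (f411157 IH) (Lpe (f198628 IH) (Lpn (LP (LK LD1_c5 LD2_c50 LD3_c44))))))
theorem f411177 : Led Lsl_af (LP (LK LD1_c6 LD2_c8 LD3_c13)) = (LP (LK LD1_c5 LD2_c50 LD3_c44)) :=
  Lgr Lrot0 (Lpr_at (f411173 IH) (Lpn (LP (LK LD1_c5 LD2_c50 LD3_c44))))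
theorem f181157 : Led Lsl_dt (LP (LK LD1_c6 LD2_c8 LD3_c13)) = (LP (LK LD1_c3 LD2_c0 LD3_c20)) :=
  Lre_d IH (LK LD1_c6 LD2_c8 LD3_c13) (LK LD1_c3 LD2_c0 LD3_c20) Lrfl Lrfl
theorem f411179 : Led Lsl_dt (LP (LK LD1_c4 LD2_c5 LD3_c37)) = (LP (LK LD1_c5 LD2_c50 LD3_c44)) :=
  Lgr Lrot44 (Lpe (f411155 IH) (Lpe (f181157 IH) (Lpr_af (f411177 IH) (Lpn (LP (LK LD1_c5 LD2_c50 LD3_c44))))))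
theorem f175355 : Led Lsl_et (LP (LK LD1_c2 LD2_c16 LD3_c59)) = (LP (LK LD1_c1 LD2_c5 LD3_c24)) :=
  Lre_e IH (LK LD1_c2 LD2_c16 LD3_c59) (LK LD1_c1 LD2_c5 LD3_c24) Lrfl Lrfl
theorem f193909 : Led Lsl_dt (LP (LK LD1_c4 LD2_c40 LD3_c7)) = (LP (LK LD1_c2 LD2_c17 LD3_c5)) :=
  Lre_d IH (LK LD1_c4 LD2_c40 LD3_c7) (LK LD1_c2 LD2_c17 LD3_c5) Lrfl Lrfl
theorem f421000 : Led Lsl_gt (LP (LK LD1_c9 LD2_c13 LD3_c38)) = (LP (LK LD1_c4 LD2_c40 LD3_c7)) :=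
  Lgr Lrot137 (Lpe (K11.f27080 IH) (Lpr_dt (K11.f27081 IH) (Lpr_gf (K11.f420998 IH) (Lpe (f411179 IH) (Lpr_et (f183191 IH) (Lpe (K9.f182474 IH) (Lpe (f175355 IH) (Lpr_dt (K0.f23814 IH) (Lpe (K11.f198670 IH) (Lpe (f193909 IH) (Lpn (LP (LK LD1_c4 LD2_c40 LD3_c7)))))))))))))
theorem f27066 : Led Lsl_dt (LP (LK LD1_c4 LD2_c38 LD3_c56)) = (LP (LK LD1_c9 LD2_c13 LD3_c38)) :=
  Lre_d IH (LK LD1_c4 LD2_c38 LD3_c56) (LK LD1_c9 LD2_c13 LD3_c38) Lrfl Lrfl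
theorem f27065 : Led Lsl_et (LP (LK LD1_c4 LD2_c38 LD3_c56)) = (LP (LK LD1_c2 LD2_c16 LD3_c28)) :=
  Lre_e IH (LK LD1_c4 LD2_c38 LD3_c56) (LK LD1_c2 LD2_c16 LD3_c28) Lrfl Lrfl
theorem f204267 : Led Lsl_gt (LP (LK LD1_c1 LD2_c24 LD3_c28)) = (LP (LK LD1_c2 LD2_c16 LD3_c28)) :=
  Lgr Lrot5 (Lpr_ft (K11.f204247 IH) (Lpr_at (K11.f204248 IH) (Lpe (K11.f27064 IH) (Lpn (LP (LK LD1_c2 LD2_c16 LD3_c28))))))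
theorem f204497 : Led Lsl_et (LP (LK LD1_c2 LD2_c16 LD3_c23)) = (LP (LK LD1_c1 LD2_c24 LD3_c28)) :=
  Lgr Lrot87 (Lpr_ef (K11.f204489 IH) (Lpn (LP (LK LD1_c1 LD2_c24 LD3_c28))))
theorem f26832 : Led Lsl_at (LP (LK LD1_c9 LD2_c12 LD3_c51)) = (LP (LK LD1_c4 LD2_c38 LD3_c36)) :=
  Lre_a IH (LK LD1_c9 LD2_c12 LD3_c51) (LK LD1_c4 LD2_c38 LD3_c36) Lrfl Lrfl
theorem f26833 : Led Lsl_at (LP (LK LD1_c2 LD2_c17 LD3_c49)) = (LP (LK LD1_c4 LD2_c41 LD3_c24)) :=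
  Lre_a IH (LK LD1_c2 LD2_c17 LD3_c49) (LK LD1_c4 LD2_c41 LD3_c24) Lrfl Lrfl
theorem f26834 : Led Lsl_ef (LP (LK LD1_c9 LD2_c12 LD3_c51)) = (LP (LK LD1_c4 LD2_c41 LD3_c24)) :=
  Lgr Lrot20 (Lpr_at (f26832 IH) (Lpr_et (K8.f26829 IH) (Lpr_at (f26833 IH) (Lpn (LP (LK LD1_c4 LD2_c41 LD3_c24))))))
theorem f202216 : Led Lsl_et (LP (LK LD1_c1 LD2_c24 LD3_c15)) = (LP (LK LD1_c2 LD2_c56 LD3_c60)) :=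
  Lre_e IH (LK LD1_c1 LD2_c24 LD3_c15) (LK LD1_c2 LD2_c56 LD3_c60) Lrfl Lrfl
theorem f202217 : Led Lsl_dt (LP (LK LD1_c2 LD2_c56 LD3_c60)) = (LP (LK LD1_c6 LD2_c1 LD3_c44)) :=
  Lre_d IH (LK LD1_c2 LD2_c56 LD3_c60) (LK LD1_c6 LD2_c1 LD3_c44) Lrfl Lrfl
theorem f202219 : Led Lsl_dt (LP (LK LD1_c3 LD2_c5 LD3_c14)) = (LP (LK LD1_c1 LD2_c28 LD3_c39)) :=
  Lre_d IH (LK LD1_c3 LD2_c5 LD3_c14) (LK LD1_c1 LD2_c28 LD3_c39) Lrfl Lrfl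
theorem f202220 : Led Lsl_et (LP (LK LD1_c6 LD2_c1 LD3_c44)) = (LP (LK LD1_c3 LD2_c5 LD3_c14)) :=
  Lgr Lrot71 (Lpe (f202217 IH) (Lpe (f202216 IH) (Lpr_df (K11.f202209 IH) (Lpe (K11.f202218 IH) (Lpe (f202219 IH) (Lpn (LP (LK LD1_c3 LD2_c5 LD3_c14))))))))
theorem f210071 : Led Lsl_bt (LP (LK LD1_c9 LD2_c12 LD3_c51)) = (LP (LK LD1_c6 LD2_c1 LD3_c44)) :=
  Lgr Lrot119 (Lpr_ef (f26834 IH) (Lpr_bf (K11.f210063 IH) (Lpe (f202220 IH) (Lpn (LP (LK LD1_c6 LD2_c1 LD3_c44))))))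
theorem f26893 : Led Lsl_dt (LP (LK LD1_c4 LD2_c38 LD3_c29)) = (LP (LK LD1_c9 LD2_c12 LD3_c51)) :=
  Lre_d IH (LK LD1_c4 LD2_c38 LD3_c29) (LK LD1_c9 LD2_c12 LD3_c51) Lrfl Lrfl
theorem f202270 : Led Lsl_dt (LP (LK LD1_c6 LD2_c1 LD3_c44)) = (LP (LK LD1_c2 LD2_c56 LD3_c60)) :=
  Lre_d IH (LK LD1_c6 LD2_c1 LD3_c44) (LK LD1_c2 LD2_c56 LD3_c60) Lrfl Lrfl
theorem f210077 : Led Lsl_bf (LP (LK LD1_c4 LD2_c38 LD3_c29)) = (LP (LK LD1_c2 LD2_c56 LD3_c60)) :=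
  Lgr Lrot93 (Lpr_dt (f26893 IH) (Lpr_bt (f210071 IH) (Lpr_dt (f202270 IH) (Lpn (LP (LK LD1_c2 LD2_c56 LD3_c60))))))
theorem f210079 : Led Lsl_at (LP (LK LD1_c4 LD2_c38 LD3_c29)) = (LP (LK LD1_c2 LD2_c16 LD3_c19)) :=
  Lre_a IH (LK LD1_c4 LD2_c38 LD3_c29) (LK LD1_c2 LD2_c16 LD3_c19) Lrfl Lrfl
theorem f210080 : Led Lsl_at (LP (LK LD1_c1 LD2_c24 LD3_c17)) = (LP (LK LD1_c2 LD2_c56 LD3_c60)) :=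
  Lre_a IH (LK LD1_c1 LD2_c24 LD3_c17) (LK LD1_c2 LD2_c56 LD3_c60) Lrfl Lrfl
theorem f69056 : Led Lsl_bt (LP (LK LD1_c0 LD2_c38 LD3_c54)) = (LP (LK LD1_c1 LD2_c24 LD3_c17)) :=
  Lre_b IH (LK LD1_c0 LD2_c38 LD3_c54) (LK LD1_c1 LD2_c24 LD3_c17) Lrfl Lrfl
theorem f210081 : Led Lsl_at (LP (LK LD1_c1 LD2_c5 LD3_c5)) = (LP (LK LD1_c0 LD2_c38 LD3_c54)) :=
  Lgr Lrot67 (Lpe (K11.f150463 IH) (Lpe (f210079 IH) (Lpr_bf (f210077 IH) (Lpe (f210080 IH) (Lpe (f69056 IH) (Lpn (LP (LK LD1_c0 LD2_c38 LD3_c54))))))))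
theorem f210107 : Led Lsl_af (LP (LK LD1_c1 LD2_c5 LD3_c5)) = (LP (LK LD1_c0 LD2_c38 LD3_c54)) :=
  Lgr Lrot0 (Lpr_at (f210081 IH) (Lpn (LP (LK LD1_c0 LD2_c38 LD3_c54))))
theorem f69071 : Led Lsl_dt (LP (LK LD1_c1 LD2_c24 LD3_c20)) = (LP (LK LD1_c0 LD2_c38 LD3_c54)) :=
  Lre_d IH (LK LD1_c1 LD2_c24 LD3_c20) (LK LD1_c0 LD2_c38 LD3_c54) Lrfl Lrfl
theorem f210128 : Led Lsl_at (LP (LK LD1_c2 LD2_c16 LD3_c22)) = (LP (LK LD1_c1 LD2_c24 LD3_c20)) :=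
  Lgr Lrot51 (Lpe (K8.f26774 IH) (Lpr_af (f210107 IH) (Lpe (f69071 IH) (Lpn (LP (LK LD1_c1 LD2_c24 LD3_c20))))))
theorem f69106 : Led Lsl_ft (LP (LK LD1_c1 LD2_c24 LD3_c20)) = (LP (LK LD1_c2 LD2_c57 LD3_c11)) :=
  Lre_f IH (LK LD1_c1 LD2_c24 LD3_c20) (LK LD1_c2 LD2_c57 LD3_c11) Lrfl Lrfl
theorem f210134 : Led Lsl_af (LP (LK LD1_c4 LD2_c38 LD3_c42)) = (LP (LK LD1_c2 LD2_c57 LD3_c11)) :=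
  Lgr Lrot45 (Lpr_ft (K11.f26807 IH) (Lpr_at (f210128 IH) (Lpr_ft (f69106 IH) (Lpn (LP (LK LD1_c2 LD2_c57 LD3_c11))))))
theorem f59861 : Led Lsl_gt (LP (LK LD1_c1 LD2_c24 LD3_c20)) = (LP (LK LD1_c2 LD2_c57 LD3_c10)) :=
  Lre_g IH (LK LD1_c1 LD2_c24 LD3_c20) (LK LD1_c2 LD2_c57 LD3_c10) Lrfl Lrfl
theorem f210140 : Led Lsl_gf (LP (LK LD1_c4 LD2_c38 LD3_c42)) = (LP (LK LD1_c2 LD2_c57 LD3_c10)) :=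
  Lgr Lrot76 (Lpr_af (f210134 IH) (Lpe (f69106 IH) (Lpr_gt (f59861 IH) (Lpn (LP (LK LD1_c2 LD2_c57 LD3_c10))))))
theorem f59862 : Led Lsl_dt (LP (LK LD1_c6 LD2_c2 LD3_c9)) = (LP (LK LD1_c2 LD2_c57 LD3_c10)) :=
  Lre_d IH (LK LD1_c6 LD2_c2 LD3_c9) (LK LD1_c2 LD2_c57 LD3_c10) Lrfl Lrfl
theorem f58580 : Led Lsl_dt (LP (LK LD1_c2 LD2_c17 LD3_c5)) = (LP (LK LD1_c4 LD2_c40 LD3_c7)) :=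
  Lre_d IH (LK LD1_c2 LD2_c17 LD3_c5) (LK LD1_c4 LD2_c40 LD3_c7) Lrfl Lrfl
theorem f421006 : Led Lsl_et (LP (LK LD1_c2 LD2_c17 LD3_c5)) = (LP (LK LD1_c4 LD2_c40 LD3_c8)) :=
  Lre_e IH (LK LD1_c2 LD2_c17 LD3_c5) (LK LD1_c4 LD2_c40 LD3_c8) Lrfl Lrfl
theorem f421007 : Led Lsl_gf (LP (LK LD1_c6 LD2_c2 LD3_c9)) = (LP (LK LD1_c4 LD2_c40 LD3_c8)) :=
  Lgr Lrot138 (Lpr_dt (f59862 IH) (Lpe (f210140 IH) (Lpe (K11.f150501 IH) (Lpr_et (f204497 IH) (Lpr_gt (f204267 IH) (Lpe (f27065 IH) (Lpr_dt (f27066 IH) (Lpr_gt (f421000 IH) (Lpe (f58580 IH) (Lpr_et (f421006 IH) (Lpn (LP (LK LD1_c4 LD2_c40 LD3_c8)))))))))))))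
theorem f20766 : Led Lsl_ct (LP (LK LD1_c1 LD2_c3 LD3_c37)) = (LP (LK LD1_c2 LD2_c13 LD3_c6)) :=
  Lre_c IH (LK LD1_c1 LD2_c3 LD3_c37) (LK LD1_c2 LD2_c13 LD3_c6) Lrfl Lrfl
theorem f255148 : Led Lsl_gf (LP (LK LD1_c1 LD2_c20 LD3_c5)) = (LP (LK LD1_c2 LD2_c13 LD3_c6)) :=
  Lgr Lrot129 (Lpe (K13.f172712 IH) (Lpr_bt (K13.f172710 IH) (Lpr_gt (K14.f255146 IH) (Lpe (K14.f210579 IH) (Lpe (f210592 IH) (Lpr_gt (f210596 IH) (Lpe (K10.f20778 IH) (Lpr_bt (K10.f181443 IH) (Lpr_gt (K9.f20765 IH) (Lpr_ct (f20766 IH) (Lpn (LP (LK LD1_c2 LD2_c13 LD3_c6)))))))))))))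
theorem f172714 : Led Lsl_dt (LP (LK LD1_c2 LD2_c47 LD3_c34)) = (LP (LK LD1_c1 LD2_c20 LD3_c5)) :=
  Lre_d IH (LK LD1_c2 LD2_c47 LD3_c34) (LK LD1_c1 LD2_c20 LD3_c5) Lrfl Lrfl
theorem f242646 : Led Lsl_et (LP (LK LD1_c2 LD2_c47 LD3_c34)) = (LP (LK LD1_c5 LD2_c43 LD3_c9)) :=
  Lre_e IH (LK LD1_c2 LD2_c47 LD3_c34) (LK LD1_c5 LD2_c43 LD3_c9) Lrfl Lrfl
theorem f175927 : Led Lsl_gt (LP (LK LD1_c0 LD2_c40 LD3_c61)) = (LP (LK LD1_c1 LD2_c28 LD3_c44)) :=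
  Lre_g IH (LK LD1_c0 LD2_c40 LD3_c61) (LK LD1_c1 LD2_c28 LD3_c44) Lrfl Lrfl
theorem f186327 : Led Lsl_df (LP (LK LD1_c2 LD2_c13 LD3_c6)) = (LP (LK LD1_c1 LD2_c28 LD3_c44)) :=
  Lgr Lrot84 (Lpe (f20766 IH) (Lpr_df (K9.f181115 IH) (Lpe (K9.f20477 IH) (Lpe (K6.f20442 IH) (Lpe (K9.f146326 IH) (Lpe (K11.f146337 IH) (Lpr_gt (K11.f186325 IH) (Lpr_dt (K11.f58988 IH) (Lpr_gt (f175927 IH) (Lpn (LP (LK LD1_c1 LD2_c28 LD3_c44))))))))))))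
theorem f204636 : Led Lsl_et (LP (LK LD1_c6 LD2_c2 LD3_c10)) = (LP (LK LD1_c2 LD2_c57 LD3_c11)) :=
  Lre_e IH (LK LD1_c6 LD2_c2 LD3_c10) (LK LD1_c2 LD2_c57 LD3_c11) Lrfl Lrfl
theorem f69089 : Led Lsl_ft (LP (LK LD1_c2 LD2_c57 LD3_c11)) = (LP (LK LD1_c1 LD2_c24 LD3_c20)) :=
  Lre_f IH (LK LD1_c2 LD2_c57 LD3_c11) (LK LD1_c1 LD2_c24 LD3_c20) Lrfl Lrfl
theorem f59109 : Led Lsl_ft (LP (LK LD1_c0 LD2_c40 LD3_c61)) = (LP (LK LD1_c1 LD2_c28 LD3_c47)) :=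
  Lre_f IH (LK LD1_c0 LD2_c40 LD3_c61) (LK LD1_c1 LD2_c28 LD3_c47) Lrfl Lrfl
theorem f204661 : Led Lsl_et (LP (LK LD1_c1 LD2_c24 LD3_c20)) = (LP (LK LD1_c0 LD2_c40 LD3_c61)) :=
  Lgr Lrot69 (Lpe (f69089 IH) (Lpe (f204636 IH) (Lpr_ff (K11.f204653 IH) (Lpe (K11.f204447 IH) (Lpe (f59109 IH) (Lpn (LP (LK LD1_c0 LD2_c40 LD3_c61))))))))
theorem f59823 : Led Lsl_gt (LP (LK LD1_c1 LD2_c24 LD3_c19)) = (LP (LK LD1_c0 LD2_c38 LD3_c54)) :=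
  Lre_g IH (LK LD1_c1 LD2_c24 LD3_c19) (LK LD1_c0 LD2_c38 LD3_c54) Lrfl Lrfl
theorem f69111 : Led Lsl_dt (LP (LK LD1_c2 LD2_c57 LD3_c8)) = (LP (LK LD1_c1 LD2_c24 LD3_c19)) :=
  Lre_d IH (LK LD1_c2 LD2_c57 LD3_c8) (LK LD1_c1 LD2_c24 LD3_c19) Lrfl Lrfl
theorem f210118 : Led Lsl_et (LP (LK LD1_c2 LD2_c57 LD3_c8)) = (LP (LK LD1_c6 LD2_c2 LD3_c6)) :=
  Lre_e IH (LK LD1_c2 LD2_c57 LD3_c8) (LK LD1_c6 LD2_c2 LD3_c6) Lrfl Lrfl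
theorem f413425 : Led Lsl_gt (LP (LK LD1_c5 LD2_c43 LD3_c9)) = (LP (LK LD1_c6 LD2_c2 LD3_c6)) :=
  Lgr Lrot131 (Lpe (f242646 IH) (Lpr_dt (f172714 IH) (Lpr_gf (f255148 IH) (Lpr_df (f186327 IH) (Lpe (f175927 IH) (Lpe (f204661 IH) (Lpr_dt (f69071 IH) (Lpe (f59823 IH) (Lpe (f69111 IH) (Lpr_et (f210118 IH) (Lpn (LP (LK LD1_c6 LD2_c2 LD3_c6)))))))))))))
theorem f268221 : Led Lsl_ft (LP (LK LD1_c0 LD2_c57 LD3_c0)) = (LP (LK LD1_c0 LD2_c57 LD3_c28)) :=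
  Lgr Lrot48 (Lpr_ff (K15.f268214 IH) (Lpn (LP (LK LD1_c0 LD2_c57 LD3_c28))))
theorem f268225 : Led Lsl_af (LP (LK LD1_c0 LD2_c57 LD3_c0)) = (LP (LK LD1_c0 LD2_c57 LD3_c30)) :=
  Lgr Lrot0 (Lpr_at (K15.f268223 IH) (Lpn (LP (LK LD1_c0 LD2_c57 LD3_c30))))
theorem f272022 : Led Lsl_ff (LP (LK LD1_c0 LD2_c57 LD3_c30)) = (LP (LK LD1_c0 LD2_c56 LD3_c60)) :=
  Lgr Lrot30 (Lpe (f268225 IH) (Lpr_ft (f268221 IH) (Lpr_at (f272016 IH) (Lpn (LP (LK LD1_c0 LD2_c56 LD3_c60))))))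
theorem f272028 : Led Lsl_ft (LP (LK LD1_c0 LD2_c57 LD3_c30)) = (LP (LK LD1_c0 LD2_c56 LD3_c60)) :=
  Lgr Lrot48 (Lpr_ff (f272022 IH) (Lpn (LP (LK LD1_c0 LD2_c56 LD3_c60))))
theorem f175915 : Led Lsl_bt (LP (LK LD1_c2 LD2_c0 LD3_c57)) = (LP (LK LD1_c0 LD2_c57 LD3_c30)) :=
  Lre_b IH (LK LD1_c2 LD2_c0 LD3_c57) (LK LD1_c0 LD2_c57 LD3_c30) Lrfl Lrfl
theorem f194061 : Led Lsl_bt (LP (LK LD1_c0 LD2_c56 LD3_c60)) = (LP (LK LD1_c2 LD2_c0 LD3_c3)) :=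
  Lre_b IH (LK LD1_c0 LD2_c56 LD3_c60) (LK LD1_c2 LD2_c0 LD3_c3) Lrfl Lrfl
theorem f272030 : Led Lsl_ff (LP (LK LD1_c2 LD2_c0 LD3_c57)) = (LP (LK LD1_c2 LD2_c0 LD3_c3)) :=
  Lgr Lrot25 (Lpr_bt (f175915 IH) (Lpr_ft (f272028 IH) (Lpr_bt (f194061 IH) (Lpn (LP (LK LD1_c2 LD2_c0 LD3_c3))))))
theorem f80953 : Led Lsl_bt (LP (LK LD1_c1 LD2_c59 LD3_c31)) = (LP (LK LD1_c4 LD2_c4 LD3_c51)) :=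
  Lre_b IH (LK LD1_c1 LD2_c59 LD3_c31) (LK LD1_c4 LD2_c4 LD3_c51) Lrfl Lrfl
theorem f181709 : Led Lsl_cf (LP (LK LD1_c2 LD2_c0 LD3_c57)) = (LP (LK LD1_c4 LD2_c4 LD3_c51)) :=
  Lgr Lrot97 (Lpr_bt (f175915 IH) (Lpr_ct (K9.f59122 IH) (Lpr_bt (K10.f181707 IH) (Lpr_ct (K10.f80935 IH) (Lpr_bt (f80953 IH) (Lpn (LP (LK LD1_c4 LD2_c4 LD3_c51))))))))
theorem f181711 : Led Lsl_ct (LP (LK LD1_c2 LD2_c0 LD3_c57)) = (LP (LK LD1_c4 LD2_c4 LD3_c51)) :=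
  Lgr Lrot59 (Lpr_cf (f181709 IH) (Lpn (LP (LK LD1_c4 LD2_c4 LD3_c51))))
theorem f198666 : Led Lsl_ct (LP (LK LD1_c4 LD2_c5 LD3_c35)) = (LP (LK LD1_c2 LD2_c0 LD3_c3)) :=
  Lre_c IH (LK LD1_c4 LD2_c5 LD3_c35) (LK LD1_c2 LD2_c0 LD3_c3) Lrfl Lrfl
theorem f272032 : Led Lsl_ft (LP (LK LD1_c4 LD2_c4 LD3_c51)) = (LP (LK LD1_c4 LD2_c5 LD3_c35)) :=
  Lgr Lrot4 (Lpe (f181711 IH) (Lpr_ff (f272030 IH) (Lpe (f198666 IH) (Lpn (LP (LK LD1_c4 LD2_c5 LD3_c35))))))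
theorem f272040 : Led Lsl_ff (LP (LK LD1_c4 LD2_c4 LD3_c51)) = (LP (LK LD1_c4 LD2_c5 LD3_c35)) :=
  Lgr Lrot3 (Lpr_ft (f272032 IH) (Lpn (LP (LK LD1_c4 LD2_c5 LD3_c35))))
theorem f69763 : Led Lsl_bt (LP (LK LD1_c8 LD2_c5 LD3_c17)) = (LP (LK LD1_c4 LD2_c2 LD3_c22)) :=
  Lre_b IH (LK LD1_c8 LD2_c5 LD3_c17) (LK LD1_c4 LD2_c2 LD3_c22) Lrfl Lrfl
theorem f242843 : Led Lsl_dt (LP (LK LD1_c4 LD2_c4 LD3_c51)) = (LP (LK LD1_c8 LD2_c5 LD3_c17)) :=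
  Lgr Lrot79 (Lpe (f80953 IH) (Lpr_df (K13.f242840 IH) (Lpe (f69763 IH) (Lpn (LP (LK LD1_c8 LD2_c5 LD3_c17))))))
theorem f197214 : Led Lsl_bt (LP (LK LD1_c4 LD2_c1 LD3_c34)) = (LP (LK LD1_c8 LD2_c3 LD3_c46)) :=
  Lre_b IH (LK LD1_c4 LD2_c1 LD3_c34) (LK LD1_c8 LD2_c3 LD3_c46) Lrfl Lrfl
theorem f211596 : Led Lsl_bt (LP (LK LD1_c4 LD2_c5 LD3_c35)) = (LP (LK LD1_c2 LD2_c0 LD3_c1)) :=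
  Lre_b IH (LK LD1_c4 LD2_c5 LD3_c35) (LK LD1_c2 LD2_c0 LD3_c1) Lrfl Lrfl
theorem f211599 : Led Lsl_dt (LP (LK LD1_c8 LD2_c3 LD3_c46)) = (LP (LK LD1_c4 LD2_c5 LD3_c35)) :=
  Lgr Lrot79 (Lpe (f197214 IH) (Lpr_df (K12.f211594 IH) (Lpe (f211596 IH) (Lpn (LP (LK LD1_c4 LD2_c5 LD3_c35))))))
theorem f272044 : Led Lsl_ft (LP (LK LD1_c8 LD2_c5 LD3_c17)) = (LP (LK LD1_c8 LD2_c3 LD3_c46)) :=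
  Lgr Lrot54 (Lpe (f242843 IH) (Lpr_ff (f272040 IH) (Lpe (f211599 IH) (Lpn (LP (LK LD1_c8 LD2_c3 LD3_c46))))))
theorem f242114 : Led Lsl_bt (LP (LK LD1_c4 LD2_c2 LD3_c22)) = (LP (LK LD1_c8 LD2_c5 LD3_c17)) :=
  Lre_b IH (LK LD1_c4 LD2_c2 LD3_c22) (LK LD1_c8 LD2_c5 LD3_c17) Lrfl Lrfl
theorem f69772 : Led Lsl_bt (LP (LK LD1_c8 LD2_c3 LD3_c46)) = (LP (LK LD1_c4 LD2_c1 LD3_c34)) :=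
  Lre_b IH (LK LD1_c8 LD2_c3 LD3_c46) (LK LD1_c4 LD2_c1 LD3_c34) Lrfl Lrfl
theorem f272046 : Led Lsl_ff (LP (LK LD1_c4 LD2_c2 LD3_c22)) = (LP (LK LD1_c4 LD2_c1 LD3_c34)) :=
  Lgr Lrot25 (Lpr_bt (f242114 IH) (Lpr_ft (f272044 IH) (Lpr_bt (f69772 IH) (Lpn (LP (LK LD1_c4 LD2_c1 LD3_c34))))))
theorem f272058 : Led Lsl_at (LP (LK LD1_c4 LD2_c2 LD3_c22)) = (LP (LK LD1_c4 LD2_c1 LD3_c35)) :=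
  Lgr Lrot26 (Lpr_ff (f272046 IH) (Lpe (K10.f33762 IH) (Lpr_gt (K13.f227923 IH) (Lpn (LP (LK LD1_c4 LD2_c1 LD3_c35))))))
theorem f239934 : Led Lsl_af (LP (LK LD1_c8 LD2_c4 LD3_c4)) = (LP (LK LD1_c5 LD2_c8 LD3_c49)) :=
  Lgr Lrot0 (Lpr_at (K13.f239932 IH) (Lpn (LP (LK LD1_c5 LD2_c8 LD3_c49))))
theorem f240565 : Led Lsl_at (LP (LK LD1_c4 LD2_c2 LD3_c21)) = (LP (LK LD1_c4 LD2_c1 LD3_c34)) :=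
  Lgr Lrot107 (Lpr_cf (K13.f240563 IH) (Lpr_af (f239934 IH) (Lpe (K10.f197215 IH) (Lpn (LP (LK LD1_c4 LD2_c1 LD3_c34))))))
theorem f272066 : Led Lsl_ff (LP (LK LD1_c4 LD2_c2 LD3_c21)) = (LP (LK LD1_c4 LD2_c1 LD3_c35)) :=
  Lgr Lrot30 (Lpr_at (f240565 IH) (Lpe (f272046 IH) (Lpr_at (f272058 IH) (Lpn (LP (LK LD1_c4 LD2_c1 LD3_c35))))))
theorem f193420 : Led Lsl_et (LP (LK LD1_c4 LD2_c2 LD3_c21)) = (LP (LK LD1_c8 LD2_c5 LD3_c16)) :=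
  Lre_e IH (LK LD1_c4 LD2_c2 LD3_c21) (LK LD1_c8 LD2_c5 LD3_c16) Lrfl Lrfl
theorem f272072 : Led Lsl_ft (LP (LK LD1_c8 LD2_c5 LD3_c16)) = (LP (LK LD1_c15 LD2_c13 LD3_c47)) :=
  Lre_f IH (LK LD1_c8 LD2_c5 LD3_c16) (LK LD1_c15 LD2_c13 LD3_c47) Lrfl Lrfl
theorem f81172 : Led Lsl_et (LP (LK LD1_c8 LD2_c3 LD3_c49)) = (LP (LK LD1_c4 LD2_c1 LD3_c35)) :=
  Lre_e IH (LK LD1_c8 LD2_c3 LD3_c49) (LK LD1_c4 LD2_c1 LD3_c35) Lrfl Lrfl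
theorem f239763 : Led Lsl_ft (LP (LK LD1_c15 LD2_c10 LD3_c45)) = (LP (LK LD1_c8 LD2_c3 LD3_c49)) :=
  Lre_f IH (LK LD1_c15 LD2_c10 LD3_c45) (LK LD1_c8 LD2_c3 LD3_c49) Lrfl Lrfl
theorem f272073 : Led Lsl_et (LP (LK LD1_c15 LD2_c13 LD3_c47)) = (LP (LK LD1_c15 LD2_c10 LD3_c45)) :=
  Lgr Lrot69 (Lpe (f272072 IH) (Lpe (f193420 IH) (Lpr_ff (f272066 IH) (Lpe (f81172 IH) (Lpe (f239763 IH) (Lpn (LP (LK LD1_c15 LD2_c10 LD3_c45))))))))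
theorem f272080 : Led Lsl_ef (LP (LK LD1_c15 LD2_c13 LD3_c47)) = (LP (LK LD1_c15 LD2_c10 LD3_c45)) :=
  Lgr Lrot88 (Lpr_et (f272073 IH) (Lpn (LP (LK LD1_c15 LD2_c10 LD3_c45))))
theorem f239735 : Led Lsl_et (LP (LK LD1_c10 LD2_c7 LD3_c46)) = (LP (LK LD1_c5 LD2_c8 LD3_c38)) :=
  Lre_e IH (LK LD1_c10 LD2_c7 LD3_c46) (LK LD1_c5 LD2_c8 LD3_c38) Lrfl Lrfl
theorem f227915 : Led Lsl_et (LP (LK LD1_c4 LD2_c1 LD3_c35)) = (LP (LK LD1_c8 LD2_c3 LD3_c49)) :=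
  Lre_e IH (LK LD1_c4 LD2_c1 LD3_c35) (LK LD1_c8 LD2_c3 LD3_c49) Lrfl Lrfl
theorem f239736 : Led Lsl_cf (LP (LK LD1_c10 LD2_c7 LD3_c46)) = (LP (LK LD1_c8 LD2_c3 LD3_c49)) :=
  Lgr Lrot39 (Lpr_et (f239735 IH) (Lpr_ct (K13.f239729 IH) (Lpr_et (f227915 IH) (Lpn (LP (LK LD1_c8 LD2_c3 LD3_c49))))))
theorem f239762 : Led Lsl_ft (LP (LK LD1_c10 LD2_c7 LD3_c46)) = (LP (LK LD1_c18 LD2_c27 LD3_c8)) :=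
  Lre_f IH (LK LD1_c10 LD2_c7 LD3_c46) (LK LD1_c18 LD2_c27 LD3_c8) Lrfl Lrfl
theorem f239764 : Led Lsl_ct (LP (LK LD1_c18 LD2_c27 LD3_c8)) = (LP (LK LD1_c15 LD2_c10 LD3_c45)) :=
  Lgr Lrot40 (Lpe (f239762 IH) (Lpr_cf (f239736 IH) (Lpe (f239763 IH) (Lpn (LP (LK LD1_c15 LD2_c10 LD3_c45))))))
theorem f196126 : Led Lsl_et (LP (LK LD1_c8 LD2_c4 LD3_c4)) = (LP (LK LD1_c15 LD2_c11 LD3_c18)) :=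
  Lre_e IH (LK LD1_c8 LD2_c4 LD3_c4) (LK LD1_c15 LD2_c11 LD3_c18) Lrfl Lrfl
theorem f239948 : Led Lsl_ft (LP (LK LD1_c15 LD2_c11 LD3_c18)) = (LP (LK LD1_c25 LD2_c0 LD3_c26)) :=
  Lre_f IH (LK LD1_c15 LD2_c11 LD3_c18) (LK LD1_c25 LD2_c0 LD3_c26) Lrfl Lrfl
theorem f239778 : Led Lsl_ft (LP (LK LD1_c18 LD2_c27 LD3_c8)) = (LP (LK LD1_c10 LD2_c7 LD3_c46)) :=
  Lre_f IH (LK LD1_c18 LD2_c27 LD3_c8) (LK LD1_c10 LD2_c7 LD3_c46) Lrfl Lrfl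
theorem f239949 : Led Lsl_et (LP (LK LD1_c25 LD2_c0 LD3_c26)) = (LP (LK LD1_c18 LD2_c27 LD3_c8)) :=
  Lgr Lrot69 (Lpe (f239948 IH) (Lpe (f196126 IH) (Lpr_ff (K13.f239941 IH) (Lpe (f239735 IH) (Lpe (f239778 IH) (Lpn (LP (LK LD1_c18 LD2_c27 LD3_c8))))))))
theorem f272085 : Led Lsl_ct (LP (LK LD1_c15 LD2_c13 LD3_c47)) = (LP (LK LD1_c25 LD2_c0 LD3_c26)) :=
  Lgr Lrot15 (Lpr_ef (f272080 IH) (Lpe (f239764 IH) (Lpe (f239949 IH) (Lpn (LP (LK LD1_c25 LD2_c0 LD3_c26))))))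
theorem f240119 : Led Lsl_ft (LP (LK LD1_c25 LD2_c0 LD3_c26)) = (LP (LK LD1_c15 LD2_c11 LD3_c18)) :=
  Lre_f IH (LK LD1_c25 LD2_c0 LD3_c26) (LK LD1_c15 LD2_c11 LD3_c18) Lrfl Lrfl
theorem f272088 : Led Lsl_cf (LP (LK LD1_c8 LD2_c5 LD3_c16)) = (LP (LK LD1_c15 LD2_c11 LD3_c18)) :=
  Lgr Lrot108 (Lpr_ft (f272072 IH) (Lpr_ct (f272085 IH) (Lpr_ft (f240119 IH) (Lpn (LP (LK LD1_c15 LD2_c11 LD3_c18))))))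
theorem f239938 : Led Lsl_et (LP (LK LD1_c15 LD2_c11 LD3_c18)) = (LP (LK LD1_c8 LD2_c4 LD3_c4)) :=
  Lre_e IH (LK LD1_c15 LD2_c11 LD3_c18) (LK LD1_c8 LD2_c4 LD3_c4) Lrfl Lrfl
theorem f197234 : Led Lsl_et (LP (LK LD1_c5 LD2_c8 LD3_c49)) = (LP (LK LD1_c10 LD2_c8 LD3_c1)) :=
  Lre_e IH (LK LD1_c5 LD2_c8 LD3_c49) (LK LD1_c10 LD2_c8 LD3_c1) Lrfl Lrfl
theorem f239939 : Led Lsl_af (LP (LK LD1_c15 LD2_c11 LD3_c18)) = (LP (LK LD1_c10 LD2_c8 LD3_c1)) :=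
  Lgr Lrot50 (Lpr_et (f239938 IH) (Lpr_at (K13.f239932 IH) (Lpr_et (f197234 IH) (Lpn (LP (LK LD1_c10 LD2_c8 LD3_c1))))))
theorem f197217 : Led Lsl_et (LP (LK LD1_c4 LD2_c1 LD3_c34)) = (LP (LK LD1_c8 LD2_c3 LD3_c47)) :=
  Lre_e IH (LK LD1_c4 LD2_c1 LD3_c34) (LK LD1_c8 LD2_c3 LD3_c47) Lrfl Lrfl
theorem f197211 : Led Lsl_et (LP (LK LD1_c10 LD2_c8 LD3_c1)) = (LP (LK LD1_c5 LD2_c8 LD3_c49)) :=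
  Lre_e IH (LK LD1_c10 LD2_c8 LD3_c1) (LK LD1_c5 LD2_c8 LD3_c49) Lrfl Lrfl
theorem f197218 : Led Lsl_ct (LP (LK LD1_c8 LD2_c3 LD3_c47)) = (LP (LK LD1_c10 LD2_c8 LD3_c1)) :=
  Lgr Lrot15 (Lpe (f197217 IH) (Lpr_cf (K10.f197207 IH) (Lpe (f197211 IH) (Lpn (LP (LK LD1_c10 LD2_c8 LD3_c1))))))
theorem f272091 : Led Lsl_at (LP (LK LD1_c8 LD2_c5 LD3_c16)) = (LP (LK LD1_c8 LD2_c3 LD3_c47)) :=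
  Lgr Lrot107 (Lpr_cf (f272088 IH) (Lpr_af (f239939 IH) (Lpe (f197218 IH) (Lpn (LP (LK LD1_c8 LD2_c3 LD3_c47))))))
theorem f272087 : Led Lsl_ft (LP (LK LD1_c15 LD2_c13 LD3_c47)) = (LP (LK LD1_c8 LD2_c5 LD3_c16)) :=
  Lre_f IH (LK LD1_c15 LD2_c13 LD3_c47) (LK LD1_c8 LD2_c5 LD3_c16) Lrfl Lrfl
theorem f197235 : Led Lsl_ft (LP (LK LD1_c8 LD2_c3 LD3_c47)) = (LP (LK LD1_c15 LD2_c10 LD3_c41)) :=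
  Lre_f IH (LK LD1_c8 LD2_c3 LD3_c47) (LK LD1_c15 LD2_c10 LD3_c41) Lrfl Lrfl
theorem f272104 : Led Lsl_af (LP (LK LD1_c15 LD2_c13 LD3_c47)) = (LP (LK LD1_c15 LD2_c10 LD3_c41)) :=
  Lgr Lrot45 (Lpr_ft (f272087 IH) (Lpr_at (f272091 IH) (Lpr_ft (f197235 IH) (Lpn (LP (LK LD1_c15 LD2_c10 LD3_c41))))))
theorem f242849 : Led Lsl_et (LP (LK LD1_c4 LD2_c2 LD3_c22)) = (LP (LK LD1_c8 LD2_c5 LD3_c18)) :=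
  Lre_e IH (LK LD1_c4 LD2_c2 LD3_c22) (LK LD1_c8 LD2_c5 LD3_c18) Lrfl Lrfl
theorem f242879 : Led Lsl_ft (LP (LK LD1_c8 LD2_c5 LD3_c18)) = (LP (LK LD1_c15 LD2_c13 LD3_c51)) :=
  Lre_f IH (LK LD1_c8 LD2_c5 LD3_c18) (LK LD1_c15 LD2_c13 LD3_c51) Lrfl Lrfl
theorem f81173 : Led Lsl_et (LP (LK LD1_c8 LD2_c3 LD3_c47)) = (LP (LK LD1_c4 LD2_c1 LD3_c34)) :=
  Lre_e IH (LK LD1_c8 LD2_c3 LD3_c47) (LK LD1_c4 LD2_c1 LD3_c34) Lrfl Lrfl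
theorem f197225 : Led Lsl_ft (LP (LK LD1_c15 LD2_c10 LD3_c41)) = (LP (LK LD1_c8 LD2_c3 LD3_c47)) :=
  Lre_f IH (LK LD1_c15 LD2_c10 LD3_c41) (LK LD1_c8 LD2_c3 LD3_c47) Lrfl Lrfl
theorem f272054 : Led Lsl_et (LP (LK LD1_c15 LD2_c13 LD3_c51)) = (LP (LK LD1_c15 LD2_c10 LD3_c41)) :=
  Lgr Lrot69 (Lpe (f242879 IH) (Lpe (f242849 IH) (Lpr_ff (f272046 IH) (Lpe (f81173 IH) (Lpe (f197225 IH) (Lpn (LP (LK LD1_c15 LD2_c10 LD3_c41))))))))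
theorem f272110 : Led Lsl_at (LP (LK LD1_c15 LD2_c10 LD3_c45)) = (LP (LK LD1_c15 LD2_c13 LD3_c51)) :=
  Lgr Lrot80 (Lpe (f272073 IH) (Lpr_af (f272104 IH) (Lpe (f272054 IH) (Lpn (LP (LK LD1_c15 LD2_c13 LD3_c51))))))
theorem f239779 : Led Lsl_ft (LP (LK LD1_c8 LD2_c3 LD3_c49)) = (LP (LK LD1_c15 LD2_c10 LD3_c45)) :=
  Lre_f IH (LK LD1_c8 LD2_c3 LD3_c49) (LK LD1_c15 LD2_c10 LD3_c45) Lrfl Lrfl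
theorem f242890 : Led Lsl_ft (LP (LK LD1_c15 LD2_c13 LD3_c51)) = (LP (LK LD1_c8 LD2_c5 LD3_c18)) :=
  Lre_f IH (LK LD1_c15 LD2_c13 LD3_c51) (LK LD1_c8 LD2_c5 LD3_c18) Lrfl Lrfl
theorem f272116 : Led Lsl_af (LP (LK LD1_c8 LD2_c3 LD3_c49)) = (LP (LK LD1_c8 LD2_c5 LD3_c18)) :=
  Lgr Lrot45 (Lpr_ft (f239779 IH) (Lpr_at (f272110 IH) (Lpr_ft (f242890 IH) (Lpn (LP (LK LD1_c8 LD2_c5 LD3_c18))))))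
theorem f175010 : Led Lsl_et (LP (LK LD1_c3 LD2_c3 LD3_c22)) = (LP (LK LD1_c2 LD2_c4 LD3_c3)) :=
  Lgr Lrot158 (Lpe (K12.f101492 IH) (Lpr_ef (K12.f175000 IH) (Lpe (K12.f47085 IH) (Lpn (LP (LK LD1_c2 LD2_c4 LD3_c3))))))
theorem f175032 : Led Lsl_dt (LP (LK LD1_c6 LD2_c13 LD3_c13)) = (LP (LK LD1_c3 LD2_c3 LD3_c22)) :=
  Lre_d IH (LK LD1_c6 LD2_c13 LD3_c13) (LK LD1_c3 LD2_c3 LD3_c22) Lrfl Lrfl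
theorem f175033 : Led Lsl_et (LP (LK LD1_c12 LD2_c5 LD3_c24)) = (LP (LK LD1_c6 LD2_c13 LD3_c13)) :=
  Lre_e IH (LK LD1_c12 LD2_c5 LD3_c24) (LK LD1_c6 LD2_c13 LD3_c13) Lrfl Lrfl
theorem f227916 : Led Lsl_df (LP (LK LD1_c12 LD2_c5 LD3_c24)) = (LP (LK LD1_c8 LD2_c3 LD3_c49)) :=
  Lgr Lrot70 (Lpr_et (f175033 IH) (Lpr_dt (f175032 IH) (Lpr_et (f175010 IH) (Lpr_dt (K12.f227906 IH) (Lpr_et (f227915 IH) (Lpn (LP (LK LD1_c8 LD2_c3 LD3_c49))))))))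
theorem f80937 : Led Lsl_et (LP (LK LD1_c1 LD2_c59 LD3_c31)) = (LP (LK LD1_c2 LD2_c10 LD3_c39)) :=
  Lgr Lrot158 (Lpe (K10.f80935 IH) (Lpr_ef (K10.f80933 IH) (Lpe (K13.f80936 IH) (Lpn (LP (LK LD1_c2 LD2_c10 LD3_c39))))))
theorem f80946 : Led Lsl_et (LP (LK LD1_c4 LD2_c27 LD3_c1)) = (LP (LK LD1_c8 LD2_c51 LD3_c54)) :=
  Lre_e IH (LK LD1_c4 LD2_c27 LD3_c1) (LK LD1_c8 LD2_c51 LD3_c54) Lrfl Lrfl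
theorem f81235 : Led Lsl_et (LP (LK LD1_c8 LD2_c5 LD3_c18)) = (LP (LK LD1_c4 LD2_c2 LD3_c22)) :=
  Lre_e IH (LK LD1_c8 LD2_c5 LD3_c18) (LK LD1_c4 LD2_c2 LD3_c22) Lrfl Lrfl
theorem f242845 : Led Lsl_dt (LP (LK LD1_c8 LD2_c51 LD3_c54)) = (LP (LK LD1_c8 LD2_c5 LD3_c18)) :=
  Lgr Lrot77 (Lpe (f80946 IH) (Lpe (K12.f80945 IH) (Lpe (f80937 IH) (Lpr_df (K13.f242840 IH) (Lpe (f81235 IH) (Lpn (LP (LK LD1_c8 LD2_c5 LD3_c18))))))))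
theorem f272121 : Led Lsl_at (LP (LK LD1_c12 LD2_c5 LD3_c24)) = (LP (LK LD1_c8 LD2_c51 LD3_c54)) :=
  Lgr Lrot51 (Lpr_df (f227916 IH) (Lpr_af (f272116 IH) (Lpe (f242845 IH) (Lpn (LP (LK LD1_c8 LD2_c51 LD3_c54))))))
theorem f175020 : Led Lsl_et (LP (LK LD1_c6 LD2_c13 LD3_c13)) = (LP (LK LD1_c12 LD2_c5 LD3_c24)) :=
  Lre_e IH (LK LD1_c6 LD2_c13 LD3_c13) (LK LD1_c12 LD2_c5 LD3_c24) Lrfl Lrfl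
theorem f80957 : Led Lsl_et (LP (LK LD1_c8 LD2_c51 LD3_c54)) = (LP (LK LD1_c4 LD2_c27 LD3_c1)) :=
  Lre_e IH (LK LD1_c8 LD2_c51 LD3_c54) (LK LD1_c4 LD2_c27 LD3_c1) Lrfl Lrfl
theorem f272129 : Led Lsl_af (LP (LK LD1_c6 LD2_c13 LD3_c13)) = (LP (LK LD1_c4 LD2_c27 LD3_c1)) :=
  Lgr Lrot50 (Lpr_et (f175020 IH) (Lpr_at (f272121 IH) (Lpr_et (f80957 IH) (Lpn (LP (LK LD1_c4 LD2_c27 LD3_c1))))))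
theorem f272185 : Led Lsl_ft (LP (LK LD1_c5 LD2_c0 LD3_c32)) = (LP (LK LD1_c4 LD2_c27 LD3_c1)) :=
  Lgr Lrot142 (Lpr_dt (K13.f175819 IH) (Lpr_ct (K13.f175809 IH) (Lpr_dt (K10.f175816 IH) (Lpr_ct (K12.f175818 IH) (Lpr_dt (K13.f227854 IH) (Lpe (K13.f196252 IH) (Lpe (K13.f227899 IH) (Lpr_ct (K13.f227898 IH) (Lpr_af (f272129 IH) (Lpn (LP (LK LD1_c4 LD2_c27 LD3_c1))))))))))))
theorem f272194 : Led Lsl_ff (LP (LK LD1_c5 LD2_c0 LD3_c32)) = (LP (LK LD1_c4 LD2_c27 LD3_c1)) :=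
  Lgr Lrot3 (Lpr_ft (f272185 IH) (Lpn (LP (LK LD1_c4 LD2_c27 LD3_c1))))
theorem f272211 : Led Lsl_at (LP (LK LD1_c5 LD2_c0 LD3_c32)) = (LP (LK LD1_c4 LD2_c27 LD3_c5)) :=
  Lgr Lrot26 (Lpr_ff (f272194 IH) (Lpe (K13.f239194 IH) (Lpe (K13.f227851 IH) (Lpn (LP (LK LD1_c4 LD2_c27 LD3_c5))))))
theorem f272179 : Led Lsl_at (LP (LK LD1_c6 LD2_c13 LD3_c13)) = (LP (LK LD1_c4 LD2_c27 LD3_c1)) :=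
  Lgr Lrot100 (Lpr_af (f272129 IH) (Lpn (LP (LK LD1_c4 LD2_c27 LD3_c1))))
theorem f272221 : Led Lsl_ff (LP (LK LD1_c6 LD2_c13 LD3_c13)) = (LP (LK LD1_c4 LD2_c27 LD3_c5)) :=
  Lgr Lrot30 (Lpr_at (f272179 IH) (Lpe (f272194 IH) (Lpr_at (f272211 IH) (Lpn (LP (LK LD1_c4 LD2_c27 LD3_c5))))))
theorem f272232 : Led Lsl_ft (LP (LK LD1_c6 LD2_c13 LD3_c13)) = (LP (LK LD1_c4 LD2_c27 LD3_c5)) :=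
  Lgr Lrot48 (Lpr_ff (f272221 IH) (Lpn (LP (LK LD1_c4 LD2_c27 LD3_c5))))
theorem f272131 : Led Lsl_ft (LP (LK LD1_c21 LD2_c11 LD3_c5)) = (LP (LK LD1_c12 LD2_c5 LD3_c24)) :=
  Lre_f IH (LK LD1_c21 LD2_c11 LD3_c5) (LK LD1_c12 LD2_c5 LD3_c24) Lrfl Lrfl
theorem f198442 : Led Lsl_et (LP (LK LD1_c4 LD2_c27 LD3_c5)) = (LP (LK LD1_c8 LD2_c51 LD3_c59)) :=
  Lre_e IH (LK LD1_c4 LD2_c27 LD3_c5) (LK LD1_c8 LD2_c51 LD3_c59) Lrfl Lrfl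
theorem f272238 : Led Lsl_ft (LP (LK LD1_c8 LD2_c51 LD3_c59)) = (LP (LK LD1_c16 LD2_c34 LD3_c39)) :=
  Lre_f IH (LK LD1_c8 LD2_c51 LD3_c59) (LK LD1_c16 LD2_c34 LD3_c39) Lrfl Lrfl
theorem f272239 : Led Lsl_ef (LP (LK LD1_c21 LD2_c11 LD3_c5)) = (LP (LK LD1_c16 LD2_c34 LD3_c39)) :=
  Lgr Lrot21 (Lpr_ft (f272131 IH) (Lpr_et (f175033 IH) (Lpr_ft (f272232 IH) (Lpr_et (f198442 IH) (Lpr_ft (f272238 IH) (Lpn (LP (LK LD1_c16 LD2_c34 LD3_c39))))))))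
theorem f242882 : Led Lsl_ft (LP (LK LD1_c8 LD2_c51 LD3_c54)) = (LP (LK LD1_c16 LD2_c34 LD3_c32)) :=
  Lre_f IH (LK LD1_c8 LD2_c51 LD3_c54) (LK LD1_c16 LD2_c34 LD3_c32) Lrfl Lrfl
theorem f272132 : Led Lsl_af (LP (LK LD1_c21 LD2_c11 LD3_c5)) = (LP (LK LD1_c16 LD2_c34 LD3_c32)) :=
  Lgr Lrot45 (Lpr_ft (f272131 IH) (Lpr_at (f272121 IH) (Lpr_ft (f242882 IH) (Lpn (LP (LK LD1_c16 LD2_c34 LD3_c32))))))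
theorem f272137 : Led Lsl_at (LP (LK LD1_c21 LD2_c11 LD3_c5)) = (LP (LK LD1_c16 LD2_c34 LD3_c32)) :=
  Lgr Lrot100 (Lpr_af (f272132 IH) (Lpn (LP (LK LD1_c16 LD2_c34 LD3_c32))))
theorem f241215 : Led Lsl_et (LP (LK LD1_c9 LD2_c51 LD3_c25)) = (LP (LK LD1_c5 LD2_c0 LD3_c32)) :=
  Lre_e IH (LK LD1_c9 LD2_c51 LD3_c25) (LK LD1_c5 LD2_c0 LD3_c32) Lrfl Lrfl
theorem f272191 : Led Lsl_ft (LP (LK LD1_c18 LD2_c2 LD3_c38)) = (LP (LK LD1_c9 LD2_c51 LD3_c25)) :=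
  Lre_f IH (LK LD1_c18 LD2_c2 LD3_c38) (LK LD1_c9 LD2_c51 LD3_c25) Lrfl Lrfl
theorem f272192 : Led Lsl_ef (LP (LK LD1_c18 LD2_c2 LD3_c38)) = (LP (LK LD1_c16 LD2_c34 LD3_c32)) :=
  Lgr Lrot21 (Lpr_ft (f272191 IH) (Lpr_et (f241215 IH) (Lpr_ft (f272185 IH) (Lpr_et (f80946 IH) (Lpr_ft (f242882 IH) (Lpn (LP (LK LD1_c16 LD2_c34 LD3_c32))))))))
theorem f272241 : Led Lsl_at (LP (LK LD1_c18 LD2_c2 LD3_c38)) = (LP (LK LD1_c16 LD2_c34 LD3_c39)) :=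
  Lgr Lrot80 (Lpr_ef (f272192 IH) (Lpe (f272137 IH) (Lpr_ef (f272239 IH) (Lpn (LP (LK LD1_c16 LD2_c34 LD3_c39))))))
theorem f272256 : Led Lsl_ct (LP (LK LD1_c27 LD2_c44 LD3_c25)) = (LP (LK LD1_c18 LD2_c2 LD3_c38)) :=
  Lre_c IH (LK LD1_c27 LD2_c44 LD3_c25) (LK LD1_c18 LD2_c2 LD3_c38) Lrfl Lrfl
theorem f272257 : Led Lsl_ct (LP (LK LD1_c16 LD2_c34 LD3_c39)) = (LP (LK LD1_c26 LD2_c32 LD3_c3)) :=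
  Lre_c IH (LK LD1_c16 LD2_c34 LD3_c39) (LK LD1_c26 LD2_c32 LD3_c3) Lrfl Lrfl
theorem f272258 : Led Lsl_af (LP (LK LD1_c27 LD2_c44 LD3_c25)) = (LP (LK LD1_c26 LD2_c32 LD3_c3)) :=
  Lgr Lrot68 (Lpr_ct (f272256 IH) (Lpr_at (f272241 IH) (Lpr_ct (f272257 IH) (Lpn (LP (LK LD1_c26 LD2_c32 LD3_c3))))))
theorem f272264 : Led Lsl_ft (LP (LK LD1_c27 LD2_c44 LD3_c25)) = (LP (LK LD1_c18 LD2_c2 LD3_c36)) :=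
  Lre_f IH (LK LD1_c27 LD2_c44 LD3_c25) (LK LD1_c18 LD2_c2 LD3_c36) Lrfl Lrfl
theorem f272265 : Led Lsl_ft (LP (LK LD1_c16 LD2_c34 LD3_c37)) = (LP (LK LD1_c26 LD2_c32 LD3_c3)) :=
  Lre_f IH (LK LD1_c16 LD2_c34 LD3_c37) (LK LD1_c26 LD2_c32 LD3_c3) Lrfl Lrfl
theorem f272266 : Led Lsl_at (LP (LK LD1_c18 LD2_c2 LD3_c36)) = (LP (LK LD1_c16 LD2_c34 LD3_c37)) :=
  Lgr Lrot66 (Lpe (f272264 IH) (Lpr_af (f272258 IH) (Lpe (f272265 IH) (Lpn (LP (LK LD1_c16 LD2_c34 LD3_c37))))))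
theorem f272269 : Led Lsl_af (LP (LK LD1_c18 LD2_c2 LD3_c36)) = (LP (LK LD1_c16 LD2_c34 LD3_c37)) :=
  Lgr Lrot0 (Lpr_at (f272266 IH) (Lpn (LP (LK LD1_c16 LD2_c34 LD3_c37))))
theorem f241836 : Led Lsl_et (LP (LK LD1_c18 LD2_c2 LD3_c36)) = (LP (LK LD1_c9 LD2_c51 LD3_c24)) :=
  Lre_e IH (LK LD1_c18 LD2_c2 LD3_c36) (LK LD1_c9 LD2_c51 LD3_c24) Lrfl Lrfl
theorem f241538 : Led Lsl_et (LP (LK LD1_c8 LD2_c51 LD3_c58)) = (LP (LK LD1_c16 LD2_c34 LD3_c37)) :=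
  Lre_e IH (LK LD1_c8 LD2_c51 LD3_c58) (LK LD1_c16 LD2_c34 LD3_c37) Lrfl Lrfl
theorem f272279 : Led Lsl_at (LP (LK LD1_c9 LD2_c51 LD3_c24)) = (LP (LK LD1_c8 LD2_c51 LD3_c58)) :=
  Lgr Lrot80 (Lpe (f241836 IH) (Lpr_af (f272269 IH) (Lpe (f241538 IH) (Lpn (LP (LK LD1_c8 LD2_c51 LD3_c58))))))
theorem f272287 : Led Lsl_af (LP (LK LD1_c12 LD2_c5 LD3_c16)) = (LP (LK LD1_c8 LD2_c51 LD3_c48)) :=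
  Lgr Lrot117 (Lpe (K13.f241192 IH) (Lpr_at (f272279 IH) (Lpe (K13.f241485 IH) (Lpn (LP (LK LD1_c8 LD2_c51 LD3_c48))))))
theorem f272295 : Led Lsl_ft (LP (LK LD1_c12 LD2_c5 LD3_c17)) = (LP (LK LD1_c8 LD2_c51 LD3_c48)) :=
  Lgr Lrot2 (Lpr_gt (K13.f101106 IH) (Lpr_gt (K13.f69382 IH) (Lpr_af (f272287 IH) (Lpn (LP (LK LD1_c8 LD2_c51 LD3_c48))))))
theorem f272301 : Led Lsl_ff (LP (LK LD1_c12 LD2_c5 LD3_c17)) = (LP (LK LD1_c8 LD2_c51 LD3_c48)) :=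
  Lgr Lrot3 (Lpr_ft (f272295 IH) (Lpn (LP (LK LD1_c8 LD2_c51 LD3_c48))))
theorem f272308 : Led Lsl_at (LP (LK LD1_c12 LD2_c5 LD3_c17)) = (LP (LK LD1_c8 LD2_c51 LD3_c49)) :=
  Lgr Lrot26 (Lpr_ff (f272301 IH) (Lpe (K13.f43024 IH) (Lpe (K12.f101099 IH) (Lpn (LP (LK LD1_c8 LD2_c51 LD3_c49))))))
theorem f272289 : Led Lsl_at (LP (LK LD1_c12 LD2_c5 LD3_c16)) = (LP (LK LD1_c8 LD2_c51 LD3_c48)) :=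
  Lgr Lrot100 (Lpr_af (f272287 IH) (Lpn (LP (LK LD1_c8 LD2_c51 LD3_c48))))
theorem f272316 : Led Lsl_ff (LP (LK LD1_c12 LD2_c5 LD3_c16)) = (LP (LK LD1_c8 LD2_c51 LD3_c49)) :=
  Lgr Lrot30 (Lpr_at (f272289 IH) (Lpe (f272301 IH) (Lpr_at (f272308 IH) (Lpn (LP (LK LD1_c8 LD2_c51 LD3_c49))))))
theorem f272322 : Led Lsl_ft (LP (LK LD1_c12 LD2_c5 LD3_c16)) = (LP (LK LD1_c8 LD2_c51 LD3_c49)) :=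
  Lgr Lrot48 (Lpr_ff (f272316 IH) (Lpn (LP (LK LD1_c8 LD2_c51 LD3_c49))))
theorem f272326 : Led Lsl_ff (LP (LK LD1_c8 LD2_c2 LD3_c40)) = (LP (LK LD1_c6 LD2_c13 LD3_c39)) :=
  Lgr Lrot23 (Lpe (K13.f227901 IH) (Lpr_ft (f272322 IH) (Lpe (K12.f198363 IH) (Lpn (LP (LK LD1_c6 LD2_c13 LD3_c39))))))
theorem f272332 : Led Lsl_ft (LP (LK LD1_c5 LD2_c12 LD3_c55)) = (LP (LK LD1_c4 LD2_c27 LD3_c6)) :=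
  Lgr Lrot54 (Lpe (K13.f241458 IH) (Lpr_ff (f272326 IH) (Lpr_df (K10.f193731 IH) (Lpn (LP (LK LD1_c4 LD2_c27 LD3_c6))))))
theorem f272340 : Led Lsl_ff (LP (LK LD1_c5 LD2_c12 LD3_c55)) = (LP (LK LD1_c4 LD2_c27 LD3_c6)) :=
  Lgr Lrot3 (Lpr_ft (f272332 IH) (Lpn (LP (LK LD1_c4 LD2_c27 LD3_c6))))
theorem f241467 : Led Lsl_et (LP (LK LD1_c5 LD2_c12 LD3_c55)) = (LP (LK LD1_c2 LD2_c33 LD3_c17)) :=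
  Lre_e IH (LK LD1_c5 LD2_c12 LD3_c55) (LK LD1_c2 LD2_c33 LD3_c17) Lrfl Lrfl
theorem f101369 : Led Lsl_et (LP (LK LD1_c3 LD2_c4 LD3_c39)) = (LP (LK LD1_c4 LD2_c27 LD3_c6)) :=
  Lgr Lrot158 (Lpe (K13.f60455 IH) (Lpr_ef (K9.f101367 IH) (Lpe (K10.f101299 IH) (Lpn (LP (LK LD1_c4 LD2_c27 LD3_c6))))))
theorem f272344 : Led Lsl_ft (LP (LK LD1_c2 LD2_c33 LD3_c17)) = (LP (LK LD1_c2 LD2_c29 LD3_c52)) :=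
  Lgr Lrot86 (Lpe (f241467 IH) (Lpr_ff (f272340 IH) (Lpe (f101369 IH) (Lpr_ff (K13.f241560 IH) (Lpr_ef (K13.f240779 IH) (Lpn (LP (LK LD1_c2 LD2_c29 LD3_c52))))))))
theorem f272353 : Led Lsl_af (LP (LK LD1_c2 LD2_c33 LD3_c16)) = (LP (LK LD1_c2 LD2_c29 LD3_c52)) :=
  Lgr Lrot109 (Lpe (K10.f185152 IH) (Lpr_df (K13.f227285 IH) (Lpe (K13.f166426 IH) (Lpe (K13.f227295 IH) (Lpe (K15.f241920 IH) (Lpe (K15.f240947 IH) (Lpr_cf (K13.f240924 IH) (Lpe (K13.f240910 IH) (Lpr_ft (f272344 IH) (Lpn (LP (LK LD1_c2 LD2_c29 LD3_c52))))))))))))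
theorem f272359 : Led Lsl_at (LP (LK LD1_c3 LD2_c4 LD3_c41)) = (LP (LK LD1_c2 LD2_c49 LD3_c4)) :=
  Lgr Lrot80 (Lpe (K13.f212017 IH) (Lpr_af (f272353 IH) (Lpe (K13.f240772 IH) (Lpn (LP (LK LD1_c2 LD2_c49 LD3_c4))))))
theorem f272365 : Led Lsl_ff (LP (LK LD1_c3 LD2_c4 LD3_c41)) = (LP (LK LD1_c2 LD2_c49 LD3_c3)) :=
  Lgr Lrot30 (Lpr_at (f272359 IH) (Lpe (K13.f241560 IH) (Lpr_at (K13.f241551 IH) (Lpn (LP (LK LD1_c2 LD2_c49 LD3_c3))))))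
theorem f272371 : Led Lsl_ft (LP (LK LD1_c3 LD2_c4 LD3_c41)) = (LP (LK LD1_c2 LD2_c49 LD3_c3)) :=
  Lgr Lrot48 (Lpr_ff (f272365 IH) (Lpn (LP (LK LD1_c2 LD2_c49 LD3_c3))))
theorem f60704 : Led Lsl_dt (LP (LK LD1_c6 LD2_c15 LD3_c16)) = (LP (LK LD1_c3 LD2_c4 LD3_c41)) :=
  Lre_d IH (LK LD1_c6 LD2_c15 LD3_c16) (LK LD1_c3 LD2_c4 LD3_c41) Lrfl Lrfl
theorem f272377 : Led Lsl_ff (LP (LK LD1_c6 LD2_c15 LD3_c16)) = (LP (LK LD1_c5 LD2_c46 LD3_c44)) :=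
  Lgr Lrot19 (Lpr_dt (f60704 IH) (Lpr_ft (f272371 IH) (Lpr_dt (K13.f175845 IH) (Lpn (LP (LK LD1_c5 LD2_c46 LD3_c44))))))
theorem f175878 : Led Lsl_dt (LP (LK LD1_c5 LD2_c46 LD3_c44)) = (LP (LK LD1_c2 LD2_c49 LD3_c3)) :=
  Lre_d IH (LK LD1_c5 LD2_c46 LD3_c44) (LK LD1_c2 LD2_c49 LD3_c3) Lrfl Lrfl
theorem f241564 : Led Lsl_df (LP (LK LD1_c6 LD2_c13 LD3_c61)) = (LP (LK LD1_c4 LD2_c22 LD3_c61)) :=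
  Lgr Lrot38 (Lpr_dt (K13.f241562 IH) (Lpn (LP (LK LD1_c4 LD2_c22 LD3_c61))))
theorem f272381 : Led Lsl_at (LP (LK LD1_c6 LD2_c15 LD3_c16)) = (LP (LK LD1_c5 LD2_c46 LD3_c46)) :=
  Lgr Lrot33 (Lpr_ff (f272377 IH) (Lpr_dt (f175878 IH) (Lpr_ct (K13.f175838 IH) (Lpr_dt (K13.f241571 IH) (Lpr_ct (K13.f227742 IH) (Lpe (f241564 IH) (Lpr_ct (f241296 IH) (Lpe (K13.f241096 IH) (Lpr_ct (K13.f60639 IH) (Lpn (LP (LK LD1_c5 LD2_c46 LD3_c46))))))))))))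
theorem f212045 : Led Lsl_et (LP (LK LD1_c12 LD2_c8 LD3_c48)) = (LP (LK LD1_c6 LD2_c15 LD3_c16)) :=
  Lre_e IH (LK LD1_c12 LD2_c8 LD3_c48) (LK LD1_c6 LD2_c15 LD3_c16) Lrfl Lrfl
theorem f240789 : Led Lsl_et (LP (LK LD1_c5 LD2_c46 LD3_c46)) = (LP (LK LD1_c11 LD2_c23 LD3_c45)) :=
  Lre_e IH (LK LD1_c5 LD2_c46 LD3_c46) (LK LD1_c11 LD2_c23 LD3_c45) Lrfl Lrfl
theorem f272385 : Led Lsl_af (LP (LK LD1_c12 LD2_c8 LD3_c48)) = (LP (LK LD1_c11 LD2_c23 LD3_c45)) :=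
  Lgr Lrot50 (Lpr_et (f212045 IH) (Lpr_at (f272381 IH) (Lpr_et (f240789 IH) (Lpn (LP (LK LD1_c11 LD2_c23 LD3_c45))))))
theorem f212012 : Led Lsl_ct (LP (LK LD1_c2 LD2_c33 LD3_c16)) = (LP (LK LD1_c1 LD2_c13 LD3_c35)) :=
  Lre_c IH (LK LD1_c2 LD2_c33 LD3_c16) (LK LD1_c1 LD2_c13 LD3_c35) Lrfl Lrfl
theorem f212042 : Led Lsl_ef (LP (LK LD1_c2 LD2_c33 LD3_c16)) = (LP (LK LD1_c3 LD2_c4 LD3_c41)) :=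
  Lgr Lrot28 (Lpr_ct (f212012 IH) (Lpr_et (K12.f212019 IH) (Lpr_ct (K10.f60701 IH) (Lpn (LP (LK LD1_c3 LD2_c4 LD3_c41))))))
theorem f212044 : Led Lsl_et (LP (LK LD1_c5 LD2_c12 LD3_c52)) = (LP (LK LD1_c10 LD2_c16 LD3_c5)) :=
  Lre_e IH (LK LD1_c5 LD2_c12 LD3_c52) (LK LD1_c10 LD2_c16 LD3_c5) Lrfl Lrfl
theorem f212046 : Led Lsl_dt (LP (LK LD1_c10 LD2_c16 LD3_c5)) = (LP (LK LD1_c12 LD2_c8 LD3_c48)) :=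
  Lgr Lrot77 (Lpe (f212044 IH) (Lpe (K13.f192637 IH) (Lpr_ef (f212042 IH) (Lpe (f60704 IH) (Lpe (f212045 IH) (Lpn (LP (LK LD1_c12 LD2_c8 LD3_c48))))))))
theorem f212048 : Led Lsl_df (LP (LK LD1_c10 LD2_c16 LD3_c5)) = (LP (LK LD1_c12 LD2_c8 LD3_c48)) :=
  Lgr Lrot38 (Lpr_dt (f212046 IH) (Lpn (LP (LK LD1_c12 LD2_c8 LD3_c48))))
theorem f240776 : Led Lsl_et (LP (LK LD1_c11 LD2_c23 LD3_c45)) = (LP (LK LD1_c5 LD2_c46 LD3_c46)) :=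
  Lre_e IH (LK LD1_c11 LD2_c23 LD3_c45) (LK LD1_c5 LD2_c46 LD3_c46) Lrfl Lrfl
theorem f240685 : Led Lsl_et (LP (LK LD1_c5 LD2_c5 LD3_c6)) = (LP (LK LD1_c10 LD2_c1 LD3_c19)) :=
  Lre_e IH (LK LD1_c5 LD2_c5 LD3_c6) (LK LD1_c10 LD2_c1 LD3_c19) Lrfl Lrfl
theorem f240777 : Led Lsl_df (LP (LK LD1_c11 LD2_c23 LD3_c45)) = (LP (LK LD1_c10 LD2_c1 LD3_c19)) :=
  Lgr Lrot70 (Lpr_et (f240776 IH) (Lpr_dt (K13.f60638 IH) (Lpr_et (K13.f240772 IH) (Lpr_dt (K13.f240681 IH) (Lpr_et (f240685 IH) (Lpn (LP (LK LD1_c10 LD2_c1 LD3_c19))))))))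
theorem f272977 : Led Lsl_at (LP (LK LD1_c10 LD2_c16 LD3_c5)) = (LP (LK LD1_c10 LD2_c1 LD3_c19)) :=
  Lgr Lrot51 (Lpr_df (f212048 IH) (Lpr_af (f272385 IH) (Lpr_df (f240777 IH) (Lpn (LP (LK LD1_c10 LD2_c1 LD3_c19))))))
theorem f240790 : Led Lsl_et (LP (LK LD1_c10 LD2_c1 LD3_c19)) = (LP (LK LD1_c5 LD2_c5 LD3_c6)) :=
  Lre_e IH (LK LD1_c10 LD2_c1 LD3_c19) (LK LD1_c5 LD2_c5 LD3_c6) Lrfl Lrfl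
theorem f272981 : Led Lsl_af (LP (LK LD1_c5 LD2_c12 LD3_c52)) = (LP (LK LD1_c5 LD2_c5 LD3_c6)) :=
  Lgr Lrot50 (Lpr_et (f212044 IH) (Lpr_at (f272977 IH) (Lpr_et (f240790 IH) (Lpn (LP (LK LD1_c5 LD2_c5 LD3_c6))))))
theorem f240933 : Led Lsl_ct (LP (LK LD1_c10 LD2_c4 LD3_c16)) = (LP (LK LD1_c5 LD2_c12 LD3_c54)) :=
  Lgr Lrot59 (Lpr_cf (K13.f240924 IH) (Lpn (LP (LK LD1_c5 LD2_c12 LD3_c54))))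
theorem f31799 : Led Lsl_ct (LP (LK LD1_c4 LD2_c20 LD3_c18)) = (LP (LK LD1_c4 LD2_c20 LD3_c27)) :=
  Lgr Lrot59 (Lpr_cf (K0.f31793 IH) (Lpn (LP (LK LD1_c4 LD2_c20 LD3_c27))))
theorem f240619 : Led Lsl_gf (LP (LK LD1_c2 LD2_c7 LD3_c36)) = (LP (LK LD1_c2 LD2_c7 LD3_c46)) :=
  Lgr Lrot147 (Lpr_ct (K0.f31801 IH) (Lpe (K9.f166415 IH) (Lpr_ct (K11.f53193 IH) (Lpe (K13.f53244 IH) (Lpe (K13.f53298 IH) (Lpr_gf (K13.f240616 IH) (Lpe (K13.f239489 IH) (Lpr_gf (K13.f212058 IH) (Lpe (K13.f35782 IH) (Lpn (LP (LK LD1_c2 LD2_c7 LD3_c46))))))))))))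
theorem f212061 : Led Lsl_dt (LP (LK LD1_c4 LD2_c20 LD3_c33)) = (LP (LK LD1_c2 LD2_c7 LD3_c46)) :=
  Lre_d IH (LK LD1_c4 LD2_c20 LD3_c33) (LK LD1_c2 LD2_c7 LD3_c46) Lrfl Lrfl
theorem f240958 : Led Lsl_gt (LP (LK LD1_c5 LD2_c12 LD3_c54)) = (LP (LK LD1_c4 LD2_c20 LD3_c33)) :=
  Lgr Lrot94 (Lpe (f240933 IH) (Lpr_gt (K13.f231496 IH) (Lpr_dt (K13.f240949 IH) (Lpr_gt (K13.f192332 IH) (Lpr_dt (K0.f27893 IH) (Lpe (f31799 IH) (Lpe (K13.f31815 IH) (Lpr_gf (f240619 IH) (Lpe (f212061 IH) (Lpn (LP (LK LD1_c4 LD2_c20 LD3_c33))))))))))))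
theorem f272996 : Led Lsl_ft (LP (LK LD1_c5 LD2_c12 LD3_c54)) = (LP (LK LD1_c5 LD2_c5 LD3_c6)) :=
  Lgr Lrot2 (Lpr_gt (f240958 IH) (Lpe (K13.f212058 IH) (Lpr_af (f272981 IH) (Lpn (LP (LK LD1_c5 LD2_c5 LD3_c6))))))
theorem f273000 : Led Lsl_ff (LP (LK LD1_c10 LD2_c4 LD3_c16)) = (LP (LK LD1_c10 LD2_c0 LD3_c60)) :=
  Lgr Lrot23 (Lpr_ct (f240933 IH) (Lpr_ft (f272996 IH) (Lpr_ct (K15.f266510 IH) (Lpn (LP (LK LD1_c10 LD2_c0 LD3_c60))))))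
theorem f242043 : Led Lsl_dt (LP (LK LD1_c10 LD2_c1 LD3_c1)) = (LP (LK LD1_c5 LD2_c4 LD3_c59)) :=
  Lre_d IH (LK LD1_c10 LD2_c1 LD3_c1) (LK LD1_c5 LD2_c4 LD3_c59) Lrfl Lrfl
theorem f255270 : Led Lsl_gt (LP (LK LD1_c5 LD2_c13 LD3_c42)) = (LP (LK LD1_c10 LD2_c1 LD3_c1)) :=
  Lgr Lrot180 (Lpr_ct (K15.f187929 IH) (Lpr_gt (K15.f216363 IH) (Lpr_dt (K14.f201357 IH) (Lpr_gt (K12.f204930 IH) (Lpr_dt (K12.f36355 IH) (Lpr_ct (K14.f255258 IH) (Lpe (K14.f255269 IH) (Lpe (K15.f201315 IH) (Lpe (f242043 IH) (Lpn (LP (LK LD1_c10 LD2_c1 LD3_c1))))))))))))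
theorem f273033 : Led Lsl_at (LP (LK LD1_c10 LD2_c4 LD3_c16)) = (LP (LK LD1_c10 LD2_c1 LD3_c1)) :=
  Lgr Lrot26 (Lpr_ff (f273000 IH) (Lpe (K15.f266517 IH) (Lpr_gt (f255270 IH) (Lpn (LP (LK LD1_c10 LD2_c1 LD3_c1))))))
theorem f239647 : Led Lsl_af (LP (LK LD1_c1 LD2_c57 LD3_c50)) = (LP (LK LD1_c1 LD2_c12 LD3_c53)) :=
  Lgr Lrot45 (Lpr_ft (K13.f239520 IH) (Lpr_at (K13.f239448 IH) (Lpe (K13.f239463 IH) (Lpn (LP (LK LD1_c1 LD2_c12 LD3_c53))))))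
theorem f242040 : Led Lsl_dt (LP (LK LD1_c5 LD2_c4 LD3_c59)) = (LP (LK LD1_c10 LD2_c1 LD3_c1)) :=
  Lre_d IH (LK LD1_c5 LD2_c4 LD3_c59) (LK LD1_c10 LD2_c1 LD3_c1) Lrfl Lrfl
theorem f265303 : Led Lsl_cf (LP (LK LD1_c5 LD2_c5 LD3_c4)) = (LP (LK LD1_c10 LD2_c1 LD3_c1)) :=
  Lgr Lrot116 (Lpr_dt (K13.f205070 IH) (Lpr_ct (K12.f204902 IH) (Lpr_dt (K12.f201313 IH) (Lpr_ct (K12.f195693 IH) (Lpr_af (f239647 IH) (Lpr_ff (K13.f239463 IH) (Lpr_dt (K13.f223712 IH) (Lpr_ct (K15.f265291 IH) (Lpr_dt (f242040 IH) (Lpn (LP (LK LD1_c10 LD2_c1 LD3_c1))))))))))))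
theorem f266496 : Led Lsl_cf (LP (LK LD1_c5 LD2_c5 LD3_c6)) = (LP (LK LD1_c10 LD2_c0 LD3_c60)) :=
  Lgr Lrot55 (Lpr_dt (K13.f240659 IH) (Lpr_ct (K13.f240656 IH) (Lpe (K13.f240748 IH) (Lpe (K13.f223717 IH) (Lpr_dt (K13.f223712 IH) (Lpr_ct (K15.f265291 IH) (Lpr_dt (f242040 IH) (Lpe (f265303 IH) (Lpr_dt (K13.f205070 IH) (Lpr_ct (K12.f204902 IH) (Lpr_dt (K12.f201313 IH) (Lpr_ct (K12.f195693 IH) (Lpr_dt (K12.f33355 IH) (Lpr_ct (K15.f266485 IH) (Lpr_dt (K15.f192633 IH) (Lpn (LP (LK LD1_c10 LD2_c0 LD3_c60))))))))))))))))))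
theorem f272994 : Led Lsl_at (LP (LK LD1_c10 LD2_c4 LD3_c15)) = (LP (LK LD1_c10 LD2_c0 LD3_c60)) :=
  Lgr Lrot107 (Lpe (K13.f239489 IH) (Lpr_af (f272981 IH) (Lpr_cf (f266496 IH) (Lpn (LP (LK LD1_c10 LD2_c0 LD3_c60))))))
theorem f273042 : Led Lsl_ff (LP (LK LD1_c10 LD2_c4 LD3_c15)) = (LP (LK LD1_c10 LD2_c1 LD3_c1)) :=
  Lgr Lrot30 (Lpr_at (f272994 IH) (Lpe (f273000 IH) (Lpr_at (f273033 IH) (Lpn (LP (LK LD1_c10 LD2_c1 LD3_c1))))))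
theorem f273053 : Led Lsl_ft (LP (LK LD1_c10 LD2_c4 LD3_c15)) = (LP (LK LD1_c10 LD2_c1 LD3_c1)) :=
  Lgr Lrot48 (Lpr_ff (f273042 IH) (Lpn (LP (LK LD1_c10 LD2_c1 LD3_c1))))
theorem f273059 : Led Lsl_ff (LP (LK LD1_c5 LD2_c12 LD3_c52)) = (LP (LK LD1_c5 LD2_c5 LD3_c4)) :=
  Lgr Lrot23 (Lpr_ct (K13.f239489 IH) (Lpr_ft (f273053 IH) (Lpe (f265303 IH) (Lpn (LP (LK LD1_c5 LD2_c5 LD3_c4))))))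
theorem f272357 : Led Lsl_at (LP (LK LD1_c5 LD2_c12 LD3_c52)) = (LP (LK LD1_c5 LD2_c5 LD3_c6)) :=
  Lgr Lrot51 (Lpe (K13.f192637 IH) (Lpr_af (f272353 IH) (Lpe (K13.f240659 IH) (Lpn (LP (LK LD1_c5 LD2_c5 LD3_c6))))))
theorem f272349 : Led Lsl_ff (LP (LK LD1_c5 LD2_c12 LD3_c54)) = (LP (LK LD1_c5 LD2_c5 LD3_c6)) :=
  Lgr Lrot19 (Lpr_dt (K13.f240918 IH) (Lpr_ft (f272344 IH) (Lpr_dt (K13.f240681 IH) (Lpn (LP (LK LD1_c5 LD2_c5 LD3_c6))))))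
theorem f273062 : Led Lsl_at (LP (LK LD1_c5 LD2_c12 LD3_c54)) = (LP (LK LD1_c5 LD2_c5 LD3_c4)) :=
  Lgr Lrot66 (Lpr_ff (f272349 IH) (Lpe (f272357 IH) (Lpr_ff (f273059 IH) (Lpn (LP (LK LD1_c5 LD2_c5 LD3_c4))))))
theorem f273143 : Led Lsl_af (LP (LK LD1_c2 LD2_c33 LD3_c17)) = (LP (LK LD1_c2 LD2_c29 LD3_c50)) :=
  Lgr Lrot117 (Lpr_dt (K13.f240910 IH) (Lpr_at (f273062 IH) (Lpr_dt (K13.f205070 IH) (Lpn (LP (LK LD1_c2 LD2_c29 LD3_c50))))))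
theorem f273145 : Led Lsl_at (LP (LK LD1_c2 LD2_c33 LD3_c17)) = (LP (LK LD1_c2 LD2_c29 LD3_c50)) :=
  Lgr Lrot100 (Lpr_af (f273143 IH) (Lpn (LP (LK LD1_c2 LD2_c29 LD3_c50))))
theorem f272351 : Led Lsl_ff (LP (LK LD1_c2 LD2_c33 LD3_c17)) = (LP (LK LD1_c2 LD2_c29 LD3_c52)) :=
  Lgr Lrot3 (Lpr_ft (f272344 IH) (Lpn (LP (LK LD1_c2 LD2_c29 LD3_c52))))
theorem f272355 : Led Lsl_at (LP (LK LD1_c2 LD2_c33 LD3_c16)) = (LP (LK LD1_c2 LD2_c29 LD3_c52)) :=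
  Lgr Lrot100 (Lpr_af (f272353 IH) (Lpn (LP (LK LD1_c2 LD2_c29 LD3_c52))))
theorem f273151 : Led Lsl_ff (LP (LK LD1_c2 LD2_c33 LD3_c16)) = (LP (LK LD1_c2 LD2_c29 LD3_c50)) :=
  Lgr Lrot30 (Lpr_at (f272355 IH) (Lpe (f272351 IH) (Lpr_at (f273145 IH) (Lpn (LP (LK LD1_c2 LD2_c29 LD3_c50))))))
theorem f273153 : Led Lsl_ft (LP (LK LD1_c1 LD2_c13 LD3_c35)) = (LP (LK LD1_c1 LD2_c11 LD3_c58)) :=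
  Lgr Lrot4 (Lpe (f212012 IH) (Lpr_ff (f273151 IH) (Lpe (K12.f180535 IH) (Lpn (LP (LK LD1_c1 LD2_c11 LD3_c58))))))
theorem f205340 : Led Lsl_et (LP (LK LD1_c2 LD2_c33 LD3_c18)) = (LP (LK LD1_c1 LD2_c13 LD3_c36)) :=
  Lre_e IH (LK LD1_c2 LD2_c33 LD3_c18) (LK LD1_c1 LD2_c13 LD3_c36) Lrfl Lrfl
theorem f241852 : Led Lsl_bt (LP (LK LD1_c1 LD2_c13 LD3_c36)) = (LP (LK LD1_c1 LD2_c58 LD3_c2)) :=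
  Lgr Lrot119 (Lpe (f205340 IH) (Lpr_bf (K13.f241848 IH) (Lpr_ef (K13.f241265 IH) (Lpn (LP (LK LD1_c1 LD2_c58 LD3_c2))))))
theorem f268557 : Led Lsl_af (LP (LK LD1_c1 LD2_c13 LD3_c36)) = (LP (LK LD1_c1 LD2_c11 LD3_c58)) :=
  Lgr Lrot36 (Lpr_bt (f241852 IH) (Lpe (K13.f241872 IH) (Lpe (K10.f192647 IH) (Lpr_at (f268553 IH) (Lpe (K12.f204895 IH) (Lpn (LP (LK LD1_c1 LD2_c11 LD3_c58))))))))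
theorem f240916 : Led Lsl_ff (LP (LK LD1_c1 LD2_c11 LD3_c59)) = (LP (LK LD1_c1 LD2_c13 LD3_c36)) :=
  Lgr Lrot19 (Lpe (K13.f240748 IH) (Lpe (K13.f239675 IH) (Lpr_dt (K13.f240897 IH) (Lpn (LP (LK LD1_c1 LD2_c13 LD3_c36))))))
theorem f273161 : Led Lsl_af (LP (LK LD1_c1 LD2_c13 LD3_c35)) = (LP (LK LD1_c1 LD2_c11 LD3_c59)) :=
  Lgr Lrot45 (Lpr_ft (f273153 IH) (Lpe (f268557 IH) (Lpe (f240916 IH) (Lpn (LP (LK LD1_c1 LD2_c11 LD3_c59))))))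
theorem f240758 : Led Lsl_et (LP (LK LD1_c1 LD2_c20 LD3_c38)) = (LP (LK LD1_c1 LD2_c11 LD3_c59)) :=
  Lgr Lrot71 (Lpe (K13.f175002 IH) (Lpe (K13.f175008 IH) (Lpr_df (K12.f211466 IH) (Lpe (K13.f211477 IH) (Lpr_df (K13.f240748 IH) (Lpn (LP (LK LD1_c1 LD2_c11 LD3_c59))))))))
theorem f273163 : Led Lsl_at (LP (LK LD1_c1 LD2_c28 LD3_c22)) = (LP (LK LD1_c1 LD2_c20 LD3_c38)) :=
  Lgr Lrot80 (Lpe (K12.f212019 IH) (Lpr_af (f273161 IH) (Lpe (f240758 IH) (Lpn (LP (LK LD1_c1 LD2_c20 LD3_c38))))))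
theorem f68780 : Led Lsl_ct (LP (LK LD1_c2 LD2_c47 LD3_c10)) = (LP (LK LD1_c5 LD2_c42 LD3_c25)) :=
  Lre_c IH (LK LD1_c2 LD2_c47 LD3_c10) (LK LD1_c5 LD2_c42 LD3_c25) Lrfl Lrfl
theorem f268645 : Led Lsl_df (LP (LK LD1_c6 LD2_c9 LD3_c6)) = (LP (LK LD1_c5 LD2_c42 LD3_c25)) :=
  Lgr Lrot43 (Lpr_ct (f60130 IH) (Lpr_dt (f60110 IH) (Lpe (f193977 IH) (Lpe (K10.f193777 IH) (Lpe (K10.f180350 IH) (Lpr_dt (K10.f23962 IH) (Lpr_ct (f26950 IH) (Lpr_dt (f268471 IH) (Lpr_ct (f26949 IH) (Lpr_dt (f22900 IH) (Lpr_ct (K10.f175910 IH) (Lpr_dt (f268641 IH) (Lpr_ct (K10.f175490 IH) (Lpr_dt (f68732 IH) (Lpr_ct (f68780 IH) (Lpn (LP (LK LD1_c5 LD2_c42 LD3_c25))))))))))))))))))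
theorem f268647 : Led Lsl_at (LP (LK LD1_c0 LD2_c40 LD3_c55)) = (LP (LK LD1_c1 LD2_c5 LD3_c46)) :=
  Lgr Lrot33 (Lpr_ff (f268455 IH) (Lpr_dt (f268641 IH) (Lpr_ct (K10.f175490 IH) (Lpr_dt (f68732 IH) (Lpr_ct (f68780 IH) (Lpe (f268645 IH) (Lpr_ct (f60130 IH) (Lpr_dt (f60110 IH) (Lpe (f193977 IH) (Lpn (LP (LK LD1_c1 LD2_c5 LD3_c46))))))))))))
theorem f197807 : Led Lsl_bf (LP (LK LD1_c0 LD2_c40 LD3_c55)) = (LP (LK LD1_c1 LD2_c27 LD3_c61)) :=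
  Lgr Lrot93 (Lpe (K9.f161776 IH) (Lpr_bt (K10.f161789 IH) (Lpr_dt (K10.f197805 IH) (Lpn (LP (LK LD1_c1 LD2_c27 LD3_c61))))))
theorem f197455 : Led Lsl_dt (LP (LK LD1_c2 LD2_c18 LD3_c42)) = (LP (LK LD1_c1 LD2_c56 LD3_c45)) :=
  Lgr Lrot42 (Lpr_df (K13.f197451 IH) (Lpn (LP (LK LD1_c1 LD2_c56 LD3_c45))))
theorem f197435 : Led Lsl_bf (LP (LK LD1_c1 LD2_c55 LD3_c28)) = (LP (LK LD1_c1 LD2_c56 LD3_c45)) :=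
  Lgr Lrot24 (Lpr_bt (K13.f197433 IH) (Lpn (LP (LK LD1_c1 LD2_c56 LD3_c45))))
theorem f197457 : Led Lsl_bf (LP (LK LD1_c2 LD2_c18 LD3_c42)) = (LP (LK LD1_c1 LD2_c20 LD3_c38)) :=
  Lgr Lrot93 (Lpr_dt (f197455 IH) (Lpe (f197435 IH) (Lpr_dt (K13.f175002 IH) (Lpn (LP (LK LD1_c1 LD2_c20 LD3_c38))))))
theorem f273165 : Led Lsl_af (LP (LK LD1_c1 LD2_c27 LD3_c61)) = (LP (LK LD1_c2 LD2_c18 LD3_c42)) :=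
  Lgr Lrot36 (Lpe (f197807 IH) (Lpr_at (f268647 IH) (Lpe (K10.f193775 IH) (Lpr_at (f273163 IH) (Lpe (f197457 IH) (Lpn (LP (LK LD1_c2 LD2_c18 LD3_c42))))))))
theorem f273175 : Led Lsl_ft (LP (LK LD1_c1 LD2_c27 LD3_c60)) = (LP (LK LD1_c2 LD2_c18 LD3_c42)) :=
  Lgr Lrot2 (Lpe (K12.f197909 IH) (Lpr_gt (K10.f69811 IH) (Lpr_af (f273165 IH) (Lpn (LP (LK LD1_c2 LD2_c18 LD3_c42))))))
theorem f273179 : Led Lsl_ff (LP (LK LD1_c1 LD2_c27 LD3_c60)) = (LP (LK LD1_c2 LD2_c18 LD3_c42)) :=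
  Lgr Lrot3 (Lpr_ft (f273175 IH) (Lpn (LP (LK LD1_c2 LD2_c18 LD3_c42))))
theorem f273185 : Led Lsl_ft (LP (LK LD1_c3 LD2_c3 LD3_c54)) = (LP (LK LD1_c1 LD2_c56 LD3_c45)) :=
  Lgr Lrot54 (Lpe (K10.f37180 IH) (Lpr_ff (f273179 IH) (Lpr_df (K13.f197451 IH) (Lpn (LP (LK LD1_c1 LD2_c56 LD3_c45))))))
theorem f273187 : Led Lsl_af (LP (LK LD1_c1 LD2_c10 LD3_c26)) = (LP (LK LD1_c1 LD2_c56 LD3_c45)) :=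
  Lgr Lrot45 (Lpr_ft (K10.f181601 IH) (Lpr_at (K12.f197872 IH) (Lpr_ft (f273185 IH) (Lpn (LP (LK LD1_c1 LD2_c56 LD3_c45))))))
theorem f197437 : Led Lsl_et (LP (LK LD1_c0 LD2_c55 LD3_c9)) = (LP (LK LD1_c1 LD2_c56 LD3_c45)) :=
  Lre_e IH (LK LD1_c0 LD2_c55 LD3_c9) (LK LD1_c1 LD2_c56 LD3_c45) Lrfl Lrfl
theorem f273189 : Led Lsl_at (LP (LK LD1_c0 LD2_c32 LD3_c38)) = (LP (LK LD1_c0 LD2_c55 LD3_c9)) :=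
  Lgr Lrot80 (Lpe (K10.f181604 IH) (Lpr_af (f273187 IH) (Lpe (f197437 IH) (Lpn (LP (LK LD1_c0 LD2_c55 LD3_c9))))))
theorem f268617 : Led Lsl_ft (LP (LK LD1_c0 LD2_c54 LD3_c56)) = (LP (LK LD1_c0 LD2_c32 LD3_c38)) :=
  Lgr Lrot75 (Lpe (K10.f28381 IH) (Lpr_ff (f268613 IH) (Lpe (K12.f172849 IH) (Lpn (LP (LK LD1_c0 LD2_c32 LD3_c38))))))
theorem f239424 : Led Lsl_ff (LP (LK LD1_c0 LD2_c55 LD3_c18)) = (LP (LK LD1_c0 LD2_c55 LD3_c9)) :=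
  Lgr Lrot25 (Lpr_bt (K13.f237293 IH) (Lpr_ft (K13.f239422 IH) (Lpr_bt (K13.f197416 IH) (Lpn (LP (LK LD1_c0 LD2_c55 LD3_c9))))))
theorem f273193 : Led Lsl_af (LP (LK LD1_c0 LD2_c54 LD3_c56)) = (LP (LK LD1_c0 LD2_c55 LD3_c18)) :=
  Lgr Lrot45 (Lpr_ft (f268617 IH) (Lpr_at (f273189 IH) (Lpe (f239424 IH) (Lpn (LP (LK LD1_c0 LD2_c55 LD3_c18))))))
theorem f273197 : Led Lsl_at (LP (LK LD1_c0 LD2_c55 LD3_c52)) = (LP (LK LD1_c0 LD2_c55 LD3_c38)) :=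
  Lgr Lrot51 (Lpr_df (K13.f193657 IH) (Lpr_af (f273193 IH) (Lpr_df (K12.f192837 IH) (Lpn (LP (LK LD1_c0 LD2_c55 LD3_c38))))))
theorem f273191 : Led Lsl_af (LP (LK LD1_c0 LD2_c56 LD3_c32)) = (LP (LK LD1_c1 LD2_c56 LD3_c44)) :=
  Lgr Lrot117 (Lpr_dt (K12.f211493 IH) (Lpr_at (f273189 IH) (Lpr_dt (K12.f3047 IH) (Lpn (LP (LK LD1_c1 LD2_c56 LD3_c44))))))
theorem f273201 : Led Lsl_ff (LP (LK LD1_c0 LD2_c55 LD3_c52)) = (LP (LK LD1_c0 LD2_c56 LD3_c32)) :=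
  Lgr Lrot30 (Lpr_at (f273197 IH) (Lpr_ft (K13.f239432 IH) (Lpe (f273191 IH) (Lpn (LP (LK LD1_c0 LD2_c56 LD3_c32))))))
theorem f273205 : Led Lsl_ft (LP (LK LD1_c0 LD2_c55 LD3_c52)) = (LP (LK LD1_c0 LD2_c56 LD3_c32)) :=
  Lgr Lrot48 (Lpr_ff (f273201 IH) (Lpn (LP (LK LD1_c0 LD2_c56 LD3_c32))))
theorem f193659 : Led Lsl_et (LP (LK LD1_c0 LD2_c25 LD3_c20)) = (LP (LK LD1_c0 LD2_c55 LD3_c52)) :=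
  Lre_e IH (LK LD1_c0 LD2_c25 LD3_c20) (LK LD1_c0 LD2_c55 LD3_c52) Lrfl Lrfl
theorem f273209 : Led Lsl_ff (LP (LK LD1_c0 LD2_c55 LD3_c41)) = (LP (LK LD1_c0 LD2_c56 LD3_c25)) :=
  Lgr Lrot72 (Lpr_et (K10.f171539 IH) (Lpe (f271820 IH) (Lpr_et (f193659 IH) (Lpr_ft (f273205 IH) (Lpr_et (K12.f211500 IH) (Lpn (LP (LK LD1_c0 LD2_c56 LD3_c25))))))))
theorem f273213 : Led Lsl_ft (LP (LK LD1_c1 LD2_c57 LD3_c36)) = (LP (LK LD1_c1 LD2_c58 LD3_c44)) :=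
  Lgr Lrot4 (Lpe (K10.f192595 IH) (Lpr_ff (f273209 IH) (Lpr_cf (K14.f28962 IH) (Lpn (LP (LK LD1_c1 LD2_c58 LD3_c44))))))
theorem f255144 : Led Lsl_gf (LP (LK LD1_c1 LD2_c58 LD3_c46)) = (LP (LK LD1_c1 LD2_c57 LD3_c36)) :=
  Lgr Lrot104 (Lpr_ct (K12.f199153 IH) (Lpr_df (K14.f255136 IH) (Lpe (K11.f32020 IH) (Lpr_gf (K11.f201578 IH) (Lpr_cf (K14.f201401 IH) (Lpe (K12.f31537 IH) (Lpr_df (K12.f216354 IH) (Lpr_gt (K13.f211590 IH) (Lpr_ct (K10.f192595 IH) (Lpn (LP (LK LD1_c1 LD2_c57 LD3_c36))))))))))))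
theorem f273217 : Led Lsl_af (LP (LK LD1_c2 LD2_c24 LD3_c9)) = (LP (LK LD1_c1 LD2_c58 LD3_c44)) :=
  Lgr Lrot31 (Lpr_gf (K14.f253502 IH) (Lpr_gf (f255144 IH) (Lpr_ft (f273213 IH) (Lpn (LP (LK LD1_c1 LD2_c58 LD3_c44))))))
theorem f271237 : Led Lsl_ff (LP (LK LD1_c1 LD2_c58 LD3_c0)) = (LP (LK LD1_c2 LD2_c24 LD3_c9)) :=
  Lgr Lrot25 (Lpe (f184671 IH) (Lpr_ft (f271235 IH) (Lpr_bt (K14.f232877 IH) (Lpn (LP (LK LD1_c2 LD2_c24 LD3_c9))))))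
theorem f273221 : Led Lsl_at (LP (LK LD1_c1 LD2_c58 LD3_c0)) = (LP (LK LD1_c1 LD2_c57 LD3_c36)) :=
  Lgr Lrot66 (Lpr_ff (f271237 IH) (Lpr_af (f273217 IH) (Lpe (f273213 IH) (Lpn (LP (LK LD1_c1 LD2_c57 LD3_c36))))))
theorem f184675 : Led Lsl_et (LP (LK LD1_c0 LD2_c55 LD3_c53)) = (LP (LK LD1_c1 LD2_c58 LD3_c0)) :=
  Lre_e IH (LK LD1_c0 LD2_c55 LD3_c53) (LK LD1_c1 LD2_c58 LD3_c0) Lrfl Lrfl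
theorem f273227 : Led Lsl_af (LP (LK LD1_c0 LD2_c55 LD3_c53)) = (LP (LK LD1_c0 LD2_c55 LD3_c39)) :=
  Lgr Lrot50 (Lpr_et (f184675 IH) (Lpr_at (f273221 IH) (Lpr_et (K10.f171528 IH) (Lpn (LP (LK LD1_c0 LD2_c55 LD3_c39))))))
theorem f184657 : Led Lsl_dt (LP (LK LD1_c0 LD2_c55 LD3_c53)) = (LP (LK LD1_c1 LD2_c57 LD3_c61)) :=
  Lre_d IH (LK LD1_c0 LD2_c55 LD3_c53) (LK LD1_c1 LD2_c57 LD3_c61) Lrfl Lrfl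
theorem f273233 : Led Lsl_at (LP (LK LD1_c1 LD2_c57 LD3_c61)) = (LP (LK LD1_c1 LD2_c57 LD3_c35)) :=
  Lgr Lrot51 (Lpe (f184657 IH) (Lpr_af (f273227 IH) (Lpe (K13.f171525 IH) (Lpn (LP (LK LD1_c1 LD2_c57 LD3_c35))))))
theorem f273243 : Led Lsl_ff (LP (LK LD1_c1 LD2_c57 LD3_c61)) = (LP (LK LD1_c1 LD2_c57 LD3_c29)) :=
  Lgr Lrot52 (Lpr_at (f273233 IH) (Lpr_gf (K13.f242305 IH) (Lpe (K13.f196110 IH) (Lpn (LP (LK LD1_c1 LD2_c57 LD3_c29))))))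
theorem f273251 : Led Lsl_ft (LP (LK LD1_c1 LD2_c57 LD3_c61)) = (LP (LK LD1_c1 LD2_c57 LD3_c29)) :=
  Lgr Lrot48 (Lpr_ff (f273243 IH) (Lpn (LP (LK LD1_c1 LD2_c57 LD3_c29))))
theorem f273257 : Led Lsl_af (LP (LK LD1_c1 LD2_c57 LD3_c55)) = (LP (LK LD1_c1 LD2_c57 LD3_c29)) :=
  Lgr Lrot31 (Lpe (K13.f193631 IH) (Lpr_gf (K14.f240087 IH) (Lpr_ft (f273251 IH) (Lpn (LP (LK LD1_c1 LD2_c57 LD3_c29))))))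
theorem f273235 : Led Lsl_af (LP (LK LD1_c1 LD2_c57 LD3_c61)) = (LP (LK LD1_c1 LD2_c57 LD3_c35)) :=
  Lgr Lrot0 (Lpr_at (f273233 IH) (Lpn (LP (LK LD1_c1 LD2_c57 LD3_c35))))
theorem f273267 : Led Lsl_ft (LP (LK LD1_c1 LD2_c57 LD3_c55)) = (LP (LK LD1_c1 LD2_c57 LD3_c35)) :=
  Lgr Lrot101 (Lpr_af (f273257 IH) (Lpe (f273251 IH) (Lpr_af (f273235 IH) (Lpn (LP (LK LD1_c1 LD2_c57 LD3_c35))))))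
theorem f273277 : Led Lsl_ff (LP (LK LD1_c1 LD2_c57 LD3_c55)) = (LP (LK LD1_c1 LD2_c57 LD3_c35)) :=
  Lgr Lrot3 (Lpr_ft (f273267 IH) (Lpn (LP (LK LD1_c1 LD2_c57 LD3_c35))))
theorem f193639 : Led Lsl_et (LP (LK LD1_c1 LD2_c57 LD3_c55)) = (LP (LK LD1_c4 LD2_c1 LD3_c61)) :=
  Lre_e IH (LK LD1_c1 LD2_c57 LD3_c55) (LK LD1_c4 LD2_c1 LD3_c61) Lrfl Lrfl
theorem f171562 : Led Lsl_ft (LP (LK LD1_c8 LD2_c3 LD3_c22)) = (LP (LK LD1_c4 LD2_c1 LD3_c20)) :=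
  Lre_f IH (LK LD1_c8 LD2_c3 LD3_c22) (LK LD1_c4 LD2_c1 LD3_c20) Lrfl Lrfl
theorem f273283 : Led Lsl_et (LP (LK LD1_c8 LD2_c4 LD3_c41)) = (LP (LK LD1_c8 LD2_c3 LD3_c22)) :=
  Lgr Lrot69 (Lpe (K15.f229157 IH) (Lpe (f193639 IH) (Lpr_ff (f273277 IH) (Lpe (K15.f171607 IH) (Lpe (f171562 IH) (Lpn (LP (LK LD1_c8 LD2_c3 LD3_c22))))))))
theorem f229163 : Led Lsl_ct (LP (LK LD1_c15 LD2_c12 LD3_c37)) = (LP (LK LD1_c8 LD2_c4 LD3_c41)) :=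
  Lre_c IH (LK LD1_c15 LD2_c12 LD3_c37) (LK LD1_c8 LD2_c4 LD3_c41) Lrfl Lrfl
theorem f192627 : Led Lsl_ct (LP (LK LD1_c8 LD2_c3 LD3_c22)) = (LP (LK LD1_c15 LD2_c9 LD3_c61)) :=
  Lre_c IH (LK LD1_c8 LD2_c3 LD3_c22) (LK LD1_c15 LD2_c9 LD3_c61) Lrfl Lrfl
theorem f273287 : Led Lsl_ef (LP (LK LD1_c15 LD2_c12 LD3_c37)) = (LP (LK LD1_c15 LD2_c9 LD3_c61)) :=
  Lgr Lrot28 (Lpr_ct (f229163 IH) (Lpr_et (f273283 IH) (Lpr_ct (f192627 IH) (Lpn (LP (LK LD1_c15 LD2_c9 LD3_c61))))))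
theorem f273299 : Led Lsl_et (LP (LK LD1_c15 LD2_c12 LD3_c37)) = (LP (LK LD1_c15 LD2_c9 LD3_c61)) :=
  Lgr Lrot87 (Lpr_ef (f273287 IH) (Lpn (LP (LK LD1_c15 LD2_c9 LD3_c61))))
theorem f229164 : Led Lsl_bt (LP (LK LD1_c25 LD2_c1 LD3_c35)) = (LP (LK LD1_c15 LD2_c12 LD3_c37)) :=
  Lre_b IH (LK LD1_c25 LD2_c1 LD3_c35) (LK LD1_c15 LD2_c12 LD3_c37) Lrfl Lrfl
theorem f192628 : Led Lsl_bt (LP (LK LD1_c15 LD2_c9 LD3_c61)) = (LP (LK LD1_c24 LD2_c59 LD3_c6)) :=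
  Lre_b IH (LK LD1_c15 LD2_c9 LD3_c61) (LK LD1_c24 LD2_c59 LD3_c6) Lrfl Lrfl
theorem f273303 : Led Lsl_ef (LP (LK LD1_c25 LD2_c1 LD3_c35)) = (LP (LK LD1_c24 LD2_c59 LD3_c6)) :=
  Lgr Lrot29 (Lpr_bt (f229164 IH) (Lpr_et (f273299 IH) (Lpr_bt (f192628 IH) (Lpn (LP (LK LD1_c24 LD2_c59 LD3_c6))))))
theorem f229171 : Led Lsl_ft (LP (LK LD1_c25 LD2_c1 LD3_c35)) = (LP (LK LD1_c15 LD2_c12 LD3_c35)) :=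
  Lre_f IH (LK LD1_c25 LD2_c1 LD3_c35) (LK LD1_c15 LD2_c12 LD3_c35) Lrfl Lrfl
theorem f229187 : Led Lsl_et (LP (LK LD1_c15 LD2_c12 LD3_c35)) = (LP (LK LD1_c8 LD2_c4 LD3_c37)) :=
  Lre_e IH (LK LD1_c15 LD2_c12 LD3_c35) (LK LD1_c8 LD2_c4 LD3_c37) Lrfl Lrfl
theorem f171571 : Led Lsl_ft (LP (LK LD1_c15 LD2_c9 LD3_c59)) = (LP (LK LD1_c24 LD2_c59 LD3_c6)) :=
  Lre_f IH (LK LD1_c15 LD2_c9 LD3_c59) (LK LD1_c24 LD2_c59 LD3_c6) Lrfl Lrfl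
theorem f171581 : Led Lsl_et (LP (LK LD1_c8 LD2_c3 LD3_c18)) = (LP (LK LD1_c15 LD2_c9 LD3_c59)) :=
  Lre_e IH (LK LD1_c8 LD2_c3 LD3_c18) (LK LD1_c15 LD2_c9 LD3_c59) Lrfl Lrfl
theorem f273308 : Led Lsl_ft (LP (LK LD1_c8 LD2_c4 LD3_c37)) = (LP (LK LD1_c8 LD2_c3 LD3_c18)) :=
  Lgr Lrot86 (Lpe (f229187 IH) (Lpe (f229171 IH) (Lpr_ef (f273303 IH) (Lpe (f171571 IH) (Lpe (f171581 IH) (Lpn (LP (LK LD1_c8 LD2_c3 LD3_c18))))))))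
theorem f273316 : Led Lsl_ff (LP (LK LD1_c8 LD2_c4 LD3_c37)) = (LP (LK LD1_c8 LD2_c3 LD3_c18)) :=
  Lgr Lrot3 (Lpr_ft (f273308 IH) (Lpn (LP (LK LD1_c8 LD2_c3 LD3_c18))))
theorem f49063 : Led Lsl_ct (LP (LK LD1_c5 LD2_c17 LD3_c37)) = (LP (LK LD1_c10 LD2_c24 LD3_c52)) :=
  Lre_c IH (LK LD1_c5 LD2_c17 LD3_c37) (LK LD1_c10 LD2_c24 LD3_c52) Lrfl Lrfl
theorem f49064 : Led Lsl_bt (LP (LK LD1_c10 LD2_c24 LD3_c52)) = (LP (LK LD1_c18 LD2_c53 LD3_c38)) :=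
  Lre_b IH (LK LD1_c10 LD2_c24 LD3_c52) (LK LD1_c18 LD2_c53 LD3_c38) Lrfl Lrfl
theorem f229165 : Led Lsl_cf (LP (LK LD1_c25 LD2_c1 LD3_c35)) = (LP (LK LD1_c18 LD2_c53 LD3_c38)) :=
  Lgr Lrot97 (Lpr_bt (f229164 IH) (Lpr_ct (f229163 IH) (Lpr_bt (K15.f229158 IH) (Lpr_ct (f49063 IH) (Lpr_bt (f49064 IH) (Lpn (LP (LK LD1_c18 LD2_c53 LD3_c38))))))))
theorem f229169 : Led Lsl_ct (LP (LK LD1_c25 LD2_c1 LD3_c35)) = (LP (LK LD1_c18 LD2_c53 LD3_c38)) :=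
  Lgr Lrot59 (Lpr_cf (f229165 IH) (Lpn (LP (LK LD1_c18 LD2_c53 LD3_c38))))
theorem f229175 : Led Lsl_ft (LP (LK LD1_c15 LD2_c12 LD3_c35)) = (LP (LK LD1_c25 LD2_c1 LD3_c35)) :=
  Lre_f IH (LK LD1_c15 LD2_c12 LD3_c35) (LK LD1_c25 LD2_c1 LD3_c35) Lrfl Lrfl
theorem f229176 : Led Lsl_ft (LP (LK LD1_c18 LD2_c53 LD3_c38)) = (LP (LK LD1_c10 LD2_c24 LD3_c47)) :=
  Lre_f IH (LK LD1_c18 LD2_c53 LD3_c38) (LK LD1_c10 LD2_c24 LD3_c47) Lrfl Lrfl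
theorem f229177 : Led Lsl_cf (LP (LK LD1_c15 LD2_c12 LD3_c35)) = (LP (LK LD1_c10 LD2_c24 LD3_c47)) :=
  Lgr Lrot108 (Lpr_ft (f229175 IH) (Lpr_ct (f229169 IH) (Lpr_ft (f229176 IH) (Lpn (LP (LK LD1_c10 LD2_c24 LD3_c47))))))
theorem f229188 : Led Lsl_et (LP (LK LD1_c5 LD2_c17 LD3_c33)) = (LP (LK LD1_c10 LD2_c24 LD3_c47)) :=
  Lre_e IH (LK LD1_c5 LD2_c17 LD3_c33) (LK LD1_c10 LD2_c24 LD3_c47) Lrfl Lrfl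
theorem f229189 : Led Lsl_ct (LP (LK LD1_c8 LD2_c4 LD3_c37)) = (LP (LK LD1_c5 LD2_c17 LD3_c33)) :=
  Lgr Lrot15 (Lpe (f229187 IH) (Lpr_cf (f229177 IH) (Lpe (f229188 IH) (Lpn (LP (LK LD1_c5 LD2_c17 LD3_c33))))))
theorem f171556 : Led Lsl_ct (LP (LK LD1_c5 LD2_c17 LD3_c3)) = (LP (LK LD1_c10 LD2_c23 LD3_c44)) :=
  Lre_c IH (LK LD1_c5 LD2_c17 LD3_c3) (LK LD1_c10 LD2_c23 LD3_c44) Lrfl Lrfl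
theorem f171557 : Led Lsl_bt (LP (LK LD1_c10 LD2_c23 LD3_c44)) = (LP (LK LD1_c18 LD2_c51 LD3_c39)) :=
  Lre_b IH (LK LD1_c10 LD2_c23 LD3_c44) (LK LD1_c18 LD2_c51 LD3_c39) Lrfl Lrfl
theorem f171558 : Led Lsl_ct (LP (LK LD1_c8 LD2_c3 LD3_c19)) = (LP (LK LD1_c4 LD2_c1 LD3_c20)) :=
  Lre_c IH (LK LD1_c8 LD2_c3 LD3_c19) (LK LD1_c4 LD2_c1 LD3_c20) Lrfl Lrfl
theorem f171559 : Led Lsl_bt (LP (LK LD1_c15 LD2_c9 LD3_c59)) = (LP (LK LD1_c8 LD2_c3 LD3_c19)) :=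
  Lre_b IH (LK LD1_c15 LD2_c9 LD3_c59) (LK LD1_c8 LD2_c3 LD3_c19) Lrfl Lrfl
theorem f171560 : Led Lsl_ct (LP (LK LD1_c18 LD2_c51 LD3_c39)) = (LP (LK LD1_c15 LD2_c9 LD3_c59)) :=
  Lgr Lrot83 (Lpe (f171557 IH) (Lpe (f171556 IH) (Lpr_bf (K15.f171551 IH) (Lpe (f171558 IH) (Lpe (f171559 IH) (Lpn (LP (LK LD1_c15 LD2_c9 LD3_c59))))))))
theorem f171566 : Led Lsl_cf (LP (LK LD1_c18 LD2_c51 LD3_c39)) = (LP (LK LD1_c15 LD2_c9 LD3_c59)) :=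
  Lgr Lrot11 (Lpr_ct (f171560 IH) (Lpn (LP (LK LD1_c15 LD2_c9 LD3_c59))))
theorem f171580 : Led Lsl_et (LP (LK LD1_c18 LD2_c51 LD3_c39)) = (LP (LK LD1_c10 LD2_c23 LD3_c42)) :=
  Lre_e IH (LK LD1_c18 LD2_c51 LD3_c39) (LK LD1_c10 LD2_c23 LD3_c42) Lrfl Lrfl
theorem f171582 : Led Lsl_ct (LP (LK LD1_c10 LD2_c23 LD3_c42)) = (LP (LK LD1_c8 LD2_c3 LD3_c18)) :=
  Lgr Lrot15 (Lpe (f171580 IH) (Lpr_cf (f171566 IH) (Lpe (f171581 IH) (Lpn (LP (LK LD1_c8 LD2_c3 LD3_c18))))))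
theorem f273324 : Led Lsl_ft (LP (LK LD1_c5 LD2_c17 LD3_c33)) = (LP (LK LD1_c10 LD2_c23 LD3_c42)) :=
  Lgr Lrot4 (Lpe (f229189 IH) (Lpr_ff (f273316 IH) (Lpe (f171582 IH) (Lpn (LP (LK LD1_c10 LD2_c23 LD3_c42))))))
theorem f188300 : Led Lsl_dt (LP (LK LD1_c10 LD2_c24 LD3_c46)) = (LP (LK LD1_c5 LD2_c17 LD3_c33)) :=
  Lre_d IH (LK LD1_c10 LD2_c24 LD3_c46) (LK LD1_c5 LD2_c17 LD3_c33) Lrfl Lrfl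
theorem f171612 : Led Lsl_dt (LP (LK LD1_c10 LD2_c23 LD3_c42)) = (LP (LK LD1_c18 LD2_c51 LD3_c38)) :=
  Lre_d IH (LK LD1_c10 LD2_c23 LD3_c42) (LK LD1_c18 LD2_c51 LD3_c38) Lrfl Lrfl
theorem f273332 : Led Lsl_ff (LP (LK LD1_c10 LD2_c24 LD3_c46)) = (LP (LK LD1_c18 LD2_c51 LD3_c38)) :=
  Lgr Lrot19 (Lpr_dt (f188300 IH) (Lpr_ft (f273324 IH) (Lpr_dt (f171612 IH) (Lpn (LP (LK LD1_c18 LD2_c51 LD3_c38))))))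
theorem f273347 : Led Lsl_ft (LP (LK LD1_c10 LD2_c24 LD3_c46)) = (LP (LK LD1_c18 LD2_c51 LD3_c38)) :=
  Lgr Lrot48 (Lpr_ff (f273332 IH) (Lpn (LP (LK LD1_c18 LD2_c51 LD3_c38))))
theorem f188208 : Led Lsl_bt (LP (LK LD1_c5 LD2_c17 LD3_c34)) = (LP (LK LD1_c10 LD2_c24 LD3_c46)) :=
  Lre_b IH (LK LD1_c5 LD2_c17 LD3_c34) (LK LD1_c10 LD2_c24 LD3_c46) Lrfl Lrfl
theorem f273353 : Led Lsl_bt (LP (LK LD1_c18 LD2_c51 LD3_c38)) = (LP (LK LD1_c10 LD2_c23 LD3_c43)) :=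
  Lre_b IH (LK LD1_c18 LD2_c51 LD3_c38) (LK LD1_c10 LD2_c23 LD3_c43) Lrfl Lrfl
theorem f273354 : Led Lsl_ff (LP (LK LD1_c5 LD2_c17 LD3_c34)) = (LP (LK LD1_c10 LD2_c23 LD3_c43)) :=
  Lgr Lrot25 (Lpr_bt (f188208 IH) (Lpr_ft (f273347 IH) (Lpr_bt (f273353 IH) (Lpn (LP (LK LD1_c10 LD2_c23 LD3_c43))))))
theorem f189518 : Led Lsl_dt (LP (LK LD1_c5 LD2_c17 LD3_c2)) = (LP (LK LD1_c10 LD2_c23 LD3_c43)) :=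
  Lre_d IH (LK LD1_c5 LD2_c17 LD3_c2) (LK LD1_c10 LD2_c23 LD3_c43) Lrfl Lrfl
theorem f273363 : Led Lsl_ft (LP (LK LD1_c2 LD2_c35 LD3_c32)) = (LP (LK LD1_c5 LD2_c17 LD3_c2)) :=
  Lgr Lrot54 (Lpe (K10.f49120 IH) (Lpr_ff (f273354 IH) (Lpe (f189518 IH) (Lpn (LP (LK LD1_c5 LD2_c17 LD3_c2))))))
theorem f259680 : Led Lsl_gf (LP (LK LD1_c2 LD2_c35 LD3_c36)) = (LP (LK LD1_c5 LD2_c17 LD3_c31)) :=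
  Lgr Lrot144 (Lpr_dt (K15.f49107 IH) (Lpr_gt (K15.f257785 IH) (Lpr_dt (K9.f49127 IH) (Lpe (K9.f49124 IH) (Lpe (K8.f47826 IH) (Lpe (K10.f51334 IH) (Lpe (K15.f51342 IH) (Lpr_gf (K15.f259673 IH) (Lpe (K15.f259666 IH) (Lpn (LP (LK LD1_c5 LD2_c17 LD3_c31))))))))))))
theorem f273368 : Led Lsl_af (LP (LK LD1_c2 LD2_c35 LD3_c36)) = (LP (LK LD1_c5 LD2_c17 LD3_c2)) :=
  Lgr Lrot31 (Lpr_gf (f259680 IH) (Lpe (K15.f48237 IH) (Lpr_ft (f273363 IH) (Lpn (LP (LK LD1_c5 LD2_c17 LD3_c2))))))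
theorem f257807 : Led Lsl_et (LP (LK LD1_c2 LD2_c35 LD3_c36)) = (LP (LK LD1_c5 LD2_c17 LD3_c44)) :=
  Lre_e IH (LK LD1_c2 LD2_c35 LD3_c36) (LK LD1_c5 LD2_c17 LD3_c44) Lrfl Lrfl
theorem f191155 : Led Lsl_et (LP (LK LD1_c10 LD2_c23 LD3_c44)) = (LP (LK LD1_c5 LD2_c17 LD3_c2)) :=
  Lre_e IH (LK LD1_c10 LD2_c23 LD3_c44) (LK LD1_c5 LD2_c17 LD3_c2) Lrfl Lrfl
theorem f273379 : Led Lsl_at (LP (LK LD1_c5 LD2_c17 LD3_c44)) = (LP (LK LD1_c10 LD2_c23 LD3_c44)) :=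
  Lgr Lrot80 (Lpe (f257807 IH) (Lpr_af (f273368 IH) (Lpe (f191155 IH) (Lpn (LP (LK LD1_c10 LD2_c23 LD3_c44))))))
theorem f262999 : Led Lsl_ct (LP (LK LD1_c2 LD2_c35 LD3_c37)) = (LP (LK LD1_c5 LD2_c17 LD3_c44)) :=
  Lre_c IH (LK LD1_c2 LD2_c35 LD3_c37) (LK LD1_c5 LD2_c17 LD3_c44) Lrfl Lrfl
theorem f171578 : Led Lsl_ct (LP (LK LD1_c10 LD2_c23 LD3_c44)) = (LP (LK LD1_c5 LD2_c17 LD3_c3)) :=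
  Lre_c IH (LK LD1_c10 LD2_c23 LD3_c44) (LK LD1_c5 LD2_c17 LD3_c3) Lrfl Lrfl
theorem f273384 : Led Lsl_af (LP (LK LD1_c2 LD2_c35 LD3_c37)) = (LP (LK LD1_c5 LD2_c17 LD3_c3)) :=
  Lgr Lrot68 (Lpr_ct (f262999 IH) (Lpr_at (f273379 IH) (Lpr_ct (f171578 IH) (Lpn (LP (LK LD1_c5 LD2_c17 LD3_c3))))))
theorem f263021 : Led Lsl_ft (LP (LK LD1_c2 LD2_c35 LD3_c37)) = (LP (LK LD1_c5 LD2_c17 LD3_c47)) :=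
  Lre_f IH (LK LD1_c2 LD2_c35 LD3_c37) (LK LD1_c5 LD2_c17 LD3_c47) Lrfl Lrfl
theorem f261839 : Led Lsl_gt (LP (LK LD1_c5 LD2_c13 LD3_c22)) = (LP (LK LD1_c10 LD2_c17 LD3_c1)) :=
  Lre_g IH (LK LD1_c5 LD2_c13 LD3_c22) (LK LD1_c10 LD2_c17 LD3_c1) Lrfl Lrfl
theorem f263022 : Led Lsl_at (LP (LK LD1_c5 LD2_c17 LD3_c47)) = (LP (LK LD1_c10 LD2_c17 LD3_c1)) :=
  Lgr Lrot26 (Lpe (f263021 IH) (Lpr_gt (K15.f263019 IH) (Lpr_gt (f261839 IH) (Lpn (LP (LK LD1_c10 LD2_c17 LD3_c1))))))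
theorem f273394 : Led Lsl_ft (LP (LK LD1_c10 LD2_c17 LD3_c1)) = (LP (LK LD1_c5 LD2_c17 LD3_c3)) :=
  Lgr Lrot101 (Lpe (f263022 IH) (Lpe (f263021 IH) (Lpr_af (f273384 IH) (Lpn (LP (LK LD1_c5 LD2_c17 LD3_c3))))))
theorem f273396 : Led Lsl_gf (LP (LK LD1_c5 LD2_c17 LD3_c45)) = (LP (LK LD1_c10 LD2_c17 LD3_c1)) :=
  Lgr Lrot47 (Lpr_gt (K15.f48339 IH) (Lpr_af (f273384 IH) (Lpe (f273394 IH) (Lpn (LP (LK LD1_c10 LD2_c17 LD3_c1))))))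
theorem f167757 : Led Lsl_et (LP (LK LD1_c1 LD2_c2 LD3_c50)) = (LP (LK LD1_c2 LD2_c11 LD3_c42)) :=
  Lre_e IH (LK LD1_c1 LD2_c2 LD3_c50) (LK LD1_c2 LD2_c11 LD3_c42) Lrfl Lrfl
theorem f167738 : Led Lsl_gt (LP (LK LD1_c2 LD2_c11 LD3_c42)) = (LP (LK LD1_c4 LD2_c29 LD3_c12)) :=
  Lre_g IH (LK LD1_c2 LD2_c11 LD3_c42) (LK LD1_c4 LD2_c29 LD3_c12) Lrfl Lrfl
theorem f261467 : Led Lsl_et (LP (LK LD1_c8 LD2_c56 LD3_c42)) = (LP (LK LD1_c4 LD2_c29 LD3_c12)) :=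
  Lre_e IH (LK LD1_c8 LD2_c56 LD3_c42) (LK LD1_c4 LD2_c29 LD3_c12) Lrfl Lrfl
theorem f273399 : Led Lsl_dt (LP (LK LD1_c8 LD2_c56 LD3_c42)) = (LP (LK LD1_c10 LD2_c17 LD3_c1)) :=
  Lgr Lrot136 (Lpr_et (f261467 IH) (Lpe (f167738 IH) (Lpe (f167757 IH) (Lpr_dt (K12.f167731 IH) (Lpe (K10.f167754 IH) (Lpe (K12.f187241 IH) (Lpr_gf (K15.f261457 IH) (Lpe (K15.f259227 IH) (Lpe (K15.f262986 IH) (Lpr_gf (f273396 IH) (Lpn (LP (LK LD1_c10 LD2_c17 LD3_c1)))))))))))))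
theorem f237854 : Led Lsl_dt (LP (LK LD1_c5 LD2_c17 LD3_c3)) = (LP (LK LD1_c5 LD2_c25 LD3_c51)) :=
  Lgr Lrot42 (Lpr_df (K15.f237849 IH) (Lpn (LP (LK LD1_c5 LD2_c25 LD3_c51))))
theorem f273405 : Led Lsl_ff (LP (LK LD1_c8 LD2_c56 LD3_c42)) = (LP (LK LD1_c5 LD2_c25 LD3_c51)) :=
  Lgr Lrot19 (Lpr_dt (f273399 IH) (Lpr_ft (f273394 IH) (Lpr_dt (f237854 IH) (Lpn (LP (LK LD1_c5 LD2_c25 LD3_c51))))))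
theorem f273417 : Led Lsl_ft (LP (LK LD1_c8 LD2_c56 LD3_c42)) = (LP (LK LD1_c5 LD2_c25 LD3_c51)) :=
  Lgr Lrot48 (Lpr_ff (f273405 IH) (Lpn (LP (LK LD1_c5 LD2_c25 LD3_c51))))
theorem f273402 : Led Lsl_df (LP (LK LD1_c8 LD2_c56 LD3_c42)) = (LP (LK LD1_c10 LD2_c17 LD3_c1)) :=
  Lgr Lrot38 (Lpr_dt (f273399 IH) (Lpn (LP (LK LD1_c10 LD2_c17 LD3_c1))))
theorem f273431 : Led Lsl_ff (LP (LK LD1_c10 LD2_c17 LD3_c1)) = (LP (LK LD1_c5 LD2_c17 LD3_c3)) :=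
  Lgr Lrot19 (Lpe (f273402 IH) (Lpr_ft (f273417 IH) (Lpe (K15.f237849 IH) (Lpn (LP (LK LD1_c5 LD2_c17 LD3_c3))))))
theorem f48721 : Led Lsl_et (LP (LK LD1_c2 LD2_c35 LD3_c16)) = (LP (LK LD1_c5 LD2_c17 LD3_c3)) :=
  Lre_e IH (LK LD1_c2 LD2_c35 LD3_c16) (LK LD1_c5 LD2_c17 LD3_c3) Lrfl Lrfl
theorem f273279 : Led Lsl_ft (LP (LK LD1_c1 LD2_c14 LD3_c48)) = (LP (LK LD1_c2 LD2_c35 LD3_c16)) :=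
  Lgr Lrot75 (Lpe (K14.f229142 IH) (Lpr_ff (f273277 IH) (Lpe (K14.f171526 IH) (Lpn (LP (LK LD1_c2 LD2_c35 LD3_c16))))))
theorem f273505 : Led Lsl_et (LP (LK LD1_c10 LD2_c17 LD3_c1)) = (LP (LK LD1_c5 LD2_c17 LD3_c37)) :=
  Lgr Lrot69 (Lpr_ff (f273431 IH) (Lpe (f48721 IH) (Lpe (f273279 IH) (Lpe (K15.f48231 IH) (Lpe (K15.f49060 IH) (Lpn (LP (LK LD1_c5 LD2_c17 LD3_c37))))))))
theorem f273404 : Led Lsl_et (LP (LK LD1_c4 LD2_c29 LD3_c12)) = (LP (LK LD1_c8 LD2_c56 LD3_c42)) :=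
  Lre_e IH (LK LD1_c4 LD2_c29 LD3_c12) (LK LD1_c8 LD2_c56 LD3_c42) Lrfl Lrfl
theorem f273433 : Led Lsl_ff (LP (LK LD1_c4 LD2_c29 LD3_c12)) = (LP (LK LD1_c4 LD2_c16 LD3_c10)) :=
  Lgr Lrot72 (Lpr_et (f273404 IH) (Lpr_ft (f273417 IH) (Lpr_et (K15.f237838 IH) (Lpr_ft (K15.f263226 IH) (Lpe (f260414 IH) (Lpn (LP (LK LD1_c4 LD2_c16 LD3_c10))))))))
theorem f260582 : Led Lsl_ft (LP (LK LD1_c4 LD2_c16 LD3_c11)) = (LP (LK LD1_c2 LD2_c5 LD3_c27)) :=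
  Lre_f IH (LK LD1_c4 LD2_c16 LD3_c11) (LK LD1_c2 LD2_c5 LD3_c27) Lrfl Lrfl
theorem f273439 : Led Lsl_dt (LP (LK LD1_c4 LD2_c29 LD3_c12)) = (LP (LK LD1_c4 LD2_c16 LD3_c11)) :=
  Lgr Lrot60 (Lpr_ff (f273433 IH) (Lpe (f608 IH) (Lpe (f260582 IH) (Lpn (LP (LK LD1_c4 LD2_c16 LD3_c11))))))
theorem f273444 : Led Lsl_df (LP (LK LD1_c4 LD2_c29 LD3_c12)) = (LP (LK LD1_c4 LD2_c16 LD3_c11)) :=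
  Lgr Lrot38 (Lpr_dt (f273439 IH) (Lpn (LP (LK LD1_c4 LD2_c16 LD3_c11))))
theorem f273522 : Led Lsl_ef (LP (LK LD1_c4 LD2_c16 LD3_c11)) = (LP (LK LD1_c8 LD2_c29 LD3_c57)) :=
  Lgr Lrot73 (Lpe (f273444 IH) (Lpr_et (f273404 IH) (Lpr_dt (f273399 IH) (Lpr_et (f273505 IH) (Lpe (K15.f49048 IH) (Lpn (LP (LK LD1_c8 LD2_c29 LD3_c57))))))))
theorem f270515 : Led Lsl_af (LP (LK LD1_c8 LD2_c29 LD3_c52)) = (LP (LK LD1_c4 LD2_c16 LD3_c11)) :=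
  Lgr Lrot0 (Lpr_at (f270510 IH) (Lpn (LP (LK LD1_c4 LD2_c16 LD3_c11))))
theorem f273528 : Led Lsl_at (LP (LK LD1_c4 LD2_c16 LD3_c20)) = (LP (LK LD1_c8 LD2_c29 LD3_c57)) :=
  Lgr Lrot80 (Lpr_ef (f271418 IH) (Lpr_af (f270515 IH) (Lpr_ef (f273522 IH) (Lpn (LP (LK LD1_c8 LD2_c29 LD3_c57))))))
theorem f254540 : Led Lsl_dt (LP (LK LD1_c8 LD2_c31 LD3_c50)) = (LP (LK LD1_c4 LD2_c16 LD3_c20)) :=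
  Lre_d IH (LK LD1_c8 LD2_c31 LD3_c50) (LK LD1_c4 LD2_c16 LD3_c20) Lrfl Lrfl
theorem f273533 : Led Lsl_af (LP (LK LD1_c8 LD2_c31 LD3_c50)) = (LP (LK LD1_c5 LD2_c17 LD3_c37)) :=
  Lgr Lrot117 (Lpr_dt (f254540 IH) (Lpr_at (f273528 IH) (Lpr_dt (f49058 IH) (Lpn (LP (LK LD1_c5 LD2_c17 LD3_c37))))))
theorem f254567 : Led Lsl_ft (LP (LK LD1_c8 LD2_c31 LD3_c50)) = (LP (LK LD1_c4 LD2_c16 LD3_c19)) :=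
  Lre_f IH (LK LD1_c8 LD2_c31 LD3_c50) (LK LD1_c4 LD2_c16 LD3_c19) Lrfl Lrfl
theorem f273562 : Led Lsl_at (LP (LK LD1_c4 LD2_c16 LD3_c19)) = (LP (LK LD1_c2 LD2_c35 LD3_c33)) :=
  Lgr Lrot66 (Lpe (f254567 IH) (Lpr_af (f273533 IH) (Lpe (K15.f49047 IH) (Lpn (LP (LK LD1_c2 LD2_c35 LD3_c33))))))
theorem f629 : Led Lsl_ct (LP (LK LD1_c8 LD2_c31 LD3_c49)) = (LP (LK LD1_c4 LD2_c16 LD3_c19)) :=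
  Lre_c IH (LK LD1_c8 LD2_c31 LD3_c49) (LK LD1_c4 LD2_c16 LD3_c19) Lrfl Lrfl
theorem f48322 : Led Lsl_ct (LP (LK LD1_c2 LD2_c35 LD3_c33)) = (LP (LK LD1_c5 LD2_c17 LD3_c35)) :=
  Lre_c IH (LK LD1_c2 LD2_c35 LD3_c33) (LK LD1_c5 LD2_c17 LD3_c35) Lrfl Lrfl
theorem f273569 : Led Lsl_af (LP (LK LD1_c8 LD2_c31 LD3_c49)) = (LP (LK LD1_c5 LD2_c17 LD3_c35)) :=
  Lgr Lrot68 (Lpr_ct (f629 IH) (Lpr_at (f273562 IH) (Lpr_ct (f48322 IH) (Lpn (LP (LK LD1_c5 LD2_c17 LD3_c35))))))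
theorem f254547 : Led Lsl_bt (LP (LK LD1_c8 LD2_c31 LD3_c35)) = (LP (LK LD1_c4 LD2_c16 LD3_c20)) :=
  Lre_b IH (LK LD1_c8 LD2_c31 LD3_c35) (LK LD1_c4 LD2_c16 LD3_c20) Lrfl Lrfl
theorem f254548 : Led Lsl_dt (LP (LK LD1_c4 LD2_c16 LD3_c20)) = (LP (LK LD1_c8 LD2_c31 LD3_c50)) :=
  Lre_d IH (LK LD1_c4 LD2_c16 LD3_c20) (LK LD1_c8 LD2_c31 LD3_c50) Lrfl Lrfl
theorem f254549 : Led Lsl_bf (LP (LK LD1_c10 LD2_c27 LD3_c55)) = (LP (LK LD1_c8 LD2_c31 LD3_c50)) :=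
  Lgr Lrot93 (Lpr_dt (f254544 IH) (Lpr_bt (f254547 IH) (Lpr_dt (f254548 IH) (Lpn (LP (LK LD1_c8 LD2_c31 LD3_c50))))))
theorem f254554 : Led Lsl_ft (LP (LK LD1_c4 LD2_c16 LD3_c19)) = (LP (LK LD1_c8 LD2_c31 LD3_c50)) :=
  Lre_f IH (LK LD1_c4 LD2_c16 LD3_c19) (LK LD1_c8 LD2_c31 LD3_c50) Lrfl Lrfl
theorem f254555 : Led Lsl_bt (LP (LK LD1_c5 LD2_c19 LD3_c0)) = (LP (LK LD1_c4 LD2_c16 LD3_c19)) :=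
  Lgr Lrot35 (Lpe (f254531 IH) (Lpr_bf (f254549 IH) (Lpe (f254554 IH) (Lpn (LP (LK LD1_c4 LD2_c16 LD3_c19))))))
theorem f189532 : Led Lsl_bt (LP (LK LD1_c2 LD2_c35 LD3_c15)) = (LP (LK LD1_c2 LD2_c36 LD3_c6)) :=
  Lgr Lrot127 (Lpr_bf (K10.f189530 IH) (Lpn (LP (LK LD1_c2 LD2_c36 LD3_c6))))
theorem f254561 : Led Lsl_ef (LP (LK LD1_c2 LD2_c35 LD3_c15)) = (LP (LK LD1_c4 LD2_c16 LD3_c19)) :=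
  Lgr Lrot29 (Lpr_bt (f189532 IH) (Lpr_et (f44237 IH) (Lpr_bt (f254555 IH) (Lpn (LP (LK LD1_c4 LD2_c16 LD3_c19))))))
theorem f32918 : Led Lsl_ct (LP (LK LD1_c2 LD2_c35 LD3_c15)) = (LP (LK LD1_c5 LD2_c17 LD3_c1)) :=
  Lre_c IH (LK LD1_c2 LD2_c35 LD3_c15) (LK LD1_c5 LD2_c17 LD3_c1) Lrfl Lrfl
theorem f254563 : Led Lsl_et (LP (LK LD1_c5 LD2_c17 LD3_c1)) = (LP (LK LD1_c8 LD2_c31 LD3_c49)) :=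
  Lgr Lrot158 (Lpe (f32918 IH) (Lpr_ef (f254561 IH) (Lpe (f629 IH) (Lpn (LP (LK LD1_c8 LD2_c31 LD3_c49))))))
theorem f254571 : Led Lsl_ef (LP (LK LD1_c5 LD2_c17 LD3_c1)) = (LP (LK LD1_c8 LD2_c31 LD3_c49)) :=
  Lgr Lrot88 (Lpr_et (f254563 IH) (Lpn (LP (LK LD1_c8 LD2_c31 LD3_c49))))
theorem f273578 : Led Lsl_at (LP (LK LD1_c5 LD2_c17 LD3_c1)) = (LP (LK LD1_c2 LD2_c35 LD3_c32)) :=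
  Lgr Lrot80 (Lpr_ef (f254571 IH) (Lpr_af (f273569 IH) (Lpe (K10.f48944 IH) (Lpn (LP (LK LD1_c2 LD2_c35 LD3_c32))))))
theorem f273588 : Led Lsl_ff (LP (LK LD1_c5 LD2_c17 LD3_c1)) = (LP (LK LD1_c2 LD2_c35 LD3_c36)) :=
  Lgr Lrot30 (Lpr_at (f273578 IH) (Lpr_ft (f273363 IH) (Lpe (f273368 IH) (Lpn (LP (LK LD1_c2 LD2_c35 LD3_c36))))))
theorem f273598 : Led Lsl_ft (LP (LK LD1_c5 LD2_c17 LD3_c1)) = (LP (LK LD1_c2 LD2_c35 LD3_c36)) :=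
  Lgr Lrot48 (Lpr_ff (f273588 IH) (Lpn (LP (LK LD1_c2 LD2_c35 LD3_c36))))
theorem f254574 : Led Lsl_dt (LP (LK LD1_c5 LD2_c17 LD3_c1)) = (LP (LK LD1_c10 LD2_c23 LD3_c41)) :=
  Lre_d IH (LK LD1_c5 LD2_c17 LD3_c1) (LK LD1_c10 LD2_c23 LD3_c41) Lrfl Lrfl
theorem f273370 : Led Lsl_at (LP (LK LD1_c2 LD2_c35 LD3_c36)) = (LP (LK LD1_c5 LD2_c17 LD3_c2)) :=
  Lgr Lrot100 (Lpr_af (f273368 IH) (Lpn (LP (LK LD1_c5 LD2_c17 LD3_c2))))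
theorem f273609 : Led Lsl_ct (LP (LK LD1_c10 LD2_c23 LD3_c41)) = (LP (LK LD1_c5 LD2_c26 LD3_c10)) :=
  Lgr Lrot133 (Lpe (f254574 IH) (Lpr_ft (f273598 IH) (Lpr_at (f273370 IH) (Lpe (K14.f33084 IH) (Lpe (K14.f32955 IH) (Lpe (K10.f190250 IH) (Lpe (K12.f185670 IH) (Lpe (K12.f191149 IH) (Lpe (K15.f191148 IH) (Lpn (LP (LK LD1_c5 LD2_c26 LD3_c10))))))))))))
theorem f192578 : Led Lsl_dt (LP (LK LD1_c2 LD2_c39 LD3_c31)) = (LP (LK LD1_c5 LD2_c26 LD3_c10)) :=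
  Lre_d IH (LK LD1_c2 LD2_c39 LD3_c31) (LK LD1_c5 LD2_c26 LD3_c10) Lrfl Lrfl
theorem f54510 : Led Lsl_dt (LP (LK LD1_c10 LD2_c23 LD3_c38)) = (LP (LK LD1_c5 LD2_c16 LD3_c61)) :=
  Lre_d IH (LK LD1_c10 LD2_c23 LD3_c38) (LK LD1_c5 LD2_c16 LD3_c61) Lrfl Lrfl
theorem f266479 : Led Lsl_gt (LP (LK LD1_c5 LD2_c26 LD3_c10)) = (LP (LK LD1_c10 LD2_c23 LD3_c38)) :=
  Lgr Lrot49 (Lpe (f192578 IH) (Lpe (K12.f192579 IH) (Lpr_cf (K12.f192580 IH) (Lpr_gt (K15.f266475 IH) (Lpr_dt (K14.f192519 IH) (Lpr_gt (K14.f231794 IH) (Lpr_dt (K10.f32139 IH) (Lpe (K10.f54055 IH) (Lpe (f54510 IH) (Lpn (LP (LK LD1_c10 LD2_c23 LD3_c38))))))))))))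
theorem f165904 : Led Lsl_ct (LP (LK LD1_c10 LD2_c23 LD3_c38)) = (LP (LK LD1_c5 LD2_c18 LD3_c16)) :=
  Lre_c IH (LK LD1_c10 LD2_c23 LD3_c38) (LK LD1_c5 LD2_c18 LD3_c16) Lrfl Lrfl
theorem f189510 : Led Lsl_ct (LP (LK LD1_c5 LD2_c17 LD3_c4)) = (LP (LK LD1_c2 LD2_c35 LD3_c17)) :=
  Lre_c IH (LK LD1_c5 LD2_c17 LD3_c4) (LK LD1_c2 LD2_c35 LD3_c17) Lrfl Lrfl
theorem f273626 : Led Lsl_gf (LP (LK LD1_c10 LD2_c23 LD3_c41)) = (LP (LK LD1_c8 LD2_c15 LD3_c9)) :=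
  Lgr Lrot147 (Lpr_ct (f273609 IH) (Lpr_gt (f266479 IH) (Lpr_ct (f165904 IH) (Lpe (K15.f165901 IH) (Lpe (K9.f32813 IH) (Lpe (K14.f32107 IH) (Lpe (f189510 IH) (Lpr_gf (K14.f189508 IH) (Lpe (K10.f45021 IH) (Lpn (LP (LK LD1_c8 LD2_c15 LD3_c9))))))))))))
theorem f273630 : Led Lsl_gt (LP (LK LD1_c10 LD2_c23 LD3_c41)) = (LP (LK LD1_c8 LD2_c15 LD3_c35)) :=
  Lgr Lrot46 (Lpr_gf (f273626 IH) (Lpr_ft (K13.f53503 IH) (Lpe (K10.f53497 IH) (Lpn (LP (LK LD1_c8 LD2_c15 LD3_c35))))))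
theorem f273618 : Led Lsl_cf (LP (LK LD1_c10 LD2_c23 LD3_c41)) = (LP (LK LD1_c5 LD2_c26 LD3_c10)) :=
  Lgr Lrot11 (Lpr_ct (f273609 IH) (Lpn (LP (LK LD1_c5 LD2_c26 LD3_c10))))
theorem f32960 : Led Lsl_at (LP (LK LD1_c2 LD2_c35 LD3_c30)) = (LP (LK LD1_c5 LD2_c17 LD3_c0)) :=
  Lre_a IH (LK LD1_c2 LD2_c35 LD3_c30) (LK LD1_c5 LD2_c17 LD3_c0) Lrfl Lrfl
theorem f33073 : Led Lsl_ct (LP (LK LD1_c5 LD2_c17 LD3_c27)) = (LP (LK LD1_c2 LD2_c35 LD3_c30)) :=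
  Lre_c IH (LK LD1_c5 LD2_c17 LD3_c27) (LK LD1_c2 LD2_c35 LD3_c30) Lrfl Lrfl
theorem f187631 : Led Lsl_at (LP (LK LD1_c6 LD2_c5 LD3_c59)) = (LP (LK LD1_c5 LD2_c17 LD3_c27)) :=
  Lgr Lrot107 (Lpr_cf (K10.f187495 IH) (Lpe (f32960 IH) (Lpe (f33073 IH) (Lpn (LP (LK LD1_c5 LD2_c17 LD3_c27))))))
theorem f187732 : Led Lsl_ff (LP (LK LD1_c6 LD2_c5 LD3_c59)) = (LP (LK LD1_c5 LD2_c16 LD3_c61)) :=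
  Lgr Lrot3 (Lpr_ft (K10.f187642 IH) (Lpn (LP (LK LD1_c5 LD2_c16 LD3_c61))))
theorem f231578 : Led Lsl_gt (LP (LK LD1_c5 LD2_c16 LD3_c61)) = (LP (LK LD1_c4 LD2_c7 LD3_c39)) :=
  Lgr Lrot5 (Lpe (f187732 IH) (Lpr_at (f187631 IH) (Lpr_gf (K13.f231576 IH) (Lpn (LP (LK LD1_c4 LD2_c7 LD3_c39))))))
theorem f191335 : Led Lsl_dt (LP (LK LD1_c4 LD2_c7 LD3_c39)) = (LP (LK LD1_c8 LD2_c15 LD3_c18)) :=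
  Lre_d IH (LK LD1_c4 LD2_c7 LD3_c39) (LK LD1_c8 LD2_c15 LD3_c18) Lrfl Lrfl
theorem f197054 : Led Lsl_bt (LP (LK LD1_c2 LD2_c5 LD3_c15)) = (LP (LK LD1_c1 LD2_c58 LD3_c13)) :=
  Lgr Lrot127 (Lpr_bf (K10.f197040 IH) (Lpn (LP (LK LD1_c1 LD2_c58 LD3_c13))))
theorem f215051 : Led Lsl_gf (LP (LK LD1_c4 LD2_c15 LD3_c50)) = (LP (LK LD1_c8 LD2_c15 LD3_c54)) :=
  Lgr Lrot129 (Lpe (K12.f197030 IH) (Lpr_bt (f197054 IH) (Lpr_gt (K10.f28173 IH) (Lpr_bf (K15.f47092 IH) (Lpr_ct (K15.f44746 IH) (Lpr_gt (K14.f44788 IH) (Lpr_cf (K14.f215035 IH) (Lpr_bt (K14.f49822 IH) (Lpr_gt (K13.f49820 IH) (Lpr_ct (K10.f49650 IH) (Lpn (LP (LK LD1_c8 LD2_c15 LD3_c54)))))))))))))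
theorem f197033 : Led Lsl_dt (LP (LK LD1_c4 LD2_c15 LD3_c50)) = (LP (LK LD1_c8 LD2_c30 LD3_c45)) :=
  Lre_d IH (LK LD1_c4 LD2_c15 LD3_c50) (LK LD1_c8 LD2_c30 LD3_c45) Lrfl Lrfl
theorem f273637 : Led Lsl_cf (LP (LK LD1_c8 LD2_c15 LD3_c18)) = (LP (LK LD1_c8 LD2_c30 LD3_c45)) :=
  Lgr Lrot14 (Lpe (f191335 IH) (Lpe (f231578 IH) (Lpe (f54510 IH) (Lpe (f266479 IH) (Lpe (f273618 IH) (Lpr_gt (f273630 IH) (Lpr_dt (K9.f49793 IH) (Lpe (f215051 IH) (Lpr_dt (f197033 IH) (Lpn (LP (LK LD1_c8 LD2_c30 LD3_c45))))))))))))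
theorem f188421 : Led Lsl_dt (LP (LK LD1_c5 LD2_c17 LD3_c32)) = (LP (LK LD1_c10 LD2_c24 LD3_c41)) :=
  Lre_d IH (LK LD1_c5 LD2_c17 LD3_c32) (LK LD1_c10 LD2_c24 LD3_c41) Lrfl Lrfl
theorem f197014 : Led Lsl_ct (LP (LK LD1_c4 LD2_c15 LD3_c50)) = (LP (LK LD1_c2 LD2_c5 LD3_c15)) :=
  Lre_c IH (LK LD1_c4 LD2_c15 LD3_c50) (LK LD1_c2 LD2_c5 LD3_c15) Lrfl Lrfl
theorem f197015 : Led Lsl_dt (LP (LK LD1_c8 LD2_c30 LD3_c45)) = (LP (LK LD1_c4 LD2_c15 LD3_c50)) :=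
  Lre_d IH (LK LD1_c8 LD2_c30 LD3_c45) (LK LD1_c4 LD2_c15 LD3_c50) Lrfl Lrfl
theorem f259662 : Led Lsl_gt (LP (LK LD1_c10 LD2_c24 LD3_c41)) = (LP (LK LD1_c8 LD2_c30 LD3_c45)) :=
  Lgr Lrot49 (Lpe (f188421 IH) (Lpe (K15.f257781 IH) (Lpe (K15.f32414 IH) (Lpr_gt (K14.f250062 IH) (Lpr_dt (K15.f259654 IH) (Lpr_gt (K15.f197024 IH) (Lpr_dt (K14.f759 IH) (Lpe (f197014 IH) (Lpe (f197015 IH) (Lpn (LP (LK LD1_c8 LD2_c30 LD3_c45))))))))))))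
theorem f273649 : Led Lsl_gt (LP (LK LD1_c8 LD2_c15 LD3_c18)) = (LP (LK LD1_c10 LD2_c44 LD3_c37)) :=
  Lgr Lrot150 (Lpr_cf (f273637 IH) (Lpe (f259662 IH) (Lpe (f188421 IH) (Lpr_gt (K14.f53549 IH) (Lpr_ct (K10.f48236 IH) (Lpr_gt (K10.f48192 IH) (Lpr_ct (K15.f48195 IH) (Lpe (K15.f48207 IH) (Lpr_cf (K15.f259363 IH) (Lpn (LP (LK LD1_c10 LD2_c44 LD3_c37))))))))))))
theorem f213084 : Led Lsl_et (LP (LK LD1_c5 LD2_c32 LD3_c16)) = (LP (LK LD1_c2 LD2_c42 LD3_c20)) :=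
  Lre_e IH (LK LD1_c5 LD2_c32 LD3_c16) (LK LD1_c2 LD2_c42 LD3_c20) Lrfl Lrfl
theorem f213053 : Led Lsl_et (LP (LK LD1_c2 LD2_c42 LD3_c20)) = (LP (LK LD1_c5 LD2_c32 LD3_c16)) :=
  Lre_e IH (LK LD1_c2 LD2_c42 LD3_c20) (LK LD1_c5 LD2_c32 LD3_c16) Lrfl Lrfl
theorem f213054 : Led Lsl_cf (LP (LK LD1_c5 LD2_c35 LD3_c11)) = (LP (LK LD1_c5 LD2_c32 LD3_c16)) :=
  Lgr Lrot39 (Lpr_et (K12.f212850 IH) (Lpr_ct (K12.f213041 IH) (Lpr_et (f213053 IH) (Lpn (LP (LK LD1_c5 LD2_c32 LD3_c16))))))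
theorem f32939 : Led Lsl_ct (LP (LK LD1_c5 LD2_c17 LD3_c28)) = (LP (LK LD1_c10 LD2_c24 LD3_c28)) :=
  Lre_c IH (LK LD1_c5 LD2_c17 LD3_c28) (LK LD1_c10 LD2_c24 LD3_c28) Lrfl Lrfl
theorem f213068 : Led Lsl_ft (LP (LK LD1_c10 LD2_c24 LD3_c28)) = (LP (LK LD1_c5 LD2_c32 LD3_c16)) :=
  Lgr Lrot4 (Lpe (f32939 IH) (Lpr_ff (K12.f212864 IH) (Lpr_cf (f213054 IH) (Lpn (LP (LK LD1_c5 LD2_c32 LD3_c16))))))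
theorem f187725 : Led Lsl_et (LP (LK LD1_c5 LD2_c17 LD3_c27)) = (LP (LK LD1_c10 LD2_c24 LD3_c28)) :=
  Lre_e IH (LK LD1_c5 LD2_c17 LD3_c27) (LK LD1_c10 LD2_c24 LD3_c28) Lrfl Lrfl
theorem f234993 : Led Lsl_ef (LP (LK LD1_c2 LD2_c35 LD3_c29)) = (LP (LK LD1_c4 LD2_c29 LD3_c25)) :=
  Lgr Lrot21 (Lpr_ft (K10.f187644 IH) (Lpr_et (f187725 IH) (Lpr_ft (f213068 IH) (Lpr_et (f213084 IH) (Lpr_ft (K15.f234984 IH) (Lpn (LP (LK LD1_c4 LD2_c29 LD3_c25))))))))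
theorem f218731 : Led Lsl_bt (LP (LK LD1_c8 LD2_c57 LD3_c1)) = (LP (LK LD1_c4 LD2_c29 LD3_c25)) :=
  Lre_b IH (LK LD1_c8 LD2_c57 LD3_c1) (LK LD1_c4 LD2_c29 LD3_c25) Lrfl Lrfl
theorem f234995 : Led Lsl_et (LP (LK LD1_c5 LD2_c17 LD3_c25)) = (LP (LK LD1_c8 LD2_c57 LD3_c1)) :=
  Lgr Lrot74 (Lpe (K11.f33026 IH) (Lpr_ef (f234993 IH) (Lpe (f218731 IH) (Lpn (LP (LK LD1_c8 LD2_c57 LD3_c1))))))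
theorem f235002 : Led Lsl_ef (LP (LK LD1_c5 LD2_c17 LD3_c25)) = (LP (LK LD1_c8 LD2_c57 LD3_c1)) :=
  Lgr Lrot88 (Lpr_et (f234995 IH) (Lpn (LP (LK LD1_c8 LD2_c57 LD3_c1))))
theorem f54205 : Led Lsl_ef (LP (LK LD1_c2 LD2_c7 LD3_c28)) = (LP (LK LD1_c2 LD2_c28 LD3_c4)) :=
  Lgr Lrot88 (Lpr_et (K12.f54200 IH) (Lpn (LP (LK LD1_c2 LD2_c28 LD3_c4))))
theorem f32996 : Led Lsl_bt (LP (LK LD1_c2 LD2_c7 LD3_c28)) = (LP (LK LD1_c4 LD2_c19 LD3_c60)) :=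
  Lre_b IH (LK LD1_c2 LD2_c7 LD3_c28) (LK LD1_c4 LD2_c19 LD3_c60) Lrfl Lrfl
theorem f53671 : Led Lsl_bt (LP (LK LD1_c5 LD2_c0 LD3_c39)) = (LP (LK LD1_c2 LD2_c28 LD3_c4)) :=
  Lre_b IH (LK LD1_c5 LD2_c0 LD3_c39) (LK LD1_c2 LD2_c28 LD3_c4) Lrfl Lrfl
theorem f54212 : Led Lsl_et (LP (LK LD1_c4 LD2_c19 LD3_c60)) = (LP (LK LD1_c5 LD2_c0 LD3_c39)) :=
  Lgr Lrot74 (Lpe (f32996 IH) (Lpr_ef (f54205 IH) (Lpe (f53671 IH) (Lpn (LP (LK LD1_c5 LD2_c0 LD3_c39))))))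
theorem f235011 : Led Lsl_ct (LP (LK LD1_c5 LD2_c0 LD3_c39)) = (LP (LK LD1_c8 LD2_c57 LD3_c1)) :=
  Lgr Lrot15 (Lpe (f54212 IH) (Lpe (K11.f32997 IH) (Lpr_ef (f235002 IH) (Lpn (LP (LK LD1_c8 LD2_c57 LD3_c1))))))
theorem f53672 : Led Lsl_at (LP (LK LD1_c9 LD2_c51 LD3_c37)) = (LP (LK LD1_c5 LD2_c0 LD3_c39)) :=
  Lre_a IH (LK LD1_c9 LD2_c51 LD3_c37) (LK LD1_c5 LD2_c0 LD3_c39) Lrfl Lrfl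
theorem f234997 : Led Lsl_at (LP (LK LD1_c8 LD2_c57 LD3_c1)) = (LP (LK LD1_c16 LD2_c45 LD3_c29)) :=
  Lre_a IH (LK LD1_c8 LD2_c57 LD3_c1) (LK LD1_c16 LD2_c45 LD3_c29) Lrfl Lrfl
theorem f235016 : Led Lsl_cf (LP (LK LD1_c9 LD2_c51 LD3_c37)) = (LP (LK LD1_c16 LD2_c45 LD3_c29)) :=
  Lgr Lrot1 (Lpr_at (f53672 IH) (Lpr_ct (f235011 IH) (Lpr_at (f234997 IH) (Lpn (LP (LK LD1_c16 LD2_c45 LD3_c29))))))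
theorem f53719 : Led Lsl_bt (LP (LK LD1_c2 LD2_c28 LD3_c4)) = (LP (LK LD1_c5 LD2_c0 LD3_c39)) :=
  Lre_b IH (LK LD1_c2 LD2_c28 LD3_c4) (LK LD1_c5 LD2_c0 LD3_c39) Lrfl Lrfl
theorem f212944 : Led Lsl_bt (LP (LK LD1_c5 LD2_c35 LD3_c14)) = (LP (LK LD1_c2 LD2_c43 LD3_c33)) :=
  Lre_b IH (LK LD1_c5 LD2_c35 LD3_c14) (LK LD1_c2 LD2_c43 LD3_c33) Lrfl Lrfl
theorem f212945 : Led Lsl_ft (LP (LK LD1_c5 LD2_c0 LD3_c39)) = (LP (LK LD1_c5 LD2_c35 LD3_c14)) :=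
  Lgr Lrot75 (Lpe (f53719 IH) (Lpr_ff (K12.f212935 IH) (Lpe (f212944 IH) (Lpn (LP (LK LD1_c5 LD2_c35 LD3_c14))))))
theorem f213136 : Led Lsl_at (LP (LK LD1_c5 LD2_c35 LD3_c14)) = (LP (LK LD1_c11 LD2_c2 LD3_c37)) :=
  Lre_a IH (LK LD1_c5 LD2_c35 LD3_c14) (LK LD1_c11 LD2_c2 LD3_c37) Lrfl Lrfl
theorem f213416 : Led Lsl_ff (LP (LK LD1_c9 LD2_c51 LD3_c37)) = (LP (LK LD1_c11 LD2_c2 LD3_c37)) :=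
  Lgr Lrot30 (Lpr_at (f53672 IH) (Lpr_ft (f212945 IH) (Lpr_at (f213136 IH) (Lpn (LP (LK LD1_c11 LD2_c2 LD3_c37))))))
theorem f213426 : Led Lsl_ft (LP (LK LD1_c9 LD2_c51 LD3_c37)) = (LP (LK LD1_c11 LD2_c2 LD3_c37)) :=
  Lgr Lrot48 (Lpr_ff (f213416 IH) (Lpn (LP (LK LD1_c11 LD2_c2 LD3_c37))))
theorem f213115 : Led Lsl_at (LP (LK LD1_c11 LD2_c2 LD3_c37)) = (LP (LK LD1_c5 LD2_c35 LD3_c14)) :=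
  Lre_a IH (LK LD1_c11 LD2_c2 LD3_c37) (LK LD1_c5 LD2_c35 LD3_c14) Lrfl Lrfl
theorem f213120 : Led Lsl_gt (LP (LK LD1_c11 LD2_c2 LD3_c36)) = (LP (LK LD1_c5 LD2_c35 LD3_c14)) :=
  Lre_g IH (LK LD1_c11 LD2_c2 LD3_c36) (LK LD1_c5 LD2_c35 LD3_c14) Lrfl Lrfl
theorem f213435 : Led Lsl_gt (LP (LK LD1_c9 LD2_c51 LD3_c37)) = (LP (LK LD1_c11 LD2_c2 LD3_c36)) :=
  Lgr Lrot5 (Lpr_ft (f213426 IH) (Lpr_at (f213115 IH) (Lpe (f213120 IH) (Lpn (LP (LK LD1_c11 LD2_c2 LD3_c36))))))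
theorem f213046 : Led Lsl_bt (LP (LK LD1_c2 LD2_c42 LD3_c20)) = (LP (LK LD1_c5 LD2_c32 LD3_c15)) :=
  Lre_b IH (LK LD1_c2 LD2_c42 LD3_c20) (LK LD1_c5 LD2_c32 LD3_c15) Lrfl Lrfl
theorem f213047 : Led Lsl_cf (LP (LK LD1_c5 LD2_c35 LD3_c14)) = (LP (LK LD1_c5 LD2_c32 LD3_c15)) :=
  Lgr Lrot97 (Lpr_bt (f212944 IH) (Lpr_ct (K12.f199516 IH) (Lpr_bt (K12.f212868 IH) (Lpr_ct (K12.f213041 IH) (Lpr_bt (f213046 IH) (Lpn (LP (LK LD1_c5 LD2_c32 LD3_c15))))))))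
theorem f196402 : Led Lsl_bt (LP (LK LD1_c5 LD2_c32 LD3_c15)) = (LP (LK LD1_c2 LD2_c42 LD3_c20)) :=
  Lre_b IH (LK LD1_c5 LD2_c32 LD3_c15) (LK LD1_c2 LD2_c42 LD3_c20) Lrfl Lrfl
theorem f50182 : Led Lsl_bt (LP (LK LD1_c1 LD2_c58 LD3_c27)) = (LP (LK LD1_c4 LD2_c2 LD3_c53)) :=
  Lre_b IH (LK LD1_c1 LD2_c58 LD3_c27) (LK LD1_c4 LD2_c2 LD3_c53) Lrfl Lrfl
theorem f50287 : Led Lsl_gt (LP (LK LD1_c4 LD2_c2 LD3_c53)) = (LP (LK LD1_c8 LD2_c6 LD3_c20)) :=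
  Lre_g IH (LK LD1_c4 LD2_c2 LD3_c53) (LK LD1_c8 LD2_c6 LD3_c20) Lrfl Lrfl
theorem f196401 : Led Lsl_bt (LP (LK LD1_c15 LD2_c15 LD3_c40)) = (LP (LK LD1_c8 LD2_c6 LD3_c20)) :=
  Lre_b IH (LK LD1_c15 LD2_c15 LD3_c40) (LK LD1_c8 LD2_c6 LD3_c20) Lrfl Lrfl
theorem f213387 : Led Lsl_cf (LP (LK LD1_c11 LD2_c2 LD3_c36)) = (LP (LK LD1_c15 LD2_c15 LD3_c40)) :=
  Lgr Lrot160 (Lpr_gt (f213120 IH) (Lpr_cf (f213047 IH) (Lpr_bt (f196402 IH) (Lpr_gt (K12.f196395 IH) (Lpr_ct (K12.f168168 IH) (Lpe (K10.f196391 IH) (Lpe (K13.f50186 IH) (Lpr_bt (f50182 IH) (Lpr_gt (f50287 IH) (Lpe (f196401 IH) (Lpn (LP (LK LD1_c15 LD2_c15 LD3_c40)))))))))))))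
theorem f52497 : Led Lsl_gt (LP (LK LD1_c8 LD2_c6 LD3_c20)) = (LP (LK LD1_c15 LD2_c15 LD3_c38)) :=
  Lre_g IH (LK LD1_c8 LD2_c6 LD3_c20) (LK LD1_c15 LD2_c15 LD3_c38) Lrfl Lrfl
theorem f52495 : Led Lsl_ct (LP (LK LD1_c15 LD2_c15 LD3_c38)) = (LP (LK LD1_c8 LD2_c9 LD3_c5)) :=
  Lre_c IH (LK LD1_c15 LD2_c15 LD3_c38) (LK LD1_c8 LD2_c9 LD3_c5) Lrfl Lrfl
theorem f52471 : Led Lsl_gt (LP (LK LD1_c8 LD2_c9 LD3_c5)) = (LP (LK LD1_c4 LD2_c4 LD3_c12)) :=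
  Lre_g IH (LK LD1_c8 LD2_c9 LD3_c5) (LK LD1_c4 LD2_c4 LD3_c12) Lrfl Lrfl
theorem f213399 : Led Lsl_bt (LP (LK LD1_c8 LD2_c9 LD3_c13)) = (LP (LK LD1_c15 LD2_c21 LD3_c20)) :=
  Lre_b IH (LK LD1_c8 LD2_c9 LD3_c13) (LK LD1_c15 LD2_c21 LD3_c20) Lrfl Lrfl
theorem f222464 : Led Lsl_bt (LP (LK LD1_c4 LD2_c29 LD3_c24)) = (LP (LK LD1_c8 LD2_c56 LD3_c61)) :=
  Lre_b IH (LK LD1_c4 LD2_c29 LD3_c24) (LK LD1_c8 LD2_c56 LD3_c61) Lrfl Lrfl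
theorem f233895 : Led Lsl_gt (LP (LK LD1_c8 LD2_c56 LD3_c61)) = (LP (LK LD1_c15 LD2_c21 LD3_c20)) :=
  Lgr Lrot164 (Lpe (f222464 IH) (Lpe (K13.f222219 IH) (Lpr_gf (K13.f222461 IH) (Lpr_cf (K13.f233891 IH) (Lpe (K13.f50200 IH) (Lpe (K13.f50156 IH) (Lpr_ct (K9.f50281 IH) (Lpe (K13.f196464 IH) (Lpe (K13.f196463 IH) (Lpr_bt (f213399 IH) (Lpn (LP (LK LD1_c15 LD2_c21 LD3_c20)))))))))))))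
theorem f216935 : Led Lsl_bt (LP (LK LD1_c5 LD2_c32 LD3_c14)) = (LP (LK LD1_c2 LD2_c42 LD3_c19)) :=
  Lre_b IH (LK LD1_c5 LD2_c32 LD3_c14) (LK LD1_c2 LD2_c42 LD3_c19) Lrfl Lrfl
theorem f222487 : Led Lsl_ff (LP (LK LD1_c5 LD2_c32 LD3_c14)) = (LP (LK LD1_c8 LD2_c56 LD3_c61)) :=
  Lgr Lrot25 (Lpr_bt (f216935 IH) (Lpr_ft (K12.f222485 IH) (Lpr_bt (f222464 IH) (Lpn (LP (LK LD1_c8 LD2_c56 LD3_c61))))))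
theorem f233898 : Led Lsl_at (LP (LK LD1_c5 LD2_c32 LD3_c14)) = (LP (LK LD1_c10 LD2_c56 LD3_c7)) :=
  Lre_a IH (LK LD1_c5 LD2_c32 LD3_c14) (LK LD1_c10 LD2_c56 LD3_c7) Lrfl Lrfl
theorem f233899 : Led Lsl_gf (LP (LK LD1_c10 LD2_c56 LD3_c7)) = (LP (LK LD1_c15 LD2_c21 LD3_c20)) :=
  Lgr Lrot76 (Lpe (f233898 IH) (Lpr_ff (f222487 IH) (Lpr_gt (f233895 IH) (Lpn (LP (LK LD1_c15 LD2_c21 LD3_c20))))))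
theorem f235022 : Led Lsl_bf (LP (LK LD1_c10 LD2_c56 LD3_c7)) = (LP (LK LD1_c16 LD2_c45 LD3_c29)) :=
  Lgr Lrot34 (Lpr_gf (f233899 IH) (Lpe (f213399 IH) (Lpr_ct (K13.f196463 IH) (Lpe (f52471 IH) (Lpe (f52495 IH) (Lpe (f52497 IH) (Lpe (f196401 IH) (Lpe (f213387 IH) (Lpe (f213435 IH) (Lpr_cf (f235016 IH) (Lpn (LP (LK LD1_c16 LD2_c45 LD3_c29)))))))))))))
theorem f32991 : Led Lsl_at (LP (LK LD1_c5 LD2_c17 LD3_c25)) = (LP (LK LD1_c10 LD2_c24 LD3_c24)) :=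
  Lre_a IH (LK LD1_c5 LD2_c17 LD3_c25) (LK LD1_c10 LD2_c24 LD3_c24) Lrfl Lrfl
theorem f235008 : Led Lsl_at (LP (LK LD1_c16 LD2_c45 LD3_c29)) = (LP (LK LD1_c8 LD2_c57 LD3_c1)) :=
  Lre_a IH (LK LD1_c16 LD2_c45 LD3_c29) (LK LD1_c8 LD2_c57 LD3_c1) Lrfl Lrfl
theorem f235009 : Led Lsl_et (LP (LK LD1_c10 LD2_c24 LD3_c24)) = (LP (LK LD1_c16 LD2_c45 LD3_c29)) :=
  Lgr Lrot123 (Lpe (f32991 IH) (Lpr_ef (f235002 IH) (Lpe (f235008 IH) (Lpn (LP (LK LD1_c16 LD2_c45 LD3_c29))))))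
theorem f33071 : Led Lsl_bt (LP (LK LD1_c18 LD2_c51 LD3_c29)) = (LP (LK LD1_c10 LD2_c24 LD3_c24)) :=
  Lre_b IH (LK LD1_c18 LD2_c51 LD3_c29) (LK LD1_c10 LD2_c24 LD3_c24) Lrfl Lrfl
theorem f235027 : Led Lsl_et (LP (LK LD1_c10 LD2_c56 LD3_c7)) = (LP (LK LD1_c18 LD2_c51 LD3_c29)) :=
  Lgr Lrot74 (Lpr_bf (f235022 IH) (Lpe (f235009 IH) (Lpe (f33071 IH) (Lpn (LP (LK LD1_c18 LD2_c51 LD3_c29))))))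
theorem f187760 : Led Lsl_at (LP (LK LD1_c18 LD2_c51 LD3_c29)) = (LP (LK LD1_c10 LD2_c23 LD3_c37)) :=
  Lre_a IH (LK LD1_c18 LD2_c51 LD3_c29) (LK LD1_c10 LD2_c23 LD3_c37) Lrfl Lrfl
theorem f235046 : Led Lsl_ef (LP (LK LD1_c5 LD2_c32 LD3_c14)) = (LP (LK LD1_c10 LD2_c23 LD3_c37)) :=
  Lgr Lrot20 (Lpr_at (f233898 IH) (Lpr_et (f235027 IH) (Lpr_at (f187760 IH) (Lpn (LP (LK LD1_c10 LD2_c23 LD3_c37))))))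
theorem f54062 : Led Lsl_bt (LP (LK LD1_c5 LD2_c16 LD3_c61)) = (LP (LK LD1_c10 LD2_c23 LD3_c37)) :=
  Lre_b IH (LK LD1_c5 LD2_c16 LD3_c61) (LK LD1_c10 LD2_c23 LD3_c37) Lrfl Lrfl
theorem f235054 : Led Lsl_et (LP (LK LD1_c2 LD2_c42 LD3_c19)) = (LP (LK LD1_c5 LD2_c16 LD3_c61)) :=
  Lgr Lrot74 (Lpe (f216935 IH) (Lpr_ef (f235046 IH) (Lpe (f54062 IH) (Lpn (LP (LK LD1_c5 LD2_c16 LD3_c61))))))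
theorem f216986 : Led Lsl_et (LP (LK LD1_c1 LD2_c17 LD3_c19)) = (LP (LK LD1_c2 LD2_c41 LD3_c20)) :=
  Lre_e IH (LK LD1_c1 LD2_c17 LD3_c19) (LK LD1_c2 LD2_c41 LD3_c20) Lrfl Lrfl
theorem f222522 : Led Lsl_gt (LP (LK LD1_c5 LD2_c30 LD3_c7)) = (LP (LK LD1_c2 LD2_c41 LD3_c20)) :=
  Lre_g IH (LK LD1_c5 LD2_c30 LD3_c7) (LK LD1_c2 LD2_c41 LD3_c20) Lrfl Lrfl
theorem f273661 : Led Lsl_ef (LP (LK LD1_c5 LD2_c30 LD3_c7)) = (LP (LK LD1_c6 LD2_c5 LD3_c29)) :=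
  Lgr Lrot114 (Lpr_gt (f222522 IH) (Lpe (f216986 IH) (Lpr_dt (K12.f216985 IH) (Lpr_gt (K12.f217004 IH) (Lpe (K12.f222502 IH) (Lpr_et (f235054 IH) (Lpr_gt (f231578 IH) (Lpr_dt (f191335 IH) (Lpr_gt (f273649 IH) (Lpe (K15.f259333 IH) (Lpn (LP (LK LD1_c6 LD2_c5 LD3_c29)))))))))))))
theorem f273680 : Led Lsl_et (LP (LK LD1_c5 LD2_c30 LD3_c7)) = (LP (LK LD1_c6 LD2_c5 LD3_c29)) :=
  Lgr Lrot87 (Lpr_ef (f273661 IH) (Lpn (LP (LK LD1_c6 LD2_c5 LD3_c29))))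
theorem f263565 : Led Lsl_et (LP (LK LD1_c8 LD2_c18 LD3_c9)) = (LP (LK LD1_c15 LD2_c36 LD3_c49)) :=
  Lre_e IH (LK LD1_c8 LD2_c18 LD3_c9) (LK LD1_c15 LD2_c36 LD3_c49) Lrfl Lrfl
theorem f263590 : Led Lsl_ef (LP (LK LD1_c9 LD2_c37 LD3_c44)) = (LP (LK LD1_c5 LD2_c17 LD3_c14)) :=
  Lgr Lrot21 (Lpr_ft (K15.f263584 IH) (Lpr_et (f263565 IH) (Lpe (K15.f263570 IH) (Lpr_et (K14.f183702 IH) (Lpr_ft (K15.f257864 IH) (Lpn (LP (LK LD1_c5 LD2_c17 LD3_c14))))))))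
theorem f273689 : Led Lsl_cf (LP (LK LD1_c5 LD2_c30 LD3_c7)) = (LP (LK LD1_c9 LD2_c37 LD3_c44)) :=
  Lgr Lrot39 (Lpr_et (f273680 IH) (Lpr_ct (K15.f257816 IH) (Lpe (f263590 IH) (Lpn (LP (LK LD1_c9 LD2_c37 LD3_c44))))))
theorem f264126 : Led Lsl_af (LP (LK LD1_c6 LD2_c5 LD3_c29)) = (LP (LK LD1_c5 LD2_c26 LD3_c7)) :=
  Lgr Lrot0 (Lpr_at (K15.f264124 IH) (Lpn (LP (LK LD1_c5 LD2_c26 LD3_c7))))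
theorem f264108 : Led Lsl_et (LP (LK LD1_c10 LD2_c43 LD3_c33)) = (LP (LK LD1_c5 LD2_c26 LD3_c7)) :=
  Lre_e IH (LK LD1_c10 LD2_c43 LD3_c33) (LK LD1_c5 LD2_c26 LD3_c7) Lrfl Lrfl
theorem f273672 : Led Lsl_at (LP (LK LD1_c5 LD2_c30 LD3_c7)) = (LP (LK LD1_c10 LD2_c43 LD3_c33)) :=
  Lgr Lrot80 (Lpr_ef (f273661 IH) (Lpr_af (f264126 IH) (Lpe (f264108 IH) (Lpn (LP (LK LD1_c10 LD2_c43 LD3_c33))))))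
theorem f170357 : Led Lsl_dt (LP (LK LD1_c9 LD2_c37 LD3_c44)) = (LP (LK LD1_c4 LD2_c52 LD3_c54)) :=
  Lre_d IH (LK LD1_c9 LD2_c37 LD3_c44) (LK LD1_c4 LD2_c52 LD3_c54) Lrfl Lrfl
theorem f190846 : Led Lsl_et (LP (LK LD1_c8 LD2_c18 LD3_c11)) = (LP (LK LD1_c4 LD2_c9 LD3_c5)) :=
  Lre_e IH (LK LD1_c8 LD2_c18 LD3_c11) (LK LD1_c4 LD2_c9 LD3_c5) Lrfl Lrfl
theorem f190847 : Led Lsl_dt (LP (LK LD1_c8 LD2_c18 LD3_c11)) = (LP (LK LD1_c4 LD2_c9 LD3_c3)) :=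
  Lre_d IH (LK LD1_c8 LD2_c18 LD3_c11) (LK LD1_c4 LD2_c9 LD3_c3) Lrfl Lrfl
theorem f190833 : Led Lsl_gt (LP (LK LD1_c8 LD2_c18 LD3_c10)) = (LP (LK LD1_c4 LD2_c9 LD3_c3)) :=
  Lre_g IH (LK LD1_c8 LD2_c18 LD3_c10) (LK LD1_c4 LD2_c9 LD3_c3) Lrfl Lrfl
theorem f44923 : Led Lsl_et (LP (LK LD1_c2 LD2_c34 LD3_c16)) = (LP (LK LD1_c2 LD2_c35 LD3_c20)) :=
  Lgr Lrot71 (Lpe (K10.f33432 IH) (Lpe (K12.f33506 IH) (Lpr_df (K1.f44916 IH) (Lpe (K12.f32136 IH) (Lpe (K10.f44922 IH) (Lpn (LP (LK LD1_c2 LD2_c35 LD3_c20))))))))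
theorem f251793 : Led Lsl_df (LP (LK LD1_c8 LD2_c18 LD3_c10)) = (LP (LK LD1_c8 LD2_c19 LD3_c26)) :=
  Lgr Lrot170 (Lpr_gt (f190833 IH) (Lpe (f190847 IH) (Lpr_et (f190846 IH) (Lpr_gt (K14.f251780 IH) (Lpr_dt (K13.f167321 IH) (Lpr_gt (K12.f188894 IH) (Lpe (K12.f33446 IH) (Lpr_et (f44923 IH) (Lpr_gt (K12.f220608 IH) (Lpe (K15.f221811 IH) (Lpn (LP (LK LD1_c8 LD2_c19 LD3_c26)))))))))))))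
theorem f258494 : Led Lsl_af (LP (LK LD1_c9 LD2_c37 LD3_c44)) = (LP (LK LD1_c8 LD2_c18 LD3_c10)) :=
  Lgr Lrot117 (Lpr_dt (f170357 IH) (Lpr_at (K15.f258487 IH) (Lpe (f251793 IH) (Lpn (LP (LK LD1_c8 LD2_c18 LD3_c10))))))
theorem f273692 : Led Lsl_ct (LP (LK LD1_c10 LD2_c43 LD3_c33)) = (LP (LK LD1_c8 LD2_c18 LD3_c10)) :=
  Lgr Lrot111 (Lpe (f273672 IH) (Lpr_cf (f273689 IH) (Lpr_af (f258494 IH) (Lpn (LP (LK LD1_c8 LD2_c18 LD3_c10))))))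
theorem f264095 : Led Lsl_et (LP (LK LD1_c5 LD2_c26 LD3_c7)) = (LP (LK LD1_c10 LD2_c43 LD3_c33)) :=
  Lre_e IH (LK LD1_c5 LD2_c26 LD3_c7) (LK LD1_c10 LD2_c43 LD3_c33) Lrfl Lrfl
theorem f273867 : Led Lsl_ef (LP (LK LD1_c8 LD2_c13 LD3_c28)) = (LP (LK LD1_c8 LD2_c18 LD3_c10)) :=
  Lgr Lrot28 (Lpr_ct (K15.f264088 IH) (Lpr_et (f264095 IH) (Lpr_ct (f273692 IH) (Lpn (LP (LK LD1_c8 LD2_c18 LD3_c10))))))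
theorem f273877 : Led Lsl_et (LP (LK LD1_c8 LD2_c13 LD3_c28)) = (LP (LK LD1_c8 LD2_c18 LD3_c10)) :=
  Lgr Lrot87 (Lpr_ef (f273867 IH) (Lpn (LP (LK LD1_c8 LD2_c18 LD3_c10))))
theorem f223954 : Led Lsl_et (LP (LK LD1_c15 LD2_c24 LD3_c29)) = (LP (LK LD1_c8 LD2_c11 LD3_c0)) :=
  Lre_e IH (LK LD1_c15 LD2_c24 LD3_c29) (LK LD1_c8 LD2_c11 LD3_c0) Lrfl Lrfl
theorem f273879 : Led Lsl_bf (LP (LK LD1_c15 LD2_c24 LD3_c29)) = (LP (LK LD1_c8 LD2_c18 LD3_c10)) :=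
  Lgr Lrot96 (Lpr_et (f223954 IH) (Lpe (K15.f264077 IH) (Lpr_et (f273877 IH) (Lpn (LP (LK LD1_c8 LD2_c18 LD3_c10))))))
theorem f223725 : Led Lsl_bt (LP (LK LD1_c8 LD2_c9 LD3_c59)) = (LP (LK LD1_c4 LD2_c4 LD3_c32)) :=
  Lre_b IH (LK LD1_c8 LD2_c9 LD3_c59) (LK LD1_c4 LD2_c4 LD3_c32) Lrfl Lrfl
theorem f239468 : Led Lsl_ft (LP (LK LD1_c5 LD2_c8 LD3_c47)) = (LP (LK LD1_c8 LD2_c9 LD3_c59)) :=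
  Lgr Lrot75 (Lpe (K13.f191111 IH) (Lpr_ff (K13.f239466 IH) (Lpe (f223725 IH) (Lpn (LP (LK LD1_c8 LD2_c9 LD3_c59))))))
theorem f264065 : Led Lsl_at (LP (LK LD1_c8 LD2_c9 LD3_c59)) = (LP (LK LD1_c8 LD2_c11 LD3_c0)) :=
  Lgr Lrot26 (Lpe (f239468 IH) (Lpr_gt (K14.f251603 IH) (Lpr_gt (K15.f264063 IH) (Lpn (LP (LK LD1_c8 LD2_c11 LD3_c0))))))
theorem f264079 : Led Lsl_at (LP (LK LD1_c8 LD2_c13 LD3_c28)) = (LP (LK LD1_c5 LD2_c17 LD3_c14)) :=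
  Lgr Lrot67 (Lpr_bf (K15.f264077 IH) (Lpe (f264065 IH) (Lpe (K14.f239460 IH) (Lpe (K13.f239456 IH) (Lpr_bf (K15.f257843 IH) (Lpn (LP (LK LD1_c5 LD2_c17 LD3_c14))))))))
theorem f273873 : Led Lsl_at (LP (LK LD1_c9 LD2_c37 LD3_c44)) = (LP (LK LD1_c8 LD2_c18 LD3_c10)) :=
  Lgr Lrot80 (Lpr_ef (f263590 IH) (Lpe (f264079 IH) (Lpr_ef (f273867 IH) (Lpn (LP (LK LD1_c8 LD2_c18 LD3_c10))))))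
theorem f247033 : Led Lsl_ef (LP (LK LD1_c10 LD2_c8 LD3_c12)) = (LP (LK LD1_c8 LD2_c10 LD3_c3)) :=
  Lgr Lrot88 (Lpr_et (K14.f247024 IH) (Lpn (LP (LK LD1_c8 LD2_c10 LD3_c3))))
theorem f247035 : Led Lsl_at (LP (LK LD1_c4 LD2_c31 LD3_c28)) = (LP (LK LD1_c8 LD2_c10 LD3_c3)) :=
  Lgr Lrot80 (Lpe (K13.f235326 IH) (Lpr_af (K13.f239849 IH) (Lpr_ef (f247033 IH) (Lpn (LP (LK LD1_c8 LD2_c10 LD3_c3))))))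
theorem f247064 : Led Lsl_at (LP (LK LD1_c4 LD2_c31 LD3_c29)) = (LP (LK LD1_c4 LD2_c52 LD3_c57)) :=
  Lgr Lrot66 (Lpr_ff (K14.f247062 IH) (Lpe (f247035 IH) (Lpr_ff (K15.f239851 IH) (Lpn (LP (LK LD1_c4 LD2_c52 LD3_c57))))))
theorem f212617 : Led Lsl_bt (LP (LK LD1_c9 LD2_c0 LD3_c59)) = (LP (LK LD1_c4 LD2_c31 LD3_c29)) :=
  Lre_b IH (LK LD1_c9 LD2_c0 LD3_c59) (LK LD1_c4 LD2_c31 LD3_c29) Lrfl Lrfl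
theorem f273881 : Led Lsl_at (LP (LK LD1_c15 LD2_c24 LD3_c29)) = (LP (LK LD1_c9 LD2_c0 LD3_c59)) :=
  Lgr Lrot67 (Lpr_bf (f273879 IH) (Lpe (f273873 IH) (Lpe (K15.f239865 IH) (Lpe (f247064 IH) (Lpe (f212617 IH) (Lpn (LP (LK LD1_c9 LD2_c0 LD3_c59))))))))
theorem f247066 : Led Lsl_bt (LP (LK LD1_c4 LD2_c31 LD3_c29)) = (LP (LK LD1_c9 LD2_c0 LD3_c59)) :=
  Lre_b IH (LK LD1_c4 LD2_c31 LD3_c29) (LK LD1_c9 LD2_c0 LD3_c59) Lrfl Lrfl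
theorem f247038 : Led Lsl_bt (LP (LK LD1_c15 LD2_c22 LD3_c56)) = (LP (LK LD1_c8 LD2_c10 LD3_c3)) :=
  Lre_b IH (LK LD1_c15 LD2_c22 LD3_c56) (LK LD1_c8 LD2_c10 LD3_c3) Lrfl Lrfl
theorem f247067 : Led Lsl_ft (LP (LK LD1_c9 LD2_c0 LD3_c59)) = (LP (LK LD1_c15 LD2_c22 LD3_c56)) :=
  Lgr Lrot75 (Lpe (f247066 IH) (Lpr_ff (K14.f247062 IH) (Lpe (f247038 IH) (Lpn (LP (LK LD1_c15 LD2_c22 LD3_c56))))))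
theorem f167422 : Led Lsl_bt (LP (LK LD1_c0 LD2_c59 LD3_c13)) = (LP (LK LD1_c2 LD2_c4 LD3_c24)) :=
  Lre_b IH (LK LD1_c0 LD2_c59 LD3_c13) (LK LD1_c2 LD2_c4 LD3_c24) Lrfl Lrfl
theorem f260918 : Led Lsl_gf (LP (LK LD1_c1 LD2_c59 LD3_c37)) = (LP (LK LD1_c2 LD2_c4 LD3_c24)) :=
  Lgr Lrot181 (Lpr_ct (K10.f44499 IH) (Lpr_gt (K15.f260908 IH) (Lpe (K15.f256788 IH) (Lpr_bt (K15.f231243 IH) (Lpe (K15.f231235 IH) (Lpe (K11.f201076 IH) (Lpr_ct (K11.f188601 IH) (Lpe (K10.f188736 IH) (Lpe (K12.f167320 IH) (Lpr_bt (f167422 IH) (Lpn (LP (LK LD1_c2 LD2_c4 LD3_c24)))))))))))))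
theorem f247073 : Led Lsl_ef (LP (LK LD1_c9 LD2_c0 LD3_c59)) = (LP (LK LD1_c8 LD2_c9 LD3_c59)) :=
  Lgr Lrot29 (Lpr_bt (f212617 IH) (Lpr_et (K14.f247071 IH) (Lpr_bt (K14.f239460 IH) (Lpn (LP (LK LD1_c8 LD2_c9 LD3_c59))))))
theorem f260935 : Led Lsl_dt (LP (LK LD1_c4 LD2_c14 LD3_c2)) = (LP (LK LD1_c2 LD2_c4 LD3_c24)) :=
  Lre_d IH (LK LD1_c4 LD2_c14 LD3_c2) (LK LD1_c2 LD2_c4 LD3_c24) Lrfl Lrfl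
theorem f260940 : Led Lsl_et (LP (LK LD1_c4 LD2_c14 LD3_c2)) = (LP (LK LD1_c8 LD2_c26 LD3_c41)) :=
  Lre_e IH (LK LD1_c4 LD2_c14 LD3_c2) (LK LD1_c8 LD2_c26 LD3_c41) Lrfl Lrfl
theorem f260941 : Led Lsl_gt (LP (LK LD1_c9 LD2_c0 LD3_c59)) = (LP (LK LD1_c8 LD2_c26 LD3_c41)) :=
  Lgr Lrot131 (Lpr_ef (f247073 IH) (Lpr_dt (K15.f223728 IH) (Lpe (K14.f256086 IH) (Lpr_df (K15.f256084 IH) (Lpe (K10.f191100 IH) (Lpe (K9.f47791 IH) (Lpr_dt (K9.f53633 IH) (Lpr_gf (f260918 IH) (Lpe (f260935 IH) (Lpr_et (f260940 IH) (Lpn (LP (LK LD1_c8 LD2_c26 LD3_c41)))))))))))))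
theorem f260943 : Led Lsl_gt (LP (LK LD1_c8 LD2_c26 LD3_c41)) = (LP (LK LD1_c15 LD2_c51 LD3_c26)) :=
  Lre_g IH (LK LD1_c8 LD2_c26 LD3_c41) (LK LD1_c15 LD2_c51 LD3_c26) Lrfl Lrfl
theorem f260944 : Led Lsl_at (LP (LK LD1_c15 LD2_c22 LD3_c56)) = (LP (LK LD1_c15 LD2_c51 LD3_c26)) :=
  Lgr Lrot26 (Lpe (f247067 IH) (Lpr_gt (f260941 IH) (Lpr_gt (f260943 IH) (Lpn (LP (LK LD1_c15 LD2_c51 LD3_c26))))))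
theorem f273887 : Led Lsl_ff (LP (LK LD1_c15 LD2_c24 LD3_c29)) = (LP (LK LD1_c15 LD2_c51 LD3_c26)) :=
  Lgr Lrot30 (Lpr_at (f273881 IH) (Lpr_ft (f247067 IH) (Lpr_at (f260944 IH) (Lpn (LP (LK LD1_c15 LD2_c51 LD3_c26))))))
theorem f273889 : Led Lsl_ft (LP (LK LD1_c15 LD2_c24 LD3_c29)) = (LP (LK LD1_c15 LD2_c51 LD3_c26)) :=
  Lgr Lrot48 (Lpr_ff (f273887 IH) (Lpn (LP (LK LD1_c15 LD2_c51 LD3_c26))))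
theorem f264056 : Led Lsl_et (LP (LK LD1_c8 LD2_c11 LD3_c0)) = (LP (LK LD1_c15 LD2_c24 LD3_c29)) :=
  Lre_e IH (LK LD1_c8 LD2_c11 LD3_c0) (LK LD1_c15 LD2_c24 LD3_c29) Lrfl Lrfl
theorem f247037 : Led Lsl_bt (LP (LK LD1_c10 LD2_c8 LD3_c12)) = (LP (LK LD1_c18 LD2_c27 LD3_c21)) :=
  Lre_b IH (LK LD1_c10 LD2_c8 LD3_c12) (LK LD1_c18 LD2_c27 LD3_c21) Lrfl Lrfl
theorem f247039 : Led Lsl_et (LP (LK LD1_c18 LD2_c27 LD3_c21)) = (LP (LK LD1_c15 LD2_c22 LD3_c56)) :=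
  Lgr Lrot74 (Lpe (f247037 IH) (Lpr_ef (f247033 IH) (Lpe (f247038 IH) (Lpn (LP (LK LD1_c15 LD2_c22 LD3_c56))))))
theorem f252163 : Led Lsl_af (LP (LK LD1_c18 LD2_c27 LD3_c21)) = (LP (LK LD1_c25 LD2_c19 LD3_c39)) :=
  Lgr Lrot0 (Lpr_at (K14.f252161 IH) (Lpn (LP (LK LD1_c25 LD2_c19 LD3_c39))))
theorem f260951 : Led Lsl_ef (LP (LK LD1_c25 LD2_c19 LD3_c39)) = (LP (LK LD1_c15 LD2_c51 LD3_c26)) :=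
  Lgr Lrot20 (Lpe (f252163 IH) (Lpr_et (f247039 IH) (Lpr_at (f260944 IH) (Lpn (LP (LK LD1_c15 LD2_c51 LD3_c26))))))
theorem f192292 : Led Lsl_et (LP (LK LD1_c15 LD2_c27 LD3_c46)) = (LP (LK LD1_c8 LD2_c13 LD3_c14)) :=
  Lre_e IH (LK LD1_c15 LD2_c27 LD3_c46) (LK LD1_c8 LD2_c13 LD3_c14) Lrfl Lrfl
theorem f273891 : Led Lsl_ff (LP (LK LD1_c8 LD2_c11 LD3_c0)) = (LP (LK LD1_c8 LD2_c13 LD3_c14)) :=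
  Lgr Lrot72 (Lpr_et (f264056 IH) (Lpr_ft (f273889 IH) (Lpe (f260951 IH) (Lpr_ft (K14.f192283 IH) (Lpr_et (f192292 IH) (Lpn (LP (LK LD1_c8 LD2_c13 LD3_c14))))))))
theorem f273893 : Led Lsl_at (LP (LK LD1_c8 LD2_c11 LD3_c0)) = (LP (LK LD1_c8 LD2_c9 LD3_c59)) :=
  Lgr Lrot66 (Lpr_ff (f273891 IH) (Lpe (K14.f252144 IH) (Lpr_ff (K14.f239461 IH) (Lpn (LP (LK LD1_c8 LD2_c9 LD3_c59))))))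
theorem f264070 : Led Lsl_ct (LP (LK LD1_c6 LD2_c4 LD3_c39)) = (LP (LK LD1_c8 LD2_c11 LD3_c0)) :=
  Lgr Lrot59 (Lpr_cf (K15.f264067 IH) (Lpn (LP (LK LD1_c8 LD2_c11 LD3_c0))))
theorem f41757 : Led Lsl_dt (LP (LK LD1_c2 LD2_c58 LD3_c23)) = (LP (LK LD1_c1 LD2_c24 LD3_c54)) :=
  Lre_d IH (LK LD1_c2 LD2_c58 LD3_c23) (LK LD1_c1 LD2_c24 LD3_c54) Lrfl Lrfl
theorem f42499 : Led Lsl_ct (LP (LK LD1_c6 LD2_c4 LD3_c23)) = (LP (LK LD1_c2 LD2_c58 LD3_c23)) :=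
  Lre_c IH (LK LD1_c6 LD2_c4 LD3_c23) (LK LD1_c2 LD2_c58 LD3_c23) Lrfl Lrfl
theorem f42598 : Led Lsl_gt (LP (LK LD1_c11 LD2_c52 LD3_c13)) = (LP (LK LD1_c6 LD2_c4 LD3_c23)) :=
  Lre_g IH (LK LD1_c11 LD2_c52 LD3_c13) (LK LD1_c6 LD2_c4 LD3_c23) Lrfl Lrfl
theorem f265287 : Led Lsl_ct (LP (LK LD1_c8 LD2_c9 LD3_c59)) = (LP (LK LD1_c11 LD2_c52 LD3_c13)) :=
  Lgr Lrot152 (Lpr_gf (K15.f265282 IH) (Lpe (K15.f187767 IH) (Lpr_gt (K14.f187765 IH) (Lpr_ct (K0.f28609 IH) (Lpr_gt (K10.f194180 IH) (Lpe (K10.f194172 IH) (Lpe (f41757 IH) (Lpe (f42499 IH) (Lpe (f42598 IH) (Lpn (LP (LK LD1_c11 LD2_c52 LD3_c13))))))))))))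
theorem f273895 : Led Lsl_af (LP (LK LD1_c6 LD2_c4 LD3_c39)) = (LP (LK LD1_c11 LD2_c52 LD3_c13)) :=
  Lgr Lrot68 (Lpr_ct (f264070 IH) (Lpr_at (f273893 IH) (Lpr_ct (f265287 IH) (Lpn (LP (LK LD1_c11 LD2_c52 LD3_c13))))))
theorem f273900 : Led Lsl_ft (LP (LK LD1_c6 LD2_c4 LD3_c38)) = (LP (LK LD1_c11 LD2_c52 LD3_c13)) :=
  Lgr Lrot2 (Lpr_gt (K15.f256849 IH) (Lpr_gt (K15.f266740 IH) (Lpr_af (f273895 IH) (Lpn (LP (LK LD1_c11 LD2_c52 LD3_c13))))))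
theorem f273902 : Led Lsl_cf (LP (LK LD1_c8 LD2_c9 LD3_c59)) = (LP (LK LD1_c11 LD2_c52 LD3_c13)) :=
  Lgr Lrot108 (Lpe (K14.f239461 IH) (Lpe (K15.f256827 IH) (Lpr_ft (f273900 IH) (Lpn (LP (LK LD1_c11 LD2_c52 LD3_c13))))))
theorem f42509 : Led Lsl_dt (LP (LK LD1_c10 LD2_c37 LD3_c11)) = (LP (LK LD1_c5 LD2_c23 LD3_c20)) :=
  Lre_d IH (LK LD1_c10 LD2_c37 LD3_c11) (LK LD1_c5 LD2_c23 LD3_c20) Lrfl Lrfl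
theorem f42584 : Led Lsl_dt (LP (LK LD1_c6 LD2_c4 LD3_c23)) = (LP (LK LD1_c11 LD2_c52 LD3_c15)) :=
  Lre_d IH (LK LD1_c6 LD2_c4 LD3_c23) (LK LD1_c11 LD2_c52 LD3_c15) Lrfl Lrfl
theorem f274084 : Led Lsl_gf (LP (LK LD1_c10 LD2_c37 LD3_c11)) = (LP (LK LD1_c11 LD2_c52 LD3_c15)) :=
  Lgr Lrot143 (Lpr_dt (f42509 IH) (Lpr_cf (K10.f190097 IH) (Lpe (K10.f183633 IH) (Lpe (K9.f183612 IH) (Lpe (K14.f183628 IH) (Lpe (K14.f252142 IH) (Lpr_cf (f273902 IH) (Lpr_gt (f42598 IH) (Lpr_dt (f42584 IH) (Lpn (LP (LK LD1_c11 LD2_c52 LD3_c15))))))))))))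
theorem f42507 : Led Lsl_dt (LP (LK LD1_c5 LD2_c23 LD3_c20)) = (LP (LK LD1_c10 LD2_c37 LD3_c11)) :=
  Lre_d IH (LK LD1_c5 LD2_c23 LD3_c20) (LK LD1_c10 LD2_c37 LD3_c11) Lrfl Lrfl
theorem f190109 : Led Lsl_ct (LP (LK LD1_c10 LD2_c37 LD3_c11)) = (LP (LK LD1_c8 LD2_c39 LD3_c27)) :=
  Lgr Lrot53 (Lpe (f42507 IH) (Lpr_cf (K10.f190097 IH) (Lpe (K10.f183633 IH) (Lpr_cf (K9.f183619 IH) (Lpe (K10.f45608 IH) (Lpr_ft (K13.f54382 IH) (Lpe (K13.f54373 IH) (Lpe (K12.f28675 IH) (Lpe (K12.f28718 IH) (Lpn (LP (LK LD1_c8 LD2_c39 LD3_c27))))))))))))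
theorem f187303 : Led Lsl_ct (LP (LK LD1_c4 LD2_c6 LD3_c36)) = (LP (LK LD1_c2 LD2_c0 LD3_c38)) :=
  Lre_c IH (LK LD1_c4 LD2_c6 LD3_c36) (LK LD1_c2 LD2_c0 LD3_c38) Lrfl Lrfl
theorem f192501 : Led Lsl_dt (LP (LK LD1_c8 LD2_c13 LD3_c23)) = (LP (LK LD1_c4 LD2_c6 LD3_c24)) :=
  Lre_d IH (LK LD1_c8 LD2_c13 LD3_c23) (LK LD1_c4 LD2_c6 LD3_c24) Lrfl Lrfl
theorem f194331 : Led Lsl_gf (LP (LK LD1_c8 LD2_c13 LD3_c23)) = (LP (LK LD1_c8 LD2_c39 LD3_c27)) :=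
  Lgr Lrot143 (Lpr_dt (f192501 IH) (Lpe (K15.f192502 IH) (Lpe (K14.f187400 IH) (Lpe (K9.f54977 IH) (Lpe (K9.f54973 IH) (Lpe (K10.f47454 IH) (Lpe (f187303 IH) (Lpr_gt (K10.f194222 IH) (Lpr_dt (K12.f28665 IH) (Lpn (LP (LK LD1_c8 LD2_c39 LD3_c27))))))))))))
theorem f42599 : Led Lsl_gt (LP (LK LD1_c6 LD2_c4 LD3_c23)) = (LP (LK LD1_c11 LD2_c52 LD3_c12)) :=
  Lre_g IH (LK LD1_c6 LD2_c4 LD3_c23) (LK LD1_c11 LD2_c52 LD3_c12) Lrfl Lrfl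
theorem f273904 : Led Lsl_ff (LP (LK LD1_c6 LD2_c4 LD3_c38)) = (LP (LK LD1_c11 LD2_c52 LD3_c13)) :=
  Lgr Lrot3 (Lpr_ft (f273900 IH) (Lpn (LP (LK LD1_c11 LD2_c52 LD3_c13))))
theorem f273906 : Led Lsl_at (LP (LK LD1_c6 LD2_c4 LD3_c38)) = (LP (LK LD1_c11 LD2_c52 LD3_c12)) :=
  Lgr Lrot26 (Lpr_ff (f273904 IH) (Lpr_gt (f42598 IH) (Lpr_gt (f42599 IH) (Lpn (LP (LK LD1_c11 LD2_c52 LD3_c12))))))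
theorem f252146 : Led Lsl_af (LP (LK LD1_c5 LD2_c8 LD3_c47)) = (LP (LK LD1_c8 LD2_c13 LD3_c14)) :=
  Lgr Lrot0 (Lpr_at (K14.f252144 IH) (Lpn (LP (LK LD1_c8 LD2_c13 LD3_c14))))
theorem f273911 : Led Lsl_cf (LP (LK LD1_c8 LD2_c13 LD3_c14)) = (LP (LK LD1_c11 LD2_c52 LD3_c12)) :=
  Lgr Lrot1 (Lpe (f252146 IH) (Lpe (K15.f256827 IH) (Lpr_at (f273906 IH) (Lpn (LP (LK LD1_c11 LD2_c52 LD3_c12))))))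
theorem f265154 : Led Lsl_at (LP (LK LD1_c6 LD2_c4 LD3_c31)) = (LP (LK LD1_c2 LD2_c58 LD3_c48)) :=
  Lre_a IH (LK LD1_c6 LD2_c4 LD3_c31) (LK LD1_c2 LD2_c58 LD3_c48) Lrfl Lrfl
theorem f195328 : Led Lsl_gt (LP (LK LD1_c6 LD2_c5 LD3_c21)) = (LP (LK LD1_c2 LD2_c58 LD3_c48)) :=
  Lre_g IH (LK LD1_c6 LD2_c5 LD3_c21) (LK LD1_c2 LD2_c58 LD3_c48) Lrfl Lrfl
theorem f265166 : Led Lsl_gt (LP (LK LD1_c8 LD2_c14 LD3_c0)) = (LP (LK LD1_c6 LD2_c5 LD3_c21)) :=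
  Lgr Lrot5 (Lpr_ft (K15.f265149 IH) (Lpr_at (f265154 IH) (Lpe (f195328 IH) (Lpn (LP (LK LD1_c6 LD2_c5 LD3_c21))))))
theorem f182774 : Led Lsl_ct (LP (LK LD1_c8 LD2_c14 LD3_c0)) = (LP (LK LD1_c4 LD2_c6 LD3_c41)) :=
  Lre_c IH (LK LD1_c8 LD2_c14 LD3_c0) (LK LD1_c4 LD2_c6 LD3_c41) Lrfl Lrfl
theorem f54675 : Led Lsl_gt (LP (LK LD1_c4 LD2_c6 LD3_c41)) = (LP (LK LD1_c8 LD2_c13 LD3_c60)) :=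
  Lre_g IH (LK LD1_c4 LD2_c6 LD3_c41) (LK LD1_c8 LD2_c13 LD3_c60) Lrfl Lrfl
theorem f182159 : Led Lsl_ct (LP (LK LD1_c6 LD2_c4 LD3_c36)) = (LP (LK LD1_c2 LD2_c58 LD3_c29)) :=
  Lre_c IH (LK LD1_c6 LD2_c4 LD3_c36) (LK LD1_c2 LD2_c58 LD3_c29) Lrfl Lrfl
theorem f54670 : Led Lsl_dt (LP (LK LD1_c2 LD2_c0 LD3_c39)) = (LP (LK LD1_c4 LD2_c6 LD3_c41)) :=
  Lre_d IH (LK LD1_c2 LD2_c0 LD3_c39) (LK LD1_c4 LD2_c6 LD3_c41) Lrfl Lrfl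
theorem f182582 : Led Lsl_df (LP (LK LD1_c6 LD2_c4 LD3_c36)) = (LP (LK LD1_c8 LD2_c13 LD3_c60)) :=
  Lgr Lrot174 (Lpr_ct (f182159 IH) (Lpe (K15.f182098 IH) (Lpr_gf (K15.f182093 IH) (Lpe (K9.f54076 IH) (Lpe (K9.f182153 IH) (Lpr_ct (K9.f182571 IH) (Lpr_gt (K9.f54961 IH) (Lpr_dt (f54670 IH) (Lpr_gt (f54675 IH) (Lpn (LP (LK LD1_c8 LD2_c13 LD3_c60))))))))))))
theorem f265168 : Led Lsl_df (LP (LK LD1_c8 LD2_c13 LD3_c31)) = (LP (LK LD1_c6 LD2_c5 LD3_c21)) :=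
  Lgr Lrot153 (Lpe (K15.f259590 IH) (Lpr_dt (K15.f200620 IH) (Lpe (K14.f256233 IH) (Lpe (K14.f250471 IH) (Lpr_gf (K15.f257995 IH) (Lpr_df (f182582 IH) (Lpe (f54675 IH) (Lpe (f182774 IH) (Lpr_gt (f265166 IH) (Lpn (LP (LK LD1_c6 LD2_c5 LD3_c21))))))))))))
theorem f274086 : Led Lsl_ct (LP (LK LD1_c8 LD2_c13 LD3_c23)) = (LP (LK LD1_c6 LD2_c5 LD3_c21)) :=
  Lgr Lrot110 (Lpr_gf (f194331 IH) (Lpe (f190109 IH) (Lpr_gf (f274084 IH) (Lpe (f42584 IH) (Lpr_gt (f42599 IH) (Lpe (f273911 IH) (Lpr_gt (K15.f260271 IH) (Lpr_ct (K15.f187768 IH) (Lpr_df (f265168 IH) (Lpn (LP (LK LD1_c6 LD2_c5 LD3_c21))))))))))))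
theorem f182604 : Led Lsl_ct (LP (LK LD1_c4 LD2_c6 LD3_c33)) = (LP (LK LD1_c2 LD2_c0 LD3_c37)) :=
  Lre_c IH (LK LD1_c4 LD2_c6 LD3_c33) (LK LD1_c2 LD2_c0 LD3_c37) Lrfl Lrfl
theorem f265063 : Led Lsl_ct (LP (LK LD1_c2 LD2_c58 LD3_c48)) = (LP (LK LD1_c6 LD2_c5 LD3_c22)) :=
  Lre_c IH (LK LD1_c2 LD2_c58 LD3_c48) (LK LD1_c6 LD2_c5 LD3_c22) Lrfl Lrfl
theorem f274102 : Led Lsl_df (LP (LK LD1_c8 LD2_c13 LD3_c8)) = (LP (LK LD1_c6 LD2_c5 LD3_c22)) :=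
  Lgr Lrot162 (Lpe (K9.f55048 IH) (Lpe (K11.f47858 IH) (Lpe (f182604 IH) (Lpr_gf (K11.f183591 IH) (Lpr_dt (K12.f28665 IH) (Lpe (f194331 IH) (Lpr_ct (f274086 IH) (Lpr_gt (f195328 IH) (Lpr_ct (f265063 IH) (Lpn (LP (LK LD1_c6 LD2_c5 LD3_c22))))))))))))
theorem f55040 : Led Lsl_ct (LP (LK LD1_c8 LD2_c13 LD3_c8)) = (LP (LK LD1_c4 LD2_c6 LD3_c16)) :=
  Lre_c IH (LK LD1_c8 LD2_c13 LD3_c8) (LK LD1_c4 LD2_c6 LD3_c16) Lrfl Lrfl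
theorem f252594 : Led Lsl_gf (LP (LK LD1_c6 LD2_c4 LD3_c36)) = (LP (LK LD1_c8 LD2_c13 LD3_c19)) :=
  Lgr Lrot104 (Lpr_ct (f182159 IH) (Lpe (K15.f182098 IH) (Lpe (K9.f42478 IH) (Lpe (K9.f42120 IH) (Lpe (K9.f44471 IH) (Lpe (K10.f54974 IH) (Lpe (K14.f54975 IH) (Lpr_gt (K14.f252587 IH) (Lpr_ct (K15.f252108 IH) (Lpn (LP (LK LD1_c8 LD2_c13 LD3_c19))))))))))))
theorem f182767 : Led Lsl_dt (LP (LK LD1_c6 LD2_c4 LD3_c36)) = (LP (LK LD1_c8 LD2_c13 LD3_c60)) :=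
  Lgr Lrot42 (Lpr_df (f182582 IH) (Lpn (LP (LK LD1_c8 LD2_c13 LD3_c60))))
theorem f274118 : Led Lsl_gt (LP (LK LD1_c8 LD2_c13 LD3_c60)) = (LP (LK LD1_c6 LD2_c5 LD3_c22)) :=
  Lgr Lrot49 (Lpe (f182767 IH) (Lpr_gf (f252594 IH) (Lpe (K15.f252108 IH) (Lpr_gt (K14.f54553 IH) (Lpr_dt (K12.f54550 IH) (Lpr_gt (K9.f47856 IH) (Lpr_dt (K1.f47851 IH) (Lpe (f55040 IH) (Lpr_df (f274102 IH) (Lpn (LP (LK LD1_c6 LD2_c5 LD3_c22))))))))))))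
theorem f265055 : Led Lsl_gf (LP (LK LD1_c2 LD2_c0 LD3_c35)) = (LP (LK LD1_c4 LD2_c6 LD3_c22)) :=
  Lgr Lrot143 (Lpr_dt (K14.f54975 IH) (Lpe (K10.f187489 IH) (Lpe (K15.f187776 IH) (Lpe (K15.f260271 IH) (Lpr_df (K14.f192266 IH) (Lpr_gf (K15.f260277 IH) (Lpe (K12.f214001 IH) (Lpr_gt (K15.f265050 IH) (Lpe (K14.f250451 IH) (Lpn (LP (LK LD1_c4 LD2_c6 LD3_c22))))))))))))
theorem f265087 : Led Lsl_dt (LP (LK LD1_c4 LD2_c6 LD3_c30)) = (LP (LK LD1_c8 LD2_c13 LD3_c34)) :=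
  Lre_d IH (LK LD1_c4 LD2_c6 LD3_c30) (LK LD1_c8 LD2_c13 LD3_c34) Lrfl Lrfl
theorem f187781 : Led Lsl_ct (LP (LK LD1_c6 LD2_c5 LD3_c22)) = (LP (LK LD1_c2 LD2_c58 LD3_c48)) :=
  Lre_c IH (LK LD1_c6 LD2_c5 LD3_c22) (LK LD1_c2 LD2_c58 LD3_c48) Lrfl Lrfl
theorem f187486 : Led Lsl_gt (LP (LK LD1_c2 LD2_c58 LD3_c48)) = (LP (LK LD1_c6 LD2_c5 LD3_c20)) :=
  Lre_g IH (LK LD1_c2 LD2_c58 LD3_c48) (LK LD1_c6 LD2_c5 LD3_c20) Lrfl Lrfl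
theorem f274123 : Led Lsl_cf (LP (LK LD1_c8 LD2_c13 LD3_c34)) = (LP (LK LD1_c6 LD2_c5 LD3_c20)) :=
  Lgr Lrot99 (Lpe (f265087 IH) (Lpe (K15.f55027 IH) (Lpr_gf (f265055 IH) (Lpe (K15.f230911 IH) (Lpr_gf (K15.f257995 IH) (Lpr_df (f182582 IH) (Lpr_gt (f274118 IH) (Lpr_ct (f187781 IH) (Lpr_gt (f187486 IH) (Lpn (LP (LK LD1_c6 LD2_c5 LD3_c20))))))))))))
theorem f265088 : Led Lsl_dt (LP (LK LD1_c8 LD2_c13 LD3_c34)) = (LP (LK LD1_c4 LD2_c6 LD3_c30)) :=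
  Lre_d IH (LK LD1_c8 LD2_c13 LD3_c34) (LK LD1_c4 LD2_c6 LD3_c30) Lrfl Lrfl
theorem f42170 : Led Lsl_dt (LP (LK LD1_c1 LD2_c24 LD3_c60)) = (LP (LK LD1_c0 LD2_c39 LD3_c9)) :=
  Lre_d IH (LK LD1_c1 LD2_c24 LD3_c60) (LK LD1_c0 LD2_c39 LD3_c9) Lrfl Lrfl
theorem f194167 : Led Lsl_cf (LP (LK LD1_c2 LD2_c0 LD3_c28)) = (LP (LK LD1_c1 LD2_c24 LD3_c57)) :=
  Lgr Lrot97 (Lpe (K9.f55023 IH) (Lpr_ct (K9.f46205 IH) (Lpr_bt (K1.f46129 IH) (Lpr_ct (K10.f46453 IH) (Lpr_bt (K10.f194162 IH) (Lpn (LP (LK LD1_c1 LD2_c24 LD3_c57))))))))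
theorem f187769 : Led Lsl_ct (LP (LK LD1_c8 LD2_c13 LD3_c31)) = (LP (LK LD1_c4 LD2_c6 LD3_c28)) :=
  Lre_c IH (LK LD1_c8 LD2_c13 LD3_c31) (LK LD1_c4 LD2_c6 LD3_c28) Lrfl Lrfl
theorem f250437 : Led Lsl_gf (LP (LK LD1_c8 LD2_c13 LD3_c31)) = (LP (LK LD1_c5 LD2_c19 LD3_c54)) :=
  Lgr Lrot104 (Lpr_ct (f187769 IH) (Lpe (K15.f187767 IH) (Lpe (K14.f55032 IH) (Lpe (K14.f47859 IH) (Lpr_cf (f194167 IH) (Lpe (K9.f41808 IH) (Lpe (f42170 IH) (Lpr_gt (K14.f250432 IH) (Lpr_ct (K15.f249231 IH) (Lpn (LP (LK LD1_c5 LD2_c19 LD3_c54))))))))))))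
theorem f187780 : Led Lsl_dt (LP (LK LD1_c2 LD2_c58 LD3_c48)) = (LP (LK LD1_c1 LD2_c25 LD3_c6)) :=
  Lre_d IH (LK LD1_c2 LD2_c58 LD3_c48) (LK LD1_c1 LD2_c25 LD3_c6) Lrfl Lrfl
theorem f256253 : Led Lsl_dt (LP (LK LD1_c8 LD2_c13 LD3_c31)) = (LP (LK LD1_c6 LD2_c5 LD3_c21)) :=
  Lgr Lrot57 (Lpr_gf (f250437 IH) (Lpe (K15.f249231 IH) (Lpr_gt (K14.f256251 IH) (Lpr_dt (K15.f183870 IH) (Lpr_gt (K9.f42119 IH) (Lpr_dt (K9.f42113 IH) (Lpe (K10.f187488 IH) (Lpe (f187780 IH) (Lpe (f195328 IH) (Lpn (LP (LK LD1_c6 LD2_c5 LD3_c21))))))))))))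
theorem f274090 : Led Lsl_cf (LP (LK LD1_c8 LD2_c13 LD3_c23)) = (LP (LK LD1_c6 LD2_c5 LD3_c21)) :=
  Lgr Lrot11 (Lpr_ct (f274086 IH) (Lpn (LP (LK LD1_c6 LD2_c5 LD3_c21))))
theorem f274130 : Led Lsl_dt (LP (LK LD1_c8 LD2_c13 LD3_c15)) = (LP (LK LD1_c6 LD2_c5 LD3_c20)) :=
  Lgr Lrot173 (Lpe (K15.f192256 IH) (Lpe (K14.f183626 IH) (Lpe (K9.f179074 IH) (Lpe (K12.f54550 IH) (Lpe (K15.f192261 IH) (Lpe (f192501 IH) (Lpr_cf (f274090 IH) (Lpe (f256253 IH) (Lpe (K15.f187768 IH) (Lpe (K15.f187767 IH) (Lpe (K14.f55032 IH) (Lpe (K14.f54975 IH) (Lpe (K15.f187770 IH) (Lpe (f265088 IH) (Lpr_cf (f274123 IH) (Lpn (LP (LK LD1_c6 LD2_c5 LD3_c20))))))))))))))))))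
theorem f252609 : Led Lsl_gf (LP (LK LD1_c8 LD2_c13 LD3_c15)) = (LP (LK LD1_c5 LD2_c23 LD3_c19)) :=
  Lgr Lrot104 (Lpr_ct (K15.f187794 IH) (Lpe (K14.f183626 IH) (Lpe (K9.f179074 IH) (Lpe (K9.f54977 IH) (Lpr_cf (K10.f187773 IH) (Lpe (K9.f42119 IH) (Lpe (K15.f183870 IH) (Lpr_gt (K14.f252592 IH) (Lpr_ct (K15.f184402 IH) (Lpn (LP (LK LD1_c5 LD2_c23 LD3_c19))))))))))))
theorem f187789 : Led Lsl_ft (LP (LK LD1_c0 LD2_c39 LD3_c11)) = (LP (LK LD1_c1 LD2_c25 LD3_c7)) :=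
  Lre_f IH (LK LD1_c0 LD2_c39 LD3_c11) (LK LD1_c1 LD2_c25 LD3_c7) Lrfl Lrfl
theorem f187790 : Led Lsl_dt (LP (LK LD1_c8 LD2_c14 LD3_c0)) = (LP (LK LD1_c6 LD2_c4 LD3_c32)) :=
  Lgr Lrot120 (Lpe (K15.f182775 IH) (Lpe (f54670 IH) (Lpe (K9.f54661 IH) (Lpe (K10.f47453 IH) (Lpr_cf (K10.f187773 IH) (Lpe (K10.f42118 IH) (Lpr_ft (f187789 IH) (Lpr_at (K10.f8488 IH) (Lpe (K11.f42475 IH) (Lpn (LP (LK LD1_c6 LD2_c4 LD3_c32))))))))))))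
theorem f274178 : Led Lsl_gf (LP (LK LD1_c8 LD2_c14 LD3_c0)) = (LP (LK LD1_c6 LD2_c5 LD3_c20)) :=
  Lgr Lrot143 (Lpr_dt (f187790 IH) (Lpe (K10.f42479 IH) (Lpe (K9.f41806 IH) (Lpe (K9.f41808 IH) (Lpe (f42170 IH) (Lpr_gf (K15.f256823 IH) (Lpe (K14.f184400 IH) (Lpe (f252609 IH) (Lpr_dt (f274130 IH) (Lpn (LP (LK LD1_c6 LD2_c5 LD3_c20))))))))))))
theorem f194329 : Led Lsl_gf (LP (LK LD1_c4 LD2_c6 LD3_c36)) = (LP (LK LD1_c8 LD2_c13 LD3_c37)) :=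
  Lgr Lrot47 (Lpr_gt (K10.f194222 IH) (Lpr_af (K11.f54383 IH) (Lpe (K10.f183514 IH) (Lpn (LP (LK LD1_c8 LD2_c13 LD3_c37))))))
theorem f194337 : Led Lsl_dt (LP (LK LD1_c4 LD2_c6 LD3_c24)) = (LP (LK LD1_c8 LD2_c13 LD3_c23)) :=
  Lre_d IH (LK LD1_c4 LD2_c6 LD3_c24) (LK LD1_c8 LD2_c13 LD3_c23) Lrfl Lrfl
theorem f260299 : Led Lsl_gt (LP (LK LD1_c8 LD2_c13 LD3_c23)) = (LP (LK LD1_c15 LD2_c28 LD3_c5)) :=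
  Lre_g IH (LK LD1_c8 LD2_c13 LD3_c23) (LK LD1_c15 LD2_c28 LD3_c5) Lrfl Lrfl
theorem f266668 : Led Lsl_df (LP (LK LD1_c8 LD2_c13 LD3_c37)) = (LP (LK LD1_c15 LD2_c28 LD3_c5)) :=
  Lgr Lrot174 (Lpr_ct (K9.f183509 IH) (Lpe (K9.f45610 IH) (Lpr_gf (K10.f194182 IH) (Lpe (K15.f42241 IH) (Lpr_gf (f256833 IH) (Lpr_ct (K15.f266650 IH) (Lpr_gt (K15.f192262 IH) (Lpr_dt (f194337 IH) (Lpr_gt (f260299 IH) (Lpn (LP (LK LD1_c15 LD2_c28 LD3_c5))))))))))))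
theorem f187480 : Led Lsl_ct (LP (LK LD1_c2 LD2_c58 LD3_c46)) = (LP (LK LD1_c4 LD2_c20 LD3_c20)) :=
  Lgr Lrot59 (Lpr_cf (K10.f187474 IH) (Lpn (LP (LK LD1_c4 LD2_c20 LD3_c20))))
theorem f187485 : Led Lsl_dt (LP (LK LD1_c1 LD2_c25 LD3_c6)) = (LP (LK LD1_c2 LD2_c58 LD3_c48)) :=
  Lre_d IH (LK LD1_c1 LD2_c25 LD3_c6) (LK LD1_c2 LD2_c58 LD3_c48) Lrfl Lrfl
theorem f192257 : Led Lsl_df (LP (LK LD1_c8 LD2_c13 LD3_c15)) = (LP (LK LD1_c6 LD2_c5 LD3_c20)) :=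
  Lgr Lrot84 (Lpe (K15.f192256 IH) (Lpe (K14.f183626 IH) (Lpr_gf (K10.f192221 IH) (Lpe (K10.f28660 IH) (Lpe (K10.f28673 IH) (Lpe (f187480 IH) (Lpr_gt (K10.f181242 IH) (Lpr_dt (f187485 IH) (Lpr_gt (f187486 IH) (Lpn (LP (LK LD1_c6 LD2_c5 LD3_c20))))))))))))
theorem f274092 : Led Lsl_cf (LP (LK LD1_c6 LD2_c5 LD3_c20)) = (LP (LK LD1_c8 LD2_c13 LD3_c34)) :=
  Lgr Lrot55 (Lpe (f192257 IH) (Lpr_ct (K15.f187794 IH) (Lpr_dt (K14.f183628 IH) (Lpr_ct (K11.f179067 IH) (Lpr_dt (K14.f187400 IH) (Lpr_ct (K15.f192502 IH) (Lpr_dt (f194337 IH) (Lpr_ct (f274086 IH) (Lpe (f265168 IH) (Lpr_ct (f187769 IH) (Lpr_dt (K15.f187776 IH) (Lpr_ct (K10.f187489 IH) (Lpr_dt (K14.f47861 IH) (Lpr_ct (K15.f55027 IH) (Lpr_dt (f265087 IH) (Lpn (LP (LK LD1_c8 LD2_c13 LD3_c34))))))))))))))))))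
theorem f274185 : Led Lsl_gt (LP (LK LD1_c15 LD2_c28 LD3_c5)) = (LP (LK LD1_c8 LD2_c13 LD3_c34)) :=
  Lgr Lrot146 (Lpe (f266668 IH) (Lpe (f194329 IH) (Lpr_ct (f187303 IH) (Lpr_gt (K10.f47454 IH) (Lpr_ct (K9.f54661 IH) (Lpr_dt (f54670 IH) (Lpe (f182774 IH) (Lpr_gf (f274178 IH) (Lpr_cf (f274092 IH) (Lpn (LP (LK LD1_c8 LD2_c13 LD3_c34))))))))))))
theorem f274194 : Led Lsl_df (LP (LK LD1_c15 LD2_c28 LD3_c5)) = (LP (LK LD1_c8 LD2_c13 LD3_c37)) :=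
  Lgr Lrot153 (Lpr_gt (f274185 IH) (Lpr_dt (f265088 IH) (Lpe (K15.f55027 IH) (Lpe (K14.f47861 IH) (Lpe (K14.f47859 IH) (Lpe (K1.f47849 IH) (Lpe (K11.f47858 IH) (Lpe (f182604 IH) (Lpr_gt (K9.f182713 IH) (Lpn (LP (LK LD1_c8 LD2_c13 LD3_c37))))))))))))
theorem f190125 : Led Lsl_cf (LP (LK LD1_c10 LD2_c37 LD3_c11)) = (LP (LK LD1_c8 LD2_c39 LD3_c27)) :=
  Lgr Lrot11 (Lpr_ct (f190109 IH) (Lpn (LP (LK LD1_c8 LD2_c39 LD3_c27))))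
theorem f28661 : Led Lsl_ct (LP (LK LD1_c4 LD2_c20 LD3_c21)) = (LP (LK LD1_c2 LD2_c7 LD3_c37)) :=
  Lre_c IH (LK LD1_c4 LD2_c20 LD3_c21) (LK LD1_c2 LD2_c7 LD3_c37) Lrfl Lrfl
theorem f28662 : Led Lsl_dt (LP (LK LD1_c8 LD2_c38 LD3_c34)) = (LP (LK LD1_c4 LD2_c20 LD3_c21)) :=
  Lre_d IH (LK LD1_c8 LD2_c38 LD3_c34) (LK LD1_c4 LD2_c20 LD3_c21) Lrfl Lrfl
theorem f274228 : Led Lsl_ct (LP (LK LD1_c15 LD2_c28 LD3_c5)) = (LP (LK LD1_c8 LD2_c38 LD3_c34)) :=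
  Lgr Lrot176 (Lpr_df (f274194 IH) (Lpr_cf (K9.f183502 IH) (Lpe (K9.f45610 IH) (Lpe (K9.f183613 IH) (Lpe (K10.f183621 IH) (Lpe (K10.f190104 IH) (Lpe (f42509 IH) (Lpr_cf (f190125 IH) (Lpe (K12.f28665 IH) (Lpe (K10.f28664 IH) (Lpe (K9.f28663 IH) (Lpe (K0.f28609 IH) (Lpe (K10.f28660 IH) (Lpe (f28661 IH) (Lpe (f28662 IH) (Lpn (LP (LK LD1_c8 LD2_c38 LD3_c34))))))))))))))))))
theorem f28717 : Led Lsl_dt (LP (LK LD1_c4 LD2_c20 LD3_c21)) = (LP (LK LD1_c8 LD2_c38 LD3_c34)) :=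
  Lre_d IH (LK LD1_c4 LD2_c20 LD3_c21) (LK LD1_c8 LD2_c38 LD3_c34) Lrfl Lrfl
theorem f183598 : Led Lsl_dt (LP (LK LD1_c8 LD2_c13 LD3_c39)) = (LP (LK LD1_c4 LD2_c6 LD3_c33)) :=
  Lre_d IH (LK LD1_c8 LD2_c13 LD3_c39) (LK LD1_c4 LD2_c6 LD3_c33) Lrfl Lrfl
theorem f195952 : Led Lsl_gt (LP (LK LD1_c15 LD2_c28 LD3_c36)) = (LP (LK LD1_c8 LD2_c13 LD3_c39)) :=
  Lre_g IH (LK LD1_c15 LD2_c28 LD3_c36) (LK LD1_c8 LD2_c13 LD3_c39) Lrfl Lrfl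
theorem f274231 : Led Lsl_ct (LP (LK LD1_c10 LD2_c37 LD3_c17)) = (LP (LK LD1_c15 LD2_c28 LD3_c36)) :=
  Lgr Lrot8 (Lpr_gt (K15.f182161 IH) (Lpr_dt (K15.f42532 IH) (Lpr_gt (K10.f190208 IH) (Lpr_dt (f28717 IH) (Lpe (f274228 IH) (Lpr_df (f274194 IH) (Lpe (K9.f182713 IH) (Lpe (f183598 IH) (Lpe (f195952 IH) (Lpn (LP (LK LD1_c15 LD2_c28 LD3_c36))))))))))))
theorem f273897 : Led Lsl_at (LP (LK LD1_c6 LD2_c4 LD3_c39)) = (LP (LK LD1_c11 LD2_c52 LD3_c13)) :=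
  Lgr Lrot100 (Lpr_af (f273895 IH) (Lpn (LP (LK LD1_c11 LD2_c52 LD3_c13))))
theorem f273916 : Led Lsl_ff (LP (LK LD1_c6 LD2_c4 LD3_c39)) = (LP (LK LD1_c11 LD2_c52 LD3_c12)) :=
  Lgr Lrot30 (Lpr_at (f273897 IH) (Lpe (f273904 IH) (Lpr_at (f273906 IH) (Lpn (LP (LK LD1_c11 LD2_c52 LD3_c12))))))
theorem f273922 : Led Lsl_ft (LP (LK LD1_c6 LD2_c4 LD3_c39)) = (LP (LK LD1_c11 LD2_c52 LD3_c12)) :=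
  Lgr Lrot48 (Lpr_ff (f273916 IH) (Lpn (LP (LK LD1_c11 LD2_c52 LD3_c12))))
theorem f273908 : Led Lsl_af (LP (LK LD1_c6 LD2_c4 LD3_c38)) = (LP (LK LD1_c11 LD2_c52 LD3_c12)) :=
  Lgr Lrot0 (Lpr_at (f273906 IH) (Lpn (LP (LK LD1_c11 LD2_c52 LD3_c12))))
theorem f260378 : Led Lsl_ct (LP (LK LD1_c10 LD2_c15 LD3_c42)) = (LP (LK LD1_c5 LD2_c12 LD3_c40)) :=
  Lre_c IH (LK LD1_c10 LD2_c15 LD3_c42) (LK LD1_c5 LD2_c12 LD3_c40) Lrfl Lrfl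
theorem f274237 : Led Lsl_df (LP (LK LD1_c10 LD2_c15 LD3_c42)) = (LP (LK LD1_c15 LD2_c28 LD3_c36)) :=
  Lgr Lrot106 (Lpr_ct (f260378 IH) (Lpe (f271261 IH) (Lpe (K15.f190331 IH) (Lpr_dt (K13.f190335 IH) (Lpe (K15.f256827 IH) (Lpr_af (f273908 IH) (Lpe (f273922 IH) (Lpe (K15.f266728 IH) (Lpr_ct (f274231 IH) (Lpn (LP (LK LD1_c15 LD2_c28 LD3_c36))))))))))))
theorem f274243 : Led Lsl_dt (LP (LK LD1_c10 LD2_c15 LD3_c42)) = (LP (LK LD1_c15 LD2_c28 LD3_c36)) :=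
  Lgr Lrot42 (Lpr_df (f274237 IH) (Lpn (LP (LK LD1_c15 LD2_c28 LD3_c36))))
theorem f271245 : Led Lsl_ff (LP (LK LD1_c10 LD2_c15 LD3_c42)) = (LP (LK LD1_c8 LD2_c13 LD3_c21)) :=
  Lgr Lrot23 (Lpr_ct (f260378 IH) (Lpr_ft (f271243 IH) (Lpr_ct (K15.f266650 IH) (Lpn (LP (LK LD1_c8 LD2_c13 LD3_c21))))))
theorem f266670 : Led Lsl_dt (LP (LK LD1_c15 LD2_c27 LD3_c60)) = (LP (LK LD1_c8 LD2_c13 LD3_c21)) :=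
  Lre_d IH (LK LD1_c15 LD2_c27 LD3_c60) (LK LD1_c8 LD2_c13 LD3_c21) Lrfl Lrfl
theorem f274292 : Led Lsl_ff (LP (LK LD1_c15 LD2_c27 LD3_c60)) = (LP (LK LD1_c15 LD2_c28 LD3_c36)) :=
  Lgr Lrot19 (Lpr_dt (f266670 IH) (Lpe (f271245 IH) (Lpr_dt (f274243 IH) (Lpn (LP (LK LD1_c15 LD2_c28 LD3_c36))))))
theorem f183594 : Led Lsl_gt (LP (LK LD1_c8 LD2_c13 LD3_c39)) = (LP (LK LD1_c15 LD2_c28 LD3_c35)) :=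
  Lre_g IH (LK LD1_c8 LD2_c13 LD3_c39) (LK LD1_c15 LD2_c28 LD3_c35) Lrfl Lrfl
theorem f274297 : Led Lsl_at (LP (LK LD1_c15 LD2_c27 LD3_c60)) = (LP (LK LD1_c15 LD2_c28 LD3_c35)) :=
  Lgr Lrot26 (Lpr_ff (f274292 IH) (Lpr_gt (f195952 IH) (Lpr_gt (f183594 IH) (Lpn (LP (LK LD1_c15 LD2_c28 LD3_c35))))))
theorem f190111 : Led Lsl_gt (LP (LK LD1_c5 LD2_c23 LD3_c22)) = (LP (LK LD1_c10 LD2_c37 LD3_c16)) :=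
  Lre_g IH (LK LD1_c5 LD2_c23 LD3_c22) (LK LD1_c10 LD2_c37 LD3_c16) Lrfl Lrfl
theorem f256847 : Led Lsl_df (LP (LK LD1_c6 LD2_c4 LD3_c38)) = (LP (LK LD1_c10 LD2_c37 LD3_c16)) :=
  Lgr Lrot84 (Lpr_cf (K15.f256827 IH) (Lpe (K13.f190335 IH) (Lpe (K15.f254230 IH) (Lpr_df (K10.f187252 IH) (Lpe (K10.f183662 IH) (Lpe (K10.f190104 IH) (Lpr_gt (K10.f42506 IH) (Lpr_dt (K15.f42529 IH) (Lpr_gt (f190111 IH) (Lpn (LP (LK LD1_c10 LD2_c37 LD3_c16))))))))))))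
theorem f256889 : Led Lsl_dt (LP (LK LD1_c6 LD2_c4 LD3_c38)) = (LP (LK LD1_c10 LD2_c37 LD3_c16)) :=
  Lgr Lrot42 (Lpr_df (f256847 IH) (Lpn (LP (LK LD1_c10 LD2_c37 LD3_c16))))
theorem f274299 : Led Lsl_cf (LP (LK LD1_c15 LD2_c28 LD3_c35)) = (LP (LK LD1_c10 LD2_c37 LD3_c16)) :=
  Lgr Lrot102 (Lpe (f274297 IH) (Lpr_ff (f274292 IH) (Lpe (f274237 IH) (Lpr_ct (f260378 IH) (Lpe (f271261 IH) (Lpe (K15.f190331 IH) (Lpr_dt (K13.f190335 IH) (Lpe (K15.f256827 IH) (Lpr_dt (f256889 IH) (Lpn (LP (LK LD1_c10 LD2_c37 LD3_c16))))))))))))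
theorem f274304 : Led Lsl_dt (LP (LK LD1_c15 LD2_c28 LD3_c35)) = (LP (LK LD1_c10 LD2_c35 LD3_c44)) :=
  Lgr Lrot173 (Lpr_cf (f274299 IH) (Lpe (f256889 IH) (Lpr_cf (K15.f256827 IH) (Lpe (K13.f190335 IH) (Lpr_cf (K15.f190331 IH) (Lpr_df (f271261 IH) (Lpe (f260378 IH) (Lpr_df (f274237 IH) (Lpe (f274231 IH) (Lpr_df (K15.f266728 IH) (Lpr_cf (K15.f264067 IH) (Lpe (K15.f264046 IH) (Lpe (K15.f257984 IH) (Lpe (K15.f256095 IH) (Lpe (K15.f257994 IH) (Lpn (LP (LK LD1_c10 LD2_c35 LD3_c44))))))))))))))))))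
theorem f187842 : Led Lsl_ct (LP (LK LD1_c6 LD2_c4 LD3_c48)) = (LP (LK LD1_c2 LD2_c58 LD3_c35)) :=
  Lre_c IH (LK LD1_c6 LD2_c4 LD3_c48) (LK LD1_c2 LD2_c58 LD3_c35) Lrfl Lrfl
theorem f274309 : Led Lsl_gf (LP (LK LD1_c6 LD2_c4 LD3_c48)) = (LP (LK LD1_c8 LD2_c13 LD3_c17)) :=
  Lgr Lrot147 (Lpr_ct (f187842 IH) (Lpe (f263510 IH) (Lpr_ct (K15.f257993 IH) (Lpe (f274304 IH) (Lpr_cf (f274299 IH) (Lpe (f190111 IH) (Lpe (K15.f42530 IH) (Lpr_gf (K15.f266698 IH) (Lpe (K14.f250471 IH) (Lpn (LP (LK LD1_c8 LD2_c13 LD3_c17))))))))))))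
theorem f54671 : Led Lsl_gt (LP (LK LD1_c8 LD2_c13 LD3_c61)) = (LP (LK LD1_c4 LD2_c6 LD3_c41)) :=
  Lre_g IH (LK LD1_c8 LD2_c13 LD3_c61) (LK LD1_c4 LD2_c6 LD3_c41) Lrfl Lrfl
theorem f274380 : Led Lsl_dt (LP (LK LD1_c6 LD2_c4 LD3_c48)) = (LP (LK LD1_c8 LD2_c13 LD3_c61)) :=
  Lgr Lrot57 (Lpr_gf (f274309 IH) (Lpe (K14.f192886 IH) (Lpe (f265055 IH) (Lpr_dt (K14.f54975 IH) (Lpr_gt (K10.f54974 IH) (Lpr_dt (K10.f47453 IH) (Lpe (K10.f54955 IH) (Lpe (K1.f54644 IH) (Lpe (f54671 IH) (Lpn (LP (LK LD1_c8 LD2_c13 LD3_c61))))))))))))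
theorem f252112 : Led Lsl_ct (LP (LK LD1_c8 LD2_c13 LD3_c19)) = (LP (LK LD1_c4 LD2_c6 LD3_c23)) :=
  Lre_c IH (LK LD1_c8 LD2_c13 LD3_c19) (LK LD1_c4 LD2_c6 LD3_c23) Lrfl Lrfl
theorem f274389 : Led Lsl_gt (LP (LK LD1_c6 LD2_c4 LD3_c48)) = (LP (LK LD1_c8 LD2_c13 LD3_c19)) :=
  Lgr Lrot146 (Lpr_dt (f274380 IH) (Lpr_gt (f54671 IH) (Lpr_ct (K15.f182775 IH) (Lpr_gt (f265166 IH) (Lpe (f274090 IH) (Lpr_dt (f192501 IH) (Lpe (K15.f192502 IH) (Lpe (K14.f54553 IH) (Lpe (f252112 IH) (Lpn (LP (LK LD1_c8 LD2_c13 LD3_c19))))))))))))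
theorem f274384 : Led Lsl_df (LP (LK LD1_c6 LD2_c4 LD3_c48)) = (LP (LK LD1_c8 LD2_c13 LD3_c61)) :=
  Lgr Lrot38 (Lpr_dt (f274380 IH) (Lpn (LP (LK LD1_c8 LD2_c13 LD3_c61))))
theorem f274403 : Led Lsl_gf (LP (LK LD1_c8 LD2_c13 LD3_c61)) = (LP (LK LD1_c6 LD2_c5 LD3_c22)) :=
  Lgr Lrot148 (Lpe (f274384 IH) (Lpr_gt (f274389 IH) (Lpr_dt (K15.f252109 IH) (Lpe (K15.f256238 IH) (Lpe (K15.f250439 IH) (Lpe (K15.f265059 IH) (Lpr_df (f192257 IH) (Lpe (f187486 IH) (Lpr_ct (f265063 IH) (Lpn (LP (LK LD1_c6 LD2_c5 LD3_c22))))))))))))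
theorem f274427 : Led Lsl_cf (LP (LK LD1_c15 LD2_c27 LD3_c55)) = (LP (LK LD1_c10 LD2_c29 LD3_c40)) :=
  Lgr Lrot14 (Lpe (K15.f252109 IH) (Lpe (f274389 IH) (Lpr_df (f274384 IH) (Lpr_gf (f274403 IH) (Lpr_ct (f187781 IH) (Lpr_gt (f187486 IH) (Lpe (f192257 IH) (Lpr_gt (K15.f265059 IH) (Lpr_dt (K15.f250439 IH) (Lpn (LP (LK LD1_c10 LD2_c29 LD3_c40))))))))))))
theorem f252113 : Led Lsl_dt (LP (LK LD1_c15 LD2_c27 LD3_c55)) = (LP (LK LD1_c8 LD2_c13 LD3_c19)) :=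
  Lre_d IH (LK LD1_c15 LD2_c27 LD3_c55) (LK LD1_c8 LD2_c13 LD3_c19) Lrfl Lrfl
theorem f249338 : Led Lsl_ft (LP (LK LD1_c1 LD2_c15 LD3_c18)) = (LP (LK LD1_c2 LD2_c36 LD3_c38)) :=
  Lre_f IH (LK LD1_c1 LD2_c15 LD3_c18) (LK LD1_c2 LD2_c36 LD3_c38) Lrfl Lrfl
theorem f274431 : Led Lsl_af (LP (LK LD1_c1 LD2_c15 LD3_c61)) = (LP (LK LD1_c2 LD2_c36 LD3_c38)) :=
  Lgr Lrot109 (Lpr_cf (K15.f200615 IH) (Lpr_df (K14.f252110 IH) (Lpe (f252112 IH) (Lpe (f252113 IH) (Lpr_cf (f274427 IH) (Lpe (K15.f250439 IH) (Lpe (K15.f249231 IH) (Lpe (K14.f249215 IH) (Lpr_ft (f249338 IH) (Lpn (LP (LK LD1_c2 LD2_c36 LD3_c38))))))))))))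
theorem f249339 : Led Lsl_gt (LP (LK LD1_c1 LD2_c15 LD3_c18)) = (LP (LK LD1_c2 LD2_c36 LD3_c36)) :=
  Lre_g IH (LK LD1_c1 LD2_c15 LD3_c18) (LK LD1_c2 LD2_c36 LD3_c36) Lrfl Lrfl
theorem f274440 : Led Lsl_gf (LP (LK LD1_c1 LD2_c15 LD3_c61)) = (LP (LK LD1_c2 LD2_c36 LD3_c36)) :=
  Lgr Lrot76 (Lpr_af (f274431 IH) (Lpe (f249338 IH) (Lpr_gt (f249339 IH) (Lpn (LP (LK LD1_c2 LD2_c36 LD3_c36))))))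
theorem f274442 : Led Lsl_dt (LP (LK LD1_c2 LD2_c58 LD3_c25)) = (LP (LK LD1_c2 LD2_c36 LD3_c36)) :=
  Lgr Lrot57 (Lpe (K10.f41777 IH) (Lpe (K12.f41740 IH) (Lpr_gt (K9.f42505 IH) (Lpr_dt (K15.f42533 IH) (Lpr_gt (K15.f266694 IH) (Lpr_dt (K14.f184401 IH) (Lpe (K15.f184402 IH) (Lpe (K15.f184390 IH) (Lpr_gf (f274440 IH) (Lpn (LP (LK LD1_c2 LD2_c36 LD3_c36))))))))))))
theorem f194360 : Led Lsl_bf (LP (LK LD1_c2 LD2_c58 LD3_c25)) = (LP (LK LD1_c1 LD2_c58 LD3_c34)) :=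
  Lgr Lrot24 (Lpr_bt (K10.f194355 IH) (Lpn (LP (LK LD1_c1 LD2_c58 LD3_c34))))
theorem f274446 : Led Lsl_bf (LP (LK LD1_c4 LD2_c3 LD3_c9)) = (LP (LK LD1_c2 LD2_c36 LD3_c36)) :=
  Lgr Lrot93 (Lpr_dt (K15.f28067 IH) (Lpe (f194360 IH) (Lpr_dt (f274442 IH) (Lpn (LP (LK LD1_c2 LD2_c36 LD3_c36))))))
theorem f274448 : Led Lsl_bt (LP (LK LD1_c4 LD2_c3 LD3_c9)) = (LP (LK LD1_c2 LD2_c36 LD3_c36)) :=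
  Lgr Lrot127 (Lpr_bf (f274446 IH) (Lpn (LP (LK LD1_c2 LD2_c36 LD3_c36))))
theorem f172005 : Led Lsl_ft (LP (LK LD1_c2 LD2_c37 LD3_c48)) = (LP (LK LD1_c5 LD2_c22 LD3_c31)) :=
  Lre_f IH (LK LD1_c2 LD2_c37 LD3_c48) (LK LD1_c5 LD2_c22 LD3_c31) Lrfl Lrfl
theorem f259137 : Led Lsl_at (LP (LK LD1_c5 LD2_c22 LD3_c31)) = (LP (LK LD1_c4 LD2_c3 LD3_c9)) :=
  Lgr Lrot26 (Lpe (f172005 IH) (Lpr_gt (K15.f259135 IH) (Lpe (K15.f259087 IH) (Lpn (LP (LK LD1_c4 LD2_c3 LD3_c9))))))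
theorem f274450 : Led Lsl_bt (LP (LK LD1_c2 LD2_c37 LD3_c55)) = (LP (LK LD1_c5 LD2_c22 LD3_c31)) :=
  Lre_b IH (LK LD1_c2 LD2_c37 LD3_c55) (LK LD1_c5 LD2_c22 LD3_c31) Lrfl Lrfl
theorem f256090 : Led Lsl_ft (LP (LK LD1_c0 LD2_c35 LD3_c13)) = (LP (LK LD1_c1 LD2_c16 LD3_c1)) :=
  Lre_f IH (LK LD1_c0 LD2_c35 LD3_c13) (LK LD1_c1 LD2_c16 LD3_c1) Lrfl Lrfl
theorem f256091 : Led Lsl_af (LP (LK LD1_c2 LD2_c36 LD3_c36)) = (LP (LK LD1_c1 LD2_c16 LD3_c1)) :=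
  Lgr Lrot31 (Lpe (f249339 IH) (Lpr_gf (K14.f256088 IH) (Lpr_ft (f256090 IH) (Lpn (LP (LK LD1_c1 LD2_c16 LD3_c1))))))
theorem f256110 : Led Lsl_at (LP (LK LD1_c2 LD2_c36 LD3_c36)) = (LP (LK LD1_c1 LD2_c16 LD3_c1)) :=
  Lgr Lrot100 (Lpr_af (f256091 IH) (Lpn (LP (LK LD1_c1 LD2_c16 LD3_c1))))
theorem f256114 : Led Lsl_bt (LP (LK LD1_c1 LD2_c16 LD3_c1)) = (LP (LK LD1_c2 LD2_c37 LD3_c45)) :=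
  Lre_b IH (LK LD1_c1 LD2_c16 LD3_c1) (LK LD1_c2 LD2_c37 LD3_c45) Lrfl Lrfl
theorem f274451 : Led Lsl_af (LP (LK LD1_c2 LD2_c37 LD3_c55)) = (LP (LK LD1_c2 LD2_c37 LD3_c45)) :=
  Lgr Lrot36 (Lpr_bt (f274450 IH) (Lpr_at (f259137 IH) (Lpr_bt (f274448 IH) (Lpr_at (f256110 IH) (Lpr_bt (f256114 IH) (Lpn (LP (LK LD1_c2 LD2_c37 LD3_c45))))))))
theorem f171993 : Led Lsl_ft (LP (LK LD1_c1 LD2_c15 LD3_c52)) = (LP (LK LD1_c2 LD2_c37 LD3_c45)) :=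
  Lre_f IH (LK LD1_c1 LD2_c15 LD3_c52) (LK LD1_c2 LD2_c37 LD3_c45) Lrfl Lrfl
theorem f172000 : Led Lsl_et (LP (LK LD1_c0 LD2_c35 LD3_c10)) = (LP (LK LD1_c1 LD2_c15 LD3_c52)) :=
  Lre_e IH (LK LD1_c0 LD2_c35 LD3_c10) (LK LD1_c1 LD2_c15 LD3_c52) Lrfl Lrfl
theorem f257038 : Led Lsl_gt (LP (LK LD1_c1 LD2_c15 LD3_c52)) = (LP (LK LD1_c2 LD2_c35 LD3_c35)) :=
  Lgr Lrot131 (Lpe (f172000 IH) (Lpr_dt (K12.f172020 IH) (Lpe (K13.f171895 IH) (Lpr_df (K14.f243954 IH) (Lpe (K15.f257007 IH) (Lpe (K15.f257029 IH) (Lpr_dt (K15.f257030 IH) (Lpe (K15.f184830 IH) (Lpe (K14.f184829 IH) (Lpr_et (K15.f257037 IH) (Lpn (LP (LK LD1_c2 LD2_c35 LD3_c35)))))))))))))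
theorem f274460 : Led Lsl_gf (LP (LK LD1_c2 LD2_c37 LD3_c55)) = (LP (LK LD1_c2 LD2_c35 LD3_c35)) :=
  Lgr Lrot76 (Lpr_af (f274451 IH) (Lpe (f171993 IH) (Lpr_gt (f257038 IH) (Lpn (LP (LK LD1_c2 LD2_c35 LD3_c35))))))
theorem f256115 : Led Lsl_ct (LP (LK LD1_c1 LD2_c16 LD3_c1)) = (LP (LK LD1_c2 LD2_c37 LD3_c55)) :=
  Lre_c IH (LK LD1_c1 LD2_c16 LD3_c1) (LK LD1_c2 LD2_c37 LD3_c55) Lrfl Lrfl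
theorem f274472 : Led Lsl_gt (LP (LK LD1_c2 LD2_c37 LD3_c45)) = (LP (LK LD1_c2 LD2_c37 LD3_c53)) :=
  Lgr Lrot82 (Lpe (f256114 IH) (Lpr_ct (f256115 IH) (Lpr_gf (f274460 IH) (Lpe (K10.f184871 IH) (Lpe (K14.f189780 IH) (Lpr_gf (K15.f259697 IH) (Lpe (K15.f188526 IH) (Lpe (K10.f167802 IH) (Lpe (K15.f258003 IH) (Lpe (K15.f257984 IH) (Lpn (LP (LK LD1_c2 LD2_c37 LD3_c53)))))))))))))
theorem f183593 : Led Lsl_dt (LP (LK LD1_c4 LD2_c6 LD3_c33)) = (LP (LK LD1_c8 LD2_c13 LD3_c39)) :=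
  Lre_d IH (LK LD1_c4 LD2_c6 LD3_c33) (LK LD1_c8 LD2_c13 LD3_c39) Lrfl Lrfl
theorem f274481 : Led Lsl_df (LP (LK LD1_c2 LD2_c37 LD3_c45)) = (LP (LK LD1_c2 LD2_c58 LD3_c39)) :=
  Lgr Lrot153 (Lpr_gt (f274472 IH) (Lpr_dt (K15.f256096 IH) (Lpe (K15.f257994 IH) (Lpe (f274304 IH) (Lpe (f183594 IH) (Lpe (f183593 IH) (Lpr_gf (K11.f183591 IH) (Lpe (K10.f28664 IH) (Lpr_gt (K10.f194189 IH) (Lpn (LP (LK LD1_c2 LD2_c58 LD3_c39))))))))))))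
theorem f48133 : Led Lsl_et (LP (LK LD1_c2 LD2_c37 LD3_c13)) = (LP (LK LD1_c2 LD2_c7 LD3_c56)) :=
  Lgr Lrot87 (Lpr_ef (K12.f48127 IH) (Lpn (LP (LK LD1_c2 LD2_c7 LD3_c56))))
theorem f48132 : Led Lsl_dt (LP (LK LD1_c2 LD2_c37 LD3_c13)) = (LP (LK LD1_c1 LD2_c15 LD3_c37)) :=
  Lre_d IH (LK LD1_c2 LD2_c37 LD3_c13) (LK LD1_c1 LD2_c15 LD3_c37) Lrfl Lrfl
theorem f212497 : Led Lsl_et (LP (LK LD1_c1 LD2_c58 LD3_c49)) = (LP (LK LD1_c4 LD2_c3 LD3_c41)) :=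
  Lre_e IH (LK LD1_c1 LD2_c58 LD3_c49) (LK LD1_c4 LD2_c3 LD3_c41) Lrfl Lrfl
theorem f212498 : Led Lsl_gt (LP (LK LD1_c8 LD2_c7 LD3_c53)) = (LP (LK LD1_c4 LD2_c3 LD3_c41)) :=
  Lre_g IH (LK LD1_c8 LD2_c7 LD3_c53) (LK LD1_c4 LD2_c3 LD3_c41) Lrfl Lrfl
theorem f274485 : Led Lsl_ef (LP (LK LD1_c8 LD2_c7 LD3_c53)) = (LP (LK LD1_c5 LD2_c22 LD3_c43)) :=
  Lgr Lrot114 (Lpr_gt (f212498 IH) (Lpe (f212497 IH) (Lpr_dt (K12.f201103 IH) (Lpe (K12.f212487 IH) (Lpe (f48132 IH) (Lpr_et (f48133 IH) (Lpr_gt (K10.f194189 IH) (Lpe (f274481 IH) (Lpr_gt (f274472 IH) (Lpe (K15.f256095 IH) (Lpn (LP (LK LD1_c5 LD2_c22 LD3_c43)))))))))))))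
theorem f274503 : Led Lsl_et (LP (LK LD1_c8 LD2_c7 LD3_c53)) = (LP (LK LD1_c5 LD2_c22 LD3_c43)) :=
  Lgr Lrot87 (Lpr_ef (f274485 IH) (Lpn (LP (LK LD1_c5 LD2_c22 LD3_c43))))
theorem f274507 : Led Lsl_df (LP (LK LD1_c8 LD2_c7 LD3_c53)) = (LP (LK LD1_c8 LD2_c29 LD3_c46)) :=
  Lgr Lrot70 (Lpr_et (f274503 IH) (Lpr_dt (K15.f256095 IH) (Lpr_et (K15.f257987 IH) (Lpr_dt (K15.f257974 IH) (Lpr_et (f222037 IH) (Lpn (LP (LK LD1_c8 LD2_c29 LD3_c46))))))))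
theorem f256840 : Led Lsl_et (LP (LK LD1_c10 LD2_c0 LD3_c55)) = (LP (LK LD1_c5 LD2_c4 LD3_c55)) :=
  Lre_e IH (LK LD1_c10 LD2_c0 LD3_c55) (LK LD1_c5 LD2_c4 LD3_c55) Lrfl Lrfl
theorem f274497 : Led Lsl_at (LP (LK LD1_c8 LD2_c7 LD3_c53)) = (LP (LK LD1_c10 LD2_c0 LD3_c55)) :=
  Lgr Lrot80 (Lpr_ef (f274485 IH) (Lpr_af (f271251 IH) (Lpe (f256840 IH) (Lpn (LP (LK LD1_c10 LD2_c0 LD3_c55))))))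
theorem f270524 : Led Lsl_af (LP (LK LD1_c8 LD2_c29 LD3_c46)) = (LP (LK LD1_c7 LD2_c55 LD3_c44)) :=
  Lgr Lrot0 (Lpr_at (f270522 IH) (Lpn (LP (LK LD1_c7 LD2_c55 LD3_c44))))
theorem f274509 : Led Lsl_dt (LP (LK LD1_c10 LD2_c0 LD3_c55)) = (LP (LK LD1_c7 LD2_c55 LD3_c44)) :=
  Lgr Lrot44 (Lpe (f274497 IH) (Lpr_df (f274507 IH) (Lpr_af (f270524 IH) (Lpn (LP (LK LD1_c7 LD2_c55 LD3_c44))))))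
theorem f274526 : Led Lsl_df (LP (LK LD1_c10 LD2_c0 LD3_c55)) = (LP (LK LD1_c7 LD2_c55 LD3_c44)) :=
  Lgr Lrot38 (Lpr_dt (f274509 IH) (Lpn (LP (LK LD1_c7 LD2_c55 LD3_c44))))
theorem f274530 : Led Lsl_gt (LP (LK LD1_c10 LD2_c0 LD3_c55)) = (LP (LK LD1_c8 LD2_c7 LD3_c46)) :=
  Lgr Lrot112 (Lpr_df (f274526 IH) (Lpr_et (f232879 IH) (Lpe (K13.f232864 IH) (Lpe (K1.f42074 IH) (Lpr_dt (K14.f219462 IH) (Lpr_gf (K12.f219584 IH) (Lpe (K15.f219590 IH) (Lpe (K15.f219591 IH) (Lpe (K15.f219602 IH) (Lpe (K15.f261006 IH) (Lpn (LP (LK LD1_c8 LD2_c7 LD3_c46)))))))))))))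
theorem f271248 : Led Lsl_et (LP (LK LD1_c5 LD2_c4 LD3_c55)) = (LP (LK LD1_c10 LD2_c0 LD3_c55)) :=
  Lre_e IH (LK LD1_c5 LD2_c4 LD3_c55) (LK LD1_c10 LD2_c0 LD3_c55) Lrfl Lrfl
theorem f258007 : Led Lsl_ff (LP (LK LD1_c2 LD2_c37 LD3_c53)) = (LP (LK LD1_c2 LD2_c35 LD3_c35)) :=
  Lgr Lrot23 (Lpr_ct (K15.f257984 IH) (Lpr_ft (K15.f258005 IH) (Lpr_ct (K10.f184871 IH) (Lpn (LP (LK LD1_c2 LD2_c35 LD3_c35))))))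
theorem f271241 : Led Lsl_at (LP (LK LD1_c2 LD2_c37 LD3_c53)) = (LP (LK LD1_c2 LD2_c37 LD3_c43)) :=
  Lgr Lrot66 (Lpr_ff (f258007 IH) (Lpe (f258019 IH) (Lpr_ff (f271239 IH) (Lpn (LP (LK LD1_c2 LD2_c37 LD3_c43))))))
theorem f274462 : Led Lsl_gt (LP (LK LD1_c2 LD2_c37 LD3_c55)) = (LP (LK LD1_c2 LD2_c37 LD3_c43)) :=
  Lgr Lrot46 (Lpr_gf (f274460 IH) (Lpe (f258007 IH) (Lpr_at (f271241 IH) (Lpn (LP (LK LD1_c2 LD2_c37 LD3_c43))))))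
theorem f260999 : Led Lsl_et (LP (LK LD1_c4 LD2_c3 LD3_c36)) = (LP (LK LD1_c8 LD2_c7 LD3_c46)) :=
  Lre_e IH (LK LD1_c4 LD2_c3 LD3_c36) (LK LD1_c8 LD2_c7 LD3_c46) Lrfl Lrfl
theorem f274537 : Led Lsl_df (LP (LK LD1_c2 LD2_c37 LD3_c55)) = (LP (LK LD1_c4 LD2_c15 LD3_c4)) :=
  Lgr Lrot135 (Lpr_gt (f274462 IH) (Lpr_df (f264910 IH) (Lpr_et (f271248 IH) (Lpr_gt (f274530 IH) (Lpe (f260999 IH) (Lpr_dt (K15.f256774 IH) (Lpr_gt (K15.f260990 IH) (Lpe (K10.f48044 IH) (Lpr_et (K11.f54371 IH) (Lpr_gt (K13.f54288 IH) (Lpn (LP (LK LD1_c4 LD2_c15 LD3_c4)))))))))))))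
theorem f194243 : Led Lsl_ct (LP (LK LD1_c4 LD2_c6 LD3_c38)) = (LP (LK LD1_c4 LD2_c15 LD3_c4)) :=
  Lgr Lrot59 (Lpr_cf (K13.f194240 IH) (Lpn (LP (LK LD1_c4 LD2_c15 LD3_c4))))
theorem f54964 : Led Lsl_gt (LP (LK LD1_c2 LD2_c0 LD3_c39)) = (LP (LK LD1_c4 LD2_c6 LD3_c38)) :=
  Lre_g IH (LK LD1_c2 LD2_c0 LD3_c39) (LK LD1_c4 LD2_c6 LD3_c38) Lrfl Lrfl
theorem f274545 : Led Lsl_gf (LP (LK LD1_c1 LD2_c16 LD3_c1)) = (LP (LK LD1_c1 LD2_c12 LD3_c12)) :=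
  Lgr Lrot104 (Lpr_ct (f256115 IH) (Lpr_df (f274537 IH) (Lpe (f194243 IH) (Lpe (f54964 IH) (Lpe (K9.f54661 IH) (Lpe (K10.f47454 IH) (Lpe (K12.f187305 IH) (Lpe (K14.f253940 IH) (Lpr_ct (K11.f189565 IH) (Lpn (LP (LK LD1_c1 LD2_c12 LD3_c12))))))))))))
theorem f256113 : Led Lsl_ct (LP (LK LD1_c2 LD2_c37 LD3_c55)) = (LP (LK LD1_c1 LD2_c16 LD3_c1)) :=
  Lre_c IH (LK LD1_c2 LD2_c37 LD3_c55) (LK LD1_c1 LD2_c16 LD3_c1) Lrfl Lrfl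
theorem f185072 : Led Lsl_bt (LP (LK LD1_c0 LD2_c36 LD3_c5)) = (LP (LK LD1_c0 LD2_c16 LD3_c6)) :=
  Lre_b IH (LK LD1_c0 LD2_c36 LD3_c5) (LK LD1_c0 LD2_c16 LD3_c6) Lrfl Lrfl
theorem f189151 : Led Lsl_ct (LP (LK LD1_c2 LD2_c43 LD3_c58)) = (LP (LK LD1_c1 LD2_c18 LD3_c19)) :=
  Lre_c IH (LK LD1_c2 LD2_c43 LD3_c58) (LK LD1_c1 LD2_c18 LD3_c19) Lrfl Lrfl
theorem f274549 : Led Lsl_gt (LP (LK LD1_c5 LD2_c22 LD3_c31)) = (LP (LK LD1_c2 LD2_c43 LD3_c58)) :=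
  Lgr Lrot82 (Lpe (f274450 IH) (Lpr_ct (f256113 IH) (Lpr_gf (f274545 IH) (Lpe (K11.f189565 IH) (Lpr_bt (K12.f185073 IH) (Lpr_gf (K11.f185058 IH) (Lpe (f185072 IH) (Lpe (K15.f189974 IH) (Lpe (K13.f185063 IH) (Lpe (f189151 IH) (Lpn (LP (LK LD1_c2 LD2_c43 LD3_c58)))))))))))))
theorem f251275 : Led Lsl_ct (LP (LK LD1_c2 LD2_c40 LD3_c9)) = (LP (LK LD1_c4 LD2_c12 LD3_c33)) :=
  Lgr Lrot152 (Lpe (K13.f175065 IH) (Lpr_df (K14.f251267 IH) (Lpe (K10.f188040 IH) (Lpr_ct (K9.f49563 IH) (Lpr_gt (K10.f53590 IH) (Lpr_ct (K10.f188055 IH) (Lpr_df (K10.f188524 IH) (Lpe (K10.f188528 IH) (Lpr_gf (K15.f233853 IH) (Lpn (LP (LK LD1_c4 LD2_c12 LD3_c33))))))))))))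
theorem f274551 : Led Lsl_bf (LP (LK LD1_c2 LD2_c43 LD3_c58)) = (LP (LK LD1_c2 LD2_c40 LD3_c9)) :=
  Lgr Lrot34 (Lpe (f274549 IH) (Lpe (f274450 IH) (Lpr_ct (f256113 IH) (Lpr_gf (f274545 IH) (Lpe (K11.f189565 IH) (Lpr_gf (K14.f253940 IH) (Lpr_bf (K10.f188574 IH) (Lpr_ct (K15.f188579 IH) (Lpr_gf (K15.f233853 IH) (Lpe (f251275 IH) (Lpn (LP (LK LD1_c2 LD2_c40 LD3_c9)))))))))))))
theorem f246263 : Led Lsl_df (LP (LK LD1_c2 LD2_c40 LD3_c9)) = (LP (LK LD1_c2 LD2_c39 LD3_c30)) :=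
  Lgr Lrot38 (Lpr_dt (K13.f246261 IH) (Lpn (LP (LK LD1_c2 LD2_c39 LD3_c30))))
theorem f274556 : Led Lsl_bt (LP (LK LD1_c4 LD2_c2 LD3_c58)) = (LP (LK LD1_c2 LD2_c39 LD3_c30)) :=
  Lgr Lrot95 (Lpe (K15.f238569 IH) (Lpr_bf (f274551 IH) (Lpr_df (f246263 IH) (Lpn (LP (LK LD1_c2 LD2_c39 LD3_c30))))))
theorem f182500 : Led Lsl_bt (LP (LK LD1_c0 LD2_c35 LD3_c26)) = (LP (LK LD1_c1 LD2_c16 LD3_c31)) :=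
  Lre_b IH (LK LD1_c0 LD2_c35 LD3_c26) (LK LD1_c1 LD2_c16 LD3_c31) Lrfl Lrfl
theorem f169067 : Led Lsl_bt (LP (LK LD1_c1 LD2_c25 LD3_c29)) = (LP (LK LD1_c0 LD2_c39 LD3_c24)) :=
  Lre_b IH (LK LD1_c1 LD2_c25 LD3_c29) (LK LD1_c0 LD2_c39 LD3_c24) Lrfl Lrfl
theorem f169071 : Led Lsl_gt (LP (LK LD1_c6 LD2_c6 LD3_c58)) = (LP (LK LD1_c2 LD2_c59 LD3_c36)) :=
  Lre_g IH (LK LD1_c6 LD2_c6 LD3_c58) (LK LD1_c2 LD2_c59 LD3_c36) Lrfl Lrfl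
theorem f274562 : Led Lsl_ct (LP (LK LD1_c4 LD2_c2 LD3_c58)) = (LP (LK LD1_c6 LD2_c6 LD3_c58)) :=
  Lgr Lrot64 (Lpr_bt (f274556 IH) (Lpe (K13.f182501 IH) (Lpe (f182500 IH) (Lpr_ct (K14.f182488 IH) (Lpr_gf (K11.f182494 IH) (Lpe (K11.f169066 IH) (Lpr_gf (K11.f169006 IH) (Lpe (f169067 IH) (Lpr_ct (K15.f169070 IH) (Lpe (f169071 IH) (Lpn (LP (LK LD1_c6 LD2_c6 LD3_c58)))))))))))))
theorem f231718 : Led Lsl_bt (LP (LK LD1_c2 LD2_c4 LD3_c50)) = (LP (LK LD1_c2 LD2_c1 LD3_c10)) :=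
  Lgr Lrot127 (Lpr_bf (K15.f231712 IH) (Lpn (LP (LK LD1_c2 LD2_c1 LD3_c10))))
theorem f274564 : Led Lsl_gf (LP (LK LD1_c6 LD2_c6 LD3_c58)) = (LP (LK LD1_c4 LD2_c50 LD3_c38)) :=
  Lgr Lrot129 (Lpe (f274562 IH) (Lpr_bt (f274556 IH) (Lpe (K13.f214718 IH) (Lpe (f231718 IH) (Lpr_ct (K15.f49075 IH) (Lpe (K15.f263666 IH) (Lpe (K15.f263658 IH) (Lpr_bt (K15.f265610 IH) (Lpe (K15.f265611 IH) (Lpr_ct (K15.f265602 IH) (Lpn (LP (LK LD1_c4 LD2_c50 LD3_c38)))))))))))))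
theorem f233736 : Led Lsl_et (LP (LK LD1_c2 LD2_c1 LD3_c60)) = (LP (LK LD1_c4 LD2_c9 LD3_c17)) :=
  Lre_e IH (LK LD1_c2 LD2_c1 LD3_c60) (LK LD1_c4 LD2_c9 LD3_c17) Lrfl Lrfl
theorem f238565 : Led Lsl_df (LP (LK LD1_c2 LD2_c43 LD3_c58)) = (LP (LK LD1_c4 LD2_c2 LD3_c58)) :=
  Lgr Lrot70 (Lpe (K13.f233733 IH) (Lpr_dt (K13.f167272 IH) (Lpr_et (f233736 IH) (Lpe (K15.f238527 IH) (Lpr_et (K15.f238562 IH) (Lpn (LP (LK LD1_c4 LD2_c2 LD3_c58))))))))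
theorem f274568 : Led Lsl_ct (LP (LK LD1_c6 LD2_c6 LD3_c58)) = (LP (LK LD1_c4 LD2_c2 LD3_c58)) :=
  Lgr Lrot110 (Lpr_gf (f274564 IH) (Lpe (K15.f265602 IH) (Lpr_gf (K15.f265611 IH) (Lpe (K15.f177444 IH) (Lpr_gt (K15.f199551 IH) (Lpe (K15.f199549 IH) (Lpr_gt (K13.f189253 IH) (Lpr_ct (K13.f189150 IH) (Lpr_df (f238565 IH) (Lpn (LP (LK LD1_c4 LD2_c2 LD3_c58))))))))))))
theorem f194410 : Led Lsl_dt (LP (LK LD1_c8 LD2_c6 LD3_c35)) = (LP (LK LD1_c4 LD2_c2 LD3_c59)) :=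
  Lre_d IH (LK LD1_c8 LD2_c6 LD3_c35) (LK LD1_c4 LD2_c2 LD3_c59) Lrfl Lrfl
theorem f274570 : Led Lsl_cf (LP (LK LD1_c8 LD2_c6 LD3_c35)) = (LP (LK LD1_c9 LD2_c33 LD3_c40)) :=
  Lgr Lrot175 (Lpr_dt (f194410 IH) (Lpe (K15.f50809 IH) (Lpe (K15.f51251 IH) (Lpe (f274568 IH) (Lpr_gf (f274564 IH) (Lpr_dt (K15.f265637 IH) (Lpr_gt (K15.f50389 IH) (Lpr_ct (K10.f50982 IH) (Lpr_gt (K15.f51002 IH) (Lpn (LP (LK LD1_c9 LD2_c33 LD3_c40))))))))))))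
theorem f27668 : Led Lsl_dt (LP (LK LD1_c4 LD2_c50 LD3_c41)) = (LP (LK LD1_c9 LD2_c33 LD3_c29)) :=
  Lre_d IH (LK LD1_c4 LD2_c50 LD3_c41) (LK LD1_c9 LD2_c33 LD3_c29) Lrfl Lrfl
theorem f274592 : Led Lsl_ct (LP (LK LD1_c8 LD2_c6 LD3_c56)) = (LP (LK LD1_c9 LD2_c33 LD3_c29)) :=
  Lgr Lrot7 (Lpe (K15.f195957 IH) (Lpr_gf (K13.f195955 IH) (Lpe (K10.f27601 IH) (Lpe (K15.f259142 IH) (Lpr_cf (f274570 IH) (Lpr_gt (K15.f27683 IH) (Lpr_dt (K10.f27648 IH) (Lpr_gt (K13.f27667 IH) (Lpr_dt (f27668 IH) (Lpn (LP (LK LD1_c9 LD2_c33 LD3_c29))))))))))))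
theorem f274596 : Led Lsl_cf (LP (LK LD1_c8 LD2_c6 LD3_c56)) = (LP (LK LD1_c9 LD2_c33 LD3_c29)) :=
  Lgr Lrot11 (Lpr_ct (f274592 IH) (Lpn (LP (LK LD1_c9 LD2_c33 LD3_c29))))
theorem f274566 : Led Lsl_dt (LP (LK LD1_c6 LD2_c6 LD3_c58)) = (LP (LK LD1_c11 LD2_c4 LD3_c38)) :=
  Lgr Lrot57 (Lpr_gf (f274564 IH) (Lpe (K15.f265602 IH) (Lpe (K15.f265596 IH) (Lpr_dt (K13.f189247 IH) (Lpr_gt (K13.f185063 IH) (Lpr_dt (K10.f187613 IH) (Lpe (K15.f178249 IH) (Lpe (K15.f178250 IH) (Lpe (K15.f178251 IH) (Lpn (LP (LK LD1_c11 LD2_c4 LD3_c38))))))))))))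
theorem f265631 : Led Lsl_gf (LP (LK LD1_c4 LD2_c2 LD3_c58)) = (LP (LK LD1_c1 LD2_c58 LD3_c32)) :=
  Lgr Lrot143 (Lpe (f238565 IH) (Lpe (K13.f189150 IH) (Lpe (K13.f189247 IH) (Lpr_gf (K15.f265596 IH) (Lpe (K15.f51044 IH) (Lpr_gf (K15.f265629 IH) (Lpr_cf (K9.f50910 IH) (Lpr_gt (K10.f28064 IH) (Lpr_dt (K14.f28065 IH) (Lpn (LP (LK LD1_c1 LD2_c58 LD3_c32))))))))))))
theorem f252997 : Led Lsl_dt (LP (LK LD1_c9 LD2_c53 LD3_c17)) = (LP (LK LD1_c5 LD2_c1 LD3_c30)) :=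
  Lre_d IH (LK LD1_c9 LD2_c53 LD3_c17) (LK LD1_c5 LD2_c1 LD3_c30) Lrfl Lrfl
theorem f274639 : Led Lsl_gt (LP (LK LD1_c9 LD2_c53 LD3_c17)) = (LP (LK LD1_c9 LD2_c33 LD3_c29)) :=
  Lgr Lrot146 (Lpr_dt (f252997 IH) (Lpe (K14.f253033 IH) (Lpr_ct (K14.f187856 IH) (Lpe (f265631 IH) (Lpr_ct (f274562 IH) (Lpr_dt (f274566 IH) (Lpe (K15.f216492 IH) (Lpe (K15.f195958 IH) (Lpr_cf (f274596 IH) (Lpn (LP (LK LD1_c9 LD2_c33 LD3_c29))))))))))))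
theorem f253035 : Led Lsl_dt (LP (LK LD1_c5 LD2_c1 LD3_c30)) = (LP (LK LD1_c9 LD2_c53 LD3_c17)) :=
  Lre_d IH (LK LD1_c5 LD2_c1 LD3_c30) (LK LD1_c9 LD2_c53 LD3_c17) Lrfl Lrfl
theorem f274644 : Led Lsl_df (LP (LK LD1_c6 LD2_c6 LD3_c58)) = (LP (LK LD1_c11 LD2_c4 LD3_c38)) :=
  Lgr Lrot162 (Lpe (f274562 IH) (Lpr_gf (f265631 IH) (Lpe (K14.f187856 IH) (Lpr_gf (K14.f253033 IH) (Lpr_dt (f253035 IH) (Lpr_gt (f274639 IH) (Lpe (f274596 IH) (Lpr_gt (K15.f195958 IH) (Lpr_ct (K15.f216492 IH) (Lpn (LP (LK LD1_c11 LD2_c4 LD3_c38))))))))))))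
theorem f216495 : Led Lsl_cf (LP (LK LD1_c11 LD2_c4 LD3_c32)) = (LP (LK LD1_c11 LD2_c4 LD3_c38)) :=
  Lgr Lrot11 (Lpr_ct (K15.f216492 IH) (Lpn (LP (LK LD1_c11 LD2_c4 LD3_c38))))
theorem f194392 : Led Lsl_dt (LP (LK LD1_c4 LD2_c3 LD3_c8)) = (LP (LK LD1_c8 LD2_c6 LD3_c50)) :=
  Lre_d IH (LK LD1_c4 LD2_c3 LD3_c8) (LK LD1_c8 LD2_c6 LD3_c50) Lrfl Lrfl
theorem f194761 : Led Lsl_dt (LP (LK LD1_c4 LD2_c50 LD3_c42)) = (LP (LK LD1_c9 LD2_c33 LD3_c32)) :=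
  Lre_d IH (LK LD1_c4 LD2_c50 LD3_c42) (LK LD1_c9 LD2_c33 LD3_c32) Lrfl Lrfl
theorem f216276 : Led Lsl_ct (LP (LK LD1_c8 LD2_c6 LD3_c50)) = (LP (LK LD1_c9 LD2_c33 LD3_c32)) :=
  Lgr Lrot7 (Lpe (f194392 IH) (Lpe (K15.f194385 IH) (Lpe (K10.f50908 IH) (Lpr_gf (K14.f216254 IH) (Lpe (K14.f196001 IH) (Lpr_gt (K14.f51278 IH) (Lpr_dt (K10.f51015 IH) (Lpe (K11.f198857 IH) (Lpr_dt (f194761 IH) (Lpn (LP (LK LD1_c9 LD2_c33 LD3_c32))))))))))))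
theorem f216503 : Led Lsl_gf (LP (LK LD1_c11 LD2_c4 LD3_c38)) = (LP (LK LD1_c8 LD2_c27 LD3_c24)) :=
  Lgr Lrot147 (Lpe (f216495 IH) (Lpr_gt (K15.f216500 IH) (Lpr_ct (f216276 IH) (Lpe (f194761 IH) (Lpr_cf (K10.f194759 IH) (Lpe (K10.f194753 IH) (Lpe (K10.f50337 IH) (Lpe (K10.f189976 IH) (Lpe (K15.f189981 IH) (Lpn (LP (LK LD1_c8 LD2_c27 LD3_c24))))))))))))
theorem f274652 : Led Lsl_gt (LP (LK LD1_c1 LD2_c25 LD3_c29)) = (LP (LK LD1_c2 LD2_c43 LD3_c56)) :=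
  Lgr Lrot150 (Lpe (K15.f169068 IH) (Lpe (f169071 IH) (Lpr_df (f274644 IH) (Lpr_gt (K15.f178251 IH) (Lpe (K15.f216474 IH) (Lpe (f216503 IH) (Lpe (f216495 IH) (Lpe (K15.f195965 IH) (Lpe (K15.f177445 IH) (Lpn (LP (LK LD1_c2 LD2_c43 LD3_c56))))))))))))
theorem f27592 : Led Lsl_at (LP (LK LD1_c1 LD2_c8 LD3_c42)) = (LP (LK LD1_c0 LD2_c59 LD3_c18)) :=
  Lgr Lrot100 (Lpr_af (K0.f27588 IH) (Lpn (LP (LK LD1_c0 LD2_c59 LD3_c18))))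
theorem f183821 : Led Lsl_gf (LP (LK LD1_c0 LD2_c39 LD3_c23)) = (LP (LK LD1_c0 LD2_c31 LD3_c25)) :=
  Lgr Lrot47 (Lpr_gt (K9.f183819 IH) (Lpe (f27592 IH) (Lpe (K14.f27552 IH) (Lpn (LP (LK LD1_c0 LD2_c31 LD3_c25))))))
theorem f27541 : Led Lsl_at (LP (LK LD1_c0 LD2_c11 LD3_c54)) = (LP (LK LD1_c0 LD2_c5 LD3_c31)) :=
  Lre_a IH (LK LD1_c0 LD2_c11 LD3_c54) (LK LD1_c0 LD2_c5 LD3_c31) Lrfl Lrfl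
theorem f27542 : Led Lsl_dt (LP (LK LD1_c0 LD2_c13 LD3_c57)) = (LP (LK LD1_c0 LD2_c11 LD3_c54)) :=
  Lgr Lrot44 (Lpr_af (K0.f27535 IH) (Lpe (K0.f8094 IH) (Lpe (f27541 IH) (Lpn (LP (LK LD1_c0 LD2_c11 LD3_c54))))))
theorem f3721 : Led Lsl_gt (LP (LK LD1_c1 LD2_c11 LD3_c17)) = (LP (LK LD1_c0 LD2_c33 LD3_c3)) :=
  Lre_g IH (LK LD1_c1 LD2_c11 LD3_c17) (LK LD1_c0 LD2_c33 LD3_c3) Lrfl Lrfl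
theorem f274661 : Led Lsl_ef (LP (LK LD1_c1 LD2_c11 LD3_c17)) = (LP (LK LD1_c1 LD2_c18 LD3_c18)) :=
  Lgr Lrot114 (Lpr_gt (f3721 IH) (Lpe (K0.f3715 IH) (Lpe (K13.f33551 IH) (Lpr_gt (K0.f27768 IH) (Lpe (f27542 IH) (Lpr_et (K0.f27544 IH) (Lpe (f183821 IH) (Lpr_dt (K14.f168942 IH) (Lpr_gt (f274652 IH) (Lpe (K15.f177444 IH) (Lpn (LP (LK LD1_c1 LD2_c18 LD3_c18)))))))))))))
theorem f33333 : Led Lsl_ef (LP (LK LD1_c0 LD2_c33 LD3_c7)) = (LP (LK LD1_c0 LD2_c33 LD3_c7)) :=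
  Lgr Lrot20 (Lpr_at (K9.f3303 IH) (Lpr_et (K0.f33331 IH) (Lpr_at (K0.f3304 IH) (Lpn (LP (LK LD1_c0 LD2_c33 LD3_c7))))))
theorem f213491 : Led Lsl_df (LP (LK LD1_c2 LD2_c28 LD3_c9)) = (LP (LK LD1_c4 LD2_c19 LD3_c4)) :=
  Lgr Lrot155 (Lpr_gt (K14.f3333 IH) (Lpr_ct (K0.f3308 IH) (Lpr_gt (K10.f3391 IH) (Lpe (K15.f192944 IH) (Lpe (K10.f186857 IH) (Lpe (K10.f33383 IH) (Lpr_gf (K15.f213487 IH) (Lpr_cf (K15.f205059 IH) (Lpe (K15.f171307 IH) (Lpn (LP (LK LD1_c4 LD2_c19 LD3_c4))))))))))))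
theorem f265622 : Led Lsl_et (LP (LK LD1_c1 LD2_c8 LD3_c40)) = (LP (LK LD1_c2 LD2_c23 LD3_c7)) :=
  Lre_e IH (LK LD1_c1 LD2_c8 LD3_c40) (LK LD1_c2 LD2_c23 LD3_c7) Lrfl Lrfl
theorem f274667 : Led Lsl_gf (LP (LK LD1_c4 LD2_c19 LD3_c4)) = (LP (LK LD1_c2 LD2_c23 LD3_c7)) :=
  Lgr Lrot138 (Lpe (f213491 IH) (Lpr_gt (K14.f3333 IH) (Lpe (K0.f3307 IH) (Lpe (f33333 IH) (Lpr_gt (K14.f3331 IH) (Lpr_ef (f274661 IH) (Lpr_dt (K15.f177444 IH) (Lpe (K15.f265611 IH) (Lpe (K15.f51044 IH) (Lpr_et (f265622 IH) (Lpn (LP (LK LD1_c2 LD2_c23 LD3_c7)))))))))))))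
theorem f274673 : Led Lsl_dt (LP (LK LD1_c2 LD2_c28 LD3_c17)) = (LP (LK LD1_c2 LD2_c23 LD3_c7)) :=
  Lgr Lrot57 (Lpe (K15.f3734 IH) (Lpe (K14.f184759 IH) (Lpr_gt (K15.f240164 IH) (Lpr_dt (K15.f247741 IH) (Lpe (K15.f266016 IH) (Lpr_dt (K15.f186870 IH) (Lpe (K12.f186852 IH) (Lpr_df (f213491 IH) (Lpr_gf (f274667 IH) (Lpn (LP (LK LD1_c2 LD2_c23 LD3_c7))))))))))))
theorem f170545 : Led Lsl_et (LP (LK LD1_c5 LD2_c1 LD3_c4)) = (LP (LK LD1_c2 LD2_c28 LD3_c17)) :=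
  Lre_e IH (LK LD1_c5 LD2_c1 LD3_c4) (LK LD1_c2 LD2_c28 LD3_c17) Lrfl Lrfl
theorem f265626 : Led Lsl_et (LP (LK LD1_c2 LD2_c23 LD3_c7)) = (LP (LK LD1_c1 LD2_c8 LD3_c40)) :=
  Lre_e IH (LK LD1_c2 LD2_c23 LD3_c7) (LK LD1_c1 LD2_c8 LD3_c40) Lrfl Lrfl
theorem f224861 : Led Lsl_et (LP (LK LD1_c2 LD2_c23 LD3_c6)) = (LP (LK LD1_c4 LD2_c50 LD3_c39)) :=
  Lre_e IH (LK LD1_c2 LD2_c23 LD3_c6) (LK LD1_c4 LD2_c50 LD3_c39) Lrfl Lrfl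
theorem f274686 : Led Lsl_df (LP (LK LD1_c5 LD2_c1 LD3_c4)) = (LP (LK LD1_c4 LD2_c50 LD3_c39)) :=
  Lgr Lrot70 (Lpr_et (f170545 IH) (Lpr_dt (f274673 IH) (Lpr_et (f265626 IH) (Lpr_dt (K15.f51044 IH) (Lpr_et (f224861 IH) (Lpn (LP (LK LD1_c4 LD2_c50 LD3_c39))))))))
theorem f263281 : Led Lsl_gt (LP (LK LD1_c5 LD2_c1 LD3_c4)) = (LP (LK LD1_c9 LD2_c52 LD3_c33)) :=
  Lre_g IH (LK LD1_c5 LD2_c1 LD3_c4) (LK LD1_c9 LD2_c52 LD3_c33) Lrfl Lrfl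
theorem f243708 : Led Lsl_et (LP (LK LD1_c1 LD2_c19 LD3_c5)) = (LP (LK LD1_c2 LD2_c45 LD3_c25)) :=
  Lre_e IH (LK LD1_c1 LD2_c19 LD3_c5) (LK LD1_c2 LD2_c45 LD3_c25) Lrfl Lrfl
theorem f27661 : Led Lsl_et (LP (LK LD1_c1 LD2_c8 LD3_c41)) = (LP (LK LD1_c0 LD2_c59 LD3_c1)) :=
  Lgr Lrot158 (Lpe (K10.f27659 IH) (Lpr_ef (K0.f27653 IH) (Lpe (K10.f27660 IH) (Lpn (LP (LK LD1_c0 LD2_c59 LD3_c1))))))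
theorem f243717 : Led Lsl_gt (LP (LK LD1_c2 LD2_c45 LD3_c25)) = (LP (LK LD1_c4 LD2_c50 LD3_c39)) :=
  Lgr Lrot131 (Lpe (f243708 IH) (Lpr_dt (K13.f243658 IH) (Lpe (K13.f197267 IH) (Lpe (K13.f224856 IH) (Lpr_gf (K12.f223735 IH) (Lpe (f27661 IH) (Lpr_dt (K10.f27585 IH) (Lpe (K15.f43903 IH) (Lpe (K15.f51043 IH) (Lpr_et (f224861 IH) (Lpn (LP (LK LD1_c4 LD2_c50 LD3_c39)))))))))))))
theorem f168795 : Led Lsl_gt (LP (LK LD1_c4 LD2_c55 LD3_c54)) = (LP (LK LD1_c2 LD2_c25 LD3_c44)) :=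
  Lre_g IH (LK LD1_c4 LD2_c55 LD3_c54) (LK LD1_c2 LD2_c25 LD3_c44) Lrfl Lrfl
theorem f243716 : Led Lsl_et (LP (LK LD1_c9 LD2_c43 LD3_c33)) = (LP (LK LD1_c4 LD2_c55 LD3_c54)) :=
  Lre_e IH (LK LD1_c9 LD2_c43 LD3_c33) (LK LD1_c4 LD2_c55 LD3_c54) Lrfl Lrfl
theorem f274709 : Led Lsl_df (LP (LK LD1_c9 LD2_c52 LD3_c33)) = (LP (LK LD1_c9 LD2_c43 LD3_c33)) :=
  Lgr Lrot132 (Lpe (f263281 IH) (Lpr_df (f274686 IH) (Lpe (f243717 IH) (Lpe (f243708 IH) (Lpr_dt (K13.f243658 IH) (Lpe (K13.f197267 IH) (Lpe (K13.f224856 IH) (Lpr_et (K13.f224869 IH) (Lpe (f168795 IH) (Lpe (f243716 IH) (Lpn (LP (LK LD1_c9 LD2_c43 LD3_c33)))))))))))))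
theorem f274734 : Led Lsl_dt (LP (LK LD1_c9 LD2_c52 LD3_c33)) = (LP (LK LD1_c9 LD2_c43 LD3_c33)) :=
  Lgr Lrot42 (Lpr_df (f274709 IH) (Lpn (LP (LK LD1_c9 LD2_c43 LD3_c33))))
theorem f201015 : Led Lsl_ct (LP (LK LD1_c2 LD2_c45 LD3_c25)) = (LP (LK LD1_c5 LD2_c38 LD3_c55)) :=
  Lre_c IH (LK LD1_c2 LD2_c45 LD3_c25) (LK LD1_c5 LD2_c38 LD3_c55) Lrfl Lrfl
theorem f243728 : Led Lsl_gt (LP (LK LD1_c5 LD2_c38 LD3_c55)) = (LP (LK LD1_c11 LD2_c8 LD3_c43)) :=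
  Lre_g IH (LK LD1_c5 LD2_c38 LD3_c55) (LK LD1_c11 LD2_c8 LD3_c43) Lrfl Lrfl
theorem f243729 : Led Lsl_dt (LP (LK LD1_c11 LD2_c8 LD3_c43)) = (LP (LK LD1_c20 LD2_c2 LD3_c20)) :=
  Lre_d IH (LK LD1_c11 LD2_c8 LD3_c43) (LK LD1_c20 LD2_c2 LD3_c20) Lrfl Lrfl
theorem f274732 : Led Lsl_ct (LP (LK LD1_c17 LD2_c52 LD3_c49)) = (LP (LK LD1_c9 LD2_c43 LD3_c33)) :=
  Lre_c IH (LK LD1_c17 LD2_c52 LD3_c49) (LK LD1_c9 LD2_c43 LD3_c33) Lrfl Lrfl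
theorem f274733 : Led Lsl_dt (LP (LK LD1_c27 LD2_c38 LD3_c58)) = (LP (LK LD1_c17 LD2_c52 LD3_c49)) :=
  Lre_d IH (LK LD1_c27 LD2_c38 LD3_c58) (LK LD1_c17 LD2_c52 LD3_c49) Lrfl Lrfl
theorem f274740 : Led Lsl_gt (LP (LK LD1_c20 LD2_c2 LD3_c20)) = (LP (LK LD1_c27 LD2_c38 LD3_c58)) :=
  Lgr Lrot49 (Lpe (f243729 IH) (Lpe (f243728 IH) (Lpe (f201015 IH) (Lpr_gt (f243717 IH) (Lpe (f274686 IH) (Lpr_gt (f263281 IH) (Lpr_dt (f274734 IH) (Lpe (f274732 IH) (Lpe (f274733 IH) (Lpn (LP (LK LD1_c27 LD2_c38 LD3_c58))))))))))))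
theorem f216194 : Led Lsl_df (LP (LK LD1_c9 LD2_c33 LD3_c40)) = (LP (LK LD1_c6 LD2_c4 LD3_c46)) :=
  Lgr Lrot38 (Lpr_dt (K15.f216189 IH) (Lpn (LP (LK LD1_c6 LD2_c4 LD3_c46))))
theorem f243654 : Led Lsl_dt (LP (LK LD1_c2 LD2_c45 LD3_c24)) = (LP (LK LD1_c4 LD2_c4 LD3_c23)) :=
  Lgr Lrot105 (Lpr_gf (K13.f243650 IH) (Lpr_df (K11.f200801 IH) (Lpe (K11.f200796 IH) (Lpe (K11.f52667 IH) (Lpr_gt (K11.f190952 IH) (Lpr_dt (K13.f196934 IH) (Lpr_gt (K12.f226883 IH) (Lpe (K12.f226885 IH) (Lpe (K15.f200701 IH) (Lpn (LP (LK LD1_c4 LD2_c4 LD3_c23))))))))))))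
theorem f244050 : Led Lsl_et (LP (LK LD1_c2 LD2_c45 LD3_c24)) = (LP (LK LD1_c5 LD2_c38 LD3_c55)) :=
  Lre_e IH (LK LD1_c2 LD2_c45 LD3_c24) (LK LD1_c5 LD2_c38 LD3_c55) Lrfl Lrfl
theorem f244109 : Led Lsl_et (LP (LK LD1_c6 LD2_c4 LD3_c46)) = (LP (LK LD1_c11 LD2_c8 LD3_c43)) :=
  Lgr Lrot122 (Lpe (f216194 IH) (Lpr_gt (K15.f27683 IH) (Lpe (K10.f27663 IH) (Lpr_et (K0.f27664 IH) (Lpr_gt (K12.f223590 IH) (Lpe (K12.f223593 IH) (Lpr_gt (K15.f243958 IH) (Lpe (f243654 IH) (Lpr_et (f244050 IH) (Lpr_gt (f243728 IH) (Lpn (LP (LK LD1_c11 LD2_c8 LD3_c43)))))))))))))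
theorem f244120 : Led Lsl_ef (LP (LK LD1_c6 LD2_c4 LD3_c46)) = (LP (LK LD1_c11 LD2_c8 LD3_c43)) :=
  Lgr Lrot88 (Lpr_et (f244109 IH) (Lpn (LP (LK LD1_c11 LD2_c8 LD3_c43))))
theorem f265613 : Led Lsl_gf (LP (LK LD1_c6 LD2_c4 LD3_c46)) = (LP (LK LD1_c5 LD2_c36 LD3_c6)) :=
  Lgr Lrot144 (Lpe (f216194 IH) (Lpr_gt (K15.f27683 IH) (Lpr_dt (K10.f27648 IH) (Lpe (K0.f27646 IH) (Lpe (K10.f1614 IH) (Lpe (K15.f43903 IH) (Lpe (K15.f51043 IH) (Lpr_gf (K15.f265611 IH) (Lpe (K15.f189272 IH) (Lpn (LP (LK LD1_c5 LD2_c36 LD3_c6))))))))))))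
theorem f259096 : Led Lsl_et (LP (LK LD1_c11 LD2_c4 LD3_c33)) = (LP (LK LD1_c5 LD2_c36 LD3_c6)) :=
  Lre_e IH (LK LD1_c11 LD2_c4 LD3_c33) (LK LD1_c5 LD2_c36 LD3_c6) Lrfl Lrfl
theorem f259097 : Led Lsl_dt (LP (LK LD1_c11 LD2_c4 LD3_c33)) = (LP (LK LD1_c19 LD2_c57 LD3_c13)) :=
  Lre_d IH (LK LD1_c11 LD2_c4 LD3_c33) (LK LD1_c19 LD2_c57 LD3_c13) Lrfl Lrfl
theorem f274739 : Led Lsl_dt (LP (LK LD1_c17 LD2_c52 LD3_c49)) = (LP (LK LD1_c27 LD2_c38 LD3_c58)) :=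
  Lre_d IH (LK LD1_c17 LD2_c52 LD3_c49) (LK LD1_c27 LD2_c38 LD3_c58) Lrfl Lrfl
theorem f274744 : Led Lsl_et (LP (LK LD1_c17 LD2_c52 LD3_c49)) = (LP (LK LD1_c9 LD2_c43 LD3_c32)) :=
  Lre_e IH (LK LD1_c17 LD2_c52 LD3_c49) (LK LD1_c9 LD2_c43 LD3_c32) Lrfl Lrfl
theorem f223606 : Led Lsl_et (LP (LK LD1_c4 LD2_c1 LD3_c5)) = (LP (LK LD1_c8 LD2_c2 LD3_c55)) :=
  Lre_e IH (LK LD1_c4 LD2_c1 LD3_c5) (LK LD1_c8 LD2_c2 LD3_c55) Lrfl Lrfl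
theorem f274745 : Led Lsl_gf (LP (LK LD1_c8 LD2_c2 LD3_c55)) = (LP (LK LD1_c9 LD2_c43 LD3_c32)) :=
  Lgr Lrot141 (Lpe (f223606 IH) (Lpe (K12.f223593 IH) (Lpr_gt (K15.f243958 IH) (Lpe (f243654 IH) (Lpr_et (f244050 IH) (Lpr_gt (f243728 IH) (Lpr_dt (f243729 IH) (Lpr_gt (f274740 IH) (Lpe (f274739 IH) (Lpr_et (f274744 IH) (Lpn (LP (LK LD1_c9 LD2_c43 LD3_c32)))))))))))))
theorem f223596 : Led Lsl_dt (LP (LK LD1_c8 LD2_c2 LD3_c55)) = (LP (LK LD1_c15 LD2_c9 LD3_c14)) :=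
  Lre_d IH (LK LD1_c8 LD2_c2 LD3_c55) (LK LD1_c15 LD2_c9 LD3_c14) Lrfl Lrfl
theorem f274747 : Led Lsl_gf (LP (LK LD1_c19 LD2_c57 LD3_c13)) = (LP (LK LD1_c15 LD2_c9 LD3_c14)) :=
  Lgr Lrot134 (Lpe (f259097 IH) (Lpr_et (f259096 IH) (Lpe (f265613 IH) (Lpr_ef (f244120 IH) (Lpr_dt (f243729 IH) (Lpr_gt (f274740 IH) (Lpe (f274739 IH) (Lpr_et (f274744 IH) (Lpe (f274745 IH) (Lpr_dt (f223596 IH) (Lpn (LP (LK LD1_c15 LD2_c9 LD3_c14)))))))))))))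
theorem f274751 : Led Lsl_dt (LP (LK LD1_c19 LD2_c57 LD3_c13)) = (LP (LK LD1_c11 LD2_c4 LD3_c33)) :=
  Lre_d IH (LK LD1_c19 LD2_c57 LD3_c13) (LK LD1_c11 LD2_c4 LD3_c33) Lrfl Lrfl
theorem f274752 : Led Lsl_ct (LP (LK LD1_c11 LD2_c4 LD3_c33)) = (LP (LK LD1_c5 LD2_c36 LD3_c7)) :=
  Lre_c IH (LK LD1_c11 LD2_c4 LD3_c33) (LK LD1_c5 LD2_c36 LD3_c7) Lrfl Lrfl
theorem f246983 : Led Lsl_et (LP (LK LD1_c2 LD2_c28 LD3_c8)) = (LP (LK LD1_c5 LD2_c0 LD3_c48)) :=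
  Lre_e IH (LK LD1_c2 LD2_c28 LD3_c8) (LK LD1_c5 LD2_c0 LD3_c48) Lrfl Lrfl
theorem f265621 : Led Lsl_et (LP (LK LD1_c5 LD2_c36 LD3_c7)) = (LP (LK LD1_c2 LD2_c43 LD3_c56)) :=
  Lre_e IH (LK LD1_c5 LD2_c36 LD3_c7) (LK LD1_c2 LD2_c43 LD3_c56) Lrfl Lrfl
theorem f274663 : Led Lsl_dt (LP (LK LD1_c5 LD2_c0 LD3_c48)) = (LP (LK LD1_c5 LD2_c36 LD3_c7)) :=
  Lgr Lrot77 (Lpe (f246983 IH) (Lpe (K14.f3332 IH) (Lpr_ef (f274661 IH) (Lpe (K15.f189275 IH) (Lpe (f265621 IH) (Lpn (LP (LK LD1_c5 LD2_c36 LD3_c7))))))))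
theorem f274753 : Led Lsl_ct (LP (LK LD1_c4 LD2_c55 LD3_c54)) = (LP (LK LD1_c9 LD2_c43 LD3_c32)) :=
  Lre_c IH (LK LD1_c4 LD2_c55 LD3_c54) (LK LD1_c9 LD2_c43 LD3_c32) Lrfl Lrfl
theorem f274754 : Led Lsl_gf (LP (LK LD1_c5 LD2_c0 LD3_c48)) = (LP (LK LD1_c4 LD2_c55 LD3_c55)) :=
  Lgr Lrot143 (Lpr_dt (f274663 IH) (Lpe (f274752 IH) (Lpe (f274751 IH) (Lpr_gf (f274747 IH) (Lpe (f223596 IH) (Lpr_gf (f274745 IH) (Lpe (f274753 IH) (Lpr_gt (f168795 IH) (Lpr_dt (K13.f224864 IH) (Lpn (LP (LK LD1_c4 LD2_c55 LD3_c55))))))))))))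
theorem f189277 : Led Lsl_gt (LP (LK LD1_c5 LD2_c36 LD3_c7)) = (LP (LK LD1_c11 LD2_c4 LD3_c34)) :=
  Lre_g IH (LK LD1_c5 LD2_c36 LD3_c7) (LK LD1_c11 LD2_c4 LD3_c34) Lrfl Lrfl
theorem f182019 : Led Lsl_et (LP (LK LD1_c0 LD2_c15 LD3_c7)) = (LP (LK LD1_c0 LD2_c33 LD3_c42)) :=
  Lre_e IH (LK LD1_c0 LD2_c15 LD3_c7) (LK LD1_c0 LD2_c33 LD3_c42) Lrfl Lrfl
theorem f242583 : Led Lsl_bt (LP (LK LD1_c0 LD2_c33 LD3_c42)) = (LP (LK LD1_c1 LD2_c10 LD3_c15)) :=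
  Lgr Lrot119 (Lpe (f182019 IH) (Lpe (K9.f165182 IH) (Lpr_ef (K13.f242581 IH) (Lpn (LP (LK LD1_c1 LD2_c10 LD3_c15))))))
theorem f182020 : Led Lsl_cf (LP (LK LD1_c0 LD2_c39 LD3_c29)) = (LP (LK LD1_c0 LD2_c33 LD3_c42)) :=
  Lgr Lrot39 (Lpr_et (K10.f177639 IH) (Lpr_ct (K9.f182008 IH) (Lpr_et (f182019 IH) (Lpn (LP (LK LD1_c0 LD2_c33 LD3_c42))))))
theorem f177633 : Led Lsl_bt (LP (LK LD1_c0 LD2_c17 LD3_c44)) = (LP (LK LD1_c0 LD2_c39 LD3_c29)) :=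
  Lre_b IH (LK LD1_c0 LD2_c17 LD3_c44) (LK LD1_c0 LD2_c39 LD3_c29) Lrfl Lrfl
theorem f253525 : Led Lsl_gf (LP (LK LD1_c0 LD2_c39 LD3_c29)) = (LP (LK LD1_c0 LD2_c31 LD3_c48)) :=
  Lgr Lrot124 (Lpe (f177633 IH) (Lpr_ct (K9.f177192 IH) (Lpr_gt (K14.f253519 IH) (Lpe (K14.f199157 IH) (Lpr_bt (K12.f199164 IH) (Lpe (K14.f253523 IH) (Lpe (K13.f223717 IH) (Lpr_gt (K13.f194096 IH) (Lpe (K10.f28994 IH) (Lpe (K11.f200642 IH) (Lpn (LP (LK LD1_c0 LD2_c31 LD3_c48)))))))))))))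
theorem f200629 : Led Lsl_cf (LP (LK LD1_c0 LD2_c31 LD3_c48)) = (LP (LK LD1_c0 LD2_c28 LD3_c46)) :=
  Lgr Lrot39 (Lpr_et (K11.f2932 IH) (Lpr_ct (K11.f200375 IH) (Lpr_et (K10.f20743 IH) (Lpn (LP (LK LD1_c0 LD2_c28 LD3_c46))))))
theorem f20752 : Led Lsl_gt (LP (LK LD1_c1 LD2_c3 LD3_c6)) = (LP (LK LD1_c0 LD2_c28 LD3_c46)) :=
  Lre_g IH (LK LD1_c1 LD2_c3 LD3_c6) (LK LD1_c0 LD2_c28 LD3_c46) Lrfl Lrfl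
theorem f166692 : Led Lsl_ct (LP (LK LD1_c0 LD2_c31 LD3_c58)) = (LP (LK LD1_c0 LD2_c58 LD3_c46)) :=
  Lgr Lrot8 (Lpr_gt (K9.f21234 IH) (Lpr_dt (K9.f21232 IH) (Lpr_gt (K9.f3770 IH) (Lpr_dt (K8.f3120 IH) (Lpe (K8.f3115 IH) (Lpe (K0.f3134 IH) (Lpe (K8.f3102 IH) (Lpr_df (K9.f166679 IH) (Lpe (K9.f53239 IH) (Lpn (LP (LK LD1_c0 LD2_c58 LD3_c46))))))))))))
theorem f34664 : Led Lsl_dt (LP (LK LD1_c0 LD2_c6 LD3_c55)) = (LP (LK LD1_c0 LD2_c15 LD3_c8)) :=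
  Lre_d IH (LK LD1_c0 LD2_c6 LD3_c55) (LK LD1_c0 LD2_c15 LD3_c8) Lrfl Lrfl
theorem f200654 : Led Lsl_gt (LP (LK LD1_c1 LD2_c9 LD3_c15)) = (LP (LK LD1_c0 LD2_c31 LD3_c48)) :=
  Lre_g IH (LK LD1_c1 LD2_c9 LD3_c15) (LK LD1_c0 LD2_c31 LD3_c48) Lrfl Lrfl
theorem f237384 : Led Lsl_et (LP (LK LD1_c1 LD2_c3 LD3_c28)) = (LP (LK LD1_c1 LD2_c9 LD3_c15)) :=
  Lgr Lrot121 (Lpr_dt (K13.f193677 IH) (Lpr_gf (K13.f237322 IH) (Lpe (K1.f2988 IH) (Lpr_et (K0.f2990 IH) (Lpe (K1.f28590 IH) (Lpe (K0.f28586 IH) (Lpr_dt (f34664 IH) (Lpe (K10.f34678 IH) (Lpe (K11.f200648 IH) (Lpe (f200654 IH) (Lpn (LP (LK LD1_c1 LD2_c9 LD3_c15)))))))))))))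
theorem f21246 : Led Lsl_bt (LP (LK LD1_c0 LD2_c29 LD3_c0)) = (LP (LK LD1_c1 LD2_c3 LD3_c28)) :=
  Lre_b IH (LK LD1_c0 LD2_c29 LD3_c0) (LK LD1_c1 LD2_c3 LD3_c28) Lrfl Lrfl
theorem f237389 : Led Lsl_bf (LP (LK LD1_c0 LD2_c31 LD3_c58)) = (LP (LK LD1_c1 LD2_c9 LD3_c15)) :=
  Lgr Lrot96 (Lpe (K9.f21238 IH) (Lpr_bt (f21246 IH) (Lpr_et (f237384 IH) (Lpn (LP (LK LD1_c1 LD2_c9 LD3_c15))))))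
theorem f37281 : Led Lsl_dt (LP (LK LD1_c0 LD2_c15 LD3_c8)) = (LP (LK LD1_c0 LD2_c6 LD3_c55)) :=
  Lre_d IH (LK LD1_c0 LD2_c15 LD3_c8) (LK LD1_c0 LD2_c6 LD3_c55) Lrfl Lrfl
theorem f200665 : Led Lsl_cf (LP (LK LD1_c1 LD2_c9 LD3_c15)) = (LP (LK LD1_c1 LD2_c3 LD3_c6)) :=
  Lgr Lrot166 (Lpr_gt (f200654 IH) (Lpr_dt (K11.f200648 IH) (Lpr_gt (K10.f34678 IH) (Lpr_dt (f37281 IH) (Lpe (K10.f165176 IH) (Lpe (K2.f37110 IH) (Lpr_gf (K10.f197355 IH) (Lpe (K10.f20745 IH) (Lpe (f20752 IH) (Lpn (LP (LK LD1_c1 LD2_c3 LD3_c6))))))))))))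
theorem f240308 : Led Lsl_bt (LP (LK LD1_c0 LD2_c56 LD3_c24)) = (LP (LK LD1_c1 LD2_c3 LD3_c6)) :=
  Lgr Lrot128 (Lpe (K12.f53130 IH) (Lpr_bf (K13.f240302 IH) (Lpe (f166692 IH) (Lpr_bf (f237389 IH) (Lpr_cf (f200665 IH) (Lpn (LP (LK LD1_c1 LD2_c3 LD3_c6))))))))
theorem f260194 : Led Lsl_gf (LP (LK LD1_c1 LD2_c59 LD3_c15)) = (LP (LK LD1_c3 LD2_c57 LD3_c16)) :=
  Lgr Lrot126 (Lpe (K13.f53129 IH) (Lpr_bt (f240308 IH) (Lpr_gt (f20752 IH) (Lpe (f200629 IH) (Lpe (f253525 IH) (Lpr_cf (f182020 IH) (Lpr_bt (f242583 IH) (Lpr_gt (K15.f260168 IH) (Lpe (K15.f242234 IH) (Lpr_ct (K15.f242236 IH) (Lpn (LP (LK LD1_c3 LD2_c57 LD3_c16)))))))))))))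
theorem f46942 : Led Lsl_af (LP (LK LD1_c4 LD2_c2 LD3_c41)) = (LP (LK LD1_c4 LD2_c2 LD3_c31)) :=
  Lgr Lrot117 (Lpe (K1.f46669 IH) (Lpe (K1.f46686 IH) (Lpr_dt (K1.f46935 IH) (Lpn (LP (LK LD1_c4 LD2_c2 LD3_c31))))))
theorem f192955 : Led Lsl_gt (LP (LK LD1_c1 LD2_c58 LD3_c14)) = (LP (LK LD1_c4 LD2_c1 LD3_c47)) :=
  Lgr Lrot5 (Lpr_ft (K1.f46900 IH) (Lpe (f46942 IH) (Lpr_gf (K10.f192953 IH) (Lpn (LP (LK LD1_c4 LD2_c1 LD3_c47))))))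
theorem f192958 : Led Lsl_ct (LP (LK LD1_c4 LD2_c1 LD3_c47)) = (LP (LK LD1_c1 LD2_c57 LD3_c51)) :=
  Lre_c IH (LK LD1_c4 LD2_c1 LD3_c47) (LK LD1_c1 LD2_c57 LD3_c51) Lrfl Lrfl
theorem f260247 : Led Lsl_dt (LP (LK LD1_c1 LD2_c57 LD3_c51)) = (LP (LK LD1_c3 LD2_c57 LD3_c16)) :=
  Lgr Lrot27 (Lpe (f192958 IH) (Lpe (f192955 IH) (Lpe (K1.f46572 IH) (Lpe (K10.f28173 IH) (Lpr_df (K13.f243045 IH) (Lpe (K13.f242785 IH) (Lpr_ct (K13.f164141 IH) (Lpr_gt (K15.f260243 IH) (Lpr_ct (K15.f242236 IH) (Lpn (LP (LK LD1_c3 LD2_c57 LD3_c16))))))))))))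
theorem f260234 : Led Lsl_et (LP (LK LD1_c1 LD2_c57 LD3_c51)) = (LP (LK LD1_c4 LD2_c1 LD3_c48)) :=
  Lre_e IH (LK LD1_c1 LD2_c57 LD3_c51) (LK LD1_c4 LD2_c1 LD3_c48) Lrfl Lrfl
theorem f258992 : Led Lsl_gt (LP (LK LD1_c8 LD2_c4 LD3_c13)) = (LP (LK LD1_c4 LD2_c1 LD3_c48)) :=
  Lre_g IH (LK LD1_c8 LD2_c4 LD3_c13) (LK LD1_c4 LD2_c1 LD3_c48) Lrfl Lrfl
theorem f274765 : Led Lsl_et (LP (LK LD1_c15 LD2_c11 LD3_c37)) = (LP (LK LD1_c8 LD2_c4 LD3_c13)) :=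
  Lre_e IH (LK LD1_c15 LD2_c11 LD3_c37) (LK LD1_c8 LD2_c4 LD3_c13) Lrfl Lrfl
theorem f274766 : Led Lsl_df (LP (LK LD1_c11 LD2_c4 LD3_c34)) = (LP (LK LD1_c15 LD2_c11 LD3_c37)) :=
  Lgr Lrot132 (Lpe (f189277 IH) (Lpe (f274663 IH) (Lpr_gf (f274754 IH) (Lpr_ef (K13.f240294 IH) (Lpe (K13.f240292 IH) (Lpr_gf (f260194 IH) (Lpe (f260247 IH) (Lpr_et (f260234 IH) (Lpe (f258992 IH) (Lpe (f274765 IH) (Lpn (LP (LK LD1_c15 LD2_c11 LD3_c37)))))))))))))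
theorem f239582 : Led Lsl_et (LP (LK LD1_c5 LD2_c0 LD3_c48)) = (LP (LK LD1_c2 LD2_c28 LD3_c8)) :=
  Lre_e IH (LK LD1_c5 LD2_c0 LD3_c48) (LK LD1_c2 LD2_c28 LD3_c8) Lrfl Lrfl
theorem f226894 : Led Lsl_dt (LP (LK LD1_c1 LD2_c59 LD3_c7)) = (LP (LK LD1_c2 LD2_c3 LD3_c13)) :=
  Lgr Lrot42 (Lpr_df (K12.f226885 IH) (Lpn (LP (LK LD1_c2 LD2_c3 LD3_c13))))
theorem f200707 : Led Lsl_et (LP (LK LD1_c4 LD2_c4 LD3_c24)) = (LP (LK LD1_c1 LD2_c59 LD3_c7)) :=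
  Lre_e IH (LK LD1_c4 LD2_c4 LD3_c24) (LK LD1_c1 LD2_c59 LD3_c7) Lrfl Lrfl
theorem f239289 : Led Lsl_ct (LP (LK LD1_c2 LD2_c7 LD3_c40)) = (LP (LK LD1_c1 LD2_c9 LD3_c32)) :=
  Lgr Lrot15 (Lpe (K15.f33151 IH) (Lpr_cf (K13.f239248 IH) (Lpe (K13.f31052 IH) (Lpn (LP (LK LD1_c1 LD2_c9 LD3_c32))))))
theorem f246086 : Led Lsl_dt (LP (LK LD1_c1 LD2_c10 LD3_c17)) = (LP (LK LD1_c0 LD2_c55 LD3_c56)) :=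
  Lgr Lrot105 (Lpr_gf (K13.f246082 IH) (Lpe (K13.f242502 IH) (Lpe (K12.f33189 IH) (Lpe (K12.f182458 IH) (Lpe (K13.f242837 IH) (Lpr_dt (K13.f196105 IH) (Lpe (K13.f242273 IH) (Lpr_dt (K13.f193457 IH) (Lpe (K10.f34063 IH) (Lpn (LP (LK LD1_c0 LD2_c55 LD3_c56))))))))))))
theorem f165375 : Led Lsl_bt (LP (LK LD1_c4 LD2_c1 LD3_c46)) = (LP (LK LD1_c1 LD2_c57 LD3_c51)) :=
  Lre_b IH (LK LD1_c4 LD2_c1 LD3_c46) (LK LD1_c1 LD2_c57 LD3_c51) Lrfl Lrfl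
theorem f259052 : Led Lsl_gf (LP (LK LD1_c1 LD2_c12 LD3_c57)) = (LP (LK LD1_c1 LD2_c57 LD3_c51)) :=
  Lgr Lrot124 (Lpe (K10.f33978 IH) (Lpr_ct (K8.f163758 IH) (Lpe (K9.f165405 IH) (Lpe (K9.f165872 IH) (Lpr_bt (K12.f165893 IH) (Lpr_gt (K9.f184104 IH) (Lpr_ct (K9.f44118 IH) (Lpr_gt (K15.f44271 IH) (Lpr_cf (K15.f258954 IH) (Lpr_bt (f165375 IH) (Lpn (LP (LK LD1_c1 LD2_c57 LD3_c51)))))))))))))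
theorem f260222 : Led Lsl_df (LP (LK LD1_c1 LD2_c57 LD3_c51)) = (LP (LK LD1_c3 LD2_c57 LD3_c16)) :=
  Lgr Lrot153 (Lpe (f259052 IH) (Lpr_dt (K14.f34069 IH) (Lpe (K0.f34027 IH) (Lpe (K0.f33650 IH) (Lpe (K12.f34061 IH) (Lpe (f246086 IH) (Lpr_gf (K13.f246082 IH) (Lpe (f239289 IH) (Lpr_gt (K15.f260214 IH) (Lpn (LP (LK LD1_c3 LD2_c57 LD3_c16))))))))))))
theorem f260235 : Led Lsl_df (LP (LK LD1_c4 LD2_c4 LD3_c24)) = (LP (LK LD1_c4 LD2_c1 LD3_c48)) :=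
  Lgr Lrot70 (Lpr_et (f200707 IH) (Lpr_dt (f226894 IH) (Lpr_et (K15.f260230 IH) (Lpe (f260222 IH) (Lpr_et (f260234 IH) (Lpn (LP (LK LD1_c4 LD2_c1 LD3_c48))))))))
theorem f216421 : Led Lsl_et (LP (LK LD1_c0 LD2_c59 LD3_c21)) = (LP (LK LD1_c2 LD2_c4 LD3_c42)) :=
  Lre_e IH (LK LD1_c0 LD2_c59 LD3_c21) (LK LD1_c2 LD2_c4 LD3_c42) Lrfl Lrfl
theorem f226896 : Led Lsl_et (LP (LK LD1_c1 LD2_c59 LD3_c7)) = (LP (LK LD1_c4 LD2_c4 LD3_c24)) :=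
  Lre_e IH (LK LD1_c1 LD2_c59 LD3_c7) (LK LD1_c4 LD2_c4 LD3_c24) Lrfl Lrfl
theorem f253128 : Led Lsl_gf (LP (LK LD1_c4 LD2_c6 LD3_c51)) = (LP (LK LD1_c4 LD2_c4 LD3_c24)) :=
  Lgr Lrot138 (Lpe (K14.f22035 IH) (Lpr_gt (K14.f22078 IH) (Lpr_df (K14.f253119 IH) (Lpr_et (K14.f226890 IH) (Lpr_gt (K14.f226889 IH) (Lpe (f216421 IH) (Lpr_dt (K13.f196934 IH) (Lpr_gt (K12.f226883 IH) (Lpe (f226894 IH) (Lpr_et (f226896 IH) (Lpn (LP (LK LD1_c4 LD2_c4 LD3_c24)))))))))))))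
theorem f22083 : Led Lsl_et (LP (LK LD1_c5 LD2_c9 LD3_c47)) = (LP (LK LD1_c2 LD2_c31 LD3_c58)) :=
  Lre_e IH (LK LD1_c5 LD2_c9 LD3_c47) (LK LD1_c2 LD2_c31 LD3_c58) Lrfl Lrfl
theorem f274776 : Led Lsl_gf (LP (LK LD1_c2 LD2_c28 LD3_c8)) = (LP (LK LD1_c2 LD2_c31 LD3_c58)) :=
  Lgr Lrot141 (Lpe (f239582 IH) (Lpr_dt (f274663 IH) (Lpr_gt (f189277 IH) (Lpr_df (f274766 IH) (Lpr_et (f274765 IH) (Lpr_gt (f258992 IH) (Lpe (f260235 IH) (Lpe (f253128 IH) (Lpe (K13.f22052 IH) (Lpr_et (f22083 IH) (Lpn (LP (LK LD1_c2 LD2_c31 LD3_c58)))))))))))))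
theorem f250068 : Led Lsl_gt (LP (LK LD1_c8 LD2_c15 LD3_c3)) = (LP (LK LD1_c5 LD2_c12 LD3_c15)) :=
  Lgr Lrot9 (Lpr_df (K13.f214633 IH) (Lpr_gt (K10.f48408 IH) (Lpr_ct (K10.f187650 IH) (Lpe (K10.f188045 IH) (Lpr_ct (K10.f188200 IH) (Lpe (K10.f48945 IH) (Lpe (K14.f32253 IH) (Lpr_gf (K14.f250064 IH) (Lpe (K14.f185033 IH) (Lpn (LP (LK LD1_c5 LD2_c12 LD3_c15))))))))))))
theorem f274786 : Led Lsl_bf (LP (LK LD1_c2 LD2_c28 LD3_c8)) = (LP (LK LD1_c4 LD2_c7 LD3_c32)) :=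
  Lgr Lrot34 (Lpr_gf (f274776 IH) (Lpe (K14.f22016 IH) (Lpr_ct (K10.f22020 IH) (Lpe (K10.f186784 IH) (Lpe (K10.f185013 IH) (Lpe (K10.f184991 IH) (Lpe (K14.f185006 IH) (Lpr_ct (K14.f185017 IH) (Lpe (f250068 IH) (Lpe (K13.f53598 IH) (Lpn (LP (LK LD1_c4 LD2_c7 LD3_c32)))))))))))))
theorem f266800 : Led Lsl_et (LP (LK LD1_c8 LD2_c15 LD3_c4)) = (LP (LK LD1_c4 LD2_c7 LD3_c32)) :=
  Lre_e IH (LK LD1_c8 LD2_c15 LD3_c4) (LK LD1_c4 LD2_c7 LD3_c32) Lrfl Lrfl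
theorem f274803 : Led Lsl_bt (LP (LK LD1_c5 LD2_c0 LD3_c48)) = (LP (LK LD1_c8 LD2_c15 LD3_c4)) :=
  Lgr Lrot119 (Lpe (f246983 IH) (Lpr_bf (f274786 IH) (Lpe (f266800 IH) (Lpn (LP (LK LD1_c8 LD2_c15 LD3_c4))))))
theorem f274768 : Led Lsl_df (LP (LK LD1_c5 LD2_c0 LD3_c48)) = (LP (LK LD1_c5 LD2_c36 LD3_c7)) :=
  Lgr Lrot168 (Lpr_gf (f274754 IH) (Lpe (K13.f224864 IH) (Lpr_et (K13.f196410 IH) (Lpr_gf (K12.f223735 IH) (Lpe (f27661 IH) (Lpr_dt (K10.f27585 IH) (Lpe (K15.f43903 IH) (Lpe (K15.f51043 IH) (Lpr_gf (K15.f265611 IH) (Lpe (f265621 IH) (Lpn (LP (LK LD1_c5 LD2_c36 LD3_c7)))))))))))))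
theorem f274770 : Led Lsl_bt (LP (LK LD1_c11 LD2_c4 LD3_c30)) = (LP (LK LD1_c5 LD2_c36 LD3_c7)) :=
  Lre_b IH (LK LD1_c11 LD2_c4 LD3_c30) (LK LD1_c5 LD2_c36 LD3_c7) Lrfl Lrfl
theorem f274809 : Led Lsl_df (LP (LK LD1_c11 LD2_c4 LD3_c30)) = (LP (LK LD1_c8 LD2_c15 LD3_c4)) :=
  Lgr Lrot12 (Lpr_bt (f274770 IH) (Lpe (f274768 IH) (Lpr_bt (f274803 IH) (Lpn (LP (LK LD1_c8 LD2_c15 LD3_c4))))))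
theorem f263671 : Led Lsl_et (LP (LK LD1_c11 LD2_c4 LD3_c30)) = (LP (LK LD1_c5 LD2_c36 LD3_c5)) :=
  Lre_e IH (LK LD1_c11 LD2_c4 LD3_c30) (LK LD1_c5 LD2_c36 LD3_c5) Lrfl Lrfl
theorem f263665 : Led Lsl_dt (LP (LK LD1_c5 LD2_c36 LD3_c5)) = (LP (LK LD1_c2 LD2_c43 LD3_c54)) :=
  Lre_d IH (LK LD1_c5 LD2_c36 LD3_c5) (LK LD1_c2 LD2_c43 LD3_c54) Lrfl Lrfl
theorem f44997 : Led Lsl_et (LP (LK LD1_c4 LD2_c7 LD3_c32)) = (LP (LK LD1_c8 LD2_c15 LD3_c4)) :=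
  Lre_e IH (LK LD1_c4 LD2_c7 LD3_c32) (LK LD1_c8 LD2_c15 LD3_c4) Lrfl Lrfl
theorem f274815 : Led Lsl_et (LP (LK LD1_c2 LD2_c43 LD3_c54)) = (LP (LK LD1_c2 LD2_c1 LD3_c7)) :=
  Lgr Lrot71 (Lpe (f263665 IH) (Lpe (f263671 IH) (Lpr_df (f274809 IH) (Lpe (f44997 IH) (Lpe (K13.f53597 IH) (Lpn (LP (LK LD1_c2 LD2_c1 LD3_c7))))))))
theorem f274824 : Led Lsl_gf (LP (LK LD1_c5 LD2_c36 LD3_c5)) = (LP (LK LD1_c5 LD2_c15 LD3_c0)) :=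
  Lgr Lrot134 (Lpe (K15.f263660 IH) (Lpr_et (f274815 IH) (Lpr_gt (K10.f44993 IH) (Lpe (K8.f44965 IH) (Lpr_dt (K1.f44963 IH) (Lpr_gt (K1.f27391 IH) (Lpr_df (K1.f45062 IH) (Lpr_et (K10.f45068 IH) (Lpr_gt (K12.f212245 IH) (Lpr_dt (K15.f212249 IH) (Lpn (LP (LK LD1_c5 LD2_c15 LD3_c0)))))))))))))
theorem f192103 : Led Lsl_et (LP (LK LD1_c1 LD2_c14 LD3_c45)) = (LP (LK LD1_c2 LD2_c35 LD3_c26)) :=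
  Lre_e IH (LK LD1_c1 LD2_c14 LD3_c45) (LK LD1_c2 LD2_c35 LD3_c26) Lrfl Lrfl
theorem f274818 : Led Lsl_cf (LP (LK LD1_c2 LD2_c43 LD3_c54)) = (LP (LK LD1_c2 LD2_c35 LD3_c26)) :=
  Lgr Lrot39 (Lpr_et (f274815 IH) (Lpr_ct (K10.f191559 IH) (Lpr_et (f192103 IH) (Lpn (LP (LK LD1_c2 LD2_c35 LD3_c26))))))
theorem f191768 : Led Lsl_dt (LP (LK LD1_c5 LD2_c17 LD3_c21)) = (LP (LK LD1_c2 LD2_c35 LD3_c26)) :=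
  Lre_d IH (LK LD1_c5 LD2_c17 LD3_c21) (LK LD1_c2 LD2_c35 LD3_c26) Lrfl Lrfl
theorem f274826 : Led Lsl_gf (LP (LK LD1_c5 LD2_c17 LD3_c21)) = (LP (LK LD1_c4 LD2_c13 LD3_c37)) :=
  Lgr Lrot154 (Lpr_dt (f191768 IH) (Lpe (f274818 IH) (Lpe (f263665 IH) (Lpr_gf (f274824 IH) (Lpe (K15.f212249 IH) (Lpe (K12.f212245 IH) (Lpr_ct (K9.f49430 IH) (Lpr_gt (K13.f44973 IH) (Lpr_dt (K15.f44975 IH) (Lpn (LP (LK LD1_c4 LD2_c13 LD3_c37))))))))))))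
theorem f252216 : Led Lsl_ft (LP (LK LD1_c4 LD2_c13 LD3_c37)) = (LP (LK LD1_c4 LD2_c13 LD3_c44)) :=
  Lgr Lrot54 (Lpe (K15.f44975 IH) (Lpr_ff (K14.f252210 IH) (Lpe (K14.f49166 IH) (Lpn (LP (LK LD1_c4 LD2_c13 LD3_c44))))))
theorem f252184 : Led Lsl_af (LP (LK LD1_c2 LD2_c58 LD3_c59)) = (LP (LK LD1_c4 LD2_c13 LD3_c44)) :=
  Lgr Lrot0 (Lpr_at (K14.f252182 IH) (Lpn (LP (LK LD1_c4 LD2_c13 LD3_c44))))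
theorem f274829 : Led Lsl_gt (LP (LK LD1_c5 LD2_c17 LD3_c21)) = (LP (LK LD1_c2 LD2_c58 LD3_c59)) :=
  Lgr Lrot46 (Lpr_gf (f274826 IH) (Lpr_ft (f252216 IH) (Lpe (f252184 IH) (Lpn (LP (LK LD1_c2 LD2_c58 LD3_c59))))))
theorem f182076 : Led Lsl_et (LP (LK LD1_c5 LD2_c17 LD3_c18)) = (LP (LK LD1_c2 LD2_c35 LD3_c24)) :=
  Lre_e IH (LK LD1_c5 LD2_c17 LD3_c18) (LK LD1_c2 LD2_c35 LD3_c24) Lrfl Lrfl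
theorem f44457 : Led Lsl_gt (LP (LK LD1_c4 LD2_c53 LD3_c56)) = (LP (LK LD1_c9 LD2_c39 LD3_c20)) :=
  Lre_g IH (LK LD1_c4 LD2_c53 LD3_c56) (LK LD1_c9 LD2_c39 LD3_c20) Lrfl Lrfl
theorem f191765 : Led Lsl_dt (LP (LK LD1_c5 LD2_c17 LD3_c18)) = (LP (LK LD1_c9 LD2_c39 LD3_c20)) :=
  Lgr Lrot56 (Lpr_et (f182076 IH) (Lpr_gt (K13.f191759 IH) (Lpe (K9.f43242 IH) (Lpe (K8.f43244 IH) (Lpr_gt (K1.f44540 IH) (Lpe (K1.f44443 IH) (Lpr_et (K9.f43396 IH) (Lpr_gt (K10.f44455 IH) (Lpr_dt (K13.f44456 IH) (Lpr_gt (f44457 IH) (Lpn (LP (LK LD1_c9 LD2_c39 LD3_c20)))))))))))))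
theorem f191767 : Led Lsl_bt (LP (LK LD1_c2 LD2_c35 LD3_c26)) = (LP (LK LD1_c5 LD2_c17 LD3_c18)) :=
  Lre_b IH (LK LD1_c2 LD2_c35 LD3_c26) (LK LD1_c5 LD2_c17 LD3_c18) Lrfl Lrfl
theorem f191769 : Led Lsl_bf (LP (LK LD1_c5 LD2_c17 LD3_c21)) = (LP (LK LD1_c9 LD2_c39 LD3_c20)) :=
  Lgr Lrot93 (Lpr_dt (f191768 IH) (Lpr_bt (f191767 IH) (Lpr_dt (f191765 IH) (Lpn (LP (LK LD1_c9 LD2_c39 LD3_c20))))))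
theorem f260632 : Led Lsl_gf (LP (LK LD1_c5 LD2_c5 LD3_c38)) = (LP (LK LD1_c6 LD2_c5 LD3_c42)) :=
  Lgr Lrot147 (Lpr_ct (K15.f212188 IH) (Lpr_gt (K15.f260628 IH) (Lpr_ct (K15.f32880 IH) (Lpe (K15.f49851 IH) (Lpr_cf (K15.f252328 IH) (Lpr_gf (K15.f45292 IH) (Lpe (K1.f45194 IH) (Lpe (K15.f45223 IH) (Lpr_df (K15.f231911 IH) (Lpn (LP (LK LD1_c6 LD2_c5 LD3_c42))))))))))))
theorem f230830 : Led Lsl_gt (LP (LK LD1_c2 LD2_c29 LD3_c59)) = (LP (LK LD1_c5 LD2_c5 LD3_c22)) :=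
  Lre_g IH (LK LD1_c2 LD2_c29 LD3_c59) (LK LD1_c5 LD2_c5 LD3_c22) Lrfl Lrfl
theorem f274835 : Led Lsl_ct (LP (LK LD1_c9 LD2_c39 LD3_c20)) = (LP (LK LD1_c5 LD2_c5 LD3_c22)) :=
  Lgr Lrot10 (Lpe (f191769 IH) (Lpr_gt (f274829 IH) (Lpr_ct (K14.f183680 IH) (Lpe (f260632 IH) (Lpe (K15.f177321 IH) (Lpr_bt (K15.f177320 IH) (Lpr_gt (K10.f164692 IH) (Lpe (K14.f169562 IH) (Lpr_ct (K14.f186728 IH) (Lpr_gt (f230830 IH) (Lpn (LP (LK LD1_c5 LD2_c5 LD3_c22)))))))))))))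
theorem f274839 : Led Lsl_cf (LP (LK LD1_c9 LD2_c39 LD3_c20)) = (LP (LK LD1_c5 LD2_c5 LD3_c22)) :=
  Lgr Lrot11 (Lpr_ct (f274835 IH) (Lpn (LP (LK LD1_c5 LD2_c5 LD3_c22))))
theorem f191771 : Led Lsl_df (LP (LK LD1_c5 LD2_c17 LD3_c18)) = (LP (LK LD1_c9 LD2_c39 LD3_c20)) :=
  Lgr Lrot38 (Lpr_dt (f191765 IH) (Lpn (LP (LK LD1_c9 LD2_c39 LD3_c20))))
theorem f170690 : Led Lsl_gt (LP (LK LD1_c2 LD2_c2 LD3_c17)) = (LP (LK LD1_c4 LD2_c10 LD3_c8)) :=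
  Lre_g IH (LK LD1_c2 LD2_c2 LD3_c17) (LK LD1_c4 LD2_c10 LD3_c8) Lrfl Lrfl
theorem f274846 : Led Lsl_cf (LP (LK LD1_c5 LD2_c17 LD3_c18)) = (LP (LK LD1_c4 LD2_c10 LD3_c8)) :=
  Lgr Lrot99 (Lpr_df (f191771 IH) (Lpr_cf (f274839 IH) (Lpe (f230830 IH) (Lpe (K14.f186728 IH) (Lpe (K14.f31637 IH) (Lpr_df (K14.f253981 IH) (Lpr_gt (K14.f170843 IH) (Lpr_ct (K10.f170646 IH) (Lpr_gt (f170690 IH) (Lpn (LP (LK LD1_c4 LD2_c10 LD3_c8))))))))))))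
theorem f47279 : Led Lsl_ct (LP (LK LD1_c4 LD2_c5 LD3_c18)) = (LP (LK LD1_c1 LD2_c59 LD3_c51)) :=
  Lre_c IH (LK LD1_c4 LD2_c5 LD3_c18) (LK LD1_c1 LD2_c59 LD3_c51) Lrfl Lrfl
theorem f274860 : Led Lsl_gt (LP (LK LD1_c5 LD2_c17 LD3_c18)) = (LP (LK LD1_c5 LD2_c3 LD3_c2)) :=
  Lgr Lrot150 (Lpr_cf (f274846 IH) (Lpe (f170690 IH) (Lpe (K10.f170844 IH) (Lpe (K11.f188004 IH) (Lpr_ct (K9.f30881 IH) (Lpe (K11.f191273 IH) (Lpr_ct (f47279 IH) (Lpe (K14.f247631 IH) (Lpe (K14.f193959 IH) (Lpn (LP (LK LD1_c5 LD2_c3 LD3_c2))))))))))))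
theorem f182078 : Led Lsl_et (LP (LK LD1_c2 LD2_c35 LD3_c24)) = (LP (LK LD1_c5 LD2_c17 LD3_c18)) :=
  Lre_e IH (LK LD1_c2 LD2_c35 LD3_c24) (LK LD1_c5 LD2_c17 LD3_c18) Lrfl Lrfl
theorem f43348 : Led Lsl_et (LP (LK LD1_c2 LD2_c24 LD3_c54)) = (LP (LK LD1_c2 LD2_c24 LD3_c54)) :=
  Lgr Lrot74 (Lpe (K10.f43346 IH) (Lpr_ef (K9.f43340 IH) (Lpe (K9.f43347 IH) (Lpn (LP (LK LD1_c2 LD2_c24 LD3_c54))))))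
theorem f274868 : Led Lsl_gf (LP (LK LD1_c5 LD2_c17 LD3_c17)) = (LP (LK LD1_c5 LD2_c1 LD3_c20)) :=
  Lgr Lrot145 (Lpe (K14.f182077 IH) (Lpr_et (f182078 IH) (Lpr_gt (f274860 IH) (Lpe (K14.f251589 IH) (Lpe (K14.f215054 IH) (Lpe (K12.f43383 IH) (Lpr_et (f43348 IH) (Lpr_gt (K10.f192481 IH) (Lpe (K14.f192491 IH) (Lpr_dt (K14.f192492 IH) (Lpn (LP (LK LD1_c5 LD2_c1 LD3_c20)))))))))))))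
theorem f213983 : Led Lsl_gt (LP (LK LD1_c4 LD2_c54 LD3_c43)) = (LP (LK LD1_c2 LD2_c25 LD3_c15)) :=
  Lre_g IH (LK LD1_c4 LD2_c54 LD3_c43) (LK LD1_c2 LD2_c25 LD3_c15) Lrfl Lrfl
theorem f274870 : Led Lsl_df (LP (LK LD1_c4 LD2_c54 LD3_c43)) = (LP (LK LD1_c4 LD2_c12 LD3_c54)) :=
  Lgr Lrot170 (Lpr_gt (f213983 IH) (Lpe (K12.f213898 IH) (Lpr_et (K12.f213921 IH) (Lpr_gt (K14.f254276 IH) (Lpr_dt (K14.f192492 IH) (Lpe (f274868 IH) (Lpe (K14.f182077 IH) (Lpr_et (f182078 IH) (Lpr_gt (f274860 IH) (Lpr_ef (K14.f256070 IH) (Lpn (LP (LK LD1_c4 LD2_c12 LD3_c54)))))))))))))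
theorem f7846 : Led Lsl_ct (LP (LK LD1_c2 LD2_c40 LD3_c30)) = (LP (LK LD1_c1 LD2_c16 LD3_c58)) :=
  Lre_c IH (LK LD1_c2 LD2_c40 LD3_c30) (LK LD1_c1 LD2_c16 LD3_c58) Lrfl Lrfl
theorem f274879 : Led Lsl_gt (LP (LK LD1_c4 LD2_c54 LD3_c44)) = (LP (LK LD1_c2 LD2_c40 LD3_c30)) :=
  Lgr Lrot150 (Lpe (K12.f169261 IH) (Lpe (f213983 IH) (Lpr_df (f274870 IH) (Lpe (K14.f256060 IH) (Lpr_ct (K14.f250478 IH) (Lpr_gt (K14.f201238 IH) (Lpe (K11.f201228 IH) (Lpr_df (K12.f7719 IH) (Lpe (f7846 IH) (Lpn (LP (LK LD1_c2 LD2_c40 LD3_c30))))))))))))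
theorem f7839 : Led Lsl_bt (LP (LK LD1_c1 LD2_c16 LD3_c58)) = (LP (LK LD1_c0 LD2_c35 LD3_c36)) :=
  Lre_b IH (LK LD1_c1 LD2_c16 LD3_c58) (LK LD1_c0 LD2_c35 LD3_c36) Lrfl Lrfl
theorem f179127 : Led Lsl_bt (LP (LK LD1_c0 LD2_c35 LD3_c45)) = (LP (LK LD1_c0 LD2_c15 LD3_c60)) :=
  Lre_b IH (LK LD1_c0 LD2_c35 LD3_c45) (LK LD1_c0 LD2_c15 LD3_c60) Lrfl Lrfl
theorem f274885 : Led Lsl_bf (LP (LK LD1_c4 LD2_c54 LD3_c43)) = (LP (LK LD1_c5 LD2_c29 LD3_c54)) :=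
  Lgr Lrot165 (Lpr_gt (f213983 IH) (Lpr_ct (K12.f169261 IH) (Lpr_gt (f274879 IH) (Lpe (K15.f7840 IH) (Lpr_bt (f7839 IH) (Lpe (K9.f179116 IH) (Lpe (f179127 IH) (Lpr_ct (K12.f179128 IH) (Lpr_gt (K14.f175175 IH) (Lpe (K14.f179129 IH) (Lpn (LP (LK LD1_c5 LD2_c29 LD3_c54)))))))))))))
theorem f238192 : Led Lsl_bt (LP (LK LD1_c1 LD2_c9 LD3_c55)) = (LP (LK LD1_c2 LD2_c25 LD3_c15)) :=
  Lre_b IH (LK LD1_c1 LD2_c9 LD3_c55) (LK LD1_c2 LD2_c25 LD3_c15) Lrfl Lrfl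
theorem f223339 : Led Lsl_gt (LP (LK LD1_c2 LD2_c25 LD3_c21)) = (LP (LK LD1_c4 LD2_c54 LD3_c56)) :=
  Lre_g IH (LK LD1_c2 LD2_c25 LD3_c21) (LK LD1_c4 LD2_c54 LD3_c56) Lrfl Lrfl
theorem f220679 : Led Lsl_bf (LP (LK LD1_c5 LD2_c22 LD3_c16)) = (LP (LK LD1_c2 LD2_c41 LD3_c15)) :=
  Lgr Lrot24 (Lpr_bt (K15.f220652 IH) (Lpn (LP (LK LD1_c2 LD2_c41 LD3_c15))))
theorem f220718 : Led Lsl_bt (LP (LK LD1_c2 LD2_c37 LD3_c39)) = (LP (LK LD1_c1 LD2_c17 LD3_c18)) :=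
  Lgr Lrot119 (Lpe (K13.f220638 IH) (Lpr_bf (f220679 IH) (Lpe (K14.f220570 IH) (Lpn (LP (LK LD1_c1 LD2_c17 LD3_c18))))))
theorem f274921 : Led Lsl_cf (LP (LK LD1_c4 LD2_c54 LD3_c56)) = (LP (LK LD1_c2 LD2_c37 LD3_c39)) :=
  Lgr Lrot58 (Lpe (f223339 IH) (Lpe (K15.f217460 IH) (Lpr_bt (f238192 IH) (Lpe (f213983 IH) (Lpr_bf (f274885 IH) (Lpr_ct (K14.f179129 IH) (Lpe (K14.f175175 IH) (Lpe (K12.f179128 IH) (Lpe (K12.f168355 IH) (Lpe (f220718 IH) (Lpn (LP (LK LD1_c2 LD2_c37 LD3_c39)))))))))))))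
theorem f218573 : Led Lsl_dt (LP (LK LD1_c2 LD2_c25 LD3_c30)) = (LP (LK LD1_c4 LD2_c55 LD3_c12)) :=
  Lre_d IH (LK LD1_c2 LD2_c25 LD3_c30) (LK LD1_c4 LD2_c55 LD3_c12) Lrfl Lrfl
theorem f274935 : Led Lsl_gt (LP (LK LD1_c4 LD2_c54 LD3_c56)) = (LP (LK LD1_c2 LD2_c25 LD3_c30)) :=
  Lgr Lrot94 (Lpr_cf (f274921 IH) (Lpe (f250974 IH) (Lpr_dt (K12.f169263 IH) (Lpr_gt (K12.f223739 IH) (Lpr_dt (K10.f30884 IH) (Lpe (K9.f30880 IH) (Lpe (K12.f30904 IH) (Lpr_gf (K15.f263728 IH) (Lpe (f218573 IH) (Lpn (LP (LK LD1_c2 LD2_c25 LD3_c30))))))))))))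
theorem f247323 : Led Lsl_bf (LP (LK LD1_c1 LD2_c58 LD3_c24)) = (LP (LK LD1_c1 LD2_c16 LD3_c49)) :=
  Lgr Lrot34 (Lpe (K13.f233927 IH) (Lpr_bf (K12.f220218 IH) (Lpr_ct (K12.f53021 IH) (Lpe (K13.f223700 IH) (Lpe (K13.f193327 IH) (Lpe (K12.f223666 IH) (Lpr_bf (K14.f247315 IH) (Lpe (K14.f213784 IH) (Lpe (f245060 IH) (Lpe (K13.f244841 IH) (Lpn (LP (LK LD1_c1 LD2_c16 LD3_c49)))))))))))))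
theorem f179772 : Led Lsl_gt (LP (LK LD1_c2 LD2_c11 LD3_c41)) = (LP (LK LD1_c4 LD2_c29 LD3_c7)) :=
  Lre_g IH (LK LD1_c2 LD2_c11 LD3_c41) (LK LD1_c4 LD2_c29 LD3_c7) Lrfl Lrfl
theorem f245076 : Led Lsl_gf (LP (LK LD1_c2 LD2_c40 LD3_c7)) = (LP (LK LD1_c4 LD2_c29 LD3_c7)) :=
  Lgr Lrot76 (Lpe (K13.f245005 IH) (Lpr_ff (K13.f245058 IH) (Lpr_gt (f179772 IH) (Lpn (LP (LK LD1_c4 LD2_c29 LD3_c7))))))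
theorem f274944 : Led Lsl_ct (LP (LK LD1_c4 LD2_c55 LD3_c5)) = (LP (LK LD1_c4 LD2_c29 LD3_c7)) :=
  Lgr Lrot91 (Lpe (K15.f219083 IH) (Lpe (K15.f263707 IH) (Lpr_ct (K15.f218571 IH) (Lpe (f274935 IH) (Lpr_cf (f274921 IH) (Lpr_bt (f220718 IH) (Lpr_gf (K12.f220582 IH) (Lpr_bf (f247323 IH) (Lpr_ct (K13.f244841 IH) (Lpr_gf (f245076 IH) (Lpn (LP (LK LD1_c4 LD2_c29 LD3_c7)))))))))))))
theorem f219085 : Led Lsl_ct (LP (LK LD1_c4 LD2_c55 LD3_c6)) = (LP (LK LD1_c2 LD2_c25 LD3_c26)) :=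
  Lre_c IH (LK LD1_c4 LD2_c55 LD3_c6) (LK LD1_c2 LD2_c25 LD3_c26) Lrfl Lrfl
theorem f178842 : Led Lsl_ct (LP (LK LD1_c2 LD2_c41 LD3_c26)) = (LP (LK LD1_c1 LD2_c17 LD3_c23)) :=
  Lre_c IH (LK LD1_c2 LD2_c41 LD3_c26) (LK LD1_c1 LD2_c17 LD3_c23) Lrfl Lrfl
theorem f178843 : Led Lsl_dt (LP (LK LD1_c5 LD2_c30 LD3_c20)) = (LP (LK LD1_c2 LD2_c41 LD3_c26)) :=
  Lre_d IH (LK LD1_c5 LD2_c30 LD3_c20) (LK LD1_c2 LD2_c41 LD3_c26) Lrfl Lrfl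
theorem f250636 : Led Lsl_gt (LP (LK LD1_c4 LD2_c16 LD3_c27)) = (LP (LK LD1_c5 LD2_c30 LD3_c20)) :=
  Lgr Lrot49 (Lpe (f52210 IH) (Lpe (K9.f52209 IH) (Lpe (K9.f51477 IH) (Lpr_gt (K12.f51466 IH) (Lpr_dt (K14.f250628 IH) (Lpr_gt (K13.f168336 IH) (Lpr_dt (K13.f213841 IH) (Lpe (f178842 IH) (Lpe (f178843 IH) (Lpn (LP (LK LD1_c5 LD2_c30 LD3_c20))))))))))))
theorem f235777 : Led Lsl_dt (LP (LK LD1_c2 LD2_c40 LD3_c11)) = (LP (LK LD1_c5 LD2_c27 LD3_c38)) :=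
  Lre_d IH (LK LD1_c2 LD2_c40 LD3_c11) (LK LD1_c5 LD2_c27 LD3_c38) Lrfl Lrfl
theorem f220881 : Led Lsl_gt (LP (LK LD1_c2 LD2_c41 LD3_c51)) = (LP (LK LD1_c5 LD2_c31 LD3_c11)) :=
  Lre_g IH (LK LD1_c2 LD2_c41 LD3_c51) (LK LD1_c5 LD2_c31 LD3_c11) Lrfl Lrfl
theorem f274952 : Led Lsl_dt (LP (LK LD1_c5 LD2_c31 LD3_c11)) = (LP (LK LD1_c4 LD2_c29 LD3_c7)) :=
  Lgr Lrot113 (Lpe (f220881 IH) (Lpe (f220880 IH) (Lpe (K12.f220872 IH) (Lpr_ct (K15.f188946 IH) (Lpr_gt (K12.f49893 IH) (Lpe (K14.f220528 IH) (Lpr_gt (K15.f220532 IH) (Lpe (K15.f266462 IH) (Lpr_ct (f274944 IH) (Lpn (LP (LK LD1_c4 LD2_c29 LD3_c7))))))))))))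
theorem f274954 : Led Lsl_ct (LP (LK LD1_c5 LD2_c30 LD3_c20)) = (LP (LK LD1_c5 LD2_c31 LD3_c11)) :=
  Lgr Lrot110 (Lpe (f250636 IH) (Lpr_cf (f218174 IH) (Lpr_gf (f271473 IH) (Lpe (f235777 IH) (Lpr_gt (K13.f235771 IH) (Lpr_ct (f219085 IH) (Lpr_gt (K15.f219083 IH) (Lpr_ct (f274944 IH) (Lpe (f274952 IH) (Lpn (LP (LK LD1_c5 LD2_c31 LD3_c11))))))))))))
theorem f274956 : Led Lsl_df (LP (LK LD1_c5 LD2_c31 LD3_c11)) = (LP (LK LD1_c4 LD2_c29 LD3_c7)) :=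
  Lgr Lrot162 (Lpe (f274954 IH) (Lpe (f250636 IH) (Lpr_cf (f218174 IH) (Lpr_gf (f271473 IH) (Lpr_dt (f235776 IH) (Lpr_gt (K13.f235771 IH) (Lpr_ct (f219085 IH) (Lpr_gt (K15.f219083 IH) (Lpr_ct (f274944 IH) (Lpn (LP (LK LD1_c4 LD2_c29 LD3_c7))))))))))))
theorem f183737 : Led Lsl_et (LP (LK LD1_c4 LD2_c13 LD3_c56)) = (LP (LK LD1_c2 LD2_c4 LD3_c30)) :=
  Lre_e IH (LK LD1_c4 LD2_c13 LD3_c56) (LK LD1_c2 LD2_c4 LD3_c30) Lrfl Lrfl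
theorem f252287 : Led Lsl_et (LP (LK LD1_c4 LD2_c15 LD3_c7)) = (LP (LK LD1_c8 LD2_c29 LD3_c13)) :=
  Lre_e IH (LK LD1_c4 LD2_c15 LD3_c7) (LK LD1_c8 LD2_c29 LD3_c13) Lrfl Lrfl
theorem f274949 : Led Lsl_et (LP (LK LD1_c4 LD2_c29 LD3_c7)) = (LP (LK LD1_c8 LD2_c56 LD3_c30)) :=
  Lre_e IH (LK LD1_c4 LD2_c29 LD3_c7) (LK LD1_c8 LD2_c56 LD3_c30) Lrfl Lrfl
theorem f275108 : Led Lsl_gf (LP (LK LD1_c8 LD2_c29 LD3_c13)) = (LP (LK LD1_c8 LD2_c56 LD3_c30)) :=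
  Lgr Lrot141 (Lpe (f252287 IH) (Lpr_dt (K14.f49198 IH) (Lpe (K15.f252279 IH) (Lpe (K14.f50887 IH) (Lpr_et (f183737 IH) (Lpr_gt (K12.f220872 IH) (Lpr_dt (f220880 IH) (Lpr_gt (f220881 IH) (Lpr_df (f274956 IH) (Lpr_et (f274949 IH) (Lpn (LP (LK LD1_c8 LD2_c56 LD3_c30)))))))))))))
theorem f179761 : Led Lsl_bt (LP (LK LD1_c2 LD2_c2 LD3_c40)) = (LP (LK LD1_c0 LD2_c58 LD3_c17)) :=
  Lre_b IH (LK LD1_c2 LD2_c2 LD3_c40) (LK LD1_c0 LD2_c58 LD3_c17) Lrfl Lrfl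
theorem f274959 : Led Lsl_bt (LP (LK LD1_c4 LD2_c55 LD3_c5)) = (LP (LK LD1_c5 LD2_c22 LD3_c58)) :=
  Lgr Lrot130 (Lpr_ct (f274944 IH) (Lpe (f179772 IH) (Lpe (K13.f179771 IH) (Lpr_bt (K14.f179770 IH) (Lpr_gf (K9.f179758 IH) (Lpe (f179761 IH) (Lpr_ct (K13.f179763 IH) (Lpr_gf (K14.f226913 IH) (Lpe (K12.f169271 IH) (Lpr_gf (K15.f217824 IH) (Lpn (LP (LK LD1_c5 LD2_c22 LD3_c58)))))))))))))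
theorem f266789 : Led Lsl_et (LP (LK LD1_c9 LD2_c41 LD3_c43)) = (LP (LK LD1_c4 LD2_c55 LD3_c5)) :=
  Lre_e IH (LK LD1_c9 LD2_c41 LD3_c43) (LK LD1_c4 LD2_c55 LD3_c5) Lrfl Lrfl
theorem f274963 : Led Lsl_et (LP (LK LD1_c5 LD2_c22 LD3_c58)) = (LP (LK LD1_c10 LD2_c36 LD3_c18)) :=
  Lre_e IH (LK LD1_c5 LD2_c22 LD3_c58) (LK LD1_c10 LD2_c36 LD3_c18) Lrfl Lrfl
theorem f274964 : Led Lsl_bf (LP (LK LD1_c9 LD2_c41 LD3_c43)) = (LP (LK LD1_c10 LD2_c36 LD3_c18)) :=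
  Lgr Lrot96 (Lpr_et (f266789 IH) (Lpr_bt (f274959 IH) (Lpr_et (f274963 IH) (Lpn (LP (LK LD1_c10 LD2_c36 LD3_c18))))))
theorem f274967 : Led Lsl_bt (LP (LK LD1_c9 LD2_c41 LD3_c43)) = (LP (LK LD1_c10 LD2_c36 LD3_c18)) :=
  Lgr Lrot127 (Lpr_bf (f274964 IH) (Lpn (LP (LK LD1_c10 LD2_c36 LD3_c18))))
theorem f274950 : Led Lsl_cf (LP (LK LD1_c9 LD2_c41 LD3_c43)) = (LP (LK LD1_c8 LD2_c56 LD3_c30)) :=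
  Lgr Lrot39 (Lpr_et (f266789 IH) (Lpr_ct (f274944 IH) (Lpr_et (f274949 IH) (Lpn (LP (LK LD1_c8 LD2_c56 LD3_c30))))))
theorem f274973 : Led Lsl_bt (LP (LK LD1_c16 LD2_c44 LD3_c18)) = (LP (LK LD1_c8 LD2_c56 LD3_c30)) :=
  Lre_b IH (LK LD1_c16 LD2_c44 LD3_c18) (LK LD1_c8 LD2_c56 LD3_c30) Lrfl Lrfl
theorem f274972 : Led Lsl_ct (LP (LK LD1_c10 LD2_c36 LD3_c18)) = (LP (LK LD1_c5 LD2_c22 LD3_c60)) :=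
  Lre_c IH (LK LD1_c10 LD2_c36 LD3_c18) (LK LD1_c5 LD2_c22 LD3_c60) Lrfl Lrfl
theorem f274974 : Led Lsl_bt (LP (LK LD1_c5 LD2_c22 LD3_c60)) = (LP (LK LD1_c10 LD2_c36 LD3_c17)) :=
  Lre_b IH (LK LD1_c5 LD2_c22 LD3_c60) (LK LD1_c10 LD2_c36 LD3_c17) Lrfl Lrfl
theorem f274975 : Led Lsl_cf (LP (LK LD1_c16 LD2_c44 LD3_c18)) = (LP (LK LD1_c10 LD2_c36 LD3_c17)) :=
  Lgr Lrot97 (Lpr_bt (f274973 IH) (Lpe (f274950 IH) (Lpr_bt (f274967 IH) (Lpr_ct (f274972 IH) (Lpr_bt (f274974 IH) (Lpn (LP (LK LD1_c10 LD2_c36 LD3_c17))))))))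
theorem f275008 : Led Lsl_ct (LP (LK LD1_c16 LD2_c44 LD3_c18)) = (LP (LK LD1_c10 LD2_c36 LD3_c17)) :=
  Lgr Lrot59 (Lpr_cf (f274975 IH) (Lpn (LP (LK LD1_c10 LD2_c36 LD3_c17))))
theorem f275027 : Led Lsl_bt (LP (LK LD1_c8 LD2_c56 LD3_c30)) = (LP (LK LD1_c16 LD2_c44 LD3_c18)) :=
  Lre_b IH (LK LD1_c8 LD2_c56 LD3_c30) (LK LD1_c16 LD2_c44 LD3_c18) Lrfl Lrfl
theorem f274970 : Led Lsl_bt (LP (LK LD1_c10 LD2_c36 LD3_c17)) = (LP (LK LD1_c5 LD2_c22 LD3_c60)) :=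
  Lre_b IH (LK LD1_c10 LD2_c36 LD3_c17) (LK LD1_c5 LD2_c22 LD3_c60) Lrfl Lrfl
theorem f274969 : Led Lsl_ct (LP (LK LD1_c5 LD2_c22 LD3_c60)) = (LP (LK LD1_c10 LD2_c36 LD3_c18)) :=
  Lre_c IH (LK LD1_c5 LD2_c22 LD3_c60) (LK LD1_c10 LD2_c36 LD3_c18) Lrfl Lrfl
theorem f275028 : Led Lsl_cf (LP (LK LD1_c8 LD2_c56 LD3_c30)) = (LP (LK LD1_c9 LD2_c41 LD3_c43)) :=
  Lgr Lrot97 (Lpr_bt (f275027 IH) (Lpr_ct (f275008 IH) (Lpr_bt (f274970 IH) (Lpr_ct (f274969 IH) (Lpe (f274964 IH) (Lpn (LP (LK LD1_c9 LD2_c41 LD3_c43))))))))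
theorem f266288 : Led Lsl_dt (LP (LK LD1_c4 LD2_c13 LD3_c39)) = (LP (LK LD1_c8 LD2_c6 LD3_c3)) :=
  Lgr Lrot79 (Lpr_bf (K12.f184076 IH) (Lpr_df (K12.f229934 IH) (Lpr_bf (K15.f266281 IH) (Lpn (LP (LK LD1_c8 LD2_c6 LD3_c3))))))
theorem f44996 : Led Lsl_et (LP (LK LD1_c8 LD2_c26 LD3_c11)) = (LP (LK LD1_c4 LD2_c13 LD3_c39)) :=
  Lre_e IH (LK LD1_c8 LD2_c26 LD3_c11) (LK LD1_c4 LD2_c13 LD3_c39) Lrfl Lrfl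
theorem f266468 : Led Lsl_et (LP (LK LD1_c4 LD2_c55 LD3_c5)) = (LP (LK LD1_c9 LD2_c41 LD3_c43)) :=
  Lre_e IH (LK LD1_c4 LD2_c55 LD3_c5) (LK LD1_c9 LD2_c41 LD3_c43) Lrfl Lrfl
theorem f266780 : Led Lsl_df (LP (LK LD1_c8 LD2_c26 LD3_c11)) = (LP (LK LD1_c9 LD2_c41 LD3_c43)) :=
  Lgr Lrot70 (Lpr_et (f44996 IH) (Lpr_dt (f266288 IH) (Lpr_et (K15.f266776 IH) (Lpe (K15.f266462 IH) (Lpr_et (f266468 IH) (Lpn (LP (LK LD1_c9 LD2_c41 LD3_c43))))))))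
theorem f266782 : Led Lsl_dt (LP (LK LD1_c8 LD2_c26 LD3_c11)) = (LP (LK LD1_c9 LD2_c41 LD3_c43)) :=
  Lgr Lrot42 (Lpr_df (f266780 IH) (Lpn (LP (LK LD1_c9 LD2_c41 LD3_c43))))
theorem f184078 : Led Lsl_et (LP (LK LD1_c4 LD2_c54 LD3_c2)) = (LP (LK LD1_c9 LD2_c39 LD3_c31)) :=
  Lre_e IH (LK LD1_c4 LD2_c54 LD3_c2) (LK LD1_c9 LD2_c39 LD3_c31) Lrfl Lrfl
theorem f184079 : Led Lsl_bf (LP (LK LD1_c8 LD2_c26 LD3_c11)) = (LP (LK LD1_c9 LD2_c39 LD3_c31)) :=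
  Lgr Lrot96 (Lpr_et (f44996 IH) (Lpr_bt (K9.f184074 IH) (Lpr_et (f184078 IH) (Lpn (LP (LK LD1_c9 LD2_c39 LD3_c31))))))
theorem f274977 : Led Lsl_df (LP (LK LD1_c9 LD2_c39 LD3_c31)) = (LP (LK LD1_c10 LD2_c36 LD3_c18)) :=
  Lgr Lrot12 (Lpe (f184079 IH) (Lpr_dt (f266782 IH) (Lpr_bt (f274967 IH) (Lpn (LP (LK LD1_c10 LD2_c36 LD3_c18))))))
theorem f274981 : Led Lsl_dt (LP (LK LD1_c9 LD2_c39 LD3_c31)) = (LP (LK LD1_c10 LD2_c36 LD3_c18)) :=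
  Lgr Lrot42 (Lpr_df (f274977 IH) (Lpn (LP (LK LD1_c10 LD2_c36 LD3_c18))))
theorem f43813 : Led Lsl_et (LP (LK LD1_c9 LD2_c39 LD3_c31)) = (LP (LK LD1_c4 LD2_c54 LD3_c2)) :=
  Lre_e IH (LK LD1_c9 LD2_c39 LD3_c31) (LK LD1_c4 LD2_c54 LD3_c2) Lrfl Lrfl
theorem f254253 : Led Lsl_df (LP (LK LD1_c9 LD2_c33 LD3_c17)) = (LP (LK LD1_c9 LD2_c52 LD3_c58)) :=
  Lgr Lrot38 (Lpr_dt (K14.f254250 IH) (Lpn (LP (LK LD1_c9 LD2_c52 LD3_c58))))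
theorem f274995 : Led Lsl_gf (LP (LK LD1_c9 LD2_c33 LD3_c17)) = (LP (LK LD1_c10 LD2_c36 LD3_c18)) :=
  Lgr Lrot145 (Lpr_df (f254253 IH) (Lpr_et (K14.f192497 IH) (Lpr_gt (K14.f192484 IH) (Lpr_dt (K14.f192483 IH) (Lpe (K10.f192477 IH) (Lpe (K9.f44570 IH) (Lpe (K9.f50046 IH) (Lpr_gt (K9.f43810 IH) (Lpe (f43813 IH) (Lpr_dt (f274981 IH) (Lpn (LP (LK LD1_c10 LD2_c36 LD3_c18)))))))))))))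
theorem f169484 : Led Lsl_bt (LP (LK LD1_c6 LD2_c5 LD3_c52)) = (LP (LK LD1_c2 LD2_c59 LD3_c6)) :=
  Lre_b IH (LK LD1_c6 LD2_c5 LD3_c52) (LK LD1_c2 LD2_c59 LD3_c6) Lrfl Lrfl
theorem f169546 : Led Lsl_ct (LP (LK LD1_c6 LD2_c5 LD3_c52)) = (LP (LK LD1_c11 LD2_c55 LD3_c10)) :=
  Lre_c IH (LK LD1_c6 LD2_c5 LD3_c52) (LK LD1_c11 LD2_c55 LD3_c10) Lrfl Lrfl
theorem f275045 : Led Lsl_gf (LP (LK LD1_c8 LD2_c56 LD3_c30)) = (LP (LK LD1_c11 LD2_c55 LD3_c10)) :=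
  Lgr Lrot126 (Lpr_cf (f275028 IH) (Lpr_bt (f274967 IH) (Lpe (f274995 IH) (Lpr_ct (K15.f254245 IH) (Lpr_gt (K15.f264005 IH) (Lpe (K15.f258169 IH) (Lpr_bt (K15.f268095 IH) (Lpr_gt (K15.f264354 IH) (Lpe (f169484 IH) (Lpr_ct (f169546 IH) (Lpn (LP (LK LD1_c11 LD2_c55 LD3_c10)))))))))))))
theorem f268135 : Led Lsl_ft (LP (LK LD1_c11 LD2_c55 LD3_c10)) = (LP (LK LD1_c6 LD2_c5 LD3_c50)) :=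
  Lre_f IH (LK LD1_c11 LD2_c55 LD3_c10) (LK LD1_c6 LD2_c5 LD3_c50) Lrfl Lrfl
theorem f275117 : Led Lsl_af (LP (LK LD1_c8 LD2_c29 LD3_c13)) = (LP (LK LD1_c6 LD2_c5 LD3_c50)) :=
  Lgr Lrot31 (Lpr_gf (f275108 IH) (Lpr_gf (f275045 IH) (Lpr_ft (f268135 IH) (Lpn (LP (LK LD1_c6 LD2_c5 LD3_c50))))))
theorem f264844 : Led Lsl_et (LP (LK LD1_c8 LD2_c29 LD3_c13)) = (LP (LK LD1_c4 LD2_c15 LD3_c7)) :=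
  Lre_e IH (LK LD1_c8 LD2_c29 LD3_c13) (LK LD1_c4 LD2_c15 LD3_c7) Lrfl Lrfl
theorem f231698 : Led Lsl_et (LP (LK LD1_c2 LD2_c59 LD3_c0)) = (LP (LK LD1_c6 LD2_c5 LD3_c50)) :=
  Lre_e IH (LK LD1_c2 LD2_c59 LD3_c0) (LK LD1_c6 LD2_c5 LD3_c50) Lrfl Lrfl
theorem f275128 : Led Lsl_at (LP (LK LD1_c4 LD2_c15 LD3_c7)) = (LP (LK LD1_c2 LD2_c59 LD3_c0)) :=
  Lgr Lrot80 (Lpe (f264844 IH) (Lpr_af (f275117 IH) (Lpe (f231698 IH) (Lpn (LP (LK LD1_c2 LD2_c59 LD3_c0))))))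
theorem f264834 : Led Lsl_ff (LP (LK LD1_c4 LD2_c15 LD3_c7)) = (LP (LK LD1_c4 LD2_c14 LD3_c55)) :=
  Lgr Lrot23 (Lpr_ct (K14.f45144 IH) (Lpr_ft (K15.f264828 IH) (Lpr_ct (K15.f49075 IH) (Lpn (LP (LK LD1_c4 LD2_c14 LD3_c55))))))
theorem f264826 : Led Lsl_at (LP (LK LD1_c2 LD2_c39 LD3_c20)) = (LP (LK LD1_c4 LD2_c14 LD3_c55)) :=
  Lgr Lrot107 (Lpe (K15.f166138 IH) (Lpr_af (K15.f264818 IH) (Lpe (K15.f49079 IH) (Lpn (LP (LK LD1_c4 LD2_c14 LD3_c55))))))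
theorem f275137 : Led Lsl_ff (LP (LK LD1_c2 LD2_c39 LD3_c20)) = (LP (LK LD1_c2 LD2_c59 LD3_c0)) :=
  Lgr Lrot30 (Lpr_at (f264826 IH) (Lpe (f264834 IH) (Lpr_at (f275128 IH) (Lpn (LP (LK LD1_c2 LD2_c59 LD3_c0))))))
theorem f184971 : Led Lsl_gt (LP (LK LD1_c2 LD2_c59 LD3_c0)) = (LP (LK LD1_c6 LD2_c5 LD3_c46)) :=
  Lre_g IH (LK LD1_c2 LD2_c59 LD3_c0) (LK LD1_c6 LD2_c5 LD3_c46) Lrfl Lrfl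
theorem f275148 : Led Lsl_gf (LP (LK LD1_c4 LD2_c14 LD3_c55)) = (LP (LK LD1_c6 LD2_c5 LD3_c46)) :=
  Lgr Lrot76 (Lpe (f264826 IH) (Lpr_ff (f275137 IH) (Lpr_gt (f184971 IH) (Lpn (LP (LK LD1_c6 LD2_c5 LD3_c46))))))
theorem f216140 : Led Lsl_gt (LP (LK LD1_c4 LD2_c5 LD3_c14)) = (LP (LK LD1_c8 LD2_c11 LD3_c16)) :=
  Lre_g IH (LK LD1_c4 LD2_c5 LD3_c14) (LK LD1_c8 LD2_c11 LD3_c16) Lrfl Lrfl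
theorem f275150 : Led Lsl_ct (LP (LK LD1_c8 LD2_c11 LD3_c16)) = (LP (LK LD1_c6 LD2_c5 LD3_c46)) :=
  Lgr Lrot152 (Lpe (f216140 IH) (Lpe (K15.f192462 IH) (Lpr_gt (K10.f192468 IH) (Lpr_ct (K9.f49430 IH) (Lpr_gt (K13.f44973 IH) (Lpe (K15.f231701 IH) (Lpe (K15.f49082 IH) (Lpe (K15.f49079 IH) (Lpr_gf (f275148 IH) (Lpn (LP (LK LD1_c6 LD2_c5 LD3_c46))))))))))))
theorem f179040 : Led Lsl_bt (LP (LK LD1_c1 LD2_c25 LD3_c13)) = (LP (LK LD1_c0 LD2_c39 LD3_c17)) :=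
  Lre_b IH (LK LD1_c1 LD2_c25 LD3_c13) (LK LD1_c0 LD2_c39 LD3_c17) Lrfl Lrfl
theorem f179073 : Led Lsl_gt (LP (LK LD1_c8 LD2_c13 LD3_c10)) = (LP (LK LD1_c4 LD2_c6 LD3_c17)) :=
  Lre_g IH (LK LD1_c8 LD2_c13 LD3_c10) (LK LD1_c4 LD2_c6 LD3_c17) Lrfl Lrfl
theorem f275160 : Led Lsl_bt (LP (LK LD1_c8 LD2_c11 LD3_c16)) = (LP (LK LD1_c8 LD2_c13 LD3_c10)) :=
  Lgr Lrot130 (Lpr_ct (f275150 IH) (Lpe (f184971 IH) (Lpe (K13.f179045 IH) (Lpr_bt (f179040 IH) (Lpe (K10.f184926 IH) (Lpe (K15.f184914 IH) (Lpr_ct (K14.f183925 IH) (Lpr_gf (K15.f252118 IH) (Lpe (K14.f179076 IH) (Lpe (f179073 IH) (Lpn (LP (LK LD1_c8 LD2_c13 LD3_c10)))))))))))))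
theorem f49898 : Led Lsl_dt (LP (LK LD1_c5 LD2_c15 LD3_c36)) = (LP (LK LD1_c2 LD2_c34 LD3_c39)) :=
  Lre_d IH (LK LD1_c5 LD2_c15 LD3_c36) (LK LD1_c2 LD2_c34 LD3_c39) Lrfl Lrfl
theorem f49902 : Led Lsl_dt (LP (LK LD1_c2 LD2_c34 LD3_c42)) = (LP (LK LD1_c1 LD2_c14 LD3_c22)) :=
  Lre_d IH (LK LD1_c2 LD2_c34 LD3_c42) (LK LD1_c1 LD2_c14 LD3_c22) Lrfl Lrfl
theorem f49903 : Led Lsl_gt (LP (LK LD1_c2 LD2_c1 LD3_c10)) = (LP (LK LD1_c2 LD2_c34 LD3_c42)) :=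
  Lgr Lrot49 (Lpe (K13.f49900 IH) (Lpe (K10.f49899 IH) (Lpe (K9.f49592 IH) (Lpr_gt (K10.f44989 IH) (Lpr_dt (K13.f45066 IH) (Lpr_gt (K14.f49895 IH) (Lpr_dt (f49898 IH) (Lpe (f49901 IH) (Lpe (f49902 IH) (Lpn (LP (LK LD1_c2 LD2_c34 LD3_c42))))))))))))
theorem f49920 : Led Lsl_ct (LP (LK LD1_c2 LD2_c34 LD3_c42)) = (LP (LK LD1_c5 LD2_c15 LD3_c43)) :=
  Lre_c IH (LK LD1_c2 LD2_c34 LD3_c42) (LK LD1_c5 LD2_c15 LD3_c43) Lrfl Lrfl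
theorem f192104 : Led Lsl_gt (LP (LK LD1_c5 LD2_c15 LD3_c43)) = (LP (LK LD1_c5 LD2_c17 LD3_c19)) :=
  Lgr Lrot150 (Lpe (f49920 IH) (Lpe (f49903 IH) (Lpe (K13.f49900 IH) (Lpr_gt (K10.f53585 IH) (Lpr_ct (K10.f49648 IH) (Lpe (K10.f53595 IH) (Lpr_ct (K10.f191559 IH) (Lpe (K15.f54047 IH) (Lpe (K13.f191360 IH) (Lpn (LP (LK LD1_c5 LD2_c17 LD3_c19))))))))))))
theorem f191370 : Led Lsl_bt (LP (LK LD1_c2 LD2_c35 LD3_c25)) = (LP (LK LD1_c5 LD2_c17 LD3_c17)) :=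
  Lre_b IH (LK LD1_c2 LD2_c35 LD3_c25) (LK LD1_c5 LD2_c17 LD3_c17) Lrfl Lrfl
theorem f275162 : Led Lsl_gf (LP (LK LD1_c8 LD2_c13 LD3_c10)) = (LP (LK LD1_c5 LD2_c17 LD3_c17)) :=
  Lgr Lrot124 (Lpe (f275160 IH) (Lpr_ct (f275150 IH) (Lpe (f275148 IH) (Lpe (K15.f49075 IH) (Lpr_bt (f231718 IH) (Lpr_gt (f49903 IH) (Lpr_ct (f49920 IH) (Lpr_gt (f192104 IH) (Lpe (K13.f183665 IH) (Lpr_bt (f191370 IH) (Lpn (LP (LK LD1_c5 LD2_c17 LD3_c17)))))))))))))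
theorem f215816 : Led Lsl_gt (LP (LK LD1_c5 LD2_c21 LD3_c32)) = (LP (LK LD1_c2 LD2_c37 LD3_c23)) :=
  Lre_g IH (LK LD1_c5 LD2_c21 LD3_c32) (LK LD1_c2 LD2_c37 LD3_c23) Lrfl Lrfl
theorem f215875 : Led Lsl_ct (LP (LK LD1_c8 LD2_c13 LD3_c10)) = (LP (LK LD1_c5 LD2_c21 LD3_c32)) :=
  Lgr Lrot8 (Lpr_gt (f179073 IH) (Lpr_dt (K12.f179070 IH) (Lpr_gt (K10.f191011 IH) (Lpr_dt (K10.f27573 IH) (Lpe (K14.f189296 IH) (Lpr_df (K14.f215804 IH) (Lpe (K14.f215791 IH) (Lpe (K14.f198880 IH) (Lpe (f215816 IH) (Lpn (LP (LK LD1_c5 LD2_c21 LD3_c32))))))))))))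
theorem f215894 : Led Lsl_dt (LP (LK LD1_c5 LD2_c21 LD3_c32)) = (LP (LK LD1_c10 LD2_c33 LD3_c24)) :=
  Lre_d IH (LK LD1_c5 LD2_c21 LD3_c32) (LK LD1_c10 LD2_c33 LD3_c24) Lrfl Lrfl
theorem f190625 : Led Lsl_dt (LP (LK LD1_c5 LD2_c21 LD3_c61)) = (LP (LK LD1_c2 LD2_c37 LD3_c32)) :=
  Lre_d IH (LK LD1_c5 LD2_c21 LD3_c61) (LK LD1_c2 LD2_c37 LD3_c32) Lrfl Lrfl
theorem f192498 : Led Lsl_dt (LP (LK LD1_c5 LD2_c1 LD3_c20)) = (LP (LK LD1_c2 LD2_c28 LD3_c22)) :=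
  Lre_d IH (LK LD1_c5 LD2_c1 LD3_c20) (LK LD1_c2 LD2_c28 LD3_c22) Lrfl Lrfl
theorem f183929 : Led Lsl_dt (LP (LK LD1_c5 LD2_c13 LD3_c15)) = (LP (LK LD1_c10 LD2_c16 LD3_c51)) :=
  Lre_d IH (LK LD1_c5 LD2_c13 LD3_c15) (LK LD1_c10 LD2_c16 LD3_c51) Lrfl Lrfl
theorem f254264 : Led Lsl_gf (LP (LK LD1_c5 LD2_c21 LD3_c61)) = (LP (LK LD1_c10 LD2_c16 LD3_c51)) :=
  Lgr Lrot143 (Lpr_dt (f190625 IH) (Lpr_cf (K10.f194160 IH) (Lpr_df (K14.f254260 IH) (Lpe (K14.f192499 IH) (Lpe (f192498 IH) (Lpe (K14.f192495 IH) (Lpe (K14.f179071 IH) (Lpe (K15.f252118 IH) (Lpr_dt (f183929 IH) (Lpn (LP (LK LD1_c10 LD2_c16 LD3_c51))))))))))))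
theorem f214937 : Led Lsl_dt (LP (LK LD1_c8 LD2_c51 LD3_c61)) = (LP (LK LD1_c15 LD2_c0 LD3_c46)) :=
  Lgr Lrot42 (Lpr_df (K14.f214918 IH) (Lpn (LP (LK LD1_c15 LD2_c0 LD3_c46))))
theorem f192125 : Led Lsl_gt (LP (LK LD1_c2 LD2_c28 LD3_c61)) = (LP (LK LD1_c1 LD2_c11 LD3_c39)) :=
  Lre_g IH (LK LD1_c2 LD2_c28 LD3_c61) (LK LD1_c1 LD2_c11 LD3_c39) Lrfl Lrfl
theorem f192126 : Led Lsl_ct (LP (LK LD1_c5 LD2_c2 LD3_c53)) = (LP (LK LD1_c2 LD2_c28 LD3_c61)) :=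
  Lre_c IH (LK LD1_c5 LD2_c2 LD3_c53) (LK LD1_c2 LD2_c28 LD3_c61) Lrfl Lrfl
theorem f214942 : Led Lsl_gf (LP (LK LD1_c8 LD2_c51 LD3_c61)) = (LP (LK LD1_c5 LD2_c2 LD3_c53)) :=
  Lgr Lrot144 (Lpr_dt (f214937 IH) (Lpr_gt (K14.f31519 IH) (Lpr_dt (K12.f31518 IH) (Lpe (K12.f31476 IH) (Lpe (K1.f31516 IH) (Lpr_gf (K10.f192121 IH) (Lpe (K12.f169858 IH) (Lpe (f192125 IH) (Lpe (f192126 IH) (Lpn (LP (LK LD1_c5 LD2_c2 LD3_c53))))))))))))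
theorem f214944 : Led Lsl_dt (LP (LK LD1_c9 LD2_c56 LD3_c33)) = (LP (LK LD1_c5 LD2_c2 LD3_c53)) :=
  Lre_d IH (LK LD1_c9 LD2_c56 LD3_c33) (LK LD1_c5 LD2_c2 LD3_c53) Lrfl Lrfl
theorem f256325 : Led Lsl_gt (LP (LK LD1_c10 LD2_c21 LD3_c4)) = (LP (LK LD1_c9 LD2_c56 LD3_c33)) :=
  Lgr Lrot94 (Lpr_cf (K14.f215267 IH) (Lpr_gt (K14.f215280 IH) (Lpr_dt (K14.f256320 IH) (Lpe (K14.f192856 IH) (Lpe (K14.f191933 IH) (Lpe (K14.f215695 IH) (Lpe (f214937 IH) (Lpr_gf (f214942 IH) (Lpe (f214944 IH) (Lpn (LP (LK LD1_c9 LD2_c56 LD3_c33))))))))))))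
theorem f275168 : Led Lsl_cf (LP (LK LD1_c10 LD2_c33 LD3_c24)) = (LP (LK LD1_c9 LD2_c56 LD3_c33)) :=
  Lgr Lrot99 (Lpe (f215894 IH) (Lpe (f215875 IH) (Lpr_gf (f275162 IH) (Lpr_cf (K14.f192859 IH) (Lpe (K14.f183926 IH) (Lpe (K14.f183928 IH) (Lpe (f254264 IH) (Lpe (K14.f215267 IH) (Lpr_gt (f256325 IH) (Lpn (LP (LK LD1_c9 LD2_c56 LD3_c33))))))))))))
theorem f275185 : Led Lsl_gt (LP (LK LD1_c10 LD2_c33 LD3_c24)) = (LP (LK LD1_c8 LD2_c53 LD3_c56)) :=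
  Lgr Lrot150 (Lpr_cf (f275168 IH) (Lpe (f256325 IH) (Lpe (K14.f47656 IH) (Lpr_gt (K14.f215023 IH) (Lpr_ct (K12.f43258 IH) (Lpr_gt (K12.f197034 IH) (Lpr_ct (K10.f165249 IH) (Lpe (K14.f165248 IH) (Lpr_cf (K14.f253403 IH) (Lpn (LP (LK LD1_c8 LD2_c53 LD3_c56))))))))))))
theorem f215877 : Led Lsl_cf (LP (LK LD1_c8 LD2_c13 LD3_c10)) = (LP (LK LD1_c5 LD2_c21 LD3_c32)) :=
  Lgr Lrot166 (Lpr_gt (f179073 IH) (Lpr_dt (K12.f179070 IH) (Lpr_gt (K10.f191011 IH) (Lpr_dt (K10.f27573 IH) (Lpe (K10.f189273 IH) (Lpr_df (K14.f215804 IH) (Lpe (K14.f215791 IH) (Lpe (K14.f198880 IH) (Lpe (f215816 IH) (Lpn (LP (LK LD1_c5 LD2_c21 LD3_c32))))))))))))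
theorem f182608 : Led Lsl_ct (LP (LK LD1_c5 LD2_c20 LD3_c19)) = (LP (LK LD1_c4 LD2_c6 LD3_c32)) :=
  Lgr Lrot59 (Lpr_cf (K11.f182585 IH) (Lpn (LP (LK LD1_c4 LD2_c6 LD3_c32))))
theorem f215808 : Led Lsl_dt (LP (LK LD1_c5 LD2_c21 LD3_c46)) = (LP (LK LD1_c10 LD2_c33 LD3_c28)) :=
  Lgr Lrot27 (Lpr_cf (K10.f189273 IH) (Lpe (K11.f195948 IH) (Lpe (f182608 IH) (Lpe (K11.f42517 IH) (Lpe (K14.f46486 IH) (Lpr_gt (K14.f182755 IH) (Lpe (K14.f215688 IH) (Lpr_gt (K14.f31519 IH) (Lpr_ct (K14.f215794 IH) (Lpn (LP (LK LD1_c10 LD2_c33 LD3_c28))))))))))))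
theorem f195892 : Led Lsl_dt (LP (LK LD1_c5 LD2_c21 LD3_c40)) = (LP (LK LD1_c2 LD2_c37 LD3_c25)) :=
  Lre_d IH (LK LD1_c5 LD2_c21 LD3_c40) (LK LD1_c2 LD2_c37 LD3_c25) Lrfl Lrfl
theorem f215813 : Led Lsl_gf (LP (LK LD1_c5 LD2_c21 LD3_c40)) = (LP (LK LD1_c10 LD2_c33 LD3_c28)) :=
  Lgr Lrot143 (Lpr_dt (f195892 IH) (Lpe (K15.f194146 IH) (Lpe (K14.f41526 IH) (Lpe (K10.f41525 IH) (Lpe (K1.f41487 IH) (Lpe (K10.f41515 IH) (Lpe (K15.f198902 IH) (Lpr_gt (K10.f187528 IH) (Lpr_dt (f215808 IH) (Lpn (LP (LK LD1_c10 LD2_c33 LD3_c28))))))))))))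
theorem f215806 : Led Lsl_ff (LP (LK LD1_c9 LD2_c33 LD3_c21)) = (LP (LK LD1_c10 LD2_c33 LD3_c28)) :=
  Lgr Lrot23 (Lpe (K12.f214306 IH) (Lpr_ft (K14.f214320 IH) (Lpr_ct (K14.f215794 IH) (Lpn (LP (LK LD1_c10 LD2_c33 LD3_c28))))))
theorem f215823 : Led Lsl_gt (LP (LK LD1_c5 LD2_c21 LD3_c40)) = (LP (LK LD1_c10 LD2_c33 LD3_c29)) :=
  Lgr Lrot46 (Lpr_gf (f215813 IH) (Lpe (f215806 IH) (Lpr_at (K12.f215617 IH) (Lpn (LP (LK LD1_c10 LD2_c33 LD3_c29))))))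
theorem f215887 : Led Lsl_gt (LP (LK LD1_c2 LD2_c37 LD3_c25)) = (LP (LK LD1_c5 LD2_c21 LD3_c32)) :=
  Lgr Lrot9 (Lpe (f195892 IH) (Lpr_gt (f215823 IH) (Lpe (K12.f215615 IH) (Lpr_gt (K14.f214334 IH) (Lpr_ct (K14.f215695 IH) (Lpr_df (K14.f191933 IH) (Lpe (K14.f179076 IH) (Lpe (f179073 IH) (Lpr_cf (f215877 IH) (Lpn (LP (LK LD1_c5 LD2_c21 LD3_c32))))))))))))
theorem f253423 : Led Lsl_gt (LP (LK LD1_c2 LD2_c11 LD3_c7)) = (LP (LK LD1_c1 LD2_c2 LD3_c35)) :=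
  Lre_g IH (LK LD1_c2 LD2_c11 LD3_c7) (LK LD1_c1 LD2_c2 LD3_c35) Lrfl Lrfl
theorem f275192 : Led Lsl_dt (LP (LK LD1_c2 LD2_c37 LD3_c22)) = (LP (LK LD1_c2 LD2_c11 LD3_c7)) :=
  Lgr Lrot57 (Lpr_gf (K15.f215447 IH) (Lpe (K15.f194151 IH) (Lpr_gt (f215887 IH) (Lpr_dt (f215894 IH) (Lpr_gt (f275185 IH) (Lpr_dt (K14.f231381 IH) (Lpe (K13.f231382 IH) (Lpe (K14.f231380 IH) (Lpe (f253423 IH) (Lpn (LP (LK LD1_c2 LD2_c11 LD3_c7))))))))))))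
theorem f183332 : Led Lsl_ef (LP (LK LD1_c0 LD2_c31 LD3_c38)) = (LP (LK LD1_c1 LD2_c2 LD3_c47)) :=
  Lgr Lrot88 (Lpr_et (K9.f183328 IH) (Lpn (LP (LK LD1_c1 LD2_c2 LD3_c47))))
theorem f167676 : Led Lsl_et (LP (LK LD1_c0 LD2_c26 LD3_c28)) = (LP (LK LD1_c0 LD2_c58 LD3_c21)) :=
  Lre_e IH (LK LD1_c0 LD2_c26 LD3_c28) (LK LD1_c0 LD2_c58 LD3_c21) Lrfl Lrfl
theorem f195714 : Led Lsl_ef (LP (LK LD1_c1 LD2_c16 LD3_c28)) = (LP (LK LD1_c2 LD2_c2 LD3_c55)) :=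
  Lgr Lrot73 (Lpr_dt (K14.f195700 IH) (Lpe (f183332 IH) (Lpe (K9.f171155 IH) (Lpr_et (f167676 IH) (Lpr_dt (K13.f1390 IH) (Lpn (LP (LK LD1_c2 LD2_c2 LD3_c55))))))))
theorem f195718 : Led Lsl_et (LP (LK LD1_c1 LD2_c16 LD3_c28)) = (LP (LK LD1_c2 LD2_c2 LD3_c55)) :=
  Lgr Lrot87 (Lpr_ef (f195714 IH) (Lpn (LP (LK LD1_c2 LD2_c2 LD3_c55))))
theorem f195721 : Led Lsl_bt (LP (LK LD1_c2 LD2_c2 LD3_c55)) = (LP (LK LD1_c4 LD2_c11 LD3_c10)) :=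
  Lre_b IH (LK LD1_c2 LD2_c2 LD3_c55) (LK LD1_c4 LD2_c11 LD3_c10) Lrfl Lrfl
theorem f215456 : Led Lsl_ef (LP (LK LD1_c2 LD2_c37 LD3_c22)) = (LP (LK LD1_c4 LD2_c11 LD3_c10)) :=
  Lgr Lrot29 (Lpr_bt (K14.f215449 IH) (Lpr_et (f195718 IH) (Lpr_bt (f195721 IH) (Lpn (LP (LK LD1_c4 LD2_c11 LD3_c10))))))
theorem f215463 : Led Lsl_et (LP (LK LD1_c2 LD2_c37 LD3_c22)) = (LP (LK LD1_c4 LD2_c11 LD3_c10)) :=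
  Lgr Lrot87 (Lpr_ef (f215456 IH) (Lpn (LP (LK LD1_c4 LD2_c11 LD3_c10))))
theorem f215546 : Led Lsl_et (LP (LK LD1_c2 LD2_c2 LD3_c50)) = (LP (LK LD1_c0 LD2_c58 LD3_c19)) :=
  Lre_e IH (LK LD1_c2 LD2_c2 LD3_c50) (LK LD1_c0 LD2_c58 LD3_c19) Lrfl Lrfl
theorem f215461 : Led Lsl_dt (LP (LK LD1_c2 LD2_c2 LD3_c50)) = (LP (LK LD1_c4 LD2_c11 LD3_c10)) :=
  Lre_d IH (LK LD1_c2 LD2_c2 LD3_c50) (LK LD1_c4 LD2_c11 LD3_c10) Lrfl Lrfl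
theorem f169421 : Led Lsl_et (LP (LK LD1_c4 LD2_c16 LD3_c47)) = (LP (LK LD1_c2 LD2_c5 LD3_c41)) :=
  Lre_e IH (LK LD1_c4 LD2_c16 LD3_c47) (LK LD1_c2 LD2_c5 LD3_c41) Lrfl Lrfl
theorem f258401 : Led Lsl_gt (LP (LK LD1_c4 LD2_c11 LD3_c10)) = (LP (LK LD1_c2 LD2_c36 LD3_c59)) :=
  Lgr Lrot112 (Lpe (f215461 IH) (Lpr_et (f215546 IH) (Lpr_gf (K12.f219783 IH) (Lpr_ef (K9.f42643 IH) (Lpr_dt (K9.f29050 IH) (Lpe (K15.f256798 IH) (Lpe (K14.f251891 IH) (Lpr_gf (K15.f258310 IH) (Lpe (f169421 IH) (Lpr_dt (K15.f184252 IH) (Lpn (LP (LK LD1_c2 LD2_c36 LD3_c59)))))))))))))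
theorem f169246 : Led Lsl_et (LP (LK LD1_c1 LD2_c15 LD3_c29)) = (LP (LK LD1_c2 LD2_c36 LD3_c59)) :=
  Lre_e IH (LK LD1_c1 LD2_c15 LD3_c29) (LK LD1_c2 LD2_c36 LD3_c59) Lrfl Lrfl
theorem f41738 : Led Lsl_et (LP (LK LD1_c0 LD2_c35 LD3_c0)) = (LP (LK LD1_c1 LD2_c15 LD3_c23)) :=
  Lre_e IH (LK LD1_c0 LD2_c35 LD3_c0) (LK LD1_c1 LD2_c15 LD3_c23) Lrfl Lrfl
theorem f254283 : Led Lsl_dt (LP (LK LD1_c2 LD2_c36 LD3_c48)) = (LP (LK LD1_c4 LD2_c3 LD3_c23)) :=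
  Lgr Lrot27 (Lpe (K14.f46513 IH) (Lpr_gf (K14.f231407 IH) (Lpe (K11.f27720 IH) (Lpe (K12.f27731 IH) (Lpr_df (K12.f213912 IH) (Lpr_gt (K14.f254276 IH) (Lpr_ct (K14.f252673 IH) (Lpe (K14.f254266 IH) (Lpe (K14.f199159 IH) (Lpn (LP (LK LD1_c4 LD2_c3 LD3_c23))))))))))))
theorem f275252 : Led Lsl_gt (LP (LK LD1_c4 LD2_c3 LD3_c23)) = (LP (LK LD1_c2 LD2_c11 LD3_c7)) :=
  Lgr Lrot139 (Lpe (f254283 IH) (Lpe (K13.f42133 IH) (Lpe (f41738 IH) (Lpr_dt (K12.f41270 IH) (Lpe (K9.f41274 IH) (Lpe (K12.f169257 IH) (Lpr_et (f169246 IH) (Lpe (f258401 IH) (Lpe (f215463 IH) (Lpr_dt (f275192 IH) (Lpn (LP (LK LD1_c2 LD2_c11 LD3_c7)))))))))))))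
theorem f231432 : Led Lsl_gt (LP (LK LD1_c10 LD2_c30 LD3_c35)) = (LP (LK LD1_c5 LD2_c20 LD3_c18)) :=
  Lre_g IH (LK LD1_c10 LD2_c30 LD3_c35) (LK LD1_c5 LD2_c20 LD3_c18) Lrfl Lrfl
theorem f184264 : Led Lsl_df (LP (LK LD1_c4 LD2_c16 LD3_c47)) = (LP (LK LD1_c2 LD2_c36 LD3_c59)) :=
  Lgr Lrot38 (Lpr_dt (K15.f184252 IH) (Lpn (LP (LK LD1_c2 LD2_c36 LD3_c59))))
theorem f184273 : Led Lsl_gt (LP (LK LD1_c4 LD2_c16 LD3_c47)) = (LP (LK LD1_c8 LD2_c32 LD3_c54)) :=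
  Lre_g IH (LK LD1_c4 LD2_c16 LD3_c47) (LK LD1_c8 LD2_c32 LD3_c54) Lrfl Lrfl
theorem f184363 : Led Lsl_dt (LP (LK LD1_c16 LD2_c2 LD3_c55)) = (LP (LK LD1_c8 LD2_c32 LD3_c54)) :=
  Lre_d IH (LK LD1_c16 LD2_c2 LD3_c55) (LK LD1_c8 LD2_c32 LD3_c54) Lrfl Lrfl
theorem f275271 : Led Lsl_ef (LP (LK LD1_c10 LD2_c30 LD3_c35)) = (LP (LK LD1_c16 LD2_c2 LD3_c55)) :=
  Lgr Lrot114 (Lpr_gt (f231432 IH) (Lpe (K14.f231441 IH) (Lpr_dt (f254283 IH) (Lpr_gt (f275252 IH) (Lpe (f275192 IH) (Lpr_et (f215463 IH) (Lpr_gt (f258401 IH) (Lpe (f184264 IH) (Lpr_gt (f184273 IH) (Lpe (f184363 IH) (Lpn (LP (LK LD1_c16 LD2_c2 LD3_c55)))))))))))))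
theorem f275278 : Led Lsl_et (LP (LK LD1_c10 LD2_c30 LD3_c35)) = (LP (LK LD1_c16 LD2_c2 LD3_c55)) :=
  Lgr Lrot87 (Lpr_ef (f275271 IH) (Lpn (LP (LK LD1_c16 LD2_c2 LD3_c55))))
theorem f184249 : Led Lsl_dt (LP (LK LD1_c2 LD2_c5 LD3_c41)) = (LP (LK LD1_c1 LD2_c15 LD3_c30)) :=
  Lgr Lrot42 (Lpr_df (K14.f184244 IH) (Lpn (LP (LK LD1_c1 LD2_c15 LD3_c30))))
theorem f232777 : Led Lsl_at (LP (LK LD1_c4 LD2_c16 LD3_c43)) = (LP (LK LD1_c4 LD2_c10 LD3_c38)) :=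
  Lgr Lrot107 (Lpe (K13.f232718 IH) (Lpr_af (K13.f232773 IH) (Lpe (K11.f199908 IH) (Lpn (LP (LK LD1_c4 LD2_c10 LD3_c38))))))
theorem f232744 : Led Lsl_ff (LP (LK LD1_c4 LD2_c16 LD3_c43)) = (LP (LK LD1_c4 LD2_c9 LD3_c61)) :=
  Lgr Lrot19 (Lpe (K13.f232713 IH) (Lpr_ft (K13.f232740 IH) (Lpr_dt (K13.f219210 IH) (Lpn (LP (LK LD1_c4 LD2_c9 LD3_c61))))))
theorem f184461 : Led Lsl_gt (LP (LK LD1_c4 LD2_c9 LD3_c61)) = (LP (LK LD1_c8 LD2_c20 LD3_c14)) :=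
  Lre_g IH (LK LD1_c4 LD2_c9 LD3_c61) (LK LD1_c8 LD2_c20 LD3_c14) Lrfl Lrfl
theorem f232830 : Led Lsl_gt (LP (LK LD1_c8 LD2_c20 LD3_c14)) = (LP (LK LD1_c4 LD2_c10 LD3_c38)) :=
  Lgr Lrot46 (Lpe (f184461 IH) (Lpe (f232744 IH) (Lpr_at (f232777 IH) (Lpn (LP (LK LD1_c4 LD2_c10 LD3_c38))))))
theorem f184475 : Led Lsl_dt (LP (LK LD1_c15 LD2_c41 LD3_c33)) = (LP (LK LD1_c8 LD2_c20 LD3_c14)) :=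
  Lre_d IH (LK LD1_c15 LD2_c41 LD3_c33) (LK LD1_c8 LD2_c20 LD3_c14) Lrfl Lrfl
theorem f258322 : Led Lsl_ef (LP (LK LD1_c8 LD2_c32 LD3_c54)) = (LP (LK LD1_c15 LD2_c41 LD3_c33)) :=
  Lgr Lrot17 (Lpe (f184273 IH) (Lpe (K15.f184251 IH) (Lpr_dt (f184249 IH) (Lpr_gf (f258313 IH) (Lpe (K15.f170627 IH) (Lpe (K11.f200127 IH) (Lpe (K11.f199913 IH) (Lpr_dt (K13.f199911 IH) (Lpe (f232830 IH) (Lpe (f184475 IH) (Lpn (LP (LK LD1_c15 LD2_c41 LD3_c33)))))))))))))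
theorem f258326 : Led Lsl_et (LP (LK LD1_c8 LD2_c32 LD3_c54)) = (LP (LK LD1_c15 LD2_c41 LD3_c33)) :=
  Lgr Lrot87 (Lpr_ef (f258322 IH) (Lpn (LP (LK LD1_c15 LD2_c41 LD3_c33))))
theorem f184465 : Led Lsl_et (LP (LK LD1_c8 LD2_c20 LD3_c14)) = (LP (LK LD1_c15 LD2_c41 LD3_c34)) :=
  Lre_e IH (LK LD1_c8 LD2_c20 LD3_c14) (LK LD1_c15 LD2_c41 LD3_c34) Lrfl Lrfl
theorem f275283 : Led Lsl_df (LP (LK LD1_c10 LD2_c30 LD3_c35)) = (LP (LK LD1_c15 LD2_c41 LD3_c34)) :=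
  Lgr Lrot70 (Lpr_et (f275278 IH) (Lpr_dt (f184363 IH) (Lpr_et (f258326 IH) (Lpr_dt (f184475 IH) (Lpr_et (f184465 IH) (Lpn (LP (LK LD1_c15 LD2_c41 LD3_c34))))))))
theorem f232833 : Led Lsl_et (LP (LK LD1_c15 LD2_c41 LD3_c34)) = (LP (LK LD1_c8 LD2_c20 LD3_c14)) :=
  Lre_e IH (LK LD1_c15 LD2_c41 LD3_c34) (LK LD1_c8 LD2_c20 LD3_c14) Lrfl Lrfl
theorem f184459 : Led Lsl_dt (LP (LK LD1_c2 LD2_c2 LD3_c12)) = (LP (LK LD1_c0 LD2_c58 LD3_c1)) :=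
  Lre_d IH (LK LD1_c2 LD2_c2 LD3_c12) (LK LD1_c0 LD2_c58 LD3_c1) Lrfl Lrfl
theorem f178738 : Led Lsl_et (LP (LK LD1_c4 LD2_c10 LD3_c14)) = (LP (LK LD1_c2 LD2_c2 LD3_c19)) :=
  Lre_e IH (LK LD1_c4 LD2_c10 LD3_c14) (LK LD1_c2 LD2_c2 LD3_c19) Lrfl Lrfl
theorem f275287 : Led Lsl_df (LP (LK LD1_c5 LD2_c20 LD3_c18)) = (LP (LK LD1_c4 LD2_c10 LD3_c14)) :=
  Lgr Lrot168 (Lpe (f231432 IH) (Lpr_df (f275283 IH) (Lpr_et (f232833 IH) (Lpe (f184461 IH) (Lpe (K13.f184460 IH) (Lpr_dt (f184459 IH) (Lpe (K12.f170616 IH) (Lpe (K9.f170695 IH) (Lpe (K15.f170696 IH) (Lpe (f178738 IH) (Lpn (LP (LK LD1_c4 LD2_c10 LD3_c14)))))))))))))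
theorem f231426 : Led Lsl_ct (LP (LK LD1_c5 LD2_c20 LD3_c18)) = (LP (LK LD1_c10 LD2_c30 LD3_c34)) :=
  Lre_c IH (LK LD1_c5 LD2_c20 LD3_c18) (LK LD1_c10 LD2_c30 LD3_c34) Lrfl Lrfl
theorem f254312 : Led Lsl_af (LP (LK LD1_c10 LD2_c30 LD3_c34)) = (LP (LK LD1_c5 LD2_c21 LD3_c50)) :=
  Lgr Lrot0 (Lpr_at (K14.f254310 IH) (Lpn (LP (LK LD1_c5 LD2_c21 LD3_c50))))
theorem f228523 : Led Lsl_dt (LP (LK LD1_c10 LD2_c33 LD3_c59)) = (LP (LK LD1_c19 LD2_c8 LD3_c18)) :=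
  Lre_d IH (LK LD1_c10 LD2_c33 LD3_c59) (LK LD1_c19 LD2_c8 LD3_c18) Lrfl Lrfl
theorem f228534 : Led Lsl_ct (LP (LK LD1_c19 LD2_c8 LD3_c18)) = (LP (LK LD1_c28 LD2_c34 LD3_c1)) :=
  Lre_c IH (LK LD1_c19 LD2_c8 LD3_c18) (LK LD1_c28 LD2_c34 LD3_c1) Lrfl Lrfl
theorem f233308 : Led Lsl_ct (LP (LK LD1_c8 LD2_c20 LD3_c37)) = (LP (LK LD1_c4 LD2_c10 LD3_c14)) :=
  Lre_c IH (LK LD1_c8 LD2_c20 LD3_c37) (LK LD1_c4 LD2_c10 LD3_c14) Lrfl Lrfl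
theorem f233307 : Led Lsl_dt (LP (LK LD1_c15 LD2_c42 LD3_c19)) = (LP (LK LD1_c8 LD2_c20 LD3_c37)) :=
  Lre_d IH (LK LD1_c15 LD2_c42 LD3_c19) (LK LD1_c8 LD2_c20 LD3_c37) Lrfl Lrfl
theorem f275291 : Led Lsl_ct (LP (LK LD1_c25 LD2_c38 LD3_c2)) = (LP (LK LD1_c15 LD2_c42 LD3_c19)) :=
  Lre_c IH (LK LD1_c25 LD2_c38 LD3_c2) (LK LD1_c15 LD2_c42 LD3_c19) Lrfl Lrfl
theorem f275298 : Led Lsl_dt (LP (LK LD1_c28 LD2_c34 LD3_c1)) = (LP (LK LD1_c25 LD2_c38 LD3_c2)) :=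
  Lgr Lrot32 (Lpe (f228534 IH) (Lpe (f228523 IH) (Lpr_ft (K14.f253371 IH) (Lpe (f254312 IH) (Lpe (f231426 IH) (Lpr_df (f275287 IH) (Lpe (f233308 IH) (Lpe (f233307 IH) (Lpe (f275291 IH) (Lpn (LP (LK LD1_c25 LD2_c38 LD3_c2))))))))))))
theorem f254392 : Led Lsl_ft (LP (LK LD1_c19 LD2_c8 LD3_c17)) = (LP (LK LD1_c28 LD2_c34 LD3_c1)) :=
  Lre_f IH (LK LD1_c19 LD2_c8 LD3_c17) (LK LD1_c28 LD2_c34 LD3_c1) Lrfl Lrfl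
theorem f254359 : Led Lsl_dt (LP (LK LD1_c28 LD2_c34 LD3_c0)) = (LP (LK LD1_c19 LD2_c8 LD3_c17)) :=
  Lre_d IH (LK LD1_c28 LD2_c34 LD3_c0) (LK LD1_c19 LD2_c8 LD3_c17) Lrfl Lrfl
theorem f275304 : Led Lsl_ff (LP (LK LD1_c28 LD2_c34 LD3_c0)) = (LP (LK LD1_c25 LD2_c38 LD3_c2)) :=
  Lgr Lrot19 (Lpr_dt (f254359 IH) (Lpr_ft (f254392 IH) (Lpr_dt (f275298 IH) (Lpn (LP (LK LD1_c25 LD2_c38 LD3_c2))))))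
theorem f233311 : Led Lsl_ct (LP (LK LD1_c15 LD2_c42 LD3_c19)) = (LP (LK LD1_c25 LD2_c38 LD3_c2)) :=
  Lre_c IH (LK LD1_c15 LD2_c42 LD3_c19) (LK LD1_c25 LD2_c38 LD3_c2) Lrfl Lrfl
theorem f275308 : Led Lsl_ft (LP (LK LD1_c25 LD2_c38 LD3_c3)) = (LP (LK LD1_c15 LD2_c42 LD3_c19)) :=
  Lre_f IH (LK LD1_c25 LD2_c38 LD3_c3) (LK LD1_c15 LD2_c42 LD3_c19) Lrfl Lrfl
theorem f275309 : Led Lsl_ct (LP (LK LD1_c28 LD2_c34 LD3_c0)) = (LP (LK LD1_c25 LD2_c38 LD3_c3)) :=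
  Lgr Lrot40 (Lpr_ff (f275304 IH) (Lpe (f233311 IH) (Lpe (f275308 IH) (Lpn (LP (LK LD1_c25 LD2_c38 LD3_c3))))))
theorem f254340 : Led Lsl_dt (LP (LK LD1_c19 LD2_c8 LD3_c17)) = (LP (LK LD1_c28 LD2_c34 LD3_c0)) :=
  Lre_d IH (LK LD1_c19 LD2_c8 LD3_c17) (LK LD1_c28 LD2_c34 LD3_c0) Lrfl Lrfl
theorem f228500 : Led Lsl_ct (LP (LK LD1_c10 LD2_c33 LD3_c58)) = (LP (LK LD1_c19 LD2_c8 LD3_c17)) :=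
  Lre_c IH (LK LD1_c10 LD2_c33 LD3_c58) (LK LD1_c19 LD2_c8 LD3_c17) Lrfl Lrfl
theorem f215818 : Led Lsl_dt (LP (LK LD1_c5 LD2_c21 LD3_c50)) = (LP (LK LD1_c10 LD2_c33 LD3_c58)) :=
  Lre_d IH (LK LD1_c5 LD2_c21 LD3_c50) (LK LD1_c10 LD2_c33 LD3_c58) Lrfl Lrfl
theorem f275319 : Led Lsl_dt (LP (LK LD1_c25 LD2_c38 LD3_c3)) = (LP (LK LD1_c15 LD2_c42 LD3_c20)) :=
  Lre_d IH (LK LD1_c25 LD2_c38 LD3_c3) (LK LD1_c15 LD2_c42 LD3_c20) Lrfl Lrfl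
theorem f275320 : Led Lsl_ct (LP (LK LD1_c15 LD2_c42 LD3_c20)) = (LP (LK LD1_c8 LD2_c20 LD3_c39)) :=
  Lre_c IH (LK LD1_c15 LD2_c42 LD3_c20) (LK LD1_c8 LD2_c20 LD3_c39) Lrfl Lrfl
theorem f275321 : Led Lsl_df (LP (LK LD1_c10 LD2_c30 LD3_c36)) = (LP (LK LD1_c8 LD2_c20 LD3_c39)) :=
  Lgr Lrot177 (Lpr_ct (K15.f231436 IH) (Lpr_af (K14.f254322 IH) (Lpe (K14.f254321 IH) (Lpr_dt (f215818 IH) (Lpr_ct (f228500 IH) (Lpr_dt (f254340 IH) (Lpr_ct (f275309 IH) (Lpr_dt (f275319 IH) (Lpr_ct (f275320 IH) (Lpn (LP (LK LD1_c8 LD2_c20 LD3_c39))))))))))))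
theorem f198978 : Led Lsl_ct (LP (LK LD1_c5 LD2_c21 LD3_c59)) = (LP (LK LD1_c10 LD2_c34 LD3_c11)) :=
  Lre_c IH (LK LD1_c5 LD2_c21 LD3_c59) (LK LD1_c10 LD2_c34 LD3_c11) Lrfl Lrfl
theorem f256581 : Led Lsl_et (LP (LK LD1_c10 LD2_c30 LD3_c36)) = (LP (LK LD1_c5 LD2_c21 LD3_c59)) :=
  Lgr Lrot158 (Lpe (K14.f231435 IH) (Lpr_ef (K15.f256577 IH) (Lpe (f198978 IH) (Lpn (LP (LK LD1_c5 LD2_c21 LD3_c59))))))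
theorem f198985 : Led Lsl_ft (LP (LK LD1_c4 LD2_c3 LD3_c21)) = (LP (LK LD1_c8 LD2_c7 LD3_c19)) :=
  Lre_f IH (LK LD1_c4 LD2_c3 LD3_c21) (LK LD1_c8 LD2_c7 LD3_c19) Lrfl Lrfl
theorem f267087 : Led Lsl_ef (LP (LK LD1_c4 LD2_c28 LD3_c3)) = (LP (LK LD1_c8 LD2_c7 LD3_c19)) :=
  Lgr Lrot21 (Lpr_ft (K14.f247355 IH) (Lpr_et (K15.f191925 IH) (Lpr_ft (K15.f267081 IH) (Lpr_et (K14.f199004 IH) (Lpr_ft (f198985 IH) (Lpn (LP (LK LD1_c8 LD2_c7 LD3_c19))))))))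
theorem f275323 : Led Lsl_et (LP (LK LD1_c8 LD2_c33 LD3_c50)) = (LP (LK LD1_c8 LD2_c20 LD3_c39)) :=
  Lgr Lrot71 (Lpr_df (K14.f247373 IH) (Lpr_ef (f267087 IH) (Lpr_df (K12.f198983 IH) (Lpe (f256581 IH) (Lpr_df (f275321 IH) (Lpn (LP (LK LD1_c8 LD2_c20 LD3_c39))))))))
theorem f236955 : Led Lsl_ft (LP (LK LD1_c8 LD2_c20 LD3_c39)) = (LP (LK LD1_c4 LD2_c10 LD3_c14)) :=
  Lre_f IH (LK LD1_c8 LD2_c20 LD3_c39) (LK LD1_c4 LD2_c10 LD3_c14) Lrfl Lrfl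
theorem f275331 : Led Lsl_ff (LP (LK LD1_c2 LD2_c6 LD3_c0)) = (LP (LK LD1_c2 LD2_c2 LD3_c19)) :=
  Lgr Lrot72 (Lpr_et (K14.f238631 IH) (Lpr_ft (K14.f238714 IH) (Lpr_et (f275323 IH) (Lpr_ft (f236955 IH) (Lpr_et (f178738 IH) (Lpn (LP (LK LD1_c2 LD2_c2 LD3_c19))))))))
theorem f199585 : Led Lsl_ct (LP (LK LD1_c2 LD2_c6 LD3_c0)) = (LP (LK LD1_c4 LD2_c17 LD3_c20)) :=
  Lre_c IH (LK LD1_c2 LD2_c6 LD3_c0) (LK LD1_c4 LD2_c17 LD3_c20) Lrfl Lrfl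
theorem f275333 : Led Lsl_ft (LP (LK LD1_c4 LD2_c17 LD3_c20)) = (LP (LK LD1_c4 LD2_c10 LD3_c13)) :=
  Lgr Lrot4 (Lpe (f199585 IH) (Lpr_ff (f275331 IH) (Lpe (K15.f219261 IH) (Lpn (LP (LK LD1_c4 LD2_c10 LD3_c13))))))
theorem f275342 : Led Lsl_ff (LP (LK LD1_c4 LD2_c17 LD3_c20)) = (LP (LK LD1_c4 LD2_c10 LD3_c13)) :=
  Lgr Lrot3 (Lpr_ft (f275333 IH) (Lpn (LP (LK LD1_c4 LD2_c10 LD3_c13))))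
theorem f254005 : Led Lsl_ct (LP (LK LD1_c2 LD2_c7 LD3_c8)) = (LP (LK LD1_c2 LD2_c10 LD3_c59)) :=
  Lgr Lrot59 (Lpr_cf (K14.f253992 IH) (Lpn (LP (LK LD1_c2 LD2_c10 LD3_c59))))
theorem f221737 : Led Lsl_ct (LP (LK LD1_c7 LD2_c57 LD3_c54)) = (LP (LK LD1_c3 LD2_c58 LD3_c16)) :=
  Lre_c IH (LK LD1_c7 LD2_c57 LD3_c54) (LK LD1_c3 LD2_c58 LD3_c16) Lrfl Lrfl
theorem f221759 : Led Lsl_dt (LP (LK LD1_c15 LD2_c1 LD3_c22)) = (LP (LK LD1_c7 LD2_c57 LD3_c54)) :=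
  Lre_d IH (LK LD1_c15 LD2_c1 LD3_c22) (LK LD1_c7 LD2_c57 LD3_c54) Lrfl Lrfl
theorem f233312 : Led Lsl_dt (LP (LK LD1_c4 LD2_c10 LD3_c13)) = (LP (LK LD1_c8 LD2_c20 LD3_c36)) :=
  Lre_d IH (LK LD1_c4 LD2_c10 LD3_c13) (LK LD1_c8 LD2_c20 LD3_c36) Lrfl Lrfl
theorem f275353 : Led Lsl_cf (LP (LK LD1_c15 LD2_c1 LD3_c22)) = (LP (LK LD1_c8 LD2_c20 LD3_c36)) :=
  Lgr Lrot118 (Lpr_dt (f221759 IH) (Lpr_ct (f221737 IH) (Lpe (K14.f254012 IH) (Lpr_ct (f254005 IH) (Lpr_dt (K14.f182202 IH) (Lpr_ct (K15.f182258 IH) (Lpe (K15.f266983 IH) (Lpr_ff (f275342 IH) (Lpr_dt (f233312 IH) (Lpn (LP (LK LD1_c8 LD2_c20 LD3_c36))))))))))))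
theorem f254122 : Led Lsl_dt (LP (LK LD1_c7 LD2_c57 LD3_c54)) = (LP (LK LD1_c15 LD2_c1 LD3_c22)) :=
  Lre_d IH (LK LD1_c7 LD2_c57 LD3_c54) (LK LD1_c15 LD2_c1 LD3_c22) Lrfl Lrfl
theorem f228016 : Led Lsl_ct (LP (LK LD1_c1 LD2_c55 LD3_c59)) = (LP (LK LD1_c3 LD2_c58 LD3_c22)) :=
  Lre_c IH (LK LD1_c1 LD2_c55 LD3_c59) (LK LD1_c3 LD2_c58 LD3_c22) Lrfl Lrfl
theorem f234807 : Led Lsl_dt (LP (LK LD1_c7 LD2_c58 LD3_c6)) = (LP (LK LD1_c3 LD2_c58 LD3_c22)) :=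
  Lre_d IH (LK LD1_c7 LD2_c58 LD3_c6) (LK LD1_c3 LD2_c58 LD3_c22) Lrfl Lrfl
theorem f42734 : Led Lsl_dt (LP (LK LD1_c1 LD2_c55 LD3_c59)) = (LP (LK LD1_c0 LD2_c54 LD3_c42)) :=
  Lre_d IH (LK LD1_c1 LD2_c55 LD3_c59) (LK LD1_c0 LD2_c54 LD3_c42) Lrfl Lrfl
theorem f228017 : Led Lsl_ct (LP (LK LD1_c3 LD2_c58 LD3_c22)) = (LP (LK LD1_c1 LD2_c55 LD3_c59)) :=
  Lre_c IH (LK LD1_c3 LD2_c58 LD3_c22) (LK LD1_c1 LD2_c55 LD3_c59) Lrfl Lrfl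
theorem f229612 : Led Lsl_at (LP (LK LD1_c2 LD2_c23 LD3_c29)) = (LP (LK LD1_c1 LD2_c8 LD3_c51)) :=
  Lre_a IH (LK LD1_c2 LD2_c23 LD3_c29) (LK LD1_c1 LD2_c8 LD3_c51) Lrfl Lrfl
theorem f229613 : Led Lsl_ff (LP (LK LD1_c2 LD2_c23 LD3_c29)) = (LP (LK LD1_c1 LD2_c55 LD3_c55)) :=
  Lgr Lrot52 (Lpr_at (f229612 IH) (Lpr_gf (K12.f229610 IH) (Lpe (K12.f188698 IH) (Lpn (LP (LK LD1_c1 LD2_c55 LD3_c55))))))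
theorem f260901 : Led Lsl_cf (LP (LK LD1_c7 LD2_c58 LD3_c6)) = (LP (LK LD1_c10 LD2_c32 LD3_c51)) :=
  Lgr Lrot116 (Lpr_dt (f234807 IH) (Lpr_ct (f228017 IH) (Lpr_dt (f42734 IH) (Lpr_ct (K15.f260889 IH) (Lpe (f229612 IH) (Lpr_ff (f229613 IH) (Lpr_dt (K15.f42758 IH) (Lpr_ct (K15.f188635 IH) (Lpr_dt (K15.f233276 IH) (Lpn (LP (LK LD1_c10 LD2_c32 LD3_c51))))))))))))
theorem f42711 : Led Lsl_gt (LP (LK LD1_c3 LD2_c58 LD3_c33)) = (LP (LK LD1_c7 LD2_c58 LD3_c36)) :=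
  Lre_g IH (LK LD1_c3 LD2_c58 LD3_c33) (LK LD1_c7 LD2_c58 LD3_c36) Lrfl Lrfl
theorem f42712 : Led Lsl_gf (LP (LK LD1_c10 LD2_c32 LD3_c52)) = (LP (LK LD1_c7 LD2_c58 LD3_c36)) :=
  Lgr Lrot76 (Lpr_af (K9.f42698 IH) (Lpe (K9.f41920 IH) (Lpr_gt (f42711 IH) (Lpn (LP (LK LD1_c7 LD2_c58 LD3_c36))))))
theorem f226936 : Led Lsl_gt (LP (LK LD1_c1 LD2_c18 LD3_c25)) = (LP (LK LD1_c1 LD2_c55 LD3_c56)) :=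
  Lgr Lrot164 (Lpe (K12.f178104 IH) (Lpr_ct (K12.f177863 IH) (Lpr_gf (K12.f226401 IH) (Lpe (K12.f167776 IH) (Lpr_gf (K9.f179758 IH) (Lpe (f179761 IH) (Lpr_ct (K13.f179763 IH) (Lpr_gf (K14.f226913 IH) (Lpe (K12.f169271 IH) (Lpr_bt (K15.f221601 IH) (Lpn (LP (LK LD1_c1 LD2_c55 LD3_c56)))))))))))))
theorem f43140 : Led Lsl_dt (LP (LK LD1_c1 LD2_c55 LD3_c56)) = (LP (LK LD1_c0 LD2_c54 LD3_c41)) :=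
  Lre_d IH (LK LD1_c1 LD2_c55 LD3_c56) (LK LD1_c0 LD2_c54 LD3_c41) Lrfl Lrfl
theorem f227986 : Led Lsl_dt (LP (LK LD1_c4 LD2_c10 LD3_c6)) = (LP (LK LD1_c7 LD2_c58 LD3_c36)) :=
  Lgr Lrot57 (Lpr_gf (K12.f227982 IH) (Lpe (K12.f178121 IH) (Lpr_gt (f226936 IH) (Lpr_dt (f43140 IH) (Lpr_gt (K9.f41369 IH) (Lpr_dt (K1.f41358 IH) (Lpe (K12.f41135 IH) (Lpe (K12.f42705 IH) (Lpr_gf (f42712 IH) (Lpn (LP (LK LD1_c7 LD2_c58 LD3_c36))))))))))))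
theorem f261273 : Led Lsl_gt (LP (LK LD1_c4 LD2_c10 LD3_c6)) = (LP (LK LD1_c7 LD2_c57 LD3_c54)) :=
  Lgr Lrot146 (Lpr_dt (f227986 IH) (Lpe (f42712 IH) (Lpr_ct (K9.f42697 IH) (Lpr_gt (K15.f42663 IH) (Lpe (f260901 IH) (Lpr_dt (f234807 IH) (Lpe (f228016 IH) (Lpr_gf (K15.f261265 IH) (Lpe (f221737 IH) (Lpn (LP (LK LD1_c7 LD2_c57 LD3_c54))))))))))))
theorem f219121 : Led Lsl_df (LP (LK LD1_c7 LD2_c58 LD3_c38)) = (LP (LK LD1_c4 LD2_c9 LD3_c60)) :=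
  Lgr Lrot43 (Lpr_ct (K15.f41921 IH) (Lpr_dt (K9.f42715 IH) (Lpr_ct (K9.f42716 IH) (Lpr_dt (K9.f42717 IH) (Lpe (K9.f42718 IH) (Lpr_dt (K9.f41536 IH) (Lpr_ct (K9.f42650 IH) (Lpr_dt (K9.f42662 IH) (Lpr_ct (K9.f42714 IH) (Lpr_dt (K12.f42705 IH) (Lpr_ct (K12.f41135 IH) (Lpr_dt (K1.f41236 IH) (Lpr_ct (K12.f219075 IH) (Lpr_dt (K12.f170850 IH) (Lpr_ct (K12.f170851 IH) (Lpn (LP (LK LD1_c4 LD2_c9 LD3_c60))))))))))))))))))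
theorem f250521 : Led Lsl_gf (LP (LK LD1_c9 LD2_c34 LD3_c47)) = (LP (LK LD1_c7 LD2_c58 LD3_c38)) :=
  Lgr Lrot154 (Lpr_dt (K15.f229620 IH) (Lpr_ct (K15.f229621 IH) (Lpe (K14.f229617 IH) (Lpr_gf (K12.f229610 IH) (Lpe (K13.f188701 IH) (Lpr_gf (K12.f221832 IH) (Lpr_ct (K14.f250511 IH) (Lpr_gt (K14.f219144 IH) (Lpe (f219121 IH) (Lpn (LP (LK LD1_c7 LD2_c58 LD3_c38))))))))))))
theorem f41943 : Led Lsl_ct (LP (LK LD1_c3 LD2_c58 LD3_c33)) = (LP (LK LD1_c7 LD2_c58 LD3_c38)) :=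
  Lre_c IH (LK LD1_c3 LD2_c58 LD3_c33) (LK LD1_c7 LD2_c58 LD3_c38) Lrfl Lrfl
theorem f275365 : Led Lsl_df (LP (LK LD1_c4 LD2_c10 LD3_c6)) = (LP (LK LD1_c7 LD2_c58 LD3_c36)) :=
  Lgr Lrot153 (Lpr_gt (f261273 IH) (Lpr_dt (f254122 IH) (Lpr_cf (f275353 IH) (Lpe (f233312 IH) (Lpr_gf (K15.f246813 IH) (Lpe (K15.f229620 IH) (Lpr_gf (f250521 IH) (Lpe (f41943 IH) (Lpr_gt (f42711 IH) (Lpn (LP (LK LD1_c7 LD2_c58 LD3_c36))))))))))))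
theorem f182193 : Led Lsl_at (LP (LK LD1_c0 LD2_c58 LD3_c2)) = (LP (LK LD1_c0 LD2_c26 LD3_c22)) :=
  Lre_a IH (LK LD1_c0 LD2_c58 LD3_c2) (LK LD1_c0 LD2_c26 LD3_c22) Lrfl Lrfl
theorem f231222 : Led Lsl_ft (LP (LK LD1_c0 LD2_c59 LD3_c61)) = (LP (LK LD1_c0 LD2_c58 LD3_c2)) :=
  Lgr Lrot48 (Lpr_ff (K12.f231211 IH) (Lpn (LP (LK LD1_c0 LD2_c58 LD3_c2))))
theorem f231138 : Led Lsl_dt (LP (LK LD1_c4 LD2_c17 LD3_c14)) = (LP (LK LD1_c8 LD2_c33 LD3_c39)) :=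
  Lre_d IH (LK LD1_c4 LD2_c17 LD3_c14) (LK LD1_c8 LD2_c33 LD3_c39) Lrfl Lrfl
theorem f275379 : Led Lsl_ct (LP (LK LD1_c8 LD2_c33 LD3_c39)) = (LP (LK LD1_c7 LD2_c58 LD3_c36)) :=
  Lgr Lrot41 (Lpe (f231138 IH) (Lpe (K14.f231136 IH) (Lpe (K15.f231137 IH) (Lpr_ft (f231222 IH) (Lpr_at (f182193 IH) (Lpe (K9.f53444 IH) (Lpe (K10.f53445 IH) (Lpe (K12.f170791 IH) (Lpr_df (f275365 IH) (Lpn (LP (LK LD1_c7 LD2_c58 LD3_c36))))))))))))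
theorem f231148 : Led Lsl_at (LP (LK LD1_c8 LD2_c33 LD3_c39)) = (LP (LK LD1_c4 LD2_c17 LD3_c25)) :=
  Lre_a IH (LK LD1_c8 LD2_c33 LD3_c39) (LK LD1_c4 LD2_c17 LD3_c25) Lrfl Lrfl
theorem f231150 : Led Lsl_ff (LP (LK LD1_c8 LD2_c33 LD3_c39)) = (LP (LK LD1_c8 LD2_c20 LD3_c16)) :=
  Lgr Lrot30 (Lpr_at (f231148 IH) (Lpr_ft (K12.f231128 IH) (Lpr_at (K12.f231149 IH) (Lpn (LP (LK LD1_c8 LD2_c20 LD3_c16))))))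
theorem f275420 : Led Lsl_ff (LP (LK LD1_c8 LD2_c7 LD3_c50)) = (LP (LK LD1_c7 LD2_c58 LD3_c36)) :=
  Lgr Lrot23 (Lpr_ct (K12.f231165 IH) (Lpe (f231150 IH) (Lpr_ct (f275379 IH) (Lpn (LP (LK LD1_c7 LD2_c58 LD3_c36))))))
theorem f42708 : Led Lsl_at (LP (LK LD1_c7 LD2_c57 LD3_c46)) = (LP (LK LD1_c3 LD2_c58 LD3_c33)) :=
  Lre_a IH (LK LD1_c7 LD2_c57 LD3_c46) (LK LD1_c3 LD2_c58 LD3_c33) Lrfl Lrfl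
theorem f42709 : Led Lsl_ft (LP (LK LD1_c10 LD2_c32 LD3_c52)) = (LP (LK LD1_c7 LD2_c57 LD3_c46)) :=
  Lgr Lrot101 (Lpr_af (K9.f42698 IH) (Lpe (K9.f41920 IH) (Lpe (f42708 IH) (Lpn (LP (LK LD1_c7 LD2_c57 LD3_c46))))))
theorem f43149 : Led Lsl_gt (LP (LK LD1_c7 LD2_c58 LD3_c37)) = (LP (LK LD1_c3 LD2_c58 LD3_c33)) :=
  Lre_g IH (LK LD1_c7 LD2_c58 LD3_c37) (LK LD1_c3 LD2_c58 LD3_c33) Lrfl Lrfl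
theorem f43150 : Led Lsl_gt (LP (LK LD1_c10 LD2_c32 LD3_c52)) = (LP (LK LD1_c7 LD2_c58 LD3_c37)) :=
  Lgr Lrot5 (Lpr_ft (f42709 IH) (Lpr_at (f42708 IH) (Lpe (f43149 IH) (Lpn (LP (LK LD1_c7 LD2_c58 LD3_c37))))))
theorem f275427 : Led Lsl_at (LP (LK LD1_c8 LD2_c7 LD3_c50)) = (LP (LK LD1_c7 LD2_c58 LD3_c37)) :=
  Lgr Lrot26 (Lpr_ff (f275420 IH) (Lpe (f42712 IH) (Lpr_gt (f43150 IH) (Lpn (LP (LK LD1_c7 LD2_c58 LD3_c37))))))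
theorem f178771 : Led Lsl_dt (LP (LK LD1_c2 LD2_c2 LD3_c20)) = (LP (LK LD1_c4 LD2_c10 LD3_c18)) :=
  Lre_d IH (LK LD1_c2 LD2_c2 LD3_c20) (LK LD1_c4 LD2_c10 LD3_c18) Lrfl Lrfl
theorem f275429 : Led Lsl_cf (LP (LK LD1_c7 LD2_c58 LD3_c37)) = (LP (LK LD1_c4 LD2_c10 LD3_c18)) :=
  Lgr Lrot102 (Lpe (f275427 IH) (Lpr_ff (f275420 IH) (Lpe (f275365 IH) (Lpr_ct (K12.f170791 IH) (Lpr_dt (K10.f53445 IH) (Lpr_ct (K9.f53444 IH) (Lpr_dt (K14.f178730 IH) (Lpr_ct (K14.f178505 IH) (Lpr_dt (f178771 IH) (Lpn (LP (LK LD1_c4 LD2_c10 LD3_c18))))))))))))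
theorem f51524 : Led Lsl_ct (LP (LK LD1_c2 LD2_c2 LD3_c49)) = (LP (LK LD1_c0 LD2_c58 LD3_c19)) :=
  Lre_c IH (LK LD1_c2 LD2_c2 LD3_c49) (LK LD1_c0 LD2_c58 LD3_c19) Lrfl Lrfl
theorem f178503 : Led Lsl_gt (LP (LK LD1_c8 LD2_c20 LD3_c52)) = (LP (LK LD1_c4 LD2_c10 LD3_c18)) :=
  Lre_g IH (LK LD1_c8 LD2_c20 LD3_c52) (LK LD1_c4 LD2_c10 LD3_c18) Lrfl Lrfl
theorem f275447 : Led Lsl_df (LP (LK LD1_c4 LD2_c11 LD3_c4)) = (LP (LK LD1_c8 LD2_c20 LD3_c52)) :=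
  Lgr Lrot155 (Lpr_gt (K12.f51529 IH) (Lpr_ct (f51524 IH) (Lpr_gt (K12.f219779 IH) (Lpr_ct (K12.f170851 IH) (Lpe (f219121 IH) (Lpe (f41943 IH) (Lpe (f43149 IH) (Lpr_cf (f275429 IH) (Lpe (f178503 IH) (Lpn (LP (LK LD1_c8 LD2_c20 LD3_c52))))))))))))
theorem f221912 : Led Lsl_ff (LP (LK LD1_c4 LD2_c11 LD3_c4)) = (LP (LK LD1_c4 LD2_c18 LD3_c1)) :=
  Lgr Lrot3 (Lpr_ft (K12.f221904 IH) (Lpn (LP (LK LD1_c4 LD2_c18 LD3_c1))))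
theorem f221917 : Led Lsl_ct (LP (LK LD1_c4 LD2_c11 LD3_c4)) = (LP (LK LD1_c4 LD2_c6 LD3_c8)) :=
  Lgr Lrot40 (Lpr_ff (f221912 IH) (Lpe (K12.f221838 IH) (Lpr_ff (K12.f188855 IH) (Lpn (LP (LK LD1_c4 LD2_c6 LD3_c8))))))
theorem f45757 : Led Lsl_dt (LP (LK LD1_c1 LD2_c14 LD3_c8)) = (LP (LK LD1_c2 LD2_c34 LD3_c18)) :=
  Lre_d IH (LK LD1_c1 LD2_c14 LD3_c8) (LK LD1_c2 LD2_c34 LD3_c18) Lrfl Lrfl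
theorem f170856 : Led Lsl_dt (LP (LK LD1_c2 LD2_c2 LD3_c15)) = (LP (LK LD1_c4 LD2_c10 LD3_c4)) :=
  Lre_d IH (LK LD1_c2 LD2_c2 LD3_c15) (LK LD1_c4 LD2_c10 LD3_c4) Lrfl Lrfl
theorem f170857 : Led Lsl_ct (LP (LK LD1_c4 LD2_c10 LD3_c4)) = (LP (LK LD1_c8 LD2_c20 LD3_c21)) :=
  Lre_c IH (LK LD1_c4 LD2_c10 LD3_c4) (LK LD1_c8 LD2_c20 LD3_c21) Lrfl Lrfl
theorem f212801 : Led Lsl_dt (LP (LK LD1_c8 LD2_c20 LD3_c21)) = (LP (LK LD1_c15 LD2_c41 LD3_c48)) :=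
  Lre_d IH (LK LD1_c8 LD2_c20 LD3_c21) (LK LD1_c15 LD2_c41 LD3_c48) Lrfl Lrfl
theorem f275453 : Led Lsl_ct (LP (LK LD1_c15 LD2_c41 LD3_c48)) = (LP (LK LD1_c8 LD2_c20 LD3_c52)) :=
  Lgr Lrot53 (Lpe (f212801 IH) (Lpe (f170857 IH) (Lpe (f170856 IH) (Lpe (K12.f182196 IH) (Lpe (K12.f212828 IH) (Lpe (K12.f218094 IH) (Lpr_at (K12.f48031 IH) (Lpe (f221917 IH) (Lpr_df (f275447 IH) (Lpn (LP (LK LD1_c8 LD2_c20 LD3_c52))))))))))))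
theorem f275455 : Led Lsl_ff (LP (LK LD1_c5 LD2_c21 LD3_c18)) = (LP (LK LD1_c8 LD2_c20 LD3_c21)) :=
  Lgr Lrot103 (Lpr_at (K11.f48057 IH) (Lpe (K10.f48052 IH) (Lpe (f45757 IH) (Lpe (K10.f53829 IH) (Lpe (K13.f48035 IH) (Lpe (f221917 IH) (Lpr_df (f275447 IH) (Lpe (f275453 IH) (Lpe (f212801 IH) (Lpn (LP (LK LD1_c8 LD2_c20 LD3_c21))))))))))))
theorem f223880 : Led Lsl_bt (LP (LK LD1_c4 LD2_c13 LD3_c53)) = (LP (LK LD1_c4 LD2_c54 LD3_c48)) :=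
  Lgr Lrot95 (Lpe (K12.f27497 IH) (Lpr_bf (K12.f223874 IH) (Lpe (K12.f223822 IH) (Lpn (LP (LK LD1_c4 LD2_c54 LD3_c48))))))
theorem f173092 : Led Lsl_bt (LP (LK LD1_c3 LD2_c58 LD3_c9)) = (LP (LK LD1_c2 LD2_c39 LD3_c2)) :=
  Lgr Lrot127 (Lpr_bf (K9.f173090 IH) (Lpn (LP (LK LD1_c2 LD2_c39 LD3_c2))))
theorem f173085 : Led Lsl_ct (LP (LK LD1_c3 LD2_c58 LD3_c9)) = (LP (LK LD1_c7 LD2_c57 LD3_c43)) :=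
  Lre_c IH (LK LD1_c3 LD2_c58 LD3_c9) (LK LD1_c7 LD2_c57 LD3_c43) Lrfl Lrfl
theorem f253189 : Led Lsl_gt (LP (LK LD1_c7 LD2_c57 LD3_c43)) = (LP (LK LD1_c5 LD2_c14 LD3_c57)) :=
  Lgr Lrot65 (Lpe (f173085 IH) (Lpr_bt (f173092 IH) (Lpr_gf (K13.f223897 IH) (Lpe (f223880 IH) (Lpr_ct (K12.f221061 IH) (Lpe (K12.f220877 IH) (Lpe (K12.f220871 IH) (Lpr_gf (K14.f253182 IH) (Lpe (K12.f33454 IH) (Lpr_ct (K10.f48052 IH) (Lpn (LP (LK LD1_c5 LD2_c14 LD3_c57)))))))))))))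
theorem f275471 : Led Lsl_gf (LP (LK LD1_c7 LD2_c57 LD3_c43)) = (LP (LK LD1_c8 LD2_c20 LD3_c21)) :=
  Lgr Lrot47 (Lpr_gt (f253189 IH) (Lpe (K11.f48057 IH) (Lpr_ff (f275455 IH) (Lpn (LP (LK LD1_c8 LD2_c20 LD3_c21))))))
theorem f217490 : Led Lsl_bt (LP (LK LD1_c1 LD2_c57 LD3_c21)) = (LP (LK LD1_c4 LD2_c1 LD3_c4)) :=
  Lre_b IH (LK LD1_c1 LD2_c57 LD3_c21) (LK LD1_c4 LD2_c1 LD3_c4) Lrfl Lrfl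
theorem f275475 : Led Lsl_gt (LP (LK LD1_c4 LD2_c1 LD3_c4)) = (LP (LK LD1_c4 LD2_c10 LD3_c4)) :=
  Lgr Lrot82 (Lpe (f217490 IH) (Lpr_ct (K12.f193339 IH) (Lpe (K12.f223590 IH) (Lpe (K10.f27660 IH) (Lpr_bt (K12.f27719 IH) (Lpe (K13.f223900 IH) (Lpe (f173092 IH) (Lpr_ct (f173085 IH) (Lpr_gf (f275471 IH) (Lpe (f170857 IH) (Lpn (LP (LK LD1_c4 LD2_c10 LD3_c4)))))))))))))
theorem f218701 : Led Lsl_ct (LP (LK LD1_c3 LD2_c58 LD3_c30)) = (LP (LK LD1_c4 LD2_c1 LD3_c4)) :=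
  Lgr Lrot59 (Lpr_cf (K12.f217473 IH) (Lpn (LP (LK LD1_c4 LD2_c1 LD3_c4))))
theorem f54893 : Led Lsl_bt (LP (LK LD1_c3 LD2_c58 LD3_c32)) = (LP (LK LD1_c1 LD2_c56 LD3_c1)) :=
  Lre_b IH (LK LD1_c3 LD2_c58 LD3_c32) (LK LD1_c1 LD2_c56 LD3_c1) Lrfl Lrfl
theorem f54885 : Led Lsl_ct (LP (LK LD1_c3 LD2_c58 LD3_c32)) = (LP (LK LD1_c1 LD2_c56 LD3_c6)) :=
  Lre_c IH (LK LD1_c3 LD2_c58 LD3_c32) (LK LD1_c1 LD2_c56 LD3_c6) Lrfl Lrfl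
theorem f54804 : Led Lsl_gt (LP (LK LD1_c3 LD2_c58 LD3_c45)) = (LP (LK LD1_c1 LD2_c56 LD3_c6)) :=
  Lre_g IH (LK LD1_c3 LD2_c58 LD3_c45) (LK LD1_c1 LD2_c56 LD3_c6) Lrfl Lrfl
theorem f174029 : Led Lsl_ct (LP (LK LD1_c7 LD2_c58 LD3_c59)) = (LP (LK LD1_c3 LD2_c58 LD3_c45)) :=
  Lre_c IH (LK LD1_c7 LD2_c58 LD3_c59) (LK LD1_c3 LD2_c58 LD3_c45) Lrfl Lrfl
theorem f174030 : Led Lsl_bt (LP (LK LD1_c7 LD2_c58 LD3_c59)) = (LP (LK LD1_c15 LD2_c3 LD3_c37)) :=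
  Lre_b IH (LK LD1_c7 LD2_c58 LD3_c59) (LK LD1_c15 LD2_c3 LD3_c37) Lrfl Lrfl
theorem f218114 : Led Lsl_ct (LP (LK LD1_c8 LD2_c20 LD3_c21)) = (LP (LK LD1_c4 LD2_c10 LD3_c4)) :=
  Lre_c IH (LK LD1_c8 LD2_c20 LD3_c21) (LK LD1_c4 LD2_c10 LD3_c4) Lrfl Lrfl
theorem f170858 : Led Lsl_bt (LP (LK LD1_c8 LD2_c20 LD3_c21)) = (LP (LK LD1_c15 LD2_c41 LD3_c47)) :=
  Lre_b IH (LK LD1_c8 LD2_c20 LD3_c21) (LK LD1_c15 LD2_c41 LD3_c47) Lrfl Lrfl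
theorem f275483 : Led Lsl_gf (LP (LK LD1_c15 LD2_c3 LD3_c37)) = (LP (LK LD1_c15 LD2_c41 LD3_c47)) :=
  Lgr Lrot124 (Lpe (f174030 IH) (Lpr_ct (f174029 IH) (Lpr_gt (f54804 IH) (Lpe (f54885 IH) (Lpr_bt (f54893 IH) (Lpr_gt (K12.f54668 IH) (Lpr_ct (f218701 IH) (Lpr_gt (f275475 IH) (Lpe (f218114 IH) (Lpr_bt (f170858 IH) (Lpn (LP (LK LD1_c15 LD2_c41 LD3_c47)))))))))))))
theorem f173631 : Led Lsl_ct (LP (LK LD1_c10 LD2_c54 LD3_c36)) = (LP (LK LD1_c5 LD2_c31 LD3_c29)) :=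
  Lre_c IH (LK LD1_c10 LD2_c54 LD3_c36) (LK LD1_c5 LD2_c31 LD3_c29) Lrfl Lrfl
theorem f54765 : Led Lsl_at (LP (LK LD1_c3 LD2_c58 LD3_c46)) = (LP (LK LD1_c1 LD2_c56 LD3_c6)) :=
  Lre_a IH (LK LD1_c3 LD2_c58 LD3_c46) (LK LD1_c1 LD2_c56 LD3_c6) Lrfl Lrfl
theorem f173622 : Led Lsl_ff (LP (LK LD1_c3 LD2_c58 LD3_c46)) = (LP (LK LD1_c5 LD2_c31 LD3_c29)) :=
  Lgr Lrot30 (Lpr_at (f54765 IH) (Lpr_ft (K9.f173609 IH) (Lpr_at (K9.f173062 IH) (Lpn (LP (LK LD1_c5 LD2_c31 LD3_c29))))))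
theorem f174020 : Led Lsl_gf (LP (LK LD1_c3 LD2_c58 LD3_c45)) = (LP (LK LD1_c5 LD2_c31 LD3_c29)) :=
  Lgr Lrot47 (Lpr_gt (f54804 IH) (Lpe (f54765 IH) (Lpr_ff (f173622 IH) (Lpn (LP (LK LD1_c5 LD2_c31 LD3_c29))))))
theorem f48085 : Led Lsl_bf (LP (LK LD1_c19 LD2_c6 LD3_c14)) = (LP (LK LD1_c18 LD2_c44 LD3_c15)) :=
  Lgr Lrot24 (Lpr_bt (K10.f48063 IH) (Lpn (LP (LK LD1_c18 LD2_c44 LD3_c15))))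
theorem f223185 : Led Lsl_gt (LP (LK LD1_c15 LD2_c3 LD3_c37)) = (LP (LK LD1_c19 LD2_c6 LD3_c14)) :=
  Lgr Lrot164 (Lpe (f174030 IH) (Lpr_ct (f174029 IH) (Lpr_gf (f174020 IH) (Lpe (f173631 IH) (Lpe (K12.f173898 IH) (Lpe (K12.f173901 IH) (Lpr_ct (K12.f223173 IH) (Lpr_gf (K12.f189038 IH) (Lpe (K10.f33503 IH) (Lpe (f48085 IH) (Lpn (LP (LK LD1_c19 LD2_c6 LD3_c14)))))))))))))
theorem f275485 : Led Lsl_ff (LP (LK LD1_c10 LD2_c32 LD3_c54)) = (LP (LK LD1_c15 LD2_c41 LD3_c47)) :=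
  Lgr Lrot52 (Lpr_at (K10.f48060 IH) (Lpe (f223185 IH) (Lpr_gf (f275483 IH) (Lpn (LP (LK LD1_c15 LD2_c41 LD3_c47))))))
theorem f48112 : Led Lsl_ft (LP (LK LD1_c8 LD2_c39 LD3_c26)) = (LP (LK LD1_c16 LD2_c12 LD3_c55)) :=
  Lre_f IH (LK LD1_c8 LD2_c39 LD3_c26) (LK LD1_c16 LD2_c12 LD3_c55) Lrfl Lrfl
theorem f48113 : Led Lsl_et (LP (LK LD1_c16 LD2_c12 LD3_c55)) = (LP (LK LD1_c26 LD2_c9 LD3_c47)) :=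
  Lre_e IH (LK LD1_c16 LD2_c12 LD3_c55) (LK LD1_c26 LD2_c9 LD3_c47) Lrfl Lrfl
theorem f275492 : Led Lsl_et (LP (LK LD1_c25 LD2_c37 LD3_c24)) = (LP (LK LD1_c15 LD2_c41 LD3_c47)) :=
  Lre_e IH (LK LD1_c25 LD2_c37 LD3_c24) (LK LD1_c15 LD2_c41 LD3_c47) Lrfl Lrfl
theorem f275557 : Led Lsl_ft (LP (LK LD1_c26 LD2_c9 LD3_c47)) = (LP (LK LD1_c25 LD2_c37 LD3_c24)) :=
  Lgr Lrot86 (Lpe (f48113 IH) (Lpe (f48112 IH) (Lpe (K10.f48102 IH) (Lpr_ff (f275485 IH) (Lpe (f275492 IH) (Lpn (LP (LK LD1_c25 LD2_c37 LD3_c24))))))))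
theorem f275565 : Led Lsl_ff (LP (LK LD1_c26 LD2_c9 LD3_c47)) = (LP (LK LD1_c25 LD2_c37 LD3_c24)) :=
  Lgr Lrot3 (Lpr_ft (f275557 IH) (Lpn (LP (LK LD1_c25 LD2_c37 LD3_c24))))
theorem f235480 : Led Lsl_ct (LP (LK LD1_c26 LD2_c9 LD3_c47)) = (LP (LK LD1_c16 LD2_c13 LD3_c18)) :=
  Lre_c IH (LK LD1_c26 LD2_c9 LD3_c47) (LK LD1_c16 LD2_c13 LD3_c18) Lrfl Lrfl
theorem f235240 : Led Lsl_et (LP (LK LD1_c5 LD2_c35 LD3_c12)) = (LP (LK LD1_c11 LD2_c2 LD3_c34)) :=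
  Lre_e IH (LK LD1_c5 LD2_c35 LD3_c12) (LK LD1_c11 LD2_c2 LD3_c34) Lrfl Lrfl
theorem f235257 : Led Lsl_ft (LP (LK LD1_c11 LD2_c2 LD3_c34)) = (LP (LK LD1_c8 LD2_c39 LD3_c42)) :=
  Lgr Lrot86 (Lpe (f235240 IH) (Lpr_ff (K13.f235251 IH) (Lpe (K10.f31287 IH) (Lpe (K13.f31410 IH) (Lpe (K10.f31265 IH) (Lpn (LP (LK LD1_c8 LD2_c39 LD3_c42))))))))
theorem f235447 : Led Lsl_bt (LP (LK LD1_c19 LD2_c53 LD3_c53)) = (LP (LK LD1_c11 LD2_c2 LD3_c34)) :=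
  Lre_b IH (LK LD1_c19 LD2_c53 LD3_c53) (LK LD1_c11 LD2_c2 LD3_c34) Lrfl Lrfl
theorem f31239 : Led Lsl_bt (LP (LK LD1_c8 LD2_c39 LD3_c42)) = (LP (LK LD1_c16 LD2_c13 LD3_c18)) :=
  Lre_b IH (LK LD1_c8 LD2_c39 LD3_c42) (LK LD1_c16 LD2_c13 LD3_c18) Lrfl Lrfl
theorem f235448 : Led Lsl_ff (LP (LK LD1_c19 LD2_c53 LD3_c53)) = (LP (LK LD1_c16 LD2_c13 LD3_c18)) :=
  Lgr Lrot25 (Lpr_bt (f235447 IH) (Lpr_ft (f235257 IH) (Lpr_bt (f31239 IH) (Lpn (LP (LK LD1_c16 LD2_c13 LD3_c18))))))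
theorem f275568 : Led Lsl_ct (LP (LK LD1_c19 LD2_c53 LD3_c53)) = (LP (LK LD1_c25 LD2_c37 LD3_c24)) :=
  Lgr Lrot40 (Lpr_ff (f235448 IH) (Lpe (f235480 IH) (Lpr_ff (f275565 IH) (Lpn (LP (LK LD1_c25 LD2_c37 LD3_c24))))))
theorem f235487 : Led Lsl_et (LP (LK LD1_c11 LD2_c2 LD3_c33)) = (LP (LK LD1_c19 LD2_c53 LD3_c53)) :=
  Lre_e IH (LK LD1_c11 LD2_c2 LD3_c33) (LK LD1_c19 LD2_c53 LD3_c53) Lrfl Lrfl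
theorem f275573 : Led Lsl_cf (LP (LK LD1_c11 LD2_c2 LD3_c33)) = (LP (LK LD1_c15 LD2_c41 LD3_c47)) :=
  Lgr Lrot39 (Lpr_et (f235487 IH) (Lpr_ct (f275568 IH) (Lpr_et (f275492 IH) (Lpn (LP (LK LD1_c15 LD2_c41 LD3_c47))))))
theorem f235236 : Led Lsl_at (LP (LK LD1_c11 LD2_c2 LD3_c33)) = (LP (LK LD1_c19 LD2_c53 LD3_c52)) :=
  Lre_a IH (LK LD1_c11 LD2_c2 LD3_c33) (LK LD1_c19 LD2_c53 LD3_c52) Lrfl Lrfl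
theorem f275550 : Led Lsl_at (LP (LK LD1_c25 LD2_c37 LD3_c22)) = (LP (LK LD1_c15 LD2_c41 LD3_c47)) :=
  Lre_a IH (LK LD1_c25 LD2_c37 LD3_c22) (LK LD1_c15 LD2_c41 LD3_c47) Lrfl Lrfl
theorem f275576 : Led Lsl_ct (LP (LK LD1_c19 LD2_c53 LD3_c52)) = (LP (LK LD1_c25 LD2_c37 LD3_c22)) :=
  Lgr Lrot111 (Lpe (f235236 IH) (Lpr_cf (f275573 IH) (Lpe (f275550 IH) (Lpn (LP (LK LD1_c25 LD2_c37 LD3_c22))))))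
theorem f235235 : Led Lsl_bt (LP (LK LD1_c5 LD2_c35 LD3_c12)) = (LP (LK LD1_c11 LD2_c2 LD3_c33)) :=
  Lre_b IH (LK LD1_c5 LD2_c35 LD3_c12) (LK LD1_c11 LD2_c2 LD3_c33) Lrfl Lrfl
theorem f235253 : Led Lsl_ft (LP (LK LD1_c11 LD2_c2 LD3_c33)) = (LP (LK LD1_c8 LD2_c39 LD3_c31)) :=
  Lgr Lrot75 (Lpe (f235235 IH) (Lpr_ff (K13.f235251 IH) (Lpe (K10.f31292 IH) (Lpn (LP (LK LD1_c8 LD2_c39 LD3_c31))))))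
theorem f235517 : Led Lsl_at (LP (LK LD1_c19 LD2_c53 LD3_c52)) = (LP (LK LD1_c11 LD2_c2 LD3_c33)) :=
  Lre_a IH (LK LD1_c19 LD2_c53 LD3_c52) (LK LD1_c11 LD2_c2 LD3_c33) Lrfl Lrfl
theorem f31306 : Led Lsl_at (LP (LK LD1_c8 LD2_c39 LD3_c31)) = (LP (LK LD1_c16 LD2_c12 LD3_c61)) :=
  Lre_a IH (LK LD1_c8 LD2_c39 LD3_c31) (LK LD1_c16 LD2_c12 LD3_c61) Lrfl Lrfl
theorem f235518 : Led Lsl_ff (LP (LK LD1_c19 LD2_c53 LD3_c52)) = (LP (LK LD1_c16 LD2_c12 LD3_c61)) :=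
  Lgr Lrot30 (Lpr_at (f235517 IH) (Lpr_ft (f235253 IH) (Lpr_at (f31306 IH) (Lpn (LP (LK LD1_c16 LD2_c12 LD3_c61))))))
theorem f48092 : Led Lsl_ct (LP (LK LD1_c19 LD2_c6 LD3_c14)) = (LP (LK LD1_c16 LD2_c12 LD3_c61)) :=
  Lgr Lrot59 (Lpr_cf (K10.f48087 IH) (Lpn (LP (LK LD1_c16 LD2_c12 LD3_c61))))
theorem f275581 : Led Lsl_ff (LP (LK LD1_c19 LD2_c6 LD3_c14)) = (LP (LK LD1_c25 LD2_c37 LD3_c22)) :=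
  Lgr Lrot23 (Lpr_ct (f48092 IH) (Lpe (f235518 IH) (Lpr_ct (f275576 IH) (Lpn (LP (LK LD1_c25 LD2_c37 LD3_c22))))))
theorem f275583 : Led Lsl_bt (LP (LK LD1_c24 LD2_c50 LD3_c32)) = (LP (LK LD1_c25 LD2_c37 LD3_c22)) :=
  Lgr Lrot35 (Lpr_ff (K15.f218042 IH) (Lpe (K10.f48063 IH) (Lpr_ff (f275581 IH) (Lpn (LP (LK LD1_c25 LD2_c37 LD3_c22))))))
theorem f218041 : Led Lsl_et (LP (LK LD1_c31 LD2_c41 LD3_c7)) = (LP (LK LD1_c24 LD2_c50 LD3_c32)) :=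
  Lre_e IH (LK LD1_c31 LD2_c41 LD3_c7) (LK LD1_c24 LD2_c50 LD3_c32) Lrfl Lrfl
theorem f275580 : Led Lsl_et (LP (LK LD1_c25 LD2_c37 LD3_c22)) = (LP (LK LD1_c31 LD2_c56 LD3_c53)) :=
  Lre_e IH (LK LD1_c25 LD2_c37 LD3_c22) (LK LD1_c31 LD2_c56 LD3_c53) Lrfl Lrfl
theorem f275592 : Led Lsl_bf (LP (LK LD1_c31 LD2_c41 LD3_c7)) = (LP (LK LD1_c31 LD2_c56 LD3_c53)) :=
  Lgr Lrot96 (Lpr_et (f218041 IH) (Lpr_bt (f275583 IH) (Lpr_et (f275580 IH) (Lpn (LP (LK LD1_c31 LD2_c56 LD3_c53))))))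
theorem f275596 : Led Lsl_bt (LP (LK LD1_c31 LD2_c41 LD3_c7)) = (LP (LK LD1_c31 LD2_c56 LD3_c53)) :=
  Lgr Lrot127 (Lpr_bf (f275592 IH) (Lpn (LP (LK LD1_c31 LD2_c56 LD3_c53))))
theorem f218063 : Led Lsl_at (LP (LK LD1_c24 LD2_c50 LD3_c33)) = (LP (LK LD1_c31 LD2_c41 LD3_c7)) :=
  Lre_a IH (LK LD1_c24 LD2_c50 LD3_c33) (LK LD1_c31 LD2_c41 LD3_c7) Lrfl Lrfl
theorem f275567 : Led Lsl_at (LP (LK LD1_c31 LD2_c56 LD3_c53)) = (LP (LK LD1_c25 LD2_c37 LD3_c24)) :=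
  Lre_a IH (LK LD1_c31 LD2_c56 LD3_c53) (LK LD1_c25 LD2_c37 LD3_c24) Lrfl Lrfl
theorem f275560 : Led Lsl_bt (LP (LK LD1_c25 LD2_c37 LD3_c24)) = (LP (LK LD1_c15 LD2_c41 LD3_c49)) :=
  Lre_b IH (LK LD1_c25 LD2_c37 LD3_c24) (LK LD1_c15 LD2_c41 LD3_c49) Lrfl Lrfl
theorem f275598 : Led Lsl_af (LP (LK LD1_c15 LD2_c2 LD3_c3)) = (LP (LK LD1_c15 LD2_c41 LD3_c49)) :=
  Lgr Lrot36 (Lpr_bt (K15.f218003 IH) (Lpr_at (f218063 IH) (Lpr_bt (f275596 IH) (Lpr_at (f275567 IH) (Lpr_bt (f275560 IH) (Lpn (LP (LK LD1_c15 LD2_c41 LD3_c49))))))))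
theorem f217976 : Led Lsl_ct (LP (LK LD1_c15 LD2_c2 LD3_c3)) = (LP (LK LD1_c8 LD2_c7 LD3_c45)) :=
  Lgr Lrot15 (Lpe (K15.f217975 IH) (Lpr_cf (K12.f217965 IH) (Lpe (K15.f201120 IH) (Lpn (LP (LK LD1_c8 LD2_c7 LD3_c45))))))
theorem f212822 : Led Lsl_ct (LP (LK LD1_c8 LD2_c20 LD3_c22)) = (LP (LK LD1_c15 LD2_c41 LD3_c49)) :=
  Lre_c IH (LK LD1_c8 LD2_c20 LD3_c22) (LK LD1_c15 LD2_c41 LD3_c49) Lrfl Lrfl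
theorem f275600 : Led Lsl_at (LP (LK LD1_c8 LD2_c7 LD3_c45)) = (LP (LK LD1_c8 LD2_c20 LD3_c22)) :=
  Lgr Lrot107 (Lpe (f217976 IH) (Lpr_af (f275598 IH) (Lpe (f212822 IH) (Lpn (LP (LK LD1_c8 LD2_c20 LD3_c22))))))
theorem f212817 : Led Lsl_et (LP (LK LD1_c8 LD2_c20 LD3_c22)) = (LP (LK LD1_c4 LD2_c10 LD3_c4)) :=
  Lre_e IH (LK LD1_c8 LD2_c20 LD3_c22) (LK LD1_c4 LD2_c10 LD3_c4) Lrfl Lrfl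
theorem f275612 : Led Lsl_af (LP (LK LD1_c4 LD2_c3 LD3_c35)) = (LP (LK LD1_c4 LD2_c10 LD3_c4)) :=
  Lgr Lrot50 (Lpr_et (K15.f201122 IH) (Lpr_at (f275600 IH) (Lpr_et (f212817 IH) (Lpn (LP (LK LD1_c4 LD2_c10 LD3_c4))))))
theorem f212796 : Led Lsl_dt (LP (LK LD1_c4 LD2_c10 LD3_c4)) = (LP (LK LD1_c2 LD2_c2 LD3_c15)) :=
  Lre_d IH (LK LD1_c4 LD2_c10 LD3_c4) (LK LD1_c2 LD2_c2 LD3_c15) Lrfl Lrfl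
theorem f212797 : Led Lsl_ft (LP (LK LD1_c2 LD2_c37 LD3_c13)) = (LP (LK LD1_c4 LD2_c10 LD3_c4)) :=
  Lgr Lrot54 (Lpe (K10.f48043 IH) (Lpr_ff (K12.f212790 IH) (Lpe (f212796 IH) (Lpn (LP (LK LD1_c4 LD2_c10 LD3_c4))))))
theorem f275620 : Led Lsl_gf (LP (LK LD1_c2 LD2_c11 LD3_c13)) = (LP (LK LD1_c2 LD2_c37 LD3_c13)) :=
  Lgr Lrot47 (Lpr_gt (K12.f223194 IH) (Lpr_af (f275612 IH) (Lpe (f212797 IH) (Lpn (LP (LK LD1_c2 LD2_c37 LD3_c13))))))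
theorem f223211 : Led Lsl_et (LP (LK LD1_c4 LD2_c28 LD3_c5)) = (LP (LK LD1_c2 LD2_c11 LD3_c13)) :=
  Lre_e IH (LK LD1_c4 LD2_c28 LD3_c5) (LK LD1_c2 LD2_c11 LD3_c13) Lrfl Lrfl
theorem f223212 : Led Lsl_dt (LP (LK LD1_c4 LD2_c28 LD3_c5)) = (LP (LK LD1_c8 LD2_c54 LD3_c12)) :=
  Lre_d IH (LK LD1_c4 LD2_c28 LD3_c5) (LK LD1_c8 LD2_c54 LD3_c12) Lrfl Lrfl
theorem f28674 : Led Lsl_dt (LP (LK LD1_c2 LD2_c7 LD3_c56)) = (LP (LK LD1_c1 LD2_c1 LD3_c4)) :=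
  Lre_d IH (LK LD1_c2 LD2_c7 LD3_c56) (LK LD1_c1 LD2_c1 LD3_c4) Lrfl Lrfl
theorem f264904 : Led Lsl_gt (LP (LK LD1_c5 LD2_c17 LD3_c41)) = (LP (LK LD1_c4 LD2_c3 LD3_c1)) :=
  Lgr Lrot49 (Lpe (K15.f184832 IH) (Lpe (f257038 IH) (Lpr_cf (K9.f171891 IH) (Lpr_gt (K15.f264902 IH) (Lpr_dt (K10.f184626 IH) (Lpe (K15.f264876 IH) (Lpr_dt (K15.f41753 IH) (Lpe (K15.f192215 IH) (Lpe (K15.f192217 IH) (Lpn (LP (LK LD1_c4 LD2_c3 LD3_c1))))))))))))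
theorem f246213 : Led Lsl_dt (LP (LK LD1_c10 LD2_c24 LD3_c58)) = (LP (LK LD1_c5 LD2_c17 LD3_c40)) :=
  Lre_d IH (LK LD1_c10 LD2_c24 LD3_c58) (LK LD1_c5 LD2_c17 LD3_c40) Lrfl Lrfl
theorem f275630 : Led Lsl_gt (LP (LK LD1_c8 LD2_c54 LD3_c12)) = (LP (LK LD1_c5 LD2_c17 LD3_c40)) :=
  Lgr Lrot112 (Lpe (f223212 IH) (Lpr_et (f223211 IH) (Lpr_gf (f275620 IH) (Lpr_ef (K12.f48127 IH) (Lpr_dt (f28674 IH) (Lpe (K10.f192205 IH) (Lpe (K15.f192217 IH) (Lpe (f264904 IH) (Lpe (f260358 IH) (Lpr_dt (f246213 IH) (Lpn (LP (LK LD1_c5 LD2_c17 LD3_c40)))))))))))))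
theorem f184708 : Led Lsl_ft (LP (LK LD1_c10 LD2_c27 LD3_c58)) = (LP (LK LD1_c5 LD2_c19 LD3_c2)) :=
  Lre_f IH (LK LD1_c10 LD2_c27 LD3_c58) (LK LD1_c5 LD2_c19 LD3_c2) Lrfl Lrfl
theorem f275632 : Led Lsl_gf (LP (LK LD1_c8 LD2_c54 LD3_c12)) = (LP (LK LD1_c10 LD2_c27 LD3_c58)) :=
  Lgr Lrot47 (Lpr_gt (f275630 IH) (Lpe (f271289 IH) (Lpe (f184708 IH) (Lpn (LP (LK LD1_c10 LD2_c27 LD3_c58))))))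
theorem f223213 : Led Lsl_gt (LP (LK LD1_c4 LD2_c3 LD3_c41)) = (LP (LK LD1_c8 LD2_c7 LD3_c52)) :=
  Lre_g IH (LK LD1_c4 LD2_c3 LD3_c41) (LK LD1_c8 LD2_c7 LD3_c52) Lrfl Lrfl
theorem f223214 : Led Lsl_et (LP (LK LD1_c15 LD2_c18 LD3_c39)) = (LP (LK LD1_c8 LD2_c7 LD3_c52)) :=
  Lre_e IH (LK LD1_c15 LD2_c18 LD3_c39) (LK LD1_c8 LD2_c7 LD3_c52) Lrfl Lrfl
theorem f275658 : Led Lsl_dt (LP (LK LD1_c15 LD2_c18 LD3_c39)) = (LP (LK LD1_c10 LD2_c27 LD3_c58)) :=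
  Lgr Lrot136 (Lpr_et (f223214 IH) (Lpe (f223213 IH) (Lpe (f212497 IH) (Lpr_dt (K12.f201103 IH) (Lpe (K11.f201075 IH) (Lpe (K12.f201112 IH) (Lpe (K12.f223194 IH) (Lpe (f223211 IH) (Lpr_dt (f223212 IH) (Lpr_gf (f275632 IH) (Lpn (LP (LK LD1_c10 LD2_c27 LD3_c58)))))))))))))
theorem f275665 : Led Lsl_ff (LP (LK LD1_c15 LD2_c18 LD3_c39)) = (LP (LK LD1_c10 LD2_c15 LD3_c43)) :=
  Lgr Lrot19 (Lpr_dt (f275658 IH) (Lpr_ft (f184708 IH) (Lpr_dt (f271276 IH) (Lpn (LP (LK LD1_c10 LD2_c15 LD3_c43))))))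
theorem f275674 : Led Lsl_ft (LP (LK LD1_c15 LD2_c18 LD3_c39)) = (LP (LK LD1_c10 LD2_c15 LD3_c43)) :=
  Lgr Lrot48 (Lpr_ff (f275665 IH) (Lpn (LP (LK LD1_c10 LD2_c15 LD3_c43))))
theorem f275664 : Led Lsl_et (LP (LK LD1_c8 LD2_c7 LD3_c52)) = (LP (LK LD1_c15 LD2_c18 LD3_c39)) :=
  Lre_e IH (LK LD1_c8 LD2_c7 LD3_c52) (LK LD1_c15 LD2_c18 LD3_c39) Lrfl Lrfl
theorem f275679 : Led Lsl_ff (LP (LK LD1_c8 LD2_c7 LD3_c52)) = (LP (LK LD1_c10 LD2_c0 LD3_c55)) :=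
  Lgr Lrot72 (Lpr_et (f275664 IH) (Lpr_ft (f275674 IH) (Lpr_et (f271247 IH) (Lpr_ft (f271243 IH) (Lpr_et (f271248 IH) (Lpn (LP (LK LD1_c10 LD2_c0 LD3_c55))))))))
theorem f274523 : Led Lsl_bt (LP (LK LD1_c5 LD2_c4 LD3_c57)) = (LP (LK LD1_c10 LD2_c0 LD3_c55)) :=
  Lre_b IH (LK LD1_c5 LD2_c4 LD3_c57) (LK LD1_c10 LD2_c0 LD3_c55) Lrfl Lrfl
theorem f275683 : Led Lsl_bt (LP (LK LD1_c8 LD2_c7 LD3_c52)) = (LP (LK LD1_c5 LD2_c23 LD3_c30)) :=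
  Lgr Lrot35 (Lpr_ff (f275679 IH) (Lpe (f274523 IH) (Lpr_ff (f270355 IH) (Lpn (LP (LK LD1_c5 LD2_c23 LD3_c30))))))
theorem f271269 : Led Lsl_bt (LP (LK LD1_c10 LD2_c15 LD3_c43)) = (LP (LK LD1_c5 LD2_c12 LD3_c42)) :=
  Lre_b IH (LK LD1_c10 LD2_c15 LD3_c43) (LK LD1_c5 LD2_c12 LD3_c42) Lrfl Lrfl
theorem f275676 : Led Lsl_ft (LP (LK LD1_c5 LD2_c12 LD3_c42)) = (LP (LK LD1_c10 LD2_c15 LD3_c48)) :=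
  Lre_f IH (LK LD1_c5 LD2_c12 LD3_c42) (LK LD1_c10 LD2_c15 LD3_c48) Lrfl Lrfl
theorem f275677 : Led Lsl_bf (LP (LK LD1_c15 LD2_c18 LD3_c39)) = (LP (LK LD1_c10 LD2_c15 LD3_c48)) :=
  Lgr Lrot61 (Lpr_ft (f275674 IH) (Lpr_bt (f271269 IH) (Lpr_ft (f275676 IH) (Lpn (LP (LK LD1_c10 LD2_c15 LD3_c48))))))
theorem f275717 : Led Lsl_ef (LP (LK LD1_c10 LD2_c15 LD3_c48)) = (LP (LK LD1_c5 LD2_c23 LD3_c30)) :=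
  Lgr Lrot29 (Lpe (f275677 IH) (Lpr_et (f223214 IH) (Lpr_bt (f275683 IH) (Lpn (LP (LK LD1_c5 LD2_c23 LD3_c30))))))
theorem f275669 : Led Lsl_ft (LP (LK LD1_c10 LD2_c15 LD3_c48)) = (LP (LK LD1_c5 LD2_c12 LD3_c42)) :=
  Lre_f IH (LK LD1_c10 LD2_c15 LD3_c48) (LK LD1_c5 LD2_c12 LD3_c42) Lrfl Lrfl
theorem f171675 : Led Lsl_et (LP (LK LD1_c5 LD2_c12 LD3_c42)) = (LP (LK LD1_c2 LD2_c33 LD3_c12)) :=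
  Lre_e IH (LK LD1_c5 LD2_c12 LD3_c42) (LK LD1_c2 LD2_c33 LD3_c12) Lrfl Lrfl
theorem f270285 : Led Lsl_ff (LP (LK LD1_c2 LD2_c29 LD3_c47)) = (LP (LK LD1_c2 LD2_c33 LD3_c12)) :=
  Lgr Lrot23 (Lpr_ct (K15.f31629 IH) (Lpr_ft (f270281 IH) (Lpr_ct (K13.f171659 IH) (Lpn (LP (LK LD1_c2 LD2_c33 LD3_c12))))))
theorem f270352 : Led Lsl_et (LP (LK LD1_c2 LD2_c29 LD3_c47)) = (LP (LK LD1_c5 LD2_c4 LD3_c57)) :=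
  Lre_e IH (LK LD1_c2 LD2_c29 LD3_c47) (LK LD1_c5 LD2_c4 LD3_c57) Lrfl Lrfl
theorem f275723 : Led Lsl_ft (LP (LK LD1_c5 LD2_c4 LD3_c57)) = (LP (LK LD1_c5 LD2_c23 LD3_c30)) :=
  Lgr Lrot86 (Lpe (f270352 IH) (Lpr_ff (f270285 IH) (Lpe (f171675 IH) (Lpe (f275669 IH) (Lpr_ef (f275717 IH) (Lpn (LP (LK LD1_c5 LD2_c23 LD3_c30))))))))
theorem f270347 : Led Lsl_af (LP (LK LD1_c5 LD2_c4 LD3_c57)) = (LP (LK LD1_c4 LD2_c21 LD3_c52)) :=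
  Lgr Lrot0 (Lpr_at (f270344 IH) (Lpn (LP (LK LD1_c4 LD2_c21 LD3_c52))))
theorem f227248 : Led Lsl_ft (LP (LK LD1_c8 LD2_c41 LD3_c25)) = (LP (LK LD1_c4 LD2_c21 LD3_c52)) :=
  Lre_f IH (LK LD1_c8 LD2_c41 LD3_c25) (LK LD1_c4 LD2_c21 LD3_c52) Lrfl Lrfl
theorem f275725 : Led Lsl_af (LP (LK LD1_c8 LD2_c41 LD3_c25)) = (LP (LK LD1_c5 LD2_c23 LD3_c30)) :=
  Lgr Lrot45 (Lpr_ft (f227248 IH) (Lpe (f270347 IH) (Lpr_ft (f275723 IH) (Lpn (LP (LK LD1_c5 LD2_c23 LD3_c30))))))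
theorem f260581 : Led Lsl_dt (LP (LK LD1_c8 LD2_c41 LD3_c25)) = (LP (LK LD1_c4 LD2_c21 LD3_c53)) :=
  Lre_d IH (LK LD1_c8 LD2_c41 LD3_c25) (LK LD1_c4 LD2_c21 LD3_c53) Lrfl Lrfl
theorem f275727 : Led Lsl_dt (LP (LK LD1_c7 LD2_c55 LD3_c47)) = (LP (LK LD1_c5 LD2_c23 LD3_c30)) :=
  Lgr Lrot44 (Lpe (f269878 IH) (Lpe (f260581 IH) (Lpr_af (f275725 IH) (Lpn (LP (LK LD1_c5 LD2_c23 LD3_c30))))))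
theorem f193007 : Led Lsl_et (LP (LK LD1_c4 LD2_c1 LD3_c13)) = (LP (LK LD1_c1 LD2_c57 LD3_c29)) :=
  Lre_e IH (LK LD1_c4 LD2_c1 LD3_c13) (LK LD1_c1 LD2_c57 LD3_c29) Lrfl Lrfl
theorem f43948 : Led Lsl_et (LP (LK LD1_c2 LD2_c36 LD3_c14)) = (LP (LK LD1_c5 LD2_c19 LD3_c9)) :=
  Lre_e IH (LK LD1_c2 LD2_c36 LD3_c14) (LK LD1_c5 LD2_c19 LD3_c9) Lrfl Lrfl
theorem f193008 : Led Lsl_bf (LP (LK LD1_c4 LD2_c1 LD3_c13)) = (LP (LK LD1_c5 LD2_c19 LD3_c9)) :=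
  Lgr Lrot96 (Lpr_et (f193007 IH) (Lpr_bt (K13.f192995 IH) (Lpr_et (f43948 IH) (Lpn (LP (LK LD1_c5 LD2_c19 LD3_c9))))))
theorem f193019 : Led Lsl_ft (LP (LK LD1_c4 LD2_c1 LD3_c13)) = (LP (LK LD1_c8 LD2_c3 LD3_c13)) :=
  Lre_f IH (LK LD1_c4 LD2_c1 LD3_c13) (LK LD1_c8 LD2_c3 LD3_c13) Lrfl Lrfl
theorem f193020 : Led Lsl_ft (LP (LK LD1_c10 LD2_c28 LD3_c6)) = (LP (LK LD1_c5 LD2_c19 LD3_c9)) :=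
  Lre_f IH (LK LD1_c10 LD2_c28 LD3_c6) (LK LD1_c5 LD2_c19 LD3_c9) Lrfl Lrfl
theorem f193021 : Led Lsl_bt (LP (LK LD1_c8 LD2_c3 LD3_c13)) = (LP (LK LD1_c10 LD2_c28 LD3_c6)) :=
  Lgr Lrot35 (Lpe (f193019 IH) (Lpr_bf (f193008 IH) (Lpe (f193020 IH) (Lpn (LP (LK LD1_c10 LD2_c28 LD3_c6))))))
theorem f193028 : Led Lsl_bf (LP (LK LD1_c8 LD2_c3 LD3_c13)) = (LP (LK LD1_c10 LD2_c28 LD3_c6)) :=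
  Lgr Lrot24 (Lpr_bt (f193021 IH) (Lpn (LP (LK LD1_c10 LD2_c28 LD3_c6))))
theorem f216764 : Led Lsl_dt (LP (LK LD1_c8 LD2_c3 LD3_c13)) = (LP (LK LD1_c4 LD2_c21 LD3_c61)) :=
  Lgr Lrot79 (Lpr_bf (f193028 IH) (Lpr_df (f216761 IH) (Lpe (f216763 IH) (Lpn (LP (LK LD1_c4 LD2_c21 LD3_c61))))))
theorem f184685 : Led Lsl_et (LP (LK LD1_c1 LD2_c57 LD3_c61)) = (LP (LK LD1_c4 LD2_c2 LD3_c5)) :=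
  Lre_e IH (LK LD1_c1 LD2_c57 LD3_c61) (LK LD1_c4 LD2_c2 LD3_c5) Lrfl Lrfl
theorem f184709 : Led Lsl_ft (LP (LK LD1_c4 LD2_c2 LD3_c5)) = (LP (LK LD1_c8 LD2_c4 LD3_c48)) :=
  Lre_f IH (LK LD1_c4 LD2_c2 LD3_c5) (LK LD1_c8 LD2_c4 LD3_c48) Lrfl Lrfl
theorem f193037 : Led Lsl_ft (LP (LK LD1_c8 LD2_c3 LD3_c13)) = (LP (LK LD1_c4 LD2_c1 LD3_c13)) :=
  Lre_f IH (LK LD1_c8 LD2_c3 LD3_c13) (LK LD1_c4 LD2_c1 LD3_c13) Lrfl Lrfl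
theorem f273249 : Led Lsl_et (LP (LK LD1_c8 LD2_c4 LD3_c48)) = (LP (LK LD1_c8 LD2_c3 LD3_c13)) :=
  Lgr Lrot69 (Lpe (f184709 IH) (Lpe (f184685 IH) (Lpr_ff (f273243 IH) (Lpe (f193007 IH) (Lpe (f193037 IH) (Lpn (LP (LK LD1_c8 LD2_c3 LD3_c13))))))))
theorem f275865 : Led Lsl_df (LP (LK LD1_c8 LD2_c4 LD3_c48)) = (LP (LK LD1_c10 LD2_c15 LD3_c48)) :=
  Lgr Lrot70 (Lpr_et (f273249 IH) (Lpr_dt (f216764 IH) (Lpr_et (f269865 IH) (Lpr_dt (f275727 IH) (Lpe (f275717 IH) (Lpn (LP (LK LD1_c10 LD2_c15 LD3_c48))))))))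
theorem f260583 : Led Lsl_ft (LP (LK LD1_c2 LD2_c8 LD3_c25)) = (LP (LK LD1_c4 LD2_c21 LD3_c53)) :=
  Lre_f IH (LK LD1_c2 LD2_c8 LD3_c25) (LK LD1_c4 LD2_c21 LD3_c53) Lrfl Lrfl
theorem f269846 : Led Lsl_et (LP (LK LD1_c4 LD2_c21 LD3_c53)) = (LP (LK LD1_c7 LD2_c55 LD3_c50)) :=
  Lgr Lrot69 (Lpe (f260583 IH) (Lpe (K14.f227213 IH) (Lpr_ff (f269838 IH) (Lpe (f186929 IH) (Lpe (K15.f229725 IH) (Lpn (LP (LK LD1_c7 LD2_c55 LD3_c50))))))))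
theorem f192610 : Led Lsl_ft (LP (LK LD1_c10 LD2_c0 LD3_c54)) = (LP (LK LD1_c5 LD2_c4 LD3_c54)) :=
  Lre_f IH (LK LD1_c10 LD2_c0 LD3_c54) (LK LD1_c5 LD2_c4 LD3_c54) Lrfl Lrfl
theorem f171608 : Led Lsl_ft (LP (LK LD1_c4 LD2_c1 LD3_c20)) = (LP (LK LD1_c8 LD2_c3 LD3_c22)) :=
  Lre_f IH (LK LD1_c4 LD2_c1 LD3_c20) (LK LD1_c8 LD2_c3 LD3_c22) Lrfl Lrfl
theorem f192611 : Led Lsl_df (LP (LK LD1_c10 LD2_c0 LD3_c54)) = (LP (LK LD1_c8 LD2_c3 LD3_c22)) :=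
  Lgr Lrot78 (Lpr_ft (f192610 IH) (Lpr_dt (K15.f192600 IH) (Lpr_ft (f171608 IH) (Lpn (LP (LK LD1_c8 LD2_c3 LD3_c22))))))
theorem f273289 : Led Lsl_ef (LP (LK LD1_c8 LD2_c41 LD3_c25)) = (LP (LK LD1_c10 LD2_c0 LD3_c54)) :=
  Lgr Lrot73 (Lpr_dt (f260581 IH) (Lpr_et (f269846 IH) (Lpe (K15.f229750 IH) (Lpr_et (f273283 IH) (Lpe (f192611 IH) (Lpn (LP (LK LD1_c10 LD2_c0 LD3_c54))))))))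
theorem f273291 : Led Lsl_et (LP (LK LD1_c8 LD2_c41 LD3_c25)) = (LP (LK LD1_c10 LD2_c0 LD3_c54)) :=
  Lgr Lrot87 (Lpr_ef (f273289 IH) (Lpn (LP (LK LD1_c10 LD2_c0 LD3_c54))))
theorem f275721 : Led Lsl_et (LP (LK LD1_c10 LD2_c15 LD3_c48)) = (LP (LK LD1_c5 LD2_c23 LD3_c30)) :=
  Lgr Lrot87 (Lpr_ef (f275717 IH) (Lpn (LP (LK LD1_c5 LD2_c23 LD3_c30))))
theorem f275729 : Led Lsl_at (LP (LK LD1_c10 LD2_c0 LD3_c54)) = (LP (LK LD1_c10 LD2_c15 LD3_c48)) :=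
  Lgr Lrot80 (Lpe (f273291 IH) (Lpr_af (f275725 IH) (Lpe (f275721 IH) (Lpn (LP (LK LD1_c10 LD2_c15 LD3_c48))))))
theorem f275903 : Led Lsl_at (LP (LK LD1_c8 LD2_c4 LD3_c48)) = (LP (LK LD1_c8 LD2_c3 LD3_c22)) :=
  Lgr Lrot51 (Lpr_df (f275865 IH) (Lpe (f275729 IH) (Lpr_df (f192611 IH) (Lpn (LP (LK LD1_c8 LD2_c3 LD3_c22))))))
theorem f184742 : Led Lsl_et (LP (LK LD1_c4 LD2_c2 LD3_c5)) = (LP (LK LD1_c1 LD2_c57 LD3_c61)) :=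
  Lre_e IH (LK LD1_c4 LD2_c2 LD3_c5) (LK LD1_c1 LD2_c57 LD3_c61) Lrfl Lrfl
theorem f184697 : Led Lsl_ft (LP (LK LD1_c8 LD2_c4 LD3_c48)) = (LP (LK LD1_c4 LD2_c2 LD3_c5)) :=
  Lre_f IH (LK LD1_c8 LD2_c4 LD3_c48) (LK LD1_c4 LD2_c2 LD3_c5) Lrfl Lrfl
theorem f182011 : Led Lsl_et (LP (LK LD1_c1 LD2_c57 LD3_c29)) = (LP (LK LD1_c4 LD2_c1 LD3_c13)) :=
  Lre_e IH (LK LD1_c1 LD2_c57 LD3_c29) (LK LD1_c4 LD2_c1 LD3_c13) Lrfl Lrfl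
theorem f273255 : Led Lsl_ef (LP (LK LD1_c8 LD2_c4 LD3_c48)) = (LP (LK LD1_c8 LD2_c3 LD3_c13)) :=
  Lgr Lrot21 (Lpr_ft (f184697 IH) (Lpr_et (f184742 IH) (Lpr_ft (f273251 IH) (Lpr_et (f182011 IH) (Lpr_ft (f193019 IH) (Lpn (LP (LK LD1_c8 LD2_c3 LD3_c13))))))))
theorem f229222 : Led Lsl_ft (LP (LK LD1_c8 LD2_c4 LD3_c41)) = (LP (LK LD1_c4 LD2_c1 LD3_c61)) :=
  Lre_f IH (LK LD1_c8 LD2_c4 LD3_c41) (LK LD1_c4 LD2_c1 LD3_c61) Lrfl Lrfl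
theorem f273275 : Led Lsl_ef (LP (LK LD1_c8 LD2_c4 LD3_c41)) = (LP (LK LD1_c8 LD2_c3 LD3_c22)) :=
  Lgr Lrot21 (Lpr_ft (f229222 IH) (Lpr_et (K15.f229148 IH) (Lpr_ft (f273267 IH) (Lpr_et (K15.f171550 IH) (Lpr_ft (f171608 IH) (Lpn (LP (LK LD1_c8 LD2_c3 LD3_c22))))))))
theorem f275909 : Led Lsl_af (LP (LK LD1_c8 LD2_c3 LD3_c13)) = (LP (LK LD1_c8 LD2_c4 LD3_c41)) :=
  Lgr Lrot50 (Lpe (f273255 IH) (Lpr_at (f275903 IH) (Lpe (f273275 IH) (Lpn (LP (LK LD1_c8 LD2_c4 LD3_c41))))))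
theorem f193034 : Led Lsl_ct (LP (LK LD1_c8 LD2_c3 LD3_c13)) = (LP (LK LD1_c15 LD2_c9 LD3_c47)) :=
  Lre_c IH (LK LD1_c8 LD2_c3 LD3_c13) (LK LD1_c15 LD2_c9 LD3_c47) Lrfl Lrfl
theorem f275914 : Led Lsl_at (LP (LK LD1_c15 LD2_c9 LD3_c47)) = (LP (LK LD1_c15 LD2_c12 LD3_c37)) :=
  Lgr Lrot107 (Lpe (f193034 IH) (Lpr_af (f275909 IH) (Lpe (f229163 IH) (Lpn (LP (LK LD1_c15 LD2_c12 LD3_c37))))))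
theorem f184706 : Led Lsl_ct (LP (LK LD1_c15 LD2_c12 LD3_c47)) = (LP (LK LD1_c8 LD2_c4 LD3_c48)) :=
  Lre_c IH (LK LD1_c15 LD2_c12 LD3_c47) (LK LD1_c8 LD2_c4 LD3_c48) Lrfl Lrfl
theorem f275907 : Led Lsl_af (LP (LK LD1_c15 LD2_c12 LD3_c47)) = (LP (LK LD1_c15 LD2_c9 LD3_c61)) :=
  Lgr Lrot68 (Lpr_ct (f184706 IH) (Lpr_at (f275903 IH) (Lpr_ct (f192627 IH) (Lpn (LP (LK LD1_c15 LD2_c9 LD3_c61))))))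
theorem f275961 : Led Lsl_ef (LP (LK LD1_c15 LD2_c9 LD3_c47)) = (LP (LK LD1_c15 LD2_c12 LD3_c47)) :=
  Lgr Lrot20 (Lpr_at (f275914 IH) (Lpr_et (f273299 IH) (Lpe (f275907 IH) (Lpn (LP (LK LD1_c15 LD2_c12 LD3_c47))))))
theorem f275963 : Led Lsl_et (LP (LK LD1_c15 LD2_c9 LD3_c47)) = (LP (LK LD1_c15 LD2_c12 LD3_c47)) :=
  Lgr Lrot87 (Lpr_ef (f275961 IH) (Lpn (LP (LK LD1_c15 LD2_c12 LD3_c47))))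
theorem f275916 : Led Lsl_at (LP (LK LD1_c4 LD2_c1 LD3_c13)) = (LP (LK LD1_c4 LD2_c1 LD3_c61)) :=
  Lgr Lrot66 (Lpe (f193037 IH) (Lpr_af (f275909 IH) (Lpe (K15.f229157 IH) (Lpn (LP (LK LD1_c4 LD2_c1 LD3_c61))))))
theorem f193052 : Led Lsl_ct (LP (LK LD1_c8 LD2_c3 LD3_c10)) = (LP (LK LD1_c4 LD2_c1 LD3_c13)) :=
  Lre_c IH (LK LD1_c8 LD2_c3 LD3_c10) (LK LD1_c4 LD2_c1 LD3_c13) Lrfl Lrfl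
theorem f229153 : Led Lsl_ct (LP (LK LD1_c4 LD2_c1 LD3_c61)) = (LP (LK LD1_c8 LD2_c4 LD3_c38)) :=
  Lre_c IH (LK LD1_c4 LD2_c1 LD3_c61) (LK LD1_c8 LD2_c4 LD3_c38) Lrfl Lrfl
theorem f275920 : Led Lsl_af (LP (LK LD1_c8 LD2_c3 LD3_c10)) = (LP (LK LD1_c8 LD2_c4 LD3_c38)) :=
  Lgr Lrot68 (Lpr_ct (f193052 IH) (Lpr_at (f275916 IH) (Lpr_ct (f229153 IH) (Lpn (LP (LK LD1_c8 LD2_c4 LD3_c38))))))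
theorem f216775 : Led Lsl_dt (LP (LK LD1_c8 LD2_c3 LD3_c10)) = (LP (LK LD1_c15 LD2_c9 LD3_c46)) :=
  Lre_d IH (LK LD1_c8 LD2_c3 LD3_c10) (LK LD1_c15 LD2_c9 LD3_c46) Lrfl Lrfl
theorem f229135 : Led Lsl_dt (LP (LK LD1_c15 LD2_c12 LD3_c36)) = (LP (LK LD1_c8 LD2_c4 LD3_c38)) :=
  Lre_d IH (LK LD1_c15 LD2_c12 LD3_c36) (LK LD1_c8 LD2_c4 LD3_c38) Lrfl Lrfl
theorem f275930 : Led Lsl_at (LP (LK LD1_c15 LD2_c9 LD3_c46)) = (LP (LK LD1_c15 LD2_c12 LD3_c36)) :=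
  Lgr Lrot51 (Lpe (f216775 IH) (Lpr_af (f275920 IH) (Lpe (f229135 IH) (Lpn (LP (LK LD1_c15 LD2_c12 LD3_c36))))))
theorem f216771 : Led Lsl_ft (LP (LK LD1_c24 LD2_c58 LD3_c51)) = (LP (LK LD1_c15 LD2_c9 LD3_c46)) :=
  Lre_f IH (LK LD1_c24 LD2_c58 LD3_c51) (LK LD1_c15 LD2_c9 LD3_c46) Lrfl Lrfl
theorem f229856 : Led Lsl_ft (LP (LK LD1_c15 LD2_c12 LD3_c36)) = (LP (LK LD1_c25 LD2_c1 LD3_c36)) :=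
  Lre_f IH (LK LD1_c15 LD2_c12 LD3_c36) (LK LD1_c25 LD2_c1 LD3_c36) Lrfl Lrfl
theorem f275951 : Led Lsl_af (LP (LK LD1_c24 LD2_c58 LD3_c51)) = (LP (LK LD1_c25 LD2_c1 LD3_c36)) :=
  Lgr Lrot45 (Lpr_ft (f216771 IH) (Lpr_at (f275930 IH) (Lpr_ft (f229856 IH) (Lpn (LP (LK LD1_c25 LD2_c1 LD3_c36))))))
theorem f275953 : Led Lsl_at (LP (LK LD1_c24 LD2_c58 LD3_c51)) = (LP (LK LD1_c25 LD2_c1 LD3_c36)) :=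
  Lgr Lrot100 (Lpr_af (f275951 IH) (Lpn (LP (LK LD1_c25 LD2_c1 LD3_c36))))
theorem f216794 : Led Lsl_dt (LP (LK LD1_c15 LD2_c9 LD3_c47)) = (LP (LK LD1_c24 LD2_c58 LD3_c51)) :=
  Lre_d IH (LK LD1_c15 LD2_c9 LD3_c47) (LK LD1_c24 LD2_c58 LD3_c51) Lrfl Lrfl
theorem f229167 : Led Lsl_dt (LP (LK LD1_c25 LD2_c1 LD3_c36)) = (LP (LK LD1_c15 LD2_c12 LD3_c37)) :=
  Lre_d IH (LK LD1_c25 LD2_c1 LD3_c36) (LK LD1_c15 LD2_c12 LD3_c37) Lrfl Lrfl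
theorem f275955 : Led Lsl_af (LP (LK LD1_c15 LD2_c9 LD3_c47)) = (LP (LK LD1_c15 LD2_c12 LD3_c37)) :=
  Lgr Lrot117 (Lpr_dt (f216794 IH) (Lpr_at (f275953 IH) (Lpr_dt (f229167 IH) (Lpn (LP (LK LD1_c15 LD2_c12 LD3_c37))))))
theorem f275966 : Led Lsl_af (LP (LK LD1_c15 LD2_c9 LD3_c61)) = (LP (LK LD1_c15 LD2_c12 LD3_c47)) :=
  Lgr Lrot50 (Lpe (f273287 IH) (Lpe (f275955 IH) (Lpr_et (f275963 IH) (Lpn (LP (LK LD1_c15 LD2_c12 LD3_c47))))))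
theorem f273307 : Led Lsl_ft (LP (LK LD1_c15 LD2_c9 LD3_c61)) = (LP (LK LD1_c8 LD2_c3 LD3_c19)) :=
  Lre_f IH (LK LD1_c15 LD2_c9 LD3_c61) (LK LD1_c8 LD2_c3 LD3_c19) Lrfl Lrfl
theorem f275965 : Led Lsl_ft (LP (LK LD1_c8 LD2_c4 LD3_c45)) = (LP (LK LD1_c15 LD2_c12 LD3_c47)) :=
  Lre_f IH (LK LD1_c8 LD2_c4 LD3_c45) (LK LD1_c15 LD2_c12 LD3_c47) Lrfl Lrfl
theorem f275970 : Led Lsl_at (LP (LK LD1_c8 LD2_c3 LD3_c19)) = (LP (LK LD1_c8 LD2_c4 LD3_c45)) :=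
  Lgr Lrot66 (Lpe (f273307 IH) (Lpr_af (f275966 IH) (Lpe (f275965 IH) (Lpn (LP (LK LD1_c8 LD2_c4 LD3_c45))))))
theorem f33856 : Led Lsl_et (LP (LK LD1_c1 LD2_c57 LD3_c53)) = (LP (LK LD1_c2 LD2_c28 LD3_c10)) :=
  Lgr Lrot87 (Lpr_ef (K0.f33842 IH) (Lpn (LP (LK LD1_c2 LD2_c28 LD3_c10))))
theorem f242119 : Led Lsl_dt (LP (LK LD1_c4 LD2_c2 LD3_c4)) = (LP (LK LD1_c8 LD2_c4 LD3_c33)) :=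
  Lgr Lrot42 (Lpr_df (K13.f242112 IH) (Lpn (LP (LK LD1_c8 LD2_c4 LD3_c33))))
theorem f242121 : Led Lsl_et (LP (LK LD1_c4 LD2_c2 LD3_c4)) = (LP (LK LD1_c8 LD2_c4 LD3_c45)) :=
  Lre_e IH (LK LD1_c4 LD2_c2 LD3_c4) (LK LD1_c8 LD2_c4 LD3_c45) Lrfl Lrfl
theorem f246839 : Led Lsl_et (LP (LK LD1_c5 LD2_c1 LD3_c5)) = (LP (LK LD1_c9 LD2_c52 LD3_c38)) :=
  Lre_e IH (LK LD1_c5 LD2_c1 LD3_c5) (LK LD1_c9 LD2_c52 LD3_c38) Lrfl Lrfl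
theorem f246840 : Led Lsl_gf (LP (LK LD1_c8 LD2_c4 LD3_c45)) = (LP (LK LD1_c9 LD2_c52 LD3_c38)) :=
  Lgr Lrot141 (Lpe (f242121 IH) (Lpr_dt (f242119 IH) (Lpr_gt (K13.f33705 IH) (Lpe (K0.f33699 IH) (Lpr_et (f33856 IH) (Lpr_gt (K10.f33365 IH) (Lpr_dt (K15.f33387 IH) (Lpr_gt (K15.f246832 IH) (Lpe (K15.f246825 IH) (Lpr_et (f246839 IH) (Lpn (LP (LK LD1_c9 LD2_c52 LD3_c38)))))))))))))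
theorem f275980 : Led Lsl_gt (LP (LK LD1_c15 LD2_c9 LD3_c61)) = (LP (LK LD1_c9 LD2_c52 LD3_c38)) :=
  Lgr Lrot5 (Lpr_ft (f273307 IH) (Lpr_at (f275970 IH) (Lpr_gf (f246840 IH) (Lpn (LP (LK LD1_c9 LD2_c52 LD3_c38))))))
theorem f273520 : Led Lsl_bf (LP (LK LD1_c10 LD2_c17 LD3_c1)) = (LP (LK LD1_c8 LD2_c3 LD3_c22)) :=
  Lgr Lrot96 (Lpr_et (f273505 IH) (Lpe (f229161 IH) (Lpr_et (f273283 IH) (Lpn (LP (LK LD1_c8 LD2_c3 LD3_c22))))))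
theorem f246843 : Led Lsl_ct (LP (LK LD1_c5 LD2_c1 LD3_c6)) = (LP (LK LD1_c9 LD2_c52 LD3_c38)) :=
  Lre_c IH (LK LD1_c5 LD2_c1 LD3_c6) (LK LD1_c9 LD2_c52 LD3_c38) Lrfl Lrfl
theorem f171285 : Led Lsl_bt (LP (LK LD1_c1 LD2_c56 LD3_c4)) = (LP (LK LD1_c3 LD2_c58 LD3_c37)) :=
  Lre_b IH (LK LD1_c1 LD2_c56 LD3_c4) (LK LD1_c3 LD2_c58 LD3_c37) Lrfl Lrfl
theorem f171275 : Led Lsl_df (LP (LK LD1_c1 LD2_c56 LD3_c4)) = (LP (LK LD1_c2 LD2_c28 LD3_c48)) :=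
  Lgr Lrot38 (Lpr_dt (K14.f171271 IH) (Lpn (LP (LK LD1_c2 LD2_c28 LD3_c48))))
theorem f246883 : Led Lsl_bf (LP (LK LD1_c2 LD2_c28 LD3_c48)) = (LP (LK LD1_c5 LD2_c1 LD3_c6)) :=
  Lgr Lrot93 (Lpe (f171275 IH) (Lpr_bt (f171285 IH) (Lpr_dt (K14.f246856 IH) (Lpn (LP (LK LD1_c5 LD2_c1 LD3_c6))))))
theorem f171249 : Led Lsl_ct (LP (LK LD1_c1 LD2_c11 LD3_c42)) = (LP (LK LD1_c2 LD2_c29 LD3_c7)) :=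
  Lre_c IH (LK LD1_c1 LD2_c11 LD3_c42) (LK LD1_c2 LD2_c29 LD3_c7) Lrfl Lrfl
theorem f165836 : Led Lsl_gt (LP (LK LD1_c2 LD2_c29 LD3_c7)) = (LP (LK LD1_c5 LD2_c3 LD3_c10)) :=
  Lre_g IH (LK LD1_c2 LD2_c29 LD3_c7) (LK LD1_c5 LD2_c3 LD3_c10) Lrfl Lrfl
theorem f275983 : Led Lsl_ct (LP (LK LD1_c2 LD2_c33 LD3_c31)) = (LP (LK LD1_c5 LD2_c3 LD3_c10)) :=
  Lgr Lrot63 (Lpr_bt (K15.f261809 IH) (Lpr_gt (f261839 IH) (Lpr_bf (f273520 IH) (Lpr_ct (f192627 IH) (Lpr_gt (f275980 IH) (Lpe (f246843 IH) (Lpe (f246883 IH) (Lpr_gt (K14.f250340 IH) (Lpr_ct (f171249 IH) (Lpr_gt (f165836 IH) (Lpn (LP (LK LD1_c5 LD2_c3 LD3_c10)))))))))))))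
theorem f185885 : Led Lsl_ct (LP (LK LD1_c2 LD2_c42 LD3_c16)) = (LP (LK LD1_c1 LD2_c17 LD3_c43)) :=
  Lre_c IH (LK LD1_c2 LD2_c42 LD3_c16) (LK LD1_c1 LD2_c17 LD3_c43) Lrfl Lrfl
theorem f275995 : Led Lsl_ff (LP (LK LD1_c2 LD2_c42 LD3_c16)) = (LP (LK LD1_c5 LD2_c3 LD3_c10)) :=
  Lgr Lrot23 (Lpr_ct (f185885 IH) (Lpe (K15.f261823 IH) (Lpr_ct (f275983 IH) (Lpn (LP (LK LD1_c5 LD2_c3 LD3_c10))))))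
theorem f276007 : Led Lsl_ft (LP (LK LD1_c2 LD2_c42 LD3_c16)) = (LP (LK LD1_c5 LD2_c3 LD3_c10)) :=
  Lgr Lrot48 (Lpr_ff (f275995 IH) (Lpn (LP (LK LD1_c5 LD2_c3 LD3_c10))))
theorem f198604 : Led Lsl_ct (LP (LK LD1_c5 LD2_c6 LD3_c23)) = (LP (LK LD1_c2 LD2_c30 LD3_c27)) :=
  Lre_c IH (LK LD1_c5 LD2_c6 LD3_c23) (LK LD1_c2 LD2_c30 LD3_c27) Lrfl Lrfl
theorem f275985 : Led Lsl_af (LP (LK LD1_c5 LD2_c6 LD3_c23)) = (LP (LK LD1_c5 LD2_c3 LD3_c10)) :=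
  Lgr Lrot68 (Lpr_ct (f198604 IH) (Lpe (K15.f261803 IH) (Lpr_ct (f275983 IH) (Lpn (LP (LK LD1_c5 LD2_c3 LD3_c10))))))
theorem f184998 : Led Lsl_ct (LP (LK LD1_c4 LD2_c29 LD3_c48)) = (LP (LK LD1_c2 LD2_c11 LD3_c55)) :=
  Lre_c IH (LK LD1_c4 LD2_c29 LD3_c48) (LK LD1_c2 LD2_c11 LD3_c55) Lrfl Lrfl
theorem f198601 : Led Lsl_ct (LP (LK LD1_c2 LD2_c30 LD3_c27)) = (LP (LK LD1_c5 LD2_c6 LD3_c23)) :=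
  Lre_c IH (LK LD1_c2 LD2_c30 LD3_c27) (LK LD1_c5 LD2_c6 LD3_c23) Lrfl Lrfl
theorem f261799 : Led Lsl_ff (LP (LK LD1_c4 LD2_c29 LD3_c48)) = (LP (LK LD1_c5 LD2_c6 LD3_c23)) :=
  Lgr Lrot23 (Lpr_ct (f184998 IH) (Lpr_ft (K15.f261793 IH) (Lpr_ct (f198601 IH) (Lpn (LP (LK LD1_c5 LD2_c6 LD3_c23))))))
theorem f276009 : Led Lsl_af (LP (LK LD1_c2 LD2_c42 LD3_c16)) = (LP (LK LD1_c4 LD2_c29 LD3_c48)) :=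
  Lgr Lrot45 (Lpr_ft (f276007 IH) (Lpe (f275985 IH) (Lpe (f261799 IH) (Lpn (LP (LK LD1_c4 LD2_c29 LD3_c48))))))
theorem f198768 : Led Lsl_ct (LP (LK LD1_c1 LD2_c17 LD3_c43)) = (LP (LK LD1_c2 LD2_c42 LD3_c16)) :=
  Lre_c IH (LK LD1_c1 LD2_c17 LD3_c43) (LK LD1_c2 LD2_c42 LD3_c16) Lrfl Lrfl
theorem f212146 : Led Lsl_ef (LP (LK LD1_c2 LD2_c30 LD3_c3)) = (LP (LK LD1_c2 LD2_c42 LD3_c16)) :=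
  Lgr Lrot28 (Lpr_ct (K10.f169683 IH) (Lpr_et (K15.f212140 IH) (Lpr_ct (f198768 IH) (Lpn (LP (LK LD1_c2 LD2_c42 LD3_c16))))))
theorem f250055 : Led Lsl_et (LP (LK LD1_c2 LD2_c28 LD3_c50)) = (LP (LK LD1_c4 LD2_c29 LD3_c48)) :=
  Lgr Lrot158 (Lpr_cf (K14.f250049 IH) (Lpe (K10.f184992 IH) (Lpe (f184998 IH) (Lpn (LP (LK LD1_c4 LD2_c29 LD3_c48))))))
theorem f276048 : Led Lsl_at (LP (LK LD1_c2 LD2_c30 LD3_c3)) = (LP (LK LD1_c2 LD2_c28 LD3_c50)) :=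
  Lgr Lrot80 (Lpr_ef (f212146 IH) (Lpr_af (f276009 IH) (Lpe (f250055 IH) (Lpn (LP (LK LD1_c2 LD2_c28 LD3_c50))))))
theorem f276058 : Led Lsl_ff (LP (LK LD1_c2 LD2_c30 LD3_c3)) = (LP (LK LD1_c2 LD2_c28 LD3_c49)) :=
  Lgr Lrot30 (Lpr_at (f276048 IH) (Lpr_ft (K15.f264237 IH) (Lpe (K15.f264250 IH) (Lpn (LP (LK LD1_c2 LD2_c28 LD3_c49))))))
theorem f276066 : Led Lsl_ft (LP (LK LD1_c2 LD2_c30 LD3_c3)) = (LP (LK LD1_c2 LD2_c28 LD3_c49)) :=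
  Lgr Lrot48 (Lpr_ff (f276058 IH) (Lpn (LP (LK LD1_c2 LD2_c28 LD3_c49))))
theorem f264284 : Led Lsl_ft (LP (LK LD1_c5 LD2_c2 LD3_c30)) = (LP (LK LD1_c9 LD2_c55 LD3_c54)) :=
  Lre_f IH (LK LD1_c5 LD2_c2 LD3_c30) (LK LD1_c9 LD2_c55 LD3_c54) Lrfl Lrfl
theorem f276072 : Led Lsl_ef (LP (LK LD1_c5 LD2_c3 LD3_c10)) = (LP (LK LD1_c9 LD2_c55 LD3_c54)) :=
  Lgr Lrot21 (Lpe (f275995 IH) (Lpe (f212146 IH) (Lpr_ft (f276066 IH) (Lpr_et (K15.f212099 IH) (Lpr_ft (f264284 IH) (Lpn (LP (LK LD1_c9 LD2_c55 LD3_c54))))))))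
theorem f264268 : Led Lsl_ft (LP (LK LD1_c9 LD2_c55 LD3_c54)) = (LP (LK LD1_c5 LD2_c2 LD3_c30)) :=
  Lre_f IH (LK LD1_c9 LD2_c55 LD3_c54) (LK LD1_c5 LD2_c2 LD3_c30) Lrfl Lrfl
theorem f264247 : Led Lsl_ft (LP (LK LD1_c5 LD2_c5 LD3_c33)) = (LP (LK LD1_c10 LD2_c2 LD3_c18)) :=
  Lre_f IH (LK LD1_c5 LD2_c5 LD3_c33) (LK LD1_c10 LD2_c2 LD3_c18) Lrfl Lrfl
theorem f264269 : Led Lsl_af (LP (LK LD1_c9 LD2_c55 LD3_c54)) = (LP (LK LD1_c10 LD2_c2 LD3_c18)) :=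
  Lgr Lrot45 (Lpr_ft (f264268 IH) (Lpr_at (K15.f264259 IH) (Lpr_ft (f264247 IH) (Lpn (LP (LK LD1_c10 LD2_c2 LD3_c18))))))
theorem f276074 : Led Lsl_et (LP (LK LD1_c5 LD2_c6 LD3_c23)) = (LP (LK LD1_c10 LD2_c2 LD3_c18)) :=
  Lgr Lrot123 (Lpr_af (f275985 IH) (Lpr_ef (f276072 IH) (Lpr_af (f264269 IH) (Lpn (LP (LK LD1_c10 LD2_c2 LD3_c18))))))
theorem f276099 : Led Lsl_ef (LP (LK LD1_c5 LD2_c6 LD3_c23)) = (LP (LK LD1_c10 LD2_c2 LD3_c18)) :=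
  Lgr Lrot88 (Lpr_et (f276074 IH) (Lpn (LP (LK LD1_c10 LD2_c2 LD3_c18))))
theorem f169488 : Led Lsl_ct (LP (LK LD1_c5 LD2_c5 LD3_c36)) = (LP (LK LD1_c10 LD2_c2 LD3_c18)) :=
  Lre_c IH (LK LD1_c5 LD2_c5 LD3_c36) (LK LD1_c10 LD2_c2 LD3_c18) Lrfl Lrfl
theorem f276115 : Led Lsl_et (LP (LK LD1_c2 LD2_c30 LD3_c27)) = (LP (LK LD1_c5 LD2_c5 LD3_c36)) :=
  Lgr Lrot158 (Lpe (f198604 IH) (Lpr_ef (f276099 IH) (Lpe (f169488 IH) (Lpn (LP (LK LD1_c5 LD2_c5 LD3_c36))))))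
theorem f276144 : Led Lsl_gt (LP (LK LD1_c5 LD2_c12 LD3_c11)) = (LP (LK LD1_c5 LD2_c5 LD3_c36)) :=
  Lgr Lrot131 (Lpe (K15.f212108 IH) (Lpr_dt (K15.f32233 IH) (Lpe (K15.f32227 IH) (Lpe (K1.f32194 IH) (Lpr_gf (K15.f48917 IH) (Lpr_ef (K15.f212112 IH) (Lpr_dt (K15.f198760 IH) (Lpe (K15.f261771 IH) (Lpr_df (K15.f261784 IH) (Lpr_et (f276115 IH) (Lpn (LP (LK LD1_c5 LD2_c5 LD3_c36)))))))))))))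
theorem f276146 : Led Lsl_gf (LP (LK LD1_c2 LD2_c11 LD3_c32)) = (LP (LK LD1_c2 LD2_c59 LD3_c6)) :=
  Lgr Lrot134 (Lpr_df (K14.f254998 IH) (Lpr_et (K14.f32815 IH) (Lpe (K9.f32807 IH) (Lpe (K1.f32223 IH) (Lpr_dt (K1.f32194 IH) (Lpr_gt (K15.f32227 IH) (Lpe (K15.f32233 IH) (Lpr_et (K15.f212108 IH) (Lpr_gt (f276144 IH) (Lpe (K9.f169489 IH) (Lpn (LP (LK LD1_c2 LD2_c59 LD3_c6)))))))))))))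
theorem f267719 : Led Lsl_et (LP (LK LD1_c0 LD2_c35 LD3_c37)) = (LP (LK LD1_c1 LD2_c17 LD3_c0)) :=
  Lre_e IH (LK LD1_c0 LD2_c35 LD3_c37) (LK LD1_c1 LD2_c17 LD3_c0) Lrfl Lrfl
theorem f197589 : Led Lsl_et (LP (LK LD1_c2 LD2_c11 LD3_c32)) = (LP (LK LD1_c1 LD2_c2 LD3_c44)) :=
  Lre_e IH (LK LD1_c2 LD2_c11 LD3_c32) (LK LD1_c1 LD2_c2 LD3_c44) Lrfl Lrfl
theorem f267720 : Led Lsl_at (LP (LK LD1_c1 LD2_c17 LD3_c0)) = (LP (LK LD1_c2 LD2_c11 LD3_c32)) :=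
  Lgr Lrot80 (Lpe (f267719 IH) (Lpr_af (K15.f267711 IH) (Lpe (f197589 IH) (Lpn (LP (LK LD1_c2 LD2_c11 LD3_c32))))))
theorem f276148 : Led Lsl_ff (LP (LK LD1_c1 LD2_c17 LD3_c0)) = (LP (LK LD1_c2 LD2_c39 LD3_c36)) :=
  Lgr Lrot52 (Lpr_at (f267720 IH) (Lpr_gf (f276146 IH) (Lpe (K15.f264354 IH) (Lpn (LP (LK LD1_c2 LD2_c39 LD3_c36))))))
theorem f276193 : Led Lsl_ft (LP (LK LD1_c1 LD2_c17 LD3_c0)) = (LP (LK LD1_c2 LD2_c39 LD3_c36)) :=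
  Lgr Lrot48 (Lpr_ff (f276148 IH) (Lpn (LP (LK LD1_c2 LD2_c39 LD3_c36))))
theorem f267861 : Led Lsl_df (LP (LK LD1_c2 LD2_c39 LD3_c36)) = (LP (LK LD1_c2 LD2_c35 LD3_c54)) :=
  Lgr Lrot38 (Lpr_dt (K15.f267859 IH) (Lpn (LP (LK LD1_c2 LD2_c35 LD3_c54))))
theorem f169353 : Led Lsl_ft (LP (LK LD1_c2 LD2_c5 LD3_c57)) = (LP (LK LD1_c0 LD2_c59 LD3_c57)) :=
  Lre_f IH (LK LD1_c2 LD2_c5 LD3_c57) (LK LD1_c0 LD2_c59 LD3_c57) Lrfl Lrfl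
theorem f231034 : Led Lsl_ft (LP (LK LD1_c0 LD2_c58 LD3_c16)) = (LP (LK LD1_c2 LD2_c2 LD3_c46)) :=
  Lre_f IH (LK LD1_c0 LD2_c58 LD3_c16) (LK LD1_c2 LD2_c2 LD3_c46) Lrfl Lrfl
theorem f231035 : Led Lsl_ef (LP (LK LD1_c2 LD2_c5 LD3_c57)) = (LP (LK LD1_c2 LD2_c2 LD3_c46)) :=
  Lgr Lrot21 (Lpr_ft (f169353 IH) (Lpr_et (K10.f167621 IH) (Lpr_ft (K12.f231026 IH) (Lpr_et (K13.f528 IH) (Lpr_ft (f231034 IH) (Lpn (LP (LK LD1_c2 LD2_c2 LD3_c46))))))))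
theorem f267863 : Led Lsl_et (LP (LK LD1_c2 LD2_c39 LD3_c36)) = (LP (LK LD1_c4 LD2_c10 LD3_c61)) :=
  Lgr Lrot71 (Lpr_df (f267861 IH) (Lpe (K15.f267845 IH) (Lpe (K10.f169345 IH) (Lpr_ef (f231035 IH) (Lpe (K15.f267656 IH) (Lpn (LP (LK LD1_c4 LD2_c10 LD3_c61))))))))
theorem f276201 : Led Lsl_ff (LP (LK LD1_c0 LD2_c35 LD3_c37)) = (LP (LK LD1_c0 LD2_c58 LD3_c17)) :=
  Lgr Lrot72 (Lpr_et (f267719 IH) (Lpr_ft (f276193 IH) (Lpr_et (f267863 IH) (Lpr_ft (K15.f267677 IH) (Lpr_et (K13.f179096 IH) (Lpn (LP (LK LD1_c0 LD2_c58 LD3_c17))))))))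
theorem f276205 : Led Lsl_ft (LP (LK LD1_c1 LD2_c16 LD3_c61)) = (LP (LK LD1_c2 LD2_c2 LD3_c47)) :=
  Lgr Lrot4 (Lpe (K12.f179306 IH) (Lpr_ff (f276201 IH) (Lpe (K13.f178878 IH) (Lpn (LP (LK LD1_c2 LD2_c2 LD3_c47))))))
theorem f276211 : Led Lsl_ff (LP (LK LD1_c1 LD2_c16 LD3_c61)) = (LP (LK LD1_c2 LD2_c2 LD3_c47)) :=
  Lgr Lrot3 (Lpr_ft (f276205 IH) (Lpn (LP (LK LD1_c2 LD2_c2 LD3_c47))))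
theorem f267715 : Led Lsl_at (LP (LK LD1_c1 LD2_c16 LD3_c61)) = (LP (LK LD1_c2 LD2_c11 LD3_c31)) :=
  Lgr Lrot107 (Lpe (K12.f179306 IH) (Lpr_af (K15.f267711 IH) (Lpe (K12.f174517 IH) (Lpn (LP (LK LD1_c2 LD2_c11 LD3_c31))))))
theorem f276219 : Led Lsl_gf (LP (LK LD1_c2 LD2_c11 LD3_c31)) = (LP (LK LD1_c1 LD2_c3 LD3_c23)) :=
  Lgr Lrot76 (Lpe (f267715 IH) (Lpr_ff (f276211 IH) (Lpr_gt (K12.f183312 IH) (Lpn (LP (LK LD1_c1 LD2_c3 LD3_c23))))))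
theorem f219725 : Led Lsl_bt (LP (LK LD1_c2 LD2_c11 LD3_c1)) = (LP (LK LD1_c1 LD2_c2 LD3_c34)) :=
  Lre_b IH (LK LD1_c2 LD2_c11 LD3_c1) (LK LD1_c1 LD2_c2 LD3_c34) Lrfl Lrfl
theorem f219726 : Led Lsl_ct (LP (LK LD1_c2 LD2_c11 LD3_c1)) = (LP (LK LD1_c4 LD2_c27 LD3_c42)) :=
  Lre_c IH (LK LD1_c2 LD2_c11 LD3_c1) (LK LD1_c4 LD2_c27 LD3_c42) Lrfl Lrfl
theorem f9495 : Led Lsl_ct (LP (LK LD1_c0 LD2_c36 LD3_c55)) = (LP (LK LD1_c0 LD2_c16 LD3_c28)) :=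
  Lre_c IH (LK LD1_c0 LD2_c36 LD3_c55) (LK LD1_c0 LD2_c16 LD3_c28) Lrfl Lrfl
theorem f238305 : Led Lsl_gf (LP (LK LD1_c0 LD2_c28 LD3_c56)) = (LP (LK LD1_c1 LD2_c0 LD3_c42)) :=
  Lgr Lrot143 (Lpr_dt (K12.f174739 IH) (Lpe (K9.f174915 IH) (Lpe (K0.f20233 IH) (Lpe (K9.f178954 IH) (Lpr_df (K9.f20684 IH) (Lpr_gf (K9.f178869 IH) (Lpe (f9495 IH) (Lpr_gt (K13.f238303 IH) (Lpr_dt (K9.f179845 IH) (Lpn (LP (LK LD1_c1 LD2_c0 LD3_c42))))))))))))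
theorem f276231 : Led Lsl_gt (LP (LK LD1_c4 LD2_c27 LD3_c42)) = (LP (LK LD1_c4 LD2_c19 LD3_c44)) :=
  Lgr Lrot65 (Lpe (f219726 IH) (Lpr_bt (f219725 IH) (Lpe (K14.f41731 IH) (Lpe (K14.f225835 IH) (Lpr_ct (K12.f225707 IH) (Lpr_gf (f276219 IH) (Lpe (K12.f175034 IH) (Lpr_gf (f238305 IH) (Lpe (K13.f179861 IH) (Lpr_ct (K13.f179862 IH) (Lpn (LP (LK LD1_c4 LD2_c19 LD3_c44)))))))))))))
theorem f256767 : Led Lsl_at (LP (LK LD1_c1 LD2_c58 LD3_c49)) = (LP (LK LD1_c4 LD2_c3 LD3_c36)) :=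
  Lre_a IH (LK LD1_c1 LD2_c58 LD3_c49) (LK LD1_c4 LD2_c3 LD3_c36) Lrfl Lrfl
theorem f261059 : Led Lsl_af (LP (LK LD1_c4 LD2_c3 LD3_c40)) = (LP (LK LD1_c5 LD2_c36 LD3_c30)) :=
  Lgr Lrot68 (Lpr_ct (K12.f201104 IH) (Lpr_at (f256767 IH) (Lpr_ct (K15.f261057 IH) (Lpn (LP (LK LD1_c5 LD2_c36 LD3_c30))))))
theorem f276238 : Led Lsl_ft (LP (LK LD1_c4 LD2_c27 LD3_c42)) = (LP (LK LD1_c5 LD2_c36 LD3_c30)) :=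
  Lgr Lrot2 (Lpr_gt (f276231 IH) (Lpr_gt (K13.f226786 IH) (Lpr_af (f261059 IH) (Lpn (LP (LK LD1_c5 LD2_c36 LD3_c30))))))
theorem f276271 : Led Lsl_ff (LP (LK LD1_c4 LD2_c27 LD3_c42)) = (LP (LK LD1_c5 LD2_c36 LD3_c30)) :=
  Lgr Lrot3 (Lpr_ft (f276238 IH) (Lpn (LP (LK LD1_c5 LD2_c36 LD3_c30))))
theorem f276280 : Led Lsl_at (LP (LK LD1_c4 LD2_c27 LD3_c42)) = (LP (LK LD1_c4 LD2_c10 LD3_c6)) :=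
  Lgr Lrot26 (Lpr_ff (f276271 IH) (Lpr_gt (K15.f226563 IH) (Lpe (K12.f227982 IH) (Lpn (LP (LK LD1_c4 LD2_c10 LD3_c6))))))
theorem f276252 : Led Lsl_et (LP (LK LD1_c8 LD2_c53 LD3_c17)) = (LP (LK LD1_c4 LD2_c27 LD3_c42)) :=
  Lre_e IH (LK LD1_c8 LD2_c53 LD3_c17) (LK LD1_c4 LD2_c27 LD3_c42) Lrfl Lrfl
theorem f275373 : Led Lsl_et (LP (LK LD1_c4 LD2_c10 LD3_c6)) = (LP (LK LD1_c8 LD2_c20 LD3_c26)) :=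
  Lre_e IH (LK LD1_c4 LD2_c10 LD3_c6) (LK LD1_c8 LD2_c20 LD3_c26) Lrfl Lrfl
theorem f276287 : Led Lsl_af (LP (LK LD1_c8 LD2_c53 LD3_c17)) = (LP (LK LD1_c8 LD2_c20 LD3_c26)) :=
  Lgr Lrot50 (Lpr_et (f276252 IH) (Lpr_at (f276280 IH) (Lpr_et (f275373 IH) (Lpn (LP (LK LD1_c8 LD2_c20 LD3_c26))))))
theorem f231311 : Led Lsl_dt (LP (LK LD1_c8 LD2_c53 LD3_c17)) = (LP (LK LD1_c16 LD2_c37 LD3_c11)) :=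
  Lre_d IH (LK LD1_c8 LD2_c53 LD3_c17) (LK LD1_c16 LD2_c37 LD3_c11) Lrfl Lrfl
theorem f170725 : Led Lsl_dt (LP (LK LD1_c15 LD2_c41 LD3_c57)) = (LP (LK LD1_c8 LD2_c20 LD3_c26)) :=
  Lre_d IH (LK LD1_c15 LD2_c41 LD3_c57) (LK LD1_c8 LD2_c20 LD3_c26) Lrfl Lrfl
theorem f276346 : Led Lsl_at (LP (LK LD1_c16 LD2_c37 LD3_c11)) = (LP (LK LD1_c15 LD2_c41 LD3_c57)) :=
  Lgr Lrot51 (Lpe (f231311 IH) (Lpr_af (f276287 IH) (Lpe (f170725 IH) (Lpn (LP (LK LD1_c15 LD2_c41 LD3_c57))))))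
theorem f276352 : Led Lsl_bt (LP (LK LD1_c26 LD2_c34 LD3_c23)) = (LP (LK LD1_c16 LD2_c37 LD3_c11)) :=
  Lre_b IH (LK LD1_c26 LD2_c34 LD3_c23) (LK LD1_c16 LD2_c37 LD3_c11) Lrfl Lrfl
theorem f276353 : Led Lsl_at (LP (LK LD1_c32 LD2_c11 LD3_c0)) = (LP (LK LD1_c26 LD2_c34 LD3_c23)) :=
  Lre_a IH (LK LD1_c32 LD2_c11 LD3_c0) (LK LD1_c26 LD2_c34 LD3_c23) Lrfl Lrfl
theorem f276354 : Led Lsl_bt (LP (LK LD1_c15 LD2_c41 LD3_c57)) = (LP (LK LD1_c25 LD2_c37 LD3_c34)) :=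
  Lre_b IH (LK LD1_c15 LD2_c41 LD3_c57) (LK LD1_c25 LD2_c37 LD3_c34) Lrfl Lrfl
theorem f170748 : Led Lsl_at (LP (LK LD1_c25 LD2_c37 LD3_c34)) = (LP (LK LD1_c31 LD2_c56 LD3_c59)) :=
  Lre_a IH (LK LD1_c25 LD2_c37 LD3_c34) (LK LD1_c31 LD2_c56 LD3_c59) Lrfl Lrfl
theorem f276355 : Led Lsl_bf (LP (LK LD1_c32 LD2_c11 LD3_c0)) = (LP (LK LD1_c31 LD2_c56 LD3_c59)) :=
  Lgr Lrot81 (Lpr_at (f276353 IH) (Lpr_bt (f276352 IH) (Lpr_at (f276346 IH) (Lpr_bt (f276354 IH) (Lpr_at (f170748 IH) (Lpn (LP (LK LD1_c31 LD2_c56 LD3_c59))))))))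
theorem f276365 : Led Lsl_bt (LP (LK LD1_c32 LD2_c11 LD3_c0)) = (LP (LK LD1_c31 LD2_c56 LD3_c59)) :=
  Lgr Lrot127 (Lpr_bf (f276355 IH) (Lpn (LP (LK LD1_c31 LD2_c56 LD3_c59))))
theorem f276372 : Led Lsl_dt (LP (LK LD1_c26 LD2_c34 LD3_c20)) = (LP (LK LD1_c32 LD2_c11 LD3_c0)) :=
  Lre_d IH (LK LD1_c26 LD2_c34 LD3_c20) (LK LD1_c32 LD2_c11 LD3_c0) Lrfl Lrfl
theorem f170810 : Led Lsl_dt (LP (LK LD1_c31 LD2_c56 LD3_c59)) = (LP (LK LD1_c25 LD2_c37 LD3_c31)) :=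
  Lre_d IH (LK LD1_c31 LD2_c56 LD3_c59) (LK LD1_c25 LD2_c37 LD3_c31) Lrfl Lrfl
theorem f276373 : Led Lsl_bf (LP (LK LD1_c26 LD2_c34 LD3_c20)) = (LP (LK LD1_c25 LD2_c37 LD3_c31)) :=
  Lgr Lrot93 (Lpr_dt (f276372 IH) (Lpr_bt (f276365 IH) (Lpr_dt (f170810 IH) (Lpn (LP (LK LD1_c25 LD2_c37 LD3_c31))))))
theorem f276381 : Led Lsl_et (LP (LK LD1_c26 LD2_c34 LD3_c20)) = (LP (LK LD1_c16 LD2_c37 LD3_c9)) :=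
  Lre_e IH (LK LD1_c26 LD2_c34 LD3_c20) (LK LD1_c16 LD2_c37 LD3_c9) Lrfl Lrfl
theorem f170805 : Led Lsl_et (LP (LK LD1_c15 LD2_c41 LD3_c55)) = (LP (LK LD1_c25 LD2_c37 LD3_c31)) :=
  Lre_e IH (LK LD1_c15 LD2_c41 LD3_c55) (LK LD1_c25 LD2_c37 LD3_c31) Lrfl Lrfl
theorem f276382 : Led Lsl_bt (LP (LK LD1_c16 LD2_c37 LD3_c9)) = (LP (LK LD1_c15 LD2_c41 LD3_c55)) :=
  Lgr Lrot119 (Lpe (f276381 IH) (Lpr_bf (f276373 IH) (Lpe (f170805 IH) (Lpn (LP (LK LD1_c15 LD2_c41 LD3_c55))))))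
theorem f276385 : Led Lsl_ct (LP (LK LD1_c8 LD2_c53 LD3_c38)) = (LP (LK LD1_c16 LD2_c37 LD3_c9)) :=
  Lre_c IH (LK LD1_c8 LD2_c53 LD3_c38) (LK LD1_c16 LD2_c37 LD3_c9) Lrfl Lrfl
theorem f170732 : Led Lsl_ct (LP (LK LD1_c8 LD2_c20 LD3_c29)) = (LP (LK LD1_c15 LD2_c41 LD3_c58)) :=
  Lre_c IH (LK LD1_c8 LD2_c20 LD3_c29) (LK LD1_c15 LD2_c41 LD3_c58) Lrfl Lrfl
theorem f170733 : Led Lsl_bt (LP (LK LD1_c15 LD2_c41 LD3_c58)) = (LP (LK LD1_c25 LD2_c37 LD3_c35)) :=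
  Lre_b IH (LK LD1_c15 LD2_c41 LD3_c58) (LK LD1_c25 LD2_c37 LD3_c35) Lrfl Lrfl
theorem f170735 : Led Lsl_bt (LP (LK LD1_c17 LD2_c43 LD3_c14)) = (LP (LK LD1_c9 LD2_c37 LD3_c37)) :=
  Lre_b IH (LK LD1_c17 LD2_c43 LD3_c14) (LK LD1_c9 LD2_c37 LD3_c37) Lrfl Lrfl
theorem f170736 : Led Lsl_ct (LP (LK LD1_c25 LD2_c37 LD3_c35)) = (LP (LK LD1_c17 LD2_c43 LD3_c14)) :=
  Lgr Lrot83 (Lpe (f170733 IH) (Lpe (f170732 IH) (Lpr_bf (K10.f170723 IH) (Lpe (K15.f170734 IH) (Lpe (f170735 IH) (Lpn (LP (LK LD1_c17 LD2_c43 LD3_c14))))))))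
theorem f170741 : Led Lsl_cf (LP (LK LD1_c25 LD2_c37 LD3_c35)) = (LP (LK LD1_c17 LD2_c43 LD3_c14)) :=
  Lgr Lrot11 (Lpr_ct (f170736 IH) (Lpn (LP (LK LD1_c17 LD2_c43 LD3_c14))))
theorem f170756 : Led Lsl_ft (LP (LK LD1_c25 LD2_c37 LD3_c35)) = (LP (LK LD1_c15 LD2_c41 LD3_c56)) :=
  Lre_f IH (LK LD1_c25 LD2_c37 LD3_c35) (LK LD1_c15 LD2_c41 LD3_c56) Lrfl Lrfl
theorem f170757 : Led Lsl_ft (LP (LK LD1_c9 LD2_c37 LD3_c35)) = (LP (LK LD1_c17 LD2_c43 LD3_c14)) :=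
  Lre_f IH (LK LD1_c9 LD2_c37 LD3_c35) (LK LD1_c17 LD2_c43 LD3_c14) Lrfl Lrfl
theorem f170758 : Led Lsl_ct (LP (LK LD1_c15 LD2_c41 LD3_c56)) = (LP (LK LD1_c9 LD2_c37 LD3_c35)) :=
  Lgr Lrot40 (Lpe (f170756 IH) (Lpr_cf (f170741 IH) (Lpe (f170757 IH) (Lpn (LP (LK LD1_c9 LD2_c37 LD3_c35))))))
theorem f170771 : Led Lsl_et (LP (LK LD1_c8 LD2_c20 LD3_c25)) = (LP (LK LD1_c15 LD2_c41 LD3_c56)) :=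
  Lre_e IH (LK LD1_c8 LD2_c20 LD3_c25) (LK LD1_c15 LD2_c41 LD3_c56) Lrfl Lrfl
theorem f170772 : Led Lsl_et (LP (LK LD1_c9 LD2_c37 LD3_c35)) = (LP (LK LD1_c4 LD2_c52 LD3_c46)) :=
  Lre_e IH (LK LD1_c9 LD2_c37 LD3_c35) (LK LD1_c4 LD2_c52 LD3_c46) Lrfl Lrfl
theorem f170773 : Led Lsl_cf (LP (LK LD1_c8 LD2_c20 LD3_c25)) = (LP (LK LD1_c4 LD2_c52 LD3_c46)) :=
  Lgr Lrot39 (Lpr_et (f170771 IH) (Lpr_ct (f170758 IH) (Lpr_et (f170772 IH) (Lpn (LP (LK LD1_c4 LD2_c52 LD3_c46))))))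
theorem f170786 : Led Lsl_at (LP (LK LD1_c8 LD2_c20 LD3_c25)) = (LP (LK LD1_c15 LD2_c41 LD3_c55)) :=
  Lre_a IH (LK LD1_c8 LD2_c20 LD3_c25) (LK LD1_c15 LD2_c41 LD3_c55) Lrfl Lrfl
theorem f170787 : Led Lsl_at (LP (LK LD1_c9 LD2_c37 LD3_c34)) = (LP (LK LD1_c4 LD2_c52 LD3_c46)) :=
  Lre_a IH (LK LD1_c9 LD2_c37 LD3_c34) (LK LD1_c4 LD2_c52 LD3_c46) Lrfl Lrfl
theorem f170788 : Led Lsl_ct (LP (LK LD1_c15 LD2_c41 LD3_c55)) = (LP (LK LD1_c9 LD2_c37 LD3_c34)) :=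
  Lgr Lrot111 (Lpe (f170786 IH) (Lpr_cf (f170773 IH) (Lpe (f170787 IH) (Lpn (LP (LK LD1_c9 LD2_c37 LD3_c34))))))
theorem f170792 : Led Lsl_bt (LP (LK LD1_c2 LD2_c24 LD3_c7)) = (LP (LK LD1_c4 LD2_c52 LD3_c46)) :=
  Lre_b IH (LK LD1_c2 LD2_c24 LD3_c7) (LK LD1_c4 LD2_c52 LD3_c46) Lrfl Lrfl
theorem f170804 : Led Lsl_at (LP (LK LD1_c4 LD2_c52 LD3_c46)) = (LP (LK LD1_c9 LD2_c37 LD3_c34)) :=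
  Lre_a IH (LK LD1_c4 LD2_c52 LD3_c46) (LK LD1_c9 LD2_c37 LD3_c34) Lrfl Lrfl
theorem f200940 : Led Lsl_bt (LP (LK LD1_c4 LD2_c3 LD3_c28)) = (LP (LK LD1_c1 LD2_c58 LD3_c42)) :=
  Lre_b IH (LK LD1_c4 LD2_c3 LD3_c28) (LK LD1_c1 LD2_c58 LD3_c42) Lrfl Lrfl
theorem f200987 : Led Lsl_at (LP (LK LD1_c8 LD2_c7 LD3_c30)) = (LP (LK LD1_c4 LD2_c3 LD3_c28)) :=
  Lre_a IH (LK LD1_c8 LD2_c7 LD3_c30) (LK LD1_c4 LD2_c3 LD3_c28) Lrfl Lrfl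
theorem f256675 : Led Lsl_bt (LP (LK LD1_c9 LD2_c37 LD3_c34)) = (LP (LK LD1_c8 LD2_c7 LD3_c30)) :=
  Lgr Lrot62 (Lpe (f170804 IH) (Lpe (f170792 IH) (Lpr_af (K15.f256667 IH) (Lpe (f200940 IH) (Lpe (f200987 IH) (Lpn (LP (LK LD1_c8 LD2_c7 LD3_c30))))))))
theorem f200989 : Led Lsl_ct (LP (LK LD1_c8 LD2_c7 LD3_c30)) = (LP (LK LD1_c15 LD2_c17 LD3_c37)) :=
  Lre_c IH (LK LD1_c8 LD2_c7 LD3_c30) (LK LD1_c15 LD2_c17 LD3_c37) Lrfl Lrfl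
theorem f276386 : Led Lsl_bf (LP (LK LD1_c8 LD2_c53 LD3_c38)) = (LP (LK LD1_c15 LD2_c17 LD3_c37)) :=
  Lgr Lrot90 (Lpr_ct (f276385 IH) (Lpr_bt (f276382 IH) (Lpr_ct (f170788 IH) (Lpr_bt (f256675 IH) (Lpr_ct (f200989 IH) (Lpn (LP (LK LD1_c15 LD2_c17 LD3_c37))))))))
theorem f276396 : Led Lsl_dt (LP (LK LD1_c8 LD2_c53 LD3_c38)) = (LP (LK LD1_c16 LD2_c37 LD3_c57)) :=
  Lre_d IH (LK LD1_c8 LD2_c53 LD3_c38) (LK LD1_c16 LD2_c37 LD3_c57) Lrfl Lrfl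
theorem f200976 : Led Lsl_dt (LP (LK LD1_c25 LD2_c8 LD3_c1)) = (LP (LK LD1_c15 LD2_c17 LD3_c37)) :=
  Lre_d IH (LK LD1_c25 LD2_c8 LD3_c1) (LK LD1_c15 LD2_c17 LD3_c37) Lrfl Lrfl
theorem f276397 : Led Lsl_bt (LP (LK LD1_c16 LD2_c37 LD3_c57)) = (LP (LK LD1_c25 LD2_c8 LD3_c1)) :=
  Lgr Lrot95 (Lpe (f276396 IH) (Lpr_bf (f276386 IH) (Lpe (f200976 IH) (Lpn (LP (LK LD1_c25 LD2_c8 LD3_c1))))))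
theorem f276405 : Led Lsl_bf (LP (LK LD1_c16 LD2_c37 LD3_c57)) = (LP (LK LD1_c25 LD2_c8 LD3_c1)) :=
  Lgr Lrot24 (Lpr_bt (f276397 IH) (Lpn (LP (LK LD1_c25 LD2_c8 LD3_c1))))
theorem f276407 : Led Lsl_at (LP (LK LD1_c16 LD2_c37 LD3_c57)) = (LP (LK LD1_c8 LD2_c53 LD3_c39)) :=
  Lre_a IH (LK LD1_c16 LD2_c37 LD3_c57) (LK LD1_c8 LD2_c53 LD3_c39) Lrfl Lrfl
theorem f276408 : Led Lsl_bt (LP (LK LD1_c8 LD2_c53 LD3_c39)) = (LP (LK LD1_c4 LD2_c27 LD3_c53)) :=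
  Lre_b IH (LK LD1_c8 LD2_c53 LD3_c39) (LK LD1_c4 LD2_c27 LD3_c53) Lrfl Lrfl
theorem f276409 : Led Lsl_at (LP (LK LD1_c15 LD2_c17 LD3_c38)) = (LP (LK LD1_c25 LD2_c8 LD3_c1)) :=
  Lre_a IH (LK LD1_c15 LD2_c17 LD3_c38) (LK LD1_c25 LD2_c8 LD3_c1) Lrfl Lrfl
theorem f267246 : Led Lsl_bt (LP (LK LD1_c8 LD2_c7 LD3_c17)) = (LP (LK LD1_c15 LD2_c17 LD3_c38)) :=
  Lre_b IH (LK LD1_c8 LD2_c7 LD3_c17) (LK LD1_c15 LD2_c17 LD3_c38) Lrfl Lrfl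
theorem f276410 : Led Lsl_at (LP (LK LD1_c4 LD2_c27 LD3_c53)) = (LP (LK LD1_c8 LD2_c7 LD3_c17)) :=
  Lgr Lrot67 (Lpe (f276408 IH) (Lpe (f276407 IH) (Lpr_bf (f276405 IH) (Lpe (f276409 IH) (Lpe (f267246 IH) (Lpn (LP (LK LD1_c8 LD2_c7 LD3_c17))))))))
theorem f276417 : Led Lsl_ff (LP (LK LD1_c4 LD2_c27 LD3_c53)) = (LP (LK LD1_c8 LD2_c24 LD3_c34)) :=
  Lgr Lrot52 (Lpr_at (f276410 IH) (Lpe (K15.f213498 IH) (Lpe (K15.f267278 IH) (Lpn (LP (LK LD1_c8 LD2_c24 LD3_c34))))))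
theorem f261094 : Led Lsl_dt (LP (LK LD1_c4 LD2_c19 LD3_c24)) = (LP (LK LD1_c8 LD2_c37 LD3_c8)) :=
  Lre_d IH (LK LD1_c4 LD2_c19 LD3_c24) (LK LD1_c8 LD2_c37 LD3_c8) Lrfl Lrfl
theorem f276419 : Led Lsl_ct (LP (LK LD1_c8 LD2_c37 LD3_c8)) = (LP (LK LD1_c8 LD2_c7 LD3_c17)) :=
  Lgr Lrot98 (Lpe (f261094 IH) (Lpe (K15.f261093 IH) (Lpe (K14.f254020 IH) (Lpr_cf (K15.f261091 IH) (Lpe (K15.f41776 IH) (Lpe (K15.f220857 IH) (Lpe (K15.f261103 IH) (Lpe (f276417 IH) (Lpr_at (f276410 IH) (Lpn (LP (LK LD1_c8 LD2_c7 LD3_c17))))))))))))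
theorem f1706 : Led Lsl_bt (LP (LK LD1_c1 LD2_c8 LD3_c61)) = (LP (LK LD1_c0 LD2_c31 LD3_c32)) :=
  Lre_b IH (LK LD1_c1 LD2_c8 LD3_c61) (LK LD1_c0 LD2_c31 LD3_c32) Lrfl Lrfl
theorem f2863 : Led Lsl_ct (LP (LK LD1_c1 LD2_c8 LD3_c61)) = (LP (LK LD1_c2 LD2_c23 LD3_c56)) :=
  Lre_c IH (LK LD1_c1 LD2_c8 LD3_c61) (LK LD1_c2 LD2_c23 LD3_c56) Lrfl Lrfl
theorem f170919 : Led Lsl_gt (LP (LK LD1_c4 LD2_c52 LD3_c21)) = (LP (LK LD1_c2 LD2_c23 LD3_c56)) :=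
  Lre_g IH (LK LD1_c4 LD2_c52 LD3_c21) (LK LD1_c2 LD2_c23 LD3_c56) Lrfl Lrfl
theorem f219769 : Led Lsl_cf (LP (LK LD1_c4 LD2_c52 LD3_c21)) = (LP (LK LD1_c4 LD2_c8 LD3_c52)) :=
  Lgr Lrot125 (Lpr_gt (f170919 IH) (Lpe (f2863 IH) (Lpr_bt (f1706 IH) (Lpr_gt (K13.f267 IH) (Lpe (f2208 IH) (Lpr_ct (K12.f1921 IH) (Lpr_gt (K12.f2793 IH) (Lpr_cf (K12.f186923 IH) (Lpe (K12.f219472 IH) (Lpr_gt (K12.f219761 IH) (Lpn (LP (LK LD1_c4 LD2_c8 LD3_c52)))))))))))))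
theorem f250506 : Led Lsl_dt (LP (LK LD1_c2 LD2_c23 LD3_c56)) = (LP (LK LD1_c4 LD2_c52 LD3_c22)) :=
  Lre_d IH (LK LD1_c2 LD2_c23 LD3_c56) (LK LD1_c4 LD2_c52 LD3_c22) Lrfl Lrfl
theorem f250507 : Led Lsl_gf (LP (LK LD1_c8 LD2_c24 LD3_c24)) = (LP (LK LD1_c4 LD2_c52 LD3_c22)) :=
  Lgr Lrot154 (Lpr_dt (K15.f237126 IH) (Lpr_ct (K15.f237119 IH) (Lpe (K12.f201230 IH) (Lpe (K14.f201238 IH) (Lpe (K14.f250486 IH) (Lpr_gf (K14.f250501 IH) (Lpe (f219769 IH) (Lpr_gt (f170919 IH) (Lpr_dt (f250506 IH) (Lpn (LP (LK LD1_c4 LD2_c52 LD3_c22))))))))))))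
theorem f223376 : Led Lsl_dt (LP (LK LD1_c2 LD2_c11 LD3_c14)) = (LP (LK LD1_c4 LD2_c28 LD3_c9)) :=
  Lre_d IH (LK LD1_c2 LD2_c11 LD3_c14) (LK LD1_c4 LD2_c28 LD3_c9) Lrfl Lrfl
theorem f223377 : Led Lsl_gt (LP (LK LD1_c4 LD2_c28 LD3_c9)) = (LP (LK LD1_c8 LD2_c54 LD3_c22)) :=
  Lre_g IH (LK LD1_c4 LD2_c28 LD3_c9) (LK LD1_c8 LD2_c54 LD3_c22) Lrfl Lrfl
theorem f44449 : Led Lsl_et (LP (LK LD1_c9 LD2_c39 LD3_c24)) = (LP (LK LD1_c4 LD2_c53 LD3_c58)) :=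
  Lre_e IH (LK LD1_c9 LD2_c39 LD3_c24) (LK LD1_c4 LD2_c53 LD3_c58) Lrfl Lrfl
theorem f53641 : Led Lsl_bt (LP (LK LD1_c1 LD2_c11 LD3_c15)) = (LP (LK LD1_c2 LD2_c28 LD3_c5)) :=
  Lre_b IH (LK LD1_c1 LD2_c11 LD3_c15) (LK LD1_c2 LD2_c28 LD3_c5) Lrfl Lrfl
theorem f54087 : Led Lsl_et (LP (LK LD1_c1 LD2_c0 LD3_c56)) = (LP (LK LD1_c1 LD2_c11 LD3_c15)) :=
  Lgr Lrot74 (Lpe (K10.f27902 IH) (Lpr_ef (K12.f54083 IH) (Lpe (f53641 IH) (Lpn (LP (LK LD1_c1 LD2_c11 LD3_c15))))))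
theorem f246891 : Led Lsl_gf (LP (LK LD1_c4 LD2_c1 LD3_c44)) = (LP (LK LD1_c5 LD2_c1 LD3_c6)) :=
  Lgr Lrot145 (Lpe (K14.f190246 IH) (Lpr_et (K15.f190245 IH) (Lpr_gt (K15.f241894 IH) (Lpr_dt (K15.f33152 IH) (Lpr_gt (K13.f28677 IH) (Lpe (K13.f27885 IH) (Lpr_et (f54087 IH) (Lpr_gt (K13.f213478 IH) (Lpe (K14.f171309 IH) (Lpr_dt (K14.f246856 IH) (Lpn (LP (LK LD1_c5 LD2_c1 LD3_c6)))))))))))))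
theorem f246826 : Led Lsl_df (LP (LK LD1_c2 LD2_c6 LD3_c53)) = (LP (LK LD1_c2 LD2_c28 LD3_c18)) :=
  Lgr Lrot38 (Lpr_dt (K14.f246821 IH) (Lpn (LP (LK LD1_c2 LD2_c28 LD3_c18))))
theorem f213493 : Led Lsl_et (LP (LK LD1_c2 LD2_c28 LD3_c9)) = (LP (LK LD1_c5 LD2_c0 LD3_c50)) :=
  Lre_e IH (LK LD1_c2 LD2_c28 LD3_c9) (LK LD1_c5 LD2_c0 LD3_c50) Lrfl Lrfl
theorem f213496 : Led Lsl_gt (LP (LK LD1_c9 LD2_c52 LD3_c0)) = (LP (LK LD1_c5 LD2_c0 LD3_c50)) :=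
  Lre_g IH (LK LD1_c9 LD2_c52 LD3_c0) (LK LD1_c5 LD2_c0 LD3_c50) Lrfl Lrfl
theorem f213497 : Led Lsl_et (LP (LK LD1_c18 LD2_c3 LD3_c40)) = (LP (LK LD1_c9 LD2_c52 LD3_c0)) :=
  Lre_e IH (LK LD1_c18 LD2_c3 LD3_c40) (LK LD1_c9 LD2_c52 LD3_c0) Lrfl Lrfl
theorem f246894 : Led Lsl_df (LP (LK LD1_c15 LD2_c11 LD3_c22)) = (LP (LK LD1_c18 LD2_c3 LD3_c40)) :=
  Lgr Lrot132 (Lpe (K14.f195690 IH) (Lpe (K13.f195616 IH) (Lpr_gf (f246891 IH) (Lpe (K14.f246828 IH) (Lpe (f246826 IH) (Lpe (K15.f171307 IH) (Lpe (K15.f213489 IH) (Lpr_et (f213493 IH) (Lpe (f213496 IH) (Lpe (f213497 IH) (Lpn (LP (LK LD1_c18 LD2_c3 LD3_c40)))))))))))))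
theorem f225649 : Led Lsl_et (LP (LK LD1_c15 LD2_c11 LD3_c22)) = (LP (LK LD1_c11 LD2_c2 LD3_c43)) :=
  Lgr Lrot87 (Lpr_ef (K14.f225647 IH) (Lpn (LP (LK LD1_c11 LD2_c2 LD3_c43))))
theorem f225651 : Led Lsl_et (LP (LK LD1_c5 LD2_c35 LD3_c17)) = (LP (LK LD1_c11 LD2_c2 LD3_c44)) :=
  Lre_e IH (LK LD1_c5 LD2_c35 LD3_c17) (LK LD1_c11 LD2_c2 LD3_c44) Lrfl Lrfl
theorem f246929 : Led Lsl_et (LP (LK LD1_c9 LD2_c52 LD3_c0)) = (LP (LK LD1_c18 LD2_c3 LD3_c40)) :=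
  Lre_e IH (LK LD1_c9 LD2_c52 LD3_c0) (LK LD1_c18 LD2_c3 LD3_c40) Lrfl Lrfl
theorem f246930 : Led Lsl_dt (LP (LK LD1_c11 LD2_c2 LD3_c44)) = (LP (LK LD1_c9 LD2_c52 LD3_c0)) :=
  Lgr Lrot77 (Lpe (f225651 IH) (Lpe (K14.f212887 IH) (Lpe (f225649 IH) (Lpr_df (f246894 IH) (Lpe (f246929 IH) (Lpn (LP (LK LD1_c9 LD2_c52 LD3_c0))))))))
theorem f212892 : Led Lsl_et (LP (LK LD1_c11 LD2_c2 LD3_c44)) = (LP (LK LD1_c5 LD2_c35 LD3_c17)) :=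
  Lre_e IH (LK LD1_c11 LD2_c2 LD3_c44) (LK LD1_c5 LD2_c35 LD3_c17) Lrfl Lrfl
theorem f212783 : Led Lsl_et (LP (LK LD1_c1 LD2_c18 LD3_c11)) = (LP (LK LD1_c2 LD2_c43 LD3_c34)) :=
  Lre_e IH (LK LD1_c1 LD2_c18 LD3_c11) (LK LD1_c2 LD2_c43 LD3_c34) Lrfl Lrfl
theorem f199495 : Led Lsl_et (LP (LK LD1_c2 LD2_c43 LD3_c44)) = (LP (LK LD1_c1 LD2_c18 LD3_c15)) :=
  Lre_e IH (LK LD1_c2 LD2_c43 LD3_c44) (LK LD1_c1 LD2_c18 LD3_c15) Lrfl Lrfl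
theorem f246940 : Led Lsl_dt (LP (LK LD1_c2 LD2_c43 LD3_c44)) = (LP (LK LD1_c5 LD2_c0 LD3_c50)) :=
  Lgr Lrot37 (Lpr_et (f199495 IH) (Lpr_gt (K12.f177871 IH) (Lpr_dt (K12.f177870 IH) (Lpr_gt (K12.f178177 IH) (Lpe (K13.f212765 IH) (Lpr_et (f212783 IH) (Lpr_gt (K14.f212883 IH) (Lpe (f212892 IH) (Lpr_dt (f246930 IH) (Lpr_gt (f213496 IH) (Lpn (LP (LK LD1_c5 LD2_c0 LD3_c50)))))))))))))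
theorem f246944 : Led Lsl_df (LP (LK LD1_c2 LD2_c43 LD3_c44)) = (LP (LK LD1_c5 LD2_c0 LD3_c50)) :=
  Lgr Lrot38 (Lpr_dt (f246940 IH) (Lpn (LP (LK LD1_c5 LD2_c0 LD3_c50))))
theorem f246975 : Led Lsl_bt (LP (LK LD1_c2 LD2_c43 LD3_c44)) = (LP (LK LD1_c5 LD2_c35 LD3_c32)) :=
  Lre_b IH (LK LD1_c2 LD2_c43 LD3_c44) (LK LD1_c5 LD2_c35 LD3_c32) Lrfl Lrfl
theorem f229046 : Led Lsl_et (LP (LK LD1_c4 LD2_c53 LD3_c58)) = (LP (LK LD1_c9 LD2_c39 LD3_c24)) :=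
  Lre_e IH (LK LD1_c4 LD2_c53 LD3_c58) (LK LD1_c9 LD2_c39 LD3_c24) Lrfl Lrfl
theorem f33936 : Led Lsl_et (LP (LK LD1_c5 LD2_c0 LD3_c50)) = (LP (LK LD1_c2 LD2_c28 LD3_c9)) :=
  Lre_e IH (LK LD1_c5 LD2_c0 LD3_c50) (LK LD1_c2 LD2_c28 LD3_c9) Lrfl Lrfl
theorem f229047 : Led Lsl_bt (LP (LK LD1_c9 LD2_c39 LD3_c24)) = (LP (LK LD1_c5 LD2_c0 LD3_c50)) :=
  Lgr Lrot119 (Lpe (f229046 IH) (Lpr_bf (K12.f229042 IH) (Lpe (f33936 IH) (Lpn (LP (LK LD1_c5 LD2_c0 LD3_c50))))))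
theorem f246976 : Led Lsl_dt (LP (LK LD1_c5 LD2_c35 LD3_c32)) = (LP (LK LD1_c9 LD2_c39 LD3_c24)) :=
  Lgr Lrot79 (Lpe (f246975 IH) (Lpr_df (f246944 IH) (Lpe (f229047 IH) (Lpn (LP (LK LD1_c9 LD2_c39 LD3_c24))))))
theorem f246997 : Led Lsl_et (LP (LK LD1_c2 LD2_c43 LD3_c42)) = (LP (LK LD1_c5 LD2_c35 LD3_c32)) :=
  Lre_e IH (LK LD1_c2 LD2_c43 LD3_c42) (LK LD1_c5 LD2_c35 LD3_c32) Lrfl Lrfl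
theorem f271009 : Led Lsl_df (LP (LK LD1_c2 LD2_c43 LD3_c42)) = (LP (LK LD1_c4 LD2_c19 LD3_c51)) :=
  Lgr Lrot70 (Lpr_et (f246997 IH) (Lpr_dt (f246976 IH) (Lpr_et (f44449 IH) (Lpe (K15.f265017 IH) (Lpr_et (f271000 IH) (Lpn (LP (LK LD1_c4 LD2_c19 LD3_c51))))))))
theorem f271015 : Led Lsl_dt (LP (LK LD1_c8 LD2_c54 LD3_c22)) = (LP (LK LD1_c5 LD2_c35 LD3_c31)) :=
  Lgr Lrot105 (Lpe (f223377 IH) (Lpe (f223376 IH) (Lpe (K12.f223204 IH) (Lpr_cf (K12.f223205 IH) (Lpr_gt (K14.f213900 IH) (Lpr_dt (K14.f246628 IH) (Lpr_gt (f271013 IH) (Lpe (f271009 IH) (Lpe (K15.f177873 IH) (Lpn (LP (LK LD1_c5 LD2_c35 LD3_c31))))))))))))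
theorem f276427 : Led Lsl_cf (LP (LK LD1_c4 LD2_c52 LD3_c22)) = (LP (LK LD1_c4 LD2_c28 LD3_c9)) :=
  Lgr Lrot166 (Lpe (f250507 IH) (Lpr_dt (K15.f237126 IH) (Lpe (K15.f261110 IH) (Lpr_dt (f261094 IH) (Lpr_ct (f276419 IH) (Lpe (K15.f199497 IH) (Lpr_gf (K15.f199492 IH) (Lpe (f271015 IH) (Lpe (f223377 IH) (Lpn (LP (LK LD1_c4 LD2_c28 LD3_c9))))))))))))
theorem f1708 : Led Lsl_dt (LP (LK LD1_c4 LD2_c52 LD3_c22)) = (LP (LK LD1_c2 LD2_c23 LD3_c56)) :=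
  Lre_d IH (LK LD1_c4 LD2_c52 LD3_c22) (LK LD1_c2 LD2_c23 LD3_c56) Lrfl Lrfl
theorem f1707 : Led Lsl_ct (LP (LK LD1_c2 LD2_c23 LD3_c56)) = (LP (LK LD1_c1 LD2_c8 LD3_c61)) :=
  Lre_c IH (LK LD1_c2 LD2_c23 LD3_c56) (LK LD1_c1 LD2_c8 LD3_c61) Lrfl Lrfl
theorem f270917 : Led Lsl_dt (LP (LK LD1_c1 LD2_c8 LD3_c61)) = (LP (LK LD1_c1 LD2_c0 LD3_c44)) :=
  Lgr Lrot42 (Lpr_df (f270912 IH) (Lpn (LP (LK LD1_c1 LD2_c0 LD3_c44))))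
theorem f223539 : Led Lsl_ft (LP (LK LD1_c4 LD2_c28 LD3_c21)) = (LP (LK LD1_c2 LD2_c11 LD3_c17)) :=
  Lre_f IH (LK LD1_c4 LD2_c28 LD3_c21) (LK LD1_c2 LD2_c11 LD3_c17) Lrfl Lrfl
theorem f44662 : Led Lsl_ft (LP (LK LD1_c4 LD2_c27 LD3_c35)) = (LP (LK LD1_c8 LD2_c53 LD3_c0)) :=
  Lre_f IH (LK LD1_c4 LD2_c27 LD3_c35) (LK LD1_c8 LD2_c53 LD3_c0) Lrfl Lrfl
theorem f265425 : Led Lsl_af (LP (LK LD1_c4 LD2_c28 LD3_c21)) = (LP (LK LD1_c8 LD2_c53 LD3_c0)) :=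
  Lgr Lrot45 (Lpr_ft (f223539 IH) (Lpr_at (K15.f265417 IH) (Lpr_ft (f44662 IH) (Lpn (LP (LK LD1_c8 LD2_c53 LD3_c0))))))
theorem f223418 : Led Lsl_ct (LP (LK LD1_c4 LD2_c28 LD3_c21)) = (LP (LK LD1_c8 LD2_c54 LD3_c44)) :=
  Lre_c IH (LK LD1_c4 LD2_c28 LD3_c21) (LK LD1_c8 LD2_c54 LD3_c44) Lrfl Lrfl
theorem f44724 : Led Lsl_ct (LP (LK LD1_c16 LD2_c36 LD3_c30)) = (LP (LK LD1_c8 LD2_c53 LD3_c0)) :=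
  Lre_c IH (LK LD1_c16 LD2_c36 LD3_c30) (LK LD1_c8 LD2_c53 LD3_c0) Lrfl Lrfl
theorem f265429 : Led Lsl_at (LP (LK LD1_c8 LD2_c54 LD3_c44)) = (LP (LK LD1_c16 LD2_c36 LD3_c30)) :=
  Lgr Lrot107 (Lpe (f223418 IH) (Lpr_af (f265425 IH) (Lpe (f44724 IH) (Lpn (LP (LK LD1_c16 LD2_c36 LD3_c30))))))
theorem f265435 : Led Lsl_af (LP (LK LD1_c8 LD2_c54 LD3_c44)) = (LP (LK LD1_c16 LD2_c36 LD3_c30)) :=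
  Lgr Lrot0 (Lpr_at (f265429 IH) (Lpn (LP (LK LD1_c16 LD2_c36 LD3_c30))))
theorem f265445 : Led Lsl_ft (LP (LK LD1_c8 LD2_c54 LD3_c44)) = (LP (LK LD1_c4 LD2_c28 LD3_c17)) :=
  Lre_f IH (LK LD1_c8 LD2_c54 LD3_c44) (LK LD1_c4 LD2_c28 LD3_c17) Lrfl Lrfl
theorem f265446 : Led Lsl_ft (LP (LK LD1_c8 LD2_c52 LD3_c60)) = (LP (LK LD1_c16 LD2_c36 LD3_c30)) :=
  Lre_f IH (LK LD1_c8 LD2_c52 LD3_c60) (LK LD1_c16 LD2_c36 LD3_c30) Lrfl Lrfl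
theorem f265447 : Led Lsl_at (LP (LK LD1_c4 LD2_c28 LD3_c17)) = (LP (LK LD1_c8 LD2_c52 LD3_c60)) :=
  Lgr Lrot66 (Lpe (f265445 IH) (Lpr_af (f265435 IH) (Lpe (f265446 IH) (Lpn (LP (LK LD1_c8 LD2_c52 LD3_c60))))))
theorem f265457 : Led Lsl_et (LP (LK LD1_c2 LD2_c11 LD3_c16)) = (LP (LK LD1_c4 LD2_c28 LD3_c17)) :=
  Lre_e IH (LK LD1_c2 LD2_c11 LD3_c16) (LK LD1_c4 LD2_c28 LD3_c17) Lrfl Lrfl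
theorem f44699 : Led Lsl_et (LP (LK LD1_c8 LD2_c52 LD3_c60)) = (LP (LK LD1_c4 LD2_c27 LD3_c34)) :=
  Lre_e IH (LK LD1_c8 LD2_c52 LD3_c60) (LK LD1_c4 LD2_c27 LD3_c34) Lrfl Lrfl
theorem f265458 : Led Lsl_af (LP (LK LD1_c2 LD2_c11 LD3_c16)) = (LP (LK LD1_c4 LD2_c27 LD3_c34)) :=
  Lgr Lrot50 (Lpr_et (f265457 IH) (Lpr_at (f265447 IH) (Lpr_et (f44699 IH) (Lpn (LP (LK LD1_c4 LD2_c27 LD3_c34))))))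
theorem f276466 : Led Lsl_ff (LP (LK LD1_c4 LD2_c27 LD3_c34)) = (LP (LK LD1_c2 LD2_c11 LD3_c14)) :=
  Lgr Lrot103 (Lpe (f265458 IH) (Lpe (K12.f216932 IH) (Lpe (K14.f253282 IH) (Lpe (K14.f253249 IH) (Lpe (f270917 IH) (Lpe (f1707 IH) (Lpe (f1708 IH) (Lpr_cf (f276427 IH) (Lpe (f223376 IH) (Lpn (LP (LK LD1_c2 LD2_c11 LD3_c14))))))))))))
theorem f276477 : Led Lsl_et (LP (LK LD1_c4 LD2_c27 LD3_c34)) = (LP (LK LD1_c8 LD2_c52 LD3_c60)) :=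
  Lre_e IH (LK LD1_c4 LD2_c27 LD3_c34) (LK LD1_c8 LD2_c52 LD3_c60) Lrfl Lrfl
theorem f276478 : Led Lsl_et (LP (LK LD1_c4 LD2_c28 LD3_c10)) = (LP (LK LD1_c2 LD2_c11 LD3_c14)) :=
  Lre_e IH (LK LD1_c4 LD2_c28 LD3_c10) (LK LD1_c2 LD2_c11 LD3_c14) Lrfl Lrfl
theorem f276479 : Led Lsl_ft (LP (LK LD1_c8 LD2_c54 LD3_c28)) = (LP (LK LD1_c4 LD2_c28 LD3_c10)) :=
  Lre_f IH (LK LD1_c8 LD2_c54 LD3_c28) (LK LD1_c4 LD2_c28 LD3_c10) Lrfl Lrfl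
theorem f276480 : Led Lsl_et (LP (LK LD1_c16 LD2_c36 LD3_c30)) = (LP (LK LD1_c8 LD2_c54 LD3_c28)) :=
  Lgr Lrot69 (Lpe (f265446 IH) (Lpe (f276477 IH) (Lpr_ff (f276466 IH) (Lpe (f276478 IH) (Lpe (f276479 IH) (Lpn (LP (LK LD1_c8 LD2_c54 LD3_c28))))))))
theorem f276501 : Led Lsl_ef (LP (LK LD1_c16 LD2_c36 LD3_c30)) = (LP (LK LD1_c8 LD2_c54 LD3_c28)) :=
  Lgr Lrot88 (Lpr_et (f276480 IH) (Lpn (LP (LK LD1_c8 LD2_c54 LD3_c28))))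
theorem f44725 : Led Lsl_bt (LP (LK LD1_c16 LD2_c36 LD3_c30)) = (LP (LK LD1_c26 LD2_c33 LD3_c22)) :=
  Lre_b IH (LK LD1_c16 LD2_c36 LD3_c30) (LK LD1_c26 LD2_c33 LD3_c22) Lrfl Lrfl
theorem f276503 : Led Lsl_bt (LP (LK LD1_c16 LD2_c39 LD3_c39)) = (LP (LK LD1_c8 LD2_c54 LD3_c28)) :=
  Lre_b IH (LK LD1_c16 LD2_c39 LD3_c39) (LK LD1_c8 LD2_c54 LD3_c28) Lrfl Lrfl
theorem f276504 : Led Lsl_et (LP (LK LD1_c26 LD2_c33 LD3_c22)) = (LP (LK LD1_c16 LD2_c39 LD3_c39)) :=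
  Lgr Lrot74 (Lpe (f44725 IH) (Lpr_ef (f276501 IH) (Lpe (f276503 IH) (Lpn (LP (LK LD1_c16 LD2_c39 LD3_c39))))))
theorem f276512 : Led Lsl_ft (LP (LK LD1_c16 LD2_c36 LD3_c25)) = (LP (LK LD1_c26 LD2_c33 LD3_c22)) :=
  Lre_f IH (LK LD1_c16 LD2_c36 LD3_c25) (LK LD1_c26 LD2_c33 LD3_c22) Lrfl Lrfl
theorem f276513 : Led Lsl_et (LP (LK LD1_c8 LD2_c52 LD3_c58)) = (LP (LK LD1_c16 LD2_c36 LD3_c25)) :=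
  Lre_e IH (LK LD1_c8 LD2_c52 LD3_c58) (LK LD1_c16 LD2_c36 LD3_c25) Lrfl Lrfl
theorem f276514 : Led Lsl_ft (LP (LK LD1_c16 LD2_c39 LD3_c39)) = (LP (LK LD1_c8 LD2_c54 LD3_c21)) :=
  Lre_f IH (LK LD1_c16 LD2_c39 LD3_c39) (LK LD1_c8 LD2_c54 LD3_c21) Lrfl Lrfl
theorem f276515 : Led Lsl_et (LP (LK LD1_c8 LD2_c54 LD3_c21)) = (LP (LK LD1_c4 LD2_c28 LD3_c8)) :=
  Lre_e IH (LK LD1_c8 LD2_c54 LD3_c21) (LK LD1_c4 LD2_c28 LD3_c8) Lrfl Lrfl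
theorem f276516 : Led Lsl_ff (LP (LK LD1_c8 LD2_c52 LD3_c58)) = (LP (LK LD1_c4 LD2_c28 LD3_c8)) :=
  Lgr Lrot72 (Lpr_et (f276513 IH) (Lpr_ft (f276512 IH) (Lpr_et (f276504 IH) (Lpr_ft (f276514 IH) (Lpr_et (f276515 IH) (Lpn (LP (LK LD1_c4 LD2_c28 LD3_c8))))))))
theorem f276523 : Led Lsl_dt (LP (LK LD1_c8 LD2_c52 LD3_c58)) = (LP (LK LD1_c16 LD2_c36 LD3_c24)) :=
  Lre_d IH (LK LD1_c8 LD2_c52 LD3_c58) (LK LD1_c16 LD2_c36 LD3_c24) Lrfl Lrfl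
theorem f276524 : Led Lsl_dt (LP (LK LD1_c8 LD2_c54 LD3_c20)) = (LP (LK LD1_c4 LD2_c28 LD3_c8)) :=
  Lre_d IH (LK LD1_c8 LD2_c54 LD3_c20) (LK LD1_c4 LD2_c28 LD3_c8) Lrfl Lrfl
theorem f276525 : Led Lsl_ft (LP (LK LD1_c16 LD2_c36 LD3_c24)) = (LP (LK LD1_c8 LD2_c54 LD3_c20)) :=
  Lgr Lrot54 (Lpe (f276523 IH) (Lpr_ff (f276516 IH) (Lpe (f276524 IH) (Lpn (LP (LK LD1_c8 LD2_c54 LD3_c20))))))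
theorem f265474 : Led Lsl_bt (LP (LK LD1_c8 LD2_c52 LD3_c59)) = (LP (LK LD1_c16 LD2_c36 LD3_c24)) :=
  Lre_b IH (LK LD1_c8 LD2_c52 LD3_c59) (LK LD1_c16 LD2_c36 LD3_c24) Lrfl Lrfl
theorem f276457 : Led Lsl_bt (LP (LK LD1_c8 LD2_c54 LD3_c20)) = (LP (LK LD1_c4 LD2_c28 LD3_c9)) :=
  Lre_b IH (LK LD1_c8 LD2_c54 LD3_c20) (LK LD1_c4 LD2_c28 LD3_c9) Lrfl Lrfl
theorem f276540 : Led Lsl_ff (LP (LK LD1_c8 LD2_c52 LD3_c59)) = (LP (LK LD1_c4 LD2_c28 LD3_c9)) :=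
  Lgr Lrot25 (Lpr_bt (f265474 IH) (Lpr_ft (f276525 IH) (Lpr_bt (f276457 IH) (Lpn (LP (LK LD1_c4 LD2_c28 LD3_c9))))))
theorem f267275 : Led Lsl_dt (LP (LK LD1_c8 LD2_c24 LD3_c33)) = (LP (LK LD1_c4 LD2_c21 LD3_c2)) :=
  Lgr Lrot42 (Lpr_df (K15.f267266 IH) (Lpn (LP (LK LD1_c4 LD2_c21 LD3_c2))))
theorem f44638 : Led Lsl_dt (LP (LK LD1_c4 LD2_c27 LD3_c34)) = (LP (LK LD1_c8 LD2_c52 LD3_c59)) :=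
  Lre_d IH (LK LD1_c4 LD2_c27 LD3_c34) (LK LD1_c8 LD2_c52 LD3_c59) Lrfl Lrfl
theorem f276425 : Led Lsl_cf (LP (LK LD1_c4 LD2_c53 LD3_c20)) = (LP (LK LD1_c8 LD2_c52 LD3_c59)) :=
  Lgr Lrot14 (Lpe (K15.f180083 IH) (Lpe (K15.f192374 IH) (Lpe (f267275 IH) (Lpr_gf (K15.f267242 IH) (Lpr_ct (f276419 IH) (Lpr_gt (K15.f199498 IH) (Lpr_dt (K15.f267305 IH) (Lpe (K15.f267328 IH) (Lpr_dt (f44638 IH) (Lpn (LP (LK LD1_c8 LD2_c52 LD3_c59))))))))))))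
theorem f276458 : Led Lsl_ct (LP (LK LD1_c4 LD2_c52 LD3_c22)) = (LP (LK LD1_c4 LD2_c28 LD3_c9)) :=
  Lgr Lrot59 (Lpr_cf (f276427 IH) (Lpn (LP (LK LD1_c4 LD2_c28 LD3_c9))))
theorem f276547 : Led Lsl_ft (LP (LK LD1_c4 LD2_c53 LD3_c20)) = (LP (LK LD1_c4 LD2_c52 LD3_c22)) :=
  Lgr Lrot4 (Lpr_cf (f276425 IH) (Lpr_ff (f276540 IH) (Lpe (f276458 IH) (Lpn (LP (LK LD1_c4 LD2_c52 LD3_c22))))))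
theorem f218817 : Led Lsl_dt (LP (LK LD1_c4 LD2_c3 LD3_c53)) = (LP (LK LD1_c8 LD2_c8 LD3_c12)) :=
  Lre_d IH (LK LD1_c4 LD2_c3 LD3_c53) (LK LD1_c8 LD2_c8 LD3_c12) Lrfl Lrfl
theorem f276456 : Led Lsl_at (LP (LK LD1_c4 LD2_c52 LD3_c22)) = (LP (LK LD1_c9 LD2_c36 LD3_c57)) :=
  Lre_a IH (LK LD1_c4 LD2_c52 LD3_c22) (LK LD1_c9 LD2_c36 LD3_c57) Lrfl Lrfl
theorem f276583 : Led Lsl_ct (LP (LK LD1_c8 LD2_c8 LD3_c12)) = (LP (LK LD1_c9 LD2_c36 LD3_c57)) :=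
  Lgr Lrot98 (Lpe (f218817 IH) (Lpe (K15.f52301 IH) (Lpr_df (K15.f261283 IH) (Lpe (K15.f196989 IH) (Lpr_df (f178272 IH) (Lpe (K15.f2868 IH) (Lpe (K15.f2869 IH) (Lpr_ft (f276547 IH) (Lpr_at (f276456 IH) (Lpn (LP (LK LD1_c9 LD2_c36 LD3_c57))))))))))))
theorem f276601 : Led Lsl_dt (LP (LK LD1_c4 LD2_c52 LD3_c19)) = (LP (LK LD1_c9 LD2_c36 LD3_c57)) :=
  Lre_d IH (LK LD1_c4 LD2_c52 LD3_c19) (LK LD1_c9 LD2_c36 LD3_c57) Lrfl Lrfl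
theorem f276602 : Led Lsl_gt (LP (LK LD1_c4 LD2_c21 LD3_c16)) = (LP (LK LD1_c4 LD2_c52 LD3_c19)) :=
  Lgr Lrot189 (Lpr_df (K15.f267389 IH) (Lpe (K15.f166512 IH) (Lpr_ct (K15.f166542 IH) (Lpr_gt (K15.f267278 IH) (Lpr_dt (K12.f53646 IH) (Lpr_gt (K15.f218814 IH) (Lpr_dt (f218817 IH) (Lpr_ct (f276583 IH) (Lpe (f276601 IH) (Lpn (LP (LK LD1_c4 LD2_c52 LD3_c19))))))))))))
theorem f219739 : Led Lsl_ct (LP (LK LD1_c2 LD2_c8 LD3_c9)) = (LP (LK LD1_c4 LD2_c21 LD3_c16)) :=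
  Lre_c IH (LK LD1_c2 LD2_c8 LD3_c9) (LK LD1_c4 LD2_c21 LD3_c16) Lrfl Lrfl
theorem f267373 : Led Lsl_dt (LP (LK LD1_c4 LD2_c21 LD3_c16)) = (LP (LK LD1_c8 LD2_c24 LD3_c32)) :=
  Lgr Lrot173 (Lpe (f219739 IH) (Lpe (K15.f43077 IH) (Lpe (K12.f42885 IH) (Lpe (K14.f41570 IH) (Lpe (K14.f44734 IH) (Lpe (K12.f183259 IH) (Lpe (K15.f267244 IH) (Lpr_df (K15.f267266 IH) (Lpe (K15.f41985 IH) (Lpe (K15.f41856 IH) (Lpe (K1.f41890 IH) (Lpe (K1.f41743 IH) (Lpe (K15.f41763 IH) (Lpe (K15.f168600 IH) (Lpr_cf (K15.f267334 IH) (Lpn (LP (LK LD1_c8 LD2_c24 LD3_c32))))))))))))))))))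
theorem f267394 : Led Lsl_ff (LP (LK LD1_c4 LD2_c21 LD3_c15)) = (LP (LK LD1_c8 LD2_c24 LD3_c32)) :=
  Lgr Lrot3 (Lpr_ft (K15.f267378 IH) (Lpn (LP (LK LD1_c8 LD2_c24 LD3_c32))))
theorem f267250 : Led Lsl_at (LP (LK LD1_c4 LD2_c28 LD3_c39)) = (LP (LK LD1_c8 LD2_c40 LD3_c10)) :=
  Lre_a IH (LK LD1_c4 LD2_c28 LD3_c39) (LK LD1_c8 LD2_c40 LD3_c10) Lrfl Lrfl
theorem f267251 : Led Lsl_af (LP (LK LD1_c8 LD2_c24 LD3_c33)) = (LP (LK LD1_c4 LD2_c21 LD3_c15)) :=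
  Lgr Lrot68 (Lpr_ct (K15.f267244 IH) (Lpr_at (f267250 IH) (Lpr_ct (K15.f191855 IH) (Lpn (LP (LK LD1_c4 LD2_c21 LD3_c15))))))
theorem f267402 : Led Lsl_gf (LP (LK LD1_c8 LD2_c37 LD3_c8)) = (LP (LK LD1_c8 LD2_c24 LD3_c32)) :=
  Lgr Lrot47 (Lpe (K15.f267242 IH) (Lpr_af (f267251 IH) (Lpr_ff (f267394 IH) (Lpn (LP (LK LD1_c8 LD2_c24 LD3_c32))))))
theorem f276591 : Led Lsl_ct (LP (LK LD1_c4 LD2_c52 LD3_c19)) = (LP (LK LD1_c2 LD2_c23 LD3_c55)) :=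
  Lre_c IH (LK LD1_c4 LD2_c52 LD3_c19) (LK LD1_c2 LD2_c23 LD3_c55) Lrfl Lrfl
theorem f276611 : Led Lsl_gf (LP (LK LD1_c1 LD2_c59 LD3_c39)) = (LP (LK LD1_c2 LD2_c23 LD3_c55)) :=
  Lgr Lrot104 (Lpr_ct (K12.f53961 IH) (Lpe (K15.f53638 IH) (Lpe (K15.f267319 IH) (Lpe (K15.f199498 IH) (Lpe (f276419 IH) (Lpr_gf (f267402 IH) (Lpe (f267373 IH) (Lpr_gt (f276602 IH) (Lpr_ct (f276591 IH) (Lpn (LP (LK LD1_c2 LD2_c23 LD3_c55))))))))))))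
theorem f180092 : Led Lsl_at (LP (LK LD1_c2 LD2_c24 LD3_c27)) = (LP (LK LD1_c1 LD2_c9 LD3_c22)) :=
  Lre_a IH (LK LD1_c2 LD2_c24 LD3_c27) (LK LD1_c1 LD2_c9 LD3_c22) Lrfl Lrfl
theorem f276618 : Led Lsl_ff (LP (LK LD1_c2 LD2_c24 LD3_c27)) = (LP (LK LD1_c2 LD2_c23 LD3_c55)) :=
  Lgr Lrot52 (Lpr_at (f180092 IH) (Lpr_gf (f253951 IH) (Lpr_gf (f276611 IH) (Lpn (LP (LK LD1_c2 LD2_c23 LD3_c55))))))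
theorem f276627 : Led Lsl_ft (LP (LK LD1_c2 LD2_c24 LD3_c27)) = (LP (LK LD1_c2 LD2_c23 LD3_c55)) :=
  Lgr Lrot48 (Lpr_ff (f276618 IH) (Lpn (LP (LK LD1_c2 LD2_c23 LD3_c55))))
theorem f180053 : Led Lsl_at (LP (LK LD1_c2 LD2_c3 LD3_c43)) = (LP (LK LD1_c0 LD2_c58 LD3_c50)) :=
  Lre_a IH (LK LD1_c2 LD2_c3 LD3_c43) (LK LD1_c0 LD2_c58 LD3_c50) Lrfl Lrfl
theorem f180080 : Led Lsl_at (LP (LK LD1_c1 LD2_c9 LD3_c22)) = (LP (LK LD1_c2 LD2_c24 LD3_c27)) :=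
  Lre_a IH (LK LD1_c1 LD2_c9 LD3_c22) (LK LD1_c2 LD2_c24 LD3_c27) Lrfl Lrfl
theorem f180081 : Led Lsl_df (LP (LK LD1_c2 LD2_c3 LD3_c43)) = (LP (LK LD1_c2 LD2_c24 LD3_c27)) :=
  Lgr Lrot18 (Lpr_at (f180053 IH) (Lpr_dt (K14.f180071 IH) (Lpr_at (f180080 IH) (Lpn (LP (LK LD1_c2 LD2_c24 LD3_c27))))))
theorem f276465 : Led Lsl_at (LP (LK LD1_c2 LD2_c23 LD3_c55)) = (LP (LK LD1_c1 LD2_c8 LD3_c61)) :=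
  Lre_a IH (LK LD1_c2 LD2_c23 LD3_c55) (LK LD1_c1 LD2_c8 LD3_c61) Lrfl Lrfl
theorem f276638 : Led Lsl_ct (LP (LK LD1_c2 LD2_c3 LD3_c43)) = (LP (LK LD1_c2 LD2_c6 LD3_c3)) :=
  Lgr Lrot133 (Lpr_df (f180081 IH) (Lpr_ft (f276627 IH) (Lpr_at (f276465 IH) (Lpe (f1707 IH) (Lpe (f1708 IH) (Lpr_cf (f276427 IH) (Lpe (f223376 IH) (Lpe (K12.f223203 IH) (Lpe (K14.f247412 IH) (Lpn (LP (LK LD1_c2 LD2_c6 LD3_c3))))))))))))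
theorem f253266 : Led Lsl_cf (LP (LK LD1_c4 LD2_c52 LD3_c52)) = (LP (LK LD1_c4 LD2_c17 LD3_c16)) :=
  Lgr Lrot11 (Lpr_ct (K14.f253261 IH) (Lpn (LP (LK LD1_c4 LD2_c17 LD3_c16))))
theorem f267467 : Led Lsl_df (LP (LK LD1_c4 LD2_c52 LD3_c52)) = (LP (LK LD1_c4 LD2_c17 LD3_c17)) :=
  Lgr Lrot78 (Lpr_ft (K14.f253275 IH) (Lpr_dt (K15.f260997 IH) (Lpr_ft (K15.f267461 IH) (Lpn (LP (LK LD1_c4 LD2_c17 LD3_c17))))))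
theorem f267371 : Led Lsl_ct (LP (LK LD1_c4 LD2_c27 LD3_c39)) = (LP (LK LD1_c8 LD2_c24 LD3_c32)) :=
  Lgr Lrot59 (Lpr_cf (K15.f267334 IH) (Lpn (LP (LK LD1_c8 LD2_c24 LD3_c32))))
theorem f267503 : Led Lsl_cf (LP (LK LD1_c5 LD2_c28 LD3_c21)) = (LP (LK LD1_c8 LD2_c24 LD3_c27)) :=
  Lgr Lrot11 (Lpr_ct (K15.f267499 IH) (Lpn (LP (LK LD1_c8 LD2_c24 LD3_c27))))
theorem f274881 : Led Lsl_gt (LP (LK LD1_c4 LD2_c19 LD3_c24)) = (LP (LK LD1_c4 LD2_c12 LD3_c25)) :=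
  Lgr Lrot49 (Lpe (K15.f261095 IH) (Lpr_gf (f267402 IH) (Lpe (f267371 IH) (Lpr_gt (K12.f168601 IH) (Lpe (K12.f223215 IH) (Lpr_gt (f274879 IH) (Lpr_dt (K15.f7841 IH) (Lpr_cf (f267503 IH) (Lpe (K15.f166509 IH) (Lpn (LP (LK LD1_c4 LD2_c12 LD3_c25))))))))))))
theorem f276652 : Led Lsl_gf (LP (LK LD1_c2 LD2_c3 LD3_c43)) = (LP (LK LD1_c2 LD2_c7 LD3_c22)) :=
  Lgr Lrot147 (Lpr_ct (f276638 IH) (Lpr_gt (K14.f246149 IH) (Lpe (f253266 IH) (Lpr_df (f267467 IH) (Lpe (K15.f166507 IH) (Lpe (f274881 IH) (Lpe (K15.f261093 IH) (Lpr_gf (K15.f261075 IH) (Lpe (K14.f246733 IH) (Lpn (LP (LK LD1_c2 LD2_c7 LD3_c22))))))))))))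
theorem f180062 : Led Lsl_at (LP (LK LD1_c0 LD2_c58 LD3_c50)) = (LP (LK LD1_c2 LD2_c3 LD3_c43)) :=
  Lre_a IH (LK LD1_c0 LD2_c58 LD3_c50) (LK LD1_c2 LD2_c3 LD3_c43) Lrfl Lrfl
theorem f276654 : Led Lsl_ff (LP (LK LD1_c0 LD2_c58 LD3_c50)) = (LP (LK LD1_c1 LD2_c0 LD3_c44)) :=
  Lgr Lrot52 (Lpr_at (f180062 IH) (Lpr_gf (f276652 IH) (Lpe (K14.f170291 IH) (Lpn (LP (LK LD1_c1 LD2_c0 LD3_c44))))))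
theorem f276660 : Led Lsl_ft (LP (LK LD1_c0 LD2_c58 LD3_c50)) = (LP (LK LD1_c1 LD2_c0 LD3_c44)) :=
  Lgr Lrot48 (Lpr_ff (f276654 IH) (Lpn (LP (LK LD1_c1 LD2_c0 LD3_c44))))
theorem f265391 : Led Lsl_at (LP (LK LD1_c1 LD2_c0 LD3_c44)) = (LP (LK LD1_c2 LD2_c7 LD3_c24)) :=
  Lre_a IH (LK LD1_c1 LD2_c0 LD3_c44) (LK LD1_c2 LD2_c7 LD3_c24) Lrfl Lrfl
theorem f276668 : Led Lsl_gt (LP (LK LD1_c2 LD2_c3 LD3_c42)) = (LP (LK LD1_c2 LD2_c7 LD3_c24)) :=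
  Lgr Lrot46 (Lpe (K14.f53333 IH) (Lpr_ft (f276660 IH) (Lpr_at (f265391 IH) (Lpn (LP (LK LD1_c2 LD2_c7 LD3_c24))))))
theorem f180085 : Led Lsl_dt (LP (LK LD1_c2 LD2_c3 LD3_c43)) = (LP (LK LD1_c2 LD2_c24 LD3_c27)) :=
  Lgr Lrot42 (Lpr_df (f180081 IH) (Lpn (LP (LK LD1_c2 LD2_c24 LD3_c27))))
theorem f270914 : Led Lsl_at (LP (LK LD1_c1 LD2_c8 LD3_c61)) = (LP (LK LD1_c2 LD2_c23 LD3_c55)) :=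
  Lre_a IH (LK LD1_c1 LD2_c8 LD3_c61) (LK LD1_c2 LD2_c23 LD3_c55) Lrfl Lrfl
theorem f253251 : Led Lsl_at (LP (LK LD1_c2 LD2_c7 LD3_c24)) = (LP (LK LD1_c1 LD2_c0 LD3_c44)) :=
  Lre_a IH (LK LD1_c2 LD2_c7 LD3_c24) (LK LD1_c1 LD2_c0 LD3_c44) Lrfl Lrfl
theorem f270915 : Led Lsl_dt (LP (LK LD1_c2 LD2_c23 LD3_c55)) = (LP (LK LD1_c2 LD2_c7 LD3_c24)) :=
  Lgr Lrot44 (Lpe (f270914 IH) (Lpr_df (f270912 IH) (Lpe (f253251 IH) (Lpn (LP (LK LD1_c2 LD2_c7 LD3_c24))))))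
theorem f276631 : Led Lsl_ff (LP (LK LD1_c2 LD2_c3 LD3_c43)) = (LP (LK LD1_c2 LD2_c7 LD3_c24)) :=
  Lgr Lrot19 (Lpr_dt (f180085 IH) (Lpr_ft (f276627 IH) (Lpr_dt (f270915 IH) (Lpn (LP (LK LD1_c2 LD2_c7 LD3_c24))))))
theorem f276646 : Led Lsl_cf (LP (LK LD1_c2 LD2_c7 LD3_c24)) = (LP (LK LD1_c1 LD2_c15 LD3_c43)) :=
  Lgr Lrot108 (Lpe (f276631 IH) (Lpr_ct (f276638 IH) (Lpr_ft (K15.f265396 IH) (Lpn (LP (LK LD1_c1 LD2_c15 LD3_c43))))))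
theorem f44733 : Led Lsl_bt (LP (LK LD1_c1 LD2_c15 LD3_c43)) = (LP (LK LD1_c2 LD2_c37 LD3_c20)) :=
  Lre_b IH (LK LD1_c1 LD2_c15 LD3_c43) (LK LD1_c2 LD2_c37 LD3_c20) Lrfl Lrfl
theorem f276675 : Led Lsl_gf (LP (LK LD1_c2 LD2_c1 LD3_c52)) = (LP (LK LD1_c2 LD2_c37 LD3_c20)) :=
  Lgr Lrot181 (Lpr_ct (K15.f219300 IH) (Lpe (K15.f257935 IH) (Lpr_cf (K13.f219197 IH) (Lpe (K15.f233729 IH) (Lpr_gt (K14.f190858 IH) (Lpe (K14.f251725 IH) (Lpr_ct (K14.f200356 IH) (Lpr_gt (f276668 IH) (Lpr_cf (f276646 IH) (Lpr_bt (f44733 IH) (Lpn (LP (LK LD1_c2 LD2_c37 LD3_c20)))))))))))))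
theorem f187541 : Led Lsl_et (LP (LK LD1_c2 LD2_c37 LD3_c20)) = (LP (LK LD1_c1 LD2_c15 LD3_c41)) :=
  Lre_e IH (LK LD1_c2 LD2_c37 LD3_c20) (LK LD1_c1 LD2_c15 LD3_c41) Lrfl Lrfl
theorem f187543 : Led Lsl_cf (LP (LK LD1_c2 LD2_c37 LD3_c20)) = (LP (LK LD1_c2 LD2_c10 LD3_c49)) :=
  Lgr Lrot39 (Lpr_et (f187541 IH) (Lpr_ct (K10.f187535 IH) (Lpr_et (K14.f187542 IH) (Lpn (LP (LK LD1_c2 LD2_c10 LD3_c49))))))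
theorem f201111 : Led Lsl_gt (LP (LK LD1_c4 LD2_c3 LD3_c39)) = (LP (LK LD1_c1 LD2_c58 LD3_c49)) :=
  Lre_g IH (LK LD1_c4 LD2_c3 LD3_c39) (LK LD1_c1 LD2_c58 LD3_c49) Lrfl Lrfl
theorem f276689 : Led Lsl_dt (LP (LK LD1_c2 LD2_c1 LD3_c52)) = (LP (LK LD1_c4 LD2_c3 LD3_c39)) :=
  Lgr Lrot57 (Lpr_gf (f276675 IH) (Lpr_cf (f187543 IH) (Lpr_gt (K14.f253465 IH) (Lpe (K14.f247405 IH) (Lpr_gt (K14.f7877 IH) (Lpr_dt (K12.f7815 IH) (Lpr_cf (K11.f201093 IH) (Lpe (K12.f201103 IH) (Lpe (f201111 IH) (Lpn (LP (LK LD1_c4 LD2_c3 LD3_c39))))))))))))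
theorem f201252 : Led Lsl_et (LP (LK LD1_c0 LD2_c56 LD3_c13)) = (LP (LK LD1_c1 LD2_c58 LD3_c50)) :=
  Lre_e IH (LK LD1_c0 LD2_c56 LD3_c13) (LK LD1_c1 LD2_c58 LD3_c50) Lrfl Lrfl
theorem f201235 : Led Lsl_gt (LP (LK LD1_c1 LD2_c58 LD3_c50)) = (LP (LK LD1_c4 LD2_c3 LD3_c42)) :=
  Lre_g IH (LK LD1_c1 LD2_c58 LD3_c50) (LK LD1_c4 LD2_c3 LD3_c42) Lrfl Lrfl
theorem f187547 : Led Lsl_et (LP (LK LD1_c1 LD2_c15 LD3_c41)) = (LP (LK LD1_c2 LD2_c37 LD3_c20)) :=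
  Lre_e IH (LK LD1_c1 LD2_c15 LD3_c41) (LK LD1_c2 LD2_c37 LD3_c20) Lrfl Lrfl
theorem f187540 : Led Lsl_dt (LP (LK LD1_c2 LD2_c37 LD3_c19)) = (LP (LK LD1_c1 LD2_c15 LD3_c41)) :=
  Lre_d IH (LK LD1_c2 LD2_c37 LD3_c19) (LK LD1_c1 LD2_c15 LD3_c41) Lrfl Lrfl
theorem f265777 : Led Lsl_df (LP (LK LD1_c5 LD2_c12 LD3_c34)) = (LP (LK LD1_c4 LD2_c27 LD3_c44)) :=
  Lgr Lrot153 (Lpr_gt (K15.f265771 IH) (Lpr_dt (f187540 IH) (Lpr_cf (K12.f187538 IH) (Lpe (K14.f44269 IH) (Lpe (K14.f238279 IH) (Lpr_df (K14.f253456 IH) (Lpe (K14.f170670 IH) (Lpe (K14.f170662 IH) (Lpr_gt (K14.f247540 IH) (Lpn (LP (LK LD1_c4 LD2_c27 LD3_c44))))))))))))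
theorem f276691 : Led Lsl_ef (LP (LK LD1_c4 LD2_c3 LD3_c42)) = (LP (LK LD1_c4 LD2_c27 LD3_c44)) :=
  Lgr Lrot17 (Lpe (f201235 IH) (Lpe (f201252 IH) (Lpr_dt (K12.f201089 IH) (Lpe (f201111 IH) (Lpe (f276689 IH) (Lpr_gf (f276675 IH) (Lpe (f187547 IH) (Lpr_dt (K15.f187548 IH) (Lpe (K15.f265771 IH) (Lpr_df (f265777 IH) (Lpn (LP (LK LD1_c4 LD2_c27 LD3_c44)))))))))))))
theorem f267454 : Led Lsl_et (LP (LK LD1_c1 LD2_c13 LD3_c32)) = (LP (LK LD1_c2 LD2_c33 LD3_c10)) :=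
  Lre_e IH (LK LD1_c1 LD2_c13 LD3_c32) (LK LD1_c2 LD2_c33 LD3_c10) Lrfl Lrfl
theorem f256302 : Led Lsl_gt (LP (LK LD1_c4 LD2_c8 LD3_c9)) = (LP (LK LD1_c2 LD2_c33 LD3_c10)) :=
  Lgr Lrot9 (Lpe (K12.f47561 IH) (Lpe (K12.f212468 IH) (Lpr_ct (K10.f43931 IH) (Lpr_gt (K14.f249074 IH) (Lpr_ct (K14.f249067 IH) (Lpe (K14.f249068 IH) (Lpr_cf (K14.f256296 IH) (Lpr_gf (K14.f256298 IH) (Lpe (K9.f183919 IH) (Lpn (LP (LK LD1_c2 LD2_c33 LD3_c10))))))))))))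
theorem f261004 : Led Lsl_df (LP (LK LD1_c4 LD2_c3 LD3_c37)) = (LP (LK LD1_c4 LD2_c8 LD3_c58)) :=
  Lgr Lrot38 (Lpr_dt (K15.f260997 IH) (Lpn (LP (LK LD1_c4 LD2_c8 LD3_c58))))
theorem f267459 : Led Lsl_dt (LP (LK LD1_c4 LD2_c52 LD3_c52)) = (LP (LK LD1_c4 LD2_c17 LD3_c17)) :=
  Lgr Lrot60 (Lpr_ff (K14.f253270 IH) (Lpr_df (f261004 IH) (Lpr_ff (K15.f267451 IH) (Lpn (LP (LK LD1_c4 LD2_c17 LD3_c17))))))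
theorem f276697 : Led Lsl_gt (LP (LK LD1_c4 LD2_c3 LD3_c42)) = (LP (LK LD1_c4 LD2_c52 LD3_c52)) :=
  Lgr Lrot137 (Lpr_ef (f276691 IH) (Lpe (f265777 IH) (Lpe (K13.f183955 IH) (Lpe (K13.f183900 IH) (Lpr_et (f267454 IH) (Lpe (f256302 IH) (Lpe (K12.f47646 IH) (Lpr_dt (K12.f47677 IH) (Lpr_gf (K15.f267448 IH) (Lpe (f267459 IH) (Lpn (LP (LK LD1_c4 LD2_c52 LD3_c52)))))))))))))
theorem f276699 : Led Lsl_df (LP (LK LD1_c4 LD2_c3 LD3_c42)) = (LP (LK LD1_c2 LD2_c8 LD3_c7)) :=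
  Lgr Lrot155 (Lpr_gt (f276697 IH) (Lpr_ct (K14.f253261 IH) (Lpr_gt (K14.f246158 IH) (Lpe (K14.f253254 IH) (Lpe (f270912 IH) (Lpe (f1707 IH) (Lpe (f170919 IH) (Lpr_cf (f219769 IH) (Lpe (K12.f219761 IH) (Lpn (LP (LK LD1_c2 LD2_c8 LD3_c7))))))))))))
theorem f220730 : Led Lsl_et (LP (LK LD1_c2 LD2_c8 LD3_c3)) = (LP (LK LD1_c1 LD2_c1 LD3_c12)) :=
  Lre_e IH (LK LD1_c2 LD2_c8 LD3_c3) (LK LD1_c1 LD2_c1 LD3_c12) Lrfl Lrfl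
theorem f220676 : Led Lsl_dt (LP (LK LD1_c2 LD2_c5 LD3_c18)) = (LP (LK LD1_c0 LD2_c59 LD3_c42)) :=
  Lre_d IH (LK LD1_c2 LD2_c5 LD3_c18) (LK LD1_c0 LD2_c59 LD3_c42) Lrfl Lrfl
theorem f276707 : Led Lsl_ef (LP (LK LD1_c8 LD2_c30 LD3_c52)) = (LP (LK LD1_c4 LD2_c17 LD3_c17)) :=
  Lgr Lrot114 (Lpr_gt (K14.f220663 IH) (Lpe (K13.f220641 IH) (Lpr_dt (f220676 IH) (Lpe (K13.f220724 IH) (Lpe (K13.f29018 IH) (Lpr_et (f220730 IH) (Lpr_gt (K12.f47815 IH) (Lpe (f276699 IH) (Lpr_gt (f276697 IH) (Lpr_df (f267467 IH) (Lpn (LP (LK LD1_c4 LD2_c17 LD3_c17)))))))))))))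
theorem f276715 : Led Lsl_et (LP (LK LD1_c8 LD2_c30 LD3_c52)) = (LP (LK LD1_c4 LD2_c17 LD3_c17)) :=
  Lgr Lrot87 (Lpr_ef (f276707 IH) (Lpn (LP (LK LD1_c4 LD2_c17 LD3_c17))))
theorem f276719 : Led Lsl_et (LP (LK LD1_c2 LD2_c5 LD3_c61)) = (LP (LK LD1_c4 LD2_c17 LD3_c19)) :=
  Lre_e IH (LK LD1_c2 LD2_c5 LD3_c61) (LK LD1_c4 LD2_c17 LD3_c19) Lrfl Lrfl
theorem f276720 : Led Lsl_bf (LP (LK LD1_c8 LD2_c30 LD3_c52)) = (LP (LK LD1_c4 LD2_c17 LD3_c19)) :=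
  Lgr Lrot96 (Lpr_et (f276715 IH) (Lpr_bt (K15.f166490 IH) (Lpr_et (f276719 IH) (Lpn (LP (LK LD1_c4 LD2_c17 LD3_c19))))))
theorem f250987 : Led Lsl_df (LP (LK LD1_c5 LD2_c21 LD3_c45)) = (LP (LK LD1_c8 LD2_c30 LD3_c52)) :=
  Lgr Lrot38 (Lpr_dt (K14.f250983 IH) (Lpn (LP (LK LD1_c8 LD2_c30 LD3_c52))))
theorem f271106 : Led Lsl_bt (LP (LK LD1_c5 LD2_c21 LD3_c45)) = (LP (LK LD1_c2 LD2_c37 LD3_c29)) :=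
  Lre_b IH (LK LD1_c5 LD2_c21 LD3_c45) (LK LD1_c2 LD2_c37 LD3_c29) Lrfl Lrfl
theorem f276729 : Led Lsl_dt (LP (LK LD1_c2 LD2_c37 LD3_c29)) = (LP (LK LD1_c4 LD2_c17 LD3_c19)) :=
  Lgr Lrot79 (Lpe (f271106 IH) (Lpr_df (f250987 IH) (Lpr_bf (f276720 IH) (Lpn (LP (LK LD1_c4 LD2_c17 LD3_c19))))))
theorem f254406 : Led Lsl_gt (LP (LK LD1_c5 LD2_c21 LD3_c52)) = (LP (LK LD1_c2 LD2_c37 LD3_c29)) :=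
  Lre_g IH (LK LD1_c5 LD2_c21 LD3_c52) (LK LD1_c2 LD2_c37 LD3_c29) Lrfl Lrfl
theorem f254415 : Led Lsl_et (LP (LK LD1_c10 LD2_c34 LD3_c1)) = (LP (LK LD1_c5 LD2_c21 LD3_c52)) :=
  Lre_e IH (LK LD1_c10 LD2_c34 LD3_c1) (LK LD1_c5 LD2_c21 LD3_c52) Lrfl Lrfl
theorem f256322 : Led Lsl_et (LP (LK LD1_c0 LD2_c35 LD3_c16)) = (LP (LK LD1_c1 LD2_c16 LD3_c9)) :=
  Lre_e IH (LK LD1_c0 LD2_c35 LD3_c16) (LK LD1_c1 LD2_c16 LD3_c9) Lrfl Lrfl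
theorem f247050 : Led Lsl_gt (LP (LK LD1_c2 LD2_c38 LD3_c28)) = (LP (LK LD1_c1 LD2_c16 LD3_c9)) :=
  Lre_g IH (LK LD1_c2 LD2_c38 LD3_c28) (LK LD1_c1 LD2_c16 LD3_c9) Lrfl Lrfl
theorem f256493 : Led Lsl_et (LP (LK LD1_c5 LD2_c9 LD3_c31)) = (LP (LK LD1_c2 LD2_c38 LD3_c28)) :=
  Lgr Lrot185 (Lpr_dt (K15.f256489 IH) (Lpe (K14.f256313 IH) (Lpr_df (K14.f253291 IH) (Lpe (K10.f187512 IH) (Lpe (K12.f199035 IH) (Lpr_dt (K12.f167845 IH) (Lpe (K9.f42112 IH) (Lpe (K13.f167824 IH) (Lpr_et (f256322 IH) (Lpe (f247050 IH) (Lpn (LP (LK LD1_c2 LD2_c38 LD3_c28)))))))))))))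
theorem f253364 : Led Lsl_et (LP (LK LD1_c1 LD2_c15 LD3_c46)) = (LP (LK LD1_c2 LD2_c37 LD3_c29)) :=
  Lre_e IH (LK LD1_c1 LD2_c15 LD3_c46) (LK LD1_c2 LD2_c37 LD3_c29) Lrfl Lrfl
theorem f224204 : Led Lsl_dt (LP (LK LD1_c1 LD2_c16 LD3_c9)) = (LP (LK LD1_c2 LD2_c38 LD3_c29)) :=
  Lre_d IH (LK LD1_c1 LD2_c16 LD3_c9) (LK LD1_c2 LD2_c38 LD3_c29) Lrfl Lrfl
theorem f224414 : Led Lsl_gt (LP (LK LD1_c2 LD2_c38 LD3_c29)) = (LP (LK LD1_c5 LD2_c23 LD3_c53)) :=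
  Lre_g IH (LK LD1_c2 LD2_c38 LD3_c29) (LK LD1_c5 LD2_c23 LD3_c53) Lrfl Lrfl
theorem f256509 : Led Lsl_dt (LP (LK LD1_c10 LD2_c34 LD3_c1)) = (LP (LK LD1_c5 LD2_c23 LD3_c53)) :=
  Lgr Lrot56 (Lpr_et (f254415 IH) (Lpr_gt (f254406 IH) (Lpe (f253364 IH) (Lpe (K14.f253291 IH) (Lpr_gt (K14.f256313 IH) (Lpe (K15.f256489 IH) (Lpr_et (f256493 IH) (Lpr_gt (f247050 IH) (Lpr_dt (f224204 IH) (Lpr_gt (f224414 IH) (Lpn (LP (LK LD1_c5 LD2_c23 LD3_c53)))))))))))))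
theorem f224203 : Led Lsl_et (LP (LK LD1_c1 LD2_c16 LD3_c9)) = (LP (LK LD1_c0 LD2_c35 LD3_c16)) :=
  Lre_e IH (LK LD1_c1 LD2_c16 LD3_c9) (LK LD1_c0 LD2_c35 LD3_c16) Lrfl Lrfl
theorem f224413 : Led Lsl_et (LP (LK LD1_c2 LD2_c37 LD3_c57)) = (LP (LK LD1_c1 LD2_c15 LD3_c57)) :=
  Lre_e IH (LK LD1_c2 LD2_c37 LD3_c57) (LK LD1_c1 LD2_c15 LD3_c57) Lrfl Lrfl
theorem f256813 : Led Lsl_et (LP (LK LD1_c1 LD2_c15 LD3_c57)) = (LP (LK LD1_c2 LD2_c37 LD3_c57)) :=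
  Lre_e IH (LK LD1_c1 LD2_c15 LD3_c57) (LK LD1_c2 LD2_c37 LD3_c57) Lrfl Lrfl
theorem f256814 : Led Lsl_df (LP (LK LD1_c4 LD2_c10 LD3_c40)) = (LP (LK LD1_c2 LD2_c37 LD3_c57)) :=
  Lgr Lrot70 (Lpr_et (K15.f251895 IH) (Lpr_dt (K14.f251891 IH) (Lpr_et (K15.f251896 IH) (Lpr_dt (K15.f256805 IH) (Lpr_et (f256813 IH) (Lpn (LP (LK LD1_c2 LD2_c37 LD3_c57))))))))
theorem f276743 : Led Lsl_gf (LP (LK LD1_c4 LD2_c10 LD3_c40)) = (LP (LK LD1_c4 LD2_c17 LD3_c19)) :=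
  Lgr Lrot134 (Lpr_df (f256814 IH) (Lpr_et (f224413 IH) (Lpe (K15.f224347 IH) (Lpe (f224203 IH) (Lpr_dt (f224204 IH) (Lpr_gt (f224414 IH) (Lpe (f256509 IH) (Lpr_et (f254415 IH) (Lpr_gt (f254406 IH) (Lpr_dt (f276729 IH) (Lpn (LP (LK LD1_c4 LD2_c17 LD3_c19)))))))))))))
theorem f254413 : Led Lsl_ct (LP (LK LD1_c10 LD2_c34 LD3_c0)) = (LP (LK LD1_c5 LD2_c21 LD3_c52)) :=
  Lre_c IH (LK LD1_c10 LD2_c34 LD3_c0) (LK LD1_c5 LD2_c21 LD3_c52) Lrfl Lrfl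
theorem f256507 : Led Lsl_ef (LP (LK LD1_c5 LD2_c9 LD3_c31)) = (LP (LK LD1_c2 LD2_c38 LD3_c28)) :=
  Lgr Lrot88 (Lpr_et (f256493 IH) (Lpn (LP (LK LD1_c2 LD2_c38 LD3_c28))))
theorem f256520 : Led Lsl_ct (LP (LK LD1_c5 LD2_c23 LD3_c52)) = (LP (LK LD1_c2 LD2_c38 LD3_c28)) :=
  Lre_c IH (LK LD1_c5 LD2_c23 LD3_c52) (LK LD1_c2 LD2_c38 LD3_c28) Lrfl Lrfl
theorem f256522 : Led Lsl_et (LP (LK LD1_c10 LD2_c9 LD3_c44)) = (LP (LK LD1_c5 LD2_c23 LD3_c52)) :=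
  Lgr Lrot158 (Lpe (K15.f192858 IH) (Lpr_ef (f256507 IH) (Lpe (f256520 IH) (Lpn (LP (LK LD1_c5 LD2_c23 LD3_c52))))))
theorem f224154 : Led Lsl_et (LP (LK LD1_c0 LD2_c35 LD3_c20)) = (LP (LK LD1_c1 LD2_c15 LD3_c48)) :=
  Lre_e IH (LK LD1_c0 LD2_c35 LD3_c20) (LK LD1_c1 LD2_c15 LD3_c48) Lrfl Lrfl
theorem f224268 : Led Lsl_et (LP (LK LD1_c4 LD2_c55 LD3_c9)) = (LP (LK LD1_c9 LD2_c41 LD3_c50)) :=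
  Lre_e IH (LK LD1_c4 LD2_c55 LD3_c9) (LK LD1_c9 LD2_c41 LD3_c50) Lrfl Lrfl
theorem f256528 : Led Lsl_gf (LP (LK LD1_c9 LD2_c41 LD3_c50)) = (LP (LK LD1_c5 LD2_c23 LD3_c52)) :=
  Lgr Lrot141 (Lpe (f224268 IH) (Lpe (K15.f224264 IH) (Lpr_gt (K14.f217344 IH) (Lpe (K13.f218234 IH) (Lpr_et (f224154 IH) (Lpr_gt (K14.f194810 IH) (Lpr_dt (K14.f215266 IH) (Lpr_gt (K14.f215280 IH) (Lpr_df (K15.f256323 IH) (Lpr_et (f256522 IH) (Lpn (LP (LK LD1_c5 LD2_c23 LD3_c52)))))))))))))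
theorem f224269 : Led Lsl_dt (LP (LK LD1_c9 LD2_c41 LD3_c50)) = (LP (LK LD1_c17 LD2_c50 LD3_c13)) :=
  Lre_d IH (LK LD1_c9 LD2_c41 LD3_c50) (LK LD1_c17 LD2_c50 LD3_c13) Lrfl Lrfl
theorem f224313 : Led Lsl_gt (LP (LK LD1_c17 LD2_c50 LD3_c13)) = (LP (LK LD1_c27 LD2_c37 LD3_c23)) :=
  Lre_g IH (LK LD1_c17 LD2_c50 LD3_c13) (LK LD1_c27 LD2_c37 LD3_c23) Lrfl Lrfl
theorem f256504 : Led Lsl_ct (LP (LK LD1_c2 LD2_c38 LD3_c28)) = (LP (LK LD1_c5 LD2_c23 LD3_c52)) :=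
  Lre_c IH (LK LD1_c2 LD2_c38 LD3_c28) (LK LD1_c5 LD2_c23 LD3_c52) Lrfl Lrfl
theorem f256514 : Led Lsl_df (LP (LK LD1_c10 LD2_c34 LD3_c1)) = (LP (LK LD1_c5 LD2_c23 LD3_c53)) :=
  Lgr Lrot38 (Lpr_dt (f256509 IH) (Lpn (LP (LK LD1_c5 LD2_c23 LD3_c53))))
theorem f256511 : Led Lsl_ct (LP (LK LD1_c19 LD2_c8 LD3_c23)) = (LP (LK LD1_c10 LD2_c34 LD3_c1)) :=
  Lre_c IH (LK LD1_c19 LD2_c8 LD3_c23) (LK LD1_c10 LD2_c34 LD3_c1) Lrfl Lrfl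
theorem f256530 : Led Lsl_dt (LP (LK LD1_c27 LD2_c37 LD3_c23)) = (LP (LK LD1_c19 LD2_c8 LD3_c23)) :=
  Lgr Lrot105 (Lpe (f224313 IH) (Lpe (f224269 IH) (Lpr_gf (f256528 IH) (Lpe (f256504 IH) (Lpr_gt (f247050 IH) (Lpr_dt (f224204 IH) (Lpr_gt (f224414 IH) (Lpe (f256514 IH) (Lpe (f256511 IH) (Lpn (LP (LK LD1_c19 LD2_c8 LD3_c23))))))))))))
theorem f256534 : Led Lsl_df (LP (LK LD1_c27 LD2_c37 LD3_c23)) = (LP (LK LD1_c19 LD2_c8 LD3_c23)) :=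
  Lgr Lrot38 (Lpr_dt (f256530 IH) (Lpn (LP (LK LD1_c19 LD2_c8 LD3_c23))))
theorem f194928 : Led Lsl_et (LP (LK LD1_c2 LD2_c37 LD3_c32)) = (LP (LK LD1_c5 LD2_c22 LD3_c0)) :=
  Lre_e IH (LK LD1_c2 LD2_c37 LD3_c32) (LK LD1_c5 LD2_c22 LD3_c0) Lrfl Lrfl
theorem f256536 : Led Lsl_et (LP (LK LD1_c19 LD2_c8 LD3_c23)) = (LP (LK LD1_c10 LD2_c34 LD3_c0)) :=
  Lre_e IH (LK LD1_c19 LD2_c8 LD3_c23) (LK LD1_c10 LD2_c34 LD3_c0) Lrfl Lrfl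
theorem f256539 : Led Lsl_gf (LP (LK LD1_c5 LD2_c22 LD3_c0)) = (LP (LK LD1_c10 LD2_c34 LD3_c0)) :=
  Lgr Lrot141 (Lpe (f194928 IH) (Lpr_dt (K14.f215266 IH) (Lpr_gt (K14.f215280 IH) (Lpr_df (K15.f256323 IH) (Lpr_et (f256522 IH) (Lpe (f256528 IH) (Lpr_dt (f224269 IH) (Lpr_gt (f224313 IH) (Lpr_df (f256534 IH) (Lpr_et (f256536 IH) (Lpn (LP (LK LD1_c10 LD2_c34 LD3_c0)))))))))))))
theorem f194888 : Led Lsl_dt (LP (LK LD1_c5 LD2_c22 LD3_c0)) = (LP (LK LD1_c10 LD2_c34 LD3_c22)) :=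
  Lre_d IH (LK LD1_c5 LD2_c22 LD3_c0) (LK LD1_c10 LD2_c34 LD3_c22) Lrfl Lrfl
theorem f224350 : Led Lsl_et (LP (LK LD1_c5 LD2_c22 LD3_c47)) = (LP (LK LD1_c2 LD2_c37 LD3_c56)) :=
  Lre_e IH (LK LD1_c5 LD2_c22 LD3_c47) (LK LD1_c2 LD2_c37 LD3_c56) Lrfl Lrfl
theorem f224351 : Led Lsl_dt (LP (LK LD1_c5 LD2_c22 LD3_c47)) = (LP (LK LD1_c10 LD2_c35 LD3_c53)) :=
  Lre_d IH (LK LD1_c5 LD2_c22 LD3_c47) (LK LD1_c10 LD2_c35 LD3_c53) Lrfl Lrfl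
theorem f224352 : Led Lsl_gt (LP (LK LD1_c10 LD2_c34 LD3_c22)) = (LP (LK LD1_c10 LD2_c35 LD3_c53)) :=
  Lgr Lrot112 (Lpe (f194888 IH) (Lpr_et (K14.f194891 IH) (Lpe (K14.f194810 IH) (Lpe (f224154 IH) (Lpr_dt (K13.f218234 IH) (Lpe (K14.f217344 IH) (Lpr_df (K15.f224264 IH) (Lpe (K15.f171977 IH) (Lpe (f224350 IH) (Lpr_dt (f224351 IH) (Lpn (LP (LK LD1_c10 LD2_c35 LD3_c53)))))))))))))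
theorem f224357 : Led Lsl_dt (LP (LK LD1_c10 LD2_c35 LD3_c53)) = (LP (LK LD1_c5 LD2_c22 LD3_c47)) :=
  Lre_d IH (LK LD1_c10 LD2_c35 LD3_c53) (LK LD1_c5 LD2_c22 LD3_c47) Lrfl Lrfl
theorem f224361 : Led Lsl_ct (LP (LK LD1_c2 LD2_c37 LD3_c57)) = (LP (LK LD1_c5 LD2_c22 LD3_c47)) :=
  Lre_c IH (LK LD1_c2 LD2_c37 LD3_c57) (LK LD1_c5 LD2_c22 LD3_c47) Lrfl Lrfl
theorem f276746 : Led Lsl_dt (LP (LK LD1_c4 LD2_c10 LD3_c40)) = (LP (LK LD1_c2 LD2_c37 LD3_c57)) :=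
  Lgr Lrot105 (Lpr_gf (f276743 IH) (Lpe (f276729 IH) (Lpe (f254406 IH) (Lpe (f254413 IH) (Lpe (f256539 IH) (Lpr_dt (f194888 IH) (Lpr_gt (f224352 IH) (Lpr_dt (f224357 IH) (Lpe (f224361 IH) (Lpn (LP (LK LD1_c2 LD2_c37 LD3_c57))))))))))))
theorem f215467 : Led Lsl_gt (LP (LK LD1_c4 LD2_c11 LD3_c9)) = (LP (LK LD1_c2 LD2_c2 LD3_c50)) :=
  Lre_g IH (LK LD1_c4 LD2_c11 LD3_c9) (LK LD1_c2 LD2_c2 LD3_c50) Lrfl Lrfl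
theorem f215540 : Led Lsl_et (LP (LK LD1_c8 LD2_c22 LD3_c19)) = (LP (LK LD1_c4 LD2_c11 LD3_c9)) :=
  Lre_e IH (LK LD1_c8 LD2_c22 LD3_c19) (LK LD1_c4 LD2_c11 LD3_c9) Lrfl Lrfl
theorem f276748 : Led Lsl_gt (LP (LK LD1_c2 LD2_c37 LD3_c57)) = (LP (LK LD1_c5 LD2_c22 LD3_c48)) :=
  Lre_g IH (LK LD1_c2 LD2_c37 LD3_c57) (LK LD1_c5 LD2_c22 LD3_c48) Lrfl Lrfl
theorem f276759 : Led Lsl_dt (LP (LK LD1_c8 LD2_c22 LD3_c19)) = (LP (LK LD1_c5 LD2_c22 LD3_c48)) :=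
  Lgr Lrot37 (Lpr_et (f215540 IH) (Lpr_gt (f215467 IH) (Lpr_dt (f215461 IH) (Lpr_gt (f258401 IH) (Lpe (K15.f184252 IH) (Lpr_et (f169421 IH) (Lpe (K15.f258310 IH) (Lpe (K15.f251895 IH) (Lpr_dt (f276746 IH) (Lpr_gt (f276748 IH) (Lpn (LP (LK LD1_c5 LD2_c22 LD3_c48)))))))))))))
theorem f215480 : Led Lsl_et (LP (LK LD1_c4 LD2_c11 LD3_c9)) = (LP (LK LD1_c8 LD2_c22 LD3_c19)) :=
  Lre_e IH (LK LD1_c4 LD2_c11 LD3_c9) (LK LD1_c8 LD2_c22 LD3_c19) Lrfl Lrfl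
theorem f41499 : Led Lsl_gt (LP (LK LD1_c5 LD2_c20 LD3_c24)) = (LP (LK LD1_c2 LD2_c39 LD3_c17)) :=
  Lre_g IH (LK LD1_c5 LD2_c20 LD3_c24) (LK LD1_c2 LD2_c39 LD3_c17) Lrfl Lrfl
theorem f215465 : Led Lsl_et (LP (LK LD1_c5 LD2_c25 LD3_c49)) = (LP (LK LD1_c2 LD2_c39 LD3_c17)) :=
  Lre_e IH (LK LD1_c5 LD2_c25 LD3_c49) (LK LD1_c2 LD2_c39 LD3_c17) Lrfl Lrfl
theorem f215466 : Led Lsl_dt (LP (LK LD1_c4 LD2_c11 LD3_c10)) = (LP (LK LD1_c2 LD2_c2 LD3_c50)) :=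
  Lre_d IH (LK LD1_c4 LD2_c11 LD3_c10) (LK LD1_c2 LD2_c2 LD3_c50) Lrfl Lrfl
theorem f215468 : Led Lsl_dt (LP (LK LD1_c5 LD2_c25 LD3_c49)) = (LP (LK LD1_c4 LD2_c11 LD3_c9)) :=
  Lgr Lrot136 (Lpr_et (f215465 IH) (Lpe (f41499 IH) (Lpe (K1.f41484 IH) (Lpr_dt (K1.f41487 IH) (Lpe (K11.f41528 IH) (Lpe (K14.f44641 IH) (Lpe (K14.f44732 IH) (Lpr_ef (f215456 IH) (Lpr_dt (f215466 IH) (Lpe (f215467 IH) (Lpn (LP (LK LD1_c4 LD2_c11 LD3_c9)))))))))))))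
theorem f42365 : Led Lsl_et (LP (LK LD1_c2 LD2_c39 LD3_c17)) = (LP (LK LD1_c5 LD2_c25 LD3_c49)) :=
  Lre_e IH (LK LD1_c2 LD2_c39 LD3_c17) (LK LD1_c5 LD2_c25 LD3_c49) Lrfl Lrfl
theorem f41514 : Led Lsl_dt (LP (LK LD1_c5 LD2_c25 LD3_c48)) = (LP (LK LD1_c2 LD2_c39 LD3_c17)) :=
  Lre_d IH (LK LD1_c5 LD2_c25 LD3_c48) (LK LD1_c2 LD2_c39 LD3_c17) Lrfl Lrfl
theorem f276765 : Led Lsl_ef (LP (LK LD1_c5 LD2_c25 LD3_c48)) = (LP (LK LD1_c5 LD2_c22 LD3_c48)) :=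
  Lgr Lrot73 (Lpr_dt (f41514 IH) (Lpr_et (f42365 IH) (Lpr_dt (f215468 IH) (Lpr_et (f215480 IH) (Lpr_dt (f276759 IH) (Lpn (LP (LK LD1_c5 LD2_c22 LD3_c48))))))))
theorem f276775 : Led Lsl_et (LP (LK LD1_c5 LD2_c25 LD3_c48)) = (LP (LK LD1_c5 LD2_c22 LD3_c48)) :=
  Lgr Lrot87 (Lpr_ef (f276765 IH) (Lpn (LP (LK LD1_c5 LD2_c22 LD3_c48))))
theorem f267674 : Led Lsl_bt (LP (LK LD1_c4 LD2_c10 LD3_c61)) = (LP (LK LD1_c8 LD2_c21 LD3_c39)) :=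
  Lre_b IH (LK LD1_c4 LD2_c10 LD3_c61) (LK LD1_c8 LD2_c21 LD3_c39) Lrfl Lrfl
theorem f268099 : Led Lsl_ef (LP (LK LD1_c5 LD2_c21 LD3_c42)) = (LP (LK LD1_c8 LD2_c21 LD3_c39)) :=
  Lgr Lrot29 (Lpr_bt (K15.f268095 IH) (Lpr_et (f267863 IH) (Lpr_bt (f267674 IH) (Lpn (LP (LK LD1_c8 LD2_c21 LD3_c39))))))
theorem f276740 : Led Lsl_dt (LP (LK LD1_c8 LD2_c21 LD3_c39)) = (LP (LK LD1_c4 LD2_c10 LD3_c51)) :=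
  Lre_d IH (LK LD1_c8 LD2_c21 LD3_c39) (LK LD1_c4 LD2_c10 LD3_c51) Lrfl Lrfl
theorem f276741 : Led Lsl_gt (LP (LK LD1_c4 LD2_c10 LD3_c51)) = (LP (LK LD1_c4 LD2_c17 LD3_c19)) :=
  Lgr Lrot112 (Lpe (f276740 IH) (Lpe (f268099 IH) (Lpe (K15.f258151 IH) (Lpe (K15.f258165 IH) (Lpr_dt (K14.f190434 IH) (Lpe (K10.f41525 IH) (Lpe (K1.f41487 IH) (Lpe (K10.f41515 IH) (Lpe (K14.f41516 IH) (Lpr_dt (f276729 IH) (Lpn (LP (LK LD1_c4 LD2_c17 LD3_c19)))))))))))))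
theorem f276781 : Led Lsl_gf (LP (LK LD1_c8 LD2_c21 LD3_c39)) = (LP (LK LD1_c5 LD2_c22 LD3_c48)) :=
  Lgr Lrot138 (Lpr_dt (f276740 IH) (Lpr_gt (f276741 IH) (Lpe (f276729 IH) (Lpr_et (K14.f41516 IH) (Lpr_gt (K10.f41515 IH) (Lpe (K1.f41486 IH) (Lpr_dt (K1.f41454 IH) (Lpr_gt (f41499 IH) (Lpe (f41514 IH) (Lpr_et (f276775 IH) (Lpn (LP (LK LD1_c5 LD2_c22 LD3_c48)))))))))))))
theorem f268069 : Led Lsl_gf (LP (LK LD1_c5 LD2_c19 LD3_c25)) = (LP (LK LD1_c5 LD2_c18 LD3_c25)) :=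
  Lgr Lrot134 (Lpr_df (K15.f258145 IH) (Lpr_et (K15.f41513 IH) (Lpr_gt (K15.f41497 IH) (Lpe (K1.f41484 IH) (Lpr_dt (K1.f41487 IH) (Lpr_gt (K10.f41525 IH) (Lpe (K14.f190434 IH) (Lpr_et (K15.f258165 IH) (Lpr_gt (K15.f258151 IH) (Lpr_dt (K15.f268056 IH) (Lpn (LP (LK LD1_c5 LD2_c18 LD3_c25)))))))))))))
theorem f276787 : Led Lsl_ef (LP (LK LD1_c8 LD2_c21 LD3_c39)) = (LP (LK LD1_c5 LD2_c21 LD3_c42)) :=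
  Lgr Lrot17 (Lpr_gf (f276781 IH) (Lpe (f276775 IH) (Lpr_dt (f41514 IH) (Lpe (f41499 IH) (Lpe (K1.f41454 IH) (Lpe (K15.f41497 IH) (Lpe (K15.f41513 IH) (Lpe (K15.f258145 IH) (Lpr_gf (f268069 IH) (Lpe (K15.f268056 IH) (Lpn (LP (LK LD1_c5 LD2_c21 LD3_c42)))))))))))))
theorem f267671 : Led Lsl_ct (LP (LK LD1_c8 LD2_c21 LD3_c39)) = (LP (LK LD1_c15 LD2_c44 LD3_c6)) :=
  Lre_c IH (LK LD1_c8 LD2_c21 LD3_c39) (LK LD1_c15 LD2_c44 LD3_c6) Lrfl Lrfl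
theorem f276789 : Led Lsl_et (LP (LK LD1_c15 LD2_c44 LD3_c6)) = (LP (LK LD1_c10 LD2_c33 LD3_c39)) :=
  Lgr Lrot158 (Lpe (f267671 IH) (Lpr_ef (f276787 IH) (Lpe (K15.f258174 IH) (Lpn (LP (LK LD1_c10 LD2_c33 LD3_c39))))))
theorem f194896 : Led Lsl_gt (LP (LK LD1_c19 LD2_c9 LD3_c5)) = (LP (LK LD1_c10 LD2_c34 LD3_c22)) :=
  Lre_g IH (LK LD1_c19 LD2_c9 LD3_c5) (LK LD1_c10 LD2_c34 LD3_c22) Lrfl Lrfl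
theorem f276805 : Led Lsl_dt (LP (LK LD1_c15 LD2_c44 LD3_c6)) = (LP (LK LD1_c19 LD2_c9 LD3_c5)) :=
  Lgr Lrot136 (Lpr_et (f276789 IH) (Lpe (K15.f264005 IH) (Lpe (K15.f195847 IH) (Lpr_dt (K14.f195845 IH) (Lpe (K14.f194899 IH) (Lpe (K14.f46467 IH) (Lpe (K10.f46476 IH) (Lpe (K14.f194891 IH) (Lpr_dt (f194888 IH) (Lpe (f194896 IH) (Lpn (LP (LK LD1_c19 LD2_c9 LD3_c5)))))))))))))
theorem f276804 : Led Lsl_ft (LP (LK LD1_c8 LD2_c21 LD3_c38)) = (LP (LK LD1_c15 LD2_c44 LD3_c6)) :=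
  Lre_f IH (LK LD1_c8 LD2_c21 LD3_c38) (LK LD1_c15 LD2_c44 LD3_c6) Lrfl Lrfl
theorem f178863 : Led Lsl_dt (LP (LK LD1_c15 LD2_c44 LD3_c5)) = (LP (LK LD1_c8 LD2_c21 LD3_c38)) :=
  Lre_d IH (LK LD1_c15 LD2_c44 LD3_c5) (LK LD1_c8 LD2_c21 LD3_c38) Lrfl Lrfl
theorem f276815 : Led Lsl_ff (LP (LK LD1_c15 LD2_c44 LD3_c5)) = (LP (LK LD1_c19 LD2_c9 LD3_c5)) :=
  Lgr Lrot19 (Lpr_dt (f178863 IH) (Lpr_ft (f276804 IH) (Lpr_dt (f276805 IH) (Lpn (LP (LK LD1_c19 LD2_c9 LD3_c5))))))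
theorem f276824 : Led Lsl_at (LP (LK LD1_c15 LD2_c44 LD3_c5)) = (LP (LK LD1_c10 LD2_c35 LD3_c53)) :=
  Lgr Lrot26 (Lpr_ff (f276815 IH) (Lpr_gt (f194896 IH) (Lpr_gt (f224352 IH) (Lpn (LP (LK LD1_c10 LD2_c35 LD3_c53))))))
theorem f276832 : Led Lsl_ft (LP (LK LD1_c10 LD2_c35 LD3_c53)) = (LP (LK LD1_c19 LD2_c11 LD3_c34)) :=
  Lre_f IH (LK LD1_c10 LD2_c35 LD3_c53) (LK LD1_c19 LD2_c11 LD3_c34) Lrfl Lrfl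
theorem f276833 : Led Lsl_af (LP (LK LD1_c19 LD2_c9 LD3_c5)) = (LP (LK LD1_c19 LD2_c11 LD3_c34)) :=
  Lgr Lrot45 (Lpe (f276815 IH) (Lpr_at (f276824 IH) (Lpr_ft (f276832 IH) (Lpn (LP (LK LD1_c19 LD2_c11 LD3_c34))))))
theorem f276810 : Led Lsl_df (LP (LK LD1_c15 LD2_c44 LD3_c6)) = (LP (LK LD1_c19 LD2_c9 LD3_c5)) :=
  Lgr Lrot38 (Lpr_dt (f276805 IH) (Lpn (LP (LK LD1_c19 LD2_c9 LD3_c5))))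
theorem f276837 : Led Lsl_dt (LP (LK LD1_c10 LD2_c35 LD3_c54)) = (LP (LK LD1_c19 LD2_c11 LD3_c34)) :=
  Lre_d IH (LK LD1_c10 LD2_c35 LD3_c54) (LK LD1_c19 LD2_c11 LD3_c34) Lrfl Lrfl
theorem f276838 : Led Lsl_at (LP (LK LD1_c15 LD2_c44 LD3_c6)) = (LP (LK LD1_c10 LD2_c35 LD3_c54)) :=
  Lgr Lrot51 (Lpr_df (f276810 IH) (Lpr_af (f276833 IH) (Lpe (f276837 IH) (Lpn (LP (LK LD1_c10 LD2_c35 LD3_c54))))))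
theorem f276802 : Led Lsl_ef (LP (LK LD1_c15 LD2_c44 LD3_c6)) = (LP (LK LD1_c10 LD2_c33 LD3_c39)) :=
  Lgr Lrot88 (Lpr_et (f276789 IH) (Lpn (LP (LK LD1_c10 LD2_c33 LD3_c39))))
theorem f276855 : Led Lsl_ef (LP (LK LD1_c18 LD2_c59 LD3_c30)) = (LP (LK LD1_c10 LD2_c35 LD3_c54)) :=
  Lgr Lrot20 (Lpr_at (K15.f258207 IH) (Lpe (f276802 IH) (Lpr_at (f276838 IH) (Lpn (LP (LK LD1_c10 LD2_c35 LD3_c54))))))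
theorem f258224 : Led Lsl_ft (LP (LK LD1_c18 LD2_c59 LD3_c30)) = (LP (LK LD1_c10 LD2_c28 LD3_c42)) :=
  Lre_f IH (LK LD1_c18 LD2_c59 LD3_c30) (LK LD1_c10 LD2_c28 LD3_c42) Lrfl Lrfl
theorem f258154 : Led Lsl_ct (LP (LK LD1_c5 LD2_c19 LD3_c26)) = (LP (LK LD1_c10 LD2_c28 LD3_c42)) :=
  Lre_c IH (LK LD1_c5 LD2_c19 LD3_c26) (LK LD1_c10 LD2_c28 LD3_c42) Lrfl Lrfl
theorem f258243 : Led Lsl_et (LP (LK LD1_c10 LD2_c28 LD3_c42)) = (LP (LK LD1_c5 LD2_c20 LD3_c27)) :=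
  Lgr Lrot158 (Lpe (f258154 IH) (Lpr_ef (K15.f258240 IH) (Lpe (K12.f221667 IH) (Lpn (LP (LK LD1_c5 LD2_c20 LD3_c27))))))
theorem f276873 : Led Lsl_ft (LP (LK LD1_c5 LD2_c22 LD3_c47)) = (LP (LK LD1_c10 LD2_c35 LD3_c54)) :=
  Lre_f IH (LK LD1_c5 LD2_c22 LD3_c47) (LK LD1_c10 LD2_c35 LD3_c54) Lrfl Lrfl
theorem f276874 : Led Lsl_et (LP (LK LD1_c2 LD2_c37 LD3_c56)) = (LP (LK LD1_c5 LD2_c22 LD3_c47)) :=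
  Lre_e IH (LK LD1_c2 LD2_c37 LD3_c56) (LK LD1_c5 LD2_c22 LD3_c47) Lrfl Lrfl
theorem f276875 : Led Lsl_ft (LP (LK LD1_c5 LD2_c20 LD3_c27)) = (LP (LK LD1_c2 LD2_c37 LD3_c56)) :=
  Lgr Lrot86 (Lpe (f258243 IH) (Lpe (f258224 IH) (Lpr_ef (f276855 IH) (Lpe (f276873 IH) (Lpe (f276874 IH) (Lpn (LP (LK LD1_c2 LD2_c37 LD3_c56))))))))
theorem f276885 : Led Lsl_af (LP (LK LD1_c4 LD2_c10 LD3_c52)) = (LP (LK LD1_c2 LD2_c37 LD3_c56)) :=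
  Lgr Lrot31 (Lpr_gf (K14.f226913 IH) (Lpr_gf (K12.f221668 IH) (Lpr_ft (f276875 IH) (Lpn (LP (LK LD1_c2 LD2_c37 LD3_c56))))))
theorem f276892 : Led Lsl_at (LP (LK LD1_c2 LD2_c2 LD3_c40)) = (LP (LK LD1_c1 LD2_c15 LD3_c57)) :=
  Lgr Lrot107 (Lpe (K14.f179762 IH) (Lpr_af (f276885 IH) (Lpe (K15.f171980 IH) (Lpn (LP (LK LD1_c1 LD2_c15 LD3_c57))))))
theorem f276203 : Led Lsl_ft (LP (LK LD1_c1 LD2_c15 LD3_c58)) = (LP (LK LD1_c2 LD2_c2 LD3_c40)) :=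
  Lgr Lrot75 (Lpe (K12.f228671 IH) (Lpr_ff (f276201 IH) (Lpe (f179761 IH) (Lpn (LP (LK LD1_c2 LD2_c2 LD3_c40))))))
theorem f276879 : Led Lsl_ff (LP (LK LD1_c2 LD2_c36 LD3_c53)) = (LP (LK LD1_c1 LD2_c15 LD3_c57)) :=
  Lgr Lrot23 (Lpr_ct (K12.f221670 IH) (Lpr_ft (f276875 IH) (Lpr_ct (K15.f224349 IH) (Lpn (LP (LK LD1_c1 LD2_c15 LD3_c57))))))
theorem f276929 : Led Lsl_af (LP (LK LD1_c1 LD2_c15 LD3_c58)) = (LP (LK LD1_c2 LD2_c36 LD3_c53)) :=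
  Lgr Lrot45 (Lpr_ft (f276203 IH) (Lpr_at (f276892 IH) (Lpe (f276879 IH) (Lpn (LP (LK LD1_c2 LD2_c36 LD3_c53))))))
theorem f228678 : Led Lsl_et (LP (LK LD1_c1 LD2_c15 LD3_c58)) = (LP (LK LD1_c2 LD2_c37 LD3_c59)) :=
  Lre_e IH (LK LD1_c1 LD2_c15 LD3_c58) (LK LD1_c2 LD2_c37 LD3_c59) Lrfl Lrfl
theorem f276935 : Led Lsl_at (LP (LK LD1_c2 LD2_c37 LD3_c59)) = (LP (LK LD1_c5 LD2_c19 LD3_c26)) :=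
  Lgr Lrot80 (Lpe (f228678 IH) (Lpr_af (f276929 IH) (Lpe (K15.f258236 IH) (Lpn (LP (LK LD1_c5 LD2_c19 LD3_c26))))))
theorem f276941 : Led Lsl_df (LP (LK LD1_c2 LD2_c37 LD3_c59)) = (LP (LK LD1_c2 LD2_c35 LD3_c51)) :=
  Lgr Lrot18 (Lpr_at (f276935 IH) (Lpr_dt (K15.f230575 IH) (Lpr_at (K15.f268037 IH) (Lpn (LP (LK LD1_c2 LD2_c35 LD3_c51))))))
theorem f224161 : Led Lsl_ct (LP (LK LD1_c2 LD2_c37 LD3_c59)) = (LP (LK LD1_c5 LD2_c22 LD3_c53)) :=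
  Lre_c IH (LK LD1_c2 LD2_c37 LD3_c59) (LK LD1_c5 LD2_c22 LD3_c53) Lrfl Lrfl
theorem f224150 : Led Lsl_dt (LP (LK LD1_c5 LD2_c22 LD3_c53)) = (LP (LK LD1_c10 LD2_c36 LD3_c4)) :=
  Lre_d IH (LK LD1_c5 LD2_c22 LD3_c53) (LK LD1_c10 LD2_c36 LD3_c4) Lrfl Lrfl
theorem f224164 : Led Lsl_ct (LP (LK LD1_c10 LD2_c36 LD3_c4)) = (LP (LK LD1_c19 LD2_c11 LD3_c55)) :=
  Lre_c IH (LK LD1_c10 LD2_c36 LD3_c4) (LK LD1_c19 LD2_c11 LD3_c55) Lrfl Lrfl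
theorem f258183 : Led Lsl_ct (LP (LK LD1_c28 LD2_c26 LD3_c46)) = (LP (LK LD1_c18 LD2_c59 LD3_c29)) :=
  Lre_c IH (LK LD1_c28 LD2_c26 LD3_c46) (LK LD1_c18 LD2_c59 LD3_c29) Lrfl Lrfl
theorem f268035 : Led Lsl_ff (LP (LK LD1_c28 LD2_c26 LD3_c46)) = (LP (LK LD1_c28 LD2_c24 LD3_c31)) :=
  Lgr Lrot23 (Lpr_ct (f258183 IH) (Lpr_ft (K15.f258188 IH) (Lpr_ct (K15.f268029 IH) (Lpn (LP (LK LD1_c28 LD2_c24 LD3_c31))))))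
theorem f276953 : Led Lsl_af (LP (LK LD1_c19 LD2_c11 LD3_c55)) = (LP (LK LD1_c28 LD2_c26 LD3_c46)) :=
  Lgr Lrot109 (Lpe (f224164 IH) (Lpe (f224150 IH) (Lpe (f224161 IH) (Lpr_df (f276941 IH) (Lpe (K15.f185433 IH) (Lpe (K15.f185488 IH) (Lpe (K15.f185540 IH) (Lpe (K15.f185548 IH) (Lpe (f268035 IH) (Lpn (LP (LK LD1_c28 LD2_c26 LD3_c46))))))))))))
theorem f276962 : Led Lsl_ct (LP (LK LD1_c19 LD2_c11 LD3_c55)) = (LP (LK LD1_c10 LD2_c36 LD3_c4)) :=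
  Lre_c IH (LK LD1_c19 LD2_c11 LD3_c55) (LK LD1_c10 LD2_c36 LD3_c4) Lrfl Lrfl
theorem f258216 : Led Lsl_ct (LP (LK LD1_c18 LD2_c59 LD3_c29)) = (LP (LK LD1_c28 LD2_c26 LD3_c46)) :=
  Lre_c IH (LK LD1_c18 LD2_c59 LD3_c29) (LK LD1_c28 LD2_c26 LD3_c46) Lrfl Lrfl
theorem f276963 : Led Lsl_at (LP (LK LD1_c10 LD2_c36 LD3_c4)) = (LP (LK LD1_c18 LD2_c59 LD3_c29)) :=
  Lgr Lrot107 (Lpe (f276962 IH) (Lpr_af (f276953 IH) (Lpe (f258216 IH) (Lpn (LP (LK LD1_c18 LD2_c59 LD3_c29))))))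
theorem f276975 : Led Lsl_ff (LP (LK LD1_c10 LD2_c36 LD3_c4)) = (LP (LK LD1_c19 LD2_c7 LD3_c36)) :=
  Lgr Lrot30 (Lpr_at (f276963 IH) (Lpr_ft (K15.f258188 IH) (Lpr_at (K15.f258189 IH) (Lpn (LP (LK LD1_c19 LD2_c7 LD3_c36))))))
theorem f224160 : Led Lsl_dt (LP (LK LD1_c10 LD2_c36 LD3_c4)) = (LP (LK LD1_c5 LD2_c22 LD3_c53)) :=
  Lre_d IH (LK LD1_c10 LD2_c36 LD3_c4) (LK LD1_c5 LD2_c22 LD3_c53) Lrfl Lrfl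
theorem f276984 : Led Lsl_ft (LP (LK LD1_c5 LD2_c22 LD3_c53)) = (LP (LK LD1_c10 LD2_c33 LD3_c39)) :=
  Lgr Lrot54 (Lpe (f224160 IH) (Lpr_ff (f276975 IH) (Lpe (K15.f258193 IH) (Lpn (LP (LK LD1_c10 LD2_c33 LD3_c39))))))
theorem f277151 : Led Lsl_gt (LP (LK LD1_c5 LD2_c22 LD3_c53)) = (LP (LK LD1_c10 LD2_c36 LD3_c2)) :=
  Lre_g IH (LK LD1_c5 LD2_c22 LD3_c53) (LK LD1_c10 LD2_c36 LD3_c2) Lrfl Lrfl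
theorem f258168 : Led Lsl_ct (LP (LK LD1_c18 LD2_c59 LD3_c30)) = (LP (LK LD1_c10 LD2_c28 LD3_c43)) :=
  Lre_c IH (LK LD1_c18 LD2_c59 LD3_c30) (LK LD1_c10 LD2_c28 LD3_c43) Lrfl Lrfl
theorem f258170 : Led Lsl_af (LP (LK LD1_c18 LD2_c59 LD3_c30)) = (LP (LK LD1_c10 LD2_c33 LD3_c39)) :=
  Lgr Lrot68 (Lpr_ct (f258168 IH) (Lpr_at (K15.f258152 IH) (Lpr_ct (K15.f258169 IH) (Lpn (LP (LK LD1_c10 LD2_c33 LD3_c39))))))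
theorem f277465 : Led Lsl_gt (LP (LK LD1_c10 LD2_c36 LD3_c2)) = (LP (LK LD1_c18 LD2_c59 LD3_c30)) :=
  Lgr Lrot46 (Lpe (f277151 IH) (Lpr_ft (f276984 IH) (Lpe (f258170 IH) (Lpn (LP (LK LD1_c18 LD2_c59 LD3_c30))))))
theorem f226952 : Led Lsl_gt (LP (LK LD1_c8 LD2_c21 LD3_c38)) = (LP (LK LD1_c15 LD2_c44 LD3_c2)) :=
  Lre_g IH (LK LD1_c8 LD2_c21 LD3_c38) (LK LD1_c15 LD2_c44 LD3_c2) Lrfl Lrfl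
theorem f276858 : Led Lsl_gt (LP (LK LD1_c15 LD2_c44 LD3_c2)) = (LP (LK LD1_c10 LD2_c35 LD3_c54)) :=
  Lgr Lrot46 (Lpe (f226952 IH) (Lpr_ft (f276804 IH) (Lpr_at (f276838 IH) (Lpn (LP (LK LD1_c10 LD2_c35 LD3_c54))))))
theorem f246580 : Led Lsl_et (LP (LK LD1_c25 LD2_c40 LD3_c27)) = (LP (LK LD1_c15 LD2_c44 LD3_c2)) :=
  Lre_e IH (LK LD1_c25 LD2_c40 LD3_c27) (LK LD1_c15 LD2_c44 LD3_c2) Lrfl Lrfl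
theorem f246573 : Led Lsl_et (LP (LK LD1_c4 LD2_c10 LD3_c52)) = (LP (LK LD1_c8 LD2_c21 LD3_c38)) :=
  Lre_e IH (LK LD1_c4 LD2_c10 LD3_c52) (LK LD1_c8 LD2_c21 LD3_c38) Lrfl Lrfl
theorem f246581 : Led Lsl_et (LP (LK LD1_c5 LD2_c21 LD3_c8)) = (LP (LK LD1_c2 LD2_c37 LD3_c9)) :=
  Lre_e IH (LK LD1_c5 LD2_c21 LD3_c8) (LK LD1_c2 LD2_c37 LD3_c9) Lrfl Lrfl
theorem f41449 : Led Lsl_dt (LP (LK LD1_c5 LD2_c21 LD3_c8)) = (LP (LK LD1_c10 LD2_c32 LD3_c25)) :=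
  Lre_d IH (LK LD1_c5 LD2_c21 LD3_c8) (LK LD1_c10 LD2_c32 LD3_c25) Lrfl Lrfl
theorem f41462 : Led Lsl_gt (LP (LK LD1_c19 LD2_c5 LD3_c32)) = (LP (LK LD1_c10 LD2_c32 LD3_c25)) :=
  Lre_g IH (LK LD1_c19 LD2_c5 LD3_c32) (LK LD1_c10 LD2_c32 LD3_c25) Lrfl Lrfl
theorem f246582 : Led Lsl_dt (LP (LK LD1_c25 LD2_c40 LD3_c27)) = (LP (LK LD1_c19 LD2_c5 LD3_c32)) :=
  Lgr Lrot136 (Lpr_et (f246580 IH) (Lpe (f226952 IH) (Lpe (f246573 IH) (Lpr_dt (K14.f246551 IH) (Lpe (K14.f246506 IH) (Lpe (K14.f218496 IH) (Lpe (K9.f173104 IH) (Lpe (f246581 IH) (Lpr_dt (f41449 IH) (Lpe (f41462 IH) (Lpn (LP (LK LD1_c19 LD2_c5 LD3_c32)))))))))))))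
theorem f224166 : Led Lsl_gt (LP (LK LD1_c10 LD2_c34 LD3_c58)) = (LP (LK LD1_c19 LD2_c5 LD3_c32)) :=
  Lre_g IH (LK LD1_c10 LD2_c34 LD3_c58) (LK LD1_c19 LD2_c5 LD3_c32) Lrfl Lrfl
theorem f41458 : Led Lsl_dt (LP (LK LD1_c5 LD2_c22 LD3_c14)) = (LP (LK LD1_c10 LD2_c34 LD3_c58)) :=
  Lre_d IH (LK LD1_c5 LD2_c22 LD3_c14) (LK LD1_c10 LD2_c34 LD3_c58) Lrfl Lrfl
theorem f246589 : Led Lsl_et (LP (LK LD1_c5 LD2_c22 LD3_c14)) = (LP (LK LD1_c2 LD2_c37 LD3_c36)) :=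
  Lre_e IH (LK LD1_c5 LD2_c22 LD3_c14) (LK LD1_c2 LD2_c37 LD3_c36) Lrfl Lrfl
theorem f182740 : Led Lsl_et (LP (LK LD1_c10 LD2_c30 LD3_c39)) = (LP (LK LD1_c5 LD2_c20 LD3_c19)) :=
  Lre_e IH (LK LD1_c10 LD2_c30 LD3_c39) (LK LD1_c5 LD2_c20 LD3_c19) Lrfl Lrfl
theorem f182738 : Led Lsl_dt (LP (LK LD1_c10 LD2_c30 LD3_c39)) = (LP (LK LD1_c19 LD2_c2 LD3_c53)) :=
  Lre_d IH (LK LD1_c10 LD2_c30 LD3_c39) (LK LD1_c19 LD2_c2 LD3_c53) Lrfl Lrfl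
theorem f276863 : Led Lsl_gf (LP (LK LD1_c19 LD2_c2 LD3_c53)) = (LP (LK LD1_c19 LD2_c11 LD3_c34)) :=
  Lgr Lrot134 (Lpe (f182738 IH) (Lpr_et (f182740 IH) (Lpr_gt (K11.f46432 IH) (Lpe (f246589 IH) (Lpr_dt (f41458 IH) (Lpr_gt (f224166 IH) (Lpe (f246582 IH) (Lpr_et (f246580 IH) (Lpr_gt (f276858 IH) (Lpr_dt (f276837 IH) (Lpn (LP (LK LD1_c19 LD2_c11 LD3_c34)))))))))))))
theorem f277468 : Led Lsl_ef (LP (LK LD1_c10 LD2_c36 LD3_c2)) = (LP (LK LD1_c10 LD2_c16 LD3_c49)) :=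
  Lgr Lrot114 (Lpr_gt (f277465 IH) (Lpr_ef (f276855 IH) (Lpr_dt (f276837 IH) (Lpe (f276863 IH) (Lpe (f182738 IH) (Lpr_et (f182740 IH) (Lpr_gt (K11.f46432 IH) (Lpr_dt (K1.f46409 IH) (Lpr_gt (K14.f46431 IH) (Lpr_df (K14.f196036 IH) (Lpn (LP (LK LD1_c10 LD2_c16 LD3_c49)))))))))))))
theorem f277020 : Led Lsl_et (LP (LK LD1_c2 LD2_c37 LD3_c58)) = (LP (LK LD1_c5 LD2_c22 LD3_c53)) :=
  Lre_e IH (LK LD1_c2 LD2_c37 LD3_c58) (LK LD1_c5 LD2_c22 LD3_c53) Lrfl Lrfl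
theorem f224168 : Led Lsl_dt (LP (LK LD1_c2 LD2_c37 LD3_c58)) = (LP (LK LD1_c5 LD2_c22 LD3_c52)) :=
  Lre_d IH (LK LD1_c2 LD2_c37 LD3_c58) (LK LD1_c5 LD2_c22 LD3_c52) Lrfl Lrfl
theorem f191950 : Led Lsl_et (LP (LK LD1_c2 LD2_c36 LD3_c49)) = (LP (LK LD1_c1 LD2_c15 LD3_c33)) :=
  Lre_e IH (LK LD1_c2 LD2_c36 LD3_c49) (LK LD1_c1 LD2_c15 LD3_c33) Lrfl Lrfl
theorem f167952 : Led Lsl_dt (LP (LK LD1_c2 LD2_c37 LD3_c5)) = (LP (LK LD1_c5 LD2_c20 LD3_c56)) :=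
  Lre_d IH (LK LD1_c2 LD2_c37 LD3_c5) (LK LD1_c5 LD2_c20 LD3_c56) Lrfl Lrfl
theorem f277481 : Led Lsl_gf (LP (LK LD1_c5 LD2_c22 LD3_c52)) = (LP (LK LD1_c5 LD2_c20 LD3_c56)) :=
  Lgr Lrot134 (Lpe (f224168 IH) (Lpr_et (f277020 IH) (Lpr_gt (f277151 IH) (Lpr_ef (f277468 IH) (Lpe (K14.f196036 IH) (Lpr_gt (K14.f196040 IH) (Lpe (K14.f46444 IH) (Lpr_et (f191950 IH) (Lpr_gt (K12.f42177 IH) (Lpr_dt (f167952 IH) (Lpn (LP (LK LD1_c5 LD2_c20 LD3_c56)))))))))))))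
theorem f276987 : Led Lsl_ft (LP (LK LD1_c10 LD2_c36 LD3_c4)) = (LP (LK LD1_c19 LD2_c7 LD3_c36)) :=
  Lgr Lrot48 (Lpr_ff (f276975 IH) (Lpn (LP (LK LD1_c19 LD2_c7 LD3_c36))))
theorem f276993 : Led Lsl_ff (LP (LK LD1_c5 LD2_c22 LD3_c53)) = (LP (LK LD1_c10 LD2_c33 LD3_c39)) :=
  Lgr Lrot19 (Lpr_dt (f224150 IH) (Lpr_ft (f276987 IH) (Lpr_dt (K15.f258175 IH) (Lpn (LP (LK LD1_c10 LD2_c33 LD3_c39))))))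
theorem f224149 : Led Lsl_et (LP (LK LD1_c5 LD2_c22 LD3_c53)) = (LP (LK LD1_c2 LD2_c37 LD3_c58)) :=
  Lre_e IH (LK LD1_c5 LD2_c22 LD3_c53) (LK LD1_c2 LD2_c37 LD3_c58) Lrfl Lrfl
theorem f277002 : Led Lsl_ft (LP (LK LD1_c2 LD2_c37 LD3_c58)) = (LP (LK LD1_c4 LD2_c10 LD3_c52)) :=
  Lgr Lrot86 (Lpe (f224149 IH) (Lpr_ff (f276993 IH) (Lpe (f276789 IH) (Lpe (f276804 IH) (Lpe (f246573 IH) (Lpn (LP (LK LD1_c4 LD2_c10 LD3_c52))))))))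
theorem f277014 : Led Lsl_ff (LP (LK LD1_c2 LD2_c37 LD3_c58)) = (LP (LK LD1_c4 LD2_c10 LD3_c52)) :=
  Lgr Lrot3 (Lpr_ft (f277002 IH) (Lpn (LP (LK LD1_c4 LD2_c10 LD3_c52))))
theorem f277018 : Led Lsl_ft (LP (LK LD1_c5 LD2_c22 LD3_c52)) = (LP (LK LD1_c5 LD2_c24 LD3_c60)) :=
  Lgr Lrot54 (Lpe (f224168 IH) (Lpr_ff (f277014 IH) (Lpr_df (K14.f246567 IH) (Lpn (LP (LK LD1_c5 LD2_c24 LD3_c60))))))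
theorem f224275 : Led Lsl_dt (LP (LK LD1_c5 LD2_c22 LD3_c46)) = (LP (LK LD1_c2 LD2_c37 LD3_c56)) :=
  Lre_d IH (LK LD1_c5 LD2_c22 LD3_c46) (LK LD1_c2 LD2_c37 LD3_c56) Lrfl Lrfl
theorem f276894 : Led Lsl_at (LP (LK LD1_c5 LD2_c24 LD3_c60)) = (LP (LK LD1_c5 LD2_c22 LD3_c46)) :=
  Lgr Lrot51 (Lpe (K14.f246551 IH) (Lpr_af (f276885 IH) (Lpe (f224275 IH) (Lpn (LP (LK LD1_c5 LD2_c22 LD3_c46))))))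
theorem f224429 : Led Lsl_dt (LP (LK LD1_c2 LD2_c37 LD3_c56)) = (LP (LK LD1_c5 LD2_c22 LD3_c46)) :=
  Lre_d IH (LK LD1_c2 LD2_c37 LD3_c56) (LK LD1_c5 LD2_c22 LD3_c46) Lrfl Lrfl
theorem f276881 : Led Lsl_ff (LP (LK LD1_c5 LD2_c24 LD3_c59)) = (LP (LK LD1_c5 LD2_c22 LD3_c46)) :=
  Lgr Lrot19 (Lpr_dt (K15.f263940 IH) (Lpr_ft (f276875 IH) (Lpr_dt (f224429 IH) (Lpn (LP (LK LD1_c5 LD2_c22 LD3_c46))))))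
theorem f277021 : Led Lsl_af (LP (LK LD1_c5 LD2_c22 LD3_c52)) = (LP (LK LD1_c5 LD2_c24 LD3_c59)) :=
  Lgr Lrot45 (Lpr_ft (f277018 IH) (Lpr_at (f276894 IH) (Lpe (f276881 IH) (Lpn (LP (LK LD1_c5 LD2_c24 LD3_c59))))))
theorem f277483 : Led Lsl_gt (LP (LK LD1_c5 LD2_c22 LD3_c46)) = (LP (LK LD1_c5 LD2_c20 LD3_c56)) :=
  Lgr Lrot5 (Lpe (f276881 IH) (Lpe (f277021 IH) (Lpr_gf (f277481 IH) (Lpn (LP (LK LD1_c5 LD2_c20 LD3_c56))))))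
theorem f167959 : Led Lsl_dt (LP (LK LD1_c5 LD2_c20 LD3_c56)) = (LP (LK LD1_c2 LD2_c37 LD3_c5)) :=
  Lre_d IH (LK LD1_c5 LD2_c20 LD3_c56) (LK LD1_c2 LD2_c37 LD3_c5) Lrfl Lrfl
theorem f266872 : Led Lsl_bt (LP (LK LD1_c2 LD2_c7 LD3_c13)) = (LP (LK LD1_c4 LD2_c19 LD3_c41)) :=
  Lre_b IH (LK LD1_c2 LD2_c7 LD3_c13) (LK LD1_c4 LD2_c19 LD3_c41) Lrfl Lrfl
theorem f266873 : Led Lsl_df (LP (LK LD1_c3 LD2_c58 LD3_c24)) = (LP (LK LD1_c4 LD2_c19 LD3_c41)) :=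
  Lgr Lrot12 (Lpr_bt (K12.f41249 IH) (Lpr_dt (K15.f266870 IH) (Lpr_bt (f266872 IH) (Lpn (LP (LK LD1_c4 LD2_c19 LD3_c41))))))
theorem f277485 : Led Lsl_gt (LP (LK LD1_c4 LD2_c15 LD3_c52)) = (LP (LK LD1_c4 LD2_c19 LD3_c41)) :=
  Lgr Lrot49 (Lpe (K12.f220618 IH) (Lpe (K12.f216300 IH) (Lpe (K13.f214018 IH) (Lpr_gt (K15.f224403 IH) (Lpr_dt (f224429 IH) (Lpr_gt (f277483 IH) (Lpr_dt (f167959 IH) (Lpe (K12.f167943 IH) (Lpr_df (f266873 IH) (Lpn (LP (LK LD1_c4 LD2_c19 LD3_c41))))))))))))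
theorem f266801 : Led Lsl_bt (LP (LK LD1_c8 LD2_c11 LD3_c3)) = (LP (LK LD1_c5 LD2_c29 LD3_c24)) :=
  Lgr Lrot127 (Lpr_bf (K15.f266778 IH) (Lpn (LP (LK LD1_c5 LD2_c29 LD3_c24))))
theorem f265042 : Led Lsl_bt (LP (LK LD1_c4 LD2_c12 LD3_c60)) = (LP (LK LD1_c2 LD2_c41 LD3_c7)) :=
  Lgr Lrot127 (Lpr_bf (K15.f265040 IH) (Lpn (LP (LK LD1_c2 LD2_c41 LD3_c7))))
theorem f277494 : Led Lsl_ct (LP (LK LD1_c4 LD2_c12 LD3_c60)) = (LP (LK LD1_c4 LD2_c19 LD3_c41)) :=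
  Lgr Lrot63 (Lpr_bt (f265042 IH) (Lpr_gt (K15.f220532 IH) (Lpe (f266801 IH) (Lpe (K13.f230385 IH) (Lpr_gt (K13.f230405 IH) (Lpe (K12.f42255 IH) (Lpr_bt (K10.f194599 IH) (Lpr_gt (K14.f250970 IH) (Lpr_ct (K12.f220617 IH) (Lpr_gt (f277485 IH) (Lpn (LP (LK LD1_c4 LD2_c19 LD3_c41)))))))))))))
theorem f265046 : Led Lsl_df (LP (LK LD1_c4 LD2_c12 LD3_c60)) = (LP (LK LD1_c2 LD2_c25 LD3_c11)) :=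
  Lgr Lrot70 (Lpr_et (K15.f265044 IH) (Lpe (K15.f257594 IH) (Lpr_et (K15.f257600 IH) (Lpe (K15.f259607 IH) (Lpr_et (K15.f55095 IH) (Lpn (LP (LK LD1_c2 LD2_c25 LD3_c11))))))))
theorem f277498 : Led Lsl_dt (LP (LK LD1_c3 LD2_c58 LD3_c24)) = (LP (LK LD1_c4 LD2_c19 LD3_c41)) :=
  Lgr Lrot113 (Lpr_gf (K12.f187244 IH) (Lpe (K12.f43273 IH) (Lpr_gf (K12.f220738 IH) (Lpr_ct (K12.f212504 IH) (Lpr_gt (K12.f41974 IH) (Lpr_dt (K12.f41391 IH) (Lpr_gt (K12.f41227 IH) (Lpe (f265046 IH) (Lpr_ct (f277494 IH) (Lpn (LP (LK LD1_c4 LD2_c19 LD3_c41))))))))))))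
theorem f217633 : Led Lsl_gt (LP (LK LD1_c2 LD2_c38 LD3_c39)) = (LP (LK LD1_c5 LD2_c24 LD3_c15)) :=
  Lre_g IH (LK LD1_c2 LD2_c38 LD3_c39) (LK LD1_c5 LD2_c24 LD3_c15) Lrfl Lrfl
theorem f277496 : Led Lsl_gf (LP (LK LD1_c4 LD2_c12 LD3_c7)) = (LP (LK LD1_c4 LD2_c19 LD3_c41)) :=
  Lgr Lrot148 (Lpe (K15.f256923 IH) (Lpr_gt (K15.f256820 IH) (Lpr_dt (K15.f216311 IH) (Lpr_ct (K12.f214011 IH) (Lpe (K14.f55082 IH) (Lpe (K15.f235747 IH) (Lpe (K14.f250389 IH) (Lpe (K15.f228904 IH) (Lpr_ct (f277494 IH) (Lpn (LP (LK LD1_c4 LD2_c19 LD3_c41))))))))))))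
theorem f277503 : Led Lsl_dt (LP (LK LD1_c5 LD2_c24 LD3_c15)) = (LP (LK LD1_c5 LD2_c20 LD3_c29)) :=
  Lgr Lrot105 (Lpe (f217633 IH) (Lpe (K14.f217632 IH) (Lpe (K12.f196825 IH) (Lpr_cf (K12.f217621 IH) (Lpe (K12.f187244 IH) (Lpr_dt (f277498 IH) (Lpe (f277496 IH) (Lpe (K15.f256923 IH) (Lpr_cf (K15.f256921 IH) (Lpn (LP (LK LD1_c5 LD2_c20 LD3_c29))))))))))))
theorem f246389 : Led Lsl_gf (LP (LK LD1_c4 LD2_c4 LD3_c22)) = (LP (LK LD1_c2 LD2_c25 LD3_c28)) :=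
  Lgr Lrot143 (Lpr_dt (K15.f226892 IH) (Lpe (K15.f211406 IH) (Lpe (K14.f243940 IH) (Lpr_gf (K14.f246386 IH) (Lpe (K12.f223747 IH) (Lpr_gf (K12.f223741 IH) (Lpr_cf (K12.f217417 IH) (Lpe (K13.f223895 IH) (Lpr_dt (K14.f171979 IH) (Lpn (LP (LK LD1_c2 LD2_c25 LD3_c28))))))))))))
theorem f187345 : Led Lsl_dt (LP (LK LD1_c4 LD2_c54 LD3_c36)) = (LP (LK LD1_c9 LD2_c40 LD3_c47)) :=
  Lre_d IH (LK LD1_c4 LD2_c54 LD3_c36) (LK LD1_c9 LD2_c40 LD3_c47) Lrfl Lrfl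
theorem f221552 : Led Lsl_cf (LP (LK LD1_c9 LD2_c40 LD3_c47)) = (LP (LK LD1_c5 LD2_c20 LD3_c56)) :=
  Lgr Lrot14 (Lpe (f187345 IH) (Lpr_gf (K12.f218754 IH) (Lpe (K12.f196828 IH) (Lpr_gf (K13.f221545 IH) (Lpr_ct (K12.f218761 IH) (Lpr_gt (K12.f217326 IH) (Lpr_dt (K12.f168041 IH) (Lpr_gt (K12.f42177 IH) (Lpr_dt (f167952 IH) (Lpn (LP (LK LD1_c5 LD2_c20 LD3_c56))))))))))))
theorem f274937 : Led Lsl_dt (LP (LK LD1_c9 LD2_c41 LD3_c20)) = (LP (LK LD1_c4 LD2_c54 LD3_c56)) :=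
  Lre_d IH (LK LD1_c9 LD2_c41 LD3_c20) (LK LD1_c4 LD2_c54 LD3_c56) Lrfl Lrfl
theorem f274938 : Led Lsl_gf (LP (LK LD1_c9 LD2_c41 LD3_c20)) = (LP (LK LD1_c9 LD2_c40 LD3_c47)) :=
  Lgr Lrot143 (Lpr_dt (f274937 IH) (Lpr_cf (f274921 IH) (Lpr_df (K13.f220636 IH) (Lpe (K14.f250970 IH) (Lpe (K10.f194605 IH) (Lpr_gf (K10.f194616 IH) (Lpe (K12.f194618 IH) (Lpe (K12.f218754 IH) (Lpr_dt (f187345 IH) (Lpn (LP (LK LD1_c9 LD2_c40 LD3_c47))))))))))))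
theorem f277527 : Led Lsl_cf (LP (LK LD1_c5 LD2_c24 LD3_c15)) = (LP (LK LD1_c9 LD2_c41 LD3_c20)) :=
  Lgr Lrot175 (Lpr_dt (f277503 IH) (Lpe (K15.f256919 IH) (Lpr_gf (f246389 IH) (Lpe (K15.f171964 IH) (Lpe (K15.f171977 IH) (Lpr_dt (f224429 IH) (Lpr_gt (f277483 IH) (Lpe (f221552 IH) (Lpe (f274938 IH) (Lpn (LP (LK LD1_c9 LD2_c41 LD3_c20))))))))))))
theorem f223340 : Led Lsl_dt (LP (LK LD1_c4 LD2_c54 LD3_c56)) = (LP (LK LD1_c9 LD2_c41 LD3_c20)) :=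
  Lre_d IH (LK LD1_c4 LD2_c54 LD3_c56) (LK LD1_c9 LD2_c41 LD3_c20) Lrfl Lrfl
theorem f274933 : Led Lsl_ft (LP (LK LD1_c4 LD2_c54 LD3_c56)) = (LP (LK LD1_c5 LD2_c22 LD3_c34)) :=
  Lgr Lrot4 (Lpr_cf (f274921 IH) (Lpe (K13.f246311 IH) (Lpe (K13.f196721 IH) (Lpn (LP (LK LD1_c5 LD2_c22 LD3_c34))))))
theorem f277553 : Led Lsl_af (LP (LK LD1_c4 LD2_c54 LD3_c57)) = (LP (LK LD1_c5 LD2_c22 LD3_c34)) :=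
  Lgr Lrot109 (Lpe (K14.f246391 IH) (Lpr_df (K14.f243954 IH) (Lpr_cf (K15.f211399 IH) (Lpe (K15.f226892 IH) (Lpr_cf (K15.f256921 IH) (Lpe (f277503 IH) (Lpr_cf (f277527 IH) (Lpe (f223340 IH) (Lpr_ft (f274933 IH) (Lpn (LP (LK LD1_c5 LD2_c22 LD3_c34))))))))))))
theorem f246401 : Led Lsl_et (LP (LK LD1_c4 LD2_c54 LD3_c57)) = (LP (LK LD1_c9 LD2_c41 LD3_c24)) :=
  Lre_e IH (LK LD1_c4 LD2_c54 LD3_c57) (LK LD1_c9 LD2_c41 LD3_c24) Lrfl Lrfl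
theorem f218486 : Led Lsl_et (LP (LK LD1_c10 LD2_c35 LD3_c28)) = (LP (LK LD1_c5 LD2_c22 LD3_c34)) :=
  Lre_e IH (LK LD1_c10 LD2_c35 LD3_c28) (LK LD1_c5 LD2_c22 LD3_c34) Lrfl Lrfl
theorem f277571 : Led Lsl_at (LP (LK LD1_c9 LD2_c41 LD3_c24)) = (LP (LK LD1_c10 LD2_c35 LD3_c28)) :=
  Lgr Lrot80 (Lpe (f246401 IH) (Lpr_af (f277553 IH) (Lpe (f218486 IH) (Lpn (LP (LK LD1_c10 LD2_c35 LD3_c28))))))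
theorem f277573 : Led Lsl_af (LP (LK LD1_c9 LD2_c41 LD3_c24)) = (LP (LK LD1_c10 LD2_c35 LD3_c28)) :=
  Lgr Lrot0 (Lpr_at (f277571 IH) (Lpn (LP (LK LD1_c10 LD2_c35 LD3_c28))))
theorem f243950 : Led Lsl_et (LP (LK LD1_c5 LD2_c22 LD3_c17)) = (LP (LK LD1_c2 LD2_c37 LD3_c40)) :=
  Lre_e IH (LK LD1_c5 LD2_c22 LD3_c17) (LK LD1_c2 LD2_c37 LD3_c40) Lrfl Lrfl
theorem f246402 : Led Lsl_cf (LP (LK LD1_c5 LD2_c22 LD3_c17)) = (LP (LK LD1_c9 LD2_c41 LD3_c24)) :=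
  Lgr Lrot39 (Lpr_et (f243950 IH) (Lpr_ct (K14.f246391 IH) (Lpr_et (f246401 IH) (Lpn (LP (LK LD1_c9 LD2_c41 LD3_c24))))))
theorem f228753 : Led Lsl_ct (LP (LK LD1_c5 LD2_c22 LD3_c35)) = (LP (LK LD1_c10 LD2_c35 LD3_c28)) :=
  Lre_c IH (LK LD1_c5 LD2_c22 LD3_c35) (LK LD1_c10 LD2_c35 LD3_c28) Lrfl Lrfl
theorem f277576 : Led Lsl_at (LP (LK LD1_c5 LD2_c22 LD3_c17)) = (LP (LK LD1_c5 LD2_c22 LD3_c35)) :=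
  Lgr Lrot107 (Lpr_cf (f246402 IH) (Lpr_af (f277573 IH) (Lpe (f228753 IH) (Lpn (LP (LK LD1_c5 LD2_c22 LD3_c35))))))
theorem f277587 : Led Lsl_ff (LP (LK LD1_c5 LD2_c22 LD3_c17)) = (LP (LK LD1_c10 LD2_c15 LD3_c38)) :=
  Lgr Lrot30 (Lpr_at (f277576 IH) (Lpr_ft (K14.f228754 IH) (Lpe (K14.f250999 IH) (Lpn (LP (LK LD1_c10 LD2_c15 LD3_c38))))))
theorem f277603 : Led Lsl_ft (LP (LK LD1_c5 LD2_c22 LD3_c17)) = (LP (LK LD1_c10 LD2_c15 LD3_c38)) :=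
  Lgr Lrot48 (Lpr_ff (f277587 IH) (Lpn (LP (LK LD1_c10 LD2_c15 LD3_c38))))
theorem f243942 : Led Lsl_et (LP (LK LD1_c2 LD2_c37 LD3_c40)) = (LP (LK LD1_c5 LD2_c22 LD3_c17)) :=
  Lre_e IH (LK LD1_c2 LD2_c37 LD3_c40) (LK LD1_c5 LD2_c22 LD3_c17) Lrfl Lrfl
theorem f277609 : Led Lsl_ff (LP (LK LD1_c2 LD2_c37 LD3_c40)) = (LP (LK LD1_c2 LD2_c37 LD3_c49)) :=
  Lgr Lrot72 (Lpr_et (f243942 IH) (Lpr_ft (f277603 IH) (Lpr_et (K14.f250997 IH) (Lpr_ft (K13.f196635 IH) (Lpr_et (K15.f196645 IH) (Lpn (LP (LK LD1_c2 LD2_c37 LD3_c49))))))))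
theorem f277613 : Led Lsl_ft (LP (LK LD1_c4 LD2_c54 LD3_c57)) = (LP (LK LD1_c5 LD2_c22 LD3_c32)) :=
  Lgr Lrot4 (Lpe (K14.f246391 IH) (Lpr_ff (f277609 IH) (Lpe (K13.f196623 IH) (Lpn (LP (LK LD1_c5 LD2_c22 LD3_c32))))))
theorem f277622 : Led Lsl_ff (LP (LK LD1_c4 LD2_c54 LD3_c57)) = (LP (LK LD1_c5 LD2_c22 LD3_c32)) :=
  Lgr Lrot3 (Lpr_ft (f277613 IH) (Lpn (LP (LK LD1_c5 LD2_c22 LD3_c32))))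
theorem f246393 : Led Lsl_dt (LP (LK LD1_c4 LD2_c54 LD3_c57)) = (LP (LK LD1_c9 LD2_c41 LD3_c23)) :=
  Lre_d IH (LK LD1_c4 LD2_c54 LD3_c57) (LK LD1_c9 LD2_c41 LD3_c23) Lrfl Lrfl
theorem f277628 : Led Lsl_ft (LP (LK LD1_c9 LD2_c41 LD3_c23)) = (LP (LK LD1_c9 LD2_c42 LD3_c13)) :=
  Lgr Lrot54 (Lpe (f246393 IH) (Lpr_ff (f277622 IH) (Lpe (K15.f263928 IH) (Lpn (LP (LK LD1_c9 LD2_c42 LD3_c13))))))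
theorem f250319 : Led Lsl_df (LP (LK LD1_c2 LD2_c3 LD3_c54)) = (LP (LK LD1_c2 LD2_c12 LD3_c21)) :=
  Lgr Lrot12 (Lpr_bt (K14.f228905 IH) (Lpr_dt (K14.f250317 IH) (Lpr_bt (K13.f173956 IH) (Lpn (LP (LK LD1_c2 LD2_c12 LD3_c21))))))
theorem f187353 : Led Lsl_dt (LP (LK LD1_c9 LD2_c40 LD3_c47)) = (LP (LK LD1_c4 LD2_c54 LD3_c36)) :=
  Lre_d IH (LK LD1_c9 LD2_c40 LD3_c47) (LK LD1_c4 LD2_c54 LD3_c36) Lrfl Lrfl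
theorem f263726 : Led Lsl_gt (LP (LK LD1_c9 LD2_c41 LD3_c23)) = (LP (LK LD1_c9 LD2_c40 LD3_c47)) :=
  Lgr Lrot49 (Lpe (f246393 IH) (Lpr_gf (K15.f263708 IH) (Lpe (K15.f218571 IH) (Lpe (K13.f235749 IH) (Lpe (f250319 IH) (Lpe (K14.f250472 IH) (Lpe (K12.f187340 IH) (Lpe (K12.f169316 IH) (Lpe (f187353 IH) (Lpn (LP (LK LD1_c9 LD2_c40 LD3_c47))))))))))))
theorem f277694 : Led Lsl_af (LP (LK LD1_c9 LD2_c41 LD3_c20)) = (LP (LK LD1_c9 LD2_c42 LD3_c13)) :=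
  Lgr Lrot31 (Lpr_gf (f274938 IH) (Lpe (f263726 IH) (Lpr_ft (f277628 IH) (Lpn (LP (LK LD1_c9 LD2_c42 LD3_c13))))))
theorem f277700 : Led Lsl_et (LP (LK LD1_c9 LD2_c41 LD3_c20)) = (LP (LK LD1_c17 LD2_c49 LD3_c17)) :=
  Lre_e IH (LK LD1_c9 LD2_c41 LD3_c20) (LK LD1_c17 LD2_c49 LD3_c17) Lrfl Lrfl
theorem f246427 : Led Lsl_et (LP (LK LD1_c17 LD2_c50 LD3_c53)) = (LP (LK LD1_c9 LD2_c42 LD3_c13)) :=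
  Lre_e IH (LK LD1_c17 LD2_c50 LD3_c53) (LK LD1_c9 LD2_c42 LD3_c13) Lrfl Lrfl
theorem f277701 : Led Lsl_at (LP (LK LD1_c17 LD2_c49 LD3_c17)) = (LP (LK LD1_c17 LD2_c50 LD3_c53)) :=
  Lgr Lrot80 (Lpe (f277700 IH) (Lpr_af (f277694 IH) (Lpe (f246427 IH) (Lpn (LP (LK LD1_c17 LD2_c50 LD3_c53))))))
theorem f277531 : Led Lsl_et (LP (LK LD1_c5 LD2_c24 LD3_c15)) = (LP (LK LD1_c10 LD2_c39 LD3_c20)) :=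
  Lre_e IH (LK LD1_c5 LD2_c24 LD3_c15) (LK LD1_c10 LD2_c39 LD3_c20) Lrfl Lrfl
theorem f277548 : Led Lsl_et (LP (LK LD1_c17 LD2_c49 LD3_c17)) = (LP (LK LD1_c9 LD2_c41 LD3_c20)) :=
  Lre_e IH (LK LD1_c17 LD2_c49 LD3_c17) (LK LD1_c9 LD2_c41 LD3_c20) Lrfl Lrfl
theorem f277549 : Led Lsl_ct (LP (LK LD1_c10 LD2_c39 LD3_c20)) = (LP (LK LD1_c17 LD2_c49 LD3_c17)) :=
  Lgr Lrot15 (Lpe (f277531 IH) (Lpr_cf (f277527 IH) (Lpe (f277548 IH) (Lpn (LP (LK LD1_c17 LD2_c49 LD3_c17))))))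
theorem f277565 : Led Lsl_at (LP (LK LD1_c4 LD2_c54 LD3_c57)) = (LP (LK LD1_c5 LD2_c22 LD3_c34)) :=
  Lgr Lrot100 (Lpr_af (f277553 IH) (Lpn (LP (LK LD1_c5 LD2_c22 LD3_c34))))
theorem f217675 : Led Lsl_dt (LP (LK LD1_c5 LD2_c22 LD3_c59)) = (LP (LK LD1_c2 LD2_c37 LD3_c61)) :=
  Lre_d IH (LK LD1_c5 LD2_c22 LD3_c59) (LK LD1_c2 LD2_c37 LD3_c61) Lrfl Lrfl
theorem f217345 : Led Lsl_dt (LP (LK LD1_c4 LD2_c55 LD3_c19)) = (LP (LK LD1_c2 LD2_c25 LD3_c33)) :=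
  Lre_d IH (LK LD1_c4 LD2_c55 LD3_c19) (LK LD1_c2 LD2_c25 LD3_c33) Lrfl Lrfl
theorem f246632 : Led Lsl_df (LP (LK LD1_c9 LD2_c42 LD3_c13)) = (LP (LK LD1_c5 LD2_c22 LD3_c32)) :=
  Lgr Lrot153 (Lpr_gt (K15.f246426 IH) (Lpr_dt (f217345 IH) (Lpe (K12.f168111 IH) (Lpr_df (K14.f246595 IH) (Lpe (K13.f173279 IH) (Lpe (K12.f178288 IH) (Lpr_gf (K12.f228792 IH) (Lpe (K12.f167807 IH) (Lpe (K13.f221554 IH) (Lpn (LP (LK LD1_c5 LD2_c22 LD3_c32))))))))))))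
theorem f277631 : Led Lsl_cf (LP (LK LD1_c5 LD2_c22 LD3_c59)) = (LP (LK LD1_c9 LD2_c42 LD3_c13)) :=
  Lgr Lrot118 (Lpr_dt (f217675 IH) (Lpr_ct (K15.f217826 IH) (Lpr_dt (K15.f258306 IH) (Lpe (K13.f230385 IH) (Lpe (K13.f246303 IH) (Lpr_ct (K14.f218483 IH) (Lpe (f277565 IH) (Lpr_ff (f277622 IH) (Lpe (f246632 IH) (Lpn (LP (LK LD1_c9 LD2_c42 LD3_c13))))))))))))
theorem f221613 : Led Lsl_et (LP (LK LD1_c5 LD2_c22 LD3_c59)) = (LP (LK LD1_c10 LD2_c36 LD3_c19)) :=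
  Lre_e IH (LK LD1_c5 LD2_c22 LD3_c59) (LK LD1_c10 LD2_c36 LD3_c19) Lrfl Lrfl
theorem f277638 : Led Lsl_ct (LP (LK LD1_c10 LD2_c36 LD3_c19)) = (LP (LK LD1_c17 LD2_c50 LD3_c53)) :=
  Lgr Lrot15 (Lpe (f221613 IH) (Lpr_cf (f277631 IH) (Lpe (f246427 IH) (Lpn (LP (LK LD1_c17 LD2_c50 LD3_c53))))))
theorem f277672 : Led Lsl_cf (LP (LK LD1_c10 LD2_c36 LD3_c19)) = (LP (LK LD1_c17 LD2_c50 LD3_c53)) :=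
  Lgr Lrot11 (Lpr_ct (f277638 IH) (Lpn (LP (LK LD1_c17 LD2_c50 LD3_c53))))
theorem f277706 : Led Lsl_af (LP (LK LD1_c10 LD2_c39 LD3_c20)) = (LP (LK LD1_c10 LD2_c36 LD3_c19)) :=
  Lgr Lrot68 (Lpr_ct (f277549 IH) (Lpr_at (f277701 IH) (Lpe (f277672 IH) (Lpn (LP (LK LD1_c10 LD2_c36 LD3_c19))))))
theorem f277716 : Led Lsl_dt (LP (LK LD1_c10 LD2_c39 LD3_c20)) = (LP (LK LD1_c19 LD2_c18 LD3_c0)) :=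
  Lre_d IH (LK LD1_c10 LD2_c39 LD3_c20) (LK LD1_c19 LD2_c18 LD3_c0) Lrfl Lrfl
theorem f277674 : Led Lsl_dt (LP (LK LD1_c19 LD2_c12 LD3_c29)) = (LP (LK LD1_c10 LD2_c36 LD3_c19)) :=
  Lre_d IH (LK LD1_c19 LD2_c12 LD3_c29) (LK LD1_c10 LD2_c36 LD3_c19) Lrfl Lrfl
theorem f277717 : Led Lsl_at (LP (LK LD1_c19 LD2_c18 LD3_c0)) = (LP (LK LD1_c19 LD2_c12 LD3_c29)) :=
  Lgr Lrot51 (Lpe (f277716 IH) (Lpr_af (f277706 IH) (Lpe (f277674 IH) (Lpn (LP (LK LD1_c19 LD2_c12 LD3_c29))))))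
theorem f277519 : Led Lsl_et (LP (LK LD1_c10 LD2_c39 LD3_c20)) = (LP (LK LD1_c5 LD2_c24 LD3_c15)) :=
  Lre_e IH (LK LD1_c10 LD2_c39 LD3_c20) (LK LD1_c5 LD2_c24 LD3_c15) Lrfl Lrfl
theorem f277520 : Led Lsl_dt (LP (LK LD1_c19 LD2_c18 LD3_c0)) = (LP (LK LD1_c10 LD2_c39 LD3_c20)) :=
  Lre_d IH (LK LD1_c19 LD2_c18 LD3_c0) (LK LD1_c10 LD2_c39 LD3_c20) Lrfl Lrfl
theorem f256949 : Led Lsl_et (LP (LK LD1_c5 LD2_c20 LD3_c29)) = (LP (LK LD1_c10 LD2_c30 LD3_c60)) :=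
  Lre_e IH (LK LD1_c5 LD2_c20 LD3_c29) (LK LD1_c10 LD2_c30 LD3_c60) Lrfl Lrfl
theorem f224560 : Led Lsl_dt (LP (LK LD1_c10 LD2_c30 LD3_c60)) = (LP (LK LD1_c19 LD2_c3 LD3_c37)) :=
  Lre_d IH (LK LD1_c10 LD2_c30 LD3_c60) (LK LD1_c19 LD2_c3 LD3_c37) Lrfl Lrfl
theorem f277521 : Led Lsl_ef (LP (LK LD1_c19 LD2_c18 LD3_c0)) = (LP (LK LD1_c19 LD2_c3 LD3_c37)) :=
  Lgr Lrot73 (Lpr_dt (f277520 IH) (Lpr_et (f277519 IH) (Lpr_dt (f277503 IH) (Lpr_et (f256949 IH) (Lpr_dt (f224560 IH) (Lpn (LP (LK LD1_c19 LD2_c3 LD3_c37))))))))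
theorem f277748 : Led Lsl_et (LP (LK LD1_c19 LD2_c12 LD3_c29)) = (LP (LK LD1_c10 LD2_c36 LD3_c20)) :=
  Lre_e IH (LK LD1_c19 LD2_c12 LD3_c29) (LK LD1_c10 LD2_c36 LD3_c20) Lrfl Lrfl
theorem f277749 : Led Lsl_af (LP (LK LD1_c19 LD2_c3 LD3_c37)) = (LP (LK LD1_c10 LD2_c36 LD3_c20)) :=
  Lgr Lrot50 (Lpe (f277521 IH) (Lpr_at (f277717 IH) (Lpr_et (f277748 IH) (Lpn (LP (LK LD1_c10 LD2_c36 LD3_c20))))))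
theorem f256942 : Led Lsl_dt (LP (LK LD1_c19 LD2_c3 LD3_c37)) = (LP (LK LD1_c10 LD2_c30 LD3_c60)) :=
  Lre_d IH (LK LD1_c19 LD2_c3 LD3_c37) (LK LD1_c10 LD2_c30 LD3_c60) Lrfl Lrfl
theorem f217750 : Led Lsl_dt (LP (LK LD1_c5 LD2_c22 LD3_c60)) = (LP (LK LD1_c10 LD2_c36 LD3_c20)) :=
  Lre_d IH (LK LD1_c5 LD2_c22 LD3_c60) (LK LD1_c10 LD2_c36 LD3_c20) Lrfl Lrfl
theorem f277762 : Led Lsl_at (LP (LK LD1_c10 LD2_c30 LD3_c60)) = (LP (LK LD1_c5 LD2_c22 LD3_c60)) :=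
  Lgr Lrot51 (Lpe (f256942 IH) (Lpr_af (f277749 IH) (Lpe (f217750 IH) (Lpn (LP (LK LD1_c5 LD2_c22 LD3_c60))))))
theorem f217749 : Led Lsl_et (LP (LK LD1_c5 LD2_c22 LD3_c60)) = (LP (LK LD1_c2 LD2_c37 LD3_c61)) :=
  Lre_e IH (LK LD1_c5 LD2_c22 LD3_c60) (LK LD1_c2 LD2_c37 LD3_c61) Lrfl Lrfl
theorem f277770 : Led Lsl_af (LP (LK LD1_c5 LD2_c20 LD3_c29)) = (LP (LK LD1_c2 LD2_c37 LD3_c61)) :=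
  Lgr Lrot50 (Lpr_et (f256949 IH) (Lpr_at (f277762 IH) (Lpr_et (f217749 IH) (Lpn (LP (LK LD1_c2 LD2_c37 LD3_c61))))))
theorem f277776 : Led Lsl_at (LP (LK LD1_c4 LD2_c4 LD3_c22)) = (LP (LK LD1_c5 LD2_c22 LD3_c58)) :=
  Lgr Lrot107 (Lpr_cf (K15.f256921 IH) (Lpr_af (f277770 IH) (Lpe (K12.f196603 IH) (Lpn (LP (LK LD1_c5 LD2_c22 LD3_c58))))))
theorem f277784 : Led Lsl_ff (LP (LK LD1_c4 LD2_c4 LD3_c22)) = (LP (LK LD1_c2 LD2_c45 LD3_c26)) :=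
  Lgr Lrot52 (Lpr_at (f277776 IH) (Lpr_gf (K12.f220734 IH) (Lpe (K12.f228398 IH) (Lpn (LP (LK LD1_c2 LD2_c45 LD3_c26))))))
theorem f277794 : Led Lsl_ft (LP (LK LD1_c4 LD2_c4 LD3_c22)) = (LP (LK LD1_c2 LD2_c45 LD3_c26)) :=
  Lgr Lrot48 (Lpr_ff (f277784 IH) (Lpn (LP (LK LD1_c2 LD2_c45 LD3_c26))))
theorem f277804 : Led Lsl_af (LP (LK LD1_c4 LD2_c54 LD3_c49)) = (LP (LK LD1_c2 LD2_c45 LD3_c26)) :=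
  Lgr Lrot31 (Lpe (K12.f216300 IH) (Lpe (K15.f256820 IH) (Lpr_ft (f277794 IH) (Lpn (LP (LK LD1_c2 LD2_c45 LD3_c26))))))
theorem f277778 : Led Lsl_af (LP (LK LD1_c4 LD2_c4 LD3_c22)) = (LP (LK LD1_c5 LD2_c22 LD3_c58)) :=
  Lgr Lrot0 (Lpr_at (f277776 IH) (Lpn (LP (LK LD1_c5 LD2_c22 LD3_c58))))
theorem f277810 : Led Lsl_ft (LP (LK LD1_c4 LD2_c54 LD3_c49)) = (LP (LK LD1_c5 LD2_c22 LD3_c58)) :=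
  Lgr Lrot101 (Lpr_af (f277804 IH) (Lpe (f277794 IH) (Lpr_af (f277778 IH) (Lpn (LP (LK LD1_c5 LD2_c22 LD3_c58))))))
theorem f277812 : Led Lsl_ff (LP (LK LD1_c5 LD2_c20 LD3_c28)) = (LP (LK LD1_c2 LD2_c37 LD3_c61)) :=
  Lgr Lrot23 (Lpr_ct (K15.f252131 IH) (Lpr_ft (f277810 IH) (Lpr_ct (K12.f196603 IH) (Lpn (LP (LK LD1_c2 LD2_c37 LD3_c61))))))
theorem f277822 : Led Lsl_ft (LP (LK LD1_c5 LD2_c20 LD3_c28)) = (LP (LK LD1_c2 LD2_c37 LD3_c61)) :=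
  Lgr Lrot48 (Lpr_ff (f277812 IH) (Lpn (LP (LK LD1_c2 LD2_c37 LD3_c61))))
theorem f277833 : Led Lsl_gt (LP (LK LD1_c5 LD2_c20 LD3_c28)) = (LP (LK LD1_c2 LD2_c36 LD3_c58)) :=
  Lgr Lrot5 (Lpr_ft (f277822 IH) (Lpe (f277770 IH) (Lpe (K15.f257005 IH) (Lpn (LP (LK LD1_c2 LD2_c36 LD3_c58))))))
theorem f277814 : Led Lsl_ff (LP (LK LD1_c4 LD2_c54 LD3_c49)) = (LP (LK LD1_c5 LD2_c22 LD3_c58)) :=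
  Lgr Lrot3 (Lpr_ft (f277810 IH) (Lpn (LP (LK LD1_c5 LD2_c22 LD3_c58))))
theorem f277829 : Led Lsl_cf (LP (LK LD1_c5 LD2_c20 LD3_c28)) = (LP (LK LD1_c4 LD2_c54 LD3_c49)) :=
  Lgr Lrot108 (Lpr_ft (f277822 IH) (Lpr_ct (K15.f217826 IH) (Lpe (f277814 IH) (Lpn (LP (LK LD1_c4 LD2_c54 LD3_c49))))))
theorem f277839 : Led Lsl_bt (LP (LK LD1_c4 LD2_c54 LD3_c49)) = (LP (LK LD1_c4 LD2_c13 LD3_c60)) :=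
  Lgr Lrot92 (Lpe (f277829 IH) (Lpr_gt (f277833 IH) (Lpe (K12.f169172 IH) (Lpe (K12.f167818 IH) (Lpe (K15.f221585 IH) (Lpr_ct (K14.f218483 IH) (Lpr_gt (K15.f221550 IH) (Lpe (K12.f41909 IH) (Lpr_bt (K13.f188559 IH) (Lpr_gt (K15.f54514 IH) (Lpn (LP (LK LD1_c4 LD2_c13 LD3_c60)))))))))))))
theorem f199333 : Led Lsl_bt (LP (LK LD1_c1 LD2_c15 LD3_c26)) = (LP (LK LD1_c2 LD2_c36 LD3_c51)) :=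
  Lre_b IH (LK LD1_c1 LD2_c15 LD3_c26) (LK LD1_c2 LD2_c36 LD3_c51) Lrfl Lrfl
theorem f177927 : Led Lsl_ct (LP (LK LD1_c2 LD2_c11 LD3_c40)) = (LP (LK LD1_c4 LD2_c29 LD3_c5)) :=
  Lre_c IH (LK LD1_c2 LD2_c11 LD3_c40) (LK LD1_c4 LD2_c29 LD3_c5) Lrfl Lrfl
theorem f177942 : Led Lsl_bt (LP (LK LD1_c2 LD2_c11 LD3_c40)) = (LP (LK LD1_c4 LD2_c29 LD3_c4)) :=
  Lre_b IH (LK LD1_c2 LD2_c11 LD3_c40) (LK LD1_c4 LD2_c29 LD3_c4) Lrfl Lrfl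
theorem f277900 : Led Lsl_gf (LP (LK LD1_c2 LD2_c36 LD3_c51)) = (LP (LK LD1_c4 LD2_c29 LD3_c4)) :=
  Lgr Lrot124 (Lpe (f199333 IH) (Lpr_ct (K12.f171888 IH) (Lpr_gt (K15.f187027 IH) (Lpr_cf (f277829 IH) (Lpr_bt (f277839 IH) (Lpe (K15.f245141 IH) (Lpr_ct (K13.f188611 IH) (Lpr_gt (f271543 IH) (Lpe (f177927 IH) (Lpr_bt (f177942 IH) (Lpn (LP (LK LD1_c4 LD2_c29 LD3_c4)))))))))))))
theorem f224179 : Led Lsl_ct (LP (LK LD1_c2 LD2_c38 LD3_c14)) = (LP (LK LD1_c1 LD2_c16 LD3_c4)) :=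
  Lre_c IH (LK LD1_c2 LD2_c38 LD3_c14) (LK LD1_c1 LD2_c16 LD3_c4) Lrfl Lrfl
theorem f54219 : Led Lsl_gt (LP (LK LD1_c5 LD2_c0 LD3_c40)) = (LP (LK LD1_c9 LD2_c51 LD3_c39)) :=
  Lre_g IH (LK LD1_c5 LD2_c0 LD3_c40) (LK LD1_c9 LD2_c51 LD3_c39) Lrfl Lrfl
theorem f212952 : Led Lsl_gt (LP (LK LD1_c9 LD2_c51 LD3_c39)) = (LP (LK LD1_c9 LD2_c0 LD3_c30)) :=
  Lgr Lrot46 (Lpe (f54219 IH) (Lpr_ft (K12.f212947 IH) (Lpe (K12.f212950 IH) (Lpn (LP (LK LD1_c9 LD2_c0 LD3_c30))))))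
theorem f234045 : Led Lsl_cf (LP (LK LD1_c9 LD2_c51 LD3_c39)) = (LP (LK LD1_c5 LD2_c23 LD3_c28)) :=
  Lgr Lrot169 (Lpr_gt (f212952 IH) (Lpe (K12.f212636 IH) (Lpe (K14.f31424 IH) (Lpe (K10.f31296 IH) (Lpe (K12.f194439 IH) (Lpe (K12.f167847 IH) (Lpe (K12.f212996 IH) (Lpe (K12.f199517 IH) (Lpr_gt (K13.f234007 IH) (Lpn (LP (LK LD1_c5 LD2_c23 LD3_c28))))))))))))
theorem f234053 : Led Lsl_ct (LP (LK LD1_c9 LD2_c51 LD3_c39)) = (LP (LK LD1_c5 LD2_c23 LD3_c28)) :=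
  Lgr Lrot59 (Lpr_cf (f234045 IH) (Lpn (LP (LK LD1_c5 LD2_c23 LD3_c28))))
theorem f172010 : Led Lsl_dt (LP (LK LD1_c2 LD2_c37 LD3_c47)) = (LP (LK LD1_c1 LD2_c15 LD3_c54)) :=
  Lre_d IH (LK LD1_c2 LD2_c37 LD3_c47) (LK LD1_c1 LD2_c15 LD3_c54) Lrfl Lrfl
theorem f235639 : Led Lsl_df (LP (LK LD1_c9 LD2_c51 LD3_c39)) = (LP (LK LD1_c5 LD2_c20 LD3_c25)) :=
  Lgr Lrot13 (Lpr_ct (f234053 IH) (Lpr_dt (K13.f224187 IH) (Lpr_ct (f224179 IH) (Lpe (K13.f234081 IH) (Lpr_ff (K13.f235630 IH) (Lpr_dt (f172010 IH) (Lpr_ct (K12.f172003 IH) (Lpr_dt (K12.f42473 IH) (Lpr_ct (K12.f172012 IH) (Lpn (LP (LK LD1_c5 LD2_c20 LD3_c25))))))))))))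
theorem f177948 : Led Lsl_cf (LP (LK LD1_c4 LD2_c29 LD3_c4)) = (LP (LK LD1_c2 LD2_c43 LD3_c46)) :=
  Lgr Lrot11 (Lpr_ct (f177937 IH) (Lpn (LP (LK LD1_c2 LD2_c43 LD3_c46))))
theorem f192824 : Led Lsl_ct (LP (LK LD1_c4 LD2_c4 LD3_c36)) = (LP (LK LD1_c1 LD2_c59 LD3_c18)) :=
  Lre_c IH (LK LD1_c4 LD2_c4 LD3_c36) (LK LD1_c1 LD2_c59 LD3_c18) Lrfl Lrfl
theorem f177952 : Led Lsl_dt (LP (LK LD1_c1 LD2_c18 LD3_c16)) = (LP (LK LD1_c2 LD2_c43 LD3_c48)) :=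
  Lre_d IH (LK LD1_c1 LD2_c18 LD3_c16) (LK LD1_c2 LD2_c43 LD3_c48) Lrfl Lrfl
theorem f177987 : Led Lsl_ct (LP (LK LD1_c2 LD2_c43 LD3_c48)) = (LP (LK LD1_c5 LD2_c35 LD3_c51)) :=
  Lre_c IH (LK LD1_c2 LD2_c43 LD3_c48) (LK LD1_c5 LD2_c35 LD3_c51) Lrfl Lrfl
theorem f199353 : Led Lsl_df (LP (LK LD1_c4 LD2_c4 LD3_c36)) = (LP (LK LD1_c5 LD2_c35 LD3_c51)) :=
  Lgr Lrot43 (Lpr_ct (f192824 IH) (Lpr_dt (K12.f192823 IH) (Lpr_ct (K12.f192818 IH) (Lpr_dt (K12.f192825 IH) (Lpr_ct (K12.f192826 IH) (Lpr_dt (K12.f199348 IH) (Lpr_ct (K12.f199347 IH) (Lpr_dt (K12.f189125 IH) (Lpr_ct (K12.f177955 IH) (Lpr_dt (K12.f177870 IH) (Lpr_ct (K10.f177850 IH) (Lpr_dt (K13.f177956 IH) (Lpr_ct (f177935 IH) (Lpr_dt (f177952 IH) (Lpr_ct (f177987 IH) (Lpn (LP (LK LD1_c5 LD2_c35 LD3_c51))))))))))))))))))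
theorem f199363 : Led Lsl_at (LP (LK LD1_c5 LD2_c35 LD3_c19)) = (LP (LK LD1_c2 LD2_c43 LD3_c48)) :=
  Lre_a IH (LK LD1_c5 LD2_c35 LD3_c19) (LK LD1_c2 LD2_c43 LD3_c48) Lrfl Lrfl
theorem f199364 : Led Lsl_ft (LP (LK LD1_c5 LD2_c35 LD3_c51)) = (LP (LK LD1_c5 LD2_c35 LD3_c19)) :=
  Lgr Lrot142 (Lpe (f199353 IH) (Lpr_ct (f192824 IH) (Lpr_dt (K12.f192823 IH) (Lpr_ct (K12.f192818 IH) (Lpr_dt (K12.f192825 IH) (Lpr_ct (K12.f192826 IH) (Lpr_dt (K12.f199348 IH) (Lpr_ct (K12.f199347 IH) (Lpe (f199363 IH) (Lpn (LP (LK LD1_c5 LD2_c35 LD3_c19))))))))))))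
theorem f189126 : Led Lsl_gt (LP (LK LD1_c5 LD2_c35 LD3_c50)) = (LP (LK LD1_c2 LD2_c43 LD3_c48)) :=
  Lre_g IH (LK LD1_c5 LD2_c35 LD3_c50) (LK LD1_c2 LD2_c43 LD3_c48) Lrfl Lrfl
theorem f199381 : Led Lsl_gt (LP (LK LD1_c5 LD2_c35 LD3_c51)) = (LP (LK LD1_c5 LD2_c35 LD3_c50)) :=
  Lgr Lrot5 (Lpr_ft (f199364 IH) (Lpr_at (f199363 IH) (Lpe (f189126 IH) (Lpn (LP (LK LD1_c5 LD2_c35 LD3_c50))))))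
theorem f277904 : Led Lsl_cf (LP (LK LD1_c5 LD2_c35 LD3_c15)) = (LP (LK LD1_c5 LD2_c35 LD3_c50)) :=
  Lgr Lrot169 (Lpr_gt (K13.f234007 IH) (Lpe (f234045 IH) (Lpr_df (f235639 IH) (Lpe (K12.f172012 IH) (Lpr_gf (f277900 IH) (Lpr_cf (f177948 IH) (Lpe (f199530 IH) (Lpr_df (f199353 IH) (Lpr_gt (f199381 IH) (Lpn (LP (LK LD1_c5 LD2_c35 LD3_c50))))))))))))
theorem f171306 : Led Lsl_ct (LP (LK LD1_c3 LD2_c58 LD3_c36)) = (LP (LK LD1_c1 LD2_c56 LD3_c3)) :=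
  Lre_c IH (LK LD1_c3 LD2_c58 LD3_c36) (LK LD1_c1 LD2_c56 LD3_c3) Lrfl Lrfl
theorem f277928 : Led Lsl_df (LP (LK LD1_c4 LD2_c20 LD3_c46)) = (LP (LK LD1_c5 LD2_c35 LD3_c50)) :=
  Lgr Lrot155 (Lpr_gt (K13.f218141 IH) (Lpr_ct (f171306 IH) (Lpe (K13.f213025 IH) (Lpr_ct (K12.f199518 IH) (Lpr_dt (K13.f212772 IH) (Lpr_cf (f277904 IH) (Lpe (f199381 IH) (Lpe (f177987 IH) (Lpe (f189126 IH) (Lpn (LP (LK LD1_c5 LD2_c35 LD3_c50))))))))))))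
theorem f277922 : Led Lsl_ct (LP (LK LD1_c5 LD2_c35 LD3_c15)) = (LP (LK LD1_c5 LD2_c35 LD3_c50)) :=
  Lgr Lrot59 (Lpr_cf (f277904 IH) (Lpn (LP (LK LD1_c5 LD2_c35 LD3_c50))))
theorem f189130 : Led Lsl_dt (LP (LK LD1_c2 LD2_c43 LD3_c32)) = (LP (LK LD1_c1 LD2_c18 LD3_c10)) :=
  Lre_d IH (LK LD1_c2 LD2_c43 LD3_c32) (LK LD1_c1 LD2_c18 LD3_c10) Lrfl Lrfl
theorem f177953 : Led Lsl_gt (LP (LK LD1_c2 LD2_c43 LD3_c48)) = (LP (LK LD1_c5 LD2_c35 LD3_c49)) :=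
  Lre_g IH (LK LD1_c2 LD2_c43 LD3_c48) (LK LD1_c5 LD2_c35 LD3_c49) Lrfl Lrfl
theorem f277902 : Led Lsl_df (LP (LK LD1_c5 LD2_c35 LD3_c12)) = (LP (LK LD1_c5 LD2_c35 LD3_c49)) :=
  Lgr Lrot84 (Lpe (K13.f213470 IH) (Lpe (K13.f189128 IH) (Lpr_gf (K12.f212776 IH) (Lpe (K15.f42451 IH) (Lpr_gf (f277900 IH) (Lpr_cf (f177948 IH) (Lpr_gt (f177936 IH) (Lpr_dt (f177952 IH) (Lpr_gt (f177953 IH) (Lpn (LP (LK LD1_c5 LD2_c35 LD3_c49))))))))))))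
theorem f277933 : Led Lsl_ct (LP (LK LD1_c5 LD2_c0 LD3_c44)) = (LP (LK LD1_c5 LD2_c35 LD3_c49)) :=
  Lgr Lrot176 (Lpe (K12.f53677 IH) (Lpe (K13.f53680 IH) (Lpe (K9.f21866 IH) (Lpr_cf (K10.f53954 IH) (Lpe (K0.f31162 IH) (Lpe (K10.f31176 IH) (Lpr_df (f277928 IH) (Lpe (f277922 IH) (Lpe (K13.f212772 IH) (Lpe (K12.f199518 IH) (Lpe (K12.f189280 IH) (Lpe (K12.f178178 IH) (Lpe (f189130 IH) (Lpe (K13.f189129 IH) (Lpr_df (f277902 IH) (Lpn (LP (LK LD1_c5 LD2_c35 LD3_c49))))))))))))))))))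
theorem f54209 : Led Lsl_gt (LP (LK LD1_c2 LD2_c28 LD3_c4)) = (LP (LK LD1_c5 LD2_c0 LD3_c37)) :=
  Lre_g IH (LK LD1_c2 LD2_c28 LD3_c4) (LK LD1_c5 LD2_c0 LD3_c37) Lrfl Lrfl
theorem f171871 : Led Lsl_bt (LP (LK LD1_c2 LD2_c36 LD3_c60)) = (LP (LK LD1_c1 LD2_c15 LD3_c31)) :=
  Lre_b IH (LK LD1_c2 LD2_c36 LD3_c60) (LK LD1_c1 LD2_c15 LD3_c31) Lrfl Lrfl
theorem f235109 : Led Lsl_cf (LP (LK LD1_c5 LD2_c0 LD3_c37)) = (LP (LK LD1_c2 LD2_c36 LD3_c60)) :=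
  Lgr Lrot163 (Lpe (f54209 IH) (Lpe (K12.f53663 IH) (Lpr_gf (K13.f235105 IH) (Lpe (K13.f168965 IH) (Lpr_ct (K13.f181952 IH) (Lpe (K12.f165013 IH) (Lpe (K9.f165012 IH) (Lpr_bt (K9.f42260 IH) (Lpe (K12.f171870 IH) (Lpe (f171871 IH) (Lpn (LP (LK LD1_c2 LD2_c36 LD3_c60)))))))))))))
theorem f235135 : Led Lsl_ct (LP (LK LD1_c5 LD2_c0 LD3_c37)) = (LP (LK LD1_c2 LD2_c36 LD3_c60)) :=
  Lgr Lrot59 (Lpr_cf (f235109 IH) (Lpn (LP (LK LD1_c2 LD2_c36 LD3_c60))))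
theorem f224648 : Led Lsl_bt (LP (LK LD1_c1 LD2_c15 LD3_c31)) = (LP (LK LD1_c2 LD2_c36 LD3_c60)) :=
  Lre_b IH (LK LD1_c1 LD2_c15 LD3_c31) (LK LD1_c2 LD2_c36 LD3_c60) Lrfl Lrfl
theorem f212788 : Led Lsl_bf (LP (LK LD1_c2 LD2_c43 LD3_c32)) = (LP (LK LD1_c4 LD2_c10 LD3_c4)) :=
  Lgr Lrot93 (Lpr_dt (f189130 IH) (Lpr_bt (K12.f212781 IH) (Lpr_dt (f170856 IH) (Lpn (LP (LK LD1_c4 LD2_c10 LD3_c4))))))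
theorem f275473 : Led Lsl_gt (LP (LK LD1_c2 LD2_c36 LD3_c60)) = (LP (LK LD1_c2 LD2_c43 LD3_c32)) :=
  Lgr Lrot164 (Lpe (f224648 IH) (Lpr_ct (K12.f172023 IH) (Lpe (K12.f224644 IH) (Lpe (K12.f27698 IH) (Lpe (K13.f223900 IH) (Lpe (f173092 IH) (Lpr_ct (f173085 IH) (Lpr_gf (f275471 IH) (Lpe (f170857 IH) (Lpe (f212788 IH) (Lpn (LP (LK LD1_c2 LD2_c43 LD3_c32)))))))))))))
theorem f277975 : Led Lsl_dt (LP (LK LD1_c5 LD2_c35 LD3_c12)) = (LP (LK LD1_c5 LD2_c35 LD3_c49)) :=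
  Lgr Lrot27 (Lpe (K13.f213470 IH) (Lpe (f275473 IH) (Lpe (f235135 IH) (Lpe (f54209 IH) (Lpe (K12.f53668 IH) (Lpr_gt (f54219 IH) (Lpr_ct (f234053 IH) (Lpe (K13.f233933 IH) (Lpr_ct (f277933 IH) (Lpn (LP (LK LD1_c5 LD2_c35 LD3_c49))))))))))))
theorem f277982 : Led Lsl_gf (LP (LK LD1_c5 LD2_c35 LD3_c51)) = (LP (LK LD1_c5 LD2_c35 LD3_c49)) :=
  Lgr Lrot143 (Lpe (f199353 IH) (Lpe (K12.f192826 IH) (Lpe (K12.f192825 IH) (Lpe (K12.f212770 IH) (Lpe (K13.f212765 IH) (Lpr_gf (K13.f213025 IH) (Lpe (f171306 IH) (Lpe (K13.f213480 IH) (Lpr_dt (f277975 IH) (Lpn (LP (LK LD1_c5 LD2_c35 LD3_c49))))))))))))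
theorem f277987 : Led Lsl_gf (LP (LK LD1_c2 LD2_c43 LD3_c43)) = (LP (LK LD1_c2 LD2_c38 LD3_c14)) :=
  Lgr Lrot147 (Lpr_ct (K12.f199487 IH) (Lpr_gt (K12.f177871 IH) (Lpr_ct (f177935 IH) (Lpe (K12.f189125 IH) (Lpe (K12.f199347 IH) (Lpr_gf (f277982 IH) (Lpe (f277933 IH) (Lpr_gf (K13.f233933 IH) (Lpe (K13.f224178 IH) (Lpn (LP (LK LD1_c2 LD2_c38 LD3_c14))))))))))))
theorem f199521 : Led Lsl_bt (LP (LK LD1_c1 LD2_c18 LD3_c15)) = (LP (LK LD1_c2 LD2_c43 LD3_c42)) :=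
  Lre_b IH (LK LD1_c1 LD2_c18 LD3_c15) (LK LD1_c2 LD2_c43 LD3_c42) Lrfl Lrfl
theorem f187190 : Led Lsl_bf (LP (LK LD1_c4 LD2_c21 LD3_c4)) = (LP (LK LD1_c4 LD2_c13 LD3_c49)) :=
  Lgr Lrot24 (Lpr_bt (K10.f187188 IH) (Lpn (LP (LK LD1_c4 LD2_c13 LD3_c49))))
theorem f235774 : Led Lsl_gt (LP (LK LD1_c5 LD2_c27 LD3_c36)) = (LP (LK LD1_c2 LD2_c40 LD3_c11)) :=
  Lre_g IH (LK LD1_c5 LD2_c27 LD3_c36) (LK LD1_c2 LD2_c40 LD3_c11) Lrfl Lrfl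
theorem f278013 : Led Lsl_ct (LP (LK LD1_c4 LD2_c13 LD3_c49)) = (LP (LK LD1_c5 LD2_c27 LD3_c36)) :=
  Lgr Lrot64 (Lpe (f187190 IH) (Lpe (K15.f267283 IH) (Lpe (f199521 IH) (Lpr_ct (K12.f199482 IH) (Lpr_gf (f277987 IH) (Lpe (K13.f224172 IH) (Lpe (K13.f221609 IH) (Lpe (K13.f235786 IH) (Lpr_ct (K13.f173955 IH) (Lpe (f235774 IH) (Lpn (LP (LK LD1_c5 LD2_c27 LD3_c36)))))))))))))
theorem f190837 : Led Lsl_dt (LP (LK LD1_c2 LD2_c1 LD3_c58)) = (LP (LK LD1_c0 LD2_c57 LD3_c58)) :=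
  Lre_d IH (LK LD1_c2 LD2_c1 LD3_c58) (LK LD1_c0 LD2_c57 LD3_c58) Lrfl Lrfl
theorem f266471 : Led Lsl_cf (LP (LK LD1_c4 LD2_c55 LD3_c5)) = (LP (LK LD1_c4 LD2_c29 LD3_c7)) :=
  Lgr Lrot99 (Lpr_df (K15.f266462 IH) (Lpe (K13.f213795 IH) (Lpe (K15.f220553 IH) (Lpe (K15.f253185 IH) (Lpr_gf (K15.f259248 IH) (Lpe (f190837 IH) (Lpe (K13.f236254 IH) (Lpr_ct (K13.f179771 IH) (Lpr_gt (f179772 IH) (Lpn (LP (LK LD1_c4 LD2_c29 LD3_c7))))))))))))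
theorem f183743 : Led Lsl_dt (LP (LK LD1_c8 LD2_c26 LD3_c25)) = (LP (LK LD1_c4 LD2_c13 LD3_c52)) :=
  Lre_d IH (LK LD1_c8 LD2_c26 LD3_c25) (LK LD1_c4 LD2_c13 LD3_c52) Lrfl Lrfl
theorem f263705 : Led Lsl_gt (LP (LK LD1_c4 LD2_c29 LD3_c10)) = (LP (LK LD1_c8 LD2_c26 LD3_c25)) :=
  Lgr Lrot49 (Lpe (K13.f213796 IH) (Lpe (K14.f213783 IH) (Lpr_cf (K14.f213784 IH) (Lpr_gt (K15.f263688 IH) (Lpr_dt (K15.f219092 IH) (Lpr_gt (K14.f219080 IH) (Lpr_dt (f27398 IH) (Lpe (K11.f50874 IH) (Lpe (f183743 IH) (Lpn (LP (LK LD1_c8 LD2_c26 LD3_c25))))))))))))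
theorem f52006 : Led Lsl_ct (LP (LK LD1_c8 LD2_c26 LD3_c25)) = (LP (LK LD1_c4 LD2_c16 LD3_c37)) :=
  Lre_c IH (LK LD1_c8 LD2_c26 LD3_c25) (LK LD1_c4 LD2_c16 LD3_c37) Lrfl Lrfl
theorem f51928 : Led Lsl_gt (LP (LK LD1_c4 LD2_c16 LD3_c37)) = (LP (LK LD1_c8 LD2_c30 LD3_c8)) :=
  Lre_g IH (LK LD1_c4 LD2_c16 LD3_c37) (LK LD1_c8 LD2_c30 LD3_c8) Lrfl Lrfl
theorem f217491 : Led Lsl_ct (LP (LK LD1_c4 LD2_c55 LD3_c25)) = (LP (LK LD1_c2 LD2_c25 LD3_c35)) :=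
  Lre_c IH (LK LD1_c4 LD2_c55 LD3_c25) (LK LD1_c2 LD2_c25 LD3_c35) Lrfl Lrfl
theorem f173051 : Led Lsl_ct (LP (LK LD1_c2 LD2_c25 LD3_c35)) = (LP (LK LD1_c4 LD2_c55 LD3_c25)) :=
  Lre_c IH (LK LD1_c2 LD2_c25 LD3_c35) (LK LD1_c4 LD2_c55 LD3_c25) Lrfl Lrfl
theorem f33505 : Led Lsl_dt (LP (LK LD1_c1 LD2_c14 LD3_c10)) = (LP (LK LD1_c0 LD2_c34 LD3_c25)) :=
  Lre_d IH (LK LD1_c1 LD2_c14 LD3_c10) (LK LD1_c0 LD2_c34 LD3_c25) Lrfl Lrfl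
theorem f222180 : Led Lsl_gt (LP (LK LD1_c4 LD2_c55 LD3_c25)) = (LP (LK LD1_c2 LD2_c34 LD3_c20)) :=
  Lgr Lrot150 (Lpe (f173051 IH) (Lpr_gf (K12.f217477 IH) (Lpe (K15.f27438 IH) (Lpe (K14.f219077 IH) (Lpr_ct (K14.f171985 IH) (Lpr_gt (K14.f222165 IH) (Lpr_ct (K15.f33451 IH) (Lpe (f33505 IH) (Lpe (K10.f33455 IH) (Lpn (LP (LK LD1_c2 LD2_c34 LD3_c20))))))))))))
theorem f54463 : Led Lsl_gt (LP (LK LD1_c5 LD2_c14 LD3_c61)) = (LP (LK LD1_c10 LD2_c19 LD3_c26)) :=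
  Lre_g IH (LK LD1_c5 LD2_c14 LD3_c61) (LK LD1_c10 LD2_c19 LD3_c26) Lrfl Lrfl
theorem f278028 : Led Lsl_dt (LP (LK LD1_c10 LD2_c19 LD3_c26)) = (LP (LK LD1_c5 LD2_c27 LD3_c36)) :=
  Lgr Lrot113 (Lpe (f54463 IH) (Lpe (f33467 IH) (Lpe (f222180 IH) (Lpr_ct (f217491 IH) (Lpr_gt (K12.f217485 IH) (Lpr_dt (K11.f45084 IH) (Lpr_gt (K9.f45094 IH) (Lpr_dt (K10.f45095 IH) (Lpr_ct (f278013 IH) (Lpn (LP (LK LD1_c5 LD2_c27 LD3_c36))))))))))))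
theorem f278030 : Led Lsl_ct (LP (LK LD1_c8 LD2_c30 LD3_c8)) = (LP (LK LD1_c10 LD2_c19 LD3_c26)) :=
  Lgr Lrot110 (Lpe (f51928 IH) (Lpe (f52006 IH) (Lpe (f263705 IH) (Lpe (K13.f213796 IH) (Lpr_gt (f179772 IH) (Lpe (f266471 IH) (Lpr_gt (K15.f266473 IH) (Lpr_ct (f278013 IH) (Lpe (f278028 IH) (Lpn (LP (LK LD1_c10 LD2_c19 LD3_c26))))))))))))
theorem f278047 : Led Lsl_cf (LP (LK LD1_c8 LD2_c30 LD3_c8)) = (LP (LK LD1_c10 LD2_c19 LD3_c26)) :=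
  Lgr Lrot11 (Lpr_ct (f278030 IH) (Lpn (LP (LK LD1_c10 LD2_c19 LD3_c26))))
theorem f1253 : Led Lsl_dt (LP (LK LD1_c4 LD2_c15 LD3_c34)) = (LP (LK LD1_c2 LD2_c5 LD3_c8)) :=
  Lre_d IH (LK LD1_c4 LD2_c15 LD3_c34) (LK LD1_c2 LD2_c5 LD3_c8) Lrfl Lrfl
theorem f932 : Led Lsl_gt (LP (LK LD1_c8 LD2_c30 LD3_c8)) = (LP (LK LD1_c4 LD2_c15 LD3_c34)) :=
  Lre_g IH (LK LD1_c8 LD2_c30 LD3_c8) (LK LD1_c4 LD2_c15 LD3_c34) Lrfl Lrfl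
theorem f178516 : Led Lsl_gt (LP (LK LD1_c2 LD2_c41 LD3_c26)) = (LP (LK LD1_c5 LD2_c30 LD3_c18)) :=
  Lre_g IH (LK LD1_c2 LD2_c41 LD3_c26) (LK LD1_c5 LD2_c30 LD3_c18) Lrfl Lrfl
theorem f236222 : Led Lsl_df (LP (LK LD1_c8 LD2_c30 LD3_c8)) = (LP (LK LD1_c5 LD2_c30 LD3_c18)) :=
  Lgr Lrot153 (Lpr_gt (f932 IH) (Lpr_dt (f1253 IH) (Lpe (f793 IH) (Lpe (K10.f767 IH) (Lpe (K10.f785 IH) (Lpe (K13.f1326 IH) (Lpr_gf (K13.f236220 IH) (Lpe (f178842 IH) (Lpr_gt (f178516 IH) (Lpn (LP (LK LD1_c5 LD2_c30 LD3_c18))))))))))))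
theorem f178515 : Led Lsl_ct (LP (LK LD1_c1 LD2_c17 LD3_c23)) = (LP (LK LD1_c2 LD2_c41 LD3_c26)) :=
  Lre_c IH (LK LD1_c1 LD2_c17 LD3_c23) (LK LD1_c2 LD2_c41 LD3_c26) Lrfl Lrfl
theorem f219087 : Led Lsl_cf (LP (LK LD1_c4 LD2_c55 LD3_c3)) = (LP (LK LD1_c5 LD2_c30 LD3_c18)) :=
  Lgr Lrot99 (Lpe (K15.f219086 IH) (Lpe (K14.f171985 IH) (Lpr_gf (K14.f219077 IH) (Lpe (K9.f27358 IH) (Lpe (K10.f27368 IH) (Lpe (K10.f1331 IH) (Lpr_gt (K14.f213781 IH) (Lpr_ct (f178515 IH) (Lpr_gt (f178516 IH) (Lpn (LP (LK LD1_c5 LD2_c30 LD3_c18))))))))))))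
theorem f219098 : Led Lsl_ct (LP (LK LD1_c4 LD2_c55 LD3_c3)) = (LP (LK LD1_c5 LD2_c30 LD3_c18)) :=
  Lgr Lrot59 (Lpr_cf (f219087 IH) (Lpn (LP (LK LD1_c5 LD2_c30 LD3_c18))))
theorem f243468 : Led Lsl_gt (LP (LK LD1_c4 LD2_c15 LD3_c44)) = (LP (LK LD1_c8 LD2_c30 LD3_c31)) :=
  Lre_g IH (LK LD1_c4 LD2_c15 LD3_c44) (LK LD1_c8 LD2_c30 LD3_c31) Lrfl Lrfl
theorem f278057 : Led Lsl_ct (LP (LK LD1_c8 LD2_c30 LD3_c31)) = (LP (LK LD1_c5 LD2_c14 LD3_c61)) :=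
  Lgr Lrot186 (Lpe (f243468 IH) (Lpr_dt (K13.f243469 IH) (Lpr_gt (K15.f243213 IH) (Lpr_ct (K15.f243398 IH) (Lpr_gt (K15.f263684 IH) (Lpr_ct (f219098 IH) (Lpe (f236222 IH) (Lpr_cf (f278047 IH) (Lpe (f54463 IH) (Lpn (LP (LK LD1_c5 LD2_c14 LD3_c61))))))))))))
theorem f278075 : Led Lsl_df (LP (LK LD1_c5 LD2_c30 LD3_c18)) = (LP (LK LD1_c8 LD2_c30 LD3_c8)) :=
  Lgr Lrot162 (Lpe (f219098 IH) (Lpe (K15.f263684 IH) (Lpe (K15.f243398 IH) (Lpe (K15.f243213 IH) (Lpr_dt (K13.f683 IH) (Lpr_gt (f243468 IH) (Lpr_ct (f278057 IH) (Lpr_gt (f54463 IH) (Lpe (f278047 IH) (Lpn (LP (LK LD1_c8 LD2_c30 LD3_c8))))))))))))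
theorem f174977 : Led Lsl_gt (LP (LK LD1_c0 LD2_c15 LD3_c56)) = (LP (LK LD1_c0 LD2_c35 LD3_c32)) :=
  Lre_g IH (LK LD1_c0 LD2_c15 LD3_c56) (LK LD1_c0 LD2_c35 LD3_c32) Lrfl Lrfl
theorem f235778 : Led Lsl_ct (LP (LK LD1_c0 LD2_c35 LD3_c32)) = (LP (LK LD1_c1 LD2_c16 LD3_c47)) :=
  Lre_c IH (LK LD1_c0 LD2_c35 LD3_c32) (LK LD1_c1 LD2_c16 LD3_c47) Lrfl Lrfl
theorem f235779 : Led Lsl_gt (LP (LK LD1_c1 LD2_c16 LD3_c47)) = (LP (LK LD1_c2 LD2_c25 LD3_c25)) :=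
  Lgr Lrot150 (Lpe (f235778 IH) (Lpe (f174977 IH) (Lpe (K14.f196999 IH) (Lpr_gt (K13.f168542 IH) (Lpr_ct (K13.f173955 IH) (Lpr_gt (K13.f235771 IH) (Lpr_ct (f219085 IH) (Lpe (K15.f219082 IH) (Lpe (f171905 IH) (Lpn (LP (LK LD1_c2 LD2_c25 LD3_c25))))))))))))
theorem f278080 : Led Lsl_dt (LP (LK LD1_c2 LD2_c40 LD3_c4)) = (LP (LK LD1_c1 LD2_c16 LD3_c47)) :=
  Lre_d IH (LK LD1_c2 LD2_c40 LD3_c4) (LK LD1_c1 LD2_c16 LD3_c47) Lrfl Lrfl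
theorem f52011 : Led Lsl_dt (LP (LK LD1_c2 LD2_c5 LD3_c35)) = (LP (LK LD1_c4 LD2_c16 LD3_c37)) :=
  Lre_d IH (LK LD1_c2 LD2_c5 LD3_c35) (LK LD1_c4 LD2_c16 LD3_c37) Lrfl Lrfl
theorem f278081 : Led Lsl_gf (LP (LK LD1_c2 LD2_c40 LD3_c4)) = (LP (LK LD1_c2 LD2_c23 LD3_c37)) :=
  Lgr Lrot144 (Lpr_dt (f278080 IH) (Lpr_gt (f235779 IH) (Lpr_dt (K15.f219086 IH) (Lpr_cf (f219087 IH) (Lpr_df (f278075 IH) (Lpe (f51928 IH) (Lpe (f52011 IH) (Lpe (K11.f53363 IH) (Lpr_cf (K11.f171036 IH) (Lpn (LP (LK LD1_c2 LD2_c23 LD3_c37))))))))))))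
theorem f278091 : Led Lsl_dt (LP (LK LD1_c1 LD2_c16 LD3_c47)) = (LP (LK LD1_c2 LD2_c40 LD3_c4)) :=
  Lre_d IH (LK LD1_c1 LD2_c16 LD3_c47) (LK LD1_c2 LD2_c40 LD3_c4) Lrfl Lrfl
theorem f271035 : Led Lsl_df (LP (LK LD1_c2 LD2_c23 LD3_c37)) = (LP (LK LD1_c4 LD2_c9 LD3_c4)) :=
  Lgr Lrot38 (Lpr_dt (f271033 IH) (Lpn (LP (LK LD1_c4 LD2_c9 LD3_c4))))
theorem f234250 : Led Lsl_et (LP (LK LD1_c0 LD2_c57 LD3_c56)) = (LP (LK LD1_c2 LD2_c1 LD3_c55)) :=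
  Lre_e IH (LK LD1_c0 LD2_c57 LD3_c56) (LK LD1_c2 LD2_c1 LD3_c55) Lrfl Lrfl
theorem f254793 : Led Lsl_gf (LP (LK LD1_c2 LD2_c1 LD3_c54)) = (LP (LK LD1_c4 LD2_c8 LD3_c32)) :=
  Lgr Lrot147 (Lpr_ct (K12.f220732 IH) (Lpr_gt (K13.f228401 IH) (Lpr_ct (K13.f220215 IH) (Lpe (K12.f216970 IH) (Lpr_cf (K12.f220209 IH) (Lpr_gf (K14.f250927 IH) (Lpe (K14.f236109 IH) (Lpr_gf (K14.f254789 IH) (Lpr_df (K14.f232184 IH) (Lpn (LP (LK LD1_c4 LD2_c8 LD3_c32))))))))))))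
theorem f278093 : Led Lsl_et (LP (LK LD1_c1 LD2_c16 LD3_c47)) = (LP (LK LD1_c1 LD2_c16 LD3_c47)) :=
  Lgr Lrot185 (Lpr_dt (f278091 IH) (Lpr_gf (f278081 IH) (Lpr_df (f271035 IH) (Lpe (f190835 IH) (Lpe (f234250 IH) (Lpr_dt (K13.f190824 IH) (Lpr_gf (f254793 IH) (Lpe (K14.f232158 IH) (Lpr_et (K14.f222182 IH) (Lpe (f235779 IH) (Lpn (LP (LK LD1_c1 LD2_c16 LD3_c47)))))))))))))
theorem f278087 : Led Lsl_ct (LP (LK LD1_c1 LD2_c16 LD3_c47)) = (LP (LK LD1_c0 LD2_c35 LD3_c32)) :=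
  Lre_c IH (LK LD1_c1 LD2_c16 LD3_c47) (LK LD1_c0 LD2_c35 LD3_c32) Lrfl Lrfl
theorem f278095 : Led Lsl_ef (LP (LK LD1_c0 LD2_c35 LD3_c32)) = (LP (LK LD1_c0 LD2_c35 LD3_c32)) :=
  Lgr Lrot28 (Lpr_ct (f235778 IH) (Lpr_et (f278093 IH) (Lpr_ct (f278087 IH) (Lpn (LP (LK LD1_c0 LD2_c35 LD3_c32))))))
theorem f174978 : Led Lsl_dt (LP (LK LD1_c0 LD2_c35 LD3_c32)) = (LP (LK LD1_c1 LD2_c16 LD3_c48)) :=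
  Lre_d IH (LK LD1_c0 LD2_c35 LD3_c32) (LK LD1_c1 LD2_c16 LD3_c48) Lrfl Lrfl
theorem f278109 : Led Lsl_gf (LP (LK LD1_c2 LD2_c11 LD3_c57)) = (LP (LK LD1_c1 LD2_c16 LD3_c48)) :=
  Lgr Lrot145 (Lpr_df (f271621 IH) (Lpr_et (K15.f53587 IH) (Lpr_gt (K10.f53585 IH) (Lpr_dt (K9.f49676 IH) (Lpr_gt (K10.f191183 IH) (Lpe (K13.f236119 IH) (Lpr_et (K10.f197001 IH) (Lpr_gt (f174977 IH) (Lpr_ef (f278095 IH) (Lpr_dt (f174978 IH) (Lpn (LP (LK LD1_c1 LD2_c16 LD3_c48)))))))))))))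
theorem f216391 : Led Lsl_bt (LP (LK LD1_c0 LD2_c59 LD3_c14)) = (LP (LK LD1_c0 LD2_c27 LD3_c1)) :=
  Lre_b IH (LK LD1_c0 LD2_c59 LD3_c14) (LK LD1_c0 LD2_c27 LD3_c1) Lrfl Lrfl
theorem f235548 : Led Lsl_ct (LP (LK LD1_c2 LD2_c38 LD3_c9)) = (LP (LK LD1_c4 LD2_c56 LD3_c2)) :=
  Lgr Lrot59 (Lpr_cf (K13.f235544 IH) (Lpn (LP (LK LD1_c4 LD2_c56 LD3_c2))))
theorem f278117 : Led Lsl_bt (LP (LK LD1_c2 LD2_c38 LD3_c9)) = (LP (LK LD1_c1 LD2_c16 LD3_c48)) :=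
  Lgr Lrot130 (Lpr_ct (f235548 IH) (Lpr_gf (K13.f235259 IH) (Lpe (K13.f218245 IH) (Lpr_bt (K13.f218244 IH) (Lpe (K11.f190952 IH) (Lpe (f216391 IH) (Lpr_ct (K12.f188941 IH) (Lpe (f216392 IH) (Lpr_cf (f271636 IH) (Lpr_gf (f278109 IH) (Lpn (LP (LK LD1_c1 LD2_c16 LD3_c48)))))))))))))
theorem f234976 : Led Lsl_at (LP (LK LD1_c2 LD2_c42 LD3_c19)) = (LP (LK LD1_c4 LD2_c29 LD3_c25)) :=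
  Lgr Lrot66 (Lpr_ff (K12.f222480 IH) (Lpe (K13.f234743 IH) (Lpr_ff (K13.f234974 IH) (Lpn (LP (LK LD1_c4 LD2_c29 LD3_c25))))))
theorem f258680 : Led Lsl_gt (LP (LK LD1_c2 LD2_c42 LD3_c17)) = (LP (LK LD1_c4 LD2_c29 LD3_c25)) :=
  Lgr Lrot46 (Lpr_gf (K15.f258675 IH) (Lpe (K12.f222480 IH) (Lpr_at (f234976 IH) (Lpn (LP (LK LD1_c4 LD2_c29 LD3_c25))))))
theorem f278121 : Led Lsl_bf (LP (LK LD1_c2 LD2_c11 LD3_c57)) = (LP (LK LD1_c1 LD2_c17 LD3_c45)) :=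
  Lgr Lrot34 (Lpr_gf (f278109 IH) (Lpe (f278117 IH) (Lpr_ct (f235548 IH) (Lpr_gf (K13.f235259 IH) (Lpe (K13.f218245 IH) (Lpe (K13.f235321 IH) (Lpe (K13.f53618 IH) (Lpr_ct (K13.f234980 IH) (Lpe (f258680 IH) (Lpe (K12.f213232 IH) (Lpn (LP (LK LD1_c1 LD2_c17 LD3_c45)))))))))))))
theorem f221059 : Led Lsl_ff (LP (LK LD1_c4 LD2_c13 LD3_c52)) = (LP (LK LD1_c2 LD2_c41 LD3_c49)) :=
  Lgr Lrot30 (Lpr_at (K11.f183727 IH) (Lpr_ft (K12.f183776 IH) (Lpr_at (K12.f220878 IH) (Lpn (LP (LK LD1_c2 LD2_c41 LD3_c49))))))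
theorem f221283 : Led Lsl_gf (LP (LK LD1_c4 LD2_c14 LD3_c14)) = (LP (LK LD1_c2 LD2_c41 LD3_c49)) :=
  Lgr Lrot47 (Lpr_gt (f216392 IH) (Lpe (K11.f183727 IH) (Lpr_ff (f221059 IH) (Lpn (LP (LK LD1_c2 LD2_c41 LD3_c49))))))
theorem f271723 : Led Lsl_cf (LP (LK LD1_c2 LD2_c11 LD3_c57)) = (LP (LK LD1_c4 LD2_c14 LD3_c14)) :=
  Lgr Lrot1 (Lpr_at (f218132 IH) (Lpr_ct (K12.f167924 IH) (Lpr_at (f271645 IH) (Lpn (LP (LK LD1_c4 LD2_c14 LD3_c14))))))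
theorem f278073 : Led Lsl_gt (LP (LK LD1_c2 LD2_c11 LD3_c57)) = (LP (LK LD1_c1 LD2_c14 LD3_c10)) :=
  Lgr Lrot150 (Lpr_cf (f271723 IH) (Lpr_gf (f221283 IH) (Lpr_df (K12.f221080 IH) (Lpr_gt (K13.f52087 IH) (Lpe (K13.f243502 IH) (Lpr_gt (f243468 IH) (Lpr_ct (f278057 IH) (Lpe (f33467 IH) (Lpe (K12.f33470 IH) (Lpn (LP (LK LD1_c1 LD2_c14 LD3_c10))))))))))))
theorem f189484 : Led Lsl_ct (LP (LK LD1_c3 LD2_c58 LD3_c8)) = (LP (LK LD1_c7 LD2_c57 LD3_c41)) :=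
  Lre_c IH (LK LD1_c3 LD2_c58 LD3_c8) (LK LD1_c7 LD2_c57 LD3_c41) Lrfl Lrfl
theorem f278129 : Led Lsl_gt (LP (LK LD1_c5 LD2_c14 LD3_c57)) = (LP (LK LD1_c7 LD2_c57 LD3_c41)) :=
  Lgr Lrot65 (Lpe (K10.f48052 IH) (Lpr_bt (K12.f33454 IH) (Lpe (f278073 IH) (Lpr_bf (f278121 IH) (Lpr_ct (K12.f213232 IH) (Lpr_gf (K15.f258675 IH) (Lpe (K12.f222471 IH) (Lpr_gf (K13.f222461 IH) (Lpr_bf (K13.f233847 IH) (Lpr_ct (f189484 IH) (Lpn (LP (LK LD1_c7 LD2_c57 LD3_c41)))))))))))))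
theorem f48084 : Led Lsl_dt (LP (LK LD1_c5 LD2_c14 LD3_c57)) = (LP (LK LD1_c10 LD2_c19 LD3_c18)) :=
  Lre_d IH (LK LD1_c5 LD2_c14 LD3_c57) (LK LD1_c10 LD2_c19 LD3_c18) Lrfl Lrfl
theorem f173837 : Led Lsl_ct (LP (LK LD1_c7 LD2_c57 LD3_c43)) = (LP (LK LD1_c3 LD2_c58 LD3_c9)) :=
  Lre_c IH (LK LD1_c7 LD2_c57 LD3_c43) (LK LD1_c3 LD2_c58 LD3_c9) Lrfl Lrfl
theorem f41267 : Led Lsl_ct (LP (LK LD1_c3 LD2_c58 LD3_c6)) = (LP (LK LD1_c7 LD2_c57 LD3_c37)) :=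
  Lre_c IH (LK LD1_c3 LD2_c58 LD3_c6) (LK LD1_c7 LD2_c57 LD3_c37) Lrfl Lrfl
theorem f199619 : Led Lsl_dt (LP (LK LD1_c15 LD2_c0 LD3_c55)) = (LP (LK LD1_c7 LD2_c57 LD3_c37)) :=
  Lre_d IH (LK LD1_c15 LD2_c0 LD3_c55) (LK LD1_c7 LD2_c57 LD3_c37) Lrfl Lrfl
theorem f253203 : Led Lsl_gf (LP (LK LD1_c15 LD2_c0 LD3_c55)) = (LP (LK LD1_c10 LD2_c19 LD3_c18)) :=
  Lgr Lrot143 (Lpr_dt (f199619 IH) (Lpe (f41267 IH) (Lpe (K13.f41266 IH) (Lpe (K11.f41265 IH) (Lpe (K1.f41906 IH) (Lpe (K9.f41379 IH) (Lpe (f173837 IH) (Lpr_gt (f253189 IH) (Lpr_dt (f48084 IH) (Lpn (LP (LK LD1_c10 LD2_c19 LD3_c18))))))))))))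
theorem f41351 : Led Lsl_gt (LP (LK LD1_c3 LD2_c58 LD3_c8)) = (LP (LK LD1_c1 LD2_c56 LD3_c2)) :=
  Lre_g IH (LK LD1_c3 LD2_c58 LD3_c8) (LK LD1_c1 LD2_c56 LD3_c2) Lrfl Lrfl
theorem f41080 : Led Lsl_dt (LP (LK LD1_c7 LD2_c58 LD3_c40)) = (LP (LK LD1_c3 LD2_c58 LD3_c34)) :=
  Lre_d IH (LK LD1_c7 LD2_c58 LD3_c40) (LK LD1_c3 LD2_c58 LD3_c34) Lrfl Lrfl
theorem f41930 : Led Lsl_gt (LP (LK LD1_c10 LD2_c32 LD3_c43)) = (LP (LK LD1_c5 LD2_c21 LD3_c14)) :=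
  Lre_g IH (LK LD1_c10 LD2_c32 LD3_c43) (LK LD1_c5 LD2_c21 LD3_c14) Lrfl Lrfl
theorem f278131 : Led Lsl_ct (LP (LK LD1_c15 LD2_c0 LD3_c55)) = (LP (LK LD1_c10 LD2_c32 LD3_c43)) :=
  Lgr Lrot152 (Lpr_gf (f253203 IH) (Lpe (f48084 IH) (Lpr_gt (f278129 IH) (Lpr_ct (K13.f41969 IH) (Lpr_gt (f41351 IH) (Lpr_ct (K9.f41081 IH) (Lpe (f41080 IH) (Lpe (K9.f41914 IH) (Lpe (f41930 IH) (Lpn (LP (LK LD1_c10 LD2_c32 LD3_c43))))))))))))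
theorem f278148 : Led Lsl_cf (LP (LK LD1_c15 LD2_c0 LD3_c55)) = (LP (LK LD1_c10 LD2_c32 LD3_c43)) :=
  Lgr Lrot11 (Lpr_ct (f278131 IH) (Lpn (LP (LK LD1_c10 LD2_c32 LD3_c43))))
theorem f199814 : Led Lsl_gf (LP (LK LD1_c10 LD2_c32 LD3_c43)) = (LP (LK LD1_c8 LD2_c33 LD3_c36)) :=
  Lgr Lrot47 (Lpr_gt (f41930 IH) (Lpe (K9.f42691 IH) (Lpr_ff (K11.f199809 IH) (Lpn (LP (LK LD1_c8 LD2_c33 LD3_c36))))))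
theorem f199777 : Led Lsl_ct (LP (LK LD1_c7 LD2_c57 LD3_c46)) = (LP (LK LD1_c8 LD2_c33 LD3_c36)) :=
  Lgr Lrot59 (Lpr_cf (K11.f199772 IH) (Lpn (LP (LK LD1_c8 LD2_c33 LD3_c36))))
theorem f278151 : Led Lsl_gt (LP (LK LD1_c8 LD2_c7 LD3_c50)) = (LP (LK LD1_c7 LD2_c57 LD3_c46)) :=
  Lgr Lrot9 (Lpe (K12.f226812 IH) (Lpr_gt (K14.f253899 IH) (Lpr_ct (K14.f253903 IH) (Lpr_gt (K14.f254170 IH) (Lpr_ct (f41267 IH) (Lpe (f199619 IH) (Lpr_cf (f278148 IH) (Lpr_gf (f199814 IH) (Lpe (f199777 IH) (Lpn (LP (LK LD1_c7 LD2_c57 LD3_c46))))))))))))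
theorem f278157 : Led Lsl_gt (LP (LK LD1_c2 LD2_c7 LD3_c15)) = (LP (LK LD1_c3 LD2_c58 LD3_c7)) :=
  Lgr Lrot94 (Lpe (K14.f226761 IH) (Lpr_gt (K13.f226786 IH) (Lpr_dt (K12.f226812 IH) (Lpr_gt (f278151 IH) (Lpr_dt (K11.f41226 IH) (Lpe (K12.f41164 IH) (Lpe (K1.f41218 IH) (Lpe (K14.f41276 IH) (Lpe (K14.f41972 IH) (Lpn (LP (LK LD1_c3 LD2_c58 LD3_c7))))))))))))
theorem f226843 : Led Lsl_dt (LP (LK LD1_c1 LD2_c0 LD3_c39)) = (LP (LK LD1_c2 LD2_c7 LD3_c15)) :=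
  Lre_d IH (LK LD1_c1 LD2_c0 LD3_c39) (LK LD1_c2 LD2_c7 LD3_c15) Lrfl Lrfl
theorem f266911 : Led Lsl_et (LP (LK LD1_c1 LD2_c59 LD3_c40)) = (LP (LK LD1_c2 LD2_c7 LD3_c14)) :=
  Lgr Lrot122 (Lpr_dt (K10.f46242 IH) (Lpr_gt (K10.f192136 IH) (Lpe (K10.f192134 IH) (Lpr_et (K10.f192133 IH) (Lpe (K10.f192121 IH) (Lpr_dt (K1.f31516 IH) (Lpr_gt (K14.f249063 IH) (Lpe (K14.f249068 IH) (Lpr_et (K15.f266907 IH) (Lpr_gt (K15.f254174 IH) (Lpn (LP (LK LD1_c2 LD2_c7 LD3_c14)))))))))))))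
theorem f180054 : Led Lsl_at (LP (LK LD1_c1 LD2_c18 LD3_c34)) = (LP (LK LD1_c2 LD2_c44 LD3_c26)) :=
  Lre_a IH (LK LD1_c1 LD2_c18 LD3_c34) (LK LD1_c2 LD2_c44 LD3_c26) Lrfl Lrfl
theorem f180055 : Led Lsl_ef (LP (LK LD1_c2 LD2_c3 LD3_c43)) = (LP (LK LD1_c2 LD2_c44 LD3_c26)) :=
  Lgr Lrot20 (Lpr_at (f180053 IH) (Lpr_et (f180051 IH) (Lpr_at (f180054 IH) (Lpn (LP (LK LD1_c2 LD2_c44 LD3_c26))))))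
theorem f180061 : Led Lsl_dt (LP (LK LD1_c2 LD2_c44 LD3_c26)) = (LP (LK LD1_c5 LD2_c37 LD3_c3)) :=
  Lre_d IH (LK LD1_c2 LD2_c44 LD3_c26) (LK LD1_c5 LD2_c37 LD3_c3) Lrfl Lrfl
theorem f278177 : Led Lsl_gf (LP (LK LD1_c4 LD2_c5 LD3_c2)) = (LP (LK LD1_c5 LD2_c37 LD3_c3)) :=
  Lgr Lrot145 (Lpe (K10.f46242 IH) (Lpr_et (f266911 IH) (Lpr_gt (K15.f170320 IH) (Lpr_dt (f226843 IH) (Lpr_gt (f278157 IH) (Lpe (K14.f41973 IH) (Lpe (K14.f246731 IH) (Lpe (f276652 IH) (Lpr_ef (f180055 IH) (Lpr_dt (f180061 IH) (Lpn (LP (LK LD1_c5 LD2_c37 LD3_c3)))))))))))))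
theorem f266906 : Led Lsl_et (LP (LK LD1_c0 LD2_c27 LD3_c35)) = (LP (LK LD1_c1 LD2_c0 LD3_c39)) :=
  Lre_e IH (LK LD1_c0 LD2_c27 LD3_c35) (LK LD1_c1 LD2_c0 LD3_c39) Lrfl Lrfl
theorem f278195 : Led Lsl_gt (LP (LK LD1_c2 LD2_c29 LD3_c2)) = (LP (LK LD1_c2 LD2_c44 LD3_c26)) :=
  Lgr Lrot94 (Lpe (K14.f193959 IH) (Lpr_gt (K14.f193957 IH) (Lpe (K14.f251311 IH) (Lpe (K14.f247521 IH) (Lpr_dt (K13.f44464 IH) (Lpe (K10.f190863 IH) (Lpe (K10.f47970 IH) (Lpr_gf (f278177 IH) (Lpe (f180061 IH) (Lpn (LP (LK LD1_c2 LD2_c44 LD3_c26))))))))))))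
theorem f256068 : Led Lsl_ef (LP (LK LD1_c2 LD2_c29 LD3_c2)) = (LP (LK LD1_c2 LD2_c3 LD3_c42)) :=
  Lgr Lrot28 (Lpr_ct (K14.f28378 IH) (Lpr_et (K14.f256066 IH) (Lpr_ct (K14.f200356 IH) (Lpn (LP (LK LD1_c2 LD2_c3 LD3_c42))))))
theorem f278198 : Led Lsl_df (LP (LK LD1_c2 LD2_c7 LD3_c9)) = (LP (LK LD1_c2 LD2_c3 LD3_c42)) :=
  Lgr Lrot168 (Lpe (K12.f179561 IH) (Lpe (K12.f189114 IH) (Lpr_et (f266906 IH) (Lpe (K15.f170320 IH) (Lpe (f266911 IH) (Lpr_dt (K10.f46242 IH) (Lpr_gf (f278177 IH) (Lpe (f180061 IH) (Lpe (f278195 IH) (Lpr_ef (f256068 IH) (Lpn (LP (LK LD1_c2 LD2_c3 LD3_c42)))))))))))))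
theorem f166915 : Led Lsl_dt (LP (LK LD1_c2 LD2_c3 LD3_c21)) = (LP (LK LD1_c0 LD2_c58 LD3_c39)) :=
  Lre_d IH (LK LD1_c2 LD2_c3 LD3_c21) (LK LD1_c0 LD2_c58 LD3_c39) Lrfl Lrfl
theorem f278206 : Led Lsl_gt (LP (LK LD1_c2 LD2_c7 LD3_c9)) = (LP (LK LD1_c2 LD2_c3 LD3_c21)) :=
  Lgr Lrot49 (Lpr_df (f278198 IH) (Lpe (K14.f53333 IH) (Lpe (K14.f180057 IH) (Lpe (K15.f261294 IH) (Lpr_dt (K14.f253467 IH) (Lpr_gt (K14.f41731 IH) (Lpr_dt (K14.f41726 IH) (Lpe (K15.f253416 IH) (Lpe (f166915 IH) (Lpn (LP (LK LD1_c2 LD2_c3 LD3_c21))))))))))))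
theorem f166914 : Led Lsl_et (LP (LK LD1_c0 LD2_c58 LD3_c39)) = (LP (LK LD1_c2 LD2_c3 LD3_c22)) :=
  Lre_e IH (LK LD1_c0 LD2_c58 LD3_c39) (LK LD1_c2 LD2_c3 LD3_c22) Lrfl Lrfl
theorem f166921 : Led Lsl_at (LP (LK LD1_c4 LD2_c12 LD3_c17)) = (LP (LK LD1_c2 LD2_c3 LD3_c29)) :=
  Lre_a IH (LK LD1_c4 LD2_c12 LD3_c17) (LK LD1_c2 LD2_c3 LD3_c29) Lrfl Lrfl
theorem f254272 : Led Lsl_gt (LP (LK LD1_c2 LD2_c3 LD3_c22)) = (LP (LK LD1_c1 LD2_c59 LD3_c50)) :=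
  Lgr Lrot5 (Lpr_ft (K14.f166906 IH) (Lpr_at (f166921 IH) (Lpr_gf (K14.f254266 IH) (Lpn (LP (LK LD1_c1 LD2_c59 LD3_c50))))))
theorem f247688 : Led Lsl_et (LP (LK LD1_c0 LD2_c33 LD3_c10)) = (LP (LK LD1_c1 LD2_c11 LD3_c40)) :=
  Lre_e IH (LK LD1_c0 LD2_c33 LD3_c10) (LK LD1_c1 LD2_c11 LD3_c40) Lrfl Lrfl
theorem f278210 : Led Lsl_dt (LP (LK LD1_c1 LD2_c59 LD3_c50)) = (LP (LK LD1_c2 LD2_c28 LD3_c61)) :=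
  Lgr Lrot171 (Lpe (f254272 IH) (Lpe (f166914 IH) (Lpr_dt (K15.f166904 IH) (Lpe (f278206 IH) (Lpr_df (f278198 IH) (Lpe (f256068 IH) (Lpe (K14.f28361 IH) (Lpe (f247688 IH) (Lpr_dt (K14.f169857 IH) (Lpe (f192125 IH) (Lpn (LP (LK LD1_c2 LD2_c28 LD3_c61)))))))))))))
theorem f278214 : Led Lsl_df (LP (LK LD1_c1 LD2_c59 LD3_c50)) = (LP (LK LD1_c2 LD2_c28 LD3_c61)) :=
  Lgr Lrot38 (Lpr_dt (f278210 IH) (Lpn (LP (LK LD1_c2 LD2_c28 LD3_c61))))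
theorem f254453 : Led Lsl_cf (LP (LK LD1_c9 LD2_c56 LD3_c30)) = (LP (LK LD1_c10 LD2_c33 LD3_c21)) :=
  Lgr Lrot11 (Lpr_ct (K14.f254440 IH) (Lpn (LP (LK LD1_c10 LD2_c33 LD3_c21))))
theorem f169962 : Led Lsl_ct (LP (LK LD1_c5 LD2_c2 LD3_c51)) = (LP (LK LD1_c2 LD2_c28 LD3_c60)) :=
  Lre_c IH (LK LD1_c5 LD2_c2 LD3_c51) (LK LD1_c2 LD2_c28 LD3_c60) Lrfl Lrfl
theorem f259774 : Led Lsl_gt (LP (LK LD1_c10 LD2_c16 LD3_c49)) = (LP (LK LD1_c10 LD2_c9 LD3_c44)) :=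
  Lgr Lrot49 (Lpe (K14.f195950 IH) (Lpe (K14.f46431 IH) (Lpe (K10.f46418 IH) (Lpr_gt (K15.f259767 IH) (Lpr_dt (K15.f22108 IH) (Lpr_gt (K14.f180706 IH) (Lpr_dt (K14.f256371 IH) (Lpe (K14.f256338 IH) (Lpr_df (K15.f256323 IH) (Lpn (LP (LK LD1_c10 LD2_c9 LD3_c44))))))))))))
theorem f275164 : Led Lsl_dt (LP (LK LD1_c8 LD2_c13 LD3_c10)) = (LP (LK LD1_c4 LD2_c54 LD3_c46)) :=
  Lgr Lrot57 (Lpr_gf (f275162 IH) (Lpr_cf (K14.f192859 IH) (Lpr_gt (f259774 IH) (Lpe (K15.f256323 IH) (Lpr_gt (K14.f256327 IH) (Lpr_dt (K14.f190661 IH) (Lpr_cf (K12.f214081 IH) (Lpr_df (K12.f213912 IH) (Lpe (K15.f213927 IH) (Lpn (LP (LK LD1_c4 LD2_c54 LD3_c46))))))))))))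
theorem f181213 : Led Lsl_ct (LP (LK LD1_c2 LD2_c7 LD3_c13)) = (LP (LK LD1_c4 LD2_c19 LD3_c42)) :=
  Lre_c IH (LK LD1_c2 LD2_c7 LD3_c13) (LK LD1_c4 LD2_c19 LD3_c42) Lrfl Lrfl
theorem f266904 : Led Lsl_cf (LP (LK LD1_c4 LD2_c12 LD3_c16)) = (LP (LK LD1_c4 LD2_c54 LD3_c46)) :=
  Lgr Lrot39 (Lpr_et (K15.f266900 IH) (Lpr_ct (f181213 IH) (Lpe (K15.f266890 IH) (Lpn (LP (LK LD1_c4 LD2_c54 LD3_c46))))))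
theorem f275166 : Led Lsl_df (LP (LK LD1_c4 LD2_c12 LD3_c16)) = (LP (LK LD1_c2 LD2_c28 LD3_c60)) :=
  Lgr Lrot84 (Lpr_cf (f266904 IH) (Lpe (f275164 IH) (Lpr_gf (f275162 IH) (Lpe (K14.f182077 IH) (Lpr_gf (K10.f191757 IH) (Lpr_cf (K14.f192544 IH) (Lpr_gt (K10.f28372 IH) (Lpr_dt (K14.f169857 IH) (Lpr_gt (K12.f169961 IH) (Lpn (LP (LK LD1_c2 LD2_c28 LD3_c60))))))))))))
theorem f275178 : Led Lsl_ct (LP (LK LD1_c10 LD2_c33 LD3_c24)) = (LP (LK LD1_c9 LD2_c56 LD3_c33)) :=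
  Lgr Lrot59 (Lpr_cf (f275168 IH) (Lpn (LP (LK LD1_c9 LD2_c56 LD3_c33))))
theorem f278414 : Led Lsl_dt (LP (LK LD1_c4 LD2_c54 LD3_c46)) = (LP (LK LD1_c8 LD2_c13 LD3_c10)) :=
  Lgr Lrot173 (Lpr_cf (K15.f253504 IH) (Lpr_df (f275166 IH) (Lpe (f169962 IH) (Lpe (K14.f215692 IH) (Lpr_cf (f254453 IH) (Lpe (K14.f44631 IH) (Lpr_cf (K14.f253115 IH) (Lpe (K14.f192492 IH) (Lpr_cf (K14.f252671 IH) (Lpr_df (f278214 IH) (Lpe (f192126 IH) (Lpe (f214944 IH) (Lpe (f275178 IH) (Lpe (f215894 IH) (Lpe (f215875 IH) (Lpn (LP (LK LD1_c8 LD2_c13 LD3_c10))))))))))))))))))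
theorem f215886 : Led Lsl_dt (LP (LK LD1_c10 LD2_c33 LD3_c24)) = (LP (LK LD1_c5 LD2_c21 LD3_c32)) :=
  Lre_d IH (LK LD1_c10 LD2_c33 LD3_c24) (LK LD1_c5 LD2_c21 LD3_c32) Lrfl Lrfl
theorem f254426 : Led Lsl_ft (LP (LK LD1_c10 LD2_c30 LD3_c33)) = (LP (LK LD1_c5 LD2_c21 LD3_c55)) :=
  Lgr Lrot4 (Lpr_cf (K14.f254420 IH) (Lpr_ff (K14.f249703 IH) (Lpe (K14.f249571 IH) (Lpn (LP (LK LD1_c5 LD2_c21 LD3_c55))))))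
theorem f254434 : Led Lsl_at (LP (LK LD1_c5 LD2_c21 LD3_c55)) = (LP (LK LD1_c8 LD2_c53 LD3_c56)) :=
  Lgr Lrot66 (Lpe (f254426 IH) (Lpr_af (K14.f254428 IH) (Lpe (K14.f253377 IH) (Lpn (LP (LK LD1_c8 LD2_c53 LD3_c56))))))
theorem f275188 : Led Lsl_gf (LP (LK LD1_c10 LD2_c33 LD3_c24)) = (LP (LK LD1_c10 LD2_c30 LD3_c33)) :=
  Lgr Lrot47 (Lpr_gt (f275185 IH) (Lpe (f254434 IH) (Lpe (f254426 IH) (Lpn (LP (LK LD1_c10 LD2_c30 LD3_c33))))))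
theorem f254262 : Led Lsl_dt (LP (LK LD1_c4 LD2_c50 LD3_c34)) = (LP (LK LD1_c5 LD2_c1 LD3_c19)) :=
  Lgr Lrot42 (Lpr_df (K14.f254260 IH) (Lpn (LP (LK LD1_c5 LD2_c1 LD3_c19))))
theorem f278418 : Led Lsl_gf (LP (LK LD1_c4 LD2_c54 LD3_c46)) = (LP (LK LD1_c5 LD2_c1 LD3_c19)) :=
  Lgr Lrot143 (Lpr_dt (f278414 IH) (Lpr_cf (f215877 IH) (Lpe (f215886 IH) (Lpr_gf (f275188 IH) (Lpe (K14.f231410 IH) (Lpr_gf (K14.f231407 IH) (Lpe (K11.f27720 IH) (Lpr_gt (K10.f27729 IH) (Lpr_dt (f254262 IH) (Lpn (LP (LK LD1_c5 LD2_c1 LD3_c19))))))))))))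
theorem f191062 : Led Lsl_gt (LP (LK LD1_c8 LD2_c11 LD3_c6)) = (LP (LK LD1_c4 LD2_c5 LD3_c10)) :=
  Lre_g IH (LK LD1_c8 LD2_c11 LD3_c6) (LK LD1_c4 LD2_c5 LD3_c10) Lrfl Lrfl
theorem f254268 : Led Lsl_ef (LP (LK LD1_c8 LD2_c11 LD3_c6)) = (LP (LK LD1_c5 LD2_c1 LD3_c19)) :=
  Lgr Lrot114 (Lpr_gt (f191062 IH) (Lpe (f191053 IH) (Lpr_dt (K14.f187879 IH) (Lpr_gt (K14.f250108 IH) (Lpr_df (K14.f251624 IH) (Lpe (K14.f254255 IH) (Lpr_gt (K10.f27714 IH) (Lpr_dt (K0.f27701 IH) (Lpr_gt (K10.f27729 IH) (Lpr_df (K14.f254260 IH) (Lpn (LP (LK LD1_c5 LD2_c1 LD3_c19)))))))))))))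
theorem f254270 : Led Lsl_et (LP (LK LD1_c8 LD2_c11 LD3_c6)) = (LP (LK LD1_c5 LD2_c1 LD3_c19)) :=
  Lgr Lrot87 (Lpr_ef (f254268 IH) (Lpn (LP (LK LD1_c5 LD2_c1 LD3_c19))))
theorem f278420 : Led Lsl_dt (LP (LK LD1_c8 LD2_c11 LD3_c6)) = (LP (LK LD1_c4 LD2_c51 LD3_c20)) :=
  Lgr Lrot37 (Lpr_et (f254270 IH) (Lpe (f278418 IH) (Lpr_dt (f278414 IH) (Lpr_gt (f179073 IH) (Lpe (K14.f179075 IH) (Lpr_et (K12.f179077 IH) (Lpe (K15.f261281 IH) (Lpe (K15.f238181 IH) (Lpr_dt (K14.f229617 IH) (Lpr_gt (K14.f229618 IH) (Lpn (LP (LK LD1_c4 LD2_c51 LD3_c20)))))))))))))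
theorem f193351 : Led Lsl_bt (LP (LK LD1_c1 LD2_c9 LD3_c7)) = (LP (LK LD1_c2 LD2_c24 LD3_c11)) :=
  Lre_b IH (LK LD1_c1 LD2_c9 LD3_c7) (LK LD1_c2 LD2_c24 LD3_c11) Lrfl Lrfl
theorem f179757 : Led Lsl_gt (LP (LK LD1_c2 LD2_c24 LD3_c11)) = (LP (LK LD1_c4 LD2_c52 LD3_c51)) :=
  Lre_g IH (LK LD1_c2 LD2_c24 LD3_c11) (LK LD1_c4 LD2_c52 LD3_c51) Lrfl Lrfl
theorem f264044 : Led Lsl_ct (LP (LK LD1_c4 LD2_c52 LD3_c51)) = (LP (LK LD1_c8 LD2_c11 LD3_c6)) :=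
  Lgr Lrot91 (Lpe (f179757 IH) (Lpe (f193351 IH) (Lpr_ct (K12.f193350 IH) (Lpr_gf (K11.f193348 IH) (Lpe (K12.f166452 IH) (Lpr_bt (K12.f166462 IH) (Lpr_gf (K15.f264032 IH) (Lpe (K15.f191061 IH) (Lpr_ct (K15.f191058 IH) (Lpe (f191062 IH) (Lpn (LP (LK LD1_c8 LD2_c11 LD3_c6)))))))))))))
theorem f179756 : Led Lsl_ct (LP (LK LD1_c1 LD2_c9 LD3_c10)) = (LP (LK LD1_c2 LD2_c24 LD3_c11)) :=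
  Lre_c IH (LK LD1_c1 LD2_c9 LD3_c10) (LK LD1_c2 LD2_c24 LD3_c11) Lrfl Lrfl
theorem f234439 : Led Lsl_cf (LP (LK LD1_c4 LD2_c22 LD3_c17)) = (LP (LK LD1_c4 LD2_c8 LD3_c43)) :=
  Lgr Lrot166 (Lpr_gt (K14.f173263 IH) (Lpr_dt (K14.f173262 IH) (Lpe (K12.f222214 IH) (Lpr_dt (K15.f222209 IH) (Lpr_ct (K12.f167242 IH) (Lpr_df (K14.f234420 IH) (Lpe (K14.f220130 IH) (Lpe (K12.f724 IH) (Lpe (K15.f222694 IH) (Lpn (LP (LK LD1_c4 LD2_c8 LD3_c43))))))))))))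
theorem f232294 : Led Lsl_bt (LP (LK LD1_c4 LD2_c22 LD3_c17)) = (LP (LK LD1_c4 LD2_c51 LD3_c20)) :=
  Lgr Lrot127 (Lpr_bf (K14.f232288 IH) (Lpn (LP (LK LD1_c4 LD2_c51 LD3_c20))))
theorem f232305 : Led Lsl_bt (LP (LK LD1_c4 LD2_c17 LD3_c22)) = (LP (LK LD1_c8 LD2_c33 LD3_c51)) :=
  Lre_b IH (LK LD1_c4 LD2_c17 LD3_c22) (LK LD1_c8 LD2_c33 LD3_c51) Lrfl Lrfl
theorem f222748 : Led Lsl_bt (LP (LK LD1_c8 LD2_c17 LD3_c29)) = (LP (LK LD1_c4 LD2_c8 LD3_c43)) :=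
  Lre_b IH (LK LD1_c8 LD2_c17 LD3_c29) (LK LD1_c4 LD2_c8 LD3_c43) Lrfl Lrfl
theorem f234556 : Led Lsl_ct (LP (LK LD1_c8 LD2_c33 LD3_c51)) = (LP (LK LD1_c8 LD2_c17 LD3_c29)) :=
  Lgr Lrot83 (Lpe (f232305 IH) (Lpe (K14.f231239 IH) (Lpe (f232294 IH) (Lpr_cf (f234439 IH) (Lpe (f222748 IH) (Lpn (LP (LK LD1_c8 LD2_c17 LD3_c29))))))))
theorem f234581 : Led Lsl_et (LP (LK LD1_c16 LD2_c4 LD3_c33)) = (LP (LK LD1_c8 LD2_c33 LD3_c51)) :=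
  Lre_e IH (LK LD1_c16 LD2_c4 LD3_c33) (LK LD1_c8 LD2_c33 LD3_c51) Lrfl Lrfl
theorem f234582 : Led Lsl_et (LP (LK LD1_c8 LD2_c17 LD3_c29)) = (LP (LK LD1_c15 LD2_c35 LD3_c27)) :=
  Lre_e IH (LK LD1_c8 LD2_c17 LD3_c29) (LK LD1_c15 LD2_c35 LD3_c27) Lrfl Lrfl
theorem f234583 : Led Lsl_cf (LP (LK LD1_c16 LD2_c4 LD3_c33)) = (LP (LK LD1_c15 LD2_c35 LD3_c27)) :=
  Lgr Lrot39 (Lpr_et (f234581 IH) (Lpr_ct (f234556 IH) (Lpr_et (f234582 IH) (Lpn (LP (LK LD1_c15 LD2_c35 LD3_c27))))))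
theorem f234599 : Led Lsl_ct (LP (LK LD1_c16 LD2_c4 LD3_c33)) = (LP (LK LD1_c15 LD2_c35 LD3_c27)) :=
  Lgr Lrot59 (Lpr_cf (f234583 IH) (Lpn (LP (LK LD1_c15 LD2_c35 LD3_c27))))
theorem f234608 : Led Lsl_bt (LP (LK LD1_c8 LD2_c33 LD3_c52)) = (LP (LK LD1_c16 LD2_c4 LD3_c33)) :=
  Lre_b IH (LK LD1_c8 LD2_c33 LD3_c52) (LK LD1_c16 LD2_c4 LD3_c33) Lrfl Lrfl
theorem f234570 : Led Lsl_bt (LP (LK LD1_c15 LD2_c35 LD3_c27)) = (LP (LK LD1_c8 LD2_c17 LD3_c31)) :=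
  Lre_b IH (LK LD1_c15 LD2_c35 LD3_c27) (LK LD1_c8 LD2_c17 LD3_c31) Lrfl Lrfl
theorem f232296 : Led Lsl_et (LP (LK LD1_c4 LD2_c22 LD3_c17)) = (LP (LK LD1_c8 LD2_c42 LD3_c33)) :=
  Lre_e IH (LK LD1_c4 LD2_c22 LD3_c17) (LK LD1_c8 LD2_c42 LD3_c33) Lrfl Lrfl
theorem f234558 : Led Lsl_et (LP (LK LD1_c8 LD2_c17 LD3_c31)) = (LP (LK LD1_c4 LD2_c8 LD3_c43)) :=
  Lre_e IH (LK LD1_c8 LD2_c17 LD3_c31) (LK LD1_c4 LD2_c8 LD3_c43) Lrfl Lrfl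
theorem f234559 : Led Lsl_ct (LP (LK LD1_c8 LD2_c42 LD3_c33)) = (LP (LK LD1_c8 LD2_c17 LD3_c31)) :=
  Lgr Lrot15 (Lpe (f232296 IH) (Lpr_cf (f234439 IH) (Lpe (f234558 IH) (Lpn (LP (LK LD1_c8 LD2_c17 LD3_c31))))))
theorem f234567 : Led Lsl_cf (LP (LK LD1_c8 LD2_c42 LD3_c33)) = (LP (LK LD1_c8 LD2_c17 LD3_c31)) :=
  Lgr Lrot11 (Lpr_ct (f234559 IH) (Lpn (LP (LK LD1_c8 LD2_c17 LD3_c31))))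
theorem f232297 : Led Lsl_et (LP (LK LD1_c9 LD2_c34 LD3_c45)) = (LP (LK LD1_c4 LD2_c51 LD3_c20)) :=
  Lre_e IH (LK LD1_c9 LD2_c34 LD3_c45) (LK LD1_c4 LD2_c51 LD3_c20) Lrfl Lrfl
theorem f232298 : Led Lsl_bt (LP (LK LD1_c8 LD2_c42 LD3_c33)) = (LP (LK LD1_c9 LD2_c34 LD3_c45)) :=
  Lgr Lrot119 (Lpe (f232296 IH) (Lpr_bf (K14.f232288 IH) (Lpe (f232297 IH) (Lpn (LP (LK LD1_c9 LD2_c34 LD3_c45))))))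
theorem f234609 : Led Lsl_cf (LP (LK LD1_c8 LD2_c33 LD3_c52)) = (LP (LK LD1_c9 LD2_c34 LD3_c45)) :=
  Lgr Lrot97 (Lpr_bt (f234608 IH) (Lpr_ct (f234599 IH) (Lpr_bt (f234570 IH) (Lpe (f234567 IH) (Lpr_bt (f232298 IH) (Lpn (LP (LK LD1_c9 LD2_c34 LD3_c45))))))))
theorem f231113 : Led Lsl_et (LP (LK LD1_c8 LD2_c33 LD3_c52)) = (LP (LK LD1_c4 LD2_c17 LD3_c22)) :=
  Lre_e IH (LK LD1_c8 LD2_c33 LD3_c52) (LK LD1_c4 LD2_c17 LD3_c22) Lrfl Lrfl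
theorem f232303 : Led Lsl_et (LP (LK LD1_c4 LD2_c51 LD3_c20)) = (LP (LK LD1_c9 LD2_c34 LD3_c45)) :=
  Lre_e IH (LK LD1_c4 LD2_c51 LD3_c20) (LK LD1_c9 LD2_c34 LD3_c45) Lrfl Lrfl
theorem f234614 : Led Lsl_ct (LP (LK LD1_c4 LD2_c17 LD3_c22)) = (LP (LK LD1_c4 LD2_c51 LD3_c20)) :=
  Lgr Lrot15 (Lpe (f231113 IH) (Lpr_cf (f234609 IH) (Lpe (f232303 IH) (Lpn (LP (LK LD1_c4 LD2_c51 LD3_c20))))))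
theorem f278428 : Led Lsl_gf (LP (LK LD1_c1 LD2_c9 LD3_c10)) = (LP (LK LD1_c1 LD2_c2 LD3_c37)) :=
  Lgr Lrot179 (Lpr_ct (f179756 IH) (Lpr_gt (f179757 IH) (Lpr_ct (f264044 IH) (Lpr_dt (f278420 IH) (Lpe (f234614 IH) (Lpe (K14.f167659 IH) (Lpe (K14.f167658 IH) (Lpe (K14.f7877 IH) (Lpr_dt (K14.f247393 IH) (Lpn (LP (LK LD1_c1 LD2_c2 LD3_c37))))))))))))
theorem f266943 : Led Lsl_cf (LP (LK LD1_c1 LD2_c2 LD3_c37)) = (LP (LK LD1_c1 LD2_c0 LD3_c39)) :=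
  Lgr Lrot11 (Lpr_ct (K15.f266939 IH) (Lpn (LP (LK LD1_c1 LD2_c0 LD3_c39))))
theorem f179870 : Led Lsl_gt (LP (LK LD1_c1 LD2_c0 LD3_c39)) = (LP (LK LD1_c2 LD2_c7 LD3_c13)) :=
  Lre_g IH (LK LD1_c1 LD2_c0 LD3_c39) (LK LD1_c2 LD2_c7 LD3_c13) Lrfl Lrfl
theorem f266875 : Led Lsl_df (LP (LK LD1_c1 LD2_c55 LD3_c61)) = (LP (LK LD1_c2 LD2_c7 LD3_c13)) :=
  Lgr Lrot38 (Lpr_dt (K15.f266870 IH) (Lpn (LP (LK LD1_c2 LD2_c7 LD3_c13))))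
theorem f278510 : Led Lsl_dt (LP (LK LD1_c1 LD2_c9 LD3_c10)) = (LP (LK LD1_c0 LD2_c58 LD3_c19)) :=
  Lgr Lrot57 (Lpr_gf (f278428 IH) (Lpr_cf (f266943 IH) (Lpr_gt (f179870 IH) (Lpe (f266875 IH) (Lpr_gt (K12.f41248 IH) (Lpr_dt (K1.f41236 IH) (Lpr_cf (K12.f219119 IH) (Lpe (f184459 IH) (Lpe (K12.f219779 IH) (Lpn (LP (LK LD1_c0 LD2_c58 LD3_c19))))))))))))
theorem f41535 : Led Lsl_et (LP (LK LD1_c0 LD2_c35 LD3_c3)) = (LP (LK LD1_c0 LD2_c15 LD3_c45)) :=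
  Lre_e IH (LK LD1_c0 LD2_c35 LD3_c3) (LK LD1_c0 LD2_c15 LD3_c45) Lrfl Lrfl
theorem f192919 : Led Lsl_ft (LP (LK LD1_c1 LD2_c15 LD3_c49)) = (LP (LK LD1_c0 LD2_c35 LD3_c8)) :=
  Lre_f IH (LK LD1_c1 LD2_c15 LD3_c49) (LK LD1_c0 LD2_c35 LD3_c8) Lrfl Lrfl
theorem f253424 : Led Lsl_gf (LP (LK LD1_c1 LD2_c15 LD3_c23)) = (LP (LK LD1_c2 LD2_c11 LD3_c8)) :=
  Lgr Lrot76 (Lpe (K10.f8533 IH) (Lpe (f192919 IH) (Lpr_gt (K14.f253421 IH) (Lpn (LP (LK LD1_c2 LD2_c11 LD3_c8))))))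
theorem f278520 : Led Lsl_et (LP (LK LD1_c1 LD2_c9 LD3_c10)) = (LP (LK LD1_c2 LD2_c11 LD3_c7)) :=
  Lgr Lrot121 (Lpr_dt (f278510 IH) (Lpr_gf (K12.f219783 IH) (Lpe (K9.f41536 IH) (Lpr_et (f41535 IH) (Lpe (K1.f41532 IH) (Lpe (K1.f41520 IH) (Lpr_dt (K14.f41534 IH) (Lpr_gf (f253424 IH) (Lpe (K14.f231380 IH) (Lpe (f253423 IH) (Lpn (LP (LK LD1_c2 LD2_c11 LD3_c7)))))))))))))
theorem f219123 : Led Lsl_ef (LP (LK LD1_c0 LD2_c58 LD3_c1)) = (LP (LK LD1_c0 LD2_c58 LD3_c1)) :=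
  Lgr Lrot28 (Lpe (K12.f219119 IH) (Lpr_et (K1.f41359 IH) (Lpr_ct (K12.f219075 IH) (Lpn (LP (LK LD1_c0 LD2_c58 LD3_c1))))))
theorem f219301 : Led Lsl_dt (LP (LK LD1_c4 LD2_c18 LD3_c42)) = (LP (LK LD1_c4 LD2_c8 LD3_c56)) :=
  Lgr Lrot42 (Lpr_df (K15.f219298 IH) (Lpn (LP (LK LD1_c4 LD2_c8 LD3_c56))))
theorem f267589 : Led Lsl_dt (LP (LK LD1_c2 LD2_c11 LD3_c12)) = (LP (LK LD1_c2 LD2_c2 LD3_c19)) :=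
  Lgr Lrot27 (Lpr_cf (K15.f266945 IH) (Lpe (K14.f253581 IH) (Lpe (K13.f219195 IH) (Lpr_gf (K15.f257935 IH) (Lpe (f219301 IH) (Lpr_gt (K15.f267585 IH) (Lpr_ct (K15.f229619 IH) (Lpe (K15.f246813 IH) (Lpr_ct (K15.f219261 IH) (Lpn (LP (LK LD1_c2 LD2_c2 LD3_c19))))))))))))
theorem f278526 : Led Lsl_ef (LP (LK LD1_c4 LD2_c3 LD3_c23)) = (LP (LK LD1_c2 LD2_c11 LD3_c12)) :=
  Lgr Lrot114 (Lpr_gt (f275252 IH) (Lpe (f278520 IH) (Lpr_dt (f278510 IH) (Lpr_gt (K12.f219779 IH) (Lpe (K12.f170850 IH) (Lpe (f219123 IH) (Lpe (K15.f260916 IH) (Lpr_dt (K15.f231137 IH) (Lpr_gt (K15.f267613 IH) (Lpe (f267589 IH) (Lpn (LP (LK LD1_c2 LD2_c11 LD3_c12)))))))))))))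
theorem f254438 : Led Lsl_gf (LP (LK LD1_c4 LD2_c3 LD3_c23)) = (LP (LK LD1_c2 LD2_c10 LD3_c54)) :=
  Lgr Lrot143 (Lpe (K14.f254285 IH) (Lpe (K14.f46513 IH) (Lpe (K14.f231409 IH) (Lpr_gf (K14.f254436 IH) (Lpe (K14.f44631 IH) (Lpe (K14.f44630 IH) (Lpe (K12.f8399 IH) (Lpr_gt (K14.f44596 IH) (Lpr_dt (K14.f44603 IH) (Lpn (LP (LK LD1_c2 LD2_c10 LD3_c54))))))))))))
theorem f44606 : Led Lsl_et (LP (LK LD1_c1 LD2_c2 LD3_c27)) = (LP (LK LD1_c2 LD2_c10 LD3_c54)) :=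
  Lre_e IH (LK LD1_c1 LD2_c2 LD3_c27) (LK LD1_c2 LD2_c10 LD3_c54) Lrfl Lrfl
theorem f170657 : Led Lsl_gt (LP (LK LD1_c0 LD2_c58 LD3_c5)) = (LP (LK LD1_c2 LD2_c2 LD3_c22)) :=
  Lre_g IH (LK LD1_c0 LD2_c58 LD3_c5) (LK LD1_c2 LD2_c2 LD3_c22) Lrfl Lrfl
theorem f278528 : Led Lsl_gf (LP (LK LD1_c2 LD2_c10 LD3_c53)) = (LP (LK LD1_c2 LD2_c29 LD3_c57)) :=
  Lgr Lrot134 (Lpe (K15.f44626 IH) (Lpr_et (f44606 IH) (Lpe (f254438 IH) (Lpr_ef (f278526 IH) (Lpr_dt (f267589 IH) (Lpr_gt (K15.f170696 IH) (Lpe (K14.f178730 IH) (Lpr_et (K9.f178699 IH) (Lpr_gt (f170657 IH) (Lpe (K14.f230795 IH) (Lpn (LP (LK LD1_c2 LD2_c29 LD3_c57)))))))))))))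
theorem f183830 : Led Lsl_ct (LP (LK LD1_c2 LD2_c10 LD3_c53)) = (LP (LK LD1_c4 LD2_c27 LD3_c22)) :=
  Lre_c IH (LK LD1_c2 LD2_c10 LD3_c53) (LK LD1_c4 LD2_c27 LD3_c22) Lrfl Lrfl
theorem f186748 : Led Lsl_ct (LP (LK LD1_c5 LD2_c5 LD3_c23)) = (LP (LK LD1_c5 LD2_c10 LD3_c3)) :=
  Lgr Lrot59 (Lpr_cf (K14.f186733 IH) (Lpn (LP (LK LD1_c5 LD2_c10 LD3_c3))))
theorem f278532 : Led Lsl_gt (LP (LK LD1_c4 LD2_c27 LD3_c22)) = (LP (LK LD1_c5 LD2_c5 LD3_c23)) :=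
  Lgr Lrot150 (Lpe (f183830 IH) (Lpr_gf (f278528 IH) (Lpr_df (K14.f230795 IH) (Lpr_gt (K14.f230786 IH) (Lpr_ct (K14.f247555 IH) (Lpr_gt (K15.f251585 IH) (Lpr_ct (K14.f175057 IH) (Lpe (K14.f251407 IH) (Lpe (f186748 IH) (Lpn (LP (LK LD1_c5 LD2_c5 LD3_c23))))))))))))
theorem f44623 : Led Lsl_et (LP (LK LD1_c5 LD2_c21 LD3_c29)) = (LP (LK LD1_c2 LD2_c37 LD3_c21)) :=
  Lre_e IH (LK LD1_c5 LD2_c21 LD3_c29) (LK LD1_c2 LD2_c37 LD3_c21) Lrfl Lrfl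
theorem f249235 : Led Lsl_et (LP (LK LD1_c2 LD2_c36 LD3_c37)) = (LP (LK LD1_c5 LD2_c19 LD3_c52)) :=
  Lre_e IH (LK LD1_c2 LD2_c36 LD3_c37) (LK LD1_c5 LD2_c19 LD3_c52) Lrfl Lrfl
theorem f249236 : Led Lsl_bf (LP (LK LD1_c5 LD2_c21 LD3_c29)) = (LP (LK LD1_c5 LD2_c19 LD3_c52)) :=
  Lgr Lrot96 (Lpr_et (f44623 IH) (Lpr_bt (K15.f249226 IH) (Lpr_et (f249235 IH) (Lpn (LP (LK LD1_c5 LD2_c19 LD3_c52))))))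
theorem f44605 : Led Lsl_et (LP (LK LD1_c2 LD2_c37 LD3_c21)) = (LP (LK LD1_c5 LD2_c21 LD3_c29)) :=
  Lre_e IH (LK LD1_c2 LD2_c37 LD3_c21) (LK LD1_c5 LD2_c21 LD3_c29) Lrfl Lrfl
theorem f44608 : Led Lsl_et (LP (LK LD1_c4 LD2_c27 LD3_c23)) = (LP (LK LD1_c2 LD2_c10 LD3_c53)) :=
  Lre_e IH (LK LD1_c4 LD2_c27 LD3_c23) (LK LD1_c2 LD2_c10 LD3_c53) Lrfl Lrfl
theorem f44609 : Led Lsl_dt (LP (LK LD1_c5 LD2_c21 LD3_c29)) = (LP (LK LD1_c4 LD2_c27 LD3_c23)) :=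
  Lgr Lrot77 (Lpe (f44605 IH) (Lpr_df (K14.f44599 IH) (Lpe (f44606 IH) (Lpe (K15.f44607 IH) (Lpe (f44608 IH) (Lpn (LP (LK LD1_c4 LD2_c27 LD3_c23))))))))
theorem f249245 : Led Lsl_dt (LP (LK LD1_c2 LD2_c36 LD3_c35)) = (LP (LK LD1_c5 LD2_c19 LD3_c52)) :=
  Lre_d IH (LK LD1_c2 LD2_c36 LD3_c35) (LK LD1_c5 LD2_c19 LD3_c52) Lrfl Lrfl
theorem f249246 : Led Lsl_bt (LP (LK LD1_c4 LD2_c27 LD3_c23)) = (LP (LK LD1_c2 LD2_c36 LD3_c35)) :=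
  Lgr Lrot95 (Lpe (f44609 IH) (Lpr_bf (f249236 IH) (Lpe (f249245 IH) (Lpn (LP (LK LD1_c2 LD2_c36 LD3_c35))))))
theorem f249250 : Led Lsl_bf (LP (LK LD1_c4 LD2_c27 LD3_c23)) = (LP (LK LD1_c2 LD2_c36 LD3_c35)) :=
  Lgr Lrot24 (Lpr_bt (f249246 IH) (Lpn (LP (LK LD1_c2 LD2_c36 LD3_c35))))
theorem f44758 : Led Lsl_et (LP (LK LD1_c1 LD2_c15 LD3_c17)) = (LP (LK LD1_c2 LD2_c36 LD3_c35)) :=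
  Lre_e IH (LK LD1_c1 LD2_c15 LD3_c17) (LK LD1_c2 LD2_c36 LD3_c35) Lrfl Lrfl
theorem f249270 : Led Lsl_bt (LP (LK LD1_c2 LD2_c10 LD3_c53)) = (LP (LK LD1_c1 LD2_c15 LD3_c17)) :=
  Lgr Lrot119 (Lpe (f44608 IH) (Lpr_bf (f249250 IH) (Lpe (f44758 IH) (Lpn (LP (LK LD1_c1 LD2_c15 LD3_c17))))))
theorem f240486 : Led Lsl_cf (LP (LK LD1_c5 LD2_c11 LD3_c58)) = (LP (LK LD1_c5 LD2_c10 LD3_c8)) :=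
  Lgr Lrot11 (Lpr_ct (K13.f240254 IH) (Lpn (LP (LK LD1_c5 LD2_c10 LD3_c8))))
theorem f258945 : Led Lsl_gt (LP (LK LD1_c4 LD2_c54 LD3_c5)) = (LP (LK LD1_c5 LD2_c10 LD3_c8)) :=
  Lgr Lrot9 (Lpe (K14.f190636 IH) (Lpe (K14.f190634 IH) (Lpr_ct (K14.f46527 IH) (Lpr_gt (K15.f44127 IH) (Lpr_ct (K15.f258939 IH) (Lpr_df (K14.f193117 IH) (Lpe (K14.f184834 IH) (Lpr_gf (K15.f257598 IH) (Lpr_cf (f240486 IH) (Lpn (LP (LK LD1_c5 LD2_c10 LD3_c8))))))))))))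
theorem f240261 : Led Lsl_bt (LP (LK LD1_c5 LD2_c11 LD3_c58)) = (LP (LK LD1_c2 LD2_c32 LD3_c51)) :=
  Lre_b IH (LK LD1_c5 LD2_c11 LD3_c58) (LK LD1_c2 LD2_c32 LD3_c51) Lrfl Lrfl
theorem f278556 : Led Lsl_gf (LP (LK LD1_c1 LD2_c15 LD3_c17)) = (LP (LK LD1_c2 LD2_c32 LD3_c51)) :=
  Lgr Lrot124 (Lpe (f249270 IH) (Lpr_ct (f183830 IH) (Lpr_gt (f278532 IH) (Lpr_cf (K14.f186733 IH) (Lpr_bt (K14.f186732 IH) (Lpe (K15.f248189 IH) (Lpr_ct (K15.f50754 IH) (Lpr_gt (f258945 IH) (Lpe (K13.f240254 IH) (Lpr_bt (f240261 IH) (Lpn (LP (LK LD1_c2 LD2_c32 LD3_c51)))))))))))))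
theorem f230546 : Led Lsl_ct (LP (LK LD1_c1 LD2_c15 LD3_c17)) = (LP (LK LD1_c2 LD2_c36 LD3_c34)) :=
  Lre_c IH (LK LD1_c1 LD2_c15 LD3_c17) (LK LD1_c2 LD2_c36 LD3_c34) Lrfl Lrfl
theorem f240263 : Led Lsl_dt (LP (LK LD1_c5 LD2_c11 LD3_c58)) = (LP (LK LD1_c2 LD2_c58 LD3_c36)) :=
  Lgr Lrot42 (Lpr_df (K15.f240259 IH) (Lpn (LP (LK LD1_c2 LD2_c58 LD3_c36))))
theorem f256284 : Led Lsl_dt (LP (LK LD1_c2 LD2_c5 LD3_c45)) = (LP (LK LD1_c2 LD2_c32 LD3_c51)) :=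
  Lgr Lrot79 (Lpr_bf (K14.f256279 IH) (Lpe (f240263 IH) (Lpe (K13.f190325 IH) (Lpn (LP (LK LD1_c2 LD2_c32 LD3_c51))))))
theorem f249528 : Led Lsl_cf (LP (LK LD1_c5 LD2_c2 LD3_c50)) = (LP (LK LD1_c5 LD2_c12 LD3_c2)) :=
  Lgr Lrot166 (Lpr_gt (K14.f249366 IH) (Lpr_dt (K10.f182059 IH) (Lpe (K10.f192984 IH) (Lpr_dt (K9.f43387 IH) (Lpr_ct (K12.f191564 IH) (Lpe (K14.f191582 IH) (Lpe (K14.f249356 IH) (Lpe (K14.f249112 IH) (Lpe (K14.f191166 IH) (Lpn (LP (LK LD1_c5 LD2_c12 LD3_c2))))))))))))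
theorem f278559 : Led Lsl_gt (LP (LK LD1_c2 LD2_c36 LD3_c34)) = (LP (LK LD1_c5 LD2_c12 LD3_c2)) :=
  Lgr Lrot150 (Lpe (f230546 IH) (Lpr_gf (f278556 IH) (Lpe (f256284 IH) (Lpe (K14.f230288 IH) (Lpr_ct (K14.f230270 IH) (Lpr_gt (K12.f229518 IH) (Lpr_ct (K12.f171473 IH) (Lpe (K15.f257568 IH) (Lpr_cf (f249528 IH) (Lpn (LP (LK LD1_c5 LD2_c12 LD3_c2))))))))))))
theorem f275248 : Led Lsl_df (LP (LK LD1_c2 LD2_c37 LD3_c22)) = (LP (LK LD1_c2 LD2_c11 LD3_c7)) :=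
  Lgr Lrot38 (Lpr_dt (f275192 IH) (Lpn (LP (LK LD1_c2 LD2_c11 LD3_c7))))
theorem f192568 : Led Lsl_at (LP (LK LD1_c1 LD2_c12 LD3_c59)) = (LP (LK LD1_c0 LD2_c33 LD3_c51)) :=
  Lre_a IH (LK LD1_c1 LD2_c12 LD3_c59) (LK LD1_c0 LD2_c33 LD3_c51) Lrfl Lrfl
theorem f265383 : Led Lsl_cf (LP (LK LD1_c1 LD2_c12 LD3_c59)) = (LP (LK LD1_c0 LD2_c35 LD3_c6)) :=
  Lgr Lrot1 (Lpr_at (f192568 IH) (Lpr_ct (K9.f34626 IH) (Lpr_at (K15.f265379 IH) (Lpn (LP (LK LD1_c0 LD2_c35 LD3_c6))))))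
theorem f275264 : Led Lsl_dt (LP (LK LD1_c2 LD2_c31 LD3_c52)) = (LP (LK LD1_c1 LD2_c12 LD3_c59)) :=
  Lre_d IH (LK LD1_c2 LD2_c31 LD3_c52) (LK LD1_c1 LD2_c12 LD3_c59) Lrfl Lrfl
theorem f275265 : Led Lsl_gt (LP (LK LD1_c2 LD2_c28 LD3_c60)) = (LP (LK LD1_c2 LD2_c31 LD3_c52)) :=
  Lgr Lrot189 (Lpr_df (K15.f257572 IH) (Lpe (K14.f199173 IH) (Lpe (K14.f199159 IH) (Lpr_gt (f275252 IH) (Lpe (f275248 IH) (Lpr_gt (K14.f44732 IH) (Lpr_dt (K14.f44641 IH) (Lpe (f265383 IH) (Lpe (f275264 IH) (Lpn (LP (LK LD1_c2 LD2_c31 LD3_c52))))))))))))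
theorem f278561 : Led Lsl_bf (LP (LK LD1_c2 LD2_c31 LD3_c52)) = (LP (LK LD1_c2 LD2_c24 LD3_c58)) :=
  Lgr Lrot34 (Lpe (f275265 IH) (Lpe (K14.f212226 IH) (Lpr_ct (K14.f212227 IH) (Lpe (f278559 IH) (Lpe (f230546 IH) (Lpr_gf (f278556 IH) (Lpe (f240261 IH) (Lpr_ct (K13.f240254 IH) (Lpe (f258945 IH) (Lpe (K15.f50754 IH) (Lpn (LP (LK LD1_c2 LD2_c24 LD3_c58)))))))))))))
theorem f259668 : Led Lsl_cf (LP (LK LD1_c5 LD2_c17 LD3_c31)) = (LP (LK LD1_c5 LD2_c0 LD3_c58)) :=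
  Lgr Lrot11 (Lpr_ct (K15.f259666 IH) (Lpn (LP (LK LD1_c5 LD2_c0 LD3_c58))))
theorem f188098 : Led Lsl_et (LP (LK LD1_c0 LD2_c56 LD3_c49)) = (LP (LK LD1_c1 LD2_c59 LD3_c50)) :=
  Lre_e IH (LK LD1_c0 LD2_c56 LD3_c49) (LK LD1_c1 LD2_c59 LD3_c50) Lrfl Lrfl
theorem f188099 : Led Lsl_et (LP (LK LD1_c4 LD2_c5 LD3_c16)) = (LP (LK LD1_c1 LD2_c59 LD3_c49)) :=
  Lre_e IH (LK LD1_c4 LD2_c5 LD3_c16) (LK LD1_c1 LD2_c59 LD3_c49) Lrfl Lrfl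
theorem f278216 : Led Lsl_et (LP (LK LD1_c2 LD2_c28 LD3_c61)) = (LP (LK LD1_c5 LD2_c2 LD3_c54)) :=
  Lre_e IH (LK LD1_c2 LD2_c28 LD3_c61) (LK LD1_c5 LD2_c2 LD3_c54) Lrfl Lrfl
theorem f278217 : Led Lsl_df (LP (LK LD1_c4 LD2_c5 LD3_c16)) = (LP (LK LD1_c5 LD2_c2 LD3_c54)) :=
  Lgr Lrot70 (Lpr_et (f188099 IH) (Lpr_dt (K15.f47420 IH) (Lpr_et (f188098 IH) (Lpr_dt (f278210 IH) (Lpr_et (f278216 IH) (Lpn (LP (LK LD1_c5 LD2_c2 LD3_c54))))))))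
theorem f278227 : Led Lsl_ft (LP (LK LD1_c4 LD2_c5 LD3_c16)) = (LP (LK LD1_c8 LD2_c11 LD3_c23)) :=
  Lre_f IH (LK LD1_c4 LD2_c5 LD3_c16) (LK LD1_c8 LD2_c11 LD3_c23) Lrfl Lrfl
theorem f278228 : Led Lsl_ft (LP (LK LD1_c9 LD2_c56 LD3_c36)) = (LP (LK LD1_c5 LD2_c2 LD3_c54)) :=
  Lre_f IH (LK LD1_c9 LD2_c56 LD3_c36) (LK LD1_c5 LD2_c2 LD3_c54) Lrfl Lrfl
theorem f278229 : Led Lsl_dt (LP (LK LD1_c8 LD2_c11 LD3_c23)) = (LP (LK LD1_c9 LD2_c56 LD3_c36)) :=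
  Lgr Lrot60 (Lpe (f278227 IH) (Lpr_df (f278217 IH) (Lpe (f278228 IH) (Lpn (LP (LK LD1_c9 LD2_c56 LD3_c36))))))
theorem f278309 : Led Lsl_df (LP (LK LD1_c8 LD2_c11 LD3_c23)) = (LP (LK LD1_c9 LD2_c56 LD3_c36)) :=
  Lgr Lrot38 (Lpr_dt (f278229 IH) (Lpn (LP (LK LD1_c9 LD2_c56 LD3_c36))))
theorem f252652 : Led Lsl_bt (LP (LK LD1_c8 LD2_c11 LD3_c23)) = (LP (LK LD1_c15 LD2_c24 LD3_c61)) :=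
  Lre_b IH (LK LD1_c8 LD2_c11 LD3_c23) (LK LD1_c15 LD2_c24 LD3_c61) Lrfl Lrfl
theorem f216142 : Led Lsl_et (LP (LK LD1_c4 LD2_c5 LD3_c14)) = (LP (LK LD1_c8 LD2_c11 LD3_c18)) :=
  Lre_e IH (LK LD1_c4 LD2_c5 LD3_c14) (LK LD1_c8 LD2_c11 LD3_c18) Lrfl Lrfl
theorem f170519 : Led Lsl_et (LP (LK LD1_c9 LD2_c52 LD3_c18)) = (LP (LK LD1_c5 LD2_c0 LD3_c58)) :=
  Lre_e IH (LK LD1_c9 LD2_c52 LD3_c18) (LK LD1_c5 LD2_c0 LD3_c58) Lrfl Lrfl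
theorem f252631 : Led Lsl_dt (LP (LK LD1_c8 LD2_c11 LD3_c18)) = (LP (LK LD1_c9 LD2_c52 LD3_c18)) :=
  Lgr Lrot77 (Lpe (f216142 IH) (Lpe (K15.f192462 IH) (Lpe (K15.f252566 IH) (Lpr_df (K15.f252582 IH) (Lpe (f170519 IH) (Lpn (LP (LK LD1_c9 LD2_c52 LD3_c18))))))))
theorem f252642 : Led Lsl_ft (LP (LK LD1_c15 LD2_c24 LD3_c61)) = (LP (LK LD1_c8 LD2_c11 LD3_c18)) :=
  Lre_f IH (LK LD1_c15 LD2_c24 LD3_c61) (LK LD1_c8 LD2_c11 LD3_c18) Lrfl Lrfl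
theorem f252643 : Led Lsl_ft (LP (LK LD1_c9 LD2_c52 LD3_c18)) = (LP (LK LD1_c18 LD2_c4 LD3_c17)) :=
  Lre_f IH (LK LD1_c9 LD2_c52 LD3_c18) (LK LD1_c18 LD2_c4 LD3_c17) Lrfl Lrfl
theorem f252644 : Led Lsl_df (LP (LK LD1_c15 LD2_c24 LD3_c61)) = (LP (LK LD1_c18 LD2_c4 LD3_c17)) :=
  Lgr Lrot78 (Lpr_ft (f252642 IH) (Lpr_dt (f252631 IH) (Lpr_ft (f252643 IH) (Lpn (LP (LK LD1_c18 LD2_c4 LD3_c17))))))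
theorem f252649 : Led Lsl_dt (LP (LK LD1_c15 LD2_c24 LD3_c61)) = (LP (LK LD1_c18 LD2_c4 LD3_c17)) :=
  Lgr Lrot42 (Lpr_df (f252644 IH) (Lpn (LP (LK LD1_c18 LD2_c4 LD3_c17))))
theorem f278316 : Led Lsl_bt (LP (LK LD1_c18 LD2_c4 LD3_c17)) = (LP (LK LD1_c9 LD2_c56 LD3_c36)) :=
  Lgr Lrot95 (Lpe (f252649 IH) (Lpe (f252652 IH) (Lpr_df (f278309 IH) (Lpn (LP (LK LD1_c9 LD2_c56 LD3_c36))))))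
theorem f278321 : Led Lsl_bf (LP (LK LD1_c9 LD2_c52 LD3_c18)) = (LP (LK LD1_c5 LD2_c2 LD3_c54)) :=
  Lgr Lrot61 (Lpr_ft (f252643 IH) (Lpr_bt (f278316 IH) (Lpr_ft (f278228 IH) (Lpn (LP (LK LD1_c5 LD2_c2 LD3_c54))))))
theorem f278327 : Led Lsl_bt (LP (LK LD1_c5 LD2_c0 LD3_c58)) = (LP (LK LD1_c2 LD2_c28 LD3_c61)) :=
  Lgr Lrot119 (Lpe (f170519 IH) (Lpr_bf (f278321 IH) (Lpe (f278216 IH) (Lpn (LP (LK LD1_c2 LD2_c28 LD3_c61))))))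
theorem f278609 : Led Lsl_gt (LP (LK LD1_c2 LD2_c31 LD3_c52)) = (LP (LK LD1_c2 LD2_c28 LD3_c61)) :=
  Lgr Lrot164 (Lpr_bf (f278561 IH) (Lpr_ct (K15.f50754 IH) (Lpr_gf (K15.f257042 IH) (Lpr_cf (K15.f257046 IH) (Lpe (K15.f184830 IH) (Lpe (K15.f257425 IH) (Lpr_ct (K15.f32414 IH) (Lpr_gf (f259680 IH) (Lpr_cf (f259668 IH) (Lpr_bt (f278327 IH) (Lpn (LP (LK LD1_c2 LD2_c28 LD3_c61)))))))))))))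
theorem f278614 : Led Lsl_dt (LP (LK LD1_c1 LD2_c12 LD3_c59)) = (LP (LK LD1_c2 LD2_c31 LD3_c52)) :=
  Lre_d IH (LK LD1_c1 LD2_c12 LD3_c59) (LK LD1_c2 LD2_c31 LD3_c52) Lrfl Lrfl
theorem f278629 : Led Lsl_et (LP (LK LD1_c1 LD2_c12 LD3_c59)) = (LP (LK LD1_c2 LD2_c7 LD3_c24)) :=
  Lgr Lrot122 (Lpr_dt (f278614 IH) (Lpr_gt (f278609 IH) (Lpe (f278210 IH) (Lpr_et (K14.f252664 IH) (Lpr_gt (K10.f47419 IH) (Lpr_dt (K1.f46176 IH) (Lpr_gt (K9.f182550 IH) (Lpe (K14.f247631 IH) (Lpr_et (K14.f256072 IH) (Lpr_gt (f276668 IH) (Lpn (LP (LK LD1_c2 LD2_c7 LD3_c24)))))))))))))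
theorem f249603 : Led Lsl_et (LP (LK LD1_c1 LD2_c13 LD3_c9)) = (LP (LK LD1_c2 LD2_c32 LD3_c20)) :=
  Lre_e IH (LK LD1_c1 LD2_c13 LD3_c9) (LK LD1_c2 LD2_c32 LD3_c20) Lrfl Lrfl
theorem f226944 : Led Lsl_et (LP (LK LD1_c2 LD2_c44 LD3_c9)) = (LP (LK LD1_c1 LD2_c18 LD3_c25)) :=
  Lre_e IH (LK LD1_c2 LD2_c44 LD3_c9) (LK LD1_c1 LD2_c18 LD3_c25) Lrfl Lrfl
theorem f253622 : Led Lsl_ef (LP (LK LD1_c2 LD2_c3 LD3_c29)) = (LP (LK LD1_c2 LD2_c7 LD3_c16)) :=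
  Lgr Lrot73 (Lpr_dt (K14.f249613 IH) (Lpr_et (f249603 IH) (Lpr_dt (K14.f253610 IH) (Lpr_et (f226944 IH) (Lpr_dt (K14.f253532 IH) (Lpn (LP (LK LD1_c2 LD2_c7 LD3_c16))))))))
theorem f278636 : Led Lsl_gf (LP (LK LD1_c1 LD2_c55 LD3_c60)) = (LP (LK LD1_c2 LD2_c7 LD3_c24)) :=
  Lgr Lrot141 (Lpe (K15.f228024 IH) (Lpr_dt (K12.f41374 IH) (Lpr_gt (K12.f227988 IH) (Lpr_df (K15.f266818 IH) (Lpe (f253622 IH) (Lpr_gt (K14.f199173 IH) (Lpe (K15.f257572 IH) (Lpr_gt (f275265 IH) (Lpe (f278614 IH) (Lpr_et (f278629 IH) (Lpn (LP (LK LD1_c2 LD2_c7 LD3_c24)))))))))))))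
theorem f276221 : Led Lsl_gf (LP (LK LD1_c0 LD2_c31 LD3_c61)) = (LP (LK LD1_c0 LD2_c16 LD3_c24)) :=
  Lgr Lrot104 (Lpe (K12.f7903 IH) (Lpr_df (K14.f253471 IH) (Lpe (K12.f174517 IH) (Lpr_gf (f276219 IH) (Lpe (K12.f175034 IH) (Lpr_gf (f238305 IH) (Lpe (K9.f179845 IH) (Lpe (K9.f179516 IH) (Lpr_ct (K9.f171230 IH) (Lpn (LP (LK LD1_c0 LD2_c16 LD3_c24))))))))))))
theorem f278640 : Led Lsl_gt (LP (LK LD1_c2 LD2_c6 LD3_c5)) = (LP (LK LD1_c1 LD2_c15 LD3_c43)) :=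
  Lgr Lrot82 (Lpe (K12.f7905 IH) (Lpr_ct (K12.f7900 IH) (Lpr_gf (f276221 IH) (Lpe (K9.f171230 IH) (Lpr_bt (K14.f168855 IH) (Lpr_gf (K14.f246817 IH) (Lpe (K15.f238073 IH) (Lpe (K15.f260899 IH) (Lpr_gf (f278636 IH) (Lpr_cf (f276646 IH) (Lpn (LP (LK LD1_c1 LD2_c15 LD3_c43)))))))))))))
theorem f225914 : Led Lsl_ct (LP (LK LD1_c1 LD2_c2 LD3_c34)) = (LP (LK LD1_c2 LD2_c11 LD3_c5)) :=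
  Lre_c IH (LK LD1_c1 LD2_c2 LD3_c34) (LK LD1_c2 LD2_c11 LD3_c5) Lrfl Lrfl
theorem f225915 : Led Lsl_gt (LP (LK LD1_c2 LD2_c11 LD3_c5)) = (LP (LK LD1_c4 LD2_c27 LD3_c50)) :=
  Lre_g IH (LK LD1_c2 LD2_c11 LD3_c5) (LK LD1_c4 LD2_c27 LD3_c50) Lrfl Lrfl
theorem f267197 : Led Lsl_cf (LP (LK LD1_c2 LD2_c23 LD3_c31)) = (LP (LK LD1_c1 LD2_c55 LD3_c60)) :=
  Lgr Lrot14 (Lpe (K15.f238074 IH) (Lpr_gf (K15.f238190 IH) (Lpe (K12.f213898 IH) (Lpe (K12.f213775 IH) (Lpr_ct (K10.f44499 IH) (Lpr_gt (K15.f260908 IH) (Lpr_dt (K15.f166904 IH) (Lpr_gt (K15.f267192 IH) (Lpe (K15.f267181 IH) (Lpn (LP (LK LD1_c1 LD2_c55 LD3_c60))))))))))))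
theorem f278642 : Led Lsl_ct (LP (LK LD1_c4 LD2_c27 LD3_c50)) = (LP (LK LD1_c4 LD2_c31 LD3_c20)) :=
  Lgr Lrot110 (Lpe (f225915 IH) (Lpe (f225914 IH) (Lpe (K14.f41731 IH) (Lpe (K14.f253467 IH) (Lpr_gt (f278640 IH) (Lpe (f276646 IH) (Lpe (f278636 IH) (Lpe (f267197 IH) (Lpe (K15.f238074 IH) (Lpn (LP (LK LD1_c4 LD2_c31 LD3_c20))))))))))))
theorem f278658 : Led Lsl_dt (LP (LK LD1_c8 LD2_c53 LD3_c31)) = (LP (LK LD1_c4 LD2_c27 LD3_c50)) :=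
  Lre_d IH (LK LD1_c8 LD2_c53 LD3_c31) (LK LD1_c4 LD2_c27 LD3_c50) Lrfl Lrfl
theorem f278662 : Led Lsl_gf (LP (LK LD1_c8 LD2_c53 LD3_c31)) = (LP (LK LD1_c8 LD2_c52 LD3_c59)) :=
  Lgr Lrot154 (Lpr_dt (f278658 IH) (Lpr_ct (f278642 IH) (Lpr_df (K15.f238182 IH) (Lpr_gf (K15.f261281 IH) (Lpe (K15.f187343 IH) (Lpr_gf (K12.f219381 IH) (Lpe (K15.f220808 IH) (Lpe (K15.f267328 IH) (Lpr_dt (f44638 IH) (Lpn (LP (LK LD1_c8 LD2_c52 LD3_c59))))))))))))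
theorem f267332 : Led Lsl_cf (LP (LK LD1_c8 LD2_c52 LD3_c59)) = (LP (LK LD1_c4 LD2_c53 LD3_c20)) :=
  Lgr Lrot14 (Lpe (f44638 IH) (Lpr_gf (K15.f267328 IH) (Lpe (K15.f267305 IH) (Lpe (K15.f199498 IH) (Lpr_ct (K15.f267220 IH) (Lpe (K15.f267242 IH) (Lpr_dt (f267275 IH) (Lpr_gt (K15.f192374 IH) (Lpr_dt (K15.f180083 IH) (Lpn (LP (LK LD1_c4 LD2_c53 LD3_c20))))))))))))
theorem f189111 : Led Lsl_dt (LP (LK LD1_c8 LD2_c37 LD3_c12)) = (LP (LK LD1_c4 LD2_c19 LD3_c28)) :=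
  Lre_d IH (LK LD1_c8 LD2_c37 LD3_c12) (LK LD1_c4 LD2_c19 LD3_c28) Lrfl Lrfl
theorem f278685 : Led Lsl_ct (LP (LK LD1_c8 LD2_c53 LD3_c31)) = (LP (LK LD1_c8 LD2_c37 LD3_c12)) :=
  Lgr Lrot110 (Lpr_gf (f278662 IH) (Lpr_cf (f267332 IH) (Lpr_gf (K15.f267537 IH) (Lpe (K15.f260784 IH) (Lpr_gt (K15.f260772 IH) (Lpr_ct (K15.f260770 IH) (Lpr_gt (K12.f179561 IH) (Lpr_ct (K12.f189106 IH) (Lpe (f189111 IH) (Lpn (LP (LK LD1_c8 LD2_c37 LD3_c12))))))))))))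
theorem f44646 : Led Lsl_dt (LP (LK LD1_c8 LD2_c52 LD3_c59)) = (LP (LK LD1_c4 LD2_c27 LD3_c34)) :=
  Lre_d IH (LK LD1_c8 LD2_c52 LD3_c59) (LK LD1_c4 LD2_c27 LD3_c34) Lrfl Lrfl
theorem f213009 : Led Lsl_gt (LP (LK LD1_c2 LD2_c28 LD3_c5)) = (LP (LK LD1_c4 LD2_c28 LD3_c23)) :=
  Lgr Lrot82 (Lpe (f53641 IH) (Lpr_ct (K13.f53680 IH) (Lpr_gf (K12.f212994 IH) (Lpe (K12.f194427 IH) (Lpr_bt (K12.f167846 IH) (Lpe (K1.f41430 IH) (Lpe (K9.f173122 IH) (Lpr_ct (K9.f173123 IH) (Lpe (K12.f41697 IH) (Lpe (K12.f213008 IH) (Lpn (LP (LK LD1_c4 LD2_c28 LD3_c23)))))))))))))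
theorem f213017 : Led Lsl_dt (LP (LK LD1_c2 LD2_c11 LD3_c18)) = (LP (LK LD1_c4 LD2_c28 LD3_c24)) :=
  Lre_d IH (LK LD1_c2 LD2_c11 LD3_c18) (LK LD1_c4 LD2_c28 LD3_c24) Lrfl Lrfl
theorem f223200 : Led Lsl_dt (LP (LK LD1_c4 LD2_c28 LD3_c9)) = (LP (LK LD1_c2 LD2_c11 LD3_c14)) :=
  Lre_d IH (LK LD1_c4 LD2_c28 LD3_c9) (LK LD1_c2 LD2_c11 LD3_c14) Lrfl Lrfl
theorem f276475 : Led Lsl_ft (LP (LK LD1_c8 LD2_c52 LD3_c59)) = (LP (LK LD1_c4 LD2_c28 LD3_c9)) :=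
  Lgr Lrot54 (Lpe (f44638 IH) (Lpr_ff (f276466 IH) (Lpe (f223200 IH) (Lpn (LP (LK LD1_c4 LD2_c28 LD3_c9))))))
theorem f276464 : Led Lsl_at (LP (LK LD1_c9 LD2_c36 LD3_c57)) = (LP (LK LD1_c4 LD2_c52 LD3_c22)) :=
  Lre_a IH (LK LD1_c9 LD2_c36 LD3_c57) (LK LD1_c4 LD2_c52 LD3_c22) Lrfl Lrfl
theorem f276585 : Led Lsl_af (LP (LK LD1_c8 LD2_c8 LD3_c12)) = (LP (LK LD1_c4 LD2_c28 LD3_c9)) :=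
  Lgr Lrot68 (Lpr_ct (f276583 IH) (Lpr_at (f276464 IH) (Lpr_ct (f276458 IH) (Lpn (LP (LK LD1_c4 LD2_c28 LD3_c9))))))
theorem f278681 : Led Lsl_gt (LP (LK LD1_c8 LD2_c53 LD3_c31)) = (LP (LK LD1_c8 LD2_c8 LD3_c12)) :=
  Lgr Lrot46 (Lpr_gf (f278662 IH) (Lpr_ft (f276475 IH) (Lpe (f276585 IH) (Lpn (LP (LK LD1_c8 LD2_c8 LD3_c12))))))
theorem f201297 : Led Lsl_dt (LP (LK LD1_c8 LD2_c8 LD3_c12)) = (LP (LK LD1_c4 LD2_c3 LD3_c53)) :=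
  Lre_d IH (LK LD1_c8 LD2_c8 LD3_c12) (LK LD1_c4 LD2_c3 LD3_c53) Lrfl Lrfl
theorem f53962 : Led Lsl_dt (LP (LK LD1_c4 LD2_c5 LD3_c1)) = (LP (LK LD1_c8 LD2_c10 LD3_c51)) :=
  Lre_d IH (LK LD1_c4 LD2_c5 LD3_c1) (LK LD1_c8 LD2_c10 LD3_c51) Lrfl Lrfl
theorem f267310 : Led Lsl_cf (LP (LK LD1_c15 LD2_c17 LD3_c40)) = (LP (LK LD1_c8 LD2_c10 LD3_c51)) :=
  Lgr Lrot55 (Lpr_dt (K15.f267305 IH) (Lpr_ct (K15.f220798 IH) (Lpr_dt (K12.f199179 IH) (Lpr_ct (K12.f199183 IH) (Lpr_dt (K12.f53328 IH) (Lpr_ct (K12.f53329 IH) (Lpr_dt (K12.f219383 IH) (Lpe (K12.f219384 IH) (Lpr_dt (K12.f53646 IH) (Lpr_ct (K12.f53642 IH) (Lpr_dt (K12.f53645 IH) (Lpr_ct (K10.f53956 IH) (Lpr_dt (K12.f47957 IH) (Lpr_ct (K12.f53961 IH) (Lpr_dt (f53962 IH) (Lpn (LP (LK LD1_c8 LD2_c10 LD3_c51))))))))))))))))))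
theorem f250496 : Led Lsl_dt (LP (LK LD1_c8 LD2_c18 LD3_c60)) = (LP (LK LD1_c4 LD2_c9 LD3_c30)) :=
  Lre_d IH (LK LD1_c8 LD2_c18 LD3_c60) (LK LD1_c4 LD2_c9 LD3_c30) Lrfl Lrfl
theorem f278702 : Led Lsl_gf (LP (LK LD1_c8 LD2_c18 LD3_c60)) = (LP (LK LD1_c8 LD2_c37 LD3_c12)) :=
  Lgr Lrot148 (Lpr_dt (f250496 IH) (Lpr_gt (K14.f250509 IH) (Lpr_dt (f53962 IH) (Lpe (f267310 IH) (Lpr_df (K15.f267312 IH) (Lpe (K15.f218816 IH) (Lpe (f201297 IH) (Lpe (f278681 IH) (Lpr_ct (f278685 IH) (Lpn (LP (LK LD1_c8 LD2_c37 LD3_c12))))))))))))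
theorem f278704 : Led Lsl_cf (LP (LK LD1_c4 LD2_c28 LD3_c24)) = (LP (LK LD1_c8 LD2_c18 LD3_c60)) :=
  Lgr Lrot99 (Lpe (f213017 IH) (Lpe (K12.f213008 IH) (Lpe (f213009 IH) (Lpe (K12.f53642 IH) (Lpr_gf (K15.f213484 IH) (Lpe (f44646 IH) (Lpe (f278662 IH) (Lpr_ct (f278685 IH) (Lpe (f278702 IH) (Lpn (LP (LK LD1_c8 LD2_c18 LD3_c60))))))))))))
theorem f278709 : Led Lsl_gt (LP (LK LD1_c4 LD2_c28 LD3_c24)) = (LP (LK LD1_c8 LD2_c54 LD3_c55)) :=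
  Lre_g IH (LK LD1_c4 LD2_c28 LD3_c24) (LK LD1_c8 LD2_c54 LD3_c55) Lrfl Lrfl
theorem f189112 : Led Lsl_dt (LP (LK LD1_c4 LD2_c19 LD3_c28)) = (LP (LK LD1_c8 LD2_c37 LD3_c12)) :=
  Lre_d IH (LK LD1_c4 LD2_c19 LD3_c28) (LK LD1_c8 LD2_c37 LD3_c12) Lrfl Lrfl
theorem f278712 : Led Lsl_ct (LP (LK LD1_c8 LD2_c54 LD3_c55)) = (LP (LK LD1_c8 LD2_c24 LD3_c24)) :=
  Lgr Lrot110 (Lpe (f278709 IH) (Lpr_cf (f278704 IH) (Lpr_gf (f278702 IH) (Lpe (f189112 IH) (Lpr_gt (K12.f189107 IH) (Lpr_ct (K12.f189103 IH) (Lpe (K12.f212482 IH) (Lpe (K15.f236996 IH) (Lpe (K15.f237126 IH) (Lpn (LP (LK LD1_c8 LD2_c24 LD3_c24))))))))))))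
theorem f278720 : Led Lsl_df (LP (LK LD1_c8 LD2_c54 LD3_c55)) = (LP (LK LD1_c8 LD2_c7 LD3_c14)) :=
  Lgr Lrot43 (Lpr_ct (f278712 IH) (Lpr_dt (K15.f237126 IH) (Lpr_ct (K15.f237119 IH) (Lpr_dt (K12.f201236 IH) (Lpe (K11.f201228 IH) (Lpr_dt (K12.f7818 IH) (Lpr_ct (K15.f7840 IH) (Lpr_dt (K15.f7841 IH) (Lpr_ct (K15.f267499 IH) (Lpr_dt (K15.f166513 IH) (Lpr_ct (K15.f166507 IH) (Lpe (f267467 IH) (Lpr_ct (K14.f253261 IH) (Lpe (K14.f246144 IH) (Lpr_ct (K12.f199126 IH) (Lpn (LP (LK LD1_c8 LD2_c7 LD3_c14))))))))))))))))))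
theorem f278726 : Led Lsl_dt (LP (LK LD1_c8 LD2_c54 LD3_c55)) = (LP (LK LD1_c8 LD2_c7 LD3_c14)) :=
  Lgr Lrot42 (Lpr_df (f278720 IH) (Lpn (LP (LK LD1_c8 LD2_c7 LD3_c14))))
theorem f278715 : Led Lsl_af (LP (LK LD1_c8 LD2_c54 LD3_c55)) = (LP (LK LD1_c8 LD2_c53 LD3_c28)) :=
  Lgr Lrot68 (Lpr_ct (f278712 IH) (Lpr_at (K15.f267523 IH) (Lpe (K15.f261008 IH) (Lpn (LP (LK LD1_c8 LD2_c53 LD3_c28))))))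
theorem f278834 : Led Lsl_af (LP (LK LD1_c4 LD2_c27 LD3_c48)) = (LP (LK LD1_c8 LD2_c7 LD3_c14)) :=
  Lgr Lrot117 (Lpr_dt (K15.f191905 IH) (Lpe (f278715 IH) (Lpr_dt (f278726 IH) (Lpn (LP (LK LD1_c8 LD2_c7 LD3_c14))))))
theorem f219628 : Led Lsl_gt (LP (LK LD1_c1 LD2_c2 LD3_c34)) = (LP (LK LD1_c2 LD2_c11 LD3_c3)) :=
  Lre_g IH (LK LD1_c1 LD2_c2 LD3_c34) (LK LD1_c2 LD2_c11 LD3_c3) Lrfl Lrfl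
theorem f219629 : Led Lsl_ct (LP (LK LD1_c2 LD2_c11 LD3_c3)) = (LP (LK LD1_c4 LD2_c27 LD3_c46)) :=
  Lre_c IH (LK LD1_c2 LD2_c11 LD3_c3) (LK LD1_c4 LD2_c27 LD3_c46) Lrfl Lrfl
theorem f219323 : Led Lsl_ct (LP (LK LD1_c8 LD2_c17 LD3_c57)) = (LP (LK LD1_c4 LD2_c8 LD3_c55)) :=
  Lre_c IH (LK LD1_c8 LD2_c17 LD3_c57) (LK LD1_c4 LD2_c8 LD3_c55) Lrfl Lrfl
theorem f219630 : Led Lsl_gt (LP (LK LD1_c4 LD2_c27 LD3_c46)) = (LP (LK LD1_c8 LD2_c17 LD3_c57)) :=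
  Lgr Lrot150 (Lpe (f219629 IH) (Lpe (f219628 IH) (Lpe (K14.f219627 IH) (Lpr_gt (K14.f41725 IH) (Lpr_ct (K12.f219609 IH) (Lpr_gt (K12.f190827 IH) (Lpr_ct (K12.f51452 IH) (Lpe (K14.f219289 IH) (Lpe (f219323 IH) (Lpn (LP (LK LD1_c8 LD2_c17 LD3_c57))))))))))))
theorem f278844 : Led Lsl_ft (LP (LK LD1_c4 LD2_c27 LD3_c46)) = (LP (LK LD1_c8 LD2_c7 LD3_c14)) :=
  Lgr Lrot2 (Lpr_gt (f219630 IH) (Lpe (K14.f254891 IH) (Lpr_af (f278834 IH) (Lpn (LP (LK LD1_c8 LD2_c7 LD3_c14))))))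
theorem f219723 : Led Lsl_dt (LP (LK LD1_c4 LD2_c27 LD3_c46)) = (LP (LK LD1_c8 LD2_c53 LD3_c22)) :=
  Lre_d IH (LK LD1_c4 LD2_c27 LD3_c46) (LK LD1_c8 LD2_c53 LD3_c22) Lrfl Lrfl
theorem f278846 : Led Lsl_cf (LP (LK LD1_c8 LD2_c37 LD3_c21)) = (LP (LK LD1_c8 LD2_c53 LD3_c22)) :=
  Lgr Lrot118 (Lpr_dt (K15.f267125 IH) (Lpe (K15.f267166 IH) (Lpr_dt (K15.f261317 IH) (Lpe (K12.f201232 IH) (Lpr_dt (K14.f253467 IH) (Lpr_ct (K14.f191893 IH) (Lpr_af (f278834 IH) (Lpe (f278844 IH) (Lpr_dt (f219723 IH) (Lpn (LP (LK LD1_c8 LD2_c53 LD3_c22))))))))))))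
theorem f267127 : Led Lsl_dt (LP (LK LD1_c4 LD2_c19 LD3_c33)) = (LP (LK LD1_c8 LD2_c37 LD3_c21)) :=
  Lre_d IH (LK LD1_c4 LD2_c19 LD3_c33) (LK LD1_c8 LD2_c37 LD3_c21) Lrfl Lrfl
theorem f219669 : Led Lsl_dt (LP (LK LD1_c8 LD2_c24 LD3_c11)) = (LP (LK LD1_c4 LD2_c12 LD3_c19)) :=
  Lre_d IH (LK LD1_c8 LD2_c24 LD3_c11) (LK LD1_c4 LD2_c12 LD3_c19) Lrfl Lrfl
theorem f53887 : Led Lsl_ct (LP (LK LD1_c1 LD2_c59 LD3_c38)) = (LP (LK LD1_c4 LD2_c5 LD3_c0)) :=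
  Lre_c IH (LK LD1_c1 LD2_c59 LD3_c38) (LK LD1_c4 LD2_c5 LD3_c0) Lrfl Lrfl
theorem f53901 : Led Lsl_gt (LP (LK LD1_c4 LD2_c5 LD3_c0)) = (LP (LK LD1_c8 LD2_c10 LD3_c46)) :=
  Lre_g IH (LK LD1_c4 LD2_c5 LD3_c0) (LK LD1_c8 LD2_c10 LD3_c46) Lrfl Lrfl
theorem f270925 : Led Lsl_ct (LP (LK LD1_c8 LD2_c10 LD3_c46)) = (LP (LK LD1_c4 LD2_c8 LD3_c17)) :=
  Lgr Lrot110 (Lpe (f53901 IH) (Lpe (f53887 IH) (Lpe (f270906 IH) (Lpr_df (f270912 IH) (Lpr_gt (K14.f170291 IH) (Lpr_ct (K14.f170292 IH) (Lpr_gt (K14.f251405 IH) (Lpr_ct (K14.f250966 IH) (Lpr_df (K15.f236107 IH) (Lpn (LP (LK LD1_c4 LD2_c8 LD3_c17))))))))))))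
theorem f270930 : Led Lsl_dt (LP (LK LD1_c15 LD2_c24 LD3_c0)) = (LP (LK LD1_c8 LD2_c10 LD3_c46)) :=
  Lre_d IH (LK LD1_c15 LD2_c24 LD3_c0) (LK LD1_c8 LD2_c10 LD3_c46) Lrfl Lrfl
theorem f251403 : Led Lsl_et (LP (LK LD1_c5 LD2_c28 LD3_c15)) = (LP (LK LD1_c2 LD2_c40 LD3_c26)) :=
  Lre_e IH (LK LD1_c5 LD2_c28 LD3_c15) (LK LD1_c2 LD2_c40 LD3_c26) Lrfl Lrfl
theorem f267168 : Led Lsl_df (LP (LK LD1_c4 LD2_c8 LD3_c17)) = (LP (LK LD1_c5 LD2_c28 LD3_c15)) :=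
  Lgr Lrot168 (Lpr_gf (K15.f267160 IH) (Lpe (K15.f41856 IH) (Lpr_et (K9.f41840 IH) (Lpe (K1.f41850 IH) (Lpe (K10.f30844 IH) (Lpr_dt (K9.f30859 IH) (Lpr_gf (K11.f188004 IH) (Lpe (K14.f170685 IH) (Lpr_gf (K14.f251582 IH) (Lpe (f251403 IH) (Lpn (LP (LK LD1_c5 LD2_c28 LD3_c15)))))))))))))
theorem f219713 : Led Lsl_dt (LP (LK LD1_c4 LD2_c12 LD3_c19)) = (LP (LK LD1_c8 LD2_c24 LD3_c11)) :=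
  Lre_d IH (LK LD1_c4 LD2_c12 LD3_c19) (LK LD1_c8 LD2_c24 LD3_c11) Lrfl Lrfl
theorem f270933 : Led Lsl_gf (LP (LK LD1_c15 LD2_c24 LD3_c0)) = (LP (LK LD1_c8 LD2_c24 LD3_c11)) :=
  Lgr Lrot154 (Lpr_dt (f270930 IH) (Lpr_ct (f270925 IH) (Lpr_df (f267168 IH) (Lpe (K15.f254961 IH) (Lpr_df (f261004 IH) (Lpe (K15.f219658 IH) (Lpr_ct (K14.f187153 IH) (Lpr_gt (K14.f219711 IH) (Lpr_dt (f219713 IH) (Lpn (LP (LK LD1_c8 LD2_c24 LD3_c11))))))))))))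
theorem f276581 : Led Lsl_gt (LP (LK LD1_c8 LD2_c37 LD3_c21)) = (LP (LK LD1_c9 LD2_c36 LD3_c57)) :=
  Lgr Lrot46 (Lpr_gf (K15.f267164 IH) (Lpr_ft (f276547 IH) (Lpr_at (f276456 IH) (Lpn (LP (LK LD1_c9 LD2_c36 LD3_c57))))))
theorem f276589 : Led Lsl_cf (LP (LK LD1_c8 LD2_c8 LD3_c12)) = (LP (LK LD1_c9 LD2_c36 LD3_c57)) :=
  Lgr Lrot11 (Lpr_ct (f276583 IH) (Lpn (LP (LK LD1_c9 LD2_c36 LD3_c57))))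
theorem f44736 : Led Lsl_dt (LP (LK LD1_c4 LD2_c27 LD3_c37)) = (LP (LK LD1_c8 LD2_c53 LD3_c5)) :=
  Lre_d IH (LK LD1_c4 LD2_c27 LD3_c37) (LK LD1_c8 LD2_c53 LD3_c5) Lrfl Lrfl
theorem f278860 : Led Lsl_gt (LP (LK LD1_c8 LD2_c53 LD3_c5)) = (LP (LK LD1_c8 LD2_c53 LD3_c22)) :=
  Lgr Lrot9 (Lpe (f44736 IH) (Lpr_gt (K12.f220800 IH) (Lpr_ct (K15.f41763 IH) (Lpe (K12.f220767 IH) (Lpr_ct (K15.f52301 IH) (Lpe (f201297 IH) (Lpr_cf (f276589 IH) (Lpe (f276581 IH) (Lpr_cf (f278846 IH) (Lpn (LP (LK LD1_c8 LD2_c53 LD3_c22))))))))))))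
theorem f278862 : Led Lsl_ct (LP (LK LD1_c15 LD2_c24 LD3_c0)) = (LP (LK LD1_c8 LD2_c53 LD3_c5)) :=
  Lgr Lrot186 (Lpr_gf (f270933 IH) (Lpr_dt (f219669 IH) (Lpr_gt (K12.f167092 IH) (Lpr_ct (K15.f167183 IH) (Lpr_gt (K14.f167184 IH) (Lpe (K15.f267128 IH) (Lpr_dt (f267127 IH) (Lpr_cf (f278846 IH) (Lpe (f278860 IH) (Lpn (LP (LK LD1_c8 LD2_c53 LD3_c5))))))))))))
theorem f278865 : Led Lsl_cf (LP (LK LD1_c15 LD2_c24 LD3_c0)) = (LP (LK LD1_c8 LD2_c53 LD3_c5)) :=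
  Lgr Lrot11 (Lpr_ct (f278862 IH) (Lpn (LP (LK LD1_c8 LD2_c53 LD3_c5))))
theorem f53371 : Led Lsl_bt (LP (LK LD1_c4 LD2_c8 LD3_c17)) = (LP (LK LD1_c2 LD2_c1 LD3_c32)) :=
  Lre_b IH (LK LD1_c4 LD2_c8 LD3_c17) (LK LD1_c2 LD2_c1 LD3_c32) Lrfl Lrfl
theorem f270908 : Led Lsl_ct (LP (LK LD1_c4 LD2_c8 LD3_c17)) = (LP (LK LD1_c8 LD2_c10 LD3_c46)) :=
  Lgr Lrot63 (Lpr_bt (f53371 IH) (Lpr_gt (K12.f51409 IH) (Lpe (K9.f47728 IH) (Lpr_ct (K9.f51607 IH) (Lpr_gt (K13.f53367 IH) (Lpe (K13.f237772 IH) (Lpr_bt (f237785 IH) (Lpr_gt (f270906 IH) (Lpr_ct (f53887 IH) (Lpr_gt (f53901 IH) (Lpn (LP (LK LD1_c8 LD2_c10 LD3_c46)))))))))))))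
theorem f267270 : Led Lsl_at (LP (LK LD1_c2 LD2_c8 LD3_c8)) = (LP (LK LD1_c4 LD2_c21 LD3_c2)) :=
  Lre_a IH (LK LD1_c2 LD2_c8 LD3_c8) (LK LD1_c4 LD2_c21 LD3_c2) Lrfl Lrfl
theorem f276609 : Led Lsl_gf (LP (LK LD1_c4 LD2_c21 LD3_c2)) = (LP (LK LD1_c4 LD2_c52 LD3_c19)) :=
  Lgr Lrot76 (Lpe (f267270 IH) (Lpe (K15.f232426 IH) (Lpr_gt (f276602 IH) (Lpn (LP (LK LD1_c4 LD2_c52 LD3_c19))))))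
theorem f253953 : Led Lsl_gt (LP (LK LD1_c2 LD2_c24 LD3_c28)) = (LP (LK LD1_c4 LD2_c21 LD3_c16)) :=
  Lgr Lrot150 (Lpe (K15.f2870 IH) (Lpr_gf (f253951 IH) (Lpe (K12.f47957 IH) (Lpe (K10.f189095 IH) (Lpe (K11.f199130 IH) (Lpr_gt (K11.f199118 IH) (Lpr_ct (K12.f42885 IH) (Lpe (K12.f43078 IH) (Lpe (K15.f199128 IH) (Lpn (LP (LK LD1_c4 LD2_c21 LD3_c16))))))))))))
theorem f220801 : Led Lsl_dt (LP (LK LD1_c8 LD2_c53 LD3_c5)) = (LP (LK LD1_c4 LD2_c27 LD3_c37)) :=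
  Lre_d IH (LK LD1_c8 LD2_c53 LD3_c5) (LK LD1_c4 LD2_c27 LD3_c37) Lrfl Lrfl
theorem f267539 : Led Lsl_gf (LP (LK LD1_c8 LD2_c53 LD3_c5)) = (LP (LK LD1_c8 LD2_c53 LD3_c28)) :=
  Lgr Lrot144 (Lpr_dt (f220801 IH) (Lpr_gt (K12.f220800 IH) (Lpr_dt (K12.f168602 IH) (Lpr_cf (K15.f267334 IH) (Lpe (f267373 IH) (Lpe (f253953 IH) (Lpe (K15.f2869 IH) (Lpr_gf (K15.f267537 IH) (Lpe (K15.f261013 IH) (Lpn (LP (LK LD1_c8 LD2_c53 LD3_c28))))))))))))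
theorem f278884 : Led Lsl_gt (LP (LK LD1_c9 LD2_c36 LD3_c57)) = (LP (LK LD1_c8 LD2_c37 LD3_c24)) :=
  Lgr Lrot9 (Lpe (f276601 IH) (Lpe (f276609 IH) (Lpr_ct (K15.f42005 IH) (Lpe (K15.f267160 IH) (Lpr_ct (f270908 IH) (Lpe (f270930 IH) (Lpr_cf (f278865 IH) (Lpr_gf (f267539 IH) (Lpr_cf (K15.f261008 IH) (Lpn (LP (LK LD1_c8 LD2_c37 LD3_c24))))))))))))
theorem f260791 : Led Lsl_dt (LP (LK LD1_c8 LD2_c37 LD3_c24)) = (LP (LK LD1_c4 LD2_c19 LD3_c34)) :=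
  Lre_d IH (LK LD1_c8 LD2_c37 LD3_c24) (LK LD1_c4 LD2_c19 LD3_c34) Lrfl Lrfl
theorem f267096 : Led Lsl_cf (LP (LK LD1_c4 LD2_c19 LD3_c36)) = (LP (LK LD1_c4 LD2_c27 LD3_c53)) :=
  Lgr Lrot11 (Lpr_ct (K15.f267091 IH) (Lpn (LP (LK LD1_c4 LD2_c27 LD3_c53))))
theorem f42417 : Led Lsl_dt (LP (LK LD1_c2 LD2_c11 LD3_c5)) = (LP (LK LD1_c4 LD2_c27 LD3_c53)) :=
  Lre_d IH (LK LD1_c2 LD2_c11 LD3_c5) (LK LD1_c4 LD2_c27 LD3_c53) Lrfl Lrfl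
theorem f260913 : Led Lsl_gt (LP (LK LD1_c4 LD2_c27 LD3_c51)) = (LP (LK LD1_c2 LD2_c11 LD3_c5)) :=
  Lre_g IH (LK LD1_c4 LD2_c27 LD3_c51) (LK LD1_c2 LD2_c11 LD3_c5) Lrfl Lrfl
theorem f267111 : Led Lsl_dt (LP (LK LD1_c8 LD2_c53 LD3_c34)) = (LP (LK LD1_c4 LD2_c27 LD3_c51)) :=
  Lre_d IH (LK LD1_c8 LD2_c53 LD3_c34) (LK LD1_c4 LD2_c27 LD3_c51) Lrfl Lrfl
theorem f278886 : Led Lsl_gt (LP (LK LD1_c8 LD2_c8 LD3_c12)) = (LP (LK LD1_c8 LD2_c53 LD3_c34)) :=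
  Lgr Lrot94 (Lpr_cf (f276589 IH) (Lpr_gt (f278884 IH) (Lpr_dt (f260791 IH) (Lpr_gt (K15.f260772 IH) (Lpr_dt (K15.f260788 IH) (Lpr_cf (f267096 IH) (Lpe (f42417 IH) (Lpe (f260913 IH) (Lpe (f267111 IH) (Lpn (LP (LK LD1_c8 LD2_c53 LD3_c34))))))))))))
theorem f243444 : Led Lsl_ct (LP (LK LD1_c2 LD2_c7 LD3_c10)) = (LP (LK LD1_c4 LD2_c19 LD3_c31)) :=
  Lre_c IH (LK LD1_c2 LD2_c7 LD3_c10) (LK LD1_c4 LD2_c19 LD3_c31) Lrfl Lrfl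
theorem f267199 : Led Lsl_dt (LP (LK LD1_c4 LD2_c19 LD3_c31)) = (LP (LK LD1_c8 LD2_c37 LD3_c16)) :=
  Lre_d IH (LK LD1_c4 LD2_c19 LD3_c31) (LK LD1_c8 LD2_c37 LD3_c16) Lrfl Lrfl
theorem f278893 : Led Lsl_cf (LP (LK LD1_c8 LD2_c37 LD3_c16)) = (LP (LK LD1_c8 LD2_c53 LD3_c34)) :=
  Lgr Lrot99 (Lpe (f267199 IH) (Lpe (f243444 IH) (Lpe (K15.f267192 IH) (Lpe (K15.f260910 IH) (Lpe (K15.f267123 IH) (Lpe (K15.f267125 IH) (Lpr_gt (f276581 IH) (Lpe (f276589 IH) (Lpr_gt (f278886 IH) (Lpn (LP (LK LD1_c8 LD2_c53 LD3_c34))))))))))))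
theorem f263690 : Led Lsl_dt (LP (LK LD1_c8 LD2_c37 LD3_c16)) = (LP (LK LD1_c4 LD2_c19 LD3_c31)) :=
  Lre_d IH (LK LD1_c8 LD2_c37 LD3_c16) (LK LD1_c4 LD2_c19 LD3_c31) Lrfl Lrfl
theorem f243394 : Led Lsl_ct (LP (LK LD1_c4 LD2_c19 LD3_c31)) = (LP (LK LD1_c2 LD2_c7 LD3_c10)) :=
  Lre_c IH (LK LD1_c4 LD2_c19 LD3_c31) (LK LD1_c2 LD2_c7 LD3_c10) Lrfl Lrfl
theorem f177918 : Led Lsl_bt (LP (LK LD1_c4 LD2_c31 LD3_c20)) = (LP (LK LD1_c2 LD2_c12 LD3_c39)) :=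
  Lre_b IH (LK LD1_c4 LD2_c31 LD3_c20) (LK LD1_c2 LD2_c12 LD3_c39) Lrfl Lrfl
theorem f276229 : Led Lsl_cf (LP (LK LD1_c4 LD2_c27 LD3_c50)) = (LP (LK LD1_c4 LD2_c31 LD3_c20)) :=
  Lgr Lrot163 (Lpe (f225915 IH) (Lpe (f225914 IH) (Lpe (K14.f41731 IH) (Lpe (K14.f225835 IH) (Lpr_ct (K12.f225707 IH) (Lpr_gf (f276219 IH) (Lpe (K12.f175034 IH) (Lpr_bt (K12.f183314 IH) (Lpe (K15.f177914 IH) (Lpe (f177918 IH) (Lpn (LP (LK LD1_c4 LD2_c31 LD3_c20)))))))))))))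
theorem f278692 : Led Lsl_dt (LP (LK LD1_c4 LD2_c27 LD3_c50)) = (LP (LK LD1_c8 LD2_c53 LD3_c31)) :=
  Lre_d IH (LK LD1_c4 LD2_c27 LD3_c50) (LK LD1_c8 LD2_c53 LD3_c31) Lrfl Lrfl
theorem f189110 : Led Lsl_ct (LP (LK LD1_c4 LD2_c19 LD3_c28)) = (LP (LK LD1_c2 LD2_c7 LD3_c9)) :=
  Lre_c IH (LK LD1_c4 LD2_c19 LD3_c28) (LK LD1_c2 LD2_c7 LD3_c9) Lrfl Lrfl
theorem f276670 : Led Lsl_df (LP (LK LD1_c2 LD2_c23 LD3_c55)) = (LP (LK LD1_c2 LD2_c7 LD3_c24)) :=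
  Lgr Lrot153 (Lpe (f276611 IH) (Lpr_dt (K12.f53636 IH) (Lpe (K10.f53956 IH) (Lpe (K12.f53645 IH) (Lpe (K12.f187448 IH) (Lpr_df (K12.f187414 IH) (Lpr_gf (K14.f256060 IH) (Lpe (K14.f53337 IH) (Lpr_gt (f276668 IH) (Lpn (LP (LK LD1_c2 LD2_c7 LD3_c24))))))))))))
theorem f276592 : Led Lsl_dt (LP (LK LD1_c9 LD2_c36 LD3_c57)) = (LP (LK LD1_c4 LD2_c52 LD3_c19)) :=
  Lre_d IH (LK LD1_c9 LD2_c36 LD3_c57) (LK LD1_c4 LD2_c52 LD3_c19) Lrfl Lrfl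
theorem f276672 : Led Lsl_df (LP (LK LD1_c2 LD2_c3 LD3_c42)) = (LP (LK LD1_c2 LD2_c7 LD3_c9)) :=
  Lgr Lrot153 (Lpr_gt (f276668 IH) (Lpe (f276670 IH) (Lpe (f276591 IH) (Lpe (f276592 IH) (Lpe (f276581 IH) (Lpe (f267127 IH) (Lpe (K15.f179547 IH) (Lpe (K15.f179546 IH) (Lpr_gt (K12.f179561 IH) (Lpn (LP (LK LD1_c2 LD2_c7 LD3_c9))))))))))))
theorem f278899 : Led Lsl_dt (LP (LK LD1_c4 LD2_c27 LD3_c51)) = (LP (LK LD1_c8 LD2_c53 LD3_c34)) :=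
  Lre_d IH (LK LD1_c4 LD2_c27 LD3_c51) (LK LD1_c8 LD2_c53 LD3_c34) Lrfl Lrfl
theorem f278909 : Led Lsl_ct (LP (LK LD1_c4 LD2_c54 LD3_c43)) = (LP (LK LD1_c4 LD2_c27 LD3_c51)) :=
  Lgr Lrot176 (Lpr_df (f274870 IH) (Lpe (K14.f53337 IH) (Lpr_df (f276672 IH) (Lpe (f189110 IH) (Lpe (f189111 IH) (Lpe (f278685 IH) (Lpe (f278692 IH) (Lpr_cf (f276229 IH) (Lpr_df (K15.f238182 IH) (Lpr_cf (f267197 IH) (Lpr_df (K15.f267181 IH) (Lpe (f243394 IH) (Lpe (f263690 IH) (Lpr_cf (f278893 IH) (Lpe (f278899 IH) (Lpn (LP (LK LD1_c4 LD2_c27 LD3_c51))))))))))))))))))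
theorem f251744 : Led Lsl_bf (LP (LK LD1_c4 LD2_c12 LD3_c54)) = (LP (LK LD1_c8 LD2_c18 LD3_c52)) :=
  Lgr Lrot24 (Lpr_bt (K14.f251725 IH) (Lpn (LP (LK LD1_c8 LD2_c18 LD3_c52))))
theorem f274872 : Led Lsl_bt (LP (LK LD1_c4 LD2_c54 LD3_c43)) = (LP (LK LD1_c5 LD2_c29 LD3_c54)) :=
  Lgr Lrot95 (Lpr_df (f274870 IH) (Lpr_bf (f251744 IH) (Lpe (K14.f251727 IH) (Lpn (LP (LK LD1_c5 LD2_c29 LD3_c54))))))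
theorem f247337 : Led Lsl_bf (LP (LK LD1_c1 LD2_c0 LD3_c30)) = (LP (LK LD1_c1 LD2_c2 LD3_c36)) :=
  Lgr Lrot24 (Lpr_bt (K14.f247335 IH) (Lpn (LP (LK LD1_c1 LD2_c2 LD3_c36))))
theorem f168605 : Led Lsl_ct (LP (LK LD1_c1 LD2_c2 LD3_c36)) = (LP (LK LD1_c2 LD2_c11 LD3_c10)) :=
  Lre_c IH (LK LD1_c1 LD2_c2 LD3_c36) (LK LD1_c2 LD2_c11 LD3_c10) Lrfl Lrfl
theorem f278937 : Led Lsl_gt (LP (LK LD1_c2 LD2_c11 LD3_c10)) = (LP (LK LD1_c4 LD2_c27 LD3_c51)) :=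
  Lgr Lrot65 (Lpe (f168605 IH) (Lpe (f247337 IH) (Lpe (K12.f8009 IH) (Lpr_bf (K12.f228028 IH) (Lpr_ct (K12.f178103 IH) (Lpr_gf (K14.f251748 IH) (Lpe (K14.f189687 IH) (Lpr_gf (K14.f234776 IH) (Lpe (f274872 IH) (Lpr_ct (f278909 IH) (Lpn (LP (LK LD1_c4 LD2_c27 LD3_c51)))))))))))))
theorem f253455 : Led Lsl_et (LP (LK LD1_c2 LD2_c5 LD3_c60)) = (LP (LK LD1_c0 LD2_c59 LD3_c61)) :=
  Lre_e IH (LK LD1_c2 LD2_c5 LD3_c60) (LK LD1_c0 LD2_c59 LD3_c61) Lrfl Lrfl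
theorem f278522 : Led Lsl_df (LP (LK LD1_c2 LD2_c11 LD3_c3)) = (LP (LK LD1_c2 LD2_c5 LD3_c60)) :=
  Lgr Lrot168 (Lpe (f219628 IH) (Lpe (K14.f219627 IH) (Lpr_et (K14.f253415 IH) (Lpe (f253423 IH) (Lpe (f278520 IH) (Lpr_dt (f278510 IH) (Lpr_gf (K12.f219783 IH) (Lpe (K9.f41536 IH) (Lpe (K15.f260985 IH) (Lpe (f253455 IH) (Lpn (LP (LK LD1_c2 LD2_c5 LD3_c60)))))))))))))
theorem f278524 : Led Lsl_gf (LP (LK LD1_c1 LD2_c2 LD3_c36)) = (LP (LK LD1_c2 LD2_c11 LD3_c3)) :=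
  Lgr Lrot145 (Lpe (K14.f168604 IH) (Lpr_et (K14.f191926 IH) (Lpe (f278428 IH) (Lpr_dt (f278510 IH) (Lpr_gt (K12.f219779 IH) (Lpe (K12.f170850 IH) (Lpe (f219123 IH) (Lpe (K15.f260916 IH) (Lpe (f253455 IH) (Lpe (f278522 IH) (Lpn (LP (LK LD1_c2 LD2_c11 LD3_c3)))))))))))))
theorem f278939 : Led Lsl_bt (LP (LK LD1_c1 LD2_c15 LD3_c57)) = (LP (LK LD1_c2 LD2_c11 LD3_c3)) :=
  Lgr Lrot130 (Lpr_ct (K15.f171980 IH) (Lpe (K15.f224403 IH) (Lpe (K13.f214025 IH) (Lpe (K12.f214013 IH) (Lpr_gf (K14.f234776 IH) (Lpe (f274872 IH) (Lpr_ct (f278909 IH) (Lpe (f278937 IH) (Lpe (f168605 IH) (Lpr_gf (f278524 IH) (Lpn (LP (LK LD1_c2 LD2_c11 LD3_c3)))))))))))))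
theorem f258298 : Led Lsl_ff (LP (LK LD1_c1 LD2_c15 LD3_c57)) = (LP (LK LD1_c2 LD2_c36 LD3_c53)) :=
  Lgr Lrot19 (Lpe (K15.f256811 IH) (Lpr_ft (K15.f258296 IH) (Lpr_dt (K15.f257027 IH) (Lpn (LP (LK LD1_c2 LD2_c36 LD3_c53))))))
theorem f278954 : Led Lsl_ff (LP (LK LD1_c4 LD2_c3 LD3_c19)) = (LP (LK LD1_c2 LD2_c11 LD3_c3)) :=
  Lgr Lrot25 (Lpe (K12.f223294 IH) (Lpe (f258298 IH) (Lpr_bt (f278939 IH) (Lpn (LP (LK LD1_c2 LD2_c11 LD3_c3))))))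
theorem f278962 : Led Lsl_at (LP (LK LD1_c4 LD2_c3 LD3_c19)) = (LP (LK LD1_c2 LD2_c11 LD3_c4)) :=
  Lgr Lrot26 (Lpr_ff (f278954 IH) (Lpe (f278524 IH) (Lpr_gt (K14.f191902 IH) (Lpn (LP (LK LD1_c2 LD2_c11 LD3_c4))))))
theorem f7843 : Led Lsl_ft (LP (LK LD1_c1 LD2_c0 LD3_c1)) = (LP (LK LD1_c2 LD2_c6 LD3_c5)) :=
  Lre_f IH (LK LD1_c1 LD2_c0 LD3_c1) (LK LD1_c2 LD2_c6 LD3_c5) Lrfl Lrfl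
theorem f253475 : Led Lsl_ff (LP (LK LD1_c1 LD2_c16 LD3_c58)) = (LP (LK LD1_c2 LD2_c11 LD3_c4)) :=
  Lgr Lrot19 (Lpe (K12.f7719 IH) (Lpr_ft (f7843 IH) (Lpr_dt (K14.f253467 IH) (Lpn (LP (LK LD1_c2 LD2_c11 LD3_c4))))))
theorem f278964 : Led Lsl_af (LP (LK LD1_c2 LD2_c11 LD3_c3)) = (LP (LK LD1_c1 LD2_c16 LD3_c58)) :=
  Lgr Lrot45 (Lpe (f278954 IH) (Lpr_at (f278962 IH) (Lpe (f253475 IH) (Lpn (LP (LK LD1_c1 LD2_c16 LD3_c58))))))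
theorem f278951 : Led Lsl_et (LP (LK LD1_c2 LD2_c11 LD3_c3)) = (LP (LK LD1_c4 LD2_c27 LD3_c47)) :=
  Lre_e IH (LK LD1_c2 LD2_c11 LD3_c3) (LK LD1_c4 LD2_c27 LD3_c47) Lrfl Lrfl
theorem f7836 : Led Lsl_et (LP (LK LD1_c2 LD2_c40 LD3_c31)) = (LP (LK LD1_c1 LD2_c16 LD3_c58)) :=
  Lre_e IH (LK LD1_c2 LD2_c40 LD3_c31) (LK LD1_c1 LD2_c16 LD3_c58) Lrfl Lrfl
theorem f278968 : Led Lsl_at (LP (LK LD1_c4 LD2_c27 LD3_c47)) = (LP (LK LD1_c2 LD2_c40 LD3_c31)) :=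
  Lgr Lrot80 (Lpe (f278951 IH) (Lpr_af (f278964 IH) (Lpe (f7836 IH) (Lpn (LP (LK LD1_c2 LD2_c40 LD3_c31))))))
theorem f278959 : Led Lsl_ft (LP (LK LD1_c8 LD2_c53 LD3_c26)) = (LP (LK LD1_c4 LD2_c27 LD3_c47)) :=
  Lre_f IH (LK LD1_c8 LD2_c53 LD3_c26) (LK LD1_c4 LD2_c27 LD3_c47) Lrfl Lrfl
theorem f7822 : Led Lsl_ft (LP (LK LD1_c2 LD2_c40 LD3_c31)) = (LP (LK LD1_c5 LD2_c28 LD3_c25)) :=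
  Lre_f IH (LK LD1_c2 LD2_c40 LD3_c31) (LK LD1_c5 LD2_c28 LD3_c25) Lrfl Lrfl
theorem f278978 : Led Lsl_af (LP (LK LD1_c8 LD2_c53 LD3_c26)) = (LP (LK LD1_c5 LD2_c28 LD3_c25)) :=
  Lgr Lrot45 (Lpr_ft (f278959 IH) (Lpr_at (f278968 IH) (Lpr_ft (f7822 IH) (Lpn (LP (LK LD1_c5 LD2_c28 LD3_c25))))))
theorem f278982 : Led Lsl_ct (LP (LK LD1_c8 LD2_c53 LD3_c26)) = (LP (LK LD1_c16 LD2_c37 LD3_c22)) :=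
  Lre_c IH (LK LD1_c8 LD2_c53 LD3_c26) (LK LD1_c16 LD2_c37 LD3_c22) Lrfl Lrfl
theorem f7802 : Led Lsl_ct (LP (LK LD1_c10 LD2_c47 LD3_c53)) = (LP (LK LD1_c5 LD2_c28 LD3_c25)) :=
  Lre_c IH (LK LD1_c10 LD2_c47 LD3_c53) (LK LD1_c5 LD2_c28 LD3_c25) Lrfl Lrfl
theorem f278995 : Led Lsl_at (LP (LK LD1_c16 LD2_c37 LD3_c22)) = (LP (LK LD1_c10 LD2_c47 LD3_c53)) :=
  Lgr Lrot107 (Lpe (f278982 IH) (Lpr_af (f278978 IH) (Lpe (f7802 IH) (Lpn (LP (LK LD1_c10 LD2_c47 LD3_c53))))))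
theorem f278999 : Led Lsl_dt (LP (LK LD1_c26 LD2_c34 LD3_c41)) = (LP (LK LD1_c16 LD2_c37 LD3_c22)) :=
  Lre_d IH (LK LD1_c26 LD2_c34 LD3_c41) (LK LD1_c16 LD2_c37 LD3_c22) Lrfl Lrfl
theorem f7791 : Led Lsl_dt (LP (LK LD1_c10 LD2_c47 LD3_c53)) = (LP (LK LD1_c19 LD2_c32 LD3_c1)) :=
  Lre_d IH (LK LD1_c10 LD2_c47 LD3_c53) (LK LD1_c19 LD2_c32 LD3_c1) Lrfl Lrfl
theorem f279012 : Led Lsl_af (LP (LK LD1_c26 LD2_c34 LD3_c41)) = (LP (LK LD1_c19 LD2_c32 LD3_c1)) :=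
  Lgr Lrot117 (Lpr_dt (f278999 IH) (Lpr_at (f278995 IH) (Lpr_dt (f7791 IH) (Lpn (LP (LK LD1_c19 LD2_c32 LD3_c1))))))
theorem f279027 : Led Lsl_ft (LP (LK LD1_c26 LD2_c34 LD3_c41)) = (LP (LK LD1_c16 LD2_c37 LD3_c21)) :=
  Lre_f IH (LK LD1_c26 LD2_c34 LD3_c41) (LK LD1_c16 LD2_c37 LD3_c21) Lrfl Lrfl
theorem f7821 : Led Lsl_ft (LP (LK LD1_c10 LD2_c47 LD3_c52)) = (LP (LK LD1_c19 LD2_c32 LD3_c1)) :=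
  Lre_f IH (LK LD1_c10 LD2_c47 LD3_c52) (LK LD1_c19 LD2_c32 LD3_c1) Lrfl Lrfl
theorem f279028 : Led Lsl_at (LP (LK LD1_c16 LD2_c37 LD3_c21)) = (LP (LK LD1_c10 LD2_c47 LD3_c52)) :=
  Lgr Lrot66 (Lpe (f279027 IH) (Lpr_af (f279012 IH) (Lpe (f7821 IH) (Lpn (LP (LK LD1_c10 LD2_c47 LD3_c52))))))
theorem f279038 : Led Lsl_et (LP (LK LD1_c26 LD2_c34 LD3_c37)) = (LP (LK LD1_c16 LD2_c37 LD3_c21)) :=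
  Lre_e IH (LK LD1_c26 LD2_c34 LD3_c37) (LK LD1_c16 LD2_c37 LD3_c21) Lrfl Lrfl
theorem f279039 : Led Lsl_et (LP (LK LD1_c10 LD2_c47 LD3_c52)) = (LP (LK LD1_c19 LD2_c31 LD3_c54)) :=
  Lre_e IH (LK LD1_c10 LD2_c47 LD3_c52) (LK LD1_c19 LD2_c31 LD3_c54) Lrfl Lrfl
theorem f279040 : Led Lsl_af (LP (LK LD1_c26 LD2_c34 LD3_c37)) = (LP (LK LD1_c19 LD2_c31 LD3_c54)) :=
  Lgr Lrot50 (Lpr_et (f279038 IH) (Lpr_at (f279028 IH) (Lpr_et (f279039 IH) (Lpn (LP (LK LD1_c19 LD2_c31 LD3_c54))))))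
theorem f279050 : Led Lsl_dt (LP (LK LD1_c26 LD2_c34 LD3_c37)) = (LP (LK LD1_c16 LD2_c37 LD3_c18)) :=
  Lre_d IH (LK LD1_c26 LD2_c34 LD3_c37) (LK LD1_c16 LD2_c37 LD3_c18) Lrfl Lrfl
theorem f278828 : Led Lsl_dt (LP (LK LD1_c10 LD2_c47 LD3_c49)) = (LP (LK LD1_c19 LD2_c31 LD3_c54)) :=
  Lre_d IH (LK LD1_c10 LD2_c47 LD3_c49) (LK LD1_c19 LD2_c31 LD3_c54) Lrfl Lrfl
theorem f279051 : Led Lsl_at (LP (LK LD1_c16 LD2_c37 LD3_c18)) = (LP (LK LD1_c10 LD2_c47 LD3_c49)) :=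
  Lgr Lrot51 (Lpe (f279050 IH) (Lpr_af (f279040 IH) (Lpe (f278828 IH) (Lpn (LP (LK LD1_c10 LD2_c47 LD3_c49))))))
theorem f279057 : Led Lsl_bt (LP (LK LD1_c26 LD2_c34 LD3_c31)) = (LP (LK LD1_c16 LD2_c37 LD3_c18)) :=
  Lre_b IH (LK LD1_c26 LD2_c34 LD3_c31) (LK LD1_c16 LD2_c37 LD3_c18) Lrfl Lrfl
theorem f279058 : Led Lsl_at (LP (LK LD1_c32 LD2_c11 LD3_c5)) = (LP (LK LD1_c26 LD2_c34 LD3_c31)) :=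
  Lre_a IH (LK LD1_c32 LD2_c11 LD3_c5) (LK LD1_c26 LD2_c34 LD3_c31) Lrfl Lrfl
theorem f279059 : Led Lsl_bt (LP (LK LD1_c10 LD2_c47 LD3_c49)) = (LP (LK LD1_c19 LD2_c31 LD3_c47)) :=
  Lre_b IH (LK LD1_c10 LD2_c47 LD3_c49) (LK LD1_c19 LD2_c31 LD3_c47) Lrfl Lrfl
theorem f279060 : Led Lsl_at (LP (LK LD1_c19 LD2_c31 LD3_c47)) = (LP (LK LD1_c28 LD2_c54 LD3_c14)) :=
  Lre_a IH (LK LD1_c19 LD2_c31 LD3_c47) (LK LD1_c28 LD2_c54 LD3_c14) Lrfl Lrfl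
theorem f279061 : Led Lsl_bf (LP (LK LD1_c32 LD2_c11 LD3_c5)) = (LP (LK LD1_c28 LD2_c54 LD3_c14)) :=
  Lgr Lrot81 (Lpr_at (f279058 IH) (Lpr_bt (f279057 IH) (Lpr_at (f279051 IH) (Lpr_bt (f279059 IH) (Lpr_at (f279060 IH) (Lpn (LP (LK LD1_c28 LD2_c54 LD3_c14))))))))
theorem f279080 : Led Lsl_et (LP (LK LD1_c32 LD2_c11 LD3_c5)) = (LP (LK LD1_c26 LD2_c34 LD3_c29)) :=
  Lre_e IH (LK LD1_c32 LD2_c11 LD3_c5) (LK LD1_c26 LD2_c34 LD3_c29) Lrfl Lrfl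
theorem f279081 : Led Lsl_et (LP (LK LD1_c19 LD2_c31 LD3_c44)) = (LP (LK LD1_c28 LD2_c54 LD3_c14)) :=
  Lre_e IH (LK LD1_c19 LD2_c31 LD3_c44) (LK LD1_c28 LD2_c54 LD3_c14) Lrfl Lrfl
theorem f279082 : Led Lsl_bt (LP (LK LD1_c26 LD2_c34 LD3_c29)) = (LP (LK LD1_c19 LD2_c31 LD3_c44)) :=
  Lgr Lrot119 (Lpe (f279080 IH) (Lpr_bf (f279061 IH) (Lpe (f279081 IH) (Lpn (LP (LK LD1_c19 LD2_c31 LD3_c44))))))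
theorem f279089 : Led Lsl_dt (LP (LK LD1_c16 LD2_c37 LD3_c15)) = (LP (LK LD1_c26 LD2_c34 LD3_c29)) :=
  Lre_d IH (LK LD1_c16 LD2_c37 LD3_c15) (LK LD1_c26 LD2_c34 LD3_c29) Lrfl Lrfl
theorem f279090 : Led Lsl_dt (LP (LK LD1_c19 LD2_c31 LD3_c44)) = (LP (LK LD1_c10 LD2_c47 LD3_c46)) :=
  Lre_d IH (LK LD1_c19 LD2_c31 LD3_c44) (LK LD1_c10 LD2_c47 LD3_c46) Lrfl Lrfl
theorem f279091 : Led Lsl_bf (LP (LK LD1_c16 LD2_c37 LD3_c15)) = (LP (LK LD1_c10 LD2_c47 LD3_c46)) :=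
  Lgr Lrot93 (Lpr_dt (f279089 IH) (Lpr_bt (f279082 IH) (Lpr_dt (f279090 IH) (Lpn (LP (LK LD1_c10 LD2_c47 LD3_c46))))))
theorem f279098 : Led Lsl_et (LP (LK LD1_c16 LD2_c37 LD3_c15)) = (LP (LK LD1_c26 LD2_c34 LD3_c30)) :=
  Lre_e IH (LK LD1_c16 LD2_c37 LD3_c15) (LK LD1_c26 LD2_c34 LD3_c30) Lrfl Lrfl
theorem f279099 : Led Lsl_et (LP (LK LD1_c19 LD2_c31 LD3_c45)) = (LP (LK LD1_c10 LD2_c47 LD3_c46)) :=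
  Lre_e IH (LK LD1_c19 LD2_c31 LD3_c45) (LK LD1_c10 LD2_c47 LD3_c46) Lrfl Lrfl
theorem f279100 : Led Lsl_bt (LP (LK LD1_c26 LD2_c34 LD3_c30)) = (LP (LK LD1_c19 LD2_c31 LD3_c45)) :=
  Lgr Lrot119 (Lpe (f279098 IH) (Lpr_bf (f279091 IH) (Lpe (f279099 IH) (Lpn (LP (LK LD1_c19 LD2_c31 LD3_c45))))))
theorem f279108 : Led Lsl_bf (LP (LK LD1_c26 LD2_c34 LD3_c30)) = (LP (LK LD1_c19 LD2_c31 LD3_c45)) :=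
  Lgr Lrot24 (Lpr_bt (f279100 IH) (Lpn (LP (LK LD1_c19 LD2_c31 LD3_c45))))
theorem f279115 : Led Lsl_at (LP (LK LD1_c26 LD2_c34 LD3_c30)) = (LP (LK LD1_c16 LD2_c37 LD3_c17)) :=
  Lre_a IH (LK LD1_c26 LD2_c34 LD3_c30) (LK LD1_c16 LD2_c37 LD3_c17) Lrfl Lrfl
theorem f279116 : Led Lsl_bt (LP (LK LD1_c16 LD2_c37 LD3_c17)) = (LP (LK LD1_c8 LD2_c53 LD3_c23)) :=
  Lre_b IH (LK LD1_c16 LD2_c37 LD3_c17) (LK LD1_c8 LD2_c53 LD3_c23) Lrfl Lrfl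
theorem f279117 : Led Lsl_at (LP (LK LD1_c10 LD2_c47 LD3_c48)) = (LP (LK LD1_c19 LD2_c31 LD3_c45)) :=
  Lre_a IH (LK LD1_c10 LD2_c47 LD3_c48) (LK LD1_c19 LD2_c31 LD3_c45) Lrfl Lrfl
theorem f7871 : Led Lsl_bt (LP (LK LD1_c5 LD2_c28 LD3_c22)) = (LP (LK LD1_c10 LD2_c47 LD3_c48)) :=
  Lre_b IH (LK LD1_c5 LD2_c28 LD3_c22) (LK LD1_c10 LD2_c47 LD3_c48) Lrfl Lrfl
theorem f279118 : Led Lsl_at (LP (LK LD1_c8 LD2_c53 LD3_c23)) = (LP (LK LD1_c5 LD2_c28 LD3_c22)) :=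
  Lgr Lrot67 (Lpe (f279116 IH) (Lpe (f279115 IH) (Lpr_bf (f279108 IH) (Lpe (f279117 IH) (Lpe (f7871 IH) (Lpn (LP (LK LD1_c5 LD2_c28 LD3_c22))))))))
theorem f279131 : Led Lsl_et (LP (LK LD1_c4 LD2_c27 LD3_c46)) = (LP (LK LD1_c8 LD2_c53 LD3_c23)) :=
  Lre_e IH (LK LD1_c4 LD2_c27 LD3_c46) (LK LD1_c8 LD2_c53 LD3_c23) Lrfl Lrfl
theorem f274891 : Led Lsl_et (LP (LK LD1_c5 LD2_c28 LD3_c22)) = (LP (LK LD1_c2 LD2_c40 LD3_c30)) :=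
  Lre_e IH (LK LD1_c5 LD2_c28 LD3_c22) (LK LD1_c2 LD2_c40 LD3_c30) Lrfl Lrfl
theorem f279132 : Led Lsl_af (LP (LK LD1_c4 LD2_c27 LD3_c46)) = (LP (LK LD1_c2 LD2_c40 LD3_c30)) :=
  Lgr Lrot50 (Lpr_et (f279131 IH) (Lpr_at (f279118 IH) (Lpr_et (f274891 IH) (Lpn (LP (LK LD1_c2 LD2_c40 LD3_c30))))))
theorem f279145 : Led Lsl_ft (LP (LK LD1_c4 LD2_c27 LD3_c48)) = (LP (LK LD1_c2 LD2_c40 LD3_c30)) :=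
  Lgr Lrot101 (Lpr_af (f278834 IH) (Lpe (f278844 IH) (Lpr_af (f279132 IH) (Lpn (LP (LK LD1_c2 LD2_c40 LD3_c30))))))
theorem f279147 : Led Lsl_gf (LP (LK LD1_c4 LD2_c27 LD3_c46)) = (LP (LK LD1_c8 LD2_c39 LD3_c51)) :=
  Lgr Lrot76 (Lpr_af (f279132 IH) (Lpe (f279145 IH) (Lpe (K14.f191890 IH) (Lpn (LP (LK LD1_c8 LD2_c39 LD3_c51))))))
theorem f219721 : Led Lsl_ct (LP (LK LD1_c4 LD2_c27 LD3_c46)) = (LP (LK LD1_c2 LD2_c11 LD3_c3)) :=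
  Lre_c IH (LK LD1_c4 LD2_c27 LD3_c46) (LK LD1_c2 LD2_c11 LD3_c3) Lrfl Lrfl
theorem f267126 : Led Lsl_dt (LP (LK LD1_c2 LD2_c11 LD3_c10)) = (LP (LK LD1_c4 LD2_c27 LD3_c61)) :=
  Lre_d IH (LK LD1_c2 LD2_c11 LD3_c10) (LK LD1_c4 LD2_c27 LD3_c61) Lrfl Lrfl
theorem f191919 : Led Lsl_ct (LP (LK LD1_c2 LD2_c11 LD3_c10)) = (LP (LK LD1_c1 LD2_c2 LD3_c36)) :=
  Lre_c IH (LK LD1_c2 LD2_c11 LD3_c10) (LK LD1_c1 LD2_c2 LD3_c36) Lrfl Lrfl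
theorem f267098 : Led Lsl_dt (LP (LK LD1_c4 LD2_c27 LD3_c61)) = (LP (LK LD1_c2 LD2_c11 LD3_c10)) :=
  Lre_d IH (LK LD1_c4 LD2_c27 LD3_c61) (LK LD1_c2 LD2_c11 LD3_c10) Lrfl Lrfl
theorem f267099 : Led Lsl_dt (LP (LK LD1_c4 LD2_c12 LD3_c14)) = (LP (LK LD1_c8 LD2_c24 LD3_c4)) :=
  Lre_d IH (LK LD1_c4 LD2_c12 LD3_c14) (LK LD1_c8 LD2_c24 LD3_c4) Lrfl Lrfl
theorem f267100 : Led Lsl_cf (LP (LK LD1_c4 LD2_c27 LD3_c61)) = (LP (LK LD1_c8 LD2_c24 LD3_c4)) :=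
  Lgr Lrot55 (Lpr_dt (f267098 IH) (Lpr_ct (f191919 IH) (Lpr_dt (K15.f191904 IH) (Lpe (K15.f260792 IH) (Lpr_dt (K12.f189114 IH) (Lpr_ct (K15.f179546 IH) (Lpr_dt (K15.f260788 IH) (Lpr_ct (K15.f267091 IH) (Lpr_dt (K15.f254897 IH) (Lpr_ct (K15.f254898 IH) (Lpr_dt (K14.f41726 IH) (Lpr_ct (K15.f256788 IH) (Lpr_dt (K15.f166904 IH) (Lpr_ct (K15.f260912 IH) (Lpr_dt (f267099 IH) (Lpn (LP (LK LD1_c8 LD2_c24 LD3_c4))))))))))))))))))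
theorem f279153 : Led Lsl_gf (LP (LK LD1_c8 LD2_c24 LD3_c4)) = (LP (LK LD1_c4 LD2_c21 LD3_c15)) :=
  Lgr Lrot104 (Lpe (f267100 IH) (Lpe (f267126 IH) (Lpe (f168605 IH) (Lpr_gf (f278524 IH) (Lpe (f219721 IH) (Lpr_gf (f279147 IH) (Lpr_df (K14.f191831 IH) (Lpr_gt (K14.f191854 IH) (Lpr_ct (K15.f191855 IH) (Lpn (LP (LK LD1_c4 LD2_c21 LD3_c15))))))))))))
theorem f260911 : Led Lsl_dt (LP (LK LD1_c8 LD2_c24 LD3_c4)) = (LP (LK LD1_c4 LD2_c12 LD3_c14)) :=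
  Lre_d IH (LK LD1_c8 LD2_c24 LD3_c4) (LK LD1_c4 LD2_c12 LD3_c14) Lrfl Lrfl
theorem f279180 : Led Lsl_gt (LP (LK LD1_c2 LD2_c23 LD3_c56)) = (LP (LK LD1_c2 LD2_c8 LD3_c8)) :=
  Lgr Lrot94 (Lpe (f2863 IH) (Lpr_gt (f270906 IH) (Lpr_dt (f53650 IH) (Lpr_gt (K15.f260908 IH) (Lpr_dt (K15.f166904 IH) (Lpe (K15.f260910 IH) (Lpe (f260911 IH) (Lpr_gf (f279153 IH) (Lpe (K12.f219619 IH) (Lpn (LP (LK LD1_c2 LD2_c8 LD3_c8))))))))))))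
theorem f219592 : Led Lsl_ct (LP (LK LD1_c2 LD2_c8 LD3_c8)) = (LP (LK LD1_c1 LD2_c1 LD3_c12)) :=
  Lre_c IH (LK LD1_c2 LD2_c8 LD3_c8) (LK LD1_c1 LD2_c1 LD3_c12) Lrfl Lrfl
theorem f216824 : Led Lsl_ct (LP (LK LD1_c0 LD2_c27 LD3_c35)) = (LP (LK LD1_c0 LD2_c28 LD3_c32)) :=
  Lgr Lrot64 (Lpr_bt (K15.f179840 IH) (Lpr_gf (K12.f179554 IH) (Lpe (K10.f2425 IH) (Lpr_ct (K0.f6935 IH) (Lpe (K9.f182320 IH) (Lpr_cf (K12.f216808 IH) (Lpe (K12.f177899 IH) (Lpe (K9.f42013 IH) (Lpr_ct (K12.f211432 IH) (Lpe (K11.f187223 IH) (Lpn (LP (LK LD1_c0 LD2_c28 LD3_c32)))))))))))))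
theorem f278181 : Led Lsl_gt (LP (LK LD1_c1 LD2_c0 LD3_c36)) = (LP (LK LD1_c0 LD2_c27 LD3_c35)) :=
  Lre_g IH (LK LD1_c1 LD2_c0 LD3_c36) (LK LD1_c0 LD2_c27 LD3_c35) Lrfl Lrfl
theorem f279195 : Led Lsl_dt (LP (LK LD1_c2 LD2_c7 LD3_c6)) = (LP (LK LD1_c1 LD2_c0 LD3_c36)) :=
  Lre_d IH (LK LD1_c2 LD2_c7 LD3_c6) (LK LD1_c1 LD2_c0 LD3_c36) Lrfl Lrfl
theorem f279196 : Led Lsl_gf (LP (LK LD1_c1 LD2_c8 LD3_c61)) = (LP (LK LD1_c2 LD2_c7 LD3_c6)) :=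
  Lgr Lrot147 (Lpr_ct (f2863 IH) (Lpr_gt (f279180 IH) (Lpr_ct (f219592 IH) (Lpe (K12.f31029 IH) (Lpe (K10.f173186 IH) (Lpe (K11.f187223 IH) (Lpe (f216824 IH) (Lpe (f278181 IH) (Lpe (f279195 IH) (Lpn (LP (LK LD1_c2 LD2_c7 LD3_c6))))))))))))
theorem f223562 : Led Lsl_ef (LP (LK LD1_c4 LD2_c28 LD3_c20)) = (LP (LK LD1_c2 LD2_c31 LD3_c53)) :=
  Lgr Lrot88 (Lpr_et (K15.f223558 IH) (Lpn (LP (LK LD1_c2 LD2_c31 LD3_c53))))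
theorem f253443 : Led Lsl_dt (LP (LK LD1_c1 LD2_c2 LD3_c39)) = (LP (LK LD1_c2 LD2_c6 LD3_c4)) :=
  Lgr Lrot77 (Lpe (K15.f41556 IH) (Lpe (K15.f42321 IH) (Lpr_ef (f223562 IH) (Lpe (K9.f183912 IH) (Lpr_ef (K14.f253434 IH) (Lpn (LP (LK LD1_c2 LD2_c6 LD3_c4))))))))
theorem f279198 : Led Lsl_dt (LP (LK LD1_c1 LD2_c0 LD3_c36)) = (LP (LK LD1_c2 LD2_c7 LD3_c6)) :=
  Lre_d IH (LK LD1_c1 LD2_c0 LD3_c36) (LK LD1_c2 LD2_c7 LD3_c6) Lrfl Lrfl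
theorem f279256 : Led Lsl_gt (LP (LK LD1_c0 LD2_c58 LD3_c39)) = (LP (LK LD1_c1 LD2_c0 LD3_c36)) :=
  Lgr Lrot94 (Lpe (K15.f256788 IH) (Lpr_gt (K14.f41725 IH) (Lpr_dt (K14.f41549 IH) (Lpr_gt (K12.f41555 IH) (Lpr_dt (f253443 IH) (Lpe (K14.f253249 IH) (Lpe (f270917 IH) (Lpr_gf (f279196 IH) (Lpe (f279198 IH) (Lpn (LP (LK LD1_c1 LD2_c0 LD3_c36))))))))))))
theorem f279261 : Led Lsl_ef (LP (LK LD1_c1 LD2_c0 LD3_c36)) = (LP (LK LD1_c1 LD2_c0 LD3_c36)) :=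
  Lgr Lrot17 (Lpe (f279256 IH) (Lpe (K15.f166905 IH) (Lpe (K14.f166900 IH) (Lpr_gf (K14.f249618 IH) (Lpe (K13.f171649 IH) (Lpe (K10.f171520 IH) (Lpr_ef (f253447 IH) (Lpe (f270912 IH) (Lpr_gf (f279196 IH) (Lpe (f279198 IH) (Lpn (LP (LK LD1_c1 LD2_c0 LD3_c36)))))))))))))
theorem f279267 : Led Lsl_et (LP (LK LD1_c2 LD2_c7 LD3_c6)) = (LP (LK LD1_c4 LD2_c19 LD3_c23)) :=
  Lre_e IH (LK LD1_c2 LD2_c7 LD3_c6) (LK LD1_c4 LD2_c19 LD3_c23) Lrfl Lrfl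
theorem f279260 : Led Lsl_et (LP (LK LD1_c4 LD2_c19 LD3_c23)) = (LP (LK LD1_c2 LD2_c7 LD3_c6)) :=
  Lre_e IH (LK LD1_c4 LD2_c19 LD3_c23) (LK LD1_c2 LD2_c7 LD3_c6) Lrfl Lrfl
theorem f279268 : Led Lsl_dt (LP (LK LD1_c4 LD2_c19 LD3_c23)) = (LP (LK LD1_c4 LD2_c19 LD3_c23)) :=
  Lgr Lrot77 (Lpe (f279267 IH) (Lpe (f279198 IH) (Lpr_ef (f279261 IH) (Lpe (f279195 IH) (Lpe (f279260 IH) (Lpn (LP (LK LD1_c4 LD2_c19 LD3_c23))))))))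
theorem f167128 : Led Lsl_gt (LP (LK LD1_c4 LD2_c12 LD3_c20)) = (LP (LK LD1_c8 LD2_c24 LD3_c13)) :=
  Lre_g IH (LK LD1_c4 LD2_c12 LD3_c20) (LK LD1_c8 LD2_c24 LD3_c13) Lrfl Lrfl
theorem f278182 : Led Lsl_et (LP (LK LD1_c15 LD2_c48 LD3_c6)) = (LP (LK LD1_c8 LD2_c24 LD3_c13)) :=
  Lre_e IH (LK LD1_c15 LD2_c48 LD3_c6) (LK LD1_c8 LD2_c24 LD3_c13) Lrfl Lrfl
theorem f226845 : Led Lsl_et (LP (LK LD1_c4 LD2_c19 LD3_c39)) = (LP (LK LD1_c2 LD2_c7 LD3_c15)) :=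
  Lre_e IH (LK LD1_c4 LD2_c19 LD3_c39) (LK LD1_c2 LD2_c7 LD3_c15) Lrfl Lrfl
theorem f226846 : Led Lsl_dt (LP (LK LD1_c4 LD2_c19 LD3_c39)) = (LP (LK LD1_c2 LD2_c7 LD3_c12)) :=
  Lre_d IH (LK LD1_c4 LD2_c19 LD3_c39) (LK LD1_c2 LD2_c7 LD3_c12) Lrfl Lrfl
theorem f47902 : Led Lsl_et (LP (LK LD1_c8 LD2_c13 LD3_c5)) = (LP (LK LD1_c4 LD2_c6 LD3_c14)) :=
  Lre_e IH (LK LD1_c8 LD2_c13 LD3_c5) (LK LD1_c4 LD2_c6 LD3_c14) Lrfl Lrfl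
theorem f222002 : Led Lsl_df (LP (LK LD1_c4 LD2_c13 LD3_c23)) = (LP (LK LD1_c4 LD2_c6 LD3_c14)) :=
  Lgr Lrot38 (Lpr_dt (K14.f222000 IH) (Lpn (LP (LK LD1_c4 LD2_c6 LD3_c14))))
theorem f250772 : Led Lsl_et (LP (LK LD1_c2 LD2_c6 LD3_c40)) = (LP (LK LD1_c4 LD2_c18 LD3_c46)) :=
  Lre_e IH (LK LD1_c2 LD2_c6 LD3_c40) (LK LD1_c4 LD2_c18 LD3_c46) Lrfl Lrfl
theorem f251689 : Led Lsl_df (LP (LK LD1_c8 LD2_c13 LD3_c5)) = (LP (LK LD1_c4 LD2_c18 LD3_c46)) :=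
  Lgr Lrot70 (Lpr_et (f47902 IH) (Lpe (f222002 IH) (Lpr_et (K14.f166627 IH) (Lpr_dt (K14.f251683 IH) (Lpr_et (f250772 IH) (Lpn (LP (LK LD1_c4 LD2_c18 LD3_c46))))))))
theorem f251695 : Led Lsl_dt (LP (LK LD1_c8 LD2_c13 LD3_c5)) = (LP (LK LD1_c4 LD2_c18 LD3_c46)) :=
  Lgr Lrot42 (Lpr_df (f251689 IH) (Lpn (LP (LK LD1_c4 LD2_c18 LD3_c46))))
theorem f278175 : Led Lsl_gf (LP (LK LD1_c2 LD2_c7 LD3_c12)) = (LP (LK LD1_c4 LD2_c18 LD3_c46)) :=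
  Lgr Lrot145 (Lpe (f226846 IH) (Lpr_et (f226845 IH) (Lpr_gt (f278157 IH) (Lpr_dt (K14.f41972 IH) (Lpr_gt (K14.f41276 IH) (Lpe (K1.f41906 IH) (Lpr_et (K10.f54521 IH) (Lpr_gt (K10.f55007 IH) (Lpe (f47902 IH) (Lpr_dt (f251695 IH) (Lpn (LP (LK LD1_c4 LD2_c18 LD3_c46)))))))))))))
theorem f191407 : Led Lsl_gt (LP (LK LD1_c15 LD2_c27 LD3_c33)) = (LP (LK LD1_c8 LD2_c13 LD3_c5)) :=
  Lre_g IH (LK LD1_c15 LD2_c27 LD3_c33) (LK LD1_c8 LD2_c13 LD3_c5) Lrfl Lrfl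
theorem f246758 : Led Lsl_dt (LP (LK LD1_c15 LD2_c48 LD3_c5)) = (LP (LK LD1_c8 LD2_c24 LD3_c13)) :=
  Lre_d IH (LK LD1_c15 LD2_c48 LD3_c5) (LK LD1_c8 LD2_c24 LD3_c13) Lrfl Lrfl
theorem f278179 : Led Lsl_ef (LP (LK LD1_c15 LD2_c27 LD3_c33)) = (LP (LK LD1_c15 LD2_c48 LD3_c5)) :=
  Lgr Lrot167 (Lpr_gt (f191407 IH) (Lpr_dt (f251695 IH) (Lpe (f278175 IH) (Lpe (f226846 IH) (Lpr_et (f226845 IH) (Lpr_gt (f278157 IH) (Lpe (K14.f171924 IH) (Lpr_dt (K14.f246747 IH) (Lpr_gt (f167128 IH) (Lpe (f246758 IH) (Lpn (LP (LK LD1_c15 LD2_c48 LD3_c5)))))))))))))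
theorem f278185 : Led Lsl_et (LP (LK LD1_c15 LD2_c27 LD3_c33)) = (LP (LK LD1_c15 LD2_c48 LD3_c5)) :=
  Lgr Lrot87 (Lpr_ef (f278179 IH) (Lpn (LP (LK LD1_c15 LD2_c48 LD3_c5))))
theorem f171509 : Led Lsl_et (LP (LK LD1_c4 LD2_c18 LD3_c46)) = (LP (LK LD1_c2 LD2_c6 LD3_c40)) :=
  Lre_e IH (LK LD1_c4 LD2_c18 LD3_c46) (LK LD1_c2 LD2_c6 LD3_c40) Lrfl Lrfl
theorem f188792 : Led Lsl_gt (LP (LK LD1_c4 LD2_c18 LD3_c38)) = (LP (LK LD1_c8 LD2_c35 LD3_c59)) :=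
  Lre_g IH (LK LD1_c4 LD2_c18 LD3_c38) (LK LD1_c8 LD2_c35 LD3_c59) Lrfl Lrfl
theorem f251699 : Led Lsl_et (LP (LK LD1_c16 LD2_c7 LD3_c17)) = (LP (LK LD1_c8 LD2_c35 LD3_c59)) :=
  Lre_e IH (LK LD1_c16 LD2_c7 LD3_c17) (LK LD1_c8 LD2_c35 LD3_c59) Lrfl Lrfl
theorem f251700 : Led Lsl_df (LP (LK LD1_c15 LD2_c27 LD3_c33)) = (LP (LK LD1_c16 LD2_c7 LD3_c17)) :=
  Lgr Lrot170 (Lpr_gt (f191407 IH) (Lpr_df (f251689 IH) (Lpr_et (f171509 IH) (Lpr_gt (K14.f171508 IH) (Lpr_dt (K12.f171436 IH) (Lpr_gt (K10.f171482 IH) (Lpe (K12.f188770 IH) (Lpr_et (K12.f188783 IH) (Lpr_gt (f188792 IH) (Lpe (f251699 IH) (Lpn (LP (LK LD1_c16 LD2_c7 LD3_c17)))))))))))))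
theorem f251704 : Led Lsl_et (LP (LK LD1_c8 LD2_c35 LD3_c59)) = (LP (LK LD1_c16 LD2_c7 LD3_c17)) :=
  Lre_e IH (LK LD1_c8 LD2_c35 LD3_c59) (LK LD1_c16 LD2_c7 LD3_c17) Lrfl Lrfl
theorem f278187 : Led Lsl_et (LP (LK LD1_c8 LD2_c24 LD3_c13)) = (LP (LK LD1_c15 LD2_c48 LD3_c6)) :=
  Lre_e IH (LK LD1_c8 LD2_c24 LD3_c13) (LK LD1_c15 LD2_c48 LD3_c6) Lrfl Lrfl
theorem f278188 : Led Lsl_df (LP (LK LD1_c8 LD2_c35 LD3_c59)) = (LP (LK LD1_c15 LD2_c48 LD3_c6)) :=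
  Lgr Lrot70 (Lpr_et (f251704 IH) (Lpe (f251700 IH) (Lpr_et (f278185 IH) (Lpr_dt (f246758 IH) (Lpr_et (f278187 IH) (Lpn (LP (LK LD1_c15 LD2_c48 LD3_c6))))))))
theorem f279272 : Led Lsl_gt (LP (LK LD1_c8 LD2_c35 LD3_c59)) = (LP (LK LD1_c4 LD2_c19 LD3_c23)) :=
  Lgr Lrot112 (Lpr_df (f278188 IH) (Lpr_et (f278182 IH) (Lpe (f167128 IH) (Lpe (K14.f246739 IH) (Lpe (K15.f246737 IH) (Lpe (K14.f170291 IH) (Lpe (f270917 IH) (Lpr_gf (f279196 IH) (Lpe (f279260 IH) (Lpr_dt (f279268 IH) (Lpn (LP (LK LD1_c4 LD2_c19 LD3_c23)))))))))))))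
theorem f279274 : Led Lsl_at (LP (LK LD1_c4 LD2_c12 LD3_c13)) = (LP (LK LD1_c4 LD2_c19 LD3_c23)) :=
  Lgr Lrot26 (Lpe (K12.f219423 IH) (Lpr_gt (f188792 IH) (Lpr_gt (f279272 IH) (Lpn (LP (LK LD1_c4 LD2_c19 LD3_c23))))))
theorem f279283 : Led Lsl_ff (LP (LK LD1_c4 LD2_c12 LD3_c57)) = (LP (LK LD1_c4 LD2_c19 LD3_c23)) :=
  Lgr Lrot30 (Lpr_at (K12.f222839 IH) (Lpr_ft (K12.f219423 IH) (Lpr_at (f279274 IH) (Lpn (LP (LK LD1_c4 LD2_c19 LD3_c23))))))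
theorem f167254 : Led Lsl_et (LP (LK LD1_c4 LD2_c12 LD3_c57)) = (LP (LK LD1_c2 LD2_c3 LD3_c45)) :=
  Lre_e IH (LK LD1_c4 LD2_c12 LD3_c57) (LK LD1_c2 LD2_c3 LD3_c45) Lrfl Lrfl
theorem f279289 : Led Lsl_ft (LP (LK LD1_c1 LD2_c59 LD3_c39)) = (LP (LK LD1_c2 LD2_c7 LD3_c6)) :=
  Lgr Lrot86 (Lpe (K12.f53979 IH) (Lpe (K12.f221996 IH) (Lpe (f167254 IH) (Lpr_ff (f279283 IH) (Lpe (f279267 IH) (Lpn (LP (LK LD1_c2 LD2_c7 LD3_c6))))))))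
theorem f279293 : Led Lsl_ff (LP (LK LD1_c0 LD2_c56 LD3_c46)) = (LP (LK LD1_c1 LD2_c0 LD3_c36)) :=
  Lgr Lrot19 (Lpr_dt (K12.f47957 IH) (Lpr_ft (f279289 IH) (Lpr_dt (f279195 IH) (Lpn (LP (LK LD1_c1 LD2_c0 LD3_c36))))))
theorem f279299 : Led Lsl_ft (LP (LK LD1_c0 LD2_c56 LD3_c46)) = (LP (LK LD1_c1 LD2_c0 LD3_c36)) :=
  Lgr Lrot86 (Lpe (K10.f44582 IH) (Lpe (K8.f47985 IH) (Lpe (K10.f47956 IH) (Lpr_ff (f279293 IH) (Lpr_ef (f279261 IH) (Lpn (LP (LK LD1_c1 LD2_c0 LD3_c36))))))))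
theorem f279263 : Led Lsl_ct (LP (LK LD1_c1 LD2_c0 LD3_c36)) = (LP (LK LD1_c2 LD2_c7 LD3_c5)) :=
  Lre_c IH (LK LD1_c1 LD2_c0 LD3_c36) (LK LD1_c2 LD2_c7 LD3_c5) Lrfl Lrfl
theorem f279304 : Led Lsl_ff (LP (LK LD1_c1 LD2_c11 LD3_c14)) = (LP (LK LD1_c2 LD2_c7 LD3_c5)) :=
  Lgr Lrot23 (Lpr_ct (K10.f53956 IH) (Lpr_ft (f279299 IH) (Lpr_ct (f279263 IH) (Lpn (LP (LK LD1_c2 LD2_c7 LD3_c5))))))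
theorem f279313 : Led Lsl_gf (LP (LK LD1_c2 LD2_c4 LD3_c24)) = (LP (LK LD1_c2 LD2_c7 LD3_c5)) :=
  Lgr Lrot47 (Lpe (f260918 IH) (Lpr_af (K9.f53630 IH) (Lpr_ff (f279304 IH) (Lpn (LP (LK LD1_c2 LD2_c7 LD3_c5))))))
theorem f260953 : Led Lsl_et (LP (LK LD1_c25 LD2_c19 LD3_c39)) = (LP (LK LD1_c15 LD2_c51 LD3_c26)) :=
  Lgr Lrot87 (Lpr_ef (f260951 IH) (Lpn (LP (LK LD1_c15 LD2_c51 LD3_c26))))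
theorem f279310 : Led Lsl_dt (LP (LK LD1_c4 LD2_c19 LD3_c21)) = (LP (LK LD1_c2 LD2_c7 LD3_c5)) :=
  Lre_d IH (LK LD1_c4 LD2_c19 LD3_c21) (LK LD1_c2 LD2_c7 LD3_c5) Lrfl Lrfl
theorem f260936 : Led Lsl_dt (LP (LK LD1_c2 LD2_c4 LD3_c24)) = (LP (LK LD1_c4 LD2_c14 LD3_c2)) :=
  Lre_d IH (LK LD1_c2 LD2_c4 LD3_c24) (LK LD1_c4 LD2_c14 LD3_c2) Lrfl Lrfl
theorem f195083 : Led Lsl_gt (LP (LK LD1_c8 LD2_c53 LD3_c13)) = (LP (LK LD1_c4 LD2_c27 LD3_c39)) :=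
  Lre_g IH (LK LD1_c8 LD2_c53 LD3_c13) (LK LD1_c4 LD2_c27 LD3_c39) Lrfl Lrfl
theorem f199590 : Led Lsl_gt (LP (LK LD1_c2 LD2_c40 LD3_c30)) = (LP (LK LD1_c5 LD2_c28 LD3_c19)) :=
  Lre_g IH (LK LD1_c2 LD2_c40 LD3_c30) (LK LD1_c5 LD2_c28 LD3_c19) Lrfl Lrfl
theorem f261073 : Led Lsl_df (LP (LK LD1_c8 LD2_c53 LD3_c13)) = (LP (LK LD1_c5 LD2_c28 LD3_c19)) :=
  Lgr Lrot153 (Lpr_gt (f195083 IH) (Lpr_dt (K15.f168600 IH) (Lpe (K9.f41739 IH) (Lpe (K1.f41767 IH) (Lpe (K14.f41775 IH) (Lpe (K15.f41776 IH) (Lpr_gf (K15.f261069 IH) (Lpe (f7846 IH) (Lpr_gt (f199590 IH) (Lpn (LP (LK LD1_c5 LD2_c28 LD3_c19))))))))))))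
theorem f276429 : Led Lsl_gt (LP (LK LD1_c5 LD2_c28 LD3_c19)) = (LP (LK LD1_c8 LD2_c7 LD3_c14)) :=
  Lgr Lrot146 (Lpe (f261073 IH) (Lpr_gt (f195083 IH) (Lpr_ct (f267371 IH) (Lpe (f267402 IH) (Lpr_ct (f276419 IH) (Lpr_dt (K15.f28925 IH) (Lpe (K14.f196707 IH) (Lpe (K12.f199015 IH) (Lpe (K12.f199127 IH) (Lpn (LP (LK LD1_c8 LD2_c7 LD3_c14))))))))))))
theorem f245147 : Led Lsl_bt (LP (LK LD1_c4 LD2_c14 LD3_c2)) = (LP (LK LD1_c2 LD2_c4 LD3_c26)) :=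
  Lre_b IH (LK LD1_c4 LD2_c14 LD3_c2) (LK LD1_c2 LD2_c4 LD3_c26) Lrfl Lrfl
theorem f277898 : Led Lsl_cf (LP (LK LD1_c5 LD2_c28 LD3_c19)) = (LP (LK LD1_c4 LD2_c14 LD3_c2)) :=
  Lgr Lrot160 (Lpr_gt (f276429 IH) (Lpe (K12.f199126 IH) (Lpe (K12.f223294 IH) (Lpr_gt (K12.f42471 IH) (Lpr_ct (K12.f171888 IH) (Lpr_gt (K15.f187027 IH) (Lpr_cf (f277829 IH) (Lpr_bt (f277839 IH) (Lpe (K15.f245141 IH) (Lpe (f245147 IH) (Lpn (LP (LK LD1_c4 LD2_c14 LD3_c2)))))))))))))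
theorem f276432 : Led Lsl_df (LP (LK LD1_c5 LD2_c28 LD3_c19)) = (LP (LK LD1_c8 LD2_c53 LD3_c13)) :=
  Lgr Lrot155 (Lpr_gt (f276429 IH) (Lpr_ct (K12.f199127 IH) (Lpr_gt (K12.f199015 IH) (Lpr_ct (K14.f196707 IH) (Lpr_dt (K15.f199497 IH) (Lpe (f276419 IH) (Lpr_gf (f267402 IH) (Lpe (f267371 IH) (Lpe (f195083 IH) (Lpn (LP (LK LD1_c8 LD2_c53 LD3_c13))))))))))))
theorem f168077 : Led Lsl_gt (LP (LK LD1_c4 LD2_c28 LD3_c39)) = (LP (LK LD1_c8 LD2_c53 LD3_c13)) :=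
  Lre_g IH (LK LD1_c4 LD2_c28 LD3_c39) (LK LD1_c8 LD2_c53 LD3_c13) Lrfl Lrfl
theorem f168076 : Led Lsl_dt (LP (LK LD1_c2 LD2_c11 LD3_c22)) = (LP (LK LD1_c4 LD2_c28 LD3_c39)) :=
  Lre_d IH (LK LD1_c2 LD2_c11 LD3_c22) (LK LD1_c4 LD2_c28 LD3_c39) Lrfl Lrfl
theorem f168068 : Led Lsl_cf (LP (LK LD1_c2 LD2_c25 LD3_c32)) = (LP (LK LD1_c4 LD2_c27 LD3_c36)) :=
  Lgr Lrot11 (Lpr_ct (K9.f167941 IH) (Lpn (LP (LK LD1_c4 LD2_c27 LD3_c36))))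
theorem f279316 : Led Lsl_gt (LP (LK LD1_c2 LD2_c25 LD3_c32)) = (LP (LK LD1_c4 LD2_c19 LD3_c21)) :=
  Lgr Lrot94 (Lpr_cf (f168068 IH) (Lpr_gt (K9.f168075 IH) (Lpr_dt (f168076 IH) (Lpr_gt (f168077 IH) (Lpe (f276432 IH) (Lpr_cf (f277898 IH) (Lpe (f260936 IH) (Lpr_gf (f279313 IH) (Lpe (f279310 IH) (Lpn (LP (LK LD1_c4 LD2_c19 LD3_c21))))))))))))
theorem f279321 : Led Lsl_gt (LP (LK LD1_c17 LD2_c46 LD3_c54)) = (LP (LK LD1_c9 LD2_c42 LD3_c4)) :=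
  Lgr Lrot112 (Lpe (K14.f192294 IH) (Lpr_et (f260953 IH) (Lpe (f260943 IH) (Lpe (f260940 IH) (Lpr_dt (f260935 IH) (Lpr_gf (f279313 IH) (Lpe (f279310 IH) (Lpe (f279316 IH) (Lpe (K14.f168071 IH) (Lpr_dt (K14.f168567 IH) (Lpn (LP (LK LD1_c9 LD2_c42 LD3_c4)))))))))))))
theorem f192296 : Led Lsl_ft (LP (LK LD1_c17 LD2_c46 LD3_c54)) = (LP (LK LD1_c9 LD2_c40 LD3_c2)) :=
  Lre_f IH (LK LD1_c17 LD2_c46 LD3_c54) (LK LD1_c9 LD2_c40 LD3_c2) Lrfl Lrfl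
theorem f279323 : Led Lsl_at (LP (LK LD1_c9 LD2_c40 LD3_c2)) = (LP (LK LD1_c5 LD2_c8 LD3_c46)) :=
  Lgr Lrot26 (Lpe (f192296 IH) (Lpr_gt (f279321 IH) (Lpe (K14.f251596 IH) (Lpn (LP (LK LD1_c5 LD2_c8 LD3_c46))))))
theorem f43423 : Led Lsl_et (LP (LK LD1_c4 LD2_c54 LD3_c15)) = (LP (LK LD1_c9 LD2_c40 LD3_c2)) :=
  Lre_e IH (LK LD1_c4 LD2_c54 LD3_c15) (LK LD1_c9 LD2_c40 LD3_c2) Lrfl Lrfl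
theorem f251309 : Led Lsl_et (LP (LK LD1_c5 LD2_c8 LD3_c46)) = (LP (LK LD1_c2 LD2_c31 LD3_c33)) :=
  Lre_e IH (LK LD1_c5 LD2_c8 LD3_c46) (LK LD1_c2 LD2_c31 LD3_c33) Lrfl Lrfl
theorem f279328 : Led Lsl_af (LP (LK LD1_c4 LD2_c54 LD3_c15)) = (LP (LK LD1_c2 LD2_c31 LD3_c33)) :=
  Lgr Lrot50 (Lpr_et (f43423 IH) (Lpr_at (f279323 IH) (Lpr_et (f251309 IH) (Lpn (LP (LK LD1_c2 LD2_c31 LD3_c33))))))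
theorem f279332 : Led Lsl_ft (LP (LK LD1_c4 LD2_c1 LD3_c39)) = (LP (LK LD1_c2 LD2_c31 LD3_c33)) :=
  Lgr Lrot2 (Lpr_gt (K14.f182055 IH) (Lpe (K15.f257777 IH) (Lpr_af (f279328 IH) (Lpn (LP (LK LD1_c2 LD2_c31 LD3_c33))))))
theorem f237099 : Led Lsl_et (LP (LK LD1_c8 LD2_c3 LD3_c58)) = (LP (LK LD1_c4 LD2_c1 LD3_c39)) :=
  Lre_e IH (LK LD1_c8 LD2_c3 LD3_c58) (LK LD1_c4 LD2_c1 LD3_c39) Lrfl Lrfl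
theorem f279338 : Led Lsl_ft (LP (LK LD1_c15 LD2_c11 LD3_c4)) = (LP (LK LD1_c8 LD2_c3 LD3_c58)) :=
  Lre_f IH (LK LD1_c15 LD2_c11 LD3_c4) (LK LD1_c8 LD2_c3 LD3_c58) Lrfl Lrfl
theorem f256911 : Led Lsl_ft (LP (LK LD1_c5 LD2_c8 LD3_c46)) = (LP (LK LD1_c10 LD2_c7 LD3_c58)) :=
  Lre_f IH (LK LD1_c5 LD2_c8 LD3_c46) (LK LD1_c10 LD2_c7 LD3_c58) Lrfl Lrfl
theorem f279339 : Led Lsl_ef (LP (LK LD1_c15 LD2_c11 LD3_c4)) = (LP (LK LD1_c10 LD2_c7 LD3_c58)) :=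
  Lgr Lrot21 (Lpr_ft (f279338 IH) (Lpr_et (f237099 IH) (Lpr_ft (f279332 IH) (Lpr_et (K14.f190923 IH) (Lpr_ft (f256911 IH) (Lpn (LP (LK LD1_c10 LD2_c7 LD3_c58))))))))
theorem f279346 : Led Lsl_et (LP (LK LD1_c15 LD2_c11 LD3_c4)) = (LP (LK LD1_c10 LD2_c7 LD3_c58)) :=
  Lgr Lrot87 (Lpr_ef (f279339 IH) (Lpn (LP (LK LD1_c10 LD2_c7 LD3_c58))))
theorem f247028 : Led Lsl_bt (LP (LK LD1_c8 LD2_c10 LD3_c3)) = (LP (LK LD1_c15 LD2_c22 LD3_c56)) :=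
  Lre_b IH (LK LD1_c8 LD2_c10 LD3_c3) (LK LD1_c15 LD2_c22 LD3_c56) Lrfl Lrfl
theorem f247128 : Led Lsl_dt (LP (LK LD1_c15 LD2_c22 LD3_c56)) = (LP (LK LD1_c15 LD2_c6 LD3_c42)) :=
  Lgr Lrot79 (Lpe (f247028 IH) (Lpr_df (K15.f247123 IH) (Lpe (f247127 IH) (Lpn (LP (LK LD1_c15 LD2_c6 LD3_c42))))))
theorem f247138 : Led Lsl_ft (LP (LK LD1_c8 LD2_c1 LD3_c28)) = (LP (LK LD1_c15 LD2_c6 LD3_c42)) :=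
  Lre_f IH (LK LD1_c8 LD2_c1 LD3_c28) (LK LD1_c15 LD2_c6 LD3_c42) Lrfl Lrfl
theorem f219536 : Led Lsl_et (LP (LK LD1_c4 LD2_c52 LD3_c61)) = (LP (LK LD1_c2 LD2_c24 LD3_c19)) :=
  Lre_e IH (LK LD1_c4 LD2_c52 LD3_c61) (LK LD1_c2 LD2_c24 LD3_c19) Lrfl Lrfl
theorem f256033 : Led Lsl_ft (LP (LK LD1_c9 LD2_c37 LD3_c57)) = (LP (LK LD1_c4 LD2_c52 LD3_c61)) :=
  Lre_f IH (LK LD1_c9 LD2_c37 LD3_c57) (LK LD1_c4 LD2_c52 LD3_c61) Lrfl Lrfl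
theorem f256034 : Led Lsl_et (LP (LK LD1_c15 LD2_c6 LD3_c42)) = (LP (LK LD1_c9 LD2_c37 LD3_c57)) :=
  Lgr Lrot69 (Lpe (f247138 IH) (Lpe (f223729 IH) (Lpr_ff (K14.f256023 IH) (Lpe (f219536 IH) (Lpe (f256033 IH) (Lpn (LP (LK LD1_c9 LD2_c37 LD3_c57))))))))
theorem f279351 : Led Lsl_df (LP (LK LD1_c15 LD2_c11 LD3_c4)) = (LP (LK LD1_c9 LD2_c37 LD3_c57)) :=
  Lgr Lrot70 (Lpr_et (f279346 IH) (Lpr_dt (K14.f247046 IH) (Lpr_et (f247039 IH) (Lpr_dt (f247128 IH) (Lpr_et (f256034 IH) (Lpn (LP (LK LD1_c9 LD2_c37 LD3_c57))))))))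
theorem f279341 : Led Lsl_bt (LP (LK LD1_c15 LD2_c11 LD3_c4)) = (LP (LK LD1_c8 LD2_c4 LD3_c2)) :=
  Lre_b IH (LK LD1_c15 LD2_c11 LD3_c4) (LK LD1_c8 LD2_c4 LD3_c2) Lrfl Lrfl
theorem f279354 : Led Lsl_dt (LP (LK LD1_c8 LD2_c4 LD3_c2)) = (LP (LK LD1_c4 LD2_c53 LD3_c2)) :=
  Lgr Lrot79 (Lpe (f279341 IH) (Lpr_df (f279351 IH) (Lpe (f237526 IH) (Lpn (LP (LK LD1_c4 LD2_c53 LD3_c2))))))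
theorem f239863 : Led Lsl_ft (LP (LK LD1_c4 LD2_c31 LD3_c28)) = (LP (LK LD1_c4 LD2_c52 LD3_c57)) :=
  Lgr Lrot48 (Lpr_ff (K15.f239851 IH) (Lpn (LP (LK LD1_c4 LD2_c52 LD3_c57))))
theorem f239871 : Led Lsl_df (LP (LK LD1_c4 LD2_c31 LD3_c28)) = (LP (LK LD1_c4 LD2_c52 LD3_c58)) :=
  Lgr Lrot78 (Lpr_ft (f239863 IH) (Lpr_dt (K15.f200559 IH) (Lpr_ft (K15.f239870 IH) (Lpn (LP (LK LD1_c4 LD2_c52 LD3_c58))))))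
theorem f240222 : Led Lsl_ef (LP (LK LD1_c4 LD2_c52 LD3_c58)) = (LP (LK LD1_c8 LD2_c1 LD3_c33)) :=
  Lgr Lrot73 (Lpe (f239871 IH) (Lpr_et (K14.f239830 IH) (Lpr_dt (K13.f239824 IH) (Lpr_et (K13.f240217 IH) (Lpe (K12.f33216 IH) (Lpn (LP (LK LD1_c8 LD2_c1 LD3_c33))))))))
theorem f270851 : Led Lsl_af (LP (LK LD1_c8 LD2_c1 LD3_c33)) = (LP (LK LD1_c4 LD2_c53 LD3_c2)) :=
  Lgr Lrot50 (Lpe (f240222 IH) (Lpr_at (K15.f247125 IH) (Lpr_et (f270849 IH) (Lpn (LP (LK LD1_c4 LD2_c53 LD3_c2))))))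
theorem f279359 : Led Lsl_af (LP (LK LD1_c8 LD2_c4 LD3_c2)) = (LP (LK LD1_c5 LD2_c8 LD3_c42)) :=
  Lgr Lrot117 (Lpr_dt (f279354 IH) (Lpe (f270851 IH) (Lpr_dt (K12.f33232 IH) (Lpn (LP (LK LD1_c5 LD2_c8 LD3_c42))))))
theorem f279365 : Led Lsl_ft (LP (LK LD1_c8 LD2_c4 LD3_c2)) = (LP (LK LD1_c4 LD2_c1 LD3_c42)) :=
  Lre_f IH (LK LD1_c8 LD2_c4 LD3_c2) (LK LD1_c4 LD2_c1 LD3_c42) Lrfl Lrfl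
theorem f279378 : Led Lsl_at (LP (LK LD1_c4 LD2_c1 LD3_c42)) = (LP (LK LD1_c2 LD2_c31 LD3_c32)) :=
  Lgr Lrot66 (Lpe (f279365 IH) (Lpr_af (f279359 IH) (Lpe (K12.f33215 IH) (Lpn (LP (LK LD1_c2 LD2_c31 LD3_c32))))))
theorem f182054 : Led Lsl_et (LP (LK LD1_c4 LD2_c1 LD3_c42)) = (LP (LK LD1_c1 LD2_c57 LD3_c48)) :=
  Lre_e IH (LK LD1_c4 LD2_c1 LD3_c42) (LK LD1_c1 LD2_c57 LD3_c48) Lrfl Lrfl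
theorem f229260 : Led Lsl_df (LP (LK LD1_c4 LD2_c1 LD3_c42)) = (LP (LK LD1_c2 LD2_c24 LD3_c20)) :=
  Lgr Lrot70 (Lpr_et (f182054 IH) (Lpr_dt (K12.f182047 IH) (Lpe (K12.f229240 IH) (Lpr_dt (K12.f229253 IH) (Lpr_et (f229259 IH) (Lpn (LP (LK LD1_c2 LD2_c24 LD3_c20))))))))
theorem f33212 : Led Lsl_df (LP (LK LD1_c4 LD2_c0 LD3_c17)) = (LP (LK LD1_c2 LD2_c31 LD3_c32)) :=
  Lgr Lrot38 (Lpr_dt (K12.f33204 IH) (Lpn (LP (LK LD1_c2 LD2_c31 LD3_c32))))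
theorem f279390 : Led Lsl_af (LP (LK LD1_c2 LD2_c24 LD3_c20)) = (LP (LK LD1_c4 LD2_c0 LD3_c17)) :=
  Lgr Lrot117 (Lpe (f229260 IH) (Lpr_at (f279378 IH) (Lpe (f33212 IH) (Lpn (LP (LK LD1_c4 LD2_c0 LD3_c17))))))
theorem f2452 : Led Lsl_et (LP (LK LD1_c2 LD2_c24 LD3_c20)) = (LP (LK LD1_c1 LD2_c9 LD3_c19)) :=
  Lre_e IH (LK LD1_c2 LD2_c24 LD3_c20) (LK LD1_c1 LD2_c9 LD3_c19) Lrfl Lrfl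
theorem f279401 : Led Lsl_at (LP (LK LD1_c1 LD2_c9 LD3_c19)) = (LP (LK LD1_c1 LD2_c56 LD3_c55)) :=
  Lgr Lrot80 (Lpe (f2452 IH) (Lpr_af (f279390 IH) (Lpe (K12.f33203 IH) (Lpn (LP (LK LD1_c1 LD2_c56 LD3_c55))))))
theorem f279408 : Led Lsl_af (LP (LK LD1_c2 LD2_c8 LD3_c30)) = (LP (LK LD1_c3 LD2_c57 LD3_c6)) :=
  Lgr Lrot68 (Lpe (K13.f237467 IH) (Lpr_at (f279401 IH) (Lpe (K12.f182316 IH) (Lpn (LP (LK LD1_c3 LD2_c57 LD3_c6))))))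
theorem f279415 : Led Lsl_ft (LP (LK LD1_c2 LD2_c8 LD3_c29)) = (LP (LK LD1_c3 LD2_c57 LD3_c6)) :=
  Lgr Lrot101 (Lpe (K13.f241659 IH) (Lpr_ff (K13.f241649 IH) (Lpr_af (f279408 IH) (Lpn (LP (LK LD1_c3 LD2_c57 LD3_c6))))))
theorem f279421 : Led Lsl_ff (LP (LK LD1_c2 LD2_c8 LD3_c29)) = (LP (LK LD1_c3 LD2_c57 LD3_c6)) :=
  Lgr Lrot3 (Lpr_ft (f279415 IH) (Lpn (LP (LK LD1_c3 LD2_c57 LD3_c6))))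
theorem f241682 : Led Lsl_ft (LP (LK LD1_c4 LD2_c22 LD3_c2)) = (LP (LK LD1_c8 LD2_c41 LD3_c52)) :=
  Lre_f IH (LK LD1_c4 LD2_c22 LD3_c2) (LK LD1_c8 LD2_c41 LD3_c52) Lrfl Lrfl
theorem f184408 : Led Lsl_et (LP (LK LD1_c7 LD2_c55 LD3_c55)) = (LP (LK LD1_c3 LD2_c57 LD3_c6)) :=
  Lre_e IH (LK LD1_c7 LD2_c55 LD3_c55) (LK LD1_c3 LD2_c57 LD3_c6) Lrfl Lrfl
theorem f236637 : Led Lsl_ft (LP (LK LD1_c14 LD2_c57 LD3_c47)) = (LP (LK LD1_c7 LD2_c55 LD3_c55)) :=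
  Lre_f IH (LK LD1_c14 LD2_c57 LD3_c47) (LK LD1_c7 LD2_c55 LD3_c55) Lrfl Lrfl
theorem f279425 : Led Lsl_et (LP (LK LD1_c8 LD2_c41 LD3_c52)) = (LP (LK LD1_c14 LD2_c57 LD3_c47)) :=
  Lgr Lrot69 (Lpe (f241682 IH) (Lpe (K13.f237208 IH) (Lpr_ff (f279421 IH) (Lpe (f184408 IH) (Lpe (f236637 IH) (Lpn (LP (LK LD1_c14 LD2_c57 LD3_c47))))))))
theorem f236605 : Led Lsl_ct (LP (LK LD1_c4 LD2_c0 LD3_c17)) = (LP (LK LD1_c7 LD2_c55 LD3_c55)) :=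
  Lgr Lrot15 (Lpe (K12.f33203 IH) (Lpr_cf (K14.f236600 IH) (Lpe (f184408 IH) (Lpn (LP (LK LD1_c7 LD2_c55 LD3_c55))))))
theorem f236630 : Led Lsl_ft (LP (LK LD1_c7 LD2_c55 LD3_c55)) = (LP (LK LD1_c14 LD2_c57 LD3_c47)) :=
  Lre_f IH (LK LD1_c7 LD2_c55 LD3_c55) (LK LD1_c14 LD2_c57 LD3_c47) Lrfl Lrfl
theorem f236631 : Led Lsl_cf (LP (LK LD1_c8 LD2_c1 LD3_c33)) = (LP (LK LD1_c14 LD2_c57 LD3_c47)) :=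
  Lgr Lrot108 (Lpr_ft (K12.f33214 IH) (Lpr_ct (f236605 IH) (Lpr_ft (f236630 IH) (Lpn (LP (LK LD1_c14 LD2_c57 LD3_c47))))))
theorem f279429 : Led Lsl_cf (LP (LK LD1_c8 LD2_c41 LD3_c52)) = (LP (LK LD1_c4 LD2_c52 LD3_c58)) :=
  Lgr Lrot39 (Lpr_et (f279425 IH) (Lpe (f236631 IH) (Lpe (f240222 IH) (Lpn (LP (LK LD1_c4 LD2_c52 LD3_c58))))))
theorem f241676 : Led Lsl_ft (LP (LK LD1_c8 LD2_c41 LD3_c52)) = (LP (LK LD1_c4 LD2_c22 LD3_c2)) :=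
  Lre_f IH (LK LD1_c8 LD2_c41 LD3_c52) (LK LD1_c4 LD2_c22 LD3_c2) Lrfl Lrfl
theorem f279431 : Led Lsl_ct (LP (LK LD1_c4 LD2_c22 LD3_c2)) = (LP (LK LD1_c2 LD2_c24 LD3_c18)) :=
  Lgr Lrot40 (Lpe (f241676 IH) (Lpr_cf (f279429 IH) (Lpe (K15.f239870 IH) (Lpn (LP (LK LD1_c2 LD2_c24 LD3_c18))))))
theorem f241672 : Led Lsl_bt (LP (LK LD1_c8 LD2_c41 LD3_c49)) = (LP (LK LD1_c4 LD2_c22 LD3_c2)) :=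
  Lre_b IH (LK LD1_c8 LD2_c41 LD3_c49) (LK LD1_c4 LD2_c22 LD3_c2) Lrfl Lrfl
theorem f170338 : Led Lsl_et (LP (LK LD1_c4 LD2_c8 LD3_c22)) = (LP (LK LD1_c8 LD2_c16 LD3_c50)) :=
  Lre_e IH (LK LD1_c4 LD2_c8 LD3_c22) (LK LD1_c8 LD2_c16 LD3_c50) Lrfl Lrfl
theorem f170339 : Led Lsl_et (LP (LK LD1_c4 LD2_c52 LD3_c54)) = (LP (LK LD1_c2 LD2_c24 LD3_c17)) :=
  Lre_e IH (LK LD1_c4 LD2_c52 LD3_c54) (LK LD1_c2 LD2_c24 LD3_c17) Lrfl Lrfl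
theorem f170340 : Led Lsl_ct (LP (LK LD1_c8 LD2_c16 LD3_c50)) = (LP (LK LD1_c4 LD2_c52 LD3_c54)) :=
  Lgr Lrot15 (Lpe (f170338 IH) (Lpr_cf (K13.f170332 IH) (Lpe (f170339 IH) (Lpn (LP (LK LD1_c4 LD2_c52 LD3_c54))))))
theorem f170345 : Led Lsl_cf (LP (LK LD1_c8 LD2_c16 LD3_c50)) = (LP (LK LD1_c4 LD2_c52 LD3_c54)) :=
  Lgr Lrot11 (Lpr_ct (f170340 IH) (Lpn (LP (LK LD1_c4 LD2_c52 LD3_c54))))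
theorem f170362 : Led Lsl_bt (LP (LK LD1_c8 LD2_c16 LD3_c50)) = (LP (LK LD1_c15 LD2_c34 LD3_c12)) :=
  Lre_b IH (LK LD1_c8 LD2_c16 LD3_c50) (LK LD1_c15 LD2_c34 LD3_c12) Lrfl Lrfl
theorem f279433 : Led Lsl_cf (LP (LK LD1_c8 LD2_c41 LD3_c49)) = (LP (LK LD1_c15 LD2_c34 LD3_c12)) :=
  Lgr Lrot97 (Lpr_bt (f241672 IH) (Lpr_ct (f279431 IH) (Lpr_bt (K15.f170372 IH) (Lpe (f170345 IH) (Lpr_bt (f170362 IH) (Lpn (LP (LK LD1_c15 LD2_c34 LD3_c12))))))))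
theorem f279907 : Led Lsl_et (LP (LK LD1_c8 LD2_c41 LD3_c49)) = (LP (LK LD1_c4 LD2_c22 LD3_c0)) :=
  Lre_e IH (LK LD1_c8 LD2_c41 LD3_c49) (LK LD1_c4 LD2_c22 LD3_c0) Lrfl Lrfl
theorem f279908 : Led Lsl_et (LP (LK LD1_c8 LD2_c16 LD3_c48)) = (LP (LK LD1_c15 LD2_c34 LD3_c12)) :=
  Lre_e IH (LK LD1_c8 LD2_c16 LD3_c48) (LK LD1_c15 LD2_c34 LD3_c12) Lrfl Lrfl
theorem f279909 : Led Lsl_ct (LP (LK LD1_c4 LD2_c22 LD3_c0)) = (LP (LK LD1_c8 LD2_c16 LD3_c48)) :=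
  Lgr Lrot15 (Lpe (f279907 IH) (Lpr_cf (f279433 IH) (Lpe (f279908 IH) (Lpn (LP (LK LD1_c8 LD2_c16 LD3_c48))))))
theorem f279916 : Led Lsl_cf (LP (LK LD1_c4 LD2_c22 LD3_c0)) = (LP (LK LD1_c8 LD2_c16 LD3_c48)) :=
  Lgr Lrot11 (Lpr_ct (f279909 IH) (Lpn (LP (LK LD1_c8 LD2_c16 LD3_c48))))
theorem f39274 : Led Lsl_bt (LP (LK LD1_c7 LD2_c55 LD3_c53)) = (LP (LK LD1_c3 LD2_c57 LD3_c6)) :=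
  Lre_b IH (LK LD1_c7 LD2_c55 LD3_c53) (LK LD1_c3 LD2_c57 LD3_c6) Lrfl Lrfl
theorem f279423 : Led Lsl_ft (LP (LK LD1_c4 LD2_c22 LD3_c0)) = (LP (LK LD1_c7 LD2_c55 LD3_c53)) :=
  Lgr Lrot75 (Lpe (K15.f200406 IH) (Lpr_ff (f279421 IH) (Lpe (f39274 IH) (Lpn (LP (LK LD1_c7 LD2_c55 LD3_c53))))))
theorem f33206 : Led Lsl_bt (LP (LK LD1_c8 LD2_c1 LD3_c31)) = (LP (LK LD1_c4 LD2_c0 LD3_c17)) :=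
  Lre_b IH (LK LD1_c8 LD2_c1 LD3_c31) (LK LD1_c4 LD2_c0 LD3_c17) Lrfl Lrfl
theorem f170581 : Led Lsl_et (LP (LK LD1_c2 LD2_c2 LD3_c7)) = (LP (LK LD1_c4 LD2_c9 LD3_c46)) :=
  Lre_e IH (LK LD1_c2 LD2_c2 LD3_c7) (LK LD1_c4 LD2_c9 LD3_c46) Lrfl Lrfl
theorem f170582 : Led Lsl_ct (LP (LK LD1_c4 LD2_c9 LD3_c46)) = (LP (LK LD1_c8 LD2_c1 LD3_c31)) :=
  Lgr Lrot15 (Lpe (f170581 IH) (Lpr_cf (K9.f167273 IH) (Lpe (K15.f33258 IH) (Lpn (LP (LK LD1_c8 LD2_c1 LD3_c31))))))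
theorem f236624 : Led Lsl_bt (LP (LK LD1_c8 LD2_c19 LD3_c36)) = (LP (LK LD1_c4 LD2_c9 LD3_c46)) :=
  Lre_b IH (LK LD1_c8 LD2_c19 LD3_c36) (LK LD1_c4 LD2_c9 LD3_c46) Lrfl Lrfl
theorem f236625 : Led Lsl_bt (LP (LK LD1_c7 LD2_c55 LD3_c55)) = (LP (LK LD1_c14 LD2_c57 LD3_c44)) :=
  Lre_b IH (LK LD1_c7 LD2_c55 LD3_c55) (LK LD1_c14 LD2_c57 LD3_c44) Lrfl Lrfl
theorem f236626 : Led Lsl_cf (LP (LK LD1_c8 LD2_c19 LD3_c36)) = (LP (LK LD1_c14 LD2_c57 LD3_c44)) :=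
  Lgr Lrot97 (Lpr_bt (f236624 IH) (Lpr_ct (f170582 IH) (Lpr_bt (f33206 IH) (Lpr_ct (f236605 IH) (Lpr_bt (f236625 IH) (Lpn (LP (LK LD1_c14 LD2_c57 LD3_c44))))))))
theorem f236645 : Led Lsl_ct (LP (LK LD1_c8 LD2_c19 LD3_c36)) = (LP (LK LD1_c14 LD2_c57 LD3_c44)) :=
  Lgr Lrot59 (Lpr_cf (f236626 IH) (Lpn (LP (LK LD1_c14 LD2_c57 LD3_c44))))
theorem f236668 : Led Lsl_et (LP (LK LD1_c4 LD2_c9 LD3_c44)) = (LP (LK LD1_c8 LD2_c19 LD3_c36)) :=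
  Lre_e IH (LK LD1_c4 LD2_c9 LD3_c44) (LK LD1_c8 LD2_c19 LD3_c36) Lrfl Lrfl
theorem f236669 : Led Lsl_et (LP (LK LD1_c14 LD2_c57 LD3_c44)) = (LP (LK LD1_c7 LD2_c55 LD3_c53)) :=
  Lre_e IH (LK LD1_c14 LD2_c57 LD3_c44) (LK LD1_c7 LD2_c55 LD3_c53) Lrfl Lrfl
theorem f236670 : Led Lsl_cf (LP (LK LD1_c4 LD2_c9 LD3_c44)) = (LP (LK LD1_c7 LD2_c55 LD3_c53)) :=
  Lgr Lrot39 (Lpr_et (f236668 IH) (Lpr_ct (f236645 IH) (Lpr_et (f236669 IH) (Lpn (LP (LK LD1_c7 LD2_c55 LD3_c53))))))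
theorem f279973 : Led Lsl_ft (LP (LK LD1_c4 LD2_c9 LD3_c44)) = (LP (LK LD1_c8 LD2_c16 LD3_c48)) :=
  Lgr Lrot4 (Lpr_cf (f236670 IH) (Lpe (f279423 IH) (Lpr_cf (f279916 IH) (Lpn (LP (LK LD1_c8 LD2_c16 LD3_c48))))))
theorem f213223 : Led Lsl_dt (LP (LK LD1_c4 LD2_c9 LD3_c44)) = (LP (LK LD1_c8 LD2_c19 LD3_c35)) :=
  Lre_d IH (LK LD1_c4 LD2_c9 LD3_c44) (LK LD1_c8 LD2_c19 LD3_c35) Lrfl Lrfl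
theorem f213176 : Led Lsl_ct (LP (LK LD1_c8 LD2_c19 LD3_c35)) = (LP (LK LD1_c15 LD2_c39 LD3_c57)) :=
  Lre_c IH (LK LD1_c8 LD2_c19 LD3_c35) (LK LD1_c15 LD2_c39 LD3_c57) Lrfl Lrfl
theorem f213205 : Led Lsl_bt (LP (LK LD1_c8 LD2_c19 LD3_c35)) = (LP (LK LD1_c4 LD2_c9 LD3_c45)) :=
  Lre_b IH (LK LD1_c8 LD2_c19 LD3_c35) (LK LD1_c4 LD2_c9 LD3_c45) Lrfl Lrfl
theorem f213206 : Led Lsl_ct (LP (LK LD1_c15 LD2_c39 LD3_c57)) = (LP (LK LD1_c8 LD2_c19 LD3_c35)) :=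
  Lre_c IH (LK LD1_c15 LD2_c39 LD3_c57) (LK LD1_c8 LD2_c19 LD3_c35) Lrfl Lrfl
theorem f201099 : Led Lsl_bt (LP (LK LD1_c0 LD2_c6 LD3_c34)) = (LP (LK LD1_c0 LD2_c11 LD3_c60)) :=
  Lgr Lrot128 (Lpe (K0.f7897 IH) (Lpe (K12.f7907 IH) (Lpr_cf (K11.f201093 IH) (Lpe (K11.f201074 IH) (Lpe (K11.f201060 IH) (Lpn (LP (LK LD1_c0 LD2_c11 LD3_c60))))))))
theorem f188715 : Led Lsl_bt (LP (LK LD1_c4 LD2_c13 LD3_c61)) = (LP (LK LD1_c8 LD2_c26 LD3_c35)) :=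
  Lre_b IH (LK LD1_c4 LD2_c13 LD3_c61) (LK LD1_c8 LD2_c26 LD3_c35) Lrfl Lrfl
theorem f188708 : Led Lsl_gt (LP (LK LD1_c8 LD2_c26 LD3_c35)) = (LP (LK LD1_c15 LD2_c51 LD3_c23)) :=
  Lre_g IH (LK LD1_c8 LD2_c26 LD3_c35) (LK LD1_c15 LD2_c51 LD3_c23) Lrfl Lrfl
theorem f261985 : Led Lsl_df (LP (LK LD1_c15 LD2_c39 LD3_c57)) = (LP (LK LD1_c15 LD2_c51 LD3_c23)) :=
  Lgr Lrot183 (Lpr_ct (f213206 IH) (Lpr_bt (f213205 IH) (Lpr_gt (K15.f261981 IH) (Lpr_dt (K15.f254710 IH) (Lpr_ct (K14.f167653 IH) (Lpr_bt (K14.f167652 IH) (Lpr_gt (K12.f167650 IH) (Lpr_dt (K9.f1387 IH) (Lpr_ct (K0.f7897 IH) (Lpr_bt (f201099 IH) (Lpr_gt (K11.f28215 IH) (Lpe (K10.f7996 IH) (Lpr_ct (K10.f52668 IH) (Lpr_bt (K11.f166439 IH) (Lpr_gt (K10.f54512 IH) (Lpr_dt (K10.f54513 IH) (Lpr_ct (K12.f188568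 IH) (Lpr_bt (f188715 IH) (Lpr_gt (f188708 IH) (Lpn (LP (LK LD1_c15 LD2_c51 LD3_c23))))))))))))))))))))))
theorem f261988 : Led Lsl_dt (LP (LK LD1_c15 LD2_c39 LD3_c57)) = (LP (LK LD1_c15 LD2_c51 LD3_c23)) :=
  Lgr Lrot42 (Lpr_df (f261985 IH) (Lpn (LP (LK LD1_c15 LD2_c51 LD3_c23))))
theorem f188710 : Led Lsl_ct (LP (LK LD1_c15 LD2_c51 LD3_c23)) = (LP (LK LD1_c25 LD2_c47 LD3_c13)) :=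
  Lre_c IH (LK LD1_c15 LD2_c51 LD3_c23) (LK LD1_c25 LD2_c47 LD3_c13) Lrfl Lrfl
theorem f279913 : Led Lsl_at (LP (LK LD1_c8 LD2_c16 LD3_c48)) = (LP (LK LD1_c15 LD2_c34 LD3_c10)) :=
  Lre_a IH (LK LD1_c8 LD2_c16 LD3_c48) (LK LD1_c15 LD2_c34 LD3_c10) Lrfl Lrfl
theorem f241664 : Led Lsl_at (LP (LK LD1_c4 LD2_c22 LD3_c0)) = (LP (LK LD1_c8 LD2_c41 LD3_c47)) :=
  Lre_a IH (LK LD1_c4 LD2_c22 LD3_c0) (LK LD1_c8 LD2_c41 LD3_c47) Lrfl Lrfl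
theorem f279919 : Led Lsl_at (LP (LK LD1_c15 LD2_c34 LD3_c10)) = (LP (LK LD1_c8 LD2_c16 LD3_c48)) :=
  Lre_a IH (LK LD1_c15 LD2_c34 LD3_c10) (LK LD1_c8 LD2_c16 LD3_c48) Lrfl Lrfl
theorem f279969 : Led Lsl_ct (LP (LK LD1_c8 LD2_c41 LD3_c47)) = (LP (LK LD1_c15 LD2_c34 LD3_c10)) :=
  Lgr Lrot111 (Lpe (f241664 IH) (Lpr_cf (f279916 IH) (Lpe (f279919 IH) (Lpn (LP (LK LD1_c15 LD2_c34 LD3_c10))))))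
theorem f279991 : Led Lsl_dt (LP (LK LD1_c16 LD2_c17 LD3_c12)) = (LP (LK LD1_c8 LD2_c41 LD3_c47)) :=
  Lre_d IH (LK LD1_c16 LD2_c17 LD3_c12) (LK LD1_c8 LD2_c41 LD3_c47) Lrfl Lrfl
theorem f279992 : Led Lsl_ct (LP (LK LD1_c26 LD2_c15 LD3_c6)) = (LP (LK LD1_c16 LD2_c17 LD3_c12)) :=
  Lre_c IH (LK LD1_c26 LD2_c15 LD3_c6) (LK LD1_c16 LD2_c17 LD3_c12) Lrfl Lrfl
theorem f279993 : Led Lsl_dt (LP (LK LD1_c25 LD2_c47 LD3_c13)) = (LP (LK LD1_c26 LD2_c15 LD3_c6)) :=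
  Lgr Lrot140 (Lpe (f188710 IH) (Lpe (f261988 IH) (Lpe (f213176 IH) (Lpe (f213223 IH) (Lpr_ft (f279973 IH) (Lpr_at (f279913 IH) (Lpe (f279969 IH) (Lpe (f279991 IH) (Lpe (f279992 IH) (Lpn (LP (LK LD1_c26 LD2_c15 LD3_c6))))))))))))
theorem f236620 : Led Lsl_dt (LP (LK LD1_c14 LD2_c57 LD3_c43)) = (LP (LK LD1_c7 LD2_c55 LD3_c53)) :=
  Lre_d IH (LK LD1_c14 LD2_c57 LD3_c43) (LK LD1_c7 LD2_c55 LD3_c53) Lrfl Lrfl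
theorem f279998 : Led Lsl_at (LP (LK LD1_c8 LD2_c41 LD3_c48)) = (LP (LK LD1_c16 LD2_c17 LD3_c12)) :=
  Lre_a IH (LK LD1_c8 LD2_c41 LD3_c48) (LK LD1_c16 LD2_c17 LD3_c12) Lrfl Lrfl
theorem f279999 : Led Lsl_ft (LP (LK LD1_c14 LD2_c57 LD3_c43)) = (LP (LK LD1_c8 LD2_c41 LD3_c48)) :=
  Lgr Lrot142 (Lpr_dt (f236620 IH) (Lpe (f236670 IH) (Lpr_dt (f213223 IH) (Lpr_ct (f213176 IH) (Lpr_dt (f261988 IH) (Lpr_ct (f188710 IH) (Lpr_dt (f279993 IH) (Lpr_ct (f279992 IH) (Lpe (f279998 IH) (Lpn (LP (LK LD1_c8 LD2_c41 LD3_c48))))))))))))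
theorem f280010 : Led Lsl_ff (LP (LK LD1_c14 LD2_c57 LD3_c43)) = (LP (LK LD1_c8 LD2_c41 LD3_c48)) :=
  Lgr Lrot3 (Lpr_ft (f279999 IH) (Lpn (LP (LK LD1_c8 LD2_c41 LD3_c48))))
theorem f236744 : Led Lsl_ct (LP (LK LD1_c14 LD2_c57 LD3_c43)) = (LP (LK LD1_c24 LD2_c45 LD3_c7)) :=
  Lre_c IH (LK LD1_c14 LD2_c57 LD3_c43) (LK LD1_c24 LD2_c45 LD3_c7) Lrfl Lrfl
theorem f237691 : Led Lsl_ct (LP (LK LD1_c16 LD2_c17 LD3_c15)) = (LP (LK LD1_c8 LD2_c41 LD3_c48)) :=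
  Lre_c IH (LK LD1_c16 LD2_c17 LD3_c15) (LK LD1_c8 LD2_c41 LD3_c48) Lrfl Lrfl
theorem f280016 : Led Lsl_ft (LP (LK LD1_c24 LD2_c45 LD3_c7)) = (LP (LK LD1_c16 LD2_c17 LD3_c15)) :=
  Lgr Lrot4 (Lpe (f236744 IH) (Lpr_ff (f280010 IH) (Lpe (f237691 IH) (Lpn (LP (LK LD1_c16 LD2_c17 LD3_c15))))))
theorem f238887 : Led Lsl_bt (LP (LK LD1_c3 LD2_c57 LD3_c21)) = (LP (LK LD1_c7 LD2_c56 LD3_c18)) :=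
  Lre_b IH (LK LD1_c3 LD2_c57 LD3_c21) (LK LD1_c7 LD2_c56 LD3_c18) Lrfl Lrfl
theorem f197791 : Led Lsl_ct (LP (LK LD1_c7 LD2_c56 LD3_c18)) = (LP (LK LD1_c14 LD2_c58 LD3_c29)) :=
  Lre_c IH (LK LD1_c7 LD2_c56 LD3_c18) (LK LD1_c14 LD2_c58 LD3_c29) Lrfl Lrfl
theorem f238880 : Led Lsl_bt (LP (LK LD1_c14 LD2_c57 LD3_c43)) = (LP (LK LD1_c7 LD2_c55 LD3_c54)) :=
  Lre_b IH (LK LD1_c14 LD2_c57 LD3_c43) (LK LD1_c7 LD2_c55 LD3_c54) Lrfl Lrfl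
theorem f236679 : Led Lsl_ct (LP (LK LD1_c24 LD2_c45 LD3_c7)) = (LP (LK LD1_c14 LD2_c57 LD3_c43)) :=
  Lre_c IH (LK LD1_c24 LD2_c45 LD3_c7) (LK LD1_c14 LD2_c57 LD3_c43) Lrfl Lrfl
theorem f238892 : Led Lsl_bt (LP (LK LD1_c14 LD2_c58 LD3_c29)) = (LP (LK LD1_c24 LD2_c45 LD3_c7)) :=
  Lgr Lrot128 (Lpe (f197791 IH) (Lpe (f238887 IH) (Lpr_cf (K13.f238885 IH) (Lpe (f238880 IH) (Lpe (f236679 IH) (Lpn (LP (LK LD1_c24 LD2_c45 LD3_c7))))))))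
theorem f237613 : Led Lsl_bt (LP (LK LD1_c4 LD2_c23 LD3_c4)) = (LP (LK LD1_c2 LD2_c8 LD3_c59)) :=
  Lre_b IH (LK LD1_c4 LD2_c23 LD3_c4) (LK LD1_c2 LD2_c8 LD3_c59) Lrfl Lrfl
theorem f237614 : Led Lsl_ct (LP (LK LD1_c8 LD2_c43 LD3_c56)) = (LP (LK LD1_c4 LD2_c23 LD3_c4)) :=
  Lre_c IH (LK LD1_c8 LD2_c43 LD3_c56) (LK LD1_c4 LD2_c23 LD3_c4) Lrfl Lrfl
theorem f237615 : Led Lsl_bt (LP (LK LD1_c4 LD2_c22 LD3_c1)) = (LP (LK LD1_c8 LD2_c41 LD3_c48)) :=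
  Lre_b IH (LK LD1_c4 LD2_c22 LD3_c1) (LK LD1_c8 LD2_c41 LD3_c48) Lrfl Lrfl
theorem f237211 : Led Lsl_ct (LP (LK LD1_c8 LD2_c41 LD3_c48)) = (LP (LK LD1_c16 LD2_c17 LD3_c15)) :=
  Lre_c IH (LK LD1_c8 LD2_c41 LD3_c48) (LK LD1_c16 LD2_c17 LD3_c15) Lrfl Lrfl
theorem f237616 : Led Lsl_bf (LP (LK LD1_c8 LD2_c43 LD3_c56)) = (LP (LK LD1_c16 LD2_c17 LD3_c15)) :=
  Lgr Lrot90 (Lpr_ct (f237614 IH) (Lpr_bt (f237613 IH) (Lpr_ct (K13.f237477 IH) (Lpr_bt (f237615 IH) (Lpr_ct (f237211 IH) (Lpn (LP (LK LD1_c16 LD2_c17 LD3_c15))))))))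
theorem f280023 : Led Lsl_ff (LP (LK LD1_c14 LD2_c58 LD3_c29)) = (LP (LK LD1_c8 LD2_c43 LD3_c56)) :=
  Lgr Lrot25 (Lpr_bt (f238892 IH) (Lpr_ft (f280016 IH) (Lpe (f237616 IH) (Lpn (LP (LK LD1_c8 LD2_c43 LD3_c56))))))
theorem f280026 : Led Lsl_ft (LP (LK LD1_c14 LD2_c58 LD3_c29)) = (LP (LK LD1_c8 LD2_c43 LD3_c56)) :=
  Lgr Lrot48 (Lpr_ff (f280023 IH) (Lpn (LP (LK LD1_c8 LD2_c43 LD3_c56))))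
theorem f237626 : Led Lsl_bt (LP (LK LD1_c2 LD2_c8 LD3_c59)) = (LP (LK LD1_c4 LD2_c23 LD3_c4)) :=
  Lre_b IH (LK LD1_c2 LD2_c8 LD3_c59) (LK LD1_c4 LD2_c23 LD3_c4) Lrfl Lrfl
theorem f237690 : Led Lsl_ct (LP (LK LD1_c4 LD2_c23 LD3_c4)) = (LP (LK LD1_c8 LD2_c43 LD3_c56)) :=
  Lre_c IH (LK LD1_c4 LD2_c23 LD3_c4) (LK LD1_c8 LD2_c43 LD3_c56) Lrfl Lrfl
theorem f237210 : Led Lsl_bt (LP (LK LD1_c8 LD2_c41 LD3_c48)) = (LP (LK LD1_c4 LD2_c22 LD3_c1)) :=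
  Lre_b IH (LK LD1_c8 LD2_c41 LD3_c48) (LK LD1_c4 LD2_c22 LD3_c1) Lrfl Lrfl
theorem f237692 : Led Lsl_bt (LP (LK LD1_c8 LD2_c43 LD3_c56)) = (LP (LK LD1_c16 LD2_c17 LD3_c15)) :=
  Lgr Lrot128 (Lpe (f237690 IH) (Lpe (f237626 IH) (Lpr_cf (K13.f237618 IH) (Lpe (f237210 IH) (Lpe (f237691 IH) (Lpn (LP (LK LD1_c16 LD2_c17 LD3_c15))))))))
theorem f280006 : Led Lsl_ff (LP (LK LD1_c24 LD2_c45 LD3_c7)) = (LP (LK LD1_c16 LD2_c17 LD3_c15)) :=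
  Lgr Lrot23 (Lpr_ct (f236679 IH) (Lpr_ft (f279999 IH) (Lpr_ct (f237211 IH) (Lpn (LP (LK LD1_c16 LD2_c17 LD3_c15))))))
theorem f280028 : Led Lsl_bf (LP (LK LD1_c14 LD2_c58 LD3_c29)) = (LP (LK LD1_c24 LD2_c45 LD3_c7)) :=
  Lgr Lrot61 (Lpr_ft (f280026 IH) (Lpr_bt (f237692 IH) (Lpe (f280006 IH) (Lpn (LP (LK LD1_c24 LD2_c45 LD3_c7))))))
theorem f238824 : Led Lsl_bt (LP (LK LD1_c7 LD2_c56 LD3_c18)) = (LP (LK LD1_c3 LD2_c57 LD3_c21)) :=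
  Lre_b IH (LK LD1_c7 LD2_c56 LD3_c18) (LK LD1_c3 LD2_c57 LD3_c21) Lrfl Lrfl
theorem f197439 : Led Lsl_ct (LP (LK LD1_c14 LD2_c58 LD3_c29)) = (LP (LK LD1_c7 LD2_c56 LD3_c18)) :=
  Lre_c IH (LK LD1_c14 LD2_c58 LD3_c29) (LK LD1_c7 LD2_c56 LD3_c18) Lrfl Lrfl
theorem f169162 : Led Lsl_bt (LP (LK LD1_c2 LD2_c38 LD3_c19)) = (LP (LK LD1_c5 LD2_c23 LD3_c33)) :=
  Lre_b IH (LK LD1_c2 LD2_c38 LD3_c19) (LK LD1_c5 LD2_c23 LD3_c33) Lrfl Lrfl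
theorem f169232 : Led Lsl_gt (LP (LK LD1_c5 LD2_c23 LD3_c33)) = (LP (LK LD1_c10 LD2_c37 LD3_c35)) :=
  Lre_g IH (LK LD1_c5 LD2_c23 LD3_c33) (LK LD1_c10 LD2_c37 LD3_c35) Lrfl Lrfl
theorem f238825 : Led Lsl_df (LP (LK LD1_c14 LD2_c58 LD3_c29)) = (LP (LK LD1_c10 LD2_c37 LD3_c35)) :=
  Lgr Lrot183 (Lpr_ct (f197439 IH) (Lpr_bt (f238824 IH) (Lpr_gt (K13.f238822 IH) (Lpr_dt (K13.f173290 IH) (Lpe (K13.f173286 IH) (Lpr_bt (K13.f172038 IH) (Lpr_gt (K13.f229300 IH) (Lpr_dt (K10.f20742 IH) (Lpr_ct (K13.f197398 IH) (Lpr_bt (K11.f200633 IH) (Lpr_gt (K11.f28164 IH) (Lpe (K11.f52234 IH) (Lpr_ct (K11.f28129 IH) (Lpr_bt (K12.f196560 IH) (Lpe (K12.f194623 IH) (Lpr_dt (K15.f169256 IH) (Lpr_ct (K12.f169161 IH) (Lpr_bt (f169162 IH) (Lpr_gt (f169232 IH) (Lpn (LP (LK LD1_c10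 LD2_c37 LD3_c35))))))))))))))))))))))
theorem f238830 : Led Lsl_dt (LP (LK LD1_c14 LD2_c58 LD3_c29)) = (LP (LK LD1_c10 LD2_c37 LD3_c35)) :=
  Lgr Lrot42 (Lpr_df (f238825 IH) (Lpn (LP (LK LD1_c10 LD2_c37 LD3_c35))))
theorem f221559 : Led Lsl_bt (LP (LK LD1_c10 LD2_c37 LD3_c35)) = (LP (LK LD1_c19 LD2_c14 LD3_c57)) :=
  Lre_b IH (LK LD1_c10 LD2_c37 LD3_c35) (LK LD1_c19 LD2_c14 LD3_c57) Lrfl Lrfl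
theorem f280030 : Led Lsl_dt (LP (LK LD1_c19 LD2_c14 LD3_c57)) = (LP (LK LD1_c24 LD2_c45 LD3_c7)) :=
  Lgr Lrot79 (Lpe (f221559 IH) (Lpe (f238830 IH) (Lpr_bf (f280028 IH) (Lpn (LP (LK LD1_c24 LD2_c45 LD3_c7))))))
theorem f220761 : Led Lsl_bt (LP (LK LD1_c19 LD2_c14 LD3_c57)) = (LP (LK LD1_c10 LD2_c37 LD3_c35)) :=
  Lre_b IH (LK LD1_c19 LD2_c14 LD3_c57) (LK LD1_c10 LD2_c37 LD3_c35) Lrfl Lrfl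
theorem f188711 : Led Lsl_bt (LP (LK LD1_c9 LD2_c40 LD3_c36)) = (LP (LK LD1_c4 LD2_c54 LD3_c30)) :=
  Lre_b IH (LK LD1_c9 LD2_c40 LD3_c36) (LK LD1_c4 LD2_c54 LD3_c30) Lrfl Lrfl
theorem f41910 : Led Lsl_bt (LP (LK LD1_c4 LD2_c54 LD3_c30)) = (LP (LK LD1_c9 LD2_c40 LD3_c36)) :=
  Lre_b IH (LK LD1_c4 LD2_c54 LD3_c30) (LK LD1_c9 LD2_c40 LD3_c36) Lrfl Lrfl
theorem f188562 : Led Lsl_bt (LP (LK LD1_c8 LD2_c26 LD3_c35)) = (LP (LK LD1_c4 LD2_c13 LD3_c61)) :=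
  Lre_b IH (LK LD1_c8 LD2_c26 LD3_c35) (LK LD1_c4 LD2_c13 LD3_c61) Lrfl Lrfl
theorem f188563 : Led Lsl_ct (LP (LK LD1_c9 LD2_c40 LD3_c36)) = (LP (LK LD1_c8 LD2_c26 LD3_c35)) :=
  Lgr Lrot83 (Lpe (f41910 IH) (Lpe (K12.f41909 IH) (Lpr_bf (K10.f188557 IH) (Lpe (K15.f188561 IH) (Lpe (f188562 IH) (Lpn (LP (LK LD1_c8 LD2_c26 LD3_c35))))))))
theorem f188712 : Led Lsl_gt (LP (LK LD1_c15 LD2_c51 LD3_c24)) = (LP (LK LD1_c8 LD2_c26 LD3_c35)) :=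
  Lre_g IH (LK LD1_c15 LD2_c51 LD3_c24) (LK LD1_c8 LD2_c26 LD3_c35) Lrfl Lrfl
theorem f221556 : Led Lsl_ct (LP (LK LD1_c19 LD2_c14 LD3_c57)) = (LP (LK LD1_c15 LD2_c51 LD3_c24)) :=
  Lgr Lrot64 (Lpr_bt (f220761 IH) (Lpe (f169232 IH) (Lpe (f169162 IH) (Lpr_ct (K13.f169228 IH) (Lpe (K13.f220758 IH) (Lpe (K13.f196623 IH) (Lpr_gf (K13.f221554 IH) (Lpe (f188711 IH) (Lpr_ct (f188563 IH) (Lpe (f188712 IH) (Lpn (LP (LK LD1_c15 LD2_c51 LD3_c24)))))))))))))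
theorem f221564 : Led Lsl_cf (LP (LK LD1_c19 LD2_c14 LD3_c57)) = (LP (LK LD1_c15 LD2_c51 LD3_c24)) :=
  Lgr Lrot11 (Lpr_ct (f221556 IH) (Lpn (LP (LK LD1_c15 LD2_c51 LD3_c24))))
theorem f188717 : Led Lsl_dt (LP (LK LD1_c25 LD2_c47 LD3_c15)) = (LP (LK LD1_c15 LD2_c51 LD3_c24)) :=
  Lre_d IH (LK LD1_c25 LD2_c47 LD3_c15) (LK LD1_c15 LD2_c51 LD3_c24) Lrfl Lrfl
theorem f213221 : Led Lsl_at (LP (LK LD1_c25 LD2_c35 LD3_c12)) = (LP (LK LD1_c15 LD2_c39 LD3_c57)) :=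
  Lre_a IH (LK LD1_c25 LD2_c35 LD3_c12) (LK LD1_c15 LD2_c39 LD3_c57) Lrfl Lrfl
theorem f280036 : Led Lsl_ft (LP (LK LD1_c25 LD2_c47 LD3_c15)) = (LP (LK LD1_c25 LD2_c35 LD3_c12)) :=
  Lgr Lrot142 (Lpr_dt (f188717 IH) (Lpe (f221564 IH) (Lpr_dt (f280030 IH) (Lpr_ct (f236679 IH) (Lpr_dt (f236620 IH) (Lpe (f236670 IH) (Lpr_dt (f213223 IH) (Lpr_ct (f213176 IH) (Lpe (f213221 IH) (Lpn (LP (LK LD1_c25 LD2_c35 LD3_c12))))))))))))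
theorem f279995 : Led Lsl_dt (LP (LK LD1_c15 LD2_c34 LD3_c10)) = (LP (LK LD1_c25 LD2_c27 LD3_c55)) :=
  Lre_d IH (LK LD1_c15 LD2_c34 LD3_c10) (LK LD1_c25 LD2_c27 LD3_c55) Lrfl Lrfl
theorem f280032 : Led Lsl_cf (LP (LK LD1_c25 LD2_c47 LD3_c15)) = (LP (LK LD1_c25 LD2_c27 LD3_c55)) :=
  Lgr Lrot55 (Lpr_dt (f188717 IH) (Lpe (f221564 IH) (Lpr_dt (f280030 IH) (Lpr_ct (f236679 IH) (Lpr_dt (f236620 IH) (Lpe (f236670 IH) (Lpr_dt (f213223 IH) (Lpr_ct (f213176 IH) (Lpr_dt (f261988 IH) (Lpr_ct (f188710 IH) (Lpr_dt (f279993 IH) (Lpr_ct (f279992 IH) (Lpr_dt (f279991 IH) (Lpr_ct (f279969 IH) (Lpr_dt (f279995 IH) (Lpn (LP (LK LD1_c25 LD2_c27 LD3_c55))))))))))))))))))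
theorem f236718 : Led Lsl_ct (LP (LK LD1_c25 LD2_c35 LD3_c12)) = (LP (LK LD1_c15 LD2_c39 LD3_c53)) :=
  Lre_c IH (LK LD1_c25 LD2_c35 LD3_c12) (LK LD1_c15 LD2_c39 LD3_c53) Lrfl Lrfl
theorem f280072 : Led Lsl_ff (LP (LK LD1_c25 LD2_c27 LD3_c55)) = (LP (LK LD1_c15 LD2_c39 LD3_c53)) :=
  Lgr Lrot23 (Lpe (f280032 IH) (Lpr_ft (f280036 IH) (Lpr_ct (f236718 IH) (Lpn (LP (LK LD1_c15 LD2_c39 LD3_c53))))))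
theorem f280076 : Led Lsl_ft (LP (LK LD1_c25 LD2_c27 LD3_c55)) = (LP (LK LD1_c15 LD2_c39 LD3_c53)) :=
  Lgr Lrot48 (Lpr_ff (f280072 IH) (Lpn (LP (LK LD1_c15 LD2_c39 LD3_c53))))
theorem f236717 : Led Lsl_dt (LP (LK LD1_c15 LD2_c39 LD3_c53)) = (LP (LK LD1_c8 LD2_c19 LD3_c34)) :=
  Lre_d IH (LK LD1_c15 LD2_c39 LD3_c53) (LK LD1_c8 LD2_c19 LD3_c34) Lrfl Lrfl
theorem f280083 : Led Lsl_ff (LP (LK LD1_c15 LD2_c34 LD3_c10)) = (LP (LK LD1_c8 LD2_c19 LD3_c34)) :=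
  Lgr Lrot19 (Lpr_dt (f279995 IH) (Lpr_ft (f280076 IH) (Lpr_dt (f236717 IH) (Lpn (LP (LK LD1_c8 LD2_c19 LD3_c34))))))
theorem f279912 : Led Lsl_at (LP (LK LD1_c8 LD2_c41 LD3_c47)) = (LP (LK LD1_c4 LD2_c22 LD3_c0)) :=
  Lre_a IH (LK LD1_c8 LD2_c41 LD3_c47) (LK LD1_c4 LD2_c22 LD3_c0) Lrfl Lrfl
theorem f279914 : Led Lsl_cf (LP (LK LD1_c8 LD2_c41 LD3_c47)) = (LP (LK LD1_c15 LD2_c34 LD3_c10)) :=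
  Lgr Lrot1 (Lpr_at (f279912 IH) (Lpr_ct (f279909 IH) (Lpr_at (f279913 IH) (Lpn (LP (LK LD1_c15 LD2_c34 LD3_c10))))))
theorem f236675 : Led Lsl_at (LP (LK LD1_c4 LD2_c9 LD3_c44)) = (LP (LK LD1_c8 LD2_c19 LD3_c34)) :=
  Lre_a IH (LK LD1_c4 LD2_c9 LD3_c44) (LK LD1_c8 LD2_c19 LD3_c34) Lrfl Lrfl
theorem f236676 : Led Lsl_at (LP (LK LD1_c14 LD2_c57 LD3_c42)) = (LP (LK LD1_c7 LD2_c55 LD3_c53)) :=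
  Lre_a IH (LK LD1_c14 LD2_c57 LD3_c42) (LK LD1_c7 LD2_c55 LD3_c53) Lrfl Lrfl
theorem f236677 : Led Lsl_ct (LP (LK LD1_c8 LD2_c19 LD3_c34)) = (LP (LK LD1_c14 LD2_c57 LD3_c42)) :=
  Lgr Lrot111 (Lpe (f236675 IH) (Lpr_cf (f236670 IH) (Lpe (f236676 IH) (Lpn (LP (LK LD1_c14 LD2_c57 LD3_c42))))))
theorem f236715 : Led Lsl_cf (LP (LK LD1_c8 LD2_c19 LD3_c34)) = (LP (LK LD1_c14 LD2_c57 LD3_c42)) :=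
  Lgr Lrot11 (Lpr_ct (f236677 IH) (Lpn (LP (LK LD1_c14 LD2_c57 LD3_c42))))
theorem f280088 : Led Lsl_ft (LP (LK LD1_c8 LD2_c41 LD3_c47)) = (LP (LK LD1_c14 LD2_c57 LD3_c42)) :=
  Lgr Lrot4 (Lpr_cf (f279914 IH) (Lpr_ff (f280083 IH) (Lpr_cf (f236715 IH) (Lpn (LP (LK LD1_c14 LD2_c57 LD3_c42))))))
theorem f280092 : Led Lsl_ff (LP (LK LD1_c8 LD2_c41 LD3_c47)) = (LP (LK LD1_c14 LD2_c57 LD3_c42)) :=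
  Lgr Lrot3 (Lpr_ft (f280088 IH) (Lpn (LP (LK LD1_c14 LD2_c57 LD3_c42))))
theorem f43202 : Led Lsl_bt (LP (LK LD1_c7 LD2_c55 LD3_c51)) = (LP (LK LD1_c3 LD2_c57 LD3_c5)) :=
  Lre_b IH (LK LD1_c7 LD2_c55 LD3_c51) (LK LD1_c3 LD2_c57 LD3_c5) Lrfl Lrfl
theorem f241663 : Led Lsl_at (LP (LK LD1_c14 LD2_c57 LD3_c36)) = (LP (LK LD1_c7 LD2_c55 LD3_c51)) :=
  Lre_a IH (LK LD1_c14 LD2_c57 LD3_c36) (LK LD1_c7 LD2_c55 LD3_c51) Lrfl Lrfl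
theorem f241665 : Led Lsl_bf (LP (LK LD1_c14 LD2_c57 LD3_c36)) = (LP (LK LD1_c8 LD2_c41 LD3_c47)) :=
  Lgr Lrot81 (Lpr_at (f241663 IH) (Lpr_bt (f43202 IH) (Lpr_at (K13.f241659 IH) (Lpr_bt (K15.f200406 IH) (Lpr_at (f241664 IH) (Lpn (LP (LK LD1_c8 LD2_c41 LD3_c47))))))))
theorem f229264 : Led Lsl_bt (LP (LK LD1_c2 LD2_c8 LD3_c30)) = (LP (LK LD1_c4 LD2_c22 LD3_c3)) :=
  Lre_b IH (LK LD1_c2 LD2_c8 LD3_c30) (LK LD1_c4 LD2_c22 LD3_c3) Lrfl Lrfl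
theorem f279412 : Led Lsl_at (LP (LK LD1_c4 LD2_c22 LD3_c3)) = (LP (LK LD1_c8 LD2_c41 LD3_c55)) :=
  Lre_a IH (LK LD1_c4 LD2_c22 LD3_c3) (LK LD1_c8 LD2_c41 LD3_c55) Lrfl Lrfl
theorem f279413 : Led Lsl_bt (LP (LK LD1_c8 LD2_c41 LD3_c55)) = (LP (LK LD1_c14 LD2_c57 LD3_c42)) :=
  Lgr Lrot62 (Lpe (f279412 IH) (Lpe (f229264 IH) (Lpr_af (f279408 IH) (Lpe (f39274 IH) (Lpe (f236676 IH) (Lpn (LP (LK LD1_c14 LD2_c57 LD3_c42))))))))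
theorem f280097 : Led Lsl_ft (LP (LK LD1_c14 LD2_c57 LD3_c36)) = (LP (LK LD1_c8 LD2_c41 LD3_c55)) :=
  Lgr Lrot75 (Lpr_bf (f241665 IH) (Lpr_ff (f280092 IH) (Lpe (f279413 IH) (Lpn (LP (LK LD1_c8 LD2_c41 LD3_c55))))))
theorem f280106 : Led Lsl_at (LP (LK LD1_c7 LD2_c55 LD3_c51)) = (LP (LK LD1_c14 LD2_c57 LD3_c36)) :=
  Lre_a IH (LK LD1_c7 LD2_c55 LD3_c51) (LK LD1_c14 LD2_c57 LD3_c36) Lrfl Lrfl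
theorem f280107 : Led Lsl_at (LP (LK LD1_c8 LD2_c41 LD3_c55)) = (LP (LK LD1_c4 LD2_c22 LD3_c3)) :=
  Lre_a IH (LK LD1_c8 LD2_c41 LD3_c55) (LK LD1_c4 LD2_c22 LD3_c3) Lrfl Lrfl
theorem f280108 : Led Lsl_ff (LP (LK LD1_c7 LD2_c55 LD3_c51)) = (LP (LK LD1_c4 LD2_c22 LD3_c3)) :=
  Lgr Lrot30 (Lpr_at (f280106 IH) (Lpr_ft (f280097 IH) (Lpr_at (f280107 IH) (Lpn (LP (LK LD1_c4 LD2_c22 LD3_c3))))))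
theorem f236490 : Led Lsl_bt (LP (LK LD1_c3 LD2_c57 LD3_c5)) = (LP (LK LD1_c7 LD2_c55 LD3_c51)) :=
  Lre_b IH (LK LD1_c3 LD2_c57 LD3_c5) (LK LD1_c7 LD2_c55 LD3_c51) Lrfl Lrfl
theorem f172753 : Led Lsl_bt (LP (LK LD1_c9 LD2_c45 LD3_c5)) = (LP (LK LD1_c4 LD2_c56 LD3_c59)) :=
  Lre_b IH (LK LD1_c9 LD2_c45 LD3_c5) (LK LD1_c4 LD2_c56 LD3_c59) Lrfl Lrfl
theorem f238854 : Led Lsl_dt (LP (LK LD1_c7 LD2_c55 LD3_c51)) = (LP (LK LD1_c9 LD2_c45 LD3_c5)) :=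
  Lgr Lrot79 (Lpe (f236490 IH) (Lpr_df (K13.f238844 IH) (Lpe (f172753 IH) (Lpn (LP (LK LD1_c9 LD2_c45 LD3_c5))))))
theorem f237563 : Led Lsl_dt (LP (LK LD1_c8 LD2_c41 LD3_c57)) = (LP (LK LD1_c4 LD2_c22 LD3_c3)) :=
  Lre_d IH (LK LD1_c8 LD2_c41 LD3_c57) (LK LD1_c4 LD2_c22 LD3_c3) Lrfl Lrfl
theorem f280126 : Led Lsl_ft (LP (LK LD1_c9 LD2_c45 LD3_c5)) = (LP (LK LD1_c8 LD2_c41 LD3_c57)) :=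
  Lgr Lrot54 (Lpe (f238854 IH) (Lpr_ff (f280108 IH) (Lpe (f237563 IH) (Lpn (LP (LK LD1_c8 LD2_c41 LD3_c57))))))
theorem f172709 : Led Lsl_bt (LP (LK LD1_c0 LD2_c32 LD3_c41)) = (LP (LK LD1_c1 LD2_c10 LD3_c31)) :=
  Lre_b IH (LK LD1_c0 LD2_c32 LD3_c41) (LK LD1_c1 LD2_c10 LD3_c31) Lrfl Lrfl
theorem f172722 : Led Lsl_bt (LP (LK LD1_c1 LD2_c20 LD3_c2)) = (LP (LK LD1_c0 LD2_c37 LD3_c2)) :=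
  Lre_b IH (LK LD1_c1 LD2_c20 LD3_c2) (LK LD1_c0 LD2_c37 LD3_c2) Lrfl Lrfl
theorem f172723 : Led Lsl_ct (LP (LK LD1_c2 LD2_c47 LD3_c22)) = (LP (LK LD1_c1 LD2_c20 LD3_c2)) :=
  Lre_c IH (LK LD1_c2 LD2_c47 LD3_c22) (LK LD1_c1 LD2_c20 LD3_c2) Lrfl Lrfl
theorem f172724 : Led Lsl_bt (LP (LK LD1_c2 LD2_c26 LD3_c25)) = (LP (LK LD1_c2 LD2_c47 LD3_c22)) :=
  Lgr Lrot128 (Lpe (K13.f172721 IH) (Lpe (f172709 IH) (Lpr_cf (K11.f172699 IH) (Lpe (f172722 IH) (Lpe (f172723 IH) (Lpn (LP (LK LD1_c2 LD2_c47 LD3_c22))))))))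
theorem f172732 : Led Lsl_et (LP (LK LD1_c2 LD2_c47 LD3_c22)) = (LP (LK LD1_c1 LD2_c20 LD3_c0)) :=
  Lre_e IH (LK LD1_c2 LD2_c47 LD3_c22) (LK LD1_c1 LD2_c20 LD3_c0) Lrfl Lrfl
theorem f172733 : Led Lsl_bf (LP (LK LD1_c1 LD2_c10 LD3_c30)) = (LP (LK LD1_c1 LD2_c20 LD3_c0)) :=
  Lgr Lrot96 (Lpr_et (K13.f172731 IH) (Lpr_bt (f172724 IH) (Lpr_et (f172732 IH) (Lpn (LP (LK LD1_c1 LD2_c20 LD3_c0))))))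
theorem f172742 : Led Lsl_dt (LP (LK LD1_c2 LD2_c47 LD3_c21)) = (LP (LK LD1_c1 LD2_c20 LD3_c0)) :=
  Lre_d IH (LK LD1_c2 LD2_c47 LD3_c21) (LK LD1_c1 LD2_c20 LD3_c0) Lrfl Lrfl
theorem f172743 : Led Lsl_bt (LP (LK LD1_c2 LD2_c26 LD3_c24)) = (LP (LK LD1_c2 LD2_c47 LD3_c21)) :=
  Lgr Lrot95 (Lpe (K13.f172741 IH) (Lpr_bf (f172733 IH) (Lpe (f172742 IH) (Lpn (LP (LK LD1_c2 LD2_c47 LD3_c21))))))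
theorem f172754 : Led Lsl_ct (LP (LK LD1_c2 LD2_c47 LD3_c21)) = (LP (LK LD1_c5 LD2_c42 LD3_c44)) :=
  Lre_c IH (LK LD1_c2 LD2_c47 LD3_c21) (LK LD1_c5 LD2_c42 LD3_c44) Lrfl Lrfl
theorem f172755 : Led Lsl_bt (LP (LK LD1_c5 LD2_c42 LD3_c44)) = (LP (LK LD1_c11 LD2_c15 LD3_c41)) :=
  Lre_b IH (LK LD1_c5 LD2_c42 LD3_c44) (LK LD1_c11 LD2_c15 LD3_c41) Lrfl Lrfl
theorem f172756 : Led Lsl_cf (LP (LK LD1_c9 LD2_c45 LD3_c5)) = (LP (LK LD1_c11 LD2_c15 LD3_c41)) :=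
  Lgr Lrot97 (Lpr_bt (f172753 IH) (Lpr_ct (K13.f172752 IH) (Lpr_bt (f172743 IH) (Lpr_ct (f172754 IH) (Lpr_bt (f172755 IH) (Lpn (LP (LK LD1_c11 LD2_c15 LD3_c41))))))))
theorem f236586 : Led Lsl_ct (LP (LK LD1_c8 LD2_c41 LD3_c57)) = (LP (LK LD1_c16 LD2_c17 LD3_c41)) :=
  Lre_c IH (LK LD1_c8 LD2_c41 LD3_c57) (LK LD1_c16 LD2_c17 LD3_c41) Lrfl Lrfl
theorem f280138 : Led Lsl_ff (LP (LK LD1_c11 LD2_c15 LD3_c41)) = (LP (LK LD1_c16 LD2_c17 LD3_c41)) :=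
  Lgr Lrot23 (Lpe (f172756 IH) (Lpr_ft (f280126 IH) (Lpr_ct (f236586 IH) (Lpn (LP (LK LD1_c16 LD2_c17 LD3_c41))))))
theorem f172816 : Led Lsl_bt (LP (LK LD1_c11 LD2_c15 LD3_c41)) = (LP (LK LD1_c5 LD2_c42 LD3_c44)) :=
  Lre_b IH (LK LD1_c11 LD2_c15 LD3_c41) (LK LD1_c5 LD2_c42 LD3_c44) Lrfl Lrfl
theorem f236582 : Led Lsl_bt (LP (LK LD1_c2 LD2_c8 LD3_c53)) = (LP (LK LD1_c4 LD2_c22 LD3_c54)) :=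
  Lre_b IH (LK LD1_c2 LD2_c8 LD3_c53) (LK LD1_c4 LD2_c22 LD3_c54) Lrfl Lrfl
theorem f181739 : Led Lsl_ct (LP (LK LD1_c4 LD2_c22 LD3_c54)) = (LP (LK LD1_c8 LD2_c43 LD3_c38)) :=
  Lre_c IH (LK LD1_c4 LD2_c22 LD3_c54) (LK LD1_c8 LD2_c43 LD3_c38) Lrfl Lrfl
theorem f236585 : Led Lsl_bt (LP (LK LD1_c8 LD2_c41 LD3_c57)) = (LP (LK LD1_c4 LD2_c22 LD3_c4)) :=
  Lre_b IH (LK LD1_c8 LD2_c41 LD3_c57) (LK LD1_c4 LD2_c22 LD3_c4) Lrfl Lrfl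
theorem f237241 : Led Lsl_ct (LP (LK LD1_c16 LD2_c17 LD3_c41)) = (LP (LK LD1_c8 LD2_c41 LD3_c57)) :=
  Lre_c IH (LK LD1_c16 LD2_c17 LD3_c41) (LK LD1_c8 LD2_c41 LD3_c57) Lrfl Lrfl
theorem f237266 : Led Lsl_bt (LP (LK LD1_c8 LD2_c43 LD3_c38)) = (LP (LK LD1_c16 LD2_c17 LD3_c41)) :=
  Lgr Lrot128 (Lpe (f181739 IH) (Lpe (f236582 IH) (Lpr_cf (K13.f237250 IH) (Lpe (f236585 IH) (Lpe (f237241 IH) (Lpn (LP (LK LD1_c16 LD2_c17 LD3_c41))))))))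
theorem f280146 : Led Lsl_ft (LP (LK LD1_c5 LD2_c42 LD3_c44)) = (LP (LK LD1_c8 LD2_c43 LD3_c38)) :=
  Lgr Lrot75 (Lpe (f172816 IH) (Lpr_ff (f280138 IH) (Lpe (f237266 IH) (Lpn (LP (LK LD1_c8 LD2_c43 LD3_c38))))))
theorem f269673 : Led Lsl_dt (LP (LK LD1_c5 LD2_c42 LD3_c44)) = (LP (LK LD1_c11 LD2_c15 LD3_c42)) :=
  Lre_d IH (LK LD1_c5 LD2_c42 LD3_c44) (LK LD1_c11 LD2_c15 LD3_c42) Lrfl Lrfl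
theorem f181775 : Led Lsl_at (LP (LK LD1_c8 LD2_c43 LD3_c38)) = (LP (LK LD1_c16 LD2_c20 LD3_c35)) :=
  Lre_a IH (LK LD1_c8 LD2_c43 LD3_c38) (LK LD1_c16 LD2_c20 LD3_c35) Lrfl Lrfl
theorem f181773 : Led Lsl_ct (LP (LK LD1_c8 LD2_c43 LD3_c35)) = (LP (LK LD1_c16 LD2_c20 LD3_c35)) :=
  Lre_c IH (LK LD1_c8 LD2_c43 LD3_c35) (LK LD1_c16 LD2_c20 LD3_c35) Lrfl Lrfl
theorem f181772 : Led Lsl_dt (LP (LK LD1_c4 LD2_c22 LD3_c53)) = (LP (LK LD1_c8 LD2_c43 LD3_c35)) :=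
  Lre_d IH (LK LD1_c4 LD2_c22 LD3_c53) (LK LD1_c8 LD2_c43 LD3_c35) Lrfl Lrfl
theorem f181715 : Led Lsl_bt (LP (LK LD1_c4 LD2_c22 LD3_c55)) = (LP (LK LD1_c2 LD2_c8 LD3_c54)) :=
  Lre_b IH (LK LD1_c4 LD2_c22 LD3_c55) (LK LD1_c2 LD2_c8 LD3_c54) Lrfl Lrfl
theorem f180268 : Led Lsl_bt (LP (LK LD1_c1 LD2_c3 LD3_c41)) = (LP (LK LD1_c2 LD2_c13 LD3_c11)) :=
  Lre_b IH (LK LD1_c1 LD2_c3 LD3_c41) (LK LD1_c2 LD2_c13 LD3_c11) Lrfl Lrfl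
theorem f181716 : Led Lsl_cf (LP (LK LD1_c4 LD2_c22 LD3_c55)) = (LP (LK LD1_c2 LD2_c13 LD3_c11)) :=
  Lgr Lrot97 (Lpr_bt (f181715 IH) (Lpr_ct (K13.f80958 IH) (Lpr_bt (K10.f181412 IH) (Lpe (K10.f180350 IH) (Lpr_bt (f180268 IH) (Lpn (LP (LK LD1_c2 LD2_c13 LD3_c11))))))))
theorem f181719 : Led Lsl_ct (LP (LK LD1_c4 LD2_c22 LD3_c55)) = (LP (LK LD1_c2 LD2_c13 LD3_c11)) :=
  Lgr Lrot59 (Lpr_cf (f181716 IH) (Lpn (LP (LK LD1_c2 LD2_c13 LD3_c11))))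
theorem f181729 : Led Lsl_et (LP (LK LD1_c2 LD2_c8 LD3_c52)) = (LP (LK LD1_c4 LD2_c22 LD3_c55)) :=
  Lre_e IH (LK LD1_c2 LD2_c8 LD3_c52) (LK LD1_c4 LD2_c22 LD3_c55) Lrfl Lrfl
theorem f181730 : Led Lsl_et (LP (LK LD1_c2 LD2_c13 LD3_c11)) = (LP (LK LD1_c1 LD2_c3 LD3_c39)) :=
  Lre_e IH (LK LD1_c2 LD2_c13 LD3_c11) (LK LD1_c1 LD2_c3 LD3_c39) Lrfl Lrfl
theorem f181731 : Led Lsl_cf (LP (LK LD1_c2 LD2_c8 LD3_c52)) = (LP (LK LD1_c1 LD2_c3 LD3_c39)) :=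
  Lgr Lrot39 (Lpr_et (f181729 IH) (Lpr_ct (f181719 IH) (Lpr_et (f181730 IH) (Lpn (LP (LK LD1_c1 LD2_c3 LD3_c39))))))
theorem f181733 : Led Lsl_at (LP (LK LD1_c2 LD2_c8 LD3_c52)) = (LP (LK LD1_c4 LD2_c22 LD3_c53)) :=
  Lre_a IH (LK LD1_c2 LD2_c8 LD3_c52) (LK LD1_c4 LD2_c22 LD3_c53) Lrfl Lrfl
theorem f181734 : Led Lsl_at (LP (LK LD1_c2 LD2_c13 LD3_c9)) = (LP (LK LD1_c1 LD2_c3 LD3_c39)) :=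
  Lre_a IH (LK LD1_c2 LD2_c13 LD3_c9) (LK LD1_c1 LD2_c3 LD3_c39) Lrfl Lrfl
theorem f181735 : Led Lsl_ct (LP (LK LD1_c4 LD2_c22 LD3_c53)) = (LP (LK LD1_c2 LD2_c13 LD3_c9)) :=
  Lgr Lrot111 (Lpe (f181733 IH) (Lpr_cf (f181731 IH) (Lpe (f181734 IH) (Lpn (LP (LK LD1_c2 LD2_c13 LD3_c9))))))
theorem f181762 : Led Lsl_cf (LP (LK LD1_c4 LD2_c22 LD3_c53)) = (LP (LK LD1_c2 LD2_c13 LD3_c9)) :=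
  Lgr Lrot11 (Lpr_ct (f181735 IH) (Lpn (LP (LK LD1_c2 LD2_c13 LD3_c9))))
theorem f181770 : Led Lsl_dt (LP (LK LD1_c4 LD2_c32 LD3_c12)) = (LP (LK LD1_c2 LD2_c13 LD3_c9)) :=
  Lre_d IH (LK LD1_c4 LD2_c32 LD3_c12) (LK LD1_c2 LD2_c13 LD3_c9) Lrfl Lrfl
theorem f181771 : Led Lsl_ct (LP (LK LD1_c9 LD2_c2 LD3_c1)) = (LP (LK LD1_c4 LD2_c32 LD3_c12)) :=
  Lre_c IH (LK LD1_c9 LD2_c2 LD3_c1) (LK LD1_c4 LD2_c32 LD3_c12) Lrfl Lrfl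
theorem f181774 : Led Lsl_dt (LP (LK LD1_c16 LD2_c52 LD3_c2)) = (LP (LK LD1_c9 LD2_c2 LD3_c1)) :=
  Lre_d IH (LK LD1_c16 LD2_c52 LD3_c2) (LK LD1_c9 LD2_c2 LD3_c1) Lrfl Lrfl
theorem f280270 : Led Lsl_ct (LP (LK LD1_c11 LD2_c15 LD3_c42)) = (LP (LK LD1_c16 LD2_c52 LD3_c2)) :=
  Lgr Lrot133 (Lpe (f269673 IH) (Lpr_ft (f280146 IH) (Lpr_at (f181775 IH) (Lpe (f181773 IH) (Lpe (f181772 IH) (Lpr_cf (f181762 IH) (Lpe (f181770 IH) (Lpe (f181771 IH) (Lpe (f181774 IH) (Lpn (LP (LK LD1_c16 LD2_c52 LD3_c2))))))))))))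
theorem f172833 : Led Lsl_dt (LP (LK LD1_c1 LD2_c20 LD3_c0)) = (LP (LK LD1_c2 LD2_c47 LD3_c21)) :=
  Lre_d IH (LK LD1_c1 LD2_c20 LD3_c0) (LK LD1_c2 LD2_c47 LD3_c21) Lrfl Lrfl
theorem f172462 : Led Lsl_ct (LP (LK LD1_c0 LD2_c37 LD3_c0)) = (LP (LK LD1_c1 LD2_c20 LD3_c0)) :=
  Lre_c IH (LK LD1_c0 LD2_c37 LD3_c0) (LK LD1_c1 LD2_c20 LD3_c0) Lrfl Lrfl
theorem f172745 : Led Lsl_dt (LP (LK LD1_c1 LD2_c20 LD3_c1)) = (LP (LK LD1_c0 LD2_c37 LD3_c0)) :=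
  Lre_d IH (LK LD1_c1 LD2_c20 LD3_c1) (LK LD1_c0 LD2_c37 LD3_c0) Lrfl Lrfl
theorem f280287 : Led Lsl_at (LP (LK LD1_c2 LD2_c13 LD3_c10)) = (LP (LK LD1_c4 LD2_c32 LD3_c12)) :=
  Lre_a IH (LK LD1_c2 LD2_c13 LD3_c10) (LK LD1_c4 LD2_c32 LD3_c12) Lrfl Lrfl
theorem f280288 : Led Lsl_ft (LP (LK LD1_c1 LD2_c20 LD3_c1)) = (LP (LK LD1_c2 LD2_c13 LD3_c10)) :=
  Lgr Lrot142 (Lpr_dt (f172745 IH) (Lpr_ct (f172462 IH) (Lpr_dt (f172833 IH) (Lpr_ct (f172754 IH) (Lpr_dt (f269673 IH) (Lpr_ct (f280270 IH) (Lpr_dt (f181774 IH) (Lpr_ct (f181771 IH) (Lpe (f280287 IH) (Lpn (LP (LK LD1_c2 LD2_c13 LD3_c10))))))))))))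
theorem f280295 : Led Lsl_et (LP (LK LD1_c2 LD2_c47 LD3_c26)) = (LP (LK LD1_c1 LD2_c20 LD3_c1)) :=
  Lre_e IH (LK LD1_c2 LD2_c47 LD3_c26) (LK LD1_c1 LD2_c20 LD3_c1) Lrfl Lrfl
theorem f280296 : Led Lsl_ft (LP (LK LD1_c5 LD2_c42 LD3_c60)) = (LP (LK LD1_c2 LD2_c47 LD3_c26)) :=
  Lre_f IH (LK LD1_c5 LD2_c42 LD3_c60) (LK LD1_c2 LD2_c47 LD3_c26) Lrfl Lrfl
theorem f280297 : Led Lsl_et (LP (LK LD1_c2 LD2_c13 LD3_c10)) = (LP (LK LD1_c4 LD2_c32 LD3_c15)) :=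
  Lre_e IH (LK LD1_c2 LD2_c13 LD3_c10) (LK LD1_c4 LD2_c32 LD3_c15) Lrfl Lrfl
theorem f280298 : Led Lsl_ft (LP (LK LD1_c4 LD2_c32 LD3_c15)) = (LP (LK LD1_c9 LD2_c2 LD3_c12)) :=
  Lre_f IH (LK LD1_c4 LD2_c32 LD3_c15) (LK LD1_c9 LD2_c2 LD3_c12) Lrfl Lrfl
theorem f280299 : Led Lsl_ef (LP (LK LD1_c5 LD2_c42 LD3_c60)) = (LP (LK LD1_c9 LD2_c2 LD3_c12)) :=
  Lgr Lrot21 (Lpr_ft (f280296 IH) (Lpr_et (f280295 IH) (Lpr_ft (f280288 IH) (Lpr_et (f280297 IH) (Lpr_ft (f280298 IH) (Lpn (LP (LK LD1_c9 LD2_c2 LD3_c12))))))))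
theorem f280326 : Led Lsl_et (LP (LK LD1_c5 LD2_c42 LD3_c60)) = (LP (LK LD1_c9 LD2_c2 LD3_c12)) :=
  Lgr Lrot87 (Lpr_ef (f280299 IH) (Lpn (LP (LK LD1_c9 LD2_c2 LD3_c12))))
theorem f280336 : Led Lsl_ct (LP (LK LD1_c11 LD2_c16 LD3_c9)) = (LP (LK LD1_c5 LD2_c42 LD3_c60)) :=
  Lre_c IH (LK LD1_c11 LD2_c16 LD3_c9) (LK LD1_c5 LD2_c42 LD3_c60) Lrfl Lrfl
theorem f280337 : Led Lsl_ct (LP (LK LD1_c9 LD2_c2 LD3_c12)) = (LP (LK LD1_c16 LD2_c52 LD3_c21)) :=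
  Lre_c IH (LK LD1_c9 LD2_c2 LD3_c12) (LK LD1_c16 LD2_c52 LD3_c21) Lrfl Lrfl
theorem f280338 : Led Lsl_ef (LP (LK LD1_c11 LD2_c16 LD3_c9)) = (LP (LK LD1_c16 LD2_c52 LD3_c21)) :=
  Lgr Lrot28 (Lpr_ct (f280336 IH) (Lpr_et (f280326 IH) (Lpr_ct (f280337 IH) (Lpn (LP (LK LD1_c16 LD2_c52 LD3_c21))))))
theorem f280349 : Led Lsl_ft (LP (LK LD1_c11 LD2_c16 LD3_c9)) = (LP (LK LD1_c5 LD2_c42 LD3_c56)) :=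
  Lre_f IH (LK LD1_c11 LD2_c16 LD3_c9) (LK LD1_c5 LD2_c42 LD3_c56) Lrfl Lrfl
theorem f280350 : Led Lsl_et (LP (LK LD1_c5 LD2_c42 LD3_c56)) = (LP (LK LD1_c2 LD2_c47 LD3_c25)) :=
  Lre_e IH (LK LD1_c5 LD2_c42 LD3_c56) (LK LD1_c2 LD2_c47 LD3_c25) Lrfl Lrfl
theorem f280351 : Led Lsl_ft (LP (LK LD1_c9 LD2_c2 LD3_c8)) = (LP (LK LD1_c16 LD2_c52 LD3_c21)) :=
  Lre_f IH (LK LD1_c9 LD2_c2 LD3_c8) (LK LD1_c16 LD2_c52 LD3_c21) Lrfl Lrfl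
theorem f174505 : Led Lsl_et (LP (LK LD1_c4 LD2_c32 LD3_c14)) = (LP (LK LD1_c9 LD2_c2 LD3_c8)) :=
  Lre_e IH (LK LD1_c4 LD2_c32 LD3_c14) (LK LD1_c9 LD2_c2 LD3_c8) Lrfl Lrfl
theorem f280352 : Led Lsl_ft (LP (LK LD1_c2 LD2_c47 LD3_c25)) = (LP (LK LD1_c4 LD2_c32 LD3_c14)) :=
  Lgr Lrot86 (Lpe (f280350 IH) (Lpe (f280349 IH) (Lpr_ef (f280338 IH) (Lpe (f280351 IH) (Lpe (f174505 IH) (Lpn (LP (LK LD1_c4 LD2_c32 LD3_c14))))))))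
theorem f280362 : Led Lsl_dt (LP (LK LD1_c2 LD2_c47 LD3_c25)) = (LP (LK LD1_c5 LD2_c42 LD3_c55)) :=
  Lre_d IH (LK LD1_c2 LD2_c47 LD3_c25) (LK LD1_c5 LD2_c42 LD3_c55) Lrfl Lrfl
theorem f280363 : Led Lsl_ct (LP (LK LD1_c5 LD2_c42 LD3_c55)) = (LP (LK LD1_c11 LD2_c16 LD3_c5)) :=
  Lre_c IH (LK LD1_c5 LD2_c42 LD3_c55) (LK LD1_c11 LD2_c16 LD3_c5) Lrfl Lrfl
theorem f174502 : Led Lsl_at (LP (LK LD1_c4 LD2_c32 LD3_c14)) = (LP (LK LD1_c9 LD2_c2 LD3_c1)) :=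
  Lre_a IH (LK LD1_c4 LD2_c32 LD3_c14) (LK LD1_c9 LD2_c2 LD3_c1) Lrfl Lrfl
theorem f181767 : Led Lsl_ct (LP (LK LD1_c4 LD2_c32 LD3_c12)) = (LP (LK LD1_c9 LD2_c2 LD3_c1)) :=
  Lre_c IH (LK LD1_c4 LD2_c32 LD3_c12) (LK LD1_c9 LD2_c2 LD3_c1) Lrfl Lrfl
theorem f181766 : Led Lsl_dt (LP (LK LD1_c2 LD2_c13 LD3_c9)) = (LP (LK LD1_c4 LD2_c32 LD3_c12)) :=
  Lre_d IH (LK LD1_c2 LD2_c13 LD3_c9) (LK LD1_c4 LD2_c32 LD3_c12) Lrfl Lrfl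
theorem f181764 : Led Lsl_dt (LP (LK LD1_c8 LD2_c43 LD3_c35)) = (LP (LK LD1_c4 LD2_c22 LD3_c53)) :=
  Lre_d IH (LK LD1_c8 LD2_c43 LD3_c35) (LK LD1_c4 LD2_c22 LD3_c53) Lrfl Lrfl
theorem f181765 : Led Lsl_ct (LP (LK LD1_c16 LD2_c20 LD3_c35)) = (LP (LK LD1_c8 LD2_c43 LD3_c35)) :=
  Lre_c IH (LK LD1_c16 LD2_c20 LD3_c35) (LK LD1_c8 LD2_c43 LD3_c35) Lrfl Lrfl
theorem f280364 : Led Lsl_dt (LP (LK LD1_c11 LD2_c16 LD3_c5)) = (LP (LK LD1_c16 LD2_c20 LD3_c35)) :=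
  Lgr Lrot32 (Lpe (f280363 IH) (Lpe (f280362 IH) (Lpr_ft (f280352 IH) (Lpr_at (f174502 IH) (Lpe (f181767 IH) (Lpe (f181766 IH) (Lpe (f181735 IH) (Lpe (f181764 IH) (Lpe (f181765 IH) (Lpn (LP (LK LD1_c16 LD2_c20 LD3_c35))))))))))))
theorem f181768 : Led Lsl_dt (LP (LK LD1_c9 LD2_c2 LD3_c1)) = (LP (LK LD1_c16 LD2_c52 LD3_c2)) :=
  Lre_d IH (LK LD1_c9 LD2_c2 LD3_c1) (LK LD1_c16 LD2_c52 LD3_c2) Lrfl Lrfl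
theorem f280274 : Led Lsl_cf (LP (LK LD1_c11 LD2_c15 LD3_c42)) = (LP (LK LD1_c16 LD2_c52 LD3_c2)) :=
  Lgr Lrot11 (Lpr_ct (f280270 IH) (Lpn (LP (LK LD1_c16 LD2_c52 LD3_c2))))
theorem f174490 : Led Lsl_at (LP (LK LD1_c16 LD2_c52 LD3_c2)) = (LP (LK LD1_c9 LD2_c2 LD3_c7)) :=
  Lre_a IH (LK LD1_c16 LD2_c52 LD3_c2) (LK LD1_c9 LD2_c2 LD3_c7) Lrfl Lrfl
theorem f174484 : Led Lsl_ct (LP (LK LD1_c9 LD2_c2 LD3_c7)) = (LP (LK LD1_c16 LD2_c52 LD3_c17)) :=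
  Lre_c IH (LK LD1_c9 LD2_c2 LD3_c7) (LK LD1_c16 LD2_c52 LD3_c17) Lrfl Lrfl
theorem f280272 : Led Lsl_af (LP (LK LD1_c11 LD2_c15 LD3_c42)) = (LP (LK LD1_c16 LD2_c52 LD3_c17)) :=
  Lgr Lrot68 (Lpr_ct (f280270 IH) (Lpr_at (f174490 IH) (Lpr_ct (f174484 IH) (Lpn (LP (LK LD1_c16 LD2_c52 LD3_c17))))))
theorem f280369 : Led Lsl_ft (LP (LK LD1_c11 LD2_c16 LD3_c5)) = (LP (LK LD1_c16 LD2_c52 LD3_c17)) :=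
  Lgr Lrot142 (Lpr_dt (f280364 IH) (Lpr_ct (f181765 IH) (Lpr_dt (f181764 IH) (Lpr_ct (f181735 IH) (Lpr_dt (f181766 IH) (Lpr_ct (f181767 IH) (Lpr_dt (f181768 IH) (Lpe (f280274 IH) (Lpr_af (f280272 IH) (Lpn (LP (LK LD1_c16 LD2_c52 LD3_c17))))))))))))
theorem f280374 : Led Lsl_ff (LP (LK LD1_c11 LD2_c16 LD3_c5)) = (LP (LK LD1_c16 LD2_c52 LD3_c17)) :=
  Lgr Lrot3 (Lpr_ft (f280369 IH) (Lpn (LP (LK LD1_c16 LD2_c52 LD3_c17))))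
theorem f280260 : Led Lsl_at (LP (LK LD1_c11 LD2_c15 LD3_c19)) = (LP (LK LD1_c5 LD2_c42 LD3_c44)) :=
  Lre_a IH (LK LD1_c11 LD2_c15 LD3_c19) (LK LD1_c5 LD2_c42 LD3_c44) Lrfl Lrfl
theorem f280261 : Led Lsl_ff (LP (LK LD1_c11 LD2_c15 LD3_c19)) = (LP (LK LD1_c16 LD2_c20 LD3_c35)) :=
  Lgr Lrot30 (Lpr_at (f280260 IH) (Lpr_ft (f280146 IH) (Lpr_at (f181775 IH) (Lpn (LP (LK LD1_c16 LD2_c20 LD3_c35))))))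
theorem f280377 : Led Lsl_dt (LP (LK LD1_c11 LD2_c15 LD3_c19)) = (LP (LK LD1_c16 LD2_c52 LD3_c17)) :=
  Lgr Lrot60 (Lpr_ff (f280261 IH) (Lpe (f280364 IH) (Lpr_ff (f280374 IH) (Lpn (LP (LK LD1_c16 LD2_c52 LD3_c17))))))
theorem f280380 : Led Lsl_ct (LP (LK LD1_c5 LD2_c42 LD3_c34)) = (LP (LK LD1_c11 LD2_c15 LD3_c19)) :=
  Lre_c IH (LK LD1_c5 LD2_c42 LD3_c34) (LK LD1_c11 LD2_c15 LD3_c19) Lrfl Lrfl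
theorem f280381 : Led Lsl_dt (LP (LK LD1_c2 LD2_c47 LD3_c16)) = (LP (LK LD1_c5 LD2_c42 LD3_c34)) :=
  Lre_d IH (LK LD1_c2 LD2_c47 LD3_c16) (LK LD1_c5 LD2_c42 LD3_c34) Lrfl Lrfl
theorem f268851 : Led Lsl_ct (LP (LK LD1_c1 LD2_c19 LD3_c61)) = (LP (LK LD1_c2 LD2_c47 LD3_c16)) :=
  Lre_c IH (LK LD1_c1 LD2_c19 LD3_c61) (LK LD1_c2 LD2_c47 LD3_c16) Lrfl Lrfl
theorem f268874 : Led Lsl_dt (LP (LK LD1_c2 LD2_c47 LD3_c17)) = (LP (LK LD1_c1 LD2_c19 LD3_c61)) :=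
  Lre_d IH (LK LD1_c2 LD2_c47 LD3_c17) (LK LD1_c1 LD2_c19 LD3_c61) Lrfl Lrfl
theorem f268833 : Led Lsl_ct (LP (LK LD1_c5 LD2_c42 LD3_c35)) = (LP (LK LD1_c2 LD2_c47 LD3_c17)) :=
  Lre_c IH (LK LD1_c5 LD2_c42 LD3_c35) (LK LD1_c2 LD2_c47 LD3_c17) Lrfl Lrfl
theorem f268843 : Led Lsl_dt (LP (LK LD1_c11 LD2_c15 LD3_c21)) = (LP (LK LD1_c5 LD2_c42 LD3_c35)) :=
  Lre_d IH (LK LD1_c11 LD2_c15 LD3_c21) (LK LD1_c5 LD2_c42 LD3_c35) Lrfl Lrfl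
theorem f174492 : Led Lsl_ct (LP (LK LD1_c16 LD2_c52 LD3_c17)) = (LP (LK LD1_c9 LD2_c2 LD3_c7)) :=
  Lre_c IH (LK LD1_c16 LD2_c52 LD3_c17) (LK LD1_c9 LD2_c2 LD3_c7) Lrfl Lrfl
theorem f280392 : Led Lsl_ft (LP (LK LD1_c11 LD2_c15 LD3_c21)) = (LP (LK LD1_c16 LD2_c52 LD3_c2)) :=
  Lgr Lrot142 (Lpr_dt (f268843 IH) (Lpr_ct (f268833 IH) (Lpr_dt (f268874 IH) (Lpr_ct (f268851 IH) (Lpr_dt (f280381 IH) (Lpr_ct (f280380 IH) (Lpr_dt (f280377 IH) (Lpr_ct (f174492 IH) (Lpe (f174490 IH) (Lpn (LP (LK LD1_c16 LD2_c52 LD3_c2))))))))))))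
theorem f280404 : Led Lsl_ff (LP (LK LD1_c11 LD2_c15 LD3_c21)) = (LP (LK LD1_c16 LD2_c52 LD3_c2)) :=
  Lgr Lrot3 (Lpr_ft (f280392 IH) (Lpn (LP (LK LD1_c16 LD2_c52 LD3_c2))))
theorem f172834 : Led Lsl_dt (LP (LK LD1_c11 LD2_c15 LD3_c42)) = (LP (LK LD1_c5 LD2_c42 LD3_c44)) :=
  Lre_d IH (LK LD1_c11 LD2_c15 LD3_c42) (LK LD1_c5 LD2_c42 LD3_c44) Lrfl Lrfl
theorem f181740 : Led Lsl_dt (LP (LK LD1_c8 LD2_c43 LD3_c38)) = (LP (LK LD1_c16 LD2_c20 LD3_c41)) :=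
  Lre_d IH (LK LD1_c8 LD2_c43 LD3_c38) (LK LD1_c16 LD2_c20 LD3_c41) Lrfl Lrfl
theorem f280263 : Led Lsl_ff (LP (LK LD1_c11 LD2_c15 LD3_c42)) = (LP (LK LD1_c16 LD2_c20 LD3_c41)) :=
  Lgr Lrot19 (Lpr_dt (f172834 IH) (Lpr_ft (f280146 IH) (Lpr_dt (f181740 IH) (Lpn (LP (LK LD1_c16 LD2_c20 LD3_c41))))))
theorem f280415 : Led Lsl_ct (LP (LK LD1_c11 LD2_c15 LD3_c21)) = (LP (LK LD1_c16 LD2_c20 LD3_c41)) :=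
  Lgr Lrot40 (Lpr_ff (f280404 IH) (Lpe (f280270 IH) (Lpr_ff (f280263 IH) (Lpn (LP (LK LD1_c16 LD2_c20 LD3_c41))))))
theorem f280398 : Led Lsl_dt (LP (LK LD1_c5 LD2_c42 LD3_c35)) = (LP (LK LD1_c11 LD2_c15 LD3_c21)) :=
  Lre_d IH (LK LD1_c5 LD2_c42 LD3_c35) (LK LD1_c11 LD2_c15 LD3_c21) Lrfl Lrfl
theorem f268844 : Led Lsl_ct (LP (LK LD1_c2 LD2_c47 LD3_c17)) = (LP (LK LD1_c5 LD2_c42 LD3_c35)) :=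
  Lre_c IH (LK LD1_c2 LD2_c47 LD3_c17) (LK LD1_c5 LD2_c42 LD3_c35) Lrfl Lrfl
theorem f181776 : Led Lsl_dt (LP (LK LD1_c16 LD2_c20 LD3_c41)) = (LP (LK LD1_c8 LD2_c43 LD3_c38)) :=
  Lre_d IH (LK LD1_c16 LD2_c20 LD3_c41) (LK LD1_c8 LD2_c43 LD3_c38) Lrfl Lrfl
theorem f181747 : Led Lsl_ct (LP (LK LD1_c8 LD2_c43 LD3_c38)) = (LP (LK LD1_c4 LD2_c22 LD3_c54)) :=
  Lre_c IH (LK LD1_c8 LD2_c43 LD3_c38) (LK LD1_c4 LD2_c22 LD3_c54) Lrfl Lrfl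
theorem f181745 : Led Lsl_dt (LP (LK LD1_c4 LD2_c22 LD3_c54)) = (LP (LK LD1_c2 LD2_c8 LD3_c52)) :=
  Lre_d IH (LK LD1_c4 LD2_c22 LD3_c54) (LK LD1_c2 LD2_c8 LD3_c52) Lrfl Lrfl
theorem f181408 : Led Lsl_bt (LP (LK LD1_c1 LD2_c1 LD3_c38)) = (LP (LK LD1_c2 LD2_c8 LD3_c52)) :=
  Lre_b IH (LK LD1_c1 LD2_c1 LD3_c38) (LK LD1_c2 LD2_c8 LD3_c52) Lrfl Lrfl
theorem f181409 : Led Lsl_bt (LP (LK LD1_c1 LD2_c3 LD3_c39)) = (LP (LK LD1_c0 LD2_c29 LD3_c4)) :=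
  Lre_b IH (LK LD1_c1 LD2_c3 LD3_c39) (LK LD1_c0 LD2_c29 LD3_c4) Lrfl Lrfl
theorem f181410 : Led Lsl_ct (LP (LK LD1_c2 LD2_c8 LD3_c52)) = (LP (LK LD1_c1 LD2_c3 LD3_c39)) :=
  Lgr Lrot83 (Lpe (f181408 IH) (Lpe (K10.f181407 IH) (Lpr_bf (K9.f181221 IH) (Lpr_cf (K9.f173360 IH) (Lpe (f181409 IH) (Lpn (LP (LK LD1_c1 LD2_c3 LD3_c39))))))))
theorem f280471 : Led Lsl_ft (LP (LK LD1_c1 LD2_c19 LD3_c61)) = (LP (LK LD1_c2 LD2_c13 LD3_c9)) :=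
  Lgr Lrot142 (Lpr_dt (f268839 IH) (Lpr_ct (f268844 IH) (Lpr_dt (f280398 IH) (Lpr_ct (f280415 IH) (Lpr_dt (f181776 IH) (Lpr_ct (f181747 IH) (Lpr_dt (f181745 IH) (Lpr_ct (f181410 IH) (Lpe (f181734 IH) (Lpn (LP (LK LD1_c2 LD2_c13 LD3_c9))))))))))))
theorem f269072 : Led Lsl_ft (LP (LK LD1_c1 LD2_c19 LD3_c50)) = (LP (LK LD1_c2 LD2_c13 LD3_c17)) :=
  Lgr Lrot101 (Lpe (f269066 IH) (Lpr_ff (f269067 IH) (Lpe (f268870 IH) (Lpn (LP (LK LD1_c2 LD2_c13 LD3_c17))))))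
theorem f280509 : Led Lsl_bf (LP (LK LD1_c1 LD2_c19 LD3_c50)) = (LP (LK LD1_c2 LD2_c13 LD3_c9)) :=
  Lgr Lrot61 (Lpr_ft (f269072 IH) (Lpe (f268841 IH) (Lpr_ft (f280471 IH) (Lpn (LP (LK LD1_c2 LD2_c13 LD3_c9))))))
theorem f280535 : Led Lsl_bt (LP (LK LD1_c1 LD2_c19 LD3_c50)) = (LP (LK LD1_c2 LD2_c13 LD3_c9)) :=
  Lgr Lrot127 (Lpr_bf (f280509 IH) (Lpn (LP (LK LD1_c2 LD2_c13 LD3_c9))))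
theorem f269086 : Led Lsl_dt (LP (LK LD1_c2 LD2_c46 LD3_c50)) = (LP (LK LD1_c1 LD2_c19 LD3_c50)) :=
  Lre_d IH (LK LD1_c2 LD2_c46 LD3_c50) (LK LD1_c1 LD2_c19 LD3_c50) Lrfl Lrfl
theorem f280537 : Led Lsl_bf (LP (LK LD1_c2 LD2_c46 LD3_c50)) = (LP (LK LD1_c4 LD2_c32 LD3_c12)) :=
  Lgr Lrot93 (Lpr_dt (f269086 IH) (Lpr_bt (f280535 IH) (Lpr_dt (f181766 IH) (Lpn (LP (LK LD1_c4 LD2_c32 LD3_c12))))))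
theorem f269087 : Led Lsl_et (LP (LK LD1_c2 LD2_c46 LD3_c50)) = (LP (LK LD1_c5 LD2_c41 LD3_c34)) :=
  Lre_e IH (LK LD1_c2 LD2_c46 LD3_c50) (LK LD1_c5 LD2_c41 LD3_c34) Lrfl Lrfl
theorem f280314 : Led Lsl_et (LP (LK LD1_c9 LD2_c2 LD3_c2)) = (LP (LK LD1_c4 LD2_c32 LD3_c12)) :=
  Lre_e IH (LK LD1_c9 LD2_c2 LD3_c2) (LK LD1_c4 LD2_c32 LD3_c12) Lrfl Lrfl
theorem f281813 : Led Lsl_bt (LP (LK LD1_c5 LD2_c41 LD3_c34)) = (LP (LK LD1_c9 LD2_c2 LD3_c2)) :=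
  Lgr Lrot119 (Lpe (f269087 IH) (Lpr_bf (f280537 IH) (Lpe (f280314 IH) (Lpn (LP (LK LD1_c9 LD2_c2 LD3_c2))))))
theorem f280553 : Led Lsl_ft (LP (LK LD1_c11 LD2_c13 LD3_c20)) = (LP (LK LD1_c5 LD2_c41 LD3_c34)) :=
  Lre_f IH (LK LD1_c11 LD2_c13 LD3_c20) (LK LD1_c5 LD2_c41 LD3_c34) Lrfl Lrfl
theorem f281824 : Led Lsl_ft (LP (LK LD1_c9 LD2_c2 LD3_c2)) = (LP (LK LD1_c16 LD2_c52 LD3_c6)) :=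
  Lre_f IH (LK LD1_c9 LD2_c2 LD3_c2) (LK LD1_c16 LD2_c52 LD3_c6) Lrfl Lrfl
theorem f281825 : Led Lsl_bf (LP (LK LD1_c11 LD2_c13 LD3_c20)) = (LP (LK LD1_c16 LD2_c52 LD3_c6)) :=
  Lgr Lrot61 (Lpr_ft (f280553 IH) (Lpr_bt (f281813 IH) (Lpr_ft (f281824 IH) (Lpn (LP (LK LD1_c16 LD2_c52 LD3_c6))))))
theorem f281832 : Led Lsl_bt (LP (LK LD1_c11 LD2_c13 LD3_c20)) = (LP (LK LD1_c16 LD2_c52 LD3_c6)) :=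
  Lgr Lrot127 (Lpr_bf (f281825 IH) (Lpn (LP (LK LD1_c16 LD2_c52 LD3_c6))))
theorem f268936 : Led Lsl_at (LP (LK LD1_c5 LD2_c41 LD3_c59)) = (LP (LK LD1_c11 LD2_c13 LD3_c20)) :=
  Lre_a IH (LK LD1_c5 LD2_c41 LD3_c59) (LK LD1_c11 LD2_c13 LD3_c20) Lrfl Lrfl
theorem f268959 : Led Lsl_bt (LP (LK LD1_c2 LD2_c47 LD3_c7)) = (LP (LK LD1_c5 LD2_c41 LD3_c59)) :=
  Lre_b IH (LK LD1_c2 LD2_c47 LD3_c7) (LK LD1_c5 LD2_c41 LD3_c59) Lrfl Lrfl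
theorem f280315 : Led Lsl_at (LP (LK LD1_c16 LD2_c52 LD3_c6)) = (LP (LK LD1_c9 LD2_c2 LD3_c12)) :=
  Lre_a IH (LK LD1_c16 LD2_c52 LD3_c6) (LK LD1_c9 LD2_c2 LD3_c12) Lrfl Lrfl
theorem f280335 : Led Lsl_bt (LP (LK LD1_c9 LD2_c2 LD3_c12)) = (LP (LK LD1_c4 LD2_c32 LD3_c20)) :=
  Lre_b IH (LK LD1_c9 LD2_c2 LD3_c12) (LK LD1_c4 LD2_c32 LD3_c20) Lrfl Lrfl
theorem f281839 : Led Lsl_af (LP (LK LD1_c2 LD2_c47 LD3_c7)) = (LP (LK LD1_c4 LD2_c32 LD3_c20)) :=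
  Lgr Lrot36 (Lpr_bt (f268959 IH) (Lpr_at (f268936 IH) (Lpr_bt (f281832 IH) (Lpr_at (f280315 IH) (Lpr_bt (f280335 IH) (Lpn (LP (LK LD1_c4 LD2_c32 LD3_c20))))))))
theorem f268935 : Led Lsl_dt (LP (LK LD1_c2 LD2_c47 LD3_c7)) = (LP (LK LD1_c5 LD2_c42 LD3_c20)) :=
  Lre_d IH (LK LD1_c2 LD2_c47 LD3_c7) (LK LD1_c5 LD2_c42 LD3_c20) Lrfl Lrfl
theorem f281852 : Led Lsl_dt (LP (LK LD1_c9 LD2_c2 LD3_c21)) = (LP (LK LD1_c4 LD2_c32 LD3_c20)) :=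
  Lre_d IH (LK LD1_c9 LD2_c2 LD3_c21) (LK LD1_c4 LD2_c32 LD3_c20) Lrfl Lrfl
theorem f281853 : Led Lsl_at (LP (LK LD1_c5 LD2_c42 LD3_c20)) = (LP (LK LD1_c9 LD2_c2 LD3_c21)) :=
  Lgr Lrot51 (Lpe (f268935 IH) (Lpr_af (f281839 IH) (Lpe (f281852 IH) (Lpn (LP (LK LD1_c9 LD2_c2 LD3_c21))))))
theorem f68759 : Led Lsl_et (LP (LK LD1_c11 LD2_c14 LD3_c54)) = (LP (LK LD1_c5 LD2_c42 LD3_c20)) :=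
  Lre_e IH (LK LD1_c11 LD2_c14 LD3_c54) (LK LD1_c5 LD2_c42 LD3_c20) Lrfl Lrfl
theorem f68733 : Led Lsl_et (LP (LK LD1_c5 LD2_c42 LD3_c26)) = (LP (LK LD1_c2 LD2_c47 LD3_c10)) :=
  Lre_e IH (LK LD1_c5 LD2_c42 LD3_c26) (LK LD1_c2 LD2_c47 LD3_c10) Lrfl Lrfl
theorem f68734 : Led Lsl_et (LP (LK LD1_c2 LD2_c49 LD3_c14)) = (LP (LK LD1_c5 LD2_c46 LD3_c57)) :=
  Lre_e IH (LK LD1_c2 LD2_c49 LD3_c14) (LK LD1_c5 LD2_c46 LD3_c57) Lrfl Lrfl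
theorem f68735 : Led Lsl_af (LP (LK LD1_c5 LD2_c42 LD3_c26)) = (LP (LK LD1_c5 LD2_c46 LD3_c57)) :=
  Lgr Lrot50 (Lpr_et (f68733 IH) (Lpr_at (f68592 IH) (Lpr_et (f68734 IH) (Lpn (LP (LK LD1_c5 LD2_c46 LD3_c57))))))
theorem f68745 : Led Lsl_ft (LP (LK LD1_c5 LD2_c42 LD3_c26)) = (LP (LK LD1_c11 LD2_c14 LD3_c54)) :=
  Lre_f IH (LK LD1_c5 LD2_c42 LD3_c26) (LK LD1_c11 LD2_c14 LD3_c54) Lrfl Lrfl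
theorem f68746 : Led Lsl_ft (LP (LK LD1_c11 LD2_c24 LD3_c3)) = (LP (LK LD1_c5 LD2_c46 LD3_c57)) :=
  Lre_f IH (LK LD1_c11 LD2_c24 LD3_c3) (LK LD1_c5 LD2_c46 LD3_c57) Lrfl Lrfl
theorem f68747 : Led Lsl_at (LP (LK LD1_c11 LD2_c14 LD3_c54)) = (LP (LK LD1_c11 LD2_c24 LD3_c3)) :=
  Lgr Lrot66 (Lpe (f68745 IH) (Lpr_af (f68735 IH) (Lpe (f68746 IH) (Lpn (LP (LK LD1_c11 LD2_c24 LD3_c3))))))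
theorem f68753 : Led Lsl_af (LP (LK LD1_c11 LD2_c14 LD3_c54)) = (LP (LK LD1_c11 LD2_c24 LD3_c3)) :=
  Lgr Lrot0 (Lpr_at (f68747 IH) (Lpn (LP (LK LD1_c11 LD2_c24 LD3_c3))))
theorem f281865 : Led Lsl_ef (LP (LK LD1_c11 LD2_c24 LD3_c3)) = (LP (LK LD1_c9 LD2_c2 LD3_c21)) :=
  Lgr Lrot20 (Lpe (f68753 IH) (Lpr_et (f68759 IH) (Lpr_at (f281853 IH) (Lpn (LP (LK LD1_c9 LD2_c2 LD3_c21))))))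
theorem f281870 : Led Lsl_dt (LP (LK LD1_c4 LD2_c32 LD3_c20)) = (LP (LK LD1_c9 LD2_c2 LD3_c21)) :=
  Lre_d IH (LK LD1_c4 LD2_c32 LD3_c20) (LK LD1_c9 LD2_c2 LD3_c21) Lrfl Lrfl
theorem f268787 : Led Lsl_bt (LP (LK LD1_c5 LD2_c42 LD3_c60)) = (LP (LK LD1_c2 LD2_c47 LD3_c32)) :=
  Lre_b IH (LK LD1_c5 LD2_c42 LD3_c60) (LK LD1_c2 LD2_c47 LD3_c32) Lrfl Lrfl
theorem f280318 : Led Lsl_bt (LP (LK LD1_c4 LD2_c32 LD3_c20)) = (LP (LK LD1_c9 LD2_c2 LD3_c12)) :=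
  Lre_b IH (LK LD1_c4 LD2_c32 LD3_c20) (LK LD1_c9 LD2_c2 LD3_c12) Lrfl Lrfl
theorem f280319 : Led Lsl_et (LP (LK LD1_c2 LD2_c47 LD3_c32)) = (LP (LK LD1_c4 LD2_c32 LD3_c20)) :=
  Lgr Lrot74 (Lpe (f268787 IH) (Lpr_ef (f280299 IH) (Lpe (f280318 IH) (Lpn (LP (LK LD1_c4 LD2_c32 LD3_c20))))))
theorem f268789 : Led Lsl_dt (LP (LK LD1_c5 LD2_c43 LD3_c6)) = (LP (LK LD1_c2 LD2_c47 LD3_c32)) :=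
  Lre_d IH (LK LD1_c5 LD2_c43 LD3_c6) (LK LD1_c2 LD2_c47 LD3_c32) Lrfl Lrfl
theorem f268770 : Led Lsl_et (LP (LK LD1_c11 LD2_c16 LD3_c29)) = (LP (LK LD1_c5 LD2_c43 LD3_c6)) :=
  Lre_e IH (LK LD1_c11 LD2_c16 LD3_c29) (LK LD1_c5 LD2_c43 LD3_c6) Lrfl Lrfl
theorem f281871 : Led Lsl_dt (LP (LK LD1_c11 LD2_c24 LD3_c3)) = (LP (LK LD1_c11 LD2_c16 LD3_c29)) :=
  Lgr Lrot77 (Lpr_ef (f281865 IH) (Lpe (f281870 IH) (Lpe (f280319 IH) (Lpe (f268789 IH) (Lpe (f268770 IH) (Lpn (LP (LK LD1_c11 LD2_c16 LD3_c29))))))))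
theorem f68761 : Led Lsl_ft (LP (LK LD1_c5 LD2_c46 LD3_c57)) = (LP (LK LD1_c11 LD2_c24 LD3_c3)) :=
  Lre_f IH (LK LD1_c5 LD2_c46 LD3_c57) (LK LD1_c11 LD2_c24 LD3_c3) Lrfl Lrfl
theorem f281876 : Led Lsl_ft (LP (LK LD1_c11 LD2_c16 LD3_c29)) = (LP (LK LD1_c5 LD2_c43 LD3_c9)) :=
  Lre_f IH (LK LD1_c11 LD2_c16 LD3_c29) (LK LD1_c5 LD2_c43 LD3_c9) Lrfl Lrfl
theorem f281877 : Led Lsl_df (LP (LK LD1_c5 LD2_c46 LD3_c57)) = (LP (LK LD1_c5 LD2_c43 LD3_c9)) :=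
  Lgr Lrot78 (Lpr_ft (f68761 IH) (Lpr_dt (f281871 IH) (Lpr_ft (f281876 IH) (Lpn (LP (LK LD1_c5 LD2_c43 LD3_c9))))))
theorem f281879 : Led Lsl_dt (LP (LK LD1_c5 LD2_c46 LD3_c57)) = (LP (LK LD1_c5 LD2_c43 LD3_c9)) :=
  Lgr Lrot42 (Lpr_df (f281877 IH) (Lpn (LP (LK LD1_c5 LD2_c43 LD3_c9))))
theorem f68785 : Led Lsl_et (LP (LK LD1_c5 LD2_c46 LD3_c57)) = (LP (LK LD1_c2 LD2_c49 LD3_c14)) :=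
  Lre_e IH (LK LD1_c5 LD2_c46 LD3_c57) (LK LD1_c2 LD2_c49 LD3_c14) Lrfl Lrfl
theorem f22926 : Led Lsl_et (LP (LK LD1_c6 LD2_c12 LD3_c17)) = (LP (LK LD1_c3 LD2_c2 LD3_c42)) :=
  Lre_e IH (LK LD1_c6 LD2_c12 LD3_c17) (LK LD1_c3 LD2_c2 LD3_c42) Lrfl Lrfl
theorem f59960 : Led Lsl_et (LP (LK LD1_c2 LD2_c49 LD3_c16)) = (LP (LK LD1_c5 LD2_c46 LD3_c60)) :=
  Lre_e IH (LK LD1_c2 LD2_c49 LD3_c16) (LK LD1_c5 LD2_c46 LD3_c60) Lrfl Lrfl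
theorem f59961 : Led Lsl_ft (LP (LK LD1_c1 LD2_c20 LD3_c46)) = (LP (LK LD1_c2 LD2_c49 LD3_c16)) :=
  Lre_f IH (LK LD1_c1 LD2_c20 LD3_c46) (LK LD1_c2 LD2_c49 LD3_c16) Lrfl Lrfl
theorem f59962 : Led Lsl_et (LP (LK LD1_c1 LD2_c27 LD3_c17)) = (LP (LK LD1_c1 LD2_c20 LD3_c46)) :=
  Lgr Lrot69 (Lpe (K0.f22855 IH) (Lpe (f22926 IH) (Lpr_ff (K1.f59942 IH) (Lpe (f59960 IH) (Lpe (f59961 IH) (Lpn (LP (LK LD1_c1 LD2_c20 LD3_c46))))))))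
theorem f27134 : Led Lsl_dt (LP (LK LD1_c1 LD2_c27 LD3_c17)) = (LP (LK LD1_c0 LD2_c40 LD3_c24)) :=
  Lre_d IH (LK LD1_c1 LD2_c27 LD3_c17) (LK LD1_c0 LD2_c40 LD3_c24) Lrfl Lrfl
theorem f59890 : Led Lsl_gt (LP (LK LD1_c1 LD2_c27 LD3_c16)) = (LP (LK LD1_c0 LD2_c40 LD3_c24)) :=
  Lre_g IH (LK LD1_c1 LD2_c27 LD3_c16) (LK LD1_c0 LD2_c40 LD3_c24) Lrfl Lrfl
theorem f59972 : Led Lsl_dt (LP (LK LD1_c3 LD2_c2 LD3_c37)) = (LP (LK LD1_c1 LD2_c27 LD3_c16)) :=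
  Lre_d IH (LK LD1_c3 LD2_c2 LD3_c37) (LK LD1_c1 LD2_c27 LD3_c16) Lrfl Lrfl
theorem f59864 : Led Lsl_dt (LP (LK LD1_c11 LD2_c48 LD3_c44)) = (LP (LK LD1_c6 LD2_c2 LD3_c6)) :=
  Lre_d IH (LK LD1_c11 LD2_c48 LD3_c44) (LK LD1_c6 LD2_c2 LD3_c6) Lrfl Lrfl
theorem f59863 : Led Lsl_et (LP (LK LD1_c11 LD2_c48 LD3_c44)) = (LP (LK LD1_c6 LD2_c2 LD3_c7)) :=
  Lre_e IH (LK LD1_c11 LD2_c48 LD3_c44) (LK LD1_c6 LD2_c2 LD3_c7) Lrfl Lrfl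
theorem f413430 : Led Lsl_gf (LP (LK LD1_c3 LD2_c2 LD3_c37)) = (LP (LK LD1_c6 LD2_c2 LD3_c7)) :=
  Lgr Lrot138 (Lpr_dt (f59972 IH) (Lpr_gt (f59890 IH) (Lpe (f27134 IH) (Lpr_et (f59962 IH) (Lpr_gt (f59821 IH) (Lpe (f68785 IH) (Lpr_dt (f281879 IH) (Lpr_gt (f413425 IH) (Lpe (f59864 IH) (Lpr_et (f59863 IH) (Lpn (LP (LK LD1_c6 LD2_c2 LD3_c7)))))))))))))
theorem f27140 : Led Lsl_ct (LP (LK LD1_c1 LD2_c27 LD3_c17)) = (LP (LK LD1_c3 LD2_c2 LD3_c41)) :=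
  Lre_c IH (LK LD1_c1 LD2_c27 LD3_c17) (LK LD1_c3 LD2_c2 LD3_c41) Lrfl Lrfl
theorem f9300 : Led Lsl_dt (LP (LK LD1_c4 LD2_c49 LD3_c40)) = (LP (LK LD1_c3 LD2_c2 LD3_c41)) :=
  Lre_d IH (LK LD1_c4 LD2_c49 LD3_c40) (LK LD1_c3 LD2_c2 LD3_c41) Lrfl Lrfl
theorem f60007 : Led Lsl_gt (LP (LK LD1_c3 LD2_c21 LD3_c7)) = (LP (LK LD1_c4 LD2_c49 LD3_c40)) :=
  Lre_g IH (LK LD1_c3 LD2_c21 LD3_c7) (LK LD1_c4 LD2_c49 LD3_c40) Lrfl Lrfl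
theorem f59857 : Led Lsl_ct (LP (LK LD1_c11 LD2_c48 LD3_c45)) = (LP (LK LD1_c6 LD2_c2 LD3_c7)) :=
  Lre_c IH (LK LD1_c11 LD2_c48 LD3_c45) (LK LD1_c6 LD2_c2 LD3_c7) Lrfl Lrfl
theorem f59822 : Led Lsl_et (LP (LK LD1_c0 LD2_c17 LD3_c16)) = (LP (LK LD1_c0 LD2_c38 LD3_c54)) :=
  Lre_e IH (LK LD1_c0 LD2_c17 LD3_c16) (LK LD1_c0 LD2_c38 LD3_c54) Lrfl Lrfl
theorem f59824 : Led Lsl_et (LP (LK LD1_c2 LD2_c57 LD3_c9)) = (LP (LK LD1_c1 LD2_c24 LD3_c19)) :=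
  Lre_e IH (LK LD1_c2 LD2_c57 LD3_c9) (LK LD1_c1 LD2_c24 LD3_c19) Lrfl Lrfl
theorem f59825 : Led Lsl_dt (LP (LK LD1_c2 LD2_c57 LD3_c9)) = (LP (LK LD1_c6 LD2_c2 LD3_c7)) :=
  Lre_d IH (LK LD1_c2 LD2_c57 LD3_c9) (LK LD1_c6 LD2_c2 LD3_c7) Lrfl Lrfl
theorem f59826 : Led Lsl_dt (LP (LK LD1_c1 LD2_c27 LD3_c15)) = (LP (LK LD1_c3 LD2_c2 LD3_c35)) :=
  Lre_d IH (LK LD1_c1 LD2_c27 LD3_c15) (LK LD1_c3 LD2_c2 LD3_c35) Lrfl Lrfl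
theorem f59827 : Led Lsl_gf (LP (LK LD1_c6 LD2_c2 LD3_c7)) = (LP (LK LD1_c3 LD2_c2 LD3_c35)) :=
  Lgr Lrot134 (Lpe (f59825 IH) (Lpr_et (f59824 IH) (Lpr_gt (f59823 IH) (Lpe (f59822 IH) (Lpe (K1.f37931 IH) (Lpr_gt (K1.f59724 IH) (Lpe (K1.f59817 IH) (Lpr_et (K1.f59816 IH) (Lpr_gt (K1.f59815 IH) (Lpr_dt (f59826 IH) (Lpn (LP (LK LD1_c3 LD2_c2 LD3_c35)))))))))))))
theorem f59837 : Led Lsl_ct (LP (LK LD1_c6 LD2_c2 LD3_c7)) = (LP (LK LD1_c11 LD2_c48 LD3_c45)) :=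
  Lre_c IH (LK LD1_c6 LD2_c2 LD3_c7) (LK LD1_c11 LD2_c48 LD3_c45) Lrfl Lrfl
theorem f59840 : Led Lsl_dt (LP (LK LD1_c3 LD2_c2 LD3_c61)) = (LP (LK LD1_c1 LD2_c27 LD3_c24)) :=
  Lre_d IH (LK LD1_c3 LD2_c2 LD3_c61) (LK LD1_c1 LD2_c27 LD3_c24) Lrfl Lrfl
theorem f59841 : Led Lsl_ct (LP (LK LD1_c6 LD2_c12 LD3_c42)) = (LP (LK LD1_c3 LD2_c2 LD3_c61)) :=
  Lre_c IH (LK LD1_c6 LD2_c12 LD3_c42) (LK LD1_c3 LD2_c2 LD3_c61) Lrfl Lrfl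
theorem f59842 : Led Lsl_gt (LP (LK LD1_c11 LD2_c48 LD3_c45)) = (LP (LK LD1_c6 LD2_c12 LD3_c42)) :=
  Lgr Lrot150 (Lpe (f59837 IH) (Lpr_gf (f59827 IH) (Lpe (f59826 IH) (Lpr_gt (K1.f27146 IH) (Lpr_ct (K9.f59838 IH) (Lpr_gt (K9.f23226 IH) (Lpr_ct (K9.f59839 IH) (Lpe (f59840 IH) (Lpe (f59841 IH) (Lpn (LP (LK LD1_c6 LD2_c12 LD3_c42))))))))))))
theorem f413432 : Led Lsl_df (LP (LK LD1_c3 LD2_c21 LD3_c7)) = (LP (LK LD1_c6 LD2_c12 LD3_c42)) :=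
  Lgr Lrot153 (Lpr_gt (f60007 IH) (Lpr_dt (f9300 IH) (Lpe (f27140 IH) (Lpe (K0.f23043 IH) (Lpe (f59890 IH) (Lpe (f59972 IH) (Lpr_gf (f413430 IH) (Lpe (f59857 IH) (Lpr_gt (f59842 IH) (Lpn (LP (LK LD1_c6 LD2_c12 LD3_c42))))))))))))
theorem f413439 : Led Lsl_dt (LP (LK LD1_c3 LD2_c21 LD3_c7)) = (LP (LK LD1_c6 LD2_c12 LD3_c42)) :=
  Lgr Lrot42 (Lpr_df (f413432 IH) (Lpn (LP (LK LD1_c6 LD2_c12 LD3_c42))))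
theorem f22963 : Led Lsl_gt (LP (LK LD1_c1 LD2_c36 LD3_c50)) = (LP (LK LD1_c3 LD2_c21 LD3_c7)) :=
  Lre_g IH (LK LD1_c1 LD2_c36 LD3_c50) (LK LD1_c3 LD2_c21 LD3_c7) Lrfl Lrfl
theorem f141025 : Led Lsl_dt (LP (LK LD1_c3 LD2_c21 LD3_c10)) = (LP (LK LD1_c1 LD2_c36 LD3_c50)) :=
  Lre_d IH (LK LD1_c3 LD2_c21 LD3_c10) (LK LD1_c1 LD2_c36 LD3_c50) Lrfl Lrfl
theorem f9202 : Led Lsl_gt (LP (LK LD1_c6 LD2_c12 LD3_c14)) = (LP (LK LD1_c3 LD2_c21 LD3_c10)) :=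
  Lre_g IH (LK LD1_c6 LD2_c12 LD3_c14) (LK LD1_c3 LD2_c21 LD3_c10) Lrfl Lrfl
theorem f59845 : Led Lsl_dt (LP (LK LD1_c1 LD2_c27 LD3_c24)) = (LP (LK LD1_c3 LD2_c2 LD3_c61)) :=
  Lre_d IH (LK LD1_c1 LD2_c27 LD3_c24) (LK LD1_c3 LD2_c2 LD3_c61) Lrfl Lrfl
theorem f73635 : Led Lsl_af (LP (LK LD1_c1 LD2_c20 LD3_c53)) = (LP (LK LD1_c1 LD2_c22 LD3_c4)) :=
  Lgr Lrot0 (Lpr_at (K2.f73633 IH) (Lpn (LP (LK LD1_c1 LD2_c22 LD3_c4))))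
theorem f73796 : Led Lsl_ft (LP (LK LD1_c2 LD2_c52 LD3_c9)) = (LP (LK LD1_c1 LD2_c22 LD3_c4)) :=
  Lre_f IH (LK LD1_c2 LD2_c52 LD3_c9) (LK LD1_c1 LD2_c22 LD3_c4) Lrfl Lrfl
theorem f139922 : Led Lsl_gf (LP (LK LD1_c1 LD2_c27 LD3_c24)) = (LP (LK LD1_c2 LD2_c52 LD3_c9)) :=
  Lgr Lrot47 (Lpr_gt (K9.f139920 IH) (Lpr_af (f73635 IH) (Lpe (f73796 IH) (Lpn (LP (LK LD1_c2 LD2_c52 LD3_c9))))))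
theorem f139924 : Led Lsl_ct (LP (LK LD1_c1 LD2_c27 LD3_c24)) = (LP (LK LD1_c0 LD2_c40 LD3_c26)) :=
  Lre_c IH (LK LD1_c1 LD2_c27 LD3_c24) (LK LD1_c0 LD2_c40 LD3_c26) Lrfl Lrfl
theorem f22957 : Led Lsl_dt (LP (LK LD1_c0 LD2_c18 LD3_c5)) = (LP (LK LD1_c0 LD2_c8 LD3_c56)) :=
  Lre_d IH (LK LD1_c0 LD2_c18 LD3_c5) (LK LD1_c0 LD2_c8 LD3_c56) Lrfl Lrfl
theorem f139925 : Led Lsl_dt (LP (LK LD1_c0 LD2_c19 LD3_c55)) = (LP (LK LD1_c0 LD2_c44 LD3_c54)) :=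
  Lre_d IH (LK LD1_c0 LD2_c19 LD3_c55) (LK LD1_c0 LD2_c44 LD3_c54) Lrfl Lrfl
theorem f139926 : Led Lsl_ct (LP (LK LD1_c0 LD2_c44 LD3_c54)) = (LP (LK LD1_c1 LD2_c37 LD3_c1)) :=
  Lre_c IH (LK LD1_c0 LD2_c44 LD3_c54) (LK LD1_c1 LD2_c37 LD3_c1) Lrfl Lrfl
theorem f139927 : Led Lsl_dt (LP (LK LD1_c3 LD2_c21 LD3_c37)) = (LP (LK LD1_c1 LD2_c37 LD3_c1)) :=
  Lre_d IH (LK LD1_c3 LD2_c21 LD3_c37) (LK LD1_c1 LD2_c37 LD3_c1) Lrfl Lrfl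
theorem f61287 : Led Lsl_dt (LP (LK LD1_c1 LD2_c20 LD3_c53)) = (LP (LK LD1_c2 LD2_c49 LD3_c29)) :=
  Lre_d IH (LK LD1_c1 LD2_c20 LD3_c53) (LK LD1_c2 LD2_c49 LD3_c29) Lrfl Lrfl
theorem f139928 : Led Lsl_gf (LP (LK LD1_c3 LD2_c21 LD3_c37)) = (LP (LK LD1_c2 LD2_c49 LD3_c29)) :=
  Lgr Lrot143 (Lpr_dt (f139927 IH) (Lpe (f139926 IH) (Lpe (f139925 IH) (Lpe (K0.f23179 IH) (Lpe (f22957 IH) (Lpe (K9.f22958 IH) (Lpe (f139924 IH) (Lpr_gt (K9.f139920 IH) (Lpr_dt (f61287 IH) (Lpn (LP (LK LD1_c2 LD2_c49 LD3_c29))))))))))))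
theorem f61434 : Led Lsl_ft (LP (LK LD1_c2 LD2_c49 LD3_c29)) = (LP (LK LD1_c5 LD2_c47 LD3_c13)) :=
  Lre_f IH (LK LD1_c2 LD2_c49 LD3_c29) (LK LD1_c5 LD2_c47 LD3_c13) Lrfl Lrfl
theorem f141143 : Led Lsl_gt (LP (LK LD1_c3 LD2_c21 LD3_c37)) = (LP (LK LD1_c5 LD2_c51 LD3_c50)) :=
  Lgr Lrot46 (Lpr_gf (f139928 IH) (Lpr_ft (f61434 IH) (Lpr_at (K2.f73656 IH) (Lpn (LP (LK LD1_c5 LD2_c51 LD3_c50))))))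
theorem f413445 : Led Lsl_cf (LP (LK LD1_c6 LD2_c12 LD3_c14)) = (LP (LK LD1_c3 LD2_c21 LD3_c37)) :=
  Lgr Lrot166 (Lpr_gt (f9202 IH) (Lpr_dt (f141025 IH) (Lpr_gt (f22963 IH) (Lpr_dt (f413439 IH) (Lpr_ct (f59841 IH) (Lpe (f59845 IH) (Lpr_gf (f139922 IH) (Lpe (K2.f73655 IH) (Lpe (f141143 IH) (Lpn (LP (LK LD1_c3 LD2_c21 LD3_c37))))))))))))
theorem f75907 : Led Lsl_ct (LP (LK LD1_c3 LD2_c21 LD3_c10)) = (LP (LK LD1_c4 LD2_c41 LD3_c0)) :=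
  Lre_c IH (LK LD1_c3 LD2_c21 LD3_c10) (LK LD1_c4 LD2_c41 LD3_c0) Lrfl Lrfl
theorem f59970 : Led Lsl_dt (LP (LK LD1_c4 LD2_c41 LD3_c0)) = (LP (LK LD1_c2 LD2_c17 LD3_c33)) :=
  Lre_d IH (LK LD1_c4 LD2_c41 LD3_c0) (LK LD1_c2 LD2_c17 LD3_c33) Lrfl Lrfl
theorem f58575 : Led Lsl_ct (LP (LK LD1_c1 LD2_c5 LD3_c44)) = (LP (LK LD1_c2 LD2_c17 LD3_c33)) :=
  Lre_c IH (LK LD1_c1 LD2_c5 LD3_c44) (LK LD1_c2 LD2_c17 LD3_c33) Lrfl Lrfl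
theorem f413457 : Led Lsl_gt (LP (LK LD1_c0 LD2_c40 LD3_c25)) = (LP (LK LD1_c1 LD2_c5 LD3_c44)) :=
  Lre_g IH (LK LD1_c0 LD2_c40 LD3_c25) (LK LD1_c1 LD2_c5 LD3_c44) Lrfl Lrfl
theorem f413458 : Led Lsl_ct (LP (LK LD1_c1 LD2_c27 LD3_c20)) = (LP (LK LD1_c0 LD2_c40 LD3_c25)) :=
  Lre_c IH (LK LD1_c1 LD2_c27 LD3_c20) (LK LD1_c0 LD2_c40 LD3_c25) Lrfl Lrfl
theorem f413459 : Led Lsl_gf (LP (LK LD1_c1 LD2_c27 LD3_c20)) = (LP (LK LD1_c1 LD2_c20 LD3_c53)) :=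
  Lgr Lrot147 (Lpr_ct (f413458 IH) (Lpr_gt (f413457 IH) (Lpr_ct (f58575 IH) (Lpe (f59970 IH) (Lpe (f75907 IH) (Lpe (f9202 IH) (Lpr_cf (f413445 IH) (Lpr_gf (f139928 IH) (Lpe (f61287 IH) (Lpn (LP (LK LD1_c1 LD2_c20 LD3_c53))))))))))))
theorem f61491 : Led Lsl_ft (LP (LK LD1_c1 LD2_c20 LD3_c53)) = (LP (LK LD1_c2 LD2_c49 LD3_c30)) :=
  Lre_f IH (LK LD1_c1 LD2_c20 LD3_c53) (LK LD1_c2 LD2_c49 LD3_c30) Lrfl Lrfl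
theorem f73649 : Led Lsl_at (LP (LK LD1_c2 LD2_c49 LD3_c30)) = (LP (LK LD1_c2 LD2_c52 LD3_c9)) :=
  Lgr Lrot100 (Lpr_af (K2.f73647 IH) (Lpn (LP (LK LD1_c2 LD2_c52 LD3_c9))))
theorem f413463 : Led Lsl_gt (LP (LK LD1_c1 LD2_c27 LD3_c20)) = (LP (LK LD1_c2 LD2_c52 LD3_c9)) :=
  Lgr Lrot46 (Lpr_gf (f413459 IH) (Lpr_ft (f61491 IH) (Lpr_at (f73649 IH) (Lpn (LP (LK LD1_c2 LD2_c52 LD3_c9))))))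
theorem f413472 : Led Lsl_ct (LP (LK LD1_c0 LD2_c40 LD3_c25)) = (LP (LK LD1_c1 LD2_c27 LD3_c20)) :=
  Lre_c IH (LK LD1_c0 LD2_c40 LD3_c25) (LK LD1_c1 LD2_c27 LD3_c20) Lrfl Lrfl
theorem f59833 : Led Lsl_gt (LP (LK LD1_c0 LD2_c18 LD3_c5)) = (LP (LK LD1_c0 LD2_c40 LD3_c25)) :=
  Lre_g IH (LK LD1_c0 LD2_c18 LD3_c5) (LK LD1_c0 LD2_c40 LD3_c25) Lrfl Lrfl
theorem f413542 : Led Lsl_ct (LP (LK LD1_c0 LD2_c19 LD3_c55)) = (LP (LK LD1_c0 LD2_c44 LD3_c53)) :=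
  Lre_c IH (LK LD1_c0 LD2_c19 LD3_c55) (LK LD1_c0 LD2_c44 LD3_c53) Lrfl Lrfl
theorem f413543 : Led Lsl_gt (LP (LK LD1_c0 LD2_c44 LD3_c53)) = (LP (LK LD1_c1 LD2_c36 LD3_c57)) :=
  Lre_g IH (LK LD1_c0 LD2_c44 LD3_c53) (LK LD1_c1 LD2_c36 LD3_c57) Lrfl Lrfl
theorem f413544 : Led Lsl_ct (LP (LK LD1_c1 LD2_c36 LD3_c57)) = (LP (LK LD1_c0 LD2_c45 LD3_c37)) :=
  Lgr Lrot110 (Lpe (f413543 IH) (Lpe (f413542 IH) (Lpe (K0.f23179 IH) (Lpe (f22957 IH) (Lpr_gt (f59833 IH) (Lpr_ct (f413472 IH) (Lpr_gt (f413463 IH) (Lpe (K2.f73765 IH) (Lpe (K2.f76918 IH) (Lpn (LP (LK LD1_c0 LD2_c45 LD3_c37))))))))))))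
theorem f413557 : Led Lsl_dt (LP (LK LD1_c3 LD2_c21 LD3_c24)) = (LP (LK LD1_c1 LD2_c36 LD3_c57)) :=
  Lre_d IH (LK LD1_c3 LD2_c21 LD3_c24) (LK LD1_c1 LD2_c36 LD3_c57) Lrfl Lrfl
theorem f73653 : Led Lsl_ct (LP (LK LD1_c1 LD2_c29 LD3_c39)) = (LP (LK LD1_c2 LD2_c52 LD3_c9)) :=
  Lgr Lrot111 (Lpr_af (K2.f66971 IH) (Lpr_cf (K2.f61477 IH) (Lpr_af (K2.f73647 IH) (Lpn (LP (LK LD1_c2 LD2_c52 LD3_c9))))))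
theorem f73668 : Led Lsl_dt (LP (LK LD1_c2 LD2_c52 LD3_c9)) = (LP (LK LD1_c5 LD2_c51 LD3_c50)) :=
  Lre_d IH (LK LD1_c2 LD2_c52 LD3_c9) (LK LD1_c5 LD2_c51 LD3_c50) Lrfl Lrfl
theorem f73678 : Led Lsl_at (LP (LK LD1_c9 LD2_c51 LD3_c7)) = (LP (LK LD1_c6 LD2_c51 LD3_c18)) :=
  Lre_a IH (LK LD1_c9 LD2_c51 LD3_c7) (LK LD1_c6 LD2_c51 LD3_c18) Lrfl Lrfl
theorem f73679 : Led Lsl_ct (LP (LK LD1_c5 LD2_c51 LD3_c50)) = (LP (LK LD1_c9 LD2_c51 LD3_c7)) :=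
  Lgr Lrot111 (Lpe (K2.f73656 IH) (Lpr_cf (K2.f73676 IH) (Lpe (f73678 IH) (Lpn (LP (LK LD1_c9 LD2_c51 LD3_c7))))))
theorem f73922 : Led Lsl_dt (LP (LK LD1_c9 LD2_c51 LD3_c7)) = (LP (LK LD1_c5 LD2_c0 LD3_c23)) :=
  Lre_d IH (LK LD1_c9 LD2_c51 LD3_c7) (LK LD1_c5 LD2_c0 LD3_c23) Lrfl Lrfl
theorem f73932 : Led Lsl_ct (LP (LK LD1_c5 LD2_c0 LD3_c23)) = (LP (LK LD1_c2 LD2_c27 LD3_c55)) :=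
  Lre_c IH (LK LD1_c5 LD2_c0 LD3_c23) (LK LD1_c2 LD2_c27 LD3_c55) Lrfl Lrfl
theorem f76925 : Led Lsl_at (LP (LK LD1_c1 LD2_c38 LD3_c21)) = (LP (LK LD1_c2 LD2_c27 LD3_c55)) :=
  Lre_a IH (LK LD1_c1 LD2_c38 LD3_c21) (LK LD1_c2 LD2_c27 LD3_c55) Lrfl Lrfl
theorem f413565 : Led Lsl_ft (LP (LK LD1_c3 LD2_c21 LD3_c24)) = (LP (LK LD1_c1 LD2_c38 LD3_c21)) :=
  Lgr Lrot142 (Lpr_dt (f413557 IH) (Lpr_ct (f413544 IH) (Lpr_dt (K2.f76918 IH) (Lpr_ct (f73653 IH) (Lpr_dt (f73668 IH) (Lpr_ct (f73679 IH) (Lpr_dt (f73922 IH) (Lpr_ct (f73932 IH) (Lpe (f76925 IH) (Lpn (LP (LK LD1_c1 LD2_c38 LD3_c21))))))))))))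
theorem f20431 : Led Lsl_gt (LP (LK LD1_c5 LD2_c0 LD3_c22)) = (LP (LK LD1_c2 LD2_c27 LD3_c55)) :=
  Lre_g IH (LK LD1_c5 LD2_c0 LD3_c22) (LK LD1_c2 LD2_c27 LD3_c55) Lrfl Lrfl
theorem f413614 : Led Lsl_gt (LP (LK LD1_c3 LD2_c21 LD3_c24)) = (LP (LK LD1_c5 LD2_c0 LD3_c22)) :=
  Lgr Lrot5 (Lpr_ft (f413565 IH) (Lpr_at (f76925 IH) (Lpe (f20431 IH) (Lpn (LP (LK LD1_c5 LD2_c0 LD3_c22))))))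
theorem f413608 : Led Lsl_dt (LP (LK LD1_c1 LD2_c36 LD3_c57)) = (LP (LK LD1_c3 LD2_c21 LD3_c24)) :=
  Lre_d IH (LK LD1_c1 LD2_c36 LD3_c57) (LK LD1_c3 LD2_c21 LD3_c24) Lrfl Lrfl
theorem f413451 : Led Lsl_ct (LP (LK LD1_c0 LD2_c44 LD3_c53)) = (LP (LK LD1_c0 LD2_c19 LD3_c55)) :=
  Lre_c IH (LK LD1_c0 LD2_c44 LD3_c53) (LK LD1_c0 LD2_c19 LD3_c55) Lrfl Lrfl
theorem f23225 : Led Lsl_dt (LP (LK LD1_c0 LD2_c31 LD3_c20)) = (LP (LK LD1_c1 LD2_c5 LD3_c44)) :=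
  Lre_d IH (LK LD1_c0 LD2_c31 LD3_c20) (LK LD1_c1 LD2_c5 LD3_c44) Lrfl Lrfl
theorem f141012 : Led Lsl_dt (LP (LK LD1_c0 LD2_c40 LD3_c26)) = (LP (LK LD1_c1 LD2_c27 LD3_c25)) :=
  Lre_d IH (LK LD1_c0 LD2_c40 LD3_c26) (LK LD1_c1 LD2_c27 LD3_c25) Lrfl Lrfl
theorem f413441 : Led Lsl_ct (LP (LK LD1_c1 LD2_c27 LD3_c25)) = (LP (LK LD1_c3 LD2_c3 LD3_c1)) :=
  Lre_c IH (LK LD1_c1 LD2_c27 LD3_c25) (LK LD1_c3 LD2_c3 LD3_c1) Lrfl Lrfl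
theorem f413617 : Led Lsl_df (LP (LK LD1_c3 LD2_c3 LD3_c1)) = (LP (LK LD1_c5 LD2_c0 LD3_c22)) :=
  Lgr Lrot84 (Lpe (f413441 IH) (Lpe (f141012 IH) (Lpe (K9.f23226 IH) (Lpe (f23225 IH) (Lpe (K0.f23218 IH) (Lpe (f413451 IH) (Lpr_gt (f413543 IH) (Lpr_dt (f413608 IH) (Lpr_gt (f413614 IH) (Lpn (LP (LK LD1_c5 LD2_c0 LD3_c22))))))))))))
theorem f413625 : Led Lsl_dt (LP (LK LD1_c3 LD2_c3 LD3_c1)) = (LP (LK LD1_c5 LD2_c0 LD3_c22)) :=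
  Lgr Lrot42 (Lpr_df (f413617 IH) (Lpn (LP (LK LD1_c5 LD2_c0 LD3_c22))))
theorem f20429 : Led Lsl_et (LP (LK LD1_c1 LD2_c11 LD3_c5)) = (LP (LK LD1_c0 LD2_c32 LD3_c57)) :=
  Lre_e IH (LK LD1_c1 LD2_c11 LD3_c5) (LK LD1_c0 LD2_c32 LD3_c57) Lrfl Lrfl
theorem f59432 : Led Lsl_gt (LP (LK LD1_c1 LD2_c20 LD3_c60)) = (LP (LK LD1_c2 LD2_c49 LD3_c46)) :=
  Lre_g IH (LK LD1_c1 LD2_c20 LD3_c60) (LK LD1_c2 LD2_c49 LD3_c46) Lrfl Lrfl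
theorem f413629 : Led Lsl_et (LP (LK LD1_c3 LD2_c3 LD3_c1)) = (LP (LK LD1_c2 LD2_c49 LD3_c46)) :=
  Lgr Lrot122 (Lpr_dt (f413625 IH) (Lpr_gt (f20431 IH) (Lpe (K2.f20430 IH) (Lpr_et (f20429 IH) (Lpr_gt (K0.f20276 IH) (Lpr_dt (K0.f20275 IH) (Lpe (K1.f59332 IH) (Lpe (K1.f56584 IH) (Lpr_et (K2.f59431 IH) (Lpr_gt (f59432 IH) (Lpn (LP (LK LD1_c2 LD2_c49 LD3_c46)))))))))))))
theorem f413622 : Led Lsl_et (LP (LK LD1_c1 LD2_c36 LD3_c60)) = (LP (LK LD1_c0 LD2_c44 LD3_c53)) :=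
  Lre_e IH (LK LD1_c1 LD2_c36 LD3_c60) (LK LD1_c0 LD2_c44 LD3_c53) Lrfl Lrfl
theorem f413623 : Led Lsl_dt (LP (LK LD1_c1 LD2_c36 LD3_c60)) = (LP (LK LD1_c3 LD2_c21 LD3_c32)) :=
  Lre_d IH (LK LD1_c1 LD2_c36 LD3_c60) (LK LD1_c3 LD2_c21 LD3_c32) Lrfl Lrfl
theorem f79881 : Led Lsl_gf (LP (LK LD1_c2 LD2_c52 LD3_c4)) = (LP (LK LD1_c2 LD2_c49 LD3_c46)) :=
  Lgr Lrot76 (Lpr_af (K2.f73598 IH) (Lpe (K8.f73207 IH) (Lpr_gt (f59432 IH) (Lpn (LP (LK LD1_c2 LD2_c49 LD3_c46))))))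
theorem f73790 : Led Lsl_ef (LP (LK LD1_c2 LD2_c52 LD3_c4)) = (LP (LK LD1_c2 LD2_c49 LD3_c30)) :=
  Lgr Lrot20 (Lpr_at (K2.f73596 IH) (Lpr_et (K2.f73787 IH) (Lpe (K2.f73647 IH) (Lpn (LP (LK LD1_c2 LD2_c49 LD3_c30))))))
theorem f413636 : Led Lsl_gf (LP (LK LD1_c3 LD2_c21 LD3_c32)) = (LP (LK LD1_c5 LD2_c47 LD3_c13)) :=
  Lgr Lrot145 (Lpe (f413623 IH) (Lpr_et (f413622 IH) (Lpr_gt (f413543 IH) (Lpr_dt (f413608 IH) (Lpr_gt (f413614 IH) (Lpe (f413625 IH) (Lpr_et (f413629 IH) (Lpe (f79881 IH) (Lpr_ef (f73790 IH) (Lpr_dt (K2.f61479 IH) (Lpn (LP (LK LD1_c5 LD2_c47 LD3_c13)))))))))))))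
theorem f23198 : Led Lsl_dt (LP (LK LD1_c3 LD2_c21 LD3_c32)) = (LP (LK LD1_c1 LD2_c36 LD3_c60)) :=
  Lre_d IH (LK LD1_c3 LD2_c21 LD3_c32) (LK LD1_c1 LD2_c36 LD3_c60) Lrfl Lrfl
theorem f23197 : Led Lsl_ct (LP (LK LD1_c1 LD2_c36 LD3_c60)) = (LP (LK LD1_c0 LD2_c44 LD3_c55)) :=
  Lre_c IH (LK LD1_c1 LD2_c36 LD3_c60) (LK LD1_c0 LD2_c44 LD3_c55) Lrfl Lrfl
theorem f23200 : Led Lsl_dt (LP (LK LD1_c0 LD2_c31 LD3_c19)) = (LP (LK LD1_c0 LD2_c44 LD3_c55)) :=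
  Lgr Lrot42 (Lpr_df (K0.f23181 IH) (Lpn (LP (LK LD1_c0 LD2_c44 LD3_c55))))
theorem f180335 : Led Lsl_ct (LP (LK LD1_c1 LD2_c5 LD3_c42)) = (LP (LK LD1_c2 LD2_c17 LD3_c35)) :=
  Lre_c IH (LK LD1_c1 LD2_c5 LD3_c42) (LK LD1_c2 LD2_c17 LD3_c35) Lrfl Lrfl
theorem f413640 : Led Lsl_gt (LP (LK LD1_c2 LD2_c17 LD3_c35)) = (LP (LK LD1_c2 LD2_c49 LD3_c30)) :=
  Lgr Lrot94 (Lpe (f180335 IH) (Lpr_gt (K0.f23216 IH) (Lpr_dt (K0.f23215 IH) (Lpr_gt (K0.f23214 IH) (Lpr_dt (f23200 IH) (Lpe (f23197 IH) (Lpe (f23198 IH) (Lpr_gf (f413636 IH) (Lpe (K2.f61479 IH) (Lpn (LP (LK LD1_c2 LD2_c49 LD3_c30))))))))))))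
theorem f68366 : Led Lsl_gt (LP (LK LD1_c0 LD2_c13 LD3_c54)) = (LP (LK LD1_c0 LD2_c31 LD3_c18)) :=
  Lre_g IH (LK LD1_c0 LD2_c13 LD3_c54) (LK LD1_c0 LD2_c31 LD3_c18) Lrfl Lrfl
theorem f413655 : Led Lsl_ct (LP (LK LD1_c0 LD2_c31 LD3_c18)) = (LP (LK LD1_c1 LD2_c8 LD3_c26)) :=
  Lre_c IH (LK LD1_c0 LD2_c31 LD3_c18) (LK LD1_c1 LD2_c8 LD3_c26) Lrfl Lrfl
theorem f413656 : Led Lsl_gt (LP (LK LD1_c1 LD2_c8 LD3_c26)) = (LP (LK LD1_c2 LD2_c22 LD3_c38)) :=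
  Lre_g IH (LK LD1_c1 LD2_c8 LD3_c26) (LK LD1_c2 LD2_c22 LD3_c38) Lrfl Lrfl
theorem f413657 : Led Lsl_ct (LP (LK LD1_c2 LD2_c22 LD3_c38)) = (LP (LK LD1_c1 LD2_c37 LD3_c40)) :=
  Lgr Lrot110 (Lpe (f413656 IH) (Lpe (f413655 IH) (Lpe (f68366 IH) (Lpe (K0.f23177 IH) (Lpr_gt (K0.f23263 IH) (Lpr_ct (f180335 IH) (Lpr_gt (f413640 IH) (Lpe (K2.f61477 IH) (Lpr_df (K2.f73738 IH) (Lpn (LP (LK LD1_c1 LD2_c37 LD3_c40))))))))))))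
theorem f77140 : Led Lsl_bt (LP (LK LD1_c1 LD2_c30 LD3_c24)) = (LP (LK LD1_c3 LD2_c8 LD3_c19)) :=
  Lre_b IH (LK LD1_c1 LD2_c30 LD3_c24) (LK LD1_c3 LD2_c8 LD3_c19) Lrfl Lrfl
theorem f73745 : Led Lsl_bt (LP (LK LD1_c3 LD2_c22 LD3_c44)) = (LP (LK LD1_c1 LD2_c37 LD3_c40)) :=
  Lre_b IH (LK LD1_c3 LD2_c22 LD3_c44) (LK LD1_c1 LD2_c37 LD3_c40) Lrfl Lrfl
theorem f77141 : Led Lsl_ef (LP (LK LD1_c1 LD2_c30 LD3_c24)) = (LP (LK LD1_c1 LD2_c37 LD3_c40)) :=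
  Lgr Lrot29 (Lpr_bt (f77140 IH) (Lpr_et (K2.f77136 IH) (Lpr_bt (f73745 IH) (Lpn (LP (LK LD1_c1 LD2_c37 LD3_c40))))))
theorem f413674 : Led Lsl_ef (LP (LK LD1_c2 LD2_c22 LD3_c38)) = (LP (LK LD1_c1 LD2_c11 LD3_c4)) :=
  Lgr Lrot28 (Lpr_ct (f413657 IH) (Lpe (f77141 IH) (Lpr_ct (K9.f77357 IH) (Lpn (LP (LK LD1_c1 LD2_c11 LD3_c4))))))
theorem f40931 : Led Lsl_dt (LP (LK LD1_c1 LD2_c11 LD3_c4)) = (LP (LK LD1_c2 LD2_c26 LD3_c48)) :=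
  Lre_d IH (LK LD1_c1 LD2_c11 LD3_c4) (LK LD1_c2 LD2_c26 LD3_c48) Lrfl Lrfl
theorem f40472 : Led Lsl_gt (LP (LK LD1_c3 LD2_c59 LD3_c14)) = (LP (LK LD1_c1 LD2_c56 LD3_c20)) :=
  Lre_g IH (LK LD1_c3 LD2_c59 LD3_c14) (LK LD1_c1 LD2_c56 LD3_c20) Lrfl Lrfl
theorem f40945 : Led Lsl_gf (LP (LK LD1_c3 LD2_c59 LD3_c14)) = (LP (LK LD1_c2 LD2_c26 LD3_c48)) :=
  Lgr Lrot47 (Lpr_gt (f40472 IH) (Lpr_af (K1.f40920 IH) (Lpe (K1.f40919 IH) (Lpn (LP (LK LD1_c2 LD2_c26 LD3_c48))))))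
theorem f413486 : Led Lsl_et (LP (LK LD1_c3 LD2_c2 LD3_c50)) = (LP (LK LD1_c1 LD2_c27 LD3_c20)) :=
  Lre_e IH (LK LD1_c3 LD2_c2 LD3_c50) (LK LD1_c1 LD2_c27 LD3_c20) Lrfl Lrfl
theorem f36235 : Led Lsl_et (LP (LK LD1_c0 LD2_c55 LD3_c3)) = (LP (LK LD1_c0 LD2_c24 LD3_c56)) :=
  Lre_e IH (LK LD1_c0 LD2_c55 LD3_c3) (LK LD1_c0 LD2_c24 LD3_c56) Lrfl Lrfl
theorem f36236 : Led Lsl_dt (LP (LK LD1_c0 LD2_c55 LD3_c3)) = (LP (LK LD1_c1 LD2_c56 LD3_c20)) :=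
  Lre_d IH (LK LD1_c0 LD2_c55 LD3_c3) (LK LD1_c1 LD2_c56 LD3_c20) Lrfl Lrfl
theorem f413487 : Led Lsl_dt (LP (LK LD1_c3 LD2_c2 LD3_c50)) = (LP (LK LD1_c3 LD2_c59 LD3_c14)) :=
  Lgr Lrot136 (Lpr_et (f413486 IH) (Lpr_gf (f413459 IH) (Lpe (K2.f61277 IH) (Lpr_dt (K6.f60919 IH) (Lpe (K1.f20555 IH) (Lpe (K1.f20266 IH) (Lpe (K2.f56667 IH) (Lpe (f36235 IH) (Lpr_dt (f36236 IH) (Lpe (f40472 IH) (Lpn (LP (LK LD1_c3 LD2_c59 LD3_c14)))))))))))))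
theorem f139931 : Led Lsl_gt (LP (LK LD1_c0 LD2_c31 LD3_c20)) = (LP (LK LD1_c0 LD2_c19 LD3_c56)) :=
  Lre_g IH (LK LD1_c0 LD2_c31 LD3_c20) (LK LD1_c0 LD2_c19 LD3_c56) Lrfl Lrfl
theorem f140981 : Led Lsl_dt (LP (LK LD1_c0 LD2_c19 LD3_c56)) = (LP (LK LD1_c0 LD2_c44 LD3_c58)) :=
  Lre_d IH (LK LD1_c0 LD2_c19 LD3_c56) (LK LD1_c0 LD2_c44 LD3_c58) Lrfl Lrfl
theorem f413535 : Led Lsl_ct (LP (LK LD1_c0 LD2_c44 LD3_c58)) = (LP (LK LD1_c1 LD2_c37 LD3_c12)) :=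
  Lre_c IH (LK LD1_c0 LD2_c44 LD3_c58) (LK LD1_c1 LD2_c37 LD3_c12) Lrfl Lrfl
theorem f413536 : Led Lsl_dt (LP (LK LD1_c3 LD2_c21 LD3_c57)) = (LP (LK LD1_c1 LD2_c37 LD3_c12)) :=
  Lre_d IH (LK LD1_c3 LD2_c21 LD3_c57) (LK LD1_c1 LD2_c37 LD3_c12) Lrfl Lrfl
theorem f413537 : Led Lsl_gf (LP (LK LD1_c3 LD2_c21 LD3_c57)) = (LP (LK LD1_c5 LD2_c51 LD3_c50)) :=
  Lgr Lrot143 (Lpr_dt (f413536 IH) (Lpe (f413535 IH) (Lpe (f140981 IH) (Lpe (f139931 IH) (Lpe (K9.f25594 IH) (Lpe (f413457 IH) (Lpe (f413458 IH) (Lpr_gt (f413463 IH) (Lpr_dt (f73668 IH) (Lpn (LP (LK LD1_c5 LD2_c51 LD3_c50))))))))))))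
theorem f413550 : Led Lsl_dt (LP (LK LD1_c1 LD2_c37 LD3_c12)) = (LP (LK LD1_c3 LD2_c21 LD3_c57)) :=
  Lre_d IH (LK LD1_c1 LD2_c37 LD3_c12) (LK LD1_c3 LD2_c21 LD3_c57) Lrfl Lrfl
theorem f415232 : Led Lsl_ef (LP (LK LD1_c1 LD2_c8 LD3_c26)) = (LP (LK LD1_c1 LD2_c37 LD3_c12)) :=
  Lgr Lrot114 (Lpr_gt (f413656 IH) (Lpr_ef (f413674 IH) (Lpr_dt (f40931 IH) (Lpe (f40945 IH) (Lpe (f413487 IH) (Lpr_et (f413486 IH) (Lpr_gt (f413463 IH) (Lpr_dt (f73668 IH) (Lpe (f413537 IH) (Lpe (f413550 IH) (Lpn (LP (LK LD1_c1 LD2_c37 LD3_c12)))))))))))))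
theorem f415242 : Led Lsl_et (LP (LK LD1_c1 LD2_c8 LD3_c26)) = (LP (LK LD1_c1 LD2_c37 LD3_c12)) :=
  Lgr Lrot87 (Lpr_ef (f415232 IH) (Lpn (LP (LK LD1_c1 LD2_c37 LD3_c12))))
theorem f413540 : Led Lsl_ct (LP (LK LD1_c1 LD2_c37 LD3_c12)) = (LP (LK LD1_c0 LD2_c44 LD3_c58)) :=
  Lre_c IH (LK LD1_c1 LD2_c37 LD3_c12) (LK LD1_c0 LD2_c44 LD3_c58) Lrfl Lrfl
theorem f415251 : Led Lsl_ef (LP (LK LD1_c0 LD2_c31 LD3_c18)) = (LP (LK LD1_c0 LD2_c44 LD3_c58)) :=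
  Lgr Lrot28 (Lpr_ct (f413655 IH) (Lpr_et (f415242 IH) (Lpr_ct (f413540 IH) (Lpn (LP (LK LD1_c0 LD2_c44 LD3_c58))))))
theorem f20137 : Led Lsl_gt (LP (LK LD1_c0 LD2_c31 LD3_c18)) = (LP (LK LD1_c0 LD2_c19 LD3_c57)) :=
  Lre_g IH (LK LD1_c0 LD2_c31 LD3_c18) (LK LD1_c0 LD2_c19 LD3_c57) Lrfl Lrfl
theorem f24670 : Led Lsl_et (LP (LK LD1_c0 LD2_c44 LD3_c60)) = (LP (LK LD1_c0 LD2_c19 LD3_c57)) :=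
  Lre_e IH (LK LD1_c0 LD2_c44 LD3_c60) (LK LD1_c0 LD2_c19 LD3_c57) Lrfl Lrfl
theorem f23820 : Led Lsl_dt (LP (LK LD1_c0 LD2_c44 LD3_c60)) = (LP (LK LD1_c1 LD2_c37 LD3_c15)) :=
  Lre_d IH (LK LD1_c0 LD2_c44 LD3_c60) (LK LD1_c1 LD2_c37 LD3_c15) Lrfl Lrfl
theorem f23821 : Led Lsl_gt (LP (LK LD1_c1 LD2_c37 LD3_c15)) = (LP (LK LD1_c2 LD2_c22 LD3_c55)) :=
  Lre_g IH (LK LD1_c1 LD2_c37 LD3_c15) (LK LD1_c2 LD2_c22 LD3_c55) Lrfl Lrfl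
theorem f27137 : Led Lsl_dt (LP (LK LD1_c0 LD2_c44 LD3_c58)) = (LP (LK LD1_c0 LD2_c19 LD3_c56)) :=
  Lre_d IH (LK LD1_c0 LD2_c44 LD3_c58) (LK LD1_c0 LD2_c19 LD3_c56) Lrfl Lrfl
theorem f415308 : Led Lsl_et (LP (LK LD1_c1 LD2_c27 LD3_c22)) = (LP (LK LD1_c0 LD2_c40 LD3_c25)) :=
  Lre_e IH (LK LD1_c1 LD2_c27 LD3_c22) (LK LD1_c0 LD2_c40 LD3_c25) Lrfl Lrfl
theorem f415309 : Led Lsl_df (LP (LK LD1_c2 LD2_c22 LD3_c55)) = (LP (LK LD1_c1 LD2_c27 LD3_c22)) :=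
  Lgr Lrot168 (Lpe (f23821 IH) (Lpe (f23820 IH) (Lpr_et (f24670 IH) (Lpe (f20137 IH) (Lpr_ef (f415251 IH) (Lpr_dt (f27137 IH) (Lpe (f139931 IH) (Lpe (K9.f25594 IH) (Lpe (f413457 IH) (Lpe (f415308 IH) (Lpn (LP (LK LD1_c1 LD2_c27 LD3_c22)))))))))))))
theorem f62600 : Led Lsl_gt (LP (LK LD1_c2 LD2_c22 LD3_c55)) = (LP (LK LD1_c1 LD2_c8 LD3_c34)) :=
  Lre_g IH (LK LD1_c2 LD2_c22 LD3_c55) (LK LD1_c1 LD2_c8 LD3_c34) Lrfl Lrfl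
theorem f135600 : Led Lsl_dt (LP (LK LD1_c0 LD2_c31 LD3_c21)) = (LP (LK LD1_c1 LD2_c8 LD3_c34)) :=
  Lre_d IH (LK LD1_c0 LD2_c31 LD3_c21) (LK LD1_c1 LD2_c8 LD3_c34) Lrfl Lrfl
theorem f415326 : Led Lsl_et (LP (LK LD1_c0 LD2_c31 LD3_c21)) = (LP (LK LD1_c0 LD2_c13 LD3_c55)) :=
  Lre_e IH (LK LD1_c0 LD2_c31 LD3_c21) (LK LD1_c0 LD2_c13 LD3_c55) Lrfl Lrfl
theorem f57501 : Led Lsl_et (LP (LK LD1_c0 LD2_c19 LD3_c52)) = (LP (LK LD1_c0 LD2_c8 LD3_c54)) :=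
  Lre_e IH (LK LD1_c0 LD2_c19 LD3_c52) (LK LD1_c0 LD2_c8 LD3_c54) Lrfl Lrfl
theorem f62598 : Led Lsl_gt (LP (LK LD1_c0 LD2_c44 LD3_c42)) = (LP (LK LD1_c1 LD2_c36 LD3_c28)) :=
  Lre_g IH (LK LD1_c0 LD2_c44 LD3_c42) (LK LD1_c1 LD2_c36 LD3_c28) Lrfl Lrfl
theorem f135417 : Led Lsl_dt (LP (LK LD1_c3 LD2_c20 LD3_c5)) = (LP (LK LD1_c1 LD2_c36 LD3_c28)) :=
  Lre_d IH (LK LD1_c3 LD2_c20 LD3_c5) (LK LD1_c1 LD2_c36 LD3_c28) Lrfl Lrfl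
theorem f413498 : Led Lsl_gt (LP (LK LD1_c3 LD2_c2 LD3_c54)) = (LP (LK LD1_c1 LD2_c27 LD3_c22)) :=
  Lre_g IH (LK LD1_c3 LD2_c2 LD3_c54) (LK LD1_c1 LD2_c27 LD3_c22) Lrfl Lrfl
theorem f415327 : Led Lsl_et (LP (LK LD1_c3 LD2_c20 LD3_c5)) = (LP (LK LD1_c3 LD2_c2 LD3_c54)) :=
  Lgr Lrot121 (Lpr_dt (f135417 IH) (Lpe (f62598 IH) (Lpe (K6.f57498 IH) (Lpr_et (f57501 IH) (Lpe (K1.f20888 IH) (Lpe (f415326 IH) (Lpr_dt (f135600 IH) (Lpe (f62600 IH) (Lpr_df (f415309 IH) (Lpe (f413498 IH) (Lpn (LP (LK LD1_c3 LD2_c2 LD3_c54)))))))))))))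
theorem f57140 : Led Lsl_gt (LP (LK LD1_c0 LD2_c44 LD3_c41)) = (LP (LK LD1_c0 LD2_c19 LD3_c52)) :=
  Lre_g IH (LK LD1_c0 LD2_c44 LD3_c41) (LK LD1_c0 LD2_c19 LD3_c52) Lrfl Lrfl
theorem f415412 : Led Lsl_et (LP (LK LD1_c1 LD2_c36 LD3_c27)) = (LP (LK LD1_c0 LD2_c44 LD3_c41)) :=
  Lre_e IH (LK LD1_c1 LD2_c36 LD3_c27) (LK LD1_c0 LD2_c44 LD3_c41) Lrfl Lrfl
theorem f415319 : Led Lsl_et (LP (LK LD1_c0 LD2_c40 LD3_c25)) = (LP (LK LD1_c1 LD2_c27 LD3_c22)) :=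
  Lre_e IH (LK LD1_c0 LD2_c40 LD3_c25) (LK LD1_c1 LD2_c27 LD3_c22) Lrfl Lrfl
theorem f59834 : Led Lsl_dt (LP (LK LD1_c0 LD2_c40 LD3_c25)) = (LP (LK LD1_c1 LD2_c27 LD3_c21)) :=
  Lre_d IH (LK LD1_c0 LD2_c40 LD3_c25) (LK LD1_c1 LD2_c27 LD3_c21) Lrfl Lrfl
theorem f59835 : Led Lsl_gt (LP (LK LD1_c1 LD2_c27 LD3_c21)) = (LP (LK LD1_c3 LD2_c2 LD3_c51)) :=
  Lre_g IH (LK LD1_c1 LD2_c27 LD3_c21) (LK LD1_c3 LD2_c2 LD3_c51) Lrfl Lrfl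
theorem f415413 : Led Lsl_dt (LP (LK LD1_c1 LD2_c36 LD3_c27)) = (LP (LK LD1_c3 LD2_c2 LD3_c51)) :=
  Lgr Lrot37 (Lpr_et (f415412 IH) (Lpr_gt (f57140 IH) (Lpr_dt (K6.f57498 IH) (Lpr_gt (f62598 IH) (Lpe (f135417 IH) (Lpr_et (f415327 IH) (Lpr_gt (f413498 IH) (Lpe (f415319 IH) (Lpr_dt (f59834 IH) (Lpr_gt (f59835 IH) (Lpn (LP (LK LD1_c3 LD2_c2 LD3_c51)))))))))))))
theorem f415415 : Led Lsl_df (LP (LK LD1_c1 LD2_c36 LD3_c27)) = (LP (LK LD1_c3 LD2_c2 LD3_c51)) :=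
  Lgr Lrot38 (Lpr_dt (f415413 IH) (Lpn (LP (LK LD1_c3 LD2_c2 LD3_c51))))
theorem f27135 : Led Lsl_ct (LP (LK LD1_c0 LD2_c18 LD3_c5)) = (LP (LK LD1_c0 LD2_c40 LD3_c24)) :=
  Lre_c IH (LK LD1_c0 LD2_c18 LD3_c5) (LK LD1_c0 LD2_c40 LD3_c24) Lrfl Lrfl
theorem f59830 : Led Lsl_dt (LP (LK LD1_c6 LD2_c2 LD3_c7)) = (LP (LK LD1_c2 LD2_c57 LD3_c9)) :=
  Lre_d IH (LK LD1_c6 LD2_c2 LD3_c7) (LK LD1_c2 LD2_c57 LD3_c9) Lrfl Lrfl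
theorem f415420 : Led Lsl_cf (LP (LK LD1_c1 LD2_c36 LD3_c27)) = (LP (LK LD1_c2 LD2_c57 LD3_c9)) :=
  Lgr Lrot14 (Lpr_df (f415415 IH) (Lpe (f59835 IH) (Lpe (f59834 IH) (Lpe (f59833 IH) (Lpr_ct (f27135 IH) (Lpr_gt (K1.f59815 IH) (Lpr_dt (f59826 IH) (Lpe (f59827 IH) (Lpr_dt (f59830 IH) (Lpn (LP (LK LD1_c2 LD2_c57 LD3_c9))))))))))))
theorem f415423 : Led Lsl_et (LP (LK LD1_c1 LD2_c24 LD3_c19)) = (LP (LK LD1_c2 LD2_c57 LD3_c9)) :=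
  Lre_e IH (LK LD1_c1 LD2_c24 LD3_c19) (LK LD1_c2 LD2_c57 LD3_c9) Lrfl Lrfl
theorem f415424 : Led Lsl_ct (LP (LK LD1_c0 LD2_c44 LD3_c41)) = (LP (LK LD1_c1 LD2_c24 LD3_c19)) :=
  Lgr Lrot15 (Lpe (f415412 IH) (Lpr_cf (f415420 IH) (Lpe (f415423 IH) (Lpn (LP (LK LD1_c1 LD2_c24 LD3_c19))))))
theorem f62599 : Led Lsl_dt (LP (LK LD1_c1 LD2_c36 LD3_c28)) = (LP (LK LD1_c3 LD2_c20 LD3_c5)) :=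
  Lre_d IH (LK LD1_c1 LD2_c36 LD3_c28) (LK LD1_c3 LD2_c20 LD3_c5) Lrfl Lrfl
theorem f59860 : Led Lsl_dt (LP (LK LD1_c0 LD2_c38 LD3_c54)) = (LP (LK LD1_c1 LD2_c24 LD3_c20)) :=
  Lre_d IH (LK LD1_c0 LD2_c38 LD3_c54) (LK LD1_c1 LD2_c24 LD3_c20) Lrfl Lrfl
theorem f204679 : Led Lsl_dt (LP (LK LD1_c2 LD2_c57 LD3_c10)) = (LP (LK LD1_c6 LD2_c2 LD3_c9)) :=
  Lre_d IH (LK LD1_c2 LD2_c57 LD3_c10) (LK LD1_c6 LD2_c2 LD3_c9) Lrfl Lrfl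
theorem f415430 : Led Lsl_cf (LP (LK LD1_c3 LD2_c20 LD3_c5)) = (LP (LK LD1_c6 LD2_c2 LD3_c9)) :=
  Lgr Lrot14 (Lpe (f62599 IH) (Lpe (f62598 IH) (Lpe (K6.f57498 IH) (Lpe (f57140 IH) (Lpr_ct (f415424 IH) (Lpr_gt (f59823 IH) (Lpr_dt (f59860 IH) (Lpr_gt (f59861 IH) (Lpr_dt (f204679 IH) (Lpn (LP (LK LD1_c6 LD2_c2 LD3_c9))))))))))))
theorem f69087 : Led Lsl_ct (LP (LK LD1_c1 LD2_c32 LD3_c9)) = (LP (LK LD1_c3 LD2_c11 LD3_c36)) :=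
  Lre_c IH (LK LD1_c1 LD2_c32 LD3_c9) (LK LD1_c3 LD2_c11 LD3_c36) Lrfl Lrfl
theorem f150503 : Led Lsl_ct (LP (LK LD1_c4 LD2_c43 LD3_c39)) = (LP (LK LD1_c2 LD2_c19 LD3_c35)) :=
  Lre_c IH (LK LD1_c4 LD2_c43 LD3_c39) (LK LD1_c2 LD2_c19 LD3_c35) Lrfl Lrfl
theorem f153693 : Led Lsl_at (LP (LK LD1_c3 LD2_c11 LD3_c36)) = (LP (LK LD1_c4 LD2_c43 LD3_c39)) :=
  Lgr Lrot107 (Lpe (f69087 IH) (Lpr_af (K7.f153679 IH) (Lpe (f150503 IH) (Lpn (LP (LK LD1_c4 LD2_c43 LD3_c39))))))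
theorem f153725 : Led Lsl_ft (LP (LK LD1_c1 LD2_c32 LD3_c8)) = (LP (LK LD1_c3 LD2_c11 LD3_c36)) :=
  Lre_f IH (LK LD1_c1 LD2_c32 LD3_c8) (LK LD1_c3 LD2_c11 LD3_c36) Lrfl Lrfl
theorem f79756 : Led Lsl_gt (LP (LK LD1_c1 LD2_c32 LD3_c8)) = (LP (LK LD1_c3 LD2_c11 LD3_c32)) :=
  Lre_g IH (LK LD1_c1 LD2_c32 LD3_c8) (LK LD1_c3 LD2_c11 LD3_c32) Lrfl Lrfl
theorem f435287 : Led Lsl_gt (LP (LK LD1_c3 LD2_c11 LD3_c32)) = (LP (LK LD1_c4 LD2_c43 LD3_c39)) :=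
  Lgr Lrot46 (Lpe (f79756 IH) (Lpr_ft (f153725 IH) (Lpr_at (f153693 IH) (Lpn (LP (LK LD1_c4 LD2_c43 LD3_c39))))))
theorem f150516 : Led Lsl_dt (LP (LK LD1_c4 LD2_c43 LD3_c39)) = (LP (LK LD1_c9 LD2_c20 LD3_c31)) :=
  Lre_d IH (LK LD1_c4 LD2_c43 LD3_c39) (LK LD1_c9 LD2_c20 LD3_c31) Lrfl Lrfl
theorem f154390 : Led Lsl_gt (LP (LK LD1_c2 LD2_c18 LD3_c40)) = (LP (LK LD1_c1 LD2_c30 LD3_c51)) :=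
  Lgr Lrot189 (Lpe (K7.f154388 IH) (Lpr_gf (K7.f154383 IH) (Lpr_ct (K7.f24984 IH) (Lpe (K1.f67152 IH) (Lpr_dt (K1.f67143 IH) (Lpr_gt (K1.f58935 IH) (Lpr_dt (K1.f61775 IH) (Lpr_ct (K2.f67082 IH) (Lpe (K7.f67154 IH) (Lpn (LP (LK LD1_c1 LD2_c30 LD3_c51))))))))))))
theorem f154053 : Led Lsl_at (LP (LK LD1_c0 LD2_c42 LD3_c44)) = (LP (LK LD1_c1 LD2_c6 LD3_c56)) :=
  Lgr Lrot100 (Lpr_af (K7.f153963 IH) (Lpn (LP (LK LD1_c1 LD2_c6 LD3_c56))))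
theorem f25912 : Led Lsl_dt (LP (LK LD1_c0 LD2_c30 LD3_c19)) = (LP (LK LD1_c1 LD2_c6 LD3_c19)) :=
  Lre_d IH (LK LD1_c0 LD2_c30 LD3_c19) (LK LD1_c1 LD2_c6 LD3_c19) Lrfl Lrfl
theorem f25909 : Led Lsl_ct (LP (LK LD1_c0 LD2_c19 LD3_c1)) = (LP (LK LD1_c0 LD2_c8 LD3_c33)) :=
  Lre_c IH (LK LD1_c0 LD2_c19 LD3_c1) (LK LD1_c0 LD2_c8 LD3_c33) Lrfl Lrfl
theorem f153465 : Led Lsl_ct (LP (LK LD1_c1 LD2_c30 LD3_c51)) = (LP (LK LD1_c0 LD2_c42 LD3_c44)) :=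
  Lgr Lrot176 (Lpe (K7.f84014 IH) (Lpe (K2.f67082 IH) (Lpe (K1.f61775 IH) (Lpe (K1.f25805 IH) (Lpr_df (K7.f26328 IH) (Lpe (K2.f25752 IH) (Lpe (K6.f25746 IH) (Lpe (K7.f25747 IH) (Lpr_df (K7.f153453 IH) (Lpr_cf (K7.f152639 IH) (Lpe (f25912 IH) (Lpe (K7.f25911 IH) (Lpe (K7.f25904 IH) (Lpe (f25909 IH) (Lpe (K7.f25908 IH) (Lpn (LP (LK LD1_c0 LD2_c42 LD3_c44))))))))))))))))))
theorem f154071 : Led Lsl_at (LP (LK LD1_c2 LD2_c18 LD3_c35)) = (LP (LK LD1_c1 LD2_c30 LD3_c51)) :=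
  Lgr Lrot107 (Lpr_cf (K7.f154069 IH) (Lpe (f154053 IH) (Lpe (f153465 IH) (Lpn (LP (LK LD1_c1 LD2_c30 LD3_c51))))))
theorem f154406 : Led Lsl_ft (LP (LK LD1_c1 LD2_c6 LD3_c55)) = (LP (LK LD1_c2 LD2_c18 LD3_c35)) :=
  Lgr Lrot2 (Lpr_gt (K7.f153440 IH) (Lpr_gt (f154390 IH) (Lpe (f154071 IH) (Lpn (LP (LK LD1_c2 LD2_c18 LD3_c35))))))
theorem f154413 : Led Lsl_ff (LP (LK LD1_c1 LD2_c37 LD3_c31)) = (LP (LK LD1_c1 LD2_c6 LD3_c18)) :=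
  Lgr Lrot19 (Lpe (K7.f153453 IH) (Lpr_ft (f154406 IH) (Lpr_dt (K7.f82793 IH) (Lpn (LP (LK LD1_c1 LD2_c6 LD3_c18))))))
theorem f152647 : Led Lsl_et (LP (LK LD1_c1 LD2_c37 LD3_c31)) = (LP (LK LD1_c3 LD2_c22 LD3_c31)) :=
  Lre_e IH (LK LD1_c1 LD2_c37 LD3_c31) (LK LD1_c3 LD2_c22 LD3_c31) Lrfl Lrfl
theorem f154019 : Led Lsl_ft (LP (LK LD1_c3 LD2_c22 LD3_c31)) = (LP (LK LD1_c6 LD2_c48 LD3_c51)) :=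
  Lre_f IH (LK LD1_c3 LD2_c22 LD3_c31) (LK LD1_c6 LD2_c48 LD3_c51) Lrfl Lrfl
theorem f154417 : Led Lsl_ft (LP (LK LD1_c4 LD2_c42 LD3_c15)) = (LP (LK LD1_c2 LD2_c18 LD3_c26)) :=
  Lre_f IH (LK LD1_c4 LD2_c42 LD3_c15) (LK LD1_c2 LD2_c18 LD3_c26) Lrfl Lrfl
theorem f154418 : Led Lsl_et (LP (LK LD1_c6 LD2_c48 LD3_c51)) = (LP (LK LD1_c4 LD2_c42 LD3_c15)) :=
  Lgr Lrot69 (Lpe (f154019 IH) (Lpe (f152647 IH) (Lpr_ff (f154413 IH) (Lpe (K7.f86025 IH) (Lpe (f154417 IH) (Lpn (LP (LK LD1_c4 LD2_c42 LD3_c15))))))))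
theorem f154425 : Led Lsl_ef (LP (LK LD1_c6 LD2_c48 LD3_c51)) = (LP (LK LD1_c4 LD2_c42 LD3_c15)) :=
  Lgr Lrot88 (Lpr_et (f154418 IH) (Lpn (LP (LK LD1_c4 LD2_c42 LD3_c15))))
theorem f154427 : Led Lsl_bt (LP (LK LD1_c6 LD2_c48 LD3_c51)) = (LP (LK LD1_c12 LD2_c59 LD3_c60)) :=
  Lre_b IH (LK LD1_c6 LD2_c48 LD3_c51) (LK LD1_c12 LD2_c59 LD3_c60) Lrfl Lrfl
theorem f153519 : Led Lsl_bt (LP (LK LD1_c9 LD2_c18 LD3_c49)) = (LP (LK LD1_c4 LD2_c42 LD3_c15)) :=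
  Lre_b IH (LK LD1_c9 LD2_c18 LD3_c49) (LK LD1_c4 LD2_c42 LD3_c15) Lrfl Lrfl
theorem f154428 : Led Lsl_et (LP (LK LD1_c12 LD2_c59 LD3_c60)) = (LP (LK LD1_c9 LD2_c18 LD3_c49)) :=
  Lgr Lrot74 (Lpe (f154427 IH) (Lpr_ef (f154425 IH) (Lpe (f153519 IH) (Lpn (LP (LK LD1_c9 LD2_c18 LD3_c49))))))
theorem f154435 : Led Lsl_ft (LP (LK LD1_c6 LD2_c48 LD3_c49)) = (LP (LK LD1_c12 LD2_c59 LD3_c60)) :=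
  Lre_f IH (LK LD1_c6 LD2_c48 LD3_c49) (LK LD1_c12 LD2_c59 LD3_c60) Lrfl Lrfl
theorem f154436 : Led Lsl_et (LP (LK LD1_c3 LD2_c22 LD3_c30)) = (LP (LK LD1_c6 LD2_c48 LD3_c49)) :=
  Lre_e IH (LK LD1_c3 LD2_c22 LD3_c30) (LK LD1_c6 LD2_c48 LD3_c49) Lrfl Lrfl
theorem f154437 : Led Lsl_ft (LP (LK LD1_c9 LD2_c18 LD3_c49)) = (LP (LK LD1_c4 LD2_c42 LD3_c13)) :=
  Lre_f IH (LK LD1_c9 LD2_c18 LD3_c49) (LK LD1_c4 LD2_c42 LD3_c13) Lrfl Lrfl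
theorem f154438 : Led Lsl_et (LP (LK LD1_c4 LD2_c42 LD3_c13)) = (LP (LK LD1_c2 LD2_c18 LD3_c34)) :=
  Lre_e IH (LK LD1_c4 LD2_c42 LD3_c13) (LK LD1_c2 LD2_c18 LD3_c34) Lrfl Lrfl
theorem f154439 : Led Lsl_ff (LP (LK LD1_c3 LD2_c22 LD3_c30)) = (LP (LK LD1_c2 LD2_c18 LD3_c34)) :=
  Lgr Lrot72 (Lpr_et (f154436 IH) (Lpr_ft (f154435 IH) (Lpr_et (f154428 IH) (Lpr_ft (f154437 IH) (Lpr_et (f154438 IH) (Lpn (LP (LK LD1_c2 LD2_c18 LD3_c34))))))))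
theorem f25431 : Led Lsl_ct (LP (LK LD1_c3 LD2_c22 LD3_c30)) = (LP (LK LD1_c6 LD2_c48 LD3_c48)) :=
  Lre_c IH (LK LD1_c3 LD2_c22 LD3_c30) (LK LD1_c6 LD2_c48 LD3_c48) Lrfl Lrfl
theorem f86031 : Led Lsl_ct (LP (LK LD1_c4 LD2_c41 LD3_c60)) = (LP (LK LD1_c2 LD2_c18 LD3_c34)) :=
  Lre_c IH (LK LD1_c4 LD2_c41 LD3_c60) (LK LD1_c2 LD2_c18 LD3_c34) Lrfl Lrfl
theorem f154445 : Led Lsl_ft (LP (LK LD1_c6 LD2_c48 LD3_c48)) = (LP (LK LD1_c4 LD2_c41 LD3_c60)) :=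
  Lgr Lrot4 (Lpe (f25431 IH) (Lpr_ff (f154439 IH) (Lpe (f86031 IH) (Lpn (LP (LK LD1_c4 LD2_c41 LD3_c60))))))
theorem f154463 : Led Lsl_ff (LP (LK LD1_c6 LD2_c48 LD3_c48)) = (LP (LK LD1_c4 LD2_c41 LD3_c60)) :=
  Lgr Lrot3 (Lpr_ft (f154445 IH) (Lpn (LP (LK LD1_c4 LD2_c41 LD3_c60))))
theorem f154472 : Led Lsl_at (LP (LK LD1_c6 LD2_c48 LD3_c48)) = (LP (LK LD1_c12 LD2_c59 LD3_c53)) :=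
  Lre_a IH (LK LD1_c6 LD2_c48 LD3_c48) (LK LD1_c12 LD2_c59 LD3_c53) Lrfl Lrfl
theorem f154473 : Led Lsl_at (LP (LK LD1_c9 LD2_c18 LD3_c27)) = (LP (LK LD1_c4 LD2_c41 LD3_c60)) :=
  Lre_a IH (LK LD1_c9 LD2_c18 LD3_c27) (LK LD1_c4 LD2_c41 LD3_c60) Lrfl Lrfl
theorem f154474 : Led Lsl_ft (LP (LK LD1_c12 LD2_c59 LD3_c53)) = (LP (LK LD1_c9 LD2_c18 LD3_c27)) :=
  Lgr Lrot101 (Lpe (f154472 IH) (Lpr_ff (f154463 IH) (Lpe (f154473 IH) (Lpn (LP (LK LD1_c9 LD2_c18 LD3_c27))))))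
theorem f154450 : Led Lsl_ct (LP (LK LD1_c6 LD2_c48 LD3_c47)) = (LP (LK LD1_c12 LD2_c59 LD3_c53)) :=
  Lre_c IH (LK LD1_c6 LD2_c48 LD3_c47) (LK LD1_c12 LD2_c59 LD3_c53) Lrfl Lrfl
theorem f154468 : Led Lsl_ct (LP (LK LD1_c9 LD2_c18 LD3_c27)) = (LP (LK LD1_c4 LD2_c42 LD3_c26)) :=
  Lre_c IH (LK LD1_c9 LD2_c18 LD3_c27) (LK LD1_c4 LD2_c42 LD3_c26) Lrfl Lrfl
theorem f154483 : Led Lsl_ff (LP (LK LD1_c6 LD2_c48 LD3_c47)) = (LP (LK LD1_c4 LD2_c42 LD3_c26)) :=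
  Lgr Lrot23 (Lpr_ct (f154450 IH) (Lpr_ft (f154474 IH) (Lpr_ct (f154468 IH) (Lpn (LP (LK LD1_c4 LD2_c42 LD3_c26))))))
theorem f67097 : Led Lsl_bt (LP (LK LD1_c0 LD2_c41 LD3_c55)) = (LP (LK LD1_c1 LD2_c30 LD3_c50)) :=
  Lre_b IH (LK LD1_c0 LD2_c41 LD3_c55) (LK LD1_c1 LD2_c30 LD3_c50) Lrfl Lrfl
theorem f153477 : Led Lsl_at (LP (LK LD1_c1 LD2_c30 LD3_c50)) = (LP (LK LD1_c3 LD2_c9 LD3_c24)) :=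
  Lre_a IH (LK LD1_c1 LD2_c30 LD3_c50) (LK LD1_c3 LD2_c9 LD3_c24) Lrfl Lrfl
theorem f153478 : Led Lsl_at (LP (LK LD1_c4 LD2_c42 LD3_c26)) = (LP (LK LD1_c2 LD2_c18 LD3_c34)) :=
  Lre_a IH (LK LD1_c4 LD2_c42 LD3_c26) (LK LD1_c2 LD2_c18 LD3_c34) Lrfl Lrfl
theorem f153479 : Led Lsl_bt (LP (LK LD1_c3 LD2_c9 LD3_c24)) = (LP (LK LD1_c4 LD2_c42 LD3_c26)) :=
  Lgr Lrot62 (Lpe (f153477 IH) (Lpe (f67097 IH) (Lpr_af (K7.f153475 IH) (Lpe (K3.f82861 IH) (Lpe (f153478 IH) (Lpn (LP (LK LD1_c4 LD2_c42 LD3_c26))))))))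
theorem f153903 : Led Lsl_ft (LP (LK LD1_c6 LD2_c23 LD3_c25)) = (LP (LK LD1_c3 LD2_c9 LD3_c24)) :=
  Lre_f IH (LK LD1_c6 LD2_c23 LD3_c25) (LK LD1_c3 LD2_c9 LD3_c24) Lrfl Lrfl
theorem f154491 : Led Lsl_bt (LP (LK LD1_c6 LD2_c48 LD3_c47)) = (LP (LK LD1_c6 LD2_c23 LD3_c25)) :=
  Lgr Lrot35 (Lpr_ff (f154483 IH) (Lpe (f153479 IH) (Lpe (f153903 IH) (Lpn (LP (LK LD1_c6 LD2_c23 LD3_c25))))))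
theorem f154495 : Led Lsl_bf (LP (LK LD1_c6 LD2_c48 LD3_c47)) = (LP (LK LD1_c6 LD2_c23 LD3_c25)) :=
  Lgr Lrot24 (Lpr_bt (f154491 IH) (Lpn (LP (LK LD1_c6 LD2_c23 LD3_c25))))
theorem f152754 : Led Lsl_et (LP (LK LD1_c0 LD2_c42 LD3_c43)) = (LP (LK LD1_c1 LD2_c32 LD3_c8)) :=
  Lre_e IH (LK LD1_c0 LD2_c42 LD3_c43) (LK LD1_c1 LD2_c32 LD3_c8) Lrfl Lrfl
theorem f153747 : Led Lsl_et (LP (LK LD1_c3 LD2_c9 LD3_c27)) = (LP (LK LD1_c1 LD2_c30 LD3_c51)) :=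
  Lre_e IH (LK LD1_c3 LD2_c9 LD3_c27) (LK LD1_c1 LD2_c30 LD3_c51) Lrfl Lrfl
theorem f153748 : Led Lsl_ft (LP (LK LD1_c6 LD2_c23 LD3_c43)) = (LP (LK LD1_c3 LD2_c9 LD3_c27)) :=
  Lre_f IH (LK LD1_c6 LD2_c23 LD3_c43) (LK LD1_c3 LD2_c9 LD3_c27) Lrfl Lrfl
theorem f153749 : Led Lsl_et (LP (LK LD1_c3 LD2_c11 LD3_c36)) = (LP (LK LD1_c6 LD2_c23 LD3_c43)) :=
  Lgr Lrot69 (Lpe (f153725 IH) (Lpe (f152754 IH) (Lpr_ff (K7.f153740 IH) (Lpe (f153747 IH) (Lpe (f153748 IH) (Lpn (LP (LK LD1_c6 LD2_c23 LD3_c43))))))))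
theorem f153759 : Led Lsl_ef (LP (LK LD1_c3 LD2_c11 LD3_c36)) = (LP (LK LD1_c6 LD2_c23 LD3_c43)) :=
  Lgr Lrot88 (Lpr_et (f153749 IH) (Lpn (LP (LK LD1_c6 LD2_c23 LD3_c43))))
theorem f69091 : Led Lsl_ct (LP (LK LD1_c3 LD2_c11 LD3_c36)) = (LP (LK LD1_c1 LD2_c32 LD3_c9)) :=
  Lre_c IH (LK LD1_c3 LD2_c11 LD3_c36) (LK LD1_c1 LD2_c32 LD3_c9) Lrfl Lrfl
theorem f153695 : Led Lsl_et (LP (LK LD1_c1 LD2_c32 LD3_c9)) = (LP (LK LD1_c3 LD2_c11 LD3_c37)) :=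
  Lre_e IH (LK LD1_c1 LD2_c32 LD3_c9) (LK LD1_c3 LD2_c11 LD3_c37) Lrfl Lrfl
theorem f153764 : Led Lsl_ct (LP (LK LD1_c3 LD2_c11 LD3_c37)) = (LP (LK LD1_c6 LD2_c23 LD3_c43)) :=
  Lgr Lrot15 (Lpe (f153695 IH) (Lpe (f69091 IH) (Lpr_ef (f153759 IH) (Lpn (LP (LK LD1_c6 LD2_c23 LD3_c43))))))
theorem f153770 : Led Lsl_ft (LP (LK LD1_c1 LD2_c32 LD3_c20)) = (LP (LK LD1_c3 LD2_c11 LD3_c37)) :=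
  Lre_f IH (LK LD1_c1 LD2_c32 LD3_c20) (LK LD1_c3 LD2_c11 LD3_c37) Lrfl Lrfl
theorem f153771 : Led Lsl_cf (LP (LK LD1_c1 LD2_c32 LD3_c20)) = (LP (LK LD1_c3 LD2_c9 LD3_c27)) :=
  Lgr Lrot108 (Lpr_ft (f153770 IH) (Lpr_ct (f153764 IH) (Lpr_ft (f153748 IH) (Lpn (LP (LK LD1_c3 LD2_c9 LD3_c27))))))
theorem f153779 : Led Lsl_ct (LP (LK LD1_c1 LD2_c32 LD3_c20)) = (LP (LK LD1_c3 LD2_c9 LD3_c27)) :=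
  Lgr Lrot59 (Lpr_cf (f153771 IH) (Lpn (LP (LK LD1_c3 LD2_c9 LD3_c27))))
theorem f153794 : Led Lsl_bt (LP (LK LD1_c3 LD2_c11 LD3_c6)) = (LP (LK LD1_c1 LD2_c32 LD3_c20)) :=
  Lre_b IH (LK LD1_c3 LD2_c11 LD3_c6) (LK LD1_c1 LD2_c32 LD3_c20) Lrfl Lrfl
theorem f153795 : Led Lsl_ct (LP (LK LD1_c6 LD2_c26 LD3_c25)) = (LP (LK LD1_c3 LD2_c11 LD3_c6)) :=
  Lre_c IH (LK LD1_c6 LD2_c26 LD3_c25) (LK LD1_c3 LD2_c11 LD3_c6) Lrfl Lrfl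
theorem f153785 : Led Lsl_bt (LP (LK LD1_c3 LD2_c9 LD3_c27)) = (LP (LK LD1_c6 LD2_c23 LD3_c40)) :=
  Lre_b IH (LK LD1_c3 LD2_c9 LD3_c27) (LK LD1_c6 LD2_c23 LD3_c40) Lrfl Lrfl
theorem f153796 : Led Lsl_ct (LP (LK LD1_c6 LD2_c23 LD3_c40)) = (LP (LK LD1_c12 LD2_c20 LD3_c44)) :=
  Lre_c IH (LK LD1_c6 LD2_c23 LD3_c40) (LK LD1_c12 LD2_c20 LD3_c44) Lrfl Lrfl
theorem f153797 : Led Lsl_bf (LP (LK LD1_c6 LD2_c26 LD3_c25)) = (LP (LK LD1_c12 LD2_c20 LD3_c44)) :=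
  Lgr Lrot90 (Lpr_ct (f153795 IH) (Lpr_bt (f153794 IH) (Lpr_ct (f153779 IH) (Lpr_bt (f153785 IH) (Lpr_ct (f153796 IH) (Lpn (LP (LK LD1_c12 LD2_c20 LD3_c44))))))))
theorem f153807 : Led Lsl_et (LP (LK LD1_c6 LD2_c26 LD3_c25)) = (LP (LK LD1_c3 LD2_c11 LD3_c5)) :=
  Lre_e IH (LK LD1_c6 LD2_c26 LD3_c25) (LK LD1_c3 LD2_c11 LD3_c5) Lrfl Lrfl
theorem f153808 : Led Lsl_et (LP (LK LD1_c6 LD2_c23 LD3_c39)) = (LP (LK LD1_c12 LD2_c20 LD3_c44)) :=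
  Lre_e IH (LK LD1_c6 LD2_c23 LD3_c39) (LK LD1_c12 LD2_c20 LD3_c44) Lrfl Lrfl
theorem f153809 : Led Lsl_bt (LP (LK LD1_c3 LD2_c11 LD3_c5)) = (LP (LK LD1_c6 LD2_c23 LD3_c39)) :=
  Lgr Lrot119 (Lpe (f153807 IH) (Lpr_bf (f153797 IH) (Lpe (f153808 IH) (Lpn (LP (LK LD1_c6 LD2_c23 LD3_c39))))))
theorem f153820 : Led Lsl_ft (LP (LK LD1_c1 LD2_c31 LD3_c59)) = (LP (LK LD1_c3 LD2_c11 LD3_c5)) :=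
  Lre_f IH (LK LD1_c1 LD2_c31 LD3_c59) (LK LD1_c3 LD2_c11 LD3_c5) Lrfl Lrfl
theorem f153821 : Led Lsl_bt (LP (LK LD1_c3 LD2_c11 LD3_c4)) = (LP (LK LD1_c1 LD2_c31 LD3_c59)) :=
  Lre_b IH (LK LD1_c3 LD2_c11 LD3_c4) (LK LD1_c1 LD2_c31 LD3_c59) Lrfl Lrfl
theorem f153822 : Led Lsl_ff (LP (LK LD1_c3 LD2_c11 LD3_c4)) = (LP (LK LD1_c6 LD2_c23 LD3_c39)) :=
  Lgr Lrot25 (Lpr_bt (f153821 IH) (Lpr_ft (f153820 IH) (Lpr_bt (f153809 IH) (Lpn (LP (LK LD1_c6 LD2_c23 LD3_c39))))))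
theorem f153835 : Led Lsl_ft (LP (LK LD1_c3 LD2_c11 LD3_c4)) = (LP (LK LD1_c6 LD2_c23 LD3_c39)) :=
  Lgr Lrot48 (Lpr_ff (f153822 IH) (Lpn (LP (LK LD1_c6 LD2_c23 LD3_c39))))
theorem f67335 : Led Lsl_ct (LP (LK LD1_c1 LD2_c32 LD3_c19)) = (LP (LK LD1_c3 LD2_c11 LD3_c4)) :=
  Lre_c IH (LK LD1_c1 LD2_c32 LD3_c19) (LK LD1_c3 LD2_c11 LD3_c4) Lrfl Lrfl
theorem f153819 : Led Lsl_ct (LP (LK LD1_c6 LD2_c23 LD3_c39)) = (LP (LK LD1_c3 LD2_c9 LD3_c25)) :=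
  Lre_c IH (LK LD1_c6 LD2_c23 LD3_c39) (LK LD1_c3 LD2_c9 LD3_c25) Lrfl Lrfl
theorem f153842 : Led Lsl_ff (LP (LK LD1_c1 LD2_c32 LD3_c19)) = (LP (LK LD1_c3 LD2_c9 LD3_c25)) :=
  Lgr Lrot23 (Lpr_ct (f67335 IH) (Lpr_ft (f153835 IH) (Lpr_ct (f153819 IH) (Lpn (LP (LK LD1_c3 LD2_c9 LD3_c25))))))
theorem f153854 : Led Lsl_at (LP (LK LD1_c1 LD2_c32 LD3_c19)) = (LP (LK LD1_c3 LD2_c11 LD3_c56)) :=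
  Lre_a IH (LK LD1_c1 LD2_c32 LD3_c19) (LK LD1_c3 LD2_c11 LD3_c56) Lrfl Lrfl
theorem f153855 : Led Lsl_at (LP (LK LD1_c6 LD2_c23 LD3_c36)) = (LP (LK LD1_c3 LD2_c9 LD3_c25)) :=
  Lre_a IH (LK LD1_c6 LD2_c23 LD3_c36) (LK LD1_c3 LD2_c9 LD3_c25) Lrfl Lrfl
theorem f153856 : Led Lsl_ft (LP (LK LD1_c3 LD2_c11 LD3_c56)) = (LP (LK LD1_c6 LD2_c23 LD3_c36)) :=
  Lgr Lrot101 (Lpe (f153854 IH) (Lpr_ff (f153842 IH) (Lpe (f153855 IH) (Lpn (LP (LK LD1_c6 LD2_c23 LD3_c36))))))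
theorem f153883 : Led Lsl_ff (LP (LK LD1_c3 LD2_c11 LD3_c56)) = (LP (LK LD1_c6 LD2_c23 LD3_c36)) :=
  Lgr Lrot3 (Lpr_ft (f153856 IH) (Lpn (LP (LK LD1_c6 LD2_c23 LD3_c36))))
theorem f153848 : Led Lsl_dt (LP (LK LD1_c3 LD2_c9 LD3_c24)) = (LP (LK LD1_c6 LD2_c23 LD3_c36)) :=
  Lre_d IH (LK LD1_c3 LD2_c9 LD3_c24) (LK LD1_c6 LD2_c23 LD3_c36) Lrfl Lrfl
theorem f153904 : Led Lsl_dt (LP (LK LD1_c3 LD2_c11 LD3_c56)) = (LP (LK LD1_c6 LD2_c23 LD3_c25)) :=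
  Lgr Lrot60 (Lpr_ff (f153883 IH) (Lpe (f153848 IH) (Lpe (f153903 IH) (Lpn (LP (LK LD1_c6 LD2_c23 LD3_c25))))))
theorem f67346 : Led Lsl_bt (LP (LK LD1_c1 LD2_c32 LD3_c19)) = (LP (LK LD1_c0 LD2_c42 LD3_c43)) :=
  Lre_b IH (LK LD1_c1 LD2_c32 LD3_c19) (LK LD1_c0 LD2_c42 LD3_c43) Lrfl Lrfl
theorem f153734 : Led Lsl_at (LP (LK LD1_c3 LD2_c11 LD3_c56)) = (LP (LK LD1_c1 LD2_c32 LD3_c19)) :=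
  Lre_a IH (LK LD1_c3 LD2_c11 LD3_c56) (LK LD1_c1 LD2_c32 LD3_c19) Lrfl Lrfl
theorem f61262 : Led Lsl_bt (LP (LK LD1_c1 LD2_c6 LD3_c55)) = (LP (LK LD1_c2 LD2_c19 LD3_c36)) :=
  Lre_b IH (LK LD1_c1 LD2_c6 LD3_c55) (LK LD1_c2 LD2_c19 LD3_c36) Lrfl Lrfl
theorem f153735 : Led Lsl_at (LP (LK LD1_c2 LD2_c19 LD3_c36)) = (LP (LK LD1_c4 LD2_c43 LD3_c42)) :=
  Lre_a IH (LK LD1_c2 LD2_c19 LD3_c36) (LK LD1_c4 LD2_c43 LD3_c42) Lrfl Lrfl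
theorem f153736 : Led Lsl_bf (LP (LK LD1_c3 LD2_c11 LD3_c56)) = (LP (LK LD1_c4 LD2_c43 LD3_c42)) :=
  Lgr Lrot81 (Lpr_at (f153734 IH) (Lpr_bt (f67346 IH) (Lpr_at (K7.f153723 IH) (Lpr_bt (f61262 IH) (Lpr_at (f153735 IH) (Lpn (LP (LK LD1_c4 LD2_c43 LD3_c42))))))))
theorem f154497 : Led Lsl_dt (LP (LK LD1_c6 LD2_c48 LD3_c47)) = (LP (LK LD1_c4 LD2_c43 LD3_c42)) :=
  Lgr Lrot79 (Lpr_bf (f154495 IH) (Lpe (f153904 IH) (Lpr_bf (f153736 IH) (Lpn (LP (LK LD1_c4 LD2_c43 LD3_c42))))))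
theorem f154511 : Led Lsl_df (LP (LK LD1_c6 LD2_c48 LD3_c47)) = (LP (LK LD1_c4 LD2_c43 LD3_c42)) :=
  Lgr Lrot38 (Lpr_dt (f154497 IH) (Lpn (LP (LK LD1_c4 LD2_c43 LD3_c42))))
theorem f153851 : Led Lsl_dt (LP (LK LD1_c6 LD2_c23 LD3_c36)) = (LP (LK LD1_c3 LD2_c9 LD3_c24)) :=
  Lre_d IH (LK LD1_c6 LD2_c23 LD3_c36) (LK LD1_c3 LD2_c9 LD3_c24) Lrfl Lrfl
theorem f153879 : Led Lsl_ft (LP (LK LD1_c3 LD2_c9 LD3_c24)) = (LP (LK LD1_c6 LD2_c23 LD3_c25)) :=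
  Lre_f IH (LK LD1_c3 LD2_c9 LD3_c24) (LK LD1_c6 LD2_c23 LD3_c25) Lrfl Lrfl
theorem f153880 : Led Lsl_df (LP (LK LD1_c3 LD2_c11 LD3_c56)) = (LP (LK LD1_c6 LD2_c23 LD3_c25)) :=
  Lgr Lrot78 (Lpr_ft (f153856 IH) (Lpr_dt (f153851 IH) (Lpr_ft (f153879 IH) (Lpn (LP (LK LD1_c6 LD2_c23 LD3_c25))))))
theorem f154517 : Led Lsl_bt (LP (LK LD1_c3 LD2_c11 LD3_c56)) = (LP (LK LD1_c4 LD2_c43 LD3_c42)) :=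
  Lgr Lrot95 (Lpr_df (f153880 IH) (Lpe (f154491 IH) (Lpr_df (f154511 IH) (Lpn (LP (LK LD1_c4 LD2_c43 LD3_c42))))))
theorem f153877 : Led Lsl_et (LP (LK LD1_c6 LD2_c27 LD3_c22)) = (LP (LK LD1_c3 LD2_c11 LD3_c56)) :=
  Lre_e IH (LK LD1_c6 LD2_c27 LD3_c22) (LK LD1_c3 LD2_c11 LD3_c56) Lrfl Lrfl
theorem f154513 : Led Lsl_et (LP (LK LD1_c4 LD2_c43 LD3_c42)) = (LP (LK LD1_c9 LD2_c20 LD3_c27)) :=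
  Lre_e IH (LK LD1_c4 LD2_c43 LD3_c42) (LK LD1_c9 LD2_c20 LD3_c27) Lrfl Lrfl
theorem f154521 : Led Lsl_bf (LP (LK LD1_c6 LD2_c27 LD3_c22)) = (LP (LK LD1_c9 LD2_c20 LD3_c27)) :=
  Lgr Lrot96 (Lpr_et (f153877 IH) (Lpr_bt (f154517 IH) (Lpr_et (f154513 IH) (Lpn (LP (LK LD1_c9 LD2_c20 LD3_c27))))))
theorem f153878 : Led Lsl_dt (LP (LK LD1_c6 LD2_c27 LD3_c22)) = (LP (LK LD1_c12 LD2_c26 LD3_c21)) :=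
  Lre_d IH (LK LD1_c6 LD2_c27 LD3_c22) (LK LD1_c12 LD2_c26 LD3_c21) Lrfl Lrfl
theorem f154520 : Led Lsl_dt (LP (LK LD1_c17 LD2_c16 LD3_c20)) = (LP (LK LD1_c9 LD2_c20 LD3_c27)) :=
  Lre_d IH (LK LD1_c17 LD2_c16 LD3_c20) (LK LD1_c9 LD2_c20 LD3_c27) Lrfl Lrfl
theorem f154528 : Led Lsl_bt (LP (LK LD1_c12 LD2_c26 LD3_c21)) = (LP (LK LD1_c17 LD2_c16 LD3_c20)) :=
  Lgr Lrot95 (Lpe (f153878 IH) (Lpr_bf (f154521 IH) (Lpe (f154520 IH) (Lpn (LP (LK LD1_c17 LD2_c16 LD3_c20))))))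
theorem f154530 : Led Lsl_at (LP (LK LD1_c6 LD2_c27 LD3_c23)) = (LP (LK LD1_c12 LD2_c26 LD3_c21)) :=
  Lre_a IH (LK LD1_c6 LD2_c27 LD3_c23) (LK LD1_c12 LD2_c26 LD3_c21) Lrfl Lrfl
theorem f154027 : Led Lsl_bt (LP (LK LD1_c3 LD2_c11 LD3_c35)) = (LP (LK LD1_c6 LD2_c27 LD3_c23)) :=
  Lre_b IH (LK LD1_c3 LD2_c11 LD3_c35) (LK LD1_c6 LD2_c27 LD3_c23) Lrfl Lrfl
theorem f154531 : Led Lsl_at (LP (LK LD1_c17 LD2_c16 LD3_c20)) = (LP (LK LD1_c9 LD2_c20 LD3_c28)) :=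
  Lre_a IH (LK LD1_c17 LD2_c16 LD3_c20) (LK LD1_c9 LD2_c20 LD3_c28) Lrfl Lrfl
theorem f154532 : Led Lsl_bt (LP (LK LD1_c9 LD2_c20 LD3_c28)) = (LP (LK LD1_c4 LD2_c43 LD3_c38)) :=
  Lre_b IH (LK LD1_c9 LD2_c20 LD3_c28) (LK LD1_c4 LD2_c43 LD3_c38) Lrfl Lrfl
theorem f154533 : Led Lsl_af (LP (LK LD1_c3 LD2_c11 LD3_c35)) = (LP (LK LD1_c4 LD2_c43 LD3_c38)) :=
  Lgr Lrot36 (Lpr_bt (f154027 IH) (Lpr_at (f154530 IH) (Lpr_bt (f154528 IH) (Lpr_at (f154531 IH) (Lpr_bt (f154532 IH) (Lpn (LP (LK LD1_c4 LD2_c43 LD3_c38))))))))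
theorem f154029 : Led Lsl_gt (LP (LK LD1_c6 LD2_c27 LD3_c26)) = (LP (LK LD1_c3 LD2_c11 LD3_c35)) :=
  Lre_g IH (LK LD1_c6 LD2_c27 LD3_c26) (LK LD1_c3 LD2_c11 LD3_c35) Lrfl Lrfl

end

end K16

end

end Cfsg.Agent.Helper28.S1692
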