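import Cfsg.Agent.Lib.Helper28.S1692.Seeds16

set_option autoImplicit false
set_option maxRecDepth 100000
set_option linter.all false

namespace Cfsg.Agent.Helper28.S1692

open Cfsg.Agent.Helper28
open Cfsg.Spor.ON (Gen)

noncomputable section

namespace K17
abbrev LD1_c0 := D1.c0
abbrev LD1_c1 := D1.c1
abbrev LD1_c2 := D1.c2
abbrev LD1_c3 := D1.c3
abbrev LD1_c4 := D1.c4
abbrev LD1_c5 := D1.c5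
abbrev LD1_c6 := D1.c6
abbrev LD1_c7 := D1.c7
abbrev LD1_c8 := D1.c8
abbrev LD1_c9 := D1.c9
abbrev LD1_c10 := D1.c10
abbrev LD1_c11 := D1.c11
abbrev LD1_c12 := D1.c12
abbrev LD1_c13 := D1.c13
abbrev LD1_c14 := D1.c14
abbrev LD1_c15 := D1.c15
abbrev LD1_c16 := D1.c16
abbrev LD1_c17 := D1.c17
abbrev LD1_c18 := D1.c18
abbrev LD1_c19 := D1.c19
abbrev LD1_c20 := D1.c20
abbrev LD1_c21 := D1.c21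
abbrev LD1_c22 := D1.c22
abbrev LD1_c23 := D1.c23
abbrev LD1_c24 := D1.c24
abbrev LD1_c25 := D1.c25
abbrev LD1_c26 := D1.c26
abbrev LD1_c27 := D1.c27
abbrev LD1_c28 := D1.c28
abbrev LD1_c29 := D1.c29
abbrev LD1_c30 := D1.c30
abbrev LD1_c31 := D1.c31
abbrev LD1_c32 := D1.c32
abbrev LD2_c0 := D2.c0
abbrev LD2_c1 := D2.c1
abbrev LD2_c2 := D2.c2
abbrev LD2_c3 := D2.c3
abbrev LD2_c4 := D2.c4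
abbrev LD2_c5 := D2.c5
abbrev LD2_c6 := D2.c6
abbrev LD2_c7 := D2.c7
abbrev LD2_c8 := D2.c8
abbrev LD2_c9 := D2.c9
abbrev LD2_c10 := D2.c10
abbrev LD2_c11 := D2.c11
abbrev LD2_c12 := D2.c12
abbrev LD2_c13 := D2.c13
abbrev LD2_c14 := D2.c14
abbrev LD2_c15 := D2.c15
abbrev LD2_c16 := D2.c16
abbrev LD2_c17 := D2.c17
abbrev LD2_c18 := D2.c18
abbrev LD2_c19 := D2.c19
abbrev LD2_c20 := D2.c20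
abbrev LD2_c21 := D2.c21
abbrev LD2_c22 := D2.c22
abbrev LD2_c23 := D2.c23
abbrev LD2_c24 := D2.c24
abbrev LD2_c25 := D2.c25
abbrev LD2_c26 := D2.c26
abbrev LD2_c27 := D2.c27
abbrev LD2_c28 := D2.c28
abbrev LD2_c29 := D2.c29
abbrev LD2_c30 := D2.c30
abbrev LD2_c31 := D2.c31
abbrev LD2_c32 := D2.c32
abbrev LD2_c33 := D2.c33
abbrev LD2_c34 := D2.c34
abbrev LD2_c35 := D2.c35
abbrev LD2_c36 := D2.c36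
abbrev LD2_c37 := D2.c37
abbrev LD2_c38 := D2.c38
abbrev LD2_c39 := D2.c39
abbrev LD2_c40 := D2.c40
abbrev LD2_c41 := D2.c41
abbrev LD2_c42 := D2.c42
abbrev LD2_c43 := D2.c43
abbrev LD2_c44 := D2.c44
abbrev LD2_c45 := D2.c45
abbrev LD2_c46 := D2.c46
abbrev LD2_c47 := D2.c47
abbrev LD2_c48 := D2.c48
abbrev LD2_c49 := D2.c49
abbrev LD2_c50 := D2.c50
abbrev LD2_c51 := D2.c51
abbrev LD2_c52 := D2.c52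
abbrev LD2_c53 := D2.c53
abbrev LD2_c54 := D2.c54
abbrev LD2_c55 := D2.c55
abbrev LD2_c56 := D2.c56
abbrev LD2_c57 := D2.c57
abbrev LD2_c58 := D2.c58
abbrev LD2_c59 := D2.c59
abbrev LD3_c0 := D3.c0
abbrev LD3_c1 := D3.c1
abbrev LD3_c2 := D3.c2
abbrev LD3_c3 := D3.c3
abbrev LD3_c4 := D3.c4
abbrev LD3_c5 := D3.c5
abbrev LD3_c6 := D3.c6
abbrev LD3_c7 := D3.c7
abbrev LD3_c8 := D3.c8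
abbrev LD3_c9 := D3.c9
abbrev LD3_c10 := D3.c10
abbrev LD3_c11 := D3.c11
abbrev LD3_c12 := D3.c12
abbrev LD3_c13 := D3.c13
abbrev LD3_c14 := D3.c14
abbrev LD3_c15 := D3.c15
abbrev LD3_c16 := D3.c16
abbrev LD3_c17 := D3.c17
abbrev LD3_c18 := D3.c18
abbrev LD3_c19 := D3.c19
abbrev LD3_c20 := D3.c20
abbrev LD3_c21 := D3.c21
abbrev LD3_c22 := D3.c22
abbrev LD3_c23 := D3.c23
abbrev LD3_c24 := D3.c24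
abbrev LD3_c25 := D3.c25
abbrev LD3_c26 := D3.c26
abbrev LD3_c27 := D3.c27
abbrev LD3_c28 := D3.c28
abbrev LD3_c29 := D3.c29
abbrev LD3_c30 := D3.c30
abbrev LD3_c31 := D3.c31
abbrev LD3_c32 := D3.c32
abbrev LD3_c33 := D3.c33
abbrev LD3_c34 := D3.c34
abbrev LD3_c35 := D3.c35
abbrev LD3_c36 := D3.c36
abbrev LD3_c37 := D3.c37
abbrev LD3_c38 := D3.c38
abbrev LD3_c39 := D3.c39
abbrev LD3_c40 := D3.c40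
abbrev LD3_c41 := D3.c41
abbrev LD3_c42 := D3.c42
abbrev LD3_c43 := D3.c43
abbrev LD3_c44 := D3.c44
abbrev LD3_c45 := D3.c45
abbrev LD3_c46 := D3.c46
abbrev LD3_c47 := D3.c47
abbrev LD3_c48 := D3.c48
abbrev LD3_c49 := D3.c49
abbrev LD3_c50 := D3.c50
abbrev LD3_c51 := D3.c51
abbrev LD3_c52 := D3.c52
abbrev LD3_c53 := D3.c53
abbrev LD3_c54 := D3.c54
abbrev LD3_c55 := D3.c55
abbrev LD3_c56 := D3.c56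
abbrev LD3_c57 := D3.c57
abbrev LD3_c58 := D3.c58
abbrev LD3_c59 := D3.c59
abbrev LD3_c60 := D3.c60
abbrev LD3_c61 := D3.c61
abbrev LG_g := Gen.g
abbrev Lsl_gt : Gen × Bool := sl_gt
alias Lfl_gt := fl_gt
alias Lpr_gt := pr_gt
abbrev Lsl_gf : Gen × Bool := sl_gf
alias Lfl_gf := fl_gf
alias Lpr_gf := pr_gf
alias Lre_g := re_g
alias Leoe_g := eoe_g
abbrev LG_a := Gen.a
abbrev Lsl_at : Gen × Bool := sl_at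
alias Lfl_at := fl_at
alias Lpr_at := pr_at
abbrev Lsl_af : Gen × Bool := sl_af
alias Lfl_af := fl_af
alias Lpr_af := pr_af
alias Lre_a := re_a
alias Leoe_a := eoe_a
abbrev LG_b := Gen.b
abbrev Lsl_bt : Gen × Bool := sl_bt
alias Lfl_bt := fl_bt
alias Lpr_bt := pr_bt
abbrev Lsl_bf : Gen × Bool := sl_bf
alias Lfl_bf := fl_bf
alias Lpr_bf := pr_bf
alias Lre_b := re_b
alias Leoe_b := eoe_b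
abbrev LG_c := Gen.c
abbrev Lsl_ct : Gen × Bool := sl_ct
alias Lfl_ct := fl_ct
alias Lpr_ct := pr_ct
abbrev Lsl_cf : Gen × Bool := sl_cf
alias Lfl_cf := fl_cf
alias Lpr_cf := pr_cf
alias Lre_c := re_c
alias Leoe_c := eoe_c
abbrev LG_d := Gen.d
abbrev Lsl_dt : Gen × Bool := sl_dt
alias Lfl_dt := fl_dt
alias Lpr_dt := pr_dt
abbrev Lsl_df : Gen × Bool := sl_df
alias Lfl_df := fl_df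
alias Lpr_df := pr_df
alias Lre_d := re_d
alias Leoe_d := eoe_d
abbrev LG_e := Gen.e
abbrev Lsl_et : Gen × Bool := sl_et
alias Lfl_et := fl_et
alias Lpr_et := pr_et
abbrev Lsl_ef : Gen × Bool := sl_ef
alias Lfl_ef := fl_ef
alias Lpr_ef := pr_ef
alias Lre_e := re_e
alias Leoe_e := eoe_e
abbrev LG_f := Gen.f
abbrev Lsl_ft : Gen × Bool := sl_ft
alias Lfl_ft := fl_ft
alias Lpr_ft := pr_ft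
abbrev Lsl_ff : Gen × Bool := sl_ff
alias Lfl_ff := fl_ff
alias Lpr_ff := pr_ff
alias Lre_f := re_f
alias Leoe_f := eoe_f
abbrev LK := Pt.mk
abbrev LQ : Type := Qt rels S
abbrev LP (p : Pt) : LQ := P p
abbrev Led (l : Gen × Bool) (c : LQ) : LQ := ed l c
abbrev LEOK (x : Gen) (p : Pt) : Prop := EntryOK rels S fwd inv o plet idx x p
alias Lpe := pe
alias Lpn := pn
alias Lgr := gr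
alias Lpq := pq
alias Lpqs := pqs
alias Llr := lr
alias Leop := eop
alias Lefun := efun
alias Lecon := econ
theorem Lrfl {α : Sort _} {a : α} : a = a := rfl
alias Lrot0 := rot0
alias Lrot1 := rot1
alias Lrot2 := rot2
alias Lrot3 := rot3
alias Lrot4 := rot4
alias Lrot5 := rot5
alias Lrot6 := rot6
alias Lrot7 := rot7
alias Lrot8 := rot8
alias Lrot9 := rot9
alias Lrot10 := rot10
alias Lrot11 := rot11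
alias Lrot12 := rot12
alias Lrot13 := rot13
alias Lrot14 := rot14
alias Lrot15 := rot15
alias Lrot17 := rot17
alias Lrot18 := rot18
alias Lrot19 := rot19
alias Lrot20 := rot20
alias Lrot21 := rot21
alias Lrot23 := rot23
alias Lrot24 := rot24
alias Lrot25 := rot25
alias Lrot26 := rot26
alias Lrot27 := rot27
alias Lrot28 := rot28
alias Lrot29 := rot29
alias Lrot30 := rot30
alias Lrot31 := rot31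
alias Lrot33 := rot33
alias Lrot34 := rot34
alias Lrot35 := rot35
alias Lrot36 := rot36
alias Lrot37 := rot37
alias Lrot38 := rot38
alias Lrot39 := rot39
alias Lrot40 := rot40
alias Lrot41 := rot41
alias Lrot42 := rot42
alias Lrot43 := rot43
alias Lrot44 := rot44
alias Lrot45 := rot45
alias Lrot46 := rot46
alias Lrot47 := rot47
alias Lrot48 := rot48
alias Lrot49 := rot49
alias Lrot50 := rot50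
alias Lrot51 := rot51
alias Lrot52 := rot52
alias Lrot53 := rot53
alias Lrot54 := rot54
alias Lrot55 := rot55
alias Lrot56 := rot56
alias Lrot57 := rot57
alias Lrot59 := rot59
alias Lrot60 := rot60
alias Lrot61 := rot61
alias Lrot62 := rot62
alias Lrot63 := rot63
alias Lrot64 := rot64
alias Lrot65 := rot65
alias Lrot66 := rot66
alias Lrot67 := rot67
alias Lrot68 := rot68
alias Lrot69 := rot69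
alias Lrot70 := rot70
alias Lrot71 := rot71
alias Lrot72 := rot72
alias Lrot73 := rot73
alias Lrot74 := rot74
alias Lrot75 := rot75
alias Lrot76 := rot76
alias Lrot77 := rot77
alias Lrot78 := rot78
alias Lrot79 := rot79
alias Lrot80 := rot80
alias Lrot81 := rot81
alias Lrot82 := rot82
alias Lrot83 := rot83
alias Lrot84 := rot84
alias Lrot86 := rot86
alias Lrot87 := rot87
alias Lrot88 := rot88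
alias Lrot89 := rot89
alias Lrot90 := rot90
alias Lrot92 := rot92
alias Lrot93 := rot93
alias Lrot94 := rot94
alias Lrot95 := rot95
alias Lrot96 := rot96
alias Lrot97 := rot97
alias Lrot98 := rot98
alias Lrot99 := rot99
alias Lrot100 := rot100
alias Lrot101 := rot101
alias Lrot102 := rot102
alias Lrot103 := rot103
alias Lrot104 := rot104
alias Lrot105 := rot105
alias Lrot106 := rot106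
alias Lrot107 := rot107
alias Lrot108 := rot108
alias Lrot109 := rot109
alias Lrot110 := rot110
alias Lrot111 := rot111
alias Lrot112 := rot112
alias Lrot113 := rot113
alias Lrot114 := rot114
alias Lrot115 := rot115
alias Lrot116 := rot116
alias Lrot117 := rot117
alias Lrot119 := rot119
alias Lrot120 := rot120
alias Lrot121 := rot121
alias Lrot122 := rot122
alias Lrot123 := rot123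
alias Lrot124 := rot124
alias Lrot125 := rot125
alias Lrot126 := rot126
alias Lrot127 := rot127
alias Lrot128 := rot128
alias Lrot129 := rot129
alias Lrot130 := rot130
alias Lrot131 := rot131
alias Lrot132 := rot132
alias Lrot133 := rot133
alias Lrot134 := rot134
alias Lrot135 := rot135
alias Lrot136 := rot136
alias Lrot137 := rot137
alias Lrot138 := rot138
alias Lrot139 := rot139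
alias Lrot140 := rot140
alias Lrot141 := rot141
alias Lrot142 := rot142
alias Lrot143 := rot143
alias Lrot144 := rot144
alias Lrot145 := rot145
alias Lrot146 := rot146
alias Lrot147 := rot147
alias Lrot148 := rot148
alias Lrot149 := rot149
alias Lrot150 := rot150
alias Lrot151 := rot151
alias Lrot152 := rot152
alias Lrot153 := rot153
alias Lrot154 := rot154
alias Lrot155 := rot155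
alias Lrot156 := rot156
alias Lrot157 := rot157
alias Lrot158 := rot158
alias Lrot159 := rot159
alias Lrot160 := rot160
alias Lrot161 := rot161
alias Lrot162 := rot162
alias Lrot164 := rot164
alias Lrot165 := rot165
alias Lrot166 := rot166
alias Lrot167 := rot167
alias Lrot168 := rot168
alias Lrot169 := rot169
alias Lrot170 := rot170
alias Lrot171 := rot171
alias Lrot172 := rot172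
alias Lrot173 := rot173
alias Lrot174 := rot174
alias Lrot175 := rot175
alias Lrot176 := rot176
alias Lrot177 := rot177
alias Lrot178 := rot178
alias Lrot179 := rot179
alias Lrot181 := rot181
alias Lrot185 := rot185
alias Lrot186 := rot186
alias Lrot187 := rot187
alias Lrot188 := rot188
alias Lrot191 := rot191

section
variable (IH : IHT)
include IH

theorem f150507 : Led Lsl_ft (LP (LK LD1_c9 LD2_c20 LD3_c31)) = (LP (LK LD1_c4 LD2_c43 LD3_c38)) :=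
  Lre_f IH (LK LD1_c9 LD2_c20 LD3_c31) (LK LD1_c4 LD2_c43 LD3_c38) Lrfl Lrfl
theorem f154549 : Led Lsl_gf (LP (LK LD1_c6 LD2_c27 LD3_c26)) = (LP (LK LD1_c9 LD2_c20 LD3_c31)) :=
  Lgr Lrot47 (Lpr_gt (K16.f154029 IH) (Lpr_af (K16.f154533 IH) (Lpe (f150507 IH) (Lpn (LP (LK LD1_c9 LD2_c20 LD3_c31))))))
theorem f415427 : Led Lsl_cf (LP (LK LD1_c0 LD2_c44 LD3_c41)) = (LP (LK LD1_c1 LD2_c24 LD3_c19)) :=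
  Lgr Lrot11 (Lpr_ct (K16.f415424 IH) (Lpn (LP (LK LD1_c1 LD2_c24 LD3_c19))))
theorem f57141 : Led Lsl_dt (LP (LK LD1_c0 LD2_c44 LD3_c41)) = (LP (LK LD1_c1 LD2_c36 LD3_c26)) :=
  Lre_d IH (LK LD1_c0 LD2_c44 LD3_c41) (LK LD1_c1 LD2_c36 LD3_c26) Lrfl Lrfl
theorem f415429 : Led Lsl_ct (LP (LK LD1_c3 LD2_c20 LD3_c4)) = (LP (LK LD1_c1 LD2_c36 LD3_c26)) :=
  Lre_c IH (LK LD1_c3 LD2_c20 LD3_c4) (LK LD1_c1 LD2_c36 LD3_c26) Lrfl Lrfl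
theorem f150505 : Led Lsl_ft (LP (LK LD1_c2 LD2_c16 LD3_c23)) = (LP (LK LD1_c1 LD2_c5 LD3_c5)) :=
  Lre_f IH (LK LD1_c2 LD2_c16 LD3_c23) (LK LD1_c1 LD2_c5 LD3_c5) Lrfl Lrfl
theorem f210113 : Led Lsl_gt (LP (LK LD1_c2 LD2_c16 LD3_c23)) = (LP (LK LD1_c1 LD2_c24 LD3_c19)) :=
  Lgr Lrot5 (Lpr_ft (f150505 IH) (Lpr_at (K16.f210081 IH) (Lpe (K16.f59823 IH) (Lpn (LP (LK LD1_c1 LD2_c24 LD3_c19))))))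
theorem f69099 : Led Lsl_ft (LP (LK LD1_c0 LD2_c18 LD3_c59)) = (LP (LK LD1_c0 LD2_c42 LD3_c38)) :=
  Lre_f IH (LK LD1_c0 LD2_c18 LD3_c59) (LK LD1_c0 LD2_c42 LD3_c38) Lrfl Lrfl
theorem f25849 : Led Lsl_gt (LP (LK LD1_c0 LD2_c18 LD3_c59)) = (LP (LK LD1_c0 LD2_c42 LD3_c35)) :=
  Lre_g IH (LK LD1_c0 LD2_c18 LD3_c59) (LK LD1_c0 LD2_c42 LD3_c35) Lrfl Lrfl
theorem f153681 : Led Lsl_gt (LP (LK LD1_c0 LD2_c42 LD3_c35)) = (LP (LK LD1_c1 LD2_c6 LD3_c54)) :=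
  Lgr Lrot46 (Lpe (f25849 IH) (Lpr_ft (f69099 IH) (Lpr_at (K7.f153651 IH) (Lpn (LP (LK LD1_c1 LD2_c6 LD3_c54))))))
theorem f25850 : Led Lsl_dt (LP (LK LD1_c1 LD2_c32 LD3_c1)) = (LP (LK LD1_c0 LD2_c42 LD3_c35)) :=
  Lre_d IH (LK LD1_c1 LD2_c32 LD3_c1) (LK LD1_c0 LD2_c42 LD3_c35) Lrfl Lrfl
theorem f61683 : Led Lsl_gt (LP (LK LD1_c1 LD2_c32 LD3_c1)) = (LP (LK LD1_c3 LD2_c11 LD3_c12)) :=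
  Lre_g IH (LK LD1_c1 LD2_c32 LD3_c1) (LK LD1_c3 LD2_c11 LD3_c12) Lrfl Lrfl
theorem f61687 : Led Lsl_ct (LP (LK LD1_c3 LD2_c11 LD3_c12)) = (LP (LK LD1_c6 LD2_c26 LD3_c37)) :=
  Lre_c IH (LK LD1_c3 LD2_c11 LD3_c12) (LK LD1_c6 LD2_c26 LD3_c37) Lrfl Lrfl
theorem f415440 : Led Lsl_gf (LP (LK LD1_c3 LD2_c20 LD3_c4)) = (LP (LK LD1_c6 LD2_c26 LD3_c37)) :=
  Lgr Lrot104 (Lpr_ct (f415429 IH) (Lpe (f57141 IH) (Lpr_cf (f415427 IH) (Lpe (f210113 IH) (Lpr_cf (K11.f150490 IH) (Lpe (f153681 IH) (Lpe (f25850 IH) (Lpr_gt (f61683 IH) (Lpr_ct (f61687 IH) (Lpn (LP (LK LD1_c6 LD2_c26 LD3_c37))))))))))))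
theorem f61680 : Led Lsl_gt (LP (LK LD1_c1 LD2_c29 LD3_c27)) = (LP (LK LD1_c0 LD2_c41 LD3_c20)) :=
  Lre_g IH (LK LD1_c1 LD2_c29 LD3_c27) (LK LD1_c0 LD2_c41 LD3_c20) Lrfl Lrfl
theorem f61692 : Led Lsl_dt (LP (LK LD1_c3 LD2_c6 LD3_c43)) = (LP (LK LD1_c1 LD2_c29 LD3_c27)) :=
  Lre_d IH (LK LD1_c3 LD2_c6 LD3_c43) (LK LD1_c1 LD2_c29 LD3_c27) Lrfl Lrfl
theorem f67149 : Led Lsl_et (LP (LK LD1_c0 LD2_c41 LD3_c53)) = (LP (LK LD1_c1 LD2_c30 LD3_c46)) :=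
  Lre_e IH (LK LD1_c0 LD2_c41 LD3_c53) (LK LD1_c1 LD2_c30 LD3_c46) Lrfl Lrfl
theorem f67176 : Led Lsl_gt (LP (LK LD1_c1 LD2_c30 LD3_c46)) = (LP (LK LD1_c3 LD2_c9 LD3_c11)) :=
  Lre_g IH (LK LD1_c1 LD2_c30 LD3_c46) (LK LD1_c3 LD2_c9 LD3_c11) Lrfl Lrfl
theorem f155834 : Led Lsl_et (LP (LK LD1_c3 LD2_c6 LD3_c43)) = (LP (LK LD1_c3 LD2_c9 LD3_c11)) :=
  Lgr Lrot122 (Lpr_dt (f61692 IH) (Lpr_gt (f61680 IH) (Lpe (K2.f61781 IH) (Lpr_et (K2.f67109 IH) (Lpr_gt (K7.f152654 IH) (Lpr_dt (K7.f25903 IH) (Lpr_gt (K7.f155830 IH) (Lpe (K1.f67143 IH) (Lpr_et (f67149 IH) (Lpr_gt (f67176 IH) (Lpn (LP (LK LD1_c3 LD2_c9 LD3_c11)))))))))))))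
theorem f61698 : Led Lsl_dt (LP (LK LD1_c1 LD2_c29 LD3_c27)) = (LP (LK LD1_c3 LD2_c6 LD3_c43)) :=
  Lre_d IH (LK LD1_c1 LD2_c29 LD3_c27) (LK LD1_c3 LD2_c6 LD3_c43) Lrfl Lrfl
theorem f61681 : Led Lsl_et (LP (LK LD1_c3 LD2_c6 LD3_c44)) = (LP (LK LD1_c1 LD2_c29 LD3_c27)) :=
  Lre_e IH (LK LD1_c3 LD2_c6 LD3_c44) (LK LD1_c1 LD2_c29 LD3_c27) Lrfl Lrfl
theorem f61682 : Led Lsl_dt (LP (LK LD1_c0 LD2_c42 LD3_c35)) = (LP (LK LD1_c1 LD2_c32 LD3_c1)) :=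
  Lre_d IH (LK LD1_c0 LD2_c42 LD3_c35) (LK LD1_c1 LD2_c32 LD3_c1) Lrfl Lrfl
theorem f61684 : Led Lsl_dt (LP (LK LD1_c3 LD2_c6 LD3_c44)) = (LP (LK LD1_c3 LD2_c11 LD3_c12)) :=
  Lgr Lrot56 (Lpr_et (f61681 IH) (Lpr_gt (f61680 IH) (Lpe (K2.f61679 IH) (Lpr_dt (K1.f25052 IH) (Lpr_gt (K1.f61633 IH) (Lpe (K1.f58928 IH) (Lpr_et (K11.f61678 IH) (Lpr_gt (f25849 IH) (Lpr_dt (f61682 IH) (Lpr_gt (f61683 IH) (Lpn (LP (LK LD1_c3 LD2_c11 LD3_c12)))))))))))))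
theorem f61689 : Led Lsl_df (LP (LK LD1_c3 LD2_c6 LD3_c44)) = (LP (LK LD1_c3 LD2_c11 LD3_c12)) :=
  Lgr Lrot38 (Lpr_dt (f61684 IH) (Lpn (LP (LK LD1_c3 LD2_c11 LD3_c12))))
theorem f155836 : Led Lsl_dt (LP (LK LD1_c3 LD2_c9 LD3_c11)) = (LP (LK LD1_c6 LD2_c23 LD3_c6)) :=
  Lre_d IH (LK LD1_c3 LD2_c9 LD3_c11) (LK LD1_c6 LD2_c23 LD3_c6) Lrfl Lrfl
theorem f155841 : Led Lsl_ef (LP (LK LD1_c3 LD2_c11 LD3_c12)) = (LP (LK LD1_c6 LD2_c23 LD3_c6)) :=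
  Lgr Lrot73 (Lpe (f61689 IH) (Lpr_et (f61681 IH) (Lpr_dt (f61698 IH) (Lpr_et (f155834 IH) (Lpr_dt (f155836 IH) (Lpn (LP (LK LD1_c6 LD2_c23 LD3_c6))))))))
theorem f67177 : Led Lsl_dt (LP (LK LD1_c6 LD2_c23 LD3_c6)) = (LP (LK LD1_c3 LD2_c9 LD3_c11)) :=
  Lre_d IH (LK LD1_c6 LD2_c23 LD3_c6) (LK LD1_c3 LD2_c9 LD3_c11) Lrfl Lrfl
theorem f67148 : Led Lsl_et (LP (LK LD1_c1 LD2_c30 LD3_c46)) = (LP (LK LD1_c0 LD2_c41 LD3_c53)) :=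
  Lre_e IH (LK LD1_c1 LD2_c30 LD3_c46) (LK LD1_c0 LD2_c41 LD3_c53) Lrfl Lrfl
theorem f67150 : Led Lsl_df (LP (LK LD1_c1 LD2_c30 LD3_c46)) = (LP (LK LD1_c1 LD2_c30 LD3_c46)) :=
  Lgr Lrot70 (Lpr_et (f67148 IH) (Lpr_dt (K1.f67143 IH) (Lpr_et (K1.f67141 IH) (Lpr_dt (K1.f67139 IH) (Lpr_et (f67149 IH) (Lpn (LP (LK LD1_c1 LD2_c30 LD3_c46))))))))
theorem f155859 : Led Lsl_gt (LP (LK LD1_c3 LD2_c11 LD3_c12)) = (LP (LK LD1_c1 LD2_c32 LD3_c4)) :=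
  Lgr Lrot137 (Lpr_ef (f155841 IH) (Lpr_dt (f67177 IH) (Lpe (f67176 IH) (Lpr_df (f67150 IH) (Lpr_et (f67148 IH) (Lpr_gf (K1.f67152 IH) (Lpe (K9.f25847 IH) (Lpr_dt (K9.f25848 IH) (Lpe (K9.f67048 IH) (Lpe (K9.f67173 IH) (Lpn (LP (LK LD1_c1 LD2_c32 LD3_c4)))))))))))))
theorem f69061 : Led Lsl_dt (LP (LK LD1_c3 LD2_c11 LD3_c35)) = (LP (LK LD1_c1 LD2_c32 LD3_c8)) :=
  Lre_d IH (LK LD1_c3 LD2_c11 LD3_c35) (LK LD1_c1 LD2_c32 LD3_c8) Lrfl Lrfl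
theorem f415458 : Led Lsl_dt (LP (LK LD1_c3 LD2_c20 LD3_c4)) = (LP (LK LD1_c6 LD2_c27 LD3_c26)) :=
  Lgr Lrot57 (Lpr_gf (f415440 IH) (Lpe (f61687 IH) (Lpr_gt (f155859 IH) (Lpr_dt (K9.f67173 IH) (Lpr_gt (K9.f67048 IH) (Lpr_dt (K11.f67067 IH) (Lpe (K7.f69060 IH) (Lpe (f69061 IH) (Lpe (K16.f154029 IH) (Lpn (LP (LK LD1_c6 LD2_c27 LD3_c26))))))))))))
theorem f415469 : Led Lsl_df (LP (LK LD1_c3 LD2_c20 LD3_c4)) = (LP (LK LD1_c6 LD2_c27 LD3_c26)) :=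
  Lgr Lrot38 (Lpr_dt (f415458 IH) (Lpn (LP (LK LD1_c6 LD2_c27 LD3_c26))))
theorem f415439 : Led Lsl_ct (LP (LK LD1_c1 LD2_c36 LD3_c26)) = (LP (LK LD1_c3 LD2_c20 LD3_c4)) :=
  Lre_c IH (LK LD1_c1 LD2_c36 LD3_c26) (LK LD1_c3 LD2_c20 LD3_c4) Lrfl Lrfl
theorem f60016 : Led Lsl_ct (LP (LK LD1_c3 LD2_c2 LD3_c41)) = (LP (LK LD1_c1 LD2_c27 LD3_c17)) :=
  Lre_c IH (LK LD1_c3 LD2_c2 LD3_c41) (LK LD1_c1 LD2_c27 LD3_c17) Lrfl Lrfl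
theorem f60022 : Led Lsl_gt (LP (LK LD1_c6 LD2_c12 LD3_c15)) = (LP (LK LD1_c3 LD2_c2 LD3_c41)) :=
  Lre_g IH (LK LD1_c6 LD2_c12 LD3_c15) (LK LD1_c3 LD2_c2 LD3_c41) Lrfl Lrfl
theorem f416463 : Led Lsl_ct (LP (LK LD1_c3 LD2_c21 LD3_c57)) = (LP (LK LD1_c6 LD2_c12 LD3_c15)) :=
  Lgr Lrot152 (Lpr_gf (K16.f413537 IH) (Lpe (K16.f73668 IH) (Lpe (K16.f139922 IH) (Lpr_ct (K16.f139924 IH) (Lpr_gt (K9.f22958 IH) (Lpr_ct (K16.f27135 IH) (Lpe (K16.f27134 IH) (Lpe (f60016 IH) (Lpe (f60022 IH) (Lpn (LP (LK LD1_c6 LD2_c12 LD3_c15))))))))))))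
theorem f141108 : Led Lsl_ct (LP (LK LD1_c0 LD2_c44 LD3_c57)) = (LP (LK LD1_c0 LD2_c19 LD3_c56)) :=
  Lre_c IH (LK LD1_c0 LD2_c44 LD3_c57) (LK LD1_c0 LD2_c19 LD3_c56) Lrfl Lrfl
theorem f139998 : Led Lsl_dt (LP (LK LD1_c1 LD2_c37 LD3_c10)) = (LP (LK LD1_c0 LD2_c44 LD3_c57)) :=
  Lre_d IH (LK LD1_c1 LD2_c37 LD3_c10) (LK LD1_c0 LD2_c44 LD3_c57) Lrfl Lrfl
theorem f414056 : Led Lsl_ct (LP (LK LD1_c3 LD2_c21 LD3_c52)) = (LP (LK LD1_c1 LD2_c37 LD3_c10)) :=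
  Lre_c IH (LK LD1_c3 LD2_c21 LD3_c52) (LK LD1_c1 LD2_c37 LD3_c10) Lrfl Lrfl
theorem f413673 : Led Lsl_dt (LP (LK LD1_c4 LD2_c49 LD3_c47)) = (LP (LK LD1_c2 LD2_c22 LD3_c38)) :=
  Lre_d IH (LK LD1_c4 LD2_c49 LD3_c47) (LK LD1_c2 LD2_c22 LD3_c38) Lrfl Lrfl
theorem f73740 : Led Lsl_at (LP (LK LD1_c2 LD2_c27 LD3_c55)) = (LP (LK LD1_c1 LD2_c38 LD3_c21)) :=
  Lre_a IH (LK LD1_c2 LD2_c27 LD3_c55) (LK LD1_c1 LD2_c38 LD3_c21) Lrfl Lrfl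
theorem f413678 : Led Lsl_ft (LP (LK LD1_c4 LD2_c49 LD3_c47)) = (LP (LK LD1_c2 LD2_c27 LD3_c55)) :=
  Lgr Lrot142 (Lpr_dt (f413673 IH) (Lpr_ct (K16.f413657 IH) (Lpe (K2.f73738 IH) (Lpr_ct (K2.f61432 IH) (Lpr_dt (K2.f61479 IH) (Lpr_ct (K2.f73683 IH) (Lpr_dt (K2.f73695 IH) (Lpr_ct (K2.f73702 IH) (Lpe (f73740 IH) (Lpn (LP (LK LD1_c2 LD2_c27 LD3_c55))))))))))))
theorem f413728 : Led Lsl_ff (LP (LK LD1_c4 LD2_c49 LD3_c47)) = (LP (LK LD1_c2 LD2_c27 LD3_c55)) :=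
  Lgr Lrot3 (Lpr_ft (f413678 IH) (Lpn (LP (LK LD1_c2 LD2_c27 LD3_c55))))
theorem f413743 : Led Lsl_et (LP (LK LD1_c4 LD2_c49 LD3_c47)) = (LP (LK LD1_c9 LD2_c32 LD3_c12)) :=
  Lre_e IH (LK LD1_c4 LD2_c49 LD3_c47) (LK LD1_c9 LD2_c32 LD3_c12) Lrfl Lrfl
theorem f101479 : Led Lsl_et (LP (LK LD1_c1 LD2_c11 LD3_c6)) = (LP (LK LD1_c2 LD2_c27 LD3_c55)) :=
  Lre_e IH (LK LD1_c1 LD2_c11 LD3_c6) (LK LD1_c2 LD2_c27 LD3_c55) Lrfl Lrfl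
theorem f101556 : Led Lsl_et (LP (LK LD1_c4 LD2_c57 LD3_c60)) = (LP (LK LD1_c2 LD2_c26 LD3_c50)) :=
  Lre_e IH (LK LD1_c4 LD2_c57 LD3_c60) (LK LD1_c2 LD2_c26 LD3_c50) Lrfl Lrfl
theorem f413744 : Led Lsl_ft (LP (LK LD1_c9 LD2_c32 LD3_c12)) = (LP (LK LD1_c4 LD2_c57 LD3_c60)) :=
  Lgr Lrot86 (Lpe (f413743 IH) (Lpr_ff (f413728 IH) (Lpe (f101479 IH) (Lpe (K9.f100695 IH) (Lpe (f101556 IH) (Lpn (LP (LK LD1_c4 LD2_c57 LD3_c60))))))))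
theorem f100622 : Led Lsl_et (LP (LK LD1_c5 LD2_c0 LD3_c28)) = (LP (LK LD1_c9 LD2_c51 LD3_c19)) :=
  Lre_e IH (LK LD1_c5 LD2_c0 LD3_c28) (LK LD1_c9 LD2_c51 LD3_c19) Lrfl Lrfl
theorem f100624 : Led Lsl_ct (LP (LK LD1_c9 LD2_c51 LD3_c19)) = (LP (LK LD1_c6 LD2_c13 LD3_c30)) :=
  Lgr Lrot15 (Lpe (f100622 IH) (Lpr_cf (K9.f100604 IH) (Lpe (K10.f100623 IH) (Lpn (LP (LK LD1_c6 LD2_c13 LD3_c30))))))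
theorem f60833 : Led Lsl_ft (LP (LK LD1_c1 LD2_c28 LD3_c29)) = (LP (LK LD1_c0 LD2_c40 LD3_c53)) :=
  Lre_f IH (LK LD1_c1 LD2_c28 LD3_c29) (LK LD1_c0 LD2_c40 LD3_c53) Lrfl Lrfl
theorem f73130 : Led Lsl_bt (LP (LK LD1_c6 LD2_c15 LD3_c24)) = (LP (LK LD1_c5 LD2_c47 LD3_c2)) :=
  Lgr Lrot127 (Lpr_bf (K2.f72960 IH) (Lpn (LP (LK LD1_c5 LD2_c47 LD3_c2))))
theorem f73134 : Led Lsl_bt (LP (LK LD1_c1 LD2_c28 LD3_c28)) = (LP (LK LD1_c3 LD2_c4 LD3_c49)) :=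
  Lre_b IH (LK LD1_c1 LD2_c28 LD3_c28) (LK LD1_c3 LD2_c4 LD3_c49) Lrfl Lrfl
theorem f73135 : Led Lsl_at (LP (LK LD1_c5 LD2_c47 LD3_c2)) = (LP (LK LD1_c2 LD2_c49 LD3_c28)) :=
  Lre_a IH (LK LD1_c5 LD2_c47 LD3_c2) (LK LD1_c2 LD2_c49 LD3_c28) Lrfl Lrfl
theorem f73136 : Led Lsl_bt (LP (LK LD1_c2 LD2_c49 LD3_c28)) = (LP (LK LD1_c1 LD2_c20 LD3_c54)) :=
  Lre_b IH (LK LD1_c2 LD2_c49 LD3_c28) (LK LD1_c1 LD2_c20 LD3_c54) Lrfl Lrfl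
theorem f73137 : Led Lsl_af (LP (LK LD1_c1 LD2_c28 LD3_c28)) = (LP (LK LD1_c1 LD2_c20 LD3_c54)) :=
  Lgr Lrot36 (Lpr_bt (f73134 IH) (Lpr_at (K2.f73133 IH) (Lpr_bt (f73130 IH) (Lpr_at (f73135 IH) (Lpr_bt (f73136 IH) (Lpn (LP (LK LD1_c1 LD2_c20 LD3_c54))))))))
theorem f73143 : Led Lsl_at (LP (LK LD1_c0 LD2_c40 LD3_c53)) = (LP (LK LD1_c0 LD2_c37 LD3_c22)) :=
  Lgr Lrot51 (Lpe (K9.f60726 IH) (Lpr_af (f73137 IH) (Lpe (K9.f61318 IH) (Lpn (LP (LK LD1_c0 LD2_c37 LD3_c22))))))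
theorem f60921 : Led Lsl_cf (LP (LK LD1_c0 LD2_c37 LD3_c22)) = (LP (LK LD1_c0 LD2_c30 LD3_c3)) :=
  Lgr Lrot39 (Lpr_et (K9.f60920 IH) (Lpr_ct (K1.f60910 IH) (Lpr_et (K1.f59522 IH) (Lpn (LP (LK LD1_c0 LD2_c30 LD3_c3))))))
theorem f60442 : Led Lsl_ct (LP (LK LD1_c0 LD2_c18 LD3_c19)) = (LP (LK LD1_c0 LD2_c40 LD3_c53)) :=
  Lre_c IH (LK LD1_c0 LD2_c18 LD3_c19) (LK LD1_c0 LD2_c40 LD3_c53) Lrfl Lrfl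
theorem f73147 : Led Lsl_cf (LP (LK LD1_c0 LD2_c30 LD3_c3)) = (LP (LK LD1_c0 LD2_c37 LD3_c22)) :=
  Lgr Lrot1 (Lpr_at (K1.f60895 IH) (Lpr_ct (f60442 IH) (Lpr_at (f73143 IH) (Lpn (LP (LK LD1_c0 LD2_c37 LD3_c22))))))
theorem f73149 : Led Lsl_dt (LP (LK LD1_c1 LD2_c20 LD3_c54)) = (LP (LK LD1_c0 LD2_c37 LD3_c22)) :=
  Lre_d IH (LK LD1_c1 LD2_c20 LD3_c54) (LK LD1_c0 LD2_c37 LD3_c22) Lrfl Lrfl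
theorem f73140 : Led Lsl_ct (LP (LK LD1_c2 LD2_c49 LD3_c31)) = (LP (LK LD1_c1 LD2_c20 LD3_c54)) :=
  Lre_c IH (LK LD1_c2 LD2_c49 LD3_c31) (LK LD1_c1 LD2_c20 LD3_c54) Lrfl Lrfl
theorem f172158 : Led Lsl_ct (LP (LK LD1_c2 LD2_c46 LD3_c24)) = (LP (LK LD1_c5 LD2_c40 LD3_c55)) :=
  Lre_c IH (LK LD1_c2 LD2_c46 LD3_c24) (LK LD1_c5 LD2_c40 LD3_c55) Lrfl Lrfl
theorem f172166 : Led Lsl_df (LP (LK LD1_c2 LD2_c49 LD3_c31)) = (LP (LK LD1_c5 LD2_c40 LD3_c55)) :=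
  Lgr Lrot106 (Lpr_ct (f73140 IH) (Lpr_dt (f73149 IH) (Lpe (f73147 IH) (Lpe (K1.f60901 IH) (Lpe (f60921 IH) (Lpe (f73143 IH) (Lpe (f60833 IH) (Lpr_dt (K9.f172153 IH) (Lpr_ct (f172158 IH) (Lpn (LP (LK LD1_c5 LD2_c40 LD3_c55))))))))))))
theorem f73150 : Led Lsl_ct (LP (LK LD1_c1 LD2_c20 LD3_c54)) = (LP (LK LD1_c2 LD2_c49 LD3_c31)) :=
  Lre_c IH (LK LD1_c1 LD2_c20 LD3_c54) (LK LD1_c2 LD2_c49 LD3_c31) Lrfl Lrfl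
theorem f60725 : Led Lsl_ct (LP (LK LD1_c1 LD2_c28 LD3_c28)) = (LP (LK LD1_c3 LD2_c4 LD3_c51)) :=
  Lre_c IH (LK LD1_c1 LD2_c28 LD3_c28) (LK LD1_c3 LD2_c4 LD3_c51) Lrfl Lrfl
theorem f73141 : Led Lsl_at (LP (LK LD1_c3 LD2_c4 LD3_c51)) = (LP (LK LD1_c2 LD2_c49 LD3_c31)) :=
  Lgr Lrot107 (Lpe (f60725 IH) (Lpr_af (f73137 IH) (Lpe (f73140 IH) (Lpn (LP (LK LD1_c2 LD2_c49 LD3_c31))))))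
theorem f172178 : Led Lsl_ff (LP (LK LD1_c3 LD2_c4 LD3_c51)) = (LP (LK LD1_c5 LD2_c40 LD3_c55)) :=
  Lgr Lrot103 (Lpr_at (f73141 IH) (Lpe (f73150 IH) (Lpe (K9.f61318 IH) (Lpr_cf (f60921 IH) (Lpr_df (K1.f60901 IH) (Lpr_cf (f73147 IH) (Lpe (f73149 IH) (Lpe (f73140 IH) (Lpr_df (f172166 IH) (Lpn (LP (LK LD1_c5 LD2_c40 LD3_c55))))))))))))
theorem f172189 : Led Lsl_ft (LP (LK LD1_c3 LD2_c4 LD3_c51)) = (LP (LK LD1_c5 LD2_c40 LD3_c55)) :=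
  Lgr Lrot48 (Lpr_ff (f172178 IH) (Lpn (LP (LK LD1_c5 LD2_c40 LD3_c55))))
theorem f60791 : Led Lsl_ct (LP (LK LD1_c3 LD2_c4 LD3_c49)) = (LP (LK LD1_c6 LD2_c15 LD3_c33)) :=
  Lre_c IH (LK LD1_c3 LD2_c4 LD3_c49) (LK LD1_c6 LD2_c15 LD3_c33) Lrfl Lrfl
theorem f73868 : Led Lsl_ct (LP (LK LD1_c11 LD2_c30 LD3_c52)) = (LP (LK LD1_c5 LD2_c51 LD3_c47)) :=
  Lre_c IH (LK LD1_c11 LD2_c30 LD3_c52) (LK LD1_c5 LD2_c51 LD3_c47) Lrfl Lrfl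
theorem f73869 : Led Lsl_et (LP (LK LD1_c6 LD2_c15 LD3_c33)) = (LP (LK LD1_c11 LD2_c30 LD3_c52)) :=
  Lgr Lrot158 (Lpe (f60791 IH) (Lpr_ef (K2.f73854 IH) (Lpe (f73868 IH) (Lpn (LP (LK LD1_c11 LD2_c30 LD3_c52))))))
theorem f73878 : Led Lsl_bt (LP (LK LD1_c12 LD2_c8 LD3_c59)) = (LP (LK LD1_c6 LD2_c15 LD3_c33)) :=
  Lre_b IH (LK LD1_c12 LD2_c8 LD3_c59) (LK LD1_c6 LD2_c15 LD3_c33) Lrfl Lrfl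
theorem f73879 : Led Lsl_bt (LP (LK LD1_c11 LD2_c30 LD3_c52)) = (LP (LK LD1_c20 LD2_c27 LD3_c54)) :=
  Lre_b IH (LK LD1_c11 LD2_c30 LD3_c52) (LK LD1_c20 LD2_c27 LD3_c54) Lrfl Lrfl
theorem f73880 : Led Lsl_ef (LP (LK LD1_c12 LD2_c8 LD3_c59)) = (LP (LK LD1_c20 LD2_c27 LD3_c54)) :=
  Lgr Lrot29 (Lpr_bt (f73878 IH) (Lpr_et (f73869 IH) (Lpr_bt (f73879 IH) (Lpn (LP (LK LD1_c20 LD2_c27 LD3_c54))))))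
theorem f73888 : Led Lsl_et (LP (LK LD1_c12 LD2_c8 LD3_c59)) = (LP (LK LD1_c20 LD2_c27 LD3_c54)) :=
  Lgr Lrot87 (Lpr_ef (f73880 IH) (Lpn (LP (LK LD1_c20 LD2_c27 LD3_c54))))
theorem f73895 : Led Lsl_ct (LP (LK LD1_c6 LD2_c15 LD3_c34)) = (LP (LK LD1_c12 LD2_c8 LD3_c59)) :=
  Lre_c IH (LK LD1_c6 LD2_c15 LD3_c34) (LK LD1_c12 LD2_c8 LD3_c59) Lrfl Lrfl
theorem f73896 : Led Lsl_ct (LP (LK LD1_c20 LD2_c27 LD3_c54)) = (LP (LK LD1_c11 LD2_c30 LD3_c54)) :=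
  Lre_c IH (LK LD1_c20 LD2_c27 LD3_c54) (LK LD1_c11 LD2_c30 LD3_c54) Lrfl Lrfl
theorem f73897 : Led Lsl_ef (LP (LK LD1_c6 LD2_c15 LD3_c34)) = (LP (LK LD1_c11 LD2_c30 LD3_c54)) :=
  Lgr Lrot28 (Lpr_ct (f73895 IH) (Lpr_et (f73888 IH) (Lpr_ct (f73896 IH) (Lpn (LP (LK LD1_c11 LD2_c30 LD3_c54))))))
theorem f73154 : Led Lsl_bt (LP (LK LD1_c6 LD2_c15 LD3_c34)) = (LP (LK LD1_c3 LD2_c4 LD3_c51)) :=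
  Lre_b IH (LK LD1_c6 LD2_c15 LD3_c34) (LK LD1_c3 LD2_c4 LD3_c51) Lrfl Lrfl
theorem f73902 : Led Lsl_bt (LP (LK LD1_c5 LD2_c51 LD3_c49)) = (LP (LK LD1_c11 LD2_c30 LD3_c54)) :=
  Lre_b IH (LK LD1_c5 LD2_c51 LD3_c49) (LK LD1_c11 LD2_c30 LD3_c54) Lrfl Lrfl
theorem f73903 : Led Lsl_et (LP (LK LD1_c3 LD2_c4 LD3_c51)) = (LP (LK LD1_c5 LD2_c51 LD3_c49)) :=
  Lgr Lrot74 (Lpe (f73154 IH) (Lpr_ef (f73897 IH) (Lpe (f73902 IH) (Lpn (LP (LK LD1_c5 LD2_c51 LD3_c49))))))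
theorem f73909 : Led Lsl_ef (LP (LK LD1_c3 LD2_c4 LD3_c51)) = (LP (LK LD1_c5 LD2_c51 LD3_c49)) :=
  Lgr Lrot88 (Lpr_et (f73903 IH) (Lpn (LP (LK LD1_c5 LD2_c51 LD3_c49))))
theorem f61617 : Led Lsl_et (LP (LK LD1_c2 LD2_c49 LD3_c31)) = (LP (LK LD1_c5 LD2_c47 LD3_c12)) :=
  Lre_e IH (LK LD1_c2 LD2_c49 LD3_c31) (LK LD1_c5 LD2_c47 LD3_c12) Lrfl Lrfl
theorem f73911 : Led Lsl_at (LP (LK LD1_c5 LD2_c47 LD3_c12)) = (LP (LK LD1_c5 LD2_c51 LD3_c49)) :=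
  Lgr Lrot80 (Lpe (f61617 IH) (Lpe (f73141 IH) (Lpr_ef (f73909 IH) (Lpn (LP (LK LD1_c5 LD2_c51 LD3_c49))))))
theorem f61492 : Led Lsl_ft (LP (LK LD1_c5 LD2_c47 LD3_c13)) = (LP (LK LD1_c2 LD2_c49 LD3_c29)) :=
  Lre_f IH (LK LD1_c5 LD2_c47 LD3_c13) (LK LD1_c2 LD2_c49 LD3_c29) Lrfl Lrfl
theorem f61600 : Led Lsl_ct (LP (LK LD1_c2 LD2_c49 LD3_c29)) = (LP (LK LD1_c5 LD2_c47 LD3_c12)) :=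
  Lre_c IH (LK LD1_c2 LD2_c49 LD3_c29) (LK LD1_c5 LD2_c47 LD3_c12) Lrfl Lrfl
theorem f73687 : Led Lsl_ft (LP (LK LD1_c5 LD2_c47 LD3_c12)) = (LP (LK LD1_c6 LD2_c51 LD3_c18)) :=
  Lgr Lrot4 (Lpe (f61600 IH) (Lpe (f61492 IH) (Lpr_cf (K2.f73676 IH) (Lpn (LP (LK LD1_c6 LD2_c51 LD3_c18))))))
theorem f73697 : Led Lsl_ff (LP (LK LD1_c5 LD2_c47 LD3_c12)) = (LP (LK LD1_c6 LD2_c51 LD3_c18)) :=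
  Lgr Lrot3 (Lpr_ft (f73687 IH) (Lpn (LP (LK LD1_c6 LD2_c51 LD3_c18))))
theorem f73917 : Led Lsl_ff (LP (LK LD1_c9 LD2_c51 LD3_c7)) = (LP (LK LD1_c5 LD2_c51 LD3_c49)) :=
  Lgr Lrot30 (Lpr_at (K16.f73678 IH) (Lpe (f73697 IH) (Lpr_at (f73911 IH) (Lpn (LP (LK LD1_c5 LD2_c51 LD3_c49))))))
theorem f73924 : Led Lsl_ft (LP (LK LD1_c9 LD2_c51 LD3_c7)) = (LP (LK LD1_c5 LD2_c51 LD3_c49)) :=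
  Lgr Lrot48 (Lpr_ff (f73917 IH) (Lpn (LP (LK LD1_c5 LD2_c51 LD3_c49))))
theorem f73929 : Led Lsl_et (LP (LK LD1_c18 LD2_c2 LD3_c16)) = (LP (LK LD1_c9 LD2_c51 LD3_c7)) :=
  Lre_e IH (LK LD1_c18 LD2_c2 LD3_c16) (LK LD1_c9 LD2_c51 LD3_c7) Lrfl Lrfl
theorem f172181 : Led Lsl_et (LP (LK LD1_c5 LD2_c40 LD3_c55)) = (LP (LK LD1_c11 LD2_c12 LD3_c23)) :=
  Lre_e IH (LK LD1_c5 LD2_c40 LD3_c55) (LK LD1_c11 LD2_c12 LD3_c23) Lrfl Lrfl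
theorem f172193 : Led Lsl_ff (LP (LK LD1_c18 LD2_c2 LD3_c16)) = (LP (LK LD1_c11 LD2_c12 LD3_c23)) :=
  Lgr Lrot72 (Lpr_et (f73929 IH) (Lpr_ft (f73924 IH) (Lpe (f73909 IH) (Lpr_ft (f172189 IH) (Lpr_et (f172181 IH) (Lpn (LP (LK LD1_c11 LD2_c12 LD3_c23))))))))
theorem f172195 : Led Lsl_ct (LP (LK LD1_c5 LD2_c40 LD3_c56)) = (LP (LK LD1_c11 LD2_c12 LD3_c23)) :=
  Lre_c IH (LK LD1_c5 LD2_c40 LD3_c56) (LK LD1_c11 LD2_c12 LD3_c23) Lrfl Lrfl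
theorem f172196 : Led Lsl_ft (LP (LK LD1_c11 LD2_c12 LD3_c25)) = (LP (LK LD1_c5 LD2_c40 LD3_c56)) :=
  Lre_f IH (LK LD1_c11 LD2_c12 LD3_c25) (LK LD1_c5 LD2_c40 LD3_c56) Lrfl Lrfl
theorem f172197 : Led Lsl_ct (LP (LK LD1_c18 LD2_c2 LD3_c16)) = (LP (LK LD1_c11 LD2_c12 LD3_c25)) :=
  Lgr Lrot40 (Lpr_ff (f172193 IH) (Lpe (f172195 IH) (Lpe (f172196 IH) (Lpn (LP (LK LD1_c11 LD2_c12 LD3_c25))))))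
theorem f172200 : Led Lsl_cf (LP (LK LD1_c18 LD2_c2 LD3_c16)) = (LP (LK LD1_c11 LD2_c12 LD3_c25)) :=
  Lgr Lrot11 (Lpr_ct (f172197 IH) (Lpn (LP (LK LD1_c11 LD2_c12 LD3_c25))))
theorem f100916 : Led Lsl_dt (LP (LK LD1_c9 LD2_c51 LD3_c19)) = (LP (LK LD1_c18 LD2_c2 LD3_c16)) :=
  Lre_d IH (LK LD1_c9 LD2_c51 LD3_c19) (LK LD1_c18 LD2_c2 LD3_c16) Lrfl Lrfl
theorem f100929 : Led Lsl_df (LP (LK LD1_c6 LD2_c13 LD3_c30)) = (LP (LK LD1_c3 LD2_c59 LD3_c16)) :=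
  Lgr Lrot38 (Lpr_dt (K9.f100922 IH) (Lpn (LP (LK LD1_c3 LD2_c59 LD3_c16))))
theorem f40223 : Led Lsl_at (LP (LK LD1_c24 LD2_c52 LD3_c58)) = (LP (LK LD1_c15 LD2_c4 LD3_c30)) :=
  Lre_a IH (LK LD1_c24 LD2_c52 LD3_c58) (LK LD1_c15 LD2_c4 LD3_c30) Lrfl Lrfl
theorem f40224 : Led Lsl_bt (LP (LK LD1_c15 LD2_c4 LD3_c30)) = (LP (LK LD1_c7 LD2_c59 LD3_c50)) :=
  Lre_b IH (LK LD1_c15 LD2_c4 LD3_c30) (LK LD1_c7 LD2_c59 LD3_c50) Lrfl Lrfl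
theorem f40225 : Led Lsl_at (LP (LK LD1_c9 LD2_c46 LD3_c17)) = (LP (LK LD1_c17 LD2_c54 LD3_c49)) :=
  Lre_a IH (LK LD1_c9 LD2_c46 LD3_c17) (LK LD1_c17 LD2_c54 LD3_c49) Lrfl Lrfl
theorem f40226 : Led Lsl_bt (LP (LK LD1_c4 LD2_c57 LD3_c57)) = (LP (LK LD1_c9 LD2_c46 LD3_c17)) :=
  Lre_b IH (LK LD1_c4 LD2_c57 LD3_c57) (LK LD1_c9 LD2_c46 LD3_c17) Lrfl Lrfl
theorem f40227 : Led Lsl_at (LP (LK LD1_c7 LD2_c59 LD3_c50)) = (LP (LK LD1_c4 LD2_c57 LD3_c57)) :=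
  Lgr Lrot67 (Lpe (f40224 IH) (Lpe (f40223 IH) (Lpr_bf (K1.f40219 IH) (Lpe (f40225 IH) (Lpe (f40226 IH) (Lpn (LP (LK LD1_c4 LD2_c57 LD3_c57))))))))
theorem f54831 : Led Lsl_ft (LP (LK LD1_c7 LD2_c59 LD3_c4)) = (LP (LK LD1_c3 LD2_c58 LD3_c48)) :=
  Lre_f IH (LK LD1_c7 LD2_c59 LD3_c4) (LK LD1_c3 LD2_c58 LD3_c48) Lrfl Lrfl
theorem f55765 : Led Lsl_at (LP (LK LD1_c4 LD2_c56 LD3_c26)) = (LP (LK LD1_c7 LD2_c59 LD3_c4)) :=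
  Lgr Lrot66 (Lpe (K9.f55361 IH) (Lpr_af (K9.f55762 IH) (Lpe (f54831 IH) (Lpn (LP (LK LD1_c7 LD2_c59 LD3_c4))))))
theorem f140312 : Led Lsl_cf (LP (LK LD1_c4 LD2_c57 LD3_c57)) = (LP (LK LD1_c7 LD2_c59 LD3_c4)) :=
  Lgr Lrot1 (Lpe (K1.f40883 IH) (Lpr_ct (K9.f140308 IH) (Lpr_at (f55765 IH) (Lpn (LP (LK LD1_c7 LD2_c59 LD3_c4))))))
theorem f54833 : Led Lsl_df (LP (LK LD1_c7 LD2_c59 LD3_c4)) = (LP (LK LD1_c8 LD2_c14 LD3_c43)) :=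
  Lgr Lrot78 (Lpr_ft (f54831 IH) (Lpr_dt (K9.f54822 IH) (Lpr_ft (K9.f54832 IH) (Lpn (LP (LK LD1_c8 LD2_c14 LD3_c43))))))
theorem f55566 : Led Lsl_cf (LP (LK LD1_c8 LD2_c14 LD3_c43)) = (LP (LK LD1_c8 LD2_c12 LD3_c55)) :=
  Lgr Lrot11 (Lpr_ct (K9.f55553 IH) (Lpn (LP (LK LD1_c8 LD2_c12 LD3_c55))))
theorem f172204 : Led Lsl_df (LP (LK LD1_c8 LD2_c12 LD3_c55)) = (LP (LK LD1_c11 LD2_c12 LD3_c25)) :=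
  Lgr Lrot13 (Lpe (f55566 IH) (Lpe (f54833 IH) (Lpe (f140312 IH) (Lpe (f40227 IH) (Lpe (K9.f100934 IH) (Lpe (f100929 IH) (Lpr_ct (K9.f100910 IH) (Lpr_dt (f100916 IH) (Lpr_ct (f172197 IH) (Lpn (LP (LK LD1_c11 LD2_c12 LD3_c25))))))))))))
theorem f172209 : Led Lsl_dt (LP (LK LD1_c8 LD2_c12 LD3_c55)) = (LP (LK LD1_c11 LD2_c12 LD3_c25)) :=
  Lgr Lrot42 (Lpr_df (f172204 IH) (Lpn (LP (LK LD1_c11 LD2_c12 LD3_c25))))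
theorem f54839 : Led Lsl_dt (LP (LK LD1_c7 LD2_c59 LD3_c4)) = (LP (LK LD1_c8 LD2_c14 LD3_c43)) :=
  Lgr Lrot42 (Lpr_df (f54833 IH) (Lpn (LP (LK LD1_c8 LD2_c14 LD3_c43))))
theorem f140314 : Led Lsl_cf (LP (LK LD1_c7 LD2_c59 LD3_c50)) = (LP (LK LD1_c4 LD2_c56 LD3_c26)) :=
  Lgr Lrot11 (Lpr_ct (K9.f140308 IH) (Lpn (LP (LK LD1_c4 LD2_c56 LD3_c26))))
theorem f55351 : Led Lsl_et (LP (LK LD1_c4 LD2_c5 LD3_c33)) = (LP (LK LD1_c1 LD2_c59 LD3_c59)) :=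
  Lre_e IH (LK LD1_c4 LD2_c5 LD3_c33) (LK LD1_c1 LD2_c59 LD3_c59) Lrfl Lrfl
theorem f55353 : Led Lsl_df (LP (LK LD1_c4 LD2_c5 LD3_c33)) = (LP (LK LD1_c2 LD2_c25 LD3_c60)) :=
  Lgr Lrot70 (Lpr_et (f55351 IH) (Lpr_dt (K2.f55350 IH) (Lpr_et (K1.f55339 IH) (Lpr_dt (K1.f40843 IH) (Lpr_et (K9.f55352 IH) (Lpn (LP (LK LD1_c2 LD2_c25 LD3_c60))))))))
theorem f55359 : Led Lsl_dt (LP (LK LD1_c8 LD2_c11 LD3_c61)) = (LP (LK LD1_c4 LD2_c56 LD3_c26)) :=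
  Lgr Lrot60 (Lpe (K9.f55358 IH) (Lpr_df (f55353 IH) (Lpe (K9.f41004 IH) (Lpn (LP (LK LD1_c4 LD2_c56 LD3_c26))))))
theorem f55368 : Led Lsl_df (LP (LK LD1_c8 LD2_c11 LD3_c61)) = (LP (LK LD1_c4 LD2_c56 LD3_c26)) :=
  Lgr Lrot38 (Lpr_dt (f55359 IH) (Lpn (LP (LK LD1_c4 LD2_c56 LD3_c26))))
theorem f55753 : Led Lsl_af (LP (LK LD1_c4 LD2_c56 LD3_c26)) = (LP (LK LD1_c7 LD2_c59 LD3_c4)) :=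
  Lgr Lrot117 (Lpe (f55368 IH) (Lpr_at (K9.f55751 IH) (Lpe (f54833 IH) (Lpn (LP (LK LD1_c7 LD2_c59 LD3_c4))))))
theorem f140469 : Led Lsl_ct (LP (LK LD1_c4 LD2_c57 LD3_c57)) = (LP (LK LD1_c7 LD2_c59 LD3_c4)) :=
  Lgr Lrot111 (Lpe (f40227 IH) (Lpr_cf (f140314 IH) (Lpr_af (f55753 IH) (Lpn (LP (LK LD1_c7 LD2_c59 LD3_c4))))))
theorem f413753 : Led Lsl_dt (LP (LK LD1_c9 LD2_c32 LD3_c12)) = (LP (LK LD1_c4 LD2_c57 LD3_c57)) :=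
  Lgr Lrot159 (Lpr_ft (f413744 IH) (Lpe (K9.f100914 IH) (Lpe (f100624 IH) (Lpe (K9.f73936 IH) (Lpr_cf (f172200 IH) (Lpe (f172209 IH) (Lpe (K9.f55553 IH) (Lpe (f54839 IH) (Lpe (f140469 IH) (Lpn (LP (LK LD1_c4 LD2_c57 LD3_c57))))))))))))
theorem f413748 : Led Lsl_bt (LP (LK LD1_c17 LD2_c34 LD3_c24)) = (LP (LK LD1_c9 LD2_c32 LD3_c12)) :=
  Lre_b IH (LK LD1_c17 LD2_c34 LD3_c24) (LK LD1_c9 LD2_c32 LD3_c12) Lrfl Lrfl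
theorem f413757 : Led Lsl_df (LP (LK LD1_c17 LD2_c34 LD3_c24)) = (LP (LK LD1_c9 LD2_c46 LD3_c17)) :=
  Lgr Lrot12 (Lpr_bt (f413748 IH) (Lpr_dt (f413753 IH) (Lpr_bt (f40226 IH) (Lpn (LP (LK LD1_c9 LD2_c46 LD3_c17))))))
theorem f413762 : Led Lsl_et (LP (LK LD1_c17 LD2_c34 LD3_c24)) = (LP (LK LD1_c9 LD2_c32 LD3_c11)) :=
  Lre_e IH (LK LD1_c17 LD2_c34 LD3_c24) (LK LD1_c9 LD2_c32 LD3_c11) Lrfl Lrfl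
theorem f413763 : Led Lsl_dt (LP (LK LD1_c9 LD2_c32 LD3_c11)) = (LP (LK LD1_c4 LD2_c49 LD3_c46)) :=
  Lre_d IH (LK LD1_c9 LD2_c32 LD3_c11) (LK LD1_c4 LD2_c49 LD3_c46) Lrfl Lrfl
theorem f381420 : Led Lsl_et (LP (LK LD1_c4 LD2_c57 LD3_c41)) = (LP (LK LD1_c9 LD2_c46 LD3_c17)) :=
  Lre_e IH (LK LD1_c4 LD2_c57 LD3_c41) (LK LD1_c9 LD2_c46 LD3_c17) Lrfl Lrfl
theorem f104925 : Led Lsl_dt (LP (LK LD1_c2 LD2_c27 LD3_c46)) = (LP (LK LD1_c4 LD2_c57 LD3_c41)) :=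
  Lre_d IH (LK LD1_c2 LD2_c27 LD3_c46) (LK LD1_c4 LD2_c57 LD3_c41) Lrfl Lrfl
theorem f413764 : Led Lsl_et (LP (LK LD1_c4 LD2_c49 LD3_c46)) = (LP (LK LD1_c2 LD2_c27 LD3_c46)) :=
  Lgr Lrot71 (Lpe (f413763 IH) (Lpe (f413762 IH) (Lpr_df (f413757 IH) (Lpe (f381420 IH) (Lpe (f104925 IH) (Lpn (LP (LK LD1_c2 LD2_c27 LD3_c46))))))))
theorem f413811 : Led Lsl_ft (LP (LK LD1_c2 LD2_c27 LD3_c46)) = (LP (LK LD1_c1 LD2_c10 LD3_c61)) :=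
  Lre_f IH (LK LD1_c2 LD2_c27 LD3_c46) (LK LD1_c1 LD2_c10 LD3_c61) Lrfl Lrfl
theorem f75451 : Led Lsl_et (LP (LK LD1_c1 LD2_c10 LD3_c61)) = (LP (LK LD1_c0 LD2_c32 LD3_c54)) :=
  Lre_e IH (LK LD1_c1 LD2_c10 LD3_c61) (LK LD1_c0 LD2_c32 LD3_c54) Lrfl Lrfl
theorem f413812 : Led Lsl_ft (LP (LK LD1_c0 LD2_c32 LD3_c54)) = (LP (LK LD1_c1 LD2_c11 LD3_c0)) :=
  Lre_f IH (LK LD1_c0 LD2_c32 LD3_c54) (LK LD1_c1 LD2_c11 LD3_c0) Lrfl Lrfl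
theorem f139341 : Led Lsl_et (LP (LK LD1_c1 LD2_c11 LD3_c0)) = (LP (LK LD1_c2 LD2_c27 LD3_c47)) :=
  Lre_e IH (LK LD1_c1 LD2_c11 LD3_c0) (LK LD1_c2 LD2_c27 LD3_c47) Lrfl Lrfl
theorem f413813 : Led Lsl_ff (LP (LK LD1_c4 LD2_c49 LD3_c46)) = (LP (LK LD1_c2 LD2_c27 LD3_c47)) :=
  Lgr Lrot72 (Lpr_et (f413764 IH) (Lpr_ft (f413811 IH) (Lpr_et (f75451 IH) (Lpr_ft (f413812 IH) (Lpr_et (f139341 IH) (Lpn (LP (LK LD1_c2 LD2_c27 LD3_c47))))))))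
theorem f413826 : Led Lsl_ft (LP (LK LD1_c4 LD2_c49 LD3_c46)) = (LP (LK LD1_c2 LD2_c27 LD3_c47)) :=
  Lgr Lrot48 (Lpr_ff (f413813 IH) (Lpn (LP (LK LD1_c2 LD2_c27 LD3_c47))))
theorem f413684 : Led Lsl_gt (LP (LK LD1_c4 LD2_c49 LD3_c46)) = (LP (LK LD1_c9 LD2_c32 LD3_c7)) :=
  Lre_g IH (LK LD1_c4 LD2_c49 LD3_c46) (LK LD1_c9 LD2_c32 LD3_c7) Lrfl Lrfl
theorem f413836 : Led Lsl_at (LP (LK LD1_c2 LD2_c27 LD3_c47)) = (LP (LK LD1_c4 LD2_c58 LD3_c14)) :=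
  Lre_a IH (LK LD1_c2 LD2_c27 LD3_c47) (LK LD1_c4 LD2_c58 LD3_c14) Lrfl Lrfl
theorem f413844 : Led Lsl_gt (LP (LK LD1_c9 LD2_c32 LD3_c7)) = (LP (LK LD1_c4 LD2_c58 LD3_c14)) :=
  Lgr Lrot46 (Lpe (f413684 IH) (Lpr_ft (f413826 IH) (Lpr_at (f413836 IH) (Lpn (LP (LK LD1_c4 LD2_c58 LD3_c14))))))
theorem f413683 : Led Lsl_bt (LP (LK LD1_c2 LD2_c22 LD3_c38)) = (LP (LK LD1_c4 LD2_c49 LD3_c46)) :=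
  Lre_b IH (LK LD1_c2 LD2_c22 LD3_c38) (LK LD1_c4 LD2_c49 LD3_c46) Lrfl Lrfl
theorem f140046 : Led Lsl_ct (LP (LK LD1_c0 LD2_c44 LD3_c48)) = (LP (LK LD1_c0 LD2_c45 LD3_c35)) :=
  Lgr Lrot59 (Lpr_cf (K9.f140032 IH) (Lpn (LP (LK LD1_c0 LD2_c45 LD3_c35))))
theorem f140985 : Led Lsl_bt (LP (LK LD1_c0 LD2_c44 LD3_c47)) = (LP (LK LD1_c0 LD2_c19 LD3_c54)) :=
  Lre_b IH (LK LD1_c0 LD2_c44 LD3_c47) (LK LD1_c0 LD2_c19 LD3_c54) Lrfl Lrfl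
theorem f140986 : Led Lsl_ct (LP (LK LD1_c0 LD2_c44 LD3_c47)) = (LP (LK LD1_c1 LD2_c35 LD3_c28)) :=
  Lre_c IH (LK LD1_c0 LD2_c44 LD3_c47) (LK LD1_c1 LD2_c35 LD3_c28) Lrfl Lrfl
theorem f140987 : Led Lsl_gt (LP (LK LD1_c3 LD2_c17 LD3_c55)) = (LP (LK LD1_c1 LD2_c35 LD3_c28)) :=
  Lre_g IH (LK LD1_c3 LD2_c17 LD3_c55) (LK LD1_c1 LD2_c35 LD3_c28) Lrfl Lrfl
theorem f140988 : Led Lsl_ct (LP (LK LD1_c6 LD2_c39 LD3_c27)) = (LP (LK LD1_c3 LD2_c17 LD3_c55)) :=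
  Lre_c IH (LK LD1_c6 LD2_c39 LD3_c27) (LK LD1_c3 LD2_c17 LD3_c55) Lrfl Lrfl
theorem f413685 : Led Lsl_bf (LP (LK LD1_c9 LD2_c32 LD3_c7)) = (LP (LK LD1_c6 LD2_c39 LD3_c27)) :=
  Lgr Lrot34 (Lpe (f413684 IH) (Lpe (f413683 IH) (Lpr_ct (K16.f413657 IH) (Lpe (K9.f73753 IH) (Lpe (f140046 IH) (Lpe (K0.f22847 IH) (Lpe (f140985 IH) (Lpr_ct (f140986 IH) (Lpe (f140987 IH) (Lpe (f140988 IH) (Lpn (LP (LK LD1_c6 LD2_c39 LD3_c27)))))))))))))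
theorem f413701 : Led Lsl_gt (LP (LK LD1_c6 LD2_c39 LD3_c10)) = (LP (LK LD1_c3 LD2_c17 LD3_c55)) :=
  Lre_g IH (LK LD1_c6 LD2_c39 LD3_c10) (LK LD1_c3 LD2_c17 LD3_c55) Lrfl Lrfl
theorem f413702 : Led Lsl_ct (LP (LK LD1_c3 LD2_c20 LD3_c32)) = (LP (LK LD1_c6 LD2_c39 LD3_c10)) :=
  Lre_c IH (LK LD1_c3 LD2_c20 LD3_c32) (LK LD1_c6 LD2_c39 LD3_c10) Lrfl Lrfl
theorem f413703 : Led Lsl_bt (LP (LK LD1_c3 LD2_c20 LD3_c32)) = (LP (LK LD1_c4 LD2_c49 LD3_c0)) :=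
  Lre_b IH (LK LD1_c3 LD2_c20 LD3_c32) (LK LD1_c4 LD2_c49 LD3_c0) Lrfl Lrfl
theorem f75892 : Led Lsl_gt (LP (LK LD1_c2 LD2_c22 LD3_c22)) = (LP (LK LD1_c4 LD2_c49 LD3_c0)) :=
  Lre_g IH (LK LD1_c2 LD2_c22 LD3_c22) (LK LD1_c4 LD2_c49 LD3_c0) Lrfl Lrfl
theorem f413589 : Led Lsl_bt (LP (LK LD1_c4 LD2_c49 LD3_c1)) = (LP (LK LD1_c2 LD2_c22 LD3_c22)) :=
  Lre_b IH (LK LD1_c4 LD2_c49 LD3_c1) (LK LD1_c2 LD2_c22 LD3_c22) Lrfl Lrfl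
theorem f413590 : Led Lsl_ct (LP (LK LD1_c4 LD2_c49 LD3_c1)) = (LP (LK LD1_c9 LD2_c30 LD3_c39)) :=
  Lre_c IH (LK LD1_c4 LD2_c49 LD3_c1) (LK LD1_c9 LD2_c30 LD3_c39) Lrfl Lrfl
theorem f413847 : Led Lsl_ct (LP (LK LD1_c4 LD2_c58 LD3_c14)) = (LP (LK LD1_c9 LD2_c47 LD3_c19)) :=
  Lre_c IH (LK LD1_c4 LD2_c58 LD3_c14) (LK LD1_c9 LD2_c47 LD3_c19) Lrfl Lrfl
theorem f413848 : Led Lsl_gf (LP (LK LD1_c9 LD2_c30 LD3_c39)) = (LP (LK LD1_c9 LD2_c47 LD3_c19)) :=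
  Lgr Lrot129 (Lpe (f413590 IH) (Lpr_bt (f413589 IH) (Lpr_gt (f75892 IH) (Lpe (f413703 IH) (Lpr_ct (f413702 IH) (Lpr_gt (f413701 IH) (Lpe (f140988 IH) (Lpe (f413685 IH) (Lpr_gt (f413844 IH) (Lpr_ct (f413847 IH) (Lpn (LP (LK LD1_c9 LD2_c47 LD3_c19)))))))))))))
theorem f413586 : Led Lsl_ct (LP (LK LD1_c4 LD2_c49 LD3_c0)) = (LP (LK LD1_c9 LD2_c26 LD3_c2)) :=
  Lre_c IH (LK LD1_c4 LD2_c49 LD3_c0) (LK LD1_c9 LD2_c26 LD3_c2) Lrfl Lrfl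
theorem f413585 : Led Lsl_gt (LP (LK LD1_c9 LD2_c26 LD3_c2)) = (LP (LK LD1_c4 LD2_c46 LD3_c47)) :=
  Lre_g IH (LK LD1_c9 LD2_c26 LD3_c2) (LK LD1_c4 LD2_c46 LD3_c47) Lrfl Lrfl
theorem f141039 : Led Lsl_ct (LP (LK LD1_c9 LD2_c26 LD3_c16)) = (LP (LK LD1_c4 LD2_c46 LD3_c47)) :=
  Lre_c IH (LK LD1_c9 LD2_c26 LD3_c16) (LK LD1_c4 LD2_c46 LD3_c47) Lrfl Lrfl
theorem f413572 : Led Lsl_bt (LP (LK LD1_c1 LD2_c36 LD3_c57)) = (LP (LK LD1_c3 LD2_c21 LD3_c23)) :=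
  Lre_b IH (LK LD1_c1 LD2_c36 LD3_c57) (LK LD1_c3 LD2_c21 LD3_c23) Lrfl Lrfl
theorem f413573 : Led Lsl_gt (LP (LK LD1_c3 LD2_c21 LD3_c23)) = (LP (LK LD1_c6 LD2_c46 LD3_c25)) :=
  Lre_g IH (LK LD1_c3 LD2_c21 LD3_c23) (LK LD1_c6 LD2_c46 LD3_c25) Lrfl Lrfl
theorem f139992 : Led Lsl_ct (LP (LK LD1_c1 LD2_c8 LD3_c21)) = (LP (LK LD1_c1 LD2_c37 LD3_c38)) :=
  Lgr Lrot59 (Lpr_cf (K9.f139984 IH) (Lpn (LP (LK LD1_c1 LD2_c37 LD3_c38))))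
theorem f141037 : Led Lsl_bt (LP (LK LD1_c1 LD2_c8 LD3_c20)) = (LP (LK LD1_c0 LD2_c31 LD3_c17)) :=
  Lre_b IH (LK LD1_c1 LD2_c8 LD3_c20) (LK LD1_c0 LD2_c31 LD3_c17) Lrfl Lrfl
theorem f141038 : Led Lsl_ct (LP (LK LD1_c1 LD2_c8 LD3_c20)) = (LP (LK LD1_c2 LD2_c21 LD3_c18)) :=
  Lre_c IH (LK LD1_c1 LD2_c8 LD3_c20) (LK LD1_c2 LD2_c21 LD3_c18) Lrfl Lrfl
theorem f139228 : Led Lsl_gt (LP (LK LD1_c4 LD2_c46 LD3_c47)) = (LP (LK LD1_c2 LD2_c21 LD3_c18)) :=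
  Lre_g IH (LK LD1_c4 LD2_c46 LD3_c47) (LK LD1_c2 LD2_c21 LD3_c18) Lrfl Lrfl
theorem f413575 : Led Lsl_bf (LP (LK LD1_c6 LD2_c46 LD3_c25)) = (LP (LK LD1_c9 LD2_c26 LD3_c16)) :=
  Lgr Lrot34 (Lpe (f413573 IH) (Lpe (f413572 IH) (Lpr_ct (K16.f413544 IH) (Lpe (K9.f76926 IH) (Lpe (f139992 IH) (Lpe (K0.f23211 IH) (Lpe (f141037 IH) (Lpr_ct (f141038 IH) (Lpe (f139228 IH) (Lpe (f141039 IH) (Lpn (LP (LK LD1_c9 LD2_c26 LD3_c16)))))))))))))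
theorem f413858 : Led Lsl_bt (LP (LK LD1_c4 LD2_c58 LD3_c14)) = (LP (LK LD1_c3 LD2_c24 LD3_c3)) :=
  Lre_b IH (LK LD1_c4 LD2_c58 LD3_c14) (LK LD1_c3 LD2_c24 LD3_c3) Lrfl Lrfl
theorem f413859 : Led Lsl_gt (LP (LK LD1_c6 LD2_c46 LD3_c25)) = (LP (LK LD1_c3 LD2_c24 LD3_c3)) :=
  Lgr Lrot164 (Lpr_bf (f413575 IH) (Lpr_ct (f141039 IH) (Lpe (f413585 IH) (Lpe (f413586 IH) (Lpe (f75892 IH) (Lpe (f413589 IH) (Lpr_ct (f413590 IH) (Lpr_gf (f413848 IH) (Lpe (f413847 IH) (Lpr_bt (f413858 IH) (Lpn (LP (LK LD1_c3 LD2_c24 LD3_c3)))))))))))))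
theorem f413863 : Led Lsl_at (LP (LK LD1_c1 LD2_c38 LD3_c20)) = (LP (LK LD1_c3 LD2_c24 LD3_c3)) :=
  Lre_a IH (LK LD1_c1 LD2_c38 LD3_c20) (LK LD1_c3 LD2_c24 LD3_c3) Lrfl Lrfl
theorem f413864 : Led Lsl_ft (LP (LK LD1_c3 LD2_c21 LD3_c23)) = (LP (LK LD1_c1 LD2_c38 LD3_c20)) :=
  Lgr Lrot2 (Lpr_gt (f413573 IH) (Lpr_gt (f413859 IH) (Lpe (f413863 IH) (Lpn (LP (LK LD1_c1 LD2_c38 LD3_c20))))))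
theorem f413880 : Led Lsl_ff (LP (LK LD1_c3 LD2_c21 LD3_c23)) = (LP (LK LD1_c1 LD2_c38 LD3_c20)) :=
  Lgr Lrot3 (Lpr_ft (f413864 IH) (Lpn (LP (LK LD1_c1 LD2_c38 LD3_c20))))
theorem f413551 : Led Lsl_bt (LP (LK LD1_c3 LD2_c21 LD3_c23)) = (LP (LK LD1_c1 LD2_c36 LD3_c57)) :=
  Lre_b IH (LK LD1_c3 LD2_c21 LD3_c23) (LK LD1_c1 LD2_c36 LD3_c57) Lrfl Lrfl
theorem f140983 : Led Lsl_bt (LP (LK LD1_c0 LD2_c45 LD3_c34)) = (LP (LK LD1_c1 LD2_c38 LD3_c20)) :=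
  Lre_b IH (LK LD1_c0 LD2_c45 LD3_c34) (LK LD1_c1 LD2_c38 LD3_c20) Lrfl Lrfl
theorem f413887 : Led Lsl_ft (LP (LK LD1_c1 LD2_c36 LD3_c57)) = (LP (LK LD1_c0 LD2_c45 LD3_c34)) :=
  Lgr Lrot75 (Lpe (f413551 IH) (Lpr_ff (f413880 IH) (Lpe (f140983 IH) (Lpn (LP (LK LD1_c0 LD2_c45 LD3_c34))))))
theorem f73768 : Led Lsl_at (LP (LK LD1_c0 LD2_c45 LD3_c34)) = (LP (LK LD1_c1 LD2_c11 LD3_c5)) :=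
  Lre_a IH (LK LD1_c0 LD2_c45 LD3_c34) (LK LD1_c1 LD2_c11 LD3_c5) Lrfl Lrfl
theorem f413676 : Led Lsl_ff (LP (LK LD1_c2 LD2_c22 LD3_c38)) = (LP (LK LD1_c1 LD2_c11 LD3_c5)) :=
  Lgr Lrot23 (Lpr_ct (K16.f413657 IH) (Lpr_ft (K2.f73737 IH) (Lpr_ct (K2.f73760 IH) (Lpn (LP (LK LD1_c1 LD2_c11 LD3_c5))))))
theorem f414052 : Led Lsl_af (LP (LK LD1_c1 LD2_c36 LD3_c57)) = (LP (LK LD1_c2 LD2_c22 LD3_c38)) :=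
  Lgr Lrot45 (Lpr_ft (f413887 IH) (Lpr_at (f73768 IH) (Lpe (f413676 IH) (Lpn (LP (LK LD1_c2 LD2_c22 LD3_c38))))))
theorem f414081 : Led Lsl_gf (LP (LK LD1_c0 LD2_c44 LD3_c53)) = (LP (LK LD1_c1 LD2_c11 LD3_c5)) :=
  Lgr Lrot47 (Lpr_gt (K16.f413543 IH) (Lpr_af (f414052 IH) (Lpr_ff (f413676 IH) (Lpn (LP (LK LD1_c1 LD2_c11 LD3_c5))))))
theorem f413567 : Led Lsl_dt (LP (LK LD1_c0 LD2_c44 LD3_c53)) = (LP (LK LD1_c1 LD2_c36 LD3_c59)) :=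
  Lre_d IH (LK LD1_c0 LD2_c44 LD3_c53) (LK LD1_c1 LD2_c36 LD3_c59) Lrfl Lrfl
theorem f414083 : Led Lsl_ct (LP (LK LD1_c1 LD2_c36 LD3_c59)) = (LP (LK LD1_c3 LD2_c21 LD3_c29)) :=
  Lre_c IH (LK LD1_c1 LD2_c36 LD3_c59) (LK LD1_c3 LD2_c21 LD3_c29) Lrfl Lrfl
theorem f73771 : Led Lsl_dt (LP (LK LD1_c2 LD2_c27 LD3_c55)) = (LP (LK LD1_c1 LD2_c11 LD3_c5)) :=
  Lre_d IH (LK LD1_c2 LD2_c27 LD3_c55) (LK LD1_c1 LD2_c11 LD3_c5) Lrfl Lrfl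
theorem f139932 : Led Lsl_ct (LP (LK LD1_c0 LD2_c19 LD3_c56)) = (LP (LK LD1_c0 LD2_c44 LD3_c57)) :=
  Lre_c IH (LK LD1_c0 LD2_c19 LD3_c56) (LK LD1_c0 LD2_c44 LD3_c57) Lrfl Lrfl
theorem f73770 : Led Lsl_ct (LP (LK LD1_c1 LD2_c11 LD3_c5)) = (LP (LK LD1_c0 LD2_c45 LD3_c12)) :=
  Lre_c IH (LK LD1_c1 LD2_c11 LD3_c5) (LK LD1_c0 LD2_c45 LD3_c12) Lrfl Lrfl
theorem f139933 : Led Lsl_gt (LP (LK LD1_c0 LD2_c44 LD3_c57)) = (LP (LK LD1_c1 LD2_c11 LD3_c5)) :=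
  Lgr Lrot150 (Lpe (f139932 IH) (Lpe (K16.f139931 IH) (Lpe (K9.f25594 IH) (Lpr_gt (K9.f23226 IH) (Lpr_ct (K9.f59839 IH) (Lpr_gt (K9.f139920 IH) (Lpe (K2.f61278 IH) (Lpr_df (K9.f73763 IH) (Lpe (f73770 IH) (Lpn (LP (LK LD1_c1 LD2_c11 LD3_c5))))))))))))
theorem f414054 : Led Lsl_gt (LP (LK LD1_c1 LD2_c36 LD3_c57)) = (LP (LK LD1_c0 LD2_c44 LD3_c57)) :=
  Lgr Lrot5 (Lpr_ft (f413887 IH) (Lpr_at (f73768 IH) (Lpe (f139933 IH) (Lpn (LP (LK LD1_c0 LD2_c44 LD3_c57))))))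
theorem f27136 : Led Lsl_gt (LP (LK LD1_c0 LD2_c19 LD3_c56)) = (LP (LK LD1_c0 LD2_c8 LD3_c56)) :=
  Lre_g IH (LK LD1_c0 LD2_c19 LD3_c56) (LK LD1_c0 LD2_c8 LD3_c56) Lrfl Lrfl
theorem f22956 : Led Lsl_ct (LP (LK LD1_c0 LD2_c8 LD3_c56)) = (LP (LK LD1_c0 LD2_c19 LD3_c54)) :=
  Lre_c IH (LK LD1_c0 LD2_c8 LD3_c56) (LK LD1_c0 LD2_c19 LD3_c54) Lrfl Lrfl
theorem f22955 : Led Lsl_dt (LP (LK LD1_c0 LD2_c44 LD3_c50)) = (LP (LK LD1_c0 LD2_c19 LD3_c54)) :=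
  Lre_d IH (LK LD1_c0 LD2_c44 LD3_c50) (LK LD1_c0 LD2_c19 LD3_c54) Lrfl Lrfl
theorem f413442 : Led Lsl_ct (LP (LK LD1_c1 LD2_c36 LD3_c50)) = (LP (LK LD1_c0 LD2_c44 LD3_c50)) :=
  Lre_c IH (LK LD1_c1 LD2_c36 LD3_c50) (LK LD1_c0 LD2_c44 LD3_c50) Lrfl Lrfl
theorem f75908 : Led Lsl_gt (LP (LK LD1_c3 LD2_c21 LD3_c8)) = (LP (LK LD1_c1 LD2_c36 LD3_c50)) :=
  Lre_g IH (LK LD1_c3 LD2_c21 LD3_c8) (LK LD1_c1 LD2_c36 LD3_c50) Lrfl Lrfl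
theorem f414058 : Led Lsl_ct (LP (LK LD1_c5 LD2_c0 LD3_c22)) = (LP (LK LD1_c3 LD2_c21 LD3_c8)) :=
  Lgr Lrot152 (Lpe (K16.f413614 IH) (Lpe (K16.f413608 IH) (Lpr_gt (f414054 IH) (Lpr_ct (f141108 IH) (Lpr_gt (f27136 IH) (Lpr_ct (f22956 IH) (Lpe (f22955 IH) (Lpe (f413442 IH) (Lpe (f75908 IH) (Lpn (LP (LK LD1_c3 LD2_c21 LD3_c8))))))))))))
theorem f414065 : Led Lsl_cf (LP (LK LD1_c5 LD2_c0 LD3_c22)) = (LP (LK LD1_c3 LD2_c21 LD3_c8)) :=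
  Lgr Lrot11 (Lpr_ct (f414058 IH) (Lpn (LP (LK LD1_c3 LD2_c21 LD3_c8))))
theorem f9205 : Led Lsl_gt (LP (LK LD1_c3 LD2_c21 LD3_c10)) = (LP (LK LD1_c6 LD2_c12 LD3_c15)) :=
  Lre_g IH (LK LD1_c3 LD2_c21 LD3_c10) (LK LD1_c6 LD2_c12 LD3_c15) Lrfl Lrfl
theorem f414084 : Led Lsl_df (LP (LK LD1_c3 LD2_c21 LD3_c29)) = (LP (LK LD1_c6 LD2_c12 LD3_c15)) :=
  Lgr Lrot84 (Lpe (f414083 IH) (Lpe (f413567 IH) (Lpr_gf (f414081 IH) (Lpe (f73771 IH) (Lpe (K16.f20431 IH) (Lpr_cf (f414065 IH) (Lpr_gt (f75908 IH) (Lpr_dt (K10.f9180 IH) (Lpr_gt (f9205 IH) (Lpn (LP (LK LD1_c6 LD2_c12 LD3_c15))))))))))))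
theorem f413453 : Led Lsl_ct (LP (LK LD1_c3 LD2_c21 LD3_c29)) = (LP (LK LD1_c1 LD2_c36 LD3_c59)) :=
  Lre_c IH (LK LD1_c3 LD2_c21 LD3_c29) (LK LD1_c1 LD2_c36 LD3_c59) Lrfl Lrfl
theorem f413452 : Led Lsl_dt (LP (LK LD1_c1 LD2_c36 LD3_c59)) = (LP (LK LD1_c0 LD2_c44 LD3_c53)) :=
  Lre_d IH (LK LD1_c1 LD2_c36 LD3_c59) (LK LD1_c0 LD2_c44 LD3_c53) Lrfl Lrfl
theorem f139945 : Led Lsl_dt (LP (LK LD1_c1 LD2_c37 LD3_c1)) = (LP (LK LD1_c3 LD2_c21 LD3_c37)) :=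
  Lre_d IH (LK LD1_c1 LD2_c37 LD3_c1) (LK LD1_c3 LD2_c21 LD3_c37) Lrfl Lrfl
theorem f416469 : Led Lsl_df (LP (LK LD1_c3 LD2_c21 LD3_c52)) = (LP (LK LD1_c6 LD2_c12 LD3_c14)) :=
  Lgr Lrot43 (Lpr_ct (f414056 IH) (Lpr_dt (f139998 IH) (Lpr_ct (f141108 IH) (Lpr_dt (K16.f140981 IH) (Lpr_ct (K16.f413535 IH) (Lpr_dt (K16.f413550 IH) (Lpr_ct (f416463 IH) (Lpe (f414084 IH) (Lpr_ct (f413453 IH) (Lpr_dt (f413452 IH) (Lpr_ct (K16.f413451 IH) (Lpr_dt (K16.f139925 IH) (Lpr_ct (K16.f139926 IH) (Lpr_dt (f139945 IH) (Lpe (K16.f413445 IH) (Lpn (LP (LK LD1_c6 LD2_c12 LD3_c14))))))))))))))))))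
theorem f414057 : Led Lsl_ct (LP (LK LD1_c1 LD2_c37 LD3_c10)) = (LP (LK LD1_c3 LD2_c21 LD3_c52)) :=
  Lre_c IH (LK LD1_c1 LD2_c37 LD3_c10) (LK LD1_c3 LD2_c21 LD3_c52) Lrfl Lrfl
theorem f413568 : Led Lsl_gt (LP (LK LD1_c1 LD2_c36 LD3_c59)) = (LP (LK LD1_c3 LD2_c21 LD3_c27)) :=
  Lre_g IH (LK LD1_c1 LD2_c36 LD3_c59) (LK LD1_c3 LD2_c21 LD3_c27) Lrfl Lrfl
theorem f20289 : Led Lsl_et (LP (LK LD1_c0 LD2_c32 LD3_c57)) = (LP (LK LD1_c1 LD2_c11 LD3_c5)) :=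
  Lre_e IH (LK LD1_c0 LD2_c32 LD3_c57) (LK LD1_c1 LD2_c11 LD3_c5) Lrfl Lrfl
theorem f20291 : Led Lsl_gt (LP (LK LD1_c1 LD2_c22 LD3_c6)) = (LP (LK LD1_c0 LD2_c37 LD3_c60)) :=
  Lre_g IH (LK LD1_c1 LD2_c22 LD3_c6) (LK LD1_c0 LD2_c37 LD3_c60) Lrfl Lrfl
theorem f20292 : Led Lsl_et (LP (LK LD1_c2 LD2_c52 LD3_c15)) = (LP (LK LD1_c1 LD2_c22 LD3_c6)) :=
  Lre_e IH (LK LD1_c2 LD2_c52 LD3_c15) (LK LD1_c1 LD2_c22 LD3_c6) Lrfl Lrfl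
theorem f414095 : Led Lsl_df (LP (LK LD1_c3 LD2_c21 LD3_c27)) = (LP (LK LD1_c2 LD2_c52 LD3_c15)) :=
  Lgr Lrot132 (Lpe (f413568 IH) (Lpe (f413567 IH) (Lpr_gf (f414081 IH) (Lpe (f20289 IH) (Lpr_dt (K0.f13477 IH) (Lpr_gf (K0.f20271 IH) (Lpe (K1.f8311 IH) (Lpr_et (K7.f20290 IH) (Lpe (f20291 IH) (Lpe (f20292 IH) (Lpn (LP (LK LD1_c2 LD2_c52 LD3_c15)))))))))))))
theorem f414112 : Led Lsl_et (LP (LK LD1_c3 LD2_c21 LD3_c27)) = (LP (LK LD1_c6 LD2_c46 LD3_c37)) :=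
  Lre_e IH (LK LD1_c3 LD2_c21 LD3_c27) (LK LD1_c6 LD2_c46 LD3_c37) Lrfl Lrfl
theorem f414113 : Led Lsl_et (LP (LK LD1_c1 LD2_c22 LD3_c6)) = (LP (LK LD1_c2 LD2_c52 LD3_c15)) :=
  Lre_e IH (LK LD1_c1 LD2_c22 LD3_c6) (LK LD1_c2 LD2_c52 LD3_c15) Lrfl Lrfl
theorem f22243 : Led Lsl_dt (LP (LK LD1_c2 LD2_c52 LD3_c14)) = (LP (LK LD1_c1 LD2_c22 LD3_c6)) :=
  Lre_d IH (LK LD1_c2 LD2_c52 LD3_c14) (LK LD1_c1 LD2_c22 LD3_c6) Lrfl Lrfl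
theorem f414114 : Led Lsl_et (LP (LK LD1_c5 LD2_c51 LD3_c61)) = (LP (LK LD1_c2 LD2_c52 LD3_c14)) :=
  Lre_e IH (LK LD1_c5 LD2_c51 LD3_c61) (LK LD1_c2 LD2_c52 LD3_c14) Lrfl Lrfl
theorem f414115 : Led Lsl_dt (LP (LK LD1_c6 LD2_c46 LD3_c37)) = (LP (LK LD1_c5 LD2_c51 LD3_c61)) :=
  Lgr Lrot77 (Lpe (f414112 IH) (Lpr_df (f414095 IH) (Lpe (f414113 IH) (Lpe (f22243 IH) (Lpe (f414114 IH) (Lpn (LP (LK LD1_c5 LD2_c51 LD3_c61))))))))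
theorem f414126 : Led Lsl_et (LP (LK LD1_c6 LD2_c46 LD3_c37)) = (LP (LK LD1_c3 LD2_c21 LD3_c27)) :=
  Lre_e IH (LK LD1_c6 LD2_c46 LD3_c37) (LK LD1_c3 LD2_c21 LD3_c27) Lrfl Lrfl
theorem f164164 : Led Lsl_et (LP (LK LD1_c2 LD2_c30 LD3_c9)) = (LP (LK LD1_c5 LD2_c5 LD3_c51)) :=
  Lre_e IH (LK LD1_c2 LD2_c30 LD3_c9) (LK LD1_c5 LD2_c5 LD3_c51) Lrfl Lrfl
theorem f22382 : Led Lsl_et (LP (LK LD1_c2 LD2_c52 LD3_c14)) = (LP (LK LD1_c5 LD2_c51 LD3_c61)) :=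
  Lre_e IH (LK LD1_c2 LD2_c52 LD3_c14) (LK LD1_c5 LD2_c51 LD3_c61) Lrfl Lrfl
theorem f177188 : Led Lsl_gt (LP (LK LD1_c5 LD2_c5 LD3_c51)) = (LP (LK LD1_c5 LD2_c51 LD3_c61)) :=
  Lgr Lrot131 (Lpe (f164164 IH) (Lpr_dt (K9.f164161 IH) (Lpr_gf (K9.f177179 IH) (Lpe (K9.f53202 IH) (Lpe (K9.f22231 IH) (Lpe (K7.f22227 IH) (Lpe (K10.f22216 IH) (Lpe (f20291 IH) (Lpe (f22243 IH) (Lpr_et (f22382 IH) (Lpn (LP (LK LD1_c5 LD2_c51 LD3_c61)))))))))))))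
theorem f176531 : Led Lsl_et (LP (LK LD1_c2 LD2_c27 LD3_c56)) = (LP (LK LD1_c5 LD2_c0 LD3_c24)) :=
  Lre_e IH (LK LD1_c2 LD2_c27 LD3_c56) (LK LD1_c5 LD2_c0 LD3_c24) Lrfl Lrfl
theorem f177169 : Led Lsl_et (LP (LK LD1_c1 LD2_c12 LD3_c5)) = (LP (LK LD1_c2 LD2_c16 LD3_c44)) :=
  Lgr Lrot158 (Lpe (K9.f163706 IH) (Lpr_ef (K9.f177165 IH) (Lpe (K10.f26692 IH) (Lpn (LP (LK LD1_c2 LD2_c16 LD3_c44))))))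
theorem f177194 : Led Lsl_et (LP (LK LD1_c5 LD2_c5 LD3_c51)) = (LP (LK LD1_c2 LD2_c30 LD3_c9)) :=
  Lre_e IH (LK LD1_c5 LD2_c5 LD3_c51) (LK LD1_c2 LD2_c30 LD3_c9) Lrfl Lrfl
theorem f177685 : Led Lsl_dt (LP (LK LD1_c5 LD2_c0 LD3_c24)) = (LP (LK LD1_c5 LD2_c5 LD3_c51)) :=
  Lgr Lrot77 (Lpe (f176531 IH) (Lpr_df (K10.f177651 IH) (Lpe (f177169 IH) (Lpe (K9.f164161 IH) (Lpe (f177194 IH) (Lpn (LP (LK LD1_c5 LD2_c5 LD3_c51))))))))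
theorem f101575 : Led Lsl_et (LP (LK LD1_c5 LD2_c0 LD3_c24)) = (LP (LK LD1_c2 LD2_c27 LD3_c56)) :=
  Lre_e IH (LK LD1_c5 LD2_c0 LD3_c24) (LK LD1_c2 LD2_c27 LD3_c56) Lrfl Lrfl
theorem f101468 : Led Lsl_et (LP (LK LD1_c2 LD2_c27 LD3_c55)) = (LP (LK LD1_c1 LD2_c11 LD3_c6)) :=
  Lre_e IH (LK LD1_c2 LD2_c27 LD3_c55) (LK LD1_c1 LD2_c11 LD3_c6) Lrfl Lrfl
theorem f414127 : Led Lsl_gt (LP (LK LD1_c3 LD2_c21 LD3_c27)) = (LP (LK LD1_c1 LD2_c37 LD3_c10)) :=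
  Lgr Lrot137 (Lpe (f414126 IH) (Lpr_dt (f414115 IH) (Lpe (f177188 IH) (Lpe (f177685 IH) (Lpr_et (f101575 IH) (Lpe (K10.f20295 IH) (Lpe (f101468 IH) (Lpr_dt (f73771 IH) (Lpe (f139933 IH) (Lpe (f139998 IH) (Lpn (LP (LK LD1_c1 LD2_c37 LD3_c10)))))))))))))
theorem f413594 : Led Lsl_ct (LP (LK LD1_c6 LD2_c46 LD3_c36)) = (LP (LK LD1_c3 LD2_c21 LD3_c27)) :=
  Lre_c IH (LK LD1_c6 LD2_c46 LD3_c36) (LK LD1_c3 LD2_c21 LD3_c27) Lrfl Lrfl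
theorem f61429 : Led Lsl_ct (LP (LK LD1_c5 LD2_c47 LD3_c12)) = (LP (LK LD1_c2 LD2_c49 LD3_c29)) :=
  Lre_c IH (LK LD1_c5 LD2_c47 LD3_c12) (LK LD1_c2 LD2_c49 LD3_c29) Lrfl Lrfl
theorem f61026 : Led Lsl_et (LP (LK LD1_c1 LD2_c32 LD3_c49)) = (LP (LK LD1_c3 LD2_c12 LD3_c45)) :=
  Lre_e IH (LK LD1_c1 LD2_c32 LD3_c49) (LK LD1_c3 LD2_c12 LD3_c45) Lrfl Lrfl
theorem f61039 : Led Lsl_ct (LP (LK LD1_c2 LD2_c17 LD3_c31)) = (LP (LK LD1_c1 LD2_c32 LD3_c49)) :=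
  Lgr Lrot15 (Lpe (K8.f27030 IH) (Lpr_cf (K8.f61032 IH) (Lpe (f61026 IH) (Lpn (LP (LK LD1_c1 LD2_c32 LD3_c49))))))
theorem f22917 : Led Lsl_gt (LP (LK LD1_c1 LD2_c27 LD3_c18)) = (LP (LK LD1_c2 LD2_c17 LD3_c31)) :=
  Lre_g IH (LK LD1_c1 LD2_c27 LD3_c18) (LK LD1_c2 LD2_c17 LD3_c31) Lrfl Lrfl
theorem f22868 : Led Lsl_ct (LP (LK LD1_c3 LD2_c20 LD3_c51)) = (LP (LK LD1_c6 LD2_c45 LD3_c38)) :=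
  Lre_c IH (LK LD1_c3 LD2_c20 LD3_c51) (LK LD1_c6 LD2_c45 LD3_c38) Lrfl Lrfl
theorem f61428 : Led Lsl_dt (LP (LK LD1_c2 LD2_c49 LD3_c29)) = (LP (LK LD1_c1 LD2_c20 LD3_c53)) :=
  Lre_d IH (LK LD1_c2 LD2_c49 LD3_c29) (LK LD1_c1 LD2_c20 LD3_c53) Lrfl Lrfl
theorem f61601 : Led Lsl_gt (LP (LK LD1_c6 LD2_c45 LD3_c38)) = (LP (LK LD1_c5 LD2_c47 LD3_c12)) :=
  Lgr Lrot150 (Lpe (f22868 IH) (Lpe (K0.f22856 IH) (Lpe (K0.f22913 IH) (Lpr_gt (f22917 IH) (Lpr_ct (f61039 IH) (Lpr_gt (K8.f61017 IH) (Lpr_ct (K2.f61426 IH) (Lpe (f61428 IH) (Lpe (f61429 IH) (Lpn (LP (LK LD1_c5 LD2_c47 LD3_c12))))))))))))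
theorem f61043 : Led Lsl_cf (LP (LK LD1_c2 LD2_c17 LD3_c31)) = (LP (LK LD1_c1 LD2_c32 LD3_c49)) :=
  Lgr Lrot11 (Lpr_ct (f61039 IH) (Lpn (LP (LK LD1_c1 LD2_c32 LD3_c49))))
theorem f22864 : Led Lsl_ct (LP (LK LD1_c1 LD2_c5 LD3_c41)) = (LP (LK LD1_c0 LD2_c30 LD3_c2)) :=
  Lre_c IH (LK LD1_c1 LD2_c5 LD3_c41) (LK LD1_c0 LD2_c30 LD3_c2) Lrfl Lrfl
theorem f27105 : Led Lsl_ct (LP (LK LD1_c0 LD2_c31 LD3_c17)) = (LP (LK LD1_c0 LD2_c13 LD3_c54)) :=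
  Lre_c IH (LK LD1_c0 LD2_c31 LD3_c17) (LK LD1_c0 LD2_c13 LD3_c54) Lrfl Lrfl
theorem f61053 : Led Lsl_gt (LP (LK LD1_c1 LD2_c8 LD3_c22)) = (LP (LK LD1_c0 LD2_c31 LD3_c17)) :=
  Lre_g IH (LK LD1_c1 LD2_c8 LD3_c22) (LK LD1_c0 LD2_c31 LD3_c17) Lrfl Lrfl
theorem f76927 : Led Lsl_ct (LP (LK LD1_c1 LD2_c37 LD3_c39)) = (LP (LK LD1_c1 LD2_c8 LD3_c22)) :=
  Lgr Lrot186 (Lpe (K9.f73782 IH) (Lpr_dt (K2.f76918 IH) (Lpr_gt (K9.f67028 IH) (Lpe (f61043 IH) (Lpr_gt (K8.f27029 IH) (Lpr_ct (f22864 IH) (Lpr_dt (K0.f23177 IH) (Lpe (f27105 IH) (Lpe (f61053 IH) (Lpn (LP (LK LD1_c1 LD2_c8 LD3_c22))))))))))))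
theorem f76934 : Led Lsl_cf (LP (LK LD1_c1 LD2_c37 LD3_c39)) = (LP (LK LD1_c1 LD2_c8 LD3_c22)) :=
  Lgr Lrot11 (Lpr_ct (f76927 IH) (Lpn (LP (LK LD1_c1 LD2_c8 LD3_c22))))
theorem f76942 : Led Lsl_gt (LP (LK LD1_c0 LD2_c44 LD3_c51)) = (LP (LK LD1_c1 LD2_c8 LD3_c22)) :=
  Lre_g IH (LK LD1_c0 LD2_c44 LD3_c51) (LK LD1_c1 LD2_c8 LD3_c22) Lrfl Lrfl
theorem f68691 : Led Lsl_dt (LP (LK LD1_c1 LD2_c36 LD3_c51)) = (LP (LK LD1_c0 LD2_c44 LD3_c51)) :=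
  Lre_d IH (LK LD1_c1 LD2_c36 LD3_c51) (LK LD1_c0 LD2_c44 LD3_c51) Lrfl Lrfl
theorem f27100 : Led Lsl_ct (LP (LK LD1_c2 LD2_c22 LD3_c33)) = (LP (LK LD1_c4 LD2_c49 LD3_c34)) :=
  Lre_c IH (LK LD1_c2 LD2_c22 LD3_c33) (LK LD1_c4 LD2_c49 LD3_c34) Lrfl Lrfl
theorem f76972 : Led Lsl_gf (LP (LK LD1_c5 LD2_c0 LD3_c23)) = (LP (LK LD1_c4 LD2_c49 LD3_c34)) :=
  Lgr Lrot104 (Lpr_ct (K16.f73932 IH) (Lpe (K2.f20430 IH) (Lpe (K2.f73760 IH) (Lpe (K9.f73775 IH) (Lpr_cf (f76934 IH) (Lpe (f76942 IH) (Lpe (f68691 IH) (Lpr_gt (K0.f27111 IH) (Lpr_ct (f27100 IH) (Lpn (LP (LK LD1_c4 LD2_c49 LD3_c34))))))))))))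
theorem f73152 : Led Lsl_af (LP (LK LD1_c3 LD2_c4 LD3_c51)) = (LP (LK LD1_c2 LD2_c49 LD3_c31)) :=
  Lgr Lrot0 (Lpr_at (f73141 IH) (Lpn (LP (LK LD1_c2 LD2_c49 LD3_c31))))
theorem f73170 : Led Lsl_et (LP (LK LD1_c5 LD2_c47 LD3_c12)) = (LP (LK LD1_c2 LD2_c49 LD3_c31)) :=
  Lre_e IH (LK LD1_c5 LD2_c47 LD3_c12) (LK LD1_c2 LD2_c49 LD3_c31) Lrfl Lrfl
theorem f73907 : Led Lsl_af (LP (LK LD1_c5 LD2_c47 LD3_c12)) = (LP (LK LD1_c5 LD2_c51 LD3_c49)) :=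
  Lgr Lrot50 (Lpr_et (f73170 IH) (Lpe (f73152 IH) (Lpr_et (f73903 IH) (Lpn (LP (LK LD1_c5 LD2_c51 LD3_c49))))))
theorem f73930 : Led Lsl_gt (LP (LK LD1_c9 LD2_c51 LD3_c7)) = (LP (LK LD1_c6 LD2_c45 LD3_c38)) :=
  Lgr Lrot5 (Lpr_ft (f73924 IH) (Lpe (f73907 IH) (Lpe (f61601 IH) (Lpn (LP (LK LD1_c6 LD2_c45 LD3_c38))))))
theorem f27104 : Led Lsl_dt (LP (LK LD1_c1 LD2_c8 LD3_c23)) = (LP (LK LD1_c0 LD2_c31 LD3_c17)) :=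
  Lre_d IH (LK LD1_c1 LD2_c8 LD3_c23) (LK LD1_c0 LD2_c31 LD3_c17) Lrfl Lrfl
theorem f77023 : Led Lsl_dt (LP (LK LD1_c1 LD2_c8 LD3_c21)) = (LP (LK LD1_c2 LD2_c22 LD3_c27)) :=
  Lre_d IH (LK LD1_c1 LD2_c8 LD3_c21) (LK LD1_c2 LD2_c22 LD3_c27) Lrfl Lrfl
theorem f77024 : Led Lsl_ct (LP (LK LD1_c4 LD2_c49 LD3_c19)) = (LP (LK LD1_c2 LD2_c22 LD3_c27)) :=
  Lre_c IH (LK LD1_c4 LD2_c49 LD3_c19) (LK LD1_c2 LD2_c22 LD3_c27) Lrfl Lrfl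
theorem f77025 : Led Lsl_dt (LP (LK LD1_c6 LD2_c45 LD3_c38)) = (LP (LK LD1_c4 LD2_c49 LD3_c19)) :=
  Lgr Lrot105 (Lpe (f73930 IH) (Lpe (K2.f73762 IH) (Lpr_gf (f76972 IH) (Lpe (f27100 IH) (Lpr_gt (K0.f27059 IH) (Lpr_dt (f27104 IH) (Lpr_gt (K0.f23211 IH) (Lpr_dt (f77023 IH) (Lpe (f77024 IH) (Lpn (LP (LK LD1_c4 LD2_c49 LD3_c19))))))))))))
theorem f77033 : Led Lsl_df (LP (LK LD1_c6 LD2_c45 LD3_c38)) = (LP (LK LD1_c4 LD2_c49 LD3_c19)) :=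
  Lgr Lrot38 (Lpr_dt (f77025 IH) (Lpn (LP (LK LD1_c4 LD2_c49 LD3_c19))))
theorem f416513 : Led Lsl_gf (LP (LK LD1_c6 LD2_c46 LD3_c36)) = (LP (LK LD1_c4 LD2_c49 LD3_c19)) :=
  Lgr Lrot147 (Lpr_ct (f413594 IH) (Lpr_gt (f414127 IH) (Lpr_ct (f414057 IH) (Lpr_df (f416469 IH) (Lpr_cf (K16.f413445 IH) (Lpr_gf (K16.f139928 IH) (Lpe (f61429 IH) (Lpe (f61601 IH) (Lpr_df (f77033 IH) (Lpn (LP (LK LD1_c4 LD2_c49 LD3_c19))))))))))))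
theorem f414087 : Led Lsl_bt (LP (LK LD1_c1 LD2_c8 LD3_c24)) = (LP (LK LD1_c2 LD2_c22 LD3_c25)) :=
  Lre_b IH (LK LD1_c1 LD2_c8 LD3_c24) (LK LD1_c2 LD2_c22 LD3_c25) Lrfl Lrfl
theorem f414088 : Led Lsl_gt (LP (LK LD1_c2 LD2_c22 LD3_c25)) = (LP (LK LD1_c4 LD2_c48 LD3_c60)) :=
  Lre_g IH (LK LD1_c2 LD2_c22 LD3_c25) (LK LD1_c4 LD2_c48 LD3_c60) Lrfl Lrfl
theorem f77003 : Led Lsl_bt (LP (LK LD1_c9 LD2_c30 LD3_c29)) = (LP (LK LD1_c4 LD2_c48 LD3_c60)) :=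
  Lre_b IH (LK LD1_c9 LD2_c30 LD3_c29) (LK LD1_c4 LD2_c48 LD3_c60) Lrfl Lrfl
theorem f141116 : Led Lsl_bt (LP (LK LD1_c2 LD2_c27 LD3_c47)) = (LP (LK LD1_c1 LD2_c11 LD3_c5)) :=
  Lre_b IH (LK LD1_c2 LD2_c27 LD3_c47) (LK LD1_c1 LD2_c11 LD3_c5) Lrfl Lrfl
theorem f141117 : Led Lsl_ct (LP (LK LD1_c2 LD2_c27 LD3_c47)) = (LP (LK LD1_c4 LD2_c59 LD3_c53)) :=
  Lre_c IH (LK LD1_c2 LD2_c27 LD3_c47) (LK LD1_c4 LD2_c59 LD3_c53) Lrfl Lrfl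
theorem f414089 : Led Lsl_gt (LP (LK LD1_c9 LD2_c50 LD3_c13)) = (LP (LK LD1_c4 LD2_c59 LD3_c53)) :=
  Lre_g IH (LK LD1_c9 LD2_c50 LD3_c13) (LK LD1_c4 LD2_c59 LD3_c53) Lrfl Lrfl
theorem f414090 : Led Lsl_ct (LP (LK LD1_c9 LD2_c30 LD3_c29)) = (LP (LK LD1_c9 LD2_c50 LD3_c13)) :=
  Lgr Lrot64 (Lpr_bt (f77003 IH) (Lpe (f414088 IH) (Lpe (f414087 IH) (Lpr_ct (K9.f98994 IH) (Lpe (K0.f23218 IH) (Lpe (K16.f413451 IH) (Lpr_gf (f414081 IH) (Lpe (f141116 IH) (Lpr_ct (f141117 IH) (Lpe (f414089 IH) (Lpn (LP (LK LD1_c9 LD2_c50 LD3_c13)))))))))))))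
theorem f77002 : Led Lsl_gt (LP (LK LD1_c4 LD2_c48 LD3_c60)) = (LP (LK LD1_c2 LD2_c22 LD3_c21)) :=
  Lre_g IH (LK LD1_c4 LD2_c48 LD3_c60) (LK LD1_c2 LD2_c22 LD3_c21) Lrfl Lrfl
theorem f77001 : Led Lsl_bt (LP (LK LD1_c1 LD2_c36 LD3_c37)) = (LP (LK LD1_c2 LD2_c22 LD3_c21)) :=
  Lre_b IH (LK LD1_c1 LD2_c36 LD3_c37) (LK LD1_c2 LD2_c22 LD3_c21) Lrfl Lrfl
theorem f77000 : Led Lsl_ct (LP (LK LD1_c1 LD2_c36 LD3_c37)) = (LP (LK LD1_c3 LD2_c17 LD3_c49)) :=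
  Lre_c IH (LK LD1_c1 LD2_c36 LD3_c37) (LK LD1_c3 LD2_c17 LD3_c49) Lrfl Lrfl
theorem f76999 : Led Lsl_gt (LP (LK LD1_c3 LD2_c17 LD3_c49)) = (LP (LK LD1_c6 LD2_c39 LD3_c7)) :=
  Lre_g IH (LK LD1_c3 LD2_c17 LD3_c49) (LK LD1_c6 LD2_c39 LD3_c7) Lrfl Lrfl
theorem f73772 : Led Lsl_bt (LP (LK LD1_c1 LD2_c11 LD3_c5)) = (LP (LK LD1_c2 LD2_c27 LD3_c47)) :=
  Lre_b IH (LK LD1_c1 LD2_c11 LD3_c5) (LK LD1_c2 LD2_c27 LD3_c47) Lrfl Lrfl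
theorem f73773 : Led Lsl_gt (LP (LK LD1_c2 LD2_c27 LD3_c47)) = (LP (LK LD1_c5 LD2_c0 LD3_c0)) :=
  Lre_g IH (LK LD1_c2 LD2_c27 LD3_c47) (LK LD1_c5 LD2_c0 LD3_c0) Lrfl Lrfl
theorem f76975 : Led Lsl_bt (LP (LK LD1_c9 LD2_c50 LD3_c32)) = (LP (LK LD1_c5 LD2_c0 LD3_c0)) :=
  Lre_b IH (LK LD1_c9 LD2_c50 LD3_c32) (LK LD1_c5 LD2_c0 LD3_c0) Lrfl Lrfl
theorem f76976 : Led Lsl_bt (LP (LK LD1_c1 LD2_c36 LD3_c41)) = (LP (LK LD1_c0 LD2_c44 LD3_c51)) :=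
  Lre_b IH (LK LD1_c1 LD2_c36 LD3_c41) (LK LD1_c0 LD2_c44 LD3_c51) Lrfl Lrfl
theorem f76977 : Led Lsl_ct (LP (LK LD1_c1 LD2_c36 LD3_c41)) = (LP (LK LD1_c3 LD2_c17 LD3_c57)) :=
  Lre_c IH (LK LD1_c1 LD2_c36 LD3_c41) (LK LD1_c3 LD2_c17 LD3_c57) Lrfl Lrfl
theorem f76978 : Led Lsl_gt (LP (LK LD1_c6 LD2_c39 LD3_c7)) = (LP (LK LD1_c3 LD2_c17 LD3_c57)) :=
  Lre_g IH (LK LD1_c6 LD2_c39 LD3_c7) (LK LD1_c3 LD2_c17 LD3_c57) Lrfl Lrfl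
theorem f76979 : Led Lsl_ct (LP (LK LD1_c9 LD2_c50 LD3_c32)) = (LP (LK LD1_c6 LD2_c39 LD3_c7)) :=
  Lgr Lrot64 (Lpr_bt (f76975 IH) (Lpe (f73773 IH) (Lpe (f73772 IH) (Lpr_ct (f73770 IH) (Lpe (K9.f73775 IH) (Lpr_cf (f76934 IH) (Lpe (f76942 IH) (Lpe (f76976 IH) (Lpr_ct (f76977 IH) (Lpe (f76978 IH) (Lpn (LP (LK LD1_c6 LD2_c39 LD3_c7)))))))))))))
theorem f413817 : Led Lsl_at (LP (LK LD1_c4 LD2_c49 LD3_c46)) = (LP (LK LD1_c9 LD2_c32 LD3_c9)) :=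
  Lre_a IH (LK LD1_c4 LD2_c49 LD3_c46) (LK LD1_c9 LD2_c32 LD3_c9) Lrfl Lrfl
theorem f413828 : Led Lsl_gf (LP (LK LD1_c9 LD2_c32 LD3_c9)) = (LP (LK LD1_c5 LD2_c0 LD3_c0)) :=
  Lgr Lrot76 (Lpe (f413817 IH) (Lpr_ff (f413813 IH) (Lpr_gt (f73773 IH) (Lpn (LP (LK LD1_c5 LD2_c0 LD3_c0))))))
theorem f413833 : Led Lsl_ct (LP (LK LD1_c9 LD2_c32 LD3_c9)) = (LP (LK LD1_c17 LD2_c34 LD3_c18)) :=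
  Lre_c IH (LK LD1_c9 LD2_c32 LD3_c9) (LK LD1_c17 LD2_c34 LD3_c18) Lrfl Lrfl
theorem f414226 : Led Lsl_gt (LP (LK LD1_c17 LD2_c34 LD3_c18)) = (LP (LK LD1_c9 LD2_c50 LD3_c13)) :=
  Lgr Lrot149 (Lpe (f413833 IH) (Lpr_gf (f413828 IH) (Lpe (f76975 IH) (Lpr_ct (f76979 IH) (Lpe (f76999 IH) (Lpe (f77000 IH) (Lpr_bt (f77001 IH) (Lpe (f77002 IH) (Lpe (f77003 IH) (Lpr_ct (f414090 IH) (Lpn (LP (LK LD1_c9 LD2_c50 LD3_c13)))))))))))))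
theorem f79450 : Led Lsl_at (LP (LK LD1_c9 LD2_c47 LD3_c19)) = (LP (LK LD1_c4 LD2_c59 LD3_c53)) :=
  Lre_a IH (LK LD1_c9 LD2_c47 LD3_c19) (LK LD1_c4 LD2_c59 LD3_c53) Lrfl Lrfl
theorem f414228 : Led Lsl_ft (LP (LK LD1_c17 LD2_c34 LD3_c18)) = (LP (LK LD1_c9 LD2_c47 LD3_c19)) :=
  Lgr Lrot2 (Lpr_gt (f414226 IH) (Lpr_gt (f414089 IH) (Lpe (f79450 IH) (Lpn (LP (LK LD1_c9 LD2_c47 LD3_c19))))))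
theorem f414237 : Led Lsl_ff (LP (LK LD1_c17 LD2_c34 LD3_c18)) = (LP (LK LD1_c9 LD2_c47 LD3_c19)) :=
  Lgr Lrot3 (Lpr_ft (f414228 IH) (Lpn (LP (LK LD1_c9 LD2_c47 LD3_c19))))
theorem f414239 : Led Lsl_at (LP (LK LD1_c17 LD2_c34 LD3_c18)) = (LP (LK LD1_c9 LD2_c32 LD3_c10)) :=
  Lre_a IH (LK LD1_c17 LD2_c34 LD3_c18) (LK LD1_c9 LD2_c32 LD3_c10) Lrfl Lrfl
theorem f414243 : Led Lsl_gf (LP (LK LD1_c9 LD2_c32 LD3_c10)) = (LP (LK LD1_c9 LD2_c30 LD3_c39)) :=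
  Lgr Lrot76 (Lpe (f414239 IH) (Lpr_ff (f414237 IH) (Lpe (f413848 IH) (Lpn (LP (LK LD1_c9 LD2_c30 LD3_c39))))))
theorem f413821 : Led Lsl_ct (LP (LK LD1_c4 LD2_c49 LD3_c46)) = (LP (LK LD1_c9 LD2_c32 LD3_c10)) :=
  Lre_c IH (LK LD1_c4 LD2_c49 LD3_c46) (LK LD1_c9 LD2_c32 LD3_c10) Lrfl Lrfl
theorem f413669 : Led Lsl_bt (LP (LK LD1_c4 LD2_c49 LD3_c46)) = (LP (LK LD1_c2 LD2_c22 LD3_c38)) :=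
  Lre_b IH (LK LD1_c4 LD2_c49 LD3_c46) (LK LD1_c2 LD2_c22 LD3_c38) Lrfl Lrfl
theorem f75929 : Led Lsl_gt (LP (LK LD1_c1 LD2_c8 LD3_c20)) = (LP (LK LD1_c2 LD2_c22 LD3_c22)) :=
  Lre_g IH (LK LD1_c1 LD2_c8 LD3_c20) (LK LD1_c2 LD2_c22 LD3_c22) Lrfl Lrfl
theorem f414252 : Led Lsl_bt (LP (LK LD1_c0 LD2_c31 LD3_c17)) = (LP (LK LD1_c1 LD2_c8 LD3_c20)) :=
  Lre_b IH (LK LD1_c0 LD2_c31 LD3_c17) (LK LD1_c1 LD2_c8 LD3_c20) Lrfl Lrfl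
theorem f23209 : Led Lsl_ct (LP (LK LD1_c1 LD2_c8 LD3_c29)) = (LP (LK LD1_c0 LD2_c31 LD3_c19)) :=
  Lre_c IH (LK LD1_c1 LD2_c8 LD3_c29) (LK LD1_c0 LD2_c31 LD3_c19) Lrfl Lrfl
theorem f414253 : Led Lsl_gt (LP (LK LD1_c2 LD2_c22 LD3_c38)) = (LP (LK LD1_c1 LD2_c8 LD3_c29)) :=
  Lgr Lrot82 (Lpe (f413669 IH) (Lpr_ct (f413821 IH) (Lpr_gf (f414243 IH) (Lpe (f413590 IH) (Lpr_bt (f413589 IH) (Lpe (f75929 IH) (Lpe (f414252 IH) (Lpr_ct (f27105 IH) (Lpe (K0.f22865 IH) (Lpe (f23209 IH) (Lpn (LP (LK LD1_c1 LD2_c8 LD3_c29)))))))))))))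
theorem f413741 : Led Lsl_ft (LP (LK LD1_c2 LD2_c22 LD3_c38)) = (LP (LK LD1_c1 LD2_c11 LD3_c5)) :=
  Lgr Lrot54 (Lpe (f413673 IH) (Lpr_ff (f413728 IH) (Lpe (K2.f20430 IH) (Lpn (LP (LK LD1_c1 LD2_c11 LD3_c5))))))
theorem f79832 : Led Lsl_at (LP (LK LD1_c1 LD2_c11 LD3_c5)) = (LP (LK LD1_c0 LD2_c45 LD3_c34)) :=
  Lre_a IH (LK LD1_c1 LD2_c11 LD3_c5) (LK LD1_c0 LD2_c45 LD3_c34) Lrfl Lrfl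
theorem f414257 : Led Lsl_gf (LP (LK LD1_c0 LD2_c45 LD3_c34)) = (LP (LK LD1_c1 LD2_c8 LD3_c29)) :=
  Lgr Lrot76 (Lpe (f79832 IH) (Lpe (f413741 IH) (Lpr_gt (f414253 IH) (Lpn (LP (LK LD1_c1 LD2_c8 LD3_c29))))))
theorem f69274 : Led Lsl_gt (LP (LK LD1_c1 LD2_c38 LD3_c21)) = (LP (LK LD1_c3 LD2_c24 LD3_c7)) :=
  Lre_g IH (LK LD1_c1 LD2_c38 LD3_c21) (LK LD1_c3 LD2_c24 LD3_c7) Lrfl Lrfl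
theorem f23194 : Led Lsl_ct (LP (LK LD1_c0 LD2_c31 LD3_c19)) = (LP (LK LD1_c1 LD2_c8 LD3_c29)) :=
  Lre_c IH (LK LD1_c0 LD2_c31 LD3_c19) (LK LD1_c1 LD2_c8 LD3_c29) Lrfl Lrfl
theorem f20091 : Led Lsl_dt (LP (LK LD1_c0 LD2_c13 LD3_c54)) = (LP (LK LD1_c0 LD2_c30 LD3_c2)) :=
  Lre_d IH (LK LD1_c0 LD2_c13 LD3_c54) (LK LD1_c0 LD2_c30 LD3_c2) Lrfl Lrfl
theorem f23277 : Led Lsl_dt (LP (LK LD1_c1 LD2_c5 LD3_c42)) = (LP (LK LD1_c2 LD2_c17 LD3_c36)) :=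
  Lre_d IH (LK LD1_c1 LD2_c5 LD3_c42) (LK LD1_c2 LD2_c17 LD3_c36) Lrfl Lrfl
theorem f180339 : Led Lsl_ct (LP (LK LD1_c4 LD2_c41 LD3_c7)) = (LP (LK LD1_c2 LD2_c17 LD3_c36)) :=
  Lre_c IH (LK LD1_c4 LD2_c41 LD3_c7) (LK LD1_c2 LD2_c17 LD3_c36) Lrfl Lrfl
theorem f414273 : Led Lsl_dt (LP (LK LD1_c3 LD2_c24 LD3_c7)) = (LP (LK LD1_c4 LD2_c41 LD3_c7)) :=
  Lgr Lrot105 (Lpe (f69274 IH) (Lpe (K2.f69273 IH) (Lpr_gf (f414257 IH) (Lpe (f23194 IH) (Lpr_gt (K0.f22865 IH) (Lpr_dt (f20091 IH) (Lpr_gt (K0.f23263 IH) (Lpr_dt (f23277 IH) (Lpe (f180339 IH) (Lpn (LP (LK LD1_c4 LD2_c41 LD3_c7))))))))))))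
theorem f180337 : Led Lsl_ct (LP (LK LD1_c2 LD2_c17 LD3_c36)) = (LP (LK LD1_c4 LD2_c41 LD3_c7)) :=
  Lre_c IH (LK LD1_c2 LD2_c17 LD3_c36) (LK LD1_c4 LD2_c41 LD3_c7) Lrfl Lrfl
theorem f164734 : Led Lsl_et (LP (LK LD1_c1 LD2_c18 LD3_c38)) = (LP (LK LD1_c2 LD2_c44 LD3_c34)) :=
  Lre_e IH (LK LD1_c1 LD2_c18 LD3_c38) (LK LD1_c2 LD2_c44 LD3_c34) Lrfl Lrfl
theorem f172563 : Led Lsl_et (LP (LK LD1_c0 LD2_c37 LD3_c11)) = (LP (LK LD1_c0 LD2_c16 LD3_c33)) :=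
  Lre_e IH (LK LD1_c0 LD2_c37 LD3_c11) (LK LD1_c0 LD2_c16 LD3_c33) Lrfl Lrfl
theorem f140250 : Led Lsl_dt (LP (LK LD1_c0 LD2_c37 LD3_c11)) = (LP (LK LD1_c0 LD2_c17 LD3_c18)) :=
  Lre_d IH (LK LD1_c0 LD2_c37 LD3_c11) (LK LD1_c0 LD2_c17 LD3_c18) Lrfl Lrfl
theorem f172564 : Led Lsl_gt (LP (LK LD1_c0 LD2_c38 LD3_c58)) = (LP (LK LD1_c0 LD2_c17 LD3_c18)) :=
  Lre_g IH (LK LD1_c0 LD2_c38 LD3_c58) (LK LD1_c0 LD2_c17 LD3_c18) Lrfl Lrfl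
theorem f172565 : Led Lsl_dt (LP (LK LD1_c1 LD2_c24 LD3_c35)) = (LP (LK LD1_c0 LD2_c38 LD3_c58)) :=
  Lre_d IH (LK LD1_c1 LD2_c24 LD3_c35) (LK LD1_c0 LD2_c38 LD3_c58) Lrfl Lrfl
theorem f172566 : Led Lsl_et (LP (LK LD1_c1 LD2_c24 LD3_c35)) = (LP (LK LD1_c2 LD2_c57 LD3_c48)) :=
  Lre_e IH (LK LD1_c1 LD2_c24 LD3_c35) (LK LD1_c2 LD2_c57 LD3_c48) Lrfl Lrfl
theorem f180290 : Led Lsl_gt (LP (LK LD1_c2 LD2_c44 LD3_c34)) = (LP (LK LD1_c2 LD2_c57 LD3_c48)) :=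
  Lgr Lrot131 (Lpe (f164734 IH) (Lpr_dt (K9.f7895 IH) (Lpr_gf (K10.f180278 IH) (Lpr_df (K9.f172427 IH) (Lpe (K9.f172426 IH) (Lpe (f172563 IH) (Lpr_dt (f140250 IH) (Lpe (f172564 IH) (Lpe (f172565 IH) (Lpr_et (f172566 IH) (Lpn (LP (LK LD1_c2 LD2_c57 LD3_c48)))))))))))))
theorem f164747 : Led Lsl_et (LP (LK LD1_c2 LD2_c44 LD3_c34)) = (LP (LK LD1_c1 LD2_c18 LD3_c38)) :=
  Lre_e IH (LK LD1_c2 LD2_c44 LD3_c34) (LK LD1_c1 LD2_c18 LD3_c38) Lrfl Lrfl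
theorem f164748 : Led Lsl_et (LP (LK LD1_c1 LD2_c12 LD3_c10)) = (LP (LK LD1_c2 LD2_c30 LD3_c19)) :=
  Lre_e IH (LK LD1_c1 LD2_c12 LD3_c10) (LK LD1_c2 LD2_c30 LD3_c19) Lrfl Lrfl
theorem f164749 : Led Lsl_df (LP (LK LD1_c2 LD2_c44 LD3_c34)) = (LP (LK LD1_c2 LD2_c30 LD3_c19)) :=
  Lgr Lrot70 (Lpr_et (f164747 IH) (Lpr_dt (K9.f7895 IH) (Lpr_et (K9.f164739 IH) (Lpr_dt (K9.f164741 IH) (Lpr_et (f164748 IH) (Lpn (LP (LK LD1_c2 LD2_c30 LD3_c19))))))))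
theorem f164736 : Led Lsl_et (LP (LK LD1_c2 LD2_c30 LD3_c19)) = (LP (LK LD1_c1 LD2_c12 LD3_c10)) :=
  Lre_e IH (LK LD1_c2 LD2_c30 LD3_c19) (LK LD1_c1 LD2_c12 LD3_c10) Lrfl Lrfl
theorem f166182 : Led Lsl_et (LP (LK LD1_c1 LD2_c22 LD3_c60)) = (LP (LK LD1_c0 LD2_c38 LD3_c25)) :=
  Lre_e IH (LK LD1_c1 LD2_c22 LD3_c60) (LK LD1_c0 LD2_c38 LD3_c25) Lrfl Lrfl
theorem f166183 : Led Lsl_dt (LP (LK LD1_c1 LD2_c22 LD3_c60)) = (LP (LK LD1_c0 LD2_c38 LD3_c24)) :=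
  Lre_d IH (LK LD1_c1 LD2_c22 LD3_c60) (LK LD1_c0 LD2_c38 LD3_c24) Lrfl Lrfl
theorem f166184 : Led Lsl_gt (LP (LK LD1_c1 LD2_c22 LD3_c59)) = (LP (LK LD1_c0 LD2_c38 LD3_c24)) :=
  Lre_g IH (LK LD1_c1 LD2_c22 LD3_c59) (LK LD1_c0 LD2_c38 LD3_c24) Lrfl Lrfl
theorem f166185 : Led Lsl_dt (LP (LK LD1_c2 LD2_c53 LD3_c60)) = (LP (LK LD1_c1 LD2_c22 LD3_c59)) :=
  Lre_d IH (LK LD1_c2 LD2_c53 LD3_c60) (LK LD1_c1 LD2_c22 LD3_c59) Lrfl Lrfl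
theorem f180300 : Led Lsl_dt (LP (LK LD1_c6 LD2_c3 LD3_c23)) = (LP (LK LD1_c2 LD2_c57 LD3_c48)) :=
  Lre_d IH (LK LD1_c6 LD2_c3 LD3_c23) (LK LD1_c2 LD2_c57 LD3_c48) Lrfl Lrfl
theorem f180301 : Led Lsl_et (LP (LK LD1_c6 LD2_c3 LD3_c23)) = (LP (LK LD1_c2 LD2_c57 LD3_c49)) :=
  Lre_e IH (LK LD1_c6 LD2_c3 LD3_c23) (LK LD1_c2 LD2_c57 LD3_c49) Lrfl Lrfl
theorem f180302 : Led Lsl_gf (LP (LK LD1_c2 LD2_c53 LD3_c60)) = (LP (LK LD1_c2 LD2_c57 LD3_c49)) :=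
  Lgr Lrot138 (Lpr_dt (f166185 IH) (Lpr_gt (f166184 IH) (Lpe (f166183 IH) (Lpr_et (f166182 IH) (Lpr_gt (K9.f166162 IH) (Lpe (f164736 IH) (Lpe (f164749 IH) (Lpr_gt (f180290 IH) (Lpe (f180300 IH) (Lpr_et (f180301 IH) (Lpn (LP (LK LD1_c2 LD2_c57 LD3_c49)))))))))))))
theorem f180311 : Led Lsl_dt (LP (LK LD1_c1 LD2_c22 LD3_c59)) = (LP (LK LD1_c2 LD2_c53 LD3_c60)) :=
  Lre_d IH (LK LD1_c1 LD2_c22 LD3_c59) (LK LD1_c2 LD2_c53 LD3_c60) Lrfl Lrfl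
theorem f180312 : Led Lsl_et (LP (LK LD1_c1 LD2_c22 LD3_c59)) = (LP (LK LD1_c2 LD2_c53 LD3_c61)) :=
  Lre_e IH (LK LD1_c1 LD2_c22 LD3_c59) (LK LD1_c2 LD2_c53 LD3_c61) Lrfl Lrfl
theorem f180306 : Led Lsl_dt (LP (LK LD1_c1 LD2_c24 LD3_c36)) = (LP (LK LD1_c2 LD2_c57 LD3_c49)) :=
  Lre_d IH (LK LD1_c1 LD2_c24 LD3_c36) (LK LD1_c2 LD2_c57 LD3_c49) Lrfl Lrfl
theorem f180313 : Led Lsl_et (LP (LK LD1_c1 LD2_c24 LD3_c36)) = (LP (LK LD1_c0 LD2_c38 LD3_c58)) :=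
  Lre_e IH (LK LD1_c1 LD2_c24 LD3_c36) (LK LD1_c0 LD2_c38 LD3_c58) Lrfl Lrfl
theorem f180314 : Led Lsl_gt (LP (LK LD1_c1 LD2_c5 LD3_c10)) = (LP (LK LD1_c0 LD2_c38 LD3_c58)) :=
  Lre_g IH (LK LD1_c1 LD2_c5 LD3_c10) (LK LD1_c0 LD2_c38 LD3_c58) Lrfl Lrfl
theorem f27120 : Led Lsl_et (LP (LK LD1_c0 LD2_c44 LD3_c51)) = (LP (LK LD1_c1 LD2_c5 LD3_c10)) :=
  Lre_e IH (LK LD1_c0 LD2_c44 LD3_c51) (LK LD1_c1 LD2_c5 LD3_c10) Lrfl Lrfl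
theorem f22873 : Led Lsl_gt (LP (LK LD1_c2 LD2_c22 LD3_c32)) = (LP (LK LD1_c1 LD2_c36 LD3_c51)) :=
  Lre_g IH (LK LD1_c2 LD2_c22 LD3_c32) (LK LD1_c1 LD2_c36 LD3_c51) Lrfl Lrfl
theorem f73938 : Led Lsl_dt (LP (LK LD1_c4 LD2_c49 LD3_c31)) = (LP (LK LD1_c2 LD2_c22 LD3_c32)) :=
  Lre_d IH (LK LD1_c4 LD2_c49 LD3_c31) (LK LD1_c2 LD2_c22 LD3_c32) Lrfl Lrfl
theorem f180315 : Led Lsl_gt (LP (LK LD1_c2 LD2_c53 LD3_c61)) = (LP (LK LD1_c4 LD2_c49 LD3_c31)) :=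
  Lgr Lrot137 (Lpe (f180312 IH) (Lpr_dt (f180311 IH) (Lpr_gf (f180302 IH) (Lpe (f180306 IH) (Lpr_et (f180313 IH) (Lpe (f180314 IH) (Lpe (f27120 IH) (Lpr_dt (K0.f27112 IH) (Lpe (f22873 IH) (Lpe (f73938 IH) (Lpn (LP (LK LD1_c4 LD2_c49 LD3_c31)))))))))))))
theorem f180319 : Led Lsl_ct (LP (LK LD1_c2 LD2_c53 LD3_c61)) = (LP (LK LD1_c1 LD2_c34 LD3_c12)) :=
  Lre_c IH (LK LD1_c2 LD2_c53 LD3_c61) (LK LD1_c1 LD2_c34 LD3_c12) Lrfl Lrfl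
theorem f76943 : Led Lsl_ct (LP (LK LD1_c0 LD2_c19 LD3_c57)) = (LP (LK LD1_c0 LD2_c44 LD3_c51)) :=
  Lre_c IH (LK LD1_c0 LD2_c19 LD3_c57) (LK LD1_c0 LD2_c44 LD3_c51) Lrfl Lrfl
theorem f23237 : Led Lsl_dt (LP (LK LD1_c2 LD2_c17 LD3_c36)) = (LP (LK LD1_c1 LD2_c5 LD3_c42)) :=
  Lre_d IH (LK LD1_c2 LD2_c17 LD3_c36) (LK LD1_c1 LD2_c5 LD3_c42) Lrfl Lrfl
theorem f180320 : Led Lsl_gt (LP (LK LD1_c1 LD2_c34 LD3_c12)) = (LP (LK LD1_c2 LD2_c17 LD3_c36)) :=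
  Lgr Lrot94 (Lpe (f180319 IH) (Lpr_gt (f180315 IH) (Lpr_dt (f73938 IH) (Lpr_gt (f22873 IH) (Lpr_dt (f68691 IH) (Lpe (f76943 IH) (Lpe (K0.f23215 IH) (Lpe (K0.f23216 IH) (Lpe (f23237 IH) (Lpn (LP (LK LD1_c2 LD2_c17 LD3_c36))))))))))))
theorem f164737 : Led Lsl_dt (LP (LK LD1_c2 LD2_c44 LD3_c34)) = (LP (LK LD1_c2 LD2_c30 LD3_c19)) :=
  Lgr Lrot77 (Lpe (f164734 IH) (Lpe (K9.f164733 IH) (Lpr_ef (K9.f164727 IH) (Lpe (K9.f164735 IH) (Lpe (f164736 IH) (Lpn (LP (LK LD1_c2 LD2_c30 LD3_c19))))))))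
theorem f164763 : Led Lsl_gt (LP (LK LD1_c5 LD2_c6 LD3_c1)) = (LP (LK LD1_c2 LD2_c30 LD3_c19)) :=
  Lre_g IH (LK LD1_c5 LD2_c6 LD3_c1) (LK LD1_c2 LD2_c30 LD3_c19) Lrfl Lrfl
theorem f180458 : Led Lsl_et (LP (LK LD1_c0 LD2_c37 LD3_c12)) = (LP (LK LD1_c1 LD2_c20 LD3_c32)) :=
  Lre_e IH (LK LD1_c0 LD2_c37 LD3_c12) (LK LD1_c1 LD2_c20 LD3_c32) Lrfl Lrfl
theorem f180459 : Led Lsl_gt (LP (LK LD1_c1 LD2_c20 LD3_c32)) = (LP (LK LD1_c2 LD2_c48 LD3_c51)) :=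
  Lre_g IH (LK LD1_c1 LD2_c20 LD3_c32) (LK LD1_c2 LD2_c48 LD3_c51) Lrfl Lrfl
theorem f180460 : Led Lsl_et (LP (LK LD1_c5 LD2_c46 LD3_c13)) = (LP (LK LD1_c2 LD2_c48 LD3_c51)) :=
  Lre_e IH (LK LD1_c5 LD2_c46 LD3_c13) (LK LD1_c2 LD2_c48 LD3_c51) Lrfl Lrfl
theorem f180461 : Led Lsl_df (LP (LK LD1_c5 LD2_c6 LD3_c1)) = (LP (LK LD1_c5 LD2_c46 LD3_c13)) :=
  Lgr Lrot170 (Lpr_gt (f164763 IH) (Lpe (f164737 IH) (Lpr_et (f164747 IH) (Lpr_gt (K10.f180280 IH) (Lpr_dt (K10.f173367 IH) (Lpr_gt (K9.f23960 IH) (Lpe (K9.f168862 IH) (Lpr_et (f180458 IH) (Lpr_gt (f180459 IH) (Lpe (f180460 IH) (Lpn (LP (LK LD1_c5 LD2_c46 LD3_c13)))))))))))))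
theorem f180470 : Led Lsl_et (LP (LK LD1_c5 LD2_c6 LD3_c1)) = (LP (LK LD1_c10 LD2_c3 LD3_c5)) :=
  Lre_e IH (LK LD1_c5 LD2_c6 LD3_c1) (LK LD1_c10 LD2_c3 LD3_c5) Lrfl Lrfl
theorem f180471 : Led Lsl_et (LP (LK LD1_c2 LD2_c48 LD3_c51)) = (LP (LK LD1_c5 LD2_c46 LD3_c13)) :=
  Lre_e IH (LK LD1_c2 LD2_c48 LD3_c51) (LK LD1_c5 LD2_c46 LD3_c13) Lrfl Lrfl
theorem f180472 : Led Lsl_dt (LP (LK LD1_c5 LD2_c46 LD3_c12)) = (LP (LK LD1_c2 LD2_c48 LD3_c51)) :=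
  Lre_d IH (LK LD1_c5 LD2_c46 LD3_c12) (LK LD1_c2 LD2_c48 LD3_c51) Lrfl Lrfl
theorem f26996 : Led Lsl_et (LP (LK LD1_c11 LD2_c22 LD3_c46)) = (LP (LK LD1_c5 LD2_c46 LD3_c12)) :=
  Lre_e IH (LK LD1_c11 LD2_c22 LD3_c46) (LK LD1_c5 LD2_c46 LD3_c12) Lrfl Lrfl
theorem f180473 : Led Lsl_dt (LP (LK LD1_c10 LD2_c3 LD3_c5)) = (LP (LK LD1_c11 LD2_c22 LD3_c46)) :=
  Lgr Lrot77 (Lpe (f180470 IH) (Lpr_df (f180461 IH) (Lpe (f180471 IH) (Lpe (f180472 IH) (Lpe (f26996 IH) (Lpn (LP (LK LD1_c11 LD2_c22 LD3_c46))))))))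
theorem f164770 : Led Lsl_et (LP (LK LD1_c10 LD2_c3 LD3_c5)) = (LP (LK LD1_c5 LD2_c6 LD3_c1)) :=
  Lre_e IH (LK LD1_c10 LD2_c3 LD3_c5) (LK LD1_c5 LD2_c6 LD3_c1) Lrfl Lrfl
theorem f180317 : Led Lsl_et (LP (LK LD1_c5 LD2_c55 LD3_c18)) = (LP (LK LD1_c2 LD2_c53 LD3_c60)) :=
  Lre_e IH (LK LD1_c5 LD2_c55 LD3_c18) (LK LD1_c2 LD2_c53 LD3_c60) Lrfl Lrfl
theorem f166193 : Led Lsl_dt (LP (LK LD1_c5 LD2_c55 LD3_c18)) = (LP (LK LD1_c6 LD2_c45 LD3_c27)) :=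
  Lre_d IH (LK LD1_c5 LD2_c55 LD3_c18) (LK LD1_c6 LD2_c45 LD3_c27) Lrfl Lrfl
theorem f180486 : Led Lsl_gt (LP (LK LD1_c6 LD2_c45 LD3_c27)) = (LP (LK LD1_c11 LD2_c22 LD3_c46)) :=
  Lgr Lrot112 (Lpe (f166193 IH) (Lpr_et (f180317 IH) (Lpr_gf (f180302 IH) (Lpe (f180301 IH) (Lpr_dt (f180300 IH) (Lpe (f180290 IH) (Lpr_df (f164749 IH) (Lpe (f164763 IH) (Lpe (f164770 IH) (Lpr_dt (f180473 IH) (Lpn (LP (LK LD1_c11 LD2_c22 LD3_c46)))))))))))))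
theorem f180330 : Led Lsl_et (LP (LK LD1_c3 LD2_c20 LD3_c47)) = (LP (LK LD1_c6 LD2_c45 LD3_c27)) :=
  Lre_e IH (LK LD1_c3 LD2_c20 LD3_c47) (LK LD1_c6 LD2_c45 LD3_c27) Lrfl Lrfl
theorem f180322 : Led Lsl_dt (LP (LK LD1_c3 LD2_c20 LD3_c47)) = (LP (LK LD1_c2 LD2_c53 LD3_c61)) :=
  Lre_d IH (LK LD1_c3 LD2_c20 LD3_c47) (LK LD1_c2 LD2_c53 LD3_c61) Lrfl Lrfl
theorem f180492 : Led Lsl_et (LP (LK LD1_c5 LD2_c46 LD3_c12)) = (LP (LK LD1_c11 LD2_c22 LD3_c46)) :=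
  Lre_e IH (LK LD1_c5 LD2_c46 LD3_c12) (LK LD1_c11 LD2_c22 LD3_c46) Lrfl Lrfl
theorem f180475 : Led Lsl_gt (LP (LK LD1_c2 LD2_c48 LD3_c51)) = (LP (LK LD1_c4 LD2_c33 LD3_c52)) :=
  Lre_g IH (LK LD1_c2 LD2_c48 LD3_c51) (LK LD1_c4 LD2_c33 LD3_c52) Lrfl Lrfl
theorem f9140 : Led Lsl_dt (LP (LK LD1_c3 LD2_c21 LD3_c12)) = (LP (LK LD1_c4 LD2_c33 LD3_c52)) :=
  Lre_d IH (LK LD1_c3 LD2_c21 LD3_c12) (LK LD1_c4 LD2_c33 LD3_c52) Lrfl Lrfl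
theorem f180493 : Led Lsl_et (LP (LK LD1_c3 LD2_c21 LD3_c12)) = (LP (LK LD1_c1 LD2_c36 LD3_c51)) :=
  Lre_e IH (LK LD1_c3 LD2_c21 LD3_c12) (LK LD1_c1 LD2_c36 LD3_c51) Lrfl Lrfl
theorem f27101 : Led Lsl_dt (LP (LK LD1_c2 LD2_c22 LD3_c33)) = (LP (LK LD1_c4 LD2_c40 LD3_c5)) :=
  Lgr Lrot42 (Lpr_df (K0.f27062 IH) (Lpn (LP (LK LD1_c4 LD2_c40 LD3_c5))))
theorem f180494 : Led Lsl_gf (LP (LK LD1_c2 LD2_c53 LD3_c61)) = (LP (LK LD1_c4 LD2_c40 LD3_c5)) :=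
  Lgr Lrot134 (Lpe (f180322 IH) (Lpr_et (f180330 IH) (Lpr_gt (f180486 IH) (Lpe (f180492 IH) (Lpr_dt (f180472 IH) (Lpr_gt (f180475 IH) (Lpe (f9140 IH) (Lpr_et (f180493 IH) (Lpr_gt (K0.f27111 IH) (Lpr_dt (f27101 IH) (Lpn (LP (LK LD1_c4 LD2_c40 LD3_c5)))))))))))))
theorem f27107 : Led Lsl_ct (LP (LK LD1_c1 LD2_c8 LD3_c23)) = (LP (LK LD1_c2 LD2_c22 LD3_c34)) :=
  Lre_c IH (LK LD1_c1 LD2_c8 LD3_c23) (LK LD1_c2 LD2_c22 LD3_c34) Lrfl Lrfl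
theorem f27108 : Led Lsl_gt (LP (LK LD1_c2 LD2_c22 LD3_c34)) = (LP (LK LD1_c4 LD2_c49 LD3_c36)) :=
  Lre_g IH (LK LD1_c2 LD2_c22 LD3_c34) (LK LD1_c4 LD2_c49 LD3_c36) Lrfl Lrfl
theorem f414440 : Led Lsl_cf (LP (LK LD1_c3 LD2_c24 LD3_c7)) = (LP (LK LD1_c4 LD2_c49 LD3_c36)) :=
  Lgr Lrot175 (Lpr_dt (f414273 IH) (Lpe (f180337 IH) (Lpe (f180320 IH) (Lpe (f180319 IH) (Lpr_gf (f180494 IH) (Lpe (K0.f27062 IH) (Lpr_gt (K0.f27059 IH) (Lpr_ct (f27107 IH) (Lpr_gt (f27108 IH) (Lpn (LP (LK LD1_c4 LD2_c49 LD3_c36))))))))))))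
theorem f414442 : Led Lsl_ct (LP (LK LD1_c3 LD2_c24 LD3_c7)) = (LP (LK LD1_c4 LD2_c49 LD3_c36)) :=
  Lgr Lrot59 (Lpr_cf (f414440 IH) (Lpn (LP (LK LD1_c4 LD2_c49 LD3_c36))))
theorem f59993 : Led Lsl_gt (LP (LK LD1_c4 LD2_c49 LD3_c36)) = (LP (LK LD1_c3 LD2_c21 LD3_c11)) :=
  Lre_g IH (LK LD1_c4 LD2_c49 LD3_c36) (LK LD1_c3 LD2_c21 LD3_c11) Lrfl Lrfl
theorem f73943 : Led Lsl_ct (LP (LK LD1_c3 LD2_c21 LD3_c11)) = (LP (LK LD1_c1 LD2_c36 LD3_c51)) :=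
  Lre_c IH (LK LD1_c3 LD2_c21 LD3_c11) (LK LD1_c1 LD2_c36 LD3_c51) Lrfl Lrfl
theorem f413732 : Led Lsl_ct (LP (LK LD1_c1 LD2_c8 LD3_c26)) = (LP (LK LD1_c0 LD2_c31 LD3_c18)) :=
  Lre_c IH (LK LD1_c1 LD2_c8 LD3_c26) (LK LD1_c0 LD2_c31 LD3_c18) Lrfl Lrfl
theorem f414445 : Led Lsl_gt (LP (LK LD1_c0 LD2_c45 LD3_c34)) = (LP (LK LD1_c1 LD2_c8 LD3_c26)) :=
  Lgr Lrot9 (Lpe (K2.f73703 IH) (Lpr_gt (f69274 IH) (Lpr_ct (f414442 IH) (Lpr_gt (f59993 IH) (Lpr_ct (f73943 IH) (Lpe (K0.f27112 IH) (Lpe (f76943 IH) (Lpe (K16.f20137 IH) (Lpe (f413732 IH) (Lpn (LP (LK LD1_c1 LD2_c8 LD3_c26))))))))))))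
theorem f413872 : Led Lsl_bt (LP (LK LD1_c1 LD2_c38 LD3_c20)) = (LP (LK LD1_c0 LD2_c45 LD3_c34)) :=
  Lre_b IH (LK LD1_c1 LD2_c38 LD3_c20) (LK LD1_c0 LD2_c45 LD3_c34) Lrfl Lrfl
theorem f413873 : Led Lsl_ct (LP (LK LD1_c1 LD2_c38 LD3_c20)) = (LP (LK LD1_c3 LD2_c23 LD3_c38)) :=
  Lre_c IH (LK LD1_c1 LD2_c38 LD3_c20) (LK LD1_c3 LD2_c23 LD3_c38) Lrfl Lrfl
theorem f139751 : Led Lsl_gt (LP (LK LD1_c6 LD2_c50 LD3_c32)) = (LP (LK LD1_c3 LD2_c23 LD3_c38)) :=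
  Lre_g IH (LK LD1_c6 LD2_c50 LD3_c32) (LK LD1_c3 LD2_c23 LD3_c38) Lrfl Lrfl
theorem f414457 : Led Lsl_bt (LP (LK LD1_c0 LD2_c44 LD3_c51)) = (LP (LK LD1_c1 LD2_c36 LD3_c41)) :=
  Lre_b IH (LK LD1_c0 LD2_c44 LD3_c51) (LK LD1_c1 LD2_c36 LD3_c41) Lrfl Lrfl
theorem f414458 : Led Lsl_gt (LP (LK LD1_c1 LD2_c36 LD3_c41)) = (LP (LK LD1_c3 LD2_c20 LD3_c31)) :=
  Lre_g IH (LK LD1_c1 LD2_c36 LD3_c41) (LK LD1_c3 LD2_c20 LD3_c31) Lrfl Lrfl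
theorem f77005 : Led Lsl_bt (LP (LK LD1_c6 LD2_c44 LD3_c47)) = (LP (LK LD1_c3 LD2_c20 LD3_c31)) :=
  Lre_b IH (LK LD1_c6 LD2_c44 LD3_c47) (LK LD1_c3 LD2_c20 LD3_c31) Lrfl Lrfl
theorem f414459 : Led Lsl_cf (LP (LK LD1_c6 LD2_c50 LD3_c32)) = (LP (LK LD1_c6 LD2_c44 LD3_c47)) :=
  Lgr Lrot160 (Lpr_gt (f139751 IH) (Lpe (f413873 IH) (Lpr_bt (f413872 IH) (Lpr_gt (f414445 IH) (Lpr_ct (f413732 IH) (Lpr_gt (K16.f20137 IH) (Lpe (K9.f139983 IH) (Lpr_bt (f414457 IH) (Lpr_gt (f414458 IH) (Lpe (f77005 IH) (Lpn (LP (LK LD1_c6 LD2_c44 LD3_c47)))))))))))))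
theorem f99549 : Led Lsl_et (LP (LK LD1_c0 LD2_c45 LD3_c33)) = (LP (LK LD1_c1 LD2_c38 LD3_c20)) :=
  Lre_e IH (LK LD1_c0 LD2_c45 LD3_c33) (LK LD1_c1 LD2_c38 LD3_c20) Lrfl Lrfl
theorem f36262 : Led Lsl_bt (LP (LK LD1_c0 LD2_c45 LD3_c33)) = (LP (LK LD1_c0 LD2_c20 LD3_c19)) :=
  Lre_b IH (LK LD1_c0 LD2_c45 LD3_c33) (LK LD1_c0 LD2_c20 LD3_c19) Lrfl Lrfl
theorem f36263 : Led Lsl_ff (LP (LK LD1_c0 LD2_c45 LD3_c33)) = (LP (LK LD1_c0 LD2_c55 LD3_c2)) :=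
  Lgr Lrot25 (Lpr_bt (f36262 IH) (Lpr_ft (K1.f36248 IH) (Lpr_bt (K8.f36250 IH) (Lpn (LP (LK LD1_c0 LD2_c55 LD3_c2))))))
theorem f150011 : Led Lsl_et (LP (LK LD1_c1 LD2_c56 LD3_c34)) = (LP (LK LD1_c0 LD2_c55 LD3_c2)) :=
  Lre_e IH (LK LD1_c1 LD2_c56 LD3_c34) (LK LD1_c0 LD2_c55 LD3_c2) Lrfl Lrfl
theorem f413895 : Led Lsl_ft (LP (LK LD1_c3 LD2_c59 LD3_c52)) = (LP (LK LD1_c1 LD2_c56 LD3_c34)) :=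
  Lre_f IH (LK LD1_c3 LD2_c59 LD3_c52) (LK LD1_c1 LD2_c56 LD3_c34) Lrfl Lrfl
theorem f413896 : Led Lsl_et (LP (LK LD1_c3 LD2_c21 LD3_c23)) = (LP (LK LD1_c3 LD2_c59 LD3_c52)) :=
  Lgr Lrot69 (Lpr_ff (f413880 IH) (Lpe (f99549 IH) (Lpr_ff (f36263 IH) (Lpe (f150011 IH) (Lpe (f413895 IH) (Lpn (LP (LK LD1_c3 LD2_c59 LD3_c52))))))))
theorem f413552 : Led Lsl_ct (LP (LK LD1_c6 LD2_c46 LD3_c28)) = (LP (LK LD1_c3 LD2_c21 LD3_c23)) :=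
  Lre_c IH (LK LD1_c6 LD2_c46 LD3_c28) (LK LD1_c3 LD2_c21 LD3_c23) Lrfl Lrfl
theorem f40487 : Led Lsl_ct (LP (LK LD1_c3 LD2_c59 LD3_c52)) = (LP (LK LD1_c8 LD2_c0 LD3_c43)) :=
  Lre_c IH (LK LD1_c3 LD2_c59 LD3_c52) (LK LD1_c8 LD2_c0 LD3_c43) Lrfl Lrfl
theorem f413908 : Led Lsl_ef (LP (LK LD1_c6 LD2_c46 LD3_c28)) = (LP (LK LD1_c8 LD2_c0 LD3_c43)) :=
  Lgr Lrot28 (Lpr_ct (f413552 IH) (Lpr_et (f413896 IH) (Lpr_ct (f40487 IH) (Lpn (LP (LK LD1_c8 LD2_c0 LD3_c43))))))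
theorem f414017 : Led Lsl_et (LP (LK LD1_c6 LD2_c46 LD3_c28)) = (LP (LK LD1_c8 LD2_c0 LD3_c43)) :=
  Lgr Lrot87 (Lpr_ef (f413908 IH) (Lpn (LP (LK LD1_c8 LD2_c0 LD3_c43))))
theorem f414020 : Led Lsl_at (LP (LK LD1_c12 LD2_c56 LD3_c24)) = (LP (LK LD1_c6 LD2_c46 LD3_c28)) :=
  Lre_a IH (LK LD1_c12 LD2_c56 LD3_c24) (LK LD1_c6 LD2_c46 LD3_c28) Lrfl Lrfl
theorem f414021 : Led Lsl_at (LP (LK LD1_c8 LD2_c0 LD3_c43)) = (LP (LK LD1_c15 LD2_c5 LD3_c1)) :=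
  Lre_a IH (LK LD1_c8 LD2_c0 LD3_c43) (LK LD1_c15 LD2_c5 LD3_c1) Lrfl Lrfl
theorem f414022 : Led Lsl_ef (LP (LK LD1_c12 LD2_c56 LD3_c24)) = (LP (LK LD1_c15 LD2_c5 LD3_c1)) :=
  Lgr Lrot20 (Lpr_at (f414020 IH) (Lpr_et (f414017 IH) (Lpr_at (f414021 IH) (Lpn (LP (LK LD1_c15 LD2_c5 LD3_c1))))))
theorem f40693 : Led Lsl_ft (LP (LK LD1_c8 LD2_c0 LD3_c21)) = (LP (LK LD1_c15 LD2_c5 LD3_c1)) :=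
  Lre_f IH (LK LD1_c8 LD2_c0 LD3_c21) (LK LD1_c15 LD2_c5 LD3_c1) Lrfl Lrfl
theorem f40692 : Led Lsl_et (LP (LK LD1_c3 LD2_c59 LD3_c39)) = (LP (LK LD1_c8 LD2_c0 LD3_c21)) :=
  Lre_e IH (LK LD1_c3 LD2_c59 LD3_c39) (LK LD1_c8 LD2_c0 LD3_c21) Lrfl Lrfl
theorem f40388 : Led Lsl_et (LP (LK LD1_c6 LD2_c50 LD3_c27)) = (LP (LK LD1_c3 LD2_c23 LD3_c36)) :=
  Lre_e IH (LK LD1_c6 LD2_c50 LD3_c27) (LK LD1_c3 LD2_c23 LD3_c36) Lrfl Lrfl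
theorem f414027 : Led Lsl_ft (LP (LK LD1_c12 LD2_c56 LD3_c24)) = (LP (LK LD1_c6 LD2_c50 LD3_c27)) :=
  Lgr Lrot86 (Lpr_ef (f414022 IH) (Lpe (f40693 IH) (Lpe (f40692 IH) (Lpr_ff (K4.f40327 IH) (Lpe (f40388 IH) (Lpn (LP (LK LD1_c6 LD2_c50 LD3_c27))))))))
theorem f414029 : Led Lsl_at (LP (LK LD1_c6 LD2_c50 LD3_c27)) = (LP (LK LD1_c3 LD2_c23 LD3_c38)) :=
  Lre_a IH (LK LD1_c6 LD2_c50 LD3_c27) (LK LD1_c3 LD2_c23 LD3_c38) Lrfl Lrfl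
theorem f414032 : Led Lsl_gt (LP (LK LD1_c12 LD2_c56 LD3_c24)) = (LP (LK LD1_c6 LD2_c50 LD3_c32)) :=
  Lgr Lrot5 (Lpr_ft (f414027 IH) (Lpr_at (f414029 IH) (Lpe (f139751 IH) (Lpn (LP (LK LD1_c6 LD2_c50 LD3_c32))))))
theorem f413903 : Led Lsl_ct (LP (LK LD1_c6 LD2_c46 LD3_c27)) = (LP (LK LD1_c12 LD2_c56 LD3_c24)) :=
  Lre_c IH (LK LD1_c6 LD2_c46 LD3_c27) (LK LD1_c12 LD2_c56 LD3_c24) Lrfl Lrfl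
theorem f413883 : Led Lsl_at (LP (LK LD1_c3 LD2_c21 LD3_c23)) = (LP (LK LD1_c6 LD2_c46 LD3_c27)) :=
  Lre_a IH (LK LD1_c3 LD2_c21 LD3_c23) (LK LD1_c6 LD2_c46 LD3_c27) Lrfl Lrfl
theorem f101701 : Led Lsl_gt (LP (LK LD1_c1 LD2_c38 LD3_c20)) = (LP (LK LD1_c3 LD2_c24 LD3_c4)) :=
  Lre_g IH (LK LD1_c1 LD2_c38 LD3_c20) (LK LD1_c3 LD2_c24 LD3_c4) Lrfl Lrfl
theorem f413898 : Led Lsl_gf (LP (LK LD1_c6 LD2_c46 LD3_c27)) = (LP (LK LD1_c3 LD2_c24 LD3_c4)) :=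
  Lgr Lrot76 (Lpe (f413883 IH) (Lpr_ff (f413880 IH) (Lpr_gt (f101701 IH) (Lpn (LP (LK LD1_c3 LD2_c24 LD3_c4))))))
theorem f413904 : Led Lsl_bt (LP (LK LD1_c6 LD2_c51 LD3_c6)) = (LP (LK LD1_c3 LD2_c24 LD3_c4)) :=
  Lre_b IH (LK LD1_c6 LD2_c51 LD3_c6) (LK LD1_c3 LD2_c24 LD3_c4) Lrfl Lrfl
theorem f77004 : Led Lsl_gt (LP (LK LD1_c3 LD2_c20 LD3_c31)) = (LP (LK LD1_c1 LD2_c36 LD3_c37)) :=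
  Lre_g IH (LK LD1_c3 LD2_c20 LD3_c31) (LK LD1_c1 LD2_c36 LD3_c37) Lrfl Lrfl
theorem f414481 : Led Lsl_bt (LP (LK LD1_c2 LD2_c22 LD3_c21)) = (LP (LK LD1_c1 LD2_c36 LD3_c37)) :=
  Lre_b IH (LK LD1_c2 LD2_c22 LD3_c21) (LK LD1_c1 LD2_c36 LD3_c37) Lrfl Lrfl
theorem f75026 : Led Lsl_ct (LP (LK LD1_c2 LD2_c22 LD3_c21)) = (LP (LK LD1_c4 LD2_c46 LD3_c41)) :=
  Lre_c IH (LK LD1_c2 LD2_c22 LD3_c21) (LK LD1_c4 LD2_c46 LD3_c41) Lrfl Lrfl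
theorem f414225 : Led Lsl_gt (LP (LK LD1_c4 LD2_c46 LD3_c41)) = (LP (LK LD1_c9 LD2_c25 LD3_c61)) :=
  Lre_g IH (LK LD1_c4 LD2_c46 LD3_c41) (LK LD1_c9 LD2_c25 LD3_c61) Lrfl Lrfl
theorem f414482 : Led Lsl_ct (LP (LK LD1_c6 LD2_c51 LD3_c6)) = (LP (LK LD1_c9 LD2_c25 LD3_c61)) :=
  Lgr Lrot10 (Lpr_bt (f413904 IH) (Lpe (f413898 IH) (Lpr_ct (f413903 IH) (Lpr_gt (f414032 IH) (Lpr_cf (f414459 IH) (Lpr_bt (f77005 IH) (Lpr_gt (f77004 IH) (Lpe (f414481 IH) (Lpr_ct (f75026 IH) (Lpr_gt (f414225 IH) (Lpn (LP (LK LD1_c9 LD2_c25 LD3_c61)))))))))))))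
theorem f105085 : Led Lsl_gt (LP (LK LD1_c9 LD2_c25 LD3_c61)) = (LP (LK LD1_c4 LD2_c46 LD3_c49)) :=
  Lre_g IH (LK LD1_c9 LD2_c25 LD3_c61) (LK LD1_c4 LD2_c46 LD3_c49) Lrfl Lrfl
theorem f414492 : Led Lsl_ct (LP (LK LD1_c2 LD2_c22 LD3_c25)) = (LP (LK LD1_c4 LD2_c46 LD3_c49)) :=
  Lre_c IH (LK LD1_c2 LD2_c22 LD3_c25) (LK LD1_c4 LD2_c46 LD3_c49) Lrfl Lrfl
theorem f414493 : Led Lsl_bt (LP (LK LD1_c2 LD2_c22 LD3_c25)) = (LP (LK LD1_c1 LD2_c8 LD3_c24)) :=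
  Lre_b IH (LK LD1_c2 LD2_c22 LD3_c25) (LK LD1_c1 LD2_c8 LD3_c24) Lrfl Lrfl
theorem f186139 : Led Lsl_gt (LP (LK LD1_c1 LD2_c8 LD3_c24)) = (LP (LK LD1_c0 LD2_c44 LD3_c49)) :=
  Lre_g IH (LK LD1_c1 LD2_c8 LD3_c24) (LK LD1_c0 LD2_c44 LD3_c49) Lrfl Lrfl
theorem f414496 : Led Lsl_cf (LP (LK LD1_c0 LD2_c45 LD3_c36)) = (LP (LK LD1_c0 LD2_c44 LD3_c49)) :=
  Lgr Lrot125 (Lpr_gt (K11.f13561 IH) (Lpe (K2.f73704 IH) (Lpr_bt (f140983 IH) (Lpr_gt (f101701 IH) (Lpe (f413904 IH) (Lpr_ct (f414482 IH) (Lpr_gt (f105085 IH) (Lpe (f414492 IH) (Lpr_bt (f414493 IH) (Lpr_gt (f186139 IH) (Lpn (LP (LK LD1_c0 LD2_c44 LD3_c49)))))))))))))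
theorem f414502 : Led Lsl_ct (LP (LK LD1_c0 LD2_c45 LD3_c36)) = (LP (LK LD1_c0 LD2_c44 LD3_c49)) :=
  Lgr Lrot59 (Lpr_cf (f414496 IH) (Lpn (LP (LK LD1_c0 LD2_c44 LD3_c49))))
theorem f185972 : Led Lsl_gt (LP (LK LD1_c0 LD2_c44 LD3_c49)) = (LP (LK LD1_c0 LD2_c19 LD3_c54)) :=
  Lre_g IH (LK LD1_c0 LD2_c44 LD3_c49) (LK LD1_c0 LD2_c19 LD3_c54) Lrfl Lrfl
theorem f22961 : Led Lsl_ct (LP (LK LD1_c0 LD2_c19 LD3_c54)) = (LP (LK LD1_c0 LD2_c8 LD3_c56)) :=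
  Lre_c IH (LK LD1_c0 LD2_c19 LD3_c54) (LK LD1_c0 LD2_c8 LD3_c56) Lrfl Lrfl
theorem f27139 : Led Lsl_ct (LP (LK LD1_c0 LD2_c40 LD3_c24)) = (LP (LK LD1_c0 LD2_c18 LD3_c5)) :=
  Lre_c IH (LK LD1_c0 LD2_c40 LD3_c24) (LK LD1_c0 LD2_c18 LD3_c5) Lrfl Lrfl
theorem f414621 : Led Lsl_ct (LP (LK LD1_c1 LD2_c29 LD3_c38)) = (LP (LK LD1_c1 LD2_c27 LD3_c16)) :=
  Lgr Lrot152 (Lpr_gf (K9.f66969 IH) (Lpr_df (K2.f73738 IH) (Lpr_gt (K9.f13573 IH) (Lpr_ct (f414502 IH) (Lpr_gt (f185972 IH) (Lpr_ct (f22961 IH) (Lpe (K16.f22957 IH) (Lpe (f27139 IH) (Lpe (K16.f59890 IH) (Lpn (LP (LK LD1_c1 LD2_c27 LD3_c16))))))))))))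
theorem f414630 : Led Lsl_cf (LP (LK LD1_c1 LD2_c29 LD3_c38)) = (LP (LK LD1_c1 LD2_c27 LD3_c16)) :=
  Lgr Lrot11 (Lpr_ct (f414621 IH) (Lpn (LP (LK LD1_c1 LD2_c27 LD3_c16))))
theorem f20297 : Led Lsl_dt (LP (LK LD1_c1 LD2_c22 LD3_c4)) = (LP (LK LD1_c2 LD2_c52 LD3_c8)) :=
  Lre_d IH (LK LD1_c1 LD2_c22 LD3_c4) (LK LD1_c2 LD2_c52 LD3_c8) Lrfl Lrfl
theorem f73685 : Led Lsl_ct (LP (LK LD1_c5 LD2_c51 LD3_c49)) = (LP (LK LD1_c2 LD2_c52 LD3_c8)) :=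
  Lre_c IH (LK LD1_c5 LD2_c51 LD3_c49) (LK LD1_c2 LD2_c52 LD3_c8) Lrfl Lrfl
theorem f59971 : Led Lsl_gt (LP (LK LD1_c2 LD2_c17 LD3_c33)) = (LP (LK LD1_c1 LD2_c27 LD3_c16)) :=
  Lre_g IH (LK LD1_c2 LD2_c17 LD3_c33) (LK LD1_c1 LD2_c27 LD3_c16) Lrfl Lrfl
theorem f27124 : Led Lsl_ct (LP (LK LD1_c3 LD2_c2 LD3_c40)) = (LP (LK LD1_c6 LD2_c12 LD3_c12)) :=
  Lre_c IH (LK LD1_c3 LD2_c2 LD3_c40) (LK LD1_c6 LD2_c12 LD3_c12) Lrfl Lrfl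
theorem f414675 : Led Lsl_gf (LP (LK LD1_c5 LD2_c51 LD3_c49)) = (LP (LK LD1_c6 LD2_c12 LD3_c12)) :=
  Lgr Lrot104 (Lpr_ct (f73685 IH) (Lpe (f20297 IH) (Lpe (K9.f68324 IH) (Lpe (K9.f66968 IH) (Lpr_cf (f414630 IH) (Lpe (f59971 IH) (Lpe (K16.f59970 IH) (Lpr_gt (K0.f27117 IH) (Lpr_ct (f27124 IH) (Lpn (LP (LK LD1_c6 LD2_c12 LD3_c12))))))))))))
theorem f414702 : Led Lsl_gt (LP (LK LD1_c6 LD2_c51 LD3_c18)) = (LP (LK LD1_c6 LD2_c12 LD3_c12)) :=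
  Lgr Lrot5 (Lpe (f73697 IH) (Lpr_at (f73911 IH) (Lpr_gf (f414675 IH) (Lpn (LP (LK LD1_c6 LD2_c12 LD3_c12))))))
theorem f27138 : Led Lsl_ct (LP (LK LD1_c6 LD2_c12 LD3_c12)) = (LP (LK LD1_c3 LD2_c2 LD3_c40)) :=
  Lre_c IH (LK LD1_c6 LD2_c12 LD3_c12) (LK LD1_c3 LD2_c2 LD3_c40) Lrfl Lrfl
theorem f23083 : Led Lsl_ct (LP (LK LD1_c2 LD2_c22 LD3_c35)) = (LP (LK LD1_c4 LD2_c49 LD3_c40)) :=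
  Lre_c IH (LK LD1_c2 LD2_c22 LD3_c35) (LK LD1_c4 LD2_c49 LD3_c40) Lrfl Lrfl
theorem f98995 : Led Lsl_gt (LP (LK LD1_c1 LD2_c36 LD3_c48)) = (LP (LK LD1_c2 LD2_c22 LD3_c35)) :=
  Lre_g IH (LK LD1_c1 LD2_c36 LD3_c48) (LK LD1_c2 LD2_c22 LD3_c35) Lrfl Lrfl
theorem f414597 : Led Lsl_ct (LP (LK LD1_c3 LD2_c21 LD3_c1)) = (LP (LK LD1_c1 LD2_c36 LD3_c48)) :=
  Lre_c IH (LK LD1_c3 LD2_c21 LD3_c1) (LK LD1_c1 LD2_c36 LD3_c48) Lrfl Lrfl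
theorem f414710 : Led Lsl_gt (LP (LK LD1_c3 LD2_c24 LD3_c9)) = (LP (LK LD1_c3 LD2_c21 LD3_c1)) :=
  Lgr Lrot9 (Lpe (K2.f73695 IH) (Lpr_gt (f414702 IH) (Lpr_ct (f27138 IH) (Lpr_gt (K0.f27133 IH) (Lpr_ct (K16.f27140 IH) (Lpe (K16.f9300 IH) (Lpe (f23083 IH) (Lpe (f98995 IH) (Lpe (f414597 IH) (Lpn (LP (LK LD1_c3 LD2_c21 LD3_c1))))))))))))
theorem f413558 : Led Lsl_ct (LP (LK LD1_c6 LD2_c46 LD3_c30)) = (LP (LK LD1_c3 LD2_c21 LD3_c24)) :=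
  Lre_c IH (LK LD1_c6 LD2_c46 LD3_c30) (LK LD1_c3 LD2_c21 LD3_c24) Lrfl Lrfl
theorem f413606 : Led Lsl_ff (LP (LK LD1_c6 LD2_c46 LD3_c30)) = (LP (LK LD1_c3 LD2_c24 LD3_c9)) :=
  Lgr Lrot23 (Lpr_ct (f413558 IH) (Lpr_ft (K16.f413565 IH) (Lpr_ct (K2.f73674 IH) (Lpn (LP (LK LD1_c3 LD2_c24 LD3_c9))))))
theorem f140980 : Led Lsl_gt (LP (LK LD1_c3 LD2_c21 LD3_c1)) = (LP (LK LD1_c6 LD2_c45 LD3_c56)) :=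
  Lre_g IH (LK LD1_c3 LD2_c21 LD3_c1) (LK LD1_c6 LD2_c45 LD3_c56) Lrfl Lrfl
theorem f414714 : Led Lsl_at (LP (LK LD1_c6 LD2_c46 LD3_c30)) = (LP (LK LD1_c6 LD2_c45 LD3_c56)) :=
  Lgr Lrot26 (Lpr_ff (f413606 IH) (Lpr_gt (f414710 IH) (Lpr_gt (f140980 IH) (Lpn (LP (LK LD1_c6 LD2_c45 LD3_c56))))))
theorem f61480 : Led Lsl_dt (LP (LK LD1_c5 LD2_c47 LD3_c13)) = (LP (LK LD1_c2 LD2_c49 LD3_c30)) :=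
  Lre_d IH (LK LD1_c5 LD2_c47 LD3_c13) (LK LD1_c2 LD2_c49 LD3_c30) Lrfl Lrfl
theorem f413671 : Led Lsl_cf (LP (LK LD1_c2 LD2_c22 LD3_c38)) = (LP (LK LD1_c1 LD2_c37 LD3_c40)) :=
  Lgr Lrot11 (Lpr_ct (K16.f413657 IH) (Lpn (LP (LK LD1_c1 LD2_c37 LD3_c40))))
theorem f413724 : Led Lsl_dt (LP (LK LD1_c2 LD2_c22 LD3_c38)) = (LP (LK LD1_c4 LD2_c49 LD3_c47)) :=
  Lre_d IH (LK LD1_c2 LD2_c22 LD3_c38) (LK LD1_c4 LD2_c49 LD3_c47) Lrfl Lrfl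
theorem f414788 : Led Lsl_ct (LP (LK LD1_c4 LD2_c49 LD3_c47)) = (LP (LK LD1_c6 LD2_c45 LD3_c56)) :=
  Lgr Lrot98 (Lpe (f413724 IH) (Lpr_cf (f413671 IH) (Lpe (K9.f73748 IH) (Lpr_cf (K2.f61477 IH) (Lpe (f61480 IH) (Lpr_cf (K2.f73676 IH) (Lpe (K2.f73675 IH) (Lpe (f413606 IH) (Lpr_at (f414714 IH) (Lpn (LP (LK LD1_c6 LD2_c45 LD3_c56))))))))))))
theorem f413559 : Led Lsl_df (LP (LK LD1_c6 LD2_c46 LD3_c30)) = (LP (LK LD1_c5 LD2_c47 LD3_c12)) :=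
  Lgr Lrot43 (Lpr_ct (f413558 IH) (Lpr_dt (K16.f413557 IH) (Lpr_ct (K16.f413544 IH) (Lpr_dt (K2.f76918 IH) (Lpr_ct (K16.f73653 IH) (Lpr_dt (K16.f73668 IH) (Lpr_ct (K16.f73679 IH) (Lpr_dt (K16.f73922 IH) (Lpr_ct (K16.f73932 IH) (Lpr_dt (f73771 IH) (Lpr_ct (f73770 IH) (Lpe (K9.f73763 IH) (Lpr_ct (K2.f61426 IH) (Lpr_dt (K16.f61287 IH) (Lpr_ct (f61600 IH) (Lpn (LP (LK LD1_c5 LD2_c47 LD3_c12))))))))))))))))))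
theorem f414781 : Led Lsl_df (LP (LK LD1_c5 LD2_c51 LD3_c49)) = (LP (LK LD1_c6 LD2_c45 LD3_c56)) :=
  Lgr Lrot18 (Lpe (f73907 IH) (Lpe (f413559 IH) (Lpr_at (f414714 IH) (Lpn (LP (LK LD1_c6 LD2_c45 LD3_c56))))))
theorem f73658 : Led Lsl_ct (LP (LK LD1_c2 LD2_c52 LD3_c8)) = (LP (LK LD1_c5 LD2_c51 LD3_c49)) :=
  Lre_c IH (LK LD1_c2 LD2_c52 LD3_c8) (LK LD1_c5 LD2_c51 LD3_c49) Lrfl Lrfl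
theorem f73670 : Led Lsl_at (LP (LK LD1_c2 LD2_c49 LD3_c29)) = (LP (LK LD1_c2 LD2_c52 LD3_c8)) :=
  Lgr Lrot66 (Lpe (f61492 IH) (Lpr_af (K2.f73659 IH) (Lpe (K2.f73669 IH) (Lpn (LP (LK LD1_c2 LD2_c52 LD3_c8))))))
theorem f413638 : Led Lsl_gt (LP (LK LD1_c3 LD2_c21 LD3_c32)) = (LP (LK LD1_c2 LD2_c52 LD3_c8)) :=
  Lgr Lrot46 (Lpr_gf (K16.f413636 IH) (Lpr_ft (f61492 IH) (Lpr_at (f73670 IH) (Lpn (LP (LK LD1_c2 LD2_c52 LD3_c8))))))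
theorem f23199 : Led Lsl_ct (LP (LK LD1_c6 LD2_c46 LD3_c46)) = (LP (LK LD1_c3 LD2_c21 LD3_c32)) :=
  Lre_c IH (LK LD1_c6 LD2_c46 LD3_c46) (LK LD1_c3 LD2_c21 LD3_c32) Lrfl Lrfl
theorem f20135 : Led Lsl_gt (LP (LK LD1_c0 LD2_c40 LD3_c27)) = (LP (LK LD1_c1 LD2_c5 LD3_c43)) :=
  Lre_g IH (LK LD1_c0 LD2_c40 LD3_c27) (LK LD1_c1 LD2_c5 LD3_c43) Lrfl Lrfl
theorem f414275 : Led Lsl_ct (LP (LK LD1_c1 LD2_c5 LD3_c43)) = (LP (LK LD1_c2 LD2_c17 LD3_c39)) :=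
  Lre_c IH (LK LD1_c1 LD2_c5 LD3_c43) (LK LD1_c2 LD2_c17 LD3_c39) Lrfl Lrfl
theorem f414276 : Led Lsl_gf (LP (LK LD1_c1 LD2_c22 LD3_c4)) = (LP (LK LD1_c2 LD2_c17 LD3_c39)) :=
  Lgr Lrot104 (Lpe (K2.f73642 IH) (Lpr_df (K9.f73734 IH) (Lpe (K2.f73704 IH) (Lpr_gf (f414257 IH) (Lpe (f23194 IH) (Lpe (K0.f23214 IH) (Lpe (K0.f23215 IH) (Lpr_gt (f20135 IH) (Lpr_ct (f414275 IH) (Lpn (LP (LK LD1_c2 LD2_c17 LD3_c39))))))))))))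
theorem f414299 : Led Lsl_gt (LP (LK LD1_c2 LD2_c49 LD3_c30)) = (LP (LK LD1_c2 LD2_c17 LD3_c39)) :=
  Lgr Lrot5 (Lpr_ft (K2.f61431 IH) (Lpr_at (K2.f73633 IH) (Lpr_gf (f414276 IH) (Lpn (LP (LK LD1_c2 LD2_c17 LD3_c39))))))
theorem f413643 : Led Lsl_ct (LP (LK LD1_c3 LD2_c21 LD3_c32)) = (LP (LK LD1_c6 LD2_c46 LD3_c46)) :=
  Lre_c IH (LK LD1_c3 LD2_c21 LD3_c32) (LK LD1_c6 LD2_c46 LD3_c46) Lrfl Lrfl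
theorem f414307 : Led Lsl_ct (LP (LK LD1_c2 LD2_c17 LD3_c39)) = (LP (LK LD1_c1 LD2_c5 LD3_c43)) :=
  Lre_c IH (LK LD1_c2 LD2_c17 LD3_c39) (LK LD1_c1 LD2_c5 LD3_c43) Lrfl Lrfl
theorem f20092 : Led Lsl_gt (LP (LK LD1_c1 LD2_c5 LD3_c43)) = (LP (LK LD1_c0 LD2_c30 LD3_c2)) :=
  Lre_g IH (LK LD1_c1 LD2_c5 LD3_c43) (LK LD1_c0 LD2_c30 LD3_c2) Lrfl Lrfl
theorem f22866 : Led Lsl_ct (LP (LK LD1_c0 LD2_c30 LD3_c2)) = (LP (LK LD1_c1 LD2_c5 LD3_c41)) :=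
  Lre_c IH (LK LD1_c0 LD2_c30 LD3_c2) (LK LD1_c1 LD2_c5 LD3_c41) Lrfl Lrfl
theorem f22859 : Led Lsl_dt (LP (LK LD1_c2 LD2_c17 LD3_c32)) = (LP (LK LD1_c1 LD2_c5 LD3_c41)) :=
  Lre_d IH (LK LD1_c2 LD2_c17 LD3_c32) (LK LD1_c1 LD2_c5 LD3_c41) Lrfl Lrfl
theorem f22886 : Led Lsl_ct (LP (LK LD1_c4 LD2_c40 LD3_c61)) = (LP (LK LD1_c2 LD2_c17 LD3_c32)) :=
  Lre_c IH (LK LD1_c4 LD2_c40 LD3_c61) (LK LD1_c2 LD2_c17 LD3_c32) Lrfl Lrfl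
theorem f414360 : Led Lsl_gt (LP (LK LD1_c6 LD2_c46 LD3_c46)) = (LP (LK LD1_c4 LD2_c40 LD3_c61)) :=
  Lgr Lrot150 (Lpe (f413643 IH) (Lpr_gf (K16.f413636 IH) (Lpe (K2.f61479 IH) (Lpr_gt (f414299 IH) (Lpr_ct (f414307 IH) (Lpr_gt (f20092 IH) (Lpr_ct (f22866 IH) (Lpe (f22859 IH) (Lpe (f22886 IH) (Lpn (LP (LK LD1_c4 LD2_c40 LD3_c61))))))))))))
theorem f60008 : Led Lsl_at (LP (LK LD1_c3 LD2_c2 LD3_c41)) = (LP (LK LD1_c4 LD2_c40 LD3_c61)) :=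
  Lre_a IH (LK LD1_c3 LD2_c2 LD3_c41) (LK LD1_c4 LD2_c40 LD3_c61) Lrfl Lrfl
theorem f414410 : Led Lsl_gf (LP (LK LD1_c6 LD2_c46 LD3_c46)) = (LP (LK LD1_c4 LD2_c49 LD3_c39)) :=
  Lgr Lrot47 (Lpr_gt (f414360 IH) (Lpe (f60008 IH) (Lpe (K1.f59986 IH) (Lpn (LP (LK LD1_c4 LD2_c49 LD3_c39))))))
theorem f141078 : Led Lsl_dt (LP (LK LD1_c4 LD2_c49 LD3_c39)) = (LP (LK LD1_c2 LD2_c22 LD3_c34)) :=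
  Lre_d IH (LK LD1_c4 LD2_c49 LD3_c39) (LK LD1_c2 LD2_c22 LD3_c34) Lrfl Lrfl
theorem f414796 : Led Lsl_gf (LP (LK LD1_c4 LD2_c49 LD3_c47)) = (LP (LK LD1_c3 LD2_c24 LD3_c7)) :=
  Lgr Lrot172 (Lpr_ct (f414788 IH) (Lpe (f414781 IH) (Lpe (f73658 IH) (Lpe (f413638 IH) (Lpe (f23199 IH) (Lpr_gf (f414410 IH) (Lpr_dt (f141078 IH) (Lpr_gt (f27108 IH) (Lpe (f414440 IH) (Lpn (LP (LK LD1_c3 LD2_c24 LD3_c7))))))))))))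
theorem f80012 : Led Lsl_dt (LP (LK LD1_c2 LD2_c22 LD3_c34)) = (LP (LK LD1_c4 LD2_c49 LD3_c39)) :=
  Lre_d IH (LK LD1_c2 LD2_c22 LD3_c34) (LK LD1_c4 LD2_c49 LD3_c39) Lrfl Lrfl
theorem f414812 : Led Lsl_df (LP (LK LD1_c6 LD2_c45 LD3_c56)) = (LP (LK LD1_c5 LD2_c51 LD3_c49)) :=
  Lgr Lrot162 (Lpe (f414788 IH) (Lpr_gf (f414796 IH) (Lpr_cf (f414440 IH) (Lpe (f27108 IH) (Lpr_dt (f80012 IH) (Lpe (f414410 IH) (Lpr_ct (f23199 IH) (Lpr_gt (f413638 IH) (Lpr_ct (f73658 IH) (Lpn (LP (LK LD1_c5 LD2_c51 LD3_c49))))))))))))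
theorem f59831 : Led Lsl_ct (LP (LK LD1_c6 LD2_c12 LD3_c4)) = (LP (LK LD1_c3 LD2_c2 LD3_c35)) :=
  Lre_c IH (LK LD1_c6 LD2_c12 LD3_c4) (LK LD1_c3 LD2_c2 LD3_c35) Lrfl Lrfl
theorem f140030 : Led Lsl_ct (LP (LK LD1_c1 LD2_c27 LD3_c15)) = (LP (LK LD1_c1 LD2_c29 LD3_c37)) :=
  Lgr Lrot59 (Lpr_cf (K9.f140023 IH) (Lpn (LP (LK LD1_c1 LD2_c29 LD3_c37))))
theorem f23044 : Led Lsl_gt (LP (LK LD1_c1 LD2_c27 LD3_c17)) = (LP (LK LD1_c3 LD2_c2 LD3_c39)) :=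
  Lre_g IH (LK LD1_c1 LD2_c27 LD3_c17) (LK LD1_c3 LD2_c2 LD3_c39) Lrfl Lrfl
theorem f141009 : Led Lsl_ct (LP (LK LD1_c3 LD2_c2 LD3_c39)) = (LP (LK LD1_c6 LD2_c12 LD3_c9)) :=
  Lre_c IH (LK LD1_c3 LD2_c2 LD3_c39) (LK LD1_c6 LD2_c12 LD3_c9) Lrfl Lrfl
theorem f141010 : Led Lsl_gt (LP (LK LD1_c6 LD2_c12 LD3_c9)) = (LP (LK LD1_c6 LD2_c51 LD3_c18)) :=
  Lgr Lrot150 (Lpe (f141009 IH) (Lpe (f23044 IH) (Lpe (K0.f23043 IH) (Lpr_gt (K1.f59815 IH) (Lpr_ct (f140030 IH) (Lpr_gt (K9.f66977 IH) (Lpr_ct (K2.f61432 IH) (Lpe (f61480 IH) (Lpr_cf (K2.f73676 IH) (Lpn (LP (LK LD1_c6 LD2_c51 LD3_c18))))))))))))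
theorem f141017 : Led Lsl_ct (LP (LK LD1_c6 LD2_c12 LD3_c9)) = (LP (LK LD1_c3 LD2_c2 LD3_c39)) :=
  Lre_c IH (LK LD1_c6 LD2_c12 LD3_c9) (LK LD1_c3 LD2_c2 LD3_c39) Lrfl Lrfl
theorem f141018 : Led Lsl_gt (LP (LK LD1_c3 LD2_c2 LD3_c39)) = (LP (LK LD1_c4 LD2_c41 LD3_c0)) :=
  Lre_g IH (LK LD1_c3 LD2_c2 LD3_c39) (LK LD1_c4 LD2_c41 LD3_c0) Lrfl Lrfl
theorem f141019 : Led Lsl_dt (LP (LK LD1_c1 LD2_c27 LD3_c16)) = (LP (LK LD1_c3 LD2_c2 LD3_c37)) :=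
  Lre_d IH (LK LD1_c1 LD2_c27 LD3_c16) (LK LD1_c3 LD2_c2 LD3_c37) Lrfl Lrfl
theorem f141020 : Led Lsl_ct (LP (LK LD1_c3 LD2_c2 LD3_c37)) = (LP (LK LD1_c6 LD2_c12 LD3_c6)) :=
  Lre_c IH (LK LD1_c3 LD2_c2 LD3_c37) (LK LD1_c6 LD2_c12 LD3_c6) Lrfl Lrfl
theorem f414716 : Led Lsl_df (LP (LK LD1_c6 LD2_c12 LD3_c6)) = (LP (LK LD1_c3 LD2_c21 LD3_c1)) :=
  Lgr Lrot84 (Lpe (f141020 IH) (Lpe (f141019 IH) (Lpe (f59971 IH) (Lpe (K16.f59970 IH) (Lpe (f141018 IH) (Lpe (f141017 IH) (Lpr_gt (f141010 IH) (Lpr_dt (K2.f73695 IH) (Lpr_gt (f414710 IH) (Lpn (LP (LK LD1_c3 LD2_c21 LD3_c1))))))))))))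
theorem f141021 : Led Lsl_ct (LP (LK LD1_c6 LD2_c12 LD3_c6)) = (LP (LK LD1_c3 LD2_c2 LD3_c37)) :=
  Lre_c IH (LK LD1_c6 LD2_c12 LD3_c6) (LK LD1_c3 LD2_c2 LD3_c37) Lrfl Lrfl
theorem f140084 : Led Lsl_cf (LP (LK LD1_c3 LD2_c0 LD3_c48)) = (LP (LK LD1_c3 LD2_c6 LD3_c41)) :=
  Lgr Lrot11 (Lpr_ct (K9.f140051 IH) (Lpn (LP (LK LD1_c3 LD2_c6 LD3_c41))))
theorem f22948 : Led Lsl_ct (LP (LK LD1_c1 LD2_c36 LD3_c49)) = (LP (LK LD1_c3 LD2_c21 LD3_c5)) :=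
  Lre_c IH (LK LD1_c1 LD2_c36 LD3_c49) (LK LD1_c3 LD2_c21 LD3_c5) Lrfl Lrfl
theorem f140979 : Led Lsl_ct (LP (LK LD1_c1 LD2_c36 LD3_c48)) = (LP (LK LD1_c3 LD2_c21 LD3_c1)) :=
  Lre_c IH (LK LD1_c1 LD2_c36 LD3_c48) (LK LD1_c3 LD2_c21 LD3_c1) Lrfl Lrfl
theorem f186134 : Led Lsl_dt (LP (LK LD1_c3 LD2_c21 LD3_c2)) = (LP (LK LD1_c1 LD2_c36 LD3_c48)) :=
  Lre_d IH (LK LD1_c3 LD2_c21 LD3_c2) (LK LD1_c1 LD2_c36 LD3_c48) Lrfl Lrfl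
theorem f66980 : Led Lsl_dt (LP (LK LD1_c1 LD2_c29 LD3_c37)) = (LP (LK LD1_c3 LD2_c6 LD3_c60)) :=
  Lre_d IH (LK LD1_c1 LD2_c29 LD3_c37) (LK LD1_c3 LD2_c6 LD3_c60) Lrfl Lrfl
theorem f22972 : Led Lsl_dt (LP (LK LD1_c0 LD2_c19 LD3_c54)) = (LP (LK LD1_c0 LD2_c44 LD3_c50)) :=
  Lre_d IH (LK LD1_c0 LD2_c19 LD3_c54) (LK LD1_c0 LD2_c44 LD3_c50) Lrfl Lrfl
theorem f140978 : Led Lsl_gt (LP (LK LD1_c0 LD2_c44 LD3_c50)) = (LP (LK LD1_c1 LD2_c36 LD3_c48)) :=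
  Lre_g IH (LK LD1_c0 LD2_c44 LD3_c50) (LK LD1_c1 LD2_c36 LD3_c48) Lrfl Lrfl
theorem f186141 : Led Lsl_dt (LP (LK LD1_c1 LD2_c36 LD3_c48)) = (LP (LK LD1_c3 LD2_c21 LD3_c2)) :=
  Lre_d IH (LK LD1_c1 LD2_c36 LD3_c48) (LK LD1_c3 LD2_c21 LD3_c2) Lrfl Lrfl
theorem f414508 : Led Lsl_ct (LP (LK LD1_c3 LD2_c6 LD3_c60)) = (LP (LK LD1_c3 LD2_c21 LD3_c2)) :=
  Lgr Lrot7 (Lpe (f66980 IH) (Lpe (K9.f66976 IH) (Lpr_df (K9.f73734 IH) (Lpe (K11.f13561 IH) (Lpr_cf (f414496 IH) (Lpr_gt (f185972 IH) (Lpr_dt (f22972 IH) (Lpr_gt (f140978 IH) (Lpr_dt (f186141 IH) (Lpn (LP (LK LD1_c3 LD2_c21 LD3_c2))))))))))))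
theorem f59846 : Led Lsl_dt (LP (LK LD1_c3 LD2_c2 LD3_c35)) = (LP (LK LD1_c1 LD2_c27 LD3_c15)) :=
  Lre_d IH (LK LD1_c3 LD2_c2 LD3_c35) (LK LD1_c1 LD2_c27 LD3_c15) Lrfl Lrfl
theorem f414727 : Led Lsl_dt (LP (LK LD1_c3 LD2_c21 LD3_c5)) = (LP (LK LD1_c6 LD2_c12 LD3_c4)) :=
  Lgr Lrot173 (Lpe (f22948 IH) (Lpe (K0.f22942 IH) (Lpr_cf (f140084 IH) (Lpe (K9.f79732 IH) (Lpr_cf (f414630 IH) (Lpe (K16.f59972 IH) (Lpe (f141021 IH) (Lpr_df (f414716 IH) (Lpe (f140979 IH) (Lpe (f186134 IH) (Lpe (f414508 IH) (Lpe (f66980 IH) (Lpe (f140030 IH) (Lpe (f59846 IH) (Lpe (f59831 IH) (Lpn (LP (LK LD1_c6 LD2_c12 LD3_c4))))))))))))))))))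
theorem f414816 : Led Lsl_gt (LP (LK LD1_c6 LD2_c45 LD3_c56)) = (LP (LK LD1_c3 LD2_c21 LD3_c5)) :=
  Lgr Lrot49 (Lpr_df (f414812 IH) (Lpr_gf (f414675 IH) (Lpe (f27124 IH) (Lpr_gt (K0.f27133 IH) (Lpr_dt (K16.f27134 IH) (Lpr_gt (K1.f59815 IH) (Lpr_dt (K16.f59826 IH) (Lpe (f59831 IH) (Lpe (f414727 IH) (Lpn (LP (LK LD1_c3 LD2_c21 LD3_c5))))))))))))
theorem f22960 : Led Lsl_ct (LP (LK LD1_c3 LD2_c21 LD3_c5)) = (LP (LK LD1_c1 LD2_c36 LD3_c49)) :=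
  Lre_c IH (LK LD1_c3 LD2_c21 LD3_c5) (LK LD1_c1 LD2_c36 LD3_c49) Lrfl Lrfl
theorem f67205 : Led Lsl_ct (LP (LK LD1_c6 LD2_c27 LD3_c2)) = (LP (LK LD1_c3 LD2_c11 LD3_c24)) :=
  Lre_c IH (LK LD1_c6 LD2_c27 LD3_c2) (LK LD1_c3 LD2_c11 LD3_c24) Lrfl Lrfl
theorem f414818 : Led Lsl_gt (LP (LK LD1_c4 LD2_c41 LD3_c7)) = (LP (LK LD1_c6 LD2_c27 LD3_c2)) :=
  Lgr Lrot9 (Lpe (f414273 IH) (Lpe (f414796 IH) (Lpr_ct (f414788 IH) (Lpr_gt (f414816 IH) (Lpr_ct (f22960 IH) (Lpe (K0.f22942 IH) (Lpr_cf (f140084 IH) (Lpr_gf (K9.f67311 IH) (Lpe (f67205 IH) (Lpn (LP (LK LD1_c6 LD2_c27 LD3_c2))))))))))))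
theorem f180336 : Led Lsl_dt (LP (LK LD1_c1 LD2_c34 LD3_c12)) = (LP (LK LD1_c1 LD2_c36 LD3_c61)) :=
  Lre_d IH (LK LD1_c1 LD2_c34 LD3_c12) (LK LD1_c1 LD2_c36 LD3_c61) Lrfl Lrfl
theorem f140058 : Led Lsl_ct (LP (LK LD1_c0 LD2_c31 LD3_c20)) = (LP (LK LD1_c1 LD2_c8 LD3_c24)) :=
  Lre_c IH (LK LD1_c0 LD2_c31 LD3_c20) (LK LD1_c1 LD2_c8 LD3_c24) Lrfl Lrfl
theorem f23204 : Led Lsl_dt (LP (LK LD1_c0 LD2_c44 LD3_c54)) = (LP (LK LD1_c0 LD2_c19 LD3_c55)) :=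
  Lre_d IH (LK LD1_c0 LD2_c44 LD3_c54) (LK LD1_c0 LD2_c19 LD3_c55) Lrfl Lrfl
theorem f180332 : Led Lsl_gt (LP (LK LD1_c0 LD2_c44 LD3_c54)) = (LP (LK LD1_c1 LD2_c36 LD3_c61)) :=
  Lre_g IH (LK LD1_c0 LD2_c44 LD3_c54) (LK LD1_c1 LD2_c36 LD3_c61) Lrfl Lrfl
theorem f414510 : Led Lsl_ct (LP (LK LD1_c1 LD2_c36 LD3_c61)) = (LP (LK LD1_c3 LD2_c21 LD3_c33)) :=
  Lre_c IH (LK LD1_c1 LD2_c36 LD3_c61) (LK LD1_c3 LD2_c21 LD3_c33) Lrfl Lrfl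
theorem f414511 : Led Lsl_gf (LP (LK LD1_c2 LD2_c22 LD3_c28)) = (LP (LK LD1_c3 LD2_c21 LD3_c33)) :=
  Lgr Lrot104 (Lpr_ct (K9.f139994 IH) (Lpe (K9.f13574 IH) (Lpr_cf (f414496 IH) (Lpe (f186139 IH) (Lpe (f140058 IH) (Lpe (K0.f23218 IH) (Lpe (f23204 IH) (Lpr_gt (f180332 IH) (Lpr_ct (f414510 IH) (Lpn (LP (LK LD1_c3 LD2_c21 LD3_c33))))))))))))
theorem f24629 : Led Lsl_dt (LP (LK LD1_c0 LD2_c8 LD3_c56)) = (LP (LK LD1_c0 LD2_c18 LD3_c5)) :=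
  Lre_d IH (LK LD1_c0 LD2_c8 LD3_c56) (LK LD1_c0 LD2_c18 LD3_c5) Lrfl Lrfl
theorem f414522 : Led Lsl_gf (LP (LK LD1_c0 LD2_c44 LD3_c58)) = (LP (LK LD1_c1 LD2_c36 LD3_c61)) :=
  Lgr Lrot144 (Lpr_dt (K16.f27137 IH) (Lpr_gt (f27136 IH) (Lpr_dt (f24629 IH) (Lpe (f27139 IH) (Lpe (K16.f27134 IH) (Lpe (K0.f27133 IH) (Lpe (K0.f27118 IH) (Lpr_gf (f414511 IH) (Lpe (f414510 IH) (Lpn (LP (LK LD1_c1 LD2_c36 LD3_c61))))))))))))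
theorem f67050 : Led Lsl_dt (LP (LK LD1_c1 LD2_c32 LD3_c5)) = (LP (LK LD1_c3 LD2_c11 LD3_c24)) :=
  Lre_d IH (LK LD1_c1 LD2_c32 LD3_c5) (LK LD1_c3 LD2_c11 LD3_c24) Lrfl Lrfl
theorem f414832 : Led Lsl_ct (LP (LK LD1_c3 LD2_c11 LD3_c22)) = (LP (LK LD1_c1 LD2_c32 LD3_c5)) :=
  Lre_c IH (LK LD1_c3 LD2_c11 LD3_c22) (LK LD1_c1 LD2_c32 LD3_c5) Lrfl Lrfl
theorem f414833 : Led Lsl_gt (LP (LK LD1_c1 LD2_c37 LD3_c12)) = (LP (LK LD1_c3 LD2_c11 LD3_c22)) :=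
  Lgr Lrot150 (Lpe (K16.f413535 IH) (Lpr_gf (f414522 IH) (Lpe (f180336 IH) (Lpr_gt (f180320 IH) (Lpr_ct (f180337 IH) (Lpr_gt (f414818 IH) (Lpr_ct (f67205 IH) (Lpe (f67050 IH) (Lpe (f414832 IH) (Lpn (LP (LK LD1_c3 LD2_c11 LD3_c22))))))))))))
theorem f414836 : Led Lsl_dt (LP (LK LD1_c3 LD2_c11 LD3_c22)) = (LP (LK LD1_c6 LD2_c26 LD3_c61)) :=
  Lre_d IH (LK LD1_c3 LD2_c11 LD3_c22) (LK LD1_c6 LD2_c26 LD3_c61) Lrfl Lrfl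
theorem f413652 : Led Lsl_gf (LP (LK LD1_c2 LD2_c17 LD3_c35)) = (LP (LK LD1_c1 LD2_c22 LD3_c4)) :=
  Lgr Lrot47 (Lpr_gt (K16.f413640 IH) (Lpr_af (K2.f73647 IH) (Lpe (K2.f73646 IH) (Lpn (LP (LK LD1_c1 LD2_c22 LD3_c4))))))
theorem f413654 : Led Lsl_dt (LP (LK LD1_c2 LD2_c17 LD3_c35)) = (LP (LK LD1_c4 LD2_c41 LD3_c5)) :=
  Lre_d IH (LK LD1_c2 LD2_c17 LD3_c35) (LK LD1_c4 LD2_c41 LD3_c5) Lrfl Lrfl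
theorem f67051 : Led Lsl_gt (LP (LK LD1_c3 LD2_c6 LD3_c60)) = (LP (LK LD1_c3 LD2_c11 LD3_c24)) :=
  Lgr Lrot139 (Lpe (f66980 IH) (Lpe (K9.f66976 IH) (Lpe (K2.f66945 IH) (Lpr_dt (K2.f25184 IH) (Lpr_gf (K1.f67039 IH) (Lpe (K1.f58928 IH) (Lpr_et (K11.f61678 IH) (Lpe (K9.f67048 IH) (Lpe (K9.f67049 IH) (Lpr_dt (f67050 IH) (Lpn (LP (LK LD1_c3 LD2_c11 LD3_c24)))))))))))))
theorem f79835 : Led Lsl_dt (LP (LK LD1_c6 LD2_c26 LD3_c61)) = (LP (LK LD1_c3 LD2_c11 LD3_c22)) :=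
  Lre_d IH (LK LD1_c6 LD2_c26 LD3_c61) (LK LD1_c3 LD2_c11 LD3_c22) Lrfl Lrfl
theorem f416244 : Led Lsl_gt (LP (LK LD1_c4 LD2_c41 LD3_c5)) = (LP (LK LD1_c6 LD2_c26 LD3_c61)) :=
  Lgr Lrot49 (Lpe (f413654 IH) (Lpr_gf (f413652 IH) (Lpe (K9.f68324 IH) (Lpr_gt (K9.f66976 IH) (Lpr_dt (f66980 IH) (Lpr_gt (f67051 IH) (Lpr_dt (K9.f67188 IH) (Lpe (f414832 IH) (Lpe (f79835 IH) (Lpn (LP (LK LD1_c6 LD2_c26 LD3_c61))))))))))))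
theorem f416249 : Led Lsl_et (LP (LK LD1_c3 LD2_c11 LD3_c22)) = (LP (LK LD1_c1 LD2_c32 LD3_c3)) :=
  Lre_e IH (LK LD1_c3 LD2_c11 LD3_c22) (LK LD1_c1 LD2_c32 LD3_c3) Lrfl Lrfl
theorem f59656 : Led Lsl_et (LP (LK LD1_c0 LD2_c37 LD3_c59)) = (LP (LK LD1_c1 LD2_c22 LD3_c4)) :=
  Lre_e IH (LK LD1_c0 LD2_c37 LD3_c59) (LK LD1_c1 LD2_c22 LD3_c4) Lrfl Lrfl
theorem f416250 : Led Lsl_gt (LP (LK LD1_c1 LD2_c32 LD3_c3)) = (LP (LK LD1_c1 LD2_c4 LD3_c0)) :=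
  Lgr Lrot131 (Lpe (f416249 IH) (Lpr_dt (f414836 IH) (Lpe (f416244 IH) (Lpe (f413654 IH) (Lpr_gf (f413652 IH) (Lpe (f59656 IH) (Lpr_dt (K4.f59645 IH) (Lpe (K2.f68328 IH) (Lpe (K2.f21213 IH) (Lpr_et (K6.f37271 IH) (Lpn (LP (LK LD1_c1 LD2_c4 LD3_c0)))))))))))))
theorem f155862 : Led Lsl_dt (LP (LK LD1_c3 LD2_c11 LD3_c21)) = (LP (LK LD1_c1 LD2_c32 LD3_c3)) :=
  Lre_d IH (LK LD1_c3 LD2_c11 LD3_c21) (LK LD1_c1 LD2_c32 LD3_c3) Lrfl Lrfl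
theorem f416359 : Led Lsl_et (LP (LK LD1_c3 LD2_c11 LD3_c21)) = (LP (LK LD1_c6 LD2_c26 LD3_c60)) :=
  Lre_e IH (LK LD1_c3 LD2_c11 LD3_c21) (LK LD1_c6 LD2_c26 LD3_c60) Lrfl Lrfl
theorem f301917 : Led Lsl_dt (LP (LK LD1_c2 LD2_c13 LD3_c57)) = (LP (LK LD1_c1 LD2_c4 LD3_c0)) :=
  Lre_d IH (LK LD1_c2 LD2_c13 LD3_c57) (LK LD1_c1 LD2_c4 LD3_c0) Lrfl Lrfl
theorem f301916 : Led Lsl_et (LP (LK LD1_c2 LD2_c13 LD3_c57)) = (LP (LK LD1_c1 LD2_c4 LD3_c1)) :=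
  Lre_e IH (LK LD1_c2 LD2_c13 LD3_c57) (LK LD1_c1 LD2_c4 LD3_c1) Lrfl Lrfl
theorem f37274 : Led Lsl_gt (LP (LK LD1_c1 LD2_c4 LD3_c1)) = (LP (LK LD1_c2 LD2_c13 LD3_c59)) :=
  Lre_g IH (LK LD1_c1 LD2_c4 LD3_c1) (LK LD1_c2 LD2_c13 LD3_c59) Lrfl Lrfl
theorem f232798 : Led Lsl_bt (LP (LK LD1_c11 LD2_c51 LD3_c60)) = (LP (LK LD1_c6 LD2_c4 LD3_c16)) :=
  Lre_b IH (LK LD1_c11 LD2_c51 LD3_c60) (LK LD1_c6 LD2_c4 LD3_c16) Lrfl Lrfl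
theorem f270738 : Led Lsl_ct (LP (LK LD1_c7 LD2_c55 LD3_c51)) = (LP (LK LD1_c11 LD2_c51 LD3_c60)) :=
  Lgr Lrot83 (Lpe (K16.f236490 IH) (Lpr_cf (K13.f236484 IH) (Lpe (K12.f29646 IH) (Lpr_cf (K16.f270734 IH) (Lpe (f232798 IH) (Lpn (LP (LK LD1_c11 LD2_c51 LD3_c60))))))))
theorem f38970 : Led Lsl_ct (LP (LK LD1_c8 LD2_c41 LD3_c56)) = (LP (LK LD1_c4 LD2_c22 LD3_c3)) :=
  Lre_c IH (LK LD1_c8 LD2_c41 LD3_c56) (LK LD1_c4 LD2_c22 LD3_c3) Lrfl Lrfl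
theorem f280124 : Led Lsl_ft (LP (LK LD1_c11 LD2_c51 LD3_c60)) = (LP (LK LD1_c8 LD2_c41 LD3_c56)) :=
  Lgr Lrot4 (Lpe (f270738 IH) (Lpr_ff (K16.f280108 IH) (Lpe (f38970 IH) (Lpn (LP (LK LD1_c8 LD2_c41 LD3_c56))))))
theorem f282004 : Led Lsl_ff (LP (LK LD1_c11 LD2_c51 LD3_c60)) = (LP (LK LD1_c8 LD2_c41 LD3_c56)) :=
  Lgr Lrot3 (Lpr_ft (f280124 IH) (Lpn (LP (LK LD1_c8 LD2_c41 LD3_c56))))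
theorem f282010 : Led Lsl_at (LP (LK LD1_c11 LD2_c51 LD3_c60)) = (LP (LK LD1_c20 LD2_c54 LD3_c39)) :=
  Lre_a IH (LK LD1_c11 LD2_c51 LD3_c60) (LK LD1_c20 LD2_c54 LD3_c39) Lrfl Lrfl
theorem f237560 : Led Lsl_at (LP (LK LD1_c16 LD2_c17 LD3_c32)) = (LP (LK LD1_c8 LD2_c41 LD3_c56)) :=
  Lre_a IH (LK LD1_c16 LD2_c17 LD3_c32) (LK LD1_c8 LD2_c41 LD3_c56) Lrfl Lrfl
theorem f282011 : Led Lsl_ft (LP (LK LD1_c20 LD2_c54 LD3_c39)) = (LP (LK LD1_c16 LD2_c17 LD3_c32)) :=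
  Lgr Lrot101 (Lpe (f282010 IH) (Lpr_ff (f282004 IH) (Lpe (f237560 IH) (Lpn (LP (LK LD1_c16 LD2_c17 LD3_c32))))))
theorem f280103 : Led Lsl_ct (LP (LK LD1_c16 LD2_c17 LD3_c32)) = (LP (LK LD1_c8 LD2_c41 LD3_c55)) :=
  Lre_c IH (LK LD1_c16 LD2_c17 LD3_c32) (LK LD1_c8 LD2_c41 LD3_c55) Lrfl Lrfl
theorem f280112 : Led Lsl_ff (LP (LK LD1_c14 LD2_c57 LD3_c36)) = (LP (LK LD1_c8 LD2_c41 LD3_c55)) :=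
  Lgr Lrot3 (Lpr_ft (K16.f280097 IH) (Lpn (LP (LK LD1_c8 LD2_c41 LD3_c55))))
theorem f282017 : Led Lsl_cf (LP (LK LD1_c20 LD2_c54 LD3_c39)) = (LP (LK LD1_c14 LD2_c57 LD3_c36)) :=
  Lgr Lrot108 (Lpr_ft (f282011 IH) (Lpr_ct (f280103 IH) (Lpe (f280112 IH) (Lpn (LP (LK LD1_c14 LD2_c57 LD3_c36))))))
theorem f282024 : Led Lsl_ct (LP (LK LD1_c20 LD2_c54 LD3_c39)) = (LP (LK LD1_c14 LD2_c57 LD3_c36)) :=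
  Lgr Lrot59 (Lpr_cf (f282017 IH) (Lpn (LP (LK LD1_c14 LD2_c57 LD3_c36))))
theorem f270806 : Led Lsl_at (LP (LK LD1_c20 LD2_c54 LD3_c39)) = (LP (LK LD1_c11 LD2_c51 LD3_c60)) :=
  Lre_a IH (LK LD1_c20 LD2_c54 LD3_c39) (LK LD1_c11 LD2_c51 LD3_c60) Lrfl Lrfl
theorem f52212 : Led Lsl_bt (LP (LK LD1_c4 LD2_c9 LD3_c40)) = (LP (LK LD1_c2 LD2_c2 LD3_c6)) :=
  Lre_b IH (LK LD1_c4 LD2_c9 LD3_c40) (LK LD1_c2 LD2_c2 LD3_c6) Lrfl Lrfl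
theorem f256047 : Led Lsl_ct (LP (LK LD1_c8 LD2_c19 LD3_c23)) = (LP (LK LD1_c4 LD2_c9 LD3_c40)) :=
  Lre_c IH (LK LD1_c8 LD2_c19 LD3_c23) (LK LD1_c4 LD2_c9 LD3_c40) Lrfl Lrfl
theorem f258433 : Led Lsl_bt (LP (LK LD1_c6 LD2_c4 LD3_c20)) = (LP (LK LD1_c8 LD2_c19 LD3_c23)) :=
  Lgr Lrot128 (Lpr_cf (K15.f258431 IH) (Lpr_bf (K14.f256042 IH) (Lpe (K15.f217108 IH) (Lpe (f52212 IH) (Lpe (f256047 IH) (Lpn (LP (LK LD1_c8 LD2_c19 LD3_c23))))))))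
theorem f270807 : Led Lsl_at (LP (LK LD1_c8 LD2_c19 LD3_c23)) = (LP (LK LD1_c15 LD2_c39 LD3_c20)) :=
  Lre_a IH (LK LD1_c8 LD2_c19 LD3_c23) (LK LD1_c15 LD2_c39 LD3_c20) Lrfl Lrfl
theorem f270808 : Led Lsl_bf (LP (LK LD1_c20 LD2_c54 LD3_c39)) = (LP (LK LD1_c15 LD2_c39 LD3_c20)) :=
  Lgr Lrot81 (Lpr_at (f270806 IH) (Lpr_bt (f232798 IH) (Lpr_at (K16.f270804 IH) (Lpr_bt (f258433 IH) (Lpr_at (f270807 IH) (Lpn (LP (LK LD1_c15 LD2_c39 LD3_c20))))))))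
theorem f273796 : Led Lsl_ct (LP (LK LD1_c8 LD2_c19 LD3_c22)) = (LP (LK LD1_c15 LD2_c39 LD3_c20)) :=
  Lre_c IH (LK LD1_c8 LD2_c19 LD3_c22) (LK LD1_c15 LD2_c39 LD3_c20) Lrfl Lrfl
theorem f280150 : Led Lsl_ft (LP (LK LD1_c11 LD2_c15 LD3_c41)) = (LP (LK LD1_c16 LD2_c17 LD3_c41)) :=
  Lgr Lrot48 (Lpr_ff (K16.f280138 IH) (Lpn (LP (LK LD1_c16 LD2_c17 LD3_c41))))
theorem f172805 : Led Lsl_at (LP (LK LD1_c20 LD2_c11 LD3_c8)) = (LP (LK LD1_c11 LD2_c15 LD3_c41)) :=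
  Lre_a IH (LK LD1_c20 LD2_c11 LD3_c8) (LK LD1_c11 LD2_c15 LD3_c41) Lrfl Lrfl
theorem f280154 : Led Lsl_at (LP (LK LD1_c16 LD2_c17 LD3_c41)) = (LP (LK LD1_c26 LD2_c15 LD3_c26)) :=
  Lre_a IH (LK LD1_c16 LD2_c17 LD3_c41) (LK LD1_c26 LD2_c15 LD3_c26) Lrfl Lrfl
theorem f280155 : Led Lsl_ff (LP (LK LD1_c20 LD2_c11 LD3_c8)) = (LP (LK LD1_c26 LD2_c15 LD3_c26)) :=
  Lgr Lrot30 (Lpr_at (f172805 IH) (Lpr_ft (f280150 IH) (Lpr_at (f280154 IH) (Lpn (LP (LK LD1_c26 LD2_c15 LD3_c26))))))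
theorem f172808 : Led Lsl_ct (LP (LK LD1_c9 LD2_c45 LD3_c5)) = (LP (LK LD1_c11 LD2_c15 LD3_c41)) :=
  Lgr Lrot59 (Lpr_cf (K16.f172756 IH) (Lpn (LP (LK LD1_c11 LD2_c15 LD3_c41))))
theorem f172812 : Led Lsl_at (LP (LK LD1_c17 LD2_c54 LD3_c38)) = (LP (LK LD1_c9 LD2_c45 LD3_c5)) :=
  Lre_a IH (LK LD1_c17 LD2_c54 LD3_c38) (LK LD1_c9 LD2_c45 LD3_c5) Lrfl Lrfl
theorem f172821 : Led Lsl_at (LP (LK LD1_c11 LD2_c15 LD3_c41)) = (LP (LK LD1_c20 LD2_c11 LD3_c8)) :=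
  Lre_a IH (LK LD1_c11 LD2_c15 LD3_c41) (LK LD1_c20 LD2_c11 LD3_c8) Lrfl Lrfl
theorem f172822 : Led Lsl_cf (LP (LK LD1_c17 LD2_c54 LD3_c38)) = (LP (LK LD1_c20 LD2_c11 LD3_c8)) :=
  Lgr Lrot1 (Lpr_at (f172812 IH) (Lpr_ct (f172808 IH) (Lpr_at (f172821 IH) (Lpn (LP (LK LD1_c20 LD2_c11 LD3_c8))))))
theorem f280122 : Led Lsl_ct (LP (LK LD1_c16 LD2_c17 LD3_c33)) = (LP (LK LD1_c26 LD2_c15 LD3_c26)) :=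
  Lre_c IH (LK LD1_c16 LD2_c17 LD3_c33) (LK LD1_c26 LD2_c15 LD3_c26) Lrfl Lrfl
theorem f280175 : Led Lsl_ft (LP (LK LD1_c17 LD2_c54 LD3_c38)) = (LP (LK LD1_c16 LD2_c17 LD3_c33)) :=
  Lgr Lrot4 (Lpr_cf (f172822 IH) (Lpr_ff (f280155 IH) (Lpe (f280122 IH) (Lpn (LP (LK LD1_c16 LD2_c17 LD3_c33))))))
theorem f280118 : Led Lsl_dt (LP (LK LD1_c16 LD2_c17 LD3_c33)) = (LP (LK LD1_c8 LD2_c41 LD3_c55)) :=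
  Lre_d IH (LK LD1_c16 LD2_c17 LD3_c33) (LK LD1_c8 LD2_c41 LD3_c55) Lrfl Lrfl
theorem f280180 : Led Lsl_df (LP (LK LD1_c17 LD2_c54 LD3_c38)) = (LP (LK LD1_c14 LD2_c57 LD3_c36)) :=
  Lgr Lrot78 (Lpr_ft (f280175 IH) (Lpr_dt (f280118 IH) (Lpe (f280112 IH) (Lpn (LP (LK LD1_c14 LD2_c57 LD3_c36))))))
theorem f280189 : Led Lsl_bt (LP (LK LD1_c17 LD2_c54 LD3_c38)) = (LP (LK LD1_c16 LD2_c17 LD3_c12)) :=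
  Lgr Lrot95 (Lpr_df (f280180 IH) (Lpr_bf (K16.f241665 IH) (Lpe (K16.f279991 IH) (Lpn (LP (LK LD1_c16 LD2_c17 LD3_c12))))))
theorem f280135 : Led Lsl_at (LP (LK LD1_c8 LD2_c41 LD3_c57)) = (LP (LK LD1_c16 LD2_c17 LD3_c33)) :=
  Lre_a IH (LK LD1_c8 LD2_c41 LD3_c57) (LK LD1_c16 LD2_c17 LD3_c33) Lrfl Lrfl
theorem f280136 : Led Lsl_ff (LP (LK LD1_c17 LD2_c54 LD3_c38)) = (LP (LK LD1_c16 LD2_c17 LD3_c33)) :=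
  Lgr Lrot30 (Lpr_at (f172812 IH) (Lpr_ft (K16.f280126 IH) (Lpr_at (f280135 IH) (Lpn (LP (LK LD1_c16 LD2_c17 LD3_c33))))))
theorem f280003 : Led Lsl_at (LP (LK LD1_c24 LD2_c45 LD3_c5)) = (LP (LK LD1_c14 LD2_c57 LD3_c43)) :=
  Lre_a IH (LK LD1_c24 LD2_c45 LD3_c5) (LK LD1_c14 LD2_c57 LD3_c43) Lrfl Lrfl
theorem f280004 : Led Lsl_ff (LP (LK LD1_c24 LD2_c45 LD3_c5)) = (LP (LK LD1_c16 LD2_c17 LD3_c12)) :=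
  Lgr Lrot30 (Lpr_at (f280003 IH) (Lpr_ft (K16.f279999 IH) (Lpr_at (K16.f279998 IH) (Lpn (LP (LK LD1_c16 LD2_c17 LD3_c12))))))
theorem f280195 : Led Lsl_bf (LP (LK LD1_c16 LD2_c17 LD3_c33)) = (LP (LK LD1_c24 LD2_c45 LD3_c5)) :=
  Lgr Lrot61 (Lpe (f280136 IH) (Lpr_bt (f280189 IH) (Lpe (f280004 IH) (Lpn (LP (LK LD1_c24 LD2_c45 LD3_c5))))))
theorem f280197 : Led Lsl_bt (LP (LK LD1_c16 LD2_c17 LD3_c33)) = (LP (LK LD1_c24 LD2_c45 LD3_c5)) :=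
  Lgr Lrot127 (Lpr_bf (f280195 IH) (Lpn (LP (LK LD1_c24 LD2_c45 LD3_c5))))
theorem f280110 : Led Lsl_dt (LP (LK LD1_c8 LD2_c41 LD3_c55)) = (LP (LK LD1_c16 LD2_c17 LD3_c33)) :=
  Lre_d IH (LK LD1_c8 LD2_c41 LD3_c55) (LK LD1_c16 LD2_c17 LD3_c33) Lrfl Lrfl
theorem f236723 : Led Lsl_dt (LP (LK LD1_c24 LD2_c45 LD3_c5)) = (LP (LK LD1_c14 LD2_c57 LD3_c42)) :=
  Lre_d IH (LK LD1_c24 LD2_c45 LD3_c5) (LK LD1_c14 LD2_c57 LD3_c42) Lrfl Lrfl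
theorem f280201 : Led Lsl_bf (LP (LK LD1_c8 LD2_c41 LD3_c55)) = (LP (LK LD1_c14 LD2_c57 LD3_c42)) :=
  Lgr Lrot93 (Lpr_dt (f280110 IH) (Lpr_bt (f280197 IH) (Lpr_dt (f236723 IH) (Lpn (LP (LK LD1_c14 LD2_c57 LD3_c42))))))
theorem f280205 : Led Lsl_bt (LP (LK LD1_c14 LD2_c57 LD3_c36)) = (LP (LK LD1_c8 LD2_c41 LD3_c47)) :=
  Lgr Lrot35 (Lpr_ff (f280112 IH) (Lpr_bf (f280201 IH) (Lpe (K16.f280088 IH) (Lpn (LP (LK LD1_c8 LD2_c41 LD3_c47))))))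
theorem f282026 : Led Lsl_bf (LP (LK LD1_c8 LD2_c19 LD3_c22)) = (LP (LK LD1_c15 LD2_c34 LD3_c10)) :=
  Lgr Lrot90 (Lpr_ct (f273796 IH) (Lpe (f270808 IH) (Lpr_ct (f282024 IH) (Lpr_bt (f280205 IH) (Lpr_ct (K16.f279969 IH) (Lpn (LP (LK LD1_c15 LD2_c34 LD3_c10))))))))
theorem f273679 : Led Lsl_dt (LP (LK LD1_c5 LD2_c30 LD3_c7)) = (LP (LK LD1_c10 LD2_c51 LD3_c41)) :=
  Lre_d IH (LK LD1_c5 LD2_c30 LD3_c7) (LK LD1_c10 LD2_c51 LD3_c41) Lrfl Lrfl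
theorem f273696 : Led Lsl_ct (LP (LK LD1_c10 LD2_c51 LD3_c41)) = (LP (LK LD1_c19 LD2_c38 LD3_c7)) :=
  Lre_c IH (LK LD1_c10 LD2_c51 LD3_c41) (LK LD1_c19 LD2_c38 LD3_c7) Lrfl Lrfl
theorem f247158 : Led Lsl_at (LP (LK LD1_c24 LD2_c54 LD3_c44)) = (LP (LK LD1_c15 LD2_c6 LD3_c42)) :=
  Lre_a IH (LK LD1_c24 LD2_c54 LD3_c44) (LK LD1_c15 LD2_c6 LD3_c42) Lrfl Lrfl
theorem f247118 : Led Lsl_af (LP (LK LD1_c4 LD2_c52 LD3_c58)) = (LP (LK LD1_c8 LD2_c1 LD3_c30)) :=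
  Lgr Lrot117 (Lpe (K16.f239871 IH) (Lpr_at (K16.f247035 IH) (Lpr_dt (K15.f247086 IH) (Lpn (LP (LK LD1_c8 LD2_c1 LD3_c30))))))
theorem f170366 : Led Lsl_bt (LP (LK LD1_c4 LD2_c52 LD3_c58)) = (LP (LK LD1_c9 LD2_c37 LD3_c45)) :=
  Lre_b IH (LK LD1_c4 LD2_c52 LD3_c58) (LK LD1_c9 LD2_c37 LD3_c45) Lrfl Lrfl
theorem f258475 : Led Lsl_at (LP (LK LD1_c9 LD2_c37 LD3_c45)) = (LP (LK LD1_c15 LD2_c39 LD3_c35)) :=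
  Lgr Lrot67 (Lpe (f170366 IH) (Lpr_af (f247118 IH) (Lpe (K16.f247127 IH) (Lpe (f247158 IH) (Lpr_bf (K15.f258473 IH) (Lpn (LP (LK LD1_c15 LD2_c39 LD3_c35))))))))
theorem f258479 : Led Lsl_dt (LP (LK LD1_c15 LD2_c39 LD3_c45)) = (LP (LK LD1_c8 LD2_c19 LD3_c31)) :=
  Lre_d IH (LK LD1_c15 LD2_c39 LD3_c45) (LK LD1_c8 LD2_c19 LD3_c31) Lrfl Lrfl
theorem f273697 : Led Lsl_ct (LP (LK LD1_c25 LD2_c35 LD3_c5)) = (LP (LK LD1_c15 LD2_c39 LD3_c45)) :=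
  Lre_c IH (LK LD1_c25 LD2_c35 LD3_c5) (LK LD1_c15 LD2_c39 LD3_c45) Lrfl Lrfl
theorem f273698 : Led Lsl_dt (LP (LK LD1_c19 LD2_c38 LD3_c7)) = (LP (LK LD1_c25 LD2_c35 LD3_c5)) :=
  Lgr Lrot140 (Lpe (f273696 IH) (Lpe (f273679 IH) (Lpr_cf (K16.f273689 IH) (Lpe (K15.f170349 IH) (Lpr_ft (K15.f170351 IH) (Lpr_at (f258475 IH) (Lpe (K15.f258472 IH) (Lpe (f258479 IH) (Lpe (f273697 IH) (Lpn (LP (LK LD1_c25 LD2_c35 LD3_c5))))))))))))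
theorem f273704 : Led Lsl_df (LP (LK LD1_c19 LD2_c38 LD3_c7)) = (LP (LK LD1_c25 LD2_c35 LD3_c5)) :=
  Lgr Lrot38 (Lpr_dt (f273698 IH) (Lpn (LP (LK LD1_c25 LD2_c35 LD3_c5))))
theorem f273700 : Led Lsl_ct (LP (LK LD1_c19 LD2_c38 LD3_c7)) = (LP (LK LD1_c10 LD2_c51 LD3_c41)) :=
  Lre_c IH (LK LD1_c19 LD2_c38 LD3_c7) (LK LD1_c10 LD2_c51 LD3_c41) Lrfl Lrfl
theorem f273691 : Led Lsl_dt (LP (LK LD1_c10 LD2_c51 LD3_c41)) = (LP (LK LD1_c5 LD2_c30 LD3_c7)) :=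
  Lre_d IH (LK LD1_c10 LD2_c51 LD3_c41) (LK LD1_c5 LD2_c30 LD3_c7) Lrfl Lrfl
theorem f273677 : Led Lsl_ct (LP (LK LD1_c5 LD2_c30 LD3_c7)) = (LP (LK LD1_c9 LD2_c37 LD3_c44)) :=
  Lgr Lrot15 (Lpr_ef (K16.f273661 IH) (Lpr_cf (K15.f257820 IH) (Lpe (K15.f257862 IH) (Lpn (LP (LK LD1_c9 LD2_c37 LD3_c44))))))
theorem f1304 : Led Lsl_dt (LP (LK LD1_c8 LD2_c16 LD3_c50)) = (LP (LK LD1_c15 LD2_c34 LD3_c14)) :=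
  Lre_d IH (LK LD1_c8 LD2_c16 LD3_c50) (LK LD1_c15 LD2_c34 LD3_c14) Lrfl Lrfl
theorem f170373 : Led Lsl_ct (LP (LK LD1_c15 LD2_c34 LD3_c14)) = (LP (LK LD1_c25 LD2_c27 LD3_c61)) :=
  Lre_c IH (LK LD1_c15 LD2_c34 LD3_c14) (LK LD1_c25 LD2_c27 LD3_c61) Lrfl Lrfl
theorem f273706 : Led Lsl_ft (LP (LK LD1_c25 LD2_c35 LD3_c5)) = (LP (LK LD1_c15 LD2_c39 LD3_c44)) :=
  Lre_f IH (LK LD1_c25 LD2_c35 LD3_c5) (LK LD1_c15 LD2_c39 LD3_c44) Lrfl Lrfl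
theorem f273711 : Led Lsl_af (LP (LK LD1_c25 LD2_c27 LD3_c61)) = (LP (LK LD1_c15 LD2_c39 LD3_c44)) :=
  Lgr Lrot109 (Lpe (f170373 IH) (Lpe (f1304 IH) (Lpr_cf (K16.f170345 IH) (Lpe (K16.f170357 IH) (Lpe (f273677 IH) (Lpe (f273691 IH) (Lpe (f273700 IH) (Lpr_df (f273704 IH) (Lpr_ft (f273706 IH) (Lpn (LP (LK LD1_c15 LD2_c39 LD3_c44))))))))))))
theorem f170348 : Led Lsl_ct (LP (LK LD1_c25 LD2_c27 LD3_c61)) = (LP (LK LD1_c15 LD2_c34 LD3_c14)) :=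
  Lre_c IH (LK LD1_c25 LD2_c27 LD3_c61) (LK LD1_c15 LD2_c34 LD3_c14) Lrfl Lrfl
theorem f243376 : Led Lsl_ct (LP (LK LD1_c8 LD2_c19 LD3_c30)) = (LP (LK LD1_c15 LD2_c39 LD3_c44)) :=
  Lre_c IH (LK LD1_c8 LD2_c19 LD3_c30) (LK LD1_c15 LD2_c39 LD3_c44) Lrfl Lrfl
theorem f273719 : Led Lsl_at (LP (LK LD1_c15 LD2_c34 LD3_c14)) = (LP (LK LD1_c8 LD2_c19 LD3_c30)) :=
  Lgr Lrot107 (Lpe (f170348 IH) (Lpr_af (f273711 IH) (Lpe (f243376 IH) (Lpn (LP (LK LD1_c8 LD2_c19 LD3_c30))))))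
theorem f273722 : Led Lsl_af (LP (LK LD1_c15 LD2_c34 LD3_c14)) = (LP (LK LD1_c8 LD2_c19 LD3_c30)) :=
  Lgr Lrot0 (Lpr_at (f273719 IH) (Lpn (LP (LK LD1_c8 LD2_c19 LD3_c30))))
theorem f170347 : Led Lsl_dt (LP (LK LD1_c15 LD2_c34 LD3_c14)) = (LP (LK LD1_c8 LD2_c16 LD3_c50)) :=
  Lre_d IH (LK LD1_c15 LD2_c34 LD3_c14) (LK LD1_c8 LD2_c16 LD3_c50) Lrfl Lrfl
theorem f1316 : Led Lsl_dt (LP (LK LD1_c4 LD2_c9 LD3_c43)) = (LP (LK LD1_c8 LD2_c19 LD3_c30)) :=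
  Lre_d IH (LK LD1_c4 LD2_c9 LD3_c43) (LK LD1_c8 LD2_c19 LD3_c30) Lrfl Lrfl
theorem f273726 : Led Lsl_at (LP (LK LD1_c8 LD2_c16 LD3_c50)) = (LP (LK LD1_c4 LD2_c9 LD3_c43)) :=
  Lgr Lrot51 (Lpe (f170347 IH) (Lpr_af (f273722 IH) (Lpe (f1316 IH) (Lpn (LP (LK LD1_c4 LD2_c9 LD3_c43))))))
theorem f170350 : Led Lsl_ft (LP (LK LD1_c15 LD2_c34 LD3_c15)) = (LP (LK LD1_c8 LD2_c16 LD3_c50)) :=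
  Lre_f IH (LK LD1_c15 LD2_c34 LD3_c15) (LK LD1_c8 LD2_c16 LD3_c50) Lrfl Lrfl
theorem f273733 : Led Lsl_ft (LP (LK LD1_c4 LD2_c9 LD3_c43)) = (LP (LK LD1_c8 LD2_c19 LD3_c31)) :=
  Lre_f IH (LK LD1_c4 LD2_c9 LD3_c43) (LK LD1_c8 LD2_c19 LD3_c31) Lrfl Lrfl
theorem f273734 : Led Lsl_af (LP (LK LD1_c15 LD2_c34 LD3_c15)) = (LP (LK LD1_c8 LD2_c19 LD3_c31)) :=
  Lgr Lrot45 (Lpr_ft (f170350 IH) (Lpr_at (f273726 IH) (Lpr_ft (f273733 IH) (Lpn (LP (LK LD1_c8 LD2_c19 LD3_c31))))))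
theorem f170370 : Led Lsl_ft (LP (LK LD1_c8 LD2_c16 LD3_c50)) = (LP (LK LD1_c15 LD2_c34 LD3_c15)) :=
  Lre_f IH (LK LD1_c8 LD2_c16 LD3_c50) (LK LD1_c15 LD2_c34 LD3_c15) Lrfl Lrfl
theorem f1319 : Led Lsl_et (LP (LK LD1_c4 LD2_c9 LD3_c46)) = (LP (LK LD1_c2 LD2_c2 LD3_c7)) :=
  Lre_e IH (LK LD1_c4 LD2_c9 LD3_c46) (LK LD1_c2 LD2_c2 LD3_c7) Lrfl Lrfl
theorem f236741 : Led Lsl_ft (LP (LK LD1_c8 LD2_c19 LD3_c39)) = (LP (LK LD1_c4 LD2_c9 LD3_c46)) :=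
  Lre_f IH (LK LD1_c8 LD2_c19 LD3_c39) (LK LD1_c4 LD2_c9 LD3_c46) Lrfl Lrfl
theorem f258543 : Led Lsl_et (LP (LK LD1_c15 LD2_c34 LD3_c15)) = (LP (LK LD1_c8 LD2_c19 LD3_c39)) :=
  Lgr Lrot69 (Lpe (f170370 IH) (Lpe (K16.f170338 IH) (Lpr_ff (K15.f258535 IH) (Lpe (f1319 IH) (Lpe (f236741 IH) (Lpn (LP (LK LD1_c8 LD2_c19 LD3_c39))))))))
theorem f234196 : Led Lsl_et (LP (LK LD1_c4 LD2_c8 LD3_c23)) = (LP (LK LD1_c8 LD2_c16 LD3_c53)) :=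
  Lre_e IH (LK LD1_c4 LD2_c8 LD3_c23) (LK LD1_c8 LD2_c16 LD3_c53) Lrfl Lrfl
theorem f258518 : Led Lsl_ft (LP (LK LD1_c8 LD2_c16 LD3_c53)) = (LP (LK LD1_c15 LD2_c34 LD3_c21)) :=
  Lre_f IH (LK LD1_c8 LD2_c16 LD3_c53) (LK LD1_c15 LD2_c34 LD3_c21) Lrfl Lrfl
theorem f1315 : Led Lsl_et (LP (LK LD1_c4 LD2_c9 LD3_c43)) = (LP (LK LD1_c2 LD2_c2 LD3_c6)) :=
  Lre_e IH (LK LD1_c4 LD2_c9 LD3_c43) (LK LD1_c2 LD2_c2 LD3_c6) Lrfl Lrfl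
theorem f258519 : Led Lsl_ft (LP (LK LD1_c8 LD2_c19 LD3_c31)) = (LP (LK LD1_c4 LD2_c9 LD3_c43)) :=
  Lre_f IH (LK LD1_c8 LD2_c19 LD3_c31) (LK LD1_c4 LD2_c9 LD3_c43) Lrfl Lrfl
theorem f258520 : Led Lsl_et (LP (LK LD1_c15 LD2_c34 LD3_c21)) = (LP (LK LD1_c8 LD2_c19 LD3_c31)) :=
  Lgr Lrot69 (Lpe (f258518 IH) (Lpe (f234196 IH) (Lpr_ff (K15.f258506 IH) (Lpe (f1315 IH) (Lpe (f258519 IH) (Lpn (LP (LK LD1_c8 LD2_c19 LD3_c31))))))))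
theorem f273741 : Led Lsl_at (LP (LK LD1_c8 LD2_c19 LD3_c39)) = (LP (LK LD1_c15 LD2_c34 LD3_c21)) :=
  Lgr Lrot80 (Lpe (f258543 IH) (Lpr_af (f273734 IH) (Lpe (f258520 IH) (Lpn (LP (LK LD1_c15 LD2_c34 LD3_c21))))))
theorem f236664 : Led Lsl_bt (LP (LK LD1_c4 LD2_c9 LD3_c46)) = (LP (LK LD1_c8 LD2_c19 LD3_c36)) :=
  Lre_b IH (LK LD1_c4 LD2_c9 LD3_c46) (LK LD1_c8 LD2_c19 LD3_c36) Lrfl Lrfl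
theorem f236638 : Led Lsl_bt (LP (LK LD1_c14 LD2_c57 LD3_c44)) = (LP (LK LD1_c7 LD2_c55 LD3_c55)) :=
  Lre_b IH (LK LD1_c14 LD2_c57 LD3_c44) (LK LD1_c7 LD2_c55 LD3_c55) Lrfl Lrfl
theorem f236628 : Led Lsl_cf (LP (LK LD1_c4 LD2_c0 LD3_c17)) = (LP (LK LD1_c7 LD2_c55 LD3_c55)) :=
  Lgr Lrot11 (Lpr_ct (K16.f236605 IH) (Lpn (LP (LK LD1_c7 LD2_c55 LD3_c55))))
theorem f33245 : Led Lsl_bt (LP (LK LD1_c4 LD2_c0 LD3_c17)) = (LP (LK LD1_c8 LD2_c1 LD3_c31)) :=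
  Lre_b IH (LK LD1_c4 LD2_c0 LD3_c17) (LK LD1_c8 LD2_c1 LD3_c31) Lrfl Lrfl
theorem f236665 : Led Lsl_cf (LP (LK LD1_c4 LD2_c9 LD3_c46)) = (LP (LK LD1_c8 LD2_c1 LD3_c31)) :=
  Lgr Lrot97 (Lpr_bt (f236664 IH) (Lpr_ct (K16.f236645 IH) (Lpr_bt (f236638 IH) (Lpe (f236628 IH) (Lpr_bt (f33245 IH) (Lpn (LP (LK LD1_c8 LD2_c1 LD3_c31))))))))
theorem f236729 : Led Lsl_ft (LP (LK LD1_c4 LD2_c9 LD3_c46)) = (LP (LK LD1_c8 LD2_c19 LD3_c39)) :=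
  Lre_f IH (LK LD1_c4 LD2_c9 LD3_c46) (LK LD1_c8 LD2_c19 LD3_c39) Lrfl Lrfl
theorem f236730 : Led Lsl_ct (LP (LK LD1_c8 LD2_c19 LD3_c39)) = (LP (LK LD1_c15 LD2_c6 LD3_c45)) :=
  Lgr Lrot40 (Lpe (f236729 IH) (Lpr_cf (f236665 IH) (Lpe (K12.f33240 IH) (Lpn (LP (LK LD1_c15 LD2_c6 LD3_c45))))))
theorem f236734 : Led Lsl_cf (LP (LK LD1_c8 LD2_c19 LD3_c39)) = (LP (LK LD1_c15 LD2_c6 LD3_c45)) :=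
  Lgr Lrot11 (Lpr_ct (f236730 IH) (Lpn (LP (LK LD1_c15 LD2_c6 LD3_c45))))
theorem f273747 : Led Lsl_cf (LP (LK LD1_c18 LD2_c52 LD3_c20)) = (LP (LK LD1_c15 LD2_c34 LD3_c21)) :=
  Lgr Lrot1 (Lpr_at (K15.f263609 IH) (Lpe (f236734 IH) (Lpr_at (f273741 IH) (Lpn (LP (LK LD1_c15 LD2_c34 LD3_c21))))))
theorem f258508 : Led Lsl_ft (LP (LK LD1_c18 LD2_c52 LD3_c20)) = (LP (LK LD1_c10 LD2_c24 LD3_c2)) :=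
  Lre_f IH (LK LD1_c18 LD2_c52 LD3_c20) (LK LD1_c10 LD2_c24 LD3_c2) Lrfl Lrfl
theorem f251799 : Led Lsl_et (LP (LK LD1_c4 LD2_c9 LD3_c41)) = (LP (LK LD1_c8 LD2_c19 LD3_c26)) :=
  Lre_e IH (LK LD1_c4 LD2_c9 LD3_c41) (LK LD1_c8 LD2_c19 LD3_c26) Lrfl Lrfl
theorem f251802 : Led Lsl_ft (LP (LK LD1_c8 LD2_c19 LD3_c26)) = (LP (LK LD1_c15 LD2_c39 LD3_c35)) :=
  Lre_f IH (LK LD1_c8 LD2_c19 LD3_c26) (LK LD1_c15 LD2_c39 LD3_c35) Lrfl Lrfl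
theorem f258509 : Led Lsl_ef (LP (LK LD1_c18 LD2_c52 LD3_c20)) = (LP (LK LD1_c15 LD2_c39 LD3_c35)) :=
  Lgr Lrot21 (Lpr_ft (f258508 IH) (Lpr_et (K15.f53847 IH) (Lpr_ft (K15.f258502 IH) (Lpr_et (f251799 IH) (Lpr_ft (f251802 IH) (Lpn (LP (LK LD1_c15 LD2_c39 LD3_c35))))))))
theorem f258511 : Led Lsl_et (LP (LK LD1_c18 LD2_c52 LD3_c20)) = (LP (LK LD1_c15 LD2_c39 LD3_c35)) :=
  Lgr Lrot87 (Lpr_ef (f258509 IH) (Lpn (LP (LK LD1_c15 LD2_c39 LD3_c35))))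
theorem f258480 : Led Lsl_ct (LP (LK LD1_c15 LD2_c39 LD3_c35)) = (LP (LK LD1_c8 LD2_c19 LD3_c31)) :=
  Lre_c IH (LK LD1_c15 LD2_c39 LD3_c35) (LK LD1_c8 LD2_c19 LD3_c31) Lrfl Lrfl
theorem f273769 : Led Lsl_et (LP (LK LD1_c8 LD2_c19 LD3_c31)) = (LP (LK LD1_c15 LD2_c34 LD3_c21)) :=
  Lgr Lrot158 (Lpe (f258480 IH) (Lpe (f258511 IH) (Lpr_cf (f273747 IH) (Lpn (LP (LK LD1_c15 LD2_c34 LD3_c21))))))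
theorem f273746 : Led Lsl_bt (LP (LK LD1_c15 LD2_c34 LD3_c21)) = (LP (LK LD1_c25 LD2_c28 LD3_c9)) :=
  Lre_b IH (LK LD1_c15 LD2_c34 LD3_c21) (LK LD1_c25 LD2_c28 LD3_c9) Lrfl Lrfl
theorem f273771 : Led Lsl_ef (LP (LK LD1_c15 LD2_c39 LD3_c33)) = (LP (LK LD1_c25 LD2_c28 LD3_c9)) :=
  Lgr Lrot29 (Lpr_bt (K15.f258471 IH) (Lpr_et (f273769 IH) (Lpr_bt (f273746 IH) (Lpn (LP (LK LD1_c25 LD2_c28 LD3_c9))))))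
theorem f273777 : Led Lsl_ft (LP (LK LD1_c15 LD2_c39 LD3_c33)) = (LP (LK LD1_c8 LD2_c19 LD3_c25)) :=
  Lre_f IH (LK LD1_c15 LD2_c39 LD3_c33) (LK LD1_c8 LD2_c19 LD3_c25) Lrfl Lrfl
theorem f273778 : Led Lsl_et (LP (LK LD1_c8 LD2_c19 LD3_c25)) = (LP (LK LD1_c4 LD2_c9 LD3_c40)) :=
  Lre_e IH (LK LD1_c8 LD2_c19 LD3_c25) (LK LD1_c4 LD2_c9 LD3_c40) Lrfl Lrfl
theorem f273779 : Led Lsl_ft (LP (LK LD1_c15 LD2_c34 LD3_c19)) = (LP (LK LD1_c25 LD2_c28 LD3_c9)) :=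
  Lre_f IH (LK LD1_c15 LD2_c34 LD3_c19) (LK LD1_c25 LD2_c28 LD3_c9) Lrfl Lrfl
theorem f273780 : Led Lsl_et (LP (LK LD1_c8 LD2_c16 LD3_c51)) = (LP (LK LD1_c15 LD2_c34 LD3_c19)) :=
  Lre_e IH (LK LD1_c8 LD2_c16 LD3_c51) (LK LD1_c15 LD2_c34 LD3_c19) Lrfl Lrfl
theorem f273781 : Led Lsl_ft (LP (LK LD1_c4 LD2_c9 LD3_c40)) = (LP (LK LD1_c8 LD2_c16 LD3_c51)) :=
  Lgr Lrot86 (Lpe (f273778 IH) (Lpe (f273777 IH) (Lpr_ef (f273771 IH) (Lpe (f273779 IH) (Lpe (f273780 IH) (Lpn (LP (LK LD1_c8 LD2_c16 LD3_c51))))))))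
theorem f273785 : Led Lsl_at (LP (LK LD1_c8 LD2_c19 LD3_c22)) = (LP (LK LD1_c4 LD2_c9 LD3_c40)) :=
  Lre_a IH (LK LD1_c8 LD2_c19 LD3_c22) (LK LD1_c4 LD2_c9 LD3_c40) Lrfl Lrfl
theorem f273786 : Led Lsl_at (LP (LK LD1_c8 LD2_c16 LD3_c51)) = (LP (LK LD1_c15 LD2_c34 LD3_c18)) :=
  Lre_a IH (LK LD1_c8 LD2_c16 LD3_c51) (LK LD1_c15 LD2_c34 LD3_c18) Lrfl Lrfl
theorem f273787 : Led Lsl_ff (LP (LK LD1_c8 LD2_c19 LD3_c22)) = (LP (LK LD1_c15 LD2_c34 LD3_c18)) :=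
  Lgr Lrot30 (Lpr_at (f273785 IH) (Lpr_ft (f273781 IH) (Lpr_at (f273786 IH) (Lpn (LP (LK LD1_c15 LD2_c34 LD3_c18))))))
theorem f273800 : Led Lsl_ft (LP (LK LD1_c8 LD2_c19 LD3_c22)) = (LP (LK LD1_c15 LD2_c34 LD3_c18)) :=
  Lgr Lrot48 (Lpr_ff (f273787 IH) (Lpn (LP (LK LD1_c15 LD2_c34 LD3_c18))))
theorem f282030 : Led Lsl_bt (LP (LK LD1_c15 LD2_c34 LD3_c18)) = (LP (LK LD1_c8 LD2_c19 LD3_c34)) :=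
  Lgr Lrot35 (Lpe (f273800 IH) (Lpr_bf (f282026 IH) (Lpr_ff (K16.f280083 IH) (Lpn (LP (LK LD1_c8 LD2_c19 LD3_c34))))))
theorem f280104 : Led Lsl_ct (LP (LK LD1_c8 LD2_c41 LD3_c55)) = (LP (LK LD1_c16 LD2_c17 LD3_c32)) :=
  Lre_c IH (LK LD1_c8 LD2_c41 LD3_c55) (LK LD1_c16 LD2_c17 LD3_c32) Lrfl Lrfl
theorem f199831 : Led Lsl_bt (LP (LK LD1_c1 LD2_c9 LD3_c19)) = (LP (LK LD1_c2 LD2_c24 LD3_c19)) :=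
  Lre_b IH (LK LD1_c1 LD2_c9 LD3_c19) (LK LD1_c2 LD2_c24 LD3_c19) Lrfl Lrfl
theorem f38969 : Led Lsl_bt (LP (LK LD1_c4 LD2_c22 LD3_c3)) = (LP (LK LD1_c2 LD2_c8 LD3_c30)) :=
  Lre_b IH (LK LD1_c4 LD2_c22 LD3_c3) (LK LD1_c2 LD2_c8 LD3_c30) Lrfl Lrfl
theorem f237475 : Led Lsl_bt (LP (LK LD1_c4 LD2_c52 LD3_c60)) = (LP (LK LD1_c8 LD2_c41 LD3_c56)) :=
  Lgr Lrot128 (Lpe (K12.f30685 IH) (Lpe (f199831 IH) (Lpr_cf (K13.f237467 IH) (Lpe (f38969 IH) (Lpe (f38970 IH) (Lpn (LP (LK LD1_c8 LD2_c41 LD3_c56))))))))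
theorem f270796 : Led Lsl_at (LP (LK LD1_c8 LD2_c41 LD3_c56)) = (LP (LK LD1_c16 LD2_c17 LD3_c32)) :=
  Lre_a IH (LK LD1_c8 LD2_c41 LD3_c56) (LK LD1_c16 LD2_c17 LD3_c32) Lrfl Lrfl
theorem f199940 : Led Lsl_bt (LP (LK LD1_c11 LD2_c52 LD3_c1)) = (LP (LK LD1_c6 LD2_c4 LD3_c17)) :=
  Lre_b IH (LK LD1_c11 LD2_c52 LD3_c1) (LK LD1_c6 LD2_c4 LD3_c17) Lrfl Lrfl
theorem f270797 : Led Lsl_at (LP (LK LD1_c20 LD2_c54 LD3_c44)) = (LP (LK LD1_c11 LD2_c52 LD3_c1)) :=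
  Lre_a IH (LK LD1_c20 LD2_c54 LD3_c44) (LK LD1_c11 LD2_c52 LD3_c1) Lrfl Lrfl
theorem f270798 : Led Lsl_bt (LP (LK LD1_c16 LD2_c17 LD3_c32)) = (LP (LK LD1_c20 LD2_c54 LD3_c44)) :=
  Lgr Lrot62 (Lpe (f270796 IH) (Lpe (f237475 IH) (Lpr_af (K16.f270794 IH) (Lpe (f199940 IH) (Lpe (f270797 IH) (Lpn (LP (LK LD1_c20 LD2_c54 LD3_c44))))))))
theorem f282032 : Led Lsl_cf (LP (LK LD1_c15 LD2_c34 LD3_c18)) = (LP (LK LD1_c20 LD2_c54 LD3_c44)) :=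
  Lgr Lrot97 (Lpr_bt (f282030 IH) (Lpr_ct (K16.f236677 IH) (Lpe (f280201 IH) (Lpr_ct (f280104 IH) (Lpr_bt (f270798 IH) (Lpn (LP (LK LD1_c20 LD2_c54 LD3_c44))))))))
theorem f282040 : Led Lsl_ft (LP (LK LD1_c15 LD2_c39 LD3_c20)) = (LP (LK LD1_c20 LD2_c54 LD3_c44)) :=
  Lgr Lrot4 (Lpe (f273796 IH) (Lpr_ff (f273787 IH) (Lpr_cf (f282032 IH) (Lpn (LP (LK LD1_c20 LD2_c54 LD3_c44))))))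
theorem f282042 : Led Lsl_ff (LP (LK LD1_c8 LD2_c19 LD3_c23)) = (LP (LK LD1_c11 LD2_c52 LD3_c1)) :=
  Lgr Lrot30 (Lpr_at (f270807 IH) (Lpr_ft (f282040 IH) (Lpr_at (f270797 IH) (Lpn (LP (LK LD1_c11 LD2_c52 LD3_c1))))))
theorem f258460 : Led Lsl_et (LP (LK LD1_c8 LD2_c19 LD3_c23)) = (LP (LK LD1_c15 LD2_c39 LD3_c26)) :=
  Lre_e IH (LK LD1_c8 LD2_c19 LD3_c23) (LK LD1_c15 LD2_c39 LD3_c26) Lrfl Lrfl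
theorem f282055 : Led Lsl_ft (LP (LK LD1_c15 LD2_c39 LD3_c26)) = (LP (LK LD1_c25 LD2_c34 LD3_c46)) :=
  Lre_f IH (LK LD1_c15 LD2_c39 LD3_c26) (LK LD1_c25 LD2_c34 LD3_c46) Lrfl Lrfl
theorem f282056 : Led Lsl_et (LP (LK LD1_c20 LD2_c54 LD3_c46)) = (LP (LK LD1_c11 LD2_c52 LD3_c1)) :=
  Lre_e IH (LK LD1_c20 LD2_c54 LD3_c46) (LK LD1_c11 LD2_c52 LD3_c1) Lrfl Lrfl
theorem f282057 : Led Lsl_ft (LP (LK LD1_c29 LD2_c43 LD3_c52)) = (LP (LK LD1_c20 LD2_c54 LD3_c46)) :=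
  Lre_f IH (LK LD1_c29 LD2_c43 LD3_c52) (LK LD1_c20 LD2_c54 LD3_c46) Lrfl Lrfl
theorem f282058 : Led Lsl_et (LP (LK LD1_c25 LD2_c34 LD3_c46)) = (LP (LK LD1_c29 LD2_c43 LD3_c52)) :=
  Lgr Lrot69 (Lpe (f282055 IH) (Lpe (f258460 IH) (Lpr_ff (f282042 IH) (Lpe (f282056 IH) (Lpe (f282057 IH) (Lpn (LP (LK LD1_c29 LD2_c43 LD3_c52))))))))
theorem f282064 : Led Lsl_ef (LP (LK LD1_c25 LD2_c34 LD3_c46)) = (LP (LK LD1_c29 LD2_c43 LD3_c52)) :=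
  Lgr Lrot88 (Lpr_et (f282058 IH) (Lpn (LP (LK LD1_c29 LD2_c43 LD3_c52))))
theorem f273775 : Led Lsl_et (LP (LK LD1_c15 LD2_c39 LD3_c33)) = (LP (LK LD1_c25 LD2_c28 LD3_c9)) :=
  Lgr Lrot87 (Lpr_ef (f273771 IH) (Lpn (LP (LK LD1_c25 LD2_c28 LD3_c9))))
theorem f282067 : Led Lsl_ct (LP (LK LD1_c25 LD2_c28 LD3_c9)) = (LP (LK LD1_c29 LD2_c43 LD3_c52)) :=
  Lgr Lrot15 (Lpe (f273775 IH) (Lpe (K15.f258470 IH) (Lpr_ef (f282064 IH) (Lpn (LP (LK LD1_c29 LD2_c43 LD3_c52))))))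
theorem f282074 : Led Lsl_cf (LP (LK LD1_c15 LD2_c34 LD3_c19)) = (LP (LK LD1_c20 LD2_c54 LD3_c46)) :=
  Lgr Lrot108 (Lpr_ft (f273779 IH) (Lpr_ct (f282067 IH) (Lpr_ft (f282057 IH) (Lpn (LP (LK LD1_c20 LD2_c54 LD3_c46))))))
theorem f282078 : Led Lsl_ct (LP (LK LD1_c15 LD2_c34 LD3_c19)) = (LP (LK LD1_c20 LD2_c54 LD3_c46)) :=
  Lgr Lrot59 (Lpr_cf (f282074 IH) (Lpn (LP (LK LD1_c20 LD2_c54 LD3_c46))))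
theorem f273764 : Led Lsl_bt (LP (LK LD1_c8 LD2_c16 LD3_c53)) = (LP (LK LD1_c15 LD2_c34 LD3_c19)) :=
  Lre_b IH (LK LD1_c8 LD2_c16 LD3_c53) (LK LD1_c15 LD2_c34 LD3_c19) Lrfl Lrfl
theorem f273749 : Led Lsl_ft (LP (LK LD1_c15 LD2_c34 LD3_c21)) = (LP (LK LD1_c8 LD2_c16 LD3_c53)) :=
  Lre_f IH (LK LD1_c15 LD2_c34 LD3_c21) (LK LD1_c8 LD2_c16 LD3_c53) Lrfl Lrfl
theorem f273750 : Led Lsl_af (LP (LK LD1_c4 LD2_c9 LD3_c46)) = (LP (LK LD1_c8 LD2_c16 LD3_c53)) :=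
  Lgr Lrot45 (Lpr_ft (f236729 IH) (Lpr_at (f273741 IH) (Lpr_ft (f273749 IH) (Lpn (LP (LK LD1_c8 LD2_c16 LD3_c53))))))
theorem f273753 : Led Lsl_ct (LP (LK LD1_c10 LD2_c24 LD3_c2)) = (LP (LK LD1_c8 LD2_c16 LD3_c53)) :=
  Lgr Lrot111 (Lpr_af (K15.f263605 IH) (Lpe (K16.f170582 IH) (Lpr_af (f273750 IH) (Lpn (LP (LK LD1_c8 LD2_c16 LD3_c53))))))
theorem f237523 : Led Lsl_bt (LP (LK LD1_c2 LD2_c24 LD3_c20)) = (LP (LK LD1_c4 LD2_c52 LD3_c61)) :=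
  Lre_b IH (LK LD1_c2 LD2_c24 LD3_c20) (LK LD1_c4 LD2_c52 LD3_c61) Lrfl Lrfl
theorem f279358 : Led Lsl_at (LP (LK LD1_c4 LD2_c52 LD3_c61)) = (LP (LK LD1_c9 LD2_c37 LD3_c52)) :=
  Lre_a IH (LK LD1_c4 LD2_c52 LD3_c61) (LK LD1_c9 LD2_c37 LD3_c52) Lrfl Lrfl
theorem f279397 : Led Lsl_bt (LP (LK LD1_c9 LD2_c37 LD3_c52)) = (LP (LK LD1_c10 LD2_c24 LD3_c2)) :=
  Lgr Lrot62 (Lpe (f279358 IH) (Lpe (f237523 IH) (Lpr_af (K16.f279390 IH) (Lpe (K16.f33206 IH) (Lpe (K15.f263607 IH) (Lpn (LP (LK LD1_c10 LD2_c24 LD3_c2))))))))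
theorem f258394 : Led Lsl_bt (LP (LK LD1_c20 LD2_c54 LD3_c46)) = (LP (LK LD1_c11 LD2_c52 LD3_c3)) :=
  Lre_b IH (LK LD1_c20 LD2_c54 LD3_c46) (LK LD1_c11 LD2_c52 LD3_c3) Lrfl Lrfl
theorem f282084 : Led Lsl_cf (LP (LK LD1_c9 LD2_c37 LD3_c52)) = (LP (LK LD1_c11 LD2_c52 LD3_c3)) :=
  Lgr Lrot97 (Lpr_bt (f279397 IH) (Lpr_ct (f273753 IH) (Lpr_bt (f273764 IH) (Lpr_ct (f282078 IH) (Lpr_bt (f258394 IH) (Lpn (LP (LK LD1_c11 LD2_c52 LD3_c3))))))))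
theorem f282090 : Led Lsl_ct (LP (LK LD1_c9 LD2_c37 LD3_c52)) = (LP (LK LD1_c11 LD2_c52 LD3_c3)) :=
  Lgr Lrot59 (Lpr_cf (f282084 IH) (Lpn (LP (LK LD1_c11 LD2_c52 LD3_c3))))
theorem f282077 : Led Lsl_bt (LP (LK LD1_c11 LD2_c52 LD3_c3)) = (LP (LK LD1_c20 LD2_c54 LD3_c46)) :=
  Lre_b IH (LK LD1_c11 LD2_c52 LD3_c3) (LK LD1_c20 LD2_c54 LD3_c46) Lrfl Lrfl
theorem f273752 : Led Lsl_bt (LP (LK LD1_c15 LD2_c34 LD3_c19)) = (LP (LK LD1_c8 LD2_c16 LD3_c53)) :=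
  Lre_b IH (LK LD1_c15 LD2_c34 LD3_c19) (LK LD1_c8 LD2_c16 LD3_c53) Lrfl Lrfl
theorem f257908 : Led Lsl_ct (LP (LK LD1_c8 LD2_c16 LD3_c53)) = (LP (LK LD1_c10 LD2_c24 LD3_c2)) :=
  Lgr Lrot15 (Lpe (f234196 IH) (Lpr_cf (K15.f257903 IH) (Lpe (K15.f53847 IH) (Lpn (LP (LK LD1_c10 LD2_c24 LD3_c2))))))
theorem f282095 : Led Lsl_bf (LP (LK LD1_c9 LD2_c37 LD3_c52)) = (LP (LK LD1_c10 LD2_c24 LD3_c2)) :=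
  Lgr Lrot90 (Lpr_ct (f282090 IH) (Lpr_bt (f282077 IH) (Lpe (f282074 IH) (Lpr_bt (f273752 IH) (Lpr_ct (f257908 IH) (Lpn (LP (LK LD1_c10 LD2_c24 LD3_c2))))))))
theorem f45015 : Led Lsl_et (LP (LK LD1_c4 LD2_c13 LD3_c37)) = (LP (LK LD1_c8 LD2_c26 LD3_c10)) :=
  Lre_e IH (LK LD1_c4 LD2_c13 LD3_c37) (LK LD1_c8 LD2_c26 LD3_c10) Lrfl Lrfl
theorem f231832 : Led Lsl_et (LP (LK LD1_c9 LD2_c39 LD3_c30)) = (LP (LK LD1_c4 LD2_c54 LD3_c0)) :=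
  Lre_e IH (LK LD1_c9 LD2_c39 LD3_c30) (LK LD1_c4 LD2_c54 LD3_c0) Lrfl Lrfl
theorem f231833 : Led Lsl_bt (LP (LK LD1_c8 LD2_c26 LD3_c10)) = (LP (LK LD1_c9 LD2_c39 LD3_c30)) :=
  Lgr Lrot119 (Lpe (f45015 IH) (Lpr_bf (K15.f231820 IH) (Lpe (f231832 IH) (Lpn (LP (LK LD1_c9 LD2_c39 LD3_c30))))))
theorem f231835 : Led Lsl_bf (LP (LK LD1_c8 LD2_c26 LD3_c10)) = (LP (LK LD1_c9 LD2_c39 LD3_c30)) :=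
  Lgr Lrot24 (Lpr_bt (f231833 IH) (Lpn (LP (LK LD1_c9 LD2_c39 LD3_c30))))
theorem f282097 : Led Lsl_dt (LP (LK LD1_c9 LD2_c37 LD3_c52)) = (LP (LK LD1_c9 LD2_c39 LD3_c30)) :=
  Lgr Lrot79 (Lpr_bf (f282095 IH) (Lpr_df (K15.f263612 IH) (Lpr_bf (f231835 IH) (Lpn (LP (LK LD1_c9 LD2_c39 LD3_c30))))))
theorem f231840 : Led Lsl_ft (LP (LK LD1_c9 LD2_c39 LD3_c30)) = (LP (LK LD1_c17 LD2_c45 LD3_c46)) :=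
  Lre_f IH (LK LD1_c9 LD2_c39 LD3_c30) (LK LD1_c17 LD2_c45 LD3_c46) Lrfl Lrfl
theorem f282099 : Led Lsl_df (LP (LK LD1_c17 LD2_c43 LD3_c31)) = (LP (LK LD1_c17 LD2_c45 LD3_c46)) :=
  Lgr Lrot78 (Lpr_ft (K16.f270872 IH) (Lpr_dt (f282097 IH) (Lpr_ft (f231840 IH) (Lpn (LP (LK LD1_c17 LD2_c45 LD3_c46))))))
theorem f270870 : Led Lsl_ef (LP (LK LD1_c24 LD2_c54 LD3_c44)) = (LP (LK LD1_c17 LD2_c43 LD3_c31)) :=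
  Lgr Lrot88 (Lpr_et (K16.f270863 IH) (Lpn (LP (LK LD1_c17 LD2_c43 LD3_c31))))
theorem f247120 : Led Lsl_bt (LP (LK LD1_c8 LD2_c1 LD3_c30)) = (LP (LK LD1_c15 LD2_c6 LD3_c42)) :=
  Lre_b IH (LK LD1_c8 LD2_c1 LD3_c30) (LK LD1_c15 LD2_c6 LD3_c42) Lrfl Lrfl
theorem f247121 : Led Lsl_df (LP (LK LD1_c15 LD2_c22 LD3_c56)) = (LP (LK LD1_c15 LD2_c6 LD3_c42)) :=
  Lgr Lrot12 (Lpr_bt (K16.f247038 IH) (Lpr_dt (K15.f247086 IH) (Lpr_bt (f247120 IH) (Lpn (LP (LK LD1_c15 LD2_c6 LD3_c42))))))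
theorem f260949 : Led Lsl_df (LP (LK LD1_c24 LD2_c54 LD3_c44)) = (LP (LK LD1_c15 LD2_c51 LD3_c26)) :=
  Lgr Lrot18 (Lpr_at (f247158 IH) (Lpe (f247121 IH) (Lpr_at (K16.f260944 IH) (Lpn (LP (LK LD1_c15 LD2_c51 LD3_c26))))))
theorem f260955 : Led Lsl_dt (LP (LK LD1_c24 LD2_c54 LD3_c44)) = (LP (LK LD1_c15 LD2_c51 LD3_c26)) :=
  Lgr Lrot42 (Lpr_df (f260949 IH) (Lpn (LP (LK LD1_c15 LD2_c51 LD3_c26))))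
theorem f282103 : Led Lsl_et (LP (LK LD1_c17 LD2_c46 LD3_c54)) = (LP (LK LD1_c17 LD2_c45 LD3_c46)) :=
  Lgr Lrot71 (Lpe (K14.f192294 IH) (Lpr_ef (K16.f260951 IH) (Lpe (f260955 IH) (Lpr_ef (f270870 IH) (Lpr_df (f282099 IH) (Lpn (LP (LK LD1_c17 LD2_c45 LD3_c46))))))))
theorem f231846 : Led Lsl_ft (LP (LK LD1_c17 LD2_c45 LD3_c46)) = (LP (LK LD1_c9 LD2_c39 LD3_c30)) :=
  Lre_f IH (LK LD1_c17 LD2_c45 LD3_c46) (LK LD1_c9 LD2_c39 LD3_c30) Lrfl Lrfl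
theorem f282111 : Led Lsl_ff (LP (LK LD1_c4 LD2_c54 LD3_c15)) = (LP (LK LD1_c4 LD2_c54 LD3_c0)) :=
  Lgr Lrot72 (Lpr_et (K16.f43423 IH) (Lpr_ft (K14.f192284 IH) (Lpr_et (f282103 IH) (Lpr_ft (f231846 IH) (Lpr_et (f231832 IH) (Lpn (LP (LK LD1_c4 LD2_c54 LD3_c0))))))))
theorem f282115 : Led Lsl_ft (LP (LK LD1_c4 LD2_c54 LD3_c15)) = (LP (LK LD1_c4 LD2_c54 LD3_c0)) :=
  Lgr Lrot48 (Lpr_ff (f282111 IH) (Lpn (LP (LK LD1_c4 LD2_c54 LD3_c0))))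
theorem f282188 : Led Lsl_ff (LP (LK LD1_c9 LD2_c40 LD3_c1)) = (LP (LK LD1_c9 LD2_c39 LD3_c29)) :=
  Lgr Lrot23 (Lpr_ct (K15.f43420 IH) (Lpr_ft (f282115 IH) (Lpr_ct (K15.f50764 IH) (Lpn (LP (LK LD1_c9 LD2_c39 LD3_c29))))))
theorem f43421 : Led Lsl_bt (LP (LK LD1_c9 LD2_c40 LD3_c1)) = (LP (LK LD1_c17 LD2_c46 LD3_c52)) :=
  Lre_b IH (LK LD1_c9 LD2_c40 LD3_c1) (LK LD1_c17 LD2_c46 LD3_c52) Lrfl Lrfl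
theorem f231829 : Led Lsl_bt (LP (LK LD1_c17 LD2_c45 LD3_c43)) = (LP (LK LD1_c9 LD2_c39 LD3_c29)) :=
  Lre_b IH (LK LD1_c17 LD2_c45 LD3_c43) (LK LD1_c9 LD2_c39 LD3_c29) Lrfl Lrfl
theorem f282192 : Led Lsl_ft (LP (LK LD1_c17 LD2_c46 LD3_c52)) = (LP (LK LD1_c17 LD2_c45 LD3_c43)) :=
  Lgr Lrot75 (Lpe (f43421 IH) (Lpr_ff (f282188 IH) (Lpe (f231829 IH) (Lpn (LP (LK LD1_c17 LD2_c45 LD3_c43))))))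
theorem f192319 : Led Lsl_bt (LP (LK LD1_c17 LD2_c46 LD3_c52)) = (LP (LK LD1_c9 LD2_c40 LD3_c1)) :=
  Lre_b IH (LK LD1_c17 LD2_c46 LD3_c52) (LK LD1_c9 LD2_c40 LD3_c1) Lrfl Lrfl
theorem f49444 : Led Lsl_bt (LP (LK LD1_c8 LD2_c26 LD3_c16)) = (LP (LK LD1_c15 LD2_c50 LD3_c52)) :=
  Lre_b IH (LK LD1_c8 LD2_c26 LD3_c16) (LK LD1_c15 LD2_c50 LD3_c52) Lrfl Lrfl
theorem f192320 : Led Lsl_cf (LP (LK LD1_c17 LD2_c46 LD3_c52)) = (LP (LK LD1_c15 LD2_c50 LD3_c52)) :=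
  Lgr Lrot97 (Lpr_bt (f192319 IH) (Lpr_ct (K15.f43420 IH) (Lpr_bt (K15.f192317 IH) (Lpr_ct (K15.f49199 IH) (Lpr_bt (f49444 IH) (Lpn (LP (LK LD1_c15 LD2_c50 LD3_c52))))))))
theorem f50857 : Led Lsl_bt (LP (LK LD1_c8 LD2_c26 LD3_c9)) = (LP (LK LD1_c15 LD2_c50 LD3_c40)) :=
  Lre_b IH (LK LD1_c8 LD2_c26 LD3_c9) (LK LD1_c15 LD2_c50 LD3_c40) Lrfl Lrfl
theorem f184843 : Led Lsl_ct (LP (LK LD1_c9 LD2_c39 LD3_c29)) = (LP (LK LD1_c4 LD2_c54 LD3_c0)) :=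
  Lre_c IH (LK LD1_c9 LD2_c39 LD3_c29) (LK LD1_c4 LD2_c54 LD3_c0) Lrfl Lrfl
theorem f231830 : Led Lsl_ct (LP (LK LD1_c15 LD2_c50 LD3_c40)) = (LP (LK LD1_c17 LD2_c45 LD3_c43)) :=
  Lgr Lrot83 (Lpe (f50857 IH) (Lpe (K15.f50856 IH) (Lpr_bf (K15.f231820 IH) (Lpe (f184843 IH) (Lpe (f231829 IH) (Lpn (LP (LK LD1_c17 LD2_c45 LD3_c43))))))))
theorem f231850 : Led Lsl_cf (LP (LK LD1_c15 LD2_c50 LD3_c40)) = (LP (LK LD1_c17 LD2_c45 LD3_c43)) :=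
  Lgr Lrot11 (Lpr_ct (f231830 IH) (Lpn (LP (LK LD1_c17 LD2_c45 LD3_c43))))
theorem f282194 : Led Lsl_ff (LP (LK LD1_c15 LD2_c50 LD3_c52)) = (LP (LK LD1_c15 LD2_c50 LD3_c40)) :=
  Lgr Lrot23 (Lpe (f192320 IH) (Lpr_ft (f282192 IH) (Lpe (f231850 IH) (Lpn (LP (LK LD1_c15 LD2_c50 LD3_c40))))))
theorem f32457 : Led Lsl_bt (LP (LK LD1_c18 LD2_c45 LD3_c19)) = (LP (LK LD1_c10 LD2_c19 LD3_c48)) :=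
  Lre_b IH (LK LD1_c18 LD2_c45 LD3_c19) (LK LD1_c10 LD2_c19 LD3_c48) Lrfl Lrfl
theorem f263116 : Led Lsl_dt (LP (LK LD1_c15 LD2_c50 LD3_c52)) = (LP (LK LD1_c18 LD2_c45 LD3_c19)) :=
  Lgr Lrot79 (Lpe (f49444 IH) (Lpr_df (K15.f263111 IH) (Lpe (f32457 IH) (Lpn (LP (LK LD1_c18 LD2_c45 LD3_c19))))))
theorem f212531 : Led Lsl_bt (LP (LK LD1_c15 LD2_c50 LD3_c40)) = (LP (LK LD1_c8 LD2_c26 LD3_c9)) :=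
  Lre_b IH (LK LD1_c15 LD2_c50 LD3_c40) (LK LD1_c8 LD2_c26 LD3_c9) Lrfl Lrfl
theorem f212532 : Led Lsl_bt (LP (LK LD1_c5 LD2_c16 LD3_c9)) = (LP (LK LD1_c10 LD2_c21 LD3_c53)) :=
  Lre_b IH (LK LD1_c5 LD2_c16 LD3_c9) (LK LD1_c10 LD2_c21 LD3_c53) Lrfl Lrfl
theorem f212533 : Led Lsl_df (LP (LK LD1_c15 LD2_c50 LD3_c40)) = (LP (LK LD1_c10 LD2_c21 LD3_c53)) :=
  Lgr Lrot12 (Lpr_bt (f212531 IH) (Lpr_dt (K15.f212527 IH) (Lpr_bt (f212532 IH) (Lpn (LP (LK LD1_c10 LD2_c21 LD3_c53))))))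
theorem f282200 : Led Lsl_ft (LP (LK LD1_c18 LD2_c45 LD3_c19)) = (LP (LK LD1_c10 LD2_c21 LD3_c53)) :=
  Lgr Lrot54 (Lpe (f263116 IH) (Lpr_ff (f282194 IH) (Lpr_df (f212533 IH) (Lpn (LP (LK LD1_c10 LD2_c21 LD3_c53))))))
theorem f282204 : Led Lsl_ff (LP (LK LD1_c18 LD2_c45 LD3_c19)) = (LP (LK LD1_c10 LD2_c21 LD3_c53)) :=
  Lgr Lrot3 (Lpr_ft (f282200 IH) (Lpn (LP (LK LD1_c10 LD2_c21 LD3_c53))))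
theorem f282206 : Led Lsl_ft (LP (LK LD1_c10 LD2_c19 LD3_c48)) = (LP (LK LD1_c5 LD2_c16 LD3_c9)) :=
  Lgr Lrot75 (Lpe (f32457 IH) (Lpr_ff (f282204 IH) (Lpe (f212532 IH) (Lpn (LP (LK LD1_c5 LD2_c16 LD3_c9))))))
theorem f282212 : Led Lsl_af (LP (LK LD1_c10 LD2_c7 LD3_c22)) = (LP (LK LD1_c5 LD2_c16 LD3_c9)) :=
  Lgr Lrot31 (Lpr_gf (K14.f190900 IH) (Lpe (K15.f32456 IH) (Lpr_ft (f282206 IH) (Lpn (LP (LK LD1_c5 LD2_c16 LD3_c9))))))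
theorem f252188 : Led Lsl_af (LP (LK LD1_c6 LD2_c5 LD3_c42)) = (LP (LK LD1_c8 LD2_c26 LD3_c16)) :=
  Lgr Lrot68 (Lpr_ct (K14.f183674 IH) (Lpr_at (K14.f252182 IH) (Lpr_ct (K15.f49199 IH) (Lpn (LP (LK LD1_c8 LD2_c26 LD3_c16))))))
theorem f263114 : Led Lsl_at (LP (LK LD1_c5 LD2_c16 LD3_c10)) = (LP (LK LD1_c10 LD2_c19 LD3_c48)) :=
  Lgr Lrot51 (Lpr_df (K15.f231911 IH) (Lpr_af (f252188 IH) (Lpr_df (K15.f263111 IH) (Lpn (LP (LK LD1_c10 LD2_c19 LD3_c48))))))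
theorem f282216 : Led Lsl_ft (LP (LK LD1_c10 LD2_c7 LD3_c22)) = (LP (LK LD1_c5 LD2_c16 LD3_c10)) :=
  Lgr Lrot101 (Lpr_af (f282212 IH) (Lpe (f282206 IH) (Lpe (f263114 IH) (Lpn (LP (LK LD1_c5 LD2_c16 LD3_c10))))))
theorem f282220 : Led Lsl_ff (LP (LK LD1_c10 LD2_c7 LD3_c22)) = (LP (LK LD1_c5 LD2_c16 LD3_c10)) :=
  Lgr Lrot3 (Lpr_ft (f282216 IH) (Lpn (LP (LK LD1_c5 LD2_c16 LD3_c10))))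
theorem f282224 : Led Lsl_ft (LP (LK LD1_c8 LD2_c29 LD3_c12)) = (LP (LK LD1_c8 LD2_c28 LD3_c41)) :=
  Lgr Lrot4 (Lpr_cf (K14.f252234 IH) (Lpr_ff (f282220 IH) (Lpr_cf (K15.f231886 IH) (Lpn (LP (LK LD1_c8 LD2_c28 LD3_c41))))))
theorem f252240 : Led Lsl_bt (LP (LK LD1_c15 LD2_c56 LD3_c13)) = (LP (LK LD1_c8 LD2_c29 LD3_c12)) :=
  Lre_b IH (LK LD1_c15 LD2_c56 LD3_c13) (LK LD1_c8 LD2_c29 LD3_c12) Lrfl Lrfl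
theorem f231903 : Led Lsl_bt (LP (LK LD1_c8 LD2_c28 LD3_c41)) = (LP (LK LD1_c15 LD2_c55 LD3_c5)) :=
  Lre_b IH (LK LD1_c8 LD2_c28 LD3_c41) (LK LD1_c15 LD2_c55 LD3_c5) Lrfl Lrfl
theorem f282330 : Led Lsl_ff (LP (LK LD1_c15 LD2_c56 LD3_c13)) = (LP (LK LD1_c15 LD2_c55 LD3_c5)) :=
  Lgr Lrot25 (Lpr_bt (f252240 IH) (Lpr_ft (f282224 IH) (Lpr_bt (f231903 IH) (Lpn (LP (LK LD1_c15 LD2_c55 LD3_c5))))))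
theorem f282338 : Led Lsl_ft (LP (LK LD1_c15 LD2_c56 LD3_c13)) = (LP (LK LD1_c15 LD2_c55 LD3_c5)) :=
  Lgr Lrot48 (Lpr_ff (f282330 IH) (Lpn (LP (LK LD1_c15 LD2_c55 LD3_c5))))
theorem f282340 : Led Lsl_at (LP (LK LD1_c25 LD2_c52 LD3_c36)) = (LP (LK LD1_c15 LD2_c56 LD3_c13)) :=
  Lre_a IH (LK LD1_c25 LD2_c52 LD3_c36) (LK LD1_c15 LD2_c56 LD3_c13) Lrfl Lrfl
theorem f282341 : Led Lsl_at (LP (LK LD1_c15 LD2_c55 LD3_c5)) = (LP (LK LD1_c25 LD2_c51 LD3_c23)) :=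
  Lre_a IH (LK LD1_c15 LD2_c55 LD3_c5) (LK LD1_c25 LD2_c51 LD3_c23) Lrfl Lrfl
theorem f282342 : Led Lsl_ff (LP (LK LD1_c25 LD2_c52 LD3_c36)) = (LP (LK LD1_c25 LD2_c51 LD3_c23)) :=
  Lgr Lrot30 (Lpr_at (f282340 IH) (Lpr_ft (f282338 IH) (Lpr_at (f282341 IH) (Lpn (LP (LK LD1_c25 LD2_c51 LD3_c23))))))
theorem f189849 : Led Lsl_dt (LP (LK LD1_c25 LD2_c52 LD3_c36)) = (LP (LK LD1_c15 LD2_c56 LD3_c12)) :=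
  Lre_d IH (LK LD1_c25 LD2_c52 LD3_c36) (LK LD1_c15 LD2_c56 LD3_c12) Lrfl Lrfl
theorem f231786 : Led Lsl_dt (LP (LK LD1_c15 LD2_c55 LD3_c4)) = (LP (LK LD1_c25 LD2_c51 LD3_c23)) :=
  Lre_d IH (LK LD1_c15 LD2_c55 LD3_c4) (LK LD1_c25 LD2_c51 LD3_c23) Lrfl Lrfl
theorem f282346 : Led Lsl_ft (LP (LK LD1_c15 LD2_c56 LD3_c12)) = (LP (LK LD1_c15 LD2_c55 LD3_c4)) :=
  Lgr Lrot54 (Lpe (f189849 IH) (Lpr_ff (f282342 IH) (Lpe (f231786 IH) (Lpn (LP (LK LD1_c15 LD2_c55 LD3_c4))))))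
theorem f282350 : Led Lsl_ff (LP (LK LD1_c15 LD2_c56 LD3_c12)) = (LP (LK LD1_c15 LD2_c55 LD3_c4)) :=
  Lgr Lrot3 (Lpr_ft (f282346 IH) (Lpn (LP (LK LD1_c15 LD2_c55 LD3_c4))))
theorem f45147 : Led Lsl_bt (LP (LK LD1_c4 LD2_c15 LD3_c7)) = (LP (LK LD1_c8 LD2_c29 LD3_c11)) :=
  Lre_b IH (LK LD1_c4 LD2_c15 LD3_c7) (LK LD1_c8 LD2_c29 LD3_c11) Lrfl Lrfl
theorem f189818 : Led Lsl_bt (LP (LK LD1_c8 LD2_c15 LD3_c56)) = (LP (LK LD1_c4 LD2_c7 LD3_c58)) :=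
  Lre_b IH (LK LD1_c8 LD2_c15 LD3_c56) (LK LD1_c4 LD2_c7 LD3_c58) Lrfl Lrfl
theorem f189819 : Led Lsl_ct (LP (LK LD1_c8 LD2_c29 LD3_c11)) = (LP (LK LD1_c8 LD2_c15 LD3_c56)) :=
  Lgr Lrot83 (Lpe (f45147 IH) (Lpe (K14.f45146 IH) (Lpr_bf (K10.f189814 IH) (Lpe (K15.f49105 IH) (Lpe (f189818 IH) (Lpn (LP (LK LD1_c8 LD2_c15 LD3_c56))))))))
theorem f189825 : Led Lsl_cf (LP (LK LD1_c8 LD2_c29 LD3_c11)) = (LP (LK LD1_c8 LD2_c15 LD3_c56)) :=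
  Lgr Lrot11 (Lpr_ct (f189819 IH) (Lpn (LP (LK LD1_c8 LD2_c15 LD3_c56))))
theorem f189838 : Led Lsl_at (LP (LK LD1_c8 LD2_c29 LD3_c11)) = (LP (LK LD1_c15 LD2_c56 LD3_c12)) :=
  Lre_a IH (LK LD1_c8 LD2_c29 LD3_c11) (LK LD1_c15 LD2_c56 LD3_c12) Lrfl Lrfl
theorem f189831 : Led Lsl_at (LP (LK LD1_c15 LD2_c32 LD3_c22)) = (LP (LK LD1_c8 LD2_c15 LD3_c56)) :=
  Lre_a IH (LK LD1_c15 LD2_c32 LD3_c22) (LK LD1_c8 LD2_c15 LD3_c56) Lrfl Lrfl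
theorem f189839 : Led Lsl_ct (LP (LK LD1_c15 LD2_c56 LD3_c12)) = (LP (LK LD1_c15 LD2_c32 LD3_c22)) :=
  Lgr Lrot111 (Lpe (f189838 IH) (Lpr_cf (f189825 IH) (Lpe (f189831 IH) (Lpn (LP (LK LD1_c15 LD2_c32 LD3_c22))))))
theorem f54368 : Led Lsl_et (LP (LK LD1_c2 LD2_c4 LD3_c50)) = (LP (LK LD1_c4 LD2_c14 LD3_c56)) :=
  Lre_e IH (LK LD1_c2 LD2_c4 LD3_c50) (LK LD1_c4 LD2_c14 LD3_c56) Lrfl Lrfl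
theorem f49929 : Led Lsl_et (LP (LK LD1_c4 LD2_c7 LD3_c38)) = (LP (LK LD1_c2 LD2_c1 LD3_c10)) :=
  Lre_e IH (LK LD1_c4 LD2_c7 LD3_c38) (LK LD1_c2 LD2_c1 LD3_c10) Lrfl Lrfl
theorem f231723 : Led Lsl_bt (LP (LK LD1_c4 LD2_c14 LD3_c56)) = (LP (LK LD1_c4 LD2_c7 LD3_c38)) :=
  Lgr Lrot119 (Lpe (f54368 IH) (Lpr_bf (K15.f231712 IH) (Lpe (f49929 IH) (Lpn (LP (LK LD1_c4 LD2_c7 LD3_c38))))))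
theorem f231727 : Led Lsl_ct (LP (LK LD1_c8 LD2_c28 LD3_c42)) = (LP (LK LD1_c4 LD2_c14 LD3_c56)) :=
  Lre_c IH (LK LD1_c8 LD2_c28 LD3_c42) (LK LD1_c4 LD2_c14 LD3_c56) Lrfl Lrfl
theorem f231728 : Led Lsl_bt (LP (LK LD1_c15 LD2_c55 LD3_c6)) = (LP (LK LD1_c8 LD2_c28 LD3_c42)) :=
  Lre_b IH (LK LD1_c15 LD2_c55 LD3_c6) (LK LD1_c8 LD2_c28 LD3_c42) Lrfl Lrfl
theorem f231729 : Led Lsl_ct (LP (LK LD1_c4 LD2_c7 LD3_c38)) = (LP (LK LD1_c8 LD2_c15 LD3_c13)) :=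
  Lre_c IH (LK LD1_c4 LD2_c7 LD3_c38) (LK LD1_c8 LD2_c15 LD3_c13) Lrfl Lrfl
theorem f231730 : Led Lsl_bt (LP (LK LD1_c8 LD2_c15 LD3_c13)) = (LP (LK LD1_c15 LD2_c31 LD3_c10)) :=
  Lre_b IH (LK LD1_c8 LD2_c15 LD3_c13) (LK LD1_c15 LD2_c31 LD3_c10) Lrfl Lrfl
theorem f231731 : Led Lsl_cf (LP (LK LD1_c15 LD2_c55 LD3_c6)) = (LP (LK LD1_c15 LD2_c31 LD3_c10)) :=
  Lgr Lrot97 (Lpr_bt (f231728 IH) (Lpr_ct (f231727 IH) (Lpr_bt (f231723 IH) (Lpr_ct (f231729 IH) (Lpr_bt (f231730 IH) (Lpn (LP (LK LD1_c15 LD2_c31 LD3_c10))))))))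
theorem f231751 : Led Lsl_ct (LP (LK LD1_c15 LD2_c55 LD3_c6)) = (LP (LK LD1_c15 LD2_c31 LD3_c10)) :=
  Lgr Lrot59 (Lpr_cf (f231731 IH) (Lpn (LP (LK LD1_c15 LD2_c31 LD3_c10))))
theorem f231762 : Led Lsl_et (LP (LK LD1_c8 LD2_c28 LD3_c40)) = (LP (LK LD1_c15 LD2_c55 LD3_c6)) :=
  Lre_e IH (LK LD1_c8 LD2_c28 LD3_c40) (LK LD1_c15 LD2_c55 LD3_c6) Lrfl Lrfl
theorem f231763 : Led Lsl_et (LP (LK LD1_c15 LD2_c31 LD3_c10)) = (LP (LK LD1_c8 LD2_c15 LD3_c11)) :=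
  Lre_e IH (LK LD1_c15 LD2_c31 LD3_c10) (LK LD1_c8 LD2_c15 LD3_c11) Lrfl Lrfl
theorem f231764 : Led Lsl_cf (LP (LK LD1_c8 LD2_c28 LD3_c40)) = (LP (LK LD1_c8 LD2_c15 LD3_c11)) :=
  Lgr Lrot39 (Lpr_et (f231762 IH) (Lpr_ct (f231751 IH) (Lpr_et (f231763 IH) (Lpn (LP (LK LD1_c8 LD2_c15 LD3_c11))))))
theorem f231767 : Led Lsl_at (LP (LK LD1_c8 LD2_c28 LD3_c40)) = (LP (LK LD1_c15 LD2_c55 LD3_c4)) :=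
  Lre_a IH (LK LD1_c8 LD2_c28 LD3_c40) (LK LD1_c15 LD2_c55 LD3_c4) Lrfl Lrfl
theorem f231768 : Led Lsl_at (LP (LK LD1_c15 LD2_c31 LD3_c8)) = (LP (LK LD1_c8 LD2_c15 LD3_c11)) :=
  Lre_a IH (LK LD1_c15 LD2_c31 LD3_c8) (LK LD1_c8 LD2_c15 LD3_c11) Lrfl Lrfl
theorem f231769 : Led Lsl_ct (LP (LK LD1_c15 LD2_c55 LD3_c4)) = (LP (LK LD1_c15 LD2_c31 LD3_c8)) :=
  Lgr Lrot111 (Lpe (f231767 IH) (Lpr_cf (f231764 IH) (Lpe (f231768 IH) (Lpn (LP (LK LD1_c15 LD2_c31 LD3_c8))))))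
theorem f231782 : Led Lsl_cf (LP (LK LD1_c15 LD2_c55 LD3_c4)) = (LP (LK LD1_c15 LD2_c31 LD3_c8)) :=
  Lgr Lrot11 (Lpr_ct (f231769 IH) (Lpn (LP (LK LD1_c15 LD2_c31 LD3_c8))))
theorem f282356 : Led Lsl_ft (LP (LK LD1_c15 LD2_c32 LD3_c22)) = (LP (LK LD1_c15 LD2_c31 LD3_c8)) :=
  Lgr Lrot4 (Lpe (f189839 IH) (Lpr_ff (f282350 IH) (Lpr_cf (f231782 IH) (Lpn (LP (LK LD1_c15 LD2_c31 LD3_c8))))))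
theorem f189822 : Led Lsl_at (LP (LK LD1_c8 LD2_c15 LD3_c56)) = (LP (LK LD1_c15 LD2_c32 LD3_c22)) :=
  Lre_a IH (LK LD1_c8 LD2_c15 LD3_c56) (LK LD1_c15 LD2_c32 LD3_c22) Lrfl Lrfl
theorem f282360 : Led Lsl_ff (LP (LK LD1_c8 LD2_c15 LD3_c56)) = (LP (LK LD1_c8 LD2_c15 LD3_c11)) :=
  Lgr Lrot30 (Lpr_at (f189822 IH) (Lpr_ft (f282356 IH) (Lpr_at (f231768 IH) (Lpn (LP (LK LD1_c8 LD2_c15 LD3_c11))))))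
theorem f49926 : Led Lsl_bt (LP (LK LD1_c4 LD2_c7 LD3_c37)) = (LP (LK LD1_c8 LD2_c15 LD3_c11)) :=
  Lre_b IH (LK LD1_c4 LD2_c7 LD3_c37) (LK LD1_c8 LD2_c15 LD3_c11) Lrfl Lrfl
theorem f282364 : Led Lsl_ft (LP (LK LD1_c4 LD2_c7 LD3_c58)) = (LP (LK LD1_c4 LD2_c7 LD3_c37)) :=
  Lgr Lrot75 (Lpe (f189818 IH) (Lpr_ff (f282360 IH) (Lpe (f49926 IH) (Lpn (LP (LK LD1_c4 LD2_c7 LD3_c37))))))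
theorem f282389 : Led Lsl_af (LP (LK LD1_c2 LD2_c58 LD3_c51)) = (LP (LK LD1_c4 LD2_c7 LD3_c37)) :=
  Lgr Lrot45 (Lpe (K15.f263459 IH) (Lpr_at (K15.f263448 IH) (Lpr_ft (f282364 IH) (Lpn (LP (LK LD1_c4 LD2_c7 LD3_c37))))))
theorem f257812 : Led Lsl_et (LP (LK LD1_c2 LD2_c58 LD3_c51)) = (LP (LK LD1_c6 LD2_c5 LD3_c32)) :=
  Lre_e IH (LK LD1_c2 LD2_c58 LD3_c51) (LK LD1_c6 LD2_c5 LD3_c32) Lrfl Lrfl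
theorem f264113 : Led Lsl_et (LP (LK LD1_c8 LD2_c15 LD3_c13)) = (LP (LK LD1_c4 LD2_c7 LD3_c37)) :=
  Lre_e IH (LK LD1_c8 LD2_c15 LD3_c13) (LK LD1_c4 LD2_c7 LD3_c37) Lrfl Lrfl
theorem f282398 : Led Lsl_at (LP (LK LD1_c6 LD2_c5 LD3_c32)) = (LP (LK LD1_c8 LD2_c15 LD3_c13)) :=
  Lgr Lrot80 (Lpe (f257812 IH) (Lpr_af (f282389 IH) (Lpe (f264113 IH) (Lpn (LP (LK LD1_c8 LD2_c15 LD3_c13))))))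
theorem f263470 : Led Lsl_ft (LP (LK LD1_c11 LD2_c54 LD3_c42)) = (LP (LK LD1_c6 LD2_c5 LD3_c32)) :=
  Lre_f IH (LK LD1_c11 LD2_c54 LD3_c42) (LK LD1_c6 LD2_c5 LD3_c32) Lrfl Lrfl
theorem f282392 : Led Lsl_ft (LP (LK LD1_c8 LD2_c15 LD3_c13)) = (LP (LK LD1_c15 LD2_c31 LD3_c15)) :=
  Lre_f IH (LK LD1_c8 LD2_c15 LD3_c13) (LK LD1_c15 LD2_c31 LD3_c15) Lrfl Lrfl
theorem f282404 : Led Lsl_af (LP (LK LD1_c11 LD2_c54 LD3_c42)) = (LP (LK LD1_c15 LD2_c31 LD3_c15)) :=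
  Lgr Lrot45 (Lpr_ft (f263470 IH) (Lpr_at (f282398 IH) (Lpr_ft (f282392 IH) (Lpn (LP (LK LD1_c15 LD2_c31 LD3_c15))))))
theorem f282409 : Led Lsl_at (LP (LK LD1_c11 LD2_c54 LD3_c42)) = (LP (LK LD1_c15 LD2_c31 LD3_c15)) :=
  Lgr Lrot100 (Lpr_af (f282404 IH) (Lpn (LP (LK LD1_c15 LD2_c31 LD3_c15))))
theorem f264425 : Led Lsl_ct (LP (LK LD1_c6 LD2_c5 LD3_c35)) = (LP (LK LD1_c11 LD2_c54 LD3_c42)) :=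
  Lre_c IH (LK LD1_c6 LD2_c5 LD3_c35) (LK LD1_c11 LD2_c54 LD3_c42) Lrfl Lrfl
theorem f231745 : Led Lsl_ct (LP (LK LD1_c15 LD2_c31 LD3_c15)) = (LP (LK LD1_c8 LD2_c15 LD3_c16)) :=
  Lre_c IH (LK LD1_c15 LD2_c31 LD3_c15) (LK LD1_c8 LD2_c15 LD3_c16) Lrfl Lrfl
theorem f282414 : Led Lsl_af (LP (LK LD1_c6 LD2_c5 LD3_c35)) = (LP (LK LD1_c8 LD2_c15 LD3_c16)) :=
  Lgr Lrot68 (Lpr_ct (f264425 IH) (Lpr_at (f282409 IH) (Lpr_ct (f231745 IH) (Lpn (LP (LK LD1_c8 LD2_c15 LD3_c16))))))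
theorem f231734 : Led Lsl_ft (LP (LK LD1_c4 LD2_c7 LD3_c38)) = (LP (LK LD1_c8 LD2_c15 LD3_c16)) :=
  Lre_f IH (LK LD1_c4 LD2_c7 LD3_c38) (LK LD1_c8 LD2_c15 LD3_c16) Lrfl Lrfl
theorem f282425 : Led Lsl_at (LP (LK LD1_c2 LD2_c58 LD3_c52)) = (LP (LK LD1_c4 LD2_c7 LD3_c38)) :=
  Lgr Lrot66 (Lpe (K15.f264430 IH) (Lpr_af (f282414 IH) (Lpe (f231734 IH) (Lpn (LP (LK LD1_c4 LD2_c7 LD3_c38))))))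
theorem f264454 : Led Lsl_dt (LP (LK LD1_c2 LD2_c11 LD3_c59)) = (LP (LK LD1_c2 LD2_c58 LD3_c52)) :=
  Lgr Lrot42 (Lpr_df (K15.f264443 IH) (Lpn (LP (LK LD1_c2 LD2_c58 LD3_c52))))
theorem f264506 : Led Lsl_at (LP (LK LD1_c4 LD2_c29 LD3_c49)) = (LP (LK LD1_c2 LD2_c11 LD3_c59)) :=
  Lre_a IH (LK LD1_c4 LD2_c29 LD3_c49) (LK LD1_c2 LD2_c11 LD3_c59) Lrfl Lrfl
theorem f282431 : Led Lsl_df (LP (LK LD1_c4 LD2_c29 LD3_c49)) = (LP (LK LD1_c4 LD2_c7 LD3_c38)) :=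
  Lgr Lrot18 (Lpr_at (f264506 IH) (Lpr_dt (f264454 IH) (Lpr_at (f282425 IH) (Lpn (LP (LK LD1_c4 LD2_c7 LD3_c38))))))
theorem f263043 : Led Lsl_gt (LP (LK LD1_c8 LD2_c57 LD3_c46)) = (LP (LK LD1_c4 LD2_c29 LD3_c49)) :=
  Lre_g IH (LK LD1_c8 LD2_c57 LD3_c46) (LK LD1_c4 LD2_c29 LD3_c49) Lrfl Lrfl
theorem f258792 : Led Lsl_df (LP (LK LD1_c2 LD2_c42 LD3_c18)) = (LP (LK LD1_c4 LD2_c14 LD3_c56)) :=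
  Lgr Lrot38 (Lpr_dt (K15.f258689 IH) (Lpn (LP (LK LD1_c4 LD2_c14 LD3_c56))))
theorem f258802 : Led Lsl_gt (LP (LK LD1_c5 LD2_c32 LD3_c12)) = (LP (LK LD1_c2 LD2_c42 LD3_c18)) :=
  Lre_g IH (LK LD1_c5 LD2_c32 LD3_c12) (LK LD1_c2 LD2_c42 LD3_c18) Lrfl Lrfl
theorem f263032 : Led Lsl_gt (LP (LK LD1_c4 LD2_c29 LD3_c55)) = (LP (LK LD1_c8 LD2_c57 LD3_c46)) :=
  Lre_g IH (LK LD1_c4 LD2_c29 LD3_c55) (LK LD1_c8 LD2_c57 LD3_c46) Lrfl Lrfl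
theorem f263033 : Led Lsl_df (LP (LK LD1_c5 LD2_c32 LD3_c12)) = (LP (LK LD1_c8 LD2_c57 LD3_c46)) :=
  Lgr Lrot135 (Lpr_gt (f258802 IH) (Lpr_df (f258792 IH) (Lpr_et (K15.f49092 IH) (Lpr_gt (K9.f48188 IH) (Lpe (K15.f49093 IH) (Lpr_dt (K15.f49094 IH) (Lpr_gt (K15.f263019 IH) (Lpr_df (K15.f261837 IH) (Lpe (K15.f262974 IH) (Lpr_gt (f263032 IH) (Lpn (LP (LK LD1_c8 LD2_c57 LD3_c46)))))))))))))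
theorem f263038 : Led Lsl_dt (LP (LK LD1_c5 LD2_c32 LD3_c12)) = (LP (LK LD1_c8 LD2_c57 LD3_c46)) :=
  Lgr Lrot42 (Lpr_df (f263033 IH) (Lpn (LP (LK LD1_c8 LD2_c57 LD3_c46))))
theorem f263046 : Led Lsl_gt (LP (LK LD1_c2 LD2_c42 LD3_c26)) = (LP (LK LD1_c5 LD2_c32 LD3_c12)) :=
  Lre_g IH (LK LD1_c2 LD2_c42 LD3_c26) (LK LD1_c5 LD2_c32 LD3_c12) Lrfl Lrfl
theorem f258575 : Led Lsl_ft (LP (LK LD1_c2 LD2_c11 LD3_c49)) = (LP (LK LD1_c4 LD2_c29 LD3_c32)) :=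
  Lre_f IH (LK LD1_c2 LD2_c11 LD3_c49) (LK LD1_c4 LD2_c29 LD3_c32) Lrfl Lrfl
theorem f196403 : Led Lsl_et (LP (LK LD1_c1 LD2_c17 LD3_c47)) = (LP (LK LD1_c0 LD2_c35 LD3_c55)) :=
  Lre_e IH (LK LD1_c1 LD2_c17 LD3_c47) (LK LD1_c0 LD2_c35 LD3_c55) Lrfl Lrfl
theorem f258576 : Led Lsl_ft (LP (LK LD1_c2 LD2_c42 LD3_c26)) = (LP (LK LD1_c1 LD2_c17 LD3_c47)) :=
  Lre_f IH (LK LD1_c2 LD2_c42 LD3_c26) (LK LD1_c1 LD2_c17 LD3_c47) Lrfl Lrfl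
theorem f258577 : Led Lsl_et (LP (LK LD1_c4 LD2_c29 LD3_c32)) = (LP (LK LD1_c2 LD2_c42 LD3_c26)) :=
  Lgr Lrot69 (Lpe (f258575 IH) (Lpe (K15.f185021 IH) (Lpr_ff (K15.f258567 IH) (Lpe (f196403 IH) (Lpe (f258576 IH) (Lpn (LP (LK LD1_c2 LD2_c42 LD3_c26))))))))
theorem f49930 : Led Lsl_et (LP (LK LD1_c5 LD2_c15 LD3_c41)) = (LP (LK LD1_c2 LD2_c34 LD3_c42)) :=
  Lre_e IH (LK LD1_c5 LD2_c15 LD3_c41) (LK LD1_c2 LD2_c34 LD3_c42) Lrfl Lrfl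
theorem f49931 : Led Lsl_dt (LP (LK LD1_c5 LD2_c15 LD3_c41)) = (LP (LK LD1_c2 LD2_c34 LD3_c41)) :=
  Lre_d IH (LK LD1_c5 LD2_c15 LD3_c41) (LK LD1_c2 LD2_c34 LD3_c41) Lrfl Lrfl
theorem f282443 : Led Lsl_gf (LP (LK LD1_c5 LD2_c6 LD3_c22)) = (LP (LK LD1_c2 LD2_c34 LD3_c41)) :=
  Lgr Lrot145 (Lpe (K15.f261788 IH) (Lpr_et (f258577 IH) (Lpr_gt (f263046 IH) (Lpr_dt (f263038 IH) (Lpr_gt (f263043 IH) (Lpr_df (f282431 IH) (Lpr_et (f49929 IH) (Lpr_gt (K16.f49903 IH) (Lpe (f49930 IH) (Lpr_dt (f49931 IH) (Lpn (LP (LK LD1_c2 LD2_c34 LD3_c41)))))))))))))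
theorem f48905 : Led Lsl_et (LP (LK LD1_c1 LD2_c14 LD3_c21)) = (LP (LK LD1_c2 LD2_c34 LD3_c41)) :=
  Lre_e IH (LK LD1_c1 LD2_c14 LD3_c21) (LK LD1_c2 LD2_c34 LD3_c41) Lrfl Lrfl
theorem f48346 : Led Lsl_ff (LP (LK LD1_c2 LD2_c34 LD3_c54)) = (LP (LK LD1_c2 LD2_c35 LD3_c49)) :=
  Lgr Lrot19 (Lpr_dt (K10.f32349 IH) (Lpr_ft (K10.f48334 IH) (Lpe (K1.f32182 IH) (Lpn (LP (LK LD1_c2 LD2_c35 LD3_c49))))))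
theorem f32209 : Led Lsl_gt (LP (LK LD1_c2 LD2_c35 LD3_c49)) = (LP (LK LD1_c5 LD2_c18 LD3_c18)) :=
  Lre_g IH (LK LD1_c2 LD2_c35 LD3_c49) (LK LD1_c5 LD2_c18 LD3_c18) Lrfl Lrfl
theorem f48900 : Led Lsl_gf (LP (LK LD1_c5 LD2_c15 LD3_c10)) = (LP (LK LD1_c5 LD2_c18 LD3_c18)) :=
  Lgr Lrot76 (Lpe (K10.f32348 IH) (Lpr_ff (f48346 IH) (Lpr_gt (f32209 IH) (Lpn (LP (LK LD1_c5 LD2_c18 LD3_c18))))))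
theorem f48904 : Led Lsl_et (LP (LK LD1_c10 LD2_c26 LD3_c21)) = (LP (LK LD1_c5 LD2_c18 LD3_c18)) :=
  Lre_e IH (LK LD1_c10 LD2_c26 LD3_c21) (LK LD1_c5 LD2_c18 LD3_c18) Lrfl Lrfl
theorem f47766 : Led Lsl_ft (LP (LK LD1_c4 LD2_c7 LD3_c59)) = (LP (LK LD1_c8 LD2_c15 LD3_c60)) :=
  Lre_f IH (LK LD1_c4 LD2_c7 LD3_c59) (LK LD1_c8 LD2_c15 LD3_c60) Lrfl Lrfl
theorem f263421 : Led Lsl_af (LP (LK LD1_c5 LD2_c26 LD3_c13)) = (LP (LK LD1_c8 LD2_c15 LD3_c60)) :=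
  Lgr Lrot45 (Lpr_ft (K15.f185663 IH) (Lpr_at (K15.f263408 IH) (Lpr_ft (f47766 IH) (Lpn (LP (LK LD1_c8 LD2_c15 LD3_c60))))))
theorem f47767 : Led Lsl_ft (LP (LK LD1_c10 LD2_c20 LD3_c4)) = (LP (LK LD1_c5 LD2_c15 LD3_c22)) :=
  Lre_f IH (LK LD1_c10 LD2_c20 LD3_c4) (LK LD1_c5 LD2_c15 LD3_c22) Lrfl Lrfl
theorem f47768 : Led Lsl_dt (LP (LK LD1_c8 LD2_c15 LD3_c60)) = (LP (LK LD1_c10 LD2_c20 LD3_c4)) :=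
  Lgr Lrot60 (Lpe (f47766 IH) (Lpr_df (K10.f47755 IH) (Lpe (f47767 IH) (Lpn (LP (LK LD1_c10 LD2_c20 LD3_c4))))))
theorem f47777 : Led Lsl_df (LP (LK LD1_c8 LD2_c15 LD3_c60)) = (LP (LK LD1_c10 LD2_c20 LD3_c4)) :=
  Lgr Lrot38 (Lpr_dt (f47768 IH) (Lpn (LP (LK LD1_c10 LD2_c20 LD3_c4))))
theorem f263425 : Led Lsl_at (LP (LK LD1_c10 LD2_c15 LD3_c7)) = (LP (LK LD1_c10 LD2_c20 LD3_c4)) :=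
  Lgr Lrot51 (Lpr_df (K12.f185655 IH) (Lpr_af (f263421 IH) (Lpr_df (f47777 IH) (Lpn (LP (LK LD1_c10 LD2_c20 LD3_c4))))))
theorem f185678 : Led Lsl_gt (LP (LK LD1_c5 LD2_c12 LD3_c10)) = (LP (LK LD1_c10 LD2_c15 LD3_c5)) :=
  Lre_g IH (LK LD1_c5 LD2_c12 LD3_c10) (LK LD1_c10 LD2_c15 LD3_c5) Lrfl Lrfl
theorem f263427 : Led Lsl_gt (LP (LK LD1_c10 LD2_c15 LD3_c5)) = (LP (LK LD1_c10 LD2_c20 LD3_c4)) :=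
  Lgr Lrot46 (Lpe (f185678 IH) (Lpr_ft (K15.f185674 IH) (Lpr_at (f263425 IH) (Lpn (LP (LK LD1_c10 LD2_c20 LD3_c4))))))
theorem f263073 : Led Lsl_dt (LP (LK LD1_c4 LD2_c7 LD3_c61)) = (LP (LK LD1_c5 LD2_c5 LD3_c37)) :=
  Lgr Lrot136 (Lpe (K15.f259228 IH) (Lpe (K15.f261448 IH) (Lpe (K13.f171181 IH) (Lpr_dt (K12.f50153 IH) (Lpr_gf (K14.f250722 IH) (Lpr_df (K12.f167733 IH) (Lpe (K14.f246283 IH) (Lpe (K13.f232022 IH) (Lpr_dt (K12.f32429 IH) (Lpr_gf (K15.f263061 IH) (Lpn (LP (LK LD1_c5 LD2_c5 LD3_c37)))))))))))))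
theorem f221426 : Led Lsl_dt (LP (LK LD1_c1 LD2_c17 LD3_c33)) = (LP (LK LD1_c2 LD2_c41 LD3_c47)) :=
  Lre_d IH (LK LD1_c1 LD2_c17 LD3_c33) (LK LD1_c2 LD2_c41 LD3_c47) Lrfl Lrfl
theorem f263075 : Led Lsl_ef (LP (LK LD1_c5 LD2_c17 LD3_c45)) = (LP (LK LD1_c5 LD2_c5 LD3_c37)) :=
  Lgr Lrot73 (Lpr_dt (K15.f262991 IH) (Lpr_et (K15.f259227 IH) (Lpr_dt (f221426 IH) (Lpr_et (K15.f259225 IH) (Lpr_dt (f263073 IH) (Lpn (LP (LK LD1_c5 LD2_c5 LD3_c37))))))))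
theorem f212215 : Led Lsl_at (LP (LK LD1_c5 LD2_c5 LD3_c37)) = (LP (LK LD1_c2 LD2_c30 LD3_c2)) :=
  Lre_a IH (LK LD1_c5 LD2_c5 LD3_c37) (LK LD1_c2 LD2_c30 LD3_c2) Lrfl Lrfl
theorem f260595 : Led Lsl_ff (LP (LK LD1_c5 LD2_c5 LD3_c37)) = (LP (LK LD1_c2 LD2_c34 LD3_c32)) :=
  Lgr Lrot52 (Lpr_at (f212215 IH) (Lpr_gf (K15.f260593 IH) (Lpr_gf (K15.f231943 IH) (Lpn (LP (LK LD1_c2 LD2_c34 LD3_c32))))))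
theorem f47719 : Led Lsl_et (LP (LK LD1_c5 LD2_c15 LD3_c22)) = (LP (LK LD1_c2 LD2_c34 LD3_c32)) :=
  Lre_e IH (LK LD1_c5 LD2_c15 LD3_c22) (LK LD1_c2 LD2_c34 LD3_c32) Lrfl Lrfl
theorem f263079 : Led Lsl_et (LP (LK LD1_c10 LD2_c17 LD3_c2)) = (LP (LK LD1_c10 LD2_c20 LD3_c4)) :=
  Lgr Lrot69 (Lpe (K15.f262995 IH) (Lpr_ef (f263075 IH) (Lpr_ff (f260595 IH) (Lpe (f47719 IH) (Lpe (f47767 IH) (Lpn (LP (LK LD1_c10 LD2_c20 LD3_c4))))))))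
theorem f257174 : Led Lsl_gt (LP (LK LD1_c5 LD2_c31 LD3_c3)) = (LP (LK LD1_c2 LD2_c41 LD3_c55)) :=
  Lre_g IH (LK LD1_c5 LD2_c31 LD3_c3) (LK LD1_c2 LD2_c41 LD3_c55) Lrfl Lrfl
theorem f212212 : Led Lsl_dt (LP (LK LD1_c5 LD2_c31 LD3_c24)) = (LP (LK LD1_c2 LD2_c41 LD3_c55)) :=
  Lre_d IH (LK LD1_c5 LD2_c31 LD3_c24) (LK LD1_c2 LD2_c41 LD3_c55) Lrfl Lrfl
theorem f212211 : Led Lsl_gt (LP (LK LD1_c2 LD2_c41 LD3_c55)) = (LP (LK LD1_c1 LD2_c17 LD3_c36)) :=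
  Lre_g IH (LK LD1_c2 LD2_c41 LD3_c55) (LK LD1_c1 LD2_c17 LD3_c36) Lrfl Lrfl
theorem f32597 : Led Lsl_at (LP (LK LD1_c1 LD2_c14 LD3_c31)) = (LP (LK LD1_c2 LD2_c35 LD3_c5)) :=
  Lre_a IH (LK LD1_c1 LD2_c14 LD3_c31) (LK LD1_c2 LD2_c35 LD3_c5) Lrfl Lrfl
theorem f32595 : Led Lsl_at (LP (LK LD1_c2 LD2_c36 LD3_c0)) = (LP (LK LD1_c1 LD2_c14 LD3_c61)) :=
  Lre_a IH (LK LD1_c2 LD2_c36 LD3_c0) (LK LD1_c1 LD2_c14 LD3_c61) Lrfl Lrfl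
theorem f48571 : Led Lsl_et (LP (LK LD1_c2 LD2_c35 LD3_c5)) = (LP (LK LD1_c2 LD2_c36 LD3_c0)) :=
  Lgr Lrot123 (Lpe (f32597 IH) (Lpr_ef (K10.f48563 IH) (Lpe (f32595 IH) (Lpn (LP (LK LD1_c2 LD2_c36 LD3_c0))))))
theorem f32730 : Led Lsl_ct (LP (LK LD1_c5 LD2_c16 LD3_c6)) = (LP (LK LD1_c2 LD2_c35 LD3_c5)) :=
  Lre_c IH (LK LD1_c5 LD2_c16 LD3_c6) (LK LD1_c2 LD2_c35 LD3_c5) Lrfl Lrfl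
theorem f32682 : Led Lsl_ct (LP (LK LD1_c2 LD2_c36 LD3_c0)) = (LP (LK LD1_c5 LD2_c18 LD3_c9)) :=
  Lre_c IH (LK LD1_c2 LD2_c36 LD3_c0) (LK LD1_c5 LD2_c18 LD3_c9) Lrfl Lrfl
theorem f48643 : Led Lsl_ef (LP (LK LD1_c5 LD2_c16 LD3_c6)) = (LP (LK LD1_c5 LD2_c18 LD3_c9)) :=
  Lgr Lrot28 (Lpr_ct (f32730 IH) (Lpr_et (f48571 IH) (Lpr_ct (f32682 IH) (Lpn (LP (LK LD1_c5 LD2_c18 LD3_c9))))))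
theorem f32673 : Led Lsl_bt (LP (LK LD1_c5 LD2_c16 LD3_c6)) = (LP (LK LD1_c10 LD2_c19 LD3_c45)) :=
  Lre_b IH (LK LD1_c5 LD2_c16 LD3_c6) (LK LD1_c10 LD2_c19 LD3_c45) Lrfl Lrfl
theorem f32672 : Led Lsl_bt (LP (LK LD1_c10 LD2_c23 LD3_c54)) = (LP (LK LD1_c5 LD2_c18 LD3_c9)) :=
  Lre_b IH (LK LD1_c10 LD2_c23 LD3_c54) (LK LD1_c5 LD2_c18 LD3_c9) Lrfl Lrfl
theorem f48647 : Led Lsl_et (LP (LK LD1_c10 LD2_c19 LD3_c45)) = (LP (LK LD1_c10 LD2_c23 LD3_c54)) :=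
  Lgr Lrot74 (Lpe (f32673 IH) (Lpr_ef (f48643 IH) (Lpe (f32672 IH) (Lpn (LP (LK LD1_c10 LD2_c23 LD3_c54))))))
theorem f48664 : Led Lsl_ef (LP (LK LD1_c10 LD2_c19 LD3_c45)) = (LP (LK LD1_c10 LD2_c23 LD3_c54)) :=
  Lgr Lrot88 (Lpr_et (f48647 IH) (Lpn (LP (LK LD1_c10 LD2_c23 LD3_c54))))
theorem f32475 : Led Lsl_at (LP (LK LD1_c10 LD2_c19 LD3_c45)) = (LP (LK LD1_c5 LD2_c15 LD3_c7)) :=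
  Lre_a IH (LK LD1_c10 LD2_c19 LD3_c45) (LK LD1_c5 LD2_c15 LD3_c7) Lrfl Lrfl
theorem f32737 : Led Lsl_at (LP (LK LD1_c5 LD2_c17 LD3_c7)) = (LP (LK LD1_c10 LD2_c23 LD3_c54)) :=
  Lre_a IH (LK LD1_c5 LD2_c17 LD3_c7) (LK LD1_c10 LD2_c23 LD3_c54) Lrfl Lrfl
theorem f48666 : Led Lsl_et (LP (LK LD1_c5 LD2_c15 LD3_c7)) = (LP (LK LD1_c5 LD2_c17 LD3_c7)) :=
  Lgr Lrot123 (Lpe (f32475 IH) (Lpr_ef (f48664 IH) (Lpe (f32737 IH) (Lpn (LP (LK LD1_c5 LD2_c17 LD3_c7))))))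
theorem f32746 : Led Lsl_ft (LP (LK LD1_c10 LD2_c19 LD3_c47)) = (LP (LK LD1_c5 LD2_c15 LD3_c7)) :=
  Lre_f IH (LK LD1_c10 LD2_c19 LD3_c47) (LK LD1_c5 LD2_c15 LD3_c7) Lrfl Lrfl
theorem f32759 : Led Lsl_ft (LP (LK LD1_c5 LD2_c17 LD3_c7)) = (LP (LK LD1_c10 LD2_c23 LD3_c56)) :=
  Lre_f IH (LK LD1_c5 LD2_c17 LD3_c7) (LK LD1_c10 LD2_c23 LD3_c56) Lrfl Lrfl
theorem f48674 : Led Lsl_ff (LP (LK LD1_c18 LD2_c45 LD3_c18)) = (LP (LK LD1_c18 LD2_c52 LD3_c7)) :=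
  Lgr Lrot72 (Lpr_et (K2.f32514 IH) (Lpr_ft (f32746 IH) (Lpr_et (f48666 IH) (Lpr_ft (f32759 IH) (Lpr_et (K2.f32513 IH) (Lpn (LP (LK LD1_c18 LD2_c52 LD3_c7))))))))
theorem f48682 : Led Lsl_ft (LP (LK LD1_c18 LD2_c45 LD3_c18)) = (LP (LK LD1_c18 LD2_c52 LD3_c7)) :=
  Lgr Lrot48 (Lpr_ff (f48674 IH) (Lpn (LP (LK LD1_c18 LD2_c52 LD3_c7))))
theorem f32539 : Led Lsl_dt (LP (LK LD1_c28 LD2_c15 LD3_c10)) = (LP (LK LD1_c18 LD2_c45 LD3_c18)) :=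
  Lre_d IH (LK LD1_c28 LD2_c15 LD3_c10) (LK LD1_c18 LD2_c45 LD3_c18) Lrfl Lrfl
theorem f32543 : Led Lsl_dt (LP (LK LD1_c18 LD2_c52 LD3_c7)) = (LP (LK LD1_c28 LD2_c20 LD3_c24)) :=
  Lre_d IH (LK LD1_c18 LD2_c52 LD3_c7) (LK LD1_c28 LD2_c20 LD3_c24) Lrfl Lrfl
theorem f48684 : Led Lsl_ff (LP (LK LD1_c28 LD2_c15 LD3_c10)) = (LP (LK LD1_c28 LD2_c20 LD3_c24)) :=
  Lgr Lrot19 (Lpr_dt (f32539 IH) (Lpr_ft (f48682 IH) (Lpr_dt (f32543 IH) (Lpn (LP (LK LD1_c28 LD2_c20 LD3_c24))))))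
theorem f48686 : Led Lsl_bt (LP (LK LD1_c28 LD2_c15 LD3_c10)) = (LP (LK LD1_c18 LD2_c45 LD3_c22)) :=
  Lre_b IH (LK LD1_c28 LD2_c15 LD3_c10) (LK LD1_c18 LD2_c45 LD3_c22) Lrfl Lrfl
theorem f48355 : Led Lsl_bt (LP (LK LD1_c18 LD2_c52 LD3_c14)) = (LP (LK LD1_c28 LD2_c20 LD3_c24)) :=
  Lre_b IH (LK LD1_c18 LD2_c52 LD3_c14) (LK LD1_c28 LD2_c20 LD3_c24) Lrfl Lrfl
theorem f48687 : Led Lsl_ft (LP (LK LD1_c18 LD2_c45 LD3_c22)) = (LP (LK LD1_c18 LD2_c52 LD3_c14)) :=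
  Lgr Lrot75 (Lpe (f48686 IH) (Lpr_ff (f48684 IH) (Lpe (f48355 IH) (Lpn (LP (LK LD1_c18 LD2_c52 LD3_c14))))))
theorem f32355 : Led Lsl_dt (LP (LK LD1_c18 LD2_c45 LD3_c22)) = (LP (LK LD1_c10 LD2_c19 LD3_c50)) :=
  Lre_d IH (LK LD1_c18 LD2_c45 LD3_c22) (LK LD1_c10 LD2_c19 LD3_c50) Lrfl Lrfl
theorem f32354 : Led Lsl_ct (LP (LK LD1_c10 LD2_c19 LD3_c50)) = (LP (LK LD1_c5 LD2_c15 LD3_c10)) :=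
  Lre_c IH (LK LD1_c10 LD2_c19 LD3_c50) (LK LD1_c5 LD2_c15 LD3_c10) Lrfl Lrfl
theorem f32352 : Led Lsl_dt (LP (LK LD1_c10 LD2_c19 LD3_c50)) = (LP (LK LD1_c18 LD2_c45 LD3_c22)) :=
  Lre_d IH (LK LD1_c10 LD2_c19 LD3_c50) (LK LD1_c18 LD2_c45 LD3_c22) Lrfl Lrfl
theorem f32353 : Led Lsl_ct (LP (LK LD1_c18 LD2_c45 LD3_c22)) = (LP (LK LD1_c28 LD2_c15 LD3_c11)) :=
  Lre_c IH (LK LD1_c18 LD2_c45 LD3_c22) (LK LD1_c28 LD2_c15 LD3_c11) Lrfl Lrfl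
theorem f48352 : Led Lsl_at (LP (LK LD1_c18 LD2_c52 LD3_c14)) = (LP (LK LD1_c10 LD2_c26 LD3_c18)) :=
  Lre_a IH (LK LD1_c18 LD2_c52 LD3_c14) (LK LD1_c10 LD2_c26 LD3_c18) Lrfl Lrfl
theorem f32201 : Led Lsl_ct (LP (LK LD1_c18 LD2_c56 LD3_c0)) = (LP (LK LD1_c10 LD2_c26 LD3_c18)) :=
  Lre_c IH (LK LD1_c18 LD2_c56 LD3_c0) (LK LD1_c10 LD2_c26 LD3_c18) Lrfl Lrfl
theorem f48692 : Led Lsl_dt (LP (LK LD1_c28 LD2_c15 LD3_c11)) = (LP (LK LD1_c18 LD2_c56 LD3_c0)) :=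
  Lgr Lrot120 (Lpe (f32353 IH) (Lpe (f32352 IH) (Lpe (K2.f32351 IH) (Lpr_df (K10.f32337 IH) (Lpe (f32354 IH) (Lpe (f32355 IH) (Lpr_ft (f48687 IH) (Lpr_at (f48352 IH) (Lpe (f32201 IH) (Lpn (LP (LK LD1_c18 LD2_c56 LD3_c0))))))))))))
theorem f32200 : Led Lsl_dt (LP (LK LD1_c10 LD2_c26 LD3_c18)) = (LP (LK LD1_c5 LD2_c18 LD3_c17)) :=
  Lre_d IH (LK LD1_c10 LD2_c26 LD3_c18) (LK LD1_c5 LD2_c18 LD3_c17) Lrfl Lrfl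
theorem f32199 : Led Lsl_ct (LP (LK LD1_c5 LD2_c18 LD3_c17)) = (LP (LK LD1_c2 LD2_c35 LD3_c49)) :=
  Lre_c IH (LK LD1_c5 LD2_c18 LD3_c17) (LK LD1_c2 LD2_c35 LD3_c49) Lrfl Lrfl
theorem f48702 : Led Lsl_ft (LP (LK LD1_c5 LD2_c15 LD3_c10)) = (LP (LK LD1_c5 LD2_c17 LD3_c10)) :=
  Lgr Lrot142 (Lpe (K10.f32337 IH) (Lpr_ct (K2.f32351 IH) (Lpr_dt (f32352 IH) (Lpr_ct (f32353 IH) (Lpr_dt (f48692 IH) (Lpr_ct (f32201 IH) (Lpr_dt (f32200 IH) (Lpr_ct (f32199 IH) (Lpe (K1.f32181 IH) (Lpn (LP (LK LD1_c5 LD2_c17 LD3_c10))))))))))))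
theorem f32207 : Led Lsl_gt (LP (LK LD1_c5 LD2_c18 LD3_c19)) = (LP (LK LD1_c2 LD2_c35 LD3_c49)) :=
  Lre_g IH (LK LD1_c5 LD2_c18 LD3_c19) (LK LD1_c2 LD2_c35 LD3_c49) Lrfl Lrfl
theorem f48709 : Led Lsl_gt (LP (LK LD1_c5 LD2_c15 LD3_c10)) = (LP (LK LD1_c5 LD2_c18 LD3_c19)) :=
  Lgr Lrot5 (Lpr_ft (f48702 IH) (Lpr_at (K1.f32181 IH) (Lpe (f32207 IH) (Lpn (LP (LK LD1_c5 LD2_c18 LD3_c19))))))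
theorem f260639 : Led Lsl_et (LP (LK LD1_c5 LD2_c31 LD3_c24)) = (LP (LK LD1_c5 LD2_c18 LD3_c19)) :=
  Lgr Lrot122 (Lpr_dt (f212212 IH) (Lpr_gt (f212211 IH) (Lpe (K15.f212210 IH) (Lpe (K15.f212144 IH) (Lpr_gt (K15.f260628 IH) (Lpr_dt (K10.f45414 IH) (Lpr_gt (K10.f32340 IH) (Lpe (K10.f32333 IH) (Lpr_et (K10.f32336 IH) (Lpr_gt (f48709 IH) (Lpn (LP (LK LD1_c5 LD2_c18 LD3_c19)))))))))))))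
theorem f32217 : Led Lsl_dt (LP (LK LD1_c10 LD2_c26 LD3_c20)) = (LP (LK LD1_c5 LD2_c18 LD3_c18)) :=
  Lre_d IH (LK LD1_c10 LD2_c26 LD3_c20) (LK LD1_c5 LD2_c18 LD3_c18) Lrfl Lrfl
theorem f263429 : Led Lsl_ef (LP (LK LD1_c10 LD2_c15 LD3_c5)) = (LP (LK LD1_c10 LD2_c26 LD3_c20)) :=
  Lgr Lrot114 (Lpr_gt (f263427 IH) (Lpe (f263079 IH) (Lpr_dt (K15.f261840 IH) (Lpr_gt (f257174 IH) (Lpe (f212212 IH) (Lpr_et (f260639 IH) (Lpr_gt (f32207 IH) (Lpe (K1.f32182 IH) (Lpr_gt (f32209 IH) (Lpe (f32217 IH) (Lpn (LP (LK LD1_c10 LD2_c26 LD3_c20)))))))))))))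
theorem f263433 : Led Lsl_et (LP (LK LD1_c10 LD2_c15 LD3_c5)) = (LP (LK LD1_c10 LD2_c26 LD3_c20)) :=
  Lgr Lrot87 (Lpr_ef (f263429 IH) (Lpn (LP (LK LD1_c10 LD2_c26 LD3_c20))))
theorem f254508 : Led Lsl_gt (LP (LK LD1_c8 LD2_c6 LD3_c12)) = (LP (LK LD1_c4 LD2_c2 LD3_c50)) :=
  Lre_g IH (LK LD1_c8 LD2_c6 LD3_c12) (LK LD1_c4 LD2_c2 LD3_c50) Lrfl Lrfl
theorem f254509 : Led Lsl_et (LP (LK LD1_c15 LD2_c15 LD3_c24)) = (LP (LK LD1_c8 LD2_c6 LD3_c12)) :=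
  Lre_e IH (LK LD1_c15 LD2_c15 LD3_c24) (LK LD1_c8 LD2_c6 LD3_c12) Lrfl Lrfl
theorem f185629 : Led Lsl_bt (LP (LK LD1_c5 LD2_c12 LD3_c10)) = (LP (LK LD1_c2 LD2_c32 LD3_c56)) :=
  Lre_b IH (LK LD1_c5 LD2_c12 LD3_c10) (LK LD1_c2 LD2_c32 LD3_c56) Lrfl Lrfl
theorem f183150 : Led Lsl_bt (LP (LK LD1_c1 LD2_c16 LD3_c34)) = (LP (LK LD1_c2 LD2_c39 LD3_c32)) :=
  Lre_b IH (LK LD1_c1 LD2_c16 LD3_c34) (LK LD1_c2 LD2_c39 LD3_c32) Lrfl Lrfl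
theorem f185630 : Led Lsl_df (LP (LK LD1_c5 LD2_c12 LD3_c10)) = (LP (LK LD1_c2 LD2_c39 LD3_c32)) :=
  Lgr Lrot12 (Lpr_bt (f185629 IH) (Lpr_dt (K12.f185627 IH) (Lpr_bt (f183150 IH) (Lpn (LP (LK LD1_c2 LD2_c39 LD3_c32))))))
theorem f254510 : Led Lsl_dt (LP (LK LD1_c15 LD2_c15 LD3_c24)) = (LP (LK LD1_c10 LD2_c15 LD3_c5)) :=
  Lgr Lrot56 (Lpr_et (f254509 IH) (Lpr_gt (f254508 IH) (Lpe (K15.f213267 IH) (Lpr_dt (K14.f50396 IH) (Lpr_gt (K14.f254504 IH) (Lpe (K14.f246307 IH) (Lpr_et (K14.f228746 IH) (Lpe (K14.f254499 IH) (Lpe (f185630 IH) (Lpr_gt (f185678 IH) (Lpn (LP (LK LD1_c10 LD2_c15 LD3_c5)))))))))))))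
theorem f254514 : Led Lsl_et (LP (LK LD1_c8 LD2_c6 LD3_c12)) = (LP (LK LD1_c15 LD2_c15 LD3_c24)) :=
  Lre_e IH (LK LD1_c8 LD2_c6 LD3_c12) (LK LD1_c15 LD2_c15 LD3_c24) Lrfl Lrfl
theorem f263443 : Led Lsl_et (LP (LK LD1_c5 LD2_c18 LD3_c18)) = (LP (LK LD1_c10 LD2_c26 LD3_c21)) :=
  Lre_e IH (LK LD1_c5 LD2_c18 LD3_c18) (LK LD1_c10 LD2_c26 LD3_c21) Lrfl Lrfl
theorem f263444 : Led Lsl_df (LP (LK LD1_c8 LD2_c6 LD3_c12)) = (LP (LK LD1_c10 LD2_c26 LD3_c21)) :=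
  Lgr Lrot70 (Lpr_et (f254514 IH) (Lpr_dt (f254510 IH) (Lpr_et (f263433 IH) (Lpr_dt (f32217 IH) (Lpr_et (f263443 IH) (Lpn (LP (LK LD1_c10 LD2_c26 LD3_c21))))))))
theorem f261909 : Led Lsl_gt (LP (LK LD1_c4 LD2_c29 LD3_c32)) = (LP (LK LD1_c8 LD2_c6 LD3_c12)) :=
  Lgr Lrot5 (Lpr_ft (K15.f258587 IH) (Lpr_at (K15.f261894 IH) (Lpe (f254508 IH) (Lpn (LP (LK LD1_c8 LD2_c6 LD3_c12))))))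
theorem f282481 : Led Lsl_dt (LP (LK LD1_c5 LD2_c6 LD3_c22)) = (LP (LK LD1_c4 LD2_c29 LD3_c32)) :=
  Lgr Lrot171 (Lpr_gf (f282443 IH) (Lpe (f48905 IH) (Lpr_dt (K15.f45404 IH) (Lpe (K10.f32343 IH) (Lpe (K10.f32333 IH) (Lpr_et (K10.f32336 IH) (Lpr_gf (f48900 IH) (Lpe (f48904 IH) (Lpe (f263444 IH) (Lpe (f261909 IH) (Lpn (LP (LK LD1_c4 LD2_c29 LD3_c32)))))))))))))
theorem f282485 : Led Lsl_ff (LP (LK LD1_c5 LD2_c6 LD3_c22)) = (LP (LK LD1_c4 LD2_c29 LD3_c31)) :=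
  Lgr Lrot19 (Lpr_dt (f282481 IH) (Lpr_ft (K15.f258587 IH) (Lpr_dt (K15.f185020 IH) (Lpn (LP (LK LD1_c4 LD2_c29 LD3_c31))))))
theorem f263136 : Led Lsl_ft (LP (LK LD1_c2 LD2_c29 LD3_c61)) = (LP (LK LD1_c2 LD2_c32 LD3_c57)) :=
  Lgr Lrot54 (Lpe (K9.f169520 IH) (Lpr_ff (K15.f263132 IH) (Lpe (K15.f259654 IH) (Lpn (LP (LK LD1_c2 LD2_c32 LD3_c57))))))
theorem f169534 : Led Lsl_et (LP (LK LD1_c5 LD2_c5 LD3_c31)) = (LP (LK LD1_c2 LD2_c29 LD3_c61)) :=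
  Lre_e IH (LK LD1_c5 LD2_c5 LD3_c31) (LK LD1_c2 LD2_c29 LD3_c61) Lrfl Lrfl
theorem f282489 : Led Lsl_et (LP (LK LD1_c5 LD2_c6 LD3_c22)) = (LP (LK LD1_c10 LD2_c2 LD3_c11)) :=
  Lgr Lrot69 (Lpr_ff (f282485 IH) (Lpr_ef (K15.f184996 IH) (Lpe (f263136 IH) (Lpe (f169534 IH) (Lpe (K9.f169502 IH) (Lpn (LP (LK LD1_c10 LD2_c2 LD3_c11))))))))
theorem f261902 : Led Lsl_ct (LP (LK LD1_c10 LD2_c3 LD3_c48)) = (LP (LK LD1_c5 LD2_c6 LD3_c22)) :=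
  Lre_c IH (LK LD1_c10 LD2_c3 LD3_c48) (LK LD1_c5 LD2_c6 LD3_c22) Lrfl Lrfl
theorem f169500 : Led Lsl_ct (LP (LK LD1_c10 LD2_c2 LD3_c11)) = (LP (LK LD1_c18 LD2_c20 LD3_c22)) :=
  Lre_c IH (LK LD1_c10 LD2_c2 LD3_c11) (LK LD1_c18 LD2_c20 LD3_c22) Lrfl Lrfl
theorem f282635 : Led Lsl_ef (LP (LK LD1_c10 LD2_c3 LD3_c48)) = (LP (LK LD1_c18 LD2_c20 LD3_c22)) :=
  Lgr Lrot28 (Lpr_ct (f261902 IH) (Lpr_et (f282489 IH) (Lpr_ct (f169500 IH) (Lpn (LP (LK LD1_c18 LD2_c20 LD3_c22))))))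
theorem f261884 : Led Lsl_at (LP (LK LD1_c10 LD2_c3 LD3_c48)) = (LP (LK LD1_c18 LD2_c22 LD3_c24)) :=
  Lre_a IH (LK LD1_c10 LD2_c3 LD3_c48) (LK LD1_c18 LD2_c22 LD3_c24) Lrfl Lrfl
theorem f263083 : Led Lsl_ef (LP (LK LD1_c10 LD2_c17 LD3_c2)) = (LP (LK LD1_c10 LD2_c20 LD3_c4)) :=
  Lgr Lrot88 (Lpr_et (f263079 IH) (Lpn (LP (LK LD1_c10 LD2_c20 LD3_c4))))
theorem f48219 : Led Lsl_ft (LP (LK LD1_c5 LD2_c17 LD3_c30)) = (LP (LK LD1_c10 LD2_c24 LD3_c36)) :=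
  Lre_f IH (LK LD1_c5 LD2_c17 LD3_c30) (LK LD1_c10 LD2_c24 LD3_c36) Lrfl Lrfl
theorem f189803 : Led Lsl_bt (LP (LK LD1_c10 LD2_c24 LD3_c36)) = (LP (LK LD1_c10 LD2_c20 LD3_c4)) :=
  Lgr Lrot35 (Lpe (f48219 IH) (Lpr_bf (K10.f189797 IH) (Lpe (f47767 IH) (Lpn (LP (LK LD1_c10 LD2_c20 LD3_c4))))))
theorem f263085 : Led Lsl_et (LP (LK LD1_c10 LD2_c3 LD3_c47)) = (LP (LK LD1_c10 LD2_c24 LD3_c36)) :=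
  Lgr Lrot74 (Lpe (K15.f261812 IH) (Lpr_ef (f263083 IH) (Lpe (f189803 IH) (Lpn (LP (LK LD1_c10 LD2_c24 LD3_c36))))))
theorem f261878 : Led Lsl_ct (LP (LK LD1_c18 LD2_c22 LD3_c24)) = (LP (LK LD1_c10 LD2_c3 LD3_c47)) :=
  Lre_c IH (LK LD1_c18 LD2_c22 LD3_c24) (LK LD1_c10 LD2_c3 LD3_c47) Lrfl Lrfl
theorem f189808 : Led Lsl_ct (LP (LK LD1_c10 LD2_c24 LD3_c36)) = (LP (LK LD1_c18 LD2_c53 LD3_c6)) :=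
  Lre_c IH (LK LD1_c10 LD2_c24 LD3_c36) (LK LD1_c18 LD2_c53 LD3_c6) Lrfl Lrfl
theorem f263087 : Led Lsl_ef (LP (LK LD1_c18 LD2_c22 LD3_c24)) = (LP (LK LD1_c18 LD2_c53 LD3_c6)) :=
  Lgr Lrot28 (Lpr_ct (f261878 IH) (Lpr_et (f263085 IH) (Lpr_ct (f189808 IH) (Lpn (LP (LK LD1_c18 LD2_c53 LD3_c6))))))
theorem f263090 : Led Lsl_et (LP (LK LD1_c18 LD2_c22 LD3_c24)) = (LP (LK LD1_c18 LD2_c53 LD3_c6)) :=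
  Lgr Lrot87 (Lpr_ef (f263087 IH) (Lpn (LP (LK LD1_c18 LD2_c53 LD3_c6))))
theorem f282639 : Led Lsl_at (LP (LK LD1_c18 LD2_c53 LD3_c6)) = (LP (LK LD1_c18 LD2_c20 LD3_c22)) :=
  Lgr Lrot80 (Lpe (f263090 IH) (Lpe (f261884 IH) (Lpr_ef (f282635 IH) (Lpn (LP (LK LD1_c18 LD2_c20 LD3_c22))))))
theorem f263092 : Led Lsl_ft (LP (LK LD1_c10 LD2_c24 LD3_c33)) = (LP (LK LD1_c18 LD2_c53 LD3_c6)) :=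
  Lre_f IH (LK LD1_c10 LD2_c24 LD3_c33) (LK LD1_c18 LD2_c53 LD3_c6) Lrfl Lrfl
theorem f264186 : Led Lsl_ft (LP (LK LD1_c18 LD2_c20 LD3_c22)) = (LP (LK LD1_c10 LD2_c2 LD3_c8)) :=
  Lre_f IH (LK LD1_c18 LD2_c20 LD3_c22) (LK LD1_c10 LD2_c2 LD3_c8) Lrfl Lrfl
theorem f282650 : Led Lsl_af (LP (LK LD1_c10 LD2_c24 LD3_c33)) = (LP (LK LD1_c10 LD2_c2 LD3_c8)) :=
  Lgr Lrot45 (Lpr_ft (f263092 IH) (Lpr_at (f282639 IH) (Lpr_ft (f264186 IH) (Lpn (LP (LK LD1_c10 LD2_c2 LD3_c8))))))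
theorem f48215 : Led Lsl_ct (LP (LK LD1_c10 LD2_c24 LD3_c33)) = (LP (LK LD1_c5 LD2_c17 LD3_c30)) :=
  Lre_c IH (LK LD1_c10 LD2_c24 LD3_c33) (LK LD1_c5 LD2_c17 LD3_c30) Lrfl Lrfl
theorem f169554 : Led Lsl_ct (LP (LK LD1_c5 LD2_c5 LD3_c31)) = (LP (LK LD1_c10 LD2_c2 LD3_c8)) :=
  Lre_c IH (LK LD1_c5 LD2_c5 LD3_c31) (LK LD1_c10 LD2_c2 LD3_c8) Lrfl Lrfl
theorem f282656 : Led Lsl_at (LP (LK LD1_c5 LD2_c17 LD3_c30)) = (LP (LK LD1_c5 LD2_c5 LD3_c31)) :=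
  Lgr Lrot107 (Lpe (f48215 IH) (Lpr_af (f282650 IH) (Lpe (f169554 IH) (Lpn (LP (LK LD1_c5 LD2_c5 LD3_c31))))))
theorem f282662 : Led Lsl_af (LP (LK LD1_c2 LD2_c35 LD3_c31)) = (LP (LK LD1_c2 LD2_c29 LD3_c61)) :=
  Lgr Lrot50 (Lpr_et (K10.f48201 IH) (Lpr_at (f282656 IH) (Lpr_et (f169534 IH) (Lpn (LP (LK LD1_c2 LD2_c29 LD3_c61))))))
theorem f282666 : Led Lsl_at (LP (LK LD1_c2 LD2_c4 LD3_c59)) = (LP (LK LD1_c1 LD2_c25 LD3_c14)) :=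
  Lgr Lrot51 (Lpr_df (K10.f48197 IH) (Lpr_af (f282662 IH) (Lpe (K9.f169520 IH) (Lpn (LP (LK LD1_c1 LD2_c25 LD3_c14))))))
theorem f282670 : Led Lsl_gt (LP (LK LD1_c2 LD2_c5 LD3_c3)) = (LP (LK LD1_c1 LD2_c25 LD3_c14)) :=
  Lgr Lrot46 (Lpe (K16.f271205 IH) (Lpr_ft (K15.f48204 IH) (Lpr_at (f282666 IH) (Lpn (LP (LK LD1_c1 LD2_c25 LD3_c14))))))
theorem f49035 : Led Lsl_gt (LP (LK LD1_c4 LD2_c15 LD3_c21)) = (LP (LK LD1_c2 LD2_c5 LD3_c2)) :=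
  Lre_g IH (LK LD1_c4 LD2_c15 LD3_c21) (LK LD1_c2 LD2_c5 LD3_c2) Lrfl Lrfl
theorem f266319 : Led Lsl_et (LP (LK LD1_c2 LD2_c41 LD3_c0)) = (LP (LK LD1_c4 LD2_c2 LD3_c47)) :=
  Lgr Lrot87 (Lpr_ef (K15.f266313 IH) (Lpn (LP (LK LD1_c4 LD2_c2 LD3_c47))))
theorem f282678 : Led Lsl_df (LP (LK LD1_c4 LD2_c15 LD3_c21)) = (LP (LK LD1_c2 LD2_c41 LD3_c0)) :=
  Lgr Lrot170 (Lpr_gt (f49035 IH) (Lpe (K14.f789 IH) (Lpr_et (K10.f48262 IH) (Lpr_gt (f282670 IH) (Lpr_dt (K9.f169520 IH) (Lpe (K15.f242350 IH) (Lpe (K14.f32955 IH) (Lpe (K15.f263182 IH) (Lpr_gt (K15.f266291 IH) (Lpe (f266319 IH) (Lpn (LP (LK LD1_c2 LD2_c41 LD3_c0)))))))))))))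
theorem f259296 : Led Lsl_ft (LP (LK LD1_c0 LD2_c34 LD3_c43)) = (LP (LK LD1_c1 LD2_c14 LD3_c38)) :=
  Lgr Lrot4 (Lpe (K9.f49099 IH) (Lpr_ff (K15.f259294 IH) (Lpe (K10.f189515 IH) (Lpn (LP (LK LD1_c1 LD2_c14 LD3_c38))))))
theorem f250630 : Led Lsl_et (LP (LK LD1_c0 LD2_c59 LD3_c47)) = (LP (LK LD1_c2 LD2_c5 LD3_c30)) :=
  Lre_e IH (LK LD1_c0 LD2_c59 LD3_c47) (LK LD1_c2 LD2_c5 LD3_c30) Lrfl Lrfl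
theorem f254565 : Led Lsl_et (LP (LK LD1_c1 LD2_c14 LD3_c38)) = (LP (LK LD1_c1 LD2_c17 LD3_c22)) :=
  Lgr Lrot71 (Lpe (K10.f48722 IH) (Lpr_ef (K16.f254561 IH) (Lpe (K13.f602 IH) (Lpe (f250630 IH) (Lpr_df (K14.f250625 IH) (Lpn (LP (LK LD1_c1 LD2_c17 LD3_c22))))))))
theorem f259292 : Led Lsl_ff (LP (LK LD1_c2 LD2_c40 LD3_c61)) = (LP (LK LD1_c1 LD2_c17 LD3_c22)) :=
  Lgr Lrot23 (Lpe (K15.f259238 IH) (Lpr_ft (K15.f259246 IH) (Lpe (K13.f246245 IH) (Lpn (LP (LK LD1_c1 LD2_c17 LD3_c22))))))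
theorem f263202 : Led Lsl_ef (LP (LK LD1_c2 LD2_c11 LD3_c29)) = (LP (LK LD1_c2 LD2_c40 LD3_c61)) :=
  Lgr Lrot21 (Lpr_ft (K15.f263196 IH) (Lpr_et (K9.f32175 IH) (Lpr_ft (f259296 IH) (Lpr_et (f254565 IH) (Lpe (f259292 IH) (Lpn (LP (LK LD1_c2 LD2_c40 LD3_c61))))))))
theorem f282708 : Led Lsl_gf (LP (LK LD1_c4 LD2_c15 LD3_c21)) = (LP (LK LD1_c2 LD2_c5 LD3_c4)) :=
  Lgr Lrot134 (Lpr_df (f282678 IH) (Lpr_et (f266319 IH) (Lpe (K16.f266295 IH) (Lpr_ef (f263202 IH) (Lpr_dt (K16.f257978 IH) (Lpr_gt (K15.f27369 IH) (Lpe (K10.f27362 IH) (Lpr_et (K0.f27347 IH) (Lpr_gt (K10.f27370 IH) (Lpr_dt (K13.f27371 IH) (Lpn (LP (LK LD1_c2 LD2_c5 LD3_c4)))))))))))))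
theorem f282694 : Led Lsl_ct (LP (LK LD1_c4 LD2_c15 LD3_c21)) = (LP (LK LD1_c8 LD2_c29 LD3_c35)) :=
  Lre_c IH (LK LD1_c4 LD2_c15 LD3_c21) (LK LD1_c8 LD2_c29 LD3_c35) Lrfl Lrfl
theorem f1047 : Led Lsl_dt (LP (LK LD1_c2 LD2_c5 LD3_c31)) = (LP (LK LD1_c4 LD2_c16 LD3_c23)) :=
  Lre_d IH (LK LD1_c2 LD2_c5 LD3_c31) (LK LD1_c4 LD2_c16 LD3_c23) Lrfl Lrfl
theorem f1048 : Led Lsl_gt (LP (LK LD1_c4 LD2_c16 LD3_c23)) = (LP (LK LD1_c8 LD2_c31 LD3_c59)) :=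
  Lre_g IH (LK LD1_c4 LD2_c16 LD3_c23) (LK LD1_c8 LD2_c31 LD3_c59) Lrfl Lrfl
theorem f282701 : Led Lsl_df (LP (LK LD1_c8 LD2_c29 LD3_c35)) = (LP (LK LD1_c8 LD2_c31 LD3_c59)) :=
  Lgr Lrot84 (Lpe (f282694 IH) (Lpr_df (f282678 IH) (Lpe (K15.f220553 IH) (Lpr_df (K14.f220546 IH) (Lpe (K12.f606 IH) (Lpe (K10.f1033 IH) (Lpr_gt (K12.f1044 IH) (Lpr_dt (f1047 IH) (Lpr_gt (f1048 IH) (Lpn (LP (LK LD1_c8 LD2_c31 LD3_c59))))))))))))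
theorem f174993 : Led Lsl_gt (LP (LK LD1_c5 LD2_c31 LD3_c12)) = (LP (LK LD1_c2 LD2_c41 LD3_c51)) :=
  Lre_g IH (LK LD1_c5 LD2_c31 LD3_c12) (LK LD1_c2 LD2_c41 LD3_c51) Lrfl Lrfl
theorem f243584 : Led Lsl_dt (LP (LK LD1_c2 LD2_c5 LD3_c29)) = (LP (LK LD1_c4 LD2_c16 LD3_c15)) :=
  Lre_d IH (LK LD1_c2 LD2_c5 LD3_c29) (LK LD1_c4 LD2_c16 LD3_c15) Lrfl Lrfl
theorem f221257 : Led Lsl_dt (LP (LK LD1_c4 LD2_c16 LD3_c23)) = (LP (LK LD1_c2 LD2_c5 LD3_c31)) :=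
  Lre_d IH (LK LD1_c4 LD2_c16 LD3_c23) (LK LD1_c2 LD2_c5 LD3_c31) Lrfl Lrfl
theorem f271647 : Led Lsl_cf (LP (LK LD1_c5 LD2_c31 LD3_c12)) = (LP (LK LD1_c8 LD2_c31 LD3_c59)) :=
  Lgr Lrot169 (Lpr_gt (f174993 IH) (Lpr_ct (K16.f271625 IH) (Lpe (f243584 IH) (Lpe (K13.f51491 IH) (Lpe (K12.f51466 IH) (Lpe (K12.f52203 IH) (Lpe (K12.f53401 IH) (Lpe (f221257 IH) (Lpr_gt (f1048 IH) (Lpn (LP (LK LD1_c8 LD2_c31 LD3_c59))))))))))))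
theorem f271659 : Led Lsl_ct (LP (LK LD1_c5 LD2_c31 LD3_c12)) = (LP (LK LD1_c8 LD2_c31 LD3_c59)) :=
  Lgr Lrot59 (Lpr_cf (f271647 IH) (Lpn (LP (LK LD1_c8 LD2_c31 LD3_c59))))
theorem f221333 : Led Lsl_ft (LP (LK LD1_c8 LD2_c27 LD3_c3)) = (LP (LK LD1_c5 LD2_c30 LD3_c61)) :=
  Lgr Lrot54 (Lpe (K16.f218201 IH) (Lpr_ff (K16.f221324 IH) (Lpe (K15.f221332 IH) (Lpn (LP (LK LD1_c5 LD2_c30 LD3_c61))))))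
theorem f221365 : Led Lsl_at (LP (LK LD1_c5 LD2_c30 LD3_c61)) = (LP (LK LD1_c2 LD2_c41 LD3_c51)) :=
  Lre_a IH (LK LD1_c5 LD2_c30 LD3_c61) (LK LD1_c2 LD2_c41 LD3_c51) Lrfl Lrfl
theorem f221372 : Led Lsl_gt (LP (LK LD1_c8 LD2_c27 LD3_c3)) = (LP (LK LD1_c5 LD2_c31 LD3_c12)) :=
  Lgr Lrot5 (Lpr_ft (f221333 IH) (Lpr_at (f221365 IH) (Lpe (f174993 IH) (Lpn (LP (LK LD1_c5 LD2_c31 LD3_c12))))))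
theorem f262893 : Led Lsl_cf (LP (LK LD1_c8 LD2_c29 LD3_c54)) = (LP (LK LD1_c5 LD2_c30 LD3_c61)) :=
  Lgr Lrot11 (Lpr_ct (K15.f262890 IH) (Lpn (LP (LK LD1_c5 LD2_c30 LD3_c61))))
theorem f270466 : Led Lsl_cf (LP (LK LD1_c8 LD2_c27 LD3_c3)) = (LP (LK LD1_c4 LD2_c16 LD3_c6)) :=
  Lgr Lrot108 (Lpr_ft (f221333 IH) (Lpe (f262893 IH) (Lpr_ft (K16.f270457 IH) (Lpn (LP (LK LD1_c4 LD2_c16 LD3_c6))))))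
theorem f220552 : Led Lsl_gt (LP (LK LD1_c8 LD2_c31 LD3_c18)) = (LP (LK LD1_c4 LD2_c16 LD3_c6)) :=
  Lre_g IH (LK LD1_c8 LD2_c31 LD3_c18) (LK LD1_c4 LD2_c16 LD3_c6) Lrfl Lrfl
theorem f282712 : Led Lsl_df (LP (LK LD1_c8 LD2_c31 LD3_c18)) = (LP (LK LD1_c8 LD2_c18 LD3_c13)) :=
  Lgr Lrot155 (Lpr_gt (f220552 IH) (Lpe (f270466 IH) (Lpr_gt (f221372 IH) (Lpr_ct (f271659 IH) (Lpe (f282701 IH) (Lpe (f282694 IH) (Lpr_gf (f282708 IH) (Lpe (K13.f187240 IH) (Lpe (K15.f190840 IH) (Lpn (LP (LK LD1_c8 LD2_c18 LD3_c13))))))))))))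
theorem f190838 : Led Lsl_ct (LP (LK LD1_c0 LD2_c57 LD3_c58)) = (LP (LK LD1_c2 LD2_c1 LD3_c55)) :=
  Lre_c IH (LK LD1_c0 LD2_c57 LD3_c58) (LK LD1_c2 LD2_c1 LD3_c55) Lrfl Lrfl
theorem f190843 : Led Lsl_ct (LP (LK LD1_c8 LD2_c18 LD3_c13)) = (LP (LK LD1_c4 LD2_c9 LD3_c5)) :=
  Lre_c IH (LK LD1_c8 LD2_c18 LD3_c13) (LK LD1_c4 LD2_c9 LD3_c5) Lrfl Lrfl
theorem f282704 : Led Lsl_gt (LP (LK LD1_c4 LD2_c15 LD3_c22)) = (LP (LK LD1_c8 LD2_c18 LD3_c13)) :=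
  Lgr Lrot150 (Lpe (K15.f51418 IH) (Lpe (f49035 IH) (Lpr_df (f282678 IH) (Lpr_gt (K15.f220534 IH) (Lpr_ct (K15.f246251 IH) (Lpe (K13.f246255 IH) (Lpr_ct (f190838 IH) (Lpe (K14.f190834 IH) (Lpe (f190843 IH) (Lpn (LP (LK LD1_c8 LD2_c18 LD3_c13))))))))))))
theorem f251051 : Led Lsl_dt (LP (LK LD1_c8 LD2_c29 LD3_c37)) = (LP (LK LD1_c4 LD2_c15 LD3_c22)) :=
  Lre_d IH (LK LD1_c8 LD2_c29 LD3_c37) (LK LD1_c4 LD2_c15 LD3_c22) Lrfl Lrfl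
theorem f221079 : Led Lsl_dt (LP (LK LD1_c8 LD2_c56 LD3_c27)) = (LP (LK LD1_c4 LD2_c29 LD3_c5)) :=
  Lre_d IH (LK LD1_c8 LD2_c56 LD3_c27) (LK LD1_c4 LD2_c29 LD3_c5) Lrfl Lrfl
theorem f282721 : Led Lsl_ct (LP (LK LD1_c8 LD2_c31 LD3_c18)) = (LP (LK LD1_c8 LD2_c56 LD3_c27)) :=
  Lgr Lrot41 (Lpr_df (f282712 IH) (Lpe (K15.f190839 IH) (Lpe (K14.f190829 IH) (Lpr_ft (K16.f259275 IH) (Lpe (K16.f259270 IH) (Lpr_cf (K16.f259280 IH) (Lpr_df (K16.f271575 IH) (Lpe (K16.f177943 IH) (Lpe (f221079 IH) (Lpn (LP (LK LD1_c8 LD2_c56 LD3_c27))))))))))))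
theorem f245143 : Led Lsl_dt (LP (LK LD1_c4 LD2_c29 LD3_c5)) = (LP (LK LD1_c8 LD2_c56 LD3_c27)) :=
  Lre_d IH (LK LD1_c4 LD2_c29 LD3_c5) (LK LD1_c8 LD2_c56 LD3_c27) Lrfl Lrfl
theorem f282723 : Led Lsl_gt (LP (LK LD1_c10 LD2_c19 LD3_c11)) = (LP (LK LD1_c8 LD2_c29 LD3_c37)) :=
  Lgr Lrot94 (Lpe (K12.f188921 IH) (Lpr_gt (K13.f188608 IH) (Lpr_dt (K13.f188607 IH) (Lpr_gt (K16.f271543 IH) (Lpr_dt (f245143 IH) (Lpe (f282721 IH) (Lpr_df (f282712 IH) (Lpe (f282704 IH) (Lpe (f251051 IH) (Lpn (LP (LK LD1_c8 LD2_c29 LD3_c37))))))))))))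
theorem f188924 : Led Lsl_cf (LP (LK LD1_c8 LD2_c56 LD3_c24)) = (LP (LK LD1_c10 LD2_c19 LD3_c11)) :=
  Lgr Lrot11 (Lpr_ct (K12.f188921 IH) (Lpn (LP (LK LD1_c10 LD2_c19 LD3_c11))))
theorem f282725 : Led Lsl_cf (LP (LK LD1_c8 LD2_c31 LD3_c18)) = (LP (LK LD1_c8 LD2_c56 LD3_c27)) :=
  Lgr Lrot14 (Lpr_df (f282712 IH) (Lpe (f282704 IH) (Lpe (f251051 IH) (Lpe (f282723 IH) (Lpe (f188924 IH) (Lpr_gt (K13.f188608 IH) (Lpr_dt (K13.f188607 IH) (Lpr_gt (K16.f271543 IH) (Lpr_dt (f245143 IH) (Lpn (LP (LK LD1_c8 LD2_c56 LD3_c27))))))))))))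
theorem f282717 : Led Lsl_dt (LP (LK LD1_c8 LD2_c31 LD3_c18)) = (LP (LK LD1_c8 LD2_c18 LD3_c13)) :=
  Lgr Lrot42 (Lpr_df (f282712 IH) (Lpn (LP (LK LD1_c8 LD2_c18 LD3_c13))))
theorem f236261 : Led Lsl_ct (LP (LK LD1_c2 LD2_c1 LD3_c58)) = (LP (LK LD1_c4 LD2_c9 LD3_c14)) :=
  Lre_c IH (LK LD1_c2 LD2_c1 LD3_c58) (LK LD1_c4 LD2_c9 LD3_c14) Lrfl Lrfl
theorem f236320 : Led Lsl_dt (LP (LK LD1_c4 LD2_c9 LD3_c14)) = (LP (LK LD1_c8 LD2_c18 LD3_c31)) :=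
  Lre_d IH (LK LD1_c4 LD2_c9 LD3_c14) (LK LD1_c8 LD2_c18 LD3_c31) Lrfl Lrfl
theorem f262857 : Led Lsl_df (LP (LK LD1_c2 LD2_c40 LD3_c58)) = (LP (LK LD1_c4 LD2_c13 LD3_c60)) :=
  Lgr Lrot38 (Lpr_dt (K15.f262848 IH) (Lpn (LP (LK LD1_c4 LD2_c13 LD3_c60))))
theorem f271573 : Led Lsl_dt (LP (LK LD1_c2 LD2_c41 LD3_c53)) = (LP (LK LD1_c2 LD2_c11 LD3_c40)) :=
  Lgr Lrot27 (Lpr_cf (K14.f253247 IH) (Lpr_gf (K16.f259276 IH) (Lpe (K16.f271039 IH) (Lpe (K15.f262869 IH) (Lpr_df (f262857 IH) (Lpe (K15.f245141 IH) (Lpr_ct (K13.f188611 IH) (Lpr_gt (K16.f271543 IH) (Lpr_ct (K16.f177943 IH) (Lpn (LP (LK LD1_c2 LD2_c11 LD3_c40))))))))))))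
theorem f220545 : Led Lsl_dt (LP (LK LD1_c2 LD2_c5 LD3_c26)) = (LP (LK LD1_c4 LD2_c16 LD3_c6)) :=
  Lre_d IH (LK LD1_c2 LD2_c5 LD3_c26) (LK LD1_c4 LD2_c16 LD3_c6) Lrfl Lrfl
theorem f243574 : Led Lsl_gt (LP (LK LD1_c4 LD2_c16 LD3_c6)) = (LP (LK LD1_c8 LD2_c31 LD3_c17)) :=
  Lre_g IH (LK LD1_c4 LD2_c16 LD3_c6) (LK LD1_c8 LD2_c31 LD3_c17) Lrfl Lrfl
theorem f259283 : Led Lsl_dt (LP (LK LD1_c4 LD2_c19 LD3_c50)) = (LP (LK LD1_c4 LD2_c12 LD3_c21)) :=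
  Lgr Lrot27 (Lpr_cf (K16.f259280 IH) (Lpe (K14.f178471 IH) (Lpr_cf (K14.f253187 IH) (Lpe (K12.f168327 IH) (Lpe (K14.f168533 IH) (Lpe (K13.f236220 IH) (Lpr_ct (K15.f51600 IH) (Lpr_gt (K16.f236227 IH) (Lpr_ct (K16.f199579 IH) (Lpn (LP (LK LD1_c4 LD2_c12 LD3_c21))))))))))))
theorem f271037 : Led Lsl_dt (LP (LK LD1_c8 LD2_c31 LD3_c17)) = (LP (LK LD1_c8 LD2_c24 LD3_c16)) :=
  Lgr Lrot105 (Lpe (f243574 IH) (Lpe (f220545 IH) (Lpe (K13.f220557 IH) (Lpe (K14.f243556 IH) (Lpr_gt (K11.f191970 IH) (Lpr_dt (K16.f271033 IH) (Lpe (K16.f259276 IH) (Lpr_dt (f259283 IH) (Lpe (K16.f199579 IH) (Lpn (LP (LK LD1_c8 LD2_c24 LD3_c16))))))))))))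
theorem f282732 : Led Lsl_ct (LP (LK LD1_c8 LD2_c18 LD3_c31)) = (LP (LK LD1_c8 LD2_c31 LD3_c17)) :=
  Lgr Lrot176 (Lpe (f236320 IH) (Lpe (f236261 IH) (Lpe (K13.f1441 IH) (Lpe (K15.f190836 IH) (Lpe (K14.f190834 IH) (Lpe (f190843 IH) (Lpe (f282717 IH) (Lpr_cf (f282725 IH) (Lpe (f245143 IH) (Lpe (K16.f177927 IH) (Lpe (f271573 IH) (Lpr_cf (K14.f253247 IH) (Lpr_df (K16.f259285 IH) (Lpe (K16.f199579 IH) (Lpe (f271037 IH) (Lpn (LP (LK LD1_c8 LD2_c31 LD3_c17))))))))))))))))))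
theorem f282775 : Led Lsl_cf (LP (LK LD1_c8 LD2_c18 LD3_c31)) = (LP (LK LD1_c8 LD2_c31 LD3_c17)) :=
  Lgr Lrot11 (Lpr_ct (f282732 IH) (Lpn (LP (LK LD1_c8 LD2_c31 LD3_c17))))
theorem f236319 : Led Lsl_dt (LP (LK LD1_c8 LD2_c18 LD3_c31)) = (LP (LK LD1_c4 LD2_c9 LD3_c14)) :=
  Lre_d IH (LK LD1_c8 LD2_c18 LD3_c31) (LK LD1_c4 LD2_c9 LD3_c14) Lrfl Lrfl
theorem f218200 : Led Lsl_dt (LP (LK LD1_c8 LD2_c27 LD3_c3)) = (LP (LK LD1_c4 LD2_c14 LD3_c14)) :=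
  Lre_d IH (LK LD1_c8 LD2_c27 LD3_c3) (LK LD1_c4 LD2_c14 LD3_c14) Lrfl Lrfl
theorem f275105 : Led Lsl_gt (LP (LK LD1_c5 LD2_c31 LD3_c11)) = (LP (LK LD1_c8 LD2_c27 LD3_c3)) :=
  Lgr Lrot49 (Lpr_df (K16.f274956 IH) (Lpe (K16.f179772 IH) (Lpe (K13.f179771 IH) (Lpr_gt (K16.f167759 IH) (Lpe (K16.f271575 IH) (Lpr_gt (K16.f271581 IH) (Lpe (K16.f271621 IH) (Lpr_cf (K16.f271723 IH) (Lpe (f218200 IH) (Lpn (LP (LK LD1_c8 LD2_c27 LD3_c3))))))))))))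
theorem f282798 : Led Lsl_gf (LP (LK LD1_c2 LD2_c1 LD3_c58)) = (LP (LK LD1_c1 LD2_c16 LD3_c49)) :=
  Lgr Lrot104 (Lpr_ct (f236261 IH) (Lpe (f236319 IH) (Lpr_cf (f282775 IH) (Lpe (f243574 IH) (Lpe (K16.f253243 IH) (Lpe (f275105 IH) (Lpr_df (K16.f274956 IH) (Lpe (K16.f245076 IH) (Lpr_ct (K15.f243625 IH) (Lpn (LP (LK LD1_c1 LD2_c16 LD3_c49))))))))))))
theorem f282800 : Led Lsl_df (LP (LK LD1_c5 LD2_c31 LD3_c12)) = (LP (LK LD1_c4 LD2_c29 LD3_c8)) :=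
  Lgr Lrot153 (Lpr_gt (f174993 IH) (Lpr_dt (K16.f174992 IH) (Lpe (K12.f220871 IH) (Lpe (K14.f212209 IH) (Lpr_gf (K15.f259248 IH) (Lpe (K16.f190837 IH) (Lpr_gf (f282798 IH) (Lpe (K15.f243625 IH) (Lpr_gt (K16.f245060 IH) (Lpn (LP (LK LD1_c4 LD2_c29 LD3_c8))))))))))))
theorem f53410 : Led Lsl_ct (LP (LK LD1_c2 LD2_c5 LD3_c32)) = (LP (LK LD1_c4 LD2_c16 LD3_c26)) :=
  Lre_c IH (LK LD1_c2 LD2_c5 LD3_c32) (LK LD1_c4 LD2_c16 LD3_c26) Lrfl Lrfl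
theorem f221233 : Led Lsl_gt (LP (LK LD1_c8 LD2_c26 LD3_c36)) = (LP (LK LD1_c8 LD2_c56 LD3_c24)) :=
  Lgr Lrot150 (Lpr_cf (K13.f221076 IH) (Lpe (K13.f1345 IH) (Lpe (K15.f874 IH) (Lpr_gt (K9.f52209 IH) (Lpr_ct (f53410 IH) (Lpr_gt (K10.f184123 IH) (Lpr_ct (K16.f33444 IH) (Lpe (K12.f33447 IH) (Lpe (K12.f188921 IH) (Lpn (LP (LK LD1_c8 LD2_c56 LD3_c24))))))))))))
theorem f188622 : Led Lsl_dt (LP (LK LD1_c8 LD2_c56 LD3_c24)) = (LP (LK LD1_c4 LD2_c29 LD3_c2)) :=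
  Lre_d IH (LK LD1_c8 LD2_c56 LD3_c24) (LK LD1_c4 LD2_c29 LD3_c2) Lrfl Lrfl
theorem f188903 : Led Lsl_dt (LP (LK LD1_c4 LD2_c14 LD3_c12)) = (LP (LK LD1_c8 LD2_c26 LD3_c58)) :=
  Lre_d IH (LK LD1_c4 LD2_c14 LD3_c12) (LK LD1_c8 LD2_c26 LD3_c58) Lrfl Lrfl
theorem f221237 : Led Lsl_cf (LP (LK LD1_c4 LD2_c16 LD3_c23)) = (LP (LK LD1_c8 LD2_c26 LD3_c58)) :=
  Lgr Lrot14 (Lpe (f1047 IH) (Lpe (K12.f1044 IH) (Lpe (K15.f1270 IH) (Lpe (K12.f1021 IH) (Lpe (K13.f221076 IH) (Lpr_gt (f221233 IH) (Lpr_dt (f188622 IH) (Lpr_gt (K12.f188939 IH) (Lpr_dt (f188903 IH) (Lpn (LP (LK LD1_c8 LD2_c26 LD3_c58))))))))))))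
theorem f244826 : Led Lsl_at (LP (LK LD1_c1 LD2_c16 LD3_c49)) = (LP (LK LD1_c0 LD2_c35 LD3_c34)) :=
  Lre_a IH (LK LD1_c1 LD2_c16 LD3_c49) (LK LD1_c0 LD2_c35 LD3_c34) Lrfl Lrfl
theorem f244827 : Led Lsl_ff (LP (LK LD1_c1 LD2_c16 LD3_c49)) = (LP (LK LD1_c2 LD2_c5 LD3_c20)) :=
  Lgr Lrot103 (Lpr_at (f244826 IH) (Lpe (K14.f7892 IH) (Lpe (K13.f7893 IH) (Lpr_cf (K14.f244814 IH) (Lpe (K14.f243381 IH) (Lpe (K14.f53430 IH) (Lpe (K13.f53429 IH) (Lpe (K14.f188576 IH) (Lpe (K14.f220729 IH) (Lpn (LP (LK LD1_c2 LD2_c5 LD3_c20))))))))))))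
theorem f197004 : Led Lsl_gt (LP (LK LD1_c1 LD2_c16 LD3_c52)) = (LP (LK LD1_c0 LD2_c35 LD3_c34)) :=
  Lre_g IH (LK LD1_c1 LD2_c16 LD3_c52) (LK LD1_c0 LD2_c35 LD3_c34) Lrfl Lrfl
theorem f244849 : Led Lsl_gf (LP (LK LD1_c1 LD2_c16 LD3_c52)) = (LP (LK LD1_c2 LD2_c5 LD3_c20)) :=
  Lgr Lrot47 (Lpr_gt (f197004 IH) (Lpe (f244826 IH) (Lpr_ff (f244827 IH) (Lpn (LP (LK LD1_c2 LD2_c5 LD3_c20))))))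
theorem f244851 : Led Lsl_ct (LP (LK LD1_c1 LD2_c16 LD3_c52)) = (LP (LK LD1_c2 LD2_c40 LD3_c14)) :=
  Lre_c IH (LK LD1_c1 LD2_c16 LD3_c52) (LK LD1_c2 LD2_c40 LD3_c14) Lrfl Lrfl
theorem f244852 : Led Lsl_dt (LP (LK LD1_c2 LD2_c40 LD3_c14)) = (LP (LK LD1_c5 LD2_c27 LD3_c46)) :=
  Lre_d IH (LK LD1_c2 LD2_c40 LD3_c14) (LK LD1_c5 LD2_c27 LD3_c46) Lrfl Lrfl
theorem f262909 : Led Lsl_cf (LP (LK LD1_c5 LD2_c27 LD3_c46)) = (LP (LK LD1_c8 LD2_c30 LD3_c21)) :=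
  Lgr Lrot99 (Lpe (f244852 IH) (Lpe (f244851 IH) (Lpr_gf (f244849 IH) (Lpe (K14.f243636 IH) (Lpe (K15.f245089 IH) (Lpe (K15.f244700 IH) (Lpr_gt (K15.f261453 IH) (Lpe (f262893 IH) (Lpr_gt (K16.f262904 IH) (Lpn (LP (LK LD1_c8 LD2_c30 LD3_c21))))))))))))
theorem f262911 : Led Lsl_gf (LP (LK LD1_c8 LD2_c26 LD3_c58)) = (LP (LK LD1_c5 LD2_c27 LD3_c46)) :=
  Lgr Lrot172 (Lpe (f221237 IH) (Lpr_dt (f221257 IH) (Lpe (K12.f53417 IH) (Lpr_gf (K14.f250525 IH) (Lpe (K12.f33442 IH) (Lpe (K16.f189093 IH) (Lpr_dt (K15.f48240 IH) (Lpr_gt (K16.f262904 IH) (Lpe (f262909 IH) (Lpn (LP (LK LD1_c5 LD2_c27 LD3_c46))))))))))))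
theorem f244853 : Led Lsl_dt (LP (LK LD1_c5 LD2_c27 LD3_c46)) = (LP (LK LD1_c2 LD2_c40 LD3_c14)) :=
  Lre_d IH (LK LD1_c5 LD2_c27 LD3_c46) (LK LD1_c2 LD2_c40 LD3_c14) Lrfl Lrfl
theorem f278023 : Led Lsl_cf (LP (LK LD1_c4 LD2_c13 LD3_c49)) = (LP (LK LD1_c5 LD2_c27 LD3_c36)) :=
  Lgr Lrot11 (Lpr_ct (K16.f278013 IH) (Lpn (LP (LK LD1_c5 LD2_c27 LD3_c36))))
theorem f282826 : Led Lsl_gt (LP (LK LD1_c2 LD2_c40 LD3_c14)) = (LP (LK LD1_c5 LD2_c27 LD3_c36)) :=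
  Lgr Lrot9 (Lpe (f244853 IH) (Lpe (f262911 IH) (Lpe (f221237 IH) (Lpr_gt (f1048 IH) (Lpe (f271647 IH) (Lpr_df (f282800 IH) (Lpr_cf (K14.f213784 IH) (Lpe (K14.f213778 IH) (Lpr_cf (f278023 IH) (Lpn (LP (LK LD1_c5 LD2_c27 LD3_c36))))))))))))
theorem f168078 : Led Lsl_dt (LP (LK LD1_c8 LD2_c53 LD3_c2)) = (LP (LK LD1_c4 LD2_c27 LD3_c36)) :=
  Lre_d IH (LK LD1_c8 LD2_c53 LD3_c2) (LK LD1_c4 LD2_c27 LD3_c36) Lrfl Lrfl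
theorem f278858 : Led Lsl_gf (LP (LK LD1_c8 LD2_c53 LD3_c2)) = (LP (LK LD1_c8 LD2_c53 LD3_c22)) :=
  Lgr Lrot144 (Lpr_dt (f168078 IH) (Lpr_gt (K9.f168075 IH) (Lpr_dt (K16.f168076 IH) (Lpe (K15.f267244 IH) (Lpr_df (K15.f267266 IH) (Lpr_gf (K16.f276609 IH) (Lpe (K16.f276592 IH) (Lpe (K16.f276581 IH) (Lpr_cf (K16.f278846 IH) (Lpn (LP (LK LD1_c8 LD2_c53 LD3_c22))))))))))))
theorem f254824 : Led Lsl_df (LP (LK LD1_c4 LD2_c19 LD3_c49)) = (LP (LK LD1_c8 LD2_c17 LD3_c9)) :=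
  Lgr Lrot38 (Lpr_dt (K14.f254822 IH) (Lpn (LP (LK LD1_c8 LD2_c17 LD3_c9))))
theorem f279149 : Led Lsl_gf (LP (LK LD1_c8 LD2_c17 LD3_c9)) = (LP (LK LD1_c4 LD2_c21 LD3_c4)) :=
  Lgr Lrot144 (Lpe (f254824 IH) (Lpr_gt (K14.f251405 IH) (Lpe (K14.f251428 IH) (Lpr_cf (K16.f168068 IH) (Lpe (f168078 IH) (Lpr_gf (f278858 IH) (Lpe (K16.f219723 IH) (Lpr_gf (K16.f279147 IH) (Lpe (K14.f187197 IH) (Lpn (LP (LK LD1_c4 LD2_c21 LD3_c4))))))))))))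
theorem f262842 : Led Lsl_gf (LP (LK LD1_c2 LD2_c40 LD3_c59)) = (LP (LK LD1_c4 LD2_c28 LD3_c47)) :=
  Lgr Lrot104 (Lpr_ct (K15.f222543 IH) (Lpe (K15.f222645 IH) (Lpe (K15.f262826 IH) (Lpr_gf (K15.f262832 IH) (Lpe (K12.f199624 IH) (Lpe (K12.f199615 IH) (Lpe (K13.f199687 IH) (Lpr_gt (K14.f199703 IH) (Lpr_ct (K14.f254879 IH) (Lpn (LP (LK LD1_c4 LD2_c28 LD3_c47))))))))))))
theorem f282843 : Led Lsl_bf (LP (LK LD1_c2 LD2_c5 LD3_c20)) = (LP (LK LD1_c1 LD2_c17 LD3_c12)) :=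
  Lgr Lrot165 (Lpe (f244849 IH) (Lpr_ct (f244851 IH) (Lpr_gt (f282826 IH) (Lpe (K16.f278013 IH) (Lpe (K16.f187190 IH) (Lpe (f279149 IH) (Lpe (K14.f232182 IH) (Lpr_ct (K14.f254879 IH) (Lpe (f262842 IH) (Lpe (K15.f222561 IH) (Lpn (LP (LK LD1_c1 LD2_c17 LD3_c12)))))))))))))
theorem f243599 : Led Lsl_et (LP (LK LD1_c2 LD2_c5 LD3_c20)) = (LP (LK LD1_c4 LD2_c15 LD3_c58)) :=
  Lre_e IH (LK LD1_c2 LD2_c5 LD3_c20) (LK LD1_c4 LD2_c15 LD3_c58) Lrfl Lrfl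
theorem f222646 : Led Lsl_et (LP (LK LD1_c2 LD2_c40 LD3_c60)) = (LP (LK LD1_c1 LD2_c17 LD3_c12)) :=
  Lre_e IH (LK LD1_c2 LD2_c40 LD3_c60) (LK LD1_c1 LD2_c17 LD3_c12) Lrfl Lrfl
theorem f282894 : Led Lsl_bt (LP (LK LD1_c4 LD2_c15 LD3_c58)) = (LP (LK LD1_c2 LD2_c40 LD3_c60)) :=
  Lgr Lrot119 (Lpe (f243599 IH) (Lpr_bf (f282843 IH) (Lpe (f222646 IH) (Lpn (LP (LK LD1_c2 LD2_c40 LD3_c60))))))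
theorem f244846 : Led Lsl_ft (LP (LK LD1_c8 LD2_c30 LD3_c57)) = (LP (LK LD1_c4 LD2_c15 LD3_c58)) :=
  Lre_f IH (LK LD1_c8 LD2_c30 LD3_c57) (LK LD1_c4 LD2_c15 LD3_c58) Lrfl Lrfl
theorem f222659 : Led Lsl_ft (LP (LK LD1_c2 LD2_c40 LD3_c60)) = (LP (LK LD1_c5 LD2_c29 LD3_c29)) :=
  Lre_f IH (LK LD1_c2 LD2_c40 LD3_c60) (LK LD1_c5 LD2_c29 LD3_c29) Lrfl Lrfl
theorem f282903 : Led Lsl_bf (LP (LK LD1_c8 LD2_c30 LD3_c57)) = (LP (LK LD1_c5 LD2_c29 LD3_c29)) :=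
  Lgr Lrot61 (Lpr_ft (f244846 IH) (Lpr_bt (f282894 IH) (Lpr_ft (f222659 IH) (Lpn (LP (LK LD1_c5 LD2_c29 LD3_c29))))))
theorem f244843 : Led Lsl_et (LP (LK LD1_c1 LD2_c16 LD3_c49)) = (LP (LK LD1_c2 LD2_c40 LD3_c8)) :=
  Lre_e IH (LK LD1_c1 LD2_c16 LD3_c49) (LK LD1_c2 LD2_c40 LD3_c8) Lrfl Lrfl
theorem f244844 : Led Lsl_ft (LP (LK LD1_c2 LD2_c40 LD3_c8)) = (LP (LK LD1_c5 LD2_c27 LD3_c35)) :=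
  Lre_f IH (LK LD1_c2 LD2_c40 LD3_c8) (LK LD1_c5 LD2_c27 LD3_c35) Lrfl Lrfl
theorem f244845 : Led Lsl_et (LP (LK LD1_c4 LD2_c15 LD3_c58)) = (LP (LK LD1_c2 LD2_c5 LD3_c20)) :=
  Lre_e IH (LK LD1_c4 LD2_c15 LD3_c58) (LK LD1_c2 LD2_c5 LD3_c20) Lrfl Lrfl
theorem f244847 : Led Lsl_et (LP (LK LD1_c5 LD2_c27 LD3_c35)) = (LP (LK LD1_c8 LD2_c30 LD3_c57)) :=
  Lgr Lrot69 (Lpe (f244844 IH) (Lpe (f244843 IH) (Lpr_ff (f244827 IH) (Lpe (f244845 IH) (Lpe (f244846 IH) (Lpn (LP (LK LD1_c8 LD2_c30 LD3_c57))))))))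
theorem f244884 : Led Lsl_ef (LP (LK LD1_c5 LD2_c27 LD3_c35)) = (LP (LK LD1_c8 LD2_c30 LD3_c57)) :=
  Lgr Lrot88 (Lpr_et (f244847 IH) (Lpn (LP (LK LD1_c8 LD2_c30 LD3_c57))))
theorem f222544 : Led Lsl_ft (LP (LK LD1_c1 LD2_c17 LD3_c12)) = (LP (LK LD1_c1 LD2_c58 LD3_c24)) :=
  Lgr Lrot4 (Lpe (K15.f222543 IH) (Lpr_ff (K13.f222535 IH) (Lpe (K12.f53086 IH) (Lpn (LP (LK LD1_c1 LD2_c58 LD3_c24))))))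
theorem f222647 : Led Lsl_ft (LP (LK LD1_c5 LD2_c29 LD3_c29)) = (LP (LK LD1_c2 LD2_c40 LD3_c60)) :=
  Lre_f IH (LK LD1_c5 LD2_c29 LD3_c29) (LK LD1_c2 LD2_c40 LD3_c60) Lrfl Lrfl
theorem f51401 : Led Lsl_et (LP (LK LD1_c1 LD2_c58 LD3_c24)) = (LP (LK LD1_c4 LD2_c2 LD3_c46)) :=
  Lre_e IH (LK LD1_c1 LD2_c58 LD3_c24) (LK LD1_c4 LD2_c2 LD3_c46) Lrfl Lrfl
theorem f222648 : Led Lsl_ft (LP (LK LD1_c4 LD2_c2 LD3_c46)) = (LP (LK LD1_c8 LD2_c6 LD3_c7)) :=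
  Lre_f IH (LK LD1_c4 LD2_c2 LD3_c46) (LK LD1_c8 LD2_c6 LD3_c7) Lrfl Lrfl
theorem f222649 : Led Lsl_ef (LP (LK LD1_c5 LD2_c29 LD3_c29)) = (LP (LK LD1_c8 LD2_c6 LD3_c7)) :=
  Lgr Lrot21 (Lpr_ft (f222647 IH) (Lpr_et (f222646 IH) (Lpr_ft (f222544 IH) (Lpr_et (f51401 IH) (Lpr_ft (f222648 IH) (Lpn (LP (LK LD1_c8 LD2_c6 LD3_c7))))))))
theorem f282912 : Led Lsl_bt (LP (LK LD1_c5 LD2_c27 LD3_c35)) = (LP (LK LD1_c8 LD2_c6 LD3_c7)) :=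
  Lgr Lrot119 (Lpr_ef (f244884 IH) (Lpr_bf (f282903 IH) (Lpr_ef (f222649 IH) (Lpn (LP (LK LD1_c8 LD2_c6 LD3_c7))))))
theorem f222661 : Led Lsl_ft (LP (LK LD1_c8 LD2_c6 LD3_c7)) = (LP (LK LD1_c4 LD2_c2 LD3_c46)) :=
  Lre_f IH (LK LD1_c8 LD2_c6 LD3_c7) (LK LD1_c4 LD2_c2 LD3_c46) Lrfl Lrfl
theorem f282920 : Led Lsl_bf (LP (LK LD1_c2 LD2_c40 LD3_c8)) = (LP (LK LD1_c4 LD2_c2 LD3_c46)) :=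
  Lgr Lrot61 (Lpr_ft (f244844 IH) (Lpr_bt (f282912 IH) (Lpr_ft (f222661 IH) (Lpn (LP (LK LD1_c4 LD2_c2 LD3_c46))))))
theorem f220592 : Led Lsl_et (LP (LK LD1_c4 LD2_c2 LD3_c46)) = (LP (LK LD1_c1 LD2_c58 LD3_c24)) :=
  Lre_e IH (LK LD1_c4 LD2_c2 LD3_c46) (LK LD1_c1 LD2_c58 LD3_c24) Lrfl Lrfl
theorem f190075 : Led Lsl_et (LP (LK LD1_c2 LD2_c4 LD3_c60)) = (LP (LK LD1_c4 LD2_c15 LD3_c12)) :=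
  Lre_e IH (LK LD1_c2 LD2_c4 LD3_c60) (LK LD1_c4 LD2_c15 LD3_c12) Lrfl Lrfl
theorem f220593 : Led Lsl_df (LP (LK LD1_c4 LD2_c2 LD3_c46)) = (LP (LK LD1_c4 LD2_c15 LD3_c12)) :=
  Lgr Lrot70 (Lpr_et (f220592 IH) (Lpr_dt (K13.f51400 IH) (Lpr_et (K12.f220584 IH) (Lpr_dt (K12.f220588 IH) (Lpr_et (f190075 IH) (Lpn (LP (LK LD1_c4 LD2_c15 LD3_c12))))))))
theorem f45377 : Led Lsl_et (LP (LK LD1_c4 LD2_c15 LD3_c12)) = (LP (LK LD1_c2 LD2_c4 LD3_c60)) :=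
  Lre_e IH (LK LD1_c4 LD2_c15 LD3_c12) (LK LD1_c2 LD2_c4 LD3_c60) Lrfl Lrfl
theorem f190052 : Led Lsl_et (LP (LK LD1_c2 LD2_c1 LD3_c23)) = (LP (LK LD1_c4 LD2_c8 LD3_c1)) :=
  Lre_e IH (LK LD1_c2 LD2_c1 LD3_c23) (LK LD1_c4 LD2_c8 LD3_c1) Lrfl Lrfl
theorem f190053 : Led Lsl_bf (LP (LK LD1_c4 LD2_c15 LD3_c12)) = (LP (LK LD1_c4 LD2_c8 LD3_c1)) :=
  Lgr Lrot96 (Lpr_et (f45377 IH) (Lpr_bt (K10.f189984 IH) (Lpr_et (f190052 IH) (Lpn (LP (LK LD1_c4 LD2_c8 LD3_c1))))))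
theorem f282926 : Led Lsl_dt (LP (LK LD1_c2 LD2_c40 LD3_c8)) = (LP (LK LD1_c4 LD2_c8 LD3_c1)) :=
  Lgr Lrot79 (Lpr_bf (f282920 IH) (Lpr_df (f220593 IH) (Lpr_bf (f190053 IH) (Lpn (LP (LK LD1_c4 LD2_c8 LD3_c1))))))
theorem f50784 : Led Lsl_et (LP (LK LD1_c4 LD2_c8 LD3_c1)) = (LP (LK LD1_c2 LD2_c1 LD3_c23)) :=
  Lre_e IH (LK LD1_c4 LD2_c8 LD3_c1) (LK LD1_c2 LD2_c1 LD3_c23) Lrfl Lrfl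
theorem f282936 : Led Lsl_df (LP (LK LD1_c1 LD2_c16 LD3_c50)) = (LP (LK LD1_c2 LD2_c1 LD3_c23)) :=
  Lgr Lrot70 (Lpr_et (K14.f245025 IH) (Lpr_dt (K13.f243601 IH) (Lpr_et (f244843 IH) (Lpr_dt (f282926 IH) (Lpr_et (f50784 IH) (Lpn (LP (LK LD1_c2 LD2_c1 LD3_c23))))))))
theorem f184056 : Led Lsl_ct (LP (LK LD1_c4 LD2_c54 LD3_c25)) = (LP (LK LD1_c2 LD2_c35 LD3_c41)) :=
  Lgr Lrot59 (Lpr_cf (K9.f184048 IH) (Lpn (LP (LK LD1_c2 LD2_c35 LD3_c41))))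
theorem f48255 : Led Lsl_bt (LP (LK LD1_c4 LD2_c15 LD3_c20)) = (LP (LK LD1_c2 LD2_c5 LD3_c3)) :=
  Lre_b IH (LK LD1_c4 LD2_c15 LD3_c20) (LK LD1_c2 LD2_c5 LD3_c3) Lrfl Lrfl
theorem f48257 : Led Lsl_df (LP (LK LD1_c4 LD2_c15 LD3_c20)) = (LP (LK LD1_c2 LD2_c35 LD3_c41)) :=
  Lgr Lrot12 (Lpr_bt (f48255 IH) (Lpr_dt (K10.f48253 IH) (Lpr_bt (K9.f48256 IH) (Lpn (LP (LK LD1_c2 LD2_c35 LD3_c41))))))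
theorem f260267 : Led Lsl_ct (LP (LK LD1_c4 LD2_c15 LD3_c20)) = (LP (LK LD1_c7 LD2_c56 LD3_c4)) :=
  Lgr Lrot98 (Lpr_df (f48257 IH) (Lpe (f184056 IH) (Lpe (K14.f43773 IH) (Lpr_cf (K15.f212350 IH) (Lpe (K15.f44272 IH) (Lpr_cf (K15.f258954 IH) (Lpr_df (K15.f260259 IH) (Lpr_ft (K15.f229514 IH) (Lpr_at (K15.f230375 IH) (Lpn (LP (LK LD1_c7 LD2_c56 LD3_c4))))))))))))
theorem f262819 : Led Lsl_bt (LP (LK LD1_c1 LD2_c58 LD3_c25)) = (LP (LK LD1_c1 LD2_c16 LD3_c50)) :=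
  Lgr Lrot119 (Lpe (K12.f220584 IH) (Lpr_bf (K15.f262815 IH) (Lpe (K14.f245025 IH) (Lpn (LP (LK LD1_c1 LD2_c16 LD3_c50))))))
theorem f266279 : Led Lsl_cf (LP (LK LD1_c2 LD2_c5 LD3_c3)) = (LP (LK LD1_c1 LD2_c16 LD3_c50)) :=
  Lgr Lrot97 (Lpr_bt (K16.f49030 IH) (Lpr_ct (f260267 IH) (Lpr_bt (K15.f266277 IH) (Lpr_ct (K15.f220587 IH) (Lpr_bt (f262819 IH) (Lpn (LP (LK LD1_c1 LD2_c16 LD3_c50))))))))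
theorem f48259 : Led Lsl_dt (LP (LK LD1_c2 LD2_c35 LD3_c42)) = (LP (LK LD1_c5 LD2_c17 LD3_c58)) :=
  Lre_d IH (LK LD1_c2 LD2_c35 LD3_c42) (LK LD1_c5 LD2_c17 LD3_c58) Lrfl Lrfl
theorem f187658 : Led Lsl_dt (LP (LK LD1_c2 LD2_c59 LD3_c7)) = (LP (LK LD1_c6 LD2_c5 LD3_c61)) :=
  Lre_d IH (LK LD1_c2 LD2_c59 LD3_c7) (LK LD1_c6 LD2_c5 LD3_c61) Lrfl Lrfl
theorem f188339 : Led Lsl_cf (LP (LK LD1_c6 LD2_c5 LD3_c61)) = (LP (LK LD1_c5 LD2_c17 LD3_c58)) :=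
  Lgr Lrot14 (Lpe (f187658 IH) (Lpr_gf (K10.f187656 IH) (Lpe (K15.f50795 IH) (Lpe (K10.f188198 IH) (Lpr_ct (K10.f188200 IH) (Lpr_gt (K10.f53547 IH) (Lpe (K13.f188331 IH) (Lpr_gt (K13.f188335 IH) (Lpr_dt (f48259 IH) (Lpn (LP (LK LD1_c5 LD2_c17 LD3_c58))))))))))))
theorem f183471 : Led Lsl_dt (LP (LK LD1_c6 LD2_c5 LD3_c61)) = (LP (LK LD1_c2 LD2_c59 LD3_c7)) :=
  Lre_d IH (LK LD1_c6 LD2_c5 LD3_c61) (LK LD1_c2 LD2_c59 LD3_c7) Lrfl Lrfl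
theorem f236126 : Led Lsl_at (LP (LK LD1_c1 LD2_c16 LD3_c57)) = (LP (LK LD1_c2 LD2_c40 LD3_c10)) :=
  Lre_a IH (LK LD1_c1 LD2_c16 LD3_c57) (LK LD1_c2 LD2_c40 LD3_c10) Lrfl Lrfl
theorem f251269 : Led Lsl_at (LP (LK LD1_c2 LD2_c1 LD3_c12)) = (LP (LK LD1_c1 LD2_c25 LD3_c17)) :=
  Lgr Lrot51 (Lpe (K13.f236130 IH) (Lpe (f236126 IH) (Lpr_df (K14.f251267 IH) (Lpn (LP (LK LD1_c1 LD2_c25 LD3_c17))))))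
theorem f282986 : Led Lsl_ff (LP (LK LD1_c2 LD2_c1 LD3_c12)) = (LP (LK LD1_c2 LD2_c1 LD3_c23)) :=
  Lgr Lrot103 (Lpr_at (f251269 IH) (Lpe (K10.f183470 IH) (Lpe (f183471 IH) (Lpr_cf (f188339 IH) (Lpe (f48259 IH) (Lpe (K9.f32559 IH) (Lpe (K10.f48253 IH) (Lpr_cf (f266279 IH) (Lpr_df (f282936 IH) (Lpn (LP (LK LD1_c2 LD2_c1 LD3_c23))))))))))))
theorem f231609 : Led Lsl_ft (LP (LK LD1_c4 LD2_c7 LD3_c40)) = (LP (LK LD1_c8 LD2_c15 LD3_c21)) :=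
  Lre_f IH (LK LD1_c4 LD2_c7 LD3_c40) (LK LD1_c8 LD2_c15 LD3_c21) Lrfl Lrfl
theorem f190060 : Led Lsl_ft (LP (LK LD1_c8 LD2_c16 LD3_c4)) = (LP (LK LD1_c4 LD2_c8 LD3_c1)) :=
  Lre_f IH (LK LD1_c8 LD2_c16 LD3_c4) (LK LD1_c4 LD2_c8 LD3_c1) Lrfl Lrfl
theorem f283008 : Led Lsl_et (LP (LK LD1_c8 LD2_c15 LD3_c21)) = (LP (LK LD1_c8 LD2_c16 LD3_c4)) :=
  Lgr Lrot69 (Lpe (f231609 IH) (Lpe (K14.f231676 IH) (Lpr_ff (f282986 IH) (Lpe (f50784 IH) (Lpe (f190060 IH) (Lpn (LP (LK LD1_c8 LD2_c16 LD3_c4))))))))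
theorem f283014 : Led Lsl_ef (LP (LK LD1_c8 LD2_c15 LD3_c21)) = (LP (LK LD1_c8 LD2_c16 LD3_c4)) :=
  Lgr Lrot88 (Lpr_et (f283008 IH) (Lpn (LP (LK LD1_c8 LD2_c16 LD3_c4))))
theorem f231621 : Led Lsl_ct (LP (LK LD1_c8 LD2_c15 LD3_c21)) = (LP (LK LD1_c15 LD2_c31 LD3_c27)) :=
  Lre_c IH (LK LD1_c8 LD2_c15 LD3_c21) (LK LD1_c15 LD2_c31 LD3_c27) Lrfl Lrfl
theorem f190071 : Led Lsl_ct (LP (LK LD1_c15 LD2_c32 LD3_c34)) = (LP (LK LD1_c8 LD2_c16 LD3_c4)) :=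
  Lre_c IH (LK LD1_c15 LD2_c32 LD3_c34) (LK LD1_c8 LD2_c16 LD3_c4) Lrfl Lrfl
theorem f283018 : Led Lsl_et (LP (LK LD1_c15 LD2_c31 LD3_c27)) = (LP (LK LD1_c15 LD2_c32 LD3_c34)) :=
  Lgr Lrot158 (Lpe (f231621 IH) (Lpr_ef (f283014 IH) (Lpe (f190071 IH) (Lpn (LP (LK LD1_c15 LD2_c32 LD3_c34))))))
theorem f283020 : Led Lsl_ft (LP (LK LD1_c8 LD2_c15 LD3_c19)) = (LP (LK LD1_c15 LD2_c31 LD3_c27)) :=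
  Lre_f IH (LK LD1_c8 LD2_c15 LD3_c19) (LK LD1_c15 LD2_c31 LD3_c27) Lrfl Lrfl
theorem f273663 : Led Lsl_et (LP (LK LD1_c4 LD2_c7 LD3_c39)) = (LP (LK LD1_c8 LD2_c15 LD3_c19)) :=
  Lre_e IH (LK LD1_c4 LD2_c7 LD3_c39) (LK LD1_c8 LD2_c15 LD3_c19) Lrfl Lrfl
theorem f283021 : Led Lsl_ft (LP (LK LD1_c15 LD2_c32 LD3_c34)) = (LP (LK LD1_c8 LD2_c16 LD3_c1)) :=
  Lre_f IH (LK LD1_c15 LD2_c32 LD3_c34) (LK LD1_c8 LD2_c16 LD3_c1) Lrfl Lrfl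
theorem f50794 : Led Lsl_et (LP (LK LD1_c8 LD2_c16 LD3_c1)) = (LP (LK LD1_c4 LD2_c8 LD3_c0)) :=
  Lre_e IH (LK LD1_c8 LD2_c16 LD3_c1) (LK LD1_c4 LD2_c8 LD3_c0) Lrfl Lrfl
theorem f283022 : Led Lsl_ff (LP (LK LD1_c4 LD2_c7 LD3_c39)) = (LP (LK LD1_c4 LD2_c8 LD3_c0)) :=
  Lgr Lrot72 (Lpr_et (f273663 IH) (Lpr_ft (f283020 IH) (Lpr_et (f283018 IH) (Lpr_ft (f283021 IH) (Lpr_et (f50794 IH) (Lpn (LP (LK LD1_c4 LD2_c8 LD3_c0))))))))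
theorem f283028 : Led Lsl_at (LP (LK LD1_c4 LD2_c7 LD3_c39)) = (LP (LK LD1_c2 LD2_c59 LD3_c7)) :=
  Lgr Lrot26 (Lpr_ff (f283022 IH) (Lpe (K10.f50775 IH) (Lpe (K10.f187656 IH) (Lpn (LP (LK LD1_c2 LD2_c59 LD3_c7))))))
theorem f231588 : Led Lsl_et (LP (LK LD1_c8 LD2_c15 LD3_c19)) = (LP (LK LD1_c4 LD2_c7 LD3_c39)) :=
  Lre_e IH (LK LD1_c8 LD2_c15 LD3_c19) (LK LD1_c4 LD2_c7 LD3_c39) Lrfl Lrfl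
theorem f283037 : Led Lsl_et (LP (LK LD1_c2 LD2_c59 LD3_c7)) = (LP (LK LD1_c6 LD2_c6 LD3_c0)) :=
  Lre_e IH (LK LD1_c2 LD2_c59 LD3_c7) (LK LD1_c6 LD2_c6 LD3_c0) Lrfl Lrfl
theorem f283038 : Led Lsl_af (LP (LK LD1_c8 LD2_c15 LD3_c19)) = (LP (LK LD1_c6 LD2_c6 LD3_c0)) :=
  Lgr Lrot50 (Lpr_et (f231588 IH) (Lpr_at (f283028 IH) (Lpr_et (f283037 IH) (Lpn (LP (LK LD1_c6 LD2_c6 LD3_c0))))))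
theorem f283050 : Led Lsl_ft (LP (LK LD1_c11 LD2_c55 LD3_c29)) = (LP (LK LD1_c6 LD2_c6 LD3_c0)) :=
  Lre_f IH (LK LD1_c11 LD2_c55 LD3_c29) (LK LD1_c6 LD2_c6 LD3_c0) Lrfl Lrfl
theorem f283051 : Led Lsl_at (LP (LK LD1_c15 LD2_c31 LD3_c27)) = (LP (LK LD1_c11 LD2_c55 LD3_c29)) :=
  Lgr Lrot66 (Lpe (f283020 IH) (Lpr_af (f283038 IH) (Lpe (f283050 IH) (Lpn (LP (LK LD1_c11 LD2_c55 LD3_c29))))))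
theorem f283056 : Led Lsl_ct (LP (LK LD1_c11 LD2_c55 LD3_c29)) = (LP (LK LD1_c6 LD2_c6 LD3_c3)) :=
  Lre_c IH (LK LD1_c11 LD2_c55 LD3_c29) (LK LD1_c6 LD2_c6 LD3_c3) Lrfl Lrfl
theorem f283059 : Led Lsl_af (LP (LK LD1_c8 LD2_c15 LD3_c21)) = (LP (LK LD1_c6 LD2_c6 LD3_c3)) :=
  Lgr Lrot68 (Lpr_ct (f231621 IH) (Lpr_at (f283051 IH) (Lpr_ct (f283056 IH) (Lpn (LP (LK LD1_c6 LD2_c6 LD3_c3))))))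
theorem f220168 : Led Lsl_ft (LP (LK LD1_c2 LD2_c59 LD3_c8)) = (LP (LK LD1_c6 LD2_c6 LD3_c3)) :=
  Lre_f IH (LK LD1_c2 LD2_c59 LD3_c8) (LK LD1_c6 LD2_c6 LD3_c3) Lrfl Lrfl
theorem f220172 : Led Lsl_gt (LP (LK LD1_c2 LD2_c59 LD3_c8)) = (LP (LK LD1_c6 LD2_c6 LD3_c1)) :=
  Lre_g IH (LK LD1_c2 LD2_c59 LD3_c8) (LK LD1_c6 LD2_c6 LD3_c1) Lrfl Lrfl
theorem f283066 : Led Lsl_gf (LP (LK LD1_c8 LD2_c15 LD3_c21)) = (LP (LK LD1_c6 LD2_c6 LD3_c1)) :=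
  Lgr Lrot76 (Lpr_af (f283059 IH) (Lpe (f220168 IH) (Lpr_gt (f220172 IH) (Lpn (LP (LK LD1_c6 LD2_c6 LD3_c1))))))
theorem f220166 : Led Lsl_et (LP (LK LD1_c1 LD2_c25 LD3_c17)) = (LP (LK LD1_c2 LD2_c59 LD3_c8)) :=
  Lre_e IH (LK LD1_c1 LD2_c25 LD3_c17) (LK LD1_c2 LD2_c59 LD3_c8) Lrfl Lrfl
theorem f282445 : Led Lsl_et (LP (LK LD1_c5 LD2_c32 LD3_c12)) = (LP (LK LD1_c6 LD2_c6 LD3_c1)) :=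
  Lgr Lrot122 (Lpr_dt (f263038 IH) (Lpr_gt (f263043 IH) (Lpr_df (f282431 IH) (Lpr_et (f49929 IH) (Lpr_gt (K16.f49903 IH) (Lpr_dt (K16.f49902 IH) (Lpr_gt (K14.f253965 IH) (Lpr_df (K14.f251267 IH) (Lpr_et (f220166 IH) (Lpr_gt (f220172 IH) (Lpn (LP (LK LD1_c6 LD2_c6 LD3_c1)))))))))))))
theorem f264440 : Led Lsl_df (LP (LK LD1_c4 LD2_c29 LD3_c55)) = (LP (LK LD1_c6 LD2_c5 LD3_c35)) :=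
  Lgr Lrot38 (Lpr_dt (K15.f264433 IH) (Lpn (LP (LK LD1_c6 LD2_c5 LD3_c35))))
theorem f263406 : Led Lsl_gf (LP (LK LD1_c5 LD2_c26 LD3_c13)) = (LP (LK LD1_c8 LD2_c15 LD3_c59)) :=
  Lgr Lrot47 (Lpr_gt (K15.f263404 IH) (Lpe (K14.f254630 IH) (Lpe (K15.f262090 IH) (Lpn (LP (LK LD1_c8 LD2_c15 LD3_c59))))))
theorem f197606 : Led Lsl_gt (LP (LK LD1_c4 LD2_c15 LD3_c25)) = (LP (LK LD1_c8 LD2_c29 LD3_c44)) :=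
  Lre_g IH (LK LD1_c4 LD2_c15 LD3_c25) (LK LD1_c8 LD2_c29 LD3_c44) Lrfl Lrfl
theorem f262066 : Led Lsl_gt (LP (LK LD1_c8 LD2_c29 LD3_c44)) = (LP (LK LD1_c4 LD2_c16 LD3_c2)) :=
  Lgr Lrot46 (Lpe (f197606 IH) (Lpr_ft (K13.f197601 IH) (Lpr_at (K15.f262056 IH) (Lpn (LP (LK LD1_c4 LD2_c16 LD3_c2))))))
theorem f283068 : Led Lsl_dt (LP (LK LD1_c8 LD2_c15 LD3_c21)) = (LP (LK LD1_c8 LD2_c29 LD3_c44)) :=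
  Lgr Lrot171 (Lpr_gf (f283066 IH) (Lpe (f282445 IH) (Lpr_dt (f263038 IH) (Lpe (f263032 IH) (Lpr_df (f264440 IH) (Lpe (K15.f264428 IH) (Lpr_gf (f263406 IH) (Lpr_ef (K15.f262082 IH) (Lpe (K15.f220696 IH) (Lpe (f262066 IH) (Lpn (LP (LK LD1_c8 LD2_c29 LD3_c44)))))))))))))
theorem f283089 : Led Lsl_df (LP (LK LD1_c8 LD2_c15 LD3_c21)) = (LP (LK LD1_c8 LD2_c29 LD3_c44)) :=
  Lgr Lrot38 (Lpr_dt (f283068 IH) (Lpn (LP (LK LD1_c8 LD2_c29 LD3_c44))))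
theorem f231624 : Led Lsl_ft (LP (LK LD1_c8 LD2_c15 LD3_c21)) = (LP (LK LD1_c4 LD2_c7 LD3_c40)) :=
  Lre_f IH (LK LD1_c8 LD2_c15 LD3_c21) (LK LD1_c4 LD2_c7 LD3_c40) Lrfl Lrfl
theorem f283091 : Led Lsl_ft (LP (LK LD1_c4 LD2_c16 LD3_c1)) = (LP (LK LD1_c8 LD2_c29 LD3_c44)) :=
  Lgr Lrot54 (Lpr_df (K14.f236166 IH) (Lpe (f231624 IH) (Lpr_df (f283089 IH) (Lpn (LP (LK LD1_c8 LD2_c29 LD3_c44))))))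
theorem f1383 : Led Lsl_gt (LP (LK LD1_c2 LD2_c5 LD3_c23)) = (LP (LK LD1_c4 LD2_c16 LD3_c0)) :=
  Lre_g IH (LK LD1_c2 LD2_c5 LD3_c23) (LK LD1_c4 LD2_c16 LD3_c0) Lrfl Lrfl
theorem f283100 : Led Lsl_af (LP (LK LD1_c4 LD2_c16 LD3_c0)) = (LP (LK LD1_c8 LD2_c29 LD3_c44)) :=
  Lgr Lrot31 (Lpe (f1383 IH) (Lpe (K14.f1407 IH) (Lpr_ft (f283091 IH) (Lpn (LP (LK LD1_c8 LD2_c29 LD3_c44))))))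
theorem f283108 : Led Lsl_dt (LP (LK LD1_c4 LD2_c16 LD3_c0)) = (LP (LK LD1_c6 LD2_c6 LD3_c3)) :=
  Lgr Lrot44 (Lpr_af (f283100 IH) (Lpe (f283068 IH) (Lpr_af (f283059 IH) (Lpn (LP (LK LD1_c6 LD2_c6 LD3_c3))))))
theorem f283110 : Led Lsl_et (LP (LK LD1_c4 LD2_c16 LD3_c0)) = (LP (LK LD1_c8 LD2_c31 LD3_c7)) :=
  Lre_e IH (LK LD1_c4 LD2_c16 LD3_c0) (LK LD1_c8 LD2_c31 LD3_c7) Lrfl Lrfl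
theorem f1382 : Led Lsl_et (LP (LK LD1_c0 LD2_c59 LD3_c44)) = (LP (LK LD1_c2 LD2_c5 LD3_c23)) :=
  Lre_e IH (LK LD1_c0 LD2_c59 LD3_c44) (LK LD1_c2 LD2_c5 LD3_c23) Lrfl Lrfl
theorem f283120 : Led Lsl_gf (LP (LK LD1_c8 LD2_c15 LD3_c20)) = (LP (LK LD1_c6 LD2_c6 LD3_c3)) :=
  Lgr Lrot134 (Lpe (K14.f250653 IH) (Lpr_et (K14.f1379 IH) (Lpr_gt (K14.f1371 IH) (Lpe (K9.f799 IH) (Lpr_dt (K9.f833 IH) (Lpr_gt (K12.f1380 IH) (Lpe (K14.f1381 IH) (Lpr_et (f1382 IH) (Lpr_gt (f1383 IH) (Lpr_dt (f283108 IH) (Lpn (LP (LK LD1_c6 LD2_c6 LD3_c3)))))))))))))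
theorem f815 : Led Lsl_gt (LP (LK LD1_c4 LD2_c9 LD3_c59)) = (LP (LK LD1_c2 LD2_c2 LD3_c11)) :=
  Lre_g IH (LK LD1_c4 LD2_c9 LD3_c59) (LK LD1_c2 LD2_c2 LD3_c11) Lrfl Lrfl
theorem f816 : Led Lsl_gf (LP (LK LD1_c4 LD2_c9 LD3_c59)) = (LP (LK LD1_c4 LD2_c15 LD3_c36)) :=
  Lgr Lrot47 (Lpr_gt (f815 IH) (Lpe (K13.f810 IH) (Lpr_ff (K14.f800 IH) (Lpn (LP (LK LD1_c4 LD2_c15 LD3_c36))))))
theorem f837 : Led Lsl_dt (LP (LK LD1_c8 LD2_c20 LD3_c10)) = (LP (LK LD1_c4 LD2_c9 LD3_c59)) :=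
  Lre_d IH (LK LD1_c8 LD2_c20 LD3_c10) (LK LD1_c4 LD2_c9 LD3_c59) Lrfl Lrfl
theorem f27324 : Led Lsl_dt (LP (LK LD1_c2 LD2_c2 LD3_c11)) = (LP (LK LD1_c2 LD2_c2 LD3_c11)) :=
  Lgr Lrot79 (Lpe (K9.f529 IH) (Lpr_df (K0.f27322 IH) (Lpe (K1.f537 IH) (Lpn (LP (LK LD1_c2 LD2_c2 LD3_c11))))))
theorem f234208 : Led Lsl_et (LP (LK LD1_c2 LD2_c1 LD3_c41)) = (LP (LK LD1_c4 LD2_c8 LD3_c39)) :=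
  Lre_e IH (LK LD1_c2 LD2_c1 LD3_c41) (LK LD1_c4 LD2_c8 LD3_c39) Lrfl Lrfl
theorem f234209 : Led Lsl_gt (LP (LK LD1_c4 LD2_c8 LD3_c39)) = (LP (LK LD1_c8 LD2_c17 LD3_c20)) :=
  Lre_g IH (LK LD1_c4 LD2_c8 LD3_c39) (LK LD1_c8 LD2_c17 LD3_c20) Lrfl Lrfl
theorem f234210 : Led Lsl_et (LP (LK LD1_c8 LD2_c20 LD3_c10)) = (LP (LK LD1_c8 LD2_c17 LD3_c20)) :=
  Lgr Lrot122 (Lpr_dt (f837 IH) (Lpr_gt (f815 IH) (Lpe (f27324 IH) (Lpr_et (K1.f555 IH) (Lpr_gt (K10.f47554 IH) (Lpe (K13.f47542 IH) (Lpr_gt (K13.f234197 IH) (Lpe (K14.f234161 IH) (Lpr_et (f234208 IH) (Lpr_gt (f234209 IH) (Lpn (LP (LK LD1_c8 LD2_c17 LD3_c20)))))))))))))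
theorem f283122 : Led Lsl_gf (LP (LK LD1_c8 LD2_c31 LD3_c7)) = (LP (LK LD1_c8 LD2_c17 LD3_c20)) :=
  Lgr Lrot141 (Lpe (f283110 IH) (Lpr_dt (f283108 IH) (Lpe (f283120 IH) (Lpe (K14.f250653 IH) (Lpr_et (K14.f1379 IH) (Lpr_gt (K14.f1371 IH) (Lpr_dt (K14.f51462 IH) (Lpe (f816 IH) (Lpe (f837 IH) (Lpr_et (f234210 IH) (Lpn (LP (LK LD1_c8 LD2_c17 LD3_c20)))))))))))))
theorem f260686 : Led Lsl_ft (LP (LK LD1_c4 LD2_c8 LD3_c39)) = (LP (LK LD1_c8 LD2_c17 LD3_c22)) :=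
  Lre_f IH (LK LD1_c4 LD2_c8 LD3_c39) (LK LD1_c8 LD2_c17 LD3_c22) Lrfl Lrfl
theorem f283124 : Led Lsl_af (LP (LK LD1_c8 LD2_c31 LD3_c7)) = (LP (LK LD1_c8 LD2_c17 LD3_c22)) :=
  Lgr Lrot31 (Lpr_gf (f283122 IH) (Lpe (f234209 IH) (Lpr_ft (f260686 IH) (Lpn (LP (LK LD1_c8 LD2_c17 LD3_c22))))))
theorem f260670 : Led Lsl_et (LP (LK LD1_c4 LD2_c16 LD3_c61)) = (LP (LK LD1_c8 LD2_c33 LD3_c23)) :=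
  Lre_e IH (LK LD1_c4 LD2_c16 LD3_c61) (LK LD1_c8 LD2_c33 LD3_c23) Lrfl Lrfl
theorem f216861 : Led Lsl_et (LP (LK LD1_c8 LD2_c17 LD3_c19)) = (LP (LK LD1_c4 LD2_c8 LD3_c38)) :=
  Lre_e IH (LK LD1_c8 LD2_c17 LD3_c19) (LK LD1_c4 LD2_c8 LD3_c38) Lrfl Lrfl
theorem f260671 : Led Lsl_at (LP (LK LD1_c8 LD2_c33 LD3_c23)) = (LP (LK LD1_c8 LD2_c17 LD3_c19)) :=
  Lgr Lrot80 (Lpe (f260670 IH) (Lpr_af (K15.f260662 IH) (Lpe (f216861 IH) (Lpn (LP (LK LD1_c8 LD2_c17 LD3_c19))))))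
theorem f167755 : Led Lsl_ct (LP (LK LD1_c4 LD2_c17 LD3_c0)) = (LP (LK LD1_c8 LD2_c33 LD3_c23)) :=
  Lre_c IH (LK LD1_c4 LD2_c17 LD3_c0) (LK LD1_c8 LD2_c33 LD3_c23) Lrfl Lrfl
theorem f260676 : Led Lsl_ct (LP (LK LD1_c8 LD2_c17 LD3_c19)) = (LP (LK LD1_c4 LD2_c8 LD3_c39)) :=
  Lre_c IH (LK LD1_c8 LD2_c17 LD3_c19) (LK LD1_c4 LD2_c8 LD3_c39) Lrfl Lrfl
theorem f260677 : Led Lsl_af (LP (LK LD1_c4 LD2_c17 LD3_c0)) = (LP (LK LD1_c4 LD2_c8 LD3_c39)) :=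
  Lgr Lrot68 (Lpr_ct (f167755 IH) (Lpr_at (f260671 IH) (Lpr_ct (f260676 IH) (Lpn (LP (LK LD1_c4 LD2_c8 LD3_c39))))))
theorem f260680 : Led Lsl_at (LP (LK LD1_c4 LD2_c17 LD3_c0)) = (LP (LK LD1_c4 LD2_c8 LD3_c39)) :=
  Lgr Lrot100 (Lpr_af (f260677 IH) (Lpn (LP (LK LD1_c4 LD2_c8 LD3_c39))))
theorem f283132 : Led Lsl_ft (LP (LK LD1_c8 LD2_c31 LD3_c7)) = (LP (LK LD1_c4 LD2_c17 LD3_c0)) :=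
  Lgr Lrot101 (Lpr_af (f283124 IH) (Lpe (f260686 IH) (Lpe (f260680 IH) (Lpn (LP (LK LD1_c4 LD2_c17 LD3_c0))))))
theorem f283140 : Led Lsl_ff (LP (LK LD1_c8 LD2_c31 LD3_c7)) = (LP (LK LD1_c4 LD2_c17 LD3_c0)) :=
  Lgr Lrot3 (Lpr_ft (f283132 IH) (Lpn (LP (LK LD1_c4 LD2_c17 LD3_c0))))
theorem f283128 : Led Lsl_at (LP (LK LD1_c8 LD2_c31 LD3_c7)) = (LP (LK LD1_c8 LD2_c17 LD3_c22)) :=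
  Lgr Lrot100 (Lpr_af (f283124 IH) (Lpn (LP (LK LD1_c8 LD2_c17 LD3_c22))))
theorem f167741 : Led Lsl_gt (LP (LK LD1_c4 LD2_c17 LD3_c0)) = (LP (LK LD1_c8 LD2_c33 LD3_c24)) :=
  Lre_g IH (LK LD1_c4 LD2_c17 LD3_c0) (LK LD1_c8 LD2_c33 LD3_c24) Lrfl Lrfl
theorem f283155 : Led Lsl_gf (LP (LK LD1_c8 LD2_c17 LD3_c22)) = (LP (LK LD1_c8 LD2_c33 LD3_c24)) :=
  Lgr Lrot76 (Lpe (f283128 IH) (Lpr_ff (f283140 IH) (Lpr_gt (f167741 IH) (Lpn (LP (LK LD1_c8 LD2_c33 LD3_c24))))))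
theorem f260649 : Led Lsl_et (LP (LK LD1_c4 LD2_c8 LD3_c39)) = (LP (LK LD1_c2 LD2_c1 LD3_c41)) :=
  Lre_e IH (LK LD1_c4 LD2_c8 LD3_c39) (LK LD1_c2 LD2_c1 LD3_c41) Lrfl Lrfl
theorem f260654 : Led Lsl_ft (LP (LK LD1_c8 LD2_c17 LD3_c22)) = (LP (LK LD1_c4 LD2_c8 LD3_c39)) :=
  Lre_f IH (LK LD1_c8 LD2_c17 LD3_c22) (LK LD1_c4 LD2_c8 LD3_c39) Lrfl Lrfl
theorem f283098 : Led Lsl_ef (LP (LK LD1_c8 LD2_c17 LD3_c22)) = (LP (LK LD1_c8 LD2_c29 LD3_c44)) :=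
  Lgr Lrot21 (Lpr_ft (f260654 IH) (Lpr_et (f260649 IH) (Lpe (K15.f260643 IH) (Lpr_et (K14.f250663 IH) (Lpr_ft (f283091 IH) (Lpn (LP (LK LD1_c8 LD2_c29 LD3_c44))))))))
theorem f1327 : Led Lsl_et (LP (LK LD1_c2 LD2_c5 LD3_c4)) = (LP (LK LD1_c4 LD2_c15 LD3_c25)) :=
  Lre_e IH (LK LD1_c2 LD2_c5 LD3_c4) (LK LD1_c4 LD2_c15 LD3_c25) Lrfl Lrfl
theorem f1347 : Led Lsl_gt (LP (LK LD1_c4 LD2_c16 LD3_c40)) = (LP (LK LD1_c2 LD2_c5 LD3_c36)) :=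
  Lre_g IH (LK LD1_c4 LD2_c16 LD3_c40) (LK LD1_c2 LD2_c5 LD3_c36) Lrfl Lrfl
theorem f1365 : Led Lsl_et (LP (LK LD1_c8 LD2_c32 LD3_c39)) = (LP (LK LD1_c4 LD2_c16 LD3_c40)) :=
  Lre_e IH (LK LD1_c8 LD2_c32 LD3_c39) (LK LD1_c4 LD2_c16 LD3_c40) Lrfl Lrfl
theorem f220164 : Led Lsl_dt (LP (LK LD1_c4 LD2_c8 LD3_c41)) = (LP (LK LD1_c2 LD2_c59 LD3_c8)) :=
  Lgr Lrot42 (Lpr_df (K15.f220159 IH) (Lpn (LP (LK LD1_c2 LD2_c59 LD3_c8))))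
theorem f1364 : Led Lsl_et (LP (LK LD1_c4 LD2_c8 LD3_c41)) = (LP (LK LD1_c2 LD2_c1 LD3_c42)) :=
  Lre_e IH (LK LD1_c4 LD2_c8 LD3_c41) (LK LD1_c2 LD2_c1 LD3_c42) Lrfl Lrfl
theorem f1348 : Led Lsl_gt (LP (LK LD1_c4 LD2_c8 LD3_c27)) = (LP (LK LD1_c4 LD2_c16 LD3_c40)) :=
  Lgr Lrot5 (Lpr_ft (K14.f549 IH) (Lpr_at (K9.f548 IH) (Lpe (f1347 IH) (Lpn (LP (LK LD1_c4 LD2_c16 LD3_c40))))))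
theorem f220169 : Led Lsl_gt (LP (LK LD1_c6 LD2_c6 LD3_c2)) = (LP (LK LD1_c2 LD2_c59 LD3_c8)) :=
  Lre_g IH (LK LD1_c6 LD2_c6 LD3_c2) (LK LD1_c2 LD2_c59 LD3_c8) Lrfl Lrfl
theorem f220180 : Led Lsl_dt (LP (LK LD1_c8 LD2_c32 LD3_c39)) = (LP (LK LD1_c6 LD2_c6 LD3_c2)) :=
  Lgr Lrot136 (Lpr_et (f1365 IH) (Lpe (f1348 IH) (Lpe (K14.f572 IH) (Lpr_dt (K12.f573 IH) (Lpe (K12.f1359 IH) (Lpe (K12.f596 IH) (Lpe (K12.f1363 IH) (Lpe (f1364 IH) (Lpr_dt (f220164 IH) (Lpe (f220169 IH) (Lpn (LP (LK LD1_c6 LD2_c6 LD3_c2)))))))))))))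
theorem f283094 : Led Lsl_gt (LP (LK LD1_c8 LD2_c15 LD3_c21)) = (LP (LK LD1_c6 LD2_c6 LD3_c2)) :=
  Lgr Lrot139 (Lpr_df (f283089 IH) (Lpe (f197606 IH) (Lpe (f1327 IH) (Lpr_dt (K13.f1326 IH) (Lpe (K10.f27370 IH) (Lpe (K11.f27361 IH) (Lpr_et (K1.f557 IH) (Lpe (f1347 IH) (Lpe (f1365 IH) (Lpr_dt (f220180 IH) (Lpn (LP (LK LD1_c6 LD2_c6 LD3_c2)))))))))))))
theorem f27336 : Led Lsl_df (LP (LK LD1_c2 LD2_c5 LD3_c36)) = (LP (LK LD1_c2 LD2_c5 LD3_c36)) :=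
  Lgr Lrot12 (Lpr_bt (K9.f530 IH) (Lpr_dt (K0.f27326 IH) (Lpr_bt (K1.f538 IH) (Lpn (LP (LK LD1_c2 LD2_c5 LD3_c36))))))
theorem f561 : Led Lsl_gt (LP (LK LD1_c2 LD2_c5 LD3_c36)) = (LP (LK LD1_c4 LD2_c16 LD3_c39)) :=
  Lre_g IH (LK LD1_c2 LD2_c5 LD3_c36) (LK LD1_c4 LD2_c16 LD3_c39) Lrfl Lrfl
theorem f566 : Led Lsl_dt (LP (LK LD1_c8 LD2_c32 LD3_c34)) = (LP (LK LD1_c4 LD2_c16 LD3_c39)) :=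
  Lre_d IH (LK LD1_c8 LD2_c32 LD3_c34) (LK LD1_c4 LD2_c16 LD3_c39) Lrfl Lrfl
theorem f283157 : Led Lsl_et (LP (LK LD1_c8 LD2_c32 LD3_c34)) = (LP (LK LD1_c8 LD2_c33 LD3_c24)) :=
  Lgr Lrot185 (Lpr_dt (f566 IH) (Lpe (f561 IH) (Lpr_df (f27336 IH) (Lpe (f1347 IH) (Lpe (f1365 IH) (Lpr_dt (f220180 IH) (Lpe (f283094 IH) (Lpr_df (f283089 IH) (Lpe (f283098 IH) (Lpr_gf (f283155 IH) (Lpn (LP (LK LD1_c8 LD2_c33 LD3_c24)))))))))))))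
theorem f283163 : Led Lsl_ef (LP (LK LD1_c8 LD2_c32 LD3_c34)) = (LP (LK LD1_c8 LD2_c33 LD3_c24)) :=
  Lgr Lrot88 (Lpr_et (f283157 IH) (Lpn (LP (LK LD1_c8 LD2_c33 LD3_c24))))
theorem f48967 : Led Lsl_et (LP (LK LD1_c4 LD2_c16 LD3_c39)) = (LP (LK LD1_c8 LD2_c32 LD3_c35)) :=
  Lre_e IH (LK LD1_c4 LD2_c16 LD3_c39) (LK LD1_c8 LD2_c32 LD3_c35) Lrfl Lrfl
theorem f167704 : Led Lsl_bt (LP (LK LD1_c4 LD2_c17 LD3_c0)) = (LP (LK LD1_c2 LD2_c5 LD3_c50)) :=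
  Lre_b IH (LK LD1_c4 LD2_c17 LD3_c0) (LK LD1_c2 LD2_c5 LD3_c50) Lrfl Lrfl
theorem f167705 : Led Lsl_bt (LP (LK LD1_c1 LD2_c2 LD3_c53)) = (LP (LK LD1_c2 LD2_c11 LD3_c42)) :=
  Lre_b IH (LK LD1_c1 LD2_c2 LD3_c53) (LK LD1_c2 LD2_c11 LD3_c42) Lrfl Lrfl
theorem f167706 : Led Lsl_df (LP (LK LD1_c4 LD2_c17 LD3_c0)) = (LP (LK LD1_c2 LD2_c11 LD3_c42)) :=
  Lgr Lrot12 (Lpr_bt (f167704 IH) (Lpr_dt (K12.f167646 IH) (Lpr_bt (f167705 IH) (Lpn (LP (LK LD1_c2 LD2_c11 LD3_c42))))))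
theorem f236266 : Led Lsl_et (LP (LK LD1_c4 LD2_c9 LD3_c12)) = (LP (LK LD1_c2 LD2_c1 LD3_c58)) :=
  Lre_e IH (LK LD1_c4 LD2_c9 LD3_c12) (LK LD1_c2 LD2_c1 LD3_c58) Lrfl Lrfl
theorem f236267 : Led Lsl_dt (LP (LK LD1_c4 LD2_c9 LD3_c12)) = (LP (LK LD1_c2 LD2_c1 LD3_c57)) :=
  Lre_d IH (LK LD1_c4 LD2_c9 LD3_c12) (LK LD1_c2 LD2_c1 LD3_c57) Lrfl Lrfl
theorem f609 : Led Lsl_gt (LP (LK LD1_c4 LD2_c9 LD3_c11)) = (LP (LK LD1_c2 LD2_c1 LD3_c57)) :=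
  Lre_g IH (LK LD1_c4 LD2_c9 LD3_c11) (LK LD1_c2 LD2_c1 LD3_c57) Lrfl Lrfl
theorem f45606 : Led Lsl_et (LP (LK LD1_c4 LD2_c14 LD3_c58)) = (LP (LK LD1_c2 LD2_c4 LD3_c52)) :=
  Lre_e IH (LK LD1_c4 LD2_c14 LD3_c58) (LK LD1_c2 LD2_c4 LD3_c52) Lrfl Lrfl
theorem f236268 : Led Lsl_dt (LP (LK LD1_c4 LD2_c14 LD3_c58)) = (LP (LK LD1_c4 LD2_c9 LD3_c11)) :=
  Lgr Lrot136 (Lpr_et (f45606 IH) (Lpe (K13.f45188 IH) (Lpe (K11.f54362 IH) (Lpr_dt (K10.f33436 IH) (Lpe (K10.f188919 IH) (Lpe (K12.f167731 IH) (Lpr_gf (K13.f236254 IH) (Lpe (f236266 IH) (Lpr_dt (f236267 IH) (Lpe (f609 IH) (Lpn (LP (LK LD1_c4 LD2_c9 LD3_c11)))))))))))))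
theorem f231680 : Led Lsl_gt (LP (LK LD1_c8 LD2_c28 LD3_c50)) = (LP (LK LD1_c4 LD2_c14 LD3_c58)) :=
  Lre_g IH (LK LD1_c8 LD2_c28 LD3_c50) (LK LD1_c4 LD2_c14 LD3_c58) Lrfl Lrfl
theorem f236270 : Led Lsl_et (LP (LK LD1_c15 LD2_c55 LD3_c26)) = (LP (LK LD1_c8 LD2_c28 LD3_c50)) :=
  Lre_e IH (LK LD1_c15 LD2_c55 LD3_c26) (LK LD1_c8 LD2_c28 LD3_c50) Lrfl Lrfl
theorem f236271 : Led Lsl_df (LP (LK LD1_c8 LD2_c33 LD3_c24)) = (LP (LK LD1_c15 LD2_c55 LD3_c26)) :=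
  Lgr Lrot168 (Lpe (f167741 IH) (Lpr_df (f167706 IH) (Lpr_et (K12.f167730 IH) (Lpr_gf (K13.f236254 IH) (Lpe (f236266 IH) (Lpr_dt (f236267 IH) (Lpe (f609 IH) (Lpe (f236268 IH) (Lpe (f231680 IH) (Lpe (f236270 IH) (Lpn (LP (LK LD1_c15 LD2_c55 LD3_c26)))))))))))))
theorem f236276 : Led Lsl_et (LP (LK LD1_c8 LD2_c28 LD3_c50)) = (LP (LK LD1_c15 LD2_c55 LD3_c26)) :=
  Lre_e IH (LK LD1_c8 LD2_c28 LD3_c50) (LK LD1_c15 LD2_c55 LD3_c26) Lrfl Lrfl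
theorem f283167 : Led Lsl_dt (LP (LK LD1_c8 LD2_c32 LD3_c35)) = (LP (LK LD1_c8 LD2_c28 LD3_c50)) :=
  Lgr Lrot77 (Lpe (f48967 IH) (Lpe (f566 IH) (Lpr_ef (f283163 IH) (Lpr_df (f236271 IH) (Lpe (f236276 IH) (Lpn (LP (LK LD1_c8 LD2_c28 LD3_c50))))))))
theorem f571 : Led Lsl_et (LP (LK LD1_c8 LD2_c32 LD3_c35)) = (LP (LK LD1_c4 LD2_c16 LD3_c39)) :=
  Lre_e IH (LK LD1_c8 LD2_c32 LD3_c35) (LK LD1_c4 LD2_c16 LD3_c39) Lrfl Lrfl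
theorem f236287 : Led Lsl_df (LP (LK LD1_c4 LD2_c14 LD3_c58)) = (LP (LK LD1_c4 LD2_c9 LD3_c11)) :=
  Lgr Lrot38 (Lpr_dt (f236268 IH) (Lpn (LP (LK LD1_c4 LD2_c9 LD3_c11))))
theorem f283171 : Led Lsl_ef (LP (LK LD1_c4 LD2_c15 LD3_c21)) = (LP (LK LD1_c4 LD2_c9 LD3_c11)) :=
  Lgr Lrot167 (Lpr_gt (f49035 IH) (Lpr_dt (K10.f1331 IH) (Lpr_gt (K10.f27368 IH) (Lpe (K11.f27361 IH) (Lpr_et (K1.f557 IH) (Lpr_gt (f561 IH) (Lpe (f571 IH) (Lpr_dt (f283167 IH) (Lpr_gt (f231680 IH) (Lpr_df (f236287 IH) (Lpn (LP (LK LD1_c4 LD2_c9 LD3_c11)))))))))))))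
theorem f236292 : Led Lsl_ct (LP (LK LD1_c8 LD2_c18 LD3_c25)) = (LP (LK LD1_c4 LD2_c9 LD3_c11)) :=
  Lre_c IH (LK LD1_c8 LD2_c18 LD3_c25) (LK LD1_c4 LD2_c9 LD3_c11) Lrfl Lrfl
theorem f283175 : Led Lsl_et (LP (LK LD1_c8 LD2_c29 LD3_c35)) = (LP (LK LD1_c8 LD2_c18 LD3_c25)) :=
  Lgr Lrot158 (Lpe (f282694 IH) (Lpr_ef (f283171 IH) (Lpe (f236292 IH) (Lpn (LP (LK LD1_c8 LD2_c18 LD3_c25))))))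
theorem f271662 : Led Lsl_et (LP (LK LD1_c16 LD2_c1 LD3_c10)) = (LP (LK LD1_c8 LD2_c31 LD3_c59)) :=
  Lre_e IH (LK LD1_c16 LD2_c1 LD3_c10) (LK LD1_c8 LD2_c31 LD3_c59) Lrfl Lrfl
theorem f236285 : Led Lsl_dt (LP (LK LD1_c8 LD2_c18 LD3_c25)) = (LP (LK LD1_c15 LD2_c37 LD3_c26)) :=
  Lre_d IH (LK LD1_c8 LD2_c18 LD3_c25) (LK LD1_c15 LD2_c37 LD3_c26) Lrfl Lrfl
theorem f283181 : Led Lsl_et (LP (LK LD1_c15 LD2_c37 LD3_c26)) = (LP (LK LD1_c25 LD2_c32 LD3_c17)) :=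
  Lre_e IH (LK LD1_c15 LD2_c37 LD3_c26) (LK LD1_c25 LD2_c32 LD3_c17) Lrfl Lrfl
theorem f283182 : Led Lsl_df (LP (LK LD1_c16 LD2_c1 LD3_c10)) = (LP (LK LD1_c25 LD2_c32 LD3_c17)) :=
  Lgr Lrot70 (Lpr_et (f271662 IH) (Lpe (f282701 IH) (Lpr_et (f283175 IH) (Lpr_dt (f236285 IH) (Lpr_et (f283181 IH) (Lpn (LP (LK LD1_c25 LD2_c32 LD3_c17))))))))
theorem f283190 : Led Lsl_dt (LP (LK LD1_c16 LD2_c1 LD3_c10)) = (LP (LK LD1_c25 LD2_c32 LD3_c17)) :=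
  Lgr Lrot42 (Lpr_df (f283182 IH) (Lpn (LP (LK LD1_c25 LD2_c32 LD3_c17))))
theorem f271713 : Led Lsl_et (LP (LK LD1_c8 LD2_c31 LD3_c59)) = (LP (LK LD1_c16 LD2_c1 LD3_c10)) :=
  Lre_e IH (LK LD1_c8 LD2_c31 LD3_c59) (LK LD1_c16 LD2_c1 LD3_c10) Lrfl Lrfl
theorem f283188 : Led Lsl_et (LP (LK LD1_c25 LD2_c32 LD3_c17)) = (LP (LK LD1_c15 LD2_c37 LD3_c26)) :=
  Lre_e IH (LK LD1_c25 LD2_c32 LD3_c17) (LK LD1_c15 LD2_c37 LD3_c26) Lrfl Lrfl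
theorem f236293 : Led Lsl_dt (LP (LK LD1_c15 LD2_c37 LD3_c26)) = (LP (LK LD1_c8 LD2_c18 LD3_c25)) :=
  Lre_d IH (LK LD1_c15 LD2_c37 LD3_c26) (LK LD1_c8 LD2_c18 LD3_c25) Lrfl Lrfl
theorem f283184 : Led Lsl_ef (LP (LK LD1_c8 LD2_c29 LD3_c35)) = (LP (LK LD1_c8 LD2_c18 LD3_c25)) :=
  Lgr Lrot88 (Lpr_et (f283175 IH) (Lpn (LP (LK LD1_c8 LD2_c18 LD3_c25))))
theorem f283192 : Led Lsl_df (LP (LK LD1_c8 LD2_c31 LD3_c59)) = (LP (LK LD1_c8 LD2_c29 LD3_c35)) :=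
  Lgr Lrot70 (Lpr_et (f271713 IH) (Lpr_dt (f283190 IH) (Lpr_et (f283188 IH) (Lpr_dt (f236293 IH) (Lpe (f283184 IH) (Lpn (LP (LK LD1_c8 LD2_c29 LD3_c35))))))))
theorem f1007 : Led Lsl_dt (LP (LK LD1_c0 LD2_c59 LD3_c48)) = (LP (LK LD1_c2 LD2_c5 LD3_c34)) :=
  Lre_d IH (LK LD1_c0 LD2_c59 LD3_c48) (LK LD1_c2 LD2_c5 LD3_c34) Lrfl Lrfl
theorem f167290 : Led Lsl_dt (LP (LK LD1_c4 LD2_c16 LD3_c27)) = (LP (LK LD1_c2 LD2_c5 LD3_c32)) :=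
  Lre_d IH (LK LD1_c4 LD2_c16 LD3_c27) (LK LD1_c2 LD2_c5 LD3_c32) Lrfl Lrfl
theorem f271665 : Led Lsl_gf (LP (LK LD1_c4 LD2_c16 LD3_c27)) = (LP (LK LD1_c8 LD2_c31 LD3_c59)) :=
  Lgr Lrot144 (Lpr_dt (f167290 IH) (Lpr_gt (K9.f1040 IH) (Lpr_dt (f1007 IH) (Lpe (K16.f188958 IH) (Lpr_df (K12.f221054 IH) (Lpe (K12.f220877 IH) (Lpe (K16.f174992 IH) (Lpe (f174993 IH) (Lpr_cf (f271647 IH) (Lpn (LP (LK LD1_c8 LD2_c31 LD3_c59))))))))))))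
theorem f218172 : Led Lsl_ct (LP (LK LD1_c4 LD2_c16 LD3_c27)) = (LP (LK LD1_c8 LD2_c26 LD3_c50)) :=
  Lgr Lrot7 (Lpe (K16.f52210 IH) (Lpe (K9.f52209 IH) (Lpe (K12.f53412 IH) (Lpe (K13.f875 IH) (Lpe (K13.f188944 IH) (Lpr_gt (K16.f189063 IH) (Lpr_dt (K12.f33438 IH) (Lpr_gt (K12.f218138 IH) (Lpr_dt (K16.f188613 IH) (Lpn (LP (LK LD1_c8 LD2_c26 LD3_c50))))))))))))
theorem f187233 : Led Lsl_dt (LP (LK LD1_c4 LD2_c29 LD3_c10)) = (LP (LK LD1_c2 LD2_c11 LD3_c41)) :=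
  Lre_d IH (LK LD1_c4 LD2_c29 LD3_c10) (LK LD1_c2 LD2_c11 LD3_c41) Lrfl Lrfl
theorem f278032 : Led Lsl_df (LP (LK LD1_c10 LD2_c19 LD3_c26)) = (LP (LK LD1_c5 LD2_c27 LD3_c36)) :=
  Lgr Lrot162 (Lpe (K16.f278030 IH) (Lpe (K16.f51928 IH) (Lpe (K16.f52006 IH) (Lpe (K16.f263705 IH) (Lpr_dt (f187233 IH) (Lpr_gt (K16.f179772 IH) (Lpe (K16.f266471 IH) (Lpr_gt (K15.f266473 IH) (Lpr_ct (K16.f278013 IH) (Lpn (LP (LK LD1_c5 LD2_c27 LD3_c36))))))))))))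
theorem f282833 : Led Lsl_gf (LP (LK LD1_c5 LD2_c27 LD3_c46)) = (LP (LK LD1_c8 LD2_c26 LD3_c50)) :=
  Lgr Lrot144 (Lpr_dt (f244853 IH) (Lpr_gt (f282826 IH) (Lpe (f278032 IH) (Lpe (K16.f278030 IH) (Lpr_df (K16.f236222 IH) (Lpe (K16.f178516 IH) (Lpe (K16.f178843 IH) (Lpe (K16.f250636 IH) (Lpr_cf (K16.f218174 IH) (Lpn (LP (LK LD1_c8 LD2_c26 LD3_c50))))))))))))
theorem f262929 : Led Lsl_ct (LP (LK LD1_c5 LD2_c27 LD3_c46)) = (LP (LK LD1_c8 LD2_c30 LD3_c21)) :=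
  Lgr Lrot59 (Lpr_cf (f262909 IH) (Lpn (LP (LK LD1_c8 LD2_c30 LD3_c21))))
theorem f171168 : Led Lsl_dt (LP (LK LD1_c2 LD2_c23 LD3_c20)) = (LP (LK LD1_c1 LD2_c8 LD3_c47)) :=
  Lre_d IH (LK LD1_c2 LD2_c23 LD3_c20) (LK LD1_c1 LD2_c8 LD3_c47) Lrfl Lrfl
theorem f171169 : Led Lsl_ct (LP (LK LD1_c4 LD2_c51 LD3_c1)) = (LP (LK LD1_c2 LD2_c23 LD3_c20)) :=
  Lre_c IH (LK LD1_c4 LD2_c51 LD3_c1) (LK LD1_c2 LD2_c23 LD3_c20) Lrfl Lrfl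
theorem f282710 : Led Lsl_gt (LP (LK LD1_c8 LD2_c29 LD3_c35)) = (LP (LK LD1_c4 LD2_c51 LD3_c1)) :=
  Lgr Lrot150 (Lpe (f282694 IH) (Lpr_gf (f282708 IH) (Lpe (K13.f27371 IH) (Lpr_gt (K10.f785 IH) (Lpr_ct (K9.f48248 IH) (Lpr_gt (K9.f45094 IH) (Lpr_ct (K10.f171166 IH) (Lpe (f171168 IH) (Lpe (f171169 IH) (Lpn (LP (LK LD1_c4 LD2_c51 LD3_c1))))))))))))
theorem f283201 : Led Lsl_gf (LP (LK LD1_c4 LD2_c19 LD3_c30)) = (LP (LK LD1_c2 LD2_c23 LD3_c20)) :=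
  Lgr Lrot104 (Lpe (K15.f243272 IH) (Lpe (K16.f243404 IH) (Lpe (f262929 IH) (Lpr_gf (f282833 IH) (Lpe (f218172 IH) (Lpr_gf (f271665 IH) (Lpr_df (f283192 IH) (Lpr_gt (f282710 IH) (Lpr_ct (f171169 IH) (Lpn (LP (LK LD1_c2 LD2_c23 LD3_c20))))))))))))
theorem f246355 : Led Lsl_bt (LP (LK LD1_c0 LD2_c59 LD3_c44)) = (LP (LK LD1_c2 LD2_c5 LD3_c18)) :=
  Lre_b IH (LK LD1_c0 LD2_c59 LD3_c44) (LK LD1_c2 LD2_c5 LD3_c18) Lrfl Lrfl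
theorem f179691 : Led Lsl_gt (LP (LK LD1_c2 LD2_c5 LD3_c18)) = (LP (LK LD1_c4 LD2_c15 LD3_c53)) :=
  Lre_g IH (LK LD1_c2 LD2_c5 LD3_c18) (LK LD1_c4 LD2_c15 LD3_c53) Lrfl Lrfl
theorem f232923 : Led Lsl_bt (LP (LK LD1_c1 LD2_c8 LD3_c49)) = (LP (LK LD1_c2 LD2_c23 LD3_c20)) :=
  Lre_b IH (LK LD1_c1 LD2_c8 LD3_c49) (LK LD1_c2 LD2_c23 LD3_c20) Lrfl Lrfl
theorem f233082 : Led Lsl_ct (LP (LK LD1_c4 LD2_c8 LD3_c28)) = (LP (LK LD1_c4 LD2_c51 LD3_c11)) :=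
  Lgr Lrot8 (Lpr_gt (K13.f167344 IH) (Lpr_dt (K12.f167336 IH) (Lpr_gt (K13.f228932 IH) (Lpr_dt (K13.f29142 IH) (Lpe (K11.f186991 IH) (Lpr_df (K13.f233004 IH) (Lpe (K13.f232918 IH) (Lpe (K13.f232523 IH) (Lpe (K13.f186926 IH) (Lpn (LP (LK LD1_c4 LD2_c51 LD3_c11))))))))))))
theorem f283216 : Led Lsl_bf (LP (LK LD1_c4 LD2_c15 LD3_c53)) = (LP (LK LD1_c4 LD2_c8 LD3_c28)) :=
  Lgr Lrot34 (Lpe (f179691 IH) (Lpe (f246355 IH) (Lpr_ct (K14.f53430 IH) (Lpr_gf (K16.f262772 IH) (Lpr_cf (K15.f243272 IH) (Lpr_gf (f283201 IH) (Lpe (f232923 IH) (Lpr_ct (K13.f272 IH) (Lpe (K13.f186926 IH) (Lpe (f233082 IH) (Lpn (LP (LK LD1_c4 LD2_c8 LD3_c28)))))))))))))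
theorem f179614 : Led Lsl_bt (LP (LK LD1_c2 LD2_c6 LD3_c39)) = (LP (LK LD1_c4 LD2_c18 LD3_c42)) :=
  Lre_b IH (LK LD1_c2 LD2_c6 LD3_c39) (LK LD1_c4 LD2_c18 LD3_c42) Lrfl Lrfl
theorem f267594 : Led Lsl_gf (LP (LK LD1_c4 LD2_c18 LD3_c43)) = (LP (LK LD1_c7 LD2_c55 LD3_c30)) :=
  Lgr Lrot126 (Lpe (K13.f179602 IH) (Lpr_bt (f179614 IH) (Lpr_gt (K15.f267585 IH) (Lpr_ct (K15.f229619 IH) (Lpe (K15.f246813 IH) (Lpe (K15.f219262 IH) (Lpr_bt (K15.f236940 IH) (Lpr_gt (K13.f229466 IH) (Lpe (K15.f229896 IH) (Lpr_ct (K15.f229637 IH) (Lpn (LP (LK LD1_c7 LD2_c55 LD3_c30)))))))))))))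
theorem f283225 : Led Lsl_gt (LP (LK LD1_c4 LD2_c15 LD3_c53)) = (LP (LK LD1_c3 LD2_c56 LD3_c56)) :=
  Lgr Lrot82 (Lpr_bf (f283216 IH) (Lpr_ct (f233082 IH) (Lpr_gf (K13.f233380 IH) (Lpe (K13.f29186 IH) (Lpr_bt (K14.f232306 IH) (Lpe (K15.f267585 IH) (Lpe (f179614 IH) (Lpr_ct (K13.f179602 IH) (Lpr_gf (f267594 IH) (Lpe (K15.f229637 IH) (Lpn (LP (LK LD1_c3 LD2_c56 LD3_c56)))))))))))))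
theorem f179615 : Led Lsl_ct (LP (LK LD1_c4 LD2_c18 LD3_c43)) = (LP (LK LD1_c2 LD2_c6 LD3_c39)) :=
  Lre_c IH (LK LD1_c4 LD2_c18 LD3_c43) (LK LD1_c2 LD2_c6 LD3_c39) Lrfl Lrfl
theorem f229580 : Led Lsl_dt (LP (LK LD1_c7 LD2_c56 LD3_c5)) = (LP (LK LD1_c4 LD2_c9 LD3_c1)) :=
  Lgr Lrot42 (Lpr_df (K14.f229500 IH) (Lpn (LP (LK LD1_c4 LD2_c9 LD3_c1))))
theorem f257972 : Led Lsl_dt (LP (LK LD1_c2 LD2_c6 LD3_c39)) = (LP (LK LD1_c2 LD2_c3 LD3_c59)) :=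
  Lgr Lrot105 (Lpe (K13.f171505 IH) (Lpe (K14.f171499 IH) (Lpe (K16.f232207 IH) (Lpr_cf (K10.f44491 IH) (Lpe (K12.f229485 IH) (Lpr_dt (K14.f229498 IH) (Lpr_gt (K14.f229499 IH) (Lpr_dt (f229580 IH) (Lpr_cf (K15.f257964 IH) (Lpn (LP (LK LD1_c2 LD2_c3 LD3_c59))))))))))))
theorem f257968 : Led Lsl_ct (LP (LK LD1_c4 LD2_c9 LD3_c1)) = (LP (LK LD1_c2 LD2_c3 LD3_c59)) :=
  Lgr Lrot59 (Lpr_cf (K15.f257964 IH) (Lpn (LP (LK LD1_c2 LD2_c3 LD3_c59))))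
theorem f237320 : Led Lsl_gf (LP (LK LD1_c0 LD2_c27 LD3_c4)) = (LP (LK LD1_c0 LD2_c56 LD3_c36)) :=
  Lgr Lrot143 (Lpe (K11.f201256 IH) (Lpe (K13.f164975 IH) (Lpe (K13.f164908 IH) (Lpe (K13.f237272 IH) (Lpe (K13.f29612 IH) (Lpr_gf (K13.f237289 IH) (Lpe (K1.f38967 IH) (Lpr_gt (K13.f237318 IH) (Lpe (K13.f237313 IH) (Lpn (LP (LK LD1_c0 LD2_c56 LD3_c36))))))))))))
theorem f255093 : Led Lsl_gf (LP (LK LD1_c0 LD2_c56 LD3_c36)) = (LP (LK LD1_c1 LD2_c0 LD3_c35)) :=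
  Lgr Lrot47 (Lpe (f237320 IH) (Lpr_af (K14.f255084 IH) (Lpe (K14.f255090 IH) (Lpn (LP (LK LD1_c1 LD2_c0 LD3_c35))))))
theorem f259253 : Led Lsl_gt (LP (LK LD1_c2 LD2_c45 LD3_c38)) = (LP (LK LD1_c4 LD2_c9 LD3_c1)) :=
  Lgr Lrot164 (Lpe (K15.f229242 IH) (Lpr_ct (K13.f229245 IH) (Lpr_gf (f255093 IH) (Lpe (K14.f253578 IH) (Lpe (K14.f253579 IH) (Lpr_bf (K14.f237768 IH) (Lpe (K14.f253187 IH) (Lpr_gf (K15.f259248 IH) (Lpe (K15.f190836 IH) (Lpr_bt (K14.f229577 IH) (Lpn (LP (LK LD1_c4 LD2_c9 LD3_c1)))))))))))))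
theorem f283229 : Led Lsl_df (LP (LK LD1_c4 LD2_c15 LD3_c53)) = (LP (LK LD1_c4 LD2_c53 LD3_c47)) :=
  Lgr Lrot155 (Lpr_gt (f283225 IH) (Lpr_ct (K15.f229637 IH) (Lpe (f267594 IH) (Lpr_ct (f179615 IH) (Lpr_dt (f257972 IH) (Lpe (f257968 IH) (Lpe (f259253 IH) (Lpe (K14.f256011 IH) (Lpr_gf (K14.f256015 IH) (Lpn (LP (LK LD1_c4 LD2_c53 LD3_c47))))))))))))
theorem f283233 : Led Lsl_et (LP (LK LD1_c4 LD2_c53 LD3_c47)) = (LP (LK LD1_c2 LD2_c37 LD3_c55)) :=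
  Lgr Lrot122 (Lpe (f283229 IH) (Lpr_gt (f283225 IH) (Lpe (K14.f229634 IH) (Lpr_et (K13.f229653 IH) (Lpr_gt (K15.f256272 IH) (Lpe (K15.f240259 IH) (Lpe (K15.f257598 IH) (Lpe (K14.f184829 IH) (Lpr_et (K15.f257037 IH) (Lpe (K16.f274460 IH) (Lpn (LP (LK LD1_c2 LD2_c37 LD3_c55)))))))))))))
theorem f283241 : Led Lsl_ef (LP (LK LD1_c4 LD2_c53 LD3_c47)) = (LP (LK LD1_c2 LD2_c37 LD3_c55)) :=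
  Lgr Lrot88 (Lpr_et (f283233 IH) (Lpn (LP (LK LD1_c2 LD2_c37 LD3_c55))))
theorem f200613 : Led Lsl_ct (LP (LK LD1_c4 LD2_c53 LD3_c47)) = (LP (LK LD1_c2 LD2_c24 LD3_c42)) :=
  Lre_c IH (LK LD1_c4 LD2_c53 LD3_c47) (LK LD1_c2 LD2_c24 LD3_c42) Lrfl Lrfl
theorem f283245 : Led Lsl_et (LP (LK LD1_c2 LD2_c24 LD3_c42)) = (LP (LK LD1_c1 LD2_c16 LD3_c1)) :=
  Lgr Lrot158 (Lpe (f200613 IH) (Lpr_ef (f283241 IH) (Lpe (K16.f256115 IH) (Lpn (LP (LK LD1_c1 LD2_c16 LD3_c1))))))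
theorem f255988 : Led Lsl_ft (LP (LK LD1_c0 LD2_c35 LD3_c17)) = (LP (LK LD1_c1 LD2_c16 LD3_c11)) :=
  Lre_f IH (LK LD1_c0 LD2_c35 LD3_c17) (LK LD1_c1 LD2_c16 LD3_c11) Lrfl Lrfl
theorem f255989 : Led Lsl_af (LP (LK LD1_c2 LD2_c24 LD3_c42)) = (LP (LK LD1_c1 LD2_c16 LD3_c11)) :=
  Lgr Lrot31 (Lpe (K14.f6919 IH) (Lpr_gf (K14.f255986 IH) (Lpr_ft (f255988 IH) (Lpn (LP (LK LD1_c1 LD2_c16 LD3_c11))))))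
theorem f283253 : Led Lsl_ef (LP (LK LD1_c1 LD2_c16 LD3_c11)) = (LP (LK LD1_c2 LD2_c36 LD3_c36)) :=
  Lgr Lrot20 (Lpe (f255989 IH) (Lpr_et (f283245 IH) (Lpe (K16.f256091 IH) (Lpn (LP (LK LD1_c2 LD2_c36 LD3_c36))))))
theorem f41823 : Led Lsl_gt (LP (LK LD1_c2 LD2_c58 LD3_c25)) = (LP (LK LD1_c1 LD2_c25 LD3_c7)) :=
  Lre_g IH (LK LD1_c2 LD2_c58 LD3_c25) (LK LD1_c1 LD2_c25 LD3_c7) Lrfl Lrfl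
theorem f251679 : Led Lsl_df (LP (LK LD1_c2 LD2_c58 LD3_c25)) = (LP (LK LD1_c2 LD2_c36 LD3_c36)) :=
  Lgr Lrot153 (Lpr_gt (f41823 IH) (Lpr_dt (K10.f41818 IH) (Lpe (K10.f187782 IH) (Lpe (K10.f47884 IH) (Lpe (K10.f47901 IH) (Lpe (K14.f222000 IH) (Lpr_gf (K14.f251677 IH) (Lpr_cf (K14.f230549 IH) (Lpr_gt (K16.f249339 IH) (Lpn (LP (LK LD1_c2 LD2_c36 LD3_c36))))))))))))
theorem f283266 : Led Lsl_gt (LP (LK LD1_c1 LD2_c16 LD3_c11)) = (LP (LK LD1_c1 LD2_c9 LD3_c11)) :=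
  Lgr Lrot137 (Lpr_ef (f283253 IH) (Lpe (f251679 IH) (Lpe (K10.f41777 IH) (Lpe (K1.f41745 IH) (Lpr_et (K1.f41769 IH) (Lpe (K8.f47943 IH) (Lpe (K1.f29026 IH) (Lpr_dt (K11.f29022 IH) (Lpr_gf (K11.f200129 IH) (Lpr_df (K11.f170617 IH) (Lpn (LP (LK LD1_c1 LD2_c9 LD3_c11)))))))))))))
theorem f283272 : Led Lsl_ct (LP (LK LD1_c2 LD2_c38 LD3_c23)) = (LP (LK LD1_c1 LD2_c16 LD3_c11)) :=
  Lre_c IH (LK LD1_c2 LD2_c38 LD3_c23) (LK LD1_c1 LD2_c16 LD3_c11) Lrfl Lrfl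
theorem f166623 : Led Lsl_bt (LP (LK LD1_c0 LD2_c58 LD3_c60)) = (LP (LK LD1_c0 LD2_c26 LD3_c47)) :=
  Lre_b IH (LK LD1_c0 LD2_c58 LD3_c60) (LK LD1_c0 LD2_c26 LD3_c47) Lrfl Lrfl
theorem f283278 : Led Lsl_bt (LP (LK LD1_c2 LD2_c38 LD3_c23)) = (LP (LK LD1_c2 LD2_c24 LD3_c42)) :=
  Lgr Lrot92 (Lpr_ct (f283272 IH) (Lpr_gt (f283266 IH) (Lpe (K11.f200140 IH) (Lpr_bt (f166623 IH) (Lpe (K9.f170071 IH) (Lpr_ct (K9.f165220 IH) (Lpe (K9.f165218 IH) (Lpe (K0.f3064 IH) (Lpr_bt (K14.f6918 IH) (Lpr_gt (K14.f6919 IH) (Lpn (LP (LK LD1_c2 LD2_c24 LD3_c42)))))))))))))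
theorem f169149 : Led Lsl_ft (LP (LK LD1_c1 LD2_c16 LD3_c7)) = (LP (LK LD1_c2 LD2_c38 LD3_c23)) :=
  Lre_f IH (LK LD1_c1 LD2_c16 LD3_c7) (LK LD1_c2 LD2_c38 LD3_c23) Lrfl Lrfl
theorem f283286 : Led Lsl_ff (LP (LK LD1_c1 LD2_c15 LD3_c30)) = (LP (LK LD1_c2 LD2_c24 LD3_c42)) :=
  Lgr Lrot25 (Lpe (K14.f167822 IH) (Lpr_ft (f169149 IH) (Lpr_bt (f283278 IH) (Lpn (LP (LK LD1_c2 LD2_c24 LD3_c42))))))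
theorem f283294 : Led Lsl_ft (LP (LK LD1_c1 LD2_c15 LD3_c30)) = (LP (LK LD1_c2 LD2_c24 LD3_c42)) :=
  Lgr Lrot48 (Lpr_ff (f283286 IH) (Lpn (LP (LK LD1_c2 LD2_c24 LD3_c42))))
theorem f256116 : Led Lsl_ft (LP (LK LD1_c1 LD2_c16 LD3_c1)) = (LP (LK LD1_c0 LD2_c35 LD3_c13)) :=
  Lre_f IH (LK LD1_c1 LD2_c16 LD3_c1) (LK LD1_c0 LD2_c35 LD3_c13) Lrfl Lrfl
theorem f283302 : Led Lsl_ff (LP (LK LD1_c0 LD2_c34 LD3_c61)) = (LP (LK LD1_c0 LD2_c15 LD3_c48)) :=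
  Lgr Lrot72 (Lpr_et (K14.f167821 IH) (Lpr_ft (f283294 IH) (Lpr_et (f283245 IH) (Lpr_ft (f256116 IH) (Lpr_et (K1.f41433 IH) (Lpn (LP (LK LD1_c0 LD2_c15 LD3_c48))))))))
theorem f283310 : Led Lsl_at (LP (LK LD1_c0 LD2_c34 LD3_c61)) = (LP (LK LD1_c0 LD2_c15 LD3_c49)) :=
  Lgr Lrot26 (Lpr_ff (f283302 IH) (Lpr_gt (K1.f41432 IH) (Lpr_gt (K9.f41437 IH) (Lpn (LP (LK LD1_c0 LD2_c15 LD3_c49))))))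
theorem f283263 : Led Lsl_ft (LP (LK LD1_c1 LD2_c16 LD3_c11)) = (LP (LK LD1_c0 LD2_c35 LD3_c17)) :=
  Lre_f IH (LK LD1_c1 LD2_c16 LD3_c11) (LK LD1_c0 LD2_c35 LD3_c17) Lrfl Lrfl
theorem f274547 : Led Lsl_ff (LP (LK LD1_c2 LD2_c36 LD3_c36)) = (LP (LK LD1_c1 LD2_c15 LD3_c27)) :=
  Lgr Lrot52 (Lpr_at (K16.f256110 IH) (Lpr_gf (K16.f274545 IH) (Lpe (K15.f264902 IH) (Lpn (LP (LK LD1_c1 LD2_c15 LD3_c27))))))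
theorem f283264 : Led Lsl_ft (LP (LK LD1_c0 LD2_c15 LD3_c49)) = (LP (LK LD1_c0 LD2_c34 LD3_c60)) :=
  Lgr Lrot86 (Lpe (K14.f41438 IH) (Lpe (f283263 IH) (Lpr_ef (f283253 IH) (Lpr_ff (f274547 IH) (Lpe (K9.f42145 IH) (Lpn (LP (LK LD1_c0 LD2_c34 LD3_c60))))))))
theorem f283318 : Led Lsl_af (LP (LK LD1_c0 LD2_c15 LD3_c48)) = (LP (LK LD1_c0 LD2_c34 LD3_c60)) :=
  Lgr Lrot45 (Lpe (f283302 IH) (Lpr_at (f283310 IH) (Lpr_ft (f283264 IH) (Lpn (LP (LK LD1_c0 LD2_c34 LD3_c60))))))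
theorem f283326 : Led Lsl_at (LP (LK LD1_c0 LD2_c35 LD3_c13)) = (LP (LK LD1_c1 LD2_c15 LD3_c27)) :=
  Lgr Lrot80 (Lpe (K14.f184387 IH) (Lpr_af (f283318 IH) (Lpe (K9.f42134 IH) (Lpn (LP (LK LD1_c1 LD2_c15 LD3_c27))))))
theorem f283332 : Led Lsl_af (LP (LK LD1_c1 LD2_c16 LD3_c0)) = (LP (LK LD1_c1 LD2_c25 LD3_c5)) :=
  Lgr Lrot117 (Lpr_dt (K14.f42504 IH) (Lpr_at (f283326 IH) (Lpr_dt (K9.f42135 IH) (Lpn (LP (LK LD1_c1 LD2_c25 LD3_c5))))))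
theorem f283340 : Led Lsl_ft (LP (LK LD1_c2 LD2_c58 LD3_c25)) = (LP (LK LD1_c1 LD2_c25 LD3_c5)) :=
  Lgr Lrot2 (Lpr_gt (f41823 IH) (Lpe (K1.f42496 IH) (Lpr_af (f283332 IH) (Lpn (LP (LK LD1_c1 LD2_c25 LD3_c5))))))
theorem f283349 : Led Lsl_ff (LP (LK LD1_c2 LD2_c58 LD3_c25)) = (LP (LK LD1_c1 LD2_c25 LD3_c5)) :=
  Lgr Lrot3 (Lpr_ft (f283340 IH) (Lpn (LP (LK LD1_c1 LD2_c25 LD3_c5))))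
theorem f283360 : Led Lsl_at (LP (LK LD1_c2 LD2_c58 LD3_c25)) = (LP (LK LD1_c1 LD2_c25 LD3_c4)) :=
  Lgr Lrot26 (Lpr_ff (f283349 IH) (Lpr_gt (K9.f42114 IH) (Lpr_gt (K10.f177473 IH) (Lpn (LP (LK LD1_c1 LD2_c25 LD3_c4))))))
theorem f283334 : Led Lsl_at (LP (LK LD1_c1 LD2_c16 LD3_c0)) = (LP (LK LD1_c1 LD2_c25 LD3_c5)) :=
  Lgr Lrot100 (Lpr_af (f283332 IH) (Lpn (LP (LK LD1_c1 LD2_c25 LD3_c5))))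
theorem f283370 : Led Lsl_ff (LP (LK LD1_c1 LD2_c16 LD3_c0)) = (LP (LK LD1_c1 LD2_c25 LD3_c4)) :=
  Lgr Lrot30 (Lpr_at (f283334 IH) (Lpe (f283349 IH) (Lpr_at (f283360 IH) (Lpn (LP (LK LD1_c1 LD2_c25 LD3_c4))))))
theorem f42152 : Led Lsl_dt (LP (LK LD1_c6 LD2_c5 LD3_c4)) = (LP (LK LD1_c2 LD2_c58 LD3_c43)) :=
  Lre_d IH (LK LD1_c6 LD2_c5 LD3_c4) (LK LD1_c2 LD2_c58 LD3_c43) Lrfl Lrfl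
theorem f216292 : Led Lsl_ct (LP (LK LD1_c2 LD2_c58 LD3_c40)) = (LP (LK LD1_c1 LD2_c25 LD3_c4)) :=
  Lre_c IH (LK LD1_c2 LD2_c58 LD3_c40) (LK LD1_c1 LD2_c25 LD3_c4) Lrfl Lrfl
theorem f274470 : Led Lsl_df (LP (LK LD1_c1 LD2_c16 LD3_c1)) = (LP (LK LD1_c1 LD2_c25 LD3_c4)) :=
  Lgr Lrot162 (Lpe (K16.f256113 IH) (Lpr_gf (K16.f274460 IH) (Lpe (K10.f184871 IH) (Lpr_gf (K15.f260277 IH) (Lpr_dt (K12.f214054 IH) (Lpe (K12.f214070 IH) (Lpr_ct (K10.f190197 IH) (Lpr_gt (K10.f190189 IH) (Lpr_ct (f216292 IH) (Lpn (LP (LK LD1_c1 LD2_c25 LD3_c4))))))))))))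
theorem f274464 : Led Lsl_dt (LP (LK LD1_c2 LD2_c37 LD3_c55)) = (LP (LK LD1_c4 LD2_c15 LD3_c4)) :=
  Lgr Lrot57 (Lpr_gf (K16.f274460 IH) (Lpe (K10.f184871 IH) (Lpr_gt (K15.f260273 IH) (Lpr_dt (K14.f256082 IH) (Lpe (K11.f191175 IH) (Lpr_dt (K10.f28689 IH) (Lpr_cf (K0.f28670 IH) (Lpe (K10.f28684 IH) (Lpr_gf (K13.f54289 IH) (Lpn (LP (LK LD1_c4 LD2_c15 LD3_c4))))))))))))
theorem f54967 : Led Lsl_dt (LP (LK LD1_c4 LD2_c6 LD3_c38)) = (LP (LK LD1_c8 LD2_c13 LD3_c51)) :=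
  Lre_d IH (LK LD1_c4 LD2_c6 LD3_c38) (LK LD1_c8 LD2_c13 LD3_c51) Lrfl Lrfl
theorem f283383 : Led Lsl_cf (LP (LK LD1_c6 LD2_c5 LD3_c4)) = (LP (LK LD1_c8 LD2_c13 LD3_c51)) :=
  Lgr Lrot161 (Lpr_dt (f42152 IH) (Lpr_ct (K14.f42151 IH) (Lpe (f283334 IH) (Lpr_ff (f283370 IH) (Lpe (f274470 IH) (Lpr_ct (K16.f256115 IH) (Lpr_dt (f274464 IH) (Lpe (K13.f194240 IH) (Lpr_dt (f54967 IH) (Lpn (LP (LK LD1_c8 LD2_c13 LD3_c51))))))))))))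
theorem f283386 : Led Lsl_ct (LP (LK LD1_c6 LD2_c5 LD3_c4)) = (LP (LK LD1_c8 LD2_c13 LD3_c51)) :=
  Lgr Lrot59 (Lpr_cf (f283383 IH) (Lpn (LP (LK LD1_c8 LD2_c13 LD3_c51))))
theorem f42142 : Led Lsl_dt (LP (LK LD1_c2 LD2_c58 LD3_c43)) = (LP (LK LD1_c6 LD2_c5 LD3_c4)) :=
  Lre_d IH (LK LD1_c2 LD2_c58 LD3_c43) (LK LD1_c6 LD2_c5 LD3_c4) Lrfl Lrfl
theorem f190116 : Led Lsl_ct (LP (LK LD1_c6 LD2_c4 LD3_c26)) = (LP (LK LD1_c2 LD2_c58 LD3_c25)) :=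
  Lre_c IH (LK LD1_c6 LD2_c4 LD3_c26) (LK LD1_c2 LD2_c58 LD3_c25) Lrfl Lrfl
theorem f283344 : Led Lsl_ff (LP (LK LD1_c6 LD2_c4 LD3_c26)) = (LP (LK LD1_c2 LD2_c58 LD3_c43)) :=
  Lgr Lrot23 (Lpr_ct (f190116 IH) (Lpr_ft (f283340 IH) (Lpr_ct (K10.f42141 IH) (Lpn (LP (LK LD1_c2 LD2_c58 LD3_c43))))))
theorem f194248 : Led Lsl_dt (LP (LK LD1_c8 LD2_c13 LD3_c51)) = (LP (LK LD1_c4 LD2_c6 LD3_c38)) :=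
  Lre_d IH (LK LD1_c8 LD2_c13 LD3_c51) (LK LD1_c4 LD2_c6 LD3_c38) Lrfl Lrfl
theorem f274468 : Led Lsl_dt (LP (LK LD1_c1 LD2_c16 LD3_c1)) = (LP (LK LD1_c1 LD2_c25 LD3_c4)) :=
  Lgr Lrot27 (Lpe (K16.f256113 IH) (Lpr_gf (K16.f274460 IH) (Lpe (K10.f184871 IH) (Lpr_gf (K15.f260277 IH) (Lpe (K12.f214004 IH) (Lpe (K12.f214070 IH) (Lpr_ct (K10.f190197 IH) (Lpr_gt (K10.f190189 IH) (Lpr_ct (f216292 IH) (Lpn (LP (LK LD1_c1 LD2_c25 LD3_c4))))))))))))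
theorem f283432 : Led Lsl_at (LP (LK LD1_c6 LD2_c4 LD3_c26)) = (LP (LK LD1_c2 LD2_c58 LD3_c40)) :=
  Lgr Lrot33 (Lpr_ff (f283344 IH) (Lpr_dt (f42142 IH) (Lpr_ct (f283386 IH) (Lpr_dt (f194248 IH) (Lpr_ct (K16.f194243 IH) (Lpe (K16.f274537 IH) (Lpr_ct (K16.f256113 IH) (Lpr_dt (f274468 IH) (Lpr_ct (K10.f177478 IH) (Lpn (LP (LK LD1_c2 LD2_c58 LD3_c40))))))))))))
theorem f283336 : Led Lsl_at (LP (LK LD1_c2 LD2_c38 LD3_c8)) = (LP (LK LD1_c2 LD2_c58 LD3_c43)) :=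
  Lgr Lrot107 (Lpe (K10.f42498 IH) (Lpr_af (f283332 IH) (Lpe (K14.f42151 IH) (Lpn (LP (LK LD1_c2 LD2_c58 LD3_c43))))))
theorem f283437 : Led Lsl_ff (LP (LK LD1_c2 LD2_c38 LD3_c8)) = (LP (LK LD1_c2 LD2_c58 LD3_c40)) :=
  Lgr Lrot30 (Lpr_at (f283336 IH) (Lpe (f283344 IH) (Lpr_at (f283432 IH) (Lpn (LP (LK LD1_c2 LD2_c58 LD3_c40))))))
theorem f256896 : Led Lsl_et (LP (LK LD1_c2 LD2_c38 LD3_c8)) = (LP (LK LD1_c5 LD2_c23 LD3_c17)) :=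
  Lre_e IH (LK LD1_c2 LD2_c38 LD3_c8) (LK LD1_c5 LD2_c23 LD3_c17) Lrfl Lrfl
theorem f283439 : Led Lsl_ft (LP (LK LD1_c5 LD2_c23 LD3_c17)) = (LP (LK LD1_c10 LD2_c37 LD3_c8)) :=
  Lre_f IH (LK LD1_c5 LD2_c23 LD3_c17) (LK LD1_c10 LD2_c37 LD3_c8) Lrfl Lrfl
theorem f283440 : Led Lsl_et (LP (LK LD1_c6 LD2_c4 LD3_c60)) = (LP (LK LD1_c2 LD2_c58 LD3_c40)) :=
  Lre_e IH (LK LD1_c6 LD2_c4 LD3_c60) (LK LD1_c2 LD2_c58 LD3_c40) Lrfl Lrfl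
theorem f283441 : Led Lsl_ft (LP (LK LD1_c11 LD2_c53 LD3_c21)) = (LP (LK LD1_c6 LD2_c4 LD3_c60)) :=
  Lre_f IH (LK LD1_c11 LD2_c53 LD3_c21) (LK LD1_c6 LD2_c4 LD3_c60) Lrfl Lrfl
theorem f283442 : Led Lsl_et (LP (LK LD1_c10 LD2_c37 LD3_c8)) = (LP (LK LD1_c11 LD2_c53 LD3_c21)) :=
  Lgr Lrot69 (Lpe (f283439 IH) (Lpe (f256896 IH) (Lpr_ff (f283437 IH) (Lpe (f283440 IH) (Lpe (f283441 IH) (Lpn (LP (LK LD1_c11 LD2_c53 LD3_c21))))))))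
theorem f182854 : Led Lsl_ct (LP (LK LD1_c5 LD2_c23 LD3_c18)) = (LP (LK LD1_c10 LD2_c37 LD3_c8)) :=
  Lre_c IH (LK LD1_c5 LD2_c23 LD3_c18) (LK LD1_c10 LD2_c37 LD3_c8) Lrfl Lrfl
theorem f283444 : Led Lsl_ct (LP (LK LD1_c11 LD2_c53 LD3_c21)) = (LP (LK LD1_c6 LD2_c5 LD3_c1)) :=
  Lre_c IH (LK LD1_c11 LD2_c53 LD3_c21) (LK LD1_c6 LD2_c5 LD3_c1) Lrfl Lrfl
theorem f283445 : Led Lsl_ef (LP (LK LD1_c5 LD2_c23 LD3_c18)) = (LP (LK LD1_c6 LD2_c5 LD3_c1)) :=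
  Lgr Lrot28 (Lpr_ct (f182854 IH) (Lpr_et (f283442 IH) (Lpr_ct (f283444 IH) (Lpn (LP (LK LD1_c6 LD2_c5 LD3_c1))))))
theorem f182840 : Led Lsl_bt (LP (LK LD1_c5 LD2_c23 LD3_c18)) = (LP (LK LD1_c10 LD2_c35 LD3_c15)) :=
  Lre_b IH (LK LD1_c5 LD2_c23 LD3_c18) (LK LD1_c10 LD2_c35 LD3_c15) Lrfl Lrfl
theorem f283469 : Led Lsl_bt (LP (LK LD1_c11 LD2_c53 LD3_c14)) = (LP (LK LD1_c6 LD2_c5 LD3_c1)) :=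
  Lre_b IH (LK LD1_c11 LD2_c53 LD3_c14) (LK LD1_c6 LD2_c5 LD3_c1) Lrfl Lrfl
theorem f283470 : Led Lsl_et (LP (LK LD1_c10 LD2_c35 LD3_c15)) = (LP (LK LD1_c11 LD2_c53 LD3_c14)) :=
  Lgr Lrot74 (Lpe (f182840 IH) (Lpr_ef (f283445 IH) (Lpe (f283469 IH) (Lpn (LP (LK LD1_c11 LD2_c53 LD3_c14))))))
theorem f182826 : Led Lsl_ft (LP (LK LD1_c5 LD2_c22 LD3_c24)) = (LP (LK LD1_c10 LD2_c35 LD3_c15)) :=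
  Lre_f IH (LK LD1_c5 LD2_c22 LD3_c24) (LK LD1_c10 LD2_c35 LD3_c15) Lrfl Lrfl
theorem f182912 : Led Lsl_et (LP (LK LD1_c2 LD2_c37 LD3_c44)) = (LP (LK LD1_c5 LD2_c22 LD3_c24)) :=
  Lre_e IH (LK LD1_c2 LD2_c37 LD3_c44) (LK LD1_c5 LD2_c22 LD3_c24) Lrfl Lrfl
theorem f283480 : Led Lsl_ft (LP (LK LD1_c11 LD2_c53 LD3_c14)) = (LP (LK LD1_c6 LD2_c4 LD3_c57)) :=
  Lre_f IH (LK LD1_c11 LD2_c53 LD3_c14) (LK LD1_c6 LD2_c4 LD3_c57) Lrfl Lrfl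
theorem f194196 : Led Lsl_et (LP (LK LD1_c6 LD2_c4 LD3_c57)) = (LP (LK LD1_c2 LD2_c58 LD3_c39)) :=
  Lre_e IH (LK LD1_c6 LD2_c4 LD3_c57) (LK LD1_c2 LD2_c58 LD3_c39) Lrfl Lrfl
theorem f283481 : Led Lsl_ff (LP (LK LD1_c2 LD2_c37 LD3_c44)) = (LP (LK LD1_c2 LD2_c58 LD3_c39)) :=
  Lgr Lrot72 (Lpr_et (f182912 IH) (Lpr_ft (f182826 IH) (Lpr_et (f283470 IH) (Lpr_ft (f283480 IH) (Lpr_et (f194196 IH) (Lpn (LP (LK LD1_c2 LD2_c58 LD3_c39))))))))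
theorem f283485 : Led Lsl_at (LP (LK LD1_c2 LD2_c37 LD3_c44)) = (LP (LK LD1_c2 LD2_c37 LD3_c54)) :=
  Lgr Lrot26 (Lpr_ff (f283481 IH) (Lpe (K15.f194191 IH) (Lpr_gt (K10.f194628 IH) (Lpn (LP (LK LD1_c2 LD2_c37 LD3_c54))))))
theorem f274457 : Led Lsl_ft (LP (LK LD1_c2 LD2_c37 LD3_c55)) = (LP (LK LD1_c1 LD2_c15 LD3_c56)) :=
  Lre_f IH (LK LD1_c2 LD2_c37 LD3_c55) (LK LD1_c1 LD2_c15 LD3_c56) Lrfl Lrfl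
theorem f274543 : Led Lsl_ft (LP (LK LD1_c2 LD2_c37 LD3_c54)) = (LP (LK LD1_c4 LD2_c15 LD3_c4)) :=
  Lgr Lrot54 (Lpe (K10.f194627 IH) (Lpe (f274457 IH) (Lpr_df (K16.f274537 IH) (Lpn (LP (LK LD1_c4 LD2_c15 LD3_c4))))))
theorem f283495 : Led Lsl_af (LP (LK LD1_c2 LD2_c58 LD3_c39)) = (LP (LK LD1_c4 LD2_c15 LD3_c4)) :=
  Lgr Lrot45 (Lpe (f283481 IH) (Lpr_at (f283485 IH) (Lpr_ft (f274543 IH) (Lpn (LP (LK LD1_c4 LD2_c15 LD3_c4))))))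
theorem f274487 : Led Lsl_et (LP (LK LD1_c2 LD2_c58 LD3_c39)) = (LP (LK LD1_c6 LD2_c4 LD3_c57)) :=
  Lre_e IH (LK LD1_c2 LD2_c58 LD3_c39) (LK LD1_c6 LD2_c4 LD3_c57) Lrfl Lrfl
theorem f54292 : Led Lsl_et (LP (LK LD1_c8 LD2_c29 LD3_c7)) = (LP (LK LD1_c4 LD2_c15 LD3_c4)) :=
  Lre_e IH (LK LD1_c8 LD2_c29 LD3_c7) (LK LD1_c4 LD2_c15 LD3_c4) Lrfl Lrfl
theorem f283501 : Led Lsl_at (LP (LK LD1_c6 LD2_c4 LD3_c57)) = (LP (LK LD1_c8 LD2_c29 LD3_c7)) :=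
  Lgr Lrot80 (Lpe (f274487 IH) (Lpr_af (f283495 IH) (Lpe (f54292 IH) (Lpn (LP (LK LD1_c8 LD2_c29 LD3_c7))))))
theorem f283506 : Led Lsl_ct (LP (LK LD1_c11 LD2_c53 LD3_c11)) = (LP (LK LD1_c6 LD2_c4 LD3_c57)) :=
  Lre_c IH (LK LD1_c11 LD2_c53 LD3_c11) (LK LD1_c6 LD2_c4 LD3_c57) Lrfl Lrfl
theorem f194245 : Led Lsl_et (LP (LK LD1_c4 LD2_c6 LD3_c38)) = (LP (LK LD1_c8 LD2_c13 LD3_c52)) :=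
  Lre_e IH (LK LD1_c4 LD2_c6 LD3_c38) (LK LD1_c8 LD2_c13 LD3_c52) Lrfl Lrfl
theorem f194246 : Led Lsl_ct (LP (LK LD1_c8 LD2_c13 LD3_c52)) = (LP (LK LD1_c8 LD2_c29 LD3_c7)) :=
  Lgr Lrot15 (Lpe (f194245 IH) (Lpr_cf (K13.f194240 IH) (Lpe (f54292 IH) (Lpn (LP (LK LD1_c8 LD2_c29 LD3_c7))))))
theorem f194266 : Led Lsl_cf (LP (LK LD1_c8 LD2_c13 LD3_c52)) = (LP (LK LD1_c8 LD2_c29 LD3_c7)) :=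
  Lgr Lrot11 (Lpr_ct (f194246 IH) (Lpn (LP (LK LD1_c8 LD2_c29 LD3_c7))))
theorem f283507 : Led Lsl_af (LP (LK LD1_c11 LD2_c53 LD3_c11)) = (LP (LK LD1_c8 LD2_c13 LD3_c52)) :=
  Lgr Lrot68 (Lpr_ct (f283506 IH) (Lpr_at (f283501 IH) (Lpe (f194266 IH) (Lpn (LP (LK LD1_c8 LD2_c13 LD3_c52))))))
theorem f283513 : Led Lsl_ft (LP (LK LD1_c11 LD2_c53 LD3_c11)) = (LP (LK LD1_c20 LD2_c56 LD3_c43)) :=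
  Lre_f IH (LK LD1_c11 LD2_c53 LD3_c11) (LK LD1_c20 LD2_c56 LD3_c43) Lrfl Lrfl
theorem f194269 : Led Lsl_ft (LP (LK LD1_c15 LD2_c29 LD3_c4)) = (LP (LK LD1_c8 LD2_c13 LD3_c52)) :=
  Lre_f IH (LK LD1_c15 LD2_c29 LD3_c4) (LK LD1_c8 LD2_c13 LD3_c52) Lrfl Lrfl
theorem f283514 : Led Lsl_at (LP (LK LD1_c20 LD2_c56 LD3_c43)) = (LP (LK LD1_c15 LD2_c29 LD3_c4)) :=
  Lgr Lrot66 (Lpe (f283513 IH) (Lpr_af (f283507 IH) (Lpe (f194269 IH) (Lpn (LP (LK LD1_c15 LD2_c29 LD3_c4))))))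
theorem f283532 : Led Lsl_dt (LP (LK LD1_c29 LD2_c45 LD3_c45)) = (LP (LK LD1_c20 LD2_c56 LD3_c43)) :=
  Lre_d IH (LK LD1_c29 LD2_c45 LD3_c45) (LK LD1_c20 LD2_c56 LD3_c43) Lrfl Lrfl
theorem f283519 : Led Lsl_dt (LP (LK LD1_c15 LD2_c29 LD3_c4)) = (LP (LK LD1_c25 LD2_c21 LD3_c43)) :=
  Lre_d IH (LK LD1_c15 LD2_c29 LD3_c4) (LK LD1_c25 LD2_c21 LD3_c43) Lrfl Lrfl
theorem f283533 : Led Lsl_af (LP (LK LD1_c29 LD2_c45 LD3_c45)) = (LP (LK LD1_c25 LD2_c21 LD3_c43)) :=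
  Lgr Lrot117 (Lpr_dt (f283532 IH) (Lpr_at (f283514 IH) (Lpr_dt (f283519 IH) (Lpn (LP (LK LD1_c25 LD2_c21 LD3_c43))))))
theorem f283535 : Led Lsl_at (LP (LK LD1_c29 LD2_c45 LD3_c45)) = (LP (LK LD1_c25 LD2_c21 LD3_c43)) :=
  Lgr Lrot100 (Lpr_af (f283533 IH) (Lpn (LP (LK LD1_c25 LD2_c21 LD3_c43))))
theorem f278162 : Led Lsl_ft (LP (LK LD1_c20 LD2_c56 LD3_c42)) = (LP (LK LD1_c29 LD2_c45 LD3_c45)) :=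
  Lre_f IH (LK LD1_c20 LD2_c56 LD3_c42) (LK LD1_c29 LD2_c45 LD3_c45) Lrfl Lrfl
theorem f283556 : Led Lsl_ft (LP (LK LD1_c25 LD2_c21 LD3_c43)) = (LP (LK LD1_c15 LD2_c29 LD3_c3)) :=
  Lre_f IH (LK LD1_c25 LD2_c21 LD3_c43) (LK LD1_c15 LD2_c29 LD3_c3) Lrfl Lrfl
theorem f283557 : Led Lsl_af (LP (LK LD1_c20 LD2_c56 LD3_c42)) = (LP (LK LD1_c15 LD2_c29 LD3_c3)) :=
  Lgr Lrot45 (Lpr_ft (f278162 IH) (Lpr_at (f283535 IH) (Lpr_ft (f283556 IH) (Lpn (LP (LK LD1_c15 LD2_c29 LD3_c3))))))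
theorem f266703 : Led Lsl_et (LP (LK LD1_c19 LD2_c14 LD3_c23)) = (LP (LK LD1_c10 LD2_c37 LD3_c18)) :=
  Lre_e IH (LK LD1_c19 LD2_c14 LD3_c23) (LK LD1_c10 LD2_c37 LD3_c18) Lrfl Lrfl
theorem f256880 : Led Lsl_dt (LP (LK LD1_c28 LD2_c40 LD3_c42)) = (LP (LK LD1_c19 LD2_c14 LD3_c23)) :=
  Lre_d IH (LK LD1_c28 LD2_c40 LD3_c42) (LK LD1_c19 LD2_c14 LD3_c23) Lrfl Lrfl
theorem f266707 : Led Lsl_et (LP (LK LD1_c6 LD2_c4 LD3_c56)) = (LP (LK LD1_c11 LD2_c53 LD3_c11)) :=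
  Lre_e IH (LK LD1_c6 LD2_c4 LD3_c56) (LK LD1_c11 LD2_c53 LD3_c11) Lrfl Lrfl
theorem f177488 : Led Lsl_dt (LP (LK LD1_c11 LD2_c53 LD3_c11)) = (LP (LK LD1_c20 LD2_c56 LD3_c42)) :=
  Lre_d IH (LK LD1_c11 LD2_c53 LD3_c11) (LK LD1_c20 LD2_c56 LD3_c42) Lrfl Lrfl
theorem f266708 : Led Lsl_ef (LP (LK LD1_c28 LD2_c40 LD3_c42)) = (LP (LK LD1_c20 LD2_c56 LD3_c42)) :=
  Lgr Lrot73 (Lpr_dt (f256880 IH) (Lpr_et (f266703 IH) (Lpr_dt (K15.f266701 IH) (Lpr_et (f266707 IH) (Lpr_dt (f177488 IH) (Lpn (LP (LK LD1_c20 LD2_c56 LD3_c42))))))))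
theorem f283567 : Led Lsl_et (LP (LK LD1_c25 LD2_c21 LD3_c39)) = (LP (LK LD1_c15 LD2_c29 LD3_c3)) :=
  Lre_e IH (LK LD1_c25 LD2_c21 LD3_c39) (LK LD1_c15 LD2_c29 LD3_c3) Lrfl Lrfl
theorem f283568 : Led Lsl_at (LP (LK LD1_c28 LD2_c40 LD3_c42)) = (LP (LK LD1_c25 LD2_c21 LD3_c39)) :=
  Lgr Lrot80 (Lpr_ef (f266708 IH) (Lpr_af (f283557 IH) (Lpe (f283567 IH) (Lpn (LP (LK LD1_c25 LD2_c21 LD3_c39))))))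
theorem f283576 : Led Lsl_ft (LP (LK LD1_c32 LD2_c38 LD3_c0)) = (LP (LK LD1_c28 LD2_c40 LD3_c42)) :=
  Lre_f IH (LK LD1_c32 LD2_c38 LD3_c0) (LK LD1_c28 LD2_c40 LD3_c42) Lrfl Lrfl
theorem f283422 : Led Lsl_ft (LP (LK LD1_c25 LD2_c21 LD3_c39)) = (LP (LK LD1_c31 LD2_c52 LD3_c24)) :=
  Lre_f IH (LK LD1_c25 LD2_c21 LD3_c39) (LK LD1_c31 LD2_c52 LD3_c24) Lrfl Lrfl
theorem f283577 : Led Lsl_af (LP (LK LD1_c32 LD2_c38 LD3_c0)) = (LP (LK LD1_c31 LD2_c52 LD3_c24)) :=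
  Lgr Lrot45 (Lpr_ft (f283576 IH) (Lpr_at (f283568 IH) (Lpr_ft (f283422 IH) (Lpn (LP (LK LD1_c31 LD2_c52 LD3_c24))))))
theorem f283581 : Led Lsl_dt (LP (LK LD1_c32 LD2_c38 LD3_c0)) = (LP (LK LD1_c28 LD2_c40 LD3_c43)) :=
  Lre_d IH (LK LD1_c32 LD2_c38 LD3_c0) (LK LD1_c28 LD2_c40 LD3_c43) Lrfl Lrfl
theorem f283415 : Led Lsl_dt (LP (LK LD1_c25 LD2_c21 LD3_c40)) = (LP (LK LD1_c31 LD2_c52 LD3_c24)) :=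
  Lre_d IH (LK LD1_c25 LD2_c21 LD3_c40) (LK LD1_c31 LD2_c52 LD3_c24) Lrfl Lrfl
theorem f283587 : Led Lsl_at (LP (LK LD1_c28 LD2_c40 LD3_c43)) = (LP (LK LD1_c25 LD2_c21 LD3_c40)) :=
  Lgr Lrot51 (Lpe (f283581 IH) (Lpr_af (f283577 IH) (Lpe (f283415 IH) (Lpn (LP (LK LD1_c25 LD2_c21 LD3_c40))))))
theorem f283594 : Led Lsl_ct (LP (LK LD1_c19 LD2_c14 LD3_c26)) = (LP (LK LD1_c28 LD2_c40 LD3_c43)) :=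
  Lre_c IH (LK LD1_c19 LD2_c14 LD3_c26) (LK LD1_c28 LD2_c40 LD3_c43) Lrfl Lrfl
theorem f194769 : Led Lsl_et (LP (LK LD1_c6 LD2_c5 LD3_c4)) = (LP (LK LD1_c11 LD2_c53 LD3_c34)) :=
  Lre_e IH (LK LD1_c6 LD2_c5 LD3_c4) (LK LD1_c11 LD2_c53 LD3_c34) Lrfl Lrfl
theorem f274286 : Led Lsl_et (LP (LK LD1_c15 LD2_c29 LD3_c2)) = (LP (LK LD1_c8 LD2_c13 LD3_c51)) :=
  Lre_e IH (LK LD1_c15 LD2_c29 LD3_c2) (LK LD1_c8 LD2_c13 LD3_c51) Lrfl Lrfl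
theorem f283388 : Led Lsl_ct (LP (LK LD1_c11 LD2_c53 LD3_c34)) = (LP (LK LD1_c15 LD2_c29 LD3_c2)) :=
  Lgr Lrot15 (Lpe (f194769 IH) (Lpr_cf (f283383 IH) (Lpe (f274286 IH) (Lpn (LP (LK LD1_c15 LD2_c29 LD3_c2))))))
theorem f283394 : Led Lsl_ft (LP (LK LD1_c20 LD2_c57 LD3_c14)) = (LP (LK LD1_c11 LD2_c53 LD3_c34)) :=
  Lre_f IH (LK LD1_c20 LD2_c57 LD3_c14) (LK LD1_c11 LD2_c53 LD3_c34) Lrfl Lrfl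
theorem f283395 : Led Lsl_ft (LP (LK LD1_c15 LD2_c29 LD3_c2)) = (LP (LK LD1_c25 LD2_c21 LD3_c40)) :=
  Lre_f IH (LK LD1_c15 LD2_c29 LD3_c2) (LK LD1_c25 LD2_c21 LD3_c40) Lrfl Lrfl
theorem f283396 : Led Lsl_cf (LP (LK LD1_c20 LD2_c57 LD3_c14)) = (LP (LK LD1_c25 LD2_c21 LD3_c40)) :=
  Lgr Lrot108 (Lpr_ft (f283394 IH) (Lpr_ct (f283388 IH) (Lpr_ft (f283395 IH) (Lpn (LP (LK LD1_c25 LD2_c21 LD3_c40))))))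
theorem f283597 : Led Lsl_af (LP (LK LD1_c19 LD2_c14 LD3_c26)) = (LP (LK LD1_c20 LD2_c57 LD3_c14)) :=
  Lgr Lrot68 (Lpr_ct (f283594 IH) (Lpr_at (f283587 IH) (Lpe (f283396 IH) (Lpn (LP (LK LD1_c20 LD2_c57 LD3_c14))))))
theorem f283607 : Led Lsl_ft (LP (LK LD1_c19 LD2_c14 LD3_c26)) = (LP (LK LD1_c10 LD2_c37 LD3_c19)) :=
  Lre_f IH (LK LD1_c19 LD2_c14 LD3_c26) (LK LD1_c10 LD2_c37 LD3_c19) Lrfl Lrfl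
theorem f283416 : Led Lsl_ft (LP (LK LD1_c11 LD2_c53 LD3_c34)) = (LP (LK LD1_c20 LD2_c57 LD3_c14)) :=
  Lre_f IH (LK LD1_c11 LD2_c53 LD3_c34) (LK LD1_c20 LD2_c57 LD3_c14) Lrfl Lrfl
theorem f283608 : Led Lsl_at (LP (LK LD1_c10 LD2_c37 LD3_c19)) = (LP (LK LD1_c11 LD2_c53 LD3_c34)) :=
  Lgr Lrot66 (Lpe (f283607 IH) (Lpr_af (f283597 IH) (Lpe (f283416 IH) (Lpn (LP (LK LD1_c11 LD2_c53 LD3_c34))))))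
theorem f190217 : Led Lsl_et (LP (LK LD1_c5 LD2_c23 LD3_c22)) = (LP (LK LD1_c10 LD2_c37 LD3_c19)) :=
  Lre_e IH (LK LD1_c5 LD2_c23 LD3_c22) (LK LD1_c10 LD2_c37 LD3_c19) Lrfl Lrfl
theorem f283421 : Led Lsl_et (LP (LK LD1_c11 LD2_c53 LD3_c34)) = (LP (LK LD1_c6 LD2_c5 LD3_c4)) :=
  Lre_e IH (LK LD1_c11 LD2_c53 LD3_c34) (LK LD1_c6 LD2_c5 LD3_c4) Lrfl Lrfl
theorem f283617 : Led Lsl_af (LP (LK LD1_c5 LD2_c23 LD3_c22)) = (LP (LK LD1_c6 LD2_c5 LD3_c4)) :=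
  Lgr Lrot50 (Lpr_et (f190217 IH) (Lpr_at (f283608 IH) (Lpr_et (f283421 IH) (Lpn (LP (LK LD1_c6 LD2_c5 LD3_c4))))))
theorem f283628 : Led Lsl_at (LP (LK LD1_c10 LD2_c37 LD3_c18)) = (LP (LK LD1_c8 LD2_c13 LD3_c51)) :=
  Lgr Lrot107 (Lpe (K15.f190161 IH) (Lpr_af (f283617 IH) (Lpr_cf (f283383 IH) (Lpn (LP (LK LD1_c8 LD2_c13 LD3_c51))))))
theorem f266705 : Led Lsl_df (LP (LK LD1_c10 LD2_c37 LD3_c18)) = (LP (LK LD1_c6 LD2_c4 LD3_c56)) :=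
  Lgr Lrot38 (Lpr_dt (K15.f266701 IH) (Lpn (LP (LK LD1_c6 LD2_c4 LD3_c56))))
theorem f283632 : Led Lsl_af (LP (LK LD1_c6 LD2_c4 LD3_c56)) = (LP (LK LD1_c4 LD2_c6 LD3_c38)) :=
  Lgr Lrot117 (Lpe (f266705 IH) (Lpr_at (f283628 IH) (Lpr_dt (f194248 IH) (Lpn (LP (LK LD1_c4 LD2_c6 LD3_c38))))))
theorem f283634 : Led Lsl_ft (LP (LK LD1_c5 LD2_c22 LD3_c44)) = (LP (LK LD1_c4 LD2_c6 LD3_c38)) :=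
  Lgr Lrot2 (Lpe (K15.f194633 IH) (Lpr_gt (K10.f177481 IH) (Lpr_af (f283632 IH) (Lpn (LP (LK LD1_c4 LD2_c6 LD3_c38))))))
theorem f283645 : Led Lsl_ff (LP (LK LD1_c5 LD2_c22 LD3_c44)) = (LP (LK LD1_c4 LD2_c6 LD3_c38)) :=
  Lgr Lrot3 (Lpr_ft (f283634 IH) (Lpn (LP (LK LD1_c4 LD2_c6 LD3_c38))))
theorem f265086 : Led Lsl_et (LP (LK LD1_c5 LD2_c22 LD3_c44)) = (LP (LK LD1_c10 LD2_c35 LD3_c42)) :=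
  Lre_e IH (LK LD1_c5 LD2_c22 LD3_c44) (LK LD1_c10 LD2_c35 LD3_c42) Lrfl Lrfl
theorem f283651 : Led Lsl_ft (LP (LK LD1_c10 LD2_c35 LD3_c42)) = (LP (LK LD1_c19 LD2_c11 LD3_c13)) :=
  Lre_f IH (LK LD1_c10 LD2_c35 LD3_c42) (LK LD1_c19 LD2_c11 LD3_c13) Lrfl Lrfl
theorem f54965 : Led Lsl_et (LP (LK LD1_c8 LD2_c13 LD3_c52)) = (LP (LK LD1_c4 LD2_c6 LD3_c38)) :=
  Lre_e IH (LK LD1_c8 LD2_c13 LD3_c52) (LK LD1_c4 LD2_c6 LD3_c38) Lrfl Lrfl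
theorem f283652 : Led Lsl_et (LP (LK LD1_c19 LD2_c11 LD3_c13)) = (LP (LK LD1_c15 LD2_c29 LD3_c4)) :=
  Lgr Lrot69 (Lpe (f283651 IH) (Lpe (f265086 IH) (Lpr_ff (f283645 IH) (Lpe (f54965 IH) (Lpe (f194269 IH) (Lpn (LP (LK LD1_c15 LD2_c29 LD3_c4))))))))
theorem f283656 : Led Lsl_bt (LP (LK LD1_c28 LD2_c37 LD3_c0)) = (LP (LK LD1_c19 LD2_c11 LD3_c13)) :=
  Lre_b IH (LK LD1_c28 LD2_c37 LD3_c0) (LK LD1_c19 LD2_c11 LD3_c13) Lrfl Lrfl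
theorem f283530 : Led Lsl_bt (LP (LK LD1_c15 LD2_c29 LD3_c4)) = (LP (LK LD1_c25 LD2_c21 LD3_c34)) :=
  Lre_b IH (LK LD1_c15 LD2_c29 LD3_c4) (LK LD1_c25 LD2_c21 LD3_c34) Lrfl Lrfl
theorem f283657 : Led Lsl_ef (LP (LK LD1_c28 LD2_c37 LD3_c0)) = (LP (LK LD1_c25 LD2_c21 LD3_c34)) :=
  Lgr Lrot29 (Lpr_bt (f283656 IH) (Lpr_et (f283652 IH) (Lpr_bt (f283530 IH) (Lpn (LP (LK LD1_c25 LD2_c21 LD3_c34))))))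
theorem f194721 : Led Lsl_ct (LP (LK LD1_c15 LD2_c16 LD3_c55)) = (LP (LK LD1_c8 LD2_c6 LD3_c60)) :=
  Lre_c IH (LK LD1_c15 LD2_c16 LD3_c55) (LK LD1_c8 LD2_c6 LD3_c60) Lrfl Lrfl
theorem f194722 : Led Lsl_bt (LP (LK LD1_c25 LD2_c6 LD3_c56)) = (LP (LK LD1_c15 LD2_c16 LD3_c55)) :=
  Lre_b IH (LK LD1_c25 LD2_c6 LD3_c56) (LK LD1_c15 LD2_c16 LD3_c55) Lrfl Lrfl
theorem f194723 : Led Lsl_ct (LP (LK LD1_c10 LD2_c35 LD3_c43)) = (LP (LK LD1_c19 LD2_c11 LD3_c13)) :=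
  Lre_c IH (LK LD1_c10 LD2_c35 LD3_c43) (LK LD1_c19 LD2_c11 LD3_c13) Lrfl Lrfl
theorem f194724 : Led Lsl_bt (LP (LK LD1_c19 LD2_c11 LD3_c13)) = (LP (LK LD1_c28 LD2_c37 LD3_c0)) :=
  Lre_b IH (LK LD1_c19 LD2_c11 LD3_c13) (LK LD1_c28 LD2_c37 LD3_c0) Lrfl Lrfl
theorem f194725 : Led Lsl_cf (LP (LK LD1_c25 LD2_c6 LD3_c56)) = (LP (LK LD1_c28 LD2_c37 LD3_c0)) :=
  Lgr Lrot97 (Lpr_bt (f194722 IH) (Lpr_ct (f194721 IH) (Lpr_bt (K10.f194711 IH) (Lpr_ct (f194723 IH) (Lpr_bt (f194724 IH) (Lpn (LP (LK LD1_c28 LD2_c37 LD3_c0))))))))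
theorem f255604 : Led Lsl_ct (LP (LK LD1_c4 LD2_c21 LD3_c51)) = (LP (LK LD1_c8 LD2_c41 LD3_c20)) :=
  Lre_c IH (LK LD1_c4 LD2_c21 LD3_c51) (LK LD1_c8 LD2_c41 LD3_c20) Lrfl Lrfl
theorem f192613 : Led Lsl_ft (LP (LK LD1_c5 LD2_c4 LD3_c54)) = (LP (LK LD1_c10 LD2_c0 LD3_c54)) :=
  Lre_f IH (LK LD1_c5 LD2_c4 LD3_c54) (LK LD1_c10 LD2_c0 LD3_c54) Lrfl Lrfl
theorem f192617 : Led Lsl_gt (LP (LK LD1_c5 LD2_c4 LD3_c54)) = (LP (LK LD1_c10 LD2_c0 LD3_c52)) :=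
  Lre_g IH (LK LD1_c5 LD2_c4 LD3_c54) (LK LD1_c10 LD2_c0 LD3_c52) Lrfl Lrfl
theorem f275735 : Led Lsl_gt (LP (LK LD1_c10 LD2_c0 LD3_c52)) = (LP (LK LD1_c10 LD2_c15 LD3_c48)) :=
  Lgr Lrot46 (Lpe (f192617 IH) (Lpr_ft (f192613 IH) (Lpr_at (K16.f275729 IH) (Lpn (LP (LK LD1_c10 LD2_c15 LD3_c48))))))
theorem f31138 : Led Lsl_et (LP (LK LD1_c4 LD2_c20 LD3_c52)) = (LP (LK LD1_c2 LD2_c7 LD3_c55)) :=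
  Lre_e IH (LK LD1_c4 LD2_c20 LD3_c52) (LK LD1_c2 LD2_c7 LD3_c55) Lrfl Lrfl
theorem f31141 : Led Lsl_df (LP (LK LD1_c4 LD2_c20 LD3_c52)) = (LP (LK LD1_c4 LD2_c20 LD3_c52)) :=
  Lgr Lrot70 (Lpr_et (f31138 IH) (Lpr_dt (K0.f31137 IH) (Lpr_et (K0.f31127 IH) (Lpr_dt (K11.f31139 IH) (Lpr_et (K10.f31140 IH) (Lpn (LP (LK LD1_c4 LD2_c20 LD3_c52))))))))
theorem f31215 : Led Lsl_af (LP (LK LD1_c4 LD2_c20 LD3_c52)) = (LP (LK LD1_c4 LD2_c20 LD3_c61)) :=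
  Lgr Lrot0 (Lpr_at (K10.f31210 IH) (Lpn (LP (LK LD1_c4 LD2_c20 LD3_c61))))
theorem f31221 : Led Lsl_df (LP (LK LD1_c4 LD2_c20 LD3_c61)) = (LP (LK LD1_c4 LD2_c20 LD3_c61)) :=
  Lgr Lrot18 (Lpe (f31215 IH) (Lpe (f31141 IH) (Lpr_at (K10.f31210 IH) (Lpn (LP (LK LD1_c4 LD2_c20 LD3_c61))))))
theorem f31223 : Led Lsl_gt (LP (LK LD1_c8 LD2_c39 LD3_c44)) = (LP (LK LD1_c4 LD2_c20 LD3_c61)) :=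
  Lre_g IH (LK LD1_c8 LD2_c39 LD3_c44) (LK LD1_c4 LD2_c20 LD3_c61) Lrfl Lrfl
theorem f31234 : Led Lsl_dt (LP (LK LD1_c16 LD2_c13 LD3_c24)) = (LP (LK LD1_c8 LD2_c39 LD3_c44)) :=
  Lre_d IH (LK LD1_c16 LD2_c13 LD3_c24) (LK LD1_c8 LD2_c39 LD3_c44) Lrfl Lrfl
theorem f240751 : Led Lsl_et (LP (LK LD1_c16 LD2_c13 LD3_c24)) = (LP (LK LD1_c10 LD2_c0 LD3_c52)) :=
  Lgr Lrot122 (Lpr_dt (f31234 IH) (Lpr_gt (f31223 IH) (Lpr_df (f31221 IH) (Lpr_et (K10.f31209 IH) (Lpe (K10.f31421 IH) (Lpr_dt (K13.f187930 IH) (Lpr_gt (K13.f240737 IH) (Lpe (K10.f192597 IH) (Lpr_et (K15.f192599 IH) (Lpr_gt (f192617 IH) (Lpn (LP (LK LD1_c10 LD2_c0 LD3_c52)))))))))))))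
theorem f234102 : Led Lsl_et (LP (LK LD1_c5 LD2_c23 LD3_c23)) = (LP (LK LD1_c2 LD2_c38 LD3_c9)) :=
  Lre_e IH (LK LD1_c5 LD2_c23 LD3_c23) (LK LD1_c2 LD2_c38 LD3_c9) Lrfl Lrfl
theorem f235552 : Led Lsl_et (LP (LK LD1_c2 LD2_c38 LD3_c9)) = (LP (LK LD1_c5 LD2_c23 LD3_c23)) :=
  Lre_e IH (LK LD1_c2 LD2_c38 LD3_c9) (LK LD1_c5 LD2_c23 LD3_c23) Lrfl Lrfl
theorem f235583 : Led Lsl_df (LP (LK LD1_c5 LD2_c23 LD3_c23)) = (LP (LK LD1_c5 LD2_c23 LD3_c23)) :=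
  Lgr Lrot70 (Lpr_et (f234102 IH) (Lpr_dt (K13.f234042 IH) (Lpr_et (K14.f235579 IH) (Lpr_dt (K13.f234101 IH) (Lpr_et (f235552 IH) (Lpn (LP (LK LD1_c5 LD2_c23 LD3_c23))))))))
theorem f235567 : Led Lsl_ff (LP (LK LD1_c5 LD2_c23 LD3_c23)) = (LP (LK LD1_c4 LD2_c20 LD3_c52)) :=
  Lgr Lrot72 (Lpr_et (f234102 IH) (Lpr_ft (K13.f235555 IH) (Lpr_et (K0.f31172 IH) (Lpr_ft (K13.f31412 IH) (Lpr_et (K10.f31140 IH) (Lpn (LP (LK LD1_c4 LD2_c20 LD3_c52))))))))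
theorem f235608 : Led Lsl_ft (LP (LK LD1_c5 LD2_c23 LD3_c23)) = (LP (LK LD1_c4 LD2_c20 LD3_c52)) :=
  Lgr Lrot54 (Lpr_df (f235583 IH) (Lpr_ff (f235567 IH) (Lpr_df (f31141 IH) (Lpn (LP (LK LD1_c4 LD2_c20 LD3_c52))))))
theorem f235613 : Led Lsl_gt (LP (LK LD1_c5 LD2_c23 LD3_c23)) = (LP (LK LD1_c8 LD2_c39 LD3_c44)) :=
  Lgr Lrot5 (Lpr_ft (f235608 IH) (Lpr_at (K10.f31210 IH) (Lpe (f31223 IH) (Lpn (LP (LK LD1_c8 LD2_c39 LD3_c44))))))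
theorem f235450 : Led Lsl_ct (LP (LK LD1_c5 LD2_c35 LD3_c13)) = (LP (LK LD1_c11 LD2_c2 LD3_c34)) :=
  Lre_c IH (LK LD1_c5 LD2_c35 LD3_c13) (LK LD1_c11 LD2_c2 LD3_c34) Lrfl Lrfl
theorem f31224 : Led Lsl_ct (LP (LK LD1_c8 LD2_c39 LD3_c42)) = (LP (LK LD1_c4 LD2_c20 LD3_c61)) :=
  Lre_c IH (LK LD1_c8 LD2_c39 LD3_c42) (LK LD1_c4 LD2_c20 LD3_c61) Lrfl Lrfl
theorem f235451 : Led Lsl_ff (LP (LK LD1_c5 LD2_c35 LD3_c13)) = (LP (LK LD1_c4 LD2_c20 LD3_c61)) :=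
  Lgr Lrot23 (Lpr_ct (f235450 IH) (Lpr_ft (K16.f235257 IH) (Lpr_ct (f31224 IH) (Lpn (LP (LK LD1_c4 LD2_c20 LD3_c61))))))
theorem f235611 : Led Lsl_af (LP (LK LD1_c5 LD2_c23 LD3_c23)) = (LP (LK LD1_c5 LD2_c35 LD3_c13)) :=
  Lgr Lrot45 (Lpr_ft (f235608 IH) (Lpr_at (K10.f31210 IH) (Lpe (f235451 IH) (Lpn (LP (LK LD1_c5 LD2_c35 LD3_c13))))))
theorem f31235 : Led Lsl_gt (LP (LK LD1_c4 LD2_c20 LD3_c61)) = (LP (LK LD1_c8 LD2_c39 LD3_c43)) :=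
  Lre_g IH (LK LD1_c4 LD2_c20 LD3_c61) (LK LD1_c8 LD2_c39 LD3_c43) Lrfl Lrfl
theorem f235617 : Led Lsl_gf (LP (LK LD1_c5 LD2_c23 LD3_c23)) = (LP (LK LD1_c8 LD2_c39 LD3_c43)) :=
  Lgr Lrot76 (Lpr_af (f235611 IH) (Lpr_ff (f235451 IH) (Lpr_gt (f31235 IH) (Lpn (LP (LK LD1_c8 LD2_c39 LD3_c43))))))
theorem f31232 : Led Lsl_et (LP (LK LD1_c2 LD2_c7 LD3_c61)) = (LP (LK LD1_c4 LD2_c20 LD3_c61)) :=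
  Lre_e IH (LK LD1_c2 LD2_c7 LD3_c61) (LK LD1_c4 LD2_c20 LD3_c61) Lrfl Lrfl
theorem f227235 : Led Lsl_dt (LP (LK LD1_c8 LD2_c41 LD3_c21)) = (LP (LK LD1_c4 LD2_c21 LD3_c51)) :=
  Lre_d IH (LK LD1_c8 LD2_c41 LD3_c21) (LK LD1_c4 LD2_c21 LD3_c51) Lrfl Lrfl
theorem f227236 : Led Lsl_ef (LP (LK LD1_c8 LD2_c39 LD3_c43)) = (LP (LK LD1_c8 LD2_c41 LD3_c21)) :=
  Lgr Lrot17 (Lpe (f31235 IH) (Lpe (f31232 IH) (Lpr_dt (K10.f28699 IH) (Lpe (K10.f187897 IH) (Lpe (K11.f180219 IH) (Lpr_gf (K13.f227231 IH) (Lpe (K14.f227229 IH) (Lpr_dt (K16.f43131 IH) (Lpe (K16.f227234 IH) (Lpe (f227235 IH) (Lpn (LP (LK LD1_c8 LD2_c41 LD3_c21)))))))))))))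
theorem f275737 : Led Lsl_gf (LP (LK LD1_c4 LD2_c21 LD3_c51)) = (LP (LK LD1_c7 LD2_c55 LD3_c47)) :=
  Lgr Lrot145 (Lpe (f227235 IH) (Lpe (f227236 IH) (Lpe (f235617 IH) (Lpe (f235583 IH) (Lpr_gt (f235613 IH) (Lpe (f31234 IH) (Lpr_et (f240751 IH) (Lpr_gt (f275735 IH) (Lpr_ef (K16.f275717 IH) (Lpr_dt (K16.f269896 IH) (Lpn (LP (LK LD1_c7 LD2_c55 LD3_c47)))))))))))))
theorem f42921 : Led Lsl_gt (LP (LK LD1_c8 LD2_c41 LD3_c23)) = (LP (LK LD1_c4 LD2_c21 LD3_c52)) :=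
  Lre_g IH (LK LD1_c8 LD2_c41 LD3_c23) (LK LD1_c4 LD2_c21 LD3_c52) Lrfl Lrfl
theorem f270357 : Led Lsl_gt (LP (LK LD1_c5 LD2_c23 LD3_c30)) = (LP (LK LD1_c8 LD2_c41 LD3_c23)) :=
  Lgr Lrot5 (Lpe (K16.f270355 IH) (Lpr_at (K16.f270344 IH) (Lpe (f42921 IH) (Lpn (LP (LK LD1_c8 LD2_c41 LD3_c23))))))
theorem f43126 : Led Lsl_ct (LP (LK LD1_c8 LD2_c41 LD3_c23)) = (LP (LK LD1_c16 LD2_c16 LD3_c36)) :=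
  Lre_c IH (LK LD1_c8 LD2_c41 LD3_c23) (LK LD1_c16 LD2_c16 LD3_c36) Lrfl Lrfl
theorem f239857 : Led Lsl_ct (LP (LK LD1_c9 LD2_c37 LD3_c51)) = (LP (LK LD1_c4 LD2_c52 LD3_c57)) :=
  Lre_c IH (LK LD1_c9 LD2_c37 LD3_c51) (LK LD1_c4 LD2_c52 LD3_c57) Lrfl Lrfl
theorem f279435 : Led Lsl_gt (LP (LK LD1_c16 LD2_c16 LD3_c36)) = (LP (LK LD1_c9 LD2_c37 LD3_c51)) :=
  Lgr Lrot150 (Lpe (f43126 IH) (Lpe (f270357 IH) (Lpe (K16.f275727 IH) (Lpe (f275737 IH) (Lpr_ct (f255604 IH) (Lpr_gt (K16.f255702 IH) (Lpr_ct (K16.f279431 IH) (Lpe (K15.f200559 IH) (Lpe (f239857 IH) (Lpn (LP (LK LD1_c9 LD2_c37 LD3_c51))))))))))))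
theorem f239867 : Led Lsl_ct (LP (LK LD1_c4 LD2_c52 LD3_c57)) = (LP (LK LD1_c9 LD2_c37 LD3_c51)) :=
  Lre_c IH (LK LD1_c4 LD2_c52 LD3_c57) (LK LD1_c9 LD2_c37 LD3_c51) Lrfl Lrfl
theorem f241924 : Led Lsl_ef (LP (LK LD1_c5 LD2_c12 LD3_c43)) = (LP (LK LD1_c9 LD2_c37 LD3_c51)) :=
  Lgr Lrot28 (Lpr_ct (K15.f241920 IH) (Lpr_et (K15.f239518 IH) (Lpr_ct (f239867 IH) (Lpn (LP (LK LD1_c9 LD2_c37 LD3_c51))))))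
theorem f241945 : Led Lsl_et (LP (LK LD1_c5 LD2_c12 LD3_c43)) = (LP (LK LD1_c9 LD2_c37 LD3_c51)) :=
  Lgr Lrot87 (Lpr_ef (f241924 IH) (Lpn (LP (LK LD1_c9 LD2_c37 LD3_c51))))
theorem f241922 : Led Lsl_gf (LP (LK LD1_c10 LD2_c4 LD3_c16)) = (LP (LK LD1_c8 LD2_c23 LD3_c57)) :=
  Lgr Lrot144 (Lpr_dt (K15.f240947 IH) (Lpr_gt (K15.f241917 IH) (Lpe (K11.f201659 IH) (Lpe (K11.f201633 IH) (Lpe (K11.f201584 IH) (Lpe (K13.f171681 IH) (Lpr_df (K13.f239504 IH) (Lpr_gf (K13.f240989 IH) (Lpe (K13.f53298 IH) (Lpn (LP (LK LD1_c8 LD2_c23 LD3_c57))))))))))))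
theorem f234017 : Led Lsl_et (LP (LK LD1_c2 LD2_c38 LD3_c14)) = (LP (LK LD1_c5 LD2_c23 LD3_c29)) :=
  Lre_e IH (LK LD1_c2 LD2_c38 LD3_c14) (LK LD1_c5 LD2_c23 LD3_c29) Lrfl Lrfl
theorem f241949 : Led Lsl_gf (LP (LK LD1_c5 LD2_c23 LD3_c29)) = (LP (LK LD1_c9 LD2_c37 LD3_c51)) :=
  Lgr Lrot141 (Lpe (f234017 IH) (Lpr_dt (K13.f224178 IH) (Lpe (K13.f233933 IH) (Lpe (K12.f53677 IH) (Lpe (K12.f54189 IH) (Lpr_gt (K10.f27892 IH) (Lpr_dt (K13.f227341 IH) (Lpe (f241922 IH) (Lpr_df (K13.f240938 IH) (Lpr_et (f241945 IH) (Lpn (LP (LK LD1_c9 LD2_c37 LD3_c51)))))))))))))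
theorem f241951 : Led Lsl_at (LP (LK LD1_c10 LD2_c37 LD3_c21)) = (LP (LK LD1_c5 LD2_c23 LD3_c29)) :=
  Lre_a IH (LK LD1_c10 LD2_c37 LD3_c21) (LK LD1_c5 LD2_c23 LD3_c29) Lrfl Lrfl
theorem f279443 : Led Lsl_ft (LP (LK LD1_c16 LD2_c16 LD3_c36)) = (LP (LK LD1_c10 LD2_c37 LD3_c21)) :=
  Lgr Lrot2 (Lpr_gt (f279435 IH) (Lpe (f241949 IH) (Lpe (f241951 IH) (Lpn (LP (LK LD1_c10 LD2_c37 LD3_c21))))))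
theorem f279463 : Led Lsl_et (LP (LK LD1_c10 LD2_c37 LD3_c21)) = (LP (LK LD1_c5 LD2_c23 LD3_c24)) :=
  Lre_e IH (LK LD1_c10 LD2_c37 LD3_c21) (LK LD1_c5 LD2_c23 LD3_c24) Lrfl Lrfl
theorem f235633 : Led Lsl_ct (LP (LK LD1_c2 LD2_c38 LD3_c10)) = (LP (LK LD1_c5 LD2_c23 LD3_c24)) :=
  Lre_c IH (LK LD1_c2 LD2_c38 LD3_c10) (LK LD1_c5 LD2_c23 LD3_c24) Lrfl Lrfl
theorem f235634 : Led Lsl_ft (LP (LK LD1_c5 LD2_c23 LD3_c24)) = (LP (LK LD1_c5 LD2_c22 LD3_c28)) :=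
  Lgr Lrot4 (Lpe (f235633 IH) (Lpr_ff (K13.f235630 IH) (Lpe (K12.f172011 IH) (Lpn (LP (LK LD1_c5 LD2_c22 LD3_c28))))))
theorem f212966 : Led Lsl_et (LP (LK LD1_c5 LD2_c22 LD3_c28)) = (LP (LK LD1_c10 LD2_c35 LD3_c20)) :=
  Lre_e IH (LK LD1_c5 LD2_c22 LD3_c28) (LK LD1_c10 LD2_c35 LD3_c20) Lrfl Lrfl
theorem f279464 : Led Lsl_ft (LP (LK LD1_c10 LD2_c35 LD3_c20)) = (LP (LK LD1_c19 LD2_c10 LD3_c48)) :=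
  Lre_f IH (LK LD1_c10 LD2_c35 LD3_c20) (LK LD1_c19 LD2_c10 LD3_c48) Lrfl Lrfl
theorem f279465 : Led Lsl_ef (LP (LK LD1_c16 LD2_c16 LD3_c36)) = (LP (LK LD1_c19 LD2_c10 LD3_c48)) :=
  Lgr Lrot21 (Lpr_ft (f279443 IH) (Lpr_et (f279463 IH) (Lpr_ft (f235634 IH) (Lpr_et (f212966 IH) (Lpr_ft (f279464 IH) (Lpn (LP (LK LD1_c19 LD2_c10 LD3_c48))))))))
theorem f279527 : Led Lsl_et (LP (LK LD1_c16 LD2_c16 LD3_c36)) = (LP (LK LD1_c19 LD2_c10 LD3_c48)) :=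
  Lgr Lrot87 (Lpr_ef (f279465 IH) (Lpn (LP (LK LD1_c19 LD2_c10 LD3_c48))))
theorem f194732 : Led Lsl_ct (LP (LK LD1_c19 LD2_c10 LD3_c48)) = (LP (LK LD1_c10 LD2_c35 LD3_c21)) :=
  Lre_c IH (LK LD1_c19 LD2_c10 LD3_c48) (LK LD1_c10 LD2_c35 LD3_c21) Lrfl Lrfl
theorem f279529 : Led Lsl_ef (LP (LK LD1_c8 LD2_c41 LD3_c23)) = (LP (LK LD1_c10 LD2_c35 LD3_c21)) :=
  Lgr Lrot28 (Lpr_ct (f43126 IH) (Lpr_et (f279527 IH) (Lpr_ct (f194732 IH) (Lpn (LP (LK LD1_c10 LD2_c35 LD3_c21))))))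
theorem f28902 : Led Lsl_et (LP (LK LD1_c1 LD2_c1 LD3_c20)) = (LP (LK LD1_c2 LD2_c8 LD3_c23)) :=
  Lre_e IH (LK LD1_c1 LD2_c1 LD3_c20) (LK LD1_c2 LD2_c8 LD3_c23) Lrfl Lrfl
theorem f28861 : Led Lsl_gt (LP (LK LD1_c2 LD2_c8 LD3_c23)) = (LP (LK LD1_c4 LD2_c21 LD3_c44)) :=
  Lre_g IH (LK LD1_c2 LD2_c8 LD3_c23) (LK LD1_c4 LD2_c21 LD3_c44) Lrfl Lrfl
theorem f43122 : Led Lsl_et (LP (LK LD1_c8 LD2_c41 LD3_c6)) = (LP (LK LD1_c4 LD2_c21 LD3_c44)) :=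
  Lre_e IH (LK LD1_c8 LD2_c41 LD3_c6) (LK LD1_c4 LD2_c21 LD3_c44) Lrfl Lrfl
theorem f43123 : Led Lsl_dt (LP (LK LD1_c8 LD2_c41 LD3_c6)) = (LP (LK LD1_c8 LD2_c41 LD3_c23)) :=
  Lgr Lrot136 (Lpr_et (f43122 IH) (Lpe (f28861 IH) (Lpe (f28902 IH) (Lpr_dt (K13.f28831 IH) (Lpr_gf (K9.f43115 IH) (Lpe (K1.f39005 IH) (Lpr_gf (K12.f39168 IH) (Lpe (K14.f42919 IH) (Lpr_dt (K14.f42920 IH) (Lpe (f42921 IH) (Lpn (LP (LK LD1_c8 LD2_c41 LD3_c23)))))))))))))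
theorem f43128 : Led Lsl_df (LP (LK LD1_c8 LD2_c41 LD3_c6)) = (LP (LK LD1_c8 LD2_c41 LD3_c23)) :=
  Lgr Lrot38 (Lpr_dt (f43123 IH) (Lpn (LP (LK LD1_c8 LD2_c41 LD3_c23))))
theorem f28862 : Led Lsl_dt (LP (LK LD1_c4 LD2_c21 LD3_c44)) = (LP (LK LD1_c8 LD2_c41 LD3_c5)) :=
  Lre_d IH (LK LD1_c4 LD2_c21 LD3_c44) (LK LD1_c8 LD2_c41 LD3_c5) Lrfl Lrfl
theorem f279733 : Led Lsl_et (LP (LK LD1_c8 LD2_c41 LD3_c5)) = (LP (LK LD1_c8 LD2_c6 LD3_c60)) :=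
  Lgr Lrot71 (Lpe (f28862 IH) (Lpe (f43122 IH) (Lpr_df (f43128 IH) (Lpr_ef (f279529 IH) (Lpe (K10.f194733 IH) (Lpn (LP (LK LD1_c8 LD2_c6 LD3_c60))))))))
theorem f279738 : Led Lsl_ef (LP (LK LD1_c8 LD2_c41 LD3_c5)) = (LP (LK LD1_c8 LD2_c6 LD3_c60)) :=
  Lgr Lrot88 (Lpr_et (f279733 IH) (Lpn (LP (LK LD1_c8 LD2_c6 LD3_c60))))
theorem f28863 : Led Lsl_ct (LP (LK LD1_c8 LD2_c41 LD3_c5)) = (LP (LK LD1_c16 LD2_c16 LD3_c1)) :=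
  Lre_c IH (LK LD1_c8 LD2_c41 LD3_c5) (LK LD1_c16 LD2_c16 LD3_c1) Lrfl Lrfl
theorem f279740 : Led Lsl_et (LP (LK LD1_c16 LD2_c16 LD3_c1)) = (LP (LK LD1_c15 LD2_c16 LD3_c55)) :=
  Lgr Lrot158 (Lpe (f28863 IH) (Lpr_ef (f279738 IH) (Lpe (f194721 IH) (Lpn (LP (LK LD1_c15 LD2_c16 LD3_c55))))))
theorem f279742 : Led Lsl_bt (LP (LK LD1_c26 LD2_c13 LD3_c49)) = (LP (LK LD1_c16 LD2_c16 LD3_c1)) :=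
  Lre_b IH (LK LD1_c26 LD2_c13 LD3_c49) (LK LD1_c16 LD2_c16 LD3_c1) Lrfl Lrfl
theorem f194738 : Led Lsl_bt (LP (LK LD1_c15 LD2_c16 LD3_c55)) = (LP (LK LD1_c25 LD2_c6 LD3_c56)) :=
  Lre_b IH (LK LD1_c15 LD2_c16 LD3_c55) (LK LD1_c25 LD2_c6 LD3_c56) Lrfl Lrfl
theorem f279743 : Led Lsl_ef (LP (LK LD1_c26 LD2_c13 LD3_c49)) = (LP (LK LD1_c25 LD2_c6 LD3_c56)) :=
  Lgr Lrot29 (Lpr_bt (f279742 IH) (Lpr_et (f279740 IH) (Lpr_bt (f194738 IH) (Lpn (LP (LK LD1_c25 LD2_c6 LD3_c56))))))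
theorem f283660 : Led Lsl_ct (LP (LK LD1_c26 LD2_c13 LD3_c49)) = (LP (LK LD1_c25 LD2_c21 LD3_c34)) :=
  Lgr Lrot15 (Lpr_ef (f279743 IH) (Lpr_cf (f194725 IH) (Lpr_ef (f283657 IH) (Lpn (LP (LK LD1_c25 LD2_c21 LD3_c34))))))
theorem f216249 : Led Lsl_ft (LP (LK LD1_c25 LD2_c21 LD3_c34)) = (LP (LK LD1_c15 LD2_c29 LD3_c0)) :=
  Lre_f IH (LK LD1_c25 LD2_c21 LD3_c34) (LK LD1_c15 LD2_c29 LD3_c0) Lrfl Lrfl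
theorem f216128 : Led Lsl_et (LP (LK LD1_c4 LD2_c50 LD3_c41)) = (LP (LK LD1_c9 LD2_c33 LD3_c30)) :=
  Lre_e IH (LK LD1_c4 LD2_c50 LD3_c41) (LK LD1_c9 LD2_c33 LD3_c30) Lrfl Lrfl
theorem f216129 : Led Lsl_cf (LP (LK LD1_c8 LD2_c2 LD3_c48)) = (LP (LK LD1_c9 LD2_c33 LD3_c30)) :=
  Lgr Lrot39 (Lpr_et (K13.f28047 IH) (Lpr_ct (K13.f216120 IH) (Lpr_et (f216128 IH) (Lpn (LP (LK LD1_c9 LD2_c33 LD3_c30))))))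
theorem f194255 : Led Lsl_et (LP (LK LD1_c4 LD2_c1 LD3_c1)) = (LP (LK LD1_c8 LD2_c2 LD3_c48)) :=
  Lre_e IH (LK LD1_c4 LD2_c1 LD3_c1) (LK LD1_c8 LD2_c2 LD3_c48) Lrfl Lrfl
theorem f194256 : Led Lsl_bt (LP (LK LD1_c8 LD2_c2 LD3_c48)) = (LP (LK LD1_c8 LD2_c29 LD3_c7)) :=
  Lgr Lrot119 (Lpe (f194255 IH) (Lpr_bf (K13.f194250 IH) (Lpe (f54292 IH) (Lpn (LP (LK LD1_c8 LD2_c29 LD3_c7))))))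
theorem f194271 : Led Lsl_bt (LP (LK LD1_c8 LD2_c13 LD3_c52)) = (LP (LK LD1_c15 LD2_c29 LD3_c0)) :=
  Lre_b IH (LK LD1_c8 LD2_c13 LD3_c52) (LK LD1_c15 LD2_c29 LD3_c0) Lrfl Lrfl
theorem f216210 : Led Lsl_bt (LP (LK LD1_c17 LD2_c36 LD3_c1)) = (LP (LK LD1_c9 LD2_c33 LD3_c30)) :=
  Lre_b IH (LK LD1_c17 LD2_c36 LD3_c1) (LK LD1_c9 LD2_c33 LD3_c30) Lrfl Lrfl
theorem f216211 : Led Lsl_ct (LP (LK LD1_c15 LD2_c29 LD3_c0)) = (LP (LK LD1_c17 LD2_c36 LD3_c1)) :=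
  Lgr Lrot83 (Lpe (f194271 IH) (Lpr_cf (f194266 IH) (Lpe (f194256 IH) (Lpr_cf (f216129 IH) (Lpe (f216210 IH) (Lpn (LP (LK LD1_c17 LD2_c36 LD3_c1))))))))
theorem f283677 : Led Lsl_ff (LP (LK LD1_c26 LD2_c13 LD3_c49)) = (LP (LK LD1_c17 LD2_c36 LD3_c1)) :=
  Lgr Lrot23 (Lpr_ct (f283660 IH) (Lpr_ft (f216249 IH) (Lpr_ct (f216211 IH) (Lpn (LP (LK LD1_c17 LD2_c36 LD3_c1))))))
theorem f283685 : Led Lsl_ft (LP (LK LD1_c26 LD2_c13 LD3_c49)) = (LP (LK LD1_c17 LD2_c36 LD3_c1)) :=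
  Lgr Lrot48 (Lpr_ff (f283677 IH) (Lpn (LP (LK LD1_c17 LD2_c36 LD3_c1))))
theorem f279748 : Led Lsl_ft (LP (LK LD1_c15 LD2_c16 LD3_c52)) = (LP (LK LD1_c25 LD2_c6 LD3_c56)) :=
  Lre_f IH (LK LD1_c15 LD2_c16 LD3_c52) (LK LD1_c25 LD2_c6 LD3_c56) Lrfl Lrfl
theorem f279749 : Led Lsl_et (LP (LK LD1_c8 LD2_c6 LD3_c55)) = (LP (LK LD1_c15 LD2_c16 LD3_c52)) :=
  Lre_e IH (LK LD1_c8 LD2_c6 LD3_c55) (LK LD1_c15 LD2_c16 LD3_c52) Lrfl Lrfl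
theorem f216248 : Led Lsl_et (LP (LK LD1_c17 LD2_c36 LD3_c1)) = (LP (LK LD1_c9 LD2_c33 LD3_c28)) :=
  Lre_e IH (LK LD1_c17 LD2_c36 LD3_c1) (LK LD1_c9 LD2_c33 LD3_c28) Lrfl Lrfl
theorem f283689 : Led Lsl_ff (LP (LK LD1_c8 LD2_c6 LD3_c55)) = (LP (LK LD1_c9 LD2_c33 LD3_c28)) :=
  Lgr Lrot72 (Lpr_et (f279749 IH) (Lpr_ft (f279748 IH) (Lpe (f279743 IH) (Lpr_ft (f283685 IH) (Lpr_et (f216248 IH) (Lpn (LP (LK LD1_c9 LD2_c33 LD3_c28))))))))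
theorem f194688 : Led Lsl_bt (LP (LK LD1_c8 LD2_c6 LD3_c55)) = (LP (LK LD1_c4 LD2_c3 LD3_c11)) :=
  Lre_b IH (LK LD1_c8 LD2_c6 LD3_c55) (LK LD1_c4 LD2_c3 LD3_c11) Lrfl Lrfl
theorem f216123 : Led Lsl_bt (LP (LK LD1_c4 LD2_c50 LD3_c41)) = (LP (LK LD1_c9 LD2_c33 LD3_c28)) :=
  Lre_b IH (LK LD1_c4 LD2_c50 LD3_c41) (LK LD1_c9 LD2_c33 LD3_c28) Lrfl Lrfl
theorem f283692 : Led Lsl_ft (LP (LK LD1_c4 LD2_c3 LD3_c11)) = (LP (LK LD1_c4 LD2_c50 LD3_c41)) :=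
  Lgr Lrot75 (Lpe (f194688 IH) (Lpr_ff (f283689 IH) (Lpe (f216123 IH) (Lpn (LP (LK LD1_c4 LD2_c50 LD3_c41))))))
theorem f52594 : Led Lsl_dt (LP (LK LD1_c9 LD2_c33 LD3_c29)) = (LP (LK LD1_c4 LD2_c50 LD3_c41)) :=
  Lre_d IH (LK LD1_c9 LD2_c33 LD3_c29) (LK LD1_c4 LD2_c50 LD3_c41) Lrfl Lrfl
theorem f189982 : Led Lsl_dt (LP (LK LD1_c4 LD2_c14 LD3_c21)) = (LP (LK LD1_c8 LD2_c27 LD3_c24)) :=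
  Lre_d IH (LK LD1_c4 LD2_c14 LD3_c21) (LK LD1_c8 LD2_c27 LD3_c24) Lrfl Lrfl
theorem f274650 : Led Lsl_df (LP (LK LD1_c5 LD2_c22 LD3_c31)) = (LP (LK LD1_c4 LD2_c1 LD3_c1)) :=
  Lgr Lrot153 (Lpr_gt (K16.f274549 IH) (Lpr_dt (K15.f238569 IH) (Lpe (K16.f274568 IH) (Lpr_df (K16.f274644 IH) (Lpr_gf (K16.f216503 IH) (Lpe (f189982 IH) (Lpr_gf (K13.f189978 IH) (Lpe (K10.f30937 IH) (Lpr_gt (K13.f28797 IH) (Lpn (LP (LK LD1_c4 LD2_c1 LD3_c1))))))))))))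
theorem f283760 : Led Lsl_af (LP (LK LD1_c4 LD2_c3 LD3_c8)) = (LP (LK LD1_c4 LD2_c50 LD3_c41)) :=
  Lgr Lrot31 (Lpe (K15.f194385 IH) (Lpe (K10.f192199 IH) (Lpr_ft (f283692 IH) (Lpn (LP (LK LD1_c4 LD2_c50 LD3_c41))))))
theorem f283762 : Led Lsl_ct (LP (LK LD1_c5 LD2_c22 LD3_c31)) = (LP (LK LD1_c4 LD2_c3 LD3_c9)) :=
  Lgr Lrot53 (Lpr_df (f274650 IH) (Lpr_cf (K14.f216126 IH) (Lpe (f52594 IH) (Lpe (K16.f274592 IH) (Lpe (K15.f195957 IH) (Lpr_ft (f283692 IH) (Lpe (f283760 IH) (Lpe (K10.f51369 IH) (Lpe (K15.f28067 IH) (Lpn (LP (LK LD1_c4 LD2_c3 LD3_c9))))))))))))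
theorem f51367 : Led Lsl_dt (LP (LK LD1_c1 LD2_c58 LD3_c34)) = (LP (LK LD1_c4 LD2_c3 LD3_c9)) :=
  Lre_d IH (LK LD1_c1 LD2_c58 LD3_c34) (LK LD1_c4 LD2_c3 LD3_c9) Lrfl Lrfl
theorem f7952 : Led Lsl_ct (LP (LK LD1_c1 LD2_c18 LD3_c18)) = (LP (LK LD1_c2 LD2_c43 LD3_c55)) :=
  Lre_c IH (LK LD1_c1 LD2_c18 LD3_c18) (LK LD1_c2 LD2_c43 LD3_c55) Lrfl Lrfl
theorem f283772 : Led Lsl_gf (LP (LK LD1_c5 LD2_c22 LD3_c31)) = (LP (LK LD1_c2 LD2_c43 LD3_c55)) :=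
  Lgr Lrot104 (Lpr_ct (f283762 IH) (Lpe (f51367 IH) (Lpe (K15.f51252 IH) (Lpe (K15.f194385 IH) (Lpe (K10.f27599 IH) (Lpe (K10.f189141 IH) (Lpe (K10.f187613 IH) (Lpr_gt (K15.f7950 IH) (Lpr_ct (f7952 IH) (Lpn (LP (LK LD1_c2 LD2_c43 LD3_c55))))))))))))
theorem f274541 : Led Lsl_dt (LP (LK LD1_c5 LD2_c22 LD3_c31)) = (LP (LK LD1_c4 LD2_c1 LD3_c1)) :=
  Lgr Lrot79 (Lpe (K16.f274450 IH) (Lpr_df (K16.f274537 IH) (Lpe (K13.f194252 IH) (Lpn (LP (LK LD1_c4 LD2_c1 LD3_c1))))))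
theorem f251466 : Led Lsl_ct (LP (LK LD1_c5 LD2_c1 LD3_c7)) = (LP (LK LD1_c5 LD2_c6 LD3_c5)) :=
  Lgr Lrot59 (Lpr_cf (K15.f251459 IH) (Lpn (LP (LK LD1_c5 LD2_c6 LD3_c5))))
theorem f45871 : Led Lsl_gt (LP (LK LD1_c1 LD2_c58 LD3_c16)) = (LP (LK LD1_c0 LD2_c56 LD3_c0)) :=
  Lre_g IH (LK LD1_c1 LD2_c58 LD3_c16) (LK LD1_c0 LD2_c56 LD3_c0) Lrfl Lrfl
theorem f45887 : Led Lsl_dt (LP (LK LD1_c4 LD2_c2 LD3_c33)) = (LP (LK LD1_c1 LD2_c58 LD3_c16)) :=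
  Lre_d IH (LK LD1_c4 LD2_c2 LD3_c33) (LK LD1_c1 LD2_c58 LD3_c16) Lrfl Lrfl
theorem f265902 : Led Lsl_gt (LP (LK LD1_c5 LD2_c6 LD3_c5)) = (LP (LK LD1_c4 LD2_c2 LD3_c33)) :=
  Lgr Lrot94 (Lpe (f251466 IH) (Lpr_gt (K15.f265897 IH) (Lpr_dt (K15.f247812 IH) (Lpr_gt (K14.f247888 IH) (Lpr_dt (K9.f45865 IH) (Lpe (K9.f45866 IH) (Lpe (K1.f44040 IH) (Lpe (f45871 IH) (Lpe (f45887 IH) (Lpn (LP (LK LD1_c4 LD2_c2 LD3_c33))))))))))))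
theorem f45885 : Led Lsl_dt (LP (LK LD1_c1 LD2_c58 LD3_c16)) = (LP (LK LD1_c4 LD2_c2 LD3_c33)) :=
  Lre_d IH (LK LD1_c1 LD2_c58 LD3_c16) (LK LD1_c4 LD2_c2 LD3_c33) Lrfl Lrfl
theorem f283774 : Led Lsl_et (LP (LK LD1_c1 LD2_c58 LD3_c16)) = (LP (LK LD1_c2 LD2_c43 LD3_c55)) :=
  Lgr Lrot121 (Lpr_dt (f45885 IH) (Lpe (f265902 IH) (Lpr_df (K15.f265930 IH) (Lpr_et (K15.f187862 IH) (Lpe (K10.f187847 IH) (Lpe (K13.f28032 IH) (Lpr_dt (K10.f28031 IH) (Lpe (K14.f28046 IH) (Lpe (f274541 IH) (Lpr_gf (f283772 IH) (Lpn (LP (LK LD1_c2 LD2_c43 LD3_c55)))))))))))))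
theorem f283778 : Led Lsl_ef (LP (LK LD1_c1 LD2_c58 LD3_c16)) = (LP (LK LD1_c2 LD2_c43 LD3_c55)) :=
  Lgr Lrot88 (Lpr_et (f283774 IH) (Lpn (LP (LK LD1_c2 LD2_c43 LD3_c55))))
theorem f265627 : Led Lsl_cf (LP (LK LD1_c2 LD2_c23 LD3_c7)) = (LP (LK LD1_c2 LD2_c23 LD3_c7)) :=
  Lgr Lrot39 (Lpr_et (K16.f265626 IH) (Lpr_ct (K15.f265615 IH) (Lpr_et (K16.f265622 IH) (Lpn (LP (LK LD1_c2 LD2_c23 LD3_c7))))))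
theorem f3364 : Led Lsl_dt (LP (LK LD1_c9 LD2_c52 LD3_c3)) = (LP (LK LD1_c5 LD2_c0 LD3_c51)) :=
  Lre_d IH (LK LD1_c9 LD2_c52 LD3_c3) (LK LD1_c5 LD2_c0 LD3_c51) Lrfl Lrfl
theorem f259081 : Led Lsl_ct (LP (LK LD1_c4 LD2_c3 LD3_c5)) = (LP (LK LD1_c4 LD2_c19 LD3_c4)) :=
  Lgr Lrot152 (Lpe (K15.f184818 IH) (Lpe (K15.f184817 IH) (Lpr_gt (K15.f259077 IH) (Lpr_ct (K15.f3756 IH) (Lpe (K15.f252702 IH) (Lpr_ct (K15.f3690 IH) (Lpe (K14.f246821 IH) (Lpr_cf (K15.f205059 IH) (Lpe (K15.f171307 IH) (Lpn (LP (LK LD1_c4 LD2_c19 LD3_c4))))))))))))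
theorem f265945 : Led Lsl_dt (LP (LK LD1_c2 LD2_c34 LD3_c43)) = (LP (LK LD1_c4 LD2_c3 LD3_c5)) :=
  Lgr Lrot173 (Lpr_cf (K14.f180758 IH) (Lpe (f3364 IH) (Lpr_cf (K15.f265939 IH) (Lpe (K15.f33385 IH) (Lpe (K14.f33359 IH) (Lpe (K10.f1602 IH) (Lpe (K13.f33384 IH) (Lpr_df (K10.f186857 IH) (Lpr_cf (K15.f192944 IH) (Lpe (K15.f3366 IH) (Lpr_cf (K15.f248058 IH) (Lpe (K15.f186872 IH) (Lpe (K12.f186852 IH) (Lpr_df (K16.f213491 IH) (Lpe (f259081 IH) (Lpn (LP (LK LD1_c4 LD2_c3 LD3_c5))))))))))))))))))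
theorem f265950 : Led Lsl_ft (LP (LK LD1_c1 LD2_c8 LD3_c50)) = (LP (LK LD1_c2 LD2_c23 LD3_c28)) :=
  Lre_f IH (LK LD1_c1 LD2_c8 LD3_c50) (LK LD1_c2 LD2_c23 LD3_c28) Lrfl Lrfl
theorem f265951 : Led Lsl_af (LP (LK LD1_c4 LD2_c19 LD3_c4)) = (LP (LK LD1_c2 LD2_c23 LD3_c28)) :=
  Lgr Lrot109 (Lpe (f259081 IH) (Lpe (f265945 IH) (Lpr_cf (K14.f180758 IH) (Lpe (f3364 IH) (Lpr_cf (K15.f265939 IH) (Lpe (K15.f33385 IH) (Lpe (K14.f33359 IH) (Lpe (K10.f1602 IH) (Lpr_ft (f265950 IH) (Lpn (LP (LK LD1_c2 LD2_c23 LD3_c28))))))))))))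
theorem f274669 : Led Lsl_gt (LP (LK LD1_c1 LD2_c8 LD3_c50)) = (LP (LK LD1_c2 LD2_c23 LD3_c7)) :=
  Lgr Lrot5 (Lpr_ft (f265950 IH) (Lpe (f265951 IH) (Lpr_gf (K16.f274667 IH) (Lpn (LP (LK LD1_c2 LD2_c23 LD3_c7))))))
theorem f274675 : Led Lsl_dt (LP (LK LD1_c4 LD2_c3 LD3_c5)) = (LP (LK LD1_c2 LD2_c34 LD3_c43)) :=
  Lgr Lrot27 (Lpe (K15.f265024 IH) (Lpr_gf (K16.f274667 IH) (Lpr_cf (f265627 IH) (Lpe (f274669 IH) (Lpe (K10.f33364 IH) (Lpr_gt (K10.f33350 IH) (Lpr_ct (K0.f3317 IH) (Lpr_gt (K10.f33365 IH) (Lpe (K14.f180758 IH) (Lpn (LP (LK LD1_c2 LD2_c34 LD3_c43))))))))))))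
theorem f194425 : Led Lsl_gt (LP (LK LD1_c4 LD2_c2 LD3_c61)) = (LP (LK LD1_c1 LD2_c58 LD3_c30)) :=
  Lre_g IH (LK LD1_c4 LD2_c2 LD3_c61) (LK LD1_c1 LD2_c58 LD3_c30) Lrfl Lrfl
theorem f274677 : Led Lsl_et (LP (LK LD1_c4 LD2_c3 LD3_c5)) = (LP (LK LD1_c4 LD2_c2 LD3_c61)) :=
  Lgr Lrot121 (Lpr_dt (f274675 IH) (Lpe (K12.f212443 IH) (Lpe (K1.f44040 IH) (Lpr_et (K10.f44039 IH) (Lpr_gf (K1.f44029 IH) (Lpe (K0.f31157 IH) (Lpr_dt (K0.f31163 IH) (Lpe (K12.f194439 IH) (Lpr_df (K12.f194422 IH) (Lpe (f194425 IH) (Lpn (LP (LK LD1_c4 LD2_c2 LD3_c61)))))))))))))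
theorem f194432 : Led Lsl_et (LP (LK LD1_c0 LD2_c56 LD3_c6)) = (LP (LK LD1_c1 LD2_c58 LD3_c30)) :=
  Lre_e IH (LK LD1_c0 LD2_c56 LD3_c6) (LK LD1_c1 LD2_c58 LD3_c30) Lrfl Lrfl
theorem f50808 : Led Lsl_dt (LP (LK LD1_c0 LD2_c56 LD3_c6)) = (LP (LK LD1_c1 LD2_c58 LD3_c29)) :=
  Lre_d IH (LK LD1_c0 LD2_c56 LD3_c6) (LK LD1_c1 LD2_c58 LD3_c29) Lrfl Lrfl
theorem f51040 : Led Lsl_gt (LP (LK LD1_c1 LD2_c58 LD3_c29)) = (LP (LK LD1_c4 LD2_c2 LD3_c57)) :=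
  Lre_g IH (LK LD1_c1 LD2_c58 LD3_c29) (LK LD1_c4 LD2_c2 LD3_c57) Lrfl Lrfl
theorem f283784 : Led Lsl_df (LP (LK LD1_c4 LD2_c2 LD3_c57)) = (LP (LK LD1_c2 LD2_c43 LD3_c55)) :=
  Lgr Lrot168 (Lpe (f51040 IH) (Lpe (f50808 IH) (Lpr_et (f194432 IH) (Lpe (f194425 IH) (Lpe (f274677 IH) (Lpr_dt (f274675 IH) (Lpe (K12.f212443 IH) (Lpe (K1.f44040 IH) (Lpe (f45871 IH) (Lpr_ef (f283778 IH) (Lpn (LP (LK LD1_c2 LD2_c43 LD3_c55)))))))))))))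
theorem f192480 : Led Lsl_dt (LP (LK LD1_c2 LD2_c28 LD3_c24)) = (LP (LK LD1_c5 LD2_c1 LD3_c23)) :=
  Lre_d IH (LK LD1_c2 LD2_c28 LD3_c24) (LK LD1_c5 LD2_c1 LD3_c23) Lrfl Lrfl
theorem f283790 : Led Lsl_gt (LP (LK LD1_c4 LD2_c2 LD3_c57)) = (LP (LK LD1_c1 LD2_c58 LD3_c32)) :=
  Lgr Lrot49 (Lpr_df (f283784 IH) (Lpe (K15.f216479 IH) (Lpe (K15.f171988 IH) (Lpr_gt (K15.f259135 IH) (Lpr_dt (f192480 IH) (Lpe (K15.f253000 IH) (Lpr_dt (K15.f187860 IH) (Lpe (K10.f192191 IH) (Lpe (K15.f187855 IH) (Lpn (LP (LK LD1_c1 LD2_c58 LD3_c32))))))))))))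
theorem f274679 : Led Lsl_et (LP (LK LD1_c0 LD2_c56 LD3_c7)) = (LP (LK LD1_c1 LD2_c58 LD3_c33)) :=
  Lre_e IH (LK LD1_c0 LD2_c56 LD3_c7) (LK LD1_c1 LD2_c58 LD3_c33) Lrfl Lrfl
theorem f283796 : Led Lsl_gt (LP (LK LD1_c1 LD2_c15 LD3_c16)) = (LP (LK LD1_c1 LD2_c58 LD3_c16)) :=
  Lgr Lrot131 (Lpr_ef (K1.f46054 IH) (Lpr_dt (K1.f45896 IH) (Lpe (K14.f248072 IH) (Lpe (f274675 IH) (Lpe (K15.f184818 IH) (Lpe (f274679 IH) (Lpr_dt (K14.f28065 IH) (Lpe (f283790 IH) (Lpr_df (f283784 IH) (Lpe (f283778 IH) (Lpn (LP (LK LD1_c1 LD2_c58 LD3_c16)))))))))))))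
theorem f283801 : Led Lsl_bt (LP (LK LD1_c2 LD2_c10 LD3_c45)) = (LP (LK LD1_c1 LD2_c58 LD3_c16)) :=
  Lgr Lrot92 (Lpr_ct (K14.f182073 IH) (Lpr_gt (K13.f191759 IH) (Lpe (K9.f31470 IH) (Lpe (K1.f31458 IH) (Lpr_gt (K14.f192982 IH) (Lpr_ct (K10.f184644 IH) (Lpe (K13.f193081 IH) (Lpr_cf (K1.f28284 IH) (Lpr_bt (K10.f28283 IH) (Lpr_gt (f283796 IH) (Lpn (LP (LK LD1_c1 LD2_c58 LD3_c16)))))))))))))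
theorem f192127 : Led Lsl_ct (LP (LK LD1_c2 LD2_c28 LD3_c61)) = (LP (LK LD1_c5 LD2_c2 LD3_c53)) :=
  Lre_c IH (LK LD1_c2 LD2_c28 LD3_c61) (LK LD1_c5 LD2_c2 LD3_c53) Lrfl Lrfl
theorem f278618 : Led Lsl_gt (LP (LK LD1_c1 LD2_c12 LD3_c59)) = (LP (LK LD1_c1 LD2_c11 LD3_c37)) :=
  Lgr Lrot9 (Lpe (K16.f275264 IH) (Lpr_gt (K16.f278609 IH) (Lpr_ct (f192127 IH) (Lpe (K16.f214942 IH) (Lpr_ct (K14.f46489 IH) (Lpe (K14.f46447 IH) (Lpr_cf (K10.f182070 IH) (Lpr_gf (K10.f191757 IH) (Lpr_cf (K14.f192544 IH) (Lpn (LP (LK LD1_c1 LD2_c11 LD3_c37))))))))))))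
theorem f283807 : Led Lsl_bf (LP (LK LD1_c1 LD2_c12 LD3_c59)) = (LP (LK LD1_c1 LD2_c9 LD3_c42)) :=
  Lgr Lrot165 (Lpr_gt (f278618 IH) (Lpe (K14.f192544 IH) (Lpe (K10.f191757 IH) (Lpe (K14.f182073 IH) (Lpr_bt (f283801 IH) (Lpr_gt (f45871 IH) (Lpr_bf (K1.f45862 IH) (Lpr_ct (K10.f28300 IH) (Lpr_gt (K9.f28274 IH) (Lpe (K14.f230429 IH) (Lpn (LP (LK LD1_c1 LD2_c9 LD3_c42)))))))))))))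
theorem f187537 : Led Lsl_bt (LP (LK LD1_c0 LD2_c35 LD3_c6)) = (LP (LK LD1_c1 LD2_c15 LD3_c41)) :=
  Lre_b IH (LK LD1_c0 LD2_c35 LD3_c6) (LK LD1_c1 LD2_c15 LD3_c41) Lrfl Lrfl
theorem f283809 : Led Lsl_ct (LP (LK LD1_c1 LD2_c12 LD3_c59)) = (LP (LK LD1_c0 LD2_c35 LD3_c6)) :=
  Lgr Lrot83 (Lpr_bf (f283807 IH) (Lpr_cf (K12.f230425 IH) (Lpe (K12.f230435 IH) (Lpe (K10.f187535 IH) (Lpe (f187537 IH) (Lpn (LP (LK LD1_c0 LD2_c35 LD3_c6))))))))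
theorem f278617 : Led Lsl_ct (LP (LK LD1_c5 LD2_c9 LD3_c29)) = (LP (LK LD1_c2 LD2_c31 LD3_c52)) :=
  Lre_c IH (LK LD1_c5 LD2_c9 LD3_c29) (LK LD1_c2 LD2_c31 LD3_c52) Lrfl Lrfl
theorem f283811 : Led Lsl_dt (LP (LK LD1_c10 LD2_c9 LD3_c41)) = (LP (LK LD1_c5 LD2_c9 LD3_c29)) :=
  Lre_d IH (LK LD1_c10 LD2_c9 LD3_c41) (LK LD1_c5 LD2_c9 LD3_c29) Lrfl Lrfl
theorem f249566 : Led Lsl_ct (LP (LK LD1_c5 LD2_c21 LD3_c34)) = (LP (LK LD1_c5 LD2_c2 LD3_c58)) :=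
  Lgr Lrot59 (Lpr_cf (K14.f249547 IH) (Lpn (LP (LK LD1_c5 LD2_c2 LD3_c58))))
theorem f194147 : Led Lsl_dt (LP (LK LD1_c2 LD2_c37 LD3_c25)) = (LP (LK LD1_c5 LD2_c21 LD3_c40)) :=
  Lre_d IH (LK LD1_c2 LD2_c37 LD3_c25) (LK LD1_c5 LD2_c21 LD3_c40) Lrfl Lrfl
theorem f283812 : Led Lsl_cf (LP (LK LD1_c10 LD2_c9 LD3_c41)) = (LP (LK LD1_c5 LD2_c21 LD3_c40)) :=
  Lgr Lrot55 (Lpr_dt (f283811 IH) (Lpr_ct (f278617 IH) (Lpr_dt (K16.f275264 IH) (Lpr_ct (f283809 IH) (Lpr_dt (K12.f8398 IH) (Lpr_ct (K12.f8399 IH) (Lpr_dt (K14.f198880 IH) (Lpr_ct (f249566 IH) (Lpr_dt (K14.f169976 IH) (Lpr_ct (K14.f169856 IH) (Lpr_dt (K12.f169858 IH) (Lpe (K10.f194139 IH) (Lpr_dt (K14.f41526 IH) (Lpr_ct (K15.f194146 IH) (Lpr_dt (f194147 IH) (Lpn (LP (LK LD1_c5 LD2_c21 LD3_c40))))))))))))))))))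
theorem f265552 : Led Lsl_ff (LP (LK LD1_c5 LD2_c9 LD3_c32)) = (LP (LK LD1_c2 LD2_c37 LD3_c25)) :=
  Lgr Lrot3 (Lpr_ft (K15.f265548 IH) (Lpn (LP (LK LD1_c2 LD2_c37 LD3_c25))))
theorem f283816 : Led Lsl_at (LP (LK LD1_c5 LD2_c9 LD3_c32)) = (LP (LK LD1_c2 LD2_c37 LD3_c23)) :=
  Lgr Lrot33 (Lpr_ff (f265552 IH) (Lpr_dt (f194147 IH) (Lpe (f283812 IH) (Lpr_dt (f283811 IH) (Lpr_ct (f278617 IH) (Lpr_dt (K16.f275264 IH) (Lpr_ct (f283809 IH) (Lpr_dt (K12.f8398 IH) (Lpr_ct (K12.f8399 IH) (Lpn (LP (LK LD1_c2 LD2_c37 LD3_c23))))))))))))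
theorem f191001 : Led Lsl_dt (LP (LK LD1_c10 LD2_c9 LD3_c47)) = (LP (LK LD1_c5 LD2_c9 LD3_c32)) :=
  Lre_d IH (LK LD1_c10 LD2_c9 LD3_c47) (LK LD1_c5 LD2_c9 LD3_c32) Lrfl Lrfl
theorem f283818 : Led Lsl_af (LP (LK LD1_c10 LD2_c9 LD3_c47)) = (LP (LK LD1_c5 LD2_c21 LD3_c34)) :=
  Lgr Lrot117 (Lpr_dt (f191001 IH) (Lpr_at (f283816 IH) (Lpr_dt (K14.f198880 IH) (Lpn (LP (LK LD1_c5 LD2_c21 LD3_c34))))))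
theorem f249543 : Led Lsl_at (LP (LK LD1_c9 LD2_c56 LD3_c27)) = (LP (LK LD1_c5 LD2_c2 LD3_c58)) :=
  Lre_a IH (LK LD1_c9 LD2_c56 LD3_c27) (LK LD1_c5 LD2_c2 LD3_c58) Lrfl Lrfl
theorem f283822 : Led Lsl_ct (LP (LK LD1_c10 LD2_c9 LD3_c47)) = (LP (LK LD1_c9 LD2_c56 LD3_c27)) :=
  Lgr Lrot111 (Lpr_af (f283818 IH) (Lpr_cf (K14.f249547 IH) (Lpe (f249543 IH) (Lpn (LP (LK LD1_c9 LD2_c56 LD3_c27))))))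
theorem f265008 : Led Lsl_gf (LP (LK LD1_c15 LD2_c0 LD3_c52)) = (LP (LK LD1_c10 LD2_c9 LD3_c47)) :=
  Lgr Lrot147 (Lpr_ct (K14.f43260 IH) (Lpe (K14.f215025 IH) (Lpr_ct (K14.f215254 IH) (Lpe (K14.f195845 IH) (Lpe (K14.f191020 IH) (Lpr_gf (K15.f265004 IH) (Lpe (K15.f256491 IH) (Lpe (K15.f183917 IH) (Lpe (f191001 IH) (Lpn (LP (LK LD1_c10 LD2_c9 LD3_c47))))))))))))
theorem f231403 : Led Lsl_dt (LP (LK LD1_c15 LD2_c0 LD3_c52)) = (LP (LK LD1_c8 LD2_c53 LD3_c54)) :=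
  Lgr Lrot27 (Lpe (K15.f43898 IH) (Lpr_gf (K14.f215348 IH) (Lpe (K14.f215336 IH) (Lpe (K14.f194900 IH) (Lpe (K14.f46471 IH) (Lpr_gt (K14.f194810 IH) (Lpe (K14.f194892 IH) (Lpe (K11.f195832 IH) (Lpr_ct (K13.f231384 IH) (Lpn (LP (LK LD1_c8 LD2_c53 LD3_c54))))))))))))
theorem f283842 : Led Lsl_gf (LP (LK LD1_c8 LD2_c52 LD3_c3)) = (LP (LK LD1_c9 LD2_c56 LD3_c27)) :=
  Lgr Lrot148 (Lpr_dt (K1.f44226 IH) (Lpr_gt (K10.f192927 IH) (Lpr_dt (K14.f192930 IH) (Lpr_ct (K14.f253393 IH) (Lpe (K14.f231402 IH) (Lpe (K13.f231383 IH) (Lpe (f231403 IH) (Lpr_gf (f265008 IH) (Lpr_ct (f283822 IH) (Lpn (LP (LK LD1_c9 LD2_c56 LD3_c27))))))))))))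
theorem f283845 : Led Lsl_gf (LP (LK LD1_c10 LD2_c9 LD3_c47)) = (LP (LK LD1_c9 LD2_c33 LD3_c21)) :=
  Lgr Lrot147 (Lpr_ct (f283822 IH) (Lpe (f283842 IH) (Lpr_ct (K10.f46418 IH) (Lpe (K1.f46409 IH) (Lpe (K1.f46408 IH) (Lpe (K13.f45820 IH) (Lpe (K14.f46513 IH) (Lpr_gf (K14.f231407 IH) (Lpe (K14.f43275 IH) (Lpn (LP (LK LD1_c9 LD2_c33 LD3_c21))))))))))))
theorem f215589 : Led Lsl_dt (LP (LK LD1_c5 LD2_c9 LD3_c36)) = (LP (LK LD1_c10 LD2_c9 LD3_c57)) :=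
  Lre_d IH (LK LD1_c5 LD2_c9 LD3_c36) (LK LD1_c10 LD2_c9 LD3_c57) Lrfl Lrfl
theorem f283853 : Led Lsl_cf (LP (LK LD1_c10 LD2_c33 LD3_c54)) = (LP (LK LD1_c10 LD2_c9 LD3_c57)) :=
  Lgr Lrot14 (Lpe (K15.f256311 IH) (Lpe (K15.f183917 IH) (Lpe (f191001 IH) (Lpr_gf (f283845 IH) (Lpe (K12.f214306 IH) (Lpr_gt (K14.f215342 IH) (Lpr_dt (K14.f191032 IH) (Lpr_gt (K15.f259707 IH) (Lpr_dt (f215589 IH) (Lpn (LP (LK LD1_c10 LD2_c9 LD3_c57))))))))))))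
theorem f215434 : Led Lsl_dt (LP (LK LD1_c10 LD2_c33 LD3_c19)) = (LP (LK LD1_c5 LD2_c21 LD3_c30)) :=
  Lre_d IH (LK LD1_c10 LD2_c33 LD3_c19) (LK LD1_c5 LD2_c21 LD3_c30) Lrfl Lrfl
theorem f31512 : Led Lsl_dt (LP (LK LD1_c7 LD2_c57 LD3_c31)) = (LP (LK LD1_c15 LD2_c0 LD3_c36)) :=
  Lre_d IH (LK LD1_c7 LD2_c57 LD3_c31) (LK LD1_c15 LD2_c0 LD3_c36) Lrfl Lrfl
theorem f283864 : Led Lsl_gt (LP (LK LD1_c15 LD2_c0 LD3_c36)) = (LP (LK LD1_c10 LD2_c9 LD3_c57)) :=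
  Lgr Lrot9 (Lpe (f31512 IH) (Lpe (K14.f214787 IH) (Lpr_ct (K14.f214130 IH) (Lpe (K12.f194152 IH) (Lpr_ct (K10.f165592 IH) (Lpe (K14.f3137 IH) (Lpr_cf (K14.f253383 IH) (Lpe (K15.f215815 IH) (Lpr_cf (f283853 IH) (Lpn (LP (LK LD1_c10 LD2_c9 LD3_c57))))))))))))
theorem f9019 : Led Lsl_dt (LP (LK LD1_c5 LD2_c20 LD3_c20)) = (LP (LK LD1_c10 LD2_c30 LD3_c41)) :=
  Lre_d IH (LK LD1_c5 LD2_c20 LD3_c20) (LK LD1_c10 LD2_c30 LD3_c41) Lrfl Lrfl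
theorem f215697 : Led Lsl_ct (LP (LK LD1_c15 LD2_c0 LD3_c36)) = (LP (LK LD1_c10 LD2_c30 LD3_c41)) :=
  Lgr Lrot7 (Lpe (f31512 IH) (Lpe (K14.f31503 IH) (Lpe (K12.f31518 IH) (Lpe (K14.f31519 IH) (Lpr_cf (K14.f215688 IH) (Lpr_gt (K14.f46434 IH) (Lpr_dt (K10.f46480 IH) (Lpr_gt (K10.f9018 IH) (Lpr_dt (f9019 IH) (Lpn (LP (LK LD1_c10 LD2_c30 LD3_c41))))))))))))
theorem f215701 : Led Lsl_cf (LP (LK LD1_c15 LD2_c0 LD3_c36)) = (LP (LK LD1_c10 LD2_c30 LD3_c41)) :=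
  Lgr Lrot11 (Lpr_ct (f215697 IH) (Lpn (LP (LK LD1_c10 LD2_c30 LD3_c41))))
theorem f283866 : Led Lsl_gt (LP (LK LD1_c10 LD2_c33 LD3_c19)) = (LP (LK LD1_c10 LD2_c30 LD3_c41)) :=
  Lgr Lrot146 (Lpr_dt (f215434 IH) (Lpr_gt (K14.f215432 IH) (Lpr_ct (K14.f187870 IH) (Lpr_gt (K14.f256401 IH) (Lpe (K15.f256547 IH) (Lpr_dt (K15.f256311 IH) (Lpr_cf (f283853 IH) (Lpe (f283864 IH) (Lpr_cf (f215701 IH) (Lpn (LP (LK LD1_c10 LD2_c30 LD3_c41))))))))))))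
theorem f44228 : Led Lsl_bt (LP (LK LD1_c2 LD2_c10 LD3_c46)) = (LP (LK LD1_c1 LD2_c2 LD3_c25)) :=
  Lre_b IH (LK LD1_c2 LD2_c10 LD3_c46) (LK LD1_c1 LD2_c2 LD3_c25) Lrfl Lrfl
theorem f249622 : Led Lsl_gt (LP (LK LD1_c5 LD2_c3 LD3_c42)) = (LP (LK LD1_c4 LD2_c27 LD3_c10)) :=
  Lgr Lrot149 (Lpe (K14.f166912 IH) (Lpr_gf (K14.f249618 IH) (Lpr_bf (K14.f214107 IH) (Lpe (K9.f184081 IH) (Lpr_gf (K12.f230416 IH) (Lpe (K12.f230278 IH) (Lpe (K12.f230561 IH) (Lpe (K12.f44078 IH) (Lpe (f44228 IH) (Lpr_ct (K1.f44223 IH) (Lpn (LP (LK LD1_c4 LD2_c27 LD3_c10)))))))))))))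
theorem f169847 : Led Lsl_cf (LP (LK LD1_c5 LD2_c5 LD3_c17)) = (LP (LK LD1_c5 LD2_c2 LD3_c56)) :=
  Lgr Lrot11 (Lpr_ct (K14.f169838 IH) (Lpn (LP (LK LD1_c5 LD2_c2 LD3_c56))))
theorem f169855 : Led Lsl_dt (LP (LK LD1_c9 LD2_c56 LD3_c41)) = (LP (LK LD1_c5 LD2_c2 LD3_c56)) :=
  Lre_d IH (LK LD1_c9 LD2_c56 LD3_c41) (LK LD1_c5 LD2_c2 LD3_c56) Lrfl Lrfl
theorem f261341 : Led Lsl_gt (LP (LK LD1_c9 LD2_c58 LD3_c14)) = (LP (LK LD1_c9 LD2_c56 LD3_c41)) :=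
  Lgr Lrot49 (Lpe (K14.f166913 IH) (Lpe (K15.f259978 IH) (Lpe (K10.f192903 IH) (Lpe (K10.f46405 IH) (Lpr_dt (K10.f45750 IH) (Lpr_gt (K15.f261333 IH) (Lpe (K14.f230828 IH) (Lpr_cf (f169847 IH) (Lpe (f169855 IH) (Lpn (LP (LK LD1_c9 LD2_c56 LD3_c41))))))))))))
theorem f283869 : Led Lsl_cf (LP (LK LD1_c10 LD2_c33 LD3_c19)) = (LP (LK LD1_c9 LD2_c56 LD3_c41)) :=
  Lgr Lrot169 (Lpr_gt (f283866 IH) (Lpe (f215701 IH) (Lpe (f31512 IH) (Lpe (K14.f214790 IH) (Lpe (K14.f44239 IH) (Lpe (K1.f44217 IH) (Lpe (f249622 IH) (Lpe (K14.f166899 IH) (Lpr_gt (f261341 IH) (Lpn (LP (LK LD1_c9 LD2_c56 LD3_c41))))))))))))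
theorem f187678 : Led Lsl_dt (LP (LK LD1_c10 LD2_c30 LD3_c41)) = (LP (LK LD1_c5 LD2_c20 LD3_c20)) :=
  Lre_d IH (LK LD1_c10 LD2_c30 LD3_c41) (LK LD1_c5 LD2_c20 LD3_c20) Lrfl Lrfl
theorem f259811 : Led Lsl_ct (LP (LK LD1_c5 LD2_c20 LD3_c22)) = (LP (LK LD1_c10 LD2_c10 LD3_c6)) :=
  Lgr Lrot98 (Lpe (K14.f46444 IH) (Lpe (K10.f42516 IH) (Lpe (K14.f41534 IH) (Lpe (K9.f46427 IH) (Lpe (K1.f44229 IH) (Lpe (K1.f44217 IH) (Lpe (K1.f44226 IH) (Lpr_ft (K14.f46423 IH) (Lpr_at (K15.f259772 IH) (Lpn (LP (LK LD1_c10 LD2_c10 LD3_c6))))))))))))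
theorem f259820 : Led Lsl_dt (LP (LK LD1_c5 LD2_c10 LD3_c30)) = (LP (LK LD1_c10 LD2_c10 LD3_c6)) :=
  Lgr Lrot27 (Lpe (K10.f192903 IH) (Lpe (K14.f46397 IH) (Lpr_cf (K14.f214914 IH) (Lpe (K14.f31503 IH) (Lpe (K12.f31518 IH) (Lpr_gt (K14.f44345 IH) (Lpe (K14.f215686 IH) (Lpr_gt (K14.f196040 IH) (Lpr_ct (f259811 IH) (Lpn (LP (LK LD1_c10 LD2_c10 LD3_c6))))))))))))
theorem f283880 : Led Lsl_gf (LP (LK LD1_c5 LD2_c10 LD3_c32)) = (LP (LK LD1_c9 LD2_c56 LD3_c41)) :=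
  Lgr Lrot144 (Lpr_dt (K14.f165248 IH) (Lpr_gt (K10.f192902 IH) (Lpr_dt (f259820 IH) (Lpe (f259811 IH) (Lpe (K14.f46444 IH) (Lpe (K10.f46449 IH) (Lpe (f187678 IH) (Lpe (f283866 IH) (Lpr_cf (f283869 IH) (Lpn (LP (LK LD1_c9 LD2_c56 LD3_c41))))))))))))
theorem f278600 : Led Lsl_ct (LP (LK LD1_c2 LD2_c31 LD3_c52)) = (LP (LK LD1_c5 LD2_c9 LD3_c29)) :=
  Lre_c IH (LK LD1_c2 LD2_c31 LD3_c52) (LK LD1_c5 LD2_c9 LD3_c29) Lrfl Lrfl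
theorem f169849 : Led Lsl_dt (LP (LK LD1_c5 LD2_c2 LD3_c56)) = (LP (LK LD1_c9 LD2_c56 LD3_c41)) :=
  Lre_d IH (LK LD1_c5 LD2_c2 LD3_c56) (LK LD1_c9 LD2_c56 LD3_c41) Lrfl Lrfl
theorem f283882 : Led Lsl_gt (LP (LK LD1_c5 LD2_c9 LD3_c29)) = (LP (LK LD1_c5 LD2_c2 LD3_c56)) :=
  Lgr Lrot94 (Lpe (f278600 IH) (Lpr_gt (K16.f278609 IH) (Lpe (K16.f278214 IH) (Lpe (K14.f254266 IH) (Lpr_dt (K14.f249613 IH) (Lpe (K14.f165247 IH) (Lpe (K14.f165248 IH) (Lpr_gf (f283880 IH) (Lpe (f169849 IH) (Lpn (LP (LK LD1_c5 LD2_c2 LD3_c56))))))))))))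
theorem f283893 : Led Lsl_dt (LP (LK LD1_c5 LD2_c9 LD3_c29)) = (LP (LK LD1_c10 LD2_c9 LD3_c41)) :=
  Lre_d IH (LK LD1_c5 LD2_c9 LD3_c29) (LK LD1_c10 LD2_c9 LD3_c41) Lrfl Lrfl
theorem f265006 : Led Lsl_gf (LP (LK LD1_c2 LD2_c34 LD3_c35)) = (LP (LK LD1_c5 LD2_c5 LD3_c17)) :=
  Lgr Lrot143 (Lpr_dt (K14.f190926 IH) (Lpe (K10.f191024 IH) (Lpe (K14.f27715 IH) (Lpr_gf (K15.f265004 IH) (Lpe (K14.f199575 IH) (Lpr_gf (K15.f256315 IH) (Lpe (K10.f46483 IH) (Lpr_gt (K15.f261333 IH) (Lpe (K14.f230828 IH) (Lpn (LP (LK LD1_c5 LD2_c5 LD3_c17))))))))))))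
theorem f283894 : Led Lsl_gt (LP (LK LD1_c10 LD2_c9 LD3_c41)) = (LP (LK LD1_c5 LD2_c22 LD3_c11)) :=
  Lgr Lrot9 (Lpe (f283893 IH) (Lpr_gt (f283882 IH) (Lpe (f169847 IH) (Lpe (f265006 IH) (Lpr_ct (K14.f195843 IH) (Lpe (K14.f191032 IH) (Lpe (K14.f215336 IH) (Lpe (K14.f194900 IH) (Lpe (K14.f46422 IH) (Lpn (LP (LK LD1_c5 LD2_c22 LD3_c11))))))))))))
theorem f166885 : Led Lsl_dt (LP (LK LD1_c2 LD2_c29 LD3_c21)) = (LP (LK LD1_c5 LD2_c3 LD3_c46)) :=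
  Lre_d IH (LK LD1_c2 LD2_c29 LD3_c21) (LK LD1_c5 LD2_c3 LD3_c46) Lrfl Lrfl
theorem f283910 : Led Lsl_ct (LP (LK LD1_c10 LD2_c9 LD3_c41)) = (LP (LK LD1_c5 LD2_c21 LD3_c40)) :=
  Lgr Lrot8 (Lpr_gt (f283894 IH) (Lpr_dt (K14.f190648 IH) (Lpr_gt (K10.f166892 IH) (Lpr_dt (f166885 IH) (Lpr_cf (K14.f253383 IH) (Lpe (K14.f189362 IH) (Lpe (K11.f191211 IH) (Lpr_df (K12.f215674 IH) (Lpe (K16.f215823 IH) (Lpn (LP (LK LD1_c5 LD2_c21 LD3_c40))))))))))))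
theorem f194141 : Led Lsl_at (LP (LK LD1_c1 LD2_c11 LD3_c38)) = (LP (LK LD1_c0 LD2_c33 LD3_c10)) :=
  Lre_a IH (LK LD1_c1 LD2_c11 LD3_c38) (LK LD1_c0 LD2_c33 LD3_c10) Lrfl Lrfl
theorem f283938 : Led Lsl_ft (LP (LK LD1_c1 LD2_c12 LD3_c59)) = (LP (LK LD1_c1 LD2_c11 LD3_c38)) :=
  Lgr Lrot142 (Lpr_dt (K16.f278614 IH) (Lpr_ct (f278600 IH) (Lpr_dt (f283893 IH) (Lpr_ct (f283910 IH) (Lpr_dt (K16.f195892 IH) (Lpr_ct (K15.f194151 IH) (Lpr_dt (K14.f190434 IH) (Lpr_ct (K11.f194144 IH) (Lpe (f194141 IH) (Lpn (LP (LK LD1_c1 LD2_c11 LD3_c38))))))))))))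
theorem f283958 : Led Lsl_ff (LP (LK LD1_c1 LD2_c12 LD3_c59)) = (LP (LK LD1_c1 LD2_c11 LD3_c38)) :=
  Lgr Lrot3 (Lpr_ft (f283938 IH) (Lpn (LP (LK LD1_c1 LD2_c11 LD3_c38))))
theorem f283964 : Led Lsl_gf (LP (LK LD1_c0 LD2_c54 LD3_c39)) = (LP (LK LD1_c1 LD2_c11 LD3_c38)) :=
  Lgr Lrot47 (Lpr_gt (K10.f192566 IH) (Lpe (K16.f192568 IH) (Lpr_ff (f283958 IH) (Lpn (LP (LK LD1_c1 LD2_c11 LD3_c38))))))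
theorem f283830 : Led Lsl_dt (LP (LK LD1_c2 LD2_c28 LD3_c58)) = (LP (LK LD1_c1 LD2_c11 LD3_c38)) :=
  Lre_d IH (LK LD1_c2 LD2_c28 LD3_c58) (LK LD1_c1 LD2_c11 LD3_c38) Lrfl Lrfl
theorem f257698 : Led Lsl_et (LP (LK LD1_c2 LD2_c28 LD3_c58)) = (LP (LK LD1_c5 LD2_c2 LD3_c49)) :=
  Lre_e IH (LK LD1_c2 LD2_c28 LD3_c58) (LK LD1_c5 LD2_c2 LD3_c49) Lrfl Lrfl
theorem f283978 : Led Lsl_gt (LP (LK LD1_c4 LD2_c55 LD3_c23)) = (LP (LK LD1_c5 LD2_c2 LD3_c49)) :=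
  Lgr Lrot131 (Lpe (K14.f251343 IH) (Lpr_dt (K14.f251307 IH) (Lpe (K14.f246661 IH) (Lpr_df (K14.f248470 IH) (Lpe (K14.f184044 IH) (Lpe (K9.f43913 IH) (Lpr_dt (K9.f43257 IH) (Lpr_gf (f283964 IH) (Lpe (f283830 IH) (Lpr_et (f257698 IH) (Lpn (LP (LK LD1_c5 LD2_c2 LD3_c49)))))))))))))
theorem f55084 : Led Lsl_et (LP (LK LD1_c2 LD2_c25 LD3_c34)) = (LP (LK LD1_c1 LD2_c9 LD3_c61)) :=
  Lre_e IH (LK LD1_c2 LD2_c25 LD3_c34) (LK LD1_c1 LD2_c9 LD3_c61) Lrfl Lrfl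
theorem f55097 : Led Lsl_at (LP (LK LD1_c1 LD2_c59 LD3_c42)) = (LP (LK LD1_c0 LD2_c56 LD3_c50)) :=
  Lre_a IH (LK LD1_c1 LD2_c59 LD3_c42) (LK LD1_c0 LD2_c56 LD3_c50) Lrfl Lrfl
theorem f55098 : Led Lsl_et (LP (LK LD1_c0 LD2_c56 LD3_c50)) = (LP (LK LD1_c0 LD2_c32 LD3_c22)) :=
  Lgr Lrot123 (Lpe (f55097 IH) (Lpr_ef (K1.f55092 IH) (Lpe (K9.f41067 IH) (Lpn (LP (LK LD1_c0 LD2_c32 LD3_c22))))))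
theorem f47264 : Led Lsl_dt (LP (LK LD1_c0 LD2_c56 LD3_c50)) = (LP (LK LD1_c0 LD2_c25 LD3_c46)) :=
  Lre_d IH (LK LD1_c0 LD2_c56 LD3_c50) (LK LD1_c0 LD2_c25 LD3_c46) Lrfl Lrfl
theorem f188097 : Led Lsl_et (LP (LK LD1_c8 LD2_c11 LD3_c8)) = (LP (LK LD1_c4 LD2_c5 LD3_c11)) :=
  Lre_e IH (LK LD1_c8 LD2_c11 LD3_c8) (LK LD1_c4 LD2_c5 LD3_c11) Lrfl Lrfl
theorem f284011 : Led Lsl_dt (LP (LK LD1_c8 LD2_c11 LD3_c8)) = (LP (LK LD1_c5 LD2_c2 LD3_c49)) :=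
  Lgr Lrot37 (Lpr_et (f188097 IH) (Lpr_gt (K15.f188085 IH) (Lpr_dt (K15.f47420 IH) (Lpr_gt (K10.f47419 IH) (Lpe (f47264 IH) (Lpr_et (f55098 IH) (Lpr_gt (K9.f168085 IH) (Lpe (f55084 IH) (Lpr_dt (K14.f55085 IH) (Lpr_gt (f283978 IH) (Lpn (LP (LK LD1_c5 LD2_c2 LD3_c49)))))))))))))
theorem f284017 : Led Lsl_df (LP (LK LD1_c8 LD2_c11 LD3_c8)) = (LP (LK LD1_c5 LD2_c2 LD3_c49)) :=
  Lgr Lrot38 (Lpr_dt (f284011 IH) (Lpn (LP (LK LD1_c5 LD2_c2 LD3_c49))))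
theorem f230899 : Led Lsl_gt (LP (LK LD1_c8 LD2_c11 LD3_c8)) = (LP (LK LD1_c15 LD2_c24 LD3_c42)) :=
  Lre_g IH (LK LD1_c8 LD2_c11 LD3_c8) (LK LD1_c15 LD2_c24 LD3_c42) Lrfl Lrfl
theorem f248485 : Led Lsl_gt (LP (LK LD1_c5 LD2_c3 LD3_c22)) = (LP (LK LD1_c2 LD2_c29 LD3_c13)) :=
  Lre_g IH (LK LD1_c5 LD2_c3 LD3_c22) (LK LD1_c2 LD2_c29 LD3_c13) Lrfl Lrfl
theorem f248486 : Led Lsl_et (LP (LK LD1_c9 LD2_c57 LD3_c42)) = (LP (LK LD1_c5 LD2_c3 LD3_c22)) :=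
  Lre_e IH (LK LD1_c9 LD2_c57 LD3_c42) (LK LD1_c5 LD2_c3 LD3_c22) Lrfl Lrfl
theorem f284035 : Led Lsl_df (LP (LK LD1_c15 LD2_c24 LD3_c42)) = (LP (LK LD1_c9 LD2_c57 LD3_c42)) :=
  Lgr Lrot132 (Lpe (f230899 IH) (Lpr_df (f284017 IH) (Lpe (f283978 IH) (Lpe (K14.f251343 IH) (Lpr_dt (K14.f251307 IH) (Lpe (K14.f246661 IH) (Lpr_df (K14.f248470 IH) (Lpr_et (K14.f248484 IH) (Lpe (f248485 IH) (Lpe (f248486 IH) (Lpn (LP (LK LD1_c9 LD2_c57 LD3_c42)))))))))))))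
theorem f250410 : Led Lsl_et (LP (LK LD1_c5 LD2_c3 LD3_c22)) = (LP (LK LD1_c9 LD2_c57 LD3_c42)) :=
  Lre_e IH (LK LD1_c5 LD2_c3 LD3_c22) (LK LD1_c9 LD2_c57 LD3_c42) Lrfl Lrfl
theorem f250397 : Led Lsl_dt (LP (LK LD1_c9 LD2_c57 LD3_c41)) = (LP (LK LD1_c5 LD2_c3 LD3_c22)) :=
  Lre_d IH (LK LD1_c9 LD2_c57 LD3_c41) (LK LD1_c5 LD2_c3 LD3_c22) Lrfl Lrfl
theorem f235773 : Led Lsl_et (LP (LK LD1_c4 LD2_c30 LD3_c54)) = (LP (LK LD1_c2 LD2_c12 LD3_c21)) :=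
  Lre_e IH (LK LD1_c4 LD2_c30 LD3_c54) (LK LD1_c2 LD2_c12 LD3_c21) Lrfl Lrfl
theorem f55063 : Led Lsl_at (LP (LK LD1_c8 LD2_c10 LD3_c61)) = (LP (LK LD1_c4 LD2_c5 LD3_c27)) :=
  Lre_a IH (LK LD1_c8 LD2_c10 LD3_c61) (LK LD1_c4 LD2_c5 LD3_c27) Lrfl Lrfl
theorem f47980 : Led Lsl_gt (LP (LK LD1_c8 LD2_c11 LD3_c52)) = (LP (LK LD1_c4 LD2_c5 LD3_c27)) :=
  Lre_g IH (LK LD1_c8 LD2_c11 LD3_c52) (LK LD1_c4 LD2_c5 LD3_c27) Lrfl Lrfl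
theorem f55073 : Led Lsl_gf (LP (LK LD1_c8 LD2_c11 LD3_c52)) = (LP (LK LD1_c4 LD2_c54 LD3_c42)) :=
  Lgr Lrot47 (Lpr_gt (f47980 IH) (Lpe (f55063 IH) (Lpr_ff (K1.f55060 IH) (Lpn (LP (LK LD1_c4 LD2_c54 LD3_c42))))))
theorem f250399 : Led Lsl_et (LP (LK LD1_c9 LD2_c57 LD3_c41)) = (LP (LK LD1_c8 LD2_c11 LD3_c52)) :=
  Lgr Lrot122 (Lpr_dt (f250397 IH) (Lpr_gt (f248485 IH) (Lpr_df (K14.f250353 IH) (Lpr_et (f235773 IH) (Lpr_gt (K15.f235747 IH) (Lpr_dt (K14.f55082 IH) (Lpr_gt (K12.f41408 IH) (Lpe (K12.f41403 IH) (Lpr_et (K1.f41123 IH) (Lpe (f55073 IH) (Lpn (LP (LK LD1_c8 LD2_c11 LD3_c52)))))))))))))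
theorem f250405 : Led Lsl_ef (LP (LK LD1_c9 LD2_c57 LD3_c41)) = (LP (LK LD1_c8 LD2_c11 LD3_c52)) :=
  Lgr Lrot88 (Lpr_et (f250399 IH) (Lpn (LP (LK LD1_c8 LD2_c11 LD3_c52))))
theorem f47981 : Led Lsl_dt (LP (LK LD1_c15 LD2_c25 LD3_c61)) = (LP (LK LD1_c8 LD2_c11 LD3_c52)) :=
  Lre_d IH (LK LD1_c15 LD2_c25 LD3_c61) (LK LD1_c8 LD2_c11 LD3_c52) Lrfl Lrfl
theorem f284054 : Led Lsl_et (LP (LK LD1_c15 LD2_c24 LD3_c42)) = (LP (LK LD1_c15 LD2_c25 LD3_c61)) :=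
  Lgr Lrot71 (Lpr_df (f284035 IH) (Lpe (f250410 IH) (Lpe (f250397 IH) (Lpr_ef (f250405 IH) (Lpe (f47981 IH) (Lpn (LP (LK LD1_c15 LD2_c25 LD3_c61))))))))
theorem f284059 : Led Lsl_ef (LP (LK LD1_c15 LD2_c24 LD3_c42)) = (LP (LK LD1_c15 LD2_c25 LD3_c61)) :=
  Lgr Lrot88 (Lpr_et (f284054 IH) (Lpn (LP (LK LD1_c15 LD2_c25 LD3_c61))))
theorem f230904 : Led Lsl_et (LP (LK LD1_c4 LD2_c5 LD3_c11)) = (LP (LK LD1_c8 LD2_c11 LD3_c8)) :=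
  Lre_e IH (LK LD1_c4 LD2_c5 LD3_c11) (LK LD1_c8 LD2_c11 LD3_c8) Lrfl Lrfl
theorem f283952 : Led Lsl_dt (LP (LK LD1_c1 LD2_c11 LD3_c38)) = (LP (LK LD1_c2 LD2_c28 LD3_c58)) :=
  Lre_d IH (LK LD1_c1 LD2_c11 LD3_c38) (LK LD1_c2 LD2_c28 LD3_c58) Lrfl Lrfl
theorem f283961 : Led Lsl_et (LP (LK LD1_c2 LD2_c28 LD3_c59)) = (LP (LK LD1_c1 LD2_c11 LD3_c38)) :=
  Lre_e IH (LK LD1_c2 LD2_c28 LD3_c59) (LK LD1_c1 LD2_c11 LD3_c38) Lrfl Lrfl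
theorem f284033 : Led Lsl_dt (LP (LK LD1_c4 LD2_c5 LD3_c11)) = (LP (LK LD1_c2 LD2_c28 LD3_c59)) :=
  Lgr Lrot77 (Lpe (f188097 IH) (Lpr_df (f284017 IH) (Lpe (f257698 IH) (Lpe (f283952 IH) (Lpe (f283961 IH) (Lpn (LP (LK LD1_c2 LD2_c28 LD3_c59))))))))
theorem f47425 : Led Lsl_et (LP (LK LD1_c4 LD2_c5 LD3_c27)) = (LP (LK LD1_c1 LD2_c59 LD3_c54)) :=
  Lre_e IH (LK LD1_c4 LD2_c5 LD3_c27) (LK LD1_c1 LD2_c59 LD3_c54) Lrfl Lrfl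
theorem f47426 : Led Lsl_et (LP (LK LD1_c1 LD2_c59 LD3_c54)) = (LP (LK LD1_c4 LD2_c5 LD3_c27)) :=
  Lre_e IH (LK LD1_c1 LD2_c59 LD3_c54) (LK LD1_c4 LD2_c5 LD3_c27) Lrfl Lrfl
theorem f47427 : Led Lsl_df (LP (LK LD1_c4 LD2_c5 LD3_c27)) = (LP (LK LD1_c4 LD2_c5 LD3_c27)) :=
  Lgr Lrot70 (Lpr_et (f47425 IH) (Lpr_dt (K10.f47099 IH) (Lpr_et (K1.f47188 IH) (Lpr_dt (K10.f47185 IH) (Lpr_et (f47426 IH) (Lpn (LP (LK LD1_c4 LD2_c5 LD3_c27))))))))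
theorem f284063 : Led Lsl_gf (LP (LK LD1_c2 LD2_c28 LD3_c59)) = (LP (LK LD1_c1 LD2_c55 LD3_c57)) :=
  Lgr Lrot134 (Lpe (f284033 IH) (Lpr_et (f230904 IH) (Lpr_gt (f230899 IH) (Lpr_ef (f284059 IH) (Lpr_dt (f47981 IH) (Lpr_gt (f47980 IH) (Lpr_df (f47427 IH) (Lpr_et (f47425 IH) (Lpe (K10.f47960 IH) (Lpr_dt (K10.f47966 IH) (Lpn (LP (LK LD1_c1 LD2_c55 LD3_c57)))))))))))))
theorem f46465 : Led Lsl_ct (LP (LK LD1_c5 LD2_c21 LD3_c44)) = (LP (LK LD1_c2 LD2_c37 LD3_c27)) :=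
  Lre_c IH (LK LD1_c5 LD2_c21 LD3_c44) (LK LD1_c2 LD2_c37 LD3_c27) Lrfl Lrfl
theorem f284070 : Led Lsl_ct (LP (LK LD1_c2 LD2_c28 LD3_c59)) = (LP (LK LD1_c2 LD2_c2 LD3_c22)) :=
  Lgr Lrot152 (Lpr_gf (f284063 IH) (Lpe (K10.f47966 IH) (Lpr_gt (K10.f47954 IH) (Lpr_ct (K1.f47195 IH) (Lpe (K10.f187498 IH) (Lpr_ct (f46465 IH) (Lpe (K14.f253286 IH) (Lpe (K14.f247555 IH) (Lpe (K14.f230786 IH) (Lpn (LP (LK LD1_c2 LD2_c2 LD3_c22))))))))))))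
theorem f284084 : Led Lsl_bt (LP (LK LD1_c2 LD2_c28 LD3_c59)) = (LP (LK LD1_c2 LD2_c25 LD3_c4)) :=
  Lgr Lrot130 (Lpr_ct (f284070 IH) (Lpe (K16.f170657 IH) (Lpe (K12.f170682 IH) (Lpr_bt (K11.f170649 IH) (Lpe (K12.f170847 IH) (Lpe (K14.f232877 IH) (Lpr_ct (K13.f232869 IH) (Lpe (K14.f256086 IH) (Lpr_cf (K14.f256080 IH) (Lpr_gf (K14.f251677 IH) (Lpn (LP (LK LD1_c2 LD2_c25 LD3_c4)))))))))))))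
theorem f180059 : Led Lsl_et (LP (LK LD1_c2 LD2_c3 LD3_c43)) = (LP (LK LD1_c2 LD2_c44 LD3_c26)) :=
  Lgr Lrot87 (Lpr_ef (K16.f180055 IH) (Lpn (LP (LK LD1_c2 LD2_c44 LD3_c26))))
theorem f283962 : Led Lsl_ft (LP (LK LD1_c2 LD2_c44 LD3_c26)) = (LP (LK LD1_c2 LD2_c28 LD3_c59)) :=
  Lgr Lrot86 (Lpe (f180059 IH) (Lpr_ff (K16.f276631 IH) (Lpe (K16.f278629 IH) (Lpr_ff (f283958 IH) (Lpe (f283961 IH) (Lpn (LP (LK LD1_c2 LD2_c28 LD3_c59))))))))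
theorem f284086 : Led Lsl_bf (LP (LK LD1_c2 LD2_c44 LD3_c26)) = (LP (LK LD1_c4 LD2_c19 LD3_c8)) :=
  Lgr Lrot61 (Lpr_ft (f283962 IH) (Lpr_bt (f284084 IH) (Lpr_ft (K14.f256120 IH) (Lpn (LP (LK LD1_c4 LD2_c19 LD3_c8))))))
theorem f249228 : Led Lsl_ft (LP (LK LD1_c2 LD2_c36 LD3_c38)) = (LP (LK LD1_c1 LD2_c15 LD3_c18)) :=
  Lre_f IH (LK LD1_c2 LD2_c36 LD3_c38) (LK LD1_c1 LD2_c15 LD3_c18) Lrfl Lrfl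
theorem f256229 : Led Lsl_cf (LP (LK LD1_c2 LD2_c36 LD3_c38)) = (LP (LK LD1_c4 LD2_c19 LD3_c8)) :=
  Lgr Lrot108 (Lpr_ft (f249228 IH) (Lpe (K14.f230549 IH) (Lpr_ft (K14.f256120 IH) (Lpn (LP (LK LD1_c4 LD2_c19 LD3_c8))))))
theorem f284094 : Led Lsl_gf (LP (LK LD1_c1 LD2_c15 LD3_c27)) = (LP (LK LD1_c2 LD2_c36 LD3_c38)) :=
  Lgr Lrot126 (Lpe (K10.f171990 IH) (Lpr_bt (K15.f171987 IH) (Lpe (K14.f256088 IH) (Lpe (K14.f230549 IH) (Lpe (K14.f251677 IH) (Lpe (K14.f256076 IH) (Lpr_bt (K14.f28379 IH) (Lpr_gt (K16.f278195 IH) (Lpr_bf (f284086 IH) (Lpe (f256229 IH) (Lpn (LP (LK LD1_c2 LD2_c36 LD3_c38)))))))))))))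
theorem f7954 : Led Lsl_at (LP (LK LD1_c1 LD2_c9 LD3_c28)) = (LP (LK LD1_c2 LD2_c24 LD3_c43)) :=
  Lre_a IH (LK LD1_c1 LD2_c9 LD3_c28) (LK LD1_c2 LD2_c24 LD3_c43) Lrfl Lrfl
theorem f274438 : Led Lsl_et (LP (LK LD1_c2 LD2_c24 LD3_c43)) = (LP (LK LD1_c2 LD2_c36 LD3_c38)) :=
  Lgr Lrot123 (Lpe (f7954 IH) (Lpr_ef (K15.f184391 IH) (Lpr_af (K16.f274431 IH) (Lpn (LP (LK LD1_c2 LD2_c36 LD3_c38))))))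
theorem f7953 : Led Lsl_at (LP (LK LD1_c2 LD2_c6 LD3_c10)) = (LP (LK LD1_c1 LD2_c0 LD3_c6)) :=
  Lre_a IH (LK LD1_c2 LD2_c6 LD3_c10) (LK LD1_c1 LD2_c0 LD3_c6) Lrfl Lrfl
theorem f7955 : Led Lsl_df (LP (LK LD1_c2 LD2_c6 LD3_c10)) = (LP (LK LD1_c2 LD2_c24 LD3_c43)) :=
  Lgr Lrot18 (Lpr_at (f7953 IH) (Lpr_dt (K14.f7928 IH) (Lpr_at (f7954 IH) (Lpn (LP (LK LD1_c2 LD2_c24 LD3_c43))))))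
theorem f284106 : Led Lsl_gt (LP (LK LD1_c1 LD2_c24 LD3_c52)) = (LP (LK LD1_c2 LD2_c6 LD3_c10)) :=
  Lgr Lrot112 (Lpe (K11.f29022 IH) (Lpr_et (K1.f29026 IH) (Lpe (K0.f418 IH) (Lpe (K9.f41820 IH) (Lpr_dt (K9.f42113 IH) (Lpe (K9.f42114 IH) (Lpe (K9.f42135 IH) (Lpr_gf (f284094 IH) (Lpe (f274438 IH) (Lpe (f7955 IH) (Lpn (LP (LK LD1_c2 LD2_c6 LD3_c10)))))))))))))
theorem f238637 : Led Lsl_bt (LP (LK LD1_c4 LD2_c19 LD3_c15)) = (LP (LK LD1_c4 LD2_c17 LD3_c21)) :=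
  Lgr Lrot127 (Lpr_bf (K14.f238632 IH) (Lpn (LP (LK LD1_c4 LD2_c17 LD3_c21))))
theorem f247352 : Led Lsl_dt (LP (LK LD1_c4 LD2_c17 LD3_c21)) = (LP (LK LD1_c2 LD2_c11 LD3_c11)) :=
  Lgr Lrot79 (Lpe (f238637 IH) (Lpe (K13.f228069 IH) (Lpr_bf (K14.f247344 IH) (Lpn (LP (LK LD1_c2 LD2_c11 LD3_c11))))))
theorem f247396 : Led Lsl_gt (LP (LK LD1_c4 LD2_c28 LD3_c2)) = (LP (LK LD1_c2 LD2_c11 LD3_c11)) :=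
  Lre_g IH (LK LD1_c4 LD2_c28 LD3_c2) (LK LD1_c2 LD2_c11 LD3_c11) Lrfl Lrfl
theorem f7981 : Led Lsl_et (LP (LK LD1_c4 LD2_c17 LD3_c38)) = (LP (LK LD1_c2 LD2_c6 LD3_c10)) :=
  Lre_e IH (LK LD1_c4 LD2_c17 LD3_c38) (LK LD1_c2 LD2_c6 LD3_c10) Lrfl Lrfl
theorem f284116 : Led Lsl_df (LP (LK LD1_c4 LD2_c28 LD3_c2)) = (LP (LK LD1_c4 LD2_c17 LD3_c38)) :=
  Lgr Lrot170 (Lpr_gt (f247396 IH) (Lpe (f247352 IH) (Lpr_et (K14.f7878 IH) (Lpr_gt (K14.f7877 IH) (Lpr_dt (K12.f7815 IH) (Lpe (K11.f199580 IH) (Lpe (K9.f41895 IH) (Lpe (K1.f42077 IH) (Lpr_gt (f284106 IH) (Lpe (f7981 IH) (Lpn (LP (LK LD1_c4 LD2_c17 LD3_c38)))))))))))))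
theorem f267062 : Led Lsl_gf (LP (LK LD1_c4 LD2_c28 LD3_c2)) = (LP (LK LD1_c8 LD2_c52 LD3_c57)) :=
  Lgr Lrot47 (Lpr_gt (f247396 IH) (Lpr_af (K15.f267047 IH) (Lpe (K15.f182296 IH) (Lpn (LP (LK LD1_c8 LD2_c52 LD3_c57))))))
theorem f182294 : Led Lsl_df (LP (LK LD1_c8 LD2_c52 LD3_c57)) = (LP (LK LD1_c8 LD2_c20 LD3_c34)) :=
  Lgr Lrot38 (Lpr_dt (K15.f182277 IH) (Lpn (LP (LK LD1_c8 LD2_c20 LD3_c34))))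
theorem f284110 : Led Lsl_gf (LP (LK LD1_c2 LD2_c2 LD3_c34)) = (LP (LK LD1_c2 LD2_c6 LD3_c10)) :=
  Lgr Lrot76 (Lpe (K13.f232728 IH) (Lpr_ff (K13.f232736 IH) (Lpr_gt (f284106 IH) (Lpn (LP (LK LD1_c2 LD2_c6 LD3_c10))))))
theorem f187025 : Led Lsl_et (LP (LK LD1_c0 LD2_c58 LD3_c13)) = (LP (LK LD1_c2 LD2_c2 LD3_c39)) :=
  Lre_e IH (LK LD1_c0 LD2_c58 LD3_c13) (LK LD1_c2 LD2_c2 LD3_c39) Lrfl Lrfl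
theorem f187041 : Led Lsl_gt (LP (LK LD1_c2 LD2_c2 LD3_c39)) = (LP (LK LD1_c4 LD2_c10 LD3_c49)) :=
  Lre_g IH (LK LD1_c2 LD2_c2 LD3_c39) (LK LD1_c4 LD2_c10 LD3_c49) Lrfl Lrfl
theorem f284134 : Led Lsl_et (LP (LK LD1_c8 LD2_c20 LD3_c34)) = (LP (LK LD1_c4 LD2_c10 LD3_c49)) :=
  Lgr Lrot122 (Lpe (f182294 IH) (Lpe (f267062 IH) (Lpr_df (f284116 IH) (Lpr_et (f7981 IH) (Lpe (f284110 IH) (Lpr_dt (K11.f187010 IH) (Lpr_gt (K10.f171164 IH) (Lpe (K14.f167111 IH) (Lpr_et (f187025 IH) (Lpr_gt (f187041 IH) (Lpn (LP (LK LD1_c4 LD2_c10 LD3_c49)))))))))))))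
theorem f182280 : Led Lsl_ft (LP (LK LD1_c4 LD2_c10 LD3_c12)) = (LP (LK LD1_c8 LD2_c20 LD3_c34)) :=
  Lre_f IH (LK LD1_c4 LD2_c10 LD3_c12) (LK LD1_c8 LD2_c20 LD3_c34) Lrfl Lrfl
theorem f267463 : Led Lsl_ff (LP (LK LD1_c2 LD2_c2 LD3_c18)) = (LP (LK LD1_c2 LD2_c5 LD3_c61)) :=
  Lgr Lrot25 (Lpr_bt (K15.f260797 IH) (Lpr_ft (K15.f267461 IH) (Lpr_bt (K15.f166490 IH) (Lpn (LP (LK LD1_c2 LD2_c5 LD3_c61))))))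
theorem f7875 : Led Lsl_et (LP (LK LD1_c4 LD2_c17 LD3_c19)) = (LP (LK LD1_c2 LD2_c5 LD3_c61)) :=
  Lre_e IH (LK LD1_c4 LD2_c17 LD3_c19) (LK LD1_c2 LD2_c5 LD3_c61) Lrfl Lrfl
theorem f284146 : Led Lsl_ff (LP (LK LD1_c4 LD2_c17 LD3_c19)) = (LP (LK LD1_c4 LD2_c10 LD3_c49)) :=
  Lgr Lrot72 (Lpr_et (f7875 IH) (Lpe (f267463 IH) (Lpr_et (K15.f182264 IH) (Lpr_ft (f182280 IH) (Lpr_et (f284134 IH) (Lpn (LP (LK LD1_c4 LD2_c10 LD3_c49))))))))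
theorem f276733 : Led Lsl_af (LP (LK LD1_c4 LD2_c10 LD3_c14)) = (LP (LK LD1_c4 LD2_c17 LD3_c19)) :=
  Lgr Lrot117 (Lpe (K16.f275287 IH) (Lpr_at (K14.f254395 IH) (Lpr_dt (K16.f276729 IH) (Lpn (LP (LK LD1_c4 LD2_c17 LD3_c19))))))
theorem f284162 : Led Lsl_df (LP (LK LD1_c5 LD2_c21 LD3_c53)) = (LP (LK LD1_c4 LD2_c10 LD3_c49)) :=
  Lgr Lrot157 (Lpr_ct (K14.f253352 IH) (Lpr_dt (K16.f228523 IH) (Lpr_ct (K16.f228534 IH) (Lpr_dt (K16.f275298 IH) (Lpr_ct (K16.f275291 IH) (Lpr_dt (K16.f233307 IH) (Lpr_ct (K16.f233308 IH) (Lpr_af (f276733 IH) (Lpr_ff (f284146 IH) (Lpn (LP (LK LD1_c4 LD2_c10 LD3_c49))))))))))))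
theorem f284170 : Led Lsl_et (LP (LK LD1_c4 LD2_c27 LD3_c58)) = (LP (LK LD1_c8 LD2_c52 LD3_c57)) :=
  Lgr Lrot71 (Lpe (K14.f231353 IH) (Lpr_ef (K14.f253355 IH) (Lpr_df (f284162 IH) (Lpe (f284134 IH) (Lpe (K15.f182277 IH) (Lpn (LP (LK LD1_c8 LD2_c52 LD3_c57))))))))
theorem f284194 : Led Lsl_ft (LP (LK LD1_c2 LD2_c11 LD3_c6)) = (LP (LK LD1_c4 LD2_c27 LD3_c58)) :=
  Lre_f IH (LK LD1_c2 LD2_c11 LD3_c6) (LK LD1_c4 LD2_c27 LD3_c58) Lrfl Lrfl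
theorem f41727 : Led Lsl_et (LP (LK LD1_c1 LD2_c2 LD3_c34)) = (LP (LK LD1_c2 LD2_c11 LD3_c6)) :=
  Lre_e IH (LK LD1_c1 LD2_c2 LD3_c34) (LK LD1_c2 LD2_c11 LD3_c6) Lrfl Lrfl
theorem f284195 : Led Lsl_ff (LP (LK LD1_c1 LD2_c2 LD3_c34)) = (LP (LK LD1_c2 LD2_c10 LD3_c58)) :=
  Lgr Lrot72 (Lpr_et (f41727 IH) (Lpr_ft (f284194 IH) (Lpr_et (f284170 IH) (Lpr_ft (K15.f182296 IH) (Lpr_et (K15.f182263 IH) (Lpn (LP (LK LD1_c2 LD2_c10 LD3_c58))))))))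
theorem f284204 : Led Lsl_ft (LP (LK LD1_c1 LD2_c2 LD3_c34)) = (LP (LK LD1_c2 LD2_c10 LD3_c58)) :=
  Lgr Lrot48 (Lpr_ff (f284195 IH) (Lpn (LP (LK LD1_c2 LD2_c10 LD3_c58))))
theorem f284208 : Led Lsl_ff (LP (LK LD1_c0 LD2_c28 LD3_c31)) = (LP (LK LD1_c1 LD2_c2 LD3_c30)) :=
  Lgr Lrot19 (Lpr_dt (K14.f219627 IH) (Lpr_ft (f284204 IH) (Lpr_dt (K15.f41776 IH) (Lpn (LP (LK LD1_c1 LD2_c2 LD3_c30))))))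
theorem f261098 : Led Lsl_at (LP (LK LD1_c0 LD2_c28 LD3_c32)) = (LP (LK LD1_c1 LD2_c2 LD3_c30)) :=
  Lgr Lrot107 (Lpe (K16.f216824 IH) (Lpe (K15.f250284 IH) (Lpr_cf (K15.f261091 IH) (Lpn (LP (LK LD1_c1 LD2_c2 LD3_c30))))))
theorem f267085 : Led Lsl_ff (LP (LK LD1_c0 LD2_c28 LD3_c32)) = (LP (LK LD1_c0 LD2_c56 LD3_c10)) :=
  Lgr Lrot19 (Lpr_dt (K14.f168604 IH) (Lpr_ft (K15.f267081 IH) (Lpr_dt (K12.f199027 IH) (Lpn (LP (LK LD1_c0 LD2_c56 LD3_c10))))))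
theorem f284212 : Led Lsl_at (LP (LK LD1_c0 LD2_c28 LD3_c31)) = (LP (LK LD1_c0 LD2_c56 LD3_c10)) :=
  Lgr Lrot66 (Lpr_ff (f284208 IH) (Lpe (f261098 IH) (Lpr_ff (f267085 IH) (Lpn (LP (LK LD1_c0 LD2_c56 LD3_c10))))))
theorem f284218 : Led Lsl_af (LP (LK LD1_c0 LD2_c31 LD3_c35)) = (LP (LK LD1_c0 LD2_c25 LD3_c29)) :=
  Lgr Lrot36 (Lpe (K12.f170606 IH) (Lpr_at (K15.f256784 IH) (Lpr_bt (K12.f171914 IH) (Lpr_at (f284212 IH) (Lpr_bt (K12.f53057 IH) (Lpn (LP (LK LD1_c0 LD2_c25 LD3_c29))))))))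
theorem f284220 : Led Lsl_at (LP (LK LD1_c0 LD2_c31 LD3_c35)) = (LP (LK LD1_c0 LD2_c25 LD3_c29)) :=
  Lgr Lrot100 (Lpr_af (f284218 IH) (Lpn (LP (LK LD1_c0 LD2_c25 LD3_c29))))
theorem f284226 : Led Lsl_af (LP (LK LD1_c1 LD2_c9 LD3_c5)) = (LP (LK LD1_c0 LD2_c56 LD3_c11)) :=
  Lgr Lrot117 (Lpr_dt (K10.f2881 IH) (Lpr_at (f284220 IH) (Lpr_dt (K9.f28822 IH) (Lpn (LP (LK LD1_c0 LD2_c56 LD3_c11))))))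
theorem f170828 : Led Lsl_et (LP (LK LD1_c1 LD2_c9 LD3_c5)) = (LP (LK LD1_c2 LD2_c24 LD3_c8)) :=
  Lre_e IH (LK LD1_c1 LD2_c9 LD3_c5) (LK LD1_c2 LD2_c24 LD3_c8) Lrfl Lrfl
theorem f28873 : Led Lsl_et (LP (LK LD1_c1 LD2_c58 LD3_c43)) = (LP (LK LD1_c0 LD2_c56 LD3_c11)) :=
  Lre_e IH (LK LD1_c1 LD2_c58 LD3_c43) (LK LD1_c0 LD2_c56 LD3_c11) Lrfl Lrfl
theorem f284230 : Led Lsl_at (LP (LK LD1_c2 LD2_c24 LD3_c8)) = (LP (LK LD1_c1 LD2_c58 LD3_c43)) :=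
  Lgr Lrot80 (Lpe (f170828 IH) (Lpr_af (f284226 IH) (Lpe (f28873 IH) (Lpn (LP (LK LD1_c1 LD2_c58 LD3_c43))))))
theorem f42392 : Led Lsl_ct (LP (LK LD1_c8 LD2_c53 LD3_c17)) = (LP (LK LD1_c4 LD2_c27 LD3_c43)) :=
  Lre_c IH (LK LD1_c8 LD2_c53 LD3_c17) (LK LD1_c4 LD2_c27 LD3_c43) Lrfl Lrfl
theorem f170728 : Led Lsl_ct (LP (LK LD1_c4 LD2_c10 LD3_c7)) = (LP (LK LD1_c8 LD2_c20 LD3_c26)) :=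
  Lre_c IH (LK LD1_c4 LD2_c10 LD3_c7) (LK LD1_c8 LD2_c20 LD3_c26) Lrfl Lrfl
theorem f276344 : Led Lsl_at (LP (LK LD1_c4 LD2_c27 LD3_c43)) = (LP (LK LD1_c4 LD2_c10 LD3_c7)) :=
  Lgr Lrot107 (Lpe (f42392 IH) (Lpr_af (K16.f276287 IH) (Lpe (f170728 IH) (Lpn (LP (LK LD1_c4 LD2_c10 LD3_c7))))))
theorem f231263 : Led Lsl_bt (LP (LK LD1_c2 LD2_c11 LD3_c6)) = (LP (LK LD1_c4 LD2_c27 LD3_c43)) :=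
  Lre_b IH (LK LD1_c2 LD2_c11 LD3_c6) (LK LD1_c4 LD2_c27 LD3_c43) Lrfl Lrfl
theorem f198999 : Led Lsl_bt (LP (LK LD1_c1 LD2_c58 LD3_c43)) = (LP (LK LD1_c4 LD2_c3 LD3_c21)) :=
  Lre_b IH (LK LD1_c1 LD2_c58 LD3_c43) (LK LD1_c4 LD2_c3 LD3_c21) Lrfl Lrfl
theorem f284232 : Led Lsl_af (LP (LK LD1_c2 LD2_c11 LD3_c6)) = (LP (LK LD1_c4 LD2_c3 LD3_c21)) :=
  Lgr Lrot36 (Lpr_bt (f231263 IH) (Lpr_at (f276344 IH) (Lpr_bt (K10.f170707 IH) (Lpr_at (f284230 IH) (Lpr_bt (f198999 IH) (Lpn (LP (LK LD1_c4 LD2_c3 LD3_c21))))))))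
theorem f42385 : Led Lsl_ct (LP (LK LD1_c4 LD2_c27 LD3_c54)) = (LP (LK LD1_c2 LD2_c11 LD3_c6)) :=
  Lre_c IH (LK LD1_c4 LD2_c27 LD3_c54) (LK LD1_c2 LD2_c11 LD3_c6) Lrfl Lrfl
theorem f231264 : Led Lsl_dt (LP (LK LD1_c8 LD2_c53 LD3_c46)) = (LP (LK LD1_c4 LD2_c27 LD3_c54)) :=
  Lre_d IH (LK LD1_c8 LD2_c53 LD3_c46) (LK LD1_c4 LD2_c27 LD3_c54) Lrfl Lrfl
theorem f284253 : Led Lsl_ct (LP (LK LD1_c16 LD2_c38 LD3_c19)) = (LP (LK LD1_c8 LD2_c53 LD3_c46)) :=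
  Lre_c IH (LK LD1_c16 LD2_c38 LD3_c19) (LK LD1_c8 LD2_c53 LD3_c46) Lrfl Lrfl
theorem f284254 : Led Lsl_dt (LP (LK LD1_c26 LD2_c36 LD3_c23)) = (LP (LK LD1_c16 LD2_c38 LD3_c19)) :=
  Lre_d IH (LK LD1_c26 LD2_c36 LD3_c23) (LK LD1_c16 LD2_c38 LD3_c19) Lrfl Lrfl
theorem f198982 : Led Lsl_dt (LP (LK LD1_c10 LD2_c34 LD3_c11)) = (LP (LK LD1_c19 LD2_c8 LD3_c43)) :=
  Lre_d IH (LK LD1_c10 LD2_c34 LD3_c11) (LK LD1_c19 LD2_c8 LD3_c43) Lrfl Lrfl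
theorem f284255 : Led Lsl_cf (LP (LK LD1_c26 LD2_c36 LD3_c23)) = (LP (LK LD1_c19 LD2_c8 LD3_c43)) :=
  Lgr Lrot116 (Lpr_dt (f284254 IH) (Lpr_ct (f284253 IH) (Lpr_dt (f231264 IH) (Lpr_ct (f42385 IH) (Lpr_af (f284232 IH) (Lpe (K12.f198987 IH) (Lpr_dt (K12.f198975 IH) (Lpr_ct (K16.f198978 IH) (Lpr_dt (f198982 IH) (Lpn (LP (LK LD1_c19 LD2_c8 LD3_c43))))))))))))
theorem f231308 : Led Lsl_dt (LP (LK LD1_c2 LD2_c11 LD3_c6)) = (LP (LK LD1_c4 LD2_c27 LD3_c57)) :=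
  Lre_d IH (LK LD1_c2 LD2_c11 LD3_c6) (LK LD1_c4 LD2_c27 LD3_c57) Lrfl Lrfl
theorem f231369 : Led Lsl_ct (LP (LK LD1_c4 LD2_c27 LD3_c57)) = (LP (LK LD1_c8 LD2_c53 LD3_c52)) :=
  Lre_c IH (LK LD1_c4 LD2_c27 LD3_c57) (LK LD1_c8 LD2_c53 LD3_c52) Lrfl Lrfl
theorem f256595 : Led Lsl_ft (LP (LK LD1_c10 LD2_c34 LD3_c11)) = (LP (LK LD1_c5 LD2_c21 LD3_c56)) :=
  Lre_f IH (LK LD1_c10 LD2_c34 LD3_c11) (LK LD1_c5 LD2_c21 LD3_c56) Lrfl Lrfl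
theorem f284266 : Led Lsl_af (LP (LK LD1_c8 LD2_c53 LD3_c52)) = (LP (LK LD1_c5 LD2_c21 LD3_c56)) :=
  Lgr Lrot109 (Lpe (f231369 IH) (Lpe (f231308 IH) (Lpe (f42385 IH) (Lpe (f231264 IH) (Lpe (f284253 IH) (Lpe (f284254 IH) (Lpr_cf (f284255 IH) (Lpe (f198982 IH) (Lpr_ft (f256595 IH) (Lpn (LP (LK LD1_c5 LD2_c21 LD3_c56))))))))))))
theorem f283857 : Led Lsl_dt (LP (LK LD1_c8 LD2_c53 LD3_c52)) = (LP (LK LD1_c16 LD2_c38 LD3_c30)) :=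
  Lre_d IH (LK LD1_c8 LD2_c53 LD3_c52) (LK LD1_c16 LD2_c38 LD3_c30) Lrfl Lrfl
theorem f284278 : Led Lsl_at (LP (LK LD1_c16 LD2_c38 LD3_c30)) = (LP (LK LD1_c10 LD2_c34 LD3_c10)) :=
  Lgr Lrot51 (Lpe (f283857 IH) (Lpr_af (f284266 IH) (Lpe (K12.f199011 IH) (Lpn (LP (LK LD1_c10 LD2_c34 LD3_c10))))))
theorem f199053 : Led Lsl_gt (LP (LK LD1_c19 LD2_c13 LD3_c25)) = (LP (LK LD1_c10 LD2_c36 LD3_c47)) :=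
  Lre_g IH (LK LD1_c19 LD2_c13 LD3_c25) (LK LD1_c10 LD2_c36 LD3_c47) Lrfl Lrfl
theorem f284291 : Led Lsl_ff (LP (LK LD1_c16 LD2_c38 LD3_c30)) = (LP (LK LD1_c19 LD2_c13 LD3_c25)) :=
  Lgr Lrot52 (Lpr_at (f284278 IH) (Lpr_gf (K12.f199045 IH) (Lpe (f199053 IH) (Lpn (LP (LK LD1_c19 LD2_c13 LD3_c25))))))
theorem f284304 : Led Lsl_ft (LP (LK LD1_c16 LD2_c38 LD3_c30)) = (LP (LK LD1_c19 LD2_c13 LD3_c25)) :=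
  Lgr Lrot48 (Lpr_ff (f284291 IH) (Lpn (LP (LK LD1_c19 LD2_c13 LD3_c25))))
theorem f284311 : Led Lsl_ft (LP (LK LD1_c16 LD2_c38 LD3_c31)) = (LP (LK LD1_c8 LD2_c53 LD3_c52)) :=
  Lre_f IH (LK LD1_c16 LD2_c38 LD3_c31) (LK LD1_c8 LD2_c53 LD3_c52) Lrfl Lrfl
theorem f284312 : Led Lsl_df (LP (LK LD1_c16 LD2_c38 LD3_c31)) = (LP (LK LD1_c19 LD2_c13 LD3_c25)) :=
  Lgr Lrot78 (Lpr_ft (f284311 IH) (Lpr_dt (f283857 IH) (Lpr_ft (f284304 IH) (Lpn (LP (LK LD1_c19 LD2_c13 LD3_c25))))))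
theorem f231363 : Led Lsl_ct (LP (LK LD1_c16 LD2_c38 LD3_c31)) = (LP (LK LD1_c8 LD2_c53 LD3_c53)) :=
  Lre_c IH (LK LD1_c16 LD2_c38 LD3_c31) (LK LD1_c8 LD2_c53 LD3_c53) Lrfl Lrfl
theorem f284317 : Led Lsl_ct (LP (LK LD1_c4 LD2_c27 LD3_c58)) = (LP (LK LD1_c8 LD2_c53 LD3_c47)) :=
  Lre_c IH (LK LD1_c4 LD2_c27 LD3_c58) (LK LD1_c8 LD2_c53 LD3_c47) Lrfl Lrfl
theorem f284318 : Led Lsl_dt (LP (LK LD1_c8 LD2_c53 LD3_c47)) = (LP (LK LD1_c16 LD2_c38 LD3_c20)) :=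
  Lre_d IH (LK LD1_c8 LD2_c53 LD3_c47) (LK LD1_c16 LD2_c38 LD3_c20) Lrfl Lrfl
theorem f284319 : Led Lsl_ct (LP (LK LD1_c16 LD2_c38 LD3_c20)) = (LP (LK LD1_c26 LD2_c36 LD3_c24)) :=
  Lre_c IH (LK LD1_c16 LD2_c38 LD3_c20) (LK LD1_c26 LD2_c36 LD3_c24) Lrfl Lrfl
theorem f199026 : Led Lsl_ct (LP (LK LD1_c19 LD2_c8 LD3_c42)) = (LP (LK LD1_c10 LD2_c34 LD3_c10)) :=
  Lre_c IH (LK LD1_c19 LD2_c8 LD3_c42) (LK LD1_c10 LD2_c34 LD3_c10) Lrfl Lrfl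
theorem f284322 : Led Lsl_dt (LP (LK LD1_c26 LD2_c36 LD3_c24)) = (LP (LK LD1_c19 LD2_c8 LD3_c42)) :=
  Lgr Lrot120 (Lpe (f284319 IH) (Lpe (f284318 IH) (Lpe (f284317 IH) (Lpe (K14.f231353 IH) (Lpe (f231363 IH) (Lpr_df (f284312 IH) (Lpe (f284291 IH) (Lpr_at (f284278 IH) (Lpe (f199026 IH) (Lpn (LP (LK LD1_c19 LD2_c8 LD3_c42))))))))))))
theorem f284338 : Led Lsl_ft (LP (LK LD1_c26 LD2_c36 LD3_c24)) = (LP (LK LD1_c16 LD2_c38 LD3_c19)) :=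
  Lre_f IH (LK LD1_c26 LD2_c36 LD3_c24) (LK LD1_c16 LD2_c38 LD3_c19) Lrfl Lrfl
theorem f199010 : Led Lsl_ct (LP (LK LD1_c5 LD2_c21 LD3_c56)) = (LP (LK LD1_c2 LD2_c37 LD3_c31)) :=
  Lre_c IH (LK LD1_c5 LD2_c21 LD3_c56) (LK LD1_c2 LD2_c37 LD3_c31) Lrfl Lrfl
theorem f199023 : Led Lsl_ct (LP (LK LD1_c4 LD2_c3 LD3_c21)) = (LP (LK LD1_c8 LD2_c7 LD3_c18)) :=
  Lre_c IH (LK LD1_c4 LD2_c3 LD3_c21) (LK LD1_c8 LD2_c7 LD3_c18) Lrfl Lrfl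
theorem f199024 : Led Lsl_dt (LP (LK LD1_c8 LD2_c7 LD3_c18)) = (LP (LK LD1_c15 LD2_c17 LD3_c43)) :=
  Lre_d IH (LK LD1_c8 LD2_c7 LD3_c18) (LK LD1_c15 LD2_c17 LD3_c43) Lrfl Lrfl
theorem f199025 : Led Lsl_ct (LP (LK LD1_c15 LD2_c17 LD3_c43)) = (LP (LK LD1_c25 LD2_c8 LD3_c18)) :=
  Lre_c IH (LK LD1_c15 LD2_c17 LD3_c43) (LK LD1_c25 LD2_c8 LD3_c18) Lrfl Lrfl
theorem f284339 : Led Lsl_at (LP (LK LD1_c16 LD2_c38 LD3_c19)) = (LP (LK LD1_c25 LD2_c8 LD3_c18)) :=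
  Lgr Lrot33 (Lpe (f284338 IH) (Lpr_dt (f284322 IH) (Lpr_ct (f199026 IH) (Lpr_dt (K12.f199011 IH) (Lpr_ct (f199010 IH) (Lpe (K12.f198956 IH) (Lpr_ct (f199023 IH) (Lpr_dt (f199024 IH) (Lpr_ct (f199025 IH) (Lpn (LP (LK LD1_c25 LD2_c8 LD3_c18))))))))))))
theorem f284349 : Led Lsl_et (LP (LK LD1_c26 LD2_c36 LD3_c2)) = (LP (LK LD1_c16 LD2_c38 LD3_c19)) :=
  Lre_e IH (LK LD1_c26 LD2_c36 LD3_c2) (LK LD1_c16 LD2_c38 LD3_c19) Lrfl Lrfl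
theorem f284350 : Led Lsl_et (LP (LK LD1_c25 LD2_c8 LD3_c18)) = (LP (LK LD1_c31 LD2_c47 LD3_c4)) :=
  Lre_e IH (LK LD1_c25 LD2_c8 LD3_c18) (LK LD1_c31 LD2_c47 LD3_c4) Lrfl Lrfl
theorem f284351 : Led Lsl_af (LP (LK LD1_c26 LD2_c36 LD3_c2)) = (LP (LK LD1_c31 LD2_c47 LD3_c4)) :=
  Lgr Lrot50 (Lpr_et (f284349 IH) (Lpr_at (f284339 IH) (Lpr_et (f284350 IH) (Lpn (LP (LK LD1_c31 LD2_c47 LD3_c4))))))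
theorem f284356 : Led Lsl_ct (LP (LK LD1_c26 LD2_c36 LD3_c2)) = (LP (LK LD1_c16 LD2_c38 LD3_c10)) :=
  Lre_c IH (LK LD1_c26 LD2_c36 LD3_c2) (LK LD1_c16 LD2_c38 LD3_c10) Lrfl Lrfl
theorem f284357 : Led Lsl_ct (LP (LK LD1_c25 LD2_c8 LD3_c15)) = (LP (LK LD1_c31 LD2_c47 LD3_c4)) :=
  Lre_c IH (LK LD1_c25 LD2_c8 LD3_c15) (LK LD1_c31 LD2_c47 LD3_c4) Lrfl Lrfl
theorem f284358 : Led Lsl_at (LP (LK LD1_c16 LD2_c38 LD3_c10)) = (LP (LK LD1_c25 LD2_c8 LD3_c15)) :=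
  Lgr Lrot107 (Lpe (f284356 IH) (Lpr_af (f284351 IH) (Lpe (f284357 IH) (Lpn (LP (LK LD1_c25 LD2_c8 LD3_c15))))))
theorem f284364 : Led Lsl_af (LP (LK LD1_c16 LD2_c38 LD3_c10)) = (LP (LK LD1_c25 LD2_c8 LD3_c15)) :=
  Lgr Lrot0 (Lpr_at (f284358 IH) (Lpn (LP (LK LD1_c25 LD2_c8 LD3_c15))))
theorem f284382 : Led Lsl_et (LP (LK LD1_c16 LD2_c38 LD3_c10)) = (LP (LK LD1_c8 LD2_c53 LD3_c46)) :=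
  Lre_e IH (LK LD1_c16 LD2_c38 LD3_c10) (LK LD1_c8 LD2_c53 LD3_c46) Lrfl Lrfl
theorem f213529 : Led Lsl_et (LP (LK LD1_c15 LD2_c17 LD3_c43)) = (LP (LK LD1_c25 LD2_c8 LD3_c15)) :=
  Lre_e IH (LK LD1_c15 LD2_c17 LD3_c43) (LK LD1_c25 LD2_c8 LD3_c15) Lrfl Lrfl
theorem f284383 : Led Lsl_at (LP (LK LD1_c8 LD2_c53 LD3_c46)) = (LP (LK LD1_c15 LD2_c17 LD3_c43)) :=
  Lgr Lrot80 (Lpe (f284382 IH) (Lpr_af (f284364 IH) (Lpe (f213529 IH) (Lpn (LP (LK LD1_c15 LD2_c17 LD3_c43))))))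
theorem f284393 : Led Lsl_ft (LP (LK LD1_c16 LD2_c38 LD3_c20)) = (LP (LK LD1_c8 LD2_c53 LD3_c46)) :=
  Lre_f IH (LK LD1_c16 LD2_c38 LD3_c20) (LK LD1_c8 LD2_c53 LD3_c46) Lrfl Lrfl
theorem f284396 : Led Lsl_dt (LP (LK LD1_c16 LD2_c38 LD3_c20)) = (LP (LK LD1_c8 LD2_c53 LD3_c47)) :=
  Lre_d IH (LK LD1_c16 LD2_c38 LD3_c20) (LK LD1_c8 LD2_c53 LD3_c47) Lrfl Lrfl
theorem f284189 : Led Lsl_ct (LP (LK LD1_c8 LD2_c53 LD3_c47)) = (LP (LK LD1_c4 LD2_c27 LD3_c58)) :=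
  Lre_c IH (LK LD1_c8 LD2_c53 LD3_c47) (LK LD1_c4 LD2_c27 LD3_c58) Lrfl Lrfl
theorem f284299 : Led Lsl_dt (LP (LK LD1_c16 LD2_c38 LD3_c30)) = (LP (LK LD1_c8 LD2_c53 LD3_c52)) :=
  Lre_d IH (LK LD1_c16 LD2_c38 LD3_c30) (LK LD1_c8 LD2_c53 LD3_c52) Lrfl Lrfl
theorem f284300 : Led Lsl_dt (LP (LK LD1_c16 LD2_c38 LD3_c31)) = (LP (LK LD1_c19 LD2_c13 LD3_c25)) :=
  Lgr Lrot60 (Lpe (K14.f253369 IH) (Lpe (f284299 IH) (Lpr_ff (f284291 IH) (Lpn (LP (LK LD1_c19 LD2_c13 LD3_c25))))))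
theorem f284308 : Led Lsl_ct (LP (LK LD1_c19 LD2_c13 LD3_c25)) = (LP (LK LD1_c28 LD2_c39 LD3_c27)) :=
  Lre_c IH (LK LD1_c19 LD2_c13 LD3_c25) (LK LD1_c28 LD2_c39 LD3_c27) Lrfl Lrfl
theorem f199002 : Led Lsl_ct (LP (LK LD1_c25 LD2_c8 LD3_c18)) = (LP (LK LD1_c15 LD2_c17 LD3_c43)) :=
  Lre_c IH (LK LD1_c25 LD2_c8 LD3_c18) (LK LD1_c15 LD2_c17 LD3_c43) Lrfl Lrfl
theorem f284397 : Led Lsl_dt (LP (LK LD1_c28 LD2_c39 LD3_c27)) = (LP (LK LD1_c25 LD2_c8 LD3_c18)) :=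
  Lgr Lrot120 (Lpe (f284308 IH) (Lpe (f284300 IH) (Lpe (K14.f231368 IH) (Lpe (K13.f231360 IH) (Lpe (f284189 IH) (Lpe (f284396 IH) (Lpr_ft (f284393 IH) (Lpr_at (f284383 IH) (Lpe (f199002 IH) (Lpn (LP (LK LD1_c25 LD2_c8 LD3_c18))))))))))))
theorem f284259 : Led Lsl_ct (LP (LK LD1_c16 LD2_c38 LD3_c30)) = (LP (LK LD1_c26 LD2_c36 LD3_c44)) :=
  Lre_c IH (LK LD1_c16 LD2_c38 LD3_c30) (LK LD1_c26 LD2_c36 LD3_c44) Lrfl Lrfl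
theorem f284296 : Led Lsl_ct (LP (LK LD1_c28 LD2_c39 LD3_c27)) = (LP (LK LD1_c19 LD2_c13 LD3_c25)) :=
  Lre_c IH (LK LD1_c28 LD2_c39 LD3_c27) (LK LD1_c19 LD2_c13 LD3_c25) Lrfl Lrfl
theorem f284297 : Led Lsl_ft (LP (LK LD1_c26 LD2_c36 LD3_c44)) = (LP (LK LD1_c28 LD2_c39 LD3_c27)) :=
  Lgr Lrot4 (Lpe (f284259 IH) (Lpr_ff (f284291 IH) (Lpe (f284296 IH) (Lpn (LP (LK LD1_c28 LD2_c39 LD3_c27))))))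
theorem f284353 : Led Lsl_ft (LP (LK LD1_c25 LD2_c8 LD3_c18)) = (LP (LK LD1_c31 LD2_c47 LD3_c5)) :=
  Lre_f IH (LK LD1_c25 LD2_c8 LD3_c18) (LK LD1_c31 LD2_c47 LD3_c5) Lrfl Lrfl
theorem f284402 : Led Lsl_df (LP (LK LD1_c26 LD2_c36 LD3_c44)) = (LP (LK LD1_c31 LD2_c47 LD3_c5)) :=
  Lgr Lrot78 (Lpr_ft (f284297 IH) (Lpr_dt (f284397 IH) (Lpr_ft (f284353 IH) (Lpn (LP (LK LD1_c31 LD2_c47 LD3_c5))))))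
theorem f284284 : Led Lsl_ct (LP (LK LD1_c26 LD2_c36 LD3_c44)) = (LP (LK LD1_c16 LD2_c38 LD3_c30)) :=
  Lre_c IH (LK LD1_c26 LD2_c36 LD3_c44) (LK LD1_c16 LD2_c38 LD3_c30) Lrfl Lrfl
theorem f284277 : Led Lsl_ct (LP (LK LD1_c8 LD2_c53 LD3_c52)) = (LP (LK LD1_c4 LD2_c27 LD3_c57)) :=
  Lre_c IH (LK LD1_c8 LD2_c53 LD3_c52) (LK LD1_c4 LD2_c27 LD3_c57) Lrfl Lrfl
theorem f198994 : Led Lsl_ct (LP (LK LD1_c25 LD2_c8 LD3_c19)) = (LP (LK LD1_c31 LD2_c47 LD3_c5)) :=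
  Lre_c IH (LK LD1_c25 LD2_c8 LD3_c19) (LK LD1_c31 LD2_c47 LD3_c5) Lrfl Lrfl
theorem f198993 : Led Lsl_dt (LP (LK LD1_c15 LD2_c17 LD3_c44)) = (LP (LK LD1_c25 LD2_c8 LD3_c19)) :=
  Lre_d IH (LK LD1_c15 LD2_c17 LD3_c44) (LK LD1_c25 LD2_c8 LD3_c19) Lrfl Lrfl
theorem f198992 : Led Lsl_ct (LP (LK LD1_c8 LD2_c7 LD3_c19)) = (LP (LK LD1_c15 LD2_c17 LD3_c44)) :=
  Lre_c IH (LK LD1_c8 LD2_c7 LD3_c19) (LK LD1_c15 LD2_c17 LD3_c44) Lrfl Lrfl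
theorem f198986 : Led Lsl_ft (LP (LK LD1_c5 LD2_c21 LD3_c59)) = (LP (LK LD1_c2 LD2_c37 LD3_c31)) :=
  Lre_f IH (LK LD1_c5 LD2_c21 LD3_c59) (LK LD1_c2 LD2_c37 LD3_c31) Lrfl Lrfl
theorem f284440 : Led Lsl_af (LP (LK LD1_c4 LD2_c27 LD3_c57)) = (LP (LK LD1_c2 LD2_c37 LD3_c31)) :=
  Lgr Lrot109 (Lpe (f284277 IH) (Lpe (f284299 IH) (Lpe (f284284 IH) (Lpr_df (f284402 IH) (Lpe (f198994 IH) (Lpe (f198993 IH) (Lpe (f198992 IH) (Lpr_df (K12.f198983 IH) (Lpr_ft (f198986 IH) (Lpn (LP (LK LD1_c2 LD2_c37 LD3_c31))))))))))))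
theorem f199018 : Led Lsl_et (LP (LK LD1_c1 LD2_c15 LD3_c47)) = (LP (LK LD1_c2 LD2_c37 LD3_c31)) :=
  Lre_e IH (LK LD1_c1 LD2_c15 LD3_c47) (LK LD1_c2 LD2_c37 LD3_c31) Lrfl Lrfl
theorem f284445 : Led Lsl_at (LP (LK LD1_c2 LD2_c11 LD3_c8)) = (LP (LK LD1_c1 LD2_c15 LD3_c47)) :=
  Lgr Lrot80 (Lpe (K13.f42377 IH) (Lpr_af (f284440 IH) (Lpe (f199018 IH) (Lpn (LP (LK LD1_c1 LD2_c15 LD3_c47))))))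
theorem f284447 : Led Lsl_af (LP (LK LD1_c4 LD2_c7 LD3_c50)) = (LP (LK LD1_c4 LD2_c10 LD3_c9)) :=
  Lgr Lrot36 (Lpr_bt (K14.f231290 IH) (Lpr_at (f284445 IH) (Lpe (K11.f198935 IH) (Lpe (K15.f256610 IH) (Lpr_bt (K11.f187925 IH) (Lpn (LP (LK LD1_c4 LD2_c10 LD3_c9))))))))
theorem f247552 : Led Lsl_at (LP (LK LD1_c4 LD2_c10 LD3_c10)) = (LP (LK LD1_c4 LD2_c27 LD3_c45)) :=
  Lgr Lrot100 (Lpr_af (K14.f247550 IH) (Lpn (LP (LK LD1_c4 LD2_c27 LD3_c45))))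
theorem f253289 : Led Lsl_af (LP (LK LD1_c4 LD2_c7 LD3_c49)) = (LP (LK LD1_c2 LD2_c37 LD3_c27)) :=
  Lgr Lrot117 (Lpe (K14.f247530 IH) (Lpr_at (f247552 IH) (Lpr_dt (K14.f253286 IH) (Lpn (LP (LK LD1_c2 LD2_c37 LD3_c27))))))
theorem f284451 : Led Lsl_ft (LP (LK LD1_c4 LD2_c7 LD3_c49)) = (LP (LK LD1_c4 LD2_c10 LD3_c9)) :=
  Lgr Lrot101 (Lpr_af (f253289 IH) (Lpe (K14.f253307 IH) (Lpr_af (f284447 IH) (Lpn (LP (LK LD1_c4 LD2_c10 LD3_c9))))))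
theorem f188111 : Led Lsl_ft (LP (LK LD1_c15 LD2_c32 LD3_c2)) = (LP (LK LD1_c8 LD2_c15 LD3_c42)) :=
  Lre_f IH (LK LD1_c15 LD2_c32 LD3_c2) (LK LD1_c8 LD2_c15 LD3_c42) Lrfl Lrfl
theorem f251591 : Led Lsl_et (LP (LK LD1_c4 LD2_c10 LD3_c9)) = (LP (LK LD1_c8 LD2_c20 LD3_c28)) :=
  Lre_e IH (LK LD1_c4 LD2_c10 LD3_c9) (LK LD1_c8 LD2_c20 LD3_c28) Lrfl Lrfl
theorem f284457 : Led Lsl_ef (LP (LK LD1_c15 LD2_c32 LD3_c2)) = (LP (LK LD1_c15 LD2_c41 LD3_c61)) :=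
  Lgr Lrot21 (Lpr_ft (f188111 IH) (Lpr_et (K15.f49237 IH) (Lpr_ft (f284451 IH) (Lpr_et (f251591 IH) (Lpr_ft (K10.f187968 IH) (Lpn (LP (LK LD1_c15 LD2_c41 LD3_c61))))))))
theorem f284459 : Led Lsl_et (LP (LK LD1_c15 LD2_c32 LD3_c2)) = (LP (LK LD1_c15 LD2_c41 LD3_c61)) :=
  Lgr Lrot87 (Lpr_ef (f284457 IH) (Lpn (LP (LK LD1_c15 LD2_c41 LD3_c61))))
theorem f170730 : Led Lsl_bt (LP (LK LD1_c8 LD2_c20 LD3_c29)) = (LP (LK LD1_c4 LD2_c52 LD3_c50)) :=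
  Lgr Lrot127 (Lpr_bf (K10.f170723 IH) (Lpn (LP (LK LD1_c4 LD2_c52 LD3_c50))))
theorem f170816 : Led Lsl_dt (LP (LK LD1_c15 LD2_c41 LD3_c61)) = (LP (LK LD1_c8 LD2_c20 LD3_c29)) :=
  Lre_d IH (LK LD1_c15 LD2_c41 LD3_c61) (LK LD1_c8 LD2_c20 LD3_c29) Lrfl Lrfl
theorem f187960 : Led Lsl_bt (LP (LK LD1_c8 LD2_c39 LD3_c17)) = (LP (LK LD1_c15 LD2_c41 LD3_c61)) :=
  Lgr Lrot95 (Lpr_df (K10.f187941 IH) (Lpe (f170730 IH) (Lpe (f170816 IH) (Lpn (LP (LK LD1_c15 LD2_c41 LD3_c61))))))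
theorem f256596 : Led Lsl_at (LP (LK LD1_c8 LD2_c53 LD3_c53)) = (LP (LK LD1_c5 LD2_c21 LD3_c59)) :=
  Lgr Lrot80 (Lpr_ef (K14.f253355 IH) (Lpe (K14.f254334 IH) (Lpr_ef (K15.f256590 IH) (Lpn (LP (LK LD1_c5 LD2_c21 LD3_c59))))))
theorem f256628 : Led Lsl_at (LP (LK LD1_c15 LD2_c41 LD3_c61)) = (LP (LK LD1_c15 LD2_c32 LD3_c4)) :=
  Lgr Lrot67 (Lpe (f187960 IH) (Lpr_af (K15.f256622 IH) (Lpr_bf (K12.f198960 IH) (Lpe (f256596 IH) (Lpe (K14.f231354 IH) (Lpn (LP (LK LD1_c15 LD2_c32 LD3_c4))))))))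
theorem f231319 : Led Lsl_ft (LP (LK LD1_c8 LD2_c15 LD3_c43)) = (LP (LK LD1_c15 LD2_c32 LD3_c4)) :=
  Lre_f IH (LK LD1_c8 LD2_c15 LD3_c43) (LK LD1_c15 LD2_c32 LD3_c4) Lrfl Lrfl
theorem f250990 : Led Lsl_ft (LP (LK LD1_c10 LD2_c33 LD3_c44)) = (LP (LK LD1_c5 LD2_c21 LD3_c45)) :=
  Lre_f IH (LK LD1_c10 LD2_c33 LD3_c44) (LK LD1_c5 LD2_c21 LD3_c45) Lrfl Lrfl
theorem f253305 : Led Lsl_et (LP (LK LD1_c15 LD2_c32 LD3_c4)) = (LP (LK LD1_c10 LD2_c33 LD3_c44)) :=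
  Lgr Lrot69 (Lpe (f231319 IH) (Lpe (K12.f231294 IH) (Lpr_ff (K14.f253297 IH) (Lpe (K14.f188033 IH) (Lpe (f250990 IH) (Lpn (LP (LK LD1_c10 LD2_c33 LD3_c44))))))))
theorem f284461 : Led Lsl_af (LP (LK LD1_c15 LD2_c32 LD3_c2)) = (LP (LK LD1_c10 LD2_c33 LD3_c44)) :=
  Lgr Lrot50 (Lpr_et (f284459 IH) (Lpr_at (f256628 IH) (Lpr_et (f253305 IH) (Lpn (LP (LK LD1_c10 LD2_c33 LD3_c44))))))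
theorem f284468 : Led Lsl_at (LP (LK LD1_c8 LD2_c15 LD3_c42)) = (LP (LK LD1_c5 LD2_c21 LD3_c45)) :=
  Lgr Lrot66 (Lpe (f188111 IH) (Lpr_af (f284461 IH) (Lpe (K14.f250991 IH) (Lpn (LP (LK LD1_c5 LD2_c21 LD3_c45))))))
theorem f188068 : Led Lsl_et (LP (LK LD1_c4 LD2_c5 LD3_c23)) = (LP (LK LD1_c8 LD2_c11 LD3_c41)) :=
  Lre_e IH (LK LD1_c4 LD2_c5 LD3_c23) (LK LD1_c8 LD2_c11 LD3_c41) Lrfl Lrfl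
theorem f188069 : Led Lsl_cf (LP (LK LD1_c8 LD2_c15 LD3_c42)) = (LP (LK LD1_c8 LD2_c11 LD3_c41)) :=
  Lgr Lrot39 (Lpr_et (K15.f49237 IH) (Lpr_ct (K10.f188062 IH) (Lpr_et (f188068 IH) (Lpn (LP (LK LD1_c8 LD2_c11 LD3_c41))))))
theorem f271105 : Led Lsl_ct (LP (LK LD1_c5 LD2_c21 LD3_c45)) = (LP (LK LD1_c10 LD2_c33 LD3_c41)) :=
  Lre_c IH (LK LD1_c5 LD2_c21 LD3_c45) (LK LD1_c10 LD2_c33 LD3_c41) Lrfl Lrfl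
theorem f284477 : Led Lsl_af (LP (LK LD1_c8 LD2_c11 LD3_c41)) = (LP (LK LD1_c10 LD2_c33 LD3_c41)) :=
  Lgr Lrot68 (Lpe (f188069 IH) (Lpr_at (f284468 IH) (Lpr_ct (f271105 IH) (Lpn (LP (LK LD1_c10 LD2_c33 LD3_c41))))))
theorem f47289 : Led Lsl_et (LP (LK LD1_c8 LD2_c11 LD3_c41)) = (LP (LK LD1_c4 LD2_c5 LD3_c23)) :=
  Lre_e IH (LK LD1_c8 LD2_c11 LD3_c41) (LK LD1_c4 LD2_c5 LD3_c23) Lrfl Lrfl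
theorem f253317 : Led Lsl_et (LP (LK LD1_c5 LD2_c21 LD3_c44)) = (LP (LK LD1_c10 LD2_c33 LD3_c41)) :=
  Lre_e IH (LK LD1_c5 LD2_c21 LD3_c44) (LK LD1_c10 LD2_c33 LD3_c41) Lrfl Lrfl
theorem f284646 : Led Lsl_at (LP (LK LD1_c4 LD2_c5 LD3_c23)) = (LP (LK LD1_c5 LD2_c21 LD3_c44)) :=
  Lgr Lrot80 (Lpe (f47289 IH) (Lpr_af (f284477 IH) (Lpe (f253317 IH) (Lpn (LP (LK LD1_c5 LD2_c21 LD3_c44))))))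
theorem f188016 : Led Lsl_ct (LP (LK LD1_c4 LD2_c27 LD3_c14)) = (LP (LK LD1_c2 LD2_c10 LD3_c50)) :=
  Lre_c IH (LK LD1_c4 LD2_c27 LD3_c14) (LK LD1_c2 LD2_c10 LD3_c50) Lrfl Lrfl
theorem f188015 : Led Lsl_dt (LP (LK LD1_c8 LD2_c52 LD3_c10)) = (LP (LK LD1_c4 LD2_c27 LD3_c14)) :=
  Lre_d IH (LK LD1_c8 LD2_c52 LD3_c10) (LK LD1_c4 LD2_c27 LD3_c14) Lrfl Lrfl
theorem f230744 : Led Lsl_cf (LP (LK LD1_c8 LD2_c52 LD3_c10)) = (LP (LK LD1_c15 LD2_c24 LD3_c25)) :=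
  Lgr Lrot14 (Lpe (K12.f188017 IH) (Lpr_gf (K12.f191620 IH) (Lpr_df (K12.f230724 IH) (Lpe (K12.f230678 IH) (Lpr_ct (K12.f230671 IH) (Lpe (K12.f230672 IH) (Lpr_dt (K12.f46236 IH) (Lpr_gt (K10.f47971 IH) (Lpr_dt (K12.f47972 IH) (Lpn (LP (LK LD1_c15 LD2_c24 LD3_c25))))))))))))
theorem f32068 : Led Lsl_dt (LP (LK LD1_c5 LD2_c18 LD3_c31)) = (LP (LK LD1_c2 LD2_c35 LD3_c55)) :=
  Lre_d IH (LK LD1_c5 LD2_c18 LD3_c31) (LK LD1_c2 LD2_c35 LD3_c55) Lrfl Lrfl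
theorem f178755 : Led Lsl_ct (LP (LK LD1_c10 LD2_c26 LD3_c43)) = (LP (LK LD1_c5 LD2_c18 LD3_c31)) :=
  Lre_c IH (LK LD1_c10 LD2_c26 LD3_c43) (LK LD1_c5 LD2_c18 LD3_c31) Lrfl Lrfl
theorem f253293 : Led Lsl_df (LP (LK LD1_c10 LD2_c26 LD3_c43)) = (LP (LK LD1_c5 LD2_c21 LD3_c44)) :=
  Lgr Lrot43 (Lpr_ct (f178755 IH) (Lpr_dt (f32068 IH) (Lpr_ct (K12.f32067 IH) (Lpe (K10.f178533 IH) (Lpr_ct (K10.f170646 IH) (Lpr_dt (K14.f170685 IH) (Lpe (K10.f187975 IH) (Lpr_dt (K12.f47972 IH) (Lpe (f230744 IH) (Lpr_dt (f188015 IH) (Lpr_ct (f188016 IH) (Lpr_dt (K12.f230783 IH) (Lpr_ct (K14.f247555 IH) (Lpr_dt (K14.f253286 IH) (Lpr_ct (K10.f187497 IH) (Lpn (LP (LK LD1_c5 LD2_c21 LD3_c44))))))))))))))))))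
theorem f284653 : Led Lsl_af (LP (LK LD1_c8 LD2_c11 LD3_c40)) = (LP (LK LD1_c10 LD2_c26 LD3_c43)) :=
  Lgr Lrot117 (Lpr_dt (K14.f47281 IH) (Lpr_at (f284646 IH) (Lpe (f253293 IH) (Lpn (LP (LK LD1_c10 LD2_c26 LD3_c43))))))
theorem f47282 : Led Lsl_dt (LP (LK LD1_c8 LD2_c11 LD3_c43)) = (LP (LK LD1_c4 LD2_c5 LD3_c24)) :=
  Lre_d IH (LK LD1_c8 LD2_c11 LD3_c43) (LK LD1_c4 LD2_c5 LD3_c24) Lrfl Lrfl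
theorem f247623 : Led Lsl_ct (LP (LK LD1_c4 LD2_c5 LD3_c24)) = (LP (LK LD1_c4 LD2_c7 LD3_c50)) :=
  Lgr Lrot176 (Lpe (f47282 IH) (Lpe (K15.f247559 IH) (Lpe (K15.f170056 IH) (Lpe (K10.f32812 IH) (Lpr_df (K14.f247619 IH) (Lpe (K14.f170662 IH) (Lpr_df (K14.f247530 IH) (Lpr_cf (K14.f188065 IH) (Lpe (K14.f47281 IH) (Lpe (K14.f247523 IH) (Lpe (K14.f247425 IH) (Lpe (K14.f192361 IH) (Lpe (K14.f247421 IH) (Lpe (K15.f247439 IH) (Lpe (K14.f231292 IH) (Lpn (LP (LK LD1_c4 LD2_c7 LD3_c50))))))))))))))))))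
theorem f284659 : Led Lsl_ft (LP (LK LD1_c8 LD2_c11 LD3_c43)) = (LP (LK LD1_c10 LD2_c26 LD3_c43)) :=
  Lgr Lrot142 (Lpr_dt (f47282 IH) (Lpr_ct (f247623 IH) (Lpr_dt (K14.f231292 IH) (Lpr_ct (K15.f247439 IH) (Lpr_dt (K14.f247421 IH) (Lpr_ct (K14.f192361 IH) (Lpr_dt (K14.f247425 IH) (Lpr_ct (K14.f247523 IH) (Lpr_af (f284653 IH) (Lpn (LP (LK LD1_c10 LD2_c26 LD3_c43))))))))))))
theorem f284665 : Led Lsl_gt (LP (LK LD1_c9 LD2_c56 LD3_c57)) = (LP (LK LD1_c8 LD2_c11 LD3_c40)) :=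
  Lgr Lrot46 (Lpr_gf (K15.f247641 IH) (Lpr_ft (f284659 IH) (Lpe (f284653 IH) (Lpn (LP (LK LD1_c8 LD2_c11 LD3_c40))))))
theorem f247525 : Led Lsl_cf (LP (LK LD1_c8 LD2_c52 LD3_c33)) = (LP (LK LD1_c8 LD2_c11 LD3_c40)) :=
  Lgr Lrot14 (Lpe (K14.f247425 IH) (Lpe (K14.f247452 IH) (Lpr_df (K14.f247484 IH) (Lpe (K14.f186753 IH) (Lpe (K14.f247465 IH) (Lpr_gt (K14.f46200 IH) (Lpr_dt (K14.f47266 IH) (Lpr_gt (K10.f188073 IH) (Lpr_dt (K14.f188067 IH) (Lpn (LP (LK LD1_c8 LD2_c11 LD3_c40))))))))))))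
theorem f47303 : Led Lsl_dt (LP (LK LD1_c8 LD2_c52 LD3_c39)) = (LP (LK LD1_c4 LD2_c27 LD3_c26)) :=
  Lre_d IH (LK LD1_c8 LD2_c52 LD3_c39) (LK LD1_c4 LD2_c27 LD3_c26) Lrfl Lrfl
theorem f238281 : Led Lsl_dt (LP (LK LD1_c10 LD2_c16 LD3_c26)) = (LP (LK LD1_c5 LD2_c13 LD3_c4)) :=
  Lre_d IH (LK LD1_c10 LD2_c16 LD3_c26) (LK LD1_c5 LD2_c13 LD3_c4) Lrfl Lrfl
theorem f44790 : Led Lsl_dt (LP (LK LD1_c4 LD2_c27 LD3_c26)) = (LP (LK LD1_c8 LD2_c52 LD3_c39)) :=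
  Lre_d IH (LK LD1_c4 LD2_c27 LD3_c26) (LK LD1_c8 LD2_c52 LD3_c39) Lrfl Lrfl
theorem f253463 : Led Lsl_gf (LP (LK LD1_c10 LD2_c16 LD3_c26)) = (LP (LK LD1_c8 LD2_c52 LD3_c39)) :=
  Lgr Lrot143 (Lpr_dt (f238281 IH) (Lpe (K14.f165532 IH) (Lpr_df (K14.f253456 IH) (Lpe (K14.f170670 IH) (Lpr_df (K14.f247538 IH) (Lpe (K10.f190744 IH) (Lpe (K1.f44769 IH) (Lpr_gt (K14.f44788 IH) (Lpr_dt (f44790 IH) (Lpn (LP (LK LD1_c8 LD2_c52 LD3_c39))))))))))))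
theorem f284667 : Led Lsl_cf (LP (LK LD1_c9 LD2_c56 LD3_c57)) = (LP (LK LD1_c10 LD2_c16 LD3_c26)) :=
  Lgr Lrot169 (Lpr_gt (f284665 IH) (Lpe (f247525 IH) (Lpe (K14.f247425 IH) (Lpe (K14.f192361 IH) (Lpe (K14.f247437 IH) (Lpe (K1.f46180 IH) (Lpe (K14.f47259 IH) (Lpe (f47303 IH) (Lpe (f253463 IH) (Lpn (LP (LK LD1_c10 LD2_c16 LD3_c26))))))))))))
theorem f190748 : Led Lsl_dt (LP (LK LD1_c8 LD2_c52 LD3_c42)) = (LP (LK LD1_c4 LD2_c27 LD3_c27)) :=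
  Lre_d IH (LK LD1_c8 LD2_c52 LD3_c42) (LK LD1_c4 LD2_c27 LD3_c27) Lrfl Lrfl
theorem f284681 : Led Lsl_gf (LP (LK LD1_c8 LD2_c52 LD3_c42)) = (LP (LK LD1_c10 LD2_c16 LD3_c26)) :=
  Lgr Lrot144 (Lpr_dt (f190748 IH) (Lpr_gt (K15.f44785 IH) (Lpr_dt (K13.f44778 IH) (Lpe (K15.f46186 IH) (Lpe (K15.f46207 IH) (Lpe (K10.f46219 IH) (Lpe (K14.f47281 IH) (Lpe (f284665 IH) (Lpr_cf (f284667 IH) (Lpn (LP (LK LD1_c10 LD2_c16 LD3_c26))))))))))))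
theorem f238282 : Led Lsl_dt (LP (LK LD1_c5 LD2_c13 LD3_c4)) = (LP (LK LD1_c10 LD2_c16 LD3_c26)) :=
  Lre_d IH (LK LD1_c5 LD2_c13 LD3_c4) (LK LD1_c10 LD2_c16 LD3_c26) Lrfl Lrfl
theorem f230834 : Led Lsl_dt (LP (LK LD1_c10 LD2_c1 LD3_c49)) = (LP (LK LD1_c5 LD2_c5 LD3_c22)) :=
  Lre_d IH (LK LD1_c10 LD2_c1 LD3_c49) (LK LD1_c5 LD2_c5 LD3_c22) Lrfl Lrfl
theorem f230831 : Led Lsl_dt (LP (LK LD1_c5 LD2_c5 LD3_c22)) = (LP (LK LD1_c10 LD2_c1 LD3_c49)) :=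
  Lre_d IH (LK LD1_c5 LD2_c5 LD3_c22) (LK LD1_c10 LD2_c1 LD3_c49) Lrfl Lrfl
theorem f230832 : Led Lsl_gt (LP (LK LD1_c10 LD2_c1 LD3_c49)) = (LP (LK LD1_c8 LD2_c52 LD3_c10)) :=
  Lgr Lrot49 (Lpe (f230831 IH) (Lpe (K16.f230830 IH) (Lpe (K14.f186728 IH) (Lpr_gt (K14.f165197 IH) (Lpr_dt (K14.f230798 IH) (Lpr_gt (K14.f230786 IH) (Lpe (K12.f230779 IH) (Lpe (f188016 IH) (Lpe (f188015 IH) (Lpn (LP (LK LD1_c8 LD2_c52 LD3_c10))))))))))))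
theorem f191203 : Led Lsl_ct (LP (LK LD1_c8 LD2_c11 LD3_c25)) = (LP (LK LD1_c4 LD2_c7 LD3_c52)) :=
  Lgr Lrot59 (Lpr_cf (K11.f191190 IH) (Lpn (LP (LK LD1_c4 LD2_c7 LD3_c52))))
theorem f191279 : Led Lsl_dt (LP (LK LD1_c8 LD2_c11 LD3_c27)) = (LP (LK LD1_c4 LD2_c5 LD3_c18)) :=
  Lre_d IH (LK LD1_c8 LD2_c11 LD3_c27) (LK LD1_c4 LD2_c5 LD3_c18) Lrfl Lrfl
theorem f191276 : Led Lsl_gt (LP (LK LD1_c8 LD2_c11 LD3_c27)) = (LP (LK LD1_c15 LD2_c25 LD3_c16)) :=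
  Lre_g IH (LK LD1_c8 LD2_c11 LD3_c27) (LK LD1_c15 LD2_c25 LD3_c16) Lrfl Lrfl
theorem f230835 : Led Lsl_cf (LP (LK LD1_c10 LD2_c1 LD3_c49)) = (LP (LK LD1_c15 LD2_c25 LD3_c16)) :=
  Lgr Lrot169 (Lpr_gt (f230832 IH) (Lpr_ct (K12.f230740 IH) (Lpe (K12.f47972 IH) (Lpr_cf (K10.f187975 IH) (Lpe (K10.f188002 IH) (Lpe (f191203 IH) (Lpe (K11.f182554 IH) (Lpe (f191279 IH) (Lpr_gt (f191276 IH) (Lpn (LP (LK LD1_c15 LD2_c25 LD3_c16))))))))))))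
theorem f284685 : Led Lsl_ct (LP (LK LD1_c8 LD2_c52 LD3_c42)) = (LP (LK LD1_c8 LD2_c11 LD3_c27)) :=
  Lgr Lrot152 (Lpr_gf (f284681 IH) (Lpe (f238282 IH) (Lpr_gt (K14.f238277 IH) (Lpr_ct (K13.f190867 IH) (Lpr_gt (K16.f44457 IH) (Lpr_ct (K16.f274835 IH) (Lpe (f230834 IH) (Lpr_cf (f230835 IH) (Lpe (f191276 IH) (Lpn (LP (LK LD1_c8 LD2_c11 LD3_c27))))))))))))
theorem f190747 : Led Lsl_dt (LP (LK LD1_c4 LD2_c27 LD3_c27)) = (LP (LK LD1_c8 LD2_c52 LD3_c42)) :=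
  Lre_d IH (LK LD1_c4 LD2_c27 LD3_c27) (LK LD1_c8 LD2_c52 LD3_c42) Lrfl Lrfl
theorem f194227 : Led Lsl_ct (LP (LK LD1_c4 LD2_c5 LD3_c21)) = (LP (LK LD1_c1 LD2_c59 LD3_c52)) :=
  Lre_c IH (LK LD1_c4 LD2_c5 LD3_c21) (LK LD1_c1 LD2_c59 LD3_c52) Lrfl Lrfl
theorem f216146 : Led Lsl_dt (LP (LK LD1_c8 LD2_c11 LD3_c34)) = (LP (LK LD1_c4 LD2_c5 LD3_c21)) :=
  Lre_d IH (LK LD1_c8 LD2_c11 LD3_c34) (LK LD1_c4 LD2_c5 LD3_c21) Lrfl Lrfl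
theorem f251594 : Led Lsl_dt (LP (LK LD1_c1 LD2_c59 LD3_c51)) = (LP (LK LD1_c2 LD2_c29 LD3_c2)) :=
  Lgr Lrot105 (Lpe (K9.f182550 IH) (Lpe (K1.f46176 IH) (Lpe (K10.f47419 IH) (Lpr_cf (K10.f192452 IH) (Lpe (K10.f192477 IH) (Lpr_dt (K9.f44530 IH) (Lpr_gt (K14.f215048 IH) (Lpr_dt (K14.f251587 IH) (Lpe (K14.f28378 IH) (Lpn (LP (LK LD1_c2 LD2_c29 LD3_c2))))))))))))
theorem f284697 : Led Lsl_cf (LP (LK LD1_c8 LD2_c11 LD3_c34)) = (LP (LK LD1_c8 LD2_c52 LD3_c39)) :=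
  Lgr Lrot55 (Lpr_dt (f216146 IH) (Lpr_ct (f194227 IH) (Lpe (K14.f247637 IH) (Lpr_ct (K14.f247682 IH) (Lpe (K14.f251576 IH) (Lpe (K15.f247718 IH) (Lpr_dt (f190747 IH) (Lpr_ct (f284685 IH) (Lpr_dt (f191279 IH) (Lpr_ct (K16.f47279 IH) (Lpr_dt (f251594 IH) (Lpr_ct (K14.f28378 IH) (Lpe (K14.f251589 IH) (Lpe (K14.f215035 IH) (Lpr_dt (f44790 IH) (Lpn (LP (LK LD1_c8 LD2_c52 LD3_c39))))))))))))))))))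
theorem f218566 : Led Lsl_gt (LP (LK LD1_c8 LD2_c11 LD3_c40)) = (LP (LK LD1_c15 LD2_c25 LD3_c40)) :=
  Lre_g IH (LK LD1_c8 LD2_c11 LD3_c40) (LK LD1_c15 LD2_c25 LD3_c40) Lrfl Lrfl
theorem f230687 : Led Lsl_dt (LP (LK LD1_c5 LD2_c13 LD3_c5)) = (LP (LK LD1_c10 LD2_c16 LD3_c28)) :=
  Lre_d IH (LK LD1_c5 LD2_c13 LD3_c5) (LK LD1_c10 LD2_c16 LD3_c28) Lrfl Lrfl
theorem f215042 : Led Lsl_ct (LP (LK LD1_c4 LD2_c27 LD3_c26)) = (LP (LK LD1_c8 LD2_c15 LD3_c5)) :=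
  Lgr Lrot59 (Lpr_cf (K14.f215035 IH) (Lpn (LP (LK LD1_c8 LD2_c15 LD3_c5))))
theorem f274866 : Led Lsl_gt (LP (LK LD1_c10 LD2_c16 LD3_c28)) = (LP (LK LD1_c8 LD2_c52 LD3_c39)) :=
  Lgr Lrot49 (Lpe (f230687 IH) (Lpe (K13.f230683 IH) (Lpe (K13.f191779 IH) (Lpr_gt (K16.f44457 IH) (Lpe (K16.f191771 IH) (Lpr_gt (K16.f274860 IH) (Lpe (K14.f251589 IH) (Lpe (f215042 IH) (Lpe (f47303 IH) (Lpn (LP (LK LD1_c8 LD2_c52 LD3_c39))))))))))))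
theorem f284721 : Led Lsl_ct (LP (LK LD1_c15 LD2_c25 LD3_c40)) = (LP (LK LD1_c10 LD2_c16 LD3_c28)) :=
  Lgr Lrot152 (Lpe (f218566 IH) (Lpe (K14.f188067 IH) (Lpr_gt (K10.f46219 IH) (Lpr_ct (K13.f46218 IH) (Lpr_gt (K13.f55046 IH) (Lpr_ct (K13.f55047 IH) (Lpe (f216146 IH) (Lpr_cf (f284697 IH) (Lpe (f274866 IH) (Lpn (LP (LK LD1_c10 LD2_c16 LD3_c28))))))))))))
theorem f284731 : Led Lsl_gf (LP (LK LD1_c8 LD2_c52 LD3_c33)) = (LP (LK LD1_c10 LD2_c16 LD3_c33)) :=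
  Lgr Lrot147 (Lpr_ct (K14.f247523 IH) (Lpr_gt (f218566 IH) (Lpr_ct (f284721 IH) (Lpe (f230687 IH) (Lpe (K13.f183907 IH) (Lpr_gf (K14.f251560 IH) (Lpe (K15.f182210 IH) (Lpr_gf (K15.f265861 IH) (Lpe (K15.f265851 IH) (Lpn (LP (LK LD1_c10 LD2_c16 LD3_c33))))))))))))
theorem f247434 : Led Lsl_dt (LP (LK LD1_c8 LD2_c52 LD3_c33)) = (LP (LK LD1_c4 LD2_c27 LD3_c24)) :=
  Lre_d IH (LK LD1_c8 LD2_c52 LD3_c33) (LK LD1_c4 LD2_c27 LD3_c24) Lrfl Lrfl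
theorem f178719 : Led Lsl_dt (LP (LK LD1_c2 LD2_c35 LD3_c55)) = (LP (LK LD1_c5 LD2_c18 LD3_c31)) :=
  Lre_d IH (LK LD1_c2 LD2_c35 LD3_c55) (LK LD1_c5 LD2_c18 LD3_c31) Lrfl Lrfl
theorem f248409 : Led Lsl_af (LP (LK LD1_c8 LD2_c52 LD3_c33)) = (LP (LK LD1_c5 LD2_c18 LD3_c31)) :=
  Lgr Lrot117 (Lpr_dt (f247434 IH) (Lpr_at (K14.f248378 IH) (Lpr_dt (f178719 IH) (Lpn (LP (LK LD1_c5 LD2_c18 LD3_c31))))))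
theorem f284733 : Led Lsl_ff (LP (LK LD1_c5 LD2_c18 LD3_c31)) = (LP (LK LD1_c5 LD2_c16 LD3_c18)) :=
  Lgr Lrot52 (Lpe (f248409 IH) (Lpr_gf (f284731 IH) (Lpe (K15.f265855 IH) (Lpn (LP (LK LD1_c5 LD2_c16 LD3_c18))))))
theorem f248417 : Led Lsl_ft (LP (LK LD1_c8 LD2_c52 LD3_c33)) = (LP (LK LD1_c8 LD2_c52 LD3_c10)) :=
  Lgr Lrot54 (Lpe (K14.f247425 IH) (Lpr_ff (K14.f248411 IH) (Lpe (f188015 IH) (Lpn (LP (LK LD1_c8 LD2_c52 LD3_c10))))))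
theorem f284736 : Led Lsl_at (LP (LK LD1_c8 LD2_c52 LD3_c10)) = (LP (LK LD1_c5 LD2_c16 LD3_c18)) :=
  Lgr Lrot66 (Lpe (f248417 IH) (Lpr_af (f248409 IH) (Lpr_ff (f284733 IH) (Lpn (LP (LK LD1_c5 LD2_c16 LD3_c18))))))
theorem f284738 : Led Lsl_af (LP (LK LD1_c15 LD2_c24 LD3_c25)) = (LP (LK LD1_c8 LD2_c11 LD3_c43)) :=
  Lgr Lrot68 (Lpe (f230744 IH) (Lpr_at (f284736 IH) (Lpr_ct (K15.f247559 IH) (Lpn (LP (LK LD1_c8 LD2_c11 LD3_c43))))))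
theorem f284663 : Led Lsl_ff (LP (LK LD1_c8 LD2_c11 LD3_c43)) = (LP (LK LD1_c10 LD2_c26 LD3_c43)) :=
  Lgr Lrot3 (Lpr_ft (f284659 IH) (Lpn (LP (LK LD1_c10 LD2_c26 LD3_c43))))
theorem f284655 : Led Lsl_at (LP (LK LD1_c8 LD2_c11 LD3_c40)) = (LP (LK LD1_c10 LD2_c26 LD3_c43)) :=
  Lgr Lrot100 (Lpr_af (f284653 IH) (Lpn (LP (LK LD1_c10 LD2_c26 LD3_c43))))
theorem f284744 : Led Lsl_ft (LP (LK LD1_c15 LD2_c24 LD3_c25)) = (LP (LK LD1_c8 LD2_c11 LD3_c40)) :=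
  Lgr Lrot101 (Lpr_af (f284738 IH) (Lpr_ff (f284663 IH) (Lpe (f284655 IH) (Lpn (LP (LK LD1_c8 LD2_c11 LD3_c40))))))
theorem f47416 : Led Lsl_dt (LP (LK LD1_c0 LD2_c56 LD3_c48)) = (LP (LK LD1_c1 LD2_c59 LD3_c46)) :=
  Lre_d IH (LK LD1_c0 LD2_c56 LD3_c48) (LK LD1_c1 LD2_c59 LD3_c46) Lrfl Lrfl
theorem f283976 : Led Lsl_df (LP (LK LD1_c4 LD2_c5 LD3_c11)) = (LP (LK LD1_c2 LD2_c28 LD3_c59)) :=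
  Lgr Lrot168 (Lpe (K15.f47417 IH) (Lpe (f47416 IH) (Lpr_et (K15.f224056 IH) (Lpr_gf (K15.f266809 IH) (Lpe (K15.f266815 IH) (Lpr_dt (K14.f249613 IH) (Lpe (K12.f197034 IH) (Lpe (K9.f41381 IH) (Lpr_gf (f283964 IH) (Lpe (f283961 IH) (Lpn (LP (LK LD1_c2 LD2_c28 LD3_c59)))))))))))))
theorem f188079 : Led Lsl_dt (LP (LK LD1_c15 LD2_c24 LD3_c40)) = (LP (LK LD1_c8 LD2_c11 LD3_c7)) :=
  Lre_d IH (LK LD1_c15 LD2_c24 LD3_c40) (LK LD1_c8 LD2_c11 LD3_c7) Lrfl Lrfl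
theorem f284068 : Led Lsl_gf (LP (LK LD1_c15 LD2_c24 LD3_c40)) = (LP (LK LD1_c15 LD2_c24 LD3_c25)) :=
  Lgr Lrot143 (Lpr_dt (f188079 IH) (Lpe (K15.f183840 IH) (Lpr_df (f283976 IH) (Lpr_gf (f284063 IH) (Lpe (K10.f47966 IH) (Lpr_gf (K10.f47960 IH) (Lpe (K10.f46235 IH) (Lpr_gt (K10.f47971 IH) (Lpr_dt (K12.f47972 IH) (Lpn (LP (LK LD1_c15 LD2_c24 LD3_c25))))))))))))
theorem f284750 : Led Lsl_gt (LP (LK LD1_c15 LD2_c24 LD3_c40)) = (LP (LK LD1_c10 LD2_c26 LD3_c43)) :=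
  Lgr Lrot46 (Lpr_gf (f284068 IH) (Lpr_ft (f284744 IH) (Lpr_at (f284655 IH) (Lpn (LP (LK LD1_c10 LD2_c26 LD3_c43))))))
theorem f178720 : Led Lsl_ct (LP (LK LD1_c5 LD2_c18 LD3_c31)) = (LP (LK LD1_c10 LD2_c26 LD3_c43)) :=
  Lre_c IH (LK LD1_c5 LD2_c18 LD3_c31) (LK LD1_c10 LD2_c26 LD3_c43) Lrfl Lrfl
theorem f253311 : Led Lsl_dt (LP (LK LD1_c10 LD2_c26 LD3_c43)) = (LP (LK LD1_c5 LD2_c21 LD3_c44)) :=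
  Lgr Lrot173 (Lpe (f178720 IH) (Lpe (f178719 IH) (Lpe (K9.f32913 IH) (Lpe (K9.f178701 IH) (Lpe (K12.f170682 IH) (Lpe (K10.f170844 IH) (Lpe (K12.f188000 IH) (Lpe (K12.f47410 IH) (Lpe (K12.f230740 IH) (Lpe (K12.f188017 IH) (Lpe (K12.f187550 IH) (Lpr_df (K12.f230779 IH) (Lpr_cf (K15.f253309 IH) (Lpr_df (K15.f253295 IH) (Lpe (f46465 IH) (Lpn (LP (LK LD1_c5 LD2_c21 LD3_c44))))))))))))))))))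
theorem f46261 : Led Lsl_dt (LP (LK LD1_c8 LD2_c52 LD3_c19)) = (LP (LK LD1_c4 LD2_c27 LD3_c17)) :=
  Lre_d IH (LK LD1_c8 LD2_c52 LD3_c19) (LK LD1_c4 LD2_c27 LD3_c17) Lrfl Lrfl
theorem f242997 : Led Lsl_dt (LP (LK LD1_c5 LD2_c5 LD3_c20)) = (LP (LK LD1_c10 LD2_c1 LD3_c46)) :=
  Lre_d IH (LK LD1_c5 LD2_c5 LD3_c20) (LK LD1_c10 LD2_c1 LD3_c46) Lrfl Lrfl
theorem f212289 : Led Lsl_cf (LP (LK LD1_c4 LD2_c53 LD3_c59)) = (LP (LK LD1_c4 LD2_c27 LD3_c17)) :=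
  Lgr Lrot11 (Lpr_ct (K12.f212260 IH) (Lpn (LP (LK LD1_c4 LD2_c27 LD3_c17))))
theorem f265833 : Led Lsl_gt (LP (LK LD1_c10 LD2_c1 LD3_c46)) = (LP (LK LD1_c8 LD2_c52 LD3_c19)) :=
  Lgr Lrot49 (Lpe (f242997 IH) (Lpe (K14.f253979 IH) (Lpe (K14.f192974 IH) (Lpr_gt (K15.f192485 IH) (Lpr_dt (K15.f265789 IH) (Lpr_gt (K14.f188588 IH) (Lpr_dt (K12.f190811 IH) (Lpr_cf (f212289 IH) (Lpe (f46261 IH) (Lpn (LP (LK LD1_c8 LD2_c52 LD3_c19))))))))))))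
theorem f284754 : Led Lsl_cf (LP (LK LD1_c15 LD2_c24 LD3_c40)) = (LP (LK LD1_c10 LD2_c1 LD3_c46)) :=
  Lgr Lrot166 (Lpr_gt (f284750 IH) (Lpr_dt (f253311 IH) (Lpr_gt (K10.f187500 IH) (Lpr_dt (K12.f47187 IH) (Lpr_ct (K12.f47202 IH) (Lpe (K13.f44122 IH) (Lpe (K12.f44128 IH) (Lpe (f46261 IH) (Lpe (f265833 IH) (Lpn (LP (LK LD1_c10 LD2_c1 LD3_c46))))))))))))
theorem f242994 : Led Lsl_dt (LP (LK LD1_c10 LD2_c1 LD3_c46)) = (LP (LK LD1_c5 LD2_c5 LD3_c20)) :=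
  Lre_d IH (LK LD1_c10 LD2_c1 LD3_c46) (LK LD1_c5 LD2_c5 LD3_c20) Lrfl Lrfl
theorem f44132 : Led Lsl_gt (LP (LK LD1_c2 LD2_c10 LD3_c51)) = (LP (LK LD1_c4 LD2_c27 LD3_c16)) :=
  Lre_g IH (LK LD1_c2 LD2_c10 LD3_c51) (LK LD1_c4 LD2_c27 LD3_c16) Lrfl Lrfl
theorem f44134 : Led Lsl_dt (LP (LK LD1_c4 LD2_c27 LD3_c16)) = (LP (LK LD1_c8 LD2_c52 LD3_c16)) :=
  Lre_d IH (LK LD1_c4 LD2_c27 LD3_c16) (LK LD1_c8 LD2_c52 LD3_c16) Lrfl Lrfl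
theorem f253984 : Led Lsl_gf (LP (LK LD1_c10 LD2_c1 LD3_c46)) = (LP (LK LD1_c8 LD2_c52 LD3_c16)) :=
  Lgr Lrot143 (Lpr_dt (f242994 IH) (Lpe (K15.f242912 IH) (Lpr_df (K14.f253981 IH) (Lpe (K14.f230787 IH) (Lpe (K12.f230783 IH) (Lpe (K12.f44078 IH) (Lpe (K12.f44119 IH) (Lpr_gt (f44132 IH) (Lpr_dt (f44134 IH) (Lpn (LP (LK LD1_c8 LD2_c52 LD3_c16))))))))))))
theorem f265019 : Led Lsl_dt (LP (LK LD1_c8 LD2_c52 LD3_c16)) = (LP (LK LD1_c4 LD2_c27 LD3_c16)) :=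
  Lre_d IH (LK LD1_c8 LD2_c52 LD3_c16) (LK LD1_c4 LD2_c27 LD3_c16) Lrfl Lrfl
theorem f284756 : Led Lsl_gt (LP (LK LD1_c4 LD2_c27 LD3_c16)) = (LP (LK LD1_c4 LD2_c27 LD3_c30)) :=
  Lgr Lrot9 (Lpe (f265019 IH) (Lpe (f253984 IH) (Lpe (f284754 IH) (Lpr_gt (f284750 IH) (Lpr_ct (f178755 IH) (Lpe (f178719 IH) (Lpe (K9.f32913 IH) (Lpe (K9.f182206 IH) (Lpe (K13.f46166 IH) (Lpn (LP (LK LD1_c4 LD2_c27 LD3_c30))))))))))))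
theorem f284766 : Led Lsl_cf (LP (LK LD1_c4 LD2_c27 LD3_c16)) = (LP (LK LD1_c4 LD2_c53 LD3_c58)) :=
  Lgr Lrot169 (Lpr_gt (f284756 IH) (Lpr_ct (K13.f46166 IH) (Lpe (K1.f46078 IH) (Lpe (K1.f46203 IH) (Lpe (K10.f47205 IH) (Lpr_cf (K10.f190865 IH) (Lpe (K10.f44455 IH) (Lpe (K1.f44442 IH) (Lpr_gt (K12.f44448 IH) (Lpn (LP (LK LD1_c4 LD2_c53 LD3_c58))))))))))))
theorem f47197 : Led Lsl_ct (LP (LK LD1_c8 LD2_c10 LD3_c59)) = (LP (LK LD1_c8 LD2_c52 LD3_c53)) :=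
  Lgr Lrot41 (Lpe (K13.f47196 IH) (Lpe (K1.f47195 IH) (Lpe (K10.f47194 IH) (Lpr_ft (K1.f47193 IH) (Lpr_at (K1.f46202 IH) (Lpr_cf (K1.f47104 IH) (Lpe (K1.f46079 IH) (Lpe (K13.f46166 IH) (Lpe (K13.f46165 IH) (Lpn (LP (LK LD1_c8 LD2_c52 LD3_c53))))))))))))
theorem f259584 : Led Lsl_df (LP (LK LD1_c2 LD2_c40 LD3_c26)) = (LP (LK LD1_c5 LD2_c4 LD3_c50)) :=
  Lgr Lrot162 (Lpe (K14.f193960 IH) (Lpe (K14.f193957 IH) (Lpe (K14.f28378 IH) (Lpe (K14.f28361 IH) (Lpr_dt (K10.f192134 IH) (Lpr_gt (K15.f259577 IH) (Lpr_ct (K15.f55607 IH) (Lpe (K15.f259582 IH) (Lpr_ct (K15.f259581 IH) (Lpn (LP (LK LD1_c5 LD2_c4 LD3_c50))))))))))))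
theorem f230884 : Led Lsl_gf (LP (LK LD1_c5 LD2_c37 LD3_c4)) = (LP (LK LD1_c8 LD2_c15 LD3_c39)) :=
  Lgr Lrot126 (Lpe (K15.f178452 IH) (Lpr_bt (K14.f178449 IH) (Lpr_gt (K11.f178301 IH) (Lpr_ct (K10.f169001 IH) (Lpe (K10.f184968 IH) (Lpe (K10.f183937 IH) (Lpr_bt (K15.f183936 IH) (Lpe (K14.f196047 IH) (Lpr_bf (K14.f230873 IH) (Lpr_ct (K15.f50767 IH) (Lpn (LP (LK LD1_c8 LD2_c15 LD3_c39)))))))))))))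
theorem f180043 : Led Lsl_dt (LP (LK LD1_c5 LD2_c37 LD3_c4)) = (LP (LK LD1_c11 LD2_c6 LD3_c8)) :=
  Lre_d IH (LK LD1_c5 LD2_c37 LD3_c4) (LK LD1_c11 LD2_c6 LD3_c8) Lrfl Lrfl
theorem f261345 : Led Lsl_gf (LP (LK LD1_c15 LD2_c24 LD3_c25)) = (LP (LK LD1_c11 LD2_c6 LD3_c8)) :=
  Lgr Lrot143 (Lpr_dt (K12.f47410 IH) (Lpr_cf (K10.f187975 IH) (Lpe (K14.f170685 IH) (Lpr_gf (K14.f251582 IH) (Lpr_df (f259584 IH) (Lpr_gf (K15.f261343 IH) (Lpe (K15.f50766 IH) (Lpe (f230884 IH) (Lpr_dt (f180043 IH) (Lpn (LP (LK LD1_c11 LD2_c6 LD3_c8))))))))))))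
theorem f180048 : Led Lsl_at (LP (LK LD1_c5 LD2_c37 LD3_c3)) = (LP (LK LD1_c2 LD2_c44 LD3_c27)) :=
  Lre_a IH (LK LD1_c5 LD2_c37 LD3_c3) (LK LD1_c2 LD2_c44 LD3_c27) Lrfl Lrfl
theorem f237896 : Led Lsl_ft (LP (LK LD1_c4 LD2_c5 LD3_c11)) = (LP (LK LD1_c5 LD2_c37 LD3_c3)) :=
  Lgr Lrot2 (Lpr_gt (K15.f188085 IH) (Lpr_gt (K15.f237825 IH) (Lpe (f180048 IH) (Lpn (LP (LK LD1_c5 LD2_c37 LD3_c3))))))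
theorem f178450 : Led Lsl_ct (LP (LK LD1_c5 LD2_c37 LD3_c4)) = (LP (LK LD1_c2 LD2_c44 LD3_c27)) :=
  Lre_c IH (LK LD1_c5 LD2_c37 LD3_c4) (LK LD1_c2 LD2_c44 LD3_c27) Lrfl Lrfl
theorem f178451 : Led Lsl_dt (LP (LK LD1_c11 LD2_c6 LD3_c8)) = (LP (LK LD1_c5 LD2_c37 LD3_c4)) :=
  Lre_d IH (LK LD1_c11 LD2_c6 LD3_c8) (LK LD1_c5 LD2_c37 LD3_c4) Lrfl Lrfl
theorem f169833 : Led Lsl_ct (LP (LK LD1_c2 LD2_c29 LD3_c57)) = (LP (LK LD1_c5 LD2_c5 LD3_c18)) :=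
  Lre_c IH (LK LD1_c2 LD2_c29 LD3_c57) (LK LD1_c5 LD2_c5 LD3_c18) Lrfl Lrfl
theorem f230797 : Led Lsl_dt (LP (LK LD1_c5 LD2_c5 LD3_c18)) = (LP (LK LD1_c10 LD2_c1 LD3_c40)) :=
  Lre_d IH (LK LD1_c5 LD2_c5 LD3_c18) (LK LD1_c10 LD2_c1 LD3_c40) Lrfl Lrfl
theorem f284080 : Led Lsl_cf (LP (LK LD1_c11 LD2_c6 LD3_c8)) = (LP (LK LD1_c10 LD2_c1 LD3_c40)) :=
  Lgr Lrot161 (Lpr_dt (f178451 IH) (Lpr_ct (f178450 IH) (Lpe (f180048 IH) (Lpe (f237896 IH) (Lpr_dt (f284033 IH) (Lpr_ct (f284070 IH) (Lpe (K14.f230795 IH) (Lpr_ct (f169833 IH) (Lpr_dt (f230797 IH) (Lpn (LP (LK LD1_c10 LD2_c1 LD3_c40))))))))))))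
theorem f284762 : Led Lsl_gf (LP (LK LD1_c8 LD2_c52 LD3_c16)) = (LP (LK LD1_c10 LD2_c1 LD3_c40)) :=
  Lgr Lrot144 (Lpr_dt (f265019 IH) (Lpr_gt (f284756 IH) (Lpr_dt (K1.f46158 IH) (Lpe (f47197 IH) (Lpe (K13.f47196 IH) (Lpe (K10.f47409 IH) (Lpe (K12.f47410 IH) (Lpr_gf (f261345 IH) (Lpr_cf (f284080 IH) (Lpn (LP (LK LD1_c10 LD2_c1 LD3_c40))))))))))))
theorem f284779 : Led Lsl_gf (LP (LK LD1_c5 LD2_c5 LD3_c18)) = (LP (LK LD1_c8 LD2_c11 LD3_c4)) :=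
  Lgr Lrot144 (Lpr_dt (f230797 IH) (Lpe (f284762 IH) (Lpr_dt (f265019 IH) (Lpr_cf (f284766 IH) (Lpe (K15.f265013 IH) (Lpe (K14.f253977 IH) (Lpe (K14.f251664 IH) (Lpe (K14.f250108 IH) (Lpe (K15.f187880 IH) (Lpn (LP (LK LD1_c8 LD2_c11 LD3_c4))))))))))))
theorem f169842 : Led Lsl_ct (LP (LK LD1_c5 LD2_c5 LD3_c18)) = (LP (LK LD1_c2 LD2_c29 LD3_c57)) :=
  Lre_c IH (LK LD1_c5 LD2_c5 LD3_c18) (LK LD1_c2 LD2_c29 LD3_c57) Lrfl Lrfl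
theorem f284783 : Led Lsl_gt (LP (LK LD1_c5 LD2_c1 LD3_c15)) = (LP (LK LD1_c4 LD2_c5 LD3_c9)) :=
  Lgr Lrot9 (Lpr_df (K15.f265830 IH) (Lpr_gt (K14.f188588 IH) (Lpr_ct (K10.f47974 IH) (Lpe (f284063 IH) (Lpr_ct (f284070 IH) (Lpe (K14.f230798 IH) (Lpe (f169842 IH) (Lpr_gf (f284779 IH) (Lpe (K15.f187881 IH) (Lpn (LP (LK LD1_c4 LD2_c5 LD3_c9))))))))))))
theorem f235746 : Led Lsl_gt (LP (LK LD1_c2 LD2_c23 LD3_c31)) = (LP (LK LD1_c4 LD2_c51 LD3_c23)) :=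
  Lre_g IH (LK LD1_c2 LD2_c23 LD3_c31) (LK LD1_c4 LD2_c51 LD3_c23) Lrfl Lrfl
theorem f284793 : Led Lsl_et (LP (LK LD1_c7 LD2_c57 LD3_c53)) = (LP (LK LD1_c4 LD2_c51 LD3_c23)) :=
  Lgr Lrot122 (Lpe (K15.f265830 IH) (Lpr_gt (f284783 IH) (Lpe (K14.f187879 IH) (Lpr_et (K16.f191053 IH) (Lpr_gt (K15.f266805 IH) (Lpe (K15.f219298 IH) (Lpr_gt (K15.f267585 IH) (Lpe (K14.f229617 IH) (Lpr_et (K15.f238181 IH) (Lpr_gt (f235746 IH) (Lpn (LP (LK LD1_c4 LD2_c51 LD3_c23)))))))))))))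
theorem f284799 : Led Lsl_gf (LP (LK LD1_c4 LD2_c12 LD3_c54)) = (LP (LK LD1_c4 LD2_c51 LD3_c23)) :=
  Lgr Lrot141 (Lpe (K14.f256066 IH) (Lpe (K14.f251589 IH) (Lpe (K14.f215054 IH) (Lpe (K12.f43383 IH) (Lpr_et (K16.f43348 IH) (Lpr_gt (K10.f192481 IH) (Lpr_dt (K14.f192488 IH) (Lpr_gt (K15.f192485 IH) (Lpr_df (K15.f265830 IH) (Lpr_et (f284793 IH) (Lpn (LP (LK LD1_c4 LD2_c51 LD3_c23)))))))))))))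
theorem f274874 : Led Lsl_dt (LP (LK LD1_c4 LD2_c54 LD3_c43)) = (LP (LK LD1_c4 LD2_c12 LD3_c54)) :=
  Lgr Lrot42 (Lpr_df (K16.f274870 IH) (Lpn (LP (LK LD1_c4 LD2_c12 LD3_c54))))
theorem f274876 : Led Lsl_et (LP (LK LD1_c4 LD2_c54 LD3_c43)) = (LP (LK LD1_c9 LD2_c41 LD3_c0)) :=
  Lre_e IH (LK LD1_c4 LD2_c54 LD3_c43) (LK LD1_c9 LD2_c41 LD3_c0) Lrfl Lrfl
theorem f284803 : Led Lsl_dt (LP (LK LD1_c4 LD2_c28 LD3_c23)) = (LP (LK LD1_c4 LD2_c51 LD3_c23)) :=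
  Lgr Lrot57 (Lpe (K16.f213009 IH) (Lpe (K12.f53642 IH) (Lpr_gt (K15.f218814 IH) (Lpr_dt (K16.f218817 IH) (Lpr_gt (K16.f278886 IH) (Lpr_dt (K16.f267111 IH) (Lpe (K16.f278909 IH) (Lpr_df (K16.f274870 IH) (Lpr_gf (f284799 IH) (Lpn (LP (LK LD1_c4 LD2_c51 LD3_c23))))))))))))
theorem f187777 : Led Lsl_et (LP (LK LD1_c4 LD2_c6 LD3_c28)) = (LP (LK LD1_c8 LD2_c13 LD3_c32)) :=
  Lre_e IH (LK LD1_c4 LD2_c6 LD3_c28) (LK LD1_c8 LD2_c13 LD3_c32) Lrfl Lrfl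
theorem f284811 : Led Lsl_gt (LP (LK LD1_c9 LD2_c41 LD3_c0)) = (LP (LK LD1_c8 LD2_c13 LD3_c32)) :=
  Lgr Lrot131 (Lpe (f274876 IH) (Lpr_dt (f274874 IH) (Lpr_gf (f284799 IH) (Lpe (f284803 IH) (Lpe (K16.f213009 IH) (Lpe (K12.f54079 IH) (Lpr_dt (K10.f28660 IH) (Lpe (K14.f187765 IH) (Lpe (K15.f187776 IH) (Lpr_et (f187777 IH) (Lpn (LP (LK LD1_c8 LD2_c13 LD3_c32)))))))))))))
theorem f252186 : Led Lsl_af (LP (LK LD1_c2 LD2_c31 LD3_c33)) = (LP (LK LD1_c4 LD2_c54 LD3_c15)) :=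
  Lgr Lrot36 (Lpr_bt (K13.f190324 IH) (Lpr_at (K13.f239801 IH) (Lpe (K14.f195628 IH) (Lpr_at (K14.f252182 IH) (Lpr_bt (K15.f189776 IH) (Lpn (LP (LK LD1_c4 LD2_c54 LD3_c15))))))))
theorem f190312 : Led Lsl_gt (LP (LK LD1_c5 LD2_c8 LD3_c44)) = (LP (LK LD1_c2 LD2_c31 LD3_c33)) :=
  Lre_g IH (LK LD1_c5 LD2_c8 LD3_c44) (LK LD1_c2 LD2_c31 LD3_c33) Lrfl Lrfl
theorem f282117 : Led Lsl_gf (LP (LK LD1_c5 LD2_c8 LD3_c44)) = (LP (LK LD1_c4 LD2_c54 LD3_c0)) :=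
  Lgr Lrot47 (Lpr_gt (f190312 IH) (Lpr_af (f252186 IH) (Lpr_ff (f282111 IH) (Lpn (LP (LK LD1_c4 LD2_c54 LD3_c0))))))
theorem f187778 : Led Lsl_et (LP (LK LD1_c4 LD2_c6 LD3_c29)) = (LP (LK LD1_c2 LD2_c0 LD3_c34)) :=
  Lre_e IH (LK LD1_c4 LD2_c6 LD3_c29) (LK LD1_c2 LD2_c0 LD3_c34) Lrfl Lrfl
theorem f282125 : Led Lsl_df (LP (LK LD1_c5 LD2_c8 LD3_c44)) = (LP (LK LD1_c4 LD2_c6 LD3_c29)) :=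
  Lgr Lrot132 (Lpr_gf (f282117 IH) (Lpe (K14.f43824 IH) (Lpe (K9.f43820 IH) (Lpe (K9.f43392 IH) (Lpe (K8.f44522 IH) (Lpr_gf (K1.f44526 IH) (Lpr_df (K1.f45781 IH) (Lpr_et (K0.f28666 IH) (Lpe (K14.f187765 IH) (Lpe (f187778 IH) (Lpn (LP (LK LD1_c4 LD2_c6 LD3_c29)))))))))))))
theorem f282129 : Led Lsl_et (LP (LK LD1_c5 LD2_c8 LD3_c44)) = (LP (LK LD1_c10 LD2_c7 LD3_c54)) :=
  Lre_e IH (LK LD1_c5 LD2_c8 LD3_c44) (LK LD1_c10 LD2_c7 LD3_c54) Lrfl Lrfl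
theorem f187836 : Led Lsl_et (LP (LK LD1_c8 LD2_c13 LD3_c32)) = (LP (LK LD1_c4 LD2_c6 LD3_c28)) :=
  Lre_e IH (LK LD1_c8 LD2_c13 LD3_c32) (LK LD1_c4 LD2_c6 LD3_c28) Lrfl Lrfl
theorem f282130 : Led Lsl_dt (LP (LK LD1_c10 LD2_c7 LD3_c54)) = (LP (LK LD1_c8 LD2_c13 LD3_c32)) :=
  Lgr Lrot77 (Lpe (f282129 IH) (Lpr_df (f282125 IH) (Lpe (K15.f187838 IH) (Lpe (K15.f187776 IH) (Lpe (f187836 IH) (Lpn (LP (LK LD1_c8 LD2_c13 LD3_c32))))))))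
theorem f215056 : Led Lsl_et (LP (LK LD1_c10 LD2_c7 LD3_c54)) = (LP (LK LD1_c5 LD2_c8 LD3_c44)) :=
  Lre_e IH (LK LD1_c10 LD2_c7 LD3_c54) (LK LD1_c5 LD2_c8 LD3_c44) Lrfl Lrfl
theorem f215045 : Led Lsl_et (LP (LK LD1_c15 LD2_c30 LD3_c57)) = (LP (LK LD1_c8 LD2_c15 LD3_c5)) :=
  Lre_e IH (LK LD1_c15 LD2_c30 LD3_c57) (LK LD1_c8 LD2_c15 LD3_c5) Lrfl Lrfl
theorem f284816 : Led Lsl_df (LP (LK LD1_c9 LD2_c41 LD3_c0)) = (LP (LK LD1_c15 LD2_c30 LD3_c57)) :=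
  Lgr Lrot170 (Lpr_gt (f284811 IH) (Lpe (f282130 IH) (Lpr_et (f215056 IH) (Lpr_gt (f190312 IH) (Lpr_dt (K14.f190311 IH) (Lpr_gt (K12.f190878 IH) (Lpe (K9.f43408 IH) (Lpe (K9.f44571 IH) (Lpr_gt (K14.f215048 IH) (Lpe (f215045 IH) (Lpn (LP (LK LD1_c15 LD2_c30 LD3_c57)))))))))))))
theorem f54049 : Led Lsl_et (LP (LK LD1_c2 LD2_c35 LD3_c25)) = (LP (LK LD1_c5 LD2_c17 LD3_c20)) :=
  Lre_e IH (LK LD1_c2 LD2_c35 LD3_c25) (LK LD1_c5 LD2_c17 LD3_c20) Lrfl Lrfl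
theorem f54050 : Led Lsl_gt (LP (LK LD1_c10 LD2_c24 LD3_c13)) = (LP (LK LD1_c5 LD2_c17 LD3_c20)) :=
  Lre_g IH (LK LD1_c10 LD2_c24 LD3_c13) (LK LD1_c5 LD2_c17 LD3_c20) Lrfl Lrfl
theorem f251729 : Led Lsl_et (LP (LK LD1_c5 LD2_c29 LD3_c54)) = (LP (LK LD1_c10 LD2_c24 LD3_c13)) :=
  Lgr Lrot185 (Lpr_dt (K14.f251727 IH) (Lpe (K14.f190858 IH) (Lpr_df (K13.f190820 IH) (Lpe (K13.f49157 IH) (Lpe (K9.f54035 IH) (Lpr_dt (K15.f33046 IH) (Lpe (K10.f32091 IH) (Lpe (K15.f54047 IH) (Lpr_et (f54049 IH) (Lpe (f54050 IH) (Lpn (LP (LK LD1_c10 LD2_c24 LD3_c13)))))))))))))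
theorem f251733 : Led Lsl_ef (LP (LK LD1_c5 LD2_c29 LD3_c54)) = (LP (LK LD1_c10 LD2_c24 LD3_c13)) :=
  Lgr Lrot88 (Lpr_et (f251729 IH) (Lpn (LP (LK LD1_c10 LD2_c24 LD3_c13))))
theorem f274919 : Led Lsl_bt (LP (LK LD1_c9 LD2_c41 LD3_c0)) = (LP (LK LD1_c10 LD2_c24 LD3_c13)) :=
  Lgr Lrot119 (Lpe (f274876 IH) (Lpr_bf (K16.f274885 IH) (Lpr_ef (f251733 IH) (Lpn (LP (LK LD1_c10 LD2_c24 LD3_c13))))))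
theorem f214753 : Led Lsl_bt (LP (LK LD1_c8 LD2_c15 LD3_c6)) = (LP (LK LD1_c15 LD2_c30 LD3_c57)) :=
  Lre_b IH (LK LD1_c8 LD2_c15 LD3_c6) (LK LD1_c15 LD2_c30 LD3_c57) Lrfl Lrfl
theorem f284818 : Led Lsl_dt (LP (LK LD1_c10 LD2_c24 LD3_c13)) = (LP (LK LD1_c8 LD2_c15 LD3_c6)) :=
  Lgr Lrot79 (Lpe (f274919 IH) (Lpr_df (f284816 IH) (Lpe (f214753 IH) (Lpn (LP (LK LD1_c8 LD2_c15 LD3_c6))))))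
theorem f263676 : Led Lsl_ef (LP (LK LD1_c8 LD2_c18 LD3_c52)) = (LP (LK LD1_c5 LD2_c28 LD3_c11)) :=
  Lgr Lrot88 (Lpr_et (K15.f263672 IH) (Lpn (LP (LK LD1_c5 LD2_c28 LD3_c11))))
theorem f45011 : Led Lsl_et (LP (LK LD1_c8 LD2_c15 LD3_c6)) = (LP (LK LD1_c4 LD2_c7 LD3_c33)) :=
  Lre_e IH (LK LD1_c8 LD2_c15 LD3_c6) (LK LD1_c4 LD2_c7 LD3_c33) Lrfl Lrfl
theorem f284828 : Led Lsl_df (LP (LK LD1_c5 LD2_c28 LD3_c11)) = (LP (LK LD1_c4 LD2_c7 LD3_c33)) :=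
  Lgr Lrot70 (Lpe (f263676 IH) (Lpe (K14.f250677 IH) (Lpr_et (f251729 IH) (Lpr_dt (f284818 IH) (Lpr_et (f45011 IH) (Lpn (LP (LK LD1_c4 LD2_c7 LD3_c33))))))))
theorem f188216 : Led Lsl_dt (LP (LK LD1_c10 LD2_c24 LD3_c41)) = (LP (LK LD1_c5 LD2_c17 LD3_c32)) :=
  Lre_d IH (LK LD1_c10 LD2_c24 LD3_c41) (LK LD1_c5 LD2_c17 LD3_c32) Lrfl Lrfl
theorem f189514 : Led Lsl_dt (LP (LK LD1_c5 LD2_c17 LD3_c4)) = (LP (LK LD1_c10 LD2_c23 LD3_c46)) :=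
  Lre_d IH (LK LD1_c5 LD2_c17 LD3_c4) (LK LD1_c10 LD2_c23 LD3_c46) Lrfl Lrfl
theorem f284831 : Led Lsl_gf (LP (LK LD1_c10 LD2_c24 LD3_c41)) = (LP (LK LD1_c10 LD2_c23 LD3_c46)) :=
  Lgr Lrot143 (Lpr_dt (f188216 IH) (Lpe (K14.f188402 IH) (Lpr_df (K14.f251305 IH) (Lpr_gf (K15.f263678 IH) (Lpr_df (f284828 IH) (Lpe (K13.f45010 IH) (Lpe (K12.f44976 IH) (Lpe (K14.f189508 IH) (Lpr_dt (f189514 IH) (Lpn (LP (LK LD1_c10 LD2_c23 LD3_c46))))))))))))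
theorem f191185 : Led Lsl_dt (LP (LK LD1_c2 LD2_c39 LD3_c46)) = (LP (LK LD1_c5 LD2_c26 LD3_c44)) :=
  Lre_d IH (LK LD1_c2 LD2_c39 LD3_c46) (LK LD1_c5 LD2_c26 LD3_c44) Lrfl Lrfl
theorem f251183 : Led Lsl_af (LP (LK LD1_c2 LD2_c35 LD3_c17)) = (LP (LK LD1_c1 LD2_c14 LD3_c53)) :=
  Lgr Lrot0 (Lpr_at (K14.f251181 IH) (Lpn (LP (LK LD1_c1 LD2_c14 LD3_c53))))
theorem f189513 : Led Lsl_dt (LP (LK LD1_c10 LD2_c23 LD3_c46)) = (LP (LK LD1_c5 LD2_c17 LD3_c4)) :=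
  Lre_d IH (LK LD1_c10 LD2_c23 LD3_c46) (LK LD1_c5 LD2_c17 LD3_c4) Lrfl Lrfl
theorem f251210 : Led Lsl_ct (LP (LK LD1_c5 LD2_c26 LD3_c44)) = (LP (LK LD1_c10 LD2_c23 LD3_c46)) :=
  Lgr Lrot53 (Lpe (f191185 IH) (Lpe (K10.f8551 IH) (Lpe (K13.f236119 IH) (Lpe (K10.f197002 IH) (Lpe (K10.f197013 IH) (Lpr_ft (K14.f251199 IH) (Lpe (f251183 IH) (Lpe (K16.f189510 IH) (Lpe (f189513 IH) (Lpn (LP (LK LD1_c10 LD2_c23 LD3_c46))))))))))))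
theorem f182065 : Led Lsl_ct (LP (LK LD1_c2 LD2_c58 LD3_c51)) = (LP (LK LD1_c1 LD2_c25 LD3_c8)) :=
  Lre_c IH (LK LD1_c2 LD2_c58 LD3_c51) (LK LD1_c1 LD2_c25 LD3_c8) Lrfl Lrfl
theorem f191312 : Led Lsl_dt (LP (LK LD1_c10 LD2_c47 LD3_c37)) = (LP (LK LD1_c5 LD2_c28 LD3_c12)) :=
  Lre_d IH (LK LD1_c10 LD2_c47 LD3_c37) (LK LD1_c5 LD2_c28 LD3_c12) Lrfl Lrfl
theorem f284847 : Led Lsl_ct (LP (LK LD1_c10 LD2_c24 LD3_c41)) = (LP (LK LD1_c10 LD2_c47 LD3_c37)) :=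
  Lgr Lrot110 (Lpr_gf (f284831 IH) (Lpe (f251210 IH) (Lpe (K15.f8478 IH) (Lpe (K15.f259333 IH) (Lpr_gt (K15.f182086 IH) (Lpr_ct (f182065 IH) (Lpe (K14.f252580 IH) (Lpr_ct (K14.f175072 IH) (Lpe (f191312 IH) (Lpn (LP (LK LD1_c10 LD2_c47 LD3_c37))))))))))))
theorem f236145 : Led Lsl_dt (LP (LK LD1_c10 LD2_c47 LD3_c41)) = (LP (LK LD1_c5 LD2_c28 LD3_c18)) :=
  Lre_d IH (LK LD1_c10 LD2_c47 LD3_c41) (LK LD1_c5 LD2_c28 LD3_c18) Lrfl Lrfl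
theorem f48238 : Led Lsl_dt (LP (LK LD1_c5 LD2_c17 LD3_c31)) = (LP (LK LD1_c10 LD2_c24 LD3_c38)) :=
  Lre_d IH (LK LD1_c5 LD2_c17 LD3_c31) (LK LD1_c10 LD2_c24 LD3_c38) Lrfl Lrfl
theorem f284858 : Led Lsl_cf (LP (LK LD1_c10 LD2_c47 LD3_c41)) = (LP (LK LD1_c10 LD2_c24 LD3_c38)) :=
  Lgr Lrot55 (Lpr_dt (f236145 IH) (Lpr_ct (K15.f236148 IH) (Lpr_dt (K13.f236115 IH) (Lpr_ct (K13.f236127 IH) (Lpe (K14.f251305 IH) (Lpr_ct (K14.f188402 IH) (Lpr_dt (K16.f188421 IH) (Lpr_ct (f284847 IH) (Lpr_dt (f191312 IH) (Lpr_ct (K15.f191311 IH) (Lpr_dt (K14.f191318 IH) (Lpr_ct (K14.f175059 IH) (Lpr_dt (K15.f252629 IH) (Lpe (K16.f259668 IH) (Lpr_dt (f48238 IH) (Lpn (LP (LK LD1_c10 LD2_c24 LD3_c38))))))))))))))))))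
theorem f259337 : Led Lsl_dt (LP (LK LD1_c5 LD2_c28 LD3_c18)) = (LP (LK LD1_c10 LD2_c47 LD3_c41)) :=
  Lre_d IH (LK LD1_c5 LD2_c28 LD3_c18) (LK LD1_c10 LD2_c47 LD3_c41) Lrfl Lrfl
theorem f191182 : Led Lsl_gt (LP (LK LD1_c5 LD2_c26 LD3_c44)) = (LP (LK LD1_c10 LD2_c44 LD3_c36)) :=
  Lre_g IH (LK LD1_c5 LD2_c26 LD3_c44) (LK LD1_c10 LD2_c44 LD3_c36) Lrfl Lrfl
theorem f284845 : Led Lsl_df (LP (LK LD1_c6 LD2_c5 LD3_c28)) = (LP (LK LD1_c10 LD2_c44 LD3_c36)) :=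
  Lgr Lrot153 (Lpe (K15.f263475 IH) (Lpr_dt (K15.f49110 IH) (Lpr_cf (K10.f188209 IH) (Lpe (K10.f48945 IH) (Lpe (K14.f53549 IH) (Lpe (f188216 IH) (Lpr_gf (f284831 IH) (Lpe (f251210 IH) (Lpr_gt (f191182 IH) (Lpn (LP (LK LD1_c10 LD2_c44 LD3_c36))))))))))))
theorem f273633 : Led Lsl_ct (LP (LK LD1_c8 LD2_c15 LD3_c18)) = (LP (LK LD1_c8 LD2_c30 LD3_c45)) :=
  Lgr Lrot7 (Lpe (K16.f191335 IH) (Lpe (K16.f231578 IH) (Lpe (K16.f54510 IH) (Lpe (K16.f266479 IH) (Lpe (K16.f273609 IH) (Lpr_gt (K16.f273630 IH) (Lpr_dt (K9.f49793 IH) (Lpe (K16.f215051 IH) (Lpr_dt (K16.f197033 IH) (Lpn (LP (LK LD1_c8 LD2_c30 LD3_c45))))))))))))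
theorem f49134 : Led Lsl_dt (LP (LK LD1_c10 LD2_c24 LD3_c38)) = (LP (LK LD1_c5 LD2_c17 LD3_c31)) :=
  Lre_d IH (LK LD1_c10 LD2_c24 LD3_c38) (LK LD1_c5 LD2_c17 LD3_c31) Lrfl Lrfl
theorem f273653 : Led Lsl_gt (LP (LK LD1_c8 LD2_c30 LD3_c45)) = (LP (LK LD1_c10 LD2_c24 LD3_c38)) :=
  Lgr Lrot94 (Lpe (f273633 IH) (Lpr_gt (K16.f273649 IH) (Lpe (K15.f259358 IH) (Lpr_gt (K15.f182086 IH) (Lpr_dt (K15.f182085 IH) (Lpe (K15.f188235 IH) (Lpe (K15.f49107 IH) (Lpr_gf (K16.f259680 IH) (Lpe (f49134 IH) (Lpn (LP (LK LD1_c10 LD2_c24 LD3_c38))))))))))))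
theorem f284882 : Led Lsl_gt (LP (LK LD1_c10 LD2_c44 LD3_c36)) = (LP (LK LD1_c8 LD2_c15 LD3_c18)) :=
  Lgr Lrot146 (Lpe (f284845 IH) (Lpe (K15.f263475 IH) (Lpr_ct (K15.f49105 IH) (Lpr_gt (K15.f259323 IH) (Lpr_ct (K15.f236144 IH) (Lpr_dt (f259337 IH) (Lpr_cf (f284858 IH) (Lpe (f273653 IH) (Lpe (f273633 IH) (Lpn (LP (LK LD1_c8 LD2_c15 LD3_c18))))))))))))
theorem f3745 : Led Lsl_dt (LP (LK LD1_c9 LD2_c53 LD3_c19)) = (LP (LK LD1_c5 LD2_c1 LD3_c31)) :=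
  Lre_d IH (LK LD1_c9 LD2_c53 LD3_c19) (LK LD1_c5 LD2_c1 LD3_c31) Lrfl Lrfl
theorem f32345 : Led Lsl_dt (LP (LK LD1_c1 LD2_c14 LD3_c22)) = (LP (LK LD1_c2 LD2_c34 LD3_c42)) :=
  Lre_d IH (LK LD1_c1 LD2_c14 LD3_c22) (LK LD1_c2 LD2_c34 LD3_c42) Lrfl Lrfl
theorem f49921 : Led Lsl_dt (LP (LK LD1_c10 LD2_c20 LD3_c45)) = (LP (LK LD1_c5 LD2_c15 LD3_c43)) :=
  Lre_d IH (LK LD1_c10 LD2_c20 LD3_c45) (LK LD1_c5 LD2_c15 LD3_c43) Lrfl Lrfl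
theorem f53592 : Led Lsl_dt (LP (LK LD1_c4 LD2_c8 LD3_c3)) = (LP (LK LD1_c8 LD2_c16 LD3_c9)) :=
  Lre_d IH (LK LD1_c4 LD2_c8 LD3_c3) (LK LD1_c8 LD2_c16 LD3_c9) Lrfl Lrfl
theorem f282988 : Led Lsl_gf (LP (LK LD1_c10 LD2_c20 LD3_c45)) = (LP (LK LD1_c8 LD2_c16 LD3_c9)) :=
  Lgr Lrot143 (Lpr_dt (f49921 IH) (Lpe (K16.f49920 IH) (Lpe (f32345 IH) (Lpe (K16.f271203 IH) (Lpr_df (f282936 IH) (Lpe (K10.f50772 IH) (Lpe (K10.f49621 IH) (Lpr_gt (K10.f53590 IH) (Lpr_dt (f53592 IH) (Lpn (LP (LK LD1_c8 LD2_c16 LD3_c9))))))))))))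
theorem f185027 : Led Lsl_dt (LP (LK LD1_c10 LD2_c15 LD3_c9)) = (LP (LK LD1_c5 LD2_c12 LD3_c15)) :=
  Lre_d IH (LK LD1_c10 LD2_c15 LD3_c9) (LK LD1_c5 LD2_c12 LD3_c15) Lrfl Lrfl
theorem f165905 : Led Lsl_dt (LP (LK LD1_c5 LD2_c1 LD3_c31)) = (LP (LK LD1_c9 LD2_c53 LD3_c19)) :=
  Lre_d IH (LK LD1_c5 LD2_c1 LD3_c31) (LK LD1_c9 LD2_c53 LD3_c19) Lrfl Lrfl
theorem f184166 : Led Lsl_ct (LP (LK LD1_c9 LD2_c53 LD3_c19)) = (LP (LK LD1_c8 LD2_c16 LD3_c9)) :=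
  Lgr Lrot7 (Lpe (f165905 IH) (Lpe (K10.f165899 IH) (Lpe (K10.f32848 IH) (Lpe (K10.f32849 IH) (Lpr_cf (K10.f184155 IH) (Lpe (K10.f53567 IH) (Lpr_dt (K10.f49783 IH) (Lpr_gt (K10.f53590 IH) (Lpr_dt (f53592 IH) (Lpn (LP (LK LD1_c8 LD2_c16 LD3_c9))))))))))))
theorem f282999 : Led Lsl_gf (LP (LK LD1_c10 LD2_c15 LD3_c9)) = (LP (LK LD1_c9 LD2_c53 LD3_c19)) :=
  Lgr Lrot144 (Lpr_dt (f185027 IH) (Lpe (K14.f250066 IH) (Lpr_dt (K14.f191533 IH) (Lpe (K13.f214672 IH) (Lpr_df (K13.f191367 IH) (Lpe (K16.f192104 IH) (Lpe (f49921 IH) (Lpr_gf (f282988 IH) (Lpe (f184166 IH) (Lpn (LP (LK LD1_c9 LD2_c53 LD3_c19))))))))))))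
theorem f284891 : Led Lsl_cf (LP (LK LD1_c10 LD2_c44 LD3_c36)) = (LP (LK LD1_c10 LD2_c15 LD3_c9)) :=
  Lgr Lrot169 (Lpr_gt (f284882 IH) (Lpr_ct (f273633 IH) (Lpe (K16.f197033 IH) (Lpe (K12.f197030 IH) (Lpr_gf (K10.f197022 IH) (Lpe (K9.f32855 IH) (Lpr_gf (K9.f165894 IH) (Lpe (f3745 IH) (Lpe (f282999 IH) (Lpn (LP (LK LD1_c10 LD2_c15 LD3_c9))))))))))))
theorem f191169 : Led Lsl_dt (LP (LK LD1_c5 LD2_c26 LD3_c6)) = (LP (LK LD1_c10 LD2_c43 LD3_c30)) :=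
  Lre_d IH (LK LD1_c5 LD2_c26 LD3_c6) (LK LD1_c10 LD2_c43 LD3_c30) Lrfl Lrfl
theorem f184175 : Led Lsl_cf (LP (LK LD1_c9 LD2_c53 LD3_c19)) = (LP (LK LD1_c8 LD2_c16 LD3_c9)) :=
  Lgr Lrot11 (Lpr_ct (f184166 IH) (Lpn (LP (LK LD1_c8 LD2_c16 LD3_c9))))
theorem f284914 : Led Lsl_gt (LP (LK LD1_c10 LD2_c43 LD3_c30)) = (LP (LK LD1_c8 LD2_c16 LD3_c9)) :=
  Lgr Lrot9 (Lpe (f191169 IH) (Lpr_gt (K13.f191156 IH) (Lpr_ct (K13.f49190 IH) (Lpr_gt (K10.f48235 IH) (Lpr_ct (K15.f260275 IH) (Lpr_df (f284845 IH) (Lpr_cf (f284891 IH) (Lpr_gf (f282999 IH) (Lpr_cf (f184175 IH) (Lpn (LP (LK LD1_c8 LD2_c16 LD3_c9))))))))))))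
theorem f53594 : Led Lsl_dt (LP (LK LD1_c8 LD2_c16 LD3_c9)) = (LP (LK LD1_c4 LD2_c8 LD3_c3)) :=
  Lre_d IH (LK LD1_c8 LD2_c16 LD3_c9) (LK LD1_c4 LD2_c8 LD3_c3) Lrfl Lrfl
theorem f188308 : Led Lsl_dt (LP (LK LD1_c5 LD2_c17 LD3_c51)) = (LP (LK LD1_c2 LD2_c35 LD3_c39)) :=
  Lre_d IH (LK LD1_c5 LD2_c17 LD3_c51) (LK LD1_c2 LD2_c35 LD3_c39) Lrfl Lrfl
theorem f188406 : Led Lsl_gt (LP (LK LD1_c10 LD2_c25 LD3_c21)) = (LP (LK LD1_c5 LD2_c17 LD3_c51)) :=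
  Lre_g IH (LK LD1_c10 LD2_c25 LD3_c21) (LK LD1_c5 LD2_c17 LD3_c51) Lrfl Lrfl
theorem f284921 : Led Lsl_cf (LP (LK LD1_c10 LD2_c43 LD3_c30)) = (LP (LK LD1_c10 LD2_c25 LD3_c21)) :=
  Lgr Lrot166 (Lpr_gt (f284914 IH) (Lpr_dt (f53594 IH) (Lpr_gt (K10.f49332 IH) (Lpr_dt (K15.f49316 IH) (Lpr_ct (K10.f49571 IH) (Lpe (K10.f188318 IH) (Lpe (K10.f165616 IH) (Lpe (f188308 IH) (Lpe (f188406 IH) (Lpn (LP (LK LD1_c10 LD2_c25 LD3_c21))))))))))))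
theorem f48268 : Led Lsl_dt (LP (LK LD1_c5 LD2_c17 LD3_c58)) = (LP (LK LD1_c2 LD2_c35 LD3_c42)) :=
  Lre_d IH (LK LD1_c5 LD2_c17 LD3_c58) (LK LD1_c2 LD2_c35 LD3_c42) Lrfl Lrfl
theorem f284923 : Led Lsl_gf (LP (LK LD1_c10 LD2_c25 LD3_c21)) = (LP (LK LD1_c5 LD2_c17 LD3_c58)) :=
  Lgr Lrot147 (Lpe (f284921 IH) (Lpr_gt (f284914 IH) (Lpe (f184175 IH) (Lpe (f165905 IH) (Lpe (K9.f165377 IH) (Lpr_gf (K9.f184106 IH) (Lpe (K9.f49114 IH) (Lpr_gf (K9.f49115 IH) (Lpe (f48268 IH) (Lpn (LP (LK LD1_c5 LD2_c17 LD3_c58))))))))))))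
theorem f191168 : Led Lsl_dt (LP (LK LD1_c10 LD2_c43 LD3_c30)) = (LP (LK LD1_c5 LD2_c26 LD3_c6)) :=
  Lre_d IH (LK LD1_c10 LD2_c43 LD3_c30) (LK LD1_c5 LD2_c26 LD3_c6) Lrfl Lrfl
theorem f259349 : Led Lsl_dt (LP (LK LD1_c5 LD2_c26 LD3_c8)) = (LP (LK LD1_c10 LD2_c43 LD3_c35)) :=
  Lre_d IH (LK LD1_c5 LD2_c26 LD3_c8) (LK LD1_c10 LD2_c43 LD3_c35) Lrfl Lrfl
theorem f188337 : Led Lsl_ct (LP (LK LD1_c6 LD2_c5 LD3_c61)) = (LP (LK LD1_c5 LD2_c17 LD3_c58)) :=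
  Lgr Lrot7 (Lpe (f187658 IH) (Lpr_gf (K10.f187656 IH) (Lpe (K15.f50795 IH) (Lpe (K10.f188198 IH) (Lpr_cf (K10.f188209 IH) (Lpr_gt (K10.f53547 IH) (Lpe (K13.f188331 IH) (Lpr_gt (K13.f188335 IH) (Lpr_dt (f48259 IH) (Lpn (LP (LK LD1_c5 LD2_c17 LD3_c58))))))))))))
theorem f284932 : Led Lsl_gt (LP (LK LD1_c10 LD2_c43 LD3_c35)) = (LP (LK LD1_c6 LD2_c5 LD3_c61)) :=
  Lgr Lrot9 (Lpe (f259349 IH) (Lpr_gt (K12.f192579 IH) (Lpr_ct (K12.f191149 IH) (Lpr_gt (K13.f182501 IH) (Lpr_ct (K13.f182502 IH) (Lpe (f191168 IH) (Lpr_cf (f284921 IH) (Lpr_gf (f284923 IH) (Lpe (f188337 IH) (Lpn (LP (LK LD1_c6 LD2_c5 LD3_c61))))))))))))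
theorem f50788 : Led Lsl_dt (LP (LK LD1_c5 LD2_c18 LD3_c2)) = (LP (LK LD1_c2 LD2_c35 LD3_c44)) :=
  Lre_d IH (LK LD1_c5 LD2_c18 LD3_c2) (LK LD1_c2 LD2_c35 LD3_c44) Lrfl Lrfl
theorem f48935 : Led Lsl_gt (LP (LK LD1_c5 LD2_c18 LD3_c2)) = (LP (LK LD1_c10 LD2_c25 LD3_c49)) :=
  Lre_g IH (LK LD1_c5 LD2_c18 LD3_c2) (LK LD1_c10 LD2_c25 LD3_c49) Lrfl Lrfl
theorem f284941 : Led Lsl_cf (LP (LK LD1_c10 LD2_c43 LD3_c35)) = (LP (LK LD1_c10 LD2_c25 LD3_c49)) :=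
  Lgr Lrot169 (Lpr_gt (f284932 IH) (Lpr_ct (f188337 IH) (Lpe (f48259 IH) (Lpe (K9.f32559 IH) (Lpe (K9.f32179 IH) (Lpe (K10.f32507 IH) (Lpe (K13.f32823 IH) (Lpe (f50788 IH) (Lpr_gt (f48935 IH) (Lpn (LP (LK LD1_c10 LD2_c25 LD3_c49))))))))))))
theorem f187761 : Led Lsl_dt (LP (LK LD1_c5 LD2_c18 LD3_c5)) = (LP (LK LD1_c2 LD2_c35 LD3_c45)) :=
  Lre_d IH (LK LD1_c5 LD2_c18 LD3_c5) (LK LD1_c2 LD2_c35 LD3_c45) Lrfl Lrfl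
theorem f284962 : Led Lsl_gf (LP (LK LD1_c5 LD2_c18 LD3_c5)) = (LP (LK LD1_c10 LD2_c25 LD3_c49)) :=
  Lgr Lrot144 (Lpr_dt (f187761 IH) (Lpr_gt (K10.f48933 IH) (Lpr_dt (K13.f48407 IH) (Lpe (K10.f187636 IH) (Lpe (K10.f187637 IH) (Lpe (K10.f187494 IH) (Lpe (f183471 IH) (Lpe (f284932 IH) (Lpr_cf (f284941 IH) (Lpn (LP (LK LD1_c10 LD2_c25 LD3_c49))))))))))))
theorem f50321 : Led Lsl_dt (LP (LK LD1_c4 LD2_c7 LD3_c41)) = (LP (LK LD1_c8 LD2_c15 LD3_c23)) :=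
  Lre_d IH (LK LD1_c4 LD2_c7 LD3_c41) (LK LD1_c8 LD2_c15 LD3_c23) Lrfl Lrfl
theorem f32524 : Led Lsl_dt (LP (LK LD1_c2 LD2_c35 LD3_c45)) = (LP (LK LD1_c5 LD2_c18 LD3_c5)) :=
  Lre_d IH (LK LD1_c2 LD2_c35 LD3_c45) (LK LD1_c5 LD2_c18 LD3_c5) Lrfl Lrfl
theorem f214678 : Led Lsl_ct (LP (LK LD1_c8 LD2_c15 LD3_c23)) = (LP (LK LD1_c5 LD2_c18 LD3_c5)) :=
  Lgr Lrot7 (Lpe (f50321 IH) (Lpe (K10.f49787 IH) (Lpe (K9.f49647 IH) (Lpe (K13.f49693 IH) (Lpr_cf (K13.f214635 IH) (Lpr_gt (K14.f32861 IH) (Lpr_dt (K10.f32860 IH) (Lpr_gt (K10.f32523 IH) (Lpr_dt (f32524 IH) (Lpn (LP (LK LD1_c5 LD2_c18 LD3_c5))))))))))))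
theorem f214681 : Led Lsl_cf (LP (LK LD1_c8 LD2_c15 LD3_c23)) = (LP (LK LD1_c5 LD2_c18 LD3_c5)) :=
  Lgr Lrot11 (Lpr_ct (f214678 IH) (Lpn (LP (LK LD1_c5 LD2_c18 LD3_c5))))
theorem f236146 : Led Lsl_gf (LP (LK LD1_c10 LD2_c47 LD3_c41)) = (LP (LK LD1_c8 LD2_c15 LD3_c23)) :=
  Lgr Lrot143 (Lpr_dt (f236145 IH) (Lpe (K15.f236144 IH) (Lpe (K15.f236143 IH) (Lpe (K13.f236121 IH) (Lpr_df (K13.f236132 IH) (Lpe (K13.f49630 IH) (Lpe (K9.f49646 IH) (Lpr_gt (K10.f49787 IH) (Lpr_dt (f50321 IH) (Lpn (LP (LK LD1_c8 LD2_c15 LD3_c23))))))))))))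
theorem f284875 : Led Lsl_ct (LP (LK LD1_c10 LD2_c47 LD3_c41)) = (LP (LK LD1_c10 LD2_c24 LD3_c38)) :=
  Lgr Lrot59 (Lpr_cf (f284858 IH) (Lpn (LP (LK LD1_c10 LD2_c24 LD3_c38))))
theorem f165864 : Led Lsl_ct (LP (LK LD1_c5 LD2_c0 LD3_c60)) = (LP (LK LD1_c2 LD2_c28 LD3_c13)) :=
  Lre_c IH (LK LD1_c5 LD2_c0 LD3_c60) (LK LD1_c2 LD2_c28 LD3_c13) Lrfl Lrfl
theorem f3755 : Led Lsl_gt (LP (LK LD1_c9 LD2_c52 LD3_c20)) = (LP (LK LD1_c5 LD2_c0 LD3_c60)) :=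
  Lre_g IH (LK LD1_c9 LD2_c52 LD3_c20) (LK LD1_c5 LD2_c0 LD3_c60) Lrfl Lrfl
theorem f284969 : Led Lsl_df (LP (LK LD1_c9 LD2_c52 LD3_c20)) = (LP (LK LD1_c10 LD2_c25 LD3_c49)) :=
  Lgr Lrot155 (Lpr_gt (f3755 IH) (Lpr_ct (f165864 IH) (Lpr_gt (K15.f170518 IH) (Lpe (K16.f259668 IH) (Lpr_dt (f48238 IH) (Lpe (f284875 IH) (Lpr_gf (f236146 IH) (Lpr_cf (f214681 IH) (Lpr_gf (f284962 IH) (Lpn (LP (LK LD1_c10 LD2_c25 LD3_c49))))))))))))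
theorem f48934 : Led Lsl_dt (LP (LK LD1_c2 LD2_c35 LD3_c44)) = (LP (LK LD1_c5 LD2_c18 LD3_c2)) :=
  Lre_d IH (LK LD1_c2 LD2_c35 LD3_c44) (LK LD1_c5 LD2_c18 LD3_c2) Lrfl Lrfl
theorem f284954 : Led Lsl_ct (LP (LK LD1_c10 LD2_c43 LD3_c35)) = (LP (LK LD1_c10 LD2_c25 LD3_c49)) :=
  Lgr Lrot59 (Lpr_cf (f284941 IH) (Lpn (LP (LK LD1_c10 LD2_c25 LD3_c49))))
theorem f185015 : Led Lsl_at (LP (LK LD1_c2 LD2_c32 LD3_c57)) = (LP (LK LD1_c5 LD2_c12 LD3_c14)) :=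
  Lre_a IH (LK LD1_c2 LD2_c32 LD3_c57) (LK LD1_c5 LD2_c12 LD3_c14) Lrfl Lrfl
theorem f284979 : Led Lsl_ct (LP (LK LD1_c9 LD2_c52 LD3_c20)) = (LP (LK LD1_c5 LD2_c12 LD3_c14)) :=
  Lgr Lrot98 (Lpr_df (f284969 IH) (Lpe (f284954 IH) (Lpe (f259349 IH) (Lpr_cf (K12.f192580 IH) (Lpe (K9.f169566 IH) (Lpe (K9.f169565 IH) (Lpr_df (K9.f169447 IH) (Lpr_ft (f263136 IH) (Lpr_at (f185015 IH) (Lpn (LP (LK LD1_c5 LD2_c12 LD3_c14))))))))))))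
theorem f284983 : Led Lsl_df (LP (LK LD1_c5 LD2_c12 LD3_c14)) = (LP (LK LD1_c4 LD2_c15 LD3_c10)) :=
  Lgr Lrot84 (Lpe (f284979 IH) (Lpr_df (f284969 IH) (Lpe (f48935 IH) (Lpe (f48934 IH) (Lpe (K13.f48270 IH) (Lpe (K12.f48269 IH) (Lpr_gt (K13.f49096 IH) (Lpe (K14.f251205 IH) (Lpe (K16.f271207 IH) (Lpn (LP (LK LD1_c4 LD2_c15 LD3_c10))))))))))))
theorem f284985 : Led Lsl_cf (LP (LK LD1_c9 LD2_c52 LD3_c20)) = (LP (LK LD1_c5 LD2_c12 LD3_c14)) :=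
  Lgr Lrot14 (Lpr_df (f284969 IH) (Lpe (f48935 IH) (Lpe (f48934 IH) (Lpe (K13.f48270 IH) (Lpr_ct (K10.f48330 IH) (Lpr_gt (K13.f49096 IH) (Lpe (K14.f251205 IH) (Lpe (K16.f271207 IH) (Lpe (f284983 IH) (Lpn (LP (LK LD1_c5 LD2_c12 LD3_c14))))))))))))
theorem f266481 : Led Lsl_gt (LP (LK LD1_c2 LD2_c23 LD3_c21)) = (LP (LK LD1_c2 LD2_c40 LD3_c24)) :=
  Lgr Lrot94 (Lpe (K10.f171172 IH) (Lpe (K14.f251277 IH) (Lpr_dt (K9.f169566 IH) (Lpr_gt (K15.f266475 IH) (Lpr_dt (K14.f192519 IH) (Lpe (K14.f192517 IH) (Lpe (K15.f51342 IH) (Lpr_gf (K15.f259673 IH) (Lpe (K15.f252629 IH) (Lpn (LP (LK LD1_c2 LD2_c40 LD3_c24))))))))))))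
theorem f266769 : Led Lsl_df (LP (LK LD1_c8 LD2_c23 LD3_c56)) = (LP (LK LD1_c8 LD2_c13 LD3_c28)) :=
  Lgr Lrot155 (Lpe (K15.f257887 IH) (Lpr_ct (K10.f171172 IH) (Lpr_gt (f266481 IH) (Lpr_ct (K14.f197027 IH) (Lpr_dt (K14.f175071 IH) (Lpe (K15.f191311 IH) (Lpr_gf (K15.f259197 IH) (Lpe (K15.f165861 IH) (Lpr_gf (K15.f266764 IH) (Lpn (LP (LK LD1_c8 LD2_c13 LD3_c28))))))))))))
theorem f264093 : Led Lsl_cf (LP (LK LD1_c8 LD2_c13 LD3_c28)) = (LP (LK LD1_c5 LD2_c26 LD3_c7)) :=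
  Lgr Lrot11 (Lpr_ct (K15.f264088 IH) (Lpn (LP (LK LD1_c5 LD2_c26 LD3_c7))))
theorem f257872 : Led Lsl_dt (LP (LK LD1_c10 LD2_c43 LD3_c32)) = (LP (LK LD1_c5 LD2_c26 LD3_c7)) :=
  Lre_d IH (LK LD1_c10 LD2_c43 LD3_c32) (LK LD1_c5 LD2_c26 LD3_c7) Lrfl Lrfl
theorem f264182 : Led Lsl_ff (LP (LK LD1_c5 LD2_c12 LD3_c15)) = (LP (LK LD1_c5 LD2_c5 LD3_c30)) :=
  Lgr Lrot3 (Lpr_ft (K15.f264174 IH) (Lpn (LP (LK LD1_c5 LD2_c5 LD3_c30))))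
theorem f284989 : Led Lsl_af (LP (LK LD1_c9 LD2_c52 LD3_c20)) = (LP (LK LD1_c5 LD2_c12 LD3_c15)) :=
  Lgr Lrot109 (Lpr_cf (f284985 IH) (Lpr_df (f284983 IH) (Lpr_cf (K16.f271211 IH) (Lpr_df (f266769 IH) (Lpr_cf (f264093 IH) (Lpe (f257872 IH) (Lpr_cf (K15.f251437 IH) (Lpe (K15.f169540 IH) (Lpe (f264182 IH) (Lpn (LP (LK LD1_c5 LD2_c12 LD3_c15))))))))))))
theorem f284967 : Led Lsl_dt (LP (LK LD1_c9 LD2_c52 LD3_c20)) = (LP (LK LD1_c10 LD2_c25 LD3_c49)) :=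
  Lgr Lrot6 (Lpr_gt (f3755 IH) (Lpr_ct (f165864 IH) (Lpr_gt (K15.f170518 IH) (Lpe (K16.f259668 IH) (Lpe (f49134 IH) (Lpe (f284875 IH) (Lpr_gf (f236146 IH) (Lpr_cf (f214681 IH) (Lpr_gf (f284962 IH) (Lpn (LP (LK LD1_c10 LD2_c25 LD3_c49))))))))))))
theorem f285377 : Led Lsl_at (LP (LK LD1_c10 LD2_c25 LD3_c49)) = (LP (LK LD1_c10 LD2_c15 LD3_c9)) :=
  Lgr Lrot51 (Lpe (f284967 IH) (Lpr_af (f284989 IH) (Lpe (f185027 IH) (Lpn (LP (LK LD1_c10 LD2_c15 LD3_c9))))))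
theorem f285379 : Led Lsl_af (LP (LK LD1_c10 LD2_c43 LD3_c35)) = (LP (LK LD1_c10 LD2_c44 LD3_c36)) :=
  Lgr Lrot68 (Lpr_ct (f284954 IH) (Lpr_at (f285377 IH) (Lpe (f284891 IH) (Lpn (LP (LK LD1_c10 LD2_c44 LD3_c36))))))
theorem f251279 : Led Lsl_dt (LP (LK LD1_c10 LD2_c43 LD3_c35)) = (LP (LK LD1_c5 LD2_c26 LD3_c8)) :=
  Lre_d IH (LK LD1_c10 LD2_c43 LD3_c35) (LK LD1_c5 LD2_c26 LD3_c8) Lrfl Lrfl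
theorem f50778 : Led Lsl_dt (LP (LK LD1_c4 LD2_c8 LD3_c0)) = (LP (LK LD1_c8 LD2_c16 LD3_c0)) :=
  Lre_d IH (LK LD1_c4 LD2_c8 LD3_c0) (LK LD1_c8 LD2_c16 LD3_c0) Lrfl Lrfl
theorem f251280 : Led Lsl_gf (LP (LK LD1_c10 LD2_c43 LD3_c35)) = (LP (LK LD1_c8 LD2_c16 LD3_c0)) :=
  Lgr Lrot143 (Lpr_dt (f251279 IH) (Lpr_cf (K12.f192580 IH) (Lpe (K9.f169566 IH) (Lpr_gf (K14.f251277 IH) (Lpe (K10.f191723 IH) (Lpe (K10.f32953 IH) (Lpe (K15.f187634 IH) (Lpr_gt (K10.f187734 IH) (Lpr_dt (f50778 IH) (Lpn (LP (LK LD1_c8 LD2_c16 LD3_c0))))))))))))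
theorem f273920 : Led Lsl_ct (LP (LK LD1_c8 LD2_c13 LD3_c14)) = (LP (LK LD1_c11 LD2_c52 LD3_c12)) :=
  Lgr Lrot40 (Lpr_ff (K15.f264059 IH) (Lpe (K16.f264070 IH) (Lpr_ff (K16.f273916 IH) (Lpn (LP (LK LD1_c11 LD2_c52 LD3_c12))))))
theorem f263479 : Led Lsl_bt (LP (LK LD1_c11 LD2_c54 LD3_c31)) = (LP (LK LD1_c6 LD2_c5 LD3_c28)) :=
  Lre_b IH (LK LD1_c11 LD2_c54 LD3_c31) (LK LD1_c6 LD2_c5 LD3_c28) Lrfl Lrfl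
theorem f273910 : Led Lsl_bt (LP (LK LD1_c11 LD2_c52 LD3_c12)) = (LP (LK LD1_c20 LD2_c54 LD3_c59)) :=
  Lre_b IH (LK LD1_c11 LD2_c52 LD3_c12) (LK LD1_c20 LD2_c54 LD3_c59) Lrfl Lrfl
theorem f273927 : Led Lsl_cf (LP (LK LD1_c11 LD2_c54 LD3_c31)) = (LP (LK LD1_c20 LD2_c54 LD3_c59)) :=
  Lgr Lrot97 (Lpr_bt (f263479 IH) (Lpr_ct (K15.f261388 IH) (Lpe (K14.f192297 IH) (Lpr_ct (f273920 IH) (Lpr_bt (f273910 IH) (Lpn (LP (LK LD1_c20 LD2_c54 LD3_c59))))))))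
theorem f264069 : Led Lsl_bt (LP (LK LD1_c6 LD2_c4 LD3_c39)) = (LP (LK LD1_c11 LD2_c52 LD3_c50)) :=
  Lre_b IH (LK LD1_c6 LD2_c4 LD3_c39) (LK LD1_c11 LD2_c52 LD3_c50) Lrfl Lrfl
theorem f194540 : Led Lsl_bt (LP (LK LD1_c20 LD2_c54 LD3_c59)) = (LP (LK LD1_c11 LD2_c52 LD3_c12)) :=
  Lre_b IH (LK LD1_c20 LD2_c54 LD3_c59) (LK LD1_c11 LD2_c52 LD3_c12) Lrfl Lrfl
theorem f273918 : Led Lsl_ft (LP (LK LD1_c11 LD2_c52 LD3_c50)) = (LP (LK LD1_c20 LD2_c54 LD3_c59)) :=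
  Lgr Lrot75 (Lpe (f264069 IH) (Lpr_ff (K16.f273916 IH) (Lpe (f194540 IH) (Lpn (LP (LK LD1_c20 LD2_c54 LD3_c59))))))
theorem f250442 : Led Lsl_bt (LP (LK LD1_c11 LD2_c52 LD3_c50)) = (LP (LK LD1_c6 LD2_c4 LD3_c39)) :=
  Lre_b IH (LK LD1_c11 LD2_c52 LD3_c50) (LK LD1_c6 LD2_c4 LD3_c39) Lrfl Lrfl
theorem f264090 : Led Lsl_bt (LP (LK LD1_c5 LD2_c26 LD3_c7)) = (LP (LK LD1_c10 LD2_c43 LD3_c31)) :=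
  Lre_b IH (LK LD1_c5 LD2_c26 LD3_c7) (LK LD1_c10 LD2_c43 LD3_c31) Lrfl Lrfl
theorem f264091 : Led Lsl_cf (LP (LK LD1_c11 LD2_c52 LD3_c50)) = (LP (LK LD1_c10 LD2_c43 LD3_c31)) :=
  Lgr Lrot97 (Lpr_bt (f250442 IH) (Lpr_ct (K16.f264070 IH) (Lpe (K15.f264077 IH) (Lpr_ct (K15.f264088 IH) (Lpr_bt (f264090 IH) (Lpn (LP (LK LD1_c10 LD2_c43 LD3_c31))))))))
theorem f273944 : Led Lsl_ft (LP (LK LD1_c11 LD2_c54 LD3_c31)) = (LP (LK LD1_c10 LD2_c43 LD3_c31)) :=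
  Lgr Lrot4 (Lpr_cf (f273927 IH) (Lpe (f273918 IH) (Lpr_cf (f264091 IH) (Lpn (LP (LK LD1_c10 LD2_c43 LD3_c31))))))
theorem f273951 : Led Lsl_ff (LP (LK LD1_c11 LD2_c54 LD3_c31)) = (LP (LK LD1_c10 LD2_c43 LD3_c31)) :=
  Lgr Lrot3 (Lpr_ft (f273944 IH) (Lpn (LP (LK LD1_c10 LD2_c43 LD3_c31))))
theorem f273941 : Led Lsl_at (LP (LK LD1_c11 LD2_c54 LD3_c31)) = (LP (LK LD1_c20 LD2_c59 LD3_c1)) :=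
  Lre_a IH (LK LD1_c11 LD2_c54 LD3_c31) (LK LD1_c20 LD2_c59 LD3_c1) Lrfl Lrfl
theorem f273956 : Led Lsl_at (LP (LK LD1_c19 LD2_c24 LD3_c35)) = (LP (LK LD1_c10 LD2_c43 LD3_c31)) :=
  Lre_a IH (LK LD1_c19 LD2_c24 LD3_c35) (LK LD1_c10 LD2_c43 LD3_c31) Lrfl Lrfl
theorem f273957 : Led Lsl_ft (LP (LK LD1_c20 LD2_c59 LD3_c1)) = (LP (LK LD1_c19 LD2_c24 LD3_c35)) :=
  Lgr Lrot101 (Lpe (f273941 IH) (Lpr_ff (f273951 IH) (Lpe (f273956 IH) (Lpn (LP (LK LD1_c19 LD2_c24 LD3_c35))))))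
theorem f195699 : Led Lsl_bt (LP (LK LD1_c5 LD2_c26 LD3_c8)) = (LP (LK LD1_c10 LD2_c43 LD3_c34)) :=
  Lre_b IH (LK LD1_c5 LD2_c26 LD3_c8) (LK LD1_c10 LD2_c43 LD3_c34) Lrfl Lrfl
theorem f264117 : Led Lsl_at (LP (LK LD1_c10 LD2_c43 LD3_c34)) = (LP (LK LD1_c19 LD2_c24 LD3_c42)) :=
  Lre_a IH (LK LD1_c10 LD2_c43 LD3_c34) (LK LD1_c19 LD2_c24 LD3_c42) Lrfl Lrfl
theorem f264118 : Led Lsl_at (LP (LK LD1_c20 LD2_c59 LD3_c1)) = (LP (LK LD1_c11 LD2_c54 LD3_c31)) :=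
  Lre_a IH (LK LD1_c20 LD2_c59 LD3_c1) (LK LD1_c11 LD2_c54 LD3_c31) Lrfl Lrfl
theorem f264119 : Led Lsl_bt (LP (LK LD1_c19 LD2_c24 LD3_c42)) = (LP (LK LD1_c20 LD2_c59 LD3_c1)) :=
  Lgr Lrot62 (Lpe (f264117 IH) (Lpe (f195699 IH) (Lpr_af (K15.f264103 IH) (Lpe (f263479 IH) (Lpe (f264118 IH) (Lpn (LP (LK LD1_c20 LD2_c59 LD3_c1))))))))
theorem f188242 : Led Lsl_bt (LP (LK LD1_c11 LD2_c54 LD3_c33)) = (LP (LK LD1_c6 LD2_c5 LD3_c29)) :=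
  Lre_b IH (LK LD1_c11 LD2_c54 LD3_c33) (LK LD1_c6 LD2_c5 LD3_c29) Lrfl Lrfl
theorem f264128 : Led Lsl_at (LP (LK LD1_c20 LD2_c59 LD3_c5)) = (LP (LK LD1_c11 LD2_c54 LD3_c33)) :=
  Lre_a IH (LK LD1_c20 LD2_c59 LD3_c5) (LK LD1_c11 LD2_c54 LD3_c33) Lrfl Lrfl
theorem f264129 : Led Lsl_at (LP (LK LD1_c10 LD2_c43 LD3_c31)) = (LP (LK LD1_c19 LD2_c24 LD3_c35)) :=
  Lre_a IH (LK LD1_c10 LD2_c43 LD3_c31) (LK LD1_c19 LD2_c24 LD3_c35) Lrfl Lrfl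
theorem f264130 : Led Lsl_bf (LP (LK LD1_c20 LD2_c59 LD3_c5)) = (LP (LK LD1_c19 LD2_c24 LD3_c35)) :=
  Lgr Lrot81 (Lpr_at (f264128 IH) (Lpr_bt (f188242 IH) (Lpr_at (K15.f264124 IH) (Lpr_bt (f264090 IH) (Lpr_at (f264129 IH) (Lpn (LP (LK LD1_c19 LD2_c24 LD3_c35))))))))
theorem f273984 : Led Lsl_ff (LP (LK LD1_c19 LD2_c24 LD3_c42)) = (LP (LK LD1_c20 LD2_c59 LD3_c5)) :=
  Lgr Lrot25 (Lpr_bt (f264119 IH) (Lpr_ft (f273957 IH) (Lpe (f264130 IH) (Lpn (LP (LK LD1_c20 LD2_c59 LD3_c5))))))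
theorem f273989 : Led Lsl_ft (LP (LK LD1_c19 LD2_c24 LD3_c42)) = (LP (LK LD1_c20 LD2_c59 LD3_c5)) :=
  Lgr Lrot48 (Lpr_ff (f273984 IH) (Lpn (LP (LK LD1_c20 LD2_c59 LD3_c5))))
theorem f273994 : Led Lsl_ff (LP (LK LD1_c10 LD2_c43 LD3_c34)) = (LP (LK LD1_c11 LD2_c54 LD3_c33)) :=
  Lgr Lrot30 (Lpr_at (f264117 IH) (Lpr_ft (f273989 IH) (Lpr_at (f264128 IH) (Lpn (LP (LK LD1_c11 LD2_c54 LD3_c33))))))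
theorem f273999 : Led Lsl_dt (LP (LK LD1_c10 LD2_c43 LD3_c34)) = (LP (LK LD1_c19 LD2_c24 LD3_c43)) :=
  Lre_d IH (LK LD1_c10 LD2_c43 LD3_c34) (LK LD1_c19 LD2_c24 LD3_c43) Lrfl Lrfl
theorem f259355 : Led Lsl_bt (LP (LK LD1_c10 LD2_c44 LD3_c37)) = (LP (LK LD1_c19 LD2_c26 LD3_c5)) :=
  Lre_b IH (LK LD1_c10 LD2_c44 LD3_c37) (LK LD1_c19 LD2_c26 LD3_c5) Lrfl Lrfl
theorem f259356 : Led Lsl_df (LP (LK LD1_c11 LD2_c54 LD3_c33)) = (LP (LK LD1_c19 LD2_c26 LD3_c5)) :=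
  Lgr Lrot12 (Lpr_bt (f188242 IH) (Lpr_dt (K15.f259333 IH) (Lpr_bt (f259355 IH) (Lpn (LP (LK LD1_c19 LD2_c26 LD3_c5))))))
theorem f274000 : Led Lsl_ft (LP (LK LD1_c19 LD2_c24 LD3_c43)) = (LP (LK LD1_c19 LD2_c26 LD3_c5)) :=
  Lgr Lrot54 (Lpe (f273999 IH) (Lpr_ff (f273994 IH) (Lpr_df (f259356 IH) (Lpn (LP (LK LD1_c19 LD2_c26 LD3_c5))))))
theorem f274006 : Led Lsl_ff (LP (LK LD1_c19 LD2_c24 LD3_c43)) = (LP (LK LD1_c19 LD2_c26 LD3_c5)) :=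
  Lgr Lrot3 (Lpr_ft (f274000 IH) (Lpn (LP (LK LD1_c19 LD2_c26 LD3_c5))))
theorem f274009 : Led Lsl_bt (LP (LK LD1_c19 LD2_c24 LD3_c43)) = (LP (LK LD1_c10 LD2_c43 LD3_c35)) :=
  Lre_b IH (LK LD1_c19 LD2_c24 LD3_c43) (LK LD1_c10 LD2_c43 LD3_c35) Lrfl Lrfl
theorem f274010 : Led Lsl_ft (LP (LK LD1_c10 LD2_c43 LD3_c35)) = (LP (LK LD1_c10 LD2_c44 LD3_c37)) :=
  Lgr Lrot75 (Lpe (f274009 IH) (Lpr_ff (f274006 IH) (Lpe (f259355 IH) (Lpn (LP (LK LD1_c10 LD2_c44 LD3_c37))))))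
theorem f264134 : Led Lsl_at (LP (LK LD1_c10 LD2_c44 LD3_c37)) = (LP (LK LD1_c10 LD2_c43 LD3_c32)) :=
  Lgr Lrot100 (Lpr_af (K15.f264132 IH) (Lpn (LP (LK LD1_c10 LD2_c43 LD3_c32))))
theorem f285402 : Led Lsl_ft (LP (LK LD1_c10 LD2_c43 LD3_c32)) = (LP (LK LD1_c10 LD2_c44 LD3_c36)) :=
  Lgr Lrot101 (Lpe (f264134 IH) (Lpe (f274010 IH) (Lpr_af (f285379 IH) (Lpn (LP (LK LD1_c10 LD2_c44 LD3_c36))))))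
theorem f285404 : Led Lsl_gf (LP (LK LD1_c8 LD2_c16 LD3_c0)) = (LP (LK LD1_c10 LD2_c43 LD3_c32)) :=
  Lgr Lrot47 (Lpe (f251280 IH) (Lpr_af (f285379 IH) (Lpe (f285402 IH) (Lpn (LP (LK LD1_c10 LD2_c43 LD3_c32))))))
theorem f188305 : Led Lsl_dt (LP (LK LD1_c2 LD2_c35 LD3_c39)) = (LP (LK LD1_c5 LD2_c17 LD3_c51)) :=
  Lre_d IH (LK LD1_c2 LD2_c35 LD3_c39) (LK LD1_c5 LD2_c17 LD3_c51) Lrfl Lrfl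
theorem f257818 : Led Lsl_cf (LP (LK LD1_c5 LD2_c17 LD3_c51)) = (LP (LK LD1_c8 LD2_c16 LD3_c0)) :=
  Lgr Lrot14 (Lpe (f188305 IH) (Lpr_gf (K10.f188289 IH) (Lpe (K9.f49127 IH) (Lpe (K15.f257785 IH) (Lpr_ct (K15.f188235 IH) (Lpr_gt (K15.f257810 IH) (Lpe (K10.f187730 IH) (Lpr_gt (K10.f187734 IH) (Lpr_dt (f50778 IH) (Lpn (LP (LK LD1_c8 LD2_c16 LD3_c0))))))))))))
theorem f188306 : Led Lsl_gt (LP (LK LD1_c5 LD2_c17 LD3_c51)) = (LP (LK LD1_c10 LD2_c25 LD3_c20)) :=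
  Lre_g IH (LK LD1_c5 LD2_c17 LD3_c51) (LK LD1_c10 LD2_c25 LD3_c20) Lrfl Lrfl
theorem f285408 : Led Lsl_ct (LP (LK LD1_c10 LD2_c25 LD3_c20)) = (LP (LK LD1_c10 LD2_c20 LD3_c45)) :=
  Lgr Lrot110 (Lpe (f188306 IH) (Lpr_cf (f257818 IH) (Lpr_gf (f285404 IH) (Lpe (K15.f251434 IH) (Lpe (K15.f264098 IH) (Lpr_ct (K15.f49918 IH) (Lpr_gt (K16.f49903 IH) (Lpr_ct (K16.f49920 IH) (Lpe (f49921 IH) (Lpn (LP (LK LD1_c10 LD2_c20 LD3_c45))))))))))))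
theorem f184202 : Led Lsl_dt (LP (LK LD1_c5 LD2_c17 LD3_c6)) = (LP (LK LD1_c10 LD2_c23 LD3_c50)) :=
  Lre_d IH (LK LD1_c5 LD2_c17 LD3_c6) (LK LD1_c10 LD2_c23 LD3_c50) Lrfl Lrfl
theorem f49327 : Led Lsl_dt (LP (LK LD1_c4 LD2_c8 LD3_c2)) = (LP (LK LD1_c8 LD2_c16 LD3_c6)) :=
  Lre_d IH (LK LD1_c4 LD2_c8 LD3_c2) (LK LD1_c8 LD2_c16 LD3_c6) Lrfl Lrfl
theorem f188500 : Led Lsl_ct (LP (LK LD1_c8 LD2_c16 LD3_c6)) = (LP (LK LD1_c10 LD2_c23 LD3_c50)) :=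
  Lgr Lrot7 (Lpe (f49327 IH) (Lpe (K10.f49326 IH) (Lpe (K10.f49340 IH) (Lpe (K10.f49351 IH) (Lpr_cf (K10.f188329 IH) (Lpe (K10.f184196 IH) (Lpr_dt (K10.f32856 IH) (Lpr_gt (K10.f32814 IH) (Lpr_dt (f184202 IH) (Lpn (LP (LK LD1_c10 LD2_c23 LD3_c50))))))))))))
theorem f285429 : Led Lsl_gf (LP (LK LD1_c8 LD2_c16 LD3_c6)) = (LP (LK LD1_c10 LD2_c20 LD3_c45)) :=
  Lgr Lrot104 (Lpr_ct (f188500 IH) (Lpe (f184202 IH) (Lpr_cf (K10.f184183 IH) (Lpe (K10.f49558 IH) (Lpe (K14.f188316 IH) (Lpe (K10.f165616 IH) (Lpe (f188308 IH) (Lpr_gt (f188306 IH) (Lpr_ct (f285408 IH) (Lpn (LP (LK LD1_c10 LD2_c20 LD3_c45))))))))))))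
theorem f53580 : Led Lsl_dt (LP (LK LD1_c8 LD2_c16 LD3_c6)) = (LP (LK LD1_c4 LD2_c8 LD3_c2)) :=
  Lre_d IH (LK LD1_c8 LD2_c16 LD3_c6) (LK LD1_c4 LD2_c8 LD3_c2) Lrfl Lrfl
theorem f285433 : Led Lsl_gf (LP (LK LD1_c5 LD2_c17 LD3_c58)) = (LP (LK LD1_c10 LD2_c25 LD3_c20)) :=
  Lgr Lrot144 (Lpr_dt (f48268 IH) (Lpe (K9.f49115 IH) (Lpr_dt (K10.f49119 IH) (Lpe (K9.f49565 IH) (Lpe (K9.f49564 IH) (Lpr_gf (K10.f53578 IH) (Lpe (f53580 IH) (Lpr_gf (f285429 IH) (Lpe (f285408 IH) (Lpn (LP (LK LD1_c10 LD2_c25 LD3_c20))))))))))))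
theorem f251217 : Led Lsl_cf (LP (LK LD1_c5 LD2_c26 LD3_c44)) = (LP (LK LD1_c10 LD2_c23 LD3_c46)) :=
  Lgr Lrot11 (Lpr_ct (f251210 IH) (Lpn (LP (LK LD1_c10 LD2_c23 LD3_c46))))
theorem f251177 : Led Lsl_ft (LP (LK LD1_c5 LD2_c17 LD3_c4)) = (LP (LK LD1_c2 LD2_c35 LD3_c42)) :=
  Lgr Lrot4 (Lpe (K10.f32458 IH) (Lpr_ff (K14.f251173 IH) (Lpe (K13.f48267 IH) (Lpn (LP (LK LD1_c2 LD2_c35 LD3_c42))))))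
theorem f251228 : Led Lsl_af (LP (LK LD1_c4 LD2_c15 LD3_c50)) = (LP (LK LD1_c2 LD2_c35 LD3_c42)) :=
  Lgr Lrot109 (Lpe (K12.f197030 IH) (Lpe (K14.f759 IH) (Lpr_cf (K15.f197011 IH) (Lpr_df (K10.f8419 IH) (Lpe (K15.f8476 IH) (Lpe (K15.f8477 IH) (Lpr_cf (f251217 IH) (Lpe (f189514 IH) (Lpr_ft (f251177 IH) (Lpn (LP (LK LD1_c2 LD2_c35 LD3_c42))))))))))))
theorem f251231 : Led Lsl_at (LP (LK LD1_c8 LD2_c30 LD3_c45)) = (LP (LK LD1_c5 LD2_c17 LD3_c58)) :=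
  Lgr Lrot51 (Lpe (K16.f197033 IH) (Lpr_af (f251228 IH) (Lpe (f48268 IH) (Lpn (LP (LK LD1_c5 LD2_c17 LD3_c58))))))
theorem f285439 : Led Lsl_ff (LP (LK LD1_c8 LD2_c30 LD3_c45)) = (LP (LK LD1_c5 LD2_c17 LD3_c51)) :=
  Lgr Lrot52 (Lpr_at (f251231 IH) (Lpr_gf (f285433 IH) (Lpe (f188306 IH) (Lpn (LP (LK LD1_c5 LD2_c17 LD3_c51))))))
theorem f285477 : Led Lsl_ft (LP (LK LD1_c8 LD2_c30 LD3_c45)) = (LP (LK LD1_c5 LD2_c17 LD3_c51)) :=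
  Lgr Lrot48 (Lpr_ff (f285439 IH) (Lpn (LP (LK LD1_c5 LD2_c17 LD3_c51))))
theorem f251237 : Led Lsl_af (LP (LK LD1_c8 LD2_c30 LD3_c45)) = (LP (LK LD1_c5 LD2_c17 LD3_c58)) :=
  Lgr Lrot0 (Lpr_at (f251231 IH) (Lpn (LP (LK LD1_c5 LD2_c17 LD3_c58))))
theorem f284843 : Led Lsl_ff (LP (LK LD1_c5 LD2_c17 LD3_c58)) = (LP (LK LD1_c10 LD2_c23 LD3_c46)) :=
  Lgr Lrot52 (Lpe (f251237 IH) (Lpe (K16.f259662 IH) (Lpr_gf (f284831 IH) (Lpn (LP (LK LD1_c10 LD2_c23 LD3_c46))))))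
theorem f285479 : Led Lsl_af (LP (LK LD1_c10 LD2_c23 LD3_c46)) = (LP (LK LD1_c5 LD2_c17 LD3_c51)) :=
  Lgr Lrot45 (Lpe (f284843 IH) (Lpe (f251237 IH) (Lpr_ft (f285477 IH) (Lpn (LP (LK LD1_c5 LD2_c17 LD3_c51))))))
theorem f285489 : Led Lsl_at (LP (LK LD1_c5 LD2_c26 LD3_c44)) = (LP (LK LD1_c8 LD2_c16 LD3_c0)) :=
  Lgr Lrot107 (Lpr_cf (f251217 IH) (Lpr_af (f285479 IH) (Lpr_cf (f257818 IH) (Lpn (LP (LK LD1_c8 LD2_c16 LD3_c0))))))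
theorem f273640 : Led Lsl_at (LP (LK LD1_c8 LD2_c15 LD3_c18)) = (LP (LK LD1_c6 LD2_c5 LD3_c61)) :=
  Lgr Lrot107 (Lpr_cf (K16.f273637 IH) (Lpr_af (f251237 IH) (Lpe (f188337 IH) (Lpn (LP (LK LD1_c6 LD2_c5 LD3_c61))))))
theorem f50777 : Led Lsl_dt (LP (LK LD1_c8 LD2_c16 LD3_c0)) = (LP (LK LD1_c4 LD2_c8 LD3_c0)) :=
  Lre_d IH (LK LD1_c8 LD2_c16 LD3_c0) (LK LD1_c4 LD2_c8 LD3_c0) Lrfl Lrfl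
theorem f282984 : Led Lsl_ff (LP (LK LD1_c8 LD2_c15 LD3_c18)) = (LP (LK LD1_c8 LD2_c16 LD3_c0)) :=
  Lgr Lrot103 (Lpr_at (f273640 IH) (Lpr_cf (f188339 IH) (Lpe (f48259 IH) (Lpe (K9.f32559 IH) (Lpe (K10.f48253 IH) (Lpr_cf (f266279 IH) (Lpr_df (f282936 IH) (Lpe (K10.f50781 IH) (Lpe (f50777 IH) (Lpn (LP (LK LD1_c8 LD2_c16 LD3_c0))))))))))))
theorem f285502 : Led Lsl_ff (LP (LK LD1_c5 LD2_c26 LD3_c44)) = (LP (LK LD1_c6 LD2_c5 LD3_c61)) :=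
  Lgr Lrot30 (Lpr_at (f285489 IH) (Lpe (f282984 IH) (Lpr_at (f273640 IH) (Lpn (LP (LK LD1_c6 LD2_c5 LD3_c61))))))
theorem f285506 : Led Lsl_ft (LP (LK LD1_c2 LD2_c39 LD3_c46)) = (LP (LK LD1_c2 LD2_c59 LD3_c7)) :=
  Lgr Lrot54 (Lpe (K15.f8477 IH) (Lpr_ff (f285502 IH) (Lpe (f187658 IH) (Lpn (LP (LK LD1_c2 LD2_c59 LD3_c7))))))
theorem f285513 : Led Lsl_ff (LP (LK LD1_c2 LD2_c39 LD3_c46)) = (LP (LK LD1_c2 LD2_c59 LD3_c7)) :=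
  Lgr Lrot3 (Lpr_ft (f285506 IH) (Lpn (LP (LK LD1_c2 LD2_c59 LD3_c7))))
theorem f259368 : Led Lsl_et (LP (LK LD1_c2 LD2_c39 LD3_c46)) = (LP (LK LD1_c5 LD2_c26 LD3_c45)) :=
  Lre_e IH (LK LD1_c2 LD2_c39 LD3_c46) (LK LD1_c5 LD2_c26 LD3_c45) Lrfl Lrfl
theorem f285519 : Led Lsl_ft (LP (LK LD1_c5 LD2_c26 LD3_c45)) = (LP (LK LD1_c10 LD2_c44 LD3_c42)) :=
  Lre_f IH (LK LD1_c5 LD2_c26 LD3_c45) (LK LD1_c10 LD2_c44 LD3_c42) Lrfl Lrfl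
theorem f187668 : Led Lsl_et (LP (LK LD1_c6 LD2_c6 LD3_c0)) = (LP (LK LD1_c2 LD2_c59 LD3_c7)) :=
  Lre_e IH (LK LD1_c6 LD2_c6 LD3_c0) (LK LD1_c2 LD2_c59 LD3_c7) Lrfl Lrfl
theorem f285520 : Led Lsl_et (LP (LK LD1_c10 LD2_c44 LD3_c42)) = (LP (LK LD1_c11 LD2_c55 LD3_c29)) :=
  Lgr Lrot69 (Lpe (f285519 IH) (Lpe (f259368 IH) (Lpr_ff (f285513 IH) (Lpe (f187668 IH) (Lpe (f283050 IH) (Lpn (LP (LK LD1_c11 LD2_c55 LD3_c29))))))))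
theorem f285524 : Led Lsl_ct (LP (LK LD1_c5 LD2_c26 LD3_c48)) = (LP (LK LD1_c10 LD2_c44 LD3_c42)) :=
  Lre_c IH (LK LD1_c5 LD2_c26 LD3_c48) (LK LD1_c10 LD2_c44 LD3_c42) Lrfl Lrfl
theorem f285525 : Led Lsl_ef (LP (LK LD1_c5 LD2_c26 LD3_c48)) = (LP (LK LD1_c6 LD2_c6 LD3_c3)) :=
  Lgr Lrot28 (Lpr_ct (f285524 IH) (Lpr_et (f285520 IH) (Lpr_ct (f283056 IH) (Lpn (LP (LK LD1_c6 LD2_c6 LD3_c3))))))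
theorem f285530 : Led Lsl_et (LP (LK LD1_c5 LD2_c26 LD3_c48)) = (LP (LK LD1_c6 LD2_c6 LD3_c3)) :=
  Lgr Lrot87 (Lpr_ef (f285525 IH) (Lpn (LP (LK LD1_c6 LD2_c6 LD3_c3))))
theorem f285533 : Led Lsl_af (LP (LK LD1_c5 LD2_c26 LD3_c48)) = (LP (LK LD1_c8 LD2_c16 LD3_c4)) :=
  Lgr Lrot50 (Lpr_et (f285530 IH) (Lpe (f283059 IH) (Lpr_et (f283008 IH) (Lpn (LP (LK LD1_c8 LD2_c16 LD3_c4))))))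
theorem f285532 : Led Lsl_ft (LP (LK LD1_c5 LD2_c26 LD3_c48)) = (LP (LK LD1_c2 LD2_c39 LD3_c47)) :=
  Lre_f IH (LK LD1_c5 LD2_c26 LD3_c48) (LK LD1_c2 LD2_c39 LD3_c47) Lrfl Lrfl
theorem f190073 : Led Lsl_ft (LP (LK LD1_c4 LD2_c8 LD3_c1)) = (LP (LK LD1_c8 LD2_c16 LD3_c4)) :=
  Lre_f IH (LK LD1_c4 LD2_c8 LD3_c1) (LK LD1_c8 LD2_c16 LD3_c4) Lrfl Lrfl
theorem f285542 : Led Lsl_at (LP (LK LD1_c2 LD2_c39 LD3_c47)) = (LP (LK LD1_c4 LD2_c8 LD3_c1)) :=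
  Lgr Lrot66 (Lpe (f285532 IH) (Lpr_af (f285533 IH) (Lpe (f190073 IH) (Lpn (LP (LK LD1_c4 LD2_c8 LD3_c1))))))
theorem f236122 : Led Lsl_et (LP (LK LD1_c1 LD2_c16 LD3_c38)) = (LP (LK LD1_c2 LD2_c39 LD3_c47)) :=
  Lre_e IH (LK LD1_c1 LD2_c16 LD3_c38) (LK LD1_c2 LD2_c39 LD3_c47) Lrfl Lrfl
theorem f285553 : Led Lsl_af (LP (LK LD1_c1 LD2_c16 LD3_c38)) = (LP (LK LD1_c2 LD2_c1 LD3_c23)) :=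
  Lgr Lrot50 (Lpr_et (f236122 IH) (Lpr_at (f285542 IH) (Lpr_et (f50784 IH) (Lpn (LP (LK LD1_c2 LD2_c1 LD3_c23))))))
theorem f285707 : Led Lsl_at (LP (LK LD1_c1 LD2_c25 LD3_c20)) = (LP (LK LD1_c2 LD2_c4 LD3_c60)) :=
  Lgr Lrot67 (Lpe (K9.f183336 IH) (Lpe (K13.f246041 IH) (Lpe (K10.f8475 IH) (Lpr_af (f285553 IH) (Lpe (K10.f189984 IH) (Lpn (LP (LK LD1_c2 LD2_c4 LD3_c60))))))))
theorem f183057 : Led Lsl_bt (LP (LK LD1_c0 LD2_c35 LD3_c28)) = (LP (LK LD1_c1 LD2_c16 LD3_c35)) :=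
  Lre_b IH (LK LD1_c0 LD2_c35 LD3_c28) (LK LD1_c1 LD2_c16 LD3_c35) Lrfl Lrfl
theorem f54283 : Led Lsl_bt (LP (LK LD1_c2 LD2_c7 LD3_c55)) = (LP (LK LD1_c2 LD2_c4 LD3_c54)) :=
  Lgr Lrot62 (Lpr_af (K0.f31187 IH) (Lpe (K10.f31204 IH) (Lpr_af (K10.f54279 IH) (Lpe (K10.f45178 IH) (Lpe (K1.f45155 IH) (Lpn (LP (LK LD1_c2 LD2_c4 LD3_c54))))))))
theorem f194213 : Led Lsl_gt (LP (LK LD1_c1 LD2_c16 LD3_c35)) = (LP (LK LD1_c2 LD2_c4 LD3_c54)) :=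
  Lgr Lrot164 (Lpe (f183057 IH) (Lpr_ct (K9.f8510 IH) (Lpe (K9.f183050 IH) (Lpe (K1.f55349 IH) (Lpe (K9.f28226 IH) (Lpr_bf (K10.f194201 IH) (Lpr_ct (K10.f194193 IH) (Lpe (K10.f194197 IH) (Lpe (K9.f31191 IH) (Lpr_bt (f54283 IH) (Lpn (LP (LK LD1_c2 LD2_c4 LD3_c54)))))))))))))
theorem f285715 : Led Lsl_ff (LP (LK LD1_c1 LD2_c25 LD3_c20)) = (LP (LK LD1_c1 LD2_c16 LD3_c35)) :=
  Lgr Lrot52 (Lpr_at (f285707 IH) (Lpe (K10.f45369 IH) (Lpe (f194213 IH) (Lpn (LP (LK LD1_c1 LD2_c16 LD3_c35))))))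
theorem f285726 : Led Lsl_ft (LP (LK LD1_c1 LD2_c25 LD3_c20)) = (LP (LK LD1_c1 LD2_c16 LD3_c35)) :=
  Lgr Lrot48 (Lpr_ff (f285715 IH) (Lpn (LP (LK LD1_c1 LD2_c16 LD3_c35))))
theorem f173188 : Led Lsl_bt (LP (LK LD1_c0 LD2_c28 LD3_c37)) = (LP (LK LD1_c1 LD2_c2 LD3_c43)) :=
  Lre_b IH (LK LD1_c0 LD2_c28 LD3_c37) (LK LD1_c1 LD2_c2 LD3_c43) Lrfl Lrfl
theorem f173226 : Led Lsl_ct (LP (LK LD1_c1 LD2_c2 LD3_c43)) = (LP (LK LD1_c2 LD2_c8 LD3_c36)) :=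
  Lgr Lrot83 (Lpe (f173188 IH) (Lpe (K11.f173182 IH) (Lpr_bf (K10.f173220 IH) (Lpe (K13.f173224 IH) (Lpe (K15.f173225 IH) (Lpn (LP (LK LD1_c2 LD2_c8 LD3_c36))))))))
theorem f32821 : Led Lsl_dt (LP (LK LD1_c2 LD2_c34 LD3_c50)) = (LP (LK LD1_c5 LD2_c16 LD3_c2)) :=
  Lre_d IH (LK LD1_c2 LD2_c34 LD3_c50) (LK LD1_c5 LD2_c16 LD3_c2) Lrfl Lrfl
theorem f285709 : Led Lsl_af (LP (LK LD1_c1 LD2_c25 LD3_c20)) = (LP (LK LD1_c2 LD2_c4 LD3_c60)) :=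
  Lgr Lrot0 (Lpr_at (f285707 IH) (Lpn (LP (LK LD1_c2 LD2_c4 LD3_c60))))
theorem f220590 : Led Lsl_df (LP (LK LD1_c1 LD2_c58 LD3_c25)) = (LP (LK LD1_c2 LD2_c4 LD3_c60)) :=
  Lgr Lrot38 (Lpr_dt (K12.f220588 IH) (Lpn (LP (LK LD1_c2 LD2_c4 LD3_c60))))
theorem f266307 : Led Lsl_ft (LP (LK LD1_c2 LD2_c4 LD3_c52)) = (LP (LK LD1_c2 LD2_c4 LD3_c60)) :=
  Lgr Lrot54 (Lpr_df (K15.f266301 IH) (Lpe (K15.f220596 IH) (Lpr_df (f220590 IH) (Lpn (LP (LK LD1_c2 LD2_c4 LD3_c60))))))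
theorem f285728 : Led Lsl_af (LP (LK LD1_c2 LD2_c4 LD3_c52)) = (LP (LK LD1_c1 LD2_c16 LD3_c35)) :=
  Lgr Lrot45 (Lpr_ft (f266307 IH) (Lpe (f285709 IH) (Lpr_ft (f285726 IH) (Lpn (LP (LK LD1_c1 LD2_c16 LD3_c35))))))
theorem f231681 : Led Lsl_dt (LP (LK LD1_c8 LD2_c28 LD3_c47)) = (LP (LK LD1_c4 LD2_c14 LD3_c57)) :=
  Lre_d IH (LK LD1_c8 LD2_c28 LD3_c47) (LK LD1_c4 LD2_c14 LD3_c57) Lrfl Lrfl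
theorem f285739 : Led Lsl_ct (LP (LK LD1_c5 LD2_c16 LD3_c2)) = (LP (LK LD1_c8 LD2_c28 LD3_c47)) :=
  Lgr Lrot53 (Lpe (f32821 IH) (Lpr_cf (K10.f180766 IH) (Lpe (K15.f193186 IH) (Lpe (f173226 IH) (Lpe (K14.f183337 IH) (Lpr_ft (f285726 IH) (Lpe (f285728 IH) (Lpe (K13.f45224 IH) (Lpe (f231681 IH) (Lpn (LP (LK LD1_c8 LD2_c28 LD3_c47))))))))))))
theorem f173241 : Led Lsl_ft (LP (LK LD1_c2 LD2_c8 LD3_c36)) = (LP (LK LD1_c4 LD2_c22 LD3_c21)) :=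
  Lre_f IH (LK LD1_c2 LD2_c8 LD3_c36) (LK LD1_c4 LD2_c22 LD3_c21) Lrfl Lrfl
theorem f266305 : Led Lsl_dt (LP (LK LD1_c2 LD2_c4 LD3_c52)) = (LP (LK LD1_c4 LD2_c2 LD3_c47)) :=
  Lgr Lrot42 (Lpr_df (K15.f266301 IH) (Lpn (LP (LK LD1_c4 LD2_c2 LD3_c47))))
theorem f285748 : Led Lsl_at (LP (LK LD1_c4 LD2_c22 LD3_c21)) = (LP (LK LD1_c8 LD2_c6 LD3_c3)) :=
  Lgr Lrot33 (Lpe (f173241 IH) (Lpr_dt (K15.f193186 IH) (Lpe (K10.f180766 IH) (Lpr_dt (f32821 IH) (Lpr_ct (f285739 IH) (Lpr_dt (f231681 IH) (Lpr_ct (K13.f45224 IH) (Lpr_dt (f266305 IH) (Lpr_ct (K15.f266285 IH) (Lpn (LP (LK LD1_c8 LD2_c6 LD3_c3))))))))))))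
theorem f219943 : Led Lsl_ft (LP (LK LD1_c8 LD2_c6 LD3_c3)) = (LP (LK LD1_c4 LD2_c2 LD3_c44)) :=
  Lre_f IH (LK LD1_c8 LD2_c6 LD3_c3) (LK LD1_c4 LD2_c2 LD3_c44) Lrfl Lrfl
theorem f285759 : Led Lsl_af (LP (LK LD1_c2 LD2_c8 LD3_c36)) = (LP (LK LD1_c4 LD2_c2 LD3_c44)) :=
  Lgr Lrot45 (Lpr_ft (f173241 IH) (Lpr_at (f285748 IH) (Lpr_ft (f219943 IH) (Lpn (LP (LK LD1_c4 LD2_c2 LD3_c44))))))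
theorem f285769 : Led Lsl_at (LP (LK LD1_c1 LD2_c1 LD3_c26)) = (LP (LK LD1_c1 LD2_c58 LD3_c23)) :=
  Lgr Lrot80 (Lpe (K14.f173267 IH) (Lpr_af (f285759 IH) (Lpe (K15.f219938 IH) (Lpn (LP (LK LD1_c1 LD2_c58 LD3_c23))))))
theorem f168347 : Led Lsl_at (LP (LK LD1_c1 LD2_c17 LD3_c11)) = (LP (LK LD1_c0 LD2_c35 LD3_c44)) :=
  Lre_a IH (LK LD1_c1 LD2_c17 LD3_c11) (LK LD1_c0 LD2_c35 LD3_c44) Lrfl Lrfl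
theorem f220034 : Led Lsl_ff (LP (LK LD1_c1 LD2_c17 LD3_c11)) = (LP (LK LD1_c1 LD2_c58 LD3_c23)) :=
  Lgr Lrot103 (Lpr_at (f168347 IH) (Lpe (K12.f168349 IH) (Lpe (K12.f168354 IH) (Lpe (K12.f216961 IH) (Lpe (K12.f216962 IH) (Lpe (K12.f216998 IH) (Lpr_df (K12.f219978 IH) (Lpe (K14.f219951 IH) (Lpe (K12.f219947 IH) (Lpn (LP (LK LD1_c1 LD2_c58 LD3_c23))))))))))))
theorem f285773 : Led Lsl_ff (LP (LK LD1_c1 LD2_c1 LD3_c26)) = (LP (LK LD1_c0 LD2_c35 LD3_c44)) :=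
  Lgr Lrot30 (Lpr_at (f285769 IH) (Lpe (f220034 IH) (Lpr_at (f168347 IH) (Lpn (LP (LK LD1_c0 LD2_c35 LD3_c44))))))
theorem f168532 : Led Lsl_ft (LP (LK LD1_c2 LD2_c41 LD3_c10)) = (LP (LK LD1_c1 LD2_c17 LD3_c16)) :=
  Lre_f IH (LK LD1_c2 LD2_c41 LD3_c10) (LK LD1_c1 LD2_c17 LD3_c16) Lrfl Lrfl
theorem f285777 : Led Lsl_et (LP (LK LD1_c4 LD2_c22 LD3_c21)) = (LP (LK LD1_c2 LD2_c41 LD3_c10)) :=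
  Lgr Lrot69 (Lpe (f173241 IH) (Lpe (K12.f173250 IH) (Lpr_ff (f285773 IH) (Lpe (K12.f168340 IH) (Lpe (f168532 IH) (Lpn (LP (LK LD1_c2 LD2_c41 LD3_c10))))))))
theorem f285782 : Led Lsl_dt (LP (LK LD1_c4 LD2_c22 LD3_c21)) = (LP (LK LD1_c2 LD2_c31 LD3_c38)) :=
  Lgr Lrot136 (Lpr_et (f285777 IH) (Lpe (K16.f251785 IH) (Lpr_ef (K15.f266451 IH) (Lpe (K15.f259695 IH) (Lpe (K14.f252254 IH) (Lpe (K14.f49187 IH) (Lpe (K10.f49437 IH) (Lpr_ef (K9.f50069 IH) (Lpr_dt (K9.f49439 IH) (Lpr_gf (K12.f197162 IH) (Lpn (LP (LK LD1_c2 LD2_c31 LD3_c38)))))))))))))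
theorem f285799 : Led Lsl_gf (LP (LK LD1_c4 LD2_c22 LD3_c21)) = (LP (LK LD1_c2 LD2_c35 LD3_c26)) :=
  Lgr Lrot138 (Lpr_dt (f285782 IH) (Lpe (K12.f197162 IH) (Lpe (K9.f49439 IH) (Lpe (K9.f50069 IH) (Lpr_gt (K10.f49437 IH) (Lpe (K10.f49160 IH) (Lpr_dt (K10.f49161 IH) (Lpe (K15.f263477 IH) (Lpe (K13.f32959 IH) (Lpr_et (K16.f192103 IH) (Lpn (LP (LK LD1_c2 LD2_c35 LD3_c26)))))))))))))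
theorem f173243 : Led Lsl_ct (LP (LK LD1_c2 LD2_c8 LD3_c39)) = (LP (LK LD1_c1 LD2_c1 LD3_c33)) :=
  Lre_c IH (LK LD1_c2 LD2_c8 LD3_c39) (LK LD1_c1 LD2_c1 LD3_c33) Lrfl Lrfl
theorem f191774 : Led Lsl_bt (LP (LK LD1_c5 LD2_c17 LD3_c18)) = (LP (LK LD1_c2 LD2_c35 LD3_c26)) :=
  Lre_b IH (LK LD1_c5 LD2_c17 LD3_c18) (LK LD1_c2 LD2_c35 LD3_c26) Lrfl Lrfl
theorem f274854 : Led Lsl_ct (LP (LK LD1_c5 LD2_c17 LD3_c18)) = (LP (LK LD1_c4 LD2_c10 LD3_c8)) :=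
  Lgr Lrot59 (Lpr_cf (K16.f274846 IH) (Lpn (LP (LK LD1_c4 LD2_c10 LD3_c8))))
theorem f253970 : Led Lsl_bt (LP (LK LD1_c2 LD2_c3 LD3_c15)) = (LP (LK LD1_c2 LD2_c2 LD3_c23)) :=
  Lgr Lrot127 (Lpr_bf (K14.f253967 IH) (Lpn (LP (LK LD1_c2 LD2_c2 LD3_c23))))
theorem f285805 : Led Lsl_gt (LP (LK LD1_c1 LD2_c1 LD3_c33)) = (LP (LK LD1_c0 LD2_c58 LD3_c33)) :=
  Lgr Lrot65 (Lpe (f173243 IH) (Lpr_bt (K12.f173235 IH) (Lpr_gf (f285799 IH) (Lpe (f191774 IH) (Lpr_ct (f274854 IH) (Lpe (K16.f170690 IH) (Lpe (K10.f170646 IH) (Lpe (K14.f170843 IH) (Lpe (f253970 IH) (Lpr_ct (K13.f53170 IH) (Lpn (LP (LK LD1_c0 LD2_c58 LD3_c33)))))))))))))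
theorem f285823 : Led Lsl_ef (LP (LK LD1_c1 LD2_c1 LD3_c33)) = (LP (LK LD1_c0 LD2_c58 LD3_c48)) :=
  Lgr Lrot167 (Lpr_gt (f285805 IH) (Lpe (K13.f227307 IH) (Lpr_gt (K12.f60717 IH) (Lpe (K13.f47061 IH) (Lpr_et (K13.f192978 IH) (Lpe (f237320 IH) (Lpe (K11.f201064 IH) (Lpr_dt (K11.f201062 IH) (Lpr_gt (K15.f216417 IH) (Lpe (K12.f178487 IH) (Lpn (LP (LK LD1_c0 LD2_c58 LD3_c48)))))))))))))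
theorem f285831 : Led Lsl_et (LP (LK LD1_c1 LD2_c1 LD3_c33)) = (LP (LK LD1_c0 LD2_c58 LD3_c48)) :=
  Lgr Lrot87 (Lpr_ef (f285823 IH) (Lpn (LP (LK LD1_c0 LD2_c58 LD3_c48))))
theorem f285833 : Led Lsl_ef (LP (LK LD1_c0 LD2_c54 LD3_c51)) = (LP (LK LD1_c0 LD2_c26 LD3_c38)) :=
  Lgr Lrot29 (Lpr_bt (K12.f173229 IH) (Lpr_et (f285831 IH) (Lpr_bt (K12.f178493 IH) (Lpn (LP (LK LD1_c0 LD2_c26 LD3_c38))))))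
theorem f285841 : Led Lsl_gf (LP (LK LD1_c0 LD2_c54 LD3_c51)) = (LP (LK LD1_c0 LD2_c32 LD3_c11)) :=
  Lgr Lrot141 (Lpr_ef (f285833 IH) (Lpr_dt (K9.f178489 IH) (Lpr_gt (K9.f179111 IH) (Lpe (K9.f6797 IH) (Lpr_et (K10.f6814 IH) (Lpe (K10.f185839 IH) (Lpr_dt (K9.f28337 IH) (Lpe (K10.f175302 IH) (Lpe (K9.f28353 IH) (Lpr_et (K8.f28349 IH) (Lpn (LP (LK LD1_c0 LD2_c32 LD3_c11)))))))))))))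
theorem f235674 : Led Lsl_dt (LP (LK LD1_c2 LD2_c38 LD3_c13)) = (LP (LK LD1_c2 LD2_c23 LD3_c33)) :=
  Lgr Lrot42 (Lpr_df (K13.f235671 IH) (Lpn (LP (LK LD1_c2 LD2_c23 LD3_c33))))
theorem f236098 : Led Lsl_bt (LP (LK LD1_c2 LD2_c23 LD3_c33)) = (LP (LK LD1_c2 LD2_c1 LD3_c31)) :=
  Lgr Lrot95 (Lpe (f235674 IH) (Lpe (K13.f235786 IH) (Lpr_df (K13.f235997 IH) (Lpn (LP (LK LD1_c2 LD2_c1 LD3_c31))))))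
theorem f261397 : Led Lsl_gf (LP (LK LD1_c0 LD2_c26 LD3_c5)) = (LP (LK LD1_c0 LD2_c26 LD3_c50)) :=
  Lgr Lrot129 (Lpe (K9.f181185 IH) (Lpr_bt (K16.f181184 IH) (Lpr_gt (K15.f261395 IH) (Lpe (f236098 IH) (Lpr_ct (K15.f235744 IH) (Lpe (K14.f246817 IH) (Lpe (K15.f205063 IH) (Lpr_bt (K14.f171258 IH) (Lpe (K14.f250327 IH) (Lpr_ct (K14.f228906 IH) (Lpn (LP (LK LD1_c0 LD2_c26 LD3_c50)))))))))))))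
theorem f228907 : Led Lsl_bt (LP (LK LD1_c0 LD2_c58 LD3_c18)) = (LP (LK LD1_c2 LD2_c2 LD3_c41)) :=
  Lre_b IH (LK LD1_c0 LD2_c58 LD3_c18) (LK LD1_c2 LD2_c2 LD3_c41) Lrfl Lrfl
theorem f228908 : Led Lsl_bt (LP (LK LD1_c0 LD2_c26 LD3_c50)) = (LP (LK LD1_c0 LD2_c31 LD3_c42)) :=
  Lgr Lrot128 (Lpe (K14.f228906 IH) (Lpe (K14.f228905 IH) (Lpr_cf (K14.f228902 IH) (Lpe (f228907 IH) (Lpr_cf (K15.f183302 IH) (Lpn (LP (LK LD1_c0 LD2_c31 LD3_c42))))))))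
theorem f267765 : Led Lsl_dt (LP (LK LD1_c0 LD2_c32 LD3_c30)) = (LP (LK LD1_c0 LD2_c26 LD3_c50)) :=
  Lgr Lrot79 (Lpe (K12.f211840 IH) (Lpr_df (K15.f267761 IH) (Lpe (f228908 IH) (Lpn (LP (LK LD1_c0 LD2_c26 LD3_c50))))))
theorem f285851 : Led Lsl_df (LP (LK LD1_c0 LD2_c54 LD3_c51)) = (LP (LK LD1_c0 LD2_c25 LD3_c54)) :=
  Lgr Lrot168 (Lpr_gf (f285841 IH) (Lpe (K8.f28347 IH) (Lpe (K13.f35334 IH) (Lpr_gf (K13.f212010 IH) (Lpe (K10.f28385 IH) (Lpe (K9.f28382 IH) (Lpr_gf (f261397 IH) (Lpe (f267765 IH) (Lpe (K12.f211834 IH) (Lpe (K9.f56529 IH) (Lpn (LP (LK LD1_c0 LD2_c25 LD3_c54)))))))))))))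
theorem f173198 : Led Lsl_ct (LP (LK LD1_c0 LD2_c54 LD3_c51)) = (LP (LK LD1_c1 LD2_c2 LD3_c48)) :=
  Lgr Lrot59 (Lpr_cf (K12.f173193 IH) (Lpn (LP (LK LD1_c1 LD2_c2 LD3_c48))))
theorem f285847 : Led Lsl_dt (LP (LK LD1_c1 LD2_c2 LD3_c48)) = (LP (LK LD1_c0 LD2_c35 LD3_c28)) :=
  Lgr Lrot27 (Lpe (f173198 IH) (Lpr_gf (f285841 IH) (Lpe (K14.f28355 IH) (Lpr_gf (K14.f250333 IH) (Lpe (K9.f167862 IH) (Lpr_gt (K9.f28226 IH) (Lpr_ct (K1.f55349 IH) (Lpr_gt (K9.f183050 IH) (Lpr_ct (K9.f8507 IH) (Lpn (LP (LK LD1_c0 LD2_c35 LD3_c28))))))))))))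
theorem f56560 : Led Lsl_dt (LP (LK LD1_c2 LD2_c0 LD3_c9)) = (LP (LK LD1_c0 LD2_c57 LD3_c3)) :=
  Lre_d IH (LK LD1_c2 LD2_c0 LD3_c9) (LK LD1_c0 LD2_c57 LD3_c3) Lrfl Lrfl
theorem f8422 : Led Lsl_dt (LP (LK LD1_c1 LD2_c16 LD3_c39)) = (LP (LK LD1_c2 LD2_c39 LD3_c49)) :=
  Lre_d IH (LK LD1_c1 LD2_c16 LD3_c39) (LK LD1_c2 LD2_c39 LD3_c49) Lrfl Lrfl
theorem f183041 : Led Lsl_ct (LP (LK LD1_c2 LD2_c39 LD3_c49)) = (LP (LK LD1_c2 LD2_c0 LD3_c9)) :=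
  Lgr Lrot7 (Lpe (f8422 IH) (Lpr_gf (K10.f182538 IH) (Lpe (K2.f55394 IH) (Lpe (K9.f183024 IH) (Lpr_cf (K9.f183033 IH) (Lpe (K9.f175312 IH) (Lpr_dt (K9.f8393 IH) (Lpe (K9.f168209 IH) (Lpr_dt (K9.f56544 IH) (Lpn (LP (LK LD1_c2 LD2_c0 LD3_c9))))))))))))
theorem f246034 : Led Lsl_ft (LP (LK LD1_c1 LD2_c16 LD3_c39)) = (LP (LK LD1_c1 LD2_c25 LD3_c18)) :=
  Lgr Lrot4 (Lpe (K9.f8421 IH) (Lpr_ff (K13.f246030 IH) (Lpe (K10.f181235 IH) (Lpn (LP (LK LD1_c1 LD2_c25 LD3_c18))))))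
theorem f285857 : Led Lsl_af (LP (LK LD1_c1 LD2_c16 LD3_c36)) = (LP (LK LD1_c1 LD2_c25 LD3_c18)) :=
  Lgr Lrot109 (Lpe (K9.f8510 IH) (Lpe (f285847 IH) (Lpe (f173198 IH) (Lpr_df (f285851 IH) (Lpe (K9.f56535 IH) (Lpe (f56560 IH) (Lpe (f183041 IH) (Lpe (f8422 IH) (Lpr_ft (f246034 IH) (Lpn (LP (LK LD1_c1 LD2_c25 LD3_c18))))))))))))
theorem f285865 : Led Lsl_et (LP (LK LD1_c1 LD2_c16 LD3_c36)) = (LP (LK LD1_c2 LD2_c39 LD3_c42)) :=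
  Lre_e IH (LK LD1_c1 LD2_c16 LD3_c36) (LK LD1_c2 LD2_c39 LD3_c42) Lrfl Lrfl
theorem f181244 : Led Lsl_et (LP (LK LD1_c2 LD2_c59 LD3_c11)) = (LP (LK LD1_c1 LD2_c25 LD3_c18)) :=
  Lre_e IH (LK LD1_c2 LD2_c59 LD3_c11) (LK LD1_c1 LD2_c25 LD3_c18) Lrfl Lrfl
theorem f285866 : Led Lsl_at (LP (LK LD1_c2 LD2_c39 LD3_c42)) = (LP (LK LD1_c2 LD2_c59 LD3_c11)) :=
  Lgr Lrot80 (Lpe (f285865 IH) (Lpr_af (f285857 IH) (Lpe (f181244 IH) (Lpn (LP (LK LD1_c2 LD2_c59 LD3_c11))))))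
theorem f285868 : Led Lsl_bt (LP (LK LD1_c5 LD2_c26 LD3_c34)) = (LP (LK LD1_c2 LD2_c39 LD3_c42)) :=
  Lre_b IH (LK LD1_c5 LD2_c26 LD3_c34) (LK LD1_c2 LD2_c39 LD3_c42) Lrfl Lrfl
theorem f285869 : Led Lsl_at (LP (LK LD1_c10 LD2_c44 LD3_c17)) = (LP (LK LD1_c5 LD2_c26 LD3_c34)) :=
  Lre_a IH (LK LD1_c10 LD2_c44 LD3_c17) (LK LD1_c5 LD2_c26 LD3_c34) Lrfl Lrfl
theorem f179803 : Led Lsl_bt (LP (LK LD1_c2 LD2_c59 LD3_c11)) = (LP (LK LD1_c6 LD2_c6 LD3_c8)) :=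
  Lre_b IH (LK LD1_c2 LD2_c59 LD3_c11) (LK LD1_c6 LD2_c6 LD3_c8) Lrfl Lrfl
theorem f285870 : Led Lsl_at (LP (LK LD1_c6 LD2_c6 LD3_c8)) = (LP (LK LD1_c11 LD2_c55 LD3_c41)) :=
  Lre_a IH (LK LD1_c6 LD2_c6 LD3_c8) (LK LD1_c11 LD2_c55 LD3_c41) Lrfl Lrfl
theorem f285871 : Led Lsl_bf (LP (LK LD1_c10 LD2_c44 LD3_c17)) = (LP (LK LD1_c11 LD2_c55 LD3_c41)) :=
  Lgr Lrot81 (Lpr_at (f285869 IH) (Lpr_bt (f285868 IH) (Lpr_at (f285866 IH) (Lpr_bt (f179803 IH) (Lpr_at (f285870 IH) (Lpn (LP (LK LD1_c11 LD2_c55 LD3_c41))))))))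
theorem f285889 : Led Lsl_bt (LP (LK LD1_c10 LD2_c44 LD3_c17)) = (LP (LK LD1_c11 LD2_c55 LD3_c41)) :=
  Lgr Lrot127 (Lpr_bf (f285871 IH) (Lpn (LP (LK LD1_c11 LD2_c55 LD3_c41))))
theorem f285902 : Led Lsl_et (LP (LK LD1_c5 LD2_c26 LD3_c32)) = (LP (LK LD1_c10 LD2_c44 LD3_c17)) :=
  Lre_e IH (LK LD1_c5 LD2_c26 LD3_c32) (LK LD1_c10 LD2_c44 LD3_c17) Lrfl Lrfl
theorem f285903 : Led Lsl_et (LP (LK LD1_c11 LD2_c55 LD3_c41)) = (LP (LK LD1_c6 LD2_c6 LD3_c6)) :=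
  Lre_e IH (LK LD1_c11 LD2_c55 LD3_c41) (LK LD1_c6 LD2_c6 LD3_c6) Lrfl Lrfl
theorem f285904 : Led Lsl_bf (LP (LK LD1_c5 LD2_c26 LD3_c32)) = (LP (LK LD1_c6 LD2_c6 LD3_c6)) :=
  Lgr Lrot96 (Lpr_et (f285902 IH) (Lpr_bt (f285889 IH) (Lpr_et (f285903 IH) (Lpn (LP (LK LD1_c6 LD2_c6 LD3_c6))))))
theorem f285910 : Led Lsl_dt (LP (LK LD1_c5 LD2_c26 LD3_c32)) = (LP (LK LD1_c10 LD2_c44 LD3_c16)) :=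
  Lre_d IH (LK LD1_c5 LD2_c26 LD3_c32) (LK LD1_c10 LD2_c44 LD3_c16) Lrfl Lrfl
theorem f285911 : Led Lsl_dt (LP (LK LD1_c11 LD2_c55 LD3_c40)) = (LP (LK LD1_c6 LD2_c6 LD3_c6)) :=
  Lre_d IH (LK LD1_c11 LD2_c55 LD3_c40) (LK LD1_c6 LD2_c6 LD3_c6) Lrfl Lrfl
theorem f285912 : Led Lsl_bt (LP (LK LD1_c10 LD2_c44 LD3_c16)) = (LP (LK LD1_c11 LD2_c55 LD3_c40)) :=
  Lgr Lrot95 (Lpe (f285910 IH) (Lpr_bf (f285904 IH) (Lpe (f285911 IH) (Lpn (LP (LK LD1_c11 LD2_c55 LD3_c40))))))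
theorem f285916 : Led Lsl_at (LP (LK LD1_c5 LD2_c26 LD3_c33)) = (LP (LK LD1_c10 LD2_c44 LD3_c16)) :=
  Lre_a IH (LK LD1_c5 LD2_c26 LD3_c33) (LK LD1_c10 LD2_c44 LD3_c16) Lrfl Lrfl
theorem f285917 : Led Lsl_bt (LP (LK LD1_c2 LD2_c39 LD3_c41)) = (LP (LK LD1_c5 LD2_c26 LD3_c33)) :=
  Lre_b IH (LK LD1_c2 LD2_c39 LD3_c41) (LK LD1_c5 LD2_c26 LD3_c33) Lrfl Lrfl
theorem f285918 : Led Lsl_at (LP (LK LD1_c11 LD2_c55 LD3_c40)) = (LP (LK LD1_c6 LD2_c6 LD3_c7)) :=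
  Lre_a IH (LK LD1_c11 LD2_c55 LD3_c40) (LK LD1_c6 LD2_c6 LD3_c7) Lrfl Lrfl
theorem f183462 : Led Lsl_bt (LP (LK LD1_c6 LD2_c6 LD3_c7)) = (LP (LK LD1_c2 LD2_c59 LD3_c10)) :=
  Lre_b IH (LK LD1_c6 LD2_c6 LD3_c7) (LK LD1_c2 LD2_c59 LD3_c10) Lrfl Lrfl
theorem f285919 : Led Lsl_af (LP (LK LD1_c2 LD2_c39 LD3_c41)) = (LP (LK LD1_c2 LD2_c59 LD3_c10)) :=
  Lgr Lrot36 (Lpr_bt (f285917 IH) (Lpr_at (f285916 IH) (Lpr_bt (f285912 IH) (Lpr_at (f285918 IH) (Lpr_bt (f183462 IH) (Lpn (LP (LK LD1_c2 LD2_c59 LD3_c10))))))))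
theorem f179888 : Led Lsl_dt (LP (LK LD1_c0 LD2_c57 LD3_c4)) = (LP (LK LD1_c2 LD2_c0 LD3_c11)) :=
  Lre_d IH (LK LD1_c0 LD2_c57 LD3_c4) (LK LD1_c2 LD2_c0 LD3_c11) Lrfl Lrfl
theorem f183187 : Led Lsl_cf (LP (LK LD1_c2 LD2_c0 LD3_c4)) = (LP (LK LD1_c2 LD2_c39 LD3_c34)) :=
  Lgr Lrot11 (Lpr_ct (K9.f183083 IH) (Lpn (LP (LK LD1_c2 LD2_c39 LD3_c34))))
theorem f183056 : Led Lsl_dt (LP (LK LD1_c1 LD2_c16 LD3_c36)) = (LP (LK LD1_c2 LD2_c39 LD3_c41)) :=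
  Lre_d IH (LK LD1_c1 LD2_c16 LD3_c36) (LK LD1_c2 LD2_c39 LD3_c41) Lrfl Lrfl
theorem f198641 : Led Lsl_ct (LP (LK LD1_c2 LD2_c0 LD3_c11)) = (LP (LK LD1_c2 LD2_c39 LD3_c41)) :=
  Lgr Lrot7 (Lpe (f179888 IH) (Lpe (K9.f182470 IH) (Lpe (K9.f22400 IH) (Lpr_gf (K11.f198637 IH) (Lpr_cf (f183187 IH) (Lpe (K9.f183074 IH) (Lpr_dt (K2.f55350 IH) (Lpr_gt (K9.f183050 IH) (Lpr_dt (f183056 IH) (Lpn (LP (LK LD1_c2 LD2_c39 LD3_c41))))))))))))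
theorem f8432 : Led Lsl_dt (LP (LK LD1_c2 LD2_c39 LD3_c49)) = (LP (LK LD1_c1 LD2_c16 LD3_c39)) :=
  Lre_d IH (LK LD1_c2 LD2_c39 LD3_c49) (LK LD1_c1 LD2_c16 LD3_c39) Lrfl Lrfl
theorem f285930 : Led Lsl_ft (LP (LK LD1_c2 LD2_c39 LD3_c49)) = (LP (LK LD1_c2 LD2_c59 LD3_c10)) :=
  Lgr Lrot142 (Lpr_dt (f8432 IH) (Lpr_ct (K9.f8431 IH) (Lpe (K10.f8423 IH) (Lpe (K10.f174972 IH) (Lpe (K9.f179881 IH) (Lpr_ct (K9.f179885 IH) (Lpr_dt (f179888 IH) (Lpr_ct (f198641 IH) (Lpr_af (f285919 IH) (Lpn (LP (LK LD1_c2 LD2_c59 LD3_c10))))))))))))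
theorem f285936 : Led Lsl_ff (LP (LK LD1_c2 LD2_c39 LD3_c49)) = (LP (LK LD1_c2 LD2_c59 LD3_c10)) :=
  Lgr Lrot3 (Lpr_ft (f285930 IH) (Lpn (LP (LK LD1_c2 LD2_c59 LD3_c10))))
theorem f285942 : Led Lsl_at (LP (LK LD1_c2 LD2_c39 LD3_c49)) = (LP (LK LD1_c2 LD2_c59 LD3_c18)) :=
  Lgr Lrot33 (Lpr_ff (f285936 IH) (Lpr_dt (K11.f181236 IH) (Lpr_ct (K10.f181235 IH) (Lpe (K13.f246025 IH) (Lpe (K13.f175063 IH) (Lpe (K13.f246043 IH) (Lpe (K9.f175954 IH) (Lpr_dt (K10.f175946 IH) (Lpe (K13.f183421 IH) (Lpn (LP (LK LD1_c2 LD2_c59 LD3_c18))))))))))))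
theorem f285863 : Led Lsl_at (LP (LK LD1_c2 LD2_c39 LD3_c41)) = (LP (LK LD1_c2 LD2_c59 LD3_c10)) :=
  Lgr Lrot51 (Lpe (f183056 IH) (Lpr_af (f285857 IH) (Lpe (K11.f181236 IH) (Lpn (LP (LK LD1_c2 LD2_c59 LD3_c10))))))
theorem f285950 : Led Lsl_ff (LP (LK LD1_c2 LD2_c39 LD3_c41)) = (LP (LK LD1_c2 LD2_c59 LD3_c18)) :=
  Lgr Lrot30 (Lpr_at (f285863 IH) (Lpe (f285936 IH) (Lpr_at (f285942 IH) (Lpn (LP (LK LD1_c2 LD2_c59 LD3_c18))))))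
theorem f285958 : Led Lsl_ft (LP (LK LD1_c2 LD2_c39 LD3_c41)) = (LP (LK LD1_c2 LD2_c59 LD3_c18)) :=
  Lgr Lrot48 (Lpr_ff (f285950 IH) (Lpn (LP (LK LD1_c2 LD2_c59 LD3_c18))))
theorem f285964 : Led Lsl_ff (LP (LK LD1_c1 LD2_c16 LD3_c36)) = (LP (LK LD1_c1 LD2_c25 LD3_c21)) :=
  Lgr Lrot19 (Lpr_dt (f183056 IH) (Lpr_ft (f285958 IH) (Lpr_dt (K13.f183346 IH) (Lpn (LP (LK LD1_c1 LD2_c25 LD3_c21))))))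
theorem f8519 : Led Lsl_bt (LP (LK LD1_c1 LD2_c16 LD3_c36)) = (LP (LK LD1_c2 LD2_c39 LD3_c40)) :=
  Lre_b IH (LK LD1_c1 LD2_c16 LD3_c36) (LK LD1_c2 LD2_c39 LD3_c40) Lrfl Lrfl
theorem f183364 : Led Lsl_bt (LP (LK LD1_c2 LD2_c59 LD3_c17)) = (LP (LK LD1_c1 LD2_c25 LD3_c21)) :=
  Lre_b IH (LK LD1_c2 LD2_c59 LD3_c17) (LK LD1_c1 LD2_c25 LD3_c21) Lrfl Lrfl
theorem f285968 : Led Lsl_ft (LP (LK LD1_c2 LD2_c39 LD3_c40)) = (LP (LK LD1_c2 LD2_c59 LD3_c17)) :=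
  Lgr Lrot75 (Lpe (f8519 IH) (Lpr_ff (f285964 IH) (Lpe (f183364 IH) (Lpn (LP (LK LD1_c2 LD2_c59 LD3_c17))))))
theorem f285977 : Led Lsl_ff (LP (LK LD1_c2 LD2_c39 LD3_c40)) = (LP (LK LD1_c2 LD2_c59 LD3_c17)) :=
  Lgr Lrot3 (Lpr_ft (f285968 IH) (Lpn (LP (LK LD1_c2 LD2_c59 LD3_c17))))
theorem f183059 : Led Lsl_ct (LP (LK LD1_c2 LD2_c39 LD3_c40)) = (LP (LK LD1_c5 LD2_c26 LD3_c24)) :=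
  Lre_c IH (LK LD1_c2 LD2_c39 LD3_c40) (LK LD1_c5 LD2_c26 LD3_c24) Lrfl Lrfl
theorem f183365 : Led Lsl_ct (LP (LK LD1_c6 LD2_c6 LD3_c18)) = (LP (LK LD1_c2 LD2_c59 LD3_c17)) :=
  Lre_c IH (LK LD1_c6 LD2_c6 LD3_c18) (LK LD1_c2 LD2_c59 LD3_c17) Lrfl Lrfl
theorem f285990 : Led Lsl_ft (LP (LK LD1_c5 LD2_c26 LD3_c24)) = (LP (LK LD1_c6 LD2_c6 LD3_c18)) :=
  Lgr Lrot4 (Lpe (f183059 IH) (Lpr_ff (f285977 IH) (Lpe (f183365 IH) (Lpn (LP (LK LD1_c6 LD2_c6 LD3_c18))))))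
theorem f183066 : Led Lsl_dt (LP (LK LD1_c10 LD2_c43 LD3_c61)) = (LP (LK LD1_c5 LD2_c26 LD3_c24)) :=
  Lre_d IH (LK LD1_c10 LD2_c43 LD3_c61) (LK LD1_c5 LD2_c26 LD3_c24) Lrfl Lrfl
theorem f286004 : Led Lsl_dt (LP (LK LD1_c6 LD2_c6 LD3_c18)) = (LP (LK LD1_c11 LD2_c55 LD3_c58)) :=
  Lre_d IH (LK LD1_c6 LD2_c6 LD3_c18) (LK LD1_c11 LD2_c55 LD3_c58) Lrfl Lrfl
theorem f286005 : Led Lsl_ff (LP (LK LD1_c10 LD2_c43 LD3_c61)) = (LP (LK LD1_c11 LD2_c55 LD3_c58)) :=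
  Lgr Lrot19 (Lpr_dt (f183066 IH) (Lpr_ft (f285990 IH) (Lpr_dt (f286004 IH) (Lpn (LP (LK LD1_c11 LD2_c55 LD3_c58))))))
theorem f286013 : Led Lsl_ft (LP (LK LD1_c10 LD2_c43 LD3_c61)) = (LP (LK LD1_c11 LD2_c55 LD3_c58)) :=
  Lgr Lrot48 (Lpr_ff (f286005 IH) (Lpn (LP (LK LD1_c11 LD2_c55 LD3_c58))))
theorem f252292 : Led Lsl_bt (LP (LK LD1_c5 LD2_c26 LD3_c25)) = (LP (LK LD1_c10 LD2_c43 LD3_c61)) :=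
  Lre_b IH (LK LD1_c5 LD2_c26 LD3_c25) (LK LD1_c10 LD2_c43 LD3_c61) Lrfl Lrfl
theorem f231940 : Led Lsl_bt (LP (LK LD1_c11 LD2_c55 LD3_c58)) = (LP (LK LD1_c6 LD2_c6 LD3_c19)) :=
  Lre_b IH (LK LD1_c11 LD2_c55 LD3_c58) (LK LD1_c6 LD2_c6 LD3_c19) Lrfl Lrfl
theorem f286016 : Led Lsl_ff (LP (LK LD1_c5 LD2_c26 LD3_c25)) = (LP (LK LD1_c6 LD2_c6 LD3_c19)) :=
  Lgr Lrot25 (Lpr_bt (f252292 IH) (Lpr_ft (f286013 IH) (Lpr_bt (f231940 IH) (Lpn (LP (LK LD1_c6 LD2_c6 LD3_c19))))))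
theorem f55921 : Led Lsl_dt (LP (LK LD1_c6 LD2_c6 LD3_c19)) = (LP (LK LD1_c2 LD2_c59 LD3_c15)) :=
  Lre_d IH (LK LD1_c6 LD2_c6 LD3_c19) (LK LD1_c2 LD2_c59 LD3_c15) Lrfl Lrfl
theorem f286021 : Led Lsl_at (LP (LK LD1_c5 LD2_c26 LD3_c25)) = (LP (LK LD1_c8 LD2_c28 LD3_c47)) :=
  Lgr Lrot33 (Lpr_ff (f286016 IH) (Lpr_dt (f55921 IH) (Lpr_ct (K13.f55920 IH) (Lpr_dt (K14.f183337 IH) (Lpr_ct (f173226 IH) (Lpr_dt (K15.f193186 IH) (Lpe (K10.f180766 IH) (Lpr_dt (f32821 IH) (Lpr_ct (f285739 IH) (Lpn (LP (LK LD1_c8 LD2_c28 LD3_c47))))))))))))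
theorem f252308 : Led Lsl_et (LP (LK LD1_c10 LD2_c44 LD3_c2)) = (LP (LK LD1_c5 LD2_c26 LD3_c25)) :=
  Lre_e IH (LK LD1_c10 LD2_c44 LD3_c2) (LK LD1_c5 LD2_c26 LD3_c25) Lrfl Lrfl
theorem f231687 : Led Lsl_et (LP (LK LD1_c8 LD2_c28 LD3_c47)) = (LP (LK LD1_c15 LD2_c55 LD3_c19)) :=
  Lre_e IH (LK LD1_c8 LD2_c28 LD3_c47) (LK LD1_c15 LD2_c55 LD3_c19) Lrfl Lrfl
theorem f286029 : Led Lsl_af (LP (LK LD1_c10 LD2_c44 LD3_c2)) = (LP (LK LD1_c15 LD2_c55 LD3_c19)) :=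
  Lgr Lrot50 (Lpr_et (f252308 IH) (Lpr_at (f286021 IH) (Lpr_et (f231687 IH) (Lpn (LP (LK LD1_c15 LD2_c55 LD3_c19))))))
theorem f252307 : Led Lsl_dt (LP (LK LD1_c10 LD2_c44 LD3_c2)) = (LP (LK LD1_c19 LD2_c25 LD3_c29)) :=
  Lre_d IH (LK LD1_c10 LD2_c44 LD3_c2) (LK LD1_c19 LD2_c25 LD3_c29) Lrfl Lrfl
theorem f286033 : Led Lsl_dt (LP (LK LD1_c25 LD2_c51 LD3_c35)) = (LP (LK LD1_c15 LD2_c55 LD3_c19)) :=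
  Lre_d IH (LK LD1_c25 LD2_c51 LD3_c35) (LK LD1_c15 LD2_c55 LD3_c19) Lrfl Lrfl
theorem f286034 : Led Lsl_at (LP (LK LD1_c19 LD2_c25 LD3_c29)) = (LP (LK LD1_c25 LD2_c51 LD3_c35)) :=
  Lgr Lrot51 (Lpe (f252307 IH) (Lpr_af (f286029 IH) (Lpe (f286033 IH) (Lpn (LP (LK LD1_c25 LD2_c51 LD3_c35))))))
theorem f286038 : Led Lsl_et (LP (LK LD1_c10 LD2_c44 LD3_c5)) = (LP (LK LD1_c19 LD2_c25 LD3_c29)) :=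
  Lre_e IH (LK LD1_c10 LD2_c44 LD3_c5) (LK LD1_c19 LD2_c25 LD3_c29) Lrfl Lrfl
theorem f286039 : Led Lsl_et (LP (LK LD1_c25 LD2_c51 LD3_c35)) = (LP (LK LD1_c15 LD2_c55 LD3_c22)) :=
  Lre_e IH (LK LD1_c25 LD2_c51 LD3_c35) (LK LD1_c15 LD2_c55 LD3_c22) Lrfl Lrfl
theorem f286040 : Led Lsl_af (LP (LK LD1_c10 LD2_c44 LD3_c5)) = (LP (LK LD1_c15 LD2_c55 LD3_c22)) :=
  Lgr Lrot50 (Lpr_et (f286038 IH) (Lpr_at (f286034 IH) (Lpr_et (f286039 IH) (Lpn (LP (LK LD1_c15 LD2_c55 LD3_c22))))))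
theorem f245099 : Led Lsl_gt (LP (LK LD1_c19 LD2_c25 LD3_c35)) = (LP (LK LD1_c10 LD2_c44 LD3_c5)) :=
  Lre_g IH (LK LD1_c19 LD2_c25 LD3_c35) (LK LD1_c10 LD2_c44 LD3_c5) Lrfl Lrfl
theorem f245101 : Led Lsl_ft (LP (LK LD1_c10 LD2_c44 LD3_c5)) = (LP (LK LD1_c19 LD2_c25 LD3_c37)) :=
  Lre_f IH (LK LD1_c10 LD2_c44 LD3_c5) (LK LD1_c19 LD2_c25 LD3_c37) Lrfl Lrfl
theorem f245094 : Led Lsl_et (LP (LK LD1_c5 LD2_c27 LD3_c52)) = (LP (LK LD1_c2 LD2_c40 LD3_c16)) :=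
  Lre_e IH (LK LD1_c5 LD2_c27 LD3_c52) (LK LD1_c2 LD2_c40 LD3_c16) Lrfl Lrfl
theorem f245095 : Led Lsl_dt (LP (LK LD1_c5 LD2_c27 LD3_c52)) = (LP (LK LD1_c10 LD2_c46 LD3_c52)) :=
  Lre_d IH (LK LD1_c5 LD2_c27 LD3_c52) (LK LD1_c10 LD2_c46 LD3_c52) Lrfl Lrfl
theorem f195809 : Led Lsl_et (LP (LK LD1_c5 LD2_c26 LD3_c26)) = (LP (LK LD1_c2 LD2_c39 LD3_c38)) :=
  Lre_e IH (LK LD1_c5 LD2_c26 LD3_c26) (LK LD1_c2 LD2_c39 LD3_c38) Lrfl Lrfl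
theorem f195810 : Led Lsl_dt (LP (LK LD1_c5 LD2_c26 LD3_c26)) = (LP (LK LD1_c10 LD2_c44 LD3_c5)) :=
  Lre_d IH (LK LD1_c5 LD2_c26 LD3_c26) (LK LD1_c10 LD2_c44 LD3_c5) Lrfl Lrfl
theorem f245096 : Led Lsl_gf (LP (LK LD1_c10 LD2_c46 LD3_c52)) = (LP (LK LD1_c10 LD2_c44 LD3_c5)) :=
  Lgr Lrot145 (Lpe (f245095 IH) (Lpr_et (f245094 IH) (Lpr_gt (K15.f245089 IH) (Lpe (K13.f243609 IH) (Lpr_gt (K13.f195806 IH) (Lpe (K12.f50904 IH) (Lpr_et (K11.f50903 IH) (Lpe (K11.f195795 IH) (Lpe (f195809 IH) (Lpr_dt (f195810 IH) (Lpn (LP (LK LD1_c10 LD2_c44 LD3_c5)))))))))))))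
theorem f245100 : Led Lsl_gt (LP (LK LD1_c10 LD2_c46 LD3_c52)) = (LP (LK LD1_c19 LD2_c30 LD3_c4)) :=
  Lre_g IH (LK LD1_c10 LD2_c46 LD3_c52) (LK LD1_c19 LD2_c30 LD3_c4) Lrfl Lrfl
theorem f245102 : Led Lsl_af (LP (LK LD1_c19 LD2_c30 LD3_c4)) = (LP (LK LD1_c19 LD2_c25 LD3_c37)) :=
  Lgr Lrot31 (Lpe (f245100 IH) (Lpr_gf (f245096 IH) (Lpr_ft (f245101 IH) (Lpn (LP (LK LD1_c19 LD2_c25 LD3_c37))))))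
theorem f286049 : Led Lsl_ft (LP (LK LD1_c19 LD2_c30 LD3_c4)) = (LP (LK LD1_c15 LD2_c55 LD3_c22)) :=
  Lgr Lrot101 (Lpr_af (f245102 IH) (Lpe (f245101 IH) (Lpr_af (f286040 IH) (Lpn (LP (LK LD1_c15 LD2_c55 LD3_c22))))))
theorem f286051 : Led Lsl_gf (LP (LK LD1_c19 LD2_c25 LD3_c35)) = (LP (LK LD1_c19 LD2_c30 LD3_c4)) :=
  Lgr Lrot47 (Lpr_gt (f245099 IH) (Lpr_af (f286040 IH) (Lpe (f286049 IH) (Lpn (LP (LK LD1_c19 LD2_c30 LD3_c4))))))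
theorem f245170 : Led Lsl_ft (LP (LK LD1_c10 LD2_c46 LD3_c52)) = (LP (LK LD1_c19 LD2_c30 LD3_c6)) :=
  Lre_f IH (LK LD1_c10 LD2_c46 LD3_c52) (LK LD1_c19 LD2_c30 LD3_c6) Lrfl Lrfl
theorem f286053 : Led Lsl_af (LP (LK LD1_c19 LD2_c25 LD3_c35)) = (LP (LK LD1_c19 LD2_c30 LD3_c6)) :=
  Lgr Lrot31 (Lpr_gf (f286051 IH) (Lpe (f245100 IH) (Lpr_ft (f245170 IH) (Lpn (LP (LK LD1_c19 LD2_c30 LD3_c6))))))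
theorem f286056 : Led Lsl_ct (LP (LK LD1_c28 LD2_c48 LD3_c60)) = (LP (LK LD1_c19 LD2_c25 LD3_c35)) :=
  Lre_c IH (LK LD1_c28 LD2_c48 LD3_c60) (LK LD1_c19 LD2_c25 LD3_c35) Lrfl Lrfl
theorem f245104 : Led Lsl_dt (LP (LK LD1_c10 LD2_c46 LD3_c52)) = (LP (LK LD1_c5 LD2_c27 LD3_c52)) :=
  Lre_d IH (LK LD1_c10 LD2_c46 LD3_c52) (LK LD1_c5 LD2_c27 LD3_c52) Lrfl Lrfl
theorem f245138 : Led Lsl_et (LP (LK LD1_c2 LD2_c40 LD3_c16)) = (LP (LK LD1_c5 LD2_c27 LD3_c52)) :=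
  Lre_e IH (LK LD1_c2 LD2_c40 LD3_c16) (LK LD1_c5 LD2_c27 LD3_c52) Lrfl Lrfl
theorem f245139 : Led Lsl_ct (LP (LK LD1_c5 LD2_c27 LD3_c52)) = (LP (LK LD1_c8 LD2_c26 LD3_c34)) :=
  Lgr Lrot15 (Lpe (f245138 IH) (Lpr_cf (K15.f245091 IH) (Lpe (K16.f188556 IH) (Lpn (LP (LK LD1_c8 LD2_c26 LD3_c34))))))
theorem f271045 : Led Lsl_ct (LP (LK LD1_c5 LD2_c29 LD3_c22)) = (LP (LK LD1_c10 LD2_c50 LD3_c4)) :=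
  Lre_c IH (LK LD1_c5 LD2_c29 LD3_c22) (LK LD1_c10 LD2_c50 LD3_c4) Lrfl Lrfl
theorem f271046 : Led Lsl_dt (LP (LK LD1_c10 LD2_c50 LD3_c4)) = (LP (LK LD1_c19 LD2_c35 LD3_c8)) :=
  Lre_d IH (LK LD1_c10 LD2_c50 LD3_c4) (LK LD1_c19 LD2_c35 LD3_c8) Lrfl Lrfl
theorem f286069 : Led Lsl_ct (LP (LK LD1_c19 LD2_c35 LD3_c8)) = (LP (LK LD1_c28 LD2_c56 LD3_c58)) :=
  Lre_c IH (LK LD1_c19 LD2_c35 LD3_c8) (LK LD1_c28 LD2_c56 LD3_c58) Lrfl Lrfl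
theorem f286070 : Led Lsl_df (LP (LK LD1_c28 LD2_c48 LD3_c60)) = (LP (LK LD1_c28 LD2_c56 LD3_c58)) :=
  Lgr Lrot177 (Lpr_ct (f286056 IH) (Lpr_af (f286053 IH) (Lpe (f245170 IH) (Lpr_dt (f245104 IH) (Lpr_ct (f245139 IH) (Lpe (K16.f262861 IH) (Lpr_ct (f271045 IH) (Lpr_dt (f271046 IH) (Lpr_ct (f286069 IH) (Lpn (LP (LK LD1_c28 LD2_c56 LD3_c58))))))))))))
theorem f286075 : Led Lsl_dt (LP (LK LD1_c28 LD2_c48 LD3_c60)) = (LP (LK LD1_c28 LD2_c56 LD3_c58)) :=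
  Lgr Lrot42 (Lpr_df (f286070 IH) (Lpn (LP (LK LD1_c28 LD2_c56 LD3_c58))))
theorem f286055 : Led Lsl_ct (LP (LK LD1_c19 LD2_c25 LD3_c35)) = (LP (LK LD1_c28 LD2_c48 LD3_c60)) :=
  Lre_c IH (LK LD1_c19 LD2_c25 LD3_c35) (LK LD1_c28 LD2_c48 LD3_c60) Lrfl Lrfl
theorem f213823 : Led Lsl_ct (LP (LK LD1_c28 LD2_c56 LD3_c58)) = (LP (LK LD1_c19 LD2_c35 LD3_c8)) :=
  Lre_c IH (LK LD1_c28 LD2_c56 LD3_c58) (LK LD1_c19 LD2_c35 LD3_c8) Lrfl Lrfl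
theorem f213825 : Led Lsl_dt (LP (LK LD1_c19 LD2_c35 LD3_c8)) = (LP (LK LD1_c10 LD2_c50 LD3_c4)) :=
  Lre_d IH (LK LD1_c19 LD2_c35 LD3_c8) (LK LD1_c10 LD2_c50 LD3_c4) Lrfl Lrfl
theorem f213824 : Led Lsl_ct (LP (LK LD1_c10 LD2_c50 LD3_c4)) = (LP (LK LD1_c5 LD2_c29 LD3_c22)) :=
  Lre_c IH (LK LD1_c10 LD2_c50 LD3_c4) (LK LD1_c5 LD2_c29 LD3_c22) Lrfl Lrfl
theorem f168505 : Led Lsl_at (LP (LK LD1_c2 LD2_c41 LD3_c6)) = (LP (LK LD1_c5 LD2_c29 LD3_c22)) :=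
  Lre_a IH (LK LD1_c2 LD2_c41 LD3_c6) (LK LD1_c5 LD2_c29 LD3_c22) Lrfl Lrfl
theorem f168403 : Led Lsl_dt (LP (LK LD1_c5 LD2_c29 LD3_c43)) = (LP (LK LD1_c10 LD2_c50 LD3_c42)) :=
  Lre_d IH (LK LD1_c5 LD2_c29 LD3_c43) (LK LD1_c10 LD2_c50 LD3_c42) Lrfl Lrfl
theorem f213805 : Led Lsl_ft (LP (LK LD1_c16 LD2_c44 LD3_c25)) = (LP (LK LD1_c8 LD2_c56 LD3_c32)) :=
  Lre_f IH (LK LD1_c16 LD2_c44 LD3_c25) (LK LD1_c8 LD2_c56 LD3_c32) Lrfl Lrfl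
theorem f213806 : Led Lsl_ft (LP (LK LD1_c5 LD2_c29 LD3_c42)) = (LP (LK LD1_c10 LD2_c50 LD3_c42)) :=
  Lre_f IH (LK LD1_c5 LD2_c29 LD3_c42) (LK LD1_c10 LD2_c50 LD3_c42) Lrfl Lrfl
theorem f213807 : Led Lsl_cf (LP (LK LD1_c16 LD2_c44 LD3_c25)) = (LP (LK LD1_c10 LD2_c50 LD3_c42)) :=
  Lgr Lrot108 (Lpr_ft (f213805 IH) (Lpr_ct (K14.f213792 IH) (Lpr_ft (f213806 IH) (Lpn (LP (LK LD1_c10 LD2_c50 LD3_c42))))))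
theorem f286078 : Led Lsl_df (LP (LK LD1_c19 LD2_c25 LD3_c35)) = (LP (LK LD1_c16 LD2_c44 LD3_c25)) :=
  Lgr Lrot106 (Lpr_ct (f286055 IH) (Lpr_dt (f286075 IH) (Lpr_ct (f213823 IH) (Lpr_dt (f213825 IH) (Lpr_ct (f213824 IH) (Lpe (f168505 IH) (Lpe (K14.f168387 IH) (Lpr_dt (f168403 IH) (Lpe (f213807 IH) (Lpn (LP (LK LD1_c16 LD2_c44 LD3_c25))))))))))))
theorem f213829 : Led Lsl_ft (LP (LK LD1_c8 LD2_c56 LD3_c32)) = (LP (LK LD1_c16 LD2_c44 LD3_c25)) :=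
  Lre_f IH (LK LD1_c8 LD2_c56 LD3_c32) (LK LD1_c16 LD2_c44 LD3_c25) Lrfl Lrfl
theorem f213801 : Led Lsl_dt (LP (LK LD1_c16 LD2_c44 LD3_c24)) = (LP (LK LD1_c8 LD2_c56 LD3_c32)) :=
  Lre_d IH (LK LD1_c16 LD2_c44 LD3_c24) (LK LD1_c8 LD2_c56 LD3_c32) Lrfl Lrfl
theorem f286087 : Led Lsl_ft (LP (LK LD1_c19 LD2_c25 LD3_c35)) = (LP (LK LD1_c16 LD2_c44 LD3_c24)) :=
  Lgr Lrot54 (Lpr_df (f286078 IH) (Lpe (f213829 IH) (Lpe (f213801 IH) (Lpn (LP (LK LD1_c16 LD2_c44 LD3_c24))))))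
theorem f286085 : Led Lsl_dt (LP (LK LD1_c19 LD2_c25 LD3_c35)) = (LP (LK LD1_c16 LD2_c44 LD3_c25)) :=
  Lgr Lrot42 (Lpr_df (f286078 IH) (Lpn (LP (LK LD1_c16 LD2_c44 LD3_c25))))
theorem f213819 : Led Lsl_ct (LP (LK LD1_c16 LD2_c44 LD3_c25)) = (LP (LK LD1_c10 LD2_c50 LD3_c42)) :=
  Lgr Lrot59 (Lpr_cf (f213807 IH) (Lpn (LP (LK LD1_c10 LD2_c50 LD3_c42))))
theorem f168399 : Led Lsl_ct (LP (LK LD1_c5 LD2_c29 LD3_c43)) = (LP (LK LD1_c10 LD2_c50 LD3_c35)) :=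
  Lre_c IH (LK LD1_c5 LD2_c29 LD3_c43) (LK LD1_c10 LD2_c50 LD3_c35) Lrfl Lrfl
theorem f213828 : Led Lsl_dt (LP (LK LD1_c10 LD2_c50 LD3_c35)) = (LP (LK LD1_c19 LD2_c36 LD3_c4)) :=
  Lre_d IH (LK LD1_c10 LD2_c50 LD3_c35) (LK LD1_c19 LD2_c36 LD3_c4) Lrfl Lrfl
theorem f286089 : Led Lsl_af (LP (LK LD1_c10 LD2_c46 LD3_c52)) = (LP (LK LD1_c16 LD2_c44 LD3_c24)) :=
  Lgr Lrot45 (Lpr_ft (f245170 IH) (Lpe (f286053 IH) (Lpr_ft (f286087 IH) (Lpn (LP (LK LD1_c16 LD2_c44 LD3_c24))))))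
theorem f245117 : Led Lsl_ct (LP (LK LD1_c19 LD2_c30 LD3_c5)) = (LP (LK LD1_c10 LD2_c46 LD3_c52)) :=
  Lre_c IH (LK LD1_c19 LD2_c30 LD3_c5) (LK LD1_c10 LD2_c46 LD3_c52) Lrfl Lrfl
theorem f245112 : Led Lsl_dt (LP (LK LD1_c28 LD2_c52 LD3_c43)) = (LP (LK LD1_c19 LD2_c30 LD3_c5)) :=
  Lre_d IH (LK LD1_c28 LD2_c52 LD3_c43) (LK LD1_c19 LD2_c30 LD3_c5) Lrfl Lrfl
theorem f286098 : Led Lsl_ct (LP (LK LD1_c19 LD2_c36 LD3_c4)) = (LP (LK LD1_c28 LD2_c52 LD3_c43)) :=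
  Lgr Lrot53 (Lpe (f213828 IH) (Lpe (f168399 IH) (Lpe (K14.f168497 IH) (Lpe (f213819 IH) (Lpe (f286085 IH) (Lpr_ft (f286087 IH) (Lpe (f286089 IH) (Lpe (f245117 IH) (Lpe (f245112 IH) (Lpn (LP (LK LD1_c28 LD2_c52 LD3_c43))))))))))))
theorem f286106 : Led Lsl_at (LP (LK LD1_c5 LD2_c29 LD3_c42)) = (LP (LK LD1_c8 LD2_c26 LD3_c34)) :=
  Lgr Lrot33 (Lpe (K14.f213830 IH) (Lpr_dt (K14.f168497 IH) (Lpr_ct (f168399 IH) (Lpr_dt (f213828 IH) (Lpr_ct (f286098 IH) (Lpr_dt (f245112 IH) (Lpr_ct (f245117 IH) (Lpr_dt (f245104 IH) (Lpr_ct (f245139 IH) (Lpn (LP (LK LD1_c8 LD2_c26 LD3_c34))))))))))))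
theorem f245167 : Led Lsl_ft (LP (LK LD1_c8 LD2_c26 LD3_c34)) = (LP (LK LD1_c15 LD2_c51 LD3_c22)) :=
  Lre_f IH (LK LD1_c8 LD2_c26 LD3_c34) (LK LD1_c15 LD2_c51 LD3_c22) Lrfl Lrfl
theorem f286114 : Led Lsl_af (LP (LK LD1_c10 LD2_c50 LD3_c42)) = (LP (LK LD1_c15 LD2_c51 LD3_c22)) :=
  Lgr Lrot45 (Lpr_ft (K14.f213830 IH) (Lpr_at (f286106 IH) (Lpr_ft (f245167 IH) (Lpn (LP (LK LD1_c15 LD2_c51 LD3_c22))))))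
theorem f168394 : Led Lsl_at (LP (LK LD1_c5 LD2_c29 LD3_c43)) = (LP (LK LD1_c10 LD2_c50 LD3_c6)) :=
  Lre_a IH (LK LD1_c5 LD2_c29 LD3_c43) (LK LD1_c10 LD2_c50 LD3_c6) Lrfl Lrfl
theorem f286120 : Led Lsl_dt (LP (LK LD1_c10 LD2_c50 LD3_c6)) = (LP (LK LD1_c15 LD2_c51 LD3_c22)) :=
  Lgr Lrot44 (Lpe (f168394 IH) (Lpe (K14.f168497 IH) (Lpr_af (f286114 IH) (Lpn (LP (LK LD1_c15 LD2_c51 LD3_c22))))))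
theorem f286128 : Led Lsl_df (LP (LK LD1_c10 LD2_c50 LD3_c6)) = (LP (LK LD1_c15 LD2_c51 LD3_c22)) :=
  Lgr Lrot38 (Lpr_dt (f286120 IH) (Lpn (LP (LK LD1_c15 LD2_c51 LD3_c22))))
theorem f286130 : Led Lsl_ft (LP (LK LD1_c10 LD2_c50 LD3_c6)) = (LP (LK LD1_c5 LD2_c29 LD3_c22)) :=
  Lre_f IH (LK LD1_c10 LD2_c50 LD3_c6) (LK LD1_c5 LD2_c29 LD3_c22) Lrfl Lrfl
theorem f286133 : Led Lsl_dt (LP (LK LD1_c5 LD2_c29 LD3_c22)) = (LP (LK LD1_c8 LD2_c26 LD3_c34)) :=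
  Lgr Lrot60 (Lpe (f286130 IH) (Lpr_df (f286128 IH) (Lpe (f245167 IH) (Lpn (LP (LK LD1_c8 LD2_c26 LD3_c34))))))
theorem f245164 : Led Lsl_cf (LP (LK LD1_c5 LD2_c27 LD3_c52)) = (LP (LK LD1_c8 LD2_c26 LD3_c34)) :=
  Lgr Lrot11 (Lpr_ct (f245139 IH) (Lpn (LP (LK LD1_c8 LD2_c26 LD3_c34))))
theorem f286153 : Led Lsl_at (LP (LK LD1_c8 LD2_c56 LD3_c32)) = (LP (LK LD1_c5 LD2_c27 LD3_c52)) :=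
  Lgr Lrot33 (Lpe (f213805 IH) (Lpe (f286078 IH) (Lpr_ct (f286055 IH) (Lpr_dt (f286075 IH) (Lpr_ct (f213823 IH) (Lpr_dt (f213825 IH) (Lpr_ct (f213824 IH) (Lpr_dt (f286133 IH) (Lpe (f245164 IH) (Lpn (LP (LK LD1_c5 LD2_c27 LD3_c52))))))))))))
theorem f286189 : Led Lsl_af (LP (LK LD1_c4 LD2_c29 LD3_c8)) = (LP (LK LD1_c2 LD2_c40 LD3_c16)) :=
  Lgr Lrot50 (Lpr_et (K14.f213791 IH) (Lpr_at (f286153 IH) (Lpr_et (f245094 IH) (Lpn (LP (LK LD1_c2 LD2_c40 LD3_c16))))))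
theorem f286200 : Led Lsl_ft (LP (LK LD1_c4 LD2_c29 LD3_c7)) = (LP (LK LD1_c2 LD2_c40 LD3_c16)) :=
  Lgr Lrot2 (Lpe (K16.f245076 IH) (Lpr_gt (K16.f245060 IH) (Lpr_af (f286189 IH) (Lpn (LP (LK LD1_c2 LD2_c40 LD3_c16))))))
theorem f286206 : Led Lsl_ff (LP (LK LD1_c4 LD2_c29 LD3_c7)) = (LP (LK LD1_c2 LD2_c40 LD3_c16)) :=
  Lgr Lrot3 (Lpr_ft (f286200 IH) (Lpn (LP (LK LD1_c2 LD2_c40 LD3_c16))))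
theorem f286212 : Led Lsl_at (LP (LK LD1_c4 LD2_c29 LD3_c7)) = (LP (LK LD1_c2 LD2_c40 LD3_c17)) :=
  Lgr Lrot26 (Lpr_ff (f286206 IH) (Lpr_gt (K15.f245089 IH) (Lpe (K13.f243633 IH) (Lpn (LP (LK LD1_c2 LD2_c40 LD3_c17))))))
theorem f286191 : Led Lsl_at (LP (LK LD1_c4 LD2_c29 LD3_c8)) = (LP (LK LD1_c2 LD2_c40 LD3_c16)) :=
  Lgr Lrot100 (Lpr_af (f286189 IH) (Lpn (LP (LK LD1_c2 LD2_c40 LD3_c16))))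
theorem f286224 : Led Lsl_ff (LP (LK LD1_c4 LD2_c29 LD3_c8)) = (LP (LK LD1_c2 LD2_c40 LD3_c17)) :=
  Lgr Lrot30 (Lpr_at (f286191 IH) (Lpe (f286206 IH) (Lpr_at (f286212 IH) (Lpn (LP (LK LD1_c2 LD2_c40 LD3_c17))))))
theorem f286234 : Led Lsl_ft (LP (LK LD1_c4 LD2_c29 LD3_c8)) = (LP (LK LD1_c2 LD2_c40 LD3_c17)) :=
  Lgr Lrot48 (Lpr_ff (f286224 IH) (Lpn (LP (LK LD1_c2 LD2_c40 LD3_c17))))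
theorem f213834 : Led Lsl_et (LP (LK LD1_c8 LD2_c56 LD3_c32)) = (LP (LK LD1_c4 LD2_c29 LD3_c8)) :=
  Lre_e IH (LK LD1_c8 LD2_c56 LD3_c32) (LK LD1_c4 LD2_c29 LD3_c8) Lrfl Lrfl
theorem f261480 : Led Lsl_et (LP (LK LD1_c2 LD2_c40 LD3_c17)) = (LP (LK LD1_c5 LD2_c27 LD3_c55)) :=
  Lre_e IH (LK LD1_c2 LD2_c40 LD3_c17) (LK LD1_c5 LD2_c27 LD3_c55) Lrfl Lrfl
theorem f261484 : Led Lsl_ft (LP (LK LD1_c5 LD2_c27 LD3_c55)) = (LP (LK LD1_c10 LD2_c46 LD3_c61)) :=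
  Lre_f IH (LK LD1_c5 LD2_c27 LD3_c55) (LK LD1_c10 LD2_c46 LD3_c61) Lrfl Lrfl
theorem f286242 : Led Lsl_ef (LP (LK LD1_c16 LD2_c44 LD3_c25)) = (LP (LK LD1_c10 LD2_c46 LD3_c61)) :=
  Lgr Lrot21 (Lpr_ft (f213805 IH) (Lpr_et (f213834 IH) (Lpr_ft (f286234 IH) (Lpr_et (f261480 IH) (Lpr_ft (f261484 IH) (Lpn (LP (LK LD1_c10 LD2_c46 LD3_c61))))))))
theorem f49894 : Led Lsl_et (LP (LK LD1_c2 LD2_c34 LD3_c38)) = (LP (LK LD1_c5 LD2_c15 LD3_c35)) :=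
  Lre_e IH (LK LD1_c2 LD2_c34 LD3_c38) (LK LD1_c5 LD2_c15 LD3_c35) Lrfl Lrfl
theorem f49915 : Led Lsl_gt (LP (LK LD1_c5 LD2_c15 LD3_c35)) = (LP (LK LD1_c10 LD2_c20 LD3_c26)) :=
  Lre_g IH (LK LD1_c5 LD2_c15 LD3_c35) (LK LD1_c10 LD2_c20 LD3_c26) Lrfl Lrfl
theorem f271043 : Led Lsl_gt (LP (LK LD1_c5 LD2_c29 LD3_c43)) = (LP (LK LD1_c8 LD2_c24 LD3_c17)) :=
  Lgr Lrot5 (Lpr_ft (K14.f168387 IH) (Lpr_at (f168505 IH) (Lpr_gf (K16.f271041 IH) (Lpn (LP (LK LD1_c8 LD2_c24 LD3_c17))))))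
theorem f271063 : Led Lsl_ef (LP (LK LD1_c10 LD2_c20 LD3_c26)) = (LP (LK LD1_c10 LD2_c50 LD3_c42)) :=
  Lgr Lrot17 (Lpe (f49915 IH) (Lpe (f49894 IH) (Lpr_dt (K15.f45237 IH) (Lpr_gf (K10.f189605 IH) (Lpe (K11.f189598 IH) (Lpe (K15.f189716 IH) (Lpe (K16.f189719 IH) (Lpr_dt (K16.f271054 IH) (Lpe (f271043 IH) (Lpe (K14.f168497 IH) (Lpn (LP (LK LD1_c10 LD2_c50 LD3_c42)))))))))))))
theorem f286248 : Led Lsl_ct (LP (LK LD1_c10 LD2_c20 LD3_c26)) = (LP (LK LD1_c10 LD2_c46 LD3_c61)) :=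
  Lgr Lrot15 (Lpr_ef (f271063 IH) (Lpe (f213819 IH) (Lpr_ef (f286242 IH) (Lpn (LP (LK LD1_c10 LD2_c46 LD3_c61))))))
theorem f261595 : Led Lsl_ft (LP (LK LD1_c10 LD2_c46 LD3_c61)) = (LP (LK LD1_c5 LD2_c27 LD3_c55)) :=
  Lre_f IH (LK LD1_c10 LD2_c46 LD3_c61) (LK LD1_c5 LD2_c27 LD3_c55) Lrfl Lrfl
theorem f243739 : Led Lsl_ct (LP (LK LD1_c5 LD2_c27 LD3_c55)) = (LP (LK LD1_c5 LD2_c38 LD3_c53)) :=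
  Lre_c IH (LK LD1_c5 LD2_c27 LD3_c55) (LK LD1_c5 LD2_c38 LD3_c53) Lrfl Lrfl
theorem f286264 : Led Lsl_ff (LP (LK LD1_c10 LD2_c20 LD3_c26)) = (LP (LK LD1_c5 LD2_c38 LD3_c53)) :=
  Lgr Lrot23 (Lpr_ct (f286248 IH) (Lpr_ft (f261595 IH) (Lpr_ct (f243739 IH) (Lpn (LP (LK LD1_c5 LD2_c38 LD3_c53))))))
theorem f263719 : Led Lsl_gt (LP (LK LD1_c10 LD2_c50 LD3_c6)) = (LP (LK LD1_c5 LD2_c29 LD3_c41)) :=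
  Lre_g IH (LK LD1_c10 LD2_c50 LD3_c6) (LK LD1_c5 LD2_c29 LD3_c41) Lrfl Lrfl
theorem f213812 : Led Lsl_dt (LP (LK LD1_c10 LD2_c50 LD3_c39)) = (LP (LK LD1_c5 LD2_c29 LD3_c41)) :=
  Lre_d IH (LK LD1_c10 LD2_c50 LD3_c39) (LK LD1_c5 LD2_c29 LD3_c41) Lrfl Lrfl
theorem f168385 : Led Lsl_dt (LP (LK LD1_c5 LD2_c29 LD3_c42)) = (LP (LK LD1_c2 LD2_c41 LD3_c6)) :=
  Lre_d IH (LK LD1_c5 LD2_c29 LD3_c42) (LK LD1_c2 LD2_c41 LD3_c6) Lrfl Lrfl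
theorem f168513 : Led Lsl_gt (LP (LK LD1_c5 LD2_c29 LD3_c41)) = (LP (LK LD1_c2 LD2_c41 LD3_c6)) :=
  Lre_g IH (LK LD1_c5 LD2_c29 LD3_c41) (LK LD1_c2 LD2_c41 LD3_c6) Lrfl Lrfl
theorem f263710 : Led Lsl_et (LP (LK LD1_c10 LD2_c50 LD3_c39)) = (LP (LK LD1_c8 LD2_c26 LD3_c8)) :=
  Lgr Lrot122 (Lpr_dt (f213812 IH) (Lpr_gt (f168513 IH) (Lpe (f168385 IH) (Lpr_et (K14.f213786 IH) (Lpr_gt (K15.f263688 IH) (Lpr_dt (K15.f219092 IH) (Lpr_gt (K14.f219080 IH) (Lpe (K11.f45084 IH) (Lpr_et (K11.f50871 IH) (Lpr_gt (K11.f50868 IH) (Lpn (LP (LK LD1_c8 LD2_c26 LD3_c8)))))))))))))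
theorem f216143 : Led Lsl_gt (LP (LK LD1_c8 LD2_c11 LD3_c18)) = (LP (LK LD1_c15 LD2_c24 LD3_c60)) :=
  Lre_g IH (LK LD1_c8 LD2_c11 LD3_c18) (LK LD1_c15 LD2_c24 LD3_c60) Lrfl Lrfl
theorem f286135 : Led Lsl_ef (LP (LK LD1_c15 LD2_c24 LD3_c60)) = (LP (LK LD1_c15 LD2_c51 LD3_c22)) :=
  Lgr Lrot17 (Lpe (f216143 IH) (Lpe (K16.f216142 IH) (Lpr_dt (K15.f192456 IH) (Lpr_gf (K15.f216138 IH) (Lpe (K11.f27413 IH) (Lpr_gf (K11.f189714 IH) (Lpe (f263710 IH) (Lpr_dt (f213812 IH) (Lpe (f263719 IH) (Lpr_df (f286128 IH) (Lpn (LP (LK LD1_c15 LD2_c51 LD3_c22)))))))))))))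
theorem f286139 : Led Lsl_et (LP (LK LD1_c15 LD2_c24 LD3_c60)) = (LP (LK LD1_c15 LD2_c51 LD3_c22)) :=
  Lgr Lrot87 (Lpr_ef (f286135 IH) (Lpn (LP (LK LD1_c15 LD2_c51 LD3_c22))))
theorem f286149 : Led Lsl_af (LP (LK LD1_c15 LD2_c24 LD3_c60)) = (LP (LK LD1_c10 LD2_c20 LD3_c26)) :=
  Lgr Lrot50 (Lpr_et (f286139 IH) (Lpe (f286114 IH) (Lpe (f271063 IH) (Lpn (LP (LK LD1_c10 LD2_c20 LD3_c26))))))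
theorem f286292 : Led Lsl_gf (LP (LK LD1_c8 LD2_c11 LD3_c18)) = (LP (LK LD1_c5 LD2_c38 LD3_c53)) :=
  Lgr Lrot47 (Lpr_gt (f216143 IH) (Lpr_af (f286149 IH) (Lpr_ff (f286264 IH) (Lpn (LP (LK LD1_c5 LD2_c38 LD3_c53))))))
theorem f252640 : Led Lsl_df (LP (LK LD1_c8 LD2_c11 LD3_c18)) = (LP (LK LD1_c9 LD2_c52 LD3_c18)) :=
  Lgr Lrot38 (Lpr_dt (K16.f252631 IH) (Lpn (LP (LK LD1_c9 LD2_c52 LD3_c18))))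
theorem f189771 : Led Lsl_gt (LP (LK LD1_c10 LD2_c19 LD3_c57)) = (LP (LK LD1_c18 LD2_c45 LD3_c27)) :=
  Lre_g IH (LK LD1_c10 LD2_c19 LD3_c57) (LK LD1_c18 LD2_c45 LD3_c27) Lrfl Lrfl
theorem f261434 : Led Lsl_at (LP (LK LD1_c5 LD2_c29 LD3_c24)) = (LP (LK LD1_c2 LD2_c41 LD3_c10)) :=
  Lre_a IH (LK LD1_c5 LD2_c29 LD3_c24) (LK LD1_c2 LD2_c41 LD3_c10) Lrfl Lrfl
theorem f285757 : Led Lsl_ef (LP (LK LD1_c4 LD2_c22 LD3_c21)) = (LP (LK LD1_c2 LD2_c41 LD3_c10)) :=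
  Lgr Lrot20 (Lpr_at (f285748 IH) (Lpr_et (K15.f266776 IH) (Lpr_at (f261434 IH) (Lpn (LP (LK LD1_c2 LD2_c41 LD3_c10))))))
theorem f243653 : Led Lsl_et (LP (LK LD1_c5 LD2_c38 LD3_c53)) = (LP (LK LD1_c2 LD2_c45 LD3_c23)) :=
  Lre_e IH (LK LD1_c5 LD2_c38 LD3_c53) (LK LD1_c2 LD2_c45 LD3_c23) Lrfl Lrfl
theorem f285792 : Led Lsl_et (LP (LK LD1_c2 LD2_c31 LD3_c38)) = (LP (LK LD1_c5 LD2_c8 LD3_c57)) :=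
  Lre_e IH (LK LD1_c2 LD2_c31 LD3_c38) (LK LD1_c5 LD2_c8 LD3_c57) Lrfl Lrfl
theorem f285793 : Led Lsl_df (LP (LK LD1_c5 LD2_c38 LD3_c53)) = (LP (LK LD1_c5 LD2_c8 LD3_c57)) :=
  Lgr Lrot70 (Lpr_et (f243653 IH) (Lpe (K15.f261437 IH) (Lpe (f285757 IH) (Lpr_dt (f285782 IH) (Lpr_et (f285792 IH) (Lpn (LP (LK LD1_c5 LD2_c8 LD3_c57))))))))
theorem f286294 : Led Lsl_gt (LP (LK LD1_c10 LD2_c8 LD3_c18)) = (LP (LK LD1_c5 LD2_c8 LD3_c57)) :=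
  Lre_g IH (LK LD1_c10 LD2_c8 LD3_c18) (LK LD1_c5 LD2_c8 LD3_c57) Lrfl Lrfl
theorem f286299 : Led Lsl_et (LP (LK LD1_c18 LD2_c27 LD3_c61)) = (LP (LK LD1_c10 LD2_c8 LD3_c18)) :=
  Lre_e IH (LK LD1_c18 LD2_c27 LD3_c61) (LK LD1_c10 LD2_c8 LD3_c18) Lrfl Lrfl
theorem f286300 : Led Lsl_df (LP (LK LD1_c18 LD2_c45 LD3_c27)) = (LP (LK LD1_c18 LD2_c27 LD3_c61)) :=
  Lgr Lrot168 (Lpe (f189771 IH) (Lpe (K15.f189769 IH) (Lpr_et (K15.f189761 IH) (Lpr_gf (K15.f259673 IH) (Lpe (K16.f170519 IH) (Lpe (f252640 IH) (Lpr_gf (f286292 IH) (Lpr_df (f285793 IH) (Lpe (f286294 IH) (Lpe (f286299 IH) (Lpn (LP (LK LD1_c18 LD2_c27 LD3_c61)))))))))))))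
theorem f27500 : Led Lsl_gt (LP (LK LD1_c8 LD2_c26 LD3_c26)) = (LP (LK LD1_c15 LD2_c51 LD3_c7)) :=
  Lre_g IH (LK LD1_c8 LD2_c26 LD3_c26) (LK LD1_c15 LD2_c51 LD3_c7) Lrfl Lrfl
theorem f189692 : Led Lsl_af (LP (LK LD1_c8 LD2_c26 LD3_c31)) = (LP (LK LD1_c10 LD2_c19 LD3_c56)) :=
  Lgr Lrot45 (Lpr_ft (K11.f27423 IH) (Lpr_at (K12.f27427 IH) (Lpr_ft (K11.f189618 IH) (Lpn (LP (LK LD1_c10 LD2_c19 LD3_c56))))))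
theorem f189696 : Led Lsl_gt (LP (LK LD1_c15 LD2_c51 LD3_c7)) = (LP (LK LD1_c8 LD2_c26 LD3_c31)) :=
  Lgr Lrot46 (Lpe (f27500 IH) (Lpr_ft (K11.f189618 IH) (Lpe (f189692 IH) (Lpn (LP (LK LD1_c8 LD2_c26 LD3_c31))))))
theorem f27502 : Led Lsl_dt (LP (LK LD1_c25 LD2_c47 LD3_c1)) = (LP (LK LD1_c15 LD2_c51 LD3_c7)) :=
  Lre_d IH (LK LD1_c25 LD2_c47 LD3_c1) (LK LD1_c15 LD2_c51 LD3_c7) Lrfl Lrfl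
theorem f189758 : Led Lsl_df (LP (LK LD1_c4 LD2_c7 LD3_c54)) = (LP (LK LD1_c5 LD2_c15 LD3_c16)) :=
  Lgr Lrot38 (Lpr_dt (K15.f189733 IH) (Lpn (LP (LK LD1_c5 LD2_c15 LD3_c16))))
theorem f264955 : Led Lsl_et (LP (LK LD1_c25 LD2_c47 LD3_c1)) = (LP (LK LD1_c18 LD2_c45 LD3_c27)) :=
  Lgr Lrot122 (Lpr_dt (f27502 IH) (Lpr_gt (f189696 IH) (Lpr_df (K11.f27417 IH) (Lpr_et (K11.f27414 IH) (Lpe (K13.f216134 IH) (Lpr_dt (K15.f232004 IH) (Lpr_gt (K15.f264948 IH) (Lpr_df (f189758 IH) (Lpr_et (K15.f189762 IH) (Lpr_gt (f189771 IH) (Lpn (LP (LK LD1_c18 LD2_c45 LD3_c27)))))))))))))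
theorem f264957 : Led Lsl_ef (LP (LK LD1_c25 LD2_c47 LD3_c1)) = (LP (LK LD1_c18 LD2_c45 LD3_c27)) :=
  Lgr Lrot88 (Lpr_et (f264955 IH) (Lpn (LP (LK LD1_c18 LD2_c45 LD3_c27))))
theorem f286304 : Led Lsl_et (LP (LK LD1_c10 LD2_c8 LD3_c18)) = (LP (LK LD1_c18 LD2_c27 LD3_c61)) :=
  Lre_e IH (LK LD1_c10 LD2_c8 LD3_c18) (LK LD1_c18 LD2_c27 LD3_c61) Lrfl Lrfl
theorem f286305 : Led Lsl_dt (LP (LK LD1_c18 LD2_c27 LD3_c60)) = (LP (LK LD1_c10 LD2_c8 LD3_c18)) :=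
  Lre_d IH (LK LD1_c18 LD2_c27 LD3_c60) (LK LD1_c10 LD2_c8 LD3_c18) Lrfl Lrfl
theorem f286306 : Led Lsl_et (LP (LK LD1_c15 LD2_c51 LD3_c7)) = (LP (LK LD1_c18 LD2_c27 LD3_c60)) :=
  Lgr Lrot71 (Lpe (f27502 IH) (Lpr_ef (f264957 IH) (Lpr_df (f286300 IH) (Lpe (f286304 IH) (Lpe (f286305 IH) (Lpn (LP (LK LD1_c18 LD2_c27 LD3_c60))))))))
theorem f286308 : Led Lsl_ef (LP (LK LD1_c15 LD2_c51 LD3_c7)) = (LP (LK LD1_c18 LD2_c27 LD3_c60)) :=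
  Lgr Lrot88 (Lpr_et (f286306 IH) (Lpn (LP (LK LD1_c18 LD2_c27 LD3_c60))))
theorem f286313 : Led Lsl_dt (LP (LK LD1_c5 LD2_c38 LD3_c53)) = (LP (LK LD1_c5 LD2_c8 LD3_c57)) :=
  Lgr Lrot37 (Lpr_et (f243653 IH) (Lpr_gt (K13.f243638 IH) (Lpr_dt (K10.f188532 IH) (Lpr_gt (K12.f27516 IH) (Lpe (K12.f27495 IH) (Lpr_et (K11.f27496 IH) (Lpr_gt (f27500 IH) (Lpr_ef (f286308 IH) (Lpr_dt (f286305 IH) (Lpr_gt (f286294 IH) (Lpn (LP (LK LD1_c5 LD2_c8 LD3_c57)))))))))))))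
theorem f286290 : Led Lsl_ft (LP (LK LD1_c10 LD2_c20 LD3_c26)) = (LP (LK LD1_c5 LD2_c38 LD3_c53)) :=
  Lgr Lrot48 (Lpr_ff (f286264 IH) (Lpn (LP (LK LD1_c5 LD2_c38 LD3_c53))))
theorem f286322 : Led Lsl_ft (LP (LK LD1_c5 LD2_c8 LD3_c57)) = (LP (LK LD1_c10 LD2_c8 LD3_c19)) :=
  Lre_f IH (LK LD1_c5 LD2_c8 LD3_c57) (LK LD1_c10 LD2_c8 LD3_c19) Lrfl Lrfl
theorem f286323 : Led Lsl_df (LP (LK LD1_c10 LD2_c20 LD3_c26)) = (LP (LK LD1_c10 LD2_c8 LD3_c19)) :=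
  Lgr Lrot78 (Lpr_ft (f286290 IH) (Lpr_dt (f286313 IH) (Lpr_ft (f286322 IH) (Lpn (LP (LK LD1_c10 LD2_c8 LD3_c19))))))
theorem f261576 : Led Lsl_dt (LP (LK LD1_c10 LD2_c46 LD3_c61)) = (LP (LK LD1_c19 LD2_c30 LD3_c26)) :=
  Lre_d IH (LK LD1_c10 LD2_c46 LD3_c61) (LK LD1_c19 LD2_c30 LD3_c26) Lrfl Lrfl
theorem f286287 : Led Lsl_ft (LP (LK LD1_c10 LD2_c8 LD3_c19)) = (LP (LK LD1_c5 LD2_c8 LD3_c57)) :=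
  Lre_f IH (LK LD1_c10 LD2_c8 LD3_c19) (LK LD1_c5 LD2_c8 LD3_c57) Lrfl Lrfl
theorem f262864 : Led Lsl_ft (LP (LK LD1_c2 LD2_c40 LD3_c58)) = (LP (LK LD1_c5 LD2_c29 LD3_c24)) :=
  Lre_f IH (LK LD1_c2 LD2_c40 LD3_c58) (LK LD1_c5 LD2_c29 LD3_c24) Lrfl Lrfl
theorem f266469 : Led Lsl_ft (LP (LK LD1_c4 LD2_c55 LD3_c5)) = (LP (LK LD1_c4 LD2_c13 LD3_c60)) :=
  Lgr Lrot54 (Lpr_df (K15.f266462 IH) (Lpe (f262864 IH) (Lpr_df (f262857 IH) (Lpn (LP (LK LD1_c4 LD2_c13 LD3_c60))))))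
theorem f286141 : Led Lsl_ft (LP (LK LD1_c15 LD2_c24 LD3_c60)) = (LP (LK LD1_c9 LD2_c41 LD3_c43)) :=
  Lgr Lrot86 (Lpr_ef (f286135 IH) (Lpe (f245167 IH) (Lpe (K16.f245191 IH) (Lpe (f266469 IH) (Lpe (K16.f266789 IH) (Lpn (LP (LK LD1_c9 LD2_c41 LD3_c43))))))))
theorem f286282 : Led Lsl_at (LP (LK LD1_c9 LD2_c41 LD3_c43)) = (LP (LK LD1_c5 LD2_c38 LD3_c53)) :=
  Lgr Lrot66 (Lpe (f286141 IH) (Lpr_af (f286149 IH) (Lpr_ff (f286264 IH) (Lpn (LP (LK LD1_c5 LD2_c38 LD3_c53))))))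
theorem f286315 : Led Lsl_af (LP (LK LD1_c8 LD2_c26 LD3_c11)) = (LP (LK LD1_c5 LD2_c8 LD3_c57)) :=
  Lgr Lrot117 (Lpr_dt (K16.f266782 IH) (Lpr_at (f286282 IH) (Lpr_dt (f286313 IH) (Lpn (LP (LK LD1_c5 LD2_c8 LD3_c57))))))
theorem f184067 : Led Lsl_et (LP (LK LD1_c2 LD2_c34 LD3_c49)) = (LP (LK LD1_c5 LD2_c16 LD3_c0)) :=
  Lre_e IH (LK LD1_c2 LD2_c34 LD3_c49) (LK LD1_c5 LD2_c16 LD3_c0) Lrfl Lrfl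
theorem f184068 : Led Lsl_cf (LP (LK LD1_c8 LD2_c26 LD3_c11)) = (LP (LK LD1_c5 LD2_c16 LD3_c0)) :=
  Lgr Lrot39 (Lpr_et (K16.f44996 IH) (Lpr_ct (K9.f184062 IH) (Lpr_et (f184067 IH) (Lpn (LP (LK LD1_c5 LD2_c16 LD3_c0))))))
theorem f266787 : Led Lsl_dt (LP (LK LD1_c10 LD2_c21 LD3_c29)) = (LP (LK LD1_c5 LD2_c16 LD3_c0)) :=
  Lre_d IH (LK LD1_c10 LD2_c21 LD3_c29) (LK LD1_c5 LD2_c16 LD3_c0) Lrfl Lrfl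
theorem f266790 : Led Lsl_ct (LP (LK LD1_c18 LD2_c47 LD3_c58)) = (LP (LK LD1_c10 LD2_c21 LD3_c29)) :=
  Lre_c IH (LK LD1_c18 LD2_c47 LD3_c58) (LK LD1_c10 LD2_c21 LD3_c29) Lrfl Lrfl
theorem f266791 : Led Lsl_dt (LP (LK LD1_c28 LD2_c17 LD3_c34)) = (LP (LK LD1_c18 LD2_c47 LD3_c58)) :=
  Lre_d IH (LK LD1_c28 LD2_c17 LD3_c34) (LK LD1_c18 LD2_c47 LD3_c58) Lrfl Lrfl
theorem f286346 : Led Lsl_ct (LP (LK LD1_c19 LD2_c30 LD3_c26)) = (LP (LK LD1_c28 LD2_c17 LD3_c34)) :=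
  Lgr Lrot41 (Lpe (f261576 IH) (Lpe (f286248 IH) (Lpr_df (f286323 IH) (Lpr_ft (f286287 IH) (Lpe (f286315 IH) (Lpr_cf (f184068 IH) (Lpe (f266787 IH) (Lpe (f266790 IH) (Lpe (f266791 IH) (Lpn (LP (LK LD1_c28 LD2_c17 LD3_c34))))))))))))
theorem f286343 : Led Lsl_ct (LP (LK LD1_c18 LD2_c27 LD3_c57)) = (LP (LK LD1_c10 LD2_c8 LD3_c19)) :=
  Lre_c IH (LK LD1_c18 LD2_c27 LD3_c57) (LK LD1_c10 LD2_c8 LD3_c19) Lrfl Lrfl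
theorem f286344 : Led Lsl_dt (LP (LK LD1_c28 LD2_c2 LD3_c49)) = (LP (LK LD1_c18 LD2_c27 LD3_c57)) :=
  Lre_d IH (LK LD1_c28 LD2_c2 LD3_c49) (LK LD1_c18 LD2_c27 LD3_c57) Lrfl Lrfl
theorem f286345 : Led Lsl_ft (LP (LK LD1_c28 LD2_c2 LD3_c49)) = (LP (LK LD1_c18 LD2_c27 LD3_c56)) :=
  Lre_f IH (LK LD1_c28 LD2_c2 LD3_c49) (LK LD1_c18 LD2_c27 LD3_c56) Lrfl Lrfl
theorem f286359 : Led Lsl_at (LP (LK LD1_c18 LD2_c27 LD3_c56)) = (LP (LK LD1_c10 LD2_c21 LD3_c29)) :=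
  Lgr Lrot33 (Lpe (f286345 IH) (Lpr_dt (f286344 IH) (Lpr_ct (f286343 IH) (Lpe (f286323 IH) (Lpr_ct (f286248 IH) (Lpr_dt (f261576 IH) (Lpr_ct (f286346 IH) (Lpr_dt (f266791 IH) (Lpr_ct (f266790 IH) (Lpn (LP (LK LD1_c10 LD2_c21 LD3_c29))))))))))))
theorem f266794 : Led Lsl_ft (LP (LK LD1_c10 LD2_c21 LD3_c29)) = (LP (LK LD1_c18 LD2_c47 LD3_c59)) :=
  Lre_f IH (LK LD1_c10 LD2_c21 LD3_c29) (LK LD1_c18 LD2_c47 LD3_c59) Lrfl Lrfl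
theorem f286372 : Led Lsl_af (LP (LK LD1_c28 LD2_c2 LD3_c49)) = (LP (LK LD1_c18 LD2_c47 LD3_c59)) :=
  Lgr Lrot45 (Lpr_ft (f286345 IH) (Lpr_at (f286359 IH) (Lpr_ft (f266794 IH) (Lpn (LP (LK LD1_c18 LD2_c47 LD3_c59))))))
theorem f286381 : Led Lsl_dt (LP (LK LD1_c10 LD2_c21 LD3_c30)) = (LP (LK LD1_c18 LD2_c47 LD3_c59)) :=
  Lre_d IH (LK LD1_c10 LD2_c21 LD3_c30) (LK LD1_c18 LD2_c47 LD3_c59) Lrfl Lrfl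
theorem f286382 : Led Lsl_at (LP (LK LD1_c18 LD2_c27 LD3_c57)) = (LP (LK LD1_c10 LD2_c21 LD3_c30)) :=
  Lgr Lrot51 (Lpe (f286344 IH) (Lpr_af (f286372 IH) (Lpe (f286381 IH) (Lpn (LP (LK LD1_c10 LD2_c21 LD3_c30))))))
theorem f286333 : Led Lsl_ft (LP (LK LD1_c10 LD2_c8 LD3_c16)) = (LP (LK LD1_c18 LD2_c27 LD3_c57)) :=
  Lre_f IH (LK LD1_c10 LD2_c8 LD3_c16) (LK LD1_c18 LD2_c27 LD3_c57) Lrfl Lrfl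
theorem f197076 : Led Lsl_dt (LP (LK LD1_c10 LD2_c8 LD3_c16)) = (LP (LK LD1_c18 LD2_c27 LD3_c56)) :=
  Lre_d IH (LK LD1_c10 LD2_c8 LD3_c16) (LK LD1_c18 LD2_c27 LD3_c56) Lrfl Lrfl
theorem f197085 : Led Lsl_ct (LP (LK LD1_c18 LD2_c27 LD3_c56)) = (LP (LK LD1_c28 LD2_c2 LD3_c48)) :=
  Lre_c IH (LK LD1_c18 LD2_c27 LD3_c56) (LK LD1_c28 LD2_c2 LD3_c48) Lrfl Lrfl
theorem f286116 : Led Lsl_at (LP (LK LD1_c10 LD2_c50 LD3_c42)) = (LP (LK LD1_c15 LD2_c51 LD3_c22)) :=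
  Lgr Lrot100 (Lpr_af (f286114 IH) (Lpn (LP (LK LD1_c15 LD2_c51 LD3_c22))))
theorem f271065 : Led Lsl_et (LP (LK LD1_c10 LD2_c20 LD3_c26)) = (LP (LK LD1_c10 LD2_c50 LD3_c42)) :=
  Lgr Lrot87 (Lpr_ef (f271063 IH) (Lpn (LP (LK LD1_c10 LD2_c50 LD3_c42))))
theorem f286137 : Led Lsl_at (LP (LK LD1_c15 LD2_c24 LD3_c60)) = (LP (LK LD1_c10 LD2_c20 LD3_c26)) :=
  Lgr Lrot80 (Lpr_ef (f286135 IH) (Lpe (f286116 IH) (Lpe (f271065 IH) (Lpn (LP (LK LD1_c10 LD2_c20 LD3_c26))))))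
theorem f252511 : Led Lsl_df (LP (LK LD1_c11 LD2_c55 LD3_c5)) = (LP (LK LD1_c6 LD2_c6 LD3_c16)) :=
  Lgr Lrot43 (Lpr_ct (K13.f231968 IH) (Lpr_dt (K13.f231967 IH) (Lpr_ct (K14.f252506 IH) (Lpr_dt (K9.f49448 IH) (Lpe (K10.f50905 IH) (Lpr_dt (K11.f27415 IH) (Lpe (K11.f183773 IH) (Lpe (K13.f231691 IH) (Lpr_ct (K14.f231877 IH) (Lpr_dt (K14.f45033 IH) (Lpr_ct (K12.f45006 IH) (Lpr_dt (K8.f44967 IH) (Lpr_ct (K9.f49462 IH) (Lpr_dt (K11.f45085 IH) (Lpe (K11.f183719 IH) (Lpn (LP (LK LD1_c6 LD2_c6 LD3_c16))))))))))))))))))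
theorem f261481 : Led Lsl_gf (LP (LK LD1_c6 LD2_c5 LD3_c50)) = (LP (LK LD1_c5 LD2_c27 LD3_c55)) :=
  Lgr Lrot141 (Lpe (K16.f231698 IH) (Lpr_dt (K15.f231697 IH) (Lpr_gt (K13.f231889 IH) (Lpr_df (f252511 IH) (Lpr_et (K11.f183724 IH) (Lpr_gt (K15.f261465 IH) (Lpr_dt (K16.f221316 IH) (Lpe (K16.f261472 IH) (Lpe (K16.f243635 IH) (Lpr_et (f261480 IH) (Lpn (LP (LK LD1_c5 LD2_c27 LD3_c55)))))))))))))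
theorem f231699 : Led Lsl_gt (LP (LK LD1_c6 LD2_c5 LD3_c50)) = (LP (LK LD1_c11 LD2_c55 LD3_c8)) :=
  Lre_g IH (LK LD1_c6 LD2_c5 LD3_c50) (LK LD1_c11 LD2_c55 LD3_c8) Lrfl Lrfl
theorem f261485 : Led Lsl_af (LP (LK LD1_c11 LD2_c55 LD3_c8)) = (LP (LK LD1_c10 LD2_c46 LD3_c61)) :=
  Lgr Lrot31 (Lpe (f231699 IH) (Lpr_gf (f261481 IH) (Lpr_ft (f261484 IH) (Lpn (LP (LK LD1_c10 LD2_c46 LD3_c61))))))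
theorem f286255 : Led Lsl_cf (LP (LK LD1_c15 LD2_c24 LD3_c60)) = (LP (LK LD1_c11 LD2_c55 LD3_c8)) :=
  Lgr Lrot1 (Lpr_at (f286137 IH) (Lpr_ct (f286248 IH) (Lpe (f261485 IH) (Lpn (LP (LK LD1_c11 LD2_c55 LD3_c8))))))
theorem f261575 : Led Lsl_dt (LP (LK LD1_c20 LD2_c59 LD3_c58)) = (LP (LK LD1_c11 LD2_c55 LD3_c8)) :=
  Lre_d IH (LK LD1_c20 LD2_c59 LD3_c58) (LK LD1_c11 LD2_c55 LD3_c8) Lrfl Lrfl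
theorem f261555 : Led Lsl_ct (LP (LK LD1_c29 LD2_c48 LD3_c15)) = (LP (LK LD1_c20 LD2_c59 LD3_c58)) :=
  Lre_c IH (LK LD1_c29 LD2_c48 LD3_c15) (LK LD1_c20 LD2_c59 LD3_c58) Lrfl Lrfl
theorem f286321 : Led Lsl_ct (LP (LK LD1_c5 LD2_c8 LD3_c57)) = (LP (LK LD1_c10 LD2_c8 LD3_c16)) :=
  Lre_c IH (LK LD1_c5 LD2_c8 LD3_c57) (LK LD1_c10 LD2_c8 LD3_c16) Lrfl Lrfl
theorem f286325 : Led Lsl_df (LP (LK LD1_c29 LD2_c48 LD3_c15)) = (LP (LK LD1_c28 LD2_c2 LD3_c48)) :=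
  Lgr Lrot13 (Lpr_ct (f261555 IH) (Lpr_dt (f261575 IH) (Lpe (f286255 IH) (Lpr_af (f286149 IH) (Lpr_ff (f286264 IH) (Lpr_dt (f286313 IH) (Lpr_ct (f286321 IH) (Lpr_dt (f197076 IH) (Lpr_ct (f197085 IH) (Lpn (LP (LK LD1_c28 LD2_c2 LD3_c48))))))))))))
theorem f286145 : Led Lsl_ff (LP (LK LD1_c15 LD2_c24 LD3_c60)) = (LP (LK LD1_c9 LD2_c41 LD3_c43)) :=
  Lgr Lrot3 (Lpr_ft (f286141 IH) (Lpn (LP (LK LD1_c9 LD2_c41 LD3_c43))))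
theorem f266793 : Led Lsl_ft (LP (LK LD1_c15 LD2_c50 LD3_c45)) = (LP (LK LD1_c8 LD2_c26 LD3_c11)) :=
  Lre_f IH (LK LD1_c15 LD2_c50 LD3_c45) (LK LD1_c8 LD2_c26 LD3_c11) Lrfl Lrfl
theorem f286147 : Led Lsl_dt (LP (LK LD1_c15 LD2_c24 LD3_c60)) = (LP (LK LD1_c15 LD2_c50 LD3_c45)) :=
  Lgr Lrot60 (Lpr_ff (f286145 IH) (Lpe (K16.f266782 IH) (Lpe (f266793 IH) (Lpn (LP (LK LD1_c15 LD2_c50 LD3_c45))))))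
theorem f286396 : Led Lsl_ct (LP (LK LD1_c15 LD2_c50 LD3_c45)) = (LP (LK LD1_c10 LD2_c21 LD3_c30)) :=
  Lgr Lrot98 (Lpe (f286147 IH) (Lpr_cf (f286255 IH) (Lpe (f261575 IH) (Lpe (f261555 IH) (Lpr_df (f286325 IH) (Lpe (f197085 IH) (Lpe (f197076 IH) (Lpr_ft (f286333 IH) (Lpr_at (f286382 IH) (Lpn (LP (LK LD1_c10 LD2_c21 LD3_c30))))))))))))
theorem f243740 : Led Lsl_dt (LP (LK LD1_c10 LD2_c46 LD3_c60)) = (LP (LK LD1_c5 LD2_c27 LD3_c55)) :=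
  Lre_d IH (LK LD1_c10 LD2_c46 LD3_c60) (LK LD1_c5 LD2_c27 LD3_c55) Lrfl Lrfl
theorem f286320 : Led Lsl_ct (LP (LK LD1_c19 LD2_c30 LD3_c25)) = (LP (LK LD1_c10 LD2_c46 LD3_c60)) :=
  Lre_c IH (LK LD1_c19 LD2_c30 LD3_c25) (LK LD1_c10 LD2_c46 LD3_c60) Lrfl Lrfl
theorem f286400 : Led Lsl_ct (LP (LK LD1_c18 LD2_c47 LD3_c59)) = (LP (LK LD1_c28 LD2_c17 LD3_c35)) :=
  Lre_c IH (LK LD1_c18 LD2_c47 LD3_c59) (LK LD1_c28 LD2_c17 LD3_c35) Lrfl Lrfl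
theorem f286401 : Led Lsl_df (LP (LK LD1_c19 LD2_c30 LD3_c25)) = (LP (LK LD1_c28 LD2_c17 LD3_c35)) :=
  Lgr Lrot43 (Lpr_ct (f286320 IH) (Lpr_dt (f243740 IH) (Lpr_ct (f243739 IH) (Lpr_dt (f286313 IH) (Lpr_ct (f286321 IH) (Lpr_dt (f197076 IH) (Lpr_ct (f197085 IH) (Lpe (f286325 IH) (Lpr_ct (f261555 IH) (Lpr_dt (f261575 IH) (Lpe (f286255 IH) (Lpr_dt (f286147 IH) (Lpr_ct (f286396 IH) (Lpr_dt (f286381 IH) (Lpr_ct (f286400 IH) (Lpn (LP (LK LD1_c28 LD2_c17 LD3_c35))))))))))))))))))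
theorem f286409 : Led Lsl_ft (LP (LK LD1_c18 LD2_c47 LD3_c58)) = (LP (LK LD1_c28 LD2_c17 LD3_c35)) :=
  Lre_f IH (LK LD1_c18 LD2_c47 LD3_c58) (LK LD1_c28 LD2_c17 LD3_c35) Lrfl Lrfl
theorem f286410 : Led Lsl_ft (LP (LK LD1_c19 LD2_c30 LD3_c25)) = (LP (LK LD1_c28 LD2_c17 LD3_c34)) :=
  Lgr Lrot54 (Lpr_df (f286401 IH) (Lpe (f286409 IH) (Lpe (f266791 IH) (Lpn (LP (LK LD1_c28 LD2_c17 LD3_c34))))))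
theorem f286406 : Led Lsl_dt (LP (LK LD1_c19 LD2_c30 LD3_c25)) = (LP (LK LD1_c28 LD2_c17 LD3_c35)) :=
  Lgr Lrot42 (Lpr_df (f286401 IH) (Lpn (LP (LK LD1_c28 LD2_c17 LD3_c35))))
theorem f286380 : Led Lsl_ct (LP (LK LD1_c28 LD2_c17 LD3_c35)) = (LP (LK LD1_c18 LD2_c47 LD3_c59)) :=
  Lre_c IH (LK LD1_c28 LD2_c17 LD3_c35) (LK LD1_c18 LD2_c47 LD3_c59) Lrfl Lrfl
theorem f286403 : Led Lsl_dt (LP (LK LD1_c18 LD2_c47 LD3_c59)) = (LP (LK LD1_c10 LD2_c21 LD3_c30)) :=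
  Lre_d IH (LK LD1_c18 LD2_c47 LD3_c59) (LK LD1_c10 LD2_c21 LD3_c30) Lrfl Lrfl
theorem f286386 : Led Lsl_ct (LP (LK LD1_c10 LD2_c8 LD3_c19)) = (LP (LK LD1_c18 LD2_c27 LD3_c57)) :=
  Lre_c IH (LK LD1_c10 LD2_c8 LD3_c19) (LK LD1_c18 LD2_c27 LD3_c57) Lrfl Lrfl
theorem f286338 : Led Lsl_at (LP (LK LD1_c15 LD2_c50 LD3_c45)) = (LP (LK LD1_c10 LD2_c8 LD3_c19)) :=
  Lgr Lrot51 (Lpe (f286147 IH) (Lpr_af (f286149 IH) (Lpr_df (f286323 IH) (Lpn (LP (LK LD1_c10 LD2_c8 LD3_c19))))))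
theorem f286393 : Led Lsl_cf (LP (LK LD1_c15 LD2_c50 LD3_c45)) = (LP (LK LD1_c10 LD2_c21 LD3_c30)) :=
  Lgr Lrot1 (Lpr_at (f286338 IH) (Lpr_ct (f286386 IH) (Lpr_at (f286382 IH) (Lpn (LP (LK LD1_c10 LD2_c21 LD3_c30))))))
theorem f266784 : Led Lsl_ft (LP (LK LD1_c8 LD2_c26 LD3_c11)) = (LP (LK LD1_c15 LD2_c50 LD3_c45)) :=
  Lre_f IH (LK LD1_c8 LD2_c26 LD3_c11) (LK LD1_c15 LD2_c50 LD3_c45) Lrfl Lrfl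
theorem f286143 : Led Lsl_df (LP (LK LD1_c15 LD2_c24 LD3_c60)) = (LP (LK LD1_c15 LD2_c50 LD3_c45)) :=
  Lgr Lrot78 (Lpr_ft (f286141 IH) (Lpe (K16.f266780 IH) (Lpr_ft (f266784 IH) (Lpn (LP (LK LD1_c15 LD2_c50 LD3_c45))))))
theorem f231881 : Led Lsl_dt (LP (LK LD1_c11 LD2_c55 LD3_c8)) = (LP (LK LD1_c20 LD2_c59 LD3_c58)) :=
  Lre_d IH (LK LD1_c11 LD2_c55 LD3_c8) (LK LD1_c20 LD2_c59 LD3_c58) Lrfl Lrfl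
theorem f261546 : Led Lsl_dt (LP (LK LD1_c19 LD2_c30 LD3_c26)) = (LP (LK LD1_c10 LD2_c46 LD3_c61)) :=
  Lre_d IH (LK LD1_c19 LD2_c30 LD3_c26) (LK LD1_c10 LD2_c46 LD3_c61) Lrfl Lrfl
theorem f261547 : Led Lsl_at (LP (LK LD1_c20 LD2_c59 LD3_c58)) = (LP (LK LD1_c19 LD2_c30 LD3_c26)) :=
  Lgr Lrot51 (Lpe (f231881 IH) (Lpr_af (f261485 IH) (Lpe (f261546 IH) (Lpn (LP (LK LD1_c19 LD2_c30 LD3_c26))))))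
theorem f286348 : Led Lsl_af (LP (LK LD1_c29 LD2_c48 LD3_c15)) = (LP (LK LD1_c28 LD2_c17 LD3_c34)) :=
  Lgr Lrot68 (Lpr_ct (f261555 IH) (Lpr_at (f261547 IH) (Lpr_ct (f286346 IH) (Lpn (LP (LK LD1_c28 LD2_c17 LD3_c34))))))
theorem f261574 : Led Lsl_ct (LP (LK LD1_c20 LD2_c59 LD3_c58)) = (LP (LK LD1_c29 LD2_c48 LD3_c15)) :=
  Lre_c IH (LK LD1_c20 LD2_c59 LD3_c58) (LK LD1_c29 LD2_c48 LD3_c15) Lrfl Lrfl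
theorem f286417 : Led Lsl_ct (LP (LK LD1_c15 LD2_c24 LD3_c60)) = (LP (LK LD1_c11 LD2_c55 LD3_c8)) :=
  Lgr Lrot53 (Lpr_df (f286143 IH) (Lpr_cf (f286393 IH) (Lpe (f286403 IH) (Lpe (f286380 IH) (Lpe (f286406 IH) (Lpr_ft (f286410 IH) (Lpe (f286348 IH) (Lpe (f261574 IH) (Lpe (f231881 IH) (Lpn (LP (LK LD1_c11 LD2_c55 LD3_c8))))))))))))
theorem f286330 : Led Lsl_dt (LP (LK LD1_c29 LD2_c48 LD3_c15)) = (LP (LK LD1_c28 LD2_c2 LD3_c48)) :=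
  Lgr Lrot42 (Lpr_df (f286325 IH) (Lpn (LP (LK LD1_c28 LD2_c2 LD3_c48))))
theorem f197083 : Led Lsl_ct (LP (LK LD1_c28 LD2_c2 LD3_c48)) = (LP (LK LD1_c18 LD2_c27 LD3_c56)) :=
  Lre_c IH (LK LD1_c28 LD2_c2 LD3_c48) (LK LD1_c18 LD2_c27 LD3_c56) Lrfl Lrfl
theorem f197086 : Led Lsl_dt (LP (LK LD1_c18 LD2_c27 LD3_c56)) = (LP (LK LD1_c10 LD2_c8 LD3_c16)) :=
  Lre_d IH (LK LD1_c18 LD2_c27 LD3_c56) (LK LD1_c10 LD2_c8 LD3_c16) Lrfl Lrfl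
theorem f286327 : Led Lsl_ct (LP (LK LD1_c10 LD2_c8 LD3_c16)) = (LP (LK LD1_c5 LD2_c8 LD3_c57)) :=
  Lre_c IH (LK LD1_c10 LD2_c8 LD3_c16) (LK LD1_c5 LD2_c8 LD3_c57) Lrfl Lrfl
theorem f286423 : Led Lsl_at (LP (LK LD1_c8 LD2_c26 LD3_c11)) = (LP (LK LD1_c5 LD2_c8 LD3_c57)) :=
  Lgr Lrot33 (Lpe (f266793 IH) (Lpe (f286143 IH) (Lpr_ct (f286417 IH) (Lpr_dt (f231881 IH) (Lpr_ct (f261574 IH) (Lpr_dt (f286330 IH) (Lpr_ct (f197083 IH) (Lpr_dt (f197086 IH) (Lpr_ct (f286327 IH) (Lpn (LP (LK LD1_c5 LD2_c8 LD3_c57))))))))))))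
theorem f286429 : Led Lsl_af (LP (LK LD1_c9 LD2_c41 LD3_c43)) = (LP (LK LD1_c5 LD2_c38 LD3_c53)) :=
  Lgr Lrot117 (Lpe (K16.f266780 IH) (Lpr_at (f286423 IH) (Lpe (f285793 IH) (Lpn (LP (LK LD1_c5 LD2_c38 LD3_c53))))))
theorem f274979 : Led Lsl_dt (LP (LK LD1_c16 LD2_c44 LD3_c19)) = (LP (LK LD1_c8 LD2_c56 LD3_c30)) :=
  Lre_d IH (LK LD1_c16 LD2_c44 LD3_c19) (LK LD1_c8 LD2_c56 LD3_c30) Lrfl Lrfl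
theorem f275044 : Led Lsl_ct (LP (LK LD1_c26 LD2_c43 LD3_c11)) = (LP (LK LD1_c16 LD2_c44 LD3_c19)) :=
  Lre_c IH (LK LD1_c26 LD2_c43 LD3_c11) (LK LD1_c16 LD2_c44 LD3_c19) Lrfl Lrfl
theorem f275048 : Led Lsl_dt (LP (LK LD1_c32 LD2_c15 LD3_c6)) = (LP (LK LD1_c26 LD2_c43 LD3_c11)) :=
  Lre_d IH (LK LD1_c32 LD2_c15 LD3_c6) (LK LD1_c26 LD2_c43 LD3_c11) Lrfl Lrfl
theorem f286288 : Led Lsl_dt (LP (LK LD1_c10 LD2_c20 LD3_c26)) = (LP (LK LD1_c10 LD2_c8 LD3_c19)) :=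
  Lgr Lrot60 (Lpr_ff (f286264 IH) (Lpr_df (f285793 IH) (Lpe (f286287 IH) (Lpn (LP (LK LD1_c10 LD2_c8 LD3_c19))))))
theorem f286376 : Led Lsl_dt (LP (LK LD1_c18 LD2_c27 LD3_c57)) = (LP (LK LD1_c28 LD2_c2 LD3_c49)) :=
  Lre_d IH (LK LD1_c18 LD2_c27 LD3_c57) (LK LD1_c28 LD2_c2 LD3_c49) Lrfl Lrfl
theorem f286435 : Led Lsl_cf (LP (LK LD1_c32 LD2_c15 LD3_c6)) = (LP (LK LD1_c28 LD2_c2 LD3_c49)) :=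
  Lgr Lrot116 (Lpr_dt (f275048 IH) (Lpr_ct (f275044 IH) (Lpr_dt (f274979 IH) (Lpe (K16.f274950 IH) (Lpr_af (f286429 IH) (Lpe (f286290 IH) (Lpr_dt (f286288 IH) (Lpr_ct (f286386 IH) (Lpr_dt (f286376 IH) (Lpn (LP (LK LD1_c28 LD2_c2 LD3_c49))))))))))))
theorem f286262 : Led Lsl_cf (LP (LK LD1_c10 LD2_c20 LD3_c26)) = (LP (LK LD1_c10 LD2_c46 LD3_c61)) :=
  Lgr Lrot11 (Lpr_ct (f286248 IH) (Lpn (LP (LK LD1_c10 LD2_c46 LD3_c61))))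
theorem f261560 : Led Lsl_ft (LP (LK LD1_c19 LD2_c30 LD3_c26)) = (LP (LK LD1_c10 LD2_c46 LD3_c60)) :=
  Lre_f IH (LK LD1_c19 LD2_c30 LD3_c26) (LK LD1_c10 LD2_c46 LD3_c60) Lrfl Lrfl
theorem f286445 : Led Lsl_af (LP (LK LD1_c16 LD2_c44 LD3_c19)) = (LP (LK LD1_c10 LD2_c46 LD3_c60)) :=
  Lgr Lrot109 (Lpe (f275044 IH) (Lpe (f275048 IH) (Lpr_cf (f286435 IH) (Lpe (f286376 IH) (Lpe (f286386 IH) (Lpe (f286288 IH) (Lpr_cf (f286262 IH) (Lpe (f261546 IH) (Lpr_ft (f261560 IH) (Lpn (LP (LK LD1_c10 LD2_c46 LD3_c60))))))))))))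
theorem f286459 : Led Lsl_ft (LP (LK LD1_c16 LD2_c44 LD3_c19)) = (LP (LK LD1_c20 LD2_c59 LD3_c58)) :=
  Lgr Lrot101 (Lpr_af (f286445 IH) (Lpe (f261560 IH) (Lpe (f261547 IH) (Lpn (LP (LK LD1_c20 LD2_c59 LD3_c58))))))
theorem f286467 : Led Lsl_ff (LP (LK LD1_c16 LD2_c44 LD3_c19)) = (LP (LK LD1_c20 LD2_c59 LD3_c58)) :=
  Lgr Lrot3 (Lpr_ft (f286459 IH) (Lpn (LP (LK LD1_c20 LD2_c59 LD3_c58))))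
theorem f286475 : Led Lsl_ft (LP (LK LD1_c8 LD2_c56 LD3_c30)) = (LP (LK LD1_c11 LD2_c55 LD3_c8)) :=
  Lgr Lrot54 (Lpe (f274979 IH) (Lpr_ff (f286467 IH) (Lpe (f231881 IH) (Lpn (LP (LK LD1_c11 LD2_c55 LD3_c8))))))
theorem f261540 : Led Lsl_bt (LP (LK LD1_c11 LD2_c55 LD3_c8)) = (LP (LK LD1_c20 LD2_c59 LD3_c57)) :=
  Lre_b IH (LK LD1_c11 LD2_c55 LD3_c8) (LK LD1_c20 LD2_c59 LD3_c57) Lrfl Lrfl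
theorem f286479 : Led Lsl_ff (LP (LK LD1_c16 LD2_c44 LD3_c18)) = (LP (LK LD1_c20 LD2_c59 LD3_c57)) :=
  Lgr Lrot25 (Lpr_bt (K16.f274973 IH) (Lpr_ft (f286475 IH) (Lpr_bt (f261540 IH) (Lpn (LP (LK LD1_c20 LD2_c59 LD3_c57))))))
theorem f286502 : Led Lsl_ft (LP (LK LD1_c16 LD2_c44 LD3_c18)) = (LP (LK LD1_c20 LD2_c59 LD3_c57)) :=
  Lgr Lrot48 (Lpr_ff (f286479 IH) (Lpn (LP (LK LD1_c20 LD2_c59 LD3_c57))))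
theorem f275015 : Led Lsl_at (LP (LK LD1_c26 LD2_c43 LD3_c6)) = (LP (LK LD1_c16 LD2_c44 LD3_c18)) :=
  Lre_a IH (LK LD1_c26 LD2_c43 LD3_c6) (LK LD1_c16 LD2_c44 LD3_c18) Lrfl Lrfl
theorem f261541 : Led Lsl_at (LP (LK LD1_c20 LD2_c59 LD3_c57)) = (LP (LK LD1_c29 LD2_c48 LD3_c13)) :=
  Lre_a IH (LK LD1_c20 LD2_c59 LD3_c57) (LK LD1_c29 LD2_c48 LD3_c13) Lrfl Lrfl
theorem f286507 : Led Lsl_ff (LP (LK LD1_c26 LD2_c43 LD3_c6)) = (LP (LK LD1_c29 LD2_c48 LD3_c13)) :=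
  Lgr Lrot30 (Lpr_at (f275015 IH) (Lpr_ft (f286502 IH) (Lpr_at (f261541 IH) (Lpn (LP (LK LD1_c29 LD2_c48 LD3_c13))))))
theorem f261542 : Led Lsl_bt (LP (LK LD1_c19 LD2_c30 LD3_c19)) = (LP (LK LD1_c10 LD2_c46 LD3_c61)) :=
  Lre_b IH (LK LD1_c19 LD2_c30 LD3_c19) (LK LD1_c10 LD2_c46 LD3_c61) Lrfl Lrfl
theorem f261543 : Led Lsl_at (LP (LK LD1_c28 LD2_c52 LD3_c48)) = (LP (LK LD1_c19 LD2_c30 LD3_c19)) :=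
  Lre_a IH (LK LD1_c28 LD2_c52 LD3_c48) (LK LD1_c19 LD2_c30 LD3_c19) Lrfl Lrfl
theorem f261544 : Led Lsl_bt (LP (LK LD1_c29 LD2_c48 LD3_c13)) = (LP (LK LD1_c28 LD2_c52 LD3_c48)) :=
  Lgr Lrot62 (Lpe (f261541 IH) (Lpe (f261540 IH) (Lpr_af (f261485 IH) (Lpe (f261542 IH) (Lpe (f261543 IH) (Lpn (LP (LK LD1_c28 LD2_c52 LD3_c48))))))))
theorem f261578 : Led Lsl_bf (LP (LK LD1_c29 LD2_c48 LD3_c13)) = (LP (LK LD1_c28 LD2_c52 LD3_c48)) :=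
  Lgr Lrot24 (Lpr_bt (f261544 IH) (Lpn (LP (LK LD1_c28 LD2_c52 LD3_c48))))
theorem f261592 : Led Lsl_ft (LP (LK LD1_c19 LD2_c30 LD3_c13)) = (LP (LK LD1_c28 LD2_c52 LD3_c48)) :=
  Lre_f IH (LK LD1_c19 LD2_c30 LD3_c13) (LK LD1_c28 LD2_c52 LD3_c48) Lrfl Lrfl
theorem f286552 : Led Lsl_bt (LP (LK LD1_c26 LD2_c43 LD3_c6)) = (LP (LK LD1_c19 LD2_c30 LD3_c13)) :=
  Lgr Lrot35 (Lpr_ff (f286507 IH) (Lpr_bf (f261578 IH) (Lpe (f261592 IH) (Lpn (LP (LK LD1_c19 LD2_c30 LD3_c13))))))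
theorem f286564 : Led Lsl_bf (LP (LK LD1_c26 LD2_c43 LD3_c6)) = (LP (LK LD1_c19 LD2_c30 LD3_c13)) :=
  Lgr Lrot24 (Lpr_bt (f286552 IH) (Lpn (LP (LK LD1_c19 LD2_c30 LD3_c13))))
theorem f275052 : Led Lsl_et (LP (LK LD1_c26 LD2_c43 LD3_c6)) = (LP (LK LD1_c16 LD2_c44 LD3_c17)) :=
  Lre_e IH (LK LD1_c26 LD2_c43 LD3_c6) (LK LD1_c16 LD2_c44 LD3_c17) Lrfl Lrfl
theorem f286576 : Led Lsl_et (LP (LK LD1_c10 LD2_c46 LD3_c56)) = (LP (LK LD1_c19 LD2_c30 LD3_c13)) :=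
  Lre_e IH (LK LD1_c10 LD2_c46 LD3_c56) (LK LD1_c19 LD2_c30 LD3_c13) Lrfl Lrfl
theorem f286577 : Led Lsl_bt (LP (LK LD1_c16 LD2_c44 LD3_c17)) = (LP (LK LD1_c10 LD2_c46 LD3_c56)) :=
  Lgr Lrot119 (Lpe (f275052 IH) (Lpr_bf (f286564 IH) (Lpe (f286576 IH) (Lpn (LP (LK LD1_c10 LD2_c46 LD3_c56))))))
theorem f275032 : Led Lsl_et (LP (LK LD1_c8 LD2_c56 LD3_c29)) = (LP (LK LD1_c16 LD2_c44 LD3_c18)) :=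
  Lre_e IH (LK LD1_c8 LD2_c56 LD3_c29) (LK LD1_c16 LD2_c44 LD3_c18) Lrfl Lrfl
theorem f245078 : Led Lsl_bt (LP (LK LD1_c8 LD2_c56 LD3_c29)) = (LP (LK LD1_c4 LD2_c29 LD3_c7)) :=
  Lre_b IH (LK LD1_c8 LD2_c56 LD3_c29) (LK LD1_c4 LD2_c29 LD3_c7) Lrfl Lrfl
theorem f245135 : Led Lsl_bt (LP (LK LD1_c2 LD2_c40 LD3_c16)) = (LP (LK LD1_c5 LD2_c27 LD3_c50)) :=
  Lre_b IH (LK LD1_c2 LD2_c40 LD3_c16) (LK LD1_c5 LD2_c27 LD3_c50) Lrfl Lrfl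
theorem f286202 : Led Lsl_ff (LP (LK LD1_c8 LD2_c56 LD3_c29)) = (LP (LK LD1_c5 LD2_c27 LD3_c50)) :=
  Lgr Lrot25 (Lpr_bt (f245078 IH) (Lpr_ft (f286200 IH) (Lpr_bt (f245135 IH) (Lpn (LP (LK LD1_c5 LD2_c27 LD3_c50))))))
theorem f286509 : Led Lsl_et (LP (LK LD1_c10 LD2_c46 LD3_c50)) = (LP (LK LD1_c5 LD2_c27 LD3_c50)) :=
  Lre_e IH (LK LD1_c10 LD2_c46 LD3_c50) (LK LD1_c5 LD2_c27 LD3_c50) Lrfl Lrfl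
theorem f286510 : Led Lsl_ft (LP (LK LD1_c19 LD2_c29 LD3_c61)) = (LP (LK LD1_c10 LD2_c46 LD3_c50)) :=
  Lre_f IH (LK LD1_c19 LD2_c29 LD3_c61) (LK LD1_c10 LD2_c46 LD3_c50) Lrfl Lrfl
theorem f286511 : Led Lsl_ef (LP (LK LD1_c19 LD2_c29 LD3_c61)) = (LP (LK LD1_c20 LD2_c59 LD3_c57)) :=
  Lgr Lrot21 (Lpr_ft (f286510 IH) (Lpr_et (f286509 IH) (Lpe (f286202 IH) (Lpr_et (f275032 IH) (Lpr_ft (f286502 IH) (Lpn (LP (LK LD1_c20 LD2_c59 LD3_c57))))))))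
theorem f286515 : Led Lsl_at (LP (LK LD1_c19 LD2_c29 LD3_c61)) = (LP (LK LD1_c28 LD2_c52 LD3_c16)) :=
  Lre_a IH (LK LD1_c19 LD2_c29 LD3_c61) (LK LD1_c28 LD2_c52 LD3_c16) Lrfl Lrfl
theorem f261586 : Led Lsl_at (LP (LK LD1_c29 LD2_c48 LD3_c13)) = (LP (LK LD1_c20 LD2_c59 LD3_c57)) :=
  Lre_a IH (LK LD1_c29 LD2_c48 LD3_c13) (LK LD1_c20 LD2_c59 LD3_c57) Lrfl Lrfl
theorem f286516 : Led Lsl_et (LP (LK LD1_c28 LD2_c52 LD3_c16)) = (LP (LK LD1_c29 LD2_c48 LD3_c13)) :=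
  Lgr Lrot123 (Lpe (f286515 IH) (Lpr_ef (f286511 IH) (Lpe (f261586 IH) (Lpn (LP (LK LD1_c29 LD2_c48 LD3_c13))))))
theorem f286523 : Led Lsl_ft (LP (LK LD1_c19 LD2_c29 LD3_c53)) = (LP (LK LD1_c28 LD2_c52 LD3_c16)) :=
  Lre_f IH (LK LD1_c19 LD2_c29 LD3_c53) (LK LD1_c28 LD2_c52 LD3_c16) Lrfl Lrfl
theorem f286524 : Led Lsl_et (LP (LK LD1_c10 LD2_c46 LD3_c48)) = (LP (LK LD1_c19 LD2_c29 LD3_c53)) :=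
  Lre_e IH (LK LD1_c10 LD2_c46 LD3_c48) (LK LD1_c19 LD2_c29 LD3_c53) Lrfl Lrfl
theorem f286525 : Led Lsl_ff (LP (LK LD1_c10 LD2_c46 LD3_c48)) = (LP (LK LD1_c16 LD2_c44 LD3_c17)) :=
  Lgr Lrot72 (Lpr_et (f286524 IH) (Lpr_ft (f286523 IH) (Lpr_et (f286516 IH) (Lpe (f286507 IH) (Lpr_et (f275052 IH) (Lpn (LP (LK LD1_c16 LD2_c44 LD3_c17))))))))
theorem f286531 : Led Lsl_ft (LP (LK LD1_c10 LD2_c46 LD3_c48)) = (LP (LK LD1_c16 LD2_c44 LD3_c17)) :=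
  Lgr Lrot48 (Lpr_ff (f286525 IH) (Lpn (LP (LK LD1_c16 LD2_c44 LD3_c17))))
theorem f213788 : Led Lsl_bt (LP (LK LD1_c4 LD2_c29 LD3_c8)) = (LP (LK LD1_c8 LD2_c56 LD3_c31)) :=
  Lre_b IH (LK LD1_c4 LD2_c29 LD3_c8) (LK LD1_c8 LD2_c56 LD3_c31) Lrfl Lrfl
theorem f247312 : Led Lsl_at (LP (LK LD1_c8 LD2_c56 LD3_c31)) = (LP (LK LD1_c16 LD2_c44 LD3_c22)) :=
  Lre_a IH (LK LD1_c8 LD2_c56 LD3_c31) (LK LD1_c16 LD2_c44 LD3_c22) Lrfl Lrfl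
theorem f245093 : Led Lsl_bt (LP (LK LD1_c5 LD2_c27 LD3_c50)) = (LP (LK LD1_c2 LD2_c40 LD3_c16)) :=
  Lre_b IH (LK LD1_c5 LD2_c27 LD3_c50) (LK LD1_c2 LD2_c40 LD3_c16) Lrfl Lrfl
theorem f286193 : Led Lsl_at (LP (LK LD1_c10 LD2_c46 LD3_c48)) = (LP (LK LD1_c5 LD2_c27 LD3_c50)) :=
  Lre_a IH (LK LD1_c10 LD2_c46 LD3_c48) (LK LD1_c5 LD2_c27 LD3_c50) Lrfl Lrfl
theorem f286194 : Led Lsl_bt (LP (LK LD1_c16 LD2_c44 LD3_c22)) = (LP (LK LD1_c10 LD2_c46 LD3_c48)) :=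
  Lgr Lrot62 (Lpe (f247312 IH) (Lpe (f213788 IH) (Lpr_af (f286189 IH) (Lpe (f245093 IH) (Lpe (f286193 IH) (Lpn (LP (LK LD1_c10 LD2_c46 LD3_c48))))))))
theorem f286581 : Led Lsl_ff (LP (LK LD1_c16 LD2_c44 LD3_c22)) = (LP (LK LD1_c10 LD2_c46 LD3_c56)) :=
  Lgr Lrot25 (Lpr_bt (f286194 IH) (Lpr_ft (f286531 IH) (Lpr_bt (f286577 IH) (Lpn (LP (LK LD1_c10 LD2_c46 LD3_c56))))))
theorem f286589 : Led Lsl_ft (LP (LK LD1_c16 LD2_c44 LD3_c22)) = (LP (LK LD1_c10 LD2_c46 LD3_c56)) :=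
  Lgr Lrot48 (Lpr_ff (f286581 IH) (Lpn (LP (LK LD1_c10 LD2_c46 LD3_c56))))
theorem f247294 : Led Lsl_at (LP (LK LD1_c8 LD2_c9 LD3_c35)) = (LP (LK LD1_c15 LD2_c22 LD3_c12)) :=
  Lre_a IH (LK LD1_c8 LD2_c9 LD3_c35) (LK LD1_c15 LD2_c22 LD3_c12) Lrfl Lrfl
theorem f247295 : Led Lsl_at (LP (LK LD1_c16 LD2_c44 LD3_c22)) = (LP (LK LD1_c8 LD2_c56 LD3_c31)) :=
  Lre_a IH (LK LD1_c16 LD2_c44 LD3_c22) (LK LD1_c8 LD2_c56 LD3_c31) Lrfl Lrfl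
theorem f247296 : Led Lsl_ct (LP (LK LD1_c15 LD2_c22 LD3_c12)) = (LP (LK LD1_c16 LD2_c44 LD3_c22)) :=
  Lgr Lrot111 (Lpe (f247294 IH) (Lpr_cf (K14.f247281 IH) (Lpe (f247295 IH) (Lpn (LP (LK LD1_c16 LD2_c44 LD3_c22))))))
theorem f244624 : Led Lsl_ct (LP (LK LD1_c10 LD2_c46 LD3_c56)) = (LP (LK LD1_c11 LD2_c8 LD3_c41)) :=
  Lre_c IH (LK LD1_c10 LD2_c46 LD3_c56) (LK LD1_c11 LD2_c8 LD3_c41) Lrfl Lrfl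
theorem f286595 : Led Lsl_ff (LP (LK LD1_c15 LD2_c22 LD3_c12)) = (LP (LK LD1_c11 LD2_c8 LD3_c41)) :=
  Lgr Lrot23 (Lpr_ct (f247296 IH) (Lpr_ft (f286589 IH) (Lpr_ct (f244624 IH) (Lpn (LP (LK LD1_c11 LD2_c8 LD3_c41))))))
theorem f286636 : Led Lsl_et (LP (LK LD1_c15 LD2_c22 LD3_c12)) = (LP (LK LD1_c25 LD2_c13 LD3_c52)) :=
  Lre_e IH (LK LD1_c15 LD2_c22 LD3_c12) (LK LD1_c25 LD2_c13 LD3_c52) Lrfl Lrfl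
theorem f286637 : Led Lsl_ft (LP (LK LD1_c25 LD2_c13 LD3_c52)) = (LP (LK LD1_c31 LD2_c49 LD3_c14)) :=
  Lre_f IH (LK LD1_c25 LD2_c13 LD3_c52) (LK LD1_c31 LD2_c49 LD3_c14) Lrfl Lrfl
theorem f244628 : Led Lsl_et (LP (LK LD1_c20 LD2_c2 LD3_c14)) = (LP (LK LD1_c11 LD2_c8 LD3_c41)) :=
  Lre_e IH (LK LD1_c20 LD2_c2 LD3_c14) (LK LD1_c11 LD2_c8 LD3_c41) Lrfl Lrfl
theorem f286638 : Led Lsl_ft (LP (LK LD1_c29 LD2_c15 LD3_c34)) = (LP (LK LD1_c20 LD2_c2 LD3_c14)) :=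
  Lre_f IH (LK LD1_c29 LD2_c15 LD3_c34) (LK LD1_c20 LD2_c2 LD3_c14) Lrfl Lrfl
theorem f286639 : Led Lsl_et (LP (LK LD1_c31 LD2_c49 LD3_c14)) = (LP (LK LD1_c29 LD2_c15 LD3_c34)) :=
  Lgr Lrot69 (Lpe (f286637 IH) (Lpe (f286636 IH) (Lpr_ff (f286595 IH) (Lpe (f244628 IH) (Lpe (f286638 IH) (Lpn (LP (LK LD1_c29 LD2_c15 LD3_c34))))))))
theorem f286649 : Led Lsl_ef (LP (LK LD1_c31 LD2_c49 LD3_c14)) = (LP (LK LD1_c29 LD2_c15 LD3_c34)) :=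
  Lgr Lrot88 (Lpr_et (f286639 IH) (Lpn (LP (LK LD1_c29 LD2_c15 LD3_c34))))
theorem f286651 : Led Lsl_at (LP (LK LD1_c31 LD2_c49 LD3_c14)) = (LP (LK LD1_c25 LD2_c13 LD3_c56)) :=
  Lre_a IH (LK LD1_c31 LD2_c49 LD3_c14) (LK LD1_c25 LD2_c13 LD3_c56) Lrfl Lrfl
theorem f286652 : Led Lsl_at (LP (LK LD1_c20 LD2_c2 LD3_c18)) = (LP (LK LD1_c29 LD2_c15 LD3_c34)) :=
  Lre_a IH (LK LD1_c20 LD2_c2 LD3_c18) (LK LD1_c29 LD2_c15 LD3_c34) Lrfl Lrfl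
theorem f286653 : Led Lsl_et (LP (LK LD1_c25 LD2_c13 LD3_c56)) = (LP (LK LD1_c20 LD2_c2 LD3_c18)) :=
  Lgr Lrot123 (Lpe (f286651 IH) (Lpr_ef (f286649 IH) (Lpe (f286652 IH) (Lpn (LP (LK LD1_c20 LD2_c2 LD3_c18))))))
theorem f286668 : Led Lsl_ft (LP (LK LD1_c15 LD2_c22 LD3_c13)) = (LP (LK LD1_c25 LD2_c13 LD3_c56)) :=
  Lre_f IH (LK LD1_c15 LD2_c22 LD3_c13) (LK LD1_c25 LD2_c13 LD3_c56) Lrfl Lrfl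
theorem f286669 : Led Lsl_ft (LP (LK LD1_c20 LD2_c2 LD3_c18)) = (LP (LK LD1_c11 LD2_c8 LD3_c42)) :=
  Lre_f IH (LK LD1_c20 LD2_c2 LD3_c18) (LK LD1_c11 LD2_c8 LD3_c42) Lrfl Lrfl
theorem f244651 : Led Lsl_et (LP (LK LD1_c11 LD2_c8 LD3_c42)) = (LP (LK LD1_c5 LD2_c38 LD3_c54)) :=
  Lre_e IH (LK LD1_c11 LD2_c8 LD3_c42) (LK LD1_c5 LD2_c38 LD3_c54) Lrfl Lrfl
theorem f286670 : Led Lsl_ff (LP (LK LD1_c8 LD2_c9 LD3_c35)) = (LP (LK LD1_c5 LD2_c38 LD3_c54)) :=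
  Lgr Lrot72 (Lpr_et (K14.f247279 IH) (Lpr_ft (f286668 IH) (Lpr_et (f286653 IH) (Lpr_ft (f286669 IH) (Lpr_et (f244651 IH) (Lpn (LP (LK LD1_c5 LD2_c38 LD3_c54))))))))
theorem f226986 : Led Lsl_bt (LP (LK LD1_c5 LD2_c38 LD3_c58)) = (LP (LK LD1_c2 LD2_c45 LD3_c27)) :=
  Lre_b IH (LK LD1_c5 LD2_c38 LD3_c58) (LK LD1_c2 LD2_c45 LD3_c27) Lrfl Lrfl
theorem f238496 : Led Lsl_dt (LP (LK LD1_c8 LD2_c9 LD3_c35)) = (LP (LK LD1_c5 LD2_c38 LD3_c58)) :=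
  Lgr Lrot79 (Lpe (K14.f223683 IH) (Lpr_df (K13.f238331 IH) (Lpe (f226986 IH) (Lpn (LP (LK LD1_c5 LD2_c38 LD3_c58))))))
theorem f201001 : Led Lsl_dt (LP (LK LD1_c5 LD2_c38 LD3_c55)) = (LP (LK LD1_c11 LD2_c8 LD3_c45)) :=
  Lre_d IH (LK LD1_c5 LD2_c38 LD3_c55) (LK LD1_c11 LD2_c8 LD3_c45) Lrfl Lrfl
theorem f244046 : Led Lsl_et (LP (LK LD1_c8 LD2_c9 LD3_c42)) = (LP (LK LD1_c4 LD2_c4 LD3_c23)) :=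
  Lre_e IH (LK LD1_c8 LD2_c9 LD3_c42) (LK LD1_c4 LD2_c4 LD3_c23) Lrfl Lrfl
theorem f244440 : Led Lsl_dt (LP (LK LD1_c15 LD2_c22 LD3_c26)) = (LP (LK LD1_c8 LD2_c9 LD3_c42)) :=
  Lre_d IH (LK LD1_c15 LD2_c22 LD3_c26) (LK LD1_c8 LD2_c9 LD3_c42) Lrfl Lrfl
theorem f244441 : Led Lsl_et (LP (LK LD1_c11 LD2_c8 LD3_c45)) = (LP (LK LD1_c15 LD2_c22 LD3_c26)) :=
  Lgr Lrot71 (Lpe (f201001 IH) (Lpe (K16.f244050 IH) (Lpr_df (K15.f243709 IH) (Lpe (f244046 IH) (Lpe (f244440 IH) (Lpn (LP (LK LD1_c15 LD2_c22 LD3_c26))))))))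
theorem f244485 : Led Lsl_ef (LP (LK LD1_c11 LD2_c8 LD3_c45)) = (LP (LK LD1_c15 LD2_c22 LD3_c26)) :=
  Lgr Lrot88 (Lpr_et (f244441 IH) (Lpn (LP (LK LD1_c15 LD2_c22 LD3_c26))))
theorem f244501 : Led Lsl_bt (LP (LK LD1_c11 LD2_c8 LD3_c45)) = (LP (LK LD1_c20 LD2_c2 LD3_c17)) :=
  Lre_b IH (LK LD1_c11 LD2_c8 LD3_c45) (LK LD1_c20 LD2_c2 LD3_c17) Lrfl Lrfl
theorem f244502 : Led Lsl_bt (LP (LK LD1_c25 LD2_c14 LD3_c8)) = (LP (LK LD1_c15 LD2_c22 LD3_c26)) :=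
  Lre_b IH (LK LD1_c25 LD2_c14 LD3_c8) (LK LD1_c15 LD2_c22 LD3_c26) Lrfl Lrfl
theorem f244503 : Led Lsl_et (LP (LK LD1_c20 LD2_c2 LD3_c17)) = (LP (LK LD1_c25 LD2_c14 LD3_c8)) :=
  Lgr Lrot74 (Lpe (f244501 IH) (Lpr_ef (f244485 IH) (Lpe (f244502 IH) (Lpn (LP (LK LD1_c25 LD2_c14 LD3_c8))))))
theorem f244527 : Led Lsl_dt (LP (LK LD1_c11 LD2_c8 LD3_c42)) = (LP (LK LD1_c20 LD2_c2 LD3_c17)) :=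
  Lre_d IH (LK LD1_c11 LD2_c8 LD3_c42) (LK LD1_c20 LD2_c2 LD3_c17) Lrfl Lrfl
theorem f244528 : Led Lsl_et (LP (LK LD1_c5 LD2_c38 LD3_c54)) = (LP (LK LD1_c11 LD2_c8 LD3_c42)) :=
  Lre_e IH (LK LD1_c5 LD2_c38 LD3_c54) (LK LD1_c11 LD2_c8 LD3_c42) Lrfl Lrfl
theorem f244529 : Led Lsl_dt (LP (LK LD1_c25 LD2_c14 LD3_c8)) = (LP (LK LD1_c15 LD2_c22 LD3_c24)) :=
  Lre_d IH (LK LD1_c25 LD2_c14 LD3_c8) (LK LD1_c15 LD2_c22 LD3_c24) Lrfl Lrfl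
theorem f244530 : Led Lsl_et (LP (LK LD1_c15 LD2_c22 LD3_c24)) = (LP (LK LD1_c8 LD2_c9 LD3_c41)) :=
  Lre_e IH (LK LD1_c15 LD2_c22 LD3_c24) (LK LD1_c8 LD2_c9 LD3_c41) Lrfl Lrfl
theorem f244531 : Led Lsl_df (LP (LK LD1_c5 LD2_c38 LD3_c54)) = (LP (LK LD1_c8 LD2_c9 LD3_c41)) :=
  Lgr Lrot70 (Lpr_et (f244528 IH) (Lpr_dt (f244527 IH) (Lpr_et (f244503 IH) (Lpr_dt (f244529 IH) (Lpr_et (f244530 IH) (Lpn (LP (LK LD1_c8 LD2_c9 LD3_c41))))))))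
theorem f286674 : Led Lsl_ft (LP (LK LD1_c5 LD2_c38 LD3_c58)) = (LP (LK LD1_c8 LD2_c9 LD3_c41)) :=
  Lgr Lrot54 (Lpe (f238496 IH) (Lpr_ff (f286670 IH) (Lpr_df (f244531 IH) (Lpn (LP (LK LD1_c8 LD2_c9 LD3_c41))))))
theorem f286705 : Led Lsl_ff (LP (LK LD1_c5 LD2_c38 LD3_c58)) = (LP (LK LD1_c8 LD2_c9 LD3_c41)) :=
  Lgr Lrot3 (Lpr_ft (f286674 IH) (Lpn (LP (LK LD1_c8 LD2_c9 LD3_c41))))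
theorem f200425 : Led Lsl_bt (LP (LK LD1_c2 LD2_c45 LD3_c27)) = (LP (LK LD1_c5 LD2_c38 LD3_c58)) :=
  Lre_b IH (LK LD1_c2 LD2_c45 LD3_c27) (LK LD1_c5 LD2_c38 LD3_c58) Lrfl Lrfl
theorem f228415 : Led Lsl_bt (LP (LK LD1_c5 LD2_c22 LD3_c54)) = (LP (LK LD1_c2 LD2_c37 LD3_c60)) :=
  Lre_b IH (LK LD1_c5 LD2_c22 LD3_c54) (LK LD1_c2 LD2_c37 LD3_c60) Lrfl Lrfl
theorem f228416 : Led Lsl_ct (LP (LK LD1_c5 LD2_c38 LD3_c58)) = (LP (LK LD1_c5 LD2_c22 LD3_c54)) :=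
  Lgr Lrot83 (Lpe (f200425 IH) (Lpe (K12.f196937 IH) (Lpe (K12.f179309 IH) (Lpr_cf (K12.f228406 IH) (Lpe (f228415 IH) (Lpn (LP (LK LD1_c5 LD2_c22 LD3_c54))))))))
theorem f256929 : Led Lsl_et (LP (LK LD1_c4 LD2_c4 LD3_c22)) = (LP (LK LD1_c8 LD2_c9 LD3_c40)) :=
  Lre_e IH (LK LD1_c4 LD2_c4 LD3_c22) (LK LD1_c8 LD2_c9 LD3_c40) Lrfl Lrfl
theorem f224559 : Led Lsl_et (LP (LK LD1_c10 LD2_c30 LD3_c60)) = (LP (LK LD1_c5 LD2_c20 LD3_c29)) :=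
  Lre_e IH (LK LD1_c10 LD2_c30 LD3_c60) (LK LD1_c5 LD2_c20 LD3_c29) Lrfl Lrfl
theorem f256933 : Led Lsl_ct (LP (LK LD1_c8 LD2_c9 LD3_c40)) = (LP (LK LD1_c10 LD2_c30 LD3_c60)) :=
  Lgr Lrot15 (Lpe (f256929 IH) (Lpr_cf (K15.f256921 IH) (Lpe (f224559 IH) (Lpn (LP (LK LD1_c10 LD2_c30 LD3_c60))))))
theorem f256938 : Led Lsl_cf (LP (LK LD1_c8 LD2_c9 LD3_c40)) = (LP (LK LD1_c10 LD2_c30 LD3_c60)) :=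
  Lgr Lrot11 (Lpr_ct (f256933 IH) (Lpn (LP (LK LD1_c10 LD2_c30 LD3_c60))))
theorem f253136 : Led Lsl_bt (LP (LK LD1_c8 LD2_c9 LD3_c40)) = (LP (LK LD1_c4 LD2_c4 LD3_c24)) :=
  Lre_b IH (LK LD1_c8 LD2_c9 LD3_c40) (LK LD1_c4 LD2_c4 LD3_c24) Lrfl Lrfl
theorem f244459 : Led Lsl_ct (LP (LK LD1_c4 LD2_c4 LD3_c24)) = (LP (LK LD1_c8 LD2_c9 LD3_c42)) :=
  Lre_c IH (LK LD1_c4 LD2_c4 LD3_c24) (LK LD1_c8 LD2_c9 LD3_c42) Lrfl Lrfl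
theorem f253137 : Led Lsl_bt (LP (LK LD1_c8 LD2_c9 LD3_c42)) = (LP (LK LD1_c15 LD2_c22 LD3_c24)) :=
  Lre_b IH (LK LD1_c8 LD2_c9 LD3_c42) (LK LD1_c15 LD2_c22 LD3_c24) Lrfl Lrfl
theorem f256946 : Led Lsl_bt (LP (LK LD1_c19 LD2_c3 LD3_c36)) = (LP (LK LD1_c10 LD2_c30 LD3_c60)) :=
  Lre_b IH (LK LD1_c19 LD2_c3 LD3_c36) (LK LD1_c10 LD2_c30 LD3_c60) Lrfl Lrfl
theorem f256947 : Led Lsl_ct (LP (LK LD1_c15 LD2_c22 LD3_c24)) = (LP (LK LD1_c19 LD2_c3 LD3_c36)) :=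
  Lgr Lrot83 (Lpe (f253137 IH) (Lpe (f244459 IH) (Lpe (f253136 IH) (Lpr_cf (f256938 IH) (Lpe (f256946 IH) (Lpn (LP (LK LD1_c19 LD2_c3 LD3_c36))))))))
theorem f244552 : Led Lsl_et (LP (LK LD1_c8 LD2_c9 LD3_c41)) = (LP (LK LD1_c15 LD2_c22 LD3_c24)) :=
  Lre_e IH (LK LD1_c8 LD2_c9 LD3_c41) (LK LD1_c15 LD2_c22 LD3_c24) Lrfl Lrfl
theorem f256956 : Led Lsl_et (LP (LK LD1_c19 LD2_c3 LD3_c36)) = (LP (LK LD1_c10 LD2_c30 LD3_c59)) :=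
  Lre_e IH (LK LD1_c19 LD2_c3 LD3_c36) (LK LD1_c10 LD2_c30 LD3_c59) Lrfl Lrfl
theorem f256957 : Led Lsl_cf (LP (LK LD1_c8 LD2_c9 LD3_c41)) = (LP (LK LD1_c10 LD2_c30 LD3_c59)) :=
  Lgr Lrot39 (Lpr_et (f244552 IH) (Lpr_ct (f256947 IH) (Lpr_et (f256956 IH) (Lpn (LP (LK LD1_c10 LD2_c30 LD3_c59))))))
theorem f286711 : Led Lsl_ft (LP (LK LD1_c5 LD2_c22 LD3_c54)) = (LP (LK LD1_c10 LD2_c30 LD3_c59)) :=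
  Lgr Lrot4 (Lpe (f228416 IH) (Lpr_ff (f286705 IH) (Lpr_cf (f256957 IH) (Lpn (LP (LK LD1_c10 LD2_c30 LD3_c59))))))
theorem f228619 : Led Lsl_dt (LP (LK LD1_c10 LD2_c36 LD3_c8)) = (LP (LK LD1_c5 LD2_c22 LD3_c54)) :=
  Lre_d IH (LK LD1_c10 LD2_c36 LD3_c8) (LK LD1_c5 LD2_c22 LD3_c54) Lrfl Lrfl
theorem f277514 : Led Lsl_bt (LP (LK LD1_c10 LD2_c39 LD3_c19)) = (LP (LK LD1_c5 LD2_c24 LD3_c15)) :=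
  Lre_b IH (LK LD1_c10 LD2_c39 LD3_c19) (LK LD1_c5 LD2_c24 LD3_c15) Lrfl Lrfl
theorem f256925 : Led Lsl_bt (LP (LK LD1_c5 LD2_c20 LD3_c29)) = (LP (LK LD1_c10 LD2_c30 LD3_c59)) :=
  Lre_b IH (LK LD1_c5 LD2_c20 LD3_c29) (LK LD1_c10 LD2_c30 LD3_c59) Lrfl Lrfl
theorem f277515 : Led Lsl_df (LP (LK LD1_c10 LD2_c39 LD3_c19)) = (LP (LK LD1_c10 LD2_c30 LD3_c59)) :=
  Lgr Lrot12 (Lpr_bt (f277514 IH) (Lpr_dt (K16.f277503 IH) (Lpr_bt (f256925 IH) (Lpn (LP (LK LD1_c10 LD2_c30 LD3_c59))))))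
theorem f286790 : Led Lsl_ff (LP (LK LD1_c10 LD2_c36 LD3_c8)) = (LP (LK LD1_c10 LD2_c39 LD3_c19)) :=
  Lgr Lrot19 (Lpr_dt (f228619 IH) (Lpr_ft (f286711 IH) (Lpe (f277515 IH) (Lpn (LP (LK LD1_c10 LD2_c39 LD3_c19))))))
theorem f286803 : Led Lsl_ft (LP (LK LD1_c10 LD2_c36 LD3_c8)) = (LP (LK LD1_c10 LD2_c39 LD3_c19)) :=
  Lgr Lrot48 (Lpr_ff (f286790 IH) (Lpn (LP (LK LD1_c10 LD2_c39 LD3_c19))))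
theorem f264015 : Led Lsl_bt (LP (LK LD1_c5 LD2_c22 LD3_c55)) = (LP (LK LD1_c10 LD2_c36 LD3_c8)) :=
  Lre_b IH (LK LD1_c5 LD2_c22 LD3_c55) (LK LD1_c10 LD2_c36 LD3_c8) Lrfl Lrfl
theorem f286805 : Led Lsl_ff (LP (LK LD1_c5 LD2_c22 LD3_c55)) = (LP (LK LD1_c5 LD2_c24 LD3_c15)) :=
  Lgr Lrot25 (Lpr_bt (f264015 IH) (Lpr_ft (f286803 IH) (Lpr_bt (f277514 IH) (Lpn (LP (LK LD1_c5 LD2_c24 LD3_c15))))))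
theorem f286836 : Led Lsl_ft (LP (LK LD1_c9 LD2_c42 LD3_c12)) = (LP (LK LD1_c9 LD2_c41 LD3_c20)) :=
  Lgr Lrot4 (Lpr_cf (K15.f264016 IH) (Lpr_ff (f286805 IH) (Lpr_cf (K16.f277527 IH) (Lpn (LP (LK LD1_c9 LD2_c41 LD3_c20))))))
theorem f286841 : Led Lsl_ff (LP (LK LD1_c9 LD2_c42 LD3_c12)) = (LP (LK LD1_c9 LD2_c41 LD3_c20)) :=
  Lgr Lrot3 (Lpr_ft (f286836 IH) (Lpn (LP (LK LD1_c9 LD2_c41 LD3_c20))))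
theorem f286843 : Led Lsl_at (LP (LK LD1_c9 LD2_c42 LD3_c12)) = (LP (LK LD1_c9 LD2_c41 LD3_c23)) :=
  Lgr Lrot66 (Lpr_ff (f286841 IH) (Lpr_af (K16.f277694 IH) (Lpe (K16.f277628 IH) (Lpn (LP (LK LD1_c9 LD2_c41 LD3_c23))))))
theorem f274928 : Led Lsl_ct (LP (LK LD1_c4 LD2_c54 LD3_c56)) = (LP (LK LD1_c2 LD2_c37 LD3_c39)) :=
  Lgr Lrot59 (Lpr_cf (K16.f274921 IH) (Lpn (LP (LK LD1_c2 LD2_c37 LD3_c39))))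
theorem f258278 : Led Lsl_ct (LP (LK LD1_c2 LD2_c38 LD3_c41)) = (LP (LK LD1_c4 LD2_c12 LD3_c61)) :=
  Lgr Lrot59 (Lpr_cf (K15.f258255 IH) (Lpn (LP (LK LD1_c4 LD2_c12 LD3_c61))))
theorem f228683 : Led Lsl_dt (LP (LK LD1_c2 LD2_c44 LD3_c0)) = (LP (LK LD1_c5 LD2_c36 LD3_c13)) :=
  Lre_d IH (LK LD1_c2 LD2_c44 LD3_c0) (LK LD1_c5 LD2_c36 LD3_c13) Lrfl Lrfl
theorem f263979 : Led Lsl_cf (LP (LK LD1_c5 LD2_c24 LD3_c59)) = (LP (LK LD1_c5 LD2_c36 LD3_c13)) :=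
  Lgr Lrot55 (Lpr_dt (K15.f263940 IH) (Lpr_ct (K12.f221667 IH) (Lpe (K15.f258247 IH) (Lpr_ct (f258278 IH) (Lpr_dt (K14.f253930 IH) (Lpe (K14.f253917 IH) (Lpe (K14.f253926 IH) (Lpe (K14.f246495 IH) (Lpe (K14.f246567 IH) (Lpr_ct (K14.f179762 IH) (Lpr_dt (K12.f187026 IH) (Lpe (K12.f228808 IH) (Lpe (K14.f228810 IH) (Lpr_ct (K12.f177960 IH) (Lpr_dt (f228683 IH) (Lpn (LP (LK LD1_c5 LD2_c36 LD3_c13))))))))))))))))))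
theorem f178072 : Led Lsl_dt (LP (LK LD1_c5 LD2_c36 LD3_c13)) = (LP (LK LD1_c2 LD2_c44 LD3_c0)) :=
  Lre_d IH (LK LD1_c5 LD2_c36 LD3_c13) (LK LD1_c2 LD2_c44 LD3_c0) Lrfl Lrfl
theorem f277523 : Led Lsl_gt (LP (LK LD1_c4 LD2_c55 LD3_c38)) = (LP (LK LD1_c5 LD2_c36 LD3_c13)) :=
  Lgr Lrot94 (Lpe (K14.f218491 IH) (Lpr_gt (K16.f217633 IH) (Lpr_dt (K16.f277503 IH) (Lpr_gt (K15.f171897 IH) (Lpr_dt (K12.f171889 IH) (Lpr_cf (K12.f224652 IH) (Lpe (K12.f224719 IH) (Lpe (K12.f228733 IH) (Lpe (f178072 IH) (Lpn (LP (LK LD1_c5 LD2_c36 LD3_c13))))))))))))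
theorem f196821 : Led Lsl_gt (LP (LK LD1_c5 LD2_c24 LD3_c16)) = (LP (LK LD1_c2 LD2_c38 LD3_c39)) :=
  Lre_g IH (LK LD1_c5 LD2_c24 LD3_c16) (LK LD1_c2 LD2_c38 LD3_c39) Lrfl Lrfl
theorem f277835 : Led Lsl_dt (LP (LK LD1_c5 LD2_c20 LD3_c28)) = (LP (LK LD1_c5 LD2_c24 LD3_c16)) :=
  Lgr Lrot6 (Lpr_gt (K16.f277833 IH) (Lpr_ct (K12.f169163 IH) (Lpr_gt (K12.f221676 IH) (Lpr_ct (K12.f221670 IH) (Lpe (K15.f263940 IH) (Lpr_cf (f263979 IH) (Lpe (f277523 IH) (Lpe (K14.f218491 IH) (Lpe (f196821 IH) (Lpn (LP (LK LD1_c5 LD2_c24 LD3_c16))))))))))))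
theorem f286850 : Led Lsl_cf (LP (LK LD1_c9 LD2_c41 LD3_c23)) = (LP (LK LD1_c5 LD2_c24 LD3_c16)) :=
  Lgr Lrot102 (Lpe (f286843 IH) (Lpr_ff (f286841 IH) (Lpr_dt (K16.f274937 IH) (Lpr_ct (f274928 IH) (Lpr_dt (K12.f220632 IH) (Lpr_ct (K12.f220617 IH) (Lpe (K12.f220615 IH) (Lpe (K16.f277829 IH) (Lpr_dt (f277835 IH) (Lpn (LP (LK LD1_c5 LD2_c24 LD3_c16))))))))))))
theorem f286856 : Led Lsl_ft (LP (LK LD1_c5 LD2_c22 LD3_c59)) = (LP (LK LD1_c5 LD2_c24 LD3_c16)) :=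
  Lgr Lrot4 (Lpr_cf (K16.f277631 IH) (Lpe (K16.f277628 IH) (Lpr_cf (f286850 IH) (Lpn (LP (LK LD1_c5 LD2_c24 LD3_c16))))))
theorem f286878 : Led Lsl_ff (LP (LK LD1_c5 LD2_c22 LD3_c59)) = (LP (LK LD1_c5 LD2_c24 LD3_c16)) :=
  Lgr Lrot3 (Lpr_ft (f286856 IH) (Lpn (LP (LK LD1_c5 LD2_c24 LD3_c16))))
theorem f277633 : Led Lsl_bt (LP (LK LD1_c5 LD2_c22 LD3_c59)) = (LP (LK LD1_c10 LD2_c36 LD3_c16)) :=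
  Lre_b IH (LK LD1_c5 LD2_c22 LD3_c59) (LK LD1_c10 LD2_c36 LD3_c16) Lrfl Lrfl
theorem f196822 : Led Lsl_bt (LP (LK LD1_c10 LD2_c39 LD3_c21)) = (LP (LK LD1_c5 LD2_c24 LD3_c16)) :=
  Lre_b IH (LK LD1_c10 LD2_c39 LD3_c21) (LK LD1_c5 LD2_c24 LD3_c16) Lrfl Lrfl
theorem f286882 : Led Lsl_ft (LP (LK LD1_c10 LD2_c36 LD3_c16)) = (LP (LK LD1_c10 LD2_c39 LD3_c21)) :=
  Lgr Lrot75 (Lpe (f277633 IH) (Lpr_ff (f286878 IH) (Lpe (f196822 IH) (Lpn (LP (LK LD1_c10 LD2_c39 LD3_c21))))))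
theorem f275092 : Led Lsl_dt (LP (LK LD1_c5 LD2_c22 LD3_c57)) = (LP (LK LD1_c10 LD2_c36 LD3_c16)) :=
  Lre_d IH (LK LD1_c5 LD2_c22 LD3_c57) (LK LD1_c10 LD2_c36 LD3_c16) Lrfl Lrfl
theorem f252135 : Led Lsl_bt (LP (LK LD1_c5 LD2_c20 LD3_c28)) = (LP (LK LD1_c10 LD2_c30 LD3_c57)) :=
  Lre_b IH (LK LD1_c5 LD2_c20 LD3_c28) (LK LD1_c10 LD2_c30 LD3_c57) Lrfl Lrfl
theorem f217677 : Led Lsl_bt (LP (LK LD1_c5 LD2_c22 LD3_c57)) = (LP (LK LD1_c2 LD2_c37 LD3_c61)) :=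
  Lre_b IH (LK LD1_c5 LD2_c22 LD3_c57) (LK LD1_c2 LD2_c37 LD3_c61) Lrfl Lrfl
theorem f277818 : Led Lsl_ft (LP (LK LD1_c10 LD2_c30 LD3_c57)) = (LP (LK LD1_c5 LD2_c22 LD3_c57)) :=
  Lgr Lrot75 (Lpe (f252135 IH) (Lpr_ff (K16.f277812 IH) (Lpe (f217677 IH) (Lpn (LP (LK LD1_c5 LD2_c22 LD3_c57))))))
theorem f286890 : Led Lsl_df (LP (LK LD1_c10 LD2_c30 LD3_c57)) = (LP (LK LD1_c10 LD2_c39 LD3_c21)) :=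
  Lgr Lrot78 (Lpr_ft (f277818 IH) (Lpr_dt (f275092 IH) (Lpr_ft (f286882 IH) (Lpn (LP (LK LD1_c10 LD2_c39 LD3_c21))))))
theorem f286896 : Led Lsl_at (LP (LK LD1_c10 LD2_c30 LD3_c57)) = (LP (LK LD1_c19 LD2_c3 LD3_c29)) :=
  Lre_a IH (LK LD1_c10 LD2_c30 LD3_c57) (LK LD1_c19 LD2_c3 LD3_c29) Lrfl Lrfl
theorem f286897 : Led Lsl_at (LP (LK LD1_c19 LD2_c18 LD3_c2)) = (LP (LK LD1_c10 LD2_c39 LD3_c21)) :=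
  Lre_a IH (LK LD1_c19 LD2_c18 LD3_c2) (LK LD1_c10 LD2_c39 LD3_c21) Lrfl Lrfl
theorem f286898 : Led Lsl_dt (LP (LK LD1_c19 LD2_c3 LD3_c29)) = (LP (LK LD1_c19 LD2_c18 LD3_c2)) :=
  Lgr Lrot44 (Lpe (f286896 IH) (Lpr_df (f286890 IH) (Lpe (f286897 IH) (Lpn (LP (LK LD1_c19 LD2_c18 LD3_c2))))))
theorem f286884 : Led Lsl_at (LP (LK LD1_c19 LD2_c12 LD3_c19)) = (LP (LK LD1_c10 LD2_c36 LD3_c16)) :=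
  Lre_a IH (LK LD1_c19 LD2_c12 LD3_c19) (LK LD1_c10 LD2_c36 LD3_c16) Lrfl Lrfl
theorem f286885 : Led Lsl_at (LP (LK LD1_c10 LD2_c39 LD3_c21)) = (LP (LK LD1_c19 LD2_c18 LD3_c2)) :=
  Lre_a IH (LK LD1_c10 LD2_c39 LD3_c21) (LK LD1_c19 LD2_c18 LD3_c2) Lrfl Lrfl
theorem f286886 : Led Lsl_ff (LP (LK LD1_c19 LD2_c12 LD3_c19)) = (LP (LK LD1_c19 LD2_c18 LD3_c2)) :=
  Lgr Lrot30 (Lpr_at (f286884 IH) (Lpr_ft (f286882 IH) (Lpr_at (f286885 IH) (Lpn (LP (LK LD1_c19 LD2_c18 LD3_c2))))))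
theorem f275065 : Led Lsl_dt (LP (LK LD1_c19 LD2_c12 LD3_c19)) = (LP (LK LD1_c10 LD2_c36 LD3_c15)) :=
  Lre_d IH (LK LD1_c19 LD2_c12 LD3_c19) (LK LD1_c10 LD2_c36 LD3_c15) Lrfl Lrfl
theorem f286921 : Led Lsl_ff (LP (LK LD1_c19 LD2_c3 LD3_c29)) = (LP (LK LD1_c10 LD2_c36 LD3_c15)) :=
  Lgr Lrot19 (Lpr_dt (f286898 IH) (Lpe (f286886 IH) (Lpr_dt (f275065 IH) (Lpn (LP (LK LD1_c10 LD2_c36 LD3_c15))))))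
theorem f286926 : Led Lsl_ft (LP (LK LD1_c19 LD2_c3 LD3_c29)) = (LP (LK LD1_c10 LD2_c36 LD3_c15)) :=
  Lgr Lrot48 (Lpr_ff (f286921 IH) (Lpn (LP (LK LD1_c10 LD2_c36 LD3_c15))))
theorem f275024 : Led Lsl_at (LP (LK LD1_c10 LD2_c36 LD3_c17)) = (LP (LK LD1_c19 LD2_c12 LD3_c20)) :=
  Lre_a IH (LK LD1_c10 LD2_c36 LD3_c17) (LK LD1_c19 LD2_c12 LD3_c20) Lrfl Lrfl
theorem f275025 : Led Lsl_cf (LP (LK LD1_c26 LD2_c43 LD3_c6)) = (LP (LK LD1_c19 LD2_c12 LD3_c20)) :=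
  Lgr Lrot1 (Lpr_at (f275015 IH) (Lpr_ct (K16.f275008 IH) (Lpr_at (f275024 IH) (Lpn (LP (LK LD1_c19 LD2_c12 LD3_c20))))))
theorem f275053 : Led Lsl_et (LP (LK LD1_c10 LD2_c36 LD3_c15)) = (LP (LK LD1_c19 LD2_c12 LD3_c20)) :=
  Lre_e IH (LK LD1_c10 LD2_c36 LD3_c15) (LK LD1_c19 LD2_c12 LD3_c20) Lrfl Lrfl
theorem f275054 : Led Lsl_ct (LP (LK LD1_c16 LD2_c44 LD3_c17)) = (LP (LK LD1_c10 LD2_c36 LD3_c15)) :=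
  Lgr Lrot15 (Lpe (f275052 IH) (Lpr_cf (f275025 IH) (Lpe (f275053 IH) (Lpn (LP (LK LD1_c10 LD2_c36 LD3_c15))))))
theorem f275059 : Led Lsl_cf (LP (LK LD1_c16 LD2_c44 LD3_c17)) = (LP (LK LD1_c10 LD2_c36 LD3_c15)) :=
  Lgr Lrot11 (Lpr_ct (f275054 IH) (Lpn (LP (LK LD1_c10 LD2_c36 LD3_c15))))
theorem f286933 : Led Lsl_cf (LP (LK LD1_c19 LD2_c3 LD3_c29)) = (LP (LK LD1_c10 LD2_c46 LD3_c48)) :=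
  Lgr Lrot108 (Lpr_ft (f286926 IH) (Lpe (f275059 IH) (Lpe (f286525 IH) (Lpn (LP (LK LD1_c10 LD2_c46 LD3_c48))))))
theorem f286918 : Led Lsl_et (LP (LK LD1_c19 LD2_c3 LD3_c29)) = (LP (LK LD1_c28 LD2_c29 LD3_c41)) :=
  Lre_e IH (LK LD1_c19 LD2_c3 LD3_c29) (LK LD1_c28 LD2_c29 LD3_c41) Lrfl Lrfl
theorem f286540 : Led Lsl_et (LP (LK LD1_c19 LD2_c29 LD3_c53)) = (LP (LK LD1_c10 LD2_c46 LD3_c48)) :=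
  Lre_e IH (LK LD1_c19 LD2_c29 LD3_c53) (LK LD1_c10 LD2_c46 LD3_c48) Lrfl Lrfl
theorem f286952 : Led Lsl_ct (LP (LK LD1_c28 LD2_c29 LD3_c41)) = (LP (LK LD1_c19 LD2_c29 LD3_c53)) :=
  Lgr Lrot15 (Lpe (f286918 IH) (Lpr_cf (f286933 IH) (Lpe (f286540 IH) (Lpn (LP (LK LD1_c19 LD2_c29 LD3_c53))))))
theorem f286957 : Led Lsl_cf (LP (LK LD1_c28 LD2_c29 LD3_c41)) = (LP (LK LD1_c19 LD2_c29 LD3_c53)) :=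
  Lgr Lrot11 (Lpr_ct (f286952 IH) (Lpn (LP (LK LD1_c19 LD2_c29 LD3_c53))))
theorem f286960 : Led Lsl_at (LP (LK LD1_c28 LD2_c29 LD3_c41)) = (LP (LK LD1_c19 LD2_c3 LD3_c30)) :=
  Lre_a IH (LK LD1_c28 LD2_c29 LD3_c41) (LK LD1_c19 LD2_c3 LD3_c30) Lrfl Lrfl
theorem f286184 : Led Lsl_at (LP (LK LD1_c10 LD2_c46 LD3_c50)) = (LP (LK LD1_c19 LD2_c29 LD3_c53)) :=
  Lre_a IH (LK LD1_c10 LD2_c46 LD3_c50) (LK LD1_c19 LD2_c29 LD3_c53) Lrfl Lrfl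
theorem f286961 : Led Lsl_ct (LP (LK LD1_c19 LD2_c3 LD3_c30)) = (LP (LK LD1_c10 LD2_c46 LD3_c50)) :=
  Lgr Lrot111 (Lpe (f286960 IH) (Lpr_cf (f286957 IH) (Lpe (f286184 IH) (Lpn (LP (LK LD1_c10 LD2_c46 LD3_c50))))))
theorem f286964 : Led Lsl_bt (LP (LK LD1_c10 LD2_c30 LD3_c58)) = (LP (LK LD1_c19 LD2_c3 LD3_c30)) :=
  Lre_b IH (LK LD1_c10 LD2_c30 LD3_c58) (LK LD1_c19 LD2_c3 LD3_c30) Lrfl Lrfl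
theorem f245163 : Led Lsl_bt (LP (LK LD1_c10 LD2_c46 LD3_c50)) = (LP (LK LD1_c5 LD2_c27 LD3_c52)) :=
  Lre_b IH (LK LD1_c10 LD2_c46 LD3_c50) (LK LD1_c5 LD2_c27 LD3_c52) Lrfl Lrfl
theorem f220630 : Led Lsl_et (LP (LK LD1_c9 LD2_c41 LD3_c7)) = (LP (LK LD1_c4 LD2_c54 LD3_c49)) :=
  Lre_e IH (LK LD1_c9 LD2_c41 LD3_c7) (LK LD1_c4 LD2_c54 LD3_c49) Lrfl Lrfl
theorem f277894 : Led Lsl_bf (LP (LK LD1_c9 LD2_c41 LD3_c7)) = (LP (LK LD1_c8 LD2_c26 LD3_c34)) :=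
  Lgr Lrot96 (Lpr_et (f220630 IH) (Lpr_bt (K16.f277839 IH) (Lpr_et (K16.f245191 IH) (Lpn (LP (LK LD1_c8 LD2_c26 LD3_c34))))))
theorem f286965 : Led Lsl_cf (LP (LK LD1_c10 LD2_c30 LD3_c58)) = (LP (LK LD1_c9 LD2_c41 LD3_c7)) :=
  Lgr Lrot97 (Lpr_bt (f286964 IH) (Lpr_ct (f286961 IH) (Lpr_bt (f245163 IH) (Lpr_ct (f245139 IH) (Lpe (f277894 IH) (Lpn (LP (LK LD1_c9 LD2_c41 LD3_c7))))))))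
theorem f277821 : Led Lsl_ft (LP (LK LD1_c10 LD2_c30 LD3_c58)) = (LP (LK LD1_c19 LD2_c3 LD3_c32)) :=
  Lre_f IH (LK LD1_c10 LD2_c30 LD3_c58) (LK LD1_c19 LD2_c3 LD3_c32) Lrfl Lrfl
theorem f220627 : Led Lsl_ft (LP (LK LD1_c17 LD2_c48 LD3_c55)) = (LP (LK LD1_c9 LD2_c41 LD3_c7)) :=
  Lre_f IH (LK LD1_c17 LD2_c48 LD3_c55) (LK LD1_c9 LD2_c41 LD3_c7) Lrfl Lrfl
theorem f286985 : Led Lsl_ct (LP (LK LD1_c19 LD2_c3 LD3_c32)) = (LP (LK LD1_c17 LD2_c48 LD3_c55)) :=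
  Lgr Lrot40 (Lpe (f277821 IH) (Lpr_cf (f286965 IH) (Lpe (f220627 IH) (Lpn (LP (LK LD1_c17 LD2_c48 LD3_c55))))))
theorem f286989 : Led Lsl_cf (LP (LK LD1_c19 LD2_c3 LD3_c32)) = (LP (LK LD1_c17 LD2_c48 LD3_c55)) :=
  Lgr Lrot11 (Lpr_ct (f286985 IH) (Lpn (LP (LK LD1_c17 LD2_c48 LD3_c55))))
theorem f286981 : Led Lsl_bt (LP (LK LD1_c19 LD2_c3 LD3_c32)) = (LP (LK LD1_c28 LD2_c29 LD3_c44)) :=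
  Lre_b IH (LK LD1_c19 LD2_c3 LD3_c32) (LK LD1_c28 LD2_c29 LD3_c44) Lrfl Lrfl
theorem f286963 : Led Lsl_ft (LP (LK LD1_c28 LD2_c29 LD3_c44)) = (LP (LK LD1_c19 LD2_c3 LD3_c30)) :=
  Lre_f IH (LK LD1_c28 LD2_c29 LD3_c44) (LK LD1_c19 LD2_c3 LD3_c30) Lrfl Lrfl
theorem f286499 : Led Lsl_ft (LP (LK LD1_c10 LD2_c46 LD3_c50)) = (LP (LK LD1_c19 LD2_c29 LD3_c61)) :=
  Lre_f IH (LK LD1_c10 LD2_c46 LD3_c50) (LK LD1_c19 LD2_c29 LD3_c61) Lrfl Lrfl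
theorem f286969 : Led Lsl_cf (LP (LK LD1_c28 LD2_c29 LD3_c44)) = (LP (LK LD1_c19 LD2_c29 LD3_c61)) :=
  Lgr Lrot108 (Lpr_ft (f286963 IH) (Lpr_ct (f286961 IH) (Lpr_ft (f286499 IH) (Lpn (LP (LK LD1_c19 LD2_c29 LD3_c61))))))
theorem f286977 : Led Lsl_ct (LP (LK LD1_c28 LD2_c29 LD3_c44)) = (LP (LK LD1_c19 LD2_c29 LD3_c61)) :=
  Lgr Lrot59 (Lpr_cf (f286969 IH) (Lpn (LP (LK LD1_c19 LD2_c29 LD3_c61))))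
theorem f245186 : Led Lsl_bt (LP (LK LD1_c19 LD2_c29 LD3_c61)) = (LP (LK LD1_c10 LD2_c46 LD3_c53)) :=
  Lre_b IH (LK LD1_c19 LD2_c29 LD3_c61) (LK LD1_c10 LD2_c46 LD3_c53) Lrfl Lrfl
theorem f245166 : Led Lsl_ft (LP (LK LD1_c10 LD2_c46 LD3_c53)) = (LP (LK LD1_c5 LD2_c27 LD3_c52)) :=
  Lre_f IH (LK LD1_c10 LD2_c46 LD3_c53) (LK LD1_c5 LD2_c27 LD3_c52) Lrfl Lrfl
theorem f245168 : Led Lsl_cf (LP (LK LD1_c10 LD2_c46 LD3_c53)) = (LP (LK LD1_c15 LD2_c51 LD3_c22)) :=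
  Lgr Lrot108 (Lpr_ft (f245166 IH) (Lpr_ct (f245139 IH) (Lpr_ft (f245167 IH) (Lpn (LP (LK LD1_c15 LD2_c51 LD3_c22))))))
theorem f245179 : Led Lsl_ct (LP (LK LD1_c10 LD2_c46 LD3_c53)) = (LP (LK LD1_c15 LD2_c51 LD3_c22)) :=
  Lgr Lrot59 (Lpr_cf (f245168 IH) (Lpn (LP (LK LD1_c15 LD2_c51 LD3_c22))))
theorem f286991 : Led Lsl_bt (LP (LK LD1_c15 LD2_c51 LD3_c22)) = (LP (LK LD1_c17 LD2_c48 LD3_c55)) :=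
  Lgr Lrot128 (Lpe (f245179 IH) (Lpe (f245186 IH) (Lpe (f286977 IH) (Lpe (f286981 IH) (Lpr_cf (f286989 IH) (Lpn (LP (LK LD1_c17 LD2_c48 LD3_c55))))))))
theorem f286993 : Led Lsl_bf (LP (LK LD1_c8 LD2_c26 LD3_c34)) = (LP (LK LD1_c9 LD2_c41 LD3_c7)) :=
  Lgr Lrot61 (Lpr_ft (f245167 IH) (Lpr_bt (f286991 IH) (Lpr_ft (f220627 IH) (Lpn (LP (LK LD1_c9 LD2_c41 LD3_c7))))))
theorem f220620 : Led Lsl_et (LP (LK LD1_c4 LD2_c54 LD3_c49)) = (LP (LK LD1_c9 LD2_c41 LD3_c7)) :=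
  Lre_e IH (LK LD1_c4 LD2_c54 LD3_c49) (LK LD1_c9 LD2_c41 LD3_c7) Lrfl Lrfl
theorem f220621 : Led Lsl_et (LP (LK LD1_c2 LD2_c5 LD3_c17)) = (LP (LK LD1_c4 LD2_c15 LD3_c52)) :=
  Lre_e IH (LK LD1_c2 LD2_c5 LD3_c17) (LK LD1_c4 LD2_c15 LD3_c52) Lrfl Lrfl
theorem f220612 : Led Lsl_dt (LP (LK LD1_c4 LD2_c15 LD3_c51)) = (LP (LK LD1_c2 LD2_c5 LD3_c17)) :=
  Lre_d IH (LK LD1_c4 LD2_c15 LD3_c51) (LK LD1_c2 LD2_c5 LD3_c17) Lrfl Lrfl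
theorem f220622 : Led Lsl_et (LP (LK LD1_c8 LD2_c30 LD3_c46)) = (LP (LK LD1_c4 LD2_c15 LD3_c51)) :=
  Lre_e IH (LK LD1_c8 LD2_c30 LD3_c46) (LK LD1_c4 LD2_c15 LD3_c51) Lrfl Lrfl
theorem f220623 : Led Lsl_dt (LP (LK LD1_c9 LD2_c41 LD3_c7)) = (LP (LK LD1_c8 LD2_c30 LD3_c46)) :=
  Lgr Lrot77 (Lpe (f220620 IH) (Lpr_df (K12.f220615 IH) (Lpe (f220621 IH) (Lpe (f220612 IH) (Lpe (f220622 IH) (Lpn (LP (LK LD1_c8 LD2_c30 LD3_c46))))))))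
theorem f220625 : Led Lsl_df (LP (LK LD1_c9 LD2_c41 LD3_c7)) = (LP (LK LD1_c8 LD2_c30 LD3_c46)) :=
  Lgr Lrot38 (Lpr_dt (f220623 IH) (Lpn (LP (LK LD1_c8 LD2_c30 LD3_c46))))
theorem f286995 : Led Lsl_bt (LP (LK LD1_c5 LD2_c29 LD3_c22)) = (LP (LK LD1_c8 LD2_c30 LD3_c46)) :=
  Lgr Lrot95 (Lpr_df (K16.f262861 IH) (Lpr_bf (f286993 IH) (Lpr_df (f220625 IH) (Lpn (LP (LK LD1_c8 LD2_c30 LD3_c46))))))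
theorem f286998 : Led Lsl_bf (LP (LK LD1_c2 LD2_c40 LD3_c57)) = (LP (LK LD1_c4 LD2_c15 LD3_c51)) :=
  Lgr Lrot96 (Lpr_et (K16.f220504 IH) (Lpr_bt (f286995 IH) (Lpr_et (f220622 IH) (Lpn (LP (LK LD1_c4 LD2_c15 LD3_c51))))))
theorem f220486 : Led Lsl_ft (LP (LK LD1_c2 LD2_c40 LD3_c57)) = (LP (LK LD1_c4 LD2_c2 LD3_c43)) :=
  Lgr Lrot4 (Lpe (K15.f220485 IH) (Lpr_ff (K12.f220036 IH) (Lpe (K14.f219951 IH) (Lpn (LP (LK LD1_c4 LD2_c2 LD3_c43))))))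
theorem f230387 : Led Lsl_ff (LP (LK LD1_c2 LD2_c5 LD3_c17)) = (LP (LK LD1_c3 LD2_c57 LD3_c11)) :=
  Lgr Lrot72 (Lpr_et (f220621 IH) (Lpr_ft (K13.f230383 IH) (Lpr_et (K15.f229941 IH) (Lpe (K12.f230326 IH) (Lpr_et (K15.f230330 IH) (Lpn (LP (LK LD1_c3 LD2_c57 LD3_c11))))))))
theorem f188778 : Led Lsl_dt (LP (LK LD1_c2 LD2_c5 LD3_c17)) = (LP (LK LD1_c4 LD2_c15 LD3_c51)) :=
  Lre_d IH (LK LD1_c2 LD2_c5 LD3_c17) (LK LD1_c4 LD2_c15 LD3_c51) Lrfl Lrfl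
theorem f230391 : Led Lsl_ft (LP (LK LD1_c4 LD2_c15 LD3_c51)) = (LP (LK LD1_c7 LD2_c56 LD3_c3)) :=
  Lgr Lrot54 (Lpe (f188778 IH) (Lpr_ff (f230387 IH) (Lpe (K15.f230390 IH) (Lpn (LP (LK LD1_c7 LD2_c56 LD3_c3))))))
theorem f230397 : Led Lsl_ff (LP (LK LD1_c4 LD2_c15 LD3_c51)) = (LP (LK LD1_c7 LD2_c56 LD3_c3)) :=
  Lgr Lrot3 (Lpr_ft (f230391 IH) (Lpn (LP (LK LD1_c7 LD2_c56 LD3_c3))))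
theorem f287002 : Led Lsl_bt (LP (LK LD1_c4 LD2_c2 LD3_c43)) = (LP (LK LD1_c7 LD2_c56 LD3_c3)) :=
  Lgr Lrot35 (Lpe (f220486 IH) (Lpr_bf (f286998 IH) (Lpr_ff (f230397 IH) (Lpn (LP (LK LD1_c7 LD2_c56 LD3_c3))))))
theorem f219940 : Led Lsl_et (LP (LK LD1_c8 LD2_c6 LD3_c2)) = (LP (LK LD1_c4 LD2_c2 LD3_c43)) :=
  Lre_e IH (LK LD1_c8 LD2_c6 LD3_c2) (LK LD1_c4 LD2_c2 LD3_c43) Lrfl Lrfl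
theorem f230395 : Led Lsl_et (LP (LK LD1_c7 LD2_c56 LD3_c3)) = (LP (LK LD1_c14 LD2_c58 LD3_c9)) :=
  Lre_e IH (LK LD1_c7 LD2_c56 LD3_c3) (LK LD1_c14 LD2_c58 LD3_c9) Lrfl Lrfl
theorem f287006 : Led Lsl_bf (LP (LK LD1_c8 LD2_c6 LD3_c2)) = (LP (LK LD1_c14 LD2_c58 LD3_c9)) :=
  Lgr Lrot96 (Lpr_et (f219940 IH) (Lpr_bt (f287002 IH) (Lpr_et (f230395 IH) (Lpn (LP (LK LD1_c14 LD2_c58 LD3_c9))))))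
theorem f287013 : Led Lsl_ft (LP (LK LD1_c8 LD2_c6 LD3_c2)) = (LP (LK LD1_c15 LD2_c15 LD3_c4)) :=
  Lre_f IH (LK LD1_c8 LD2_c6 LD3_c2) (LK LD1_c15 LD2_c15 LD3_c4) Lrfl Lrfl
theorem f230401 : Led Lsl_ft (LP (LK LD1_c24 LD2_c45 LD3_c46)) = (LP (LK LD1_c14 LD2_c58 LD3_c9)) :=
  Lre_f IH (LK LD1_c24 LD2_c45 LD3_c46) (LK LD1_c14 LD2_c58 LD3_c9) Lrfl Lrfl
theorem f287014 : Led Lsl_bt (LP (LK LD1_c15 LD2_c15 LD3_c4)) = (LP (LK LD1_c24 LD2_c45 LD3_c46)) :=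
  Lgr Lrot35 (Lpe (f287013 IH) (Lpr_bf (f287006 IH) (Lpe (f230401 IH) (Lpn (LP (LK LD1_c24 LD2_c45 LD3_c46))))))
theorem f229989 : Led Lsl_et (LP (LK LD1_c2 LD2_c36 LD3_c25)) = (LP (LK LD1_c5 LD2_c19 LD3_c33)) :=
  Lre_e IH (LK LD1_c2 LD2_c36 LD3_c25) (LK LD1_c5 LD2_c19 LD3_c33) Lrfl Lrfl
theorem f43556 : Led Lsl_et (LP (LK LD1_c9 LD2_c40 LD3_c3)) = (LP (LK LD1_c4 LD2_c54 LD3_c17)) :=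
  Lre_e IH (LK LD1_c9 LD2_c40 LD3_c3) (LK LD1_c4 LD2_c54 LD3_c17) Lrfl Lrfl
theorem f229990 : Led Lsl_ct (LP (LK LD1_c5 LD2_c19 LD3_c33)) = (LP (LK LD1_c9 LD2_c40 LD3_c3)) :=
  Lgr Lrot15 (Lpe (f229989 IH) (Lpr_cf (K14.f229981 IH) (Lpe (f43556 IH) (Lpn (LP (LK LD1_c9 LD2_c40 LD3_c3))))))
theorem f230080 : Led Lsl_bt (LP (LK LD1_c10 LD2_c28 LD3_c56)) = (LP (LK LD1_c5 LD2_c19 LD3_c33)) :=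
  Lre_b IH (LK LD1_c10 LD2_c28 LD3_c56) (LK LD1_c5 LD2_c19 LD3_c33) Lrfl Lrfl
theorem f49487 : Led Lsl_et (LP (LK LD1_c8 LD2_c26 LD3_c18)) = (LP (LK LD1_c4 LD2_c13 LD3_c46)) :=
  Lre_e IH (LK LD1_c8 LD2_c26 LD3_c18) (LK LD1_c4 LD2_c13 LD3_c46) Lrfl Lrfl
theorem f189504 : Led Lsl_bf (LP (LK LD1_c8 LD2_c26 LD3_c18)) = (LP (LK LD1_c9 LD2_c40 LD3_c3)) :=
  Lgr Lrot96 (Lpr_et (f49487 IH) (Lpr_bt (K10.f189498 IH) (Lpr_et (K15.f189503 IH) (Lpn (LP (LK LD1_c9 LD2_c40 LD3_c3))))))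
theorem f49491 : Led Lsl_et (LP (LK LD1_c5 LD2_c15 LD3_c6)) = (LP (LK LD1_c10 LD2_c19 LD3_c42)) :=
  Lre_e IH (LK LD1_c5 LD2_c15 LD3_c6) (LK LD1_c10 LD2_c19 LD3_c42) Lrfl Lrfl
theorem f49492 : Led Lsl_ct (LP (LK LD1_c10 LD2_c19 LD3_c42)) = (LP (LK LD1_c8 LD2_c26 LD3_c18)) :=
  Lgr Lrot15 (Lpe (f49491 IH) (Lpr_cf (K10.f49484 IH) (Lpe (f49487 IH) (Lpn (LP (LK LD1_c8 LD2_c26 LD3_c18))))))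
theorem f49496 : Led Lsl_cf (LP (LK LD1_c10 LD2_c19 LD3_c42)) = (LP (LK LD1_c8 LD2_c26 LD3_c18)) :=
  Lgr Lrot11 (Lpr_ct (f49492 IH) (Lpn (LP (LK LD1_c8 LD2_c26 LD3_c18))))
theorem f49505 : Led Lsl_bt (LP (LK LD1_c10 LD2_c19 LD3_c42)) = (LP (LK LD1_c18 LD2_c45 LD3_c0)) :=
  Lre_b IH (LK LD1_c10 LD2_c19 LD3_c42) (LK LD1_c18 LD2_c45 LD3_c0) Lrfl Lrfl
theorem f230081 : Led Lsl_cf (LP (LK LD1_c10 LD2_c28 LD3_c56)) = (LP (LK LD1_c18 LD2_c45 LD3_c0)) :=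
  Lgr Lrot97 (Lpr_bt (f230080 IH) (Lpr_ct (f229990 IH) (Lpe (f189504 IH) (Lpe (f49496 IH) (Lpr_bt (f49505 IH) (Lpn (LP (LK LD1_c18 LD2_c45 LD3_c0))))))))
theorem f230116 : Led Lsl_ft (LP (LK LD1_c10 LD2_c28 LD3_c56)) = (LP (LK LD1_c18 LD2_c59 LD3_c57)) :=
  Lre_f IH (LK LD1_c10 LD2_c28 LD3_c56) (LK LD1_c18 LD2_c59 LD3_c57) Lrfl Lrfl
theorem f230117 : Led Lsl_ft (LP (LK LD1_c28 LD2_c14 LD3_c54)) = (LP (LK LD1_c18 LD2_c45 LD3_c0)) :=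
  Lre_f IH (LK LD1_c28 LD2_c14 LD3_c54) (LK LD1_c18 LD2_c45 LD3_c0) Lrfl Lrfl
theorem f230118 : Led Lsl_ct (LP (LK LD1_c18 LD2_c59 LD3_c57)) = (LP (LK LD1_c28 LD2_c14 LD3_c54)) :=
  Lgr Lrot40 (Lpe (f230116 IH) (Lpr_cf (f230081 IH) (Lpe (f230117 IH) (Lpn (LP (LK LD1_c28 LD2_c14 LD3_c54))))))
theorem f230127 : Led Lsl_cf (LP (LK LD1_c18 LD2_c59 LD3_c57)) = (LP (LK LD1_c28 LD2_c14 LD3_c54)) :=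
  Lgr Lrot11 (Lpr_ct (f230118 IH) (Lpn (LP (LK LD1_c28 LD2_c14 LD3_c54))))
theorem f230101 : Led Lsl_bt (LP (LK LD1_c18 LD2_c59 LD3_c57)) = (LP (LK LD1_c10 LD2_c28 LD3_c59)) :=
  Lre_b IH (LK LD1_c18 LD2_c59 LD3_c57) (LK LD1_c10 LD2_c28 LD3_c59) Lrfl Lrfl
theorem f230087 : Led Lsl_ft (LP (LK LD1_c10 LD2_c28 LD3_c59)) = (LP (LK LD1_c5 LD2_c19 LD3_c33)) :=
  Lre_f IH (LK LD1_c10 LD2_c28 LD3_c59) (LK LD1_c5 LD2_c19 LD3_c33) Lrfl Lrfl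
theorem f230088 : Led Lsl_ft (LP (LK LD1_c9 LD2_c40 LD3_c3)) = (LP (LK LD1_c17 LD2_c46 LD3_c56)) :=
  Lre_f IH (LK LD1_c9 LD2_c40 LD3_c3) (LK LD1_c17 LD2_c46 LD3_c56) Lrfl Lrfl
theorem f230089 : Led Lsl_cf (LP (LK LD1_c10 LD2_c28 LD3_c59)) = (LP (LK LD1_c17 LD2_c46 LD3_c56)) :=
  Lgr Lrot108 (Lpr_ft (f230087 IH) (Lpr_ct (f229990 IH) (Lpr_ft (f230088 IH) (Lpn (LP (LK LD1_c17 LD2_c46 LD3_c56))))))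
theorem f230097 : Led Lsl_ct (LP (LK LD1_c10 LD2_c28 LD3_c59)) = (LP (LK LD1_c17 LD2_c46 LD3_c56)) :=
  Lgr Lrot59 (Lpr_cf (f230089 IH) (Lpn (LP (LK LD1_c17 LD2_c46 LD3_c56))))
theorem f49507 : Led Lsl_bt (LP (LK LD1_c18 LD2_c45 LD3_c3)) = (LP (LK LD1_c28 LD2_c14 LD3_c54)) :=
  Lre_b IH (LK LD1_c18 LD2_c45 LD3_c3) (LK LD1_c28 LD2_c14 LD3_c54) Lrfl Lrfl
theorem f49500 : Led Lsl_ft (LP (LK LD1_c18 LD2_c45 LD3_c3)) = (LP (LK LD1_c10 LD2_c19 LD3_c42)) :=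
  Lre_f IH (LK LD1_c18 LD2_c45 LD3_c3) (LK LD1_c10 LD2_c19 LD3_c42) Lrfl Lrfl
theorem f49501 : Led Lsl_ft (LP (LK LD1_c8 LD2_c26 LD3_c18)) = (LP (LK LD1_c15 LD2_c50 LD3_c56)) :=
  Lre_f IH (LK LD1_c8 LD2_c26 LD3_c18) (LK LD1_c15 LD2_c50 LD3_c56) Lrfl Lrfl
theorem f49502 : Led Lsl_cf (LP (LK LD1_c18 LD2_c45 LD3_c3)) = (LP (LK LD1_c15 LD2_c50 LD3_c56)) :=
  Lgr Lrot108 (Lpr_ft (f49500 IH) (Lpr_ct (f49492 IH) (Lpr_ft (f49501 IH) (Lpn (LP (LK LD1_c15 LD2_c50 LD3_c56))))))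
theorem f230133 : Led Lsl_bt (LP (LK LD1_c17 LD2_c46 LD3_c56)) = (LP (LK LD1_c15 LD2_c50 LD3_c56)) :=
  Lgr Lrot128 (Lpe (f230097 IH) (Lpe (f230101 IH) (Lpr_cf (f230127 IH) (Lpe (f49507 IH) (Lpr_cf (f49502 IH) (Lpn (LP (LK LD1_c15 LD2_c50 LD3_c56))))))))
theorem f287018 : Led Lsl_df (LP (LK LD1_c15 LD2_c15 LD3_c4)) = (LP (LK LD1_c15 LD2_c50 LD3_c56)) :=
  Lgr Lrot12 (Lpr_bt (f287014 IH) (Lpr_dt (K15.f266230 IH) (Lpr_bt (f230133 IH) (Lpn (LP (LK LD1_c15 LD2_c50 LD3_c56))))))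
theorem f287020 : Led Lsl_dt (LP (LK LD1_c15 LD2_c15 LD3_c4)) = (LP (LK LD1_c15 LD2_c50 LD3_c56)) :=
  Lgr Lrot42 (Lpr_df (f287018 IH) (Lpn (LP (LK LD1_c15 LD2_c50 LD3_c56))))
theorem f220505 : Led Lsl_ft (LP (LK LD1_c5 LD2_c29 LD3_c22)) = (LP (LK LD1_c10 LD2_c50 LD3_c6)) :=
  Lre_f IH (LK LD1_c5 LD2_c29 LD3_c22) (LK LD1_c10 LD2_c50 LD3_c6) Lrfl Lrfl
theorem f220506 : Led Lsl_ft (LP (LK LD1_c15 LD2_c15 LD3_c4)) = (LP (LK LD1_c8 LD2_c6 LD3_c2)) :=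
  Lre_f IH (LK LD1_c15 LD2_c15 LD3_c4) (LK LD1_c8 LD2_c6 LD3_c2) Lrfl Lrfl
theorem f220507 : Led Lsl_et (LP (LK LD1_c10 LD2_c50 LD3_c6)) = (LP (LK LD1_c15 LD2_c15 LD3_c4)) :=
  Lgr Lrot69 (Lpe (f220505 IH) (Lpe (K16.f220504 IH) (Lpr_ff (K12.f220498 IH) (Lpe (f219940 IH) (Lpe (f220506 IH) (Lpn (LP (LK LD1_c15 LD2_c15 LD3_c4))))))))
theorem f287022 : Led Lsl_ef (LP (LK LD1_c15 LD2_c50 LD3_c45)) = (LP (LK LD1_c15 LD2_c50 LD3_c56)) :=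
  Lgr Lrot73 (Lpe (f286143 IH) (Lpr_et (f286139 IH) (Lpe (f286128 IH) (Lpr_et (f220507 IH) (Lpr_dt (f287020 IH) (Lpn (LP (LK LD1_c15 LD2_c50 LD3_c56))))))))
theorem f49514 : Led Lsl_et (LP (LK LD1_c4 LD2_c13 LD3_c46)) = (LP (LK LD1_c8 LD2_c26 LD3_c18)) :=
  Lre_e IH (LK LD1_c4 LD2_c13 LD3_c46) (LK LD1_c8 LD2_c26 LD3_c18) Lrfl Lrfl
theorem f287030 : Led Lsl_ft (LP (LK LD1_c4 LD2_c13 LD3_c39)) = (LP (LK LD1_c4 LD2_c13 LD3_c46)) :=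
  Lgr Lrot86 (Lpe (K16.f44996 IH) (Lpe (f266793 IH) (Lpr_ef (f287022 IH) (Lpe (f49501 IH) (Lpe (f49514 IH) (Lpn (LP (LK LD1_c4 LD2_c13 LD3_c46))))))))
theorem f287036 : Led Lsl_af (LP (LK LD1_c4 LD2_c1 LD3_c49)) = (LP (LK LD1_c4 LD2_c13 LD3_c46)) :=
  Lgr Lrot31 (Lpr_gf (K10.f183813 IH) (Lpe (K12.f49460 IH) (Lpr_ft (f287030 IH) (Lpn (LP (LK LD1_c4 LD2_c13 LD3_c46))))))
theorem f285751 : Led Lsl_af (LP (LK LD1_c4 LD2_c22 LD3_c21)) = (LP (LK LD1_c8 LD2_c6 LD3_c3)) :=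
  Lgr Lrot0 (Lpr_at (f285748 IH) (Lpn (LP (LK LD1_c8 LD2_c6 LD3_c3))))
theorem f285784 : Led Lsl_af (LP (LK LD1_c4 LD2_c13 LD3_c39)) = (LP (LK LD1_c2 LD2_c31 LD3_c38)) :=
  Lgr Lrot117 (Lpr_dt (K16.f266288 IH) (Lpe (f285751 IH) (Lpr_dt (f285782 IH) (Lpn (LP (LK LD1_c2 LD2_c31 LD3_c38))))))
theorem f287044 : Led Lsl_ft (LP (LK LD1_c4 LD2_c1 LD3_c49)) = (LP (LK LD1_c2 LD2_c31 LD3_c38)) :=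
  Lgr Lrot101 (Lpr_af (f287036 IH) (Lpe (f287030 IH) (Lpr_af (f285784 IH) (Lpn (LP (LK LD1_c2 LD2_c31 LD3_c38))))))
theorem f180825 : Led Lsl_ft (LP (LK LD1_c15 LD2_c11 LD3_c40)) = (LP (LK LD1_c8 LD2_c4 LD3_c15)) :=
  Lre_f IH (LK LD1_c15 LD2_c11 LD3_c40) (LK LD1_c8 LD2_c4 LD3_c15) Lrfl Lrfl
theorem f287050 : Led Lsl_ef (LP (LK LD1_c15 LD2_c11 LD3_c40)) = (LP (LK LD1_c10 LD2_c8 LD3_c19)) :=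
  Lgr Lrot21 (Lpr_ft (f180825 IH) (Lpr_et (K14.f180776 IH) (Lpr_ft (f287044 IH) (Lpr_et (f285792 IH) (Lpr_ft (f286322 IH) (Lpn (LP (LK LD1_c10 LD2_c8 LD3_c19))))))))
theorem f287060 : Led Lsl_et (LP (LK LD1_c15 LD2_c11 LD3_c40)) = (LP (LK LD1_c10 LD2_c8 LD3_c19)) :=
  Lgr Lrot87 (Lpr_ef (f287050 IH) (Lpn (LP (LK LD1_c10 LD2_c8 LD3_c19))))
theorem f193213 : Led Lsl_bt (LP (LK LD1_c4 LD2_c22 LD3_c25)) = (LP (LK LD1_c8 LD2_c42 LD3_c38)) :=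
  Lre_b IH (LK LD1_c4 LD2_c22 LD3_c25) (LK LD1_c8 LD2_c42 LD3_c38) Lrfl Lrfl
theorem f180821 : Led Lsl_bt (LP (LK LD1_c15 LD2_c11 LD3_c40)) = (LP (LK LD1_c8 LD2_c4 LD3_c20)) :=
  Lre_b IH (LK LD1_c15 LD2_c11 LD3_c40) (LK LD1_c8 LD2_c4 LD3_c20) Lrfl Lrfl
theorem f193214 : Led Lsl_dt (LP (LK LD1_c8 LD2_c42 LD3_c38)) = (LP (LK LD1_c15 LD2_c11 LD3_c40)) :=
  Lgr Lrot79 (Lpe (f193213 IH) (Lpr_df (K14.f193207 IH) (Lpe (f180821 IH) (Lpn (LP (LK LD1_c15 LD2_c11 LD3_c40))))))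
theorem f287068 : Led Lsl_ef (LP (LK LD1_c8 LD2_c42 LD3_c38)) = (LP (LK LD1_c5 LD2_c29 LD3_c43)) :=
  Lgr Lrot73 (Lpr_dt (f193214 IH) (Lpr_et (f287060 IH) (Lpe (f286323 IH) (Lpr_et (f271065 IH) (Lpr_dt (K14.f168497 IH) (Lpn (LP (LK LD1_c5 LD2_c29 LD3_c43))))))))
theorem f287070 : Led Lsl_et (LP (LK LD1_c4 LD2_c22 LD3_c25)) = (LP (LK LD1_c4 LD2_c56 LD3_c50)) :=
  Lgr Lrot74 (Lpe (K14.f193223 IH) (Lpr_ef (f287068 IH) (Lpe (K14.f168388 IH) (Lpn (LP (LK LD1_c4 LD2_c56 LD3_c50))))))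
theorem f193209 : Led Lsl_ft (LP (LK LD1_c2 LD2_c8 LD3_c38)) = (LP (LK LD1_c4 LD2_c22 LD3_c25)) :=
  Lre_f IH (LK LD1_c2 LD2_c8 LD3_c38) (LK LD1_c4 LD2_c22 LD3_c25) Lrfl Lrfl
theorem f287078 : Led Lsl_ff (LP (LK LD1_c1 LD2_c1 LD3_c27)) = (LP (LK LD1_c1 LD2_c10 LD3_c21)) :=
  Lgr Lrot72 (Lpr_et (K14.f193192 IH) (Lpr_ft (f193209 IH) (Lpr_et (f287070 IH) (Lpr_ft (K14.f168498 IH) (Lpr_et (K14.f168365 IH) (Lpn (LP (LK LD1_c1 LD2_c10 LD3_c21))))))))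
theorem f287084 : Led Lsl_at (LP (LK LD1_c1 LD2_c1 LD3_c27)) = (LP (LK LD1_c1 LD2_c55 LD3_c22)) :=
  Lgr Lrot26 (Lpr_ff (f287078 IH) (Lpr_gt (K13.f168527 IH) (Lpr_gt (K13.f239132 IH) (Lpn (LP (LK LD1_c1 LD2_c55 LD3_c22))))))
theorem f193212 : Led Lsl_et (LP (LK LD1_c2 LD2_c8 LD3_c38)) = (LP (LK LD1_c1 LD2_c1 LD3_c27)) :=
  Lre_e IH (LK LD1_c2 LD2_c8 LD3_c38) (LK LD1_c1 LD2_c1 LD3_c27) Lrfl Lrfl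
theorem f196322 : Led Lsl_et (LP (LK LD1_c1 LD2_c55 LD3_c22)) = (LP (LK LD1_c3 LD2_c57 LD3_c15)) :=
  Lre_e IH (LK LD1_c1 LD2_c55 LD3_c22) (LK LD1_c3 LD2_c57 LD3_c15) Lrfl Lrfl
theorem f287090 : Led Lsl_af (LP (LK LD1_c2 LD2_c8 LD3_c38)) = (LP (LK LD1_c3 LD2_c57 LD3_c15)) :=
  Lgr Lrot50 (Lpr_et (f193212 IH) (Lpr_at (f287084 IH) (Lpr_et (f196322 IH) (Lpn (LP (LK LD1_c3 LD2_c57 LD3_c15))))))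
theorem f229556 : Led Lsl_ft (LP (LK LD1_c7 LD2_c56 LD3_c11)) = (LP (LK LD1_c3 LD2_c57 LD3_c15)) :=
  Lre_f IH (LK LD1_c7 LD2_c56 LD3_c11) (LK LD1_c3 LD2_c57 LD3_c15) Lrfl Lrfl
theorem f287100 : Led Lsl_at (LP (LK LD1_c4 LD2_c22 LD3_c25)) = (LP (LK LD1_c7 LD2_c56 LD3_c11)) :=
  Lgr Lrot66 (Lpe (f193209 IH) (Lpr_af (f287090 IH) (Lpe (f229556 IH) (Lpn (LP (LK LD1_c7 LD2_c56 LD3_c11))))))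
theorem f229544 : Led Lsl_df (LP (LK LD1_c14 LD2_c58 LD3_c13)) = (LP (LK LD1_c10 LD2_c8 LD3_c38)) :=
  Lgr Lrot38 (Lpr_dt (K15.f229533 IH) (Lpn (LP (LK LD1_c10 LD2_c8 LD3_c38))))
theorem f229548 : Led Lsl_bt (LP (LK LD1_c14 LD2_c58 LD3_c13)) = (LP (LK LD1_c7 LD2_c56 LD3_c11)) :=
  Lre_b IH (LK LD1_c14 LD2_c58 LD3_c13) (LK LD1_c7 LD2_c56 LD3_c11) Lrfl Lrfl
theorem f229549 : Led Lsl_bt (LP (LK LD1_c5 LD2_c9 LD3_c8)) = (LP (LK LD1_c10 LD2_c8 LD3_c38)) :=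
  Lre_b IH (LK LD1_c5 LD2_c9 LD3_c8) (LK LD1_c10 LD2_c8 LD3_c38) Lrfl Lrfl
theorem f229550 : Led Lsl_dt (LP (LK LD1_c7 LD2_c56 LD3_c11)) = (LP (LK LD1_c5 LD2_c9 LD3_c8)) :=
  Lgr Lrot79 (Lpe (f229548 IH) (Lpr_df (f229544 IH) (Lpe (f229549 IH) (Lpn (LP (LK LD1_c5 LD2_c9 LD3_c8))))))
theorem f287108 : Led Lsl_af (LP (LK LD1_c8 LD2_c4 LD3_c20)) = (LP (LK LD1_c5 LD2_c9 LD3_c8)) :=
  Lgr Lrot117 (Lpe (K14.f193207 IH) (Lpr_at (f287100 IH) (Lpr_dt (f229550 IH) (Lpn (LP (LK LD1_c5 LD2_c9 LD3_c8))))))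
theorem f180823 : Led Lsl_ct (LP (LK LD1_c8 LD2_c4 LD3_c20)) = (LP (LK LD1_c15 LD2_c11 LD3_c49)) :=
  Lre_c IH (LK LD1_c8 LD2_c4 LD3_c20) (LK LD1_c15 LD2_c11 LD3_c49) Lrfl Lrfl
theorem f229557 : Led Lsl_ct (LP (LK LD1_c10 LD2_c8 LD3_c46)) = (LP (LK LD1_c5 LD2_c9 LD3_c8)) :=
  Lre_c IH (LK LD1_c10 LD2_c8 LD3_c46) (LK LD1_c5 LD2_c9 LD3_c8) Lrfl Lrfl
theorem f287114 : Led Lsl_at (LP (LK LD1_c15 LD2_c11 LD3_c49)) = (LP (LK LD1_c10 LD2_c8 LD3_c46)) :=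
  Lgr Lrot107 (Lpe (f180823 IH) (Lpr_af (f287108 IH) (Lpe (f229557 IH) (Lpn (LP (LK LD1_c10 LD2_c8 LD3_c46))))))
theorem f287124 : Led Lsl_ft (LP (LK LD1_c8 LD2_c4 LD3_c18)) = (LP (LK LD1_c15 LD2_c11 LD3_c49)) :=
  Lre_f IH (LK LD1_c8 LD2_c4 LD3_c18) (LK LD1_c15 LD2_c11 LD3_c49) Lrfl Lrfl
theorem f287125 : Led Lsl_ft (LP (LK LD1_c10 LD2_c8 LD3_c46)) = (LP (LK LD1_c5 LD2_c9 LD3_c5)) :=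
  Lre_f IH (LK LD1_c10 LD2_c8 LD3_c46) (LK LD1_c5 LD2_c9 LD3_c5) Lrfl Lrfl
theorem f287126 : Led Lsl_af (LP (LK LD1_c8 LD2_c4 LD3_c18)) = (LP (LK LD1_c5 LD2_c9 LD3_c5)) :=
  Lgr Lrot45 (Lpr_ft (f287124 IH) (Lpr_at (f287114 IH) (Lpr_ft (f287125 IH) (Lpn (LP (LK LD1_c5 LD2_c9 LD3_c5))))))
theorem f190762 : Led Lsl_et (LP (LK LD1_c8 LD2_c4 LD3_c18)) = (LP (LK LD1_c4 LD2_c1 LD3_c50)) :=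
  Lre_e IH (LK LD1_c8 LD2_c4 LD3_c18) (LK LD1_c4 LD2_c1 LD3_c50) Lrfl Lrfl
theorem f242576 : Led Lsl_et (LP (LK LD1_c2 LD2_c31 LD3_c42)) = (LP (LK LD1_c5 LD2_c9 LD3_c5)) :=
  Lre_e IH (LK LD1_c2 LD2_c31 LD3_c42) (LK LD1_c5 LD2_c9 LD3_c5) Lrfl Lrfl
theorem f287135 : Led Lsl_at (LP (LK LD1_c4 LD2_c1 LD3_c50)) = (LP (LK LD1_c2 LD2_c31 LD3_c42)) :=
  Lgr Lrot80 (Lpe (f190762 IH) (Lpr_af (f287126 IH) (Lpe (f242576 IH) (Lpn (LP (LK LD1_c2 LD2_c31 LD3_c42))))))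
theorem f287148 : Led Lsl_ff (LP (LK LD1_c4 LD2_c1 LD3_c50)) = (LP (LK LD1_c2 LD2_c31 LD3_c39)) :=
  Lgr Lrot52 (Lpr_at (f287135 IH) (Lpe (K10.f190441 IH) (Lpr_gf (K10.f197170 IH) (Lpn (LP (LK LD1_c2 LD2_c31 LD3_c39))))))
theorem f287159 : Led Lsl_ft (LP (LK LD1_c4 LD2_c1 LD3_c50)) = (LP (LK LD1_c2 LD2_c31 LD3_c39)) :=
  Lgr Lrot48 (Lpr_ff (f287148 IH) (Lpn (LP (LK LD1_c2 LD2_c31 LD3_c39))))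
theorem f287169 : Led Lsl_af (LP (LK LD1_c4 LD2_c1 LD3_c47)) = (LP (LK LD1_c2 LD2_c31 LD3_c39)) :=
  Lgr Lrot31 (Lpe (K16.f192955 IH) (Lpr_gf (K10.f190749 IH) (Lpr_ft (f287159 IH) (Lpn (LP (LK LD1_c2 LD2_c31 LD3_c39))))))
theorem f287139 : Led Lsl_af (LP (LK LD1_c4 LD2_c1 LD3_c50)) = (LP (LK LD1_c2 LD2_c31 LD3_c42)) :=
  Lgr Lrot0 (Lpr_at (f287135 IH) (Lpn (LP (LK LD1_c2 LD2_c31 LD3_c42))))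
theorem f287182 : Led Lsl_ft (LP (LK LD1_c4 LD2_c1 LD3_c47)) = (LP (LK LD1_c2 LD2_c31 LD3_c42)) :=
  Lgr Lrot101 (Lpr_af (f287169 IH) (Lpe (f287159 IH) (Lpr_af (f287139 IH) (Lpn (LP (LK LD1_c2 LD2_c31 LD3_c42))))))
theorem f287194 : Led Lsl_ff (LP (LK LD1_c4 LD2_c1 LD3_c47)) = (LP (LK LD1_c2 LD2_c31 LD3_c42)) :=
  Lgr Lrot3 (Lpr_ft (f287182 IH) (Lpn (LP (LK LD1_c2 LD2_c31 LD3_c42))))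
theorem f287171 : Led Lsl_at (LP (LK LD1_c4 LD2_c1 LD3_c47)) = (LP (LK LD1_c2 LD2_c31 LD3_c39)) :=
  Lgr Lrot100 (Lpr_af (f287169 IH) (Lpn (LP (LK LD1_c2 LD2_c31 LD3_c39))))
theorem f285815 : Led Lsl_df (LP (LK LD1_c1 LD2_c1 LD3_c33)) = (LP (LK LD1_c0 LD2_c57 LD3_c2)) :=
  Lgr Lrot153 (Lpr_gt (f285805 IH) (Lpe (K13.f227307 IH) (Lpr_cf (K13.f227321 IH) (Lpe (K13.f227320 IH) (Lpe (K13.f242262 IH) (Lpe (K13.f193458 IH) (Lpr_gf (K13.f193453 IH) (Lpe (K1.f27836 IH) (Lpe (K9.f174996 IH) (Lpn (LP (LK LD1_c0 LD2_c57 LD3_c2))))))))))))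
theorem f287205 : Led Lsl_df (LP (LK LD1_c1 LD2_c12 LD3_c54)) = (LP (LK LD1_c2 LD2_c8 LD3_c39)) :=
  Lgr Lrot177 (Lpr_ct (K10.f33989 IH) (Lpe (f287171 IH) (Lpr_ff (f287194 IH) (Lpr_dt (K13.f34004 IH) (Lpr_ct (K13.f239955 IH) (Lpr_dt (K13.f81533 IH) (Lpr_ct (K10.f197237 IH) (Lpe (f285815 IH) (Lpr_ct (K12.f173234 IH) (Lpn (LP (LK LD1_c2 LD2_c8 LD3_c39))))))))))))
theorem f230376 : Led Lsl_af (LP (LK LD1_c7 LD2_c56 LD3_c7)) = (LP (LK LD1_c8 LD2_c36 LD3_c33)) :=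
  Lgr Lrot45 (Lpr_ft (K15.f229514 IH) (Lpr_at (K15.f230375 IH) (Lpr_ft (K13.f230331 IH) (Lpn (LP (LK LD1_c8 LD2_c36 LD3_c33))))))
theorem f285753 : Led Lsl_af (LP (LK LD1_c2 LD2_c8 LD3_c39)) = (LP (LK LD1_c3 LD2_c57 LD3_c16)) :=
  Lgr Lrot36 (Lpr_bt (K12.f173235 IH) (Lpr_at (f285748 IH) (Lpe (K15.f266281 IH) (Lpe (f230376 IH) (Lpr_bt (K15.f230410 IH) (Lpn (LP (LK LD1_c3 LD2_c57 LD3_c16))))))))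
theorem f287207 : Led Lsl_at (LP (LK LD1_c1 LD2_c12 LD3_c54)) = (LP (LK LD1_c1 LD2_c57 LD3_c51)) :=
  Lgr Lrot51 (Lpr_df (f287205 IH) (Lpr_af (f285753 IH) (Lpe (K16.f260247 IH) (Lpn (LP (LK LD1_c1 LD2_c57 LD3_c51))))))
theorem f22005 : Led Lsl_et (LP (LK LD1_c2 LD2_c31 LD3_c40)) = (LP (LK LD1_c1 LD2_c12 LD3_c54)) :=
  Lre_e IH (LK LD1_c2 LD2_c31 LD3_c40) (LK LD1_c1 LD2_c12 LD3_c54) Lrfl Lrfl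
theorem f287212 : Led Lsl_af (LP (LK LD1_c2 LD2_c31 LD3_c40)) = (LP (LK LD1_c4 LD2_c1 LD3_c48)) :=
  Lgr Lrot50 (Lpr_et (f22005 IH) (Lpr_at (f287207 IH) (Lpr_et (K16.f260234 IH) (Lpn (LP (LK LD1_c4 LD2_c1 LD3_c48))))))
theorem f287221 : Led Lsl_ft (LP (LK LD1_c2 LD2_c31 LD3_c40)) = (LP (LK LD1_c5 LD2_c9 LD3_c1)) :=
  Lre_f IH (LK LD1_c2 LD2_c31 LD3_c40) (LK LD1_c5 LD2_c9 LD3_c1) Lrfl Lrfl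
theorem f287222 : Led Lsl_ft (LP (LK LD1_c8 LD2_c4 LD3_c14)) = (LP (LK LD1_c4 LD2_c1 LD3_c48)) :=
  Lre_f IH (LK LD1_c8 LD2_c4 LD3_c14) (LK LD1_c4 LD2_c1 LD3_c48) Lrfl Lrfl
theorem f287223 : Led Lsl_at (LP (LK LD1_c5 LD2_c9 LD3_c1)) = (LP (LK LD1_c8 LD2_c4 LD3_c14)) :=
  Lgr Lrot66 (Lpe (f287221 IH) (Lpr_af (f287212 IH) (Lpe (f287222 IH) (Lpn (LP (LK LD1_c8 LD2_c4 LD3_c14))))))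
theorem f244147 : Led Lsl_bt (LP (LK LD1_c2 LD2_c45 LD3_c25)) = (LP (LK LD1_c5 LD2_c38 LD3_c53)) :=
  Lre_b IH (LK LD1_c2 LD2_c45 LD3_c25) (LK LD1_c5 LD2_c38 LD3_c53) Lrfl Lrfl
theorem f286317 : Led Lsl_bt (LP (LK LD1_c5 LD2_c8 LD3_c57)) = (LP (LK LD1_c2 LD2_c31 LD3_c40)) :=
  Lre_b IH (LK LD1_c5 LD2_c8 LD3_c57) (LK LD1_c2 LD2_c31 LD3_c40) Lrfl Lrfl
theorem f286318 : Led Lsl_df (LP (LK LD1_c2 LD2_c45 LD3_c25)) = (LP (LK LD1_c2 LD2_c31 LD3_c40)) :=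
  Lgr Lrot12 (Lpr_bt (f244147 IH) (Lpr_dt (f286313 IH) (Lpr_bt (f286317 IH) (Lpn (LP (LK LD1_c2 LD2_c31 LD3_c40))))))
theorem f201016 : Led Lsl_ct (LP (LK LD1_c11 LD2_c8 LD3_c45)) = (LP (LK LD1_c20 LD2_c2 LD3_c26)) :=
  Lre_c IH (LK LD1_c11 LD2_c8 LD3_c45) (LK LD1_c20 LD2_c2 LD3_c26) Lrfl Lrfl
theorem f244518 : Led Lsl_dt (LP (LK LD1_c20 LD2_c2 LD3_c26)) = (LP (LK LD1_c29 LD2_c15 LD3_c52)) :=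
  Lre_d IH (LK LD1_c20 LD2_c2 LD3_c26) (LK LD1_c29 LD2_c15 LD3_c52) Lrfl Lrfl
theorem f259000 : Led Lsl_ct (LP (LK LD1_c15 LD2_c11 LD3_c35)) = (LP (LK LD1_c8 LD2_c4 LD3_c14)) :=
  Lre_c IH (LK LD1_c15 LD2_c11 LD3_c35) (LK LD1_c8 LD2_c4 LD3_c14) Lrfl Lrfl
theorem f287248 : Led Lsl_dt (LP (LK LD1_c25 LD2_c0 LD3_c44)) = (LP (LK LD1_c15 LD2_c11 LD3_c35)) :=
  Lre_d IH (LK LD1_c25 LD2_c0 LD3_c44) (LK LD1_c15 LD2_c11 LD3_c35) Lrfl Lrfl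
theorem f287249 : Led Lsl_ct (LP (LK LD1_c29 LD2_c15 LD3_c52)) = (LP (LK LD1_c25 LD2_c0 LD3_c44)) :=
  Lgr Lrot53 (Lpe (f244518 IH) (Lpe (f201016 IH) (Lpe (f201001 IH) (Lpe (K16.f201015 IH) (Lpr_df (f286318 IH) (Lpr_ft (f287221 IH) (Lpr_at (f287223 IH) (Lpe (f259000 IH) (Lpe (f287248 IH) (Lpn (LP (LK LD1_c25 LD2_c0 LD3_c44))))))))))))
theorem f197202 : Led Lsl_ct (LP (LK LD1_c5 LD2_c8 LD3_c60)) = (LP (LK LD1_c2 LD2_c31 LD3_c40)) :=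
  Lre_c IH (LK LD1_c5 LD2_c8 LD3_c60) (LK LD1_c2 LD2_c31 LD3_c40) Lrfl Lrfl
theorem f197200 : Led Lsl_dt (LP (LK LD1_c10 LD2_c8 LD3_c30)) = (LP (LK LD1_c5 LD2_c8 LD3_c60)) :=
  Lre_d IH (LK LD1_c10 LD2_c8 LD3_c30) (LK LD1_c5 LD2_c8 LD3_c60) Lrfl Lrfl
theorem f265912 : Led Lsl_ft (LP (LK LD1_c10 LD2_c8 LD3_c30)) = (LP (LK LD1_c18 LD2_c28 LD3_c28)) :=
  Lre_f IH (LK LD1_c10 LD2_c8 LD3_c30) (LK LD1_c18 LD2_c28 LD3_c28) Lrfl Lrfl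
theorem f287257 : Led Lsl_at (LP (LK LD1_c18 LD2_c28 LD3_c28)) = (LP (LK LD1_c25 LD2_c0 LD3_c44)) :=
  Lgr Lrot33 (Lpe (f265912 IH) (Lpr_dt (f197200 IH) (Lpr_ct (f197202 IH) (Lpe (f286318 IH) (Lpr_ct (K16.f201015 IH) (Lpr_dt (f201001 IH) (Lpr_ct (f201016 IH) (Lpr_dt (f244518 IH) (Lpr_ct (f287249 IH) (Lpn (LP (LK LD1_c25 LD2_c0 LD3_c44))))))))))))
theorem f287253 : Led Lsl_ft (LP (LK LD1_c25 LD2_c0 LD3_c44)) = (LP (LK LD1_c15 LD2_c11 LD3_c34)) :=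
  Lre_f IH (LK LD1_c25 LD2_c0 LD3_c44) (LK LD1_c15 LD2_c11 LD3_c34) Lrfl Lrfl
theorem f287269 : Led Lsl_af (LP (LK LD1_c10 LD2_c8 LD3_c30)) = (LP (LK LD1_c15 LD2_c11 LD3_c34)) :=
  Lgr Lrot45 (Lpr_ft (f265912 IH) (Lpr_at (f287257 IH) (Lpr_ft (f287253 IH) (Lpn (LP (LK LD1_c15 LD2_c11 LD3_c34))))))
theorem f287281 : Led Lsl_et (LP (LK LD1_c10 LD2_c8 LD3_c30)) = (LP (LK LD1_c18 LD2_c28 LD3_c20)) :=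
  Lre_e IH (LK LD1_c10 LD2_c8 LD3_c30) (LK LD1_c18 LD2_c28 LD3_c20) Lrfl Lrfl
theorem f287282 : Led Lsl_et (LP (LK LD1_c25 LD2_c0 LD3_c36)) = (LP (LK LD1_c15 LD2_c11 LD3_c34)) :=
  Lre_e IH (LK LD1_c25 LD2_c0 LD3_c36) (LK LD1_c15 LD2_c11 LD3_c34) Lrfl Lrfl
theorem f287283 : Led Lsl_at (LP (LK LD1_c18 LD2_c28 LD3_c20)) = (LP (LK LD1_c25 LD2_c0 LD3_c36)) :=
  Lgr Lrot80 (Lpe (f287281 IH) (Lpr_af (f287269 IH) (Lpe (f287282 IH) (Lpn (LP (LK LD1_c25 LD2_c0 LD3_c36))))))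
theorem f239994 : Led Lsl_dt (LP (LK LD1_c10 LD2_c8 LD3_c27)) = (LP (LK LD1_c18 LD2_c28 LD3_c20)) :=
  Lre_d IH (LK LD1_c10 LD2_c8 LD3_c27) (LK LD1_c18 LD2_c28 LD3_c20) Lrfl Lrfl
theorem f287289 : Led Lsl_dt (LP (LK LD1_c25 LD2_c0 LD3_c36)) = (LP (LK LD1_c15 LD2_c11 LD3_c31)) :=
  Lre_d IH (LK LD1_c25 LD2_c0 LD3_c36) (LK LD1_c15 LD2_c11 LD3_c31) Lrfl Lrfl
theorem f287290 : Led Lsl_af (LP (LK LD1_c10 LD2_c8 LD3_c27)) = (LP (LK LD1_c15 LD2_c11 LD3_c31)) :=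
  Lgr Lrot117 (Lpr_dt (f239994 IH) (Lpr_at (f287283 IH) (Lpr_dt (f287289 IH) (Lpn (LP (LK LD1_c15 LD2_c11 LD3_c31))))))
theorem f239981 : Led Lsl_et (LP (LK LD1_c10 LD2_c8 LD3_c27)) = (LP (LK LD1_c5 LD2_c8 LD3_c59)) :=
  Lre_e IH (LK LD1_c10 LD2_c8 LD3_c27) (LK LD1_c5 LD2_c8 LD3_c59) Lrfl Lrfl
theorem f192970 : Led Lsl_et (LP (LK LD1_c8 LD2_c4 LD3_c11)) = (LP (LK LD1_c15 LD2_c11 LD3_c31)) :=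
  Lre_e IH (LK LD1_c8 LD2_c4 LD3_c11) (LK LD1_c15 LD2_c11 LD3_c31) Lrfl Lrfl
theorem f287296 : Led Lsl_at (LP (LK LD1_c5 LD2_c8 LD3_c59)) = (LP (LK LD1_c8 LD2_c4 LD3_c11)) :=
  Lgr Lrot80 (Lpe (f239981 IH) (Lpr_af (f287290 IH) (Lpe (f192970 IH) (Lpn (LP (LK LD1_c8 LD2_c4 LD3_c11))))))
theorem f287313 : Led Lsl_af (LP (LK LD1_c4 LD2_c1 LD3_c31)) = (LP (LK LD1_c4 LD2_c2 LD3_c14)) :=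
  Lgr Lrot68 (Lpr_ct (K13.f239968 IH) (Lpr_at (f287296 IH) (Lpe (K13.f242526 IH) (Lpn (LP (LK LD1_c4 LD2_c2 LD3_c14))))))
theorem f287322 : Led Lsl_ft (LP (LK LD1_c4 LD2_c1 LD3_c29)) = (LP (LK LD1_c4 LD2_c2 LD3_c14)) :=
  Lgr Lrot2 (Lpr_gt (K13.f80332 IH) (Lpr_gt (K13.f240645 IH) (Lpr_af (f287313 IH) (Lpn (LP (LK LD1_c4 LD2_c2 LD3_c14))))))
theorem f287330 : Led Lsl_ff (LP (LK LD1_c4 LD2_c1 LD3_c29)) = (LP (LK LD1_c4 LD2_c2 LD3_c14)) :=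
  Lgr Lrot3 (Lpr_ft (f287322 IH) (Lpn (LP (LK LD1_c4 LD2_c2 LD3_c14))))
theorem f287338 : Led Lsl_at (LP (LK LD1_c4 LD2_c1 LD3_c29)) = (LP (LK LD1_c4 LD2_c2 LD3_c13)) :=
  Lgr Lrot26 (Lpr_ff (f287330 IH) (Lpr_gt (K13.f242522 IH) (Lpr_gt (K13.f242490 IH) (Lpn (LP (LK LD1_c4 LD2_c2 LD3_c13))))))
theorem f287315 : Led Lsl_at (LP (LK LD1_c4 LD2_c1 LD3_c31)) = (LP (LK LD1_c4 LD2_c2 LD3_c14)) :=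
  Lgr Lrot100 (Lpr_af (f287313 IH) (Lpn (LP (LK LD1_c4 LD2_c2 LD3_c14))))
theorem f287349 : Led Lsl_ff (LP (LK LD1_c4 LD2_c1 LD3_c31)) = (LP (LK LD1_c4 LD2_c2 LD3_c13)) :=
  Lgr Lrot30 (Lpr_at (f287315 IH) (Lpe (f287330 IH) (Lpr_at (f287338 IH) (Lpn (LP (LK LD1_c4 LD2_c2 LD3_c13))))))
theorem f287357 : Led Lsl_ft (LP (LK LD1_c4 LD2_c1 LD3_c31)) = (LP (LK LD1_c4 LD2_c2 LD3_c13)) :=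
  Lgr Lrot48 (Lpr_ff (f287349 IH) (Lpn (LP (LK LD1_c4 LD2_c2 LD3_c13))))
theorem f287361 : Led Lsl_ff (LP (LK LD1_c1 LD2_c57 LD3_c43)) = (LP (LK LD1_c1 LD2_c58 LD3_c6)) :=
  Lgr Lrot19 (Lpr_dt (K13.f196179 IH) (Lpr_ft (f287357 IH) (Lpr_dt (K13.f33747 IH) (Lpn (LP (LK LD1_c1 LD2_c58 LD3_c6))))))
theorem f287377 : Led Lsl_ft (LP (LK LD1_c0 LD2_c59 LD3_c3)) = (LP (LK LD1_c0 LD2_c56 LD3_c39)) :=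
  Lgr Lrot4 (Lpe (K13.f211608 IH) (Lpr_ff (f287361 IH) (Lpr_cf (K13.f197372 IH) (Lpn (LP (LK LD1_c0 LD2_c56 LD3_c39))))))
theorem f287383 : Led Lsl_af (LP (LK LD1_c0 LD2_c57 LD3_c2)) = (LP (LK LD1_c0 LD2_c56 LD3_c39)) :=
  Lgr Lrot31 (Lpr_gf (K9.f174996 IH) (Lpe (K10.f27848 IH) (Lpr_ft (f287377 IH) (Lpn (LP (LK LD1_c0 LD2_c56 LD3_c39))))))
theorem f287387 : Led Lsl_at (LP (LK LD1_c0 LD2_c32 LD3_c35)) = (LP (LK LD1_c0 LD2_c28 LD3_c7)) :=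
  Lgr Lrot80 (Lpe (K12.f56522 IH) (Lpr_af (f287383 IH) (Lpr_ef (K9.f181985 IH) (Lpn (LP (LK LD1_c0 LD2_c28 LD3_c7))))))
theorem f287395 : Led Lsl_ff (LP (LK LD1_c0 LD2_c32 LD3_c35)) = (LP (LK LD1_c0 LD2_c28 LD3_c4)) :=
  Lgr Lrot52 (Lpr_at (f287387 IH) (Lpe (K11.f180207 IH) (Lpr_gf (K9.f180108 IH) (Lpn (LP (LK LD1_c0 LD2_c28 LD3_c4))))))
theorem f287403 : Led Lsl_ft (LP (LK LD1_c0 LD2_c32 LD3_c35)) = (LP (LK LD1_c0 LD2_c28 LD3_c4)) :=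
  Lgr Lrot48 (Lpr_ff (f287395 IH) (Lpn (LP (LK LD1_c0 LD2_c28 LD3_c4))))
theorem f287411 : Led Lsl_af (LP (LK LD1_c0 LD2_c54 LD3_c26)) = (LP (LK LD1_c0 LD2_c28 LD3_c4)) :=
  Lgr Lrot31 (Lpe (K14.f255109 IH) (Lpe (K14.f56563 IH) (Lpr_ft (f287403 IH) (Lpn (LP (LK LD1_c0 LD2_c28 LD3_c4))))))
theorem f287389 : Led Lsl_af (LP (LK LD1_c0 LD2_c32 LD3_c35)) = (LP (LK LD1_c0 LD2_c28 LD3_c7)) :=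
  Lgr Lrot0 (Lpr_at (f287387 IH) (Lpn (LP (LK LD1_c0 LD2_c28 LD3_c7))))
theorem f287421 : Led Lsl_ft (LP (LK LD1_c0 LD2_c54 LD3_c26)) = (LP (LK LD1_c0 LD2_c28 LD3_c7)) :=
  Lgr Lrot101 (Lpr_af (f287411 IH) (Lpe (f287403 IH) (Lpr_af (f287389 IH) (Lpn (LP (LK LD1_c0 LD2_c28 LD3_c7))))))
theorem f287431 : Led Lsl_ff (LP (LK LD1_c0 LD2_c54 LD3_c26)) = (LP (LK LD1_c0 LD2_c28 LD3_c7)) :=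
  Lgr Lrot3 (Lpr_ft (f287421 IH) (Lpn (LP (LK LD1_c0 LD2_c28 LD3_c7))))
theorem f287439 : Led Lsl_ft (LP (LK LD1_c1 LD2_c55 LD3_c25)) = (LP (LK LD1_c2 LD2_c4 LD3_c4)) :=
  Lgr Lrot86 (Lpe (K10.f28546 IH) (Lpr_ff (f287431 IH) (Lpe (K9.f181987 IH) (Lpe (f287377 IH) (Lpe (K10.f28544 IH) (Lpn (LP (LK LD1_c2 LD2_c4 LD3_c4))))))))
theorem f287445 : Led Lsl_af (LP (LK LD1_c1 LD2_c59 LD3_c32)) = (LP (LK LD1_c2 LD2_c4 LD3_c4)) :=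
  Lgr Lrot31 (Lpe (K12.f198565 IH) (Lpe (K11.f198270 IH) (Lpr_ft (f287439 IH) (Lpn (LP (LK LD1_c2 LD2_c4 LD3_c4))))))
theorem f287451 : Led Lsl_at (LP (LK LD1_c1 LD2_c1 LD3_c31)) = (LP (LK LD1_c1 LD2_c55 LD3_c25)) :=
  Lgr Lrot51 (Lpe (K10.f193378 IH) (Lpr_af (f287445 IH) (Lpr_df (K12.f28540 IH) (Lpn (LP (LK LD1_c1 LD2_c55 LD3_c25))))))
theorem f287455 : Led Lsl_ft (LP (LK LD1_c1 LD2_c59 LD3_c32)) = (LP (LK LD1_c1 LD2_c1 LD3_c31)) :=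
  Lgr Lrot101 (Lpr_af (f287445 IH) (Lpe (f287439 IH) (Lpe (f287451 IH) (Lpn (LP (LK LD1_c1 LD2_c1 LD3_c31))))))
theorem f287463 : Led Lsl_ff (LP (LK LD1_c1 LD2_c59 LD3_c32)) = (LP (LK LD1_c1 LD2_c1 LD3_c31)) :=
  Lgr Lrot3 (Lpr_ft (f287455 IH) (Lpn (LP (LK LD1_c1 LD2_c1 LD3_c31))))
theorem f35482 : Led Lsl_et (LP (LK LD1_c0 LD2_c28 LD3_c4)) = (LP (LK LD1_c1 LD2_c1 LD3_c31)) :=
  Lre_e IH (LK LD1_c0 LD2_c28 LD3_c4) (LK LD1_c1 LD2_c1 LD3_c31) Lrfl Lrfl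
theorem f287469 : Led Lsl_ft (LP (LK LD1_c0 LD2_c56 LD3_c40)) = (LP (LK LD1_c0 LD2_c57 LD3_c2)) :=
  Lgr Lrot86 (Lpe (K10.f47081 IH) (Lpr_ff (f287463 IH) (Lpe (f35482 IH) (Lpe (f287403 IH) (Lpe (K12.f56522 IH) (Lpn (LP (LK LD1_c0 LD2_c57 LD3_c2))))))))
theorem f287473 : Led Lsl_ff (LP (LK LD1_c0 LD2_c26 LD3_c9)) = (LP (LK LD1_c0 LD2_c25 LD3_c54)) :=
  Lgr Lrot25 (Lpr_bt (K9.f177800 IH) (Lpr_ft (f287469 IH) (Lpr_bt (K9.f56531 IH) (Lpn (LP (LK LD1_c0 LD2_c25 LD3_c54))))))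
theorem f287477 : Led Lsl_at (LP (LK LD1_c0 LD2_c26 LD3_c9)) = (LP (LK LD1_c0 LD2_c25 LD3_c55)) :=
  Lgr Lrot26 (Lpr_ff (f287473 IH) (Lpr_gt (K9.f175284 IH) (Lpr_gt (K9.f182463 IH) (Lpn (LP (LK LD1_c0 LD2_c25 LD3_c55))))))
theorem f287485 : Led Lsl_af (LP (LK LD1_c0 LD2_c57 LD3_c32)) = (LP (LK LD1_c0 LD2_c57 LD3_c5)) :=
  Lgr Lrot50 (Lpr_et (K10.f55617 IH) (Lpr_at (f287477 IH) (Lpr_et (K10.f179891 IH) (Lpn (LP (LK LD1_c0 LD2_c57 LD3_c5))))))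
theorem f287465 : Led Lsl_ft (LP (LK LD1_c0 LD2_c57 LD3_c32)) = (LP (LK LD1_c0 LD2_c54 LD3_c50)) :=
  Lgr Lrot75 (Lpr_bf (K12.f177807 IH) (Lpr_ff (f287463 IH) (Lpe (K11.f173276 IH) (Lpn (LP (LK LD1_c0 LD2_c54 LD3_c50))))))
theorem f287493 : Led Lsl_at (LP (LK LD1_c0 LD2_c54 LD3_c50)) = (LP (LK LD1_c0 LD2_c32 LD3_c32)) :=
  Lgr Lrot51 (Lpe (K10.f55618 IH) (Lpr_af (f287485 IH) (Lpr_df (K10.f179897 IH) (Lpn (LP (LK LD1_c0 LD2_c32 LD3_c32))))))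
theorem f287495 : Led Lsl_ft (LP (LK LD1_c0 LD2_c32 LD3_c32)) = (LP (LK LD1_c0 LD2_c57 LD3_c5)) :=
  Lgr Lrot101 (Lpe (f287493 IH) (Lpe (f287465 IH) (Lpr_af (f287485 IH) (Lpn (LP (LK LD1_c0 LD2_c57 LD3_c5))))))
theorem f287501 : Led Lsl_ff (LP (LK LD1_c0 LD2_c32 LD3_c32)) = (LP (LK LD1_c0 LD2_c57 LD3_c5)) :=
  Lgr Lrot3 (Lpr_ft (f287495 IH) (Lpn (LP (LK LD1_c0 LD2_c57 LD3_c5))))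
theorem f246051 : Led Lsl_ft (LP (LK LD1_c0 LD2_c26 LD3_c8)) = (LP (LK LD1_c0 LD2_c25 LD3_c55)) :=
  Lgr Lrot54 (Lpr_df (K13.f246043 IH) (Lpe (K13.f175050 IH) (Lpe (K9.f179889 IH) (Lpn (LP (LK LD1_c0 LD2_c25 LD3_c55))))))
theorem f287509 : Led Lsl_ft (LP (LK LD1_c0 LD2_c14 LD3_c34)) = (LP (LK LD1_c0 LD2_c24 LD3_c49)) :=
  Lgr Lrot86 (Lpe (K10.f179878 IH) (Lpr_ff (f287501 IH) (Lpe (K10.f179891 IH) (Lpe (f246051 IH) (Lpr_ef (K9.f56040 IH) (Lpn (LP (LK LD1_c0 LD2_c24 LD3_c49))))))))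
theorem f287519 : Led Lsl_af (LP (LK LD1_c0 LD2_c14 LD3_c37)) = (LP (LK LD1_c0 LD2_c24 LD3_c49)) :=
  Lgr Lrot31 (Lpe (K9.f180227 IH) (Lpr_gf (K9.f179854 IH) (Lpr_ft (f287509 IH) (Lpn (LP (LK LD1_c0 LD2_c24 LD3_c49))))))
theorem f287397 : Led Lsl_ft (LP (LK LD1_c0 LD2_c14 LD3_c37)) = (LP (LK LD1_c0 LD2_c24 LD3_c46)) :=
  Lgr Lrot75 (Lpe (K11.f56521 IH) (Lpr_ff (f287395 IH) (Lpe (K9.f173269 IH) (Lpn (LP (LK LD1_c0 LD2_c24 LD3_c46))))))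
theorem f287531 : Led Lsl_at (LP (LK LD1_c0 LD2_c24 LD3_c46)) = (LP (LK LD1_c0 LD2_c14 LD3_c34)) :=
  Lgr Lrot66 (Lpe (f287397 IH) (Lpr_af (f287519 IH) (Lpe (f287509 IH) (Lpn (LP (LK LD1_c0 LD2_c14 LD3_c34))))))
theorem f287539 : Led Lsl_af (LP (LK LD1_c0 LD2_c11 LD3_c0)) = (LP (LK LD1_c0 LD2_c6 LD3_c41)) :=
  Lgr Lrot117 (Lpr_dt (K9.f40818 IH) (Lpr_at (f287531 IH) (Lpr_dt (K9.f172546 IH) (Lpn (LP (LK LD1_c0 LD2_c6 LD3_c41))))))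
theorem f287515 : Led Lsl_ff (LP (LK LD1_c0 LD2_c6 LD3_c41)) = (LP (LK LD1_c0 LD2_c11 LD3_c1)) :=
  Lgr Lrot19 (Lpr_dt (K9.f7030 IH) (Lpr_ft (f287509 IH) (Lpr_dt (K9.f6809 IH) (Lpn (LP (LK LD1_c0 LD2_c11 LD3_c1))))))
theorem f287527 : Led Lsl_at (LP (LK LD1_c0 LD2_c6 LD3_c42)) = (LP (LK LD1_c0 LD2_c11 LD3_c1)) :=
  Lgr Lrot51 (Lpe (K9.f56515 IH) (Lpr_af (f287519 IH) (Lpe (K9.f6820 IH) (Lpn (LP (LK LD1_c0 LD2_c11 LD3_c1))))))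
theorem f287547 : Led Lsl_ft (LP (LK LD1_c0 LD2_c11 LD3_c0)) = (LP (LK LD1_c0 LD2_c6 LD3_c42)) :=
  Lgr Lrot101 (Lpr_af (f287539 IH) (Lpr_ff (f287515 IH) (Lpe (f287527 IH) (Lpn (LP (LK LD1_c0 LD2_c6 LD3_c42))))))
theorem f287553 : Led Lsl_ff (LP (LK LD1_c0 LD2_c11 LD3_c0)) = (LP (LK LD1_c0 LD2_c6 LD3_c42)) :=
  Lgr Lrot3 (Lpr_ft (f287547 IH) (Lpn (LP (LK LD1_c0 LD2_c6 LD3_c42))))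
theorem f173232 : Led Lsl_bf (LP (LK LD1_c0 LD2_c54 LD3_c51)) = (LP (LK LD1_c1 LD2_c1 LD3_c33)) :=
  Lgr Lrot24 (Lpr_bt (K12.f173229 IH) (Lpn (LP (LK LD1_c1 LD2_c1 LD3_c33))))
theorem f285827 : Led Lsl_et (LP (LK LD1_c0 LD2_c54 LD3_c51)) = (LP (LK LD1_c0 LD2_c26 LD3_c38)) :=
  Lgr Lrot74 (Lpr_bf (f173232 IH) (Lpr_ef (f285823 IH) (Lpe (K12.f178486 IH) (Lpn (LP (LK LD1_c0 LD2_c26 LD3_c38))))))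
theorem f287557 : Led Lsl_ft (LP (LK LD1_c0 LD2_c26 LD3_c38)) = (LP (LK LD1_c0 LD2_c14 LD3_c38)) :=
  Lgr Lrot86 (Lpe (f285827 IH) (Lpe (K12.f173201 IH) (Lpe (K9.f53164 IH) (Lpr_ff (f287553 IH) (Lpe (K9.f7023 IH) (Lpn (LP (LK LD1_c0 LD2_c14 LD3_c38))))))))
theorem f287561 : Led Lsl_af (LP (LK LD1_c0 LD2_c24 LD3_c50)) = (LP (LK LD1_c0 LD2_c14 LD3_c38)) :=
  Lgr Lrot31 (Lpr_gf (K13.f179531 IH) (Lpe (K10.f178491 IH) (Lpr_ft (f287557 IH) (Lpn (LP (LK LD1_c0 LD2_c14 LD3_c38))))))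
theorem f287563 : Led Lsl_at (LP (LK LD1_c0 LD2_c27 LD3_c26)) = (LP (LK LD1_c0 LD2_c26 LD3_c38)) :=
  Lgr Lrot51 (Lpe (K9.f6799 IH) (Lpr_af (f287561 IH) (Lpe (K9.f178489 IH) (Lpn (LP (LK LD1_c0 LD2_c26 LD3_c38))))))
theorem f287567 : Led Lsl_ft (LP (LK LD1_c0 LD2_c24 LD3_c50)) = (LP (LK LD1_c0 LD2_c27 LD3_c26)) :=
  Lgr Lrot101 (Lpr_af (f287561 IH) (Lpe (f287557 IH) (Lpe (f287563 IH) (Lpn (LP (LK LD1_c0 LD2_c27 LD3_c26))))))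
theorem f287573 : Led Lsl_ff (LP (LK LD1_c0 LD2_c24 LD3_c50)) = (LP (LK LD1_c0 LD2_c27 LD3_c26)) :=
  Lgr Lrot3 (Lpr_ft (f287567 IH) (Lpn (LP (LK LD1_c0 LD2_c27 LD3_c26))))
theorem f287577 : Led Lsl_ft (LP (LK LD1_c0 LD2_c54 LD3_c53)) = (LP (LK LD1_c1 LD2_c0 LD3_c25)) :=
  Lgr Lrot75 (Lpe (K12.f6816 IH) (Lpr_ff (f287573 IH) (Lpe (K12.f6817 IH) (Lpn (LP (LK LD1_c1 LD2_c0 LD3_c25))))))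
theorem f246063 : Led Lsl_et (LP (LK LD1_c1 LD2_c0 LD3_c25)) = (LP (LK LD1_c1 LD2_c10 LD3_c17)) :=
  Lgr Lrot74 (Lpe (K12.f6802 IH) (Lpr_ef (K13.f246061 IH) (Lpe (K14.f175061 IH) (Lpn (LP (LK LD1_c1 LD2_c10 LD3_c17))))))
theorem f182367 : Led Lsl_ft (LP (LK LD1_c1 LD2_c10 LD3_c17)) = (LP (LK LD1_c0 LD2_c32 LD3_c29)) :=
  Lre_f IH (LK LD1_c1 LD2_c10 LD3_c17) (LK LD1_c0 LD2_c32 LD3_c29) Lrfl Lrfl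
theorem f287581 : Led Lsl_ff (LP (LK LD1_c0 LD2_c24 LD3_c48)) = (LP (LK LD1_c0 LD2_c14 LD3_c33)) :=
  Lgr Lrot72 (Lpr_et (K12.f6827 IH) (Lpr_ft (f287577 IH) (Lpr_et (f246063 IH) (Lpr_ft (f182367 IH) (Lpr_et (K9.f182330 IH) (Lpn (LP (LK LD1_c0 LD2_c14 LD3_c33))))))))
theorem f287587 : Led Lsl_at (LP (LK LD1_c0 LD2_c24 LD3_c48)) = (LP (LK LD1_c0 LD2_c25 LD3_c2)) :=
  Lgr Lrot26 (Lpr_ff (f287581 IH) (Lpr_gt (K9.f182320 IH) (Lpr_gt (K10.f29603 IH) (Lpn (LP (LK LD1_c0 LD2_c25 LD3_c2))))))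
theorem f287593 : Led Lsl_af (LP (LK LD1_c0 LD2_c54 LD3_c53)) = (LP (LK LD1_c0 LD2_c55 LD3_c17)) :=
  Lgr Lrot50 (Lpr_et (K11.f6830 IH) (Lpr_at (f287587 IH) (Lpr_et (K9.f28927 IH) (Lpn (LP (LK LD1_c0 LD2_c55 LD3_c17))))))
theorem f246084 : Led Lsl_af (LP (LK LD1_c1 LD2_c10 LD3_c17)) = (LP (LK LD1_c1 LD2_c56 LD3_c43)) :=
  Lgr Lrot31 (Lpr_gf (K13.f246082 IH) (Lpe (K13.f242518 IH) (Lpr_ft (K15.f242231 IH) (Lpn (LP (LK LD1_c1 LD2_c56 LD3_c43))))))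
theorem f246224 : Led Lsl_ef (LP (LK LD1_c1 LD2_c0 LD3_c25)) = (LP (LK LD1_c1 LD2_c10 LD3_c17)) :=
  Lgr Lrot28 (Lpr_ct (K12.f6826 IH) (Lpe (K13.f246098 IH) (Lpr_ct (K13.f246125 IH) (Lpn (LP (LK LD1_c1 LD2_c10 LD3_c17))))))
theorem f260200 : Led Lsl_af (LP (LK LD1_c0 LD2_c56 LD3_c22)) = (LP (LK LD1_c1 LD2_c0 LD3_c25)) :=
  Lgr Lrot50 (Lpr_et (K15.f260198 IH) (Lpe (f246084 IH) (Lpe (f246224 IH) (Lpn (LP (LK LD1_c1 LD2_c0 LD3_c25))))))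
theorem f287601 : Led Lsl_ft (LP (LK LD1_c0 LD2_c56 LD3_c22)) = (LP (LK LD1_c0 LD2_c55 LD3_c17)) :=
  Lgr Lrot101 (Lpr_af (f260200 IH) (Lpe (f287577 IH) (Lpr_af (f287593 IH) (Lpn (LP (LK LD1_c0 LD2_c55 LD3_c17))))))
theorem f287609 : Led Lsl_ff (LP (LK LD1_c0 LD2_c56 LD3_c22)) = (LP (LK LD1_c0 LD2_c55 LD3_c17)) :=
  Lgr Lrot3 (Lpr_ft (f287601 IH) (Lpn (LP (LK LD1_c0 LD2_c55 LD3_c17))))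
theorem f287617 : Led Lsl_ft (LP (LK LD1_c0 LD2_c24 LD3_c58)) = (LP (LK LD1_c0 LD2_c25 LD3_c2)) :=
  Lgr Lrot86 (Lpe (K13.f30820 IH) (Lpe (K15.f242238 IH) (Lpe (K15.f260198 IH) (Lpr_ff (f287609 IH) (Lpe (K9.f28927 IH) (Lpn (LP (LK LD1_c0 LD2_c25 LD3_c2))))))))
theorem f287621 : Led Lsl_ff (LP (LK LD1_c0 LD2_c54 LD3_c21)) = (LP (LK LD1_c0 LD2_c28 LD3_c0)) :=
  Lgr Lrot23 (Lpr_ct (K13.f229461 IH) (Lpr_ft (f287617 IH) (Lpe (K9.f28931 IH) (Lpn (LP (LK LD1_c0 LD2_c28 LD3_c0))))))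
theorem f287625 : Led Lsl_at (LP (LK LD1_c0 LD2_c54 LD3_c21)) = (LP (LK LD1_c0 LD2_c27 LD3_c61)) :=
  Lgr Lrot26 (Lpr_ff (f287621 IH) (Lpr_gt (K9.f28820 IH) (Lpr_gt (K12.f177899 IH) (Lpn (LP (LK LD1_c0 LD2_c27 LD3_c61))))))
theorem f287631 : Led Lsl_af (LP (LK LD1_c1 LD2_c55 LD3_c13)) = (LP (LK LD1_c1 LD2_c1 LD3_c17)) :=
  Lgr Lrot117 (Lpr_dt (K13.f229460 IH) (Lpr_at (f287625 IH) (Lpr_dt (K13.f180221 IH) (Lpn (LP (LK LD1_c1 LD2_c1 LD3_c17))))))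
theorem f243111 : Led Lsl_et (LP (LK LD1_c2 LD2_c5 LD3_c13)) = (LP (LK LD1_c0 LD2_c59 LD3_c40)) :=
  Lre_e IH (LK LD1_c2 LD2_c5 LD3_c13) (LK LD1_c0 LD2_c59 LD3_c40) Lrfl Lrfl
theorem f184797 : Led Lsl_et (LP (LK LD1_c1 LD2_c1 LD3_c17)) = (LP (LK LD1_c2 LD2_c8 LD3_c17)) :=
  Lre_e IH (LK LD1_c1 LD2_c1 LD3_c17) (LK LD1_c2 LD2_c8 LD3_c17) Lrfl Lrfl
theorem f243112 : Led Lsl_bt (LP (LK LD1_c0 LD2_c59 LD3_c40)) = (LP (LK LD1_c1 LD2_c1 LD3_c17)) :=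
  Lgr Lrot119 (Lpe (f243111 IH) (Lpr_bf (K13.f243052 IH) (Lpe (f184797 IH) (Lpn (LP (LK LD1_c1 LD2_c1 LD3_c17))))))
theorem f287633 : Led Lsl_at (LP (LK LD1_c2 LD2_c5 LD3_c2)) = (LP (LK LD1_c0 LD2_c59 LD3_c40)) :=
  Lgr Lrot67 (Lpe (K14.f213848 IH) (Lpr_af (K15.f262648 IH) (Lpe (K14.f229467 IH) (Lpr_af (f287631 IH) (Lpe (f243112 IH) (Lpn (LP (LK LD1_c0 LD2_c59 LD3_c40))))))))
theorem f287639 : Led Lsl_af (LP (LK LD1_c4 LD2_c15 LD3_c23)) = (LP (LK LD1_c2 LD2_c5 LD3_c13)) :=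
  Lgr Lrot50 (Lpr_et (K10.f48263 IH) (Lpr_at (f287633 IH) (Lpr_et (K13.f636 IH) (Lpn (LP (LK LD1_c2 LD2_c5 LD3_c13))))))
theorem f48273 : Led Lsl_bt (LP (LK LD1_c4 LD2_c15 LD3_c23)) = (LP (LK LD1_c8 LD2_c29 LD3_c34)) :=
  Lre_b IH (LK LD1_c4 LD2_c15 LD3_c23) (LK LD1_c8 LD2_c29 LD3_c34) Lrfl Lrfl
theorem f229490 : Led Lsl_et (LP (LK LD1_c1 LD2_c55 LD3_c13)) = (LP (LK LD1_c3 LD2_c56 LD3_c60)) :=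
  Lre_e IH (LK LD1_c1 LD2_c55 LD3_c13) (LK LD1_c3 LD2_c56 LD3_c60) Lrfl Lrfl
theorem f287635 : Led Lsl_at (LP (LK LD1_c3 LD2_c56 LD3_c60)) = (LP (LK LD1_c2 LD2_c8 LD3_c17)) :=
  Lgr Lrot80 (Lpe (f229490 IH) (Lpr_af (f287631 IH) (Lpe (K13.f227963 IH) (Lpn (LP (LK LD1_c2 LD2_c8 LD3_c17))))))
theorem f229657 : Led Lsl_bt (LP (LK LD1_c7 LD2_c55 LD3_c31)) = (LP (LK LD1_c3 LD2_c56 LD3_c60)) :=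
  Lre_b IH (LK LD1_c7 LD2_c55 LD3_c31) (LK LD1_c3 LD2_c56 LD3_c60) Lrfl Lrfl
theorem f287641 : Led Lsl_at (LP (LK LD1_c8 LD2_c29 LD3_c34)) = (LP (LK LD1_c7 LD2_c55 LD3_c31)) :=
  Lgr Lrot67 (Lpe (f48273 IH) (Lpr_af (f287639 IH) (Lpr_bf (K13.f243052 IH) (Lpe (f287635 IH) (Lpe (f229657 IH) (Lpn (LP (LK LD1_c7 LD2_c55 LD3_c31))))))))
theorem f229662 : Led Lsl_df (LP (LK LD1_c5 LD2_c19 LD3_c5)) = (LP (LK LD1_c7 LD2_c55 LD3_c31)) :=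
  Lgr Lrot38 (Lpr_dt (K13.f229655 IH) (Lpn (LP (LK LD1_c7 LD2_c55 LD3_c31))))
theorem f287650 : Led Lsl_af (LP (LK LD1_c5 LD2_c17 LD3_c56)) = (LP (LK LD1_c5 LD2_c19 LD3_c5)) :=
  Lgr Lrot117 (Lpe (K14.f49013 IH) (Lpr_at (f287641 IH) (Lpe (f229662 IH) (Lpn (LP (LK LD1_c5 LD2_c19 LD3_c5))))))
theorem f49028 : Led Lsl_et (LP (LK LD1_c5 LD2_c17 LD3_c56)) = (LP (LK LD1_c2 LD2_c35 LD3_c41)) :=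
  Lre_e IH (LK LD1_c5 LD2_c17 LD3_c56) (LK LD1_c2 LD2_c35 LD3_c41) Lrfl Lrfl
theorem f287670 : Led Lsl_at (LP (LK LD1_c2 LD2_c35 LD3_c41)) = (LP (LK LD1_c2 LD2_c36 LD3_c11)) :=
  Lgr Lrot80 (Lpe (f49028 IH) (Lpr_af (f287650 IH) (Lpe (K13.f229080 IH) (Lpn (LP (LK LD1_c2 LD2_c36 LD3_c11))))))
theorem f287676 : Led Lsl_af (LP (LK LD1_c4 LD2_c15 LD3_c20)) = (LP (LK LD1_c3 LD2_c56 LD3_c57)) :=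
  Lgr Lrot117 (Lpr_dt (K14.f49022 IH) (Lpr_at (f287670 IH) (Lpr_dt (K12.f229651 IH) (Lpn (LP (LK LD1_c3 LD2_c56 LD3_c57))))))
theorem f287680 : Led Lsl_ft (LP (LK LD1_c5 LD2_c19 LD3_c10)) = (LP (LK LD1_c3 LD2_c56 LD3_c57)) :=
  Lgr Lrot2 (Lpr_gt (K14.f212339 IH) (Lpr_gt (K16.f223860 IH) (Lpr_af (f287676 IH) (Lpn (LP (LK LD1_c3 LD2_c56 LD3_c57))))))
theorem f287688 : Led Lsl_ff (LP (LK LD1_c5 LD2_c19 LD3_c10)) = (LP (LK LD1_c3 LD2_c56 LD3_c57)) :=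
  Lgr Lrot3 (Lpr_ft (f287680 IH) (Lpn (LP (LK LD1_c3 LD2_c56 LD3_c57))))
theorem f246323 : Led Lsl_at (LP (LK LD1_c2 LD2_c8 LD3_c21)) = (LP (LK LD1_c2 LD2_c5 LD3_c19)) :=
  Lgr Lrot51 (Lpe (K12.f196616 IH) (Lpr_af (K13.f246319 IH) (Lpr_df (K13.f220636 IH) (Lpn (LP (LK LD1_c2 LD2_c5 LD3_c19))))))
theorem f250972 : Led Lsl_ft (LP (LK LD1_c4 LD2_c4 LD3_c34)) = (LP (LK LD1_c2 LD2_c8 LD3_c21)) :=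
  Lgr Lrot2 (Lpr_gt (K13.f246370 IH) (Lpr_gt (K14.f250970 IH) (Lpe (f246323 IH) (Lpn (LP (LK LD1_c2 LD2_c8 LD3_c21))))))
theorem f287692 : Led Lsl_ft (LP (LK LD1_c1 LD2_c1 LD3_c19)) = (LP (LK LD1_c1 LD2_c55 LD3_c12)) :=
  Lgr Lrot86 (Lpe (K12.f187082 IH) (Lpe (f250972 IH) (Lpr_ef (K13.f246378 IH) (Lpr_ff (f287688 IH) (Lpe (K13.f229653 IH) (Lpn (LP (LK LD1_c1 LD2_c55 LD3_c12))))))))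
theorem f287698 : Led Lsl_ff (LP (LK LD1_c1 LD2_c1 LD3_c34)) = (LP (LK LD1_c1 LD2_c55 LD3_c21)) :=
  Lgr Lrot23 (Lpe (K10.f181973 IH) (Lpr_ft (f287692 IH) (Lpr_ct (K12.f229476 IH) (Lpn (LP (LK LD1_c1 LD2_c55 LD3_c21))))))
theorem f287704 : Led Lsl_ft (LP (LK LD1_c2 LD2_c8 LD3_c46)) = (LP (LK LD1_c3 LD2_c57 LD3_c12)) :=
  Lgr Lrot54 (Lpe (K14.f200550 IH) (Lpr_ff (f287698 IH) (Lpe (K14.f229502 IH) (Lpn (LP (LK LD1_c3 LD2_c57 LD3_c12))))))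
theorem f230399 : Led Lsl_at (LP (LK LD1_c3 LD2_c57 LD3_c12)) = (LP (LK LD1_c7 LD2_c56 LD3_c3)) :=
  Lre_a IH (LK LD1_c3 LD2_c57 LD3_c12) (LK LD1_c7 LD2_c56 LD3_c3) Lrfl Lrfl
theorem f287714 : Led Lsl_gt (LP (LK LD1_c4 LD2_c22 LD3_c39)) = (LP (LK LD1_c7 LD2_c56 LD3_c3)) :=
  Lgr Lrot46 (Lpe (K14.f200554 IH) (Lpr_ft (f287704 IH) (Lpr_at (f230399 IH) (Lpn (LP (LK LD1_c7 LD2_c56 LD3_c3))))))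
theorem f262667 : Led Lsl_ct (LP (LK LD1_c8 LD2_c21 LD3_c28)) = (LP (LK LD1_c8 LD2_c25 LD3_c8)) :=
  Lgr Lrot59 (Lpr_cf (K15.f262662 IH) (Lpn (LP (LK LD1_c8 LD2_c25 LD3_c8))))
theorem f270672 : Led Lsl_ft (LP (LK LD1_c2 LD2_c58 LD3_c20)) = (LP (LK LD1_c4 LD2_c10 LD3_c36)) :=
  Lgr Lrot48 (Lpr_ff (K16.f270663 IH) (Lpn (LP (LK LD1_c4 LD2_c10 LD3_c36))))
theorem f270684 : Led Lsl_gt (LP (LK LD1_c4 LD2_c15 LD3_c26)) = (LP (LK LD1_c4 LD2_c16 LD3_c41)) :=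
  Lgr Lrot46 (Lpe (K15.f257980 IH) (Lpr_ft (f270672 IH) (Lpe (K16.f232850 IH) (Lpn (LP (LK LD1_c4 LD2_c16 LD3_c41))))))
theorem f790 : Led Lsl_at (LP (LK LD1_c0 LD2_c26 LD3_c20)) = (LP (LK LD1_c0 LD2_c57 LD3_c49)) :=
  Lre_a IH (LK LD1_c0 LD2_c26 LD3_c20) (LK LD1_c0 LD2_c57 LD3_c49) Lrfl Lrfl
theorem f791 : Led Lsl_at (LP (LK LD1_c0 LD2_c59 LD3_c38)) = (LP (LK LD1_c0 LD2_c27 LD3_c11)) :=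
  Lre_a IH (LK LD1_c0 LD2_c59 LD3_c38) (LK LD1_c0 LD2_c27 LD3_c11) Lrfl Lrfl
theorem f51536 : Led Lsl_bt (LP (LK LD1_c0 LD2_c57 LD3_c49)) = (LP (LK LD1_c0 LD2_c59 LD3_c38)) :=
  Lgr Lrot62 (Lpe (f790 IH) (Lpe (K9.f582 IH) (Lpr_af (K9.f51516 IH) (Lpe (K9.f583 IH) (Lpe (f791 IH) (Lpn (LP (LK LD1_c0 LD2_c59 LD3_c38))))))))
theorem f222081 : Led Lsl_bt (LP (LK LD1_c2 LD2_c3 LD3_c45)) = (LP (LK LD1_c4 LD2_c12 LD3_c55)) :=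
  Lre_b IH (LK LD1_c2 LD2_c3 LD3_c45) (LK LD1_c4 LD2_c12 LD3_c55) Lrfl Lrfl
theorem f167246 : Led Lsl_ct (LP (LK LD1_c2 LD2_c3 LD3_c45)) = (LP (LK LD1_c4 LD2_c12 LD3_c56)) :=
  Lre_c IH (LK LD1_c2 LD2_c3 LD3_c45) (LK LD1_c4 LD2_c12 LD3_c56) Lrfl Lrfl
theorem f257918 : Led Lsl_gt (LP (LK LD1_c8 LD2_c12 LD3_c58)) = (LP (LK LD1_c4 LD2_c12 LD3_c56)) :=
  Lgr Lrot65 (Lpe (K15.f221998 IH) (Lpr_bt (K15.f51564 IH) (Lpe (K16.f807 IH) (Lpe (f51536 IH) (Lpr_ct (K13.f886 IH) (Lpe (K14.f1305 IH) (Lpr_cf (K15.f257903 IH) (Lpe (K15.f257914 IH) (Lpe (f222081 IH) (Lpr_ct (f167246 IH) (Lpn (LP (LK LD1_c4 LD2_c12 LD3_c56)))))))))))))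
theorem f222157 : Led Lsl_dt (LP (LK LD1_c4 LD2_c12 LD3_c56)) = (LP (LK LD1_c8 LD2_c25 LD3_c8)) :=
  Lre_d IH (LK LD1_c4 LD2_c12 LD3_c56) (LK LD1_c8 LD2_c25 LD3_c8) Lrfl Lrfl
theorem f270696 : Led Lsl_gt (LP (LK LD1_c8 LD2_c25 LD3_c8)) = (LP (LK LD1_c8 LD2_c40 LD3_c54)) :=
  Lgr Lrot49 (Lpe (f222157 IH) (Lpe (f257918 IH) (Lpe (K15.f221998 IH) (Lpr_gt (f270684 IH) (Lpr_dt (K13.f187068 IH) (Lpr_gt (K13.f232254 IH) (Lpr_dt (K14.f187076 IH) (Lpe (K14.f211426 IH) (Lpe (K16.f211427 IH) (Lpn (LP (LK LD1_c8 LD2_c40 LD3_c54))))))))))))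
theorem f254517 : Led Lsl_gf (LP (LK LD1_c4 LD2_c54 LD3_c1)) = (LP (LK LD1_c4 LD2_c19 LD3_c7)) :=
  Lgr Lrot129 (Lpr_cf (K16.f184846 IH) (Lpr_bt (K16.f254506 IH) (Lpr_gt (K13.f168336 IH) (Lpe (K13.f168316 IH) (Lpe (K9.f168320 IH) (Lpr_gt (K9.f179111 IH) (Lpe (K9.f6822 IH) (Lpr_bt (K14.f200386 IH) (Lpr_gt (K14.f200612 IH) (Lpr_ct (K14.f200625 IH) (Lpn (LP (LK LD1_c4 LD2_c19 LD3_c7)))))))))))))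
theorem f169147 : Led Lsl_ct (LP (LK LD1_c2 LD2_c36 LD3_c57)) = (LP (LK LD1_c1 LD2_c15 LD3_c30)) :=
  Lre_c IH (LK LD1_c2 LD2_c36 LD3_c57) (LK LD1_c1 LD2_c15 LD3_c30) Lrfl Lrfl
theorem f184256 : Led Lsl_gt (LP (LK LD1_c8 LD2_c32 LD3_c50)) = (LP (LK LD1_c4 LD2_c16 LD3_c46)) :=
  Lre_g IH (LK LD1_c8 LD2_c32 LD3_c50) (LK LD1_c4 LD2_c16 LD3_c46) Lrfl Lrfl
theorem f287720 : Led Lsl_cf (LP (LK LD1_c8 LD2_c32 LD3_c50)) = (LP (LK LD1_c7 LD2_c56 LD3_c3)) :=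
  Lgr Lrot169 (Lpr_gt (f184256 IH) (Lpr_ct (K15.f184255 IH) (Lpr_df (K14.f184244 IH) (Lpe (f169147 IH) (Lpr_gf (K14.f251036 IH) (Lpe (K15.f251045 IH) (Lpr_gf (f254517 IH) (Lpr_df (K14.f255982 IH) (Lpr_gt (f287714 IH) (Lpn (LP (LK LD1_c7 LD2_c56 LD3_c3))))))))))))
theorem f287724 : Led Lsl_df (LP (LK LD1_c11 LD2_c52 LD3_c10)) = (LP (LK LD1_c8 LD2_c32 LD3_c50)) :=
  Lgr Lrot162 (Lpe (K16.f270545 IH) (Lpe (f270696 IH) (Lpe (f262667 IH) (Lpe (K15.f167108 IH) (Lpr_dt (K14.f167216 IH) (Lpr_gt (K14.f170893 IH) (Lpr_ct (K14.f252043 IH) (Lpr_gt (f287714 IH) (Lpe (f287720 IH) (Lpn (LP (LK LD1_c8 LD2_c32 LD3_c50))))))))))))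
theorem f251917 : Led Lsl_ct (LP (LK LD1_c4 LD2_c18 LD3_c50)) = (LP (LK LD1_c8 LD2_c21 LD3_c16)) :=
  Lgr Lrot176 (Lpe (K16.f179751 IH) (Lpe (K14.f179731 IH) (Lpe (K14.f171499 IH) (Lpr_cf (K10.f187061 IH) (Lpe (K10.f169377 IH) (Lpe (K14.f167767 IH) (Lpe (K14.f167768 IH) (Lpr_cf (K14.f251909 IH) (Lpe (K14.f251908 IH) (Lpe (K14.f251907 IH) (Lpe (K14.f251906 IH) (Lpr_cf (K14.f228919 IH) (Lpe (K14.f251891 IH) (Lpe (K14.f251888 IH) (Lpe (K14.f251916 IH) (Lpn (LP (LK LD1_c8 LD2_c21 LD3_c16))))))))))))))))))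
theorem f232211 : Led Lsl_gt (LP (LK LD1_c8 LD2_c36 LD3_c21)) = (LP (LK LD1_c4 LD2_c18 LD3_c50)) :=
  Lre_g IH (LK LD1_c8 LD2_c36 LD3_c21) (LK LD1_c4 LD2_c18 LD3_c50) Lrfl Lrfl
theorem f287732 : Led Lsl_ct (LP (LK LD1_c8 LD2_c32 LD3_c42)) = (LP (LK LD1_c8 LD2_c36 LD3_c21)) :=
  Lgr Lrot152 (Lpr_gf (K16.f232822 IH) (Lpr_df (f287724 IH) (Lpr_gt (f184256 IH) (Lpr_ct (K15.f184255 IH) (Lpe (K15.f258310 IH) (Lpr_ct (K14.f251890 IH) (Lpe (K14.f251916 IH) (Lpe (f251917 IH) (Lpe (f232211 IH) (Lpn (LP (LK LD1_c8 LD2_c36 LD3_c21))))))))))))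
theorem f251758 : Led Lsl_gt (LP (LK LD1_c4 LD2_c12 LD3_c56)) = (LP (LK LD1_c4 LD2_c21 LD3_c54)) :=
  Lgr Lrot65 (Lpe (f167246 IH) (Lpr_bt (f222081 IH) (Lpr_gf (K14.f251750 IH) (Lpe (K14.f170335 IH) (Lpe (K13.f193274 IH) (Lpe (K13.f39000 IH) (Lpe (K1.f38929 IH) (Lpe (K12.f216699 IH) (Lpe (K12.f216736 IH) (Lpr_ct (K13.f216731 IH) (Lpn (LP (LK LD1_c4 LD2_c21 LD3_c54)))))))))))))
theorem f216730 : Led Lsl_ct (LP (LK LD1_c4 LD2_c21 LD3_c54)) = (LP (LK LD1_c2 LD2_c8 LD3_c26)) :=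
  Lre_c IH (LK LD1_c4 LD2_c21 LD3_c54) (LK LD1_c2 LD2_c8 LD3_c26) Lrfl Lrfl
theorem f287744 : Led Lsl_dt (LP (LK LD1_c4 LD2_c52 LD3_c9)) = (LP (LK LD1_c8 LD2_c36 LD3_c21)) :=
  Lgr Lrot27 (Lpe (K14.f200135 IH) (Lpr_gf (K12.f216721 IH) (Lpe (f216730 IH) (Lpe (f251758 IH) (Lpe (K12.f222213 IH) (Lpr_gt (f270696 IH) (Lpr_ct (K16.f270545 IH) (Lpe (K16.f232822 IH) (Lpr_ct (f287732 IH) (Lpn (LP (LK LD1_c8 LD2_c36 LD3_c21))))))))))))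
theorem f167769 : Led Lsl_gt (LP (LK LD1_c8 LD2_c33 LD3_c10)) = (LP (LK LD1_c4 LD2_c16 LD3_c54)) :=
  Lre_g IH (LK LD1_c8 LD2_c33 LD3_c10) (LK LD1_c4 LD2_c16 LD3_c54) Lrfl Lrfl
theorem f251997 : Led Lsl_gt (LP (LK LD1_c8 LD2_c21 LD3_c16)) = (LP (LK LD1_c8 LD2_c33 LD3_c10)) :=
  Lgr Lrot5 (Lpe (K14.f251977 IH) (Lpr_at (K14.f251987 IH) (Lpe (f167769 IH) (Lpn (LP (LK LD1_c8 LD2_c33 LD3_c10))))))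
theorem f287748 : Led Lsl_cf (LP (LK LD1_c8 LD2_c35 LD3_c57)) = (LP (LK LD1_c8 LD2_c33 LD3_c10)) :=
  Lgr Lrot175 (Lpr_dt (K12.f188813 IH) (Lpe (K12.f188827 IH) (Lpr_gf (K14.f221828 IH) (Lpe (K14.f2875 IH) (Lpe (K14.f2878 IH) (Lpr_dt (f287744 IH) (Lpr_gt (f232211 IH) (Lpr_ct (f251917 IH) (Lpr_gt (f251997 IH) (Lpn (LP (LK LD1_c8 LD2_c33 LD3_c10))))))))))))
theorem f222861 : Led Lsl_at (LP (LK LD1_c8 LD2_c25 LD3_c8)) = (LP (LK LD1_c8 LD2_c35 LD3_c57)) :=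
  Lgr Lrot100 (Lpr_af (K12.f222859 IH) (Lpn (LP (LK LD1_c8 LD2_c35 LD3_c57))))
theorem f44495 : Led Lsl_dt (LP (LK LD1_c8 LD2_c13 LD3_c0)) = (LP (LK LD1_c4 LD2_c6 LD3_c11)) :=
  Lre_d IH (LK LD1_c8 LD2_c13 LD3_c0) (LK LD1_c4 LD2_c6 LD3_c11) Lrfl Lrfl
theorem f287758 : Led Lsl_dt (LP (LK LD1_c4 LD2_c17 LD3_c40)) = (LP (LK LD1_c8 LD2_c33 LD3_c10)) :=
  Lgr Lrot120 (Lpr_cf (K16.f270890 IH) (Lpe (K12.f44496 IH) (Lpe (K10.f44487 IH) (Lpe (K10.f44493 IH) (Lpe (K12.f44494 IH) (Lpe (f44495 IH) (Lpe (K12.f222876 IH) (Lpr_at (f222861 IH) (Lpr_cf (f287748 IH) (Lpn (LP (LK LD1_c8 LD2_c33 LD3_c10))))))))))))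
theorem f287735 : Led Lsl_cf (LP (LK LD1_c8 LD2_c32 LD3_c42)) = (LP (LK LD1_c8 LD2_c36 LD3_c21)) :=
  Lgr Lrot11 (Lpr_ct (f287732 IH) (Lpn (LP (LK LD1_c8 LD2_c36 LD3_c21))))
theorem f287766 : Led Lsl_gf (LP (LK LD1_c8 LD2_c36 LD3_c21)) = (LP (LK LD1_c8 LD2_c25 LD3_c11)) :=
  Lgr Lrot172 (Lpe (f287735 IH) (Lpr_dt (K15.f232233 IH) (Lpe (K14.f170066 IH) (Lpr_gf (K14.f232845 IH) (Lpe (K16.f7957 IH) (Lpe (K16.f7962 IH) (Lpr_dt (f287758 IH) (Lpr_gt (f167769 IH) (Lpr_ct (K14.f251914 IH) (Lpn (LP (LK LD1_c8 LD2_c25 LD3_c11))))))))))))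
theorem f270575 : Led Lsl_at (LP (LK LD1_c4 LD2_c21 LD3_c2)) = (LP (LK LD1_c2 LD2_c8 LD3_c8)) :=
  Lre_a IH (LK LD1_c4 LD2_c21 LD3_c2) (LK LD1_c2 LD2_c8 LD3_c8) Lrfl Lrfl
theorem f270576 : Led Lsl_ef (LP (LK LD1_c4 LD2_c21 LD3_c2)) = (LP (LK LD1_c4 LD2_c52 LD3_c9)) :=
  Lgr Lrot20 (Lpr_at (f270575 IH) (Lpr_et (K16.f232427 IH) (Lpr_at (K16.f270566 IH) (Lpn (LP (LK LD1_c4 LD2_c52 LD3_c9))))))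
theorem f267483 : Led Lsl_et (LP (LK LD1_c4 LD2_c19 LD3_c33)) = (LP (LK LD1_c8 LD2_c37 LD3_c22)) :=
  Lre_e IH (LK LD1_c4 LD2_c19 LD3_c33) (LK LD1_c8 LD2_c37 LD3_c22) Lrfl Lrfl
theorem f251952 : Led Lsl_et (LP (LK LD1_c4 LD2_c12 LD3_c58)) = (LP (LK LD1_c8 LD2_c25 LD3_c12)) :=
  Lre_e IH (LK LD1_c4 LD2_c12 LD3_c58) (LK LD1_c8 LD2_c25 LD3_c12) Lrfl Lrfl
theorem f287795 : Led Lsl_gt (LP (LK LD1_c8 LD2_c37 LD3_c22)) = (LP (LK LD1_c8 LD2_c25 LD3_c12)) :=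
  Lgr Lrot131 (Lpe (f267483 IH) (Lpr_dt (K16.f267127 IH) (Lpr_gf (K15.f267164 IH) (Lpe (K15.f180083 IH) (Lpe (K15.f192374 IH) (Lpr_ef (f270576 IH) (Lpr_dt (f287744 IH) (Lpr_gf (f287766 IH) (Lpe (K14.f251908 IH) (Lpr_et (f251952 IH) (Lpn (LP (LK LD1_c8 LD2_c25 LD3_c12)))))))))))))
theorem f287800 : Led Lsl_at (LP (LK LD1_c4 LD2_c13 LD3_c10)) = (LP (LK LD1_c8 LD2_c25 LD3_c12)) :=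
  Lre_a IH (LK LD1_c4 LD2_c13 LD3_c10) (LK LD1_c8 LD2_c25 LD3_c12) Lrfl Lrfl
theorem f287801 : Led Lsl_ft (LP (LK LD1_c8 LD2_c25 LD3_c39)) = (LP (LK LD1_c4 LD2_c13 LD3_c10)) :=
  Lre_f IH (LK LD1_c8 LD2_c25 LD3_c39) (LK LD1_c4 LD2_c13 LD3_c10) Lrfl Lrfl
theorem f287802 : Led Lsl_gf (LP (LK LD1_c8 LD2_c37 LD3_c22)) = (LP (LK LD1_c8 LD2_c25 LD3_c39)) :=
  Lgr Lrot47 (Lpr_gt (f287795 IH) (Lpe (f287800 IH) (Lpe (f287801 IH) (Lpn (LP (LK LD1_c8 LD2_c25 LD3_c39))))))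
theorem f267138 : Led Lsl_et (LP (LK LD1_c8 LD2_c37 LD3_c22)) = (LP (LK LD1_c4 LD2_c19 LD3_c33)) :=
  Lre_e IH (LK LD1_c8 LD2_c37 LD3_c22) (LK LD1_c4 LD2_c19 LD3_c33) Lrfl Lrfl
theorem f166510 : Led Lsl_et (LP (LK LD1_c4 LD2_c12 LD3_c25)) = (LP (LK LD1_c8 LD2_c24 LD3_c28)) :=
  Lre_e IH (LK LD1_c4 LD2_c12 LD3_c25) (LK LD1_c8 LD2_c24 LD3_c28) Lrfl Lrfl
theorem f267479 : Led Lsl_af (LP (LK LD1_c8 LD2_c37 LD3_c22)) = (LP (LK LD1_c8 LD2_c24 LD3_c28)) :=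
  Lgr Lrot50 (Lpr_et (f267138 IH) (Lpr_at (K15.f267473 IH) (Lpr_et (f166510 IH) (Lpn (LP (LK LD1_c8 LD2_c24 LD3_c28))))))
theorem f250992 : Led Lsl_gt (LP (LK LD1_c10 LD2_c33 LD3_c43)) = (LP (LK LD1_c5 LD2_c21 LD3_c45)) :=
  Lre_g IH (LK LD1_c10 LD2_c33 LD3_c43) (LK LD1_c5 LD2_c21 LD3_c45) Lrfl Lrfl
theorem f284479 : Led Lsl_gt (LP (LK LD1_c15 LD2_c32 LD3_c2)) = (LP (LK LD1_c10 LD2_c33 LD3_c43)) :=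
  Lgr Lrot5 (Lpr_ft (f188111 IH) (Lpr_at (f284468 IH) (Lpe (f250992 IH) (Lpn (LP (LK LD1_c10 LD2_c33 LD3_c43))))))
theorem f43076 : Led Lsl_et (LP (LK LD1_c2 LD2_c8 LD3_c9)) = (LP (LK LD1_c4 LD2_c21 LD3_c17)) :=
  Lre_e IH (LK LD1_c2 LD2_c8 LD3_c9) (LK LD1_c4 LD2_c21 LD3_c17) Lrfl Lrfl
theorem f43080 : Led Lsl_gt (LP (LK LD1_c4 LD2_c21 LD3_c17)) = (LP (LK LD1_c8 LD2_c40 LD3_c13)) :=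
  Lre_g IH (LK LD1_c4 LD2_c21 LD3_c17) (LK LD1_c8 LD2_c40 LD3_c13) Lrfl Lrfl
theorem f267453 : Led Lsl_et (LP (LK LD1_c16 LD2_c14 LD3_c17)) = (LP (LK LD1_c8 LD2_c40 LD3_c13)) :=
  Lre_e IH (LK LD1_c16 LD2_c14 LD3_c17) (LK LD1_c8 LD2_c40 LD3_c13) Lrfl Lrfl
theorem f276724 : Led Lsl_df (LP (LK LD1_c10 LD2_c33 LD3_c43)) = (LP (LK LD1_c16 LD2_c14 LD3_c17)) :=
  Lgr Lrot170 (Lpr_gt (f250992 IH) (Lpr_df (K16.f250987 IH) (Lpr_et (K16.f276715 IH) (Lpe (K15.f267448 IH) (Lpr_dt (K12.f47645 IH) (Lpr_gt (K12.f213773 IH) (Lpe (K12.f43078 IH) (Lpr_et (f43076 IH) (Lpr_gt (f43080 IH) (Lpe (f267453 IH) (Lpn (LP (LK LD1_c16 LD2_c14 LD3_c17)))))))))))))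
theorem f42016 : Led Lsl_ef (LP (LK LD1_c2 LD2_c58 LD3_c20)) = (LP (LK LD1_c2 LD2_c8 LD3_c2)) :=
  Lgr Lrot73 (Lpr_dt (K14.f29053 IH) (Lpr_et (K0.f29039 IH) (Lpr_dt (K1.f41877 IH) (Lpr_et (K12.f41839 IH) (Lpr_dt (K15.f41856 IH) (Lpn (LP (LK LD1_c2 LD2_c8 LD3_c2))))))))
theorem f219743 : Led Lsl_ft (LP (LK LD1_c2 LD2_c8 LD3_c9)) = (LP (LK LD1_c1 LD2_c1 LD3_c12)) :=
  Lre_f IH (LK LD1_c2 LD2_c8 LD3_c9) (LK LD1_c1 LD2_c1 LD3_c12) Lrfl Lrfl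
theorem f42010 : Led Lsl_at (LP (LK LD1_c1 LD2_c1 LD3_c12)) = (LP (LK LD1_c2 LD2_c8 LD3_c2)) :=
  Lre_a IH (LK LD1_c1 LD2_c1 LD3_c12) (LK LD1_c2 LD2_c8 LD3_c2) Lrfl Lrfl
theorem f219744 : Led Lsl_ft (LP (LK LD1_c2 LD2_c8 LD3_c2)) = (LP (LK LD1_c4 LD2_c8 LD3_c52)) :=
  Lgr Lrot101 (Lpe (f42010 IH) (Lpe (f219743 IH) (Lpr_af (K12.f219733 IH) (Lpn (LP (LK LD1_c4 LD2_c8 LD3_c52))))))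
theorem f219748 : Led Lsl_ff (LP (LK LD1_c2 LD2_c8 LD3_c2)) = (LP (LK LD1_c4 LD2_c8 LD3_c52)) :=
  Lgr Lrot3 (Lpr_ft (f219744 IH) (Lpn (LP (LK LD1_c4 LD2_c8 LD3_c52))))
theorem f219740 : Led Lsl_et (LP (LK LD1_c8 LD2_c17 LD3_c54)) = (LP (LK LD1_c4 LD2_c8 LD3_c52)) :=
  Lre_e IH (LK LD1_c8 LD2_c17 LD3_c54) (LK LD1_c4 LD2_c8 LD3_c52) Lrfl Lrfl
theorem f232860 : Led Lsl_et (LP (LK LD1_c4 LD2_c10 LD3_c36)) = (LP (LK LD1_c8 LD2_c21 LD3_c11)) :=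
  Lre_e IH (LK LD1_c4 LD2_c10 LD3_c36) (LK LD1_c8 LD2_c21 LD3_c11) Lrfl Lrfl
theorem f270682 : Led Lsl_ff (LP (LK LD1_c8 LD2_c17 LD3_c54)) = (LP (LK LD1_c8 LD2_c21 LD3_c11)) :=
  Lgr Lrot72 (Lpr_et (f219740 IH) (Lpe (f219748 IH) (Lpe (f42016 IH) (Lpr_ft (f270672 IH) (Lpr_et (f232860 IH) (Lpn (LP (LK LD1_c8 LD2_c21 LD3_c11))))))))
theorem f219746 : Led Lsl_bf (LP (LK LD1_c2 LD2_c2 LD3_c12)) = (LP (LK LD1_c4 LD2_c8 LD3_c52)) :=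
  Lgr Lrot61 (Lpe (K12.f219162 IH) (Lpr_bt (K1.f41978 IH) (Lpr_ft (f219744 IH) (Lpn (LP (LK LD1_c4 LD2_c8 LD3_c52))))))
theorem f219753 : Led Lsl_bt (LP (LK LD1_c4 LD2_c9 LD3_c61)) = (LP (LK LD1_c8 LD2_c17 LD3_c54)) :=
  Lgr Lrot119 (Lpe (K13.f184460 IH) (Lpr_bf (f219746 IH) (Lpe (f219740 IH) (Lpn (LP (LK LD1_c8 LD2_c17 LD3_c54))))))
theorem f219755 : Led Lsl_af (LP (LK LD1_c4 LD2_c21 LD3_c17)) = (LP (LK LD1_c8 LD2_c17 LD3_c54)) :=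
  Lgr Lrot36 (Lpr_bt (K16.f39119 IH) (Lpe (K1.f39102 IH) (Lpr_bt (K13.f199837 IH) (Lpr_at (K13.f219206 IH) (Lpr_bt (f219753 IH) (Lpn (LP (LK LD1_c8 LD2_c17 LD3_c54))))))))
theorem f270703 : Led Lsl_at (LP (LK LD1_c8 LD2_c32 LD3_c40)) = (LP (LK LD1_c8 LD2_c21 LD3_c11)) :=
  Lgr Lrot66 (Lpr_ff (K16.f232421 IH) (Lpr_af (f219755 IH) (Lpr_ff (f270682 IH) (Lpn (LP (LK LD1_c8 LD2_c21 LD3_c11))))))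
theorem f270715 : Led Lsl_gt (LP (LK LD1_c8 LD2_c40 LD3_c13)) = (LP (LK LD1_c8 LD2_c21 LD3_c11)) :=
  Lgr Lrot46 (Lpe (f43080 IH) (Lpe (K16.f232421 IH) (Lpr_at (f270703 IH) (Lpn (LP (LK LD1_c8 LD2_c21 LD3_c11))))))
theorem f191835 : Led Lsl_dt (LP (LK LD1_c4 LD2_c10 LD3_c36)) = (LP (LK LD1_c2 LD2_c2 LD3_c33)) :=
  Lre_d IH (LK LD1_c4 LD2_c10 LD3_c36) (LK LD1_c2 LD2_c2 LD3_c33) Lrfl Lrfl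
theorem f220664 : Led Lsl_gt (LP (LK LD1_c4 LD2_c15 LD3_c55)) = (LP (LK LD1_c8 LD2_c30 LD3_c51)) :=
  Lre_g IH (LK LD1_c4 LD2_c15 LD3_c55) (LK LD1_c8 LD2_c30 LD3_c51) Lrfl Lrfl
theorem f284481 : Led Lsl_df (LP (LK LD1_c15 LD2_c32 LD3_c2)) = (LP (LK LD1_c8 LD2_c30 LD3_c51)) :=
  Lgr Lrot135 (Lpr_gt (f284479 IH) (Lpr_df (f276724 IH) (Lpr_et (f267453 IH) (Lpr_gt (f270715 IH) (Lpe (f232860 IH) (Lpr_dt (f191835 IH) (Lpr_gt (K16.f266255 IH) (Lpe (K16.f220676 IH) (Lpr_et (K13.f220641 IH) (Lpr_gt (f220664 IH) (Lpn (LP (LK LD1_c8 LD2_c30 LD3_c51)))))))))))))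
theorem f284489 : Led Lsl_ft (LP (LK LD1_c8 LD2_c17 LD3_c59)) = (LP (LK LD1_c8 LD2_c30 LD3_c51)) :=
  Lgr Lrot54 (Lpr_df (K15.f267147 IH) (Lpe (f188111 IH) (Lpr_df (f284481 IH) (Lpn (LP (LK LD1_c8 LD2_c30 LD3_c51))))))
theorem f237123 : Led Lsl_et (LP (LK LD1_c8 LD2_c7 LD3_c54)) = (LP (LK LD1_c4 LD2_c3 LD3_c44)) :=
  Lre_e IH (LK LD1_c8 LD2_c7 LD3_c54) (LK LD1_c4 LD2_c3 LD3_c44) Lrfl Lrfl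
theorem f237160 : Led Lsl_ft (LP (LK LD1_c15 LD2_c18 LD3_c42)) = (LP (LK LD1_c8 LD2_c7 LD3_c54)) :=
  Lre_f IH (LK LD1_c15 LD2_c18 LD3_c42) (LK LD1_c8 LD2_c7 LD3_c54) Lrfl Lrfl
theorem f284491 : Led Lsl_ef (LP (LK LD1_c15 LD2_c18 LD3_c42)) = (LP (LK LD1_c8 LD2_c30 LD3_c51)) :=
  Lgr Lrot21 (Lpr_ft (f237160 IH) (Lpr_et (f237123 IH) (Lpe (K15.f267497 IH) (Lpr_et (K15.f267149 IH) (Lpr_ft (f284489 IH) (Lpn (LP (LK LD1_c8 LD2_c30 LD3_c51))))))))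
theorem f261039 : Led Lsl_at (LP (LK LD1_c15 LD2_c18 LD3_c29)) = (LP (LK LD1_c8 LD2_c7 LD3_c55)) :=
  Lre_a IH (LK LD1_c15 LD2_c18 LD3_c29) (LK LD1_c8 LD2_c7 LD3_c55) Lrfl Lrfl
theorem f237152 : Led Lsl_dt (LP (LK LD1_c8 LD2_c7 LD3_c55)) = (LP (LK LD1_c15 LD2_c18 LD3_c42)) :=
  Lre_d IH (LK LD1_c8 LD2_c7 LD3_c55) (LK LD1_c15 LD2_c18 LD3_c42) Lrfl Lrfl
theorem f261040 : Led Lsl_at (LP (LK LD1_c15 LD2_c18 LD3_c42)) = (LP (LK LD1_c15 LD2_c36 LD3_c29)) :=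
  Lgr Lrot51 (Lpe (f237152 IH) (Lpe (f261039 IH) (Lpr_df (K15.f261034 IH) (Lpn (LP (LK LD1_c15 LD2_c36 LD3_c29))))))
theorem f284464 : Led Lsl_at (LP (LK LD1_c15 LD2_c32 LD3_c2)) = (LP (LK LD1_c10 LD2_c33 LD3_c44)) :=
  Lgr Lrot100 (Lpr_af (f284461 IH) (Lpn (LP (LK LD1_c10 LD2_c33 LD3_c44))))
theorem f284150 : Led Lsl_bt (LP (LK LD1_c8 LD2_c21 LD3_c34)) = (LP (LK LD1_c4 LD2_c10 LD3_c49)) :=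
  Lre_b IH (LK LD1_c8 LD2_c21 LD3_c34) (LK LD1_c4 LD2_c10 LD3_c49) Lrfl Lrfl
theorem f284164 : Led Lsl_dt (LP (LK LD1_c10 LD2_c33 LD3_c44)) = (LP (LK LD1_c8 LD2_c21 LD3_c34)) :=
  Lgr Lrot79 (Lpe (K14.f253348 IH) (Lpr_df (f284162 IH) (Lpe (f284150 IH) (Lpn (LP (LK LD1_c8 LD2_c21 LD3_c34))))))
theorem f284483 : Led Lsl_at (LP (LK LD1_c8 LD2_c21 LD3_c34)) = (LP (LK LD1_c8 LD2_c30 LD3_c51)) :=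
  Lgr Lrot51 (Lpe (f284164 IH) (Lpe (f284464 IH) (Lpr_df (f284481 IH) (Lpn (LP (LK LD1_c8 LD2_c30 LD3_c51))))))
theorem f284511 : Led Lsl_et (LP (LK LD1_c15 LD2_c36 LD3_c29)) = (LP (LK LD1_c8 LD2_c21 LD3_c34)) :=
  Lgr Lrot123 (Lpe (f261040 IH) (Lpr_ef (f284491 IH) (Lpe (f284483 IH) (Lpn (LP (LK LD1_c8 LD2_c21 LD3_c34))))))
theorem f284516 : Led Lsl_ff (LP (LK LD1_c8 LD2_c30 LD3_c52)) = (LP (LK LD1_c8 LD2_c21 LD3_c34)) :=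
  Lgr Lrot72 (Lpr_et (K16.f276715 IH) (Lpe (K15.f267451 IH) (Lpr_et (K15.f260819 IH) (Lpr_ft (K15.f260807 IH) (Lpr_et (f284511 IH) (Lpn (LP (LK LD1_c8 LD2_c21 LD3_c34))))))))
theorem f166525 : Led Lsl_et (LP (LK LD1_c8 LD2_c24 LD3_c28)) = (LP (LK LD1_c4 LD2_c12 LD3_c25)) :=
  Lre_e IH (LK LD1_c8 LD2_c24 LD3_c28) (LK LD1_c4 LD2_c12 LD3_c25) Lrfl Lrfl
theorem f276713 : Led Lsl_ct (LP (LK LD1_c8 LD2_c30 LD3_c52)) = (LP (LK LD1_c8 LD2_c24 LD3_c28)) :=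
  Lgr Lrot15 (Lpr_ef (K16.f276707 IH) (Lpe (K15.f166507 IH) (Lpe (f166525 IH) (Lpn (LP (LK LD1_c8 LD2_c24 LD3_c28))))))
theorem f284524 : Led Lsl_ct (LP (LK LD1_c15 LD2_c43 LD3_c56)) = (LP (LK LD1_c8 LD2_c21 LD3_c34)) :=
  Lre_c IH (LK LD1_c15 LD2_c43 LD3_c56) (LK LD1_c8 LD2_c21 LD3_c34) Lrfl Lrfl
theorem f284635 : Led Lsl_ft (LP (LK LD1_c8 LD2_c24 LD3_c28)) = (LP (LK LD1_c15 LD2_c43 LD3_c56)) :=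
  Lgr Lrot4 (Lpe (f276713 IH) (Lpr_ff (f284516 IH) (Lpe (f284524 IH) (Lpn (LP (LK LD1_c15 LD2_c43 LD3_c56))))))
theorem f284637 : Led Lsl_ff (LP (LK LD1_c8 LD2_c24 LD3_c28)) = (LP (LK LD1_c15 LD2_c43 LD3_c56)) :=
  Lgr Lrot3 (Lpr_ft (f284635 IH) (Lpn (LP (LK LD1_c15 LD2_c43 LD3_c56))))
theorem f287804 : Led Lsl_gt (LP (LK LD1_c15 LD2_c43 LD3_c56)) = (LP (LK LD1_c8 LD2_c25 LD3_c39)) :=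
  Lgr Lrot5 (Lpe (f284637 IH) (Lpe (f267479 IH) (Lpr_gf (f287802 IH) (Lpn (LP (LK LD1_c8 LD2_c25 LD3_c39))))))
theorem f284513 : Led Lsl_ct (LP (LK LD1_c8 LD2_c21 LD3_c34)) = (LP (LK LD1_c15 LD2_c43 LD3_c56)) :=
  Lre_c IH (LK LD1_c8 LD2_c21 LD3_c34) (LK LD1_c15 LD2_c43 LD3_c56) Lrfl Lrfl
theorem f261038 : Led Lsl_gt (LP (LK LD1_c15 LD2_c18 LD3_c29)) = (LP (LK LD1_c8 LD2_c7 LD3_c53)) :=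
  Lre_g IH (LK LD1_c15 LD2_c18 LD3_c29) (LK LD1_c8 LD2_c7 LD3_c53) Lrfl Lrfl
theorem f222011 : Led Lsl_et (LP (LK LD1_c8 LD2_c29 LD3_c46)) = (LP (LK LD1_c4 LD2_c15 LD3_c26)) :=
  Lre_e IH (LK LD1_c8 LD2_c29 LD3_c46) (LK LD1_c4 LD2_c15 LD3_c26) Lrfl Lrfl
theorem f284518 : Led Lsl_gt (LP (LK LD1_c4 LD2_c21 LD3_c40)) = (LP (LK LD1_c8 LD2_c21 LD3_c34)) :=
  Lgr Lrot131 (Lpe (K13.f187084 IH) (Lpr_dt (K13.f187074 IH) (Lpe (K13.f232254 IH) (Lpe (K13.f187068 IH) (Lpe (f270684 IH) (Lpe (f222011 IH) (Lpe (K16.f274507 IH) (Lpe (f261038 IH) (Lpr_df (K15.f261034 IH) (Lpr_et (f284511 IH) (Lpn (LP (LK LD1_c8 LD2_c21 LD3_c34)))))))))))))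
theorem f28842 : Led Lsl_bt (LP (LK LD1_c2 LD2_c8 LD3_c23)) = (LP (LK LD1_c4 LD2_c21 LD3_c40)) :=
  Lre_b IH (LK LD1_c2 LD2_c8 LD3_c23) (LK LD1_c4 LD2_c21 LD3_c40) Lrfl Lrfl
theorem f28843 : Led Lsl_ct (LP (LK LD1_c2 LD2_c8 LD3_c23)) = (LP (LK LD1_c4 LD2_c21 LD3_c43)) :=
  Lre_c IH (LK LD1_c2 LD2_c8 LD3_c23) (LK LD1_c4 LD2_c21 LD3_c43) Lrfl Lrfl
theorem f237904 : Led Lsl_dt (LP (LK LD1_c4 LD2_c18 LD3_c60)) = (LP (LK LD1_c8 LD2_c36 LD3_c34)) :=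
  Lre_d IH (LK LD1_c4 LD2_c18 LD3_c60) (LK LD1_c8 LD2_c36 LD3_c34) Lrfl Lrfl
theorem f238007 : Led Lsl_et (LP (LK LD1_c4 LD2_c18 LD3_c60)) = (LP (LK LD1_c8 LD2_c36 LD3_c35)) :=
  Lre_e IH (LK LD1_c4 LD2_c18 LD3_c60) (LK LD1_c8 LD2_c36 LD3_c35) Lrfl Lrfl
theorem f238013 : Led Lsl_gt (LP (LK LD1_c8 LD2_c36 LD3_c35)) = (LP (LK LD1_c4 LD2_c21 LD3_c43)) :=
  Lgr Lrot131 (Lpe (f238007 IH) (Lpr_dt (f237904 IH) (Lpr_gf (K13.f238008 IH) (Lpe (K13.f167259 IH) (Lpr_gf (K9.f167255 IH) (Lpe (K1.f29767 IH) (Lpr_dt (K1.f29246 IH) (Lpe (K12.f216424 IH) (Lpe (K12.f28946 IH) (Lpr_et (K15.f216607 IH) (Lpn (LP (LK LD1_c4 LD2_c21 LD3_c43)))))))))))))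
theorem f237910 : Led Lsl_ct (LP (LK LD1_c4 LD2_c18 LD3_c61)) = (LP (LK LD1_c8 LD2_c36 LD3_c35)) :=
  Lre_c IH (LK LD1_c4 LD2_c18 LD3_c61) (LK LD1_c8 LD2_c36 LD3_c35) Lrfl Lrfl
theorem f237916 : Led Lsl_bt (LP (LK LD1_c4 LD2_c18 LD3_c61)) = (LP (LK LD1_c2 LD2_c6 LD3_c47)) :=
  Lre_b IH (LK LD1_c4 LD2_c18 LD3_c61) (LK LD1_c2 LD2_c6 LD3_c47) Lrfl Lrfl
theorem f228863 : Led Lsl_ct (LP (LK LD1_c4 LD2_c13 LD3_c12)) = (LP (LK LD1_c8 LD2_c25 LD3_c39)) :=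
  Lre_c IH (LK LD1_c4 LD2_c13 LD3_c12) (LK LD1_c8 LD2_c25 LD3_c39) Lrfl Lrfl
theorem f228860 : Led Lsl_bt (LP (LK LD1_c4 LD2_c13 LD3_c12)) = (LP (LK LD1_c2 LD2_c3 LD3_c58)) :=
  Lre_b IH (LK LD1_c4 LD2_c13 LD3_c12) (LK LD1_c2 LD2_c3 LD3_c58) Lrfl Lrfl
theorem f287808 : Led Lsl_gf (LP (LK LD1_c2 LD2_c6 LD3_c47)) = (LP (LK LD1_c2 LD2_c3 LD3_c58)) :=
  Lgr Lrot124 (Lpe (f237916 IH) (Lpr_ct (f237910 IH) (Lpr_gt (f238013 IH) (Lpe (f28843 IH) (Lpr_bt (f28842 IH) (Lpr_gt (f284518 IH) (Lpr_ct (f284513 IH) (Lpr_gt (f287804 IH) (Lpe (f228863 IH) (Lpr_bt (f228860 IH) (Lpn (LP (LK LD1_c2 LD2_c3 LD3_c58)))))))))))))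
theorem f223696 : Led Lsl_dt (LP (LK LD1_c4 LD2_c4 LD3_c21)) = (LP (LK LD1_c2 LD2_c26 LD3_c15)) :=
  Lgr Lrot77 (Lpe (K14.f223695 IH) (Lpr_df (K12.f223689 IH) (Lpe (K12.f168339 IH) (Lpe (K12.f168525 IH) (Lpe (K14.f168365 IH) (Lpn (LP (LK LD1_c2 LD2_c26 LD3_c15))))))))
theorem f223686 : Led Lsl_et (LP (LK LD1_c4 LD2_c4 LD3_c21)) = (LP (LK LD1_c1 LD2_c59 LD3_c6)) :=
  Lre_e IH (LK LD1_c4 LD2_c4 LD3_c21) (LK LD1_c1 LD2_c59 LD3_c6) Lrfl Lrfl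
theorem f198855 : Led Lsl_gf (LP (LK LD1_c1 LD2_c59 LD3_c55)) = (LP (LK LD1_c1 LD2_c8 LD3_c41)) :=
  Lgr Lrot47 (Lpr_gt (K11.f198853 IH) (Lpe (K0.f27594 IH) (Lpe (K10.f27618 IH) (Lpn (LP (LK LD1_c1 LD2_c8 LD3_c41))))))
theorem f198859 : Led Lsl_et (LP (LK LD1_c4 LD2_c5 LD3_c28)) = (LP (LK LD1_c1 LD2_c59 LD3_c55)) :=
  Lre_e IH (LK LD1_c4 LD2_c5 LD3_c28) (LK LD1_c1 LD2_c59 LD3_c55) Lrfl Lrfl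
theorem f237914 : Led Lsl_df (LP (LK LD1_c4 LD2_c18 LD3_c61)) = (LP (LK LD1_c4 LD2_c5 LD3_c28)) :=
  Lgr Lrot170 (Lpr_gt (K14.f237908 IH) (Lpe (f223696 IH) (Lpr_et (f223686 IH) (Lpr_gt (K12.f223666 IH) (Lpr_dt (K12.f192822 IH) (Lpr_gt (K10.f193287 IH) (Lpe (K10.f27694 IH) (Lpe (K0.f27680 IH) (Lpe (f198855 IH) (Lpe (f198859 IH) (Lpn (LP (LK LD1_c4 LD2_c5 LD3_c28)))))))))))))
theorem f237922 : Led Lsl_dt (LP (LK LD1_c4 LD2_c18 LD3_c61)) = (LP (LK LD1_c4 LD2_c5 LD3_c28)) :=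
  Lgr Lrot42 (Lpr_df (f237914 IH) (Lpn (LP (LK LD1_c4 LD2_c5 LD3_c28))))
theorem f237912 : Led Lsl_bt (LP (LK LD1_c2 LD2_c6 LD3_c47)) = (LP (LK LD1_c4 LD2_c18 LD3_c61)) :=
  Lre_b IH (LK LD1_c2 LD2_c6 LD3_c47) (LK LD1_c4 LD2_c18 LD3_c61) Lrfl Lrfl
theorem f237968 : Led Lsl_bt (LP (LK LD1_c4 LD2_c5 LD3_c28)) = (LP (LK LD1_c1 LD2_c59 LD3_c56)) :=
  Lre_b IH (LK LD1_c4 LD2_c5 LD3_c28) (LK LD1_c1 LD2_c59 LD3_c56) Lrfl Lrfl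
theorem f237969 : Led Lsl_df (LP (LK LD1_c2 LD2_c6 LD3_c47)) = (LP (LK LD1_c1 LD2_c59 LD3_c56)) :=
  Lgr Lrot12 (Lpr_bt (f237912 IH) (Lpr_dt (f237922 IH) (Lpr_bt (f237968 IH) (Lpn (LP (LK LD1_c1 LD2_c59 LD3_c56))))))
theorem f198848 : Led Lsl_et (LP (LK LD1_c1 LD2_c59 LD3_c56)) = (LP (LK LD1_c0 LD2_c56 LD3_c52)) :=
  Lre_e IH (LK LD1_c1 LD2_c59 LD3_c56) (LK LD1_c0 LD2_c56 LD3_c52) Lrfl Lrfl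
theorem f177385 : Led Lsl_et (LP (LK LD1_c0 LD2_c39 LD3_c31)) = (LP (LK LD1_c1 LD2_c25 LD3_c38)) :=
  Lre_e IH (LK LD1_c0 LD2_c39 LD3_c31) (LK LD1_c1 LD2_c25 LD3_c38) Lrfl Lrfl
theorem f177462 : Led Lsl_gt (LP (LK LD1_c1 LD2_c25 LD3_c38)) = (LP (LK LD1_c2 LD2_c59 LD3_c50)) :=
  Lre_g IH (LK LD1_c1 LD2_c25 LD3_c38) (LK LD1_c2 LD2_c59 LD3_c50) Lrfl Lrfl
theorem f228831 : Led Lsl_ft (LP (LK LD1_c5 LD2_c36 LD3_c17)) = (LP (LK LD1_c2 LD2_c44 LD3_c1)) :=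
  Lre_f IH (LK LD1_c5 LD2_c36 LD3_c17) (LK LD1_c2 LD2_c44 LD3_c1) Lrfl Lrfl
theorem f228833 : Led Lsl_df (LP (LK LD1_c5 LD2_c36 LD3_c17)) = (LP (LK LD1_c4 LD2_c13 LD3_c12)) :=
  Lgr Lrot78 (Lpr_ft (f228831 IH) (Lpr_dt (K15.f228816 IH) (Lpr_ft (K16.f228832 IH) (Lpn (LP (LK LD1_c4 LD2_c13 LD3_c12))))))
theorem f228848 : Led Lsl_bt (LP (LK LD1_c5 LD2_c36 LD3_c17)) = (LP (LK LD1_c2 LD2_c44 LD3_c6)) :=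
  Lre_b IH (LK LD1_c5 LD2_c36 LD3_c17) (LK LD1_c2 LD2_c44 LD3_c6) Lrfl Lrfl
theorem f228849 : Led Lsl_bt (LP (LK LD1_c2 LD2_c3 LD3_c58)) = (LP (LK LD1_c4 LD2_c13 LD3_c12)) :=
  Lre_b IH (LK LD1_c2 LD2_c3 LD3_c58) (LK LD1_c4 LD2_c13 LD3_c12) Lrfl Lrfl
theorem f228850 : Led Lsl_dt (LP (LK LD1_c2 LD2_c44 LD3_c6)) = (LP (LK LD1_c2 LD2_c3 LD3_c58)) :=
  Lgr Lrot79 (Lpe (f228848 IH) (Lpr_df (f228833 IH) (Lpe (f228849 IH) (Lpn (LP (LK LD1_c2 LD2_c3 LD3_c58))))))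
theorem f287812 : Led Lsl_ef (LP (LK LD1_c2 LD2_c59 LD3_c50)) = (LP (LK LD1_c2 LD2_c44 LD3_c6)) :=
  Lgr Lrot17 (Lpe (f177462 IH) (Lpe (f177385 IH) (Lpr_dt (K10.f9087 IH) (Lpe (K9.f177379 IH) (Lpe (K2.f47910 IH) (Lpe (K15.f198851 IH) (Lpe (f198848 IH) (Lpe (f237969 IH) (Lpr_gf (f287808 IH) (Lpe (f228850 IH) (Lpn (LP (LK LD1_c2 LD2_c44 LD3_c6)))))))))))))
theorem f228871 : Led Lsl_ft (LP (LK LD1_c1 LD2_c18 LD3_c24)) = (LP (LK LD1_c2 LD2_c44 LD3_c6)) :=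
  Lre_f IH (LK LD1_c1 LD2_c18 LD3_c24) (LK LD1_c2 LD2_c44 LD3_c6) Lrfl Lrfl
theorem f178290 : Led Lsl_et (LP (LK LD1_c0 LD2_c36 LD3_c6)) = (LP (LK LD1_c1 LD2_c18 LD3_c24)) :=
  Lre_e IH (LK LD1_c0 LD2_c36 LD3_c6) (LK LD1_c1 LD2_c18 LD3_c24) Lrfl Lrfl
theorem f250325 : Led Lsl_ff (LP (LK LD1_c0 LD2_c36 LD3_c6)) = (LP (LK LD1_c1 LD2_c3 LD3_c8)) :=
  Lgr Lrot19 (Lpe (K12.f178168 IH) (Lpr_ft (K14.f178296 IH) (Lpr_dt (K14.f250317 IH) (Lpn (LP (LK LD1_c1 LD2_c3 LD3_c8))))))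
theorem f287822 : Led Lsl_ft (LP (LK LD1_c2 LD2_c59 LD3_c50)) = (LP (LK LD1_c2 LD2_c12 LD3_c22)) :=
  Lgr Lrot86 (Lpr_ef (f287812 IH) (Lpe (f228871 IH) (Lpe (f178290 IH) (Lpr_ff (f250325 IH) (Lpe (K14.f167908 IH) (Lpn (LP (LK LD1_c2 LD2_c12 LD3_c22))))))))
theorem f287830 : Led Lsl_ff (LP (LK LD1_c2 LD2_c59 LD3_c50)) = (LP (LK LD1_c2 LD2_c12 LD3_c22)) :=
  Lgr Lrot3 (Lpr_ft (f287822 IH) (Lpn (LP (LK LD1_c2 LD2_c12 LD3_c22))))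
theorem f287840 : Led Lsl_at (LP (LK LD1_c2 LD2_c59 LD3_c50)) = (LP (LK LD1_c2 LD2_c44 LD3_c13)) :=
  Lgr Lrot66 (Lpr_ff (f287830 IH) (Lpr_af (K14.f253689 IH) (Lpe (K14.f253688 IH) (Lpn (LP (LK LD1_c2 LD2_c44 LD3_c13))))))
theorem f287846 : Led Lsl_gf (LP (LK LD1_c2 LD2_c44 LD3_c13)) = (LP (LK LD1_c2 LD2_c0 LD3_c48)) :=
  Lgr Lrot76 (Lpe (f287840 IH) (Lpr_ff (f287830 IH) (Lpe (K14.f250349 IH) (Lpn (LP (LK LD1_c2 LD2_c0 LD3_c48))))))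
theorem f183165 : Led Lsl_ct (LP (LK LD1_c2 LD2_c44 LD3_c13)) = (LP (LK LD1_c5 LD2_c36 LD3_c43)) :=
  Lre_c IH (LK LD1_c2 LD2_c44 LD3_c13) (LK LD1_c5 LD2_c36 LD3_c43) Lrfl Lrfl
theorem f22063 : Led Lsl_ct (LP (LK LD1_c4 LD2_c6 LD3_c51)) = (LP (LK LD1_c8 LD2_c14 LD3_c15)) :=
  Lre_c IH (LK LD1_c4 LD2_c6 LD3_c51) (LK LD1_c8 LD2_c14 LD3_c15) Lrfl Lrfl
theorem f243911 : Led Lsl_df (LP (LK LD1_c2 LD2_c45 LD3_c29)) = (LP (LK LD1_c4 LD2_c3 LD3_c26)) :=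
  Lgr Lrot38 (Lpr_dt (K13.f243712 IH) (Lpn (LP (LK LD1_c4 LD2_c3 LD3_c26))))
theorem f228260 : Led Lsl_df (LP (LK LD1_c1 LD2_c19 LD3_c7)) = (LP (LK LD1_c2 LD2_c4 LD3_c41)) :=
  Lgr Lrot38 (Lpr_dt (K12.f228154 IH) (Lpn (LP (LK LD1_c2 LD2_c4 LD3_c41))))
theorem f211443 : Led Lsl_gf (LP (LK LD1_c2 LD2_c4 LD3_c41)) = (LP (LK LD1_c1 LD2_c57 LD3_c23)) :=
  Lgr Lrot104 (Lpr_ct (K15.f197268 IH) (Lpr_df (K11.f196347 IH) (Lpe (K11.f52691 IH) (Lpe (K12.f197265 IH) (Lpe (K12.f28916 IH) (Lpr_gf (K12.f211441 IH) (Lpr_df (K15.f187916 IH) (Lpr_gt (K10.f28152 IH) (Lpr_ct (K10.f52246 IH) (Lpn (LP (LK LD1_c1 LD2_c57 LD3_c23))))))))))))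
theorem f233754 : Led Lsl_et (LP (LK LD1_c4 LD2_c6 LD3_c50)) = (LP (LK LD1_c8 LD2_c14 LD3_c15)) :=
  Lre_e IH (LK LD1_c4 LD2_c6 LD3_c50) (LK LD1_c8 LD2_c14 LD3_c15) Lrfl Lrfl
theorem f243915 : Led Lsl_et (LP (LK LD1_c4 LD2_c3 LD3_c26)) = (LP (LK LD1_c8 LD2_c7 LD3_c27)) :=
  Lre_e IH (LK LD1_c4 LD2_c3 LD3_c26) (LK LD1_c8 LD2_c7 LD3_c27) Lrfl Lrfl
theorem f244432 : Led Lsl_gf (LP (LK LD1_c8 LD2_c14 LD3_c15)) = (LP (LK LD1_c8 LD2_c7 LD3_c27)) :=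
  Lgr Lrot141 (Lpe (f233754 IH) (Lpr_dt (K15.f190943 IH) (Lpr_gt (K15.f233748 IH) (Lpe (K10.f50909 IH) (Lpr_et (K10.f52261 IH) (Lpe (f211443 IH) (Lpe (f228260 IH) (Lpr_gt (K13.f178082 IH) (Lpr_df (f243911 IH) (Lpr_et (f243915 IH) (Lpn (LP (LK LD1_c8 LD2_c7 LD3_c27)))))))))))))
theorem f220234 : Led Lsl_ct (LP (LK LD1_c4 LD2_c3 LD3_c27)) = (LP (LK LD1_c8 LD2_c7 LD3_c27)) :=
  Lre_c IH (LK LD1_c4 LD2_c3 LD3_c27) (LK LD1_c8 LD2_c7 LD3_c27) Lrfl Lrfl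
theorem f220227 : Led Lsl_et (LP (LK LD1_c4 LD2_c3 LD3_c27)) = (LP (LK LD1_c1 LD2_c58 LD3_c41)) :=
  Lre_e IH (LK LD1_c4 LD2_c3 LD3_c27) (LK LD1_c1 LD2_c58 LD3_c41) Lrfl Lrfl
theorem f220228 : Led Lsl_bt (LP (LK LD1_c2 LD2_c41 LD3_c13)) = (LP (LK LD1_c4 LD2_c3 LD3_c27)) :=
  Lgr Lrot119 (Lpe (K14.f220226 IH) (Lpr_bf (K12.f220218 IH) (Lpe (f220227 IH) (Lpn (LP (LK LD1_c4 LD2_c3 LD3_c27))))))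
theorem f220230 : Led Lsl_bf (LP (LK LD1_c2 LD2_c41 LD3_c13)) = (LP (LK LD1_c4 LD2_c3 LD3_c27)) :=
  Lgr Lrot24 (Lpr_bt (f220228 IH) (Lpn (LP (LK LD1_c4 LD2_c3 LD3_c27))))
theorem f185657 : Led Lsl_ct (LP (LK LD1_c2 LD2_c39 LD3_c37)) = (LP (LK LD1_c5 LD2_c26 LD3_c21)) :=
  Lre_c IH (LK LD1_c2 LD2_c39 LD3_c37) (LK LD1_c5 LD2_c26 LD3_c21) Lrfl Lrfl
theorem f287849 : Led Lsl_gt (LP (LK LD1_c5 LD2_c36 LD3_c43)) = (LP (LK LD1_c5 LD2_c26 LD3_c21)) :=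
  Lgr Lrot149 (Lpe (f183165 IH) (Lpr_gf (f287846 IH) (Lpe (K13.f22051 IH) (Lpr_ct (f22063 IH) (Lpr_gf (f244432 IH) (Lpe (f220234 IH) (Lpe (f220230 IH) (Lpe (K15.f263404 IH) (Lpe (K12.f185654 IH) (Lpr_ct (f185657 IH) (Lpn (LP (LK LD1_c5 LD2_c26 LD3_c21)))))))))))))
theorem f177788 : Led Lsl_dt (LP (LK LD1_c1 LD2_c25 LD3_c15)) = (LP (LK LD1_c2 LD2_c59 LD3_c3)) :=
  Lre_d IH (LK LD1_c1 LD2_c25 LD3_c15) (LK LD1_c2 LD2_c59 LD3_c3) Lrfl Lrfl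
theorem f183438 : Led Lsl_et (LP (LK LD1_c1 LD2_c25 LD3_c15)) = (LP (LK LD1_c2 LD2_c59 LD3_c4)) :=
  Lre_e IH (LK LD1_c1 LD2_c25 LD3_c15) (LK LD1_c2 LD2_c59 LD3_c4) Lrfl Lrfl
theorem f226715 : Led Lsl_gt (LP (LK LD1_c2 LD2_c40 LD3_c46)) = (LP (LK LD1_c2 LD2_c59 LD3_c4)) :=
  Lgr Lrot131 (Lpe (K14.f173951 IH) (Lpr_dt (K12.f173950 IH) (Lpr_gf (K12.f226699 IH) (Lpe (K14.f165004 IH) (Lpe (K9.f173402 IH) (Lpr_ef (K9.f54829 IH) (Lpr_dt (K1.f54846 IH) (Lpr_gf (K10.f183428 IH) (Lpe (f177788 IH) (Lpr_et (f183438 IH) (Lpn (LP (LK LD1_c2 LD2_c59 LD3_c4)))))))))))))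
theorem f268166 : Led Lsl_gt (LP (LK LD1_c5 LD2_c26 LD3_c21)) = (LP (LK LD1_c2 LD2_c40 LD3_c46)) :=
  Lgr Lrot5 (Lpr_ft (K15.f268123 IH) (Lpr_at (K15.f268124 IH) (Lpe (f226715 IH) (Lpn (LP (LK LD1_c2 LD2_c40 LD3_c46))))))
theorem f287853 : Led Lsl_at (LP (LK LD1_c2 LD2_c44 LD3_c11)) = (LP (LK LD1_c2 LD2_c40 LD3_c46)) :=
  Lgr Lrot26 (Lpe (K14.f183184 IH) (Lpr_gt (f287849 IH) (Lpr_gt (f268166 IH) (Lpn (LP (LK LD1_c2 LD2_c40 LD3_c46))))))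
theorem f178892 : Led Lsl_et (LP (LK LD1_c1 LD2_c18 LD3_c26)) = (LP (LK LD1_c2 LD2_c44 LD3_c11)) :=
  Lre_e IH (LK LD1_c1 LD2_c18 LD3_c26) (LK LD1_c2 LD2_c44 LD3_c11) Lrfl Lrfl
theorem f183087 : Led Lsl_gt (LP (LK LD1_c2 LD2_c44 LD3_c11)) = (LP (LK LD1_c2 LD2_c39 LD3_c35)) :=
  Lgr Lrot131 (Lpe (f178892 IH) (Lpr_dt (K12.f178890 IH) (Lpe (K12.f173037 IH) (Lpe (K12.f173036 IH) (Lpe (K9.f172861 IH) (Lpe (K1.f55339 IH) (Lpr_dt (K1.f55335 IH) (Lpr_gf (K9.f183074 IH) (Lpe (K11.f182489 IH) (Lpr_et (K15.f183072 IH) (Lpn (LP (LK LD1_c2 LD2_c39 LD3_c35)))))))))))))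
theorem f183128 : Led Lsl_ft (LP (LK LD1_c2 LD2_c44 LD3_c11)) = (LP (LK LD1_c5 LD2_c36 LD3_c43)) :=
  Lre_f IH (LK LD1_c2 LD2_c44 LD3_c11) (LK LD1_c5 LD2_c36 LD3_c43) Lrfl Lrfl
theorem f183073 : Led Lsl_gt (LP (LK LD1_c2 LD2_c39 LD3_c35)) = (LP (LK LD1_c5 LD2_c26 LD3_c19)) :=
  Lre_g IH (LK LD1_c2 LD2_c39 LD3_c35) (LK LD1_c5 LD2_c26 LD3_c19) Lrfl Lrfl
theorem f183129 : Led Lsl_at (LP (LK LD1_c5 LD2_c36 LD3_c43)) = (LP (LK LD1_c5 LD2_c26 LD3_c19)) :=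
  Lgr Lrot26 (Lpe (f183128 IH) (Lpr_gt (f183087 IH) (Lpr_gt (f183073 IH) (Lpn (LP (LK LD1_c5 LD2_c26 LD3_c19))))))
theorem f183160 : Led Lsl_af (LP (LK LD1_c5 LD2_c36 LD3_c43)) = (LP (LK LD1_c5 LD2_c26 LD3_c19)) :=
  Lgr Lrot0 (Lpr_at (f183129 IH) (Lpn (LP (LK LD1_c5 LD2_c26 LD3_c19))))
theorem f287904 : Led Lsl_ff (LP (LK LD1_c5 LD2_c26 LD3_c19)) = (LP (LK LD1_c2 LD2_c40 LD3_c46)) :=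
  Lgr Lrot30 (Lpe (f183160 IH) (Lpr_ft (K14.f183184 IH) (Lpr_at (f287853 IH) (Lpn (LP (LK LD1_c2 LD2_c40 LD3_c46))))))
theorem f287915 : Led Lsl_ft (LP (LK LD1_c5 LD2_c26 LD3_c19)) = (LP (LK LD1_c2 LD2_c40 LD3_c46)) :=
  Lgr Lrot48 (Lpr_ff (f287904 IH) (Lpn (LP (LK LD1_c2 LD2_c40 LD3_c46))))
theorem f168560 : Led Lsl_et (LP (LK LD1_c2 LD2_c40 LD3_c46)) = (LP (LK LD1_c1 LD2_c17 LD3_c2)) :=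
  Lre_e IH (LK LD1_c2 LD2_c40 LD3_c46) (LK LD1_c1 LD2_c17 LD3_c2) Lrfl Lrfl
theorem f225921 : Led Lsl_et (LP (LK LD1_c1 LD2_c18 LD3_c23)) = (LP (LK LD1_c2 LD2_c44 LD3_c3)) :=
  Lre_e IH (LK LD1_c1 LD2_c18 LD3_c23) (LK LD1_c2 LD2_c44 LD3_c3) Lrfl Lrfl
theorem f253717 : Led Lsl_ft (LP (LK LD1_c2 LD2_c44 LD3_c3)) = (LP (LK LD1_c5 LD2_c36 LD3_c25)) :=
  Lre_f IH (LK LD1_c2 LD2_c44 LD3_c3) (LK LD1_c5 LD2_c36 LD3_c25) Lrfl Lrfl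
theorem f287923 : Led Lsl_ef (LP (LK LD1_c5 LD2_c26 LD3_c19)) = (LP (LK LD1_c5 LD2_c36 LD3_c25)) :=
  Lgr Lrot21 (Lpr_ft (f287915 IH) (Lpr_et (f168560 IH) (Lpr_ft (K14.f253711 IH) (Lpr_et (f225921 IH) (Lpr_ft (f253717 IH) (Lpn (LP (LK LD1_c5 LD2_c36 LD3_c25))))))))
theorem f253739 : Led Lsl_et (LP (LK LD1_c2 LD2_c40 LD3_c43)) = (LP (LK LD1_c1 LD2_c17 LD3_c1)) :=
  Lre_e IH (LK LD1_c2 LD2_c40 LD3_c43) (LK LD1_c1 LD2_c17 LD3_c1) Lrfl Lrfl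
theorem f253740 : Led Lsl_ft (LP (LK LD1_c5 LD2_c28 LD3_c55)) = (LP (LK LD1_c2 LD2_c40 LD3_c43)) :=
  Lre_f IH (LK LD1_c5 LD2_c28 LD3_c55) (LK LD1_c2 LD2_c40 LD3_c43) Lrfl Lrfl
theorem f253741 : Led Lsl_ef (LP (LK LD1_c5 LD2_c28 LD3_c55)) = (LP (LK LD1_c5 LD2_c36 LD3_c43)) :=
  Lgr Lrot21 (Lpr_ft (f253740 IH) (Lpr_et (f253739 IH) (Lpr_ft (K14.f253732 IH) (Lpr_et (f178892 IH) (Lpr_ft (f183128 IH) (Lpn (LP (LK LD1_c5 LD2_c36 LD3_c43))))))))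
theorem f287933 : Led Lsl_at (LP (LK LD1_c5 LD2_c28 LD3_c55)) = (LP (LK LD1_c5 LD2_c36 LD3_c25)) :=
  Lgr Lrot80 (Lpr_ef (f253741 IH) (Lpr_af (f183160 IH) (Lpr_ef (f287923 IH) (Lpn (LP (LK LD1_c5 LD2_c36 LD3_c25))))))
theorem f287912 : Led Lsl_ft (LP (LK LD1_c5 LD2_c36 LD3_c25)) = (LP (LK LD1_c2 LD2_c44 LD3_c3)) :=
  Lre_f IH (LK LD1_c5 LD2_c36 LD3_c25) (LK LD1_c2 LD2_c44 LD3_c3) Lrfl Lrfl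
theorem f287937 : Led Lsl_af (LP (LK LD1_c2 LD2_c40 LD3_c43)) = (LP (LK LD1_c2 LD2_c44 LD3_c3)) :=
  Lgr Lrot45 (Lpr_ft (K14.f253753 IH) (Lpr_at (f287933 IH) (Lpr_ft (f287912 IH) (Lpn (LP (LK LD1_c2 LD2_c44 LD3_c3))))))
theorem f267692 : Led Lsl_dt (LP (LK LD1_c2 LD2_c40 LD3_c43)) = (LP (LK LD1_c5 LD2_c28 LD3_c54)) :=
  Lre_d IH (LK LD1_c2 LD2_c40 LD3_c43) (LK LD1_c5 LD2_c28 LD3_c54) Lrfl Lrfl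
theorem f181250 : Led Lsl_dt (LP (LK LD1_c5 LD2_c36 LD3_c24)) = (LP (LK LD1_c2 LD2_c44 LD3_c3)) :=
  Lre_d IH (LK LD1_c5 LD2_c36 LD3_c24) (LK LD1_c2 LD2_c44 LD3_c3) Lrfl Lrfl
theorem f287944 : Led Lsl_at (LP (LK LD1_c5 LD2_c28 LD3_c54)) = (LP (LK LD1_c5 LD2_c36 LD3_c24)) :=
  Lgr Lrot51 (Lpe (f267692 IH) (Lpr_af (f287937 IH) (Lpe (f181250 IH) (Lpn (LP (LK LD1_c5 LD2_c36 LD3_c24))))))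
theorem f287951 : Led Lsl_et (LP (LK LD1_c10 LD2_c48 LD3_c57)) = (LP (LK LD1_c5 LD2_c28 LD3_c54)) :=
  Lre_e IH (LK LD1_c10 LD2_c48 LD3_c57) (LK LD1_c5 LD2_c28 LD3_c54) Lrfl Lrfl
theorem f173934 : Led Lsl_et (LP (LK LD1_c5 LD2_c31 LD3_c51)) = (LP (LK LD1_c2 LD2_c42 LD3_c4)) :=
  Lre_e IH (LK LD1_c5 LD2_c31 LD3_c51) (LK LD1_c2 LD2_c42 LD3_c4) Lrfl Lrfl
theorem f173938 : Led Lsl_dt (LP (LK LD1_c10 LD2_c55 LD3_c26)) = (LP (LK LD1_c5 LD2_c31 LD3_c51)) :=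
  Lre_d IH (LK LD1_c10 LD2_c55 LD3_c26) (LK LD1_c5 LD2_c31 LD3_c51) Lrfl Lrfl
theorem f177940 : Led Lsl_dt (LP (LK LD1_c2 LD2_c44 LD3_c3)) = (LP (LK LD1_c5 LD2_c36 LD3_c24)) :=
  Lre_d IH (LK LD1_c2 LD2_c44 LD3_c3) (LK LD1_c5 LD2_c36 LD3_c24) Lrfl Lrfl
theorem f225922 : Led Lsl_ef (LP (LK LD1_c10 LD2_c55 LD3_c26)) = (LP (LK LD1_c5 LD2_c36 LD3_c24)) :=
  Lgr Lrot73 (Lpr_dt (f173938 IH) (Lpr_et (f173934 IH) (Lpr_dt (K12.f225824 IH) (Lpr_et (f225921 IH) (Lpr_dt (f177940 IH) (Lpn (LP (LK LD1_c5 LD2_c36 LD3_c24))))))))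
theorem f287952 : Led Lsl_af (LP (LK LD1_c10 LD2_c48 LD3_c57)) = (LP (LK LD1_c10 LD2_c55 LD3_c26)) :=
  Lgr Lrot50 (Lpr_et (f287951 IH) (Lpr_at (f287944 IH) (Lpe (f225922 IH) (Lpn (LP (LK LD1_c10 LD2_c55 LD3_c26))))))
theorem f287960 : Led Lsl_dt (LP (LK LD1_c10 LD2_c48 LD3_c57)) = (LP (LK LD1_c5 LD2_c28 LD3_c53)) :=
  Lre_d IH (LK LD1_c10 LD2_c48 LD3_c57) (LK LD1_c5 LD2_c28 LD3_c53) Lrfl Lrfl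
theorem f173935 : Led Lsl_dt (LP (LK LD1_c5 LD2_c31 LD3_c51)) = (LP (LK LD1_c10 LD2_c55 LD3_c26)) :=
  Lre_d IH (LK LD1_c5 LD2_c31 LD3_c51) (LK LD1_c10 LD2_c55 LD3_c26) Lrfl Lrfl
theorem f287961 : Led Lsl_at (LP (LK LD1_c5 LD2_c28 LD3_c53)) = (LP (LK LD1_c5 LD2_c31 LD3_c51)) :=
  Lgr Lrot51 (Lpe (f287960 IH) (Lpr_af (f287952 IH) (Lpe (f173935 IH) (Lpn (LP (LK LD1_c5 LD2_c31 LD3_c51))))))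
theorem f168547 : Led Lsl_et (LP (LK LD1_c2 LD2_c40 LD3_c42)) = (LP (LK LD1_c5 LD2_c28 LD3_c53)) :=
  Lre_e IH (LK LD1_c2 LD2_c40 LD3_c42) (LK LD1_c5 LD2_c28 LD3_c53) Lrfl Lrfl
theorem f287994 : Led Lsl_af (LP (LK LD1_c2 LD2_c40 LD3_c42)) = (LP (LK LD1_c2 LD2_c42 LD3_c4)) :=
  Lgr Lrot50 (Lpr_et (f168547 IH) (Lpr_at (f287961 IH) (Lpr_et (f173934 IH) (Lpn (LP (LK LD1_c2 LD2_c42 LD3_c4))))))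
theorem f165020 : Led Lsl_dt (LP (LK LD1_c2 LD2_c40 LD3_c42)) = (LP (LK LD1_c1 LD2_c17 LD3_c1)) :=
  Lre_d IH (LK LD1_c2 LD2_c40 LD3_c42) (LK LD1_c1 LD2_c17 LD3_c1) Lrfl Lrfl
theorem f238315 : Led Lsl_gf (LP (LK LD1_c2 LD2_c40 LD3_c42)) = (LP (LK LD1_c2 LD2_c11 LD3_c61)) :=
  Lgr Lrot143 (Lpr_dt (f165020 IH) (Lpe (K12.f226754 IH) (Lpe (K9.f179845 IH) (Lpe (K13.f238303 IH) (Lpr_df (K13.f238309 IH) (Lpr_gf (K13.f238311 IH) (Lpe (K9.f40752 IH) (Lpr_gt (K9.f169273 IH) (Lpr_dt (K12.f169282 IH) (Lpn (LP (LK LD1_c2 LD2_c11 LD3_c61))))))))))))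
theorem f288000 : Led Lsl_ft (LP (LK LD1_c2 LD2_c40 LD3_c45)) = (LP (LK LD1_c2 LD2_c42 LD3_c4)) :=
  Lgr Lrot2 (Lpr_gt (K12.f225338 IH) (Lpe (f238315 IH) (Lpr_af (f287994 IH) (Lpn (LP (LK LD1_c2 LD2_c42 LD3_c4))))))
theorem f253751 : Led Lsl_ft (LP (LK LD1_c2 LD2_c40 LD3_c42)) = (LP (LK LD1_c2 LD2_c42 LD3_c3)) :=
  Lgr Lrot54 (Lpe (K12.f7886 IH) (Lpr_ff (K14.f253743 IH) (Lpr_df (K12.f178885 IH) (Lpn (LP (LK LD1_c2 LD2_c42 LD3_c3))))))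
theorem f288002 : Led Lsl_af (LP (LK LD1_c2 LD2_c40 LD3_c45)) = (LP (LK LD1_c2 LD2_c42 LD3_c3)) :=
  Lgr Lrot45 (Lpr_ft (f288000 IH) (Lpe (f287994 IH) (Lpr_ft (f253751 IH) (Lpn (LP (LK LD1_c2 LD2_c42 LD3_c3))))))
theorem f225260 : Led Lsl_et (LP (LK LD1_c2 LD2_c40 LD3_c45)) = (LP (LK LD1_c5 LD2_c29 LD3_c0)) :=
  Lre_e IH (LK LD1_c2 LD2_c40 LD3_c45) (LK LD1_c5 LD2_c29 LD3_c0) Lrfl Lrfl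
theorem f178893 : Led Lsl_et (LP (LK LD1_c5 LD2_c31 LD3_c49)) = (LP (LK LD1_c2 LD2_c42 LD3_c3)) :=
  Lre_e IH (LK LD1_c5 LD2_c31 LD3_c49) (LK LD1_c2 LD2_c42 LD3_c3) Lrfl Lrfl
theorem f288034 : Led Lsl_at (LP (LK LD1_c5 LD2_c29 LD3_c0)) = (LP (LK LD1_c5 LD2_c31 LD3_c49)) :=
  Lgr Lrot80 (Lpe (f225260 IH) (Lpr_af (f288002 IH) (Lpe (f178893 IH) (Lpn (LP (LK LD1_c5 LD2_c31 LD3_c49))))))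
theorem f288036 : Led Lsl_af (LP (LK LD1_c5 LD2_c29 LD3_c0)) = (LP (LK LD1_c5 LD2_c31 LD3_c49)) :=
  Lgr Lrot0 (Lpr_at (f288034 IH) (Lpn (LP (LK LD1_c5 LD2_c31 LD3_c49))))
theorem f225335 : Led Lsl_ct (LP (LK LD1_c5 LD2_c29 LD3_c0)) = (LP (LK LD1_c2 LD2_c46 LD3_c17)) :=
  Lgr Lrot15 (Lpe (f225260 IH) (Lpr_cf (K12.f225252 IH) (Lpe (K12.f225334 IH) (Lpn (LP (LK LD1_c2 LD2_c46 LD3_c17))))))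
theorem f165069 : Led Lsl_et (LP (LK LD1_c1 LD2_c18 LD3_c42)) = (LP (LK LD1_c2 LD2_c44 LD3_c44)) :=
  Lre_e IH (LK LD1_c1 LD2_c18 LD3_c42) (LK LD1_c2 LD2_c44 LD3_c44) Lrfl Lrfl
theorem f226397 : Led Lsl_cf (LP (LK LD1_c5 LD2_c31 LD3_c49)) = (LP (LK LD1_c2 LD2_c44 LD3_c44)) :=
  Lgr Lrot39 (Lpr_et (f178893 IH) (Lpr_ct (K12.f226020 IH) (Lpr_et (f165069 IH) (Lpn (LP (LK LD1_c2 LD2_c44 LD3_c44))))))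
theorem f288040 : Led Lsl_at (LP (LK LD1_c2 LD2_c46 LD3_c17)) = (LP (LK LD1_c2 LD2_c44 LD3_c44)) :=
  Lgr Lrot107 (Lpe (f225335 IH) (Lpr_af (f288036 IH) (Lpr_cf (f226397 IH) (Lpn (LP (LK LD1_c2 LD2_c44 LD3_c44))))))
theorem f225486 : Led Lsl_ft (LP (LK LD1_c5 LD2_c40 LD3_c45)) = (LP (LK LD1_c2 LD2_c46 LD3_c17)) :=
  Lre_f IH (LK LD1_c5 LD2_c40 LD3_c45) (LK LD1_c2 LD2_c46 LD3_c17) Lrfl Lrfl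
theorem f165085 : Led Lsl_ft (LP (LK LD1_c2 LD2_c44 LD3_c44)) = (LP (LK LD1_c5 LD2_c37 LD3_c35)) :=
  Lre_f IH (LK LD1_c2 LD2_c44 LD3_c44) (LK LD1_c5 LD2_c37 LD3_c35) Lrfl Lrfl
theorem f288050 : Led Lsl_af (LP (LK LD1_c5 LD2_c40 LD3_c45)) = (LP (LK LD1_c5 LD2_c37 LD3_c35)) :=
  Lgr Lrot45 (Lpr_ft (f225486 IH) (Lpr_at (f288040 IH) (Lpr_ft (f165085 IH) (Lpn (LP (LK LD1_c5 LD2_c37 LD3_c35))))))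
theorem f225468 : Led Lsl_ft (LP (LK LD1_c5 LD2_c14 LD3_c36)) = (LP (LK LD1_c2 LD2_c34 LD3_c7)) :=
  Lre_f IH (LK LD1_c5 LD2_c14 LD3_c36) (LK LD1_c2 LD2_c34 LD3_c7) Lrfl Lrfl
theorem f225459 : Led Lsl_ft (LP (LK LD1_c2 LD2_c46 LD3_c17)) = (LP (LK LD1_c5 LD2_c40 LD3_c45)) :=
  Lre_f IH (LK LD1_c2 LD2_c46 LD3_c17) (LK LD1_c5 LD2_c40 LD3_c45) Lrfl Lrfl
theorem f225469 : Led Lsl_df (LP (LK LD1_c5 LD2_c14 LD3_c36)) = (LP (LK LD1_c5 LD2_c40 LD3_c45)) :=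
  Lgr Lrot78 (Lpr_ft (f225468 IH) (Lpr_dt (K12.f225453 IH) (Lpr_ft (f225459 IH) (Lpn (LP (LK LD1_c5 LD2_c40 LD3_c45))))))
theorem f164997 : Led Lsl_et (LP (LK LD1_c2 LD2_c44 LD3_c44)) = (LP (LK LD1_c1 LD2_c18 LD3_c42)) :=
  Lre_e IH (LK LD1_c2 LD2_c44 LD3_c44) (LK LD1_c1 LD2_c18 LD3_c42) Lrfl Lrfl
theorem f53215 : Led Lsl_et (LP (LK LD1_c1 LD2_c12 LD3_c38)) = (LP (LK LD1_c2 LD2_c31 LD3_c18)) :=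
  Lre_e IH (LK LD1_c1 LD2_c12 LD3_c38) (LK LD1_c2 LD2_c31 LD3_c18) Lrfl Lrfl
theorem f165079 : Led Lsl_df (LP (LK LD1_c2 LD2_c44 LD3_c44)) = (LP (LK LD1_c2 LD2_c31 LD3_c18)) :=
  Lgr Lrot70 (Lpr_et (f164997 IH) (Lpr_dt (K12.f164989 IH) (Lpr_et (K9.f165072 IH) (Lpe (K9.f53210 IH) (Lpr_et (f53215 IH) (Lpn (LP (LK LD1_c2 LD2_c31 LD3_c18))))))))
theorem f165086 : Led Lsl_ft (LP (LK LD1_c5 LD2_c8 LD3_c10)) = (LP (LK LD1_c2 LD2_c31 LD3_c18)) :=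
  Lre_f IH (LK LD1_c5 LD2_c8 LD3_c10) (LK LD1_c2 LD2_c31 LD3_c18) Lrfl Lrfl
theorem f165087 : Led Lsl_dt (LP (LK LD1_c5 LD2_c37 LD3_c35)) = (LP (LK LD1_c5 LD2_c8 LD3_c10)) :=
  Lgr Lrot60 (Lpe (f165085 IH) (Lpr_df (f165079 IH) (Lpe (f165086 IH) (Lpn (LP (LK LD1_c5 LD2_c8 LD3_c10))))))
theorem f165104 : Led Lsl_df (LP (LK LD1_c5 LD2_c37 LD3_c35)) = (LP (LK LD1_c5 LD2_c8 LD3_c10)) :=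
  Lgr Lrot38 (Lpr_dt (f165087 IH) (Lpn (LP (LK LD1_c5 LD2_c8 LD3_c10))))
theorem f288056 : Led Lsl_at (LP (LK LD1_c5 LD2_c14 LD3_c36)) = (LP (LK LD1_c5 LD2_c8 LD3_c10)) :=
  Lgr Lrot51 (Lpr_df (f225469 IH) (Lpr_af (f288050 IH) (Lpr_df (f165104 IH) (Lpn (LP (LK LD1_c5 LD2_c8 LD3_c10))))))
theorem f288060 : Led Lsl_af (LP (LK LD1_c5 LD2_c14 LD3_c36)) = (LP (LK LD1_c5 LD2_c8 LD3_c10)) :=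
  Lgr Lrot0 (Lpr_at (f288056 IH) (Lpn (LP (LK LD1_c5 LD2_c8 LD3_c10))))
theorem f165089 : Led Lsl_ft (LP (LK LD1_c2 LD2_c31 LD3_c18)) = (LP (LK LD1_c5 LD2_c8 LD3_c10)) :=
  Lre_f IH (LK LD1_c2 LD2_c31 LD3_c18) (LK LD1_c5 LD2_c8 LD3_c10) Lrfl Lrfl
theorem f288067 : Led Lsl_at (LP (LK LD1_c2 LD2_c34 LD3_c7)) = (LP (LK LD1_c2 LD2_c31 LD3_c18)) :=
  Lgr Lrot66 (Lpe (f225468 IH) (Lpr_af (f288060 IH) (Lpe (f165089 IH) (Lpn (LP (LK LD1_c2 LD2_c31 LD3_c18))))))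
theorem f22381 : Led Lsl_et (LP (LK LD1_c2 LD2_c31 LD3_c18)) = (LP (LK LD1_c1 LD2_c12 LD3_c38)) :=
  Lre_e IH (LK LD1_c2 LD2_c31 LD3_c18) (LK LD1_c1 LD2_c12 LD3_c38) Lrfl Lrfl
theorem f288073 : Led Lsl_af (LP (LK LD1_c1 LD2_c14 LD3_c1)) = (LP (LK LD1_c1 LD2_c12 LD3_c38)) :=
  Lgr Lrot50 (Lpr_et (K12.f181101 IH) (Lpr_at (f288067 IH) (Lpr_et (f22381 IH) (Lpn (LP (LK LD1_c1 LD2_c12 LD3_c38))))))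
theorem f288083 : Led Lsl_ft (LP (LK LD1_c1 LD2_c14 LD3_c2)) = (LP (LK LD1_c1 LD2_c12 LD3_c38)) :=
  Lgr Lrot2 (Lpr_gt (K10.f59574 IH) (Lpr_gt (K9.f163938 IH) (Lpr_af (f288073 IH) (Lpn (LP (LK LD1_c1 LD2_c12 LD3_c38))))))
theorem f288093 : Led Lsl_ff (LP (LK LD1_c1 LD2_c14 LD3_c2)) = (LP (LK LD1_c1 LD2_c12 LD3_c38)) :=
  Lgr Lrot3 (Lpr_ft (f288083 IH) (Lpn (LP (LK LD1_c1 LD2_c12 LD3_c38))))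
theorem f288103 : Led Lsl_at (LP (LK LD1_c1 LD2_c14 LD3_c2)) = (LP (LK LD1_c1 LD2_c12 LD3_c39)) :=
  Lgr Lrot26 (Lpr_ff (f288093 IH) (Lpr_gt (K9.f164091 IH) (Lpe (K9.f164109 IH) (Lpn (LP (LK LD1_c1 LD2_c12 LD3_c39))))))
theorem f288077 : Led Lsl_at (LP (LK LD1_c1 LD2_c14 LD3_c1)) = (LP (LK LD1_c1 LD2_c12 LD3_c38)) :=
  Lgr Lrot100 (Lpr_af (f288073 IH) (Lpn (LP (LK LD1_c1 LD2_c12 LD3_c38))))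
theorem f288115 : Led Lsl_ff (LP (LK LD1_c1 LD2_c14 LD3_c1)) = (LP (LK LD1_c1 LD2_c12 LD3_c39)) :=
  Lgr Lrot30 (Lpr_at (f288077 IH) (Lpe (f288093 IH) (Lpr_at (f288103 IH) (Lpn (LP (LK LD1_c1 LD2_c12 LD3_c39))))))
theorem f288125 : Led Lsl_ft (LP (LK LD1_c1 LD2_c14 LD3_c1)) = (LP (LK LD1_c1 LD2_c12 LD3_c39)) :=
  Lgr Lrot48 (Lpr_ff (f288115 IH) (Lpn (LP (LK LD1_c1 LD2_c12 LD3_c39))))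
theorem f164395 : Led Lsl_et (LP (LK LD1_c2 LD2_c34 LD3_c7)) = (LP (LK LD1_c1 LD2_c14 LD3_c1)) :=
  Lre_e IH (LK LD1_c2 LD2_c34 LD3_c7) (LK LD1_c1 LD2_c14 LD3_c1) Lrfl Lrfl
theorem f165776 : Led Lsl_et (LP (LK LD1_c1 LD2_c12 LD3_c39)) = (LP (LK LD1_c2 LD2_c31 LD3_c20)) :=
  Lre_e IH (LK LD1_c1 LD2_c12 LD3_c39) (LK LD1_c2 LD2_c31 LD3_c20) Lrfl Lrfl
theorem f165755 : Led Lsl_ft (LP (LK LD1_c2 LD2_c31 LD3_c20)) = (LP (LK LD1_c5 LD2_c8 LD3_c16)) :=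
  Lre_f IH (LK LD1_c2 LD2_c31 LD3_c20) (LK LD1_c5 LD2_c8 LD3_c16) Lrfl Lrfl
theorem f288133 : Led Lsl_ef (LP (LK LD1_c5 LD2_c14 LD3_c36)) = (LP (LK LD1_c5 LD2_c8 LD3_c16)) :=
  Lgr Lrot21 (Lpr_ft (f225468 IH) (Lpr_et (f164395 IH) (Lpr_ft (f288125 IH) (Lpr_et (f165776 IH) (Lpr_ft (f165755 IH) (Lpn (LP (LK LD1_c5 LD2_c8 LD3_c16))))))))
theorem f164394 : Led Lsl_et (LP (LK LD1_c2 LD2_c34 LD3_c9)) = (LP (LK LD1_c1 LD2_c14 LD3_c2)) :=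
  Lre_e IH (LK LD1_c2 LD2_c34 LD3_c9) (LK LD1_c1 LD2_c14 LD3_c2) Lrfl Lrfl
theorem f180712 : Led Lsl_ft (LP (LK LD1_c5 LD2_c14 LD3_c42)) = (LP (LK LD1_c2 LD2_c34 LD3_c9)) :=
  Lre_f IH (LK LD1_c5 LD2_c14 LD3_c42) (LK LD1_c2 LD2_c34 LD3_c9) Lrfl Lrfl
theorem f288091 : Led Lsl_ef (LP (LK LD1_c5 LD2_c14 LD3_c42)) = (LP (LK LD1_c5 LD2_c8 LD3_c10)) :=
  Lgr Lrot21 (Lpr_ft (f180712 IH) (Lpr_et (f164394 IH) (Lpr_ft (f288083 IH) (Lpr_et (f53215 IH) (Lpr_ft (f165089 IH) (Lpn (LP (LK LD1_c5 LD2_c8 LD3_c10))))))))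
theorem f288135 : Led Lsl_at (LP (LK LD1_c5 LD2_c14 LD3_c42)) = (LP (LK LD1_c5 LD2_c8 LD3_c16)) :=
  Lgr Lrot80 (Lpr_ef (f288091 IH) (Lpe (f288056 IH) (Lpr_ef (f288133 IH) (Lpn (LP (LK LD1_c5 LD2_c8 LD3_c16))))))
theorem f180663 : Led Lsl_et (LP (LK LD1_c1 LD2_c14 LD3_c2)) = (LP (LK LD1_c2 LD2_c34 LD3_c9)) :=
  Lre_e IH (LK LD1_c1 LD2_c14 LD3_c2) (LK LD1_c2 LD2_c34 LD3_c9) Lrfl Lrfl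
theorem f180594 : Led Lsl_et (LP (LK LD1_c5 LD2_c9 LD3_c59)) = (LP (LK LD1_c2 LD2_c32 LD3_c1)) :=
  Lre_e IH (LK LD1_c5 LD2_c9 LD3_c59) (LK LD1_c2 LD2_c32 LD3_c1) Lrfl Lrfl
theorem f180695 : Led Lsl_ct (LP (LK LD1_c2 LD2_c34 LD3_c9)) = (LP (LK LD1_c5 LD2_c9 LD3_c59)) :=
  Lgr Lrot15 (Lpe (f180663 IH) (Lpr_cf (K10.f180633 IH) (Lpe (f180594 IH) (Lpn (LP (LK LD1_c5 LD2_c9 LD3_c59))))))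
theorem f180713 : Led Lsl_ft (LP (LK LD1_c5 LD2_c9 LD3_c59)) = (LP (LK LD1_c10 LD2_c10 LD3_c47)) :=
  Lre_f IH (LK LD1_c5 LD2_c9 LD3_c59) (LK LD1_c10 LD2_c10 LD3_c47) Lrfl Lrfl
theorem f180714 : Led Lsl_cf (LP (LK LD1_c5 LD2_c14 LD3_c42)) = (LP (LK LD1_c10 LD2_c10 LD3_c47)) :=
  Lgr Lrot108 (Lpr_ft (f180712 IH) (Lpr_ct (f180695 IH) (Lpr_ft (f180713 IH) (Lpn (LP (LK LD1_c10 LD2_c10 LD3_c47))))))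
theorem f165650 : Led Lsl_et (LP (LK LD1_c2 LD2_c28 LD3_c52)) = (LP (LK LD1_c5 LD2_c2 LD3_c38)) :=
  Lre_e IH (LK LD1_c2 LD2_c28 LD3_c52) (LK LD1_c5 LD2_c2 LD3_c38) Lrfl Lrfl
theorem f22380 : Led Lsl_et (LP (LK LD1_c2 LD2_c31 LD3_c20)) = (LP (LK LD1_c1 LD2_c12 LD3_c39)) :=
  Lre_e IH (LK LD1_c2 LD2_c31 LD3_c20) (LK LD1_c1 LD2_c12 LD3_c39) Lrfl Lrfl
theorem f165651 : Led Lsl_ct (LP (LK LD1_c5 LD2_c2 LD3_c38)) = (LP (LK LD1_c2 LD2_c31 LD3_c20)) :=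
  Lgr Lrot15 (Lpe (f165650 IH) (Lpr_cf (K9.f165640 IH) (Lpe (f22380 IH) (Lpn (LP (LK LD1_c2 LD2_c31 LD3_c20))))))
theorem f165754 : Led Lsl_ft (LP (LK LD1_c9 LD2_c56 LD3_c15)) = (LP (LK LD1_c5 LD2_c2 LD3_c38)) :=
  Lre_f IH (LK LD1_c9 LD2_c56 LD3_c15) (LK LD1_c5 LD2_c2 LD3_c38) Lrfl Lrfl
theorem f165756 : Led Lsl_cf (LP (LK LD1_c9 LD2_c56 LD3_c15)) = (LP (LK LD1_c5 LD2_c8 LD3_c16)) :=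
  Lgr Lrot108 (Lpr_ft (f165754 IH) (Lpr_ct (f165651 IH) (Lpr_ft (f165755 IH) (Lpn (LP (LK LD1_c5 LD2_c8 LD3_c16))))))
theorem f288203 : Led Lsl_af (LP (LK LD1_c10 LD2_c10 LD3_c47)) = (LP (LK LD1_c9 LD2_c56 LD3_c15)) :=
  Lgr Lrot68 (Lpe (f180714 IH) (Lpr_at (f288135 IH) (Lpe (f165756 IH) (Lpn (LP (LK LD1_c9 LD2_c56 LD3_c15))))))
theorem f180727 : Led Lsl_ft (LP (LK LD1_c10 LD2_c10 LD3_c47)) = (LP (LK LD1_c5 LD2_c9 LD3_c59)) :=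
  Lre_f IH (LK LD1_c10 LD2_c10 LD3_c47) (LK LD1_c5 LD2_c9 LD3_c59) Lrfl Lrfl
theorem f165772 : Led Lsl_ft (LP (LK LD1_c5 LD2_c2 LD3_c38)) = (LP (LK LD1_c9 LD2_c56 LD3_c15)) :=
  Lre_f IH (LK LD1_c5 LD2_c2 LD3_c38) (LK LD1_c9 LD2_c56 LD3_c15) Lrfl Lrfl
theorem f288209 : Led Lsl_at (LP (LK LD1_c5 LD2_c9 LD3_c59)) = (LP (LK LD1_c5 LD2_c2 LD3_c38)) :=
  Lgr Lrot66 (Lpe (f180727 IH) (Lpr_af (f288203 IH) (Lpe (f165772 IH) (Lpn (LP (LK LD1_c5 LD2_c2 LD3_c38))))))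
theorem f288217 : Led Lsl_af (LP (LK LD1_c5 LD2_c9 LD3_c59)) = (LP (LK LD1_c5 LD2_c2 LD3_c38)) :=
  Lgr Lrot0 (Lpr_at (f288209 IH) (Lpn (LP (LK LD1_c5 LD2_c2 LD3_c38))))
theorem f288225 : Led Lsl_at (LP (LK LD1_c2 LD2_c32 LD3_c1)) = (LP (LK LD1_c2 LD2_c28 LD3_c52)) :=
  Lgr Lrot80 (Lpe (f180594 IH) (Lpr_af (f288217 IH) (Lpe (f165650 IH) (Lpn (LP (LK LD1_c2 LD2_c28 LD3_c52))))))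
theorem f288228 : Led Lsl_af (LP (LK LD1_c1 LD2_c13 LD3_c2)) = (LP (LK LD1_c1 LD2_c11 LD3_c35)) :=
  Lgr Lrot117 (Lpr_dt (K10.f171646 IH) (Lpr_at (f288225 IH) (Lpr_dt (K8.f165604 IH) (Lpn (LP (LK LD1_c1 LD2_c11 LD3_c35))))))
theorem f288241 : Led Lsl_ft (LP (LK LD1_c1 LD2_c13 LD3_c6)) = (LP (LK LD1_c1 LD2_c11 LD3_c35)) :=
  Lgr Lrot2 (Lpe (K14.f186771 IH) (Lpr_gt (K10.f180538 IH) (Lpr_af (f288228 IH) (Lpn (LP (LK LD1_c1 LD2_c11 LD3_c35))))))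
theorem f288251 : Led Lsl_ff (LP (LK LD1_c1 LD2_c13 LD3_c6)) = (LP (LK LD1_c1 LD2_c11 LD3_c35)) :=
  Lgr Lrot3 (Lpr_ft (f288241 IH) (Lpn (LP (LK LD1_c1 LD2_c11 LD3_c35))))
theorem f288260 : Led Lsl_at (LP (LK LD1_c1 LD2_c13 LD3_c6)) = (LP (LK LD1_c1 LD2_c11 LD3_c41)) :=
  Lgr Lrot26 (Lpr_ff (f288251 IH) (Lpr_gt (K12.f165626 IH) (Lpr_gt (K12.f212223 IH) (Lpn (LP (LK LD1_c1 LD2_c11 LD3_c41))))))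
theorem f288230 : Led Lsl_at (LP (LK LD1_c1 LD2_c13 LD3_c2)) = (LP (LK LD1_c1 LD2_c11 LD3_c35)) :=
  Lgr Lrot100 (Lpr_af (f288228 IH) (Lpn (LP (LK LD1_c1 LD2_c11 LD3_c35))))
theorem f288274 : Led Lsl_ff (LP (LK LD1_c1 LD2_c13 LD3_c2)) = (LP (LK LD1_c1 LD2_c11 LD3_c41)) :=
  Lgr Lrot30 (Lpr_at (f288230 IH) (Lpe (f288251 IH) (Lpr_at (f288260 IH) (Lpn (LP (LK LD1_c1 LD2_c11 LD3_c41))))))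
theorem f288285 : Led Lsl_ft (LP (LK LD1_c1 LD2_c13 LD3_c2)) = (LP (LK LD1_c1 LD2_c11 LD3_c41)) :=
  Lgr Lrot48 (Lpr_ff (f288274 IH) (Lpn (LP (LK LD1_c1 LD2_c11 LD3_c41))))
theorem f180582 : Led Lsl_et (LP (LK LD1_c2 LD2_c32 LD3_c2)) = (LP (LK LD1_c1 LD2_c13 LD3_c2)) :=
  Lre_e IH (LK LD1_c2 LD2_c32 LD3_c2) (LK LD1_c1 LD2_c13 LD3_c2) Lrfl Lrfl
theorem f288291 : Led Lsl_ft (LP (LK LD1_c5 LD2_c9 LD3_c60)) = (LP (LK LD1_c2 LD2_c32 LD3_c2)) :=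
  Lre_f IH (LK LD1_c5 LD2_c9 LD3_c60) (LK LD1_c2 LD2_c32 LD3_c2) Lrfl Lrfl
theorem f165835 : Led Lsl_et (LP (LK LD1_c1 LD2_c11 LD3_c41)) = (LP (LK LD1_c2 LD2_c29 LD3_c7)) :=
  Lre_e IH (LK LD1_c1 LD2_c11 LD3_c41) (LK LD1_c2 LD2_c29 LD3_c7) Lrfl Lrfl
theorem f288292 : Led Lsl_ft (LP (LK LD1_c2 LD2_c29 LD3_c7)) = (LP (LK LD1_c5 LD2_c3 LD3_c12)) :=
  Lre_f IH (LK LD1_c2 LD2_c29 LD3_c7) (LK LD1_c5 LD2_c3 LD3_c12) Lrfl Lrfl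
theorem f288293 : Led Lsl_ef (LP (LK LD1_c5 LD2_c9 LD3_c60)) = (LP (LK LD1_c5 LD2_c3 LD3_c12)) :=
  Lgr Lrot21 (Lpr_ft (f288291 IH) (Lpr_et (f180582 IH) (Lpr_ft (f288285 IH) (Lpr_et (f165835 IH) (Lpr_ft (f288292 IH) (Lpn (LP (LK LD1_c5 LD2_c3 LD3_c12))))))))
theorem f288299 : Led Lsl_ct (LP (LK LD1_c5 LD2_c9 LD3_c60)) = (LP (LK LD1_c2 LD2_c32 LD3_c5)) :=
  Lre_c IH (LK LD1_c5 LD2_c9 LD3_c60) (LK LD1_c2 LD2_c32 LD3_c5) Lrfl Lrfl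
theorem f288300 : Led Lsl_ct (LP (LK LD1_c2 LD2_c29 LD3_c10)) = (LP (LK LD1_c5 LD2_c3 LD3_c12)) :=
  Lre_c IH (LK LD1_c2 LD2_c29 LD3_c10) (LK LD1_c5 LD2_c3 LD3_c12) Lrfl Lrfl
theorem f288301 : Led Lsl_et (LP (LK LD1_c2 LD2_c32 LD3_c5)) = (LP (LK LD1_c2 LD2_c29 LD3_c10)) :=
  Lgr Lrot158 (Lpe (f288299 IH) (Lpr_ef (f288293 IH) (Lpe (f288300 IH) (Lpn (LP (LK LD1_c2 LD2_c29 LD3_c10))))))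
theorem f288306 : Led Lsl_ef (LP (LK LD1_c2 LD2_c32 LD3_c5)) = (LP (LK LD1_c2 LD2_c29 LD3_c10)) :=
  Lgr Lrot88 (Lpr_et (f288301 IH) (Lpn (LP (LK LD1_c2 LD2_c29 LD3_c10))))
theorem f288310 : Led Lsl_bt (LP (LK LD1_c2 LD2_c32 LD3_c5)) = (LP (LK LD1_c5 LD2_c9 LD3_c45)) :=
  Lre_b IH (LK LD1_c2 LD2_c32 LD3_c5) (LK LD1_c5 LD2_c9 LD3_c45) Lrfl Lrfl
theorem f257729 : Led Lsl_bt (LP (LK LD1_c5 LD2_c3 LD3_c0)) = (LP (LK LD1_c2 LD2_c29 LD3_c10)) :=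
  Lre_b IH (LK LD1_c5 LD2_c3 LD3_c0) (LK LD1_c2 LD2_c29 LD3_c10) Lrfl Lrfl
theorem f288311 : Led Lsl_et (LP (LK LD1_c5 LD2_c9 LD3_c45)) = (LP (LK LD1_c5 LD2_c3 LD3_c0)) :=
  Lgr Lrot74 (Lpe (f288310 IH) (Lpr_ef (f288306 IH) (Lpe (f257729 IH) (Lpn (LP (LK LD1_c5 LD2_c3 LD3_c0))))))
theorem f288323 : Led Lsl_ft (LP (LK LD1_c2 LD2_c31 LD3_c57)) = (LP (LK LD1_c5 LD2_c9 LD3_c45)) :=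
  Lre_f IH (LK LD1_c2 LD2_c31 LD3_c57) (LK LD1_c5 LD2_c9 LD3_c45) Lrfl Lrfl
theorem f192574 : Led Lsl_et (LP (LK LD1_c1 LD2_c12 LD3_c61)) = (LP (LK LD1_c2 LD2_c31 LD3_c57)) :=
  Lre_e IH (LK LD1_c1 LD2_c12 LD3_c61) (LK LD1_c2 LD2_c31 LD3_c57) Lrfl Lrfl
theorem f257691 : Led Lsl_ft (LP (LK LD1_c5 LD2_c3 LD3_c0)) = (LP (LK LD1_c2 LD2_c29 LD3_c1)) :=
  Lre_f IH (LK LD1_c5 LD2_c3 LD3_c0) (LK LD1_c2 LD2_c29 LD3_c1) Lrfl Lrfl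
theorem f257637 : Led Lsl_et (LP (LK LD1_c2 LD2_c29 LD3_c1)) = (LP (LK LD1_c1 LD2_c11 LD3_c39)) :=
  Lre_e IH (LK LD1_c2 LD2_c29 LD3_c1) (LK LD1_c1 LD2_c11 LD3_c39) Lrfl Lrfl
theorem f288324 : Led Lsl_ff (LP (LK LD1_c1 LD2_c12 LD3_c61)) = (LP (LK LD1_c1 LD2_c11 LD3_c39)) :=
  Lgr Lrot72 (Lpr_et (f192574 IH) (Lpr_ft (f288323 IH) (Lpr_et (f288311 IH) (Lpr_ft (f257691 IH) (Lpr_et (f257637 IH) (Lpn (LP (LK LD1_c1 LD2_c11 LD3_c39))))))))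
theorem f288327 : Led Lsl_ft (LP (LK LD1_c2 LD2_c31 LD3_c56)) = (LP (LK LD1_c2 LD2_c29 LD3_c0)) :=
  Lgr Lrot4 (Lpe (K14.f165521 IH) (Lpr_ff (f288324 IH) (Lpe (K14.f169856 IH) (Lpn (LP (LK LD1_c2 LD2_c29 LD3_c0))))))
theorem f288330 : Led Lsl_at (LP (LK LD1_c2 LD2_c29 LD3_c0)) = (LP (LK LD1_c5 LD2_c2 LD3_c48)) :=
  Lre_a IH (LK LD1_c2 LD2_c29 LD3_c0) (LK LD1_c5 LD2_c2 LD3_c48) Lrfl Lrfl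
theorem f288340 : Led Lsl_gt (LP (LK LD1_c5 LD2_c9 LD3_c38)) = (LP (LK LD1_c5 LD2_c2 LD3_c48)) :=
  Lgr Lrot46 (Lpe (K14.f180706 IH) (Lpr_ft (f288327 IH) (Lpr_at (f288330 IH) (Lpn (LP (LK LD1_c5 LD2_c2 LD3_c48))))))
theorem f283847 : Led Lsl_ct (LP (LK LD1_c2 LD2_c28 LD3_c58)) = (LP (LK LD1_c5 LD2_c2 LD3_c48)) :=
  Lre_c IH (LK LD1_c2 LD2_c28 LD3_c58) (LK LD1_c5 LD2_c2 LD3_c48) Lrfl Lrfl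
theorem f288347 : Led Lsl_bf (LP (LK LD1_c2 LD2_c25 LD3_c3)) = (LP (LK LD1_c2 LD2_c28 LD3_c58)) :=
  Lgr Lrot156 (Lpr_gt (K15.f257086 IH) (Lpe (K15.f212231 IH) (Lpr_ct (K15.f212232 IH) (Lpe (K15.f257092 IH) (Lpe (K14.f32430 IH) (Lpe (K14.f212233 IH) (Lpr_gt (K9.f183921 IH) (Lpr_ct (K14.f242345 IH) (Lpr_gt (f288340 IH) (Lpe (f283847 IH) (Lpn (LP (LK LD1_c2 LD2_c28 LD3_c58)))))))))))))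
theorem f230742 : Led Lsl_cf (LP (LK LD1_c5 LD2_c1 LD3_c16)) = (LP (LK LD1_c5 LD2_c13 LD3_c8)) :=
  Lgr Lrot166 (Lpr_gt (K14.f192484 IH) (Lpr_dt (K14.f192483 IH) (Lpe (K10.f192477 IH) (Lpr_dt (K9.f44530 IH) (Lpr_ct (K10.f183970 IH) (Lpr_df (K12.f230724 IH) (Lpe (K12.f230678 IH) (Lpe (K13.f230674 IH) (Lpe (K14.f230702 IH) (Lpn (LP (LK LD1_c5 LD2_c13 LD3_c8))))))))))))
theorem f271196 : Led Lsl_gt (LP (LK LD1_c4 LD2_c27 LD3_c12)) = (LP (LK LD1_c5 LD2_c13 LD3_c8)) :=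
  Lgr Lrot150 (Lpe (K15.f182208 IH) (Lpe (K14.f238279 IH) (Lpr_df (K14.f253456 IH) (Lpr_gt (K14.f230939 IH) (Lpe (K14.f247441 IH) (Lpr_gt (K16.f271192 IH) (Lpr_ct (K16.f254258 IH) (Lpe (K14.f251664 IH) (Lpr_cf (f230742 IH) (Lpn (LP (LK LD1_c5 LD2_c13 LD3_c8))))))))))))
theorem f165526 : Led Lsl_bt (LP (LK LD1_c5 LD2_c13 LD3_c3)) = (LP (LK LD1_c2 LD2_c33 LD3_c24)) :=
  Lre_b IH (LK LD1_c5 LD2_c13 LD3_c3) (LK LD1_c2 LD2_c33 LD3_c24) Lrfl Lrfl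
theorem f165522 : Led Lsl_gt (LP (LK LD1_c5 LD2_c9 LD3_c39)) = (LP (LK LD1_c2 LD2_c31 LD3_c56)) :=
  Lre_g IH (LK LD1_c5 LD2_c9 LD3_c39) (LK LD1_c2 LD2_c31 LD3_c56) Lrfl Lrfl
theorem f165527 : Led Lsl_cf (LP (LK LD1_c5 LD2_c9 LD3_c39)) = (LP (LK LD1_c5 LD2_c13 LD3_c3)) :=
  Lgr Lrot160 (Lpr_gt (f165522 IH) (Lpe (K14.f165521 IH) (Lpr_bt (K14.f22106 IH) (Lpr_gt (K10.f22011 IH) (Lpr_ct (K10.f22020 IH) (Lpr_gt (K10.f165511 IH) (Lpe (K10.f165523 IH) (Lpr_bt (K13.f165524 IH) (Lpr_gt (K14.f165525 IH) (Lpe (f165526 IH) (Lpn (LP (LK LD1_c5 LD2_c13 LD3_c3)))))))))))))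
theorem f288404 : Led Lsl_gf (LP (LK LD1_c5 LD2_c9 LD3_c39)) = (LP (LK LD1_c5 LD2_c2 LD3_c48)) :=
  Lgr Lrot126 (Lpr_cf (f165527 IH) (Lpr_bt (f165526 IH) (Lpr_gt (K14.f238279 IH) (Lpr_ct (K15.f182208 IH) (Lpr_gt (f271196 IH) (Lpe (K14.f230738 IH) (Lpe (K14.f250060 IH) (Lpe (K14.f193130 IH) (Lpr_bf (f288347 IH) (Lpr_ct (f283847 IH) (Lpn (LP (LK LD1_c5 LD2_c2 LD3_c48)))))))))))))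
theorem f215583 : Led Lsl_gf (LP (LK LD1_c5 LD2_c21 LD3_c19)) = (LP (LK LD1_c5 LD2_c9 LD3_c36)) :=
  Lgr Lrot144 (Lpr_dt (K14.f190437 IH) (Lpr_gt (K14.f215252 IH) (Lpr_dt (K12.f214135 IH) (Lpe (K12.f171650 IH) (Lpe (K13.f171649 IH) (Lpe (K10.f171520 IH) (Lpe (K14.f165547 IH) (Lpe (K14.f180607 IH) (Lpe (K15.f215582 IH) (Lpn (LP (LK LD1_c5 LD2_c9 LD3_c36))))))))))))
theorem f283972 : Led Lsl_gf (LP (LK LD1_c2 LD2_c31 LD3_c55)) = (LP (LK LD1_c2 LD2_c28 LD3_c58)) :=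
  Lgr Lrot147 (Lpr_ct (K15.f215585 IH) (Lpe (f215583 IH) (Lpr_ct (K14.f190363 IH) (Lpe (K14.f43929 IH) (Lpr_cf (K10.f190430 IH) (Lpe (K10.f27710 IH) (Lpe (K10.f43219 IH) (Lpr_gf (f283964 IH) (Lpe (f283830 IH) (Lpn (LP (LK LD1_c2 LD2_c28 LD3_c58))))))))))))
theorem f3138 : Led Lsl_gt (LP (LK LD1_c9 LD2_c58 LD3_c26)) = (LP (LK LD1_c5 LD2_c3 LD3_c46)) :=
  Lre_g IH (LK LD1_c9 LD2_c58 LD3_c26) (LK LD1_c5 LD2_c3 LD3_c46) Lrfl Lrfl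
theorem f288406 : Led Lsl_dt (LP (LK LD1_c5 LD2_c9 LD3_c39)) = (LP (LK LD1_c9 LD2_c58 LD3_c26)) :=
  Lgr Lrot57 (Lpr_gf (f288404 IH) (Lpe (f283847 IH) (Lpe (f283972 IH) (Lpe (K14.f246142 IH) (Lpr_gt (K13.f166890 IH) (Lpe (K10.f166854 IH) (Lpe (K14.f3136 IH) (Lpe (K14.f3137 IH) (Lpe (f3138 IH) (Lpn (LP (LK LD1_c9 LD2_c58 LD3_c26))))))))))))
theorem f180580 : Led Lsl_ct (LP (LK LD1_c2 LD2_c31 LD3_c54)) = (LP (LK LD1_c5 LD2_c9 LD3_c33)) :=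
  Lre_c IH (LK LD1_c2 LD2_c31 LD3_c54) (LK LD1_c5 LD2_c9 LD3_c33) Lrfl Lrfl
theorem f256397 : Led Lsl_dt (LP (LK LD1_c10 LD2_c9 LD3_c49)) = (LP (LK LD1_c5 LD2_c9 LD3_c33)) :=
  Lre_d IH (LK LD1_c10 LD2_c9 LD3_c49) (LK LD1_c5 LD2_c9 LD3_c33) Lrfl Lrfl
theorem f253388 : Led Lsl_ct (LP (LK LD1_c5 LD2_c3 LD3_c46)) = (LP (LK LD1_c5 LD2_c21 LD3_c49)) :=
  Lgr Lrot59 (Lpr_cf (K14.f253383 IH) (Lpn (LP (LK LD1_c5 LD2_c21 LD3_c49))))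
theorem f189363 : Led Lsl_gt (LP (LK LD1_c5 LD2_c21 LD3_c49)) = (LP (LK LD1_c10 LD2_c33 LD3_c53)) :=
  Lre_g IH (LK LD1_c5 LD2_c21 LD3_c49) (LK LD1_c10 LD2_c33 LD3_c53) Lrfl Lrfl
theorem f288431 : Led Lsl_cf (LP (LK LD1_c10 LD2_c9 LD3_c49)) = (LP (LK LD1_c10 LD2_c33 LD3_c53)) :=
  Lgr Lrot175 (Lpr_dt (f256397 IH) (Lpe (f180580 IH) (Lpe (K14.f165572 IH) (Lpe (K14.f22107 IH) (Lpe (f165522 IH) (Lpr_dt (f288406 IH) (Lpr_gt (f3138 IH) (Lpr_ct (f253388 IH) (Lpr_gt (f189363 IH) (Lpn (LP (LK LD1_c10 LD2_c33 LD3_c53))))))))))))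
theorem f288482 : Led Lsl_gt (LP (LK LD1_c10 LD2_c9 LD3_c49)) = (LP (LK LD1_c15 LD2_c0 LD3_c36)) :=
  Lgr Lrot150 (Lpr_cf (f288431 IH) (Lpe (f189363 IH) (Lpe (K14.f189362 IH) (Lpr_gt (K10.f187528 IH) (Lpr_ct (K14.f189296 IH) (Lpe (K10.f191753 IH) (Lpe (K10.f187665 IH) (Lpe (f187678 IH) (Lpe (f215697 IH) (Lpn (LP (LK LD1_c15 LD2_c0 LD3_c36))))))))))))
theorem f180579 : Led Lsl_bt (LP (LK LD1_c1 LD2_c12 LD3_c1)) = (LP (LK LD1_c2 LD2_c30 LD3_c2)) :=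
  Lre_b IH (LK LD1_c1 LD2_c12 LD3_c1) (LK LD1_c2 LD2_c30 LD3_c2) Lrfl Lrfl
theorem f180543 : Led Lsl_bt (LP (LK LD1_c0 LD2_c33 LD3_c52)) = (LP (LK LD1_c1 LD2_c12 LD3_c61)) :=
  Lre_b IH (LK LD1_c0 LD2_c33 LD3_c52) (LK LD1_c1 LD2_c12 LD3_c61) Lrfl Lrfl
theorem f260601 : Led Lsl_gt (LP (LK LD1_c5 LD2_c9 LD3_c33)) = (LP (LK LD1_c5 LD2_c15 LD3_c31)) :=
  Lgr Lrot149 (Lpe (f180580 IH) (Lpe (K14.f165572 IH) (Lpe (f180543 IH) (Lpr_ct (K10.f22100 IH) (Lpe (K10.f180538 IH) (Lpe (K10.f180532 IH) (Lpr_bt (f180579 IH) (Lpr_gf (K15.f260593 IH) (Lpe (K15.f215350 IH) (Lpr_ct (K14.f195843 IH) (Lpn (LP (LK LD1_c5 LD2_c15 LD3_c31)))))))))))))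
theorem f190927 : Led Lsl_gt (LP (LK LD1_c2 LD2_c34 LD3_c35)) = (LP (LK LD1_c5 LD2_c15 LD3_c30)) :=
  Lre_g IH (LK LD1_c2 LD2_c34 LD3_c35) (LK LD1_c5 LD2_c15 LD3_c30) Lrfl Lrfl
theorem f44611 : Led Lsl_dt (LP (LK LD1_c10 LD2_c33 LD3_c14)) = (LP (LK LD1_c5 LD2_c21 LD3_c28)) :=
  Lre_d IH (LK LD1_c10 LD2_c33 LD3_c14) (LK LD1_c5 LD2_c21 LD3_c28) Lrfl Lrfl
theorem f253480 : Led Lsl_gf (LP (LK LD1_c10 LD2_c33 LD3_c14)) = (LP (LK LD1_c10 LD2_c30 LD3_c41)) :=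
  Lgr Lrot143 (Lpr_dt (f44611 IH) (Lpe (K14.f44601 IH) (Lpr_df (K14.f44599 IH) (Lpr_gf (K14.f253477 IH) (Lpe (K14.f231289 IH) (Lpe (K14.f253421 IH) (Lpe (K10.f46481 IH) (Lpr_gt (K10.f9018 IH) (Lpr_dt (f9019 IH) (Lpn (LP (LK LD1_c10 LD2_c30 LD3_c41))))))))))))
theorem f169633 : Led Lsl_gt (LP (LK LD1_c2 LD2_c29 LD3_c0)) = (LP (LK LD1_c5 LD2_c2 LD3_c55)) :=
  Lre_g IH (LK LD1_c2 LD2_c29 LD3_c0) (LK LD1_c5 LD2_c2 LD3_c55) Lrfl Lrfl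
theorem f249546 : Led Lsl_dt (LP (LK LD1_c5 LD2_c2 LD3_c55)) = (LP (LK LD1_c9 LD2_c56 LD3_c38)) :=
  Lre_d IH (LK LD1_c5 LD2_c2 LD3_c55) (LK LD1_c9 LD2_c56 LD3_c38) Lrfl Lrfl
theorem f44602 : Led Lsl_dt (LP (LK LD1_c5 LD2_c21 LD3_c28)) = (LP (LK LD1_c10 LD2_c33 LD3_c14)) :=
  Lre_d IH (LK LD1_c5 LD2_c21 LD3_c28) (LK LD1_c10 LD2_c33 LD3_c14) Lrfl Lrfl
theorem f261331 : Led Lsl_cf (LP (LK LD1_c9 LD2_c56 LD3_c38)) = (LP (LK LD1_c10 LD2_c33 LD3_c14)) :=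
  Lgr Lrot14 (Lpe (f249546 IH) (Lpe (f169633 IH) (Lpe (K14.f169976 IH) (Lpe (K14.f249092 IH) (Lpr_ct (K14.f46422 IH) (Lpr_gt (K14.f194900 IH) (Lpr_dt (K14.f214092 IH) (Lpr_gt (K15.f261327 IH) (Lpr_dt (f44602 IH) (Lpn (LP (LK LD1_c10 LD2_c33 LD3_c14))))))))))))
theorem f288495 : Led Lsl_ct (LP (LK LD1_c5 LD2_c15 LD3_c30)) = (LP (LK LD1_c5 LD2_c2 LD3_c55)) :=
  Lgr Lrot110 (Lpe (f190927 IH) (Lpe (K14.f191031 IH) (Lpe (f260601 IH) (Lpe (f256397 IH) (Lpr_gt (f288482 IH) (Lpr_ct (f215697 IH) (Lpe (f253480 IH) (Lpe (f261331 IH) (Lpe (f249546 IH) (Lpn (LP (LK LD1_c5 LD2_c2 LD3_c55))))))))))))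
theorem f288512 : Led Lsl_bt (LP (LK LD1_c5 LD2_c15 LD3_c30)) = (LP (LK LD1_c4 LD2_c1 LD3_c59)) :=
  Lgr Lrot130 (Lpr_ct (f288495 IH) (Lpe (f169633 IH) (Lpe (K14.f169632 IH) (Lpr_bt (K14.f169631 IH) (Lpe (K9.f169610 IH) (Lpe (K11.f165327 IH) (Lpr_ct (K11.f165328 IH) (Lpr_gf (K13.f242847 IH) (Lpe (K13.f229126 IH) (Lpe (K13.f193631 IH) (Lpn (LP (LK LD1_c4 LD2_c1 LD3_c59)))))))))))))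
theorem f288522 : Led Lsl_ff (LP (LK LD1_c5 LD2_c15 LD3_c30)) = (LP (LK LD1_c5 LD2_c12 LD3_c38)) :=
  Lgr Lrot25 (Lpr_bt (f288512 IH) (Lpr_ft (K16.f269252 IH) (Lpr_bt (K14.f183941 IH) (Lpn (LP (LK LD1_c5 LD2_c12 LD3_c38))))))
theorem f288529 : Led Lsl_at (LP (LK LD1_c5 LD2_c15 LD3_c30)) = (LP (LK LD1_c5 LD2_c13 LD3_c3)) :=
  Lgr Lrot26 (Lpr_ff (f288522 IH) (Lpr_gt (K14.f254461 IH) (Lpe (K15.f256487 IH) (Lpn (LP (LK LD1_c5 LD2_c13 LD3_c3))))))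
theorem f261329 : Led Lsl_ct (LP (LK LD1_c9 LD2_c56 LD3_c38)) = (LP (LK LD1_c10 LD2_c33 LD3_c14)) :=
  Lgr Lrot7 (Lpe (f249546 IH) (Lpe (f169633 IH) (Lpe (K14.f169976 IH) (Lpe (K14.f249092 IH) (Lpe (K14.f46472 IH) (Lpr_gt (K14.f194900 IH) (Lpr_dt (K14.f214092 IH) (Lpr_gt (K15.f261327 IH) (Lpr_dt (f44602 IH) (Lpn (LP (LK LD1_c10 LD2_c33 LD3_c14))))))))))))
theorem f183831 : Led Lsl_ct (LP (LK LD1_c2 LD2_c10 LD3_c54)) = (LP (LK LD1_c4 LD2_c7 LD3_c48)) :=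
  Lgr Lrot15 (Lpe (K16.f44606 IH) (Lpr_cf (K9.f183826 IH) (Lpe (K14.f49222 IH) (Lpn (LP (LK LD1_c4 LD2_c7 LD3_c48))))))
theorem f45748 : Led Lsl_gt (LP (LK LD1_c4 LD2_c21 LD3_c8)) = (LP (LK LD1_c2 LD2_c8 LD3_c6)) :=
  Lre_g IH (LK LD1_c4 LD2_c21 LD3_c8) (LK LD1_c2 LD2_c8 LD3_c6) Lrfl Lrfl
theorem f275267 : Led Lsl_cf (LP (LK LD1_c4 LD2_c21 LD3_c8)) = (LP (LK LD1_c2 LD2_c11 LD3_c7)) :=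
  Lgr Lrot169 (Lpr_gt (f45748 IH) (Lpr_ct (K10.f46483 IH) (Lpe (K10.f191751 IH) (Lpe (K14.f187672 IH) (Lpe (K10.f9018 IH) (Lpe (K1.f46408 IH) (Lpe (K13.f45820 IH) (Lpr_df (K14.f254285 IH) (Lpr_gt (K16.f275252 IH) (Lpn (LP (LK LD1_c2 LD2_c11 LD3_c7))))))))))))
theorem f288504 : Led Lsl_df (LP (LK LD1_c5 LD2_c15 LD3_c30)) = (LP (LK LD1_c4 LD2_c21 LD3_c8)) :=
  Lgr Lrot43 (Lpr_ct (f288495 IH) (Lpr_dt (f249546 IH) (Lpr_ct (f261329 IH) (Lpr_dt (f44611 IH) (Lpr_ct (K14.f44612 IH) (Lpr_dt (K14.f44603 IH) (Lpr_ct (f183831 IH) (Lpe (K14.f230828 IH) (Lpr_ct (K14.f169838 IH) (Lpr_dt (f169849 IH) (Lpe (f283869 IH) (Lpr_dt (f215434 IH) (Lpr_ct (K14.f215435 IH) (Lpr_dt (K16.f275192 IH) (Lpe (f275267 IH) (Lpn (LP (LK LD1_c4 LD2_c21 LD3_c8))))))))))))))))))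
theorem f288537 : Led Lsl_af (LP (LK LD1_c4 LD2_c21 LD3_c8)) = (LP (LK LD1_c8 LD2_c7 LD3_c20)) :=
  Lgr Lrot117 (Lpe (f288504 IH) (Lpr_at (f288529 IH) (Lpr_dt (K15.f256478 IH) (Lpn (LP (LK LD1_c8 LD2_c7 LD3_c20))))))
theorem f288541 : Led Lsl_ft (LP (LK LD1_c4 LD2_c7 LD3_c48)) = (LP (LK LD1_c8 LD2_c7 LD3_c20)) :=
  Lgr Lrot142 (Lpe (K14.f230828 IH) (Lpr_ct (K14.f169838 IH) (Lpr_dt (f169849 IH) (Lpe (f283869 IH) (Lpr_dt (f215434 IH) (Lpr_ct (K14.f215435 IH) (Lpr_dt (K16.f275192 IH) (Lpe (f275267 IH) (Lpr_af (f288537 IH) (Lpn (LP (LK LD1_c8 LD2_c7 LD3_c20))))))))))))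
theorem f230863 : Led Lsl_gt (LP (LK LD1_c4 LD2_c7 LD3_c48)) = (LP (LK LD1_c8 LD2_c15 LD3_c41)) :=
  Lre_g IH (LK LD1_c4 LD2_c7 LD3_c48) (LK LD1_c8 LD2_c15 LD3_c41) Lrfl Lrfl
theorem f288551 : Led Lsl_gt (LP (LK LD1_c8 LD2_c15 LD3_c41)) = (LP (LK LD1_c4 LD2_c21 LD3_c8)) :=
  Lgr Lrot46 (Lpe (f230863 IH) (Lpr_ft (f288541 IH) (Lpe (f288537 IH) (Lpn (LP (LK LD1_c4 LD2_c21 LD3_c8))))))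
theorem f256549 : Led Lsl_dt (LP (LK LD1_c5 LD2_c9 LD3_c33)) = (LP (LK LD1_c10 LD2_c9 LD3_c49)) :=
  Lre_d IH (LK LD1_c5 LD2_c9 LD3_c33) (LK LD1_c10 LD2_c9 LD3_c49) Lrfl Lrfl
theorem f165573 : Led Lsl_ct (LP (LK LD1_c5 LD2_c9 LD3_c33)) = (LP (LK LD1_c2 LD2_c31 LD3_c54)) :=
  Lre_c IH (LK LD1_c5 LD2_c9 LD3_c33) (LK LD1_c2 LD2_c31 LD3_c54) Lrfl Lrfl
theorem f283851 : Led Lsl_ct (LP (LK LD1_c10 LD2_c33 LD3_c54)) = (LP (LK LD1_c10 LD2_c9 LD3_c57)) :=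
  Lgr Lrot7 (Lpe (K15.f256311 IH) (Lpe (K15.f183917 IH) (Lpe (f191001 IH) (Lpr_gf (f283845 IH) (Lpe (K12.f214312 IH) (Lpr_gt (K14.f215342 IH) (Lpr_dt (K14.f191032 IH) (Lpr_gt (K15.f259707 IH) (Lpr_dt (f215589 IH) (Lpn (LP (LK LD1_c10 LD2_c9 LD3_c57))))))))))))
theorem f215588 : Led Lsl_dt (LP (LK LD1_c10 LD2_c9 LD3_c57)) = (LP (LK LD1_c5 LD2_c9 LD3_c36)) :=
  Lre_d IH (LK LD1_c10 LD2_c9 LD3_c57) (LK LD1_c5 LD2_c9 LD3_c36) Lrfl Lrfl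
theorem f288475 : Led Lsl_dt (LP (LK LD1_c10 LD2_c9 LD3_c46)) = (LP (LK LD1_c10 LD2_c33 LD3_c53)) :=
  Lgr Lrot173 (Lpe (K15.f265578 IH) (Lpe (K15.f189263 IH) (Lpr_cf (K13.f219191 IH) (Lpr_df (K14.f246142 IH) (Lpe (K15.f215582 IH) (Lpe (f215588 IH) (Lpe (f283851 IH) (Lpe (K15.f256311 IH) (Lpr_cf (K15.f256547 IH) (Lpe (K14.f199575 IH) (Lpe (K15.f166891 IH) (Lpe (K14.f256393 IH) (Lpe (f165573 IH) (Lpe (f256397 IH) (Lpr_cf (f288431 IH) (Lpn (LP (LK LD1_c10 LD2_c33 LD3_c53))))))))))))))))))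
theorem f288480 : Led Lsl_gf (LP (LK LD1_c5 LD2_c9 LD3_c33)) = (LP (LK LD1_c5 LD2_c21 LD3_c19)) :=
  Lgr Lrot143 (Lpr_dt (f256549 IH) (Lpr_cf (f288431 IH) (Lpe (f288475 IH) (Lpe (K15.f265574 IH) (Lpr_df (K15.f259752 IH) (Lpe (K15.f259733 IH) (Lpe (K15.f43898 IH) (Lpe (K14.f215025 IH) (Lpr_dt (K14.f190370 IH) (Lpn (LP (LK LD1_c5 LD2_c21 LD3_c19))))))))))))
theorem f214789 : Led Lsl_dt (LP (LK LD1_c15 LD2_c0 LD3_c36)) = (LP (LK LD1_c7 LD2_c57 LD3_c31)) :=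
  Lre_d IH (LK LD1_c15 LD2_c0 LD3_c36) (LK LD1_c7 LD2_c57 LD3_c31) Lrfl Lrfl
theorem f288493 : Led Lsl_dt (LP (LK LD1_c8 LD2_c15 LD3_c41)) = (LP (LK LD1_c4 LD2_c27 LD3_c9)) :=
  Lgr Lrot105 (Lpe (f230863 IH) (Lpe (K14.f230857 IH) (Lpr_gf (K14.f194158 IH) (Lpe (K14.f190363 IH) (Lpe (f288480 IH) (Lpr_dt (f256549 IH) (Lpr_gt (f288482 IH) (Lpr_dt (f214789 IH) (Lpe (K14.f214790 IH) (Lpn (LP (LK LD1_c4 LD2_c27 LD3_c9))))))))))))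
theorem f288555 : Led Lsl_cf (LP (LK LD1_c2 LD2_c11 LD3_c7)) = (LP (LK LD1_c4 LD2_c21 LD3_c8)) :=
  Lgr Lrot169 (Lpr_gt (K16.f253423 IH) (Lpe (K14.f253408 IH) (Lpe (K14.f166883 IH) (Lpe (K14.f166898 IH) (Lpe (K15.f259978 IH) (Lpe (K10.f192903 IH) (Lpe (K14.f46397 IH) (Lpe (f288493 IH) (Lpr_gt (f288551 IH) (Lpn (LP (LK LD1_c4 LD2_c21 LD3_c8))))))))))))
theorem f249639 : Led Lsl_bt (LP (LK LD1_c2 LD2_c3 LD3_c22)) = (LP (LK LD1_c2 LD2_c6 LD3_c38)) :=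
  Lgr Lrot95 (Lpe (K14.f166883 IH) (Lpr_bf (K14.f249624 IH) (Lpe (K14.f246663 IH) (Lpn (LP (LK LD1_c2 LD2_c6 LD3_c38))))))
theorem f229708 : Led Lsl_ft (LP (LK LD1_c3 LD2_c56 LD3_c61)) = (LP (LK LD1_c1 LD2_c55 LD3_c14)) :=
  Lre_f IH (LK LD1_c3 LD2_c56 LD3_c61) (LK LD1_c1 LD2_c55 LD3_c14) Lrfl Lrfl
theorem f287690 : Led Lsl_bt (LP (LK LD1_c5 LD2_c19 LD3_c10)) = (LP (LK LD1_c3 LD2_c56 LD3_c61)) :=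
  Lgr Lrot35 (Lpr_ff (f287688 IH) (Lpe (K14.f229648 IH) (Lpe (f229708 IH) (Lpn (LP (LK LD1_c3 LD2_c56 LD3_c61))))))
theorem f243041 : Led Lsl_cf (LP (LK LD1_c1 LD2_c1 LD3_c32)) = (LP (LK LD1_c2 LD2_c8 LD3_c18)) :=
  Lgr Lrot39 (Lpe (K12.f193374 IH) (Lpr_ct (K12.f178977 IH) (Lpr_et (K13.f243039 IH) (Lpn (LP (LK LD1_c2 LD2_c8 LD3_c18))))))
theorem f260188 : Led Lsl_gf (LP (LK LD1_c2 LD2_c8 LD3_c18)) = (LP (LK LD1_c3 LD2_c56 LD3_c61)) :=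
  Lgr Lrot104 (Lpe (f243041 IH) (Lpr_df (K13.f227554 IH) (Lpe (K12.f164688 IH) (Lpe (K12.f227931 IH) (Lpe (K12.f34068 IH) (Lpr_gf (K13.f243018 IH) (Lpr_df (K13.f242577 IH) (Lpr_gt (K15.f260168 IH) (Lpe (K15.f242241 IH) (Lpn (LP (LK LD1_c3 LD2_c56 LD3_c61))))))))))))
theorem f288570 : Led Lsl_bf (LP (LK LD1_c2 LD2_c8 LD3_c18)) = (LP (LK LD1_c4 LD2_c21 LD3_c8)) :=
  Lgr Lrot34 (Lpr_gf (f260188 IH) (Lpe (f287690 IH) (Lpr_ct (K15.f260253 IH) (Lpe (K15.f260269 IH) (Lpe (K15.f248045 IH) (Lpr_gf (K14.f255923 IH) (Lpe (f249639 IH) (Lpr_ct (K14.f253413 IH) (Lpe (K16.f253423 IH) (Lpr_cf (f288555 IH) (Lpn (LP (LK LD1_c4 LD2_c21 LD3_c8)))))))))))))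
theorem f33192 : Led Lsl_dt (LP (LK LD1_c5 LD2_c8 LD3_c35)) = (LP (LK LD1_c10 LD2_c7 LD3_c36)) :=
  Lre_d IH (LK LD1_c5 LD2_c8 LD3_c35) (LK LD1_c10 LD2_c7 LD3_c36) Lrfl Lrfl
theorem f242092 : Led Lsl_cf (LP (LK LD1_c8 LD2_c4 LD3_c17)) = (LP (LK LD1_c4 LD2_c2 LD3_c13)) :=
  Lgr Lrot11 (Lpr_ct (K13.f242081 IH) (Lpn (LP (LK LD1_c4 LD2_c2 LD3_c13))))
theorem f242493 : Led Lsl_cf (LP (LK LD1_c5 LD2_c13 LD3_c44)) = (LP (LK LD1_c10 LD2_c7 LD3_c36)) :=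
  Lgr Lrot99 (Lpe (K12.f201443 IH) (Lpe (K16.f164690 IH) (Lpe (K13.f240526 IH) (Lpe (K12.f47085 IH) (Lpr_gf (K12.f190343 IH) (Lpe (K13.f190438 IH) (Lpr_gt (K13.f242490 IH) (Lpe (f242092 IH) (Lpr_gt (K16.f242096 IH) (Lpn (LP (LK LD1_c10 LD2_c7 LD3_c36))))))))))))
theorem f164689 : Led Lsl_dt (LP (LK LD1_c5 LD2_c13 LD3_c44)) = (LP (LK LD1_c2 LD2_c33 LD3_c45)) :=
  Lre_d IH (LK LD1_c5 LD2_c13 LD3_c44) (LK LD1_c2 LD2_c33 LD3_c45) Lrfl Lrfl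
theorem f243033 : Led Lsl_ct (LP (LK LD1_c1 LD2_c1 LD3_c32)) = (LP (LK LD1_c2 LD2_c8 LD3_c18)) :=
  Lgr Lrot176 (Lpr_df (K13.f227554 IH) (Lpe (K12.f164688 IH) (Lpe (f164689 IH) (Lpr_cf (f242493 IH) (Lpe (f33192 IH) (Lpe (K13.f240134 IH) (Lpr_df (K13.f243009 IH) (Lpe (K13.f164142 IH) (Lpe (K13.f241814 IH) (Lpr_cf (K13.f242770 IH) (Lpr_df (K13.f242791 IH) (Lpr_cf (K13.f242079 IH) (Lpe (K13.f240085 IH) (Lpe (K14.f239957 IH) (Lpr_df (K13.f243031 IH) (Lpn (LP (LK LD1_c2 LD2_c8 LD3_c18))))))))))))))))))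
theorem f255206 : Led Lsl_ft (LP (LK LD1_c2 LD2_c8 LD3_c18)) = (LP (LK LD1_c1 LD2_c13 LD3_c34)) :=
  Lgr Lrot4 (Lpe (f243033 IH) (Lpr_ff (K14.f255202 IH) (Lpe (K13.f196108 IH) (Lpn (LP (LK LD1_c1 LD2_c13 LD3_c34))))))
theorem f196112 : Led Lsl_bt (LP (LK LD1_c1 LD2_c13 LD3_c34)) = (LP (LK LD1_c2 LD2_c33 LD3_c10)) :=
  Lre_b IH (LK LD1_c1 LD2_c13 LD3_c34) (LK LD1_c2 LD2_c33 LD3_c10) Lrfl Lrfl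
theorem f288574 : Led Lsl_ft (LP (LK LD1_c2 LD2_c33 LD3_c10)) = (LP (LK LD1_c4 LD2_c21 LD3_c8)) :=
  Lgr Lrot75 (Lpe (f196112 IH) (Lpe (f255206 IH) (Lpr_bf (f288570 IH) (Lpn (LP (LK LD1_c4 LD2_c21 LD3_c8))))))
theorem f288580 : Led Lsl_ff (LP (LK LD1_c2 LD2_c33 LD3_c10)) = (LP (LK LD1_c4 LD2_c21 LD3_c8)) :=
  Lgr Lrot3 (Lpr_ft (f288574 IH) (Lpn (LP (LK LD1_c4 LD2_c21 LD3_c8))))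
theorem f288584 : Led Lsl_ft (LP (LK LD1_c1 LD2_c13 LD3_c40)) = (LP (LK LD1_c2 LD2_c11 LD3_c7)) :=
  Lgr Lrot4 (Lpe (K9.f183919 IH) (Lpr_ff (f288580 IH) (Lpr_cf (f275267 IH) (Lpn (LP (LK LD1_c2 LD2_c11 LD3_c7))))))
theorem f288590 : Led Lsl_ff (LP (LK LD1_c2 LD2_c33 LD3_c28)) = (LP (LK LD1_c2 LD2_c37 LD3_c22)) :=
  Lgr Lrot19 (Lpr_dt (K9.f183918 IH) (Lpr_ft (f288584 IH) (Lpe (K16.f275248 IH) (Lpn (LP (LK LD1_c2 LD2_c37 LD3_c22))))))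
theorem f288598 : Led Lsl_at (LP (LK LD1_c2 LD2_c33 LD3_c28)) = (LP (LK LD1_c2 LD2_c37 LD3_c21)) :=
  Lgr Lrot26 (Lpr_ff (f288590 IH) (Lpr_gt (K14.f44732 IH) (Lpr_gt (K14.f44596 IH) (Lpn (LP (LK LD1_c2 LD2_c37 LD3_c21))))))
theorem f288604 : Led Lsl_af (LP (LK LD1_c5 LD2_c13 LD3_c13)) = (LP (LK LD1_c5 LD2_c21 LD3_c29)) :=
  Lgr Lrot50 (Lpr_et (K15.f183938 IH) (Lpr_at (f288598 IH) (Lpr_et (K16.f44605 IH) (Lpn (LP (LK LD1_c5 LD2_c21 LD3_c29))))))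
theorem f44617 : Led Lsl_df (LP (LK LD1_c5 LD2_c21 LD3_c29)) = (LP (LK LD1_c4 LD2_c27 LD3_c23)) :=
  Lgr Lrot38 (Lpr_dt (K16.f44609 IH) (Lpn (LP (LK LD1_c4 LD2_c27 LD3_c23))))
theorem f288611 : Led Lsl_at (LP (LK LD1_c2 LD2_c33 LD3_c27)) = (LP (LK LD1_c4 LD2_c27 LD3_c23)) :=
  Lgr Lrot51 (Lpe (K15.f183939 IH) (Lpr_af (f288604 IH) (Lpr_df (f44617 IH) (Lpn (LP (LK LD1_c4 LD2_c27 LD3_c23))))))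
theorem f288617 : Led Lsl_ft (LP (LK LD1_c5 LD2_c13 LD3_c14)) = (LP (LK LD1_c2 LD2_c33 LD3_c27)) :=
  Lre_f IH (LK LD1_c5 LD2_c13 LD3_c14) (LK LD1_c2 LD2_c33 LD3_c27) Lrfl Lrfl
theorem f41475 : Led Lsl_et (LP (LK LD1_c1 LD2_c16 LD3_c15)) = (LP (LK LD1_c0 LD2_c35 LD3_c18)) :=
  Lre_e IH (LK LD1_c1 LD2_c16 LD3_c15) (LK LD1_c0 LD2_c35 LD3_c18) Lrfl Lrfl
theorem f41476 : Led Lsl_dt (LP (LK LD1_c1 LD2_c16 LD3_c15)) = (LP (LK LD1_c2 LD2_c38 LD3_c46)) :=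
  Lre_d IH (LK LD1_c1 LD2_c16 LD3_c15) (LK LD1_c2 LD2_c38 LD3_c46) Lrfl Lrfl
theorem f195897 : Led Lsl_gf (LP (LK LD1_c4 LD2_c27 LD3_c23)) = (LP (LK LD1_c2 LD2_c38 LD3_c46)) :=
  Lgr Lrot145 (Lpe (K16.f44609 IH) (Lpr_et (K16.f44623 IH) (Lpr_gt (K14.f195880 IH) (Lpr_dt (K14.f190434 IH) (Lpr_gt (K10.f8482 IH) (Lpe (K12.f46457 IH) (Lpr_et (K15.f195895 IH) (Lpr_gt (K13.f195896 IH) (Lpe (f41475 IH) (Lpr_dt (f41476 IH) (Lpn (LP (LK LD1_c2 LD2_c38 LD3_c46)))))))))))))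
theorem f288620 : Led Lsl_gt (LP (LK LD1_c5 LD2_c13 LD3_c14)) = (LP (LK LD1_c2 LD2_c38 LD3_c46)) :=
  Lgr Lrot5 (Lpr_ft (f288617 IH) (Lpr_at (f288611 IH) (Lpr_gf (f195897 IH) (Lpn (LP (LK LD1_c2 LD2_c38 LD3_c46))))))
theorem f241959 : Led Lsl_gt (LP (LK LD1_c1 LD2_c16 LD3_c9)) = (LP (LK LD1_c2 LD2_c38 LD3_c27)) :=
  Lre_g IH (LK LD1_c1 LD2_c16 LD3_c9) (LK LD1_c2 LD2_c38 LD3_c27) Lrfl Lrfl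
theorem f288633 : Led Lsl_et (LP (LK LD1_c5 LD2_c23 LD3_c51)) = (LP (LK LD1_c2 LD2_c38 LD3_c27)) :=
  Lre_e IH (LK LD1_c5 LD2_c23 LD3_c51) (LK LD1_c2 LD2_c38 LD3_c27) Lrfl Lrfl
theorem f288634 : Led Lsl_df (LP (LK LD1_c5 LD2_c13 LD3_c14)) = (LP (LK LD1_c5 LD2_c23 LD3_c51)) :=
  Lgr Lrot170 (Lpr_gt (f288620 IH) (Lpe (f41476 IH) (Lpr_et (f41475 IH) (Lpr_gt (K9.f41435 IH) (Lpr_dt (K1.f41420 IH) (Lpr_gt (K9.f41437 IH) (Lpe (K13.f167824 IH) (Lpr_et (K16.f256322 IH) (Lpr_gt (f241959 IH) (Lpe (f288633 IH) (Lpn (LP (LK LD1_c5 LD2_c23 LD3_c51)))))))))))))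
theorem f288641 : Led Lsl_ft (LP (LK LD1_c5 LD2_c13 LD3_c13)) = (LP (LK LD1_c5 LD2_c23 LD3_c51)) :=
  Lgr Lrot54 (Lpe (K15.f258113 IH) (Lpe (f288617 IH) (Lpr_df (f288634 IH) (Lpn (LP (LK LD1_c5 LD2_c23 LD3_c51))))))
theorem f7593 : Led Lsl_bt (LP (LK LD1_c0 LD2_c36 LD3_c1)) = (LP (LK LD1_c1 LD2_c16 LD3_c25)) :=
  Lre_b IH (LK LD1_c0 LD2_c36 LD3_c1) (LK LD1_c1 LD2_c16 LD3_c25) Lrfl Lrfl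
theorem f7594 : Led Lsl_bt (LP (LK LD1_c1 LD2_c16 LD3_c25)) = (LP (LK LD1_c0 LD2_c36 LD3_c1)) :=
  Lre_b IH (LK LD1_c1 LD2_c16 LD3_c25) (LK LD1_c0 LD2_c36 LD3_c1) Lrfl Lrfl
theorem f7595 : Led Lsl_dt (LP (LK LD1_c1 LD2_c16 LD3_c25)) = (LP (LK LD1_c1 LD2_c16 LD3_c25)) :=
  Lgr Lrot79 (Lpe (f7593 IH) (Lpr_df (K0.f7587 IH) (Lpe (f7594 IH) (Lpn (LP (LK LD1_c1 LD2_c16 LD3_c25))))))
theorem f42213 : Led Lsl_gt (LP (LK LD1_c2 LD2_c39 LD3_c17)) = (LP (LK LD1_c1 LD2_c16 LD3_c25)) :=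
  Lre_g IH (LK LD1_c2 LD2_c39 LD3_c17) (LK LD1_c1 LD2_c16 LD3_c25) Lrfl Lrfl
theorem f215489 : Led Lsl_gt (LP (LK LD1_c8 LD2_c21 LD3_c60)) = (LP (LK LD1_c4 LD2_c11 LD3_c9)) :=
  Lre_g IH (LK LD1_c8 LD2_c21 LD3_c60) (LK LD1_c4 LD2_c11 LD3_c9) Lrfl Lrfl
theorem f169187 : Led Lsl_gt (LP (LK LD1_c2 LD2_c36 LD3_c59)) = (LP (LK LD1_c5 LD2_c20 LD3_c40)) :=
  Lre_g IH (LK LD1_c2 LD2_c36 LD3_c59) (LK LD1_c5 LD2_c20 LD3_c40) Lrfl Lrfl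
theorem f215491 : Led Lsl_dt (LP (LK LD1_c5 LD2_c20 LD3_c40)) = (LP (LK LD1_c8 LD2_c21 LD3_c60)) :=
  Lgr Lrot171 (Lpe (f169187 IH) (Lpe (K16.f169246 IH) (Lpr_dt (K12.f169257 IH) (Lpe (K9.f167830 IH) (Lpe (K12.f167805 IH) (Lpr_et (K15.f215490 IH) (Lpe (f42213 IH) (Lpe (K16.f215465 IH) (Lpr_dt (K16.f215468 IH) (Lpe (f215489 IH) (Lpn (LP (LK LD1_c8 LD2_c21 LD3_c60)))))))))))))
theorem f215514 : Led Lsl_et (LP (LK LD1_c5 LD2_c20 LD3_c40)) = (LP (LK LD1_c10 LD2_c31 LD3_c25)) :=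
  Lre_e IH (LK LD1_c5 LD2_c20 LD3_c40) (LK LD1_c10 LD2_c31 LD3_c25) Lrfl Lrfl
theorem f246154 : Led Lsl_gf (LP (LK LD1_c10 LD2_c31 LD3_c25)) = (LP (LK LD1_c10 LD2_c16 LD3_c46)) :=
  Lgr Lrot141 (Lpe (f215514 IH) (Lpr_dt (f215491 IH) (Lpr_gt (f215489 IH) (Lpe (K16.f215468 IH) (Lpr_et (K16.f215465 IH) (Lpr_gt (f42213 IH) (Lpr_dt (f7595 IH) (Lpr_gt (K15.f215488 IH) (Lpe (K15.f41503 IH) (Lpr_et (K15.f246147 IH) (Lpn (LP (LK LD1_c10 LD2_c16 LD3_c46)))))))))))))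
theorem f288654 : Led Lsl_af (LP (LK LD1_c10 LD2_c31 LD3_c25)) = (LP (LK LD1_c5 LD2_c23 LD3_c51)) :=
  Lgr Lrot31 (Lpr_gf (f246154 IH) (Lpe (K15.f184955 IH) (Lpr_ft (f288641 IH) (Lpn (LP (LK LD1_c5 LD2_c23 LD3_c51))))))
theorem f215500 : Led Lsl_et (LP (LK LD1_c10 LD2_c31 LD3_c25)) = (LP (LK LD1_c5 LD2_c20 LD3_c40)) :=
  Lre_e IH (LK LD1_c10 LD2_c31 LD3_c25) (LK LD1_c5 LD2_c20 LD3_c40) Lrfl Lrfl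
theorem f288640 : Led Lsl_et (LP (LK LD1_c2 LD2_c38 LD3_c27)) = (LP (LK LD1_c5 LD2_c23 LD3_c51)) :=
  Lre_e IH (LK LD1_c2 LD2_c38 LD3_c27) (LK LD1_c5 LD2_c23 LD3_c51) Lrfl Lrfl
theorem f288660 : Led Lsl_at (LP (LK LD1_c5 LD2_c20 LD3_c40)) = (LP (LK LD1_c2 LD2_c38 LD3_c27)) :=
  Lgr Lrot80 (Lpe (f215500 IH) (Lpr_af (f288654 IH) (Lpe (f288640 IH) (Lpn (LP (LK LD1_c2 LD2_c38 LD3_c27))))))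
theorem f288685 : Led Lsl_ff (LP (LK LD1_c5 LD2_c20 LD3_c40)) = (LP (LK LD1_c2 LD2_c38 LD3_c28)) :=
  Lgr Lrot52 (Lpr_at (f288660 IH) (Lpe (f241959 IH) (Lpe (K16.f247050 IH) (Lpn (LP (LK LD1_c2 LD2_c38 LD3_c28))))))
theorem f288698 : Led Lsl_ft (LP (LK LD1_c5 LD2_c20 LD3_c40)) = (LP (LK LD1_c2 LD2_c38 LD3_c28)) :=
  Lgr Lrot48 (Lpr_ff (f288685 IH) (Lpn (LP (LK LD1_c2 LD2_c38 LD3_c28))))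
theorem f288662 : Led Lsl_ft (LP (LK LD1_c10 LD2_c31 LD3_c25)) = (LP (LK LD1_c5 LD2_c21 LD3_c29)) :=
  Lgr Lrot101 (Lpr_af (f288654 IH) (Lpe (f288641 IH) (Lpr_af (f288604 IH) (Lpn (LP (LK LD1_c5 LD2_c21 LD3_c29))))))
theorem f288668 : Led Lsl_ff (LP (LK LD1_c10 LD2_c31 LD3_c25)) = (LP (LK LD1_c5 LD2_c21 LD3_c29)) :=
  Lgr Lrot3 (Lpr_ft (f288662 IH) (Lpn (LP (LK LD1_c5 LD2_c21 LD3_c29))))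
theorem f288704 : Led Lsl_ff (LP (LK LD1_c2 LD2_c37 LD3_c21)) = (LP (LK LD1_c5 LD2_c9 LD3_c31)) :=
  Lgr Lrot72 (Lpr_et (K16.f44605 IH) (Lpe (f288668 IH) (Lpr_et (f215500 IH) (Lpr_ft (f288698 IH) (Lpe (K16.f256507 IH) (Lpn (LP (LK LD1_c5 LD2_c9 LD3_c31))))))))
theorem f288712 : Led Lsl_ft (LP (LK LD1_c2 LD2_c10 LD3_c54)) = (LP (LK LD1_c4 LD2_c3 LD3_c22)) :=
  Lgr Lrot54 (Lpe (K14.f44603 IH) (Lpr_ff (f288704 IH) (Lpr_df (K14.f256318 IH) (Lpn (LP (LK LD1_c4 LD2_c3 LD3_c22))))))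
theorem f288716 : Led Lsl_af (LP (LK LD1_c2 LD2_c11 LD3_c7)) = (LP (LK LD1_c4 LD2_c3 LD3_c22)) :=
  Lgr Lrot31 (Lpe (K16.f275252 IH) (Lpr_gf (K16.f254438 IH) (Lpr_ft (f288712 IH) (Lpn (LP (LK LD1_c4 LD2_c3 LD3_c22))))))
theorem f288578 : Led Lsl_ff (LP (LK LD1_c1 LD2_c13 LD3_c40)) = (LP (LK LD1_c2 LD2_c11 LD3_c7)) :=
  Lgr Lrot23 (Lpr_ct (K14.f183924 IH) (Lpr_ft (f288574 IH) (Lpe (f288555 IH) (Lpn (LP (LK LD1_c2 LD2_c11 LD3_c7))))))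
theorem f288721 : Led Lsl_at (LP (LK LD1_c1 LD2_c13 LD3_c40)) = (LP (LK LD1_c2 LD2_c10 LD3_c54)) :=
  Lgr Lrot66 (Lpr_ff (f288578 IH) (Lpr_af (f288716 IH) (Lpe (f288712 IH) (Lpn (LP (LK LD1_c2 LD2_c10 LD3_c54))))))
theorem f288725 : Led Lsl_af (LP (LK LD1_c0 LD2_c34 LD3_c6)) = (LP (LK LD1_c1 LD2_c2 LD3_c27)) :=
  Lgr Lrot50 (Lpr_et (K14.f246150 IH) (Lpr_at (f288721 IH) (Lpr_et (K14.f44598 IH) (Lpn (LP (LK LD1_c1 LD2_c2 LD3_c27))))))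
theorem f288733 : Led Lsl_ft (LP (LK LD1_c1 LD2_c2 LD3_c24)) = (LP (LK LD1_c1 LD2_c2 LD3_c27)) :=
  Lgr Lrot2 (Lpe (K10.f46163 IH) (Lpr_gt (K9.f183889 IH) (Lpr_af (f288725 IH) (Lpn (LP (LK LD1_c1 LD2_c2 LD3_c27))))))
theorem f288741 : Led Lsl_ff (LP (LK LD1_c1 LD2_c2 LD3_c24)) = (LP (LK LD1_c1 LD2_c2 LD3_c27)) :=
  Lgr Lrot3 (Lpr_ft (f288733 IH) (Lpn (LP (LK LD1_c1 LD2_c2 LD3_c27))))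
theorem f288747 : Led Lsl_at (LP (LK LD1_c1 LD2_c2 LD3_c24)) = (LP (LK LD1_c0 LD2_c33 LD3_c19)) :=
  Lgr Lrot26 (Lpr_ff (f288741 IH) (Lpr_gt (K9.f44597 IH) (Lpr_gt (K10.f192357 IH) (Lpn (LP (LK LD1_c0 LD2_c33 LD3_c19))))))
theorem f288727 : Led Lsl_at (LP (LK LD1_c0 LD2_c34 LD3_c6)) = (LP (LK LD1_c1 LD2_c2 LD3_c27)) :=
  Lgr Lrot100 (Lpr_af (f288725 IH) (Lpn (LP (LK LD1_c1 LD2_c2 LD3_c27))))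
theorem f288757 : Led Lsl_ff (LP (LK LD1_c0 LD2_c34 LD3_c6)) = (LP (LK LD1_c0 LD2_c33 LD3_c19)) :=
  Lgr Lrot30 (Lpr_at (f288727 IH) (Lpe (f288741 IH) (Lpr_at (f288747 IH) (Lpn (LP (LK LD1_c0 LD2_c33 LD3_c19))))))
theorem f288767 : Led Lsl_ft (LP (LK LD1_c0 LD2_c34 LD3_c6)) = (LP (LK LD1_c0 LD2_c33 LD3_c19)) :=
  Lgr Lrot48 (Lpr_ff (f288757 IH) (Lpn (LP (LK LD1_c0 LD2_c33 LD3_c19))))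
theorem f288775 : Led Lsl_ff (LP (LK LD1_c1 LD2_c9 LD3_c10)) = (LP (LK LD1_c1 LD2_c9 LD3_c29)) :=
  Lgr Lrot72 (Lpr_et (K16.f278520 IH) (Lpe (f288578 IH) (Lpr_et (K9.f183904 IH) (Lpr_ft (f288767 IH) (Lpe (K11.f165189 IH) (Lpn (LP (LK LD1_c1 LD2_c9 LD3_c29))))))))
theorem f288718 : Led Lsl_at (LP (LK LD1_c1 LD2_c9 LD3_c10)) = (LP (LK LD1_c2 LD2_c24 LD3_c13)) :=
  Lre_a IH (LK LD1_c1 LD2_c9 LD3_c10) (LK LD1_c2 LD2_c24 LD3_c13) Lrfl Lrfl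
theorem f288783 : Led Lsl_gf (LP (LK LD1_c2 LD2_c24 LD3_c13)) = (LP (LK LD1_c2 LD2_c10 LD3_c59)) :=
  Lgr Lrot76 (Lpe (f288718 IH) (Lpr_ff (f288775 IH) (Lpr_gt (K14.f253988 IH) (Lpn (LP (LK LD1_c2 LD2_c10 LD3_c59))))))
theorem f288793 : Led Lsl_ef (LP (LK LD1_c2 LD2_c24 LD3_c13)) = (LP (LK LD1_c4 LD2_c3 LD3_c22)) :=
  Lgr Lrot17 (Lpr_gf (f288783 IH) (Lpe (K14.f182262 IH) (Lpr_dt (K14.f174937 IH) (Lpr_gf (K15.f261069 IH) (Lpe (K12.f7818 IH) (Lpe (K14.f7845 IH) (Lpe (K14.f253445 IH) (Lpr_dt (K9.f183912 IH) (Lpe (K14.f165488 IH) (Lpr_df (K14.f256318 IH) (Lpn (LP (LK LD1_c4 LD2_c3 LD3_c22)))))))))))))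
theorem f44055 : Led Lsl_et (LP (LK LD1_c2 LD2_c10 LD3_c49)) = (LP (LK LD1_c1 LD2_c2 LD3_c24)) :=
  Lre_e IH (LK LD1_c2 LD2_c10 LD3_c49) (LK LD1_c1 LD2_c2 LD3_c24) Lrfl Lrfl
theorem f288797 : Led Lsl_ft (LP (LK LD1_c2 LD2_c24 LD3_c13)) = (LP (LK LD1_c2 LD2_c10 LD3_c49)) :=
  Lgr Lrot86 (Lpr_ef (f288793 IH) (Lpe (f288712 IH) (Lpe (K16.f44606 IH) (Lpe (f288733 IH) (Lpe (f44055 IH) (Lpn (LP (LK LD1_c2 LD2_c10 LD3_c49))))))))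
theorem f215501 : Led Lsl_ft (LP (LK LD1_c8 LD2_c21 LD3_c60)) = (LP (LK LD1_c4 LD2_c11 LD3_c2)) :=
  Lre_f IH (LK LD1_c8 LD2_c21 LD3_c60) (LK LD1_c4 LD2_c11 LD3_c2) Lrfl Lrfl
theorem f288694 : Led Lsl_dt (LP (LK LD1_c4 LD2_c11 LD3_c2)) = (LP (LK LD1_c2 LD2_c38 LD3_c28)) :=
  Lgr Lrot60 (Lpe (f215501 IH) (Lpe (f215491 IH) (Lpr_ff (f288685 IH) (Lpn (LP (LK LD1_c2 LD2_c38 LD3_c28))))))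
theorem f288791 : Led Lsl_et (LP (LK LD1_c2 LD2_c2 LD3_c48)) = (LP (LK LD1_c4 LD2_c11 LD3_c2)) :=
  Lre_e IH (LK LD1_c2 LD2_c2 LD3_c48) (LK LD1_c4 LD2_c11 LD3_c2) Lrfl Lrfl
theorem f288795 : Led Lsl_dt (LP (LK LD1_c2 LD2_c24 LD3_c13)) = (LP (LK LD1_c2 LD2_c2 LD3_c48)) :=
  Lgr Lrot77 (Lpr_ef (f288793 IH) (Lpe (K15.f256489 IH) (Lpr_ef (K16.f256507 IH) (Lpe (f288694 IH) (Lpe (f288791 IH) (Lpn (LP (LK LD1_c2 LD2_c2 LD3_c48))))))))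
theorem f288808 : Led Lsl_ct (LP (LK LD1_c2 LD2_c2 LD3_c48)) = (LP (LK LD1_c4 LD2_c11 LD3_c1)) :=
  Lre_c IH (LK LD1_c2 LD2_c2 LD3_c48) (LK LD1_c4 LD2_c11 LD3_c1) Lrfl Lrfl
theorem f288809 : Led Lsl_dt (LP (LK LD1_c4 LD2_c11 LD3_c1)) = (LP (LK LD1_c8 LD2_c21 LD3_c56)) :=
  Lre_d IH (LK LD1_c4 LD2_c11 LD3_c1) (LK LD1_c8 LD2_c21 LD3_c56) Lrfl Lrfl
theorem f288802 : Led Lsl_af (LP (LK LD1_c1 LD2_c9 LD3_c29)) = (LP (LK LD1_c2 LD2_c10 LD3_c49)) :=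
  Lgr Lrot45 (Lpe (f288775 IH) (Lpr_at (f288718 IH) (Lpr_ft (f288797 IH) (Lpn (LP (LK LD1_c2 LD2_c10 LD3_c49))))))
theorem f211389 : Led Lsl_ct (LP (LK LD1_c2 LD2_c4 LD3_c49)) = (LP (LK LD1_c1 LD2_c9 LD3_c29)) :=
  Lgr Lrot59 (Lpr_cf (K11.f211381 IH) (Lpn (LP (LK LD1_c1 LD2_c9 LD3_c29))))
theorem f196423 : Led Lsl_ct (LP (LK LD1_c4 LD2_c4 LD3_c0)) = (LP (LK LD1_c1 LD2_c58 LD3_c59)) :=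
  Lre_c IH (LK LD1_c4 LD2_c4 LD3_c0) (LK LD1_c1 LD2_c58 LD3_c59) Lrfl Lrfl
theorem f196427 : Led Lsl_dt (LP (LK LD1_c8 LD2_c8 LD3_c35)) = (LP (LK LD1_c4 LD2_c4 LD3_c0)) :=
  Lre_d IH (LK LD1_c8 LD2_c8 LD3_c35) (LK LD1_c4 LD2_c4 LD3_c0) Lrfl Lrfl
theorem f288810 : Led Lsl_ct (LP (LK LD1_c8 LD2_c21 LD3_c56)) = (LP (LK LD1_c8 LD2_c8 LD3_c35)) :=
  Lgr Lrot41 (Lpe (f288809 IH) (Lpe (f288808 IH) (Lpe (f288795 IH) (Lpr_ft (f288797 IH) (Lpe (f288802 IH) (Lpe (f211389 IH) (Lpr_df (K11.f211285 IH) (Lpe (f196423 IH) (Lpe (f196427 IH) (Lpn (LP (LK LD1_c8 LD2_c8 LD3_c35))))))))))))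
theorem f170063 : Led Lsl_at (LP (LK LD1_c4 LD2_c17 LD3_c60)) = (LP (LK LD1_c2 LD2_c6 LD3_c19)) :=
  Lre_a IH (LK LD1_c4 LD2_c17 LD3_c60) (LK LD1_c2 LD2_c6 LD3_c19) Lrfl Lrfl
theorem f288822 : Led Lsl_ft (LP (LK LD1_c4 LD2_c11 LD3_c1)) = (LP (LK LD1_c4 LD2_c17 LD3_c60)) :=
  Lgr Lrot142 (Lpr_dt (f288809 IH) (Lpr_ct (f288810 IH) (Lpr_dt (f196427 IH) (Lpr_ct (f196423 IH) (Lpe (K11.f211285 IH) (Lpr_ct (f211389 IH) (Lpe (K13.f167423 IH) (Lpr_ct (K12.f53380 IH) (Lpe (f170063 IH) (Lpn (LP (LK LD1_c4 LD2_c17 LD3_c60))))))))))))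
theorem f288847 : Led Lsl_gt (LP (LK LD1_c4 LD2_c11 LD3_c1)) = (LP (LK LD1_c4 LD2_c18 LD3_c1)) :=
  Lgr Lrot5 (Lpr_ft (f288822 IH) (Lpr_at (f170063 IH) (Lpe (K12.f167529 IH) (Lpn (LP (LK LD1_c4 LD2_c18 LD3_c1))))))
theorem f288852 : Led Lsl_gf (LP (LK LD1_c2 LD2_c2 LD3_c48)) = (LP (LK LD1_c1 LD2_c15 LD3_c35)) :=
  Lgr Lrot147 (Lpr_ct (f288808 IH) (Lpr_gt (f288847 IH) (Lpe (K12.f221846 IH) (Lpe (K12.f188700 IH) (Lpr_cf (K15.f201080 IH) (Lpr_gf (K15.f231235 IH) (Lpr_cf (K15.f256786 IH) (Lpe (K14.f231226 IH) (Lpe (K9.f41895 IH) (Lpn (LP (LK LD1_c1 LD2_c15 LD3_c35))))))))))))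
theorem f278505 : Led Lsl_at (LP (LK LD1_c2 LD2_c24 LD3_c13)) = (LP (LK LD1_c1 LD2_c9 LD3_c10)) :=
  Lre_a IH (LK LD1_c2 LD2_c24 LD3_c13) (LK LD1_c1 LD2_c9 LD3_c10) Lrfl Lrfl
theorem f278512 : Led Lsl_at (LP (LK LD1_c0 LD2_c58 LD3_c19)) = (LP (LK LD1_c2 LD2_c2 LD3_c48)) :=
  Lre_a IH (LK LD1_c0 LD2_c58 LD3_c19) (LK LD1_c2 LD2_c2 LD3_c48) Lrfl Lrfl
theorem f278513 : Led Lsl_df (LP (LK LD1_c2 LD2_c24 LD3_c13)) = (LP (LK LD1_c2 LD2_c2 LD3_c48)) :=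
  Lgr Lrot18 (Lpr_at (f278505 IH) (Lpr_dt (K16.f278510 IH) (Lpr_at (f278512 IH) (Lpn (LP (LK LD1_c2 LD2_c2 LD3_c48))))))
theorem f288799 : Led Lsl_gt (LP (LK LD1_c2 LD2_c24 LD3_c13)) = (LP (LK LD1_c2 LD2_c11 LD3_c12)) :=
  Lgr Lrot137 (Lpr_ef (f288793 IH) (Lpe (K14.f256318 IH) (Lpe (K15.f192883 IH) (Lpe (K14.f46487 IH) (Lpr_et (K14.f230788 IH) (Lpe (K16.f170657 IH) (Lpe (K9.f178699 IH) (Lpr_dt (K14.f178730 IH) (Lpe (K15.f170696 IH) (Lpe (K16.f267589 IH) (Lpn (LP (LK LD1_c2 LD2_c11 LD3_c12)))))))))))))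
theorem f236954 : Led Lsl_et (LP (LK LD1_c2 LD2_c2 LD3_c19)) = (LP (LK LD1_c4 LD2_c10 LD3_c14)) :=
  Lre_e IH (LK LD1_c2 LD2_c2 LD3_c19) (LK LD1_c4 LD2_c10 LD3_c14) Lrfl Lrfl
theorem f288869 : Led Lsl_gt (LP (LK LD1_c4 LD2_c10 LD3_c14)) = (LP (LK LD1_c2 LD2_c2 LD3_c39)) :=
  Lgr Lrot131 (Lpe (f236954 IH) (Lpe (K15.f267591 IH) (Lpe (f288799 IH) (Lpr_df (f278513 IH) (Lpr_gf (f288852 IH) (Lpe (K9.f42083 IH) (Lpr_dt (K1.f29015 IH) (Lpe (K10.f187015 IH) (Lpe (K14.f167111 IH) (Lpr_et (f187025 IH) (Lpn (LP (LK LD1_c2 LD2_c2 LD3_c39)))))))))))))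
theorem f236952 : Led Lsl_gt (LP (LK LD1_c8 LD2_c20 LD3_c38)) = (LP (LK LD1_c4 LD2_c10 LD3_c14)) :=
  Lre_g IH (LK LD1_c8 LD2_c20 LD3_c38) (LK LD1_c4 LD2_c10 LD3_c14) Lrfl Lrfl
theorem f288872 : Led Lsl_ft (LP (LK LD1_c8 LD2_c20 LD3_c38)) = (LP (LK LD1_c4 LD2_c10 LD3_c40)) :=
  Lgr Lrot2 (Lpr_gt (f236952 IH) (Lpr_gt (f288869 IH) (Lpe (K15.f267631 IH) (Lpn (LP (LK LD1_c4 LD2_c10 LD3_c40))))))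
theorem f288907 : Led Lsl_ff (LP (LK LD1_c8 LD2_c20 LD3_c38)) = (LP (LK LD1_c4 LD2_c10 LD3_c40)) :=
  Lgr Lrot3 (Lpr_ft (f288872 IH) (Lpn (LP (LK LD1_c4 LD2_c10 LD3_c40))))
theorem f288912 : Led Lsl_ft (LP (LK LD1_c5 LD2_c22 LD3_c50)) = (LP (LK LD1_c2 LD2_c37 LD3_c57)) :=
  Lre_f IH (LK LD1_c5 LD2_c22 LD3_c50) (LK LD1_c2 LD2_c37 LD3_c57) Lrfl Lrfl
theorem f288913 : Led Lsl_dt (LP (LK LD1_c8 LD2_c20 LD3_c38)) = (LP (LK LD1_c5 LD2_c22 LD3_c50)) :=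
  Lgr Lrot60 (Lpr_ff (f288907 IH) (Lpr_df (K16.f256814 IH) (Lpe (f288912 IH) (Lpn (LP (LK LD1_c5 LD2_c22 LD3_c50))))))
theorem f245986 : Led Lsl_ct (LP (LK LD1_c4 LD2_c10 LD3_c48)) = (LP (LK LD1_c2 LD2_c2 LD3_c39)) :=
  Lre_c IH (LK LD1_c4 LD2_c10 LD3_c48) (LK LD1_c2 LD2_c2 LD3_c39) Lrfl Lrfl
theorem f245987 : Led Lsl_dt (LP (LK LD1_c8 LD2_c21 LD3_c33)) = (LP (LK LD1_c4 LD2_c10 LD3_c48)) :=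
  Lre_d IH (LK LD1_c8 LD2_c21 LD3_c33) (LK LD1_c4 LD2_c10 LD3_c48) Lrfl Lrfl
theorem f288881 : Led Lsl_ct (LP (LK LD1_c15 LD2_c43 LD3_c55)) = (LP (LK LD1_c8 LD2_c21 LD3_c33)) :=
  Lre_c IH (LK LD1_c15 LD2_c43 LD3_c55) (LK LD1_c8 LD2_c21 LD3_c33) Lrfl Lrfl
theorem f288909 : Led Lsl_dt (LP (LK LD1_c25 LD2_c40 LD3_c18)) = (LP (LK LD1_c15 LD2_c43 LD3_c55)) :=
  Lre_d IH (LK LD1_c25 LD2_c40 LD3_c18) (LK LD1_c15 LD2_c43 LD3_c55) Lrfl Lrfl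
theorem f276860 : Led Lsl_ct (LP (LK LD1_c5 LD2_c22 LD3_c50)) = (LP (LK LD1_c10 LD2_c35 LD3_c54)) :=
  Lre_c IH (LK LD1_c5 LD2_c22 LD3_c50) (LK LD1_c10 LD2_c35 LD3_c54) Lrfl Lrfl
theorem f288987 : Led Lsl_cf (LP (LK LD1_c25 LD2_c40 LD3_c18)) = (LP (LK LD1_c19 LD2_c11 LD3_c34)) :=
  Lgr Lrot116 (Lpr_dt (f288909 IH) (Lpr_ct (f288881 IH) (Lpr_dt (f245987 IH) (Lpr_ct (f245986 IH) (Lpe (K15.f267631 IH) (Lpe (f288872 IH) (Lpr_dt (f288913 IH) (Lpr_ct (f276860 IH) (Lpr_dt (K16.f276837 IH) (Lpn (LP (LK LD1_c19 LD2_c11 LD3_c34))))))))))))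
theorem f288990 : Led Lsl_ct (LP (LK LD1_c25 LD2_c40 LD3_c18)) = (LP (LK LD1_c19 LD2_c11 LD3_c34)) :=
  Lgr Lrot59 (Lpr_cf (f288987 IH) (Lpn (LP (LK LD1_c19 LD2_c11 LD3_c34))))
theorem f288994 : Led Lsl_dt (LP (LK LD1_c15 LD2_c43 LD3_c55)) = (LP (LK LD1_c25 LD2_c40 LD3_c18)) :=
  Lre_d IH (LK LD1_c15 LD2_c43 LD3_c55) (LK LD1_c25 LD2_c40 LD3_c18) Lrfl Lrfl
theorem f288995 : Led Lsl_ct (LP (LK LD1_c8 LD2_c21 LD3_c33)) = (LP (LK LD1_c15 LD2_c43 LD3_c55)) :=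
  Lre_c IH (LK LD1_c8 LD2_c21 LD3_c33) (LK LD1_c15 LD2_c43 LD3_c55) Lrfl Lrfl
theorem f288883 : Led Lsl_dt (LP (LK LD1_c4 LD2_c10 LD3_c48)) = (LP (LK LD1_c8 LD2_c21 LD3_c33)) :=
  Lre_d IH (LK LD1_c4 LD2_c10 LD3_c48) (LK LD1_c8 LD2_c21 LD3_c33) Lrfl Lrfl
theorem f179092 : Led Lsl_ct (LP (LK LD1_c2 LD2_c2 LD3_c39)) = (LP (LK LD1_c4 LD2_c10 LD3_c48)) :=
  Lre_c IH (LK LD1_c2 LD2_c2 LD3_c39) (LK LD1_c4 LD2_c10 LD3_c48) Lrfl Lrfl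
theorem f187040 : Led Lsl_dt (LP (LK LD1_c4 LD2_c10 LD3_c50)) = (LP (LK LD1_c2 LD2_c2 LD3_c39)) :=
  Lre_d IH (LK LD1_c4 LD2_c10 LD3_c50) (LK LD1_c2 LD2_c2 LD3_c39) Lrfl Lrfl
theorem f288999 : Led Lsl_ft (LP (LK LD1_c4 LD2_c10 LD3_c50)) = (LP (LK LD1_c8 LD2_c21 LD3_c39)) :=
  Lre_f IH (LK LD1_c4 LD2_c10 LD3_c50) (LK LD1_c8 LD2_c21 LD3_c39) Lrfl Lrfl
theorem f276865 : Led Lsl_dt (LP (LK LD1_c19 LD2_c11 LD3_c34)) = (LP (LK LD1_c10 LD2_c35 LD3_c54)) :=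
  Lre_d IH (LK LD1_c19 LD2_c11 LD3_c34) (LK LD1_c10 LD2_c35 LD3_c54) Lrfl Lrfl
theorem f276854 : Led Lsl_ct (LP (LK LD1_c10 LD2_c35 LD3_c54)) = (LP (LK LD1_c5 LD2_c22 LD3_c50)) :=
  Lre_c IH (LK LD1_c10 LD2_c35 LD3_c54) (LK LD1_c5 LD2_c22 LD3_c50) Lrfl Lrfl
theorem f289000 : Led Lsl_at (LP (LK LD1_c8 LD2_c21 LD3_c39)) = (LP (LK LD1_c5 LD2_c22 LD3_c50)) :=
  Lgr Lrot33 (Lpe (f288999 IH) (Lpr_dt (f187040 IH) (Lpr_ct (f179092 IH) (Lpr_dt (f288883 IH) (Lpr_ct (f288995 IH) (Lpr_dt (f288994 IH) (Lpr_ct (f288990 IH) (Lpr_dt (f276865 IH) (Lpr_ct (f276854 IH) (Lpn (LP (LK LD1_c5 LD2_c22 LD3_c50))))))))))))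
theorem f278991 : Led Lsl_at (LP (LK LD1_c8 LD2_c53 LD3_c26)) = (LP (LK LD1_c5 LD2_c28 LD3_c25)) :=
  Lgr Lrot100 (Lpr_af (K16.f278978 IH) (Lpn (LP (LK LD1_c5 LD2_c28 LD3_c25))))
theorem f289002 : Led Lsl_bf (LP (LK LD1_c8 LD2_c53 LD3_c26)) = (LP (LK LD1_c5 LD2_c22 LD3_c50)) :=
  Lgr Lrot81 (Lpr_at (f278991 IH) (Lpr_bt (K12.f7783 IH) (Lpr_at (K15.f267666 IH) (Lpr_bt (K16.f267674 IH) (Lpr_at (f289000 IH) (Lpn (LP (LK LD1_c5 LD2_c22 LD3_c50))))))))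
theorem f278990 : Led Lsl_bt (LP (LK LD1_c16 LD2_c37 LD3_c22)) = (LP (LK LD1_c26 LD2_c34 LD3_c34)) :=
  Lre_b IH (LK LD1_c16 LD2_c37 LD3_c22) (LK LD1_c26 LD2_c34 LD3_c34) Lrfl Lrfl
theorem f276862 : Led Lsl_bt (LP (LK LD1_c19 LD2_c11 LD3_c27)) = (LP (LK LD1_c10 LD2_c35 LD3_c54)) :=
  Lre_b IH (LK LD1_c19 LD2_c11 LD3_c27) (LK LD1_c10 LD2_c35 LD3_c54) Lrfl Lrfl
theorem f289050 : Led Lsl_ct (LP (LK LD1_c26 LD2_c34 LD3_c34)) = (LP (LK LD1_c19 LD2_c11 LD3_c27)) :=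
  Lgr Lrot83 (Lpe (f278990 IH) (Lpe (K16.f278982 IH) (Lpr_bf (f289002 IH) (Lpe (f276854 IH) (Lpe (f276862 IH) (Lpn (LP (LK LD1_c19 LD2_c11 LD3_c27))))))))
theorem f289054 : Led Lsl_ft (LP (LK LD1_c16 LD2_c37 LD3_c17)) = (LP (LK LD1_c26 LD2_c34 LD3_c34)) :=
  Lre_f IH (LK LD1_c16 LD2_c37 LD3_c17) (LK LD1_c26 LD2_c34 LD3_c34) Lrfl Lrfl
theorem f277449 : Led Lsl_ft (LP (LK LD1_c19 LD2_c11 LD3_c27)) = (LP (LK LD1_c10 LD2_c35 LD3_c50)) :=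
  Lre_f IH (LK LD1_c19 LD2_c11 LD3_c27) (LK LD1_c10 LD2_c35 LD3_c50) Lrfl Lrfl
theorem f289055 : Led Lsl_cf (LP (LK LD1_c16 LD2_c37 LD3_c17)) = (LP (LK LD1_c10 LD2_c35 LD3_c50)) :=
  Lgr Lrot108 (Lpr_ft (f289054 IH) (Lpr_ct (f289050 IH) (Lpr_ft (f277449 IH) (Lpn (LP (LK LD1_c10 LD2_c35 LD3_c50))))))
theorem f289059 : Led Lsl_ct (LP (LK LD1_c16 LD2_c37 LD3_c17)) = (LP (LK LD1_c10 LD2_c35 LD3_c50)) :=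
  Lgr Lrot59 (Lpr_cf (f289055 IH) (Lpn (LP (LK LD1_c10 LD2_c35 LD3_c50))))
theorem f289074 : Led Lsl_et (LP (LK LD1_c8 LD2_c53 LD3_c21)) = (LP (LK LD1_c16 LD2_c37 LD3_c17)) :=
  Lre_e IH (LK LD1_c8 LD2_c53 LD3_c21) (LK LD1_c16 LD2_c37 LD3_c17) Lrfl Lrfl
theorem f277448 : Led Lsl_et (LP (LK LD1_c10 LD2_c35 LD3_c50)) = (LP (LK LD1_c5 LD2_c22 LD3_c45)) :=
  Lre_e IH (LK LD1_c10 LD2_c35 LD3_c50) (LK LD1_c5 LD2_c22 LD3_c45) Lrfl Lrfl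
theorem f289075 : Led Lsl_cf (LP (LK LD1_c8 LD2_c53 LD3_c21)) = (LP (LK LD1_c5 LD2_c22 LD3_c45)) :=
  Lgr Lrot39 (Lpr_et (f289074 IH) (Lpr_ct (f289059 IH) (Lpr_et (f277448 IH) (Lpn (LP (LK LD1_c5 LD2_c22 LD3_c45))))))
theorem f276887 : Led Lsl_at (LP (LK LD1_c4 LD2_c10 LD3_c52)) = (LP (LK LD1_c2 LD2_c37 LD3_c56)) :=
  Lgr Lrot100 (Lpr_af (K16.f276885 IH) (Lpn (LP (LK LD1_c2 LD2_c37 LD3_c56))))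
theorem f276883 : Led Lsl_ff (LP (LK LD1_c5 LD2_c20 LD3_c27)) = (LP (LK LD1_c2 LD2_c37 LD3_c56)) :=
  Lgr Lrot3 (Lpr_ft (K16.f276875 IH) (Lpn (LP (LK LD1_c2 LD2_c37 LD3_c56))))
theorem f277006 : Led Lsl_af (LP (LK LD1_c2 LD2_c37 LD3_c58)) = (LP (LK LD1_c5 LD2_c20 LD3_c27)) :=
  Lgr Lrot45 (Lpr_ft (K16.f277002 IH) (Lpr_at (f276887 IH) (Lpe (f276883 IH) (Lpn (LP (LK LD1_c5 LD2_c20 LD3_c27))))))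
theorem f224201 : Led Lsl_bt (LP (LK LD1_c2 LD2_c37 LD3_c58)) = (LP (LK LD1_c5 LD2_c22 LD3_c51)) :=
  Lre_b IH (LK LD1_c2 LD2_c37 LD3_c58) (LK LD1_c5 LD2_c22 LD3_c51) Lrfl Lrfl
theorem f277075 : Led Lsl_at (LP (LK LD1_c5 LD2_c22 LD3_c51)) = (LP (LK LD1_c10 LD2_c35 LD3_c60)) :=
  Lre_a IH (LK LD1_c5 LD2_c22 LD3_c51) (LK LD1_c10 LD2_c35 LD3_c60) Lrfl Lrfl
theorem f221671 : Led Lsl_bt (LP (LK LD1_c10 LD2_c30 LD3_c56)) = (LP (LK LD1_c5 LD2_c20 LD3_c27)) :=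
  Lre_b IH (LK LD1_c10 LD2_c30 LD3_c56) (LK LD1_c5 LD2_c20 LD3_c27) Lrfl Lrfl
theorem f223304 : Led Lsl_at (LP (LK LD1_c19 LD2_c3 LD3_c26)) = (LP (LK LD1_c10 LD2_c30 LD3_c56)) :=
  Lre_a IH (LK LD1_c19 LD2_c3 LD3_c26) (LK LD1_c10 LD2_c30 LD3_c56) Lrfl Lrfl
theorem f277411 : Led Lsl_bt (LP (LK LD1_c10 LD2_c35 LD3_c60)) = (LP (LK LD1_c19 LD2_c3 LD3_c26)) :=
  Lgr Lrot62 (Lpe (f277075 IH) (Lpe (f224201 IH) (Lpr_af (f277006 IH) (Lpe (f221671 IH) (Lpe (f223304 IH) (Lpn (LP (LK LD1_c19 LD2_c3 LD3_c26))))))))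
theorem f277016 : Led Lsl_ft (LP (LK LD1_c5 LD2_c22 LD3_c51)) = (LP (LK LD1_c8 LD2_c21 LD3_c40)) :=
  Lgr Lrot75 (Lpe (f224201 IH) (Lpr_ff (K16.f277014 IH) (Lpe (K14.f225403 IH) (Lpn (LP (LK LD1_c8 LD2_c21 LD3_c40))))))
theorem f277052 : Led Lsl_at (LP (LK LD1_c10 LD2_c35 LD3_c60)) = (LP (LK LD1_c5 LD2_c22 LD3_c51)) :=
  Lre_a IH (LK LD1_c10 LD2_c35 LD3_c60) (LK LD1_c5 LD2_c22 LD3_c51) Lrfl Lrfl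
theorem f225417 : Led Lsl_at (LP (LK LD1_c8 LD2_c21 LD3_c40)) = (LP (LK LD1_c15 LD2_c44 LD3_c9)) :=
  Lre_a IH (LK LD1_c8 LD2_c21 LD3_c40) (LK LD1_c15 LD2_c44 LD3_c9) Lrfl Lrfl
theorem f277104 : Led Lsl_ff (LP (LK LD1_c10 LD2_c35 LD3_c60)) = (LP (LK LD1_c15 LD2_c44 LD3_c9)) :=
  Lgr Lrot30 (Lpr_at (f277052 IH) (Lpr_ft (f277016 IH) (Lpr_at (f225417 IH) (Lpn (LP (LK LD1_c15 LD2_c44 LD3_c9))))))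
theorem f276896 : Led Lsl_at (LP (LK LD1_c8 LD2_c21 LD3_c38)) = (LP (LK LD1_c5 LD2_c22 LD3_c47)) :=
  Lgr Lrot80 (Lpe (K16.f246573 IH) (Lpr_af (K16.f276885 IH) (Lpe (K16.f224350 IH) (Lpn (LP (LK LD1_c5 LD2_c22 LD3_c47))))))
theorem f276898 : Led Lsl_bt (LP (LK LD1_c15 LD2_c44 LD3_c4)) = (LP (LK LD1_c8 LD2_c21 LD3_c38)) :=
  Lre_b IH (LK LD1_c15 LD2_c44 LD3_c4) (LK LD1_c8 LD2_c21 LD3_c38) Lrfl Lrfl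
theorem f276899 : Led Lsl_at (LP (LK LD1_c25 LD2_c40 LD3_c31)) = (LP (LK LD1_c15 LD2_c44 LD3_c4)) :=
  Lre_a IH (LK LD1_c25 LD2_c40 LD3_c31) (LK LD1_c15 LD2_c44 LD3_c4) Lrfl Lrfl
theorem f276753 : Led Lsl_bt (LP (LK LD1_c5 LD2_c22 LD3_c47)) = (LP (LK LD1_c10 LD2_c35 LD3_c50)) :=
  Lre_b IH (LK LD1_c5 LD2_c22 LD3_c47) (LK LD1_c10 LD2_c35 LD3_c50) Lrfl Lrfl
theorem f276900 : Led Lsl_at (LP (LK LD1_c10 LD2_c35 LD3_c50)) = (LP (LK LD1_c19 LD2_c11 LD3_c25)) :=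
  Lre_a IH (LK LD1_c10 LD2_c35 LD3_c50) (LK LD1_c19 LD2_c11 LD3_c25) Lrfl Lrfl
theorem f276901 : Led Lsl_bf (LP (LK LD1_c25 LD2_c40 LD3_c31)) = (LP (LK LD1_c19 LD2_c11 LD3_c25)) :=
  Lgr Lrot81 (Lpr_at (f276899 IH) (Lpr_bt (f276898 IH) (Lpr_at (f276896 IH) (Lpr_bt (f276753 IH) (Lpr_at (f276900 IH) (Lpn (LP (LK LD1_c19 LD2_c11 LD3_c25))))))))
theorem f276910 : Led Lsl_bt (LP (LK LD1_c25 LD2_c40 LD3_c31)) = (LP (LK LD1_c19 LD2_c11 LD3_c25)) :=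
  Lgr Lrot127 (Lpr_bf (f276901 IH) (Lpn (LP (LK LD1_c19 LD2_c11 LD3_c25))))
theorem f276920 : Led Lsl_et (LP (LK LD1_c15 LD2_c44 LD3_c9)) = (LP (LK LD1_c25 LD2_c40 LD3_c31)) :=
  Lre_e IH (LK LD1_c15 LD2_c44 LD3_c9) (LK LD1_c25 LD2_c40 LD3_c31) Lrfl Lrfl
theorem f276921 : Led Lsl_et (LP (LK LD1_c19 LD2_c11 LD3_c25)) = (LP (LK LD1_c10 LD2_c35 LD3_c49)) :=
  Lre_e IH (LK LD1_c19 LD2_c11 LD3_c25) (LK LD1_c10 LD2_c35 LD3_c49) Lrfl Lrfl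
theorem f276922 : Led Lsl_bf (LP (LK LD1_c15 LD2_c44 LD3_c9)) = (LP (LK LD1_c10 LD2_c35 LD3_c49)) :=
  Lgr Lrot96 (Lpr_et (f276920 IH) (Lpr_bt (f276910 IH) (Lpr_et (f276921 IH) (Lpn (LP (LK LD1_c10 LD2_c35 LD3_c49))))))
theorem f277415 : Led Lsl_ff (LP (LK LD1_c10 LD2_c35 LD3_c49)) = (LP (LK LD1_c19 LD2_c3 LD3_c26)) :=
  Lgr Lrot25 (Lpe (f276922 IH) (Lpe (f277104 IH) (Lpr_bt (f277411 IH) (Lpn (LP (LK LD1_c19 LD2_c3 LD3_c26))))))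
theorem f277417 : Led Lsl_ft (LP (LK LD1_c10 LD2_c35 LD3_c49)) = (LP (LK LD1_c19 LD2_c3 LD3_c26)) :=
  Lgr Lrot48 (Lpr_ff (f277415 IH) (Lpn (LP (LK LD1_c19 LD2_c3 LD3_c26))))
theorem f276924 : Led Lsl_at (LP (LK LD1_c5 LD2_c22 LD3_c45)) = (LP (LK LD1_c10 LD2_c35 LD3_c49)) :=
  Lre_a IH (LK LD1_c5 LD2_c22 LD3_c45) (LK LD1_c10 LD2_c35 LD3_c49) Lrfl Lrfl
theorem f277422 : Led Lsl_ff (LP (LK LD1_c5 LD2_c22 LD3_c45)) = (LP (LK LD1_c10 LD2_c30 LD3_c56)) :=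
  Lgr Lrot30 (Lpr_at (f276924 IH) (Lpr_ft (f277417 IH) (Lpr_at (f223304 IH) (Lpn (LP (LK LD1_c10 LD2_c30 LD3_c56))))))
theorem f221760 : Led Lsl_bt (LP (LK LD1_c5 LD2_c20 LD3_c27)) = (LP (LK LD1_c10 LD2_c30 LD3_c56)) :=
  Lre_b IH (LK LD1_c5 LD2_c20 LD3_c27) (LK LD1_c10 LD2_c30 LD3_c56) Lrfl Lrfl
theorem f223290 : Led Lsl_bt (LP (LK LD1_c15 LD2_c17 LD3_c32)) = (LP (LK LD1_c8 LD2_c7 LD3_c14)) :=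
  Lre_b IH (LK LD1_c15 LD2_c17 LD3_c32) (LK LD1_c8 LD2_c7 LD3_c14) Lrfl Lrfl
theorem f223302 : Led Lsl_ct (LP (LK LD1_c10 LD2_c30 LD3_c56)) = (LP (LK LD1_c15 LD2_c17 LD3_c32)) :=
  Lgr Lrot83 (Lpe (f221760 IH) (Lpe (K12.f221670 IH) (Lpr_bf (K12.f223294 IH) (Lpe (K12.f199127 IH) (Lpe (f223290 IH) (Lpn (LP (LK LD1_c15 LD2_c17 LD3_c32))))))))
theorem f223308 : Led Lsl_cf (LP (LK LD1_c10 LD2_c30 LD3_c56)) = (LP (LK LD1_c15 LD2_c17 LD3_c32)) :=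
  Lgr Lrot11 (Lpr_ct (f223302 IH) (Lpn (LP (LK LD1_c15 LD2_c17 LD3_c32))))
theorem f289086 : Led Lsl_ft (LP (LK LD1_c8 LD2_c53 LD3_c21)) = (LP (LK LD1_c15 LD2_c17 LD3_c32)) :=
  Lgr Lrot4 (Lpr_cf (f289075 IH) (Lpr_ff (f277422 IH) (Lpr_cf (f223308 IH) (Lpn (LP (LK LD1_c15 LD2_c17 LD3_c32))))))
theorem f289112 : Led Lsl_ff (LP (LK LD1_c8 LD2_c53 LD3_c21)) = (LP (LK LD1_c15 LD2_c17 LD3_c32)) :=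
  Lgr Lrot3 (Lpr_ft (f289086 IH) (Lpn (LP (LK LD1_c15 LD2_c17 LD3_c32))))
theorem f279141 : Led Lsl_at (LP (LK LD1_c8 LD2_c53 LD3_c21)) = (LP (LK LD1_c16 LD2_c37 LD3_c15)) :=
  Lre_a IH (LK LD1_c8 LD2_c53 LD3_c21) (LK LD1_c16 LD2_c37 LD3_c15) Lrfl Lrfl
theorem f223310 : Led Lsl_at (LP (LK LD1_c25 LD2_c7 LD3_c55)) = (LP (LK LD1_c15 LD2_c17 LD3_c32)) :=
  Lre_a IH (LK LD1_c25 LD2_c7 LD3_c55) (LK LD1_c15 LD2_c17 LD3_c32) Lrfl Lrfl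
theorem f289117 : Led Lsl_ft (LP (LK LD1_c16 LD2_c37 LD3_c15)) = (LP (LK LD1_c25 LD2_c7 LD3_c55)) :=
  Lgr Lrot101 (Lpe (f279141 IH) (Lpr_ff (f289112 IH) (Lpe (f223310 IH) (Lpn (LP (LK LD1_c25 LD2_c7 LD3_c55))))))
theorem f223305 : Led Lsl_at (LP (LK LD1_c15 LD2_c17 LD3_c32)) = (LP (LK LD1_c25 LD2_c7 LD3_c55)) :=
  Lre_a IH (LK LD1_c15 LD2_c17 LD3_c32) (LK LD1_c25 LD2_c7 LD3_c55) Lrfl Lrfl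
theorem f223306 : Led Lsl_cf (LP (LK LD1_c19 LD2_c3 LD3_c26)) = (LP (LK LD1_c25 LD2_c7 LD3_c55)) :=
  Lgr Lrot1 (Lpr_at (f223304 IH) (Lpr_ct (f223302 IH) (Lpr_at (f223305 IH) (Lpn (LP (LK LD1_c25 LD2_c7 LD3_c55))))))
theorem f289127 : Led Lsl_cf (LP (LK LD1_c16 LD2_c37 LD3_c15)) = (LP (LK LD1_c10 LD2_c35 LD3_c49)) :=
  Lgr Lrot108 (Lpr_ft (f289117 IH) (Lpe (f223306 IH) (Lpe (f277415 IH) (Lpn (LP (LK LD1_c10 LD2_c35 LD3_c49))))))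
theorem f279095 : Led Lsl_bt (LP (LK LD1_c16 LD2_c37 LD3_c15)) = (LP (LK LD1_c10 LD2_c47 LD3_c46)) :=
  Lgr Lrot127 (Lpr_bf (K16.f279091 IH) (Lpn (LP (LK LD1_c10 LD2_c47 LD3_c46))))
theorem f279103 : Led Lsl_ct (LP (LK LD1_c10 LD2_c47 LD3_c46)) = (LP (LK LD1_c5 LD2_c28 LD3_c28)) :=
  Lre_c IH (LK LD1_c10 LD2_c47 LD3_c46) (LK LD1_c5 LD2_c28 LD3_c28) Lrfl Lrfl
theorem f171978 : Led Lsl_bt (LP (LK LD1_c5 LD2_c22 LD3_c45)) = (LP (LK LD1_c2 LD2_c37 LD3_c56)) :=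
  Lre_b IH (LK LD1_c5 LD2_c22 LD3_c45) (LK LD1_c2 LD2_c37 LD3_c56) Lrfl Lrfl
theorem f276889 : Led Lsl_at (LP (LK LD1_c10 LD2_c35 LD3_c49)) = (LP (LK LD1_c5 LD2_c22 LD3_c45)) :=
  Lre_a IH (LK LD1_c10 LD2_c35 LD3_c49) (LK LD1_c5 LD2_c22 LD3_c45) Lrfl Lrfl
theorem f276890 : Led Lsl_bt (LP (LK LD1_c15 LD2_c44 LD3_c9)) = (LP (LK LD1_c10 LD2_c35 LD3_c49)) :=
  Lgr Lrot62 (Lpe (f225417 IH) (Lpe (K14.f187029 IH) (Lpr_af (K16.f276885 IH) (Lpe (f171978 IH) (Lpe (f276889 IH) (Lpn (LP (LK LD1_c10 LD2_c35 LD3_c49))))))))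
theorem f225416 : Led Lsl_ct (LP (LK LD1_c8 LD2_c21 LD3_c54)) = (LP (LK LD1_c15 LD2_c44 LD3_c9)) :=
  Lre_c IH (LK LD1_c8 LD2_c21 LD3_c54) (LK LD1_c15 LD2_c44 LD3_c9) Lrfl Lrfl
theorem f289131 : Led Lsl_bt (LP (LK LD1_c5 LD2_c28 LD3_c28)) = (LP (LK LD1_c8 LD2_c21 LD3_c54)) :=
  Lgr Lrot128 (Lpe (f279103 IH) (Lpe (f279095 IH) (Lpr_cf (f289127 IH) (Lpe (f276890 IH) (Lpe (f225416 IH) (Lpn (LP (LK LD1_c8 LD2_c21 LD3_c54))))))))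
theorem f289138 : Led Lsl_et (LP (LK LD1_c10 LD2_c48 LD3_c2)) = (LP (LK LD1_c5 LD2_c28 LD3_c28)) :=
  Lre_e IH (LK LD1_c10 LD2_c48 LD3_c2) (LK LD1_c5 LD2_c28 LD3_c28) Lrfl Lrfl
theorem f225413 : Led Lsl_et (LP (LK LD1_c8 LD2_c21 LD3_c54)) = (LP (LK LD1_c15 LD2_c44 LD3_c19)) :=
  Lre_e IH (LK LD1_c8 LD2_c21 LD3_c54) (LK LD1_c15 LD2_c44 LD3_c19) Lrfl Lrfl
theorem f289139 : Led Lsl_bf (LP (LK LD1_c10 LD2_c48 LD3_c2)) = (LP (LK LD1_c15 LD2_c44 LD3_c19)) :=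
  Lgr Lrot96 (Lpr_et (f289138 IH) (Lpr_bt (f289131 IH) (Lpr_et (f225413 IH) (Lpn (LP (LK LD1_c15 LD2_c44 LD3_c19))))))
theorem f289143 : Led Lsl_bt (LP (LK LD1_c10 LD2_c48 LD3_c2)) = (LP (LK LD1_c15 LD2_c44 LD3_c19)) :=
  Lgr Lrot127 (Lpr_bf (f289139 IH) (Lpn (LP (LK LD1_c15 LD2_c44 LD3_c19))))
theorem f289146 : Led Lsl_at (LP (LK LD1_c5 LD2_c28 LD3_c30)) = (LP (LK LD1_c10 LD2_c48 LD3_c2)) :=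
  Lre_a IH (LK LD1_c5 LD2_c28 LD3_c30) (LK LD1_c10 LD2_c48 LD3_c2) Lrfl Lrfl
theorem f7859 : Led Lsl_bt (LP (LK LD1_c2 LD2_c40 LD3_c34)) = (LP (LK LD1_c5 LD2_c28 LD3_c30)) :=
  Lre_b IH (LK LD1_c2 LD2_c40 LD3_c34) (LK LD1_c5 LD2_c28 LD3_c30) Lrfl Lrfl
theorem f277205 : Led Lsl_at (LP (LK LD1_c15 LD2_c44 LD3_c19)) = (LP (LK LD1_c8 LD2_c21 LD3_c49)) :=
  Lre_a IH (LK LD1_c15 LD2_c44 LD3_c19) (LK LD1_c8 LD2_c21 LD3_c49) Lrfl Lrfl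
theorem f289147 : Led Lsl_bt (LP (LK LD1_c8 LD2_c21 LD3_c49)) = (LP (LK LD1_c4 LD2_c10 LD3_c60)) :=
  Lre_b IH (LK LD1_c8 LD2_c21 LD3_c49) (LK LD1_c4 LD2_c10 LD3_c60) Lrfl Lrfl
theorem f289148 : Led Lsl_af (LP (LK LD1_c2 LD2_c40 LD3_c34)) = (LP (LK LD1_c4 LD2_c10 LD3_c60)) :=
  Lgr Lrot36 (Lpr_bt (f7859 IH) (Lpr_at (f289146 IH) (Lpr_bt (f289143 IH) (Lpr_at (f277205 IH) (Lpr_bt (f289147 IH) (Lpn (LP (LK LD1_c4 LD2_c10 LD3_c60))))))))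
theorem f7857 : Led Lsl_dt (LP (LK LD1_c2 LD2_c40 LD3_c34)) = (LP (LK LD1_c5 LD2_c28 LD3_c34)) :=
  Lre_d IH (LK LD1_c2 LD2_c40 LD3_c34) (LK LD1_c5 LD2_c28 LD3_c34) Lrfl Lrfl
theorem f179085 : Led Lsl_dt (LP (LK LD1_c8 LD2_c21 LD3_c50)) = (LP (LK LD1_c4 LD2_c10 LD3_c60)) :=
  Lre_d IH (LK LD1_c8 LD2_c21 LD3_c50) (LK LD1_c4 LD2_c10 LD3_c60) Lrfl Lrfl
theorem f289151 : Led Lsl_at (LP (LK LD1_c5 LD2_c28 LD3_c34)) = (LP (LK LD1_c8 LD2_c21 LD3_c50)) :=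
  Lgr Lrot51 (Lpe (f7857 IH) (Lpr_af (f289148 IH) (Lpe (f179085 IH) (Lpn (LP (LK LD1_c8 LD2_c21 LD3_c50))))))
theorem f179217 : Led Lsl_et (LP (LK LD1_c10 LD2_c48 LD3_c10)) = (LP (LK LD1_c5 LD2_c28 LD3_c34)) :=
  Lre_e IH (LK LD1_c10 LD2_c48 LD3_c10) (LK LD1_c5 LD2_c28 LD3_c34) Lrfl Lrfl
theorem f289171 : Led Lsl_af (LP (LK LD1_c10 LD2_c48 LD3_c10)) = (LP (LK LD1_c10 LD2_c58 LD3_c35)) :=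
  Lgr Lrot50 (Lpr_et (f179217 IH) (Lpr_at (f289151 IH) (Lpr_et (K14.f225354 IH) (Lpn (LP (LK LD1_c10 LD2_c58 LD3_c35))))))
theorem f289177 : Led Lsl_ft (LP (LK LD1_c10 LD2_c48 LD3_c10)) = (LP (LK LD1_c19 LD2_c32 LD3_c23)) :=
  Lre_f IH (LK LD1_c10 LD2_c48 LD3_c10) (LK LD1_c19 LD2_c32 LD3_c23) Lrfl Lrfl
theorem f225383 : Led Lsl_ft (LP (LK LD1_c19 LD2_c49 LD3_c1)) = (LP (LK LD1_c10 LD2_c58 LD3_c35)) :=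
  Lre_f IH (LK LD1_c19 LD2_c49 LD3_c1) (LK LD1_c10 LD2_c58 LD3_c35) Lrfl Lrfl
theorem f289178 : Led Lsl_at (LP (LK LD1_c19 LD2_c32 LD3_c23)) = (LP (LK LD1_c19 LD2_c49 LD3_c1)) :=
  Lgr Lrot66 (Lpe (f289177 IH) (Lpr_af (f289171 IH) (Lpe (f225383 IH) (Lpn (LP (LK LD1_c19 LD2_c49 LD3_c1))))))
theorem f289183 : Led Lsl_dt (LP (LK LD1_c10 LD2_c48 LD3_c11)) = (LP (LK LD1_c19 LD2_c32 LD3_c23)) :=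
  Lre_d IH (LK LD1_c10 LD2_c48 LD3_c11) (LK LD1_c19 LD2_c32 LD3_c23) Lrfl Lrfl
theorem f289180 : Led Lsl_dt (LP (LK LD1_c19 LD2_c49 LD3_c1)) = (LP (LK LD1_c10 LD2_c58 LD3_c36)) :=
  Lre_d IH (LK LD1_c19 LD2_c49 LD3_c1) (LK LD1_c10 LD2_c58 LD3_c36) Lrfl Lrfl
theorem f289184 : Led Lsl_af (LP (LK LD1_c10 LD2_c48 LD3_c11)) = (LP (LK LD1_c10 LD2_c58 LD3_c36)) :=
  Lgr Lrot117 (Lpr_dt (f289183 IH) (Lpr_at (f289178 IH) (Lpr_dt (f289180 IH) (Lpn (LP (LK LD1_c10 LD2_c58 LD3_c36))))))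
theorem f289186 : Led Lsl_at (LP (LK LD1_c10 LD2_c48 LD3_c11)) = (LP (LK LD1_c10 LD2_c58 LD3_c36)) :=
  Lgr Lrot100 (Lpr_af (f289184 IH) (Lpn (LP (LK LD1_c10 LD2_c58 LD3_c36))))
theorem f289196 : Led Lsl_ft (LP (LK LD1_c5 LD2_c28 LD3_c31)) = (LP (LK LD1_c10 LD2_c48 LD3_c11)) :=
  Lre_f IH (LK LD1_c5 LD2_c28 LD3_c31) (LK LD1_c10 LD2_c48 LD3_c11) Lrfl Lrfl
theorem f289197 : Led Lsl_ft (LP (LK LD1_c10 LD2_c58 LD3_c36)) = (LP (LK LD1_c5 LD2_c33 LD3_c17)) :=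
  Lre_f IH (LK LD1_c10 LD2_c58 LD3_c36) (LK LD1_c5 LD2_c33 LD3_c17) Lrfl Lrfl
theorem f289198 : Led Lsl_af (LP (LK LD1_c5 LD2_c28 LD3_c31)) = (LP (LK LD1_c5 LD2_c33 LD3_c17)) :=
  Lgr Lrot45 (Lpr_ft (f289196 IH) (Lpr_at (f289186 IH) (Lpr_ft (f289197 IH) (Lpn (LP (LK LD1_c5 LD2_c33 LD3_c17))))))
theorem f226688 : Led Lsl_et (LP (LK LD1_c5 LD2_c28 LD3_c31)) = (LP (LK LD1_c2 LD2_c40 LD3_c33)) :=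
  Lre_e IH (LK LD1_c5 LD2_c28 LD3_c31) (LK LD1_c2 LD2_c40 LD3_c33) Lrfl Lrfl
theorem f225362 : Led Lsl_et (LP (LK LD1_c2 LD2_c42 LD3_c47)) = (LP (LK LD1_c5 LD2_c33 LD3_c17)) :=
  Lre_e IH (LK LD1_c2 LD2_c42 LD3_c47) (LK LD1_c5 LD2_c33 LD3_c17) Lrfl Lrfl
theorem f289204 : Led Lsl_at (LP (LK LD1_c2 LD2_c40 LD3_c33)) = (LP (LK LD1_c2 LD2_c42 LD3_c47)) :=
  Lgr Lrot80 (Lpe (f226688 IH) (Lpr_af (f289198 IH) (Lpe (f225362 IH) (Lpn (LP (LK LD1_c2 LD2_c42 LD3_c47))))))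
theorem f225356 : Led Lsl_gt (LP (LK LD1_c1 LD2_c17 LD3_c58)) = (LP (LK LD1_c2 LD2_c42 LD3_c47)) :=
  Lgr Lrot49 (Lpe (K9.f172295 IH) (Lpe (K9.f172294 IH) (Lpe (K9.f172858 IH) (Lpr_gt (K9.f8441 IH) (Lpe (K9.f183243 IH) (Lpr_gt (K9.f183229 IH) (Lpr_dt (K9.f1416 IH) (Lpe (K13.f178878 IH) (Lpr_df (K14.f225342 IH) (Lpn (LP (LK LD1_c2 LD2_c42 LD3_c47))))))))))))
theorem f289213 : Led Lsl_ff (LP (LK LD1_c2 LD2_c40 LD3_c33)) = (LP (LK LD1_c2 LD2_c42 LD3_c46)) :=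
  Lgr Lrot52 (Lpr_at (f289204 IH) (Lpe (f225356 IH) (Lpe (K9.f174155 IH) (Lpn (LP (LK LD1_c2 LD2_c42 LD3_c46))))))
theorem f289221 : Led Lsl_ft (LP (LK LD1_c2 LD2_c40 LD3_c33)) = (LP (LK LD1_c2 LD2_c42 LD3_c46)) :=
  Lgr Lrot48 (Lpr_ff (f289213 IH) (Lpn (LP (LK LD1_c2 LD2_c42 LD3_c46))))
theorem f226554 : Led Lsl_ct (LP (LK LD1_c1 LD2_c18 LD3_c40)) = (LP (LK LD1_c2 LD2_c40 LD3_c33)) :=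
  Lgr Lrot7 (Lpe (K12.f172680 IH) (Lpr_gf (K12.f211846 IH) (Lpr_df (K9.f168223 IH) (Lpe (K9.f68913 IH) (Lpe (K9.f168296 IH) (Lpr_gt (K12.f168297 IH) (Lpe (K12.f179508 IH) (Lpr_gt (K12.f226537 IH) (Lpr_dt (K12.f7722 IH) (Lpn (LP (LK LD1_c2 LD2_c40 LD3_c33))))))))))))
theorem f289227 : Led Lsl_ff (LP (LK LD1_c1 LD2_c18 LD3_c40)) = (LP (LK LD1_c1 LD2_c19 LD3_c55)) :=
  Lgr Lrot23 (Lpr_ct (f226554 IH) (Lpr_ft (f289221 IH) (Lpr_ct (K9.f174129 IH) (Lpn (LP (LK LD1_c1 LD2_c19 LD3_c55))))))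
theorem f289235 : Led Lsl_at (LP (LK LD1_c1 LD2_c18 LD3_c40)) = (LP (LK LD1_c1 LD2_c19 LD3_c54)) :=
  Lgr Lrot26 (Lpr_ff (f289227 IH) (Lpr_gt (K9.f174128 IH) (Lpr_gt (K12.f68582 IH) (Lpn (LP (LK LD1_c1 LD2_c19 LD3_c54))))))
theorem f226703 : Led Lsl_et (LP (LK LD1_c2 LD2_c44 LD3_c39)) = (LP (LK LD1_c1 LD2_c18 LD3_c40)) :=
  Lre_e IH (LK LD1_c2 LD2_c44 LD3_c39) (LK LD1_c1 LD2_c18 LD3_c40) Lrfl Lrfl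
theorem f225936 : Led Lsl_et (LP (LK LD1_c1 LD2_c19 LD3_c54)) = (LP (LK LD1_c2 LD2_c47 LD3_c1)) :=
  Lre_e IH (LK LD1_c1 LD2_c19 LD3_c54) (LK LD1_c2 LD2_c47 LD3_c1) Lrfl Lrfl
theorem f289239 : Led Lsl_af (LP (LK LD1_c2 LD2_c44 LD3_c39)) = (LP (LK LD1_c2 LD2_c47 LD3_c1)) :=
  Lgr Lrot50 (Lpr_et (f226703 IH) (Lpr_at (f289235 IH) (Lpr_et (f225936 IH) (Lpn (LP (LK LD1_c2 LD2_c47 LD3_c1))))))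
theorem f242697 : Led Lsl_ft (LP (LK LD1_c2 LD2_c44 LD3_c39)) = (LP (LK LD1_c5 LD2_c37 LD3_c25)) :=
  Lre_f IH (LK LD1_c2 LD2_c44 LD3_c39) (LK LD1_c5 LD2_c37 LD3_c25) Lrfl Lrfl
theorem f289248 : Led Lsl_ft (LP (LK LD1_c5 LD2_c42 LD3_c6)) = (LP (LK LD1_c2 LD2_c47 LD3_c1)) :=
  Lre_f IH (LK LD1_c5 LD2_c42 LD3_c6) (LK LD1_c2 LD2_c47 LD3_c1) Lrfl Lrfl
theorem f289249 : Led Lsl_at (LP (LK LD1_c5 LD2_c37 LD3_c25)) = (LP (LK LD1_c5 LD2_c42 LD3_c6)) :=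
  Lgr Lrot66 (Lpe (f242697 IH) (Lpr_af (f289239 IH) (Lpe (f289248 IH) (Lpn (LP (LK LD1_c5 LD2_c42 LD3_c6))))))
theorem f289256 : Led Lsl_af (LP (LK LD1_c5 LD2_c37 LD3_c25)) = (LP (LK LD1_c5 LD2_c42 LD3_c6)) :=
  Lgr Lrot0 (Lpr_at (f289249 IH) (Lpn (LP (LK LD1_c5 LD2_c42 LD3_c6))))
theorem f289262 : Led Lsl_ft (LP (LK LD1_c2 LD2_c47 LD3_c1)) = (LP (LK LD1_c5 LD2_c42 LD3_c6)) :=
  Lre_f IH (LK LD1_c2 LD2_c47 LD3_c1) (LK LD1_c5 LD2_c42 LD3_c6) Lrfl Lrfl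
theorem f225937 : Led Lsl_gt (LP (LK LD1_c2 LD2_c47 LD3_c1)) = (LP (LK LD1_c5 LD2_c42 LD3_c4)) :=
  Lre_g IH (LK LD1_c2 LD2_c47 LD3_c1) (LK LD1_c5 LD2_c42 LD3_c4) Lrfl Lrfl
theorem f289263 : Led Lsl_gf (LP (LK LD1_c5 LD2_c37 LD3_c25)) = (LP (LK LD1_c5 LD2_c42 LD3_c4)) :=
  Lgr Lrot76 (Lpr_af (f289256 IH) (Lpe (f289262 IH) (Lpr_gt (f225937 IH) (Lpn (LP (LK LD1_c5 LD2_c42 LD3_c4))))))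
theorem f100665 : Led Lsl_et (LP (LK LD1_c1 LD2_c11 LD3_c11)) = (LP (LK LD1_c0 LD2_c32 LD3_c60)) :=
  Lre_e IH (LK LD1_c1 LD2_c11 LD3_c11) (LK LD1_c0 LD2_c32 LD3_c60) Lrfl Lrfl
theorem f242624 : Led Lsl_dt (LP (LK LD1_c1 LD2_c11 LD3_c11)) = (LP (LK LD1_c1 LD2_c10 LD3_c32)) :=
  Lgr Lrot56 (Lpr_et (f100665 IH) (Lpr_gt (K9.f27239 IH) (Lpe (K10.f26028 IH) (Lpr_dt (K0.f12615 IH) (Lpe (K0.f26304 IH) (Lpe (K1.f26595 IH) (Lpr_et (K9.f26596 IH) (Lpr_gt (K9.f26597 IH) (Lpr_dt (K9.f35328 IH) (Lpr_gt (K13.f242621 IH) (Lpn (LP (LK LD1_c1 LD2_c10 LD3_c32)))))))))))))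
theorem f242638 : Led Lsl_et (LP (LK LD1_c0 LD2_c30 LD3_c28)) = (LP (LK LD1_c0 LD2_c32 LD3_c30)) :=
  Lgr Lrot121 (Lpr_dt (K13.f185172 IH) (Lpr_gf (K13.f242632 IH) (Lpe (f242624 IH) (Lpr_et (f100665 IH) (Lpr_gf (K9.f100652 IH) (Lpr_ef (K9.f100946 IH) (Lpr_dt (K1.f40815 IH) (Lpr_gf (K9.f181954 IH) (Lpe (K9.f172546 IH) (Lpe (K12.f172556 IH) (Lpn (LP (LK LD1_c0 LD2_c32 LD3_c30)))))))))))))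
theorem f242655 : Led Lsl_ef (LP (LK LD1_c0 LD2_c29 LD3_c22)) = (LP (LK LD1_c0 LD2_c16 LD3_c8)) :=
  Lgr Lrot29 (Lpr_bt (K13.f242647 IH) (Lpr_et (f242638 IH) (Lpe (K12.f211842 IH) (Lpn (LP (LK LD1_c0 LD2_c16 LD3_c8))))))
theorem f242659 : Led Lsl_et (LP (LK LD1_c0 LD2_c29 LD3_c22)) = (LP (LK LD1_c0 LD2_c16 LD3_c8)) :=
  Lgr Lrot87 (Lpr_ef (f242655 IH) (Lpn (LP (LK LD1_c0 LD2_c16 LD3_c8))))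
theorem f242661 : Led Lsl_ef (LP (LK LD1_c1 LD2_c4 LD3_c14)) = (LP (LK LD1_c0 LD2_c36 LD3_c15)) :=
  Lgr Lrot28 (Lpr_ct (K13.f176880 IH) (Lpr_et (f242659 IH) (Lpr_ct (K12.f172676 IH) (Lpn (LP (LK LD1_c0 LD2_c36 LD3_c15))))))
theorem f177090 : Led Lsl_dt (LP (LK LD1_c1 LD2_c4 LD3_c14)) = (LP (LK LD1_c2 LD2_c14 LD3_c21)) :=
  Lre_d IH (LK LD1_c1 LD2_c4 LD3_c14) (LK LD1_c2 LD2_c14 LD3_c21) Lrfl Lrfl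
theorem f177094 : Led Lsl_et (LP (LK LD1_c2 LD2_c14 LD3_c21)) = (LP (LK LD1_c4 LD2_c34 LD3_c42)) :=
  Lre_e IH (LK LD1_c2 LD2_c14 LD3_c21) (LK LD1_c4 LD2_c34 LD3_c42) Lrfl Lrfl
theorem f242665 : Led Lsl_dt (LP (LK LD1_c4 LD2_c34 LD3_c42)) = (LP (LK LD1_c2 LD2_c44 LD3_c39)) :=
  Lgr Lrot77 (Lpe (f177094 IH) (Lpe (f177090 IH) (Lpr_ef (f242661 IH) (Lpe (K12.f172675 IH) (Lpe (f226703 IH) (Lpn (LP (LK LD1_c2 LD2_c44 LD3_c39))))))))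
theorem f242696 : Led Lsl_ft (LP (LK LD1_c9 LD2_c6 LD3_c11)) = (LP (LK LD1_c4 LD2_c34 LD3_c42)) :=
  Lre_f IH (LK LD1_c9 LD2_c6 LD3_c11) (LK LD1_c4 LD2_c34 LD3_c42) Lrfl Lrfl
theorem f242698 : Led Lsl_df (LP (LK LD1_c9 LD2_c6 LD3_c11)) = (LP (LK LD1_c5 LD2_c37 LD3_c25)) :=
  Lgr Lrot78 (Lpr_ft (f242696 IH) (Lpr_dt (f242665 IH) (Lpr_ft (f242697 IH) (Lpn (LP (LK LD1_c5 LD2_c37 LD3_c25))))))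
theorem f225941 : Led Lsl_et (LP (LK LD1_c11 LD2_c14 LD3_c28)) = (LP (LK LD1_c5 LD2_c42 LD3_c4)) :=
  Lre_e IH (LK LD1_c11 LD2_c14 LD3_c28) (LK LD1_c5 LD2_c42 LD3_c4) Lrfl Lrfl
theorem f173388 : Led Lsl_et (LP (LK LD1_c1 LD2_c20 LD3_c32)) = (LP (LK LD1_c0 LD2_c37 LD3_c12)) :=
  Lre_e IH (LK LD1_c1 LD2_c20 LD3_c32) (LK LD1_c0 LD2_c37 LD3_c12) Lrfl Lrfl
theorem f9189 : Led Lsl_dt (LP (LK LD1_c1 LD2_c20 LD3_c32)) = (LP (LK LD1_c2 LD2_c48 LD3_c53)) :=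
  Lre_d IH (LK LD1_c1 LD2_c20 LD3_c32) (LK LD1_c2 LD2_c48 LD3_c53) Lrfl Lrfl
theorem f9196 : Led Lsl_gt (LP (LK LD1_c5 LD2_c46 LD3_c19)) = (LP (LK LD1_c2 LD2_c48 LD3_c53)) :=
  Lre_g IH (LK LD1_c5 LD2_c46 LD3_c19) (LK LD1_c2 LD2_c48 LD3_c53) Lrfl Lrfl
theorem f225942 : Led Lsl_dt (LP (LK LD1_c11 LD2_c14 LD3_c28)) = (LP (LK LD1_c5 LD2_c46 LD3_c19)) :=
  Lgr Lrot136 (Lpr_et (f225941 IH) (Lpe (f225937 IH) (Lpe (f225936 IH) (Lpr_dt (K12.f225926 IH) (Lpr_gf (K12.f225153 IH) (Lpr_df (K9.f173365 IH) (Lpe (K9.f173364 IH) (Lpe (f173388 IH) (Lpr_dt (f9189 IH) (Lpe (f9196 IH) (Lpn (LP (LK LD1_c5 LD2_c46 LD3_c19)))))))))))))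
theorem f9322 : Led Lsl_gt (LP (LK LD1_c3 LD2_c21 LD3_c12)) = (LP (LK LD1_c5 LD2_c46 LD3_c19)) :=
  Lre_g IH (LK LD1_c3 LD2_c21 LD3_c12) (LK LD1_c5 LD2_c46 LD3_c19) Lrfl Lrfl
theorem f68902 : Led Lsl_dt (LP (LK LD1_c4 LD2_c33 LD3_c52)) = (LP (LK LD1_c3 LD2_c21 LD3_c12)) :=
  Lre_d IH (LK LD1_c4 LD2_c33 LD3_c52) (LK LD1_c3 LD2_c21 LD3_c12) Lrfl Lrfl
theorem f140691 : Led Lsl_et (LP (LK LD1_c4 LD2_c33 LD3_c52)) = (LP (LK LD1_c2 LD2_c13 LD3_c47)) :=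
  Lre_e IH (LK LD1_c4 LD2_c33 LD3_c52) (LK LD1_c2 LD2_c13 LD3_c47) Lrfl Lrfl
theorem f140577 : Led Lsl_gt (LP (LK LD1_c1 LD2_c20 LD3_c29)) = (LP (LK LD1_c2 LD2_c13 LD3_c47)) :=
  Lre_g IH (LK LD1_c1 LD2_c20 LD3_c29) (LK LD1_c2 LD2_c13 LD3_c47) Lrfl Lrfl
theorem f225981 : Led Lsl_et (LP (LK LD1_c2 LD2_c48 LD3_c45)) = (LP (LK LD1_c1 LD2_c20 LD3_c29)) :=
  Lre_e IH (LK LD1_c2 LD2_c48 LD3_c45) (LK LD1_c1 LD2_c20 LD3_c29) Lrfl Lrfl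
theorem f225982 : Led Lsl_dt (LP (LK LD1_c2 LD2_c48 LD3_c45)) = (LP (LK LD1_c5 LD2_c45 LD3_c61)) :=
  Lre_d IH (LK LD1_c2 LD2_c48 LD3_c45) (LK LD1_c5 LD2_c45 LD3_c61) Lrfl Lrfl
theorem f289268 : Led Lsl_gt (LP (LK LD1_c9 LD2_c6 LD3_c11)) = (LP (LK LD1_c5 LD2_c45 LD3_c61)) :=
  Lgr Lrot139 (Lpr_df (f242698 IH) (Lpr_gf (f289263 IH) (Lpe (f225941 IH) (Lpr_dt (f225942 IH) (Lpe (f9322 IH) (Lpe (f68902 IH) (Lpr_et (f140691 IH) (Lpe (f140577 IH) (Lpe (f225981 IH) (Lpr_dt (f225982 IH) (Lpn (LP (LK LD1_c5 LD2_c45 LD3_c61)))))))))))))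
theorem f172683 : Led Lsl_et (LP (LK LD1_c1 LD2_c18 LD3_c40)) = (LP (LK LD1_c2 LD2_c44 LD3_c39)) :=
  Lre_e IH (LK LD1_c1 LD2_c18 LD3_c40) (LK LD1_c2 LD2_c44 LD3_c39) Lrfl Lrfl
theorem f174240 : Led Lsl_et (LP (LK LD1_c2 LD2_c47 LD3_c3)) = (LP (LK LD1_c1 LD2_c19 LD3_c55)) :=
  Lre_e IH (LK LD1_c2 LD2_c47 LD3_c3) (LK LD1_c1 LD2_c19 LD3_c55) Lrfl Lrfl
theorem f174249 : Led Lsl_ft (LP (LK LD1_c5 LD2_c42 LD3_c11)) = (LP (LK LD1_c2 LD2_c47 LD3_c3)) :=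
  Lre_f IH (LK LD1_c5 LD2_c42 LD3_c11) (LK LD1_c2 LD2_c47 LD3_c3) Lrfl Lrfl
theorem f289233 : Led Lsl_et (LP (LK LD1_c5 LD2_c37 LD3_c25)) = (LP (LK LD1_c5 LD2_c42 LD3_c11)) :=
  Lgr Lrot69 (Lpe (f242697 IH) (Lpe (f172683 IH) (Lpr_ff (f289227 IH) (Lpe (f174240 IH) (Lpe (f174249 IH) (Lpn (LP (LK LD1_c5 LD2_c42 LD3_c11))))))))
theorem f180477 : Led Lsl_dt (LP (LK LD1_c2 LD2_c13 LD3_c47)) = (LP (LK LD1_c1 LD2_c5 LD3_c10)) :=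
  Lre_d IH (LK LD1_c2 LD2_c13 LD3_c47) (LK LD1_c1 LD2_c5 LD3_c10) Lrfl Lrfl
theorem f289278 : Led Lsl_gf (LP (LK LD1_c5 LD2_c42 LD3_c11)) = (LP (LK LD1_c2 LD2_c57 LD3_c48)) :=
  Lgr Lrot141 (Lpe (f289233 IH) (Lpe (f242698 IH) (Lpr_gt (f289268 IH) (Lpe (f225982 IH) (Lpr_et (f225981 IH) (Lpr_gt (f140577 IH) (Lpr_dt (f180477 IH) (Lpr_gt (f180314 IH) (Lpe (f172565 IH) (Lpr_et (f172566 IH) (Lpn (LP (LK LD1_c2 LD2_c57 LD3_c48)))))))))))))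
theorem f164758 : Led Lsl_ft (LP (LK LD1_c2 LD2_c44 LD3_c34)) = (LP (LK LD1_c5 LD2_c37 LD3_c17)) :=
  Lre_f IH (LK LD1_c2 LD2_c44 LD3_c34) (LK LD1_c5 LD2_c37 LD3_c17) Lrfl Lrfl
theorem f289280 : Led Lsl_af (LP (LK LD1_c5 LD2_c42 LD3_c11)) = (LP (LK LD1_c5 LD2_c37 LD3_c17)) :=
  Lgr Lrot31 (Lpr_gf (f289278 IH) (Lpe (f180290 IH) (Lpr_ft (f164758 IH) (Lpn (LP (LK LD1_c5 LD2_c37 LD3_c17))))))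
theorem f289292 : Led Lsl_at (LP (LK LD1_c2 LD2_c47 LD3_c3)) = (LP (LK LD1_c2 LD2_c44 LD3_c34)) :=
  Lgr Lrot66 (Lpe (f174249 IH) (Lpr_af (f289280 IH) (Lpe (f164758 IH) (Lpn (LP (LK LD1_c2 LD2_c44 LD3_c34))))))
theorem f174150 : Led Lsl_et (LP (LK LD1_c1 LD2_c19 LD3_c55)) = (LP (LK LD1_c2 LD2_c47 LD3_c3)) :=
  Lre_e IH (LK LD1_c1 LD2_c19 LD3_c55) (LK LD1_c2 LD2_c47 LD3_c3) Lrfl Lrfl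
theorem f289303 : Led Lsl_af (LP (LK LD1_c1 LD2_c19 LD3_c55)) = (LP (LK LD1_c1 LD2_c18 LD3_c38)) :=
  Lgr Lrot50 (Lpr_et (f174150 IH) (Lpr_at (f289292 IH) (Lpr_et (f164747 IH) (Lpn (LP (LK LD1_c1 LD2_c18 LD3_c38))))))
theorem f289315 : Led Lsl_ft (LP (LK LD1_c1 LD2_c19 LD3_c54)) = (LP (LK LD1_c1 LD2_c18 LD3_c38)) :=
  Lgr Lrot101 (Lpe (f289235 IH) (Lpr_ff (f289227 IH) (Lpr_af (f289303 IH) (Lpn (LP (LK LD1_c1 LD2_c18 LD3_c38))))))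
theorem f289323 : Led Lsl_ff (LP (LK LD1_c1 LD2_c19 LD3_c54)) = (LP (LK LD1_c1 LD2_c18 LD3_c38)) :=
  Lgr Lrot3 (Lpr_ft (f289315 IH) (Lpn (LP (LK LD1_c1 LD2_c18 LD3_c38))))
theorem f164778 : Led Lsl_ft (LP (LK LD1_c5 LD2_c37 LD3_c17)) = (LP (LK LD1_c2 LD2_c44 LD3_c34)) :=
  Lre_f IH (LK LD1_c5 LD2_c37 LD3_c17) (LK LD1_c2 LD2_c44 LD3_c34) Lrfl Lrfl
theorem f289329 : Led Lsl_et (LP (LK LD1_c5 LD2_c42 LD3_c6)) = (LP (LK LD1_c5 LD2_c37 LD3_c17)) :=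
  Lgr Lrot69 (Lpe (f289262 IH) (Lpe (f225936 IH) (Lpr_ff (f289323 IH) (Lpe (f164747 IH) (Lpe (f164778 IH) (Lpn (LP (LK LD1_c5 LD2_c37 LD3_c17))))))))
theorem f289331 : Led Lsl_ef (LP (LK LD1_c5 LD2_c37 LD3_c25)) = (LP (LK LD1_c5 LD2_c42 LD3_c11)) :=
  Lgr Lrot20 (Lpr_at (f289249 IH) (Lpr_et (f289329 IH) (Lpe (f289280 IH) (Lpn (LP (LK LD1_c5 LD2_c42 LD3_c11))))))
theorem f242707 : Led Lsl_bt (LP (LK LD1_c5 LD2_c37 LD3_c25)) = (LP (LK LD1_c11 LD2_c6 LD3_c32)) :=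
  Lre_b IH (LK LD1_c5 LD2_c37 LD3_c25) (LK LD1_c11 LD2_c6 LD3_c32) Lrfl Lrfl
theorem f289284 : Led Lsl_bt (LP (LK LD1_c11 LD2_c14 LD3_c35)) = (LP (LK LD1_c5 LD2_c42 LD3_c11)) :=
  Lre_b IH (LK LD1_c11 LD2_c14 LD3_c35) (LK LD1_c5 LD2_c42 LD3_c11) Lrfl Lrfl
theorem f289357 : Led Lsl_et (LP (LK LD1_c11 LD2_c6 LD3_c32)) = (LP (LK LD1_c11 LD2_c14 LD3_c35)) :=
  Lgr Lrot74 (Lpe (f242707 IH) (Lpr_ef (f289331 IH) (Lpe (f289284 IH) (Lpn (LP (LK LD1_c11 LD2_c14 LD3_c35))))))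
theorem f289361 : Led Lsl_ft (LP (LK LD1_c5 LD2_c37 LD3_c22)) = (LP (LK LD1_c11 LD2_c6 LD3_c32)) :=
  Lre_f IH (LK LD1_c5 LD2_c37 LD3_c22) (LK LD1_c11 LD2_c6 LD3_c32) Lrfl Lrfl
theorem f242709 : Led Lsl_et (LP (LK LD1_c2 LD2_c44 LD3_c38)) = (LP (LK LD1_c5 LD2_c37 LD3_c22)) :=
  Lre_e IH (LK LD1_c2 LD2_c44 LD3_c38) (LK LD1_c5 LD2_c37 LD3_c22) Lrfl Lrfl
theorem f289362 : Led Lsl_ft (LP (LK LD1_c11 LD2_c14 LD3_c35)) = (LP (LK LD1_c5 LD2_c42 LD3_c9)) :=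
  Lre_f IH (LK LD1_c11 LD2_c14 LD3_c35) (LK LD1_c5 LD2_c42 LD3_c9) Lrfl Lrfl
theorem f289363 : Led Lsl_et (LP (LK LD1_c5 LD2_c42 LD3_c9)) = (LP (LK LD1_c2 LD2_c47 LD3_c2)) :=
  Lre_e IH (LK LD1_c5 LD2_c42 LD3_c9) (LK LD1_c2 LD2_c47 LD3_c2) Lrfl Lrfl
theorem f289364 : Led Lsl_ff (LP (LK LD1_c2 LD2_c44 LD3_c38)) = (LP (LK LD1_c2 LD2_c47 LD3_c2)) :=
  Lgr Lrot72 (Lpr_et (f242709 IH) (Lpr_ft (f289361 IH) (Lpr_et (f289357 IH) (Lpr_ft (f289362 IH) (Lpr_et (f289363 IH) (Lpn (LP (LK LD1_c2 LD2_c47 LD3_c2))))))))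
theorem f211950 : Led Lsl_dt (LP (LK LD1_c2 LD2_c44 LD3_c38)) = (LP (LK LD1_c1 LD2_c18 LD3_c39)) :=
  Lre_d IH (LK LD1_c2 LD2_c44 LD3_c38) (LK LD1_c1 LD2_c18 LD3_c39) Lrfl Lrfl
theorem f20693 : Led Lsl_bt (LP (LK LD1_c1 LD2_c3 LD3_c12)) = (LP (LK LD1_c2 LD2_c12 LD3_c28)) :=
  Lre_b IH (LK LD1_c1 LD2_c3 LD3_c12) (LK LD1_c2 LD2_c12 LD3_c28) Lrfl Lrfl
theorem f174136 : Led Lsl_bt (LP (LK LD1_c2 LD2_c47 LD3_c2)) = (LP (LK LD1_c1 LD2_c19 LD3_c55)) :=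
  Lre_b IH (LK LD1_c2 LD2_c47 LD3_c2) (LK LD1_c1 LD2_c19 LD3_c55) Lrfl Lrfl
theorem f178880 : Led Lsl_dt (LP (LK LD1_c2 LD2_c12 LD3_c28)) = (LP (LK LD1_c2 LD2_c47 LD3_c2)) :=
  Lgr Lrot79 (Lpe (f20693 IH) (Lpr_df (K9.f178876 IH) (Lpe (f174136 IH) (Lpn (LP (LK LD1_c2 LD2_c47 LD3_c2))))))
theorem f289369 : Led Lsl_ft (LP (LK LD1_c1 LD2_c18 LD3_c39)) = (LP (LK LD1_c2 LD2_c12 LD3_c28)) :=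
  Lgr Lrot54 (Lpe (f211950 IH) (Lpr_ff (f289364 IH) (Lpe (f178880 IH) (Lpn (LP (LK LD1_c2 LD2_c12 LD3_c28))))))
theorem f172677 : Led Lsl_bt (LP (LK LD1_c1 LD2_c18 LD3_c39)) = (LP (LK LD1_c0 LD2_c36 LD3_c15)) :=
  Lre_b IH (LK LD1_c1 LD2_c18 LD3_c39) (LK LD1_c0 LD2_c36 LD3_c15) Lrfl Lrfl
theorem f211833 : Led Lsl_bt (LP (LK LD1_c1 LD2_c3 LD3_c14)) = (LP (LK LD1_c2 LD2_c12 LD3_c30)) :=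
  Lre_b IH (LK LD1_c1 LD2_c3 LD3_c14) (LK LD1_c2 LD2_c12 LD3_c30) Lrfl Lrfl
theorem f211844 : Led Lsl_cf (LP (LK LD1_c1 LD2_c18 LD3_c39)) = (LP (LK LD1_c2 LD2_c12 LD3_c30)) :=
  Lgr Lrot97 (Lpr_bt (f172677 IH) (Lpr_ct (K12.f172672 IH) (Lpr_bt (K12.f211840 IH) (Lpe (K12.f211807 IH) (Lpr_bt (f211833 IH) (Lpn (LP (LK LD1_c2 LD2_c12 LD3_c30))))))))
theorem f165074 : Led Lsl_bt (LP (LK LD1_c1 LD2_c18 LD3_c41)) = (LP (LK LD1_c0 LD2_c36 LD3_c16)) :=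
  Lre_b IH (LK LD1_c1 LD2_c18 LD3_c41) (LK LD1_c0 LD2_c36 LD3_c16) Lrfl Lrfl
theorem f211990 : Led Lsl_cf (LP (LK LD1_c1 LD2_c18 LD3_c41)) = (LP (LK LD1_c2 LD2_c12 LD3_c28)) :=
  Lgr Lrot97 (Lpr_bt (f165074 IH) (Lpr_ct (K9.f165067 IH) (Lpr_bt (K12.f211984 IH) (Lpr_ct (K9.f20686 IH) (Lpr_bt (f20693 IH) (Lpn (LP (LK LD1_c2 LD2_c12 LD3_c28))))))))
theorem f289376 : Led Lsl_ff (LP (LK LD1_c2 LD2_c12 LD3_c30)) = (LP (LK LD1_c1 LD2_c18 LD3_c41)) :=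
  Lgr Lrot23 (Lpe (f211844 IH) (Lpr_ft (f289369 IH) (Lpe (f211990 IH) (Lpn (LP (LK LD1_c1 LD2_c18 LD3_c41))))))
theorem f289391 : Led Lsl_ft (LP (LK LD1_c2 LD2_c12 LD3_c30)) = (LP (LK LD1_c1 LD2_c18 LD3_c41)) :=
  Lgr Lrot48 (Lpr_ff (f289376 IH) (Lpn (LP (LK LD1_c1 LD2_c18 LD3_c41))))
theorem f289397 : Led Lsl_ff (LP (LK LD1_c1 LD2_c3 LD3_c14)) = (LP (LK LD1_c0 LD2_c36 LD3_c16)) :=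
  Lgr Lrot25 (Lpr_bt (f211833 IH) (Lpr_ft (f289391 IH) (Lpr_bt (f165074 IH) (Lpn (LP (LK LD1_c0 LD2_c36 LD3_c16))))))
theorem f289429 : Led Lsl_ft (LP (LK LD1_c0 LD2_c32 LD3_c30)) = (LP (LK LD1_c0 LD2_c26 LD3_c49)) :=
  Lgr Lrot4 (Lpe (K12.f211805 IH) (Lpr_ff (f289397 IH) (Lpr_cf (K9.f165077 IH) (Lpn (LP (LK LD1_c0 LD2_c26 LD3_c49))))))
theorem f289624 : Led Lsl_af (LP (LK LD1_c0 LD2_c27 LD3_c40)) = (LP (LK LD1_c0 LD2_c26 LD3_c49)) :=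
  Lgr Lrot31 (Lpr_gf (K9.f179854 IH) (Lpe (K12.f172556 IH) (Lpr_ft (f289429 IH) (Lpn (LP (LK LD1_c0 LD2_c26 LD3_c49))))))
theorem f289632 : Led Lsl_at (LP (LK LD1_c0 LD2_c32 LD3_c4)) = (LP (LK LD1_c0 LD2_c32 LD3_c9)) :=
  Lgr Lrot80 (Lpe (K9.f180255 IH) (Lpr_af (f289624 IH) (Lpe (K9.f53175 IH) (Lpn (LP (LK LD1_c0 LD2_c32 LD3_c9))))))
theorem f289642 : Led Lsl_ff (LP (LK LD1_c0 LD2_c32 LD3_c4)) = (LP (LK LD1_c0 LD2_c32 LD3_c10)) :=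
  Lgr Lrot52 (Lpr_at (f289632 IH) (Lpr_gf (K10.f185841 IH) (Lpe (K12.f212000 IH) (Lpn (LP (LK LD1_c0 LD2_c32 LD3_c10))))))
theorem f289644 : Led Lsl_ft (LP (LK LD1_c0 LD2_c32 LD3_c4)) = (LP (LK LD1_c0 LD2_c32 LD3_c10)) :=
  Lgr Lrot48 (Lpr_ff (f289642 IH) (Lpn (LP (LK LD1_c0 LD2_c32 LD3_c10))))
theorem f289648 : Led Lsl_af (LP (LK LD1_c0 LD2_c32 LD3_c5)) = (LP (LK LD1_c0 LD2_c32 LD3_c10)) :=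
  Lgr Lrot31 (Lpr_gf (K9.f101517 IH) (Lpr_gf (K9.f177771 IH) (Lpr_ft (f289644 IH) (Lpn (LP (LK LD1_c0 LD2_c32 LD3_c10))))))
theorem f289634 : Led Lsl_af (LP (LK LD1_c0 LD2_c32 LD3_c4)) = (LP (LK LD1_c0 LD2_c32 LD3_c9)) :=
  Lgr Lrot0 (Lpr_at (f289632 IH) (Lpn (LP (LK LD1_c0 LD2_c32 LD3_c9))))
theorem f289660 : Led Lsl_ft (LP (LK LD1_c0 LD2_c32 LD3_c5)) = (LP (LK LD1_c0 LD2_c32 LD3_c9)) :=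
  Lgr Lrot101 (Lpr_af (f289648 IH) (Lpe (f289644 IH) (Lpr_af (f289634 IH) (Lpn (LP (LK LD1_c0 LD2_c32 LD3_c9))))))
theorem f289668 : Led Lsl_ff (LP (LK LD1_c0 LD2_c32 LD3_c5)) = (LP (LK LD1_c0 LD2_c32 LD3_c9)) :=
  Lgr Lrot3 (Lpr_ft (f289660 IH) (Lpn (LP (LK LD1_c0 LD2_c32 LD3_c9))))
theorem f289674 : Led Lsl_ft (LP (LK LD1_c0 LD2_c18 LD3_c51)) = (LP (LK LD1_c0 LD2_c30 LD3_c28)) :=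
  Lgr Lrot86 (Lpe (K11.f204872 IH) (Lpr_ff (f289668 IH) (Lpr_ef (K9.f53312 IH) (Lpe (f289429 IH) (Lpe (f242638 IH) (Lpn (LP (LK LD1_c0 LD2_c30 LD3_c28))))))))
theorem f289680 : Led Lsl_af (LP (LK LD1_c0 LD2_c18 LD3_c52)) = (LP (LK LD1_c0 LD2_c30 LD3_c28)) :=
  Lgr Lrot31 (Lpr_gf (K11.f204383 IH) (Lpe (K11.f204373 IH) (Lpr_ft (f289674 IH) (Lpn (LP (LK LD1_c0 LD2_c30 LD3_c28))))))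
theorem f204851 : Led Lsl_et (LP (LK LD1_c0 LD2_c18 LD3_c52)) = (LP (LK LD1_c0 LD2_c42 LD3_c17)) :=
  Lre_e IH (LK LD1_c0 LD2_c18 LD3_c52) (LK LD1_c0 LD2_c42 LD3_c17) Lrfl Lrfl
theorem f242640 : Led Lsl_ef (LP (LK LD1_c0 LD2_c30 LD3_c28)) = (LP (LK LD1_c0 LD2_c32 LD3_c30)) :=
  Lgr Lrot88 (Lpr_et (f242638 IH) (Lpn (LP (LK LD1_c0 LD2_c32 LD3_c30))))
theorem f289688 : Led Lsl_at (LP (LK LD1_c0 LD2_c42 LD3_c17)) = (LP (LK LD1_c0 LD2_c32 LD3_c30)) :=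
  Lgr Lrot80 (Lpe (f204851 IH) (Lpr_af (f289680 IH) (Lpr_ef (f242640 IH) (Lpn (LP (LK LD1_c0 LD2_c32 LD3_c30))))))
theorem f289692 : Led Lsl_ff (LP (LK LD1_c0 LD2_c42 LD3_c17)) = (LP (LK LD1_c0 LD2_c27 LD3_c40)) :=
  Lgr Lrot30 (Lpr_at (f289688 IH) (Lpr_ft (f289429 IH) (Lpe (f289624 IH) (Lpn (LP (LK LD1_c0 LD2_c27 LD3_c40))))))
theorem f180233 : Led Lsl_ef (LP (LK LD1_c0 LD2_c27 LD3_c40)) = (LP (LK LD1_c0 LD2_c32 LD3_c4)) :=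
  Lgr Lrot167 (Lpr_gt (K9.f180227 IH) (Lpr_dt (K9.f56515 IH) (Lpr_gt (K9.f7022 IH) (Lpe (K1.f40783 IH) (Lpr_et (K9.f56514 IH) (Lpr_gt (K1.f7031 IH) (Lpr_ef (K9.f37746 IH) (Lpr_dt (K2.f31443 IH) (Lpr_gt (K9.f31444 IH) (Lpe (K9.f31452 IH) (Lpn (LP (LK LD1_c0 LD2_c32 LD3_c4)))))))))))))
theorem f289694 : Led Lsl_ft (LP (LK LD1_c0 LD2_c18 LD3_c52)) = (LP (LK LD1_c0 LD2_c30 LD3_c27)) :=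
  Lgr Lrot86 (Lpe (K14.f25995 IH) (Lpr_ff (f289692 IH) (Lpr_ef (f180233 IH) (Lpr_ff (f289642 IH) (Lpe (K13.f35331 IH) (Lpn (LP (LK LD1_c0 LD2_c30 LD3_c27))))))))
theorem f289702 : Led Lsl_af (LP (LK LD1_c0 LD2_c18 LD3_c51)) = (LP (LK LD1_c0 LD2_c30 LD3_c27)) :=
  Lgr Lrot45 (Lpr_ft (f289674 IH) (Lpe (f289680 IH) (Lpr_ft (f289694 IH) (Lpn (LP (LK LD1_c0 LD2_c30 LD3_c27))))))
theorem f289706 : Led Lsl_at (LP (LK LD1_c0 LD2_c42 LD3_c13)) = (LP (LK LD1_c1 LD2_c6 LD3_c35)) :=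
  Lgr Lrot51 (Lpe (K11.f25943 IH) (Lpr_af (f289702 IH) (Lpe (K9.f35333 IH) (Lpn (LP (LK LD1_c1 LD2_c6 LD3_c35))))))
theorem f289712 : Led Lsl_af (LP (LK LD1_c0 LD2_c56 LD3_c58)) = (LP (LK LD1_c0 LD2_c57 LD3_c26)) :=
  Lgr Lrot50 (Lpe (K14.f204852 IH) (Lpr_at (f289706 IH) (Lpr_et (K9.f35329 IH) (Lpn (LP (LK LD1_c0 LD2_c57 LD3_c26))))))
theorem f289720 : Led Lsl_ft (LP (LK LD1_c0 LD2_c56 LD3_c59)) = (LP (LK LD1_c0 LD2_c57 LD3_c26)) :=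
  Lgr Lrot2 (Lpr_gt (K9.f183201 IH) (Lpr_gt (K11.f168999 IH) (Lpr_af (f289712 IH) (Lpn (LP (LK LD1_c0 LD2_c57 LD3_c26))))))
theorem f289726 : Led Lsl_ff (LP (LK LD1_c0 LD2_c56 LD3_c59)) = (LP (LK LD1_c0 LD2_c57 LD3_c26)) :=
  Lgr Lrot3 (Lpr_ft (f289720 IH) (Lpn (LP (LK LD1_c0 LD2_c57 LD3_c26))))
theorem f289728 : Led Lsl_at (LP (LK LD1_c0 LD2_c56 LD3_c59)) = (LP (LK LD1_c0 LD2_c57 LD3_c27)) :=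
  Lgr Lrot26 (Lpr_ff (f289726 IH) (Lpr_gt (K9.f59118 IH) (Lpe (K10.f193795 IH) (Lpn (LP (LK LD1_c0 LD2_c57 LD3_c27))))))
theorem f289714 : Led Lsl_at (LP (LK LD1_c0 LD2_c56 LD3_c58)) = (LP (LK LD1_c0 LD2_c57 LD3_c26)) :=
  Lgr Lrot100 (Lpr_af (f289712 IH) (Lpn (LP (LK LD1_c0 LD2_c57 LD3_c26))))
theorem f289738 : Led Lsl_ff (LP (LK LD1_c0 LD2_c56 LD3_c58)) = (LP (LK LD1_c0 LD2_c57 LD3_c27)) :=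
  Lgr Lrot30 (Lpr_at (f289714 IH) (Lpe (f289726 IH) (Lpr_at (f289728 IH) (Lpn (LP (LK LD1_c0 LD2_c57 LD3_c27))))))
theorem f289746 : Led Lsl_ft (LP (LK LD1_c0 LD2_c56 LD3_c58)) = (LP (LK LD1_c0 LD2_c57 LD3_c27)) :=
  Lgr Lrot48 (Lpr_ff (f289738 IH) (Lpn (LP (LK LD1_c0 LD2_c57 LD3_c27))))
theorem f289752 : Led Lsl_ff (LP (LK LD1_c0 LD2_c32 LD3_c6)) = (LP (LK LD1_c0 LD2_c27 LD3_c28)) :=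
  Lgr Lrot19 (Lpr_dt (K14.f204866 IH) (Lpr_ft (f289746 IH) (Lpr_dt (K10.f193791 IH) (Lpn (LP (LK LD1_c0 LD2_c27 LD3_c28))))))
theorem f289672 : Led Lsl_ft (LP (LK LD1_c0 LD2_c14 LD3_c20)) = (LP (LK LD1_c0 LD2_c14 LD3_c23)) :=
  Lgr Lrot54 (Lpe (K9.f31695 IH) (Lpr_ff (f289668 IH) (Lpe (K9.f28338 IH) (Lpn (LP (LK LD1_c0 LD2_c14 LD3_c23))))))
theorem f289758 : Led Lsl_ft (LP (LK LD1_c0 LD2_c11 LD3_c52)) = (LP (LK LD1_c0 LD2_c12 LD3_c9)) :=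
  Lgr Lrot86 (Lpe (K9.f53177 IH) (Lpe (f289672 IH) (Lpe (K11.f31696 IH) (Lpr_ff (f289752 IH) (Lpe (K9.f8016 IH) (Lpn (LP (LK LD1_c0 LD2_c12 LD3_c9))))))))
theorem f289766 : Led Lsl_af (LP (LK LD1_c0 LD2_c11 LD3_c49)) = (LP (LK LD1_c0 LD2_c12 LD3_c9)) :=
  Lgr Lrot31 (Lpe (K9.f53321 IH) (Lpr_gf (K13.f179531 IH) (Lpr_ft (f289758 IH) (Lpn (LP (LK LD1_c0 LD2_c12 LD3_c9))))))
theorem f255184 : Led Lsl_ff (LP (LK LD1_c0 LD2_c12 LD3_c13)) = (LP (LK LD1_c0 LD2_c11 LD3_c49)) :=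
  Lgr Lrot25 (Lpr_bt (K10.f180112 IH) (Lpr_ft (K14.f255182 IH) (Lpr_bt (K13.f53335 IH) (Lpn (LP (LK LD1_c0 LD2_c11 LD3_c49))))))
theorem f289776 : Led Lsl_at (LP (LK LD1_c0 LD2_c12 LD3_c13)) = (LP (LK LD1_c0 LD2_c11 LD3_c52)) :=
  Lgr Lrot66 (Lpr_ff (f255184 IH) (Lpr_af (f289766 IH) (Lpe (f289758 IH) (Lpn (LP (LK LD1_c0 LD2_c11 LD3_c52))))))
theorem f289780 : Led Lsl_af (LP (LK LD1_c0 LD2_c27 LD3_c38)) = (LP (LK LD1_c0 LD2_c26 LD3_c47)) :=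
  Lgr Lrot68 (Lpr_ct (K14.f170289 IH) (Lpr_at (f289776 IH) (Lpr_ct (K9.f51577 IH) (Lpn (LP (LK LD1_c0 LD2_c26 LD3_c47))))))
theorem f180253 : Led Lsl_et (LP (LK LD1_c0 LD2_c27 LD3_c38)) = (LP (LK LD1_c0 LD2_c15 LD3_c11)) :=
  Lgr Lrot158 (Lpe (K14.f170287 IH) (Lpr_ef (K9.f180249 IH) (Lpr_cf (K9.f171512 IH) (Lpn (LP (LK LD1_c0 LD2_c15 LD3_c11))))))
theorem f289788 : Led Lsl_at (LP (LK LD1_c0 LD2_c15 LD3_c11)) = (LP (LK LD1_c0 LD2_c14 LD3_c54)) :=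
  Lgr Lrot80 (Lpe (f180253 IH) (Lpr_af (f289780 IH) (Lpe (K11.f166606 IH) (Lpn (LP (LK LD1_c0 LD2_c14 LD3_c54))))))
theorem f289796 : Led Lsl_ff (LP (LK LD1_c0 LD2_c15 LD3_c11)) = (LP (LK LD1_c0 LD2_c14 LD3_c55)) :=
  Lgr Lrot52 (Lpr_at (f289788 IH) (Lpe (K8.f3145 IH) (Lpe (K8.f3141 IH) (Lpn (LP (LK LD1_c0 LD2_c14 LD3_c55))))))
theorem f289800 : Led Lsl_ft (LP (LK LD1_c0 LD2_c15 LD3_c11)) = (LP (LK LD1_c0 LD2_c14 LD3_c55)) :=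
  Lgr Lrot48 (Lpr_ff (f289796 IH) (Lpn (LP (LK LD1_c0 LD2_c14 LD3_c55))))
theorem f289804 : Led Lsl_af (LP (LK LD1_c0 LD2_c15 LD3_c12)) = (LP (LK LD1_c0 LD2_c14 LD3_c55)) :=
  Lgr Lrot31 (Lpr_gf (K10.f186835 IH) (Lpr_gf (K9.f165481 IH) (Lpr_ft (f289800 IH) (Lpn (LP (LK LD1_c0 LD2_c14 LD3_c55))))))
theorem f289790 : Led Lsl_af (LP (LK LD1_c0 LD2_c15 LD3_c11)) = (LP (LK LD1_c0 LD2_c14 LD3_c54)) :=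
  Lgr Lrot0 (Lpr_at (f289788 IH) (Lpn (LP (LK LD1_c0 LD2_c14 LD3_c54))))
theorem f289814 : Led Lsl_ft (LP (LK LD1_c0 LD2_c15 LD3_c12)) = (LP (LK LD1_c0 LD2_c14 LD3_c54)) :=
  Lgr Lrot101 (Lpr_af (f289804 IH) (Lpe (f289800 IH) (Lpr_af (f289790 IH) (Lpn (LP (LK LD1_c0 LD2_c14 LD3_c54))))))
theorem f289818 : Led Lsl_ff (LP (LK LD1_c0 LD2_c15 LD3_c12)) = (LP (LK LD1_c0 LD2_c14 LD3_c54)) :=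
  Lgr Lrot3 (Lpr_ft (f289814 IH) (Lpn (LP (LK LD1_c0 LD2_c14 LD3_c54))))
theorem f289820 : Led Lsl_ft (LP (LK LD1_c0 LD2_c33 LD3_c53)) = (LP (LK LD1_c0 LD2_c33 LD3_c8)) :=
  Lgr Lrot75 (Lpe (K11.f186712 IH) (Lpr_ff (f289818 IH) (Lpe (K11.f3789 IH) (Lpn (LP (LK LD1_c0 LD2_c33 LD3_c8))))))
theorem f289824 : Led Lsl_ff (LP (LK LD1_c1 LD2_c13 LD3_c4)) = (LP (LK LD1_c1 LD2_c11 LD3_c32)) :=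
  Lgr Lrot19 (Lpr_dt (K10.f189542 IH) (Lpr_ft (f289820 IH) (Lpr_dt (K11.f165326 IH) (Lpn (LP (LK LD1_c1 LD2_c11 LD3_c32))))))
theorem f289833 : Led Lsl_at (LP (LK LD1_c1 LD2_c13 LD3_c4)) = (LP (LK LD1_c2 LD2_c25 LD3_c3)) :=
  Lgr Lrot26 (Lpr_ff (f289824 IH) (Lpr_gt (K14.f165336 IH) (Lpe (K14.f193130 IH) (Lpn (LP (LK LD1_c2 LD2_c25 LD3_c3))))))
theorem f278611 : Led Lsl_at (LP (LK LD1_c2 LD2_c28 LD3_c58)) = (LP (LK LD1_c1 LD2_c11 LD3_c39)) :=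
  Lre_a IH (LK LD1_c2 LD2_c28 LD3_c58) (LK LD1_c1 LD2_c11 LD3_c39) Lrfl Lrfl
theorem f278612 : Led Lsl_ft (LP (LK LD1_c2 LD2_c31 LD3_c52)) = (LP (LK LD1_c2 LD2_c28 LD3_c58)) :=
  Lgr Lrot2 (Lpr_gt (K16.f278609 IH) (Lpr_gt (K16.f192125 IH) (Lpe (f278611 IH) (Lpn (LP (LK LD1_c2 LD2_c28 LD3_c58))))))
theorem f288402 : Led Lsl_ft (LP (LK LD1_c2 LD2_c25 LD3_c3)) = (LP (LK LD1_c2 LD2_c24 LD3_c58)) :=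
  Lgr Lrot75 (Lpr_bf (f288347 IH) (Lpe (f278612 IH) (Lpr_bf (K16.f278561 IH) (Lpn (LP (LK LD1_c2 LD2_c24 LD3_c58))))))
theorem f289843 : Led Lsl_af (LP (LK LD1_c1 LD2_c11 LD3_c32)) = (LP (LK LD1_c2 LD2_c24 LD3_c58)) :=
  Lgr Lrot45 (Lpe (f289824 IH) (Lpr_at (f289833 IH) (Lpr_ft (f288402 IH) (Lpn (LP (LK LD1_c2 LD2_c24 LD3_c58))))))
theorem f248040 : Led Lsl_et (LP (LK LD1_c4 LD2_c54 LD3_c6)) = (LP (LK LD1_c2 LD2_c24 LD3_c58)) :=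
  Lre_e IH (LK LD1_c4 LD2_c54 LD3_c6) (LK LD1_c2 LD2_c24 LD3_c58) Lrfl Lrfl
theorem f289849 : Led Lsl_at (LP (LK LD1_c2 LD2_c28 LD3_c43)) = (LP (LK LD1_c4 LD2_c54 LD3_c6)) :=
  Lgr Lrot80 (Lpe (K15.f166616 IH) (Lpr_af (f289843 IH) (Lpe (f248040 IH) (Lpn (LP (LK LD1_c4 LD2_c54 LD3_c6))))))
theorem f166653 : Led Lsl_ft (LP (LK LD1_c5 LD2_c2 LD3_c16)) = (LP (LK LD1_c2 LD2_c28 LD3_c43)) :=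
  Lre_f IH (LK LD1_c5 LD2_c2 LD3_c16) (LK LD1_c2 LD2_c28 LD3_c43) Lrfl Lrfl
theorem f189457 : Led Lsl_ft (LP (LK LD1_c4 LD2_c54 LD3_c6)) = (LP (LK LD1_c9 LD2_c39 LD3_c38)) :=
  Lre_f IH (LK LD1_c4 LD2_c54 LD3_c6) (LK LD1_c9 LD2_c39 LD3_c38) Lrfl Lrfl
theorem f289857 : Led Lsl_af (LP (LK LD1_c5 LD2_c2 LD3_c16)) = (LP (LK LD1_c9 LD2_c39 LD3_c38)) :=
  Lgr Lrot45 (Lpr_ft (f166653 IH) (Lpr_at (f289849 IH) (Lpr_ft (f189457 IH) (Lpn (LP (LK LD1_c9 LD2_c39 LD3_c38))))))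
theorem f289862 : Led Lsl_ct (LP (LK LD1_c5 LD2_c2 LD3_c16)) = (LP (LK LD1_c9 LD2_c55 LD3_c16)) :=
  Lre_c IH (LK LD1_c5 LD2_c2 LD3_c16) (LK LD1_c9 LD2_c55 LD3_c16) Lrfl Lrfl
theorem f289863 : Led Lsl_ct (LP (LK LD1_c17 LD2_c45 LD3_c60)) = (LP (LK LD1_c9 LD2_c39 LD3_c38)) :=
  Lre_c IH (LK LD1_c17 LD2_c45 LD3_c60) (LK LD1_c9 LD2_c39 LD3_c38) Lrfl Lrfl
theorem f289864 : Led Lsl_at (LP (LK LD1_c9 LD2_c55 LD3_c16)) = (LP (LK LD1_c17 LD2_c45 LD3_c60)) :=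
  Lgr Lrot107 (Lpe (f289862 IH) (Lpr_af (f289857 IH) (Lpe (f289863 IH) (Lpn (LP (LK LD1_c17 LD2_c45 LD3_c60))))))
theorem f289873 : Led Lsl_af (LP (LK LD1_c9 LD2_c55 LD3_c16)) = (LP (LK LD1_c17 LD2_c45 LD3_c60)) :=
  Lgr Lrot0 (Lpr_at (f289864 IH) (Lpn (LP (LK LD1_c17 LD2_c45 LD3_c60))))
theorem f289883 : Led Lsl_ft (LP (LK LD1_c9 LD2_c55 LD3_c16)) = (LP (LK LD1_c5 LD2_c2 LD3_c13)) :=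
  Lre_f IH (LK LD1_c9 LD2_c55 LD3_c16) (LK LD1_c5 LD2_c2 LD3_c13) Lrfl Lrfl
theorem f289884 : Led Lsl_ft (LP (LK LD1_c9 LD2_c39 LD3_c37)) = (LP (LK LD1_c17 LD2_c45 LD3_c60)) :=
  Lre_f IH (LK LD1_c9 LD2_c39 LD3_c37) (LK LD1_c17 LD2_c45 LD3_c60) Lrfl Lrfl
theorem f289885 : Led Lsl_at (LP (LK LD1_c5 LD2_c2 LD3_c13)) = (LP (LK LD1_c9 LD2_c39 LD3_c37)) :=
  Lgr Lrot66 (Lpe (f289883 IH) (Lpr_af (f289873 IH) (Lpe (f289884 IH) (Lpn (LP (LK LD1_c9 LD2_c39 LD3_c37))))))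
theorem f249435 : Led Lsl_et (LP (LK LD1_c2 LD2_c28 LD3_c42)) = (LP (LK LD1_c5 LD2_c2 LD3_c13)) :=
  Lre_e IH (LK LD1_c2 LD2_c28 LD3_c42) (LK LD1_c5 LD2_c2 LD3_c13) Lrfl Lrfl
theorem f258948 : Led Lsl_et (LP (LK LD1_c9 LD2_c39 LD3_c37)) = (LP (LK LD1_c4 LD2_c54 LD3_c5)) :=
  Lre_e IH (LK LD1_c9 LD2_c39 LD3_c37) (LK LD1_c4 LD2_c54 LD3_c5) Lrfl Lrfl
theorem f289896 : Led Lsl_af (LP (LK LD1_c2 LD2_c28 LD3_c42)) = (LP (LK LD1_c4 LD2_c54 LD3_c5)) :=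
  Lgr Lrot50 (Lpr_et (f249435 IH) (Lpr_at (f289885 IH) (Lpr_et (f258948 IH) (Lpn (LP (LK LD1_c4 LD2_c54 LD3_c5))))))
theorem f251631 : Led Lsl_gt (LP (LK LD1_c4 LD2_c54 LD3_c20)) = (LP (LK LD1_c5 LD2_c2 LD3_c10)) :=
  Lgr Lrot187 (Lpe (K14.f43836 IH) (Lpr_gf (K14.f193130 IH) (Lpr_dt (K14.f251621 IH) (Lpr_gt (K12.f229932 IH) (Lpe (K12.f230272 IH) (Lpr_gt (K15.f230299 IH) (Lpr_ct (K14.f169405 IH) (Lpr_dt (K14.f251014 IH) (Lpe (K14.f165318 IH) (Lpn (LP (LK LD1_c5 LD2_c2 LD3_c10))))))))))))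
theorem f289906 : Led Lsl_ft (LP (LK LD1_c4 LD2_c54 LD3_c20)) = (LP (LK LD1_c4 LD2_c54 LD3_c5)) :=
  Lgr Lrot2 (Lpr_gt (f251631 IH) (Lpr_gt (K11.f165295 IH) (Lpr_af (f289896 IH) (Lpn (LP (LK LD1_c4 LD2_c54 LD3_c5))))))
theorem f289917 : Led Lsl_ff (LP (LK LD1_c4 LD2_c54 LD3_c20)) = (LP (LK LD1_c4 LD2_c54 LD3_c5)) :=
  Lgr Lrot3 (Lpr_ft (f289906 IH) (Lpn (LP (LK LD1_c4 LD2_c54 LD3_c5))))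
theorem f233450 : Led Lsl_et (LP (LK LD1_c4 LD2_c54 LD3_c20)) = (LP (LK LD1_c9 LD2_c40 LD3_c9)) :=
  Lre_e IH (LK LD1_c4 LD2_c54 LD3_c20) (LK LD1_c9 LD2_c40 LD3_c9) Lrfl Lrfl
theorem f289923 : Led Lsl_ft (LP (LK LD1_c9 LD2_c40 LD3_c9)) = (LP (LK LD1_c17 LD2_c47 LD3_c7)) :=
  Lre_f IH (LK LD1_c9 LD2_c40 LD3_c9) (LK LD1_c17 LD2_c47 LD3_c7) Lrfl Lrfl
theorem f289876 : Led Lsl_ft (LP (LK LD1_c17 LD2_c45 LD3_c60)) = (LP (LK LD1_c9 LD2_c39 LD3_c37)) :=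
  Lre_f IH (LK LD1_c17 LD2_c45 LD3_c60) (LK LD1_c9 LD2_c39 LD3_c37) Lrfl Lrfl
theorem f289924 : Led Lsl_et (LP (LK LD1_c17 LD2_c47 LD3_c7)) = (LP (LK LD1_c17 LD2_c45 LD3_c60)) :=
  Lgr Lrot69 (Lpe (f289923 IH) (Lpe (f233450 IH) (Lpr_ff (f289917 IH) (Lpe (f258948 IH) (Lpe (f289876 IH) (Lpn (LP (LK LD1_c17 LD2_c45 LD3_c60))))))))
theorem f289926 : Led Lsl_ct (LP (LK LD1_c9 LD2_c40 LD3_c11)) = (LP (LK LD1_c17 LD2_c47 LD3_c7)) :=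
  Lre_c IH (LK LD1_c9 LD2_c40 LD3_c11) (LK LD1_c17 LD2_c47 LD3_c7) Lrfl Lrfl
theorem f289927 : Led Lsl_ef (LP (LK LD1_c9 LD2_c40 LD3_c11)) = (LP (LK LD1_c9 LD2_c39 LD3_c38)) :=
  Lgr Lrot28 (Lpr_ct (f289926 IH) (Lpr_et (f289924 IH) (Lpr_ct (f289863 IH) (Lpn (LP (LK LD1_c9 LD2_c39 LD3_c38))))))
theorem f289859 : Led Lsl_at (LP (LK LD1_c5 LD2_c2 LD3_c16)) = (LP (LK LD1_c9 LD2_c39 LD3_c38)) :=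
  Lgr Lrot100 (Lpr_af (f289857 IH) (Lpn (LP (LK LD1_c9 LD2_c39 LD3_c38))))
theorem f189563 : Led Lsl_et (LP (LK LD1_c1 LD2_c13 LD3_c4)) = (LP (LK LD1_c2 LD2_c32 LD3_c9)) :=
  Lre_e IH (LK LD1_c1 LD2_c13 LD3_c4) (LK LD1_c2 LD2_c32 LD3_c9) Lrfl Lrfl
theorem f289828 : Led Lsl_ft (LP (LK LD1_c2 LD2_c32 LD3_c9)) = (LP (LK LD1_c5 LD2_c10 LD3_c14)) :=
  Lre_f IH (LK LD1_c2 LD2_c32 LD3_c9) (LK LD1_c5 LD2_c10 LD3_c14) Lrfl Lrfl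
theorem f166624 : Led Lsl_et (LP (LK LD1_c2 LD2_c28 LD3_c43)) = (LP (LK LD1_c1 LD2_c11 LD3_c32)) :=
  Lre_e IH (LK LD1_c2 LD2_c28 LD3_c43) (LK LD1_c1 LD2_c11 LD3_c32) Lrfl Lrfl
theorem f289829 : Led Lsl_et (LP (LK LD1_c5 LD2_c10 LD3_c14)) = (LP (LK LD1_c5 LD2_c2 LD3_c16)) :=
  Lgr Lrot69 (Lpe (f289828 IH) (Lpe (f189563 IH) (Lpr_ff (f289824 IH) (Lpe (f166624 IH) (Lpe (f166653 IH) (Lpn (LP (LK LD1_c5 LD2_c2 LD3_c16))))))))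
theorem f289929 : Led Lsl_at (LP (LK LD1_c9 LD2_c40 LD3_c11)) = (LP (LK LD1_c5 LD2_c10 LD3_c14)) :=
  Lgr Lrot80 (Lpr_ef (f289927 IH) (Lpe (f289859 IH) (Lpe (f289829 IH) (Lpn (LP (LK LD1_c5 LD2_c10 LD3_c14))))))
theorem f250463 : Led Lsl_ft (LP (LK LD1_c4 LD2_c54 LD3_c21)) = (LP (LK LD1_c9 LD2_c40 LD3_c11)) :=
  Lre_f IH (LK LD1_c4 LD2_c54 LD3_c21) (LK LD1_c9 LD2_c40 LD3_c11) Lrfl Lrfl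
theorem f289941 : Led Lsl_ft (LP (LK LD1_c5 LD2_c10 LD3_c14)) = (LP (LK LD1_c2 LD2_c32 LD3_c9)) :=
  Lre_f IH (LK LD1_c5 LD2_c10 LD3_c14) (LK LD1_c2 LD2_c32 LD3_c9) Lrfl Lrfl
theorem f289942 : Led Lsl_af (LP (LK LD1_c4 LD2_c54 LD3_c21)) = (LP (LK LD1_c2 LD2_c32 LD3_c9)) :=
  Lgr Lrot45 (Lpr_ft (f250463 IH) (Lpr_at (f289929 IH) (Lpr_ft (f289941 IH) (Lpn (LP (LK LD1_c2 LD2_c32 LD3_c9))))))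
theorem f187406 : Led Lsl_et (LP (LK LD1_c8 LD2_c13 LD3_c18)) = (LP (LK LD1_c4 LD2_c6 LD3_c22)) :=
  Lre_e IH (LK LD1_c8 LD2_c13 LD3_c18) (LK LD1_c4 LD2_c6 LD3_c22) Lrfl Lrfl
theorem f43840 : Led Lsl_et (LP (LK LD1_c2 LD2_c25 LD3_c3)) = (LP (LK LD1_c4 LD2_c54 LD3_c21)) :=
  Lre_e IH (LK LD1_c2 LD2_c25 LD3_c3) (LK LD1_c4 LD2_c54 LD3_c21) Lrfl Lrfl
theorem f250453 : Led Lsl_df (LP (LK LD1_c8 LD2_c13 LD3_c18)) = (LP (LK LD1_c4 LD2_c54 LD3_c21)) :=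
  Lgr Lrot70 (Lpr_et (f187406 IH) (Lpr_dt (K14.f250435 IH) (Lpr_et (K14.f43842 IH) (Lpr_dt (K14.f43833 IH) (Lpr_et (f43840 IH) (Lpn (LP (LK LD1_c4 LD2_c54 LD3_c21))))))))
theorem f289958 : Led Lsl_at (LP (LK LD1_c8 LD2_c13 LD3_c18)) = (LP (LK LD1_c5 LD2_c10 LD3_c13)) :=
  Lgr Lrot51 (Lpr_df (f250453 IH) (Lpr_af (f289942 IH) (Lpe (K14.f189576 IH) (Lpn (LP (LK LD1_c5 LD2_c10 LD3_c13))))))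
theorem f230891 : Led Lsl_et (LP (LK LD1_c4 LD2_c6 LD3_c22)) = (LP (LK LD1_c8 LD2_c13 LD3_c18)) :=
  Lre_e IH (LK LD1_c4 LD2_c6 LD3_c22) (LK LD1_c8 LD2_c13 LD3_c18) Lrfl Lrfl
theorem f289966 : Led Lsl_af (LP (LK LD1_c4 LD2_c6 LD3_c22)) = (LP (LK LD1_c2 LD2_c32 LD3_c10)) :=
  Lgr Lrot50 (Lpr_et (f230891 IH) (Lpr_at (f289958 IH) (Lpr_et (K14.f189575 IH) (Lpn (LP (LK LD1_c2 LD2_c32 LD3_c10))))))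
theorem f289976 : Led Lsl_ft (LP (LK LD1_c4 LD2_c6 LD3_c23)) = (LP (LK LD1_c2 LD2_c32 LD3_c10)) :=
  Lgr Lrot2 (Lpr_gt (K14.f54553 IH) (Lpr_gt (K14.f187405 IH) (Lpr_af (f289966 IH) (Lpn (LP (LK LD1_c2 LD2_c32 LD3_c10))))))
theorem f289984 : Led Lsl_ff (LP (LK LD1_c4 LD2_c6 LD3_c23)) = (LP (LK LD1_c2 LD2_c32 LD3_c10)) :=
  Lgr Lrot3 (Lpr_ft (f289976 IH) (Lpn (LP (LK LD1_c2 LD2_c32 LD3_c10))))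
theorem f265114 : Led Lsl_cf (LP (LK LD1_c11 LD2_c52 LD3_c28)) = (LP (LK LD1_c15 LD2_c27 LD3_c31)) :=
  Lgr Lrot55 (Lpr_dt (K15.f214067 IH) (Lpr_ct (K15.f214061 IH) (Lpr_dt (K12.f214004 IH) (Lpr_ct (K15.f213996 IH) (Lpr_dt (K14.f41410 IH) (Lpr_ct (K13.f213978 IH) (Lpr_dt (K15.f214079 IH) (Lpr_ct (K15.f265109 IH) (Lpr_dt (K15.f42531 IH) (Lpr_ct (K14.f182562 IH) (Lpe (K15.f256084 IH) (Lpr_ct (K14.f256076 IH) (Lpr_dt (K14.f222000 IH) (Lpr_ct (K10.f182537 IH) (Lpr_dt (K15.f187987 IH) (Lpn (LP (LK LD1_c15 LD2_c27 LD3_c31))))))))))))))))))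
theorem f265218 : Led Lsl_cf (LP (LK LD1_c15 LD2_c27 LD3_c29)) = (LP (LK LD1_c11 LD2_c52 LD3_c35)) :=
  Lgr Lrot166 (Lpe (K15.f187995 IH) (Lpr_dt (K15.f54078 IH) (Lpr_gt (K10.f187979 IH) (Lpr_dt (K15.f187987 IH) (Lpe (f265114 IH) (Lpe (K15.f42525 IH) (Lpe (K12.f8524 IH) (Lpe (K15.f8548 IH) (Lpr_gf (K15.f265214 IH) (Lpn (LP (LK LD1_c11 LD2_c52 LD3_c35))))))))))))
theorem f256832 : Led Lsl_dt (LP (LK LD1_c6 LD2_c4 LD3_c34)) = (LP (LK LD1_c11 LD2_c52 LD3_c40)) :=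
  Lre_d IH (LK LD1_c6 LD2_c4 LD3_c34) (LK LD1_c11 LD2_c52 LD3_c40) Lrfl Lrfl
theorem f265228 : Led Lsl_gt (LP (LK LD1_c11 LD2_c52 LD3_c40)) = (LP (LK LD1_c8 LD2_c14 LD3_c2)) :=
  Lgr Lrot9 (Lpe (f256832 IH) (Lpr_gt (K16.f256830 IH) (Lpr_ct (K16.f189572 IH) (Lpr_gt (K14.f254228 IH) (Lpr_ct (K15.f175308 IH) (Lpe (K15.f187982 IH) (Lpr_cf (f265218 IH) (Lpe (K15.f183018 IH) (Lpr_cf (K15.f183854 IH) (Lpn (LP (LK LD1_c8 LD2_c14 LD3_c2))))))))))))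
theorem f250441 : Led Lsl_gt (LP (LK LD1_c11 LD2_c52 LD3_c39)) = (LP (LK LD1_c6 LD2_c4 LD3_c34)) :=
  Lre_g IH (LK LD1_c11 LD2_c52 LD3_c39) (LK LD1_c6 LD2_c4 LD3_c34) Lrfl Lrfl
theorem f169133 : Led Lsl_dt (LP (LK LD1_c8 LD2_c14 LD3_c2)) = (LP (LK LD1_c4 LD2_c6 LD3_c42)) :=
  Lre_d IH (LK LD1_c8 LD2_c14 LD3_c2) (LK LD1_c4 LD2_c6 LD3_c42) Lrfl Lrfl
theorem f182530 : Led Lsl_gt (LP (LK LD1_c8 LD2_c13 LD3_c1)) = (LP (LK LD1_c4 LD2_c6 LD3_c12)) :=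
  Lre_g IH (LK LD1_c8 LD2_c13 LD3_c1) (LK LD1_c4 LD2_c6 LD3_c12) Lrfl Lrfl
theorem f265233 : Led Lsl_cf (LP (LK LD1_c11 LD2_c52 LD3_c39)) = (LP (LK LD1_c8 LD2_c13 LD3_c1)) :=
  Lgr Lrot166 (Lpr_gt (f250441 IH) (Lpr_dt (f256832 IH) (Lpr_gt (f265228 IH) (Lpr_dt (f169133 IH) (Lpr_ct (K10.f169132 IH) (Lpe (K12.f47883 IH) (Lpe (K9.f47937 IH) (Lpe (K15.f54530 IH) (Lpe (f182530 IH) (Lpn (LP (LK LD1_c8 LD2_c13 LD3_c1))))))))))))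
theorem f194176 : Led Lsl_ct (LP (LK LD1_c6 LD2_c4 LD3_c34)) = (LP (LK LD1_c2 LD2_c58 LD3_c28)) :=
  Lre_c IH (LK LD1_c6 LD2_c4 LD3_c34) (LK LD1_c2 LD2_c58 LD3_c28) Lrfl Lrfl
theorem f194174 : Led Lsl_ct (LP (LK LD1_c1 LD2_c24 LD3_c54)) = (LP (LK LD1_c1 LD2_c24 LD3_c58)) :=
  Lgr Lrot59 (Lpr_cf (K10.f194172 IH) (Lpn (LP (LK LD1_c1 LD2_c24 LD3_c58))))
theorem f265242 : Led Lsl_gt (LP (LK LD1_c4 LD2_c6 LD3_c13)) = (LP (LK LD1_c8 LD2_c13 LD3_c1)) :=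
  Lgr Lrot9 (Lpe (K15.f47936 IH) (Lpr_gt (K10.f54527 IH) (Lpe (K10.f183850 IH) (Lpr_gt (K1.f41756 IH) (Lpr_ct (f194174 IH) (Lpe (K15.f42241 IH) (Lpe (f194176 IH) (Lpe (f250441 IH) (Lpr_cf (f265233 IH) (Lpn (LP (LK LD1_c8 LD2_c13 LD3_c1))))))))))))
theorem f289992 : Led Lsl_at (LP (LK LD1_c4 LD2_c6 LD3_c23)) = (LP (LK LD1_c8 LD2_c13 LD3_c1)) :=
  Lgr Lrot26 (Lpr_ff (f289984 IH) (Lpr_gt (K14.f254228 IH) (Lpr_gt (f265242 IH) (Lpn (LP (LK LD1_c8 LD2_c13 LD3_c1))))))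
theorem f289968 : Led Lsl_at (LP (LK LD1_c4 LD2_c6 LD3_c22)) = (LP (LK LD1_c2 LD2_c32 LD3_c10)) :=
  Lgr Lrot100 (Lpr_af (f289966 IH) (Lpn (LP (LK LD1_c2 LD2_c32 LD3_c10))))
theorem f290000 : Led Lsl_ff (LP (LK LD1_c4 LD2_c6 LD3_c22)) = (LP (LK LD1_c8 LD2_c13 LD3_c1)) :=
  Lgr Lrot30 (Lpr_at (f289968 IH) (Lpe (f289984 IH) (Lpr_at (f289992 IH) (Lpn (LP (LK LD1_c8 LD2_c13 LD3_c1))))))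
theorem f189570 : Led Lsl_dt (LP (LK LD1_c10 LD2_c11 LD3_c14)) = (LP (LK LD1_c5 LD2_c10 LD3_c15)) :=
  Lre_d IH (LK LD1_c10 LD2_c11 LD3_c14) (LK LD1_c5 LD2_c10 LD3_c15) Lrfl Lrfl
theorem f274311 : Led Lsl_df (LP (LK LD1_c15 LD2_c28 LD3_c35)) = (LP (LK LD1_c10 LD2_c35 LD3_c44)) :=
  Lgr Lrot162 (Lpr_cf (K16.f274299 IH) (Lpe (K16.f190111 IH) (Lpe (K15.f42530 IH) (Lpr_gf (K15.f266698 IH) (Lpr_dt (K15.f230913 IH) (Lpe (K16.f274309 IH) (Lpr_ct (K16.f187842 IH) (Lpe (K16.f263510 IH) (Lpr_ct (K15.f257993 IH) (Lpn (LP (LK LD1_c10 LD2_c35 LD3_c44))))))))))))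
theorem f260290 : Led Lsl_dt (LP (LK LD1_c15 LD2_c27 LD3_c57)) = (LP (LK LD1_c8 LD2_c13 LD3_c20)) :=
  Lre_d IH (LK LD1_c15 LD2_c27 LD3_c57) (LK LD1_c8 LD2_c13 LD3_c20) Lrfl Lrfl
theorem f274315 : Led Lsl_ft (LP (LK LD1_c15 LD2_c28 LD3_c35)) = (LP (LK LD1_c15 LD2_c27 LD3_c57)) :=
  Lgr Lrot54 (Lpr_df (f274311 IH) (Lpr_ff (K16.f260312 IH) (Lpe (f260290 IH) (Lpn (LP (LK LD1_c15 LD2_c27 LD3_c57))))))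
theorem f271259 : Led Lsl_af (LP (LK LD1_c8 LD2_c13 LD3_c20)) = (LP (LK LD1_c10 LD2_c15 LD3_c42)) :=
  Lgr Lrot68 (Lpe (K15.f260283 IH) (Lpr_at (K16.f271255 IH) (Lpr_ct (K15.f241919 IH) (Lpn (LP (LK LD1_c10 LD2_c15 LD3_c42))))))
theorem f191962 : Led Lsl_dt (LP (LK LD1_c8 LD2_c13 LD3_c20)) = (LP (LK LD1_c15 LD2_c27 LD3_c57)) :=
  Lre_d IH (LK LD1_c8 LD2_c13 LD3_c20) (LK LD1_c15 LD2_c27 LD3_c57) Lrfl Lrfl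
theorem f274241 : Led Lsl_at (LP (LK LD1_c15 LD2_c27 LD3_c57)) = (LP (LK LD1_c15 LD2_c28 LD3_c36)) :=
  Lgr Lrot51 (Lpe (f191962 IH) (Lpr_af (f271259 IH) (Lpr_df (K16.f274237 IH) (Lpn (LP (LK LD1_c15 LD2_c28 LD3_c36))))))
theorem f187337 : Led Lsl_dt (LP (LK LD1_c4 LD2_c6 LD3_c36)) = (LP (LK LD1_c8 LD2_c13 LD3_c46)) :=
  Lre_d IH (LK LD1_c4 LD2_c6 LD3_c36) (LK LD1_c8 LD2_c13 LD3_c46) Lrfl Lrfl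
theorem f274245 : Led Lsl_gt (LP (LK LD1_c8 LD2_c13 LD3_c46)) = (LP (LK LD1_c15 LD2_c28 LD3_c36)) :=
  Lgr Lrot49 (Lpe (f187337 IH) (Lpr_gf (K16.f194329 IH) (Lpr_cf (K9.f183502 IH) (Lpr_gt (K10.f194628 IH) (Lpr_dt (K13.f42527 IH) (Lpr_gt (K15.f251034 IH) (Lpe (K16.f241900 IH) (Lpe (K16.f260378 IH) (Lpr_df (K16.f274237 IH) (Lpn (LP (LK LD1_c15 LD2_c28 LD3_c36))))))))))))
theorem f274325 : Led Lsl_gt (LP (LK LD1_c15 LD2_c28 LD3_c35)) = (LP (LK LD1_c8 LD2_c13 LD3_c46)) :=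
  Lgr Lrot5 (Lpr_ft (f274315 IH) (Lpr_at (f274241 IH) (Lpe (f274245 IH) (Lpn (LP (LK LD1_c8 LD2_c13 LD3_c46))))))
theorem f274097 : Led Lsl_dt (LP (LK LD1_c2 LD2_c58 LD3_c45)) = (LP (LK LD1_c6 LD2_c5 LD3_c10)) :=
  Lre_d IH (LK LD1_c2 LD2_c58 LD3_c45) (LK LD1_c6 LD2_c5 LD3_c10) Lrfl Lrfl
theorem f274327 : Led Lsl_cf (LP (LK LD1_c6 LD2_c5 LD3_c10)) = (LP (LK LD1_c8 LD2_c13 LD3_c46)) :=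
  Lgr Lrot99 (Lpe (f274097 IH) (Lpr_cf (K11.f192259 IH) (Lpe (K11.f54091 IH) (Lpe (K16.f28661 IH) (Lpe (K10.f190208 IH) (Lpe (K15.f42532 IH) (Lpr_gt (K16.f190111 IH) (Lpe (K16.f274299 IH) (Lpr_gt (f274325 IH) (Lpn (LP (LK LD1_c8 LD2_c13 LD3_c46))))))))))))
theorem f274247 : Led Lsl_gt (LP (LK LD1_c6 LD2_c5 LD3_c10)) = (LP (LK LD1_c11 LD2_c53 LD3_c46)) :=
  Lre_g IH (LK LD1_c6 LD2_c5 LD3_c10) (LK LD1_c11 LD2_c53 LD3_c46) Lrfl Lrfl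
theorem f274329 : Led Lsl_cf (LP (LK LD1_c10 LD2_c11 LD3_c14)) = (LP (LK LD1_c11 LD2_c53 LD3_c46)) :=
  Lgr Lrot175 (Lpr_dt (f189570 IH) (Lpe (K16.f169078 IH) (Lpr_gf (K10.f189561 IH) (Lpe (K15.f182532 IH) (Lpe (K15.f263482 IH) (Lpe (f274311 IH) (Lpr_gt (f274325 IH) (Lpe (f274327 IH) (Lpr_gt (f274247 IH) (Lpn (LP (LK LD1_c11 LD2_c53 LD3_c46))))))))))))
theorem f289998 : Led Lsl_df (LP (LK LD1_c4 LD2_c19 LD3_c8)) = (LP (LK LD1_c8 LD2_c13 LD3_c1)) :=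
  Lgr Lrot18 (Lpr_at (K14.f200617 IH) (Lpr_dt (K14.f252104 IH) (Lpr_at (f289992 IH) (Lpn (LP (LK LD1_c8 LD2_c13 LD3_c1))))))
theorem f256248 : Led Lsl_dt (LP (LK LD1_c2 LD2_c36 LD3_c38)) = (LP (LK LD1_c5 LD2_c19 LD3_c55)) :=
  Lre_d IH (LK LD1_c2 LD2_c36 LD3_c38) (LK LD1_c5 LD2_c19 LD3_c55) Lrfl Lrfl
theorem f274436 : Led Lsl_ct (LP (LK LD1_c5 LD2_c19 LD3_c55)) = (LP (LK LD1_c10 LD2_c29 LD3_c41)) :=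
  Lre_c IH (LK LD1_c5 LD2_c19 LD3_c55) (LK LD1_c10 LD2_c29 LD3_c41) Lrfl Lrfl
theorem f290010 : Led Lsl_df (LP (LK LD1_c11 LD2_c53 LD3_c46)) = (LP (LK LD1_c10 LD2_c29 LD3_c41)) :=
  Lgr Lrot13 (Lpe (f274329 IH) (Lpr_dt (f189570 IH) (Lpr_ct (K16.f189572 IH) (Lpe (f289968 IH) (Lpr_ff (f290000 IH) (Lpe (f289998 IH) (Lpe (f256229 IH) (Lpr_dt (f256248 IH) (Lpr_ct (f274436 IH) (Lpn (LP (LK LD1_c10 LD2_c29 LD3_c41))))))))))))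
theorem f290020 : Led Lsl_ft (LP (LK LD1_c10 LD2_c29 LD3_c41)) = (LP (LK LD1_c5 LD2_c19 LD3_c54)) :=
  Lre_f IH (LK LD1_c10 LD2_c29 LD3_c41) (LK LD1_c5 LD2_c19 LD3_c54) Lrfl Lrfl
theorem f290021 : Led Lsl_af (LP (LK LD1_c5 LD2_c6 LD3_c16)) = (LP (LK LD1_c5 LD2_c19 LD3_c54)) :=
  Lgr Lrot109 (Lpe (K15.f166143 IH) (Lpe (K10.f184626 IH) (Lpe (K11.f189565 IH) (Lpe (K10.f189564 IH) (Lpe (K16.f189572 IH) (Lpe (f189570 IH) (Lpr_cf (f274329 IH) (Lpr_df (f290010 IH) (Lpr_ft (f290020 IH) (Lpn (LP (LK LD1_c5 LD2_c19 LD3_c54))))))))))))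
theorem f290033 : Led Lsl_gf (LP (LK LD1_c8 LD2_c11 LD3_c1)) = (LP (LK LD1_c10 LD2_c29 LD3_c41)) :=
  Lgr Lrot47 (Lpe (K15.f264061 IH) (Lpr_af (f290021 IH) (Lpe (f290020 IH) (Lpn (LP (LK LD1_c10 LD2_c29 LD3_c41))))))
theorem f290037 : Led Lsl_gt (LP (LK LD1_c2 LD2_c58 LD3_c24)) = (LP (LK LD1_c5 LD2_c19 LD3_c55)) :=
  Lgr Lrot9 (Lpe (K15.f22403 IH) (Lpr_gt (K9.f41752 IH) (Lpr_ct (K9.f183845 IH) (Lpr_gt (K9.f54529 IH) (Lpr_ct (K10.f182524 IH) (Lpe (K15.f182527 IH) (Lpe (K15.f182528 IH) (Lpr_gf (f290033 IH) (Lpe (f274436 IH) (Lpn (LP (LK LD1_c5 LD2_c19 LD3_c55))))))))))))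
theorem f187843 : Led Lsl_ct (LP (LK LD1_c2 LD2_c58 LD3_c35)) = (LP (LK LD1_c6 LD2_c4 LD3_c48)) :=
  Lre_c IH (LK LD1_c2 LD2_c58 LD3_c35) (LK LD1_c6 LD2_c4 LD3_c48) Lrfl Lrfl
theorem f179887 : Led Lsl_bt (LP (LK LD1_c1 LD2_c0 LD3_c28)) = (LP (LK LD1_c2 LD2_c6 LD3_c58)) :=
  Lre_b IH (LK LD1_c1 LD2_c0 LD3_c28) (LK LD1_c2 LD2_c6 LD3_c58) Lrfl Lrfl
theorem f252106 : Led Lsl_bf (LP (LK LD1_c2 LD2_c0 LD3_c42)) = (LP (LK LD1_c4 LD2_c6 LD3_c23)) :=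
  Lgr Lrot93 (Lpr_dt (K14.f226059 IH) (Lpr_bt (f179887 IH) (Lpr_dt (K14.f252104 IH) (Lpn (LP (LK LD1_c4 LD2_c6 LD3_c23))))))
theorem f184641 : Led Lsl_bt (LP (LK LD1_c1 LD2_c12 LD3_c15)) = (LP (LK LD1_c2 LD2_c30 LD3_c24)) :=
  Lre_b IH (LK LD1_c1 LD2_c12 LD3_c15) (LK LD1_c2 LD2_c30 LD3_c24) Lrfl Lrfl
theorem f274406 : Led Lsl_bt (LP (LK LD1_c2 LD2_c58 LD3_c35)) = (LP (LK LD1_c2 LD2_c58 LD3_c24)) :=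
  Lgr Lrot92 (Lpr_ct (f187843 IH) (Lpr_gt (K16.f274389 IH) (Lpe (K15.f252108 IH) (Lpe (f252106 IH) (Lpr_gt (K14.f21289 IH) (Lpr_ct (K12.f21290 IH) (Lpe (K14.f198716 IH) (Lpe (K11.f166131 IH) (Lpr_bt (f184641 IH) (Lpe (K15.f264876 IH) (Lpn (LP (LK LD1_c2 LD2_c58 LD3_c24)))))))))))))
theorem f290042 : Led Lsl_bt (LP (LK LD1_c5 LD2_c9 LD3_c31)) = (LP (LK LD1_c5 LD2_c19 LD3_c55)) :=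
  Lgr Lrot92 (Lpr_ct (K15.f192858 IH) (Lpe (K14.f192856 IH) (Lpe (K14.f179076 IH) (Lpr_bt (K15.f191939 IH) (Lpr_gt (K14.f187405 IH) (Lpr_ct (K14.f192886 IH) (Lpe (K16.f274309 IH) (Lpe (f187843 IH) (Lpr_bt (f274406 IH) (Lpr_gt (f290037 IH) (Lpn (LP (LK LD1_c5 LD2_c19 LD3_c55)))))))))))))
theorem f274437 : Led Lsl_dt (LP (LK LD1_c5 LD2_c19 LD3_c55)) = (LP (LK LD1_c2 LD2_c36 LD3_c38)) :=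
  Lre_d IH (LK LD1_c5 LD2_c19 LD3_c55) (LK LD1_c2 LD2_c36 LD3_c38) Lrfl Lrfl
theorem f290057 : Led Lsl_bf (LP (LK LD1_c4 LD2_c3 LD3_c22)) = (LP (LK LD1_c2 LD2_c36 LD3_c38)) :=
  Lgr Lrot93 (Lpe (K14.f256318 IH) (Lpr_bt (f290042 IH) (Lpr_dt (f274437 IH) (Lpn (LP (LK LD1_c2 LD2_c36 LD3_c38))))))
theorem f290061 : Led Lsl_bt (LP (LK LD1_c2 LD2_c24 LD3_c13)) = (LP (LK LD1_c2 LD2_c24 LD3_c43)) :=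
  Lgr Lrot119 (Lpr_ef (f288793 IH) (Lpr_bf (f290057 IH) (Lpe (f274438 IH) (Lpn (LP (LK LD1_c2 LD2_c24 LD3_c43))))))
theorem f290067 : Led Lsl_bf (LP (LK LD1_c2 LD2_c2 LD3_c48)) = (LP (LK LD1_c2 LD2_c6 LD3_c10)) :=
  Lgr Lrot93 (Lpe (f278513 IH) (Lpr_bt (f290061 IH) (Lpe (f7955 IH) (Lpn (LP (LK LD1_c2 LD2_c6 LD3_c10))))))
theorem f276604 : Led Lsl_ct (LP (LK LD1_c2 LD2_c23 LD3_c55)) = (LP (LK LD1_c4 LD2_c52 LD3_c19)) :=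
  Lre_c IH (LK LD1_c2 LD2_c23 LD3_c55) (LK LD1_c4 LD2_c52 LD3_c19) Lrfl Lrfl
theorem f219413 : Led Lsl_ff (LP (LK LD1_c1 LD2_c59 LD3_c38)) = (LP (LK LD1_c2 LD2_c3 LD3_c20)) :=
  Lgr Lrot23 (Lpr_ct (K16.f53887 IH) (Lpr_ft (K12.f219408 IH) (Lpr_ct (K12.f219412 IH) (Lpn (LP (LK LD1_c2 LD2_c3 LD3_c20))))))
theorem f276616 : Led Lsl_gt (LP (LK LD1_c2 LD2_c3 LD3_c20)) = (LP (LK LD1_c2 LD2_c23 LD3_c55)) :=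
  Lgr Lrot5 (Lpe (f219413 IH) (Lpr_at (K12.f53965 IH) (Lpr_gf (K16.f276611 IH) (Lpn (LP (LK LD1_c2 LD2_c23 LD3_c55))))))
theorem f219445 : Led Lsl_bt (LP (LK LD1_c4 LD2_c12 LD3_c10)) = (LP (LK LD1_c2 LD2_c3 LD3_c20)) :=
  Lre_b IH (LK LD1_c4 LD2_c12 LD3_c10) (LK LD1_c2 LD2_c3 LD3_c20) Lrfl Lrfl
theorem f7969 : Led Lsl_ct (LP (LK LD1_c2 LD2_c6 LD3_c10)) = (LP (LK LD1_c4 LD2_c17 LD3_c37)) :=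
  Lre_c IH (LK LD1_c2 LD2_c6 LD3_c10) (LK LD1_c4 LD2_c17 LD3_c37) Lrfl Lrfl
theorem f290080 : Led Lsl_gf (LP (LK LD1_c4 LD2_c11 LD3_c27)) = (LP (LK LD1_c4 LD2_c17 LD3_c37)) :=
  Lgr Lrot126 (Lpe (K15.f256051 IH) (Lpr_bt (f219445 IH) (Lpr_gt (f276616 IH) (Lpr_ct (f276604 IH) (Lpe (K16.f276609 IH) (Lpe (K15.f41985 IH) (Lpe (K1.f41982 IH) (Lpe (f288852 IH) (Lpr_bf (f290067 IH) (Lpr_ct (f7969 IH) (Lpn (LP (LK LD1_c4 LD2_c17 LD3_c37)))))))))))))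
theorem f290086 : Led Lsl_ct (LP (LK LD1_c4 LD2_c11 LD3_c27)) = (LP (LK LD1_c4 LD2_c12 LD3_c10)) :=
  Lgr Lrot110 (Lpr_gf (f290080 IH) (Lpe (f7969 IH) (Lpe (f284106 IH) (Lpe (K11.f29022 IH) (Lpr_gt (K15.f255866 IH) (Lpe (K14.f187057 IH) (Lpr_gt (K14.f246674 IH) (Lpr_ct (K12.f222192 IH) (Lpe (K12.f219375 IH) (Lpn (LP (LK LD1_c4 LD2_c12 LD3_c10))))))))))))
theorem f6934 : Led Lsl_dt (LP (LK LD1_c9 LD2_c37 LD3_c53)) = (LP (LK LD1_c4 LD2_c52 LD3_c60)) :=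
  Lre_d IH (LK LD1_c9 LD2_c37 LD3_c53) (LK LD1_c4 LD2_c52 LD3_c60) Lrfl Lrfl
theorem f270541 : Led Lsl_ct (LP (LK LD1_c15 LD2_c27 LD3_c15)) = (LP (LK LD1_c9 LD2_c37 LD3_c53)) :=
  Lgr Lrot59 (Lpr_cf (K16.f270539 IH) (Lpn (LP (LK LD1_c9 LD2_c37 LD3_c53))))
theorem f267597 : Led Lsl_dt (LP (LK LD1_c4 LD2_c18 LD3_c43)) = (LP (LK LD1_c8 LD2_c36 LD3_c5)) :=
  Lre_d IH (LK LD1_c4 LD2_c18 LD3_c43) (LK LD1_c8 LD2_c36 LD3_c5) Lrfl Lrfl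
theorem f267598 : Led Lsl_gt (LP (LK LD1_c8 LD2_c36 LD3_c5)) = (LP (LK LD1_c15 LD2_c27 LD3_c15)) :=
  Lgr Lrot49 (Lpe (f267597 IH) (Lpr_gf (f267594 IH) (Lpe (K15.f229637 IH) (Lpe (K14.f229641 IH) (Lpr_dt (K14.f169155 IH) (Lpr_gt (K15.f169150 IH) (Lpr_dt (K15.f257974 IH) (Lpr_cf (K15.f222009 IH) (Lpe (K16.f222015 IH) (Lpn (LP (LK LD1_c15 LD2_c27 LD3_c15))))))))))))
theorem f170631 : Led Lsl_dt (LP (LK LD1_c4 LD2_c11 LD3_c29)) = (LP (LK LD1_c2 LD2_c2 LD3_c58)) :=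
  Lre_d IH (LK LD1_c4 LD2_c11 LD3_c29) (LK LD1_c2 LD2_c2 LD3_c58) Lrfl Lrfl
theorem f170642 : Led Lsl_gt (LP (LK LD1_c8 LD2_c22 LD3_c44)) = (LP (LK LD1_c4 LD2_c11 LD3_c29)) :=
  Lre_g IH (LK LD1_c8 LD2_c22 LD3_c44) (LK LD1_c4 LD2_c11 LD3_c29) Lrfl Lrfl
theorem f267605 : Led Lsl_cf (LP (LK LD1_c8 LD2_c36 LD3_c5)) = (LP (LK LD1_c8 LD2_c22 LD3_c44)) :=
  Lgr Lrot166 (Lpr_gt (f267598 IH) (Lpr_dt (K16.f222015 IH) (Lpr_gt (f257918 IH) (Lpr_dt (f222157 IH) (Lpe (K15.f262662 IH) (Lpr_df (K15.f262672 IH) (Lpe (K11.f53366 IH) (Lpe (f170631 IH) (Lpe (f170642 IH) (Lpn (LP (LK LD1_c8 LD2_c22 LD3_c44))))))))))))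
theorem f7970 : Led Lsl_dt (LP (LK LD1_c4 LD2_c17 LD3_c37)) = (LP (LK LD1_c8 LD2_c34 LD3_c13)) :=
  Lre_d IH (LK LD1_c4 LD2_c17 LD3_c37) (LK LD1_c8 LD2_c34 LD3_c13) Lrfl Lrfl
theorem f290088 : Led Lsl_gf (LP (LK LD1_c8 LD2_c22 LD3_c44)) = (LP (LK LD1_c8 LD2_c34 LD3_c13)) :=
  Lgr Lrot179 (Lpe (f267605 IH) (Lpr_gt (f267598 IH) (Lpr_ct (f270541 IH) (Lpr_dt (f6934 IH) (Lpe (K12.f30685 IH) (Lpr_gf (K12.f219453 IH) (Lpe (f290086 IH) (Lpr_gf (f290080 IH) (Lpr_dt (f7970 IH) (Lpn (LP (LK LD1_c8 LD2_c34 LD3_c13))))))))))))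
theorem f290095 : Led Lsl_at (LP (LK LD1_c8 LD2_c22 LD3_c32)) = (LP (LK LD1_c4 LD2_c11 LD3_c29)) :=
  Lre_a IH (LK LD1_c8 LD2_c22 LD3_c32) (LK LD1_c4 LD2_c11 LD3_c29) Lrfl Lrfl
theorem f290096 : Led Lsl_ff (LP (LK LD1_c8 LD2_c22 LD3_c32)) = (LP (LK LD1_c8 LD2_c34 LD3_c13)) :=
  Lgr Lrot52 (Lpr_at (f290095 IH) (Lpe (f170642 IH) (Lpr_gf (f290088 IH) (Lpn (LP (LK LD1_c8 LD2_c34 LD3_c13))))))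
theorem f170632 : Led Lsl_ct (LP (LK LD1_c8 LD2_c22 LD3_c45)) = (LP (LK LD1_c4 LD2_c11 LD3_c29)) :=
  Lre_c IH (LK LD1_c8 LD2_c22 LD3_c45) (LK LD1_c4 LD2_c11 LD3_c29) Lrfl Lrfl
theorem f7975 : Led Lsl_dt (LP (LK LD1_c8 LD2_c34 LD3_c13)) = (LP (LK LD1_c4 LD2_c17 LD3_c37)) :=
  Lre_d IH (LK LD1_c8 LD2_c34 LD3_c13) (LK LD1_c4 LD2_c17 LD3_c37) Lrfl Lrfl
theorem f7976 : Led Lsl_ct (LP (LK LD1_c4 LD2_c17 LD3_c37)) = (LP (LK LD1_c2 LD2_c6 LD3_c10)) :=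
  Lre_c IH (LK LD1_c4 LD2_c17 LD3_c37) (LK LD1_c2 LD2_c6 LD3_c10) Lrfl Lrfl
theorem f7971 : Led Lsl_dt (LP (LK LD1_c2 LD2_c6 LD3_c10)) = (LP (LK LD1_c2 LD2_c24 LD3_c43)) :=
  Lgr Lrot42 (Lpr_df (f7955 IH) (Lpn (LP (LK LD1_c2 LD2_c24 LD3_c43))))
theorem f200604 : Led Lsl_at (LP (LK LD1_c2 LD2_c6 LD3_c57)) = (LP (LK LD1_c1 LD2_c0 LD3_c27)) :=
  Lre_a IH (LK LD1_c2 LD2_c6 LD3_c57) (LK LD1_c1 LD2_c0 LD3_c27) Lrfl Lrfl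
theorem f200605 : Led Lsl_ct (LP (LK LD1_c2 LD2_c24 LD3_c43)) = (LP (LK LD1_c2 LD2_c6 LD3_c57)) :=
  Lgr Lrot111 (Lpe (f7954 IH) (Lpr_cf (K14.f200387 IH) (Lpe (f200604 IH) (Lpn (LP (LK LD1_c2 LD2_c6 LD3_c57))))))
theorem f222091 : Led Lsl_at (LP (LK LD1_c2 LD2_c23 LD3_c49)) = (LP (LK LD1_c1 LD2_c8 LD3_c59)) :=
  Lre_a IH (LK LD1_c2 LD2_c23 LD3_c49) (LK LD1_c1 LD2_c8 LD3_c59) Lrfl Lrfl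
theorem f200622 : Led Lsl_at (LP (LK LD1_c1 LD2_c0 LD3_c27)) = (LP (LK LD1_c2 LD2_c6 LD3_c57)) :=
  Lre_a IH (LK LD1_c1 LD2_c0 LD3_c27) (LK LD1_c2 LD2_c6 LD3_c57) Lrfl Lrfl
theorem f222106 : Led Lsl_df (LP (LK LD1_c2 LD2_c23 LD3_c49)) = (LP (LK LD1_c2 LD2_c6 LD3_c57)) :=
  Lgr Lrot18 (Lpr_at (f222091 IH) (Lpr_dt (K16.f222102 IH) (Lpr_at (f200622 IH) (Lpn (LP (LK LD1_c2 LD2_c6 LD3_c57))))))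
theorem f222113 : Led Lsl_ct (LP (LK LD1_c2 LD2_c23 LD3_c49)) = (LP (LK LD1_c4 LD2_c52 LD3_c6)) :=
  Lre_c IH (LK LD1_c2 LD2_c23 LD3_c49) (LK LD1_c4 LD2_c52 LD3_c6) Lrfl Lrfl
theorem f290109 : Led Lsl_df (LP (LK LD1_c8 LD2_c22 LD3_c45)) = (LP (LK LD1_c4 LD2_c52 LD3_c6)) :=
  Lgr Lrot177 (Lpr_ct (f170632 IH) (Lpe (f290095 IH) (Lpr_ff (f290096 IH) (Lpr_dt (f7975 IH) (Lpr_ct (f7976 IH) (Lpr_dt (f7971 IH) (Lpr_ct (f200605 IH) (Lpe (f222106 IH) (Lpr_ct (f222113 IH) (Lpn (LP (LK LD1_c4 LD2_c52 LD3_c6))))))))))))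
theorem f166988 : Led Lsl_at (LP (LK LD1_c4 LD2_c53 LD3_c29)) = (LP (LK LD1_c2 LD2_c24 LD3_c34)) :=
  Lre_a IH (LK LD1_c4 LD2_c53 LD3_c29) (LK LD1_c2 LD2_c24 LD3_c34) Lrfl Lrfl
theorem f290130 : Led Lsl_ff (LP (LK LD1_c4 LD2_c53 LD3_c29)) = (LP (LK LD1_c4 LD2_c52 LD3_c6)) :=
  Lgr Lrot103 (Lpr_at (f166988 IH) (Lpe (K16.f2860 IH) (Lpe (K14.f166576 IH) (Lpr_cf (K14.f200147 IH) (Lpe (K15.f170627 IH) (Lpe (K15.f170630 IH) (Lpe (f170631 IH) (Lpe (f170632 IH) (Lpr_df (f290109 IH) (Lpn (LP (LK LD1_c4 LD2_c52 LD3_c6))))))))))))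
theorem f290147 : Led Lsl_gf (LP (LK LD1_c4 LD2_c53 LD3_c31)) = (LP (LK LD1_c4 LD2_c52 LD3_c6)) :=
  Lgr Lrot47 (Lpr_gt (K16.f166635 IH) (Lpe (f166988 IH) (Lpr_ff (f290130 IH) (Lpn (LP (LK LD1_c4 LD2_c52 LD3_c6))))))
theorem f290149 : Led Lsl_gt (LP (LK LD1_c4 LD2_c21 LD3_c3)) = (LP (LK LD1_c4 LD2_c52 LD3_c6)) :=
  Lgr Lrot5 (Lpe (K16.f232428 IH) (Lpe (K16.f270645 IH) (Lpr_gf (f290147 IH) (Lpn (LP (LK LD1_c4 LD2_c52 LD3_c6))))))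
theorem f29014 : Led Lsl_ct (LP (LK LD1_c2 LD2_c8 LD3_c3)) = (LP (LK LD1_c4 LD2_c21 LD3_c3)) :=
  Lre_c IH (LK LD1_c2 LD2_c8 LD3_c3) (LK LD1_c4 LD2_c21 LD3_c3) Lrfl Lrfl
theorem f250822 : Led Lsl_dt (LP (LK LD1_c7 LD2_c55 LD3_c30)) = (LP (LK LD1_c14 LD2_c57 LD3_c4)) :=
  Lre_d IH (LK LD1_c7 LD2_c55 LD3_c30) (LK LD1_c14 LD2_c57 LD3_c4) Lrfl Lrfl
theorem f250823 : Led Lsl_gt (LP (LK LD1_c14 LD2_c57 LD3_c4)) = (LP (LK LD1_c8 LD2_c35 LD3_c57)) :=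
  Lgr Lrot49 (Lpe (f250822 IH) (Lpr_gf (K15.f250820 IH) (Lpe (K15.f250768 IH) (Lpr_gt (K14.f171508 IH) (Lpr_dt (K12.f171436 IH) (Lpr_gt (K10.f171482 IH) (Lpr_dt (K12.f171483 IH) (Lpe (K12.f188812 IH) (Lpe (K12.f188813 IH) (Lpn (LP (LK LD1_c8 LD2_c35 LD3_c57))))))))))))
theorem f250831 : Led Lsl_gf (LP (LK LD1_c14 LD2_c57 LD3_c4)) = (LP (LK LD1_c8 LD2_c13 LD3_c0)) :=
  Lgr Lrot47 (Lpr_gt (f250823 IH) (Lpe (f222861 IH) (Lpr_ff (K12.f222876 IH) (Lpn (LP (LK LD1_c8 LD2_c13 LD3_c0))))))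
theorem f229636 : Led Lsl_dt (LP (LK LD1_c14 LD2_c57 LD3_c4)) = (LP (LK LD1_c7 LD2_c55 LD3_c30)) :=
  Lre_d IH (LK LD1_c14 LD2_c57 LD3_c4) (LK LD1_c7 LD2_c55 LD3_c30) Lrfl Lrfl
theorem f229635 : Led Lsl_ct (LP (LK LD1_c7 LD2_c55 LD3_c30)) = (LP (LK LD1_c3 LD2_c56 LD3_c56)) :=
  Lre_c IH (LK LD1_c7 LD2_c55 LD3_c30) (LK LD1_c3 LD2_c56 LD3_c56) Lrfl Lrfl
theorem f250834 : Led Lsl_gf (LP (LK LD1_c2 LD2_c8 LD3_c3)) = (LP (LK LD1_c2 LD2_c5 LD3_c28)) :=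
  Lgr Lrot144 (Lpr_dt (K13.f29018 IH) (Lpr_gt (K12.f229627 IH) (Lpr_dt (K14.f229634 IH) (Lpe (f229635 IH) (Lpe (f229636 IH) (Lpr_gf (f250831 IH) (Lpe (K12.f44502 IH) (Lpr_gf (K12.f221805 IH) (Lpe (K12.f51490 IH) (Lpn (LP (LK LD1_c2 LD2_c5 LD3_c28))))))))))))
theorem f222116 : Led Lsl_ct (LP (LK LD1_c4 LD2_c52 LD3_c6)) = (LP (LK LD1_c2 LD2_c23 LD3_c49)) :=
  Lre_c IH (LK LD1_c4 LD2_c52 LD3_c6) (LK LD1_c2 LD2_c23 LD3_c49) Lrfl Lrfl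
theorem f290155 : Led Lsl_gt (LP (LK LD1_c1 LD2_c15 LD3_c30)) = (LP (LK LD1_c2 LD2_c24 LD3_c43)) :=
  Lgr Lrot150 (Lpe (f169147 IH) (Lpr_gf (K14.f251036 IH) (Lpr_df (K16.f254515 IH) (Lpe (f250834 IH) (Lpr_ct (f29014 IH) (Lpr_gt (f290149 IH) (Lpr_ct (f222116 IH) (Lpr_df (f222106 IH) (Lpe (f200605 IH) (Lpn (LP (LK LD1_c2 LD2_c24 LD3_c43))))))))))))
theorem f42503 : Led Lsl_ct (LP (LK LD1_c2 LD2_c58 LD3_c23)) = (LP (LK LD1_c6 LD2_c4 LD3_c23)) :=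
  Lre_c IH (LK LD1_c2 LD2_c58 LD3_c23) (LK LD1_c6 LD2_c4 LD3_c23) Lrfl Lrfl
theorem f284104 : Led Lsl_gf (LP (LK LD1_c2 LD2_c58 LD3_c23)) = (LP (LK LD1_c5 LD2_c19 LD3_c55)) :=
  Lgr Lrot147 (Lpr_ct (f42503 IH) (Lpr_gt (K16.f42599 IH) (Lpe (K16.f273911 IH) (Lpr_df (K14.f192266 IH) (Lpr_cf (K15.f194186 IH) (Lpe (K16.f257038 IH) (Lpr_cf (K9.f171891 IH) (Lpr_gf (f284094 IH) (Lpe (f274437 IH) (Lpn (LP (LK LD1_c5 LD2_c19 LD3_c55))))))))))))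
theorem f290164 : Led Lsl_et (LP (LK LD1_c2 LD2_c36 LD3_c38)) = (LP (LK LD1_c2 LD2_c24 LD3_c43)) :=
  Lgr Lrot122 (Lpr_dt (f256248 IH) (Lpe (f284104 IH) (Lpe (K10.f41785 IH) (Lpe (K10.f42555 IH) (Lpe (K16.f246374 IH) (Lpr_dt (K12.f187022 IH) (Lpr_gt (K13.f226909 IH) (Lpe (K12.f167817 IH) (Lpr_et (K14.f167821 IH) (Lpr_gt (f290155 IH) (Lpn (LP (LK LD1_c2 LD2_c24 LD3_c43)))))))))))))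
theorem f283268 : Led Lsl_at (LP (LK LD1_c0 LD2_c35 LD3_c17)) = (LP (LK LD1_c1 LD2_c15 LD3_c30)) :=
  Lgr Lrot26 (Lpe (f283263 IH) (Lpr_gt (f283266 IH) (Lpe (K16.f258313 IH) (Lpn (LP (LK LD1_c1 LD2_c15 LD3_c30))))))
theorem f283298 : Led Lsl_af (LP (LK LD1_c1 LD2_c16 LD3_c11)) = (LP (LK LD1_c2 LD2_c24 LD3_c42)) :=
  Lgr Lrot45 (Lpr_ft (f283263 IH) (Lpr_at (f283268 IH) (Lpr_ft (f283294 IH) (Lpn (LP (LK LD1_c2 LD2_c24 LD3_c42))))))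
theorem f290162 : Led Lsl_gf (LP (LK LD1_c1 LD2_c16 LD3_c11)) = (LP (LK LD1_c2 LD2_c24 LD3_c43)) :=
  Lgr Lrot76 (Lpr_af (f283298 IH) (Lpe (f283294 IH) (Lpr_gt (f290155 IH) (Lpn (LP (LK LD1_c2 LD2_c24 LD3_c43))))))
theorem f290168 : Led Lsl_df (LP (LK LD1_c2 LD2_c5 LD3_c42)) = (LP (LK LD1_c1 LD2_c16 LD3_c11)) :=
  Lgr Lrot135 (Lpr_gt (K14.f169423 IH) (Lpe (K14.f169415 IH) (Lpr_et (K10.f169378 IH) (Lpr_gt (K14.f169407 IH) (Lpe (K15.f264899 IH) (Lpr_dt (K15.f22403 IH) (Lpr_gt (f290037 IH) (Lpe (f256248 IH) (Lpr_et (f290164 IH) (Lpe (f290162 IH) (Lpn (LP (LK LD1_c1 LD2_c16 LD3_c11)))))))))))))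
theorem f290185 : Led Lsl_ct (LP (LK LD1_c4 LD2_c16 LD3_c51)) = (LP (LK LD1_c7 LD2_c56 LD3_c5)) :=
  Lgr Lrot110 (Lpe (K14.f170261 IH) (Lpe (K14.f184240 IH) (Lpe (K14.f169423 IH) (Lpr_df (f290168 IH) (Lpr_gt (f283266 IH) (Lpe (K14.f200147 IH) (Lpr_gt (K15.f51584 IH) (Lpe (K15.f257964 IH) (Lpe (f229580 IH) (Lpn (LP (LK LD1_c7 LD2_c56 LD3_c5))))))))))))
theorem f229255 : Led Lsl_df (LP (LK LD1_c2 LD2_c45 LD3_c38)) = (LP (LK LD1_c2 LD2_c24 LD3_c19)) :=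
  Lgr Lrot12 (Lpr_bt (K14.f165225 IH) (Lpr_dt (K12.f229253 IH) (Lpr_bt (f199831 IH) (Lpn (LP (LK LD1_c2 LD2_c24 LD3_c19))))))
theorem f170639 : Led Lsl_dt (LP (LK LD1_c2 LD2_c2 LD3_c58)) = (LP (LK LD1_c4 LD2_c11 LD3_c29)) :=
  Lre_d IH (LK LD1_c2 LD2_c2 LD3_c58) (LK LD1_c4 LD2_c11 LD3_c29) Lrfl Lrfl
theorem f192021 : Led Lsl_gt (LP (LK LD1_c4 LD2_c11 LD3_c29)) = (LP (LK LD1_c8 LD2_c22 LD3_c43)) :=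
  Lre_g IH (LK LD1_c4 LD2_c11 LD3_c29) (LK LD1_c8 LD2_c22 LD3_c43) Lrfl Lrfl
theorem f290192 : Led Lsl_df (LP (LK LD1_c4 LD2_c16 LD3_c51)) = (LP (LK LD1_c8 LD2_c22 LD3_c43)) :=
  Lgr Lrot174 (Lpr_ct (f290185 IH) (Lpr_df (K14.f229500 IH) (Lpe (f259253 IH) (Lpr_df (f229255 IH) (Lpr_gf (K12.f219453 IH) (Lpr_ct (K15.f256051 IH) (Lpr_gt (K15.f167007 IH) (Lpr_dt (f170639 IH) (Lpr_gt (f192021 IH) (Lpn (LP (LK LD1_c8 LD2_c22 LD3_c43))))))))))))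
theorem f290201 : Led Lsl_dt (LP (LK LD1_c4 LD2_c16 LD3_c51)) = (LP (LK LD1_c8 LD2_c22 LD3_c43)) :=
  Lgr Lrot42 (Lpr_df (f290192 IH) (Lpn (LP (LK LD1_c8 LD2_c22 LD3_c43))))
theorem f232824 : Led Lsl_ct (LP (LK LD1_c2 LD2_c5 LD3_c42)) = (LP (LK LD1_c4 LD2_c16 LD3_c49)) :=
  Lre_c IH (LK LD1_c2 LD2_c5 LD3_c42) (LK LD1_c4 LD2_c16 LD3_c49) Lrfl Lrfl
theorem f251829 : Led Lsl_dt (LP (LK LD1_c8 LD2_c32 LD3_c59)) = (LP (LK LD1_c4 LD2_c16 LD3_c49)) :=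
  Lre_d IH (LK LD1_c8 LD2_c32 LD3_c59) (LK LD1_c4 LD2_c16 LD3_c49) Lrfl Lrfl
theorem f251828 : Led Lsl_bt (LP (LK LD1_c2 LD2_c5 LD3_c42)) = (LP (LK LD1_c4 LD2_c16 LD3_c48)) :=
  Lre_b IH (LK LD1_c2 LD2_c5 LD3_c42) (LK LD1_c4 LD2_c16 LD3_c48) Lrfl Lrfl
theorem f251830 : Led Lsl_gf (LP (LK LD1_c4 LD2_c16 LD3_c49)) = (LP (LK LD1_c4 LD2_c22 LD3_c40)) :=
  Lgr Lrot126 (Lpe (f232824 IH) (Lpr_bt (f251828 IH) (Lpr_gt (K14.f251816 IH) (Lpr_ct (K14.f186922 IH) (Lpe (K14.f246781 IH) (Lpe (K13.f2080 IH) (Lpe (K14.f199191 IH) (Lpr_gt (K12.f224877 IH) (Lpe (K14.f224884 IH) (Lpr_ct (K14.f211428 IH) (Lpn (LP (LK LD1_c4 LD2_c22 LD3_c40)))))))))))))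
theorem f251834 : Led Lsl_dt (LP (LK LD1_c4 LD2_c16 LD3_c49)) = (LP (LK LD1_c8 LD2_c32 LD3_c59)) :=
  Lre_d IH (LK LD1_c4 LD2_c16 LD3_c49) (LK LD1_c8 LD2_c32 LD3_c59) Lrfl Lrfl
theorem f187063 : Led Lsl_dt (LP (LK LD1_c4 LD2_c18 LD3_c50)) = (LP (LK LD1_c2 LD2_c6 LD3_c41)) :=
  Lre_d IH (LK LD1_c4 LD2_c18 LD3_c50) (LK LD1_c2 LD2_c6 LD3_c41) Lrfl Lrfl
theorem f258360 : Led Lsl_dt (LP (LK LD1_c4 LD2_c18 LD3_c47)) = (LP (LK LD1_c8 LD2_c36 LD3_c15)) :=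
  Lre_d IH (LK LD1_c4 LD2_c18 LD3_c47) (LK LD1_c8 LD2_c36 LD3_c15) Lrfl Lrfl
theorem f287742 : Led Lsl_cf (LP (LK LD1_c8 LD2_c32 LD3_c59)) = (LP (LK LD1_c8 LD2_c36 LD3_c15)) :=
  Lgr Lrot14 (Lpe (f251834 IH) (Lpr_gf (f251830 IH) (Lpe (K15.f219452 IH) (Lpe (K15.f258411 IH) (Lpr_ct (f287732 IH) (Lpr_gt (f232211 IH) (Lpr_dt (f187063 IH) (Lpr_gt (K16.f250775 IH) (Lpr_dt (f258360 IH) (Lpn (LP (LK LD1_c8 LD2_c36 LD3_c15))))))))))))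
theorem f42072 : Led Lsl_at (LP (LK LD1_c2 LD2_c58 LD3_c20)) = (LP (LK LD1_c2 LD2_c8 LD3_c3)) :=
  Lgr Lrot100 (Lpr_af (K1.f42070 IH) (Lpn (LP (LK LD1_c2 LD2_c8 LD3_c3))))
theorem f270674 : Led Lsl_gf (LP (LK LD1_c2 LD2_c5 LD3_c28)) = (LP (LK LD1_c4 LD2_c10 LD3_c36)) :=
  Lgr Lrot47 (Lpe (f250834 IH) (Lpe (f42072 IH) (Lpr_ff (K16.f270663 IH) (Lpn (LP (LK LD1_c4 LD2_c10 LD3_c36))))))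
theorem f258336 : Led Lsl_ct (LP (LK LD1_c4 LD2_c21 LD3_c38)) = (LP (LK LD1_c4 LD2_c18 LD3_c47)) :=
  Lgr Lrot59 (Lpr_cf (K16.f258318 IH) (Lpn (LP (LK LD1_c4 LD2_c18 LD3_c47))))
theorem f258338 : Led Lsl_dt (LP (LK LD1_c8 LD2_c36 LD3_c15)) = (LP (LK LD1_c4 LD2_c18 LD3_c47)) :=
  Lre_d IH (LK LD1_c8 LD2_c36 LD3_c15) (LK LD1_c4 LD2_c18 LD3_c47) Lrfl Lrfl
theorem f166987 : Led Lsl_dt (LP (LK LD1_c2 LD2_c24 LD3_c34)) = (LP (LK LD1_c4 LD2_c53 LD3_c32)) :=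
  Lre_d IH (LK LD1_c2 LD2_c24 LD3_c34) (LK LD1_c4 LD2_c53 LD3_c32) Lrfl Lrfl
theorem f270676 : Led Lsl_gf (LP (LK LD1_c8 LD2_c36 LD3_c15)) = (LP (LK LD1_c4 LD2_c53 LD3_c32)) :=
  Lgr Lrot143 (Lpr_dt (f258338 IH) (Lpe (f258336 IH) (Lpr_df (K14.f251038 IH) (Lpr_gf (K14.f251036 IH) (Lpr_df (K16.f254515 IH) (Lpr_gf (f270674 IH) (Lpe (K16.f270657 IH) (Lpr_gt (K16.f166635 IH) (Lpr_dt (f166987 IH) (Lpn (LP (LK LD1_c4 LD2_c53 LD3_c32))))))))))))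
theorem f290210 : Led Lsl_gf (LP (LK LD1_c8 LD2_c34 LD3_c13)) = (LP (LK LD1_c8 LD2_c22 LD3_c43)) :=
  Lgr Lrot143 (Lpr_dt (f7975 IH) (Lpe (f7969 IH) (Lpr_df (f7955 IH) (Lpe (f290155 IH) (Lpe (K16.f184249 IH) (Lpe (K14.f169420 IH) (Lpe (K14.f167767 IH) (Lpr_gt (K14.f170261 IH) (Lpr_dt (f290201 IH) (Lpn (LP (LK LD1_c8 LD2_c22 LD3_c43))))))))))))
theorem f290216 : Led Lsl_cf (LP (LK LD1_c4 LD2_c53 LD3_c32)) = (LP (LK LD1_c8 LD2_c34 LD3_c13)) :=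
  Lgr Lrot188 (Lpe (f270676 IH) (Lpe (f287742 IH) (Lpr_dt (f251829 IH) (Lpe (f232824 IH) (Lpr_gf (K14.f251874 IH) (Lpe (K14.f251888 IH) (Lpr_gf (K14.f252066 IH) (Lpr_dt (f290201 IH) (Lpe (f290210 IH) (Lpn (LP (LK LD1_c8 LD2_c34 LD3_c13))))))))))))
theorem f256800 : Led Lsl_gf (LP (LK LD1_c0 LD2_c58 LD3_c12)) = (LP (LK LD1_c0 LD2_c59 LD3_c50)) :=
  Lgr Lrot47 (Lpr_gt (K15.f256798 IH) (Lpe (K1.f42034 IH) (Lpe (K13.f232242 IH) (Lpn (LP (LK LD1_c0 LD2_c59 LD3_c50))))))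
theorem f258361 : Led Lsl_gf (LP (LK LD1_c4 LD2_c12 LD3_c58)) = (LP (LK LD1_c4 LD2_c18 LD3_c47)) :=
  Lgr Lrot104 (Lpr_ct (K14.f251939 IH) (Lpe (K14.f251906 IH) (Lpr_cf (K14.f228919 IH) (Lpr_gf (f256800 IH) (Lpe (K13.f187073 IH) (Lpr_gf (K14.f232310 IH) (Lpe (K14.f49019 IH) (Lpe (K14.f251047 IH) (Lpr_ct (f258336 IH) (Lpn (LP (LK LD1_c4 LD2_c18 LD3_c47))))))))))))
theorem f187069 : Led Lsl_gt (LP (LK LD1_c4 LD2_c16 LD3_c52)) = (LP (LK LD1_c2 LD2_c5 LD3_c43)) :=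
  Lre_g IH (LK LD1_c4 LD2_c16 LD3_c52) (LK LD1_c2 LD2_c5 LD3_c43) Lrfl Lrfl
theorem f290228 : Led Lsl_df (LP (LK LD1_c4 LD2_c16 LD3_c52)) = (LP (LK LD1_c8 LD2_c22 LD3_c44)) :=
  Lgr Lrot153 (Lpr_gt (f187069 IH) (Lpr_dt (K14.f187064 IH) (Lpr_cf (K14.f251909 IH) (Lpe (K14.f251908 IH) (Lpr_gf (f258361 IH) (Lpe (f258338 IH) (Lpr_gf (f270676 IH) (Lpr_cf (f290216 IH) (Lpe (f290088 IH) (Lpn (LP (LK LD1_c8 LD2_c22 LD3_c44))))))))))))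
theorem f219154 : Led Lsl_ft (LP (LK LD1_c1 LD2_c15 LD3_c35)) = (LP (LK LD1_c2 LD2_c2 LD3_c12)) :=
  Lgr Lrot4 (Lpe (K9.f41896 IH) (Lpr_ff (K12.f219142 IH) (Lpe (K12.f170851 IH) (Lpn (LP (LK LD1_c2 LD2_c2 LD3_c12))))))
theorem f219138 : Led Lsl_af (LP (LK LD1_c2 LD2_c5 LD3_c58)) = (LP (LK LD1_c2 LD2_c2 LD3_c12)) :=
  Lgr Lrot68 (Lpr_ct (K11.f199770 IH) (Lpr_at (K12.f219129 IH) (Lpr_ct (K12.f219132 IH) (Lpn (LP (LK LD1_c2 LD2_c2 LD3_c12))))))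
theorem f288860 : Led Lsl_gt (LP (LK LD1_c2 LD2_c2 LD3_c48)) = (LP (LK LD1_c2 LD2_c5 LD3_c58)) :=
  Lgr Lrot46 (Lpr_gf (f288852 IH) (Lpr_ft (f219154 IH) (Lpe (f219138 IH) (Lpn (LP (LK LD1_c2 LD2_c5 LD3_c58))))))
theorem f290078 : Led Lsl_gt (LP (LK LD1_c4 LD2_c11 LD3_c26)) = (LP (LK LD1_c4 LD2_c17 LD3_c37)) :=
  Lgr Lrot149 (Lpe (K11.f191974 IH) (Lpe (K14.f219534 IH) (Lpe (f199831 IH) (Lpe (K13.f187088 IH) (Lpe (K13.f39038 IH) (Lpe (K1.f38944 IH) (Lpr_bt (K11.f199822 IH) (Lpe (f288860 IH) (Lpr_bf (f290067 IH) (Lpr_ct (f7969 IH) (Lpn (LP (LK LD1_c4 LD2_c17 LD3_c37)))))))))))))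
theorem f191977 : Led Lsl_cf (LP (LK LD1_c4 LD2_c6 LD3_c9)) = (LP (LK LD1_c4 LD2_c11 LD3_c26)) :=
  Lgr Lrot11 (Lpr_ct (K11.f191974 IH) (Lpn (LP (LK LD1_c4 LD2_c11 LD3_c26))))
theorem f267603 : Led Lsl_ct (LP (LK LD1_c8 LD2_c36 LD3_c5)) = (LP (LK LD1_c8 LD2_c22 LD3_c44)) :=
  Lgr Lrot8 (Lpr_gt (f267598 IH) (Lpr_dt (K16.f222015 IH) (Lpr_gt (f257918 IH) (Lpr_dt (f222157 IH) (Lpe (f262667 IH) (Lpr_df (K15.f262672 IH) (Lpe (K11.f53366 IH) (Lpe (f170631 IH) (Lpe (f170642 IH) (Lpn (LP (LK LD1_c8 LD2_c22 LD3_c44))))))))))))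
theorem f271165 : Led Lsl_df (LP (LK LD1_c2 LD2_c6 LD3_c39)) = (LP (LK LD1_c2 LD2_c3 LD3_c59)) :=
  Lgr Lrot153 (Lpr_gt (K16.f271161 IH) (Lpr_dt (K14.f252068 IH) (Lpr_cf (K14.f228919 IH) (Lpe (K14.f251891 IH) (Lpr_gf (K15.f258310 IH) (Lpr_df (K14.f184244 IH) (Lpr_gf (K16.f258313 IH) (Lpe (K11.f200140 IH) (Lpr_gt (K15.f51584 IH) (Lpn (LP (LK LD1_c2 LD2_c3 LD3_c59))))))))))))
theorem f243281 : Led Lsl_dt (LP (LK LD1_c8 LD2_c30 LD3_c49)) = (LP (LK LD1_c4 LD2_c15 LD3_c54)) :=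
  Lre_d IH (LK LD1_c8 LD2_c30 LD3_c49) (LK LD1_c4 LD2_c15 LD3_c54) Lrfl Lrfl
theorem f270724 : Led Lsl_gt (LP (LK LD1_c8 LD2_c35 LD3_c57)) = (LP (LK LD1_c8 LD2_c30 LD3_c49)) :=
  Lgr Lrot49 (Lpe (K12.f188828 IH) (Lpr_gf (K13.f232895 IH) (Lpe (K13.f43211 IH) (Lpr_gt (K16.f270720 IH) (Lpr_dt (f191835 IH) (Lpr_gt (K16.f266255 IH) (Lpr_dt (K13.f220640 IH) (Lpe (K15.f179690 IH) (Lpe (f243281 IH) (Lpn (LP (LK LD1_c8 LD2_c30 LD3_c49))))))))))))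
theorem f243259 : Led Lsl_bf (LP (LK LD1_c2 LD2_c5 LD3_c10)) = (LP (LK LD1_c2 LD2_c1 LD3_c41)) :=
  Lgr Lrot34 (Lpe (K15.f761 IH) (Lpr_bf (K13.f243192 IH) (Lpr_ct (K13.f216695 IH) (Lpe (K13.f182345 IH) (Lpr_cf (K13.f182346 IH) (Lpe (K13.f168527 IH) (Lpr_bf (K12.f168357 IH) (Lpr_ct (K12.f168361 IH) (Lpr_gf (K13.f216850 IH) (Lpe (K13.f216849 IH) (Lpn (LP (LK LD1_c2 LD2_c1 LD3_c41)))))))))))))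
theorem f250818 : Led Lsl_gt (LP (LK LD1_c4 LD2_c15 LD3_c54)) = (LP (LK LD1_c4 LD2_c18 LD3_c45)) :=
  Lgr Lrot65 (Lpe (K13.f179604 IH) (Lpr_bt (K13.f179605 IH) (Lpe (K15.f243355 IH) (Lpr_bf (f243259 IH) (Lpr_ct (K13.f216849 IH) (Lpr_gf (K13.f220491 IH) (Lpe (K14.f219951 IH) (Lpe (K14.f234655 IH) (Lpr_bf (K14.f250766 IH) (Lpr_ct (K15.f250768 IH) (Lpn (LP (LK LD1_c4 LD2_c18 LD3_c45)))))))))))))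
theorem f250825 : Led Lsl_dt (LP (LK LD1_c4 LD2_c18 LD3_c45)) = (LP (LK LD1_c8 LD2_c36 LD3_c10)) :=
  Lre_d IH (LK LD1_c4 LD2_c18 LD3_c45) (LK LD1_c8 LD2_c36 LD3_c10) Lrfl Lrfl
theorem f290212 : Led Lsl_ct (LP (LK LD1_c8 LD2_c36 LD3_c10)) = (LP (LK LD1_c8 LD2_c22 LD3_c43)) :=
  Lgr Lrot7 (Lpe (f250825 IH) (Lpe (f250818 IH) (Lpe (f243281 IH) (Lpe (f270724 IH) (Lpr_cf (f287748 IH) (Lpr_gt (f167769 IH) (Lpr_dt (K14.f167768 IH) (Lpr_gt (K14.f170261 IH) (Lpr_dt (f290201 IH) (Lpn (LP (LK LD1_c8 LD2_c22 LD3_c43))))))))))))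
theorem f189118 : Led Lsl_bt (LP (LK LD1_c2 LD2_c7 LD3_c9)) = (LP (LK LD1_c4 LD2_c19 LD3_c27)) :=
  Lre_b IH (LK LD1_c2 LD2_c7 LD3_c9) (LK LD1_c4 LD2_c19 LD3_c27) Lrfl Lrfl
theorem f278200 : Led Lsl_dt (LP (LK LD1_c4 LD2_c19 LD3_c27)) = (LP (LK LD1_c4 LD2_c12 LD3_c53)) :=
  Lgr Lrot79 (Lpe (f189118 IH) (Lpr_df (K16.f278198 IH) (Lpe (K14.f53334 IH) (Lpn (LP (LK LD1_c4 LD2_c12 LD3_c53))))))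
theorem f290237 : Led Lsl_ct (LP (LK LD1_c4 LD2_c16 LD3_c52)) = (LP (LK LD1_c4 LD2_c19 LD3_c27)) :=
  Lgr Lrot176 (Lpr_df (f290228 IH) (Lpe (f267603 IH) (Lpe (f267597 IH) (Lpe (K13.f179602 IH) (Lpr_df (f271165 IH) (Lpe (f257968 IH) (Lpe (f229580 IH) (Lpe (f290185 IH) (Lpr_df (f290192 IH) (Lpe (f290212 IH) (Lpe (f250825 IH) (Lpe (K15.f250768 IH) (Lpe (K14.f251683 IH) (Lpr_cf (K14.f200352 IH) (Lpe (f278200 IH) (Lpn (LP (LK LD1_c4 LD2_c19 LD3_c27))))))))))))))))))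
theorem f290242 : Led Lsl_df (LP (LK LD1_c4 LD2_c19 LD3_c27)) = (LP (LK LD1_c4 LD2_c12 LD3_c53)) :=
  Lgr Lrot84 (Lpe (f290237 IH) (Lpr_df (f290228 IH) (Lpr_gf (f290088 IH) (Lpe (f7970 IH) (Lpe (f290078 IH) (Lpe (K11.f191974 IH) (Lpe (K14.f256038 IH) (Lpr_dt (K15.f257941 IH) (Lpe (K15.f257937 IH) (Lpn (LP (LK LD1_c4 LD2_c12 LD3_c53))))))))))))
theorem f290244 : Led Lsl_cf (LP (LK LD1_c4 LD2_c16 LD3_c52)) = (LP (LK LD1_c4 LD2_c19 LD3_c27)) :=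
  Lgr Lrot14 (Lpr_df (f290228 IH) (Lpr_gf (f290088 IH) (Lpe (f7970 IH) (Lpe (f290078 IH) (Lpe (f191977 IH) (Lpe (K14.f256038 IH) (Lpr_dt (K15.f257941 IH) (Lpe (K15.f257937 IH) (Lpe (f290242 IH) (Lpn (LP (LK LD1_c4 LD2_c19 LD3_c27))))))))))))
theorem f290246 : Led Lsl_bt (LP (LK LD1_c4 LD2_c19 LD3_c27)) = (LP (LK LD1_c2 LD2_c7 LD3_c9)) :=
  Lre_b IH (LK LD1_c4 LD2_c19 LD3_c27) (LK LD1_c2 LD2_c7 LD3_c9) Lrfl Lrfl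
theorem f251949 : Led Lsl_ff (LP (LK LD1_c2 LD2_c6 LD3_c37)) = (LP (LK LD1_c2 LD2_c3 LD3_c46)) :=
  Lgr Lrot23 (Lpr_ct (K14.f246655 IH) (Lpr_ft (K14.f251935 IH) (Lpr_ct (K14.f251939 IH) (Lpn (LP (LK LD1_c2 LD2_c3 LD3_c46))))))
theorem f267205 : Led Lsl_bf (LP (LK LD1_c2 LD2_c3 LD3_c21)) = (LP (LK LD1_c2 LD2_c6 LD3_c37)) :=
  Lgr Lrot61 (Lpr_ft (K15.f267195 IH) (Lpr_bt (K15.f261112 IH) (Lpe (f251949 IH) (Lpn (LP (LK LD1_c2 LD2_c6 LD3_c37))))))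
theorem f290257 : Led Lsl_gf (LP (LK LD1_c4 LD2_c16 LD3_c52)) = (LP (LK LD1_c4 LD2_c10 LD3_c39)) :=
  Lgr Lrot129 (Lpr_cf (f290244 IH) (Lpr_bt (f290246 IH) (Lpr_gt (K16.f278206 IH) (Lpr_bf (f267205 IH) (Lpr_ct (K14.f246655 IH) (Lpr_gt (K15.f251953 IH) (Lpr_cf (K15.f184300 IH) (Lpe (K15.f184293 IH) (Lpe (K15.f258310 IH) (Lpr_ct (K14.f251890 IH) (Lpn (LP (LK LD1_c4 LD2_c10 LD3_c39)))))))))))))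
theorem f290239 : Led Lsl_dt (LP (LK LD1_c4 LD2_c16 LD3_c52)) = (LP (LK LD1_c8 LD2_c22 LD3_c44)) :=
  Lgr Lrot42 (Lpr_df (f290228 IH) (Lpn (LP (LK LD1_c8 LD2_c22 LD3_c44))))
theorem f251925 : Led Lsl_gt (LP (LK LD1_c4 LD2_c16 LD3_c54)) = (LP (LK LD1_c8 LD2_c33 LD3_c9)) :=
  Lre_g IH (LK LD1_c4 LD2_c16 LD3_c54) (LK LD1_c8 LD2_c33 LD3_c9) Lrfl Lrfl
theorem f252013 : Led Lsl_gf (LP (LK LD1_c8 LD2_c21 LD3_c16)) = (LP (LK LD1_c8 LD2_c33 LD3_c9)) :=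
  Lgr Lrot76 (Lpe (K14.f251982 IH) (Lpr_ff (K14.f251995 IH) (Lpr_gt (f251925 IH) (Lpn (LP (LK LD1_c8 LD2_c33 LD3_c9))))))
theorem f290261 : Led Lsl_cf (LP (LK LD1_c8 LD2_c13 LD3_c0)) = (LP (LK LD1_c8 LD2_c33 LD3_c9)) :=
  Lgr Lrot166 (Lpe (f250831 IH) (Lpr_dt (f229636 IH) (Lpe (f267594 IH) (Lpr_dt (f267597 IH) (Lpr_ct (f267603 IH) (Lpe (f290239 IH) (Lpr_gf (f290257 IH) (Lpe (K14.f251916 IH) (Lpr_gf (f252013 IH) (Lpn (LP (LK LD1_c8 LD2_c33 LD3_c9))))))))))))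
theorem f167279 : Led Lsl_bf (LP (LK LD1_c4 LD2_c16 LD3_c26)) = (LP (LK LD1_c2 LD2_c23 LD3_c17)) :=
  Lgr Lrot24 (Lpr_bt (K9.f167277 IH) (Lpn (LP (LK LD1_c2 LD2_c23 LD3_c17))))
theorem f170231 : Led Lsl_gt (LP (LK LD1_c2 LD2_c6 LD3_c11)) = (LP (LK LD1_c4 LD2_c17 LD3_c39)) :=
  Lre_g IH (LK LD1_c2 LD2_c6 LD3_c11) (LK LD1_c4 LD2_c17 LD3_c39) Lrfl Lrfl
theorem f188807 : Led Lsl_ct (LP (LK LD1_c4 LD2_c18 LD3_c36)) = (LP (LK LD1_c4 LD2_c17 LD3_c39)) :=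
  Lgr Lrot63 (Lpr_bt (K10.f188799 IH) (Lpe (K10.f188731 IH) (Lpr_bf (f167279 IH) (Lpr_ct (K13.f33320 IH) (Lpr_gt (K13.f184371 IH) (Lpe (K1.f29078 IH) (Lpe (K14.f29075 IH) (Lpe (K14.f184378 IH) (Lpr_ct (K16.f7985 IH) (Lpr_gt (f170231 IH) (Lpn (LP (LK LD1_c4 LD2_c17 LD3_c39)))))))))))))
theorem f290267 : Led Lsl_dt (LP (LK LD1_c4 LD2_c17 LD3_c39)) = (LP (LK LD1_c8 LD2_c33 LD3_c9)) :=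
  Lgr Lrot173 (Lpe (f188807 IH) (Lpe (K10.f188773 IH) (Lpe (K12.f188696 IH) (Lpe (K12.f188770 IH) (Lpe (K12.f188812 IH) (Lpe (K12.f188813 IH) (Lpr_cf (f287748 IH) (Lpe (f287758 IH) (Lpr_cf (K16.f270890 IH) (Lpe (K12.f44496 IH) (Lpe (K10.f44487 IH) (Lpe (K10.f44493 IH) (Lpe (K12.f44494 IH) (Lpe (f44495 IH) (Lpr_cf (f290261 IH) (Lpn (LP (LK LD1_c8 LD2_c33 LD3_c9))))))))))))))))))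
theorem f188810 : Led Lsl_cf (LP (LK LD1_c4 LD2_c18 LD3_c36)) = (LP (LK LD1_c4 LD2_c17 LD3_c39)) :=
  Lgr Lrot11 (Lpr_ct (f188807 IH) (Lpn (LP (LK LD1_c4 LD2_c17 LD3_c39))))
theorem f191979 : Led Lsl_ff (LP (LK LD1_c4 LD2_c17 LD3_c39)) = (LP (LK LD1_c4 LD2_c11 LD3_c26)) :=
  Lgr Lrot23 (Lpe (f188810 IH) (Lpr_ft (K10.f188834 IH) (Lpr_ct (K11.f191974 IH) (Lpn (LP (LK LD1_c4 LD2_c11 LD3_c26))))))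
theorem f191985 : Led Lsl_ft (LP (LK LD1_c4 LD2_c17 LD3_c39)) = (LP (LK LD1_c4 LD2_c11 LD3_c26)) :=
  Lgr Lrot48 (Lpr_ff (f191979 IH) (Lpn (LP (LK LD1_c4 LD2_c11 LD3_c26))))
theorem f290273 : Led Lsl_af (LP (LK LD1_c4 LD2_c17 LD3_c40)) = (LP (LK LD1_c4 LD2_c11 LD3_c26)) :=
  Lgr Lrot109 (Lpr_cf (K16.f270890 IH) (Lpe (K12.f44496 IH) (Lpe (K10.f44487 IH) (Lpe (K10.f44493 IH) (Lpe (K12.f44494 IH) (Lpe (f44495 IH) (Lpr_cf (f290261 IH) (Lpe (f290267 IH) (Lpr_ft (f191985 IH) (Lpn (LP (LK LD1_c4 LD2_c11 LD3_c26))))))))))))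
theorem f290279 : Led Lsl_at (LP (LK LD1_c8 LD2_c33 LD3_c10)) = (LP (LK LD1_c8 LD2_c21 LD3_c28)) :=
  Lgr Lrot51 (Lpe (f287758 IH) (Lpr_af (f290273 IH) (Lpr_df (K15.f246767 IH) (Lpn (LP (LK LD1_c8 LD2_c21 LD3_c28))))))
theorem f167217 : Led Lsl_gt (LP (LK LD1_c8 LD2_c21 LD3_c29)) = (LP (LK LD1_c4 LD2_c10 LD3_c47)) :=
  Lre_g IH (LK LD1_c8 LD2_c21 LD3_c29) (LK LD1_c4 LD2_c10 LD3_c47) Lrfl Lrfl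
theorem f290283 : Led Lsl_ff (LP (LK LD1_c8 LD2_c33 LD3_c10)) = (LP (LK LD1_c8 LD2_c21 LD3_c29)) :=
  Lgr Lrot52 (Lpr_at (f290279 IH) (Lpe (K15.f167108 IH) (Lpe (f167217 IH) (Lpn (LP (LK LD1_c8 LD2_c21 LD3_c29))))))
theorem f290293 : Led Lsl_ft (LP (LK LD1_c8 LD2_c33 LD3_c10)) = (LP (LK LD1_c8 LD2_c21 LD3_c29)) :=
  Lgr Lrot48 (Lpr_ff (f290283 IH) (Lpn (LP (LK LD1_c8 LD2_c21 LD3_c29))))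
theorem f290301 : Led Lsl_af (LP (LK LD1_c8 LD2_c33 LD3_c9)) = (LP (LK LD1_c8 LD2_c21 LD3_c29)) :=
  Lgr Lrot31 (Lpe (f251925 IH) (Lpe (f167769 IH) (Lpr_ft (f290293 IH) (Lpn (LP (LK LD1_c8 LD2_c21 LD3_c29))))))
theorem f290305 : Led Lsl_et (LP (LK LD1_c8 LD2_c33 LD3_c9)) = (LP (LK LD1_c16 LD2_c3 LD3_c15)) :=
  Lre_e IH (LK LD1_c8 LD2_c33 LD3_c9) (LK LD1_c16 LD2_c3 LD3_c15) Lrfl Lrfl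
theorem f200599 : Led Lsl_et (LP (LK LD1_c15 LD2_c43 LD3_c44)) = (LP (LK LD1_c8 LD2_c21 LD3_c29)) :=
  Lre_e IH (LK LD1_c15 LD2_c43 LD3_c44) (LK LD1_c8 LD2_c21 LD3_c29) Lrfl Lrfl
theorem f290306 : Led Lsl_at (LP (LK LD1_c16 LD2_c3 LD3_c15)) = (LP (LK LD1_c15 LD2_c43 LD3_c44)) :=
  Lgr Lrot80 (Lpe (f290305 IH) (Lpr_af (f290301 IH) (Lpe (f200599 IH) (Lpn (LP (LK LD1_c15 LD2_c43 LD3_c44))))))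
theorem f53799 : Led Lsl_et (LP (LK LD1_c8 LD2_c13 LD3_c0)) = (LP (LK LD1_c15 LD2_c27 LD3_c25)) :=
  Lre_e IH (LK LD1_c8 LD2_c13 LD3_c0) (LK LD1_c15 LD2_c27 LD3_c25) Lrfl Lrfl
theorem f252016 : Led Lsl_et (LP (LK LD1_c16 LD2_c3 LD3_c15)) = (LP (LK LD1_c8 LD2_c33 LD3_c9)) :=
  Lre_e IH (LK LD1_c16 LD2_c3 LD3_c15) (LK LD1_c8 LD2_c33 LD3_c9) Lrfl Lrfl
theorem f290269 : Led Lsl_ct (LP (LK LD1_c15 LD2_c27 LD3_c25)) = (LP (LK LD1_c16 LD2_c3 LD3_c15)) :=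
  Lgr Lrot15 (Lpe (f53799 IH) (Lpr_cf (f290261 IH) (Lpe (f252016 IH) (Lpn (LP (LK LD1_c16 LD2_c3 LD3_c15))))))
theorem f53790 : Led Lsl_et (LP (LK LD1_c8 LD2_c12 LD3_c60)) = (LP (LK LD1_c15 LD2_c27 LD3_c21)) :=
  Lre_e IH (LK LD1_c8 LD2_c12 LD3_c60) (LK LD1_c15 LD2_c27 LD3_c21) Lrfl Lrfl
theorem f53791 : Led Lsl_et (LP (LK LD1_c15 LD2_c27 LD3_c25)) = (LP (LK LD1_c8 LD2_c13 LD3_c0)) :=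
  Lre_e IH (LK LD1_c15 LD2_c27 LD3_c25) (LK LD1_c8 LD2_c13 LD3_c0) Lrfl Lrfl
theorem f53792 : Led Lsl_at (LP (LK LD1_c15 LD2_c27 LD3_c21)) = (LP (LK LD1_c15 LD2_c27 LD3_c25)) :=
  Lgr Lrot80 (Lpe (f53790 IH) (Lpr_af (K12.f53783 IH) (Lpe (f53791 IH) (Lpn (LP (LK LD1_c15 LD2_c27 LD3_c25))))))
theorem f290322 : Led Lsl_cf (LP (LK LD1_c15 LD2_c27 LD3_c21)) = (LP (LK LD1_c15 LD2_c43 LD3_c44)) :=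
  Lgr Lrot1 (Lpr_at (f53792 IH) (Lpr_ct (f290269 IH) (Lpr_at (f290306 IH) (Lpn (LP (LK LD1_c15 LD2_c43 LD3_c44))))))
theorem f290326 : Led Lsl_ct (LP (LK LD1_c15 LD2_c27 LD3_c21)) = (LP (LK LD1_c15 LD2_c43 LD3_c44)) :=
  Lgr Lrot59 (Lpr_cf (f290322 IH) (Lpn (LP (LK LD1_c15 LD2_c43 LD3_c44))))
theorem f53796 : Led Lsl_bt (LP (LK LD1_c25 LD2_c18 LD3_c61)) = (LP (LK LD1_c15 LD2_c27 LD3_c21)) :=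
  Lre_b IH (LK LD1_c25 LD2_c18 LD3_c61) (LK LD1_c15 LD2_c27 LD3_c21) Lrfl Lrfl
theorem f41056 : Led Lsl_bt (LP (LK LD1_c0 LD2_c54 LD3_c47)) = (LP (LK LD1_c1 LD2_c56 LD3_c6)) :=
  Lre_b IH (LK LD1_c0 LD2_c54 LD3_c47) (LK LD1_c1 LD2_c56 LD3_c6) Lrfl Lrfl
theorem f54798 : Led Lsl_gt (LP (LK LD1_c1 LD2_c56 LD3_c6)) = (LP (LK LD1_c3 LD2_c58 LD3_c44)) :=
  Lre_g IH (LK LD1_c1 LD2_c56 LD3_c6) (LK LD1_c3 LD2_c58 LD3_c44) Lrfl Lrfl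
theorem f54799 : Led Lsl_dt (LP (LK LD1_c3 LD2_c58 LD3_c44)) = (LP (LK LD1_c7 LD2_c58 LD3_c56)) :=
  Lre_d IH (LK LD1_c3 LD2_c58 LD3_c44) (LK LD1_c7 LD2_c58 LD3_c56) Lrfl Lrfl
theorem f171760 : Led Lsl_ct (LP (LK LD1_c7 LD2_c58 LD3_c56)) = (LP (LK LD1_c15 LD2_c3 LD3_c32)) :=
  Lre_c IH (LK LD1_c7 LD2_c58 LD3_c56) (LK LD1_c15 LD2_c3 LD3_c32) Lrfl Lrfl
theorem f200395 : Led Lsl_bt (LP (LK LD1_c15 LD2_c3 LD3_c32)) = (LP (LK LD1_c8 LD2_c21 LD3_c29)) :=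
  Lgr Lrot178 (Lpe (f171760 IH) (Lpe (f54799 IH) (Lpe (f54798 IH) (Lpe (f41056 IH) (Lpe (K1.f40770 IH) (Lpe (K1.f8120 IH) (Lpe (K9.f171200 IH) (Lpe (K9.f171759 IH) (Lpr_cf (K12.f182180 IH) (Lpe (K11.f52250 IH) (Lpr_gf (K12.f200391 IH) (Lpe (K12.f6802 IH) (Lpe (K9.f6810 IH) (Lpr_df (K13.f179028 IH) (Lpr_gf (K9.f167080 IH) (Lpe (K14.f167083 IH) (Lpe (K14.f167110 IH) (Lpe (K14.f167216 IH) (Lpe (f167217 IH) (Lpn (LP (LK LD1_c8 LD2_c21 LD3_c29))))))))))))))))))))))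
theorem f200577 : Led Lsl_et (LP (LK LD1_c24 LD2_c52 LD3_c45)) = (LP (LK LD1_c15 LD2_c3 LD3_c32)) :=
  Lre_e IH (LK LD1_c24 LD2_c52 LD3_c45) (LK LD1_c15 LD2_c3 LD3_c32) Lrfl Lrfl
theorem f200578 : Led Lsl_et (LP (LK LD1_c8 LD2_c21 LD3_c29)) = (LP (LK LD1_c15 LD2_c43 LD3_c44)) :=
  Lre_e IH (LK LD1_c8 LD2_c21 LD3_c29) (LK LD1_c15 LD2_c43 LD3_c44) Lrfl Lrfl
theorem f200579 : Led Lsl_bf (LP (LK LD1_c24 LD2_c52 LD3_c45)) = (LP (LK LD1_c15 LD2_c43 LD3_c44)) :=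
  Lgr Lrot96 (Lpr_et (f200577 IH) (Lpr_bt (f200395 IH) (Lpr_et (f200578 IH) (Lpn (LP (LK LD1_c15 LD2_c43 LD3_c44))))))
theorem f200585 : Led Lsl_ct (LP (LK LD1_c24 LD2_c52 LD3_c45)) = (LP (LK LD1_c15 LD2_c3 LD3_c33)) :=
  Lre_c IH (LK LD1_c24 LD2_c52 LD3_c45) (LK LD1_c15 LD2_c3 LD3_c33) Lrfl Lrfl
theorem f200586 : Led Lsl_bt (LP (LK LD1_c15 LD2_c3 LD3_c33)) = (LP (LK LD1_c24 LD2_c52 LD3_c35)) :=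
  Lre_b IH (LK LD1_c15 LD2_c3 LD3_c33) (LK LD1_c24 LD2_c52 LD3_c35) Lrfl Lrfl
theorem f290330 : Led Lsl_cf (LP (LK LD1_c25 LD2_c18 LD3_c61)) = (LP (LK LD1_c24 LD2_c52 LD3_c35)) :=
  Lgr Lrot97 (Lpr_bt (f53796 IH) (Lpr_ct (f290326 IH) (Lpe (f200579 IH) (Lpr_ct (f200585 IH) (Lpr_bt (f200586 IH) (Lpn (LP (LK LD1_c24 LD2_c52 LD3_c35))))))))
theorem f53923 : Led Lsl_et (LP (LK LD1_c25 LD2_c18 LD3_c61)) = (LP (LK LD1_c15 LD2_c27 LD3_c19)) :=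
  Lre_e IH (LK LD1_c25 LD2_c18 LD3_c61) (LK LD1_c15 LD2_c27 LD3_c19) Lrfl Lrfl
theorem f290332 : Led Lsl_et (LP (LK LD1_c15 LD2_c3 LD3_c27)) = (LP (LK LD1_c24 LD2_c52 LD3_c35)) :=
  Lre_e IH (LK LD1_c15 LD2_c3 LD3_c27) (LK LD1_c24 LD2_c52 LD3_c35) Lrfl Lrfl
theorem f290333 : Led Lsl_ct (LP (LK LD1_c15 LD2_c27 LD3_c19)) = (LP (LK LD1_c15 LD2_c3 LD3_c27)) :=
  Lgr Lrot15 (Lpe (f53923 IH) (Lpr_cf (f290330 IH) (Lpe (f290332 IH) (Lpn (LP (LK LD1_c15 LD2_c3 LD3_c27))))))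
theorem f290335 : Led Lsl_cf (LP (LK LD1_c15 LD2_c27 LD3_c19)) = (LP (LK LD1_c15 LD2_c3 LD3_c27)) :=
  Lgr Lrot11 (Lpr_ct (f290333 IH) (Lpn (LP (LK LD1_c15 LD2_c3 LD3_c27))))
theorem f188873 : Led Lsl_bt (LP (LK LD1_c8 LD2_c35 LD3_c57)) = (LP (LK LD1_c16 LD2_c7 LD3_c12)) :=
  Lre_b IH (LK LD1_c8 LD2_c35 LD3_c57) (LK LD1_c16 LD2_c7 LD3_c12) Lrfl Lrfl
theorem f53801 : Led Lsl_bt (LP (LK LD1_c15 LD2_c27 LD3_c19)) = (LP (LK LD1_c8 LD2_c12 LD3_c60)) :=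
  Lre_b IH (LK LD1_c15 LD2_c27 LD3_c19) (LK LD1_c8 LD2_c12 LD3_c60) Lrfl Lrfl
theorem f188874 : Led Lsl_ft (LP (LK LD1_c16 LD2_c7 LD3_c12)) = (LP (LK LD1_c15 LD2_c27 LD3_c19)) :=
  Lgr Lrot75 (Lpe (f188873 IH) (Lpr_ff (K12.f188870 IH) (Lpe (f53801 IH) (Lpn (LP (LK LD1_c15 LD2_c27 LD3_c19))))))
theorem f188879 : Led Lsl_ff (LP (LK LD1_c16 LD2_c7 LD3_c12)) = (LP (LK LD1_c15 LD2_c27 LD3_c19)) :=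
  Lgr Lrot3 (Lpr_ft (f188874 IH) (Lpn (LP (LK LD1_c15 LD2_c27 LD3_c19))))
theorem f167770 : Led Lsl_bt (LP (LK LD1_c16 LD2_c3 LD3_c16)) = (LP (LK LD1_c8 LD2_c33 LD3_c10)) :=
  Lre_b IH (LK LD1_c16 LD2_c3 LD3_c16) (LK LD1_c8 LD2_c33 LD3_c10) Lrfl Lrfl
theorem f200637 : Led Lsl_bf (LP (LK LD1_c0 LD2_c12 LD3_c43)) = (LP (LK LD1_c0 LD2_c25 LD3_c33)) :=
  Lgr Lrot90 (Lpr_ct (K9.f20813 IH) (Lpr_bt (K10.f167853 IH) (Lpr_ct (K13.f197398 IH) (Lpr_bt (K11.f200633 IH) (Lpr_ct (K12.f53084 IH) (Lpn (LP (LK LD1_c0 LD2_c25 LD3_c33))))))))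
theorem f173084 : Led Lsl_dt (LP (LK LD1_c5 LD2_c31 LD3_c27)) = (LP (LK LD1_c10 LD2_c54 LD3_c31)) :=
  Lre_d IH (LK LD1_c5 LD2_c31 LD3_c27) (LK LD1_c10 LD2_c54 LD3_c31) Lrfl Lrfl
theorem f224986 : Led Lsl_cf (LP (LK LD1_c16 LD2_c3 LD3_c16)) = (LP (LK LD1_c10 LD2_c54 LD3_c31)) :=
  Lgr Lrot89 (Lpr_bt (f167770 IH) (Lpr_gt (f167769 IH) (Lpr_dt (K14.f167768 IH) (Lpr_ct (K14.f167767 IH) (Lpr_bt (K14.f167766 IH) (Lpr_gt (K9.f500 IH) (Lpr_dt (K9.f167641 IH) (Lpe (K9.f167764 IH) (Lpr_bt (K12.f6816 IH) (Lpr_gt (K12.f224875 IH) (Lpr_dt (K12.f53089 IH) (Lpr_ct (K12.f53084 IH) (Lpe (f200637 IH) (Lpe (K9.f167835 IH) (Lpr_dt (K1.f40834 IH) (Lpr_ct (K9.f173074 IH) (Lpr_bt (K9.f173061 IH) (Lpr_gt (K9.f173083 IH) (Lpr_dt (f173084 IH) (Lpn (LP (LK LD1_c10 LD2_c54 LD3_c31))))))))))))))))))))))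
theorem f174065 : Led Lsl_dt (LP (LK LD1_c16 LD2_c41 LD3_c32)) = (LP (LK LD1_c8 LD2_c55 LD3_c13)) :=
  Lre_d IH (LK LD1_c16 LD2_c41 LD3_c32) (LK LD1_c8 LD2_c55 LD3_c13) Lrfl Lrfl
theorem f174066 : Led Lsl_bf (LP (LK LD1_c16 LD2_c41 LD3_c32)) = (LP (LK LD1_c10 LD2_c54 LD3_c31)) :=
  Lgr Lrot93 (Lpr_dt (f174065 IH) (Lpr_bt (K9.f174055 IH) (Lpr_dt (f173084 IH) (Lpn (LP (LK LD1_c10 LD2_c54 LD3_c31))))))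
theorem f174412 : Led Lsl_bt (LP (LK LD1_c16 LD2_c41 LD3_c32)) = (LP (LK LD1_c10 LD2_c54 LD3_c31)) :=
  Lgr Lrot127 (Lpr_bf (f174066 IH) (Lpn (LP (LK LD1_c10 LD2_c54 LD3_c31))))
theorem f287754 : Led Lsl_ct (LP (LK LD1_c16 LD2_c7 LD3_c12)) = (LP (LK LD1_c16 LD2_c41 LD3_c32)) :=
  Lgr Lrot83 (Lpe (f188873 IH) (Lpr_cf (f287748 IH) (Lpe (f167770 IH) (Lpr_cf (f224986 IH) (Lpe (f174412 IH) (Lpn (LP (LK LD1_c16 LD2_c41 LD3_c32))))))))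
theorem f290340 : Led Lsl_ft (LP (LK LD1_c16 LD2_c41 LD3_c32)) = (LP (LK LD1_c15 LD2_c3 LD3_c27)) :=
  Lgr Lrot4 (Lpe (f287754 IH) (Lpr_ff (f188879 IH) (Lpr_cf (f290335 IH) (Lpn (LP (LK LD1_c15 LD2_c3 LD3_c27))))))
theorem f290346 : Led Lsl_ff (LP (LK LD1_c16 LD2_c41 LD3_c32)) = (LP (LK LD1_c15 LD2_c3 LD3_c27)) :=
  Lgr Lrot3 (Lpr_ft (f290340 IH) (Lpn (LP (LK LD1_c15 LD2_c3 LD3_c27))))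
theorem f290338 : Led Lsl_dt (LP (LK LD1_c7 LD2_c58 LD3_c54)) = (LP (LK LD1_c15 LD2_c3 LD3_c27)) :=
  Lre_d IH (LK LD1_c7 LD2_c58 LD3_c54) (LK LD1_c15 LD2_c3 LD3_c27) Lrfl Lrfl
theorem f290354 : Led Lsl_ft (LP (LK LD1_c8 LD2_c55 LD3_c13)) = (LP (LK LD1_c7 LD2_c58 LD3_c54)) :=
  Lgr Lrot54 (Lpe (f174065 IH) (Lpr_ff (f290346 IH) (Lpe (f290338 IH) (Lpn (LP (LK LD1_c7 LD2_c58 LD3_c54))))))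
theorem f174060 : Led Lsl_ct (LP (LK LD1_c4 LD2_c28 LD3_c31)) = (LP (LK LD1_c8 LD2_c55 LD3_c13)) :=
  Lre_c IH (LK LD1_c4 LD2_c28 LD3_c31) (LK LD1_c8 LD2_c55 LD3_c13) Lrfl Lrfl
theorem f290361 : Led Lsl_ft (LP (LK LD1_c8 LD2_c55 LD3_c6)) = (LP (LK LD1_c4 LD2_c28 LD3_c31)) :=
  Lre_f IH (LK LD1_c8 LD2_c55 LD3_c6) (LK LD1_c4 LD2_c28 LD3_c31) Lrfl Lrfl
theorem f290362 : Led Lsl_cf (LP (LK LD1_c8 LD2_c55 LD3_c6)) = (LP (LK LD1_c7 LD2_c58 LD3_c54)) :=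
  Lgr Lrot108 (Lpr_ft (f290361 IH) (Lpr_ct (f174060 IH) (Lpr_ft (f290354 IH) (Lpn (LP (LK LD1_c7 LD2_c58 LD3_c54))))))
theorem f173638 : Led Lsl_bt (LP (LK LD1_c7 LD2_c58 LD3_c54)) = (LP (LK LD1_c3 LD2_c58 LD3_c44)) :=
  Lre_b IH (LK LD1_c7 LD2_c58 LD3_c54) (LK LD1_c3 LD2_c58 LD3_c44) Lrfl Lrfl
theorem f238321 : Led Lsl_cf (LP (LK LD1_c0 LD2_c54 LD3_c46)) = (LP (LK LD1_c0 LD2_c35 LD3_c59)) :=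
  Lgr Lrot11 (Lpr_ct (K13.f238317 IH) (Lpn (LP (LK LD1_c0 LD2_c35 LD3_c59))))
theorem f290398 : Led Lsl_bt (LP (LK LD1_c2 LD2_c12 LD3_c14)) = (LP (LK LD1_c1 LD2_c3 LD3_c2)) :=
  Lre_b IH (LK LD1_c2 LD2_c12 LD3_c14) (LK LD1_c1 LD2_c3 LD3_c2) Lrfl Lrfl
theorem f179174 : Led Lsl_ct (LP (LK LD1_c2 LD2_c12 LD3_c14)) = (LP (LK LD1_c4 LD2_c28 LD3_c34)) :=
  Lre_c IH (LK LD1_c2 LD2_c12 LD3_c14) (LK LD1_c4 LD2_c28 LD3_c34) Lrfl Lrfl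
theorem f290399 : Led Lsl_gt (LP (LK LD1_c8 LD2_c55 LD3_c6)) = (LP (LK LD1_c4 LD2_c28 LD3_c34)) :=
  Lgr Lrot65 (Lpr_cf (f290362 IH) (Lpr_bt (f173638 IH) (Lpe (f54798 IH) (Lpe (f41056 IH) (Lpr_ct (K1.f40734 IH) (Lpe (K13.f21274 IH) (Lpr_cf (f238321 IH) (Lpe (K9.f172294 IH) (Lpe (f290398 IH) (Lpr_ct (f179174 IH) (Lpn (LP (LK LD1_c4 LD2_c28 LD3_c34)))))))))))))
theorem f290405 : Led Lsl_at (LP (LK LD1_c4 LD2_c28 LD3_c31)) = (LP (LK LD1_c8 LD2_c55 LD3_c11)) :=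
  Lre_a IH (LK LD1_c4 LD2_c28 LD3_c31) (LK LD1_c8 LD2_c55 LD3_c11) Lrfl Lrfl
theorem f290406 : Led Lsl_gf (LP (LK LD1_c8 LD2_c55 LD3_c11)) = (LP (LK LD1_c4 LD2_c28 LD3_c34)) :=
  Lgr Lrot76 (Lpe (f290405 IH) (Lpe (f290361 IH) (Lpr_gt (f290399 IH) (Lpn (LP (LK LD1_c4 LD2_c28 LD3_c34))))))
theorem f290396 : Led Lsl_dt (LP (LK LD1_c8 LD2_c55 LD3_c11)) = (LP (LK LD1_c16 LD2_c41 LD3_c24)) :=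
  Lre_d IH (LK LD1_c8 LD2_c55 LD3_c11) (LK LD1_c16 LD2_c41 LD3_c24) Lrfl Lrfl
theorem f199129 : Led Lsl_bt (LP (LK LD1_c2 LD2_c11 LD3_c22)) = (LP (LK LD1_c4 LD2_c28 LD3_c34)) :=
  Lre_b IH (LK LD1_c2 LD2_c11 LD3_c22) (LK LD1_c4 LD2_c28 LD3_c34) Lrfl Lrfl
theorem f178501 : Led Lsl_ct (LP (LK LD1_c2 LD2_c2 LD3_c20)) = (LP (LK LD1_c0 LD2_c58 LD3_c4)) :=
  Lre_c IH (LK LD1_c2 LD2_c2 LD3_c20) (LK LD1_c0 LD2_c58 LD3_c4) Lrfl Lrfl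
theorem f178504 : Led Lsl_bt (LP (LK LD1_c15 LD2_c42 LD3_c44)) = (LP (LK LD1_c8 LD2_c20 LD3_c52)) :=
  Lre_b IH (LK LD1_c15 LD2_c42 LD3_c44) (LK LD1_c8 LD2_c20 LD3_c52) Lrfl Lrfl
theorem f290427 : Led Lsl_ct (LP (LK LD1_c16 LD2_c41 LD3_c24)) = (LP (LK LD1_c15 LD2_c42 LD3_c44)) :=
  Lgr Lrot191 (Lpe (f290396 IH) (Lpr_gf (f290406 IH) (Lpe (f199129 IH) (Lpe (K9.f44737 IH) (Lpe (K11.f41572 IH) (Lpe (K11.f199118 IH) (Lpe (K11.f199125 IH) (Lpr_cf (K11.f193331 IH) (Lpe (K11.f166446 IH) (Lpr_gf (K11.f201329 IH) (Lpe (K11.f168328 IH) (Lpr_cf (K9.f168320 IH) (Lpe (K9.f168325 IH) (Lpe (K9.f178496 IH) (Lpe (K12.f178500 IH) (Lpe (f178501 IH) (Lpe (K12.f178502 IH) (Lpe (K16.f178503 IH) (Lpe (f178504 IH) (Lpn (LP (LK LD1_c15 LD2_c42 LD3_c44))))))))))))))))))))))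
theorem f290492 : Led Lsl_cf (LP (LK LD1_c16 LD2_c41 LD3_c24)) = (LP (LK LD1_c15 LD2_c42 LD3_c44)) :=
  Lgr Lrot11 (Lpr_ct (f290427 IH) (Lpn (LP (LK LD1_c15 LD2_c42 LD3_c44))))
theorem f290501 : Led Lsl_bt (LP (LK LD1_c16 LD2_c41 LD3_c24)) = (LP (LK LD1_c26 LD2_c39 LD3_c57)) :=
  Lre_b IH (LK LD1_c16 LD2_c41 LD3_c24) (LK LD1_c26 LD2_c39 LD3_c57) Lrfl Lrfl
theorem f290502 : Led Lsl_bt (LP (LK LD1_c8 LD2_c20 LD3_c52)) = (LP (LK LD1_c15 LD2_c42 LD3_c44)) :=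
  Lre_b IH (LK LD1_c8 LD2_c20 LD3_c52) (LK LD1_c15 LD2_c42 LD3_c44) Lrfl Lrfl
theorem f218127 : Led Lsl_bt (LP (LK LD1_c25 LD2_c37 LD3_c23)) = (LP (LK LD1_c15 LD2_c41 LD3_c48)) :=
  Lre_b IH (LK LD1_c25 LD2_c37 LD3_c23) (LK LD1_c15 LD2_c41 LD3_c48) Lrfl Lrfl
theorem f290515 : Led Lsl_ct (LP (LK LD1_c26 LD2_c39 LD3_c57)) = (LP (LK LD1_c25 LD2_c37 LD3_c23)) :=
  Lgr Lrot83 (Lpe (f290501 IH) (Lpr_cf (f290492 IH) (Lpe (f290502 IH) (Lpe (K16.f275453 IH) (Lpe (f218127 IH) (Lpn (LP (LK LD1_c25 LD2_c37 LD3_c23))))))))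
theorem f290521 : Led Lsl_et (LP (LK LD1_c32 LD2_c13 LD3_c58)) = (LP (LK LD1_c26 LD2_c39 LD3_c57)) :=
  Lre_e IH (LK LD1_c32 LD2_c13 LD3_c58) (LK LD1_c26 LD2_c39 LD3_c57) Lrfl Lrfl
theorem f275494 : Led Lsl_et (LP (LK LD1_c25 LD2_c37 LD3_c23)) = (LP (LK LD1_c31 LD2_c56 LD3_c54)) :=
  Lre_e IH (LK LD1_c25 LD2_c37 LD3_c23) (LK LD1_c31 LD2_c56 LD3_c54) Lrfl Lrfl
theorem f290522 : Led Lsl_cf (LP (LK LD1_c32 LD2_c13 LD3_c58)) = (LP (LK LD1_c31 LD2_c56 LD3_c54)) :=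
  Lgr Lrot39 (Lpr_et (f290521 IH) (Lpr_ct (f290515 IH) (Lpr_et (f275494 IH) (Lpn (LP (LK LD1_c31 LD2_c56 LD3_c54))))))
theorem f290558 : Led Lsl_ct (LP (LK LD1_c32 LD2_c13 LD3_c58)) = (LP (LK LD1_c31 LD2_c56 LD3_c54)) :=
  Lgr Lrot59 (Lpr_cf (f290522 IH) (Lpn (LP (LK LD1_c31 LD2_c56 LD3_c54))))
theorem f290505 : Led Lsl_bt (LP (LK LD1_c26 LD2_c40 LD3_c2)) = (LP (LK LD1_c32 LD2_c13 LD3_c58)) :=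
  Lre_b IH (LK LD1_c26 LD2_c40 LD3_c2) (LK LD1_c32 LD2_c13 LD3_c58) Lrfl Lrfl
theorem f290494 : Led Lsl_et (LP (LK LD1_c26 LD2_c40 LD3_c2)) = (LP (LK LD1_c16 LD2_c41 LD3_c24)) :=
  Lre_e IH (LK LD1_c26 LD2_c40 LD3_c2) (LK LD1_c16 LD2_c41 LD3_c24) Lrfl Lrfl
theorem f290495 : Led Lsl_et (LP (LK LD1_c15 LD2_c42 LD3_c44)) = (LP (LK LD1_c25 LD2_c38 LD3_c42)) :=
  Lre_e IH (LK LD1_c15 LD2_c42 LD3_c44) (LK LD1_c25 LD2_c38 LD3_c42) Lrfl Lrfl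
theorem f290496 : Led Lsl_cf (LP (LK LD1_c26 LD2_c40 LD3_c2)) = (LP (LK LD1_c25 LD2_c38 LD3_c42)) :=
  Lgr Lrot39 (Lpr_et (f290494 IH) (Lpr_ct (f290427 IH) (Lpr_et (f290495 IH) (Lpn (LP (LK LD1_c25 LD2_c38 LD3_c42))))))
theorem f290506 : Led Lsl_bt (LP (LK LD1_c15 LD2_c42 LD3_c45)) = (LP (LK LD1_c25 LD2_c38 LD3_c42)) :=
  Lre_b IH (LK LD1_c15 LD2_c42 LD3_c45) (LK LD1_c25 LD2_c38 LD3_c42) Lrfl Lrfl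
theorem f290560 : Led Lsl_bt (LP (LK LD1_c31 LD2_c56 LD3_c54)) = (LP (LK LD1_c25 LD2_c37 LD3_c25)) :=
  Lre_b IH (LK LD1_c31 LD2_c56 LD3_c54) (LK LD1_c25 LD2_c37 LD3_c25) Lrfl Lrfl
theorem f290561 : Led Lsl_cf (LP (LK LD1_c15 LD2_c42 LD3_c45)) = (LP (LK LD1_c25 LD2_c37 LD3_c25)) :=
  Lgr Lrot97 (Lpr_bt (f290506 IH) (Lpe (f290496 IH) (Lpr_bt (f290505 IH) (Lpr_ct (f290558 IH) (Lpr_bt (f290560 IH) (Lpn (LP (LK LD1_c25 LD2_c37 LD3_c25))))))))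
theorem f275452 : Led Lsl_et (LP (LK LD1_c15 LD2_c42 LD3_c45)) = (LP (LK LD1_c8 LD2_c20 LD3_c52)) :=
  Lre_e IH (LK LD1_c15 LD2_c42 LD3_c45) (LK LD1_c8 LD2_c20 LD3_c52) Lrfl Lrfl
theorem f218124 : Led Lsl_et (LP (LK LD1_c15 LD2_c41 LD3_c48)) = (LP (LK LD1_c25 LD2_c37 LD3_c25)) :=
  Lre_e IH (LK LD1_c15 LD2_c41 LD3_c48) (LK LD1_c25 LD2_c37 LD3_c25) Lrfl Lrfl
theorem f290563 : Led Lsl_ct (LP (LK LD1_c8 LD2_c20 LD3_c52)) = (LP (LK LD1_c15 LD2_c41 LD3_c48)) :=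
  Lgr Lrot15 (Lpe (f275452 IH) (Lpr_cf (f290561 IH) (Lpe (f218124 IH) (Lpn (LP (LK LD1_c15 LD2_c41 LD3_c48))))))
theorem f275415 : Led Lsl_cf (LP (LK LD1_c8 LD2_c33 LD3_c39)) = (LP (LK LD1_c7 LD2_c58 LD3_c36)) :=
  Lgr Lrot11 (Lpr_ct (K16.f275379 IH) (Lpn (LP (LK LD1_c7 LD2_c58 LD3_c36))))
theorem f290567 : Led Lsl_gf (LP (LK LD1_c8 LD2_c20 LD3_c52)) = (LP (LK LD1_c8 LD2_c33 LD3_c39)) :=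
  Lgr Lrot104 (Lpr_ct (f290563 IH) (Lpe (K16.f212801 IH) (Lpe (K16.f170857 IH) (Lpe (K16.f275475 IH) (Lpe (K16.f218701 IH) (Lpe (K12.f54668 IH) (Lpe (K9.f42715 IH) (Lpr_gt (K16.f42711 IH) (Lpe (f275415 IH) (Lpn (LP (LK LD1_c8 LD2_c33 LD3_c39))))))))))))
theorem f219791 : Led Lsl_dt (LP (LK LD1_c2 LD2_c2 LD3_c49)) = (LP (LK LD1_c4 LD2_c11 LD3_c6)) :=
  Lre_d IH (LK LD1_c2 LD2_c2 LD3_c49) (LK LD1_c4 LD2_c11 LD3_c6) Lrfl Lrfl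
theorem f41149 : Led Lsl_gt (LP (LK LD1_c7 LD2_c57 LD3_c47)) = (LP (LK LD1_c3 LD2_c58 LD3_c31)) :=
  Lre_g IH (LK LD1_c7 LD2_c57 LD3_c47) (LK LD1_c3 LD2_c58 LD3_c31) Lrfl Lrfl
theorem f41150 : Led Lsl_dt (LP (LK LD1_c3 LD2_c58 LD3_c31)) = (LP (LK LD1_c7 LD2_c58 LD3_c30)) :=
  Lre_d IH (LK LD1_c3 LD2_c58 LD3_c31) (LK LD1_c7 LD2_c58 LD3_c30) Lrfl Lrfl
theorem f290573 : Led Lsl_cf (LP (LK LD1_c4 LD2_c11 LD3_c6)) = (LP (LK LD1_c7 LD2_c58 LD3_c30)) :=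
  Lgr Lrot14 (Lpe (f219791 IH) (Lpe (K12.f51529 IH) (Lpr_df (K16.f275447 IH) (Lpr_gf (f290567 IH) (Lpr_ct (K16.f275379 IH) (Lpe (K16.f42712 IH) (Lpr_dt (K12.f42705 IH) (Lpr_gt (f41149 IH) (Lpr_dt (f41150 IH) (Lpn (LP (LK LD1_c7 LD2_c58 LD3_c30))))))))))))
theorem f275457 : Led Lsl_et (LP (LK LD1_c4 LD2_c11 LD3_c6)) = (LP (LK LD1_c8 LD2_c22 LD3_c9)) :=
  Lre_e IH (LK LD1_c4 LD2_c11 LD3_c6) (LK LD1_c8 LD2_c22 LD3_c9) Lrfl Lrfl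
theorem f290583 : Led Lsl_et (LP (LK LD1_c15 LD2_c2 LD3_c46)) = (LP (LK LD1_c7 LD2_c58 LD3_c30)) :=
  Lre_e IH (LK LD1_c15 LD2_c2 LD3_c46) (LK LD1_c7 LD2_c58 LD3_c30) Lrfl Lrfl
theorem f290584 : Led Lsl_ct (LP (LK LD1_c8 LD2_c22 LD3_c9)) = (LP (LK LD1_c15 LD2_c2 LD3_c46)) :=
  Lgr Lrot15 (Lpe (f275457 IH) (Lpr_cf (f290573 IH) (Lpe (f290583 IH) (Lpn (LP (LK LD1_c15 LD2_c2 LD3_c46))))))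
theorem f290622 : Led Lsl_at (LP (LK LD1_c15 LD2_c44 LD3_c31)) = (LP (LK LD1_c8 LD2_c22 LD3_c9)) :=
  Lre_a IH (LK LD1_c15 LD2_c44 LD3_c31) (LK LD1_c8 LD2_c22 LD3_c9) Lrfl Lrfl
theorem f288819 : Led Lsl_et (LP (LK LD1_c15 LD2_c44 LD3_c31)) = (LP (LK LD1_c8 LD2_c21 LD3_c56)) :=
  Lre_e IH (LK LD1_c15 LD2_c44 LD3_c31) (LK LD1_c8 LD2_c21 LD3_c56) Lrfl Lrfl
theorem f196428 : Led Lsl_et (LP (LK LD1_c8 LD2_c8 LD3_c35)) = (LP (LK LD1_c15 LD2_c20 LD3_c0)) :=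
  Lre_e IH (LK LD1_c8 LD2_c8 LD3_c35) (LK LD1_c15 LD2_c20 LD3_c0) Lrfl Lrfl
theorem f288820 : Led Lsl_cf (LP (LK LD1_c15 LD2_c44 LD3_c31)) = (LP (LK LD1_c15 LD2_c20 LD3_c0)) :=
  Lgr Lrot39 (Lpr_et (f288819 IH) (Lpr_ct (f288810 IH) (Lpr_et (f196428 IH) (Lpn (LP (LK LD1_c15 LD2_c20 LD3_c0))))))
theorem f290623 : Led Lsl_af (LP (LK LD1_c15 LD2_c20 LD3_c0)) = (LP (LK LD1_c15 LD2_c2 LD3_c46)) :=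
  Lgr Lrot68 (Lpe (f288820 IH) (Lpr_at (f290622 IH) (Lpr_ct (f290584 IH) (Lpn (LP (LK LD1_c15 LD2_c2 LD3_c46))))))
theorem f290673 : Led Lsl_dt (LP (LK LD1_c15 LD2_c20 LD3_c0)) = (LP (LK LD1_c25 LD2_c11 LD3_c11)) :=
  Lre_d IH (LK LD1_c15 LD2_c20 LD3_c0) (LK LD1_c25 LD2_c11 LD3_c11) Lrfl Lrfl
theorem f290610 : Led Lsl_dt (LP (LK LD1_c24 LD2_c51 LD3_c44)) = (LP (LK LD1_c15 LD2_c2 LD3_c46)) :=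
  Lre_d IH (LK LD1_c24 LD2_c51 LD3_c44) (LK LD1_c15 LD2_c2 LD3_c46) Lrfl Lrfl
theorem f290674 : Led Lsl_at (LP (LK LD1_c25 LD2_c11 LD3_c11)) = (LP (LK LD1_c24 LD2_c51 LD3_c44)) :=
  Lgr Lrot51 (Lpe (f290673 IH) (Lpr_af (f290623 IH) (Lpe (f290610 IH) (Lpn (LP (LK LD1_c24 LD2_c51 LD3_c44))))))
theorem f290707 : Led Lsl_et (LP (LK LD1_c15 LD2_c20 LD3_c2)) = (LP (LK LD1_c25 LD2_c11 LD3_c11)) :=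
  Lre_e IH (LK LD1_c15 LD2_c20 LD3_c2) (LK LD1_c25 LD2_c11 LD3_c11) Lrfl Lrfl
theorem f290708 : Led Lsl_et (LP (LK LD1_c24 LD2_c51 LD3_c44)) = (LP (LK LD1_c15 LD2_c2 LD3_c47)) :=
  Lre_e IH (LK LD1_c24 LD2_c51 LD3_c44) (LK LD1_c15 LD2_c2 LD3_c47) Lrfl Lrfl
theorem f290709 : Led Lsl_af (LP (LK LD1_c15 LD2_c20 LD3_c2)) = (LP (LK LD1_c15 LD2_c2 LD3_c47)) :=
  Lgr Lrot50 (Lpr_et (f290707 IH) (Lpr_at (f290674 IH) (Lpr_et (f290708 IH) (Lpn (LP (LK LD1_c15 LD2_c2 LD3_c47))))))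
theorem f211367 : Led Lsl_dt (LP (LK LD1_c15 LD2_c20 LD3_c2)) = (LP (LK LD1_c8 LD2_c8 LD3_c36)) :=
  Lre_d IH (LK LD1_c15 LD2_c20 LD3_c2) (LK LD1_c8 LD2_c8 LD3_c36) Lrfl Lrfl
theorem f54673 : Led Lsl_dt (LP (LK LD1_c7 LD2_c58 LD3_c31)) = (LP (LK LD1_c15 LD2_c2 LD3_c47)) :=
  Lre_d IH (LK LD1_c7 LD2_c58 LD3_c31) (LK LD1_c15 LD2_c2 LD3_c47) Lrfl Lrfl
theorem f290719 : Led Lsl_at (LP (LK LD1_c8 LD2_c8 LD3_c36)) = (LP (LK LD1_c7 LD2_c58 LD3_c31)) :=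
  Lgr Lrot51 (Lpe (f211367 IH) (Lpr_af (f290709 IH) (Lpe (f54673 IH) (Lpn (LP (LK LD1_c7 LD2_c58 LD3_c31))))))
theorem f290737 : Led Lsl_ft (LP (LK LD1_c15 LD2_c20 LD3_c3)) = (LP (LK LD1_c8 LD2_c8 LD3_c36)) :=
  Lre_f IH (LK LD1_c15 LD2_c20 LD3_c3) (LK LD1_c8 LD2_c8 LD3_c36) Lrfl Lrfl
theorem f290738 : Led Lsl_ft (LP (LK LD1_c7 LD2_c58 LD3_c31)) = (LP (LK LD1_c15 LD2_c2 LD3_c48)) :=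
  Lre_f IH (LK LD1_c7 LD2_c58 LD3_c31) (LK LD1_c15 LD2_c2 LD3_c48) Lrfl Lrfl
theorem f290739 : Led Lsl_af (LP (LK LD1_c15 LD2_c20 LD3_c3)) = (LP (LK LD1_c15 LD2_c2 LD3_c48)) :=
  Lgr Lrot45 (Lpr_ft (f290737 IH) (Lpr_at (f290719 IH) (Lpr_ft (f290738 IH) (Lpn (LP (LK LD1_c15 LD2_c2 LD3_c48))))))
theorem f211350 : Led Lsl_ct (LP (LK LD1_c15 LD2_c20 LD3_c3)) = (LP (LK LD1_c8 LD2_c8 LD3_c39)) :=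
  Lre_c IH (LK LD1_c15 LD2_c20 LD3_c3) (LK LD1_c8 LD2_c8 LD3_c39) Lrfl Lrfl
theorem f290746 : Led Lsl_at (LP (LK LD1_c8 LD2_c8 LD3_c39)) = (LP (LK LD1_c15 LD2_c19 LD3_c56)) :=
  Lre_a IH (LK LD1_c8 LD2_c8 LD3_c39) (LK LD1_c15 LD2_c19 LD3_c56) Lrfl Lrfl
theorem f290747 : Led Lsl_ct (LP (LK LD1_c15 LD2_c19 LD3_c56)) = (LP (LK LD1_c15 LD2_c2 LD3_c48)) :=
  Lgr Lrot111 (Lpe (f290746 IH) (Lpe (f211350 IH) (Lpr_af (f290739 IH) (Lpn (LP (LK LD1_c15 LD2_c2 LD3_c48))))))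
theorem f290751 : Led Lsl_cf (LP (LK LD1_c15 LD2_c19 LD3_c56)) = (LP (LK LD1_c15 LD2_c2 LD3_c48)) :=
  Lgr Lrot11 (Lpr_ct (f290747 IH) (Lpn (LP (LK LD1_c15 LD2_c2 LD3_c48))))
theorem f290760 : Led Lsl_ft (LP (LK LD1_c15 LD2_c19 LD3_c56)) = (LP (LK LD1_c8 LD2_c8 LD3_c33)) :=
  Lre_f IH (LK LD1_c15 LD2_c19 LD3_c56) (LK LD1_c8 LD2_c8 LD3_c33) Lrfl Lrfl
theorem f290761 : Led Lsl_ct (LP (LK LD1_c8 LD2_c8 LD3_c33)) = (LP (LK LD1_c7 LD2_c58 LD3_c31)) :=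
  Lgr Lrot40 (Lpe (f290760 IH) (Lpr_cf (f290751 IH) (Lpe (f290738 IH) (Lpn (LP (LK LD1_c7 LD2_c58 LD3_c31))))))
theorem f290763 : Led Lsl_et (LP (LK LD1_c4 LD2_c3 LD3_c61)) = (LP (LK LD1_c8 LD2_c8 LD3_c33)) :=
  Lre_e IH (LK LD1_c4 LD2_c3 LD3_c61) (LK LD1_c8 LD2_c8 LD3_c33) Lrfl Lrfl
theorem f54672 : Led Lsl_et (LP (LK LD1_c7 LD2_c58 LD3_c31)) = (LP (LK LD1_c3 LD2_c58 LD3_c31)) :=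
  Lre_e IH (LK LD1_c7 LD2_c58 LD3_c31) (LK LD1_c3 LD2_c58 LD3_c31) Lrfl Lrfl
theorem f290764 : Led Lsl_cf (LP (LK LD1_c4 LD2_c3 LD3_c61)) = (LP (LK LD1_c3 LD2_c58 LD3_c31)) :=
  Lgr Lrot39 (Lpr_et (f290763 IH) (Lpr_ct (f290761 IH) (Lpr_et (f54672 IH) (Lpn (LP (LK LD1_c3 LD2_c58 LD3_c31))))))
theorem f42757 : Led Lsl_gt (LP (LK LD1_c3 LD2_c58 LD3_c31)) = (LP (LK LD1_c1 LD2_c56 LD3_c1)) :=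
  Lre_g IH (LK LD1_c3 LD2_c58 LD3_c31) (LK LD1_c1 LD2_c56 LD3_c1) Lrfl Lrfl
theorem f290779 : Led Lsl_gt (LP (LK LD1_c4 LD2_c3 LD3_c61)) = (LP (LK LD1_c2 LD2_c34 LD3_c18)) :=
  Lgr Lrot94 (Lpr_cf (f290764 IH) (Lpr_gt (f42757 IH) (Lpr_dt (K1.f42747 IH) (Lpr_gt (K16.f42711 IH) (Lpe (K16.f275365 IH) (Lpe (K12.f170699 IH) (Lpe (K15.f170838 IH) (Lpr_gf (K14.f222158 IH) (Lpe (K10.f48044 IH) (Lpn (LP (LK LD1_c2 LD2_c34 LD3_c18))))))))))))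
theorem f267558 : Led Lsl_ct (LP (LK LD1_c7 LD2_c58 LD3_c37)) = (LP (LK LD1_c4 LD2_c10 LD3_c18)) :=
  Lgr Lrot110 (Lpe (K16.f43150 IH) (Lpe (K9.f42714 IH) (Lpr_gf (K15.f267554 IH) (Lpe (K15.f260888 IH) (Lpe (K15.f246813 IH) (Lpr_ct (K15.f219261 IH) (Lpr_gt (K15.f170696 IH) (Lpr_ct (K14.f178505 IH) (Lpe (K12.f178502 IH) (Lpn (LP (LK LD1_c4 LD2_c10 LD3_c18))))))))))))
theorem f178772 : Led Lsl_gt (LP (LK LD1_c4 LD2_c10 LD3_c18)) = (LP (LK LD1_c8 LD2_c20 LD3_c51)) :=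
  Lre_g IH (LK LD1_c4 LD2_c10 LD3_c18) (LK LD1_c8 LD2_c20 LD3_c51) Lrfl Lrfl
theorem f290781 : Led Lsl_cf (LP (LK LD1_c10 LD2_c19 LD3_c18)) = (LP (LK LD1_c8 LD2_c20 LD3_c51)) :=
  Lgr Lrot99 (Lpe (K16.f48084 IH) (Lpe (K10.f48052 IH) (Lpe (f290779 IH) (Lpr_cf (f290764 IH) (Lpe (f41149 IH) (Lpe (K12.f42705 IH) (Lpr_gt (K16.f43150 IH) (Lpr_ct (f267558 IH) (Lpr_gt (f178772 IH) (Lpn (LP (LK LD1_c8 LD2_c20 LD3_c51))))))))))))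
theorem f275445 : Led Lsl_dt (LP (LK LD1_c4 LD2_c11 LD3_c4)) = (LP (LK LD1_c8 LD2_c20 LD3_c52)) :=
  Lgr Lrot6 (Lpr_gt (K12.f51529 IH) (Lpr_ct (K16.f51524 IH) (Lpr_gt (K12.f219779 IH) (Lpr_ct (K12.f170851 IH) (Lpe (K15.f219156 IH) (Lpe (K16.f41943 IH) (Lpe (K16.f43149 IH) (Lpr_cf (K16.f275429 IH) (Lpe (K16.f178503 IH) (Lpn (LP (LK LD1_c8 LD2_c20 LD3_c52))))))))))))
theorem f218115 : Led Lsl_dt (LP (LK LD1_c15 LD2_c41 LD3_c48)) = (LP (LK LD1_c8 LD2_c20 LD3_c21)) :=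
  Lre_d IH (LK LD1_c15 LD2_c41 LD3_c48) (LK LD1_c8 LD2_c20 LD3_c21) Lrfl Lrfl
theorem f212830 : Led Lsl_dt (LP (LK LD1_c2 LD2_c41 LD3_c1)) = (LP (LK LD1_c5 LD2_c29 LD3_c30)) :=
  Lre_d IH (LK LD1_c2 LD2_c41 LD3_c1) (LK LD1_c5 LD2_c29 LD3_c30) Lrfl Lrfl
theorem f290790 : Led Lsl_dt (LP (LK LD1_c4 LD2_c11 LD3_c3)) = (LP (LK LD1_c8 LD2_c20 LD3_c51)) :=
  Lgr Lrot173 (Lpr_cf (K12.f219820 IH) (Lpe (f212830 IH) (Lpr_cf (K12.f212786 IH) (Lpe (K16.f212796 IH) (Lpe (K16.f218114 IH) (Lpe (f218115 IH) (Lpe (f290563 IH) (Lpe (f275445 IH) (Lpr_cf (K12.f221910 IH) (Lpe (K10.f45797 IH) (Lpr_cf (K15.f53950 IH) (Lpe (K10.f48044 IH) (Lpe (K12.f48055 IH) (Lpe (K12.f48056 IH) (Lpr_cf (f290781 IH) (Lpn (LP (LK LD1_c8 LD2_c20 LD3_c51))))))))))))))))))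
theorem f290795 : Led Lsl_ff (LP (LK LD1_c10 LD2_c32 LD3_c55)) = (LP (LK LD1_c15 LD2_c41 LD3_c48)) :=
  Lgr Lrot103 (Lpr_at (K12.f48066 IH) (Lpr_cf (f290781 IH) (Lpe (f290790 IH) (Lpr_cf (K12.f219820 IH) (Lpe (f212830 IH) (Lpr_cf (K12.f212786 IH) (Lpe (K16.f212796 IH) (Lpe (K16.f218114 IH) (Lpe (f218115 IH) (Lpn (LP (LK LD1_c15 LD2_c41 LD3_c48))))))))))))
theorem f218116 : Led Lsl_gt (LP (LK LD1_c7 LD2_c57 LD3_c41)) = (LP (LK LD1_c8 LD2_c20 LD3_c21)) :=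
  Lgr Lrot150 (Lpe (K16.f189484 IH) (Lpe (K13.f43239 IH) (Lpe (K1.f41218 IH) (Lpr_gt (K11.f41265 IH) (Lpr_ct (K13.f199609 IH) (Lpr_gt (K12.f218112 IH) (Lpr_ct (K12.f182196 IH) (Lpe (K16.f212796 IH) (Lpe (K16.f218114 IH) (Lpn (LP (LK LD1_c8 LD2_c20 LD3_c21))))))))))))
theorem f171913 : Led Lsl_gt (LP (LK LD1_c0 LD2_c54 LD3_c44)) = (LP (LK LD1_c1 LD2_c55 LD3_c51)) :=
  Lre_g IH (LK LD1_c0 LD2_c54 LD3_c44) (LK LD1_c1 LD2_c55 LD3_c51) Lrfl Lrfl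
theorem f171928 : Led Lsl_ct (LP (LK LD1_c3 LD2_c58 LD3_c7)) = (LP (LK LD1_c7 LD2_c57 LD3_c39)) :=
  Lre_c IH (LK LD1_c3 LD2_c58 LD3_c7) (LK LD1_c7 LD2_c57 LD3_c39) Lrfl Lrfl
theorem f171927 : Led Lsl_dt (LP (LK LD1_c15 LD2_c0 LD3_c58)) = (LP (LK LD1_c7 LD2_c57 LD3_c39)) :=
  Lre_d IH (LK LD1_c15 LD2_c0 LD3_c58) (LK LD1_c7 LD2_c57 LD3_c39) Lrfl Lrfl
theorem f218118 : Led Lsl_gf (LP (LK LD1_c15 LD2_c0 LD3_c58)) = (LP (LK LD1_c15 LD2_c41 LD3_c48)) :=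
  Lgr Lrot143 (Lpr_dt (f171927 IH) (Lpe (f171928 IH) (Lpe (K14.f41973 IH) (Lpe (f171913 IH) (Lpe (K14.f41339 IH) (Lpe (K16.f41351 IH) (Lpe (K13.f41969 IH) (Lpr_gt (f218116 IH) (Lpr_dt (K16.f212801 IH) (Lpn (LP (LK LD1_c15 LD2_c41 LD3_c48))))))))))))
theorem f290798 : Led Lsl_gf (LP (LK LD1_c10 LD2_c19 LD3_c18)) = (LP (LK LD1_c15 LD2_c0 LD3_c58)) :=
  Lgr Lrot76 (Lpe (K12.f48066 IH) (Lpr_ff (f290795 IH) (Lpe (f218118 IH) (Lpn (LP (LK LD1_c15 LD2_c0 LD3_c58))))))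
theorem f290788 : Led Lsl_ct (LP (LK LD1_c10 LD2_c19 LD3_c18)) = (LP (LK LD1_c8 LD2_c20 LD3_c51)) :=
  Lgr Lrot59 (Lpr_cf (f290781 IH) (Lpn (LP (LK LD1_c8 LD2_c20 LD3_c51))))
theorem f41924 : Led Lsl_gt (LP (LK LD1_c5 LD2_c21 LD3_c14)) = (LP (LK LD1_c10 LD2_c32 LD3_c42)) :=
  Lre_g IH (LK LD1_c5 LD2_c21 LD3_c14) (LK LD1_c10 LD2_c32 LD3_c42) Lrfl Lrfl
theorem f290804 : Led Lsl_ct (LP (LK LD1_c10 LD2_c32 LD3_c42)) = (LP (LK LD1_c15 LD2_c0 LD3_c58)) :=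
  Lgr Lrot186 (Lpe (f41924 IH) (Lpr_dt (K9.f41897 IH) (Lpr_gt (K13.f41989 IH) (Lpr_ct (K14.f192389 IH) (Lpr_gt (K13.f219185 IH) (Lpe (K12.f219820 IH) (Lpr_dt (f290790 IH) (Lpe (f290788 IH) (Lpr_gf (f290798 IH) (Lpn (LP (LK LD1_c15 LD2_c0 LD3_c58))))))))))))
theorem f290826 : Led Lsl_df (LP (LK LD1_c4 LD2_c11 LD3_c3)) = (LP (LK LD1_c8 LD2_c20 LD3_c51)) :=
  Lgr Lrot162 (Lpr_cf (K12.f219820 IH) (Lpe (K13.f219185 IH) (Lpe (K14.f192389 IH) (Lpe (K13.f41989 IH) (Lpr_dt (K11.f41925 IH) (Lpr_gt (f41924 IH) (Lpr_ct (f290804 IH) (Lpe (f290798 IH) (Lpr_ct (f290788 IH) (Lpn (LP (LK LD1_c8 LD2_c20 LD3_c51))))))))))))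
theorem f290833 : Led Lsl_gf (LP (LK LD1_c4 LD2_c50 LD3_c47)) = (LP (LK LD1_c4 LD2_c13 LD3_c0)) :=
  Lgr Lrot144 (Lpr_dt (K13.f199612 IH) (Lpr_gt (K12.f218112 IH) (Lpr_dt (f212830 IH) (Lpe (K12.f219789 IH) (Lpr_df (f290826 IH) (Lpe (f178772 IH) (Lpe (K16.f178771 IH) (Lpe (K15.f178506 IH) (Lpr_cf (K15.f178509 IH) (Lpn (LP (LK LD1_c4 LD2_c13 LD3_c0))))))))))))
theorem f199620 : Led Lsl_dt (LP (LK LD1_c2 LD2_c23 LD3_c11)) = (LP (LK LD1_c4 LD2_c50 LD3_c47)) :=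
  Lre_d IH (LK LD1_c2 LD2_c23 LD3_c11) (LK LD1_c4 LD2_c50 LD3_c47) Lrfl Lrfl
theorem f199621 : Led Lsl_et (LP (LK LD1_c2 LD2_c23 LD3_c11)) = (LP (LK LD1_c4 LD2_c50 LD3_c48)) :=
  Lre_e IH (LK LD1_c2 LD2_c23 LD3_c11) (LK LD1_c4 LD2_c50 LD3_c48) Lrfl Lrfl
theorem f254519 : Led Lsl_bt (LP (LK LD1_c2 LD2_c6 LD3_c56)) = (LP (LK LD1_c4 LD2_c19 LD3_c6)) :=
  Lre_b IH (LK LD1_c2 LD2_c6 LD3_c56) (LK LD1_c4 LD2_c19 LD3_c6) Lrfl Lrfl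
theorem f255980 : Led Lsl_dt (LP (LK LD1_c4 LD2_c19 LD3_c6)) = (LP (LK LD1_c4 LD2_c13 LD3_c0)) :=
  Lgr Lrot79 (Lpe (f254519 IH) (Lpr_df (K14.f255932 IH) (Lpe (K15.f178508 IH) (Lpn (LP (LK LD1_c4 LD2_c13 LD3_c0))))))
theorem f290840 : Led Lsl_gt (LP (LK LD1_c4 LD2_c19 LD3_c42)) = (LP (LK LD1_c4 LD2_c19 LD3_c6)) :=
  Lgr Lrot94 (Lpe (K16.f181213 IH) (Lpr_gt (K15.f254172 IH) (Lpe (K15.f254164 IH) (Lpr_gt (K14.f254170 IH) (Lpr_dt (K13.f55005 IH) (Lpr_cf (K11.f199586 IH) (Lpe (K13.f199612 IH) (Lpr_gf (f290833 IH) (Lpe (f255980 IH) (Lpn (LP (LK LD1_c4 LD2_c19 LD3_c6))))))))))))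
theorem f290848 : Led Lsl_gt (LP (LK LD1_c4 LD2_c50 LD3_c48)) = (LP (LK LD1_c5 LD2_c17 LD3_c18)) :=
  Lgr Lrot131 (Lpe (f199621 IH) (Lpr_dt (f199620 IH) (Lpr_gf (f290833 IH) (Lpe (f255980 IH) (Lpe (f290840 IH) (Lpe (K15.f266892 IH) (Lpr_dt (K16.f278414 IH) (Lpr_gf (K16.f275162 IH) (Lpe (K14.f182077 IH) (Lpr_et (K16.f182078 IH) (Lpn (LP (LK LD1_c5 LD2_c17 LD3_c18)))))))))))))
theorem f193961 : Led Lsl_bt (LP (LK LD1_c2 LD2_c29 LD3_c2)) = (LP (LK LD1_c5 LD2_c3 LD3_c1)) :=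
  Lre_b IH (LK LD1_c2 LD2_c29 LD3_c2) (LK LD1_c5 LD2_c3 LD3_c1) Lrfl Lrfl
theorem f274862 : Led Lsl_bf (LP (LK LD1_c2 LD2_c43 LD3_c55)) = (LP (LK LD1_c4 LD2_c10 LD3_c8)) :=
  Lgr Lrot34 (Lpe (K15.f216479 IH) (Lpe (K10.f42460 IH) (Lpe (K9.f171891 IH) (Lpe (K13.f171995 IH) (Lpr_cf (K13.f232871 IH) (Lpe (K14.f256086 IH) (Lpe (f193961 IH) (Lpr_ct (K14.f28378 IH) (Lpe (K16.f274860 IH) (Lpr_cf (K16.f274846 IH) (Lpn (LP (LK LD1_c4 LD2_c10 LD3_c8)))))))))))))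
theorem f284096 : Led Lsl_gt (LP (LK LD1_c1 LD2_c16 LD3_c1)) = (LP (LK LD1_c2 LD2_c36 LD3_c38)) :=
  Lgr Lrot5 (Lpr_ft (f256116 IH) (Lpr_at (f283326 IH) (Lpr_gf (f284094 IH) (Lpn (LP (LK LD1_c2 LD2_c36 LD3_c38))))))
theorem f290854 : Led Lsl_gf (LP (LK LD1_c2 LD2_c29 LD3_c3)) = (LP (LK LD1_c2 LD2_c44 LD3_c26)) :=
  Lgr Lrot181 (Lpr_ct (K14.f247682 IH) (Lpr_gt (f290848 IH) (Lpr_cf (K16.f274846 IH) (Lpe (f274862 IH) (Lpe (f283772 IH) (Lpe (K16.f274450 IH) (Lpr_ct (K16.f256113 IH) (Lpr_gt (f284096 IH) (Lpr_cf (f256229 IH) (Lpe (f284086 IH) (Lpn (LP (LK LD1_c2 LD2_c44 LD3_c26)))))))))))))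
theorem f274858 : Led Lsl_dt (LP (LK LD1_c5 LD2_c4 LD3_c49)) = (LP (LK LD1_c4 LD2_c10 LD3_c8)) :=
  Lgr Lrot105 (Lpe (K15.f191778 IH) (Lpe (K11.f191777 IH) (Lpr_gf (K11.f189556 IH) (Lpr_cf (K9.f47520 IH) (Lpr_gt (K10.f44455 IH) (Lpr_dt (K13.f44456 IH) (Lpr_gt (K16.f44457 IH) (Lpe (K16.f191771 IH) (Lpr_cf (K16.f274846 IH) (Lpn (LP (LK LD1_c4 LD2_c10 LD3_c8))))))))))))
theorem f212280 : Led Lsl_ct (LP (LK LD1_c10 LD2_c0 LD3_c41)) = (LP (LK LD1_c5 LD2_c4 LD3_c49)) :=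
  Lre_c IH (LK LD1_c10 LD2_c0 LD3_c41) (LK LD1_c5 LD2_c4 LD3_c49) Lrfl Lrfl
theorem f47965 : Led Lsl_ct (LP (LK LD1_c4 LD2_c5 LD3_c2)) = (LP (LK LD1_c8 LD2_c10 LD3_c52)) :=
  Lre_c IH (LK LD1_c4 LD2_c5 LD3_c2) (LK LD1_c8 LD2_c10 LD3_c52) Lrfl Lrfl
theorem f290857 : Led Lsl_gf (LP (LK LD1_c10 LD2_c0 LD3_c41)) = (LP (LK LD1_c8 LD2_c10 LD3_c52)) :=
  Lgr Lrot172 (Lpr_ct (f212280 IH) (Lpr_dt (f274858 IH) (Lpe (f274854 IH) (Lpe (f290848 IH) (Lpe (K14.f247682 IH) (Lpr_gf (f290854 IH) (Lpr_dt (K16.f180061 IH) (Lpe (K16.f278177 IH) (Lpr_ct (f47965 IH) (Lpn (LP (LK LD1_c8 LD2_c10 LD3_c52))))))))))))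
theorem f284703 : Led Lsl_gt (LP (LK LD1_c15 LD2_c25 LD3_c17)) = (LP (LK LD1_c8 LD2_c11 LD3_c27)) :=
  Lre_g IH (LK LD1_c15 LD2_c25 LD3_c17) (LK LD1_c8 LD2_c11 LD3_c27) Lrfl Lrfl
theorem f290859 : Led Lsl_dt (LP (LK LD1_c10 LD2_c0 LD3_c41)) = (LP (LK LD1_c15 LD2_c25 LD3_c17)) :=
  Lgr Lrot57 (Lpr_gf (f290857 IH) (Lpe (f47965 IH) (Lpr_gt (K10.f192136 IH) (Lpr_dt (K15.f192139 IH) (Lpr_gt (K14.f28361 IH) (Lpr_dt (K14.f247631 IH) (Lpe (K16.f47279 IH) (Lpe (f191279 IH) (Lpe (f284703 IH) (Lpn (LP (LK LD1_c15 LD2_c25 LD3_c17))))))))))))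
theorem f186754 : Led Lsl_dt (LP (LK LD1_c10 LD2_c1 LD3_c52)) = (LP (LK LD1_c5 LD2_c5 LD3_c23)) :=
  Lre_d IH (LK LD1_c10 LD2_c1 LD3_c52) (LK LD1_c5 LD2_c5 LD3_c23) Lrfl Lrfl
theorem f251592 : Led Lsl_gt (LP (LK LD1_c8 LD2_c52 LD3_c10)) = (LP (LK LD1_c10 LD2_c1 LD3_c52)) :=
  Lgr Lrot49 (Lpe (K12.f188017 IH) (Lpr_gf (K12.f191620 IH) (Lpe (K10.f183970 IH) (Lpr_gt (K14.f215048 IH) (Lpr_dt (K14.f251587 IH) (Lpr_gt (K14.f193957 IH) (Lpe (K14.f251311 IH) (Lpe (K16.f186748 IH) (Lpe (f186754 IH) (Lpn (LP (LK LD1_c10 LD2_c1 LD3_c52))))))))))))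
theorem f291287 : Led Lsl_ct (LP (LK LD1_c10 LD2_c1 LD3_c52)) = (LP (LK LD1_c15 LD2_c25 LD3_c17)) :=
  Lgr Lrot151 (Lpe (f251592 IH) (Lpr_cf (f230744 IH) (Lpr_gf (f261345 IH) (Lpr_dt (f178451 IH) (Lpe (K15.f237814 IH) (Lpr_ct (K15.f192363 IH) (Lpr_gt (K15.f191778 IH) (Lpr_ct (K15.f212262 IH) (Lpr_dt (f290859 IH) (Lpn (LP (LK LD1_c15 LD2_c25 LD3_c17))))))))))))
theorem f186750 : Led Lsl_dt (LP (LK LD1_c5 LD2_c5 LD3_c23)) = (LP (LK LD1_c10 LD2_c1 LD3_c52)) :=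
  Lre_d IH (LK LD1_c5 LD2_c5 LD3_c23) (LK LD1_c10 LD2_c1 LD3_c52) Lrfl Lrfl
theorem f291284 : Led Lsl_df (LP (LK LD1_c10 LD2_c0 LD3_c41)) = (LP (LK LD1_c15 LD2_c25 LD3_c17)) :=
  Lgr Lrot38 (Lpr_dt (f290859 IH) (Lpn (LP (LK LD1_c15 LD2_c25 LD3_c17))))
theorem f230847 : Led Lsl_ct (LP (LK LD1_c10 LD2_c1 LD3_c49)) = (LP (LK LD1_c15 LD2_c25 LD3_c16)) :=
  Lgr Lrot59 (Lpr_cf (f230835 IH) (Lpn (LP (LK LD1_c15 LD2_c25 LD3_c16))))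
theorem f291292 : Led Lsl_df (LP (LK LD1_c10 LD2_c0 LD3_c43)) = (LP (LK LD1_c15 LD2_c25 LD3_c16)) :=
  Lgr Lrot43 (Lpr_ct (K15.f259581 IH) (Lpe (f259584 IH) (Lpr_ct (K14.f175057 IH) (Lpe (K14.f251311 IH) (Lpe (K14.f186733 IH) (Lpr_dt (f186750 IH) (Lpr_ct (f291287 IH) (Lpe (f291284 IH) (Lpr_ct (f212280 IH) (Lpr_dt (f274858 IH) (Lpe (K16.f274846 IH) (Lpr_dt (K16.f191765 IH) (Lpr_ct (K16.f274835 IH) (Lpr_dt (f230831 IH) (Lpr_ct (f230847 IH) (Lpn (LP (LK LD1_c15 LD2_c25 LD3_c16))))))))))))))))))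
theorem f291302 : Led Lsl_dt (LP (LK LD1_c10 LD2_c0 LD3_c43)) = (LP (LK LD1_c15 LD2_c25 LD3_c16)) :=
  Lgr Lrot42 (Lpr_df (f291292 IH) (Lpn (LP (LK LD1_c15 LD2_c25 LD3_c16))))
theorem f30898 : Led Lsl_dt (LP (LK LD1_c4 LD2_c21 LD3_c0)) = (LP (LK LD1_c8 LD2_c39 LD3_c46)) :=
  Lre_d IH (LK LD1_c4 LD2_c21 LD3_c0) (LK LD1_c8 LD2_c39 LD3_c46) Lrfl Lrfl
theorem f230849 : Led Lsl_gf (LP (LK LD1_c8 LD2_c11 LD3_c34)) = (LP (LK LD1_c15 LD2_c25 LD3_c16)) :=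
  Lgr Lrot144 (Lpr_dt (f216146 IH) (Lpe (K13.f192486 IH) (Lpr_dt (f30898 IH) (Lpr_cf (K14.f230669 IH) (Lpe (K12.f230662 IH) (Lpr_gf (K12.f188010 IH) (Lpe (f188015 IH) (Lpe (f230832 IH) (Lpr_cf (f230835 IH) (Lpn (LP (LK LD1_c15 LD2_c25 LD3_c16))))))))))))
theorem f247635 : Led Lsl_dt (LP (LK LD1_c2 LD2_c29 LD3_c3)) = (LP (LK LD1_c1 LD2_c59 LD3_c52)) :=
  Lgr Lrot6 (Lpr_gt (K14.f28380 IH) (Lpe (K14.f247633 IH) (Lpr_gt (K14.f247627 IH) (Lpr_ct (K9.f170671 IH) (Lpr_df (K14.f247530 IH) (Lpr_cf (K14.f188065 IH) (Lpe (K10.f188073 IH) (Lpe (K1.f46177 IH) (Lpe (K13.f47418 IH) (Lpn (LP (LK LD1_c1 LD2_c59 LD3_c52))))))))))))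
theorem f180058 : Led Lsl_dt (LP (LK LD1_c5 LD2_c37 LD3_c3)) = (LP (LK LD1_c2 LD2_c44 LD3_c26)) :=
  Lre_d IH (LK LD1_c5 LD2_c37 LD3_c3) (LK LD1_c2 LD2_c44 LD3_c26) Lrfl Lrfl
theorem f291306 : Led Lsl_gt (LP (LK LD1_c4 LD2_c5 LD3_c3)) = (LP (LK LD1_c5 LD2_c37 LD3_c3)) :=
  Lgr Lrot94 (Lpe (K15.f187803 IH) (Lpe (K15.f259582 IH) (Lpr_dt (f291302 IH) (Lpe (f230849 IH) (Lpr_dt (f216146 IH) (Lpe (K13.f55047 IH) (Lpe (f247635 IH) (Lpr_gf (f290854 IH) (Lpe (f180058 IH) (Lpn (LP (LK LD1_c5 LD2_c37 LD3_c3))))))))))))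
theorem f291360 : Led Lsl_bt (LP (LK LD1_c8 LD2_c13 LD3_c1)) = (LP (LK LD1_c5 LD2_c37 LD3_c3)) :=
  Lgr Lrot92 (Lpe (f265233 IH) (Lpr_gt (f250441 IH) (Lpe (K16.f194188 IH) (Lpr_bt (K16.f250440 IH) (Lpr_gt (K14.f250432 IH) (Lpr_ct (K15.f249231 IH) (Lpe (K16.f250437 IH) (Lpe (K15.f187768 IH) (Lpr_bt (K15.f187801 IH) (Lpr_gt (f291306 IH) (Lpn (LP (LK LD1_c5 LD2_c37 LD3_c3)))))))))))))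
theorem f49083 : Led Lsl_ct (LP (LK LD1_c2 LD2_c35 LD3_c38)) = (LP (LK LD1_c5 LD2_c17 LD3_c48)) :=
  Lre_c IH (LK LD1_c2 LD2_c35 LD3_c38) (LK LD1_c5 LD2_c17 LD3_c48) Lrfl Lrfl
theorem f231859 : Led Lsl_bt (LP (LK LD1_c2 LD2_c35 LD3_c38)) = (LP (LK LD1_c5 LD2_c17 LD3_c41)) :=
  Lre_b IH (LK LD1_c2 LD2_c35 LD3_c38) (LK LD1_c5 LD2_c17 LD3_c41) Lrfl Lrfl
theorem f192210 : Led Lsl_ct (LP (LK LD1_c4 LD2_c3 LD3_c1)) = (LP (LK LD1_c8 LD2_c6 LD3_c40)) :=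
  Lre_c IH (LK LD1_c4 LD2_c3 LD3_c1) (LK LD1_c8 LD2_c6 LD3_c40) Lrfl Lrfl
theorem f291371 : Led Lsl_gf (LP (LK LD1_c11 LD2_c52 LD3_c39)) = (LP (LK LD1_c8 LD2_c6 LD3_c40)) :=
  Lgr Lrot129 (Lpr_cf (f265233 IH) (Lpr_bt (f291360 IH) (Lpe (K16.f278177 IH) (Lpr_bf (K10.f192148 IH) (Lpr_ct (K10.f189725 IH) (Lpe (K15.f260386 IH) (Lpe (f49083 IH) (Lpr_bt (f231859 IH) (Lpr_gt (K16.f264904 IH) (Lpr_ct (f192210 IH) (Lpn (LP (LK LD1_c8 LD2_c6 LD3_c40)))))))))))))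
theorem f265231 : Led Lsl_ct (LP (LK LD1_c11 LD2_c52 LD3_c39)) = (LP (LK LD1_c8 LD2_c13 LD3_c1)) :=
  Lgr Lrot8 (Lpr_gt (f250441 IH) (Lpr_dt (f256832 IH) (Lpr_gt (f265228 IH) (Lpr_dt (f169133 IH) (Lpe (K10.f169134 IH) (Lpe (K12.f47883 IH) (Lpe (K9.f47937 IH) (Lpe (K15.f54530 IH) (Lpe (f182530 IH) (Lpn (LP (LK LD1_c8 LD2_c13 LD3_c1))))))))))))
theorem f41774 : Led Lsl_ft (LP (LK LD1_c1 LD2_c24 LD3_c56)) = (LP (LK LD1_c2 LD2_c58 LD3_c27)) :=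
  Lre_f IH (LK LD1_c1 LD2_c24 LD3_c56) (LK LD1_c2 LD2_c58 LD3_c27) Lrfl Lrfl
theorem f183856 : Led Lsl_at (LP (LK LD1_c2 LD2_c58 LD3_c27)) = (LP (LK LD1_c1 LD2_c25 LD3_c7)) :=
  Lre_a IH (LK LD1_c2 LD2_c58 LD3_c27) (LK LD1_c1 LD2_c25 LD3_c7) Lrfl Lrfl
theorem f54581 : Led Lsl_dt (LP (LK LD1_c4 LD2_c6 LD3_c15)) = (LP (LK LD1_c8 LD2_c13 LD3_c7)) :=
  Lre_d IH (LK LD1_c4 LD2_c6 LD3_c15) (LK LD1_c8 LD2_c13 LD3_c7) Lrfl Lrfl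
theorem f183857 : Led Lsl_cf (LP (LK LD1_c6 LD2_c5 LD3_c24)) = (LP (LK LD1_c8 LD2_c13 LD3_c7)) :=
  Lgr Lrot161 (Lpr_dt (K15.f8548 IH) (Lpr_ct (K10.f8547 IH) (Lpe (f183856 IH) (Lpe (f41774 IH) (Lpr_dt (K1.f41751 IH) (Lpr_ct (K9.f183845 IH) (Lpr_dt (K1.f47938 IH) (Lpr_ct (K10.f54576 IH) (Lpr_dt (f54581 IH) (Lpn (LP (LK LD1_c8 LD2_c13 LD3_c7))))))))))))
theorem f192211 : Led Lsl_dt (LP (LK LD1_c15 LD2_c16 LD3_c22)) = (LP (LK LD1_c8 LD2_c6 LD3_c40)) :=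
  Lre_d IH (LK LD1_c15 LD2_c16 LD3_c22) (LK LD1_c8 LD2_c6 LD3_c40) Lrfl Lrfl
theorem f291375 : Led Lsl_gf (LP (LK LD1_c8 LD2_c13 LD3_c7)) = (LP (LK LD1_c15 LD2_c16 LD3_c22)) :=
  Lgr Lrot147 (Lpe (f183857 IH) (Lpr_gt (K15.f182569 IH) (Lpe (K15.f265119 IH) (Lpe (K15.f182526 IH) (Lpe (K15.f182212 IH) (Lpe (f182530 IH) (Lpe (f265231 IH) (Lpr_gf (f291371 IH) (Lpe (f192211 IH) (Lpn (LP (LK LD1_c15 LD2_c16 LD3_c22))))))))))))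
theorem f291377 : Led Lsl_dt (LP (LK LD1_c8 LD2_c6 LD3_c40)) = (LP (LK LD1_c15 LD2_c16 LD3_c22)) :=
  Lre_d IH (LK LD1_c8 LD2_c6 LD3_c40) (LK LD1_c15 LD2_c16 LD3_c22) Lrfl Lrfl
theorem f291395 : Led Lsl_gt (LP (LK LD1_c5 LD2_c10 LD3_c15)) = (LP (LK LD1_c8 LD2_c6 LD3_c40)) :=
  Lgr Lrot94 (Lpe (K16.f169078 IH) (Lpr_gt (K14.f254228 IH) (Lpr_dt (K14.f54528 IH) (Lpr_gt (K10.f54527 IH) (Lpr_dt (K1.f47938 IH) (Lpe (K15.f54518 IH) (Lpe (K1.f54577 IH) (Lpr_gf (f291375 IH) (Lpe (f291377 IH) (Lpn (LP (LK LD1_c8 LD2_c6 LD3_c40))))))))))))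
theorem f289980 : Led Lsl_ff (LP (LK LD1_c8 LD2_c13 LD3_c19)) = (LP (LK LD1_c5 LD2_c10 LD3_c15)) :=
  Lgr Lrot23 (Lpr_ct (K16.f252112 IH) (Lpr_ft (f289976 IH) (Lpr_ct (K16.f169078 IH) (Lpn (LP (LK LD1_c5 LD2_c10 LD3_c15))))))
theorem f291540 : Led Lsl_at (LP (LK LD1_c8 LD2_c13 LD3_c19)) = (LP (LK LD1_c11 LD2_c52 LD3_c39)) :=
  Lgr Lrot26 (Lpr_ff (f289980 IH) (Lpr_gt (f291395 IH) (Lpe (f291371 IH) (Lpn (LP (LK LD1_c11 LD2_c52 LD3_c39))))))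
theorem f289972 : Led Lsl_at (LP (LK LD1_c8 LD2_c13 LD3_c17)) = (LP (LK LD1_c5 LD2_c10 LD3_c15)) :=
  Lgr Lrot107 (Lpe (K14.f192886 IH) (Lpr_af (f289966 IH) (Lpe (K16.f189572 IH) (Lpn (LP (LK LD1_c5 LD2_c10 LD3_c15))))))
theorem f291545 : Led Lsl_ff (LP (LK LD1_c8 LD2_c13 LD3_c17)) = (LP (LK LD1_c11 LD2_c52 LD3_c39)) :=
  Lgr Lrot30 (Lpr_at (f289972 IH) (Lpe (f289980 IH) (Lpr_at (f291540 IH) (Lpn (LP (LK LD1_c11 LD2_c52 LD3_c39))))))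
theorem f274098 : Led Lsl_cf (LP (LK LD1_c8 LD2_c13 LD3_c46)) = (LP (LK LD1_c6 LD2_c5 LD3_c10)) :=
  Lgr Lrot14 (Lpe (f187337 IH) (Lpr_gf (K16.f194329 IH) (Lpr_df (K16.f266668 IH) (Lpe (K16.f260299 IH) (Lpr_ct (K16.f274086 IH) (Lpr_gt (K16.f195328 IH) (Lpr_dt (K16.f187780 IH) (Lpr_gt (K11.f42154 IH) (Lpr_dt (f274097 IH) (Lpn (LP (LK LD1_c6 LD2_c5 LD3_c10))))))))))))
theorem f274235 : Led Lsl_cf (LP (LK LD1_c10 LD2_c37 LD3_c17)) = (LP (LK LD1_c15 LD2_c28 LD3_c36)) :=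
  Lgr Lrot11 (Lpr_ct (K16.f274231 IH) (Lpn (LP (LK LD1_c15 LD2_c28 LD3_c36))))
theorem f184637 : Led Lsl_dt (LP (LK LD1_c10 LD2_c3 LD3_c34)) = (LP (LK LD1_c5 LD2_c6 LD3_c16)) :=
  Lre_d IH (LK LD1_c10 LD2_c3 LD3_c34) (LK LD1_c5 LD2_c6 LD3_c16) Lrfl Lrfl
theorem f274252 : Led Lsl_gf (LP (LK LD1_c6 LD2_c5 LD3_c10)) = (LP (LK LD1_c10 LD2_c3 LD3_c34)) :=
  Lgr Lrot147 (Lpe (f274098 IH) (Lpr_gt (f274245 IH) (Lpe (f274235 IH) (Lpr_df (K15.f266728 IH) (Lpr_cf (K15.f264067 IH) (Lpe (K15.f264063 IH) (Lpr_cf (K15.f264862 IH) (Lpe (K15.f166144 IH) (Lpe (f184637 IH) (Lpn (LP (LK LD1_c10 LD2_c3 LD3_c34))))))))))))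
theorem f187304 : Led Lsl_dt (LP (LK LD1_c8 LD2_c13 LD3_c46)) = (LP (LK LD1_c4 LD2_c6 LD3_c36)) :=
  Lre_d IH (LK LD1_c8 LD2_c13 LD3_c46) (LK LD1_c4 LD2_c6 LD3_c36) Lrfl Lrfl
theorem f54968 : Led Lsl_gt (LP (LK LD1_c8 LD2_c13 LD3_c51)) = (LP (LK LD1_c15 LD2_c29 LD3_c1)) :=
  Lre_g IH (LK LD1_c8 LD2_c13 LD3_c51) (LK LD1_c15 LD2_c29 LD3_c1) Lrfl Lrfl
theorem f274255 : Led Lsl_ct (LP (LK LD1_c15 LD2_c29 LD3_c1)) = (LP (LK LD1_c10 LD2_c3 LD3_c34)) :=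
  Lgr Lrot152 (Lpe (f54968 IH) (Lpe (f54967 IH) (Lpr_gt (K13.f54982 IH) (Lpr_ct (K16.f55040 IH) (Lpr_gt (K10.f47855 IH) (Lpr_ct (K10.f187336 IH) (Lpe (f187304 IH) (Lpr_cf (f274098 IH) (Lpr_gf (f274252 IH) (Lpn (LP (LK LD1_c10 LD2_c3 LD3_c34))))))))))))
theorem f274264 : Led Lsl_cf (LP (LK LD1_c15 LD2_c29 LD3_c1)) = (LP (LK LD1_c10 LD2_c3 LD3_c34)) :=
  Lgr Lrot11 (Lpr_ct (f274255 IH) (Lpn (LP (LK LD1_c10 LD2_c3 LD3_c34))))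
theorem f42477 : Led Lsl_dt (LP (LK LD1_c2 LD2_c58 LD3_c46)) = (LP (LK LD1_c6 LD2_c5 LD3_c13)) :=
  Lre_d IH (LK LD1_c2 LD2_c58 LD3_c46) (LK LD1_c6 LD2_c5 LD3_c13) Lrfl Lrfl
theorem f264906 : Led Lsl_gt (LP (LK LD1_c6 LD2_c5 LD3_c13)) = (LP (LK LD1_c10 LD2_c3 LD3_c34)) :=
  Lgr Lrot49 (Lpe (f42477 IH) (Lpe (K10.f42476 IH) (Lpe (K10.f42479 IH) (Lpr_gt (K9.f41807 IH) (Lpe (K9.f42143 IH) (Lpr_gt (K15.f264902 IH) (Lpr_dt (K10.f184626 IH) (Lpe (K15.f184638 IH) (Lpe (f184637 IH) (Lpn (LP (LK LD1_c10 LD2_c3 LD3_c34))))))))))))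
theorem f198863 : Led Lsl_bf (LP (LK LD1_c4 LD2_c20 LD3_c19)) = (LP (LK LD1_c8 LD2_c26 LD3_c8)) :=
  Lgr Lrot24 (Lpr_bt (K11.f198860 IH) (Lpn (LP (LK LD1_c8 LD2_c26 LD3_c8))))
theorem f257207 : Led Lsl_bt (LP (LK LD1_c2 LD2_c58 LD3_c45)) = (LP (LK LD1_c6 LD2_c5 LD3_c9)) :=
  Lre_b IH (LK LD1_c2 LD2_c58 LD3_c45) (LK LD1_c6 LD2_c5 LD3_c9) Lrfl Lrfl
theorem f257208 : Led Lsl_bt (LP (LK LD1_c8 LD2_c29 LD3_c19)) = (LP (LK LD1_c4 LD2_c15 LD3_c13)) :=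
  Lre_b IH (LK LD1_c8 LD2_c29 LD3_c19) (LK LD1_c4 LD2_c15 LD3_c13) Lrfl Lrfl
theorem f257209 : Led Lsl_ct (LP (LK LD1_c6 LD2_c5 LD3_c9)) = (LP (LK LD1_c8 LD2_c29 LD3_c19)) :=
  Lgr Lrot83 (Lpe (f257207 IH) (Lpr_cf (K11.f192259 IH) (Lpr_bf (f198863 IH) (Lpr_cf (K15.f257205 IH) (Lpe (f257208 IH) (Lpn (LP (LK LD1_c8 LD2_c29 LD3_c19))))))))
theorem f257248 : Led Lsl_cf (LP (LK LD1_c6 LD2_c5 LD3_c9)) = (LP (LK LD1_c8 LD2_c29 LD3_c19)) :=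
  Lgr Lrot11 (Lpr_ct (f257209 IH) (Lpn (LP (LK LD1_c8 LD2_c29 LD3_c19))))
theorem f194970 : Led Lsl_bt (LP (LK LD1_c6 LD2_c5 LD3_c9)) = (LP (LK LD1_c2 LD2_c58 LD3_c45)) :=
  Lre_b IH (LK LD1_c6 LD2_c5 LD3_c9) (LK LD1_c2 LD2_c58 LD3_c45) Lrfl Lrfl
theorem f257215 : Led Lsl_bt (LP (LK LD1_c4 LD2_c15 LD3_c13)) = (LP (LK LD1_c8 LD2_c29 LD3_c19)) :=
  Lre_b IH (LK LD1_c4 LD2_c15 LD3_c13) (LK LD1_c8 LD2_c29 LD3_c19) Lrfl Lrfl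
theorem f257319 : Led Lsl_ct (LP (LK LD1_c2 LD2_c58 LD3_c45)) = (LP (LK LD1_c4 LD2_c20 LD3_c19)) :=
  Lgr Lrot83 (Lpe (f194970 IH) (Lpr_cf (f257248 IH) (Lpe (f257215 IH) (Lpe (K15.f257211 IH) (Lpe (K11.f198860 IH) (Lpn (LP (LK LD1_c4 LD2_c20 LD3_c19))))))))
theorem f28672 : Led Lsl_ft (LP (LK LD1_c2 LD2_c7 LD3_c37)) = (LP (LK LD1_c4 LD2_c20 LD3_c22)) :=
  Lre_f IH (LK LD1_c2 LD2_c7 LD3_c37) (LK LD1_c4 LD2_c20 LD3_c22) Lrfl Lrfl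
theorem f183660 : Led Lsl_gf (LP (LK LD1_c8 LD2_c13 LD3_c13)) = (LP (LK LD1_c4 LD2_c20 LD3_c19)) :=
  Lgr Lrot76 (Lpr_af (K10.f183645 IH) (Lpe (f28672 IH) (Lpr_gt (K11.f54091 IH) (Lpn (LP (LK LD1_c4 LD2_c20 LD3_c19))))))
theorem f274134 : Led Lsl_gt (LP (LK LD1_c8 LD2_c13 LD3_c34)) = (LP (LK LD1_c8 LD2_c39 LD3_c27)) :=
  Lgr Lrot150 (Lpr_cf (K16.f274123 IH) (Lpe (K16.f187486 IH) (Lpe (K16.f187485 IH) (Lpr_gt (K11.f42154 IH) (Lpr_ct (f257319 IH) (Lpe (f183660 IH) (Lpe (K10.f190097 IH) (Lpe (K16.f42509 IH) (Lpr_cf (K16.f190125 IH) (Lpn (LP (LK LD1_c8 LD2_c39 LD3_c27))))))))))))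
theorem f274183 : Led Lsl_cf (LP (LK LD1_c6 LD2_c5 LD3_c13)) = (LP (LK LD1_c8 LD2_c13 LD3_c39)) :=
  Lgr Lrot14 (Lpe (f42477 IH) (Lpe (K10.f42476 IH) (Lpe (K16.f187790 IH) (Lpr_gf (K16.f274178 IH) (Lpe (K16.f274123 IH) (Lpr_gt (f274134 IH) (Lpr_dt (K12.f28718 IH) (Lpe (K11.f183591 IH) (Lpr_dt (K16.f183593 IH) (Lpn (LP (LK LD1_c8 LD2_c13 LD3_c39))))))))))))
theorem f274275 : Led Lsl_dt (LP (LK LD1_c15 LD2_c29 LD3_c1)) = (LP (LK LD1_c11 LD2_c52 LD3_c39)) :=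
  Lgr Lrot27 (Lpr_cf (f274264 IH) (Lpe (f264906 IH) (Lpr_cf (f274183 IH) (Lpe (K16.f195952 IH) (Lpe (K16.f274243 IH) (Lpe (K15.f265585 IH) (Lpr_ct (K15.f187981 IH) (Lpr_gt (f265242 IH) (Lpe (f265233 IH) (Lpn (LP (LK LD1_c11 LD2_c52 LD3_c39))))))))))))
theorem f291549 : Led Lsl_ft (LP (LK LD1_c15 LD2_c27 LD3_c53)) = (LP (LK LD1_c15 LD2_c29 LD3_c1)) :=
  Lgr Lrot54 (Lpe (K14.f250471 IH) (Lpr_ff (f291545 IH) (Lpe (f274275 IH) (Lpn (LP (LK LD1_c15 LD2_c29 LD3_c1))))))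
theorem f291555 : Led Lsl_ff (LP (LK LD1_c15 LD2_c27 LD3_c53)) = (LP (LK LD1_c15 LD2_c29 LD3_c1)) :=
  Lgr Lrot3 (Lpr_ft (f291549 IH) (Lpn (LP (LK LD1_c15 LD2_c29 LD3_c1))))
theorem f291561 : Led Lsl_at (LP (LK LD1_c15 LD2_c27 LD3_c53)) = (LP (LK LD1_c10 LD2_c11 LD3_c14)) :=
  Lgr Lrot33 (Lpr_ff (f291555 IH) (Lpr_dt (f274275 IH) (Lpr_ct (f265231 IH) (Lpe (f289998 IH) (Lpe (f256229 IH) (Lpr_dt (f256248 IH) (Lpr_ct (f274436 IH) (Lpe (f290010 IH) (Lpe (f274329 IH) (Lpn (LP (LK LD1_c10 LD2_c11 LD3_c14))))))))))))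
theorem f291563 : Led Lsl_af (LP (LK LD1_c15 LD2_c27 LD3_c53)) = (LP (LK LD1_c10 LD2_c11 LD3_c14)) :=
  Lgr Lrot0 (Lpr_at (f291561 IH) (Lpn (LP (LK LD1_c10 LD2_c11 LD3_c14))))
theorem f274277 : Led Lsl_df (LP (LK LD1_c15 LD2_c29 LD3_c1)) = (LP (LK LD1_c11 LD2_c52 LD3_c39)) :=
  Lgr Lrot162 (Lpr_cf (f274264 IH) (Lpe (f264906 IH) (Lpr_cf (f274183 IH) (Lpe (K16.f195952 IH) (Lpe (K16.f274237 IH) (Lpe (K15.f265585 IH) (Lpr_ct (K15.f187981 IH) (Lpr_gt (f265242 IH) (Lpe (f265233 IH) (Lpn (LP (LK LD1_c11 LD2_c52 LD3_c39))))))))))))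
theorem f291543 : Led Lsl_af (LP (LK LD1_c15 LD2_c27 LD3_c55)) = (LP (LK LD1_c15 LD2_c29 LD3_c1)) :=
  Lgr Lrot117 (Lpr_dt (K16.f252113 IH) (Lpr_at (f291540 IH) (Lpe (f274277 IH) (Lpn (LP (LK LD1_c15 LD2_c29 LD3_c1))))))
theorem f291571 : Led Lsl_ft (LP (LK LD1_c15 LD2_c27 LD3_c55)) = (LP (LK LD1_c10 LD2_c11 LD3_c14)) :=
  Lgr Lrot101 (Lpr_af (f291543 IH) (Lpe (f291549 IH) (Lpr_af (f291563 IH) (Lpn (LP (LK LD1_c10 LD2_c11 LD3_c14))))))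
theorem f291575 : Led Lsl_ff (LP (LK LD1_c15 LD2_c27 LD3_c55)) = (LP (LK LD1_c10 LD2_c11 LD3_c14)) :=
  Lgr Lrot3 (Lpr_ft (f291571 IH) (Lpn (LP (LK LD1_c10 LD2_c11 LD3_c14))))
theorem f183476 : Led Lsl_bt (LP (LK LD1_c6 LD2_c5 LD3_c36)) = (LP (LK LD1_c2 LD2_c58 LD3_c53)) :=
  Lre_b IH (LK LD1_c6 LD2_c5 LD3_c36) (LK LD1_c2 LD2_c58 LD3_c53) Lrfl Lrfl
theorem f183477 : Led Lsl_ct (LP (LK LD1_c11 LD2_c54 LD3_c45)) = (LP (LK LD1_c6 LD2_c5 LD3_c36)) :=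
  Lre_c IH (LK LD1_c11 LD2_c54 LD3_c45) (LK LD1_c6 LD2_c5 LD3_c36) Lrfl Lrfl
theorem f252116 : Led Lsl_bf (LP (LK LD1_c11 LD2_c54 LD3_c45)) = (LP (LK LD1_c8 LD2_c13 LD3_c19)) :=
  Lgr Lrot90 (Lpr_ct (f183477 IH) (Lpr_bt (f183476 IH) (Lpr_ct (K15.f183881 IH) (Lpr_bt (K14.f252114 IH) (Lpr_ct (K15.f252108 IH) (Lpn (LP (LK LD1_c8 LD2_c13 LD3_c19))))))))
theorem f252123 : Led Lsl_dt (LP (LK LD1_c11 LD2_c54 LD3_c45)) = (LP (LK LD1_c20 LD2_c59 LD3_c23)) :=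
  Lre_d IH (LK LD1_c11 LD2_c54 LD3_c45) (LK LD1_c20 LD2_c59 LD3_c23) Lrfl Lrfl
theorem f252124 : Led Lsl_bt (LP (LK LD1_c20 LD2_c59 LD3_c23)) = (LP (LK LD1_c15 LD2_c27 LD3_c55)) :=
  Lgr Lrot95 (Lpe (f252123 IH) (Lpr_bf (f252116 IH) (Lpe (K16.f252113 IH) (Lpn (LP (LK LD1_c15 LD2_c27 LD3_c55))))))
theorem f252127 : Led Lsl_bf (LP (LK LD1_c20 LD2_c59 LD3_c23)) = (LP (LK LD1_c15 LD2_c27 LD3_c55)) :=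
  Lgr Lrot24 (Lpr_bt (f252124 IH) (Lpn (LP (LK LD1_c15 LD2_c27 LD3_c55))))
theorem f274338 : Led Lsl_bt (LP (LK LD1_c18 LD2_c33 LD3_c34)) = (LP (LK LD1_c10 LD2_c11 LD3_c14)) :=
  Lre_b IH (LK LD1_c18 LD2_c33 LD3_c34) (LK LD1_c10 LD2_c11 LD3_c14) Lrfl Lrfl
theorem f291579 : Led Lsl_ft (LP (LK LD1_c20 LD2_c59 LD3_c23)) = (LP (LK LD1_c18 LD2_c33 LD3_c34)) :=
  Lgr Lrot75 (Lpr_bf (f252127 IH) (Lpr_ff (f291575 IH) (Lpe (f274338 IH) (Lpn (LP (LK LD1_c18 LD2_c33 LD3_c34))))))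
theorem f182498 : Led Lsl_dt (LP (LK LD1_c18 LD2_c33 LD3_c34)) = (LP (LK LD1_c10 LD2_c11 LD3_c13)) :=
  Lre_d IH (LK LD1_c18 LD2_c33 LD3_c34) (LK LD1_c10 LD2_c11 LD3_c13) Lrfl Lrfl
theorem f291590 : Led Lsl_ff (LP (LK LD1_c11 LD2_c54 LD3_c45)) = (LP (LK LD1_c10 LD2_c11 LD3_c13)) :=
  Lgr Lrot19 (Lpr_dt (f252123 IH) (Lpr_ft (f291579 IH) (Lpr_dt (f182498 IH) (Lpn (LP (LK LD1_c10 LD2_c11 LD3_c13))))))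
theorem f291595 : Led Lsl_ft (LP (LK LD1_c11 LD2_c54 LD3_c45)) = (LP (LK LD1_c10 LD2_c11 LD3_c13)) :=
  Lgr Lrot48 (Lpr_ff (f291590 IH) (Lpn (LP (LK LD1_c10 LD2_c11 LD3_c13))))
theorem f184916 : Led Lsl_ct (LP (LK LD1_c6 LD2_c5 LD3_c36)) = (LP (LK LD1_c11 LD2_c54 LD3_c45)) :=
  Lre_c IH (LK LD1_c6 LD2_c5 LD3_c36) (LK LD1_c11 LD2_c54 LD3_c45) Lrfl Lrfl
theorem f182497 : Led Lsl_ct (LP (LK LD1_c10 LD2_c11 LD3_c13)) = (LP (LK LD1_c5 LD2_c10 LD3_c27)) :=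
  Lre_c IH (LK LD1_c10 LD2_c11 LD3_c13) (LK LD1_c5 LD2_c10 LD3_c27) Lrfl Lrfl
theorem f291598 : Led Lsl_ff (LP (LK LD1_c6 LD2_c5 LD3_c36)) = (LP (LK LD1_c5 LD2_c10 LD3_c27)) :=
  Lgr Lrot23 (Lpr_ct (f184916 IH) (Lpr_ft (f291595 IH) (Lpr_ct (f182497 IH) (Lpn (LP (LK LD1_c5 LD2_c10 LD3_c27))))))
theorem f169073 : Led Lsl_bt (LP (LK LD1_c2 LD2_c32 LD3_c17)) = (LP (LK LD1_c5 LD2_c10 LD3_c27)) :=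
  Lre_b IH (LK LD1_c2 LD2_c32 LD3_c17) (LK LD1_c5 LD2_c10 LD3_c27) Lrfl Lrfl
theorem f291601 : Led Lsl_ft (LP (LK LD1_c2 LD2_c58 LD3_c53)) = (LP (LK LD1_c2 LD2_c32 LD3_c17)) :=
  Lgr Lrot75 (Lpe (f183476 IH) (Lpr_ff (f291598 IH) (Lpe (f169073 IH) (Lpn (LP (LK LD1_c2 LD2_c32 LD3_c17))))))
theorem f291605 : Led Lsl_af (LP (LK LD1_c2 LD2_c29 LD3_c11)) = (LP (LK LD1_c2 LD2_c32 LD3_c17)) :=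
  Lgr Lrot31 (Lpr_gf (K15.f193955 IH) (Lpe (K14.f181192 IH) (Lpr_ft (f291601 IH) (Lpn (LP (LK LD1_c2 LD2_c32 LD3_c17))))))
theorem f291609 : Led Lsl_et (LP (LK LD1_c2 LD2_c29 LD3_c11)) = (LP (LK LD1_c5 LD2_c3 LD3_c16)) :=
  Lre_e IH (LK LD1_c2 LD2_c29 LD3_c11) (LK LD1_c5 LD2_c3 LD3_c16) Lrfl Lrfl
theorem f182506 : Led Lsl_et (LP (LK LD1_c5 LD2_c10 LD3_c26)) = (LP (LK LD1_c2 LD2_c32 LD3_c17)) :=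
  Lre_e IH (LK LD1_c5 LD2_c10 LD3_c26) (LK LD1_c2 LD2_c32 LD3_c17) Lrfl Lrfl
theorem f291610 : Led Lsl_at (LP (LK LD1_c5 LD2_c3 LD3_c16)) = (LP (LK LD1_c5 LD2_c10 LD3_c26)) :=
  Lgr Lrot80 (Lpe (f291609 IH) (Lpr_af (f291605 IH) (Lpe (f182506 IH) (Lpn (LP (LK LD1_c5 LD2_c10 LD3_c26))))))
theorem f291612 : Led Lsl_af (LP (LK LD1_c5 LD2_c3 LD3_c16)) = (LP (LK LD1_c5 LD2_c10 LD3_c26)) :=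
  Lgr Lrot0 (Lpr_at (f291610 IH) (Lpn (LP (LK LD1_c5 LD2_c10 LD3_c26))))
theorem f257646 : Led Lsl_ct (LP (LK LD1_c5 LD2_c3 LD3_c16)) = (LP (LK LD1_c2 LD2_c29 LD3_c9)) :=
  Lre_c IH (LK LD1_c5 LD2_c3 LD3_c16) (LK LD1_c2 LD2_c29 LD3_c9) Lrfl Lrfl
theorem f183096 : Led Lsl_ct (LP (LK LD1_c2 LD2_c32 LD3_c15)) = (LP (LK LD1_c5 LD2_c10 LD3_c26)) :=
  Lre_c IH (LK LD1_c2 LD2_c32 LD3_c15) (LK LD1_c5 LD2_c10 LD3_c26) Lrfl Lrfl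
theorem f291614 : Led Lsl_at (LP (LK LD1_c2 LD2_c29 LD3_c9)) = (LP (LK LD1_c2 LD2_c32 LD3_c15)) :=
  Lgr Lrot107 (Lpe (f257646 IH) (Lpr_af (f291612 IH) (Lpe (f183096 IH) (Lpn (LP (LK LD1_c2 LD2_c32 LD3_c15))))))
theorem f291619 : Led Lsl_et (LP (LK LD1_c1 LD2_c11 LD3_c43)) = (LP (LK LD1_c2 LD2_c29 LD3_c9)) :=
  Lre_e IH (LK LD1_c1 LD2_c11 LD3_c43) (LK LD1_c2 LD2_c29 LD3_c9) Lrfl Lrfl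
theorem f169079 : Led Lsl_et (LP (LK LD1_c2 LD2_c32 LD3_c15)) = (LP (LK LD1_c1 LD2_c13 LD3_c8)) :=
  Lre_e IH (LK LD1_c2 LD2_c32 LD3_c15) (LK LD1_c1 LD2_c13 LD3_c8) Lrfl Lrfl
theorem f291620 : Led Lsl_af (LP (LK LD1_c1 LD2_c11 LD3_c43)) = (LP (LK LD1_c1 LD2_c13 LD3_c8)) :=
  Lgr Lrot50 (Lpr_et (f291619 IH) (Lpr_at (f291614 IH) (Lpr_et (f169079 IH) (Lpn (LP (LK LD1_c1 LD2_c13 LD3_c8))))))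
theorem f289986 : Led Lsl_ft (LP (LK LD1_c2 LD2_c0 LD3_c42)) = (LP (LK LD1_c1 LD2_c13 LD3_c8)) :=
  Lgr Lrot75 (Lpr_bf (f252106 IH) (Lpr_ff (f289984 IH) (Lpe (K14.f182503 IH) (Lpn (LP (LK LD1_c1 LD2_c13 LD3_c8))))))
theorem f291369 : Led Lsl_af (LP (LK LD1_c2 LD2_c0 LD3_c42)) = (LP (LK LD1_c1 LD2_c18 LD3_c35)) :=
  Lgr Lrot36 (Lpr_bt (K14.f252114 IH) (Lpr_at (f289992 IH) (Lpr_bt (f291360 IH) (Lpr_at (f180048 IH) (Lpr_bt (K14.f178449 IH) (Lpn (LP (LK LD1_c1 LD2_c18 LD3_c35))))))))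
theorem f291626 : Led Lsl_ft (LP (LK LD1_c1 LD2_c11 LD3_c43)) = (LP (LK LD1_c1 LD2_c18 LD3_c35)) :=
  Lgr Lrot101 (Lpr_af (f291620 IH) (Lpe (f289986 IH) (Lpr_af (f291369 IH) (Lpn (LP (LK LD1_c1 LD2_c18 LD3_c35))))))
theorem f291628 : Led Lsl_ff (LP (LK LD1_c2 LD2_c29 LD3_c4)) = (LP (LK LD1_c2 LD2_c44 LD3_c27)) :=
  Lgr Lrot25 (Lpr_bt (K15.f21302 IH) (Lpr_ft (f291626 IH) (Lpr_bt (K16.f179997 IH) (Lpn (LP (LK LD1_c2 LD2_c44 LD3_c27))))))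
theorem f291642 : Led Lsl_ft (LP (LK LD1_c5 LD2_c3 LD3_c3)) = (LP (LK LD1_c5 LD2_c37 LD3_c4)) :=
  Lgr Lrot4 (Lpe (K13.f21303 IH) (Lpr_ff (f291628 IH) (Lpe (f178450 IH) (Lpn (LP (LK LD1_c5 LD2_c37 LD3_c4))))))
theorem f192143 : Led Lsl_dt (LP (LK LD1_c5 LD2_c3 LD3_c3)) = (LP (LK LD1_c9 LD2_c56 LD3_c57)) :=
  Lre_d IH (LK LD1_c5 LD2_c3 LD3_c3) (LK LD1_c9 LD2_c56 LD3_c57) Lrfl Lrfl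
theorem f284671 : Led Lsl_ct (LP (LK LD1_c9 LD2_c56 LD3_c57)) = (LP (LK LD1_c10 LD2_c16 LD3_c26)) :=
  Lgr Lrot59 (Lpr_cf (f284667 IH) (Lpn (LP (LK LD1_c10 LD2_c16 LD3_c26))))
theorem f253458 : Led Lsl_dt (LP (LK LD1_c2 LD2_c33 LD3_c24)) = (LP (LK LD1_c4 LD2_c10 LD3_c2)) :=
  Lgr Lrot42 (Lpr_df (K14.f253456 IH) (Lpn (LP (LK LD1_c4 LD2_c10 LD3_c2))))
theorem f276644 : Led Lsl_cf (LP (LK LD1_c2 LD2_c44 LD3_c26)) = (LP (LK LD1_c4 LD2_c10 LD3_c2)) :=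
  Lgr Lrot39 (Lpe (K16.f180055 IH) (Lpr_ct (K16.f276638 IH) (Lpe (K14.f247417 IH) (Lpn (LP (LK LD1_c4 LD2_c10 LD3_c2))))))
theorem f201883 : Led Lsl_gt (LP (LK LD1_c5 LD2_c12 LD3_c36)) = (LP (LK LD1_c10 LD2_c15 LD3_c34)) :=
  Lre_g IH (LK LD1_c5 LD2_c12 LD3_c36) (LK LD1_c10 LD2_c15 LD3_c34) Lrfl Lrfl
theorem f291649 : Led Lsl_af (LP (LK LD1_c10 LD2_c15 LD3_c34)) = (LP (LK LD1_c5 LD2_c37 LD3_c4)) :=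
  Lgr Lrot31 (Lpe (f201883 IH) (Lpr_gf (K13.f192140 IH) (Lpr_ft (f291642 IH) (Lpn (LP (LK LD1_c5 LD2_c37 LD3_c4))))))
theorem f291651 : Led Lsl_ct (LP (LK LD1_c5 LD2_c37 LD3_c3)) = (LP (LK LD1_c10 LD2_c15 LD3_c34)) :=
  Lgr Lrot98 (Lpe (K16.f180061 IH) (Lpr_cf (f276644 IH) (Lpe (f253458 IH) (Lpe (K14.f165538 IH) (Lpe (f238281 IH) (Lpe (f284671 IH) (Lpe (f192143 IH) (Lpr_ft (f291642 IH) (Lpe (f291649 IH) (Lpn (LP (LK LD1_c10 LD2_c15 LD3_c34))))))))))))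
theorem f291663 : Led Lsl_dt (LP (LK LD1_c15 LD2_c25 LD3_c40)) = (LP (LK LD1_c10 LD2_c15 LD3_c34)) :=
  Lgr Lrot113 (Lpe (f218566 IH) (Lpe (K14.f188067 IH) (Lpe (K10.f188073 IH) (Lpr_ct (K14.f47265 IH) (Lpr_gt (K9.f182550 IH) (Lpr_dt (f251594 IH) (Lpr_gt (K16.f278195 IH) (Lpr_dt (K16.f180061 IH) (Lpr_ct (f291651 IH) (Lpn (LP (LK LD1_c10 LD2_c15 LD3_c34))))))))))))
theorem f284726 : Led Lsl_cf (LP (LK LD1_c15 LD2_c25 LD3_c40)) = (LP (LK LD1_c10 LD2_c16 LD3_c28)) :=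
  Lgr Lrot11 (Lpr_ct (f284721 IH) (Lpn (LP (LK LD1_c10 LD2_c16 LD3_c28))))
theorem f291655 : Led Lsl_cf (LP (LK LD1_c5 LD2_c37 LD3_c3)) = (LP (LK LD1_c10 LD2_c15 LD3_c34)) :=
  Lgr Lrot11 (Lpr_ct (f291651 IH) (Lpn (LP (LK LD1_c10 LD2_c15 LD3_c34))))
theorem f237898 : Led Lsl_ff (LP (LK LD1_c4 LD2_c5 LD3_c11)) = (LP (LK LD1_c5 LD2_c37 LD3_c3)) :=
  Lgr Lrot3 (Lpr_ft (f237896 IH) (Lpn (LP (LK LD1_c5 LD2_c37 LD3_c3))))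
theorem f278193 : Led Lsl_af (LP (LK LD1_c2 LD2_c29 LD3_c4)) = (LP (LK LD1_c4 LD2_c5 LD3_c11)) :=
  Lgr Lrot31 (Lpe (K10.f192136 IH) (Lpr_gf (K16.f278177 IH) (Lpe (f237898 IH) (Lpn (LP (LK LD1_c4 LD2_c5 LD3_c11))))))
theorem f284677 : Led Lsl_ct (LP (LK LD1_c2 LD2_c44 LD3_c26)) = (LP (LK LD1_c4 LD2_c10 LD3_c2)) :=
  Lgr Lrot133 (Lpe (f180058 IH) (Lpe (f237898 IH) (Lpe (f278193 IH) (Lpe (K15.f192146 IH) (Lpe (K15.f192142 IH) (Lpr_cf (f284667 IH) (Lpe (f238282 IH) (Lpe (K14.f165532 IH) (Lpr_df (K14.f253456 IH) (Lpn (LP (LK LD1_c4 LD2_c10 LD3_c2))))))))))))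
theorem f243029 : Led Lsl_dt (LP (LK LD1_c4 LD2_c1 LD3_c59)) = (LP (LK LD1_c2 LD2_c8 LD3_c18)) :=
  Lgr Lrot6 (Lpr_gt (K13.f193631 IH) (Lpr_ct (K13.f229126 IH) (Lpe (K13.f242847 IH) (Lpr_ct (K13.f169628 IH) (Lpr_df (K10.f177601 IH) (Lpr_cf (K13.f242593 IH) (Lpe (K13.f175053 IH) (Lpr_cf (K13.f243020 IH) (Lpe (K13.f243028 IH) (Lpn (LP (LK LD1_c2 LD2_c8 LD3_c18))))))))))))
theorem f269263 : Led Lsl_at (LP (LK LD1_c2 LD2_c8 LD3_c18)) = (LP (LK LD1_c2 LD2_c3 LD3_c15)) :=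
  Lgr Lrot51 (Lpe (f243029 IH) (Lpr_af (K16.f269254 IH) (Lpe (K13.f237003 IH) (Lpn (LP (LK LD1_c2 LD2_c3 LD3_c15))))))
theorem f256476 : Led Lsl_bt (LP (LK LD1_c4 LD2_c10 LD3_c2)) = (LP (LK LD1_c8 LD2_c7 LD3_c20)) :=
  Lgr Lrot127 (Lpr_bf (K15.f256474 IH) (Lpn (LP (LK LD1_c8 LD2_c7 LD3_c20))))
theorem f288572 : Led Lsl_at (LP (LK LD1_c2 LD2_c2 LD3_c23)) = (LP (LK LD1_c4 LD2_c10 LD3_c2)) :=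
  Lgr Lrot67 (Lpe (f253970 IH) (Lpe (f269263 IH) (Lpr_bf (f288570 IH) (Lpr_af (f288537 IH) (Lpe (f256476 IH) (Lpn (LP (LK LD1_c4 LD2_c10 LD3_c2))))))))
theorem f292132 : Led Lsl_ft (LP (LK LD1_c1 LD2_c15 LD3_c45)) = (LP (LK LD1_c2 LD2_c2 LD3_c23)) :=
  Lgr Lrot142 (Lpe (K14.f251568 IH) (Lpr_ct (K13.f183907 IH) (Lpr_dt (f230687 IH) (Lpe (f284726 IH) (Lpr_dt (f291663 IH) (Lpe (f291655 IH) (Lpr_dt (f180058 IH) (Lpr_ct (f284677 IH) (Lpe (f288572 IH) (Lpn (LP (LK LD1_c2 LD2_c2 LD3_c23))))))))))))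
theorem f292136 : Led Lsl_ff (LP (LK LD1_c1 LD2_c15 LD3_c45)) = (LP (LK LD1_c2 LD2_c2 LD3_c23)) :=
  Lgr Lrot3 (Lpr_ft (f292132 IH) (Lpn (LP (LK LD1_c2 LD2_c2 LD3_c23))))
theorem f292140 : Led Lsl_at (LP (LK LD1_c1 LD2_c15 LD3_c45)) = (LP (LK LD1_c2 LD2_c2 LD3_c22)) :=
  Lgr Lrot26 (Lpr_ff (f292136 IH) (Lpr_gt (K14.f170843 IH) (Lpr_gt (K16.f170657 IH) (Lpn (LP (LK LD1_c2 LD2_c2 LD3_c22))))))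
theorem f284078 : Led Lsl_ff (LP (LK LD1_c4 LD2_c10 LD3_c2)) = (LP (LK LD1_c2 LD2_c2 LD3_c22)) :=
  Lgr Lrot23 (Lpe (f276644 IH) (Lpr_ft (f283962 IH) (Lpr_ct (f284070 IH) (Lpn (LP (LK LD1_c2 LD2_c2 LD3_c22))))))
theorem f292148 : Led Lsl_af (LP (LK LD1_c2 LD2_c2 LD3_c23)) = (LP (LK LD1_c4 LD2_c10 LD3_c2)) :=
  Lgr Lrot45 (Lpe (f292136 IH) (Lpr_at (f292140 IH) (Lpe (f284078 IH) (Lpn (LP (LK LD1_c4 LD2_c10 LD3_c2))))))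
theorem f292152 : Led Lsl_at (LP (LK LD1_c2 LD2_c3 LD3_c14)) = (LP (LK LD1_c2 LD2_c6 LD3_c3)) :=
  Lgr Lrot80 (Lpe (K15.f261292 IH) (Lpr_af (f292148 IH) (Lpr_ef (K14.f247417 IH) (Lpn (LP (LK LD1_c2 LD2_c6 LD3_c3))))))
theorem f292154 : Led Lsl_af (LP (LK LD1_c1 LD2_c58 LD3_c56)) = (LP (LK LD1_c1 LD2_c2 LD3_c38)) :=
  Lgr Lrot117 (Lpr_dt (K15.f211276 IH) (Lpr_at (f292152 IH) (Lpr_dt (K14.f247412 IH) (Lpn (LP (LK LD1_c1 LD2_c2 LD3_c38))))))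
theorem f250480 : Led Lsl_cf (LP (LK LD1_c4 LD2_c6 LD3_c18)) = (LP (LK LD1_c4 LD2_c3 LD3_c43)) :=
  Lgr Lrot11 (Lpr_ct (K14.f250478 IH) (Lpn (LP (LK LD1_c4 LD2_c3 LD3_c43))))
theorem f253284 : Led Lsl_df (LP (LK LD1_c2 LD2_c6 LD3_c3)) = (LP (LK LD1_c1 LD2_c2 LD3_c38)) :=
  Lgr Lrot155 (Lpr_gt (K14.f246149 IH) (Lpe (K16.f253266 IH) (Lpr_gt (K14.f253280 IH) (Lpe (f250480 IH) (Lpe (K12.f187414 IH) (Lpe (K14.f173149 IH) (Lpe (K9.f173124 IH) (Lpe (K9.f173123 IH) (Lpe (K12.f41558 IH) (Lpn (LP (LK LD1_c1 LD2_c2 LD3_c38))))))))))))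
theorem f265400 : Led Lsl_ff (LP (LK LD1_c1 LD2_c2 LD3_c38)) = (LP (LK LD1_c2 LD2_c10 LD3_c60)) :=
  Lgr Lrot19 (Lpe (f253284 IH) (Lpr_ft (K15.f265396 IH) (Lpr_dt (K11.f44594 IH) (Lpn (LP (LK LD1_c2 LD2_c10 LD3_c60))))))
theorem f265394 : Led Lsl_at (LP (LK LD1_c1 LD2_c2 LD3_c39)) = (LP (LK LD1_c2 LD2_c10 LD3_c60)) :=
  Lgr Lrot51 (Lpe (K14.f253282 IH) (Lpr_af (K15.f265387 IH) (Lpr_df (K15.f44639 IH) (Lpn (LP (LK LD1_c2 LD2_c10 LD3_c60))))))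
theorem f292162 : Led Lsl_ft (LP (LK LD1_c1 LD2_c58 LD3_c56)) = (LP (LK LD1_c1 LD2_c2 LD3_c39)) :=
  Lgr Lrot101 (Lpr_af (f292154 IH) (Lpr_ff (f265400 IH) (Lpe (f265394 IH) (Lpn (LP (LK LD1_c1 LD2_c2 LD3_c39))))))
theorem f292170 : Led Lsl_ff (LP (LK LD1_c1 LD2_c58 LD3_c56)) = (LP (LK LD1_c1 LD2_c2 LD3_c39)) :=
  Lgr Lrot3 (Lpr_ft (f292162 IH) (Lpn (LP (LK LD1_c1 LD2_c2 LD3_c39))))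
theorem f242940 : Led Lsl_ft (LP (LK LD1_c4 LD2_c3 LD3_c54)) = (LP (LK LD1_c8 LD2_c8 LD3_c15)) :=
  Lre_f IH (LK LD1_c4 LD2_c3 LD3_c54) (LK LD1_c8 LD2_c8 LD3_c15) Lrfl Lrfl
theorem f292174 : Led Lsl_et (LP (LK LD1_c8 LD2_c8 LD3_c15)) = (LP (LK LD1_c4 LD2_c28 LD3_c21)) :=
  Lgr Lrot69 (Lpe (f242940 IH) (Lpe (K15.f242937 IH) (Lpr_ff (f292170 IH) (Lpe (K15.f41556 IH) (Lpe (K16.f223539 IH) (Lpn (LP (LK LD1_c4 LD2_c28 LD3_c21))))))))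
theorem f292180 : Led Lsl_ct (LP (LK LD1_c15 LD2_c19 LD3_c18)) = (LP (LK LD1_c8 LD2_c8 LD3_c15)) :=
  Lre_c IH (LK LD1_c15 LD2_c19 LD3_c18) (LK LD1_c8 LD2_c8 LD3_c15) Lrfl Lrfl
theorem f292181 : Led Lsl_ef (LP (LK LD1_c15 LD2_c19 LD3_c18)) = (LP (LK LD1_c8 LD2_c54 LD3_c44)) :=
  Lgr Lrot28 (Lpr_ct (f292180 IH) (Lpr_et (f292174 IH) (Lpr_ct (K16.f223418 IH) (Lpn (LP (LK LD1_c8 LD2_c54 LD3_c44))))))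
theorem f292189 : Led Lsl_et (LP (LK LD1_c15 LD2_c19 LD3_c18)) = (LP (LK LD1_c8 LD2_c54 LD3_c44)) :=
  Lgr Lrot87 (Lpr_ef (f292181 IH) (Lpn (LP (LK LD1_c8 LD2_c54 LD3_c44))))
theorem f292194 : Led Lsl_bt (LP (LK LD1_c25 LD2_c10 LD3_c15)) = (LP (LK LD1_c15 LD2_c19 LD3_c18)) :=
  Lre_b IH (LK LD1_c25 LD2_c10 LD3_c15) (LK LD1_c15 LD2_c19 LD3_c18) Lrfl Lrfl
theorem f223433 : Led Lsl_bt (LP (LK LD1_c8 LD2_c54 LD3_c44)) = (LP (LK LD1_c16 LD2_c40 LD3_c13)) :=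
  Lre_b IH (LK LD1_c8 LD2_c54 LD3_c44) (LK LD1_c16 LD2_c40 LD3_c13) Lrfl Lrfl
theorem f292195 : Led Lsl_ef (LP (LK LD1_c25 LD2_c10 LD3_c15)) = (LP (LK LD1_c16 LD2_c40 LD3_c13)) :=
  Lgr Lrot29 (Lpr_bt (f292194 IH) (Lpr_et (f292189 IH) (Lpr_bt (f223433 IH) (Lpn (LP (LK LD1_c16 LD2_c40 LD3_c13))))))
theorem f292202 : Led Lsl_ft (LP (LK LD1_c25 LD2_c10 LD3_c15)) = (LP (LK LD1_c15 LD2_c19 LD3_c13)) :=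
  Lre_f IH (LK LD1_c25 LD2_c10 LD3_c15) (LK LD1_c15 LD2_c19 LD3_c13) Lrfl Lrfl
theorem f292203 : Led Lsl_et (LP (LK LD1_c15 LD2_c19 LD3_c13)) = (LP (LK LD1_c8 LD2_c8 LD3_c11)) :=
  Lre_e IH (LK LD1_c15 LD2_c19 LD3_c13) (LK LD1_c8 LD2_c8 LD3_c11) Lrfl Lrfl
theorem f223435 : Led Lsl_ft (LP (LK LD1_c8 LD2_c54 LD3_c39)) = (LP (LK LD1_c16 LD2_c40 LD3_c13)) :=
  Lre_f IH (LK LD1_c8 LD2_c54 LD3_c39) (LK LD1_c16 LD2_c40 LD3_c13) Lrfl Lrfl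
theorem f223543 : Led Lsl_et (LP (LK LD1_c4 LD2_c28 LD3_c15)) = (LP (LK LD1_c8 LD2_c54 LD3_c39)) :=
  Lre_e IH (LK LD1_c4 LD2_c28 LD3_c15) (LK LD1_c8 LD2_c54 LD3_c39) Lrfl Lrfl
theorem f292204 : Led Lsl_ft (LP (LK LD1_c8 LD2_c8 LD3_c11)) = (LP (LK LD1_c4 LD2_c28 LD3_c15)) :=
  Lgr Lrot86 (Lpe (f292203 IH) (Lpe (f292202 IH) (Lpr_ef (f292195 IH) (Lpe (f223435 IH) (Lpe (f223543 IH) (Lpn (LP (LK LD1_c4 LD2_c28 LD3_c15))))))))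
theorem f292212 : Led Lsl_ff (LP (LK LD1_c8 LD2_c8 LD3_c11)) = (LP (LK LD1_c4 LD2_c28 LD3_c15)) :=
  Lgr Lrot3 (Lpr_ft (f292204 IH) (Lpn (LP (LK LD1_c4 LD2_c28 LD3_c15))))
theorem f227161 : Led Lsl_dt (LP (LK LD1_c8 LD2_c8 LD3_c11)) = (LP (LK LD1_c15 LD2_c19 LD3_c12)) :=
  Lre_d IH (LK LD1_c8 LD2_c8 LD3_c11) (LK LD1_c15 LD2_c19 LD3_c12) Lrfl Lrfl
theorem f223475 : Led Lsl_dt (LP (LK LD1_c8 LD2_c54 LD3_c38)) = (LP (LK LD1_c4 LD2_c28 LD3_c15)) :=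
  Lre_d IH (LK LD1_c8 LD2_c54 LD3_c38) (LK LD1_c4 LD2_c28 LD3_c15) Lrfl Lrfl
theorem f292221 : Led Lsl_ft (LP (LK LD1_c15 LD2_c19 LD3_c12)) = (LP (LK LD1_c8 LD2_c54 LD3_c38)) :=
  Lgr Lrot54 (Lpe (f227161 IH) (Lpr_ff (f292212 IH) (Lpe (f223475 IH) (Lpn (LP (LK LD1_c8 LD2_c54 LD3_c38))))))
theorem f276605 : Led Lsl_bt (LP (LK LD1_c8 LD2_c8 LD3_c12)) = (LP (LK LD1_c15 LD2_c19 LD3_c12)) :=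
  Lre_b IH (LK LD1_c8 LD2_c8 LD3_c12) (LK LD1_c15 LD2_c19 LD3_c12) Lrfl Lrfl
theorem f265472 : Led Lsl_bt (LP (LK LD1_c8 LD2_c54 LD3_c38)) = (LP (LK LD1_c4 LD2_c28 LD3_c16)) :=
  Lre_b IH (LK LD1_c8 LD2_c54 LD3_c38) (LK LD1_c4 LD2_c28 LD3_c16) Lrfl Lrfl
theorem f292335 : Led Lsl_ff (LP (LK LD1_c8 LD2_c8 LD3_c12)) = (LP (LK LD1_c4 LD2_c28 LD3_c16)) :=
  Lgr Lrot25 (Lpr_bt (f276605 IH) (Lpr_ft (f292221 IH) (Lpr_bt (f265472 IH) (Lpn (LP (LK LD1_c4 LD2_c28 LD3_c16))))))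
theorem f292348 : Led Lsl_ft (LP (LK LD1_c8 LD2_c8 LD3_c12)) = (LP (LK LD1_c4 LD2_c28 LD3_c16)) :=
  Lgr Lrot48 (Lpr_ff (f292335 IH) (Lpn (LP (LK LD1_c4 LD2_c28 LD3_c16))))
theorem f265467 : Led Lsl_dt (LP (LK LD1_c2 LD2_c11 LD3_c16)) = (LP (LK LD1_c4 LD2_c28 LD3_c16)) :=
  Lre_d IH (LK LD1_c2 LD2_c11 LD3_c16) (LK LD1_c4 LD2_c28 LD3_c16) Lrfl Lrfl
theorem f265468 : Led Lsl_at (LP (LK LD1_c4 LD2_c28 LD3_c16)) = (LP (LK LD1_c8 LD2_c52 LD3_c59)) :=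
  Lgr Lrot51 (Lpe (f265467 IH) (Lpr_af (K16.f265458 IH) (Lpe (K16.f44646 IH) (Lpn (LP (LK LD1_c8 LD2_c52 LD3_c59))))))
theorem f292355 : Led Lsl_gt (LP (LK LD1_c8 LD2_c53 LD3_c34)) = (LP (LK LD1_c8 LD2_c52 LD3_c59)) :=
  Lgr Lrot46 (Lpe (K16.f278886 IH) (Lpr_ft (f292348 IH) (Lpr_at (f265468 IH) (Lpn (LP (LK LD1_c8 LD2_c52 LD3_c59))))))
theorem f219464 : Led Lsl_dt (LP (LK LD1_c8 LD2_c39 LD3_c60)) = (LP (LK LD1_c4 LD2_c21 LD3_c11)) :=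
  Lre_d IH (LK LD1_c8 LD2_c39 LD3_c60) (LK LD1_c4 LD2_c21 LD3_c11) Lrfl Lrfl
theorem f292357 : Led Lsl_gt (LP (LK LD1_c8 LD2_c37 LD3_c16)) = (LP (LK LD1_c8 LD2_c39 LD3_c60)) :=
  Lgr Lrot94 (Lpr_cf (K16.f278893 IH) (Lpr_gt (f292355 IH) (Lpr_dt (K16.f44646 IH) (Lpe (K15.f213484 IH) (Lpr_dt (K15.f54099 IH) (Lpr_cf (K12.f219384 IH) (Lpe (K12.f219383 IH) (Lpe (K12.f219460 IH) (Lpe (f219464 IH) (Lpn (LP (LK LD1_c8 LD2_c39 LD3_c60))))))))))))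
theorem f187443 : Led Lsl_dt (LP (LK LD1_c2 LD2_c11 LD3_c19)) = (LP (LK LD1_c4 LD2_c28 LD3_c28)) :=
  Lre_d IH (LK LD1_c2 LD2_c11 LD3_c19) (LK LD1_c4 LD2_c28 LD3_c28) Lrfl Lrfl
theorem f292362 : Led Lsl_cf (LP (LK LD1_c4 LD2_c28 LD3_c28)) = (LP (LK LD1_c8 LD2_c39 LD3_c60)) :=
  Lgr Lrot99 (Lpe (f187443 IH) (Lpe (K9.f173125 IH) (Lpr_gf (K12.f219381 IH) (Lpe (K15.f220798 IH) (Lpe (K15.f218816 IH) (Lpe (K16.f201297 IH) (Lpr_gt (K16.f278886 IH) (Lpe (K16.f278893 IH) (Lpr_gt (f292357 IH) (Lpn (LP (LK LD1_c8 LD2_c39 LD3_c60))))))))))))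
theorem f278718 : Led Lsl_cf (LP (LK LD1_c8 LD2_c54 LD3_c55)) = (LP (LK LD1_c8 LD2_c24 LD3_c24)) :=
  Lgr Lrot11 (Lpr_ct (K16.f278712 IH) (Lpn (LP (LK LD1_c8 LD2_c24 LD3_c24))))
theorem f223201 : Led Lsl_gt (LP (LK LD1_c8 LD2_c54 LD3_c23)) = (LP (LK LD1_c4 LD2_c28 LD3_c9)) :=
  Lre_g IH (LK LD1_c8 LD2_c54 LD3_c23) (LK LD1_c4 LD2_c28 LD3_c9) Lrfl Lrfl
theorem f267281 : Led Lsl_gf (LP (LK LD1_c4 LD2_c27 LD3_c32)) = (LP (LK LD1_c8 LD2_c7 LD3_c15)) :=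
  Lgr Lrot144 (Lpe (K15.f267216 IH) (Lpr_gt (K15.f267278 IH) (Lpr_dt (K12.f53646 IH) (Lpe (K15.f53644 IH) (Lpe (K9.f44529 IH) (Lpr_gf (K12.f219284 IH) (Lpe (K14.f219289 IH) (Lpe (K14.f254888 IH) (Lpe (K14.f254827 IH) (Lpn (LP (LK LD1_c8 LD2_c7 LD3_c15))))))))))))
theorem f278730 : Led Lsl_dt (LP (LK LD1_c8 LD2_c54 LD3_c23)) = (LP (LK LD1_c8 LD2_c7 LD3_c15)) :=
  Lgr Lrot6 (Lpr_gt (f223201 IH) (Lpe (K16.f276427 IH) (Lpe (K16.f250507 IH) (Lpe (f278718 IH) (Lpr_df (K16.f278720 IH) (Lpe (K12.f199126 IH) (Lpe (K14.f223292 IH) (Lpe (K15.f220857 IH) (Lpr_gf (f267281 IH) (Lpn (LP (LK LD1_c8 LD2_c7 LD3_c15))))))))))))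
theorem f278735 : Led Lsl_df (LP (LK LD1_c8 LD2_c54 LD3_c23)) = (LP (LK LD1_c8 LD2_c7 LD3_c15)) :=
  Lgr Lrot38 (Lpr_dt (f278730 IH) (Lpn (LP (LK LD1_c8 LD2_c7 LD3_c15))))
theorem f253259 : Led Lsl_df (LP (LK LD1_c2 LD2_c7 LD3_c23)) = (LP (LK LD1_c2 LD2_c3 LD3_c24)) :=
  Lgr Lrot155 (Lpr_gt (K14.f253245 IH) (Lpr_ct (K14.f253249 IH) (Lpr_gt (K14.f7845 IH) (Lpr_ct (K11.f201107 IH) (Lpr_dt (K12.f201230 IH) (Lpe (K15.f237119 IH) (Lpe (K15.f236995 IH) (Lpe (K15.f166487 IH) (Lpe (K16.f166984 IH) (Lpn (LP (LK LD1_c2 LD2_c3 LD3_c24))))))))))))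
theorem f267325 : Led Lsl_ct (LP (LK LD1_c4 LD2_c12 LD3_c22)) = (LP (LK LD1_c2 LD2_c3 LD3_c24)) :=
  Lre_c IH (LK LD1_c4 LD2_c12 LD3_c22) (LK LD1_c2 LD2_c3 LD3_c24) Lrfl Lrfl
theorem f271017 : Led Lsl_gt (LP (LK LD1_c4 LD2_c8 LD3_c59)) = (LP (LK LD1_c4 LD2_c12 LD3_c22)) :=
  Lgr Lrot150 (Lpe (K12.f167093 IH) (Lpe (K15.f219591 IH) (Lpe (K15.f260997 IH) (Lpr_gt (K15.f254961 IH) (Lpr_ct (K14.f251399 IH) (Lpr_gt (K16.f271013 IH) (Lpr_ct (K16.f253258 IH) (Lpr_df (f253259 IH) (Lpe (f267325 IH) (Lpn (LP (LK LD1_c4 LD2_c12 LD3_c22))))))))))))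
theorem f278756 : Led Lsl_dt (LP (LK LD1_c4 LD2_c12 LD3_c22)) = (LP (LK LD1_c8 LD2_c24 LD3_c19)) :=
  Lre_d IH (LK LD1_c4 LD2_c12 LD3_c22) (LK LD1_c8 LD2_c24 LD3_c19) Lrfl Lrfl
theorem f278759 : Led Lsl_cf (LP (LK LD1_c8 LD2_c54 LD3_c23)) = (LP (LK LD1_c8 LD2_c24 LD3_c19)) :=
  Lgr Lrot14 (Lpr_df (f278735 IH) (Lpe (K14.f199496 IH) (Lpe (K15.f28925 IH) (Lpe (K15.f213498 IH) (Lpr_ct (K15.f219388 IH) (Lpr_gt (K15.f219763 IH) (Lpr_dt (K15.f219660 IH) (Lpr_gt (f271017 IH) (Lpr_dt (f278756 IH) (Lpn (LP (LK LD1_c8 LD2_c24 LD3_c19))))))))))))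
theorem f278766 : Led Lsl_ct (LP (LK LD1_c2 LD2_c3 LD3_c24)) = (LP (LK LD1_c4 LD2_c12 LD3_c22)) :=
  Lre_c IH (LK LD1_c2 LD2_c3 LD3_c24) (LK LD1_c4 LD2_c12 LD3_c22) Lrfl Lrfl
theorem f253256 : Led Lsl_dt (LP (LK LD1_c2 LD2_c7 LD3_c23)) = (LP (LK LD1_c2 LD2_c3 LD3_c24)) :=
  Lgr Lrot6 (Lpr_gt (K14.f253245 IH) (Lpr_ct (K14.f253249 IH) (Lpr_gt (K14.f7845 IH) (Lpr_ct (K11.f201107 IH) (Lpe (K12.f201236 IH) (Lpe (K15.f237119 IH) (Lpe (K15.f236995 IH) (Lpe (K15.f166487 IH) (Lpe (K16.f166984 IH) (Lpn (LP (LK LD1_c2 LD2_c3 LD3_c24))))))))))))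
theorem f219291 : Led Lsl_gf (LP (LK LD1_c2 LD2_c43 LD3_c42)) = (LP (LK LD1_c4 LD2_c8 LD3_c55)) :=
  Lgr Lrot147 (Lpr_ct (K15.f199491 IH) (Lpe (K15.f199492 IH) (Lpr_ct (K15.f28924 IH) (Lpe (K12.f199005 IH) (Lpr_cf (K11.f199130 IH) (Lpr_gf (K10.f189095 IH) (Lpe (K10.f53956 IH) (Lpr_gf (K12.f219284 IH) (Lpe (K14.f219289 IH) (Lpn (LP (LK LD1_c4 LD2_c8 LD3_c55))))))))))))
theorem f270998 : Led Lsl_dt (LP (LK LD1_c2 LD2_c43 LD3_c42)) = (LP (LK LD1_c4 LD2_c19 LD3_c51)) :=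
  Lgr Lrot57 (Lpr_gf (f219291 IH) (Lpe (K16.f219323 IH) (Lpe (K14.f254891 IH) (Lpr_dt (K15.f191905 IH) (Lpe (K16.f267539 IH) (Lpr_dt (K16.f220801 IH) (Lpe (K12.f220858 IH) (Lpe (K15.f223217 IH) (Lpr_gf (K16.f270923 IH) (Lpn (LP (LK LD1_c4 LD2_c19 LD3_c51))))))))))))
theorem f278767 : Led Lsl_ct (LP (LK LD1_c8 LD2_c24 LD3_c11)) = (LP (LK LD1_c8 LD2_c54 LD3_c22)) :=
  Lgr Lrot176 (Lpe (K16.f219713 IH) (Lpe (K12.f167091 IH) (Lpe (K14.f246733 IH) (Lpe (K15.f246730 IH) (Lpr_df (f254824 IH) (Lpe (K14.f254827 IH) (Lpe (f278730 IH) (Lpr_cf (f278759 IH) (Lpe (f278756 IH) (Lpe (f278766 IH) (Lpe (f253256 IH) (Lpe (K16.f253258 IH) (Lpe (f270998 IH) (Lpe (K15.f177873 IH) (Lpe (K16.f271015 IH) (Lpn (LP (LK LD1_c8 LD2_c54 LD3_c22))))))))))))))))))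
theorem f278798 : Led Lsl_cf (LP (LK LD1_c8 LD2_c24 LD3_c11)) = (LP (LK LD1_c8 LD2_c54 LD3_c22)) :=
  Lgr Lrot11 (Lpr_ct (f278767 IH) (Lpn (LP (LK LD1_c8 LD2_c54 LD3_c22))))
theorem f278812 : Led Lsl_gt (LP (LK LD1_c8 LD2_c24 LD3_c27)) = (LP (LK LD1_c4 LD2_c52 LD3_c22)) :=
  Lgr Lrot9 (Lpe (K15.f166509 IH) (Lpr_gt (K15.f166488 IH) (Lpr_ct (K15.f166514 IH) (Lpr_gt (K12.f166569 IH) (Lpr_ct (K12.f167091 IH) (Lpe (K16.f219669 IH) (Lpr_cf (f278798 IH) (Lpe (K16.f223377 IH) (Lpe (K16.f276458 IH) (Lpn (LP (LK LD1_c4 LD2_c52 LD3_c22))))))))))))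
theorem f173158 : Led Lsl_dt (LP (LK LD1_c4 LD2_c28 LD3_c28)) = (LP (LK LD1_c2 LD2_c11 LD3_c19)) :=
  Lre_d IH (LK LD1_c4 LD2_c28 LD3_c28) (LK LD1_c2 LD2_c11 LD3_c19) Lrfl Lrfl
theorem f278814 : Led Lsl_gf (LP (LK LD1_c5 LD2_c28 LD3_c21)) = (LP (LK LD1_c4 LD2_c28 LD3_c28)) :=
  Lgr Lrot147 (Lpr_ct (K15.f267499 IH) (Lpr_gt (f278812 IH) (Lpr_ct (K16.f276458 IH) (Lpe (K16.f223376 IH) (Lpe (K12.f223203 IH) (Lpe (K14.f235210 IH) (Lpe (K12.f165040 IH) (Lpe (K9.f173159 IH) (Lpe (f173158 IH) (Lpn (LP (LK LD1_c4 LD2_c28 LD3_c28))))))))))))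
theorem f7847 : Led Lsl_dt (LP (LK LD1_c5 LD2_c28 LD3_c21)) = (LP (LK LD1_c2 LD2_c40 LD3_c30)) :=
  Lre_d IH (LK LD1_c5 LD2_c28 LD3_c21) (LK LD1_c2 LD2_c40 LD3_c30) Lrfl Lrfl
theorem f53897 : Led Lsl_dt (LP (LK LD1_c4 LD2_c5 LD3_c0)) = (LP (LK LD1_c8 LD2_c10 LD3_c49)) :=
  Lre_d IH (LK LD1_c4 LD2_c5 LD3_c0) (LK LD1_c8 LD2_c10 LD3_c49) Lrfl Lrfl
theorem f53914 : Led Lsl_gt (LP (LK LD1_c8 LD2_c10 LD3_c49)) = (LP (LK LD1_c15 LD2_c24 LD3_c9)) :=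
  Lre_g IH (LK LD1_c8 LD2_c10 LD3_c49) (LK LD1_c15 LD2_c24 LD3_c9) Lrfl Lrfl
theorem f267162 : Led Lsl_gt (LP (LK LD1_c4 LD2_c8 LD3_c17)) = (LP (LK LD1_c2 LD2_c8 LD3_c9)) :=
  Lgr Lrot46 (Lpr_gf (K15.f267160 IH) (Lpr_ft (f219744 IH) (Lpe (K12.f219733 IH) (Lpn (LP (LK LD1_c2 LD2_c8 LD3_c9))))))
theorem f270935 : Led Lsl_ct (LP (LK LD1_c15 LD2_c24 LD3_c9)) = (LP (LK LD1_c8 LD2_c53 LD3_c13)) :=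
  Lgr Lrot152 (Lpe (f53914 IH) (Lpe (f53897 IH) (Lpr_gt (K16.f53901 IH) (Lpr_ct (K16.f270925 IH) (Lpr_gt (f267162 IH) (Lpr_ct (K16.f219739 IH) (Lpr_df (K15.f267389 IH) (Lpe (K16.f267371 IH) (Lpe (K16.f195083 IH) (Lpn (LP (LK LD1_c8 LD2_c53 LD3_c13))))))))))))
theorem f270942 : Led Lsl_cf (LP (LK LD1_c15 LD2_c24 LD3_c9)) = (LP (LK LD1_c8 LD2_c53 LD3_c13)) :=
  Lgr Lrot11 (Lpr_ct (f270935 IH) (Lpn (LP (LK LD1_c8 LD2_c53 LD3_c13))))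
theorem f233214 : Led Lsl_gf (LP (LK LD1_c4 LD2_c21 LD3_c11)) = (LP (LK LD1_c4 LD2_c5 LD3_c1)) :=
  Lgr Lrot126 (Lpe (K12.f219459 IH) (Lpr_bt (K12.f219467 IH) (Lpr_gt (K13.f233210 IH) (Lpr_ct (K1.f29138 IH) (Lpe (K13.f184374 IH) (Lpe (K13.f33320 IH) (Lpe (f167279 IH) (Lpr_gt (K10.f184123 IH) (Lpr_bf (K14.f53969 IH) (Lpr_ct (K12.f53961 IH) (Lpn (LP (LK LD1_c4 LD2_c5 LD3_c1)))))))))))))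
theorem f219465 : Led Lsl_dt (LP (LK LD1_c4 LD2_c21 LD3_c11)) = (LP (LK LD1_c8 LD2_c39 LD3_c60)) :=
  Lre_d IH (LK LD1_c4 LD2_c21 LD3_c11) (LK LD1_c8 LD2_c39 LD3_c60) Lrfl Lrfl
theorem f278204 : Led Lsl_gf (LP (LK LD1_c8 LD2_c37 LD3_c12)) = (LP (LK LD1_c8 LD2_c39 LD3_c60)) :=
  Lgr Lrot143 (Lpr_dt (K16.f189111 IH) (Lpe (K12.f189106 IH) (Lpr_df (K16.f278198 IH) (Lpe (K14.f53333 IH) (Lpr_df (K16.f178272 IH) (Lpr_gf (K16.f253951 IH) (Lpe (K14.f53637 IH) (Lpe (f233214 IH) (Lpr_dt (f219465 IH) (Lpn (LP (LK LD1_c8 LD2_c39 LD3_c60))))))))))))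
theorem f292372 : Led Lsl_df (LP (LK LD1_c15 LD2_c24 LD3_c9)) = (LP (LK LD1_c8 LD2_c16 LD3_c22)) :=
  Lgr Lrot84 (Lpr_cf (f270942 IH) (Lpr_df (K16.f261073 IH) (Lpe (K16.f199590 IH) (Lpe (f7847 IH) (Lpr_gf (f278814 IH) (Lpr_cf (f292362 IH) (Lpe (f278204 IH) (Lpr_dt (K16.f189111 IH) (Lpr_gt (K12.f189107 IH) (Lpn (LP (LK LD1_c8 LD2_c16 LD3_c22))))))))))))
theorem f279255 : Led Lsl_ct (LP (LK LD1_c4 LD2_c19 LD3_c22)) = (LP (LK LD1_c2 LD2_c7 LD3_c6)) :=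
  Lre_c IH (LK LD1_c4 LD2_c19 LD3_c22) (LK LD1_c2 LD2_c7 LD3_c6) Lrfl Lrfl
theorem f292434 : Led Lsl_dt (LP (LK LD1_c8 LD2_c37 LD3_c5)) = (LP (LK LD1_c4 LD2_c19 LD3_c22)) :=
  Lre_d IH (LK LD1_c8 LD2_c37 LD3_c5) (LK LD1_c4 LD2_c19 LD3_c22) Lrfl Lrfl
theorem f292435 : Led Lsl_gt (LP (LK LD1_c15 LD2_c24 LD3_c9)) = (LP (LK LD1_c8 LD2_c37 LD3_c5)) :=
  Lgr Lrot49 (Lpr_df (f292372 IH) (Lpe (K12.f189107 IH) (Lpe (K12.f189106 IH) (Lpr_gt (K16.f278206 IH) (Lpr_dt (K16.f166915 IH) (Lpr_gt (K16.f279256 IH) (Lpr_dt (K16.f279198 IH) (Lpe (f279255 IH) (Lpe (f292434 IH) (Lpn (LP (LK LD1_c8 LD2_c37 LD3_c5))))))))))))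
theorem f169252 : Led Lsl_gt (LP (LK LD1_c5 LD2_c23 LD3_c36)) = (LP (LK LD1_c2 LD2_c38 LD3_c20)) :=
  Lre_g IH (LK LD1_c5 LD2_c23 LD3_c36) (LK LD1_c2 LD2_c38 LD3_c20) Lrfl Lrfl
theorem f265791 : Led Lsl_et (LP (LK LD1_c5 LD2_c12 LD3_c34)) = (LP (LK LD1_c5 LD2_c23 LD3_c36)) :=
  Lgr Lrot185 (Lpr_dt (K15.f265781 IH) (Lpe (K14.f247540 IH) (Lpr_df (K14.f247530 IH) (Lpe (K10.f49235 IH) (Lpr_ef (K9.f49218 IH) (Lpr_dt (K12.f49236 IH) (Lpr_gf (K12.f196566 IH) (Lpe (K12.f167816 IH) (Lpr_et (K15.f169167 IH) (Lpe (f169252 IH) (Lpn (LP (LK LD1_c5 LD2_c23 LD3_c36)))))))))))))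
theorem f265799 : Led Lsl_ef (LP (LK LD1_c5 LD2_c12 LD3_c34)) = (LP (LK LD1_c5 LD2_c23 LD3_c36)) :=
  Lgr Lrot88 (Lpr_et (f265791 IH) (Lpn (LP (LK LD1_c5 LD2_c23 LD3_c36))))
theorem f186935 : Led Lsl_et (LP (LK LD1_c7 LD2_c55 LD3_c25)) = (LP (LK LD1_c3 LD2_c56 LD3_c52)) :=
  Lre_e IH (LK LD1_c7 LD2_c55 LD3_c25) (LK LD1_c3 LD2_c56 LD3_c52) Lrfl Lrfl
theorem f226869 : Led Lsl_dt (LP (LK LD1_c4 LD2_c3 LD3_c50)) = (LP (LK LD1_c1 LD2_c58 LD3_c52)) :=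
  Lre_d IH (LK LD1_c4 LD2_c3 LD3_c50) (LK LD1_c1 LD2_c58 LD3_c52) Lrfl Lrfl
theorem f227205 : Led Lsl_gt (LP (LK LD1_c4 LD2_c3 LD3_c49)) = (LP (LK LD1_c1 LD2_c58 LD3_c52)) :=
  Lre_g IH (LK LD1_c4 LD2_c3 LD3_c49) (LK LD1_c1 LD2_c58 LD3_c52) Lrfl Lrfl
theorem f237001 : Led Lsl_dt (LP (LK LD1_c7 LD2_c55 LD3_c25)) = (LP (LK LD1_c4 LD2_c3 LD3_c49)) :=
  Lgr Lrot136 (Lpr_et (f186935 IH) (Lpe (K12.f29084 IH) (Lpe (K13.f29118 IH) (Lpr_dt (K12.f42868 IH) (Lpe (K10.f28799 IH) (Lpe (K13.f42889 IH) (Lpr_gf (K13.f236892 IH) (Lpe (K16.f229902 IH) (Lpr_dt (f226869 IH) (Lpe (f227205 IH) (Lpn (LP (LK LD1_c4 LD2_c3 LD3_c49)))))))))))))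
theorem f237111 : Led Lsl_df (LP (LK LD1_c7 LD2_c55 LD3_c25)) = (LP (LK LD1_c4 LD2_c3 LD3_c49)) :=
  Lgr Lrot38 (Lpr_dt (f237001 IH) (Lpn (LP (LK LD1_c4 LD2_c3 LD3_c49))))
theorem f265032 : Led Lsl_et (LP (LK LD1_c6 LD2_c4 LD3_c45)) = (LP (LK LD1_c4 LD2_c3 LD3_c49)) :=
  Lgr Lrot71 (Lpr_df (K15.f265028 IH) (Lpr_ef (K15.f235686 IH) (Lpr_df (K13.f235690 IH) (Lpe (f186935 IH) (Lpr_df (f237111 IH) (Lpn (LP (LK LD1_c4 LD2_c3 LD3_c49))))))))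
theorem f265801 : Led Lsl_bt (LP (LK LD1_c4 LD2_c3 LD3_c49)) = (LP (LK LD1_c5 LD2_c23 LD3_c36)) :=
  Lgr Lrot119 (Lpe (f265032 IH) (Lpr_bf (K15.f256853 IH) (Lpr_ef (f265799 IH) (Lpn (LP (LK LD1_c5 LD2_c23 LD3_c36))))))
theorem f219476 : Led Lsl_et (LP (LK LD1_c4 LD2_c21 LD3_c12)) = (LP (LK LD1_c2 LD2_c8 LD3_c7)) :=
  Lre_e IH (LK LD1_c4 LD2_c21 LD3_c12) (LK LD1_c2 LD2_c8 LD3_c7) Lrfl Lrfl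
theorem f186958 : Led Lsl_et (LP (LK LD1_c3 LD2_c56 LD3_c52)) = (LP (LK LD1_c7 LD2_c55 LD3_c25)) :=
  Lre_e IH (LK LD1_c3 LD2_c56 LD3_c52) (LK LD1_c7 LD2_c55 LD3_c25) Lrfl Lrfl
theorem f219477 : Led Lsl_bf (LP (LK LD1_c4 LD2_c21 LD3_c12)) = (LP (LK LD1_c7 LD2_c55 LD3_c25)) :=
  Lgr Lrot96 (Lpr_et (f219476 IH) (Lpr_bt (K12.f219467 IH) (Lpr_et (f186958 IH) (Lpn (LP (LK LD1_c7 LD2_c55 LD3_c25))))))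
theorem f219479 : Led Lsl_bt (LP (LK LD1_c4 LD2_c21 LD3_c12)) = (LP (LK LD1_c7 LD2_c55 LD3_c25)) :=
  Lgr Lrot127 (Lpr_bf (f219477 IH) (Lpn (LP (LK LD1_c7 LD2_c55 LD3_c25))))
theorem f265808 : Led Lsl_df (LP (LK LD1_c4 LD2_c21 LD3_c12)) = (LP (LK LD1_c5 LD2_c23 LD3_c36)) :=
  Lgr Lrot12 (Lpr_bt (f219479 IH) (Lpr_dt (f237001 IH) (Lpr_bt (f265801 IH) (Lpn (LP (LK LD1_c5 LD2_c23 LD3_c36))))))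
theorem f265810 : Led Lsl_dt (LP (LK LD1_c4 LD2_c21 LD3_c12)) = (LP (LK LD1_c5 LD2_c23 LD3_c36)) :=
  Lgr Lrot42 (Lpr_df (f265808 IH) (Lpn (LP (LK LD1_c5 LD2_c23 LD3_c36))))
theorem f219485 : Led Lsl_et (LP (LK LD1_c2 LD2_c8 LD3_c7)) = (LP (LK LD1_c4 LD2_c21 LD3_c12)) :=
  Lre_e IH (LK LD1_c2 LD2_c8 LD3_c7) (LK LD1_c4 LD2_c21 LD3_c12) Lrfl Lrfl
theorem f276693 : Led Lsl_dt (LP (LK LD1_c4 LD2_c3 LD3_c42)) = (LP (LK LD1_c2 LD2_c8 LD3_c7)) :=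
  Lgr Lrot77 (Lpr_ef (K16.f276691 IH) (Lpe (K15.f265781 IH) (Lpr_ef (f265799 IH) (Lpe (f265810 IH) (Lpe (f219485 IH) (Lpn (LP (LK LD1_c2 LD2_c8 LD3_c7))))))))
theorem f292360 : Led Lsl_gf (LP (LK LD1_c4 LD2_c19 LD3_c31)) = (LP (LK LD1_c8 LD2_c16 LD3_c22)) :=
  Lgr Lrot144 (Lpr_dt (K16.f267199 IH) (Lpr_gt (f292357 IH) (Lpr_dt (f219464 IH) (Lpe (K12.f219459 IH) (Lpe (f276693 IH) (Lpe (K16.f201235 IH) (Lpe (K12.f201236 IH) (Lpr_gf (K12.f212482 IH) (Lpe (K12.f189103 IH) (Lpn (LP (LK LD1_c8 LD2_c16 LD3_c22))))))))))))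
theorem f260771 : Led Lsl_dt (LP (LK LD1_c4 LD2_c19 LD3_c36)) = (LP (LK LD1_c2 LD2_c7 LD3_c11)) :=
  Lre_d IH (LK LD1_c4 LD2_c19 LD3_c36) (LK LD1_c2 LD2_c7 LD3_c11) Lrfl Lrfl
theorem f42418 : Led Lsl_gt (LP (LK LD1_c8 LD2_c53 LD3_c42)) = (LP (LK LD1_c4 LD2_c27 LD3_c53)) :=
  Lre_g IH (LK LD1_c8 LD2_c53 LD3_c42) (LK LD1_c4 LD2_c27 LD3_c53) Lrfl Lrfl
theorem f292437 : Led Lsl_ct (LP (LK LD1_c8 LD2_c37 LD3_c5)) = (LP (LK LD1_c8 LD2_c53 LD3_c42)) :=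
  Lgr Lrot152 (Lpe (f292435 IH) (Lpr_df (f292372 IH) (Lpe (f292360 IH) (Lpr_ct (K16.f243394 IH) (Lpr_gt (K15.f179570 IH) (Lpr_ct (K15.f179546 IH) (Lpe (f260771 IH) (Lpr_cf (K16.f267096 IH) (Lpe (f42418 IH) (Lpn (LP (LK LD1_c8 LD2_c53 LD3_c42))))))))))))
theorem f292454 : Led Lsl_dt (LP (LK LD1_c4 LD2_c28 LD3_c7)) = (LP (LK LD1_c8 LD2_c53 LD3_c42)) :=
  Lgr Lrot27 (Lpr_cf (K12.f223205 IH) (Lpr_gf (K12.f223207 IH) (Lpr_cf (K12.f220864 IH) (Lpe (K12.f44735 IH) (Lpe (K12.f183259 IH) (Lpr_gt (K16.f168077 IH) (Lpe (f270942 IH) (Lpr_gt (f292435 IH) (Lpr_ct (f292437 IH) (Lpn (LP (LK LD1_c8 LD2_c53 LD3_c42))))))))))))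
theorem f223391 : Led Lsl_dt (LP (LK LD1_c4 LD2_c28 LD3_c16)) = (LP (LK LD1_c2 LD2_c11 LD3_c16)) :=
  Lre_d IH (LK LD1_c4 LD2_c28 LD3_c16) (LK LD1_c2 LD2_c11 LD3_c16) Lrfl Lrfl
theorem f265470 : Led Lsl_af (LP (LK LD1_c4 LD2_c28 LD3_c16)) = (LP (LK LD1_c8 LD2_c52 LD3_c59)) :=
  Lgr Lrot0 (Lpr_at (f265468 IH) (Lpn (LP (LK LD1_c8 LD2_c52 LD3_c59))))
theorem f276550 : Led Lsl_gf (LP (LK LD1_c4 LD2_c28 LD3_c16)) = (LP (LK LD1_c8 LD2_c54 LD3_c22)) :=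
  Lgr Lrot76 (Lpr_af (f265470 IH) (Lpr_ff (K16.f276540 IH) (Lpr_gt (K16.f223377 IH) (Lpn (LP (LK LD1_c8 LD2_c54 LD3_c22))))))
theorem f279301 : Led Lsl_dt (LP (LK LD1_c4 LD2_c19 LD3_c22)) = (LP (LK LD1_c8 LD2_c37 LD3_c5)) :=
  Lre_d IH (LK LD1_c4 LD2_c19 LD3_c22) (LK LD1_c8 LD2_c37 LD3_c5) Lrfl Lrfl
theorem f292467 : Led Lsl_gt (LP (LK LD1_c8 LD2_c10 LD3_c46)) = (LP (LK LD1_c4 LD2_c19 LD3_c22)) :=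
  Lgr Lrot49 (Lpe (K16.f270930 IH) (Lpr_gf (K16.f270933 IH) (Lpr_cf (f278798 IH) (Lpe (f276550 IH) (Lpr_dt (f223391 IH) (Lpe (K12.f223379 IH) (Lpr_dt (f292454 IH) (Lpe (f292437 IH) (Lpe (f279301 IH) (Lpn (LP (LK LD1_c4 LD2_c19 LD3_c22))))))))))))
theorem f279264 : Led Lsl_ct (LP (LK LD1_c2 LD2_c7 LD3_c5)) = (LP (LK LD1_c1 LD2_c0 LD3_c36)) :=
  Lre_c IH (LK LD1_c2 LD2_c7 LD3_c5) (LK LD1_c1 LD2_c0 LD3_c36) Lrfl Lrfl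
theorem f292488 : Led Lsl_gt (LP (LK LD1_c1 LD2_c9 LD3_c53)) = (LP (LK LD1_c2 LD2_c7 LD3_c5)) :=
  Lgr Lrot150 (Lpe (K12.f213906 IH) (Lpe (K12.f212480 IH) (Lpe (K1.f41977 IH) (Lpe (K15.f267160 IH) (Lpr_ct (K16.f270908 IH) (Lpr_gt (f292467 IH) (Lpr_ct (f279255 IH) (Lpe (K16.f279198 IH) (Lpe (f279264 IH) (Lpn (LP (LK LD1_c2 LD2_c7 LD3_c5))))))))))))
theorem f279315 : Led Lsl_dt (LP (LK LD1_c2 LD2_c7 LD3_c5)) = (LP (LK LD1_c4 LD2_c19 LD3_c21)) :=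
  Lre_d IH (LK LD1_c2 LD2_c7 LD3_c5) (LK LD1_c4 LD2_c19 LD3_c21) Lrfl Lrfl
theorem f292495 : Led Lsl_gf (LP (LK LD1_c4 LD2_c14 LD3_c11)) = (LP (LK LD1_c4 LD2_c19 LD3_c21)) :=
  Lgr Lrot134 (Lpe (K15.f223217 IH) (Lpr_et (K15.f27740 IH) (Lpe (K12.f214099 IH) (Lpe (K10.f190988 IH) (Lpr_dt (K12.f191006 IH) (Lpr_gt (K12.f214094 IH) (Lpr_df (K12.f213912 IH) (Lpr_et (K12.f213911 IH) (Lpr_gt (f292488 IH) (Lpr_dt (f279315 IH) (Lpn (LP (LK LD1_c4 LD2_c19 LD3_c21)))))))))))))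
theorem f212937 : Led Lsl_gt (LP (LK LD1_c5 LD2_c0 LD3_c37)) = (LP (LK LD1_c4 LD2_c31 LD3_c16)) :=
  Lgr Lrot46 (Lpe (K16.f54209 IH) (Lpr_ft (K12.f212919 IH) (Lpe (K13.f212929 IH) (Lpn (LP (LK LD1_c4 LD2_c31 LD3_c16))))))
theorem f292503 : Led Lsl_bt (LP (LK LD1_c2 LD2_c12 LD3_c37)) = (LP (LK LD1_c4 LD2_c19 LD3_c21)) :=
  Lgr Lrot130 (Lpr_ct (K12.f212634 IH) (Lpe (f212937 IH) (Lpr_cf (K16.f235109 IH) (Lpr_bt (K16.f171871 IH) (Lpe (K12.f44308 IH) (Lpe (K9.f41737 IH) (Lpr_ct (K9.f41739 IH) (Lpe (K12.f220800 IH) (Lpe (K12.f220858 IH) (Lpr_gf (f292495 IH) (Lpn (LP (LK LD1_c4 LD2_c19 LD3_c21)))))))))))))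
theorem f279320 : Led Lsl_et (LP (LK LD1_c4 LD2_c19 LD3_c21)) = (LP (LK LD1_c8 LD2_c37 LD3_c3)) :=
  Lre_e IH (LK LD1_c4 LD2_c19 LD3_c21) (LK LD1_c8 LD2_c37 LD3_c3) Lrfl Lrfl
theorem f292515 : Led Lsl_bf (LP (LK LD1_c4 LD2_c31 LD3_c17)) = (LP (LK LD1_c8 LD2_c37 LD3_c3)) :=
  Lgr Lrot96 (Lpr_et (K14.f212696 IH) (Lpr_bt (f292503 IH) (Lpr_et (f279320 IH) (Lpn (LP (LK LD1_c8 LD2_c37 LD3_c3))))))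
theorem f292523 : Led Lsl_ft (LP (LK LD1_c8 LD2_c38 LD3_c35)) = (LP (LK LD1_c8 LD2_c37 LD3_c3)) :=
  Lgr Lrot75 (Lpe (K10.f31084 IH) (Lpr_ff (K14.f212697 IH) (Lpr_bf (f292515 IH) (Lpn (LP (LK LD1_c8 LD2_c37 LD3_c3))))))
theorem f220810 : Led Lsl_et (LP (LK LD1_c15 LD2_c19 LD3_c8)) = (LP (LK LD1_c8 LD2_c8 LD3_c10)) :=
  Lre_e IH (LK LD1_c15 LD2_c19 LD3_c8) (LK LD1_c8 LD2_c8 LD3_c10) Lrfl Lrfl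
theorem f219343 : Led Lsl_et (LP (LK LD1_c4 LD2_c12 LD3_c11)) = (LP (LK LD1_c8 LD2_c23 LD3_c60)) :=
  Lre_e IH (LK LD1_c4 LD2_c12 LD3_c11) (LK LD1_c8 LD2_c23 LD3_c60) Lrfl Lrfl
theorem f220811 : Led Lsl_cf (LP (LK LD1_c15 LD2_c19 LD3_c8)) = (LP (LK LD1_c8 LD2_c23 LD3_c60)) :=
  Lgr Lrot39 (Lpr_et (f220810 IH) (Lpr_ct (K15.f220798 IH) (Lpr_et (f219343 IH) (Lpn (LP (LK LD1_c8 LD2_c23 LD3_c60))))))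
theorem f183644 : Led Lsl_et (LP (LK LD1_c8 LD2_c13 LD3_c13)) = (LP (LK LD1_c15 LD2_c27 LD3_c45)) :=
  Lre_e IH (LK LD1_c8 LD2_c13 LD3_c13) (LK LD1_c15 LD2_c27 LD3_c45) Lrfl Lrfl
theorem f219344 : Led Lsl_et (LP (LK LD1_c8 LD2_c23 LD3_c60)) = (LP (LK LD1_c4 LD2_c12 LD3_c11)) :=
  Lre_e IH (LK LD1_c8 LD2_c23 LD3_c60) (LK LD1_c4 LD2_c12 LD3_c11) Lrfl Lrfl
theorem f219379 : Led Lsl_ft (LP (LK LD1_c15 LD2_c27 LD3_c45)) = (LP (LK LD1_c8 LD2_c23 LD3_c60)) :=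
  Lgr Lrot86 (Lpe (f183644 IH) (Lpr_ff (K10.f183638 IH) (Lpe (K9.f47791 IH) (Lpr_ff (K12.f219337 IH) (Lpe (f219344 IH) (Lpn (LP (LK LD1_c8 LD2_c23 LD3_c60))))))))
theorem f220838 : Led Lsl_ft (LP (LK LD1_c15 LD2_c19 LD3_c8)) = (LP (LK LD1_c10 LD2_c37 LD3_c12)) :=
  Lgr Lrot4 (Lpr_cf (f220811 IH) (Lpe (f219379 IH) (Lpe (K10.f190107 IH) (Lpn (LP (LK LD1_c10 LD2_c37 LD3_c12))))))
theorem f220847 : Led Lsl_ff (LP (LK LD1_c15 LD2_c19 LD3_c8)) = (LP (LK LD1_c10 LD2_c37 LD3_c12)) :=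
  Lgr Lrot3 (Lpr_ft (f220838 IH) (Lpn (LP (LK LD1_c10 LD2_c37 LD3_c12))))
theorem f220834 : Led Lsl_ct (LP (LK LD1_c15 LD2_c19 LD3_c8)) = (LP (LK LD1_c8 LD2_c23 LD3_c60)) :=
  Lgr Lrot59 (Lpr_cf (f220811 IH) (Lpn (LP (LK LD1_c8 LD2_c23 LD3_c60))))
theorem f220851 : Led Lsl_ft (LP (LK LD1_c8 LD2_c23 LD3_c60)) = (LP (LK LD1_c15 LD2_c27 LD3_c45)) :=
  Lgr Lrot4 (Lpe (f220834 IH) (Lpr_ff (f220847 IH) (Lpr_cf (K10.f190136 IH) (Lpn (LP (LK LD1_c15 LD2_c27 LD3_c45))))))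
theorem f292525 : Led Lsl_af (LP (LK LD1_c8 LD2_c23 LD3_c60)) = (LP (LK LD1_c8 LD2_c37 LD3_c3)) :=
  Lgr Lrot45 (Lpr_ft (f220851 IH) (Lpr_at (K10.f183652 IH) (Lpr_ft (f292523 IH) (Lpn (LP (LK LD1_c8 LD2_c37 LD3_c3))))))
theorem f292536 : Led Lsl_at (LP (LK LD1_c4 LD2_c12 LD3_c11)) = (LP (LK LD1_c4 LD2_c19 LD3_c21)) :=
  Lgr Lrot80 (Lpe (f219344 IH) (Lpr_af (f292525 IH) (Lpe (f279320 IH) (Lpn (LP (LK LD1_c4 LD2_c19 LD3_c21))))))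
theorem f223219 : Led Lsl_df (LP (LK LD1_c4 LD2_c50 LD3_c32)) = (LP (LK LD1_c4 LD2_c14 LD3_c11)) :=
  Lgr Lrot38 (Lpr_dt (K15.f223217 IH) (Lpn (LP (LK LD1_c4 LD2_c14 LD3_c11))))
theorem f292343 : Led Lsl_at (LP (LK LD1_c8 LD2_c8 LD3_c12)) = (LP (LK LD1_c4 LD2_c28 LD3_c9)) :=
  Lgr Lrot66 (Lpr_ff (f292335 IH) (Lpr_af (f265470 IH) (Lpr_ff (K16.f276540 IH) (Lpn (LP (LK LD1_c4 LD2_c28 LD3_c9))))))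
theorem f292350 : Led Lsl_gf (LP (LK LD1_c8 LD2_c54 LD3_c23)) = (LP (LK LD1_c4 LD2_c28 LD3_c16)) :=
  Lgr Lrot47 (Lpr_gt (f223201 IH) (Lpe (f292343 IH) (Lpr_ff (f292335 IH) (Lpn (LP (LK LD1_c4 LD2_c28 LD3_c16))))))
theorem f235211 : Led Lsl_gt (LP (LK LD1_c2 LD2_c11 LD3_c14)) = (LP (LK LD1_c4 LD2_c28 LD3_c6)) :=
  Lre_g IH (LK LD1_c2 LD2_c11 LD3_c14) (LK LD1_c4 LD2_c28 LD3_c6) Lrfl Lrfl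
theorem f276482 : Led Lsl_gf (LP (LK LD1_c2 LD2_c11 LD3_c16)) = (LP (LK LD1_c4 LD2_c28 LD3_c6)) :=
  Lgr Lrot76 (Lpr_af (K16.f265458 IH) (Lpr_ff (K16.f276466 IH) (Lpr_gt (f235211 IH) (Lpn (LP (LK LD1_c4 LD2_c28 LD3_c6))))))
theorem f292501 : Led Lsl_cf (LP (LK LD1_c4 LD2_c28 LD3_c6)) = (LP (LK LD1_c4 LD2_c19 LD3_c21)) :=
  Lgr Lrot166 (Lpe (f276482 IH) (Lpr_dt (f265467 IH) (Lpe (f292350 IH) (Lpr_dt (f278730 IH) (Lpr_ct (K14.f254827 IH) (Lpe (K14.f254822 IH) (Lpr_gf (K15.f261315 IH) (Lpr_df (f223219 IH) (Lpr_gf (f292495 IH) (Lpn (LP (LK LD1_c4 LD2_c19 LD3_c21))))))))))))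
theorem f292538 : Led Lsl_af (LP (LK LD1_c8 LD2_c8 LD3_c10)) = (LP (LK LD1_c4 LD2_c28 LD3_c6)) :=
  Lgr Lrot68 (Lpr_ct (K15.f220798 IH) (Lpr_at (f292536 IH) (Lpe (f292501 IH) (Lpn (LP (LK LD1_c4 LD2_c28 LD3_c6))))))
theorem f292550 : Led Lsl_ft (LP (LK LD1_c5 LD2_c0 LD3_c41)) = (LP (LK LD1_c4 LD2_c28 LD3_c6)) :=
  Lgr Lrot101 (Lpe (K15.f223365 IH) (Lpr_ff (K15.f267321 IH) (Lpr_af (f292538 IH) (Lpn (LP (LK LD1_c4 LD2_c28 LD3_c6))))))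
theorem f292557 : Led Lsl_ff (LP (LK LD1_c5 LD2_c0 LD3_c41)) = (LP (LK LD1_c4 LD2_c28 LD3_c6)) :=
  Lgr Lrot3 (Lpr_ft (f292550 IH) (Lpn (LP (LK LD1_c4 LD2_c28 LD3_c6))))
theorem f292542 : Led Lsl_at (LP (LK LD1_c8 LD2_c8 LD3_c10)) = (LP (LK LD1_c4 LD2_c28 LD3_c6)) :=
  Lgr Lrot100 (Lpr_af (f292538 IH) (Lpn (LP (LK LD1_c4 LD2_c28 LD3_c6))))
theorem f223374 : Led Lsl_ft (LP (LK LD1_c4 LD2_c28 LD3_c7)) = (LP (LK LD1_c8 LD2_c8 LD3_c10)) :=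
  Lgr Lrot4 (Lpr_cf (K12.f223205 IH) (Lpr_ff (K12.f219337 IH) (Lpe (K15.f220798 IH) (Lpn (LP (LK LD1_c8 LD2_c8 LD3_c10))))))
theorem f292559 : Led Lsl_at (LP (LK LD1_c5 LD2_c0 LD3_c41)) = (LP (LK LD1_c4 LD2_c28 LD3_c7)) :=
  Lgr Lrot66 (Lpr_ff (f292557 IH) (Lpe (f292542 IH) (Lpe (f223374 IH) (Lpn (LP (LK LD1_c4 LD2_c28 LD3_c7))))))
theorem f292620 : Led Lsl_af (LP (LK LD1_c9 LD2_c51 LD3_c43)) = (LP (LK LD1_c8 LD2_c53 LD3_c42)) :=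
  Lgr Lrot117 (Lpr_dt (K12.f53646 IH) (Lpr_at (f292559 IH) (Lpr_dt (f292454 IH) (Lpn (LP (LK LD1_c8 LD2_c53 LD3_c42))))))
theorem f292631 : Led Lsl_ft (LP (LK LD1_c15 LD2_c17 LD3_c40)) = (LP (LK LD1_c8 LD2_c53 LD3_c42)) :=
  Lgr Lrot2 (Lpr_gt (K15.f267323 IH) (Lpr_gt (K15.f267278 IH) (Lpr_af (f292620 IH) (Lpn (LP (LK LD1_c8 LD2_c53 LD3_c42))))))
theorem f292444 : Led Lsl_cf (LP (LK LD1_c8 LD2_c37 LD3_c5)) = (LP (LK LD1_c8 LD2_c53 LD3_c42)) :=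
  Lgr Lrot11 (Lpr_ct (f292437 IH) (Lpn (LP (LK LD1_c8 LD2_c53 LD3_c42))))
theorem f292635 : Led Lsl_ff (LP (LK LD1_c8 LD2_c10 LD3_c51)) = (LP (LK LD1_c8 LD2_c37 LD3_c5)) :=
  Lgr Lrot23 (Lpe (K16.f267310 IH) (Lpr_ft (f292631 IH) (Lpe (f292444 IH) (Lpn (LP (LK LD1_c8 LD2_c37 LD3_c5))))))
theorem f53988 : Led Lsl_et (LP (LK LD1_c15 LD2_c24 LD3_c16)) = (LP (LK LD1_c8 LD2_c10 LD3_c51)) :=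
  Lre_e IH (LK LD1_c15 LD2_c24 LD3_c16) (LK LD1_c8 LD2_c10 LD3_c51) Lrfl Lrfl
theorem f53989 : Led Lsl_dt (LP (LK LD1_c15 LD2_c27 LD3_c25)) = (LP (LK LD1_c15 LD2_c24 LD3_c16)) :=
  Lgr Lrot77 (Lpe (f53799 IH) (Lpe (K12.f44502 IH) (Lpr_ef (K12.f53981 IH) (Lpe (K15.f53638 IH) (Lpe (f53988 IH) (Lpn (LP (LK LD1_c15 LD2_c24 LD3_c16))))))))
theorem f53993 : Led Lsl_df (LP (LK LD1_c15 LD2_c27 LD3_c25)) = (LP (LK LD1_c15 LD2_c24 LD3_c16)) :=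
  Lgr Lrot38 (Lpr_dt (f53989 IH) (Lpn (LP (LK LD1_c15 LD2_c24 LD3_c16))))
theorem f53794 : Led Lsl_af (LP (LK LD1_c15 LD2_c27 LD3_c21)) = (LP (LK LD1_c15 LD2_c27 LD3_c25)) :=
  Lgr Lrot0 (Lpr_at (f53792 IH) (Lpn (LP (LK LD1_c15 LD2_c27 LD3_c25))))
theorem f53898 : Led Lsl_et (LP (LK LD1_c8 LD2_c10 LD3_c49)) = (LP (LK LD1_c15 LD2_c24 LD3_c11)) :=
  Lre_e IH (LK LD1_c8 LD2_c10 LD3_c49) (LK LD1_c15 LD2_c24 LD3_c11) Lrfl Lrfl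
theorem f53798 : Led Lsl_et (LP (LK LD1_c15 LD2_c27 LD3_c21)) = (LP (LK LD1_c8 LD2_c12 LD3_c60)) :=
  Lre_e IH (LK LD1_c15 LD2_c27 LD3_c21) (LK LD1_c8 LD2_c12 LD3_c60) Lrfl Lrfl
theorem f53899 : Led Lsl_dt (LP (LK LD1_c15 LD2_c24 LD3_c11)) = (LP (LK LD1_c15 LD2_c27 LD3_c21)) :=
  Lgr Lrot77 (Lpe (f53898 IH) (Lpe (f53897 IH) (Lpr_ef (K12.f53892 IH) (Lpe (K12.f53776 IH) (Lpe (f53798 IH) (Lpn (LP (LK LD1_c15 LD2_c27 LD3_c21))))))))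
theorem f53911 : Led Lsl_df (LP (LK LD1_c15 LD2_c24 LD3_c11)) = (LP (LK LD1_c15 LD2_c27 LD3_c21)) :=
  Lgr Lrot38 (Lpr_dt (f53899 IH) (Lpn (LP (LK LD1_c15 LD2_c27 LD3_c21))))
theorem f53996 : Led Lsl_at (LP (LK LD1_c15 LD2_c24 LD3_c11)) = (LP (LK LD1_c15 LD2_c24 LD3_c16)) :=
  Lgr Lrot51 (Lpr_df (f53911 IH) (Lpr_af (f53794 IH) (Lpr_df (f53993 IH) (Lpn (LP (LK LD1_c15 LD2_c24 LD3_c16))))))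
theorem f54000 : Led Lsl_af (LP (LK LD1_c8 LD2_c10 LD3_c49)) = (LP (LK LD1_c8 LD2_c10 LD3_c51)) :=
  Lgr Lrot50 (Lpr_et (f53898 IH) (Lpr_at (f53996 IH) (Lpr_et (f53988 IH) (Lpn (LP (LK LD1_c8 LD2_c10 LD3_c51))))))
theorem f53916 : Led Lsl_gt (LP (LK LD1_c15 LD2_c24 LD3_c10)) = (LP (LK LD1_c8 LD2_c10 LD3_c49)) :=
  Lre_g IH (LK LD1_c15 LD2_c24 LD3_c10) (LK LD1_c8 LD2_c10 LD3_c49) Lrfl Lrfl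
theorem f292647 : Led Lsl_gf (LP (LK LD1_c15 LD2_c24 LD3_c10)) = (LP (LK LD1_c8 LD2_c37 LD3_c5)) :=
  Lgr Lrot47 (Lpr_gt (f53916 IH) (Lpr_af (f54000 IH) (Lpr_ff (f292635 IH) (Lpn (LP (LK LD1_c8 LD2_c37 LD3_c5))))))
theorem f53902 : Led Lsl_dt (LP (LK LD1_c8 LD2_c10 LD3_c46)) = (LP (LK LD1_c15 LD2_c24 LD3_c0)) :=
  Lre_d IH (LK LD1_c8 LD2_c10 LD3_c46) (LK LD1_c15 LD2_c24 LD3_c0) Lrfl Lrfl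
theorem f53652 : Led Lsl_dt (LP (LK LD1_c8 LD2_c10 LD3_c49)) = (LP (LK LD1_c4 LD2_c5 LD3_c0)) :=
  Lre_d IH (LK LD1_c8 LD2_c10 LD3_c49) (LK LD1_c4 LD2_c5 LD3_c0) Lrfl Lrfl
theorem f278868 : Led Lsl_cf (LP (LK LD1_c15 LD2_c24 LD3_c10)) = (LP (LK LD1_c8 LD2_c53 LD3_c12)) :=
  Lgr Lrot166 (Lpr_gt (f53916 IH) (Lpr_dt (f53652 IH) (Lpr_gt (K16.f53901 IH) (Lpr_dt (f53902 IH) (Lpr_ct (K16.f278862 IH) (Lpe (K16.f44736 IH) (Lpe (K12.f44735 IH) (Lpe (K12.f183259 IH) (Lpe (K12.f183260 IH) (Lpn (LP (LK LD1_c8 LD2_c53 LD3_c12))))))))))))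
theorem f278871 : Led Lsl_ct (LP (LK LD1_c15 LD2_c24 LD3_c10)) = (LP (LK LD1_c8 LD2_c53 LD3_c12)) :=
  Lgr Lrot59 (Lpr_cf (f278868 IH) (Lpn (LP (LK LD1_c8 LD2_c53 LD3_c12))))
theorem f278929 : Led Lsl_cf (LP (LK LD1_c4 LD2_c54 LD3_c43)) = (LP (LK LD1_c4 LD2_c27 LD3_c51)) :=
  Lgr Lrot11 (Lpr_ct (K16.f278909 IH) (Lpn (LP (LK LD1_c4 LD2_c27 LD3_c51))))
theorem f292649 : Led Lsl_gt (LP (LK LD1_c4 LD2_c27 LD3_c61)) = (LP (LK LD1_c8 LD2_c53 LD3_c42)) :=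
  Lgr Lrot9 (Lpe (K16.f267126 IH) (Lpr_gt (K16.f278937 IH) (Lpe (f278929 IH) (Lpr_gt (K16.f213983 IH) (Lpr_ct (K12.f169261 IH) (Lpr_df (K12.f223215 IH) (Lpe (f278871 IH) (Lpr_gf (f292647 IH) (Lpr_cf (f292444 IH) (Lpn (LP (LK LD1_c8 LD2_c53 LD3_c42))))))))))))
theorem f219589 : Led Lsl_dt (LP (LK LD1_c4 LD2_c21 LD3_c15)) = (LP (LK LD1_c2 LD2_c8 LD3_c8)) :=
  Lre_d IH (LK LD1_c4 LD2_c21 LD3_c15) (LK LD1_c2 LD2_c8 LD3_c8) Lrfl Lrfl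
theorem f251766 : Led Lsl_gt (LP (LK LD1_c2 LD2_c8 LD3_c8)) = (LP (LK LD1_c4 LD2_c21 LD3_c13)) :=
  Lre_g IH (LK LD1_c2 LD2_c8 LD3_c8) (LK LD1_c4 LD2_c21 LD3_c13) Lrfl Lrfl
theorem f279258 : Led Lsl_ct (LP (LK LD1_c2 LD2_c7 LD3_c6)) = (LP (LK LD1_c4 LD2_c19 LD3_c22)) :=
  Lre_c IH (LK LD1_c2 LD2_c7 LD3_c6) (LK LD1_c4 LD2_c19 LD3_c22) Lrfl Lrfl
theorem f279251 : Led Lsl_gt (LP (LK LD1_c2 LD2_c24 LD3_c27)) = (LP (LK LD1_c2 LD2_c7 LD3_c6)) :=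
  Lgr Lrot5 (Lpr_ft (K16.f276627 IH) (Lpr_at (K16.f276465 IH) (Lpr_gf (K16.f279196 IH) (Lpn (LP (LK LD1_c2 LD2_c7 LD3_c6))))))
theorem f292659 : Led Lsl_ct (LP (LK LD1_c4 LD2_c21 LD3_c13)) = (LP (LK LD1_c2 LD2_c24 LD3_c27)) :=
  Lgr Lrot152 (Lpe (f251766 IH) (Lpe (f219589 IH) (Lpe (K16.f279153 IH) (Lpe (K16.f267100 IH) (Lpr_gt (f292649 IH) (Lpe (f292444 IH) (Lpe (f279301 IH) (Lpe (f279258 IH) (Lpe (f279251 IH) (Lpn (LP (LK LD1_c2 LD2_c24 LD3_c27))))))))))))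
theorem f292709 : Led Lsl_dt (LP (LK LD1_c8 LD2_c40 LD3_c3)) = (LP (LK LD1_c4 LD2_c21 LD3_c13)) :=
  Lre_d IH (LK LD1_c8 LD2_c40 LD3_c3) (LK LD1_c4 LD2_c21 LD3_c13) Lrfl Lrfl
theorem f237121 : Led Lsl_dt (LP (LK LD1_c4 LD2_c12 LD3_c24)) = (LP (LK LD1_c8 LD2_c24 LD3_c24)) :=
  Lre_d IH (LK LD1_c4 LD2_c12 LD3_c24) (LK LD1_c8 LD2_c24 LD3_c24) Lrfl Lrfl
theorem f292719 : Led Lsl_gf (LP (LK LD1_c8 LD2_c40 LD3_c3)) = (LP (LK LD1_c8 LD2_c24 LD3_c24)) :=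
  Lgr Lrot154 (Lpr_dt (f292709 IH) (Lpr_ct (f292659 IH) (Lpe (K16.f180085 IH) (Lpr_gf (K16.f276652 IH) (Lpr_df (K15.f246737 IH) (Lpe (K12.f166569 IH) (Lpr_ct (K15.f166487 IH) (Lpr_gt (K15.f236995 IH) (Lpr_dt (f237121 IH) (Lpn (LP (LK LD1_c8 LD2_c24 LD3_c24))))))))))))
theorem f267214 : Led Lsl_gf (LP (LK LD1_c2 LD2_c3 LD3_c24)) = (LP (LK LD1_c2 LD2_c7 LD3_c7)) :=
  Lgr Lrot47 (Lpr_gt (K16.f166984 IH) (Lpe (K15.f267211 IH) (Lpr_ff (K15.f267209 IH) (Lpn (LP (LK LD1_c2 LD2_c7 LD3_c7))))))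
theorem f276564 : Led Lsl_dt (LP (LK LD1_c8 LD2_c24 LD3_c19)) = (LP (LK LD1_c4 LD2_c12 LD3_c22)) :=
  Lre_d IH (LK LD1_c8 LD2_c24 LD3_c19) (LK LD1_c4 LD2_c12 LD3_c22) Lrfl Lrfl
theorem f278757 : Led Lsl_ct (LP (LK LD1_c8 LD2_c54 LD3_c23)) = (LP (LK LD1_c8 LD2_c24 LD3_c19)) :=
  Lgr Lrot7 (Lpr_df (f278735 IH) (Lpe (K14.f199496 IH) (Lpe (K15.f28925 IH) (Lpe (K15.f213498 IH) (Lpr_cf (K12.f219384 IH) (Lpr_gt (K15.f219763 IH) (Lpr_dt (K15.f219660 IH) (Lpr_gt (f271017 IH) (Lpr_dt (f278756 IH) (Lpn (LP (LK LD1_c8 LD2_c24 LD3_c19))))))))))))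
theorem f292749 : Led Lsl_ct (LP (LK LD1_c8 LD2_c40 LD3_c3)) = (LP (LK LD1_c4 LD2_c28 LD3_c16)) :=
  Lgr Lrot152 (Lpr_gf (f292719 IH) (Lpe (f237121 IH) (Lpe (K15.f261110 IH) (Lpr_ct (K15.f261096 IH) (Lpe (f267214 IH) (Lpr_ct (f278766 IH) (Lpe (f276564 IH) (Lpe (f278757 IH) (Lpr_gf (f292350 IH) (Lpn (LP (LK LD1_c4 LD2_c28 LD3_c16))))))))))))
theorem f267109 : Led Lsl_dt (LP (LK LD1_c4 LD2_c21 LD3_c13)) = (LP (LK LD1_c8 LD2_c40 LD3_c3)) :=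
  Lre_d IH (LK LD1_c4 LD2_c21 LD3_c13) (LK LD1_c8 LD2_c40 LD3_c3) Lrfl Lrfl
theorem f260789 : Led Lsl_gt (LP (LK LD1_c4 LD2_c19 LD3_c36)) = (LP (LK LD1_c4 LD2_c21 LD3_c15)) :=
  Lgr Lrot49 (Lpe (K15.f260788 IH) (Lpe (K15.f260772 IH) (Lpr_cf (K15.f260773 IH) (Lpr_gt (K15.f219591 IH) (Lpr_dt (K15.f219590 IH) (Lpe (K12.f219584 IH) (Lpr_dt (K12.f31029 IH) (Lpe (K16.f219592 IH) (Lpe (f219589 IH) (Lpn (LP (LK LD1_c4 LD2_c21 LD3_c15))))))))))))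
theorem f267110 : Led Lsl_gt (LP (LK LD1_c4 LD2_c27 LD3_c53)) = (LP (LK LD1_c8 LD2_c53 LD3_c41)) :=
  Lre_g IH (LK LD1_c4 LD2_c27 LD3_c53) (LK LD1_c8 LD2_c53 LD3_c41) Lrfl Lrfl
theorem f292766 : Led Lsl_dt (LP (LK LD1_c8 LD2_c53 LD3_c41)) = (LP (LK LD1_c4 LD2_c28 LD3_c6)) :=
  Lgr Lrot115 (Lpe (f267110 IH) (Lpe (K16.f267096 IH) (Lpr_gt (f260789 IH) (Lpr_dt (f219589 IH) (Lpr_gt (f251766 IH) (Lpr_dt (f267109 IH) (Lpr_ct (f292749 IH) (Lpe (f265467 IH) (Lpr_gf (f276482 IH) (Lpn (LP (LK LD1_c4 LD2_c28 LD3_c6))))))))))))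
theorem f292499 : Led Lsl_ct (LP (LK LD1_c4 LD2_c28 LD3_c6)) = (LP (LK LD1_c4 LD2_c19 LD3_c21)) :=
  Lgr Lrot8 (Lpe (f276482 IH) (Lpr_dt (f265467 IH) (Lpe (f292350 IH) (Lpr_dt (f278730 IH) (Lpr_cf (K14.f254830 IH) (Lpe (K14.f254822 IH) (Lpr_gf (K15.f261315 IH) (Lpr_df (f223219 IH) (Lpr_gf (f292495 IH) (Lpn (LP (LK LD1_c4 LD2_c19 LD3_c21))))))))))))
theorem f292622 : Led Lsl_at (LP (LK LD1_c9 LD2_c51 LD3_c43)) = (LP (LK LD1_c8 LD2_c53 LD3_c42)) :=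
  Lgr Lrot100 (Lpr_af (f292620 IH) (Lpn (LP (LK LD1_c8 LD2_c53 LD3_c42))))
theorem f292781 : Led Lsl_ft (LP (LK LD1_c8 LD2_c53 LD3_c41)) = (LP (LK LD1_c9 LD2_c51 LD3_c43)) :=
  Lgr Lrot142 (Lpr_dt (f292766 IH) (Lpr_ct (f292499 IH) (Lpr_dt (K16.f279310 IH) (Lpr_ct (f279264 IH) (Lpr_dt (K16.f279198 IH) (Lpr_ct (f279258 IH) (Lpr_dt (f279301 IH) (Lpr_ct (f292437 IH) (Lpe (f292622 IH) (Lpn (LP (LK LD1_c9 LD2_c51 LD3_c43))))))))))))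
theorem f292798 : Led Lsl_gt (LP (LK LD1_c8 LD2_c53 LD3_c41)) = (LP (LK LD1_c4 LD2_c27 LD3_c61)) :=
  Lgr Lrot5 (Lpr_ft (f292781 IH) (Lpr_at (f292622 IH) (Lpe (f292649 IH) (Lpn (LP (LK LD1_c4 LD2_c27 LD3_c61))))))
theorem f223385 : Led Lsl_ct (LP (LK LD1_c2 LD2_c11 LD3_c16)) = (LP (LK LD1_c1 LD2_c2 LD3_c39)) :=
  Lre_c IH (LK LD1_c2 LD2_c11 LD3_c16) (LK LD1_c1 LD2_c2 LD3_c39) Lrfl Lrfl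
theorem f191852 : Led Lsl_ct (LP (LK LD1_c4 LD2_c28 LD3_c37)) = (LP (LK LD1_c2 LD2_c11 LD3_c21)) :=
  Lre_c IH (LK LD1_c4 LD2_c28 LD3_c37) (LK LD1_c2 LD2_c11 LD3_c21) Lrfl Lrfl
theorem f260782 : Led Lsl_ct (LP (LK LD1_c4 LD2_c19 LD3_c34)) = (LP (LK LD1_c4 LD2_c8 LD3_c58)) :=
  Lgr Lrot59 (Lpr_cf (K15.f260773 IH) (Lpn (LP (LK LD1_c4 LD2_c8 LD3_c58))))
theorem f267548 : Led Lsl_gt (LP (LK LD1_c8 LD2_c24 LD3_c4)) = (LP (LK LD1_c4 LD2_c28 LD3_c37)) :=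
  Lgr Lrot9 (Lpe (K16.f267099 IH) (Lpr_gt (K15.f267541 IH) (Lpr_ct (f260782 IH) (Lpr_gt (K15.f219591 IH) (Lpr_ct (K12.f167093 IH) (Lpe (K15.f219660 IH) (Lpe (K15.f219661 IH) (Lpe (K14.f187451 IH) (Lpe (f191852 IH) (Lpn (LP (LK LD1_c4 LD2_c28 LD3_c37))))))))))))
theorem f292802 : Led Lsl_cf (LP (LK LD1_c8 LD2_c24 LD3_c4)) = (LP (LK LD1_c4 LD2_c27 LD3_c61)) :=
  Lgr Lrot169 (Lpr_gt (f267548 IH) (Lpr_ct (f191852 IH) (Lpe (K14.f187450 IH) (Lpe (K9.f173160 IH) (Lpe (K12.f42315 IH) (Lpe (f223385 IH) (Lpr_gf (f276482 IH) (Lpe (f292766 IH) (Lpr_gt (f292798 IH) (Lpn (LP (LK LD1_c4 LD2_c27 LD3_c61))))))))))))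
theorem f267240 : Led Lsl_ft (LP (LK LD1_c8 LD2_c24 LD3_c4)) = (LP (LK LD1_c8 LD2_c37 LD3_c8)) :=
  Lgr Lrot48 (Lpr_ff (K15.f267224 IH) (Lpn (LP (LK LD1_c8 LD2_c37 LD3_c8))))
theorem f292830 : Led Lsl_ft (LP (LK LD1_c8 LD2_c7 LD3_c17)) = (LP (LK LD1_c4 LD2_c27 LD3_c61)) :=
  Lgr Lrot4 (Lpe (K16.f276419 IH) (Lpe (f267240 IH) (Lpr_cf (f292802 IH) (Lpn (LP (LK LD1_c4 LD2_c27 LD3_c61))))))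
theorem f213537 : Led Lsl_bt (LP (LK LD1_c15 LD2_c17 LD3_c38)) = (LP (LK LD1_c8 LD2_c7 LD3_c17)) :=
  Lre_b IH (LK LD1_c15 LD2_c17 LD3_c38) (LK LD1_c8 LD2_c7 LD3_c17) Lrfl Lrfl
theorem f267131 : Led Lsl_bt (LP (LK LD1_c4 LD2_c27 LD3_c61)) = (LP (LK LD1_c8 LD2_c53 LD3_c60)) :=
  Lre_b IH (LK LD1_c4 LD2_c27 LD3_c61) (LK LD1_c8 LD2_c53 LD3_c60) Lrfl Lrfl
theorem f292837 : Led Lsl_ff (LP (LK LD1_c15 LD2_c17 LD3_c38)) = (LP (LK LD1_c8 LD2_c53 LD3_c60)) :=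
  Lgr Lrot25 (Lpr_bt (f213537 IH) (Lpr_ft (f292830 IH) (Lpr_bt (f267131 IH) (Lpn (LP (LK LD1_c8 LD2_c53 LD3_c60))))))
theorem f292860 : Led Lsl_ft (LP (LK LD1_c15 LD2_c17 LD3_c38)) = (LP (LK LD1_c8 LD2_c53 LD3_c60)) :=
  Lgr Lrot48 (Lpr_ff (f292837 IH) (Lpn (LP (LK LD1_c8 LD2_c53 LD3_c60))))
theorem f200947 : Led Lsl_dt (LP (LK LD1_c15 LD2_c17 LD3_c38)) = (LP (LK LD1_c8 LD2_c7 LD3_c16)) :=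
  Lre_d IH (LK LD1_c15 LD2_c17 LD3_c38) (LK LD1_c8 LD2_c7 LD3_c16) Lrfl Lrfl
theorem f199506 : Led Lsl_ct (LP (LK LD1_c8 LD2_c7 LD3_c16)) = (LP (LK LD1_c4 LD2_c3 LD3_c28)) :=
  Lre_c IH (LK LD1_c8 LD2_c7 LD3_c16) (LK LD1_c4 LD2_c3 LD3_c28) Lrfl Lrfl
theorem f200878 : Led Lsl_bt (LP (LK LD1_c1 LD2_c58 LD3_c42)) = (LP (LK LD1_c4 LD2_c3 LD3_c28)) :=
  Lre_b IH (LK LD1_c1 LD2_c58 LD3_c42) (LK LD1_c4 LD2_c3 LD3_c28) Lrfl Lrfl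
theorem f200828 : Led Lsl_bt (LP (LK LD1_c4 LD2_c4 LD3_c2)) = (LP (LK LD1_c1 LD2_c58 LD3_c60)) :=
  Lre_b IH (LK LD1_c4 LD2_c4 LD3_c2) (LK LD1_c1 LD2_c58 LD3_c60) Lrfl Lrfl
theorem f200879 : Led Lsl_dt (LP (LK LD1_c4 LD2_c3 LD3_c28)) = (LP (LK LD1_c4 LD2_c4 LD3_c2)) :=
  Lgr Lrot79 (Lpe (f200878 IH) (Lpr_df (K11.f200820 IH) (Lpe (f200828 IH) (Lpn (LP (LK LD1_c4 LD2_c4 LD3_c2))))))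
theorem f196434 : Led Lsl_ct (LP (LK LD1_c4 LD2_c4 LD3_c2)) = (LP (LK LD1_c8 LD2_c8 LD3_c34)) :=
  Lre_c IH (LK LD1_c4 LD2_c4 LD3_c2) (LK LD1_c8 LD2_c8 LD3_c34) Lrfl Lrfl
theorem f201036 : Led Lsl_dt (LP (LK LD1_c8 LD2_c8 LD3_c34)) = (LP (LK LD1_c15 LD2_c19 LD3_c60)) :=
  Lre_d IH (LK LD1_c8 LD2_c8 LD3_c34) (LK LD1_c15 LD2_c19 LD3_c60) Lrfl Lrfl
theorem f201037 : Led Lsl_ct (LP (LK LD1_c15 LD2_c19 LD3_c60)) = (LP (LK LD1_c25 LD2_c11 LD3_c3)) :=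
  Lre_c IH (LK LD1_c15 LD2_c19 LD3_c60) (LK LD1_c25 LD2_c11 LD3_c3) Lrfl Lrfl
theorem f292866 : Led Lsl_at (LP (LK LD1_c8 LD2_c53 LD3_c60)) = (LP (LK LD1_c16 LD2_c38 LD3_c46)) :=
  Lre_a IH (LK LD1_c8 LD2_c53 LD3_c60) (LK LD1_c16 LD2_c38 LD3_c46) Lrfl Lrfl
theorem f292878 : Led Lsl_ct (LP (LK LD1_c26 LD2_c36 LD3_c60)) = (LP (LK LD1_c16 LD2_c38 LD3_c46)) :=
  Lre_c IH (LK LD1_c26 LD2_c36 LD3_c60) (LK LD1_c16 LD2_c38 LD3_c46) Lrfl Lrfl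
theorem f292879 : Led Lsl_dt (LP (LK LD1_c25 LD2_c11 LD3_c3)) = (LP (LK LD1_c26 LD2_c36 LD3_c60)) :=
  Lgr Lrot120 (Lpe (f201037 IH) (Lpe (f201036 IH) (Lpe (f196434 IH) (Lpe (f200879 IH) (Lpe (f199506 IH) (Lpe (f200947 IH) (Lpr_ft (f292860 IH) (Lpr_at (f292866 IH) (Lpe (f292878 IH) (Lpn (LP (LK LD1_c26 LD2_c36 LD3_c60))))))))))))
theorem f200715 : Led Lsl_bt (LP (LK LD1_c4 LD2_c19 LD3_c11)) = (LP (LK LD1_c2 LD2_c6 LD3_c61)) :=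
  Lre_b IH (LK LD1_c4 LD2_c19 LD3_c11) (LK LD1_c2 LD2_c6 LD3_c61) Lrfl Lrfl
theorem f256683 : Led Lsl_ff (LP (LK LD1_c4 LD2_c19 LD3_c11)) = (LP (LK LD1_c4 LD2_c3 LD3_c28)) :=
  Lgr Lrot25 (Lpr_bt (f200715 IH) (Lpr_ft (K15.f256681 IH) (Lpr_bt (f200878 IH) (Lpn (LP (LK LD1_c4 LD2_c3 LD3_c28))))))
theorem f223647 : Led Lsl_at (LP (LK LD1_c4 LD2_c19 LD3_c11)) = (LP (LK LD1_c8 LD2_c36 LD3_c49)) :=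
  Lre_a IH (LK LD1_c4 LD2_c19 LD3_c11) (LK LD1_c8 LD2_c36 LD3_c49) Lrfl Lrfl
theorem f292885 : Led Lsl_dt (LP (LK LD1_c16 LD2_c38 LD3_c46)) = (LP (LK LD1_c8 LD2_c53 LD3_c59)) :=
  Lre_d IH (LK LD1_c16 LD2_c38 LD3_c46) (LK LD1_c8 LD2_c53 LD3_c59) Lrfl Lrfl
theorem f292888 : Led Lsl_cf (LP (LK LD1_c8 LD2_c36 LD3_c49)) = (LP (LK LD1_c8 LD2_c53 LD3_c59)) :=
  Lgr Lrot102 (Lpe (f223647 IH) (Lpr_ff (f256683 IH) (Lpr_dt (f200879 IH) (Lpr_ct (f196434 IH) (Lpr_dt (f201036 IH) (Lpr_ct (f201037 IH) (Lpr_dt (f292879 IH) (Lpr_ct (f292878 IH) (Lpr_dt (f292885 IH) (Lpn (LP (LK LD1_c8 LD2_c53 LD3_c59))))))))))))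
theorem f223620 : Led Lsl_bt (LP (LK LD1_c8 LD2_c36 LD3_c51)) = (LP (LK LD1_c16 LD2_c8 LD3_c19)) :=
  Lre_b IH (LK LD1_c8 LD2_c36 LD3_c51) (LK LD1_c16 LD2_c8 LD3_c19) Lrfl Lrfl
theorem f223621 : Led Lsl_bt (LP (LK LD1_c24 LD2_c58 LD3_c12)) = (LP (LK LD1_c15 LD2_c9 LD3_c14)) :=
  Lre_b IH (LK LD1_c24 LD2_c58 LD3_c12) (LK LD1_c15 LD2_c9 LD3_c14) Lrfl Lrfl
theorem f223622 : Led Lsl_et (LP (LK LD1_c16 LD2_c8 LD3_c19)) = (LP (LK LD1_c24 LD2_c58 LD3_c12)) :=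
  Lgr Lrot74 (Lpe (f223620 IH) (Lpr_ef (K16.f223615 IH) (Lpe (f223621 IH) (Lpn (LP (LK LD1_c24 LD2_c58 LD3_c12))))))
theorem f223637 : Led Lsl_dt (LP (LK LD1_c8 LD2_c36 LD3_c50)) = (LP (LK LD1_c16 LD2_c8 LD3_c19)) :=
  Lre_d IH (LK LD1_c8 LD2_c36 LD3_c50) (LK LD1_c16 LD2_c8 LD3_c19) Lrfl Lrfl
theorem f223638 : Led Lsl_et (LP (LK LD1_c4 LD2_c19 LD3_c11)) = (LP (LK LD1_c8 LD2_c36 LD3_c50)) :=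
  Lre_e IH (LK LD1_c4 LD2_c19 LD3_c11) (LK LD1_c8 LD2_c36 LD3_c50) Lrfl Lrfl
theorem f219009 : Led Lsl_dt (LP (LK LD1_c24 LD2_c58 LD3_c12)) = (LP (LK LD1_c15 LD2_c9 LD3_c13)) :=
  Lre_d IH (LK LD1_c24 LD2_c58 LD3_c12) (LK LD1_c15 LD2_c9 LD3_c13) Lrfl Lrfl
theorem f219003 : Led Lsl_et (LP (LK LD1_c15 LD2_c9 LD3_c13)) = (LP (LK LD1_c8 LD2_c2 LD3_c54)) :=
  Lre_e IH (LK LD1_c15 LD2_c9 LD3_c13) (LK LD1_c8 LD2_c2 LD3_c54) Lrfl Lrfl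
theorem f223639 : Led Lsl_df (LP (LK LD1_c4 LD2_c19 LD3_c11)) = (LP (LK LD1_c8 LD2_c2 LD3_c54)) :=
  Lgr Lrot70 (Lpr_et (f223638 IH) (Lpr_dt (f223637 IH) (Lpr_et (f223622 IH) (Lpr_dt (f219009 IH) (Lpr_et (f219003 IH) (Lpn (LP (LK LD1_c8 LD2_c2 LD3_c54))))))))
theorem f219013 : Led Lsl_at (LP (LK LD1_c15 LD2_c9 LD3_c12)) = (LP (LK LD1_c8 LD2_c2 LD3_c54)) :=
  Lre_a IH (LK LD1_c15 LD2_c9 LD3_c12) (LK LD1_c8 LD2_c2 LD3_c54) Lrfl Lrfl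
theorem f223648 : Led Lsl_dt (LP (LK LD1_c8 LD2_c36 LD3_c49)) = (LP (LK LD1_c15 LD2_c9 LD3_c12)) :=
  Lgr Lrot44 (Lpe (f223647 IH) (Lpr_df (f223639 IH) (Lpe (f219013 IH) (Lpn (LP (LK LD1_c15 LD2_c9 LD3_c12))))))
theorem f218703 : Led Lsl_et (LP (LK LD1_c3 LD2_c58 LD3_c30)) = (LP (LK LD1_c7 LD2_c58 LD3_c28)) :=
  Lre_e IH (LK LD1_c3 LD2_c58 LD3_c30) (LK LD1_c7 LD2_c58 LD3_c28) Lrfl Lrfl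
theorem f218704 : Led Lsl_et (LP (LK LD1_c8 LD2_c2 LD3_c53)) = (LP (LK LD1_c4 LD2_c1 LD3_c4)) :=
  Lre_e IH (LK LD1_c8 LD2_c2 LD3_c53) (LK LD1_c4 LD2_c1 LD3_c4) Lrfl Lrfl
theorem f218705 : Led Lsl_ct (LP (LK LD1_c7 LD2_c58 LD3_c28)) = (LP (LK LD1_c8 LD2_c2 LD3_c53)) :=
  Lgr Lrot15 (Lpe (f218703 IH) (Lpr_cf (K12.f217473 IH) (Lpe (f218704 IH) (Lpn (LP (LK LD1_c8 LD2_c2 LD3_c53))))))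
theorem f218969 : Led Lsl_cf (LP (LK LD1_c7 LD2_c58 LD3_c28)) = (LP (LK LD1_c8 LD2_c2 LD3_c53)) :=
  Lgr Lrot11 (Lpr_ct (f218705 IH) (Lpn (LP (LK LD1_c8 LD2_c2 LD3_c53))))
theorem f218981 : Led Lsl_bt (LP (LK LD1_c7 LD2_c58 LD3_c28)) = (LP (LK LD1_c15 LD2_c2 LD3_c37)) :=
  Lre_b IH (LK LD1_c7 LD2_c58 LD3_c28) (LK LD1_c15 LD2_c2 LD3_c37) Lrfl Lrfl
theorem f218994 : Led Lsl_bt (LP (LK LD1_c4 LD2_c1 LD3_c6)) = (LP (LK LD1_c8 LD2_c2 LD3_c53)) :=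
  Lre_b IH (LK LD1_c4 LD2_c1 LD3_c6) (LK LD1_c8 LD2_c2 LD3_c53) Lrfl Lrfl
theorem f216343 : Led Lsl_ct (LP (LK LD1_c8 LD2_c2 LD3_c55)) = (LP (LK LD1_c4 LD2_c1 LD3_c6)) :=
  Lre_c IH (LK LD1_c8 LD2_c2 LD3_c55) (LK LD1_c4 LD2_c1 LD3_c6) Lrfl Lrfl
theorem f218995 : Led Lsl_bt (LP (LK LD1_c15 LD2_c9 LD3_c13)) = (LP (LK LD1_c8 LD2_c2 LD3_c55)) :=
  Lre_b IH (LK LD1_c15 LD2_c9 LD3_c13) (LK LD1_c8 LD2_c2 LD3_c55) Lrfl Lrfl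
theorem f218996 : Led Lsl_ct (LP (LK LD1_c15 LD2_c2 LD3_c37)) = (LP (LK LD1_c15 LD2_c9 LD3_c13)) :=
  Lgr Lrot83 (Lpe (f218981 IH) (Lpr_cf (f218969 IH) (Lpe (f218994 IH) (Lpe (f216343 IH) (Lpe (f218995 IH) (Lpn (LP (LK LD1_c15 LD2_c9 LD3_c13))))))))
theorem f219002 : Led Lsl_et (LP (LK LD1_c7 LD2_c58 LD3_c26)) = (LP (LK LD1_c15 LD2_c2 LD3_c37)) :=
  Lre_e IH (LK LD1_c7 LD2_c58 LD3_c26) (LK LD1_c15 LD2_c2 LD3_c37) Lrfl Lrfl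
theorem f219004 : Led Lsl_cf (LP (LK LD1_c7 LD2_c58 LD3_c26)) = (LP (LK LD1_c8 LD2_c2 LD3_c54)) :=
  Lgr Lrot39 (Lpr_et (f219002 IH) (Lpr_ct (f218996 IH) (Lpr_et (f219003 IH) (Lpn (LP (LK LD1_c8 LD2_c2 LD3_c54))))))
theorem f219012 : Led Lsl_at (LP (LK LD1_c7 LD2_c58 LD3_c26)) = (LP (LK LD1_c15 LD2_c2 LD3_c35)) :=
  Lre_a IH (LK LD1_c7 LD2_c58 LD3_c26) (LK LD1_c15 LD2_c2 LD3_c35) Lrfl Lrfl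
theorem f219014 : Led Lsl_ct (LP (LK LD1_c15 LD2_c2 LD3_c35)) = (LP (LK LD1_c15 LD2_c9 LD3_c12)) :=
  Lgr Lrot111 (Lpe (f219012 IH) (Lpr_cf (f219004 IH) (Lpe (f219013 IH) (Lpn (LP (LK LD1_c15 LD2_c9 LD3_c12))))))
theorem f219040 : Led Lsl_cf (LP (LK LD1_c15 LD2_c2 LD3_c35)) = (LP (LK LD1_c15 LD2_c9 LD3_c12)) :=
  Lgr Lrot11 (Lpr_ct (f219014 IH) (Lpn (LP (LK LD1_c15 LD2_c9 LD3_c12))))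
theorem f219046 : Led Lsl_dt (LP (LK LD1_c15 LD2_c2 LD3_c35)) = (LP (LK LD1_c24 LD2_c51 LD3_c18)) :=
  Lre_d IH (LK LD1_c15 LD2_c2 LD3_c35) (LK LD1_c24 LD2_c51 LD3_c18) Lrfl Lrfl
theorem f219047 : Led Lsl_ct (LP (LK LD1_c24 LD2_c51 LD3_c18)) = (LP (LK LD1_c31 LD2_c41 LD3_c21)) :=
  Lre_c IH (LK LD1_c24 LD2_c51 LD3_c18) (LK LD1_c31 LD2_c41 LD3_c21) Lrfl Lrfl
theorem f219049 : Led Lsl_at (LP (LK LD1_c24 LD2_c51 LD3_c21)) = (LP (LK LD1_c31 LD2_c41 LD3_c21)) :=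
  Lre_a IH (LK LD1_c24 LD2_c51 LD3_c21) (LK LD1_c31 LD2_c41 LD3_c21) Lrfl Lrfl
theorem f292904 : Led Lsl_ff (LP (LK LD1_c24 LD2_c51 LD3_c21)) = (LP (LK LD1_c25 LD2_c11 LD3_c3)) :=
  Lgr Lrot103 (Lpr_at (f219049 IH) (Lpe (f219047 IH) (Lpe (f219046 IH) (Lpr_cf (f219040 IH) (Lpe (f223648 IH) (Lpr_cf (f292888 IH) (Lpe (f292885 IH) (Lpe (f292878 IH) (Lpe (f292879 IH) (Lpn (LP (LK LD1_c25 LD2_c11 LD3_c3))))))))))))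
theorem f292910 : Led Lsl_ft (LP (LK LD1_c24 LD2_c51 LD3_c21)) = (LP (LK LD1_c25 LD2_c11 LD3_c3)) :=
  Lgr Lrot48 (Lpr_ff (f292904 IH) (Lpn (LP (LK LD1_c25 LD2_c11 LD3_c3))))
theorem f219018 : Led Lsl_ct (LP (LK LD1_c15 LD2_c2 LD3_c36)) = (LP (LK LD1_c24 LD2_c51 LD3_c21)) :=
  Lre_c IH (LK LD1_c15 LD2_c2 LD3_c36) (LK LD1_c24 LD2_c51 LD3_c21) Lrfl Lrfl
theorem f200945 : Led Lsl_ct (LP (LK LD1_c25 LD2_c11 LD3_c3)) = (LP (LK LD1_c15 LD2_c19 LD3_c60)) :=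
  Lre_c IH (LK LD1_c25 LD2_c11 LD3_c3) (LK LD1_c15 LD2_c19 LD3_c60) Lrfl Lrfl
theorem f292912 : Led Lsl_ff (LP (LK LD1_c15 LD2_c2 LD3_c36)) = (LP (LK LD1_c15 LD2_c19 LD3_c60)) :=
  Lgr Lrot23 (Lpr_ct (f219018 IH) (Lpr_ft (f292910 IH) (Lpr_ct (f200945 IH) (Lpn (LP (LK LD1_c15 LD2_c19 LD3_c60))))))
theorem f292915 : Led Lsl_at (LP (LK LD1_c15 LD2_c2 LD3_c36)) = (LP (LK LD1_c24 LD2_c51 LD3_c18)) :=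
  Lre_a IH (LK LD1_c15 LD2_c2 LD3_c36) (LK LD1_c24 LD2_c51 LD3_c18) Lrfl Lrfl
theorem f219043 : Led Lsl_ct (LP (LK LD1_c31 LD2_c41 LD3_c21)) = (LP (LK LD1_c24 LD2_c51 LD3_c18)) :=
  Lre_c IH (LK LD1_c31 LD2_c41 LD3_c21) (LK LD1_c24 LD2_c51 LD3_c18) Lrfl Lrfl
theorem f200944 : Led Lsl_dt (LP (LK LD1_c15 LD2_c19 LD3_c60)) = (LP (LK LD1_c8 LD2_c8 LD3_c34)) :=
  Lre_d IH (LK LD1_c15 LD2_c19 LD3_c60) (LK LD1_c8 LD2_c8 LD3_c34) Lrfl Lrfl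
theorem f200883 : Led Lsl_et (LP (LK LD1_c1 LD2_c58 LD3_c42)) = (LP (LK LD1_c4 LD2_c3 LD3_c29)) :=
  Lre_e IH (LK LD1_c1 LD2_c58 LD3_c42) (LK LD1_c4 LD2_c3 LD3_c29) Lrfl Lrfl
theorem f200884 : Led Lsl_dt (LP (LK LD1_c4 LD2_c3 LD3_c29)) = (LP (LK LD1_c8 LD2_c7 LD3_c34)) :=
  Lre_d IH (LK LD1_c4 LD2_c3 LD3_c29) (LK LD1_c8 LD2_c7 LD3_c34) Lrfl Lrfl
theorem f200830 : Led Lsl_et (LP (LK LD1_c4 LD2_c4 LD3_c3)) = (LP (LK LD1_c1 LD2_c58 LD3_c60)) :=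
  Lre_e IH (LK LD1_c4 LD2_c4 LD3_c3) (LK LD1_c1 LD2_c58 LD3_c60) Lrfl Lrfl
theorem f200885 : Led Lsl_dt (LP (LK LD1_c8 LD2_c8 LD3_c46)) = (LP (LK LD1_c4 LD2_c4 LD3_c3)) :=
  Lre_d IH (LK LD1_c8 LD2_c8 LD3_c46) (LK LD1_c4 LD2_c4 LD3_c3) Lrfl Lrfl
theorem f200886 : Led Lsl_et (LP (LK LD1_c8 LD2_c7 LD3_c34)) = (LP (LK LD1_c8 LD2_c8 LD3_c46)) :=
  Lgr Lrot71 (Lpe (f200884 IH) (Lpe (f200883 IH) (Lpr_df (K11.f200820 IH) (Lpe (f200830 IH) (Lpe (f200885 IH) (Lpn (LP (LK LD1_c8 LD2_c8 LD3_c46))))))))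
theorem f200898 : Led Lsl_ef (LP (LK LD1_c8 LD2_c7 LD3_c34)) = (LP (LK LD1_c8 LD2_c8 LD3_c46)) :=
  Lgr Lrot88 (Lpr_et (f200886 IH) (Lpn (LP (LK LD1_c8 LD2_c8 LD3_c46))))
theorem f200917 : Led Lsl_bt (LP (LK LD1_c8 LD2_c7 LD3_c34)) = (LP (LK LD1_c15 LD2_c18 LD3_c4)) :=
  Lre_b IH (LK LD1_c8 LD2_c7 LD3_c34) (LK LD1_c15 LD2_c18 LD3_c4) Lrfl Lrfl
theorem f200918 : Led Lsl_bt (LP (LK LD1_c15 LD2_c20 LD3_c11)) = (LP (LK LD1_c8 LD2_c8 LD3_c46)) :=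
  Lre_b IH (LK LD1_c15 LD2_c20 LD3_c11) (LK LD1_c8 LD2_c8 LD3_c46) Lrfl Lrfl
theorem f200919 : Led Lsl_et (LP (LK LD1_c15 LD2_c18 LD3_c4)) = (LP (LK LD1_c15 LD2_c20 LD3_c11)) :=
  Lgr Lrot74 (Lpe (f200917 IH) (Lpr_ef (f200898 IH) (Lpe (f200918 IH) (Lpn (LP (LK LD1_c15 LD2_c20 LD3_c11))))))
theorem f200928 : Led Lsl_dt (LP (LK LD1_c8 LD2_c7 LD3_c31)) = (LP (LK LD1_c15 LD2_c18 LD3_c4)) :=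
  Lre_d IH (LK LD1_c8 LD2_c7 LD3_c31) (LK LD1_c15 LD2_c18 LD3_c4) Lrfl Lrfl
theorem f200929 : Led Lsl_et (LP (LK LD1_c4 LD2_c3 LD3_c28)) = (LP (LK LD1_c8 LD2_c7 LD3_c31)) :=
  Lre_e IH (LK LD1_c4 LD2_c3 LD3_c28) (LK LD1_c8 LD2_c7 LD3_c31) Lrfl Lrfl
theorem f200930 : Led Lsl_dt (LP (LK LD1_c15 LD2_c20 LD3_c11)) = (LP (LK LD1_c8 LD2_c8 LD3_c43)) :=
  Lre_d IH (LK LD1_c15 LD2_c20 LD3_c11) (LK LD1_c8 LD2_c8 LD3_c43) Lrfl Lrfl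
theorem f200931 : Led Lsl_et (LP (LK LD1_c8 LD2_c8 LD3_c43)) = (LP (LK LD1_c4 LD2_c4 LD3_c2)) :=
  Lre_e IH (LK LD1_c8 LD2_c8 LD3_c43) (LK LD1_c4 LD2_c4 LD3_c2) Lrfl Lrfl
theorem f200932 : Led Lsl_df (LP (LK LD1_c4 LD2_c3 LD3_c28)) = (LP (LK LD1_c4 LD2_c4 LD3_c2)) :=
  Lgr Lrot70 (Lpr_et (f200929 IH) (Lpr_dt (f200928 IH) (Lpr_et (f200919 IH) (Lpr_dt (f200930 IH) (Lpr_et (f200931 IH) (Lpn (LP (LK LD1_c4 LD2_c4 LD3_c2))))))))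
theorem f200941 : Led Lsl_ct (LP (LK LD1_c4 LD2_c3 LD3_c28)) = (LP (LK LD1_c8 LD2_c7 LD3_c16)) :=
  Lre_c IH (LK LD1_c4 LD2_c3 LD3_c28) (LK LD1_c8 LD2_c7 LD3_c16) Lrfl Lrfl
theorem f200942 : Led Lsl_dt (LP (LK LD1_c8 LD2_c7 LD3_c16)) = (LP (LK LD1_c15 LD2_c17 LD3_c38)) :=
  Lre_d IH (LK LD1_c8 LD2_c7 LD3_c16) (LK LD1_c15 LD2_c17 LD3_c38) Lrfl Lrfl
theorem f200943 : Led Lsl_ct (LP (LK LD1_c15 LD2_c17 LD3_c38)) = (LP (LK LD1_c25 LD2_c8 LD3_c5)) :=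
  Lre_c IH (LK LD1_c15 LD2_c17 LD3_c38) (LK LD1_c25 LD2_c8 LD3_c5) Lrfl Lrfl
theorem f292927 : Led Lsl_df (LP (LK LD1_c31 LD2_c41 LD3_c21)) = (LP (LK LD1_c25 LD2_c8 LD3_c5)) :=
  Lgr Lrot177 (Lpr_ct (f219043 IH) (Lpe (f292915 IH) (Lpr_ff (f292912 IH) (Lpr_dt (f200944 IH) (Lpr_ct (K13.f196425 IH) (Lpe (f200932 IH) (Lpr_ct (f200941 IH) (Lpr_dt (f200942 IH) (Lpr_ct (f200943 IH) (Lpn (LP (LK LD1_c25 LD2_c8 LD3_c5))))))))))))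
theorem f219042 : Led Lsl_dt (LP (LK LD1_c24 LD2_c51 LD3_c18)) = (LP (LK LD1_c15 LD2_c2 LD3_c35)) :=
  Lre_d IH (LK LD1_c24 LD2_c51 LD3_c18) (LK LD1_c15 LD2_c2 LD3_c35) Lrfl Lrfl
theorem f219045 : Led Lsl_at (LP (LK LD1_c8 LD2_c2 LD3_c54)) = (LP (LK LD1_c15 LD2_c9 LD3_c12)) :=
  Lre_a IH (LK LD1_c8 LD2_c2 LD3_c54) (LK LD1_c15 LD2_c9 LD3_c12) Lrfl Lrfl
theorem f292929 : Led Lsl_ff (LP (LK LD1_c8 LD2_c2 LD3_c54)) = (LP (LK LD1_c4 LD2_c4 LD3_c2)) :=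
  Lgr Lrot103 (Lpr_at (f219045 IH) (Lpe (f219014 IH) (Lpe (f219042 IH) (Lpe (f219043 IH) (Lpr_df (f292927 IH) (Lpe (f200943 IH) (Lpe (f200942 IH) (Lpe (f200941 IH) (Lpr_df (f200932 IH) (Lpn (LP (LK LD1_c4 LD2_c4 LD3_c2))))))))))))
theorem f292937 : Led Lsl_ft (LP (LK LD1_c8 LD2_c2 LD3_c54)) = (LP (LK LD1_c4 LD2_c4 LD3_c2)) :=
  Lgr Lrot48 (Lpr_ff (f292929 IH) (Lpn (LP (LK LD1_c4 LD2_c4 LD3_c2))))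
theorem f223658 : Led Lsl_at (LP (LK LD1_c8 LD2_c36 LD3_c49)) = (LP (LK LD1_c4 LD2_c19 LD3_c11)) :=
  Lre_a IH (LK LD1_c8 LD2_c36 LD3_c49) (LK LD1_c4 LD2_c19 LD3_c11) Lrfl Lrfl
theorem f292892 : Led Lsl_at (LP (LK LD1_c4 LD2_c27 LD3_c60)) = (LP (LK LD1_c8 LD2_c53 LD3_c59)) :=
  Lre_a IH (LK LD1_c4 LD2_c27 LD3_c60) (LK LD1_c8 LD2_c53 LD3_c59) Lrfl Lrfl
theorem f292893 : Led Lsl_ct (LP (LK LD1_c4 LD2_c19 LD3_c11)) = (LP (LK LD1_c4 LD2_c27 LD3_c60)) :=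
  Lgr Lrot111 (Lpe (f223658 IH) (Lpr_cf (f292888 IH) (Lpe (f292892 IH) (Lpn (LP (LK LD1_c4 LD2_c27 LD3_c60))))))
theorem f292854 : Led Lsl_dt (LP (LK LD1_c4 LD2_c27 LD3_c60)) = (LP (LK LD1_c8 LD2_c53 LD3_c60)) :=
  Lre_d IH (LK LD1_c4 LD2_c27 LD3_c60) (LK LD1_c8 LD2_c53 LD3_c60) Lrfl Lrfl
theorem f292653 : Led Lsl_ct (LP (LK LD1_c8 LD2_c53 LD3_c60)) = (LP (LK LD1_c16 LD2_c38 LD3_c50)) :=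
  Lre_c IH (LK LD1_c8 LD2_c53 LD3_c60) (LK LD1_c16 LD2_c38 LD3_c50) Lrfl Lrfl
theorem f292882 : Led Lsl_dt (LP (LK LD1_c16 LD2_c38 LD3_c50)) = (LP (LK LD1_c26 LD2_c37 LD3_c8)) :=
  Lre_d IH (LK LD1_c16 LD2_c38 LD3_c50) (LK LD1_c26 LD2_c37 LD3_c8) Lrfl Lrfl
theorem f200988 : Led Lsl_at (LP (LK LD1_c4 LD2_c4 LD3_c2)) = (LP (LK LD1_c8 LD2_c8 LD3_c42)) :=
  Lre_a IH (LK LD1_c4 LD2_c4 LD3_c2) (LK LD1_c8 LD2_c8 LD3_c42) Lrfl Lrfl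
theorem f200984 : Led Lsl_ct (LP (LK LD1_c15 LD2_c19 LD3_c59)) = (LP (LK LD1_c8 LD2_c8 LD3_c42)) :=
  Lre_c IH (LK LD1_c15 LD2_c19 LD3_c59) (LK LD1_c8 LD2_c8 LD3_c42) Lrfl Lrfl
theorem f200985 : Led Lsl_dt (LP (LK LD1_c25 LD2_c10 LD3_c61)) = (LP (LK LD1_c15 LD2_c19 LD3_c59)) :=
  Lre_d IH (LK LD1_c25 LD2_c10 LD3_c61) (LK LD1_c15 LD2_c19 LD3_c59) Lrfl Lrfl
theorem f292961 : Led Lsl_ct (LP (LK LD1_c26 LD2_c37 LD3_c8)) = (LP (LK LD1_c25 LD2_c10 LD3_c61)) :=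
  Lgr Lrot53 (Lpe (f292882 IH) (Lpe (f292653 IH) (Lpe (f292854 IH) (Lpe (f292893 IH) (Lpr_df (f223639 IH) (Lpr_ft (f292937 IH) (Lpr_at (f200988 IH) (Lpe (f200984 IH) (Lpe (f200985 IH) (Lpn (LP (LK LD1_c25 LD2_c10 LD3_c61))))))))))))
theorem f292965 : Led Lsl_cf (LP (LK LD1_c26 LD2_c37 LD3_c8)) = (LP (LK LD1_c25 LD2_c10 LD3_c61)) :=
  Lgr Lrot11 (Lpr_ct (f292961 IH) (Lpn (LP (LK LD1_c25 LD2_c10 LD3_c61))))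
theorem f292662 : Led Lsl_dt (LP (LK LD1_c26 LD2_c37 LD3_c8)) = (LP (LK LD1_c16 LD2_c38 LD3_c50)) :=
  Lre_d IH (LK LD1_c26 LD2_c37 LD3_c8) (LK LD1_c16 LD2_c38 LD3_c50) Lrfl Lrfl
theorem f292661 : Led Lsl_ct (LP (LK LD1_c16 LD2_c38 LD3_c50)) = (LP (LK LD1_c8 LD2_c53 LD3_c60)) :=
  Lre_c IH (LK LD1_c16 LD2_c38 LD3_c50) (LK LD1_c8 LD2_c53 LD3_c60) Lrfl Lrfl
theorem f292864 : Led Lsl_dt (LP (LK LD1_c8 LD2_c53 LD3_c60)) = (LP (LK LD1_c4 LD2_c27 LD3_c60)) :=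
  Lre_d IH (LK LD1_c8 LD2_c53 LD3_c60) (LK LD1_c4 LD2_c27 LD3_c60) Lrfl Lrfl
theorem f168606 : Led Lsl_bt (LP (LK LD1_c2 LD2_c11 LD3_c10)) = (LP (LK LD1_c4 LD2_c27 LD3_c60)) :=
  Lre_b IH (LK LD1_c2 LD2_c11 LD3_c10) (LK LD1_c4 LD2_c27 LD3_c60) Lrfl Lrfl
theorem f247339 : Led Lsl_cf (LP (LK LD1_c4 LD2_c19 LD3_c11)) = (LP (LK LD1_c4 LD2_c27 LD3_c60)) :=
  Lgr Lrot97 (Lpr_bt (f200715 IH) (Lpr_ct (K12.f180102 IH) (Lpr_bt (K14.f247335 IH) (Lpr_ct (K16.f168605 IH) (Lpr_bt (f168606 IH) (Lpn (LP (LK LD1_c4 LD2_c27 LD3_c60))))))))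
theorem f200978 : Led Lsl_dt (LP (LK LD1_c15 LD2_c19 LD3_c59)) = (LP (LK LD1_c25 LD2_c10 LD3_c61)) :=
  Lre_d IH (LK LD1_c15 LD2_c19 LD3_c59) (LK LD1_c25 LD2_c10 LD3_c61) Lrfl Lrfl
theorem f200977 : Led Lsl_ct (LP (LK LD1_c8 LD2_c8 LD3_c42)) = (LP (LK LD1_c15 LD2_c19 LD3_c59)) :=
  Lre_c IH (LK LD1_c8 LD2_c8 LD3_c42) (LK LD1_c15 LD2_c19 LD3_c59) Lrfl Lrfl
theorem f200936 : Led Lsl_at (LP (LK LD1_c4 LD2_c3 LD3_c28)) = (LP (LK LD1_c8 LD2_c7 LD3_c30)) :=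
  Lre_a IH (LK LD1_c4 LD2_c3 LD3_c28) (LK LD1_c8 LD2_c7 LD3_c30) Lrfl Lrfl
theorem f200937 : Led Lsl_at (LP (LK LD1_c8 LD2_c8 LD3_c42)) = (LP (LK LD1_c4 LD2_c4 LD3_c2)) :=
  Lre_a IH (LK LD1_c8 LD2_c8 LD3_c42) (LK LD1_c4 LD2_c4 LD3_c2) Lrfl Lrfl
theorem f200938 : Led Lsl_dt (LP (LK LD1_c8 LD2_c7 LD3_c30)) = (LP (LK LD1_c8 LD2_c8 LD3_c42)) :=
  Lgr Lrot44 (Lpe (f200936 IH) (Lpr_df (f200932 IH) (Lpe (f200937 IH) (Lpn (LP (LK LD1_c8 LD2_c8 LD3_c42))))))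
theorem f292988 : Led Lsl_ff (LP (LK LD1_c8 LD2_c36 LD3_c49)) = (LP (LK LD1_c8 LD2_c7 LD3_c30)) :=
  Lgr Lrot103 (Lpr_at (f223658 IH) (Lpr_cf (f247339 IH) (Lpe (f292864 IH) (Lpe (f292661 IH) (Lpe (f292662 IH) (Lpr_cf (f292965 IH) (Lpe (f200978 IH) (Lpe (f200977 IH) (Lpe (f200938 IH) (Lpn (LP (LK LD1_c8 LD2_c7 LD3_c30))))))))))))
theorem f292996 : Led Lsl_ft (LP (LK LD1_c8 LD2_c36 LD3_c49)) = (LP (LK LD1_c8 LD2_c7 LD3_c30)) :=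
  Lgr Lrot48 (Lpr_ff (f292988 IH) (Lpn (LP (LK LD1_c8 LD2_c7 LD3_c30))))
theorem f218875 : Led Lsl_bt (LP (LK LD1_c1 LD2_c58 LD3_c51)) = (LP (LK LD1_c4 LD2_c3 LD3_c46)) :=
  Lre_b IH (LK LD1_c1 LD2_c58 LD3_c51) (LK LD1_c4 LD2_c3 LD3_c46) Lrfl Lrfl
theorem f227098 : Led Lsl_at (LP (LK LD1_c4 LD2_c3 LD3_c46)) = (LP (LK LD1_c8 LD2_c7 LD3_c58)) :=
  Lre_a IH (LK LD1_c4 LD2_c3 LD3_c46) (LK LD1_c8 LD2_c7 LD3_c58) Lrfl Lrfl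
theorem f256708 : Led Lsl_bf (LP (LK LD1_c8 LD2_c36 LD3_c49)) = (LP (LK LD1_c8 LD2_c7 LD3_c58)) :=
  Lgr Lrot81 (Lpr_at (f223658 IH) (Lpr_bt (f200715 IH) (Lpr_at (K15.f256704 IH) (Lpr_bt (f218875 IH) (Lpr_at (f227098 IH) (Lpn (LP (LK LD1_c8 LD2_c7 LD3_c58))))))))
theorem f227185 : Led Lsl_at (LP (LK LD1_c8 LD2_c8 LD3_c11)) = (LP (LK LD1_c15 LD2_c19 LD3_c11)) :=
  Lre_a IH (LK LD1_c8 LD2_c8 LD3_c11) (LK LD1_c15 LD2_c19 LD3_c11) Lrfl Lrfl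
theorem f227183 : Led Lsl_ct (LP (LK LD1_c8 LD2_c8 LD3_c18)) = (LP (LK LD1_c15 LD2_c19 LD3_c11)) :=
  Lre_c IH (LK LD1_c8 LD2_c8 LD3_c18) (LK LD1_c15 LD2_c19 LD3_c11) Lrfl Lrfl
theorem f53028 : Led Lsl_bt (LP (LK LD1_c1 LD2_c58 LD3_c57)) = (LP (LK LD1_c4 LD2_c3 LD3_c55)) :=
  Lre_b IH (LK LD1_c1 LD2_c58 LD3_c57) (LK LD1_c4 LD2_c3 LD3_c55) Lrfl Lrfl
theorem f226977 : Led Lsl_bt (LP (LK LD1_c4 LD2_c3 LD3_c46)) = (LP (LK LD1_c1 LD2_c58 LD3_c51)) :=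
  Lre_b IH (LK LD1_c4 LD2_c3 LD3_c46) (LK LD1_c1 LD2_c58 LD3_c51) Lrfl Lrfl
theorem f226978 : Led Lsl_dt (LP (LK LD1_c4 LD2_c3 LD3_c55)) = (LP (LK LD1_c4 LD2_c3 LD3_c46)) :=
  Lgr Lrot79 (Lpe (f53028 IH) (Lpr_df (K13.f226901 IH) (Lpe (f226977 IH) (Lpn (LP (LK LD1_c4 LD2_c3 LD3_c46))))))
theorem f227097 : Led Lsl_at (LP (LK LD1_c8 LD2_c8 LD3_c18)) = (LP (LK LD1_c4 LD2_c3 LD3_c55)) :=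
  Lre_a IH (LK LD1_c8 LD2_c8 LD3_c18) (LK LD1_c4 LD2_c3 LD3_c55) Lrfl Lrfl
theorem f227099 : Led Lsl_df (LP (LK LD1_c8 LD2_c8 LD3_c18)) = (LP (LK LD1_c8 LD2_c7 LD3_c58)) :=
  Lgr Lrot18 (Lpr_at (f227097 IH) (Lpr_dt (f226978 IH) (Lpr_at (f227098 IH) (Lpn (LP (LK LD1_c8 LD2_c7 LD3_c58))))))
theorem f227180 : Led Lsl_ct (LP (LK LD1_c15 LD2_c18 LD3_c34)) = (LP (LK LD1_c8 LD2_c7 LD3_c58)) :=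
  Lre_c IH (LK LD1_c15 LD2_c18 LD3_c34) (LK LD1_c8 LD2_c7 LD3_c58) Lrfl Lrfl
theorem f227181 : Led Lsl_dt (LP (LK LD1_c25 LD2_c9 LD3_c18)) = (LP (LK LD1_c15 LD2_c18 LD3_c34)) :=
  Lre_d IH (LK LD1_c25 LD2_c9 LD3_c18) (LK LD1_c15 LD2_c18 LD3_c34) Lrfl Lrfl
theorem f223577 : Led Lsl_dt (LP (LK LD1_c4 LD2_c28 LD3_c15)) = (LP (LK LD1_c8 LD2_c54 LD3_c38)) :=
  Lre_d IH (LK LD1_c4 LD2_c28 LD3_c15) (LK LD1_c8 LD2_c54 LD3_c38) Lrfl Lrfl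
theorem f223578 : Led Lsl_ct (LP (LK LD1_c8 LD2_c54 LD3_c38)) = (LP (LK LD1_c16 LD2_c40 LD3_c8)) :=
  Lre_c IH (LK LD1_c8 LD2_c54 LD3_c38) (LK LD1_c16 LD2_c40 LD3_c8) Lrfl Lrfl
theorem f223579 : Led Lsl_dt (LP (LK LD1_c16 LD2_c40 LD3_c8)) = (LP (LK LD1_c26 LD2_c38 LD3_c42)) :=
  Lre_d IH (LK LD1_c16 LD2_c40 LD3_c8) (LK LD1_c26 LD2_c38 LD3_c42) Lrfl Lrfl
theorem f292227 : Led Lsl_cf (LP (LK LD1_c25 LD2_c9 LD3_c18)) = (LP (LK LD1_c26 LD2_c38 LD3_c42)) :=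
  Lgr Lrot116 (Lpr_dt (f227181 IH) (Lpr_ct (f227180 IH) (Lpe (f227099 IH) (Lpr_ct (f227183 IH) (Lpe (f227185 IH) (Lpr_ff (f292212 IH) (Lpr_dt (f223577 IH) (Lpr_ct (f223578 IH) (Lpr_dt (f223579 IH) (Lpn (LP (LK LD1_c26 LD2_c38 LD3_c42))))))))))))
theorem f292232 : Led Lsl_ct (LP (LK LD1_c25 LD2_c9 LD3_c18)) = (LP (LK LD1_c26 LD2_c38 LD3_c42)) :=
  Lgr Lrot59 (Lpr_cf (f292227 IH) (Lpn (LP (LK LD1_c26 LD2_c38 LD3_c42))))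
theorem f227177 : Led Lsl_dt (LP (LK LD1_c15 LD2_c18 LD3_c34)) = (LP (LK LD1_c25 LD2_c9 LD3_c18)) :=
  Lre_d IH (LK LD1_c15 LD2_c18 LD3_c34) (LK LD1_c25 LD2_c9 LD3_c18) Lrfl Lrfl
theorem f227176 : Led Lsl_ct (LP (LK LD1_c8 LD2_c7 LD3_c58)) = (LP (LK LD1_c15 LD2_c18 LD3_c34)) :=
  Lre_c IH (LK LD1_c8 LD2_c7 LD3_c58) (LK LD1_c15 LD2_c18 LD3_c34) Lrfl Lrfl
theorem f227105 : Led Lsl_df (LP (LK LD1_c4 LD2_c3 LD3_c55)) = (LP (LK LD1_c4 LD2_c3 LD3_c46)) :=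
  Lgr Lrot38 (Lpr_dt (f226978 IH) (Lpn (LP (LK LD1_c4 LD2_c3 LD3_c46))))
theorem f227157 : Led Lsl_at (LP (LK LD1_c4 LD2_c3 LD3_c55)) = (LP (LK LD1_c8 LD2_c8 LD3_c18)) :=
  Lre_a IH (LK LD1_c4 LD2_c3 LD3_c55) (LK LD1_c8 LD2_c8 LD3_c18) Lrfl Lrfl
theorem f227158 : Led Lsl_at (LP (LK LD1_c8 LD2_c7 LD3_c58)) = (LP (LK LD1_c4 LD2_c3 LD3_c46)) :=
  Lre_a IH (LK LD1_c8 LD2_c7 LD3_c58) (LK LD1_c4 LD2_c3 LD3_c46) Lrfl Lrfl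
theorem f227159 : Led Lsl_dt (LP (LK LD1_c8 LD2_c8 LD3_c18)) = (LP (LK LD1_c8 LD2_c7 LD3_c58)) :=
  Lgr Lrot44 (Lpe (f227157 IH) (Lpr_df (f227105 IH) (Lpe (f227158 IH) (Lpn (LP (LK LD1_c8 LD2_c7 LD3_c58))))))
theorem f223477 : Led Lsl_dt (LP (LK LD1_c26 LD2_c38 LD3_c42)) = (LP (LK LD1_c16 LD2_c40 LD3_c8)) :=
  Lre_d IH (LK LD1_c26 LD2_c38 LD3_c42) (LK LD1_c16 LD2_c40 LD3_c8) Lrfl Lrfl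
theorem f223476 : Led Lsl_ct (LP (LK LD1_c16 LD2_c40 LD3_c8)) = (LP (LK LD1_c8 LD2_c54 LD3_c38)) :=
  Lre_c IH (LK LD1_c16 LD2_c40 LD3_c8) (LK LD1_c8 LD2_c54 LD3_c38) Lrfl Lrfl
theorem f223399 : Led Lsl_ft (LP (LK LD1_c2 LD2_c11 LD3_c17)) = (LP (LK LD1_c4 LD2_c28 LD3_c21)) :=
  Lre_f IH (LK LD1_c2 LD2_c11 LD3_c17) (LK LD1_c4 LD2_c28 LD3_c21) Lrfl Lrfl
theorem f223400 : Led Lsl_ft (LP (LK LD1_c8 LD2_c3 LD3_c2)) = (LP (LK LD1_c4 LD2_c1 LD3_c8)) :=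
  Lre_f IH (LK LD1_c8 LD2_c3 LD3_c2) (LK LD1_c4 LD2_c1 LD3_c8) Lrfl Lrfl
theorem f223401 : Led Lsl_bt (LP (LK LD1_c4 LD2_c28 LD3_c21)) = (LP (LK LD1_c8 LD2_c3 LD3_c2)) :=
  Lgr Lrot35 (Lpe (f223399 IH) (Lpr_bf (K15.f223389 IH) (Lpe (f223400 IH) (Lpn (LP (LK LD1_c8 LD2_c3 LD3_c2))))))
theorem f223411 : Led Lsl_ct (LP (LK LD1_c8 LD2_c54 LD3_c44)) = (LP (LK LD1_c4 LD2_c28 LD3_c21)) :=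
  Lre_c IH (LK LD1_c8 LD2_c54 LD3_c44) (LK LD1_c4 LD2_c28 LD3_c21) Lrfl Lrfl
theorem f223412 : Led Lsl_bt (LP (LK LD1_c16 LD2_c40 LD3_c13)) = (LP (LK LD1_c8 LD2_c54 LD3_c44)) :=
  Lre_b IH (LK LD1_c16 LD2_c40 LD3_c13) (LK LD1_c8 LD2_c54 LD3_c44) Lrfl Lrfl
theorem f223413 : Led Lsl_ct (LP (LK LD1_c8 LD2_c3 LD3_c2)) = (LP (LK LD1_c15 LD2_c9 LD3_c28)) :=
  Lre_c IH (LK LD1_c8 LD2_c3 LD3_c2) (LK LD1_c15 LD2_c9 LD3_c28) Lrfl Lrfl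
theorem f223414 : Led Lsl_bt (LP (LK LD1_c15 LD2_c9 LD3_c28)) = (LP (LK LD1_c24 LD2_c58 LD3_c25)) :=
  Lre_b IH (LK LD1_c15 LD2_c9 LD3_c28) (LK LD1_c24 LD2_c58 LD3_c25) Lrfl Lrfl
theorem f223415 : Led Lsl_cf (LP (LK LD1_c16 LD2_c40 LD3_c13)) = (LP (LK LD1_c24 LD2_c58 LD3_c25)) :=
  Lgr Lrot97 (Lpr_bt (f223412 IH) (Lpr_ct (f223411 IH) (Lpr_bt (f223401 IH) (Lpr_ct (f223413 IH) (Lpr_bt (f223414 IH) (Lpn (LP (LK LD1_c24 LD2_c58 LD3_c25))))))))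
theorem f223420 : Led Lsl_ct (LP (LK LD1_c16 LD2_c40 LD3_c13)) = (LP (LK LD1_c24 LD2_c58 LD3_c25)) :=
  Lgr Lrot59 (Lpr_cf (f223415 IH) (Lpn (LP (LK LD1_c24 LD2_c58 LD3_c25))))
theorem f223436 : Led Lsl_ft (LP (LK LD1_c24 LD2_c58 LD3_c25)) = (LP (LK LD1_c15 LD2_c9 LD3_c24)) :=
  Lre_f IH (LK LD1_c24 LD2_c58 LD3_c25) (LK LD1_c15 LD2_c9 LD3_c24) Lrfl Lrfl
theorem f223437 : Led Lsl_cf (LP (LK LD1_c8 LD2_c54 LD3_c39)) = (LP (LK LD1_c15 LD2_c9 LD3_c24)) :=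
  Lgr Lrot108 (Lpr_ft (f223435 IH) (Lpr_ct (f223420 IH) (Lpr_ft (f223436 IH) (Lpn (LP (LK LD1_c15 LD2_c9 LD3_c24))))))
theorem f223451 : Led Lsl_et (LP (LK LD1_c8 LD2_c54 LD3_c39)) = (LP (LK LD1_c4 LD2_c28 LD3_c15)) :=
  Lre_e IH (LK LD1_c8 LD2_c54 LD3_c39) (LK LD1_c4 LD2_c28 LD3_c15) Lrfl Lrfl
theorem f223452 : Led Lsl_et (LP (LK LD1_c8 LD2_c2 LD3_c60)) = (LP (LK LD1_c15 LD2_c9 LD3_c24)) :=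
  Lre_e IH (LK LD1_c8 LD2_c2 LD3_c60) (LK LD1_c15 LD2_c9 LD3_c24) Lrfl Lrfl
theorem f223453 : Led Lsl_ct (LP (LK LD1_c4 LD2_c28 LD3_c15)) = (LP (LK LD1_c8 LD2_c2 LD3_c60)) :=
  Lgr Lrot15 (Lpe (f223451 IH) (Lpr_cf (f223437 IH) (Lpe (f223452 IH) (Lpn (LP (LK LD1_c8 LD2_c2 LD3_c60))))))
theorem f223478 : Led Lsl_at (LP (LK LD1_c15 LD2_c9 LD3_c23)) = (LP (LK LD1_c8 LD2_c2 LD3_c60)) :=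
  Lre_a IH (LK LD1_c15 LD2_c9 LD3_c23) (LK LD1_c8 LD2_c2 LD3_c60) Lrfl Lrfl
theorem f292241 : Led Lsl_ft (LP (LK LD1_c8 LD2_c8 LD3_c18)) = (LP (LK LD1_c15 LD2_c9 LD3_c23)) :=
  Lgr Lrot142 (Lpr_dt (f227159 IH) (Lpr_ct (f227176 IH) (Lpr_dt (f227177 IH) (Lpr_ct (f292232 IH) (Lpr_dt (f223477 IH) (Lpr_ct (f223476 IH) (Lpr_dt (f223475 IH) (Lpr_ct (f223453 IH) (Lpe (f223478 IH) (Lpn (LP (LK LD1_c15 LD2_c9 LD3_c23))))))))))))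
theorem f170830 : Led Lsl_dt (LP (LK LD1_c9 LD2_c37 LD3_c36)) = (LP (LK LD1_c4 LD2_c52 LD3_c47)) :=
  Lre_d IH (LK LD1_c9 LD2_c37 LD3_c36) (LK LD1_c4 LD2_c52 LD3_c47) Lrfl Lrfl
theorem f244013 : Led Lsl_et (LP (LK LD1_c4 LD2_c1 LD3_c7)) = (LP (LK LD1_c8 LD2_c2 LD3_c61)) :=
  Lre_e IH (LK LD1_c4 LD2_c1 LD3_c7) (LK LD1_c8 LD2_c2 LD3_c61) Lrfl Lrfl
theorem f223570 : Led Lsl_dt (LP (LK LD1_c8 LD2_c2 LD3_c61)) = (LP (LK LD1_c15 LD2_c9 LD3_c27)) :=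
  Lre_d IH (LK LD1_c8 LD2_c2 LD3_c61) (LK LD1_c15 LD2_c9 LD3_c27) Lrfl Lrfl
theorem f244040 : Led Lsl_ef (LP (LK LD1_c9 LD2_c37 LD3_c36)) = (LP (LK LD1_c15 LD2_c9 LD3_c27)) :=
  Lgr Lrot73 (Lpr_dt (f170830 IH) (Lpr_et (K15.f244012 IH) (Lpr_dt (K15.f244007 IH) (Lpr_et (f244013 IH) (Lpr_dt (f223570 IH) (Lpn (LP (LK LD1_c15 LD2_c9 LD3_c27))))))))
theorem f244080 : Led Lsl_et (LP (LK LD1_c9 LD2_c37 LD3_c36)) = (LP (LK LD1_c15 LD2_c9 LD3_c27)) :=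
  Lgr Lrot87 (Lpr_ef (f244040 IH) (Lpn (LP (LK LD1_c15 LD2_c9 LD3_c27))))
theorem f244085 : Led Lsl_bt (LP (LK LD1_c17 LD2_c43 LD3_c13)) = (LP (LK LD1_c9 LD2_c37 LD3_c36)) :=
  Lre_b IH (LK LD1_c17 LD2_c43 LD3_c13) (LK LD1_c9 LD2_c37 LD3_c36) Lrfl Lrfl
theorem f244086 : Led Lsl_bt (LP (LK LD1_c15 LD2_c9 LD3_c27)) = (LP (LK LD1_c24 LD2_c58 LD3_c24)) :=
  Lre_b IH (LK LD1_c15 LD2_c9 LD3_c27) (LK LD1_c24 LD2_c58 LD3_c24) Lrfl Lrfl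
theorem f244087 : Led Lsl_ef (LP (LK LD1_c17 LD2_c43 LD3_c13)) = (LP (LK LD1_c24 LD2_c58 LD3_c24)) :=
  Lgr Lrot29 (Lpr_bt (f244085 IH) (Lpr_et (f244080 IH) (Lpr_bt (f244086 IH) (Lpn (LP (LK LD1_c24 LD2_c58 LD3_c24))))))
theorem f170779 : Led Lsl_dt (LP (LK LD1_c17 LD2_c43 LD3_c13)) = (LP (LK LD1_c9 LD2_c37 LD3_c35)) :=
  Lre_d IH (LK LD1_c17 LD2_c43 LD3_c13) (LK LD1_c9 LD2_c37 LD3_c35) Lrfl Lrfl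
theorem f223542 : Led Lsl_dt (LP (LK LD1_c15 LD2_c9 LD3_c24)) = (LP (LK LD1_c24 LD2_c58 LD3_c24)) :=
  Lre_d IH (LK LD1_c15 LD2_c9 LD3_c24) (LK LD1_c24 LD2_c58 LD3_c24) Lrfl Lrfl
theorem f244090 : Led Lsl_dt (LP (LK LD1_c4 LD2_c52 LD3_c46)) = (LP (LK LD1_c8 LD2_c2 LD3_c60)) :=
  Lgr Lrot77 (Lpe (K16.f170772 IH) (Lpe (f170779 IH) (Lpr_ef (f244087 IH) (Lpe (f223542 IH) (Lpe (f223452 IH) (Lpn (LP (LK LD1_c8 LD2_c2 LD3_c60))))))))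
theorem f223471 : Led Lsl_at (LP (LK LD1_c8 LD2_c2 LD3_c60)) = (LP (LK LD1_c15 LD2_c9 LD3_c23)) :=
  Lre_a IH (LK LD1_c8 LD2_c2 LD3_c60) (LK LD1_c15 LD2_c9 LD3_c23) Lrfl Lrfl
theorem f244093 : Led Lsl_df (LP (LK LD1_c9 LD2_c37 LD3_c34)) = (LP (LK LD1_c15 LD2_c9 LD3_c23)) :=
  Lgr Lrot18 (Lpr_at (K16.f170787 IH) (Lpr_dt (f244090 IH) (Lpr_at (f223471 IH) (Lpn (LP (LK LD1_c15 LD2_c9 LD3_c23))))))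
theorem f292254 : Led Lsl_ff (LP (LK LD1_c8 LD2_c7 LD3_c58)) = (LP (LK LD1_c9 LD2_c37 LD3_c34)) :=
  Lgr Lrot19 (Lpe (f227099 IH) (Lpr_ft (f292241 IH) (Lpe (f244093 IH) (Lpn (LP (LK LD1_c9 LD2_c37 LD3_c34))))))
theorem f293002 : Led Lsl_bf (LP (LK LD1_c9 LD2_c37 LD3_c34)) = (LP (LK LD1_c8 LD2_c7 LD3_c30)) :=
  Lgr Lrot61 (Lpe (f292254 IH) (Lpe (f256708 IH) (Lpr_ft (f292996 IH) (Lpn (LP (LK LD1_c8 LD2_c7 LD3_c30))))))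
theorem f244104 : Led Lsl_dt (LP (LK LD1_c9 LD2_c37 LD3_c34)) = (LP (LK LD1_c15 LD2_c9 LD3_c23)) :=
  Lgr Lrot42 (Lpr_df (f244093 IH) (Lpn (LP (LK LD1_c15 LD2_c9 LD3_c23))))
theorem f200979 : Led Lsl_df (LP (LK LD1_c8 LD2_c7 LD3_c30)) = (LP (LK LD1_c8 LD2_c8 LD3_c42)) :=
  Lgr Lrot38 (Lpr_dt (f200938 IH) (Lpn (LP (LK LD1_c8 LD2_c8 LD3_c42))))
theorem f293022 : Led Lsl_bt (LP (LK LD1_c15 LD2_c9 LD3_c23)) = (LP (LK LD1_c8 LD2_c8 LD3_c42)) :=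
  Lgr Lrot95 (Lpe (f244104 IH) (Lpr_bf (f293002 IH) (Lpr_df (f200979 IH) (Lpn (LP (LK LD1_c8 LD2_c8 LD3_c42))))))
theorem f292954 : Led Lsl_ff (LP (LK LD1_c15 LD2_c9 LD3_c12)) = (LP (LK LD1_c8 LD2_c8 LD3_c42)) :=
  Lgr Lrot30 (Lpr_at (f219013 IH) (Lpr_ft (f292937 IH) (Lpr_at (f200988 IH) (Lpn (LP (LK LD1_c8 LD2_c8 LD3_c42))))))
theorem f293047 : Led Lsl_bf (LP (LK LD1_c8 LD2_c8 LD3_c18)) = (LP (LK LD1_c15 LD2_c9 LD3_c12)) :=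
  Lgr Lrot61 (Lpr_ft (f292241 IH) (Lpr_bt (f293022 IH) (Lpe (f292954 IH) (Lpn (LP (LK LD1_c15 LD2_c9 LD3_c12))))))
theorem f293049 : Led Lsl_bt (LP (LK LD1_c8 LD2_c8 LD3_c18)) = (LP (LK LD1_c15 LD2_c9 LD3_c12)) :=
  Lgr Lrot127 (Lpr_bf (f293047 IH) (Lpn (LP (LK LD1_c15 LD2_c9 LD3_c12))))
theorem f200728 : Led Lsl_bt (LP (LK LD1_c8 LD2_c2 LD3_c54)) = (LP (LK LD1_c4 LD2_c1 LD3_c5)) :=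
  Lre_b IH (LK LD1_c8 LD2_c2 LD3_c54) (LK LD1_c4 LD2_c1 LD3_c5) Lrfl Lrfl
theorem f293051 : Led Lsl_af (LP (LK LD1_c1 LD2_c58 LD3_c57)) = (LP (LK LD1_c4 LD2_c1 LD3_c5)) :=
  Lgr Lrot36 (Lpr_bt (f53028 IH) (Lpr_at (f227157 IH) (Lpr_bt (f293049 IH) (Lpr_at (f219013 IH) (Lpr_bt (f200728 IH) (Lpn (LP (LK LD1_c4 LD2_c1 LD3_c5))))))))
theorem f293058 : Led Lsl_at (LP (LK LD1_c0 LD2_c56 LD3_c16)) = (LP (LK LD1_c1 LD2_c57 LD3_c21)) :=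
  Lgr Lrot107 (Lpe (K11.f53027 IH) (Lpr_af (f293051 IH) (Lpe (K12.f193339 IH) (Lpn (LP (LK LD1_c1 LD2_c57 LD3_c21))))))
theorem f238508 : Led Lsl_et (LP (LK LD1_c1 LD2_c57 LD3_c21)) = (LP (LK LD1_c4 LD2_c1 LD3_c6)) :=
  Lre_e IH (LK LD1_c1 LD2_c57 LD3_c21) (LK LD1_c4 LD2_c1 LD3_c6) Lrfl Lrfl
theorem f293064 : Led Lsl_af (LP (LK LD1_c1 LD2_c58 LD3_c58)) = (LP (LK LD1_c4 LD2_c1 LD3_c6)) :=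
  Lgr Lrot50 (Lpr_et (K15.f28115 IH) (Lpr_at (f293058 IH) (Lpr_et (f238508 IH) (Lpn (LP (LK LD1_c4 LD2_c1 LD3_c6))))))
theorem f41559 : Led Lsl_et (LP (LK LD1_c2 LD2_c11 LD3_c15)) = (LP (LK LD1_c1 LD2_c2 LD3_c38)) :=
  Lre_e IH (LK LD1_c2 LD2_c11 LD3_c15) (LK LD1_c1 LD2_c2 LD3_c38) Lrfl Lrfl
theorem f292160 : Led Lsl_at (LP (LK LD1_c4 LD2_c3 LD3_c54)) = (LP (LK LD1_c2 LD2_c11 LD3_c15)) :=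
  Lgr Lrot80 (Lpe (K15.f242937 IH) (Lpr_af (f292154 IH) (Lpe (f41559 IH) (Lpn (LP (LK LD1_c2 LD2_c11 LD3_c15))))))
theorem f293066 : Led Lsl_bt (LP (LK LD1_c2 LD2_c11 LD3_c15)) = (LP (LK LD1_c4 LD2_c28 LD3_c5)) :=
  Lre_b IH (LK LD1_c2 LD2_c11 LD3_c15) (LK LD1_c4 LD2_c28 LD3_c5) Lrfl Lrfl
theorem f218965 : Led Lsl_bt (LP (LK LD1_c8 LD2_c2 LD3_c53)) = (LP (LK LD1_c4 LD2_c1 LD3_c6)) :=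
  Lre_b IH (LK LD1_c8 LD2_c2 LD3_c53) (LK LD1_c4 LD2_c1 LD3_c6) Lrfl Lrfl
theorem f293067 : Led Lsl_at (LP (LK LD1_c4 LD2_c28 LD3_c5)) = (LP (LK LD1_c8 LD2_c2 LD3_c53)) :=
  Lgr Lrot67 (Lpe (f293066 IH) (Lpe (f292160 IH) (Lpe (K15.f242925 IH) (Lpr_af (f293064 IH) (Lpe (f218965 IH) (Lpn (LP (LK LD1_c8 LD2_c2 LD3_c53))))))))
theorem f293094 : Led Lsl_ft (LP (LK LD1_c8 LD2_c54 LD3_c13)) = (LP (LK LD1_c4 LD2_c28 LD3_c5)) :=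
  Lre_f IH (LK LD1_c8 LD2_c54 LD3_c13) (LK LD1_c4 LD2_c28 LD3_c5) Lrfl Lrfl
theorem f218973 : Led Lsl_ft (LP (LK LD1_c8 LD2_c2 LD3_c53)) = (LP (LK LD1_c15 LD2_c9 LD3_c10)) :=
  Lre_f IH (LK LD1_c8 LD2_c2 LD3_c53) (LK LD1_c15 LD2_c9 LD3_c10) Lrfl Lrfl
theorem f293095 : Led Lsl_af (LP (LK LD1_c8 LD2_c54 LD3_c13)) = (LP (LK LD1_c15 LD2_c9 LD3_c10)) :=
  Lgr Lrot45 (Lpr_ft (f293094 IH) (Lpr_at (f293067 IH) (Lpr_ft (f218973 IH) (Lpn (LP (LK LD1_c15 LD2_c9 LD3_c10))))))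
theorem f293100 : Led Lsl_ct (LP (LK LD1_c8 LD2_c54 LD3_c13)) = (LP (LK LD1_c16 LD2_c39 LD3_c16)) :=
  Lre_c IH (LK LD1_c8 LD2_c54 LD3_c13) (LK LD1_c16 LD2_c39 LD3_c16) Lrfl Lrfl
theorem f218972 : Led Lsl_ft (LP (LK LD1_c15 LD2_c2 LD3_c40)) = (LP (LK LD1_c7 LD2_c58 LD3_c28)) :=
  Lre_f IH (LK LD1_c15 LD2_c2 LD3_c40) (LK LD1_c7 LD2_c58 LD3_c28) Lrfl Lrfl
theorem f218974 : Led Lsl_cf (LP (LK LD1_c15 LD2_c2 LD3_c40)) = (LP (LK LD1_c15 LD2_c9 LD3_c10)) :=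
  Lgr Lrot108 (Lpr_ft (f218972 IH) (Lpr_ct (f218705 IH) (Lpr_ft (f218973 IH) (Lpn (LP (LK LD1_c15 LD2_c9 LD3_c10))))))
theorem f218987 : Led Lsl_ct (LP (LK LD1_c15 LD2_c2 LD3_c40)) = (LP (LK LD1_c15 LD2_c9 LD3_c10)) :=
  Lgr Lrot59 (Lpr_cf (f218974 IH) (Lpn (LP (LK LD1_c15 LD2_c9 LD3_c10))))
theorem f293101 : Led Lsl_at (LP (LK LD1_c16 LD2_c39 LD3_c16)) = (LP (LK LD1_c15 LD2_c2 LD3_c40)) :=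
  Lgr Lrot107 (Lpe (f293100 IH) (Lpr_af (f293095 IH) (Lpe (f218987 IH) (Lpn (LP (LK LD1_c15 LD2_c2 LD3_c40))))))
theorem f293110 : Led Lsl_af (LP (LK LD1_c16 LD2_c39 LD3_c16)) = (LP (LK LD1_c15 LD2_c2 LD3_c40)) :=
  Lgr Lrot0 (Lpr_at (f293101 IH) (Lpn (LP (LK LD1_c15 LD2_c2 LD3_c40))))
theorem f293114 : Led Lsl_ft (LP (LK LD1_c16 LD2_c39 LD3_c16)) = (LP (LK LD1_c8 LD2_c54 LD3_c9)) :=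
  Lre_f IH (LK LD1_c16 LD2_c39 LD3_c16) (LK LD1_c8 LD2_c54 LD3_c9) Lrfl Lrfl
theorem f218992 : Led Lsl_ft (LP (LK LD1_c7 LD2_c58 LD3_c28)) = (LP (LK LD1_c15 LD2_c2 LD3_c40)) :=
  Lre_f IH (LK LD1_c7 LD2_c58 LD3_c28) (LK LD1_c15 LD2_c2 LD3_c40) Lrfl Lrfl
theorem f293115 : Led Lsl_at (LP (LK LD1_c8 LD2_c54 LD3_c9)) = (LP (LK LD1_c7 LD2_c58 LD3_c28)) :=
  Lgr Lrot66 (Lpe (f293114 IH) (Lpr_af (f293110 IH) (Lpe (f218992 IH) (Lpn (LP (LK LD1_c7 LD2_c58 LD3_c28))))))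
theorem f293119 : Led Lsl_et (LP (LK LD1_c4 LD2_c28 LD3_c4)) = (LP (LK LD1_c8 LD2_c54 LD3_c9)) :=
  Lre_e IH (LK LD1_c4 LD2_c28 LD3_c4) (LK LD1_c8 LD2_c54 LD3_c9) Lrfl Lrfl
theorem f42774 : Led Lsl_et (LP (LK LD1_c7 LD2_c58 LD3_c28)) = (LP (LK LD1_c3 LD2_c58 LD3_c30)) :=
  Lre_e IH (LK LD1_c7 LD2_c58 LD3_c28) (LK LD1_c3 LD2_c58 LD3_c30) Lrfl Lrfl
theorem f293120 : Led Lsl_af (LP (LK LD1_c4 LD2_c28 LD3_c4)) = (LP (LK LD1_c3 LD2_c58 LD3_c30)) :=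
  Lgr Lrot50 (Lpr_et (f293119 IH) (Lpr_at (f293115 IH) (Lpr_et (f42774 IH) (Lpn (LP (LK LD1_c3 LD2_c58 LD3_c30))))))
theorem f293129 : Led Lsl_ft (LP (LK LD1_c4 LD2_c4 LD3_c0)) = (LP (LK LD1_c3 LD2_c58 LD3_c30)) :=
  Lgr Lrot2 (Lpr_gt (K12.f196420 IH) (Lpr_gt (K12.f173108 IH) (Lpr_af (f293120 IH) (Lpn (LP (LK LD1_c3 LD2_c58 LD3_c30))))))
theorem f293135 : Led Lsl_ff (LP (LK LD1_c4 LD2_c4 LD3_c0)) = (LP (LK LD1_c3 LD2_c58 LD3_c30)) :=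
  Lgr Lrot3 (Lpr_ft (f293129 IH) (Lpn (LP (LK LD1_c3 LD2_c58 LD3_c30))))
theorem f290734 : Led Lsl_et (LP (LK LD1_c4 LD2_c4 LD3_c0)) = (LP (LK LD1_c8 LD2_c8 LD3_c36)) :=
  Lre_e IH (LK LD1_c4 LD2_c4 LD3_c0) (LK LD1_c8 LD2_c8 LD3_c36) Lrfl Lrfl
theorem f290756 : Led Lsl_ft (LP (LK LD1_c8 LD2_c8 LD3_c36)) = (LP (LK LD1_c15 LD2_c20 LD3_c3)) :=
  Lre_f IH (LK LD1_c8 LD2_c8 LD3_c36) (LK LD1_c15 LD2_c20 LD3_c3) Lrfl Lrfl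
theorem f293143 : Led Lsl_et (LP (LK LD1_c15 LD2_c20 LD3_c3)) = (LP (LK LD1_c15 LD2_c2 LD3_c40)) :=
  Lgr Lrot69 (Lpe (f290756 IH) (Lpe (f290734 IH) (Lpr_ff (f293135 IH) (Lpe (f42774 IH) (Lpe (f218972 IH) (Lpn (LP (LK LD1_c15 LD2_c2 LD3_c40))))))))
theorem f290749 : Led Lsl_ct (LP (LK LD1_c8 LD2_c8 LD3_c39)) = (LP (LK LD1_c15 LD2_c20 LD3_c3)) :=
  Lre_c IH (LK LD1_c8 LD2_c8 LD3_c39) (LK LD1_c15 LD2_c20 LD3_c3) Lrfl Lrfl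
theorem f293148 : Led Lsl_ef (LP (LK LD1_c8 LD2_c8 LD3_c39)) = (LP (LK LD1_c15 LD2_c9 LD3_c10)) :=
  Lgr Lrot28 (Lpr_ct (f290749 IH) (Lpr_et (f293143 IH) (Lpr_ct (f218987 IH) (Lpn (LP (LK LD1_c15 LD2_c9 LD3_c10))))))
theorem f293154 : Led Lsl_et (LP (LK LD1_c8 LD2_c8 LD3_c39)) = (LP (LK LD1_c15 LD2_c9 LD3_c10)) :=
  Lgr Lrot87 (Lpr_ef (f293148 IH) (Lpn (LP (LK LD1_c15 LD2_c9 LD3_c10))))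
theorem f218989 : Led Lsl_bt (LP (LK LD1_c15 LD2_c9 LD3_c10)) = (LP (LK LD1_c8 LD2_c2 LD3_c59)) :=
  Lre_b IH (LK LD1_c15 LD2_c9 LD3_c10) (LK LD1_c8 LD2_c2 LD3_c59) Lrfl Lrfl
theorem f293158 : Led Lsl_ef (LP (LK LD1_c4 LD2_c4 LD3_c6)) = (LP (LK LD1_c8 LD2_c2 LD3_c59)) :=
  Lgr Lrot29 (Lpr_bt (K11.f211341 IH) (Lpr_et (f293154 IH) (Lpr_bt (f218989 IH) (Lpn (LP (LK LD1_c8 LD2_c2 LD3_c59))))))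
theorem f211337 : Led Lsl_ft (LP (LK LD1_c4 LD2_c4 LD3_c6)) = (LP (LK LD1_c1 LD2_c58 LD3_c61)) :=
  Lre_f IH (LK LD1_c4 LD2_c4 LD3_c6) (LK LD1_c1 LD2_c58 LD3_c61) Lrfl Lrfl
theorem f269298 : Led Lsl_ft (LP (LK LD1_c4 LD2_c1 LD3_c6)) = (LP (LK LD1_c8 LD2_c2 LD3_c59)) :=
  Lre_f IH (LK LD1_c4 LD2_c1 LD3_c6) (LK LD1_c8 LD2_c2 LD3_c59) Lrfl Lrfl
theorem f293166 : Led Lsl_ft (LP (LK LD1_c0 LD2_c56 LD3_c17)) = (LP (LK LD1_c1 LD2_c57 LD3_c21)) :=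
  Lgr Lrot86 (Lpe (K11.f28120 IH) (Lpe (f211337 IH) (Lpr_ef (f293158 IH) (Lpe (f269298 IH) (Lpe (f238508 IH) (Lpn (LP (LK LD1_c1 LD2_c57 LD3_c21))))))))
theorem f293172 : Led Lsl_ff (LP (LK LD1_c0 LD2_c56 LD3_c17)) = (LP (LK LD1_c1 LD2_c57 LD3_c21)) :=
  Lgr Lrot3 (Lpr_ft (f293166 IH) (Lpn (LP (LK LD1_c1 LD2_c57 LD3_c21))))
theorem f293176 : Led Lsl_ft (LP (LK LD1_c0 LD2_c59 LD3_c25)) = (LP (LK LD1_c1 LD2_c9 LD3_c7)) :=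
  Lgr Lrot54 (Lpe (K11.f201300 IH) (Lpr_ff (f293172 IH) (Lpe (K13.f223599 IH) (Lpn (LP (LK LD1_c1 LD2_c9 LD3_c7))))))
theorem f201305 : Led Lsl_et (LP (LK LD1_c0 LD2_c33 LD3_c17)) = (LP (LK LD1_c0 LD2_c59 LD3_c25)) :=
  Lgr Lrot158 (Lpe (K10.f3143 IH) (Lpr_ef (K11.f201303 IH) (Lpe (K11.f201069 IH) (Lpn (LP (LK LD1_c0 LD2_c59 LD3_c25))))))
theorem f171671 : Led Lsl_et (LP (LK LD1_c1 LD2_c13 LD3_c34)) = (LP (LK LD1_c0 LD2_c34 LD3_c3)) :=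
  Lre_e IH (LK LD1_c1 LD2_c13 LD3_c34) (LK LD1_c0 LD2_c34 LD3_c3) Lrfl Lrfl
theorem f293182 : Led Lsl_ff (LP (LK LD1_c0 LD2_c33 LD3_c17)) = (LP (LK LD1_c0 LD2_c34 LD3_c3)) :=
  Lgr Lrot72 (Lpr_et (f201305 IH) (Lpr_ft (f293176 IH) (Lpr_et (K13.f243039 IH) (Lpr_ft (f255206 IH) (Lpr_et (f171671 IH) (Lpn (LP (LK LD1_c0 LD2_c34 LD3_c3))))))))
theorem f293190 : Led Lsl_at (LP (LK LD1_c0 LD2_c33 LD3_c17)) = (LP (LK LD1_c1 LD2_c0 LD3_c49)) :=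
  Lgr Lrot26 (Lpr_ff (f293182 IH) (Lpe (K9.f171653 IH) (Lpe (K10.f187901 IH) (Lpn (LP (LK LD1_c1 LD2_c0 LD3_c49))))))
theorem f293198 : Led Lsl_af (LP (LK LD1_c0 LD2_c34 LD3_c3)) = (LP (LK LD1_c1 LD2_c0 LD3_c58)) :=
  Lgr Lrot45 (Lpe (f293182 IH) (Lpr_at (f293190 IH) (Lpe (K15.f255252 IH) (Lpn (LP (LK LD1_c1 LD2_c0 LD3_c58))))))
theorem f293204 : Led Lsl_at (LP (LK LD1_c1 LD2_c13 LD3_c33)) = (LP (LK LD1_c2 LD2_c7 LD3_c43)) :=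
  Lgr Lrot51 (Lpe (K11.f171664 IH) (Lpr_af (f293198 IH) (Lpe (K15.f164160 IH) (Lpn (LP (LK LD1_c2 LD2_c7 LD3_c43))))))
theorem f293186 : Led Lsl_ft (LP (LK LD1_c1 LD2_c11 LD3_c57)) = (LP (LK LD1_c1 LD2_c13 LD3_c33)) :=
  Lgr Lrot54 (Lpe (K10.f31631 IH) (Lpr_ff (f293182 IH) (Lpe (K11.f171657 IH) (Lpn (LP (LK LD1_c1 LD2_c13 LD3_c33))))))
theorem f293196 : Led Lsl_af (LP (LK LD1_c1 LD2_c11 LD3_c57)) = (LP (LK LD1_c2 LD2_c7 LD3_c30)) :=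
  Lgr Lrot117 (Lpr_dt (K13.f31627 IH) (Lpr_at (f293190 IH) (Lpr_dt (K11.f180205 IH) (Lpn (LP (LK LD1_c2 LD2_c7 LD3_c30))))))
theorem f293212 : Led Lsl_ff (LP (LK LD1_c2 LD2_c7 LD3_c30)) = (LP (LK LD1_c2 LD2_c7 LD3_c43)) :=
  Lgr Lrot30 (Lpe (f293196 IH) (Lpr_ft (f293186 IH) (Lpr_at (f293204 IH) (Lpn (LP (LK LD1_c2 LD2_c7 LD3_c43))))))
theorem f223569 : Led Lsl_ft (LP (LK LD1_c4 LD2_c20 LD3_c3)) = (LP (LK LD1_c8 LD2_c38 LD3_c6)) :=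
  Lre_f IH (LK LD1_c4 LD2_c20 LD3_c3) (LK LD1_c8 LD2_c38 LD3_c6) Lrfl Lrfl
theorem f243013 : Led Lsl_et (LP (LK LD1_c4 LD2_c20 LD3_c31)) = (LP (LK LD1_c2 LD2_c7 LD3_c43)) :=
  Lre_e IH (LK LD1_c4 LD2_c20 LD3_c31) (LK LD1_c2 LD2_c7 LD3_c43) Lrfl Lrfl
theorem f265346 : Led Lsl_ft (LP (LK LD1_c8 LD2_c38 LD3_c52)) = (LP (LK LD1_c4 LD2_c20 LD3_c31)) :=
  Lre_f IH (LK LD1_c8 LD2_c38 LD3_c52) (LK LD1_c4 LD2_c20 LD3_c31) Lrfl Lrfl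
theorem f293216 : Led Lsl_et (LP (LK LD1_c8 LD2_c38 LD3_c6)) = (LP (LK LD1_c8 LD2_c38 LD3_c52)) :=
  Lgr Lrot69 (Lpe (f223569 IH) (Lpe (K15.f180206 IH) (Lpr_ff (f293212 IH) (Lpe (f243013 IH) (Lpe (f265346 IH) (Lpn (LP (LK LD1_c8 LD2_c38 LD3_c52))))))))
theorem f293218 : Led Lsl_ef (LP (LK LD1_c8 LD2_c38 LD3_c6)) = (LP (LK LD1_c8 LD2_c38 LD3_c52)) :=
  Lgr Lrot88 (Lpr_et (f293216 IH) (Lpn (LP (LK LD1_c8 LD2_c38 LD3_c52))))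
theorem f223555 : Led Lsl_bt (LP (LK LD1_c4 LD2_c28 LD3_c20)) = (LP (LK LD1_c4 LD2_c20 LD3_c3)) :=
  Lgr Lrot127 (Lpr_bf (K15.f223552 IH) (Lpn (LP (LK LD1_c4 LD2_c20 LD3_c3))))
theorem f41557 : Led Lsl_dt (LP (LK LD1_c2 LD2_c11 LD3_c17)) = (LP (LK LD1_c4 LD2_c28 LD3_c20)) :=
  Lre_d IH (LK LD1_c2 LD2_c11 LD3_c17) (LK LD1_c4 LD2_c28 LD3_c20) Lrfl Lrfl
theorem f223567 : Led Lsl_df (LP (LK LD1_c4 LD2_c1 LD3_c8)) = (LP (LK LD1_c4 LD2_c20 LD3_c3)) :=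
  Lgr Lrot12 (Lpe (K15.f223389 IH) (Lpr_dt (f41557 IH) (Lpr_bt (f223555 IH) (Lpn (LP (LK LD1_c4 LD2_c20 LD3_c3))))))
theorem f223540 : Led Lsl_ft (LP (LK LD1_c4 LD2_c1 LD3_c8)) = (LP (LK LD1_c8 LD2_c3 LD3_c2)) :=
  Lre_f IH (LK LD1_c4 LD2_c1 LD3_c8) (LK LD1_c8 LD2_c3 LD3_c2) Lrfl Lrfl
theorem f223560 : Led Lsl_ft (LP (LK LD1_c8 LD2_c38 LD3_c6)) = (LP (LK LD1_c4 LD2_c20 LD3_c3)) :=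
  Lre_f IH (LK LD1_c8 LD2_c38 LD3_c6) (LK LD1_c4 LD2_c20 LD3_c3) Lrfl Lrfl
theorem f223571 : Led Lsl_dt (LP (LK LD1_c8 LD2_c3 LD3_c2)) = (LP (LK LD1_c8 LD2_c38 LD3_c6)) :=
  Lgr Lrot60 (Lpe (f223540 IH) (Lpr_df (f223567 IH) (Lpe (f223560 IH) (Lpn (LP (LK LD1_c8 LD2_c38 LD3_c6))))))
theorem f223573 : Led Lsl_df (LP (LK LD1_c8 LD2_c3 LD3_c2)) = (LP (LK LD1_c8 LD2_c38 LD3_c6)) :=
  Lgr Lrot38 (Lpr_dt (f223571 IH) (Lpn (LP (LK LD1_c8 LD2_c38 LD3_c6))))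
theorem f269294 : Led Lsl_bt (LP (LK LD1_c4 LD2_c3 LD3_c60)) = (LP (LK LD1_c8 LD2_c8 LD3_c15)) :=
  Lre_b IH (LK LD1_c4 LD2_c3 LD3_c60) (LK LD1_c8 LD2_c8 LD3_c15) Lrfl Lrfl
theorem f292178 : Led Lsl_ef (LP (LK LD1_c4 LD2_c3 LD3_c60)) = (LP (LK LD1_c8 LD2_c3 LD3_c2)) :=
  Lgr Lrot29 (Lpr_bt (f269294 IH) (Lpr_et (f292174 IH) (Lpr_bt (f223401 IH) (Lpn (LP (LK LD1_c8 LD2_c3 LD3_c2))))))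
theorem f265330 : Led Lsl_bf (LP (LK LD1_c4 LD2_c20 LD3_c31)) = (LP (LK LD1_c2 LD2_c37 LD3_c26)) :=
  Lgr Lrot96 (Lpr_et (f243013 IH) (Lpr_bt (K15.f265318 IH) (Lpr_et (K15.f258165 IH) (Lpn (LP (LK LD1_c2 LD2_c37 LD3_c26))))))
theorem f229857 : Led Lsl_et (LP (LK LD1_c8 LD2_c4 LD3_c36)) = (LP (LK LD1_c4 LD2_c1 LD3_c58)) :=
  Lre_e IH (LK LD1_c8 LD2_c4 LD3_c36) (LK LD1_c4 LD2_c1 LD3_c58) Lrfl Lrfl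
theorem f240373 : Led Lsl_bt (LP (LK LD1_c5 LD2_c13 LD3_c6)) = (LP (LK LD1_c8 LD2_c4 LD3_c36)) :=
  Lgr Lrot119 (Lpe (K15.f240372 IH) (Lpr_bf (K13.f240365 IH) (Lpe (f229857 IH) (Lpn (LP (LK LD1_c8 LD2_c4 LD3_c36))))))
theorem f240375 : Led Lsl_bf (LP (LK LD1_c5 LD2_c13 LD3_c6)) = (LP (LK LD1_c8 LD2_c4 LD3_c36)) :=
  Lgr Lrot24 (Lpr_bt (f240373 IH) (Lpn (LP (LK LD1_c8 LD2_c4 LD3_c36))))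
theorem f265336 : Led Lsl_dt (LP (LK LD1_c4 LD2_c20 LD3_c31)) = (LP (LK LD1_c8 LD2_c4 LD3_c36)) :=
  Lgr Lrot79 (Lpr_bf (f265330 IH) (Lpe (K15.f251572 IH) (Lpr_bf (f240375 IH) (Lpn (LP (LK LD1_c8 LD2_c4 LD3_c36))))))
theorem f240199 : Led Lsl_ft (LP (LK LD1_c8 LD2_c4 LD3_c36)) = (LP (LK LD1_c15 LD2_c12 LD3_c31)) :=
  Lre_f IH (LK LD1_c8 LD2_c4 LD3_c36) (LK LD1_c15 LD2_c12 LD3_c31) Lrfl Lrfl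
theorem f265350 : Led Lsl_df (LP (LK LD1_c8 LD2_c38 LD3_c52)) = (LP (LK LD1_c15 LD2_c12 LD3_c31)) :=
  Lgr Lrot78 (Lpr_ft (f265346 IH) (Lpr_dt (f265336 IH) (Lpr_ft (f240199 IH) (Lpn (LP (LK LD1_c15 LD2_c12 LD3_c31))))))
theorem f293220 : Led Lsl_et (LP (LK LD1_c8 LD2_c8 LD3_c32)) = (LP (LK LD1_c15 LD2_c12 LD3_c31)) :=
  Lgr Lrot71 (Lpe (K16.f247922 IH) (Lpr_ef (f292178 IH) (Lpr_df (f223573 IH) (Lpr_ef (f293218 IH) (Lpr_df (f265350 IH) (Lpn (LP (LK LD1_c15 LD2_c12 LD3_c31))))))))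
theorem f293224 : Led Lsl_ef (LP (LK LD1_c8 LD2_c8 LD3_c32)) = (LP (LK LD1_c15 LD2_c12 LD3_c31)) :=
  Lgr Lrot88 (Lpr_et (f293220 IH) (Lpn (LP (LK LD1_c15 LD2_c12 LD3_c31))))
theorem f269307 : Led Lsl_dt (LP (LK LD1_c8 LD2_c8 LD3_c32)) = (LP (LK LD1_c4 LD2_c3 LD3_c60)) :=
  Lre_d IH (LK LD1_c8 LD2_c8 LD3_c32) (LK LD1_c4 LD2_c3 LD3_c60) Lrfl Lrfl
theorem f265355 : Led Lsl_dt (LP (LK LD1_c8 LD2_c38 LD3_c52)) = (LP (LK LD1_c15 LD2_c12 LD3_c31)) :=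
  Lgr Lrot42 (Lpr_df (f265350 IH) (Lpn (LP (LK LD1_c15 LD2_c12 LD3_c31))))
theorem f293228 : Led Lsl_et (LP (LK LD1_c4 LD2_c3 LD3_c60)) = (LP (LK LD1_c8 LD2_c3 LD3_c2)) :=
  Lgr Lrot71 (Lpe (f269307 IH) (Lpr_ef (f293224 IH) (Lpe (f265355 IH) (Lpe (f293216 IH) (Lpe (f223571 IH) (Lpn (LP (LK LD1_c8 LD2_c3 LD3_c2))))))))
theorem f247923 : Led Lsl_ct (LP (LK LD1_c8 LD2_c8 LD3_c23)) = (LP (LK LD1_c4 LD2_c3 LD3_c60)) :=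
  Lre_c IH (LK LD1_c8 LD2_c8 LD3_c23) (LK LD1_c4 LD2_c3 LD3_c60) Lrfl Lrfl
theorem f293232 : Led Lsl_ef (LP (LK LD1_c8 LD2_c8 LD3_c23)) = (LP (LK LD1_c15 LD2_c9 LD3_c28)) :=
  Lgr Lrot28 (Lpr_ct (f247923 IH) (Lpr_et (f293228 IH) (Lpr_ct (f223413 IH) (Lpn (LP (LK LD1_c15 LD2_c9 LD3_c28))))))
theorem f293234 : Led Lsl_et (LP (LK LD1_c8 LD2_c8 LD3_c23)) = (LP (LK LD1_c15 LD2_c9 LD3_c28)) :=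
  Lgr Lrot87 (Lpr_ef (f293232 IH) (Lpn (LP (LK LD1_c15 LD2_c9 LD3_c28))))
theorem f269308 : Led Lsl_at (LP (LK LD1_c15 LD2_c9 LD3_c15)) = (LP (LK LD1_c8 LD2_c8 LD3_c23)) :=
  Lgr Lrot100 (Lpr_af (K16.f269296 IH) (Lpn (LP (LK LD1_c8 LD2_c8 LD3_c23))))
theorem f211345 : Led Lsl_ct (LP (LK LD1_c4 LD2_c4 LD3_c6)) = (LP (LK LD1_c8 LD2_c8 LD3_c47)) :=
  Lre_c IH (LK LD1_c4 LD2_c4 LD3_c6) (LK LD1_c8 LD2_c8 LD3_c47) Lrfl Lrfl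
theorem f293162 : Led Lsl_et (LP (LK LD1_c8 LD2_c8 LD3_c47)) = (LP (LK LD1_c15 LD2_c9 LD3_c15)) :=
  Lgr Lrot158 (Lpe (f211345 IH) (Lpr_ef (f293158 IH) (Lpe (K16.f218985 IH) (Lpn (LP (LK LD1_c15 LD2_c9 LD3_c15))))))
theorem f293238 : Led Lsl_af (LP (LK LD1_c8 LD2_c8 LD3_c47)) = (LP (LK LD1_c15 LD2_c9 LD3_c28)) :=
  Lgr Lrot50 (Lpr_et (f293162 IH) (Lpr_at (f269308 IH) (Lpr_et (f293234 IH) (Lpn (LP (LK LD1_c15 LD2_c9 LD3_c28))))))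
theorem f293249 : Led Lsl_ft (LP (LK LD1_c8 LD2_c8 LD3_c47)) = (LP (LK LD1_c4 LD2_c4 LD3_c3)) :=
  Lre_f IH (LK LD1_c8 LD2_c8 LD3_c47) (LK LD1_c4 LD2_c4 LD3_c3) Lrfl Lrfl
theorem f293237 : Led Lsl_ft (LP (LK LD1_c8 LD2_c2 LD3_c61)) = (LP (LK LD1_c15 LD2_c9 LD3_c28)) :=
  Lre_f IH (LK LD1_c8 LD2_c2 LD3_c61) (LK LD1_c15 LD2_c9 LD3_c28) Lrfl Lrfl

end

end K17

end

end Cfsg.Agent.Helper28.S1692
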