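import Cfsg.Agent.Lib.Helper28.S1692.Seeds17

set_option autoImplicit false
set_option maxRecDepth 100000
set_option linter.all false

namespace Cfsg.Agent.Helper28.S1692

open Cfsg.Agent.Helper28
open Cfsg.Spor.ON (Gen)

noncomputable section

namespace K18
abbrev LD1_c0 := D1.c0
abbrev LD1_c1 := D1.c1
abbrev LD1_c2 := D1.c2
abbrev LD1_c3 := D1.c3
abbrev LD1_c4 := D1.c4
abbrev LD1_c5 := D1.c5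
abbrev LD1_c6 := D1.c6
abbrev LD1_c7 := D1.c7
abbrev LD1_c8 := D1.c8
abbrev LD1_c9 := D1.c9
abbrev LD1_c10 := D1.c10
abbrev LD1_c11 := D1.c11
abbrev LD1_c12 := D1.c12
abbrev LD1_c13 := D1.c13
abbrev LD1_c14 := D1.c14
abbrev LD1_c15 := D1.c15
abbrev LD1_c16 := D1.c16
abbrev LD1_c17 := D1.c17
abbrev LD1_c18 := D1.c18
abbrev LD1_c19 := D1.c19
abbrev LD1_c20 := D1.c20
abbrev LD1_c21 := D1.c21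
abbrev LD1_c22 := D1.c22
abbrev LD1_c23 := D1.c23
abbrev LD1_c24 := D1.c24
abbrev LD1_c25 := D1.c25
abbrev LD1_c26 := D1.c26
abbrev LD1_c27 := D1.c27
abbrev LD1_c28 := D1.c28
abbrev LD1_c29 := D1.c29
abbrev LD1_c30 := D1.c30
abbrev LD1_c31 := D1.c31
abbrev LD1_c32 := D1.c32
abbrev LD2_c0 := D2.c0
abbrev LD2_c1 := D2.c1
abbrev LD2_c2 := D2.c2
abbrev LD2_c3 := D2.c3
abbrev LD2_c4 := D2.c4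
abbrev LD2_c5 := D2.c5
abbrev LD2_c6 := D2.c6
abbrev LD2_c7 := D2.c7
abbrev LD2_c8 := D2.c8
abbrev LD2_c9 := D2.c9
abbrev LD2_c10 := D2.c10
abbrev LD2_c11 := D2.c11
abbrev LD2_c12 := D2.c12
abbrev LD2_c13 := D2.c13
abbrev LD2_c14 := D2.c14
abbrev LD2_c15 := D2.c15
abbrev LD2_c16 := D2.c16
abbrev LD2_c17 := D2.c17
abbrev LD2_c18 := D2.c18
abbrev LD2_c19 := D2.c19
abbrev LD2_c20 := D2.c20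
abbrev LD2_c21 := D2.c21
abbrev LD2_c22 := D2.c22
abbrev LD2_c23 := D2.c23
abbrev LD2_c24 := D2.c24
abbrev LD2_c25 := D2.c25
abbrev LD2_c26 := D2.c26
abbrev LD2_c27 := D2.c27
abbrev LD2_c28 := D2.c28
abbrev LD2_c29 := D2.c29
abbrev LD2_c30 := D2.c30
abbrev LD2_c31 := D2.c31
abbrev LD2_c32 := D2.c32
abbrev LD2_c33 := D2.c33
abbrev LD2_c34 := D2.c34
abbrev LD2_c35 := D2.c35
abbrev LD2_c36 := D2.c36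
abbrev LD2_c37 := D2.c37
abbrev LD2_c38 := D2.c38
abbrev LD2_c39 := D2.c39
abbrev LD2_c40 := D2.c40
abbrev LD2_c41 := D2.c41
abbrev LD2_c42 := D2.c42
abbrev LD2_c43 := D2.c43
abbrev LD2_c44 := D2.c44
abbrev LD2_c45 := D2.c45
abbrev LD2_c46 := D2.c46
abbrev LD2_c47 := D2.c47
abbrev LD2_c48 := D2.c48
abbrev LD2_c49 := D2.c49
abbrev LD2_c50 := D2.c50
abbrev LD2_c51 := D2.c51
abbrev LD2_c52 := D2.c52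
abbrev LD2_c53 := D2.c53
abbrev LD2_c54 := D2.c54
abbrev LD2_c55 := D2.c55
abbrev LD2_c56 := D2.c56
abbrev LD2_c57 := D2.c57
abbrev LD2_c58 := D2.c58
abbrev LD2_c59 := D2.c59
abbrev LD3_c0 := D3.c0
abbrev LD3_c1 := D3.c1
abbrev LD3_c2 := D3.c2
abbrev LD3_c3 := D3.c3
abbrev LD3_c4 := D3.c4
abbrev LD3_c5 := D3.c5
abbrev LD3_c6 := D3.c6
abbrev LD3_c7 := D3.c7
abbrev LD3_c8 := D3.c8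
abbrev LD3_c9 := D3.c9
abbrev LD3_c10 := D3.c10
abbrev LD3_c11 := D3.c11
abbrev LD3_c12 := D3.c12
abbrev LD3_c13 := D3.c13
abbrev LD3_c14 := D3.c14
abbrev LD3_c15 := D3.c15
abbrev LD3_c16 := D3.c16
abbrev LD3_c17 := D3.c17
abbrev LD3_c18 := D3.c18
abbrev LD3_c19 := D3.c19
abbrev LD3_c20 := D3.c20
abbrev LD3_c21 := D3.c21
abbrev LD3_c22 := D3.c22
abbrev LD3_c23 := D3.c23
abbrev LD3_c24 := D3.c24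
abbrev LD3_c25 := D3.c25
abbrev LD3_c26 := D3.c26
abbrev LD3_c27 := D3.c27
abbrev LD3_c28 := D3.c28
abbrev LD3_c29 := D3.c29
abbrev LD3_c30 := D3.c30
abbrev LD3_c31 := D3.c31
abbrev LD3_c32 := D3.c32
abbrev LD3_c33 := D3.c33
abbrev LD3_c34 := D3.c34
abbrev LD3_c35 := D3.c35
abbrev LD3_c36 := D3.c36
abbrev LD3_c37 := D3.c37
abbrev LD3_c38 := D3.c38
abbrev LD3_c39 := D3.c39
abbrev LD3_c40 := D3.c40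
abbrev LD3_c41 := D3.c41
abbrev LD3_c42 := D3.c42
abbrev LD3_c43 := D3.c43
abbrev LD3_c44 := D3.c44
abbrev LD3_c45 := D3.c45
abbrev LD3_c46 := D3.c46
abbrev LD3_c47 := D3.c47
abbrev LD3_c48 := D3.c48
abbrev LD3_c49 := D3.c49
abbrev LD3_c50 := D3.c50
abbrev LD3_c51 := D3.c51
abbrev LD3_c52 := D3.c52
abbrev LD3_c53 := D3.c53
abbrev LD3_c54 := D3.c54
abbrev LD3_c55 := D3.c55
abbrev LD3_c56 := D3.c56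
abbrev LD3_c57 := D3.c57
abbrev LD3_c58 := D3.c58
abbrev LD3_c59 := D3.c59
abbrev LD3_c60 := D3.c60
abbrev LD3_c61 := D3.c61
abbrev LG_g := Gen.g
abbrev Lsl_gt : Gen × Bool := sl_gt
alias Lfl_gt := fl_gt
alias Lpr_gt := pr_gt
abbrev Lsl_gf : Gen × Bool := sl_gf
alias Lfl_gf := fl_gf
alias Lpr_gf := pr_gf
alias Lre_g := re_g
alias Leoe_g := eoe_g
abbrev LG_a := Gen.a
abbrev Lsl_at : Gen × Bool := sl_at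
alias Lfl_at := fl_at
alias Lpr_at := pr_at
abbrev Lsl_af : Gen × Bool := sl_af
alias Lfl_af := fl_af
alias Lpr_af := pr_af
alias Lre_a := re_a
alias Leoe_a := eoe_a
abbrev LG_b := Gen.b
abbrev Lsl_bt : Gen × Bool := sl_bt
alias Lfl_bt := fl_bt
alias Lpr_bt := pr_bt
abbrev Lsl_bf : Gen × Bool := sl_bf
alias Lfl_bf := fl_bf
alias Lpr_bf := pr_bf
alias Lre_b := re_b
alias Leoe_b := eoe_b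
abbrev LG_c := Gen.c
abbrev Lsl_ct : Gen × Bool := sl_ct
alias Lfl_ct := fl_ct
alias Lpr_ct := pr_ct
abbrev Lsl_cf : Gen × Bool := sl_cf
alias Lfl_cf := fl_cf
alias Lpr_cf := pr_cf
alias Lre_c := re_c
alias Leoe_c := eoe_c
abbrev LG_d := Gen.d
abbrev Lsl_dt : Gen × Bool := sl_dt
alias Lfl_dt := fl_dt
alias Lpr_dt := pr_dt
abbrev Lsl_df : Gen × Bool := sl_df
alias Lfl_df := fl_df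
alias Lpr_df := pr_df
alias Lre_d := re_d
alias Leoe_d := eoe_d
abbrev LG_e := Gen.e
abbrev Lsl_et : Gen × Bool := sl_et
alias Lfl_et := fl_et
alias Lpr_et := pr_et
abbrev Lsl_ef : Gen × Bool := sl_ef
alias Lfl_ef := fl_ef
alias Lpr_ef := pr_ef
alias Lre_e := re_e
alias Leoe_e := eoe_e
abbrev LG_f := Gen.f
abbrev Lsl_ft : Gen × Bool := sl_ft
alias Lfl_ft := fl_ft
alias Lpr_ft := pr_ft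
abbrev Lsl_ff : Gen × Bool := sl_ff
alias Lfl_ff := fl_ff
alias Lpr_ff := pr_ff
alias Lre_f := re_f
alias Leoe_f := eoe_f
abbrev LK := Pt.mk
abbrev LQ : Type := Qt rels S
abbrev LP (p : Pt) : LQ := P p
abbrev Led (l : Gen × Bool) (c : LQ) : LQ := ed l c
abbrev LEOK (x : Gen) (p : Pt) : Prop := EntryOK rels S fwd inv o plet idx x p
alias Lpe := pe
alias Lpn := pn
alias Lgr := gr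
alias Lpq := pq
alias Lpqs := pqs
alias Llr := lr
alias Leop := eop
alias Lefun := efun
alias Lecon := econ
theorem Lrfl {α : Sort _} {a : α} : a = a := rfl
alias Lrot0 := rot0
alias Lrot1 := rot1
alias Lrot2 := rot2
alias Lrot3 := rot3
alias Lrot4 := rot4
alias Lrot5 := rot5
alias Lrot6 := rot6
alias Lrot7 := rot7
alias Lrot8 := rot8
alias Lrot9 := rot9
alias Lrot10 := rot10
alias Lrot11 := rot11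
alias Lrot12 := rot12
alias Lrot13 := rot13
alias Lrot14 := rot14
alias Lrot15 := rot15
alias Lrot17 := rot17
alias Lrot18 := rot18
alias Lrot19 := rot19
alias Lrot20 := rot20
alias Lrot21 := rot21
alias Lrot22 := rot22
alias Lrot23 := rot23
alias Lrot24 := rot24
alias Lrot25 := rot25
alias Lrot26 := rot26
alias Lrot27 := rot27
alias Lrot28 := rot28
alias Lrot29 := rot29
alias Lrot30 := rot30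
alias Lrot31 := rot31
alias Lrot32 := rot32
alias Lrot33 := rot33
alias Lrot34 := rot34
alias Lrot35 := rot35
alias Lrot36 := rot36
alias Lrot37 := rot37
alias Lrot38 := rot38
alias Lrot39 := rot39
alias Lrot40 := rot40
alias Lrot42 := rot42
alias Lrot43 := rot43
alias Lrot44 := rot44
alias Lrot45 := rot45
alias Lrot46 := rot46
alias Lrot47 := rot47
alias Lrot48 := rot48
alias Lrot49 := rot49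
alias Lrot50 := rot50
alias Lrot51 := rot51
alias Lrot52 := rot52
alias Lrot53 := rot53
alias Lrot54 := rot54
alias Lrot55 := rot55
alias Lrot56 := rot56
alias Lrot57 := rot57
alias Lrot58 := rot58
alias Lrot59 := rot59
alias Lrot60 := rot60
alias Lrot61 := rot61
alias Lrot62 := rot62
alias Lrot64 := rot64
alias Lrot65 := rot65
alias Lrot66 := rot66
alias Lrot67 := rot67
alias Lrot68 := rot68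
alias Lrot69 := rot69
alias Lrot70 := rot70
alias Lrot71 := rot71
alias Lrot72 := rot72
alias Lrot73 := rot73
alias Lrot74 := rot74
alias Lrot75 := rot75
alias Lrot76 := rot76
alias Lrot77 := rot77
alias Lrot78 := rot78
alias Lrot79 := rot79
alias Lrot80 := rot80
alias Lrot81 := rot81
alias Lrot82 := rot82
alias Lrot83 := rot83
alias Lrot84 := rot84
alias Lrot85 := rot85
alias Lrot86 := rot86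
alias Lrot87 := rot87
alias Lrot88 := rot88
alias Lrot89 := rot89
alias Lrot90 := rot90
alias Lrot91 := rot91
alias Lrot92 := rot92
alias Lrot93 := rot93
alias Lrot94 := rot94
alias Lrot95 := rot95
alias Lrot96 := rot96
alias Lrot97 := rot97
alias Lrot98 := rot98
alias Lrot99 := rot99
alias Lrot100 := rot100
alias Lrot101 := rot101
alias Lrot102 := rot102
alias Lrot103 := rot103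
alias Lrot104 := rot104
alias Lrot105 := rot105
alias Lrot106 := rot106
alias Lrot107 := rot107
alias Lrot108 := rot108
alias Lrot109 := rot109
alias Lrot110 := rot110
alias Lrot111 := rot111
alias Lrot112 := rot112
alias Lrot113 := rot113
alias Lrot114 := rot114
alias Lrot115 := rot115
alias Lrot117 := rot117
alias Lrot118 := rot118
alias Lrot119 := rot119
alias Lrot120 := rot120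
alias Lrot121 := rot121
alias Lrot122 := rot122
alias Lrot123 := rot123
alias Lrot124 := rot124
alias Lrot125 := rot125
alias Lrot126 := rot126
alias Lrot127 := rot127
alias Lrot128 := rot128
alias Lrot129 := rot129
alias Lrot130 := rot130
alias Lrot131 := rot131
alias Lrot132 := rot132
alias Lrot133 := rot133
alias Lrot134 := rot134
alias Lrot135 := rot135
alias Lrot136 := rot136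
alias Lrot137 := rot137
alias Lrot138 := rot138
alias Lrot139 := rot139
alias Lrot140 := rot140
alias Lrot141 := rot141
alias Lrot142 := rot142
alias Lrot143 := rot143
alias Lrot144 := rot144
alias Lrot145 := rot145
alias Lrot147 := rot147
alias Lrot148 := rot148
alias Lrot149 := rot149
alias Lrot150 := rot150
alias Lrot152 := rot152
alias Lrot153 := rot153
alias Lrot154 := rot154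
alias Lrot155 := rot155
alias Lrot156 := rot156
alias Lrot157 := rot157
alias Lrot158 := rot158
alias Lrot159 := rot159
alias Lrot160 := rot160
alias Lrot161 := rot161
alias Lrot162 := rot162
alias Lrot163 := rot163
alias Lrot164 := rot164
alias Lrot165 := rot165
alias Lrot166 := rot166
alias Lrot167 := rot167
alias Lrot168 := rot168
alias Lrot169 := rot169
alias Lrot170 := rot170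
alias Lrot172 := rot172
alias Lrot173 := rot173
alias Lrot174 := rot174
alias Lrot175 := rot175
alias Lrot176 := rot176
alias Lrot177 := rot177
alias Lrot179 := rot179
alias Lrot180 := rot180
alias Lrot181 := rot181
alias Lrot182 := rot182
alias Lrot183 := rot183
alias Lrot185 := rot185
alias Lrot187 := rot187
alias Lrot189 := rot189

section
variable (IH : IHT)
include IH

theorem f293250 : Led Lsl_at (LP (LK LD1_c4 LD2_c4 LD3_c3)) = (LP (LK LD1_c8 LD2_c2 LD3_c61)) :=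
  Lgr Lrot66 (Lpe (K17.f293249 IH) (Lpr_af (K17.f293238 IH) (Lpe (K17.f293237 IH) (Lpn (LP (LK LD1_c8 LD2_c2 LD3_c61))))))
theorem f211302 : Led Lsl_ct (LP (LK LD1_c1 LD2_c58 LD3_c61)) = (LP (LK LD1_c4 LD2_c4 LD3_c3)) :=
  Lre_c IH (LK LD1_c1 LD2_c58 LD3_c61) (LK LD1_c4 LD2_c4 LD3_c3) Lrfl Lrfl
theorem f223395 : Led Lsl_ct (LP (LK LD1_c8 LD2_c2 LD3_c61)) = (LP (LK LD1_c4 LD2_c1 LD3_c8)) :=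
  Lre_c IH (LK LD1_c8 LD2_c2 LD3_c61) (LK LD1_c4 LD2_c1 LD3_c8) Lrfl Lrfl
theorem f293262 : Led Lsl_af (LP (LK LD1_c1 LD2_c58 LD3_c61)) = (LP (LK LD1_c4 LD2_c1 LD3_c8)) :=
  Lgr Lrot68 (Lpr_ct (f211302 IH) (Lpr_at (f293250 IH) (Lpr_ct (f223395 IH) (Lpn (LP (LK LD1_c4 LD2_c1 LD3_c8))))))
theorem f192621 : Led Lsl_et (LP (LK LD1_c2 LD2_c29 LD3_c49)) = (LP (LK LD1_c1 LD2_c11 LD3_c57)) :=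
  Lre_e IH (LK LD1_c2 LD2_c29 LD3_c49) (LK LD1_c1 LD2_c11 LD3_c57) Lrfl Lrfl
theorem f211287 : Led Lsl_et (LP (LK LD1_c0 LD2_c56 LD3_c17)) = (LP (LK LD1_c1 LD2_c58 LD3_c61)) :=
  Lre_e IH (LK LD1_c0 LD2_c56 LD3_c17) (LK LD1_c1 LD2_c58 LD3_c61) Lrfl Lrfl
theorem f211288 : Led Lsl_df (LP (LK LD1_c2 LD2_c29 LD3_c49)) = (LP (LK LD1_c1 LD2_c58 LD3_c61)) :=
  Lgr Lrot70 (Lpr_et (f192621 IH) (Lpr_dt (K13.f31627 IH) (Lpr_et (K17.f201305 IH) (Lpr_dt (K11.f211278 IH) (Lpr_et (f211287 IH) (Lpn (LP (LK LD1_c1 LD2_c58 LD3_c61))))))))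
theorem f293290 : Led Lsl_at (LP (LK LD1_c2 LD2_c29 LD3_c49)) = (LP (LK LD1_c4 LD2_c20 LD3_c3)) :=
  Lgr Lrot51 (Lpr_df (f211288 IH) (Lpr_af (f293262 IH) (Lpr_df (K17.f223567 IH) (Lpn (LP (LK LD1_c4 LD2_c20 LD3_c3))))))
theorem f293312 : Led Lsl_af (LP (LK LD1_c5 LD2_c5 LD3_c3)) = (LP (LK LD1_c8 LD2_c38 LD3_c6)) :=
  Lgr Lrot45 (Lpr_ft (K11.f211306 IH) (Lpr_at (f293290 IH) (Lpr_ft (K17.f223569 IH) (Lpn (LP (LK LD1_c8 LD2_c38 LD3_c6))))))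
theorem f28019 : Led Lsl_dt (LP (LK LD1_c4 LD2_c1 LD3_c6)) = (LP (LK LD1_c8 LD2_c2 LD3_c58)) :=
  Lre_d IH (LK LD1_c4 LD2_c1 LD3_c6) (LK LD1_c8 LD2_c2 LD3_c58) Lrfl Lrfl
theorem f243037 : Led Lsl_et (LP (LK LD1_c8 LD2_c2 LD3_c58)) = (LP (LK LD1_c4 LD2_c1 LD3_c59)) :=
  Lgr Lrot71 (Lpe (f28019 IH) (Lpe (K17.f238508 IH) (Lpe (K13.f223599 IH) (Lpr_ef (K13.f243035 IH) (Lpe (K17.f243029 IH) (Lpn (LP (LK LD1_c4 LD2_c1 LD3_c59))))))))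
theorem f246131 : Led Lsl_et (LP (LK LD1_c2 LD2_c33 LD3_c15)) = (LP (LK LD1_c5 LD2_c12 LD3_c49)) :=
  Lre_e IH (LK LD1_c2 LD2_c33 LD3_c15) (LK LD1_c5 LD2_c12 LD3_c49) Lrfl Lrfl
theorem f269257 : Led Lsl_ft (LP (LK LD1_c5 LD2_c12 LD3_c49)) = (LP (LK LD1_c10 LD2_c16 LD3_c3)) :=
  Lre_f IH (LK LD1_c5 LD2_c12 LD3_c49) (LK LD1_c10 LD2_c16 LD3_c3) Lrfl Lrfl
theorem f269258 : Led Lsl_ef (LP (LK LD1_c15 LD2_c9 LD3_c20)) = (LP (LK LD1_c10 LD2_c16 LD3_c3)) :=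
  Lgr Lrot21 (Lpr_ft (K16.f269256 IH) (Lpr_et (f243037 IH) (Lpr_ft (K16.f269252 IH) (Lpr_et (f246131 IH) (Lpr_ft (f269257 IH) (Lpn (LP (LK LD1_c10 LD2_c16 LD3_c3))))))))
theorem f269261 : Led Lsl_dt (LP (LK LD1_c5 LD2_c12 LD3_c50)) = (LP (LK LD1_c10 LD2_c16 LD3_c3)) :=
  Lre_d IH (LK LD1_c5 LD2_c12 LD3_c50) (LK LD1_c10 LD2_c16 LD3_c3) Lrfl Lrfl
theorem f293164 : Led Lsl_et (LP (LK LD1_c5 LD2_c5 LD3_c3)) = (LP (LK LD1_c5 LD2_c12 LD3_c50)) :=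
  Lgr Lrot71 (Lpe (K11.f211307 IH) (Lpr_ef (K17.f293158 IH) (Lpe (K16.f269260 IH) (Lpr_ef (f269258 IH) (Lpe (f269261 IH) (Lpn (LP (LK LD1_c5 LD2_c12 LD3_c50))))))))
theorem f293318 : Led Lsl_at (LP (LK LD1_c5 LD2_c12 LD3_c50)) = (LP (LK LD1_c8 LD2_c38 LD3_c52)) :=
  Lgr Lrot80 (Lpe (f293164 IH) (Lpr_af (f293312 IH) (Lpr_ef (K17.f293218 IH) (Lpn (LP (LK LD1_c8 LD2_c38 LD3_c52))))))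
theorem f293322 : Led Lsl_af (LP (LK LD1_c5 LD2_c12 LD3_c50)) = (LP (LK LD1_c8 LD2_c38 LD3_c52)) :=
  Lgr Lrot0 (Lpr_at (f293318 IH) (Lpn (LP (LK LD1_c8 LD2_c38 LD3_c52))))
theorem f293338 : Led Lsl_ft (LP (LK LD1_c5 LD2_c12 LD3_c50)) = (LP (LK LD1_c2 LD2_c33 LD3_c14)) :=
  Lre_f IH (LK LD1_c5 LD2_c12 LD3_c50) (LK LD1_c2 LD2_c33 LD3_c14) Lrfl Lrfl
theorem f265338 : Led Lsl_ft (LP (LK LD1_c4 LD2_c20 LD3_c31)) = (LP (LK LD1_c8 LD2_c38 LD3_c52)) :=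
  Lre_f IH (LK LD1_c4 LD2_c20 LD3_c31) (LK LD1_c8 LD2_c38 LD3_c52) Lrfl Lrfl
theorem f293339 : Led Lsl_at (LP (LK LD1_c2 LD2_c33 LD3_c14)) = (LP (LK LD1_c4 LD2_c20 LD3_c31)) :=
  Lgr Lrot66 (Lpe (f293338 IH) (Lpr_af (f293322 IH) (Lpe (f265338 IH) (Lpn (LP (LK LD1_c4 LD2_c20 LD3_c31))))))
theorem f196120 : Led Lsl_dt (LP (LK LD1_c5 LD2_c12 LD3_c49)) = (LP (LK LD1_c2 LD2_c33 LD3_c14)) :=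
  Lre_d IH (LK LD1_c5 LD2_c12 LD3_c49) (LK LD1_c2 LD2_c33 LD3_c14) Lrfl Lrfl
theorem f293349 : Led Lsl_af (LP (LK LD1_c5 LD2_c12 LD3_c49)) = (LP (LK LD1_c8 LD2_c4 LD3_c36)) :=
  Lgr Lrot117 (Lpr_dt (f196120 IH) (Lpr_at (f293339 IH) (Lpr_dt (K17.f265336 IH) (Lpn (LP (LK LD1_c8 LD2_c4 LD3_c36))))))
theorem f293509 : Led Lsl_at (LP (LK LD1_c5 LD2_c12 LD3_c49)) = (LP (LK LD1_c8 LD2_c4 LD3_c36)) :=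
  Lgr Lrot100 (Lpr_af (f293349 IH) (Lpn (LP (LK LD1_c8 LD2_c4 LD3_c36))))
theorem f242319 : Led Lsl_ct (LP (LK LD1_c10 LD2_c16 LD3_c2)) = (LP (LK LD1_c5 LD2_c12 LD3_c49)) :=
  Lre_c IH (LK LD1_c10 LD2_c16 LD3_c2) (LK LD1_c5 LD2_c12 LD3_c49) Lrfl Lrfl
theorem f240149 : Led Lsl_et (LP (LK LD1_c5 LD2_c8 LD3_c35)) = (LP (LK LD1_c10 LD2_c7 LD3_c37)) :=
  Lre_e IH (LK LD1_c5 LD2_c8 LD3_c35) (LK LD1_c10 LD2_c7 LD3_c37) Lrfl Lrfl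
theorem f240168 : Led Lsl_cf (LP (LK LD1_c8 LD2_c4 LD3_c36)) = (LP (LK LD1_c10 LD2_c7 LD3_c37)) :=
  Lgr Lrot39 (Lpr_et (K17.f229857 IH) (Lpr_ct (K13.f240134 IH) (Lpr_et (f240149 IH) (Lpn (LP (LK LD1_c10 LD2_c7 LD3_c37))))))
theorem f240197 : Led Lsl_ct (LP (LK LD1_c8 LD2_c4 LD3_c36)) = (LP (LK LD1_c10 LD2_c7 LD3_c37)) :=
  Lgr Lrot59 (Lpr_cf (f240168 IH) (Lpn (LP (LK LD1_c10 LD2_c7 LD3_c37))))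
theorem f293513 : Led Lsl_af (LP (LK LD1_c10 LD2_c16 LD3_c2)) = (LP (LK LD1_c10 LD2_c7 LD3_c37)) :=
  Lgr Lrot68 (Lpr_ct (f242319 IH) (Lpr_at (f293509 IH) (Lpr_ct (f240197 IH) (Lpn (LP (LK LD1_c10 LD2_c7 LD3_c37))))))
theorem f196125 : Led Lsl_dt (LP (LK LD1_c10 LD2_c16 LD3_c2)) = (LP (LK LD1_c18 LD2_c40 LD3_c30)) :=
  Lre_d IH (LK LD1_c10 LD2_c16 LD3_c2) (LK LD1_c18 LD2_c40 LD3_c30) Lrfl Lrfl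
theorem f47003 : Led Lsl_et (LP (LK LD1_c1 LD2_c58 LD3_c21)) = (LP (LK LD1_c4 LD2_c2 LD3_c35)) :=
  Lre_e IH (LK LD1_c1 LD2_c58 LD3_c21) (LK LD1_c4 LD2_c2 LD3_c35) Lrfl Lrfl
theorem f184552 : Led Lsl_et (LP (LK LD1_c5 LD2_c1 LD3_c36)) = (LP (LK LD1_c2 LD2_c28 LD3_c29)) :=
  Lre_e IH (LK LD1_c5 LD2_c1 LD3_c36) (LK LD1_c2 LD2_c28 LD3_c29) Lrfl Lrfl
theorem f184553 : Led Lsl_dt (LP (LK LD1_c5 LD2_c1 LD3_c36)) = (LP (LK LD1_c9 LD2_c53 LD3_c35)) :=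
  Lre_d IH (LK LD1_c5 LD2_c1 LD3_c36) (LK LD1_c9 LD2_c53 LD3_c35) Lrfl Lrfl
theorem f184554 : Led Lsl_gt (LP (LK LD1_c9 LD2_c53 LD3_c35)) = (LP (LK LD1_c18 LD2_c6 LD3_c14)) :=
  Lre_g IH (LK LD1_c9 LD2_c53 LD3_c35) (LK LD1_c18 LD2_c6 LD3_c14) Lrfl Lrfl
theorem f240139 : Led Lsl_et (LP (LK LD1_c10 LD2_c7 LD3_c37)) = (LP (LK LD1_c5 LD2_c8 LD3_c35)) :=
  Lre_e IH (LK LD1_c10 LD2_c7 LD3_c37) (LK LD1_c5 LD2_c8 LD3_c35) Lrfl Lrfl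
theorem f240140 : Led Lsl_df (LP (LK LD1_c18 LD2_c6 LD3_c14)) = (LP (LK LD1_c10 LD2_c7 LD3_c37)) :=
  Lgr Lrot168 (Lpe (f184554 IH) (Lpe (f184553 IH) (Lpr_et (f184552 IH) (Lpr_gf (K13.f184544 IH) (Lpe (f47003 IH) (Lpr_dt (K1.f27873 IH) (Lpr_gf (K10.f197205 IH) (Lpe (K13.f190275 IH) (Lpr_gf (K13.f240131 IH) (Lpe (f240139 IH) (Lpn (LP (LK LD1_c10 LD2_c7 LD3_c37)))))))))))))
theorem f240147 : Led Lsl_dt (LP (LK LD1_c18 LD2_c6 LD3_c14)) = (LP (LK LD1_c10 LD2_c7 LD3_c37)) :=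
  Lgr Lrot42 (Lpr_df (f240140 IH) (Lpn (LP (LK LD1_c10 LD2_c7 LD3_c37))))
theorem f293528 : Led Lsl_at (LP (LK LD1_c18 LD2_c40 LD3_c30)) = (LP (LK LD1_c18 LD2_c6 LD3_c14)) :=
  Lgr Lrot51 (Lpe (f196125 IH) (Lpr_af (f293513 IH) (Lpe (f240147 IH) (Lpn (LP (LK LD1_c18 LD2_c6 LD3_c14))))))
theorem f247811 : Led Lsl_gt (LP (LK LD1_c18 LD2_c6 LD3_c15)) = (LP (LK LD1_c9 LD2_c53 LD3_c35)) :=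
  Lre_g IH (LK LD1_c18 LD2_c6 LD3_c15) (LK LD1_c9 LD2_c53 LD3_c35) Lrfl Lrfl
theorem f293534 : Led Lsl_ff (LP (LK LD1_c18 LD2_c40 LD3_c30)) = (LP (LK LD1_c18 LD2_c6 LD3_c15)) :=
  Lgr Lrot52 (Lpr_at (f293528 IH) (Lpe (f184554 IH) (Lpe (f247811 IH) (Lpn (LP (LK LD1_c18 LD2_c6 LD3_c15))))))
theorem f293541 : Led Lsl_ft (LP (LK LD1_c18 LD2_c40 LD3_c30)) = (LP (LK LD1_c18 LD2_c6 LD3_c15)) :=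
  Lgr Lrot48 (Lpr_ff (f293534 IH) (Lpn (LP (LK LD1_c18 LD2_c6 LD3_c15))))
theorem f247813 : Led Lsl_et (LP (LK LD1_c2 LD2_c28 LD3_c25)) = (LP (LK LD1_c5 LD2_c1 LD3_c26)) :=
  Lre_e IH (LK LD1_c2 LD2_c28 LD3_c25) (LK LD1_c5 LD2_c1 LD3_c26) Lrfl Lrfl
theorem f247814 : Led Lsl_gt (LP (LK LD1_c5 LD2_c1 LD3_c26)) = (LP (LK LD1_c9 LD2_c53 LD3_c9)) :=
  Lre_g IH (LK LD1_c5 LD2_c1 LD3_c26) (LK LD1_c9 LD2_c53 LD3_c9) Lrfl Lrfl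
theorem f247815 : Led Lsl_et (LP (LK LD1_c18 LD2_c5 LD3_c34)) = (LP (LK LD1_c9 LD2_c53 LD3_c9)) :=
  Lre_e IH (LK LD1_c18 LD2_c5 LD3_c34) (LK LD1_c9 LD2_c53 LD3_c9) Lrfl Lrfl
theorem f247816 : Led Lsl_df (LP (LK LD1_c18 LD2_c6 LD3_c15)) = (LP (LK LD1_c18 LD2_c5 LD3_c34)) :=
  Lgr Lrot170 (Lpr_gt (f247811 IH) (Lpe (f184553 IH) (Lpr_et (f184552 IH) (Lpr_gt (K9.f165897 IH) (Lpr_dt (K14.f247800 IH) (Lpe (K14.f247805 IH) (Lpe (K15.f247812 IH) (Lpr_et (f247813 IH) (Lpr_gt (f247814 IH) (Lpe (f247815 IH) (Lpn (LP (LK LD1_c18 LD2_c5 LD3_c34)))))))))))))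
theorem f247822 : Led Lsl_dt (LP (LK LD1_c18 LD2_c6 LD3_c15)) = (LP (LK LD1_c18 LD2_c5 LD3_c34)) :=
  Lgr Lrot42 (Lpr_df (f247816 IH) (Lpn (LP (LK LD1_c18 LD2_c5 LD3_c34))))
theorem f293545 : Led Lsl_ff (LP (LK LD1_c10 LD2_c16 LD3_c2)) = (LP (LK LD1_c18 LD2_c5 LD3_c34)) :=
  Lgr Lrot19 (Lpr_dt (f196125 IH) (Lpr_ft (f293541 IH) (Lpr_dt (f247822 IH) (Lpn (LP (LK LD1_c18 LD2_c5 LD3_c34))))))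
theorem f196124 : Led Lsl_et (LP (LK LD1_c10 LD2_c16 LD3_c2)) = (LP (LK LD1_c5 LD2_c12 LD3_c51)) :=
  Lre_e IH (LK LD1_c10 LD2_c16 LD3_c2) (LK LD1_c5 LD2_c12 LD3_c51) Lrfl Lrfl
theorem f269167 : Led Lsl_ff (LP (LK LD1_c5 LD2_c8 LD3_c36)) = (LP (LK LD1_c5 LD2_c12 LD3_c51)) :=
  Lgr Lrot19 (Lpr_dt (K13.f240085 IH) (Lpr_ft (K16.f269163 IH) (Lpr_dt (K13.f242548 IH) (Lpn (LP (LK LD1_c5 LD2_c12 LD3_c51))))))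
theorem f240086 : Led Lsl_et (LP (LK LD1_c5 LD2_c8 LD3_c36)) = (LP (LK LD1_c10 LD2_c7 LD3_c40)) :=
  Lre_e IH (LK LD1_c5 LD2_c8 LD3_c36) (LK LD1_c10 LD2_c7 LD3_c40) Lrfl Lrfl
theorem f247824 : Led Lsl_et (LP (LK LD1_c9 LD2_c53 LD3_c9)) = (LP (LK LD1_c18 LD2_c5 LD3_c34)) :=
  Lre_e IH (LK LD1_c9 LD2_c53 LD3_c9) (LK LD1_c18 LD2_c5 LD3_c34) Lrfl Lrfl
theorem f293554 : Led Lsl_ft (LP (LK LD1_c10 LD2_c7 LD3_c40)) = (LP (LK LD1_c9 LD2_c53 LD3_c9)) :=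
  Lgr Lrot86 (Lpe (f240086 IH) (Lpr_ff (f269167 IH) (Lpe (f196124 IH) (Lpr_ff (f293545 IH) (Lpe (f247824 IH) (Lpn (LP (LK LD1_c9 LD2_c53 LD3_c9))))))))
theorem f237017 : Led Lsl_ct (LP (LK LD1_c8 LD2_c8 LD3_c31)) = (LP (LK LD1_c4 LD2_c3 LD3_c59)) :=
  Lre_c IH (LK LD1_c8 LD2_c8 LD3_c31) (LK LD1_c4 LD2_c3 LD3_c59) Lrfl Lrfl
theorem f237018 : Led Lsl_ef (LP (LK LD1_c8 LD2_c8 LD3_c31)) = (LP (LK LD1_c8 LD2_c3 LD3_c8)) :=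
  Lgr Lrot28 (Lpr_ct (f237017 IH) (Lpr_et (K15.f237014 IH) (Lpr_ct (K13.f182005 IH) (Lpn (LP (LK LD1_c8 LD2_c3 LD3_c8))))))
theorem f247897 : Led Lsl_gf (LP (LK LD1_c5 LD2_c1 LD3_c26)) = (LP (LK LD1_c8 LD2_c8 LD3_c31)) :=
  Lgr Lrot141 (Lpe (f247813 IH) (Lpr_dt (K15.f247812 IH) (Lpr_gt (K14.f247888 IH) (Lpe (K1.f45901 IH) (Lpr_et (K1.f47039 IH) (Lpr_gt (K12.f197174 IH) (Lpr_dt (K13.f197181 IH) (Lpr_gt (K13.f197180 IH) (Lpr_df (K13.f242831 IH) (Lpe (f237018 IH) (Lpn (LP (LK LD1_c8 LD2_c8 LD3_c31)))))))))))))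
theorem f237036 : Led Lsl_ft (LP (LK LD1_c8 LD2_c8 LD3_c31)) = (LP (LK LD1_c15 LD2_c19 LD3_c53)) :=
  Lre_f IH (LK LD1_c8 LD2_c8 LD3_c31) (LK LD1_c15 LD2_c19 LD3_c53) Lrfl Lrfl
theorem f247899 : Led Lsl_af (LP (LK LD1_c9 LD2_c53 LD3_c9)) = (LP (LK LD1_c15 LD2_c19 LD3_c53)) :=
  Lgr Lrot31 (Lpe (f247814 IH) (Lpr_gf (f247897 IH) (Lpr_ft (f237036 IH) (Lpn (LP (LK LD1_c15 LD2_c19 LD3_c53))))))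
theorem f247912 : Led Lsl_at (LP (LK LD1_c9 LD2_c53 LD3_c9)) = (LP (LK LD1_c15 LD2_c19 LD3_c53)) :=
  Lgr Lrot100 (Lpr_af (f247899 IH) (Lpn (LP (LK LD1_c15 LD2_c19 LD3_c53))))
theorem f237056 : Led Lsl_ft (LP (LK LD1_c15 LD2_c19 LD3_c53)) = (LP (LK LD1_c8 LD2_c8 LD3_c31)) :=
  Lre_f IH (LK LD1_c15 LD2_c19 LD3_c53) (LK LD1_c8 LD2_c8 LD3_c31) Lrfl Lrfl
theorem f293556 : Led Lsl_af (LP (LK LD1_c10 LD2_c7 LD3_c40)) = (LP (LK LD1_c8 LD2_c8 LD3_c31)) :=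
  Lgr Lrot45 (Lpr_ft (f293554 IH) (Lpr_at (f247912 IH) (Lpr_ft (f237056 IH) (Lpn (LP (LK LD1_c8 LD2_c8 LD3_c31))))))
theorem f293563 : Led Lsl_bt (LP (LK LD1_c10 LD2_c7 LD3_c40)) = (LP (LK LD1_c18 LD2_c26 LD3_c56)) :=
  Lre_b IH (LK LD1_c10 LD2_c7 LD3_c40) (LK LD1_c18 LD2_c26 LD3_c56) Lrfl Lrfl
theorem f293606 : Led Lsl_at (LP (LK LD1_c18 LD2_c26 LD3_c56)) = (LP (LK LD1_c28 LD2_c2 LD3_c0)) :=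
  Lre_a IH (LK LD1_c18 LD2_c26 LD3_c56) (LK LD1_c28 LD2_c2 LD3_c0) Lrfl Lrfl
theorem f237049 : Led Lsl_bt (LP (LK LD1_c15 LD2_c19 LD3_c52)) = (LP (LK LD1_c8 LD2_c8 LD3_c31)) :=
  Lre_b IH (LK LD1_c15 LD2_c19 LD3_c52) (LK LD1_c8 LD2_c8 LD3_c31) Lrfl Lrfl
theorem f237038 : Led Lsl_at (LP (LK LD1_c25 LD2_c10 LD3_c58)) = (LP (LK LD1_c15 LD2_c19 LD3_c52)) :=
  Lre_a IH (LK LD1_c25 LD2_c10 LD3_c58) (LK LD1_c15 LD2_c19 LD3_c52) Lrfl Lrfl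
theorem f293624 : Led Lsl_bt (LP (LK LD1_c28 LD2_c2 LD3_c0)) = (LP (LK LD1_c25 LD2_c10 LD3_c58)) :=
  Lgr Lrot62 (Lpe (f293606 IH) (Lpe (f293563 IH) (Lpr_af (f293556 IH) (Lpe (f237049 IH) (Lpe (f237038 IH) (Lpn (LP (LK LD1_c25 LD2_c10 LD3_c58))))))))
theorem f293615 : Led Lsl_et (LP (LK LD1_c18 LD2_c26 LD3_c54)) = (LP (LK LD1_c28 LD2_c2 LD3_c0)) :=
  Lre_e IH (LK LD1_c18 LD2_c26 LD3_c54) (LK LD1_c28 LD2_c2 LD3_c0) Lrfl Lrfl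
theorem f237032 : Led Lsl_bt (LP (LK LD1_c8 LD2_c8 LD3_c31)) = (LP (LK LD1_c15 LD2_c19 LD3_c52)) :=
  Lre_b IH (LK LD1_c8 LD2_c8 LD3_c31) (LK LD1_c15 LD2_c19 LD3_c52) Lrfl Lrfl
theorem f237033 : Led Lsl_bt (LP (LK LD1_c15 LD2_c9 LD3_c41)) = (LP (LK LD1_c8 LD2_c3 LD3_c8)) :=
  Lre_b IH (LK LD1_c15 LD2_c9 LD3_c41) (LK LD1_c8 LD2_c3 LD3_c8) Lrfl Lrfl
theorem f237034 : Led Lsl_et (LP (LK LD1_c15 LD2_c19 LD3_c52)) = (LP (LK LD1_c15 LD2_c9 LD3_c41)) :=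
  Lgr Lrot74 (Lpe (f237032 IH) (Lpr_ef (f237018 IH) (Lpe (f237033 IH) (Lpn (LP (LK LD1_c15 LD2_c9 LD3_c41))))))
theorem f237042 : Led Lsl_ef (LP (LK LD1_c15 LD2_c19 LD3_c52)) = (LP (LK LD1_c15 LD2_c9 LD3_c41)) :=
  Lgr Lrot88 (Lpr_et (f237034 IH) (Lpn (LP (LK LD1_c15 LD2_c9 LD3_c41))))
theorem f237045 : Led Lsl_at (LP (LK LD1_c15 LD2_c19 LD3_c52)) = (LP (LK LD1_c25 LD2_c10 LD3_c58)) :=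
  Lre_a IH (LK LD1_c15 LD2_c19 LD3_c52) (LK LD1_c25 LD2_c10 LD3_c58) Lrfl Lrfl
theorem f237046 : Led Lsl_at (LP (LK LD1_c24 LD2_c58 LD3_c47)) = (LP (LK LD1_c15 LD2_c9 LD3_c41)) :=
  Lre_a IH (LK LD1_c24 LD2_c58 LD3_c47) (LK LD1_c15 LD2_c9 LD3_c41) Lrfl Lrfl
theorem f237047 : Led Lsl_et (LP (LK LD1_c25 LD2_c10 LD3_c58)) = (LP (LK LD1_c24 LD2_c58 LD3_c47)) :=
  Lgr Lrot123 (Lpe (f237045 IH) (Lpr_ef (f237042 IH) (Lpe (f237046 IH) (Lpn (LP (LK LD1_c24 LD2_c58 LD3_c47))))))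
theorem f293628 : Led Lsl_bf (LP (LK LD1_c18 LD2_c26 LD3_c54)) = (LP (LK LD1_c24 LD2_c58 LD3_c47)) :=
  Lgr Lrot96 (Lpr_et (f293615 IH) (Lpr_bt (f293624 IH) (Lpr_et (f237047 IH) (Lpn (LP (LK LD1_c24 LD2_c58 LD3_c47))))))
theorem f293558 : Led Lsl_bt (LP (LK LD1_c18 LD2_c26 LD3_c56)) = (LP (LK LD1_c10 LD2_c7 LD3_c40)) :=
  Lre_b IH (LK LD1_c18 LD2_c26 LD3_c56) (LK LD1_c10 LD2_c7 LD3_c40) Lrfl Lrfl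
theorem f247914 : Led Lsl_bt (LP (LK LD1_c9 LD2_c53 LD3_c9)) = (LP (LK LD1_c18 LD2_c5 LD3_c33)) :=
  Lre_b IH (LK LD1_c9 LD2_c53 LD3_c9) (LK LD1_c18 LD2_c5 LD3_c33) Lrfl Lrfl
theorem f293559 : Led Lsl_ff (LP (LK LD1_c18 LD2_c26 LD3_c56)) = (LP (LK LD1_c18 LD2_c5 LD3_c33)) :=
  Lgr Lrot25 (Lpr_bt (f293558 IH) (Lpr_ft (f293554 IH) (Lpr_bt (f247914 IH) (Lpn (LP (LK LD1_c18 LD2_c5 LD3_c33))))))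
theorem f293607 : Led Lsl_et (LP (LK LD1_c18 LD2_c26 LD3_c56)) = (LP (LK LD1_c10 LD2_c7 LD3_c38)) :=
  Lre_e IH (LK LD1_c18 LD2_c26 LD3_c56) (LK LD1_c10 LD2_c7 LD3_c38) Lrfl Lrfl
theorem f247833 : Led Lsl_et (LP (LK LD1_c27 LD2_c46 LD3_c50)) = (LP (LK LD1_c18 LD2_c5 LD3_c33)) :=
  Lre_e IH (LK LD1_c27 LD2_c46 LD3_c50) (LK LD1_c18 LD2_c5 LD3_c33) Lrfl Lrfl
theorem f242378 : Led Lsl_bt (LP (LK LD1_c10 LD2_c16 LD3_c2)) = (LP (LK LD1_c18 LD2_c40 LD3_c29)) :=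
  Lre_b IH (LK LD1_c10 LD2_c16 LD3_c2) (LK LD1_c18 LD2_c40 LD3_c29) Lrfl Lrfl
theorem f247819 : Led Lsl_bt (LP (LK LD1_c27 LD2_c46 LD3_c50)) = (LP (LK LD1_c18 LD2_c5 LD3_c34)) :=
  Lre_b IH (LK LD1_c27 LD2_c46 LD3_c50) (LK LD1_c18 LD2_c5 LD3_c34) Lrfl Lrfl
theorem f293550 : Led Lsl_ft (LP (LK LD1_c18 LD2_c40 LD3_c29)) = (LP (LK LD1_c27 LD2_c46 LD3_c50)) :=
  Lgr Lrot75 (Lpe (f242378 IH) (Lpr_ff (f293545 IH) (Lpe (f247819 IH) (Lpn (LP (LK LD1_c27 LD2_c46 LD3_c50))))))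
theorem f242457 : Led Lsl_et (LP (LK LD1_c10 LD2_c16 LD3_c4)) = (LP (LK LD1_c18 LD2_c40 LD3_c29)) :=
  Lre_e IH (LK LD1_c10 LD2_c16 LD3_c4) (LK LD1_c18 LD2_c40 LD3_c29) Lrfl Lrfl
theorem f293608 : Led Lsl_ft (LP (LK LD1_c10 LD2_c7 LD3_c38)) = (LP (LK LD1_c10 LD2_c16 LD3_c4)) :=
  Lgr Lrot86 (Lpe (f293607 IH) (Lpr_ff (f293559 IH) (Lpe (f247833 IH) (Lpe (f293550 IH) (Lpe (f242457 IH) (Lpn (LP (LK LD1_c10 LD2_c16 LD3_c4))))))))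
theorem f293610 : Led Lsl_at (LP (LK LD1_c18 LD2_c26 LD3_c54)) = (LP (LK LD1_c10 LD2_c7 LD3_c38)) :=
  Lre_a IH (LK LD1_c18 LD2_c26 LD3_c54) (LK LD1_c10 LD2_c7 LD3_c38) Lrfl Lrfl
theorem f242451 : Led Lsl_at (LP (LK LD1_c10 LD2_c16 LD3_c4)) = (LP (LK LD1_c18 LD2_c40 LD3_c33)) :=
  Lre_a IH (LK LD1_c10 LD2_c16 LD3_c4) (LK LD1_c18 LD2_c40 LD3_c33) Lrfl Lrfl
theorem f293611 : Led Lsl_ff (LP (LK LD1_c18 LD2_c26 LD3_c54)) = (LP (LK LD1_c18 LD2_c40 LD3_c33)) :=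
  Lgr Lrot30 (Lpr_at (f293610 IH) (Lpr_ft (f293608 IH) (Lpr_at (f242451 IH) (Lpn (LP (LK LD1_c18 LD2_c40 LD3_c33))))))
theorem f293616 : Led Lsl_ft (LP (LK LD1_c18 LD2_c26 LD3_c54)) = (LP (LK LD1_c18 LD2_c40 LD3_c33)) :=
  Lgr Lrot48 (Lpr_ff (f293611 IH) (Lpn (LP (LK LD1_c18 LD2_c40 LD3_c33))))
theorem f240136 : Led Lsl_bt (LP (LK LD1_c10 LD2_c7 LD3_c35)) = (LP (LK LD1_c5 LD2_c8 LD3_c35)) :=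
  Lre_b IH (LK LD1_c10 LD2_c7 LD3_c35) (LK LD1_c5 LD2_c8 LD3_c35) Lrfl Lrfl
theorem f240422 : Led Lsl_at (LP (LK LD1_c18 LD2_c26 LD3_c47)) = (LP (LK LD1_c10 LD2_c7 LD3_c35)) :=
  Lre_a IH (LK LD1_c18 LD2_c26 LD3_c47) (LK LD1_c10 LD2_c7 LD3_c35) Lrfl Lrfl
theorem f196116 : Led Lsl_bt (LP (LK LD1_c5 LD2_c12 LD3_c51)) = (LP (LK LD1_c10 LD2_c16 LD3_c4)) :=
  Lre_b IH (LK LD1_c5 LD2_c12 LD3_c51) (LK LD1_c10 LD2_c16 LD3_c4) Lrfl Lrfl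
theorem f269201 : Led Lsl_bf (LP (LK LD1_c18 LD2_c26 LD3_c47)) = (LP (LK LD1_c18 LD2_c40 LD3_c33)) :=
  Lgr Lrot81 (Lpr_at (f240422 IH) (Lpr_bt (f240136 IH) (Lpr_at (K16.f269177 IH) (Lpr_bt (f196116 IH) (Lpr_at (f242451 IH) (Lpn (LP (LK LD1_c18 LD2_c40 LD3_c33))))))))
theorem f293630 : Led Lsl_ft (LP (LK LD1_c18 LD2_c26 LD3_c47)) = (LP (LK LD1_c24 LD2_c58 LD3_c47)) :=
  Lgr Lrot75 (Lpr_bf (f269201 IH) (Lpe (f293616 IH) (Lpr_bf (f293628 IH) (Lpn (LP (LK LD1_c24 LD2_c58 LD3_c47))))))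
theorem f293636 : Led Lsl_ff (LP (LK LD1_c18 LD2_c26 LD3_c47)) = (LP (LK LD1_c24 LD2_c58 LD3_c47)) :=
  Lgr Lrot3 (Lpr_ft (f293630 IH) (Lpn (LP (LK LD1_c24 LD2_c58 LD3_c47))))
theorem f240381 : Led Lsl_ft (LP (LK LD1_c10 LD2_c16 LD3_c31)) = (LP (LK LD1_c5 LD2_c13 LD3_c6)) :=
  Lre_f IH (LK LD1_c10 LD2_c16 LD3_c31) (LK LD1_c5 LD2_c13 LD3_c6) Lrfl Lrfl
theorem f240382 : Led Lsl_bf (LP (LK LD1_c10 LD2_c16 LD3_c31)) = (LP (LK LD1_c15 LD2_c12 LD3_c31)) :=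
  Lgr Lrot61 (Lpr_ft (f240381 IH) (Lpr_bt (K17.f240373 IH) (Lpr_ft (K17.f240199 IH) (Lpn (LP (LK LD1_c15 LD2_c12 LD3_c31))))))
theorem f240390 : Led Lsl_ct (LP (LK LD1_c10 LD2_c16 LD3_c31)) = (LP (LK LD1_c18 LD2_c41 LD3_c18)) :=
  Lre_c IH (LK LD1_c10 LD2_c16 LD3_c31) (LK LD1_c18 LD2_c41 LD3_c18) Lrfl Lrfl
theorem f240391 : Led Lsl_bt (LP (LK LD1_c18 LD2_c41 LD3_c18)) = (LP (LK LD1_c28 LD2_c12 LD3_c44)) :=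
  Lre_b IH (LK LD1_c18 LD2_c41 LD3_c18) (LK LD1_c28 LD2_c12 LD3_c44) Lrfl Lrfl
theorem f240151 : Led Lsl_ft (LP (LK LD1_c18 LD2_c26 LD3_c51)) = (LP (LK LD1_c10 LD2_c7 LD3_c37)) :=
  Lre_f IH (LK LD1_c18 LD2_c26 LD3_c51) (LK LD1_c10 LD2_c7 LD3_c37) Lrfl Lrfl
theorem f240200 : Led Lsl_ct (LP (LK LD1_c15 LD2_c12 LD3_c31)) = (LP (LK LD1_c18 LD2_c26 LD3_c51)) :=
  Lgr Lrot40 (Lpe (K17.f240199 IH) (Lpr_cf (f240168 IH) (Lpe (f240151 IH) (Lpn (LP (LK LD1_c18 LD2_c26 LD3_c51))))))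
theorem f240208 : Led Lsl_cf (LP (LK LD1_c15 LD2_c12 LD3_c31)) = (LP (LK LD1_c18 LD2_c26 LD3_c51)) :=
  Lgr Lrot11 (Lpr_ct (f240200 IH) (Lpn (LP (LK LD1_c18 LD2_c26 LD3_c51))))
theorem f240210 : Led Lsl_bt (LP (LK LD1_c28 LD2_c1 LD3_c56)) = (LP (LK LD1_c18 LD2_c26 LD3_c51)) :=
  Lre_b IH (LK LD1_c28 LD2_c1 LD3_c56) (LK LD1_c18 LD2_c26 LD3_c51) Lrfl Lrfl
theorem f240392 : Led Lsl_ct (LP (LK LD1_c28 LD2_c12 LD3_c44)) = (LP (LK LD1_c28 LD2_c1 LD3_c56)) :=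
  Lgr Lrot83 (Lpe (f240391 IH) (Lpe (f240390 IH) (Lpr_bf (f240382 IH) (Lpr_cf (f240208 IH) (Lpe (f240210 IH) (Lpn (LP (LK LD1_c28 LD2_c1 LD3_c56))))))))
theorem f240395 : Led Lsl_cf (LP (LK LD1_c28 LD2_c12 LD3_c44)) = (LP (LK LD1_c28 LD2_c1 LD3_c56)) :=
  Lgr Lrot11 (Lpr_ct (f240392 IH) (Lpn (LP (LK LD1_c28 LD2_c1 LD3_c56))))
theorem f240403 : Led Lsl_ft (LP (LK LD1_c28 LD2_c12 LD3_c44)) = (LP (LK LD1_c18 LD2_c41 LD3_c14)) :=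
  Lre_f IH (LK LD1_c28 LD2_c12 LD3_c44) (LK LD1_c18 LD2_c41 LD3_c14) Lrfl Lrfl
theorem f240404 : Led Lsl_ft (LP (LK LD1_c18 LD2_c26 LD3_c49)) = (LP (LK LD1_c28 LD2_c1 LD3_c56)) :=
  Lre_f IH (LK LD1_c18 LD2_c26 LD3_c49) (LK LD1_c28 LD2_c1 LD3_c56) Lrfl Lrfl
theorem f240405 : Led Lsl_ct (LP (LK LD1_c18 LD2_c41 LD3_c14)) = (LP (LK LD1_c18 LD2_c26 LD3_c49)) :=
  Lgr Lrot40 (Lpe (f240403 IH) (Lpr_cf (f240395 IH) (Lpe (f240404 IH) (Lpn (LP (LK LD1_c18 LD2_c26 LD3_c49))))))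
theorem f240413 : Led Lsl_et (LP (LK LD1_c10 LD2_c16 LD3_c27)) = (LP (LK LD1_c18 LD2_c41 LD3_c14)) :=
  Lre_e IH (LK LD1_c10 LD2_c16 LD3_c27) (LK LD1_c18 LD2_c41 LD3_c14) Lrfl Lrfl
theorem f240414 : Led Lsl_et (LP (LK LD1_c18 LD2_c26 LD3_c49)) = (LP (LK LD1_c10 LD2_c7 LD3_c35)) :=
  Lre_e IH (LK LD1_c18 LD2_c26 LD3_c49) (LK LD1_c10 LD2_c7 LD3_c35) Lrfl Lrfl
theorem f240415 : Led Lsl_cf (LP (LK LD1_c10 LD2_c16 LD3_c27)) = (LP (LK LD1_c10 LD2_c7 LD3_c35)) :=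
  Lgr Lrot39 (Lpr_et (f240413 IH) (Lpr_ct (f240405 IH) (Lpr_et (f240414 IH) (Lpn (LP (LK LD1_c10 LD2_c7 LD3_c35))))))
theorem f240421 : Led Lsl_at (LP (LK LD1_c10 LD2_c16 LD3_c27)) = (LP (LK LD1_c18 LD2_c41 LD3_c12)) :=
  Lre_a IH (LK LD1_c10 LD2_c16 LD3_c27) (LK LD1_c18 LD2_c41 LD3_c12) Lrfl Lrfl
theorem f240423 : Led Lsl_ct (LP (LK LD1_c18 LD2_c41 LD3_c12)) = (LP (LK LD1_c18 LD2_c26 LD3_c47)) :=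
  Lgr Lrot111 (Lpe (f240421 IH) (Lpr_cf (f240415 IH) (Lpe (f240422 IH) (Lpn (LP (LK LD1_c18 LD2_c26 LD3_c47))))))
theorem f240431 : Led Lsl_cf (LP (LK LD1_c18 LD2_c41 LD3_c12)) = (LP (LK LD1_c18 LD2_c26 LD3_c47)) :=
  Lgr Lrot11 (Lpr_ct (f240423 IH) (Lpn (LP (LK LD1_c18 LD2_c26 LD3_c47))))
theorem f242921 : Led Lsl_ct (LP (LK LD1_c10 LD2_c1 LD3_c47)) = (LP (LK LD1_c5 LD2_c5 LD3_c21)) :=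
  Lre_c IH (LK LD1_c10 LD2_c1 LD3_c47) (LK LD1_c5 LD2_c5 LD3_c21) Lrfl Lrfl
theorem f242922 : Led Lsl_bt (LP (LK LD1_c18 LD2_c19 LD3_c43)) = (LP (LK LD1_c10 LD2_c1 LD3_c47)) :=
  Lre_b IH (LK LD1_c18 LD2_c19 LD3_c43) (LK LD1_c10 LD2_c1 LD3_c47) Lrfl Lrfl
theorem f237011 : Led Lsl_ct (LP (LK LD1_c4 LD2_c3 LD3_c59)) = (LP (LK LD1_c8 LD2_c8 LD3_c31)) :=
  Lre_c IH (LK LD1_c4 LD2_c3 LD3_c59) (LK LD1_c8 LD2_c8 LD3_c31) Lrfl Lrfl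
theorem f242923 : Led Lsl_cf (LP (LK LD1_c18 LD2_c19 LD3_c43)) = (LP (LK LD1_c15 LD2_c19 LD3_c52)) :=
  Lgr Lrot97 (Lpr_bt (f242922 IH) (Lpr_ct (f242921 IH) (Lpr_bt (K15.f242917 IH) (Lpr_ct (f237011 IH) (Lpr_bt (f237032 IH) (Lpn (LP (LK LD1_c15 LD2_c19 LD3_c52))))))))
theorem f242962 : Led Lsl_ct (LP (LK LD1_c18 LD2_c19 LD3_c43)) = (LP (LK LD1_c15 LD2_c19 LD3_c52)) :=
  Lgr Lrot59 (Lpr_cf (f242923 IH) (Lpn (LP (LK LD1_c15 LD2_c19 LD3_c52))))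
theorem f242970 : Led Lsl_et (LP (LK LD1_c10 LD2_c1 LD3_c45)) = (LP (LK LD1_c18 LD2_c19 LD3_c43)) :=
  Lre_e IH (LK LD1_c10 LD2_c1 LD3_c45) (LK LD1_c18 LD2_c19 LD3_c43) Lrfl Lrfl
theorem f242971 : Led Lsl_cf (LP (LK LD1_c10 LD2_c1 LD3_c45)) = (LP (LK LD1_c15 LD2_c9 LD3_c41)) :=
  Lgr Lrot39 (Lpr_et (f242970 IH) (Lpr_ct (f242962 IH) (Lpr_et (f237034 IH) (Lpn (LP (LK LD1_c15 LD2_c9 LD3_c41))))))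
theorem f242973 : Led Lsl_at (LP (LK LD1_c10 LD2_c1 LD3_c45)) = (LP (LK LD1_c18 LD2_c19 LD3_c41)) :=
  Lre_a IH (LK LD1_c10 LD2_c1 LD3_c45) (LK LD1_c18 LD2_c19 LD3_c41) Lrfl Lrfl
theorem f242974 : Led Lsl_ct (LP (LK LD1_c18 LD2_c19 LD3_c41)) = (LP (LK LD1_c24 LD2_c58 LD3_c47)) :=
  Lgr Lrot111 (Lpe (f242973 IH) (Lpr_cf (f242971 IH) (Lpe (f237046 IH) (Lpn (LP (LK LD1_c24 LD2_c58 LD3_c47))))))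
theorem f293640 : Led Lsl_ft (LP (LK LD1_c18 LD2_c41 LD3_c12)) = (LP (LK LD1_c18 LD2_c19 LD3_c41)) :=
  Lgr Lrot4 (Lpr_cf (f240431 IH) (Lpr_ff (f293636 IH) (Lpe (f242974 IH) (Lpn (LP (LK LD1_c18 LD2_c19 LD3_c41))))))
theorem f242979 : Led Lsl_at (LP (LK LD1_c18 LD2_c19 LD3_c41)) = (LP (LK LD1_c10 LD2_c1 LD3_c45)) :=
  Lre_a IH (LK LD1_c18 LD2_c19 LD3_c41) (LK LD1_c10 LD2_c1 LD3_c45) Lrfl Lrfl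
theorem f293653 : Led Lsl_ff (LP (LK LD1_c10 LD2_c16 LD3_c27)) = (LP (LK LD1_c10 LD2_c1 LD3_c45)) :=
  Lgr Lrot30 (Lpr_at (f240421 IH) (Lpr_ft (f293640 IH) (Lpr_at (f242979 IH) (Lpn (LP (LK LD1_c10 LD2_c1 LD3_c45))))))
theorem f293661 : Led Lsl_ft (LP (LK LD1_c10 LD2_c16 LD3_c27)) = (LP (LK LD1_c10 LD2_c1 LD3_c45)) :=
  Lgr Lrot48 (Lpr_ff (f293653 IH) (Lpn (LP (LK LD1_c10 LD2_c1 LD3_c45))))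
theorem f240429 : Led Lsl_dt (LP (LK LD1_c18 LD2_c41 LD3_c13)) = (LP (LK LD1_c10 LD2_c16 LD3_c27)) :=
  Lre_d IH (LK LD1_c18 LD2_c41 LD3_c13) (LK LD1_c10 LD2_c16 LD3_c27) Lrfl Lrfl
theorem f242978 : Led Lsl_dt (LP (LK LD1_c10 LD2_c1 LD3_c45)) = (LP (LK LD1_c18 LD2_c19 LD3_c42)) :=
  Lre_d IH (LK LD1_c10 LD2_c1 LD3_c45) (LK LD1_c18 LD2_c19 LD3_c42) Lrfl Lrfl
theorem f293668 : Led Lsl_ff (LP (LK LD1_c18 LD2_c41 LD3_c13)) = (LP (LK LD1_c18 LD2_c19 LD3_c42)) :=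
  Lgr Lrot19 (Lpr_dt (f240429 IH) (Lpr_ft (f293661 IH) (Lpr_dt (f242978 IH) (Lpn (LP (LK LD1_c18 LD2_c19 LD3_c42))))))
theorem f284723 : Led Lsl_bt (LP (LK LD1_c18 LD2_c41 LD3_c13)) = (LP (LK LD1_c10 LD2_c16 LD3_c28)) :=
  Lre_b IH (LK LD1_c18 LD2_c41 LD3_c13) (LK LD1_c10 LD2_c16 LD3_c28) Lrfl Lrfl
theorem f284759 : Led Lsl_bt (LP (LK LD1_c10 LD2_c1 LD3_c46)) = (LP (LK LD1_c18 LD2_c19 LD3_c42)) :=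
  Lre_b IH (LK LD1_c10 LD2_c1 LD3_c46) (LK LD1_c18 LD2_c19 LD3_c42) Lrfl Lrfl
theorem f293672 : Led Lsl_ft (LP (LK LD1_c10 LD2_c16 LD3_c28)) = (LP (LK LD1_c10 LD2_c1 LD3_c46)) :=
  Lgr Lrot75 (Lpe (f284723 IH) (Lpr_ff (f293668 IH) (Lpe (f284759 IH) (Lpn (LP (LK LD1_c10 LD2_c1 LD3_c46))))))
theorem f293676 : Led Lsl_af (LP (LK LD1_c10 LD2_c16 LD3_c26)) = (LP (LK LD1_c10 LD2_c1 LD3_c46)) :=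
  Lgr Lrot31 (Lpr_gf (K17.f253463 IH) (Lpe (K17.f274866 IH) (Lpr_ft (f293672 IH) (Lpn (LP (LK LD1_c10 LD2_c1 LD3_c46))))))
theorem f293682 : Led Lsl_at (LP (LK LD1_c5 LD2_c13 LD3_c4)) = (LP (LK LD1_c5 LD2_c5 LD3_c20)) :=
  Lgr Lrot51 (Lpe (K17.f238281 IH) (Lpr_af (f293676 IH) (Lpe (K17.f242997 IH) (Lpn (LP (LK LD1_c5 LD2_c5 LD3_c20))))))
theorem f190354 : Led Lsl_bt (LP (LK LD1_c2 LD2_c37 LD3_c14)) = (LP (LK LD1_c2 LD2_c28 LD3_c15)) :=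
  Lgr Lrot95 (Lpe (K14.f43929 IH) (Lpr_bf (K10.f190346 IH) (Lpe (K15.f3779 IH) (Lpn (LP (LK LD1_c2 LD2_c28 LD3_c15))))))
theorem f190361 : Led Lsl_bf (LP (LK LD1_c2 LD2_c37 LD3_c14)) = (LP (LK LD1_c2 LD2_c28 LD3_c15)) :=
  Lgr Lrot24 (Lpr_bt (f190354 IH) (Lpn (LP (LK LD1_c2 LD2_c28 LD3_c15))))
theorem f169841 : Led Lsl_bt (LP (LK LD1_c2 LD2_c29 LD3_c57)) = (LP (LK LD1_c5 LD2_c5 LD3_c17)) :=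
  Lre_b IH (LK LD1_c2 LD2_c29 LD3_c57) (LK LD1_c5 LD2_c5 LD3_c17) Lrfl Lrfl
theorem f252747 : Led Lsl_bt (LP (LK LD1_c2 LD2_c28 LD3_c21)) = (LP (LK LD1_c1 LD2_c11 LD3_c26)) :=
  Lre_b IH (LK LD1_c2 LD2_c28 LD3_c21) (LK LD1_c1 LD2_c11 LD3_c26) Lrfl Lrfl
theorem f252952 : Led Lsl_gt (LP (LK LD1_c5 LD2_c5 LD3_c18)) = (LP (LK LD1_c5 LD2_c1 LD3_c17)) :=
  Lgr Lrot65 (Lpe (K17.f169833 IH) (Lpr_bt (f169841 IH) (Lpr_gf (K14.f194158 IH) (Lpr_bf (f190361 IH) (Lpr_ct (K15.f184755 IH) (Lpr_gf (K15.f252948 IH) (Lpe (K15.f3689 IH) (Lpe (K15.f252950 IH) (Lpe (f252747 IH) (Lpr_ct (K14.f192974 IH) (Lpn (LP (LK LD1_c5 LD2_c1 LD3_c17)))))))))))))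
theorem f293696 : Led Lsl_ff (LP (LK LD1_c5 LD2_c13 LD3_c4)) = (LP (LK LD1_c5 LD2_c5 LD3_c18)) :=
  Lgr Lrot52 (Lpr_at (f293682 IH) (Lpe (K14.f253979 IH) (Lpe (f252952 IH) (Lpn (LP (LK LD1_c5 LD2_c5 LD3_c18))))))
theorem f293707 : Led Lsl_ft (LP (LK LD1_c5 LD2_c13 LD3_c4)) = (LP (LK LD1_c5 LD2_c5 LD3_c18)) :=
  Lgr Lrot48 (Lpr_ff (f293696 IH) (Lpn (LP (LK LD1_c5 LD2_c5 LD3_c18))))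
theorem f293713 : Led Lsl_ff (LP (LK LD1_c2 LD2_c33 LD3_c24)) = (LP (LK LD1_c2 LD2_c29 LD3_c57)) :=
  Lgr Lrot23 (Lpr_ct (K14.f165532 IH) (Lpr_ft (f293707 IH) (Lpr_ct (K17.f169842 IH) (Lpn (LP (LK LD1_c2 LD2_c29 LD3_c57))))))
theorem f288514 : Led Lsl_bf (LP (LK LD1_c5 LD2_c15 LD3_c30)) = (LP (LK LD1_c4 LD2_c1 LD3_c59)) :=
  Lgr Lrot24 (Lpr_bt (K17.f288512 IH) (Lpn (LP (LK LD1_c4 LD2_c1 LD3_c59))))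
theorem f288533 : Led Lsl_af (LP (LK LD1_c2 LD2_c29 LD3_c58)) = (LP (LK LD1_c2 LD2_c33 LD3_c24)) :=
  Lgr Lrot36 (Lpr_bt (K15.f242910 IH) (Lpe (K16.f269254 IH) (Lpe (f288514 IH) (Lpr_at (K17.f288529 IH) (Lpr_bt (K17.f165526 IH) (Lpn (LP (LK LD1_c2 LD2_c33 LD3_c24))))))))
theorem f251562 : Led Lsl_dt (LP (LK LD1_c2 LD2_c33 LD3_c25)) = (LP (LK LD1_c1 LD2_c15 LD3_c45)) :=
  Lgr Lrot105 (Lpr_gf (K14.f251560 IH) (Lpe (K14.f44057 IH) (Lpe (K10.f44054 IH) (Lpe (K1.f46212 IH) (Lpr_gt (K10.f46241 IH) (Lpr_dt (K10.f46242 IH) (Lpr_gt (K10.f192136 IH) (Lpr_dt (K15.f192139 IH) (Lpe (K14.f194149 IH) (Lpn (LP (LK LD1_c1 LD2_c15 LD3_c45))))))))))))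
theorem f292134 : Led Lsl_ff (LP (LK LD1_c2 LD2_c33 LD3_c25)) = (LP (LK LD1_c2 LD2_c29 LD3_c58)) :=
  Lgr Lrot19 (Lpr_dt (f251562 IH) (Lpr_ft (K17.f292132 IH) (Lpe (K14.f253981 IH) (Lpn (LP (LK LD1_c2 LD2_c29 LD3_c58))))))
theorem f293726 : Led Lsl_at (LP (LK LD1_c2 LD2_c33 LD3_c25)) = (LP (LK LD1_c2 LD2_c29 LD3_c57)) :=
  Lgr Lrot66 (Lpr_ff (f292134 IH) (Lpr_af (f288533 IH) (Lpr_ff (f293713 IH) (Lpn (LP (LK LD1_c2 LD2_c29 LD3_c57))))))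
theorem f293730 : Led Lsl_af (LP (LK LD1_c5 LD2_c13 LD3_c6)) = (LP (LK LD1_c5 LD2_c5 LD3_c19)) :=
  Lgr Lrot50 (Lpr_et (K15.f183915 IH) (Lpr_at (f293726 IH) (Lpr_et (K14.f230800 IH) (Lpn (LP (LK LD1_c5 LD2_c5 LD3_c19))))))
theorem f240441 : Led Lsl_ft (LP (LK LD1_c5 LD2_c13 LD3_c6)) = (LP (LK LD1_c10 LD2_c16 LD3_c31)) :=
  Lre_f IH (LK LD1_c5 LD2_c13 LD3_c6) (LK LD1_c10 LD2_c16 LD3_c31) Lrfl Lrfl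
theorem f230818 : Led Lsl_ft (LP (LK LD1_c10 LD2_c1 LD3_c44)) = (LP (LK LD1_c5 LD2_c5 LD3_c19)) :=
  Lre_f IH (LK LD1_c10 LD2_c1 LD3_c44) (LK LD1_c5 LD2_c5 LD3_c19) Lrfl Lrfl
theorem f293740 : Led Lsl_at (LP (LK LD1_c10 LD2_c16 LD3_c31)) = (LP (LK LD1_c10 LD2_c1 LD3_c44)) :=
  Lgr Lrot66 (Lpe (f240441 IH) (Lpr_af (f293730 IH) (Lpe (f230818 IH) (Lpn (LP (LK LD1_c10 LD2_c1 LD3_c44))))))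
theorem f265339 : Led Lsl_ft (LP (LK LD1_c5 LD2_c21 LD3_c43)) = (LP (LK LD1_c2 LD2_c37 LD3_c26)) :=
  Lre_f IH (LK LD1_c5 LD2_c21 LD3_c43) (LK LD1_c2 LD2_c37 LD3_c26) Lrfl Lrfl
theorem f265340 : Led Lsl_bt (LP (LK LD1_c8 LD2_c38 LD3_c52)) = (LP (LK LD1_c5 LD2_c21 LD3_c43)) :=
  Lgr Lrot35 (Lpe (f265338 IH) (Lpr_bf (K17.f265330 IH) (Lpe (f265339 IH) (Lpn (LP (LK LD1_c5 LD2_c21 LD3_c43))))))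
theorem f240388 : Led Lsl_bt (LP (LK LD1_c10 LD2_c16 LD3_c31)) = (LP (LK LD1_c15 LD2_c12 LD3_c31)) :=
  Lgr Lrot127 (Lpr_bf (f240382 IH) (Lpn (LP (LK LD1_c15 LD2_c12 LD3_c31))))
theorem f265353 : Led Lsl_dt (LP (LK LD1_c5 LD2_c21 LD3_c43)) = (LP (LK LD1_c10 LD2_c16 LD3_c31)) :=
  Lgr Lrot79 (Lpe (f265340 IH) (Lpr_df (K17.f265350 IH) (Lpe (f240388 IH) (Lpn (LP (LK LD1_c10 LD2_c16 LD3_c31))))))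
theorem f228677 : Led Lsl_et (LP (LK LD1_c1 LD2_c17 LD3_c0)) = (LP (LK LD1_c0 LD2_c35 LD3_c37)) :=
  Lre_e IH (LK LD1_c1 LD2_c17 LD3_c0) (LK LD1_c0 LD2_c35 LD3_c37) Lrfl Lrfl
theorem f228679 : Led Lsl_bf (LP (LK LD1_c1 LD2_c17 LD3_c0)) = (LP (LK LD1_c2 LD2_c37 LD3_c59)) :=
  Lgr Lrot96 (Lpr_et (f228677 IH) (Lpr_bt (K12.f228671 IH) (Lpr_et (K16.f228678 IH) (Lpn (LP (LK LD1_c2 LD2_c37 LD3_c59))))))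
theorem f268062 : Led Lsl_bf (LP (LK LD1_c5 LD2_c21 LD3_c42)) = (LP (LK LD1_c2 LD2_c39 LD3_c36)) :=
  Lgr Lrot93 (Lpr_dt (K15.f268056 IH) (Lpr_bt (K15.f185466 IH) (Lpe (K16.f267861 IH) (Lpn (LP (LK LD1_c2 LD2_c39 LD3_c36))))))
theorem f276195 : Led Lsl_ff (LP (LK LD1_c2 LD2_c37 LD3_c59)) = (LP (LK LD1_c5 LD2_c21 LD3_c42)) :=
  Lgr Lrot25 (Lpe (f228679 IH) (Lpr_ft (K16.f276193 IH) (Lpe (f268062 IH) (Lpn (LP (LK LD1_c5 LD2_c21 LD3_c42))))))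
theorem f248089 : Led Lsl_gt (LP (LK LD1_c10 LD2_c28 LD3_c41)) = (LP (LK LD1_c5 LD2_c19 LD3_c26)) :=
  Lre_g IH (LK LD1_c10 LD2_c28 LD3_c41) (LK LD1_c5 LD2_c19 LD3_c26) Lrfl Lrfl
theorem f276943 : Led Lsl_gt (LP (LK LD1_c5 LD2_c21 LD3_c42)) = (LP (LK LD1_c10 LD2_c28 LD3_c41)) :=
  Lgr Lrot5 (Lpe (f276195 IH) (Lpr_at (K16.f276935 IH) (Lpe (f248089 IH) (Lpn (LP (LK LD1_c10 LD2_c28 LD3_c41))))))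
theorem f265347 : Led Lsl_ft (LP (LK LD1_c2 LD2_c37 LD3_c26)) = (LP (LK LD1_c5 LD2_c21 LD3_c43)) :=
  Lre_f IH (LK LD1_c2 LD2_c37 LD3_c26) (LK LD1_c5 LD2_c21 LD3_c43) Lrfl Lrfl
theorem f276945 : Led Lsl_at (LP (LK LD1_c5 LD2_c21 LD3_c43)) = (LP (LK LD1_c10 LD2_c28 LD3_c41)) :=
  Lgr Lrot26 (Lpe (f265347 IH) (Lpr_gt (K15.f258151 IH) (Lpr_gt (f276943 IH) (Lpn (LP (LK LD1_c10 LD2_c28 LD3_c41))))))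
theorem f276947 : Led Lsl_af (LP (LK LD1_c5 LD2_c21 LD3_c43)) = (LP (LK LD1_c10 LD2_c28 LD3_c41)) :=
  Lgr Lrot0 (Lpr_at (f276945 IH) (Lpn (LP (LK LD1_c10 LD2_c28 LD3_c41))))
theorem f293750 : Led Lsl_df (LP (LK LD1_c10 LD2_c28 LD3_c41)) = (LP (LK LD1_c10 LD2_c1 LD3_c44)) :=
  Lgr Lrot18 (Lpe (f276947 IH) (Lpr_dt (f265353 IH) (Lpr_at (f293740 IH) (Lpn (LP (LK LD1_c10 LD2_c1 LD3_c44))))))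
theorem f44267 : Led Lsl_et (LP (LK LD1_c2 LD2_c36 LD3_c23)) = (LP (LK LD1_c1 LD2_c15 LD3_c12)) :=
  Lre_e IH (LK LD1_c2 LD2_c36 LD3_c23) (LK LD1_c1 LD2_c15 LD3_c12) Lrfl Lrfl
theorem f182056 : Led Lsl_dt (LP (LK LD1_c1 LD2_c12 LD3_c11)) = (LP (LK LD1_c0 LD2_c33 LD3_c24)) :=
  Lre_d IH (LK LD1_c1 LD2_c12 LD3_c11) (LK LD1_c0 LD2_c33 LD3_c24) Lrfl Lrfl
theorem f184623 : Led Lsl_et (LP (LK LD1_c1 LD2_c12 LD3_c11)) = (LP (LK LD1_c2 LD2_c30 LD3_c23)) :=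
  Lre_e IH (LK LD1_c1 LD2_c12 LD3_c11) (LK LD1_c2 LD2_c30 LD3_c23) Lrfl Lrfl
theorem f184624 : Led Lsl_gt (LP (LK LD1_c2 LD2_c30 LD3_c23)) = (LP (LK LD1_c5 LD2_c6 LD3_c13)) :=
  Lre_g IH (LK LD1_c2 LD2_c30 LD3_c23) (LK LD1_c5 LD2_c6 LD3_c13) Lrfl Lrfl
theorem f293760 : Led Lsl_ef (LP (LK LD1_c5 LD2_c6 LD3_c13)) = (LP (LK LD1_c10 LD2_c1 LD3_c44)) :=
  Lgr Lrot17 (Lpe (f184624 IH) (Lpe (f184623 IH) (Lpr_dt (f182056 IH) (Lpr_gf (K10.f184616 IH) (Lpe (K14.f28290 IH) (Lpe (K14.f248083 IH) (Lpe (f44267 IH) (Lpr_dt (K15.f44268 IH) (Lpe (f248089 IH) (Lpr_df (f293750 IH) (Lpn (LP (LK LD1_c10 LD2_c1 LD3_c44)))))))))))))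
theorem f293767 : Led Lsl_et (LP (LK LD1_c5 LD2_c6 LD3_c13)) = (LP (LK LD1_c10 LD2_c1 LD3_c44)) :=
  Lgr Lrot87 (Lpr_ef (f293760 IH) (Lpn (LP (LK LD1_c10 LD2_c1 LD3_c44))))
theorem f167525 : Led Lsl_et (LP (LK LD1_c5 LD2_c5 LD3_c19)) = (LP (LK LD1_c2 LD2_c29 LD3_c57)) :=
  Lre_e IH (LK LD1_c5 LD2_c5 LD3_c19) (LK LD1_c2 LD2_c29 LD3_c57) Lrfl Lrfl
theorem f253460 : Led Lsl_dt (LP (LK LD1_c4 LD2_c28 LD3_c13)) = (LP (LK LD1_c2 LD2_c11 LD3_c15)) :=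
  Lre_d IH (LK LD1_c4 LD2_c28 LD3_c13) (LK LD1_c2 LD2_c11 LD3_c15) Lrfl Lrfl
theorem f253461 : Led Lsl_et (LP (LK LD1_c2 LD2_c33 LD3_c24)) = (LP (LK LD1_c4 LD2_c28 LD3_c13)) :=
  Lgr Lrot71 (Lpr_df (K14.f253456 IH) (Lpr_ef (K14.f247417 IH) (Lpr_df (K17.f253284 IH) (Lpe (K17.f41559 IH) (Lpe (f253460 IH) (Lpn (LP (LK LD1_c4 LD2_c28 LD3_c13))))))))
theorem f293774 : Led Lsl_ff (LP (LK LD1_c5 LD2_c6 LD3_c13)) = (LP (LK LD1_c4 LD2_c28 LD3_c13)) :=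
  Lgr Lrot72 (Lpr_et (f293767 IH) (Lpr_ft (f230818 IH) (Lpr_et (f167525 IH) (Lpe (f293713 IH) (Lpr_et (f253461 IH) (Lpn (LP (LK LD1_c4 LD2_c28 LD3_c13))))))))
theorem f249325 : Led Lsl_et (LP (LK LD1_c5 LD2_c19 LD3_c52)) = (LP (LK LD1_c2 LD2_c36 LD3_c37)) :=
  Lre_e IH (LK LD1_c5 LD2_c19 LD3_c52) (LK LD1_c2 LD2_c36 LD3_c37) Lrfl Lrfl
theorem f249269 : Led Lsl_dt (LP (LK LD1_c5 LD2_c19 LD3_c52)) = (LP (LK LD1_c2 LD2_c36 LD3_c35)) :=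
  Lre_d IH (LK LD1_c5 LD2_c19 LD3_c52) (LK LD1_c2 LD2_c36 LD3_c35) Lrfl Lrfl
theorem f8556 : Led Lsl_et (LP (LK LD1_c0 LD2_c39 LD3_c11)) = (LP (LK LD1_c0 LD2_c28 LD3_c33)) :=
  Lgr Lrot74 (Lpe (K10.f8554 IH) (Lpr_ef (K0.f8543 IH) (Lpe (K9.f8555 IH) (Lpn (LP (LK LD1_c0 LD2_c28 LD3_c33))))))
theorem f41560 : Led Lsl_dt (LP (LK LD1_c2 LD2_c11 LD3_c15)) = (LP (LK LD1_c4 LD2_c28 LD3_c13)) :=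
  Lre_d IH (LK LD1_c2 LD2_c11 LD3_c15) (LK LD1_c4 LD2_c28 LD3_c13) Lrfl Lrfl
theorem f256260 : Led Lsl_gf (LP (LK LD1_c2 LD2_c36 LD3_c35)) = (LP (LK LD1_c4 LD2_c28 LD3_c13)) :=
  Lgr Lrot145 (Lpe (f249269 IH) (Lpr_et (f249325 IH) (Lpr_gt (K14.f256251 IH) (Lpr_dt (K15.f183870 IH) (Lpr_gt (K9.f42119 IH) (Lpe (K10.f42118 IH) (Lpr_et (f8556 IH) (Lpr_gt (K14.f235210 IH) (Lpe (K17.f41559 IH) (Lpr_dt (f41560 IH) (Lpn (LP (LK LD1_c4 LD2_c28 LD3_c13)))))))))))))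
theorem f249213 : Led Lsl_gt (LP (LK LD1_c2 LD2_c36 LD3_c35)) = (LP (LK LD1_c5 LD2_c19 LD3_c51)) :=
  Lre_g IH (LK LD1_c2 LD2_c36 LD3_c35) (LK LD1_c5 LD2_c19 LD3_c51) Lrfl Lrfl
theorem f293785 : Led Lsl_at (LP (LK LD1_c5 LD2_c6 LD3_c13)) = (LP (LK LD1_c5 LD2_c19 LD3_c51)) :=
  Lgr Lrot26 (Lpr_ff (f293774 IH) (Lpe (f256260 IH) (Lpr_gt (f249213 IH) (Lpn (LP (LK LD1_c5 LD2_c19 LD3_c51))))))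
theorem f265891 : Led Lsl_ct (LP (LK LD1_c10 LD2_c29 LD3_c34)) = (LP (LK LD1_c5 LD2_c19 LD3_c51)) :=
  Lre_c IH (LK LD1_c10 LD2_c29 LD3_c34) (LK LD1_c5 LD2_c19 LD3_c51) Lrfl Lrfl
theorem f265888 : Led Lsl_dt (LP (LK LD1_c19 LD2_c1 LD3_c3)) = (LP (LK LD1_c10 LD2_c29 LD3_c34)) :=
  Lre_d IH (LK LD1_c19 LD2_c1 LD3_c3) (LK LD1_c10 LD2_c29 LD3_c34) Lrfl Lrfl
theorem f292821 : Led Lsl_ct (LP (LK LD1_c2 LD2_c11 LD3_c15)) = (LP (LK LD1_c4 LD2_c28 LD3_c10)) :=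
  Lre_c IH (LK LD1_c2 LD2_c11 LD3_c15) (LK LD1_c4 LD2_c28 LD3_c10) Lrfl Lrfl
theorem f292809 : Led Lsl_dt (LP (LK LD1_c4 LD2_c28 LD3_c10)) = (LP (LK LD1_c8 LD2_c54 LD3_c27)) :=
  Lre_d IH (LK LD1_c4 LD2_c28 LD3_c10) (LK LD1_c8 LD2_c54 LD3_c27) Lrfl Lrfl
theorem f292822 : Led Lsl_ct (LP (LK LD1_c8 LD2_c54 LD3_c27)) = (LP (LK LD1_c16 LD2_c39 LD3_c53)) :=
  Lre_c IH (LK LD1_c8 LD2_c54 LD3_c27) (LK LD1_c16 LD2_c39 LD3_c53) Lrfl Lrfl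
theorem f293787 : Led Lsl_dt (LP (LK LD1_c16 LD2_c39 LD3_c53)) = (LP (LK LD1_c26 LD2_c38 LD3_c17)) :=
  Lre_d IH (LK LD1_c16 LD2_c39 LD3_c53) (LK LD1_c26 LD2_c38 LD3_c17) Lrfl Lrfl
theorem f293788 : Led Lsl_cf (LP (LK LD1_c19 LD2_c1 LD3_c3)) = (LP (LK LD1_c26 LD2_c38 LD3_c17)) :=
  Lgr Lrot161 (Lpr_dt (f265888 IH) (Lpr_ct (f265891 IH) (Lpe (f293785 IH) (Lpr_ff (f293774 IH) (Lpr_dt (f253460 IH) (Lpr_ct (f292821 IH) (Lpr_dt (f292809 IH) (Lpr_ct (f292822 IH) (Lpr_dt (f293787 IH) (Lpn (LP (LK LD1_c26 LD2_c38 LD3_c17))))))))))))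
theorem f276510 : Led Lsl_ft (LP (LK LD1_c4 LD2_c28 LD3_c10)) = (LP (LK LD1_c8 LD2_c54 LD3_c28)) :=
  Lre_f IH (LK LD1_c4 LD2_c28 LD3_c10) (LK LD1_c8 LD2_c54 LD3_c28) Lrfl Lrfl
theorem f292192 : Led Lsl_af (LP (LK LD1_c15 LD2_c19 LD3_c18)) = (LP (LK LD1_c8 LD2_c54 LD3_c28)) :=
  Lgr Lrot50 (Lpr_et (K17.f292189 IH) (Lpr_at (K16.f265429 IH) (Lpr_et (K16.f276480 IH) (Lpn (LP (LK LD1_c8 LD2_c54 LD3_c28))))))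
theorem f269306 : Led Lsl_ct (LP (LK LD1_c8 LD2_c8 LD3_c15)) = (LP (LK LD1_c15 LD2_c19 LD3_c18)) :=
  Lre_c IH (LK LD1_c8 LD2_c8 LD3_c15) (LK LD1_c15 LD2_c19 LD3_c18) Lrfl Lrfl
theorem f293793 : Led Lsl_dt (LP (LK LD1_c5 LD2_c19 LD3_c51)) = (LP (LK LD1_c8 LD2_c8 LD3_c15)) :=
  Lgr Lrot120 (Lpe (f265891 IH) (Lpe (f265888 IH) (Lpr_cf (f293788 IH) (Lpe (f293787 IH) (Lpe (f292822 IH) (Lpe (f292809 IH) (Lpr_ft (f276510 IH) (Lpe (f292192 IH) (Lpe (f269306 IH) (Lpn (LP (LK LD1_c8 LD2_c8 LD3_c15))))))))))))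
theorem f242938 : Led Lsl_ft (LP (LK LD1_c8 LD2_c8 LD3_c15)) = (LP (LK LD1_c4 LD2_c3 LD3_c54)) :=
  Lre_f IH (LK LD1_c8 LD2_c8 LD3_c15) (LK LD1_c4 LD2_c3 LD3_c54) Lrfl Lrfl
theorem f293800 : Led Lsl_ff (LP (LK LD1_c5 LD2_c19 LD3_c51)) = (LP (LK LD1_c5 LD2_c5 LD3_c21)) :=
  Lgr Lrot19 (Lpr_dt (f293793 IH) (Lpr_ft (f242938 IH) (Lpe (K15.f242926 IH) (Lpn (LP (LK LD1_c5 LD2_c5 LD3_c21))))))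
theorem f220806 : Led Lsl_et (LP (LK LD1_c4 LD2_c3 LD3_c54)) = (LP (LK LD1_c1 LD2_c58 LD3_c56)) :=
  Lre_e IH (LK LD1_c4 LD2_c3 LD3_c54) (LK LD1_c1 LD2_c58 LD3_c56) Lrfl Lrfl
theorem f184642 : Led Lsl_et (LP (LK LD1_c5 LD2_c6 LD3_c14)) = (LP (LK LD1_c2 LD2_c30 LD3_c24)) :=
  Lre_e IH (LK LD1_c5 LD2_c6 LD3_c14) (LK LD1_c2 LD2_c30 LD3_c24) Lrfl Lrfl
theorem f184643 : Led Lsl_dt (LP (LK LD1_c5 LD2_c6 LD3_c14)) = (LP (LK LD1_c2 LD2_c30 LD3_c23)) :=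
  Lre_d IH (LK LD1_c5 LD2_c6 LD3_c14) (LK LD1_c2 LD2_c30 LD3_c23) Lrfl Lrfl
theorem f264897 : Led Lsl_gt (LP (LK LD1_c5 LD2_c5 LD3_c21)) = (LP (LK LD1_c2 LD2_c30 LD3_c23)) :=
  Lgr Lrot112 (Lpr_df (K15.f242926 IH) (Lpr_et (f220806 IH) (Lpr_gf (K12.f220767 IH) (Lpr_ef (K1.f41710 IH) (Lpr_dt (K1.f41751 IH) (Lpe (K9.f41752 IH) (Lpe (K15.f41753 IH) (Lpr_gf (K15.f264876 IH) (Lpe (f184642 IH) (Lpr_dt (f184643 IH) (Lpn (LP (LK LD1_c2 LD2_c30 LD3_c23)))))))))))))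
theorem f293810 : Led Lsl_at (LP (LK LD1_c5 LD2_c19 LD3_c51)) = (LP (LK LD1_c5 LD2_c6 LD3_c13)) :=
  Lgr Lrot26 (Lpr_ff (f293800 IH) (Lpr_gt (f264897 IH) (Lpr_gt (f184624 IH) (Lpn (LP (LK LD1_c5 LD2_c6 LD3_c13))))))
theorem f293783 : Led Lsl_ft (LP (LK LD1_c5 LD2_c6 LD3_c13)) = (LP (LK LD1_c4 LD2_c28 LD3_c13)) :=
  Lgr Lrot48 (Lpr_ff (f293774 IH) (Lpn (LP (LK LD1_c4 LD2_c28 LD3_c13))))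
theorem f293818 : Led Lsl_af (LP (LK LD1_c5 LD2_c5 LD3_c21)) = (LP (LK LD1_c4 LD2_c28 LD3_c13)) :=
  Lgr Lrot45 (Lpe (f293800 IH) (Lpr_at (f293810 IH) (Lpr_ft (f293783 IH) (Lpn (LP (LK LD1_c4 LD2_c28 LD3_c13))))))
theorem f242928 : Led Lsl_dt (LP (LK LD1_c18 LD2_c19 LD3_c46)) = (LP (LK LD1_c10 LD2_c1 LD3_c47)) :=
  Lre_d IH (LK LD1_c18 LD2_c19 LD3_c46) (LK LD1_c10 LD2_c1 LD3_c47) Lrfl Lrfl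
theorem f242948 : Led Lsl_ct (LP (LK LD1_c27 LD2_c58 LD3_c31)) = (LP (LK LD1_c18 LD2_c19 LD3_c46)) :=
  Lre_c IH (LK LD1_c27 LD2_c58 LD3_c31) (LK LD1_c18 LD2_c19 LD3_c46) Lrfl Lrfl
theorem f265410 : Led Lsl_ft (LP (LK LD1_c4 LD2_c28 LD3_c14)) = (LP (LK LD1_c2 LD2_c11 LD3_c15)) :=
  Lre_f IH (LK LD1_c4 LD2_c28 LD3_c14) (LK LD1_c2 LD2_c11 LD3_c15) Lrfl Lrfl
theorem f293781 : Led Lsl_dt (LP (LK LD1_c5 LD2_c6 LD3_c13)) = (LP (LK LD1_c4 LD2_c28 LD3_c14)) :=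
  Lgr Lrot60 (Lpr_ff (f293774 IH) (Lpe (f41560 IH) (Lpe (f265410 IH) (Lpn (LP (LK LD1_c4 LD2_c28 LD3_c14))))))
theorem f276506 : Led Lsl_ct (LP (LK LD1_c4 LD2_c28 LD3_c14)) = (LP (LK LD1_c8 LD2_c54 LD3_c28)) :=
  Lre_c IH (LK LD1_c4 LD2_c28 LD3_c14) (LK LD1_c8 LD2_c54 LD3_c28) Lrfl Lrfl
theorem f276499 : Led Lsl_dt (LP (LK LD1_c8 LD2_c54 LD3_c28)) = (LP (LK LD1_c16 LD2_c39 LD3_c54)) :=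
  Lre_d IH (LK LD1_c8 LD2_c54 LD3_c28) (LK LD1_c16 LD2_c39 LD3_c54) Lrfl Lrfl
theorem f293826 : Led Lsl_ct (LP (LK LD1_c16 LD2_c39 LD3_c54)) = (LP (LK LD1_c26 LD2_c38 LD3_c18)) :=
  Lre_c IH (LK LD1_c16 LD2_c39 LD3_c54) (LK LD1_c26 LD2_c38 LD3_c18) Lrfl Lrfl
theorem f293827 : Led Lsl_df (LP (LK LD1_c27 LD2_c58 LD3_c31)) = (LP (LK LD1_c26 LD2_c38 LD3_c18)) :=
  Lgr Lrot13 (Lpr_ct (f242948 IH) (Lpr_dt (f242928 IH) (Lpr_ct (f242921 IH) (Lpr_af (f293818 IH) (Lpe (f293783 IH) (Lpr_dt (f293781 IH) (Lpr_ct (f276506 IH) (Lpr_dt (f276499 IH) (Lpr_ct (f293826 IH) (Lpn (LP (LK LD1_c26 LD2_c38 LD3_c18))))))))))))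
theorem f242935 : Led Lsl_dt (LP (LK LD1_c5 LD2_c5 LD3_c21)) = (LP (LK LD1_c4 LD2_c3 LD3_c54)) :=
  Lgr Lrot42 (Lpr_df (K15.f242926 IH) (Lpn (LP (LK LD1_c4 LD2_c3 LD3_c54))))
theorem f242949 : Led Lsl_ct (LP (LK LD1_c4 LD2_c3 LD3_c54)) = (LP (LK LD1_c8 LD2_c8 LD3_c13)) :=
  Lre_c IH (LK LD1_c4 LD2_c3 LD3_c54) (LK LD1_c8 LD2_c8 LD3_c13) Lrfl Lrfl
theorem f293834 : Led Lsl_af (LP (LK LD1_c8 LD2_c8 LD3_c13)) = (LP (LK LD1_c4 LD2_c28 LD3_c10)) :=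
  Lgr Lrot109 (Lpe (f242949 IH) (Lpe (f242935 IH) (Lpe (f242921 IH) (Lpe (f242928 IH) (Lpe (f242948 IH) (Lpr_df (f293827 IH) (Lpe (f293826 IH) (Lpe (f276499 IH) (Lpr_ft (K16.f276479 IH) (Lpn (LP (LK LD1_c4 LD2_c28 LD3_c10))))))))))))
theorem f293839 : Led Lsl_at (LP (LK LD1_c8 LD2_c8 LD3_c13)) = (LP (LK LD1_c4 LD2_c28 LD3_c10)) :=
  Lgr Lrot100 (Lpr_af (f293834 IH) (Lpn (LP (LK LD1_c4 LD2_c28 LD3_c10))))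
theorem f292820 : Led Lsl_ct (LP (LK LD1_c4 LD2_c28 LD3_c10)) = (LP (LK LD1_c2 LD2_c11 LD3_c15)) :=
  Lre_c IH (LK LD1_c4 LD2_c28 LD3_c10) (LK LD1_c2 LD2_c11 LD3_c15) Lrfl Lrfl
theorem f293951 : Led Lsl_af (LP (LK LD1_c4 LD2_c3 LD3_c54)) = (LP (LK LD1_c2 LD2_c11 LD3_c15)) :=
  Lgr Lrot68 (Lpr_ct (f242949 IH) (Lpr_at (f293839 IH) (Lpr_ct (f292820 IH) (Lpn (LP (LK LD1_c2 LD2_c11 LD3_c15))))))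
theorem f293962 : Led Lsl_at (LP (LK LD1_c8 LD2_c8 LD3_c15)) = (LP (LK LD1_c4 LD2_c28 LD3_c14)) :=
  Lgr Lrot66 (Lpe (K17.f242940 IH) (Lpr_af (f293951 IH) (Lpe (f265410 IH) (Lpn (LP (LK LD1_c4 LD2_c28 LD3_c14))))))
theorem f293966 : Led Lsl_df (LP (LK LD1_c5 LD2_c6 LD3_c13)) = (LP (LK LD1_c4 LD2_c28 LD3_c14)) :=
  Lgr Lrot18 (Lpr_at (f293785 IH) (Lpr_dt (f293793 IH) (Lpr_at (f293962 IH) (Lpn (LP (LK LD1_c4 LD2_c28 LD3_c14))))))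
theorem f198610 : Led Lsl_ct (LP (LK LD1_c5 LD2_c6 LD3_c13)) = (LP (LK LD1_c10 LD2_c3 LD3_c28)) :=
  Lre_c IH (LK LD1_c5 LD2_c6 LD3_c13) (LK LD1_c10 LD2_c3 LD3_c28) Lrfl Lrfl
theorem f293970 : Led Lsl_dt (LP (LK LD1_c10 LD2_c3 LD3_c28)) = (LP (LK LD1_c18 LD2_c22 LD3_c7)) :=
  Lre_d IH (LK LD1_c10 LD2_c3 LD3_c28) (LK LD1_c18 LD2_c22 LD3_c7) Lrfl Lrfl
theorem f293971 : Led Lsl_ct (LP (LK LD1_c18 LD2_c22 LD3_c7)) = (LP (LK LD1_c28 LD2_c0 LD3_c19)) :=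
  Lre_c IH (LK LD1_c18 LD2_c22 LD3_c7) (LK LD1_c28 LD2_c0 LD3_c19) Lrfl Lrfl
theorem f276496 : Led Lsl_ct (LP (LK LD1_c8 LD2_c54 LD3_c28)) = (LP (LK LD1_c4 LD2_c28 LD3_c14)) :=
  Lre_c IH (LK LD1_c8 LD2_c54 LD3_c28) (LK LD1_c4 LD2_c28 LD3_c14) Lrfl Lrfl
theorem f276507 : Led Lsl_dt (LP (LK LD1_c16 LD2_c39 LD3_c54)) = (LP (LK LD1_c8 LD2_c54 LD3_c28)) :=
  Lre_d IH (LK LD1_c16 LD2_c39 LD3_c54) (LK LD1_c8 LD2_c54 LD3_c28) Lrfl Lrfl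
theorem f293870 : Led Lsl_ct (LP (LK LD1_c26 LD2_c38 LD3_c18)) = (LP (LK LD1_c16 LD2_c39 LD3_c54)) :=
  Lre_c IH (LK LD1_c26 LD2_c38 LD3_c18) (LK LD1_c16 LD2_c39 LD3_c54) Lrfl Lrfl
theorem f293829 : Led Lsl_dt (LP (LK LD1_c27 LD2_c58 LD3_c31)) = (LP (LK LD1_c26 LD2_c38 LD3_c18)) :=
  Lgr Lrot42 (Lpr_df (f293827 IH) (Lpn (LP (LK LD1_c26 LD2_c38 LD3_c18))))
theorem f293795 : Led Lsl_ft (LP (LK LD1_c16 LD2_c39 LD3_c53)) = (LP (LK LD1_c26 LD2_c38 LD3_c18)) :=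
  Lre_f IH (LK LD1_c16 LD2_c39 LD3_c53) (LK LD1_c26 LD2_c38 LD3_c18) Lrfl Lrfl
theorem f293831 : Led Lsl_dt (LP (LK LD1_c26 LD2_c38 LD3_c17)) = (LP (LK LD1_c16 LD2_c39 LD3_c53)) :=
  Lre_d IH (LK LD1_c26 LD2_c38 LD3_c17) (LK LD1_c16 LD2_c39 LD3_c53) Lrfl Lrfl
theorem f293832 : Led Lsl_ft (LP (LK LD1_c27 LD2_c58 LD3_c31)) = (LP (LK LD1_c26 LD2_c38 LD3_c17)) :=
  Lgr Lrot54 (Lpr_df (f293827 IH) (Lpe (f293795 IH) (Lpe (f293831 IH) (Lpn (LP (LK LD1_c26 LD2_c38 LD3_c17))))))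
theorem f293975 : Led Lsl_af (LP (LK LD1_c28 LD2_c0 LD3_c19)) = (LP (LK LD1_c26 LD2_c38 LD3_c17)) :=
  Lgr Lrot109 (Lpe (f293971 IH) (Lpe (f293970 IH) (Lpe (f198610 IH) (Lpr_df (f293966 IH) (Lpe (f276496 IH) (Lpe (f276507 IH) (Lpe (f293870 IH) (Lpe (f293829 IH) (Lpr_ft (f293832 IH) (Lpn (LP (LK LD1_c26 LD2_c38 LD3_c17))))))))))))
theorem f293813 : Led Lsl_ct (LP (LK LD1_c28 LD2_c0 LD3_c19)) = (LP (LK LD1_c18 LD2_c22 LD3_c7)) :=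
  Lre_c IH (LK LD1_c28 LD2_c0 LD3_c19) (LK LD1_c18 LD2_c22 LD3_c7) Lrfl Lrfl
theorem f293790 : Led Lsl_ct (LP (LK LD1_c19 LD2_c1 LD3_c3)) = (LP (LK LD1_c26 LD2_c38 LD3_c17)) :=
  Lgr Lrot59 (Lpr_cf (f293788 IH) (Lpn (LP (LK LD1_c26 LD2_c38 LD3_c17))))
theorem f293980 : Led Lsl_at (LP (LK LD1_c18 LD2_c22 LD3_c7)) = (LP (LK LD1_c19 LD2_c1 LD3_c3)) :=
  Lgr Lrot107 (Lpe (f293813 IH) (Lpr_af (f293975 IH) (Lpe (f293790 IH) (Lpn (LP (LK LD1_c19 LD2_c1 LD3_c3))))))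
theorem f275638 : Led Lsl_ct (LP (LK LD1_c8 LD2_c54 LD3_c34)) = (LP (LK LD1_c4 LD2_c28 LD3_c13)) :=
  Lre_c IH (LK LD1_c8 LD2_c54 LD3_c34) (LK LD1_c4 LD2_c28 LD3_c13) Lrfl Lrfl
theorem f275639 : Led Lsl_dt (LP (LK LD1_c16 LD2_c40 LD3_c2)) = (LP (LK LD1_c8 LD2_c54 LD3_c34)) :=
  Lre_d IH (LK LD1_c16 LD2_c40 LD3_c2) (LK LD1_c8 LD2_c54 LD3_c34) Lrfl Lrfl
theorem f293987 : Led Lsl_ff (LP (LK LD1_c18 LD2_c22 LD3_c7)) = (LP (LK LD1_c16 LD2_c40 LD3_c2)) :=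
  Lgr Lrot103 (Lpr_at (f293980 IH) (Lpr_cf (f293788 IH) (Lpe (f293787 IH) (Lpe (f292822 IH) (Lpe (f292809 IH) (Lpe (f292821 IH) (Lpe (f253460 IH) (Lpe (f275638 IH) (Lpe (f275639 IH) (Lpn (LP (LK LD1_c16 LD2_c40 LD3_c2))))))))))))
theorem f293994 : Led Lsl_ft (LP (LK LD1_c18 LD2_c22 LD3_c7)) = (LP (LK LD1_c16 LD2_c40 LD3_c2)) :=
  Lgr Lrot48 (Lpr_ff (f293987 IH) (Lpn (LP (LK LD1_c16 LD2_c40 LD3_c2))))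
theorem f293812 : Led Lsl_dt (LP (LK LD1_c18 LD2_c22 LD3_c7)) = (LP (LK LD1_c10 LD2_c3 LD3_c28)) :=
  Lre_d IH (LK LD1_c18 LD2_c22 LD3_c7) (LK LD1_c10 LD2_c3 LD3_c28) Lrfl Lrfl
theorem f293771 : Led Lsl_ct (LP (LK LD1_c10 LD2_c3 LD3_c28)) = (LP (LK LD1_c5 LD2_c6 LD3_c13)) :=
  Lre_c IH (LK LD1_c10 LD2_c3 LD3_c28) (LK LD1_c5 LD2_c6 LD3_c13) Lrfl Lrfl
theorem f294002 : Led Lsl_af (LP (LK LD1_c18 LD2_c19 LD3_c46)) = (LP (LK LD1_c16 LD2_c40 LD3_c2)) :=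
  Lgr Lrot109 (Lpe (f242948 IH) (Lpr_df (f293827 IH) (Lpe (f293826 IH) (Lpe (f276499 IH) (Lpe (f276506 IH) (Lpe (f293781 IH) (Lpe (f293771 IH) (Lpe (f293812 IH) (Lpr_ft (f293994 IH) (Lpn (LP (LK LD1_c16 LD2_c40 LD3_c2))))))))))))
theorem f293982 : Led Lsl_af (LP (LK LD1_c18 LD2_c22 LD3_c7)) = (LP (LK LD1_c19 LD2_c1 LD3_c3)) :=
  Lgr Lrot0 (Lpr_at (f293980 IH) (Lpn (LP (LK LD1_c19 LD2_c1 LD3_c3))))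
theorem f294011 : Led Lsl_ft (LP (LK LD1_c18 LD2_c19 LD3_c46)) = (LP (LK LD1_c19 LD2_c1 LD3_c3)) :=
  Lgr Lrot101 (Lpr_af (f294002 IH) (Lpe (f293994 IH) (Lpr_af (f293982 IH) (Lpn (LP (LK LD1_c19 LD2_c1 LD3_c3))))))
theorem f294017 : Led Lsl_ff (LP (LK LD1_c18 LD2_c19 LD3_c46)) = (LP (LK LD1_c19 LD2_c1 LD3_c3)) :=
  Lgr Lrot3 (Lpr_ft (f294011 IH) (Lpn (LP (LK LD1_c19 LD2_c1 LD3_c3))))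
theorem f265887 : Led Lsl_dt (LP (LK LD1_c10 LD2_c29 LD3_c34)) = (LP (LK LD1_c19 LD2_c1 LD3_c3)) :=
  Lre_d IH (LK LD1_c10 LD2_c29 LD3_c34) (LK LD1_c19 LD2_c1 LD3_c3) Lrfl Lrfl
theorem f294019 : Led Lsl_ft (LP (LK LD1_c10 LD2_c1 LD3_c47)) = (LP (LK LD1_c10 LD2_c29 LD3_c34)) :=
  Lgr Lrot54 (Lpe (f242928 IH) (Lpr_ff (f294017 IH) (Lpe (f265887 IH) (Lpn (LP (LK LD1_c10 LD2_c29 LD3_c34))))))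
theorem f293695 : Led Lsl_et (LP (LK LD1_c5 LD2_c5 LD3_c20)) = (LP (LK LD1_c10 LD2_c1 LD3_c47)) :=
  Lre_e IH (LK LD1_c5 LD2_c5 LD3_c20) (LK LD1_c10 LD2_c1 LD3_c47) Lrfl Lrfl
theorem f230688 : Led Lsl_bt (LP (LK LD1_c10 LD2_c16 LD3_c27)) = (LP (LK LD1_c5 LD2_c13 LD3_c5)) :=
  Lre_b IH (LK LD1_c10 LD2_c16 LD3_c27) (LK LD1_c5 LD2_c13 LD3_c5) Lrfl Lrfl
theorem f242913 : Led Lsl_bt (LP (LK LD1_c5 LD2_c5 LD3_c20)) = (LP (LK LD1_c10 LD2_c1 LD3_c45)) :=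
  Lre_b IH (LK LD1_c5 LD2_c5 LD3_c20) (LK LD1_c10 LD2_c1 LD3_c45) Lrfl Lrfl
theorem f293657 : Led Lsl_ft (LP (LK LD1_c5 LD2_c13 LD3_c5)) = (LP (LK LD1_c5 LD2_c5 LD3_c20)) :=
  Lgr Lrot75 (Lpe (f230688 IH) (Lpr_ff (f293653 IH) (Lpe (f242913 IH) (Lpn (LP (LK LD1_c5 LD2_c5 LD3_c20))))))
theorem f230690 : Led Lsl_et (LP (LK LD1_c10 LD2_c16 LD3_c29)) = (LP (LK LD1_c5 LD2_c13 LD3_c5)) :=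
  Lre_e IH (LK LD1_c10 LD2_c16 LD3_c29) (LK LD1_c5 LD2_c13 LD3_c5) Lrfl Lrfl
theorem f294025 : Led Lsl_ft (LP (LK LD1_c18 LD2_c41 LD3_c18)) = (LP (LK LD1_c10 LD2_c16 LD3_c29)) :=
  Lre_f IH (LK LD1_c18 LD2_c41 LD3_c18) (LK LD1_c10 LD2_c16 LD3_c29) Lrfl Lrfl
theorem f294026 : Led Lsl_ef (LP (LK LD1_c18 LD2_c41 LD3_c18)) = (LP (LK LD1_c10 LD2_c29 LD3_c34)) :=
  Lgr Lrot21 (Lpr_ft (f294025 IH) (Lpr_et (f230690 IH) (Lpr_ft (f293657 IH) (Lpr_et (f293695 IH) (Lpr_ft (f294019 IH) (Lpn (LP (LK LD1_c10 LD2_c29 LD3_c34))))))))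
theorem f293814 : Led Lsl_af (LP (LK LD1_c10 LD2_c29 LD3_c34)) = (LP (LK LD1_c10 LD2_c3 LD3_c28)) :=
  Lgr Lrot68 (Lpr_ct (f265891 IH) (Lpr_at (f293810 IH) (Lpr_ct (f198610 IH) (Lpn (LP (LK LD1_c10 LD2_c3 LD3_c28))))))
theorem f169889 : Led Lsl_ct (LP (LK LD1_c10 LD2_c1 LD3_c44)) = (LP (LK LD1_c18 LD2_c19 LD3_c36)) :=
  Lre_c IH (LK LD1_c10 LD2_c1 LD3_c44) (LK LD1_c18 LD2_c19 LD3_c36) Lrfl Lrfl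
theorem f293772 : Led Lsl_ef (LP (LK LD1_c10 LD2_c3 LD3_c28)) = (LP (LK LD1_c18 LD2_c19 LD3_c36)) :=
  Lgr Lrot28 (Lpr_ct (f293771 IH) (Lpr_et (f293767 IH) (Lpr_ct (f169889 IH) (Lpn (LP (LK LD1_c18 LD2_c19 LD3_c36))))))
theorem f294028 : Led Lsl_at (LP (LK LD1_c18 LD2_c41 LD3_c18)) = (LP (LK LD1_c18 LD2_c19 LD3_c36)) :=
  Lgr Lrot80 (Lpr_ef (f294026 IH) (Lpr_af (f293814 IH) (Lpr_ef (f293772 IH) (Lpn (LP (LK LD1_c18 LD2_c19 LD3_c36))))))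
theorem f294037 : Led Lsl_ft (LP (LK LD1_c10 LD2_c16 LD3_c29)) = (LP (LK LD1_c18 LD2_c41 LD3_c18)) :=
  Lre_f IH (LK LD1_c10 LD2_c16 LD3_c29) (LK LD1_c18 LD2_c41 LD3_c18) Lrfl Lrfl
theorem f293706 : Led Lsl_ft (LP (LK LD1_c18 LD2_c19 LD3_c36)) = (LP (LK LD1_c10 LD2_c1 LD3_c41)) :=
  Lre_f IH (LK LD1_c18 LD2_c19 LD3_c36) (LK LD1_c10 LD2_c1 LD3_c41) Lrfl Lrfl
theorem f294044 : Led Lsl_af (LP (LK LD1_c10 LD2_c16 LD3_c29)) = (LP (LK LD1_c10 LD2_c1 LD3_c41)) :=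
  Lgr Lrot45 (Lpr_ft (f294037 IH) (Lpr_at (f294028 IH) (Lpr_ft (f293706 IH) (Lpn (LP (LK LD1_c10 LD2_c1 LD3_c41))))))
theorem f240411 : Led Lsl_bt (LP (LK LD1_c10 LD2_c16 LD3_c29)) = (LP (LK LD1_c18 LD2_c41 LD3_c14)) :=
  Lre_b IH (LK LD1_c10 LD2_c16 LD3_c29) (LK LD1_c18 LD2_c41 LD3_c14) Lrfl Lrfl
theorem f240440 : Led Lsl_at (LP (LK LD1_c18 LD2_c41 LD3_c14)) = (LP (LK LD1_c28 LD2_c12 LD3_c41)) :=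
  Lre_a IH (LK LD1_c18 LD2_c41 LD3_c14) (LK LD1_c28 LD2_c12 LD3_c41) Lrfl Lrfl
theorem f169904 : Led Lsl_bt (LP (LK LD1_c18 LD2_c19 LD3_c32)) = (LP (LK LD1_c10 LD2_c1 LD3_c41)) :=
  Lre_b IH (LK LD1_c18 LD2_c19 LD3_c32) (LK LD1_c10 LD2_c1 LD3_c41) Lrfl Lrfl
theorem f169914 : Led Lsl_at (LP (LK LD1_c27 LD2_c58 LD3_c16)) = (LP (LK LD1_c18 LD2_c19 LD3_c32)) :=
  Lre_a IH (LK LD1_c27 LD2_c58 LD3_c16) (LK LD1_c18 LD2_c19 LD3_c32) Lrfl Lrfl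
theorem f294048 : Led Lsl_bt (LP (LK LD1_c28 LD2_c12 LD3_c41)) = (LP (LK LD1_c27 LD2_c58 LD3_c16)) :=
  Lgr Lrot62 (Lpe (f240440 IH) (Lpe (f240411 IH) (Lpr_af (f294044 IH) (Lpe (f169904 IH) (Lpe (f169914 IH) (Lpn (LP (LK LD1_c27 LD2_c58 LD3_c16))))))))
theorem f240436 : Led Lsl_et (LP (LK LD1_c18 LD2_c41 LD3_c12)) = (LP (LK LD1_c28 LD2_c12 LD3_c41)) :=
  Lre_e IH (LK LD1_c18 LD2_c41 LD3_c12) (LK LD1_c28 LD2_c12 LD3_c41) Lrfl Lrfl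
theorem f169938 : Led Lsl_et (LP (LK LD1_c27 LD2_c58 LD3_c16)) = (LP (LK LD1_c18 LD2_c19 LD3_c31)) :=
  Lre_e IH (LK LD1_c27 LD2_c58 LD3_c16) (LK LD1_c18 LD2_c19 LD3_c31) Lrfl Lrfl
theorem f294064 : Led Lsl_bf (LP (LK LD1_c18 LD2_c41 LD3_c12)) = (LP (LK LD1_c18 LD2_c19 LD3_c31)) :=
  Lgr Lrot96 (Lpr_et (f240436 IH) (Lpr_bt (f294048 IH) (Lpr_et (f169938 IH) (Lpn (LP (LK LD1_c18 LD2_c19 LD3_c31))))))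
theorem f165539 : Led Lsl_bt (LP (LK LD1_c10 LD2_c16 LD3_c25)) = (LP (LK LD1_c5 LD2_c13 LD3_c4)) :=
  Lre_b IH (LK LD1_c10 LD2_c16 LD3_c25) (LK LD1_c5 LD2_c13 LD3_c4) Lrfl Lrfl
theorem f165559 : Led Lsl_at (LP (LK LD1_c18 LD2_c41 LD3_c8)) = (LP (LK LD1_c10 LD2_c16 LD3_c25)) :=
  Lre_a IH (LK LD1_c18 LD2_c41 LD3_c8) (LK LD1_c10 LD2_c16 LD3_c25) Lrfl Lrfl
theorem f293693 : Led Lsl_bf (LP (LK LD1_c18 LD2_c41 LD3_c8)) = (LP (LK LD1_c18 LD2_c19 LD3_c41)) :=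
  Lgr Lrot81 (Lpr_at (f165559 IH) (Lpr_bt (f165539 IH) (Lpr_at (f293682 IH) (Lpr_bt (f242913 IH) (Lpr_at (f242973 IH) (Lpn (LP (LK LD1_c18 LD2_c19 LD3_c41))))))))
theorem f294070 : Led Lsl_ft (LP (LK LD1_c18 LD2_c41 LD3_c8)) = (LP (LK LD1_c18 LD2_c19 LD3_c31)) :=
  Lgr Lrot75 (Lpr_bf (f293693 IH) (Lpe (f293640 IH) (Lpr_bf (f294064 IH) (Lpn (LP (LK LD1_c18 LD2_c19 LD3_c31))))))
theorem f294074 : Led Lsl_ff (LP (LK LD1_c18 LD2_c41 LD3_c8)) = (LP (LK LD1_c18 LD2_c19 LD3_c31)) :=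
  Lgr Lrot3 (Lpr_ft (f294070 IH) (Lpn (LP (LK LD1_c18 LD2_c19 LD3_c31))))
theorem f165542 : Led Lsl_ct (LP (LK LD1_c5 LD2_c9 LD3_c39)) = (LP (LK LD1_c5 LD2_c13 LD3_c3)) :=
  Lgr Lrot59 (Lpr_cf (K17.f165527 IH) (Lpn (LP (LK LD1_c5 LD2_c13 LD3_c3))))
theorem f165550 : Led Lsl_bt (LP (LK LD1_c10 LD2_c9 LD3_c61)) = (LP (LK LD1_c5 LD2_c9 LD3_c39)) :=
  Lre_b IH (LK LD1_c10 LD2_c9 LD3_c61) (LK LD1_c5 LD2_c9 LD3_c39) Lrfl Lrfl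
theorem f165551 : Led Lsl_bt (LP (LK LD1_c5 LD2_c13 LD3_c4)) = (LP (LK LD1_c10 LD2_c16 LD3_c25)) :=
  Lre_b IH (LK LD1_c5 LD2_c13 LD3_c4) (LK LD1_c10 LD2_c16 LD3_c25) Lrfl Lrfl
theorem f165552 : Led Lsl_cf (LP (LK LD1_c10 LD2_c9 LD3_c61)) = (LP (LK LD1_c10 LD2_c16 LD3_c25)) :=
  Lgr Lrot97 (Lpr_bt (f165550 IH) (Lpr_ct (f165542 IH) (Lpr_bt (K17.f165526 IH) (Lpr_ct (K14.f165532 IH) (Lpr_bt (f165551 IH) (Lpn (LP (LK LD1_c10 LD2_c16 LD3_c25))))))))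
theorem f165558 : Led Lsl_at (LP (LK LD1_c10 LD2_c9 LD3_c61)) = (LP (LK LD1_c18 LD2_c31 LD3_c14)) :=
  Lre_a IH (LK LD1_c10 LD2_c9 LD3_c61) (LK LD1_c18 LD2_c31 LD3_c14) Lrfl Lrfl
theorem f165560 : Led Lsl_ct (LP (LK LD1_c18 LD2_c31 LD3_c14)) = (LP (LK LD1_c18 LD2_c41 LD3_c8)) :=
  Lgr Lrot111 (Lpe (f165558 IH) (Lpr_cf (f165552 IH) (Lpe (f165559 IH) (Lpn (LP (LK LD1_c18 LD2_c41 LD3_c8))))))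
theorem f165568 : Led Lsl_cf (LP (LK LD1_c18 LD2_c31 LD3_c14)) = (LP (LK LD1_c18 LD2_c41 LD3_c8)) :=
  Lgr Lrot11 (Lpr_ct (f165560 IH) (Lpn (LP (LK LD1_c18 LD2_c41 LD3_c8))))
theorem f169850 : Led Lsl_et (LP (LK LD1_c10 LD2_c1 LD3_c38)) = (LP (LK LD1_c5 LD2_c5 LD3_c17)) :=
  Lre_e IH (LK LD1_c10 LD2_c1 LD3_c38) (LK LD1_c5 LD2_c5 LD3_c17) Lrfl Lrfl
theorem f169851 : Led Lsl_et (LP (LK LD1_c5 LD2_c2 LD3_c56)) = (LP (LK LD1_c9 LD2_c56 LD3_c42)) :=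
  Lre_e IH (LK LD1_c5 LD2_c2 LD3_c56) (LK LD1_c9 LD2_c56 LD3_c42) Lrfl Lrfl
theorem f169852 : Led Lsl_cf (LP (LK LD1_c10 LD2_c1 LD3_c38)) = (LP (LK LD1_c9 LD2_c56 LD3_c42)) :=
  Lgr Lrot39 (Lpr_et (f169850 IH) (Lpr_ct (K14.f169838 IH) (Lpr_et (f169851 IH) (Lpn (LP (LK LD1_c9 LD2_c56 LD3_c42))))))
theorem f169869 : Led Lsl_ft (LP (LK LD1_c10 LD2_c1 LD3_c38)) = (LP (LK LD1_c18 LD2_c19 LD3_c29)) :=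
  Lre_f IH (LK LD1_c10 LD2_c1 LD3_c38) (LK LD1_c18 LD2_c19 LD3_c29) Lrfl Lrfl
theorem f169870 : Led Lsl_ft (LP (LK LD1_c18 LD2_c11 LD3_c61)) = (LP (LK LD1_c9 LD2_c56 LD3_c42)) :=
  Lre_f IH (LK LD1_c18 LD2_c11 LD3_c61) (LK LD1_c9 LD2_c56 LD3_c42) Lrfl Lrfl
theorem f169871 : Led Lsl_ct (LP (LK LD1_c18 LD2_c19 LD3_c29)) = (LP (LK LD1_c18 LD2_c11 LD3_c61)) :=
  Lgr Lrot40 (Lpe (f169869 IH) (Lpr_cf (f169852 IH) (Lpe (f169870 IH) (Lpn (LP (LK LD1_c18 LD2_c11 LD3_c61))))))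
theorem f169886 : Led Lsl_cf (LP (LK LD1_c18 LD2_c19 LD3_c29)) = (LP (LK LD1_c18 LD2_c11 LD3_c61)) :=
  Lgr Lrot11 (Lpr_ct (f169871 IH) (Lpn (LP (LK LD1_c18 LD2_c11 LD3_c61))))
theorem f169888 : Led Lsl_bt (LP (LK LD1_c18 LD2_c19 LD3_c29)) = (LP (LK LD1_c10 LD2_c1 LD3_c44)) :=
  Lre_b IH (LK LD1_c18 LD2_c19 LD3_c29) (LK LD1_c10 LD2_c1 LD3_c44) Lrfl Lrfl
theorem f169890 : Led Lsl_bt (LP (LK LD1_c18 LD2_c19 LD3_c36)) = (LP (LK LD1_c27 LD2_c58 LD3_c20)) :=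
  Lre_b IH (LK LD1_c18 LD2_c19 LD3_c36) (LK LD1_c27 LD2_c58 LD3_c20) Lrfl Lrfl
theorem f169891 : Led Lsl_bt (LP (LK LD1_c27 LD2_c52 LD3_c46)) = (LP (LK LD1_c18 LD2_c11 LD3_c61)) :=
  Lre_b IH (LK LD1_c27 LD2_c52 LD3_c46) (LK LD1_c18 LD2_c11 LD3_c61) Lrfl Lrfl
theorem f169892 : Led Lsl_ct (LP (LK LD1_c27 LD2_c58 LD3_c20)) = (LP (LK LD1_c27 LD2_c52 LD3_c46)) :=
  Lgr Lrot83 (Lpe (f169890 IH) (Lpe (f169889 IH) (Lpe (f169888 IH) (Lpr_cf (f169886 IH) (Lpe (f169891 IH) (Lpn (LP (LK LD1_c27 LD2_c52 LD3_c46))))))))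
theorem f169896 : Led Lsl_ft (LP (LK LD1_c18 LD2_c19 LD3_c32)) = (LP (LK LD1_c27 LD2_c58 LD3_c20)) :=
  Lre_f IH (LK LD1_c18 LD2_c19 LD3_c32) (LK LD1_c27 LD2_c58 LD3_c20) Lrfl Lrfl
theorem f169897 : Led Lsl_ft (LP (LK LD1_c27 LD2_c52 LD3_c46)) = (LP (LK LD1_c18 LD2_c11 LD3_c58)) :=
  Lre_f IH (LK LD1_c27 LD2_c52 LD3_c46) (LK LD1_c18 LD2_c11 LD3_c58) Lrfl Lrfl
theorem f169898 : Led Lsl_cf (LP (LK LD1_c18 LD2_c19 LD3_c32)) = (LP (LK LD1_c18 LD2_c11 LD3_c58)) :=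
  Lgr Lrot108 (Lpr_ft (f169896 IH) (Lpr_ct (f169892 IH) (Lpr_ft (f169897 IH) (Lpn (LP (LK LD1_c18 LD2_c11 LD3_c58))))))
theorem f169910 : Led Lsl_et (LP (LK LD1_c18 LD2_c19 LD3_c32)) = (LP (LK LD1_c10 LD2_c1 LD3_c39)) :=
  Lre_e IH (LK LD1_c18 LD2_c19 LD3_c32) (LK LD1_c10 LD2_c1 LD3_c39) Lrfl Lrfl
theorem f169911 : Led Lsl_et (LP (LK LD1_c9 LD2_c56 LD3_c40)) = (LP (LK LD1_c18 LD2_c11 LD3_c58)) :=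
  Lre_e IH (LK LD1_c9 LD2_c56 LD3_c40) (LK LD1_c18 LD2_c11 LD3_c58) Lrfl Lrfl
theorem f169912 : Led Lsl_ct (LP (LK LD1_c10 LD2_c1 LD3_c39)) = (LP (LK LD1_c9 LD2_c56 LD3_c40)) :=
  Lgr Lrot15 (Lpe (f169910 IH) (Lpr_cf (f169898 IH) (Lpe (f169911 IH) (Lpn (LP (LK LD1_c9 LD2_c56 LD3_c40))))))
theorem f169922 : Led Lsl_at (LP (LK LD1_c18 LD2_c19 LD3_c31)) = (LP (LK LD1_c10 LD2_c1 LD3_c39)) :=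
  Lre_a IH (LK LD1_c18 LD2_c19 LD3_c31) (LK LD1_c10 LD2_c1 LD3_c39) Lrfl Lrfl
theorem f169923 : Led Lsl_at (LP (LK LD1_c9 LD2_c56 LD3_c40)) = (LP (LK LD1_c18 LD2_c11 LD3_c56)) :=
  Lre_a IH (LK LD1_c9 LD2_c56 LD3_c40) (LK LD1_c18 LD2_c11 LD3_c56) Lrfl Lrfl
theorem f169924 : Led Lsl_cf (LP (LK LD1_c18 LD2_c19 LD3_c31)) = (LP (LK LD1_c18 LD2_c11 LD3_c56)) :=
  Lgr Lrot1 (Lpr_at (f169922 IH) (Lpr_ct (f169912 IH) (Lpr_at (f169923 IH) (Lpn (LP (LK LD1_c18 LD2_c11 LD3_c56))))))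
theorem f294080 : Led Lsl_ft (LP (LK LD1_c18 LD2_c31 LD3_c14)) = (LP (LK LD1_c18 LD2_c11 LD3_c56)) :=
  Lgr Lrot4 (Lpr_cf (f165568 IH) (Lpr_ff (f294074 IH) (Lpr_cf (f169924 IH) (Lpn (LP (LK LD1_c18 LD2_c11 LD3_c56))))))
theorem f169929 : Led Lsl_at (LP (LK LD1_c18 LD2_c11 LD3_c56)) = (LP (LK LD1_c9 LD2_c56 LD3_c40)) :=
  Lre_a IH (LK LD1_c18 LD2_c11 LD3_c56) (LK LD1_c9 LD2_c56 LD3_c40) Lrfl Lrfl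
theorem f294084 : Led Lsl_ff (LP (LK LD1_c10 LD2_c9 LD3_c61)) = (LP (LK LD1_c9 LD2_c56 LD3_c40)) :=
  Lgr Lrot30 (Lpr_at (f165558 IH) (Lpr_ft (f294080 IH) (Lpr_at (f169929 IH) (Lpn (LP (LK LD1_c9 LD2_c56 LD3_c40))))))
theorem f294091 : Led Lsl_ft (LP (LK LD1_c10 LD2_c9 LD3_c61)) = (LP (LK LD1_c9 LD2_c56 LD3_c40)) :=
  Lgr Lrot48 (Lpr_ff (f294084 IH) (Lpn (LP (LK LD1_c9 LD2_c56 LD3_c40))))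
theorem f288418 : Led Lsl_bt (LP (LK LD1_c9 LD2_c58 LD3_c26)) = (LP (LK LD1_c18 LD2_c14 LD3_c47)) :=
  Lre_b IH (LK LD1_c9 LD2_c58 LD3_c26) (LK LD1_c18 LD2_c14 LD3_c47) Lrfl Lrfl
theorem f288419 : Led Lsl_df (LP (LK LD1_c10 LD2_c9 LD3_c61)) = (LP (LK LD1_c18 LD2_c14 LD3_c47)) :=
  Lgr Lrot12 (Lpr_bt (f165550 IH) (Lpr_dt (K17.f288406 IH) (Lpr_bt (f288418 IH) (Lpn (LP (LK LD1_c18 LD2_c14 LD3_c47))))))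
theorem f169928 : Led Lsl_dt (LP (LK LD1_c9 LD2_c56 LD3_c40)) = (LP (LK LD1_c18 LD2_c11 LD3_c57)) :=
  Lre_d IH (LK LD1_c9 LD2_c56 LD3_c40) (LK LD1_c18 LD2_c11 LD3_c57) Lrfl Lrfl
theorem f294097 : Led Lsl_ff (LP (LK LD1_c18 LD2_c14 LD3_c47)) = (LP (LK LD1_c18 LD2_c11 LD3_c57)) :=
  Lgr Lrot19 (Lpe (f288419 IH) (Lpr_ft (f294091 IH) (Lpr_dt (f169928 IH) (Lpn (LP (LK LD1_c18 LD2_c11 LD3_c57))))))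
theorem f294105 : Led Lsl_ft (LP (LK LD1_c18 LD2_c14 LD3_c47)) = (LP (LK LD1_c18 LD2_c11 LD3_c57)) :=
  Lgr Lrot48 (Lpr_ff (f294097 IH) (Lpn (LP (LK LD1_c18 LD2_c11 LD3_c57))))
theorem f283874 : Led Lsl_bt (LP (LK LD1_c18 LD2_c11 LD3_c57)) = (LP (LK LD1_c9 LD2_c56 LD3_c41)) :=
  Lre_b IH (LK LD1_c18 LD2_c11 LD3_c57) (LK LD1_c9 LD2_c56 LD3_c41) Lrfl Lrfl
theorem f294107 : Led Lsl_ff (LP (LK LD1_c9 LD2_c58 LD3_c26)) = (LP (LK LD1_c9 LD2_c56 LD3_c41)) :=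
  Lgr Lrot25 (Lpr_bt (f288418 IH) (Lpr_ft (f294105 IH) (Lpr_bt (f283874 IH) (Lpn (LP (LK LD1_c9 LD2_c56 LD3_c41))))))
theorem f44633 : Led Lsl_ct (LP (LK LD1_c2 LD2_c37 LD3_c23)) = (LP (LK LD1_c1 LD2_c15 LD3_c42)) :=
  Lre_c IH (LK LD1_c2 LD2_c37 LD3_c23) (LK LD1_c1 LD2_c15 LD3_c42) Lrfl Lrfl
theorem f275194 : Led Lsl_gf (LP (LK LD1_c9 LD2_c56 LD3_c38)) = (LP (LK LD1_c5 LD2_c10 LD3_c32)) :=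
  Lgr Lrot104 (Lpr_ct (K17.f261329 IH) (Lpe (K17.f44602 IH) (Lpe (K14.f44601 IH) (Lpe (K14.f44596 IH) (Lpe (f44633 IH) (Lpe (K16.f215816 IH) (Lpe (K16.f215886 IH) (Lpr_gt (K16.f275185 IH) (Lpe (K14.f253403 IH) (Lpn (LP (LK LD1_c5 LD2_c10 LD3_c32))))))))))))
theorem f294115 : Led Lsl_at (LP (LK LD1_c9 LD2_c58 LD3_c26)) = (LP (LK LD1_c9 LD2_c56 LD3_c38)) :=
  Lgr Lrot26 (Lpr_ff (f294107 IH) (Lpe (K17.f283880 IH) (Lpe (f275194 IH) (Lpn (LP (LK LD1_c9 LD2_c56 LD3_c38))))))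
theorem f190632 : Led Lsl_et (LP (LK LD1_c18 LD2_c14 LD3_c48)) = (LP (LK LD1_c9 LD2_c58 LD3_c26)) :=
  Lre_e IH (LK LD1_c18 LD2_c14 LD3_c48) (LK LD1_c9 LD2_c58 LD3_c26) Lrfl Lrfl
theorem f249556 : Led Lsl_et (LP (LK LD1_c9 LD2_c56 LD3_c38)) = (LP (LK LD1_c18 LD2_c11 LD3_c52)) :=
  Lre_e IH (LK LD1_c9 LD2_c56 LD3_c38) (LK LD1_c18 LD2_c11 LD3_c52) Lrfl Lrfl
theorem f294123 : Led Lsl_af (LP (LK LD1_c18 LD2_c14 LD3_c48)) = (LP (LK LD1_c18 LD2_c11 LD3_c52)) :=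
  Lgr Lrot50 (Lpr_et (f190632 IH) (Lpr_at (f294115 IH) (Lpr_et (f249556 IH) (Lpn (LP (LK LD1_c18 LD2_c11 LD3_c52))))))
theorem f190633 : Led Lsl_dt (LP (LK LD1_c18 LD2_c14 LD3_c48)) = (LP (LK LD1_c27 LD2_c55 LD3_c9)) :=
  Lre_d IH (LK LD1_c18 LD2_c14 LD3_c48) (LK LD1_c27 LD2_c55 LD3_c9) Lrfl Lrfl
theorem f294128 : Led Lsl_dt (LP (LK LD1_c27 LD2_c52 LD3_c36)) = (LP (LK LD1_c18 LD2_c11 LD3_c52)) :=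
  Lre_d IH (LK LD1_c27 LD2_c52 LD3_c36) (LK LD1_c18 LD2_c11 LD3_c52) Lrfl Lrfl
theorem f294129 : Led Lsl_at (LP (LK LD1_c27 LD2_c55 LD3_c9)) = (LP (LK LD1_c27 LD2_c52 LD3_c36)) :=
  Lgr Lrot51 (Lpe (f190633 IH) (Lpr_af (f294123 IH) (Lpe (f294128 IH) (Lpn (LP (LK LD1_c27 LD2_c52 LD3_c36))))))
theorem f294131 : Led Lsl_af (LP (LK LD1_c27 LD2_c55 LD3_c9)) = (LP (LK LD1_c27 LD2_c52 LD3_c36)) :=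
  Lgr Lrot0 (Lpr_at (f294129 IH) (Lpn (LP (LK LD1_c27 LD2_c52 LD3_c36))))
theorem f165554 : Led Lsl_et (LP (LK LD1_c10 LD2_c10 LD3_c0)) = (LP (LK LD1_c5 LD2_c9 LD3_c39)) :=
  Lre_e IH (LK LD1_c10 LD2_c10 LD3_c0) (LK LD1_c5 LD2_c9 LD3_c39) Lrfl Lrfl
theorem f288425 : Led Lsl_dt (LP (LK LD1_c18 LD2_c31 LD3_c16)) = (LP (LK LD1_c10 LD2_c10 LD3_c0)) :=
  Lre_d IH (LK LD1_c18 LD2_c31 LD3_c16) (LK LD1_c10 LD2_c10 LD3_c0) Lrfl Lrfl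
theorem f288426 : Led Lsl_et (LP (LK LD1_c9 LD2_c58 LD3_c26)) = (LP (LK LD1_c18 LD2_c14 LD3_c48)) :=
  Lre_e IH (LK LD1_c9 LD2_c58 LD3_c26) (LK LD1_c18 LD2_c14 LD3_c48) Lrfl Lrfl
theorem f288427 : Led Lsl_ef (LP (LK LD1_c18 LD2_c31 LD3_c16)) = (LP (LK LD1_c27 LD2_c55 LD3_c9)) :=
  Lgr Lrot73 (Lpr_dt (f288425 IH) (Lpr_et (f165554 IH) (Lpr_dt (K17.f288406 IH) (Lpr_et (f288426 IH) (Lpr_dt (f190633 IH) (Lpn (LP (LK LD1_c27 LD2_c55 LD3_c9))))))))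
theorem f294134 : Led Lsl_et (LP (LK LD1_c18 LD2_c11 LD3_c53)) = (LP (LK LD1_c27 LD2_c52 LD3_c36)) :=
  Lre_e IH (LK LD1_c18 LD2_c11 LD3_c53) (LK LD1_c27 LD2_c52 LD3_c36) Lrfl Lrfl
theorem f294135 : Led Lsl_at (LP (LK LD1_c18 LD2_c31 LD3_c16)) = (LP (LK LD1_c18 LD2_c11 LD3_c53)) :=
  Lgr Lrot80 (Lpr_ef (f288427 IH) (Lpr_af (f294131 IH) (Lpe (f294134 IH) (Lpn (LP (LK LD1_c18 LD2_c11 LD3_c53))))))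
theorem f259832 : Led Lsl_dt (LP (LK LD1_c10 LD2_c10 LD3_c0)) = (LP (LK LD1_c18 LD2_c31 LD3_c16)) :=
  Lre_d IH (LK LD1_c10 LD2_c10 LD3_c0) (LK LD1_c18 LD2_c31 LD3_c16) Lrfl Lrfl
theorem f294141 : Led Lsl_dt (LP (LK LD1_c18 LD2_c11 LD3_c53)) = (LP (LK LD1_c9 LD2_c56 LD3_c39)) :=
  Lre_d IH (LK LD1_c18 LD2_c11 LD3_c53) (LK LD1_c9 LD2_c56 LD3_c39) Lrfl Lrfl
theorem f294142 : Led Lsl_af (LP (LK LD1_c10 LD2_c10 LD3_c0)) = (LP (LK LD1_c9 LD2_c56 LD3_c39)) :=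
  Lgr Lrot117 (Lpr_dt (f259832 IH) (Lpr_at (f294135 IH) (Lpr_dt (f294141 IH) (Lpn (LP (LK LD1_c9 LD2_c56 LD3_c39))))))
theorem f294144 : Led Lsl_at (LP (LK LD1_c10 LD2_c10 LD3_c0)) = (LP (LK LD1_c9 LD2_c56 LD3_c39)) :=
  Lgr Lrot100 (Lpr_af (f294142 IH) (Lpn (LP (LK LD1_c9 LD2_c56 LD3_c39))))
theorem f288506 : Led Lsl_et (LP (LK LD1_c10 LD2_c20 LD3_c17)) = (LP (LK LD1_c5 LD2_c15 LD3_c30)) :=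
  Lre_e IH (LK LD1_c10 LD2_c20 LD3_c17) (LK LD1_c5 LD2_c15 LD3_c30) Lrfl Lrfl
theorem f275236 : Led Lsl_et (LP (LK LD1_c5 LD2_c2 LD3_c55)) = (LP (LK LD1_c9 LD2_c56 LD3_c39)) :=
  Lre_e IH (LK LD1_c5 LD2_c2 LD3_c55) (LK LD1_c9 LD2_c56 LD3_c39) Lrfl Lrfl
theorem f288507 : Led Lsl_cf (LP (LK LD1_c10 LD2_c20 LD3_c17)) = (LP (LK LD1_c9 LD2_c56 LD3_c39)) :=
  Lgr Lrot39 (Lpr_et (f288506 IH) (Lpr_ct (K17.f288495 IH) (Lpr_et (f275236 IH) (Lpn (LP (LK LD1_c9 LD2_c56 LD3_c39))))))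
theorem f269267 : Led Lsl_af (LP (LK LD1_c8 LD2_c2 LD3_c58)) = (LP (LK LD1_c4 LD2_c3 LD3_c59)) :=
  Lgr Lrot0 (Lpr_at (K16.f269265 IH) (Lpn (LP (LK LD1_c4 LD2_c3 LD3_c59))))
theorem f288520 : Led Lsl_bf (LP (LK LD1_c10 LD2_c20 LD3_c17)) = (LP (LK LD1_c8 LD2_c2 LD3_c58)) :=
  Lgr Lrot96 (Lpr_et (f288506 IH) (Lpr_bt (K17.f288512 IH) (Lpe (K16.f243043 IH) (Lpn (LP (LK LD1_c8 LD2_c2 LD3_c58))))))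
theorem f293776 : Led Lsl_bt (LP (LK LD1_c8 LD2_c54 LD3_c12)) = (LP (LK LD1_c4 LD2_c28 LD3_c13)) :=
  Lre_b IH (LK LD1_c8 LD2_c54 LD3_c12) (LK LD1_c4 LD2_c28 LD3_c13) Lrfl Lrfl
theorem f293822 : Led Lsl_at (LP (LK LD1_c10 LD2_c20 LD3_c17)) = (LP (LK LD1_c8 LD2_c54 LD3_c12)) :=
  Lgr Lrot67 (Lpr_bf (f288520 IH) (Lpr_af (f269267 IH) (Lpe (K15.f242917 IH) (Lpr_af (f293818 IH) (Lpe (f293776 IH) (Lpn (LP (LK LD1_c8 LD2_c54 LD3_c12))))))))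
theorem f294151 : Led Lsl_cf (LP (LK LD1_c10 LD2_c10 LD3_c0)) = (LP (LK LD1_c8 LD2_c54 LD3_c12)) :=
  Lgr Lrot1 (Lpr_at (f294144 IH) (Lpe (f288507 IH) (Lpr_at (f293822 IH) (Lpn (LP (LK LD1_c8 LD2_c54 LD3_c12))))))
theorem f294158 : Led Lsl_et (LP (LK LD1_c5 LD2_c13 LD3_c3)) = (LP (LK LD1_c8 LD2_c54 LD3_c12)) :=
  Lgr Lrot158 (Lpe (f165542 IH) (Lpe (f165554 IH) (Lpr_cf (f294151 IH) (Lpn (LP (LK LD1_c8 LD2_c54 LD3_c12))))))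
theorem f294167 : Led Lsl_af (LP (LK LD1_c10 LD2_c20 LD3_c17)) = (LP (LK LD1_c8 LD2_c54 LD3_c12)) :=
  Lgr Lrot50 (Lpr_et (f288506 IH) (Lpr_at (K17.f288529 IH) (Lpr_et (f294158 IH) (Lpn (LP (LK LD1_c8 LD2_c54 LD3_c12))))))
theorem f293090 : Led Lsl_af (LP (LK LD1_c4 LD2_c28 LD3_c5)) = (LP (LK LD1_c8 LD2_c2 LD3_c53)) :=
  Lgr Lrot0 (Lpr_at (K17.f293067 IH) (Lpn (LP (LK LD1_c8 LD2_c2 LD3_c53))))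
theorem f294214 : Led Lsl_dt (LP (LK LD1_c10 LD2_c20 LD3_c17)) = (LP (LK LD1_c8 LD2_c2 LD3_c53)) :=
  Lgr Lrot44 (Lpr_af (f294167 IH) (Lpe (K16.f223212 IH) (Lpr_af (f293090 IH) (Lpn (LP (LK LD1_c8 LD2_c2 LD3_c53))))))
theorem f294216 : Led Lsl_df (LP (LK LD1_c10 LD2_c20 LD3_c17)) = (LP (LK LD1_c8 LD2_c2 LD3_c53)) :=
  Lgr Lrot38 (Lpr_dt (f294214 IH) (Lpn (LP (LK LD1_c8 LD2_c2 LD3_c53))))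
theorem f260993 : Led Lsl_gf (LP (LK LD1_c1 LD2_c58 LD3_c48)) = (LP (LK LD1_c2 LD2_c2 LD3_c15)) :=
  Lgr Lrot47 (Lpr_gt (K15.f260990 IH) (Lpe (K12.f48039 IH) (Lpr_ff (K12.f212790 IH) (Lpn (LP (LK LD1_c2 LD2_c2 LD3_c15))))))
theorem f261028 : Led Lsl_gt (LP (LK LD1_c8 LD2_c7 LD3_c46)) = (LP (LK LD1_c15 LD2_c18 LD3_c28)) :=
  Lre_g IH (LK LD1_c8 LD2_c7 LD3_c46) (LK LD1_c15 LD2_c18 LD3_c28) Lrfl Lrfl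
theorem f275687 : Led Lsl_at (LP (LK LD1_c8 LD2_c7 LD3_c52)) = (LP (LK LD1_c15 LD2_c18 LD3_c28)) :=
  Lgr Lrot26 (Lpr_ff (K16.f275679 IH) (Lpr_gt (K16.f274530 IH) (Lpr_gt (f261028 IH) (Lpn (LP (LK LD1_c15 LD2_c18 LD3_c28))))))
theorem f275693 : Led Lsl_ff (LP (LK LD1_c8 LD2_c7 LD3_c53)) = (LP (LK LD1_c15 LD2_c18 LD3_c28)) :=
  Lgr Lrot30 (Lpr_at (K16.f274497 IH) (Lpe (K16.f275679 IH) (Lpr_at (f275687 IH) (Lpn (LP (LK LD1_c15 LD2_c18 LD3_c28))))))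
theorem f260291 : Led Lsl_et (LP (LK LD1_c5 LD2_c17 LD3_c41)) = (LP (LK LD1_c10 LD2_c24 LD3_c58)) :=
  Lre_e IH (LK LD1_c5 LD2_c17 LD3_c41) (LK LD1_c10 LD2_c24 LD3_c58) Lrfl Lrfl
theorem f260318 : Led Lsl_ft (LP (LK LD1_c10 LD2_c24 LD3_c58)) = (LP (LK LD1_c18 LD2_c53 LD3_c50)) :=
  Lre_f IH (LK LD1_c10 LD2_c24 LD3_c58) (LK LD1_c18 LD2_c53 LD3_c50) Lrfl Lrfl
theorem f275697 : Led Lsl_et (LP (LK LD1_c18 LD2_c53 LD3_c50)) = (LP (LK LD1_c15 LD2_c18 LD3_c28)) :=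
  Lgr Lrot69 (Lpe (f260318 IH) (Lpe (f260291 IH) (Lpe (K16.f260316 IH) (Lpe (K16.f274503 IH) (Lpr_ff (f275693 IH) (Lpn (LP (LK LD1_c15 LD2_c18 LD3_c28))))))))
theorem f271273 : Led Lsl_dt (LP (LK LD1_c18 LD2_c53 LD3_c50)) = (LP (LK LD1_c10 LD2_c24 LD3_c59)) :=
  Lre_d IH (LK LD1_c18 LD2_c53 LD3_c50) (LK LD1_c10 LD2_c24 LD3_c59) Lrfl Lrfl
theorem f294222 : Led Lsl_gf (LP (LK LD1_c10 LD2_c20 LD3_c17)) = (LP (LK LD1_c10 LD2_c24 LD3_c59)) :=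
  Lgr Lrot145 (Lpr_df (f294216 IH) (Lpr_et (K17.f218704 IH) (Lpr_gt (K16.f275475 IH) (Lpr_dt (K16.f212796 IH) (Lpe (f260993 IH) (Lpe (K15.f256774 IH) (Lpr_et (K16.f260999 IH) (Lpr_gt (f261028 IH) (Lpe (f275697 IH) (Lpr_dt (f271273 IH) (Lpn (LP (LK LD1_c10 LD2_c24 LD3_c59)))))))))))))
theorem f293762 : Led Lsl_bt (LP (LK LD1_c5 LD2_c6 LD3_c13)) = (LP (LK LD1_c10 LD2_c3 LD3_c27)) :=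
  Lre_b IH (LK LD1_c5 LD2_c6 LD3_c13) (LK LD1_c10 LD2_c3 LD3_c27) Lrfl Lrfl
theorem f293777 : Led Lsl_ft (LP (LK LD1_c10 LD2_c3 LD3_c27)) = (LP (LK LD1_c8 LD2_c54 LD3_c12)) :=
  Lgr Lrot75 (Lpe (f293762 IH) (Lpr_ff (f293774 IH) (Lpe (f293776 IH) (Lpn (LP (LK LD1_c8 LD2_c54 LD3_c12))))))
theorem f294224 : Led Lsl_gt (LP (LK LD1_c10 LD2_c3 LD3_c27)) = (LP (LK LD1_c10 LD2_c24 LD3_c59)) :=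
  Lgr Lrot5 (Lpr_ft (f293777 IH) (Lpe (f294167 IH) (Lpr_gf (f294222 IH) (Lpn (LP (LK LD1_c10 LD2_c24 LD3_c59))))))
theorem f260350 : Led Lsl_ft (LP (LK LD1_c5 LD2_c17 LD3_c40)) = (LP (LK LD1_c10 LD2_c24 LD3_c59)) :=
  Lre_f IH (LK LD1_c5 LD2_c17 LD3_c40) (LK LD1_c10 LD2_c24 LD3_c59) Lrfl Lrfl
theorem f271293 : Led Lsl_af (LP (LK LD1_c10 LD2_c27 LD3_c58)) = (LP (LK LD1_c10 LD2_c24 LD3_c59)) :=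
  Lgr Lrot45 (Lpr_ft (K16.f184708 IH) (Lpr_at (K16.f271289 IH) (Lpr_ft (f260350 IH) (Lpn (LP (LK LD1_c10 LD2_c24 LD3_c59))))))
theorem f271295 : Led Lsl_at (LP (LK LD1_c10 LD2_c27 LD3_c58)) = (LP (LK LD1_c10 LD2_c24 LD3_c59)) :=
  Lgr Lrot100 (Lpr_af (f271293 IH) (Lpn (LP (LK LD1_c10 LD2_c24 LD3_c59))))
theorem f184696 : Led Lsl_ft (LP (LK LD1_c5 LD2_c19 LD3_c2)) = (LP (LK LD1_c10 LD2_c27 LD3_c58)) :=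
  Lre_f IH (LK LD1_c5 LD2_c19 LD3_c2) (LK LD1_c10 LD2_c27 LD3_c58) Lrfl Lrfl
theorem f294226 : Led Lsl_gf (LP (LK LD1_c10 LD2_c3 LD3_c27)) = (LP (LK LD1_c5 LD2_c19 LD3_c2)) :=
  Lgr Lrot47 (Lpr_gt (f294224 IH) (Lpe (f271295 IH) (Lpe (f184696 IH) (Lpn (LP (LK LD1_c5 LD2_c19 LD3_c2))))))
theorem f198606 : Led Lsl_bt (LP (LK LD1_c10 LD2_c3 LD3_c27)) = (LP (LK LD1_c5 LD2_c6 LD3_c13)) :=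
  Lre_b IH (LK LD1_c10 LD2_c3 LD3_c27) (LK LD1_c5 LD2_c6 LD3_c13) Lrfl Lrfl
theorem f169880 : Led Lsl_bt (LP (LK LD1_c10 LD2_c1 LD3_c44)) = (LP (LK LD1_c18 LD2_c19 LD3_c29)) :=
  Lre_b IH (LK LD1_c10 LD2_c1 LD3_c44) (LK LD1_c18 LD2_c19 LD3_c29) Lrfl Lrfl
theorem f293769 : Led Lsl_ef (LP (LK LD1_c10 LD2_c3 LD3_c27)) = (LP (LK LD1_c18 LD2_c19 LD3_c29)) :=
  Lgr Lrot29 (Lpr_bt (f198606 IH) (Lpr_et (f293767 IH) (Lpr_bt (f169880 IH) (Lpn (LP (LK LD1_c18 LD2_c19 LD3_c29))))))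
theorem f228756 : Led Lsl_gt (LP (LK LD1_c10 LD2_c35 LD3_c29)) = (LP (LK LD1_c5 LD2_c22 LD3_c35)) :=
  Lre_g IH (LK LD1_c10 LD2_c35 LD3_c29) (LK LD1_c5 LD2_c22 LD3_c35) Lrfl Lrfl
theorem f294228 : Led Lsl_dt (LP (LK LD1_c18 LD2_c19 LD3_c29)) = (LP (LK LD1_c10 LD2_c35 LD3_c29)) :=
  Lgr Lrot136 (Lpe (f293769 IH) (Lpr_gf (f294226 IH) (Lpe (K16.f44241 IH) (Lpr_dt (K11.f28310 IH) (Lpr_gf (K10.f46353 IH) (Lpe (K14.f45898 IH) (Lpe (K14.f247956 IH) (Lpe (K14.f44283 IH) (Lpe (K14.f254470 IH) (Lpe (f228756 IH) (Lpn (LP (LK LD1_c10 LD2_c35 LD3_c29)))))))))))))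
theorem f271274 : Led Lsl_dt (LP (LK LD1_c10 LD2_c24 LD3_c59)) = (LP (LK LD1_c18 LD2_c53 LD3_c50)) :=
  Lre_d IH (LK LD1_c10 LD2_c24 LD3_c59) (LK LD1_c18 LD2_c53 LD3_c50) Lrfl Lrfl
theorem f260349 : Led Lsl_ft (LP (LK LD1_c18 LD2_c53 LD3_c50)) = (LP (LK LD1_c10 LD2_c24 LD3_c58)) :=
  Lre_f IH (LK LD1_c18 LD2_c53 LD3_c50) (LK LD1_c10 LD2_c24 LD3_c58) Lrfl Lrfl
theorem f271270 : Led Lsl_gt (LP (LK LD1_c18 LD2_c39 LD3_c56)) = (LP (LK LD1_c10 LD2_c15 LD3_c43)) :=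
  Lre_g IH (LK LD1_c18 LD2_c39 LD3_c56) (LK LD1_c10 LD2_c15 LD3_c43) Lrfl Lrfl
theorem f271271 : Led Lsl_gt (LP (LK LD1_c18 LD2_c53 LD3_c50)) = (LP (LK LD1_c18 LD2_c39 LD3_c56)) :=
  Lgr Lrot5 (Lpr_ft (f260349 IH) (Lpr_at (K16.f271266 IH) (Lpe (f271270 IH) (Lpn (LP (LK LD1_c18 LD2_c39 LD3_c56))))))
theorem f184684 : Led Lsl_et (LP (LK LD1_c5 LD2_c19 LD3_c2)) = (LP (LK LD1_c2 LD2_c36 LD3_c8)) :=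
  Lre_e IH (LK LD1_c5 LD2_c19 LD3_c2) (LK LD1_c2 LD2_c36 LD3_c8) Lrfl Lrfl
theorem f251028 : Led Lsl_df (LP (LK LD1_c4 LD2_c16 LD3_c60)) = (LP (LK LD1_c5 LD2_c6 LD3_c3)) :=
  Lgr Lrot38 (Lpr_dt (K14.f251014 IH) (Lpn (LP (LK LD1_c5 LD2_c6 LD3_c3))))
theorem f49027 : Led Lsl_gt (LP (LK LD1_c5 LD2_c17 LD3_c56)) = (LP (LK LD1_c10 LD2_c25 LD3_c28)) :=
  Lre_g IH (LK LD1_c5 LD2_c17 LD3_c56) (LK LD1_c10 LD2_c25 LD3_c28) Lrfl Lrfl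
theorem f49039 : Led Lsl_et (LP (LK LD1_c18 LD2_c54 LD3_c38)) = (LP (LK LD1_c10 LD2_c25 LD3_c28)) :=
  Lre_e IH (LK LD1_c18 LD2_c54 LD3_c38) (LK LD1_c10 LD2_c25 LD3_c28) Lrfl Lrfl
theorem f271284 : Led Lsl_dt (LP (LK LD1_c18 LD2_c54 LD3_c38)) = (LP (LK LD1_c18 LD2_c39 LD3_c56)) :=
  Lgr Lrot136 (Lpr_et (f49039 IH) (Lpe (f49027 IH) (Lpe (K14.f49021 IH) (Lpe (K17.f48257 IH) (Lpe (K16.f223860 IH) (Lpr_df (f251028 IH) (Lpe (K11.f184750 IH) (Lpe (f184684 IH) (Lpr_dt (K16.f271276 IH) (Lpe (f271270 IH) (Lpn (LP (LK LD1_c18 LD2_c39 LD3_c56)))))))))))))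
theorem f49015 : Led Lsl_ft (LP (LK LD1_c15 LD2_c56 LD3_c47)) = (LP (LK LD1_c8 LD2_c29 LD3_c34)) :=
  Lre_f IH (LK LD1_c15 LD2_c56 LD3_c47) (LK LD1_c8 LD2_c29 LD3_c34) Lrfl Lrfl
theorem f287652 : Led Lsl_af (LP (LK LD1_c15 LD2_c56 LD3_c47)) = (LP (LK LD1_c14 LD2_c57 LD3_c7)) :=
  Lgr Lrot45 (Lpr_ft (f49015 IH) (Lpr_at (K17.f287641 IH) (Lpr_ft (K13.f229664 IH) (Lpn (LP (LK LD1_c14 LD2_c57 LD3_c7))))))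
theorem f287656 : Led Lsl_at (LP (LK LD1_c10 LD2_c25 LD3_c30)) = (LP (LK LD1_c10 LD2_c28 LD3_c1)) :=
  Lgr Lrot51 (Lpe (K14.f49008 IH) (Lpr_af (f287652 IH) (Lpe (K13.f229673 IH) (Lpn (LP (LK LD1_c10 LD2_c28 LD3_c1))))))
theorem f49024 : Led Lsl_ft (LP (LK LD1_c5 LD2_c17 LD3_c56)) = (LP (LK LD1_c10 LD2_c25 LD3_c30)) :=
  Lre_f IH (LK LD1_c5 LD2_c17 LD3_c56) (LK LD1_c10 LD2_c25 LD3_c30) Lrfl Lrfl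
theorem f287658 : Led Lsl_gt (LP (LK LD1_c10 LD2_c25 LD3_c28)) = (LP (LK LD1_c10 LD2_c28 LD3_c1)) :=
  Lgr Lrot46 (Lpe (f49027 IH) (Lpr_ft (f49024 IH) (Lpr_at (f287656 IH) (Lpn (LP (LK LD1_c10 LD2_c28 LD3_c1))))))
theorem f277589 : Led Lsl_gt (LP (LK LD1_c10 LD2_c15 LD3_c38)) = (LP (LK LD1_c10 LD2_c35 LD3_c29)) :=
  Lgr Lrot5 (Lpe (K16.f277587 IH) (Lpr_at (K16.f277576 IH) (Lpe (f228756 IH) (Lpn (LP (LK LD1_c10 LD2_c35 LD3_c29))))))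
theorem f43965 : Led Lsl_et (LP (LK LD1_c5 LD2_c19 LD3_c11)) = (LP (LK LD1_c2 LD2_c36 LD3_c16)) :=
  Lre_e IH (LK LD1_c5 LD2_c19 LD3_c11) (LK LD1_c2 LD2_c36 LD3_c16) Lrfl Lrfl
theorem f246380 : Led Lsl_dt (LP (LK LD1_c5 LD2_c22 LD3_c17)) = (LP (LK LD1_c5 LD2_c19 LD3_c11)) :=
  Lgr Lrot77 (Lpe (K16.f243942 IH) (Lpr_df (K14.f243954 IH) (Lpr_ef (K13.f246378 IH) (Lpe (K14.f43966 IH) (Lpe (f43965 IH) (Lpn (LP (LK LD1_c5 LD2_c19 LD3_c11))))))))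
theorem f193161 : Led Lsl_ft (LP (LK LD1_c5 LD2_c19 LD3_c11)) = (LP (LK LD1_c10 LD2_c28 LD3_c8)) :=
  Lre_f IH (LK LD1_c5 LD2_c19 LD3_c11) (LK LD1_c10 LD2_c28 LD3_c8) Lrfl Lrfl
theorem f277599 : Led Lsl_dt (LP (LK LD1_c10 LD2_c28 LD3_c8)) = (LP (LK LD1_c10 LD2_c15 LD3_c38)) :=
  Lgr Lrot60 (Lpe (f193161 IH) (Lpe (f246380 IH) (Lpr_ff (K16.f277587 IH) (Lpn (LP (LK LD1_c10 LD2_c15 LD3_c38))))))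
theorem f294234 : Led Lsl_ef (LP (LK LD1_c10 LD2_c28 LD3_c1)) = (LP (LK LD1_c10 LD2_c28 LD3_c8)) :=
  Lgr Lrot17 (Lpe (f287658 IH) (Lpe (f49039 IH) (Lpr_dt (f271284 IH) (Lpe (f271271 IH) (Lpe (f271274 IH) (Lpe (f294224 IH) (Lpr_ef (f293769 IH) (Lpr_dt (f294228 IH) (Lpe (f277589 IH) (Lpe (f277599 IH) (Lpn (LP (LK LD1_c10 LD2_c28 LD3_c8)))))))))))))
theorem f294240 : Led Lsl_et (LP (LK LD1_c10 LD2_c28 LD3_c1)) = (LP (LK LD1_c10 LD2_c28 LD3_c8)) :=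
  Lgr Lrot87 (Lpr_ef (f294234 IH) (Lpn (LP (LK LD1_c10 LD2_c28 LD3_c8))))
theorem f229964 : Led Lsl_ft (LP (LK LD1_c10 LD2_c27 LD3_c61)) = (LP (LK LD1_c5 LD2_c19 LD3_c4)) :=
  Lre_f IH (LK LD1_c10 LD2_c27 LD3_c61) (LK LD1_c5 LD2_c19 LD3_c4) Lrfl Lrfl
theorem f254476 : Led Lsl_dt (LP (LK LD1_c10 LD2_c35 LD3_c30)) = (LP (LK LD1_c10 LD2_c27 LD3_c61)) :=
  Lgr Lrot60 (Lpe (K14.f228754 IH) (Lpr_df (K14.f254470 IH) (Lpe (f229964 IH) (Lpn (LP (LK LD1_c10 LD2_c27 LD3_c61))))))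
theorem f48995 : Led Lsl_bt (LP (LK LD1_c15 LD2_c56 LD3_c47)) = (LP (LK LD1_c8 LD2_c29 LD3_c40)) :=
  Lre_b IH (LK LD1_c15 LD2_c56 LD3_c47) (LK LD1_c8 LD2_c29 LD3_c40) Lrfl Lrfl
theorem f48996 : Led Lsl_bt (LP (LK LD1_c5 LD2_c18 LD3_c0)) = (LP (LK LD1_c10 LD2_c25 LD3_c30)) :=
  Lre_b IH (LK LD1_c5 LD2_c18 LD3_c0) (LK LD1_c10 LD2_c25 LD3_c30) Lrfl Lrfl
theorem f48997 : Led Lsl_df (LP (LK LD1_c15 LD2_c56 LD3_c47)) = (LP (LK LD1_c10 LD2_c25 LD3_c30)) :=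
  Lgr Lrot12 (Lpr_bt (f48995 IH) (Lpr_dt (K14.f48284 IH) (Lpr_bt (f48996 IH) (Lpn (LP (LK LD1_c10 LD2_c25 LD3_c30))))))
theorem f254480 : Led Lsl_ef (LP (LK LD1_c10 LD2_c25 LD3_c30)) = (LP (LK LD1_c10 LD2_c27 LD3_c61)) :=
  Lgr Lrot73 (Lpe (f48997 IH) (Lpe (K14.f251068 IH) (Lpe (K13.f220668 IH) (Lpe (K14.f246315 IH) (Lpr_dt (f254476 IH) (Lpn (LP (LK LD1_c10 LD2_c27 LD3_c61))))))))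
theorem f294247 : Led Lsl_af (LP (LK LD1_c10 LD2_c27 LD3_c61)) = (LP (LK LD1_c10 LD2_c28 LD3_c8)) :=
  Lgr Lrot50 (Lpe (f254480 IH) (Lpr_at (f287656 IH) (Lpr_et (f294240 IH) (Lpn (LP (LK LD1_c10 LD2_c28 LD3_c8))))))
theorem f43786 : Led Lsl_et (LP (LK LD1_c9 LD2_c39 LD3_c47)) = (LP (LK LD1_c4 LD2_c54 LD3_c9)) :=
  Lre_e IH (LK LD1_c9 LD2_c39 LD3_c47) (LK LD1_c4 LD2_c54 LD3_c9) Lrfl Lrfl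
theorem f229952 : Led Lsl_ct (LP (LK LD1_c5 LD2_c19 LD3_c4)) = (LP (LK LD1_c9 LD2_c39 LD3_c47)) :=
  Lgr Lrot15 (Lpe (K14.f229951 IH) (Lpr_cf (K14.f229947 IH) (Lpe (f43786 IH) (Lpn (LP (LK LD1_c9 LD2_c39 LD3_c47))))))
theorem f229965 : Led Lsl_ft (LP (LK LD1_c9 LD2_c39 LD3_c47)) = (LP (LK LD1_c17 LD2_c46 LD3_c20)) :=
  Lre_f IH (LK LD1_c9 LD2_c39 LD3_c47) (LK LD1_c17 LD2_c46 LD3_c20) Lrfl Lrfl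
theorem f229966 : Led Lsl_cf (LP (LK LD1_c10 LD2_c27 LD3_c61)) = (LP (LK LD1_c17 LD2_c46 LD3_c20)) :=
  Lgr Lrot108 (Lpr_ft (f229964 IH) (Lpr_ct (f229952 IH) (Lpr_ft (f229965 IH) (Lpn (LP (LK LD1_c17 LD2_c46 LD3_c20))))))
theorem f229972 : Led Lsl_ct (LP (LK LD1_c10 LD2_c27 LD3_c61)) = (LP (LK LD1_c17 LD2_c46 LD3_c20)) :=
  Lgr Lrot59 (Lpr_cf (f229966 IH) (Lpn (LP (LK LD1_c17 LD2_c46 LD3_c20))))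
theorem f193109 : Led Lsl_et (LP (LK LD1_c4 LD2_c54 LD3_c24)) = (LP (LK LD1_c9 LD2_c40 LD3_c20)) :=
  Lre_e IH (LK LD1_c4 LD2_c54 LD3_c24) (LK LD1_c9 LD2_c40 LD3_c20) Lrfl Lrfl
theorem f193110 : Led Lsl_ct (LP (LK LD1_c9 LD2_c40 LD3_c20)) = (LP (LK LD1_c5 LD2_c19 LD3_c11)) :=
  Lgr Lrot15 (Lpe (f193109 IH) (Lpr_cf (K14.f192986 IH) (Lpe (f43965 IH) (Lpn (LP (LK LD1_c5 LD2_c19 LD3_c11))))))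
theorem f193160 : Led Lsl_ft (LP (LK LD1_c17 LD2_c47 LD3_c28)) = (LP (LK LD1_c9 LD2_c40 LD3_c20)) :=
  Lre_f IH (LK LD1_c17 LD2_c47 LD3_c28) (LK LD1_c9 LD2_c40 LD3_c20) Lrfl Lrfl
theorem f193162 : Led Lsl_cf (LP (LK LD1_c17 LD2_c47 LD3_c28)) = (LP (LK LD1_c10 LD2_c28 LD3_c8)) :=
  Lgr Lrot108 (Lpr_ft (f193160 IH) (Lpr_ct (f193110 IH) (Lpr_ft (f193161 IH) (Lpn (LP (LK LD1_c10 LD2_c28 LD3_c8))))))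
theorem f193168 : Led Lsl_ct (LP (LK LD1_c17 LD2_c47 LD3_c28)) = (LP (LK LD1_c10 LD2_c28 LD3_c8)) :=
  Lgr Lrot59 (Lpr_cf (f193162 IH) (Lpn (LP (LK LD1_c10 LD2_c28 LD3_c8))))
theorem f294249 : Led Lsl_at (LP (LK LD1_c17 LD2_c46 LD3_c20)) = (LP (LK LD1_c17 LD2_c47 LD3_c28)) :=
  Lgr Lrot107 (Lpe (f229972 IH) (Lpr_af (f294247 IH) (Lpe (f193168 IH) (Lpn (LP (LK LD1_c17 LD2_c47 LD3_c28))))))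
theorem f294253 : Led Lsl_af (LP (LK LD1_c9 LD2_c39 LD3_c47)) = (LP (LK LD1_c9 LD2_c40 LD3_c20)) :=
  Lgr Lrot45 (Lpr_ft (f229965 IH) (Lpr_at (f294249 IH) (Lpr_ft (f193160 IH) (Lpn (LP (LK LD1_c9 LD2_c40 LD3_c20))))))
theorem f294262 : Led Lsl_at (LP (LK LD1_c4 LD2_c54 LD3_c9)) = (LP (LK LD1_c4 LD2_c54 LD3_c24)) :=
  Lgr Lrot80 (Lpe (f43786 IH) (Lpr_af (f294253 IH) (Lpe (f193109 IH) (Lpn (LP (LK LD1_c4 LD2_c54 LD3_c24))))))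
theorem f294274 : Led Lsl_ff (LP (LK LD1_c4 LD2_c54 LD3_c9)) = (LP (LK LD1_c4 LD2_c54 LD3_c25)) :=
  Lgr Lrot52 (Lpr_at (f294262 IH) (Lpe (K14.f43743 IH) (Lpe (K9.f43768 IH) (Lpn (LP (LK LD1_c4 LD2_c54 LD3_c25))))))
theorem f294285 : Led Lsl_ft (LP (LK LD1_c4 LD2_c54 LD3_c9)) = (LP (LK LD1_c4 LD2_c54 LD3_c25)) :=
  Lgr Lrot48 (Lpr_ff (f294274 IH) (Lpn (LP (LK LD1_c4 LD2_c54 LD3_c25))))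
theorem f294294 : Led Lsl_af (LP (LK LD1_c4 LD2_c54 LD3_c10)) = (LP (LK LD1_c4 LD2_c54 LD3_c25)) :=
  Lgr Lrot31 (Lpe (K12.f43495 IH) (Lpr_gf (K14.f43781 IH) (Lpr_ft (f294285 IH) (Lpn (LP (LK LD1_c4 LD2_c54 LD3_c25))))))
theorem f294266 : Led Lsl_af (LP (LK LD1_c4 LD2_c54 LD3_c9)) = (LP (LK LD1_c4 LD2_c54 LD3_c24)) :=
  Lgr Lrot0 (Lpr_at (f294262 IH) (Lpn (LP (LK LD1_c4 LD2_c54 LD3_c24))))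
theorem f294304 : Led Lsl_ft (LP (LK LD1_c4 LD2_c54 LD3_c10)) = (LP (LK LD1_c4 LD2_c54 LD3_c24)) :=
  Lgr Lrot101 (Lpr_af (f294294 IH) (Lpe (f294285 IH) (Lpr_af (f294266 IH) (Lpn (LP (LK LD1_c4 LD2_c54 LD3_c24))))))
theorem f294308 : Led Lsl_ff (LP (LK LD1_c9 LD2_c39 LD3_c49)) = (LP (LK LD1_c9 LD2_c40 LD3_c19)) :=
  Lgr Lrot19 (Lpr_dt (K15.f43584 IH) (Lpr_ft (f294304 IH) (Lpr_dt (K15.f43747 IH) (Lpn (LP (LK LD1_c9 LD2_c40 LD3_c19))))))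
theorem f294618 : Led Lsl_ft (LP (LK LD1_c9 LD2_c39 LD3_c49)) = (LP (LK LD1_c9 LD2_c40 LD3_c19)) :=
  Lgr Lrot48 (Lpr_ff (f294308 IH) (Lpn (LP (LK LD1_c9 LD2_c40 LD3_c19))))
theorem f294622 : Led Lsl_ff (LP (LK LD1_c5 LD2_c20 LD3_c1)) = (LP (LK LD1_c5 LD2_c19 LD3_c32)) :=
  Lgr Lrot23 (Lpe (K15.f230333 IH) (Lpr_ft (f294618 IH) (Lpr_ct (K15.f266195 IH) (Lpn (LP (LK LD1_c5 LD2_c19 LD3_c32))))))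
theorem f266211 : Led Lsl_df (LP (LK LD1_c7 LD2_c56 LD3_c4)) = (LP (LK LD1_c4 LD2_c54 LD3_c17)) :=
  Lgr Lrot18 (Lpr_at (K12.f229508 IH) (Lpr_dt (K12.f229506 IH) (Lpr_at (K15.f266203 IH) (Lpn (LP (LK LD1_c4 LD2_c54 LD3_c17))))))
theorem f294635 : Led Lsl_at (LP (LK LD1_c5 LD2_c20 LD3_c1)) = (LP (LK LD1_c5 LD2_c19 LD3_c29)) :=
  Lgr Lrot33 (Lpr_ff (f294622 IH) (Lpr_dt (K15.f212428 IH) (Lpr_ct (K15.f229986 IH) (Lpe (f266211 IH) (Lpr_ct (K15.f266265 IH) (Lpr_dt (K14.f49022 IH) (Lpe (K9.f184048 IH) (Lpr_dt (K14.f43771 IH) (Lpr_ct (K15.f212374 IH) (Lpn (LP (LK LD1_c5 LD2_c19 LD3_c29))))))))))))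
theorem f230340 : Led Lsl_et (LP (LK LD1_c10 LD2_c29 LD3_c60)) = (LP (LK LD1_c5 LD2_c20 LD3_c1)) :=
  Lre_e IH (LK LD1_c10 LD2_c29 LD3_c60) (LK LD1_c5 LD2_c20 LD3_c1) Lrfl Lrfl
theorem f212408 : Led Lsl_et (LP (LK LD1_c5 LD2_c19 LD3_c29)) = (LP (LK LD1_c10 LD2_c28 LD3_c49)) :=
  Lre_e IH (LK LD1_c5 LD2_c19 LD3_c29) (LK LD1_c10 LD2_c28 LD3_c49) Lrfl Lrfl
theorem f294642 : Led Lsl_af (LP (LK LD1_c10 LD2_c29 LD3_c60)) = (LP (LK LD1_c10 LD2_c28 LD3_c49)) :=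
  Lgr Lrot50 (Lpr_et (f230340 IH) (Lpr_at (f294635 IH) (Lpr_et (f212408 IH) (Lpn (LP (LK LD1_c10 LD2_c28 LD3_c49))))))
theorem f294630 : Led Lsl_ft (LP (LK LD1_c10 LD2_c29 LD3_c60)) = (LP (LK LD1_c19 LD2_c1 LD3_c39)) :=
  Lre_f IH (LK LD1_c10 LD2_c29 LD3_c60) (LK LD1_c19 LD2_c1 LD3_c39) Lrfl Lrfl
theorem f212404 : Led Lsl_ft (LP (LK LD1_c18 LD2_c59 LD3_c39)) = (LP (LK LD1_c10 LD2_c28 LD3_c49)) :=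
  Lre_f IH (LK LD1_c18 LD2_c59 LD3_c39) (LK LD1_c10 LD2_c28 LD3_c49) Lrfl Lrfl
theorem f294648 : Led Lsl_at (LP (LK LD1_c19 LD2_c1 LD3_c39)) = (LP (LK LD1_c18 LD2_c59 LD3_c39)) :=
  Lgr Lrot66 (Lpe (f294630 IH) (Lpr_af (f294642 IH) (Lpe (f212404 IH) (Lpn (LP (LK LD1_c18 LD2_c59 LD3_c39))))))
theorem f294654 : Led Lsl_dt (LP (LK LD1_c28 LD2_c28 LD3_c22)) = (LP (LK LD1_c19 LD2_c1 LD3_c39)) :=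
  Lre_d IH (LK LD1_c28 LD2_c28 LD3_c22) (LK LD1_c19 LD2_c1 LD3_c39) Lrfl Lrfl
theorem f212402 : Led Lsl_dt (LP (LK LD1_c18 LD2_c59 LD3_c39)) = (LP (LK LD1_c28 LD2_c26 LD3_c56)) :=
  Lre_d IH (LK LD1_c18 LD2_c59 LD3_c39) (LK LD1_c28 LD2_c26 LD3_c56) Lrfl Lrfl
theorem f294655 : Led Lsl_af (LP (LK LD1_c28 LD2_c28 LD3_c22)) = (LP (LK LD1_c28 LD2_c26 LD3_c56)) :=
  Lgr Lrot117 (Lpr_dt (f294654 IH) (Lpr_at (f294648 IH) (Lpr_dt (f212402 IH) (Lpn (LP (LK LD1_c28 LD2_c26 LD3_c56))))))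
theorem f294658 : Led Lsl_at (LP (LK LD1_c28 LD2_c28 LD3_c22)) = (LP (LK LD1_c28 LD2_c26 LD3_c56)) :=
  Lgr Lrot100 (Lpr_af (f294655 IH) (Lpn (LP (LK LD1_c28 LD2_c26 LD3_c56))))
theorem f294665 : Led Lsl_ft (LP (LK LD1_c19 LD2_c1 LD3_c38)) = (LP (LK LD1_c28 LD2_c28 LD3_c22)) :=
  Lre_f IH (LK LD1_c19 LD2_c1 LD3_c38) (LK LD1_c28 LD2_c28 LD3_c22) Lrfl Lrfl
theorem f212400 : Led Lsl_ft (LP (LK LD1_c28 LD2_c26 LD3_c56)) = (LP (LK LD1_c18 LD2_c59 LD3_c38)) :=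
  Lre_f IH (LK LD1_c28 LD2_c26 LD3_c56) (LK LD1_c18 LD2_c59 LD3_c38) Lrfl Lrfl
theorem f294666 : Led Lsl_af (LP (LK LD1_c19 LD2_c1 LD3_c38)) = (LP (LK LD1_c18 LD2_c59 LD3_c38)) :=
  Lgr Lrot45 (Lpr_ft (f294665 IH) (Lpr_at (f294658 IH) (Lpr_ft (f212400 IH) (Lpn (LP (LK LD1_c18 LD2_c59 LD3_c38))))))
theorem f294673 : Led Lsl_et (LP (LK LD1_c19 LD2_c1 LD3_c38)) = (LP (LK LD1_c10 LD2_c29 LD3_c61)) :=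
  Lre_e IH (LK LD1_c19 LD2_c1 LD3_c38) (LK LD1_c10 LD2_c29 LD3_c61) Lrfl Lrfl
theorem f294674 : Led Lsl_et (LP (LK LD1_c10 LD2_c28 LD3_c50)) = (LP (LK LD1_c18 LD2_c59 LD3_c38)) :=
  Lre_e IH (LK LD1_c10 LD2_c28 LD3_c50) (LK LD1_c18 LD2_c59 LD3_c38) Lrfl Lrfl
theorem f294675 : Led Lsl_at (LP (LK LD1_c10 LD2_c29 LD3_c61)) = (LP (LK LD1_c10 LD2_c28 LD3_c50)) :=
  Lgr Lrot80 (Lpe (f294673 IH) (Lpr_af (f294666 IH) (Lpe (f294674 IH) (Lpn (LP (LK LD1_c10 LD2_c28 LD3_c50))))))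
theorem f294689 : Led Lsl_ft (LP (LK LD1_c19 LD2_c1 LD3_c42)) = (LP (LK LD1_c10 LD2_c29 LD3_c61)) :=
  Lre_f IH (LK LD1_c19 LD2_c1 LD3_c42) (LK LD1_c10 LD2_c29 LD3_c61) Lrfl Lrfl
theorem f259010 : Led Lsl_ft (LP (LK LD1_c10 LD2_c28 LD3_c50)) = (LP (LK LD1_c18 LD2_c59 LD3_c42)) :=
  Lre_f IH (LK LD1_c10 LD2_c28 LD3_c50) (LK LD1_c18 LD2_c59 LD3_c42) Lrfl Lrfl
theorem f294690 : Led Lsl_af (LP (LK LD1_c19 LD2_c1 LD3_c42)) = (LP (LK LD1_c18 LD2_c59 LD3_c42)) :=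
  Lgr Lrot45 (Lpr_ft (f294689 IH) (Lpr_at (f294675 IH) (Lpr_ft (f259010 IH) (Lpn (LP (LK LD1_c18 LD2_c59 LD3_c42))))))
theorem f294697 : Led Lsl_ct (LP (LK LD1_c28 LD2_c28 LD3_c25)) = (LP (LK LD1_c19 LD2_c1 LD3_c42)) :=
  Lre_c IH (LK LD1_c28 LD2_c28 LD3_c25) (LK LD1_c19 LD2_c1 LD3_c42) Lrfl Lrfl
theorem f258987 : Led Lsl_dt (LP (LK LD1_c10 LD2_c28 LD3_c50)) = (LP (LK LD1_c5 LD2_c19 LD3_c30)) :=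
  Lre_d IH (LK LD1_c10 LD2_c28 LD3_c50) (LK LD1_c5 LD2_c19 LD3_c30) Lrfl Lrfl
theorem f44273 : Led Lsl_et (LP (LK LD1_c5 LD2_c19 LD3_c30)) = (LP (LK LD1_c2 LD2_c36 LD3_c24)) :=
  Lre_e IH (LK LD1_c5 LD2_c19 LD3_c30) (LK LD1_c2 LD2_c36 LD3_c24) Lrfl Lrfl
theorem f258956 : Led Lsl_et (LP (LK LD1_c4 LD2_c1 LD3_c46)) = (LP (LK LD1_c8 LD2_c4 LD3_c9)) :=
  Lre_e IH (LK LD1_c4 LD2_c1 LD3_c46) (LK LD1_c8 LD2_c4 LD3_c9) Lrfl Lrfl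
theorem f258957 : Led Lsl_cf (LP (LK LD1_c5 LD2_c19 LD3_c30)) = (LP (LK LD1_c8 LD2_c4 LD3_c9)) :=
  Lgr Lrot39 (Lpr_et (f44273 IH) (Lpr_ct (K15.f258943 IH) (Lpr_et (f258956 IH) (Lpn (LP (LK LD1_c8 LD2_c4 LD3_c9))))))
theorem f258977 : Led Lsl_ct (LP (LK LD1_c5 LD2_c19 LD3_c30)) = (LP (LK LD1_c8 LD2_c4 LD3_c9)) :=
  Lgr Lrot59 (Lpr_cf (f258957 IH) (Lpn (LP (LK LD1_c8 LD2_c4 LD3_c9))))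
theorem f256928 : Led Lsl_et (LP (LK LD1_c8 LD2_c9 LD3_c40)) = (LP (LK LD1_c4 LD2_c4 LD3_c22)) :=
  Lre_e IH (LK LD1_c8 LD2_c9 LD3_c40) (LK LD1_c4 LD2_c4 LD3_c22) Lrfl Lrfl
theorem f260263 : Led Lsl_dt (LP (LK LD1_c8 LD2_c4 LD3_c9)) = (LP (LK LD1_c8 LD2_c9 LD3_c40)) :=
  Lgr Lrot77 (Lpe (f258956 IH) (Lpr_df (K15.f260259 IH) (Lpe (K15.f260239 IH) (Lpe (K15.f226892 IH) (Lpe (f256928 IH) (Lpn (LP (LK LD1_c8 LD2_c9 LD3_c40))))))))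
theorem f256940 : Led Lsl_ct (LP (LK LD1_c19 LD2_c3 LD3_c37)) = (LP (LK LD1_c28 LD2_c29 LD3_c52)) :=
  Lre_c IH (LK LD1_c19 LD2_c3 LD3_c37) (LK LD1_c28 LD2_c29 LD3_c52) Lrfl Lrfl
theorem f294704 : Led Lsl_df (LP (LK LD1_c28 LD2_c28 LD3_c25)) = (LP (LK LD1_c28 LD2_c29 LD3_c52)) :=
  Lgr Lrot177 (Lpr_ct (f294697 IH) (Lpr_af (f294690 IH) (Lpe (f259010 IH) (Lpr_dt (f258987 IH) (Lpr_ct (f258977 IH) (Lpr_dt (f260263 IH) (Lpr_ct (K17.f256933 IH) (Lpr_dt (K16.f224560 IH) (Lpr_ct (f256940 IH) (Lpn (LP (LK LD1_c28 LD2_c29 LD3_c52))))))))))))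
theorem f294694 : Led Lsl_dt (LP (LK LD1_c19 LD2_c1 LD3_c42)) = (LP (LK LD1_c10 LD2_c30 LD3_c0)) :=
  Lre_d IH (LK LD1_c19 LD2_c1 LD3_c42) (LK LD1_c10 LD2_c30 LD3_c0) Lrfl Lrfl
theorem f259003 : Led Lsl_ft (LP (LK LD1_c8 LD2_c4 LD3_c9)) = (LP (LK LD1_c15 LD2_c11 LD3_c25)) :=
  Lre_f IH (LK LD1_c8 LD2_c4 LD3_c9) (LK LD1_c15 LD2_c11 LD3_c25) Lrfl Lrfl
theorem f286387 : Led Lsl_bt (LP (LK LD1_c10 LD2_c8 LD3_c19)) = (LP (LK LD1_c5 LD2_c9 LD3_c1)) :=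
  Lre_b IH (LK LD1_c10 LD2_c8 LD3_c19) (LK LD1_c5 LD2_c9 LD3_c1) Lrfl Lrfl
theorem f274985 : Led Lsl_bf (LP (LK LD1_c9 LD2_c39 LD3_c31)) = (LP (LK LD1_c8 LD2_c26 LD3_c11)) :=
  Lgr Lrot93 (Lpr_dt (K16.f274981 IH) (Lpe (K16.f274964 IH) (Lpe (K16.f266780 IH) (Lpn (LP (LK LD1_c8 LD2_c26 LD3_c11))))))
theorem f274983 : Led Lsl_ft (LP (LK LD1_c9 LD2_c39 LD3_c31)) = (LP (LK LD1_c17 LD2_c45 LD3_c47)) :=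
  Lre_f IH (LK LD1_c9 LD2_c39 LD3_c31) (LK LD1_c17 LD2_c45 LD3_c47) Lrfl Lrfl
theorem f275000 : Led Lsl_bt (LP (LK LD1_c17 LD2_c45 LD3_c47)) = (LP (LK LD1_c15 LD2_c50 LD3_c45)) :=
  Lgr Lrot35 (Lpe (f274983 IH) (Lpr_bf (f274985 IH) (Lpe (K17.f266793 IH) (Lpn (LP (LK LD1_c15 LD2_c50 LD3_c45))))))
theorem f258999 : Led Lsl_bt (LP (LK LD1_c8 LD2_c4 LD3_c14)) = (LP (LK LD1_c15 LD2_c11 LD3_c25)) :=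
  Lre_b IH (LK LD1_c8 LD2_c4 LD3_c14) (LK LD1_c15 LD2_c11 LD3_c25) Lrfl Lrfl
theorem f287238 : Led Lsl_af (LP (LK LD1_c17 LD2_c45 LD3_c47)) = (LP (LK LD1_c15 LD2_c11 LD3_c25)) :=
  Lgr Lrot36 (Lpr_bt (f275000 IH) (Lpr_at (K17.f286338 IH) (Lpr_bt (f286387 IH) (Lpr_at (K17.f287223 IH) (Lpr_bt (f258999 IH) (Lpn (LP (LK LD1_c15 LD2_c11 LD3_c25))))))))
theorem f294712 : Led Lsl_ct (LP (LK LD1_c10 LD2_c30 LD3_c0)) = (LP (LK LD1_c17 LD2_c45 LD3_c47)) :=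
  Lgr Lrot98 (Lpe (f294694 IH) (Lpe (f294697 IH) (Lpr_df (f294704 IH) (Lpe (f256940 IH) (Lpe (K16.f224560 IH) (Lpe (K17.f256933 IH) (Lpe (f260263 IH) (Lpr_ft (f259003 IH) (Lpe (f287238 IH) (Lpn (LP (LK LD1_c17 LD2_c45 LD3_c47))))))))))))
theorem f275002 : Led Lsl_bf (LP (LK LD1_c17 LD2_c45 LD3_c47)) = (LP (LK LD1_c15 LD2_c50 LD3_c45)) :=
  Lgr Lrot24 (Lpr_bt (f275000 IH) (Lpn (LP (LK LD1_c15 LD2_c50 LD3_c45))))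
theorem f287024 : Led Lsl_et (LP (LK LD1_c17 LD2_c45 LD3_c47)) = (LP (LK LD1_c17 LD2_c46 LD3_c56)) :=
  Lgr Lrot74 (Lpr_bf (f275002 IH) (Lpr_ef (K17.f287022 IH) (Lpe (K17.f230133 IH) (Lpn (LP (LK LD1_c17 LD2_c46 LD3_c56))))))
theorem f294719 : Led Lsl_ef (LP (LK LD1_c10 LD2_c30 LD3_c0)) = (LP (LK LD1_c10 LD2_c28 LD3_c59)) :=
  Lgr Lrot28 (Lpr_ct (f294712 IH) (Lpr_et (f287024 IH) (Lpe (K17.f230089 IH) (Lpn (LP (LK LD1_c10 LD2_c28 LD3_c59))))))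
theorem f294809 : Led Lsl_et (LP (LK LD1_c10 LD2_c30 LD3_c0)) = (LP (LK LD1_c10 LD2_c28 LD3_c59)) :=
  Lgr Lrot87 (Lpr_ef (f294719 IH) (Lpn (LP (LK LD1_c10 LD2_c28 LD3_c59))))
theorem f294721 : Led Lsl_ft (LP (LK LD1_c5 LD2_c20 LD3_c2)) = (LP (LK LD1_c10 LD2_c30 LD3_c0)) :=
  Lre_f IH (LK LD1_c5 LD2_c20 LD3_c2) (LK LD1_c10 LD2_c30 LD3_c0) Lrfl Lrfl
theorem f184856 : Led Lsl_et (LP (LK LD1_c2 LD2_c36 LD3_c41)) = (LP (LK LD1_c5 LD2_c20 LD3_c2)) :=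
  Lre_e IH (LK LD1_c2 LD2_c36 LD3_c41) (LK LD1_c5 LD2_c20 LD3_c2) Lrfl Lrfl
theorem f44276 : Led Lsl_et (LP (LK LD1_c5 LD2_c19 LD3_c33)) = (LP (LK LD1_c2 LD2_c36 LD3_c25)) :=
  Lre_e IH (LK LD1_c5 LD2_c19 LD3_c33) (LK LD1_c2 LD2_c36 LD3_c25) Lrfl Lrfl
theorem f294816 : Led Lsl_ff (LP (LK LD1_c2 LD2_c36 LD3_c41)) = (LP (LK LD1_c2 LD2_c36 LD3_c25)) :=
  Lgr Lrot72 (Lpr_et (f184856 IH) (Lpr_ft (f294721 IH) (Lpr_et (f294809 IH) (Lpr_ft (K17.f230087 IH) (Lpr_et (f44276 IH) (Lpn (LP (LK LD1_c2 LD2_c36 LD3_c25))))))))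
theorem f294822 : Led Lsl_at (LP (LK LD1_c2 LD2_c36 LD3_c41)) = (LP (LK LD1_c2 LD2_c36 LD3_c24)) :=
  Lgr Lrot26 (Lpr_ff (f294816 IH) (Lpr_gt (K14.f44275 IH) (Lpr_gt (K15.f44271 IH) (Lpn (LP (LK LD1_c2 LD2_c36 LD3_c24))))))
theorem f46295 : Led Lsl_bt (LP (LK LD1_c5 LD2_c20 LD3_c0)) = (LP (LK LD1_c2 LD2_c36 LD3_c41)) :=
  Lre_b IH (LK LD1_c5 LD2_c20 LD3_c0) (LK LD1_c2 LD2_c36 LD3_c41) Lrfl Lrfl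
theorem f294759 : Led Lsl_at (LP (LK LD1_c10 LD2_c29 LD3_c57)) = (LP (LK LD1_c5 LD2_c20 LD3_c0)) :=
  Lre_a IH (LK LD1_c10 LD2_c29 LD3_c57) (LK LD1_c5 LD2_c20 LD3_c0) Lrfl Lrfl
theorem f258959 : Led Lsl_bt (LP (LK LD1_c2 LD2_c36 LD3_c24)) = (LP (LK LD1_c5 LD2_c19 LD3_c28)) :=
  Lre_b IH (LK LD1_c2 LD2_c36 LD3_c24) (LK LD1_c5 LD2_c19 LD3_c28) Lrfl Lrfl
theorem f259041 : Led Lsl_at (LP (LK LD1_c5 LD2_c19 LD3_c28)) = (LP (LK LD1_c10 LD2_c28 LD3_c46)) :=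
  Lre_a IH (LK LD1_c5 LD2_c19 LD3_c28) (LK LD1_c10 LD2_c28 LD3_c46) Lrfl Lrfl
theorem f294824 : Led Lsl_bf (LP (LK LD1_c10 LD2_c29 LD3_c57)) = (LP (LK LD1_c10 LD2_c28 LD3_c46)) :=
  Lgr Lrot81 (Lpr_at (f294759 IH) (Lpr_bt (f46295 IH) (Lpr_at (f294822 IH) (Lpr_bt (f258959 IH) (Lpr_at (f259041 IH) (Lpn (LP (LK LD1_c10 LD2_c28 LD3_c46))))))))
theorem f294826 : Led Lsl_bt (LP (LK LD1_c10 LD2_c29 LD3_c57)) = (LP (LK LD1_c10 LD2_c28 LD3_c46)) :=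
  Lgr Lrot127 (Lpr_bf (f294824 IH) (Lpn (LP (LK LD1_c10 LD2_c28 LD3_c46))))
theorem f274990 : Led Lsl_ft (LP (LK LD1_c17 LD2_c45 LD3_c47)) = (LP (LK LD1_c9 LD2_c39 LD3_c31)) :=
  Lre_f IH (LK LD1_c17 LD2_c45 LD3_c47) (LK LD1_c9 LD2_c39 LD3_c31) Lrfl Lrfl
theorem f294722 : Led Lsl_cf (LP (LK LD1_c5 LD2_c20 LD3_c2)) = (LP (LK LD1_c9 LD2_c39 LD3_c31)) :=
  Lgr Lrot108 (Lpr_ft (f294721 IH) (Lpr_ct (f294712 IH) (Lpr_ft (f274990 IH) (Lpn (LP (LK LD1_c9 LD2_c39 LD3_c31))))))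
theorem f294725 : Led Lsl_bt (LP (LK LD1_c5 LD2_c20 LD3_c2)) = (LP (LK LD1_c10 LD2_c29 LD3_c59)) :=
  Lre_b IH (LK LD1_c5 LD2_c20 LD3_c2) (LK LD1_c10 LD2_c29 LD3_c59) Lrfl Lrfl
theorem f274999 : Led Lsl_bt (LP (LK LD1_c10 LD2_c21 LD3_c26)) = (LP (LK LD1_c5 LD2_c16 LD3_c0)) :=
  Lre_b IH (LK LD1_c10 LD2_c21 LD3_c26) (LK LD1_c5 LD2_c16 LD3_c0) Lrfl Lrfl
theorem f294726 : Led Lsl_ct (LP (LK LD1_c10 LD2_c29 LD3_c59)) = (LP (LK LD1_c10 LD2_c21 LD3_c26)) :=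
  Lgr Lrot83 (Lpe (f294725 IH) (Lpr_cf (f294722 IH) (Lpr_bf (f274985 IH) (Lpr_cf (K17.f184068 IH) (Lpe (f274999 IH) (Lpn (LP (LK LD1_c10 LD2_c21 LD3_c26))))))))
theorem f294737 : Led Lsl_et (LP (LK LD1_c5 LD2_c20 LD3_c0)) = (LP (LK LD1_c10 LD2_c29 LD3_c59)) :=
  Lre_e IH (LK LD1_c5 LD2_c20 LD3_c0) (LK LD1_c10 LD2_c29 LD3_c59) Lrfl Lrfl
theorem f294738 : Led Lsl_et (LP (LK LD1_c10 LD2_c21 LD3_c26)) = (LP (LK LD1_c5 LD2_c15 LD3_c60)) :=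
  Lre_e IH (LK LD1_c10 LD2_c21 LD3_c26) (LK LD1_c5 LD2_c15 LD3_c60) Lrfl Lrfl
theorem f294739 : Led Lsl_cf (LP (LK LD1_c5 LD2_c20 LD3_c0)) = (LP (LK LD1_c5 LD2_c15 LD3_c60)) :=
  Lgr Lrot39 (Lpr_et (f294737 IH) (Lpr_ct (f294726 IH) (Lpr_et (f294738 IH) (Lpn (LP (LK LD1_c5 LD2_c15 LD3_c60))))))
theorem f294753 : Led Lsl_at (LP (LK LD1_c5 LD2_c20 LD3_c0)) = (LP (LK LD1_c10 LD2_c29 LD3_c57)) :=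
  Lre_a IH (LK LD1_c5 LD2_c20 LD3_c0) (LK LD1_c10 LD2_c29 LD3_c57) Lrfl Lrfl
theorem f294754 : Led Lsl_at (LP (LK LD1_c10 LD2_c21 LD3_c24)) = (LP (LK LD1_c5 LD2_c15 LD3_c60)) :=
  Lre_a IH (LK LD1_c10 LD2_c21 LD3_c24) (LK LD1_c5 LD2_c15 LD3_c60) Lrfl Lrfl
theorem f294755 : Led Lsl_ct (LP (LK LD1_c10 LD2_c29 LD3_c57)) = (LP (LK LD1_c10 LD2_c21 LD3_c24)) :=
  Lgr Lrot111 (Lpe (f294753 IH) (Lpr_cf (f294739 IH) (Lpe (f294754 IH) (Lpn (LP (LK LD1_c10 LD2_c21 LD3_c24))))))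
theorem f294786 : Led Lsl_cf (LP (LK LD1_c10 LD2_c29 LD3_c57)) = (LP (LK LD1_c10 LD2_c21 LD3_c24)) :=
  Lgr Lrot11 (Lpr_ct (f294755 IH) (Lpn (LP (LK LD1_c10 LD2_c21 LD3_c24))))
theorem f259004 : Led Lsl_bt (LP (LK LD1_c10 LD2_c28 LD3_c48)) = (LP (LK LD1_c5 LD2_c19 LD3_c30)) :=
  Lre_b IH (LK LD1_c10 LD2_c28 LD3_c48) (LK LD1_c5 LD2_c19 LD3_c30) Lrfl Lrfl
theorem f258991 : Led Lsl_bt (LP (LK LD1_c8 LD2_c4 LD3_c9)) = (LP (LK LD1_c4 LD2_c1 LD3_c48)) :=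
  Lre_b IH (LK LD1_c8 LD2_c4 LD3_c9) (LK LD1_c4 LD2_c1 LD3_c48) Lrfl Lrfl
theorem f259005 : Led Lsl_ct (LP (LK LD1_c4 LD2_c1 LD3_c48)) = (LP (LK LD1_c8 LD2_c4 LD3_c12)) :=
  Lre_c IH (LK LD1_c4 LD2_c1 LD3_c48) (LK LD1_c8 LD2_c4 LD3_c12) Lrfl Lrfl
theorem f259006 : Led Lsl_bt (LP (LK LD1_c8 LD2_c4 LD3_c12)) = (LP (LK LD1_c15 LD2_c11 LD3_c30)) :=
  Lre_b IH (LK LD1_c8 LD2_c4 LD3_c12) (LK LD1_c15 LD2_c11 LD3_c30) Lrfl Lrfl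
theorem f259007 : Led Lsl_cf (LP (LK LD1_c10 LD2_c28 LD3_c48)) = (LP (LK LD1_c15 LD2_c11 LD3_c30)) :=
  Lgr Lrot97 (Lpr_bt (f259004 IH) (Lpr_ct (f258977 IH) (Lpr_bt (f258991 IH) (Lpr_ct (f259005 IH) (Lpr_bt (f259006 IH) (Lpn (LP (LK LD1_c15 LD2_c11 LD3_c30))))))))
theorem f259017 : Led Lsl_et (LP (LK LD1_c10 LD2_c28 LD3_c48)) = (LP (LK LD1_c5 LD2_c19 LD3_c28)) :=
  Lre_e IH (LK LD1_c10 LD2_c28 LD3_c48) (LK LD1_c5 LD2_c19 LD3_c28) Lrfl Lrfl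
theorem f259018 : Led Lsl_et (LP (LK LD1_c8 LD2_c4 LD3_c10)) = (LP (LK LD1_c15 LD2_c11 LD3_c30)) :=
  Lre_e IH (LK LD1_c8 LD2_c4 LD3_c10) (LK LD1_c15 LD2_c11 LD3_c30) Lrfl Lrfl
theorem f259019 : Led Lsl_ct (LP (LK LD1_c5 LD2_c19 LD3_c28)) = (LP (LK LD1_c8 LD2_c4 LD3_c10)) :=
  Lgr Lrot15 (Lpe (f259017 IH) (Lpr_cf (f259007 IH) (Lpe (f259018 IH) (Lpn (LP (LK LD1_c8 LD2_c4 LD3_c10))))))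
theorem f259026 : Led Lsl_at (LP (LK LD1_c10 LD2_c28 LD3_c46)) = (LP (LK LD1_c5 LD2_c19 LD3_c28)) :=
  Lre_a IH (LK LD1_c10 LD2_c28 LD3_c46) (LK LD1_c5 LD2_c19 LD3_c28) Lrfl Lrfl
theorem f259027 : Led Lsl_at (LP (LK LD1_c8 LD2_c4 LD3_c10)) = (LP (LK LD1_c15 LD2_c11 LD3_c28)) :=
  Lre_a IH (LK LD1_c8 LD2_c4 LD3_c10) (LK LD1_c15 LD2_c11 LD3_c28) Lrfl Lrfl
theorem f259028 : Led Lsl_cf (LP (LK LD1_c10 LD2_c28 LD3_c46)) = (LP (LK LD1_c15 LD2_c11 LD3_c28)) :=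
  Lgr Lrot1 (Lpr_at (f259026 IH) (Lpr_ct (f259019 IH) (Lpr_at (f259027 IH) (Lpn (LP (LK LD1_c15 LD2_c11 LD3_c28))))))
theorem f259037 : Led Lsl_ct (LP (LK LD1_c10 LD2_c28 LD3_c46)) = (LP (LK LD1_c15 LD2_c11 LD3_c28)) :=
  Lgr Lrot59 (Lpr_cf (f259028 IH) (Lpn (LP (LK LD1_c15 LD2_c11 LD3_c28))))
theorem f258951 : Led Lsl_bt (LP (LK LD1_c4 LD2_c1 LD3_c47)) = (LP (LK LD1_c8 LD2_c4 LD3_c10)) :=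
  Lre_b IH (LK LD1_c4 LD2_c1 LD3_c47) (LK LD1_c8 LD2_c4 LD3_c10) Lrfl Lrfl
theorem f197182 : Led Lsl_bt (LP (LK LD1_c5 LD2_c8 LD3_c58)) = (LP (LK LD1_c2 LD2_c31 LD3_c39)) :=
  Lre_b IH (LK LD1_c5 LD2_c8 LD3_c58) (LK LD1_c2 LD2_c31 LD3_c39) Lrfl Lrfl
theorem f287173 : Led Lsl_at (LP (LK LD1_c10 LD2_c8 LD3_c22)) = (LP (LK LD1_c5 LD2_c8 LD3_c58)) :=
  Lre_a IH (LK LD1_c10 LD2_c8 LD3_c22) (LK LD1_c5 LD2_c8 LD3_c58) Lrfl Lrfl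
theorem f287174 : Led Lsl_bt (LP (LK LD1_c15 LD2_c11 LD3_c28)) = (LP (LK LD1_c10 LD2_c8 LD3_c22)) :=
  Lgr Lrot62 (Lpe (f259027 IH) (Lpe (f258951 IH) (Lpr_af (K17.f287169 IH) (Lpe (f197182 IH) (Lpe (f287173 IH) (Lpn (LP (LK LD1_c10 LD2_c8 LD3_c22))))))))
theorem f294828 : Led Lsl_ct (LP (LK LD1_c10 LD2_c8 LD3_c22)) = (LP (LK LD1_c18 LD2_c27 LD3_c52)) :=
  Lre_c IH (LK LD1_c10 LD2_c8 LD3_c22) (LK LD1_c18 LD2_c27 LD3_c52) Lrfl Lrfl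
theorem f294829 : Led Lsl_bf (LP (LK LD1_c10 LD2_c21 LD3_c24)) = (LP (LK LD1_c18 LD2_c27 LD3_c52)) :=
  Lgr Lrot90 (Lpe (f294786 IH) (Lpr_bt (f294826 IH) (Lpr_ct (f259037 IH) (Lpr_bt (f287174 IH) (Lpr_ct (f294828 IH) (Lpn (LP (LK LD1_c18 LD2_c27 LD3_c52))))))))
theorem f294788 : Led Lsl_dt (LP (LK LD1_c10 LD2_c21 LD3_c24)) = (LP (LK LD1_c18 LD2_c47 LD3_c44)) :=
  Lre_d IH (LK LD1_c10 LD2_c21 LD3_c24) (LK LD1_c18 LD2_c47 LD3_c44) Lrfl Lrfl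
theorem f294836 : Led Lsl_dt (LP (LK LD1_c28 LD2_c2 LD3_c40)) = (LP (LK LD1_c18 LD2_c27 LD3_c52)) :=
  Lre_d IH (LK LD1_c28 LD2_c2 LD3_c40) (LK LD1_c18 LD2_c27 LD3_c52) Lrfl Lrfl
theorem f294837 : Led Lsl_bt (LP (LK LD1_c18 LD2_c47 LD3_c44)) = (LP (LK LD1_c28 LD2_c2 LD3_c40)) :=
  Lgr Lrot95 (Lpe (f294788 IH) (Lpr_bf (f294829 IH) (Lpe (f294836 IH) (Lpn (LP (LK LD1_c28 LD2_c2 LD3_c40))))))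
theorem f294846 : Led Lsl_bf (LP (LK LD1_c18 LD2_c47 LD3_c44)) = (LP (LK LD1_c28 LD2_c2 LD3_c40)) :=
  Lgr Lrot24 (Lpr_bt (f294837 IH) (Lpn (LP (LK LD1_c28 LD2_c2 LD3_c40))))
theorem f294848 : Led Lsl_at (LP (LK LD1_c18 LD2_c47 LD3_c44)) = (LP (LK LD1_c10 LD2_c21 LD3_c25)) :=
  Lre_a IH (LK LD1_c18 LD2_c47 LD3_c44) (LK LD1_c10 LD2_c21 LD3_c25) Lrfl Lrfl
theorem f231923 : Led Lsl_bt (LP (LK LD1_c10 LD2_c21 LD3_c25)) = (LP (LK LD1_c5 LD2_c15 LD3_c61)) :=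
  Lre_b IH (LK LD1_c10 LD2_c21 LD3_c25) (LK LD1_c5 LD2_c15 LD3_c61) Lrfl Lrfl
theorem f294849 : Led Lsl_at (LP (LK LD1_c18 LD2_c27 LD3_c53)) = (LP (LK LD1_c28 LD2_c2 LD3_c40)) :=
  Lre_a IH (LK LD1_c18 LD2_c27 LD3_c53) (LK LD1_c28 LD2_c2 LD3_c40) Lrfl Lrfl
theorem f294850 : Led Lsl_bt (LP (LK LD1_c10 LD2_c8 LD3_c15)) = (LP (LK LD1_c18 LD2_c27 LD3_c53)) :=
  Lre_b IH (LK LD1_c10 LD2_c8 LD3_c15) (LK LD1_c18 LD2_c27 LD3_c53) Lrfl Lrfl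
theorem f294851 : Led Lsl_at (LP (LK LD1_c5 LD2_c15 LD3_c61)) = (LP (LK LD1_c10 LD2_c8 LD3_c15)) :=
  Lgr Lrot67 (Lpe (f231923 IH) (Lpe (f294848 IH) (Lpr_bf (f294846 IH) (Lpe (f294849 IH) (Lpe (f294850 IH) (Lpn (LP (LK LD1_c10 LD2_c8 LD3_c15))))))))
theorem f195800 : Led Lsl_dt (LP (LK LD1_c2 LD2_c39 LD3_c38)) = (LP (LK LD1_c5 LD2_c26 LD3_c25)) :=
  Lre_d IH (LK LD1_c2 LD2_c39 LD3_c38) (LK LD1_c5 LD2_c26 LD3_c25) Lrfl Lrfl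
theorem f35072 : Led Lsl_dt (LP (LK LD1_c5 LD2_c15 LD3_c6)) = (LP (LK LD1_c10 LD2_c19 LD3_c41)) :=
  Lre_d IH (LK LD1_c5 LD2_c15 LD3_c6) (LK LD1_c10 LD2_c19 LD3_c41) Lrfl Lrfl
theorem f252283 : Led Lsl_ct (LP (LK LD1_c5 LD2_c26 LD3_c25)) = (LP (LK LD1_c10 LD2_c19 LD3_c41)) :=
  Lgr Lrot7 (Lpe (f195800 IH) (Lpr_gf (K11.f195795 IH) (Lpe (K14.f49442 IH) (Lpr_gf (K15.f252279 IH) (Lpr_cf (K14.f252234 IH) (Lpr_gt (K14.f190914 IH) (Lpr_dt (K15.f32912 IH) (Lpr_gt (K10.f32893 IH) (Lpr_dt (f35072 IH) (Lpn (LP (LK LD1_c10 LD2_c19 LD3_c41))))))))))))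
theorem f183501 : Led Lsl_dt (LP (LK LD1_c2 LD2_c59 LD3_c15)) = (LP (LK LD1_c6 LD2_c6 LD3_c19)) :=
  Lre_d IH (LK LD1_c2 LD2_c59 LD3_c15) (LK LD1_c6 LD2_c6 LD3_c19) Lrfl Lrfl
theorem f48405 : Led Lsl_dt (LP (LK LD1_c2 LD2_c34 LD3_c49)) = (LP (LK LD1_c5 LD2_c15 LD3_c61)) :=
  Lre_d IH (LK LD1_c2 LD2_c34 LD3_c49) (LK LD1_c5 LD2_c15 LD3_c61) Lrfl Lrfl
theorem f231917 : Led Lsl_cf (LP (LK LD1_c6 LD2_c6 LD3_c19)) = (LP (LK LD1_c5 LD2_c15 LD3_c61)) :=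
  Lgr Lrot14 (Lpe (f183501 IH) (Lpe (K11.f183496 IH) (Lpe (K15.f231872 IH) (Lpr_gf (K15.f231913 IH) (Lpe (K15.f231886 IH) (Lpr_gt (K15.f45223 IH) (Lpr_dt (K10.f45391 IH) (Lpr_gt (K9.f47574 IH) (Lpr_dt (f48405 IH) (Lpn (LP (LK LD1_c5 LD2_c15 LD3_c61))))))))))))
theorem f286019 : Led Lsl_ft (LP (LK LD1_c10 LD2_c19 LD3_c41)) = (LP (LK LD1_c5 LD2_c15 LD3_c61)) :=
  Lgr Lrot4 (Lpe (f252283 IH) (Lpr_ff (K17.f286016 IH) (Lpr_cf (f231917 IH) (Lpn (LP (LK LD1_c5 LD2_c15 LD3_c61))))))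
theorem f252285 : Led Lsl_cf (LP (LK LD1_c5 LD2_c26 LD3_c25)) = (LP (LK LD1_c10 LD2_c19 LD3_c41)) :=
  Lgr Lrot14 (Lpe (f195800 IH) (Lpr_gf (K11.f195795 IH) (Lpe (K14.f49442 IH) (Lpr_gf (K15.f252279 IH) (Lpr_ct (K14.f252237 IH) (Lpr_gt (K14.f190914 IH) (Lpr_dt (K15.f32912 IH) (Lpr_gt (K10.f32893 IH) (Lpr_dt (f35072 IH) (Lpn (LP (LK LD1_c10 LD2_c19 LD3_c41))))))))))))
theorem f231686 : Led Lsl_dt (LP (LK LD1_c4 LD2_c14 LD3_c57)) = (LP (LK LD1_c8 LD2_c28 LD3_c47)) :=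
  Lre_d IH (LK LD1_c4 LD2_c14 LD3_c57) (LK LD1_c8 LD2_c28 LD3_c47) Lrfl Lrfl
theorem f45505 : Led Lsl_dt (LP (LK LD1_c5 LD2_c15 LD3_c61)) = (LP (LK LD1_c2 LD2_c34 LD3_c49)) :=
  Lre_d IH (LK LD1_c5 LD2_c15 LD3_c61) (LK LD1_c2 LD2_c34 LD3_c49) Lrfl Lrfl
theorem f231915 : Led Lsl_ct (LP (LK LD1_c6 LD2_c6 LD3_c19)) = (LP (LK LD1_c5 LD2_c15 LD3_c61)) :=
  Lgr Lrot7 (Lpe (f183501 IH) (Lpe (K11.f183496 IH) (Lpe (K15.f231872 IH) (Lpr_gf (K15.f231913 IH) (Lpe (K15.f231896 IH) (Lpr_gt (K15.f45223 IH) (Lpr_dt (K10.f45391 IH) (Lpr_gt (K9.f47574 IH) (Lpr_dt (f48405 IH) (Lpn (LP (LK LD1_c5 LD2_c15 LD3_c61))))))))))))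
theorem f27378 : Led Lsl_et (LP (LK LD1_c0 LD2_c27 LD3_c5)) = (LP (LK LD1_c0 LD2_c12 LD3_c0)) :=
  Lre_e IH (LK LD1_c0 LD2_c27 LD3_c5) (LK LD1_c0 LD2_c12 LD3_c0) Lrfl Lrfl
theorem f197519 : Led Lsl_df (LP (LK LD1_c1 LD2_c25 LD3_c20)) = (LP (LK LD1_c1 LD2_c2 LD3_c43)) :=
  Lgr Lrot170 (Lpr_gt (K9.f183491 IH) (Lpe (K10.f27379 IH) (Lpr_et (f27378 IH) (Lpe (K1.f27376 IH) (Lpe (K1.f763 IH) (Lpe (K1.f47532 IH) (Lpr_df (K9.f47731 IH) (Lpr_et (K9.f47734 IH) (Lpr_gt (K13.f197449 IH) (Lpe (K12.f173249 IH) (Lpn (LP (LK LD1_c1 LD2_c2 LD3_c43)))))))))))))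
theorem f45421 : Led Lsl_dt (LP (LK LD1_c5 LD2_c16 LD3_c2)) = (LP (LK LD1_c2 LD2_c34 LD3_c50)) :=
  Lre_d IH (LK LD1_c5 LD2_c16 LD3_c2) (LK LD1_c2 LD2_c34 LD3_c50) Lrfl Lrfl
theorem f266303 : Led Lsl_ct (LP (LK LD1_c8 LD2_c28 LD3_c47)) = (LP (LK LD1_c5 LD2_c16 LD3_c2)) :=
  Lgr Lrot176 (Lpe (f231686 IH) (Lpe (K13.f183672 IH) (Lpr_df (K15.f266301 IH) (Lpe (K15.f266290 IH) (Lpe (K16.f266288 IH) (Lpr_cf (K13.f184065 IH) (Lpe (f45505 IH) (Lpe (f231915 IH) (Lpe (f183501 IH) (Lpe (K11.f183357 IH) (Lpr_df (f197519 IH) (Lpr_cf (K12.f173246 IH) (Lpr_df (K14.f193234 IH) (Lpe (K15.f180773 IH) (Lpe (f45421 IH) (Lpn (LP (LK LD1_c5 LD2_c16 LD3_c2))))))))))))))))))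
theorem f286025 : Led Lsl_af (LP (LK LD1_c10 LD2_c19 LD3_c41)) = (LP (LK LD1_c5 LD2_c16 LD3_c2)) :=
  Lgr Lrot68 (Lpe (f252285 IH) (Lpr_at (K17.f286021 IH) (Lpr_ct (f266303 IH) (Lpn (LP (LK LD1_c5 LD2_c16 LD3_c2))))))
theorem f294860 : Led Lsl_ff (LP (LK LD1_c5 LD2_c16 LD3_c2)) = (LP (LK LD1_c10 LD2_c8 LD3_c15)) :=
  Lgr Lrot30 (Lpe (f286025 IH) (Lpr_ft (f286019 IH) (Lpr_at (f294851 IH) (Lpn (LP (LK LD1_c10 LD2_c8 LD3_c15))))))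
theorem f294870 : Led Lsl_ft (LP (LK LD1_c5 LD2_c16 LD3_c2)) = (LP (LK LD1_c10 LD2_c8 LD3_c15)) :=
  Lgr Lrot48 (Lpr_ff (f294860 IH) (Lpn (LP (LK LD1_c10 LD2_c8 LD3_c15))))
theorem f173240 : Led Lsl_ft (LP (LK LD1_c2 LD2_c11 LD3_c30)) = (LP (LK LD1_c1 LD2_c2 LD3_c43)) :=
  Lre_f IH (LK LD1_c2 LD2_c11 LD3_c30) (LK LD1_c1 LD2_c2 LD3_c43) Lrfl Lrfl
theorem f285734 : Led Lsl_df (LP (LK LD1_c2 LD2_c11 LD3_c30)) = (LP (LK LD1_c1 LD2_c16 LD3_c35)) :=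
  Lgr Lrot78 (Lpr_ft (f173240 IH) (Lpe (f197519 IH) (Lpr_ft (K17.f285726 IH) (Lpn (LP (LK LD1_c1 LD2_c16 LD3_c35))))))
theorem f8513 : Led Lsl_ct (LP (LK LD1_c2 LD2_c39 LD3_c38)) = (LP (LK LD1_c1 LD2_c16 LD3_c35)) :=
  Lre_c IH (LK LD1_c2 LD2_c39 LD3_c38) (LK LD1_c1 LD2_c16 LD3_c35) Lrfl Lrfl
theorem f8514 : Led Lsl_dt (LP (LK LD1_c5 LD2_c26 LD3_c25)) = (LP (LK LD1_c2 LD2_c39 LD3_c38)) :=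
  Lre_d IH (LK LD1_c5 LD2_c26 LD3_c25) (LK LD1_c2 LD2_c39 LD3_c38) Lrfl Lrfl
theorem f45365 : Led Lsl_ct (LP (LK LD1_c4 LD2_c15 LD3_c11)) = (LP (LK LD1_c2 LD2_c4 LD3_c60)) :=
  Lre_c IH (LK LD1_c4 LD2_c15 LD3_c11) (LK LD1_c2 LD2_c4 LD3_c60) Lrfl Lrfl
theorem f45372 : Led Lsl_dt (LP (LK LD1_c8 LD2_c29 LD3_c15)) = (LP (LK LD1_c4 LD2_c15 LD3_c11)) :=
  Lre_d IH (LK LD1_c8 LD2_c29 LD3_c15) (LK LD1_c4 LD2_c15 LD3_c11) Lrfl Lrfl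
theorem f197065 : Led Lsl_dt (LP (LK LD1_c5 LD2_c8 LD3_c56)) = (LP (LK LD1_c10 LD2_c8 LD3_c15)) :=
  Lre_d IH (LK LD1_c5 LD2_c8 LD3_c56) (LK LD1_c10 LD2_c8 LD3_c15) Lrfl Lrfl
theorem f285788 : Led Lsl_cf (LP (LK LD1_c8 LD2_c29 LD3_c15)) = (LP (LK LD1_c10 LD2_c8 LD3_c15)) :=
  Lgr Lrot55 (Lpr_dt (f45372 IH) (Lpr_ct (f45365 IH) (Lpe (K17.f220590 IH) (Lpr_ct (K15.f219935 IH) (Lpe (K12.f219933 IH) (Lpe (K10.f49484 IH) (Lpr_dt (f35072 IH) (Lpe (f252285 IH) (Lpr_dt (f8514 IH) (Lpr_ct (f8513 IH) (Lpe (f285734 IH) (Lpr_ct (K12.f173238 IH) (Lpr_dt (K17.f285782 IH) (Lpr_ct (K10.f33994 IH) (Lpr_dt (f197065 IH) (Lpn (LP (LK LD1_c10 LD2_c8 LD3_c15))))))))))))))))))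
theorem f294874 : Led Lsl_ff (LP (LK LD1_c8 LD2_c28 LD3_c47)) = (LP (LK LD1_c8 LD2_c29 LD3_c15)) :=
  Lgr Lrot23 (Lpr_ct (f266303 IH) (Lpr_ft (f294870 IH) (Lpe (f285788 IH) (Lpn (LP (LK LD1_c8 LD2_c29 LD3_c15))))))
theorem f45373 : Led Lsl_dt (LP (LK LD1_c4 LD2_c15 LD3_c11)) = (LP (LK LD1_c8 LD2_c29 LD3_c15)) :=
  Lre_d IH (LK LD1_c4 LD2_c15 LD3_c11) (LK LD1_c8 LD2_c29 LD3_c15) Lrfl Lrfl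
theorem f294879 : Led Lsl_ft (LP (LK LD1_c4 LD2_c14 LD3_c57)) = (LP (LK LD1_c4 LD2_c15 LD3_c11)) :=
  Lgr Lrot54 (Lpe (K17.f231681 IH) (Lpr_ff (f294874 IH) (Lpe (f45373 IH) (Lpn (LP (LK LD1_c4 LD2_c15 LD3_c11))))))
theorem f294888 : Led Lsl_ff (LP (LK LD1_c4 LD2_c14 LD3_c57)) = (LP (LK LD1_c4 LD2_c15 LD3_c11)) :=
  Lgr Lrot3 (Lpr_ft (f294879 IH) (Lpn (LP (LK LD1_c4 LD2_c15 LD3_c11))))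
theorem f286027 : Led Lsl_af (LP (LK LD1_c2 LD2_c39 LD3_c38)) = (LP (LK LD1_c4 LD2_c14 LD3_c57)) :=
  Lgr Lrot117 (Lpr_dt (f195800 IH) (Lpr_at (K17.f286021 IH) (Lpr_dt (K17.f231681 IH) (Lpn (LP (LK LD1_c4 LD2_c14 LD3_c57))))))
theorem f285732 : Led Lsl_ff (LP (LK LD1_c2 LD2_c59 LD3_c15)) = (LP (LK LD1_c2 LD2_c39 LD3_c38)) :=
  Lgr Lrot23 (Lpr_ct (K13.f55920 IH) (Lpr_ft (K17.f285726 IH) (Lpr_ct (K11.f8517 IH) (Lpn (LP (LK LD1_c2 LD2_c39 LD3_c38))))))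
theorem f294890 : Led Lsl_at (LP (LK LD1_c2 LD2_c59 LD3_c15)) = (LP (LK LD1_c4 LD2_c15 LD3_c11)) :=
  Lgr Lrot66 (Lpr_ff (f285732 IH) (Lpr_af (f286027 IH) (Lpr_ff (f294888 IH) (Lpn (LP (LK LD1_c4 LD2_c15 LD3_c11))))))
theorem f183745 : Led Lsl_et (LP (LK LD1_c6 LD2_c6 LD3_c20)) = (LP (LK LD1_c2 LD2_c59 LD3_c15)) :=
  Lre_e IH (LK LD1_c6 LD2_c6 LD3_c20) (LK LD1_c2 LD2_c59 LD3_c15) Lrfl Lrfl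
theorem f257395 : Led Lsl_et (LP (LK LD1_c4 LD2_c15 LD3_c11)) = (LP (LK LD1_c8 LD2_c29 LD3_c16)) :=
  Lre_e IH (LK LD1_c4 LD2_c15 LD3_c11) (LK LD1_c8 LD2_c29 LD3_c16) Lrfl Lrfl
theorem f294966 : Led Lsl_af (LP (LK LD1_c6 LD2_c6 LD3_c20)) = (LP (LK LD1_c8 LD2_c29 LD3_c16)) :=
  Lgr Lrot50 (Lpr_et (f183745 IH) (Lpr_at (f294890 IH) (Lpr_et (f257395 IH) (Lpn (LP (LK LD1_c8 LD2_c29 LD3_c16))))))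
theorem f197529 : Led Lsl_ct (LP (LK LD1_c6 LD2_c6 LD3_c20)) = (LP (LK LD1_c2 LD2_c59 LD3_c16)) :=
  Lre_c IH (LK LD1_c6 LD2_c6 LD3_c20) (LK LD1_c2 LD2_c59 LD3_c16) Lrfl Lrfl
theorem f190057 : Led Lsl_ct (LP (LK LD1_c4 LD2_c15 LD3_c12)) = (LP (LK LD1_c8 LD2_c29 LD3_c16)) :=
  Lre_c IH (LK LD1_c4 LD2_c15 LD3_c12) (LK LD1_c8 LD2_c29 LD3_c16) Lrfl Lrfl
theorem f294970 : Led Lsl_at (LP (LK LD1_c2 LD2_c59 LD3_c16)) = (LP (LK LD1_c4 LD2_c15 LD3_c12)) :=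
  Lgr Lrot107 (Lpe (f197529 IH) (Lpr_af (f294966 IH) (Lpe (f190057 IH) (Lpn (LP (LK LD1_c4 LD2_c15 LD3_c12))))))
theorem f197536 : Led Lsl_ft (LP (LK LD1_c6 LD2_c6 LD3_c23)) = (LP (LK LD1_c2 LD2_c59 LD3_c16)) :=
  Lre_f IH (LK LD1_c6 LD2_c6 LD3_c23) (LK LD1_c2 LD2_c59 LD3_c16) Lrfl Lrfl
theorem f190077 : Led Lsl_gt (LP (LK LD1_c8 LD2_c16 LD3_c3)) = (LP (LK LD1_c4 LD2_c8 LD3_c1)) :=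
  Lre_g IH (LK LD1_c8 LD2_c16 LD3_c3) (LK LD1_c4 LD2_c8 LD3_c1) Lrfl Lrfl
theorem f285555 : Led Lsl_gt (LP (LK LD1_c5 LD2_c26 LD3_c48)) = (LP (LK LD1_c8 LD2_c16 LD3_c3)) :=
  Lgr Lrot5 (Lpr_ft (K17.f285532 IH) (Lpr_at (K17.f285542 IH) (Lpe (f190077 IH) (Lpn (LP (LK LD1_c8 LD2_c16 LD3_c3))))))
theorem f283113 : Led Lsl_df (LP (LK LD1_c4 LD2_c16 LD3_c0)) = (LP (LK LD1_c6 LD2_c6 LD3_c3)) :=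
  Lgr Lrot38 (Lpr_dt (K17.f283108 IH) (Lpn (LP (LK LD1_c6 LD2_c6 LD3_c3))))
theorem f244887 : Led Lsl_ft (LP (LK LD1_c5 LD2_c27 LD3_c35)) = (LP (LK LD1_c2 LD2_c40 LD3_c8)) :=
  Lre_f IH (LK LD1_c5 LD2_c27 LD3_c35) (LK LD1_c2 LD2_c40 LD3_c8) Lrfl Lrfl
theorem f282938 : Led Lsl_df (LP (LK LD1_c5 LD2_c27 LD3_c35)) = (LP (LK LD1_c8 LD2_c16 LD3_c4)) :=
  Lgr Lrot78 (Lpr_ft (f244887 IH) (Lpr_dt (K17.f282926 IH) (Lpr_ft (K17.f190073 IH) (Lpn (LP (LK LD1_c8 LD2_c16 LD3_c4))))))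
theorem f282959 : Led Lsl_dt (LP (LK LD1_c5 LD2_c27 LD3_c35)) = (LP (LK LD1_c8 LD2_c16 LD3_c4)) :=
  Lgr Lrot42 (Lpr_df (f282938 IH) (Lpn (LP (LK LD1_c8 LD2_c16 LD3_c4))))
theorem f282918 : Led Lsl_bf (LP (LK LD1_c5 LD2_c27 LD3_c35)) = (LP (LK LD1_c8 LD2_c6 LD3_c7)) :=
  Lgr Lrot24 (Lpr_bt (K17.f282912 IH) (Lpn (LP (LK LD1_c8 LD2_c6 LD3_c7))))
theorem f190059 : Led Lsl_ft (LP (LK LD1_c4 LD2_c15 LD3_c12)) = (LP (LK LD1_c8 LD2_c29 LD3_c18)) :=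
  Lre_f IH (LK LD1_c4 LD2_c15 LD3_c12) (LK LD1_c8 LD2_c29 LD3_c18) Lrfl Lrfl
theorem f190061 : Led Lsl_bt (LP (LK LD1_c8 LD2_c29 LD3_c18)) = (LP (LK LD1_c8 LD2_c16 LD3_c4)) :=
  Lgr Lrot35 (Lpe (f190059 IH) (Lpr_bf (K17.f190053 IH) (Lpe (K17.f190060 IH) (Lpn (LP (LK LD1_c8 LD2_c16 LD3_c4))))))
theorem f190068 : Led Lsl_bf (LP (LK LD1_c8 LD2_c29 LD3_c18)) = (LP (LK LD1_c8 LD2_c16 LD3_c4)) :=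
  Lgr Lrot24 (Lpr_bt (f190061 IH) (Lpn (LP (LK LD1_c8 LD2_c16 LD3_c4))))
theorem f282969 : Led Lsl_df (LP (LK LD1_c8 LD2_c6 LD3_c7)) = (LP (LK LD1_c8 LD2_c29 LD3_c18)) :=
  Lgr Lrot12 (Lpe (f282918 IH) (Lpr_dt (f282959 IH) (Lpe (f190068 IH) (Lpn (LP (LK LD1_c8 LD2_c29 LD3_c18))))))
theorem f282976 : Led Lsl_dt (LP (LK LD1_c4 LD2_c2 LD3_c46)) = (LP (LK LD1_c4 LD2_c15 LD3_c12)) :=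
  Lgr Lrot60 (Lpe (K17.f222661 IH) (Lpr_df (f282969 IH) (Lpe (f190059 IH) (Lpn (LP (LK LD1_c4 LD2_c15 LD3_c12))))))
theorem f244888 : Led Lsl_et (LP (LK LD1_c2 LD2_c40 LD3_c8)) = (LP (LK LD1_c1 LD2_c16 LD3_c49)) :=
  Lre_e IH (LK LD1_c2 LD2_c40 LD3_c8) (LK LD1_c1 LD2_c16 LD3_c49) Lrfl Lrfl
theorem f185887 : Led Lsl_gt (LP (LK LD1_c1 LD2_c17 LD3_c36)) = (LP (LK LD1_c2 LD2_c41 LD3_c54)) :=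
  Lre_g IH (LK LD1_c1 LD2_c17 LD3_c36) (LK LD1_c2 LD2_c41 LD3_c54) Lrfl Lrfl
theorem f259257 : Led Lsl_et (LP (LK LD1_c5 LD2_c31 LD3_c21)) = (LP (LK LD1_c2 LD2_c41 LD3_c54)) :=
  Lre_e IH (LK LD1_c5 LD2_c31 LD3_c21) (LK LD1_c2 LD2_c41 LD3_c54) Lrfl Lrfl
theorem f282944 : Led Lsl_dt (LP (LK LD1_c5 LD2_c31 LD3_c21)) = (LP (LK LD1_c8 LD2_c16 LD3_c3)) :=
  Lgr Lrot136 (Lpr_et (f259257 IH) (Lpe (f185887 IH) (Lpe (K15.f212208 IH) (Lpr_dt (K14.f212217 IH) (Lpr_gf (K15.f259248 IH) (Lpe (K16.f190837 IH) (Lpr_gf (K17.f282798 IH) (Lpe (f244888 IH) (Lpr_dt (K17.f282926 IH) (Lpe (f190077 IH) (Lpn (LP (LK LD1_c8 LD2_c16 LD3_c3)))))))))))))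
theorem f282950 : Led Lsl_df (LP (LK LD1_c5 LD2_c31 LD3_c21)) = (LP (LK LD1_c8 LD2_c16 LD3_c3)) :=
  Lgr Lrot38 (Lpr_dt (f282944 IH) (Lpn (LP (LK LD1_c8 LD2_c16 LD3_c3))))
theorem f285557 : Led Lsl_gf (LP (LK LD1_c4 LD2_c15 LD3_c12)) = (LP (LK LD1_c5 LD2_c31 LD3_c21)) :=
  Lgr Lrot134 (Lpe (f282976 IH) (Lpr_et (K17.f220592 IH) (Lpe (K12.f220582 IH) (Lpe (K14.f220683 IH) (Lpr_dt (K14.f220573 IH) (Lpr_gt (K17.f1383 IH) (Lpr_df (f283113 IH) (Lpe (K17.f285525 IH) (Lpr_gt (f285555 IH) (Lpe (f282950 IH) (Lpn (LP (LK LD1_c5 LD2_c31 LD3_c21)))))))))))))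
theorem f294980 : Led Lsl_gt (LP (LK LD1_c6 LD2_c6 LD3_c23)) = (LP (LK LD1_c5 LD2_c31 LD3_c21)) :=
  Lgr Lrot5 (Lpr_ft (f197536 IH) (Lpr_at (f294970 IH) (Lpr_gf (f285557 IH) (Lpn (LP (LK LD1_c5 LD2_c31 LD3_c21))))))
theorem f183500 : Led Lsl_et (LP (LK LD1_c2 LD2_c59 LD3_c16)) = (LP (LK LD1_c1 LD2_c25 LD3_c20)) :=
  Lre_e IH (LK LD1_c2 LD2_c59 LD3_c16) (LK LD1_c1 LD2_c25 LD3_c20) Lrfl Lrfl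
theorem f285620 : Led Lsl_et (LP (LK LD1_c1 LD2_c16 LD3_c35)) = (LP (LK LD1_c2 LD2_c39 LD3_c39)) :=
  Lre_e IH (LK LD1_c1 LD2_c16 LD3_c35) (LK LD1_c2 LD2_c39 LD3_c39) Lrfl Lrfl
theorem f285736 : Led Lsl_ft (LP (LK LD1_c2 LD2_c39 LD3_c39)) = (LP (LK LD1_c5 LD2_c26 LD3_c29)) :=
  Lre_f IH (LK LD1_c2 LD2_c39 LD3_c39) (LK LD1_c5 LD2_c26 LD3_c29) Lrfl Lrfl
theorem f285737 : Led Lsl_ef (LP (LK LD1_c6 LD2_c6 LD3_c23)) = (LP (LK LD1_c5 LD2_c26 LD3_c29)) :=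
  Lgr Lrot21 (Lpr_ft (f197536 IH) (Lpr_et (f183500 IH) (Lpr_ft (K17.f285726 IH) (Lpr_et (f285620 IH) (Lpr_ft (f285736 IH) (Lpn (LP (LK LD1_c5 LD2_c26 LD3_c29))))))))
theorem f577 : Led Lsl_gt (LP (LK LD1_c2 LD2_c1 LD3_c57)) = (LP (LK LD1_c4 LD2_c9 LD3_c10)) :=
  Lre_g IH (LK LD1_c2 LD2_c1 LD3_c57) (LK LD1_c4 LD2_c9 LD3_c10) Lrfl Lrfl
theorem f294982 : Led Lsl_dt (LP (LK LD1_c5 LD2_c26 LD3_c29)) = (LP (LK LD1_c4 LD2_c9 LD3_c10)) :=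
  Lgr Lrot37 (Lpe (f285737 IH) (Lpr_gt (f294980 IH) (Lpr_dt (f282944 IH) (Lpr_gt (f190077 IH) (Lpe (K17.f282926 IH) (Lpr_et (f244888 IH) (Lpe (K17.f282798 IH) (Lpe (K17.f236266 IH) (Lpr_dt (K17.f236267 IH) (Lpr_gt (f577 IH) (Lpn (LP (LK LD1_c4 LD2_c9 LD3_c10)))))))))))))
theorem f245995 : Led Lsl_ct (LP (LK LD1_c10 LD2_c44 LD3_c6)) = (LP (LK LD1_c5 LD2_c26 LD3_c29)) :=
  Lre_c IH (LK LD1_c10 LD2_c44 LD3_c6) (LK LD1_c5 LD2_c26 LD3_c29) Lrfl Lrfl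
theorem f245133 : Led Lsl_dt (LP (LK LD1_c19 LD2_c25 LD3_c37)) = (LP (LK LD1_c10 LD2_c44 LD3_c6)) :=
  Lre_d IH (LK LD1_c19 LD2_c25 LD3_c37) (LK LD1_c10 LD2_c44 LD3_c6) Lrfl Lrfl
theorem f245134 : Led Lsl_ft (LP (LK LD1_c19 LD2_c25 LD3_c37)) = (LP (LK LD1_c10 LD2_c44 LD3_c5)) :=
  Lre_f IH (LK LD1_c19 LD2_c25 LD3_c37) (LK LD1_c10 LD2_c44 LD3_c5) Lrfl Lrfl
theorem f286042 : Led Lsl_at (LP (LK LD1_c10 LD2_c44 LD3_c5)) = (LP (LK LD1_c15 LD2_c55 LD3_c22)) :=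
  Lgr Lrot100 (Lpr_af (K17.f286040 IH) (Lpn (LP (LK LD1_c15 LD2_c55 LD3_c22))))
theorem f236283 : Led Lsl_ct (LP (LK LD1_c25 LD2_c51 LD3_c39)) = (LP (LK LD1_c15 LD2_c55 LD3_c22)) :=
  Lre_c IH (LK LD1_c25 LD2_c51 LD3_c39) (LK LD1_c15 LD2_c55 LD3_c22) Lrfl Lrfl
theorem f292391 : Led Lsl_ct (LP (LK LD1_c4 LD2_c9 LD3_c10)) = (LP (LK LD1_c8 LD2_c18 LD3_c24)) :=
  Lre_c IH (LK LD1_c4 LD2_c9 LD3_c10) (LK LD1_c8 LD2_c18 LD3_c24) Lrfl Lrfl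
theorem f294986 : Led Lsl_dt (LP (LK LD1_c8 LD2_c18 LD3_c24)) = (LP (LK LD1_c15 LD2_c37 LD3_c24)) :=
  Lre_d IH (LK LD1_c8 LD2_c18 LD3_c24) (LK LD1_c15 LD2_c37 LD3_c24) Lrfl Lrfl
theorem f294987 : Led Lsl_ct (LP (LK LD1_c15 LD2_c37 LD3_c24)) = (LP (LK LD1_c25 LD2_c32 LD3_c13)) :=
  Lre_c IH (LK LD1_c15 LD2_c37 LD3_c24) (LK LD1_c25 LD2_c32 LD3_c13) Lrfl Lrfl
theorem f294992 : Led Lsl_df (LP (LK LD1_c25 LD2_c51 LD3_c39)) = (LP (LK LD1_c25 LD2_c32 LD3_c13)) :=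
  Lgr Lrot177 (Lpr_ct (f236283 IH) (Lpe (f286042 IH) (Lpe (f245134 IH) (Lpr_dt (f245133 IH) (Lpr_ct (f245995 IH) (Lpr_dt (f294982 IH) (Lpr_ct (f292391 IH) (Lpr_dt (f294986 IH) (Lpr_ct (f294987 IH) (Lpn (LP (LK LD1_c25 LD2_c32 LD3_c13))))))))))))
theorem f231612 : Led Lsl_dt (LP (LK LD1_c15 LD2_c55 LD3_c22)) = (LP (LK LD1_c8 LD2_c28 LD3_c48)) :=
  Lre_d IH (LK LD1_c15 LD2_c55 LD3_c22) (LK LD1_c8 LD2_c28 LD3_c48) Lrfl Lrfl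
theorem f231602 : Led Lsl_ct (LP (LK LD1_c8 LD2_c28 LD3_c48)) = (LP (LK LD1_c4 LD2_c14 LD3_c58)) :=
  Lre_c IH (LK LD1_c8 LD2_c28 LD3_c48) (LK LD1_c4 LD2_c14 LD3_c58) Lrfl Lrfl
theorem f285723 : Led Lsl_ft (LP (LK LD1_c5 LD2_c26 LD3_c29)) = (LP (LK LD1_c2 LD2_c39 LD3_c39)) :=
  Lre_f IH (LK LD1_c5 LD2_c26 LD3_c29) (LK LD1_c2 LD2_c39 LD3_c39) Lrfl Lrfl
theorem f295001 : Led Lsl_af (LP (LK LD1_c4 LD2_c14 LD3_c58)) = (LP (LK LD1_c2 LD2_c39 LD3_c39)) :=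
  Lgr Lrot109 (Lpe (f231602 IH) (Lpe (f231612 IH) (Lpe (f236283 IH) (Lpr_df (f294992 IH) (Lpe (f294987 IH) (Lpe (f294986 IH) (Lpe (f292391 IH) (Lpe (f294982 IH) (Lpr_ft (f285723 IH) (Lpn (LP (LK LD1_c2 LD2_c39 LD3_c39))))))))))))
theorem f245918 : Led Lsl_bt (LP (LK LD1_c2 LD2_c39 LD3_c39)) = (LP (LK LD1_c1 LD2_c16 LD3_c37)) :=
  Lre_b IH (LK LD1_c2 LD2_c39 LD3_c39) (LK LD1_c1 LD2_c16 LD3_c37) Lrfl Lrfl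
theorem f243269 : Led Lsl_et (LP (LK LD1_c2 LD2_c5 LD3_c11)) = (LP (LK LD1_c4 LD2_c15 LD3_c40)) :=
  Lre_e IH (LK LD1_c2 LD2_c5 LD3_c11) (LK LD1_c4 LD2_c15 LD3_c40) Lrfl Lrfl
theorem f53392 : Led Lsl_et (LP (LK LD1_c2 LD2_c5 LD3_c52)) = (LP (LK LD1_c0 LD2_c59 LD3_c55)) :=
  Lre_e IH (LK LD1_c2 LD2_c5 LD3_c52) (LK LD1_c0 LD2_c59 LD3_c55) Lrfl Lrfl
theorem f243270 : Led Lsl_bt (LP (LK LD1_c4 LD2_c15 LD3_c40)) = (LP (LK LD1_c2 LD2_c5 LD3_c52)) :=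
  Lgr Lrot119 (Lpe (f243269 IH) (Lpr_bf (K13.f243261 IH) (Lpe (f53392 IH) (Lpn (LP (LK LD1_c2 LD2_c5 LD3_c52))))))
theorem f243478 : Led Lsl_bf (LP (LK LD1_c4 LD2_c15 LD3_c40)) = (LP (LK LD1_c2 LD2_c5 LD3_c52)) :=
  Lgr Lrot24 (Lpr_bt (f243270 IH) (Lpn (LP (LK LD1_c2 LD2_c5 LD3_c52))))
theorem f245919 : Led Lsl_df (LP (LK LD1_c2 LD2_c39 LD3_c39)) = (LP (LK LD1_c4 LD2_c15 LD3_c40)) :=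
  Lgr Lrot12 (Lpr_bt (f245918 IH) (Lpr_dt (K13.f245899 IH) (Lpe (f243478 IH) (Lpn (LP (LK LD1_c4 LD2_c15 LD3_c40))))))
theorem f295009 : Led Lsl_at (LP (LK LD1_c4 LD2_c9 LD3_c11)) = (LP (LK LD1_c4 LD2_c15 LD3_c40)) :=
  Lgr Lrot51 (Lpe (K17.f236268 IH) (Lpr_af (f295001 IH) (Lpr_df (f245919 IH) (Lpn (LP (LK LD1_c4 LD2_c15 LD3_c40))))))
theorem f282697 : Led Lsl_et (LP (LK LD1_c4 LD2_c15 LD3_c21)) = (LP (LK LD1_c4 LD2_c9 LD3_c11)) :=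
  Lgr Lrot71 (Lpr_df (K17.f282678 IH) (Lpr_ef (K15.f266313 IH) (Lpe (K17.f266305 IH) (Lpe (K17.f45606 IH) (Lpr_df (K17.f236287 IH) (Lpn (LP (LK LD1_c4 LD2_c9 LD3_c11))))))))
theorem f840 : Led Lsl_et (LP (LK LD1_c4 LD2_c15 LD3_c40)) = (LP (LK LD1_c2 LD2_c5 LD3_c11)) :=
  Lre_e IH (LK LD1_c4 LD2_c15 LD3_c40) (LK LD1_c2 LD2_c5 LD3_c11) Lrfl Lrfl
theorem f295041 : Led Lsl_af (LP (LK LD1_c4 LD2_c15 LD3_c21)) = (LP (LK LD1_c2 LD2_c5 LD3_c11)) :=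
  Lgr Lrot50 (Lpr_et (f282697 IH) (Lpr_at (f295009 IH) (Lpr_et (f840 IH) (Lpn (LP (LK LD1_c2 LD2_c5 LD3_c11))))))
theorem f236374 : Led Lsl_ft (LP (LK LD1_c1 LD2_c17 LD3_c13)) = (LP (LK LD1_c2 LD2_c41 LD3_c0)) :=
  Lre_f IH (LK LD1_c1 LD2_c17 LD3_c13) (LK LD1_c2 LD2_c41 LD3_c0) Lrfl Lrfl
theorem f243279 : Led Lsl_dt (LP (LK LD1_c4 LD2_c15 LD3_c39)) = (LP (LK LD1_c8 LD2_c30 LD3_c18)) :=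
  Lre_d IH (LK LD1_c4 LD2_c15 LD3_c39) (LK LD1_c8 LD2_c30 LD3_c18) Lrfl Lrfl
theorem f244692 : Led Lsl_ct (LP (LK LD1_c5 LD2_c27 LD3_c51)) = (LP (LK LD1_c8 LD2_c30 LD3_c18)) :=
  Lgr Lrot7 (Lpe (K15.f172919 IH) (Lpe (K15.f172918 IH) (Lpe (K13.f7893 IH) (Lpr_gf (K14.f244675 IH) (Lpe (K13.f188943 IH) (Lpr_gt (K13.f1345 IH) (Lpe (K13.f243311 IH) (Lpe (K13.f243500 IH) (Lpr_dt (f243279 IH) (Lpn (LP (LK LD1_c8 LD2_c30 LD3_c18))))))))))))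
theorem f243280 : Led Lsl_dt (LP (LK LD1_c8 LD2_c30 LD3_c18)) = (LP (LK LD1_c4 LD2_c15 LD3_c39)) :=
  Lre_d IH (LK LD1_c8 LD2_c30 LD3_c18) (LK LD1_c4 LD2_c15 LD3_c39) Lrfl Lrfl
theorem f244710 : Led Lsl_cf (LP (LK LD1_c8 LD2_c30 LD3_c12)) = (LP (LK LD1_c5 LD2_c27 LD3_c54)) :=
  Lgr Lrot14 (Lpe (K16.f243373 IH) (Lpr_gf (K16.f244696 IH) (Lpe (K13.f243306 IH) (Lpe (K16.f1024 IH) (Lpr_ct (K12.f221069 IH) (Lpr_gt (K13.f52087 IH) (Lpr_dt (K13.f243616 IH) (Lpe (K13.f243633 IH) (Lpr_dt (K16.f243635 IH) (Lpn (LP (LK LD1_c5 LD2_c27 LD3_c54))))))))))))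
theorem f262855 : Led Lsl_df (LP (LK LD1_c1 LD2_c17 LD3_c13)) = (LP (LK LD1_c2 LD2_c5 LD3_c10)) :=
  Lgr Lrot43 (Lpr_ct (K16.f262854 IH) (Lpr_dt (K15.f262848 IH) (Lpe (K15.f245091 IH) (Lpr_dt (K15.f172919 IH) (Lpr_ct (f244692 IH) (Lpr_dt (f243280 IH) (Lpr_ct (K13.f243282 IH) (Lpr_dt (K15.f245877 IH) (Lpr_ct (K15.f245893 IH) (Lpe (K16.f261455 IH) (Lpr_ct (K14.f243640 IH) (Lpr_dt (K16.f243635 IH) (Lpe (f244710 IH) (Lpr_dt (K16.f243320 IH) (Lpr_ct (K15.f243354 IH) (Lpn (LP (LK LD1_c2 LD2_c5 LD3_c10))))))))))))))))))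
theorem f282699 : Led Lsl_ft (LP (LK LD1_c4 LD2_c15 LD3_c21)) = (LP (LK LD1_c2 LD2_c5 LD3_c10)) :=
  Lgr Lrot54 (Lpr_df (K17.f282678 IH) (Lpe (f236374 IH) (Lpr_df (f262855 IH) (Lpn (LP (LK LD1_c2 LD2_c5 LD3_c10))))))
theorem f263142 : Led Lsl_af (LP (LK LD1_c1 LD2_c17 LD3_c23)) = (LP (LK LD1_c2 LD2_c5 LD3_c10)) :=
  Lgr Lrot117 (Lpr_dt (K14.f168533 IH) (Lpr_at (K16.f261407 IH) (Lpr_dt (K15.f263140 IH) (Lpn (LP (LK LD1_c2 LD2_c5 LD3_c10))))))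
theorem f295045 : Led Lsl_ft (LP (LK LD1_c1 LD2_c17 LD3_c23)) = (LP (LK LD1_c2 LD2_c5 LD3_c11)) :=
  Lgr Lrot101 (Lpr_af (f263142 IH) (Lpe (f282699 IH) (Lpr_af (f295041 IH) (Lpn (LP (LK LD1_c2 LD2_c5 LD3_c11))))))
theorem f295050 : Led Lsl_ff (LP (LK LD1_c1 LD2_c17 LD3_c23)) = (LP (LK LD1_c2 LD2_c5 LD3_c11)) :=
  Lgr Lrot3 (Lpr_ft (f295045 IH) (Lpn (LP (LK LD1_c2 LD2_c5 LD3_c11))))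
theorem f295058 : Led Lsl_at (LP (LK LD1_c1 LD2_c17 LD3_c23)) = (LP (LK LD1_c2 LD2_c5 LD3_c10)) :=
  Lgr Lrot26 (Lpr_ff (f295050 IH) (Lpr_gt (K13.f839 IH) (Lpr_gt (K15.f761 IH) (Lpn (LP (LK LD1_c2 LD2_c5 LD3_c10))))))
theorem f236370 : Led Lsl_at (LP (LK LD1_c1 LD2_c17 LD3_c24)) = (LP (LK LD1_c2 LD2_c41 LD3_c0)) :=
  Lre_a IH (LK LD1_c1 LD2_c17 LD3_c24) (LK LD1_c2 LD2_c41 LD3_c0) Lrfl Lrfl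
theorem f282690 : Led Lsl_at (LP (LK LD1_c4 LD2_c15 LD3_c21)) = (LP (LK LD1_c2 LD2_c5 LD3_c11)) :=
  Lgr Lrot51 (Lpr_df (K17.f282678 IH) (Lpe (f236370 IH) (Lpe (K15.f245877 IH) (Lpn (LP (LK LD1_c2 LD2_c5 LD3_c11))))))
theorem f295064 : Led Lsl_ff (LP (LK LD1_c4 LD2_c15 LD3_c21)) = (LP (LK LD1_c2 LD2_c5 LD3_c10)) :=
  Lgr Lrot30 (Lpr_at (f282690 IH) (Lpe (f295050 IH) (Lpr_at (f295058 IH) (Lpn (LP (LK LD1_c2 LD2_c5 LD3_c10))))))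
theorem f295066 : Led Lsl_ft (LP (LK LD1_c8 LD2_c29 LD3_c35)) = (LP (LK LD1_c4 LD2_c15 LD3_c37)) :=
  Lgr Lrot4 (Lpe (K17.f282694 IH) (Lpr_ff (f295064 IH) (Lpe (K15.f243354 IH) (Lpn (LP (LK LD1_c4 LD2_c15 LD3_c37))))))
theorem f167421 : Led Lsl_ct (LP (LK LD1_c2 LD2_c5 LD3_c10)) = (LP (LK LD1_c4 LD2_c15 LD3_c37)) :=
  Lre_c IH (LK LD1_c2 LD2_c5 LD3_c10) (LK LD1_c4 LD2_c15 LD3_c37) Lrfl Lrfl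
theorem f295060 : Led Lsl_af (LP (LK LD1_c2 LD2_c41 LD3_c26)) = (LP (LK LD1_c4 LD2_c15 LD3_c37)) :=
  Lgr Lrot68 (Lpr_ct (K16.f178842 IH) (Lpr_at (f295058 IH) (Lpr_ct (f167421 IH) (Lpn (LP (LK LD1_c4 LD2_c15 LD3_c37))))))
theorem f295077 : Led Lsl_gt (LP (LK LD1_c4 LD2_c51 LD3_c1)) = (LP (LK LD1_c2 LD2_c41 LD3_c26)) :=
  Lgr Lrot46 (Lpe (K17.f282710 IH) (Lpr_ft (f295066 IH) (Lpe (f295060 IH) (Lpn (LP (LK LD1_c2 LD2_c41 LD3_c26))))))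
theorem f2096 : Led Lsl_ct (LP (LK LD1_c2 LD2_c23 LD3_c20)) = (LP (LK LD1_c4 LD2_c51 LD3_c1)) :=
  Lre_c IH (LK LD1_c2 LD2_c23 LD3_c20) (LK LD1_c4 LD2_c51 LD3_c1) Lrfl Lrfl
theorem f171174 : Led Lsl_gt (LP (LK LD1_c4 LD2_c51 LD3_c0)) = (LP (LK LD1_c2 LD2_c23 LD3_c20)) :=
  Lre_g IH (LK LD1_c4 LD2_c51 LD3_c0) (LK LD1_c2 LD2_c23 LD3_c20) Lrfl Lrfl
theorem f178514 : Led Lsl_bt (LP (LK LD1_c1 LD2_c17 LD3_c23)) = (LP (LK LD1_c0 LD2_c35 LD3_c49)) :=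
  Lre_b IH (LK LD1_c1 LD2_c17 LD3_c23) (LK LD1_c0 LD2_c35 LD3_c49) Lrfl Lrfl
theorem f295090 : Led Lsl_bf (LP (LK LD1_c4 LD2_c51 LD3_c0)) = (LP (LK LD1_c4 LD2_c22 LD3_c39)) :=
  Lgr Lrot165 (Lpr_gt (f171174 IH) (Lpr_ct (f2096 IH) (Lpr_gt (f295077 IH) (Lpe (K16.f178515 IH) (Lpr_bt (f178514 IH) (Lpe (K9.f178830 IH) (Lpe (K14.f167083 IH) (Lpr_ct (K14.f167084 IH) (Lpr_gt (K14.f170893 IH) (Lpr_cf (K14.f252035 IH) (Lpn (LP (LK LD1_c4 LD2_c22 LD3_c39)))))))))))))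
theorem f295100 : Led Lsl_bt (LP (LK LD1_c4 LD2_c51 LD3_c0)) = (LP (LK LD1_c4 LD2_c22 LD3_c39)) :=
  Lgr Lrot127 (Lpr_bf (f295090 IH) (Lpn (LP (LK LD1_c4 LD2_c22 LD3_c39))))
theorem f295103 : Led Lsl_ct (LP (LK LD1_c4 LD2_c51 LD3_c0)) = (LP (LK LD1_c4 LD2_c15 LD3_c42)) :=
  Lgr Lrot64 (Lpr_bt (f295100 IH) (Lpe (K14.f200554 IH) (Lpe (K14.f246771 IH) (Lpr_ct (K13.f187087 IH) (Lpr_gf (K13.f238752 IH) (Lpe (K13.f236476 IH) (Lpr_gf (K13.f180222 IH) (Lpe (K17.f243112 IH) (Lpr_ct (K13.f8011 IH) (Lpe (K16.f197006 IH) (Lpn (LP (LK LD1_c4 LD2_c15 LD3_c42)))))))))))))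
theorem f295111 : Led Lsl_gf (LP (LK LD1_c4 LD2_c51 LD3_c0)) = (LP (LK LD1_c4 LD2_c55 LD3_c3)) :=
  Lgr Lrot147 (Lpr_ct (f295103 IH) (Lpr_gt (K16.f197006 IH) (Lpr_ct (K13.f197005 IH) (Lpe (K13.f760 IH) (Lpr_cf (K10.f196950 IH) (Lpr_gf (K13.f236100 IH) (Lpe (K15.f33451 IH) (Lpe (K14.f222165 IH) (Lpe (K15.f219089 IH) (Lpn (LP (LK LD1_c4 LD2_c55 LD3_c3))))))))))))
theorem f213842 : Led Lsl_dt (LP (LK LD1_c2 LD2_c41 LD3_c26)) = (LP (LK LD1_c5 LD2_c30 LD3_c20)) :=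
  Lre_d IH (LK LD1_c2 LD2_c41 LD3_c26) (LK LD1_c5 LD2_c30 LD3_c20) Lrfl Lrfl
theorem f283212 : Led Lsl_dt (LP (LK LD1_c4 LD2_c19 LD3_c30)) = (LP (LK LD1_c3 LD2_c58 LD3_c21)) :=
  Lgr Lrot105 (Lpr_gf (K17.f283201 IH) (Lpe (K10.f191718 IH) (Lpe (K11.f191968 IH) (Lpe (K8.f33427 IH) (Lpe (K13.f236100 IH) (Lpr_dt (K13.f235781 IH) (Lpr_gt (K13.f168542 IH) (Lpr_dt (K13.f235995 IH) (Lpe (K15.f261399 IH) (Lpn (LP (LK LD1_c3 LD2_c58 LD3_c21))))))))))))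
theorem f295079 : Led Lsl_gf (LP (LK LD1_c4 LD2_c16 LD3_c23)) = (LP (LK LD1_c5 LD2_c30 LD3_c20)) :=
  Lgr Lrot143 (Lpr_dt (K17.f221257 IH) (Lpe (K12.f53417 IH) (Lpr_df (K15.f250623 IH) (Lpr_gf (K15.f261463 IH) (Lpe (f283212 IH) (Lpr_gf (K17.f283201 IH) (Lpe (K17.f171169 IH) (Lpr_gt (f295077 IH) (Lpr_dt (f213842 IH) (Lpn (LP (LK LD1_c5 LD2_c30 LD3_c20))))))))))))
theorem f221235 : Led Lsl_ct (LP (LK LD1_c4 LD2_c16 LD3_c23)) = (LP (LK LD1_c8 LD2_c26 LD3_c58)) :=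
  Lgr Lrot7 (Lpe (K17.f1047 IH) (Lpe (K12.f1044 IH) (Lpe (K15.f1270 IH) (Lpe (K12.f1021 IH) (Lpe (K12.f221070 IH) (Lpr_gt (K17.f221233 IH) (Lpr_dt (K17.f188622 IH) (Lpr_gt (K12.f188939 IH) (Lpr_dt (K17.f188903 IH) (Lpn (LP (LK LD1_c8 LD2_c26 LD3_c58))))))))))))
theorem f271468 : Led Lsl_cf (LP (LK LD1_c8 LD2_c30 LD3_c24)) = (LP (LK LD1_c5 LD2_c27 LD3_c38)) :=
  Lgr Lrot11 (Lpr_ct (K16.f271460 IH) (Lpn (LP (LK LD1_c5 LD2_c27 LD3_c38))))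
theorem f295113 : Led Lsl_gt (LP (LK LD1_c8 LD2_c26 LD3_c58)) = (LP (LK LD1_c5 LD2_c27 LD3_c38)) :=
  Lgr Lrot150 (Lpe (f221235 IH) (Lpr_gf (f295079 IH) (Lpe (f213842 IH) (Lpr_gt (K16.f178516 IH) (Lpe (K16.f219087 IH) (Lpe (f295111 IH) (Lpr_ct (f295103 IH) (Lpe (K16.f243525 IH) (Lpr_cf (f271468 IH) (Lpn (LP (LK LD1_c5 LD2_c27 LD3_c38))))))))))))
theorem f52014 : Led Lsl_dt (LP (LK LD1_c4 LD2_c13 LD3_c52)) = (LP (LK LD1_c8 LD2_c26 LD3_c25)) :=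
  Lre_d IH (LK LD1_c4 LD2_c13 LD3_c52) (LK LD1_c8 LD2_c26 LD3_c25) Lrfl Lrfl
theorem f261474 : Led Lsl_gt (LP (LK LD1_c8 LD2_c26 LD3_c25)) = (LP (LK LD1_c5 LD2_c27 LD3_c31)) :=
  Lgr Lrot9 (Lpe (f52014 IH) (Lpr_gt (K15.f261465 IH) (Lpr_ct (K15.f221315 IH) (Lpe (K15.f261457 IH) (Lpr_ct (K12.f188615 IH) (Lpe (K17.f188622 IH) (Lpr_cf (K17.f188924 IH) (Lpe (K16.f251782 IH) (Lpe (K13.f245030 IH) (Lpn (LP (LK LD1_c5 LD2_c27 LD3_c31))))))))))))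
theorem f51916 : Led Lsl_ct (LP (LK LD1_c4 LD2_c16 LD3_c37)) = (LP (LK LD1_c8 LD2_c26 LD3_c25)) :=
  Lre_c IH (LK LD1_c4 LD2_c16 LD3_c37) (LK LD1_c8 LD2_c26 LD3_c25) Lrfl Lrfl
theorem f51932 : Led Lsl_gt (LP (LK LD1_c8 LD2_c30 LD3_c7)) = (LP (LK LD1_c4 LD2_c16 LD3_c37)) :=
  Lre_g IH (LK LD1_c8 LD2_c30 LD3_c7) (LK LD1_c4 LD2_c16 LD3_c37) Lrfl Lrfl
theorem f295081 : Led Lsl_dt (LP (LK LD1_c4 LD2_c51 LD3_c1)) = (LP (LK LD1_c8 LD2_c30 LD3_c7)) :=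
  Lgr Lrot6 (Lpr_gt (f295077 IH) (Lpr_ct (K16.f178842 IH) (Lpe (K13.f236220 IH) (Lpr_ct (K15.f51600 IH) (Lpe (K13.f190852 IH) (Lpe (K13.f245030 IH) (Lpe (f261474 IH) (Lpe (f51916 IH) (Lpe (f51932 IH) (Lpn (LP (LK LD1_c8 LD2_c30 LD3_c7))))))))))))
theorem f219100 : Led Lsl_dt (LP (LK LD1_c4 LD2_c55 LD3_c6)) = (LP (LK LD1_c9 LD2_c41 LD3_c45)) :=
  Lre_d IH (LK LD1_c4 LD2_c55 LD3_c6) (LK LD1_c9 LD2_c41 LD3_c45) Lrfl Lrfl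
theorem f295117 : Led Lsl_cf (LP (LK LD1_c8 LD2_c30 LD3_c7)) = (LP (LK LD1_c9 LD2_c41 LD3_c45)) :=
  Lgr Lrot14 (Lpe (f295081 IH) (Lpe (K17.f282710 IH) (Lpr_df (K17.f282701 IH) (Lpe (K17.f1048 IH) (Lpr_ct (f221235 IH) (Lpr_gt (f295113 IH) (Lpr_dt (K16.f235776 IH) (Lpr_gt (K13.f235771 IH) (Lpr_dt (f219100 IH) (Lpn (LP (LK LD1_c9 LD2_c41 LD3_c45))))))))))))
theorem f51921 : Led Lsl_dt (LP (LK LD1_c4 LD2_c16 LD3_c37)) = (LP (LK LD1_c2 LD2_c5 LD3_c35)) :=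
  Lre_d IH (LK LD1_c4 LD2_c16 LD3_c37) (LK LD1_c2 LD2_c5 LD3_c35) Lrfl Lrfl
theorem f250932 : Led Lsl_gf (LP (LK LD1_c5 LD2_c14 LD3_c61)) = (LP (LK LD1_c9 LD2_c41 LD3_c45)) :=
  Lgr Lrot143 (Lpr_dt (K16.f33500 IH) (Lpe (K12.f33470 IH) (Lpe (K10.f32329 IH) (Lpr_gf (K13.f243582 IH) (Lpe (K14.f220729 IH) (Lpr_gf (K15.f250929 IH) (Lpe (K14.f235775 IH) (Lpr_gt (K13.f235771 IH) (Lpr_dt (f219100 IH) (Lpn (LP (LK LD1_c9 LD2_c41 LD3_c45))))))))))))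
theorem f54451 : Led Lsl_gt (LP (LK LD1_c2 LD2_c34 LD3_c20)) = (LP (LK LD1_c5 LD2_c14 LD3_c59)) :=
  Lre_g IH (LK LD1_c2 LD2_c34 LD3_c20) (LK LD1_c5 LD2_c14 LD3_c59) Lrfl Lrfl
theorem f54452 : Led Lsl_dt (LP (LK LD1_c5 LD2_c14 LD3_c59)) = (LP (LK LD1_c10 LD2_c19 LD3_c20)) :=
  Lre_d IH (LK LD1_c5 LD2_c14 LD3_c59) (LK LD1_c10 LD2_c19 LD3_c20) Lrfl Lrfl
theorem f295147 : Led Lsl_ct (LP (LK LD1_c8 LD2_c30 LD3_c0)) = (LP (LK LD1_c10 LD2_c19 LD3_c20)) :=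
  Lgr Lrot7 (Lpe (K16.f49072 IH) (Lpe (K16.f49071 IH) (Lpe (f51921 IH) (Lpe (f51932 IH) (Lpr_cf (f295117 IH) (Lpe (f250932 IH) (Lpr_dt (K16.f33500 IH) (Lpr_gt (f54451 IH) (Lpr_dt (f54452 IH) (Lpn (LP (LK LD1_c10 LD2_c19 LD3_c20))))))))))))
theorem f189091 : Led Lsl_gt (LP (LK LD1_c4 LD2_c29 LD3_c5)) = (LP (LK LD1_c4 LD2_c13 LD3_c61)) :=
  Lgr Lrot150 (Lpe (K16.f177927 IH) (Lpe (K16.f167759 IH) (Lpe (K13.f167756 IH) (Lpr_gt (K10.f188919 IH) (Lpr_ct (K16.f33435 IH) (Lpr_gt (K12.f188729 IH) (Lpr_ct (K12.f51450 IH) (Lpe (K10.f188532 IH) (Lpe (K15.f188561 IH) (Lpn (LP (LK LD1_c4 LD2_c13 LD3_c61))))))))))))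
theorem f295157 : Led Lsl_gf (LP (LK LD1_c8 LD2_c56 LD3_c27)) = (LP (LK LD1_c10 LD2_c19 LD3_c20)) :=
  Lgr Lrot148 (Lpr_dt (K17.f221079 IH) (Lpr_gt (f189091 IH) (Lpr_dt (K13.f188910 IH) (Lpr_ct (K12.f221070 IH) (Lpe (K15.f243304 IH) (Lpe (K15.f167408 IH) (Lpe (K16.f243320 IH) (Lpe (K16.f263152 IH) (Lpr_ct (f295147 IH) (Lpn (LP (LK LD1_c10 LD2_c19 LD3_c20))))))))))))
theorem f295159 : Led Lsl_gf (LP (LK LD1_c8 LD2_c30 LD3_c0)) = (LP (LK LD1_c8 LD2_c30 LD3_c18)) :=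
  Lgr Lrot147 (Lpr_ct (f295147 IH) (Lpe (f295157 IH) (Lpe (K17.f282725 IH) (Lpr_df (K17.f282712 IH) (Lpe (K15.f190839 IH) (Lpr_gf (K15.f190830 IH) (Lpe (K13.f188637 IH) (Lpe (K13.f243277 IH) (Lpe (f243280 IH) (Lpn (LP (LK LD1_c8 LD2_c30 LD3_c18))))))))))))
theorem f295161 : Led Lsl_ct (LP (LK LD1_c4 LD2_c13 LD3_c51)) = (LP (LK LD1_c5 LD2_c14 LD3_c59)) :=
  Lgr Lrot110 (Lpe (K12.f27399 IH) (Lpe (K11.f50874 IH) (Lpr_gf (K12.f217947 IH) (Lpe (K15.f217954 IH) (Lpr_gt (K15.f262865 IH) (Lpr_ct (f244692 IH) (Lpe (f295159 IH) (Lpr_ct (f295147 IH) (Lpe (f54452 IH) (Lpn (LP (LK LD1_c5 LD2_c14 LD3_c59))))))))))))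
theorem f278088 : Led Lsl_dt (LP (LK LD1_c1 LD2_c16 LD3_c48)) = (LP (LK LD1_c0 LD2_c35 LD3_c32)) :=
  Lre_d IH (LK LD1_c1 LD2_c16 LD3_c48) (LK LD1_c0 LD2_c35 LD3_c32) Lrfl Lrfl
theorem f278089 : Led Lsl_gf (LP (LK LD1_c1 LD2_c16 LD3_c48)) = (LP (LK LD1_c0 LD2_c35 LD3_c51)) :=
  Lgr Lrot143 (Lpr_dt (f278088 IH) (Lpe (K16.f278087 IH) (Lpe (K16.f278080 IH) (Lpr_gf (K16.f278081 IH) (Lpr_df (K16.f271035 IH) (Lpe (K16.f190835 IH) (Lpe (K17.f190838 IH) (Lpe (K15.f259248 IH) (Lpr_dt (K14.f212209 IH) (Lpn (LP (LK LD1_c0 LD2_c35 LD3_c51))))))))))))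
theorem f278107 : Led Lsl_gt (LP (LK LD1_c0 LD2_c35 LD3_c32)) = (LP (LK LD1_c0 LD2_c59 LD3_c43)) :=
  Lgr Lrot131 (Lpr_ef (K16.f278095 IH) (Lpr_dt (K16.f174978 IH) (Lpr_gf (f278089 IH) (Lpe (K14.f212209 IH) (Lpr_gf (K15.f259248 IH) (Lpe (K13.f220057 IH) (Lpr_dt (K12.f51443 IH) (Lpr_gf (K15.f260641 IH) (Lpr_df (K14.f234199 IH) (Lpr_et (K13.f236407 IH) (Lpn (LP (LK LD1_c0 LD2_c59 LD3_c43)))))))))))))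
theorem f283214 : Led Lsl_gf (LP (LK LD1_c1 LD2_c16 LD3_c47)) = (LP (LK LD1_c1 LD2_c8 LD3_c47)) :=
  Lgr Lrot147 (Lpr_ct (K16.f278087 IH) (Lpr_gt (f278107 IH) (Lpr_ct (K14.f188576 IH) (Lpe (K14.f1381 IH) (Lpe (K16.f243276 IH) (Lpr_gf (K16.f262772 IH) (Lpr_cf (K15.f243272 IH) (Lpr_gf (K17.f283201 IH) (Lpe (K10.f191718 IH) (Lpn (LP (LK LD1_c1 LD2_c8 LD3_c47))))))))))))
theorem f278114 : Led Lsl_ct (LP (LK LD1_c2 LD2_c40 LD3_c5)) = (LP (LK LD1_c1 LD2_c16 LD3_c48)) :=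
  Lre_c IH (LK LD1_c2 LD2_c40 LD3_c5) (LK LD1_c1 LD2_c16 LD3_c48) Lrfl Lrfl
theorem f295173 : Led Lsl_gf (LP (LK LD1_c2 LD2_c40 LD3_c5)) = (LP (LK LD1_c5 LD2_c14 LD3_c59)) :=
  Lgr Lrot104 (Lpr_ct (f278114 IH) (Lpe (K16.f174978 IH) (Lpe (K16.f278087 IH) (Lpr_gf (f283214 IH) (Lpe (K10.f171166 IH) (Lpe (K9.f45094 IH) (Lpe (K11.f45084 IH) (Lpr_gt (K12.f27399 IH) (Lpr_ct (f295161 IH) (Lpn (LP (LK LD1_c5 LD2_c14 LD3_c59))))))))))))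
theorem f174979 : Led Lsl_ct (LP (LK LD1_c1 LD2_c16 LD3_c48)) = (LP (LK LD1_c2 LD2_c40 LD3_c5)) :=
  Lre_c IH (LK LD1_c1 LD2_c16 LD3_c48) (LK LD1_c2 LD2_c40 LD3_c5) Lrfl Lrfl
theorem f295179 : Led Lsl_bf (LP (LK LD1_c2 LD2_c38 LD3_c9)) = (LP (LK LD1_c1 LD2_c16 LD3_c48)) :=
  Lgr Lrot156 (Lpr_gt (K13.f235571 IH) (Lpe (K13.f194441 IH) (Lpr_ct (K12.f194444 IH) (Lpe (K12.f217657 IH) (Lpr_cf (K12.f217621 IH) (Lpr_bt (K11.f43266 IH) (Lpr_gt (K12.f27399 IH) (Lpr_ct (f295161 IH) (Lpe (f295173 IH) (Lpe (f174979 IH) (Lpn (LP (LK LD1_c1 LD2_c16 LD3_c48)))))))))))))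
theorem f295190 : Led Lsl_ft (LP (LK LD1_c1 LD2_c14 LD3_c7)) = (LP (LK LD1_c1 LD2_c16 LD3_c48)) :=
  Lgr Lrot75 (Lpe (K10.f33512 IH) (Lpe (K13.f235555 IH) (Lpr_bf (f295179 IH) (Lpn (LP (LK LD1_c1 LD2_c16 LD3_c48))))))
theorem f278103 : Led Lsl_et (LP (LK LD1_c1 LD2_c16 LD3_c48)) = (LP (LK LD1_c2 LD2_c40 LD3_c6)) :=
  Lre_e IH (LK LD1_c1 LD2_c16 LD3_c48) (LK LD1_c2 LD2_c40 LD3_c6) Lrfl Lrfl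
theorem f295198 : Led Lsl_ff (LP (LK LD1_c4 LD2_c15 LD3_c2)) = (LP (LK LD1_c2 LD2_c40 LD3_c6)) :=
  Lgr Lrot72 (Lpr_et (K10.f45161 IH) (Lpr_ft (K10.f45360 IH) (Lpe (K15.f54366 IH) (Lpr_ft (f295190 IH) (Lpr_et (f278103 IH) (Lpn (LP (LK LD1_c2 LD2_c40 LD3_c6))))))))
theorem f45551 : Led Lsl_ct (LP (LK LD1_c25 LD2_c53 LD3_c19)) = (LP (LK LD1_c15 LD2_c56 LD3_c44)) :=
  Lre_c IH (LK LD1_c25 LD2_c53 LD3_c19) (LK LD1_c15 LD2_c56 LD3_c44) Lrfl Lrfl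
theorem f278104 : Led Lsl_et (LP (LK LD1_c2 LD2_c40 LD3_c6)) = (LP (LK LD1_c1 LD2_c16 LD3_c48)) :=
  Lre_e IH (LK LD1_c2 LD2_c40 LD3_c6) (LK LD1_c1 LD2_c16 LD3_c48) Lrfl Lrfl
theorem f278105 : Led Lsl_dt (LP (LK LD1_c2 LD2_c40 LD3_c6)) = (LP (LK LD1_c2 LD2_c40 LD3_c6)) :=
  Lgr Lrot77 (Lpe (f278103 IH) (Lpe (K16.f174978 IH) (Lpr_ef (K16.f278095 IH) (Lpe (f278088 IH) (Lpe (f278104 IH) (Lpn (LP (LK LD1_c2 LD2_c40 LD3_c6))))))))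
theorem f295210 : Led Lsl_ct (LP (LK LD1_c2 LD2_c40 LD3_c6)) = (LP (LK LD1_c5 LD2_c27 LD3_c28)) :=
  Lre_c IH (LK LD1_c2 LD2_c40 LD3_c6) (LK LD1_c5 LD2_c27 LD3_c28) Lrfl Lrfl
theorem f295211 : Led Lsl_dt (LP (LK LD1_c5 LD2_c27 LD3_c28)) = (LP (LK LD1_c10 LD2_c46 LD3_c1)) :=
  Lre_d IH (LK LD1_c5 LD2_c27 LD3_c28) (LK LD1_c10 LD2_c46 LD3_c1) Lrfl Lrfl
theorem f295212 : Led Lsl_ct (LP (LK LD1_c10 LD2_c46 LD3_c1)) = (LP (LK LD1_c19 LD2_c28 LD3_c21)) :=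
  Lre_c IH (LK LD1_c10 LD2_c46 LD3_c1) (LK LD1_c19 LD2_c28 LD3_c21) Lrfl Lrfl
theorem f295213 : Led Lsl_df (LP (LK LD1_c25 LD2_c53 LD3_c19)) = (LP (LK LD1_c19 LD2_c28 LD3_c21)) :=
  Lgr Lrot13 (Lpr_ct (f45551 IH) (Lpr_dt (K12.f45539 IH) (Lpr_ct (K15.f45601 IH) (Lpr_af (K10.f45537 IH) (Lpr_ff (f295198 IH) (Lpr_dt (f278105 IH) (Lpr_ct (f295210 IH) (Lpr_dt (f295211 IH) (Lpr_ct (f295212 IH) (Lpn (LP (LK LD1_c19 LD2_c28 LD3_c21))))))))))))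
theorem f45212 : Led Lsl_dt (LP (LK LD1_c8 LD2_c29 LD3_c33)) = (LP (LK LD1_c15 LD2_c56 LD3_c44)) :=
  Lre_d IH (LK LD1_c8 LD2_c29 LD3_c33) (LK LD1_c15 LD2_c56 LD3_c44) Lrfl Lrfl
theorem f45545 : Led Lsl_ct (LP (LK LD1_c15 LD2_c56 LD3_c44)) = (LP (LK LD1_c25 LD2_c53 LD3_c19)) :=
  Lre_c IH (LK LD1_c15 LD2_c56 LD3_c44) (LK LD1_c25 LD2_c53 LD3_c19) Lrfl Lrfl
theorem f45546 : Led Lsl_at (LP (LK LD1_c25 LD2_c53 LD3_c19)) = (LP (LK LD1_c25 LD2_c52 LD3_c24)) :=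
  Lgr Lrot107 (Lpe (f45545 IH) (Lpr_af (K12.f45540 IH) (Lpe (K12.f45170 IH) (Lpn (LP (LK LD1_c25 LD2_c52 LD3_c24))))))
theorem f45595 : Led Lsl_af (LP (LK LD1_c25 LD2_c53 LD3_c19)) = (LP (LK LD1_c25 LD2_c52 LD3_c24)) :=
  Lgr Lrot0 (Lpr_at (f45546 IH) (Lpn (LP (LK LD1_c25 LD2_c52 LD3_c24))))
theorem f295227 : Led Lsl_ff (LP (LK LD1_c25 LD2_c52 LD3_c24)) = (LP (LK LD1_c19 LD2_c28 LD3_c21)) :=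
  Lgr Lrot103 (Lpe (f45595 IH) (Lpe (f45545 IH) (Lpe (f45212 IH) (Lpe (K10.f45536 IH) (Lpe (K10.f45598 IH) (Lpe (K15.f45601 IH) (Lpe (K12.f45539 IH) (Lpe (f45551 IH) (Lpr_df (f295213 IH) (Lpn (LP (LK LD1_c19 LD2_c28 LD3_c21))))))))))))
theorem f295232 : Led Lsl_ft (LP (LK LD1_c15 LD2_c56 LD3_c3)) = (LP (LK LD1_c10 LD2_c46 LD3_c1)) :=
  Lgr Lrot4 (Lpe (K12.f45170 IH) (Lpr_ff (f295227 IH) (Lpe (f295212 IH) (Lpn (LP (LK LD1_c10 LD2_c46 LD3_c1))))))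
theorem f295238 : Led Lsl_af (LP (LK LD1_c16 LD2_c44 LD3_c6)) = (LP (LK LD1_c10 LD2_c46 LD3_c1)) :=
  Lgr Lrot45 (Lpr_ft (K12.f188993 IH) (Lpr_at (K12.f45542 IH) (Lpr_ft (f295232 IH) (Lpn (LP (LK LD1_c10 LD2_c46 LD3_c1))))))
theorem f295248 : Led Lsl_at (LP (LK LD1_c8 LD2_c56 LD3_c25)) = (LP (LK LD1_c5 LD2_c27 LD3_c28)) :=
  Lgr Lrot51 (Lpe (K12.f188755 IH) (Lpr_af (f295238 IH) (Lpe (f295211 IH) (Lpn (LP (LK LD1_c5 LD2_c27 LD3_c28))))))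
theorem f295258 : Led Lsl_et (LP (LK LD1_c5 LD2_c27 LD3_c28)) = (LP (LK LD1_c2 LD2_c40 LD3_c5)) :=
  Lre_e IH (LK LD1_c5 LD2_c27 LD3_c28) (LK LD1_c2 LD2_c40 LD3_c5) Lrfl Lrfl
theorem f295259 : Led Lsl_af (LP (LK LD1_c4 LD2_c29 LD3_c2)) = (LP (LK LD1_c2 LD2_c40 LD3_c5)) :=
  Lgr Lrot50 (Lpr_et (K12.f188632 IH) (Lpr_at (f295248 IH) (Lpr_et (f295258 IH) (Lpn (LP (LK LD1_c2 LD2_c40 LD3_c5))))))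
theorem f295273 : Led Lsl_ft (LP (LK LD1_c2 LD2_c34 LD3_c17)) = (LP (LK LD1_c2 LD2_c40 LD3_c5)) :=
  Lgr Lrot101 (Lpe (K12.f33459 IH) (Lpe (K12.f188928 IH) (Lpr_af (f295259 IH) (Lpn (LP (LK LD1_c2 LD2_c40 LD3_c5))))))
theorem f282851 : Led Lsl_dt (LP (LK LD1_c2 LD2_c40 LD3_c5)) = (LP (LK LD1_c5 LD2_c27 LD3_c27)) :=
  Lre_d IH (LK LD1_c2 LD2_c40 LD3_c5) (LK LD1_c5 LD2_c27 LD3_c27) Lrfl Lrfl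
theorem f295277 : Led Lsl_ff (LP (LK LD1_c5 LD2_c14 LD3_c56)) = (LP (LK LD1_c5 LD2_c27 LD3_c27)) :=
  Lgr Lrot19 (Lpr_dt (K12.f33438 IH) (Lpr_ft (f295273 IH) (Lpr_dt (f282851 IH) (Lpn (LP (LK LD1_c5 LD2_c27 LD3_c27))))))
theorem f33471 : Led Lsl_af (LP (LK LD1_c5 LD2_c14 LD3_c61)) = (LP (LK LD1_c5 LD2_c14 LD3_c56)) :=
  Lgr Lrot0 (Lpr_at (K16.f33468 IH) (Lpn (LP (LK LD1_c5 LD2_c14 LD3_c56))))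
theorem f295286 : Led Lsl_gf (LP (LK LD1_c9 LD2_c41 LD3_c45)) = (LP (LK LD1_c5 LD2_c27 LD3_c27)) :=
  Lgr Lrot47 (Lpe (f250932 IH) (Lpr_af (f33471 IH) (Lpr_ff (f295277 IH) (Lpn (LP (LK LD1_c5 LD2_c27 LD3_c27))))))
theorem f295292 : Led Lsl_gf (LP (LK LD1_c4 LD2_c55 LD3_c25)) = (LP (LK LD1_c2 LD2_c40 LD3_c5)) :=
  Lgr Lrot147 (Lpr_ct (K16.f217491 IH) (Lpr_gt (K12.f217485 IH) (Lpr_ct (K12.f183742 IH) (Lpe (K16.f183743 IH) (Lpe (f51916 IH) (Lpe (f51932 IH) (Lpr_cf (f295117 IH) (Lpr_gf (f295286 IH) (Lpe (f282851 IH) (Lpn (LP (LK LD1_c2 LD2_c40 LD3_c5))))))))))))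
theorem f217487 : Led Lsl_dt (LP (LK LD1_c4 LD2_c55 LD3_c25)) = (LP (LK LD1_c9 LD2_c42 LD3_c25)) :=
  Lre_d IH (LK LD1_c4 LD2_c55 LD3_c25) (LK LD1_c9 LD2_c42 LD3_c25) Lrfl Lrfl
theorem f282830 : Led Lsl_dt (LP (LK LD1_c5 LD2_c27 LD3_c27)) = (LP (LK LD1_c2 LD2_c40 LD3_c5)) :=
  Lre_d IH (LK LD1_c5 LD2_c27 LD3_c27) (LK LD1_c2 LD2_c40 LD3_c5) Lrfl Lrfl
theorem f244829 : Led Lsl_ct (LP (LK LD1_c2 LD2_c40 LD3_c14)) = (LP (LK LD1_c1 LD2_c16 LD3_c52)) :=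
  Lre_c IH (LK LD1_c2 LD2_c40 LD3_c14) (LK LD1_c1 LD2_c16 LD3_c52) Lrfl Lrfl
theorem f282831 : Led Lsl_gf (LP (LK LD1_c5 LD2_c27 LD3_c27)) = (LP (LK LD1_c10 LD2_c19 LD3_c26)) :=
  Lgr Lrot143 (Lpr_dt (f282830 IH) (Lpe (f174979 IH) (Lpe (K16.f174978 IH) (Lpe (K16.f174977 IH) (Lpe (K14.f196999 IH) (Lpe (K17.f197004 IH) (Lpe (f244829 IH) (Lpr_gt (K17.f282826 IH) (Lpe (K17.f278032 IH) (Lpn (LP (LK LD1_c10 LD2_c19 LD3_c26))))))))))))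
theorem f900 : Led Lsl_gt (LP (LK LD1_c2 LD2_c5 LD3_c8)) = (LP (LK LD1_c4 LD2_c15 LD3_c31)) :=
  Lre_g IH (LK LD1_c2 LD2_c5 LD3_c8) (LK LD1_c4 LD2_c15 LD3_c31) Lrfl Lrfl
theorem f902 : Led Lsl_dt (LP (LK LD1_c4 LD2_c15 LD3_c31)) = (LP (LK LD1_c8 LD2_c29 LD3_c59)) :=
  Lre_d IH (LK LD1_c4 LD2_c15 LD3_c31) (LK LD1_c8 LD2_c29 LD3_c59) Lrfl Lrfl
theorem f295301 : Led Lsl_cf (LP (LK LD1_c9 LD2_c42 LD3_c25)) = (LP (LK LD1_c8 LD2_c29 LD3_c59)) :=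
  Lgr Lrot14 (Lpe (f217487 IH) (Lpr_gf (f295292 IH) (Lpe (f282830 IH) (Lpr_gf (f282831 IH) (Lpe (K16.f278047 IH) (Lpr_gt (K16.f932 IH) (Lpr_dt (K16.f1253 IH) (Lpr_gt (f900 IH) (Lpr_dt (f902 IH) (Lpn (LP (LK LD1_c8 LD2_c29 LD3_c59))))))))))))
theorem f217488 : Led Lsl_dt (LP (LK LD1_c9 LD2_c42 LD3_c25)) = (LP (LK LD1_c4 LD2_c55 LD3_c25)) :=
  Lre_d IH (LK LD1_c9 LD2_c42 LD3_c25) (LK LD1_c4 LD2_c55 LD3_c25) Lrfl Lrfl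
theorem f200726 : Led Lsl_ct (LP (LK LD1_c4 LD2_c14 LD3_c17)) = (LP (LK LD1_c2 LD2_c4 LD3_c31)) :=
  Lre_c IH (LK LD1_c4 LD2_c14 LD3_c17) (LK LD1_c2 LD2_c4 LD3_c31) Lrfl Lrfl
theorem f221161 : Led Lsl_ff (LP (LK LD1_c2 LD2_c41 LD3_c49)) = (LP (LK LD1_c4 LD2_c13 LD3_c52)) :=
  Lgr Lrot25 (Lpr_bt (K12.f221046 IH) (Lpr_ft (K12.f221154 IH) (Lpr_bt (K12.f183739 IH) (Lpn (LP (LK LD1_c4 LD2_c13 LD3_c52))))))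
theorem f221044 : Led Lsl_af (LP (LK LD1_c4 LD2_c14 LD3_c17)) = (LP (LK LD1_c2 LD2_c41 LD3_c49)) :=
  Lgr Lrot0 (Lpr_at (K12.f220878 IH) (Lpn (LP (LK LD1_c2 LD2_c41 LD3_c49))))
theorem f261470 : Led Lsl_gf (LP (LK LD1_c4 LD2_c14 LD3_c17)) = (LP (LK LD1_c2 LD2_c41 LD3_c46)) :=
  Lgr Lrot76 (Lpr_af (f221044 IH) (Lpr_ff (f221161 IH) (Lpr_gt (K15.f261465 IH) (Lpn (LP (LK LD1_c2 LD2_c41 LD3_c46))))))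
theorem f295416 : Led Lsl_gt (LP (LK LD1_c8 LD2_c30 LD3_c12)) = (LP (LK LD1_c8 LD2_c29 LD3_c59)) :=
  Lgr Lrot150 (Lpr_cf (f244710 IH) (Lpr_gf (K16.f261472 IH) (Lpe (K16.f221316 IH) (Lpe (f261470 IH) (Lpr_ct (f200726 IH) (Lpe (K12.f217477 IH) (Lpr_ct (K16.f173051 IH) (Lpe (f217488 IH) (Lpr_cf (f295301 IH) (Lpn (LP (LK LD1_c8 LD2_c29 LD3_c59))))))))))))
theorem f295073 : Led Lsl_ff (LP (LK LD1_c8 LD2_c31 LD3_c59)) = (LP (LK LD1_c8 LD2_c30 LD3_c12)) :=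
  Lgr Lrot19 (Lpe (K17.f282701 IH) (Lpr_ft (f295066 IH) (Lpr_dt (K16.f243373 IH) (Lpn (LP (LK LD1_c8 LD2_c30 LD3_c12))))))
theorem f278115 : Led Lsl_dt (LP (LK LD1_c2 LD2_c11 LD3_c57)) = (LP (LK LD1_c2 LD2_c1 LD3_c11)) :=
  Lgr Lrot105 (Lpr_gf (K16.f278109 IH) (Lpe (K16.f174978 IH) (Lpe (K16.f174977 IH) (Lpe (K13.f196997 IH) (Lpr_gt (K12.f834 IH) (Lpr_dt (K12.f51465 IH) (Lpr_gt (K12.f51466 IH) (Lpr_dt (K14.f250628 IH) (Lpr_cf (K13.f246245 IH) (Lpn (LP (LK LD1_c2 LD2_c1 LD3_c11))))))))))))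
theorem f236258 : Led Lsl_ct (LP (LK LD1_c4 LD2_c9 LD3_c14)) = (LP (LK LD1_c2 LD2_c1 LD3_c58)) :=
  Lre_c IH (LK LD1_c4 LD2_c9 LD3_c14) (LK LD1_c2 LD2_c1 LD3_c58) Lrfl Lrfl
theorem f295297 : Led Lsl_gt (LP (LK LD1_c9 LD2_c42 LD3_c25)) = (LP (LK LD1_c8 LD2_c18 LD3_c31)) :=
  Lgr Lrot49 (Lpe (f217487 IH) (Lpr_gf (f295292 IH) (Lpe (f174979 IH) (Lpe (K16.f278109 IH) (Lpr_dt (f278115 IH) (Lpe (K13.f246255 IH) (Lpr_dt (K13.f1441 IH) (Lpe (f236258 IH) (Lpe (K17.f236319 IH) (Lpn (LP (LK LD1_c8 LD2_c18 LD3_c31))))))))))))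
theorem f236259 : Led Lsl_gf (LP (LK LD1_c4 LD2_c14 LD3_c6)) = (LP (LK LD1_c4 LD2_c9 LD3_c14)) :=
  Lgr Lrot144 (Lpr_dt (K13.f188618 IH) (Lpr_gt (K16.f189063 IH) (Lpr_dt (K12.f33438 IH) (Lpe (K10.f33456 IH) (Lpe (K12.f32315 IH) (Lpe (K10.f188919 IH) (Lpe (K12.f167731 IH) (Lpr_gf (K13.f236254 IH) (Lpe (f236258 IH) (Lpn (LP (LK LD1_c4 LD2_c9 LD3_c14))))))))))))
theorem f295414 : Led Lsl_gf (LP (LK LD1_c8 LD2_c30 LD3_c18)) = (LP (LK LD1_c8 LD2_c29 LD3_c59)) :=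
  Lgr Lrot144 (Lpr_dt (f243280 IH) (Lpr_gt (K13.f243277 IH) (Lpe (K13.f243284 IH) (Lpe (K13.f188944 IH) (Lpe (K13.f188618 IH) (Lpr_gf (f236259 IH) (Lpe (K17.f236319 IH) (Lpe (f295297 IH) (Lpr_cf (f295301 IH) (Lpn (LP (LK LD1_c8 LD2_c29 LD3_c59))))))))))))
theorem f295418 : Led Lsl_at (LP (LK LD1_c8 LD2_c31 LD3_c59)) = (LP (LK LD1_c8 LD2_c30 LD3_c18)) :=
  Lgr Lrot26 (Lpr_ff (f295073 IH) (Lpr_gt (f295416 IH) (Lpe (f295414 IH) (Lpn (LP (LK LD1_c8 LD2_c30 LD3_c18))))))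
theorem f243292 : Led Lsl_et (LP (LK LD1_c8 LD2_c30 LD3_c18)) = (LP (LK LD1_c15 LD2_c58 LD3_c15)) :=
  Lre_e IH (LK LD1_c8 LD2_c30 LD3_c18) (LK LD1_c15 LD2_c58 LD3_c15) Lrfl Lrfl
theorem f295424 : Led Lsl_af (LP (LK LD1_c16 LD2_c1 LD3_c10)) = (LP (LK LD1_c15 LD2_c58 LD3_c15)) :=
  Lgr Lrot50 (Lpr_et (K17.f271662 IH) (Lpr_at (f295418 IH) (Lpr_et (f243292 IH) (Lpn (LP (LK LD1_c15 LD2_c58 LD3_c15))))))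
theorem f271691 : Led Lsl_ft (LP (LK LD1_c16 LD2_c1 LD3_c10)) = (LP (LK LD1_c25 LD2_c58 LD3_c36)) :=
  Lre_f IH (LK LD1_c16 LD2_c1 LD3_c10) (LK LD1_c25 LD2_c58 LD3_c36) Lrfl Lrfl
theorem f244798 : Led Lsl_ft (LP (LK LD1_c25 LD2_c55 LD3_c6)) = (LP (LK LD1_c15 LD2_c58 LD3_c15)) :=
  Lre_f IH (LK LD1_c25 LD2_c55 LD3_c6) (LK LD1_c15 LD2_c58 LD3_c15) Lrfl Lrfl
theorem f295430 : Led Lsl_at (LP (LK LD1_c25 LD2_c58 LD3_c36)) = (LP (LK LD1_c25 LD2_c55 LD3_c6)) :=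
  Lgr Lrot66 (Lpe (f271691 IH) (Lpr_af (f295424 IH) (Lpe (f244798 IH) (Lpn (LP (LK LD1_c25 LD2_c55 LD3_c6))))))
theorem f271661 : Led Lsl_et (LP (LK LD1_c5 LD2_c31 LD3_c12)) = (LP (LK LD1_c10 LD2_c53 LD3_c61)) :=
  Lre_e IH (LK LD1_c5 LD2_c31 LD3_c12) (LK LD1_c10 LD2_c53 LD3_c61) Lrfl Lrfl
theorem f271663 : Led Lsl_ct (LP (LK LD1_c10 LD2_c53 LD3_c61)) = (LP (LK LD1_c16 LD2_c1 LD3_c10)) :=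
  Lgr Lrot15 (Lpe (f271661 IH) (Lpr_cf (K17.f271647 IH) (Lpe (K17.f271662 IH) (Lpn (LP (LK LD1_c16 LD2_c1 LD3_c10))))))
theorem f271690 : Led Lsl_ft (LP (LK LD1_c19 LD2_c41 LD3_c61)) = (LP (LK LD1_c10 LD2_c53 LD3_c61)) :=
  Lre_f IH (LK LD1_c19 LD2_c41 LD3_c61) (LK LD1_c10 LD2_c53 LD3_c61) Lrfl Lrfl
theorem f271692 : Led Lsl_cf (LP (LK LD1_c19 LD2_c41 LD3_c61)) = (LP (LK LD1_c25 LD2_c58 LD3_c36)) :=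
  Lgr Lrot108 (Lpr_ft (f271690 IH) (Lpr_ct (f271663 IH) (Lpr_ft (f271691 IH) (Lpn (LP (LK LD1_c25 LD2_c58 LD3_c36))))))
theorem f271701 : Led Lsl_ct (LP (LK LD1_c19 LD2_c41 LD3_c61)) = (LP (LK LD1_c25 LD2_c58 LD3_c36)) :=
  Lgr Lrot59 (Lpr_cf (f271692 IH) (Lpn (LP (LK LD1_c25 LD2_c58 LD3_c36))))
theorem f244694 : Led Lsl_cf (LP (LK LD1_c5 LD2_c27 LD3_c51)) = (LP (LK LD1_c8 LD2_c30 LD3_c18)) :=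
  Lgr Lrot14 (Lpe (K15.f172919 IH) (Lpe (K15.f172918 IH) (Lpe (K13.f7893 IH) (Lpr_gf (K14.f244675 IH) (Lpr_ct (K12.f188961 IH) (Lpr_gt (K13.f1345 IH) (Lpe (K13.f243311 IH) (Lpe (K13.f243500 IH) (Lpr_dt (f243279 IH) (Lpn (LP (LK LD1_c8 LD2_c30 LD3_c18))))))))))))
theorem f244701 : Led Lsl_et (LP (LK LD1_c5 LD2_c27 LD3_c51)) = (LP (LK LD1_c10 LD2_c46 LD3_c51)) :=
  Lre_e IH (LK LD1_c5 LD2_c27 LD3_c51) (LK LD1_c10 LD2_c46 LD3_c51) Lrfl Lrfl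
theorem f244770 : Led Lsl_et (LP (LK LD1_c15 LD2_c58 LD3_c15)) = (LP (LK LD1_c8 LD2_c30 LD3_c18)) :=
  Lre_e IH (LK LD1_c15 LD2_c58 LD3_c15) (LK LD1_c8 LD2_c30 LD3_c18) Lrfl Lrfl
theorem f244771 : Led Lsl_ct (LP (LK LD1_c10 LD2_c46 LD3_c51)) = (LP (LK LD1_c15 LD2_c58 LD3_c15)) :=
  Lgr Lrot15 (Lpe (f244701 IH) (Lpr_cf (f244694 IH) (Lpe (f244770 IH) (Lpn (LP (LK LD1_c15 LD2_c58 LD3_c15))))))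
theorem f244781 : Led Lsl_ft (LP (LK LD1_c19 LD2_c30 LD3_c3)) = (LP (LK LD1_c10 LD2_c46 LD3_c51)) :=
  Lre_f IH (LK LD1_c19 LD2_c30 LD3_c3) (LK LD1_c10 LD2_c46 LD3_c51) Lrfl Lrfl
theorem f244782 : Led Lsl_ft (LP (LK LD1_c15 LD2_c58 LD3_c15)) = (LP (LK LD1_c25 LD2_c55 LD3_c6)) :=
  Lre_f IH (LK LD1_c15 LD2_c58 LD3_c15) (LK LD1_c25 LD2_c55 LD3_c6) Lrfl Lrfl
theorem f244783 : Led Lsl_cf (LP (LK LD1_c19 LD2_c30 LD3_c3)) = (LP (LK LD1_c25 LD2_c55 LD3_c6)) :=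
  Lgr Lrot108 (Lpr_ft (f244781 IH) (Lpr_ct (f244771 IH) (Lpr_ft (f244782 IH) (Lpn (LP (LK LD1_c25 LD2_c55 LD3_c6))))))
theorem f295436 : Led Lsl_af (LP (LK LD1_c19 LD2_c41 LD3_c61)) = (LP (LK LD1_c19 LD2_c30 LD3_c3)) :=
  Lgr Lrot68 (Lpr_ct (f271701 IH) (Lpr_at (f295430 IH) (Lpe (f244783 IH) (Lpn (LP (LK LD1_c19 LD2_c30 LD3_c3))))))
theorem f271703 : Led Lsl_dt (LP (LK LD1_c19 LD2_c41 LD3_c61)) = (LP (LK LD1_c29 LD2_c2 LD3_c9)) :=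
  Lre_d IH (LK LD1_c19 LD2_c41 LD3_c61) (LK LD1_c29 LD2_c2 LD3_c9) Lrfl Lrfl
theorem f244795 : Led Lsl_dt (LP (LK LD1_c28 LD2_c52 LD3_c40)) = (LP (LK LD1_c19 LD2_c30 LD3_c3)) :=
  Lre_d IH (LK LD1_c28 LD2_c52 LD3_c40) (LK LD1_c19 LD2_c30 LD3_c3) Lrfl Lrfl
theorem f295442 : Led Lsl_at (LP (LK LD1_c29 LD2_c2 LD3_c9)) = (LP (LK LD1_c28 LD2_c52 LD3_c40)) :=
  Lgr Lrot51 (Lpe (f271703 IH) (Lpr_af (f295436 IH) (Lpe (f244795 IH) (Lpn (LP (LK LD1_c28 LD2_c52 LD3_c40))))))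
theorem f271694 : Led Lsl_ft (LP (LK LD1_c19 LD2_c41 LD3_c60)) = (LP (LK LD1_c29 LD2_c2 LD3_c9)) :=
  Lre_f IH (LK LD1_c19 LD2_c41 LD3_c60) (LK LD1_c29 LD2_c2 LD3_c9) Lrfl Lrfl
theorem f244799 : Led Lsl_ft (LP (LK LD1_c28 LD2_c52 LD3_c40)) = (LP (LK LD1_c19 LD2_c30 LD3_c2)) :=
  Lre_f IH (LK LD1_c28 LD2_c52 LD3_c40) (LK LD1_c19 LD2_c30 LD3_c2) Lrfl Lrfl
theorem f295449 : Led Lsl_af (LP (LK LD1_c19 LD2_c41 LD3_c60)) = (LP (LK LD1_c19 LD2_c30 LD3_c2)) :=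
  Lgr Lrot45 (Lpr_ft (f271694 IH) (Lpr_at (f295442 IH) (Lpr_ft (f244799 IH) (Lpn (LP (LK LD1_c19 LD2_c30 LD3_c2))))))
theorem f295455 : Led Lsl_at (LP (LK LD1_c19 LD2_c41 LD3_c60)) = (LP (LK LD1_c19 LD2_c30 LD3_c2)) :=
  Lgr Lrot100 (Lpr_af (f295449 IH) (Lpn (LP (LK LD1_c19 LD2_c30 LD3_c2))))
theorem f245126 : Led Lsl_et (LP (LK LD1_c19 LD2_c30 LD3_c2)) = (LP (LK LD1_c10 LD2_c46 LD3_c52)) :=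
  Lre_e IH (LK LD1_c19 LD2_c30 LD3_c2) (LK LD1_c10 LD2_c46 LD3_c52) Lrfl Lrfl
theorem f286187 : Led Lsl_af (LP (LK LD1_c16 LD2_c44 LD3_c24)) = (LP (LK LD1_c10 LD2_c46 LD3_c52)) :=
  Lgr Lrot117 (Lpr_dt (K17.f213801 IH) (Lpr_at (K17.f286153 IH) (Lpr_dt (K17.f245095 IH) (Lpn (LP (LK LD1_c10 LD2_c46 LD3_c52))))))
theorem f295480 : Led Lsl_ef (LP (LK LD1_c19 LD2_c41 LD3_c60)) = (LP (LK LD1_c16 LD2_c44 LD3_c24)) :=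
  Lgr Lrot20 (Lpr_at (f295455 IH) (Lpr_et (f245126 IH) (Lpe (f286187 IH) (Lpn (LP (LK LD1_c16 LD2_c44 LD3_c24))))))
theorem f295457 : Led Lsl_bt (LP (LK LD1_c19 LD2_c41 LD3_c60)) = (LP (LK LD1_c29 LD2_c2 LD3_c3)) :=
  Lre_b IH (LK LD1_c19 LD2_c41 LD3_c60) (LK LD1_c29 LD2_c2 LD3_c3) Lrfl Lrfl
theorem f286622 : Led Lsl_bt (LP (LK LD1_c26 LD2_c43 LD3_c16)) = (LP (LK LD1_c16 LD2_c44 LD3_c24)) :=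
  Lre_b IH (LK LD1_c26 LD2_c43 LD3_c16) (LK LD1_c16 LD2_c44 LD3_c24) Lrfl Lrfl
theorem f295484 : Led Lsl_et (LP (LK LD1_c29 LD2_c2 LD3_c3)) = (LP (LK LD1_c26 LD2_c43 LD3_c16)) :=
  Lgr Lrot74 (Lpe (f295457 IH) (Lpr_ef (f295480 IH) (Lpe (f286622 IH) (Lpn (LP (LK LD1_c26 LD2_c43 LD3_c16))))))
theorem f295524 : Led Lsl_dt (LP (LK LD1_c19 LD2_c41 LD3_c58)) = (LP (LK LD1_c29 LD2_c2 LD3_c3)) :=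
  Lre_d IH (LK LD1_c19 LD2_c41 LD3_c58) (LK LD1_c29 LD2_c2 LD3_c3) Lrfl Lrfl
theorem f295525 : Led Lsl_et (LP (LK LD1_c10 LD2_c53 LD3_c60)) = (LP (LK LD1_c19 LD2_c41 LD3_c58)) :=
  Lre_e IH (LK LD1_c10 LD2_c53 LD3_c60) (LK LD1_c19 LD2_c41 LD3_c58) Lrfl Lrfl
theorem f247288 : Led Lsl_dt (LP (LK LD1_c26 LD2_c43 LD3_c16)) = (LP (LK LD1_c16 LD2_c44 LD3_c23)) :=
  Lre_d IH (LK LD1_c26 LD2_c43 LD3_c16) (LK LD1_c16 LD2_c44 LD3_c23) Lrfl Lrfl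
theorem f295526 : Led Lsl_df (LP (LK LD1_c10 LD2_c53 LD3_c60)) = (LP (LK LD1_c8 LD2_c56 LD3_c31)) :=
  Lgr Lrot70 (Lpr_et (f295525 IH) (Lpr_dt (f295524 IH) (Lpr_et (f295484 IH) (Lpr_dt (f247288 IH) (Lpr_et (K14.f247280 IH) (Lpn (LP (LK LD1_c8 LD2_c56 LD3_c31))))))))
theorem f243652 : Led Lsl_bt (LP (LK LD1_c2 LD2_c40 LD3_c17)) = (LP (LK LD1_c5 LD2_c27 LD3_c53)) :=
  Lre_b IH (LK LD1_c2 LD2_c40 LD3_c17) (LK LD1_c5 LD2_c27 LD3_c53) Lrfl Lrfl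
theorem f286236 : Led Lsl_ff (LP (LK LD1_c8 LD2_c56 LD3_c31)) = (LP (LK LD1_c5 LD2_c27 LD3_c53)) :=
  Lgr Lrot25 (Lpr_bt (K14.f213840 IH) (Lpr_ft (K17.f286234 IH) (Lpr_bt (f243652 IH) (Lpn (LP (LK LD1_c5 LD2_c27 LD3_c53))))))
theorem f200996 : Led Lsl_dt (LP (LK LD1_c10 LD2_c46 LD3_c57)) = (LP (LK LD1_c5 LD2_c27 LD3_c53)) :=
  Lre_d IH (LK LD1_c10 LD2_c46 LD3_c57) (LK LD1_c5 LD2_c27 LD3_c53) Lrfl Lrfl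
theorem f295536 : Led Lsl_ft (LP (LK LD1_c10 LD2_c53 LD3_c60)) = (LP (LK LD1_c10 LD2_c46 LD3_c57)) :=
  Lgr Lrot54 (Lpr_df (f295526 IH) (Lpr_ff (f286236 IH) (Lpe (f200996 IH) (Lpn (LP (LK LD1_c10 LD2_c46 LD3_c57))))))
theorem f295545 : Led Lsl_ff (LP (LK LD1_c10 LD2_c53 LD3_c60)) = (LP (LK LD1_c10 LD2_c46 LD3_c57)) :=
  Lgr Lrot3 (Lpr_ft (f295536 IH) (Lpn (LP (LK LD1_c10 LD2_c46 LD3_c57))))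
theorem f221374 : Led Lsl_ct (LP (LK LD1_c10 LD2_c53 LD3_c60)) = (LP (LK LD1_c19 LD2_c41 LD3_c57)) :=
  Lre_c IH (LK LD1_c10 LD2_c53 LD3_c60) (LK LD1_c19 LD2_c41 LD3_c57) Lrfl Lrfl
theorem f244658 : Led Lsl_ct (LP (LK LD1_c19 LD2_c30 LD3_c15)) = (LP (LK LD1_c10 LD2_c46 LD3_c57)) :=
  Lre_c IH (LK LD1_c19 LD2_c30 LD3_c15) (LK LD1_c10 LD2_c46 LD3_c57) Lrfl Lrfl
theorem f295550 : Led Lsl_ft (LP (LK LD1_c19 LD2_c41 LD3_c57)) = (LP (LK LD1_c19 LD2_c30 LD3_c15)) :=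
  Lgr Lrot4 (Lpe (f221374 IH) (Lpr_ff (f295545 IH) (Lpe (f244658 IH) (Lpn (LP (LK LD1_c19 LD2_c30 LD3_c15))))))
theorem f174994 : Led Lsl_bt (LP (LK LD1_c10 LD2_c53 LD3_c60)) = (LP (LK LD1_c5 LD2_c31 LD3_c12)) :=
  Lre_b IH (LK LD1_c10 LD2_c53 LD3_c60) (LK LD1_c5 LD2_c31 LD3_c12) Lrfl Lrfl
theorem f174995 : Led Lsl_ct (LP (LK LD1_c19 LD2_c41 LD3_c57)) = (LP (LK LD1_c10 LD2_c53 LD3_c60)) :=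
  Lre_c IH (LK LD1_c19 LD2_c41 LD3_c57) (LK LD1_c10 LD2_c53 LD3_c60) Lrfl Lrfl
theorem f271671 : Led Lsl_bt (LP (LK LD1_c8 LD2_c31 LD3_c59)) = (LP (LK LD1_c16 LD2_c1 LD3_c9)) :=
  Lre_b IH (LK LD1_c8 LD2_c31 LD3_c59) (LK LD1_c16 LD2_c1 LD3_c9) Lrfl Lrfl
theorem f271680 : Led Lsl_ct (LP (LK LD1_c16 LD2_c1 LD3_c9)) = (LP (LK LD1_c25 LD2_c58 LD3_c32)) :=
  Lre_c IH (LK LD1_c16 LD2_c1 LD3_c9) (LK LD1_c25 LD2_c58 LD3_c32) Lrfl Lrfl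
theorem f271714 : Led Lsl_bf (LP (LK LD1_c19 LD2_c41 LD3_c57)) = (LP (LK LD1_c25 LD2_c58 LD3_c32)) :=
  Lgr Lrot90 (Lpr_ct (f174995 IH) (Lpr_bt (f174994 IH) (Lpr_ct (K17.f271659 IH) (Lpr_bt (f271671 IH) (Lpr_ct (f271680 IH) (Lpn (LP (LK LD1_c25 LD2_c58 LD3_c32))))))))
theorem f244727 : Led Lsl_bt (LP (LK LD1_c8 LD2_c30 LD3_c12)) = (LP (LK LD1_c15 LD2_c58 LD3_c5)) :=
  Lre_b IH (LK LD1_c8 LD2_c30 LD3_c12) (LK LD1_c15 LD2_c58 LD3_c5) Lrfl Lrfl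
theorem f244728 : Led Lsl_ct (LP (LK LD1_c15 LD2_c58 LD3_c5)) = (LP (LK LD1_c25 LD2_c54 LD3_c58)) :=
  Lre_c IH (LK LD1_c15 LD2_c58 LD3_c5) (LK LD1_c25 LD2_c54 LD3_c58) Lrfl Lrfl
theorem f244729 : Led Lsl_bt (LP (LK LD1_c10 LD2_c46 LD3_c57)) = (LP (LK LD1_c5 LD2_c27 LD3_c54)) :=
  Lre_b IH (LK LD1_c10 LD2_c46 LD3_c57) (LK LD1_c5 LD2_c27 LD3_c54) Lrfl Lrfl
theorem f244730 : Led Lsl_bt (LP (LK LD1_c25 LD2_c54 LD3_c58)) = (LP (LK LD1_c19 LD2_c30 LD3_c15)) :=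
  Lgr Lrot128 (Lpe (f244728 IH) (Lpe (f244727 IH) (Lpr_cf (f244710 IH) (Lpe (f244729 IH) (Lpe (f244658 IH) (Lpn (LP (LK LD1_c19 LD2_c30 LD3_c15))))))))
theorem f244759 : Led Lsl_bf (LP (LK LD1_c25 LD2_c54 LD3_c58)) = (LP (LK LD1_c19 LD2_c30 LD3_c15)) :=
  Lgr Lrot24 (Lpr_bt (f244730 IH) (Lpn (LP (LK LD1_c19 LD2_c30 LD3_c15))))
theorem f295590 : Led Lsl_ff (LP (LK LD1_c25 LD2_c58 LD3_c32)) = (LP (LK LD1_c25 LD2_c54 LD3_c58)) :=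
  Lgr Lrot25 (Lpe (f271714 IH) (Lpr_ft (f295550 IH) (Lpe (f244759 IH) (Lpn (LP (LK LD1_c25 LD2_c54 LD3_c58))))))
theorem f295594 : Led Lsl_ft (LP (LK LD1_c25 LD2_c58 LD3_c32)) = (LP (LK LD1_c25 LD2_c54 LD3_c58)) :=
  Lgr Lrot48 (Lpr_ff (f295590 IH) (Lpn (LP (LK LD1_c25 LD2_c54 LD3_c58))))
theorem f244763 : Led Lsl_ct (LP (LK LD1_c25 LD2_c54 LD3_c58)) = (LP (LK LD1_c15 LD2_c58 LD3_c5)) :=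
  Lre_c IH (LK LD1_c25 LD2_c54 LD3_c58) (LK LD1_c15 LD2_c58 LD3_c5) Lrfl Lrfl
theorem f295596 : Led Lsl_ff (LP (LK LD1_c16 LD2_c1 LD3_c9)) = (LP (LK LD1_c15 LD2_c58 LD3_c5)) :=
  Lgr Lrot23 (Lpr_ct (f271680 IH) (Lpr_ft (f295594 IH) (Lpr_ct (f244763 IH) (Lpn (LP (LK LD1_c15 LD2_c58 LD3_c5))))))
theorem f271655 : Led Lsl_bt (LP (LK LD1_c16 LD2_c1 LD3_c9)) = (LP (LK LD1_c8 LD2_c31 LD3_c59)) :=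
  Lre_b IH (LK LD1_c16 LD2_c1 LD3_c9) (LK LD1_c8 LD2_c31 LD3_c59) Lrfl Lrfl
theorem f295605 : Led Lsl_ft (LP (LK LD1_c8 LD2_c31 LD3_c59)) = (LP (LK LD1_c8 LD2_c30 LD3_c12)) :=
  Lgr Lrot75 (Lpe (f271655 IH) (Lpr_ff (f295596 IH) (Lpe (f244727 IH) (Lpn (LP (LK LD1_c8 LD2_c30 LD3_c12))))))
theorem f295616 : Led Lsl_af (LP (LK LD1_c5 LD2_c30 LD3_c20)) = (LP (LK LD1_c8 LD2_c30 LD3_c12)) :=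
  Lgr Lrot31 (Lpe (K16.f250636 IH) (Lpr_gf (K17.f271665 IH) (Lpr_ft (f295605 IH) (Lpn (LP (LK LD1_c8 LD2_c30 LD3_c12))))))
theorem f295625 : Led Lsl_at (LP (LK LD1_c2 LD2_c41 LD3_c26)) = (LP (LK LD1_c4 LD2_c15 LD3_c37)) :=
  Lgr Lrot51 (Lpe (K16.f178843 IH) (Lpr_af (f295616 IH) (Lpe (K16.f243373 IH) (Lpn (LP (LK LD1_c4 LD2_c15 LD3_c37))))))
theorem f295095 : Led Lsl_et (LP (LK LD1_c5 LD2_c30 LD3_c16)) = (LP (LK LD1_c2 LD2_c41 LD3_c26)) :=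
  Lre_e IH (LK LD1_c5 LD2_c30 LD3_c16) (LK LD1_c2 LD2_c41 LD3_c26) Lrfl Lrfl
theorem f243363 : Led Lsl_et (LP (LK LD1_c4 LD2_c15 LD3_c37)) = (LP (LK LD1_c8 LD2_c30 LD3_c13)) :=
  Lre_e IH (LK LD1_c4 LD2_c15 LD3_c37) (LK LD1_c8 LD2_c30 LD3_c13) Lrfl Lrfl
theorem f295706 : Led Lsl_af (LP (LK LD1_c5 LD2_c30 LD3_c16)) = (LP (LK LD1_c8 LD2_c30 LD3_c13)) :=
  Lgr Lrot50 (Lpr_et (f295095 IH) (Lpr_at (f295625 IH) (Lpr_et (f243363 IH) (Lpn (LP (LK LD1_c8 LD2_c30 LD3_c13))))))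
theorem f295715 : Led Lsl_ft (LP (LK LD1_c5 LD2_c30 LD3_c16)) = (LP (LK LD1_c10 LD2_c51 LD3_c61)) :=
  Lre_f IH (LK LD1_c5 LD2_c30 LD3_c16) (LK LD1_c10 LD2_c51 LD3_c61) Lrfl Lrfl
theorem f243365 : Led Lsl_ft (LP (LK LD1_c15 LD2_c58 LD3_c9)) = (LP (LK LD1_c8 LD2_c30 LD3_c13)) :=
  Lre_f IH (LK LD1_c15 LD2_c58 LD3_c9) (LK LD1_c8 LD2_c30 LD3_c13) Lrfl Lrfl
theorem f295716 : Led Lsl_at (LP (LK LD1_c10 LD2_c51 LD3_c61)) = (LP (LK LD1_c15 LD2_c58 LD3_c9)) :=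
  Lgr Lrot66 (Lpe (f295715 IH) (Lpr_af (f295706 IH) (Lpe (f243365 IH) (Lpn (LP (LK LD1_c15 LD2_c58 LD3_c9))))))
theorem f295096 : Led Lsl_dt (LP (LK LD1_c5 LD2_c30 LD3_c16)) = (LP (LK LD1_c10 LD2_c51 LD3_c60)) :=
  Lre_d IH (LK LD1_c5 LD2_c30 LD3_c16) (LK LD1_c10 LD2_c51 LD3_c60) Lrfl Lrfl
theorem f295735 : Led Lsl_ct (LP (LK LD1_c10 LD2_c51 LD3_c60)) = (LP (LK LD1_c19 LD2_c38 LD3_c48)) :=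
  Lre_c IH (LK LD1_c10 LD2_c51 LD3_c60) (LK LD1_c19 LD2_c38 LD3_c48) Lrfl Lrfl
theorem f295736 : Led Lsl_dt (LP (LK LD1_c19 LD2_c38 LD3_c48)) = (LP (LK LD1_c28 LD2_c57 LD3_c31)) :=
  Lre_d IH (LK LD1_c19 LD2_c38 LD3_c48) (LK LD1_c28 LD2_c57 LD3_c31) Lrfl Lrfl
theorem f295737 : Led Lsl_ct (LP (LK LD1_c28 LD2_c57 LD3_c31)) = (LP (LK LD1_c19 LD2_c35 LD3_c33)) :=
  Lre_c IH (LK LD1_c28 LD2_c57 LD3_c31) (LK LD1_c19 LD2_c35 LD3_c33) Lrfl Lrfl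
theorem f273713 : Led Lsl_dt (LP (LK LD1_c19 LD2_c35 LD3_c33)) = (LP (LK LD1_c10 LD2_c50 LD3_c15)) :=
  Lre_d IH (LK LD1_c19 LD2_c35 LD3_c33) (LK LD1_c10 LD2_c50 LD3_c15) Lrfl Lrfl
theorem f222658 : Led Lsl_ct (LP (LK LD1_c10 LD2_c50 LD3_c15)) = (LP (LK LD1_c5 LD2_c29 LD3_c29)) :=
  Lre_c IH (LK LD1_c10 LD2_c50 LD3_c15) (LK LD1_c5 LD2_c29 LD3_c29) Lrfl Lrfl
theorem f295724 : Led Lsl_ct (LP (LK LD1_c8 LD2_c30 LD3_c16)) = (LP (LK LD1_c15 LD2_c58 LD3_c9)) :=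
  Lre_c IH (LK LD1_c8 LD2_c30 LD3_c16) (LK LD1_c15 LD2_c58 LD3_c9) Lrfl Lrfl
theorem f295738 : Led Lsl_dt (LP (LK LD1_c5 LD2_c29 LD3_c29)) = (LP (LK LD1_c8 LD2_c30 LD3_c16)) :=
  Lgr Lrot120 (Lpe (f222658 IH) (Lpe (f273713 IH) (Lpe (f295737 IH) (Lpe (f295736 IH) (Lpe (f295735 IH) (Lpe (f295096 IH) (Lpr_ft (f295715 IH) (Lpr_at (f295716 IH) (Lpe (f295724 IH) (Lpn (LP (LK LD1_c8 LD2_c30 LD3_c16))))))))))))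
theorem f295741 : Led Lsl_df (LP (LK LD1_c5 LD2_c29 LD3_c29)) = (LP (LK LD1_c8 LD2_c30 LD3_c16)) :=
  Lgr Lrot38 (Lpr_dt (f295738 IH) (Lpn (LP (LK LD1_c8 LD2_c30 LD3_c16))))
theorem f222655 : Led Lsl_gt (LP (LK LD1_c5 LD2_c29 LD3_c29)) = (LP (LK LD1_c2 LD2_c41 LD3_c22)) :=
  Lre_g IH (LK LD1_c5 LD2_c29 LD3_c29) (LK LD1_c2 LD2_c41 LD3_c22) Lrfl Lrfl
theorem f809 : Led Lsl_et (LP (LK LD1_c2 LD2_c1 LD3_c30)) = (LP (LK LD1_c4 LD2_c8 LD3_c16)) :=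
  Lre_e IH (LK LD1_c2 LD2_c1 LD3_c30) (LK LD1_c4 LD2_c8 LD3_c16) Lrfl Lrfl
theorem f236018 : Led Lsl_gt (LP (LK LD1_c4 LD2_c8 LD3_c16)) = (LP (LK LD1_c8 LD2_c16 LD3_c35)) :=
  Lre_g IH (LK LD1_c4 LD2_c8 LD3_c16) (LK LD1_c8 LD2_c16 LD3_c35) Lrfl Lrfl
theorem f295763 : Led Lsl_ef (LP (LK LD1_c8 LD2_c16 LD3_c35)) = (LP (LK LD1_c8 LD2_c30 LD3_c16)) :=
  Lgr Lrot17 (Lpe (f236018 IH) (Lpe (f809 IH) (Lpr_dt (K12.f806 IH) (Lpe (K9.f51615 IH) (Lpe (K12.f50142 IH) (Lpe (K12.f51409 IH) (Lpe (K13.f1328 IH) (Lpr_dt (K13.f236195 IH) (Lpe (f222655 IH) (Lpr_df (f295741 IH) (Lpn (LP (LK LD1_c8 LD2_c30 LD3_c16)))))))))))))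
theorem f283177 : Led Lsl_ft (LP (LK LD1_c4 LD2_c15 LD3_c38)) = (LP (LK LD1_c8 LD2_c30 LD3_c16)) :=
  Lre_f IH (LK LD1_c4 LD2_c15 LD3_c38) (LK LD1_c8 LD2_c30 LD3_c16) Lrfl Lrfl
theorem f263149 : Led Lsl_et (LP (LK LD1_c2 LD2_c5 LD3_c10)) = (LP (LK LD1_c4 LD2_c15 LD3_c38)) :=
  Lre_e IH (LK LD1_c2 LD2_c5 LD3_c10) (LK LD1_c4 LD2_c15 LD3_c38) Lrfl Lrfl
theorem f295771 : Led Lsl_ft (LP (LK LD1_c8 LD2_c16 LD3_c35)) = (LP (LK LD1_c4 LD2_c9 LD3_c11)) :=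
  Lgr Lrot86 (Lpr_ef (f295763 IH) (Lpe (f283177 IH) (Lpe (f263149 IH) (Lpe (f282699 IH) (Lpr_ef (K17.f283171 IH) (Lpn (LP (LK LD1_c4 LD2_c9 LD3_c11))))))))
theorem f295780 : Led Lsl_ff (LP (LK LD1_c8 LD2_c16 LD3_c35)) = (LP (LK LD1_c4 LD2_c9 LD3_c11)) :=
  Lgr Lrot3 (Lpr_ft (f295771 IH) (Lpn (LP (LK LD1_c4 LD2_c9 LD3_c11))))
theorem f236019 : Led Lsl_ct (LP (LK LD1_c8 LD2_c16 LD3_c35)) = (LP (LK LD1_c15 LD2_c33 LD3_c44)) :=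
  Lre_c IH (LK LD1_c8 LD2_c16 LD3_c35) (LK LD1_c15 LD2_c33 LD3_c44) Lrfl Lrfl
theorem f295786 : Led Lsl_ft (LP (LK LD1_c15 LD2_c33 LD3_c44)) = (LP (LK LD1_c8 LD2_c18 LD3_c25)) :=
  Lgr Lrot4 (Lpe (f236019 IH) (Lpr_ff (f295780 IH) (Lpe (K17.f236292 IH) (Lpn (LP (LK LD1_c8 LD2_c18 LD3_c25))))))
theorem f295792 : Led Lsl_dt (LP (LK LD1_c25 LD2_c27 LD3_c25)) = (LP (LK LD1_c15 LD2_c33 LD3_c44)) :=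
  Lre_d IH (LK LD1_c25 LD2_c27 LD3_c25) (LK LD1_c15 LD2_c33 LD3_c44) Lrfl Lrfl
theorem f295793 : Led Lsl_ff (LP (LK LD1_c25 LD2_c27 LD3_c25)) = (LP (LK LD1_c15 LD2_c37 LD3_c26)) :=
  Lgr Lrot19 (Lpr_dt (f295792 IH) (Lpr_ft (f295786 IH) (Lpr_dt (K17.f236285 IH) (Lpn (LP (LK LD1_c15 LD2_c37 LD3_c26))))))
theorem f231613 : Led Lsl_ct (LP (LK LD1_c4 LD2_c14 LD3_c58)) = (LP (LK LD1_c8 LD2_c28 LD3_c48)) :=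
  Lre_c IH (LK LD1_c4 LD2_c14 LD3_c58) (LK LD1_c8 LD2_c28 LD3_c48) Lrfl Lrfl
theorem f231690 : Led Lsl_dt (LP (LK LD1_c8 LD2_c28 LD3_c48)) = (LP (LK LD1_c15 LD2_c55 LD3_c22)) :=
  Lre_d IH (LK LD1_c8 LD2_c28 LD3_c48) (LK LD1_c15 LD2_c55 LD3_c22) Lrfl Lrfl
theorem f236300 : Led Lsl_ct (LP (LK LD1_c15 LD2_c55 LD3_c22)) = (LP (LK LD1_c25 LD2_c51 LD3_c39)) :=
  Lre_c IH (LK LD1_c15 LD2_c55 LD3_c22) (LK LD1_c25 LD2_c51 LD3_c39) Lrfl Lrfl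
theorem f294999 : Led Lsl_dt (LP (LK LD1_c25 LD2_c51 LD3_c39)) = (LP (LK LD1_c25 LD2_c32 LD3_c13)) :=
  Lgr Lrot42 (Lpr_df (f294992 IH) (Lpn (LP (LK LD1_c25 LD2_c32 LD3_c13))))
theorem f295788 : Led Lsl_ct (LP (LK LD1_c25 LD2_c32 LD3_c13)) = (LP (LK LD1_c15 LD2_c37 LD3_c24)) :=
  Lre_c IH (LK LD1_c25 LD2_c32 LD3_c13) (LK LD1_c15 LD2_c37 LD3_c24) Lrfl Lrfl
theorem f295802 : Led Lsl_at (LP (LK LD1_c25 LD2_c27 LD3_c25)) = (LP (LK LD1_c15 LD2_c37 LD3_c24)) :=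
  Lgr Lrot33 (Lpr_ff (f295793 IH) (Lpr_dt (K17.f236293 IH) (Lpr_ct (K17.f236292 IH) (Lpe (K17.f236287 IH) (Lpr_ct (f231613 IH) (Lpr_dt (f231690 IH) (Lpr_ct (f236300 IH) (Lpr_dt (f294999 IH) (Lpr_ct (f295788 IH) (Lpn (LP (LK LD1_c15 LD2_c37 LD3_c24))))))))))))
theorem f295797 : Led Lsl_dt (LP (LK LD1_c15 LD2_c33 LD3_c44)) = (LP (LK LD1_c25 LD2_c27 LD3_c25)) :=
  Lre_d IH (LK LD1_c15 LD2_c33 LD3_c44) (LK LD1_c25 LD2_c27 LD3_c25) Lrfl Lrfl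
theorem f294995 : Led Lsl_dt (LP (LK LD1_c15 LD2_c37 LD3_c24)) = (LP (LK LD1_c8 LD2_c18 LD3_c24)) :=
  Lre_d IH (LK LD1_c15 LD2_c37 LD3_c24) (LK LD1_c8 LD2_c18 LD3_c24) Lrfl Lrfl
theorem f295806 : Led Lsl_af (LP (LK LD1_c15 LD2_c33 LD3_c44)) = (LP (LK LD1_c8 LD2_c18 LD3_c24)) :=
  Lgr Lrot117 (Lpr_dt (f295797 IH) (Lpr_at (f295802 IH) (Lpr_dt (f294995 IH) (Lpn (LP (LK LD1_c8 LD2_c18 LD3_c24))))))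
theorem f295725 : Led Lsl_ct (LP (LK LD1_c15 LD2_c58 LD3_c9)) = (LP (LK LD1_c8 LD2_c30 LD3_c16)) :=
  Lre_c IH (LK LD1_c15 LD2_c58 LD3_c9) (LK LD1_c8 LD2_c30 LD3_c16) Lrfl Lrfl
theorem f295765 : Led Lsl_et (LP (LK LD1_c15 LD2_c33 LD3_c44)) = (LP (LK LD1_c15 LD2_c58 LD3_c9)) :=
  Lgr Lrot158 (Lpe (f236019 IH) (Lpr_ef (f295763 IH) (Lpe (f295725 IH) (Lpn (LP (LK LD1_c15 LD2_c58 LD3_c9))))))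
theorem f295728 : Led Lsl_af (LP (LK LD1_c10 LD2_c51 LD3_c61)) = (LP (LK LD1_c15 LD2_c58 LD3_c9)) :=
  Lgr Lrot0 (Lpr_at (f295716 IH) (Lpn (LP (LK LD1_c15 LD2_c58 LD3_c9))))
theorem f295821 : Led Lsl_et (LP (LK LD1_c10 LD2_c51 LD3_c61)) = (LP (LK LD1_c8 LD2_c18 LD3_c24)) :=
  Lgr Lrot123 (Lpr_af (f295728 IH) (Lpe (f295765 IH) (Lpr_af (f295806 IH) (Lpn (LP (LK LD1_c8 LD2_c18 LD3_c24))))))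
theorem f295827 : Led Lsl_et (LP (LK LD1_c2 LD2_c41 LD3_c26)) = (LP (LK LD1_c5 LD2_c30 LD3_c16)) :=
  Lre_e IH (LK LD1_c2 LD2_c41 LD3_c26) (LK LD1_c5 LD2_c30 LD3_c16) Lrfl Lrfl
theorem f295047 : Led Lsl_ff (LP (LK LD1_c2 LD2_c41 LD3_c26)) = (LP (LK LD1_c4 LD2_c15 LD3_c39)) :=
  Lgr Lrot23 (Lpr_ct (K16.f178842 IH) (Lpr_ft (f295045 IH) (Lpr_ct (K13.f243265 IH) (Lpn (LP (LK LD1_c4 LD2_c15 LD3_c39))))))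
theorem f243287 : Led Lsl_et (LP (LK LD1_c8 LD2_c30 LD3_c19)) = (LP (LK LD1_c4 LD2_c15 LD3_c39)) :=
  Lre_e IH (LK LD1_c8 LD2_c30 LD3_c19) (LK LD1_c4 LD2_c15 LD3_c39) Lrfl Lrfl
theorem f295828 : Led Lsl_ff (LP (LK LD1_c8 LD2_c30 LD3_c19)) = (LP (LK LD1_c8 LD2_c18 LD3_c24)) :=
  Lgr Lrot72 (Lpr_et (f243287 IH) (Lpe (f295047 IH) (Lpr_et (f295827 IH) (Lpr_ft (f295715 IH) (Lpr_et (f295821 IH) (Lpn (LP (LK LD1_c8 LD2_c18 LD3_c24))))))))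
theorem f243296 : Led Lsl_ct (LP (LK LD1_c4 LD2_c15 LD3_c40)) = (LP (LK LD1_c8 LD2_c30 LD3_c19)) :=
  Lre_c IH (LK LD1_c4 LD2_c15 LD3_c40) (LK LD1_c8 LD2_c30 LD3_c19) Lrfl Lrfl
theorem f295039 : Led Lsl_af (LP (LK LD1_c8 LD2_c18 LD3_c25)) = (LP (LK LD1_c8 LD2_c30 LD3_c19)) :=
  Lgr Lrot68 (Lpr_ct (K17.f236292 IH) (Lpr_at (f295009 IH) (Lpr_ct (f243296 IH) (Lpn (LP (LK LD1_c8 LD2_c30 LD3_c19))))))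
theorem f292392 : Led Lsl_gt (LP (LK LD1_c8 LD2_c18 LD3_c24)) = (LP (LK LD1_c15 LD2_c37 LD3_c23)) :=
  Lre_g IH (LK LD1_c8 LD2_c18 LD3_c24) (LK LD1_c15 LD2_c37 LD3_c23) Lrfl Lrfl
theorem f295836 : Led Lsl_gf (LP (LK LD1_c8 LD2_c18 LD3_c25)) = (LP (LK LD1_c15 LD2_c37 LD3_c23)) :=
  Lgr Lrot76 (Lpr_af (f295039 IH) (Lpr_ff (f295828 IH) (Lpr_gt (f292392 IH) (Lpn (LP (LK LD1_c15 LD2_c37 LD3_c23))))))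
theorem f568 : Led Lsl_ct (LP (LK LD1_c4 LD2_c8 LD3_c27)) = (LP (LK LD1_c8 LD2_c17 LD3_c0)) :=
  Lre_c IH (LK LD1_c4 LD2_c8 LD3_c27) (LK LD1_c8 LD2_c17 LD3_c0) Lrfl Lrfl
theorem f812 : Led Lsl_ct (LP (LK LD1_c8 LD2_c30 LD3_c10)) = (LP (LK LD1_c4 LD2_c15 LD3_c36)) :=
  Lre_c IH (LK LD1_c8 LD2_c30 LD3_c10) (LK LD1_c4 LD2_c15 LD3_c36) Lrfl Lrfl
theorem f813 : Led Lsl_ft (LP (LK LD1_c8 LD2_c17 LD3_c0)) = (LP (LK LD1_c8 LD2_c30 LD3_c10)) :=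
  Lgr Lrot4 (Lpe (f568 IH) (Lpr_ff (K14.f800 IH) (Lpe (f812 IH) (Lpn (LP (LK LD1_c8 LD2_c30 LD3_c10))))))
theorem f849 : Led Lsl_ff (LP (LK LD1_c8 LD2_c17 LD3_c0)) = (LP (LK LD1_c8 LD2_c30 LD3_c10)) :=
  Lgr Lrot3 (Lpr_ft (f813 IH) (Lpn (LP (LK LD1_c8 LD2_c30 LD3_c10))))
theorem f861 : Led Lsl_et (LP (LK LD1_c8 LD2_c17 LD3_c0)) = (LP (LK LD1_c4 LD2_c8 LD3_c26)) :=
  Lre_e IH (LK LD1_c8 LD2_c17 LD3_c0) (LK LD1_c4 LD2_c8 LD3_c26) Lrfl Lrfl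
theorem f862 : Led Lsl_ft (LP (LK LD1_c4 LD2_c8 LD3_c26)) = (LP (LK LD1_c2 LD2_c1 LD3_c34)) :=
  Lre_f IH (LK LD1_c4 LD2_c8 LD3_c26) (LK LD1_c2 LD2_c1 LD3_c34) Lrfl Lrfl
theorem f863 : Led Lsl_et (LP (LK LD1_c4 LD2_c15 LD3_c35)) = (LP (LK LD1_c8 LD2_c30 LD3_c10)) :=
  Lre_e IH (LK LD1_c4 LD2_c15 LD3_c35) (LK LD1_c8 LD2_c30 LD3_c10) Lrfl Lrfl
theorem f864 : Led Lsl_ft (LP (LK LD1_c2 LD2_c5 LD3_c8)) = (LP (LK LD1_c4 LD2_c15 LD3_c35)) :=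
  Lre_f IH (LK LD1_c2 LD2_c5 LD3_c8) (LK LD1_c4 LD2_c15 LD3_c35) Lrfl Lrfl
theorem f865 : Led Lsl_et (LP (LK LD1_c2 LD2_c1 LD3_c34)) = (LP (LK LD1_c2 LD2_c5 LD3_c8)) :=
  Lgr Lrot69 (Lpe (f862 IH) (Lpe (f861 IH) (Lpr_ff (f849 IH) (Lpe (f863 IH) (Lpe (f864 IH) (Lpn (LP (LK LD1_c2 LD2_c5 LD3_c8))))))))
theorem f889 : Led Lsl_et (LP (LK LD1_c8 LD2_c16 LD3_c61)) = (LP (LK LD1_c4 LD2_c8 LD3_c25)) :=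
  Lre_e IH (LK LD1_c8 LD2_c16 LD3_c61) (LK LD1_c4 LD2_c8 LD3_c25) Lrfl Lrfl
theorem f891 : Led Lsl_et (LP (LK LD1_c4 LD2_c15 LD3_c34)) = (LP (LK LD1_c8 LD2_c30 LD3_c9)) :=
  Lre_e IH (LK LD1_c4 LD2_c15 LD3_c34) (LK LD1_c8 LD2_c30 LD3_c9) Lrfl Lrfl
theorem f892 : Led Lsl_df (LP (LK LD1_c8 LD2_c16 LD3_c61)) = (LP (LK LD1_c8 LD2_c30 LD3_c9)) :=
  Lgr Lrot70 (Lpr_et (f889 IH) (Lpr_dt (K9.f888 IH) (Lpr_et (f865 IH) (Lpr_dt (K16.f890 IH) (Lpr_et (f891 IH) (Lpn (LP (LK LD1_c8 LD2_c30 LD3_c9))))))))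
theorem f916 : Led Lsl_ft (LP (LK LD1_c8 LD2_c16 LD3_c61)) = (LP (LK LD1_c15 LD2_c34 LD3_c42)) :=
  Lre_f IH (LK LD1_c8 LD2_c16 LD3_c61) (LK LD1_c15 LD2_c34 LD3_c42) Lrfl Lrfl
theorem f917 : Led Lsl_ft (LP (LK LD1_c15 LD2_c58 LD3_c1)) = (LP (LK LD1_c8 LD2_c30 LD3_c9)) :=
  Lre_f IH (LK LD1_c15 LD2_c58 LD3_c1) (LK LD1_c8 LD2_c30 LD3_c9) Lrfl Lrfl
theorem f918 : Led Lsl_dt (LP (LK LD1_c15 LD2_c34 LD3_c42)) = (LP (LK LD1_c15 LD2_c58 LD3_c1)) :=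
  Lgr Lrot60 (Lpe (f916 IH) (Lpr_df (f892 IH) (Lpe (f917 IH) (Lpn (LP (LK LD1_c15 LD2_c58 LD3_c1))))))
theorem f942 : Led Lsl_df (LP (LK LD1_c15 LD2_c34 LD3_c42)) = (LP (LK LD1_c15 LD2_c58 LD3_c1)) :=
  Lgr Lrot38 (Lpr_dt (f918 IH) (Lpn (LP (LK LD1_c15 LD2_c58 LD3_c1))))
theorem f960 : Led Lsl_at (LP (LK LD1_c15 LD2_c34 LD3_c42)) = (LP (LK LD1_c8 LD2_c20 LD3_c0)) :=
  Lre_a IH (LK LD1_c15 LD2_c34 LD3_c42) (LK LD1_c8 LD2_c20 LD3_c0) Lrfl Lrfl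
theorem f961 : Led Lsl_at (LP (LK LD1_c8 LD2_c32 LD3_c28)) = (LP (LK LD1_c15 LD2_c58 LD3_c1)) :=
  Lre_a IH (LK LD1_c8 LD2_c32 LD3_c28) (LK LD1_c15 LD2_c58 LD3_c1) Lrfl Lrfl
theorem f962 : Led Lsl_dt (LP (LK LD1_c8 LD2_c20 LD3_c0)) = (LP (LK LD1_c8 LD2_c32 LD3_c28)) :=
  Lgr Lrot44 (Lpe (f960 IH) (Lpr_df (f942 IH) (Lpe (f961 IH) (Lpn (LP (LK LD1_c8 LD2_c32 LD3_c28))))))
theorem f987 : Led Lsl_ft (LP (LK LD1_c4 LD2_c9 LD3_c55)) = (LP (LK LD1_c8 LD2_c20 LD3_c0)) :=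
  Lre_f IH (LK LD1_c4 LD2_c9 LD3_c55) (LK LD1_c8 LD2_c20 LD3_c0) Lrfl Lrfl
theorem f988 : Led Lsl_ft (LP (LK LD1_c8 LD2_c32 LD3_c28)) = (LP (LK LD1_c4 LD2_c16 LD3_c36)) :=
  Lre_f IH (LK LD1_c8 LD2_c32 LD3_c28) (LK LD1_c4 LD2_c16 LD3_c36) Lrfl Lrfl
theorem f989 : Led Lsl_df (LP (LK LD1_c4 LD2_c9 LD3_c55)) = (LP (LK LD1_c4 LD2_c16 LD3_c36)) :=
  Lgr Lrot78 (Lpr_ft (f987 IH) (Lpr_dt (f962 IH) (Lpr_ft (f988 IH) (Lpn (LP (LK LD1_c4 LD2_c16 LD3_c36))))))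
theorem f1004 : Led Lsl_et (LP (LK LD1_c4 LD2_c9 LD3_c55)) = (LP (LK LD1_c2 LD2_c2 LD3_c9)) :=
  Lre_e IH (LK LD1_c4 LD2_c9 LD3_c55) (LK LD1_c2 LD2_c2 LD3_c9) Lrfl Lrfl
theorem f1006 : Led Lsl_et (LP (LK LD1_c2 LD2_c5 LD3_c34)) = (LP (LK LD1_c4 LD2_c16 LD3_c36)) :=
  Lre_e IH (LK LD1_c2 LD2_c5 LD3_c34) (LK LD1_c4 LD2_c16 LD3_c36) Lrfl Lrfl
theorem f1008 : Led Lsl_et (LP (LK LD1_c0 LD2_c57 LD3_c61)) = (LP (LK LD1_c0 LD2_c59 LD3_c48)) :=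
  Lgr Lrot71 (Lpe (K13.f1005 IH) (Lpe (f1004 IH) (Lpr_df (f989 IH) (Lpe (f1006 IH) (Lpe (K17.f1007 IH) (Lpn (LP (LK LD1_c0 LD2_c59 LD3_c48))))))))
theorem f222677 : Led Lsl_et (LP (LK LD1_c2 LD2_c41 LD3_c5)) = (LP (LK LD1_c5 LD2_c29 LD3_c39)) :=
  Lre_e IH (LK LD1_c2 LD2_c41 LD3_c5) (LK LD1_c5 LD2_c29 LD3_c39) Lrfl Lrfl
theorem f283203 : Led Lsl_gf (LP (LK LD1_c5 LD2_c29 LD3_c39)) = (LP (LK LD1_c8 LD2_c18 LD3_c25)) :=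
  Lgr Lrot141 (Lpe (f222677 IH) (Lpe (K14.f222674 IH) (Lpr_gt (K12.f1043 IH) (Lpe (K12.f1038 IH) (Lpr_et (f1008 IH) (Lpr_gt (K12.f1044 IH) (Lpr_dt (K17.f1047 IH) (Lpr_gt (K17.f1048 IH) (Lpr_df (K17.f283192 IH) (Lpr_et (K17.f283175 IH) (Lpn (LP (LK LD1_c8 LD2_c18 LD3_c25)))))))))))))
theorem f213810 : Led Lsl_at (LP (LK LD1_c10 LD2_c50 LD3_c4)) = (LP (LK LD1_c5 LD2_c29 LD3_c39)) :=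
  Lre_a IH (LK LD1_c10 LD2_c50 LD3_c4) (LK LD1_c5 LD2_c29 LD3_c39) Lrfl Lrfl
theorem f295838 : Led Lsl_ff (LP (LK LD1_c10 LD2_c50 LD3_c4)) = (LP (LK LD1_c15 LD2_c37 LD3_c23)) :=
  Lgr Lrot52 (Lpr_at (f213810 IH) (Lpr_gf (f283203 IH) (Lpr_gf (f295836 IH) (Lpn (LP (LK LD1_c15 LD2_c37 LD3_c23))))))
theorem f295850 : Led Lsl_ct (LP (LK LD1_c10 LD2_c50 LD3_c6)) = (LP (LK LD1_c15 LD2_c37 LD3_c23)) :=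
  Lgr Lrot40 (Lpe (K17.f220505 IH) (Lpe (K17.f213824 IH) (Lpr_ff (f295838 IH) (Lpn (LP (LK LD1_c15 LD2_c37 LD3_c23))))))
theorem f236308 : Led Lsl_bt (LP (LK LD1_c4 LD2_c8 LD3_c60)) = (LP (LK LD1_c2 LD2_c1 LD3_c57)) :=
  Lre_b IH (LK LD1_c4 LD2_c8 LD3_c60) (LK LD1_c2 LD2_c1 LD3_c57) Lrfl Lrfl
theorem f236309 : Led Lsl_ct (LP (LK LD1_c4 LD2_c8 LD3_c60)) = (LP (LK LD1_c8 LD2_c18 LD3_c1)) :=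
  Lre_c IH (LK LD1_c4 LD2_c8 LD3_c60) (LK LD1_c8 LD2_c18 LD3_c1) Lrfl Lrfl
theorem f292374 : Led Lsl_gt (LP (LK LD1_c8 LD2_c18 LD3_c0)) = (LP (LK LD1_c8 LD2_c10 LD3_c51)) :=
  Lgr Lrot94 (Lpe (K15.f219661 IH) (Lpr_gt (K14.f191854 IH) (Lpr_dt (K12.f187454 IH) (Lpr_gt (K9.f173124 IH) (Lpr_dt (K17.f187443 IH) (Lpr_cf (K17.f292362 IH) (Lpe (K17.f219465 IH) (Lpr_gf (K17.f233214 IH) (Lpe (K15.f53638 IH) (Lpn (LP (LK LD1_c8 LD2_c10 LD3_c51))))))))))))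
theorem f167209 : Led Lsl_dt (LP (LK LD1_c4 LD2_c8 LD3_c59)) = (LP (LK LD1_c8 LD2_c18 LD3_c0)) :=
  Lre_d IH (LK LD1_c4 LD2_c8 LD3_c59) (LK LD1_c8 LD2_c18 LD3_c0) Lrfl Lrfl
theorem f292379 : Led Lsl_et (LP (LK LD1_c4 LD2_c8 LD3_c59)) = (LP (LK LD1_c8 LD2_c18 LD3_c1)) :=
  Lre_e IH (LK LD1_c4 LD2_c8 LD3_c59) (LK LD1_c8 LD2_c18 LD3_c1) Lrfl Lrfl
theorem f213894 : Led Lsl_dt (LP (LK LD1_c4 LD2_c13 LD3_c1)) = (LP (LK LD1_c8 LD2_c25 LD3_c16)) :=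
  Lre_d IH (LK LD1_c4 LD2_c13 LD3_c1) (LK LD1_c8 LD2_c25 LD3_c16) Lrfl Lrfl
theorem f270761 : Led Lsl_et (LP (LK LD1_c4 LD2_c13 LD3_c1)) = (LP (LK LD1_c8 LD2_c25 LD3_c17)) :=
  Lre_e IH (LK LD1_c4 LD2_c13 LD3_c1) (LK LD1_c8 LD2_c25 LD3_c17) Lrfl Lrfl
theorem f292380 : Led Lsl_gf (LP (LK LD1_c8 LD2_c18 LD3_c1)) = (LP (LK LD1_c8 LD2_c25 LD3_c17)) :=
  Lgr Lrot141 (Lpe (f292379 IH) (Lpr_dt (f167209 IH) (Lpr_gt (f292374 IH) (Lpe (K16.f53962 IH) (Lpe (K12.f53981 IH) (Lpe (K16.f270757 IH) (Lpr_dt (K16.f232897 IH) (Lpr_gt (K16.f270759 IH) (Lpe (f213894 IH) (Lpr_et (f270761 IH) (Lpn (LP (LK LD1_c8 LD2_c25 LD3_c17)))))))))))))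
theorem f178778 : Led Lsl_ct (LP (LK LD1_c4 LD2_c13 LD3_c2)) = (LP (LK LD1_c8 LD2_c25 LD3_c17)) :=
  Lre_c IH (LK LD1_c4 LD2_c13 LD3_c2) (LK LD1_c8 LD2_c25 LD3_c17) Lrfl Lrfl
theorem f178788 : Led Lsl_bt (LP (LK LD1_c4 LD2_c13 LD3_c2)) = (LP (LK LD1_c8 LD2_c25 LD3_c13)) :=
  Lre_b IH (LK LD1_c4 LD2_c13 LD3_c2) (LK LD1_c8 LD2_c25 LD3_c13) Lrfl Lrfl
theorem f178787 : Led Lsl_gt (LP (LK LD1_c15 LD2_c49 LD3_c18)) = (LP (LK LD1_c8 LD2_c25 LD3_c13)) :=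
  Lre_g IH (LK LD1_c15 LD2_c49 LD3_c18) (LK LD1_c8 LD2_c25 LD3_c13) Lrfl Lrfl
theorem f295914 : Led Lsl_bt (LP (LK LD1_c10 LD2_c50 LD3_c6)) = (LP (LK LD1_c15 LD2_c49 LD3_c18)) :=
  Lgr Lrot22 (Lpr_ct (f295850 IH) (Lpe (f292392 IH) (Lpe (f292391 IH) (Lpe (f577 IH) (Lpe (f236308 IH) (Lpr_ct (f236309 IH) (Lpr_gf (f292380 IH) (Lpe (f178778 IH) (Lpr_bt (f178788 IH) (Lpe (f178787 IH) (Lpn (LP (LK LD1_c15 LD2_c49 LD3_c18)))))))))))))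
theorem f245983 : Led Lsl_bt (LP (LK LD1_c2 LD2_c39 LD3_c45)) = (LP (LK LD1_c5 LD2_c26 LD3_c29)) :=
  Lre_b IH (LK LD1_c2 LD2_c39 LD3_c45) (LK LD1_c5 LD2_c26 LD3_c29) Lrfl Lrfl
theorem f294984 : Led Lsl_bf (LP (LK LD1_c2 LD2_c2 LD3_c44)) = (LP (LK LD1_c4 LD2_c9 LD3_c10)) :=
  Lgr Lrot93 (Lpe (K13.f245928 IH) (Lpr_bt (f245983 IH) (Lpr_dt (f294982 IH) (Lpn (LP (LK LD1_c4 LD2_c9 LD3_c10))))))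
theorem f178767 : Led Lsl_et (LP (LK LD1_c4 LD2_c10 LD3_c16)) = (LP (LK LD1_c8 LD2_c20 LD3_c45)) :=
  Lre_e IH (LK LD1_c4 LD2_c10 LD3_c16) (LK LD1_c8 LD2_c20 LD3_c45) Lrfl Lrfl
theorem f178768 : Led Lsl_et (LP (LK LD1_c8 LD2_c25 LD3_c13)) = (LP (LK LD1_c4 LD2_c13 LD3_c0)) :=
  Lre_e IH (LK LD1_c8 LD2_c25 LD3_c13) (LK LD1_c4 LD2_c13 LD3_c0) Lrfl Lrfl
theorem f178769 : Led Lsl_ct (LP (LK LD1_c8 LD2_c20 LD3_c45)) = (LP (LK LD1_c8 LD2_c25 LD3_c13)) :=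
  Lgr Lrot15 (Lpe (f178767 IH) (Lpr_cf (K15.f178509 IH) (Lpe (f178768 IH) (Lpn (LP (LK LD1_c8 LD2_c25 LD3_c13))))))
theorem f178782 : Led Lsl_cf (LP (LK LD1_c8 LD2_c20 LD3_c45)) = (LP (LK LD1_c8 LD2_c25 LD3_c13)) :=
  Lgr Lrot11 (Lpr_ct (f178769 IH) (Lpn (LP (LK LD1_c8 LD2_c25 LD3_c13))))
theorem f295922 : Led Lsl_gf (LP (LK LD1_c4 LD2_c10 LD3_c48)) = (LP (LK LD1_c8 LD2_c20 LD3_c45)) :=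
  Lgr Lrot129 (Lpe (K17.f179092 IH) (Lpr_bt (K15.f179091 IH) (Lpr_gt (K13.f53466 IH) (Lpr_bf (f294984 IH) (Lpr_ct (f292391 IH) (Lpr_gt (f292392 IH) (Lpe (f295850 IH) (Lpr_bt (f295914 IH) (Lpr_gt (f178787 IH) (Lpe (f178782 IH) (Lpn (LP (LK LD1_c8 LD2_c20 LD3_c45)))))))))))))
theorem f252064 : Led Lsl_et (LP (LK LD1_c2 LD2_c2 LD3_c38)) = (LP (LK LD1_c4 LD2_c10 LD3_c48)) :=
  Lre_e IH (LK LD1_c2 LD2_c2 LD3_c38) (LK LD1_c4 LD2_c10 LD3_c48) Lrfl Lrfl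
theorem f53381 : Led Lsl_gt (LP (LK LD1_c2 LD2_c6 LD3_c19)) = (LP (LK LD1_c4 LD2_c18 LD3_c0)) :=
  Lre_g IH (LK LD1_c2 LD2_c6 LD3_c19) (LK LD1_c4 LD2_c18 LD3_c0) Lrfl Lrfl
theorem f221919 : Led Lsl_at (LP (LK LD1_c4 LD2_c11 LD3_c4)) = (LP (LK LD1_c4 LD2_c18 LD3_c0)) :=
  Lgr Lrot26 (Lpr_ff (K16.f221912 IH) (Lpr_gt (K12.f167529 IH) (Lpr_gt (f53381 IH) (Lpn (LP (LK LD1_c4 LD2_c18 LD3_c0))))))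
theorem f221848 : Led Lsl_et (LP (LK LD1_c4 LD2_c18 LD3_c1)) = (LP (LK LD1_c8 LD2_c34 LD3_c58)) :=
  Lre_e IH (LK LD1_c4 LD2_c18 LD3_c1) (LK LD1_c8 LD2_c34 LD3_c58) Lrfl Lrfl
theorem f221849 : Led Lsl_cf (LP (LK LD1_c8 LD2_c35 LD3_c54)) = (LP (LK LD1_c8 LD2_c34 LD3_c58)) :=
  Lgr Lrot39 (Lpr_et (K12.f188796 IH) (Lpr_ct (K12.f221838 IH) (Lpr_et (f221848 IH) (Lpn (LP (LK LD1_c8 LD2_c34 LD3_c58))))))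
theorem f221857 : Led Lsl_ct (LP (LK LD1_c8 LD2_c35 LD3_c54)) = (LP (LK LD1_c8 LD2_c34 LD3_c58)) :=
  Lgr Lrot59 (Lpr_cf (f221849 IH) (Lpn (LP (LK LD1_c8 LD2_c34 LD3_c58))))
theorem f219822 : Led Lsl_et (LP (LK LD1_c8 LD2_c22 LD3_c0)) = (LP (LK LD1_c4 LD2_c11 LD3_c3)) :=
  Lre_e IH (LK LD1_c8 LD2_c22 LD3_c0) (LK LD1_c4 LD2_c11 LD3_c3) Lrfl Lrfl
theorem f219823 : Led Lsl_cf (LP (LK LD1_c8 LD2_c22 LD3_c0)) = (LP (LK LD1_c10 LD2_c50 LD3_c17)) :=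
  Lgr Lrot39 (Lpr_et (f219822 IH) (Lpr_ct (K12.f219789 IH) (Lpr_et (K12.f212831 IH) (Lpn (LP (LK LD1_c10 LD2_c50 LD3_c17))))))
theorem f219845 : Led Lsl_ct (LP (LK LD1_c8 LD2_c22 LD3_c0)) = (LP (LK LD1_c10 LD2_c50 LD3_c17)) :=
  Lgr Lrot59 (Lpr_cf (f219823 IH) (Lpn (LP (LK LD1_c10 LD2_c50 LD3_c17))))
theorem f221862 : Led Lsl_af (LP (LK LD1_c8 LD2_c22 LD3_c0)) = (LP (LK LD1_c8 LD2_c34 LD3_c58)) :=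
  Lgr Lrot68 (Lpr_ct (f219845 IH) (Lpe (K12.f218092 IH) (Lpr_ct (f221857 IH) (Lpn (LP (LK LD1_c8 LD2_c34 LD3_c58))))))
theorem f221881 : Led Lsl_at (LP (LK LD1_c4 LD2_c11 LD3_c3)) = (LP (LK LD1_c4 LD2_c18 LD3_c1)) :=
  Lgr Lrot80 (Lpe (f219822 IH) (Lpr_af (f221862 IH) (Lpe (f221848 IH) (Lpn (LP (LK LD1_c4 LD2_c18 LD3_c1))))))
theorem f221926 : Led Lsl_ff (LP (LK LD1_c4 LD2_c11 LD3_c3)) = (LP (LK LD1_c4 LD2_c18 LD3_c0)) :=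
  Lgr Lrot30 (Lpr_at (f221881 IH) (Lpe (K16.f221912 IH) (Lpr_at (f221919 IH) (Lpn (LP (LK LD1_c4 LD2_c18 LD3_c0))))))
theorem f219861 : Led Lsl_et (LP (LK LD1_c4 LD2_c11 LD3_c3)) = (LP (LK LD1_c8 LD2_c22 LD3_c0)) :=
  Lre_e IH (LK LD1_c4 LD2_c11 LD3_c3) (LK LD1_c8 LD2_c22 LD3_c0) Lrfl Lrfl
theorem f188774 : Led Lsl_et (LP (LK LD1_c4 LD2_c18 LD3_c36)) = (LP (LK LD1_c8 LD2_c35 LD3_c55)) :=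
  Lre_e IH (LK LD1_c4 LD2_c18 LD3_c36) (LK LD1_c8 LD2_c35 LD3_c55) Lrfl Lrfl
theorem f212829 : Led Lsl_et (LP (LK LD1_c10 LD2_c50 LD3_c17)) = (LP (LK LD1_c5 LD2_c29 LD3_c30)) :=
  Lre_e IH (LK LD1_c10 LD2_c50 LD3_c17) (LK LD1_c5 LD2_c29 LD3_c30) Lrfl Lrfl
theorem f218097 : Led Lsl_ft (LP (LK LD1_c8 LD2_c35 LD3_c55)) = (LP (LK LD1_c10 LD2_c50 LD3_c17)) :=
  Lgr Lrot86 (Lpe (f188774 IH) (Lpr_ff (K10.f188805 IH) (Lpr_ef (K12.f53839 IH) (Lpr_ff (K12.f218094 IH) (Lpe (f212829 IH) (Lpn (LP (LK LD1_c10 LD2_c50 LD3_c17))))))))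
theorem f188775 : Led Lsl_et (LP (LK LD1_c8 LD2_c35 LD3_c55)) = (LP (LK LD1_c4 LD2_c18 LD3_c36)) :=
  Lre_e IH (LK LD1_c8 LD2_c35 LD3_c55) (LK LD1_c4 LD2_c18 LD3_c36) Lrfl Lrfl
theorem f188814 : Led Lsl_et (LP (LK LD1_c4 LD2_c17 LD3_c39)) = (LP (LK LD1_c8 LD2_c34 LD3_c19)) :=
  Lre_e IH (LK LD1_c4 LD2_c17 LD3_c39) (LK LD1_c8 LD2_c34 LD3_c19) Lrfl Lrfl
theorem f188815 : Led Lsl_cf (LP (LK LD1_c8 LD2_c35 LD3_c55)) = (LP (LK LD1_c8 LD2_c34 LD3_c19)) :=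
  Lgr Lrot39 (Lpr_et (f188775 IH) (Lpr_ct (K17.f188807 IH) (Lpr_et (f188814 IH) (Lpn (LP (LK LD1_c8 LD2_c34 LD3_c19))))))
theorem f219851 : Led Lsl_ft (LP (LK LD1_c8 LD2_c22 LD3_c0)) = (LP (LK LD1_c8 LD2_c34 LD3_c19)) :=
  Lgr Lrot4 (Lpr_cf (f219823 IH) (Lpe (f218097 IH) (Lpr_cf (f188815 IH) (Lpn (LP (LK LD1_c8 LD2_c34 LD3_c19))))))
theorem f188825 : Led Lsl_et (LP (LK LD1_c8 LD2_c34 LD3_c19)) = (LP (LK LD1_c4 LD2_c17 LD3_c39)) :=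
  Lre_e IH (LK LD1_c8 LD2_c34 LD3_c19) (LK LD1_c4 LD2_c17 LD3_c39) Lrfl Lrfl
theorem f221933 : Led Lsl_et (LP (LK LD1_c4 LD2_c11 LD3_c26)) = (LP (LK LD1_c4 LD2_c18 LD3_c0)) :=
  Lgr Lrot69 (Lpe (K17.f191985 IH) (Lpe (f188825 IH) (Lpe (f219851 IH) (Lpe (f219861 IH) (Lpr_ff (f221926 IH) (Lpn (LP (LK LD1_c4 LD2_c18 LD3_c0))))))))
theorem f288849 : Led Lsl_gf (LP (LK LD1_c4 LD2_c11 LD3_c1)) = (LP (LK LD1_c4 LD2_c18 LD3_c0)) :=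
  Lgr Lrot47 (Lpr_gt (K17.f288847 IH) (Lpe (f221881 IH) (Lpr_ff (f221926 IH) (Lpn (LP (LK LD1_c4 LD2_c18 LD3_c0))))))
theorem f178766 : Led Lsl_dt (LP (LK LD1_c4 LD2_c10 LD3_c16)) = (LP (LK LD1_c8 LD2_c20 LD3_c44)) :=
  Lre_d IH (LK LD1_c4 LD2_c10 LD3_c16) (LK LD1_c8 LD2_c20 LD3_c44) Lrfl Lrfl
theorem f295934 : Led Lsl_gt (LP (LK LD1_c8 LD2_c21 LD3_c56)) = (LP (LK LD1_c8 LD2_c20 LD3_c44)) :=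
  Lgr Lrot139 (Lpe (K17.f288809 IH) (Lpr_gf (f288849 IH) (Lpe (f221933 IH) (Lpe (K15.f262672 IH) (Lpe (K15.f167108 IH) (Lpe (K15.f167107 IH) (Lpr_et (f252064 IH) (Lpr_gf (f295922 IH) (Lpe (f178767 IH) (Lpr_dt (f178766 IH) (Lpn (LP (LK LD1_c8 LD2_c20 LD3_c44)))))))))))))
theorem f2114 : Led Lsl_dt (LP (LK LD1_c9 LD2_c35 LD3_c26)) = (LP (LK LD1_c4 LD2_c51 LD3_c40)) :=
  Lre_d IH (LK LD1_c9 LD2_c35 LD3_c26) (LK LD1_c4 LD2_c51 LD3_c40) Lrfl Lrfl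
theorem f288815 : Led Lsl_cf (LP (LK LD1_c8 LD2_c21 LD3_c56)) = (LP (LK LD1_c8 LD2_c8 LD3_c35)) :=
  Lgr Lrot11 (Lpr_ct (K17.f288810 IH) (Lpn (LP (LK LD1_c8 LD2_c8 LD3_c35))))
theorem f41926 : Led Lsl_gt (LP (LK LD1_c5 LD2_c21 LD3_c12)) = (LP (LK LD1_c2 LD2_c37 LD3_c11)) :=
  Lre_g IH (LK LD1_c5 LD2_c21 LD3_c12) (LK LD1_c2 LD2_c37 LD3_c11) Lrfl Lrfl
theorem f41927 : Led Lsl_dt (LP (LK LD1_c10 LD2_c32 LD3_c36)) = (LP (LK LD1_c5 LD2_c21 LD3_c12)) :=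
  Lre_d IH (LK LD1_c10 LD2_c32 LD3_c36) (LK LD1_c5 LD2_c21 LD3_c12) Lrfl Lrfl
theorem f523 : Led Lsl_et (LP (LK LD1_c1 LD2_c0 LD3_c11)) = (LP (LK LD1_c0 LD2_c27 LD3_c20)) :=
  Lre_e IH (LK LD1_c1 LD2_c0 LD3_c11) (LK LD1_c0 LD2_c27 LD3_c20) Lrfl Lrfl
theorem f165192 : Led Lsl_et (LP (LK LD1_c0 LD2_c33 LD3_c20)) = (LP (LK LD1_c1 LD2_c12 LD3_c3)) :=
  Lre_e IH (LK LD1_c0 LD2_c33 LD3_c20) (LK LD1_c1 LD2_c12 LD3_c3) Lrfl Lrfl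
theorem f167427 : Led Lsl_df (LP (LK LD1_c1 LD2_c0 LD3_c11)) = (LP (LK LD1_c1 LD2_c12 LD3_c3)) :=
  Lgr Lrot70 (Lpr_et (f523 IH) (Lpr_dt (K9.f167309 IH) (Lpr_et (K9.f165186 IH) (Lpr_dt (K9.f165191 IH) (Lpr_et (f165192 IH) (Lpn (LP (LK LD1_c1 LD2_c12 LD3_c3))))))))
theorem f167442 : Led Lsl_ft (LP (LK LD1_c1 LD2_c0 LD3_c11)) = (LP (LK LD1_c2 LD2_c6 LD3_c25)) :=
  Lre_f IH (LK LD1_c1 LD2_c0 LD3_c11) (LK LD1_c2 LD2_c6 LD3_c25) Lrfl Lrfl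
theorem f167443 : Led Lsl_ft (LP (LK LD1_c2 LD2_c30 LD3_c8)) = (LP (LK LD1_c1 LD2_c12 LD3_c3)) :=
  Lre_f IH (LK LD1_c2 LD2_c30 LD3_c8) (LK LD1_c1 LD2_c12 LD3_c3) Lrfl Lrfl
theorem f167444 : Led Lsl_dt (LP (LK LD1_c2 LD2_c6 LD3_c25)) = (LP (LK LD1_c2 LD2_c30 LD3_c8)) :=
  Lgr Lrot60 (Lpe (f167442 IH) (Lpr_df (f167427 IH) (Lpe (f167443 IH) (Lpn (LP (LK LD1_c2 LD2_c30 LD3_c8))))))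
theorem f167463 : Led Lsl_df (LP (LK LD1_c2 LD2_c6 LD3_c25)) = (LP (LK LD1_c2 LD2_c30 LD3_c8)) :=
  Lgr Lrot38 (Lpr_dt (f167444 IH) (Lpn (LP (LK LD1_c2 LD2_c30 LD3_c8))))
theorem f167469 : Led Lsl_bt (LP (LK LD1_c2 LD2_c6 LD3_c25)) = (LP (LK LD1_c4 LD2_c18 LD3_c7)) :=
  Lre_b IH (LK LD1_c2 LD2_c6 LD3_c25) (LK LD1_c4 LD2_c18 LD3_c7) Lrfl Lrfl
theorem f167470 : Led Lsl_bt (LP (LK LD1_c5 LD2_c5 LD3_c29)) = (LP (LK LD1_c2 LD2_c30 LD3_c8)) :=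
  Lre_b IH (LK LD1_c5 LD2_c5 LD3_c29) (LK LD1_c2 LD2_c30 LD3_c8) Lrfl Lrfl
theorem f167471 : Led Lsl_dt (LP (LK LD1_c4 LD2_c18 LD3_c7)) = (LP (LK LD1_c5 LD2_c5 LD3_c29)) :=
  Lgr Lrot79 (Lpe (f167469 IH) (Lpr_df (f167463 IH) (Lpe (f167470 IH) (Lpn (LP (LK LD1_c5 LD2_c5 LD3_c29))))))
theorem f167478 : Led Lsl_ft (LP (LK LD1_c2 LD2_c6 LD3_c20)) = (LP (LK LD1_c4 LD2_c18 LD3_c7)) :=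
  Lre_f IH (LK LD1_c2 LD2_c6 LD3_c20) (LK LD1_c4 LD2_c18 LD3_c7) Lrfl Lrfl
theorem f167479 : Led Lsl_ft (LP (LK LD1_c5 LD2_c5 LD3_c29)) = (LP (LK LD1_c2 LD2_c29 LD3_c60)) :=
  Lre_f IH (LK LD1_c5 LD2_c5 LD3_c29) (LK LD1_c2 LD2_c29 LD3_c60) Lrfl Lrfl
theorem f167480 : Led Lsl_df (LP (LK LD1_c2 LD2_c6 LD3_c20)) = (LP (LK LD1_c2 LD2_c29 LD3_c60)) :=
  Lgr Lrot78 (Lpr_ft (f167478 IH) (Lpr_dt (f167471 IH) (Lpr_ft (f167479 IH) (Lpn (LP (LK LD1_c2 LD2_c29 LD3_c60))))))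
theorem f167502 : Led Lsl_et (LP (LK LD1_c2 LD2_c6 LD3_c20)) = (LP (LK LD1_c1 LD2_c0 LD3_c9)) :=
  Lre_e IH (LK LD1_c2 LD2_c6 LD3_c20) (LK LD1_c1 LD2_c0 LD3_c9) Lrfl Lrfl
theorem f165199 : Led Lsl_et (LP (LK LD1_c1 LD2_c11 LD3_c61)) = (LP (LK LD1_c2 LD2_c29 LD3_c60)) :=
  Lre_e IH (LK LD1_c1 LD2_c11 LD3_c61) (LK LD1_c2 LD2_c29 LD3_c60) Lrfl Lrfl
theorem f167503 : Led Lsl_dt (LP (LK LD1_c1 LD2_c0 LD3_c9)) = (LP (LK LD1_c1 LD2_c9 LD3_c29)) :=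
  Lgr Lrot77 (Lpe (f167502 IH) (Lpr_df (f167480 IH) (Lpe (f165199 IH) (Lpe (K14.f165196 IH) (Lpe (K13.f165194 IH) (Lpn (LP (LK LD1_c1 LD2_c9 LD3_c29))))))))
theorem f199796 : Led Lsl_gf (LP (LK LD1_c5 LD2_c21 LD3_c12)) = (LP (LK LD1_c4 LD2_c17 LD3_c12)) :=
  Lgr Lrot47 (Lpr_gt (f41926 IH) (Lpe (K11.f43159 IH) (Lpr_ff (K11.f199784 IH) (Lpn (LP (LK LD1_c4 LD2_c17 LD3_c12))))))
theorem f199798 : Led Lsl_dt (LP (LK LD1_c5 LD2_c21 LD3_c12)) = (LP (LK LD1_c10 LD2_c32 LD3_c36)) :=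
  Lre_d IH (LK LD1_c5 LD2_c21 LD3_c12) (LK LD1_c10 LD2_c32 LD3_c36) Lrfl Lrfl
theorem f253990 : Led Lsl_gt (LP (LK LD1_c10 LD2_c32 LD3_c36)) = (LP (LK LD1_c8 LD2_c20 LD3_c31)) :=
  Lgr Lrot49 (Lpe (f199798 IH) (Lpr_gf (f199796 IH) (Lpe (K11.f199770 IH) (Lpe (K14.f199832 IH) (Lpr_dt (f167503 IH) (Lpr_gt (K14.f253988 IH) (Lpr_dt (K14.f182202 IH) (Lpe (K15.f178826 IH) (Lpe (K15.f182267 IH) (Lpn (LP (LK LD1_c8 LD2_c20 LD3_c31))))))))))))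
theorem f266827 : Led Lsl_cf (LP (LK LD1_c5 LD2_c36 LD3_c32)) = (LP (LK LD1_c8 LD2_c20 LD3_c31)) :=
  Lgr Lrot11 (Lpr_ct (K15.f266823 IH) (Lpn (LP (LK LD1_c8 LD2_c20 LD3_c31))))
theorem f288864 : Led Lsl_gf (LP (LK LD1_c8 LD2_c8 LD3_c35)) = (LP (LK LD1_c5 LD2_c36 LD3_c32)) :=
  Lgr Lrot104 (Lpe (f288815 IH) (Lpe (K17.f288809 IH) (Lpe (K17.f288808 IH) (Lpr_gf (K17.f288852 IH) (Lpe (K9.f41896 IH) (Lpe (f41926 IH) (Lpe (f41927 IH) (Lpr_gt (f253990 IH) (Lpe (f266827 IH) (Lpn (LP (LK LD1_c5 LD2_c36 LD3_c32))))))))))))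
theorem f177855 : Led Lsl_dt (LP (LK LD1_c5 LD2_c36 LD3_c32)) = (LP (LK LD1_c2 LD2_c44 LD3_c8)) :=
  Lre_d IH (LK LD1_c5 LD2_c36 LD3_c32) (LK LD1_c2 LD2_c44 LD3_c8) Lrfl Lrfl
theorem f170709 : Led Lsl_gt (LP (LK LD1_c2 LD2_c2 LD3_c16)) = (LP (LK LD1_c4 LD2_c10 LD3_c5)) :=
  Lre_g IH (LK LD1_c2 LD2_c2 LD3_c16) (LK LD1_c4 LD2_c10 LD3_c5) Lrfl Lrfl
theorem f170710 : Led Lsl_ct (LP (LK LD1_c4 LD2_c10 LD3_c5)) = (LP (LK LD1_c8 LD2_c20 LD3_c23)) :=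
  Lre_c IH (LK LD1_c4 LD2_c10 LD3_c5) (LK LD1_c8 LD2_c20 LD3_c23) Lrfl Lrfl
theorem f284520 : Led Lsl_at (LP (LK LD1_c8 LD2_c30 LD3_c51)) = (LP (LK LD1_c8 LD2_c21 LD3_c34)) :=
  Lgr Lrot26 (Lpe (K17.f284489 IH) (Lpr_gt (K15.f267154 IH) (Lpr_gt (K17.f284518 IH) (Lpn (LP (LK LD1_c8 LD2_c21 LD3_c34))))))
theorem f284485 : Led Lsl_dt (LP (LK LD1_c15 LD2_c32 LD3_c2)) = (LP (LK LD1_c8 LD2_c30 LD3_c51)) :=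
  Lgr Lrot42 (Lpr_df (K17.f284481 IH) (Lpn (LP (LK LD1_c8 LD2_c30 LD3_c51))))
theorem f284525 : Led Lsl_df (LP (LK LD1_c10 LD2_c33 LD3_c44)) = (LP (LK LD1_c8 LD2_c21 LD3_c34)) :=
  Lgr Lrot18 (Lpe (K17.f284461 IH) (Lpr_dt (f284485 IH) (Lpr_at (f284520 IH) (Lpn (LP (LK LD1_c8 LD2_c21 LD3_c34))))))
theorem f284527 : Led Lsl_et (LP (LK LD1_c8 LD2_c53 LD3_c20)) = (LP (LK LD1_c15 LD2_c18 LD3_c29)) :=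
  Lgr Lrot71 (Lpe (K13.f231356 IH) (Lpr_ef (K14.f253346 IH) (Lpr_df (f284525 IH) (Lpe (K17.f284511 IH) (Lpe (K15.f261026 IH) (Lpn (LP (LK LD1_c15 LD2_c18 LD3_c29))))))))
theorem f256744 : Led Lsl_bt (LP (LK LD1_c4 LD2_c3 LD3_c51)) = (LP (LK LD1_c8 LD2_c7 LD3_c55)) :=
  Lre_b IH (LK LD1_c4 LD2_c3 LD3_c51) (LK LD1_c8 LD2_c7 LD3_c55) Lrfl Lrfl
theorem f256745 : Led Lsl_ef (LP (LK LD1_c8 LD2_c20 LD3_c29)) = (LP (LK LD1_c8 LD2_c7 LD3_c55)) :=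
  Lgr Lrot29 (Lpr_bt (K17.f170730 IH) (Lpr_et (K15.f256742 IH) (Lpr_bt (f256744 IH) (Lpn (LP (LK LD1_c8 LD2_c7 LD3_c55))))))
theorem f284529 : Led Lsl_af (LP (LK LD1_c8 LD2_c53 LD3_c20)) = (LP (LK LD1_c8 LD2_c20 LD3_c29)) :=
  Lgr Lrot50 (Lpr_et (f284527 IH) (Lpr_at (K17.f261039 IH) (Lpe (f256745 IH) (Lpn (LP (LK LD1_c8 LD2_c20 LD3_c29))))))
theorem f284531 : Led Lsl_at (LP (LK LD1_c8 LD2_c53 LD3_c20)) = (LP (LK LD1_c8 LD2_c20 LD3_c29)) :=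
  Lgr Lrot100 (Lpr_af (f284529 IH) (Lpn (LP (LK LD1_c8 LD2_c20 LD3_c29))))
theorem f284558 : Led Lsl_af (LP (LK LD1_c4 LD2_c27 LD3_c43)) = (LP (LK LD1_c4 LD2_c10 LD3_c7)) :=
  Lgr Lrot45 (Lpr_ft (K13.f231316 IH) (Lpr_at (f284531 IH) (Lpr_ft (K10.f170721 IH) (Lpn (LP (LK LD1_c4 LD2_c10 LD3_c7))))))
theorem f284562 : Led Lsl_at (LP (LK LD1_c2 LD2_c11 LD3_c1)) = (LP (LK LD1_c2 LD2_c2 LD3_c16)) :=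
  Lgr Lrot80 (Lpe (K13.f231296 IH) (Lpr_af (f284558 IH) (Lpe (K10.f170705 IH) (Lpn (LP (LK LD1_c2 LD2_c2 LD3_c16))))))
theorem f256776 : Led Lsl_dt (LP (LK LD1_c1 LD2_c58 LD3_c48)) = (LP (LK LD1_c4 LD2_c3 LD3_c36)) :=
  Lre_d IH (LK LD1_c1 LD2_c58 LD3_c48) (LK LD1_c4 LD2_c3 LD3_c36) Lrfl Lrfl
theorem f260987 : Led Lsl_cf (LP (LK LD1_c4 LD2_c3 LD3_c36)) = (LP (LK LD1_c5 LD2_c36 LD3_c30)) :=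
  Lgr Lrot99 (Lpe (f256776 IH) (Lpe (K15.f201097 IH) (Lpr_gf (K15.f260916 IH) (Lpe (K12.f219075 IH) (Lpe (K9.f41369 IH) (Lpe (K16.f43140 IH) (Lpr_gt (K14.f42731 IH) (Lpr_ct (K14.f219131 IH) (Lpe (K15.f254139 IH) (Lpn (LP (LK LD1_c5 LD2_c36 LD3_c30))))))))))))
theorem f276267 : Led Lsl_ff (LP (LK LD1_c2 LD2_c11 LD3_c1)) = (LP (LK LD1_c4 LD2_c3 LD3_c36)) :=
  Lgr Lrot23 (Lpr_ct (K16.f219726 IH) (Lpr_ft (K16.f276238 IH) (Lpe (f260987 IH) (Lpn (LP (LK LD1_c4 LD2_c3 LD3_c36))))))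
theorem f282845 : Led Lsl_bt (LP (LK LD1_c1 LD2_c16 LD3_c52)) = (LP (LK LD1_c2 LD2_c40 LD3_c13)) :=
  Lre_b IH (LK LD1_c1 LD2_c16 LD3_c52) (LK LD1_c2 LD2_c40 LD3_c13) Lrfl Lrfl
theorem f261051 : Led Lsl_bf (LP (LK LD1_c4 LD2_c3 LD3_c36)) = (LP (LK LD1_c2 LD2_c10 LD3_c58)) :=
  Lgr Lrot24 (Lpr_bt (K15.f261048 IH) (Lpn (LP (LK LD1_c2 LD2_c10 LD3_c58))))
theorem f282846 : Led Lsl_gf (LP (LK LD1_c2 LD2_c40 LD3_c13)) = (LP (LK LD1_c4 LD2_c3 LD3_c36)) :=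
  Lgr Lrot124 (Lpe (f282845 IH) (Lpr_ct (K17.f244851 IH) (Lpr_gt (K17.f282826 IH) (Lpe (K16.f278013 IH) (Lpe (K16.f187190 IH) (Lpe (K17.f279149 IH) (Lpe (K14.f254830 IH) (Lpe (K17.f267281 IH) (Lpe (K15.f174938 IH) (Lpe (f261051 IH) (Lpn (LP (LK LD1_c4 LD2_c3 LD3_c36)))))))))))))
theorem f284566 : Led Lsl_gt (LP (LK LD1_c2 LD2_c40 LD3_c13)) = (LP (LK LD1_c2 LD2_c2 LD3_c16)) :=
  Lgr Lrot46 (Lpr_gf (f282846 IH) (Lpe (f276267 IH) (Lpr_at (f284562 IH) (Lpn (LP (LK LD1_c2 LD2_c2 LD3_c16))))))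
theorem f226775 : Led Lsl_ct (LP (LK LD1_c2 LD2_c40 LD3_c13)) = (LP (LK LD1_c5 LD2_c27 LD3_c43)) :=
  Lre_c IH (LK LD1_c2 LD2_c40 LD3_c13) (LK LD1_c5 LD2_c27 LD3_c43) Lrfl Lrfl
theorem f199614 : Led Lsl_ct (LP (LK LD1_c7 LD2_c57 LD3_c37)) = (LP (LK LD1_c3 LD2_c58 LD3_c6)) :=
  Lre_c IH (LK LD1_c7 LD2_c57 LD3_c37) (LK LD1_c3 LD2_c58 LD3_c6) Lrfl Lrfl
theorem f282872 : Led Lsl_gt (LP (LK LD1_c5 LD2_c27 LD3_c43)) = (LP (LK LD1_c7 LD2_c57 LD3_c37)) :=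
  Lgr Lrot150 (Lpe (f226775 IH) (Lpr_gf (f282846 IH) (Lpe (f256776 IH) (Lpr_gt (K15.f260990 IH) (Lpe (K15.f53950 IH) (Lpr_gt (K12.f211424 IH) (Lpe (K11.f199586 IH) (Lpe (K13.f55005 IH) (Lpe (f199614 IH) (Lpn (LP (LK LD1_c7 LD2_c57 LD3_c37))))))))))))
theorem f199611 : Led Lsl_dt (LP (LK LD1_c7 LD2_c57 LD3_c37)) = (LP (LK LD1_c15 LD2_c0 LD3_c55)) :=
  Lre_d IH (LK LD1_c7 LD2_c57 LD3_c37) (LK LD1_c15 LD2_c0 LD3_c55) Lrfl Lrfl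
theorem f284568 : Led Lsl_gt (LP (LK LD1_c15 LD2_c0 LD3_c55)) = (LP (LK LD1_c15 LD2_c41 LD3_c48)) :=
  Lgr Lrot49 (Lpe (f199611 IH) (Lpe (f282872 IH) (Lpe (f226775 IH) (Lpr_gt (f284566 IH) (Lpr_dt (K10.f53445 IH) (Lpr_gt (K12.f170855 IH) (Lpr_dt (K16.f170856 IH) (Lpe (K16.f218114 IH) (Lpe (K17.f218115 IH) (Lpn (LP (LK LD1_c15 LD2_c41 LD3_c48))))))))))))
theorem f261270 : Led Lsl_df (LP (LK LD1_c7 LD2_c58 LD3_c37)) = (LP (LK LD1_c5 LD2_c36 LD3_c30)) :=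
  Lgr Lrot153 (Lpr_gt (K16.f43149 IH) (Lpr_dt (K9.f42715 IH) (Lpe (K12.f42746 IH) (Lpe (K15.f42745 IH) (Lpe (K12.f42733 IH) (Lpe (K16.f42734 IH) (Lpr_gf (K15.f261265 IH) (Lpe (K16.f221737 IH) (Lpe (K15.f254139 IH) (Lpn (LP (LK LD1_c5 LD2_c36 LD3_c30))))))))))))
theorem f256772 : Led Lsl_gt (LP (LK LD1_c4 LD2_c10 LD3_c5)) = (LP (LK LD1_c4 LD2_c3 LD3_c36)) :=
  Lgr Lrot46 (Lpe (f170709 IH) (Lpr_ft (K15.f256765 IH) (Lpr_at (K16.f256767 IH) (Lpn (LP (LK LD1_c4 LD2_c3 LD3_c36))))))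
theorem f227991 : Led Lsl_ct (LP (LK LD1_c8 LD2_c20 LD3_c23)) = (LP (LK LD1_c4 LD2_c10 LD3_c5)) :=
  Lre_c IH (LK LD1_c8 LD2_c20 LD3_c23) (LK LD1_c4 LD2_c10 LD3_c5) Lrfl Lrfl
theorem f284608 : Led Lsl_gt (LP (LK LD1_c7 LD2_c57 LD3_c37)) = (LP (LK LD1_c8 LD2_c20 LD3_c23)) :=
  Lgr Lrot9 (Lpe (K16.f199619 IH) (Lpr_gt (f284568 IH) (Lpr_ct (K16.f275453 IH) (Lpr_gt (K16.f178503 IH) (Lpe (K16.f275429 IH) (Lpr_df (f261270 IH) (Lpe (K15.f261057 IH) (Lpe (f256772 IH) (Lpe (f227991 IH) (Lpn (LP (LK LD1_c8 LD2_c20 LD3_c23))))))))))))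
theorem f226842 : Led Lsl_dt (LP (LK LD1_c2 LD2_c7 LD3_c15)) = (LP (LK LD1_c1 LD2_c0 LD3_c39)) :=
  Lre_d IH (LK LD1_c2 LD2_c7 LD3_c15) (LK LD1_c1 LD2_c0 LD3_c39) Lrfl Lrfl
theorem f218079 : Led Lsl_dt (LP (LK LD1_c7 LD2_c58 LD3_c13)) = (LP (LK LD1_c3 LD2_c58 LD3_c25)) :=
  Lre_d IH (LK LD1_c7 LD2_c58 LD3_c13) (LK LD1_c3 LD2_c58 LD3_c25) Lrfl Lrfl
theorem f218874 : Led Lsl_gt (LP (LK LD1_c15 LD2_c2 LD3_c9)) = (LP (LK LD1_c7 LD2_c58 LD3_c13)) :=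
  Lre_g IH (LK LD1_c15 LD2_c2 LD3_c9) (LK LD1_c7 LD2_c58 LD3_c13) Lrfl Lrfl
theorem f284610 : Led Lsl_df (LP (LK LD1_c15 LD2_c2 LD3_c9)) = (LP (LK LD1_c8 LD2_c20 LD3_c23)) :=
  Lgr Lrot153 (Lpr_gt (f218874 IH) (Lpr_dt (f218079 IH) (Lpe (K12.f168005 IH) (Lpr_df (K16.f266875 IH) (Lpe (K16.f179870 IH) (Lpe (f226842 IH) (Lpr_gf (K13.f226816 IH) (Lpe (f199614 IH) (Lpr_gt (f284608 IH) (Lpn (LP (LK LD1_c8 LD2_c20 LD3_c23))))))))))))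
theorem f295938 : Led Lsl_cf (LP (LK LD1_c15 LD2_c2 LD3_c9)) = (LP (LK LD1_c8 LD2_c20 LD3_c44)) :=
  Lgr Lrot99 (Lpr_df (f284610 IH) (Lpe (f170710 IH) (Lpe (f170709 IH) (Lpe (K12.f170791 IH) (Lpr_gf (K12.f227982 IH) (Lpe (f177855 IH) (Lpe (f288864 IH) (Lpe (f288815 IH) (Lpr_gt (f295934 IH) (Lpn (LP (LK LD1_c8 LD2_c20 LD3_c44))))))))))))
theorem f295940 : Led Lsl_cf (LP (LK LD1_c9 LD2_c35 LD3_c26)) = (LP (LK LD1_c7 LD2_c58 LD3_c13)) :=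
  Lgr Lrot175 (Lpr_dt (f2114 IH) (Lpe (K12.f29811 IH) (Lpr_gf (K13.f229622 IH) (Lpr_cf (K12.f221846 IH) (Lpe (K17.f288847 IH) (Lpr_dt (K17.f288809 IH) (Lpr_gt (f295934 IH) (Lpe (f295938 IH) (Lpr_gt (f218874 IH) (Lpn (LP (LK LD1_c7 LD2_c58 LD3_c13))))))))))))
theorem f218122 : Led Lsl_dt (LP (LK LD1_c7 LD2_c57 LD3_c39)) = (LP (LK LD1_c15 LD2_c0 LD3_c58)) :=
  Lre_d IH (LK LD1_c7 LD2_c57 LD3_c39) (LK LD1_c15 LD2_c0 LD3_c58) Lrfl Lrfl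
theorem f290800 : Led Lsl_gt (LP (LK LD1_c8 LD2_c20 LD3_c23)) = (LP (LK LD1_c7 LD2_c57 LD3_c39)) :=
  Lgr Lrot94 (Lpe (f170710 IH) (Lpr_gt (f256772 IH) (Lpr_dt (K15.f256774 IH) (Lpr_gt (K15.f260990 IH) (Lpr_dt (K16.f45757 IH) (Lpe (K12.f48055 IH) (Lpe (K12.f48056 IH) (Lpr_gf (K17.f290798 IH) (Lpe (f218122 IH) (Lpn (LP (LK LD1_c7 LD2_c57 LD3_c39))))))))))))
theorem f171919 : Led Lsl_ct (LP (LK LD1_c7 LD2_c57 LD3_c39)) = (LP (LK LD1_c3 LD2_c58 LD3_c7)) :=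
  Lre_c IH (LK LD1_c7 LD2_c57 LD3_c39) (LK LD1_c3 LD2_c58 LD3_c7) Lrfl Lrfl
theorem f254160 : Led Lsl_ff (LP (LK LD1_c1 LD2_c18 LD3_c25)) = (LP (LK LD1_c2 LD2_c7 LD3_c15)) :=
  Lgr Lrot30 (Lpr_at (K14.f253700 IH) (Lpr_ft (K14.f254133 IH) (Lpe (K14.f254066 IH) (Lpn (LP (LK LD1_c2 LD2_c7 LD3_c15))))))
theorem f278171 : Led Lsl_gf (LP (LK LD1_c2 LD2_c44 LD3_c7)) = (LP (LK LD1_c3 LD2_c58 LD3_c7)) :=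
  Lgr Lrot76 (Lpe (K14.f253700 IH) (Lpr_ff (f254160 IH) (Lpr_gt (K16.f278157 IH) (Lpn (LP (LK LD1_c3 LD2_c58 LD3_c7))))))
theorem f253908 : Led Lsl_dt (LP (LK LD1_c11 LD2_c5 LD3_c1)) = (LP (LK LD1_c5 LD2_c36 LD3_c28)) :=
  Lre_d IH (LK LD1_c11 LD2_c5 LD3_c1) (LK LD1_c5 LD2_c36 LD3_c28) Lrfl Lrfl
theorem f266964 : Led Lsl_ct (LP (LK LD1_c8 LD2_c33 LD3_c47)) = (LP (LK LD1_c11 LD2_c5 LD3_c1)) :=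
  Lgr Lrot59 (Lpr_cf (K15.f266947 IH) (Lpn (LP (LK LD1_c11 LD2_c5 LD3_c1))))
theorem f295986 : Led Lsl_gt (LP (LK LD1_c9 LD2_c35 LD3_c26)) = (LP (LK LD1_c8 LD2_c33 LD3_c47)) :=
  Lgr Lrot150 (Lpr_cf (f295940 IH) (Lpe (f218874 IH) (Lpr_df (f284610 IH) (Lpr_gt (f290800 IH) (Lpr_ct (f171919 IH) (Lpe (f278171 IH) (Lpr_ct (K14.f253901 IH) (Lpe (f253908 IH) (Lpe (f266964 IH) (Lpn (LP (LK LD1_c8 LD2_c33 LD3_c47))))))))))))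
theorem f295989 : Led Lsl_gf (LP (LK LD1_c7 LD2_c58 LD3_c30)) = (LP (LK LD1_c11 LD2_c5 LD3_c1)) :=
  Lgr Lrot104 (Lpe (K17.f290573 IH) (Lpe (K17.f219791 IH) (Lpe (K12.f51528 IH) (Lpr_gf (K12.f219783 IH) (Lpe (K12.f42640 IH) (Lpe (K13.f219774 IH) (Lpe (f2114 IH) (Lpr_gt (f295986 IH) (Lpr_ct (f266964 IH) (Lpn (LP (LK LD1_c11 LD2_c5 LD3_c1))))))))))))
theorem f43145 : Led Lsl_dt (LP (LK LD1_c7 LD2_c58 LD3_c30)) = (LP (LK LD1_c3 LD2_c58 LD3_c31)) :=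
  Lre_d IH (LK LD1_c7 LD2_c58 LD3_c30) (LK LD1_c3 LD2_c58 LD3_c31) Lrfl Lrfl
theorem f219146 : Led Lsl_dt (LP (LK LD1_c10 LD2_c32 LD3_c45)) = (LP (LK LD1_c5 LD2_c21 LD3_c15)) :=
  Lre_d IH (LK LD1_c10 LD2_c32 LD3_c45) (LK LD1_c5 LD2_c21 LD3_c15) Lrfl Lrfl
theorem f295995 : Led Lsl_gf (LP (LK LD1_c10 LD2_c32 LD3_c45)) = (LP (LK LD1_c8 LD2_c33 LD3_c47)) :=
  Lgr Lrot144 (Lpr_dt (f219146 IH) (Lpr_gt (K14.f219144 IH) (Lpe (K16.f219121 IH) (Lpe (K16.f41943 IH) (Lpe (K1.f42747 IH) (Lpe (K17.f42757 IH) (Lpe (f43145 IH) (Lpr_gf (f295989 IH) (Lpe (f266964 IH) (Lpn (LP (LK LD1_c8 LD2_c33 LD3_c47))))))))))))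
theorem f54669 : Led Lsl_dt (LP (LK LD1_c3 LD2_c58 LD3_c30)) = (LP (LK LD1_c7 LD2_c58 LD3_c27)) :=
  Lre_d IH (LK LD1_c3 LD2_c58 LD3_c30) (LK LD1_c7 LD2_c58 LD3_c27) Lrfl Lrfl
theorem f266877 : Led Lsl_gt (LP (LK LD1_c7 LD2_c58 LD3_c27)) = (LP (LK LD1_c11 LD2_c5 LD3_c1)) :=
  Lgr Lrot49 (Lpe (f54669 IH) (Lpe (K12.f54668 IH) (Lpe (K12.f42746 IH) (Lpr_gt (K12.f54972 IH) (Lpr_dt (K15.f266870 IH) (Lpr_gt (K15.f254172 IH) (Lpe (K15.f254164 IH) (Lpe (K14.f253903 IH) (Lpe (f253908 IH) (Lpn (LP (LK LD1_c11 LD2_c5 LD3_c1))))))))))))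
theorem f41240 : Led Lsl_gt (LP (LK LD1_c3 LD2_c58 LD3_c11)) = (LP (LK LD1_c1 LD2_c56 LD3_c0)) :=
  Lre_g IH (LK LD1_c3 LD2_c58 LD3_c11) (LK LD1_c1 LD2_c56 LD3_c0) Lrfl Lrfl
theorem f223130 : Led Lsl_dt (LP (LK LD1_c7 LD2_c58 LD3_c20)) = (LP (LK LD1_c3 LD2_c58 LD3_c28)) :=
  Lre_d IH (LK LD1_c7 LD2_c58 LD3_c20) (LK LD1_c3 LD2_c58 LD3_c28) Lrfl Lrfl
theorem f296000 : Led Lsl_ct (LP (LK LD1_c10 LD2_c32 LD3_c45)) = (LP (LK LD1_c7 LD2_c58 LD3_c20)) :=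
  Lgr Lrot110 (Lpr_gf (f295995 IH) (Lpr_cf (K15.f266947 IH) (Lpe (f266877 IH) (Lpe (f54669 IH) (Lpr_gt (K12.f42768 IH) (Lpr_ct (K12.f41135 IH) (Lpr_gt (f41240 IH) (Lpr_ct (K12.f41246 IH) (Lpe (f223130 IH) (Lpn (LP (LK LD1_c7 LD2_c58 LD3_c20))))))))))))
theorem f43200 : Led Lsl_dt (LP (LK LD1_c5 LD2_c21 LD3_c15)) = (LP (LK LD1_c10 LD2_c32 LD3_c45)) :=
  Lre_d IH (LK LD1_c5 LD2_c21 LD3_c15) (LK LD1_c10 LD2_c32 LD3_c45) Lrfl Lrfl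
theorem f223167 : Led Lsl_gt (LP (LK LD1_c7 LD2_c57 LD3_c59)) = (LP (LK LD1_c15 LD2_c1 LD3_c38)) :=
  Lre_g IH (LK LD1_c7 LD2_c57 LD3_c59) (LK LD1_c15 LD2_c1 LD3_c38) Lrfl Lrfl
theorem f223131 : Led Lsl_dt (LP (LK LD1_c3 LD2_c58 LD3_c28)) = (LP (LK LD1_c7 LD2_c58 LD3_c20)) :=
  Lre_d IH (LK LD1_c3 LD2_c58 LD3_c28) (LK LD1_c7 LD2_c58 LD3_c20) Lrfl Lrfl
theorem f296005 : Led Lsl_dt (LP (LK LD1_c15 LD2_c1 LD3_c38)) = (LP (LK LD1_c7 LD2_c58 LD3_c11)) :=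
  Lgr Lrot115 (Lpe (f223167 IH) (Lpr_ct (K15.f267560 IH) (Lpe (K15.f267554 IH) (Lpr_dt (K9.f42658 IH) (Lpr_gt (K14.f43199 IH) (Lpr_dt (f43200 IH) (Lpr_ct (f296000 IH) (Lpe (f223131 IH) (Lpr_gf (K12.f223126 IH) (Lpn (LP (LK LD1_c7 LD2_c58 LD3_c11))))))))))))
theorem f256761 : Led Lsl_ft (LP (LK LD1_c4 LD2_c10 LD3_c6)) = (LP (LK LD1_c4 LD2_c3 LD3_c40)) :=
  Lgr Lrot4 (Lpe (K12.f170699 IH) (Lpr_ff (K15.f256759 IH) (Lpe (K12.f201104 IH) (Lpn (LP (LK LD1_c4 LD2_c3 LD3_c40))))))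
theorem f275377 : Led Lsl_ft (LP (LK LD1_c8 LD2_c7 LD3_c50)) = (LP (LK LD1_c7 LD2_c58 LD3_c36)) :=
  Lgr Lrot54 (Lpe (K12.f226812 IH) (Lpe (f256761 IH) (Lpr_df (K16.f275365 IH) (Lpn (LP (LK LD1_c7 LD2_c58 LD3_c36))))))
theorem f275410 : Led Lsl_at (LP (LK LD1_c4 LD2_c17 LD3_c25)) = (LP (LK LD1_c8 LD2_c33 LD3_c39)) :=
  Lre_a IH (LK LD1_c4 LD2_c17 LD3_c25) (LK LD1_c8 LD2_c33 LD3_c39) Lrfl Lrfl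
theorem f231156 : Led Lsl_ct (LP (LK LD1_c8 LD2_c34 LD3_c0)) = (LP (LK LD1_c4 LD2_c17 LD3_c25)) :=
  Lre_c IH (LK LD1_c8 LD2_c34 LD3_c0) (LK LD1_c4 LD2_c17 LD3_c25) Lrfl Lrfl
theorem f275411 : Led Lsl_af (LP (LK LD1_c8 LD2_c34 LD3_c0)) = (LP (LK LD1_c7 LD2_c58 LD3_c36)) :=
  Lgr Lrot68 (Lpr_ct (f231156 IH) (Lpr_at (f275410 IH) (Lpr_ct (K16.f275379 IH) (Lpn (LP (LK LD1_c7 LD2_c58 LD3_c36))))))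
theorem f278155 : Led Lsl_gf (LP (LK LD1_c8 LD2_c34 LD3_c0)) = (LP (LK LD1_c7 LD2_c57 LD3_c46)) :=
  Lgr Lrot76 (Lpr_af (f275411 IH) (Lpe (f275377 IH) (Lpr_gt (K16.f278151 IH) (Lpn (LP (LK LD1_c7 LD2_c57 LD3_c46))))))
theorem f179627 : Led Lsl_gt (LP (LK LD1_c4 LD2_c17 LD3_c25)) = (LP (LK LD1_c8 LD2_c33 LD3_c60)) :=
  Lre_g IH (LK LD1_c4 LD2_c17 LD3_c25) (LK LD1_c8 LD2_c33 LD3_c60) Lrfl Lrfl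
theorem f296021 : Led Lsl_cf (LP (LK LD1_c15 LD2_c1 LD3_c38)) = (LP (LK LD1_c8 LD2_c33 LD3_c60)) :=
  Lgr Lrot175 (Lpr_dt (f296005 IH) (Lpr_cf (K12.f217965 IH) (Lpe (K12.f223194 IH) (Lpe (K12.f219632 IH) (Lpe (K12.f173108 IH) (Lpr_dt (K1.f41898 IH) (Lpe (f278155 IH) (Lpr_ct (f231156 IH) (Lpr_gt (f179627 IH) (Lpn (LP (LK LD1_c8 LD2_c33 LD3_c60))))))))))))
theorem f275461 : Led Lsl_at (LP (LK LD1_c7 LD2_c58 LD3_c11)) = (LP (LK LD1_c8 LD2_c20 LD3_c21)) :=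
  Lgr Lrot66 (Lpr_ff (K12.f217986 IH) (Lpe (K11.f48057 IH) (Lpr_ff (K16.f275455 IH) (Lpn (LP (LK LD1_c8 LD2_c20 LD3_c21))))))
theorem f296007 : Led Lsl_af (LP (LK LD1_c15 LD2_c1 LD3_c38)) = (LP (LK LD1_c15 LD2_c41 LD3_c48)) :=
  Lgr Lrot117 (Lpr_dt (f296005 IH) (Lpr_at (f275461 IH) (Lpr_dt (K16.f212801 IH) (Lpn (LP (LK LD1_c15 LD2_c41 LD3_c48))))))
theorem f275465 : Led Lsl_ft (LP (LK LD1_c10 LD2_c32 LD3_c55)) = (LP (LK LD1_c15 LD2_c41 LD3_c48)) :=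
  Lgr Lrot54 (Lpe (K12.f48065 IH) (Lpr_ff (K16.f275455 IH) (Lpe (K17.f218115 IH) (Lpn (LP (LK LD1_c15 LD2_c41 LD3_c48))))))
theorem f221931 : Led Lsl_ct (LP (LK LD1_c4 LD2_c50 LD3_c30)) = (LP (LK LD1_c4 LD2_c18 LD3_c0)) :=
  Lgr Lrot40 (Lpr_ff (K12.f218094 IH) (Lpe (K12.f219789 IH) (Lpr_ff (f221926 IH) (Lpn (LP (LK LD1_c4 LD2_c18 LD3_c0))))))
theorem f296031 : Led Lsl_dt (LP (LK LD1_c4 LD2_c18 LD3_c0)) = (LP (LK LD1_c8 LD2_c33 LD3_c60)) :=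
  Lgr Lrot120 (Lpe (f221931 IH) (Lpe (K10.f43251 IH) (Lpr_cf (K10.f53948 IH) (Lpe (K16.f48132 IH) (Lpe (K10.f48051 IH) (Lpe (K12.f48083 IH) (Lpr_ft (f275465 IH) (Lpe (f296007 IH) (Lpr_cf (f296021 IH) (Lpn (LP (LK LD1_c8 LD2_c33 LD3_c60))))))))))))
theorem f166438 : Led Lsl_dt (LP (LK LD1_c4 LD2_c18 LD3_c3)) = (LP (LK LD1_c2 LD2_c6 LD3_c19)) :=
  Lre_d IH (LK LD1_c4 LD2_c18 LD3_c3) (LK LD1_c2 LD2_c6 LD3_c19) Lrfl Lrfl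
theorem f296026 : Led Lsl_ct (LP (LK LD1_c15 LD2_c1 LD3_c38)) = (LP (LK LD1_c8 LD2_c33 LD3_c60)) :=
  Lgr Lrot59 (Lpr_cf (f296021 IH) (Lpn (LP (LK LD1_c8 LD2_c33 LD3_c60))))
theorem f296012 : Led Lsl_df (LP (LK LD1_c15 LD2_c1 LD3_c38)) = (LP (LK LD1_c7 LD2_c58 LD3_c11)) :=
  Lgr Lrot38 (Lpr_dt (f296005 IH) (Lpn (LP (LK LD1_c7 LD2_c58 LD3_c11))))
theorem f296043 : Led Lsl_gf (LP (LK LD1_c4 LD2_c18 LD3_c3)) = (LP (LK LD1_c8 LD2_c20 LD3_c44)) :=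
  Lgr Lrot144 (Lpr_dt (f166438 IH) (Lpr_gt (f53381 IH) (Lpr_dt (f296031 IH) (Lpe (f296026 IH) (Lpr_df (f296012 IH) (Lpe (K12.f168019 IH) (Lpe (f218079 IH) (Lpe (f218874 IH) (Lpr_cf (f295938 IH) (Lpn (LP (LK LD1_c8 LD2_c20 LD3_c44))))))))))))
theorem f296045 : Led Lsl_cf (LP (LK LD1_c8 LD2_c20 LD3_c44)) = (LP (LK LD1_c15 LD2_c2 LD3_c9)) :=
  Lgr Lrot166 (Lpe (f296043 IH) (Lpr_dt (f166438 IH) (Lpr_gt (f53381 IH) (Lpr_dt (f296031 IH) (Lpe (f296021 IH) (Lpr_df (f296012 IH) (Lpe (K12.f168019 IH) (Lpe (f218079 IH) (Lpe (f218874 IH) (Lpn (LP (LK LD1_c15 LD2_c2 LD3_c9))))))))))))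
theorem f170062 : Led Lsl_ct (LP (LK LD1_c4 LD2_c18 LD3_c3)) = (LP (LK LD1_c8 LD2_c35 LD3_c1)) :=
  Lre_c IH (LK LD1_c4 LD2_c18 LD3_c3) (LK LD1_c8 LD2_c35 LD3_c1) Lrfl Lrfl
theorem f254016 : Led Lsl_bt (LP (LK LD1_c2 LD2_c7 LD3_c8)) = (LP (LK LD1_c2 LD2_c3 LD3_c47)) :=
  Lgr Lrot95 (Lpr_df (K14.f254012 IH) (Lpr_bf (K15.f221678 IH) (Lpr_df (K14.f252089 IH) (Lpn (LP (LK LD1_c2 LD2_c3 LD3_c47))))))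
theorem f177164 : Led Lsl_bt (LP (LK LD1_c4 LD2_c17 LD3_c29)) = (LP (LK LD1_c2 LD2_c6 LD3_c3)) :=
  Lre_b IH (LK LD1_c4 LD2_c17 LD3_c29) (LK LD1_c2 LD2_c6 LD3_c3) Lrfl Lrfl
theorem f288789 : Led Lsl_cf (LP (LK LD1_c2 LD2_c24 LD3_c13)) = (LP (LK LD1_c4 LD2_c17 LD3_c29)) :=
  Lgr Lrot58 (Lpr_gf (K17.f288783 IH) (Lpe (K16.f254005 IH) (Lpr_bt (f254016 IH) (Lpe (K14.f250474 IH) (Lpe (K14.f187342 IH) (Lpr_ct (K14.f250478 IH) (Lpe (K14.f253280 IH) (Lpr_cf (K16.f253266 IH) (Lpe (K14.f246149 IH) (Lpe (f177164 IH) (Lpn (LP (LK LD1_c4 LD2_c17 LD3_c29)))))))))))))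
theorem f223908 : Led Lsl_dt (LP (LK LD1_c3 LD2_c58 LD3_c9)) = (LP (LK LD1_c1 LD2_c59 LD3_c47)) :=
  Lgr Lrot79 (Lpr_bf (K9.f173090 IH) (Lpr_df (K13.f223906 IH) (Lpe (K15.f191061 IH) (Lpn (LP (LK LD1_c1 LD2_c59 LD3_c47))))))
theorem f256480 : Led Lsl_bt (LP (LK LD1_c2 LD2_c6 LD3_c3)) = (LP (LK LD1_c4 LD2_c17 LD3_c29)) :=
  Lre_b IH (LK LD1_c2 LD2_c6 LD3_c3) (LK LD1_c4 LD2_c17 LD3_c29) Lrfl Lrfl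
theorem f256481 : Led Lsl_et (LP (LK LD1_c4 LD2_c17 LD3_c29)) = (LP (LK LD1_c8 LD2_c7 LD3_c20)) :=
  Lgr Lrot74 (Lpe (f256480 IH) (Lpe (K14.f247419 IH) (Lpr_bf (K15.f256474 IH) (Lpn (LP (LK LD1_c8 LD2_c7 LD3_c20))))))
theorem f275628 : Led Lsl_df (LP (LK LD1_c2 LD2_c11 LD3_c13)) = (LP (LK LD1_c4 LD2_c17 LD3_c29)) :=
  Lgr Lrot168 (Lpr_gf (K16.f275620 IH) (Lpe (K10.f48043 IH) (Lpr_et (K8.f44550 IH) (Lpe (K1.f7707 IH) (Lpe (K1.f43921 IH) (Lpr_dt (K10.f43960 IH) (Lpr_gf (K12.f212468 IH) (Lpr_df (K12.f47647 IH) (Lpe (K14.f212475 IH) (Lpe (f256481 IH) (Lpn (LP (LK LD1_c4 LD2_c17 LD3_c29)))))))))))))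
theorem f288785 : Led Lsl_ct (LP (LK LD1_c2 LD2_c24 LD3_c13)) = (LP (LK LD1_c4 LD2_c17 LD3_c29)) :=
  Lgr Lrot110 (Lpr_gf (K17.f288783 IH) (Lpe (K16.f254005 IH) (Lpe (K16.f266813 IH) (Lpe (f223908 IH) (Lpr_gt (K9.f41379 IH) (Lpr_ct (K12.f41164 IH) (Lpr_gt (K12.f173108 IH) (Lpr_ct (K12.f219632 IH) (Lpr_df (f275628 IH) (Lpn (LP (LK LD1_c4 LD2_c17 LD3_c29))))))))))))
theorem f288787 : Led Lsl_df (LP (LK LD1_c4 LD2_c17 LD3_c29)) = (LP (LK LD1_c2 LD2_c11 LD3_c13)) :=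
  Lgr Lrot162 (Lpe (f288785 IH) (Lpr_gf (K17.f288783 IH) (Lpe (K16.f254005 IH) (Lpe (K16.f266813 IH) (Lpe (K15.f224057 IH) (Lpr_gt (K9.f41379 IH) (Lpr_ct (K12.f41164 IH) (Lpr_gt (K12.f173108 IH) (Lpr_ct (K12.f219632 IH) (Lpn (LP (LK LD1_c2 LD2_c11 LD3_c13))))))))))))
theorem f170061 : Led Lsl_dt (LP (LK LD1_c2 LD2_c6 LD3_c19)) = (LP (LK LD1_c4 LD2_c18 LD3_c3)) :=
  Lre_d IH (LK LD1_c2 LD2_c6 LD3_c19) (LK LD1_c4 LD2_c18 LD3_c3) Lrfl Lrfl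
theorem f288817 : Led Lsl_df (LP (LK LD1_c4 LD2_c28 LD3_c4)) = (LP (LK LD1_c8 LD2_c35 LD3_c1)) :=
  Lgr Lrot43 (Lpr_ct (K12.f219632 IH) (Lpe (f288787 IH) (Lpe (f288789 IH) (Lpr_dt (K17.f288795 IH) (Lpr_ct (K17.f288808 IH) (Lpr_dt (K17.f288809 IH) (Lpr_ct (K17.f288810 IH) (Lpr_dt (K17.f196427 IH) (Lpr_ct (K17.f196423 IH) (Lpe (K11.f211285 IH) (Lpr_ct (K17.f211389 IH) (Lpe (K13.f167423 IH) (Lpr_ct (K12.f53380 IH) (Lpr_dt (f170061 IH) (Lpr_ct (f170062 IH) (Lpn (LP (LK LD1_c8 LD2_c35 LD3_c1))))))))))))))))))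
theorem f296126 : Led Lsl_gt (LP (LK LD1_c7 LD2_c58 LD3_c20)) = (LP (LK LD1_c15 LD2_c2 LD3_c9)) :=
  Lgr Lrot9 (Lpe (f223131 IH) (Lpr_gt (K12.f223086 IH) (Lpr_ct (K10.f48051 IH) (Lpe (K16.f275620 IH) (Lpr_ct (K12.f173107 IH) (Lpr_df (f288817 IH) (Lpe (f170062 IH) (Lpr_gf (f296043 IH) (Lpr_cf (f296045 IH) (Lpn (LP (LK LD1_c15 LD2_c2 LD3_c9))))))))))))
theorem f296128 : Led Lsl_df (LP (LK LD1_c8 LD2_c35 LD3_c1)) = (LP (LK LD1_c4 LD2_c28 LD3_c4)) :=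
  Lgr Lrot162 (Lpe (f170062 IH) (Lpr_gf (f296043 IH) (Lpr_cf (f296045 IH) (Lpe (f296126 IH) (Lpr_dt (f223130 IH) (Lpr_gt (K12.f223086 IH) (Lpr_ct (K10.f48051 IH) (Lpe (K16.f275620 IH) (Lpr_ct (K12.f173107 IH) (Lpn (LP (LK LD1_c4 LD2_c28 LD3_c4))))))))))))
theorem f177854 : Led Lsl_ct (LP (LK LD1_c2 LD2_c44 LD3_c8)) = (LP (LK LD1_c1 LD2_c18 LD3_c25)) :=
  Lre_c IH (LK LD1_c2 LD2_c44 LD3_c8) (LK LD1_c1 LD2_c18 LD3_c25) Lrfl Lrfl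
theorem f296146 : Led Lsl_gt (LP (LK LD1_c8 LD2_c35 LD3_c1)) = (LP (LK LD1_c5 LD2_c36 LD3_c32)) :=
  Lgr Lrot49 (Lpr_df (f296128 IH) (Lpe (K12.f173108 IH) (Lpe (K12.f41164 IH) (Lpr_gt (K13.f43239 IH) (Lpe (K14.f189486 IH) (Lpr_gt (K14.f253581 IH) (Lpe (K15.f266818 IH) (Lpe (f177854 IH) (Lpe (f177855 IH) (Lpn (LP (LK LD1_c5 LD2_c36 LD3_c32))))))))))))
theorem f253597 : Led Lsl_gt (LP (LK LD1_c5 LD2_c36 LD3_c33)) = (LP (LK LD1_c11 LD2_c5 LD3_c13)) :=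
  Lre_g IH (LK LD1_c5 LD2_c36 LD3_c33) (LK LD1_c11 LD2_c5 LD3_c13) Lrfl Lrfl
theorem f296151 : Led Lsl_ef (LP (LK LD1_c11 LD2_c5 LD3_c13)) = (LP (LK LD1_c8 LD2_c6 LD3_c40)) :=
  Lgr Lrot17 (Lpe (f253597 IH) (Lpe (K14.f253893 IH) (Lpr_dt (K15.f227990 IH) (Lpe (f296146 IH) (Lpr_df (f296128 IH) (Lpe (K12.f173108 IH) (Lpr_ef (K1.f54562 IH) (Lpr_dt (K17.f54581 IH) (Lpr_gf (K17.f291375 IH) (Lpe (K17.f291377 IH) (Lpn (LP (LK LD1_c8 LD2_c6 LD3_c40)))))))))))))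
theorem f296160 : Led Lsl_et (LP (LK LD1_c11 LD2_c5 LD3_c13)) = (LP (LK LD1_c8 LD2_c6 LD3_c40)) :=
  Lgr Lrot87 (Lpr_ef (f296151 IH) (Lpn (LP (LK LD1_c8 LD2_c6 LD3_c40))))
theorem f192212 : Led Lsl_ct (LP (LK LD1_c8 LD2_c6 LD3_c40)) = (LP (LK LD1_c4 LD2_c3 LD3_c1)) :=
  Lre_c IH (LK LD1_c8 LD2_c6 LD3_c40) (LK LD1_c4 LD2_c3 LD3_c1) Lrfl Lrfl
theorem f192218 : Led Lsl_et (LP (LK LD1_c4 LD2_c3 LD3_c1)) = (LP (LK LD1_c8 LD2_c6 LD3_c41)) :=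
  Lre_e IH (LK LD1_c4 LD2_c3 LD3_c1) (LK LD1_c8 LD2_c6 LD3_c41) Lrfl Lrfl
theorem f296227 : Led Lsl_cf (LP (LK LD1_c11 LD2_c5 LD3_c13)) = (LP (LK LD1_c8 LD2_c6 LD3_c41)) :=
  Lgr Lrot39 (Lpr_et (f296160 IH) (Lpr_ct (f192212 IH) (Lpr_et (f192218 IH) (Lpn (LP (LK LD1_c8 LD2_c6 LD3_c41))))))
theorem f228010 : Led Lsl_ct (LP (LK LD1_c2 LD2_c44 LD3_c9)) = (LP (LK LD1_c5 LD2_c36 LD3_c33)) :=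
  Lre_c IH (LK LD1_c2 LD2_c44 LD3_c9) (LK LD1_c5 LD2_c36 LD3_c33) Lrfl Lrfl
theorem f253616 : Led Lsl_bt (LP (LK LD1_c2 LD2_c44 LD3_c9)) = (LP (LK LD1_c1 LD2_c18 LD3_c27)) :=
  Lre_b IH (LK LD1_c2 LD2_c44 LD3_c9) (LK LD1_c1 LD2_c18 LD3_c27) Lrfl Lrfl
theorem f183138 : Led Lsl_gt (LP (LK LD1_c2 LD2_c44 LD3_c12)) = (LP (LK LD1_c1 LD2_c18 LD3_c27)) :=
  Lre_g IH (LK LD1_c2 LD2_c44 LD3_c12) (LK LD1_c1 LD2_c18 LD3_c27) Lrfl Lrfl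
theorem f183147 : Led Lsl_bt (LP (LK LD1_c5 LD2_c36 LD3_c44)) = (LP (LK LD1_c2 LD2_c44 LD3_c12)) :=
  Lre_b IH (LK LD1_c5 LD2_c36 LD3_c44) (LK LD1_c2 LD2_c44 LD3_c12) Lrfl Lrfl
theorem f183148 : Led Lsl_ct (LP (LK LD1_c5 LD2_c36 LD3_c44)) = (LP (LK LD1_c11 LD2_c5 LD3_c34)) :=
  Lre_c IH (LK LD1_c5 LD2_c36 LD3_c44) (LK LD1_c11 LD2_c5 LD3_c34) Lrfl Lrfl
theorem f192235 : Led Lsl_bt (LP (LK LD1_c8 LD2_c6 LD3_c41)) = (LP (LK LD1_c4 LD2_c3 LD3_c4)) :=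
  Lre_b IH (LK LD1_c8 LD2_c6 LD3_c41) (LK LD1_c4 LD2_c3 LD3_c4) Lrfl Lrfl
theorem f184821 : Led Lsl_gt (LP (LK LD1_c4 LD2_c3 LD3_c4)) = (LP (LK LD1_c8 LD2_c6 LD3_c45)) :=
  Lre_g IH (LK LD1_c4 LD2_c3 LD3_c4) (LK LD1_c8 LD2_c6 LD3_c45) Lrfl Lrfl
theorem f244004 : Led Lsl_ct (LP (LK LD1_c8 LD2_c6 LD3_c45)) = (LP (LK LD1_c15 LD2_c16 LD3_c32)) :=
  Lre_c IH (LK LD1_c8 LD2_c6 LD3_c45) (LK LD1_c15 LD2_c16 LD3_c32) Lrfl Lrfl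
theorem f296238 : Led Lsl_gf (LP (LK LD1_c11 LD2_c5 LD3_c34)) = (LP (LK LD1_c15 LD2_c16 LD3_c32)) :=
  Lgr Lrot129 (Lpe (f183148 IH) (Lpr_bt (f183147 IH) (Lpr_gt (f183138 IH) (Lpe (f253616 IH) (Lpr_ct (f228010 IH) (Lpr_gt (f253597 IH) (Lpr_cf (f296227 IH) (Lpr_bt (f192235 IH) (Lpr_gt (f184821 IH) (Lpr_ct (f244004 IH) (Lpn (LP (LK LD1_c15 LD2_c16 LD3_c32)))))))))))))
theorem f183149 : Led Lsl_ct (LP (LK LD1_c1 LD2_c16 LD3_c34)) = (LP (LK LD1_c2 LD2_c39 LD3_c35)) :=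
  Lre_c IH (LK LD1_c1 LD2_c16 LD3_c34) (LK LD1_c2 LD2_c39 LD3_c35) Lrfl Lrfl
theorem f296244 : Led Lsl_bf (LP (LK LD1_c5 LD2_c26 LD3_c12)) = (LP (LK LD1_c8 LD2_c6 LD3_c45)) :=
  Lgr Lrot34 (Lpe (K15.f183151 IH) (Lpe (K17.f183150 IH) (Lpr_ct (f183149 IH) (Lpe (K17.f183087 IH) (Lpe (K15.f183132 IH) (Lpe (f183138 IH) (Lpe (f183147 IH) (Lpr_ct (f183148 IH) (Lpr_gf (f296238 IH) (Lpe (f244004 IH) (Lpn (LP (LK LD1_c8 LD2_c6 LD3_c45)))))))))))))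
theorem f296254 : Led Lsl_ft (LP (LK LD1_c4 LD2_c3 LD3_c27)) = (LP (LK LD1_c8 LD2_c6 LD3_c45)) :=
  Lgr Lrot75 (Lpe (K17.f220228 IH) (Lpr_ff (K15.f262107 IH) (Lpr_bf (f296244 IH) (Lpn (LP (LK LD1_c8 LD2_c6 LD3_c45))))))
theorem f296265 : Led Lsl_ff (LP (LK LD1_c4 LD2_c3 LD3_c27)) = (LP (LK LD1_c8 LD2_c6 LD3_c45)) :=
  Lgr Lrot3 (Lpr_ft (f296254 IH) (Lpn (LP (LK LD1_c8 LD2_c6 LD3_c45))))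
theorem f244005 : Led Lsl_ct (LP (LK LD1_c15 LD2_c16 LD3_c32)) = (LP (LK LD1_c8 LD2_c6 LD3_c45)) :=
  Lre_c IH (LK LD1_c15 LD2_c16 LD3_c32) (LK LD1_c8 LD2_c6 LD3_c45) Lrfl Lrfl
theorem f296267 : Led Lsl_ft (LP (LK LD1_c8 LD2_c7 LD3_c27)) = (LP (LK LD1_c15 LD2_c16 LD3_c32)) :=
  Lgr Lrot4 (Lpe (K17.f220234 IH) (Lpr_ff (f296265 IH) (Lpe (f244005 IH) (Lpn (LP (LK LD1_c15 LD2_c16 LD3_c32))))))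
theorem f243922 : Led Lsl_et (LP (LK LD1_c2 LD2_c45 LD3_c29)) = (LP (LK LD1_c5 LD2_c39 LD3_c1)) :=
  Lre_e IH (LK LD1_c2 LD2_c45 LD3_c29) (LK LD1_c5 LD2_c39 LD3_c1) Lrfl Lrfl
theorem f243931 : Led Lsl_ct (LP (LK LD1_c5 LD2_c39 LD3_c1)) = (LP (LK LD1_c4 LD2_c19 LD3_c9)) :=
  Lgr Lrot15 (Lpe (f243922 IH) (Lpr_cf (K13.f243920 IH) (Lpe (K15.f243930 IH) (Lpn (LP (LK LD1_c4 LD2_c19 LD3_c9))))))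
theorem f244294 : Led Lsl_ft (LP (LK LD1_c11 LD2_c9 LD3_c1)) = (LP (LK LD1_c5 LD2_c39 LD3_c1)) :=
  Lre_f IH (LK LD1_c11 LD2_c9 LD3_c1) (LK LD1_c5 LD2_c39 LD3_c1) Lrfl Lrfl
theorem f243947 : Led Lsl_ft (LP (LK LD1_c4 LD2_c19 LD3_c9)) = (LP (LK LD1_c8 LD2_c36 LD3_c43)) :=
  Lre_f IH (LK LD1_c4 LD2_c19 LD3_c9) (LK LD1_c8 LD2_c36 LD3_c43) Lrfl Lrfl
theorem f244295 : Led Lsl_cf (LP (LK LD1_c11 LD2_c9 LD3_c1)) = (LP (LK LD1_c8 LD2_c36 LD3_c43)) :=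
  Lgr Lrot108 (Lpr_ft (f244294 IH) (Lpr_ct (f243931 IH) (Lpr_ft (f243947 IH) (Lpn (LP (LK LD1_c8 LD2_c36 LD3_c43))))))
theorem f244303 : Led Lsl_ct (LP (LK LD1_c11 LD2_c9 LD3_c1)) = (LP (LK LD1_c8 LD2_c36 LD3_c43)) :=
  Lgr Lrot59 (Lpr_cf (f244295 IH) (Lpn (LP (LK LD1_c8 LD2_c36 LD3_c43))))
theorem f243974 : Led Lsl_at (LP (LK LD1_c8 LD2_c36 LD3_c43)) = (LP (LK LD1_c8 LD2_c6 LD3_c45)) :=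
  Lgr Lrot26 (Lpe (f243947 IH) (Lpr_gt (K15.f243962 IH) (Lpr_gt (f184821 IH) (Lpn (LP (LK LD1_c8 LD2_c6 LD3_c45))))))
theorem f244309 : Led Lsl_af (LP (LK LD1_c11 LD2_c9 LD3_c1)) = (LP (LK LD1_c15 LD2_c16 LD3_c32)) :=
  Lgr Lrot68 (Lpr_ct (f244303 IH) (Lpr_at (f243974 IH) (Lpr_ct (f244004 IH) (Lpn (LP (LK LD1_c15 LD2_c16 LD3_c32))))))
theorem f296287 : Led Lsl_gt (LP (LK LD1_c8 LD2_c14 LD3_c15)) = (LP (LK LD1_c11 LD2_c9 LD3_c1)) :=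
  Lgr Lrot46 (Lpr_gf (K17.f244432 IH) (Lpr_ft (f296267 IH) (Lpe (f244309 IH) (Lpn (LP (LK LD1_c11 LD2_c9 LD3_c1))))))
theorem f189988 : Led Lsl_et (LP (LK LD1_c8 LD2_c27 LD3_c25)) = (LP (LK LD1_c4 LD2_c14 LD3_c21)) :=
  Lre_e IH (LK LD1_c8 LD2_c27 LD3_c25) (LK LD1_c4 LD2_c14 LD3_c21) Lrfl Lrfl
theorem f189989 : Led Lsl_dt (LP (LK LD1_c8 LD2_c27 LD3_c25)) = (LP (LK LD1_c15 LD2_c52 LD3_c50)) :=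
  Lre_d IH (LK LD1_c8 LD2_c27 LD3_c25) (LK LD1_c15 LD2_c52 LD3_c50) Lrfl Lrfl
theorem f228147 : Led Lsl_dt (LP (LK LD1_c5 LD2_c39 LD3_c3)) = (LP (LK LD1_c11 LD2_c9 LD3_c6)) :=
  Lre_d IH (LK LD1_c5 LD2_c39 LD3_c3) (LK LD1_c11 LD2_c9 LD3_c6) Lrfl Lrfl
theorem f52273 : Led Lsl_et (LP (LK LD1_c1 LD2_c57 LD3_c23)) = (LP (LK LD1_c4 LD2_c1 LD3_c2)) :=
  Lre_e IH (LK LD1_c1 LD2_c57 LD3_c23) (LK LD1_c4 LD2_c1 LD3_c2) Lrfl Lrfl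
theorem f228277 : Led Lsl_gf (LP (LK LD1_c11 LD2_c9 LD3_c6)) = (LP (LK LD1_c15 LD2_c52 LD3_c50)) :=
  Lgr Lrot145 (Lpe (f228147 IH) (Lpr_et (K12.f228149 IH) (Lpr_gt (K12.f178108 IH) (Lpr_dt (K12.f228154 IH) (Lpr_gt (K12.f216384 IH) (Lpr_df (K10.f52247 IH) (Lpr_et (f52273 IH) (Lpe (K13.f189978 IH) (Lpe (f189988 IH) (Lpr_dt (f189989 IH) (Lpn (LP (LK LD1_c15 LD2_c52 LD3_c50)))))))))))))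
theorem f262178 : Led Lsl_gt (LP (LK LD1_c25 LD2_c8 LD3_c31)) = (LP (LK LD1_c15 LD2_c52 LD3_c50)) :=
  Lgr Lrot5 (Lpr_ft (K15.f28894 IH) (Lpr_at (K15.f262167 IH) (Lpr_gf (f228277 IH) (Lpn (LP (LK LD1_c15 LD2_c52 LD3_c50))))))
theorem f28882 : Led Lsl_dt (LP (LK LD1_c15 LD2_c17 LD3_c50)) = (LP (LK LD1_c25 LD2_c8 LD3_c31)) :=
  Lre_d IH (LK LD1_c15 LD2_c17 LD3_c50) (LK LD1_c25 LD2_c8 LD3_c31) Lrfl Lrfl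
theorem f296298 : Led Lsl_et (LP (LK LD1_c15 LD2_c17 LD3_c50)) = (LP (LK LD1_c11 LD2_c9 LD3_c1)) :=
  Lgr Lrot122 (Lpr_dt (f28882 IH) (Lpr_gt (f262178 IH) (Lpe (f189989 IH) (Lpr_et (f189988 IH) (Lpr_gt (K10.f189976 IH) (Lpr_dt (K10.f50912 IH) (Lpe (K15.f233744 IH) (Lpe (K15.f190943 IH) (Lpr_et (K17.f233754 IH) (Lpr_gt (f296287 IH) (Lpn (LP (LK LD1_c11 LD2_c9 LD3_c1)))))))))))))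
theorem f228180 : Led Lsl_et (LP (LK LD1_c4 LD2_c3 LD3_c24)) = (LP (LK LD1_c8 LD2_c7 LD3_c22)) :=
  Lre_e IH (LK LD1_c4 LD2_c3 LD3_c24) (LK LD1_c8 LD2_c7 LD3_c22) Lrfl Lrfl
theorem f243913 : Led Lsl_et (LP (LK LD1_c5 LD2_c39 LD3_c1)) = (LP (LK LD1_c2 LD2_c45 LD3_c29)) :=
  Lre_e IH (LK LD1_c5 LD2_c39 LD3_c1) (LK LD1_c2 LD2_c45 LD3_c29) Lrfl Lrfl
theorem f296309 : Led Lsl_ff (LP (LK LD1_c4 LD2_c3 LD3_c24)) = (LP (LK LD1_c2 LD2_c45 LD3_c29)) :=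
  Lgr Lrot72 (Lpr_et (f228180 IH) (Lpr_ft (K15.f262197 IH) (Lpr_et (f296298 IH) (Lpr_ft (f244294 IH) (Lpr_et (f243913 IH) (Lpn (LP (LK LD1_c2 LD2_c45 LD3_c29))))))))
theorem f296317 : Led Lsl_ft (LP (LK LD1_c4 LD2_c3 LD3_c24)) = (LP (LK LD1_c2 LD2_c45 LD3_c29)) :=
  Lgr Lrot48 (Lpr_ff (f296309 IH) (Lpn (LP (LK LD1_c2 LD2_c45 LD3_c29))))
theorem f296324 : Led Lsl_af (LP (LK LD1_c4 LD2_c3 LD3_c26)) = (LP (LK LD1_c2 LD2_c45 LD3_c29)) :=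
  Lgr Lrot31 (Lpe (K13.f223700 IH) (Lpe (K15.f196671 IH) (Lpr_ft (f296317 IH) (Lpn (LP (LK LD1_c2 LD2_c45 LD3_c29))))))
theorem f296321 : Led Lsl_ff (LP (LK LD1_c2 LD2_c45 LD3_c30)) = (LP (LK LD1_c4 LD2_c3 LD3_c26)) :=
  Lgr Lrot19 (Lpr_dt (K13.f228175 IH) (Lpr_ft (f296317 IH) (Lpr_dt (K13.f243712 IH) (Lpn (LP (LK LD1_c4 LD2_c3 LD3_c26))))))
theorem f296332 : Led Lsl_at (LP (LK LD1_c2 LD2_c45 LD3_c30)) = (LP (LK LD1_c4 LD2_c3 LD3_c24)) :=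
  Lgr Lrot66 (Lpr_ff (f296321 IH) (Lpr_af (f296324 IH) (Lpe (f296317 IH) (Lpn (LP (LK LD1_c4 LD2_c3 LD3_c24))))))
theorem f296336 : Led Lsl_af (LP (LK LD1_c5 LD2_c39 LD3_c3)) = (LP (LK LD1_c8 LD2_c7 LD3_c22)) :=
  Lgr Lrot50 (Lpr_et (K12.f228149 IH) (Lpr_at (f296332 IH) (Lpr_et (f228180 IH) (Lpn (LP (LK LD1_c8 LD2_c7 LD3_c22))))))
theorem f197638 : Led Lsl_bf (LP (LK LD1_c3 LD2_c57 LD3_c1)) = (LP (LK LD1_c4 LD2_c15 LD3_c25)) :=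
  Lgr Lrot24 (Lpr_bt (K13.f197636 IH) (Lpn (LP (LK LD1_c4 LD2_c15 LD3_c25))))
theorem f228046 : Led Lsl_df (LP (LK LD1_c4 LD2_c19 LD3_c10)) = (LP (LK LD1_c3 LD2_c57 LD3_c1)) :=
  Lgr Lrot12 (Lpr_bt (K12.f228042 IH) (Lpe (K13.f197594 IH) (Lpe (f197638 IH) (Lpn (LP (LK LD1_c3 LD2_c57 LD3_c1))))))
theorem f224943 : Led Lsl_ct (LP (LK LD1_c24 LD2_c44 LD3_c56)) = (LP (LK LD1_c14 LD2_c57 LD3_c21)) :=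
  Lre_c IH (LK LD1_c24 LD2_c44 LD3_c56) (LK LD1_c14 LD2_c57 LD3_c21) Lrfl Lrfl
theorem f224979 : Led Lsl_dt (LP (LK LD1_c31 LD2_c38 LD3_c17)) = (LP (LK LD1_c24 LD2_c44 LD3_c56)) :=
  Lre_d IH (LK LD1_c31 LD2_c38 LD3_c17) (LK LD1_c24 LD2_c44 LD3_c56) Lrfl Lrfl
theorem f296323 : Led Lsl_ft (LP (LK LD1_c15 LD2_c17 LD3_c50)) = (LP (LK LD1_c8 LD2_c7 LD3_c22)) :=
  Lre_f IH (LK LD1_c15 LD2_c17 LD3_c50) (LK LD1_c8 LD2_c7 LD3_c22) Lrfl Lrfl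
theorem f296340 : Led Lsl_cf (LP (LK LD1_c31 LD2_c38 LD3_c17)) = (LP (LK LD1_c25 LD2_c8 LD3_c31)) :=
  Lgr Lrot118 (Lpr_dt (f224979 IH) (Lpr_ct (f224943 IH) (Lpr_dt (K15.f197647 IH) (Lpr_ct (K15.f197640 IH) (Lpe (f228046 IH) (Lpe (K12.f228143 IH) (Lpr_af (f296336 IH) (Lpe (f296323 IH) (Lpr_dt (f28882 IH) (Lpn (LP (LK LD1_c25 LD2_c8 LD3_c31))))))))))))
theorem f28881 : Led Lsl_ct (LP (LK LD1_c8 LD2_c7 LD3_c25)) = (LP (LK LD1_c15 LD2_c17 LD3_c50)) :=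
  Lre_c IH (LK LD1_c8 LD2_c7 LD3_c25) (LK LD1_c15 LD2_c17 LD3_c50) Lrfl Lrfl
theorem f28885 : Led Lsl_ft (LP (LK LD1_c4 LD2_c21 LD3_c46)) = (LP (LK LD1_c2 LD2_c8 LD3_c23)) :=
  Lre_f IH (LK LD1_c4 LD2_c21 LD3_c46) (LK LD1_c2 LD2_c8 LD3_c23) Lrfl Lrfl
theorem f296344 : Led Lsl_af (LP (LK LD1_c3 LD2_c57 LD3_c1)) = (LP (LK LD1_c2 LD2_c8 LD3_c23)) :=
  Lgr Lrot109 (Lpe (K15.f197640 IH) (Lpe (K15.f197647 IH) (Lpe (f224943 IH) (Lpe (f224979 IH) (Lpr_cf (f296340 IH) (Lpe (f28882 IH) (Lpe (f28881 IH) (Lpe (K13.f28854 IH) (Lpr_ft (f28885 IH) (Lpn (LP (LK LD1_c2 LD2_c8 LD3_c23))))))))))))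
theorem f296350 : Led Lsl_at (LP (LK LD1_c7 LD2_c55 LD3_c42)) = (LP (LK LD1_c4 LD2_c21 LD3_c46)) :=
  Lgr Lrot66 (Lpe (K13.f197656 IH) (Lpr_af (f296344 IH) (Lpe (f28885 IH) (Lpn (LP (LK LD1_c4 LD2_c21 LD3_c46))))))
theorem f296396 : Led Lsl_ef (LP (LK LD1_c7 LD2_c55 LD3_c42)) = (LP (LK LD1_c4 LD2_c21 LD3_c37)) :=
  Lgr Lrot20 (Lpr_at (f296350 IH) (Lpr_et (K15.f262641 IH) (Lpe (K15.f262551 IH) (Lpn (LP (LK LD1_c4 LD2_c21 LD3_c37))))))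
theorem f296252 : Led Lsl_et (LP (LK LD1_c8 LD2_c36 LD3_c46)) = (LP (LK LD1_c8 LD2_c6 LD3_c45)) :=
  Lgr Lrot74 (Lpr_bf (K12.f228049 IH) (Lpr_ef (K15.f262105 IH) (Lpr_bf (f296244 IH) (Lpn (LP (LK LD1_c8 LD2_c6 LD3_c45))))))
theorem f212302 : Led Lsl_et (LP (LK LD1_c1 LD2_c58 LD3_c19)) = (LP (LK LD1_c4 LD2_c2 LD3_c37)) :=
  Lre_e IH (LK LD1_c1 LD2_c58 LD3_c19) (LK LD1_c4 LD2_c2 LD3_c37) Lrfl Lrfl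
theorem f246113 : Led Lsl_dt (LP (LK LD1_c4 LD2_c2 LD3_c37)) = (LP (LK LD1_c4 LD2_c3 LD3_c27)) :=
  Lgr Lrot77 (Lpe (f212302 IH) (Lpe (K15.f246096 IH) (Lpr_ef (K13.f246098 IH) (Lpr_df (K12.f220320 IH) (Lpe (K17.f220227 IH) (Lpn (LP (LK LD1_c4 LD2_c3 LD3_c27))))))))
theorem f296260 : Led Lsl_ft (LP (LK LD1_c8 LD2_c5 LD3_c50)) = (LP (LK LD1_c4 LD2_c2 LD3_c37)) :=
  Lre_f IH (LK LD1_c8 LD2_c5 LD3_c50) (LK LD1_c4 LD2_c2 LD3_c37) Lrfl Lrfl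
theorem f296261 : Led Lsl_df (LP (LK LD1_c8 LD2_c5 LD3_c50)) = (LP (LK LD1_c8 LD2_c6 LD3_c45)) :=
  Lgr Lrot78 (Lpr_ft (f296260 IH) (Lpr_dt (f246113 IH) (Lpr_ft (f296254 IH) (Lpn (LP (LK LD1_c8 LD2_c6 LD3_c45))))))
theorem f243096 : Led Lsl_dt (LP (LK LD1_c8 LD2_c5 LD3_c31)) = (LP (LK LD1_c4 LD2_c21 LD3_c37)) :=
  Lgr Lrot42 (Lpr_df (K15.f243058 IH) (Lpn (LP (LK LD1_c4 LD2_c21 LD3_c37))))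
theorem f296402 : Led Lsl_et (LP (LK LD1_c8 LD2_c5 LD3_c50)) = (LP (LK LD1_c8 LD2_c5 LD3_c31)) :=
  Lgr Lrot71 (Lpr_df (f296261 IH) (Lpe (f296252 IH) (Lpr_df (K13.f228058 IH) (Lpr_ef (f296396 IH) (Lpe (f243096 IH) (Lpn (LP (LK LD1_c8 LD2_c5 LD3_c31))))))))
theorem f296408 : Led Lsl_ef (LP (LK LD1_c8 LD2_c5 LD3_c50)) = (LP (LK LD1_c8 LD2_c5 LD3_c31)) :=
  Lgr Lrot88 (Lpr_et (f296402 IH) (Lpn (LP (LK LD1_c8 LD2_c5 LD3_c31))))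
theorem f243124 : Led Lsl_bf (LP (LK LD1_c8 LD2_c30 LD3_c43)) = (LP (LK LD1_c8 LD2_c5 LD3_c31)) :=
  Lgr Lrot93 (Lpr_dt (K14.f243123 IH) (Lpr_bt (K13.f243115 IH) (Lpe (K15.f243058 IH) (Lpn (LP (LK LD1_c8 LD2_c5 LD3_c31))))))
theorem f243127 : Led Lsl_bt (LP (LK LD1_c8 LD2_c30 LD3_c43)) = (LP (LK LD1_c8 LD2_c5 LD3_c31)) :=
  Lgr Lrot127 (Lpr_bf (f243124 IH) (Lpn (LP (LK LD1_c8 LD2_c5 LD3_c31))))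
theorem f296413 : Led Lsl_bt (LP (LK LD1_c8 LD2_c5 LD3_c50)) = (LP (LK LD1_c5 LD2_c17 LD3_c55)) :=
  Lgr Lrot119 (Lpr_ef (f296408 IH) (Lpe (f243127 IH) (Lpr_ef (K15.f251208 IH) (Lpn (LP (LK LD1_c5 LD2_c17 LD3_c55))))))
theorem f296410 : Led Lsl_ft (LP (LK LD1_c4 LD2_c2 LD3_c37)) = (LP (LK LD1_c8 LD2_c5 LD3_c50)) :=
  Lre_f IH (LK LD1_c4 LD2_c2 LD3_c37) (LK LD1_c8 LD2_c5 LD3_c50) Lrfl Lrfl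
theorem f296436 : Led Lsl_bf (LP (LK LD1_c4 LD2_c2 LD3_c37)) = (LP (LK LD1_c2 LD2_c35 LD3_c40)) :=
  Lgr Lrot61 (Lpr_ft (f296410 IH) (Lpr_bt (f296413 IH) (Lpr_ft (K15.f251196 IH) (Lpn (LP (LK LD1_c2 LD2_c35 LD3_c40))))))
theorem f192086 : Led Lsl_ct (LP (LK LD1_c5 LD2_c17 LD3_c52)) = (LP (LK LD1_c2 LD2_c35 LD3_c40)) :=
  Lre_c IH (LK LD1_c5 LD2_c17 LD3_c52) (LK LD1_c2 LD2_c35 LD3_c40) Lrfl Lrfl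
theorem f192082 : Led Lsl_bt (LP (LK LD1_c10 LD2_c25 LD3_c19)) = (LP (LK LD1_c5 LD2_c17 LD3_c52)) :=
  Lre_b IH (LK LD1_c10 LD2_c25 LD3_c19) (LK LD1_c5 LD2_c17 LD3_c52) Lrfl Lrfl
theorem f192062 : Led Lsl_et (LP (LK LD1_c5 LD2_c17 LD3_c50)) = (LP (LK LD1_c10 LD2_c25 LD3_c19)) :=
  Lre_e IH (LK LD1_c5 LD2_c17 LD3_c50) (LK LD1_c10 LD2_c25 LD3_c19) Lrfl Lrfl
theorem f192063 : Led Lsl_et (LP (LK LD1_c15 LD2_c11 LD3_c55)) = (LP (LK LD1_c8 LD2_c4 LD3_c21)) :=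
  Lre_e IH (LK LD1_c15 LD2_c11 LD3_c55) (LK LD1_c8 LD2_c4 LD3_c21) Lrfl Lrfl
theorem f192064 : Led Lsl_ct (LP (LK LD1_c10 LD2_c25 LD3_c19)) = (LP (LK LD1_c15 LD2_c11 LD3_c55)) :=
  Lgr Lrot15 (Lpe (f192062 IH) (Lpr_cf (K15.f192050 IH) (Lpe (f192063 IH) (Lpn (LP (LK LD1_c15 LD2_c11 LD3_c55))))))
theorem f192080 : Led Lsl_cf (LP (LK LD1_c10 LD2_c25 LD3_c19)) = (LP (LK LD1_c15 LD2_c11 LD3_c55)) :=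
  Lgr Lrot11 (Lpr_ct (f192064 IH) (Lpn (LP (LK LD1_c15 LD2_c11 LD3_c55))))
theorem f192087 : Led Lsl_bt (LP (LK LD1_c8 LD2_c4 LD3_c23)) = (LP (LK LD1_c15 LD2_c11 LD3_c55)) :=
  Lre_b IH (LK LD1_c8 LD2_c4 LD3_c23) (LK LD1_c15 LD2_c11 LD3_c55) Lrfl Lrfl
theorem f296440 : Led Lsl_ct (LP (LK LD1_c4 LD2_c2 LD3_c37)) = (LP (LK LD1_c8 LD2_c4 LD3_c23)) :=
  Lgr Lrot83 (Lpr_bf (f296436 IH) (Lpe (f192086 IH) (Lpe (f192082 IH) (Lpr_cf (f192080 IH) (Lpe (f192087 IH) (Lpn (LP (LK LD1_c8 LD2_c4 LD3_c23))))))))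
theorem f296447 : Led Lsl_ft (LP (LK LD1_c8 LD2_c4 LD3_c23)) = (LP (LK LD1_c15 LD2_c11 LD3_c58)) :=
  Lre_f IH (LK LD1_c8 LD2_c4 LD3_c23) (LK LD1_c15 LD2_c11 LD3_c58) Lrfl Lrfl
theorem f296448 : Led Lsl_cf (LP (LK LD1_c8 LD2_c5 LD3_c50)) = (LP (LK LD1_c15 LD2_c11 LD3_c58)) :=
  Lgr Lrot108 (Lpr_ft (f296260 IH) (Lpr_ct (f296440 IH) (Lpr_ft (f296447 IH) (Lpn (LP (LK LD1_c15 LD2_c11 LD3_c58))))))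
theorem f265639 : Led Lsl_et (LP (LK LD1_c4 LD2_c50 LD3_c38)) = (LP (LK LD1_c9 LD2_c33 LD3_c24)) :=
  Lre_e IH (LK LD1_c4 LD2_c50 LD3_c38) (LK LD1_c9 LD2_c33 LD3_c24) Lrfl Lrfl
theorem f243923 : Led Lsl_et (LP (LK LD1_c1 LD2_c58 LD3_c36)) = (LP (LK LD1_c0 LD2_c56 LD3_c18)) :=
  Lre_e IH (LK LD1_c1 LD2_c58 LD3_c36) (LK LD1_c0 LD2_c56 LD3_c18) Lrfl Lrfl
theorem f265677 : Led Lsl_gf (LP (LK LD1_c9 LD2_c33 LD3_c24)) = (LP (LK LD1_c5 LD2_c39 LD3_c1)) :=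
  Lgr Lrot141 (Lpe (f265639 IH) (Lpr_dt (K15.f265637 IH) (Lpr_gt (K15.f50389 IH) (Lpe (K10.f51027 IH) (Lpr_et (f243923 IH) (Lpr_gt (K10.f52295 IH) (Lpr_dt (K15.f224867 IH) (Lpr_gt (K13.f223700 IH) (Lpe (K13.f243712 IH) (Lpr_et (f243922 IH) (Lpn (LP (LK LD1_c5 LD2_c39 LD3_c1)))))))))))))
theorem f244312 : Led Lsl_ft (LP (LK LD1_c5 LD2_c39 LD3_c1)) = (LP (LK LD1_c11 LD2_c9 LD3_c1)) :=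
  Lre_f IH (LK LD1_c5 LD2_c39 LD3_c1) (LK LD1_c11 LD2_c9 LD3_c1) Lrfl Lrfl
theorem f244002 : Led Lsl_af (LP (LK LD1_c8 LD2_c36 LD3_c43)) = (LP (LK LD1_c8 LD2_c6 LD3_c45)) :=
  Lgr Lrot0 (Lpr_at (f243974 IH) (Lpn (LP (LK LD1_c8 LD2_c6 LD3_c45))))
theorem f244300 : Led Lsl_at (LP (LK LD1_c11 LD2_c9 LD3_c1)) = (LP (LK LD1_c15 LD2_c16 LD3_c32)) :=
  Lgr Lrot107 (Lpr_cf (f244295 IH) (Lpr_af (f244002 IH) (Lpe (f244005 IH) (Lpn (LP (LK LD1_c15 LD2_c16 LD3_c32))))))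
theorem f265679 : Led Lsl_gt (LP (LK LD1_c9 LD2_c33 LD3_c24)) = (LP (LK LD1_c15 LD2_c16 LD3_c32)) :=
  Lgr Lrot46 (Lpr_gf (f265677 IH) (Lpr_ft (f244312 IH) (Lpr_at (f244300 IH) (Lpn (LP (LK LD1_c15 LD2_c16 LD3_c32))))))
theorem f243730 : Led Lsl_ct (LP (LK LD1_c4 LD2_c50 LD3_c39)) = (LP (LK LD1_c9 LD2_c33 LD3_c24)) :=
  Lre_c IH (LK LD1_c4 LD2_c50 LD3_c39) (LK LD1_c9 LD2_c33 LD3_c24) Lrfl Lrfl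
theorem f287245 : Led Lsl_gt (LP (LK LD1_c2 LD2_c31 LD3_c40)) = (LP (LK LD1_c5 LD2_c8 LD3_c61)) :=
  Lre_g IH (LK LD1_c2 LD2_c31 LD3_c40) (LK LD1_c5 LD2_c8 LD3_c61) Lrfl Lrfl
theorem f296829 : Led Lsl_ct (LP (LK LD1_c5 LD2_c8 LD3_c61)) = (LP (LK LD1_c10 LD2_c8 LD3_c32)) :=
  Lre_c IH (LK LD1_c5 LD2_c8 LD3_c61) (LK LD1_c10 LD2_c8 LD3_c32) Lrfl Lrfl
theorem f296830 : Led Lsl_gt (LP (LK LD1_c10 LD2_c8 LD3_c32)) = (LP (LK LD1_c15 LD2_c11 LD3_c58)) :=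
  Lgr Lrot187 (Lpe (f296829 IH) (Lpe (f287245 IH) (Lpe (K17.f286318 IH) (Lpr_gt (K16.f243717 IH) (Lpr_ct (f243730 IH) (Lpr_gt (f265679 IH) (Lpr_ct (f244005 IH) (Lpe (f296261 IH) (Lpr_cf (f296448 IH) (Lpn (LP (LK LD1_c15 LD2_c11 LD3_c58))))))))))))
theorem f220671 : Led Lsl_bt (LP (LK LD1_c4 LD2_c16 LD3_c2)) = (LP (LK LD1_c8 LD2_c30 LD3_c53)) :=
  Lre_b IH (LK LD1_c4 LD2_c16 LD3_c2) (LK LD1_c8 LD2_c30 LD3_c53) Lrfl Lrfl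
theorem f262060 : Led Lsl_af (LP (LK LD1_c7 LD2_c55 LD3_c42)) = (LP (LK LD1_c4 LD2_c21 LD3_c46)) :=
  Lgr Lrot36 (Lpr_bt (K13.f197650 IH) (Lpr_at (K15.f262056 IH) (Lpr_bt (f220671 IH) (Lpe (K13.f246341 IH) (Lpr_bt (K13.f28877 IH) (Lpn (LP (LK LD1_c4 LD2_c21 LD3_c46))))))))
theorem f262556 : Led Lsl_at (LP (LK LD1_c4 LD2_c21 LD3_c37)) = (LP (LK LD1_c7 LD2_c55 LD3_c37)) :=
  Lgr Lrot100 (Lpr_af (K15.f262551 IH) (Lpn (LP (LK LD1_c7 LD2_c55 LD3_c37))))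
theorem f262635 : Led Lsl_et (LP (LK LD1_c7 LD2_c55 LD3_c42)) = (LP (LK LD1_c4 LD2_c21 LD3_c37)) :=
  Lgr Lrot123 (Lpr_af (f262060 IH) (Lpr_ef (K15.f262633 IH) (Lpe (f262556 IH) (Lpn (LP (LK LD1_c4 LD2_c21 LD3_c37))))))
theorem f220314 : Led Lsl_et (LP (LK LD1_c1 LD2_c58 LD3_c41)) = (LP (LK LD1_c4 LD2_c3 LD3_c27)) :=
  Lre_e IH (LK LD1_c1 LD2_c58 LD3_c41) (LK LD1_c4 LD2_c3 LD3_c27) Lrfl Lrfl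
theorem f262133 : Led Lsl_ff (LP (LK LD1_c1 LD2_c58 LD3_c41)) = (LP (LK LD1_c2 LD2_c6 LD3_c60)) :=
  Lgr Lrot3 (Lpr_ft (K15.f262127 IH) (Lpn (LP (LK LD1_c2 LD2_c6 LD3_c60))))
theorem f296263 : Led Lsl_ef (LP (LK LD1_c8 LD2_c36 LD3_c46)) = (LP (LK LD1_c8 LD2_c6 LD3_c45)) :=
  Lgr Lrot21 (Lpr_ft (K12.f228048 IH) (Lpr_et (K13.f227985 IH) (Lpe (f262133 IH) (Lpr_et (f220314 IH) (Lpr_ft (f296254 IH) (Lpn (LP (LK LD1_c8 LD2_c6 LD3_c45))))))))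
theorem f296415 : Led Lsl_dt (LP (LK LD1_c8 LD2_c5 LD3_c50)) = (LP (LK LD1_c8 LD2_c6 LD3_c45)) :=
  Lgr Lrot77 (Lpr_ef (f296408 IH) (Lpr_df (K15.f243058 IH) (Lpe (f262635 IH) (Lpe (K13.f228054 IH) (Lpr_ef (f296263 IH) (Lpn (LP (LK LD1_c8 LD2_c6 LD3_c45))))))))
theorem f296839 : Led Lsl_df (LP (LK LD1_c2 LD2_c31 LD3_c40)) = (LP (LK LD1_c2 LD2_c45 LD3_c25)) :=
  Lgr Lrot155 (Lpr_gt (f287245 IH) (Lpr_ct (f296829 IH) (Lpr_gt (f296830 IH) (Lpe (f296448 IH) (Lpr_dt (f296415 IH) (Lpe (f244005 IH) (Lpe (f265679 IH) (Lpe (f243730 IH) (Lpe (K16.f243717 IH) (Lpn (LP (LK LD1_c2 LD2_c45 LD3_c25))))))))))))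
theorem f286284 : Led Lsl_ft (LP (LK LD1_c5 LD2_c38 LD3_c56)) = (LP (LK LD1_c2 LD2_c45 LD3_c25)) :=
  Lre_f IH (LK LD1_c5 LD2_c38 LD3_c56) (LK LD1_c2 LD2_c45 LD3_c25) Lrfl Lrfl
theorem f296842 : Led Lsl_dt (LP (LK LD1_c5 LD2_c9 LD3_c1)) = (LP (LK LD1_c5 LD2_c38 LD3_c56)) :=
  Lgr Lrot60 (Lpe (K17.f287221 IH) (Lpr_df (f296839 IH) (Lpe (f286284 IH) (Lpn (LP (LK LD1_c5 LD2_c38 LD3_c56))))))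
theorem f296855 : Led Lsl_ft (LP (LK LD1_c5 LD2_c9 LD3_c1)) = (LP (LK LD1_c2 LD2_c31 LD3_c40)) :=
  Lre_f IH (LK LD1_c5 LD2_c9 LD3_c1) (LK LD1_c2 LD2_c31 LD3_c40) Lrfl Lrfl
theorem f287214 : Led Lsl_at (LP (LK LD1_c2 LD2_c31 LD3_c40)) = (LP (LK LD1_c4 LD2_c1 LD3_c48)) :=
  Lgr Lrot100 (Lpr_af (K17.f287212 IH) (Lpn (LP (LK LD1_c4 LD2_c1 LD3_c48))))
theorem f258973 : Led Lsl_ct (LP (LK LD1_c8 LD2_c4 LD3_c12)) = (LP (LK LD1_c4 LD2_c1 LD3_c48)) :=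
  Lre_c IH (LK LD1_c8 LD2_c4 LD3_c12) (LK LD1_c4 LD2_c1 LD3_c48) Lrfl Lrfl
theorem f296856 : Led Lsl_dt (LP (LK LD1_c15 LD2_c11 LD3_c34)) = (LP (LK LD1_c8 LD2_c4 LD3_c12)) :=
  Lre_d IH (LK LD1_c15 LD2_c11 LD3_c34) (LK LD1_c8 LD2_c4 LD3_c12) Lrfl Lrfl
theorem f287278 : Led Lsl_ct (LP (LK LD1_c25 LD2_c0 LD3_c43)) = (LP (LK LD1_c15 LD2_c11 LD3_c34)) :=
  Lre_c IH (LK LD1_c25 LD2_c0 LD3_c43) (LK LD1_c15 LD2_c11 LD3_c34) Lrfl Lrfl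
theorem f296850 : Led Lsl_ct (LP (LK LD1_c5 LD2_c38 LD3_c56)) = (LP (LK LD1_c11 LD2_c8 LD3_c46)) :=
  Lre_c IH (LK LD1_c5 LD2_c38 LD3_c56) (LK LD1_c11 LD2_c8 LD3_c46) Lrfl Lrfl
theorem f296851 : Led Lsl_dt (LP (LK LD1_c11 LD2_c8 LD3_c46)) = (LP (LK LD1_c20 LD2_c2 LD3_c27)) :=
  Lre_d IH (LK LD1_c11 LD2_c8 LD3_c46) (LK LD1_c20 LD2_c2 LD3_c27) Lrfl Lrfl
theorem f296852 : Led Lsl_ct (LP (LK LD1_c20 LD2_c2 LD3_c27)) = (LP (LK LD1_c29 LD2_c15 LD3_c53)) :=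
  Lre_c IH (LK LD1_c20 LD2_c2 LD3_c27) (LK LD1_c29 LD2_c15 LD3_c53) Lrfl Lrfl
theorem f296857 : Led Lsl_df (LP (LK LD1_c25 LD2_c0 LD3_c43)) = (LP (LK LD1_c29 LD2_c15 LD3_c53)) :=
  Lgr Lrot13 (Lpr_ct (f287278 IH) (Lpr_dt (f296856 IH) (Lpr_ct (f258973 IH) (Lpe (f287214 IH) (Lpe (f296855 IH) (Lpr_dt (f296842 IH) (Lpr_ct (f296850 IH) (Lpr_dt (f296851 IH) (Lpr_ct (f296852 IH) (Lpn (LP (LK LD1_c29 LD2_c15 LD3_c53))))))))))))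
theorem f244047 : Led Lsl_dt (LP (LK LD1_c8 LD2_c9 LD3_c42)) = (LP (LK LD1_c15 LD2_c22 LD3_c26)) :=
  Lre_d IH (LK LD1_c8 LD2_c9 LD3_c42) (LK LD1_c15 LD2_c22 LD3_c26) Lrfl Lrfl
theorem f244482 : Led Lsl_ct (LP (LK LD1_c15 LD2_c22 LD3_c26)) = (LP (LK LD1_c25 LD2_c14 LD3_c13)) :=
  Lre_c IH (LK LD1_c15 LD2_c22 LD3_c26) (LK LD1_c25 LD2_c14 LD3_c13) Lrfl Lrfl
theorem f244516 : Led Lsl_ft (LP (LK LD1_c29 LD2_c15 LD3_c53)) = (LP (LK LD1_c20 LD2_c2 LD3_c26)) :=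
  Lre_f IH (LK LD1_c29 LD2_c15 LD3_c53) (LK LD1_c20 LD2_c2 LD3_c26) Lrfl Lrfl
theorem f296870 : Led Lsl_af (LP (LK LD1_c25 LD2_c14 LD3_c13)) = (LP (LK LD1_c20 LD2_c2 LD3_c26)) :=
  Lgr Lrot109 (Lpe (f244482 IH) (Lpe (f244047 IH) (Lpe (K17.f244459 IH) (Lpr_df (K16.f260235 IH) (Lpe (f258973 IH) (Lpe (f296856 IH) (Lpe (f287278 IH) (Lpr_df (f296857 IH) (Lpr_ft (f244516 IH) (Lpn (LP (LK LD1_c20 LD2_c2 LD3_c26))))))))))))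
theorem f244505 : Led Lsl_ct (LP (LK LD1_c25 LD2_c14 LD3_c13)) = (LP (LK LD1_c15 LD2_c22 LD3_c26)) :=
  Lre_c IH (LK LD1_c25 LD2_c14 LD3_c13) (LK LD1_c15 LD2_c22 LD3_c26) Lrfl Lrfl
theorem f296877 : Led Lsl_at (LP (LK LD1_c15 LD2_c22 LD3_c26)) = (LP (LK LD1_c11 LD2_c8 LD3_c45)) :=
  Lgr Lrot107 (Lpe (f244505 IH) (Lpr_af (f296870 IH) (Lpe (K17.f201016 IH) (Lpn (LP (LK LD1_c11 LD2_c8 LD3_c45))))))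
theorem f244499 : Led Lsl_ft (LP (LK LD1_c25 LD2_c14 LD3_c14)) = (LP (LK LD1_c15 LD2_c22 LD3_c26)) :=
  Lre_f IH (LK LD1_c25 LD2_c14 LD3_c14) (LK LD1_c15 LD2_c22 LD3_c26) Lrfl Lrfl
theorem f286731 : Led Lsl_dt (LP (LK LD1_c25 LD2_c14 LD3_c14)) = (LP (LK LD1_c15 LD2_c22 LD3_c27)) :=
  Lre_d IH (LK LD1_c25 LD2_c14 LD3_c14) (LK LD1_c15 LD2_c22 LD3_c27) Lrfl Lrfl
theorem f286739 : Led Lsl_ct (LP (LK LD1_c15 LD2_c22 LD3_c27)) = (LP (LK LD1_c8 LD2_c9 LD3_c44)) :=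
  Lre_c IH (LK LD1_c15 LD2_c22 LD3_c27) (LK LD1_c8 LD2_c9 LD3_c44) Lrfl Lrfl
theorem f244481 : Led Lsl_ct (LP (LK LD1_c20 LD2_c2 LD3_c26)) = (LP (LK LD1_c11 LD2_c8 LD3_c45)) :=
  Lre_c IH (LK LD1_c20 LD2_c2 LD3_c26) (LK LD1_c11 LD2_c8 LD3_c45) Lrfl Lrfl
theorem f244515 : Led Lsl_dt (LP (LK LD1_c29 LD2_c15 LD3_c52)) = (LP (LK LD1_c20 LD2_c2 LD3_c26)) :=
  Lre_d IH (LK LD1_c29 LD2_c15 LD3_c52) (LK LD1_c20 LD2_c2 LD3_c26) Lrfl Lrfl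
theorem f287251 : Led Lsl_cf (LP (LK LD1_c29 LD2_c15 LD3_c52)) = (LP (LK LD1_c25 LD2_c0 LD3_c44)) :=
  Lgr Lrot11 (Lpr_ct (K17.f287249 IH) (Lpn (LP (LK LD1_c25 LD2_c0 LD3_c44))))
theorem f287260 : Led Lsl_dt (LP (LK LD1_c15 LD2_c11 LD3_c35)) = (LP (LK LD1_c25 LD2_c0 LD3_c44)) :=
  Lre_d IH (LK LD1_c15 LD2_c11 LD3_c35) (LK LD1_c25 LD2_c0 LD3_c44) Lrfl Lrfl
theorem f258994 : Led Lsl_ct (LP (LK LD1_c8 LD2_c4 LD3_c14)) = (LP (LK LD1_c15 LD2_c11 LD3_c35)) :=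
  Lre_c IH (LK LD1_c8 LD2_c4 LD3_c14) (LK LD1_c15 LD2_c11 LD3_c35) Lrfl Lrfl
theorem f296891 : Led Lsl_dt (LP (LK LD1_c8 LD2_c9 LD3_c44)) = (LP (LK LD1_c8 LD2_c4 LD3_c14)) :=
  Lgr Lrot32 (Lpe (f286739 IH) (Lpe (f286731 IH) (Lpr_ft (f244499 IH) (Lpr_at (f296877 IH) (Lpe (f244481 IH) (Lpe (f244515 IH) (Lpr_cf (f287251 IH) (Lpe (f287260 IH) (Lpe (f258994 IH) (Lpn (LP (LK LD1_c8 LD2_c4 LD3_c14))))))))))))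
theorem f228594 : Led Lsl_et (LP (LK LD1_c5 LD2_c38 LD3_c58)) = (LP (LK LD1_c11 LD2_c8 LD3_c51)) :=
  Lre_e IH (LK LD1_c5 LD2_c38 LD3_c58) (LK LD1_c11 LD2_c8 LD3_c51) Lrfl Lrfl
theorem f228648 : Led Lsl_ft (LP (LK LD1_c11 LD2_c8 LD3_c51)) = (LP (LK LD1_c20 LD2_c2 LD3_c34)) :=
  Lre_f IH (LK LD1_c11 LD2_c8 LD3_c51) (LK LD1_c20 LD2_c2 LD3_c34) Lrfl Lrfl
theorem f256959 : Led Lsl_ft (LP (LK LD1_c25 LD2_c14 LD3_c9)) = (LP (LK LD1_c15 LD2_c22 LD3_c24)) :=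
  Lre_f IH (LK LD1_c25 LD2_c14 LD3_c9) (LK LD1_c15 LD2_c22 LD3_c24) Lrfl Lrfl
theorem f286715 : Led Lsl_et (LP (LK LD1_c20 LD2_c2 LD3_c34)) = (LP (LK LD1_c25 LD2_c14 LD3_c9)) :=
  Lgr Lrot69 (Lpe (f228648 IH) (Lpe (f228594 IH) (Lpr_ff (K17.f286705 IH) (Lpe (K17.f244530 IH) (Lpe (f256959 IH) (Lpn (LP (LK LD1_c25 LD2_c14 LD3_c9))))))))
theorem f200503 : Led Lsl_bt (LP (LK LD1_c11 LD2_c8 LD3_c55)) = (LP (LK LD1_c20 LD2_c2 LD3_c34)) :=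
  Lre_b IH (LK LD1_c11 LD2_c8 LD3_c55) (LK LD1_c20 LD2_c2 LD3_c34) Lrfl Lrfl
theorem f286724 : Led Lsl_bt (LP (LK LD1_c25 LD2_c14 LD3_c9)) = (LP (LK LD1_c15 LD2_c22 LD3_c27)) :=
  Lre_b IH (LK LD1_c25 LD2_c14 LD3_c9) (LK LD1_c15 LD2_c22 LD3_c27) Lrfl Lrfl
theorem f286725 : Led Lsl_ef (LP (LK LD1_c11 LD2_c8 LD3_c55)) = (LP (LK LD1_c15 LD2_c22 LD3_c27)) :=
  Lgr Lrot29 (Lpr_bt (f200503 IH) (Lpr_et (f286715 IH) (Lpr_bt (f286724 IH) (Lpn (LP (LK LD1_c15 LD2_c22 LD3_c27))))))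
theorem f200502 : Led Lsl_ct (LP (LK LD1_c11 LD2_c8 LD3_c55)) = (LP (LK LD1_c5 LD2_c38 LD3_c61)) :=
  Lre_c IH (LK LD1_c11 LD2_c8 LD3_c55) (LK LD1_c5 LD2_c38 LD3_c61) Lrfl Lrfl
theorem f286727 : Led Lsl_ct (LP (LK LD1_c8 LD2_c9 LD3_c44)) = (LP (LK LD1_c15 LD2_c22 LD3_c27)) :=
  Lre_c IH (LK LD1_c8 LD2_c9 LD3_c44) (LK LD1_c15 LD2_c22 LD3_c27) Lrfl Lrfl
theorem f286728 : Led Lsl_et (LP (LK LD1_c5 LD2_c38 LD3_c61)) = (LP (LK LD1_c8 LD2_c9 LD3_c44)) :=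
  Lgr Lrot158 (Lpe (f200502 IH) (Lpr_ef (f286725 IH) (Lpe (f286727 IH) (Lpn (LP (LK LD1_c8 LD2_c9 LD3_c44))))))
theorem f286340 : Led Lsl_bt (LP (LK LD1_c5 LD2_c9 LD3_c1)) = (LP (LK LD1_c10 LD2_c8 LD3_c19)) :=
  Lre_b IH (LK LD1_c5 LD2_c9 LD3_c1) (LK LD1_c10 LD2_c8 LD3_c19) Lrfl Lrfl
theorem f287054 : Led Lsl_et (LP (LK LD1_c8 LD2_c4 LD3_c20)) = (LP (LK LD1_c5 LD2_c9 LD3_c1)) :=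
  Lgr Lrot74 (Lpe (K17.f180821 IH) (Lpr_ef (K17.f287050 IH) (Lpe (f286340 IH) (Lpn (LP (LK LD1_c5 LD2_c9 LD3_c1))))))
theorem f287243 : Led Lsl_ef (LP (LK LD1_c5 LD2_c9 LD3_c8)) = (LP (LK LD1_c8 LD2_c4 LD3_c14)) :=
  Lgr Lrot20 (Lpe (K17.f287108 IH) (Lpr_et (f287054 IH) (Lpr_at (K17.f287223 IH) (Lpn (LP (LK LD1_c8 LD2_c4 LD3_c14))))))
theorem f229540 : Led Lsl_bt (LP (LK LD1_c7 LD2_c56 LD3_c11)) = (LP (LK LD1_c14 LD2_c58 LD3_c13)) :=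
  Lre_b IH (LK LD1_c7 LD2_c56 LD3_c11) (LK LD1_c14 LD2_c58 LD3_c13) Lrfl Lrfl
theorem f229541 : Led Lsl_bt (LP (LK LD1_c10 LD2_c8 LD3_c38)) = (LP (LK LD1_c5 LD2_c9 LD3_c8)) :=
  Lre_b IH (LK LD1_c10 LD2_c8 LD3_c38) (LK LD1_c5 LD2_c9 LD3_c8) Lrfl Lrfl
theorem f229542 : Led Lsl_df (LP (LK LD1_c7 LD2_c56 LD3_c11)) = (LP (LK LD1_c5 LD2_c9 LD3_c8)) :=
  Lgr Lrot12 (Lpr_bt (f229540 IH) (Lpr_dt (K15.f229533 IH) (Lpr_bt (f229541 IH) (Lpn (LP (LK LD1_c5 LD2_c9 LD3_c8))))))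
theorem f296901 : Led Lsl_ef (LP (LK LD1_c4 LD2_c22 LD3_c45)) = (LP (LK LD1_c7 LD2_c56 LD3_c11)) :=
  Lgr Lrot73 (Lpe (K12.f200450 IH) (Lpr_et (f286728 IH) (Lpr_dt (f296891 IH) (Lpe (f287243 IH) (Lpe (f229542 IH) (Lpn (LP (LK LD1_c7 LD2_c56 LD3_c11))))))))
theorem f200500 : Led Lsl_ft (LP (LK LD1_c4 LD2_c22 LD3_c45)) = (LP (LK LD1_c2 LD2_c8 LD3_c49)) :=
  Lre_f IH (LK LD1_c4 LD2_c22 LD3_c45) (LK LD1_c2 LD2_c8 LD3_c49) Lrfl Lrfl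
theorem f229554 : Led Lsl_ft (LP (LK LD1_c3 LD2_c57 LD3_c15)) = (LP (LK LD1_c7 LD2_c56 LD3_c11)) :=
  Lre_f IH (LK LD1_c3 LD2_c57 LD3_c15) (LK LD1_c7 LD2_c56 LD3_c11) Lrfl Lrfl
theorem f296930 : Led Lsl_ft (LP (LK LD1_c1 LD2_c1 LD3_c35)) = (LP (LK LD1_c1 LD2_c55 LD3_c22)) :=
  Lgr Lrot86 (Lpe (K12.f200422 IH) (Lpe (f200500 IH) (Lpr_ef (f296901 IH) (Lpe (f229554 IH) (Lpe (K17.f196322 IH) (Lpn (LP (LK LD1_c1 LD2_c55 LD3_c22))))))))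
theorem f296936 : Led Lsl_ff (LP (LK LD1_c0 LD2_c28 LD3_c6)) = (LP (LK LD1_c0 LD2_c54 LD3_c25)) :=
  Lgr Lrot19 (Lpr_dt (K12.f181983 IH) (Lpr_ft (f296930 IH) (Lpr_dt (K12.f196318 IH) (Lpn (LP (LK LD1_c0 LD2_c54 LD3_c25))))))
theorem f296940 : Led Lsl_at (LP (LK LD1_c0 LD2_c28 LD3_c6)) = (LP (LK LD1_c0 LD2_c32 LD3_c34)) :=
  Lgr Lrot26 (Lpr_ff (f296936 IH) (Lpe (K10.f196303 IH) (Lpe (K9.f182200 IH) (Lpn (LP (LK LD1_c0 LD2_c32 LD3_c34))))))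
theorem f296946 : Led Lsl_af (LP (LK LD1_c1 LD2_c1 LD3_c36)) = (LP (LK LD1_c1 LD2_c10 LD3_c22)) :=
  Lgr Lrot50 (Lpr_et (K12.f187100 IH) (Lpr_at (f296940 IH) (Lpr_et (K12.f168339 IH) (Lpn (LP (LK LD1_c1 LD2_c10 LD3_c22))))))
theorem f196343 : Led Lsl_ft (LP (LK LD1_c3 LD2_c57 LD3_c16)) = (LP (LK LD1_c1 LD2_c55 LD3_c23)) :=
  Lre_f IH (LK LD1_c3 LD2_c57 LD3_c16) (LK LD1_c1 LD2_c55 LD3_c23) Lrfl Lrfl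
theorem f296938 : Led Lsl_ft (LP (LK LD1_c1 LD2_c1 LD3_c36)) = (LP (LK LD1_c2 LD2_c3 LD3_c13)) :=
  Lgr Lrot86 (Lpe (K12.f200421 IH) (Lpr_ff (f296936 IH) (Lpe (K10.f196321 IH) (Lpe (f196343 IH) (Lpe (K15.f260230 IH) (Lpn (LP (LK LD1_c2 LD2_c3 LD3_c13))))))))
theorem f168343 : Led Lsl_ft (LP (LK LD1_c1 LD2_c17 LD3_c16)) = (LP (LK LD1_c2 LD2_c41 LD3_c10)) :=
  Lre_f IH (LK LD1_c1 LD2_c17 LD3_c16) (LK LD1_c2 LD2_c41 LD3_c10) Lrfl Lrfl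
theorem f261439 : Led Lsl_ff (LP (LK LD1_c1 LD2_c10 LD3_c22)) = (LP (LK LD1_c1 LD2_c59 LD3_c14)) :=
  Lgr Lrot25 (Lpr_bt (K12.f168332 IH) (Lpr_ft (f168343 IH) (Lpr_bt (K15.f261418 IH) (Lpn (LP (LK LD1_c1 LD2_c59 LD3_c14))))))
theorem f296954 : Led Lsl_at (LP (LK LD1_c2 LD2_c3 LD3_c13)) = (LP (LK LD1_c1 LD2_c59 LD3_c14)) :=
  Lgr Lrot66 (Lpe (f296938 IH) (Lpr_af (f296946 IH) (Lpr_ff (f261439 IH) (Lpn (LP (LK LD1_c1 LD2_c59 LD3_c14))))))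
theorem f296958 : Led Lsl_af (LP (LK LD1_c0 LD2_c58 LD3_c31)) = (LP (LK LD1_c0 LD2_c58 LD3_c48)) :=
  Lgr Lrot68 (Lpr_ct (K11.f166451 IH) (Lpr_at (f296954 IH) (Lpe (K15.f224873 IH) (Lpn (LP (LK LD1_c0 LD2_c58 LD3_c48))))))
theorem f296960 : Led Lsl_at (LP (LK LD1_c1 LD2_c55 LD3_c26)) = (LP (LK LD1_c1 LD2_c1 LD3_c33)) :=
  Lgr Lrot80 (Lpe (K15.f260241 IH) (Lpr_af (f296958 IH) (Lpe (K17.f285831 IH) (Lpn (LP (LK LD1_c1 LD2_c1 LD3_c33))))))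
theorem f296962 : Led Lsl_af (LP (LK LD1_c0 LD2_c32 LD3_c33)) = (LP (LK LD1_c0 LD2_c54 LD3_c51)) :=
  Lgr Lrot36 (Lpr_bt (K13.f175066 IH) (Lpe (K15.f246220 IH) (Lpe (K15.f242232 IH) (Lpr_at (f296960 IH) (Lpe (K17.f173232 IH) (Lpn (LP (LK LD1_c0 LD2_c54 LD3_c51))))))))
theorem f296964 : Led Lsl_at (LP (LK LD1_c0 LD2_c26 LD3_c8)) = (LP (LK LD1_c0 LD2_c25 LD3_c54)) :=
  Lgr Lrot51 (Lpr_df (K13.f246043 IH) (Lpr_af (f296962 IH) (Lpr_df (K17.f285851 IH) (Lpn (LP (LK LD1_c0 LD2_c25 LD3_c54))))))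
theorem f296970 : Led Lsl_ff (LP (LK LD1_c0 LD2_c26 LD3_c8)) = (LP (LK LD1_c0 LD2_c25 LD3_c55)) :=
  Lgr Lrot30 (Lpr_at (f296964 IH) (Lpe (K17.f287473 IH) (Lpr_at (K17.f287477 IH) (Lpn (LP (LK LD1_c0 LD2_c25 LD3_c55))))))
theorem f296974 : Led Lsl_ft (LP (LK LD1_c0 LD2_c39 LD3_c38)) = (LP (LK LD1_c0 LD2_c57 LD3_c4)) :=
  Lgr Lrot4 (Lpr_cf (K9.f175954 IH) (Lpr_ff (f296970 IH) (Lpe (K9.f179883 IH) (Lpn (LP (LK LD1_c0 LD2_c57 LD3_c4))))))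
theorem f296978 : Led Lsl_ff (LP (LK LD1_c0 LD2_c39 LD3_c38)) = (LP (LK LD1_c0 LD2_c57 LD3_c4)) :=
  Lgr Lrot3 (Lpr_ft (f296974 IH) (Lpn (LP (LK LD1_c0 LD2_c57 LD3_c4))))
theorem f296982 : Led Lsl_at (LP (LK LD1_c0 LD2_c39 LD3_c38)) = (LP (LK LD1_c0 LD2_c57 LD3_c3)) :=
  Lgr Lrot26 (Lpr_ff (f296978 IH) (Lpe (K9.f182468 IH) (Lpe (K9.f168209 IH) (Lpn (LP (LK LD1_c0 LD2_c57 LD3_c3))))))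
theorem f296984 : Led Lsl_af (LP (LK LD1_c1 LD2_c25 LD3_c46)) = (LP (LK LD1_c2 LD2_c0 LD3_c9)) :=
  Lgr Lrot117 (Lpr_dt (K13.f175956 IH) (Lpr_at (f296982 IH) (Lpr_dt (K9.f56544 IH) (Lpn (LP (LK LD1_c2 LD2_c0 LD3_c9))))))
theorem f175947 : Led Lsl_et (LP (LK LD1_c1 LD2_c25 LD3_c46)) = (LP (LK LD1_c2 LD2_c59 LD3_c61)) :=
  Lre_e IH (LK LD1_c1 LD2_c25 LD3_c46) (LK LD1_c2 LD2_c59 LD3_c61) Lrfl Lrfl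
theorem f168225 : Led Lsl_et (LP (LK LD1_c0 LD2_c37 LD3_c9)) = (LP (LK LD1_c1 LD2_c20 LD3_c26)) :=
  Lre_e IH (LK LD1_c0 LD2_c37 LD3_c9) (LK LD1_c1 LD2_c20 LD3_c26) Lrfl Lrfl
theorem f168226 : Led Lsl_dt (LP (LK LD1_c1 LD2_c20 LD3_c26)) = (LP (LK LD1_c2 LD2_c48 LD3_c32)) :=
  Lre_d IH (LK LD1_c1 LD2_c20 LD3_c26) (LK LD1_c2 LD2_c48 LD3_c32) Lrfl Lrfl
theorem f168227 : Led Lsl_ef (LP (LK LD1_c2 LD2_c0 LD3_c9)) = (LP (LK LD1_c2 LD2_c48 LD3_c32)) :=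
  Lgr Lrot73 (Lpr_dt (K17.f56560 IH) (Lpr_et (K9.f56526 IH) (Lpr_dt (K9.f168197 IH) (Lpr_et (f168225 IH) (Lpr_dt (f168226 IH) (Lpn (LP (LK LD1_c2 LD2_c48 LD3_c32))))))))
theorem f296987 : Led Lsl_at (LP (LK LD1_c2 LD2_c59 LD3_c61)) = (LP (LK LD1_c2 LD2_c48 LD3_c32)) :=
  Lgr Lrot80 (Lpe (f175947 IH) (Lpr_af (f296984 IH) (Lpr_ef (f168227 IH) (Lpn (LP (LK LD1_c2 LD2_c48 LD3_c32))))))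
theorem f175957 : Led Lsl_et (LP (LK LD1_c2 LD2_c59 LD3_c61)) = (LP (LK LD1_c1 LD2_c25 LD3_c46)) :=
  Lre_e IH (LK LD1_c2 LD2_c59 LD3_c61) (LK LD1_c1 LD2_c25 LD3_c46) Lrfl Lrfl
theorem f173389 : Led Lsl_et (LP (LK LD1_c1 LD2_c3 LD3_c51)) = (LP (LK LD1_c2 LD2_c13 LD3_c42)) :=
  Lre_e IH (LK LD1_c1 LD2_c3 LD3_c51) (LK LD1_c2 LD2_c13 LD3_c42) Lrfl Lrfl
theorem f175958 : Led Lsl_df (LP (LK LD1_c2 LD2_c59 LD3_c61)) = (LP (LK LD1_c2 LD2_c13 LD3_c42)) :=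
  Lgr Lrot70 (Lpr_et (f175957 IH) (Lpr_dt (K13.f175956 IH) (Lpr_et (K9.f175950 IH) (Lpr_dt (K9.f173377 IH) (Lpr_et (f173389 IH) (Lpn (LP (LK LD1_c2 LD2_c13 LD3_c42))))))))
theorem f168237 : Led Lsl_dt (LP (LK LD1_c2 LD2_c48 LD3_c32)) = (LP (LK LD1_c1 LD2_c20 LD3_c26)) :=
  Lre_d IH (LK LD1_c2 LD2_c48 LD3_c32) (LK LD1_c1 LD2_c20 LD3_c26) Lrfl Lrfl
theorem f296991 : Led Lsl_af (LP (LK LD1_c2 LD2_c13 LD3_c42)) = (LP (LK LD1_c1 LD2_c20 LD3_c26)) :=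
  Lgr Lrot117 (Lpe (f175958 IH) (Lpr_at (f296987 IH) (Lpr_dt (f168237 IH) (Lpn (LP (LK LD1_c1 LD2_c20 LD3_c26))))))
theorem f176017 : Led Lsl_bt (LP (LK LD1_c2 LD2_c13 LD3_c42)) = (LP (LK LD1_c4 LD2_c33 LD3_c34)) :=
  Lre_b IH (LK LD1_c2 LD2_c13 LD3_c42) (LK LD1_c4 LD2_c33 LD3_c34) Lrfl Lrfl
theorem f175966 : Led Lsl_at (LP (LK LD1_c4 LD2_c33 LD3_c34)) = (LP (LK LD1_c9 LD2_c4 LD3_c40)) :=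
  Lre_a IH (LK LD1_c4 LD2_c33 LD3_c34) (LK LD1_c9 LD2_c4 LD3_c40) Lrfl Lrfl
theorem f296995 : Led Lsl_bt (LP (LK LD1_c2 LD2_c48 LD3_c30)) = (LP (LK LD1_c1 LD2_c20 LD3_c26)) :=
  Lre_b IH (LK LD1_c2 LD2_c48 LD3_c30) (LK LD1_c1 LD2_c20 LD3_c26) Lrfl Lrfl
theorem f296996 : Led Lsl_at (LP (LK LD1_c5 LD2_c45 LD3_c23)) = (LP (LK LD1_c2 LD2_c48 LD3_c30)) :=
  Lre_a IH (LK LD1_c5 LD2_c45 LD3_c23) (LK LD1_c2 LD2_c48 LD3_c30) Lrfl Lrfl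
theorem f296997 : Led Lsl_bt (LP (LK LD1_c9 LD2_c4 LD3_c40)) = (LP (LK LD1_c5 LD2_c45 LD3_c23)) :=
  Lgr Lrot62 (Lpe (f175966 IH) (Lpe (f176017 IH) (Lpr_af (f296991 IH) (Lpe (f296995 IH) (Lpe (f296996 IH) (Lpn (LP (LK LD1_c5 LD2_c45 LD3_c23))))))))
theorem f175993 : Led Lsl_et (LP (LK LD1_c4 LD2_c33 LD3_c32)) = (LP (LK LD1_c9 LD2_c4 LD3_c40)) :=
  Lre_e IH (LK LD1_c4 LD2_c33 LD3_c32) (LK LD1_c9 LD2_c4 LD3_c40) Lrfl Lrfl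
theorem f168278 : Led Lsl_et (LP (LK LD1_c5 LD2_c45 LD3_c23)) = (LP (LK LD1_c2 LD2_c48 LD3_c28)) :=
  Lre_e IH (LK LD1_c5 LD2_c45 LD3_c23) (LK LD1_c2 LD2_c48 LD3_c28) Lrfl Lrfl
theorem f297008 : Led Lsl_bf (LP (LK LD1_c4 LD2_c33 LD3_c32)) = (LP (LK LD1_c2 LD2_c48 LD3_c28)) :=
  Lgr Lrot96 (Lpr_et (f175993 IH) (Lpr_bt (f296997 IH) (Lpr_et (f168278 IH) (Lpn (LP (LK LD1_c2 LD2_c48 LD3_c28))))))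
theorem f175960 : Led Lsl_bt (LP (LK LD1_c2 LD2_c59 LD3_c61)) = (LP (LK LD1_c6 LD2_c7 LD3_c39)) :=
  Lre_b IH (LK LD1_c2 LD2_c59 LD3_c61) (LK LD1_c6 LD2_c7 LD3_c39) Lrfl Lrfl
theorem f175961 : Led Lsl_bt (LP (LK LD1_c4 LD2_c33 LD3_c34)) = (LP (LK LD1_c2 LD2_c13 LD3_c42)) :=
  Lre_b IH (LK LD1_c4 LD2_c33 LD3_c34) (LK LD1_c2 LD2_c13 LD3_c42) Lrfl Lrfl
theorem f175962 : Led Lsl_dt (LP (LK LD1_c6 LD2_c7 LD3_c39)) = (LP (LK LD1_c4 LD2_c33 LD3_c34)) :=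
  Lgr Lrot79 (Lpe (f175960 IH) (Lpr_df (f175958 IH) (Lpe (f175961 IH) (Lpn (LP (LK LD1_c4 LD2_c33 LD3_c34))))))
theorem f175971 : Led Lsl_et (LP (LK LD1_c2 LD2_c59 LD3_c60)) = (LP (LK LD1_c6 LD2_c7 LD3_c39)) :=
  Lre_e IH (LK LD1_c2 LD2_c59 LD3_c60) (LK LD1_c6 LD2_c7 LD3_c39) Lrfl Lrfl
theorem f175972 : Led Lsl_dt (LP (LK LD1_c1 LD2_c25 LD3_c45)) = (LP (LK LD1_c2 LD2_c59 LD3_c60)) :=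
  Lre_d IH (LK LD1_c1 LD2_c25 LD3_c45) (LK LD1_c2 LD2_c59 LD3_c60) Lrfl Lrfl
theorem f56001 : Led Lsl_bt (LP (LK LD1_c1 LD2_c25 LD3_c45)) = (LP (LK LD1_c0 LD2_c39 LD3_c38)) :=
  Lre_b IH (LK LD1_c1 LD2_c25 LD3_c45) (LK LD1_c0 LD2_c39 LD3_c38) Lrfl Lrfl
theorem f40795 : Led Lsl_bt (LP (LK LD1_c0 LD2_c54 LD3_c54)) = (LP (LK LD1_c1 LD2_c56 LD3_c12)) :=
  Lre_b IH (LK LD1_c0 LD2_c54 LD3_c54) (LK LD1_c1 LD2_c56 LD3_c12) Lrfl Lrfl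
theorem f175952 : Led Lsl_ef (LP (LK LD1_c1 LD2_c25 LD3_c45)) = (LP (LK LD1_c1 LD2_c56 LD3_c12)) :=
  Lgr Lrot29 (Lpr_bt (f56001 IH) (Lpr_et (K9.f175950 IH) (Lpr_bt (f40795 IH) (Lpn (LP (LK LD1_c1 LD2_c56 LD3_c12))))))
theorem f174591 : Led Lsl_et (LP (LK LD1_c4 LD2_c33 LD3_c34)) = (LP (LK LD1_c2 LD2_c13 LD3_c41)) :=
  Lre_e IH (LK LD1_c4 LD2_c33 LD3_c34) (LK LD1_c2 LD2_c13 LD3_c41) Lrfl Lrfl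
theorem f175973 : Led Lsl_df (LP (LK LD1_c1 LD2_c56 LD3_c12)) = (LP (LK LD1_c2 LD2_c13 LD3_c41)) :=
  Lgr Lrot70 (Lpe (f175952 IH) (Lpr_dt (f175972 IH) (Lpr_et (f175971 IH) (Lpr_dt (f175962 IH) (Lpr_et (f174591 IH) (Lpn (LP (LK LD1_c2 LD2_c13 LD3_c41))))))))
theorem f175981 : Led Lsl_at (LP (LK LD1_c1 LD2_c56 LD3_c12)) = (LP (LK LD1_c3 LD2_c58 LD3_c55)) :=
  Lre_a IH (LK LD1_c1 LD2_c56 LD3_c12) (LK LD1_c3 LD2_c58 LD3_c55) Lrfl Lrfl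
theorem f174582 : Led Lsl_at (LP (LK LD1_c4 LD2_c33 LD3_c32)) = (LP (LK LD1_c2 LD2_c13 LD3_c41)) :=
  Lre_a IH (LK LD1_c4 LD2_c33 LD3_c32) (LK LD1_c2 LD2_c13 LD3_c41) Lrfl Lrfl
theorem f175982 : Led Lsl_dt (LP (LK LD1_c3 LD2_c58 LD3_c55)) = (LP (LK LD1_c4 LD2_c33 LD3_c32)) :=
  Lgr Lrot44 (Lpe (f175981 IH) (Lpr_df (f175973 IH) (Lpe (f174582 IH) (Lpn (LP (LK LD1_c4 LD2_c33 LD3_c32))))))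
theorem f175991 : Led Lsl_df (LP (LK LD1_c3 LD2_c58 LD3_c55)) = (LP (LK LD1_c4 LD2_c33 LD3_c32)) :=
  Lgr Lrot38 (Lpr_dt (f175982 IH) (Lpn (LP (LK LD1_c4 LD2_c33 LD3_c32))))
theorem f168235 : Led Lsl_et (LP (LK LD1_c2 LD2_c0 LD3_c9)) = (LP (LK LD1_c2 LD2_c48 LD3_c32)) :=
  Lgr Lrot87 (Lpr_ef (f168227 IH) (Lpn (LP (LK LD1_c2 LD2_c48 LD3_c32))))
theorem f168203 : Led Lsl_bt (LP (LK LD1_c4 LD2_c5 LD3_c43)) = (LP (LK LD1_c2 LD2_c0 LD3_c9)) :=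
  Lre_b IH (LK LD1_c4 LD2_c5 LD3_c43) (LK LD1_c2 LD2_c0 LD3_c9) Lrfl Lrfl
theorem f168240 : Led Lsl_bt (LP (LK LD1_c2 LD2_c48 LD3_c32)) = (LP (LK LD1_c5 LD2_c45 LD3_c30)) :=
  Lre_b IH (LK LD1_c2 LD2_c48 LD3_c32) (LK LD1_c5 LD2_c45 LD3_c30) Lrfl Lrfl
theorem f168241 : Led Lsl_ef (LP (LK LD1_c4 LD2_c5 LD3_c43)) = (LP (LK LD1_c5 LD2_c45 LD3_c30)) :=
  Lgr Lrot29 (Lpr_bt (f168203 IH) (Lpr_et (f168235 IH) (Lpr_bt (f168240 IH) (Lpn (LP (LK LD1_c5 LD2_c45 LD3_c30))))))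
theorem f56547 : Led Lsl_dt (LP (LK LD1_c4 LD2_c5 LD3_c43)) = (LP (LK LD1_c2 LD2_c0 LD3_c8)) :=
  Lre_d IH (LK LD1_c4 LD2_c5 LD3_c43) (LK LD1_c2 LD2_c0 LD3_c8) Lrfl Lrfl
theorem f56540 : Led Lsl_bt (LP (LK LD1_c0 LD2_c57 LD3_c3)) = (LP (LK LD1_c2 LD2_c0 LD3_c8)) :=
  Lre_b IH (LK LD1_c0 LD2_c57 LD3_c3) (LK LD1_c2 LD2_c0 LD3_c8) Lrfl Lrfl
theorem f56541 : Led Lsl_bt (LP (LK LD1_c1 LD2_c10 LD3_c25)) = (LP (LK LD1_c0 LD2_c32 LD3_c37)) :=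
  Lre_b IH (LK LD1_c1 LD2_c10 LD3_c25) (LK LD1_c0 LD2_c32 LD3_c37) Lrfl Lrfl
theorem f56542 : Led Lsl_et (LP (LK LD1_c2 LD2_c0 LD3_c8)) = (LP (LK LD1_c1 LD2_c10 LD3_c25)) :=
  Lgr Lrot74 (Lpe (f56540 IH) (Lpr_ef (K9.f56537 IH) (Lpe (f56541 IH) (Lpn (LP (LK LD1_c1 LD2_c10 LD3_c25))))))
theorem f168244 : Led Lsl_dt (LP (LK LD1_c2 LD2_c48 LD3_c30)) = (LP (LK LD1_c5 LD2_c45 LD3_c30)) :=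
  Lre_d IH (LK LD1_c2 LD2_c48 LD3_c30) (LK LD1_c5 LD2_c45 LD3_c30) Lrfl Lrfl
theorem f168245 : Led Lsl_et (LP (LK LD1_c1 LD2_c20 LD3_c25)) = (LP (LK LD1_c2 LD2_c48 LD3_c30)) :=
  Lre_e IH (LK LD1_c1 LD2_c20 LD3_c25) (LK LD1_c2 LD2_c48 LD3_c30) Lrfl Lrfl
theorem f168246 : Led Lsl_dt (LP (LK LD1_c1 LD2_c10 LD3_c25)) = (LP (LK LD1_c1 LD2_c20 LD3_c25)) :=
  Lgr Lrot77 (Lpe (f56542 IH) (Lpe (f56547 IH) (Lpr_ef (f168241 IH) (Lpe (f168244 IH) (Lpe (f168245 IH) (Lpn (LP (LK LD1_c1 LD2_c20 LD3_c25))))))))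
theorem f56552 : Led Lsl_at (LP (LK LD1_c2 LD2_c26 LD3_c20)) = (LP (LK LD1_c1 LD2_c10 LD3_c25)) :=
  Lre_a IH (LK LD1_c2 LD2_c26 LD3_c20) (LK LD1_c1 LD2_c10 LD3_c25) Lrfl Lrfl
theorem f168252 : Led Lsl_at (LP (LK LD1_c1 LD2_c20 LD3_c25)) = (LP (LK LD1_c2 LD2_c48 LD3_c28)) :=
  Lre_a IH (LK LD1_c1 LD2_c20 LD3_c25) (LK LD1_c2 LD2_c48 LD3_c28) Lrfl Lrfl
theorem f168253 : Led Lsl_df (LP (LK LD1_c2 LD2_c26 LD3_c20)) = (LP (LK LD1_c2 LD2_c48 LD3_c28)) :=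
  Lgr Lrot18 (Lpr_at (f56552 IH) (Lpr_dt (f168246 IH) (Lpr_at (f168252 IH) (Lpn (LP (LK LD1_c2 LD2_c48 LD3_c28))))))
theorem f168276 : Led Lsl_dt (LP (LK LD1_c2 LD2_c26 LD3_c20)) = (LP (LK LD1_c2 LD2_c48 LD3_c28)) :=
  Lgr Lrot42 (Lpr_df (f168253 IH) (Lpn (LP (LK LD1_c2 LD2_c48 LD3_c28))))
theorem f297015 : Led Lsl_bt (LP (LK LD1_c3 LD2_c58 LD3_c55)) = (LP (LK LD1_c2 LD2_c26 LD3_c20)) :=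
  Lgr Lrot95 (Lpr_df (f175991 IH) (Lpr_bf (f297008 IH) (Lpe (f168276 IH) (Lpn (LP (LK LD1_c2 LD2_c26 LD3_c20))))))
theorem f297017 : Led Lsl_bf (LP (LK LD1_c3 LD2_c58 LD3_c55)) = (LP (LK LD1_c2 LD2_c26 LD3_c20)) :=
  Lgr Lrot24 (Lpr_bt (f297015 IH) (Lpn (LP (LK LD1_c2 LD2_c26 LD3_c20))))
theorem f176001 : Led Lsl_at (LP (LK LD1_c3 LD2_c58 LD3_c55)) = (LP (LK LD1_c1 LD2_c56 LD3_c12)) :=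
  Lre_a IH (LK LD1_c3 LD2_c58 LD3_c55) (LK LD1_c1 LD2_c56 LD3_c12) Lrfl Lrfl
theorem f169330 : Led Lsl_bt (LP (LK LD1_c1 LD2_c56 LD3_c12)) = (LP (LK LD1_c0 LD2_c54 LD3_c54)) :=
  Lre_b IH (LK LD1_c1 LD2_c56 LD3_c12) (LK LD1_c0 LD2_c54 LD3_c54) Lrfl Lrfl
theorem f56545 : Led Lsl_at (LP (LK LD1_c1 LD2_c10 LD3_c25)) = (LP (LK LD1_c2 LD2_c26 LD3_c20)) :=
  Lre_a IH (LK LD1_c1 LD2_c10 LD3_c25) (LK LD1_c2 LD2_c26 LD3_c20) Lrfl Lrfl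
theorem f56554 : Led Lsl_bt (LP (LK LD1_c0 LD2_c32 LD3_c37)) = (LP (LK LD1_c1 LD2_c10 LD3_c25)) :=
  Lre_b IH (LK LD1_c0 LD2_c32 LD3_c37) (LK LD1_c1 LD2_c10 LD3_c25) Lrfl Lrfl
theorem f297019 : Led Lsl_at (LP (LK LD1_c0 LD2_c54 LD3_c54)) = (LP (LK LD1_c0 LD2_c32 LD3_c37)) :=
  Lgr Lrot67 (Lpe (f169330 IH) (Lpe (f176001 IH) (Lpr_bf (f297017 IH) (Lpe (f56545 IH) (Lpe (f56554 IH) (Lpn (LP (LK LD1_c0 LD2_c32 LD3_c37))))))))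
theorem f245568 : Led Lsl_ft (LP (LK LD1_c0 LD2_c32 LD3_c31)) = (LP (LK LD1_c0 LD2_c54 LD3_c54)) :=
  Lgr Lrot54 (Lpr_df (K9.f172427 IH) (Lpr_ff (K13.f245564 IH) (Lpe (K9.f173377 IH) (Lpn (LP (LK LD1_c0 LD2_c54 LD3_c54))))))
theorem f245580 : Led Lsl_af (LP (LK LD1_c0 LD2_c32 LD3_c31)) = (LP (LK LD1_c0 LD2_c54 LD3_c49)) :=
  Lgr Lrot117 (Lpr_dt (K12.f172547 IH) (Lpr_at (K13.f245573 IH) (Lpe (K9.f174531 IH) (Lpn (LP (LK LD1_c0 LD2_c54 LD3_c49))))))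
theorem f297023 : Led Lsl_ff (LP (LK LD1_c0 LD2_c54 LD3_c49)) = (LP (LK LD1_c0 LD2_c32 LD3_c37)) :=
  Lgr Lrot30 (Lpe (f245580 IH) (Lpr_ft (f245568 IH) (Lpr_at (f297019 IH) (Lpn (LP (LK LD1_c0 LD2_c32 LD3_c37))))))
theorem f297031 : Led Lsl_ft (LP (LK LD1_c0 LD2_c54 LD3_c49)) = (LP (LK LD1_c0 LD2_c32 LD3_c37)) :=
  Lgr Lrot48 (Lpr_ff (f297023 IH) (Lpn (LP (LK LD1_c0 LD2_c32 LD3_c37))))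
theorem f173327 : Led Lsl_bt (LP (LK LD1_c1 LD2_c56 LD3_c9)) = (LP (LK LD1_c0 LD2_c54 LD3_c49)) :=
  Lre_b IH (LK LD1_c1 LD2_c56 LD3_c9) (LK LD1_c0 LD2_c54 LD3_c49) Lrfl Lrfl
theorem f297033 : Led Lsl_ff (LP (LK LD1_c1 LD2_c56 LD3_c9)) = (LP (LK LD1_c1 LD2_c10 LD3_c25)) :=
  Lgr Lrot25 (Lpr_bt (f173327 IH) (Lpr_ft (f297031 IH) (Lpr_bt (f56554 IH) (Lpn (LP (LK LD1_c1 LD2_c10 LD3_c25))))))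
theorem f165161 : Led Lsl_bt (LP (LK LD1_c0 LD2_c54 LD3_c49)) = (LP (LK LD1_c1 LD2_c56 LD3_c9)) :=
  Lre_b IH (LK LD1_c0 LD2_c54 LD3_c49) (LK LD1_c1 LD2_c56 LD3_c9) Lrfl Lrfl
theorem f174592 : Led Lsl_bt (LP (LK LD1_c2 LD2_c13 LD3_c39)) = (LP (LK LD1_c1 LD2_c3 LD3_c50)) :=
  Lre_b IH (LK LD1_c2 LD2_c13 LD3_c39) (LK LD1_c1 LD2_c3 LD3_c50) Lrfl Lrfl
theorem f174593 : Led Lsl_dt (LP (LK LD1_c1 LD2_c56 LD3_c9)) = (LP (LK LD1_c2 LD2_c13 LD3_c39)) :=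
  Lgr Lrot79 (Lpe (f165161 IH) (Lpr_df (K9.f174531 IH) (Lpe (f174592 IH) (Lpn (LP (LK LD1_c2 LD2_c13 LD3_c39))))))
theorem f168220 : Led Lsl_bt (LP (LK LD1_c0 LD2_c37 LD3_c9)) = (LP (LK LD1_c1 LD2_c20 LD3_c25)) :=
  Lre_b IH (LK LD1_c0 LD2_c37 LD3_c9) (LK LD1_c1 LD2_c20 LD3_c25) Lrfl Lrfl
theorem f168221 : Led Lsl_df (LP (LK LD1_c1 LD2_c10 LD3_c25)) = (LP (LK LD1_c1 LD2_c20 LD3_c25)) :=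
  Lgr Lrot12 (Lpr_bt (f56541 IH) (Lpr_dt (K9.f168197 IH) (Lpr_bt (f168220 IH) (Lpn (LP (LK LD1_c1 LD2_c20 LD3_c25))))))
theorem f297037 : Led Lsl_ft (LP (LK LD1_c2 LD2_c13 LD3_c39)) = (LP (LK LD1_c1 LD2_c20 LD3_c25)) :=
  Lgr Lrot54 (Lpe (f174593 IH) (Lpr_ff (f297033 IH) (Lpr_df (f168221 IH) (Lpn (LP (LK LD1_c1 LD2_c20 LD3_c25))))))
theorem f174614 : Led Lsl_bt (LP (LK LD1_c1 LD2_c3 LD3_c50)) = (LP (LK LD1_c2 LD2_c13 LD3_c39)) :=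
  Lre_b IH (LK LD1_c1 LD2_c3 LD3_c50) (LK LD1_c2 LD2_c13 LD3_c39) Lrfl Lrfl
theorem f174615 : Led Lsl_df (LP (LK LD1_c1 LD2_c56 LD3_c9)) = (LP (LK LD1_c2 LD2_c13 LD3_c39)) :=
  Lgr Lrot12 (Lpr_bt (f173327 IH) (Lpr_dt (K9.f174597 IH) (Lpr_bt (f174614 IH) (Lpn (LP (LK LD1_c2 LD2_c13 LD3_c39))))))
theorem f173272 : Led Lsl_bt (LP (LK LD1_c2 LD2_c8 LD3_c42)) = (LP (LK LD1_c1 LD2_c1 LD3_c30)) :=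
  Lre_b IH (LK LD1_c2 LD2_c8 LD3_c42) (LK LD1_c1 LD2_c1 LD3_c30) Lrfl Lrfl
theorem f173273 : Led Lsl_ct (LP (LK LD1_c1 LD2_c56 LD3_c9)) = (LP (LK LD1_c2 LD2_c8 LD3_c42)) :=
  Lgr Lrot83 (Lpe (f165161 IH) (Lpe (K9.f173180 IH) (Lpr_bf (K9.f173217 IH) (Lpe (K13.f173271 IH) (Lpe (f173272 IH) (Lpn (LP (LK LD1_c2 LD2_c8 LD3_c42))))))))
theorem f173337 : Led Lsl_dt (LP (LK LD1_c2 LD2_c8 LD3_c42)) = (LP (LK LD1_c4 LD2_c22 LD3_c32)) :=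
  Lre_d IH (LK LD1_c2 LD2_c8 LD3_c42) (LK LD1_c4 LD2_c22 LD3_c32) Lrfl Lrfl
theorem f173338 : Led Lsl_ct (LP (LK LD1_c4 LD2_c22 LD3_c32)) = (LP (LK LD1_c8 LD2_c42 LD3_c58)) :=
  Lre_c IH (LK LD1_c4 LD2_c22 LD3_c32) (LK LD1_c8 LD2_c42 LD3_c58) Lrfl Lrfl
theorem f173339 : Led Lsl_dt (LP (LK LD1_c8 LD2_c42 LD3_c58)) = (LP (LK LD1_c16 LD2_c19 LD3_c35)) :=
  Lre_d IH (LK LD1_c8 LD2_c42 LD3_c58) (LK LD1_c16 LD2_c19 LD3_c35) Lrfl Lrfl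
theorem f168274 : Led Lsl_ct (LP (LK LD1_c5 LD2_c45 LD3_c22)) = (LP (LK LD1_c2 LD2_c48 LD3_c28)) :=
  Lre_c IH (LK LD1_c5 LD2_c45 LD3_c22) (LK LD1_c2 LD2_c48 LD3_c28) Lrfl Lrfl
theorem f168275 : Led Lsl_dt (LP (LK LD1_c11 LD2_c21 LD3_c12)) = (LP (LK LD1_c5 LD2_c45 LD3_c22)) :=
  Lre_d IH (LK LD1_c11 LD2_c21 LD3_c12) (LK LD1_c5 LD2_c45 LD3_c22) Lrfl Lrfl
theorem f297050 : Led Lsl_ct (LP (LK LD1_c16 LD2_c19 LD3_c35)) = (LP (LK LD1_c11 LD2_c21 LD3_c12)) :=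
  Lgr Lrot53 (Lpe (f173339 IH) (Lpe (f173338 IH) (Lpe (f173337 IH) (Lpe (f173273 IH) (Lpr_df (f174615 IH) (Lpr_ft (f297037 IH) (Lpr_at (f168252 IH) (Lpe (f168274 IH) (Lpe (f168275 IH) (Lpn (LP (LK LD1_c11 LD2_c21 LD3_c12))))))))))))
theorem f168271 : Led Lsl_ct (LP (LK LD1_c2 LD2_c26 LD3_c20)) = (LP (LK LD1_c4 LD2_c56 LD3_c53)) :=
  Lre_c IH (LK LD1_c2 LD2_c26 LD3_c20) (LK LD1_c4 LD2_c56 LD3_c53) Lrfl Lrfl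
theorem f168272 : Led Lsl_dt (LP (LK LD1_c4 LD2_c56 LD3_c53)) = (LP (LK LD1_c9 LD2_c44 LD3_c58)) :=
  Lre_d IH (LK LD1_c4 LD2_c56 LD3_c53) (LK LD1_c9 LD2_c44 LD3_c58) Lrfl Lrfl
theorem f168273 : Led Lsl_ct (LP (LK LD1_c9 LD2_c44 LD3_c58)) = (LP (LK LD1_c17 LD2_c54 LD3_c19)) :=
  Lre_c IH (LK LD1_c9 LD2_c44 LD3_c58) (LK LD1_c17 LD2_c54 LD3_c19) Lrfl Lrfl
theorem f168280 : Led Lsl_at (LP (LK LD1_c9 LD2_c44 LD3_c59)) = (LP (LK LD1_c17 LD2_c54 LD3_c19)) :=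
  Lre_a IH (LK LD1_c9 LD2_c44 LD3_c59) (LK LD1_c17 LD2_c54 LD3_c19) Lrfl Lrfl
theorem f297065 : Led Lsl_ft (LP (LK LD1_c8 LD2_c42 LD3_c58)) = (LP (LK LD1_c9 LD2_c44 LD3_c59)) :=
  Lgr Lrot142 (Lpr_dt (f173339 IH) (Lpr_ct (f297050 IH) (Lpr_dt (f168275 IH) (Lpr_ct (f168274 IH) (Lpe (f168253 IH) (Lpr_ct (f168271 IH) (Lpr_dt (f168272 IH) (Lpr_ct (f168273 IH) (Lpe (f168280 IH) (Lpn (LP (LK LD1_c9 LD2_c44 LD3_c59))))))))))))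
theorem f297082 : Led Lsl_ff (LP (LK LD1_c8 LD2_c42 LD3_c58)) = (LP (LK LD1_c9 LD2_c44 LD3_c59)) :=
  Lgr Lrot3 (Lpr_ft (f297065 IH) (Lpn (LP (LK LD1_c9 LD2_c44 LD3_c59))))
theorem f297102 : Led Lsl_et (LP (LK LD1_c8 LD2_c42 LD3_c58)) = (LP (LK LD1_c16 LD2_c19 LD3_c36)) :=
  Lre_e IH (LK LD1_c8 LD2_c42 LD3_c58) (LK LD1_c16 LD2_c19 LD3_c36) Lrfl Lrfl
theorem f297103 : Led Lsl_ft (LP (LK LD1_c16 LD2_c19 LD3_c36)) = (LP (LK LD1_c26 LD2_c17 LD3_c36)) :=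
  Lre_f IH (LK LD1_c16 LD2_c19 LD3_c36) (LK LD1_c26 LD2_c17 LD3_c36) Lrfl Lrfl
theorem f297104 : Led Lsl_et (LP (LK LD1_c17 LD2_c54 LD3_c23)) = (LP (LK LD1_c9 LD2_c44 LD3_c59)) :=
  Lre_e IH (LK LD1_c17 LD2_c54 LD3_c23) (LK LD1_c9 LD2_c44 LD3_c59) Lrfl Lrfl
theorem f297105 : Led Lsl_ft (LP (LK LD1_c27 LD2_c40 LD3_c0)) = (LP (LK LD1_c17 LD2_c54 LD3_c23)) :=
  Lre_f IH (LK LD1_c27 LD2_c40 LD3_c0) (LK LD1_c17 LD2_c54 LD3_c23) Lrfl Lrfl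
theorem f297106 : Led Lsl_et (LP (LK LD1_c26 LD2_c17 LD3_c36)) = (LP (LK LD1_c27 LD2_c40 LD3_c0)) :=
  Lgr Lrot69 (Lpe (f297103 IH) (Lpe (f297102 IH) (Lpr_ff (f297082 IH) (Lpe (f297104 IH) (Lpe (f297105 IH) (Lpn (LP (LK LD1_c27 LD2_c40 LD3_c0))))))))
theorem f297110 : Led Lsl_ct (LP (LK LD1_c16 LD2_c19 LD3_c39)) = (LP (LK LD1_c26 LD2_c17 LD3_c36)) :=
  Lre_c IH (LK LD1_c16 LD2_c19 LD3_c39) (LK LD1_c26 LD2_c17 LD3_c36) Lrfl Lrfl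
theorem f197322 : Led Lsl_ct (LP (LK LD1_c27 LD2_c40 LD3_c0)) = (LP (LK LD1_c17 LD2_c54 LD3_c26)) :=
  Lre_c IH (LK LD1_c27 LD2_c40 LD3_c0) (LK LD1_c17 LD2_c54 LD3_c26) Lrfl Lrfl
theorem f297111 : Led Lsl_ef (LP (LK LD1_c16 LD2_c19 LD3_c39)) = (LP (LK LD1_c17 LD2_c54 LD3_c26)) :=
  Lgr Lrot28 (Lpr_ct (f297110 IH) (Lpr_et (f297106 IH) (Lpr_ct (f197322 IH) (Lpn (LP (LK LD1_c17 LD2_c54 LD3_c26))))))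
theorem f297117 : Led Lsl_et (LP (LK LD1_c16 LD2_c19 LD3_c39)) = (LP (LK LD1_c17 LD2_c54 LD3_c26)) :=
  Lgr Lrot87 (Lpr_ef (f297111 IH) (Lpn (LP (LK LD1_c17 LD2_c54 LD3_c26))))
theorem f297121 : Led Lsl_bt (LP (LK LD1_c8 LD2_c43 LD3_c4)) = (LP (LK LD1_c16 LD2_c19 LD3_c39)) :=
  Lre_b IH (LK LD1_c8 LD2_c43 LD3_c4) (LK LD1_c16 LD2_c19 LD3_c39) Lrfl Lrfl
theorem f197312 : Led Lsl_bt (LP (LK LD1_c17 LD2_c54 LD3_c26)) = (LP (LK LD1_c9 LD2_c45 LD3_c3)) :=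
  Lre_b IH (LK LD1_c17 LD2_c54 LD3_c26) (LK LD1_c9 LD2_c45 LD3_c3) Lrfl Lrfl
theorem f297122 : Led Lsl_ef (LP (LK LD1_c8 LD2_c43 LD3_c4)) = (LP (LK LD1_c9 LD2_c45 LD3_c3)) :=
  Lgr Lrot29 (Lpr_bt (f297121 IH) (Lpr_et (f297117 IH) (Lpr_bt (f197312 IH) (Lpn (LP (LK LD1_c9 LD2_c45 LD3_c3))))))
theorem f297131 : Led Lsl_ft (LP (LK LD1_c8 LD2_c43 LD3_c4)) = (LP (LK LD1_c4 LD2_c22 LD3_c34)) :=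
  Lre_f IH (LK LD1_c8 LD2_c43 LD3_c4) (LK LD1_c4 LD2_c22 LD3_c34) Lrfl Lrfl
theorem f229294 : Led Lsl_et (LP (LK LD1_c4 LD2_c22 LD3_c34)) = (LP (LK LD1_c2 LD2_c8 LD3_c43)) :=
  Lre_e IH (LK LD1_c4 LD2_c22 LD3_c34) (LK LD1_c2 LD2_c8 LD3_c43) Lrfl Lrfl
theorem f197284 : Led Lsl_ft (LP (LK LD1_c4 LD2_c56 LD3_c56)) = (LP (LK LD1_c9 LD2_c45 LD3_c3)) :=
  Lre_f IH (LK LD1_c4 LD2_c56 LD3_c56) (LK LD1_c9 LD2_c45 LD3_c3) Lrfl Lrfl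
theorem f182339 : Led Lsl_et (LP (LK LD1_c2 LD2_c26 LD3_c18)) = (LP (LK LD1_c4 LD2_c56 LD3_c56)) :=
  Lre_e IH (LK LD1_c2 LD2_c26 LD3_c18) (LK LD1_c4 LD2_c56 LD3_c56) Lrfl Lrfl
theorem f297132 : Led Lsl_ft (LP (LK LD1_c2 LD2_c8 LD3_c43)) = (LP (LK LD1_c2 LD2_c26 LD3_c18)) :=
  Lgr Lrot86 (Lpe (f229294 IH) (Lpe (f297131 IH) (Lpr_ef (f297122 IH) (Lpe (f197284 IH) (Lpe (f182339 IH) (Lpn (LP (LK LD1_c2 LD2_c26 LD3_c18))))))))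
theorem f297138 : Led Lsl_af (LP (LK LD1_c2 LD2_c8 LD3_c51)) = (LP (LK LD1_c2 LD2_c26 LD3_c18)) :=
  Lgr Lrot31 (Lpe (K13.f224994 IH) (Lpe (K12.f229287 IH) (Lpr_ft (f297132 IH) (Lpn (LP (LK LD1_c2 LD2_c26 LD3_c18))))))
theorem f225030 : Led Lsl_et (LP (LK LD1_c2 LD2_c8 LD3_c51)) = (LP (LK LD1_c4 LD2_c22 LD3_c50)) :=
  Lre_e IH (LK LD1_c2 LD2_c8 LD3_c51) (LK LD1_c4 LD2_c22 LD3_c50) Lrfl Lrfl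
theorem f197252 : Led Lsl_et (LP (LK LD1_c4 LD2_c56 LD3_c56)) = (LP (LK LD1_c2 LD2_c26 LD3_c18)) :=
  Lre_e IH (LK LD1_c4 LD2_c56 LD3_c56) (LK LD1_c2 LD2_c26 LD3_c18) Lrfl Lrfl
theorem f297148 : Led Lsl_at (LP (LK LD1_c4 LD2_c22 LD3_c50)) = (LP (LK LD1_c4 LD2_c56 LD3_c56)) :=
  Lgr Lrot80 (Lpe (f225030 IH) (Lpr_af (f297138 IH) (Lpe (f197252 IH) (Lpn (LP (LK LD1_c4 LD2_c56 LD3_c56))))))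
theorem f225040 : Led Lsl_ft (LP (LK LD1_c8 LD2_c43 LD3_c33)) = (LP (LK LD1_c4 LD2_c22 LD3_c50)) :=
  Lre_f IH (LK LD1_c8 LD2_c43 LD3_c33) (LK LD1_c4 LD2_c22 LD3_c50) Lrfl Lrfl
theorem f297156 : Led Lsl_af (LP (LK LD1_c8 LD2_c43 LD3_c33)) = (LP (LK LD1_c9 LD2_c45 LD3_c3)) :=
  Lgr Lrot45 (Lpr_ft (f225040 IH) (Lpr_at (f297148 IH) (Lpr_ft (f197284 IH) (Lpn (LP (LK LD1_c9 LD2_c45 LD3_c3))))))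
theorem f211662 : Led Lsl_et (LP (LK LD1_c8 LD2_c4 LD3_c57)) = (LP (LK LD1_c4 LD2_c2 LD3_c13)) :=
  Lre_e IH (LK LD1_c8 LD2_c4 LD3_c57) (LK LD1_c4 LD2_c2 LD3_c13) Lrfl Lrfl
theorem f225031 : Led Lsl_df (LP (LK LD1_c8 LD2_c4 LD3_c57)) = (LP (LK LD1_c4 LD2_c22 LD3_c50)) :=
  Lgr Lrot70 (Lpr_et (f211662 IH) (Lpr_dt (K13.f33747 IH) (Lpr_et (K13.f225026 IH) (Lpr_dt (K12.f180214 IH) (Lpr_et (f225030 IH) (Lpn (LP (LK LD1_c4 LD2_c22 LD3_c50))))))))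
theorem f225039 : Led Lsl_ft (LP (LK LD1_c8 LD2_c4 LD3_c57)) = (LP (LK LD1_c15 LD2_c13 LD3_c7)) :=
  Lre_f IH (LK LD1_c8 LD2_c4 LD3_c57) (LK LD1_c15 LD2_c13 LD3_c7) Lrfl Lrfl
theorem f225041 : Led Lsl_dt (LP (LK LD1_c15 LD2_c13 LD3_c7)) = (LP (LK LD1_c8 LD2_c43 LD3_c33)) :=
  Lgr Lrot60 (Lpe (f225039 IH) (Lpr_df (f225031 IH) (Lpe (f225040 IH) (Lpn (LP (LK LD1_c8 LD2_c43 LD3_c33))))))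
theorem f225083 : Led Lsl_df (LP (LK LD1_c15 LD2_c13 LD3_c7)) = (LP (LK LD1_c8 LD2_c43 LD3_c33)) :=
  Lgr Lrot38 (Lpr_dt (f225041 IH) (Lpn (LP (LK LD1_c8 LD2_c43 LD3_c33))))
theorem f197272 : Led Lsl_et (LP (LK LD1_c8 LD2_c3 LD3_c37)) = (LP (LK LD1_c4 LD2_c1 LD3_c29)) :=
  Lre_e IH (LK LD1_c8 LD2_c3 LD3_c37) (LK LD1_c4 LD2_c1 LD3_c29) Lrfl Lrfl
theorem f197273 : Led Lsl_df (LP (LK LD1_c8 LD2_c3 LD3_c37)) = (LP (LK LD1_c4 LD2_c56 LD3_c56)) :=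
  Lgr Lrot70 (Lpr_et (f197272 IH) (Lpr_dt (K13.f81533 IH) (Lpr_et (K13.f197255 IH) (Lpr_dt (K12.f182333 IH) (Lpr_et (f182339 IH) (Lpn (LP (LK LD1_c4 LD2_c56 LD3_c56))))))))
theorem f197280 : Led Lsl_ft (LP (LK LD1_c8 LD2_c3 LD3_c37)) = (LP (LK LD1_c15 LD2_c10 LD3_c21)) :=
  Lre_f IH (LK LD1_c8 LD2_c3 LD3_c37) (LK LD1_c15 LD2_c10 LD3_c21) Lrfl Lrfl
theorem f197281 : Led Lsl_ft (LP (LK LD1_c9 LD2_c45 LD3_c3)) = (LP (LK LD1_c4 LD2_c56 LD3_c56)) :=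
  Lre_f IH (LK LD1_c9 LD2_c45 LD3_c3) (LK LD1_c4 LD2_c56 LD3_c56) Lrfl Lrfl
theorem f197282 : Led Lsl_dt (LP (LK LD1_c15 LD2_c10 LD3_c21)) = (LP (LK LD1_c9 LD2_c45 LD3_c3)) :=
  Lgr Lrot60 (Lpe (f197280 IH) (Lpr_df (f197273 IH) (Lpe (f197281 IH) (Lpn (LP (LK LD1_c9 LD2_c45 LD3_c3))))))
theorem f297164 : Led Lsl_at (LP (LK LD1_c15 LD2_c13 LD3_c7)) = (LP (LK LD1_c15 LD2_c10 LD3_c21)) :=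
  Lgr Lrot51 (Lpr_df (f225083 IH) (Lpr_af (f297156 IH) (Lpe (f197282 IH) (Lpn (LP (LK LD1_c15 LD2_c10 LD3_c21))))))
theorem f239974 : Led Lsl_et (LP (LK LD1_c4 LD2_c1 LD3_c31)) = (LP (LK LD1_c8 LD2_c3 LD3_c42)) :=
  Lre_e IH (LK LD1_c4 LD2_c1 LD3_c31) (LK LD1_c8 LD2_c3 LD3_c42) Lrfl Lrfl
theorem f240018 : Led Lsl_ft (LP (LK LD1_c8 LD2_c3 LD3_c42)) = (LP (LK LD1_c15 LD2_c10 LD3_c31)) :=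
  Lre_f IH (LK LD1_c8 LD2_c3 LD3_c42) (LK LD1_c15 LD2_c10 LD3_c31) Lrfl Lrfl
theorem f225085 : Led Lsl_ft (LP (LK LD1_c15 LD2_c13 LD3_c7)) = (LP (LK LD1_c8 LD2_c4 LD3_c57)) :=
  Lre_f IH (LK LD1_c15 LD2_c13 LD3_c7) (LK LD1_c8 LD2_c4 LD3_c57) Lrfl Lrfl
theorem f287355 : Led Lsl_et (LP (LK LD1_c15 LD2_c10 LD3_c31)) = (LP (LK LD1_c15 LD2_c13 LD3_c7)) :=
  Lgr Lrot69 (Lpe (f240018 IH) (Lpe (f239974 IH) (Lpr_ff (K17.f287349 IH) (Lpe (f211662 IH) (Lpe (f225085 IH) (Lpn (LP (LK LD1_c15 LD2_c13 LD3_c7))))))))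
theorem f81534 : Led Lsl_et (LP (LK LD1_c4 LD2_c1 LD3_c29)) = (LP (LK LD1_c8 LD2_c3 LD3_c37)) :=
  Lre_e IH (LK LD1_c4 LD2_c1 LD3_c29) (LK LD1_c8 LD2_c3 LD3_c37) Lrfl Lrfl
theorem f193878 : Led Lsl_et (LP (LK LD1_c8 LD2_c4 LD3_c58)) = (LP (LK LD1_c4 LD2_c2 LD3_c14)) :=
  Lre_e IH (LK LD1_c8 LD2_c4 LD3_c58) (LK LD1_c4 LD2_c2 LD3_c14) Lrfl Lrfl
theorem f193858 : Led Lsl_ft (LP (LK LD1_c15 LD2_c13 LD3_c11)) = (LP (LK LD1_c8 LD2_c4 LD3_c58)) :=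
  Lre_f IH (LK LD1_c15 LD2_c13 LD3_c11) (LK LD1_c8 LD2_c4 LD3_c58) Lrfl Lrfl
theorem f287336 : Led Lsl_et (LP (LK LD1_c15 LD2_c10 LD3_c21)) = (LP (LK LD1_c15 LD2_c13 LD3_c11)) :=
  Lgr Lrot69 (Lpe (f197280 IH) (Lpe (f81534 IH) (Lpr_ff (K17.f287330 IH) (Lpe (f193878 IH) (Lpe (f193858 IH) (Lpn (LP (LK LD1_c15 LD2_c13 LD3_c11))))))))
theorem f297173 : Led Lsl_af (LP (LK LD1_c15 LD2_c10 LD3_c31)) = (LP (LK LD1_c15 LD2_c13 LD3_c11)) :=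
  Lgr Lrot50 (Lpr_et (f287355 IH) (Lpr_at (f297164 IH) (Lpr_et (f287336 IH) (Lpn (LP (LK LD1_c15 LD2_c13 LD3_c11))))))
theorem f240014 : Led Lsl_dt (LP (LK LD1_c15 LD2_c10 LD3_c31)) = (LP (LK LD1_c24 LD2_c59 LD3_c51)) :=
  Lre_d IH (LK LD1_c15 LD2_c10 LD3_c31) (LK LD1_c24 LD2_c59 LD3_c51) Lrfl Lrfl
theorem f193865 : Led Lsl_dt (LP (LK LD1_c25 LD2_c2 LD3_c10)) = (LP (LK LD1_c15 LD2_c13 LD3_c11)) :=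
  Lre_d IH (LK LD1_c25 LD2_c2 LD3_c10) (LK LD1_c15 LD2_c13 LD3_c11) Lrfl Lrfl
theorem f297183 : Led Lsl_at (LP (LK LD1_c24 LD2_c59 LD3_c51)) = (LP (LK LD1_c25 LD2_c2 LD3_c10)) :=
  Lgr Lrot51 (Lpe (f240014 IH) (Lpr_af (f297173 IH) (Lpe (f193865 IH) (Lpn (LP (LK LD1_c25 LD2_c2 LD3_c10))))))
theorem f240001 : Led Lsl_ft (LP (LK LD1_c15 LD2_c10 LD3_c30)) = (LP (LK LD1_c24 LD2_c59 LD3_c51)) :=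
  Lre_f IH (LK LD1_c15 LD2_c10 LD3_c30) (LK LD1_c24 LD2_c59 LD3_c51) Lrfl Lrfl
theorem f193888 : Led Lsl_ft (LP (LK LD1_c25 LD2_c2 LD3_c10)) = (LP (LK LD1_c15 LD2_c13 LD3_c10)) :=
  Lre_f IH (LK LD1_c25 LD2_c2 LD3_c10) (LK LD1_c15 LD2_c13 LD3_c10) Lrfl Lrfl
theorem f297189 : Led Lsl_af (LP (LK LD1_c15 LD2_c10 LD3_c30)) = (LP (LK LD1_c15 LD2_c13 LD3_c10)) :=
  Lgr Lrot45 (Lpr_ft (f240001 IH) (Lpr_at (f297183 IH) (Lpr_ft (f193888 IH) (Lpn (LP (LK LD1_c15 LD2_c13 LD3_c10))))))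
theorem f211634 : Led Lsl_et (LP (LK LD1_c15 LD2_c10 LD3_c30)) = (LP (LK LD1_c8 LD2_c3 LD3_c43)) :=
  Lre_e IH (LK LD1_c15 LD2_c10 LD3_c30) (LK LD1_c8 LD2_c3 LD3_c43) Lrfl Lrfl
theorem f193887 : Led Lsl_et (LP (LK LD1_c8 LD2_c4 LD3_c59)) = (LP (LK LD1_c15 LD2_c13 LD3_c10)) :=
  Lre_e IH (LK LD1_c8 LD2_c4 LD3_c59) (LK LD1_c15 LD2_c13 LD3_c10) Lrfl Lrfl
theorem f297198 : Led Lsl_at (LP (LK LD1_c8 LD2_c3 LD3_c43)) = (LP (LK LD1_c8 LD2_c4 LD3_c59)) :=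
  Lgr Lrot80 (Lpe (f211634 IH) (Lpr_af (f297189 IH) (Lpe (f193887 IH) (Lpn (LP (LK LD1_c8 LD2_c4 LD3_c59))))))
theorem f272387 : Led Lsl_gt (LP (LK LD1_c5 LD2_c46 LD3_c44)) = (LP (LK LD1_c8 LD2_c43 LD3_c49)) :=
  Lgr Lrot5 (Lpe (K16.f272377 IH) (Lpr_at (K16.f272381 IH) (Lpr_gf (K13.f240781 IH) (Lpn (LP (LK LD1_c8 LD2_c43 LD3_c49))))))
theorem f35474 : Led Lsl_gt (LP (LK LD1_c2 LD2_c9 LD3_c56)) = (LP (LK LD1_c1 LD2_c2 LD3_c2)) :=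
  Lre_g IH (LK LD1_c2 LD2_c9 LD3_c56) (LK LD1_c1 LD2_c2 LD3_c2) Lrfl Lrfl
theorem f272393 : Led Lsl_ef (LP (LK LD1_c2 LD2_c9 LD3_c56)) = (LP (LK LD1_c4 LD2_c22 LD3_c59)) :=
  Lgr Lrot114 (Lpr_gt (f35474 IH) (Lpe (K1.f35790 IH) (Lpr_dt (K10.f35494 IH) (Lpr_gt (K2.f80340 IH) (Lpe (K2.f59176 IH) (Lpr_et (K13.f70181 IH) (Lpe (K13.f197821 IH) (Lpr_dt (K13.f175845 IH) (Lpr_gt (f272387 IH) (Lpe (K13.f181726 IH) (Lpn (LP (LK LD1_c4 LD2_c22 LD3_c59)))))))))))))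
theorem f272404 : Led Lsl_gf (LP (LK LD1_c2 LD2_c9 LD3_c56)) = (LP (LK LD1_c2 LD2_c26 LD3_c55)) :=
  Lgr Lrot141 (Lpr_ef (f272393 IH) (Lpr_dt (K13.f181726 IH) (Lpe (K13.f240781 IH) (Lpe (K13.f60640 IH) (Lpr_et (K13.f240772 IH) (Lpe (K13.f240657 IH) (Lpr_dt (K13.f240649 IH) (Lpe (K13.f31791 IH) (Lpe (K13.f31815 IH) (Lpr_et (K1.f37496 IH) (Lpn (LP (LK LD1_c2 LD2_c26 LD3_c55)))))))))))))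
theorem f272398 : Led Lsl_dt (LP (LK LD1_c2 LD2_c9 LD3_c56)) = (LP (LK LD1_c4 LD2_c24 LD3_c60)) :=
  Lre_d IH (LK LD1_c2 LD2_c9 LD3_c56) (LK LD1_c4 LD2_c24 LD3_c60) Lrfl Lrfl
theorem f272408 : Led Lsl_ct (LP (LK LD1_c4 LD2_c24 LD3_c60)) = (LP (LK LD1_c8 LD2_c47 LD3_c29)) :=
  Lre_c IH (LK LD1_c4 LD2_c24 LD3_c60) (LK LD1_c8 LD2_c47 LD3_c29) Lrfl Lrfl
theorem f272409 : Led Lsl_df (LP (LK LD1_c8 LD2_c47 LD3_c29)) = (LP (LK LD1_c8 LD2_c47 LD3_c32)) :=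
  Lgr Lrot84 (Lpe (f272408 IH) (Lpe (f272398 IH) (Lpr_gf (f272404 IH) (Lpe (K1.f37517 IH) (Lpr_gf (K12.f37587 IH) (Lpe (K12.f37589 IH) (Lpe (K12.f227486 IH) (Lpr_dt (K11.f38415 IH) (Lpr_gt (K12.f227513 IH) (Lpn (LP (LK LD1_c8 LD2_c47 LD3_c32))))))))))))
theorem f272420 : Led Lsl_dt (LP (LK LD1_c8 LD2_c47 LD3_c29)) = (LP (LK LD1_c8 LD2_c47 LD3_c32)) :=
  Lgr Lrot42 (Lpr_df (f272409 IH) (Lpn (LP (LK LD1_c8 LD2_c47 LD3_c32))))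
theorem f24433 : Led Lsl_dt (LP (LK LD1_c2 LD2_c52 LD3_c60)) = (LP (LK LD1_c1 LD2_c22 LD3_c34)) :=
  Lre_d IH (LK LD1_c2 LD2_c52 LD3_c60) (LK LD1_c1 LD2_c22 LD3_c34) Lrfl Lrfl
theorem f24434 : Led Lsl_gt (LP (LK LD1_c5 LD2_c53 LD3_c16)) = (LP (LK LD1_c2 LD2_c52 LD3_c60)) :=
  Lre_g IH (LK LD1_c5 LD2_c53 LD3_c16) (LK LD1_c2 LD2_c52 LD3_c60) Lrfl Lrfl
theorem f198274 : Led Lsl_ct (LP (LK LD1_c11 LD2_c32 LD3_c37)) = (LP (LK LD1_c5 LD2_c53 LD3_c16)) :=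
  Lre_c IH (LK LD1_c11 LD2_c32 LD3_c37) (LK LD1_c5 LD2_c53 LD3_c16) Lrfl Lrfl
theorem f272429 : Led Lsl_gf (LP (LK LD1_c8 LD2_c47 LD3_c29)) = (LP (LK LD1_c11 LD2_c32 LD3_c37)) :=
  Lgr Lrot144 (Lpr_dt (f272420 IH) (Lpe (K12.f227486 IH) (Lpr_dt (K11.f38415 IH) (Lpe (K12.f27263 IH) (Lpe (K10.f27262 IH) (Lpr_gf (K10.f198264 IH) (Lpe (f24433 IH) (Lpe (f24434 IH) (Lpe (f198274 IH) (Lpn (LP (LK LD1_c11 LD2_c32 LD3_c37))))))))))))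
theorem f272411 : Led Lsl_ct (LP (LK LD1_c8 LD2_c47 LD3_c29)) = (LP (LK LD1_c4 LD2_c24 LD3_c60)) :=
  Lre_c IH (LK LD1_c8 LD2_c47 LD3_c29) (LK LD1_c4 LD2_c24 LD3_c60) Lrfl Lrfl
theorem f272415 : Led Lsl_dt (LP (LK LD1_c4 LD2_c24 LD3_c60)) = (LP (LK LD1_c2 LD2_c9 LD3_c56)) :=
  Lre_d IH (LK LD1_c4 LD2_c24 LD3_c60) (LK LD1_c2 LD2_c9 LD3_c56) Lrfl Lrfl
theorem f198275 : Led Lsl_ct (LP (LK LD1_c5 LD2_c53 LD3_c16)) = (LP (LK LD1_c11 LD2_c32 LD3_c37)) :=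
  Lre_c IH (LK LD1_c5 LD2_c53 LD3_c16) (LK LD1_c11 LD2_c32 LD3_c37) Lrfl Lrfl
theorem f56060 : Led Lsl_ef (LP (LK LD1_c0 LD2_c59 LD3_c4)) = (LP (LK LD1_c0 LD2_c29 LD3_c50)) :=
  Lgr Lrot28 (Lpr_ct (K1.f27850 IH) (Lpr_et (K1.f56056 IH) (Lpr_ct (K1.f13645 IH) (Lpn (LP (LK LD1_c0 LD2_c29 LD3_c50))))))
theorem f38269 : Led Lsl_et (LP (LK LD1_c0 LD2_c39 LD3_c53)) = (LP (LK LD1_c1 LD2_c26 LD3_c19)) :=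
  Lre_e IH (LK LD1_c0 LD2_c39 LD3_c53) (LK LD1_c1 LD2_c26 LD3_c19) Lrfl Lrfl
theorem f198083 : Led Lsl_dt (LP (LK LD1_c2 LD2_c26 LD3_c56)) = (LP (LK LD1_c4 LD2_c58 LD3_c11)) :=
  Lre_d IH (LK LD1_c2 LD2_c26 LD3_c56) (LK LD1_c4 LD2_c58 LD3_c11) Lrfl Lrfl
theorem f242138 : Led Lsl_et (LP (LK LD1_c4 LD2_c2 LD3_c11)) = (LP (LK LD1_c1 LD2_c58 LD3_c4)) :=
  Lre_e IH (LK LD1_c4 LD2_c2 LD3_c11) (LK LD1_c1 LD2_c58 LD3_c4) Lrfl Lrfl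
theorem f227782 : Led Lsl_df (LP (LK LD1_c5 LD2_c53 LD3_c16)) = (LP (LK LD1_c4 LD2_c2 LD3_c11)) :=
  Lgr Lrot153 (Lpr_gt (f24434 IH) (Lpr_dt (f24433 IH) (Lpe (K10.f24559 IH) (Lpe (K10.f24550 IH) (Lpe (K11.f198270 IH) (Lpe (K10.f28533 IH) (Lpr_gf (K12.f227675 IH) (Lpe (K12.f210314 IH) (Lpr_gt (K12.f227780 IH) (Lpn (LP (LK LD1_c4 LD2_c2 LD3_c11))))))))))))
theorem f242149 : Led Lsl_gt (LP (LK LD1_c4 LD2_c58 LD3_c11)) = (LP (LK LD1_c5 LD2_c53 LD3_c16)) :=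
  Lgr Lrot139 (Lpe (f198083 IH) (Lpr_gf (K10.f198296 IH) (Lpe (f38269 IH) (Lpr_dt (K1.f27221 IH) (Lpe (K1.f38266 IH) (Lpe (K1.f13646 IH) (Lpe (f56060 IH) (Lpr_gf (K13.f242135 IH) (Lpe (f242138 IH) (Lpe (f227782 IH) (Lpn (LP (LK LD1_c5 LD2_c53 LD3_c16)))))))))))))
theorem f272432 : Led Lsl_cf (LP (LK LD1_c2 LD2_c9 LD3_c56)) = (LP (LK LD1_c1 LD2_c26 LD3_c20)) :=
  Lgr Lrot99 (Lpe (f272415 IH) (Lpe (f272411 IH) (Lpr_gf (f272429 IH) (Lpe (f198275 IH) (Lpe (f242149 IH) (Lpe (f198083 IH) (Lpr_gt (K10.f198278 IH) (Lpr_ct (K1.f38405 IH) (Lpr_gt (K11.f35651 IH) (Lpn (LP (LK LD1_c1 LD2_c26 LD3_c20))))))))))))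
theorem f272437 : Led Lsl_gf (LP (LK LD1_c4 LD2_c24 LD3_c60)) = (LP (LK LD1_c8 LD2_c4 LD3_c59)) :=
  Lgr Lrot143 (Lpr_dt (f272415 IH) (Lpr_cf (f272432 IH) (Lpe (K12.f27268 IH) (Lpe (K12.f34714 IH) (Lpe (K13.f34058 IH) (Lpe (K12.f211045 IH) (Lpe (K11.f211031 IH) (Lpr_gt (K12.f211669 IH) (Lpr_dt (K10.f33732 IH) (Lpn (LP (LK LD1_c8 LD2_c4 LD3_c59))))))))))))
theorem f37556 : Led Lsl_gt (LP (LK LD1_c8 LD2_c47 LD3_c38)) = (LP (LK LD1_c4 LD2_c25 LD3_c1)) :=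
  Lre_g IH (LK LD1_c8 LD2_c47 LD3_c38) (LK LD1_c4 LD2_c25 LD3_c1) Lrfl Lrfl
theorem f81213 : Led Lsl_ct (LP (LK LD1_c15 LD2_c13 LD3_c12)) = (LP (LK LD1_c8 LD2_c4 LD3_c59)) :=
  Lre_c IH (LK LD1_c15 LD2_c13 LD3_c12) (LK LD1_c8 LD2_c4 LD3_c59) Lrfl Lrfl
theorem f36463 : Led Lsl_dt (LP (LK LD1_c4 LD2_c25 LD3_c4)) = (LP (LK LD1_c2 LD2_c9 LD3_c59)) :=
  Lre_d IH (LK LD1_c4 LD2_c25 LD3_c4) (LK LD1_c2 LD2_c9 LD3_c59) Lrfl Lrfl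
theorem f227563 : Led Lsl_gf (LP (LK LD1_c4 LD2_c25 LD3_c4)) = (LP (LK LD1_c8 LD2_c1 LD3_c2)) :=
  Lgr Lrot143 (Lpr_dt (f36463 IH) (Lpe (K12.f35473 IH) (Lpr_df (K11.f193390 IH) (Lpe (K12.f227309 IH) (Lpr_df (K12.f28540 IH) (Lpr_gf (K10.f56072 IH) (Lpe (K12.f56074 IH) (Lpr_gt (K12.f227561 IH) (Lpr_dt (K13.f210753 IH) (Lpn (LP (LK LD1_c8 LD2_c1 LD3_c2))))))))))))
theorem f227396 : Led Lsl_ct (LP (LK LD1_c4 LD2_c25 LD3_c4)) = (LP (LK LD1_c8 LD2_c47 LD3_c45)) :=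
  Lre_c IH (LK LD1_c4 LD2_c25 LD3_c4) (LK LD1_c8 LD2_c47 LD3_c45) Lrfl Lrfl
theorem f24557 : Led Lsl_ct (LP (LK LD1_c2 LD2_c45 LD3_c14)) = (LP (LK LD1_c1 LD2_c18 LD3_c55)) :=
  Lre_c IH (LK LD1_c2 LD2_c45 LD3_c14) (LK LD1_c1 LD2_c18 LD3_c55) Lrfl Lrfl
theorem f227576 : Led Lsl_gt (LP (LK LD1_c8 LD2_c47 LD3_c45)) = (LP (LK LD1_c15 LD2_c13 LD3_c12)) :=
  Lgr Lrot150 (Lpe (f227396 IH) (Lpr_gf (f227563 IH) (Lpe (K13.f210753 IH) (Lpe (K12.f210729 IH) (Lpr_ct (f24557 IH) (Lpr_gt (K12.f198565 IH) (Lpe (K10.f193395 IH) (Lpe (K10.f81210 IH) (Lpe (f81213 IH) (Lpn (LP (LK LD1_c15 LD2_c13 LD3_c12))))))))))))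
theorem f272510 : Led Lsl_dt (LP (LK LD1_c8 LD2_c47 LD3_c38)) = (LP (LK LD1_c8 LD2_c47 LD3_c45)) :=
  Lgr Lrot6 (Lpr_gt (f37556 IH) (Lpr_ct (K1.f35458 IH) (Lpr_gt (K12.f35897 IH) (Lpr_ct (K12.f37590 IH) (Lpe (f272420 IH) (Lpe (f272408 IH) (Lpr_gf (f272437 IH) (Lpe (f81213 IH) (Lpe (f227576 IH) (Lpn (LP (LK LD1_c8 LD2_c47 LD3_c45))))))))))))
theorem f37546 : Led Lsl_ft (LP (LK LD1_c2 LD2_c26 LD3_c54)) = (LP (LK LD1_c4 LD2_c58 LD3_c10)) :=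
  Lre_f IH (LK LD1_c2 LD2_c26 LD3_c54) (LK LD1_c4 LD2_c58 LD3_c10) Lrfl Lrfl
theorem f37548 : Led Lsl_ff (LP (LK LD1_c4 LD2_c58 LD3_c9)) = (LP (LK LD1_c8 LD2_c47 LD3_c40)) :=
  Lgr Lrot23 (Lpr_ct (K1.f37547 IH) (Lpr_ft (f37546 IH) (Lpr_ct (K1.f37540 IH) (Lpn (LP (LK LD1_c8 LD2_c47 LD3_c40))))))
theorem f37673 : Led Lsl_gt (LP (LK LD1_c8 LD2_c47 LD3_c40)) = (LP (LK LD1_c8 LD2_c47 LD3_c38)) :=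
  Lgr Lrot5 (Lpe (f37548 IH) (Lpr_at (K1.f37657 IH) (Lpe (f37556 IH) (Lpn (LP (LK LD1_c8 LD2_c47 LD3_c38))))))
theorem f36460 : Led Lsl_dt (LP (LK LD1_c2 LD2_c9 LD3_c59)) = (LP (LK LD1_c4 LD2_c25 LD3_c4)) :=
  Lre_d IH (LK LD1_c2 LD2_c9 LD3_c59) (LK LD1_c4 LD2_c25 LD3_c4) Lrfl Lrfl
theorem f272529 : Led Lsl_ct (LP (LK LD1_c8 LD2_c47 LD3_c38)) = (LP (LK LD1_c4 LD2_c25 LD3_c35)) :=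
  Lgr Lrot8 (Lpr_gt (f37556 IH) (Lpr_dt (K1.f35463 IH) (Lpr_gt (f37673 IH) (Lpr_dt (f272510 IH) (Lpe (f227396 IH) (Lpe (f36460 IH) (Lpr_gf (K12.f227337 IH) (Lpe (K1.f38056 IH) (Lpe (K12.f38035 IH) (Lpn (LP (LK LD1_c4 LD2_c25 LD3_c35))))))))))))
theorem f227702 : Led Lsl_gt (LP (LK LD1_c1 LD2_c1 LD3_c31)) = (LP (LK LD1_c1 LD2_c28 LD3_c50)) :=
  Lgr Lrot137 (Lpe (K17.f35482 IH) (Lpr_dt (K10.f35481 IH) (Lpe (K9.f27910 IH) (Lpe (K1.f28952 IH) (Lpr_et (K11.f34767 IH) (Lpe (K0.f16637 IH) (Lpe (K1.f35453 IH) (Lpr_dt (K1.f35454 IH) (Lpe (K12.f35469 IH) (Lpr_df (K12.f227699 IH) (Lpn (LP (LK LD1_c1 LD2_c28 LD3_c50)))))))))))))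
theorem f173317 : Led Lsl_ct (LP (LK LD1_c2 LD2_c8 LD3_c44)) = (LP (LK LD1_c1 LD2_c1 LD3_c31)) :=
  Lre_c IH (LK LD1_c2 LD2_c8 LD3_c44) (LK LD1_c1 LD2_c1 LD3_c31) Lrfl Lrfl
theorem f173310 : Led Lsl_gt (LP (LK LD1_c4 LD2_c22 LD3_c36)) = (LP (LK LD1_c2 LD2_c8 LD3_c44)) :=
  Lre_g IH (LK LD1_c4 LD2_c22 LD3_c36) (LK LD1_c2 LD2_c8 LD3_c44) Lrfl Lrfl
theorem f272542 : Led Lsl_df (LP (LK LD1_c4 LD2_c24 LD3_c61)) = (LP (LK LD1_c4 LD2_c22 LD3_c36)) :=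
  Lgr Lrot155 (Lpe (K12.f37587 IH) (Lpr_ct (K1.f37540 IH) (Lpr_gt (f37673 IH) (Lpr_ct (f272529 IH) (Lpr_dt (K12.f38048 IH) (Lpr_cf (K12.f210317 IH) (Lpe (f227702 IH) (Lpe (f173317 IH) (Lpe (f173310 IH) (Lpn (LP (LK LD1_c4 LD2_c22 LD3_c36))))))))))))
theorem f175486 : Led Lsl_gt (LP (LK LD1_c2 LD2_c26 LD3_c22)) = (LP (LK LD1_c1 LD2_c10 LD3_c26)) :=
  Lre_g IH (LK LD1_c2 LD2_c26 LD3_c22) (LK LD1_c1 LD2_c10 LD3_c26) Lrfl Lrfl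
theorem f193966 : Led Lsl_ct (LP (LK LD1_c2 LD2_c48 LD3_c61)) = (LP (LK LD1_c2 LD2_c17 LD3_c42)) :=
  Lgr Lrot59 (Lpr_cf (K10.f193785 IH) (Lpn (LP (LK LD1_c2 LD2_c17 LD3_c42))))
theorem f197459 : Led Lsl_cf (LP (LK LD1_c3 LD2_c57 LD3_c25)) = (LP (LK LD1_c1 LD2_c56 LD3_c45)) :=
  Lgr Lrot14 (Lpe (K13.f59273 IH) (Lpe (K11.f60768 IH) (Lpe (K1.f56457 IH) (Lpr_gf (K10.f60772 IH) (Lpr_ct (f193966 IH) (Lpr_gt (K10.f193762 IH) (Lpe (K2.f37237 IH) (Lpe (K13.f70018 IH) (Lpr_dt (K16.f197455 IH) (Lpn (LP (LK LD1_c1 LD2_c56 LD3_c45))))))))))))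
theorem f34720 : Led Lsl_et (LP (LK LD1_c1 LD2_c26 LD3_c20)) = (LP (LK LD1_c3 LD2_c1 LD3_c1)) :=
  Lre_e IH (LK LD1_c1 LD2_c26 LD3_c20) (LK LD1_c3 LD2_c1 LD3_c1) Lrfl Lrfl
theorem f211226 : Led Lsl_gf (LP (LK LD1_c3 LD2_c1 LD3_c1)) = (LP (LK LD1_c1 LD2_c56 LD3_c45)) :=
  Lgr Lrot141 (Lpe (f34720 IH) (Lpr_dt (K11.f34719 IH) (Lpr_gt (K11.f211206 IH) (Lpe (K11.f182391 IH) (Lpr_et (K11.f182363 IH) (Lpr_gt (K11.f172558 IH) (Lpr_dt (K11.f196958 IH) (Lpr_gt (K12.f200397 IH) (Lpe (K12.f3047 IH) (Lpr_et (K16.f197437 IH) (Lpn (LP (LK LD1_c1 LD2_c56 LD3_c45)))))))))))))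
theorem f225573 : Led Lsl_df (LP (LK LD1_c2 LD2_c26 LD3_c22)) = (LP (LK LD1_c3 LD2_c1 LD3_c1)) :=
  Lgr Lrot153 (Lpr_gt (f175486 IH) (Lpr_dt (K10.f197805 IH) (Lpe (K10.f37242 IH) (Lpe (K10.f197813 IH) (Lpr_gf (K13.f225569 IH) (Lpe (K13.f177019 IH) (Lpr_gf (K13.f211212 IH) (Lpr_cf (f197459 IH) (Lpe (f211226 IH) (Lpn (LP (LK LD1_c3 LD2_c1 LD3_c1))))))))))))
theorem f27269 : Led Lsl_et (LP (LK LD1_c3 LD2_c1 LD3_c1)) = (LP (LK LD1_c1 LD2_c26 LD3_c20)) :=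
  Lre_e IH (LK LD1_c3 LD2_c1 LD3_c1) (LK LD1_c1 LD2_c26 LD3_c20) Lrfl Lrfl
theorem f225583 : Led Lsl_gf (LP (LK LD1_c2 LD2_c26 LD3_c22)) = (LP (LK LD1_c3 LD2_c3 LD3_c54)) :=
  Lgr Lrot134 (Lpr_df (f225573 IH) (Lpr_et (f27269 IH) (Lpr_gt (K11.f27267 IH) (Lpe (K13.f27264 IH) (Lpr_dt (K1.f27214 IH) (Lpr_gt (K0.f20612 IH) (Lpr_df (K1.f37164 IH) (Lpr_et (K1.f37166 IH) (Lpr_gt (K10.f37179 IH) (Lpr_dt (K10.f37180 IH) (Lpn (LP (LK LD1_c3 LD2_c3 LD3_c54)))))))))))))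
theorem f225581 : Led Lsl_dt (LP (LK LD1_c2 LD2_c26 LD3_c22)) = (LP (LK LD1_c3 LD2_c1 LD3_c1)) :=
  Lgr Lrot42 (Lpr_df (f225573 IH) (Lpn (LP (LK LD1_c3 LD2_c1 LD3_c1))))
theorem f193710 : Led Lsl_dt (LP (LK LD1_c8 LD2_c43 LD3_c49)) = (LP (LK LD1_c4 LD2_c22 LD3_c59)) :=
  Lre_d IH (LK LD1_c8 LD2_c43 LD3_c49) (LK LD1_c4 LD2_c22 LD3_c59) Lrfl Lrfl
theorem f272389 : Led Lsl_ct (LP (LK LD1_c3 LD2_c1 LD3_c1)) = (LP (LK LD1_c4 LD2_c22 LD3_c59)) :=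
  Lgr Lrot7 (Lpe (f225581 IH) (Lpr_gf (f225583 IH) (Lpe (K10.f37180 IH) (Lpe (K10.f37179 IH) (Lpe (K2.f37171 IH) (Lpe (K13.f197821 IH) (Lpr_dt (K13.f175845 IH) (Lpr_gt (f272387 IH) (Lpr_dt (f193710 IH) (Lpn (LP (LK LD1_c4 LD2_c22 LD3_c59))))))))))))
theorem f272396 : Led Lsl_ct (LP (LK LD1_c2 LD2_c9 LD3_c56)) = (LP (LK LD1_c1 LD2_c26 LD3_c20)) :=
  Lgr Lrot15 (Lpr_ef (f272393 IH) (Lpe (f272389 IH) (Lpe (f34720 IH) (Lpn (LP (LK LD1_c1 LD2_c26 LD3_c20))))))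
theorem f37574 : Led Lsl_ct (LP (LK LD1_c4 LD2_c25 LD3_c0)) = (LP (LK LD1_c8 LD2_c47 LD3_c35)) :=
  Lre_c IH (LK LD1_c4 LD2_c25 LD3_c0) (LK LD1_c8 LD2_c47 LD3_c35) Lrfl Lrfl
theorem f272546 : Led Lsl_ct (LP (LK LD1_c2 LD2_c52 LD3_c17)) = (LP (LK LD1_c4 LD2_c22 LD3_c36)) :=
  Lgr Lrot176 (Lpe (K13.f227479 IH) (Lpr_cf (K12.f227468 IH) (Lpe (K12.f80392 IH) (Lpe (K12.f81211 IH) (Lpr_df (K12.f227524 IH) (Lpe (f37574 IH) (Lpe (K12.f229322 IH) (Lpr_cf (K12.f229346 IH) (Lpe (K11.f34719 IH) (Lpe (f272396 IH) (Lpe (f272415 IH) (Lpe (f272411 IH) (Lpr_df (f272409 IH) (Lpe (K12.f37590 IH) (Lpr_df (f272542 IH) (Lpn (LP (LK LD1_c4 LD2_c22 LD3_c36))))))))))))))))))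
theorem f56075 : Led Lsl_gt (LP (LK LD1_c1 LD2_c10 LD3_c43)) = (LP (LK LD1_c2 LD2_c26 LD3_c52)) :=
  Lre_g IH (LK LD1_c1 LD2_c10 LD3_c43) (LK LD1_c2 LD2_c26 LD3_c52) Lrfl Lrfl
theorem f227828 : Led Lsl_ct (LP (LK LD1_c2 LD2_c26 LD3_c52)) = (LP (LK LD1_c1 LD2_c57 LD3_c6)) :=
  Lgr Lrot110 (Lpe (f56075 IH) (Lpe (K11.f37684 IH) (Lpr_gf (K10.f198260 IH) (Lpe (K10.f24550 IH) (Lpr_gt (K12.f198565 IH) (Lpe (K10.f193395 IH) (Lpr_gt (K12.f227812 IH) (Lpr_ct (K12.f182412 IH) (Lpr_df (K12.f182396 IH) (Lpn (LP (LK LD1_c1 LD2_c57 LD3_c6))))))))))))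
theorem f70409 : Led Lsl_dt (LP (LK LD1_c4 LD2_c58 LD3_c5)) = (LP (LK LD1_c2 LD2_c26 LD3_c52)) :=
  Lre_d IH (LK LD1_c4 LD2_c58 LD3_c5) (LK LD1_c2 LD2_c26 LD3_c52) Lrfl Lrfl
theorem f272558 : Led Lsl_gf (LP (LK LD1_c4 LD2_c58 LD3_c5)) = (LP (LK LD1_c4 LD2_c22 LD3_c37)) :=
  Lgr Lrot154 (Lpr_dt (f70409 IH) (Lpr_ct (f227828 IH) (Lpe (K12.f182407 IH) (Lpe (K12.f211581 IH) (Lpe (K12.f34718 IH) (Lpr_gf (K13.f227482 IH) (Lpr_ct (f272546 IH) (Lpr_gt (f173310 IH) (Lpr_dt (K12.f193382 IH) (Lpn (LP (LK LD1_c4 LD2_c22 LD3_c37))))))))))))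
theorem f82176 : Led Lsl_ct (LP (LK LD1_c4 LD2_c58 LD3_c5)) = (LP (LK LD1_c9 LD2_c47 LD3_c5)) :=
  Lre_c IH (LK LD1_c4 LD2_c58 LD3_c5) (LK LD1_c9 LD2_c47 LD3_c5) Lrfl Lrfl
theorem f229344 : Led Lsl_ct (LP (LK LD1_c4 LD2_c22 LD3_c35)) = (LP (LK LD1_c3 LD2_c1 LD3_c0)) :=
  Lgr Lrot7 (Lpr_df (K12.f229328 IH) (Lpe (K12.f37572 IH) (Lpe (K1.f37495 IH) (Lpr_gf (K12.f227471 IH) (Lpe (K12.f227465 IH) (Lpe (K12.f227477 IH) (Lpr_dt (K1.f35625 IH) (Lpr_gt (K11.f35651 IH) (Lpr_dt (K11.f34719 IH) (Lpn (LP (LK LD1_c3 LD2_c1 LD3_c0))))))))))))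
theorem f182389 : Led Lsl_dt (LP (LK LD1_c8 LD2_c3 LD3_c33)) = (LP (LK LD1_c4 LD2_c1 LD3_c27)) :=
  Lre_d IH (LK LD1_c8 LD2_c3 LD3_c33) (LK LD1_c4 LD2_c1 LD3_c27) Lrfl Lrfl
theorem f182390 : Led Lsl_ct (LP (LK LD1_c15 LD2_c10 LD3_c16)) = (LP (LK LD1_c8 LD2_c3 LD3_c33)) :=
  Lre_c IH (LK LD1_c15 LD2_c10 LD3_c16) (LK LD1_c8 LD2_c3 LD3_c33) Lrfl Lrfl
theorem f272564 : Led Lsl_gt (LP (LK LD1_c9 LD2_c47 LD3_c5)) = (LP (LK LD1_c15 LD2_c10 LD3_c16)) :=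
  Lgr Lrot150 (Lpe (f82176 IH) (Lpr_gf (f272558 IH) (Lpe (K12.f193382 IH) (Lpr_gt (K12.f173314 IH) (Lpr_ct (f229344 IH) (Lpr_gt (K11.f211206 IH) (Lpr_ct (K12.f182411 IH) (Lpe (f182389 IH) (Lpe (f182390 IH) (Lpn (LP (LK LD1_c15 LD2_c10 LD3_c16))))))))))))
theorem f211627 : Led Lsl_ct (LP (LK LD1_c9 LD2_c47 LD3_c5)) = (LP (LK LD1_c4 LD2_c58 LD3_c5)) :=
  Lre_c IH (LK LD1_c9 LD2_c47 LD3_c5) (LK LD1_c4 LD2_c58 LD3_c5) Lrfl Lrfl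
theorem f211614 : Led Lsl_et (LP (LK LD1_c1 LD2_c57 LD3_c43)) = (LP (LK LD1_c4 LD2_c1 LD3_c32)) :=
  Lre_e IH (LK LD1_c1 LD2_c57 LD3_c43) (LK LD1_c4 LD2_c1 LD3_c32) Lrfl Lrfl
theorem f211615 : Led Lsl_ct (LP (LK LD1_c4 LD2_c1 LD3_c32)) = (LP (LK LD1_c2 LD2_c4 LD3_c4)) :=
  Lgr Lrot15 (Lpe (f211614 IH) (Lpr_cf (K13.f211610 IH) (Lpe (K10.f28544 IH) (Lpn (LP (LK LD1_c2 LD2_c4 LD3_c4))))))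
theorem f211620 : Led Lsl_dt (LP (LK LD1_c8 LD2_c3 LD3_c43)) = (LP (LK LD1_c4 LD2_c1 LD3_c32)) :=
  Lre_d IH (LK LD1_c8 LD2_c3 LD3_c43) (LK LD1_c4 LD2_c1 LD3_c32) Lrfl Lrfl
theorem f56076 : Led Lsl_dt (LP (LK LD1_c2 LD2_c26 LD3_c52)) = (LP (LK LD1_c4 LD2_c58 LD3_c5)) :=
  Lre_d IH (LK LD1_c2 LD2_c26 LD3_c52) (LK LD1_c4 LD2_c58 LD3_c5) Lrfl Lrfl
theorem f211621 : Led Lsl_gf (LP (LK LD1_c8 LD2_c3 LD3_c43)) = (LP (LK LD1_c4 LD2_c58 LD3_c5)) :=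
  Lgr Lrot154 (Lpr_dt (f211620 IH) (Lpr_ct (f211615 IH) (Lpr_df (K12.f28540 IH) (Lpr_gf (K10.f56072 IH) (Lpe (K10.f56071 IH) (Lpe (K10.f56070 IH) (Lpr_ct (K11.f37684 IH) (Lpr_gt (f56075 IH) (Lpr_dt (f56076 IH) (Lpn (LP (LK LD1_c4 LD2_c58 LD3_c5))))))))))))
theorem f211618 : Led Lsl_cf (LP (LK LD1_c4 LD2_c1 LD3_c32)) = (LP (LK LD1_c2 LD2_c4 LD3_c4)) :=
  Lgr Lrot11 (Lpr_ct (f211615 IH) (Lpn (LP (LK LD1_c2 LD2_c4 LD3_c4))))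
theorem f272549 : Led Lsl_gt (LP (LK LD1_c4 LD2_c1 LD3_c32)) = (LP (LK LD1_c4 LD2_c22 LD3_c36)) :=
  Lgr Lrot94 (Lpr_cf (f211618 IH) (Lpr_gt (K12.f227309 IH) (Lpe (K11.f193390 IH) (Lpr_gt (K12.f210971 IH) (Lpe (K1.f37525 IH) (Lpe (K1.f37506 IH) (Lpe (K1.f37517 IH) (Lpr_gf (K12.f37587 IH) (Lpr_df (f272542 IH) (Lpn (LP (LK LD1_c4 LD2_c22 LD3_c36))))))))))))
theorem f272570 : Led Lsl_df (LP (LK LD1_c11 LD2_c32 LD3_c37)) = (LP (LK LD1_c15 LD2_c10 LD3_c16)) :=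
  Lgr Lrot153 (Lpe (f272429 IH) (Lpr_dt (f272420 IH) (Lpe (K12.f37590 IH) (Lpr_df (f272542 IH) (Lpe (f272549 IH) (Lpe (f211620 IH) (Lpr_gf (f211621 IH) (Lpe (f211627 IH) (Lpr_gt (f272564 IH) (Lpn (LP (LK LD1_c15 LD2_c10 LD3_c16))))))))))))
theorem f28543 : Led Lsl_dt (LP (LK LD1_c7 LD2_c56 LD3_c17)) = (LP (LK LD1_c3 LD2_c57 LD3_c19)) :=
  Lre_d IH (LK LD1_c7 LD2_c56 LD3_c17) (LK LD1_c3 LD2_c57 LD3_c19) Lrfl Lrfl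
theorem f272406 : Led Lsl_gt (LP (LK LD1_c4 LD2_c24 LD3_c60)) = (LP (LK LD1_c7 LD2_c56 LD3_c17)) :=
  Lgr Lrot49 (Lpe (f272398 IH) (Lpr_gf (f272404 IH) (Lpe (K1.f37514 IH) (Lpr_gt (K12.f227663 IH) (Lpe (K12.f227669 IH) (Lpe (K12.f227675 IH) (Lpr_dt (K10.f28533 IH) (Lpe (K11.f28542 IH) (Lpe (f28543 IH) (Lpn (LP (LK LD1_c7 LD2_c56 LD3_c17))))))))))))
theorem f28539 : Led Lsl_ct (LP (LK LD1_c7 LD2_c56 LD3_c17)) = (LP (LK LD1_c14 LD2_c58 LD3_c28)) :=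
  Lre_c IH (LK LD1_c7 LD2_c56 LD3_c17) (LK LD1_c14 LD2_c58 LD3_c28) Lrfl Lrfl
theorem f227394 : Led Lsl_gt (LP (LK LD1_c4 LD2_c25 LD3_c4)) = (LP (LK LD1_c8 LD2_c3 LD3_c33)) :=
  Lgr Lrot49 (Lpe (f36460 IH) (Lpr_gf (K12.f227337 IH) (Lpe (K1.f38382 IH) (Lpr_gt (K11.f35622 IH) (Lpe (K12.f182396 IH) (Lpr_gt (K12.f179916 IH) (Lpr_dt (K11.f182391 IH) (Lpe (K13.f182388 IH) (Lpe (f182389 IH) (Lpn (LP (LK LD1_c8 LD2_c3 LD3_c33))))))))))))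
theorem f211055 : Led Lsl_ct (LP (LK LD1_c9 LD2_c47 LD3_c7)) = (LP (LK LD1_c4 LD2_c58 LD3_c6)) :=
  Lre_c IH (LK LD1_c9 LD2_c47 LD3_c7) (LK LD1_c4 LD2_c58 LD3_c6) Lrfl Lrfl
theorem f182420 : Led Lsl_ct (LP (LK LD1_c8 LD2_c3 LD3_c33)) = (LP (LK LD1_c15 LD2_c10 LD3_c16)) :=
  Lre_c IH (LK LD1_c8 LD2_c3 LD3_c33) (LK LD1_c15 LD2_c10 LD3_c16) Lrfl Lrfl
theorem f227444 : Led Lsl_gf (LP (LK LD1_c9 LD2_c47 LD3_c7)) = (LP (LK LD1_c15 LD2_c10 LD3_c16)) :=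
  Lgr Lrot104 (Lpr_ct (f211055 IH) (Lpe (K12.f211051 IH) (Lpe (K11.f211043 IH) (Lpr_gf (K11.f211040 IH) (Lpe (K1.f27253 IH) (Lpe (K12.f227392 IH) (Lpe (f36463 IH) (Lpr_gt (f227394 IH) (Lpr_ct (f182420 IH) (Lpn (LP (LK LD1_c15 LD2_c10 LD3_c16))))))))))))
theorem f193383 : Led Lsl_ct (LP (LK LD1_c4 LD2_c22 LD3_c37)) = (LP (LK LD1_c8 LD2_c43 LD3_c7)) :=
  Lre_c IH (LK LD1_c4 LD2_c22 LD3_c37) (LK LD1_c8 LD2_c43 LD3_c7) Lrfl Lrfl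
theorem f272583 : Led Lsl_dt (LP (LK LD1_c14 LD2_c58 LD3_c28)) = (LP (LK LD1_c8 LD2_c43 LD3_c7)) :=
  Lgr Lrot27 (Lpe (f28539 IH) (Lpe (f272406 IH) (Lpe (f272411 IH) (Lpr_gf (f272429 IH) (Lpr_df (f272570 IH) (Lpe (f227444 IH) (Lpr_ct (f211055 IH) (Lpe (K12.f211098 IH) (Lpr_ct (f193383 IH) (Lpn (LP (LK LD1_c8 LD2_c43 LD3_c7))))))))))))
theorem f272589 : Led Lsl_df (LP (LK LD1_c14 LD2_c58 LD3_c28)) = (LP (LK LD1_c8 LD2_c43 LD3_c7)) :=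
  Lgr Lrot38 (Lpr_dt (f272583 IH) (Lpn (LP (LK LD1_c8 LD2_c43 LD3_c7))))
theorem f242159 : Led Lsl_df (LP (LK LD1_c4 LD2_c2 LD3_c11)) = (LP (LK LD1_c5 LD2_c53 LD3_c16)) :=
  Lgr Lrot84 (Lpe (K12.f211047 IH) (Lpe (K12.f34718 IH) (Lpr_gf (K13.f227482 IH) (Lpe (K13.f227479 IH) (Lpe (K12.f227473 IH) (Lpe (K12.f27258 IH) (Lpe (K10.f198296 IH) (Lpr_dt (f198083 IH) (Lpr_gt (f242149 IH) (Lpn (LP (LK LD1_c5 LD2_c53 LD3_c16))))))))))))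
theorem f193402 : Led Lsl_ct (LP (LK LD1_c8 LD2_c43 LD3_c7)) = (LP (LK LD1_c4 LD2_c22 LD3_c37)) :=
  Lre_c IH (LK LD1_c8 LD2_c43 LD3_c7) (LK LD1_c4 LD2_c22 LD3_c37) Lrfl Lrfl
theorem f24561 : Led Lsl_ct (LP (LK LD1_c2 LD2_c52 LD3_c60)) = (LP (LK LD1_c5 LD2_c53 LD3_c17)) :=
  Lre_c IH (LK LD1_c2 LD2_c52 LD3_c60) (LK LD1_c5 LD2_c53 LD3_c17) Lrfl Lrfl
theorem f242164 : Led Lsl_gf (LP (LK LD1_c8 LD2_c43 LD3_c7)) = (LP (LK LD1_c5 LD2_c53 LD3_c17)) :=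
  Lgr Lrot104 (Lpr_ct (f193402 IH) (Lpe (K12.f193382 IH) (Lpe (K12.f173294 IH) (Lpe (K10.f173298 IH) (Lpe (K12.f193394 IH) (Lpr_gf (K12.f227332 IH) (Lpr_df (f242159 IH) (Lpr_gt (f24434 IH) (Lpr_ct (f24561 IH) (Lpn (LP (LK LD1_c5 LD2_c53 LD3_c17))))))))))))
theorem f272512 : Led Lsl_df (LP (LK LD1_c8 LD2_c47 LD3_c38)) = (LP (LK LD1_c8 LD2_c47 LD3_c45)) :=
  Lgr Lrot155 (Lpr_gt (f37556 IH) (Lpr_ct (K1.f35458 IH) (Lpr_gt (K12.f35897 IH) (Lpr_ct (K12.f37590 IH) (Lpe (f272409 IH) (Lpe (f272408 IH) (Lpr_gf (f272437 IH) (Lpe (f81213 IH) (Lpe (f227576 IH) (Lpn (LP (LK LD1_c8 LD2_c47 LD3_c45))))))))))))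
theorem f272606 : Led Lsl_gt (LP (LK LD1_c14 LD2_c58 LD3_c28)) = (LP (LK LD1_c8 LD2_c47 LD3_c45)) :=
  Lgr Lrot49 (Lpr_df (f272589 IH) (Lpr_gf (f242164 IH) (Lpe (f24561 IH) (Lpr_gt (K11.f211167 IH) (Lpr_dt (K11.f182393 IH) (Lpe (K12.f210321 IH) (Lpe (K12.f38039 IH) (Lpe (f272529 IH) (Lpr_df (f272512 IH) (Lpn (LP (LK LD1_c8 LD2_c47 LD3_c45))))))))))))
theorem f28545 : Led Lsl_ct (LP (LK LD1_c14 LD2_c58 LD3_c28)) = (LP (LK LD1_c7 LD2_c56 LD3_c17)) :=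
  Lre_c IH (LK LD1_c14 LD2_c58 LD3_c28) (LK LD1_c7 LD2_c56 LD3_c17) Lrfl Lrfl
theorem f272610 : Led Lsl_gt (LP (LK LD1_c7 LD2_c56 LD3_c17)) = (LP (LK LD1_c4 LD2_c24 LD3_c58)) :=
  Lgr Lrot94 (Lpe (f28545 IH) (Lpr_gt (f272606 IH) (Lpe (f272512 IH) (Lpr_gt (f37556 IH) (Lpr_dt (K1.f35463 IH) (Lpe (K1.f37540 IH) (Lpe (K1.f37495 IH) (Lpr_gf (K12.f227471 IH) (Lpe (K12.f80392 IH) (Lpn (LP (LK LD1_c4 LD2_c24 LD3_c58))))))))))))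
theorem f297208 : Led Lsl_ff (LP (LK LD1_c8 LD2_c3 LD3_c43)) = (LP (LK LD1_c7 LD2_c56 LD3_c17)) :=
  Lgr Lrot52 (Lpr_at (f297198 IH) (Lpe (K10.f81208 IH) (Lpe (f272610 IH) (Lpn (LP (LK LD1_c7 LD2_c56 LD3_c17))))))
theorem f297214 : Led Lsl_ft (LP (LK LD1_c8 LD2_c3 LD3_c43)) = (LP (LK LD1_c7 LD2_c56 LD3_c17)) :=
  Lgr Lrot48 (Lpr_ff (f297208 IH) (Lpn (LP (LK LD1_c7 LD2_c56 LD3_c17))))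
theorem f272614 : Led Lsl_gf (LP (LK LD1_c11 LD2_c32 LD3_c37)) = (LP (LK LD1_c8 LD2_c47 LD3_c26)) :=
  Lgr Lrot104 (Lpr_ct (f198274 IH) (Lpr_df (f227782 IH) (Lpe (K12.f211047 IH) (Lpe (K12.f211045 IH) (Lpe (K11.f211031 IH) (Lpe (K11.f211100 IH) (Lpe (f28543 IH) (Lpr_gt (f272610 IH) (Lpr_ct (K12.f38499 IH) (Lpn (LP (LK LD1_c8 LD2_c47 LD3_c26))))))))))))
theorem f272580 : Led Lsl_dt (LP (LK LD1_c11 LD2_c32 LD3_c37)) = (LP (LK LD1_c15 LD2_c10 LD3_c16)) :=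
  Lgr Lrot42 (Lpr_df (f272570 IH) (Lpn (LP (LK LD1_c15 LD2_c10 LD3_c16))))
theorem f272629 : Led Lsl_dt (LP (LK LD1_c9 LD2_c47 LD3_c7)) = (LP (LK LD1_c8 LD2_c48 LD3_c44)) :=
  Lgr Lrot105 (Lpr_gf (f227444 IH) (Lpe (f272580 IH) (Lpr_gf (f272614 IH) (Lpe (K12.f38499 IH) (Lpr_gt (K10.f81208 IH) (Lpr_dt (K10.f81210 IH) (Lpr_gt (K12.f227812 IH) (Lpe (K12.f227786 IH) (Lpe (K12.f227784 IH) (Lpn (LP (LK LD1_c8 LD2_c48 LD3_c44))))))))))))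
theorem f272633 : Led Lsl_df (LP (LK LD1_c9 LD2_c47 LD3_c7)) = (LP (LK LD1_c8 LD2_c48 LD3_c44)) :=
  Lgr Lrot38 (Lpr_dt (f272629 IH) (Lpn (LP (LK LD1_c8 LD2_c48 LD3_c44))))
theorem f210749 : Led Lsl_ct (LP (LK LD1_c8 LD2_c1 LD3_c2)) = (LP (LK LD1_c15 LD2_c5 LD3_c44)) :=
  Lre_c IH (LK LD1_c8 LD2_c1 LD3_c2) (LK LD1_c15 LD2_c5 LD3_c44) Lrfl Lrfl
theorem f182419 : Led Lsl_dt (LP (LK LD1_c4 LD2_c1 LD3_c27)) = (LP (LK LD1_c8 LD2_c3 LD3_c33)) :=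
  Lre_d IH (LK LD1_c4 LD2_c1 LD3_c27) (LK LD1_c8 LD2_c3 LD3_c33) Lrfl Lrfl
theorem f272578 : Led Lsl_dt (LP (LK LD1_c15 LD2_c5 LD3_c44)) = (LP (LK LD1_c9 LD2_c44 LD3_c38)) :=
  Lgr Lrot173 (Lpe (f210749 IH) (Lpe (K13.f210753 IH) (Lpe (K12.f34716 IH) (Lpe (K13.f34058 IH) (Lpe (K12.f211048 IH) (Lpr_df (f242159 IH) (Lpe (f198274 IH) (Lpr_df (f272570 IH) (Lpe (f182420 IH) (Lpe (f182419 IH) (Lpe (K12.f182411 IH) (Lpe (K11.f182391 IH) (Lpe (K12.f182394 IH) (Lpe (K11.f182393 IH) (Lpe (K12.f182418 IH) (Lpn (LP (LK LD1_c9 LD2_c44 LD3_c38))))))))))))))))))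
theorem f272638 : Led Lsl_gt (LP (LK LD1_c9 LD2_c47 LD3_c7)) = (LP (LK LD1_c15 LD2_c5 LD3_c44)) :=
  Lgr Lrot49 (Lpr_df (f272633 IH) (Lpe (K12.f38058 IH) (Lpe (K1.f38057 IH) (Lpr_gt (K12.f38354 IH) (Lpr_dt (K12.f227601 IH) (Lpr_gt (K12.f210961 IH) (Lpr_dt (K11.f182386 IH) (Lpe (K12.f182418 IH) (Lpe (f272578 IH) (Lpn (LP (LK LD1_c15 LD2_c5 LD3_c44))))))))))))
theorem f211052 : Led Lsl_ct (LP (LK LD1_c4 LD2_c58 LD3_c6)) = (LP (LK LD1_c9 LD2_c47 LD3_c7)) :=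
  Lre_c IH (LK LD1_c4 LD2_c58 LD3_c6) (LK LD1_c9 LD2_c47 LD3_c7) Lrfl Lrfl
theorem f210752 : Led Lsl_ct (LP (LK LD1_c15 LD2_c5 LD3_c44)) = (LP (LK LD1_c8 LD2_c1 LD3_c2)) :=
  Lre_c IH (LK LD1_c15 LD2_c5 LD3_c44) (LK LD1_c8 LD2_c1 LD3_c2) Lrfl Lrfl
theorem f272551 : Led Lsl_cf (LP (LK LD1_c2 LD2_c52 LD3_c17)) = (LP (LK LD1_c4 LD2_c22 LD3_c36)) :=
  Lgr Lrot99 (Lpe (K13.f227479 IH) (Lpr_cf (K12.f227468 IH) (Lpe (K10.f35642 IH) (Lpe (K12.f35460 IH) (Lpe (K12.f35469 IH) (Lpr_df (K12.f227699 IH) (Lpe (K12.f227675 IH) (Lpe (f211618 IH) (Lpr_gt (f272549 IH) (Lpn (LP (LK LD1_c4 LD2_c22 LD3_c36))))))))))))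
theorem f272640 : Led Lsl_gf (LP (LK LD1_c4 LD2_c58 LD3_c6)) = (LP (LK LD1_c8 LD2_c3 LD3_c43)) :=
  Lgr Lrot147 (Lpr_ct (f211052 IH) (Lpr_gt (f272638 IH) (Lpr_ct (f210752 IH) (Lpe (K13.f210753 IH) (Lpe (K12.f34716 IH) (Lpr_gf (K13.f227482 IH) (Lpr_cf (f272551 IH) (Lpe (f272549 IH) (Lpe (f211620 IH) (Lpn (LP (LK LD1_c8 LD2_c3 LD3_c43))))))))))))
theorem f297222 : Led Lsl_af (LP (LK LD1_c4 LD2_c22 LD3_c37)) = (LP (LK LD1_c7 LD2_c56 LD3_c17)) :=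
  Lgr Lrot31 (Lpr_gf (K12.f211098 IH) (Lpr_gf (f272640 IH) (Lpr_ft (f297214 IH) (Lpn (LP (LK LD1_c7 LD2_c56 LD3_c17))))))
theorem f297204 : Led Lsl_af (LP (LK LD1_c8 LD2_c3 LD3_c43)) = (LP (LK LD1_c8 LD2_c4 LD3_c59)) :=
  Lgr Lrot0 (Lpr_at (f297198 IH) (Lpn (LP (LK LD1_c8 LD2_c4 LD3_c59))))
theorem f297233 : Led Lsl_ft (LP (LK LD1_c4 LD2_c22 LD3_c37)) = (LP (LK LD1_c8 LD2_c4 LD3_c59)) :=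
  Lgr Lrot101 (Lpr_af (f297222 IH) (Lpe (f297214 IH) (Lpr_af (f297204 IH) (Lpn (LP (LK LD1_c8 LD2_c4 LD3_c59))))))
theorem f297242 : Led Lsl_ff (LP (LK LD1_c4 LD2_c22 LD3_c37)) = (LP (LK LD1_c8 LD2_c4 LD3_c59)) :=
  Lgr Lrot3 (Lpr_ft (f297233 IH) (Lpn (LP (LK LD1_c8 LD2_c4 LD3_c59))))
theorem f297246 : Led Lsl_ft (LP (LK LD1_c8 LD2_c43 LD3_c7)) = (LP (LK LD1_c15 LD2_c13 LD3_c12)) :=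
  Lgr Lrot4 (Lpe (f193383 IH) (Lpr_ff (f297242 IH) (Lpe (f81213 IH) (Lpn (LP (LK LD1_c15 LD2_c13 LD3_c12))))))
theorem f227801 : Led Lsl_cf (LP (LK LD1_c8 LD2_c48 LD3_c44)) = (LP (LK LD1_c4 LD2_c58 LD3_c7)) :=
  Lgr Lrot11 (Lpr_ct (K12.f227784 IH) (Lpn (LP (LK LD1_c4 LD2_c58 LD3_c7))))
theorem f272636 : Led Lsl_gt (LP (LK LD1_c8 LD2_c48 LD3_c44)) = (LP (LK LD1_c8 LD2_c48 LD3_c47)) :=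
  Lgr Lrot94 (Lpr_cf (f227801 IH) (Lpe (K12.f227806 IH) (Lpr_dt (K12.f35487 IH) (Lpr_gt (K11.f211056 IH) (Lpr_dt (K12.f211051 IH) (Lpe (f211055 IH) (Lpr_df (f272633 IH) (Lpe (K12.f38058 IH) (Lpe (K1.f38374 IH) (Lpn (LP (LK LD1_c8 LD2_c48 LD3_c47))))))))))))
theorem f227657 : Led Lsl_dt (LP (LK LD1_c4 LD2_c25 LD3_c6)) = (LP (LK LD1_c2 LD2_c9 LD3_c60)) :=
  Lre_d IH (LK LD1_c4 LD2_c25 LD3_c6) (LK LD1_c2 LD2_c9 LD3_c60) Lrfl Lrfl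
theorem f272661 : Led Lsl_gt (LP (LK LD1_c8 LD2_c3 LD3_c33)) = (LP (LK LD1_c4 LD2_c25 LD3_c6)) :=
  Lgr Lrot94 (Lpe (f182390 IH) (Lpe (f227444 IH) (Lpr_dt (f272629 IH) (Lpr_gt (f272636 IH) (Lpr_dt (K1.f38374 IH) (Lpe (K1.f38057 IH) (Lpe (K1.f38034 IH) (Lpr_gf (K12.f227609 IH) (Lpe (f227657 IH) (Lpn (LP (LK LD1_c4 LD2_c25 LD3_c6))))))))))))
theorem f28538 : Led Lsl_dt (LP (LK LD1_c3 LD2_c57 LD3_c19)) = (LP (LK LD1_c7 LD2_c56 LD3_c17)) :=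
  Lre_d IH (LK LD1_c3 LD2_c57 LD3_c19) (LK LD1_c7 LD2_c56 LD3_c17) Lrfl Lrfl
theorem f227701 : Led Lsl_ct (LP (LK LD1_c4 LD2_c25 LD3_c6)) = (LP (LK LD1_c8 LD2_c47 LD3_c48)) :=
  Lre_c IH (LK LD1_c4 LD2_c25 LD3_c6) (LK LD1_c8 LD2_c47 LD3_c48) Lrfl Lrfl
theorem f272664 : Led Lsl_gf (LP (LK LD1_c14 LD2_c58 LD3_c28)) = (LP (LK LD1_c8 LD2_c47 LD3_c48)) :=
  Lgr Lrot104 (Lpr_ct (f28545 IH) (Lpe (f28538 IH) (Lpe (K11.f28537 IH) (Lpr_gf (K10.f56072 IH) (Lpe (K12.f56074 IH) (Lpr_gf (K12.f198329 IH) (Lpe (f182389 IH) (Lpr_gt (f272661 IH) (Lpr_ct (f227701 IH) (Lpn (LP (LK LD1_c8 LD2_c47 LD3_c48))))))))))))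
theorem f193388 : Led Lsl_ct (LP (LK LD1_c8 LD2_c47 LD3_c45)) = (LP (LK LD1_c4 LD2_c25 LD3_c4)) :=
  Lre_c IH (LK LD1_c8 LD2_c47 LD3_c45) (LK LD1_c4 LD2_c25 LD3_c4) Lrfl Lrfl
theorem f198078 : Led Lsl_ct (LP (LK LD1_c9 LD2_c47 LD3_c16)) = (LP (LK LD1_c4 LD2_c58 LD3_c11)) :=
  Lre_c IH (LK LD1_c9 LD2_c47 LD3_c16) (LK LD1_c4 LD2_c58 LD3_c11) Lrfl Lrfl
theorem f272608 : Led Lsl_gf (LP (LK LD1_c9 LD2_c47 LD3_c16)) = (LP (LK LD1_c8 LD2_c43 LD3_c7)) :=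
  Lgr Lrot147 (Lpr_ct (f198078 IH) (Lpr_gt (f242149 IH) (Lpr_ct (f198275 IH) (Lpr_df (f272570 IH) (Lpe (f182420 IH) (Lpe (f227394 IH) (Lpe (f193388 IH) (Lpe (f272606 IH) (Lpr_df (f272589 IH) (Lpn (LP (LK LD1_c8 LD2_c43 LD3_c7))))))))))))
theorem f210745 : Led Lsl_dt (LP (LK LD1_c8 LD2_c1 LD3_c2)) = (LP (LK LD1_c3 LD2_c59 LD3_c60)) :=
  Lre_d IH (LK LD1_c8 LD2_c1 LD3_c2) (LK LD1_c3 LD2_c59 LD3_c60) Lrfl Lrfl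
theorem f37697 : Led Lsl_gt (LP (LK LD1_c9 LD2_c47 LD3_c13)) = (LP (LK LD1_c4 LD2_c58 LD3_c9)) :=
  Lre_g IH (LK LD1_c9 LD2_c47 LD3_c13) (LK LD1_c4 LD2_c58 LD3_c9) Lrfl Lrfl
theorem f210717 : Led Lsl_ct (LP (LK LD1_c5 LD2_c38 LD3_c42)) = (LP (LK LD1_c9 LD2_c47 LD3_c13)) :=
  Lgr Lrot152 (Lpr_gf (K12.f210623 IH) (Lpe (K10.f38348 IH) (Lpr_gt (K11.f198272 IH) (Lpr_ct (K10.f24432 IH) (Lpe (K10.f198260 IH) (Lpr_ct (K11.f37684 IH) (Lpe (K1.f37682 IH) (Lpe (K1.f37547 IH) (Lpe (f37697 IH) (Lpn (LP (LK LD1_c9 LD2_c47 LD3_c13))))))))))))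
theorem f210725 : Led Lsl_cf (LP (LK LD1_c5 LD2_c38 LD3_c42)) = (LP (LK LD1_c9 LD2_c47 LD3_c13)) :=
  Lgr Lrot11 (Lpr_ct (f210717 IH) (Lpn (LP (LK LD1_c9 LD2_c47 LD3_c13))))
theorem f272688 : Led Lsl_dt (LP (LK LD1_c9 LD2_c47 LD3_c16)) = (LP (LK LD1_c9 LD2_c47 LD3_c13)) :=
  Lgr Lrot105 (Lpr_gf (f272608 IH) (Lpe (f272583 IH) (Lpr_gf (f272664 IH) (Lpe (f227701 IH) (Lpe (K13.f236512 IH) (Lpr_dt (f210745 IH) (Lpe (K12.f210729 IH) (Lpr_dt (K12.f24567 IH) (Lpr_cf (f210725 IH) (Lpn (LP (LK LD1_c9 LD2_c47 LD3_c13))))))))))))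
theorem f272723 : Led Lsl_gt (LP (LK LD1_c2 LD2_c26 LD3_c52)) = (LP (LK LD1_c2 LD2_c9 LD3_c58)) :=
  Lgr Lrot49 (Lpe (f70409 IH) (Lpr_gf (f272558 IH) (Lpe (f193402 IH) (Lpe (f272608 IH) (Lpr_dt (f272688 IH) (Lpr_gt (f37697 IH) (Lpr_dt (K12.f37685 IH) (Lpe (K1.f35485 IH) (Lpe (K1.f35484 IH) (Lpn (LP (LK LD1_c2 LD2_c9 LD3_c58))))))))))))
theorem f24568 : Led Lsl_ct (LP (LK LD1_c5 LD2_c53 LD3_c17)) = (LP (LK LD1_c2 LD2_c52 LD3_c60)) :=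
  Lre_c IH (LK LD1_c5 LD2_c53 LD3_c17) (LK LD1_c2 LD2_c52 LD3_c60) Lrfl Lrfl
theorem f211208 : Led Lsl_gt (LP (LK LD1_c11 LD2_c32 LD3_c39)) = (LP (LK LD1_c5 LD2_c53 LD3_c17)) :=
  Lre_g IH (LK LD1_c11 LD2_c32 LD3_c39) (LK LD1_c5 LD2_c53 LD3_c17) Lrfl Lrfl
theorem f272727 : Led Lsl_ct (LP (LK LD1_c8 LD2_c3 LD3_c43)) = (LP (LK LD1_c11 LD2_c32 LD3_c39)) :=
  Lgr Lrot152 (Lpr_gf (f211621 IH) (Lpe (f56076 IH) (Lpr_gt (f272723 IH) (Lpr_ct (K1.f35486 IH) (Lpr_gt (K10.f198262 IH) (Lpr_ct (K10.f24559 IH) (Lpe (f24433 IH) (Lpe (f24568 IH) (Lpe (f211208 IH) (Lpn (LP (LK LD1_c11 LD2_c32 LD3_c39))))))))))))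
theorem f272745 : Led Lsl_cf (LP (LK LD1_c8 LD2_c3 LD3_c43)) = (LP (LK LD1_c11 LD2_c32 LD3_c39)) :=
  Lgr Lrot11 (Lpr_ct (f272727 IH) (Lpn (LP (LK LD1_c11 LD2_c32 LD3_c39))))
theorem f81212 : Led Lsl_ct (LP (LK LD1_c8 LD2_c4 LD3_c59)) = (LP (LK LD1_c15 LD2_c13 LD3_c12)) :=
  Lre_c IH (LK LD1_c8 LD2_c4 LD3_c59) (LK LD1_c15 LD2_c13 LD3_c12) Lrfl Lrfl
theorem f297206 : Led Lsl_af (LP (LK LD1_c11 LD2_c32 LD3_c39)) = (LP (LK LD1_c15 LD2_c13 LD3_c12)) :=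
  Lgr Lrot68 (Lpe (f272745 IH) (Lpr_at (f297198 IH) (Lpr_ct (f81212 IH) (Lpn (LP (LK LD1_c15 LD2_c13 LD3_c12))))))
theorem f297210 : Led Lsl_ft (LP (LK LD1_c11 LD2_c32 LD3_c39)) = (LP (LK LD1_c14 LD2_c58 LD3_c28)) :=
  Lgr Lrot4 (Lpe (f272727 IH) (Lpr_ff (f297208 IH) (Lpe (f28545 IH) (Lpn (LP (LK LD1_c14 LD2_c58 LD3_c28))))))
theorem f297249 : Led Lsl_af (LP (LK LD1_c8 LD2_c43 LD3_c7)) = (LP (LK LD1_c14 LD2_c58 LD3_c28)) :=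
  Lgr Lrot45 (Lpr_ft (f297246 IH) (Lpe (f297206 IH) (Lpr_ft (f297210 IH) (Lpn (LP (LK LD1_c14 LD2_c58 LD3_c28))))))
theorem f272592 : Led Lsl_et (LP (LK LD1_c8 LD2_c43 LD3_c7)) = (LP (LK LD1_c16 LD2_c19 LD3_c51)) :=
  Lre_e IH (LK LD1_c8 LD2_c43 LD3_c7) (LK LD1_c16 LD2_c19 LD3_c51) Lrfl Lrfl
theorem f272591 : Led Lsl_et (LP (LK LD1_c24 LD2_c45 LD3_c56)) = (LP (LK LD1_c14 LD2_c58 LD3_c28)) :=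
  Lre_e IH (LK LD1_c24 LD2_c45 LD3_c56) (LK LD1_c14 LD2_c58 LD3_c28) Lrfl Lrfl
theorem f297268 : Led Lsl_at (LP (LK LD1_c16 LD2_c19 LD3_c51)) = (LP (LK LD1_c24 LD2_c45 LD3_c56)) :=
  Lgr Lrot80 (Lpe (f272592 IH) (Lpr_af (f297249 IH) (Lpe (f272591 IH) (Lpn (LP (LK LD1_c24 LD2_c45 LD3_c56))))))
theorem f297253 : Led Lsl_ft (LP (LK LD1_c26 LD2_c17 LD3_c57)) = (LP (LK LD1_c16 LD2_c19 LD3_c51)) :=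
  Lre_f IH (LK LD1_c26 LD2_c17 LD3_c57) (LK LD1_c16 LD2_c19 LD3_c51) Lrfl Lrfl
theorem f297279 : Led Lsl_dt (LP (LK LD1_c26 LD2_c17 LD3_c57)) = (LP (LK LD1_c32 LD2_c7 LD3_c13)) :=
  Lre_d IH (LK LD1_c26 LD2_c17 LD3_c57) (LK LD1_c32 LD2_c7 LD3_c13) Lrfl Lrfl
theorem f236824 : Led Lsl_ct (LP (LK LD1_c14 LD2_c58 LD3_c26)) = (LP (LK LD1_c24 LD2_c45 LD3_c56)) :=
  Lre_c IH (LK LD1_c14 LD2_c58 LD3_c26) (LK LD1_c24 LD2_c45 LD3_c56) Lrfl Lrfl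
theorem f211122 : Led Lsl_dt (LP (LK LD1_c7 LD2_c56 LD3_c16)) = (LP (LK LD1_c14 LD2_c58 LD3_c26)) :=
  Lre_d IH (LK LD1_c7 LD2_c56 LD3_c16) (LK LD1_c14 LD2_c58 LD3_c26) Lrfl Lrfl
theorem f211135 : Led Lsl_et (LP (LK LD1_c3 LD2_c57 LD3_c18)) = (LP (LK LD1_c7 LD2_c56 LD3_c16)) :=
  Lre_e IH (LK LD1_c3 LD2_c57 LD3_c18) (LK LD1_c7 LD2_c56 LD3_c16) Lrfl Lrfl
theorem f236768 : Led Lsl_et (LP (LK LD1_c9 LD2_c44 LD3_c54)) = (LP (LK LD1_c4 LD2_c56 LD3_c47)) :=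
  Lre_e IH (LK LD1_c9 LD2_c44 LD3_c54) (LK LD1_c4 LD2_c56 LD3_c47) Lrfl Lrfl
theorem f236769 : Led Lsl_ct (LP (LK LD1_c7 LD2_c56 LD3_c16)) = (LP (LK LD1_c9 LD2_c44 LD3_c54)) :=
  Lgr Lrot15 (Lpe (f211135 IH) (Lpr_cf (K13.f236757 IH) (Lpe (f236768 IH) (Lpn (LP (LK LD1_c9 LD2_c44 LD3_c54))))))
theorem f236780 : Led Lsl_cf (LP (LK LD1_c7 LD2_c56 LD3_c16)) = (LP (LK LD1_c9 LD2_c44 LD3_c54)) :=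
  Lgr Lrot11 (Lpr_ct (f236769 IH) (Lpn (LP (LK LD1_c9 LD2_c44 LD3_c54))))
theorem f236794 : Led Lsl_dt (LP (LK LD1_c17 LD2_c54 LD3_c11)) = (LP (LK LD1_c9 LD2_c44 LD3_c54)) :=
  Lre_d IH (LK LD1_c17 LD2_c54 LD3_c11) (LK LD1_c9 LD2_c44 LD3_c54) Lrfl Lrfl
theorem f236798 : Led Lsl_ct (LP (LK LD1_c27 LD2_c39 LD3_c41)) = (LP (LK LD1_c17 LD2_c54 LD3_c11)) :=
  Lre_c IH (LK LD1_c27 LD2_c39 LD3_c41) (LK LD1_c17 LD2_c54 LD3_c11) Lrfl Lrfl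
theorem f236826 : Led Lsl_dt (LP (LK LD1_c32 LD2_c27 LD3_c30)) = (LP (LK LD1_c27 LD2_c39 LD3_c41)) :=
  Lre_d IH (LK LD1_c32 LD2_c27 LD3_c30) (LK LD1_c27 LD2_c39 LD3_c41) Lrfl Lrfl
theorem f297280 : Led Lsl_ct (LP (LK LD1_c32 LD2_c7 LD3_c13)) = (LP (LK LD1_c32 LD2_c27 LD3_c30)) :=
  Lgr Lrot133 (Lpe (f297279 IH) (Lpr_ft (f297253 IH) (Lpr_at (f297268 IH) (Lpe (f236824 IH) (Lpe (f211122 IH) (Lpr_cf (f236780 IH) (Lpe (f236794 IH) (Lpe (f236798 IH) (Lpe (f236826 IH) (Lpn (LP (LK LD1_c32 LD2_c27 LD3_c30))))))))))))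
theorem f297284 : Led Lsl_ct (LP (LK LD1_c16 LD2_c19 LD3_c52)) = (LP (LK LD1_c26 LD2_c17 LD3_c57)) :=
  Lre_c IH (LK LD1_c16 LD2_c19 LD3_c52) (LK LD1_c26 LD2_c17 LD3_c57) Lrfl Lrfl
theorem f297128 : Led Lsl_dt (LP (LK LD1_c8 LD2_c43 LD3_c4)) = (LP (LK LD1_c16 LD2_c19 LD3_c52)) :=
  Lre_d IH (LK LD1_c8 LD2_c43 LD3_c4) (LK LD1_c16 LD2_c19 LD3_c52) Lrfl Lrfl
theorem f297287 : Led Lsl_at (LP (LK LD1_c4 LD2_c22 LD3_c34)) = (LP (LK LD1_c7 LD2_c56 LD3_c16)) :=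
  Lgr Lrot33 (Lpe (f297131 IH) (Lpr_dt (f297128 IH) (Lpr_ct (f297284 IH) (Lpr_dt (f297279 IH) (Lpr_ct (f297280 IH) (Lpr_dt (f236826 IH) (Lpr_ct (f236798 IH) (Lpr_dt (f236794 IH) (Lpe (f236780 IH) (Lpn (LP (LK LD1_c7 LD2_c56 LD3_c16))))))))))))
theorem f236818 : Led Lsl_ft (LP (LK LD1_c7 LD2_c56 LD3_c16)) = (LP (LK LD1_c14 LD2_c58 LD3_c27)) :=
  Lre_f IH (LK LD1_c7 LD2_c56 LD3_c16) (LK LD1_c14 LD2_c58 LD3_c27) Lrfl Lrfl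
theorem f297295 : Led Lsl_af (LP (LK LD1_c8 LD2_c43 LD3_c4)) = (LP (LK LD1_c14 LD2_c58 LD3_c27)) :=
  Lgr Lrot45 (Lpr_ft (f297131 IH) (Lpr_at (f297287 IH) (Lpr_ft (f236818 IH) (Lpn (LP (LK LD1_c14 LD2_c58 LD3_c27))))))
theorem f297113 : Led Lsl_bt (LP (LK LD1_c16 LD2_c19 LD3_c39)) = (LP (LK LD1_c8 LD2_c43 LD3_c4)) :=
  Lre_b IH (LK LD1_c16 LD2_c19 LD3_c39) (LK LD1_c8 LD2_c43 LD3_c4) Lrfl Lrfl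
theorem f197302 : Led Lsl_bt (LP (LK LD1_c9 LD2_c45 LD3_c3)) = (LP (LK LD1_c17 LD2_c54 LD3_c26)) :=
  Lre_b IH (LK LD1_c9 LD2_c45 LD3_c3) (LK LD1_c17 LD2_c54 LD3_c26) Lrfl Lrfl
theorem f297114 : Led Lsl_et (LP (LK LD1_c8 LD2_c43 LD3_c4)) = (LP (LK LD1_c9 LD2_c45 LD3_c3)) :=
  Lgr Lrot74 (Lpe (f297113 IH) (Lpr_ef (f297111 IH) (Lpe (f197302 IH) (Lpn (LP (LK LD1_c9 LD2_c45 LD3_c3))))))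
theorem f297303 : Led Lsl_et (LP (LK LD1_c8 LD2_c43 LD3_c33)) = (LP (LK LD1_c14 LD2_c58 LD3_c27)) :=
  Lgr Lrot123 (Lpr_af (f297156 IH) (Lpe (f297114 IH) (Lpr_af (f297295 IH) (Lpn (LP (LK LD1_c14 LD2_c58 LD3_c27))))))
theorem f225043 : Led Lsl_ft (LP (LK LD1_c4 LD2_c22 LD3_c50)) = (LP (LK LD1_c8 LD2_c43 LD3_c33)) :=
  Lre_f IH (LK LD1_c4 LD2_c22 LD3_c50) (LK LD1_c8 LD2_c43 LD3_c33) Lrfl Lrfl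
theorem f236788 : Led Lsl_ft (LP (LK LD1_c14 LD2_c58 LD3_c27)) = (LP (LK LD1_c7 LD2_c56 LD3_c16)) :=
  Lre_f IH (LK LD1_c14 LD2_c58 LD3_c27) (LK LD1_c7 LD2_c56 LD3_c16) Lrfl Lrfl
theorem f211121 : Led Lsl_et (LP (LK LD1_c7 LD2_c56 LD3_c16)) = (LP (LK LD1_c3 LD2_c57 LD3_c18)) :=
  Lre_e IH (LK LD1_c7 LD2_c56 LD3_c16) (LK LD1_c3 LD2_c57 LD3_c18) Lrfl Lrfl
theorem f297311 : Led Lsl_ff (LP (LK LD1_c2 LD2_c8 LD3_c51)) = (LP (LK LD1_c3 LD2_c57 LD3_c18)) :=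
  Lgr Lrot72 (Lpr_et (f225030 IH) (Lpr_ft (f225043 IH) (Lpr_et (f297303 IH) (Lpr_ft (f236788 IH) (Lpr_et (f211121 IH) (Lpn (LP (LK LD1_c3 LD2_c57 LD3_c18))))))))
theorem f297319 : Led Lsl_ft (LP (LK LD1_c2 LD2_c8 LD3_c51)) = (LP (LK LD1_c3 LD2_c57 LD3_c18)) :=
  Lgr Lrot48 (Lpr_ff (f297311 IH) (Lpn (LP (LK LD1_c3 LD2_c57 LD3_c18))))
theorem f297323 : Led Lsl_ff (LP (LK LD1_c4 LD2_c22 LD3_c11)) = (LP (LK LD1_c4 LD2_c56 LD3_c47)) :=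
  Lgr Lrot23 (Lpe (K13.f211160 IH) (Lpr_ft (f297319 IH) (Lpr_ct (K13.f236594 IH) (Lpn (LP (LK LD1_c4 LD2_c56 LD3_c47))))))
theorem f238623 : Led Lsl_et (LP (LK LD1_c4 LD2_c22 LD3_c11)) = (LP (LK LD1_c8 LD2_c42 LD3_c18)) :=
  Lre_e IH (LK LD1_c4 LD2_c22 LD3_c11) (LK LD1_c8 LD2_c42 LD3_c18) Lrfl Lrfl
theorem f297329 : Led Lsl_ft (LP (LK LD1_c8 LD2_c42 LD3_c18)) = (LP (LK LD1_c16 LD2_c18 LD3_c29)) :=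
  Lre_f IH (LK LD1_c8 LD2_c42 LD3_c18) (LK LD1_c16 LD2_c18 LD3_c29) Lrfl Lrfl
theorem f236819 : Led Lsl_ft (LP (LK LD1_c17 LD2_c54 LD3_c12)) = (LP (LK LD1_c9 LD2_c44 LD3_c54)) :=
  Lre_f IH (LK LD1_c17 LD2_c54 LD3_c12) (LK LD1_c9 LD2_c44 LD3_c54) Lrfl Lrfl
theorem f297330 : Led Lsl_et (LP (LK LD1_c16 LD2_c18 LD3_c29)) = (LP (LK LD1_c17 LD2_c54 LD3_c12)) :=
  Lgr Lrot69 (Lpe (f297329 IH) (Lpe (f238623 IH) (Lpr_ff (f297323 IH) (Lpe (f236768 IH) (Lpe (f236819 IH) (Lpn (LP (LK LD1_c17 LD2_c54 LD3_c12))))))))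
theorem f297337 : Led Lsl_ef (LP (LK LD1_c16 LD2_c18 LD3_c29)) = (LP (LK LD1_c17 LD2_c54 LD3_c12)) :=
  Lgr Lrot88 (Lpr_et (f297330 IH) (Lpn (LP (LK LD1_c17 LD2_c54 LD3_c12))))
theorem f236789 : Led Lsl_ft (LP (LK LD1_c9 LD2_c44 LD3_c54)) = (LP (LK LD1_c17 LD2_c54 LD3_c12)) :=
  Lre_f IH (LK LD1_c9 LD2_c44 LD3_c54) (LK LD1_c17 LD2_c54 LD3_c12) Lrfl Lrfl
theorem f236790 : Led Lsl_cf (LP (LK LD1_c14 LD2_c58 LD3_c27)) = (LP (LK LD1_c17 LD2_c54 LD3_c12)) :=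
  Lgr Lrot108 (Lpr_ft (f236788 IH) (Lpr_ct (f236769 IH) (Lpr_ft (f236789 IH) (Lpn (LP (LK LD1_c17 LD2_c54 LD3_c12))))))
theorem f236804 : Led Lsl_ct (LP (LK LD1_c14 LD2_c58 LD3_c27)) = (LP (LK LD1_c17 LD2_c54 LD3_c12)) :=
  Lgr Lrot59 (Lpr_cf (f236790 IH) (Lpn (LP (LK LD1_c17 LD2_c54 LD3_c12))))
theorem f297342 : Led Lsl_ct (LP (LK LD1_c16 LD2_c18 LD3_c29)) = (LP (LK LD1_c8 LD2_c43 LD3_c33)) :=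
  Lgr Lrot15 (Lpr_ef (f297337 IH) (Lpe (f236804 IH) (Lpe (f297303 IH) (Lpn (LP (LK LD1_c8 LD2_c43 LD3_c33))))))
theorem f297347 : Led Lsl_cf (LP (LK LD1_c8 LD2_c42 LD3_c18)) = (LP (LK LD1_c4 LD2_c22 LD3_c50)) :=
  Lgr Lrot108 (Lpr_ft (f297329 IH) (Lpr_ct (f297342 IH) (Lpr_ft (f225040 IH) (Lpn (LP (LK LD1_c4 LD2_c22 LD3_c50))))))
theorem f297355 : Led Lsl_ct (LP (LK LD1_c8 LD2_c42 LD3_c18)) = (LP (LK LD1_c4 LD2_c22 LD3_c50)) :=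
  Lgr Lrot59 (Lpr_cf (f297347 IH) (Lpn (LP (LK LD1_c4 LD2_c22 LD3_c50))))
theorem f297360 : Led Lsl_bt (LP (LK LD1_c16 LD2_c18 LD3_c28)) = (LP (LK LD1_c8 LD2_c42 LD3_c18)) :=
  Lre_b IH (LK LD1_c16 LD2_c18 LD3_c28) (LK LD1_c8 LD2_c42 LD3_c18) Lrfl Lrfl
theorem f297361 : Led Lsl_ct (LP (LK LD1_c26 LD2_c16 LD3_c13)) = (LP (LK LD1_c16 LD2_c18 LD3_c28)) :=
  Lre_c IH (LK LD1_c26 LD2_c16 LD3_c13) (LK LD1_c16 LD2_c18 LD3_c28) Lrfl Lrfl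
theorem f225096 : Led Lsl_bt (LP (LK LD1_c4 LD2_c22 LD3_c50)) = (LP (LK LD1_c8 LD2_c43 LD3_c30)) :=
  Lre_b IH (LK LD1_c4 LD2_c22 LD3_c50) (LK LD1_c8 LD2_c43 LD3_c30) Lrfl Lrfl
theorem f225143 : Led Lsl_ct (LP (LK LD1_c8 LD2_c43 LD3_c30)) = (LP (LK LD1_c16 LD2_c20 LD3_c24)) :=
  Lre_c IH (LK LD1_c8 LD2_c43 LD3_c30) (LK LD1_c16 LD2_c20 LD3_c24) Lrfl Lrfl
theorem f297362 : Led Lsl_bf (LP (LK LD1_c26 LD2_c16 LD3_c13)) = (LP (LK LD1_c16 LD2_c20 LD3_c24)) :=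
  Lgr Lrot90 (Lpr_ct (f297361 IH) (Lpr_bt (f297360 IH) (Lpr_ct (f297355 IH) (Lpr_bt (f225096 IH) (Lpr_ct (f225143 IH) (Lpn (LP (LK LD1_c16 LD2_c20 LD3_c24))))))))
theorem f296696 : Led Lsl_et (LP (LK LD1_c26 LD2_c16 LD3_c13)) = (LP (LK LD1_c16 LD2_c18 LD3_c27)) :=
  Lre_e IH (LK LD1_c26 LD2_c16 LD3_c13) (LK LD1_c16 LD2_c18 LD3_c27) Lrfl Lrfl
theorem f297365 : Led Lsl_et (LP (LK LD1_c8 LD2_c43 LD3_c29)) = (LP (LK LD1_c16 LD2_c20 LD3_c24)) :=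
  Lre_e IH (LK LD1_c8 LD2_c43 LD3_c29) (LK LD1_c16 LD2_c20 LD3_c24) Lrfl Lrfl
theorem f297366 : Led Lsl_bt (LP (LK LD1_c16 LD2_c18 LD3_c27)) = (LP (LK LD1_c8 LD2_c43 LD3_c29)) :=
  Lgr Lrot119 (Lpe (f296696 IH) (Lpr_bf (f297362 IH) (Lpe (f297365 IH) (Lpn (LP (LK LD1_c8 LD2_c43 LD3_c29))))))
theorem f296417 : Led Lsl_df (LP (LK LD1_c4 LD2_c2 LD3_c37)) = (LP (LK LD1_c4 LD2_c3 LD3_c27)) :=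
  Lgr Lrot78 (Lpr_ft (f296410 IH) (Lpr_dt (f296415 IH) (Lpe (f296265 IH) (Lpn (LP (LK LD1_c4 LD2_c3 LD3_c27))))))
theorem f220271 : Led Lsl_ct (LP (LK LD1_c8 LD2_c7 LD3_c27)) = (LP (LK LD1_c4 LD2_c3 LD3_c27)) :=
  Lre_c IH (LK LD1_c8 LD2_c7 LD3_c27) (LK LD1_c4 LD2_c3 LD3_c27) Lrfl Lrfl
theorem f220315 : Led Lsl_dt (LP (LK LD1_c15 LD2_c17 LD3_c58)) = (LP (LK LD1_c8 LD2_c7 LD3_c27)) :=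
  Lre_d IH (LK LD1_c15 LD2_c17 LD3_c58) (LK LD1_c8 LD2_c7 LD3_c27) Lrfl Lrfl
theorem f33864 : Led Lsl_dt (LP (LK LD1_c8 LD2_c4 LD3_c23)) = (LP (LK LD1_c15 LD2_c11 LD3_c57)) :=
  Lre_d IH (LK LD1_c8 LD2_c4 LD3_c23) (LK LD1_c15 LD2_c11 LD3_c57) Lrfl Lrfl
theorem f296446 : Led Lsl_ct (LP (LK LD1_c15 LD2_c11 LD3_c57)) = (LP (LK LD1_c25 LD2_c0 LD3_c52)) :=
  Lre_c IH (LK LD1_c15 LD2_c11 LD3_c57) (LK LD1_c25 LD2_c0 LD3_c52) Lrfl Lrfl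
theorem f244307 : Led Lsl_dt (LP (LK LD1_c20 LD2_c2 LD3_c55)) = (LP (LK LD1_c11 LD2_c9 LD3_c1)) :=
  Lre_d IH (LK LD1_c20 LD2_c2 LD3_c55) (LK LD1_c11 LD2_c9 LD3_c1) Lrfl Lrfl
theorem f244308 : Led Lsl_ct (LP (LK LD1_c29 LD2_c16 LD3_c23)) = (LP (LK LD1_c20 LD2_c2 LD3_c55)) :=
  Lre_c IH (LK LD1_c29 LD2_c16 LD3_c23) (LK LD1_c20 LD2_c2 LD3_c55) Lrfl Lrfl
theorem f296450 : Led Lsl_df (LP (LK LD1_c29 LD2_c16 LD3_c23)) = (LP (LK LD1_c25 LD2_c0 LD3_c52)) :=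
  Lgr Lrot13 (Lpr_ct (f244308 IH) (Lpr_dt (f244307 IH) (Lpr_ct (f244303 IH) (Lpr_af (f244002 IH) (Lpe (f296254 IH) (Lpe (f296417 IH) (Lpr_ct (f296440 IH) (Lpr_dt (f33864 IH) (Lpr_ct (f296446 IH) (Lpn (LP (LK LD1_c25 LD2_c0 LD3_c52))))))))))))
theorem f244305 : Led Lsl_dt (LP (LK LD1_c11 LD2_c9 LD3_c1)) = (LP (LK LD1_c20 LD2_c2 LD3_c55)) :=
  Lre_d IH (LK LD1_c11 LD2_c9 LD3_c1) (LK LD1_c20 LD2_c2 LD3_c55) Lrfl Lrfl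
theorem f244006 : Led Lsl_dt (LP (LK LD1_c25 LD2_c6 LD3_c34)) = (LP (LK LD1_c15 LD2_c16 LD3_c32)) :=
  Lre_d IH (LK LD1_c25 LD2_c6 LD3_c34) (LK LD1_c15 LD2_c16 LD3_c32) Lrfl Lrfl
theorem f244315 : Led Lsl_at (LP (LK LD1_c20 LD2_c2 LD3_c55)) = (LP (LK LD1_c25 LD2_c6 LD3_c34)) :=
  Lgr Lrot51 (Lpe (f244305 IH) (Lpr_af (f244309 IH) (Lpe (f244006 IH) (Lpn (LP (LK LD1_c25 LD2_c6 LD3_c34))))))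
theorem f244317 : Led Lsl_af (LP (LK LD1_c20 LD2_c2 LD3_c55)) = (LP (LK LD1_c25 LD2_c6 LD3_c34)) :=
  Lgr Lrot0 (Lpr_at (f244315 IH) (Lpn (LP (LK LD1_c25 LD2_c6 LD3_c34))))
theorem f296452 : Led Lsl_ft (LP (LK LD1_c15 LD2_c17 LD3_c58)) = (LP (LK LD1_c25 LD2_c6 LD3_c34)) :=
  Lgr Lrot142 (Lpr_dt (f220315 IH) (Lpr_ct (f220271 IH) (Lpe (f296417 IH) (Lpr_ct (f296440 IH) (Lpr_dt (f33864 IH) (Lpr_ct (f296446 IH) (Lpe (f296450 IH) (Lpr_ct (f244308 IH) (Lpr_af (f244317 IH) (Lpn (LP (LK LD1_c25 LD2_c6 LD3_c34))))))))))))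
theorem f243914 : Led Lsl_dt (LP (LK LD1_c11 LD2_c9 LD3_c0)) = (LP (LK LD1_c5 LD2_c39 LD3_c1)) :=
  Lre_d IH (LK LD1_c11 LD2_c9 LD3_c0) (LK LD1_c5 LD2_c39 LD3_c1) Lrfl Lrfl
theorem f226789 : Led Lsl_dt (LP (LK LD1_c8 LD2_c7 LD3_c27)) = (LP (LK LD1_c15 LD2_c17 LD3_c58)) :=
  Lre_d IH (LK LD1_c8 LD2_c7 LD3_c27) (LK LD1_c15 LD2_c17 LD3_c58) Lrfl Lrfl
theorem f243916 : Led Lsl_ef (LP (LK LD1_c11 LD2_c9 LD3_c0)) = (LP (LK LD1_c15 LD2_c17 LD3_c58)) :=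
  Lgr Lrot73 (Lpr_dt (f243914 IH) (Lpr_et (f243913 IH) (Lpr_dt (K13.f243712 IH) (Lpr_et (K17.f243915 IH) (Lpr_dt (f226789 IH) (Lpn (LP (LK LD1_c15 LD2_c17 LD3_c58))))))))
theorem f244397 : Led Lsl_et (LP (LK LD1_c11 LD2_c9 LD3_c0)) = (LP (LK LD1_c15 LD2_c17 LD3_c58)) :=
  Lgr Lrot87 (Lpr_ef (f243916 IH) (Lpn (LP (LK LD1_c15 LD2_c17 LD3_c58))))
theorem f244313 : Led Lsl_ft (LP (LK LD1_c20 LD2_c2 LD3_c55)) = (LP (LK LD1_c11 LD2_c9 LD3_c0)) :=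
  Lre_f IH (LK LD1_c20 LD2_c2 LD3_c55) (LK LD1_c11 LD2_c9 LD3_c0) Lrfl Lrfl
theorem f244320 : Led Lsl_et (LP (LK LD1_c29 LD2_c16 LD3_c24)) = (LP (LK LD1_c20 LD2_c2 LD3_c55)) :=
  Lre_e IH (LK LD1_c29 LD2_c16 LD3_c24) (LK LD1_c20 LD2_c2 LD3_c55) Lrfl Lrfl
theorem f244321 : Led Lsl_et (LP (LK LD1_c25 LD2_c6 LD3_c34)) = (LP (LK LD1_c31 LD2_c46 LD3_c17)) :=
  Lre_e IH (LK LD1_c25 LD2_c6 LD3_c34) (LK LD1_c31 LD2_c46 LD3_c17) Lrfl Lrfl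
theorem f296462 : Led Lsl_ff (LP (LK LD1_c29 LD2_c16 LD3_c24)) = (LP (LK LD1_c31 LD2_c46 LD3_c17)) :=
  Lgr Lrot72 (Lpr_et (f244320 IH) (Lpr_ft (f244313 IH) (Lpr_et (f244397 IH) (Lpr_ft (f296452 IH) (Lpr_et (f244321 IH) (Lpn (LP (LK LD1_c31 LD2_c46 LD3_c17))))))))
theorem f228197 : Led Lsl_et (LP (LK LD1_c31 LD2_c47 LD3_c16)) = (LP (LK LD1_c25 LD2_c8 LD3_c31)) :=
  Lre_e IH (LK LD1_c31 LD2_c47 LD3_c16) (LK LD1_c25 LD2_c8 LD3_c31) Lrfl Lrfl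
theorem f244334 : Led Lsl_et (LP (LK LD1_c20 LD2_c2 LD3_c55)) = (LP (LK LD1_c29 LD2_c16 LD3_c24)) :=
  Lre_e IH (LK LD1_c20 LD2_c2 LD3_c55) (LK LD1_c29 LD2_c16 LD3_c24) Lrfl Lrfl
theorem f296305 : Led Lsl_df (LP (LK LD1_c31 LD2_c47 LD3_c16)) = (LP (LK LD1_c29 LD2_c16 LD3_c24)) :=
  Lgr Lrot70 (Lpr_et (f228197 IH) (Lpr_dt (K15.f28888 IH) (Lpr_et (f296298 IH) (Lpr_dt (f244305 IH) (Lpr_et (f244334 IH) (Lpn (LP (LK LD1_c29 LD2_c16 LD3_c24))))))))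
theorem f228177 : Led Lsl_et (LP (LK LD1_c2 LD2_c45 LD3_c30)) = (LP (LK LD1_c5 LD2_c39 LD3_c3)) :=
  Lre_e IH (LK LD1_c2 LD2_c45 LD3_c30) (LK LD1_c5 LD2_c39 LD3_c3) Lrfl Lrfl
theorem f226907 : Led Lsl_et (LP (LK LD1_c8 LD2_c7 LD3_c22)) = (LP (LK LD1_c4 LD2_c3 LD3_c24)) :=
  Lre_e IH (LK LD1_c8 LD2_c7 LD3_c22) (LK LD1_c4 LD2_c3 LD3_c24) Lrfl Lrfl
theorem f28848 : Led Lsl_dt (LP (LK LD1_c15 LD2_c17 LD3_c49)) = (LP (LK LD1_c8 LD2_c7 LD3_c22)) :=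
  Lre_d IH (LK LD1_c15 LD2_c17 LD3_c49) (LK LD1_c8 LD2_c7 LD3_c22) Lrfl Lrfl
theorem f228178 : Led Lsl_et (LP (LK LD1_c11 LD2_c9 LD3_c6)) = (LP (LK LD1_c15 LD2_c17 LD3_c49)) :=
  Lgr Lrot71 (Lpe (f228147 IH) (Lpe (f228177 IH) (Lpr_df (K13.f228156 IH) (Lpe (f226907 IH) (Lpe (f28848 IH) (Lpn (LP (LK LD1_c15 LD2_c17 LD3_c49))))))))
theorem f228145 : Led Lsl_ft (LP (LK LD1_c20 LD2_c3 LD3_c5)) = (LP (LK LD1_c11 LD2_c9 LD3_c6)) :=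
  Lre_f IH (LK LD1_c20 LD2_c3 LD3_c5) (LK LD1_c11 LD2_c9 LD3_c6) Lrfl Lrfl
theorem f228189 : Led Lsl_et (LP (LK LD1_c29 LD2_c16 LD3_c34)) = (LP (LK LD1_c20 LD2_c3 LD3_c5)) :=
  Lre_e IH (LK LD1_c29 LD2_c16 LD3_c34) (LK LD1_c20 LD2_c3 LD3_c5) Lrfl Lrfl
theorem f28856 : Led Lsl_ft (LP (LK LD1_c15 LD2_c17 LD3_c49)) = (LP (LK LD1_c25 LD2_c8 LD3_c31)) :=
  Lre_f IH (LK LD1_c15 LD2_c17 LD3_c49) (LK LD1_c25 LD2_c8 LD3_c31) Lrfl Lrfl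
theorem f228190 : Led Lsl_et (LP (LK LD1_c25 LD2_c8 LD3_c31)) = (LP (LK LD1_c31 LD2_c47 LD3_c16)) :=
  Lre_e IH (LK LD1_c25 LD2_c8 LD3_c31) (LK LD1_c31 LD2_c47 LD3_c16) Lrfl Lrfl
theorem f228191 : Led Lsl_ff (LP (LK LD1_c29 LD2_c16 LD3_c34)) = (LP (LK LD1_c31 LD2_c47 LD3_c16)) :=
  Lgr Lrot72 (Lpr_et (f228189 IH) (Lpr_ft (f228145 IH) (Lpr_et (f228178 IH) (Lpr_ft (f28856 IH) (Lpr_et (f228190 IH) (Lpn (LP (LK LD1_c31 LD2_c47 LD3_c16))))))))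
theorem f296469 : Led Lsl_dt (LP (LK LD1_c29 LD2_c16 LD3_c34)) = (LP (LK LD1_c31 LD2_c46 LD3_c17)) :=
  Lgr Lrot60 (Lpr_ff (f228191 IH) (Lpr_df (f296305 IH) (Lpr_ff (f296462 IH) (Lpn (LP (LK LD1_c31 LD2_c46 LD3_c17))))))
theorem f296532 : Led Lsl_df (LP (LK LD1_c29 LD2_c16 LD3_c34)) = (LP (LK LD1_c31 LD2_c46 LD3_c17)) :=
  Lgr Lrot38 (Lpr_dt (f296469 IH) (Lpn (LP (LK LD1_c31 LD2_c46 LD3_c17))))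
theorem f228141 : Led Lsl_dt (LP (LK LD1_c20 LD2_c3 LD3_c5)) = (LP (LK LD1_c11 LD2_c9 LD3_c7)) :=
  Lre_d IH (LK LD1_c20 LD2_c3 LD3_c5) (LK LD1_c11 LD2_c9 LD3_c7) Lrfl Lrfl
theorem f244328 : Led Lsl_dt (LP (LK LD1_c15 LD2_c16 LD3_c32)) = (LP (LK LD1_c25 LD2_c6 LD3_c34)) :=
  Lre_d IH (LK LD1_c15 LD2_c16 LD3_c32) (LK LD1_c25 LD2_c6 LD3_c34) Lrfl Lrfl
theorem f296536 : Led Lsl_et (LP (LK LD1_c11 LD2_c9 LD3_c7)) = (LP (LK LD1_c15 LD2_c16 LD3_c32)) :=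
  Lgr Lrot71 (Lpe (f228141 IH) (Lpe (f228189 IH) (Lpr_df (f296532 IH) (Lpe (f244321 IH) (Lpe (f244328 IH) (Lpn (LP (LK LD1_c15 LD2_c16 LD3_c32))))))))
theorem f244335 : Led Lsl_bt (LP (LK LD1_c15 LD2_c16 LD3_c32)) = (LP (LK LD1_c25 LD2_c6 LD3_c33)) :=
  Lre_b IH (LK LD1_c15 LD2_c16 LD3_c32) (LK LD1_c25 LD2_c6 LD3_c33) Lrfl Lrfl
theorem f296538 : Led Lsl_ef (LP (LK LD1_c20 LD2_c3 LD3_c2)) = (LP (LK LD1_c25 LD2_c6 LD3_c33)) :=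
  Lgr Lrot29 (Lpr_bt (K12.f228133 IH) (Lpr_et (f296536 IH) (Lpr_bt (f244335 IH) (Lpn (LP (LK LD1_c25 LD2_c6 LD3_c33))))))
theorem f296567 : Led Lsl_et (LP (LK LD1_c20 LD2_c3 LD3_c2)) = (LP (LK LD1_c25 LD2_c6 LD3_c33)) :=
  Lgr Lrot87 (Lpr_ef (f296538 IH) (Lpn (LP (LK LD1_c25 LD2_c6 LD3_c33))))
theorem f228212 : Led Lsl_et (LP (LK LD1_c5 LD2_c39 LD3_c2)) = (LP (LK LD1_c11 LD2_c9 LD3_c5)) :=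
  Lre_e IH (LK LD1_c5 LD2_c39 LD3_c2) (LK LD1_c11 LD2_c9 LD3_c5) Lrfl Lrfl
theorem f220262 : Led Lsl_bt (LP (LK LD1_c15 LD2_c17 LD3_c56)) = (LP (LK LD1_c8 LD2_c7 LD3_c27)) :=
  Lre_b IH (LK LD1_c15 LD2_c17 LD3_c56) (LK LD1_c8 LD2_c7 LD3_c27) Lrfl Lrfl
theorem f296281 : Led Lsl_ff (LP (LK LD1_c15 LD2_c17 LD3_c56)) = (LP (LK LD1_c25 LD2_c6 LD3_c33)) :=
  Lgr Lrot25 (Lpr_bt (f220262 IH) (Lpr_ft (f296267 IH) (Lpr_bt (f244335 IH) (Lpn (LP (LK LD1_c25 LD2_c6 LD3_c33))))))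
theorem f220274 : Led Lsl_et (LP (LK LD1_c15 LD2_c17 LD3_c56)) = (LP (LK LD1_c8 LD2_c7 LD3_c26)) :=
  Lre_e IH (LK LD1_c15 LD2_c17 LD3_c56) (LK LD1_c8 LD2_c7 LD3_c26) Lrfl Lrfl
theorem f296570 : Led Lsl_ff (LP (LK LD1_c5 LD2_c39 LD3_c2)) = (LP (LK LD1_c8 LD2_c7 LD3_c26)) :=
  Lgr Lrot72 (Lpr_et (f228212 IH) (Lpr_ft (K12.f228113 IH) (Lpr_et (f296567 IH) (Lpe (f296281 IH) (Lpr_et (f220274 IH) (Lpn (LP (LK LD1_c8 LD2_c7 LD3_c26))))))))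
theorem f296576 : Led Lsl_ft (LP (LK LD1_c5 LD2_c39 LD3_c2)) = (LP (LK LD1_c8 LD2_c7 LD3_c26)) :=
  Lgr Lrot48 (Lpr_ff (f296570 IH) (Lpn (LP (LK LD1_c8 LD2_c7 LD3_c26))))
theorem f196667 : Led Lsl_bt (LP (LK LD1_c8 LD2_c7 LD3_c21)) = (LP (LK LD1_c4 LD2_c3 LD3_c24)) :=
  Lre_b IH (LK LD1_c8 LD2_c7 LD3_c21) (LK LD1_c4 LD2_c3 LD3_c24) Lrfl Lrfl
theorem f228173 : Led Lsl_dt (LP (LK LD1_c5 LD2_c39 LD3_c2)) = (LP (LK LD1_c8 LD2_c7 LD3_c21)) :=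
  Lgr Lrot79 (Lpe (K12.f228038 IH) (Lpr_df (K13.f228156 IH) (Lpe (f196667 IH) (Lpn (LP (LK LD1_c8 LD2_c7 LD3_c21))))))
theorem f196624 : Led Lsl_bt (LP (LK LD1_c5 LD2_c22 LD3_c32)) = (LP (LK LD1_c10 LD2_c35 LD3_c22)) :=
  Lre_b IH (LK LD1_c5 LD2_c22 LD3_c32) (LK LD1_c10 LD2_c35 LD3_c22) Lrfl Lrfl
theorem f196668 : Led Lsl_ct (LP (LK LD1_c10 LD2_c35 LD3_c22)) = (LP (LK LD1_c8 LD2_c7 LD3_c21)) :=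
  Lgr Lrot83 (Lpe (f196624 IH) (Lpe (K13.f196615 IH) (Lpr_bf (K13.f196663 IH) (Lpe (K12.f28836 IH) (Lpe (f196667 IH) (Lpn (LP (LK LD1_c8 LD2_c7 LD3_c21))))))))
theorem f196674 : Led Lsl_cf (LP (LK LD1_c10 LD2_c35 LD3_c22)) = (LP (LK LD1_c8 LD2_c7 LD3_c21)) :=
  Lgr Lrot11 (Lpr_ct (f196668 IH) (Lpn (LP (LK LD1_c8 LD2_c7 LD3_c21))))
theorem f263931 : Led Lsl_bt (LP (LK LD1_c17 LD2_c50 LD3_c52)) = (LP (LK LD1_c9 LD2_c42 LD3_c13)) :=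
  Lre_b IH (LK LD1_c17 LD2_c50 LD3_c52) (LK LD1_c9 LD2_c42 LD3_c13) Lrfl Lrfl
theorem f263933 : Led Lsl_df (LP (LK LD1_c17 LD2_c50 LD3_c52)) = (LP (LK LD1_c10 LD2_c35 LD3_c22)) :=
  Lgr Lrot12 (Lpr_bt (f263931 IH) (Lpr_dt (K15.f263928 IH) (Lpr_bt (f196624 IH) (Lpn (LP (LK LD1_c10 LD2_c35 LD3_c22))))))
theorem f263932 : Led Lsl_ct (LP (LK LD1_c17 LD2_c50 LD3_c52)) = (LP (LK LD1_c27 LD2_c37 LD3_c46)) :=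
  Lre_c IH (LK LD1_c17 LD2_c50 LD3_c52) (LK LD1_c27 LD2_c37 LD3_c46) Lrfl Lrfl
theorem f220305 : Led Lsl_at (LP (LK LD1_c8 LD2_c7 LD3_c26)) = (LP (LK LD1_c15 LD2_c17 LD3_c55)) :=
  Lre_a IH (LK LD1_c8 LD2_c7 LD3_c26) (LK LD1_c15 LD2_c17 LD3_c55) Lrfl Lrfl
theorem f220232 : Led Lsl_ct (LP (LK LD1_c5 LD2_c29 LD3_c47)) = (LP (LK LD1_c2 LD2_c41 LD3_c13)) :=
  Lre_c IH (LK LD1_c5 LD2_c29 LD3_c47) (LK LD1_c2 LD2_c41 LD3_c13) Lrfl Lrfl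
theorem f220233 : Led Lsl_bt (LP (LK LD1_c10 LD2_c50 LD3_c47)) = (LP (LK LD1_c5 LD2_c29 LD3_c47)) :=
  Lre_b IH (LK LD1_c10 LD2_c50 LD3_c47) (LK LD1_c5 LD2_c29 LD3_c47) Lrfl Lrfl
theorem f220235 : Led Lsl_bt (LP (LK LD1_c8 LD2_c7 LD3_c27)) = (LP (LK LD1_c15 LD2_c17 LD3_c56)) :=
  Lre_b IH (LK LD1_c8 LD2_c7 LD3_c27) (LK LD1_c15 LD2_c17 LD3_c56) Lrfl Lrfl
theorem f220236 : Led Lsl_cf (LP (LK LD1_c10 LD2_c50 LD3_c47)) = (LP (LK LD1_c15 LD2_c17 LD3_c56)) :=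
  Lgr Lrot97 (Lpr_bt (f220233 IH) (Lpr_ct (f220232 IH) (Lpr_bt (K17.f220228 IH) (Lpr_ct (K17.f220234 IH) (Lpr_bt (f220235 IH) (Lpn (LP (LK LD1_c15 LD2_c17 LD3_c56))))))))
theorem f220245 : Led Lsl_ct (LP (LK LD1_c10 LD2_c50 LD3_c47)) = (LP (LK LD1_c15 LD2_c17 LD3_c56)) :=
  Lgr Lrot59 (Lpr_cf (f220236 IH) (Lpn (LP (LK LD1_c15 LD2_c17 LD3_c56))))
theorem f220273 : Led Lsl_et (LP (LK LD1_c5 LD2_c29 LD3_c45)) = (LP (LK LD1_c10 LD2_c50 LD3_c47)) :=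
  Lre_e IH (LK LD1_c5 LD2_c29 LD3_c45) (LK LD1_c10 LD2_c50 LD3_c47) Lrfl Lrfl
theorem f220275 : Led Lsl_cf (LP (LK LD1_c5 LD2_c29 LD3_c45)) = (LP (LK LD1_c8 LD2_c7 LD3_c26)) :=
  Lgr Lrot39 (Lpr_et (f220273 IH) (Lpr_ct (f220245 IH) (Lpr_et (f220274 IH) (Lpn (LP (LK LD1_c8 LD2_c7 LD3_c26))))))
theorem f220282 : Led Lsl_at (LP (LK LD1_c5 LD2_c29 LD3_c45)) = (LP (LK LD1_c10 LD2_c50 LD3_c45)) :=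
  Lre_a IH (LK LD1_c5 LD2_c29 LD3_c45) (LK LD1_c10 LD2_c50 LD3_c45) Lrfl Lrfl
theorem f220283 : Led Lsl_at (LP (LK LD1_c15 LD2_c17 LD3_c55)) = (LP (LK LD1_c8 LD2_c7 LD3_c26)) :=
  Lre_a IH (LK LD1_c15 LD2_c17 LD3_c55) (LK LD1_c8 LD2_c7 LD3_c26) Lrfl Lrfl
theorem f220284 : Led Lsl_ct (LP (LK LD1_c10 LD2_c50 LD3_c45)) = (LP (LK LD1_c15 LD2_c17 LD3_c55)) :=
  Lgr Lrot111 (Lpe (f220282 IH) (Lpr_cf (f220275 IH) (Lpe (f220283 IH) (Lpn (LP (LK LD1_c15 LD2_c17 LD3_c55))))))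
theorem f220301 : Led Lsl_dt (LP (LK LD1_c19 LD2_c36 LD3_c17)) = (LP (LK LD1_c10 LD2_c50 LD3_c45)) :=
  Lre_d IH (LK LD1_c19 LD2_c36 LD3_c17) (LK LD1_c10 LD2_c50 LD3_c45) Lrfl Lrfl
theorem f220302 : Led Lsl_ct (LP (LK LD1_c28 LD2_c58 LD3_c4)) = (LP (LK LD1_c19 LD2_c36 LD3_c17)) :=
  Lre_c IH (LK LD1_c28 LD2_c58 LD3_c4) (LK LD1_c19 LD2_c36 LD3_c17) Lrfl Lrfl
theorem f296587 : Led Lsl_dt (LP (LK LD1_c27 LD2_c37 LD3_c46)) = (LP (LK LD1_c28 LD2_c58 LD3_c4)) :=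
  Lgr Lrot140 (Lpe (f263932 IH) (Lpr_df (f263933 IH) (Lpr_cf (f196674 IH) (Lpe (f228173 IH) (Lpr_ft (f296576 IH) (Lpr_at (f220305 IH) (Lpe (f220284 IH) (Lpe (f220301 IH) (Lpe (f220302 IH) (Lpn (LP (LK LD1_c28 LD2_c58 LD3_c4))))))))))))
theorem f228087 : Led Lsl_cf (LP (LK LD1_c5 LD2_c39 LD3_c2)) = (LP (LK LD1_c8 LD2_c55 LD3_c42)) :=
  Lgr Lrot11 (Lpr_ct (K12.f228039 IH) (Lpn (LP (LK LD1_c8 LD2_c55 LD3_c42))))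
theorem f179298 : Led Lsl_dt (LP (LK LD1_c16 LD2_c42 LD3_c48)) = (LP (LK LD1_c8 LD2_c55 LD3_c42)) :=
  Lre_d IH (LK LD1_c16 LD2_c42 LD3_c48) (LK LD1_c8 LD2_c55 LD3_c42) Lrfl Lrfl
theorem f296593 : Led Lsl_at (LP (LK LD1_c10 LD2_c50 LD3_c46)) = (LP (LK LD1_c19 LD2_c36 LD3_c17)) :=
  Lre_a IH (LK LD1_c10 LD2_c50 LD3_c46) (LK LD1_c19 LD2_c36 LD3_c17) Lrfl Lrfl
theorem f296594 : Led Lsl_ft (LP (LK LD1_c16 LD2_c42 LD3_c48)) = (LP (LK LD1_c10 LD2_c50 LD3_c46)) :=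
  Lgr Lrot142 (Lpr_dt (f179298 IH) (Lpe (f228087 IH) (Lpr_dt (f228173 IH) (Lpe (f196674 IH) (Lpe (f263933 IH) (Lpr_ct (f263932 IH) (Lpr_dt (f296587 IH) (Lpr_ct (f220302 IH) (Lpe (f296593 IH) (Lpn (LP (LK LD1_c10 LD2_c50 LD3_c46))))))))))))
theorem f296598 : Led Lsl_ff (LP (LK LD1_c16 LD2_c42 LD3_c48)) = (LP (LK LD1_c10 LD2_c50 LD3_c46)) :=
  Lgr Lrot3 (Lpr_ft (f296594 IH) (Lpn (LP (LK LD1_c10 LD2_c50 LD3_c46))))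
theorem f296600 : Led Lsl_at (LP (LK LD1_c19 LD2_c36 LD3_c17)) = (LP (LK LD1_c10 LD2_c50 LD3_c46)) :=
  Lre_a IH (LK LD1_c19 LD2_c36 LD3_c17) (LK LD1_c10 LD2_c50 LD3_c46) Lrfl Lrfl
theorem f296601 : Led Lsl_ft (LP (LK LD1_c26 LD2_c41 LD3_c31)) = (LP (LK LD1_c19 LD2_c36 LD3_c17)) :=
  Lgr Lrot101 (Lpe (K15.f262008 IH) (Lpr_ff (f296598 IH) (Lpe (f296600 IH) (Lpn (LP (LK LD1_c19 LD2_c36 LD3_c17))))))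
theorem f296606 : Led Lsl_ff (LP (LK LD1_c16 LD2_c42 LD3_c47)) = (LP (LK LD1_c10 LD2_c50 LD3_c45)) :=
  Lgr Lrot19 (Lpr_dt (K15.f262015 IH) (Lpr_ft (f296601 IH) (Lpr_dt (f220301 IH) (Lpn (LP (LK LD1_c10 LD2_c50 LD3_c45))))))
theorem f228093 : Led Lsl_at (LP (LK LD1_c16 LD2_c42 LD3_c47)) = (LP (LK LD1_c8 LD2_c55 LD3_c42)) :=
  Lre_a IH (LK LD1_c16 LD2_c42 LD3_c47) (LK LD1_c8 LD2_c55 LD3_c42) Lrfl Lrfl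
theorem f228096 : Led Lsl_gt (LP (LK LD1_c16 LD2_c42 LD3_c46)) = (LP (LK LD1_c8 LD2_c55 LD3_c42)) :=
  Lre_g IH (LK LD1_c16 LD2_c42 LD3_c46) (LK LD1_c8 LD2_c55 LD3_c42) Lrfl Lrfl
theorem f296613 : Led Lsl_gf (LP (LK LD1_c16 LD2_c42 LD3_c46)) = (LP (LK LD1_c10 LD2_c50 LD3_c45)) :=
  Lgr Lrot47 (Lpr_gt (f228096 IH) (Lpe (f228093 IH) (Lpr_ff (f296606 IH) (Lpn (LP (LK LD1_c10 LD2_c50 LD3_c45))))))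
theorem f179422 : Led Lsl_bt (LP (LK LD1_c5 LD2_c39 LD3_c2)) = (LP (LK LD1_c2 LD2_c45 LD3_c30)) :=
  Lre_b IH (LK LD1_c5 LD2_c39 LD3_c2) (LK LD1_c2 LD2_c45 LD3_c30) Lrfl Lrfl
theorem f179413 : Led Lsl_bt (LP (LK LD1_c2 LD2_c45 LD3_c24)) = (LP (LK LD1_c5 LD2_c38 LD3_c54)) :=
  Lre_b IH (LK LD1_c2 LD2_c45 LD3_c24) (LK LD1_c5 LD2_c38 LD3_c54) Lrfl Lrfl
theorem f179414 : Led Lsl_gt (LP (LK LD1_c5 LD2_c38 LD3_c54)) = (LP (LK LD1_c11 LD2_c8 LD3_c39)) :=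
  Lre_g IH (LK LD1_c5 LD2_c38 LD3_c54) (LK LD1_c11 LD2_c8 LD3_c39) Lrfl Lrfl
theorem f179424 : Led Lsl_bt (LP (LK LD1_c20 LD2_c2 LD3_c10)) = (LP (LK LD1_c11 LD2_c8 LD3_c39)) :=
  Lre_b IH (LK LD1_c20 LD2_c2 LD3_c10) (LK LD1_c11 LD2_c8 LD3_c39) Lrfl Lrfl
theorem f228097 : Led Lsl_ct (LP (LK LD1_c20 LD2_c2 LD3_c10)) = (LP (LK LD1_c16 LD2_c42 LD3_c46)) :=
  Lgr Lrot64 (Lpr_bt (f179424 IH) (Lpe (f179414 IH) (Lpe (f179413 IH) (Lpr_ct (K13.f179412 IH) (Lpe (K13.f179411 IH) (Lpe (K12.f178112 IH) (Lpe (K12.f178108 IH) (Lpe (f179422 IH) (Lpr_ct (K12.f228039 IH) (Lpe (f228096 IH) (Lpn (LP (LK LD1_c16 LD2_c42 LD3_c46)))))))))))))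
theorem f228100 : Led Lsl_cf (LP (LK LD1_c20 LD2_c2 LD3_c10)) = (LP (LK LD1_c16 LD2_c42 LD3_c46)) :=
  Lgr Lrot11 (Lpr_ct (f228097 IH) (Lpn (LP (LK LD1_c16 LD2_c42 LD3_c46))))
theorem f286676 : Led Lsl_gf (LP (LK LD1_c15 LD2_c22 LD3_c12)) = (LP (LK LD1_c11 LD2_c8 LD3_c39)) :=
  Lgr Lrot76 (Lpe (K17.f247294 IH) (Lpr_ff (K17.f286670 IH) (Lpr_gt (f179414 IH) (Lpn (LP (LK LD1_c11 LD2_c8 LD3_c39))))))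
theorem f244543 : Led Lsl_at (LP (LK LD1_c10 LD2_c46 LD3_c56)) = (LP (LK LD1_c5 LD2_c27 LD3_c53)) :=
  Lre_a IH (LK LD1_c10 LD2_c46 LD3_c56) (LK LD1_c5 LD2_c27 LD3_c53) Lrfl Lrfl
theorem f179429 : Led Lsl_gt (LP (LK LD1_c10 LD2_c46 LD3_c55)) = (LP (LK LD1_c5 LD2_c27 LD3_c53)) :=
  Lre_g IH (LK LD1_c10 LD2_c46 LD3_c55) (LK LD1_c5 LD2_c27 LD3_c53) Lrfl Lrfl
theorem f286600 : Led Lsl_gt (LP (LK LD1_c16 LD2_c44 LD3_c22)) = (LP (LK LD1_c10 LD2_c46 LD3_c55)) :=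
  Lgr Lrot5 (Lpr_ft (K17.f286589 IH) (Lpr_at (f244543 IH) (Lpe (f179429 IH) (Lpn (LP (LK LD1_c10 LD2_c46 LD3_c55))))))
theorem f199691 : Led Lsl_bt (LP (LK LD1_c0 LD2_c56 LD3_c13)) = (LP (LK LD1_c0 LD2_c25 LD3_c30)) :=
  Lre_b IH (LK LD1_c0 LD2_c56 LD3_c13) (LK LD1_c0 LD2_c25 LD3_c30) Lrfl Lrfl
theorem f200822 : Led Lsl_bt (LP (LK LD1_c0 LD2_c56 LD3_c18)) = (LP (LK LD1_c1 LD2_c59 LD3_c2)) :=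
  Lre_b IH (LK LD1_c0 LD2_c56 LD3_c18) (LK LD1_c1 LD2_c59 LD3_c2) Lrfl Lrfl
theorem f200823 : Led Lsl_gt (LP (LK LD1_c1 LD2_c59 LD3_c2)) = (LP (LK LD1_c4 LD2_c4 LD3_c11)) :=
  Lre_g IH (LK LD1_c1 LD2_c59 LD3_c2) (LK LD1_c4 LD2_c4 LD3_c11) Lrfl Lrfl
theorem f238634 : Led Lsl_dt (LP (LK LD1_c4 LD2_c4 LD3_c11)) = (LP (LK LD1_c8 LD2_c9 LD3_c9)) :=
  Lre_d IH (LK LD1_c4 LD2_c4 LD3_c11) (LK LD1_c8 LD2_c9 LD3_c9) Lrfl Lrfl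
theorem f238635 : Led Lsl_ct (LP (LK LD1_c8 LD2_c9 LD3_c9)) = (LP (LK LD1_c15 LD2_c21 LD3_c9)) :=
  Lre_c IH (LK LD1_c8 LD2_c9 LD3_c9) (LK LD1_c15 LD2_c21 LD3_c9) Lrfl Lrfl
theorem f238636 : Led Lsl_bt (LP (LK LD1_c15 LD2_c21 LD3_c9)) = (LP (LK LD1_c25 LD2_c12 LD3_c27)) :=
  Lre_b IH (LK LD1_c15 LD2_c21 LD3_c9) (LK LD1_c25 LD2_c12 LD3_c27) Lrfl Lrfl
theorem f280038 : Led Lsl_gf (LP (LK LD1_c19 LD2_c14 LD3_c57)) = (LP (LK LD1_c25 LD2_c12 LD3_c27)) :=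
  Lgr Lrot85 (Lpr_dt (K16.f280030 IH) (Lpr_ct (K16.f236679 IH) (Lpr_bt (K16.f238880 IH) (Lpe (K13.f238877 IH) (Lpr_dt (K13.f236475 IH) (Lpr_ct (K13.f227942 IH) (Lpr_bt (K14.f238620 IH) (Lpr_gt (K14.f7877 IH) (Lpr_dt (K12.f7815 IH) (Lpr_ct (K12.f201101 IH) (Lpr_bt (f199691 IH) (Lpr_gt (K11.f53071 IH) (Lpr_dt (K11.f52293 IH) (Lpr_ct (K10.f52294 IH) (Lpr_bt (f200822 IH) (Lpr_gt (f200823 IH) (Lpr_dt (f238634 IH) (Lpr_ct (f238635 IH) (Lpr_bt (f238636 IH) (Lpn (LP (LK LD1_c25 LD2_c12 LD3_c27))))))))))))))))))))))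
theorem f196680 : Led Lsl_bt (LP (LK LD1_c10 LD2_c35 LD3_c22)) = (LP (LK LD1_c5 LD2_c22 LD3_c32)) :=
  Lre_b IH (LK LD1_c10 LD2_c35 LD3_c22) (LK LD1_c5 LD2_c22 LD3_c32) Lrfl Lrfl
theorem f280040 : Led Lsl_ct (LP (LK LD1_c15 LD2_c21 LD3_c9)) = (LP (LK LD1_c8 LD2_c9 LD3_c9)) :=
  Lre_c IH (LK LD1_c15 LD2_c21 LD3_c9) (LK LD1_c8 LD2_c9 LD3_c9) Lrfl Lrfl
theorem f280041 : Led Lsl_gt (LP (LK LD1_c8 LD2_c7 LD3_c21)) = (LP (LK LD1_c8 LD2_c9 LD3_c9)) :=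
  Lgr Lrot65 (Lpe (f196668 IH) (Lpr_bt (f196680 IH) (Lpr_gf (K13.f221554 IH) (Lpe (K16.f188711 IH) (Lpr_ct (K16.f188563 IH) (Lpe (K16.f188712 IH) (Lpe (K16.f221556 IH) (Lpr_gf (f280038 IH) (Lpe (f238636 IH) (Lpr_ct (f280040 IH) (Lpn (LP (LK LD1_c8 LD2_c9 LD3_c9)))))))))))))
theorem f28837 : Led Lsl_bt (LP (LK LD1_c4 LD2_c3 LD3_c24)) = (LP (LK LD1_c8 LD2_c7 LD3_c21)) :=
  Lre_b IH (LK LD1_c4 LD2_c3 LD3_c24) (LK LD1_c8 LD2_c7 LD3_c21) Lrfl Lrfl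
theorem f200995 : Led Lsl_bt (LP (LK LD1_c5 LD2_c38 LD3_c54)) = (LP (LK LD1_c2 LD2_c45 LD3_c24)) :=
  Lre_b IH (LK LD1_c5 LD2_c38 LD3_c54) (LK LD1_c2 LD2_c45 LD3_c24) Lrfl Lrfl
theorem f243665 : Led Lsl_ct (LP (LK LD1_c5 LD2_c38 LD3_c54)) = (LP (LK LD1_c5 LD2_c27 LD3_c53)) :=
  Lre_c IH (LK LD1_c5 LD2_c38 LD3_c54) (LK LD1_c5 LD2_c27 LD3_c53) Lrfl Lrfl
theorem f280045 : Led Lsl_bt (LP (LK LD1_c15 LD2_c21 LD3_c0)) = (LP (LK LD1_c8 LD2_c9 LD3_c9)) :=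
  Lre_b IH (LK LD1_c15 LD2_c21 LD3_c0) (LK LD1_c8 LD2_c9 LD3_c9) Lrfl Lrfl
theorem f280046 : Led Lsl_cf (LP (LK LD1_c10 LD2_c46 LD3_c55)) = (LP (LK LD1_c15 LD2_c21 LD3_c0)) :=
  Lgr Lrot160 (Lpr_gt (f179429 IH) (Lpe (f243665 IH) (Lpr_bt (f200995 IH) (Lpe (K15.f196939 IH) (Lpr_ct (K11.f28918 IH) (Lpr_gt (K9.f28823 IH) (Lpe (K12.f28836 IH) (Lpr_bt (f28837 IH) (Lpr_gt (f280041 IH) (Lpe (f280045 IH) (Lpn (LP (LK LD1_c15 LD2_c21 LD3_c0)))))))))))))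
theorem f280055 : Led Lsl_ct (LP (LK LD1_c10 LD2_c46 LD3_c55)) = (LP (LK LD1_c15 LD2_c21 LD3_c0)) :=
  Lgr Lrot59 (Lpr_cf (f280046 IH) (Lpn (LP (LK LD1_c15 LD2_c21 LD3_c0))))
theorem f200872 : Led Lsl_dt (LP (LK LD1_c8 LD2_c9 LD3_c7)) = (LP (LK LD1_c15 LD2_c21 LD3_c0)) :=
  Lre_d IH (LK LD1_c8 LD2_c9 LD3_c7) (LK LD1_c15 LD2_c21 LD3_c0) Lrfl Lrfl
theorem f196915 : Led Lsl_gt (LP (LK LD1_c10 LD2_c38 LD3_c59)) = (LP (LK LD1_c5 LD2_c24 LD3_c7)) :=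
  Lre_g IH (LK LD1_c10 LD2_c38 LD3_c59) (LK LD1_c5 LD2_c24 LD3_c7) Lrfl Lrfl
theorem f52965 : Led Lsl_bt (LP (LK LD1_c8 LD2_c9 LD3_c7)) = (LP (LK LD1_c4 LD2_c4 LD3_c11)) :=
  Lre_b IH (LK LD1_c8 LD2_c9 LD3_c7) (LK LD1_c4 LD2_c4 LD3_c11) Lrfl Lrfl
theorem f200824 : Led Lsl_cf (LP (LK LD1_c10 LD2_c38 LD3_c59)) = (LP (LK LD1_c8 LD2_c9 LD3_c7)) :=
  Lgr Lrot160 (Lpr_gt (f196915 IH) (Lpe (K10.f196895 IH) (Lpr_bt (K11.f52660 IH) (Lpr_gt (K11.f200804 IH) (Lpr_ct (K11.f53032 IH) (Lpr_gt (K11.f53056 IH) (Lpe (K11.f52291 IH) (Lpr_bt (f200822 IH) (Lpr_gt (f200823 IH) (Lpe (f52965 IH) (Lpn (LP (LK LD1_c8 LD2_c9 LD3_c7)))))))))))))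
theorem f200839 : Led Lsl_ct (LP (LK LD1_c10 LD2_c38 LD3_c59)) = (LP (LK LD1_c8 LD2_c9 LD3_c7)) :=
  Lgr Lrot59 (Lpr_cf (f200824 IH) (Lpn (LP (LK LD1_c8 LD2_c9 LD3_c7))))
theorem f52695 : Led Lsl_dt (LP (LK LD1_c2 LD2_c4 LD3_c45)) = (LP (LK LD1_c4 LD2_c14 LD3_c49)) :=
  Lre_d IH (LK LD1_c2 LD2_c4 LD3_c45) (LK LD1_c4 LD2_c14 LD3_c49) Lrfl Lrfl
theorem f52829 : Led Lsl_ct (LP (LK LD1_c4 LD2_c14 LD3_c15)) = (LP (LK LD1_c2 LD2_c4 LD3_c45)) :=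
  Lre_c IH (LK LD1_c4 LD2_c14 LD3_c15) (LK LD1_c2 LD2_c4 LD3_c45) Lrfl Lrfl
theorem f52828 : Led Lsl_dt (LP (LK LD1_c8 LD2_c27 LD3_c8)) = (LP (LK LD1_c4 LD2_c14 LD3_c15)) :=
  Lre_d IH (LK LD1_c8 LD2_c27 LD3_c8) (LK LD1_c4 LD2_c14 LD3_c15) Lrfl Lrfl
theorem f52827 : Led Lsl_ct (LP (LK LD1_c15 LD2_c52 LD3_c17)) = (LP (LK LD1_c8 LD2_c27 LD3_c8)) :=
  Lre_c IH (LK LD1_c15 LD2_c52 LD3_c17) (LK LD1_c8 LD2_c27 LD3_c8) Lrfl Lrfl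
theorem f52775 : Led Lsl_dt (LP (LK LD1_c25 LD2_c48 LD3_c11)) = (LP (LK LD1_c15 LD2_c52 LD3_c17)) :=
  Lre_d IH (LK LD1_c25 LD2_c48 LD3_c11) (LK LD1_c15 LD2_c52 LD3_c17) Lrfl Lrfl
theorem f52718 : Led Lsl_ct (LP (LK LD1_c25 LD2_c46 LD3_c3)) = (LP (LK LD1_c25 LD2_c48 LD3_c11)) :=
  Lgr Lrot59 (Lpr_cf (K10.f52712 IH) (Lpn (LP (LK LD1_c25 LD2_c48 LD3_c11))))
theorem f51165 : Led Lsl_dt (LP (LK LD1_c15 LD2_c49 LD3_c61)) = (LP (LK LD1_c25 LD2_c46 LD3_c3)) :=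
  Lre_d IH (LK LD1_c15 LD2_c49 LD3_c61) (LK LD1_c25 LD2_c46 LD3_c3) Lrfl Lrfl
theorem f196881 : Led Lsl_at (LP (LK LD1_c10 LD2_c38 LD3_c60)) = (LP (LK LD1_c5 LD2_c24 LD3_c7)) :=
  Lre_a IH (LK LD1_c10 LD2_c38 LD3_c60) (LK LD1_c5 LD2_c24 LD3_c7) Lrfl Lrfl
theorem f196907 : Led Lsl_ft (LP (LK LD1_c15 LD2_c49 LD3_c61)) = (LP (LK LD1_c10 LD2_c38 LD3_c60)) :=
  Lgr Lrot142 (Lpr_dt (f51165 IH) (Lpr_ct (f52718 IH) (Lpr_dt (f52775 IH) (Lpr_ct (f52827 IH) (Lpr_dt (f52828 IH) (Lpr_ct (f52829 IH) (Lpr_dt (f52695 IH) (Lpr_ct (K10.f196895 IH) (Lpe (f196881 IH) (Lpn (LP (LK LD1_c10 LD2_c38 LD3_c60))))))))))))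
theorem f196917 : Led Lsl_gt (LP (LK LD1_c15 LD2_c49 LD3_c61)) = (LP (LK LD1_c10 LD2_c38 LD3_c59)) :=
  Lgr Lrot5 (Lpr_ft (f196907 IH) (Lpr_at (f196881 IH) (Lpe (f196915 IH) (Lpn (LP (LK LD1_c10 LD2_c38 LD3_c59))))))
theorem f52704 : Led Lsl_gt (LP (LK LD1_c4 LD2_c14 LD3_c49)) = (LP (LK LD1_c8 LD2_c28 LD3_c28)) :=
  Lre_g IH (LK LD1_c4 LD2_c14 LD3_c49) (LK LD1_c8 LD2_c28 LD3_c28) Lrfl Lrfl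
theorem f52705 : Led Lsl_gf (LP (LK LD1_c8 LD2_c25 LD3_c50)) = (LP (LK LD1_c8 LD2_c28 LD3_c28)) :=
  Lgr Lrot76 (Lpe (K10.f51146 IH) (Lpr_ff (K10.f52672 IH) (Lpr_gt (f52704 IH) (Lpn (LP (LK LD1_c8 LD2_c28 LD3_c28))))))
theorem f286681 : Led Lsl_df (LP (LK LD1_c8 LD2_c28 LD3_c28)) = (LP (LK LD1_c11 LD2_c8 LD3_c39)) :=
  Lgr Lrot155 (Lpe (f52705 IH) (Lpr_ct (K10.f51156 IH) (Lpr_gt (f196917 IH) (Lpr_ct (f200839 IH) (Lpr_dt (f200872 IH) (Lpe (f280055 IH) (Lpe (f286600 IH) (Lpe (K17.f247296 IH) (Lpr_gf (f286676 IH) (Lpn (LP (LK LD1_c11 LD2_c8 LD3_c39))))))))))))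
theorem f200849 : Led Lsl_bt (LP (LK LD1_c8 LD2_c28 LD3_c28)) = (LP (LK LD1_c15 LD2_c54 LD3_c44)) :=
  Lre_b IH (LK LD1_c8 LD2_c28 LD3_c28) (LK LD1_c15 LD2_c54 LD3_c44) Lrfl Lrfl
theorem f286685 : Led Lsl_dt (LP (LK LD1_c15 LD2_c54 LD3_c44)) = (LP (LK LD1_c20 LD2_c2 LD3_c10)) :=
  Lgr Lrot79 (Lpe (f200849 IH) (Lpr_df (f286681 IH) (Lpe (f179424 IH) (Lpn (LP (LK LD1_c20 LD2_c2 LD3_c10))))))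
theorem f52753 : Led Lsl_bt (LP (LK LD1_c15 LD2_c54 LD3_c44)) = (LP (LK LD1_c8 LD2_c28 LD3_c28)) :=
  Lre_b IH (LK LD1_c15 LD2_c54 LD3_c44) (LK LD1_c8 LD2_c28 LD3_c28) Lrfl Lrfl
theorem f52466 : Led Lsl_gt (LP (LK LD1_c4 LD2_c4 LD3_c11)) = (LP (LK LD1_c8 LD2_c9 LD3_c5)) :=
  Lre_g IH (LK LD1_c4 LD2_c4 LD3_c11) (LK LD1_c8 LD2_c9 LD3_c5) Lrfl Lrfl
theorem f50657 : Led Lsl_bt (LP (LK LD1_c4 LD2_c4 LD3_c13)) = (LP (LK LD1_c8 LD2_c3 LD3_c5)) :=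
  Lre_b IH (LK LD1_c4 LD2_c4 LD3_c13) (LK LD1_c8 LD2_c3 LD3_c5) Lrfl Lrfl
theorem f52453 : Led Lsl_bt (LP (LK LD1_c8 LD2_c9 LD3_c16)) = (LP (LK LD1_c8 LD2_c9 LD3_c5)) :=
  Lgr Lrot35 (Lpr_ff (K10.f52446 IH) (Lpe (f50657 IH) (Lpe (K10.f52452 IH) (Lpn (LP (LK LD1_c8 LD2_c9 LD3_c5))))))
theorem f52455 : Led Lsl_ct (LP (LK LD1_c8 LD2_c9 LD3_c16)) = (LP (LK LD1_c15 LD2_c21 LD3_c28)) :=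
  Lre_c IH (LK LD1_c8 LD2_c9 LD3_c16) (LK LD1_c15 LD2_c21 LD3_c28) Lrfl Lrfl
theorem f31010 : Led Lsl_ct (LP (LK LD1_c15 LD2_c8 LD3_c58)) = (LP (LK LD1_c8 LD2_c3 LD3_c5)) :=
  Lre_c IH (LK LD1_c15 LD2_c8 LD3_c58) (LK LD1_c8 LD2_c3 LD3_c5) Lrfl Lrfl
theorem f52456 : Led Lsl_ft (LP (LK LD1_c15 LD2_c21 LD3_c28)) = (LP (LK LD1_c15 LD2_c8 LD3_c58)) :=
  Lgr Lrot4 (Lpe (f52455 IH) (Lpr_ff (K10.f52446 IH) (Lpe (f31010 IH) (Lpn (LP (LK LD1_c15 LD2_c8 LD3_c58))))))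
theorem f30906 : Led Lsl_at (LP (LK LD1_c15 LD2_c8 LD3_c58)) = (LP (LK LD1_c8 LD2_c2 LD3_c44)) :=
  Lre_a IH (LK LD1_c15 LD2_c8 LD3_c58) (LK LD1_c8 LD2_c2 LD3_c44) Lrfl Lrfl
theorem f30932 : Led Lsl_gt (LP (LK LD1_c15 LD2_c8 LD3_c57)) = (LP (LK LD1_c8 LD2_c2 LD3_c44)) :=
  Lre_g IH (LK LD1_c15 LD2_c8 LD3_c57) (LK LD1_c8 LD2_c2 LD3_c44) Lrfl Lrfl
theorem f52966 : Led Lsl_gt (LP (LK LD1_c15 LD2_c21 LD3_c28)) = (LP (LK LD1_c15 LD2_c8 LD3_c57)) :=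
  Lgr Lrot5 (Lpr_ft (f52456 IH) (Lpr_at (f30906 IH) (Lpe (f30932 IH) (Lpn (LP (LK LD1_c15 LD2_c8 LD3_c57))))))
theorem f200847 : Led Lsl_ct (LP (LK LD1_c15 LD2_c54 LD3_c44)) = (LP (LK LD1_c15 LD2_c8 LD3_c57)) :=
  Lgr Lrot10 (Lpr_bt (f52753 IH) (Lpe (f52705 IH) (Lpr_ct (K10.f51156 IH) (Lpr_gt (f196917 IH) (Lpr_cf (f200824 IH) (Lpr_bt (f52965 IH) (Lpr_gt (f52466 IH) (Lpe (f52453 IH) (Lpr_ct (f52455 IH) (Lpr_gt (f52966 IH) (Lpn (LP (LK LD1_c15 LD2_c8 LD3_c57)))))))))))))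
theorem f200850 : Led Lsl_cf (LP (LK LD1_c15 LD2_c54 LD3_c44)) = (LP (LK LD1_c15 LD2_c8 LD3_c57)) :=
  Lgr Lrot11 (Lpr_ct (f200847 IH) (Lpn (LP (LK LD1_c15 LD2_c8 LD3_c57))))
theorem f52277 : Led Lsl_bt (LP (LK LD1_c1 LD2_c57 LD3_c23)) = (LP (LK LD1_c4 LD2_c1 LD3_c9)) :=
  Lre_b IH (LK LD1_c1 LD2_c57 LD3_c23) (LK LD1_c4 LD2_c1 LD3_c9) Lrfl Lrfl
theorem f52278 : Led Lsl_ff (LP (LK LD1_c4 LD2_c4 LD3_c14)) = (LP (LK LD1_c4 LD2_c1 LD3_c9)) :=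
  Lgr Lrot25 (Lpr_bt (K11.f52276 IH) (Lpr_ft (K10.f52266 IH) (Lpr_bt (f52277 IH) (Lpn (LP (LK LD1_c4 LD2_c1 LD3_c9))))))
theorem f52480 : Led Lsl_at (LP (LK LD1_c4 LD2_c4 LD3_c14)) = (LP (LK LD1_c8 LD2_c9 LD3_c16)) :=
  Lre_a IH (LK LD1_c4 LD2_c4 LD3_c14) (LK LD1_c8 LD2_c9 LD3_c16) Lrfl Lrfl
theorem f52543 : Led Lsl_gt (LP (LK LD1_c4 LD2_c1 LD3_c9)) = (LP (LK LD1_c8 LD2_c3 LD3_c3)) :=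
  Lre_g IH (LK LD1_c4 LD2_c1 LD3_c9) (LK LD1_c8 LD2_c3 LD3_c3) Lrfl Lrfl
theorem f53059 : Led Lsl_gf (LP (LK LD1_c8 LD2_c9 LD3_c16)) = (LP (LK LD1_c8 LD2_c3 LD3_c3)) :=
  Lgr Lrot76 (Lpe (f52480 IH) (Lpr_ff (f52278 IH) (Lpr_gt (f52543 IH) (Lpn (LP (LK LD1_c8 LD2_c3 LD3_c3))))))
theorem f220299 : Led Lsl_cf (LP (LK LD1_c10 LD2_c50 LD3_c45)) = (LP (LK LD1_c15 LD2_c17 LD3_c55)) :=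
  Lgr Lrot11 (Lpr_ct (f220284 IH) (Lpn (LP (LK LD1_c15 LD2_c17 LD3_c55))))
theorem f228094 : Led Lsl_gt (LP (LK LD1_c5 LD2_c39 LD3_c2)) = (LP (LK LD1_c11 LD2_c9 LD3_c2)) :=
  Lre_g IH (LK LD1_c5 LD2_c39 LD3_c2) (LK LD1_c11 LD2_c9 LD3_c2) Lrfl Lrfl
theorem f296585 : Led Lsl_gt (LP (LK LD1_c11 LD2_c9 LD3_c2)) = (LP (LK LD1_c15 LD2_c17 LD3_c55)) :=
  Lgr Lrot46 (Lpe (f228094 IH) (Lpr_ft (f296576 IH) (Lpr_at (f220305 IH) (Lpn (LP (LK LD1_c15 LD2_c17 LD3_c55))))))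
theorem f296630 : Led Lsl_df (LP (LK LD1_c8 LD2_c3 LD3_c3)) = (LP (LK LD1_c11 LD2_c9 LD3_c2)) :=
  Lgr Lrot155 (Lpe (f53059 IH) (Lpr_ct (f52455 IH) (Lpr_gt (f52966 IH) (Lpe (f200850 IH) (Lpr_dt (f286685 IH) (Lpr_cf (f228100 IH) (Lpr_gf (f296613 IH) (Lpr_cf (f220299 IH) (Lpe (f296585 IH) (Lpn (LP (LK LD1_c11 LD2_c9 LD3_c2))))))))))))
theorem f52544 : Led Lsl_ct (LP (LK LD1_c8 LD2_c3 LD3_c3)) = (LP (LK LD1_c15 LD2_c9 LD3_c31)) :=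
  Lre_c IH (LK LD1_c8 LD2_c3 LD3_c3) (LK LD1_c15 LD2_c9 LD3_c31) Lrfl Lrfl
theorem f53063 : Led Lsl_bt (LP (LK LD1_c15 LD2_c9 LD3_c31)) = (LP (LK LD1_c24 LD2_c58 LD3_c34)) :=
  Lre_b IH (LK LD1_c15 LD2_c9 LD3_c31) (LK LD1_c24 LD2_c58 LD3_c34) Lrfl Lrfl
theorem f217452 : Led Lsl_bt (LP (LK LD1_c4 LD2_c55 LD3_c27)) = (LP (LK LD1_c2 LD2_c25 LD3_c36)) :=
  Lre_b IH (LK LD1_c4 LD2_c55 LD3_c27) (LK LD1_c2 LD2_c25 LD3_c36) Lrfl Lrfl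
theorem f217453 : Led Lsl_ct (LP (LK LD1_c4 LD2_c55 LD3_c27)) = (LP (LK LD1_c9 LD2_c42 LD3_c24)) :=
  Lre_c IH (LK LD1_c4 LD2_c55 LD3_c27) (LK LD1_c9 LD2_c42 LD3_c24) Lrfl Lrfl
theorem f217468 : Led Lsl_gt (LP (LK LD1_c17 LD2_c51 LD3_c8)) = (LP (LK LD1_c9 LD2_c42 LD3_c24)) :=
  Lre_g IH (LK LD1_c17 LD2_c51 LD3_c8) (LK LD1_c9 LD2_c42 LD3_c24) Lrfl Lrfl
theorem f196826 : Led Lsl_bt (LP (LK LD1_c2 LD2_c38 LD3_c33)) = (LP (LK LD1_c5 LD2_c24 LD3_c0)) :=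
  Lre_b IH (LK LD1_c2 LD2_c38 LD3_c33) (LK LD1_c5 LD2_c24 LD3_c0) Lrfl Lrfl
theorem f217469 : Led Lsl_gt (LP (LK LD1_c5 LD2_c24 LD3_c0)) = (LP (LK LD1_c10 LD2_c38 LD3_c43)) :=
  Lre_g IH (LK LD1_c5 LD2_c24 LD3_c0) (LK LD1_c10 LD2_c38 LD3_c43) Lrfl Lrfl
theorem f217470 : Led Lsl_bt (LP (LK LD1_c19 LD2_c17 LD3_c4)) = (LP (LK LD1_c10 LD2_c38 LD3_c43)) :=
  Lre_b IH (LK LD1_c19 LD2_c17 LD3_c4) (LK LD1_c10 LD2_c38 LD3_c43) Lrfl Lrfl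
theorem f217471 : Led Lsl_cf (LP (LK LD1_c17 LD2_c51 LD3_c8)) = (LP (LK LD1_c19 LD2_c17 LD3_c4)) :=
  Lgr Lrot160 (Lpr_gt (f217468 IH) (Lpe (f217453 IH) (Lpr_bt (f217452 IH) (Lpr_gt (K12.f217446 IH) (Lpr_ct (K9.f30880 IH) (Lpe (K12.f182170 IH) (Lpe (K12.f173119 IH) (Lpr_bt (f196826 IH) (Lpr_gt (f217469 IH) (Lpe (f217470 IH) (Lpn (LP (LK LD1_c19 LD2_c17 LD3_c4)))))))))))))
theorem f30924 : Led Lsl_bt (LP (LK LD1_c8 LD2_c2 LD3_c44)) = (LP (LK LD1_c4 LD2_c0 LD3_c60)) :=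
  Lre_b IH (LK LD1_c8 LD2_c2 LD3_c44) (LK LD1_c4 LD2_c0 LD3_c60) Lrfl Lrfl
theorem f53061 : Led Lsl_ct (LP (LK LD1_c15 LD2_c9 LD3_c31)) = (LP (LK LD1_c8 LD2_c3 LD3_c3)) :=
  Lre_c IH (LK LD1_c15 LD2_c9 LD3_c31) (LK LD1_c8 LD2_c3 LD3_c3) Lrfl Lrfl
theorem f217475 : Led Lsl_gf (LP (LK LD1_c19 LD2_c17 LD3_c4)) = (LP (LK LD1_c24 LD2_c58 LD3_c34)) :=
  Lgr Lrot181 (Lpe (f217471 IH) (Lpr_gt (f217468 IH) (Lpe (f217453 IH) (Lpr_bt (f217452 IH) (Lpr_gt (K12.f217446 IH) (Lpe (f30924 IH) (Lpr_ct (K9.f30926 IH) (Lpr_gt (f52543 IH) (Lpe (f53061 IH) (Lpr_bt (f53063 IH) (Lpn (LP (LK LD1_c24 LD2_c58 LD3_c34)))))))))))))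
theorem f39433 : Led Lsl_bt (LP (LK LD1_c8 LD2_c42 LD3_c17)) = (LP (LK LD1_c4 LD2_c22 LD3_c11)) :=
  Lre_b IH (LK LD1_c8 LD2_c42 LD3_c17) (LK LD1_c4 LD2_c22 LD3_c11) Lrfl Lrfl
theorem f39434 : Led Lsl_ct (LP (LK LD1_c16 LD2_c18 LD3_c27)) = (LP (LK LD1_c8 LD2_c42 LD3_c17)) :=
  Lre_c IH (LK LD1_c16 LD2_c18 LD3_c27) (LK LD1_c8 LD2_c42 LD3_c17) Lrfl Lrfl
theorem f296685 : Led Lsl_dt (LP (LK LD1_c19 LD2_c17 LD3_c4)) = (LP (LK LD1_c16 LD2_c18 LD3_c27)) :=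
  Lgr Lrot182 (Lpr_gf (f217475 IH) (Lpe (f53063 IH) (Lpe (f52544 IH) (Lpr_df (f296630 IH) (Lpe (f228094 IH) (Lpe (K12.f228038 IH) (Lpr_cf (K12.f227980 IH) (Lpe (K12.f227972 IH) (Lpe (K11.f211393 IH) (Lpe (K11.f211284 IH) (Lpr_cf (K11.f211381 IH) (Lpe (f167503 IH) (Lpr_gf (K14.f199832 IH) (Lpe (K11.f199822 IH) (Lpe (K1.f38987 IH) (Lpr_df (K1.f39171 IH) (Lpr_gf (K13.f39429 IH) (Lpe (f39433 IH) (Lpe (f39434 IH) (Lpn (LP (LK LD1_c16 LD2_c18 LD3_c27))))))))))))))))))))))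
theorem f218695 : Led Lsl_bt (LP (LK LD1_c10 LD2_c38 LD3_c43)) = (LP (LK LD1_c19 LD2_c17 LD3_c4)) :=
  Lre_b IH (LK LD1_c10 LD2_c38 LD3_c43) (LK LD1_c19 LD2_c17 LD3_c4) Lrfl Lrfl
theorem f297370 : Led Lsl_df (LP (LK LD1_c10 LD2_c38 LD3_c43)) = (LP (LK LD1_c8 LD2_c43 LD3_c29)) :=
  Lgr Lrot12 (Lpr_bt (f218695 IH) (Lpr_dt (f296685 IH) (Lpr_bt (f297366 IH) (Lpn (LP (LK LD1_c8 LD2_c43 LD3_c29))))))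
theorem f218696 : Led Lsl_ct (LP (LK LD1_c10 LD2_c38 LD3_c43)) = (LP (LK LD1_c19 LD2_c17 LD3_c5)) :=
  Lre_c IH (LK LD1_c10 LD2_c38 LD3_c43) (LK LD1_c19 LD2_c17 LD3_c5) Lrfl Lrfl
theorem f225002 : Led Lsl_ct (LP (LK LD1_c4 LD2_c22 LD3_c49)) = (LP (LK LD1_c8 LD2_c43 LD3_c29)) :=
  Lre_c IH (LK LD1_c4 LD2_c22 LD3_c49) (LK LD1_c8 LD2_c43 LD3_c29) Lrfl Lrfl
theorem f225101 : Led Lsl_dt (LP (LK LD1_c2 LD2_c8 LD3_c50)) = (LP (LK LD1_c4 LD2_c22 LD3_c49)) :=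
  Lre_d IH (LK LD1_c2 LD2_c8 LD3_c50) (LK LD1_c4 LD2_c22 LD3_c49) Lrfl Lrfl
theorem f237412 : Led Lsl_bf (LP (LK LD1_c0 LD2_c28 LD3_c7)) = (LP (LK LD1_c0 LD2_c55 LD3_c16)) :=
  Lgr Lrot34 (Lpe (K11.f180207 IH) (Lpe (K9.f180125 IH) (Lpr_ct (K9.f179869 IH) (Lpe (K12.f211771 IH) (Lpe (K12.f20694 IH) (Lpe (K9.f20740 IH) (Lpe (K12.f210341 IH) (Lpr_ct (K12.f181966 IH) (Lpr_gf (K13.f237407 IH) (Lpe (K13.f28936 IH) (Lpn (LP (LK LD1_c0 LD2_c55 LD3_c16)))))))))))))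
theorem f180217 : Led Lsl_bt (LP (LK LD1_c1 LD2_c1 LD3_c37)) = (LP (LK LD1_c2 LD2_c8 LD3_c50)) :=
  Lre_b IH (LK LD1_c1 LD2_c1 LD3_c37) (LK LD1_c2 LD2_c8 LD3_c50) Lrfl Lrfl
theorem f69723 : Led Lsl_bt (LP (LK LD1_c4 LD2_c0 LD3_c22)) = (LP (LK LD1_c1 LD2_c56 LD3_c58)) :=
  Lre_b IH (LK LD1_c4 LD2_c0 LD3_c22) (LK LD1_c1 LD2_c56 LD3_c58) Lrfl Lrfl
theorem f237426 : Led Lsl_ct (LP (LK LD1_c2 LD2_c8 LD3_c50)) = (LP (LK LD1_c4 LD2_c0 LD3_c22)) :=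
  Lgr Lrot83 (Lpe (f180217 IH) (Lpe (K11.f180212 IH) (Lpr_bf (f237412 IH) (Lpe (K13.f28942 IH) (Lpe (f69723 IH) (Lpn (LP (LK LD1_c4 LD2_c0 LD3_c22))))))))
theorem f237430 : Led Lsl_cf (LP (LK LD1_c2 LD2_c8 LD3_c50)) = (LP (LK LD1_c4 LD2_c0 LD3_c22)) :=
  Lgr Lrot11 (Lpr_ct (f237426 IH) (Lpn (LP (LK LD1_c4 LD2_c0 LD3_c22))))
theorem f201462 : Led Lsl_bt (LP (LK LD1_c2 LD2_c9 LD3_c12)) = (LP (LK LD1_c4 LD2_c23 LD3_c36)) :=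
  Lre_b IH (LK LD1_c2 LD2_c9 LD3_c12) (LK LD1_c4 LD2_c23 LD3_c36) Lrfl Lrfl
theorem f201463 : Led Lsl_dt (LP (LK LD1_c4 LD2_c23 LD3_c36)) = (LP (LK LD1_c4 LD2_c0 LD3_c22)) :=
  Lgr Lrot79 (Lpe (f201462 IH) (Lpr_df (K13.f201460 IH) (Lpe (f69723 IH) (Lpn (LP (LK LD1_c4 LD2_c0 LD3_c22))))))
theorem f197735 : Led Lsl_bt (LP (LK LD1_c7 LD2_c56 LD3_c30)) = (LP (LK LD1_c3 LD2_c57 LD3_c32)) :=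
  Lre_b IH (LK LD1_c7 LD2_c56 LD3_c30) (LK LD1_c3 LD2_c57 LD3_c32) Lrfl Lrfl
theorem f262294 : Led Lsl_ft (LP (LK LD1_c4 LD2_c23 LD3_c36)) = (LP (LK LD1_c7 LD2_c56 LD3_c30)) :=
  Lgr Lrot75 (Lpe (f201462 IH) (Lpr_ff (K15.f262292 IH) (Lpe (f197735 IH) (Lpn (LP (LK LD1_c7 LD2_c56 LD3_c30))))))
theorem f210765 : Led Lsl_at (LP (LK LD1_c7 LD2_c56 LD3_c30)) = (LP (LK LD1_c14 LD2_c58 LD3_c59)) :=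
  Lre_a IH (LK LD1_c7 LD2_c56 LD3_c30) (LK LD1_c14 LD2_c58 LD3_c59) Lrfl Lrfl
theorem f210770 : Led Lsl_ct (LP (LK LD1_c24 LD2_c46 LD3_c27)) = (LP (LK LD1_c14 LD2_c58 LD3_c59)) :=
  Lre_c IH (LK LD1_c24 LD2_c46 LD3_c27) (LK LD1_c14 LD2_c58 LD3_c59) Lrfl Lrfl
theorem f297378 : Led Lsl_dt (LP (LK LD1_c19 LD2_c17 LD3_c5)) = (LP (LK LD1_c24 LD2_c46 LD3_c27)) :=
  Lgr Lrot120 (Lpe (f218696 IH) (Lpr_df (f297370 IH) (Lpe (f225002 IH) (Lpe (f225101 IH) (Lpr_cf (f237430 IH) (Lpe (f201463 IH) (Lpr_ft (f262294 IH) (Lpr_at (f210765 IH) (Lpe (f210770 IH) (Lpn (LP (LK LD1_c24 LD2_c46 LD3_c27))))))))))))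
theorem f297384 : Led Lsl_df (LP (LK LD1_c19 LD2_c17 LD3_c5)) = (LP (LK LD1_c24 LD2_c46 LD3_c27)) :=
  Lgr Lrot38 (Lpr_dt (f297378 IH) (Lpn (LP (LK LD1_c24 LD2_c46 LD3_c27))))
theorem f218692 : Led Lsl_ct (LP (LK LD1_c19 LD2_c17 LD3_c5)) = (LP (LK LD1_c10 LD2_c38 LD3_c43)) :=
  Lre_c IH (LK LD1_c19 LD2_c17 LD3_c5) (LK LD1_c10 LD2_c38 LD3_c43) Lrfl Lrfl
theorem f297374 : Led Lsl_dt (LP (LK LD1_c10 LD2_c38 LD3_c43)) = (LP (LK LD1_c8 LD2_c43 LD3_c29)) :=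
  Lgr Lrot42 (Lpr_df (f297370 IH) (Lpn (LP (LK LD1_c8 LD2_c43 LD3_c29))))
theorem f225001 : Led Lsl_ct (LP (LK LD1_c8 LD2_c43 LD3_c29)) = (LP (LK LD1_c4 LD2_c22 LD3_c49)) :=
  Lre_c IH (LK LD1_c8 LD2_c43 LD3_c29) (LK LD1_c4 LD2_c22 LD3_c49) Lrfl Lrfl
theorem f225145 : Led Lsl_dt (LP (LK LD1_c4 LD2_c22 LD3_c49)) = (LP (LK LD1_c2 LD2_c8 LD3_c50)) :=
  Lre_d IH (LK LD1_c4 LD2_c22 LD3_c49) (LK LD1_c2 LD2_c8 LD3_c50) Lrfl Lrfl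
theorem f201477 : Led Lsl_df (LP (LK LD1_c4 LD2_c23 LD3_c37)) = (LP (LK LD1_c8 LD2_c3 LD3_c29)) :=
  Lgr Lrot38 (Lpr_dt (K15.f201468 IH) (Lpn (LP (LK LD1_c8 LD2_c3 LD3_c29))))
theorem f201514 : Led Lsl_bt (LP (LK LD1_c4 LD2_c23 LD3_c37)) = (LP (LK LD1_c8 LD2_c44 LD3_c61)) :=
  Lre_b IH (LK LD1_c4 LD2_c23 LD3_c37) (LK LD1_c8 LD2_c44 LD3_c61) Lrfl Lrfl
theorem f196148 : Led Lsl_bt (LP (LK LD1_c15 LD2_c10 LD3_c8)) = (LP (LK LD1_c8 LD2_c3 LD3_c29)) :=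
  Lre_b IH (LK LD1_c15 LD2_c10 LD3_c8) (LK LD1_c8 LD2_c3 LD3_c29) Lrfl Lrfl
theorem f201515 : Led Lsl_dt (LP (LK LD1_c8 LD2_c44 LD3_c61)) = (LP (LK LD1_c15 LD2_c10 LD3_c8)) :=
  Lgr Lrot79 (Lpe (f201514 IH) (Lpr_df (f201477 IH) (Lpe (f196148 IH) (Lpn (LP (LK LD1_c15 LD2_c10 LD3_c8))))))
theorem f201520 : Led Lsl_et (LP (LK LD1_c4 LD2_c23 LD3_c36)) = (LP (LK LD1_c8 LD2_c44 LD3_c61)) :=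
  Lre_e IH (LK LD1_c4 LD2_c23 LD3_c36) (LK LD1_c8 LD2_c44 LD3_c61) Lrfl Lrfl
theorem f69734 : Led Lsl_et (LP (LK LD1_c15 LD2_c10 LD3_c8)) = (LP (LK LD1_c8 LD2_c3 LD3_c27)) :=
  Lre_e IH (LK LD1_c15 LD2_c10 LD3_c8) (LK LD1_c8 LD2_c3 LD3_c27) Lrfl Lrfl
theorem f69733 : Led Lsl_dt (LP (LK LD1_c8 LD2_c3 LD3_c27)) = (LP (LK LD1_c4 LD2_c1 LD3_c23)) :=
  Lre_d IH (LK LD1_c8 LD2_c3 LD3_c27) (LK LD1_c4 LD2_c1 LD3_c23) Lrfl Lrfl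
theorem f69724 : Led Lsl_bt (LP (LK LD1_c1 LD2_c57 LD3_c39)) = (LP (LK LD1_c4 LD2_c1 LD3_c23)) :=
  Lre_b IH (LK LD1_c1 LD2_c57 LD3_c39) (LK LD1_c4 LD2_c1 LD3_c23) Lrfl Lrfl
theorem f69725 : Led Lsl_ef (LP (LK LD1_c4 LD2_c0 LD3_c22)) = (LP (LK LD1_c4 LD2_c1 LD3_c23)) :=
  Lgr Lrot29 (Lpr_bt (f69723 IH) (Lpr_et (K13.f69721 IH) (Lpr_bt (f69724 IH) (Lpn (LP (LK LD1_c4 LD2_c1 LD3_c23))))))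
theorem f201521 : Led Lsl_df (LP (LK LD1_c4 LD2_c23 LD3_c36)) = (LP (LK LD1_c4 LD2_c0 LD3_c22)) :=
  Lgr Lrot70 (Lpr_et (f201520 IH) (Lpr_dt (f201515 IH) (Lpr_et (f69734 IH) (Lpr_dt (f69733 IH) (Lpe (f69725 IH) (Lpn (LP (LK LD1_c4 LD2_c0 LD3_c22))))))))
theorem f39302 : Led Lsl_ct (LP (LK LD1_c4 LD2_c23 LD3_c36)) = (LP (LK LD1_c8 LD2_c44 LD3_c60)) :=
  Lre_c IH (LK LD1_c4 LD2_c23 LD3_c36) (LK LD1_c8 LD2_c44 LD3_c60) Lrfl Lrfl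
theorem f201533 : Led Lsl_at (LP (LK LD1_c16 LD2_c22 LD3_c39)) = (LP (LK LD1_c8 LD2_c44 LD3_c60)) :=
  Lre_a IH (LK LD1_c16 LD2_c22 LD3_c39) (LK LD1_c8 LD2_c44 LD3_c60) Lrfl Lrfl
theorem f297393 : Led Lsl_ff (LP (LK LD1_c16 LD2_c22 LD3_c39)) = (LP (LK LD1_c24 LD2_c46 LD3_c27)) :=
  Lgr Lrot103 (Lpr_at (f201533 IH) (Lpe (f39302 IH) (Lpr_df (f201521 IH) (Lpe (f237426 IH) (Lpe (f225145 IH) (Lpe (f225001 IH) (Lpe (f297374 IH) (Lpe (f218692 IH) (Lpr_df (f297384 IH) (Lpn (LP (LK LD1_c24 LD2_c46 LD3_c27))))))))))))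
theorem f297399 : Led Lsl_ft (LP (LK LD1_c16 LD2_c22 LD3_c39)) = (LP (LK LD1_c24 LD2_c46 LD3_c27)) :=
  Lgr Lrot48 (Lpr_ff (f297393 IH) (Lpn (LP (LK LD1_c24 LD2_c46 LD3_c27))))
theorem f201541 : Led Lsl_ct (LP (LK LD1_c8 LD2_c44 LD3_c59)) = (LP (LK LD1_c16 LD2_c22 LD3_c39)) :=
  Lre_c IH (LK LD1_c8 LD2_c44 LD3_c59) (LK LD1_c16 LD2_c22 LD3_c39) Lrfl Lrfl
theorem f297406 : Led Lsl_ff (LP (LK LD1_c8 LD2_c44 LD3_c59)) = (LP (LK LD1_c14 LD2_c58 LD3_c59)) :=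
  Lgr Lrot23 (Lpr_ct (f201541 IH) (Lpr_ft (f297399 IH) (Lpr_ct (f210770 IH) (Lpn (LP (LK LD1_c14 LD2_c58 LD3_c59))))))
theorem f201529 : Led Lsl_at (LP (LK LD1_c4 LD2_c23 LD3_c36)) = (LP (LK LD1_c8 LD2_c44 LD3_c59)) :=
  Lre_a IH (LK LD1_c4 LD2_c23 LD3_c36) (LK LD1_c8 LD2_c44 LD3_c59) Lrfl Lrfl
theorem f69739 : Led Lsl_at (LP (LK LD1_c8 LD2_c1 LD3_c43)) = (LP (LK LD1_c4 LD2_c0 LD3_c22)) :=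
  Lre_a IH (LK LD1_c8 LD2_c1 LD3_c43) (LK LD1_c4 LD2_c0 LD3_c22) Lrfl Lrfl
theorem f201530 : Led Lsl_dt (LP (LK LD1_c8 LD2_c44 LD3_c59)) = (LP (LK LD1_c8 LD2_c1 LD3_c43)) :=
  Lgr Lrot44 (Lpe (f201529 IH) (Lpr_df (f201521 IH) (Lpe (f69739 IH) (Lpn (LP (LK LD1_c8 LD2_c1 LD3_c43))))))
theorem f210741 : Led Lsl_bt (LP (LK LD1_c3 LD2_c59 LD3_c59)) = (LP (LK LD1_c1 LD2_c56 LD3_c41)) :=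
  Lre_b IH (LK LD1_c3 LD2_c59 LD3_c59) (LK LD1_c1 LD2_c56 LD3_c41) Lrfl Lrfl
theorem f197744 : Led Lsl_bt (LP (LK LD1_c3 LD2_c57 LD3_c32)) = (LP (LK LD1_c7 LD2_c56 LD3_c30)) :=
  Lre_b IH (LK LD1_c3 LD2_c57 LD3_c32) (LK LD1_c7 LD2_c56 LD3_c30) Lrfl Lrfl
theorem f210742 : Led Lsl_df (LP (LK LD1_c3 LD2_c59 LD3_c59)) = (LP (LK LD1_c7 LD2_c56 LD3_c30)) :=
  Lgr Lrot12 (Lpr_bt (f210741 IH) (Lpr_dt (K12.f210732 IH) (Lpr_bt (f197744 IH) (Lpn (LP (LK LD1_c7 LD2_c56 LD3_c30))))))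
theorem f210755 : Led Lsl_at (LP (LK LD1_c3 LD2_c59 LD3_c59)) = (LP (LK LD1_c8 LD2_c1 LD3_c1)) :=
  Lre_a IH (LK LD1_c3 LD2_c59 LD3_c59) (LK LD1_c8 LD2_c1 LD3_c1) Lrfl Lrfl
theorem f210756 : Led Lsl_at (LP (LK LD1_c14 LD2_c58 LD3_c59)) = (LP (LK LD1_c7 LD2_c56 LD3_c30)) :=
  Lre_a IH (LK LD1_c14 LD2_c58 LD3_c59) (LK LD1_c7 LD2_c56 LD3_c30) Lrfl Lrfl
theorem f210757 : Led Lsl_dt (LP (LK LD1_c8 LD2_c1 LD3_c1)) = (LP (LK LD1_c14 LD2_c58 LD3_c59)) :=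
  Lgr Lrot44 (Lpe (f210755 IH) (Lpr_df (f210742 IH) (Lpe (f210756 IH) (Lpn (LP (LK LD1_c14 LD2_c58 LD3_c59))))))
theorem f297408 : Led Lsl_ft (LP (LK LD1_c8 LD2_c1 LD3_c43)) = (LP (LK LD1_c8 LD2_c1 LD3_c1)) :=
  Lgr Lrot54 (Lpe (f201530 IH) (Lpr_ff (f297406 IH) (Lpe (f210757 IH) (Lpn (LP (LK LD1_c8 LD2_c1 LD3_c1))))))
theorem f69729 : Led Lsl_at (LP (LK LD1_c4 LD2_c0 LD3_c22)) = (LP (LK LD1_c8 LD2_c1 LD3_c43)) :=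
  Lre_a IH (LK LD1_c4 LD2_c0 LD3_c22) (LK LD1_c8 LD2_c1 LD3_c43) Lrfl Lrfl
theorem f210764 : Led Lsl_at (LP (LK LD1_c8 LD2_c1 LD3_c1)) = (LP (LK LD1_c3 LD2_c59 LD3_c59)) :=
  Lre_a IH (LK LD1_c8 LD2_c1 LD3_c1) (LK LD1_c3 LD2_c59 LD3_c59) Lrfl Lrfl
theorem f297410 : Led Lsl_ff (LP (LK LD1_c4 LD2_c0 LD3_c22)) = (LP (LK LD1_c3 LD2_c59 LD3_c59)) :=
  Lgr Lrot30 (Lpr_at (f69729 IH) (Lpr_ft (f297408 IH) (Lpr_at (f210764 IH) (Lpn (LP (LK LD1_c3 LD2_c59 LD3_c59))))))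
theorem f225086 : Led Lsl_bt (LP (LK LD1_c15 LD2_c13 LD3_c7)) = (LP (LK LD1_c25 LD2_c2 LD3_c0)) :=
  Lre_b IH (LK LD1_c15 LD2_c13 LD3_c7) (LK LD1_c25 LD2_c2 LD3_c0) Lrfl Lrfl
theorem f225087 : Led Lsl_bt (LP (LK LD1_c16 LD2_c20 LD3_c25)) = (LP (LK LD1_c8 LD2_c43 LD3_c33)) :=
  Lre_b IH (LK LD1_c16 LD2_c20 LD3_c25) (LK LD1_c8 LD2_c43 LD3_c33) Lrfl Lrfl
theorem f225088 : Led Lsl_dt (LP (LK LD1_c25 LD2_c2 LD3_c0)) = (LP (LK LD1_c16 LD2_c20 LD3_c25)) :=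
  Lgr Lrot79 (Lpe (f225086 IH) (Lpr_df (f225083 IH) (Lpe (f225087 IH) (Lpn (LP (LK LD1_c16 LD2_c20 LD3_c25))))))
theorem f225090 : Led Lsl_ft (LP (LK LD1_c15 LD2_c13 LD3_c4)) = (LP (LK LD1_c25 LD2_c2 LD3_c0)) :=
  Lre_f IH (LK LD1_c15 LD2_c13 LD3_c4) (LK LD1_c25 LD2_c2 LD3_c0) Lrfl Lrfl
theorem f225091 : Led Lsl_ft (LP (LK LD1_c16 LD2_c20 LD3_c25)) = (LP (LK LD1_c8 LD2_c43 LD3_c30)) :=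
  Lre_f IH (LK LD1_c16 LD2_c20 LD3_c25) (LK LD1_c8 LD2_c43 LD3_c30) Lrfl Lrfl
theorem f225092 : Led Lsl_df (LP (LK LD1_c15 LD2_c13 LD3_c4)) = (LP (LK LD1_c8 LD2_c43 LD3_c30)) :=
  Lgr Lrot78 (Lpr_ft (f225090 IH) (Lpr_dt (f225088 IH) (Lpr_ft (f225091 IH) (Lpn (LP (LK LD1_c8 LD2_c43 LD3_c30))))))
theorem f225098 : Led Lsl_et (LP (LK LD1_c15 LD2_c13 LD3_c4)) = (LP (LK LD1_c8 LD2_c4 LD3_c56)) :=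
  Lre_e IH (LK LD1_c15 LD2_c13 LD3_c4) (LK LD1_c8 LD2_c4 LD3_c56) Lrfl Lrfl
theorem f225099 : Led Lsl_dt (LP (LK LD1_c8 LD2_c4 LD3_c56)) = (LP (LK LD1_c4 LD2_c2 LD3_c12)) :=
  Lre_d IH (LK LD1_c8 LD2_c4 LD3_c56) (LK LD1_c4 LD2_c2 LD3_c12) Lrfl Lrfl
theorem f225100 : Led Lsl_et (LP (LK LD1_c4 LD2_c22 LD3_c49)) = (LP (LK LD1_c8 LD2_c43 LD3_c30)) :=
  Lre_e IH (LK LD1_c4 LD2_c22 LD3_c49) (LK LD1_c8 LD2_c43 LD3_c30) Lrfl Lrfl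
theorem f225102 : Led Lsl_et (LP (LK LD1_c4 LD2_c2 LD3_c12)) = (LP (LK LD1_c2 LD2_c8 LD3_c50)) :=
  Lgr Lrot71 (Lpe (f225099 IH) (Lpe (f225098 IH) (Lpr_df (f225092 IH) (Lpe (f225100 IH) (Lpe (f225101 IH) (Lpn (LP (LK LD1_c2 LD2_c8 LD3_c50))))))))
theorem f69735 : Led Lsl_et (LP (LK LD1_c4 LD2_c0 LD3_c22)) = (LP (LK LD1_c4 LD2_c1 LD3_c23)) :=
  Lgr Lrot87 (Lpr_ef (f69725 IH) (Lpn (LP (LK LD1_c4 LD2_c1 LD3_c23))))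
theorem f237432 : Led Lsl_cf (LP (LK LD1_c4 LD2_c2 LD3_c12)) = (LP (LK LD1_c4 LD2_c1 LD3_c23)) :=
  Lgr Lrot39 (Lpr_et (f225102 IH) (Lpr_ct (f237426 IH) (Lpr_et (f69735 IH) (Lpn (LP (LK LD1_c4 LD2_c1 LD3_c23))))))
theorem f237442 : Led Lsl_ct (LP (LK LD1_c4 LD2_c2 LD3_c12)) = (LP (LK LD1_c4 LD2_c1 LD3_c23)) :=
  Lgr Lrot59 (Lpr_cf (f237432 IH) (Lpn (LP (LK LD1_c4 LD2_c1 LD3_c23))))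
theorem f225113 : Led Lsl_at (LP (LK LD1_c8 LD2_c4 LD3_c55)) = (LP (LK LD1_c4 LD2_c2 LD3_c12)) :=
  Lre_a IH (LK LD1_c8 LD2_c4 LD3_c55) (LK LD1_c4 LD2_c2 LD3_c12) Lrfl Lrfl
theorem f69740 : Led Lsl_at (LP (LK LD1_c4 LD2_c1 LD3_c23)) = (LP (LK LD1_c8 LD2_c3 LD3_c26)) :=
  Lre_a IH (LK LD1_c4 LD2_c1 LD3_c23) (LK LD1_c8 LD2_c3 LD3_c26) Lrfl Lrfl
theorem f237445 : Led Lsl_cf (LP (LK LD1_c8 LD2_c4 LD3_c55)) = (LP (LK LD1_c8 LD2_c3 LD3_c26)) :=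
  Lgr Lrot1 (Lpr_at (f225113 IH) (Lpr_ct (f237442 IH) (Lpr_at (f69740 IH) (Lpn (LP (LK LD1_c8 LD2_c3 LD3_c26))))))
theorem f225114 : Led Lsl_at (LP (LK LD1_c2 LD2_c8 LD3_c50)) = (LP (LK LD1_c4 LD2_c22 LD3_c48)) :=
  Lre_a IH (LK LD1_c2 LD2_c8 LD3_c50) (LK LD1_c4 LD2_c22 LD3_c48) Lrfl Lrfl
theorem f225115 : Led Lsl_ef (LP (LK LD1_c8 LD2_c4 LD3_c55)) = (LP (LK LD1_c4 LD2_c22 LD3_c48)) :=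
  Lgr Lrot20 (Lpr_at (f225113 IH) (Lpr_et (f225102 IH) (Lpr_at (f225114 IH) (Lpn (LP (LK LD1_c4 LD2_c22 LD3_c48))))))
theorem f225125 : Led Lsl_et (LP (LK LD1_c8 LD2_c4 LD3_c55)) = (LP (LK LD1_c4 LD2_c22 LD3_c48)) :=
  Lgr Lrot87 (Lpr_ef (f225115 IH) (Lpn (LP (LK LD1_c4 LD2_c22 LD3_c48))))
theorem f69730 : Led Lsl_at (LP (LK LD1_c8 LD2_c3 LD3_c26)) = (LP (LK LD1_c4 LD2_c1 LD3_c23)) :=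
  Lre_a IH (LK LD1_c8 LD2_c3 LD3_c26) (LK LD1_c4 LD2_c1 LD3_c23) Lrfl Lrfl
theorem f69731 : Led Lsl_et (LP (LK LD1_c8 LD2_c1 LD3_c43)) = (LP (LK LD1_c8 LD2_c3 LD3_c26)) :=
  Lgr Lrot123 (Lpe (f69729 IH) (Lpr_ef (f69725 IH) (Lpe (f69730 IH) (Lpn (LP (LK LD1_c8 LD2_c3 LD3_c26))))))
theorem f237448 : Led Lsl_ct (LP (LK LD1_c4 LD2_c22 LD3_c48)) = (LP (LK LD1_c8 LD2_c1 LD3_c43)) :=
  Lgr Lrot15 (Lpe (f225125 IH) (Lpr_cf (f237445 IH) (Lpe (f69731 IH) (Lpn (LP (LK LD1_c8 LD2_c1 LD3_c43))))))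
theorem f225123 : Led Lsl_dt (LP (LK LD1_c8 LD2_c43 LD3_c26)) = (LP (LK LD1_c4 LD2_c22 LD3_c48)) :=
  Lre_d IH (LK LD1_c8 LD2_c43 LD3_c26) (LK LD1_c4 LD2_c22 LD3_c48) Lrfl Lrfl
theorem f237450 : Led Lsl_ct (LP (LK LD1_c16 LD2_c20 LD3_c16)) = (LP (LK LD1_c8 LD2_c43 LD3_c26)) :=
  Lre_c IH (LK LD1_c16 LD2_c20 LD3_c16) (LK LD1_c8 LD2_c43 LD3_c26) Lrfl Lrfl
theorem f210759 : Led Lsl_dt (LP (LK LD1_c3 LD2_c59 LD3_c59)) = (LP (LK LD1_c7 LD2_c56 LD3_c30)) :=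
  Lgr Lrot42 (Lpr_df (f210742 IH) (Lpn (LP (LK LD1_c7 LD2_c56 LD3_c30))))
theorem f197789 : Led Lsl_ct (LP (LK LD1_c7 LD2_c56 LD3_c30)) = (LP (LK LD1_c14 LD2_c58 LD3_c60)) :=
  Lre_c IH (LK LD1_c7 LD2_c56 LD3_c30) (LK LD1_c14 LD2_c58 LD3_c60) Lrfl Lrfl
theorem f2438 : Led Lsl_bt (LP (LK LD1_c0 LD2_c31 LD3_c51)) = (LP (LK LD1_c0 LD2_c14 LD3_c12)) :=
  Lre_b IH (LK LD1_c0 LD2_c31 LD3_c51) (LK LD1_c0 LD2_c14 LD3_c12) Lrfl Lrfl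
theorem f29725 : Led Lsl_bt (LP (LK LD1_c9 LD2_c38 LD3_c28)) = (LP (LK LD1_c4 LD2_c53 LD3_c14)) :=
  Lre_b IH (LK LD1_c9 LD2_c38 LD3_c28) (LK LD1_c4 LD2_c53 LD3_c14) Lrfl Lrfl
theorem f223755 : Led Lsl_gt (LP (LK LD1_c2 LD2_c38 LD3_c59)) = (LP (LK LD1_c5 LD2_c24 LD3_c51)) :=
  Lre_g IH (LK LD1_c2 LD2_c38 LD3_c59) (LK LD1_c5 LD2_c24 LD3_c51) Lrfl Lrfl
theorem f246597 : Led Lsl_dt (LP (LK LD1_c5 LD2_c24 LD3_c51)) = (LP (LK LD1_c10 LD2_c40 LD3_c21)) :=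
  Lre_d IH (LK LD1_c5 LD2_c24 LD3_c51) (LK LD1_c10 LD2_c40 LD3_c21) Lrfl Lrfl
theorem f246598 : Led Lsl_cf (LP (LK LD1_c9 LD2_c38 LD3_c28)) = (LP (LK LD1_c10 LD2_c40 LD3_c21)) :=
  Lgr Lrot89 (Lpr_bt (f29725 IH) (Lpr_gt (K12.f2522 IH) (Lpr_dt (K1.f2756 IH) (Lpr_ct (K1.f2491 IH) (Lpr_bt (f2438 IH) (Lpr_gt (K9.f2864 IH) (Lpe (K15.f178276 IH) (Lpr_ct (K14.f53155 IH) (Lpr_bt (K11.f166461 IH) (Lpr_gt (K11.f166434 IH) (Lpr_dt (K11.f166453 IH) (Lpr_ct (K12.f166459 IH) (Lpr_bt (K12.f166462 IH) (Lpr_gt (K14.f246577 IH) (Lpr_dt (K14.f246297 IH) (Lpr_ct (K12.f213030 IH) (Lpr_bt (K12.f223754 IH) (Lpr_gt (f223755 IH) (Lpr_dt (f246597 IH) (Lpn (LP (LK LD1_c10 LD2_c40 LD3_c21))))))))))))))))))))))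
theorem f224966 : Led Lsl_et (LP (LK LD1_c9 LD2_c38 LD3_c28)) = (LP (LK LD1_c17 LD2_c44 LD3_c39)) :=
  Lre_e IH (LK LD1_c9 LD2_c38 LD3_c28) (LK LD1_c17 LD2_c44 LD3_c39) Lrfl Lrfl
theorem f246605 : Led Lsl_et (LP (LK LD1_c19 LD2_c19 LD3_c36)) = (LP (LK LD1_c10 LD2_c40 LD3_c21)) :=
  Lre_e IH (LK LD1_c19 LD2_c19 LD3_c36) (LK LD1_c10 LD2_c40 LD3_c21) Lrfl Lrfl
theorem f246606 : Led Lsl_ct (LP (LK LD1_c17 LD2_c44 LD3_c39)) = (LP (LK LD1_c19 LD2_c19 LD3_c36)) :=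
  Lgr Lrot15 (Lpe (f224966 IH) (Lpr_cf (f246598 IH) (Lpe (f246605 IH) (Lpn (LP (LK LD1_c19 LD2_c19 LD3_c36))))))
theorem f246611 : Led Lsl_cf (LP (LK LD1_c17 LD2_c44 LD3_c39)) = (LP (LK LD1_c19 LD2_c19 LD3_c36)) :=
  Lgr Lrot11 (Lpr_ct (f246606 IH) (Lpn (LP (LK LD1_c19 LD2_c19 LD3_c36))))
theorem f197749 : Led Lsl_bt (LP (LK LD1_c17 LD2_c44 LD3_c39)) = (LP (LK LD1_c9 LD2_c38 LD3_c29)) :=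
  Lre_b IH (LK LD1_c17 LD2_c44 LD3_c39) (LK LD1_c9 LD2_c38 LD3_c29) Lrfl Lrfl
theorem f197747 : Led Lsl_bt (LP (LK LD1_c7 LD2_c56 LD3_c31)) = (LP (LK LD1_c14 LD2_c58 LD3_c61)) :=
  Lre_b IH (LK LD1_c7 LD2_c56 LD3_c31) (LK LD1_c14 LD2_c58 LD3_c61) Lrfl Lrfl
theorem f197748 : Led Lsl_ct (LP (LK LD1_c14 LD2_c58 LD3_c61)) = (LP (LK LD1_c24 LD2_c46 LD3_c29)) :=
  Lre_c IH (LK LD1_c14 LD2_c58 LD3_c61) (LK LD1_c24 LD2_c46 LD3_c29) Lrfl Lrfl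
theorem f246613 : Led Lsl_bt (LP (LK LD1_c24 LD2_c46 LD3_c29)) = (LP (LK LD1_c19 LD2_c19 LD3_c36)) :=
  Lgr Lrot128 (Lpe (f197748 IH) (Lpe (f197747 IH) (Lpr_cf (K15.f197742 IH) (Lpe (f197749 IH) (Lpr_cf (f246611 IH) (Lpn (LP (LK LD1_c19 LD2_c19 LD3_c36))))))))
theorem f246616 : Led Lsl_et (LP (LK LD1_c14 LD2_c58 LD3_c60)) = (LP (LK LD1_c24 LD2_c46 LD3_c29)) :=
  Lre_e IH (LK LD1_c14 LD2_c58 LD3_c60) (LK LD1_c24 LD2_c46 LD3_c29) Lrfl Lrfl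
theorem f246617 : Led Lsl_bf (LP (LK LD1_c14 LD2_c58 LD3_c60)) = (LP (LK LD1_c10 LD2_c40 LD3_c21)) :=
  Lgr Lrot96 (Lpr_et (f246616 IH) (Lpr_bt (f246613 IH) (Lpr_et (f246605 IH) (Lpn (LP (LK LD1_c10 LD2_c40 LD3_c21))))))
theorem f223756 : Led Lsl_bt (LP (LK LD1_c10 LD2_c40 LD3_c19)) = (LP (LK LD1_c5 LD2_c24 LD3_c51)) :=
  Lre_b IH (LK LD1_c10 LD2_c40 LD3_c19) (LK LD1_c5 LD2_c24 LD3_c51) Lrfl Lrfl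
theorem f246619 : Led Lsl_dt (LP (LK LD1_c14 LD2_c58 LD3_c60)) = (LP (LK LD1_c10 LD2_c40 LD3_c19)) :=
  Lgr Lrot79 (Lpr_bf (f246617 IH) (Lpe (f246597 IH) (Lpe (f223756 IH) (Lpn (LP (LK LD1_c10 LD2_c40 LD3_c19))))))
theorem f167929 : Led Lsl_bt (LP (LK LD1_c5 LD2_c20 LD3_c50)) = (LP (LK LD1_c2 LD2_c37 LD3_c3)) :=
  Lre_b IH (LK LD1_c5 LD2_c20 LD3_c50) (LK LD1_c2 LD2_c37 LD3_c3) Lrfl Lrfl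
theorem f167934 : Led Lsl_et (LP (LK LD1_c2 LD2_c25 LD3_c39)) = (LP (LK LD1_c4 LD2_c55 LD3_c39)) :=
  Lre_e IH (LK LD1_c2 LD2_c25 LD3_c39) (LK LD1_c4 LD2_c55 LD3_c39) Lrfl Lrfl
theorem f42247 : Led Lsl_et (LP (LK LD1_c5 LD2_c20 LD3_c49)) = (LP (LK LD1_c2 LD2_c37 LD3_c2)) :=
  Lre_e IH (LK LD1_c5 LD2_c20 LD3_c49) (LK LD1_c2 LD2_c37 LD3_c2) Lrfl Lrfl
theorem f167935 : Led Lsl_ct (LP (LK LD1_c4 LD2_c55 LD3_c39)) = (LP (LK LD1_c5 LD2_c20 LD3_c49)) :=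
  Lgr Lrot15 (Lpe (f167934 IH) (Lpr_cf (K9.f167926 IH) (Lpe (f42247 IH) (Lpn (LP (LK LD1_c5 LD2_c20 LD3_c49))))))
theorem f168677 : Led Lsl_cf (LP (LK LD1_c4 LD2_c55 LD3_c39)) = (LP (LK LD1_c5 LD2_c20 LD3_c49)) :=
  Lgr Lrot11 (Lpr_ct (f167935 IH) (Lpn (LP (LK LD1_c5 LD2_c20 LD3_c49))))
theorem f168685 : Led Lsl_bt (LP (LK LD1_c4 LD2_c55 LD3_c39)) = (LP (LK LD1_c9 LD2_c42 LD3_c60)) :=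
  Lre_b IH (LK LD1_c4 LD2_c55 LD3_c39) (LK LD1_c9 LD2_c42 LD3_c60) Lrfl Lrfl
theorem f42235 : Led Lsl_bt (LP (LK LD1_c2 LD2_c37 LD3_c4)) = (LP (LK LD1_c5 LD2_c20 LD3_c49)) :=
  Lre_b IH (LK LD1_c2 LD2_c37 LD3_c4) (LK LD1_c5 LD2_c20 LD3_c49) Lrfl Lrfl
theorem f42185 : Led Lsl_ct (LP (LK LD1_c5 LD2_c20 LD3_c52)) = (LP (LK LD1_c2 LD2_c37 LD3_c4)) :=
  Lre_c IH (LK LD1_c5 LD2_c20 LD3_c52) (LK LD1_c2 LD2_c37 LD3_c4) Lrfl Lrfl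
theorem f168692 : Led Lsl_bt (LP (LK LD1_c10 LD2_c31 LD3_c48)) = (LP (LK LD1_c5 LD2_c20 LD3_c52)) :=
  Lre_b IH (LK LD1_c10 LD2_c31 LD3_c48) (LK LD1_c5 LD2_c20 LD3_c52) Lrfl Lrfl
theorem f168693 : Led Lsl_ct (LP (LK LD1_c9 LD2_c42 LD3_c60)) = (LP (LK LD1_c10 LD2_c31 LD3_c48)) :=
  Lgr Lrot83 (Lpe (f168685 IH) (Lpr_cf (f168677 IH) (Lpe (f42235 IH) (Lpe (f42185 IH) (Lpe (f168692 IH) (Lpn (LP (LK LD1_c10 LD2_c31 LD3_c48))))))))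
theorem f168696 : Led Lsl_et (LP (LK LD1_c4 LD2_c55 LD3_c37)) = (LP (LK LD1_c9 LD2_c42 LD3_c60)) :=
  Lre_e IH (LK LD1_c4 LD2_c55 LD3_c37) (LK LD1_c9 LD2_c42 LD3_c60) Lrfl Lrfl
theorem f168697 : Led Lsl_et (LP (LK LD1_c10 LD2_c31 LD3_c48)) = (LP (LK LD1_c5 LD2_c20 LD3_c50)) :=
  Lre_e IH (LK LD1_c10 LD2_c31 LD3_c48) (LK LD1_c5 LD2_c20 LD3_c50) Lrfl Lrfl
theorem f168698 : Led Lsl_cf (LP (LK LD1_c4 LD2_c55 LD3_c37)) = (LP (LK LD1_c5 LD2_c20 LD3_c50)) :=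
  Lgr Lrot39 (Lpr_et (f168696 IH) (Lpr_ct (f168693 IH) (Lpr_et (f168697 IH) (Lpn (LP (LK LD1_c5 LD2_c20 LD3_c50))))))
theorem f168714 : Led Lsl_gt (LP (LK LD1_c9 LD2_c42 LD3_c57)) = (LP (LK LD1_c4 LD2_c55 LD3_c37)) :=
  Lre_g IH (LK LD1_c9 LD2_c42 LD3_c57) (LK LD1_c4 LD2_c55 LD3_c37) Lrfl Lrfl
theorem f223757 : Led Lsl_cf (LP (LK LD1_c9 LD2_c42 LD3_c57)) = (LP (LK LD1_c10 LD2_c40 LD3_c19)) :=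
  Lgr Lrot160 (Lpr_gt (f168714 IH) (Lpr_cf (f168698 IH) (Lpr_bt (f167929 IH) (Lpr_gt (K12.f223748 IH) (Lpr_ct (K12.f27721 IH) (Lpr_gt (K12.f216303 IH) (Lpe (K12.f213035 IH) (Lpr_bt (K12.f223754 IH) (Lpr_gt (f223755 IH) (Lpe (f223756 IH) (Lpn (LP (LK LD1_c10 LD2_c40 LD3_c19)))))))))))))
theorem f297418 : Led Lsl_df (LP (LK LD1_c16 LD2_c20 LD3_c16)) = (LP (LK LD1_c9 LD2_c42 LD3_c57)) :=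
  Lgr Lrot13 (Lpr_ct (f237450 IH) (Lpr_dt (f225123 IH) (Lpr_ct (f237448 IH) (Lpe (f69729 IH) (Lpr_ff (f297410 IH) (Lpr_dt (f210759 IH) (Lpr_ct (f197789 IH) (Lpr_dt (f246619 IH) (Lpe (f223757 IH) (Lpn (LP (LK LD1_c9 LD2_c42 LD3_c57))))))))))))
theorem f297142 : Led Lsl_at (LP (LK LD1_c4 LD2_c22 LD3_c49)) = (LP (LK LD1_c8 LD2_c43 LD3_c26)) :=
  Lre_a IH (LK LD1_c4 LD2_c22 LD3_c49) (LK LD1_c8 LD2_c43 LD3_c26) Lrfl Lrfl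
theorem f225000 : Led Lsl_bt (LP (LK LD1_c4 LD2_c22 LD3_c49)) = (LP (LK LD1_c2 LD2_c8 LD3_c51)) :=
  Lre_b IH (LK LD1_c4 LD2_c22 LD3_c49) (LK LD1_c2 LD2_c8 LD3_c51) Lrfl Lrfl
theorem f236764 : Led Lsl_bt (LP (LK LD1_c3 LD2_c57 LD3_c18)) = (LP (LK LD1_c7 LD2_c56 LD3_c15)) :=
  Lre_b IH (LK LD1_c3 LD2_c57 LD3_c18) (LK LD1_c7 LD2_c56 LD3_c15) Lrfl Lrfl
theorem f297321 : Led Lsl_ff (LP (LK LD1_c4 LD2_c22 LD3_c49)) = (LP (LK LD1_c7 LD2_c56 LD3_c15)) :=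
  Lgr Lrot25 (Lpr_bt (f225000 IH) (Lpr_ft (f297319 IH) (Lpr_bt (f236764 IH) (Lpn (LP (LK LD1_c7 LD2_c56 LD3_c15))))))
theorem f297424 : Led Lsl_dt (LP (LK LD1_c7 LD2_c56 LD3_c15)) = (LP (LK LD1_c3 LD2_c57 LD3_c17)) :=
  Lre_d IH (LK LD1_c7 LD2_c56 LD3_c15) (LK LD1_c3 LD2_c57 LD3_c17) Lrfl Lrfl
theorem f297425 : Led Lsl_ct (LP (LK LD1_c3 LD2_c57 LD3_c17)) = (LP (LK LD1_c3 LD2_c59 LD3_c59)) :=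
  Lgr Lrot133 (Lpe (f297424 IH) (Lpe (f297321 IH) (Lpr_at (f297142 IH) (Lpe (f237450 IH) (Lpr_df (f297418 IH) (Lpr_cf (f223757 IH) (Lpe (f246619 IH) (Lpe (f197789 IH) (Lpe (f210759 IH) (Lpn (LP (LK LD1_c3 LD2_c59 LD3_c59))))))))))))
theorem f211125 : Led Lsl_ct (LP (LK LD1_c14 LD2_c58 LD3_c22)) = (LP (LK LD1_c7 LD2_c56 LD3_c15)) :=
  Lre_c IH (LK LD1_c14 LD2_c58 LD3_c22) (LK LD1_c7 LD2_c56 LD3_c15) Lrfl Lrfl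
theorem f211240 : Led Lsl_bt (LP (LK LD1_c0 LD2_c31 LD3_c49)) = (LP (LK LD1_c0 LD2_c55 LD3_c34)) :=
  Lgr Lrot127 (Lpr_bf (K11.f211238 IH) (Lpn (LP (LK LD1_c0 LD2_c55 LD3_c34))))
theorem f193683 : Led Lsl_dt (LP (LK LD1_c0 LD2_c16 LD3_c26)) = (LP (LK LD1_c0 LD2_c36 LD3_c50)) :=
  Lre_d IH (LK LD1_c0 LD2_c16 LD3_c26) (LK LD1_c0 LD2_c36 LD3_c50) Lrfl Lrfl
theorem f200631 : Led Lsl_cf (LP (LK LD1_c0 LD2_c31 LD3_c49)) = (LP (LK LD1_c0 LD2_c36 LD3_c50)) :=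
  Lgr Lrot14 (Lpe (K13.f3082 IH) (Lpe (K10.f3080 IH) (Lpe (K0.f2907 IH) (Lpr_gf (K11.f3055 IH) (Lpr_ct (K11.f200375 IH) (Lpe (K10.f197374 IH) (Lpr_dt (K10.f196270 IH) (Lpr_gt (K10.f196294 IH) (Lpr_dt (f193683 IH) (Lpn (LP (LK LD1_c0 LD2_c36 LD3_c50))))))))))))
theorem f211119 : Led Lsl_bt (LP (LK LD1_c7 LD2_c56 LD3_c15)) = (LP (LK LD1_c3 LD2_c57 LD3_c18)) :=
  Lre_b IH (LK LD1_c7 LD2_c56 LD3_c15) (LK LD1_c3 LD2_c57 LD3_c18) Lrfl Lrfl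
theorem f167928 : Led Lsl_bt (LP (LK LD1_c2 LD2_c25 LD3_c39)) = (LP (LK LD1_c4 LD2_c55 LD3_c37)) :=
  Lre_b IH (LK LD1_c2 LD2_c25 LD3_c39) (LK LD1_c4 LD2_c55 LD3_c37) Lrfl Lrfl
theorem f167939 : Led Lsl_gt (LP (LK LD1_c4 LD2_c55 LD3_c37)) = (LP (LK LD1_c9 LD2_c42 LD3_c56)) :=
  Lre_g IH (LK LD1_c4 LD2_c55 LD3_c37) (LK LD1_c9 LD2_c42 LD3_c56) Lrfl Lrfl
theorem f246376 : Led Lsl_df (LP (LK LD1_c14 LD2_c58 LD3_c22)) = (LP (LK LD1_c9 LD2_c42 LD3_c56)) :=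
  Lgr Lrot183 (Lpr_ct (f211125 IH) (Lpr_bt (f211119 IH) (Lpr_gt (K11.f211115 IH) (Lpr_dt (K1.f6939 IH) (Lpr_ct (K1.f6938 IH) (Lpe (K10.f196267 IH) (Lpr_gt (K10.f196294 IH) (Lpr_dt (f193683 IH) (Lpe (f200631 IH) (Lpr_bt (f211240 IH) (Lpe (K12.f223698 IH) (Lpr_dt (K12.f28956 IH) (Lpr_ct (K12.f28957 IH) (Lpr_bt (K13.f211408 IH) (Lpr_gt (K13.f246370 IH) (Lpe (K10.f194603 IH) (Lpe (K9.f167926 IH) (Lpr_bt (f167928 IH) (Lpr_gt (f167939 IH) (Lpn (LP (LK LD1_c9 LD2_c42 LD3_c56))))))))))))))))))))))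
theorem f237451 : Led Lsl_at (LP (LK LD1_c16 LD2_c20 LD3_c16)) = (LP (LK LD1_c8 LD2_c43 LD3_c29)) :=
  Lre_a IH (LK LD1_c16 LD2_c20 LD3_c16) (LK LD1_c8 LD2_c43 LD3_c29) Lrfl Lrfl
theorem f297420 : Led Lsl_at (LP (LK LD1_c10 LD2_c38 LD3_c43)) = (LP (LK LD1_c9 LD2_c42 LD3_c57)) :=
  Lgr Lrot51 (Lpr_df (f297370 IH) (Lpe (f237451 IH) (Lpr_df (f297418 IH) (Lpn (LP (LK LD1_c9 LD2_c42 LD3_c57))))))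
theorem f297431 : Led Lsl_ft (LP (LK LD1_c9 LD2_c42 LD3_c56)) = (LP (LK LD1_c10 LD2_c38 LD3_c43)) :=
  Lgr Lrot142 (Lpe (f246376 IH) (Lpr_ct (f211125 IH) (Lpr_dt (f297424 IH) (Lpr_ct (f297425 IH) (Lpr_dt (f210759 IH) (Lpr_ct (f197789 IH) (Lpr_dt (f246619 IH) (Lpe (f223757 IH) (Lpe (f297420 IH) (Lpn (LP (LK LD1_c10 LD2_c38 LD3_c43))))))))))))
theorem f297436 : Led Lsl_ff (LP (LK LD1_c9 LD2_c42 LD3_c56)) = (LP (LK LD1_c10 LD2_c38 LD3_c43)) :=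
  Lgr Lrot3 (Lpr_ft (f297431 IH) (Lpn (LP (LK LD1_c10 LD2_c38 LD3_c43))))
theorem f297440 : Led Lsl_ft (LP (LK LD1_c14 LD2_c58 LD3_c22)) = (LP (LK LD1_c8 LD2_c43 LD3_c29)) :=
  Lgr Lrot54 (Lpr_df (f246376 IH) (Lpr_ff (f297436 IH) (Lpr_df (f297370 IH) (Lpn (LP (LK LD1_c8 LD2_c43 LD3_c29))))))
theorem f297445 : Led Lsl_ff (LP (LK LD1_c14 LD2_c58 LD3_c22)) = (LP (LK LD1_c8 LD2_c43 LD3_c29)) :=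
  Lgr Lrot3 (Lpr_ft (f297440 IH) (Lpn (LP (LK LD1_c8 LD2_c43 LD3_c29))))
theorem f297449 : Led Lsl_dt (LP (LK LD1_c14 LD2_c58 LD3_c22)) = (LP (LK LD1_c9 LD2_c42 LD3_c56)) :=
  Lgr Lrot60 (Lpr_ff (f297445 IH) (Lpe (f297374 IH) (Lpe (f297431 IH) (Lpn (LP (LK LD1_c9 LD2_c42 LD3_c56))))))
theorem f211120 : Led Lsl_ct (LP (LK LD1_c7 LD2_c56 LD3_c15)) = (LP (LK LD1_c14 LD2_c58 LD3_c22)) :=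
  Lre_c IH (LK LD1_c7 LD2_c56 LD3_c15) (LK LD1_c14 LD2_c58 LD3_c22) Lrfl Lrfl
theorem f236765 : Led Lsl_bt (LP (LK LD1_c9 LD2_c44 LD3_c52)) = (LP (LK LD1_c4 LD2_c56 LD3_c47)) :=
  Lre_b IH (LK LD1_c9 LD2_c44 LD3_c52) (LK LD1_c4 LD2_c56 LD3_c47) Lrfl Lrfl
theorem f168459 : Led Lsl_ct (LP (LK LD1_c17 LD2_c54 LD3_c5)) = (LP (LK LD1_c9 LD2_c44 LD3_c52)) :=
  Lre_c IH (LK LD1_c17 LD2_c54 LD3_c5) (LK LD1_c9 LD2_c44 LD3_c52) Lrfl Lrfl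
theorem f236766 : Led Lsl_bt (LP (LK LD1_c14 LD2_c58 LD3_c22)) = (LP (LK LD1_c17 LD2_c54 LD3_c5)) :=
  Lgr Lrot128 (Lpe (f211120 IH) (Lpe (f236764 IH) (Lpr_cf (K13.f236757 IH) (Lpe (f236765 IH) (Lpe (f168459 IH) (Lpn (LP (LK LD1_c17 LD2_c54 LD3_c5))))))))
theorem f236829 : Led Lsl_bf (LP (LK LD1_c14 LD2_c58 LD3_c22)) = (LP (LK LD1_c17 LD2_c54 LD3_c5)) :=
  Lgr Lrot24 (Lpr_bt (f236766 IH) (Lpn (LP (LK LD1_c17 LD2_c54 LD3_c5))))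
theorem f201202 : Led Lsl_bt (LP (LK LD1_c9 LD2_c42 LD3_c56)) = (LP (LK LD1_c17 LD2_c52 LD3_c2)) :=
  Lre_b IH (LK LD1_c9 LD2_c42 LD3_c56) (LK LD1_c17 LD2_c52 LD3_c2) Lrfl Lrfl
theorem f297452 : Led Lsl_df (LP (LK LD1_c17 LD2_c54 LD3_c5)) = (LP (LK LD1_c17 LD2_c52 LD3_c2)) :=
  Lgr Lrot12 (Lpe (f236829 IH) (Lpr_dt (f297449 IH) (Lpr_bt (f201202 IH) (Lpn (LP (LK LD1_c17 LD2_c52 LD3_c2))))))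
theorem f168458 : Led Lsl_dt (LP (LK LD1_c9 LD2_c44 LD3_c52)) = (LP (LK LD1_c4 LD2_c56 LD3_c46)) :=
  Lre_d IH (LK LD1_c9 LD2_c44 LD3_c52) (LK LD1_c4 LD2_c56 LD3_c46) Lrfl Lrfl
theorem f168397 : Led Lsl_ct (LP (LK LD1_c9 LD2_c44 LD3_c57)) = (LP (LK LD1_c4 LD2_c56 LD3_c50)) :=
  Lre_c IH (LK LD1_c9 LD2_c44 LD3_c57) (LK LD1_c4 LD2_c56 LD3_c50) Lrfl Lrfl
theorem f168398 : Led Lsl_bt (LP (LK LD1_c17 LD2_c54 LD3_c9)) = (LP (LK LD1_c9 LD2_c44 LD3_c57)) :=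
  Lre_b IH (LK LD1_c17 LD2_c54 LD3_c9) (LK LD1_c9 LD2_c44 LD3_c57) Lrfl Lrfl
theorem f168400 : Led Lsl_bt (LP (LK LD1_c10 LD2_c50 LD3_c35)) = (LP (LK LD1_c19 LD2_c36 LD3_c1)) :=
  Lre_b IH (LK LD1_c10 LD2_c50 LD3_c35) (LK LD1_c19 LD2_c36 LD3_c1) Lrfl Lrfl
theorem f168401 : Led Lsl_cf (LP (LK LD1_c17 LD2_c54 LD3_c9)) = (LP (LK LD1_c19 LD2_c36 LD3_c1)) :=
  Lgr Lrot97 (Lpr_bt (f168398 IH) (Lpr_ct (f168397 IH) (Lpr_bt (K14.f168388 IH) (Lpr_ct (K17.f168399 IH) (Lpr_bt (f168400 IH) (Lpn (LP (LK LD1_c19 LD2_c36 LD3_c1))))))))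
theorem f168408 : Led Lsl_ct (LP (LK LD1_c17 LD2_c54 LD3_c9)) = (LP (LK LD1_c19 LD2_c36 LD3_c1)) :=
  Lgr Lrot59 (Lpr_cf (f168401 IH) (Lpn (LP (LK LD1_c19 LD2_c36 LD3_c1))))
theorem f168418 : Led Lsl_ft (LP (LK LD1_c9 LD2_c44 LD3_c53)) = (LP (LK LD1_c17 LD2_c54 LD3_c9)) :=
  Lre_f IH (LK LD1_c9 LD2_c44 LD3_c53) (LK LD1_c17 LD2_c54 LD3_c9) Lrfl Lrfl
theorem f168419 : Led Lsl_ft (LP (LK LD1_c19 LD2_c36 LD3_c1)) = (LP (LK LD1_c10 LD2_c50 LD3_c33)) :=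
  Lre_f IH (LK LD1_c19 LD2_c36 LD3_c1) (LK LD1_c10 LD2_c50 LD3_c33) Lrfl Lrfl
theorem f168420 : Led Lsl_cf (LP (LK LD1_c9 LD2_c44 LD3_c53)) = (LP (LK LD1_c10 LD2_c50 LD3_c33)) :=
  Lgr Lrot108 (Lpr_ft (f168418 IH) (Lpr_ct (f168408 IH) (Lpr_ft (f168419 IH) (Lpn (LP (LK LD1_c10 LD2_c50 LD3_c33))))))
theorem f168433 : Led Lsl_et (LP (LK LD1_c9 LD2_c44 LD3_c53)) = (LP (LK LD1_c4 LD2_c56 LD3_c46)) :=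
  Lre_e IH (LK LD1_c9 LD2_c44 LD3_c53) (LK LD1_c4 LD2_c56 LD3_c46) Lrfl Lrfl
theorem f168434 : Led Lsl_et (LP (LK LD1_c5 LD2_c29 LD3_c38)) = (LP (LK LD1_c10 LD2_c50 LD3_c33)) :=
  Lre_e IH (LK LD1_c5 LD2_c29 LD3_c38) (LK LD1_c10 LD2_c50 LD3_c33) Lrfl Lrfl
theorem f168435 : Led Lsl_ct (LP (LK LD1_c4 LD2_c56 LD3_c46)) = (LP (LK LD1_c5 LD2_c29 LD3_c38)) :=
  Lgr Lrot15 (Lpe (f168433 IH) (Lpr_cf (f168420 IH) (Lpe (f168434 IH) (Lpn (LP (LK LD1_c5 LD2_c29 LD3_c38))))))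
theorem f50522 : Led Lsl_bt (LP (LK LD1_c8 LD2_c19 LD3_c56)) = (LP (LK LD1_c4 LD2_c9 LD3_c53)) :=
  Lre_b IH (LK LD1_c8 LD2_c19 LD3_c56) (LK LD1_c4 LD2_c9 LD3_c53) Lrfl Lrfl
theorem f168362 : Led Lsl_bt (LP (LK LD1_c2 LD2_c41 LD3_c5)) = (LP (LK LD1_c5 LD2_c29 LD3_c38)) :=
  Lre_b IH (LK LD1_c2 LD2_c41 LD3_c5) (LK LD1_c5 LD2_c29 LD3_c38) Lrfl Lrfl
theorem f222672 : Led Lsl_df (LP (LK LD1_c8 LD2_c19 LD3_c56)) = (LP (LK LD1_c5 LD2_c29 LD3_c38)) :=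
  Lgr Lrot12 (Lpr_bt (f50522 IH) (Lpr_dt (K12.f222531 IH) (Lpr_bt (f168362 IH) (Lpn (LP (LK LD1_c5 LD2_c29 LD3_c38))))))
theorem f50523 : Led Lsl_ct (LP (LK LD1_c8 LD2_c19 LD3_c56)) = (LP (LK LD1_c15 LD2_c40 LD3_c51)) :=
  Lre_c IH (LK LD1_c8 LD2_c19 LD3_c56) (LK LD1_c15 LD2_c40 LD3_c51) Lrfl Lrfl
theorem f20699 : Led Lsl_bt (LP (LK LD1_c0 LD2_c14 LD3_c1)) = (LP (LK LD1_c0 LD2_c31 LD3_c36)) :=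
  Lre_b IH (LK LD1_c0 LD2_c14 LD3_c1) (LK LD1_c0 LD2_c31 LD3_c36) Lrfl Lrfl
theorem f220535 : Led Lsl_ct (LP (LK LD1_c15 LD2_c40 LD3_c51)) = (LP (LK LD1_c8 LD2_c19 LD3_c56)) :=
  Lre_c IH (LK LD1_c15 LD2_c40 LD3_c51) (LK LD1_c8 LD2_c19 LD3_c56) Lrfl Lrfl
theorem f201182 : Led Lsl_bt (LP (LK LD1_c4 LD2_c14 LD3_c9)) = (LP (LK LD1_c8 LD2_c26 LD3_c49)) :=
  Lre_b IH (LK LD1_c4 LD2_c14 LD3_c9) (LK LD1_c8 LD2_c26 LD3_c49) Lrfl Lrfl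
theorem f201172 : Led Lsl_gt (LP (LK LD1_c8 LD2_c26 LD3_c49)) = (LP (LK LD1_c15 LD2_c51 LD3_c34)) :=
  Lre_g IH (LK LD1_c8 LD2_c26 LD3_c49) (LK LD1_c15 LD2_c51 LD3_c34) Lrfl Lrfl
theorem f220536 : Led Lsl_df (LP (LK LD1_c15 LD2_c40 LD3_c51)) = (LP (LK LD1_c15 LD2_c51 LD3_c34)) :=
  Lgr Lrot183 (Lpr_ct (f220535 IH) (Lpr_bt (f50522 IH) (Lpr_gt (K12.f1043 IH) (Lpr_dt (K13.f1005 IH) (Lpr_ct (K13.f584 IH) (Lpr_bt (K9.f501 IH) (Lpr_gt (K9.f1386 IH) (Lpr_dt (K13.f171159 IH) (Lpr_ct (K14.f265 IH) (Lpr_bt (f20699 IH) (Lpr_gt (K12.f193366 IH) (Lpr_dt (K12.f178487 IH) (Lpr_ct (K12.f168329 IH) (Lpr_bt (K12.f168332 IH) (Lpr_gt (K12.f168344 IH) (Lpr_dt (K12.f220526 IH) (Lpr_ct (K12.f188598 IH) (Lpr_bt (f201182 IH) (Lpr_gt (f201172 IH) (Lpn (LP (LK LD1_c15 LD2_c51 LD3_c34))))))))))))))))))))))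
theorem f220538 : Led Lsl_dt (LP (LK LD1_c15 LD2_c40 LD3_c51)) = (LP (LK LD1_c15 LD2_c51 LD3_c34)) :=
  Lgr Lrot42 (Lpr_df (f220536 IH) (Lpn (LP (LK LD1_c15 LD2_c51 LD3_c34))))
theorem f201175 : Led Lsl_ct (LP (LK LD1_c15 LD2_c51 LD3_c34)) = (LP (LK LD1_c25 LD2_c47 LD3_c23)) :=
  Lre_c IH (LK LD1_c15 LD2_c51 LD3_c34) (LK LD1_c25 LD2_c47 LD3_c23) Lrfl Lrfl
theorem f297438 : Led Lsl_ft (LP (LK LD1_c17 LD2_c52 LD3_c2)) = (LP (LK LD1_c19 LD2_c17 LD3_c4)) :=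
  Lgr Lrot75 (Lpe (f201202 IH) (Lpr_ff (f297436 IH) (Lpe (f217470 IH) (Lpn (LP (LK LD1_c19 LD2_c17 LD3_c4))))))
theorem f297457 : Led Lsl_af (LP (LK LD1_c25 LD2_c47 LD3_c23)) = (LP (LK LD1_c19 LD2_c17 LD3_c4)) :=
  Lgr Lrot109 (Lpe (f201175 IH) (Lpe (f220538 IH) (Lpe (f50523 IH) (Lpr_df (f222672 IH) (Lpe (f168435 IH) (Lpe (f168458 IH) (Lpe (f168459 IH) (Lpr_df (f297452 IH) (Lpr_ft (f297438 IH) (Lpn (LP (LK LD1_c19 LD2_c17 LD3_c4))))))))))))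
theorem f296689 : Led Lsl_df (LP (LK LD1_c19 LD2_c17 LD3_c4)) = (LP (LK LD1_c16 LD2_c18 LD3_c27)) :=
  Lgr Lrot38 (Lpr_dt (f296685 IH) (Lpn (LP (LK LD1_c16 LD2_c18 LD3_c27))))
theorem f296695 : Led Lsl_at (LP (LK LD1_c26 LD2_c16 LD3_c9)) = (LP (LK LD1_c16 LD2_c18 LD3_c27)) :=
  Lre_a IH (LK LD1_c26 LD2_c16 LD3_c9) (LK LD1_c16 LD2_c18 LD3_c27) Lrfl Lrfl
theorem f297493 : Led Lsl_dt (LP (LK LD1_c25 LD2_c47 LD3_c23)) = (LP (LK LD1_c26 LD2_c16 LD3_c9)) :=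
  Lgr Lrot44 (Lpr_af (f297457 IH) (Lpr_df (f296689 IH) (Lpe (f296695 IH) (Lpn (LP (LK LD1_c26 LD2_c16 LD3_c9))))))
theorem f297495 : Led Lsl_ct (LP (LK LD1_c26 LD2_c16 LD3_c9)) = (LP (LK LD1_c16 LD2_c18 LD3_c26)) :=
  Lre_c IH (LK LD1_c26 LD2_c16 LD3_c9) (LK LD1_c16 LD2_c18 LD3_c26) Lrfl Lrfl
theorem f297498 : Led Lsl_at (LP (LK LD1_c8 LD2_c42 LD3_c17)) = (LP (LK LD1_c16 LD2_c18 LD3_c26)) :=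
  Lre_a IH (LK LD1_c8 LD2_c42 LD3_c17) (LK LD1_c16 LD2_c18 LD3_c26) Lrfl Lrfl
theorem f297499 : Led Lsl_ft (LP (LK LD1_c9 LD2_c44 LD3_c52)) = (LP (LK LD1_c8 LD2_c42 LD3_c17)) :=
  Lgr Lrot142 (Lpr_dt (f168458 IH) (Lpr_ct (f168435 IH) (Lpe (f222672 IH) (Lpr_ct (f50523 IH) (Lpr_dt (f220538 IH) (Lpr_ct (f201175 IH) (Lpr_dt (f297493 IH) (Lpr_ct (f297495 IH) (Lpe (f297498 IH) (Lpn (LP (LK LD1_c8 LD2_c42 LD3_c17))))))))))))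
theorem f168515 : Led Lsl_dt (LP (LK LD1_c4 LD2_c56 LD3_c46)) = (LP (LK LD1_c9 LD2_c44 LD3_c52)) :=
  Lre_d IH (LK LD1_c4 LD2_c56 LD3_c46) (LK LD1_c9 LD2_c44 LD3_c52) Lrfl Lrfl
theorem f225003 : Led Lsl_bt (LP (LK LD1_c4 LD2_c22 LD3_c11)) = (LP (LK LD1_c8 LD2_c42 LD3_c17)) :=
  Lre_b IH (LK LD1_c4 LD2_c22 LD3_c11) (LK LD1_c8 LD2_c42 LD3_c17) Lrfl Lrfl
theorem f238513 : Led Lsl_bt (LP (LK LD1_c4 LD2_c22 LD3_c22)) = (LP (LK LD1_c2 LD2_c8 LD3_c37)) :=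
  Lre_b IH (LK LD1_c4 LD2_c22 LD3_c22) (LK LD1_c2 LD2_c8 LD3_c37) Lrfl Lrfl
theorem f238720 : Led Lsl_dt (LP (LK LD1_c8 LD2_c42 LD3_c17)) = (LP (LK LD1_c4 LD2_c22 LD3_c22)) :=
  Lgr Lrot79 (Lpe (f225003 IH) (Lpr_df (K13.f238617 IH) (Lpe (f238513 IH) (Lpn (LP (LK LD1_c4 LD2_c22 LD3_c22))))))
theorem f297504 : Led Lsl_ff (LP (LK LD1_c4 LD2_c56 LD3_c46)) = (LP (LK LD1_c4 LD2_c22 LD3_c22)) :=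
  Lgr Lrot19 (Lpr_dt (f168515 IH) (Lpr_ft (f297499 IH) (Lpr_dt (f238720 IH) (Lpn (LP (LK LD1_c4 LD2_c22 LD3_c22))))))
theorem f297525 : Led Lsl_ft (LP (LK LD1_c4 LD2_c56 LD3_c46)) = (LP (LK LD1_c4 LD2_c22 LD3_c22)) :=
  Lgr Lrot48 (Lpr_ff (f297504 IH) (Lpn (LP (LK LD1_c4 LD2_c22 LD3_c22))))
theorem f168360 : Led Lsl_bt (LP (LK LD1_c4 LD2_c56 LD3_c46)) = (LP (LK LD1_c2 LD2_c26 LD3_c14)) :=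
  Lre_b IH (LK LD1_c4 LD2_c56 LD3_c46) (LK LD1_c2 LD2_c26 LD3_c14) Lrfl Lrfl
theorem f168363 : Led Lsl_cf (LP (LK LD1_c4 LD2_c56 LD3_c46)) = (LP (LK LD1_c5 LD2_c29 LD3_c38)) :=
  Lgr Lrot97 (Lpr_bt (f168360 IH) (Lpr_ct (K13.f168359 IH) (Lpr_bt (K12.f168352 IH) (Lpr_ct (K12.f168361 IH) (Lpr_bt (f168362 IH) (Lpn (LP (LK LD1_c5 LD2_c29 LD3_c38))))))))
theorem f232284 : Led Lsl_ct (LP (LK LD1_c4 LD2_c22 LD3_c22)) = (LP (LK LD1_c8 LD2_c42 LD3_c34)) :=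
  Lre_c IH (LK LD1_c4 LD2_c22 LD3_c22) (LK LD1_c8 LD2_c42 LD3_c34) Lrfl Lrfl
theorem f297535 : Led Lsl_ff (LP (LK LD1_c5 LD2_c29 LD3_c38)) = (LP (LK LD1_c8 LD2_c42 LD3_c34)) :=
  Lgr Lrot23 (Lpe (f168363 IH) (Lpr_ft (f297525 IH) (Lpr_ct (f232284 IH) (Lpn (LP (LK LD1_c8 LD2_c42 LD3_c34))))))
theorem f250714 : Led Lsl_bt (LP (LK LD1_c8 LD2_c16 LD3_c59)) = (LP (LK LD1_c15 LD2_c34 LD3_c37)) :=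
  Lre_b IH (LK LD1_c8 LD2_c16 LD3_c59) (LK LD1_c15 LD2_c34 LD3_c37) Lrfl Lrfl
theorem f232283 : Led Lsl_bt (LP (LK LD1_c8 LD2_c42 LD3_c34)) = (LP (LK LD1_c4 LD2_c22 LD3_c18)) :=
  Lre_b IH (LK LD1_c8 LD2_c42 LD3_c34) (LK LD1_c4 LD2_c22 LD3_c18) Lrfl Lrfl
theorem f250715 : Led Lsl_dt (LP (LK LD1_c15 LD2_c34 LD3_c37)) = (LP (LK LD1_c8 LD2_c42 LD3_c34)) :=
  Lgr Lrot79 (Lpe (f250714 IH) (Lpr_df (K14.f250709 IH) (Lpe (f232283 IH) (Lpn (LP (LK LD1_c8 LD2_c42 LD3_c34))))))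
theorem f297607 : Led Lsl_ft (LP (LK LD1_c8 LD2_c19 LD3_c56)) = (LP (LK LD1_c15 LD2_c34 LD3_c37)) :=
  Lgr Lrot54 (Lpr_df (f222672 IH) (Lpr_ff (f297535 IH) (Lpe (f250715 IH) (Lpn (LP (LK LD1_c15 LD2_c34 LD3_c37))))))
theorem f297618 : Led Lsl_ff (LP (LK LD1_c8 LD2_c19 LD3_c56)) = (LP (LK LD1_c15 LD2_c34 LD3_c37)) :=
  Lgr Lrot3 (Lpr_ft (f297607 IH) (Lpn (LP (LK LD1_c15 LD2_c34 LD3_c37))))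
theorem f297623 : Led Lsl_ft (LP (LK LD1_c4 LD2_c9 LD3_c53)) = (LP (LK LD1_c8 LD2_c16 LD3_c59)) :=
  Lgr Lrot75 (Lpe (f50522 IH) (Lpr_ff (f297618 IH) (Lpe (f250714 IH) (Lpn (LP (LK LD1_c8 LD2_c16 LD3_c59))))))
theorem f297667 : Led Lsl_ff (LP (LK LD1_c2 LD2_c41 LD3_c5)) = (LP (LK LD1_c4 LD2_c22 LD3_c18)) :=
  Lgr Lrot19 (Lpe (K14.f222674 IH) (Lpr_ft (f297623 IH) (Lpr_dt (K14.f250717 IH) (Lpn (LP (LK LD1_c4 LD2_c22 LD3_c18))))))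
theorem f297681 : Led Lsl_ft (LP (LK LD1_c1 LD2_c17 LD3_c15)) = (LP (LK LD1_c2 LD2_c8 LD3_c35)) :=
  Lgr Lrot4 (Lpe (K12.f168456 IH) (Lpr_ff (f297667 IH) (Lpe (K14.f173260 IH) (Lpn (LP (LK LD1_c2 LD2_c8 LD3_c35))))))
theorem f297683 : Led Lsl_af (LP (LK LD1_c4 LD2_c2 LD3_c43)) = (LP (LK LD1_c2 LD2_c8 LD3_c35)) :=
  Lgr Lrot45 (Lpe (K12.f220498 IH) (Lpr_at (K12.f168524 IH) (Lpr_ft (f297681 IH) (Lpn (LP (LK LD1_c2 LD2_c8 LD3_c35))))))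
theorem f219954 : Led Lsl_et (LP (LK LD1_c4 LD2_c2 LD3_c43)) = (LP (LK LD1_c8 LD2_c6 LD3_c2)) :=
  Lre_e IH (LK LD1_c4 LD2_c2 LD3_c43) (LK LD1_c8 LD2_c6 LD3_c2) Lrfl Lrfl
theorem f193239 : Led Lsl_et (LP (LK LD1_c4 LD2_c22 LD3_c19)) = (LP (LK LD1_c2 LD2_c8 LD3_c35)) :=
  Lre_e IH (LK LD1_c4 LD2_c22 LD3_c19) (LK LD1_c2 LD2_c8 LD3_c35) Lrfl Lrfl
theorem f297685 : Led Lsl_at (LP (LK LD1_c8 LD2_c6 LD3_c2)) = (LP (LK LD1_c4 LD2_c22 LD3_c19)) :=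
  Lgr Lrot80 (Lpe (f219954 IH) (Lpr_af (f297683 IH) (Lpe (f193239 IH) (Lpn (LP (LK LD1_c4 LD2_c22 LD3_c19))))))
theorem f193236 : Led Lsl_ft (LP (LK LD1_c4 LD2_c22 LD3_c19)) = (LP (LK LD1_c8 LD2_c42 LD3_c38)) :=
  Lre_f IH (LK LD1_c4 LD2_c22 LD3_c19) (LK LD1_c8 LD2_c42 LD3_c38) Lrfl Lrfl
theorem f297689 : Led Lsl_af (LP (LK LD1_c15 LD2_c15 LD3_c4)) = (LP (LK LD1_c8 LD2_c42 LD3_c38)) :=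
  Lgr Lrot45 (Lpr_ft (K17.f220506 IH) (Lpr_at (f297685 IH) (Lpr_ft (f193236 IH) (Lpn (LP (LK LD1_c8 LD2_c42 LD3_c38))))))
theorem f168496 : Led Lsl_at (LP (LK LD1_c10 LD2_c50 LD3_c6)) = (LP (LK LD1_c5 LD2_c29 LD3_c43)) :=
  Lre_a IH (LK LD1_c10 LD2_c50 LD3_c6) (LK LD1_c5 LD2_c29 LD3_c43) Lrfl Lrfl
theorem f297693 : Led Lsl_et (LP (LK LD1_c15 LD2_c15 LD3_c4)) = (LP (LK LD1_c10 LD2_c50 LD3_c6)) :=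
  Lgr Lrot123 (Lpr_af (f297689 IH) (Lpr_ef (K17.f287068 IH) (Lpe (f168496 IH) (Lpn (LP (LK LD1_c10 LD2_c50 LD3_c6))))))
theorem f287016 : Led Lsl_bf (LP (LK LD1_c15 LD2_c15 LD3_c4)) = (LP (LK LD1_c24 LD2_c45 LD3_c46)) :=
  Lgr Lrot24 (Lpr_bt (K17.f287014 IH) (Lpn (LP (LK LD1_c24 LD2_c45 LD3_c46))))
theorem f297697 : Led Lsl_ef (LP (LK LD1_c24 LD2_c45 LD3_c46)) = (LP (LK LD1_c15 LD2_c49 LD3_c18)) :=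
  Lgr Lrot29 (Lpe (f287016 IH) (Lpr_et (f297693 IH) (Lpr_bt (f295914 IH) (Lpn (LP (LK LD1_c15 LD2_c49 LD3_c18))))))
theorem f297701 : Led Lsl_et (LP (LK LD1_c24 LD2_c45 LD3_c46)) = (LP (LK LD1_c15 LD2_c49 LD3_c18)) :=
  Lgr Lrot87 (Lpr_ef (f297697 IH) (Lpn (LP (LK LD1_c15 LD2_c49 LD3_c18))))
theorem f229547 : Led Lsl_at (LP (LK LD1_c14 LD2_c58 LD3_c13)) = (LP (LK LD1_c24 LD2_c45 LD3_c46)) :=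
  Lre_a IH (LK LD1_c14 LD2_c58 LD3_c13) (LK LD1_c24 LD2_c45 LD3_c46) Lrfl Lrfl
theorem f296924 : Led Lsl_et (LP (LK LD1_c8 LD2_c43 LD3_c14)) = (LP (LK LD1_c14 LD2_c58 LD3_c13)) :=
  Lgr Lrot74 (Lpe (K12.f200506 IH) (Lpr_ef (f296901 IH) (Lpe (K17.f229548 IH) (Lpn (LP (LK LD1_c14 LD2_c58 LD3_c13))))))
theorem f297705 : Led Lsl_af (LP (LK LD1_c8 LD2_c43 LD3_c14)) = (LP (LK LD1_c15 LD2_c49 LD3_c18)) :=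
  Lgr Lrot50 (Lpr_et (f296924 IH) (Lpr_at (f229547 IH) (Lpr_et (f297701 IH) (Lpn (LP (LK LD1_c15 LD2_c49 LD3_c18))))))
theorem f200518 : Led Lsl_ft (LP (LK LD1_c8 LD2_c43 LD3_c14)) = (LP (LK LD1_c4 LD2_c22 LD3_c41)) :=
  Lre_f IH (LK LD1_c8 LD2_c43 LD3_c14) (LK LD1_c4 LD2_c22 LD3_c41) Lrfl Lrfl
theorem f220614 : Led Lsl_et (LP (LK LD1_c4 LD2_c15 LD3_c51)) = (LP (LK LD1_c8 LD2_c30 LD3_c46)) :=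
  Lre_e IH (LK LD1_c4 LD2_c15 LD3_c51) (LK LD1_c8 LD2_c30 LD3_c46) Lrfl Lrfl
theorem f297703 : Led Lsl_ft (LP (LK LD1_c8 LD2_c30 LD3_c46)) = (LP (LK LD1_c15 LD2_c49 LD3_c18)) :=
  Lgr Lrot86 (Lpe (f220614 IH) (Lpr_ff (K17.f230397 IH) (Lpe (K15.f230400 IH) (Lpe (K17.f230401 IH) (Lpr_ef (f297697 IH) (Lpn (LP (LK LD1_c15 LD2_c49 LD3_c18))))))))
theorem f297718 : Led Lsl_at (LP (LK LD1_c4 LD2_c22 LD3_c41)) = (LP (LK LD1_c8 LD2_c30 LD3_c46)) :=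
  Lgr Lrot66 (Lpe (f200518 IH) (Lpr_af (f297705 IH) (Lpe (f297703 IH) (Lpn (LP (LK LD1_c8 LD2_c30 LD3_c46))))))
theorem f275351 : Led Lsl_gf (LP (LK LD1_c4 LD2_c10 LD3_c11)) = (LP (LK LD1_c7 LD2_c57 LD3_c51)) :=
  Lgr Lrot76 (Lpe (K15.f266983 IH) (Lpr_ff (K16.f275342 IH) (Lpe (K15.f233291 IH) (Lpn (LP (LK LD1_c7 LD2_c57 LD3_c51))))))
theorem f278426 : Led Lsl_gf (LP (LK LD1_c3 LD2_c58 LD3_c14)) = (LP (LK LD1_c4 LD2_c51 LD3_c20)) :=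
  Lgr Lrot179 (Lpr_ct (K15.f188635 IH) (Lpe (f275351 IH) (Lpr_ct (K15.f178826 IH) (Lpe (K14.f182260 IH) (Lpe (K16.f254005 IH) (Lpe (K16.f266813 IH) (Lpe (K16.f191060 IH) (Lpe (K16.f191062 IH) (Lpr_dt (K16.f278420 IH) (Lpn (LP (LK LD1_c4 LD2_c51 LD3_c20))))))))))))
theorem f278430 : Led Lsl_gf (LP (LK LD1_c8 LD2_c11 LD3_c6)) = (LP (LK LD1_c5 LD2_c36 LD3_c9)) :=
  Lgr Lrot138 (Lpr_dt (K16.f278420 IH) (Lpe (f278426 IH) (Lpe (K15.f42758 IH) (Lpr_et (K12.f188582 IH) (Lpe (K16.f259652 IH) (Lpe (K15.f251671 IH) (Lpr_dt (K14.f43902 IH) (Lpe (K15.f265583 IH) (Lpe (K15.f189263 IH) (Lpr_et (K13.f189259 IH) (Lpn (LP (LK LD1_c5 LD2_c36 LD3_c9)))))))))))))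
theorem f278422 : Led Lsl_df (LP (LK LD1_c8 LD2_c11 LD3_c6)) = (LP (LK LD1_c4 LD2_c51 LD3_c20)) :=
  Lgr Lrot38 (Lpr_dt (K16.f278420 IH) (Lpn (LP (LK LD1_c4 LD2_c51 LD3_c20))))
theorem f278434 : Led Lsl_gt (LP (LK LD1_c9 LD2_c34 LD3_c45)) = (LP (LK LD1_c8 LD2_c30 LD3_c46)) :=
  Lgr Lrot131 (Lpe (K16.f232303 IH) (Lpe (f278422 IH) (Lpr_gf (f278430 IH) (Lpr_df (K14.f189241 IH) (Lpr_gf (K13.f219166 IH) (Lpe (K12.f53841 IH) (Lpr_dt (K12.f44497 IH) (Lpr_gf (K12.f220610 IH) (Lpe (K17.f220612 IH) (Lpr_et (f220614 IH) (Lpn (LP (LK LD1_c8 LD2_c30 LD3_c46)))))))))))))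
theorem f297724 : Led Lsl_gt (LP (LK LD1_c8 LD2_c43 LD3_c14)) = (LP (LK LD1_c9 LD2_c34 LD3_c45)) :=
  Lgr Lrot5 (Lpr_ft (f200518 IH) (Lpr_at (f297718 IH) (Lpe (f278434 IH) (Lpn (LP (LK LD1_c9 LD2_c34 LD3_c45))))))
theorem f200488 : Led Lsl_bt (LP (LK LD1_c5 LD2_c38 LD3_c61)) = (LP (LK LD1_c11 LD2_c8 LD3_c49)) :=
  Lre_b IH (LK LD1_c5 LD2_c38 LD3_c61) (LK LD1_c11 LD2_c8 LD3_c49) Lrfl Lrfl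
theorem f200489 : Led Lsl_bt (LP (LK LD1_c8 LD2_c43 LD3_c14)) = (LP (LK LD1_c4 LD2_c22 LD3_c45)) :=
  Lre_b IH (LK LD1_c8 LD2_c43 LD3_c14) (LK LD1_c4 LD2_c22 LD3_c45) Lrfl Lrfl
theorem f200490 : Led Lsl_dt (LP (LK LD1_c11 LD2_c8 LD3_c49)) = (LP (LK LD1_c8 LD2_c43 LD3_c14)) :=
  Lgr Lrot79 (Lpe (f200488 IH) (Lpr_df (K12.f200450 IH) (Lpe (f200489 IH) (Lpn (LP (LK LD1_c8 LD2_c43 LD3_c14))))))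
theorem f256941 : Led Lsl_ft (LP (LK LD1_c15 LD2_c22 LD3_c20)) = (LP (LK LD1_c8 LD2_c9 LD3_c40)) :=
  Lre_f IH (LK LD1_c15 LD2_c22 LD3_c20) (LK LD1_c8 LD2_c9 LD3_c40) Lrfl Lrfl
theorem f200530 : Led Lsl_ft (LP (LK LD1_c5 LD2_c38 LD3_c57)) = (LP (LK LD1_c11 LD2_c8 LD3_c49)) :=
  Lre_f IH (LK LD1_c5 LD2_c38 LD3_c57) (LK LD1_c11 LD2_c8 LD3_c49) Lrfl Lrfl
theorem f277802 : Led Lsl_ef (LP (LK LD1_c15 LD2_c22 LD3_c20)) = (LP (LK LD1_c11 LD2_c8 LD3_c49)) :=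
  Lgr Lrot21 (Lpr_ft (f256941 IH) (Lpr_et (f256928 IH) (Lpr_ft (K16.f277794 IH) (Lpr_et (K12.f200524 IH) (Lpr_ft (f200530 IH) (Lpn (LP (LK LD1_c11 LD2_c8 LD3_c49))))))))
theorem f27730 : Led Lsl_et (LP (LK LD1_c9 LD2_c33 LD3_c18)) = (LP (LK LD1_c4 LD2_c50 LD3_c34)) :=
  Lre_e IH (LK LD1_c9 LD2_c33 LD3_c18) (LK LD1_c4 LD2_c50 LD3_c34) Lrfl Lrfl
theorem f278436 : Led Lsl_df (LP (LK LD1_c9 LD2_c34 LD3_c45)) = (LP (LK LD1_c9 LD2_c33 LD3_c18)) :=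
  Lgr Lrot170 (Lpr_gt (f278434 IH) (Lpe (K17.f220623 IH) (Lpr_et (K17.f220630 IH) (Lpe (K14.f252101 IH) (Lpr_dt (K14.f171906 IH) (Lpr_gt (K12.f217464 IH) (Lpe (K0.f27702 IH) (Lpe (K0.f27706 IH) (Lpr_gt (K10.f27729 IH) (Lpe (f27730 IH) (Lpn (LP (LK LD1_c9 LD2_c33 LD3_c18)))))))))))))
theorem f297727 : Led Lsl_gf (LP (LK LD1_c15 LD2_c22 LD3_c20)) = (LP (LK LD1_c9 LD2_c33 LD3_c17)) :=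
  Lgr Lrot141 (Lpr_ef (f277802 IH) (Lpr_dt (f200490 IH) (Lpr_gt (f297724 IH) (Lpr_df (f278436 IH) (Lpr_et (f27730 IH) (Lpe (K11.f195832 IH) (Lpr_dt (K11.f190985 IH) (Lpe (K10.f191018 IH) (Lpe (K14.f27715 IH) (Lpr_et (K14.f27716 IH) (Lpn (LP (LK LD1_c9 LD2_c33 LD3_c17)))))))))))))
theorem f182075 : Led Lsl_dt (LP (LK LD1_c5 LD2_c17 LD3_c17)) = (LP (LK LD1_c2 LD2_c35 LD3_c24)) :=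
  Lre_d IH (LK LD1_c5 LD2_c17 LD3_c17) (LK LD1_c2 LD2_c35 LD3_c24) Lrfl Lrfl
theorem f191761 : Led Lsl_et (LP (LK LD1_c5 LD2_c17 LD3_c17)) = (LP (LK LD1_c10 LD2_c24 LD3_c9)) :=
  Lre_e IH (LK LD1_c5 LD2_c17 LD3_c17) (LK LD1_c10 LD2_c24 LD3_c9) Lrfl Lrfl
theorem f277505 : Led Lsl_gf (LP (LK LD1_c10 LD2_c24 LD3_c9)) = (LP (LK LD1_c8 LD2_c9 LD3_c40)) :=
  Lgr Lrot141 (Lpe (f191761 IH) (Lpr_dt (f182075 IH) (Lpr_gt (K13.f191759 IH) (Lpe (K10.f31469 IH) (Lpe (K10.f43264 IH) (Lpe (K12.f187244 IH) (Lpr_dt (K16.f277498 IH) (Lpe (K16.f277496 IH) (Lpe (K15.f226892 IH) (Lpr_et (K17.f256929 IH) (Lpn (LP (LK LD1_c8 LD2_c9 LD3_c40)))))))))))))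
theorem f191762 : Led Lsl_gt (LP (LK LD1_c10 LD2_c24 LD3_c9)) = (LP (LK LD1_c18 LD2_c52 LD3_c30)) :=
  Lre_g IH (LK LD1_c10 LD2_c24 LD3_c9) (LK LD1_c18 LD2_c52 LD3_c30) Lrfl Lrfl
theorem f256950 : Led Lsl_ft (LP (LK LD1_c8 LD2_c9 LD3_c40)) = (LP (LK LD1_c15 LD2_c22 LD3_c20)) :=
  Lre_f IH (LK LD1_c8 LD2_c9 LD3_c40) (LK LD1_c15 LD2_c22 LD3_c20) Lrfl Lrfl
theorem f277507 : Led Lsl_af (LP (LK LD1_c18 LD2_c52 LD3_c30)) = (LP (LK LD1_c15 LD2_c22 LD3_c20)) :=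
  Lgr Lrot31 (Lpe (f191762 IH) (Lpr_gf (f277505 IH) (Lpr_ft (f256950 IH) (Lpn (LP (LK LD1_c15 LD2_c22 LD3_c20))))))
theorem f277510 : Led Lsl_at (LP (LK LD1_c18 LD2_c52 LD3_c30)) = (LP (LK LD1_c15 LD2_c22 LD3_c20)) :=
  Lgr Lrot100 (Lpr_af (f277507 IH) (Lpn (LP (LK LD1_c15 LD2_c22 LD3_c20))))
theorem f297729 : Led Lsl_ff (LP (LK LD1_c18 LD2_c52 LD3_c30)) = (LP (LK LD1_c10 LD2_c36 LD3_c18)) :=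
  Lgr Lrot52 (Lpr_at (f277510 IH) (Lpr_gf (f297727 IH) (Lpr_gf (K16.f274995 IH) (Lpn (LP (LK LD1_c10 LD2_c36 LD3_c18))))))
theorem f297739 : Led Lsl_ft (LP (LK LD1_c18 LD2_c52 LD3_c30)) = (LP (LK LD1_c10 LD2_c36 LD3_c18)) :=
  Lgr Lrot48 (Lpr_ff (f297729 IH) (Lpn (LP (LK LD1_c10 LD2_c36 LD3_c18))))
theorem f217834 : Led Lsl_et (LP (LK LD1_c10 LD2_c36 LD3_c18)) = (LP (LK LD1_c5 LD2_c22 LD3_c58)) :=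
  Lre_e IH (LK LD1_c10 LD2_c36 LD3_c18) (LK LD1_c5 LD2_c22 LD3_c58) Lrfl Lrfl
theorem f220628 : Led Lsl_ft (LP (LK LD1_c9 LD2_c41 LD3_c7)) = (LP (LK LD1_c17 LD2_c48 LD3_c55)) :=
  Lre_f IH (LK LD1_c9 LD2_c41 LD3_c7) (LK LD1_c17 LD2_c48 LD3_c55) Lrfl Lrfl
theorem f297745 : Led Lsl_ef (LP (LK LD1_c18 LD2_c52 LD3_c30)) = (LP (LK LD1_c17 LD2_c48 LD3_c55)) :=
  Lgr Lrot21 (Lpr_ft (f297739 IH) (Lpr_et (f217834 IH) (Lpe (K16.f277814 IH) (Lpr_et (K17.f220620 IH) (Lpr_ft (f220628 IH) (Lpn (LP (LK LD1_c17 LD2_c48 LD3_c55))))))))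
theorem f200538 : Led Lsl_et (LP (LK LD1_c5 LD2_c38 LD3_c57)) = (LP (LK LD1_c2 LD2_c45 LD3_c26)) :=
  Lre_e IH (LK LD1_c5 LD2_c38 LD3_c57) (LK LD1_c2 LD2_c45 LD3_c26) Lrfl Lrfl
theorem f277792 : Led Lsl_et (LP (LK LD1_c15 LD2_c22 LD3_c20)) = (LP (LK LD1_c11 LD2_c8 LD3_c49)) :=
  Lgr Lrot69 (Lpe (f256950 IH) (Lpe (K17.f256929 IH) (Lpr_ff (K16.f277784 IH) (Lpe (f200538 IH) (Lpe (K12.f200514 IH) (Lpn (LP (LK LD1_c11 LD2_c8 LD3_c49))))))))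
theorem f297757 : Led Lsl_at (LP (LK LD1_c11 LD2_c8 LD3_c49)) = (LP (LK LD1_c17 LD2_c48 LD3_c55)) :=
  Lgr Lrot80 (Lpe (f277792 IH) (Lpe (f277510 IH) (Lpr_ef (f297745 IH) (Lpn (LP (LK LD1_c17 LD2_c48 LD3_c55))))))
theorem f200521 : Led Lsl_ct (LP (LK LD1_c4 LD2_c22 LD3_c41)) = (LP (LK LD1_c8 LD2_c43 LD3_c12)) :=
  Lre_c IH (LK LD1_c4 LD2_c22 LD3_c41) (LK LD1_c8 LD2_c43 LD3_c12) Lrfl Lrfl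
theorem f200522 : Led Lsl_dt (LP (LK LD1_c8 LD2_c43 LD3_c12)) = (LP (LK LD1_c16 LD2_c19 LD3_c59)) :=
  Lre_d IH (LK LD1_c8 LD2_c43 LD3_c12) (LK LD1_c16 LD2_c19 LD3_c59) Lrfl Lrfl
theorem f200523 : Led Lsl_ct (LP (LK LD1_c16 LD2_c19 LD3_c59)) = (LP (LK LD1_c26 LD2_c18 LD3_c0)) :=
  Lre_c IH (LK LD1_c16 LD2_c19 LD3_c59) (LK LD1_c26 LD2_c18 LD3_c0) Lrfl Lrfl
theorem f228535 : Led Lsl_dt (LP (LK LD1_c19 LD2_c8 LD3_c18)) = (LP (LK LD1_c10 LD2_c33 LD3_c59)) :=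
  Lre_d IH (LK LD1_c19 LD2_c8 LD3_c18) (LK LD1_c10 LD2_c33 LD3_c59) Lrfl Lrfl
theorem f218831 : Led Lsl_dt (LP (LK LD1_c4 LD2_c9 LD3_c0)) = (LP (LK LD1_c2 LD2_c1 LD3_c53)) :=
  Lre_d IH (LK LD1_c4 LD2_c9 LD3_c0) (LK LD1_c2 LD2_c1 LD3_c53) Lrfl Lrfl
theorem f228423 : Led Lsl_gf (LP (LK LD1_c1 LD2_c16 LD3_c8)) = (LP (LK LD1_c2 LD2_c37 LD3_c60)) :=
  Lgr Lrot144 (Lpr_dt (K13.f217754 IH) (Lpe (K14.f217840 IH) (Lpe (K12.f217650 IH) (Lpr_cf (K12.f217621 IH) (Lpe (K12.f43273 IH) (Lpr_gf (K12.f220738 IH) (Lpe (f218831 IH) (Lpe (K12.f228398 IH) (Lpr_cf (K12.f228406 IH) (Lpn (LP (LK LD1_c2 LD2_c37 LD3_c60))))))))))))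
theorem f228420 : Led Lsl_et (LP (LK LD1_c5 LD2_c22 LD3_c56)) = (LP (LK LD1_c2 LD2_c37 LD3_c60)) :=
  Lre_e IH (LK LD1_c5 LD2_c22 LD3_c56) (LK LD1_c2 LD2_c37 LD3_c60) Lrfl Lrfl
theorem f228438 : Led Lsl_dt (LP (LK LD1_c5 LD2_c22 LD3_c56)) = (LP (LK LD1_c10 LD2_c36 LD3_c11)) :=
  Lre_d IH (LK LD1_c5 LD2_c22 LD3_c56) (LK LD1_c10 LD2_c36 LD3_c11) Lrfl Lrfl
theorem f228439 : Led Lsl_gt (LP (LK LD1_c10 LD2_c33 LD3_c58)) = (LP (LK LD1_c10 LD2_c36 LD3_c11)) :=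
  Lgr Lrot112 (Lpe (K16.f215818 IH) (Lpr_et (K14.f215817 IH) (Lpe (K11.f191211 IH) (Lpe (K12.f217630 IH) (Lpr_dt (K12.f217643 IH) (Lpr_gf (K14.f217840 IH) (Lpe (K13.f217754 IH) (Lpr_gf (f228423 IH) (Lpe (f228420 IH) (Lpr_dt (f228438 IH) (Lpn (LP (LK LD1_c10 LD2_c36 LD3_c11)))))))))))))
theorem f228496 : Led Lsl_ft (LP (LK LD1_c10 LD2_c33 LD3_c58)) = (LP (LK LD1_c19 LD2_c8 LD3_c18)) :=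
  Lre_f IH (LK LD1_c10 LD2_c33 LD3_c58) (LK LD1_c19 LD2_c8 LD3_c18) Lrfl Lrfl
theorem f228497 : Led Lsl_gt (LP (LK LD1_c10 LD2_c36 LD3_c11)) = (LP (LK LD1_c19 LD2_c12 LD3_c10)) :=
  Lre_g IH (LK LD1_c10 LD2_c36 LD3_c11) (LK LD1_c19 LD2_c12 LD3_c10) Lrfl Lrfl
theorem f228498 : Led Lsl_at (LP (LK LD1_c19 LD2_c8 LD3_c18)) = (LP (LK LD1_c19 LD2_c12 LD3_c10)) :=
  Lgr Lrot26 (Lpe (f228496 IH) (Lpr_gt (f228439 IH) (Lpr_gt (f228497 IH) (Lpn (LP (LK LD1_c19 LD2_c12 LD3_c10))))))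
theorem f228519 : Led Lsl_af (LP (LK LD1_c19 LD2_c8 LD3_c18)) = (LP (LK LD1_c19 LD2_c12 LD3_c10)) :=
  Lgr Lrot0 (Lpr_at (f228498 IH) (Lpn (LP (LK LD1_c19 LD2_c12 LD3_c10))))
theorem f254336 : Led Lsl_dt (LP (LK LD1_c19 LD2_c2 LD3_c45)) = (LP (LK LD1_c19 LD2_c12 LD3_c10)) :=
  Lgr Lrot44 (Lpr_af (K14.f254322 IH) (Lpe (f228535 IH) (Lpr_af (f228519 IH) (Lpn (LP (LK LD1_c19 LD2_c12 LD3_c10))))))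
theorem f254346 : Led Lsl_ft (LP (LK LD1_c10 LD2_c30 LD3_c34)) = (LP (LK LD1_c19 LD2_c2 LD3_c45)) :=
  Lre_f IH (LK LD1_c10 LD2_c30 LD3_c34) (LK LD1_c19 LD2_c2 LD3_c45) Lrfl Lrfl
theorem f231442 : Led Lsl_dt (LP (LK LD1_c19 LD2_c2 LD3_c44)) = (LP (LK LD1_c10 LD2_c30 LD3_c34)) :=
  Lre_d IH (LK LD1_c19 LD2_c2 LD3_c44) (LK LD1_c10 LD2_c30 LD3_c34) Lrfl Lrfl
theorem f254347 : Led Lsl_ff (LP (LK LD1_c19 LD2_c2 LD3_c44)) = (LP (LK LD1_c19 LD2_c12 LD3_c10)) :=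
  Lgr Lrot19 (Lpr_dt (f231442 IH) (Lpr_ft (f254346 IH) (Lpr_dt (f254336 IH) (Lpn (LP (LK LD1_c19 LD2_c12 LD3_c10))))))
theorem f254352 : Led Lsl_at (LP (LK LD1_c19 LD2_c2 LD3_c44)) = (LP (LK LD1_c10 LD2_c33 LD3_c58)) :=
  Lgr Lrot66 (Lpr_ff (f254347 IH) (Lpe (f228498 IH) (Lpe (f228496 IH) (Lpn (LP (LK LD1_c10 LD2_c33 LD3_c58))))))
theorem f215819 : Led Lsl_gt (LP (LK LD1_c19 LD2_c8 LD3_c16)) = (LP (LK LD1_c10 LD2_c33 LD3_c58)) :=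
  Lre_g IH (LK LD1_c19 LD2_c8 LD3_c16) (LK LD1_c10 LD2_c33 LD3_c58) Lrfl Lrfl
theorem f254357 : Led Lsl_gf (LP (LK LD1_c19 LD2_c8 LD3_c16)) = (LP (LK LD1_c19 LD2_c12 LD3_c10)) :=
  Lgr Lrot47 (Lpr_gt (f215819 IH) (Lpe (f254352 IH) (Lpr_ff (f254347 IH) (Lpn (LP (LK LD1_c19 LD2_c12 LD3_c10))))))
theorem f228664 : Led Lsl_ft (LP (LK LD1_c10 LD2_c36 LD3_c11)) = (LP (LK LD1_c19 LD2_c12 LD3_c12)) :=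
  Lre_f IH (LK LD1_c10 LD2_c36 LD3_c11) (LK LD1_c19 LD2_c12 LD3_c12) Lrfl Lrfl
theorem f254360 : Led Lsl_af (LP (LK LD1_c19 LD2_c8 LD3_c16)) = (LP (LK LD1_c19 LD2_c12 LD3_c12)) :=
  Lgr Lrot31 (Lpr_gf (f254357 IH) (Lpe (f228497 IH) (Lpr_ft (f228664 IH) (Lpn (LP (LK LD1_c19 LD2_c12 LD3_c12))))))
theorem f254363 : Led Lsl_ct (LP (LK LD1_c28 LD2_c33 LD3_c58)) = (LP (LK LD1_c19 LD2_c8 LD3_c16)) :=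
  Lre_c IH (LK LD1_c28 LD2_c33 LD3_c58) (LK LD1_c19 LD2_c8 LD3_c16) Lrfl Lrfl
theorem f228501 : Led Lsl_dt (LP (LK LD1_c10 LD2_c36 LD3_c11)) = (LP (LK LD1_c5 LD2_c22 LD3_c56)) :=
  Lre_d IH (LK LD1_c10 LD2_c36 LD3_c11) (LK LD1_c5 LD2_c22 LD3_c56) Lrfl Lrfl
theorem f228421 : Led Lsl_ct (LP (LK LD1_c5 LD2_c38 LD3_c57)) = (LP (LK LD1_c5 LD2_c22 LD3_c56)) :=
  Lgr Lrot15 (Lpe (K12.f200524 IH) (Lpr_cf (K12.f228406 IH) (Lpe (f228420 IH) (Lpn (LP (LK LD1_c5 LD2_c22 LD3_c56))))))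
theorem f228546 : Led Lsl_cf (LP (LK LD1_c5 LD2_c38 LD3_c57)) = (LP (LK LD1_c5 LD2_c22 LD3_c56)) :=
  Lgr Lrot11 (Lpr_ct (f228421 IH) (Lpn (LP (LK LD1_c5 LD2_c22 LD3_c56))))
theorem f254374 : Led Lsl_df (LP (LK LD1_c28 LD2_c33 LD3_c58)) = (LP (LK LD1_c26 LD2_c18 LD3_c0)) :=
  Lgr Lrot177 (Lpr_ct (f254363 IH) (Lpr_af (f254360 IH) (Lpe (f228664 IH) (Lpr_dt (f228501 IH) (Lpe (f228546 IH) (Lpr_dt (K12.f200516 IH) (Lpr_ct (f200521 IH) (Lpr_dt (f200522 IH) (Lpr_ct (f200523 IH) (Lpn (LP (LK LD1_c26 LD2_c18 LD3_c0))))))))))))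
theorem f297769 : Led Lsl_dt (LP (LK LD1_c19 LD2_c8 LD3_c16)) = (LP (LK LD1_c19 LD2_c3 LD3_c32)) :=
  Lgr Lrot120 (Lpe (f254363 IH) (Lpr_df (f254374 IH) (Lpe (f200523 IH) (Lpe (f200522 IH) (Lpe (f200521 IH) (Lpe (K12.f200516 IH) (Lpr_ft (f200530 IH) (Lpr_at (f297757 IH) (Lpe (K17.f286985 IH) (Lpn (LP (LK LD1_c19 LD2_c3 LD3_c32))))))))))))
theorem f277832 : Led Lsl_ft (LP (LK LD1_c19 LD2_c3 LD3_c32)) = (LP (LK LD1_c10 LD2_c30 LD3_c58)) :=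
  Lre_f IH (LK LD1_c19 LD2_c3 LD3_c32) (LK LD1_c10 LD2_c30 LD3_c58) Lrfl Lrfl
theorem f277841 : Led Lsl_dt (LP (LK LD1_c10 LD2_c30 LD3_c58)) = (LP (LK LD1_c19 LD2_c3 LD3_c31)) :=
  Lre_d IH (LK LD1_c10 LD2_c30 LD3_c58) (LK LD1_c19 LD2_c3 LD3_c31) Lrfl Lrfl
theorem f297775 : Led Lsl_ff (LP (LK LD1_c19 LD2_c8 LD3_c16)) = (LP (LK LD1_c19 LD2_c3 LD3_c31)) :=
  Lgr Lrot19 (Lpr_dt (f297769 IH) (Lpr_ft (f277832 IH) (Lpr_dt (f277841 IH) (Lpn (LP (LK LD1_c19 LD2_c3 LD3_c31))))))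
theorem f254366 : Led Lsl_at (LP (LK LD1_c19 LD2_c8 LD3_c16)) = (LP (LK LD1_c19 LD2_c12 LD3_c12)) :=
  Lgr Lrot100 (Lpr_af (f254360 IH) (Lpn (LP (LK LD1_c19 LD2_c12 LD3_c12))))
theorem f277831 : Led Lsl_et (LP (LK LD1_c10 LD2_c30 LD3_c58)) = (LP (LK LD1_c5 LD2_c20 LD3_c28)) :=
  Lre_e IH (LK LD1_c10 LD2_c30 LD3_c58) (LK LD1_c5 LD2_c20 LD3_c28) Lrfl Lrfl
theorem f27699 : Led Lsl_ef (LP (LK LD1_c4 LD2_c50 LD3_c36)) = (LP (LK LD1_c4 LD2_c13 LD3_c25)) :=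
  Lgr Lrot28 (Lpr_ct (K10.f27697 IH) (Lpr_et (K0.f27690 IH) (Lpr_ct (K12.f27698 IH) (Lpn (LP (LK LD1_c4 LD2_c13 LD3_c25))))))
theorem f231416 : Led Lsl_dt (LP (LK LD1_c10 LD2_c30 LD3_c34)) = (LP (LK LD1_c19 LD2_c2 LD3_c44)) :=
  Lre_d IH (LK LD1_c10 LD2_c30 LD3_c34) (LK LD1_c19 LD2_c2 LD3_c44) Lrfl Lrfl
theorem f277842 : Led Lsl_gf (LP (LK LD1_c19 LD2_c3 LD3_c31)) = (LP (LK LD1_c19 LD2_c2 LD3_c44)) :=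
  Lgr Lrot145 (Lpe (f277841 IH) (Lpr_et (f277831 IH) (Lpr_gt (K16.f277833 IH) (Lpr_dt (K12.f215520 IH) (Lpe (K12.f224571 IH) (Lpe (K12.f51209 IH) (Lpe (f27699 IH) (Lpe (K14.f231407 IH) (Lpe (K15.f231415 IH) (Lpr_dt (f231416 IH) (Lpn (LP (LK LD1_c19 LD2_c2 LD3_c44)))))))))))))
theorem f254355 : Led Lsl_ft (LP (LK LD1_c19 LD2_c2 LD3_c44)) = (LP (LK LD1_c19 LD2_c12 LD3_c10)) :=
  Lgr Lrot48 (Lpr_ff (f254347 IH) (Lpn (LP (LK LD1_c19 LD2_c12 LD3_c10))))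
theorem f277883 : Led Lsl_gt (LP (LK LD1_c19 LD2_c3 LD3_c31)) = (LP (LK LD1_c19 LD2_c8 LD3_c18)) :=
  Lgr Lrot46 (Lpr_gf (f277842 IH) (Lpr_ft (f254355 IH) (Lpe (f228519 IH) (Lpn (LP (LK LD1_c19 LD2_c8 LD3_c18))))))
theorem f297785 : Led Lsl_gf (LP (LK LD1_c19 LD2_c12 LD3_c12)) = (LP (LK LD1_c19 LD2_c8 LD3_c18)) :=
  Lgr Lrot76 (Lpe (f254366 IH) (Lpr_ff (f297775 IH) (Lpr_gt (f277883 IH) (Lpn (LP (LK LD1_c19 LD2_c8 LD3_c18))))))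
theorem f228536 : Led Lsl_ft (LP (LK LD1_c19 LD2_c8 LD3_c18)) = (LP (LK LD1_c10 LD2_c33 LD3_c58)) :=
  Lre_f IH (LK LD1_c19 LD2_c8 LD3_c18) (LK LD1_c10 LD2_c33 LD3_c58) Lrfl Lrfl
theorem f254318 : Led Lsl_af (LP (LK LD1_c19 LD2_c2 LD3_c44)) = (LP (LK LD1_c10 LD2_c33 LD3_c58)) :=
  Lgr Lrot117 (Lpr_dt (f231442 IH) (Lpr_at (K14.f254310 IH) (Lpr_dt (K16.f215818 IH) (Lpn (LP (LK LD1_c10 LD2_c33 LD3_c58))))))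
theorem f297787 : Led Lsl_gt (LP (LK LD1_c19 LD2_c12 LD3_c12)) = (LP (LK LD1_c19 LD2_c2 LD3_c44)) :=
  Lgr Lrot46 (Lpr_gf (f297785 IH) (Lpr_ft (f228536 IH) (Lpe (f254318 IH) (Lpn (LP (LK LD1_c19 LD2_c2 LD3_c44))))))
theorem f228567 : Led Lsl_dt (LP (LK LD1_c10 LD2_c36 LD3_c12)) = (LP (LK LD1_c19 LD2_c12 LD3_c12)) :=
  Lre_d IH (LK LD1_c10 LD2_c36 LD3_c12) (LK LD1_c19 LD2_c12 LD3_c12) Lrfl Lrfl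
theorem f276756 : Led Lsl_ft (LP (LK LD1_c2 LD2_c37 LD3_c57)) = (LP (LK LD1_c5 LD2_c22 LD3_c50)) :=
  Lre_f IH (LK LD1_c2 LD2_c37 LD3_c57) (LK LD1_c5 LD2_c22 LD3_c50) Lrfl Lrfl
theorem f288903 : Led Lsl_df (LP (LK LD1_c8 LD2_c20 LD3_c38)) = (LP (LK LD1_c5 LD2_c22 LD3_c50)) :=
  Lgr Lrot78 (Lpr_ft (K17.f288872 IH) (Lpr_dt (K16.f276746 IH) (Lpr_ft (f276756 IH) (Lpn (LP (LK LD1_c5 LD2_c22 LD3_c50))))))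
theorem f288874 : Led Lsl_gt (LP (LK LD1_c4 LD2_c10 LD3_c50)) = (LP (LK LD1_c8 LD2_c21 LD3_c36)) :=
  Lre_g IH (LK LD1_c4 LD2_c10 LD3_c50) (LK LD1_c8 LD2_c21 LD3_c36) Lrfl Lrfl
theorem f289004 : Led Lsl_gt (LP (LK LD1_c8 LD2_c21 LD3_c36)) = (LP (LK LD1_c5 LD2_c22 LD3_c50)) :=
  Lgr Lrot46 (Lpe (f288874 IH) (Lpr_ft (K17.f288999 IH) (Lpr_at (K17.f289000 IH) (Lpn (LP (LK LD1_c5 LD2_c22 LD3_c50))))))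
theorem f289007 : Led Lsl_ct (LP (LK LD1_c15 LD2_c43 LD3_c59)) = (LP (LK LD1_c8 LD2_c21 LD3_c36)) :=
  Lre_c IH (LK LD1_c15 LD2_c43 LD3_c59) (LK LD1_c8 LD2_c21 LD3_c36) Lrfl Lrfl
theorem f297789 : Led Lsl_gf (LP (LK LD1_c10 LD2_c36 LD3_c12)) = (LP (LK LD1_c15 LD2_c43 LD3_c59)) :=
  Lgr Lrot144 (Lpr_dt (f228567 IH) (Lpr_gt (f297787 IH) (Lpr_dt (f231442 IH) (Lpe (K16.f231426 IH) (Lpr_df (K16.f275287 IH) (Lpe (K17.f236952 IH) (Lpr_df (f288903 IH) (Lpe (f289004 IH) (Lpe (f289007 IH) (Lpn (LP (LK LD1_c15 LD2_c43 LD3_c59))))))))))))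
theorem f228548 : Led Lsl_ft (LP (LK LD1_c5 LD2_c22 LD3_c56)) = (LP (LK LD1_c10 LD2_c36 LD3_c12)) :=
  Lre_f IH (LK LD1_c5 LD2_c22 LD3_c56) (LK LD1_c10 LD2_c36 LD3_c12) Lrfl Lrfl
theorem f228549 : Led Lsl_cf (LP (LK LD1_c11 LD2_c8 LD3_c49)) = (LP (LK LD1_c10 LD2_c36 LD3_c12)) :=
  Lgr Lrot108 (Lpr_ft (K12.f200514 IH) (Lpr_ct (f228421 IH) (Lpr_ft (f228548 IH) (Lpn (LP (LK LD1_c10 LD2_c36 LD3_c12))))))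
theorem f297763 : Led Lsl_af (LP (LK LD1_c10 LD2_c36 LD3_c12)) = (LP (LK LD1_c19 LD2_c3 LD3_c32)) :=
  Lgr Lrot68 (Lpe (f228549 IH) (Lpr_at (f297757 IH) (Lpe (K17.f286989 IH) (Lpn (LP (LK LD1_c19 LD2_c3 LD3_c32))))))
theorem f297793 : Led Lsl_gt (LP (LK LD1_c10 LD2_c30 LD3_c58)) = (LP (LK LD1_c15 LD2_c43 LD3_c59)) :=
  Lgr Lrot5 (Lpr_ft (K17.f277821 IH) (Lpe (f297763 IH) (Lpr_gf (f297789 IH) (Lpn (LP (LK LD1_c15 LD2_c43 LD3_c59))))))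
theorem f297795 : Led Lsl_gt (LP (LK LD1_c28 LD2_c34 LD3_c1)) = (LP (LK LD1_c25 LD2_c40 LD3_c18)) :=
  Lgr Lrot150 (Lpe (K16.f228534 IH) (Lpe (f277883 IH) (Lpe (f277841 IH) (Lpr_gt (f297793 IH) (Lpr_ct (f289007 IH) (Lpr_gt (f289004 IH) (Lpr_ct (K17.f276860 IH) (Lpe (K17.f276865 IH) (Lpe (K17.f288990 IH) (Lpn (LP (LK LD1_c25 LD2_c40 LD3_c18))))))))))))
theorem f254391 : Led Lsl_ft (LP (LK LD1_c28 LD2_c34 LD3_c1)) = (LP (LK LD1_c19 LD2_c8 LD3_c17)) :=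
  Lre_f IH (LK LD1_c28 LD2_c34 LD3_c1) (LK LD1_c19 LD2_c8 LD3_c17) Lrfl Lrfl
theorem f254383 : Led Lsl_ct (LP (LK LD1_c28 LD2_c28 LD3_c60)) = (LP (LK LD1_c19 LD2_c2 LD3_c44)) :=
  Lre_c IH (LK LD1_c28 LD2_c28 LD3_c60) (LK LD1_c19 LD2_c2 LD3_c44) Lrfl Lrfl
theorem f254385 : Led Lsl_af (LP (LK LD1_c28 LD2_c28 LD3_c60)) = (LP (LK LD1_c19 LD2_c8 LD3_c17)) :=
  Lgr Lrot68 (Lpr_ct (f254383 IH) (Lpr_at (f254352 IH) (Lpr_ct (K16.f228500 IH) (Lpn (LP (LK LD1_c19 LD2_c8 LD3_c17))))))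
theorem f297797 : Led Lsl_gf (LP (LK LD1_c28 LD2_c28 LD3_c60)) = (LP (LK LD1_c25 LD2_c40 LD3_c18)) :=
  Lgr Lrot76 (Lpr_af (f254385 IH) (Lpe (f254391 IH) (Lpr_gt (f297795 IH) (Lpn (LP (LK LD1_c25 LD2_c40 LD3_c18))))))
theorem f224367 : Led Lsl_ct (LP (LK LD1_c19 LD2_c11 LD3_c33)) = (LP (LK LD1_c10 LD2_c35 LD3_c53)) :=
  Lre_c IH (LK LD1_c19 LD2_c11 LD3_c33) (LK LD1_c10 LD2_c35 LD3_c53) Lrfl Lrfl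
theorem f288992 : Led Lsl_ft (LP (LK LD1_c25 LD2_c40 LD3_c18)) = (LP (LK LD1_c19 LD2_c11 LD3_c33)) :=
  Lgr Lrot4 (Lpr_cf (K17.f288987 IH) (Lpe (K16.f276832 IH) (Lpe (f224367 IH) (Lpn (LP (LK LD1_c19 LD2_c11 LD3_c33))))))
theorem f226958 : Led Lsl_ct (LP (LK LD1_c25 LD2_c40 LD3_c34)) = (LP (LK LD1_c15 LD2_c44 LD3_c5)) :=
  Lre_c IH (LK LD1_c25 LD2_c40 LD3_c34) (LK LD1_c15 LD2_c44 LD3_c5) Lrfl Lrfl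
theorem f224364 : Led Lsl_ct (LP (LK LD1_c10 LD2_c35 LD3_c53)) = (LP (LK LD1_c19 LD2_c11 LD3_c33)) :=
  Lre_c IH (LK LD1_c10 LD2_c35 LD3_c53) (LK LD1_c19 LD2_c11 LD3_c33) Lrfl Lrfl
theorem f276828 : Led Lsl_af (LP (LK LD1_c25 LD2_c40 LD3_c34)) = (LP (LK LD1_c19 LD2_c11 LD3_c33)) :=
  Lgr Lrot68 (Lpr_ct (f226958 IH) (Lpr_at (K16.f276824 IH) (Lpr_ct (f224364 IH) (Lpn (LP (LK LD1_c19 LD2_c11 LD3_c33))))))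
theorem f297801 : Led Lsl_gt (LP (LK LD1_c28 LD2_c28 LD3_c60)) = (LP (LK LD1_c25 LD2_c40 LD3_c34)) :=
  Lgr Lrot46 (Lpr_gf (f297797 IH) (Lpr_ft (f288992 IH) (Lpe (f276828 IH) (Lpn (LP (LK LD1_c25 LD2_c40 LD3_c34))))))
theorem f254354 : Led Lsl_ct (LP (LK LD1_c19 LD2_c2 LD3_c44)) = (LP (LK LD1_c28 LD2_c28 LD3_c60)) :=
  Lre_c IH (LK LD1_c19 LD2_c2 LD3_c44) (LK LD1_c28 LD2_c28 LD3_c60) Lrfl Lrfl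
theorem f228559 : Led Lsl_dt (LP (LK LD1_c19 LD2_c12 LD3_c12)) = (LP (LK LD1_c10 LD2_c36 LD3_c12)) :=
  Lre_d IH (LK LD1_c19 LD2_c12 LD3_c12) (LK LD1_c10 LD2_c36 LD3_c12) Lrfl Lrfl
theorem f226939 : Led Lsl_dt (LP (LK LD1_c8 LD2_c21 LD3_c38)) = (LP (LK LD1_c15 LD2_c44 LD3_c5)) :=
  Lre_d IH (LK LD1_c8 LD2_c21 LD3_c38) (LK LD1_c15 LD2_c44 LD3_c5) Lrfl Lrfl
theorem f226955 : Led Lsl_ct (LP (LK LD1_c4 LD2_c10 LD3_c50)) = (LP (LK LD1_c8 LD2_c21 LD3_c38)) :=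
  Lre_c IH (LK LD1_c4 LD2_c10 LD3_c50) (LK LD1_c8 LD2_c21 LD3_c38) Lrfl Lrfl
theorem f284172 : Led Lsl_gt (LP (LK LD1_c8 LD2_c21 LD3_c37)) = (LP (LK LD1_c4 LD2_c10 LD3_c50)) :=
  Lre_g IH (LK LD1_c8 LD2_c21 LD3_c37) (LK LD1_c4 LD2_c10 LD3_c50) Lrfl Lrfl
theorem f284173 : Led Lsl_ct (LP (LK LD1_c15 LD2_c44 LD3_c0)) = (LP (LK LD1_c8 LD2_c21 LD3_c37)) :=
  Lre_c IH (LK LD1_c15 LD2_c44 LD3_c0) (LK LD1_c8 LD2_c21 LD3_c37) Lrfl Lrfl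
theorem f297804 : Led Lsl_gt (LP (LK LD1_c10 LD2_c36 LD3_c12)) = (LP (LK LD1_c15 LD2_c44 LD3_c0)) :=
  Lgr Lrot9 (Lpe (f228559 IH) (Lpr_gt (f297787 IH) (Lpr_ct (f254354 IH) (Lpr_gt (f297801 IH) (Lpr_ct (f226958 IH) (Lpe (f226939 IH) (Lpe (f226955 IH) (Lpe (f284172 IH) (Lpe (f284173 IH) (Lpn (LP (LK LD1_c15 LD2_c44 LD3_c0))))))))))))
theorem f228568 : Led Lsl_ft (LP (LK LD1_c10 LD2_c36 LD3_c12)) = (LP (LK LD1_c5 LD2_c22 LD3_c56)) :=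
  Lre_f IH (LK LD1_c10 LD2_c36 LD3_c12) (LK LD1_c5 LD2_c22 LD3_c56) Lrfl Lrfl
theorem f284174 : Led Lsl_gf (LP (LK LD1_c10 LD2_c30 LD3_c58)) = (LP (LK LD1_c15 LD2_c44 LD3_c0)) :=
  Lgr Lrot144 (Lpr_dt (f277841 IH) (Lpr_gt (f277883 IH) (Lpr_dt (f228535 IH) (Lpe (K14.f253352 IH) (Lpr_df (K17.f284162 IH) (Lpe (K17.f187041 IH) (Lpe (K17.f187040 IH) (Lpe (f284172 IH) (Lpe (f284173 IH) (Lpn (LP (LK LD1_c15 LD2_c44 LD3_c0))))))))))))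
theorem f297806 : Led Lsl_at (LP (LK LD1_c5 LD2_c22 LD3_c56)) = (LP (LK LD1_c10 LD2_c30 LD3_c58)) :=
  Lgr Lrot26 (Lpe (f228568 IH) (Lpr_gt (f297804 IH) (Lpe (f284174 IH) (Lpn (LP (LK LD1_c10 LD2_c30 LD3_c58))))))
theorem f228590 : Led Lsl_bt (LP (LK LD1_c10 LD2_c36 LD3_c9)) = (LP (LK LD1_c5 LD2_c22 LD3_c56)) :=
  Lre_b IH (LK LD1_c10 LD2_c36 LD3_c9) (LK LD1_c5 LD2_c22 LD3_c56) Lrfl Lrfl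
theorem f228598 : Led Lsl_at (LP (LK LD1_c19 LD2_c12 LD3_c2)) = (LP (LK LD1_c10 LD2_c36 LD3_c9)) :=
  Lre_a IH (LK LD1_c19 LD2_c12 LD3_c2) (LK LD1_c10 LD2_c36 LD3_c9) Lrfl Lrfl
theorem f286954 : Led Lsl_at (LP (LK LD1_c19 LD2_c3 LD3_c30)) = (LP (LK LD1_c28 LD2_c29 LD3_c41)) :=
  Lre_a IH (LK LD1_c19 LD2_c3 LD3_c30) (LK LD1_c28 LD2_c29 LD3_c41) Lrfl Lrfl
theorem f297813 : Led Lsl_bf (LP (LK LD1_c19 LD2_c12 LD3_c2)) = (LP (LK LD1_c28 LD2_c29 LD3_c41)) :=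
  Lgr Lrot81 (Lpr_at (f228598 IH) (Lpr_bt (f228590 IH) (Lpr_at (f297806 IH) (Lpr_bt (K17.f286964 IH) (Lpr_at (f286954 IH) (Lpn (LP (LK LD1_c28 LD2_c29 LD3_c41))))))))
theorem f228633 : Led Lsl_et (LP (LK LD1_c19 LD2_c12 LD3_c2)) = (LP (LK LD1_c10 LD2_c36 LD3_c7)) :=
  Lre_e IH (LK LD1_c19 LD2_c12 LD3_c2) (LK LD1_c10 LD2_c36 LD3_c7) Lrfl Lrfl
theorem f297826 : Led Lsl_bt (LP (LK LD1_c10 LD2_c36 LD3_c7)) = (LP (LK LD1_c19 LD2_c3 LD3_c29)) :=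
  Lgr Lrot119 (Lpe (f228633 IH) (Lpr_bf (f297813 IH) (Lpe (K17.f286918 IH) (Lpn (LP (LK LD1_c19 LD2_c3 LD3_c29))))))
theorem f228616 : Led Lsl_at (LP (LK LD1_c10 LD2_c36 LD3_c7)) = (LP (LK LD1_c5 LD2_c22 LD3_c54)) :=
  Lre_a IH (LK LD1_c10 LD2_c36 LD3_c7) (LK LD1_c5 LD2_c22 LD3_c54) Lrfl Lrfl
theorem f256975 : Led Lsl_at (LP (LK LD1_c10 LD2_c30 LD3_c59)) = (LP (LK LD1_c19 LD2_c3 LD3_c35)) :=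
  Lre_a IH (LK LD1_c10 LD2_c30 LD3_c59) (LK LD1_c19 LD2_c3 LD3_c35) Lrfl Lrfl
theorem f286788 : Led Lsl_ff (LP (LK LD1_c10 LD2_c36 LD3_c7)) = (LP (LK LD1_c19 LD2_c3 LD3_c35)) :=
  Lgr Lrot30 (Lpr_at (f228616 IH) (Lpr_ft (K17.f286711 IH) (Lpr_at (f256975 IH) (Lpn (LP (LK LD1_c19 LD2_c3 LD3_c35))))))
theorem f297832 : Led Lsl_bf (LP (LK LD1_c19 LD2_c3 LD3_c35)) = (LP (LK LD1_c10 LD2_c36 LD3_c15)) :=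
  Lgr Lrot61 (Lpe (f286788 IH) (Lpr_bt (f297826 IH) (Lpr_ft (K17.f286926 IH) (Lpn (LP (LK LD1_c10 LD2_c36 LD3_c15))))))
theorem f256974 : Led Lsl_et (LP (LK LD1_c19 LD2_c3 LD3_c35)) = (LP (LK LD1_c28 LD2_c29 LD3_c49)) :=
  Lre_e IH (LK LD1_c19 LD2_c3 LD3_c35) (LK LD1_c28 LD2_c29 LD3_c49) Lrfl Lrfl
theorem f275069 : Led Lsl_et (LP (LK LD1_c19 LD2_c12 LD3_c20)) = (LP (LK LD1_c10 LD2_c36 LD3_c15)) :=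
  Lre_e IH (LK LD1_c19 LD2_c12 LD3_c20) (LK LD1_c10 LD2_c36 LD3_c15) Lrfl Lrfl
theorem f297836 : Led Lsl_bt (LP (LK LD1_c28 LD2_c29 LD3_c49)) = (LP (LK LD1_c19 LD2_c12 LD3_c20)) :=
  Lgr Lrot119 (Lpe (f256974 IH) (Lpr_bf (f297832 IH) (Lpe (f275069 IH) (Lpn (LP (LK LD1_c19 LD2_c12 LD3_c20))))))
theorem f244636 : Led Lsl_at (LP (LK LD1_c8 LD2_c9 LD3_c41)) = (LP (LK LD1_c15 LD2_c22 LD3_c23)) :=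
  Lre_a IH (LK LD1_c8 LD2_c9 LD3_c41) (LK LD1_c15 LD2_c22 LD3_c23) Lrfl Lrfl
theorem f256962 : Led Lsl_at (LP (LK LD1_c19 LD2_c3 LD3_c35)) = (LP (LK LD1_c10 LD2_c30 LD3_c59)) :=
  Lre_a IH (LK LD1_c19 LD2_c3 LD3_c35) (LK LD1_c10 LD2_c30 LD3_c59) Lrfl Lrfl
theorem f256963 : Led Lsl_ct (LP (LK LD1_c15 LD2_c22 LD3_c23)) = (LP (LK LD1_c19 LD2_c3 LD3_c35)) :=
  Lgr Lrot111 (Lpe (f244636 IH) (Lpr_cf (K17.f256957 IH) (Lpe (f256962 IH) (Lpn (LP (LK LD1_c19 LD2_c3 LD3_c35))))))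
theorem f256972 : Led Lsl_cf (LP (LK LD1_c15 LD2_c22 LD3_c23)) = (LP (LK LD1_c19 LD2_c3 LD3_c35)) :=
  Lgr Lrot11 (Lpr_ct (f256963 IH) (Lpn (LP (LK LD1_c19 LD2_c3 LD3_c35))))
theorem f244631 : Led Lsl_et (LP (LK LD1_c15 LD2_c22 LD3_c23)) = (LP (LK LD1_c25 LD2_c14 LD3_c5)) :=
  Lre_e IH (LK LD1_c15 LD2_c22 LD3_c23) (LK LD1_c25 LD2_c14 LD3_c5) Lrfl Lrfl
theorem f256976 : Led Lsl_et (LP (LK LD1_c28 LD2_c29 LD3_c49)) = (LP (LK LD1_c19 LD2_c3 LD3_c35)) :=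
  Lre_e IH (LK LD1_c28 LD2_c29 LD3_c49) (LK LD1_c19 LD2_c3 LD3_c35) Lrfl Lrfl
theorem f256977 : Led Lsl_ct (LP (LK LD1_c25 LD2_c14 LD3_c5)) = (LP (LK LD1_c28 LD2_c29 LD3_c49)) :=
  Lgr Lrot15 (Lpe (f244631 IH) (Lpr_cf (f256972 IH) (Lpe (f256976 IH) (Lpn (LP (LK LD1_c28 LD2_c29 LD3_c49))))))
theorem f286280 : Led Lsl_ct (LP (LK LD1_c19 LD2_c30 LD3_c13)) = (LP (LK LD1_c20 LD2_c2 LD3_c14)) :=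
  Lre_c IH (LK LD1_c19 LD2_c30 LD3_c13) (LK LD1_c20 LD2_c2 LD3_c14) Lrfl Lrfl
theorem f297843 : Led Lsl_bf (LP (LK LD1_c25 LD2_c14 LD3_c5)) = (LP (LK LD1_c20 LD2_c2 LD3_c14)) :=
  Lgr Lrot90 (Lpr_ct (f256977 IH) (Lpr_bt (f297836 IH) (Lpe (K17.f275025 IH) (Lpr_bt (K17.f286552 IH) (Lpr_ct (f286280 IH) (Lpn (LP (LK LD1_c20 LD2_c2 LD3_c14))))))))
theorem f256983 : Led Lsl_ft (LP (LK LD1_c25 LD2_c14 LD3_c5)) = (LP (LK LD1_c31 LD2_c49 LD3_c24)) :=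
  Lre_f IH (LK LD1_c25 LD2_c14 LD3_c5) (LK LD1_c31 LD2_c49 LD3_c24) Lrfl Lrfl
theorem f297855 : Led Lsl_bt (LP (LK LD1_c31 LD2_c49 LD3_c24)) = (LP (LK LD1_c29 LD2_c15 LD3_c34)) :=
  Lgr Lrot35 (Lpe (f256983 IH) (Lpr_bf (f297843 IH) (Lpe (K17.f286638 IH) (Lpn (LP (LK LD1_c29 LD2_c15 LD3_c34))))))
theorem f228579 : Led Lsl_at (LP (LK LD1_c29 LD2_c15 LD3_c57)) = (LP (LK LD1_c20 LD2_c2 LD3_c34)) :=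
  Lre_a IH (LK LD1_c29 LD2_c15 LD3_c57) (LK LD1_c20 LD2_c2 LD3_c34) Lrfl Lrfl
theorem f286721 : Led Lsl_at (LP (LK LD1_c25 LD2_c14 LD3_c9)) = (LP (LK LD1_c31 LD2_c49 LD3_c24)) :=
  Lre_a IH (LK LD1_c25 LD2_c14 LD3_c9) (LK LD1_c31 LD2_c49 LD3_c24) Lrfl Lrfl
theorem f286722 : Led Lsl_ef (LP (LK LD1_c29 LD2_c15 LD3_c57)) = (LP (LK LD1_c31 LD2_c49 LD3_c24)) :=
  Lgr Lrot20 (Lpr_at (f228579 IH) (Lpr_et (f286715 IH) (Lpr_at (f286721 IH) (Lpn (LP (LK LD1_c31 LD2_c49 LD3_c24))))))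
theorem f286748 : Led Lsl_et (LP (LK LD1_c29 LD2_c15 LD3_c57)) = (LP (LK LD1_c31 LD2_c49 LD3_c24)) :=
  Lgr Lrot87 (Lpr_ef (f286722 IH) (Lpn (LP (LK LD1_c31 LD2_c49 LD3_c24))))
theorem f297861 : Led Lsl_bf (LP (LK LD1_c29 LD2_c15 LD3_c57)) = (LP (LK LD1_c31 LD2_c49 LD3_c14)) :=
  Lgr Lrot96 (Lpr_et (f286748 IH) (Lpr_bt (f297855 IH) (Lpe (K17.f286649 IH) (Lpn (LP (LK LD1_c31 LD2_c49 LD3_c14))))))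
theorem f228638 : Led Lsl_ft (LP (LK LD1_c29 LD2_c15 LD3_c57)) = (LP (LK LD1_c20 LD2_c2 LD3_c30)) :=
  Lre_f IH (LK LD1_c29 LD2_c15 LD3_c57) (LK LD1_c20 LD2_c2 LD3_c30) Lrfl Lrfl
theorem f297868 : Led Lsl_bt (LP (LK LD1_c20 LD2_c2 LD3_c30)) = (LP (LK LD1_c25 LD2_c13 LD3_c52)) :=
  Lgr Lrot35 (Lpe (f228638 IH) (Lpr_bf (f297861 IH) (Lpe (K17.f286637 IH) (Lpn (LP (LK LD1_c25 LD2_c13 LD3_c52))))))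
theorem f228637 : Led Lsl_dt (LP (LK LD1_c29 LD2_c15 LD3_c56)) = (LP (LK LD1_c20 LD2_c2 LD3_c30)) :=
  Lre_d IH (LK LD1_c29 LD2_c15 LD3_c56) (LK LD1_c20 LD2_c2 LD3_c30) Lrfl Lrfl
theorem f286684 : Led Lsl_dt (LP (LK LD1_c25 LD2_c13 LD3_c52)) = (LP (LK LD1_c31 LD2_c49 LD3_c13)) :=
  Lre_d IH (LK LD1_c25 LD2_c13 LD3_c52) (LK LD1_c31 LD2_c49 LD3_c13) Lrfl Lrfl
theorem f297876 : Led Lsl_bf (LP (LK LD1_c29 LD2_c15 LD3_c56)) = (LP (LK LD1_c31 LD2_c49 LD3_c13)) :=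
  Lgr Lrot93 (Lpr_dt (f228637 IH) (Lpr_bt (f297868 IH) (Lpr_dt (f286684 IH) (Lpn (LP (LK LD1_c31 LD2_c49 LD3_c13))))))
theorem f286771 : Led Lsl_at (LP (LK LD1_c29 LD2_c15 LD3_c56)) = (LP (LK LD1_c20 LD2_c2 LD3_c33)) :=
  Lre_a IH (LK LD1_c29 LD2_c15 LD3_c56) (LK LD1_c20 LD2_c2 LD3_c33) Lrfl Lrfl
theorem f227063 : Led Lsl_bt (LP (LK LD1_c20 LD2_c2 LD3_c33)) = (LP (LK LD1_c11 LD2_c8 LD3_c54)) :=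
  Lre_b IH (LK LD1_c20 LD2_c2 LD3_c33) (LK LD1_c11 LD2_c8 LD3_c54) Lrfl Lrfl
theorem f286772 : Led Lsl_at (LP (LK LD1_c25 LD2_c13 LD3_c55)) = (LP (LK LD1_c31 LD2_c49 LD3_c13)) :=
  Lre_a IH (LK LD1_c25 LD2_c13 LD3_c55) (LK LD1_c31 LD2_c49 LD3_c13) Lrfl Lrfl
theorem f286763 : Led Lsl_bt (LP (LK LD1_c15 LD2_c22 LD3_c16)) = (LP (LK LD1_c25 LD2_c13 LD3_c55)) :=
  Lre_b IH (LK LD1_c15 LD2_c22 LD3_c16) (LK LD1_c25 LD2_c13 LD3_c55) Lrfl Lrfl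
theorem f297878 : Led Lsl_at (LP (LK LD1_c11 LD2_c8 LD3_c54)) = (LP (LK LD1_c15 LD2_c22 LD3_c16)) :=
  Lgr Lrot67 (Lpe (f227063 IH) (Lpe (f286771 IH) (Lpr_bf (f297876 IH) (Lpe (f286772 IH) (Lpe (f286763 IH) (Lpn (LP (LK LD1_c15 LD2_c22 LD3_c16))))))))
theorem f200512 : Led Lsl_ft (LP (LK LD1_c20 LD2_c2 LD3_c41)) = (LP (LK LD1_c11 LD2_c8 LD3_c54)) :=
  Lre_f IH (LK LD1_c20 LD2_c2 LD3_c41) (LK LD1_c11 LD2_c8 LD3_c54) Lrfl Lrfl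
theorem f200716 : Led Lsl_et (LP (LK LD1_c8 LD2_c9 LD3_c36)) = (LP (LK LD1_c4 LD2_c4 LD3_c20)) :=
  Lre_e IH (LK LD1_c8 LD2_c9 LD3_c36) (LK LD1_c4 LD2_c4 LD3_c20) Lrfl Lrfl
theorem f200717 : Led Lsl_dt (LP (LK LD1_c8 LD2_c9 LD3_c36)) = (LP (LK LD1_c15 LD2_c22 LD3_c16)) :=
  Lre_d IH (LK LD1_c8 LD2_c9 LD3_c36) (LK LD1_c15 LD2_c22 LD3_c16) Lrfl Lrfl
theorem f27669 : Led Lsl_et (LP (LK LD1_c9 LD2_c33 LD3_c30)) = (LP (LK LD1_c4 LD2_c50 LD3_c41)) :=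
  Lre_e IH (LK LD1_c9 LD2_c33 LD3_c30) (LK LD1_c4 LD2_c50 LD3_c41) Lrfl Lrfl
theorem f27670 : Led Lsl_dt (LP (LK LD1_c9 LD2_c33 LD3_c30)) = (LP (LK LD1_c17 LD2_c36 LD3_c2)) :=
  Lre_d IH (LK LD1_c9 LD2_c33 LD3_c30) (LK LD1_c17 LD2_c36 LD3_c2) Lrfl Lrfl
theorem f223668 : Led Lsl_gf (LP (LK LD1_c15 LD2_c22 LD3_c16)) = (LP (LK LD1_c17 LD2_c36 LD3_c2)) :=
  Lgr Lrot145 (Lpe (f200717 IH) (Lpr_et (f200716 IH) (Lpr_gt (K12.f200704 IH) (Lpr_dt (K12.f223601 IH) (Lpr_gt (K12.f193340 IH) (Lpr_df (K10.f52576 IH) (Lpe (K0.f27653 IH) (Lpr_gt (K13.f27667 IH) (Lpe (f27669 IH) (Lpr_dt (f27670 IH) (Lpn (LP (LK LD1_c17 LD2_c36 LD3_c2)))))))))))))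
theorem f299047 : Led Lsl_gt (LP (LK LD1_c20 LD2_c2 LD3_c41)) = (LP (LK LD1_c17 LD2_c36 LD3_c2)) :=
  Lgr Lrot5 (Lpr_ft (f200512 IH) (Lpr_at (f297878 IH) (Lpr_gf (f223668 IH) (Lpn (LP (LK LD1_c17 LD2_c36 LD3_c2))))))
theorem f200501 : Led Lsl_dt (LP (LK LD1_c20 LD2_c2 LD3_c41)) = (LP (LK LD1_c11 LD2_c8 LD3_c55)) :=
  Lre_d IH (LK LD1_c20 LD2_c2 LD3_c41) (LK LD1_c11 LD2_c8 LD3_c55) Lrfl Lrfl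
theorem f297880 : Led Lsl_bt (LP (LK LD1_c29 LD2_c15 LD3_c56)) = (LP (LK LD1_c31 LD2_c49 LD3_c13)) :=
  Lgr Lrot127 (Lpr_bf (f297876 IH) (Lpn (LP (LK LD1_c31 LD2_c49 LD3_c13))))
theorem f228662 : Led Lsl_at (LP (LK LD1_c20 LD2_c2 LD3_c33)) = (LP (LK LD1_c29 LD2_c15 LD3_c56)) :=
  Lre_a IH (LK LD1_c20 LD2_c2 LD3_c33) (LK LD1_c29 LD2_c15 LD3_c56) Lrfl Lrfl
theorem f286775 : Led Lsl_bt (LP (LK LD1_c11 LD2_c8 LD3_c54)) = (LP (LK LD1_c20 LD2_c2 LD3_c33)) :=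
  Lre_b IH (LK LD1_c11 LD2_c8 LD3_c54) (LK LD1_c20 LD2_c2 LD3_c33) Lrfl Lrfl
theorem f286760 : Led Lsl_at (LP (LK LD1_c31 LD2_c49 LD3_c13)) = (LP (LK LD1_c25 LD2_c13 LD3_c55)) :=
  Lre_a IH (LK LD1_c31 LD2_c49 LD3_c13) (LK LD1_c25 LD2_c13 LD3_c55) Lrfl Lrfl
theorem f223679 : Led Lsl_bt (LP (LK LD1_c25 LD2_c13 LD3_c55)) = (LP (LK LD1_c15 LD2_c22 LD3_c16)) :=
  Lre_b IH (LK LD1_c25 LD2_c13 LD3_c55) (LK LD1_c15 LD2_c22 LD3_c16) Lrfl Lrfl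
theorem f297882 : Led Lsl_af (LP (LK LD1_c11 LD2_c8 LD3_c54)) = (LP (LK LD1_c15 LD2_c22 LD3_c16)) :=
  Lgr Lrot36 (Lpr_bt (f286775 IH) (Lpr_at (f228662 IH) (Lpr_bt (f297880 IH) (Lpr_at (f286760 IH) (Lpr_bt (f223679 IH) (Lpn (LP (LK LD1_c15 LD2_c22 LD3_c16))))))))
theorem f200440 : Led Lsl_dt (LP (LK LD1_c11 LD2_c8 LD3_c54)) = (LP (LK LD1_c5 LD2_c38 LD3_c59)) :=
  Lre_d IH (LK LD1_c11 LD2_c8 LD3_c54) (LK LD1_c5 LD2_c38 LD3_c59) Lrfl Lrfl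
theorem f297886 : Led Lsl_at (LP (LK LD1_c5 LD2_c38 LD3_c59)) = (LP (LK LD1_c8 LD2_c9 LD3_c36)) :=
  Lgr Lrot51 (Lpe (f200440 IH) (Lpr_af (f297882 IH) (Lpe (f200717 IH) (Lpn (LP (LK LD1_c8 LD2_c9 LD3_c36))))))
theorem f286736 : Led Lsl_ft (LP (LK LD1_c11 LD2_c8 LD3_c55)) = (LP (LK LD1_c5 LD2_c38 LD3_c59)) :=
  Lre_f IH (LK LD1_c11 LD2_c8 LD3_c55) (LK LD1_c5 LD2_c38 LD3_c59) Lrfl Lrfl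
theorem f236912 : Led Lsl_gt (LP (LK LD1_c15 LD2_c22 LD3_c15)) = (LP (LK LD1_c8 LD2_c9 LD3_c36)) :=
  Lre_g IH (LK LD1_c15 LD2_c22 LD3_c15) (LK LD1_c8 LD2_c9 LD3_c36) Lrfl Lrfl
theorem f299045 : Led Lsl_gt (LP (LK LD1_c11 LD2_c8 LD3_c55)) = (LP (LK LD1_c15 LD2_c22 LD3_c15)) :=
  Lgr Lrot5 (Lpr_ft (f286736 IH) (Lpr_at (f297886 IH) (Lpe (f236912 IH) (Lpn (LP (LK LD1_c15 LD2_c22 LD3_c15))))))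
theorem f296352 : Led Lsl_gf (LP (LK LD1_c7 LD2_c55 LD3_c41)) = (LP (LK LD1_c4 LD2_c21 LD3_c46)) :=
  Lgr Lrot47 (Lpr_gt (K13.f197708 IH) (Lpr_af (f296344 IH) (Lpe (f28885 IH) (Lpn (LP (LK LD1_c4 LD2_c21 LD3_c46))))))
theorem f233135 : Led Lsl_et (LP (LK LD1_c9 LD2_c34 LD3_c26)) = (LP (LK LD1_c4 LD2_c51 LD3_c11)) :=
  Lre_e IH (LK LD1_c9 LD2_c34 LD3_c26) (LK LD1_c4 LD2_c51 LD3_c11) Lrfl Lrfl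
theorem f236456 : Led Lsl_cf (LP (LK LD1_c9 LD2_c34 LD3_c26)) = (LP (LK LD1_c7 LD2_c55 LD3_c41)) :=
  Lgr Lrot39 (Lpr_et (f233135 IH) (Lpe (K13.f233086 IH) (Lpr_et (K13.f236454 IH) (Lpn (LP (LK LD1_c7 LD2_c55 LD3_c41))))))
theorem f233141 : Led Lsl_et (LP (LK LD1_c4 LD2_c51 LD3_c11)) = (LP (LK LD1_c9 LD2_c34 LD3_c26)) :=
  Lre_e IH (LK LD1_c4 LD2_c51 LD3_c11) (LK LD1_c9 LD2_c34 LD3_c26) Lrfl Lrfl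
theorem f236896 : Led Lsl_et (LP (LK LD1_c2 LD2_c26 LD3_c14)) = (LP (LK LD1_c4 LD2_c56 LD3_c48)) :=
  Lre_e IH (LK LD1_c2 LD2_c26 LD3_c14) (LK LD1_c4 LD2_c56 LD3_c48) Lrfl Lrfl
theorem f236897 : Led Lsl_gt (LP (LK LD1_c9 LD2_c34 LD3_c26)) = (LP (LK LD1_c4 LD2_c56 LD3_c48)) :=
  Lgr Lrot131 (Lpe (f233141 IH) (Lpr_dt (K13.f233140 IH) (Lpr_gf (K13.f233955 IH) (Lpe (K13.f189243 IH) (Lpe (K13.f232325 IH) (Lpe (K16.f184383 IH) (Lpr_dt (K1.f39181 IH) (Lpr_gf (K13.f236855 IH) (Lpe (K13.f216426 IH) (Lpr_et (f236896 IH) (Lpn (LP (LK LD1_c4 LD2_c56 LD3_c48)))))))))))))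
theorem f168429 : Led Lsl_ct (LP (LK LD1_c4 LD2_c56 LD3_c48)) = (LP (LK LD1_c2 LD2_c26 LD3_c15)) :=
  Lre_c IH (LK LD1_c4 LD2_c56 LD3_c48) (LK LD1_c2 LD2_c26 LD3_c15) Lrfl Lrfl
theorem f223674 : Led Lsl_ct (LP (LK LD1_c8 LD2_c9 LD3_c36)) = (LP (LK LD1_c4 LD2_c4 LD3_c21)) :=
  Lre_c IH (LK LD1_c8 LD2_c9 LD3_c36) (LK LD1_c4 LD2_c4 LD3_c21) Lrfl Lrfl
theorem f228064 : Led Lsl_gt (LP (LK LD1_c8 LD2_c36 LD3_c45)) = (LP (LK LD1_c4 LD2_c19 LD3_c10)) :=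
  Lre_g IH (LK LD1_c8 LD2_c36 LD3_c45) (LK LD1_c4 LD2_c19 LD3_c10) Lrfl Lrfl
theorem f262149 : Led Lsl_gt (LP (LK LD1_c8 LD2_c7 LD3_c25)) = (LP (LK LD1_c8 LD2_c36 LD3_c45)) :=
  Lgr Lrot5 (Lpr_ft (K13.f28853 IH) (Lpr_at (K15.f262143 IH) (Lpe (f228064 IH) (Lpn (LP (LK LD1_c8 LD2_c36 LD3_c45))))))
theorem f296354 : Led Lsl_cf (LP (LK LD1_c15 LD2_c22 LD3_c15)) = (LP (LK LD1_c8 LD2_c36 LD3_c45)) :=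
  Lgr Lrot169 (Lpr_gt (f236912 IH) (Lpr_ct (f223674 IH) (Lpr_df (K14.f247197 IH) (Lpe (f168429 IH) (Lpe (f236897 IH) (Lpr_cf (f236456 IH) (Lpr_gf (f296352 IH) (Lpr_df (K15.f28883 IH) (Lpr_gt (f262149 IH) (Lpn (LP (LK LD1_c8 LD2_c36 LD3_c45))))))))))))
theorem f296386 : Led Lsl_ct (LP (LK LD1_c15 LD2_c22 LD3_c15)) = (LP (LK LD1_c8 LD2_c36 LD3_c45)) :=
  Lgr Lrot59 (Lpr_cf (f296354 IH) (Lpn (LP (LK LD1_c8 LD2_c36 LD3_c45))))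
theorem f216222 : Led Lsl_ct (LP (LK LD1_c17 LD2_c36 LD3_c2)) = (LP (LK LD1_c27 LD2_c24 LD3_c7)) :=
  Lre_c IH (LK LD1_c17 LD2_c36 LD3_c2) (LK LD1_c27 LD2_c24 LD3_c7) Lrfl Lrfl
theorem f299051 : Led Lsl_gf (LP (LK LD1_c20 LD2_c3 LD3_c4)) = (LP (LK LD1_c27 LD2_c24 LD3_c7)) :=
  Lgr Lrot104 (Lpr_ct (K15.f228153 IH) (Lpe (f228147 IH) (Lpr_cf (K12.f228143 IH) (Lpe (f228064 IH) (Lpe (f296386 IH) (Lpe (f299045 IH) (Lpe (f200501 IH) (Lpr_gt (f299047 IH) (Lpr_ct (f216222 IH) (Lpn (LP (LK LD1_c27 LD2_c24 LD3_c7))))))))))))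
theorem f27674 : Led Lsl_et (LP (LK LD1_c0 LD2_c59 LD3_c23)) = (LP (LK LD1_c2 LD2_c4 LD3_c34)) :=
  Lre_e IH (LK LD1_c0 LD2_c59 LD3_c23) (LK LD1_c2 LD2_c4 LD3_c34) Lrfl Lrfl
theorem f194399 : Led Lsl_et (LP (LK LD1_c8 LD2_c6 LD3_c51)) = (LP (LK LD1_c4 LD2_c3 LD3_c8)) :=
  Lre_e IH (LK LD1_c8 LD2_c6 LD3_c51) (LK LD1_c4 LD2_c3 LD3_c8) Lrfl Lrfl
theorem f194400 : Led Lsl_dt (LP (LK LD1_c8 LD2_c6 LD3_c51)) = (LP (LK LD1_c15 LD2_c16 LD3_c41)) :=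
  Lre_d IH (LK LD1_c8 LD2_c6 LD3_c51) (LK LD1_c15 LD2_c16 LD3_c41) Lrfl Lrfl
theorem f226987 : Led Lsl_et (LP (LK LD1_c5 LD2_c38 LD3_c59)) = (LP (LK LD1_c2 LD2_c45 LD3_c27)) :=
  Lre_e IH (LK LD1_c5 LD2_c38 LD3_c59) (LK LD1_c2 LD2_c45 LD3_c27) Lrfl Lrfl
theorem f200541 : Led Lsl_dt (LP (LK LD1_c5 LD2_c38 LD3_c59)) = (LP (LK LD1_c11 LD2_c8 LD3_c54)) :=
  Lre_d IH (LK LD1_c5 LD2_c38 LD3_c59) (LK LD1_c11 LD2_c8 LD3_c54) Lrfl Lrfl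
theorem f226988 : Led Lsl_gt (LP (LK LD1_c15 LD2_c16 LD3_c41)) = (LP (LK LD1_c11 LD2_c8 LD3_c54)) :=
  Lgr Lrot112 (Lpe (f194400 IH) (Lpr_et (f194399 IH) (Lpe (K15.f194385 IH) (Lpe (f27674 IH) (Lpr_dt (K11.f52659 IH) (Lpr_gf (K11.f200798 IH) (Lpr_df (K13.f226901 IH) (Lpe (K13.f226984 IH) (Lpe (f226987 IH) (Lpr_dt (f200541 IH) (Lpn (LP (LK LD1_c11 LD2_c8 LD3_c54)))))))))))))
theorem f194401 : Led Lsl_gt (LP (LK LD1_c25 LD2_c6 LD3_c43)) = (LP (LK LD1_c15 LD2_c16 LD3_c41)) :=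
  Lre_g IH (LK LD1_c25 LD2_c6 LD3_c43) (LK LD1_c15 LD2_c16 LD3_c41) Lrfl Lrfl
theorem f297888 : Led Lsl_ft (LP (LK LD1_c25 LD2_c6 LD3_c43)) = (LP (LK LD1_c15 LD2_c22 LD3_c16)) :=
  Lgr Lrot2 (Lpr_gt (f194401 IH) (Lpr_gt (f226988 IH) (Lpr_af (f297882 IH) (Lpn (LP (LK LD1_c15 LD2_c22 LD3_c16))))))
theorem f297901 : Led Lsl_ff (LP (LK LD1_c25 LD2_c6 LD3_c43)) = (LP (LK LD1_c15 LD2_c22 LD3_c16)) :=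
  Lgr Lrot3 (Lpr_ft (f297888 IH) (Lpn (LP (LK LD1_c15 LD2_c22 LD3_c16))))
theorem f297903 : Led Lsl_at (LP (LK LD1_c25 LD2_c6 LD3_c43)) = (LP (LK LD1_c20 LD2_c2 LD3_c41)) :=
  Lgr Lrot66 (Lpr_ff (f297901 IH) (Lpe (f297878 IH) (Lpe (f200512 IH) (Lpn (LP (LK LD1_c20 LD2_c2 LD3_c41))))))
theorem f223670 : Led Lsl_dt (LP (LK LD1_c15 LD2_c22 LD3_c16)) = (LP (LK LD1_c8 LD2_c9 LD3_c36)) :=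
  Lre_d IH (LK LD1_c15 LD2_c22 LD3_c16) (LK LD1_c8 LD2_c9 LD3_c36) Lrfl Lrfl
theorem f168379 : Led Lsl_ct (LP (LK LD1_c2 LD2_c26 LD3_c15)) = (LP (LK LD1_c4 LD2_c56 LD3_c48)) :=
  Lre_c IH (LK LD1_c2 LD2_c26 LD3_c15) (LK LD1_c4 LD2_c56 LD3_c48) Lrfl Lrfl
theorem f229912 : Led Lsl_dt (LP (LK LD1_c4 LD2_c56 LD3_c48)) = (LP (LK LD1_c9 LD2_c44 LD3_c56)) :=
  Lre_d IH (LK LD1_c4 LD2_c56 LD3_c48) (LK LD1_c9 LD2_c44 LD3_c56) Lrfl Lrfl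
theorem f236911 : Led Lsl_ct (LP (LK LD1_c9 LD2_c44 LD3_c56)) = (LP (LK LD1_c17 LD2_c54 LD3_c17)) :=
  Lre_c IH (LK LD1_c9 LD2_c44 LD3_c56) (LK LD1_c17 LD2_c54 LD3_c17) Lrfl Lrfl
theorem f296556 : Led Lsl_dt (LP (LK LD1_c17 LD2_c54 LD3_c17)) = (LP (LK LD1_c27 LD2_c39 LD3_c50)) :=
  Lre_d IH (LK LD1_c17 LD2_c54 LD3_c17) (LK LD1_c27 LD2_c39 LD3_c50) Lrfl Lrfl
theorem f297914 : Led Lsl_cf (LP (LK LD1_c20 LD2_c2 LD3_c41)) = (LP (LK LD1_c27 LD2_c39 LD3_c50)) :=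
  Lgr Lrot102 (Lpe (f297903 IH) (Lpr_ff (f297901 IH) (Lpr_dt (f223670 IH) (Lpr_ct (f223674 IH) (Lpr_dt (K17.f223696 IH) (Lpr_ct (f168379 IH) (Lpr_dt (f229912 IH) (Lpr_ct (f236911 IH) (Lpr_dt (f296556 IH) (Lpn (LP (LK LD1_c27 LD2_c39 LD3_c50))))))))))))
theorem f200509 : Led Lsl_ct (LP (LK LD1_c4 LD2_c22 LD3_c45)) = (LP (LK LD1_c8 LD2_c43 LD3_c20)) :=
  Lre_c IH (LK LD1_c4 LD2_c22 LD3_c45) (LK LD1_c8 LD2_c43 LD3_c20) Lrfl Lrfl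
theorem f297927 : Led Lsl_ft (LP (LK LD1_c4 LD2_c56 LD3_c48)) = (LP (LK LD1_c9 LD2_c44 LD3_c57)) :=
  Lre_f IH (LK LD1_c4 LD2_c56 LD3_c48) (LK LD1_c9 LD2_c44 LD3_c57) Lrfl Lrfl
theorem f297928 : Led Lsl_af (LP (LK LD1_c8 LD2_c43 LD3_c20)) = (LP (LK LD1_c9 LD2_c44 LD3_c57)) :=
  Lgr Lrot109 (Lpe (f200509 IH) (Lpe (K12.f200497 IH) (Lpe (f200502 IH) (Lpe (f200501 IH) (Lpr_cf (f297914 IH) (Lpe (f296556 IH) (Lpe (f236911 IH) (Lpe (f229912 IH) (Lpr_ft (f297927 IH) (Lpn (LP (LK LD1_c9 LD2_c44 LD3_c57))))))))))))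
theorem f168447 : Led Lsl_gt (LP (LK LD1_c4 LD2_c56 LD3_c48)) = (LP (LK LD1_c9 LD2_c44 LD3_c55)) :=
  Lre_g IH (LK LD1_c4 LD2_c56 LD3_c48) (LK LD1_c9 LD2_c44 LD3_c55) Lrfl Lrfl
theorem f298998 : Led Lsl_gf (LP (LK LD1_c8 LD2_c43 LD3_c20)) = (LP (LK LD1_c9 LD2_c44 LD3_c55)) :=
  Lgr Lrot76 (Lpr_af (f297928 IH) (Lpe (f297927 IH) (Lpr_gt (f168447 IH) (Lpn (LP (LK LD1_c9 LD2_c44 LD3_c55))))))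
theorem f200510 : Led Lsl_dt (LP (LK LD1_c8 LD2_c43 LD3_c20)) = (LP (LK LD1_c16 LD2_c20 LD3_c12)) :=
  Lre_d IH (LK LD1_c8 LD2_c43 LD3_c20) (LK LD1_c16 LD2_c20 LD3_c12) Lrfl Lrfl
theorem f200511 : Led Lsl_ct (LP (LK LD1_c16 LD2_c20 LD3_c12)) = (LP (LK LD1_c26 LD2_c18 LD3_c17)) :=
  Lre_c IH (LK LD1_c16 LD2_c20 LD3_c12) (LK LD1_c26 LD2_c18 LD3_c17) Lrfl Lrfl
theorem f297930 : Led Lsl_ft (LP (LK LD1_c17 LD2_c54 LD3_c17)) = (LP (LK LD1_c27 LD2_c39 LD3_c51)) :=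
  Lre_f IH (LK LD1_c17 LD2_c54 LD3_c17) (LK LD1_c27 LD2_c39 LD3_c51) Lrfl Lrfl
theorem f297931 : Led Lsl_af (LP (LK LD1_c26 LD2_c18 LD3_c17)) = (LP (LK LD1_c27 LD2_c39 LD3_c51)) :=
  Lgr Lrot109 (Lpe (f200511 IH) (Lpe (f200510 IH) (Lpe (f200509 IH) (Lpe (K12.f200497 IH) (Lpe (f200502 IH) (Lpe (f200501 IH) (Lpr_cf (f297914 IH) (Lpe (f296556 IH) (Lpr_ft (f297930 IH) (Lpn (LP (LK LD1_c27 LD2_c39 LD3_c51))))))))))))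
theorem f297939 : Led Lsl_ft (LP (LK LD1_c26 LD2_c18 LD3_c17)) = (LP (LK LD1_c16 LD2_c20 LD3_c11)) :=
  Lre_f IH (LK LD1_c26 LD2_c18 LD3_c17) (LK LD1_c16 LD2_c20 LD3_c11) Lrfl Lrfl
theorem f297940 : Led Lsl_at (LP (LK LD1_c16 LD2_c20 LD3_c11)) = (LP (LK LD1_c17 LD2_c54 LD3_c17)) :=
  Lgr Lrot66 (Lpe (f297939 IH) (Lpr_af (f297931 IH) (Lpe (f297930 IH) (Lpn (LP (LK LD1_c17 LD2_c54 LD3_c17))))))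
theorem f200544 : Led Lsl_dt (LP (LK LD1_c26 LD2_c18 LD3_c16)) = (LP (LK LD1_c16 LD2_c20 LD3_c11)) :=
  Lre_d IH (LK LD1_c26 LD2_c18 LD3_c16) (LK LD1_c16 LD2_c20 LD3_c11) Lrfl Lrfl
theorem f297946 : Led Lsl_af (LP (LK LD1_c26 LD2_c18 LD3_c16)) = (LP (LK LD1_c27 LD2_c39 LD3_c50)) :=
  Lgr Lrot117 (Lpr_dt (f200544 IH) (Lpr_at (f297940 IH) (Lpr_dt (f296556 IH) (Lpn (LP (LK LD1_c27 LD2_c39 LD3_c50))))))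
theorem f297918 : Led Lsl_ct (LP (LK LD1_c20 LD2_c2 LD3_c41)) = (LP (LK LD1_c27 LD2_c39 LD3_c50)) :=
  Lgr Lrot59 (Lpr_cf (f297914 IH) (Lpn (LP (LK LD1_c27 LD2_c39 LD3_c50))))
theorem f297953 : Led Lsl_ct (LP (LK LD1_c26 LD2_c18 LD3_c16)) = (LP (LK LD1_c25 LD2_c6 LD3_c43)) :=
  Lgr Lrot111 (Lpr_af (f297946 IH) (Lpe (f297918 IH) (Lpe (f297903 IH) (Lpn (LP (LK LD1_c25 LD2_c6 LD3_c43))))))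
theorem f200445 : Led Lsl_dt (LP (LK LD1_c16 LD2_c20 LD3_c11)) = (LP (LK LD1_c26 LD2_c18 LD3_c16)) :=
  Lre_d IH (LK LD1_c16 LD2_c20 LD3_c11) (LK LD1_c26 LD2_c18 LD3_c16) Lrfl Lrfl
theorem f200444 : Led Lsl_ct (LP (LK LD1_c8 LD2_c43 LD3_c19)) = (LP (LK LD1_c16 LD2_c20 LD3_c11)) :=
  Lre_c IH (LK LD1_c8 LD2_c43 LD3_c19) (LK LD1_c16 LD2_c20 LD3_c11) Lrfl Lrfl
theorem f200443 : Led Lsl_dt (LP (LK LD1_c4 LD2_c22 LD3_c43)) = (LP (LK LD1_c8 LD2_c43 LD3_c19)) :=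
  Lre_d IH (LK LD1_c4 LD2_c22 LD3_c43) (LK LD1_c8 LD2_c43 LD3_c19) Lrfl Lrfl
theorem f279776 : Led Lsl_ft (LP (LK LD1_c4 LD2_c22 LD3_c43)) = (LP (LK LD1_c8 LD2_c43 LD3_c20)) :=
  Lre_f IH (LK LD1_c4 LD2_c22 LD3_c43) (LK LD1_c8 LD2_c43 LD3_c20) Lrfl Lrfl
theorem f297908 : Led Lsl_ft (LP (LK LD1_c15 LD2_c22 LD3_c17)) = (LP (LK LD1_c8 LD2_c9 LD3_c36)) :=
  Lre_f IH (LK LD1_c15 LD2_c22 LD3_c17) (LK LD1_c8 LD2_c9 LD3_c36) Lrfl Lrfl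
theorem f297909 : Led Lsl_dt (LP (LK LD1_c25 LD2_c6 LD3_c43)) = (LP (LK LD1_c15 LD2_c22 LD3_c17)) :=
  Lgr Lrot60 (Lpr_ff (f297901 IH) (Lpe (f200717 IH) (Lpe (f297908 IH) (Lpn (LP (LK LD1_c15 LD2_c22 LD3_c17))))))
theorem f247250 : Led Lsl_ct (LP (LK LD1_c15 LD2_c22 LD3_c17)) = (LP (LK LD1_c8 LD2_c9 LD3_c39)) :=
  Lre_c IH (LK LD1_c15 LD2_c22 LD3_c17) (LK LD1_c8 LD2_c9 LD3_c39) Lrfl Lrfl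
theorem f168405 : Led Lsl_ct (LP (LK LD1_c4 LD2_c56 LD3_c50)) = (LP (LK LD1_c9 LD2_c44 LD3_c57)) :=
  Lre_c IH (LK LD1_c4 LD2_c56 LD3_c50) (LK LD1_c9 LD2_c44 LD3_c57) Lrfl Lrfl
theorem f297965 : Led Lsl_at (LP (LK LD1_c8 LD2_c43 LD3_c20)) = (LP (LK LD1_c9 LD2_c44 LD3_c57)) :=
  Lgr Lrot33 (Lpe (f279776 IH) (Lpr_dt (f200443 IH) (Lpr_ct (f200444 IH) (Lpr_dt (f200445 IH) (Lpr_ct (f297953 IH) (Lpr_dt (f297909 IH) (Lpr_ct (f247250 IH) (Lpr_dt (K14.f247202 IH) (Lpr_ct (f168405 IH) (Lpn (LP (LK LD1_c9 LD2_c44 LD3_c57))))))))))))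
theorem f279454 : Led Lsl_ft (LP (LK LD1_c5 LD2_c23 LD3_c29)) = (LP (LK LD1_c10 LD2_c37 LD3_c31)) :=
  Lre_f IH (LK LD1_c5 LD2_c23 LD3_c29) (LK LD1_c10 LD2_c37 LD3_c31) Lrfl Lrfl
theorem f279455 : Led Lsl_af (LP (LK LD1_c16 LD2_c16 LD3_c36)) = (LP (LK LD1_c10 LD2_c37 LD3_c31)) :=
  Lgr Lrot45 (Lpr_ft (K17.f279443 IH) (Lpr_at (K17.f241951 IH) (Lpr_ft (f279454 IH) (Lpn (LP (LK LD1_c10 LD2_c37 LD3_c31))))))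
theorem f234048 : Led Lsl_gt (LP (LK LD1_c5 LD2_c23 LD3_c29)) = (LP (LK LD1_c10 LD2_c37 LD3_c29)) :=
  Lre_g IH (LK LD1_c5 LD2_c23 LD3_c29) (LK LD1_c10 LD2_c37 LD3_c29) Lrfl Lrfl
theorem f279754 : Led Lsl_gf (LP (LK LD1_c16 LD2_c16 LD3_c36)) = (LP (LK LD1_c10 LD2_c37 LD3_c29)) :=
  Lgr Lrot76 (Lpr_af (f279455 IH) (Lpe (f279454 IH) (Lpr_gt (f234048 IH) (Lpn (LP (LK LD1_c10 LD2_c37 LD3_c29))))))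
theorem f43135 : Led Lsl_ct (LP (LK LD1_c16 LD2_c16 LD3_c36)) = (LP (LK LD1_c8 LD2_c41 LD3_c23)) :=
  Lre_c IH (LK LD1_c16 LD2_c16 LD3_c36) (LK LD1_c8 LD2_c41 LD3_c23) Lrfl Lrfl
theorem f43125 : Led Lsl_ct (LP (LK LD1_c16 LD2_c16 LD3_c0)) = (LP (LK LD1_c8 LD2_c41 LD3_c6)) :=
  Lre_c IH (LK LD1_c16 LD2_c16 LD3_c0) (LK LD1_c8 LD2_c41 LD3_c6) Lrfl Lrfl
theorem f239840 : Led Lsl_ct (LP (LK LD1_c18 LD2_c27 LD3_c46)) = (LP (LK LD1_c10 LD2_c8 LD3_c12)) :=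
  Lre_c IH (LK LD1_c18 LD2_c27 LD3_c46) (LK LD1_c10 LD2_c8 LD3_c12) Lrfl Lrfl
theorem f239866 : Led Lsl_ct (LP (LK LD1_c9 LD2_c0 LD3_c57)) = (LP (LK LD1_c4 LD2_c31 LD3_c28)) :=
  Lre_c IH (LK LD1_c9 LD2_c0 LD3_c57) (LK LD1_c4 LD2_c31 LD3_c28) Lrfl Lrfl
theorem f239868 : Led Lsl_ff (LP (LK LD1_c9 LD2_c0 LD3_c57)) = (LP (LK LD1_c9 LD2_c37 LD3_c51)) :=
  Lgr Lrot23 (Lpr_ct (f239866 IH) (Lpr_ft (K16.f239863 IH) (Lpr_ct (K17.f239867 IH) (Lpn (LP (LK LD1_c9 LD2_c37 LD3_c51))))))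
theorem f241952 : Led Lsl_af (LP (LK LD1_c10 LD2_c37 LD3_c29)) = (LP (LK LD1_c9 LD2_c0 LD3_c57)) :=
  Lgr Lrot31 (Lpe (f234048 IH) (Lpr_gf (K17.f241949 IH) (Lpe (f239868 IH) (Lpn (LP (LK LD1_c9 LD2_c0 LD3_c57))))))
theorem f241967 : Led Lsl_at (LP (LK LD1_c10 LD2_c37 LD3_c29)) = (LP (LK LD1_c9 LD2_c0 LD3_c57)) :=
  Lgr Lrot100 (Lpr_af (f241952 IH) (Lpn (LP (LK LD1_c9 LD2_c0 LD3_c57))))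
theorem f239883 : Led Lsl_et (LP (LK LD1_c9 LD2_c0 LD3_c57)) = (LP (LK LD1_c16 LD2_c50 LD3_c49)) :=
  Lre_e IH (LK LD1_c9 LD2_c0 LD3_c57) (LK LD1_c16 LD2_c50 LD3_c49) Lrfl Lrfl
theorem f239835 : Led Lsl_ct (LP (LK LD1_c9 LD2_c0 LD3_c58)) = (LP (LK LD1_c16 LD2_c50 LD3_c49)) :=
  Lre_c IH (LK LD1_c9 LD2_c0 LD3_c58) (LK LD1_c16 LD2_c50 LD3_c49) Lrfl Lrfl
theorem f239890 : Led Lsl_at (LP (LK LD1_c16 LD2_c50 LD3_c49)) = (LP (LK LD1_c18 LD2_c27 LD3_c46)) :=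
  Lgr Lrot107 (Lpe (f239835 IH) (Lpr_af (K13.f239849 IH) (Lpe (f239840 IH) (Lpn (LP (LK LD1_c18 LD2_c27 LD3_c46))))))
theorem f241980 : Led Lsl_ef (LP (LK LD1_c10 LD2_c37 LD3_c29)) = (LP (LK LD1_c18 LD2_c27 LD3_c46)) :=
  Lgr Lrot20 (Lpr_at (f241967 IH) (Lpr_et (f239883 IH) (Lpr_at (f239890 IH) (Lpn (LP (LK LD1_c18 LD2_c27 LD3_c46))))))
theorem f241982 : Led Lsl_et (LP (LK LD1_c10 LD2_c37 LD3_c29)) = (LP (LK LD1_c18 LD2_c27 LD3_c46)) :=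
  Lgr Lrot87 (Lpr_ef (f241980 IH) (Lpn (LP (LK LD1_c18 LD2_c27 LD3_c46))))
theorem f247031 : Led Lsl_cf (LP (LK LD1_c10 LD2_c37 LD3_c29)) = (LP (LK LD1_c8 LD2_c10 LD3_c3)) :=
  Lgr Lrot39 (Lpr_et (f241982 IH) (Lpr_ct (f239840 IH) (Lpr_et (K14.f247024 IH) (Lpn (LP (LK LD1_c8 LD2_c10 LD3_c3))))))
theorem f199224 : Led Lsl_gt (LP (LK LD1_c4 LD2_c51 LD3_c9)) = (LP (LK LD1_c9 LD2_c34 LD3_c18)) :=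
  Lre_g IH (LK LD1_c4 LD2_c51 LD3_c9) (LK LD1_c9 LD2_c34 LD3_c18) Lrfl Lrfl
theorem f199225 : Led Lsl_ct (LP (LK LD1_c9 LD2_c34 LD3_c18)) = (LP (LK LD1_c17 LD2_c37 LD3_c30)) :=
  Lre_c IH (LK LD1_c9 LD2_c34 LD3_c18) (LK LD1_c17 LD2_c37 LD3_c30) Lrfl Lrfl
theorem f279758 : Led Lsl_gf (LP (LK LD1_c16 LD2_c16 LD3_c0)) = (LP (LK LD1_c17 LD2_c37 LD3_c30)) :=
  Lgr Lrot104 (Lpr_ct (f43125 IH) (Lpr_df (K17.f43128 IH) (Lpe (f43135 IH) (Lpr_gf (f279754 IH) (Lpr_cf (f247031 IH) (Lpe (K14.f199220 IH) (Lpr_df (K15.f199197 IH) (Lpr_gt (f199224 IH) (Lpr_ct (f199225 IH) (Lpn (LP (LK LD1_c17 LD2_c37 LD3_c30))))))))))))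
theorem f279467 : Led Lsl_ff (LP (LK LD1_c16 LD2_c16 LD3_c36)) = (LP (LK LD1_c10 LD2_c37 LD3_c21)) :=
  Lgr Lrot3 (Lpr_ft (K17.f279443 IH) (Lpn (LP (LK LD1_c10 LD2_c37 LD3_c21))))
theorem f279469 : Led Lsl_at (LP (LK LD1_c5 LD2_c23 LD3_c29)) = (LP (LK LD1_c10 LD2_c37 LD3_c21)) :=
  Lre_a IH (LK LD1_c5 LD2_c23 LD3_c29) (LK LD1_c10 LD2_c37 LD3_c21) Lrfl Lrfl
theorem f279470 : Led Lsl_ft (LP (LK LD1_c10 LD2_c37 LD3_c31)) = (LP (LK LD1_c5 LD2_c23 LD3_c29)) :=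
  Lre_f IH (LK LD1_c10 LD2_c37 LD3_c31) (LK LD1_c5 LD2_c23 LD3_c29) Lrfl Lrfl
theorem f279471 : Led Lsl_at (LP (LK LD1_c16 LD2_c16 LD3_c36)) = (LP (LK LD1_c10 LD2_c37 LD3_c31)) :=
  Lgr Lrot66 (Lpr_ff (f279467 IH) (Lpe (f279469 IH) (Lpe (f279470 IH) (Lpn (LP (LK LD1_c10 LD2_c37 LD3_c31))))))
theorem f255783 : Led Lsl_ct (LP (LK LD1_c10 LD2_c37 LD3_c31)) = (LP (LK LD1_c5 LD2_c23 LD3_c32)) :=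
  Lre_c IH (LK LD1_c10 LD2_c37 LD3_c31) (LK LD1_c5 LD2_c23 LD3_c32) Lrfl Lrfl
theorem f279499 : Led Lsl_af (LP (LK LD1_c8 LD2_c41 LD3_c23)) = (LP (LK LD1_c5 LD2_c23 LD3_c32)) :=
  Lgr Lrot68 (Lpr_ct (K17.f43126 IH) (Lpr_at (f279471 IH) (Lpr_ct (f255783 IH) (Lpn (LP (LK LD1_c5 LD2_c23 LD3_c32))))))
theorem f255799 : Led Lsl_dt (LP (LK LD1_c10 LD2_c37 LD3_c34)) = (LP (LK LD1_c5 LD2_c23 LD3_c32)) :=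
  Lre_d IH (LK LD1_c10 LD2_c37 LD3_c34) (LK LD1_c5 LD2_c23 LD3_c32) Lrfl Lrfl
theorem f279504 : Led Lsl_at (LP (LK LD1_c8 LD2_c41 LD3_c6)) = (LP (LK LD1_c10 LD2_c37 LD3_c34)) :=
  Lgr Lrot51 (Lpr_df (K17.f43128 IH) (Lpr_af (f279499 IH) (Lpe (f255799 IH) (Lpn (LP (LK LD1_c10 LD2_c37 LD3_c34))))))
theorem f255707 : Led Lsl_cf (LP (LK LD1_c5 LD2_c23 LD3_c31)) = (LP (LK LD1_c9 LD2_c34 LD3_c23)) :=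
  Lgr Lrot14 (Lpe (K14.f235741 IH) (Lpe (K14.f255597 IH) (Lpe (K14.f42920 IH) (Lpe (K16.f227234 IH) (Lpr_ct (K17.f255604 IH) (Lpr_gt (K16.f255702 IH) (Lpr_dt (K16.f39012 IH) (Lpr_gt (K16.f255683 IH) (Lpe (K16.f255692 IH) (Lpn (LP (LK LD1_c9 LD2_c34 LD3_c23))))))))))))
theorem f255768 : Led Lsl_ft (LP (LK LD1_c5 LD2_c23 LD3_c31)) = (LP (LK LD1_c10 LD2_c37 LD3_c34)) :=
  Lre_f IH (LK LD1_c5 LD2_c23 LD3_c31) (LK LD1_c10 LD2_c37 LD3_c34) Lrfl Lrfl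
theorem f255694 : Led Lsl_ft (LP (LK LD1_c17 LD2_c37 LD3_c38)) = (LP (LK LD1_c9 LD2_c34 LD3_c23)) :=
  Lre_f IH (LK LD1_c17 LD2_c37 LD3_c38) (LK LD1_c9 LD2_c34 LD3_c23) Lrfl Lrfl
theorem f255769 : Led Lsl_ct (LP (LK LD1_c10 LD2_c37 LD3_c34)) = (LP (LK LD1_c17 LD2_c37 LD3_c38)) :=
  Lgr Lrot40 (Lpe (f255768 IH) (Lpr_cf (f255707 IH) (Lpe (f255694 IH) (Lpn (LP (LK LD1_c17 LD2_c37 LD3_c38))))))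
theorem f279508 : Led Lsl_af (LP (LK LD1_c16 LD2_c16 LD3_c0)) = (LP (LK LD1_c17 LD2_c37 LD3_c38)) :=
  Lgr Lrot68 (Lpr_ct (f43125 IH) (Lpr_at (f279504 IH) (Lpr_ct (f255769 IH) (Lpn (LP (LK LD1_c17 LD2_c37 LD3_c38))))))
theorem f255695 : Led Lsl_ft (LP (LK LD1_c9 LD2_c34 LD3_c23)) = (LP (LK LD1_c17 LD2_c37 LD3_c38)) :=
  Lre_f IH (LK LD1_c9 LD2_c34 LD3_c23) (LK LD1_c17 LD2_c37 LD3_c38) Lrfl Lrfl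
theorem f279760 : Led Lsl_gt (LP (LK LD1_c9 LD2_c34 LD3_c23)) = (LP (LK LD1_c17 LD2_c37 LD3_c30)) :=
  Lgr Lrot5 (Lpr_ft (f255695 IH) (Lpe (f279508 IH) (Lpr_gf (f279758 IH) (Lpn (LP (LK LD1_c17 LD2_c37 LD3_c30))))))
theorem f233981 : Led Lsl_et (LP (LK LD1_c4 LD2_c51 LD3_c10)) = (LP (LK LD1_c9 LD2_c34 LD3_c23)) :=
  Lre_e IH (LK LD1_c4 LD2_c51 LD3_c10) (LK LD1_c9 LD2_c34 LD3_c23) Lrfl Lrfl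
theorem f200072 : Led Lsl_ft (LP (LK LD1_c14 LD2_c58 LD3_c3)) = (LP (LK LD1_c17 LD2_c39 LD3_c0)) :=
  Lgr Lrot48 (Lpr_ff (K13.f200068 IH) (Lpn (LP (LK LD1_c17 LD2_c39 LD3_c0))))
theorem f39018 : Led Lsl_gt (LP (LK LD1_c14 LD2_c58 LD3_c3)) = (LP (LK LD1_c24 LD2_c45 LD3_c40)) :=
  Lre_g IH (LK LD1_c14 LD2_c58 LD3_c3) (LK LD1_c24 LD2_c45 LD3_c40) Lrfl Lrfl
theorem f39561 : Led Lsl_ft (LP (LK LD1_c16 LD2_c14 LD3_c51)) = (LP (LK LD1_c8 LD2_c42 LD3_c26)) :=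
  Lre_f IH (LK LD1_c16 LD2_c14 LD3_c51) (LK LD1_c8 LD2_c42 LD3_c26) Lrfl Lrfl
theorem f200080 : Led Lsl_af (LP (LK LD1_c16 LD2_c14 LD3_c51)) = (LP (LK LD1_c17 LD2_c39 LD3_c0)) :=
  Lgr Lrot45 (Lpr_ft (f39561 IH) (Lpe (K9.f39581 IH) (Lpr_ft (f200072 IH) (Lpn (LP (LK LD1_c17 LD2_c39 LD3_c0))))))
theorem f200084 : Led Lsl_gt (LP (LK LD1_c24 LD2_c45 LD3_c40)) = (LP (LK LD1_c16 LD2_c14 LD3_c51)) :=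
  Lgr Lrot46 (Lpe (f39018 IH) (Lpr_ft (f200072 IH) (Lpe (f200080 IH) (Lpn (LP (LK LD1_c16 LD2_c14 LD3_c51))))))
theorem f1557 : Led Lsl_gt (LP (LK LD1_c4 LD2_c52 LD3_c5)) = (LP (LK LD1_c2 LD2_c23 LD3_c48)) :=
  Lre_g IH (LK LD1_c4 LD2_c52 LD3_c5) (LK LD1_c2 LD2_c23 LD3_c48) Lrfl Lrfl
theorem f1558 : Led Lsl_dt (LP (LK LD1_c9 LD2_c36 LD3_c32)) = (LP (LK LD1_c4 LD2_c52 LD3_c5)) :=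
  Lre_d IH (LK LD1_c9 LD2_c36 LD3_c32) (LK LD1_c4 LD2_c52 LD3_c5) Lrfl Lrfl
theorem f233943 : Led Lsl_ef (LP (LK LD1_c9 LD2_c34 LD3_c18)) = (LP (LK LD1_c9 LD2_c36 LD3_c32)) :=
  Lgr Lrot17 (Lpe (f199224 IH) (Lpe (K15.f199196 IH) (Lpe (K15.f199193 IH) (Lpr_gf (K13.f233939 IH) (Lpe (K10.f33323 IH) (Lpe (K0.f1573 IH) (Lpe (K1.f1551 IH) (Lpe (K0.f1532 IH) (Lpe (f1557 IH) (Lpe (f1558 IH) (Lpn (LP (LK LD1_c9 LD2_c36 LD3_c32)))))))))))))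
theorem f233948 : Led Lsl_et (LP (LK LD1_c9 LD2_c34 LD3_c18)) = (LP (LK LD1_c9 LD2_c36 LD3_c32)) :=
  Lgr Lrot87 (Lpr_ef (f233943 IH) (Lpn (LP (LK LD1_c9 LD2_c36 LD3_c32))))
theorem f233951 : Led Lsl_ct (LP (LK LD1_c17 LD2_c37 LD3_c30)) = (LP (LK LD1_c9 LD2_c34 LD3_c18)) :=
  Lre_c IH (LK LD1_c17 LD2_c37 LD3_c30) (LK LD1_c9 LD2_c34 LD3_c18) Lrfl Lrfl
theorem f30659 : Led Lsl_ct (LP (LK LD1_c9 LD2_c36 LD3_c32)) = (LP (LK LD1_c17 LD2_c41 LD3_c50)) :=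
  Lre_c IH (LK LD1_c9 LD2_c36 LD3_c32) (LK LD1_c17 LD2_c41 LD3_c50) Lrfl Lrfl
theorem f233952 : Led Lsl_ef (LP (LK LD1_c17 LD2_c37 LD3_c30)) = (LP (LK LD1_c17 LD2_c41 LD3_c50)) :=
  Lgr Lrot28 (Lpr_ct (f233951 IH) (Lpr_et (f233948 IH) (Lpr_ct (f30659 IH) (Lpn (LP (LK LD1_c17 LD2_c41 LD3_c50))))))
theorem f279762 : Led Lsl_df (LP (LK LD1_c24 LD2_c45 LD3_c40)) = (LP (LK LD1_c17 LD2_c41 LD3_c50)) :=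
  Lgr Lrot170 (Lpr_gt (f200084 IH) (Lpe (K13.f39111 IH) (Lpr_et (K13.f39069 IH) (Lpe (K13.f184374 IH) (Lpr_dt (K13.f33321 IH) (Lpr_gt (K15.f233992 IH) (Lpe (K15.f199321 IH) (Lpr_et (f233981 IH) (Lpr_gt (f279760 IH) (Lpr_ef (f233952 IH) (Lpn (LP (LK LD1_c17 LD2_c41 LD3_c50)))))))))))))
theorem f39016 : Led Lsl_et (LP (LK LD1_c7 LD2_c56 LD3_c0)) = (LP (LK LD1_c3 LD2_c57 LD3_c9)) :=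
  Lre_e IH (LK LD1_c7 LD2_c56 LD3_c0) (LK LD1_c3 LD2_c57 LD3_c9) Lrfl Lrfl
theorem f39013 : Led Lsl_gt (LP (LK LD1_c16 LD2_c17 LD3_c24)) = (LP (LK LD1_c8 LD2_c41 LD3_c51)) :=
  Lre_g IH (LK LD1_c16 LD2_c17 LD3_c24) (LK LD1_c8 LD2_c41 LD3_c51) Lrfl Lrfl
theorem f279769 : Led Lsl_df (LP (LK LD1_c16 LD2_c17 LD3_c24)) = (LP (LK LD1_c16 LD2_c16 LD3_c0)) :=
  Lgr Lrot135 (Lpr_gt (f39013 IH) (Lpe (K16.f39012 IH) (Lpr_et (K16.f39011 IH) (Lpe (K13.f39001 IH) (Lpe (f39016 IH) (Lpr_dt (K9.f39017 IH) (Lpr_gt (f39018 IH) (Lpr_df (f279762 IH) (Lpe (f233952 IH) (Lpe (f279758 IH) (Lpn (LP (LK LD1_c16 LD2_c16 LD3_c0)))))))))))))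
theorem f238758 : Led Lsl_et (LP (LK LD1_c2 LD2_c8 LD3_c48)) = (LP (LK LD1_c4 LD2_c22 LD3_c43)) :=
  Lre_e IH (LK LD1_c2 LD2_c8 LD3_c48) (LK LD1_c4 LD2_c22 LD3_c43) Lrfl Lrfl
theorem f279512 : Led Lsl_et (LP (LK LD1_c16 LD2_c16 LD3_c0)) = (LP (LK LD1_c8 LD2_c41 LD3_c4)) :=
  Lre_e IH (LK LD1_c16 LD2_c16 LD3_c0) (LK LD1_c8 LD2_c41 LD3_c4) Lrfl Lrfl
theorem f279774 : Led Lsl_gt (LP (LK LD1_c4 LD2_c22 LD3_c43)) = (LP (LK LD1_c8 LD2_c41 LD3_c4)) :=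
  Lgr Lrot131 (Lpe (f238758 IH) (Lpr_dt (K13.f238722 IH) (Lpe (K13.f39296 IH) (Lpe (K13.f38946 IH) (Lpr_gf (K13.f39001 IH) (Lpe (K16.f39011 IH) (Lpr_dt (K16.f39012 IH) (Lpe (f39013 IH) (Lpr_df (f279769 IH) (Lpr_et (f279512 IH) (Lpn (LP (LK LD1_c8 LD2_c41 LD3_c4)))))))))))))
theorem f298665 : Led Lsl_gt (LP (LK LD1_c8 LD2_c41 LD3_c4)) = (LP (LK LD1_c9 LD2_c44 LD3_c57)) :=
  Lgr Lrot46 (Lpe (f279774 IH) (Lpr_ft (f279776 IH) (Lpr_at (f297965 IH) (Lpn (LP (LK LD1_c9 LD2_c44 LD3_c57))))))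
theorem f28866 : Led Lsl_ct (LP (LK LD1_c4 LD2_c21 LD3_c44)) = (LP (LK LD1_c8 LD2_c41 LD3_c4)) :=
  Lre_c IH (LK LD1_c4 LD2_c21 LD3_c44) (LK LD1_c8 LD2_c41 LD3_c4) Lrfl Lrfl
theorem f28896 : Led Lsl_bt (LP (LK LD1_c4 LD2_c21 LD3_c40)) = (LP (LK LD1_c2 LD2_c8 LD3_c23)) :=
  Lre_b IH (LK LD1_c4 LD2_c21 LD3_c40) (LK LD1_c2 LD2_c8 LD3_c23) Lrfl Lrfl
theorem f196631 : Led Lsl_ct (LP (LK LD1_c4 LD2_c21 LD3_c40)) = (LP (LK LD1_c8 LD2_c40 LD3_c55)) :=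
  Lre_c IH (LK LD1_c4 LD2_c21 LD3_c40) (LK LD1_c8 LD2_c40 LD3_c55) Lrfl Lrfl
theorem f271050 : Led Lsl_ct (LP (LK LD1_c4 LD2_c12 LD3_c23)) = (LP (LK LD1_c8 LD2_c24 LD3_c20)) :=
  Lre_c IH (LK LD1_c4 LD2_c12 LD3_c23) (LK LD1_c8 LD2_c24 LD3_c20) Lrfl Lrfl
theorem f298667 : Led Lsl_gf (LP (LK LD1_c8 LD2_c40 LD3_c55)) = (LP (LK LD1_c8 LD2_c24 LD3_c20)) :=
  Lgr Lrot126 (Lpe (f196631 IH) (Lpr_bt (f28896 IH) (Lpr_gt (K17.f28861 IH) (Lpr_ct (f28866 IH) (Lpr_gt (f298665 IH) (Lpe (f168405 IH) (Lpr_bt (K14.f168388 IH) (Lpr_gt (K17.f271043 IH) (Lpe (K16.f271047 IH) (Lpr_ct (f271050 IH) (Lpn (LP (LK LD1_c8 LD2_c24 LD3_c20)))))))))))))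
theorem f196641 : Led Lsl_ct (LP (LK LD1_c8 LD2_c40 LD3_c55)) = (LP (LK LD1_c4 LD2_c21 LD3_c40)) :=
  Lre_c IH (LK LD1_c8 LD2_c40 LD3_c55) (LK LD1_c4 LD2_c21 LD3_c40) Lrfl Lrfl
theorem f220673 : Led Lsl_ct (LP (LK LD1_c4 LD2_c15 LD3_c55)) = (LP (LK LD1_c8 LD2_c30 LD3_c50)) :=
  Lre_c IH (LK LD1_c4 LD2_c15 LD3_c55) (LK LD1_c8 LD2_c30 LD3_c50) Lrfl Lrfl
theorem f246347 : Led Lsl_af (LP (LK LD1_c8 LD2_c40 LD3_c55)) = (LP (LK LD1_c8 LD2_c30 LD3_c50)) :=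
  Lgr Lrot68 (Lpr_ct (f196641 IH) (Lpr_at (K13.f246343 IH) (Lpr_ct (f220673 IH) (Lpn (LP (LK LD1_c8 LD2_c30 LD3_c50))))))
theorem f271051 : Led Lsl_gt (LP (LK LD1_c15 LD2_c48 LD3_c11)) = (LP (LK LD1_c8 LD2_c24 LD3_c20)) :=
  Lre_g IH (LK LD1_c15 LD2_c48 LD3_c11) (LK LD1_c8 LD2_c24 LD3_c20) Lrfl Lrfl
theorem f298669 : Led Lsl_ff (LP (LK LD1_c8 LD2_c30 LD3_c50)) = (LP (LK LD1_c15 LD2_c48 LD3_c11)) :=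
  Lgr Lrot52 (Lpe (f246347 IH) (Lpr_gf (f298667 IH) (Lpe (f271051 IH) (Lpn (LP (LK LD1_c15 LD2_c48 LD3_c11))))))
theorem f220654 : Led Lsl_ct (LP (LK LD1_c8 LD2_c30 LD3_c50)) = (LP (LK LD1_c4 LD2_c15 LD3_c55)) :=
  Lre_c IH (LK LD1_c8 LD2_c30 LD3_c50) (LK LD1_c4 LD2_c15 LD3_c55) Lrfl Lrfl
theorem f298699 : Led Lsl_ct (LP (LK LD1_c8 LD2_c30 LD3_c53)) = (LP (LK LD1_c15 LD2_c48 LD3_c11)) :=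
  Lgr Lrot40 (Lpe (K13.f220662 IH) (Lpe (f220654 IH) (Lpr_ff (f298669 IH) (Lpn (LP (LK LD1_c15 LD2_c48 LD3_c11))))))
theorem f231597 : Led Lsl_et (LP (LK LD1_c2 LD2_c4 LD3_c52)) = (LP (LK LD1_c4 LD2_c14 LD3_c58)) :=
  Lre_e IH (LK LD1_c2 LD2_c4 LD3_c52) (LK LD1_c4 LD2_c14 LD3_c58) Lrfl Lrfl
theorem f231598 : Led Lsl_bt (LP (LK LD1_c4 LD2_c14 LD3_c58)) = (LP (LK LD1_c4 LD2_c7 LD3_c40)) :=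
  Lgr Lrot119 (Lpe (f231597 IH) (Lpr_bf (K13.f231584 IH) (Lpe (K14.f50102 IH) (Lpn (LP (LK LD1_c4 LD2_c7 LD3_c40))))))
theorem f236298 : Led Lsl_bt (LP (LK LD1_c4 LD2_c16 LD3_c1)) = (LP (LK LD1_c4 LD2_c9 LD3_c11)) :=
  Lgr Lrot95 (Lpr_df (K14.f236166 IH) (Lpe (f231598 IH) (Lpr_df (K17.f236287 IH) (Lpn (LP (LK LD1_c4 LD2_c9 LD3_c11))))))
theorem f250854 : Led Lsl_at (LP (LK LD1_c4 LD2_c16 LD3_c1)) = (LP (LK LD1_c4 LD2_c8 LD3_c41)) :=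
  Lgr Lrot80 (Lpe (K14.f250663 IH) (Lpr_af (K14.f250725 IH) (Lpe (K17.f1364 IH) (Lpn (LP (LK LD1_c4 LD2_c8 LD3_c41))))))
theorem f262080 : Led Lsl_ff (LP (LK LD1_c4 LD2_c16 LD3_c1)) = (LP (LK LD1_c8 LD2_c29 LD3_c44)) :=
  Lgr Lrot52 (Lpr_at (f250854 IH) (Lpr_gf (K15.f262078 IH) (Lpe (K17.f262066 IH) (Lpn (LP (LK LD1_c8 LD2_c29 LD3_c44))))))
theorem f295784 : Led Lsl_bt (LP (LK LD1_c8 LD2_c16 LD3_c35)) = (LP (LK LD1_c8 LD2_c29 LD3_c44)) :=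
  Lgr Lrot35 (Lpr_ff (f295780 IH) (Lpe (f236298 IH) (Lpr_ff (f262080 IH) (Lpn (LP (LK LD1_c8 LD2_c29 LD3_c44))))))
theorem f298724 : Led Lsl_gf (LP (LK LD1_c15 LD2_c33 LD3_c44)) = (LP (LK LD1_c10 LD2_c50 LD3_c4)) :=
  Lgr Lrot129 (Lpe (f236019 IH) (Lpr_bt (f295784 IH) (Lpr_gt (K17.f262066 IH) (Lpe (K14.f220667 IH) (Lpr_ct (f298699 IH) (Lpr_gt (f271051 IH) (Lpe (f271050 IH) (Lpr_bt (K16.f271047 IH) (Lpe (K16.f271041 IH) (Lpr_ct (K17.f271045 IH) (Lpn (LP (LK LD1_c10 LD2_c50 LD3_c4)))))))))))))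
theorem f298730 : Led Lsl_gt (LP (LK LD1_c8 LD2_c31 LD3_c5)) = (LP (LK LD1_c8 LD2_c17 LD3_c31)) :=
  Lgr Lrot149 (Lpe (K14.f220703 IH) (Lpe (K17.f262066 IH) (Lpe (f295784 IH) (Lpr_ct (f236019 IH) (Lpr_gf (f298724 IH) (Lpe (K17.f271045 IH) (Lpr_bt (K17.f286995 IH) (Lpe (f278434 IH) (Lpe (K16.f232298 IH) (Lpr_ct (K16.f234559 IH) (Lpn (LP (LK LD1_c8 LD2_c17 LD3_c31)))))))))))))
theorem f251098 : Led Lsl_ft (LP (LK LD1_c8 LD2_c31 LD3_c5)) = (LP (LK LD1_c4 LD2_c15 LD3_c61)) :=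
  Lre_f IH (LK LD1_c8 LD2_c31 LD3_c5) (LK LD1_c4 LD2_c15 LD3_c61) Lrfl Lrfl
theorem f298873 : Led Lsl_gf (LP (LK LD1_c8 LD2_c29 LD3_c43)) = (LP (LK LD1_c8 LD2_c17 LD3_c31)) :=
  Lgr Lrot76 (Lpe (K15.f262759 IH) (Lpe (f251098 IH) (Lpr_gt (f298730 IH) (Lpn (LP (LK LD1_c8 LD2_c17 LD3_c31))))))
theorem f42891 : Led Lsl_gt (LP (LK LD1_c3 LD2_c57 LD3_c1)) = (LP (LK LD1_c7 LD2_c55 LD3_c40)) :=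
  Lre_g IH (LK LD1_c3 LD2_c57 LD3_c1) (LK LD1_c7 LD2_c55 LD3_c40) Lrfl Lrfl
theorem f299001 : Led Lsl_ct (LP (LK LD1_c7 LD2_c55 LD3_c40)) = (LP (LK LD1_c9 LD2_c44 LD3_c55)) :=
  Lgr Lrot91 (Lpe (f42891 IH) (Lpr_bf (f197638 IH) (Lpr_ct (K15.f197597 IH) (Lpr_gf (f298873 IH) (Lpe (K16.f234559 IH) (Lpr_bt (K16.f232298 IH) (Lpe (f297724 IH) (Lpe (K12.f200506 IH) (Lpr_ct (f200509 IH) (Lpr_gf (f298998 IH) (Lpn (LP (LK LD1_c9 LD2_c44 LD3_c55)))))))))))))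
theorem f299004 : Led Lsl_cf (LP (LK LD1_c7 LD2_c55 LD3_c40)) = (LP (LK LD1_c9 LD2_c44 LD3_c55)) :=
  Lgr Lrot11 (Lpr_ct (f299001 IH) (Lpn (LP (LK LD1_c9 LD2_c44 LD3_c55))))
theorem f296398 : Led Lsl_gt (LP (LK LD1_c7 LD2_c55 LD3_c40)) = (LP (LK LD1_c4 LD2_c21 LD3_c46)) :=
  Lgr Lrot46 (Lpe (f42891 IH) (Lpr_ft (K13.f197656 IH) (Lpr_at (f296350 IH) (Lpn (LP (LK LD1_c4 LD2_c21 LD3_c46))))))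
theorem f28880 : Led Lsl_ct (LP (LK LD1_c26 LD2_c13 LD3_c44)) = (LP (LK LD1_c16 LD2_c15 LD3_c59)) :=
  Lre_c IH (LK LD1_c26 LD2_c13 LD3_c44) (LK LD1_c16 LD2_c15 LD3_c59) Lrfl Lrfl
theorem f168509 : Led Lsl_dt (LP (LK LD1_c9 LD2_c44 LD3_c56)) = (LP (LK LD1_c4 LD2_c56 LD3_c48)) :=
  Lre_d IH (LK LD1_c9 LD2_c44 LD3_c56) (LK LD1_c4 LD2_c56 LD3_c48) Lrfl Lrfl
theorem f229913 : Led Lsl_gt (LP (LK LD1_c9 LD2_c44 LD3_c56)) = (LP (LK LD1_c17 LD2_c54 LD3_c15)) :=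
  Lre_g IH (LK LD1_c9 LD2_c44 LD3_c56) (LK LD1_c17 LD2_c54 LD3_c15) Lrfl Lrfl
theorem f296558 : Led Lsl_ct (LP (LK LD1_c17 LD2_c54 LD3_c15)) = (LP (LK LD1_c27 LD2_c39 LD3_c46)) :=
  Lre_c IH (LK LD1_c17 LD2_c54 LD3_c15) (LK LD1_c27 LD2_c39 LD3_c46) Lrfl Lrfl
theorem f299022 : Led Lsl_gf (LP (LK LD1_c26 LD2_c13 LD3_c44)) = (LP (LK LD1_c27 LD2_c39 LD3_c46)) :=
  Lgr Lrot104 (Lpr_ct (f28880 IH) (Lpe (K15.f28892 IH) (Lpe (K15.f28891 IH) (Lpe (f296398 IH) (Lpr_cf (f299004 IH) (Lpe (f168447 IH) (Lpe (f168509 IH) (Lpr_gt (f229913 IH) (Lpr_ct (f296558 IH) (Lpn (LP (LK LD1_c27 LD2_c39 LD3_c46))))))))))))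
theorem f28849 : Led Lsl_ct (LP (LK LD1_c25 LD2_c8 LD3_c30)) = (LP (LK LD1_c15 LD2_c17 LD3_c49)) :=
  Lre_c IH (LK LD1_c25 LD2_c8 LD3_c30) (LK LD1_c15 LD2_c17 LD3_c49) Lrfl Lrfl
theorem f228148 : Led Lsl_ct (LP (LK LD1_c11 LD2_c9 LD3_c6)) = (LP (LK LD1_c20 LD2_c3 LD3_c4)) :=
  Lre_c IH (LK LD1_c11 LD2_c9 LD3_c6) (LK LD1_c20 LD2_c3 LD3_c4) Lrfl Lrfl
theorem f262174 : Led Lsl_af (LP (LK LD1_c25 LD2_c8 LD3_c30)) = (LP (LK LD1_c20 LD2_c3 LD3_c4)) :=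
  Lgr Lrot68 (Lpr_ct (f28849 IH) (Lpr_at (K15.f262167 IH) (Lpr_ct (f228148 IH) (Lpn (LP (LK LD1_c20 LD2_c3 LD3_c4))))))
theorem f262203 : Led Lsl_af (LP (LK LD1_c26 LD2_c13 LD3_c44)) = (LP (LK LD1_c31 LD2_c38 LD3_c18)) :=
  Lgr Lrot117 (Lpr_dt (K15.f262151 IH) (Lpe (f262174 IH) (Lpr_dt (K15.f262201 IH) (Lpn (LP (LK LD1_c31 LD2_c38 LD3_c18))))))
theorem f224963 : Led Lsl_ft (LP (LK LD1_c24 LD2_c44 LD3_c56)) = (LP (LK LD1_c31 LD2_c38 LD3_c18)) :=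
  Lre_f IH (LK LD1_c24 LD2_c44 LD3_c56) (LK LD1_c31 LD2_c38 LD3_c18) Lrfl Lrfl
theorem f299024 : Led Lsl_gt (LP (LK LD1_c24 LD2_c44 LD3_c56)) = (LP (LK LD1_c27 LD2_c39 LD3_c46)) :=
  Lgr Lrot5 (Lpr_ft (f224963 IH) (Lpe (f262203 IH) (Lpr_gf (f299022 IH) (Lpn (LP (LK LD1_c27 LD2_c39 LD3_c46))))))
theorem f224962 : Led Lsl_dt (LP (LK LD1_c24 LD2_c44 LD3_c56)) = (LP (LK LD1_c31 LD2_c38 LD3_c17)) :=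
  Lre_d IH (LK LD1_c24 LD2_c44 LD3_c56) (LK LD1_c31 LD2_c38 LD3_c17) Lrfl Lrfl
theorem f296559 : Led Lsl_ct (LP (LK LD1_c27 LD2_c39 LD3_c46)) = (LP (LK LD1_c17 LD2_c54 LD3_c15)) :=
  Lre_c IH (LK LD1_c27 LD2_c39 LD3_c46) (LK LD1_c17 LD2_c54 LD3_c15) Lrfl Lrfl
theorem f200442 : Led Lsl_ct (LP (LK LD1_c2 LD2_c8 LD3_c49)) = (LP (LK LD1_c4 LD2_c22 LD3_c43)) :=
  Lre_c IH (LK LD1_c2 LD2_c8 LD3_c49) (LK LD1_c4 LD2_c22 LD3_c43) Lrfl Lrfl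
theorem f200452 : Led Lsl_ft (LP (LK LD1_c2 LD2_c45 LD3_c28)) = (LP (LK LD1_c5 LD2_c38 LD3_c61)) :=
  Lre_f IH (LK LD1_c2 LD2_c45 LD3_c28) (LK LD1_c5 LD2_c38 LD3_c61) Lrfl Lrfl
theorem f297967 : Led Lsl_at (LP (LK LD1_c5 LD2_c38 LD3_c61)) = (LP (LK LD1_c8 LD2_c9 LD3_c39)) :=
  Lgr Lrot33 (Lpe (f200452 IH) (Lpr_dt (K12.f200423 IH) (Lpr_ct (f200442 IH) (Lpr_dt (f200443 IH) (Lpr_ct (f200444 IH) (Lpr_dt (f200445 IH) (Lpr_ct (f297953 IH) (Lpr_dt (f297909 IH) (Lpr_ct (f247250 IH) (Lpn (LP (LK LD1_c8 LD2_c9 LD3_c39))))))))))))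
theorem f247255 : Led Lsl_ft (LP (LK LD1_c8 LD2_c9 LD3_c39)) = (LP (LK LD1_c4 LD2_c4 LD3_c21)) :=
  Lre_f IH (LK LD1_c8 LD2_c9 LD3_c39) (LK LD1_c4 LD2_c4 LD3_c21) Lrfl Lrfl
theorem f297975 : Led Lsl_af (LP (LK LD1_c2 LD2_c45 LD3_c28)) = (LP (LK LD1_c4 LD2_c4 LD3_c21)) :=
  Lgr Lrot45 (Lpr_ft (f200452 IH) (Lpr_at (f297967 IH) (Lpr_ft (f247255 IH) (Lpn (LP (LK LD1_c4 LD2_c4 LD3_c21))))))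
theorem f297979 : Led Lsl_at (LP (LK LD1_c2 LD2_c8 LD3_c49)) = (LP (LK LD1_c2 LD2_c26 LD3_c15)) :=
  Lgr Lrot51 (Lpe (K12.f200423 IH) (Lpr_af (f297975 IH) (Lpr_df (K14.f247197 IH) (Lpn (LP (LK LD1_c2 LD2_c26 LD3_c15))))))
theorem f297991 : Led Lsl_gt (LP (LK LD1_c4 LD2_c22 LD3_c45)) = (LP (LK LD1_c4 LD2_c18 LD3_c61)) :=
  Lgr Lrot5 (Lpr_ft (f200500 IH) (Lpr_at (f297979 IH) (Lpe (K14.f237908 IH) (Lpn (LP (LK LD1_c4 LD2_c18 LD3_c61))))))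
theorem f27528 : Led Lsl_et (LP (LK LD1_c4 LD2_c14 LD3_c26)) = (LP (LK LD1_c2 LD2_c4 LD3_c35)) :=
  Lre_e IH (LK LD1_c4 LD2_c14 LD3_c26) (LK LD1_c2 LD2_c4 LD3_c35) Lrfl Lrfl
theorem f27419 : Led Lsl_bt (LP (LK LD1_c8 LD2_c26 LD3_c31)) = (LP (LK LD1_c4 LD2_c14 LD3_c26)) :=
  Lre_b IH (LK LD1_c8 LD2_c26 LD3_c31) (LK LD1_c4 LD2_c14 LD3_c26) Lrfl Lrfl
theorem f27421 : Led Lsl_dt (LP (LK LD1_c4 LD2_c14 LD3_c26)) = (LP (LK LD1_c4 LD2_c14 LD3_c26)) :=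
  Lgr Lrot79 (Lpe (f27419 IH) (Lpr_df (K11.f27417 IH) (Lpe (K14.f27420 IH) (Lpn (LP (LK LD1_c4 LD2_c14 LD3_c26))))))
theorem f297993 : Led Lsl_gf (LP (LK LD1_c5 LD2_c38 LD3_c61)) = (LP (LK LD1_c8 LD2_c9 LD3_c37)) :=
  Lgr Lrot138 (Lpr_dt (K12.f200497 IH) (Lpr_gt (f297991 IH) (Lpr_df (K17.f237914 IH) (Lpr_et (K17.f198859 IH) (Lpr_gt (K11.f198853 IH) (Lpe (f27528 IH) (Lpr_dt (f27421 IH) (Lpr_gt (K14.f224238 IH) (Lpe (K14.f194682 IH) (Lpe (K14.f238338 IH) (Lpn (LP (LK LD1_c8 LD2_c9 LD3_c37)))))))))))))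
theorem f200492 : Led Lsl_ct (LP (LK LD1_c5 LD2_c38 LD3_c61)) = (LP (LK LD1_c11 LD2_c8 LD3_c55)) :=
  Lre_c IH (LK LD1_c5 LD2_c38 LD3_c61) (LK LD1_c11 LD2_c8 LD3_c55) Lrfl Lrfl
theorem f200493 : Led Lsl_dt (LP (LK LD1_c11 LD2_c8 LD3_c55)) = (LP (LK LD1_c20 LD2_c2 LD3_c41)) :=
  Lre_d IH (LK LD1_c11 LD2_c8 LD3_c55) (LK LD1_c20 LD2_c2 LD3_c41) Lrfl Lrfl
theorem f256143 : Led Lsl_et (LP (LK LD1_c4 LD2_c3 LD3_c13)) = (LP (LK LD1_c8 LD2_c7 LD3_c0)) :=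
  Lre_e IH (LK LD1_c4 LD2_c3 LD3_c13) (LK LD1_c8 LD2_c7 LD3_c0) Lrfl Lrfl
theorem f256144 : Led Lsl_cf (LP (LK LD1_c4 LD2_c5 LD3_c28)) = (LP (LK LD1_c8 LD2_c7 LD3_c0)) :=
  Lgr Lrot39 (Lpr_et (K17.f198859 IH) (Lpr_ct (K15.f256131 IH) (Lpr_et (f256143 IH) (Lpn (LP (LK LD1_c8 LD2_c7 LD3_c0))))))
theorem f256147 : Led Lsl_ct (LP (LK LD1_c4 LD2_c5 LD3_c28)) = (LP (LK LD1_c8 LD2_c7 LD3_c0)) :=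
  Lgr Lrot59 (Lpr_cf (f256144 IH) (Lpn (LP (LK LD1_c8 LD2_c7 LD3_c0))))
theorem f256149 : Led Lsl_dt (LP (LK LD1_c15 LD2_c17 LD3_c1)) = (LP (LK LD1_c8 LD2_c7 LD3_c0)) :=
  Lre_d IH (LK LD1_c15 LD2_c17 LD3_c1) (LK LD1_c8 LD2_c7 LD3_c0) Lrfl Lrfl
theorem f50959 : Led Lsl_et (LP (LK LD1_c8 LD2_c7 LD3_c0)) = (LP (LK LD1_c4 LD2_c3 LD3_c13)) :=
  Lre_e IH (LK LD1_c8 LD2_c7 LD3_c0) (LK LD1_c4 LD2_c3 LD3_c13) Lrfl Lrfl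
theorem f50960 : Led Lsl_dt (LP (LK LD1_c8 LD2_c7 LD3_c0)) = (LP (LK LD1_c15 LD2_c17 LD3_c1)) :=
  Lre_d IH (LK LD1_c8 LD2_c7 LD3_c0) (LK LD1_c15 LD2_c17 LD3_c1) Lrfl Lrfl
theorem f296540 : Led Lsl_gt (LP (LK LD1_c20 LD2_c3 LD3_c5)) = (LP (LK LD1_c15 LD2_c17 LD3_c1)) :=
  Lgr Lrot112 (Lpe (K15.f262186 IH) (Lpr_et (f296536 IH) (Lpe (f265679 IH) (Lpe (f265639 IH) (Lpr_dt (K15.f265637 IH) (Lpe (K15.f50953 IH) (Lpr_df (K10.f50949 IH) (Lpe (K15.f30977 IH) (Lpe (f50959 IH) (Lpr_dt (f50960 IH) (Lpn (LP (LK LD1_c15 LD2_c17 LD3_c1)))))))))))))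
theorem f196695 : Led Lsl_gt (LP (LK LD1_c8 LD2_c7 LD3_c22)) = (LP (LK LD1_c15 LD2_c17 LD3_c47)) :=
  Lre_g IH (LK LD1_c8 LD2_c7 LD3_c22) (LK LD1_c15 LD2_c17 LD3_c47) Lrfl Lrfl
theorem f262199 : Led Lsl_gt (LP (LK LD1_c15 LD2_c17 LD3_c47)) = (LP (LK LD1_c11 LD2_c9 LD3_c7)) :=
  Lgr Lrot46 (Lpe (f196695 IH) (Lpr_ft (K15.f262197 IH) (Lpr_at (K15.f262187 IH) (Lpn (LP (LK LD1_c11 LD2_c9 LD3_c7))))))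
theorem f298000 : Led Lsl_ct (LP (LK LD1_c15 LD2_c17 LD3_c47)) = (LP (LK LD1_c8 LD2_c9 LD3_c37)) :=
  Lgr Lrot8 (Lpr_gt (f262199 IH) (Lpr_dt (K15.f262186 IH) (Lpr_gt (f296540 IH) (Lpr_dt (f256149 IH) (Lpe (f256147 IH) (Lpe (K17.f237922 IH) (Lpe (f297991 IH) (Lpe (K12.f200497 IH) (Lpr_gf (f297993 IH) (Lpn (LP (LK LD1_c8 LD2_c9 LD3_c37))))))))))))
theorem f226908 : Led Lsl_gt (LP (LK LD1_c15 LD2_c17 LD3_c49)) = (LP (LK LD1_c25 LD2_c8 LD3_c29)) :=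
  Lre_g IH (LK LD1_c15 LD2_c17 LD3_c49) (LK LD1_c25 LD2_c8 LD3_c29) Lrfl Lrfl
theorem f298004 : Led Lsl_ct (LP (LK LD1_c25 LD2_c8 LD3_c29)) = (LP (LK LD1_c31 LD2_c47 LD3_c15)) :=
  Lre_c IH (LK LD1_c25 LD2_c8 LD3_c29) (LK LD1_c31 LD2_c47 LD3_c15) Lrfl Lrfl
theorem f298005 : Led Lsl_gf (LP (LK LD1_c27 LD2_c39 LD3_c50)) = (LP (LK LD1_c31 LD2_c47 LD3_c15)) :=
  Lgr Lrot104 (Lpe (f297914 IH) (Lpe (f200493 IH) (Lpe (f200492 IH) (Lpr_gf (f297993 IH) (Lpe (f298000 IH) (Lpe (f196695 IH) (Lpe (f28848 IH) (Lpr_gt (f226908 IH) (Lpr_ct (f298004 IH) (Lpn (LP (LK LD1_c31 LD2_c47 LD3_c15))))))))))))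
theorem f297951 : Led Lsl_at (LP (LK LD1_c26 LD2_c18 LD3_c16)) = (LP (LK LD1_c27 LD2_c39 LD3_c50)) :=
  Lgr Lrot100 (Lpr_af (f297946 IH) (Lpn (LP (LK LD1_c27 LD2_c39 LD3_c50))))
theorem f223677 : Led Lsl_ct (LP (LK LD1_c15 LD2_c22 LD3_c16)) = (LP (LK LD1_c25 LD2_c13 LD3_c61)) :=
  Lre_c IH (LK LD1_c15 LD2_c22 LD3_c16) (LK LD1_c25 LD2_c13 LD3_c61) Lrfl Lrfl
theorem f297962 : Led Lsl_ff (LP (LK LD1_c26 LD2_c18 LD3_c16)) = (LP (LK LD1_c25 LD2_c13 LD3_c61)) :=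
  Lgr Lrot23 (Lpr_ct (f297953 IH) (Lpr_ft (f297888 IH) (Lpr_ct (f223677 IH) (Lpn (LP (LK LD1_c25 LD2_c13 LD3_c61))))))
theorem f298008 : Led Lsl_gt (LP (LK LD1_c25 LD2_c13 LD3_c61)) = (LP (LK LD1_c31 LD2_c47 LD3_c15)) :=
  Lgr Lrot5 (Lpe (f297962 IH) (Lpr_at (f297951 IH) (Lpr_gf (f298005 IH) (Lpn (LP (LK LD1_c31 LD2_c47 LD3_c15))))))
theorem f223678 : Led Lsl_ct (LP (LK LD1_c25 LD2_c13 LD3_c61)) = (LP (LK LD1_c15 LD2_c22 LD3_c16)) :=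
  Lre_c IH (LK LD1_c25 LD2_c13 LD3_c61) (LK LD1_c15 LD2_c22 LD3_c16) Lrfl Lrfl
theorem f297920 : Led Lsl_dt (LP (LK LD1_c26 LD2_c18 LD3_c17)) = (LP (LK LD1_c25 LD2_c13 LD3_c61)) :=
  Lgr Lrot173 (Lpe (f200511 IH) (Lpe (f200510 IH) (Lpe (f200509 IH) (Lpe (K12.f200497 IH) (Lpe (f200502 IH) (Lpe (f200501 IH) (Lpr_cf (f297914 IH) (Lpe (f296556 IH) (Lpe (f236911 IH) (Lpe (f229912 IH) (Lpe (f168379 IH) (Lpe (K17.f223696 IH) (Lpe (f223674 IH) (Lpe (f223670 IH) (Lpe (f223678 IH) (Lpn (LP (LK LD1_c25 LD2_c13 LD3_c61))))))))))))))))))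
theorem f262170 : Led Lsl_af (LP (LK LD1_c15 LD2_c17 LD3_c49)) = (LP (LK LD1_c11 LD2_c9 LD3_c6)) :=
  Lgr Lrot0 (Lpr_at (K15.f262167 IH) (Lpn (LP (LK LD1_c11 LD2_c9 LD3_c6))))
theorem f296542 : Led Lsl_gf (LP (LK LD1_c15 LD2_c17 LD3_c49)) = (LP (LK LD1_c15 LD2_c17 LD3_c1)) :=
  Lgr Lrot76 (Lpr_af (f262170 IH) (Lpe (f228145 IH) (Lpr_gt (f296540 IH) (Lpn (LP (LK LD1_c15 LD2_c17 LD3_c1))))))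
theorem f28847 : Led Lsl_ct (LP (LK LD1_c8 LD2_c7 LD3_c22)) = (LP (LK LD1_c4 LD2_c3 LD3_c25)) :=
  Lre_c IH (LK LD1_c8 LD2_c7 LD3_c22) (LK LD1_c4 LD2_c3 LD3_c25) Lrfl Lrfl
theorem f28876 : Led Lsl_gt (LP (LK LD1_c4 LD2_c21 LD3_c45)) = (LP (LK LD1_c2 LD2_c8 LD3_c23)) :=
  Lre_g IH (LK LD1_c4 LD2_c21 LD3_c45) (LK LD1_c2 LD2_c8 LD3_c23) Lrfl Lrfl
theorem f28083 : Led Lsl_et (LP (LK LD1_c4 LD2_c3 LD3_c10)) = (LP (LK LD1_c1 LD2_c58 LD3_c34)) :=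
  Lre_e IH (LK LD1_c4 LD2_c3 LD3_c10) (LK LD1_c1 LD2_c58 LD3_c34) Lrfl Lrfl
theorem f227190 : Led Lsl_dt (LP (LK LD1_c4 LD2_c3 LD3_c10)) = (LP (LK LD1_c4 LD2_c21 LD3_c45)) :=
  Lgr Lrot136 (Lpr_et (f28083 IH) (Lpe (K10.f28818 IH) (Lpe (K9.f50384 IH) (Lpr_dt (K11.f52292 IH) (Lpe (K11.f53071 IH) (Lpe (K11.f53072 IH) (Lpr_gf (K12.f226899 IH) (Lpe (K13.f28872 IH) (Lpe (K13.f28834 IH) (Lpe (f28876 IH) (Lpn (LP (LK LD1_c4 LD2_c21 LD3_c45)))))))))))))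
theorem f227195 : Led Lsl_gt (LP (LK LD1_c8 LD2_c6 LD3_c53)) = (LP (LK LD1_c4 LD2_c3 LD3_c10)) :=
  Lre_g IH (LK LD1_c8 LD2_c6 LD3_c53) (LK LD1_c4 LD2_c3 LD3_c10) Lrfl Lrfl
theorem f237230 : Led Lsl_ct (LP (LK LD1_c8 LD2_c6 LD3_c53)) = (LP (LK LD1_c15 LD2_c16 LD3_c46)) :=
  Lre_c IH (LK LD1_c8 LD2_c6 LD3_c53) (LK LD1_c15 LD2_c16 LD3_c46) Lrfl Lrfl
theorem f296546 : Led Lsl_gt (LP (LK LD1_c15 LD2_c16 LD3_c46)) = (LP (LK LD1_c8 LD2_c7 LD3_c0)) :=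
  Lgr Lrot94 (Lpe (f237230 IH) (Lpr_gt (f227195 IH) (Lpr_dt (f227190 IH) (Lpr_gt (f28876 IH) (Lpr_dt (K15.f28850 IH) (Lpe (f28847 IH) (Lpe (f28848 IH) (Lpr_gf (f296542 IH) (Lpe (f50960 IH) (Lpn (LP (LK LD1_c8 LD2_c7 LD3_c0))))))))))))
theorem f39124 : Led Lsl_gt (LP (LK LD1_c7 LD2_c56 LD3_c2)) = (LP (LK LD1_c3 LD2_c57 LD3_c10)) :=
  Lre_g IH (LK LD1_c7 LD2_c56 LD3_c2) (LK LD1_c3 LD2_c57 LD3_c10) Lrfl Lrfl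
theorem f39133 : Led Lsl_dt (LP (LK LD1_c14 LD2_c58 LD3_c7)) = (LP (LK LD1_c7 LD2_c56 LD3_c2)) :=
  Lre_d IH (LK LD1_c14 LD2_c58 LD3_c7) (LK LD1_c7 LD2_c56 LD3_c2) Lrfl Lrfl
theorem f227209 : Led Lsl_et (LP (LK LD1_c1 LD2_c58 LD3_c54)) = (LP (LK LD1_c4 LD2_c3 LD3_c50)) :=
  Lre_e IH (LK LD1_c1 LD2_c58 LD3_c54) (LK LD1_c4 LD2_c3 LD3_c50) Lrfl Lrfl
theorem f227194 : Led Lsl_gt (LP (LK LD1_c4 LD2_c3 LD3_c50)) = (LP (LK LD1_c8 LD2_c8 LD3_c4)) :=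
  Lre_g IH (LK LD1_c4 LD2_c3 LD3_c50) (LK LD1_c8 LD2_c8 LD3_c4) Lrfl Lrfl
theorem f237218 : Led Lsl_et (LP (LK LD1_c14 LD2_c58 LD3_c7)) = (LP (LK LD1_c8 LD2_c8 LD3_c4)) :=
  Lgr Lrot122 (Lpr_dt (f39133 IH) (Lpr_gt (f39124 IH) (Lpe (K9.f42906 IH) (Lpr_et (K9.f39122 IH) (Lpr_gt (K12.f216806 IH) (Lpe (K12.f216737 IH) (Lpr_gt (K13.f236991 IH) (Lpe (K13.f201275 IH) (Lpr_et (f227209 IH) (Lpr_gt (f227194 IH) (Lpn (LP (LK LD1_c8 LD2_c8 LD3_c4)))))))))))))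
theorem f237224 : Led Lsl_ef (LP (LK LD1_c14 LD2_c58 LD3_c7)) = (LP (LK LD1_c8 LD2_c8 LD3_c4)) :=
  Lgr Lrot88 (Lpr_et (f237218 IH) (Lpn (LP (LK LD1_c8 LD2_c8 LD3_c4))))
theorem f229008 : Led Lsl_et (LP (LK LD1_c7 LD2_c56 LD3_c2)) = (LP (LK LD1_c14 LD2_c58 LD3_c8)) :=
  Lre_e IH (LK LD1_c7 LD2_c56 LD3_c2) (LK LD1_c14 LD2_c58 LD3_c8) Lrfl Lrfl
theorem f226859 : Led Lsl_et (LP (LK LD1_c1 LD2_c58 LD3_c52)) = (LP (LK LD1_c0 LD2_c56 LD3_c14)) :=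
  Lre_e IH (LK LD1_c1 LD2_c58 LD3_c52) (LK LD1_c0 LD2_c56 LD3_c14) Lrfl Lrfl
theorem f227196 : Led Lsl_et (LP (LK LD1_c15 LD2_c16 LD3_c47)) = (LP (LK LD1_c8 LD2_c6 LD3_c53)) :=
  Lre_e IH (LK LD1_c15 LD2_c16 LD3_c47) (LK LD1_c8 LD2_c6 LD3_c53) Lrfl Lrfl
theorem f227197 : Led Lsl_df (LP (LK LD1_c8 LD2_c8 LD3_c4)) = (LP (LK LD1_c15 LD2_c16 LD3_c47)) :=
  Lgr Lrot168 (Lpe (f227194 IH) (Lpe (K16.f226860 IH) (Lpr_et (f226859 IH) (Lpr_gf (K12.f226899 IH) (Lpe (K13.f28872 IH) (Lpe (K13.f28834 IH) (Lpe (f28876 IH) (Lpe (f227190 IH) (Lpe (f227195 IH) (Lpe (f227196 IH) (Lpn (LP (LK LD1_c15 LD2_c16 LD3_c47)))))))))))))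
theorem f227202 : Led Lsl_et (LP (LK LD1_c8 LD2_c6 LD3_c53)) = (LP (LK LD1_c15 LD2_c16 LD3_c47)) :=
  Lre_e IH (LK LD1_c8 LD2_c6 LD3_c53) (LK LD1_c15 LD2_c16 LD3_c47) Lrfl Lrfl
theorem f237228 : Led Lsl_dt (LP (LK LD1_c14 LD2_c58 LD3_c8)) = (LP (LK LD1_c8 LD2_c6 LD3_c53)) :=
  Lgr Lrot77 (Lpe (f229008 IH) (Lpe (f39133 IH) (Lpr_ef (f237224 IH) (Lpr_df (f227197 IH) (Lpe (f227202 IH) (Lpn (LP (LK LD1_c8 LD2_c6 LD3_c53))))))))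
theorem f39134 : Led Lsl_et (LP (LK LD1_c14 LD2_c58 LD3_c8)) = (LP (LK LD1_c7 LD2_c56 LD3_c2)) :=
  Lre_e IH (LK LD1_c14 LD2_c58 LD3_c8) (LK LD1_c7 LD2_c56 LD3_c2) Lrfl Lrfl
theorem f237233 : Led Lsl_gt (LP (LK LD1_c8 LD2_c41 LD3_c5)) = (LP (LK LD1_c8 LD2_c6 LD3_c53)) :=
  Lgr Lrot139 (Lpe (K17.f28862 IH) (Lpe (K17.f28861 IH) (Lpe (K17.f28902 IH) (Lpr_dt (K13.f28831 IH) (Lpr_gf (K9.f43115 IH) (Lpe (K1.f39005 IH) (Lpr_et (K1.f39139 IH) (Lpe (f39124 IH) (Lpe (f39134 IH) (Lpr_dt (f237228 IH) (Lpn (LP (LK LD1_c8 LD2_c6 LD3_c53)))))))))))))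
theorem f28871 : Led Lsl_dt (LP (LK LD1_c8 LD2_c41 LD3_c5)) = (LP (LK LD1_c4 LD2_c21 LD3_c44)) :=
  Lre_d IH (LK LD1_c8 LD2_c41 LD3_c5) (LK LD1_c4 LD2_c21 LD3_c44) Lrfl Lrfl
theorem f193640 : Led Lsl_gt (LP (LK LD1_c8 LD2_c4 LD3_c40)) = (LP (LK LD1_c4 LD2_c1 LD3_c61)) :=
  Lre_g IH (LK LD1_c8 LD2_c4 LD3_c40) (LK LD1_c4 LD2_c1 LD3_c61) Lrfl Lrfl
theorem f275922 : Led Lsl_gt (LP (LK LD1_c8 LD2_c3 LD3_c13)) = (LP (LK LD1_c8 LD2_c4 LD3_c40)) :=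
  Lgr Lrot5 (Lpr_ft (K16.f193037 IH) (Lpr_at (K16.f275916 IH) (Lpe (f193640 IH) (Lpn (LP (LK LD1_c8 LD2_c4 LD3_c40))))))
theorem f216758 : Led Lsl_bt (LP (LK LD1_c8 LD2_c41 LD3_c29)) = (LP (LK LD1_c4 LD2_c21 LD3_c61)) :=
  Lre_b IH (LK LD1_c8 LD2_c41 LD3_c29) (LK LD1_c4 LD2_c21 LD3_c61) Lrfl Lrfl
theorem f216759 : Led Lsl_df (LP (LK LD1_c8 LD2_c3 LD3_c13)) = (LP (LK LD1_c4 LD2_c21 LD3_c61)) :=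
  Lgr Lrot12 (Lpr_bt (K16.f193021 IH) (Lpr_dt (K16.f216755 IH) (Lpr_bt (f216758 IH) (Lpn (LP (LK LD1_c4 LD2_c21 LD3_c61))))))
theorem f229732 : Led Lsl_gt (LP (LK LD1_c3 LD2_c57 LD3_c4)) = (LP (LK LD1_c7 LD2_c55 LD3_c48)) :=
  Lre_g IH (LK LD1_c3 LD2_c57 LD3_c4) (LK LD1_c7 LD2_c55 LD3_c48) Lrfl Lrfl
theorem f269812 : Led Lsl_gf (LP (LK LD1_c4 LD2_c21 LD3_c61)) = (LP (LK LD1_c7 LD2_c55 LD3_c48)) :=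
  Lgr Lrot76 (Lpr_af (K16.f269800 IH) (Lpe (K16.f229728 IH) (Lpr_gt (f229732 IH) (Lpn (LP (LK LD1_c7 LD2_c55 LD3_c48))))))
theorem f255555 : Led Lsl_et (LP (LK LD1_c14 LD2_c57 LD3_c31)) = (LP (LK LD1_c7 LD2_c55 LD3_c48)) :=
  Lre_e IH (LK LD1_c14 LD2_c57 LD3_c31) (LK LD1_c7 LD2_c55 LD3_c48) Lrfl Lrfl
theorem f28860 : Led Lsl_gt (LP (LK LD1_c8 LD2_c7 LD3_c24)) = (LP (LK LD1_c4 LD2_c3 LD3_c25)) :=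
  Lre_g IH (LK LD1_c8 LD2_c7 LD3_c24) (LK LD1_c4 LD2_c3 LD3_c25) Lrfl Lrfl
theorem f255556 : Led Lsl_df (LP (LK LD1_c8 LD2_c7 LD3_c24)) = (LP (LK LD1_c14 LD2_c57 LD3_c31)) :=
  Lgr Lrot170 (Lpr_gt (f28860 IH) (Lpe (K15.f28850 IH) (Lpr_et (K13.f28832 IH) (Lpe (K13.f238734 IH) (Lpr_dt (K14.f255545 IH) (Lpr_gt (K15.f254973 IH) (Lpe (K13.f229431 IH) (Lpr_et (K15.f229433 IH) (Lpr_gt (f229732 IH) (Lpe (f255555 IH) (Lpn (LP (LK LD1_c14 LD2_c57 LD3_c31)))))))))))))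
theorem f186906 : Led Lsl_gt (LP (LK LD1_c4 LD2_c51 LD3_c6)) = (LP (LK LD1_c9 LD2_c34 LD3_c13)) :=
  Lre_g IH (LK LD1_c4 LD2_c51 LD3_c6) (LK LD1_c9 LD2_c34 LD3_c13) Lrfl Lrfl
theorem f229735 : Led Lsl_df (LP (LK LD1_c8 LD2_c4 LD3_c40)) = (LP (LK LD1_c9 LD2_c34 LD3_c13)) :=
  Lgr Lrot135 (Lpr_gt (f193640 IH) (Lpr_df (K15.f229717 IH) (Lpr_et (K16.f186929 IH) (Lpr_gt (K12.f43209 IH) (Lpe (K12.f29082 IH) (Lpr_dt (K1.f29070 IH) (Lpe (K10.f186918 IH) (Lpe (K13.f2108 IH) (Lpr_et (K14.f186891 IH) (Lpr_gt (f186906 IH) (Lpn (LP (LK LD1_c9 LD2_c34 LD3_c13)))))))))))))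
theorem f229689 : Led Lsl_gt (LP (LK LD1_c3 LD2_c56 LD3_c60)) = (LP (LK LD1_c7 LD2_c55 LD3_c35)) :=
  Lre_g IH (LK LD1_c3 LD2_c56 LD3_c60) (LK LD1_c7 LD2_c55 LD3_c35) Lrfl Lrfl
theorem f229737 : Led Lsl_et (LP (LK LD1_c9 LD2_c34 LD3_c13)) = (LP (LK LD1_c7 LD2_c55 LD3_c35)) :=
  Lgr Lrot122 (Lpe (f229735 IH) (Lpr_gt (f193640 IH) (Lpr_df (K15.f229717 IH) (Lpr_et (K16.f186929 IH) (Lpr_gt (K12.f43209 IH) (Lpr_dt (K12.f42868 IH) (Lpr_gt (K12.f42735 IH) (Lpe (K13.f229460 IH) (Lpr_et (K17.f229490 IH) (Lpr_gt (f229689 IH) (Lpn (LP (LK LD1_c7 LD2_c55 LD3_c35)))))))))))))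
theorem f262562 : Led Lsl_gf (LP (LK LD1_c4 LD2_c21 LD3_c37)) = (LP (LK LD1_c7 LD2_c55 LD3_c35)) :=
  Lgr Lrot76 (Lpr_af (K15.f262551 IH) (Lpe (K13.f229680 IH) (Lpr_gt (f229689 IH) (Lpn (LP (LK LD1_c7 LD2_c55 LD3_c35))))))
theorem f275924 : Led Lsl_gf (LP (LK LD1_c8 LD2_c7 LD3_c24)) = (LP (LK LD1_c8 LD2_c36 LD3_c46)) :=
  Lgr Lrot145 (Lpr_df (f255556 IH) (Lpr_et (f255555 IH) (Lpe (f269812 IH) (Lpe (f216759 IH) (Lpr_gt (f275922 IH) (Lpr_df (f229735 IH) (Lpr_et (f229737 IH) (Lpe (f262562 IH) (Lpe (f262635 IH) (Lpe (K13.f228058 IH) (Lpn (LP (LK LD1_c8 LD2_c36 LD3_c46)))))))))))))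
theorem f275926 : Led Lsl_gt (LP (LK LD1_c4 LD2_c21 LD3_c44)) = (LP (LK LD1_c7 LD2_c55 LD3_c42)) :=
  Lgr Lrot137 (Lpe (K17.f43122 IH) (Lpr_dt (K17.f43123 IH) (Lpe (K17.f270357 IH) (Lpe (K16.f275727 IH) (Lpe (K16.f269876 IH) (Lpr_gf (f269812 IH) (Lpe (f255555 IH) (Lpe (f255556 IH) (Lpr_gf (f275924 IH) (Lpr_df (K13.f228058 IH) (Lpn (LP (LK LD1_c7 LD2_c55 LD3_c42)))))))))))))
theorem f197652 : Led Lsl_ct (LP (LK LD1_c7 LD2_c55 LD3_c42)) = (LP (LK LD1_c14 LD2_c57 LD3_c22)) :=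
  Lre_c IH (LK LD1_c7 LD2_c55 LD3_c42) (LK LD1_c14 LD2_c57 LD3_c22) Lrfl Lrfl
theorem f237911 : Led Lsl_ct (LP (LK LD1_c8 LD2_c36 LD3_c35)) = (LP (LK LD1_c4 LD2_c18 LD3_c61)) :=
  Lre_c IH (LK LD1_c8 LD2_c36 LD3_c35) (LK LD1_c4 LD2_c18 LD3_c61) Lrfl Lrfl
theorem f296549 : Led Lsl_gt (LP (LK LD1_c14 LD2_c57 LD3_c22)) = (LP (LK LD1_c8 LD2_c36 LD3_c35)) :=
  Lgr Lrot150 (Lpe (f197652 IH) (Lpe (f275926 IH) (Lpe (f28871 IH) (Lpr_gt (f237233 IH) (Lpr_ct (f237230 IH) (Lpr_gt (f296546 IH) (Lpe (f256144 IH) (Lpe (K17.f237922 IH) (Lpe (f237911 IH) (Lpn (LP (LK LD1_c8 LD2_c36 LD3_c35))))))))))))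
theorem f228056 : Led Lsl_dt (LP (LK LD1_c14 LD2_c57 LD3_c22)) = (LP (LK LD1_c24 LD2_c44 LD3_c57)) :=
  Lre_d IH (LK LD1_c14 LD2_c57 LD3_c22) (LK LD1_c24 LD2_c44 LD3_c57) Lrfl Lrfl
theorem f28859 : Led Lsl_gt (LP (LK LD1_c16 LD2_c15 LD3_c57)) = (LP (LK LD1_c8 LD2_c41 LD3_c2)) :=
  Lre_g IH (LK LD1_c16 LD2_c15 LD3_c57) (LK LD1_c8 LD2_c41 LD3_c2) Lrfl Lrfl
theorem f262229 : Led Lsl_gf (LP (LK LD1_c16 LD2_c15 LD3_c57)) = (LP (LK LD1_c24 LD2_c44 LD3_c57)) :=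
  Lgr Lrot47 (Lpr_gt (f28859 IH) (Lpr_af (K15.f262219 IH) (Lpe (K15.f224959 IH) (Lpn (LP (LK LD1_c24 LD2_c44 LD3_c57))))))
theorem f262231 : Led Lsl_ct (LP (LK LD1_c16 LD2_c15 LD3_c57)) = (LP (LK LD1_c26 LD2_c13 LD3_c39)) :=
  Lre_c IH (LK LD1_c16 LD2_c15 LD3_c57) (LK LD1_c26 LD2_c13 LD3_c39) Lrfl Lrfl
theorem f236909 : Led Lsl_ct (LP (LK LD1_c17 LD2_c54 LD3_c17)) = (LP (LK LD1_c9 LD2_c44 LD3_c56)) :=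
  Lre_c IH (LK LD1_c17 LD2_c54 LD3_c17) (LK LD1_c9 LD2_c44 LD3_c56) Lrfl Lrfl
theorem f296551 : Led Lsl_gt (LP (LK LD1_c26 LD2_c13 LD3_c39)) = (LP (LK LD1_c17 LD2_c54 LD3_c17)) :=
  Lgr Lrot150 (Lpe (f262231 IH) (Lpr_gf (f262229 IH) (Lpe (f228056 IH) (Lpr_gt (f296549 IH) (Lpr_ct (f237911 IH) (Lpr_gt (K14.f237908 IH) (Lpr_ct (f168379 IH) (Lpe (f168509 IH) (Lpe (f236909 IH) (Lpn (LP (LK LD1_c17 LD2_c54 LD3_c17))))))))))))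
theorem f297949 : Led Lsl_gt (LP (LK LD1_c26 LD2_c18 LD3_c17)) = (LP (LK LD1_c26 LD2_c13 LD3_c39)) :=
  Lgr Lrot5 (Lpr_ft (f297939 IH) (Lpr_at (f297940 IH) (Lpe (f296551 IH) (Lpn (LP (LK LD1_c26 LD2_c13 LD3_c39))))))
theorem f262232 : Led Lsl_ct (LP (LK LD1_c26 LD2_c13 LD3_c39)) = (LP (LK LD1_c16 LD2_c15 LD3_c57)) :=
  Lre_c IH (LK LD1_c26 LD2_c13 LD3_c39) (LK LD1_c16 LD2_c15 LD3_c57) Lrfl Lrfl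
theorem f28845 : Led Lsl_ct (LP (LK LD1_c8 LD2_c41 LD3_c2)) = (LP (LK LD1_c16 LD2_c15 LD3_c58)) :=
  Lre_c IH (LK LD1_c8 LD2_c41 LD3_c2) (LK LD1_c16 LD2_c15 LD3_c58) Lrfl Lrfl
theorem f28898 : Led Lsl_dt (LP (LK LD1_c26 LD2_c13 LD3_c43)) = (LP (LK LD1_c16 LD2_c15 LD3_c58)) :=
  Lre_d IH (LK LD1_c26 LD2_c13 LD3_c43) (LK LD1_c16 LD2_c15 LD3_c58) Lrfl Lrfl
theorem f28897 : Led Lsl_ct (LP (LK LD1_c16 LD2_c15 LD3_c58)) = (LP (LK LD1_c8 LD2_c41 LD3_c2)) :=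
  Lre_c IH (LK LD1_c16 LD2_c15 LD3_c58) (LK LD1_c8 LD2_c41 LD3_c2) Lrfl Lrfl
theorem f262205 : Led Lsl_cf (LP (LK LD1_c26 LD2_c13 LD3_c43)) = (LP (LK LD1_c20 LD2_c3 LD3_c5)) :=
  Lgr Lrot55 (Lpr_dt (f28898 IH) (Lpr_ct (f28897 IH) (Lpr_dt (K15.f28858 IH) (Lpr_ct (K15.f28864 IH) (Lpr_dt (K15.f28850 IH) (Lpr_ct (K15.f28899 IH) (Lpr_dt (K15.f28900 IH) (Lpr_ct (K15.f28901 IH) (Lpr_dt (K15.f262201 IH) (Lpr_ct (K15.f228061 IH) (Lpr_dt (K15.f197657 IH) (Lpr_ct (K15.f197654 IH) (Lpe (K13.f228058 IH) (Lpe (K15.f228127 IH) (Lpr_dt (K15.f262186 IH) (Lpn (LP (LK LD1_c20 LD2_c3 LD3_c5))))))))))))))))))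
theorem f298010 : Led Lsl_ct (LP (LK LD1_c31 LD2_c47 LD3_c15)) = (LP (LK LD1_c25 LD2_c8 LD3_c29)) :=
  Lre_c IH (LK LD1_c31 LD2_c47 LD3_c15) (LK LD1_c25 LD2_c8 LD3_c29) Lrfl Lrfl
theorem f298011 : Led Lsl_gf (LP (LK LD1_c20 LD2_c3 LD3_c5)) = (LP (LK LD1_c25 LD2_c8 LD3_c29)) :=
  Lgr Lrot172 (Lpe (f262205 IH) (Lpr_dt (f28898 IH) (Lpe (f28845 IH) (Lpe (f28859 IH) (Lpe (f262232 IH) (Lpe (f297949 IH) (Lpr_dt (f297920 IH) (Lpr_gt (f298008 IH) (Lpr_ct (f298010 IH) (Lpn (LP (LK LD1_c25 LD2_c8 LD3_c29))))))))))))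
theorem f28846 : Led Lsl_dt (LP (LK LD1_c16 LD2_c15 LD3_c58)) = (LP (LK LD1_c26 LD2_c13 LD3_c43)) :=
  Lre_d IH (LK LD1_c16 LD2_c15 LD3_c58) (LK LD1_c26 LD2_c13 LD3_c43) Lrfl Lrfl
theorem f298013 : Led Lsl_df (LP (LK LD1_c26 LD2_c18 LD3_c17)) = (LP (LK LD1_c25 LD2_c13 LD3_c61)) :=
  Lgr Lrot155 (Lpr_gt (f297949 IH) (Lpr_ct (f262232 IH) (Lpr_gt (f28859 IH) (Lpr_ct (f28845 IH) (Lpr_dt (f28846 IH) (Lpr_cf (f262205 IH) (Lpr_gf (f298011 IH) (Lpe (f298010 IH) (Lpe (f298008 IH) (Lpn (LP (LK LD1_c25 LD2_c13 LD3_c61))))))))))))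
theorem f200496 : Led Lsl_ct (LP (LK LD1_c26 LD2_c18 LD3_c17)) = (LP (LK LD1_c16 LD2_c20 LD3_c12)) :=
  Lre_c IH (LK LD1_c26 LD2_c18 LD3_c17) (LK LD1_c16 LD2_c20 LD3_c12) Lrfl Lrfl
theorem f247204 : Led Lsl_ft (LP (LK LD1_c9 LD2_c44 LD3_c56)) = (LP (LK LD1_c17 LD2_c54 LD3_c18)) :=
  Lre_f IH (LK LD1_c9 LD2_c44 LD3_c56) (LK LD1_c17 LD2_c54 LD3_c18) Lrfl Lrfl
theorem f298017 : Led Lsl_af (LP (LK LD1_c16 LD2_c20 LD3_c12)) = (LP (LK LD1_c17 LD2_c54 LD3_c18)) :=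
  Lgr Lrot109 (Lpe (f200496 IH) (Lpr_df (f298013 IH) (Lpe (f223677 IH) (Lpe (f200717 IH) (Lpe (K14.f223675 IH) (Lpr_df (K14.f247197 IH) (Lpe (f168429 IH) (Lpe (f168509 IH) (Lpr_ft (f247204 IH) (Lpn (LP (LK LD1_c17 LD2_c54 LD3_c18))))))))))))
theorem f298022 : Led Lsl_gf (LP (LK LD1_c16 LD2_c20 LD3_c12)) = (LP (LK LD1_c17 LD2_c54 LD3_c15)) :=
  Lgr Lrot76 (Lpr_af (f298017 IH) (Lpe (f247204 IH) (Lpr_gt (f229913 IH) (Lpn (LP (LK LD1_c17 LD2_c54 LD3_c15))))))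
theorem f216216 : Led Lsl_ct (LP (LK LD1_c27 LD2_c24 LD3_c7)) = (LP (LK LD1_c17 LD2_c36 LD3_c2)) :=
  Lre_c IH (LK LD1_c27 LD2_c24 LD3_c7) (LK LD1_c17 LD2_c36 LD3_c2) Lrfl Lrfl
theorem f299027 : Led Lsl_gt (LP (LK LD1_c31 LD2_c38 LD3_c17)) = (LP (LK LD1_c27 LD2_c24 LD3_c7)) :=
  Lgr Lrot9 (Lpe (f224962 IH) (Lpr_gt (f299024 IH) (Lpr_ct (f296559 IH) (Lpe (f298022 IH) (Lpr_ct (f200511 IH) (Lpr_df (f298013 IH) (Lpe (f223677 IH) (Lpr_gf (f223668 IH) (Lpe (f216216 IH) (Lpn (LP (LK LD1_c27 LD2_c24 LD3_c7))))))))))))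
theorem f224980 : Led Lsl_ft (LP (LK LD1_c31 LD2_c38 LD3_c18)) = (LP (LK LD1_c24 LD2_c44 LD3_c56)) :=
  Lre_f IH (LK LD1_c31 LD2_c38 LD3_c18) (LK LD1_c24 LD2_c44 LD3_c56) Lrfl Lrfl
theorem f262209 : Led Lsl_ff (LP (LK LD1_c25 LD2_c8 LD3_c30)) = (LP (LK LD1_c31 LD2_c38 LD3_c17)) :=
  Lgr Lrot19 (Lpr_dt (K15.f262201 IH) (Lpr_ft (f224980 IH) (Lpr_dt (f224962 IH) (Lpn (LP (LK LD1_c31 LD2_c38 LD3_c17))))))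
theorem f299099 : Led Lsl_af (LP (LK LD1_c20 LD2_c3 LD3_c4)) = (LP (LK LD1_c25 LD2_c8 LD3_c30)) :=
  Lgr Lrot31 (Lpr_gf (f299051 IH) (Lpe (f299027 IH) (Lpe (f262209 IH) (Lpn (LP (LK LD1_c25 LD2_c8 LD3_c30))))))
theorem f262155 : Led Lsl_df (LP (LK LD1_c26 LD2_c13 LD3_c44)) = (LP (LK LD1_c20 LD2_c3 LD3_c4)) :=
  Lgr Lrot38 (Lpr_dt (K15.f262151 IH) (Lpn (LP (LK LD1_c20 LD2_c3 LD3_c4))))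
theorem f262207 : Led Lsl_df (LP (LK LD1_c25 LD2_c8 LD3_c30)) = (LP (LK LD1_c31 LD2_c38 LD3_c18)) :=
  Lgr Lrot38 (Lpr_dt (K15.f262201 IH) (Lpn (LP (LK LD1_c31 LD2_c38 LD3_c18))))
theorem f299105 : Led Lsl_at (LP (LK LD1_c26 LD2_c13 LD3_c44)) = (LP (LK LD1_c31 LD2_c38 LD3_c18)) :=
  Lgr Lrot51 (Lpr_df (f262155 IH) (Lpr_af (f299099 IH) (Lpr_df (f262207 IH) (Lpn (LP (LK LD1_c31 LD2_c38 LD3_c18))))))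
theorem f262158 : Led Lsl_ft (LP (LK LD1_c16 LD2_c15 LD3_c58)) = (LP (LK LD1_c26 LD2_c13 LD3_c44)) :=
  Lre_f IH (LK LD1_c16 LD2_c15 LD3_c58) (LK LD1_c26 LD2_c13 LD3_c44) Lrfl Lrfl
theorem f247221 : Led Lsl_gt (LP (LK LD1_c16 LD2_c15 LD3_c58)) = (LP (LK LD1_c26 LD2_c13 LD3_c40)) :=
  Lre_g IH (LK LD1_c16 LD2_c15 LD3_c58) (LK LD1_c26 LD2_c13 LD3_c40) Lrfl Lrfl
theorem f299109 : Led Lsl_gt (LP (LK LD1_c26 LD2_c13 LD3_c40)) = (LP (LK LD1_c31 LD2_c38 LD3_c18)) :=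
  Lgr Lrot46 (Lpe (f247221 IH) (Lpr_ft (f262158 IH) (Lpr_at (f299105 IH) (Lpn (LP (LK LD1_c31 LD2_c38 LD3_c18))))))
theorem f238025 : Led Lsl_ct (LP (LK LD1_c8 LD2_c41 LD3_c4)) = (LP (LK LD1_c4 LD2_c21 LD3_c44)) :=
  Lre_c IH (LK LD1_c8 LD2_c41 LD3_c4) (LK LD1_c4 LD2_c21 LD3_c44) Lrfl Lrfl
theorem f200458 : Led Lsl_dt (LP (LK LD1_c8 LD2_c43 LD3_c19)) = (LP (LK LD1_c4 LD2_c22 LD3_c43)) :=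
  Lre_d IH (LK LD1_c8 LD2_c43 LD3_c19) (LK LD1_c4 LD2_c22 LD3_c43) Lrfl Lrfl
theorem f238771 : Led Lsl_gt (LP (LK LD1_c8 LD2_c43 LD3_c19)) = (LP (LK LD1_c16 LD2_c20 LD3_c9)) :=
  Lre_g IH (LK LD1_c8 LD2_c43 LD3_c19) (LK LD1_c16 LD2_c20 LD3_c9) Lrfl Lrfl
theorem f299125 : Led Lsl_cf (LP (LK LD1_c26 LD2_c13 LD3_c40)) = (LP (LK LD1_c16 LD2_c20 LD3_c9)) :=
  Lgr Lrot169 (Lpr_gt (f299109 IH) (Lpr_ct (K15.f228061 IH) (Lpe (f228056 IH) (Lpe (f197652 IH) (Lpe (f275926 IH) (Lpe (f238025 IH) (Lpe (f279774 IH) (Lpe (f200458 IH) (Lpr_gt (f238771 IH) (Lpn (LP (LK LD1_c16 LD2_c20 LD3_c9))))))))))))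
theorem f299128 : Led Lsl_ct (LP (LK LD1_c26 LD2_c13 LD3_c40)) = (LP (LK LD1_c16 LD2_c20 LD3_c9)) :=
  Lgr Lrot59 (Lpr_cf (f299125 IH) (Lpn (LP (LK LD1_c16 LD2_c20 LD3_c9))))
theorem f247252 : Led Lsl_ct (LP (LK LD1_c17 LD2_c54 LD3_c18)) = (LP (LK LD1_c27 LD2_c39 LD3_c51)) :=
  Lre_c IH (LK LD1_c17 LD2_c54 LD3_c18) (LK LD1_c27 LD2_c39 LD3_c51) Lrfl Lrfl
theorem f297937 : Led Lsl_at (LP (LK LD1_c16 LD2_c20 LD3_c12)) = (LP (LK LD1_c17 LD2_c54 LD3_c18)) :=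
  Lgr Lrot107 (Lpe (f200496 IH) (Lpr_af (f297931 IH) (Lpe (f247252 IH) (Lpn (LP (LK LD1_c17 LD2_c54 LD3_c18))))))
theorem f200545 : Led Lsl_ft (LP (LK LD1_c8 LD2_c43 LD3_c19)) = (LP (LK LD1_c16 LD2_c20 LD3_c12)) :=
  Lre_f IH (LK LD1_c8 LD2_c43 LD3_c19) (LK LD1_c16 LD2_c20 LD3_c12) Lrfl Lrfl
theorem f298991 : Led Lsl_gt (LP (LK LD1_c16 LD2_c20 LD3_c9)) = (LP (LK LD1_c17 LD2_c54 LD3_c18)) :=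
  Lgr Lrot46 (Lpe (f238771 IH) (Lpr_ft (f200545 IH) (Lpr_at (f297937 IH) (Lpn (LP (LK LD1_c17 LD2_c54 LD3_c18))))))
theorem f298015 : Led Lsl_ft (LP (LK LD1_c26 LD2_c18 LD3_c16)) = (LP (LK LD1_c25 LD2_c13 LD3_c61)) :=
  Lgr Lrot54 (Lpe (f200445 IH) (Lpe (f297939 IH) (Lpr_df (f298013 IH) (Lpn (LP (LK LD1_c25 LD2_c13 LD3_c61))))))
theorem f200542 : Led Lsl_ct (LP (LK LD1_c11 LD2_c8 LD3_c54)) = (LP (LK LD1_c20 LD2_c2 LD3_c40)) :=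
  Lre_c IH (LK LD1_c11 LD2_c8 LD3_c54) (LK LD1_c20 LD2_c2 LD3_c40) Lrfl Lrfl
theorem f297925 : Led Lsl_ft (LP (LK LD1_c20 LD2_c2 LD3_c40)) = (LP (LK LD1_c27 LD2_c39 LD3_c50)) :=
  Lgr Lrot4 (Lpe (f200542 IH) (Lpe (f200512 IH) (Lpr_cf (f297914 IH) (Lpn (LP (LK LD1_c27 LD2_c39 LD3_c50))))))
theorem f298368 : Led Lsl_af (LP (LK LD1_c20 LD2_c2 LD3_c40)) = (LP (LK LD1_c25 LD2_c13 LD3_c61)) :=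
  Lgr Lrot45 (Lpr_ft (f297925 IH) (Lpe (f297946 IH) (Lpr_ft (f298015 IH) (Lpn (LP (LK LD1_c25 LD2_c13 LD3_c61))))))
theorem f298370 : Led Lsl_dt (LP (LK LD1_c20 LD2_c2 LD3_c40)) = (LP (LK LD1_c27 LD2_c39 LD3_c51)) :=
  Lgr Lrot44 (Lpr_af (f298368 IH) (Lpe (f297920 IH) (Lpr_af (f297931 IH) (Lpn (LP (LK LD1_c27 LD2_c39 LD3_c51))))))
theorem f227058 : Led Lsl_ct (LP (LK LD1_c25 LD2_c6 LD3_c44)) = (LP (LK LD1_c15 LD2_c16 LD3_c41)) :=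
  Lre_c IH (LK LD1_c25 LD2_c6 LD3_c44) (LK LD1_c15 LD2_c16 LD3_c41) Lrfl Lrfl
theorem f299135 : Led Lsl_gt (LP (LK LD1_c26 LD2_c13 LD3_c43)) = (LP (LK LD1_c25 LD2_c6 LD3_c44)) :=
  Lgr Lrot9 (Lpe (f28846 IH) (Lpr_gt (f247221 IH) (Lpr_ct (f299128 IH) (Lpr_gt (f298991 IH) (Lpr_ct (f247252 IH) (Lpe (f298370 IH) (Lpe (f200542 IH) (Lpe (f226988 IH) (Lpe (f227058 IH) (Lpn (LP (LK LD1_c25 LD2_c6 LD3_c44))))))))))))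
theorem f298403 : Led Lsl_gt (LP (LK LD1_c26 LD2_c13 LD3_c41)) = (LP (LK LD1_c16 LD2_c15 LD3_c58)) :=
  Lre_g IH (LK LD1_c26 LD2_c13 LD3_c41) (LK LD1_c16 LD2_c15 LD3_c58) Lrfl Lrfl
theorem f297944 : Led Lsl_af (LP (LK LD1_c8 LD2_c43 LD3_c19)) = (LP (LK LD1_c9 LD2_c44 LD3_c56)) :=
  Lgr Lrot68 (Lpr_ct (f200444 IH) (Lpr_at (f297940 IH) (Lpr_ct (f236909 IH) (Lpn (LP (LK LD1_c9 LD2_c44 LD3_c56))))))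
theorem f200459 : Led Lsl_gt (LP (LK LD1_c16 LD2_c20 LD3_c10)) = (LP (LK LD1_c8 LD2_c43 LD3_c19)) :=
  Lre_g IH (LK LD1_c16 LD2_c20 LD3_c10) (LK LD1_c8 LD2_c43 LD3_c19) Lrfl Lrfl
theorem f247260 : Led Lsl_ft (LP (LK LD1_c17 LD2_c54 LD3_c18)) = (LP (LK LD1_c9 LD2_c44 LD3_c56)) :=
  Lre_f IH (LK LD1_c17 LD2_c54 LD3_c18) (LK LD1_c9 LD2_c44 LD3_c56) Lrfl Lrfl
theorem f298968 : Led Lsl_gf (LP (LK LD1_c16 LD2_c20 LD3_c10)) = (LP (LK LD1_c17 LD2_c54 LD3_c18)) :=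
  Lgr Lrot47 (Lpr_gt (f200459 IH) (Lpr_af (f297944 IH) (Lpe (f247260 IH) (Lpn (LP (LK LD1_c17 LD2_c54 LD3_c18))))))
theorem f247251 : Led Lsl_dt (LP (LK LD1_c9 LD2_c44 LD3_c57)) = (LP (LK LD1_c17 LD2_c54 LD3_c18)) :=
  Lre_d IH (LK LD1_c9 LD2_c44 LD3_c57) (LK LD1_c17 LD2_c54 LD3_c18) Lrfl Lrfl
theorem f200457 : Led Lsl_ct (LP (LK LD1_c4 LD2_c22 LD3_c43)) = (LP (LK LD1_c2 LD2_c8 LD3_c49)) :=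
  Lre_c IH (LK LD1_c4 LD2_c22 LD3_c43) (LK LD1_c2 LD2_c8 LD3_c49) Lrfl Lrfl
theorem f297989 : Led Lsl_af (LP (LK LD1_c4 LD2_c22 LD3_c43)) = (LP (LK LD1_c4 LD2_c56 LD3_c48)) :=
  Lgr Lrot68 (Lpr_ct (f200457 IH) (Lpr_at (f297979 IH) (Lpr_ct (f168379 IH) (Lpn (LP (LK LD1_c4 LD2_c56 LD3_c48))))))
theorem f238625 : Led Lsl_dt (LP (LK LD1_c8 LD2_c36 LD3_c58)) = (LP (LK LD1_c16 LD2_c8 LD3_c28)) :=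
  Lre_d IH (LK LD1_c8 LD2_c36 LD3_c58) (LK LD1_c16 LD2_c8 LD3_c28) Lrfl Lrfl
theorem f200077 : Led Lsl_et (LP (LK LD1_c4 LD2_c51 LD3_c35)) = (LP (LK LD1_c2 LD2_c23 LD3_c38)) :=
  Lre_e IH (LK LD1_c4 LD2_c51 LD3_c35) (LK LD1_c2 LD2_c23 LD3_c38) Lrfl Lrfl
theorem f200078 : Led Lsl_dt (LP (LK LD1_c4 LD2_c51 LD3_c35)) = (LP (LK LD1_c9 LD2_c35 LD3_c18)) :=
  Lre_d IH (LK LD1_c4 LD2_c51 LD3_c35) (LK LD1_c9 LD2_c35 LD3_c18) Lrfl Lrfl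
theorem f238759 : Led Lsl_gf (LP (LK LD1_c16 LD2_c8 LD3_c28)) = (LP (LK LD1_c9 LD2_c35 LD3_c18)) :=
  Lgr Lrot145 (Lpe (f238625 IH) (Lpr_et (K16.f238624 IH) (Lpe (K13.f238752 IH) (Lpr_dt (K13.f238722 IH) (Lpr_gt (K13.f38968 IH) (Lpe (K1.f38930 IH) (Lpr_et (K1.f39035 IH) (Lpr_gt (K13.f200103 IH) (Lpe (f200077 IH) (Lpr_dt (f200078 IH) (Lpn (LP (LK LD1_c9 LD2_c35 LD3_c18)))))))))))))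
theorem f238552 : Led Lsl_dt (LP (LK LD1_c16 LD2_c8 LD3_c28)) = (LP (LK LD1_c8 LD2_c36 LD3_c58)) :=
  Lre_d IH (LK LD1_c16 LD2_c8 LD3_c28) (LK LD1_c8 LD2_c36 LD3_c58) Lrfl Lrfl
theorem f238551 : Led Lsl_ct (LP (LK LD1_c4 LD2_c19 LD3_c15)) = (LP (LK LD1_c8 LD2_c36 LD3_c58)) :=
  Lre_c IH (LK LD1_c4 LD2_c19 LD3_c15) (LK LD1_c8 LD2_c36 LD3_c58) Lrfl Lrfl
theorem f171136 : Led Lsl_gt (LP (LK LD1_c9 LD2_c35 LD3_c17)) = (LP (LK LD1_c4 LD2_c51 LD3_c35)) :=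
  Lre_g IH (LK LD1_c9 LD2_c35 LD3_c17) (LK LD1_c4 LD2_c51 LD3_c35) Lrfl Lrfl
theorem f238763 : Led Lsl_cf (LP (LK LD1_c8 LD2_c18 LD3_c36)) = (LP (LK LD1_c9 LD2_c35 LD3_c17)) :=
  Lgr Lrot166 (Lpr_gt (K15.f238529 IH) (Lpe (K15.f238527 IH) (Lpr_gt (K15.f228078 IH) (Lpr_dt (K13.f228069 IH) (Lpr_ct (f238551 IH) (Lpe (f238552 IH) (Lpr_gf (f238759 IH) (Lpe (f200078 IH) (Lpe (f171136 IH) (Lpn (LP (LK LD1_c9 LD2_c35 LD3_c17))))))))))))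
theorem f238772 : Led Lsl_et (LP (LK LD1_c17 LD2_c39 LD3_c25)) = (LP (LK LD1_c9 LD2_c35 LD3_c17)) :=
  Lre_e IH (LK LD1_c17 LD2_c39 LD3_c25) (LK LD1_c9 LD2_c35 LD3_c17) Lrfl Lrfl
theorem f238787 : Led Lsl_ct (LP (LK LD1_c15 LD2_c17 LD3_c52)) = (LP (LK LD1_c17 LD2_c39 LD3_c25)) :=
  Lgr Lrot15 (Lpe (K15.f238534 IH) (Lpr_cf (f238763 IH) (Lpe (f238772 IH) (Lpn (LP (LK LD1_c17 LD2_c39 LD3_c25))))))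
theorem f28906 : Led Lsl_dt (LP (LK LD1_c8 LD2_c7 LD3_c23)) = (LP (LK LD1_c15 LD2_c17 LD3_c52)) :=
  Lre_d IH (LK LD1_c8 LD2_c7 LD3_c23) (LK LD1_c15 LD2_c17 LD3_c52) Lrfl Lrfl
theorem f28907 : Led Lsl_ct (LP (LK LD1_c8 LD2_c41 LD3_c7)) = (LP (LK LD1_c4 LD2_c21 LD3_c45)) :=
  Lre_c IH (LK LD1_c8 LD2_c41 LD3_c7) (LK LD1_c4 LD2_c21 LD3_c45) Lrfl Lrfl
theorem f238748 : Led Lsl_et (LP (LK LD1_c4 LD2_c22 LD3_c43)) = (LP (LK LD1_c2 LD2_c8 LD3_c48)) :=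
  Lre_e IH (LK LD1_c4 LD2_c22 LD3_c43) (LK LD1_c2 LD2_c8 LD3_c48) Lrfl Lrfl
theorem f238773 : Led Lsl_df (LP (LK LD1_c16 LD2_c20 LD3_c9)) = (LP (LK LD1_c17 LD2_c39 LD3_c25)) :=
  Lgr Lrot168 (Lpe (f238771 IH) (Lpe (f200443 IH) (Lpr_et (f238748 IH) (Lpr_gf (K13.f238752 IH) (Lpe (K16.f238624 IH) (Lpr_dt (f238625 IH) (Lpr_gf (f238759 IH) (Lpe (f200078 IH) (Lpe (f171136 IH) (Lpe (f238772 IH) (Lpn (LP (LK LD1_c17 LD2_c39 LD3_c25)))))))))))))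
theorem f238775 : Led Lsl_dt (LP (LK LD1_c16 LD2_c20 LD3_c9)) = (LP (LK LD1_c17 LD2_c39 LD3_c25)) :=
  Lgr Lrot42 (Lpr_df (f238773 IH) (Lpn (LP (LK LD1_c17 LD2_c39 LD3_c25))))
theorem f238793 : Led Lsl_gt (LP (LK LD1_c8 LD2_c41 LD3_c7)) = (LP (LK LD1_c4 LD2_c22 LD3_c43)) :=
  Lgr Lrot180 (Lpr_ct (f28907 IH) (Lpr_gt (f28876 IH) (Lpr_dt (K15.f28850 IH) (Lpr_gt (K15.f28867 IH) (Lpr_dt (f28906 IH) (Lpr_ct (f238787 IH) (Lpe (f238775 IH) (Lpe (f238771 IH) (Lpe (f200443 IH) (Lpn (LP (LK LD1_c4 LD2_c22 LD3_c43))))))))))))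
theorem f298398 : Led Lsl_ft (LP (LK LD1_c9 LD2_c44 LD3_c57)) = (LP (LK LD1_c4 LD2_c56 LD3_c48)) :=
  Lre_f IH (LK LD1_c9 LD2_c44 LD3_c57) (LK LD1_c4 LD2_c56 LD3_c48) Lrfl Lrfl
theorem f298399 : Led Lsl_gf (LP (LK LD1_c8 LD2_c41 LD3_c7)) = (LP (LK LD1_c9 LD2_c44 LD3_c57)) :=
  Lgr Lrot47 (Lpr_gt (f238793 IH) (Lpr_af (f297989 IH) (Lpe (f298398 IH) (Lpn (LP (LK LD1_c9 LD2_c44 LD3_c57))))))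
theorem f298972 : Led Lsl_ct (LP (LK LD1_c16 LD2_c20 LD3_c10)) = (LP (LK LD1_c26 LD2_c13 LD3_c41)) :=
  Lgr Lrot152 (Lpr_gf (f298968 IH) (Lpe (f247251 IH) (Lpe (f298399 IH) (Lpr_ct (f28907 IH) (Lpr_gt (f28876 IH) (Lpr_ct (K17.f28843 IH) (Lpe (K15.f28858 IH) (Lpe (f28897 IH) (Lpe (f298403 IH) (Lpn (LP (LK LD1_c26 LD2_c13 LD3_c41))))))))))))
theorem f298977 : Led Lsl_cf (LP (LK LD1_c16 LD2_c20 LD3_c10)) = (LP (LK LD1_c26 LD2_c13 LD3_c41)) :=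
  Lgr Lrot11 (Lpr_ct (f298972 IH) (Lpn (LP (LK LD1_c26 LD2_c13 LD3_c41))))
theorem f238023 : Led Lsl_dt (LP (LK LD1_c8 LD2_c41 LD3_c4)) = (LP (LK LD1_c16 LD2_c15 LD3_c61)) :=
  Lre_d IH (LK LD1_c8 LD2_c41 LD3_c4) (LK LD1_c16 LD2_c15 LD3_c61) Lrfl Lrfl
theorem f238033 : Led Lsl_ct (LP (LK LD1_c16 LD2_c15 LD3_c61)) = (LP (LK LD1_c26 LD2_c13 LD3_c47)) :=
  Lre_c IH (LK LD1_c16 LD2_c15 LD3_c61) (LK LD1_c26 LD2_c13 LD3_c47) Lrfl Lrfl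
theorem f299140 : Led Lsl_df (LP (LK LD1_c26 LD2_c13 LD3_c47)) = (LP (LK LD1_c25 LD2_c6 LD3_c44)) :=
  Lgr Lrot84 (Lpe (f238033 IH) (Lpe (f238023 IH) (Lpe (f279774 IH) (Lpe (f200458 IH) (Lpe (f200459 IH) (Lpr_cf (f298977 IH) (Lpr_gt (f298403 IH) (Lpr_dt (f28846 IH) (Lpr_gt (f299135 IH) (Lpn (LP (LK LD1_c25 LD2_c6 LD3_c44))))))))))))
theorem f238020 : Led Lsl_ct (LP (LK LD1_c26 LD2_c13 LD3_c47)) = (LP (LK LD1_c16 LD2_c15 LD3_c61)) :=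
  Lre_c IH (LK LD1_c26 LD2_c13 LD3_c47) (LK LD1_c16 LD2_c15 LD3_c61) Lrfl Lrfl
theorem f238019 : Led Lsl_dt (LP (LK LD1_c16 LD2_c15 LD3_c61)) = (LP (LK LD1_c8 LD2_c41 LD3_c4)) :=
  Lre_d IH (LK LD1_c16 LD2_c15 LD3_c61) (LK LD1_c8 LD2_c41 LD3_c4) Lrfl Lrfl
theorem f227054 : Led Lsl_ct (LP (LK LD1_c15 LD2_c16 LD3_c41)) = (LP (LK LD1_c25 LD2_c6 LD3_c44)) :=
  Lre_c IH (LK LD1_c15 LD2_c16 LD3_c41) (LK LD1_c25 LD2_c6 LD3_c44) Lrfl Lrfl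
theorem f299146 : Led Lsl_ft (LP (LK LD1_c8 LD2_c6 LD3_c51)) = (LP (LK LD1_c15 LD2_c16 LD3_c42)) :=
  Lre_f IH (LK LD1_c8 LD2_c6 LD3_c51) (LK LD1_c15 LD2_c16 LD3_c42) Lrfl Lrfl
theorem f299147 : Led Lsl_af (LP (LK LD1_c16 LD2_c16 LD3_c1)) = (LP (LK LD1_c15 LD2_c16 LD3_c42)) :=
  Lgr Lrot109 (Lpe (K17.f28863 IH) (Lpe (K17.f28862 IH) (Lpe (f238025 IH) (Lpe (f238019 IH) (Lpe (f238020 IH) (Lpr_df (f299140 IH) (Lpe (f227054 IH) (Lpe (f194400 IH) (Lpr_ft (f299146 IH) (Lpn (LP (LK LD1_c15 LD2_c16 LD3_c42))))))))))))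
theorem f216217 : Led Lsl_bt (LP (LK LD1_c9 LD2_c33 LD3_c30)) = (LP (LK LD1_c17 LD2_c36 LD3_c1)) :=
  Lre_b IH (LK LD1_c9 LD2_c33 LD3_c30) (LK LD1_c17 LD2_c36 LD3_c1) Lrfl Lrfl
theorem f283681 : Led Lsl_ft (LP (LK LD1_c16 LD2_c16 LD3_c1)) = (LP (LK LD1_c9 LD2_c33 LD3_c30)) :=
  Lgr Lrot75 (Lpe (K17.f279742 IH) (Lpr_ff (K17.f283677 IH) (Lpe (f216217 IH) (Lpn (LP (LK LD1_c9 LD2_c33 LD3_c30))))))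
theorem f299157 : Led Lsl_at (LP (LK LD1_c9 LD2_c33 LD3_c30)) = (LP (LK LD1_c8 LD2_c6 LD3_c51)) :=
  Lgr Lrot66 (Lpe (f283681 IH) (Lpr_af (f299147 IH) (Lpe (f299146 IH) (Lpn (LP (LK LD1_c8 LD2_c6 LD3_c51))))))
theorem f216486 : Led Lsl_gt (LP (LK LD1_c15 LD2_c16 LD3_c40)) = (LP (LK LD1_c8 LD2_c6 LD3_c51)) :=
  Lre_g IH (LK LD1_c15 LD2_c16 LD3_c40) (LK LD1_c8 LD2_c6 LD3_c51) Lrfl Lrfl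
theorem f299177 : Led Lsl_gt (LP (LK LD1_c16 LD2_c16 LD3_c1)) = (LP (LK LD1_c15 LD2_c16 LD3_c40)) :=
  Lgr Lrot5 (Lpr_ft (f283681 IH) (Lpr_at (f299157 IH) (Lpe (f216486 IH) (Lpn (LP (LK LD1_c15 LD2_c16 LD3_c40))))))
theorem f216476 : Led Lsl_dt (LP (LK LD1_c11 LD2_c4 LD3_c36)) = (LP (LK LD1_c5 LD2_c36 LD3_c10)) :=
  Lre_d IH (LK LD1_c11 LD2_c4 LD3_c36) (LK LD1_c5 LD2_c36 LD3_c10) Lrfl Lrfl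
theorem f216477 : Led Lsl_gt (LP (LK LD1_c8 LD2_c6 LD3_c50)) = (LP (LK LD1_c11 LD2_c4 LD3_c36)) :=
  Lgr Lrot49 (Lpe (K16.f194392 IH) (Lpe (K15.f194385 IH) (Lpe (K10.f27599 IH) (Lpr_gt (K10.f8100 IH) (Lpr_dt (K13.f216469 IH) (Lpr_gt (K13.f189253 IH) (Lpr_dt (K14.f189257 IH) (Lpe (K15.f216466 IH) (Lpe (f216476 IH) (Lpn (LP (LK LD1_c11 LD2_c4 LD3_c36))))))))))))
theorem f216483 : Led Lsl_dt (LP (LK LD1_c5 LD2_c36 LD3_c10)) = (LP (LK LD1_c11 LD2_c4 LD3_c36)) :=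
  Lre_d IH (LK LD1_c5 LD2_c36 LD3_c10) (LK LD1_c11 LD2_c4 LD3_c36) Lrfl Lrfl
theorem f216449 : Led Lsl_ct (LP (LK LD1_c5 LD2_c39 LD3_c16)) = (LP (LK LD1_c2 LD2_c45 LD3_c34)) :=
  Lre_c IH (LK LD1_c5 LD2_c39 LD3_c16) (LK LD1_c2 LD2_c45 LD3_c34) Lrfl Lrfl
theorem f216459 : Led Lsl_ef (LP (LK LD1_c5 LD2_c39 LD3_c16)) = (LP (LK LD1_c5 LD2_c36 LD3_c10)) :=
  Lgr Lrot28 (Lpr_ct (f216449 IH) (Lpr_et (K13.f216444 IH) (Lpr_ct (K15.f216458 IH) (Lpn (LP (LK LD1_c5 LD2_c36 LD3_c10))))))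
theorem f226991 : Led Lsl_gt (LP (LK LD1_c5 LD2_c39 LD3_c16)) = (LP (LK LD1_c4 LD2_c3 LD3_c47)) :=
  Lgr Lrot131 (Lpr_ef (f216459 IH) (Lpr_dt (f216483 IH) (Lpe (f216477 IH) (Lpe (K16.f194392 IH) (Lpe (K15.f194385 IH) (Lpe (f27674 IH) (Lpr_dt (K11.f52659 IH) (Lpr_gf (K11.f200798 IH) (Lpr_df (K13.f226901 IH) (Lpr_et (K15.f226990 IH) (Lpn (LP (LK LD1_c4 LD2_c3 LD3_c47)))))))))))))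
theorem f179743 : Led Lsl_dt (LP (LK LD1_c5 LD2_c39 LD3_c17)) = (LP (LK LD1_c11 LD2_c9 LD3_c34)) :=
  Lre_d IH (LK LD1_c5 LD2_c39 LD3_c17) (LK LD1_c11 LD2_c9 LD3_c34) Lrfl Lrfl
theorem f179744 : Led Lsl_ct (LP (LK LD1_c11 LD2_c9 LD3_c34)) = (LP (LK LD1_c20 LD2_c3 LD3_c60)) :=
  Lre_c IH (LK LD1_c11 LD2_c9 LD3_c34) (LK LD1_c20 LD2_c3 LD3_c60) Lrfl Lrfl
theorem f226993 : Led Lsl_dt (LP (LK LD1_c4 LD2_c3 LD3_c47)) = (LP (LK LD1_c8 LD2_c7 LD3_c60)) :=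
  Lre_d IH (LK LD1_c4 LD2_c3 LD3_c47) (LK LD1_c8 LD2_c7 LD3_c60) Lrfl Lrfl
theorem f226994 : Led Lsl_gt (LP (LK LD1_c8 LD2_c7 LD3_c60)) = (LP (LK LD1_c15 LD2_c18 LD3_c50)) :=
  Lre_g IH (LK LD1_c8 LD2_c7 LD3_c60) (LK LD1_c15 LD2_c18 LD3_c50) Lrfl Lrfl
theorem f226995 : Led Lsl_df (LP (LK LD1_c20 LD2_c3 LD3_c60)) = (LP (LK LD1_c15 LD2_c18 LD3_c50)) :=
  Lgr Lrot84 (Lpe (f179744 IH) (Lpe (f179743 IH) (Lpe (K13.f179742 IH) (Lpe (K13.f200468 IH) (Lpe (K13.f196955 IH) (Lpe (f216449 IH) (Lpr_gt (f226991 IH) (Lpr_dt (f226993 IH) (Lpr_gt (f226994 IH) (Lpn (LP (LK LD1_c15 LD2_c18 LD3_c50))))))))))))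
theorem f227017 : Led Lsl_dt (LP (LK LD1_c20 LD2_c3 LD3_c60)) = (LP (LK LD1_c15 LD2_c18 LD3_c50)) :=
  Lgr Lrot42 (Lpr_df (f226995 IH) (Lpn (LP (LK LD1_c15 LD2_c18 LD3_c50))))
theorem f227028 : Led Lsl_et (LP (LK LD1_c20 LD2_c3 LD3_c60)) = (LP (LK LD1_c15 LD2_c16 LD3_c40)) :=
  Lgr Lrot121 (Lpr_dt (f227017 IH) (Lpe (f226994 IH) (Lpe (f226993 IH) (Lpr_et (K16.f226981 IH) (Lpe (K13.f226984 IH) (Lpe (f226987 IH) (Lpr_dt (f200541 IH) (Lpe (f226988 IH) (Lpe (f194400 IH) (Lpe (f216486 IH) (Lpn (LP (LK LD1_c15 LD2_c16 LD3_c40)))))))))))))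
theorem f200473 : Led Lsl_ef (LP (LK LD1_c11 LD2_c9 LD3_c34)) = (LP (LK LD1_c8 LD2_c27 LD3_c27)) :=
  Lgr Lrot88 (Lpr_et (K13.f200470 IH) (Lpn (LP (LK LD1_c8 LD2_c27 LD3_c27))))
theorem f227033 : Led Lsl_cf (LP (LK LD1_c8 LD2_c27 LD3_c27)) = (LP (LK LD1_c15 LD2_c16 LD3_c40)) :=
  Lgr Lrot39 (Lpe (f200473 IH) (Lpr_ct (f179744 IH) (Lpr_et (f227028 IH) (Lpn (LP (LK LD1_c15 LD2_c16 LD3_c40))))))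
theorem f190002 : Led Lsl_ct (LP (LK LD1_c4 LD2_c14 LD3_c22)) = (LP (LK LD1_c8 LD2_c27 LD3_c25)) :=
  Lre_c IH (LK LD1_c4 LD2_c14 LD3_c22) (LK LD1_c8 LD2_c27 LD3_c25) Lrfl Lrfl
theorem f200475 : Led Lsl_ct (LP (LK LD1_c25 LD2_c48 LD3_c53)) = (LP (LK LD1_c15 LD2_c52 LD3_c50)) :=
  Lre_c IH (LK LD1_c25 LD2_c48 LD3_c53) (LK LD1_c15 LD2_c52 LD3_c50) Lrfl Lrfl
theorem f295854 : Led Lsl_ft (LP (LK LD1_c10 LD2_c50 LD3_c4)) = (LP (LK LD1_c15 LD2_c37 LD3_c23)) :=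
  Lgr Lrot48 (Lpr_ff (f295838 IH) (Lpn (LP (LK LD1_c15 LD2_c37 LD3_c23))))
theorem f168393 : Led Lsl_ct (LP (LK LD1_c2 LD2_c41 LD3_c6)) = (LP (LK LD1_c5 LD2_c29 LD3_c39)) :=
  Lre_c IH (LK LD1_c2 LD2_c41 LD3_c6) (LK LD1_c5 LD2_c29 LD3_c39) Lrfl Lrfl
theorem f213802 : Led Lsl_ct (LP (LK LD1_c26 LD2_c43 LD3_c18)) = (LP (LK LD1_c16 LD2_c44 LD3_c24)) :=
  Lre_c IH (LK LD1_c26 LD2_c43 LD3_c18) (LK LD1_c16 LD2_c44 LD3_c24) Lrfl Lrfl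
theorem f295816 : Led Lsl_dt (LP (LK LD1_c15 LD2_c37 LD3_c23)) = (LP (LK LD1_c25 LD2_c32 LD3_c10)) :=
  Lre_d IH (LK LD1_c15 LD2_c37 LD3_c23) (LK LD1_c25 LD2_c32 LD3_c10) Lrfl Lrfl
theorem f295818 : Led Lsl_ct (LP (LK LD1_c25 LD2_c32 LD3_c10)) = (LP (LK LD1_c31 LD2_c55 LD3_c30)) :=
  Lre_c IH (LK LD1_c25 LD2_c32 LD3_c10) (LK LD1_c31 LD2_c55 LD3_c30) Lrfl Lrfl
theorem f295856 : Led Lsl_df (LP (LK LD1_c26 LD2_c43 LD3_c18)) = (LP (LK LD1_c31 LD2_c55 LD3_c30)) :=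
  Lgr Lrot106 (Lpr_ct (f213802 IH) (Lpr_dt (K17.f213801 IH) (Lpr_ct (K14.f213792 IH) (Lpr_dt (K17.f168385 IH) (Lpr_ct (f168393 IH) (Lpe (f213810 IH) (Lpr_ff (f295838 IH) (Lpr_dt (f295816 IH) (Lpr_ct (f295818 IH) (Lpn (LP (LK LD1_c31 LD2_c55 LD3_c30))))))))))))
theorem f213832 : Led Lsl_ct (LP (LK LD1_c16 LD2_c44 LD3_c24)) = (LP (LK LD1_c26 LD2_c43 LD3_c18)) :=
  Lre_c IH (LK LD1_c16 LD2_c44 LD3_c24) (LK LD1_c26 LD2_c43 LD3_c18) Lrfl Lrfl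
theorem f286094 : Led Lsl_ff (LP (LK LD1_c28 LD2_c48 LD3_c60)) = (LP (LK LD1_c26 LD2_c43 LD3_c18)) :=
  Lgr Lrot23 (Lpr_ct (K17.f286056 IH) (Lpr_ft (K17.f286087 IH) (Lpr_ct (f213832 IH) (Lpn (LP (LK LD1_c26 LD2_c43 LD3_c18))))))
theorem f295862 : Led Lsl_ft (LP (LK LD1_c28 LD2_c56 LD3_c58)) = (LP (LK LD1_c31 LD2_c55 LD3_c30)) :=
  Lgr Lrot54 (Lpe (K17.f286075 IH) (Lpr_ff (f286094 IH) (Lpr_df (f295856 IH) (Lpn (LP (LK LD1_c31 LD2_c55 LD3_c30))))))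
theorem f295817 : Led Lsl_ct (LP (LK LD1_c31 LD2_c55 LD3_c30)) = (LP (LK LD1_c25 LD2_c32 LD3_c10)) :=
  Lre_c IH (LK LD1_c31 LD2_c55 LD3_c30) (LK LD1_c25 LD2_c32 LD3_c10) Lrfl Lrfl
theorem f295874 : Led Lsl_ff (LP (LK LD1_c19 LD2_c35 LD3_c8)) = (LP (LK LD1_c25 LD2_c32 LD3_c10)) :=
  Lgr Lrot23 (Lpr_ct (K17.f286069 IH) (Lpr_ft (f295862 IH) (Lpr_ct (f295817 IH) (Lpn (LP (LK LD1_c25 LD2_c32 LD3_c10))))))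
theorem f286131 : Led Lsl_at (LP (LK LD1_c19 LD2_c35 LD3_c8)) = (LP (LK LD1_c10 LD2_c50 LD3_c34)) :=
  Lre_a IH (LK LD1_c19 LD2_c35 LD3_c8) (LK LD1_c10 LD2_c50 LD3_c34) Lrfl Lrfl
theorem f213836 : Led Lsl_ft (LP (LK LD1_c10 LD2_c50 LD3_c34)) = (LP (LK LD1_c19 LD2_c36 LD3_c4)) :=
  Lre_f IH (LK LD1_c10 LD2_c50 LD3_c34) (LK LD1_c19 LD2_c36 LD3_c4) Lrfl Lrfl
theorem f295876 : Led Lsl_at (LP (LK LD1_c19 LD2_c36 LD3_c4)) = (LP (LK LD1_c25 LD2_c32 LD3_c10)) :=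
  Lgr Lrot66 (Lpe (f213836 IH) (Lpe (f286131 IH) (Lpr_ff (f295874 IH) (Lpn (LP (LK LD1_c25 LD2_c32 LD3_c10))))))
theorem f295840 : Led Lsl_dt (LP (LK LD1_c25 LD2_c32 LD3_c10)) = (LP (LK LD1_c15 LD2_c37 LD3_c23)) :=
  Lre_d IH (LK LD1_c25 LD2_c32 LD3_c10) (LK LD1_c15 LD2_c37 LD3_c23) Lrfl Lrfl
theorem f295903 : Led Lsl_af (LP (LK LD1_c10 LD2_c50 LD3_c35)) = (LP (LK LD1_c15 LD2_c37 LD3_c23)) :=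
  Lgr Lrot117 (Lpr_dt (K17.f213828 IH) (Lpr_at (f295876 IH) (Lpr_dt (f295840 IH) (Lpn (LP (LK LD1_c15 LD2_c37 LD3_c23))))))
theorem f298728 : Led Lsl_gt (LP (LK LD1_c15 LD2_c33 LD3_c44)) = (LP (LK LD1_c10 LD2_c50 LD3_c35)) :=
  Lgr Lrot46 (Lpr_gf (f298724 IH) (Lpr_ft (f295854 IH) (Lpe (f295903 IH) (Lpn (LP (LK LD1_c10 LD2_c50 LD3_c35))))))
theorem f197649 : Led Lsl_ct (LP (LK LD1_c3 LD2_c57 LD3_c1)) = (LP (LK LD1_c7 LD2_c55 LD3_c39)) :=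
  Lre_c IH (LK LD1_c3 LD2_c57 LD3_c1) (LK LD1_c7 LD2_c55 LD3_c39) Lrfl Lrfl
theorem f247258 : Led Lsl_ct (LP (LK LD1_c8 LD2_c9 LD3_c39)) = (LP (LK LD1_c15 LD2_c22 LD3_c17)) :=
  Lre_c IH (LK LD1_c8 LD2_c9 LD3_c39) (LK LD1_c15 LD2_c22 LD3_c17) Lrfl Lrfl
theorem f297971 : Led Lsl_af (LP (LK LD1_c11 LD2_c8 LD3_c55)) = (LP (LK LD1_c15 LD2_c22 LD3_c17)) :=
  Lgr Lrot68 (Lpr_ct (f200502 IH) (Lpr_at (f297967 IH) (Lpr_ct (f247258 IH) (Lpn (LP (LK LD1_c15 LD2_c22 LD3_c17))))))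
theorem f286734 : Led Lsl_et (LP (LK LD1_c11 LD2_c8 LD3_c55)) = (LP (LK LD1_c15 LD2_c22 LD3_c27)) :=
  Lgr Lrot87 (Lpr_ef (f286725 IH) (Lpn (LP (LK LD1_c15 LD2_c22 LD3_c27))))
theorem f247261 : Led Lsl_bt (LP (LK LD1_c15 LD2_c22 LD3_c17)) = (LP (LK LD1_c25 LD2_c13 LD3_c56)) :=
  Lre_b IH (LK LD1_c15 LD2_c22 LD3_c17) (LK LD1_c25 LD2_c13 LD3_c56) Lrfl Lrfl
theorem f286258 : Led Lsl_bt (LP (LK LD1_c20 LD2_c2 LD3_c18)) = (LP (LK LD1_c11 LD2_c8 LD3_c46)) :=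
  Lre_b IH (LK LD1_c20 LD2_c2 LD3_c18) (LK LD1_c11 LD2_c8 LD3_c46) Lrfl Lrfl
theorem f286664 : Led Lsl_ef (LP (LK LD1_c15 LD2_c22 LD3_c17)) = (LP (LK LD1_c11 LD2_c8 LD3_c46)) :=
  Lgr Lrot29 (Lpr_bt (f247261 IH) (Lpr_et (K17.f286653 IH) (Lpr_bt (f286258 IH) (Lpn (LP (LK LD1_c11 LD2_c8 LD3_c46))))))
theorem f298441 : Led Lsl_at (LP (LK LD1_c15 LD2_c22 LD3_c27)) = (LP (LK LD1_c11 LD2_c8 LD3_c46)) :=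
  Lgr Lrot80 (Lpe (f286734 IH) (Lpr_af (f297971 IH) (Lpr_ef (f286664 IH) (Lpn (LP (LK LD1_c11 LD2_c8 LD3_c46))))))
theorem f244468 : Led Lsl_ft (LP (LK LD1_c8 LD2_c9 LD3_c42)) = (LP (LK LD1_c15 LD2_c22 LD3_c27)) :=
  Lre_f IH (LK LD1_c8 LD2_c9 LD3_c42) (LK LD1_c15 LD2_c22 LD3_c27) Lrfl Lrfl
theorem f194398 : Led Lsl_et (LP (LK LD1_c4 LD2_c3 LD3_c3)) = (LP (LK LD1_c8 LD2_c6 LD3_c44)) :=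
  Lre_e IH (LK LD1_c4 LD2_c3 LD3_c3) (LK LD1_c8 LD2_c6 LD3_c44) Lrfl Lrfl
theorem f244443 : Led Lsl_et (LP (LK LD1_c4 LD2_c4 LD3_c23)) = (LP (LK LD1_c8 LD2_c9 LD3_c42)) :=
  Lre_e IH (LK LD1_c4 LD2_c4 LD3_c23) (LK LD1_c8 LD2_c9 LD3_c42) Lrfl Lrfl
theorem f244445 : Led Lsl_gf (LP (LK LD1_c8 LD2_c6 LD3_c44)) = (LP (LK LD1_c8 LD2_c9 LD3_c42)) :=
  Lgr Lrot141 (Lpe (f194398 IH) (Lpr_dt (K14.f194397 IH) (Lpe (K14.f216254 IH) (Lpe (K10.f27600 IH) (Lpr_et (K0.f27651 IH) (Lpr_gt (K11.f200796 IH) (Lpe (K11.f200801 IH) (Lpe (K13.f243650 IH) (Lpr_df (K15.f243709 IH) (Lpr_et (f244443 IH) (Lpn (LP (LK LD1_c8 LD2_c9 LD3_c42)))))))))))))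
theorem f298445 : Led Lsl_gt (LP (LK LD1_c8 LD2_c6 LD3_c44)) = (LP (LK LD1_c11 LD2_c8 LD3_c46)) :=
  Lgr Lrot46 (Lpr_gf (f244445 IH) (Lpr_ft (f244468 IH) (Lpr_at (f298441 IH) (Lpn (LP (LK LD1_c11 LD2_c8 LD3_c46))))))
theorem f297895 : Led Lsl_ft (LP (LK LD1_c8 LD2_c9 LD3_c36)) = (LP (LK LD1_c15 LD2_c22 LD3_c17)) :=
  Lre_f IH (LK LD1_c8 LD2_c9 LD3_c36) (LK LD1_c15 LD2_c22 LD3_c17) Lrfl Lrfl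
theorem f297896 : Led Lsl_df (LP (LK LD1_c25 LD2_c6 LD3_c43)) = (LP (LK LD1_c15 LD2_c22 LD3_c17)) :=
  Lgr Lrot78 (Lpr_ft (f297888 IH) (Lpr_dt (f223670 IH) (Lpr_ft (f297895 IH) (Lpn (LP (LK LD1_c15 LD2_c22 LD3_c17))))))
theorem f298452 : Led Lsl_et (LP (LK LD1_c15 LD2_c22 LD3_c17)) = (LP (LK LD1_c11 LD2_c8 LD3_c46)) :=
  Lgr Lrot122 (Lpe (f297896 IH) (Lpr_gt (f194401 IH) (Lpe (f194400 IH) (Lpr_et (f194399 IH) (Lpe (K10.f194383 IH) (Lpr_dt (K10.f27591 IH) (Lpr_gt (K14.f194387 IH) (Lpe (K14.f194397 IH) (Lpr_et (f194398 IH) (Lpr_gt (f298445 IH) (Lpn (LP (LK LD1_c11 LD2_c8 LD3_c46)))))))))))))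
theorem f238500 : Led Lsl_et (LP (LK LD1_c4 LD2_c4 LD3_c20)) = (LP (LK LD1_c8 LD2_c9 LD3_c36)) :=
  Lre_e IH (LK LD1_c4 LD2_c4 LD3_c20) (LK LD1_c8 LD2_c9 LD3_c36) Lrfl Lrfl
theorem f296867 : Led Lsl_ft (LP (LK LD1_c11 LD2_c8 LD3_c46)) = (LP (LK LD1_c5 LD2_c38 LD3_c55)) :=
  Lre_f IH (LK LD1_c11 LD2_c8 LD3_c46) (LK LD1_c5 LD2_c38 LD3_c55) Lrfl Lrfl
theorem f201000 : Led Lsl_et (LP (LK LD1_c5 LD2_c38 LD3_c55)) = (LP (LK LD1_c2 LD2_c45 LD3_c24)) :=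
  Lre_e IH (LK LD1_c5 LD2_c38 LD3_c55) (LK LD1_c2 LD2_c45 LD3_c24) Lrfl Lrfl
theorem f298456 : Led Lsl_ff (LP (LK LD1_c4 LD2_c4 LD3_c20)) = (LP (LK LD1_c2 LD2_c45 LD3_c24)) :=
  Lgr Lrot72 (Lpr_et (f238500 IH) (Lpr_ft (f297895 IH) (Lpr_et (f298452 IH) (Lpr_ft (f296867 IH) (Lpr_et (f201000 IH) (Lpn (LP (LK LD1_c2 LD2_c45 LD3_c24))))))))
theorem f298460 : Led Lsl_at (LP (LK LD1_c4 LD2_c4 LD3_c20)) = (LP (LK LD1_c2 LD2_c45 LD3_c27)) :=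
  Lgr Lrot26 (Lpr_ff (f298456 IH) (Lpe (K15.f196939 IH) (Lpe (K12.f228267 IH) (Lpn (LP (LK LD1_c2 LD2_c45 LD3_c27))))))
theorem f226887 : Led Lsl_bt (LP (LK LD1_c4 LD2_c4 LD3_c23)) = (LP (LK LD1_c8 LD2_c9 LD3_c41)) :=
  Lre_b IH (LK LD1_c4 LD2_c4 LD3_c23) (LK LD1_c8 LD2_c9 LD3_c41) Lrfl Lrfl
theorem f286709 : Led Lsl_ft (LP (LK LD1_c2 LD2_c45 LD3_c27)) = (LP (LK LD1_c4 LD2_c4 LD3_c23)) :=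
  Lgr Lrot75 (Lpe (K17.f226986 IH) (Lpr_ff (K17.f286705 IH) (Lpe (f226887 IH) (Lpn (LP (LK LD1_c4 LD2_c4 LD3_c23))))))
theorem f298466 : Led Lsl_af (LP (LK LD1_c2 LD2_c45 LD3_c24)) = (LP (LK LD1_c4 LD2_c4 LD3_c23)) :=
  Lgr Lrot45 (Lpe (f298456 IH) (Lpr_at (f298460 IH) (Lpr_ft (f286709 IH) (Lpn (LP (LK LD1_c4 LD2_c4 LD3_c23))))))
theorem f298468 : Led Lsl_at (LP (LK LD1_c2 LD2_c45 LD3_c24)) = (LP (LK LD1_c4 LD2_c4 LD3_c23)) :=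
  Lgr Lrot100 (Lpr_af (f298466 IH) (Lpn (LP (LK LD1_c4 LD2_c4 LD3_c23))))
theorem f298470 : Led Lsl_af (LP (LK LD1_c1 LD2_c19 LD3_c5)) = (LP (LK LD1_c1 LD2_c59 LD3_c7)) :=
  Lgr Lrot68 (Lpr_ct (K13.f196938 IH) (Lpr_at (f298468 IH) (Lpr_ct (K15.f200701 IH) (Lpn (LP (LK LD1_c1 LD2_c59 LD3_c7))))))
theorem f298472 : Led Lsl_at (LP (LK LD1_c2 LD2_c45 LD3_c25)) = (LP (LK LD1_c4 LD2_c4 LD3_c24)) :=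
  Lgr Lrot80 (Lpe (K16.f243708 IH) (Lpr_af (f298470 IH) (Lpe (K16.f200707 IH) (Lpn (LP (LK LD1_c4 LD2_c4 LD3_c24))))))
theorem f253130 : Led Lsl_ft (LP (LK LD1_c4 LD2_c4 LD3_c24)) = (LP (LK LD1_c8 LD2_c9 LD3_c44)) :=
  Lre_f IH (LK LD1_c4 LD2_c4 LD3_c24) (LK LD1_c8 LD2_c9 LD3_c44) Lrfl Lrfl
theorem f298484 : Led Lsl_af (LP (LK LD1_c5 LD2_c38 LD3_c56)) = (LP (LK LD1_c8 LD2_c9 LD3_c44)) :=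
  Lgr Lrot45 (Lpr_ft (f286284 IH) (Lpr_at (f298472 IH) (Lpr_ft (f253130 IH) (Lpn (LP (LK LD1_c8 LD2_c9 LD3_c44))))))
theorem f298590 : Led Lsl_gf (LP (LK LD1_c5 LD2_c38 LD3_c56)) = (LP (LK LD1_c4 LD2_c6 LD3_c51)) :=
  Lgr Lrot76 (Lpr_af (f298484 IH) (Lpe (f253130 IH) (Lpe (K16.f253128 IH) (Lpn (LP (LK LD1_c4 LD2_c6 LD3_c51))))))
theorem f287064 : Led Lsl_ef (LP (LK LD1_c8 LD2_c4 LD3_c20)) = (LP (LK LD1_c5 LD2_c9 LD3_c1)) :=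
  Lgr Lrot29 (Lpr_bt (K14.f180813 IH) (Lpr_et (K17.f287060 IH) (Lpr_bt (f286387 IH) (Lpn (LP (LK LD1_c5 LD2_c9 LD3_c1))))))
theorem f286285 : Led Lsl_bt (LP (LK LD1_c10 LD2_c20 LD3_c26)) = (LP (LK LD1_c5 LD2_c38 LD3_c56)) :=
  Lgr Lrot35 (Lpr_ff (K17.f286264 IH) (Lpe (K17.f244147 IH) (Lpe (f286284 IH) (Lpn (LP (LK LD1_c5 LD2_c38 LD3_c56))))))
theorem f286341 : Led Lsl_dt (LP (LK LD1_c5 LD2_c38 LD3_c56)) = (LP (LK LD1_c5 LD2_c9 LD3_c1)) :=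
  Lgr Lrot79 (Lpe (f286285 IH) (Lpr_df (K17.f286323 IH) (Lpe (f286340 IH) (Lpn (LP (LK LD1_c5 LD2_c9 LD3_c1))))))
theorem f287074 : Led Lsl_ef (LP (LK LD1_c5 LD2_c38 LD3_c56)) = (LP (LK LD1_c8 LD2_c9 LD3_c39)) :=
  Lgr Lrot73 (Lpr_dt (f286341 IH) (Lpe (f287064 IH) (Lpe (K14.f193207 IH) (Lpr_et (K17.f287070 IH) (Lpe (K14.f247253 IH) (Lpn (LP (LK LD1_c8 LD2_c9 LD3_c39))))))))
theorem f22096 : Led Lsl_et (LP (LK LD1_c2 LD2_c0 LD3_c45)) = (LP (LK LD1_c4 LD2_c6 LD3_c51)) :=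
  Lre_e IH (LK LD1_c2 LD2_c0 LD3_c45) (LK LD1_c4 LD2_c6 LD3_c51) Lrfl Lrfl
theorem f298601 : Led Lsl_gt (LP (LK LD1_c4 LD2_c56 LD3_c50)) = (LP (LK LD1_c4 LD2_c22 LD3_c44)) :=
  Lgr Lrot112 (Lpe (K14.f247202 IH) (Lpe (f287074 IH) (Lpr_gf (f298590 IH) (Lpe (f22096 IH) (Lpr_dt (K13.f22068 IH) (Lpe (K14.f190947 IH) (Lpe (K10.f27563 IH) (Lpr_gf (K13.f233741 IH) (Lpe (K13.f189996 IH) (Lpr_dt (K13.f200465 IH) (Lpn (LP (LK LD1_c4 LD2_c22 LD3_c44)))))))))))))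
theorem f200476 : Led Lsl_ct (LP (LK LD1_c4 LD2_c22 LD3_c44)) = (LP (LK LD1_c8 LD2_c43 LD3_c21)) :=
  Lre_c IH (LK LD1_c4 LD2_c22 LD3_c44) (LK LD1_c8 LD2_c43 LD3_c21) Lrfl Lrfl
theorem f298883 : Led Lsl_gf (LP (LK LD1_c7 LD2_c55 LD3_c39)) = (LP (LK LD1_c8 LD2_c43 LD3_c21)) :=
  Lgr Lrot129 (Lpe (f197649 IH) (Lpr_bt (K13.f197636 IH) (Lpr_gt (K17.f197606 IH) (Lpe (f295784 IH) (Lpr_ct (f236019 IH) (Lpr_gt (f298728 IH) (Lpe (K17.f168399 IH) (Lpe (K14.f168395 IH) (Lpr_gt (f298601 IH) (Lpr_ct (f200476 IH) (Lpn (LP (LK LD1_c8 LD2_c43 LD3_c21)))))))))))))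
theorem f200454 : Led Lsl_gt (LP (LK LD1_c5 LD2_c38 LD3_c60)) = (LP (LK LD1_c2 LD2_c45 LD3_c28)) :=
  Lre_g IH (LK LD1_c5 LD2_c38 LD3_c60) (LK LD1_c2 LD2_c45 LD3_c28) Lrfl Lrfl
theorem f297981 : Led Lsl_gf (LP (LK LD1_c5 LD2_c38 LD3_c60)) = (LP (LK LD1_c8 LD2_c9 LD3_c39)) :=
  Lgr Lrot47 (Lpr_gt (f200454 IH) (Lpr_af (f297975 IH) (Lpe (f247255 IH) (Lpn (LP (LK LD1_c8 LD2_c9 LD3_c39))))))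
theorem f200455 : Led Lsl_ct (LP (LK LD1_c5 LD2_c38 LD3_c60)) = (LP (LK LD1_c11 LD2_c8 LD3_c56)) :=
  Lre_c IH (LK LD1_c5 LD2_c38 LD3_c60) (LK LD1_c11 LD2_c8 LD3_c56) Lrfl Lrfl
theorem f298887 : Led Lsl_gf (LP (LK LD1_c5 LD2_c39 LD3_c3)) = (LP (LK LD1_c11 LD2_c8 LD3_c56)) :=
  Lgr Lrot104 (Lpr_ct (K15.f228108 IH) (Lpr_df (f228046 IH) (Lpe (K15.f197640 IH) (Lpr_gf (f298883 IH) (Lpe (f200476 IH) (Lpe (f298601 IH) (Lpe (K14.f247202 IH) (Lpe (f297981 IH) (Lpr_ct (f200455 IH) (Lpn (LP (LK LD1_c11 LD2_c8 LD3_c56))))))))))))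
theorem f298889 : Led Lsl_gt (LP (LK LD1_c15 LD2_c17 LD3_c50)) = (LP (LK LD1_c11 LD2_c8 LD3_c56)) :=
  Lgr Lrot5 (Lpr_ft (f296323 IH) (Lpe (f296336 IH) (Lpr_gf (f298887 IH) (Lpn (LP (LK LD1_c11 LD2_c8 LD3_c56))))))
theorem f200485 : Led Lsl_ct (LP (LK LD1_c15 LD2_c52 LD3_c50)) = (LP (LK LD1_c25 LD2_c48 LD3_c53)) :=
  Lre_c IH (LK LD1_c15 LD2_c52 LD3_c50) (LK LD1_c25 LD2_c48 LD3_c53) Lrfl Lrfl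
theorem f200460 : Led Lsl_ct (LP (LK LD1_c11 LD2_c8 LD3_c56)) = (LP (LK LD1_c5 LD2_c38 LD3_c60)) :=
  Lre_c IH (LK LD1_c11 LD2_c8 LD3_c56) (LK LD1_c5 LD2_c38 LD3_c60) Lrfl Lrfl
theorem f200483 : Led Lsl_ct (LP (LK LD1_c2 LD2_c45 LD3_c28)) = (LP (LK LD1_c5 LD2_c38 LD3_c59)) :=
  Lre_c IH (LK LD1_c2 LD2_c45 LD3_c28) (LK LD1_c5 LD2_c38 LD3_c59) Lrfl Lrfl
theorem f200441 : Led Lsl_ct (LP (LK LD1_c20 LD2_c2 LD3_c40)) = (LP (LK LD1_c11 LD2_c8 LD3_c54)) :=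
  Lre_c IH (LK LD1_c20 LD2_c2 LD3_c40) (LK LD1_c11 LD2_c8 LD3_c54) Lrfl Lrfl
theorem f298916 : Led Lsl_gt (LP (LK LD1_c25 LD2_c48 LD3_c53)) = (LP (LK LD1_c20 LD2_c2 LD3_c40)) :=
  Lgr Lrot150 (Lpe (f200485 IH) (Lpe (f262178 IH) (Lpe (f28882 IH) (Lpr_gt (f298889 IH) (Lpr_ct (f200460 IH) (Lpr_gt (f200454 IH) (Lpr_ct (f200483 IH) (Lpe (f200440 IH) (Lpe (f200441 IH) (Lpn (LP (LK LD1_c20 LD2_c2 LD3_c40))))))))))))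
theorem f298918 : Led Lsl_gf (LP (LK LD1_c25 LD2_c48 LD3_c53)) = (LP (LK LD1_c26 LD2_c18 LD3_c16)) :=
  Lgr Lrot47 (Lpr_gt (f298916 IH) (Lpr_af (f298368 IH) (Lpe (f298015 IH) (Lpn (LP (LK LD1_c26 LD2_c18 LD3_c16))))))
theorem f297958 : Led Lsl_cf (LP (LK LD1_c26 LD2_c18 LD3_c16)) = (LP (LK LD1_c25 LD2_c6 LD3_c43)) :=
  Lgr Lrot11 (Lpr_ct (f297953 IH) (Lpn (LP (LK LD1_c25 LD2_c6 LD3_c43))))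
theorem f200453 : Led Lsl_ft (LP (LK LD1_c11 LD2_c8 LD3_c54)) = (LP (LK LD1_c20 LD2_c2 LD3_c41)) :=
  Lre_f IH (LK LD1_c11 LD2_c8 LD3_c54) (LK LD1_c20 LD2_c2 LD3_c41) Lrfl Lrfl
theorem f297890 : Led Lsl_af (LP (LK LD1_c25 LD2_c6 LD3_c43)) = (LP (LK LD1_c20 LD2_c2 LD3_c41)) :=
  Lgr Lrot45 (Lpr_ft (f297888 IH) (Lpe (f297882 IH) (Lpr_ft (f200453 IH) (Lpn (LP (LK LD1_c20 LD2_c2 LD3_c41))))))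
theorem f227051 : Led Lsl_gt (LP (LK LD1_c11 LD2_c8 LD3_c54)) = (LP (LK LD1_c20 LD2_c2 LD3_c39)) :=
  Lre_g IH (LK LD1_c11 LD2_c8 LD3_c54) (LK LD1_c20 LD2_c2 LD3_c39) Lrfl Lrfl
theorem f299043 : Led Lsl_gf (LP (LK LD1_c25 LD2_c6 LD3_c43)) = (LP (LK LD1_c20 LD2_c2 LD3_c39)) :=
  Lgr Lrot76 (Lpr_af (f297890 IH) (Lpe (f200453 IH) (Lpr_gt (f227051 IH) (Lpn (LP (LK LD1_c20 LD2_c2 LD3_c39))))))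
theorem f299179 : Led Lsl_df (LP (LK LD1_c16 LD2_c16 LD3_c1)) = (LP (LK LD1_c20 LD2_c2 LD3_c39)) :=
  Lgr Lrot155 (Lpr_gt (f299177 IH) (Lpe (f227033 IH) (Lpr_gt (K13.f190014 IH) (Lpr_ct (f190002 IH) (Lpr_dt (f189989 IH) (Lpe (f200475 IH) (Lpr_gf (f298918 IH) (Lpr_cf (f297958 IH) (Lpr_gf (f299043 IH) (Lpn (LP (LK LD1_c20 LD2_c2 LD3_c39))))))))))))
theorem f28865 : Led Lsl_ct (LP (LK LD1_c16 LD2_c16 LD3_c1)) = (LP (LK LD1_c8 LD2_c41 LD3_c5)) :=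
  Lre_c IH (LK LD1_c16 LD2_c16 LD3_c1) (LK LD1_c8 LD2_c41 LD3_c5) Lrfl Lrfl
theorem f200461 : Led Lsl_gt (LP (LK LD1_c11 LD2_c8 LD3_c53)) = (LP (LK LD1_c5 LD2_c38 LD3_c59)) :=
  Lre_g IH (LK LD1_c11 LD2_c8 LD3_c53) (LK LD1_c5 LD2_c38 LD3_c59) Lrfl Lrfl
theorem f299188 : Led Lsl_ct (LP (LK LD1_c8 LD2_c7 LD3_c24)) = (LP (LK LD1_c11 LD2_c8 LD3_c53)) :=
  Lgr Lrot8 (Lpr_gt (f28860 IH) (Lpe (K13.f28834 IH) (Lpr_gt (K17.f28861 IH) (Lpr_dt (K17.f28862 IH) (Lpe (f28865 IH) (Lpr_df (f299179 IH) (Lpe (f227051 IH) (Lpe (f200541 IH) (Lpe (f200461 IH) (Lpn (LP (LK LD1_c11 LD2_c8 LD3_c53))))))))))))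
theorem f200439 : Led Lsl_ct (LP (LK LD1_c5 LD2_c38 LD3_c59)) = (LP (LK LD1_c2 LD2_c45 LD3_c28)) :=
  Lre_c IH (LK LD1_c5 LD2_c38 LD3_c59) (LK LD1_c2 LD2_c45 LD3_c28) Lrfl Lrfl
theorem f200446 : Led Lsl_df (LP (LK LD1_c2 LD2_c45 LD3_c28)) = (LP (LK LD1_c2 LD2_c8 LD3_c49)) :=
  Lgr Lrot38 (Lpr_dt (K12.f200423 IH) (Lpn (LP (LK LD1_c2 LD2_c8 LD3_c49))))
theorem f28905 : Led Lsl_ct (LP (LK LD1_c4 LD2_c21 LD3_c45)) = (LP (LK LD1_c8 LD2_c41 LD3_c7)) :=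
  Lre_c IH (LK LD1_c4 LD2_c21 LD3_c45) (LK LD1_c8 LD2_c41 LD3_c7) Lrfl Lrfl
theorem f299199 : Led Lsl_gt (LP (LK LD1_c7 LD2_c55 LD3_c42)) = (LP (LK LD1_c4 LD2_c21 LD3_c45)) :=
  Lgr Lrot9 (Lpe (K13.f228054 IH) (Lpe (f275924 IH) (Lpr_ct (f299188 IH) (Lpr_gt (f200461 IH) (Lpr_ct (f200439 IH) (Lpr_df (f200446 IH) (Lpe (f200457 IH) (Lpe (f238793 IH) (Lpe (f28905 IH) (Lpn (LP (LK LD1_c4 LD2_c21 LD3_c45))))))))))))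
theorem f299202 : Led Lsl_gf (LP (LK LD1_c8 LD2_c36 LD3_c46)) = (LP (LK LD1_c8 LD2_c7 LD3_c23)) :=
  Lgr Lrot138 (Lpr_dt (K13.f228054 IH) (Lpr_gt (f299199 IH) (Lpe (f227190 IH) (Lpr_et (f28083 IH) (Lpr_gt (K10.f28066 IH) (Lpe (K15.f28059 IH) (Lpr_dt (K10.f28022 IH) (Lpr_gt (K15.f28076 IH) (Lpe (K15.f28003 IH) (Lpe (K15.f211448 IH) (Lpn (LP (LK LD1_c8 LD2_c7 LD3_c23)))))))))))))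
theorem f299204 : Led Lsl_gt (LP (LK LD1_c8 LD2_c5 LD3_c50)) = (LP (LK LD1_c8 LD2_c5 LD3_c27)) :=
  Lgr Lrot112 (Lpr_df (f296261 IH) (Lpe (f296263 IH) (Lpr_gf (f299202 IH) (Lpr_ef (K15.f211448 IH) (Lpr_dt (K15.f28003 IH) (Lpe (K15.f28076 IH) (Lpe (K10.f28022 IH) (Lpe (K15.f28075 IH) (Lpe (K15.f28082 IH) (Lpr_dt (K15.f259115 IH) (Lpn (LP (LK LD1_c8 LD2_c5 LD3_c27)))))))))))))
theorem f243976 : Led Lsl_ct (LP (LK LD1_c4 LD2_c3 LD3_c4)) = (LP (LK LD1_c8 LD2_c6 LD3_c44)) :=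
  Lre_c IH (LK LD1_c4 LD2_c3 LD3_c4) (LK LD1_c8 LD2_c6 LD3_c44) Lrfl Lrfl
theorem f259124 : Led Lsl_df (LP (LK LD1_c8 LD2_c9 LD3_c30)) = (LP (LK LD1_c8 LD2_c5 LD3_c27)) :=
  Lgr Lrot38 (Lpr_dt (K15.f259115 IH) (Lpn (LP (LK LD1_c8 LD2_c5 LD3_c27))))
theorem f259122 : Led Lsl_ct (LP (LK LD1_c15 LD2_c21 LD3_c61)) = (LP (LK LD1_c8 LD2_c9 LD3_c30)) :=
  Lre_c IH (LK LD1_c15 LD2_c21 LD3_c61) (LK LD1_c8 LD2_c9 LD3_c30) Lrfl Lrfl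
theorem f259123 : Led Lsl_dt (LP (LK LD1_c25 LD2_c13 LD3_c41)) = (LP (LK LD1_c15 LD2_c21 LD3_c61)) :=
  Lre_d IH (LK LD1_c25 LD2_c13 LD3_c41) (LK LD1_c15 LD2_c21 LD3_c61) Lrfl Lrfl
theorem f299206 : Led Lsl_gt (LP (LK LD1_c20 LD2_c2 LD3_c27)) = (LP (LK LD1_c25 LD2_c13 LD3_c41)) :=
  Lgr Lrot49 (Lpe (f296851 IH) (Lpe (f298445 IH) (Lpe (f243976 IH) (Lpr_gt (f184821 IH) (Lpe (f296261 IH) (Lpr_gt (f299204 IH) (Lpe (f259124 IH) (Lpe (f259122 IH) (Lpe (f259123 IH) (Lpn (LP (LK LD1_c25 LD2_c13 LD3_c41))))))))))))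
theorem f50995 : Led Lsl_ft (LP (LK LD1_c25 LD2_c7 LD3_c46)) = (LP (LK LD1_c15 LD2_c17 LD3_c27)) :=
  Lre_f IH (LK LD1_c25 LD2_c7 LD3_c46) (LK LD1_c15 LD2_c17 LD3_c27) Lrfl Lrfl
theorem f50996 : Led Lsl_et (LP (LK LD1_c4 LD2_c14 LD3_c24)) = (LP (LK LD1_c8 LD2_c27 LD3_c34)) :=
  Lre_e IH (LK LD1_c4 LD2_c14 LD3_c24) (LK LD1_c8 LD2_c27 LD3_c34) Lrfl Lrfl
theorem f50997 : Led Lsl_ft (LP (LK LD1_c8 LD2_c27 LD3_c34)) = (LP (LK LD1_c15 LD2_c53 LD3_c8)) :=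
  Lre_f IH (LK LD1_c8 LD2_c27 LD3_c34) (LK LD1_c15 LD2_c53 LD3_c8) Lrfl Lrfl
theorem f50998 : Led Lsl_ef (LP (LK LD1_c25 LD2_c7 LD3_c46)) = (LP (LK LD1_c15 LD2_c53 LD3_c8)) :=
  Lgr Lrot21 (Lpr_ft (f50995 IH) (Lpr_et (K10.f50994 IH) (Lpr_ft (K10.f50983 IH) (Lpr_et (f50996 IH) (Lpr_ft (f50997 IH) (Lpn (LP (LK LD1_c15 LD2_c53 LD3_c8))))))))
theorem f52558 : Led Lsl_ef (LP (LK LD1_c8 LD2_c28 LD3_c34)) = (LP (LK LD1_c4 LD2_c50 LD3_c45)) :=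
  Lgr Lrot73 (Lpr_dt (K10.f51238 IH) (Lpe (f50998 IH) (Lpr_dt (K10.f52350 IH) (Lpr_et (K10.f52552 IH) (Lpr_dt (K10.f27601 IH) (Lpn (LP (LK LD1_c4 LD2_c50 LD3_c45))))))))
theorem f299212 : Led Lsl_dt (LP (LK LD1_c15 LD2_c21 LD3_c61)) = (LP (LK LD1_c25 LD2_c13 LD3_c41)) :=
  Lre_d IH (LK LD1_c15 LD2_c21 LD3_c61) (LK LD1_c25 LD2_c13 LD3_c41) Lrfl Lrfl
theorem f299213 : Led Lsl_et (LP (LK LD1_c15 LD2_c21 LD3_c61)) = (LP (LK LD1_c8 LD2_c9 LD3_c28)) :=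
  Lre_e IH (LK LD1_c15 LD2_c21 LD3_c61) (LK LD1_c8 LD2_c9 LD3_c28) Lrfl Lrfl
theorem f299214 : Led Lsl_gf (LP (LK LD1_c8 LD2_c28 LD3_c34)) = (LP (LK LD1_c8 LD2_c9 LD3_c28)) :=
  Lgr Lrot141 (Lpr_ef (f52558 IH) (Lpr_dt (K10.f27591 IH) (Lpr_gt (K14.f194387 IH) (Lpe (K14.f194397 IH) (Lpr_et (f194398 IH) (Lpr_gt (f298445 IH) (Lpr_dt (f296851 IH) (Lpr_gt (f299206 IH) (Lpe (f299212 IH) (Lpr_et (f299213 IH) (Lpn (LP (LK LD1_c8 LD2_c9 LD3_c28)))))))))))))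
theorem f52568 : Led Lsl_af (LP (LK LD1_c8 LD2_c28 LD3_c35)) = (LP (LK LD1_c8 LD2_c27 LD3_c34)) :=
  Lgr Lrot50 (Lpr_et (K10.f52566 IH) (Lpr_at (K15.f50976 IH) (Lpr_et (f50996 IH) (Lpn (LP (LK LD1_c8 LD2_c27 LD3_c34))))))
theorem f27467 : Led Lsl_gt (LP (LK LD1_c15 LD2_c54 LD3_c60)) = (LP (LK LD1_c8 LD2_c28 LD3_c35)) :=
  Lre_g IH (LK LD1_c15 LD2_c54 LD3_c60) (LK LD1_c8 LD2_c28 LD3_c35) Lrfl Lrfl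
theorem f52922 : Led Lsl_gf (LP (LK LD1_c15 LD2_c54 LD3_c60)) = (LP (LK LD1_c15 LD2_c53 LD3_c8)) :=
  Lgr Lrot47 (Lpr_gt (f27467 IH) (Lpr_af (f52568 IH) (Lpe (K10.f51019 IH) (Lpn (LP (LK LD1_c15 LD2_c53 LD3_c8))))))
theorem f28007 : Led Lsl_ct (LP (LK LD1_c4 LD2_c4 LD3_c18)) = (LP (LK LD1_c8 LD2_c9 LD3_c28)) :=
  Lre_c IH (LK LD1_c4 LD2_c4 LD3_c18) (LK LD1_c8 LD2_c9 LD3_c28) Lrfl Lrfl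
theorem f28077 : Led Lsl_dt (LP (LK LD1_c4 LD2_c4 LD3_c19)) = (LP (LK LD1_c8 LD2_c9 LD3_c33)) :=
  Lre_d IH (LK LD1_c4 LD2_c4 LD3_c19) (LK LD1_c8 LD2_c9 LD3_c33) Lrfl Lrfl
theorem f28078 : Led Lsl_ct (LP (LK LD1_c15 LD2_c22 LD3_c9)) = (LP (LK LD1_c8 LD2_c9 LD3_c33)) :=
  Lre_c IH (LK LD1_c15 LD2_c22 LD3_c9) (LK LD1_c8 LD2_c9 LD3_c33) Lrfl Lrfl
theorem f299218 : Led Lsl_dt (LP (LK LD1_c15 LD2_c54 LD3_c60)) = (LP (LK LD1_c15 LD2_c22 LD3_c9)) :=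
  Lgr Lrot105 (Lpr_gf (f52922 IH) (Lpe (K10.f51238 IH) (Lpr_gf (f299214 IH) (Lpe (f28007 IH) (Lpr_gt (K15.f28075 IH) (Lpr_dt (K10.f28022 IH) (Lpr_gt (K15.f28076 IH) (Lpr_dt (f28077 IH) (Lpe (f28078 IH) (Lpn (LP (LK LD1_c15 LD2_c22 LD3_c9))))))))))))
theorem f299225 : Led Lsl_df (LP (LK LD1_c15 LD2_c54 LD3_c60)) = (LP (LK LD1_c15 LD2_c22 LD3_c9)) :=
  Lgr Lrot38 (Lpr_dt (f299218 IH) (Lpn (LP (LK LD1_c15 LD2_c22 LD3_c9))))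
theorem f238505 : Led Lsl_et (LP (LK LD1_c2 LD2_c45 LD3_c27)) = (LP (LK LD1_c5 LD2_c38 LD3_c59)) :=
  Lre_e IH (LK LD1_c2 LD2_c45 LD3_c27) (LK LD1_c5 LD2_c38 LD3_c59) Lrfl Lrfl
theorem f227055 : Led Lsl_gt (LP (LK LD1_c5 LD2_c38 LD3_c59)) = (LP (LK LD1_c11 LD2_c8 LD3_c52)) :=
  Lre_g IH (LK LD1_c5 LD2_c38 LD3_c59) (LK LD1_c11 LD2_c8 LD3_c52) Lrfl Lrfl
theorem f299233 : Led Lsl_ef (LP (LK LD1_c11 LD2_c8 LD3_c52)) = (LP (LK LD1_c15 LD2_c22 LD3_c9)) :=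
  Lgr Lrot17 (Lpe (f227055 IH) (Lpe (f238505 IH) (Lpe (K13.f238331 IH) (Lpe (K15.f243960 IH) (Lpr_df (K13.f223588 IH) (Lpe (K12.f223586 IH) (Lpe (K10.f52587 IH) (Lpr_dt (K10.f27453 IH) (Lpe (f27467 IH) (Lpr_df (f299225 IH) (Lpn (LP (LK LD1_c15 LD2_c22 LD3_c9)))))))))))))
theorem f299235 : Led Lsl_gf (LP (LK LD1_c15 LD2_c22 LD3_c17)) = (LP (LK LD1_c11 LD2_c8 LD3_c52)) :=
  Lgr Lrot141 (Lpr_ef (f286664 IH) (Lpr_dt (f296851 IH) (Lpr_gt (f299206 IH) (Lpe (f299212 IH) (Lpr_et (f299213 IH) (Lpe (f299214 IH) (Lpr_dt (K10.f51238 IH) (Lpe (f52922 IH) (Lpr_df (f299225 IH) (Lpe (f299233 IH) (Lpn (LP (LK LD1_c11 LD2_c8 LD3_c52)))))))))))))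
theorem f299237 : Led Lsl_ct (LP (LK LD1_c8 LD2_c7 LD3_c23)) = (LP (LK LD1_c11 LD2_c8 LD3_c52)) :=
  Lgr Lrot152 (Lpe (K15.f28867 IH) (Lpe (K15.f28850 IH) (Lpr_gt (K17.f28861 IH) (Lpr_ct (f28866 IH) (Lpr_gt (f298665 IH) (Lpr_ct (f168397 IH) (Lpe (K14.f247202 IH) (Lpe (f247250 IH) (Lpr_gf (f299235 IH) (Lpn (LP (LK LD1_c11 LD2_c8 LD3_c52))))))))))))
theorem f227060 : Led Lsl_dt (LP (LK LD1_c15 LD2_c16 LD3_c41)) = (LP (LK LD1_c8 LD2_c6 LD3_c51)) :=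
  Lre_d IH (LK LD1_c15 LD2_c16 LD3_c41) (LK LD1_c8 LD2_c6 LD3_c51) Lrfl Lrfl
theorem f227044 : Led Lsl_ct (LP (LK LD1_c8 LD2_c6 LD3_c51)) = (LP (LK LD1_c4 LD2_c3 LD3_c10)) :=
  Lre_c IH (LK LD1_c8 LD2_c6 LD3_c51) (LK LD1_c4 LD2_c3 LD3_c10) Lrfl Lrfl
theorem f299252 : Led Lsl_dt (LP (LK LD1_c4 LD2_c21 LD3_c45)) = (LP (LK LD1_c4 LD2_c3 LD3_c10)) :=
  Lgr Lrot113 (Lpe (f299199 IH) (Lpe (K13.f228054 IH) (Lpr_gf (f299202 IH) (Lpr_ct (f299237 IH) (Lpe (f299235 IH) (Lpe (f297896 IH) (Lpr_gt (f194401 IH) (Lpr_dt (f227060 IH) (Lpr_ct (f227044 IH) (Lpn (LP (LK LD1_c4 LD2_c3 LD3_c10))))))))))))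
theorem f39125 : Led Lsl_gf (LP (LK LD1_c7 LD2_c56 LD3_c2)) = (LP (LK LD1_c4 LD2_c21 LD3_c28)) :=
  Lgr Lrot47 (Lpr_gt (f39124 IH) (Lpr_af (K1.f39102 IH) (Lpe (K1.f39101 IH) (Lpn (LP (LK LD1_c4 LD2_c21 LD3_c28))))))
theorem f299264 : Led Lsl_et (LP (LK LD1_c4 LD2_c21 LD3_c45)) = (LP (LK LD1_c4 LD2_c16 LD3_c48)) :=
  Lgr Lrot121 (Lpr_dt (f299252 IH) (Lpe (f227195 IH) (Lpe (f237228 IH) (Lpr_et (f39134 IH) (Lpr_gf (f39125 IH) (Lpe (K13.f39116 IH) (Lpr_dt (K13.f29140 IH) (Lpe (K10.f186920 IH) (Lpe (K13.f2108 IH) (Lpe (K14.f251816 IH) (Lpn (LP (LK LD1_c4 LD2_c16 LD3_c48)))))))))))))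
theorem f299273 : Led Lsl_ef (LP (LK LD1_c4 LD2_c21 LD3_c45)) = (LP (LK LD1_c4 LD2_c16 LD3_c48)) :=
  Lgr Lrot88 (Lpr_et (f299264 IH) (Lpn (LP (LK LD1_c4 LD2_c16 LD3_c48))))
theorem f283275 : Led Lsl_bt (LP (LK LD1_c2 LD2_c38 LD3_c18)) = (LP (LK LD1_c1 LD2_c16 LD3_c11)) :=
  Lre_b IH (LK LD1_c2 LD2_c38 LD3_c18) (LK LD1_c1 LD2_c16 LD3_c11) Lrfl Lrfl
theorem f290170 : Led Lsl_dt (LP (LK LD1_c4 LD2_c16 LD3_c48)) = (LP (LK LD1_c2 LD2_c38 LD3_c18)) :=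
  Lgr Lrot79 (Lpe (K17.f251828 IH) (Lpr_df (K17.f290168 IH) (Lpe (f283275 IH) (Lpn (LP (LK LD1_c2 LD2_c38 LD3_c18))))))
theorem f299281 : Led Lsl_gt (LP (LK LD1_c4 LD2_c9 LD3_c16)) = (LP (LK LD1_c2 LD2_c38 LD3_c18)) :=
  Lgr Lrot112 (Lpe (K13.f167271 IH) (Lpr_et (K16.f233736 IH) (Lpe (K15.f238529 IH) (Lpr_ef (K15.f238530 IH) (Lpr_dt (K15.f28910 IH) (Lpe (K15.f28867 IH) (Lpe (K15.f28850 IH) (Lpe (f28876 IH) (Lpr_ef (f299273 IH) (Lpr_dt (f290170 IH) (Lpn (LP (LK LD1_c2 LD2_c38 LD3_c18)))))))))))))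
theorem f237901 : Led Lsl_df (LP (LK LD1_c2 LD2_c6 LD3_c46)) = (LP (LK LD1_c2 LD2_c3 LD3_c41)) :=
  Lgr Lrot38 (Lpr_dt (K13.f237806 IH) (Lpn (LP (LK LD1_c2 LD2_c3 LD3_c41))))
theorem f179025 : Led Lsl_bt (LP (LK LD1_c1 LD2_c0 LD3_c27)) = (LP (LK LD1_c0 LD2_c27 LD3_c27)) :=
  Lre_b IH (LK LD1_c1 LD2_c0 LD3_c27) (LK LD1_c0 LD2_c27 LD3_c27) Lrfl Lrfl
theorem f236445 : Led Lsl_bf (LP (LK LD1_c5 LD2_c15 LD3_c14)) = (LP (LK LD1_c4 LD2_c53 LD3_c47)) :=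
  Lgr Lrot165 (Lpr_gt (K13.f232391 IH) (Lpr_ct (K13.f236418 IH) (Lpr_gt (K13.f177910 IH) (Lpr_cf (K13.f177901 IH) (Lpr_bt (K13.f177900 IH) (Lpe (K9.f179017 IH) (Lpe (f179025 IH) (Lpe (K14.f200387 IH) (Lpr_gt (K14.f6919 IH) (Lpe (K17.f200613 IH) (Lpn (LP (LK LD1_c4 LD2_c53 LD3_c47)))))))))))))
theorem f274474 : Led Lsl_bt (LP (LK LD1_c5 LD2_c22 LD3_c31)) = (LP (LK LD1_c2 LD2_c37 LD3_c55)) :=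
  Lre_b IH (LK LD1_c5 LD2_c22 LD3_c31) (LK LD1_c2 LD2_c37 LD3_c55) Lrfl Lrfl
theorem f283243 : Led Lsl_et (LP (LK LD1_c5 LD2_c15 LD3_c14)) = (LP (LK LD1_c5 LD2_c22 LD3_c31)) :=
  Lgr Lrot74 (Lpr_bf (f236445 IH) (Lpr_ef (K17.f283241 IH) (Lpe (f274474 IH) (Lpn (LP (LK LD1_c5 LD2_c22 LD3_c31))))))
theorem f229604 : Led Lsl_bt (LP (LK LD1_c4 LD2_c9 LD3_c1)) = (LP (LK LD1_c2 LD2_c1 LD3_c55)) :=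
  Lre_b IH (LK LD1_c4 LD2_c9 LD3_c1) (LK LD1_c2 LD2_c1 LD3_c55) Lrfl Lrfl
theorem f271031 : Led Lsl_bt (LP (LK LD1_c2 LD2_c12 LD3_c42)) = (LP (LK LD1_c4 LD2_c9 LD3_c4)) :=
  Lgr Lrot127 (Lpr_bf (K16.f271029 IH) (Lpn (LP (LK LD1_c4 LD2_c9 LD3_c4))))
theorem f283276 : Led Lsl_ct (LP (LK LD1_c2 LD2_c38 LD3_c18)) = (LP (LK LD1_c5 LD2_c15 LD3_c14)) :=
  Lgr Lrot10 (Lpr_bt (f283275 IH) (Lpr_gt (K17.f283266 IH) (Lpe (K14.f200147 IH) (Lpr_gt (K15.f51584 IH) (Lpe (K17.f257968 IH) (Lpr_bt (f229604 IH) (Lpr_gt (K16.f190835 IH) (Lpe (f271031 IH) (Lpr_ct (K13.f238207 IH) (Lpe (K13.f236449 IH) (Lpn (LP (LK LD1_c5 LD2_c15 LD3_c14)))))))))))))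
theorem f283764 : Led Lsl_ef (LP (LK LD1_c2 LD2_c38 LD3_c18)) = (LP (LK LD1_c4 LD2_c3 LD3_c9)) :=
  Lgr Lrot28 (Lpr_ct (f283276 IH) (Lpr_et (f283243 IH) (Lpr_ct (K17.f283762 IH) (Lpn (LP (LK LD1_c4 LD2_c3 LD3_c9))))))
theorem f299279 : Led Lsl_dt (LP (LK LD1_c2 LD2_c38 LD3_c18)) = (LP (LK LD1_c4 LD2_c16 LD3_c48)) :=
  Lgr Lrot77 (Lpr_ef (f283764 IH) (Lpe (K17.f51367 IH) (Lpe (f28083 IH) (Lpe (f299252 IH) (Lpr_ef (f299273 IH) (Lpn (LP (LK LD1_c4 LD2_c16 LD3_c48))))))))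
theorem f2041 : Led Lsl_dt (LP (LK LD1_c1 LD2_c8 LD3_c49)) = (LP (LK LD1_c0 LD2_c31 LD3_c27)) :=
  Lre_d IH (LK LD1_c1 LD2_c8 LD3_c49) (LK LD1_c0 LD2_c31 LD3_c27) Lrfl Lrfl
theorem f299283 : Led Lsl_gt (LP (LK LD1_c2 LD2_c6 LD3_c46)) = (LP (LK LD1_c1 LD2_c8 LD3_c49)) :=
  Lgr Lrot49 (Lpr_df (f237901 IH) (Lpr_gf (K13.f236252 IH) (Lpe (K13.f233711 IH) (Lpr_gt (f299281 IH) (Lpr_dt (f299279 IH) (Lpr_gt (K14.f251816 IH) (Lpr_dt (K13.f2108 IH) (Lpe (K10.f2107 IH) (Lpe (f2041 IH) (Lpn (LP (LK LD1_c1 LD2_c8 LD3_c49))))))))))))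
theorem f170866 : Led Lsl_bt (LP (LK LD1_c0 LD2_c26 LD3_c26)) = (LP (LK LD1_c0 LD2_c58 LD3_c13)) :=
  Lre_b IH (LK LD1_c0 LD2_c26 LD3_c26) (LK LD1_c0 LD2_c58 LD3_c13) Lrfl Lrfl
theorem f299306 : Led Lsl_gf (LP (LK LD1_c2 LD2_c2 LD3_c27)) = (LP (LK LD1_c0 LD2_c58 LD3_c15)) :=
  Lgr Lrot126 (Lpe (K15.f260761 IH) (Lpr_bt (K13.f237805 IH) (Lpr_gt (f299283 IH) (Lpr_ct (K13.f272 IH) (Lpr_gt (K14.f199320 IH) (Lpr_cf (K14.f255666 IH) (Lpr_bt (K14.f255662 IH) (Lpr_gt (K14.f255864 IH) (Lpe (f170866 IH) (Lpr_ct (K9.f53460 IH) (Lpn (LP (LK LD1_c0 LD2_c58 LD3_c15)))))))))))))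
theorem f231030 : Led Lsl_ff (LP (LK LD1_c0 LD2_c59 LD3_c56)) = (LP (LK LD1_c0 LD2_c58 LD3_c15)) :=
  Lgr Lrot23 (Lpr_ct (K9.f167306 IH) (Lpr_ft (K12.f231026 IH) (Lpr_ct (K9.f53460 IH) (Lpn (LP (LK LD1_c0 LD2_c58 LD3_c15))))))
theorem f299366 : Led Lsl_af (LP (LK LD1_c0 LD2_c58 LD3_c7)) = (LP (LK LD1_c0 LD2_c59 LD3_c56)) :=
  Lgr Lrot31 (Lpe (K15.f170849 IH) (Lpr_gf (f299306 IH) (Lpe (f231030 IH) (Lpn (LP (LK LD1_c0 LD2_c59 LD3_c56))))))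
theorem f299380 : Led Lsl_at (LP (LK LD1_c0 LD2_c58 LD3_c23)) = (LP (LK LD1_c1 LD2_c0 LD3_c10)) :=
  Lgr Lrot51 (Lpr_df (K9.f170972 IH) (Lpr_af (f299366 IH) (Lpe (K9.f170111 IH) (Lpn (LP (LK LD1_c1 LD2_c0 LD3_c10))))))
theorem f299393 : Led Lsl_ff (LP (LK LD1_c0 LD2_c58 LD3_c23)) = (LP (LK LD1_c1 LD2_c0 LD3_c7)) :=
  Lgr Lrot52 (Lpr_at (f299380 IH) (Lpr_gf (K9.f170069 IH) (Lpe (K9.f167291 IH) (Lpn (LP (LK LD1_c1 LD2_c0 LD3_c7))))))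
theorem f299403 : Led Lsl_ft (LP (LK LD1_c0 LD2_c58 LD3_c23)) = (LP (LK LD1_c1 LD2_c0 LD3_c7)) :=
  Lgr Lrot48 (Lpr_ff (f299393 IH) (Lpn (LP (LK LD1_c1 LD2_c0 LD3_c7))))
theorem f299413 : Led Lsl_af (LP (LK LD1_c0 LD2_c58 LD3_c20)) = (LP (LK LD1_c1 LD2_c0 LD3_c7)) :=
  Lgr Lrot31 (Lpr_gf (K9.f170590 IH) (Lpe (K9.f170939 IH) (Lpr_ft (f299403 IH) (Lpn (LP (LK LD1_c1 LD2_c0 LD3_c7))))))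
theorem f299385 : Led Lsl_af (LP (LK LD1_c0 LD2_c58 LD3_c23)) = (LP (LK LD1_c1 LD2_c0 LD3_c10)) :=
  Lgr Lrot0 (Lpr_at (f299380 IH) (Lpn (LP (LK LD1_c1 LD2_c0 LD3_c10))))
theorem f299423 : Led Lsl_ft (LP (LK LD1_c0 LD2_c58 LD3_c20)) = (LP (LK LD1_c1 LD2_c0 LD3_c10)) :=
  Lgr Lrot101 (Lpr_af (f299413 IH) (Lpe (f299403 IH) (Lpr_af (f299385 IH) (Lpn (LP (LK LD1_c1 LD2_c0 LD3_c10))))))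
theorem f299433 : Led Lsl_ff (LP (LK LD1_c0 LD2_c58 LD3_c20)) = (LP (LK LD1_c1 LD2_c0 LD3_c10)) :=
  Lgr Lrot3 (Lpr_ft (f299423 IH) (Lpn (LP (LK LD1_c1 LD2_c0 LD3_c10))))
theorem f170867 : Led Lsl_et (LP (LK LD1_c0 LD2_c58 LD3_c20)) = (LP (LK LD1_c2 LD2_c2 LD3_c52)) :=
  Lre_e IH (LK LD1_c0 LD2_c58 LD3_c20) (LK LD1_c2 LD2_c2 LD3_c52) Lrfl Lrfl
theorem f299439 : Led Lsl_ft (LP (LK LD1_c2 LD2_c2 LD3_c52)) = (LP (LK LD1_c4 LD2_c11 LD3_c19)) :=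
  Lre_f IH (LK LD1_c2 LD2_c2 LD3_c52) (LK LD1_c4 LD2_c11 LD3_c19) Lrfl Lrfl
theorem f170119 : Led Lsl_et (LP (LK LD1_c2 LD2_c6 LD3_c22)) = (LP (LK LD1_c1 LD2_c0 LD3_c10)) :=
  Lre_e IH (LK LD1_c2 LD2_c6 LD3_c22) (LK LD1_c1 LD2_c0 LD3_c10) Lrfl Lrfl
theorem f299440 : Led Lsl_ft (LP (LK LD1_c4 LD2_c18 LD3_c12)) = (LP (LK LD1_c2 LD2_c6 LD3_c22)) :=
  Lre_f IH (LK LD1_c4 LD2_c18 LD3_c12) (LK LD1_c2 LD2_c6 LD3_c22) Lrfl Lrfl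
theorem f299441 : Led Lsl_et (LP (LK LD1_c4 LD2_c11 LD3_c19)) = (LP (LK LD1_c4 LD2_c18 LD3_c12)) :=
  Lgr Lrot69 (Lpe (f299439 IH) (Lpe (f170867 IH) (Lpr_ff (f299433 IH) (Lpe (f170119 IH) (Lpe (f299440 IH) (Lpn (LP (LK LD1_c4 LD2_c18 LD3_c12))))))))
theorem f299443 : Led Lsl_ct (LP (LK LD1_c2 LD2_c2 LD3_c56)) = (LP (LK LD1_c4 LD2_c11 LD3_c19)) :=
  Lre_c IH (LK LD1_c2 LD2_c2 LD3_c56) (LK LD1_c4 LD2_c11 LD3_c19) Lrfl Lrfl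
theorem f167461 : Led Lsl_ct (LP (LK LD1_c4 LD2_c18 LD3_c12)) = (LP (LK LD1_c2 LD2_c6 LD3_c25)) :=
  Lre_c IH (LK LD1_c4 LD2_c18 LD3_c12) (LK LD1_c2 LD2_c6 LD3_c25) Lrfl Lrfl
theorem f299444 : Led Lsl_ef (LP (LK LD1_c2 LD2_c2 LD3_c56)) = (LP (LK LD1_c2 LD2_c6 LD3_c25)) :=
  Lgr Lrot28 (Lpr_ct (f299443 IH) (Lpr_et (f299441 IH) (Lpr_ct (f167461 IH) (Lpn (LP (LK LD1_c2 LD2_c6 LD3_c25))))))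
theorem f299448 : Led Lsl_et (LP (LK LD1_c2 LD2_c2 LD3_c56)) = (LP (LK LD1_c2 LD2_c6 LD3_c25)) :=
  Lgr Lrot87 (Lpr_ef (f299444 IH) (Lpn (LP (LK LD1_c2 LD2_c6 LD3_c25))))
theorem f295971 : Led Lsl_bt (LP (LK LD1_c4 LD2_c11 LD3_c11)) = (LP (LK LD1_c2 LD2_c2 LD3_c56)) :=
  Lre_b IH (LK LD1_c4 LD2_c11 LD3_c11) (LK LD1_c2 LD2_c2 LD3_c56) Lrfl Lrfl
theorem f299451 : Led Lsl_ef (LP (LK LD1_c4 LD2_c11 LD3_c11)) = (LP (LK LD1_c4 LD2_c18 LD3_c7)) :=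
  Lgr Lrot29 (Lpr_bt (f295971 IH) (Lpr_et (f299448 IH) (Lpr_bt (f167469 IH) (Lpn (LP (LK LD1_c4 LD2_c18 LD3_c7))))))
theorem f288892 : Led Lsl_gt (LP (LK LD1_c4 LD2_c11 LD3_c11)) = (LP (LK LD1_c8 LD2_c21 LD3_c59)) :=
  Lre_g IH (LK LD1_c4 LD2_c11 LD3_c11) (LK LD1_c8 LD2_c21 LD3_c59) Lrfl Lrfl
theorem f288801 : Led Lsl_gt (LP (LK LD1_c8 LD2_c21 LD3_c59)) = (LP (LK LD1_c4 LD2_c11 LD3_c2)) :=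
  Lre_g IH (LK LD1_c8 LD2_c21 LD3_c59) (LK LD1_c4 LD2_c11 LD3_c2) Lrfl Lrfl
theorem f226954 : Led Lsl_dt (LP (LK LD1_c2 LD2_c2 LD3_c39)) = (LP (LK LD1_c4 LD2_c10 LD3_c50)) :=
  Lre_d IH (LK LD1_c2 LD2_c2 LD3_c39) (LK LD1_c4 LD2_c10 LD3_c50) Lrfl Lrfl
theorem f288884 : Led Lsl_dt (LP (LK LD1_c15 LD2_c43 LD3_c60)) = (LP (LK LD1_c8 LD2_c21 LD3_c36)) :=
  Lre_d IH (LK LD1_c15 LD2_c43 LD3_c60) (LK LD1_c8 LD2_c21 LD3_c36) Lrfl Lrfl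
theorem f288885 : Led Lsl_ef (LP (LK LD1_c8 LD2_c21 LD3_c59)) = (LP (LK LD1_c15 LD2_c43 LD3_c60)) :=
  Lgr Lrot114 (Lpr_gt (f288801 IH) (Lpe (K17.f288791 IH) (Lpe (K17.f278513 IH) (Lpr_gt (K17.f288799 IH) (Lpr_df (K15.f267591 IH) (Lpr_et (K17.f236954 IH) (Lpr_gt (K17.f288869 IH) (Lpr_dt (f226954 IH) (Lpr_gt (f288874 IH) (Lpe (f288884 IH) (Lpn (LP (LK LD1_c15 LD2_c43 LD3_c60)))))))))))))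
theorem f256807 : Led Lsl_et (LP (LK LD1_c2 LD2_c2 LD3_c35)) = (LP (LK LD1_c4 LD2_c10 LD3_c40)) :=
  Lre_e IH (LK LD1_c2 LD2_c2 LD3_c35) (LK LD1_c4 LD2_c10 LD3_c40) Lrfl Lrfl
theorem f288915 : Led Lsl_et (LP (LK LD1_c8 LD2_c20 LD3_c38)) = (LP (LK LD1_c8 LD2_c32 LD3_c49)) :=
  Lgr Lrot69 (Lpr_ff (K17.f288907 IH) (Lpe (f256807 IH) (Lpe (K14.f251904 IH) (Lpe (K12.f230959 IH) (Lpe (K14.f230987 IH) (Lpn (LP (LK LD1_c8 LD2_c32 LD3_c49))))))))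
theorem f184455 : Led Lsl_gt (LP (LK LD1_c8 LD2_c32 LD3_c49)) = (LP (LK LD1_c4 LD2_c16 LD3_c57)) :=
  Lre_g IH (LK LD1_c8 LD2_c32 LD3_c49) (LK LD1_c4 LD2_c16 LD3_c57) Lrfl Lrfl
theorem f184434 : Led Lsl_dt (LP (LK LD1_c4 LD2_c16 LD3_c57)) = (LP (LK LD1_c8 LD2_c33 LD3_c20)) :=
  Lre_d IH (LK LD1_c4 LD2_c16 LD3_c57) (LK LD1_c8 LD2_c33 LD3_c20) Lrfl Lrfl
theorem f299459 : Led Lsl_gt (LP (LK LD1_c8 LD2_c33 LD3_c20)) = (LP (LK LD1_c5 LD2_c5 LD3_c29)) :=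
  Lgr Lrot139 (Lpe (f184434 IH) (Lpe (f184455 IH) (Lpe (f288915 IH) (Lpr_dt (K17.f288913 IH) (Lpe (f289004 IH) (Lpe (f288884 IH) (Lpe (f288885 IH) (Lpe (f288892 IH) (Lpr_ef (f299451 IH) (Lpr_dt (f167471 IH) (Lpn (LP (LK LD1_c5 LD2_c5 LD3_c29)))))))))))))
theorem f169397 : Led Lsl_et (LP (LK LD1_c2 LD2_c34 LD3_c61)) = (LP (LK LD1_c1 LD2_c14 LD3_c29)) :=
  Lre_e IH (LK LD1_c2 LD2_c34 LD3_c61) (LK LD1_c1 LD2_c14 LD3_c29) Lrfl Lrfl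
theorem f169398 : Led Lsl_gt (LP (LK LD1_c4 LD2_c16 LD3_c57)) = (LP (LK LD1_c2 LD2_c5 LD3_c44)) :=
  Lre_g IH (LK LD1_c4 LD2_c16 LD3_c57) (LK LD1_c2 LD2_c5 LD3_c44) Lrfl Lrfl
theorem f169399 : Led Lsl_dt (LP (LK LD1_c8 LD2_c33 LD3_c20)) = (LP (LK LD1_c4 LD2_c16 LD3_c57)) :=
  Lre_d IH (LK LD1_c8 LD2_c33 LD3_c20) (LK LD1_c4 LD2_c16 LD3_c57) Lrfl Lrfl
theorem f44270 : Led Lsl_et (LP (LK LD1_c2 LD2_c10 LD3_c48)) = (LP (LK LD1_c4 LD2_c27 LD3_c13)) :=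
  Lre_e IH (LK LD1_c2 LD2_c10 LD3_c48) (LK LD1_c4 LD2_c27 LD3_c13) Lrfl Lrfl
theorem f184235 : Led Lsl_gf (LP (LK LD1_c8 LD2_c33 LD3_c20)) = (LP (LK LD1_c4 LD2_c27 LD3_c13)) :=
  Lgr Lrot138 (Lpr_dt (f169399 IH) (Lpr_gt (f169398 IH) (Lpr_df (K10.f169360 IH) (Lpr_et (f169397 IH) (Lpr_gt (K9.f184104 IH) (Lpr_ef (K9.f44066 IH) (Lpr_dt (K1.f44049 IH) (Lpr_gt (K10.f44054 IH) (Lpe (K14.f44269 IH) (Lpr_et (f44270 IH) (Lpn (LP (LK LD1_c4 LD2_c27 LD3_c13)))))))))))))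
theorem f184421 : Led Lsl_ft (LP (LK LD1_c4 LD2_c27 LD3_c13)) = (LP (LK LD1_c8 LD2_c52 LD3_c8)) :=
  Lre_f IH (LK LD1_c4 LD2_c27 LD3_c13) (LK LD1_c8 LD2_c52 LD3_c8) Lrfl Lrfl
theorem f299462 : Led Lsl_at (LP (LK LD1_c8 LD2_c52 LD3_c8)) = (LP (LK LD1_c5 LD2_c5 LD3_c29)) :=
  Lgr Lrot26 (Lpe (f184421 IH) (Lpe (f184235 IH) (Lpr_gt (f299459 IH) (Lpn (LP (LK LD1_c5 LD2_c5 LD3_c29))))))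
theorem f299472 : Led Lsl_af (LP (LK LD1_c4 LD2_c27 LD3_c13)) = (LP (LK LD1_c2 LD2_c29 LD3_c60)) :=
  Lgr Lrot45 (Lpr_ft (f184421 IH) (Lpr_at (f299462 IH) (Lpr_ft (f167479 IH) (Lpn (LP (LK LD1_c2 LD2_c29 LD3_c60))))))
theorem f230449 : Led Lsl_et (LP (LK LD1_c4 LD2_c27 LD3_c13)) = (LP (LK LD1_c2 LD2_c10 LD3_c48)) :=
  Lre_e IH (LK LD1_c4 LD2_c27 LD3_c13) (LK LD1_c2 LD2_c10 LD3_c48) Lrfl Lrfl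
theorem f299480 : Led Lsl_at (LP (LK LD1_c2 LD2_c10 LD3_c48)) = (LP (LK LD1_c1 LD2_c11 LD3_c61)) :=
  Lgr Lrot80 (Lpe (f230449 IH) (Lpr_af (f299472 IH) (Lpe (f165199 IH) (Lpn (LP (LK LD1_c1 LD2_c11 LD3_c61))))))
theorem f299482 : Led Lsl_af (LP (LK LD1_c4 LD2_c27 LD3_c12)) = (LP (LK LD1_c2 LD2_c29 LD3_c59)) :=
  Lgr Lrot68 (Lpr_ct (K15.f182210 IH) (Lpr_at (f299480 IH) (Lpr_ct (K14.f186728 IH) (Lpn (LP (LK LD1_c2 LD2_c29 LD3_c59))))))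
theorem f299491 : Led Lsl_ft (LP (LK LD1_c2 LD2_c33 LD3_c26)) = (LP (LK LD1_c2 LD2_c29 LD3_c59)) :=
  Lgr Lrot2 (Lpr_gt (K15.f185417 IH) (Lpe (K15.f265861 IH) (Lpr_af (f299482 IH) (Lpn (LP (LK LD1_c2 LD2_c29 LD3_c59))))))
theorem f299498 : Led Lsl_ff (LP (LK LD1_c2 LD2_c33 LD3_c26)) = (LP (LK LD1_c2 LD2_c29 LD3_c59)) :=
  Lgr Lrot3 (Lpr_ft (f299491 IH) (Lpn (LP (LK LD1_c2 LD2_c29 LD3_c59))))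
theorem f183833 : Led Lsl_ct (LP (LK LD1_c4 LD2_c27 LD3_c22)) = (LP (LK LD1_c2 LD2_c10 LD3_c53)) :=
  Lre_c IH (LK LD1_c4 LD2_c27 LD3_c22) (LK LD1_c2 LD2_c10 LD3_c53) Lrfl Lrfl
theorem f274841 : Led Lsl_gf (LP (LK LD1_c4 LD2_c27 LD3_c22)) = (LP (LK LD1_c5 LD2_c5 LD3_c22)) :=
  Lgr Lrot104 (Lpr_ct (f183833 IH) (Lpe (K15.f44626 IH) (Lpr_cf (K9.f183826 IH) (Lpe (K9.f50628 IH) (Lpr_cf (K12.f51049 IH) (Lpe (K10.f51292 IH) (Lpe (K13.f44464 IH) (Lpr_gt (K16.f44457 IH) (Lpr_ct (K16.f274835 IH) (Lpn (LP (LK LD1_c5 LD2_c5 LD3_c22))))))))))))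
theorem f299505 : Led Lsl_at (LP (LK LD1_c2 LD2_c33 LD3_c26)) = (LP (LK LD1_c4 LD2_c27 LD3_c22)) :=
  Lgr Lrot26 (Lpr_ff (f299498 IH) (Lpr_gt (K16.f230830 IH) (Lpe (f274841 IH) (Lpn (LP (LK LD1_c4 LD2_c27 LD3_c22))))))
theorem f299484 : Led Lsl_at (LP (LK LD1_c4 LD2_c27 LD3_c12)) = (LP (LK LD1_c2 LD2_c29 LD3_c59)) :=
  Lgr Lrot100 (Lpr_af (f299482 IH) (Lpn (LP (LK LD1_c2 LD2_c29 LD3_c59))))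
theorem f299511 : Led Lsl_ff (LP (LK LD1_c4 LD2_c27 LD3_c12)) = (LP (LK LD1_c4 LD2_c27 LD3_c22)) :=
  Lgr Lrot30 (Lpr_at (f299484 IH) (Lpe (f299498 IH) (Lpr_at (f299505 IH) (Lpn (LP (LK LD1_c4 LD2_c27 LD3_c22))))))
theorem f299516 : Led Lsl_ft (LP (LK LD1_c4 LD2_c27 LD3_c12)) = (LP (LK LD1_c4 LD2_c27 LD3_c22)) :=
  Lgr Lrot48 (Lpr_ff (f299511 IH) (Lpn (LP (LK LD1_c4 LD2_c27 LD3_c22))))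
theorem f230446 : Led Lsl_bt (LP (LK LD1_c8 LD2_c52 LD3_c5)) = (LP (LK LD1_c4 LD2_c27 LD3_c12)) :=
  Lre_b IH (LK LD1_c8 LD2_c52 LD3_c5) (LK LD1_c4 LD2_c27 LD3_c12) Lrfl Lrfl
theorem f183843 : Led Lsl_bt (LP (LK LD1_c4 LD2_c27 LD3_c22)) = (LP (LK LD1_c8 LD2_c52 LD3_c29)) :=
  Lre_b IH (LK LD1_c4 LD2_c27 LD3_c22) (LK LD1_c8 LD2_c52 LD3_c29) Lrfl Lrfl
theorem f299518 : Led Lsl_ff (LP (LK LD1_c8 LD2_c52 LD3_c5)) = (LP (LK LD1_c8 LD2_c52 LD3_c29)) :=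
  Lgr Lrot25 (Lpr_bt (f230446 IH) (Lpr_ft (f299516 IH) (Lpr_bt (f183843 IH) (Lpn (LP (LK LD1_c8 LD2_c52 LD3_c29))))))
theorem f230450 : Led Lsl_bf (LP (LK LD1_c4 LD2_c27 LD3_c13)) = (LP (LK LD1_c2 LD2_c36 LD3_c20)) :=
  Lgr Lrot96 (Lpr_et (f230449 IH) (Lpr_bt (K14.f230437 IH) (Lpr_et (K9.f44076 IH) (Lpn (LP (LK LD1_c2 LD2_c36 LD3_c20))))))
theorem f184427 : Led Lsl_ct (LP (LK LD1_c4 LD2_c27 LD3_c13)) = (LP (LK LD1_c8 LD2_c52 LD3_c7)) :=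
  Lre_c IH (LK LD1_c4 LD2_c27 LD3_c13) (LK LD1_c8 LD2_c52 LD3_c7) Lrfl Lrfl
theorem f184432 : Led Lsl_bt (LP (LK LD1_c8 LD2_c52 LD3_c7)) = (LP (LK LD1_c16 LD2_c34 LD3_c51)) :=
  Lre_b IH (LK LD1_c8 LD2_c52 LD3_c7) (LK LD1_c16 LD2_c34 LD3_c51) Lrfl Lrfl
theorem f182231 : Led Lsl_ct (LP (LK LD1_c5 LD2_c19 LD3_c17)) = (LP (LK LD1_c2 LD2_c36 LD3_c20)) :=
  Lre_c IH (LK LD1_c5 LD2_c19 LD3_c17) (LK LD1_c2 LD2_c36 LD3_c20) Lrfl Lrfl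
theorem f182243 : Led Lsl_bt (LP (LK LD1_c10 LD2_c28 LD3_c18)) = (LP (LK LD1_c5 LD2_c19 LD3_c17)) :=
  Lre_b IH (LK LD1_c10 LD2_c28 LD3_c18) (LK LD1_c5 LD2_c19 LD3_c17) Lrfl Lrfl
theorem f230454 : Led Lsl_ct (LP (LK LD1_c16 LD2_c34 LD3_c51)) = (LP (LK LD1_c10 LD2_c28 LD3_c18)) :=
  Lgr Lrot83 (Lpe (f184432 IH) (Lpe (f184427 IH) (Lpr_bf (f230450 IH) (Lpe (f182231 IH) (Lpe (f182243 IH) (Lpn (LP (LK LD1_c10 LD2_c28 LD3_c18))))))))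
theorem f230475 : Led Lsl_cf (LP (LK LD1_c16 LD2_c34 LD3_c51)) = (LP (LK LD1_c10 LD2_c28 LD3_c18)) :=
  Lgr Lrot11 (Lpr_ct (f230454 IH) (Lpn (LP (LK LD1_c10 LD2_c28 LD3_c18))))
theorem f230495 : Led Lsl_et (LP (LK LD1_c16 LD2_c34 LD3_c51)) = (LP (LK LD1_c8 LD2_c52 LD3_c5)) :=
  Lre_e IH (LK LD1_c16 LD2_c34 LD3_c51) (LK LD1_c8 LD2_c52 LD3_c5) Lrfl Lrfl
theorem f230496 : Led Lsl_et (LP (LK LD1_c5 LD2_c19 LD3_c15)) = (LP (LK LD1_c10 LD2_c28 LD3_c18)) :=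
  Lre_e IH (LK LD1_c5 LD2_c19 LD3_c15) (LK LD1_c10 LD2_c28 LD3_c18) Lrfl Lrfl
theorem f230497 : Led Lsl_ct (LP (LK LD1_c8 LD2_c52 LD3_c5)) = (LP (LK LD1_c5 LD2_c19 LD3_c15)) :=
  Lgr Lrot15 (Lpe (f230495 IH) (Lpr_cf (f230475 IH) (Lpe (f230496 IH) (Lpn (LP (LK LD1_c5 LD2_c19 LD3_c15))))))
theorem f249275 : Led Lsl_bt (LP (LK LD1_c8 LD2_c52 LD3_c29)) = (LP (LK LD1_c4 LD2_c27 LD3_c22)) :=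
  Lre_b IH (LK LD1_c8 LD2_c52 LD3_c29) (LK LD1_c4 LD2_c27 LD3_c22) Lrfl Lrfl
theorem f249209 : Led Lsl_bt (LP (LK LD1_c2 LD2_c36 LD3_c34)) = (LP (LK LD1_c5 LD2_c19 LD3_c48)) :=
  Lre_b IH (LK LD1_c2 LD2_c36 LD3_c34) (LK LD1_c5 LD2_c19 LD3_c48) Lrfl Lrfl
theorem f249276 : Led Lsl_cf (LP (LK LD1_c8 LD2_c52 LD3_c29)) = (LP (LK LD1_c5 LD2_c19 LD3_c48)) :=
  Lgr Lrot97 (Lpr_bt (f249275 IH) (Lpr_ct (f183833 IH) (Lpr_bt (K16.f249270 IH) (Lpr_ct (K16.f230546 IH) (Lpr_bt (f249209 IH) (Lpn (LP (LK LD1_c5 LD2_c19 LD3_c48))))))))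
theorem f299523 : Led Lsl_ft (LP (LK LD1_c5 LD2_c19 LD3_c15)) = (LP (LK LD1_c5 LD2_c19 LD3_c48)) :=
  Lgr Lrot4 (Lpe (f230497 IH) (Lpr_ff (f299518 IH) (Lpr_cf (f249276 IH) (Lpn (LP (LK LD1_c5 LD2_c19 LD3_c48))))))
theorem f299533 : Led Lsl_ff (LP (LK LD1_c5 LD2_c19 LD3_c15)) = (LP (LK LD1_c5 LD2_c19 LD3_c48)) :=
  Lgr Lrot3 (Lpr_ft (f299523 IH) (Lpn (LP (LK LD1_c5 LD2_c19 LD3_c48))))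
theorem f230512 : Led Lsl_dt (LP (LK LD1_c5 LD2_c19 LD3_c15)) = (LP (LK LD1_c10 LD2_c28 LD3_c17)) :=
  Lre_d IH (LK LD1_c5 LD2_c19 LD3_c15) (LK LD1_c10 LD2_c28 LD3_c17) Lrfl Lrfl
theorem f249284 : Led Lsl_dt (LP (LK LD1_c10 LD2_c29 LD3_c28)) = (LP (LK LD1_c5 LD2_c19 LD3_c48)) :=
  Lre_d IH (LK LD1_c10 LD2_c29 LD3_c28) (LK LD1_c5 LD2_c19 LD3_c48) Lrfl Lrfl
theorem f299542 : Led Lsl_ft (LP (LK LD1_c10 LD2_c28 LD3_c17)) = (LP (LK LD1_c10 LD2_c29 LD3_c28)) :=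
  Lgr Lrot54 (Lpe (f230512 IH) (Lpr_ff (f299533 IH) (Lpe (f249284 IH) (Lpn (LP (LK LD1_c10 LD2_c29 LD3_c28))))))
theorem f248181 : Led Lsl_bt (LP (LK LD1_c5 LD2_c19 LD3_c16)) = (LP (LK LD1_c10 LD2_c28 LD3_c17)) :=
  Lre_b IH (LK LD1_c5 LD2_c19 LD3_c16) (LK LD1_c10 LD2_c28 LD3_c17) Lrfl Lrfl
theorem f249342 : Led Lsl_bt (LP (LK LD1_c10 LD2_c29 LD3_c28)) = (LP (LK LD1_c5 LD2_c19 LD3_c49)) :=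
  Lre_b IH (LK LD1_c10 LD2_c29 LD3_c28) (LK LD1_c5 LD2_c19 LD3_c49) Lrfl Lrfl
theorem f299551 : Led Lsl_ff (LP (LK LD1_c5 LD2_c19 LD3_c16)) = (LP (LK LD1_c5 LD2_c19 LD3_c49)) :=
  Lgr Lrot25 (Lpr_bt (f248181 IH) (Lpr_ft (f299542 IH) (Lpr_bt (f249342 IH) (Lpn (LP (LK LD1_c5 LD2_c19 LD3_c49))))))
theorem f299566 : Led Lsl_at (LP (LK LD1_c5 LD2_c19 LD3_c16)) = (LP (LK LD1_c5 LD2_c12 LD3_c4)) :=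
  Lgr Lrot26 (Lpr_ff (f299551 IH) (Lpe (K14.f249340 IH) (Lpe (K14.f249105 IH) (Lpn (LP (LK LD1_c5 LD2_c12 LD3_c4))))))
theorem f183991 : Led Lsl_et (LP (LK LD1_c10 LD2_c28 LD3_c19)) = (LP (LK LD1_c5 LD2_c19 LD3_c16)) :=
  Lre_e IH (LK LD1_c10 LD2_c28 LD3_c19) (LK LD1_c5 LD2_c19 LD3_c16) Lrfl Lrfl
theorem f249382 : Led Lsl_et (LP (LK LD1_c5 LD2_c12 LD3_c4)) = (LP (LK LD1_c10 LD2_c14 LD3_c58)) :=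
  Lre_e IH (LK LD1_c5 LD2_c12 LD3_c4) (LK LD1_c10 LD2_c14 LD3_c58) Lrfl Lrfl
theorem f299574 : Led Lsl_af (LP (LK LD1_c10 LD2_c28 LD3_c19)) = (LP (LK LD1_c10 LD2_c14 LD3_c58)) :=
  Lgr Lrot50 (Lpr_et (f183991 IH) (Lpr_at (f299566 IH) (Lpr_et (f249382 IH) (Lpn (LP (LK LD1_c10 LD2_c14 LD3_c58))))))
theorem f248248 : Led Lsl_ft (LP (LK LD1_c10 LD2_c28 LD3_c19)) = (LP (LK LD1_c18 LD2_c58 LD3_c47)) :=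
  Lre_f IH (LK LD1_c10 LD2_c28 LD3_c19) (LK LD1_c18 LD2_c58 LD3_c47) Lrfl Lrfl
theorem f249391 : Led Lsl_ft (LP (LK LD1_c18 LD2_c38 LD3_c55)) = (LP (LK LD1_c10 LD2_c14 LD3_c58)) :=
  Lre_f IH (LK LD1_c18 LD2_c38 LD3_c55) (LK LD1_c10 LD2_c14 LD3_c58) Lrfl Lrfl
theorem f299583 : Led Lsl_at (LP (LK LD1_c18 LD2_c58 LD3_c47)) = (LP (LK LD1_c18 LD2_c38 LD3_c55)) :=
  Lgr Lrot66 (Lpe (f248248 IH) (Lpr_af (f299574 IH) (Lpe (f249391 IH) (Lpn (LP (LK LD1_c18 LD2_c38 LD3_c55))))))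
theorem f248173 : Led Lsl_et (LP (LK LD1_c5 LD2_c10 LD3_c10)) = (LP (LK LD1_c10 LD2_c11 LD3_c5)) :=
  Lre_e IH (LK LD1_c5 LD2_c10 LD3_c10) (LK LD1_c10 LD2_c11 LD3_c5) Lrfl Lrfl
theorem f248174 : Led Lsl_cf (LP (LK LD1_c10 LD2_c28 LD3_c19)) = (LP (LK LD1_c10 LD2_c11 LD3_c5)) :=
  Lgr Lrot39 (Lpr_et (f183991 IH) (Lpr_ct (K14.f248106 IH) (Lpr_et (f248173 IH) (Lpn (LP (LK LD1_c10 LD2_c11 LD3_c5))))))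
theorem f248249 : Led Lsl_ft (LP (LK LD1_c18 LD2_c33 LD3_c17)) = (LP (LK LD1_c10 LD2_c11 LD3_c5)) :=
  Lre_f IH (LK LD1_c18 LD2_c33 LD3_c17) (LK LD1_c10 LD2_c11 LD3_c5) Lrfl Lrfl
theorem f248250 : Led Lsl_ct (LP (LK LD1_c18 LD2_c58 LD3_c47)) = (LP (LK LD1_c18 LD2_c33 LD3_c17)) :=
  Lgr Lrot40 (Lpe (f248248 IH) (Lpr_cf (f248174 IH) (Lpe (f248249 IH) (Lpn (LP (LK LD1_c18 LD2_c33 LD3_c17))))))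
theorem f248263 : Led Lsl_cf (LP (LK LD1_c18 LD2_c58 LD3_c47)) = (LP (LK LD1_c18 LD2_c33 LD3_c17)) :=
  Lgr Lrot11 (Lpr_ct (f248250 IH) (Lpn (LP (LK LD1_c18 LD2_c33 LD3_c17))))
theorem f233458 : Led Lsl_et (LP (LK LD1_c17 LD2_c47 LD3_c4)) = (LP (LK LD1_c9 LD2_c40 LD3_c8)) :=
  Lre_e IH (LK LD1_c17 LD2_c47 LD3_c4) (LK LD1_c9 LD2_c40 LD3_c8) Lrfl Lrfl
theorem f249383 : Led Lsl_ct (LP (LK LD1_c10 LD2_c14 LD3_c58)) = (LP (LK LD1_c17 LD2_c47 LD3_c4)) :=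
  Lgr Lrot15 (Lpe (f249382 IH) (Lpr_cf (K14.f249368 IH) (Lpe (f233458 IH) (Lpn (LP (LK LD1_c17 LD2_c47 LD3_c4))))))
theorem f249392 : Led Lsl_ft (LP (LK LD1_c17 LD2_c47 LD3_c4)) = (LP (LK LD1_c27 LD2_c33 LD3_c58)) :=
  Lre_f IH (LK LD1_c17 LD2_c47 LD3_c4) (LK LD1_c27 LD2_c33 LD3_c58) Lrfl Lrfl
theorem f249393 : Led Lsl_cf (LP (LK LD1_c18 LD2_c38 LD3_c55)) = (LP (LK LD1_c27 LD2_c33 LD3_c58)) :=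
  Lgr Lrot108 (Lpr_ft (f249391 IH) (Lpr_ct (f249383 IH) (Lpr_ft (f249392 IH) (Lpn (LP (LK LD1_c27 LD2_c33 LD3_c58))))))
theorem f249403 : Led Lsl_ct (LP (LK LD1_c18 LD2_c38 LD3_c55)) = (LP (LK LD1_c27 LD2_c33 LD3_c58)) :=
  Lgr Lrot59 (Lpr_cf (f249393 IH) (Lpn (LP (LK LD1_c27 LD2_c33 LD3_c58))))
theorem f299589 : Led Lsl_af (LP (LK LD1_c18 LD2_c33 LD3_c17)) = (LP (LK LD1_c27 LD2_c33 LD3_c58)) :=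
  Lgr Lrot68 (Lpe (f248263 IH) (Lpr_at (f299583 IH) (Lpr_ct (f249403 IH) (Lpn (LP (LK LD1_c27 LD2_c33 LD3_c58))))))
theorem f299593 : Led Lsl_at (LP (LK LD1_c18 LD2_c33 LD3_c17)) = (LP (LK LD1_c27 LD2_c33 LD3_c58)) :=
  Lgr Lrot100 (Lpr_af (f299589 IH) (Lpn (LP (LK LD1_c27 LD2_c33 LD3_c58))))
theorem f248268 : Led Lsl_ft (LP (LK LD1_c10 LD2_c11 LD3_c5)) = (LP (LK LD1_c18 LD2_c33 LD3_c17)) :=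
  Lre_f IH (LK LD1_c10 LD2_c11 LD3_c5) (LK LD1_c18 LD2_c33 LD3_c17) Lrfl Lrfl
theorem f249409 : Led Lsl_ft (LP (LK LD1_c27 LD2_c33 LD3_c58)) = (LP (LK LD1_c17 LD2_c47 LD3_c4)) :=
  Lre_f IH (LK LD1_c27 LD2_c33 LD3_c58) (LK LD1_c17 LD2_c47 LD3_c4) Lrfl Lrfl
theorem f299597 : Led Lsl_af (LP (LK LD1_c10 LD2_c11 LD3_c5)) = (LP (LK LD1_c17 LD2_c47 LD3_c4)) :=
  Lgr Lrot45 (Lpr_ft (f248268 IH) (Lpr_at (f299593 IH) (Lpr_ft (f249409 IH) (Lpn (LP (LK LD1_c17 LD2_c47 LD3_c4))))))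
theorem f248273 : Led Lsl_et (LP (LK LD1_c10 LD2_c11 LD3_c5)) = (LP (LK LD1_c5 LD2_c10 LD3_c10)) :=
  Lre_e IH (LK LD1_c10 LD2_c11 LD3_c5) (LK LD1_c5 LD2_c10 LD3_c10) Lrfl Lrfl
theorem f249412 : Led Lsl_et (LP (LK LD1_c9 LD2_c40 LD3_c8)) = (LP (LK LD1_c17 LD2_c47 LD3_c4)) :=
  Lre_e IH (LK LD1_c9 LD2_c40 LD3_c8) (LK LD1_c17 LD2_c47 LD3_c4) Lrfl Lrfl
theorem f299606 : Led Lsl_at (LP (LK LD1_c5 LD2_c10 LD3_c10)) = (LP (LK LD1_c9 LD2_c40 LD3_c8)) :=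
  Lgr Lrot80 (Lpe (f248273 IH) (Lpr_af (f299597 IH) (Lpe (f249412 IH) (Lpn (LP (LK LD1_c9 LD2_c40 LD3_c8))))))
theorem f299614 : Led Lsl_ff (LP (LK LD1_c5 LD2_c10 LD3_c10)) = (LP (LK LD1_c5 LD2_c2 LD3_c12)) :=
  Lgr Lrot52 (Lpr_at (f299606 IH) (Lpe (K14.f233447 IH) (Lpe (K14.f249424 IH) (Lpn (LP (LK LD1_c5 LD2_c2 LD3_c12))))))
theorem f249420 : Led Lsl_et (LP (LK LD1_c9 LD2_c55 LD3_c12)) = (LP (LK LD1_c5 LD2_c2 LD3_c12)) :=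
  Lre_e IH (LK LD1_c9 LD2_c55 LD3_c12) (LK LD1_c5 LD2_c2 LD3_c12) Lrfl Lrfl
theorem f249460 : Led Lsl_ft (LP (LK LD1_c18 LD2_c9 LD3_c40)) = (LP (LK LD1_c9 LD2_c55 LD3_c12)) :=
  Lre_f IH (LK LD1_c18 LD2_c9 LD3_c40) (LK LD1_c9 LD2_c55 LD3_c12) Lrfl Lrfl
theorem f299620 : Led Lsl_et (LP (LK LD1_c18 LD2_c33 LD3_c17)) = (LP (LK LD1_c18 LD2_c9 LD3_c40)) :=
  Lgr Lrot69 (Lpe (f248268 IH) (Lpe (f248173 IH) (Lpr_ff (f299614 IH) (Lpe (f249420 IH) (Lpe (f249460 IH) (Lpn (LP (LK LD1_c18 LD2_c9 LD3_c40))))))))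
theorem f299625 : Led Lsl_ef (LP (LK LD1_c18 LD2_c33 LD3_c17)) = (LP (LK LD1_c18 LD2_c9 LD3_c40)) :=
  Lgr Lrot88 (Lpr_et (f299620 IH) (Lpn (LP (LK LD1_c18 LD2_c9 LD3_c40))))
theorem f248262 : Led Lsl_bt (LP (LK LD1_c18 LD2_c33 LD3_c17)) = (LP (LK LD1_c28 LD2_c7 LD3_c36)) :=
  Lre_b IH (LK LD1_c18 LD2_c33 LD3_c17) (LK LD1_c28 LD2_c7 LD3_c36) Lrfl Lrfl
theorem f299627 : Led Lsl_bt (LP (LK LD1_c27 LD2_c50 LD3_c1)) = (LP (LK LD1_c18 LD2_c9 LD3_c40)) :=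
  Lre_b IH (LK LD1_c27 LD2_c50 LD3_c1) (LK LD1_c18 LD2_c9 LD3_c40) Lrfl Lrfl
theorem f299628 : Led Lsl_et (LP (LK LD1_c28 LD2_c7 LD3_c36)) = (LP (LK LD1_c27 LD2_c50 LD3_c1)) :=
  Lgr Lrot74 (Lpe (f248262 IH) (Lpr_ef (f299625 IH) (Lpe (f299627 IH) (Lpn (LP (LK LD1_c27 LD2_c50 LD3_c1))))))
theorem f299630 : Led Lsl_ft (LP (LK LD1_c18 LD2_c33 LD3_c10)) = (LP (LK LD1_c28 LD2_c7 LD3_c36)) :=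
  Lre_f IH (LK LD1_c18 LD2_c33 LD3_c10) (LK LD1_c28 LD2_c7 LD3_c36) Lrfl Lrfl
theorem f299631 : Led Lsl_et (LP (LK LD1_c10 LD2_c11 LD3_c3)) = (LP (LK LD1_c18 LD2_c33 LD3_c10)) :=
  Lre_e IH (LK LD1_c10 LD2_c11 LD3_c3) (LK LD1_c18 LD2_c33 LD3_c10) Lrfl Lrfl
theorem f299632 : Led Lsl_ft (LP (LK LD1_c27 LD2_c50 LD3_c1)) = (LP (LK LD1_c18 LD2_c9 LD3_c33)) :=
  Lre_f IH (LK LD1_c27 LD2_c50 LD3_c1) (LK LD1_c18 LD2_c9 LD3_c33) Lrfl Lrfl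
theorem f299633 : Led Lsl_et (LP (LK LD1_c18 LD2_c9 LD3_c33)) = (LP (LK LD1_c9 LD2_c55 LD3_c10)) :=
  Lre_e IH (LK LD1_c18 LD2_c9 LD3_c33) (LK LD1_c9 LD2_c55 LD3_c10) Lrfl Lrfl
theorem f299634 : Led Lsl_ff (LP (LK LD1_c10 LD2_c11 LD3_c3)) = (LP (LK LD1_c9 LD2_c55 LD3_c10)) :=
  Lgr Lrot72 (Lpr_et (f299631 IH) (Lpr_ft (f299630 IH) (Lpr_et (f299628 IH) (Lpr_ft (f299632 IH) (Lpr_et (f299633 IH) (Lpn (LP (LK LD1_c9 LD2_c55 LD3_c10))))))))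
theorem f249986 : Led Lsl_dt (LP (LK LD1_c10 LD2_c11 LD3_c3)) = (LP (LK LD1_c5 LD2_c10 LD3_c9)) :=
  Lre_d IH (LK LD1_c10 LD2_c11 LD3_c3) (LK LD1_c5 LD2_c10 LD3_c9) Lrfl Lrfl
theorem f249467 : Led Lsl_dt (LP (LK LD1_c5 LD2_c2 LD3_c11)) = (LP (LK LD1_c9 LD2_c55 LD3_c10)) :=
  Lre_d IH (LK LD1_c5 LD2_c2 LD3_c11) (LK LD1_c9 LD2_c55 LD3_c10) Lrfl Lrfl
theorem f299640 : Led Lsl_ft (LP (LK LD1_c5 LD2_c10 LD3_c9)) = (LP (LK LD1_c5 LD2_c2 LD3_c11)) :=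
  Lgr Lrot54 (Lpe (f249986 IH) (Lpr_ff (f299634 IH) (Lpe (f249467 IH) (Lpn (LP (LK LD1_c5 LD2_c2 LD3_c11))))))
theorem f189718 : Led Lsl_bt (LP (LK LD1_c2 LD2_c32 LD3_c8)) = (LP (LK LD1_c5 LD2_c10 LD3_c9)) :=
  Lre_b IH (LK LD1_c2 LD2_c32 LD3_c8) (LK LD1_c5 LD2_c10 LD3_c9) Lrfl Lrfl
theorem f165339 : Led Lsl_bt (LP (LK LD1_c5 LD2_c2 LD3_c11)) = (LP (LK LD1_c2 LD2_c28 LD3_c42)) :=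
  Lre_b IH (LK LD1_c5 LD2_c2 LD3_c11) (LK LD1_c2 LD2_c28 LD3_c42) Lrfl Lrfl
theorem f299658 : Led Lsl_ff (LP (LK LD1_c2 LD2_c32 LD3_c8)) = (LP (LK LD1_c2 LD2_c28 LD3_c42)) :=
  Lgr Lrot25 (Lpr_bt (f189718 IH) (Lpr_ft (f299640 IH) (Lpr_bt (f165339 IH) (Lpn (LP (LK LD1_c2 LD2_c28 LD3_c42))))))
theorem f248284 : Led Lsl_et (LP (LK LD1_c2 LD2_c32 LD3_c8)) = (LP (LK LD1_c5 LD2_c10 LD3_c11)) :=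
  Lre_e IH (LK LD1_c2 LD2_c32 LD3_c8) (LK LD1_c5 LD2_c10 LD3_c11) Lrfl Lrfl
theorem f299744 : Led Lsl_ft (LP (LK LD1_c5 LD2_c10 LD3_c11)) = (LP (LK LD1_c10 LD2_c11 LD3_c8)) :=
  Lre_f IH (LK LD1_c5 LD2_c10 LD3_c11) (LK LD1_c10 LD2_c11 LD3_c8) Lrfl Lrfl
theorem f251662 : Led Lsl_et (LP (LK LD1_c5 LD2_c2 LD3_c13)) = (LP (LK LD1_c2 LD2_c28 LD3_c42)) :=
  Lre_e IH (LK LD1_c5 LD2_c2 LD3_c13) (LK LD1_c2 LD2_c28 LD3_c42) Lrfl Lrfl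
theorem f299745 : Led Lsl_et (LP (LK LD1_c10 LD2_c11 LD3_c8)) = (LP (LK LD1_c9 LD2_c55 LD3_c16)) :=
  Lgr Lrot69 (Lpe (f299744 IH) (Lpe (f248284 IH) (Lpr_ff (f299658 IH) (Lpe (f251662 IH) (Lpe (K17.f289883 IH) (Lpn (LP (LK LD1_c9 LD2_c55 LD3_c16))))))))
theorem f251659 : Led Lsl_et (LP (LK LD1_c9 LD2_c40 LD3_c9)) = (LP (LK LD1_c4 LD2_c54 LD3_c20)) :=
  Lre_e IH (LK LD1_c9 LD2_c40 LD3_c9) (LK LD1_c4 LD2_c54 LD3_c20) Lrfl Lrfl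
theorem f289914 : Led Lsl_ft (LP (LK LD1_c17 LD2_c47 LD3_c7)) = (LP (LK LD1_c9 LD2_c40 LD3_c9)) :=
  Lre_f IH (LK LD1_c17 LD2_c47 LD3_c7) (LK LD1_c9 LD2_c40 LD3_c9) Lrfl Lrfl
theorem f289915 : Led Lsl_ef (LP (LK LD1_c17 LD2_c47 LD3_c7)) = (LP (LK LD1_c17 LD2_c45 LD3_c60)) :=
  Lgr Lrot21 (Lpr_ft (f289914 IH) (Lpr_et (f251659 IH) (Lpr_ft (K17.f289906 IH) (Lpr_et (K14.f189478 IH) (Lpr_ft (K17.f289884 IH) (Lpn (LP (LK LD1_c17 LD2_c45 LD3_c60))))))))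
theorem f299747 : Led Lsl_af (LP (LK LD1_c10 LD2_c11 LD3_c8)) = (LP (LK LD1_c17 LD2_c47 LD3_c7)) :=
  Lgr Lrot50 (Lpr_et (f299745 IH) (Lpr_at (K17.f289864 IH) (Lpe (f289915 IH) (Lpn (LP (LK LD1_c17 LD2_c47 LD3_c7))))))
theorem f299754 : Led Lsl_ft (LP (LK LD1_c10 LD2_c11 LD3_c8)) = (LP (LK LD1_c5 LD2_c10 LD3_c11)) :=
  Lre_f IH (LK LD1_c10 LD2_c11 LD3_c8) (LK LD1_c5 LD2_c10 LD3_c11) Lrfl Lrfl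
theorem f299762 : Led Lsl_at (LP (LK LD1_c5 LD2_c10 LD3_c11)) = (LP (LK LD1_c9 LD2_c40 LD3_c9)) :=
  Lgr Lrot66 (Lpe (f299754 IH) (Lpr_af (f299747 IH) (Lpe (K17.f289923 IH) (Lpn (LP (LK LD1_c9 LD2_c40 LD3_c9))))))
theorem f288446 : Led Lsl_bt (LP (LK LD1_c10 LD2_c11 LD3_c4)) = (LP (LK LD1_c5 LD2_c10 LD3_c11)) :=
  Lre_b IH (LK LD1_c10 LD2_c11 LD3_c4) (LK LD1_c5 LD2_c10 LD3_c11) Lrfl Lrfl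
theorem f299769 : Led Lsl_at (LP (LK LD1_c18 LD2_c33 LD3_c7)) = (LP (LK LD1_c10 LD2_c11 LD3_c4)) :=
  Lre_a IH (LK LD1_c18 LD2_c33 LD3_c7) (LK LD1_c10 LD2_c11 LD3_c4) Lrfl Lrfl
theorem f250469 : Led Lsl_bt (LP (LK LD1_c9 LD2_c40 LD3_c9)) = (LP (LK LD1_c17 LD2_c47 LD3_c3)) :=
  Lre_b IH (LK LD1_c9 LD2_c40 LD3_c9) (LK LD1_c17 LD2_c47 LD3_c3) Lrfl Lrfl
theorem f299770 : Led Lsl_at (LP (LK LD1_c17 LD2_c47 LD3_c3)) = (LP (LK LD1_c27 LD2_c33 LD3_c51)) :=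
  Lre_a IH (LK LD1_c17 LD2_c47 LD3_c3) (LK LD1_c27 LD2_c33 LD3_c51) Lrfl Lrfl
theorem f299771 : Led Lsl_bf (LP (LK LD1_c18 LD2_c33 LD3_c7)) = (LP (LK LD1_c27 LD2_c33 LD3_c51)) :=
  Lgr Lrot81 (Lpr_at (f299769 IH) (Lpr_bt (f288446 IH) (Lpr_at (f299762 IH) (Lpr_bt (f250469 IH) (Lpr_at (f299770 IH) (Lpn (LP (LK LD1_c27 LD2_c33 LD3_c51))))))))
theorem f299692 : Led Lsl_et (LP (LK LD1_c18 LD2_c33 LD3_c7)) = (LP (LK LD1_c10 LD2_c11 LD3_c2)) :=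
  Lre_e IH (LK LD1_c18 LD2_c33 LD3_c7) (LK LD1_c10 LD2_c11 LD3_c2) Lrfl Lrfl
theorem f299796 : Led Lsl_et (LP (LK LD1_c17 LD2_c47 LD3_c1)) = (LP (LK LD1_c27 LD2_c33 LD3_c51)) :=
  Lre_e IH (LK LD1_c17 LD2_c47 LD3_c1) (LK LD1_c27 LD2_c33 LD3_c51) Lrfl Lrfl
theorem f299797 : Led Lsl_bt (LP (LK LD1_c10 LD2_c11 LD3_c2)) = (LP (LK LD1_c17 LD2_c47 LD3_c1)) :=
  Lgr Lrot119 (Lpe (f299692 IH) (Lpr_bf (f299771 IH) (Lpe (f299796 IH) (Lpn (LP (LK LD1_c17 LD2_c47 LD3_c1))))))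
theorem f299649 : Led Lsl_ct (LP (LK LD1_c5 LD2_c10 LD3_c18)) = (LP (LK LD1_c10 LD2_c11 LD3_c2)) :=
  Lre_c IH (LK LD1_c5 LD2_c10 LD3_c18) (LK LD1_c10 LD2_c11 LD3_c2) Lrfl Lrfl
theorem f186735 : Led Lsl_bt (LP (LK LD1_c2 LD2_c32 LD3_c11)) = (LP (LK LD1_c1 LD2_c13 LD3_c6)) :=
  Lre_b IH (LK LD1_c2 LD2_c32 LD3_c11) (LK LD1_c1 LD2_c13 LD3_c6) Lrfl Lrfl
theorem f288264 : Led Lsl_at (LP (LK LD1_c5 LD2_c10 LD3_c18)) = (LP (LK LD1_c2 LD2_c32 LD3_c11)) :=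
  Lre_a IH (LK LD1_c5 LD2_c10 LD3_c18) (LK LD1_c2 LD2_c32 LD3_c11) Lrfl Lrfl
theorem f164127 : Led Lsl_bt (LP (LK LD1_c1 LD2_c11 LD3_c41)) = (LP (LK LD1_c2 LD2_c29 LD3_c5)) :=
  Lre_b IH (LK LD1_c1 LD2_c11 LD3_c41) (LK LD1_c2 LD2_c29 LD3_c5) Lrfl Lrfl
theorem f288265 : Led Lsl_at (LP (LK LD1_c2 LD2_c29 LD3_c5)) = (LP (LK LD1_c5 LD2_c3 LD3_c6)) :=
  Lre_a IH (LK LD1_c2 LD2_c29 LD3_c5) (LK LD1_c5 LD2_c3 LD3_c6) Lrfl Lrfl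
theorem f288266 : Led Lsl_bf (LP (LK LD1_c5 LD2_c10 LD3_c18)) = (LP (LK LD1_c5 LD2_c3 LD3_c6)) :=
  Lgr Lrot81 (Lpr_at (f288264 IH) (Lpr_bt (f186735 IH) (Lpr_at (K17.f288260 IH) (Lpr_bt (f164127 IH) (Lpr_at (f288265 IH) (Lpn (LP (LK LD1_c5 LD2_c3 LD3_c6))))))))
theorem f299734 : Led Lsl_ct (LP (LK LD1_c9 LD2_c56 LD3_c45)) = (LP (LK LD1_c5 LD2_c3 LD3_c6)) :=
  Lre_c IH (LK LD1_c9 LD2_c56 LD3_c45) (LK LD1_c5 LD2_c3 LD3_c6) Lrfl Lrfl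
theorem f299802 : Led Lsl_bt (LP (LK LD1_c18 LD2_c11 LD3_c23)) = (LP (LK LD1_c9 LD2_c56 LD3_c45)) :=
  Lre_b IH (LK LD1_c18 LD2_c11 LD3_c23) (LK LD1_c9 LD2_c56 LD3_c45) Lrfl Lrfl
theorem f299803 : Led Lsl_cf (LP (LK LD1_c18 LD2_c11 LD3_c23)) = (LP (LK LD1_c17 LD2_c47 LD3_c1)) :=
  Lgr Lrot97 (Lpr_bt (f299802 IH) (Lpr_ct (f299734 IH) (Lpe (f288266 IH) (Lpr_ct (f299649 IH) (Lpr_bt (f299797 IH) (Lpn (LP (LK LD1_c17 LD2_c47 LD3_c1))))))))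
theorem f299814 : Led Lsl_et (LP (LK LD1_c18 LD2_c11 LD3_c23)) = (LP (LK LD1_c27 LD2_c51 LD3_c45)) :=
  Lre_e IH (LK LD1_c18 LD2_c11 LD3_c23) (LK LD1_c27 LD2_c51 LD3_c45) Lrfl Lrfl
theorem f299815 : Led Lsl_et (LP (LK LD1_c27 LD2_c33 LD3_c51)) = (LP (LK LD1_c17 LD2_c47 LD3_c1)) :=
  Lre_e IH (LK LD1_c27 LD2_c33 LD3_c51) (LK LD1_c17 LD2_c47 LD3_c1) Lrfl Lrfl
theorem f299816 : Led Lsl_ct (LP (LK LD1_c27 LD2_c51 LD3_c45)) = (LP (LK LD1_c27 LD2_c33 LD3_c51)) :=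
  Lgr Lrot15 (Lpe (f299814 IH) (Lpr_cf (f299803 IH) (Lpe (f299815 IH) (Lpn (LP (LK LD1_c27 LD2_c33 LD3_c51))))))
theorem f299827 : Led Lsl_cf (LP (LK LD1_c27 LD2_c51 LD3_c45)) = (LP (LK LD1_c27 LD2_c33 LD3_c51)) :=
  Lgr Lrot11 (Lpr_ct (f299816 IH) (Lpn (LP (LK LD1_c27 LD2_c33 LD3_c51))))
theorem f299829 : Led Lsl_bt (LP (LK LD1_c27 LD2_c51 LD3_c45)) = (LP (LK LD1_c18 LD2_c12 LD3_c8)) :=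
  Lre_b IH (LK LD1_c27 LD2_c51 LD3_c45) (LK LD1_c18 LD2_c12 LD3_c8) Lrfl Lrfl
theorem f299832 : Led Lsl_ct (LP (LK LD1_c18 LD2_c12 LD3_c8)) = (LP (LK LD1_c9 LD2_c57 LD3_c5)) :=
  Lre_c IH (LK LD1_c18 LD2_c12 LD3_c8) (LK LD1_c9 LD2_c57 LD3_c5) Lrfl Lrfl
theorem f299793 : Led Lsl_bt (LP (LK LD1_c18 LD2_c33 LD3_c7)) = (LP (LK LD1_c27 LD2_c33 LD3_c51)) :=
  Lgr Lrot127 (Lpr_bf (f299771 IH) (Lpn (LP (LK LD1_c27 LD2_c33 LD3_c51))))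
theorem f299833 : Led Lsl_ct (LP (LK LD1_c10 LD2_c11 LD3_c22)) = (LP (LK LD1_c18 LD2_c33 LD3_c7)) :=
  Lre_c IH (LK LD1_c10 LD2_c11 LD3_c22) (LK LD1_c18 LD2_c33 LD3_c7) Lrfl Lrfl
theorem f299834 : Led Lsl_bt (LP (LK LD1_c9 LD2_c57 LD3_c5)) = (LP (LK LD1_c10 LD2_c11 LD3_c22)) :=
  Lgr Lrot128 (Lpe (f299832 IH) (Lpe (f299829 IH) (Lpr_cf (f299827 IH) (Lpe (f299793 IH) (Lpe (f299833 IH) (Lpn (LP (LK LD1_c10 LD2_c11 LD3_c22))))))))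
theorem f299843 : Led Lsl_et (LP (LK LD1_c5 LD2_c3 LD3_c6)) = (LP (LK LD1_c9 LD2_c57 LD3_c5)) :=
  Lre_e IH (LK LD1_c5 LD2_c3 LD3_c6) (LK LD1_c9 LD2_c57 LD3_c5) Lrfl Lrfl
theorem f299726 : Led Lsl_et (LP (LK LD1_c10 LD2_c11 LD3_c22)) = (LP (LK LD1_c5 LD2_c10 LD3_c18)) :=
  Lre_e IH (LK LD1_c10 LD2_c11 LD3_c22) (LK LD1_c5 LD2_c10 LD3_c18) Lrfl Lrfl
theorem f299844 : Led Lsl_bf (LP (LK LD1_c5 LD2_c3 LD3_c6)) = (LP (LK LD1_c5 LD2_c10 LD3_c18)) :=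
  Lgr Lrot96 (Lpr_et (f299843 IH) (Lpr_bt (f299834 IH) (Lpr_et (f299726 IH) (Lpn (LP (LK LD1_c5 LD2_c10 LD3_c18))))))
theorem f299663 : Led Lsl_ff (LP (LK LD1_c5 LD2_c10 LD3_c9)) = (LP (LK LD1_c5 LD2_c2 LD3_c11)) :=
  Lgr Lrot3 (Lpr_ft (f299640 IH) (Lpn (LP (LK LD1_c5 LD2_c2 LD3_c11))))
theorem f299676 : Led Lsl_at (LP (LK LD1_c5 LD2_c10 LD3_c9)) = (LP (LK LD1_c10 LD2_c11 LD3_c2)) :=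
  Lre_a IH (LK LD1_c5 LD2_c10 LD3_c9) (LK LD1_c10 LD2_c11 LD3_c2) Lrfl Lrfl
theorem f299677 : Led Lsl_at (LP (LK LD1_c9 LD2_c55 LD3_c9)) = (LP (LK LD1_c5 LD2_c2 LD3_c11)) :=
  Lre_a IH (LK LD1_c9 LD2_c55 LD3_c9) (LK LD1_c5 LD2_c2 LD3_c11) Lrfl Lrfl
theorem f299678 : Led Lsl_ft (LP (LK LD1_c10 LD2_c11 LD3_c2)) = (LP (LK LD1_c9 LD2_c55 LD3_c9)) :=
  Lgr Lrot101 (Lpe (f299676 IH) (Lpr_ff (f299663 IH) (Lpe (f299677 IH) (Lpn (LP (LK LD1_c9 LD2_c55 LD3_c9))))))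
theorem f299670 : Led Lsl_ct (LP (LK LD1_c9 LD2_c55 LD3_c9)) = (LP (LK LD1_c5 LD2_c2 LD3_c35)) :=
  Lre_c IH (LK LD1_c9 LD2_c55 LD3_c9) (LK LD1_c5 LD2_c2 LD3_c35) Lrfl Lrfl
theorem f299693 : Led Lsl_ff (LP (LK LD1_c5 LD2_c10 LD3_c18)) = (LP (LK LD1_c5 LD2_c2 LD3_c35)) :=
  Lgr Lrot23 (Lpr_ct (f299649 IH) (Lpr_ft (f299678 IH) (Lpr_ct (f299670 IH) (Lpn (LP (LK LD1_c5 LD2_c2 LD3_c35))))))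
theorem f182430 : Led Lsl_bt (LP (LK LD1_c1 LD2_c13 LD3_c2)) = (LP (LK LD1_c2 LD2_c32 LD3_c0)) :=
  Lre_b IH (LK LD1_c1 LD2_c13 LD3_c2) (LK LD1_c2 LD2_c32 LD3_c0) Lrfl Lrfl
theorem f288232 : Led Lsl_at (LP (LK LD1_c2 LD2_c32 LD3_c0)) = (LP (LK LD1_c5 LD2_c9 LD3_c56)) :=
  Lre_a IH (LK LD1_c2 LD2_c32 LD3_c0) (LK LD1_c5 LD2_c9 LD3_c56) Lrfl Lrfl
theorem f288233 : Led Lsl_bt (LP (LK LD1_c2 LD2_c28 LD3_c51)) = (LP (LK LD1_c1 LD2_c11 LD3_c35)) :=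
  Lre_b IH (LK LD1_c2 LD2_c28 LD3_c51) (LK LD1_c1 LD2_c11 LD3_c35) Lrfl Lrfl
theorem f288234 : Led Lsl_at (LP (LK LD1_c5 LD2_c2 LD3_c35)) = (LP (LK LD1_c2 LD2_c28 LD3_c51)) :=
  Lre_a IH (LK LD1_c5 LD2_c2 LD3_c35) (LK LD1_c2 LD2_c28 LD3_c51) Lrfl Lrfl
theorem f288235 : Led Lsl_bt (LP (LK LD1_c5 LD2_c9 LD3_c56)) = (LP (LK LD1_c5 LD2_c2 LD3_c35)) :=
  Lgr Lrot62 (Lpe (f288232 IH) (Lpe (f182430 IH) (Lpr_af (K17.f288228 IH) (Lpe (f288233 IH) (Lpe (f288234 IH) (Lpn (LP (LK LD1_c5 LD2_c2 LD3_c35))))))))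
theorem f299851 : Led Lsl_ft (LP (LK LD1_c5 LD2_c3 LD3_c6)) = (LP (LK LD1_c5 LD2_c9 LD3_c56)) :=
  Lgr Lrot75 (Lpr_bf (f299844 IH) (Lpr_ff (f299693 IH) (Lpe (f288235 IH) (Lpn (LP (LK LD1_c5 LD2_c9 LD3_c56))))))
theorem f299862 : Led Lsl_ff (LP (LK LD1_c5 LD2_c3 LD3_c6)) = (LP (LK LD1_c5 LD2_c9 LD3_c56)) :=
  Lgr Lrot3 (Lpr_ft (f299851 IH) (Lpn (LP (LK LD1_c5 LD2_c9 LD3_c56))))
theorem f299736 : Led Lsl_ct (LP (LK LD1_c5 LD2_c3 LD3_c6)) = (LP (LK LD1_c9 LD2_c56 LD3_c45)) :=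
  Lre_c IH (LK LD1_c5 LD2_c3 LD3_c6) (LK LD1_c9 LD2_c56 LD3_c45) Lrfl Lrfl
theorem f299719 : Led Lsl_ct (LP (LK LD1_c10 LD2_c10 LD3_c3)) = (LP (LK LD1_c5 LD2_c9 LD3_c56)) :=
  Lre_c IH (LK LD1_c10 LD2_c10 LD3_c3) (LK LD1_c5 LD2_c9 LD3_c56) Lrfl Lrfl
theorem f299874 : Led Lsl_ft (LP (LK LD1_c9 LD2_c56 LD3_c45)) = (LP (LK LD1_c10 LD2_c10 LD3_c3)) :=
  Lgr Lrot4 (Lpe (f299736 IH) (Lpr_ff (f299862 IH) (Lpe (f299719 IH) (Lpn (LP (LK LD1_c10 LD2_c10 LD3_c3))))))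
theorem f299735 : Led Lsl_dt (LP (LK LD1_c18 LD2_c12 LD3_c7)) = (LP (LK LD1_c9 LD2_c56 LD3_c45)) :=
  Lre_d IH (LK LD1_c18 LD2_c12 LD3_c7) (LK LD1_c9 LD2_c56 LD3_c45) Lrfl Lrfl
theorem f299964 : Led Lsl_dt (LP (LK LD1_c10 LD2_c10 LD3_c3)) = (LP (LK LD1_c18 LD2_c31 LD3_c22)) :=
  Lre_d IH (LK LD1_c10 LD2_c10 LD3_c3) (LK LD1_c18 LD2_c31 LD3_c22) Lrfl Lrfl
theorem f299965 : Led Lsl_ff (LP (LK LD1_c18 LD2_c12 LD3_c7)) = (LP (LK LD1_c18 LD2_c31 LD3_c22)) :=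
  Lgr Lrot19 (Lpr_dt (f299735 IH) (Lpr_ft (f299874 IH) (Lpr_dt (f299964 IH) (Lpn (LP (LK LD1_c18 LD2_c31 LD3_c22))))))
theorem f299979 : Led Lsl_ft (LP (LK LD1_c18 LD2_c12 LD3_c7)) = (LP (LK LD1_c18 LD2_c31 LD3_c22)) :=
  Lgr Lrot48 (Lpr_ff (f299965 IH) (Lpn (LP (LK LD1_c18 LD2_c31 LD3_c22))))
theorem f299987 : Led Lsl_bt (LP (LK LD1_c27 LD2_c51 LD3_c44)) = (LP (LK LD1_c18 LD2_c12 LD3_c7)) :=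
  Lre_b IH (LK LD1_c27 LD2_c51 LD3_c44) (LK LD1_c18 LD2_c12 LD3_c7) Lrfl Lrfl
theorem f299988 : Led Lsl_bt (LP (LK LD1_c18 LD2_c31 LD3_c22)) = (LP (LK LD1_c28 LD2_c4 LD3_c44)) :=
  Lre_b IH (LK LD1_c18 LD2_c31 LD3_c22) (LK LD1_c28 LD2_c4 LD3_c44) Lrfl Lrfl
theorem f299989 : Led Lsl_ff (LP (LK LD1_c27 LD2_c51 LD3_c44)) = (LP (LK LD1_c28 LD2_c4 LD3_c44)) :=
  Lgr Lrot25 (Lpr_bt (f299987 IH) (Lpr_ft (f299979 IH) (Lpr_bt (f299988 IH) (Lpn (LP (LK LD1_c28 LD2_c4 LD3_c44))))))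
theorem f299819 : Led Lsl_dt (LP (LK LD1_c27 LD2_c51 LD3_c44)) = (LP (LK LD1_c18 LD2_c11 LD3_c23)) :=
  Lre_d IH (LK LD1_c27 LD2_c51 LD3_c44) (LK LD1_c18 LD2_c11 LD3_c23) Lrfl Lrfl
theorem f300000 : Led Lsl_dt (LP (LK LD1_c18 LD2_c30 LD3_c38)) = (LP (LK LD1_c28 LD2_c4 LD3_c44)) :=
  Lre_d IH (LK LD1_c18 LD2_c30 LD3_c38) (LK LD1_c28 LD2_c4 LD3_c44) Lrfl Lrfl
theorem f300001 : Led Lsl_ft (LP (LK LD1_c18 LD2_c11 LD3_c23)) = (LP (LK LD1_c18 LD2_c30 LD3_c38)) :=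
  Lgr Lrot54 (Lpe (f299819 IH) (Lpr_ff (f299989 IH) (Lpe (f300000 IH) (Lpn (LP (LK LD1_c18 LD2_c30 LD3_c38))))))
theorem f299818 : Led Lsl_at (LP (LK LD1_c9 LD2_c56 LD3_c26)) = (LP (LK LD1_c18 LD2_c11 LD3_c23)) :=
  Lre_a IH (LK LD1_c9 LD2_c56 LD3_c26) (LK LD1_c18 LD2_c11 LD3_c23) Lrfl Lrfl
theorem f300012 : Led Lsl_at (LP (LK LD1_c18 LD2_c30 LD3_c38)) = (LP (LK LD1_c10 LD2_c9 LD3_c40)) :=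
  Lre_a IH (LK LD1_c18 LD2_c30 LD3_c38) (LK LD1_c10 LD2_c9 LD3_c40) Lrfl Lrfl
theorem f300013 : Led Lsl_ff (LP (LK LD1_c9 LD2_c56 LD3_c26)) = (LP (LK LD1_c10 LD2_c9 LD3_c40)) :=
  Lgr Lrot30 (Lpr_at (f299818 IH) (Lpr_ft (f300001 IH) (Lpr_at (f300012 IH) (Lpn (LP (LK LD1_c10 LD2_c9 LD3_c40))))))
theorem f299806 : Led Lsl_at (LP (LK LD1_c18 LD2_c11 LD3_c23)) = (LP (LK LD1_c9 LD2_c56 LD3_c26)) :=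
  Lre_a IH (LK LD1_c18 LD2_c11 LD3_c23) (LK LD1_c9 LD2_c56 LD3_c26) Lrfl Lrfl
theorem f299807 : Led Lsl_at (LP (LK LD1_c9 LD2_c40 LD3_c7)) = (LP (LK LD1_c17 LD2_c47 LD3_c1)) :=
  Lre_a IH (LK LD1_c9 LD2_c40 LD3_c7) (LK LD1_c17 LD2_c47 LD3_c1) Lrfl Lrfl
theorem f299808 : Led Lsl_ct (LP (LK LD1_c9 LD2_c56 LD3_c26)) = (LP (LK LD1_c9 LD2_c40 LD3_c7)) :=
  Lgr Lrot111 (Lpe (f299806 IH) (Lpr_cf (f299803 IH) (Lpe (f299807 IH) (Lpn (LP (LK LD1_c9 LD2_c40 LD3_c7))))))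
theorem f43837 : Led Lsl_bt (LP (LK LD1_c4 LD2_c54 LD3_c20)) = (LP (LK LD1_c9 LD2_c40 LD3_c7)) :=
  Lre_b IH (LK LD1_c4 LD2_c54 LD3_c20) (LK LD1_c9 LD2_c40 LD3_c7) Lrfl Lrfl
theorem f258947 : Led Lsl_bt (LP (LK LD1_c9 LD2_c39 LD3_c35)) = (LP (LK LD1_c4 LD2_c54 LD3_c5)) :=
  Lre_b IH (LK LD1_c9 LD2_c39 LD3_c35) (LK LD1_c4 LD2_c54 LD3_c5) Lrfl Lrfl
theorem f289919 : Led Lsl_ft (LP (LK LD1_c9 LD2_c40 LD3_c7)) = (LP (LK LD1_c9 LD2_c39 LD3_c35)) :=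
  Lgr Lrot75 (Lpe (f43837 IH) (Lpr_ff (K17.f289917 IH) (Lpe (f258947 IH) (Lpn (LP (LK LD1_c9 LD2_c39 LD3_c35))))))
theorem f300018 : Led Lsl_ct (LP (LK LD1_c9 LD2_c39 LD3_c35)) = (LP (LK LD1_c10 LD2_c9 LD3_c40)) :=
  Lgr Lrot40 (Lpe (f289919 IH) (Lpe (f299808 IH) (Lpr_ff (f300013 IH) (Lpn (LP (LK LD1_c10 LD2_c9 LD3_c40))))))
theorem f289901 : Led Lsl_at (LP (LK LD1_c17 LD2_c45 LD3_c53)) = (LP (LK LD1_c9 LD2_c39 LD3_c35)) :=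
  Lre_a IH (LK LD1_c17 LD2_c45 LD3_c53) (LK LD1_c9 LD2_c39 LD3_c35) Lrfl Lrfl
theorem f300031 : Led Lsl_at (LP (LK LD1_c10 LD2_c9 LD3_c40)) = (LP (LK LD1_c18 LD2_c30 LD3_c38)) :=
  Lre_a IH (LK LD1_c10 LD2_c9 LD3_c40) (LK LD1_c18 LD2_c30 LD3_c38) Lrfl Lrfl
theorem f300058 : Led Lsl_cf (LP (LK LD1_c17 LD2_c45 LD3_c53)) = (LP (LK LD1_c18 LD2_c30 LD3_c38)) :=
  Lgr Lrot1 (Lpr_at (f289901 IH) (Lpr_ct (f300018 IH) (Lpr_at (f300031 IH) (Lpn (LP (LK LD1_c18 LD2_c30 LD3_c38))))))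
theorem f300215 : Led Lsl_ft (LP (LK LD1_c17 LD2_c45 LD3_c53)) = (LP (LK LD1_c17 LD2_c47 LD3_c1)) :=
  Lgr Lrot4 (Lpr_cf (f300058 IH) (Lpe (f300001 IH) (Lpr_cf (f299803 IH) (Lpn (LP (LK LD1_c17 LD2_c47 LD3_c1))))))
theorem f300222 : Led Lsl_ff (LP (LK LD1_c17 LD2_c45 LD3_c53)) = (LP (LK LD1_c17 LD2_c47 LD3_c1)) :=
  Lgr Lrot3 (Lpr_ft (f300215 IH) (Lpn (LP (LK LD1_c17 LD2_c47 LD3_c1))))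
theorem f300213 : Led Lsl_dt (LP (LK LD1_c17 LD2_c45 LD3_c53)) = (LP (LK LD1_c27 LD2_c32 LD3_c8)) :=
  Lre_d IH (LK LD1_c17 LD2_c45 LD3_c53) (LK LD1_c27 LD2_c32 LD3_c8) Lrfl Lrfl
theorem f299813 : Led Lsl_dt (LP (LK LD1_c27 LD2_c33 LD3_c50)) = (LP (LK LD1_c17 LD2_c47 LD3_c1)) :=
  Lre_d IH (LK LD1_c27 LD2_c33 LD3_c50) (LK LD1_c17 LD2_c47 LD3_c1) Lrfl Lrfl
theorem f300229 : Led Lsl_ft (LP (LK LD1_c27 LD2_c32 LD3_c8)) = (LP (LK LD1_c27 LD2_c33 LD3_c50)) :=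
  Lgr Lrot54 (Lpe (f300213 IH) (Lpr_ff (f300222 IH) (Lpe (f299813 IH) (Lpn (LP (LK LD1_c27 LD2_c33 LD3_c50))))))
theorem f300235 : Led Lsl_at (LP (LK LD1_c17 LD2_c45 LD3_c54)) = (LP (LK LD1_c27 LD2_c32 LD3_c8)) :=
  Lre_a IH (LK LD1_c17 LD2_c45 LD3_c54) (LK LD1_c27 LD2_c32 LD3_c8) Lrfl Lrfl
theorem f300236 : Led Lsl_at (LP (LK LD1_c27 LD2_c33 LD3_c50)) = (LP (LK LD1_c17 LD2_c47 LD3_c2)) :=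
  Lre_a IH (LK LD1_c27 LD2_c33 LD3_c50) (LK LD1_c17 LD2_c47 LD3_c2) Lrfl Lrfl
theorem f300237 : Led Lsl_ff (LP (LK LD1_c17 LD2_c45 LD3_c54)) = (LP (LK LD1_c17 LD2_c47 LD3_c2)) :=
  Lgr Lrot30 (Lpr_at (f300235 IH) (Lpr_ft (f300229 IH) (Lpr_at (f300236 IH) (Lpn (LP (LK LD1_c17 LD2_c47 LD3_c2))))))
theorem f300249 : Led Lsl_ft (LP (LK LD1_c17 LD2_c45 LD3_c54)) = (LP (LK LD1_c17 LD2_c47 LD3_c2)) :=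
  Lgr Lrot48 (Lpr_ff (f300237 IH) (Lpn (LP (LK LD1_c17 LD2_c47 LD3_c2))))
theorem f190641 : Led Lsl_ct (LP (LK LD1_c27 LD2_c32 LD3_c11)) = (LP (LK LD1_c17 LD2_c45 LD3_c54)) :=
  Lre_c IH (LK LD1_c27 LD2_c32 LD3_c11) (LK LD1_c17 LD2_c45 LD3_c54) Lrfl Lrfl
theorem f233457 : Led Lsl_ct (LP (LK LD1_c17 LD2_c47 LD3_c2)) = (LP (LK LD1_c27 LD2_c33 LD3_c52)) :=
  Lre_c IH (LK LD1_c17 LD2_c47 LD3_c2) (LK LD1_c27 LD2_c33 LD3_c52) Lrfl Lrfl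
theorem f300251 : Led Lsl_ff (LP (LK LD1_c27 LD2_c32 LD3_c11)) = (LP (LK LD1_c27 LD2_c33 LD3_c52)) :=
  Lgr Lrot23 (Lpr_ct (f190641 IH) (Lpr_ft (f300249 IH) (Lpr_ct (f233457 IH) (Lpn (LP (LK LD1_c27 LD2_c33 LD3_c52))))))
theorem f248101 : Led Lsl_bt (LP (LK LD1_c9 LD2_c39 LD3_c36)) = (LP (LK LD1_c17 LD2_c45 LD3_c54)) :=
  Lre_b IH (LK LD1_c9 LD2_c39 LD3_c36) (LK LD1_c17 LD2_c45 LD3_c54) Lrfl Lrfl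
theorem f190639 : Led Lsl_ct (LP (LK LD1_c17 LD2_c45 LD3_c54)) = (LP (LK LD1_c27 LD2_c32 LD3_c11)) :=
  Lre_c IH (LK LD1_c17 LD2_c45 LD3_c54) (LK LD1_c27 LD2_c32 LD3_c11) Lrfl Lrfl
theorem f248094 : Led Lsl_bt (LP (LK LD1_c10 LD2_c3 LD3_c21)) = (LP (LK LD1_c5 LD2_c6 LD3_c11)) :=
  Lre_b IH (LK LD1_c10 LD2_c3 LD3_c21) (LK LD1_c5 LD2_c6 LD3_c11) Lrfl Lrfl
theorem f169995 : Led Lsl_ct (LP (LK LD1_c18 LD2_c21 LD3_c54)) = (LP (LK LD1_c10 LD2_c3 LD3_c21)) :=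
  Lre_c IH (LK LD1_c18 LD2_c21 LD3_c54) (LK LD1_c10 LD2_c3 LD3_c21) Lrfl Lrfl
theorem f248102 : Led Lsl_bt (LP (LK LD1_c27 LD2_c32 LD3_c11)) = (LP (LK LD1_c18 LD2_c21 LD3_c54)) :=
  Lgr Lrot128 (Lpe (f190639 IH) (Lpe (f248101 IH) (Lpr_cf (K14.f248092 IH) (Lpe (f248094 IH) (Lpe (f169995 IH) (Lpn (LP (LK LD1_c18 LD2_c21 LD3_c54))))))))
theorem f249374 : Led Lsl_bt (LP (LK LD1_c5 LD2_c12 LD3_c4)) = (LP (LK LD1_c10 LD2_c14 LD3_c56)) :=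
  Lre_b IH (LK LD1_c5 LD2_c12 LD3_c4) (LK LD1_c10 LD2_c14 LD3_c56) Lrfl Lrfl
theorem f249361 : Led Lsl_ct (LP (LK LD1_c10 LD2_c14 LD3_c56)) = (LP (LK LD1_c18 LD2_c38 LD3_c46)) :=
  Lre_c IH (LK LD1_c10 LD2_c14 LD3_c56) (LK LD1_c18 LD2_c38 LD3_c46) Lrfl Lrfl
theorem f233456 : Led Lsl_bt (LP (LK LD1_c17 LD2_c47 LD3_c2)) = (LP (LK LD1_c9 LD2_c40 LD3_c8)) :=
  Lre_b IH (LK LD1_c17 LD2_c47 LD3_c2) (LK LD1_c9 LD2_c40 LD3_c8) Lrfl Lrfl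
theorem f249375 : Led Lsl_ct (LP (LK LD1_c27 LD2_c33 LD3_c52)) = (LP (LK LD1_c17 LD2_c47 LD3_c2)) :=
  Lre_c IH (LK LD1_c27 LD2_c33 LD3_c52) (LK LD1_c17 LD2_c47 LD3_c2) Lrfl Lrfl
theorem f249376 : Led Lsl_bt (LP (LK LD1_c18 LD2_c38 LD3_c46)) = (LP (LK LD1_c27 LD2_c33 LD3_c52)) :=
  Lgr Lrot128 (Lpe (f249361 IH) (Lpe (f249374 IH) (Lpr_cf (K14.f249368 IH) (Lpe (f233456 IH) (Lpe (f249375 IH) (Lpn (LP (LK LD1_c27 LD2_c33 LD3_c52))))))))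
theorem f300257 : Led Lsl_ft (LP (LK LD1_c18 LD2_c21 LD3_c54)) = (LP (LK LD1_c18 LD2_c38 LD3_c46)) :=
  Lgr Lrot75 (Lpe (f248102 IH) (Lpr_ff (f300251 IH) (Lpe (f249376 IH) (Lpn (LP (LK LD1_c18 LD2_c38 LD3_c46))))))
theorem f300261 : Led Lsl_ff (LP (LK LD1_c18 LD2_c21 LD3_c54)) = (LP (LK LD1_c18 LD2_c38 LD3_c46)) :=
  Lgr Lrot3 (Lpr_ft (f300257 IH) (Lpn (LP (LK LD1_c18 LD2_c38 LD3_c46))))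
theorem f300265 : Led Lsl_ft (LP (LK LD1_c10 LD2_c3 LD3_c21)) = (LP (LK LD1_c10 LD2_c14 LD3_c56)) :=
  Lgr Lrot4 (Lpe (f169995 IH) (Lpr_ff (f300261 IH) (Lpe (f249361 IH) (Lpn (LP (LK LD1_c10 LD2_c14 LD3_c56))))))
theorem f300272 : Led Lsl_et (LP (LK LD1_c18 LD2_c21 LD3_c55)) = (LP (LK LD1_c10 LD2_c3 LD3_c21)) :=
  Lre_e IH (LK LD1_c18 LD2_c21 LD3_c55) (LK LD1_c10 LD2_c3 LD3_c21) Lrfl Lrfl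
theorem f300273 : Led Lsl_ft (LP (LK LD1_c28 LD2_c0 LD3_c5)) = (LP (LK LD1_c18 LD2_c21 LD3_c55)) :=
  Lre_f IH (LK LD1_c28 LD2_c0 LD3_c5) (LK LD1_c18 LD2_c21 LD3_c55) Lrfl Lrfl
theorem f300274 : Led Lsl_et (LP (LK LD1_c10 LD2_c14 LD3_c56)) = (LP (LK LD1_c18 LD2_c38 LD3_c47)) :=
  Lre_e IH (LK LD1_c10 LD2_c14 LD3_c56) (LK LD1_c18 LD2_c38 LD3_c47) Lrfl Lrfl
theorem f300275 : Led Lsl_ft (LP (LK LD1_c18 LD2_c38 LD3_c47)) = (LP (LK LD1_c28 LD2_c10 LD3_c44)) :=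
  Lre_f IH (LK LD1_c18 LD2_c38 LD3_c47) (LK LD1_c28 LD2_c10 LD3_c44) Lrfl Lrfl
theorem f300276 : Led Lsl_ef (LP (LK LD1_c28 LD2_c0 LD3_c5)) = (LP (LK LD1_c28 LD2_c10 LD3_c44)) :=
  Lgr Lrot21 (Lpr_ft (f300273 IH) (Lpr_et (f300272 IH) (Lpr_ft (f300265 IH) (Lpr_et (f300274 IH) (Lpr_ft (f300275 IH) (Lpn (LP (LK LD1_c28 LD2_c10 LD3_c44))))))))
theorem f300281 : Led Lsl_et (LP (LK LD1_c28 LD2_c0 LD3_c5)) = (LP (LK LD1_c28 LD2_c10 LD3_c44)) :=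
  Lgr Lrot87 (Lpr_ef (f300276 IH) (Lpn (LP (LK LD1_c28 LD2_c10 LD3_c44))))
theorem f300283 : Led Lsl_bt (LP (LK LD1_c18 LD2_c21 LD3_c61)) = (LP (LK LD1_c28 LD2_c0 LD3_c5)) :=
  Lre_b IH (LK LD1_c18 LD2_c21 LD3_c61) (LK LD1_c28 LD2_c0 LD3_c5) Lrfl Lrfl
theorem f249407 : Led Lsl_bt (LP (LK LD1_c28 LD2_c10 LD3_c44)) = (LP (LK LD1_c18 LD2_c38 LD3_c55)) :=
  Lre_b IH (LK LD1_c28 LD2_c10 LD3_c44) (LK LD1_c18 LD2_c38 LD3_c55) Lrfl Lrfl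
theorem f300284 : Led Lsl_ef (LP (LK LD1_c18 LD2_c21 LD3_c61)) = (LP (LK LD1_c18 LD2_c38 LD3_c55)) :=
  Lgr Lrot29 (Lpr_bt (f300283 IH) (Lpr_et (f300281 IH) (Lpr_bt (f249407 IH) (Lpn (LP (LK LD1_c18 LD2_c38 LD3_c55))))))
theorem f248168 : Led Lsl_ft (LP (LK LD1_c18 LD2_c21 LD3_c61)) = (LP (LK LD1_c10 LD2_c3 LD3_c23)) :=
  Lre_f IH (LK LD1_c18 LD2_c21 LD3_c61) (LK LD1_c10 LD2_c3 LD3_c23) Lrfl Lrfl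
theorem f248097 : Led Lsl_et (LP (LK LD1_c10 LD2_c3 LD3_c23)) = (LP (LK LD1_c5 LD2_c6 LD3_c11)) :=
  Lre_e IH (LK LD1_c10 LD2_c3 LD3_c23) (LK LD1_c5 LD2_c6 LD3_c11) Lrfl Lrfl
theorem f249408 : Led Lsl_ft (LP (LK LD1_c10 LD2_c14 LD3_c58)) = (LP (LK LD1_c18 LD2_c38 LD3_c55)) :=
  Lre_f IH (LK LD1_c10 LD2_c14 LD3_c58) (LK LD1_c18 LD2_c38 LD3_c55) Lrfl Lrfl
theorem f300291 : Led Lsl_ft (LP (LK LD1_c5 LD2_c6 LD3_c11)) = (LP (LK LD1_c5 LD2_c12 LD3_c4)) :=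
  Lgr Lrot86 (Lpe (f248097 IH) (Lpe (f248168 IH) (Lpr_ef (f300284 IH) (Lpe (f249408 IH) (Lpe (f249382 IH) (Lpn (LP (LK LD1_c5 LD2_c12 LD3_c4))))))))
theorem f300295 : Led Lsl_ff (LP (LK LD1_c2 LD2_c30 LD3_c22)) = (LP (LK LD1_c2 LD2_c32 LD3_c53)) :=
  Lgr Lrot19 (Lpr_dt (K14.f189585 IH) (Lpr_ft (f300291 IH) (Lpr_dt (K14.f185692 IH) (Lpn (LP (LK LD1_c2 LD2_c32 LD3_c53))))))
theorem f230547 : Led Lsl_dt (LP (LK LD1_c2 LD2_c36 LD3_c34)) = (LP (LK LD1_c5 LD2_c19 LD3_c49)) :=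
  Lre_d IH (LK LD1_c2 LD2_c36 LD3_c34) (LK LD1_c5 LD2_c19 LD3_c49) Lrfl Lrfl
theorem f258055 : Led Lsl_gt (LP (LK LD1_c5 LD2_c12 LD3_c1)) = (LP (LK LD1_c2 LD2_c36 LD3_c34)) :=
  Lgr Lrot180 (Lpr_ct (K15.f258044 IH) (Lpe (K15.f257777 IH) (Lpr_dt (K14.f43422 IH) (Lpr_gt (K10.f31471 IH) (Lpr_dt (K1.f31464 IH) (Lpr_ct (K9.f31482 IH) (Lpe (K14.f31481 IH) (Lpr_gf (K14.f249340 IH) (Lpe (f230547 IH) (Lpn (LP (LK LD1_c2 LD2_c36 LD3_c34))))))))))))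
theorem f300306 : Led Lsl_at (LP (LK LD1_c2 LD2_c30 LD3_c22)) = (LP (LK LD1_c2 LD2_c36 LD3_c34)) :=
  Lgr Lrot26 (Lpr_ff (f300295 IH) (Lpr_gt (K15.f249358 IH) (Lpr_gt (f258055 IH) (Lpn (LP (LK LD1_c2 LD2_c36 LD3_c34))))))
theorem f28277 : Led Lsl_bt (LP (LK LD1_c2 LD2_c36 LD3_c19)) = (LP (LK LD1_c5 LD2_c19 LD3_c15)) :=
  Lre_b IH (LK LD1_c2 LD2_c36 LD3_c19) (LK LD1_c5 LD2_c19 LD3_c15) Lrfl Lrfl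
theorem f249293 : Led Lsl_bt (LP (LK LD1_c5 LD2_c19 LD3_c48)) = (LP (LK LD1_c2 LD2_c36 LD3_c34)) :=
  Lre_b IH (LK LD1_c5 LD2_c19 LD3_c48) (LK LD1_c2 LD2_c36 LD3_c34) Lrfl Lrfl
theorem f299529 : Led Lsl_ff (LP (LK LD1_c2 LD2_c36 LD3_c19)) = (LP (LK LD1_c2 LD2_c36 LD3_c34)) :=
  Lgr Lrot25 (Lpr_bt (f28277 IH) (Lpr_ft (f299523 IH) (Lpr_bt (f249293 IH) (Lpn (LP (LK LD1_c2 LD2_c36 LD3_c34))))))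
theorem f300316 : Led Lsl_af (LP (LK LD1_c2 LD2_c32 LD3_c53)) = (LP (LK LD1_c2 LD2_c36 LD3_c19)) :=
  Lgr Lrot45 (Lpe (f300295 IH) (Lpr_at (f300306 IH) (Lpe (f299529 IH) (Lpn (LP (LK LD1_c2 LD2_c36 LD3_c19))))))
theorem f249113 : Led Lsl_et (LP (LK LD1_c2 LD2_c32 LD3_c53)) = (LP (LK LD1_c5 LD2_c12 LD3_c5)) :=
  Lre_e IH (LK LD1_c2 LD2_c32 LD3_c53) (LK LD1_c5 LD2_c12 LD3_c5) Lrfl Lrfl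
theorem f257544 : Led Lsl_et (LP (LK LD1_c5 LD2_c19 LD3_c17)) = (LP (LK LD1_c2 LD2_c36 LD3_c19)) :=
  Lre_e IH (LK LD1_c5 LD2_c19 LD3_c17) (LK LD1_c2 LD2_c36 LD3_c19) Lrfl Lrfl
theorem f300324 : Led Lsl_at (LP (LK LD1_c5 LD2_c12 LD3_c5)) = (LP (LK LD1_c5 LD2_c19 LD3_c17)) :=
  Lgr Lrot80 (Lpe (f249113 IH) (Lpr_af (f300316 IH) (Lpe (f257544 IH) (Lpn (LP (LK LD1_c5 LD2_c19 LD3_c17))))))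
theorem f200247 : Led Lsl_ft (LP (LK LD1_c10 LD2_c15 LD3_c0)) = (LP (LK LD1_c5 LD2_c12 LD3_c5)) :=
  Lre_f IH (LK LD1_c10 LD2_c15 LD3_c0) (LK LD1_c5 LD2_c12 LD3_c5) Lrfl Lrfl
theorem f200238 : Led Lsl_dt (LP (LK LD1_c10 LD2_c15 LD3_c0)) = (LP (LK LD1_c18 LD2_c39 LD3_c1)) :=
  Lre_d IH (LK LD1_c10 LD2_c15 LD3_c0) (LK LD1_c18 LD2_c39 LD3_c1) Lrfl Lrfl
theorem f200239 : Led Lsl_ct (LP (LK LD1_c18 LD2_c39 LD3_c1)) = (LP (LK LD1_c28 LD2_c10 LD3_c57)) :=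
  Lre_c IH (LK LD1_c18 LD2_c39 LD3_c1) (LK LD1_c28 LD2_c10 LD3_c57) Lrfl Lrfl
theorem f200149 : Led Lsl_et (LP (LK LD1_c2 LD2_c32 LD3_c54)) = (LP (LK LD1_c1 LD2_c13 LD3_c21)) :=
  Lre_e IH (LK LD1_c2 LD2_c32 LD3_c54) (LK LD1_c1 LD2_c13 LD3_c21) Lrfl Lrfl
theorem f170634 : Led Lsl_et (LP (LK LD1_c0 LD2_c58 LD3_c22)) = (LP (LK LD1_c2 LD2_c2 LD3_c59)) :=
  Lre_e IH (LK LD1_c0 LD2_c58 LD3_c22) (LK LD1_c2 LD2_c2 LD3_c59) Lrfl Lrfl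
theorem f200150 : Led Lsl_df (LP (LK LD1_c2 LD2_c32 LD3_c54)) = (LP (LK LD1_c2 LD2_c2 LD3_c59)) :=
  Lgr Lrot70 (Lpr_et (f200149 IH) (Lpr_dt (K13.f190314 IH) (Lpr_et (K14.f200145 IH) (Lpe (K11.f170617 IH) (Lpr_et (f170634 IH) (Lpn (LP (LK LD1_c2 LD2_c2 LD3_c59))))))))
theorem f200156 : Led Lsl_ct (LP (LK LD1_c2 LD2_c32 LD3_c54)) = (LP (LK LD1_c5 LD2_c12 LD3_c5)) :=
  Lre_c IH (LK LD1_c2 LD2_c32 LD3_c54) (LK LD1_c5 LD2_c12 LD3_c5) Lrfl Lrfl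
theorem f200157 : Led Lsl_dt (LP (LK LD1_c5 LD2_c12 LD3_c5)) = (LP (LK LD1_c10 LD2_c14 LD3_c61)) :=
  Lre_d IH (LK LD1_c5 LD2_c12 LD3_c5) (LK LD1_c10 LD2_c14 LD3_c61) Lrfl Lrfl
theorem f200158 : Led Lsl_ct (LP (LK LD1_c10 LD2_c14 LD3_c61)) = (LP (LK LD1_c18 LD2_c39 LD3_c0)) :=
  Lre_c IH (LK LD1_c10 LD2_c14 LD3_c61) (LK LD1_c18 LD2_c39 LD3_c0) Lrfl Lrfl
theorem f200159 : Led Lsl_dt (LP (LK LD1_c18 LD2_c39 LD3_c0)) = (LP (LK LD1_c28 LD2_c10 LD3_c56)) :=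
  Lre_d IH (LK LD1_c18 LD2_c39 LD3_c0) (LK LD1_c28 LD2_c10 LD3_c56) Lrfl Lrfl
theorem f200160 : Led Lsl_ct (LP (LK LD1_c4 LD2_c11 LD3_c30)) = (LP (LK LD1_c2 LD2_c2 LD3_c59)) :=
  Lre_c IH (LK LD1_c4 LD2_c11 LD3_c30) (LK LD1_c2 LD2_c2 LD3_c59) Lrfl Lrfl
theorem f200161 : Led Lsl_dt (LP (LK LD1_c8 LD2_c22 LD3_c49)) = (LP (LK LD1_c4 LD2_c11 LD3_c30)) :=
  Lre_d IH (LK LD1_c8 LD2_c22 LD3_c49) (LK LD1_c4 LD2_c11 LD3_c30) Lrfl Lrfl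
theorem f200168 : Led Lsl_ft (LP (LK LD1_c8 LD2_c22 LD3_c49)) = (LP (LK LD1_c15 LD2_c46 LD3_c7)) :=
  Lre_f IH (LK LD1_c8 LD2_c22 LD3_c49) (LK LD1_c15 LD2_c46 LD3_c7) Lrfl Lrfl
theorem f200169 : Led Lsl_at (LP (LK LD1_c15 LD2_c46 LD3_c7)) = (LP (LK LD1_c25 LD2_c42 LD3_c18)) :=
  Lre_a IH (LK LD1_c15 LD2_c46 LD3_c7) (LK LD1_c25 LD2_c42 LD3_c18) Lrfl Lrfl
theorem f200170 : Led Lsl_ct (LP (LK LD1_c28 LD2_c10 LD3_c56)) = (LP (LK LD1_c25 LD2_c42 LD3_c18)) :=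
  Lgr Lrot98 (Lpe (f200159 IH) (Lpe (f200158 IH) (Lpe (f200157 IH) (Lpe (f200156 IH) (Lpr_df (f200150 IH) (Lpe (f200160 IH) (Lpe (f200161 IH) (Lpr_ft (f200168 IH) (Lpr_at (f200169 IH) (Lpn (LP (LK LD1_c25 LD2_c42 LD3_c18))))))))))))
theorem f200194 : Led Lsl_ft (LP (LK LD1_c25 LD2_c42 LD3_c18)) = (LP (LK LD1_c15 LD2_c45 LD3_c39)) :=
  Lre_f IH (LK LD1_c25 LD2_c42 LD3_c18) (LK LD1_c15 LD2_c45 LD3_c39) Lrfl Lrfl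
theorem f200195 : Led Lsl_ct (LP (LK LD1_c15 LD2_c45 LD3_c39)) = (LP (LK LD1_c25 LD2_c42 LD3_c17)) :=
  Lre_c IH (LK LD1_c15 LD2_c45 LD3_c39) (LK LD1_c25 LD2_c42 LD3_c17) Lrfl Lrfl
theorem f200196 : Led Lsl_ff (LP (LK LD1_c28 LD2_c10 LD3_c56)) = (LP (LK LD1_c25 LD2_c42 LD3_c17)) :=
  Lgr Lrot23 (Lpr_ct (f200170 IH) (Lpr_ft (f200194 IH) (Lpr_ct (f200195 IH) (Lpn (LP (LK LD1_c25 LD2_c42 LD3_c17))))))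
theorem f200212 : Led Lsl_dt (LP (LK LD1_c28 LD2_c10 LD3_c56)) = (LP (LK LD1_c18 LD2_c39 LD3_c0)) :=
  Lre_d IH (LK LD1_c28 LD2_c10 LD3_c56) (LK LD1_c18 LD2_c39 LD3_c0) Lrfl Lrfl
theorem f200198 : Led Lsl_ft (LP (LK LD1_c18 LD2_c39 LD3_c0)) = (LP (LK LD1_c28 LD2_c10 LD3_c57)) :=
  Lre_f IH (LK LD1_c18 LD2_c39 LD3_c0) (LK LD1_c28 LD2_c10 LD3_c57) Lrfl Lrfl
theorem f200213 : Led Lsl_dt (LP (LK LD1_c28 LD2_c10 LD3_c57)) = (LP (LK LD1_c25 LD2_c42 LD3_c17)) :=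
  Lgr Lrot60 (Lpe (f200198 IH) (Lpe (f200212 IH) (Lpr_ff (f200196 IH) (Lpn (LP (LK LD1_c25 LD2_c42 LD3_c17))))))
theorem f200219 : Led Lsl_ct (LP (LK LD1_c25 LD2_c42 LD3_c17)) = (LP (LK LD1_c15 LD2_c45 LD3_c39)) :=
  Lre_c IH (LK LD1_c25 LD2_c42 LD3_c17) (LK LD1_c15 LD2_c45 LD3_c39) Lrfl Lrfl
theorem f200245 : Led Lsl_dt (LP (LK LD1_c15 LD2_c45 LD3_c39)) = (LP (LK LD1_c8 LD2_c22 LD3_c33)) :=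
  Lre_d IH (LK LD1_c15 LD2_c45 LD3_c39) (LK LD1_c8 LD2_c22 LD3_c33) Lrfl Lrfl
theorem f200246 : Led Lsl_ct (LP (LK LD1_c8 LD2_c22 LD3_c33)) = (LP (LK LD1_c4 LD2_c11 LD3_c25)) :=
  Lre_c IH (LK LD1_c8 LD2_c22 LD3_c33) (LK LD1_c4 LD2_c11 LD3_c25) Lrfl Lrfl
theorem f300341 : Led Lsl_dt (LP (LK LD1_c4 LD2_c11 LD3_c25)) = (LP (LK LD1_c2 LD2_c36 LD3_c20)) :=
  Lgr Lrot120 (Lpe (f200246 IH) (Lpe (f200245 IH) (Lpe (f200219 IH) (Lpe (f200213 IH) (Lpe (f200239 IH) (Lpe (f200238 IH) (Lpr_ft (f200247 IH) (Lpr_at (f300324 IH) (Lpe (K9.f182226 IH) (Lpn (LP (LK LD1_c2 LD2_c36 LD3_c20))))))))))))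
theorem f200220 : Led Lsl_ft (LP (LK LD1_c28 LD2_c10 LD3_c57)) = (LP (LK LD1_c18 LD2_c39 LD3_c0)) :=
  Lre_f IH (LK LD1_c28 LD2_c10 LD3_c57) (LK LD1_c18 LD2_c39 LD3_c0) Lrfl Lrfl
theorem f257545 : Led Lsl_dt (LP (LK LD1_c5 LD2_c19 LD3_c17)) = (LP (LK LD1_c10 LD2_c28 LD3_c22)) :=
  Lre_d IH (LK LD1_c5 LD2_c19 LD3_c17) (LK LD1_c10 LD2_c28 LD3_c22) Lrfl Lrfl
theorem f300345 : Led Lsl_ct (LP (LK LD1_c10 LD2_c28 LD3_c22)) = (LP (LK LD1_c18 LD2_c58 LD3_c52)) :=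
  Lre_c IH (LK LD1_c10 LD2_c28 LD3_c22) (LK LD1_c18 LD2_c58 LD3_c52) Lrfl Lrfl
theorem f300355 : Led Lsl_at (LP (LK LD1_c18 LD2_c39 LD3_c0)) = (LP (LK LD1_c18 LD2_c58 LD3_c52)) :=
  Lgr Lrot33 (Lpe (f200220 IH) (Lpr_dt (f200213 IH) (Lpr_ct (f200219 IH) (Lpr_dt (f200245 IH) (Lpr_ct (f200246 IH) (Lpr_dt (f300341 IH) (Lpr_ct (K9.f182226 IH) (Lpr_dt (f257545 IH) (Lpr_ct (f300345 IH) (Lpn (LP (LK LD1_c18 LD2_c58 LD3_c52))))))))))))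
theorem f200215 : Led Lsl_ft (LP (LK LD1_c28 LD2_c10 LD3_c56)) = (LP (LK LD1_c25 LD2_c42 LD3_c17)) :=
  Lgr Lrot48 (Lpr_ff (f200196 IH) (Lpn (LP (LK LD1_c25 LD2_c42 LD3_c17))))
theorem f200221 : Led Lsl_df (LP (LK LD1_c28 LD2_c10 LD3_c57)) = (LP (LK LD1_c25 LD2_c42 LD3_c17)) :=
  Lgr Lrot78 (Lpr_ft (f200220 IH) (Lpr_dt (f200159 IH) (Lpr_ft (f200215 IH) (Lpn (LP (LK LD1_c25 LD2_c42 LD3_c17))))))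
theorem f200211 : Led Lsl_at (LP (LK LD1_c15 LD2_c46 LD3_c6)) = (LP (LK LD1_c25 LD2_c42 LD3_c17)) :=
  Lre_a IH (LK LD1_c15 LD2_c46 LD3_c6) (LK LD1_c25 LD2_c42 LD3_c17) Lrfl Lrfl
theorem f200163 : Led Lsl_dt (LP (LK LD1_c25 LD2_c42 LD3_c54)) = (LP (LK LD1_c15 LD2_c46 LD3_c6)) :=
  Lre_d IH (LK LD1_c25 LD2_c42 LD3_c54) (LK LD1_c15 LD2_c46 LD3_c6) Lrfl Lrfl
theorem f200227 : Led Lsl_at (LP (LK LD1_c28 LD2_c10 LD3_c57)) = (LP (LK LD1_c25 LD2_c42 LD3_c54)) :=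
  Lgr Lrot51 (Lpr_df (f200221 IH) (Lpe (f200211 IH) (Lpe (f200163 IH) (Lpn (LP (LK LD1_c25 LD2_c42 LD3_c54))))))
theorem f200241 : Led Lsl_af (LP (LK LD1_c28 LD2_c10 LD3_c57)) = (LP (LK LD1_c25 LD2_c42 LD3_c54)) :=
  Lgr Lrot0 (Lpr_at (f200227 IH) (Lpn (LP (LK LD1_c25 LD2_c42 LD3_c54))))
theorem f300363 : Led Lsl_ff (LP (LK LD1_c25 LD2_c42 LD3_c54)) = (LP (LK LD1_c18 LD2_c58 LD3_c52)) :=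
  Lgr Lrot30 (Lpe (f200241 IH) (Lpr_ft (f200220 IH) (Lpr_at (f300355 IH) (Lpn (LP (LK LD1_c18 LD2_c58 LD3_c52))))))
theorem f300368 : Led Lsl_ft (LP (LK LD1_c25 LD2_c42 LD3_c54)) = (LP (LK LD1_c18 LD2_c58 LD3_c52)) :=
  Lgr Lrot48 (Lpr_ff (f300363 IH) (Lpn (LP (LK LD1_c18 LD2_c58 LD3_c52))))
theorem f300362 : Led Lsl_ct (LP (LK LD1_c18 LD2_c58 LD3_c52)) = (LP (LK LD1_c10 LD2_c28 LD3_c22)) :=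
  Lre_c IH (LK LD1_c18 LD2_c58 LD3_c52) (LK LD1_c10 LD2_c28 LD3_c22) Lrfl Lrfl
theorem f300370 : Led Lsl_ft (LP (LK LD1_c10 LD2_c28 LD3_c22)) = (LP (LK LD1_c18 LD2_c58 LD3_c53)) :=
  Lre_f IH (LK LD1_c10 LD2_c28 LD3_c22) (LK LD1_c18 LD2_c58 LD3_c53) Lrfl Lrfl
theorem f300371 : Led Lsl_cf (LP (LK LD1_c25 LD2_c42 LD3_c54)) = (LP (LK LD1_c18 LD2_c58 LD3_c53)) :=
  Lgr Lrot108 (Lpr_ft (f300368 IH) (Lpr_ct (f300362 IH) (Lpr_ft (f300370 IH) (Lpn (LP (LK LD1_c18 LD2_c58 LD3_c53))))))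
theorem f200162 : Led Lsl_ct (LP (LK LD1_c15 LD2_c46 LD3_c6)) = (LP (LK LD1_c8 LD2_c22 LD3_c49)) :=
  Lre_c IH (LK LD1_c15 LD2_c46 LD3_c6) (LK LD1_c8 LD2_c22 LD3_c49) Lrfl Lrfl
theorem f200172 : Led Lsl_dt (LP (LK LD1_c25 LD2_c42 LD3_c18)) = (LP (LK LD1_c15 LD2_c45 LD3_c40)) :=
  Lre_d IH (LK LD1_c25 LD2_c42 LD3_c18) (LK LD1_c15 LD2_c45 LD3_c40) Lrfl Lrfl
theorem f200173 : Led Lsl_ct (LP (LK LD1_c15 LD2_c45 LD3_c40)) = (LP (LK LD1_c8 LD2_c22 LD3_c35)) :=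
  Lre_c IH (LK LD1_c15 LD2_c45 LD3_c40) (LK LD1_c8 LD2_c22 LD3_c35) Lrfl Lrfl
theorem f300376 : Led Lsl_dt (LP (LK LD1_c10 LD2_c28 LD3_c23)) = (LP (LK LD1_c18 LD2_c58 LD3_c53)) :=
  Lre_d IH (LK LD1_c10 LD2_c28 LD3_c23) (LK LD1_c18 LD2_c58 LD3_c53) Lrfl Lrfl
theorem f230463 : Led Lsl_ct (LP (LK LD1_c5 LD2_c19 LD3_c20)) = (LP (LK LD1_c10 LD2_c28 LD3_c23)) :=
  Lre_c IH (LK LD1_c5 LD2_c19 LD3_c20) (LK LD1_c10 LD2_c28 LD3_c23) Lrfl Lrfl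
theorem f300377 : Led Lsl_dt (LP (LK LD1_c8 LD2_c22 LD3_c35)) = (LP (LK LD1_c5 LD2_c19 LD3_c20)) :=
  Lgr Lrot173 (Lpe (f200173 IH) (Lpe (f200172 IH) (Lpe (f200170 IH) (Lpe (f200159 IH) (Lpe (f200158 IH) (Lpe (f200157 IH) (Lpe (f200156 IH) (Lpr_df (f200150 IH) (Lpe (f200160 IH) (Lpe (f200161 IH) (Lpe (f200162 IH) (Lpe (f200163 IH) (Lpr_cf (f300371 IH) (Lpe (f300376 IH) (Lpe (f230463 IH) (Lpn (LP (LK LD1_c5 LD2_c19 LD3_c20))))))))))))))))))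
theorem f200174 : Led Lsl_at (LP (LK LD1_c4 LD2_c11 LD3_c33)) = (LP (LK LD1_c8 LD2_c22 LD3_c35)) :=
  Lre_a IH (LK LD1_c4 LD2_c11 LD3_c33) (LK LD1_c8 LD2_c22 LD3_c35) Lrfl Lrfl
theorem f200164 : Led Lsl_ft (LP (LK LD1_c2 LD2_c32 LD3_c54)) = (LP (LK LD1_c5 LD2_c12 LD3_c8)) :=
  Lre_f IH (LK LD1_c2 LD2_c32 LD3_c54) (LK LD1_c5 LD2_c12 LD3_c8) Lrfl Lrfl
theorem f200165 : Led Lsl_ft (LP (LK LD1_c4 LD2_c11 LD3_c33)) = (LP (LK LD1_c2 LD2_c2 LD3_c59)) :=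
  Lre_f IH (LK LD1_c4 LD2_c11 LD3_c33) (LK LD1_c2 LD2_c2 LD3_c59) Lrfl Lrfl
theorem f200166 : Led Lsl_dt (LP (LK LD1_c5 LD2_c12 LD3_c8)) = (LP (LK LD1_c4 LD2_c11 LD3_c33)) :=
  Lgr Lrot60 (Lpe (f200164 IH) (Lpr_df (f200150 IH) (Lpe (f200165 IH) (Lpn (LP (LK LD1_c4 LD2_c11 LD3_c33))))))
theorem f300383 : Led Lsl_af (LP (LK LD1_c5 LD2_c12 LD3_c8)) = (LP (LK LD1_c5 LD2_c19 LD3_c20)) :=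
  Lgr Lrot117 (Lpr_dt (f200166 IH) (Lpr_at (f200174 IH) (Lpr_dt (f300377 IH) (Lpn (LP (LK LD1_c5 LD2_c19 LD3_c20))))))
theorem f200260 : Led Lsl_ft (LP (LK LD1_c5 LD2_c12 LD3_c8)) = (LP (LK LD1_c2 LD2_c32 LD3_c54)) :=
  Lre_f IH (LK LD1_c5 LD2_c12 LD3_c8) (LK LD1_c2 LD2_c32 LD3_c54) Lrfl Lrfl
theorem f230469 : Led Lsl_ft (LP (LK LD1_c2 LD2_c36 LD3_c20)) = (LP (LK LD1_c5 LD2_c19 LD3_c20)) :=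
  Lre_f IH (LK LD1_c2 LD2_c36 LD3_c20) (LK LD1_c5 LD2_c19 LD3_c20) Lrfl Lrfl
theorem f300442 : Led Lsl_at (LP (LK LD1_c2 LD2_c32 LD3_c54)) = (LP (LK LD1_c2 LD2_c36 LD3_c20)) :=
  Lgr Lrot66 (Lpe (f200260 IH) (Lpr_af (f300383 IH) (Lpe (f230469 IH) (Lpn (LP (LK LD1_c2 LD2_c36 LD3_c20))))))
theorem f200142 : Led Lsl_et (LP (LK LD1_c1 LD2_c13 LD3_c21)) = (LP (LK LD1_c2 LD2_c32 LD3_c54)) :=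
  Lre_e IH (LK LD1_c1 LD2_c13 LD3_c21) (LK LD1_c2 LD2_c32 LD3_c54) Lrfl Lrfl
theorem f230535 : Led Lsl_et (LP (LK LD1_c2 LD2_c36 LD3_c20)) = (LP (LK LD1_c1 LD2_c15 LD3_c10)) :=
  Lre_e IH (LK LD1_c2 LD2_c36 LD3_c20) (LK LD1_c1 LD2_c15 LD3_c10) Lrfl Lrfl
theorem f300468 : Led Lsl_af (LP (LK LD1_c1 LD2_c13 LD3_c21)) = (LP (LK LD1_c1 LD2_c15 LD3_c10)) :=
  Lgr Lrot50 (Lpr_et (f200142 IH) (Lpr_at (f300442 IH) (Lpr_et (f230535 IH) (Lpn (LP (LK LD1_c1 LD2_c15 LD3_c10))))))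
theorem f46293 : Led Lsl_dt (LP (LK LD1_c0 LD2_c34 LD3_c54)) = (LP (LK LD1_c1 LD2_c15 LD3_c14)) :=
  Lre_d IH (LK LD1_c0 LD2_c34 LD3_c54) (LK LD1_c1 LD2_c15 LD3_c14) Lrfl Lrfl
theorem f46093 : Led Lsl_et (LP (LK LD1_c0 LD2_c34 LD3_c54)) = (LP (LK LD1_c0 LD2_c34 LD3_c54)) :=
  Lgr Lrot158 (Lpe (K9.f28282 IH) (Lpr_ef (K1.f46084 IH) (Lpe (K1.f28293 IH) (Lpn (LP (LK LD1_c0 LD2_c34 LD3_c54))))))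
theorem f258075 : Led Lsl_gf (LP (LK LD1_c2 LD2_c32 LD3_c52)) = (LP (LK LD1_c1 LD2_c15 LD3_c17)) :=
  Lgr Lrot134 (Lpr_df (K15.f258061 IH) (Lpr_et (K16.f184506 IH) (Lpe (K14.f250416 IH) (Lpr_ef (K14.f250422 IH) (Lpr_dt (K14.f248466 IH) (Lpe (K12.f212324 IH) (Lpe (f46293 IH) (Lpr_et (f46093 IH) (Lpr_gt (K14.f249107 IH) (Lpr_dt (K14.f28273 IH) (Lpn (LP (LK LD1_c1 LD2_c15 LD3_c17)))))))))))))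
theorem f300482 : Led Lsl_ft (LP (LK LD1_c1 LD2_c15 LD3_c17)) = (LP (LK LD1_c1 LD2_c15 LD3_c10)) :=
  Lgr Lrot2 (Lpe (f258075 IH) (Lpr_gt (K15.f186799 IH) (Lpr_af (f300468 IH) (Lpn (LP (LK LD1_c1 LD2_c15 LD3_c10))))))
theorem f300486 : Led Lsl_ff (LP (LK LD1_c1 LD2_c15 LD3_c17)) = (LP (LK LD1_c1 LD2_c15 LD3_c10)) :=
  Lgr Lrot3 (Lpr_ft (f300482 IH) (Lpn (LP (LK LD1_c1 LD2_c15 LD3_c10))))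
theorem f249255 : Led Lsl_ft (LP (LK LD1_c2 LD2_c36 LD3_c35)) = (LP (LK LD1_c5 LD2_c19 LD3_c53)) :=
  Lre_f IH (LK LD1_c2 LD2_c36 LD3_c35) (LK LD1_c5 LD2_c19 LD3_c53) Lrfl Lrfl
theorem f230456 : Led Lsl_ft (LP (LK LD1_c5 LD2_c19 LD3_c20)) = (LP (LK LD1_c2 LD2_c36 LD3_c20)) :=
  Lre_f IH (LK LD1_c5 LD2_c19 LD3_c20) (LK LD1_c2 LD2_c36 LD3_c20) Lrfl Lrfl
theorem f300488 : Led Lsl_et (LP (LK LD1_c5 LD2_c19 LD3_c53)) = (LP (LK LD1_c5 LD2_c19 LD3_c20)) :=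
  Lgr Lrot69 (Lpe (f249255 IH) (Lpe (K16.f44758 IH) (Lpr_ff (f300486 IH) (Lpe (f230535 IH) (Lpe (f230456 IH) (Lpn (LP (LK LD1_c5 LD2_c19 LD3_c20))))))))
theorem f249261 : Led Lsl_ct (LP (LK LD1_c10 LD2_c29 LD3_c33)) = (LP (LK LD1_c5 LD2_c19 LD3_c53)) :=
  Lre_c IH (LK LD1_c10 LD2_c29 LD3_c33) (LK LD1_c5 LD2_c19 LD3_c53) Lrfl Lrfl
theorem f300492 : Led Lsl_ef (LP (LK LD1_c10 LD2_c29 LD3_c33)) = (LP (LK LD1_c10 LD2_c28 LD3_c23)) :=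
  Lgr Lrot28 (Lpr_ct (f249261 IH) (Lpr_et (f300488 IH) (Lpr_ct (f230463 IH) (Lpn (LP (LK LD1_c10 LD2_c28 LD3_c23))))))
theorem f200199 : Led Lsl_ft (LP (LK LD1_c5 LD2_c12 LD3_c5)) = (LP (LK LD1_c10 LD2_c15 LD3_c0)) :=
  Lre_f IH (LK LD1_c5 LD2_c12 LD3_c5) (LK LD1_c10 LD2_c15 LD3_c0) Lrfl Lrfl
theorem f300385 : Led Lsl_at (LP (LK LD1_c10 LD2_c15 LD3_c0)) = (LP (LK LD1_c10 LD2_c28 LD3_c23)) :=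
  Lgr Lrot33 (Lpe (f200199 IH) (Lpr_dt (f200157 IH) (Lpr_ct (f200158 IH) (Lpr_dt (f200159 IH) (Lpr_ct (f200170 IH) (Lpr_dt (f200172 IH) (Lpr_ct (f200173 IH) (Lpr_dt (f300377 IH) (Lpr_ct (f230463 IH) (Lpn (LP (LK LD1_c10 LD2_c28 LD3_c23))))))))))))
theorem f248096 : Led Lsl_et (LP (LK LD1_c2 LD2_c30 LD3_c22)) = (LP (LK LD1_c5 LD2_c6 LD3_c12)) :=
  Lre_e IH (LK LD1_c2 LD2_c30 LD3_c22) (LK LD1_c5 LD2_c6 LD3_c12) Lrfl Lrfl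
theorem f300301 : Led Lsl_ft (LP (LK LD1_c5 LD2_c6 LD3_c12)) = (LP (LK LD1_c10 LD2_c3 LD3_c26)) :=
  Lre_f IH (LK LD1_c5 LD2_c6 LD3_c12) (LK LD1_c10 LD2_c3 LD3_c26) Lrfl Lrfl
theorem f266161 : Led Lsl_et (LP (LK LD1_c5 LD2_c12 LD3_c5)) = (LP (LK LD1_c2 LD2_c32 LD3_c53)) :=
  Lre_e IH (LK LD1_c5 LD2_c12 LD3_c5) (LK LD1_c2 LD2_c32 LD3_c53) Lrfl Lrfl
theorem f300302 : Led Lsl_et (LP (LK LD1_c10 LD2_c3 LD3_c26)) = (LP (LK LD1_c10 LD2_c15 LD3_c0)) :=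
  Lgr Lrot69 (Lpe (f300301 IH) (Lpe (f248096 IH) (Lpr_ff (f300295 IH) (Lpe (f266161 IH) (Lpe (f200247 IH) (Lpn (LP (LK LD1_c10 LD2_c15 LD3_c0))))))))
theorem f300494 : Led Lsl_at (LP (LK LD1_c10 LD2_c29 LD3_c33)) = (LP (LK LD1_c10 LD2_c3 LD3_c26)) :=
  Lgr Lrot80 (Lpr_ef (f300492 IH) (Lpe (f300385 IH) (Lpe (f300302 IH) (Lpn (LP (LK LD1_c10 LD2_c3 LD3_c26))))))
theorem f300500 : Led Lsl_ft (LP (LK LD1_c5 LD2_c19 LD3_c50)) = (LP (LK LD1_c10 LD2_c29 LD3_c33)) :=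
  Lre_f IH (LK LD1_c5 LD2_c19 LD3_c50) (LK LD1_c10 LD2_c29 LD3_c33) Lrfl Lrfl
theorem f300510 : Led Lsl_ft (LP (LK LD1_c10 LD2_c3 LD3_c26)) = (LP (LK LD1_c5 LD2_c6 LD3_c12)) :=
  Lre_f IH (LK LD1_c10 LD2_c3 LD3_c26) (LK LD1_c5 LD2_c6 LD3_c12) Lrfl Lrfl
theorem f300511 : Led Lsl_af (LP (LK LD1_c5 LD2_c19 LD3_c50)) = (LP (LK LD1_c5 LD2_c6 LD3_c12)) :=
  Lgr Lrot45 (Lpr_ft (f300500 IH) (Lpr_at (f300494 IH) (Lpr_ft (f300510 IH) (Lpn (LP (LK LD1_c5 LD2_c6 LD3_c12))))))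
theorem f265872 : Led Lsl_dt (LP (LK LD1_c5 LD2_c19 LD3_c50)) = (LP (LK LD1_c10 LD2_c29 LD3_c32)) :=
  Lre_d IH (LK LD1_c5 LD2_c19 LD3_c50) (LK LD1_c10 LD2_c29 LD3_c32) Lrfl Lrfl
theorem f255893 : Led Lsl_dt (LP (LK LD1_c10 LD2_c3 LD3_c25)) = (LP (LK LD1_c5 LD2_c6 LD3_c12)) :=
  Lre_d IH (LK LD1_c10 LD2_c3 LD3_c25) (LK LD1_c5 LD2_c6 LD3_c12) Lrfl Lrfl
theorem f300528 : Led Lsl_at (LP (LK LD1_c10 LD2_c29 LD3_c32)) = (LP (LK LD1_c10 LD2_c3 LD3_c25)) :=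
  Lgr Lrot51 (Lpe (f265872 IH) (Lpr_af (f300511 IH) (Lpe (f255893 IH) (Lpn (LP (LK LD1_c10 LD2_c3 LD3_c25))))))
theorem f265885 : Led Lsl_et (LP (LK LD1_c19 LD2_c0 LD3_c57)) = (LP (LK LD1_c10 LD2_c29 LD3_c32)) :=
  Lre_e IH (LK LD1_c19 LD2_c0 LD3_c57) (LK LD1_c10 LD2_c29 LD3_c32) Lrfl Lrfl
theorem f300168 : Led Lsl_et (LP (LK LD1_c10 LD2_c3 LD3_c25)) = (LP (LK LD1_c18 LD2_c21 LD3_c60)) :=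
  Lre_e IH (LK LD1_c10 LD2_c3 LD3_c25) (LK LD1_c18 LD2_c21 LD3_c60) Lrfl Lrfl
theorem f300538 : Led Lsl_af (LP (LK LD1_c19 LD2_c0 LD3_c57)) = (LP (LK LD1_c18 LD2_c21 LD3_c60)) :=
  Lgr Lrot50 (Lpr_et (f265885 IH) (Lpr_at (f300528 IH) (Lpr_et (f300168 IH) (Lpn (LP (LK LD1_c18 LD2_c21 LD3_c60))))))
theorem f249355 : Led Lsl_dt (LP (LK LD1_c19 LD2_c0 LD3_c57)) = (LP (LK LD1_c10 LD2_c29 LD3_c30)) :=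
  Lre_d IH (LK LD1_c19 LD2_c0 LD3_c57) (LK LD1_c10 LD2_c29 LD3_c30) Lrfl Lrfl
theorem f248098 : Led Lsl_dt (LP (LK LD1_c10 LD2_c3 LD3_c23)) = (LP (LK LD1_c18 LD2_c21 LD3_c60)) :=
  Lre_d IH (LK LD1_c10 LD2_c3 LD3_c23) (LK LD1_c18 LD2_c21 LD3_c60) Lrfl Lrfl
theorem f300548 : Led Lsl_at (LP (LK LD1_c10 LD2_c29 LD3_c30)) = (LP (LK LD1_c10 LD2_c3 LD3_c23)) :=
  Lgr Lrot51 (Lpe (f249355 IH) (Lpr_af (f300538 IH) (Lpe (f248098 IH) (Lpn (LP (LK LD1_c10 LD2_c3 LD3_c23))))))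
theorem f249421 : Led Lsl_et (LP (LK LD1_c5 LD2_c19 LD3_c49)) = (LP (LK LD1_c10 LD2_c29 LD3_c30)) :=
  Lre_e IH (LK LD1_c5 LD2_c19 LD3_c49) (LK LD1_c10 LD2_c29 LD3_c30) Lrfl Lrfl
theorem f300564 : Led Lsl_af (LP (LK LD1_c5 LD2_c19 LD3_c49)) = (LP (LK LD1_c5 LD2_c6 LD3_c11)) :=
  Lgr Lrot50 (Lpr_et (f249421 IH) (Lpr_at (f300548 IH) (Lpr_et (f248097 IH) (Lpn (LP (LK LD1_c5 LD2_c6 LD3_c11))))))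
theorem f249415 : Led Lsl_bt (LP (LK LD1_c5 LD2_c19 LD3_c49)) = (LP (LK LD1_c10 LD2_c29 LD3_c28)) :=
  Lre_b IH (LK LD1_c5 LD2_c19 LD3_c49) (LK LD1_c10 LD2_c29 LD3_c28) Lrfl Lrfl
theorem f299548 : Led Lsl_at (LP (LK LD1_c10 LD2_c29 LD3_c28)) = (LP (LK LD1_c19 LD2_c0 LD3_c52)) :=
  Lre_a IH (LK LD1_c10 LD2_c29 LD3_c28) (LK LD1_c19 LD2_c0 LD3_c52) Lrfl Lrfl
theorem f300267 : Led Lsl_at (LP (LK LD1_c18 LD2_c21 LD3_c52)) = (LP (LK LD1_c10 LD2_c3 LD3_c21)) :=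
  Lre_a IH (LK LD1_c18 LD2_c21 LD3_c52) (LK LD1_c10 LD2_c3 LD3_c21) Lrfl Lrfl
theorem f300566 : Led Lsl_bt (LP (LK LD1_c19 LD2_c0 LD3_c52)) = (LP (LK LD1_c18 LD2_c21 LD3_c52)) :=
  Lgr Lrot62 (Lpe (f299548 IH) (Lpe (f249415 IH) (Lpr_af (f300564 IH) (Lpe (f248094 IH) (Lpe (f300267 IH) (Lpn (LP (LK LD1_c18 LD2_c21 LD3_c52))))))))
theorem f249304 : Led Lsl_dt (LP (LK LD1_c10 LD2_c29 LD3_c27)) = (LP (LK LD1_c19 LD2_c0 LD3_c52)) :=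
  Lre_d IH (LK LD1_c10 LD2_c29 LD3_c27) (LK LD1_c19 LD2_c0 LD3_c52) Lrfl Lrfl
theorem f300570 : Led Lsl_dt (LP (LK LD1_c18 LD2_c21 LD3_c52)) = (LP (LK LD1_c10 LD2_c3 LD3_c20)) :=
  Lre_d IH (LK LD1_c18 LD2_c21 LD3_c52) (LK LD1_c10 LD2_c3 LD3_c20) Lrfl Lrfl
theorem f300571 : Led Lsl_bf (LP (LK LD1_c10 LD2_c29 LD3_c27)) = (LP (LK LD1_c10 LD2_c3 LD3_c20)) :=
  Lgr Lrot93 (Lpr_dt (f249304 IH) (Lpr_bt (f300566 IH) (Lpr_dt (f300570 IH) (Lpn (LP (LK LD1_c10 LD2_c3 LD3_c20))))))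
theorem f230513 : Led Lsl_at (LP (LK LD1_c10 LD2_c28 LD3_c16)) = (LP (LK LD1_c5 LD2_c19 LD3_c15)) :=
  Lre_a IH (LK LD1_c10 LD2_c28 LD3_c16) (LK LD1_c5 LD2_c19 LD3_c15) Lrfl Lrfl
theorem f249294 : Led Lsl_at (LP (LK LD1_c5 LD2_c19 LD3_c48)) = (LP (LK LD1_c10 LD2_c29 LD3_c27)) :=
  Lre_a IH (LK LD1_c5 LD2_c19 LD3_c48) (LK LD1_c10 LD2_c29 LD3_c27) Lrfl Lrfl
theorem f299527 : Led Lsl_ff (LP (LK LD1_c10 LD2_c28 LD3_c16)) = (LP (LK LD1_c10 LD2_c29 LD3_c27)) :=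
  Lgr Lrot30 (Lpr_at (f230513 IH) (Lpr_ft (f299523 IH) (Lpr_at (f249294 IH) (Lpn (LP (LK LD1_c10 LD2_c29 LD3_c27))))))
theorem f200230 : Led Lsl_dt (LP (LK LD1_c18 LD2_c39 LD3_c1)) = (LP (LK LD1_c10 LD2_c15 LD3_c0)) :=
  Lre_d IH (LK LD1_c18 LD2_c39 LD3_c1) (LK LD1_c10 LD2_c15 LD3_c0) Lrfl Lrfl
theorem f300391 : Led Lsl_af (LP (LK LD1_c18 LD2_c39 LD3_c1)) = (LP (LK LD1_c18 LD2_c58 LD3_c53)) :=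
  Lgr Lrot117 (Lpr_dt (f200230 IH) (Lpr_at (f300385 IH) (Lpr_dt (f300376 IH) (Lpn (LP (LK LD1_c18 LD2_c58 LD3_c53))))))
theorem f200350 : Led Lsl_ft (LP (LK LD1_c18 LD2_c39 LD3_c1)) = (LP (LK LD1_c10 LD2_c14 LD3_c61)) :=
  Lre_f IH (LK LD1_c18 LD2_c39 LD3_c1) (LK LD1_c10 LD2_c14 LD3_c61) Lrfl Lrfl
theorem f300399 : Led Lsl_at (LP (LK LD1_c10 LD2_c14 LD3_c61)) = (LP (LK LD1_c10 LD2_c28 LD3_c22)) :=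
  Lgr Lrot66 (Lpe (f200350 IH) (Lpr_af (f300391 IH) (Lpe (f300370 IH) (Lpn (LP (LK LD1_c10 LD2_c28 LD3_c22))))))
theorem f300401 : Led Lsl_bt (LP (LK LD1_c18 LD2_c38 LD3_c50)) = (LP (LK LD1_c10 LD2_c14 LD3_c61)) :=
  Lre_b IH (LK LD1_c18 LD2_c38 LD3_c50) (LK LD1_c10 LD2_c14 LD3_c61) Lrfl Lrfl
theorem f300402 : Led Lsl_at (LP (LK LD1_c28 LD2_c10 LD3_c40)) = (LP (LK LD1_c18 LD2_c38 LD3_c50)) :=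
  Lre_a IH (LK LD1_c28 LD2_c10 LD3_c40) (LK LD1_c18 LD2_c38 LD3_c50) Lrfl Lrfl
theorem f300403 : Led Lsl_bt (LP (LK LD1_c10 LD2_c28 LD3_c22)) = (LP (LK LD1_c18 LD2_c58 LD3_c42)) :=
  Lre_b IH (LK LD1_c10 LD2_c28 LD3_c22) (LK LD1_c18 LD2_c58 LD3_c42) Lrfl Lrfl
theorem f300404 : Led Lsl_at (LP (LK LD1_c18 LD2_c58 LD3_c42)) = (LP (LK LD1_c28 LD2_c25 LD3_c57)) :=
  Lre_a IH (LK LD1_c18 LD2_c58 LD3_c42) (LK LD1_c28 LD2_c25 LD3_c57) Lrfl Lrfl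
theorem f300405 : Led Lsl_bf (LP (LK LD1_c28 LD2_c10 LD3_c40)) = (LP (LK LD1_c28 LD2_c25 LD3_c57)) :=
  Lgr Lrot81 (Lpr_at (f300402 IH) (Lpr_bt (f300401 IH) (Lpr_at (f300399 IH) (Lpr_bt (f300403 IH) (Lpr_at (f300404 IH) (Lpn (LP (LK LD1_c28 LD2_c25 LD3_c57))))))))
theorem f300414 : Led Lsl_dt (LP (LK LD1_c28 LD2_c10 LD3_c40)) = (LP (LK LD1_c18 LD2_c38 LD3_c45)) :=
  Lre_d IH (LK LD1_c28 LD2_c10 LD3_c40) (LK LD1_c18 LD2_c38 LD3_c45) Lrfl Lrfl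
theorem f230530 : Led Lsl_dt (LP (LK LD1_c18 LD2_c58 LD3_c37)) = (LP (LK LD1_c28 LD2_c25 LD3_c57)) :=
  Lre_d IH (LK LD1_c18 LD2_c58 LD3_c37) (LK LD1_c28 LD2_c25 LD3_c57) Lrfl Lrfl
theorem f300415 : Led Lsl_bt (LP (LK LD1_c18 LD2_c38 LD3_c45)) = (LP (LK LD1_c18 LD2_c58 LD3_c37)) :=
  Lgr Lrot95 (Lpe (f300414 IH) (Lpr_bf (f300405 IH) (Lpe (f230530 IH) (Lpn (LP (LK LD1_c18 LD2_c58 LD3_c37))))))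
theorem f300419 : Led Lsl_et (LP (LK LD1_c10 LD2_c14 LD3_c55)) = (LP (LK LD1_c18 LD2_c38 LD3_c45)) :=
  Lre_e IH (LK LD1_c10 LD2_c14 LD3_c55) (LK LD1_c18 LD2_c38 LD3_c45) Lrfl Lrfl
theorem f230525 : Led Lsl_et (LP (LK LD1_c18 LD2_c58 LD3_c37)) = (LP (LK LD1_c10 LD2_c28 LD3_c16)) :=
  Lre_e IH (LK LD1_c18 LD2_c58 LD3_c37) (LK LD1_c10 LD2_c28 LD3_c16) Lrfl Lrfl
theorem f300420 : Led Lsl_bf (LP (LK LD1_c10 LD2_c14 LD3_c55)) = (LP (LK LD1_c10 LD2_c28 LD3_c16)) :=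
  Lgr Lrot96 (Lpr_et (f300419 IH) (Lpr_bt (f300415 IH) (Lpr_et (f230525 IH) (Lpn (LP (LK LD1_c10 LD2_c28 LD3_c16))))))
theorem f300581 : Led Lsl_ft (LP (LK LD1_c10 LD2_c14 LD3_c55)) = (LP (LK LD1_c10 LD2_c3 LD3_c20)) :=
  Lgr Lrot75 (Lpr_bf (f300420 IH) (Lpr_ff (f299527 IH) (Lpr_bf (f300571 IH) (Lpn (LP (LK LD1_c10 LD2_c3 LD3_c20))))))
theorem f300590 : Led Lsl_ff (LP (LK LD1_c10 LD2_c14 LD3_c55)) = (LP (LK LD1_c10 LD2_c3 LD3_c20)) :=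
  Lgr Lrot3 (Lpr_ft (f300581 IH) (Lpn (LP (LK LD1_c10 LD2_c3 LD3_c20))))
theorem f300430 : Led Lsl_ct (LP (LK LD1_c10 LD2_c14 LD3_c55)) = (LP (LK LD1_c5 LD2_c12 LD3_c18)) :=
  Lre_c IH (LK LD1_c10 LD2_c14 LD3_c55) (LK LD1_c5 LD2_c12 LD3_c18) Lrfl Lrfl
theorem f300577 : Led Lsl_ct (LP (LK LD1_c5 LD2_c6 LD3_c19)) = (LP (LK LD1_c10 LD2_c3 LD3_c20)) :=
  Lre_c IH (LK LD1_c5 LD2_c6 LD3_c19) (LK LD1_c10 LD2_c3 LD3_c20) Lrfl Lrfl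
theorem f300594 : Led Lsl_ft (LP (LK LD1_c5 LD2_c12 LD3_c18)) = (LP (LK LD1_c5 LD2_c6 LD3_c19)) :=
  Lgr Lrot4 (Lpe (f300430 IH) (Lpr_ff (f300590 IH) (Lpe (f300577 IH) (Lpn (LP (LK LD1_c5 LD2_c6 LD3_c19))))))
theorem f300599 : Led Lsl_at (LP (LK LD1_c2 LD2_c32 LD3_c58)) = (LP (LK LD1_c5 LD2_c12 LD3_c18)) :=
  Lre_a IH (LK LD1_c2 LD2_c32 LD3_c58) (LK LD1_c5 LD2_c12 LD3_c18) Lrfl Lrfl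
theorem f169994 : Led Lsl_at (LP (LK LD1_c5 LD2_c6 LD3_c19)) = (LP (LK LD1_c2 LD2_c30 LD3_c25)) :=
  Lre_a IH (LK LD1_c5 LD2_c6 LD3_c19) (LK LD1_c2 LD2_c30 LD3_c25) Lrfl Lrfl
theorem f300600 : Led Lsl_ff (LP (LK LD1_c2 LD2_c32 LD3_c58)) = (LP (LK LD1_c2 LD2_c30 LD3_c25)) :=
  Lgr Lrot30 (Lpr_at (f300599 IH) (Lpr_ft (f300594 IH) (Lpr_at (f169994 IH) (Lpn (LP (LK LD1_c2 LD2_c30 LD3_c25))))))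
theorem f300617 : Led Lsl_ft (LP (LK LD1_c2 LD2_c32 LD3_c58)) = (LP (LK LD1_c2 LD2_c30 LD3_c25)) :=
  Lgr Lrot48 (Lpr_ff (f300600 IH) (Lpn (LP (LK LD1_c2 LD2_c30 LD3_c25))))
theorem f300632 : Led Lsl_et (LP (LK LD1_c5 LD2_c12 LD3_c19)) = (LP (LK LD1_c2 LD2_c32 LD3_c58)) :=
  Lre_e IH (LK LD1_c5 LD2_c12 LD3_c19) (LK LD1_c2 LD2_c32 LD3_c58) Lrfl Lrfl
theorem f300633 : Led Lsl_ft (LP (LK LD1_c10 LD2_c15 LD3_c20)) = (LP (LK LD1_c5 LD2_c12 LD3_c19)) :=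
  Lre_f IH (LK LD1_c10 LD2_c15 LD3_c20) (LK LD1_c5 LD2_c12 LD3_c19) Lrfl Lrfl
theorem f169664 : Led Lsl_et (LP (LK LD1_c2 LD2_c30 LD3_c25)) = (LP (LK LD1_c5 LD2_c6 LD3_c20)) :=
  Lre_e IH (LK LD1_c2 LD2_c30 LD3_c25) (LK LD1_c5 LD2_c6 LD3_c20) Lrfl Lrfl
theorem f300634 : Led Lsl_ft (LP (LK LD1_c5 LD2_c6 LD3_c20)) = (LP (LK LD1_c10 LD2_c3 LD3_c45)) :=
  Lre_f IH (LK LD1_c5 LD2_c6 LD3_c20) (LK LD1_c10 LD2_c3 LD3_c45) Lrfl Lrfl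
theorem f300635 : Led Lsl_ef (LP (LK LD1_c10 LD2_c15 LD3_c20)) = (LP (LK LD1_c10 LD2_c3 LD3_c45)) :=
  Lgr Lrot21 (Lpr_ft (f300633 IH) (Lpr_et (f300632 IH) (Lpr_ft (f300617 IH) (Lpr_et (f169664 IH) (Lpr_ft (f300634 IH) (Lpn (LP (LK LD1_c10 LD2_c3 LD3_c45))))))))
theorem f300653 : Led Lsl_ct (LP (LK LD1_c10 LD2_c15 LD3_c20)) = (LP (LK LD1_c18 LD2_c38 LD3_c51)) :=
  Lre_c IH (LK LD1_c10 LD2_c15 LD3_c20) (LK LD1_c18 LD2_c38 LD3_c51) Lrfl Lrfl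
theorem f300522 : Led Lsl_ct (LP (LK LD1_c18 LD2_c21 LD3_c58)) = (LP (LK LD1_c10 LD2_c3 LD3_c45)) :=
  Lre_c IH (LK LD1_c18 LD2_c21 LD3_c58) (LK LD1_c10 LD2_c3 LD3_c45) Lrfl Lrfl
theorem f300654 : Led Lsl_et (LP (LK LD1_c18 LD2_c38 LD3_c51)) = (LP (LK LD1_c18 LD2_c21 LD3_c58)) :=
  Lgr Lrot158 (Lpe (f300653 IH) (Lpr_ef (f300635 IH) (Lpe (f300522 IH) (Lpn (LP (LK LD1_c18 LD2_c21 LD3_c58))))))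
theorem f300658 : Led Lsl_ef (LP (LK LD1_c18 LD2_c38 LD3_c51)) = (LP (LK LD1_c18 LD2_c21 LD3_c58)) :=
  Lgr Lrot88 (Lpr_et (f300654 IH) (Lpn (LP (LK LD1_c18 LD2_c21 LD3_c58))))
theorem f300389 : Led Lsl_bt (LP (LK LD1_c18 LD2_c38 LD3_c51)) = (LP (LK LD1_c10 LD2_c15 LD3_c0)) :=
  Lre_b IH (LK LD1_c18 LD2_c38 LD3_c51) (LK LD1_c10 LD2_c15 LD3_c0) Lrfl Lrfl
theorem f300503 : Led Lsl_bt (LP (LK LD1_c10 LD2_c3 LD3_c26)) = (LP (LK LD1_c18 LD2_c21 LD3_c58)) :=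
  Lre_b IH (LK LD1_c10 LD2_c3 LD3_c26) (LK LD1_c18 LD2_c21 LD3_c58) Lrfl Lrfl
theorem f300666 : Led Lsl_et (LP (LK LD1_c10 LD2_c15 LD3_c0)) = (LP (LK LD1_c10 LD2_c3 LD3_c26)) :=
  Lgr Lrot74 (Lpe (f300389 IH) (Lpr_ef (f300658 IH) (Lpe (f300503 IH) (Lpn (LP (LK LD1_c10 LD2_c3 LD3_c26))))))
theorem f200244 : Led Lsl_ct (LP (LK LD1_c5 LD2_c12 LD3_c8)) = (LP (LK LD1_c10 LD2_c15 LD3_c0)) :=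
  Lre_c IH (LK LD1_c5 LD2_c12 LD3_c8) (LK LD1_c10 LD2_c15 LD3_c0) Lrfl Lrfl
theorem f300504 : Led Lsl_ct (LP (LK LD1_c10 LD2_c3 LD3_c26)) = (LP (LK LD1_c5 LD2_c6 LD3_c15)) :=
  Lre_c IH (LK LD1_c10 LD2_c3 LD3_c26) (LK LD1_c5 LD2_c6 LD3_c15) Lrfl Lrfl
theorem f300673 : Led Lsl_ef (LP (LK LD1_c5 LD2_c12 LD3_c8)) = (LP (LK LD1_c5 LD2_c6 LD3_c15)) :=
  Lgr Lrot28 (Lpr_ct (f200244 IH) (Lpr_et (f300666 IH) (Lpr_ct (f300504 IH) (Lpn (LP (LK LD1_c5 LD2_c6 LD3_c15))))))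
theorem f300682 : Led Lsl_ft (LP (LK LD1_c2 LD2_c30 LD3_c23)) = (LP (LK LD1_c5 LD2_c6 LD3_c15)) :=
  Lre_f IH (LK LD1_c2 LD2_c30 LD3_c23) (LK LD1_c5 LD2_c6 LD3_c15) Lrfl Lrfl
theorem f300683 : Led Lsl_ft (LP (LK LD1_c1 LD2_c13 LD3_c21)) = (LP (LK LD1_c1 LD2_c12 LD3_c11)) :=
  Lgr Lrot86 (Lpe (f200149 IH) (Lpe (f200260 IH) (Lpr_ef (f300673 IH) (Lpe (f300682 IH) (Lpe (f184623 IH) (Lpn (LP (LK LD1_c1 LD2_c12 LD3_c11))))))))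
theorem f300689 : Led Lsl_ff (LP (LK LD1_c0 LD2_c33 LD3_c60)) = (LP (LK LD1_c0 LD2_c33 LD3_c24)) :=
  Lgr Lrot19 (Lpr_dt (K14.f190319 IH) (Lpr_ft (f300683 IH) (Lpr_dt (f182056 IH) (Lpn (LP (LK LD1_c0 LD2_c33 LD3_c24))))))
theorem f290160 : Led Lsl_ft (LP (LK LD1_c1 LD2_c9 LD3_c11)) = (LP (LK LD1_c1 LD2_c9 LD3_c28)) :=
  Lgr Lrot2 (Lpe (K16.f258313 IH) (Lpr_gt (K17.f290155 IH) (Lpe (K17.f7954 IH) (Lpn (LP (LK LD1_c1 LD2_c9 LD3_c28))))))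
theorem f300695 : Led Lsl_ft (LP (LK LD1_c1 LD2_c15 LD3_c61)) = (LP (LK LD1_c1 LD2_c12 LD3_c12)) :=
  Lgr Lrot86 (Lpe (K14.f184385 IH) (Lpe (f290160 IH) (Lpe (K14.f200145 IH) (Lpr_ff (f300689 IH) (Lpe (K10.f184625 IH) (Lpn (LP (LK LD1_c1 LD2_c12 LD3_c12))))))))
theorem f300701 : Led Lsl_ff (LP (LK LD1_c1 LD2_c15 LD3_c61)) = (LP (LK LD1_c1 LD2_c12 LD3_c12)) :=
  Lgr Lrot3 (Lpr_ft (f300695 IH) (Lpn (LP (LK LD1_c1 LD2_c12 LD3_c12))))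
theorem f289822 : Led Lsl_ff (LP (LK LD1_c0 LD2_c33 LD3_c24)) = (LP (LK LD1_c0 LD2_c33 LD3_c60)) :=
  Lgr Lrot23 (Lpe (K12.f189554 IH) (Lpr_ft (K17.f289820 IH) (Lpr_ct (K10.f192115 IH) (Lpn (LP (LK LD1_c0 LD2_c33 LD3_c60))))))
theorem f300707 : Led Lsl_ft (LP (LK LD1_c1 LD2_c9 LD3_c28)) = (LP (LK LD1_c1 LD2_c9 LD3_c11)) :=
  Lgr Lrot86 (Lpr_ef (K15.f184391 IH) (Lpr_ff (f300701 IH) (Lpe (K10.f189580 IH) (Lpr_ff (f289822 IH) (Lpr_ef (K11.f200138 IH) (Lpn (LP (LK LD1_c1 LD2_c9 LD3_c11))))))))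
theorem f300713 : Led Lsl_ff (LP (LK LD1_c1 LD2_c0 LD3_c27)) = (LP (LK LD1_c0 LD2_c58 LD3_c60)) :=
  Lgr Lrot23 (Lpe (K14.f200387 IH) (Lpr_ft (f300707 IH) (Lpe (K14.f200147 IH) (Lpn (LP (LK LD1_c0 LD2_c58 LD3_c60))))))
theorem f300719 : Led Lsl_gf (LP (LK LD1_c2 LD2_c6 LD3_c57)) = (LP (LK LD1_c2 LD2_c3 LD3_c59)) :=
  Lgr Lrot76 (Lpe (K17.f200622 IH) (Lpr_ff (f300713 IH) (Lpr_gt (K15.f51584 IH) (Lpn (LP (LK LD1_c2 LD2_c3 LD3_c59))))))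
theorem f200627 : Led Lsl_et (LP (LK LD1_c4 LD2_c19 LD3_c8)) = (LP (LK LD1_c2 LD2_c6 LD3_c57)) :=
  Lre_e IH (LK LD1_c4 LD2_c19 LD3_c8) (LK LD1_c2 LD2_c6 LD3_c57) Lrfl Lrfl
theorem f290006 : Led Lsl_dt (LP (LK LD1_c4 LD2_c19 LD3_c8)) = (LP (LK LD1_c8 LD2_c13 LD3_c1)) :=
  Lgr Lrot60 (Lpe (K14.f256120 IH) (Lpe (K14.f250435 IH) (Lpr_ff (K17.f290000 IH) (Lpn (LP (LK LD1_c8 LD2_c13 LD3_c1))))))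
theorem f257970 : Led Lsl_et (LP (LK LD1_c1 LD2_c9 LD3_c50)) = (LP (LK LD1_c2 LD2_c3 LD3_c59)) :=
  Lgr Lrot158 (Lpe (K12.f212504 IH) (Lpe (K14.f220748 IH) (Lpr_cf (K15.f257964 IH) (Lpn (LP (LK LD1_c2 LD2_c3 LD3_c59))))))
theorem f228821 : Led Lsl_gt (LP (LK LD1_c2 LD2_c3 LD3_c53)) = (LP (LK LD1_c0 LD2_c58 LD3_c55)) :=
  Lre_g IH (LK LD1_c2 LD2_c3 LD3_c53) (LK LD1_c0 LD2_c58 LD3_c55) Lrfl Lrfl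
theorem f300731 : Led Lsl_et (LP (LK LD1_c2 LD2_c0 LD3_c25)) = (LP (LK LD1_c2 LD2_c3 LD3_c53)) :=
  Lgr Lrot121 (Lpr_dt (K10.f182211 IH) (Lpe (K17.f182530 IH) (Lpe (f290006 IH) (Lpr_et (f200627 IH) (Lpr_gf (f300719 IH) (Lpe (f257970 IH) (Lpr_dt (K12.f101436 IH) (Lpe (K12.f228684 IH) (Lpr_df (K14.f228810 IH) (Lpe (f228821 IH) (Lpn (LP (LK LD1_c2 LD2_c3 LD3_c53)))))))))))))
theorem f300733 : Led Lsl_ef (LP (LK LD1_c2 LD2_c0 LD3_c25)) = (LP (LK LD1_c2 LD2_c3 LD3_c53)) :=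
  Lgr Lrot88 (Lpr_et (f300731 IH) (Lpn (LP (LK LD1_c2 LD2_c3 LD3_c53))))
theorem f300735 : Led Lsl_bt (LP (LK LD1_c2 LD2_c35 LD3_c23)) = (LP (LK LD1_c2 LD2_c3 LD3_c53)) :=
  Lgr Lrot119 (Lpe (K15.f49171 IH) (Lpr_bf (K10.f191049 IH) (Lpr_ef (f300733 IH) (Lpn (LP (LK LD1_c2 LD2_c3 LD3_c53))))))
theorem f191043 : Led Lsl_cf (LP (LK LD1_c4 LD2_c7 LD3_c31)) = (LP (LK LD1_c2 LD2_c35 LD3_c23)) :=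
  Lgr Lrot39 (Lpr_et (K16.f45067 IH) (Lpr_ct (K10.f191037 IH) (Lpr_et (K15.f49171 IH) (Lpn (LP (LK LD1_c2 LD2_c35 LD3_c23))))))
theorem f190842 : Led Lsl_bt (LP (LK LD1_c0 LD2_c57 LD3_c58)) = (LP (LK LD1_c2 LD2_c1 LD3_c52)) :=
  Lre_b IH (LK LD1_c0 LD2_c57 LD3_c58) (LK LD1_c2 LD2_c1 LD3_c52) Lrfl Lrfl
theorem f191056 : Led Lsl_bt (LP (LK LD1_c4 LD2_c7 LD3_c31)) = (LP (LK LD1_c4 LD2_c5 LD3_c10)) :=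
  Lgr Lrot127 (Lpr_bf (K16.f191054 IH) (Lpn (LP (LK LD1_c4 LD2_c5 LD3_c10))))
theorem f261410 : Led Lsl_gt (LP (LK LD1_c2 LD2_c41 LD3_c10)) = (LP (LK LD1_c2 LD2_c35 LD3_c23)) :=
  Lgr Lrot94 (Lpe (K15.f245893 IH) (Lpr_gt (K15.f261404 IH) (Lpe (K10.f48190 IH) (Lpr_gt (K10.f804 IH) (Lpr_dt (K13.f782 IH) (Lpe (K10.f48250 IH) (Lpe (K11.f45084 IH) (Lpe (K12.f217485 IH) (Lpr_df (K15.f217493 IH) (Lpn (LP (LK LD1_c2 LD2_c35 LD3_c23))))))))))))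
theorem f179755 : Led Lsl_bt (LP (LK LD1_c1 LD2_c9 LD3_c10)) = (LP (LK LD1_c0 LD2_c31 LD3_c38)) :=
  Lre_b IH (LK LD1_c1 LD2_c9 LD3_c10) (LK LD1_c0 LD2_c31 LD3_c38) Lrfl Lrfl
theorem f219320 : Led Lsl_ct (LP (LK LD1_c4 LD2_c8 LD3_c56)) = (LP (LK LD1_c2 LD2_c1 LD3_c52)) :=
  Lre_c IH (LK LD1_c4 LD2_c8 LD3_c56) (LK LD1_c2 LD2_c1 LD3_c52) Lrfl Lrfl
theorem f266807 : Led Lsl_gf (LP (LK LD1_c2 LD2_c24 LD3_c11)) = (LP (LK LD1_c2 LD2_c1 LD3_c52)) :=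
  Lgr Lrot129 (Lpe (K16.f179756 IH) (Lpr_bt (f179755 IH) (Lpr_gt (K13.f245889 IH) (Lpe (K13.f236376 IH) (Lpr_ct (K15.f245893 IH) (Lpr_gt (f261410 IH) (Lpr_cf (K16.f262867 IH) (Lpr_bt (f191056 IH) (Lpr_gt (K15.f266805 IH) (Lpr_ct (f219320 IH) (Lpn (LP (LK LD1_c2 LD2_c1 LD3_c52)))))))))))))
theorem f211440 : Led Lsl_ct (LP (LK LD1_c2 LD2_c24 LD3_c11)) = (LP (LK LD1_c1 LD2_c9 LD3_c10)) :=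
  Lre_c IH (LK LD1_c2 LD2_c24 LD3_c11) (LK LD1_c1 LD2_c9 LD3_c10) Lrfl Lrfl
theorem f253921 : Led Lsl_gt (LP (LK LD1_c4 LD2_c12 LD3_c61)) = (LP (LK LD1_c2 LD2_c3 LD3_c53)) :=
  Lre_g IH (LK LD1_c4 LD2_c12 LD3_c61) (LK LD1_c2 LD2_c3 LD3_c53) Lrfl Lrfl
theorem f221680 : Led Lsl_bt (LP (LK LD1_c3 LD2_c58 LD3_c16)) = (LP (LK LD1_c2 LD2_c25 LD3_c20)) :=
  Lgr Lrot127 (Lpr_bf (K15.f221678 IH) (Lpn (LP (LK LD1_c2 LD2_c25 LD3_c20))))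
theorem f235768 : Led Lsl_ff (LP (LK LD1_c4 LD2_c30 LD3_c52)) = (LP (LK LD1_c2 LD2_c25 LD3_c20)) :=
  Lgr Lrot52 (Lpr_at (K14.f235767 IH) (Lpr_gf (K13.f235749 IH) (Lpe (K14.f218560 IH) (Lpn (LP (LK LD1_c2 LD2_c25 LD3_c20))))))
theorem f254162 : Led Lsl_bf (LP (LK LD1_c2 LD2_c44 LD3_c7)) = (LP (LK LD1_c4 LD2_c30 LD3_c52)) :=
  Lgr Lrot61 (Lpr_ft (K14.f254133 IH) (Lpr_bt (f221680 IH) (Lpe (f235768 IH) (Lpn (LP (LK LD1_c4 LD2_c30 LD3_c52))))))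
theorem f266867 : Led Lsl_bf (LP (LK LD1_c4 LD2_c12 LD3_c61)) = (LP (LK LD1_c4 LD2_c19 LD3_c26)) :=
  Lgr Lrot93 (Lpr_dt (K14.f253930 IH) (Lpe (f254162 IH) (Lpr_dt (K15.f266820 IH) (Lpn (LP (LK LD1_c4 LD2_c19 LD3_c26))))))
theorem f300740 : Led Lsl_cf (LP (LK LD1_c2 LD2_c24 LD3_c12)) = (LP (LK LD1_c4 LD2_c19 LD3_c26)) :=
  Lgr Lrot163 (Lpe (K14.f1705 IH) (Lpe (f211440 IH) (Lpr_gf (f266807 IH) (Lpe (f190842 IH) (Lpr_ct (K17.f190838 IH) (Lpe (K16.f259711 IH) (Lpr_cf (f191043 IH) (Lpr_bt (f300735 IH) (Lpe (f253921 IH) (Lpr_bf (f266867 IH) (Lpn (LP (LK LD1_c4 LD2_c19 LD3_c26)))))))))))))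
theorem f200628 : Led Lsl_et (LP (LK LD1_c2 LD2_c6 LD3_c57)) = (LP (LK LD1_c4 LD2_c19 LD3_c8)) :=
  Lre_e IH (LK LD1_c2 LD2_c6 LD3_c57) (LK LD1_c4 LD2_c19 LD3_c8) Lrfl Lrfl
theorem f284092 : Led Lsl_bt (LP (LK LD1_c2 LD2_c3 LD3_c43)) = (LP (LK LD1_c2 LD2_c6 LD3_c57)) :=
  Lgr Lrot119 (Lpr_ef (K16.f180055 IH) (Lpr_bf (K17.f284086 IH) (Lpe (f200628 IH) (Lpn (LP (LK LD1_c2 LD2_c6 LD3_c57))))))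
theorem f257966 : Led Lsl_bt (LP (LK LD1_c4 LD2_c8 LD3_c56)) = (LP (LK LD1_c2 LD2_c3 LD3_c59)) :=
  Lgr Lrot128 (Lpe (K15.f219300 IH) (Lpe (f190842 IH) (Lpe (K15.f190836 IH) (Lpe (f229604 IH) (Lpr_cf (K15.f257964 IH) (Lpn (LP (LK LD1_c2 LD2_c3 LD3_c59))))))))
theorem f300727 : Led Lsl_gt (LP (LK LD1_c2 LD2_c24 LD3_c12)) = (LP (LK LD1_c2 LD2_c10 LD3_c49)) :=
  Lgr Lrot82 (Lpe (K14.f178978 IH) (Lpr_ct (K14.f253261 IH) (Lpe (K14.f246149 IH) (Lpe (K16.f276638 IH) (Lpr_bt (f284092 IH) (Lpr_gf (f300719 IH) (Lpe (f257966 IH) (Lpr_ct (f219320 IH) (Lpr_gf (K16.f276675 IH) (Lpr_cf (K16.f187543 IH) (Lpn (LP (LK LD1_c2 LD2_c10 LD3_c49)))))))))))))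
theorem f300756 : Led Lsl_dt (LP (LK LD1_c2 LD2_c37 LD3_c20)) = (LP (LK LD1_c4 LD2_c3 LD3_c61)) :=
  Lgr Lrot27 (Lpr_cf (K16.f187543 IH) (Lpe (f300727 IH) (Lpr_cf (f300740 IH) (Lpe (K15.f254172 IH) (Lpe (K15.f266870 IH) (Lpr_gt (K12.f41248 IH) (Lpr_ct (K12.f41233 IH) (Lpr_gt (K17.f41149 IH) (Lpe (K17.f290764 IH) (Lpn (LP (LK LD1_c4 LD2_c3 LD3_c61))))))))))))
theorem f300771 : Led Lsl_gt (LP (LK LD1_c4 LD2_c10 LD3_c4)) = (LP (LK LD1_c4 LD2_c3 LD3_c61)) :=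
  Lgr Lrot112 (Lpe (K16.f170856 IH) (Lpe (K12.f212810 IH) (Lpe (K12.f170855 IH) (Lpe (K9.f170686 IH) (Lpr_dt (K14.f170685 IH) (Lpe (K10.f188002 IH) (Lpe (K9.f50103 IH) (Lpr_gf (K10.f188006 IH) (Lpe (K16.f187541 IH) (Lpr_dt (f300756 IH) (Lpn (LP (LK LD1_c4 LD2_c3 LD3_c61)))))))))))))
theorem f290571 : Led Lsl_ct (LP (LK LD1_c4 LD2_c11 LD3_c6)) = (LP (LK LD1_c7 LD2_c58 LD3_c30)) :=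
  Lgr Lrot7 (Lpe (K17.f219791 IH) (Lpe (K12.f51529 IH) (Lpr_df (K16.f275447 IH) (Lpr_gf (K17.f290567 IH) (Lpr_cf (K17.f275415 IH) (Lpe (K16.f42712 IH) (Lpr_dt (K12.f42705 IH) (Lpr_gt (K17.f41149 IH) (Lpr_dt (K17.f41150 IH) (Lpn (LP (LK LD1_c7 LD2_c58 LD3_c30))))))))))))
theorem f215462 : Led Lsl_et (LP (LK LD1_c0 LD2_c58 LD3_c19)) = (LP (LK LD1_c2 LD2_c2 LD3_c50)) :=
  Lre_e IH (LK LD1_c0 LD2_c58 LD3_c19) (LK LD1_c2 LD2_c2 LD3_c50) Lrfl Lrfl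
theorem f278517 : Led Lsl_ef (LP (LK LD1_c1 LD2_c9 LD3_c10)) = (LP (LK LD1_c2 LD2_c11 LD3_c7)) :=
  Lgr Lrot73 (Lpr_dt (K16.f278510 IH) (Lpr_et (f215462 IH) (Lpr_dt (K16.f215461 IH) (Lpe (K16.f215456 IH) (Lpr_dt (K16.f275192 IH) (Lpn (LP (LK LD1_c2 LD2_c11 LD3_c7))))))))
theorem f288765 : Led Lsl_ft (LP (LK LD1_c1 LD2_c9 LD3_c10)) = (LP (LK LD1_c1 LD2_c9 LD3_c29)) :=
  Lgr Lrot86 (Lpr_ef (f278517 IH) (Lpe (K17.f288584 IH) (Lpe (K14.f246150 IH) (Lpr_ff (K17.f288757 IH) (Lpe (K13.f165194 IH) (Lpn (LP (LK LD1_c1 LD2_c9 LD3_c29))))))))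
theorem f288755 : Led Lsl_af (LP (LK LD1_c2 LD2_c10 LD3_c49)) = (LP (LK LD1_c1 LD2_c9 LD3_c29)) :=
  Lgr Lrot50 (Lpr_et (K17.f44055 IH) (Lpr_at (K17.f288747 IH) (Lpe (K11.f165189 IH) (Lpn (LP (LK LD1_c1 LD2_c9 LD3_c29))))))
theorem f187545 : Led Lsl_ct (LP (LK LD1_c2 LD2_c37 LD3_c20)) = (LP (LK LD1_c2 LD2_c10 LD3_c49)) :=
  Lgr Lrot59 (Lpr_cf (K16.f187543 IH) (Lpn (LP (LK LD1_c2 LD2_c10 LD3_c49))))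
theorem f290777 : Led Lsl_dt (LP (LK LD1_c4 LD2_c3 LD3_c61)) = (LP (LK LD1_c2 LD2_c37 LD3_c20)) :=
  Lgr Lrot120 (Lpr_cf (K17.f290764 IH) (Lpe (f43145 IH) (Lpe (f290571 IH) (Lpe (K17.f219791 IH) (Lpe (K12.f51528 IH) (Lpe (K16.f278510 IH) (Lpr_ft (f288765 IH) (Lpe (f288755 IH) (Lpe (f187545 IH) (Lpn (LP (LK LD1_c2 LD2_c37 LD3_c20))))))))))))
theorem f290773 : Led Lsl_ct (LP (LK LD1_c4 LD2_c3 LD3_c61)) = (LP (LK LD1_c3 LD2_c58 LD3_c31)) :=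
  Lgr Lrot59 (Lpr_cf (K17.f290764 IH) (Lpn (LP (LK LD1_c3 LD2_c58 LD3_c31))))
theorem f51525 : Led Lsl_dt (LP (LK LD1_c4 LD2_c11 LD3_c6)) = (LP (LK LD1_c2 LD2_c2 LD3_c49)) :=
  Lre_d IH (LK LD1_c4 LD2_c11 LD3_c6) (LK LD1_c2 LD2_c2 LD3_c49) Lrfl Lrfl
theorem f219788 : Led Lsl_at (LP (LK LD1_c2 LD2_c2 LD3_c48)) = (LP (LK LD1_c0 LD2_c58 LD3_c19)) :=
  Lre_a IH (LK LD1_c2 LD2_c2 LD3_c48) (LK LD1_c0 LD2_c58 LD3_c19) Lrfl Lrfl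
theorem f288833 : Led Lsl_ct (LP (LK LD1_c4 LD2_c17 LD3_c60)) = (LP (LK LD1_c2 LD2_c6 LD3_c18)) :=
  Lre_c IH (LK LD1_c4 LD2_c17 LD3_c60) (LK LD1_c2 LD2_c6 LD3_c18) Lrfl Lrfl
theorem f288834 : Led Lsl_ff (LP (LK LD1_c2 LD2_c2 LD3_c48)) = (LP (LK LD1_c2 LD2_c6 LD3_c18)) :=
  Lgr Lrot23 (Lpr_ct (K17.f288808 IH) (Lpr_ft (K17.f288822 IH) (Lpr_ct (f288833 IH) (Lpn (LP (LK LD1_c2 LD2_c6 LD3_c18))))))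
theorem f300766 : Led Lsl_df (LP (LK LD1_c2 LD2_c10 LD3_c49)) = (LP (LK LD1_c2 LD2_c6 LD3_c18)) :=
  Lgr Lrot157 (Lpe (K16.f187543 IH) (Lpr_dt (f300756 IH) (Lpr_ct (f290773 IH) (Lpr_dt (K17.f41150 IH) (Lpe (K17.f290573 IH) (Lpr_dt (f51525 IH) (Lpr_ct (K16.f51524 IH) (Lpe (f219788 IH) (Lpr_ff (f288834 IH) (Lpn (LP (LK LD1_c2 LD2_c6 LD3_c18))))))))))))
theorem f300773 : Led Lsl_gt (LP (LK LD1_c2 LD2_c2 LD3_c12)) = (LP (LK LD1_c2 LD2_c6 LD3_c18)) :=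
  Lgr Lrot49 (Lpe (K12.f170850 IH) (Lpe (K12.f170616 IH) (Lpe (K9.f53444 IH) (Lpr_gt (K12.f170855 IH) (Lpr_dt (K16.f170856 IH) (Lpr_gt (f300771 IH) (Lpr_dt (f290777 IH) (Lpr_cf (K16.f187543 IH) (Lpr_df (f300766 IH) (Lpn (LP (LK LD1_c2 LD2_c6 LD3_c18))))))))))))
theorem f300790 : Led Lsl_dt (LP (LK LD1_c2 LD2_c10 LD3_c49)) = (LP (LK LD1_c2 LD2_c6 LD3_c18)) :=
  Lgr Lrot56 (Lpr_et (K17.f44055 IH) (Lpe (K10.f46163 IH) (Lpr_ef (K1.f46080 IH) (Lpr_dt (K1.f46078 IH) (Lpr_gt (K9.f182206 IH) (Lpe (K9.f178701 IH) (Lpr_et (K9.f178724 IH) (Lpr_gt (K12.f170616 IH) (Lpr_dt (K12.f170850 IH) (Lpr_gt (f300773 IH) (Lpn (LP (LK LD1_c2 LD2_c6 LD3_c18)))))))))))))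
theorem f300782 : Led Lsl_gf (LP (LK LD1_c1 LD2_c15 LD3_c36)) = (LP (LK LD1_c2 LD2_c6 LD3_c18)) :=
  Lgr Lrot76 (Lpr_af (K12.f42636 IH) (Lpr_ff (K12.f219162 IH) (Lpr_gt (f300773 IH) (Lpn (LP (LK LD1_c2 LD2_c6 LD3_c18))))))
theorem f300805 : Led Lsl_ef (LP (LK LD1_c2 LD2_c24 LD3_c12)) = (LP (LK LD1_c2 LD2_c11 LD3_c9)) :=
  Lgr Lrot167 (Lpr_gt (f300727 IH) (Lpr_dt (f300790 IH) (Lpe (f300782 IH) (Lpe (K9.f41536 IH) (Lpr_et (K16.f41535 IH) (Lpr_gt (K1.f8284 IH) (Lpe (K11.f47948 IH) (Lpr_dt (K11.f46469 IH) (Lpr_gt (K10.f187512 IH) (Lpe (K14.f256304 IH) (Lpn (LP (LK LD1_c2 LD2_c11 LD3_c9)))))))))))))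
theorem f276736 : Led Lsl_df (LP (LK LD1_c2 LD2_c37 LD3_c29)) = (LP (LK LD1_c4 LD2_c17 LD3_c19)) :=
  Lgr Lrot38 (Lpr_dt (K16.f276729 IH) (Lpn (LP (LK LD1_c4 LD2_c17 LD3_c19))))
theorem f300807 : Led Lsl_dt (LP (LK LD1_c2 LD2_c24 LD3_c12)) = (LP (LK LD1_c2 LD2_c5 LD3_c61)) :=
  Lgr Lrot77 (Lpr_ef (f300805 IH) (Lpr_df (K14.f253291 IH) (Lpe (K14.f41516 IH) (Lpr_df (f276736 IH) (Lpe (K16.f276719 IH) (Lpn (LP (LK LD1_c2 LD2_c5 LD3_c61))))))))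
theorem f300817 : Led Lsl_gf (LP (LK LD1_c2 LD2_c2 LD3_c13)) = (LP (LK LD1_c2 LD2_c5 LD3_c61)) :=
  Lgr Lrot134 (Lpe (K12.f231108 IH) (Lpr_et (K14.f247416 IH) (Lpe (K15.f247629 IH) (Lpe (K14.f194148 IH) (Lpr_dt (K14.f41526 IH) (Lpe (K15.f215447 IH) (Lpr_df (K16.f275248 IH) (Lpe (f278517 IH) (Lpr_gt (K14.f1705 IH) (Lpr_dt (f300807 IH) (Lpn (LP (LK LD1_c2 LD2_c5 LD3_c61)))))))))))))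
theorem f230316 : Led Lsl_ct (LP (LK LD1_c2 LD2_c5 LD3_c39)) = (LP (LK LD1_c4 LD2_c16 LD3_c44)) :=
  Lre_c IH (LK LD1_c2 LD2_c5 LD3_c39) (LK LD1_c4 LD2_c16 LD3_c44) Lrfl Lrfl
theorem f300830 : Led Lsl_gt (LP (LK LD1_c4 LD2_c16 LD3_c44)) = (LP (LK LD1_c4 LD2_c10 LD3_c45)) :=
  Lgr Lrot65 (Lpe (f230316 IH) (Lpr_bt (K12.f230946 IH) (Lpr_gf (f300817 IH) (Lpe (K15.f166490 IH) (Lpe (K15.f166491 IH) (Lpe (K16.f274881 IH) (Lpe (K15.f261093 IH) (Lpr_gf (K15.f261075 IH) (Lpe (K15.f167086 IH) (Lpe (K15.f167087 IH) (Lpn (LP (LK LD1_c4 LD2_c10 LD3_c45)))))))))))))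
theorem f179732 : Led Lsl_gt (LP (LK LD1_c4 LD2_c18 LD3_c48)) = (LP (LK LD1_c2 LD2_c6 LD3_c41)) :=
  Lre_g IH (LK LD1_c4 LD2_c18 LD3_c48) (LK LD1_c2 LD2_c6 LD3_c41) Lrfl Lrfl
theorem f251937 : Led Lsl_gf (LP (LK LD1_c4 LD2_c18 LD3_c48)) = (LP (LK LD1_c4 LD2_c12 LD3_c58)) :=
  Lgr Lrot47 (Lpr_gt (f179732 IH) (Lpe (K14.f251922 IH) (Lpr_ff (K14.f251923 IH) (Lpn (LP (LK LD1_c4 LD2_c12 LD3_c58))))))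
theorem f179730 : Led Lsl_bt (LP (LK LD1_c1 LD2_c0 LD3_c18)) = (LP (LK LD1_c0 LD2_c27 LD3_c24)) :=
  Lre_b IH (LK LD1_c1 LD2_c0 LD3_c18) (LK LD1_c0 LD2_c27 LD3_c24) Lrfl Lrfl
theorem f167210 : Led Lsl_gt (LP (LK LD1_c0 LD2_c58 LD3_c13)) = (LP (LK LD1_c2 LD2_c2 LD3_c37)) :=
  Lre_g IH (LK LD1_c0 LD2_c58 LD3_c13) (LK LD1_c2 LD2_c2 LD3_c37) Lrfl Lrfl
theorem f179733 : Led Lsl_bt (LP (LK LD1_c4 LD2_c10 LD3_c41)) = (LP (LK LD1_c2 LD2_c2 LD3_c37)) :=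
  Lre_b IH (LK LD1_c4 LD2_c10 LD3_c41) (LK LD1_c2 LD2_c2 LD3_c37) Lrfl Lrfl
theorem f179734 : Led Lsl_cf (LP (LK LD1_c4 LD2_c18 LD3_c48)) = (LP (LK LD1_c4 LD2_c10 LD3_c41)) :=
  Lgr Lrot160 (Lpr_gt (f179732 IH) (Lpe (K14.f179731 IH) (Lpr_bt (f179730 IH) (Lpr_gt (K9.f171190 IH) (Lpr_ct (K9.f170074 IH) (Lpr_gt (K9.f179719 IH) (Lpe (K9.f53460 IH) (Lpr_bt (f170866 IH) (Lpr_gt (f167210 IH) (Lpe (f179733 IH) (Lpn (LP (LK LD1_c4 LD2_c10 LD3_c41)))))))))))))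
theorem f300840 : Led Lsl_gf (LP (LK LD1_c2 LD2_c5 LD3_c39)) = (LP (LK LD1_c2 LD2_c2 LD3_c37)) :=
  Lgr Lrot181 (Lpr_ct (f230316 IH) (Lpr_gt (f300830 IH) (Lpr_cf (K15.f167087 IH) (Lpr_bt (K15.f167086 IH) (Lpe (K15.f261075 IH) (Lpr_bf (K15.f261119 IH) (Lpr_ct (K14.f251907 IH) (Lpe (f251937 IH) (Lpr_cf (f179734 IH) (Lpr_bt (f179733 IH) (Lpn (LP (LK LD1_c2 LD2_c2 LD3_c37)))))))))))))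
theorem f300847 : Led Lsl_dt (LP (LK LD1_c2 LD2_c24 LD3_c42)) = (LP (LK LD1_c2 LD2_c2 LD3_c37)) :=
  Lgr Lrot57 (Lpe (K14.f6919 IH) (Lpr_cf (K14.f200387 IH) (Lpr_gt (K14.f200612 IH) (Lpr_dt (K14.f255928 IH) (Lpe (K14.f246680 IH) (Lpr_dt (K14.f230313 IH) (Lpr_cf (K14.f187057 IH) (Lpe (K14.f230318 IH) (Lpr_gf (f300840 IH) (Lpn (LP (LK LD1_c2 LD2_c2 LD3_c37))))))))))))
theorem f300857 : Led Lsl_ff (LP (LK LD1_c2 LD2_c5 LD3_c41)) = (LP (LK LD1_c2 LD2_c2 LD3_c37)) :=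
  Lgr Lrot19 (Lpr_dt (K16.f184249 IH) (Lpr_ft (K17.f283294 IH) (Lpr_dt (f300847 IH) (Lpn (LP (LK LD1_c2 LD2_c2 LD3_c37))))))
theorem f300865 : Led Lsl_at (LP (LK LD1_c2 LD2_c5 LD3_c41)) = (LP (LK LD1_c1 LD2_c16 LD3_c10)) :=
  Lgr Lrot26 (Lpr_ff (f300857 IH) (Lpe (f300840 IH) (Lpe (K14.f255681 IH) (Lpn (LP (LK LD1_c1 LD2_c16 LD3_c10))))))
theorem f255993 : Led Lsl_et (LP (LK LD1_c1 LD2_c16 LD3_c10)) = (LP (LK LD1_c2 LD2_c38 LD3_c29)) :=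
  Lre_e IH (LK LD1_c1 LD2_c16 LD3_c10) (LK LD1_c2 LD2_c38 LD3_c29) Lrfl Lrfl
theorem f300871 : Led Lsl_af (LP (LK LD1_c4 LD2_c16 LD3_c47)) = (LP (LK LD1_c2 LD2_c38 LD3_c29)) :=
  Lgr Lrot50 (Lpr_et (K16.f169421 IH) (Lpr_at (f300865 IH) (Lpr_et (f255993 IH) (Lpn (LP (LK LD1_c2 LD2_c38 LD3_c29))))))
theorem f184269 : Led Lsl_ft (LP (LK LD1_c4 LD2_c16 LD3_c47)) = (LP (LK LD1_c8 LD2_c32 LD3_c56)) :=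
  Lre_f IH (LK LD1_c4 LD2_c16 LD3_c47) (LK LD1_c8 LD2_c32 LD3_c56) Lrfl Lrfl
theorem f300879 : Led Lsl_ft (LP (LK LD1_c5 LD2_c23 LD3_c56)) = (LP (LK LD1_c2 LD2_c38 LD3_c29)) :=
  Lre_f IH (LK LD1_c5 LD2_c23 LD3_c56) (LK LD1_c2 LD2_c38 LD3_c29) Lrfl Lrfl
theorem f300880 : Led Lsl_at (LP (LK LD1_c8 LD2_c32 LD3_c56)) = (LP (LK LD1_c5 LD2_c23 LD3_c56)) :=
  Lgr Lrot66 (Lpe (f184269 IH) (Lpr_af (f300871 IH) (Lpe (f300879 IH) (Lpn (LP (LK LD1_c5 LD2_c23 LD3_c56))))))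
theorem f300895 : Led Lsl_gt (LP (LK LD1_c8 LD2_c32 LD3_c54)) = (LP (LK LD1_c5 LD2_c23 LD3_c56)) :=
  Lgr Lrot46 (Lpe (K16.f184273 IH) (Lpr_ft (f184269 IH) (Lpr_at (f300880 IH) (Lpn (LP (LK LD1_c5 LD2_c23 LD3_c56))))))
theorem f300884 : Led Lsl_dt (LP (LK LD1_c5 LD2_c23 LD3_c56)) = (LP (LK LD1_c2 LD2_c38 LD3_c30)) :=
  Lre_d IH (LK LD1_c5 LD2_c23 LD3_c56) (LK LD1_c2 LD2_c38 LD3_c30) Lrfl Lrfl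
theorem f300902 : Led Lsl_gf (LP (LK LD1_c4 LD2_c11 LD3_c10)) = (LP (LK LD1_c2 LD2_c38 LD3_c30)) :=
  Lgr Lrot134 (Lpe (K16.f215461 IH) (Lpr_et (K16.f215546 IH) (Lpr_gt (K12.f219779 IH) (Lpe (K13.f219203 IH) (Lpr_dt (K13.f219210 IH) (Lpr_gt (K16.f184461 IH) (Lpe (K16.f184475 IH) (Lpe (K16.f258322 IH) (Lpr_gt (f300895 IH) (Lpr_dt (f300884 IH) (Lpn (LP (LK LD1_c2 LD2_c38 LD3_c30)))))))))))))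
theorem f167683 : Led Lsl_ct (LP (LK LD1_c2 LD2_c2 LD3_c55)) = (LP (LK LD1_c4 LD2_c11 LD3_c23)) :=
  Lre_c IH (LK LD1_c2 LD2_c2 LD3_c55) (LK LD1_c4 LD2_c11 LD3_c23) Lrfl Lrfl
theorem f226040 : Led Lsl_gf (LP (LK LD1_c5 LD2_c6 LD3_c40)) = (LP (LK LD1_c2 LD2_c59 LD3_c23)) :=
  Lgr Lrot147 (Lpr_ct (K14.f166155 IH) (Lpr_gt (K13.f226036 IH) (Lpe (K13.f183421 IH) (Lpe (K13.f183340 IH) (Lpe (K9.f183339 IH) (Lpr_gf (K9.f183352 IH) (Lpe (K9.f8494 IH) (Lpr_gf (K11.f198810 IH) (Lpe (K11.f177429 IH) (Lpn (LP (LK LD1_c2 LD2_c59 LD3_c23))))))))))))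
theorem f167682 : Led Lsl_ct (LP (LK LD1_c4 LD2_c11 LD3_c23)) = (LP (LK LD1_c2 LD2_c2 LD3_c55)) :=
  Lre_c IH (LK LD1_c4 LD2_c11 LD3_c23) (LK LD1_c2 LD2_c2 LD3_c55) Lrfl Lrfl
theorem f195716 : Led Lsl_et (LP (LK LD1_c2 LD2_c39 LD3_c22)) = (LP (LK LD1_c4 LD2_c11 LD3_c23)) :=
  Lgr Lrot158 (Lpe (K12.f195594 IH) (Lpr_ef (K16.f195714 IH) (Lpe (f167682 IH) (Lpn (LP (LK LD1_c4 LD2_c11 LD3_c23))))))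
theorem f187563 : Led Lsl_et (LP (LK LD1_c0 LD2_c35 LD3_c30)) = (LP (LK LD1_c0 LD2_c16 LD3_c2)) :=
  Lre_e IH (LK LD1_c0 LD2_c35 LD3_c30) (LK LD1_c0 LD2_c16 LD3_c2) Lrfl Lrfl
theorem f195783 : Led Lsl_at (LP (LK LD1_c0 LD2_c16 LD3_c2)) = (LP (LK LD1_c0 LD2_c28 LD3_c43)) :=
  Lre_a IH (LK LD1_c0 LD2_c16 LD3_c2) (LK LD1_c0 LD2_c28 LD3_c43) Lrfl Lrfl
theorem f195784 : Led Lsl_ef (LP (LK LD1_c0 LD2_c39 LD3_c21)) = (LP (LK LD1_c0 LD2_c28 LD3_c43)) :=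
  Lgr Lrot20 (Lpr_at (K10.f195401 IH) (Lpr_et (f187563 IH) (Lpr_at (f195783 IH) (Lpn (LP (LK LD1_c0 LD2_c28 LD3_c43))))))
theorem f225701 : Led Lsl_df (LP (LK LD1_c2 LD2_c12 LD3_c16)) = (LP (LK LD1_c1 LD2_c3 LD3_c23)) :=
  Lgr Lrot43 (Lpe (K12.f225160 IH) (Lpr_dt (K12.f174912 IH) (Lpr_ct (K12.f20696 IH) (Lpr_dt (K9.f20665 IH) (Lpr_ct (K9.f20811 IH) (Lpr_dt (K9.f167837 IH) (Lpr_ct (K12.f167839 IH) (Lpr_dt (K12.f225241 IH) (Lpr_ct (K9.f173081 IH) (Lpr_dt (K9.f168831 IH) (Lpr_ct (K9.f20590 IH) (Lpr_dt (K0.f20233 IH) (Lpr_ct (K9.f174915 IH) (Lpr_dt (K13.f174974 IH) (Lpr_ct (K12.f175034 IH) (Lpn (LP (LK LD1_c1 LD2_c3 LD3_c23))))))))))))))))))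
theorem f226043 : Led Lsl_et (LP (LK LD1_c1 LD2_c3 LD3_c23)) = (LP (LK LD1_c2 LD2_c12 LD3_c45)) :=
  Lre_e IH (LK LD1_c1 LD2_c3 LD3_c23) (LK LD1_c2 LD2_c12 LD3_c45) Lrfl Lrfl
theorem f226044 : Led Lsl_gt (LP (LK LD1_c4 LD2_c11 LD3_c23)) = (LP (LK LD1_c2 LD2_c12 LD3_c45)) :=
  Lgr Lrot131 (Lpe (f195716 IH) (Lpe (K14.f198712 IH) (Lpr_gf (f226040 IH) (Lpe (K11.f177410 IH) (Lpe (K11.f177409 IH) (Lpr_ef (f195784 IH) (Lpr_dt (K12.f9214 IH) (Lpe (K15.f9236 IH) (Lpr_df (f225701 IH) (Lpr_et (f226043 IH) (Lpn (LP (LK LD1_c2 LD2_c12 LD3_c45)))))))))))))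
theorem f226050 : Led Lsl_ct (LP (LK LD1_c1 LD2_c3 LD3_c24)) = (LP (LK LD1_c2 LD2_c12 LD3_c45)) :=
  Lre_c IH (LK LD1_c1 LD2_c3 LD3_c24) (LK LD1_c2 LD2_c12 LD3_c45) Lrfl Lrfl
theorem f212610 : Led Lsl_bt (LP (LK LD1_c1 LD2_c3 LD3_c24)) = (LP (LK LD1_c2 LD2_c12 LD3_c41)) :=
  Lre_b IH (LK LD1_c1 LD2_c3 LD3_c24) (LK LD1_c2 LD2_c12 LD3_c41) Lrfl Lrfl
theorem f212577 : Led Lsl_ct (LP (LK LD1_c4 LD2_c31 LD3_c28)) = (LP (LK LD1_c9 LD2_c0 LD3_c57)) :=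
  Lre_c IH (LK LD1_c4 LD2_c31 LD3_c28) (LK LD1_c9 LD2_c0 LD3_c57) Lrfl Lrfl
theorem f279497 : Led Lsl_bt (LP (LK LD1_c5 LD2_c23 LD3_c32)) = (LP (LK LD1_c2 LD2_c38 LD3_c30)) :=
  Lre_b IH (LK LD1_c5 LD2_c23 LD3_c32) (LK LD1_c2 LD2_c38 LD3_c30) Lrfl Lrfl
theorem f255800 : Led Lsl_ct (LP (LK LD1_c5 LD2_c23 LD3_c32)) = (LP (LK LD1_c10 LD2_c37 LD3_c31)) :=
  Lre_c IH (LK LD1_c5 LD2_c23 LD3_c32) (LK LD1_c10 LD2_c37 LD3_c31) Lrfl Lrfl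
theorem f300913 : Led Lsl_gt (LP (LK LD1_c9 LD2_c0 LD3_c57)) = (LP (LK LD1_c10 LD2_c37 LD3_c31)) :=
  Lgr Lrot149 (Lpe (f212577 IH) (Lpe (K13.f212570 IH) (Lpe (f212610 IH) (Lpr_ct (f226050 IH) (Lpe (f226044 IH) (Lpe (f167683 IH) (Lpr_bt (K16.f195721 IH) (Lpr_gf (f300902 IH) (Lpe (f279497 IH) (Lpr_ct (f255800 IH) (Lpn (LP (LK LD1_c10 LD2_c37 LD3_c31)))))))))))))
theorem f239856 : Led Lsl_bt (LP (LK LD1_c9 LD2_c37 LD3_c44)) = (LP (LK LD1_c4 LD2_c52 LD3_c57)) :=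
  Lre_b IH (LK LD1_c9 LD2_c37 LD3_c44) (LK LD1_c4 LD2_c52 LD3_c57) Lrfl Lrfl
theorem f263580 : Led Lsl_bt (LP (LK LD1_c4 LD2_c31 LD3_c28)) = (LP (LK LD1_c8 LD2_c18 LD3_c9)) :=
  Lgr Lrot35 (Lpr_ff (K15.f239851 IH) (Lpe (f239856 IH) (Lpr_ff (K15.f263578 IH) (Lpn (LP (LK LD1_c8 LD2_c18 LD3_c9))))))
theorem f229585 : Led Lsl_bt (LP (LK LD1_c8 LD2_c18 LD3_c6)) = (LP (LK LD1_c4 LD2_c9 LD3_c3)) :=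
  Lre_b IH (LK LD1_c8 LD2_c18 LD3_c6) (LK LD1_c4 LD2_c9 LD3_c3) Lrfl Lrfl
theorem f229589 : Led Lsl_ct (LP (LK LD1_c8 LD2_c18 LD3_c6)) = (LP (LK LD1_c15 LD2_c36 LD3_c42)) :=
  Lre_c IH (LK LD1_c8 LD2_c18 LD3_c6) (LK LD1_c15 LD2_c36 LD3_c42) Lrfl Lrfl
theorem f167692 : Led Lsl_ct (LP (LK LD1_c4 LD2_c11 LD3_c10)) = (LP (LK LD1_c8 LD2_c22 LD3_c20)) :=
  Lre_c IH (LK LD1_c4 LD2_c11 LD3_c10) (LK LD1_c8 LD2_c22 LD3_c20) Lrfl Lrfl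
theorem f300922 : Led Lsl_gf (LP (LK LD1_c15 LD2_c36 LD3_c42)) = (LP (LK LD1_c8 LD2_c22 LD3_c20)) :=
  Lgr Lrot129 (Lpe (f229589 IH) (Lpr_bt (f229585 IH) (Lpr_gt (K15.f190848 IH) (Lpe (f263580 IH) (Lpr_ct (f212577 IH) (Lpr_gt (f300913 IH) (Lpe (f255800 IH) (Lpr_bt (f279497 IH) (Lpe (f300902 IH) (Lpr_ct (f167692 IH) (Lpn (LP (LK LD1_c8 LD2_c22 LD3_c20)))))))))))))
theorem f167689 : Led Lsl_bt (LP (LK LD1_c4 LD2_c11 LD3_c10)) = (LP (LK LD1_c2 LD2_c2 LD3_c55)) :=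
  Lre_b IH (LK LD1_c4 LD2_c11 LD3_c10) (LK LD1_c2 LD2_c2 LD3_c55) Lrfl Lrfl
theorem f245785 : Led Lsl_bt (LP (LK LD1_c2 LD2_c41 LD3_c24)) = (LP (LK LD1_c1 LD2_c17 LD3_c31)) :=
  Lre_b IH (LK LD1_c2 LD2_c41 LD3_c24) (LK LD1_c1 LD2_c17 LD3_c31) Lrfl Lrfl
theorem f245819 : Led Lsl_ct (LP (LK LD1_c2 LD2_c41 LD3_c24)) = (LP (LK LD1_c5 LD2_c30 LD3_c9)) :=
  Lre_c IH (LK LD1_c2 LD2_c41 LD3_c24) (LK LD1_c5 LD2_c30 LD3_c9) Lrfl Lrfl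
theorem f245820 : Led Lsl_gt (LP (LK LD1_c10 LD2_c50 LD3_c13)) = (LP (LK LD1_c5 LD2_c30 LD3_c9)) :=
  Lre_g IH (LK LD1_c10 LD2_c50 LD3_c13) (LK LD1_c5 LD2_c30 LD3_c9) Lrfl Lrfl
theorem f300927 : Led Lsl_ct (LP (LK LD1_c8 LD2_c18 LD3_c9)) = (LP (LK LD1_c10 LD2_c50 LD3_c13)) :=
  Lgr Lrot91 (Lpe (K15.f190848 IH) (Lpe (f229585 IH) (Lpr_ct (f229589 IH) (Lpr_gf (f300922 IH) (Lpe (f167692 IH) (Lpr_bt (f167689 IH) (Lpe (K13.f245808 IH) (Lpe (f245785 IH) (Lpr_ct (f245819 IH) (Lpe (f245820 IH) (Lpn (LP (LK LD1_c10 LD2_c50 LD3_c13)))))))))))))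
theorem f300933 : Led Lsl_ff (LP (LK LD1_c5 LD2_c30 LD3_c7)) = (LP (LK LD1_c10 LD2_c50 LD3_c13)) :=
  Lgr Lrot23 (Lpr_ct (K17.f273677 IH) (Lpr_ft (K15.f263584 IH) (Lpr_ct (f300927 IH) (Lpn (LP (LK LD1_c10 LD2_c50 LD3_c13))))))
theorem f300935 : Led Lsl_ft (LP (LK LD1_c5 LD2_c30 LD3_c7)) = (LP (LK LD1_c10 LD2_c50 LD3_c13)) :=
  Lgr Lrot48 (Lpr_ff (f300933 IH) (Lpn (LP (LK LD1_c10 LD2_c50 LD3_c13))))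
theorem f216987 : Led Lsl_gt (LP (LK LD1_c2 LD2_c41 LD3_c20)) = (LP (LK LD1_c5 LD2_c30 LD3_c6)) :=
  Lre_g IH (LK LD1_c2 LD2_c41 LD3_c20) (LK LD1_c5 LD2_c30 LD3_c6) Lrfl Lrfl
theorem f300979 : Led Lsl_af (LP (LK LD1_c5 LD2_c30 LD3_c6)) = (LP (LK LD1_c10 LD2_c50 LD3_c13)) :=
  Lgr Lrot31 (Lpe (f216987 IH) (Lpe (K16.f222522 IH) (Lpr_ft (f300935 IH) (Lpn (LP (LK LD1_c10 LD2_c50 LD3_c13))))))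
theorem f282916 : Led Lsl_ct (LP (LK LD1_c10 LD2_c51 LD3_c37)) = (LP (LK LD1_c5 LD2_c30 LD3_c6)) :=
  Lre_c IH (LK LD1_c10 LD2_c51 LD3_c37) (LK LD1_c5 LD2_c30 LD3_c6) Lrfl Lrfl
theorem f300981 : Led Lsl_dt (LP (LK LD1_c15 LD2_c39 LD3_c35)) = (LP (LK LD1_c10 LD2_c51 LD3_c37)) :=
  Lgr Lrot120 (Lpe (K15.f258472 IH) (Lpe (K17.f258479 IH) (Lpe (K17.f273697 IH) (Lpe (K17.f273698 IH) (Lpe (K17.f273696 IH) (Lpe (K17.f273679 IH) (Lpr_ft (f300935 IH) (Lpe (f300979 IH) (Lpe (f282916 IH) (Lpn (LP (LK LD1_c10 LD2_c51 LD3_c37))))))))))))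
theorem f251797 : Led Lsl_dt (LP (LK LD1_c8 LD2_c18 LD3_c10)) = (LP (LK LD1_c8 LD2_c19 LD3_c26)) :=
  Lgr Lrot42 (Lpr_df (K16.f251793 IH) (Lpn (LP (LK LD1_c8 LD2_c19 LD3_c26))))
theorem f300992 : Led Lsl_ff (LP (LK LD1_c8 LD2_c18 LD3_c10)) = (LP (LK LD1_c10 LD2_c51 LD3_c37)) :=
  Lgr Lrot19 (Lpr_dt (f251797 IH) (Lpr_ft (K17.f251802 IH) (Lpr_dt (f300981 IH) (Lpn (LP (LK LD1_c10 LD2_c51 LD3_c37))))))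
theorem f252148 : Led Lsl_af (LP (LK LD1_c6 LD2_c5 LD3_c44)) = (LP (LK LD1_c5 LD2_c17 LD3_c13)) :=
  Lgr Lrot36 (Lpr_bt (K12.f195605 IH) (Lpe (K13.f239475 IH) (Lpr_bt (K13.f191111 IH) (Lpr_at (K14.f252144 IH) (Lpr_bt (K15.f192270 IH) (Lpn (LP (LK LD1_c5 LD2_c17 LD3_c13))))))))
theorem f266767 : Led Lsl_ff (LP (LK LD1_c5 LD2_c17 LD3_c13)) = (LP (LK LD1_c8 LD2_c13 LD3_c28)) :=
  Lgr Lrot52 (Lpe (f252148 IH) (Lpr_gf (K9.f183697 IH) (Lpr_gf (K15.f266764 IH) (Lpn (LP (LK LD1_c8 LD2_c13 LD3_c28))))))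
theorem f301005 : Led Lsl_et (LP (LK LD1_c18 LD2_c52 LD3_c22)) = (LP (LK LD1_c10 LD2_c51 LD3_c37)) :=
  Lgr Lrot69 (Lpe (K14.f49178 IH) (Lpe (K14.f49168 IH) (Lpr_ff (f266767 IH) (Lpr_ef (K16.f273867 IH) (Lpr_ff (f300992 IH) (Lpn (LP (LK LD1_c10 LD2_c51 LD3_c37))))))))
theorem f49183 : Led Lsl_df (LP (LK LD1_c15 LD2_c50 LD3_c54)) = (LP (LK LD1_c18 LD2_c52 LD3_c22)) :=
  Lgr Lrot38 (Lpr_dt (K14.f49176 IH) (Lpn (LP (LK LD1_c18 LD2_c52 LD3_c22))))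
theorem f251301 : Led Lsl_dt (LP (LK LD1_c5 LD2_c0 LD3_c59)) = (LP (LK LD1_c2 LD2_c40 LD3_c27)) :=
  Lgr Lrot79 (Lpe (K14.f240161 IH) (Lpr_df (K14.f251297 IH) (Lpe (K14.f197026 IH) (Lpn (LP (LK LD1_c2 LD2_c40 LD3_c27))))))
theorem f188409 : Led Lsl_et (LP (LK LD1_c5 LD2_c0 LD3_c59)) = (LP (LK LD1_c9 LD2_c52 LD3_c19)) :=
  Lre_e IH (LK LD1_c5 LD2_c0 LD3_c59) (LK LD1_c9 LD2_c52 LD3_c19) Lrfl Lrfl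
theorem f284833 : Led Lsl_gt (LP (LK LD1_c9 LD2_c52 LD3_c19)) = (LP (LK LD1_c6 LD2_c5 LD3_c43)) :=
  Lgr Lrot131 (Lpe (f188409 IH) (Lpr_dt (f251301 IH) (Lpr_gf (K15.f263678 IH) (Lpr_df (K17.f284828 IH) (Lpe (K13.f45010 IH) (Lpr_ef (K8.f44980 IH) (Lpr_dt (K8.f44967 IH) (Lpe (K9.f183705 IH) (Lpe (K15.f183677 IH) (Lpr_et (K14.f183713 IH) (Lpn (LP (LK LD1_c6 LD2_c5 LD3_c43)))))))))))))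
theorem f284835 : Led Lsl_gf (LP (LK LD1_c9 LD2_c52 LD3_c19)) = (LP (LK LD1_c15 LD2_c50 LD3_c54)) :=
  Lgr Lrot47 (Lpr_gt (f284833 IH) (Lpr_af (K14.f252176 IH) (Lpe (K14.f49185 IH) (Lpn (LP (LK LD1_c15 LD2_c50 LD3_c54))))))
theorem f213043 : Led Lsl_et (LP (LK LD1_c10 LD2_c40 LD3_c39)) = (LP (LK LD1_c5 LD2_c24 LD3_c57)) :=
  Lre_e IH (LK LD1_c10 LD2_c40 LD3_c39) (LK LD1_c5 LD2_c24 LD3_c57) Lrfl Lrfl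
theorem f284837 : Led Lsl_df (LP (LK LD1_c9 LD2_c52 LD3_c19)) = (LP (LK LD1_c10 LD2_c40 LD3_c39)) :=
  Lgr Lrot170 (Lpr_gt (f284833 IH) (Lpe (K14.f183703 IH) (Lpr_et (K14.f183702 IH) (Lpr_gt (K15.f266475 IH) (Lpr_dt (K14.f192519 IH) (Lpr_gt (K14.f231794 IH) (Lpe (K9.f32427 IH) (Lpr_et (K9.f54051 IH) (Lpe (K12.f216927 IH) (Lpe (f213043 IH) (Lpn (LP (LK LD1_c10 LD2_c40 LD3_c39)))))))))))))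
theorem f223080 : Led Lsl_et (LP (LK LD1_c3 LD2_c58 LD3_c20)) = (LP (LK LD1_c7 LD2_c58 LD3_c4)) :=
  Lre_e IH (LK LD1_c3 LD2_c58 LD3_c20) (LK LD1_c7 LD2_c58 LD3_c4) Lrfl Lrfl
theorem f301075 : Led Lsl_gt (LP (LK LD1_c7 LD2_c58 LD3_c4)) = (LP (LK LD1_c10 LD2_c51 LD3_c37)) :=
  Lgr Lrot131 (Lpe (f223080 IH) (Lpr_dt (K12.f223026 IH) (Lpr_gf (K12.f223064 IH) (Lpe (K12.f212849 IH) (Lpr_gf (K12.f213032 IH) (Lpe (f213043 IH) (Lpe (f284837 IH) (Lpr_gf (f284835 IH) (Lpr_df (f49183 IH) (Lpr_et (f301005 IH) (Lpn (LP (LK LD1_c10 LD2_c51 LD3_c37)))))))))))))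
theorem f300999 : Led Lsl_at (LP (LK LD1_c8 LD2_c18 LD3_c9)) = (LP (LK LD1_c10 LD2_c51 LD3_c37)) :=
  Lgr Lrot66 (Lpe (K15.f263584 IH) (Lpr_af (K16.f258494 IH) (Lpr_ff (f300992 IH) (Lpn (LP (LK LD1_c10 LD2_c51 LD3_c37))))))
theorem f301077 : Led Lsl_gf (LP (LK LD1_c7 LD2_c58 LD3_c4)) = (LP (LK LD1_c9 LD2_c37 LD3_c44)) :=
  Lgr Lrot47 (Lpr_gt (f301075 IH) (Lpe (f300999 IH) (Lpe (K15.f263584 IH) (Lpn (LP (LK LD1_c9 LD2_c37 LD3_c44))))))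
theorem f301083 : Led Lsl_bt (LP (LK LD1_c3 LD2_c58 LD3_c23)) = (LP (LK LD1_c7 LD2_c58 LD3_c4)) :=
  Lre_b IH (LK LD1_c3 LD2_c58 LD3_c23) (LK LD1_c7 LD2_c58 LD3_c4) Lrfl Lrfl
theorem f301087 : Led Lsl_ct (LP (LK LD1_c3 LD2_c58 LD3_c23)) = (LP (LK LD1_c7 LD2_c58 LD3_c7)) :=
  Lre_c IH (LK LD1_c3 LD2_c58 LD3_c23) (LK LD1_c7 LD2_c58 LD3_c7) Lrfl Lrfl
theorem f301092 : Led Lsl_gt (LP (LK LD1_c7 LD2_c58 LD3_c7)) = (LP (LK LD1_c15 LD2_c1 LD3_c58)) :=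
  Lre_g IH (LK LD1_c7 LD2_c58 LD3_c7) (LK LD1_c15 LD2_c1 LD3_c58) Lrfl Lrfl
theorem f301093 : Led Lsl_cf (LP (LK LD1_c15 LD2_c1 LD3_c58)) = (LP (LK LD1_c8 LD2_c7 LD3_c52)) :=
  Lgr Lrot58 (Lpe (f301092 IH) (Lpe (f301087 IH) (Lpr_bt (f301083 IH) (Lpr_gf (f301077 IH) (Lpe (K15.f239865 IH) (Lpr_ct (K17.f239867 IH) (Lpe (K17.f279435 IH) (Lpe (K17.f43126 IH) (Lpe (K17.f270357 IH) (Lpe (K16.f275683 IH) (Lpn (LP (LK LD1_c8 LD2_c7 LD3_c52)))))))))))))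
theorem f266665 : Led Lsl_et (LP (LK LD1_c8 LD2_c13 LD3_c21)) = (LP (LK LD1_c15 LD2_c27 LD3_c61)) :=
  Lre_e IH (LK LD1_c8 LD2_c13 LD3_c21) (LK LD1_c15 LD2_c27 LD3_c61) Lrfl Lrfl
theorem f266666 : Led Lsl_cf (LP (LK LD1_c10 LD2_c0 LD3_c55)) = (LP (LK LD1_c15 LD2_c27 LD3_c61)) :=
  Lgr Lrot39 (Lpr_et (K16.f256840 IH) (Lpr_ct (K15.f266650 IH) (Lpr_et (f266665 IH) (Lpn (LP (LK LD1_c15 LD2_c27 LD3_c61))))))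
theorem f301309 : Led Lsl_ft (LP (LK LD1_c15 LD2_c1 LD3_c58)) = (LP (LK LD1_c15 LD2_c27 LD3_c61)) :=
  Lgr Lrot4 (Lpr_cf (f301093 IH) (Lpr_ff (K16.f275679 IH) (Lpr_cf (f266666 IH) (Lpn (LP (LK LD1_c15 LD2_c27 LD3_c61))))))
theorem f301323 : Led Lsl_ff (LP (LK LD1_c15 LD2_c1 LD3_c58)) = (LP (LK LD1_c15 LD2_c27 LD3_c61)) :=
  Lgr Lrot3 (Lpr_ft (f301309 IH) (Lpn (LP (LK LD1_c15 LD2_c27 LD3_c61))))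
theorem f256093 : Led Lsl_gf (LP (LK LD1_c10 LD2_c29 LD3_c40)) = (LP (LK LD1_c11 LD2_c52 LD3_c28)) :=
  Lgr Lrot143 (Lpr_dt (K15.f249337 IH) (Lpe (K15.f249231 IH) (Lpe (K14.f249215 IH) (Lpr_gf (K14.f256088 IH) (Lpe (K14.f42504 IH) (Lpr_gf (K1.f42496 IH) (Lpe (K10.f8547 IH) (Lpr_gt (K12.f8524 IH) (Lpr_dt (K15.f42525 IH) (Lpn (LP (LK LD1_c11 LD2_c52 LD3_c28))))))))))))
theorem f274100 : Led Lsl_gf (LP (LK LD1_c15 LD2_c27 LD3_c60)) = (LP (LK LD1_c15 LD2_c27 LD3_c31)) :=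
  Lgr Lrot148 (Lpr_dt (K16.f266670 IH) (Lpr_gt (K15.f192262 IH) (Lpr_dt (K16.f194337 IH) (Lpr_ct (K16.f274086 IH) (Lpe (K16.f256253 IH) (Lpr_gf (K16.f250437 IH) (Lpe (K15.f249337 IH) (Lpr_gf (f256093 IH) (Lpr_ct (K15.f265216 IH) (Lpn (LP (LK LD1_c15 LD2_c27 LD3_c31))))))))))))
theorem f218123 : Led Lsl_et (LP (LK LD1_c7 LD2_c57 LD3_c39)) = (LP (LK LD1_c15 LD2_c0 LD3_c59)) :=
  Lre_e IH (LK LD1_c7 LD2_c57 LD3_c39) (LK LD1_c15 LD2_c0 LD3_c59) Lrfl Lrfl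
theorem f290806 : Led Lsl_gt (LP (LK LD1_c15 LD2_c27 LD3_c61)) = (LP (LK LD1_c15 LD2_c0 LD3_c59)) :=
  Lgr Lrot131 (Lpe (f266665 IH) (Lpr_dt (K15.f266664 IH) (Lpr_gf (f274100 IH) (Lpe (K15.f187987 IH) (Lpe (K10.f187979 IH) (Lpe (K11.f54380 IH) (Lpr_dt (K16.f48084 IH) (Lpr_gf (K17.f290798 IH) (Lpe (f218122 IH) (Lpr_et (f218123 IH) (Lpn (LP (LK LD1_c15 LD2_c0 LD3_c59)))))))))))))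
theorem f171954 : Led Lsl_gt (LP (LK LD1_c15 LD2_c0 LD3_c59)) = (LP (LK LD1_c24 LD2_c48 LD3_c40)) :=
  Lre_g IH (LK LD1_c15 LD2_c0 LD3_c59) (LK LD1_c24 LD2_c48 LD3_c40) Lrfl Lrfl
theorem f301327 : Led Lsl_at (LP (LK LD1_c15 LD2_c1 LD3_c58)) = (LP (LK LD1_c24 LD2_c48 LD3_c40)) :=
  Lgr Lrot26 (Lpr_ff (f301323 IH) (Lpr_gt (f290806 IH) (Lpr_gt (f171954 IH) (Lpn (LP (LK LD1_c24 LD2_c48 LD3_c40))))))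
theorem f301329 : Led Lsl_af (LP (LK LD1_c15 LD2_c1 LD3_c58)) = (LP (LK LD1_c24 LD2_c48 LD3_c40)) :=
  Lgr Lrot0 (Lpr_at (f301327 IH) (Lpn (LP (LK LD1_c24 LD2_c48 LD3_c40))))
theorem f301088 : Led Lsl_gt (LP (LK LD1_c15 LD2_c1 LD3_c59)) = (LP (LK LD1_c7 LD2_c58 LD3_c7)) :=
  Lre_g IH (LK LD1_c15 LD2_c1 LD3_c59) (LK LD1_c7 LD2_c58 LD3_c7) Lrfl Lrfl
theorem f301335 : Led Lsl_ft (LP (LK LD1_c15 LD2_c1 LD3_c59)) = (LP (LK LD1_c24 LD2_c48 LD3_c40)) :=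
  Lgr Lrot2 (Lpr_gt (f301088 IH) (Lpr_gt (f301092 IH) (Lpr_af (f301329 IH) (Lpn (LP (LK LD1_c24 LD2_c48 LD3_c40))))))
theorem f275689 : Led Lsl_af (LP (LK LD1_c8 LD2_c7 LD3_c52)) = (LP (LK LD1_c15 LD2_c18 LD3_c28)) :=
  Lgr Lrot0 (Lpr_at (f275687 IH) (Lpn (LP (LK LD1_c15 LD2_c18 LD3_c28))))
theorem f301331 : Led Lsl_cf (LP (LK LD1_c15 LD2_c18 LD3_c28)) = (LP (LK LD1_c24 LD2_c48 LD3_c40)) :=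
  Lgr Lrot1 (Lpe (f275689 IH) (Lpe (f301093 IH) (Lpr_at (f301327 IH) (Lpn (LP (LK LD1_c24 LD2_c48 LD3_c40))))))
theorem f301340 : Led Lsl_cf (LP (LK LD1_c15 LD2_c1 LD3_c59)) = (LP (LK LD1_c8 LD2_c7 LD3_c53)) :=
  Lgr Lrot108 (Lpr_ft (f301335 IH) (Lpe (f301331 IH) (Lpe (f275693 IH) (Lpn (LP (LK LD1_c8 LD2_c7 LD3_c53))))))
theorem f258764 : Led Lsl_gt (LP (LK LD1_c5 LD2_c30 LD3_c6)) = (LP (LK LD1_c10 LD2_c50 LD3_c15)) :=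
  Lre_g IH (LK LD1_c5 LD2_c30 LD3_c6) (LK LD1_c10 LD2_c50 LD3_c15) Lrfl Lrfl
theorem f222652 : Led Lsl_ct (LP (LK LD1_c5 LD2_c29 LD3_c29)) = (LP (LK LD1_c10 LD2_c50 LD3_c15)) :=
  Lre_c IH (LK LD1_c5 LD2_c29 LD3_c29) (LK LD1_c10 LD2_c50 LD3_c15) Lrfl Lrfl
theorem f261443 : Led Lsl_at (LP (LK LD1_c2 LD2_c40 LD3_c61)) = (LP (LK LD1_c1 LD2_c17 LD3_c21)) :=
  Lgr Lrot107 (Lpr_cf (K15.f261441 IH) (Lpe (K15.f253176 IH) (Lpr_cf (K14.f253187 IH) (Lpn (LP (LK LD1_c1 LD2_c17 LD3_c21))))))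
theorem f263214 : Led Lsl_et (LP (LK LD1_c2 LD2_c11 LD3_c29)) = (LP (LK LD1_c2 LD2_c40 LD3_c61)) :=
  Lgr Lrot123 (Lpr_af (K15.f263210 IH) (Lpe (K12.f220560 IH) (Lpe (f261443 IH) (Lpn (LP (LK LD1_c2 LD2_c40 LD3_c61))))))
theorem f808 : Led Lsl_et (LP (LK LD1_c4 LD2_c15 LD3_c28)) = (LP (LK LD1_c2 LD2_c5 LD3_c6)) :=
  Lre_e IH (LK LD1_c4 LD2_c15 LD3_c28) (LK LD1_c2 LD2_c5 LD3_c6) Lrfl Lrfl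
theorem f167748 : Led Lsl_et (LP (LK LD1_c4 LD2_c17 LD3_c0)) = (LP (LK LD1_c2 LD2_c5 LD3_c48)) :=
  Lre_e IH (LK LD1_c4 LD2_c17 LD3_c0) (LK LD1_c2 LD2_c5 LD3_c48) Lrfl Lrfl
theorem f167749 : Led Lsl_gt (LP (LK LD1_c4 LD2_c29 LD3_c13)) = (LP (LK LD1_c2 LD2_c11 LD3_c42)) :=
  Lre_g IH (LK LD1_c4 LD2_c29 LD3_c13) (LK LD1_c2 LD2_c11 LD3_c42) Lrfl Lrfl
theorem f250731 : Led Lsl_dt (LP (LK LD1_c4 LD2_c15 LD3_c28)) = (LP (LK LD1_c4 LD2_c29 LD3_c13)) :=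
  Lgr Lrot136 (Lpr_et (f808 IH) (Lpe (K16.f807 IH) (Lpe (K14.f783 IH) (Lpr_dt (K9.f766 IH) (Lpe (K9.f776 IH) (Lpe (K12.f806 IH) (Lpr_gf (K14.f250722 IH) (Lpe (f167748 IH) (Lpr_dt (K12.f167726 IH) (Lpe (f167749 IH) (Lpn (LP (LK LD1_c4 LD2_c29 LD3_c13)))))))))))))
theorem f263244 : Led Lsl_ef (LP (LK LD1_c2 LD2_c39 LD3_c19)) = (LP (LK LD1_c4 LD2_c29 LD3_c13)) :=
  Lgr Lrot73 (Lpr_dt (K15.f263238 IH) (Lpr_et (f263214 IH) (Lpr_dt (K16.f257978 IH) (Lpr_et (K16.f250740 IH) (Lpr_dt (f250731 IH) (Lpn (LP (LK LD1_c4 LD2_c29 LD3_c13))))))))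
theorem f274499 : Led Lsl_bt (LP (LK LD1_c8 LD2_c7 LD3_c53)) = (LP (LK LD1_c4 LD2_c29 LD3_c13)) :=
  Lgr Lrot119 (Lpr_ef (K16.f274485 IH) (Lpe (K15.f263654 IH) (Lpr_ef (f263244 IH) (Lpn (LP (LK LD1_c4 LD2_c29 LD3_c13))))))
theorem f301407 : Led Lsl_gt (LP (LK LD1_c8 LD2_c30 LD3_c57)) = (LP (LK LD1_c4 LD2_c29 LD3_c13)) :=
  Lgr Lrot164 (Lpr_bf (K17.f282903 IH) (Lpr_ct (f222652 IH) (Lpe (f258764 IH) (Lpe (f282916 IH) (Lpe (f301075 IH) (Lpe (f301083 IH) (Lpr_ct (f301087 IH) (Lpe (f301088 IH) (Lpr_cf (f301340 IH) (Lpr_bt (f274499 IH) (Lpn (LP (LK LD1_c4 LD2_c29 LD3_c13)))))))))))))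
theorem f1369 : Led Lsl_et (LP (LK LD1_c2 LD2_c5 LD3_c36)) = (LP (LK LD1_c0 LD2_c59 LD3_c49)) :=
  Lre_e IH (LK LD1_c2 LD2_c5 LD3_c36) (LK LD1_c0 LD2_c59 LD3_c49) Lrfl Lrfl
theorem f301411 : Led Lsl_df (LP (LK LD1_c8 LD2_c30 LD3_c57)) = (LP (LK LD1_c8 LD2_c17 LD3_c22)) :=
  Lgr Lrot135 (Lpr_gt (f301407 IH) (Lpe (f250731 IH) (Lpr_et (f808 IH) (Lpr_gt (K15.f27369 IH) (Lpe (f1369 IH) (Lpe (K17.f27336 IH) (Lpr_gt (K17.f561 IH) (Lpe (K17.f566 IH) (Lpr_et (K17.f283157 IH) (Lpe (K17.f283155 IH) (Lpn (LP (LK LD1_c8 LD2_c17 LD3_c22)))))))))))))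
theorem f301413 : Led Lsl_et (LP (LK LD1_c8 LD2_c17 LD3_c22)) = (LP (LK LD1_c8 LD2_c29 LD3_c44)) :=
  Lgr Lrot122 (Lpe (f301411 IH) (Lpr_gt (f301407 IH) (Lpe (f250731 IH) (Lpr_et (f808 IH) (Lpr_gt (K15.f27369 IH) (Lpr_dt (K11.f27361 IH) (Lpr_gt (K10.f27370 IH) (Lpe (K13.f1326 IH) (Lpr_et (K17.f1327 IH) (Lpr_gt (K17.f197606 IH) (Lpn (LP (LK LD1_c8 LD2_c29 LD3_c44)))))))))))))
theorem f301419 : Led Lsl_df (LP (LK LD1_c8 LD2_c17 LD3_c22)) = (LP (LK LD1_c8 LD2_c30 LD3_c57)) :=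
  Lgr Lrot70 (Lpr_et (f301413 IH) (Lpe (K17.f283089 IH) (Lpr_et (K17.f283008 IH) (Lpe (f282938 IH) (Lpr_et (K17.f244847 IH) (Lpn (LP (LK LD1_c8 LD2_c30 LD3_c57))))))))
theorem f244889 : Led Lsl_ft (LP (LK LD1_c4 LD2_c15 LD3_c58)) = (LP (LK LD1_c8 LD2_c30 LD3_c57)) :=
  Lre_f IH (LK LD1_c4 LD2_c15 LD3_c58) (LK LD1_c8 LD2_c30 LD3_c57) Lrfl Lrfl
theorem f301425 : Led Lsl_dt (LP (LK LD1_c4 LD2_c8 LD3_c39)) = (LP (LK LD1_c4 LD2_c15 LD3_c58)) :=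
  Lgr Lrot60 (Lpe (K17.f260654 IH) (Lpr_df (f301419 IH) (Lpe (f244889 IH) (Lpn (LP (LK LD1_c4 LD2_c15 LD3_c58))))))
theorem f301434 : Led Lsl_gt (LP (LK LD1_c4 LD2_c16 LD3_c10)) = (LP (LK LD1_c4 LD2_c15 LD3_c58)) :=
  Lgr Lrot112 (Lpe (K16.f608 IH) (Lpr_et (K16.f607 IH) (Lpe (K12.f606 IH) (Lpe (K1.f559 IH) (Lpr_dt (K12.f594 IH) (Lpe (K12.f605 IH) (Lpe (K12.f575 IH) (Lpr_gf (K15.f260641 IH) (Lpe (K17.f260649 IH) (Lpr_dt (f301425 IH) (Lpn (LP (LK LD1_c4 LD2_c15 LD3_c58)))))))))))))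
theorem f300965 : Led Lsl_gt (LP (LK LD1_c4 LD2_c15 LD3_c58)) = (LP (LK LD1_c8 LD2_c30 LD3_c56)) :=
  Lre_g IH (LK LD1_c4 LD2_c15 LD3_c58) (LK LD1_c8 LD2_c30 LD3_c56) Lrfl Lrfl
theorem f301466 : Led Lsl_at (LP (LK LD1_c4 LD2_c29 LD3_c12)) = (LP (LK LD1_c8 LD2_c30 LD3_c56)) :=
  Lgr Lrot26 (Lpr_ff (K16.f273433 IH) (Lpr_gt (f301434 IH) (Lpr_gt (f300965 IH) (Lpn (LP (LK LD1_c8 LD2_c30 LD3_c56))))))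
theorem f273410 : Led Lsl_bt (LP (LK LD1_c8 LD2_c56 LD3_c42)) = (LP (LK LD1_c10 LD2_c0 LD3_c54)) :=
  Lgr Lrot35 (Lpr_ff (K16.f273405 IH) (Lpe (K15.f237839 IH) (Lpe (K16.f192610 IH) (Lpn (LP (LK LD1_c10 LD2_c0 LD3_c54))))))
theorem f275667 : Led Lsl_at (LP (LK LD1_c15 LD2_c18 LD3_c39)) = (LP (LK LD1_c18 LD2_c53 LD3_c50)) :=
  Lgr Lrot66 (Lpr_ff (K16.f275665 IH) (Lpe (K16.f271266 IH) (Lpe (f260349 IH) (Lpn (LP (LK LD1_c18 LD2_c53 LD3_c50))))))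
theorem f273425 : Led Lsl_bt (LP (LK LD1_c18 LD2_c53 LD3_c50)) = (LP (LK LD1_c10 LD2_c25 LD3_c11)) :=
  Lre_b IH (LK LD1_c18 LD2_c53 LD3_c50) (LK LD1_c10 LD2_c25 LD3_c11) Lrfl Lrfl
theorem f275731 : Led Lsl_af (LP (LK LD1_c8 LD2_c56 LD3_c42)) = (LP (LK LD1_c10 LD2_c25 LD3_c11)) :=
  Lgr Lrot36 (Lpr_bt (f273410 IH) (Lpr_at (K16.f275729 IH) (Lpe (K16.f275677 IH) (Lpr_at (f275667 IH) (Lpr_bt (f273425 IH) (Lpn (LP (LK LD1_c10 LD2_c25 LD3_c11))))))))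
theorem f301518 : Led Lsl_ef (LP (LK LD1_c10 LD2_c25 LD3_c11)) = (LP (LK LD1_c8 LD2_c30 LD3_c56)) :=
  Lgr Lrot20 (Lpe (f275731 IH) (Lpr_et (K16.f261467 IH) (Lpr_at (f301466 IH) (Lpn (LP (LK LD1_c8 LD2_c30 LD3_c56))))))
theorem f301524 : Led Lsl_et (LP (LK LD1_c10 LD2_c25 LD3_c11)) = (LP (LK LD1_c8 LD2_c30 LD3_c56)) :=
  Lgr Lrot87 (Lpr_ef (f301518 IH) (Lpn (LP (LK LD1_c8 LD2_c30 LD3_c56))))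
theorem f275785 : Led Lsl_ft (LP (LK LD1_c5 LD2_c17 LD3_c46)) = (LP (LK LD1_c10 LD2_c25 LD3_c11)) :=
  Lre_f IH (LK LD1_c5 LD2_c17 LD3_c46) (LK LD1_c10 LD2_c25 LD3_c11) Lrfl Lrfl
theorem f275795 : Led Lsl_et (LP (LK LD1_c2 LD2_c35 LD3_c38)) = (LP (LK LD1_c5 LD2_c17 LD3_c46)) :=
  Lre_e IH (LK LD1_c2 LD2_c35 LD3_c38) (LK LD1_c5 LD2_c17 LD3_c46) Lrfl Lrfl
theorem f275733 : Led Lsl_af (LP (LK LD1_c5 LD2_c4 LD3_c54)) = (LP (LK LD1_c5 LD2_c12 LD3_c42)) :=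
  Lgr Lrot45 (Lpr_ft (K17.f192613 IH) (Lpr_at (K16.f275729 IH) (Lpr_ft (K16.f275669 IH) (Lpn (LP (LK LD1_c5 LD2_c12 LD3_c42))))))
theorem f260341 : Led Lsl_bt (LP (LK LD1_c5 LD2_c17 LD3_c46)) = (LP (LK LD1_c10 LD2_c24 LD3_c58)) :=
  Lre_b IH (LK LD1_c5 LD2_c17 LD3_c46) (LK LD1_c10 LD2_c24 LD3_c58) Lrfl Lrfl
theorem f275771 : Led Lsl_at (LP (LK LD1_c5 LD2_c25 LD3_c51)) = (LP (LK LD1_c5 LD2_c17 LD3_c46)) :=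
  Lgr Lrot67 (Lpe (K15.f237839 IH) (Lpr_af (f275733 IH) (Lpe (K16.f271269 IH) (Lpe (K16.f271266 IH) (Lpe (f260341 IH) (Lpn (LP (LK LD1_c5 LD2_c17 LD3_c46))))))))
theorem f275783 : Led Lsl_af (LP (LK LD1_c2 LD2_c39 LD3_c18)) = (LP (LK LD1_c2 LD2_c35 LD3_c38)) :=
  Lgr Lrot50 (Lpr_et (K15.f237856 IH) (Lpr_at (f275771 IH) (Lpr_et (K15.f49093 IH) (Lpn (LP (LK LD1_c2 LD2_c35 LD3_c38))))))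
theorem f275791 : Led Lsl_ft (LP (LK LD1_c2 LD2_c39 LD3_c19)) = (LP (LK LD1_c2 LD2_c35 LD3_c38)) :=
  Lgr Lrot101 (Lpr_af (K15.f263232 IH) (Lpe (K15.f263226 IH) (Lpr_af (f275783 IH) (Lpn (LP (LK LD1_c2 LD2_c35 LD3_c38))))))
theorem f301526 : Led Lsl_ff (LP (LK LD1_c4 LD2_c29 LD3_c13)) = (LP (LK LD1_c8 LD2_c30 LD3_c56)) :=
  Lgr Lrot72 (Lpe (f263244 IH) (Lpr_ft (f275791 IH) (Lpr_et (f275795 IH) (Lpr_ft (f275785 IH) (Lpr_et (f301524 IH) (Lpn (LP (LK LD1_c8 LD2_c30 LD3_c56))))))))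
theorem f301532 : Led Lsl_ft (LP (LK LD1_c4 LD2_c29 LD3_c13)) = (LP (LK LD1_c8 LD2_c30 LD3_c56)) :=
  Lgr Lrot48 (Lpr_ff (f301526 IH) (Lpn (LP (LK LD1_c8 LD2_c30 LD3_c56))))
theorem f301512 : Led Lsl_af (LP (LK LD1_c4 LD2_c29 LD3_c12)) = (LP (LK LD1_c8 LD2_c30 LD3_c56)) :=
  Lgr Lrot0 (Lpr_at (f301466 IH) (Lpn (LP (LK LD1_c8 LD2_c30 LD3_c56))))
theorem f263180 : Led Lsl_df (LP (LK LD1_c2 LD2_c11 LD3_c28)) = (LP (LK LD1_c2 LD2_c39 LD3_c18)) :=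
  Lgr Lrot38 (Lpr_dt (K15.f263176 IH) (Lpn (LP (LK LD1_c2 LD2_c39 LD3_c18))))
theorem f263220 : Led Lsl_ff (LP (LK LD1_c2 LD2_c39 LD3_c18)) = (LP (LK LD1_c2 LD2_c58 LD3_c61)) :=
  Lgr Lrot19 (Lpe (f263180 IH) (Lpr_ft (K15.f263216 IH) (Lpr_dt (K15.f260407 IH) (Lpn (LP (LK LD1_c2 LD2_c58 LD3_c61))))))
theorem f260421 : Led Lsl_et (LP (LK LD1_c4 LD2_c16 LD3_c10)) = (LP (LK LD1_c2 LD2_c58 LD3_c61)) :=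
  Lgr Lrot87 (Lpr_ef (K16.f260414 IH) (Lpn (LP (LK LD1_c2 LD2_c58 LD3_c61))))
theorem f273415 : Led Lsl_ft (LP (LK LD1_c4 LD2_c29 LD3_c12)) = (LP (LK LD1_c4 LD2_c16 LD3_c10)) :=
  Lgr Lrot86 (Lpe (K16.f261467 IH) (Lpr_ff (K16.f273405 IH) (Lpe (K15.f237856 IH) (Lpr_ff (f263220 IH) (Lpe (f260421 IH) (Lpn (LP (LK LD1_c4 LD2_c16 LD3_c10))))))))
theorem f301543 : Led Lsl_af (LP (LK LD1_c4 LD2_c29 LD3_c13)) = (LP (LK LD1_c4 LD2_c16 LD3_c10)) :=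
  Lgr Lrot45 (Lpr_ft (f301532 IH) (Lpe (f301512 IH) (Lpr_ft (f273415 IH) (Lpn (LP (LK LD1_c4 LD2_c16 LD3_c10))))))
theorem f301547 : Led Lsl_gf (LP (LK LD1_c8 LD2_c30 LD3_c57)) = (LP (LK LD1_c4 LD2_c29 LD3_c12)) :=
  Lgr Lrot47 (Lpr_gt (f301407 IH) (Lpr_af (f301543 IH) (Lpe (f273415 IH) (Lpn (LP (LK LD1_c4 LD2_c29 LD3_c12))))))
theorem f273683 : Led Lsl_gt (LP (LK LD1_c10 LD2_c50 LD3_c15)) = (LP (LK LD1_c5 LD2_c30 LD3_c7)) :=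
  Lre_g IH (LK LD1_c10 LD2_c50 LD3_c15) (LK LD1_c5 LD2_c30 LD3_c7) Lrfl Lrfl
theorem f199228 : Led Lsl_et (LP (LK LD1_c4 LD2_c51 LD3_c9)) = (LP (LK LD1_c2 LD2_c23 LD3_c24)) :=
  Lre_e IH (LK LD1_c4 LD2_c51 LD3_c9) (LK LD1_c2 LD2_c23 LD3_c24) Lrfl Lrfl
theorem f246815 : Led Lsl_gf (LP (LK LD1_c4 LD2_c4 LD3_c37)) = (LP (LK LD1_c4 LD2_c52 LD3_c57)) :=
  Lgr Lrot145 (Lpr_df (K15.f199197 IH) (Lpr_et (f199228 IH) (Lpr_gt (K14.f246786 IH) (Lpr_dt (K15.f2110 IH) (Lpr_gt (K9.f2106 IH) (Lpe (K13.f1919 IH) (Lpr_et (K1.f2435 IH) (Lpr_gt (K12.f2232 IH) (Lpe (K15.f2453 IH) (Lpr_dt (K15.f2454 IH) (Lpn (LP (LK LD1_c4 LD2_c52 LD3_c57)))))))))))))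
theorem f199206 : Led Lsl_ct (LP (LK LD1_c4 LD2_c4 LD3_c37)) = (LP (LK LD1_c8 LD2_c10 LD3_c2)) :=
  Lre_c IH (LK LD1_c4 LD2_c4 LD3_c37) (LK LD1_c8 LD2_c10 LD3_c2) Lrfl Lrfl
theorem f199368 : Led Lsl_gt (LP (LK LD1_c8 LD2_c10 LD3_c2)) = (LP (LK LD1_c15 LD2_c22 LD3_c53)) :=
  Lre_g IH (LK LD1_c8 LD2_c10 LD3_c2) (LK LD1_c15 LD2_c22 LD3_c53) Lrfl Lrfl
theorem f273441 : Led Lsl_bf (LP (LK LD1_c4 LD2_c29 LD3_c12)) = (LP (LK LD1_c8 LD2_c41 LD3_c25)) :=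
  Lgr Lrot93 (Lpr_dt (K16.f273439 IH) (Lpr_bt (K16.f260442 IH) (Lpr_dt (K16.f260455 IH) (Lpn (LP (LK LD1_c8 LD2_c41 LD3_c25))))))
theorem f301549 : Led Lsl_cf (LP (LK LD1_c15 LD2_c22 LD3_c53)) = (LP (LK LD1_c8 LD2_c41 LD3_c25)) :=
  Lgr Lrot163 (Lpe (f199368 IH) (Lpe (f199206 IH) (Lpr_gf (f246815 IH) (Lpe (f239856 IH) (Lpe (K16.f273689 IH) (Lpe (f273683 IH) (Lpe (f222652 IH) (Lpe (K17.f282903 IH) (Lpr_gf (f301547 IH) (Lpr_bf (f273441 IH) (Lpn (LP (LK LD1_c8 LD2_c41 LD3_c25)))))))))))))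
theorem f301558 : Led Lsl_ft (LP (LK LD1_c15 LD2_c22 LD3_c53)) = (LP (LK LD1_c8 LD2_c41 LD3_c24)) :=
  Lgr Lrot4 (Lpr_cf (f301549 IH) (Lpe (K16.f227274 IH) (Lpe (K14.f227245 IH) (Lpn (LP (LK LD1_c8 LD2_c41 LD3_c24))))))
theorem f301568 : Led Lsl_ff (LP (LK LD1_c15 LD2_c22 LD3_c53)) = (LP (LK LD1_c8 LD2_c41 LD3_c24)) :=
  Lgr Lrot3 (Lpr_ft (f301558 IH) (Lpn (LP (LK LD1_c8 LD2_c41 LD3_c24))))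
theorem f235340 : Led Lsl_gt (LP (LK LD1_c4 LD2_c31 LD3_c27)) = (LP (LK LD1_c9 LD2_c0 LD3_c54)) :=
  Lre_g IH (LK LD1_c4 LD2_c31 LD3_c27) (LK LD1_c9 LD2_c0 LD3_c54) Lrfl Lrfl
theorem f301574 : Led Lsl_at (LP (LK LD1_c15 LD2_c22 LD3_c53)) = (LP (LK LD1_c9 LD2_c0 LD3_c54)) :=
  Lgr Lrot26 (Lpr_ff (f301568 IH) (Lpe (K14.f241001 IH) (Lpr_gt (f235340 IH) (Lpn (LP (LK LD1_c9 LD2_c0 LD3_c54))))))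
theorem f269892 : Led Lsl_ct (LP (LK LD1_c16 LD2_c16 LD3_c38)) = (LP (LK LD1_c26 LD2_c14 LD3_c37)) :=
  Lre_c IH (LK LD1_c16 LD2_c16 LD3_c38) (LK LD1_c26 LD2_c14 LD3_c37) Lrfl Lrfl
theorem f269940 : Led Lsl_dt (LP (LK LD1_c26 LD2_c14 LD3_c37)) = (LP (LK LD1_c27 LD2_c30 LD3_c43)) :=
  Lgr Lrot42 (Lpr_df (K16.f269937 IH) (Lpn (LP (LK LD1_c27 LD2_c30 LD3_c43))))
theorem f270362 : Led Lsl_cf (LP (LK LD1_c7 LD2_c55 LD3_c47)) = (LP (LK LD1_c9 LD2_c38 LD3_c7)) :=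
  Lgr Lrot11 (Lpr_ct (K16.f270359 IH) (Lpn (LP (LK LD1_c9 LD2_c38 LD3_c7))))
theorem f301576 : Led Lsl_cf (LP (LK LD1_c9 LD2_c0 LD3_c54)) = (LP (LK LD1_c5 LD2_c23 LD3_c30)) :=
  Lgr Lrot102 (Lpe (f301574 IH) (Lpr_ff (f301568 IH) (Lpr_dt (K16.f227259 IH) (Lpr_ct (f269892 IH) (Lpr_dt (f269940 IH) (Lpr_ct (K16.f269955 IH) (Lpr_dt (K16.f269975 IH) (Lpe (f270362 IH) (Lpr_dt (K16.f275727 IH) (Lpn (LP (LK LD1_c5 LD2_c23 LD3_c30))))))))))))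
theorem f212558 : Led Lsl_ct (LP (LK LD1_c2 LD2_c12 LD3_c41)) = (LP (LK LD1_c4 LD2_c31 LD3_c27)) :=
  Lre_c IH (LK LD1_c2 LD2_c12 LD3_c41) (LK LD1_c4 LD2_c31 LD3_c27) Lrfl Lrfl
theorem f212553 : Led Lsl_bt (LP (LK LD1_c2 LD2_c12 LD3_c41)) = (LP (LK LD1_c1 LD2_c3 LD3_c24)) :=
  Lre_b IH (LK LD1_c2 LD2_c12 LD3_c41) (LK LD1_c1 LD2_c3 LD3_c24) Lrfl Lrfl
theorem f212624 : Led Lsl_gt (LP (LK LD1_c2 LD2_c12 LD3_c47)) = (LP (LK LD1_c1 LD2_c3 LD3_c24)) :=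
  Lre_g IH (LK LD1_c2 LD2_c12 LD3_c47) (LK LD1_c1 LD2_c3 LD3_c24) Lrfl Lrfl
theorem f212626 : Led Lsl_bt (LP (LK LD1_c4 LD2_c31 LD3_c39)) = (LP (LK LD1_c2 LD2_c12 LD3_c47)) :=
  Lre_b IH (LK LD1_c4 LD2_c31 LD3_c39) (LK LD1_c2 LD2_c12 LD3_c47) Lrfl Lrfl
theorem f301591 : Led Lsl_ct (LP (LK LD1_c4 LD2_c31 LD3_c39)) = (LP (LK LD1_c9 LD2_c1 LD3_c17)) :=
  Lre_c IH (LK LD1_c4 LD2_c31 LD3_c39) (LK LD1_c9 LD2_c1 LD3_c17) Lrfl Lrfl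
theorem f301592 : Led Lsl_gt (LP (LK LD1_c16 LD2_c51 LD3_c16)) = (LP (LK LD1_c9 LD2_c1 LD3_c17)) :=
  Lre_g IH (LK LD1_c16 LD2_c51 LD3_c16) (LK LD1_c9 LD2_c1 LD3_c17) Lrfl Lrfl
theorem f275715 : Led Lsl_bf (LP (LK LD1_c8 LD2_c7 LD3_c52)) = (LP (LK LD1_c5 LD2_c23 LD3_c30)) :=
  Lgr Lrot24 (Lpr_bt (K16.f275683 IH) (Lpn (LP (LK LD1_c5 LD2_c23 LD3_c30))))
theorem f261037 : Led Lsl_gt (LP (LK LD1_c8 LD2_c7 LD3_c52)) = (LP (LK LD1_c15 LD2_c18 LD3_c29)) :=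
  Lre_g IH (LK LD1_c8 LD2_c7 LD3_c52) (LK LD1_c15 LD2_c18 LD3_c29) Lrfl Lrfl
theorem f301593 : Led Lsl_cf (LP (LK LD1_c16 LD2_c51 LD3_c16)) = (LP (LK LD1_c15 LD2_c18 LD3_c29)) :=
  Lgr Lrot125 (Lpr_gt (f301592 IH) (Lpe (f301591 IH) (Lpr_bt (f212626 IH) (Lpr_gt (f212624 IH) (Lpe (f212553 IH) (Lpr_ct (f212558 IH) (Lpr_gt (f235340 IH) (Lpr_cf (f301576 IH) (Lpe (f275715 IH) (Lpr_gt (f261037 IH) (Lpn (LP (LK LD1_c15 LD2_c18 LD3_c29)))))))))))))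
theorem f261065 : Led Lsl_et (LP (LK LD1_c5 LD2_c36 LD3_c30)) = (LP (LK LD1_c11 LD2_c5 LD3_c6)) :=
  Lre_e IH (LK LD1_c5 LD2_c36 LD3_c30) (LK LD1_c11 LD2_c5 LD3_c6) Lrfl Lrfl
theorem f261066 : Led Lsl_cf (LP (LK LD1_c8 LD2_c7 LD3_c46)) = (LP (LK LD1_c11 LD2_c5 LD3_c6)) :=
  Lgr Lrot39 (Lpr_et (K15.f256777 IH) (Lpr_ct (K15.f261057 IH) (Lpr_et (f261065 IH) (Lpn (LP (LK LD1_c11 LD2_c5 LD3_c6))))))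
theorem f301598 : Led Lsl_ft (LP (LK LD1_c16 LD2_c51 LD3_c16)) = (LP (LK LD1_c11 LD2_c5 LD3_c6)) :=
  Lgr Lrot4 (Lpr_cf (f301593 IH) (Lpe (K15.f261025 IH) (Lpr_cf (f261066 IH) (Lpn (LP (LK LD1_c11 LD2_c5 LD3_c6))))))
theorem f276289 : Led Lsl_af (LP (LK LD1_c5 LD2_c36 LD3_c30)) = (LP (LK LD1_c4 LD2_c3 LD3_c40)) :=
  Lgr Lrot45 (Lpe (K16.f276271 IH) (Lpr_at (K16.f276280 IH) (Lpr_ft (f256761 IH) (Lpn (LP (LK LD1_c4 LD2_c3 LD3_c40))))))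
theorem f226834 : Led Lsl_et (LP (LK LD1_c8 LD2_c7 LD3_c51)) = (LP (LK LD1_c4 LD2_c3 LD3_c40)) :=
  Lre_e IH (LK LD1_c8 LD2_c7 LD3_c51) (LK LD1_c4 LD2_c3 LD3_c40) Lrfl Lrfl
theorem f276294 : Led Lsl_at (LP (LK LD1_c11 LD2_c5 LD3_c6)) = (LP (LK LD1_c8 LD2_c7 LD3_c51)) :=
  Lgr Lrot80 (Lpe (f261065 IH) (Lpr_af (f276289 IH) (Lpe (f226834 IH) (Lpn (LP (LK LD1_c8 LD2_c7 LD3_c51))))))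
theorem f301607 : Led Lsl_gt (LP (LK LD1_c9 LD2_c1 LD3_c17)) = (LP (LK LD1_c8 LD2_c7 LD3_c51)) :=
  Lgr Lrot46 (Lpe (f301592 IH) (Lpr_ft (f301598 IH) (Lpr_at (f276294 IH) (Lpn (LP (LK LD1_c8 LD2_c7 LD3_c51))))))
theorem f276335 : Led Lsl_et (LP (LK LD1_c4 LD2_c3 LD3_c40)) = (LP (LK LD1_c8 LD2_c7 LD3_c51)) :=
  Lre_e IH (LK LD1_c4 LD2_c3 LD3_c40) (LK LD1_c8 LD2_c7 LD3_c51) Lrfl Lrfl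
theorem f54519 : Led Lsl_et (LP (LK LD1_c3 LD2_c58 LD3_c10)) = (LP (LK LD1_c4 LD2_c6 LD3_c15)) :=
  Lgr Lrot158 (Lpe (K12.f41164 IH) (Lpr_ef (K1.f47939 IH) (Lpe (K15.f54518 IH) (Lpn (LP (LK LD1_c4 LD2_c6 LD3_c15))))))
theorem f301611 : Led Lsl_ef (LP (LK LD1_c9 LD2_c1 LD3_c17)) = (LP (LK LD1_c8 LD2_c13 LD3_c19)) :=
  Lgr Lrot114 (Lpr_gt (f301607 IH) (Lpe (f276335 IH) (Lpr_dt (K12.f226812 IH) (Lpr_gt (K16.f278151 IH) (Lpe (K1.f41898 IH) (Lpr_et (f54519 IH) (Lpr_gt (K10.f177481 IH) (Lpe (K17.f266705 IH) (Lpr_gt (K15.f266710 IH) (Lpe (K15.f252109 IH) (Lpn (LP (LK LD1_c8 LD2_c13 LD3_c19)))))))))))))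
theorem f301620 : Led Lsl_et (LP (LK LD1_c9 LD2_c1 LD3_c17)) = (LP (LK LD1_c8 LD2_c13 LD3_c19)) :=
  Lgr Lrot87 (Lpr_ef (f301611 IH) (Lpn (LP (LK LD1_c8 LD2_c13 LD3_c19))))
theorem f301624 : Led Lsl_ef (LP (LK LD1_c4 LD2_c31 LD3_c39)) = (LP (LK LD1_c4 LD2_c6 LD3_c23)) :=
  Lgr Lrot28 (Lpr_ct (f301591 IH) (Lpr_et (f301620 IH) (Lpr_ct (K16.f252112 IH) (Lpn (LP (LK LD1_c4 LD2_c6 LD3_c23))))))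
theorem f191451 : Led Lsl_et (LP (LK LD1_c4 LD2_c6 LD3_c14)) = (LP (LK LD1_c8 LD2_c13 LD3_c5)) :=
  Lre_e IH (LK LD1_c4 LD2_c6 LD3_c14) (LK LD1_c8 LD2_c13 LD3_c5) Lrfl Lrfl
theorem f301637 : Led Lsl_gt (LP (LK LD1_c4 LD2_c31 LD3_c39)) = (LP (LK LD1_c7 LD2_c57 LD3_c40)) :=
  Lgr Lrot137 (Lpr_ef (f301624 IH) (Lpe (K14.f252110 IH) (Lpe (K14.f256117 IH) (Lpr_df (K16.f222002 IH) (Lpr_et (f191451 IH) (Lpe (K16.f191407 IH) (Lpr_ef (K16.f278179 IH) (Lpr_dt (K16.f246758 IH) (Lpe (K16.f167128 IH) (Lpe (K14.f246747 IH) (Lpn (LP (LK LD1_c7 LD2_c57 LD3_c40)))))))))))))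
theorem f171933 : Led Lsl_ct (LP (LK LD1_c7 LD2_c57 LD3_c40)) = (LP (LK LD1_c15 LD2_c0 LD3_c59)) :=
  Lre_c IH (LK LD1_c7 LD2_c57 LD3_c40) (LK LD1_c15 LD2_c0 LD3_c59) Lrfl Lrfl
theorem f275699 : Led Lsl_ft (LP (LK LD1_c8 LD2_c7 LD3_c53)) = (LP (LK LD1_c15 LD2_c18 LD3_c28)) :=
  Lgr Lrot48 (Lpr_ff (f275693 IH) (Lpn (LP (LK LD1_c15 LD2_c18 LD3_c28))))
theorem f275701 : Led Lsl_df (LP (LK LD1_c15 LD2_c57 LD3_c6)) = (LP (LK LD1_c15 LD2_c18 LD3_c28)) :=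
  Lgr Lrot78 (Lpr_ft (K16.f222038 IH) (Lpe (K16.f274507 IH) (Lpr_ft (f275699 IH) (Lpn (LP (LK LD1_c15 LD2_c18 LD3_c28))))))
theorem f222098 : Led Lsl_et (LP (LK LD1_c2 LD2_c23 LD3_c51)) = (LP (LK LD1_c1 LD2_c8 LD3_c59)) :=
  Lre_e IH (LK LD1_c2 LD2_c23 LD3_c51) (LK LD1_c1 LD2_c8 LD3_c59) Lrfl Lrfl
theorem f301635 : Led Lsl_dt (LP (LK LD1_c4 LD2_c31 LD3_c39)) = (LP (LK LD1_c2 LD2_c23 LD3_c51)) :=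
  Lgr Lrot77 (Lpr_ef (f301624 IH) (Lpe (K14.f252104 IH) (Lpe (K14.f200621 IH) (Lpe (K16.f222102 IH) (Lpe (f222098 IH) (Lpn (LP (LK LD1_c2 LD2_c23 LD3_c51))))))))
theorem f222108 : Led Lsl_gt (LP (LK LD1_c2 LD2_c23 LD3_c51)) = (LP (LK LD1_c4 LD2_c52 LD3_c12)) :=
  Lre_g IH (LK LD1_c2 LD2_c23 LD3_c51) (LK LD1_c4 LD2_c52 LD3_c12) Lrfl Lrfl
theorem f301641 : Led Lsl_ct (LP (LK LD1_c4 LD2_c52 LD3_c12)) = (LP (LK LD1_c9 LD2_c36 LD3_c47)) :=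
  Lre_c IH (LK LD1_c4 LD2_c52 LD3_c12) (LK LD1_c9 LD2_c36 LD3_c47) Lrfl Lrfl
theorem f301642 : Led Lsl_gt (LP (LK LD1_c9 LD2_c36 LD3_c47)) = (LP (LK LD1_c17 LD2_c42 LD3_c9)) :=
  Lre_g IH (LK LD1_c9 LD2_c36 LD3_c47) (LK LD1_c17 LD2_c42 LD3_c9) Lrfl Lrfl
theorem f274501 : Led Lsl_dt (LP (LK LD1_c8 LD2_c7 LD3_c53)) = (LP (LK LD1_c8 LD2_c29 LD3_c46)) :=
  Lgr Lrot77 (Lpr_ef (K16.f274485 IH) (Lpe (K15.f256096 IH) (Lpr_ef (K15.f257982 IH) (Lpr_df (K15.f257976 IH) (Lpe (K17.f222011 IH) (Lpn (LP (LK LD1_c8 LD2_c29 LD3_c46))))))))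
theorem f222027 : Led Lsl_ft (LP (LK LD1_c8 LD2_c29 LD3_c46)) = (LP (LK LD1_c15 LD2_c57 LD3_c6)) :=
  Lre_f IH (LK LD1_c8 LD2_c29 LD3_c46) (LK LD1_c15 LD2_c57 LD3_c6) Lrfl Lrfl
theorem f275695 : Led Lsl_dt (LP (LK LD1_c15 LD2_c57 LD3_c6)) = (LP (LK LD1_c15 LD2_c18 LD3_c28)) :=
  Lgr Lrot60 (Lpe (f222027 IH) (Lpe (f274501 IH) (Lpr_ff (f275693 IH) (Lpn (LP (LK LD1_c15 LD2_c18 LD3_c28))))))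
theorem f301643 : Led Lsl_ct (LP (LK LD1_c17 LD2_c42 LD3_c9)) = (LP (LK LD1_c15 LD2_c57 LD3_c6)) :=
  Lgr Lrot110 (Lpe (f301642 IH) (Lpe (f301641 IH) (Lpe (f222108 IH) (Lpe (f301635 IH) (Lpr_gt (f301637 IH) (Lpr_ct (f171933 IH) (Lpr_gt (f171954 IH) (Lpe (f301331 IH) (Lpe (f275695 IH) (Lpn (LP (LK LD1_c15 LD2_c57 LD3_c6))))))))))))
theorem f301645 : Led Lsl_df (LP (LK LD1_c4 LD2_c31 LD3_c39)) = (LP (LK LD1_c2 LD2_c23 LD3_c51)) :=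
  Lgr Lrot155 (Lpr_gt (f301637 IH) (Lpr_ct (f171933 IH) (Lpr_gt (f171954 IH) (Lpe (f301331 IH) (Lpe (f275701 IH) (Lpe (f301643 IH) (Lpe (f301642 IH) (Lpe (f301641 IH) (Lpe (f222108 IH) (Lpn (LP (LK LD1_c2 LD2_c23 LD3_c51))))))))))))
theorem f222111 : Led Lsl_gt (LP (LK LD1_c4 LD2_c52 LD3_c13)) = (LP (LK LD1_c2 LD2_c23 LD3_c51)) :=
  Lre_g IH (LK LD1_c4 LD2_c52 LD3_c13) (LK LD1_c2 LD2_c23 LD3_c51) Lrfl Lrfl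
theorem f222112 : Led Lsl_et (LP (LK LD1_c9 LD2_c36 LD3_c53)) = (LP (LK LD1_c4 LD2_c52 LD3_c13)) :=
  Lre_e IH (LK LD1_c9 LD2_c36 LD3_c53) (LK LD1_c4 LD2_c52 LD3_c13) Lrfl Lrfl
theorem f166986 : Led Lsl_et (LP (LK LD1_c4 LD2_c12 LD3_c20)) = (LP (LK LD1_c2 LD2_c3 LD3_c23)) :=
  Lre_e IH (LK LD1_c4 LD2_c12 LD3_c20) (LK LD1_c2 LD2_c3 LD3_c23) Lrfl Lrfl
theorem f254048 : Led Lsl_et (LP (LK LD1_c4 LD2_c19 LD3_c25)) = (LP (LK LD1_c2 LD2_c7 LD3_c7)) :=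
  Lre_e IH (LK LD1_c4 LD2_c19 LD3_c25) (LK LD1_c2 LD2_c7 LD3_c7) Lrfl Lrfl
theorem f221748 : Led Lsl_gt (LP (LK LD1_c7 LD2_c57 LD3_c55)) = (LP (LK LD1_c15 LD2_c1 LD3_c24)) :=
  Lre_g IH (LK LD1_c7 LD2_c57 LD3_c55) (LK LD1_c15 LD2_c1 LD3_c24) Lrfl Lrfl
theorem f301648 : Led Lsl_dt (LP (LK LD1_c9 LD2_c36 LD3_c53)) = (LP (LK LD1_c15 LD2_c1 LD3_c24)) :=
  Lgr Lrot37 (Lpr_et (f222112 IH) (Lpr_gt (f222111 IH) (Lpe (f301645 IH) (Lpr_gt (f301637 IH) (Lpr_df (K14.f246740 IH) (Lpr_et (f166986 IH) (Lpe (K15.f261075 IH) (Lpe (f254048 IH) (Lpr_dt (K14.f254022 IH) (Lpr_gt (f221748 IH) (Lpn (LP (LK LD1_c15 LD2_c1 LD3_c24)))))))))))))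
theorem f222104 : Led Lsl_et (LP (LK LD1_c1 LD2_c8 LD3_c59)) = (LP (LK LD1_c2 LD2_c23 LD3_c51)) :=
  Lre_e IH (LK LD1_c1 LD2_c8 LD3_c59) (LK LD1_c2 LD2_c23 LD3_c51) Lrfl Lrfl
theorem f255934 : Led Lsl_et (LP (LK LD1_c2 LD2_c3 LD3_c48)) = (LP (LK LD1_c4 LD2_c13 LD3_c2)) :=
  Lre_e IH (LK LD1_c2 LD2_c3 LD3_c48) (LK LD1_c4 LD2_c13 LD3_c2) Lrfl Lrfl
theorem f301658 : Led Lsl_gt (LP (LK LD1_c4 LD2_c13 LD3_c2)) = (LP (LK LD1_c4 LD2_c19 LD3_c25)) :=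
  Lgr Lrot137 (Lpe (f255934 IH) (Lpe (K14.f255932 IH) (Lpe (K14.f200612 IH) (Lpe (K16.f222102 IH) (Lpr_et (f222104 IH) (Lpe (f222111 IH) (Lpe (f222112 IH) (Lpr_dt (f301648 IH) (Lpe (f221748 IH) (Lpe (K14.f254022 IH) (Lpn (LP (LK LD1_c4 LD2_c19 LD3_c25)))))))))))))
theorem f54516 : Led Lsl_et (LP (LK LD1_c0 LD2_c54 LD3_c43)) = (LP (LK LD1_c0 LD2_c57 LD3_c16)) :=
  Lgr Lrot123 (Lpe (K9.f41065 IH) (Lpr_ef (K1.f47939 IH) (Lpe (K14.f54515 IH) (Lpn (LP (LK LD1_c0 LD2_c57 LD3_c16))))))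
theorem f47872 : Led Lsl_et (LP (LK LD1_c4 LD2_c6 LD3_c34)) = (LP (LK LD1_c2 LD2_c0 LD3_c37)) :=
  Lre_e IH (LK LD1_c4 LD2_c6 LD3_c34) (LK LD1_c2 LD2_c0 LD3_c37) Lrfl Lrfl
theorem f301667 : Led Lsl_df (LP (LK LD1_c4 LD2_c13 LD3_c2)) = (LP (LK LD1_c4 LD2_c6 LD3_c34)) :=
  Lgr Lrot170 (Lpr_gt (f301658 IH) (Lpr_df (K14.f254046 IH) (Lpr_et (K14.f221746 IH) (Lpe (K15.f261265 IH) (Lpr_dt (K16.f42734 IH) (Lpr_gt (K12.f42733 IH) (Lpe (K9.f42717 IH) (Lpr_et (f54516 IH) (Lpr_gt (K9.f55009 IH) (Lpe (f47872 IH) (Lpn (LP (LK LD1_c4 LD2_c6 LD3_c34)))))))))))))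
theorem f254037 : Led Lsl_at (LP (LK LD1_c2 LD2_c7 LD3_c12)) = (LP (LK LD1_c4 LD2_c19 LD3_c25)) :=
  Lre_a IH (LK LD1_c2 LD2_c7 LD3_c12) (LK LD1_c4 LD2_c19 LD3_c25) Lrfl Lrfl
theorem f301661 : Led Lsl_ft (LP (LK LD1_c4 LD2_c19 LD3_c40)) = (LP (LK LD1_c2 LD2_c7 LD3_c12)) :=
  Lre_f IH (LK LD1_c4 LD2_c19 LD3_c40) (LK LD1_c2 LD2_c7 LD3_c12) Lrfl Lrfl
theorem f301662 : Led Lsl_gf (LP (LK LD1_c4 LD2_c13 LD3_c2)) = (LP (LK LD1_c4 LD2_c19 LD3_c40)) :=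
  Lgr Lrot47 (Lpr_gt (f301658 IH) (Lpe (f254037 IH) (Lpe (f301661 IH) (Lpn (LP (LK LD1_c4 LD2_c19 LD3_c40))))))
theorem f254073 : Led Lsl_dt (LP (LK LD1_c8 LD2_c37 LD3_c35)) = (LP (LK LD1_c4 LD2_c19 LD3_c40)) :=
  Lre_d IH (LK LD1_c8 LD2_c37 LD3_c35) (LK LD1_c4 LD2_c19 LD3_c40) Lrfl Lrfl
theorem f301683 : Led Lsl_et (LP (LK LD1_c8 LD2_c37 LD3_c35)) = (LP (LK LD1_c5 LD2_c36 LD3_c36)) :=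
  Lgr Lrot122 (Lpr_dt (f254073 IH) (Lpe (f301662 IH) (Lpr_df (f301667 IH) (Lpr_et (f47872 IH) (Lpr_gt (K11.f47858 IH) (Lpr_dt (K1.f47849 IH) (Lpr_gt (K14.f47859 IH) (Lpe (K14.f54975 IH) (Lpr_et (K14.f54976 IH) (Lpe (K14.f254189 IH) (Lpn (LP (LK LD1_c5 LD2_c36 LD3_c36)))))))))))))
theorem f301689 : Led Lsl_ef (LP (LK LD1_c8 LD2_c37 LD3_c35)) = (LP (LK LD1_c5 LD2_c36 LD3_c36)) :=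
  Lgr Lrot88 (Lpr_et (f301683 IH) (Lpn (LP (LK LD1_c5 LD2_c36 LD3_c36))))
theorem f166856 : Led Lsl_ft (LP (LK LD1_c2 LD2_c29 LD3_c22)) = (LP (LK LD1_c5 LD2_c3 LD3_c50)) :=
  Lre_f IH (LK LD1_c2 LD2_c29 LD3_c22) (LK LD1_c5 LD2_c3 LD3_c50) Lrfl Lrfl
theorem f249616 : Led Lsl_et (LP (LK LD1_c5 LD2_c3 LD3_c50)) = (LP (LK LD1_c5 LD2_c10 LD3_c36)) :=
  Lgr Lrot69 (Lpe (f166856 IH) (Lpe (K10.f166851 IH) (Lpr_ff (K14.f249607 IH) (Lpe (K14.f214283 IH) (Lpe (K14.f249615 IH) (Lpn (LP (LK LD1_c5 LD2_c10 LD3_c36))))))))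
theorem f301695 : Led Lsl_et (LP (LK LD1_c4 LD2_c19 LD3_c40)) = (LP (LK LD1_c4 LD2_c12 LD3_c31)) :=
  Lgr Lrot71 (Lpe (f254073 IH) (Lpr_ef (f301689 IH) (Lpe (K14.f253655 IH) (Lpe (f249616 IH) (Lpr_df (K10.f166817 IH) (Lpn (LP (LK LD1_c4 LD2_c12 LD3_c31))))))))
theorem f301697 : Led Lsl_bt (LP (LK LD1_c2 LD2_c7 LD3_c21)) = (LP (LK LD1_c4 LD2_c19 LD3_c40)) :=
  Lre_b IH (LK LD1_c2 LD2_c7 LD3_c21) (LK LD1_c4 LD2_c19 LD3_c40) Lrfl Lrfl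
theorem f166807 : Led Lsl_bt (LP (LK LD1_c4 LD2_c12 LD3_c31)) = (LP (LK LD1_c2 LD2_c3 LD3_c40)) :=
  Lre_b IH (LK LD1_c4 LD2_c12 LD3_c31) (LK LD1_c2 LD2_c3 LD3_c40) Lrfl Lrfl
theorem f301698 : Led Lsl_ef (LP (LK LD1_c2 LD2_c7 LD3_c21)) = (LP (LK LD1_c2 LD2_c3 LD3_c40)) :=
  Lgr Lrot29 (Lpr_bt (f301697 IH) (Lpr_et (f301695 IH) (Lpr_bt (f166807 IH) (Lpn (LP (LK LD1_c2 LD2_c3 LD3_c40))))))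
theorem f301704 : Led Lsl_et (LP (LK LD1_c2 LD2_c7 LD3_c21)) = (LP (LK LD1_c2 LD2_c3 LD3_c40)) :=
  Lgr Lrot87 (Lpr_ef (f301698 IH) (Lpn (LP (LK LD1_c2 LD2_c3 LD3_c40))))
theorem f301708 : Led Lsl_dt (LP (LK LD1_c4 LD2_c19 LD3_c48)) = (LP (LK LD1_c2 LD2_c7 LD3_c21)) :=
  Lre_d IH (LK LD1_c4 LD2_c19 LD3_c48) (LK LD1_c2 LD2_c7 LD3_c21) Lrfl Lrfl
theorem f254079 : Led Lsl_bt (LP (LK LD1_c4 LD2_c19 LD3_c48)) = (LP (LK LD1_c8 LD2_c37 LD3_c35)) :=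
  Lre_b IH (LK LD1_c4 LD2_c19 LD3_c48) (LK LD1_c8 LD2_c37 LD3_c35) Lrfl Lrfl
theorem f301685 : Led Lsl_ef (LP (LK LD1_c4 LD2_c19 LD3_c48)) = (LP (LK LD1_c2 LD2_c44 LD3_c13)) :=
  Lgr Lrot29 (Lpr_bt (f254079 IH) (Lpr_et (f301683 IH) (Lpr_bt (K14.f253670 IH) (Lpn (LP (LK LD1_c2 LD2_c44 LD3_c13))))))
theorem f248734 : Led Lsl_bt (LP (LK LD1_c5 LD2_c10 LD3_c36)) = (LP (LK LD1_c2 LD2_c32 LD3_c26)) :=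
  Lre_b IH (LK LD1_c5 LD2_c10 LD3_c36) (LK LD1_c2 LD2_c32 LD3_c26) Lrfl Lrfl
theorem f253650 : Led Lsl_bt (LP (LK LD1_c2 LD2_c44 LD3_c13)) = (LP (LK LD1_c5 LD2_c36 LD3_c36)) :=
  Lre_b IH (LK LD1_c2 LD2_c44 LD3_c13) (LK LD1_c5 LD2_c36 LD3_c36) Lrfl Lrfl
theorem f253651 : Led Lsl_dt (LP (LK LD1_c2 LD2_c32 LD3_c26)) = (LP (LK LD1_c2 LD2_c44 LD3_c13)) :=
  Lgr Lrot79 (Lpe (f248734 IH) (Lpr_df (K14.f253625 IH) (Lpe (f253650 IH) (Lpn (LP (LK LD1_c2 LD2_c44 LD3_c13))))))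
theorem f301709 : Led Lsl_ef (LP (LK LD1_c2 LD2_c32 LD3_c26)) = (LP (LK LD1_c2 LD2_c29 LD3_c28)) :=
  Lgr Lrot73 (Lpr_dt (f253651 IH) (Lpe (f301685 IH) (Lpr_dt (f301708 IH) (Lpr_et (f301704 IH) (Lpe (K10.f166707 IH) (Lpn (LP (LK LD1_c2 LD2_c29 LD3_c28))))))))
theorem f166814 : Led Lsl_ct (LP (LK LD1_c5 LD2_c3 LD3_c59)) = (LP (LK LD1_c2 LD2_c29 LD3_c28)) :=
  Lre_c IH (LK LD1_c5 LD2_c3 LD3_c59) (LK LD1_c2 LD2_c29 LD3_c28) Lrfl Lrfl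
theorem f301714 : Led Lsl_et (LP (LK LD1_c5 LD2_c10 LD3_c46)) = (LP (LK LD1_c5 LD2_c3 LD3_c59)) :=
  Lgr Lrot158 (Lpe (K14.f248730 IH) (Lpr_ef (f301709 IH) (Lpe (f166814 IH) (Lpn (LP (LK LD1_c5 LD2_c3 LD3_c59))))))
theorem f301718 : Led Lsl_ef (LP (LK LD1_c5 LD2_c10 LD3_c46)) = (LP (LK LD1_c5 LD2_c3 LD3_c59)) :=
  Lgr Lrot88 (Lpr_et (f301714 IH) (Lpn (LP (LK LD1_c5 LD2_c3 LD3_c59))))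
theorem f248863 : Led Lsl_et (LP (LK LD1_c1 LD2_c11 LD3_c45)) = (LP (LK LD1_c2 LD2_c29 LD3_c16)) :=
  Lre_e IH (LK LD1_c1 LD2_c11 LD3_c45) (LK LD1_c2 LD2_c29 LD3_c16) Lrfl Lrfl
theorem f248864 : Led Lsl_ft (LP (LK LD1_c2 LD2_c29 LD3_c16)) = (LP (LK LD1_c5 LD2_c3 LD3_c35)) :=
  Lre_f IH (LK LD1_c2 LD2_c29 LD3_c16) (LK LD1_c5 LD2_c3 LD3_c35) Lrfl Lrfl
theorem f180643 : Led Lsl_et (LP (LK LD1_c2 LD2_c32 LD3_c31)) = (LP (LK LD1_c1 LD2_c13 LD3_c13)) :=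
  Lre_e IH (LK LD1_c2 LD2_c32 LD3_c31) (LK LD1_c1 LD2_c13 LD3_c13) Lrfl Lrfl
theorem f248865 : Led Lsl_ft (LP (LK LD1_c5 LD2_c11 LD3_c5)) = (LP (LK LD1_c2 LD2_c32 LD3_c31)) :=
  Lre_f IH (LK LD1_c5 LD2_c11 LD3_c5) (LK LD1_c2 LD2_c32 LD3_c31) Lrfl Lrfl
theorem f248866 : Led Lsl_et (LP (LK LD1_c5 LD2_c3 LD3_c35)) = (LP (LK LD1_c5 LD2_c11 LD3_c5)) :=
  Lgr Lrot69 (Lpe (f248864 IH) (Lpe (f248863 IH) (Lpr_ff (K14.f248858 IH) (Lpe (f180643 IH) (Lpe (f248865 IH) (Lpn (LP (LK LD1_c5 LD2_c11 LD3_c5))))))))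
theorem f301721 : Led Lsl_at (LP (LK LD1_c5 LD2_c11 LD3_c5)) = (LP (LK LD1_c5 LD2_c3 LD3_c59)) :=
  Lgr Lrot80 (Lpe (f248866 IH) (Lpr_af (K14.f248751 IH) (Lpr_ef (f301718 IH) (Lpn (LP (LK LD1_c5 LD2_c3 LD3_c59))))))
theorem f301725 : Led Lsl_ft (LP (LK LD1_c2 LD2_c32 LD3_c31)) = (LP (LK LD1_c5 LD2_c11 LD3_c5)) :=
  Lre_f IH (LK LD1_c2 LD2_c32 LD3_c31) (LK LD1_c5 LD2_c11 LD3_c5) Lrfl Lrfl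
theorem f301720 : Led Lsl_ft (LP (LK LD1_c5 LD2_c3 LD3_c59)) = (LP (LK LD1_c2 LD2_c29 LD3_c25)) :=
  Lre_f IH (LK LD1_c5 LD2_c3 LD3_c59) (LK LD1_c2 LD2_c29 LD3_c25) Lrfl Lrfl
theorem f301726 : Led Lsl_af (LP (LK LD1_c2 LD2_c32 LD3_c31)) = (LP (LK LD1_c2 LD2_c29 LD3_c25)) :=
  Lgr Lrot45 (Lpr_ft (f301725 IH) (Lpr_at (f301721 IH) (Lpr_ft (f301720 IH) (Lpn (LP (LK LD1_c2 LD2_c29 LD3_c25))))))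
theorem f249989 : Led Lsl_et (LP (LK LD1_c1 LD2_c11 LD3_c48)) = (LP (LK LD1_c2 LD2_c29 LD3_c25)) :=
  Lre_e IH (LK LD1_c1 LD2_c11 LD3_c48) (LK LD1_c2 LD2_c29 LD3_c25) Lrfl Lrfl
theorem f301737 : Led Lsl_at (LP (LK LD1_c1 LD2_c13 LD3_c13)) = (LP (LK LD1_c1 LD2_c11 LD3_c48)) :=
  Lgr Lrot80 (Lpe (f180643 IH) (Lpr_af (f301726 IH) (Lpe (f249989 IH) (Lpn (LP (LK LD1_c1 LD2_c11 LD3_c48))))))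
theorem f301747 : Led Lsl_af (LP (LK LD1_c2 LD2_c32 LD3_c30)) = (LP (LK LD1_c2 LD2_c29 LD3_c24)) :=
  Lgr Lrot117 (Lpr_dt (K14.f165257 IH) (Lpr_at (f301737 IH) (Lpr_dt (K10.f165586 IH) (Lpn (LP (LK LD1_c2 LD2_c29 LD3_c24))))))
theorem f180750 : Led Lsl_et (LP (LK LD1_c2 LD2_c32 LD3_c30)) = (LP (LK LD1_c5 LD2_c11 LD3_c2)) :=
  Lre_e IH (LK LD1_c2 LD2_c32 LD3_c30) (LK LD1_c5 LD2_c11 LD3_c2) Lrfl Lrfl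
theorem f165665 : Led Lsl_et (LP (LK LD1_c5 LD2_c3 LD3_c56)) = (LP (LK LD1_c2 LD2_c29 LD3_c24)) :=
  Lre_e IH (LK LD1_c5 LD2_c3 LD3_c56) (LK LD1_c2 LD2_c29 LD3_c24) Lrfl Lrfl
theorem f301754 : Led Lsl_at (LP (LK LD1_c5 LD2_c11 LD3_c2)) = (LP (LK LD1_c5 LD2_c3 LD3_c56)) :=
  Lgr Lrot80 (Lpe (f180750 IH) (Lpr_af (f301747 IH) (Lpe (f165665 IH) (Lpn (LP (LK LD1_c5 LD2_c3 LD3_c56))))))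
theorem f61339 : Led Lsl_et (LP (LK LD1_c1 LD2_c13 LD3_c56)) = (LP (LK LD1_c2 LD2_c33 LD3_c57)) :=
  Lre_e IH (LK LD1_c1 LD2_c13 LD3_c56) (LK LD1_c2 LD2_c33 LD3_c57) Lrfl Lrfl
theorem f181074 : Led Lsl_et (LP (LK LD1_c5 LD2_c11 LD3_c2)) = (LP (LK LD1_c2 LD2_c32 LD3_c30)) :=
  Lre_e IH (LK LD1_c5 LD2_c11 LD3_c2) (LK LD1_c2 LD2_c32 LD3_c30) Lrfl Lrfl
theorem f181075 : Led Lsl_ct (LP (LK LD1_c2 LD2_c33 LD3_c57)) = (LP (LK LD1_c5 LD2_c11 LD3_c2)) :=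
  Lgr Lrot15 (Lpe (f61339 IH) (Lpr_cf (K14.f181043 IH) (Lpe (f181074 IH) (Lpn (LP (LK LD1_c5 LD2_c11 LD3_c2))))))
theorem f68558 : Led Lsl_et (LP (LK LD1_c1 LD2_c12 LD3_c28)) = (LP (LK LD1_c2 LD2_c30 LD3_c56)) :=
  Lre_e IH (LK LD1_c1 LD2_c12 LD3_c28) (LK LD1_c2 LD2_c30 LD3_c56) Lrfl Lrfl
theorem f165666 : Led Lsl_cf (LP (LK LD1_c5 LD2_c3 LD3_c56)) = (LP (LK LD1_c2 LD2_c30 LD3_c56)) :=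
  Lgr Lrot39 (Lpr_et (f165665 IH) (Lpr_ct (K10.f165653 IH) (Lpr_et (f68558 IH) (Lpn (LP (LK LD1_c2 LD2_c30 LD3_c56))))))
theorem f165676 : Led Lsl_ct (LP (LK LD1_c5 LD2_c3 LD3_c56)) = (LP (LK LD1_c2 LD2_c30 LD3_c56)) :=
  Lgr Lrot59 (Lpr_cf (f165666 IH) (Lpn (LP (LK LD1_c2 LD2_c30 LD3_c56))))
theorem f301759 : Led Lsl_af (LP (LK LD1_c2 LD2_c33 LD3_c57)) = (LP (LK LD1_c2 LD2_c30 LD3_c56)) :=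
  Lgr Lrot68 (Lpr_ct (f181075 IH) (Lpr_at (f301754 IH) (Lpr_ct (f165676 IH) (Lpn (LP (LK LD1_c2 LD2_c30 LD3_c56))))))
theorem f301761 : Led Lsl_at (LP (LK LD1_c2 LD2_c33 LD3_c57)) = (LP (LK LD1_c2 LD2_c30 LD3_c56)) :=
  Lgr Lrot100 (Lpr_af (f301759 IH) (Lpn (LP (LK LD1_c2 LD2_c30 LD3_c56))))
theorem f68550 : Led Lsl_et (LP (LK LD1_c2 LD2_c30 LD3_c56)) = (LP (LK LD1_c1 LD2_c12 LD3_c28)) :=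
  Lre_e IH (LK LD1_c2 LD2_c30 LD3_c56) (LK LD1_c1 LD2_c12 LD3_c28) Lrfl Lrfl
theorem f301783 : Led Lsl_af (LP (LK LD1_c1 LD2_c13 LD3_c56)) = (LP (LK LD1_c1 LD2_c12 LD3_c28)) :=
  Lgr Lrot50 (Lpr_et (f61339 IH) (Lpr_at (f301761 IH) (Lpr_et (f68550 IH) (Lpn (LP (LK LD1_c1 LD2_c12 LD3_c28))))))
theorem f301786 : Led Lsl_at (LP (LK LD1_c0 LD2_c34 LD3_c16)) = (LP (LK LD1_c0 LD2_c33 LD3_c34)) :=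
  Lgr Lrot51 (Lpe (K12.f61305 IH) (Lpr_af (f301783 IH) (Lpe (K10.f3291 IH) (Lpn (LP (LK LD1_c0 LD2_c33 LD3_c34))))))
theorem f301793 : Led Lsl_ff (LP (LK LD1_c0 LD2_c34 LD3_c16)) = (LP (LK LD1_c0 LD2_c33 LD3_c35)) :=
  Lgr Lrot52 (Lpr_at (f301786 IH) (Lpe (K10.f3290 IH) (Lpe (K9.f3298 IH) (Lpn (LP (LK LD1_c0 LD2_c33 LD3_c35))))))
theorem f301797 : Led Lsl_ft (LP (LK LD1_c0 LD2_c34 LD3_c16)) = (LP (LK LD1_c0 LD2_c33 LD3_c35)) :=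
  Lgr Lrot48 (Lpr_ff (f301793 IH) (Lpn (LP (LK LD1_c0 LD2_c33 LD3_c35))))
theorem f301803 : Led Lsl_ff (LP (LK LD1_c1 LD2_c13 LD3_c56)) = (LP (LK LD1_c1 LD2_c12 LD3_c31)) :=
  Lgr Lrot19 (Lpr_dt (K12.f61305 IH) (Lpr_ft (f301797 IH) (Lpr_dt (K10.f53189 IH) (Lpn (LP (LK LD1_c1 LD2_c12 LD3_c31))))))
theorem f61325 : Led Lsl_ft (LP (LK LD1_c2 LD2_c33 LD3_c57)) = (LP (LK LD1_c5 LD2_c14 LD3_c9)) :=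
  Lre_f IH (LK LD1_c2 LD2_c33 LD3_c57) (LK LD1_c5 LD2_c14 LD3_c9) Lrfl Lrfl
theorem f194049 : Led Lsl_et (LP (LK LD1_c2 LD2_c31 LD3_c0)) = (LP (LK LD1_c1 LD2_c12 LD3_c31)) :=
  Lre_e IH (LK LD1_c2 LD2_c31 LD3_c0) (LK LD1_c1 LD2_c12 LD3_c31) Lrfl Lrfl
theorem f301807 : Led Lsl_ft (LP (LK LD1_c5 LD2_c7 LD3_c29)) = (LP (LK LD1_c2 LD2_c31 LD3_c0)) :=
  Lre_f IH (LK LD1_c5 LD2_c7 LD3_c29) (LK LD1_c2 LD2_c31 LD3_c0) Lrfl Lrfl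
theorem f301808 : Led Lsl_et (LP (LK LD1_c5 LD2_c14 LD3_c9)) = (LP (LK LD1_c5 LD2_c7 LD3_c29)) :=
  Lgr Lrot69 (Lpe (f61325 IH) (Lpe (f61339 IH) (Lpr_ff (f301803 IH) (Lpe (f194049 IH) (Lpe (f301807 IH) (Lpn (LP (LK LD1_c5 LD2_c7 LD3_c29))))))))
theorem f165678 : Led Lsl_ft (LP (LK LD1_c5 LD2_c7 LD3_c11)) = (LP (LK LD1_c2 LD2_c30 LD3_c56)) :=
  Lre_f IH (LK LD1_c5 LD2_c7 LD3_c11) (LK LD1_c2 LD2_c30 LD3_c56) Lrfl Lrfl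
theorem f301763 : Led Lsl_at (LP (LK LD1_c5 LD2_c14 LD3_c9)) = (LP (LK LD1_c5 LD2_c7 LD3_c11)) :=
  Lgr Lrot66 (Lpe (f61325 IH) (Lpr_af (f301759 IH) (Lpe (f165678 IH) (Lpn (LP (LK LD1_c5 LD2_c7 LD3_c11))))))
theorem f301768 : Led Lsl_af (LP (LK LD1_c5 LD2_c14 LD3_c9)) = (LP (LK LD1_c5 LD2_c7 LD3_c11)) :=
  Lgr Lrot0 (Lpr_at (f301763 IH) (Lpn (LP (LK LD1_c5 LD2_c7 LD3_c11))))
theorem f186686 : Led Lsl_et (LP (LK LD1_c1 LD2_c13 LD3_c59)) = (LP (LK LD1_c2 LD2_c34 LD3_c0)) :=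
  Lre_e IH (LK LD1_c1 LD2_c13 LD3_c59) (LK LD1_c2 LD2_c34 LD3_c0) Lrfl Lrfl
theorem f250209 : Led Lsl_ft (LP (LK LD1_c2 LD2_c34 LD3_c0)) = (LP (LK LD1_c5 LD2_c14 LD3_c21)) :=
  Lre_f IH (LK LD1_c2 LD2_c34 LD3_c0) (LK LD1_c5 LD2_c14 LD3_c21) Lrfl Lrfl
theorem f250210 : Led Lsl_ef (LP (LK LD1_c5 LD2_c7 LD3_c11)) = (LP (LK LD1_c5 LD2_c14 LD3_c21)) :=
  Lgr Lrot21 (Lpr_ft (f165678 IH) (Lpr_et (f68550 IH) (Lpr_ft (K14.f250202 IH) (Lpr_et (f186686 IH) (Lpr_ft (f250209 IH) (Lpn (LP (LK LD1_c5 LD2_c14 LD3_c21))))))))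
theorem f301810 : Led Lsl_af (LP (LK LD1_c5 LD2_c14 LD3_c21)) = (LP (LK LD1_c5 LD2_c7 LD3_c29)) :=
  Lgr Lrot50 (Lpe (f250210 IH) (Lpe (f301768 IH) (Lpr_et (f301808 IH) (Lpn (LP (LK LD1_c5 LD2_c7 LD3_c29))))))
theorem f301819 : Led Lsl_ft (LP (LK LD1_c5 LD2_c14 LD3_c21)) = (LP (LK LD1_c2 LD2_c34 LD3_c0)) :=
  Lre_f IH (LK LD1_c5 LD2_c14 LD3_c21) (LK LD1_c2 LD2_c34 LD3_c0) Lrfl Lrfl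
theorem f301816 : Led Lsl_ft (LP (LK LD1_c2 LD2_c31 LD3_c0)) = (LP (LK LD1_c5 LD2_c7 LD3_c29)) :=
  Lre_f IH (LK LD1_c2 LD2_c31 LD3_c0) (LK LD1_c5 LD2_c7 LD3_c29) Lrfl Lrfl
theorem f301820 : Led Lsl_at (LP (LK LD1_c2 LD2_c34 LD3_c0)) = (LP (LK LD1_c2 LD2_c31 LD3_c0)) :=
  Lgr Lrot66 (Lpe (f301819 IH) (Lpr_af (f301810 IH) (Lpe (f301816 IH) (Lpn (LP (LK LD1_c2 LD2_c31 LD3_c0))))))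
theorem f169130 : Led Lsl_dt (LP (LK LD1_c5 LD2_c14 LD3_c20)) = (LP (LK LD1_c2 LD2_c34 LD3_c0)) :=
  Lre_d IH (LK LD1_c5 LD2_c14 LD3_c20) (LK LD1_c2 LD2_c34 LD3_c0) Lrfl Lrfl
theorem f194050 : Led Lsl_dt (LP (LK LD1_c2 LD2_c31 LD3_c0)) = (LP (LK LD1_c5 LD2_c7 LD3_c28)) :=
  Lre_d IH (LK LD1_c2 LD2_c31 LD3_c0) (LK LD1_c5 LD2_c7 LD3_c28) Lrfl Lrfl
theorem f301831 : Led Lsl_af (LP (LK LD1_c5 LD2_c14 LD3_c20)) = (LP (LK LD1_c5 LD2_c7 LD3_c28)) :=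
  Lgr Lrot117 (Lpr_dt (f169130 IH) (Lpr_at (f301820 IH) (Lpr_dt (f194050 IH) (Lpn (LP (LK LD1_c5 LD2_c7 LD3_c28))))))
theorem f169129 : Led Lsl_et (LP (LK LD1_c5 LD2_c14 LD3_c20)) = (LP (LK LD1_c2 LD2_c34 LD3_c1)) :=
  Lre_e IH (LK LD1_c5 LD2_c14 LD3_c20) (LK LD1_c2 LD2_c34 LD3_c1) Lrfl Lrfl
theorem f194063 : Led Lsl_et (LP (LK LD1_c2 LD2_c31 LD3_c1)) = (LP (LK LD1_c5 LD2_c7 LD3_c28)) :=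
  Lre_e IH (LK LD1_c2 LD2_c31 LD3_c1) (LK LD1_c5 LD2_c7 LD3_c28) Lrfl Lrfl
theorem f301839 : Led Lsl_at (LP (LK LD1_c2 LD2_c34 LD3_c1)) = (LP (LK LD1_c2 LD2_c31 LD3_c1)) :=
  Lgr Lrot80 (Lpe (f169129 IH) (Lpr_af (f301831 IH) (Lpe (f194063 IH) (Lpn (LP (LK LD1_c2 LD2_c31 LD3_c1))))))
theorem f56666 : Led Lsl_dt (LP (LK LD1_c1 LD2_c13 LD3_c60)) = (LP (LK LD1_c2 LD2_c34 LD3_c1)) :=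
  Lre_d IH (LK LD1_c1 LD2_c13 LD3_c60) (LK LD1_c2 LD2_c34 LD3_c1) Lrfl Lrfl
theorem f301847 : Led Lsl_af (LP (LK LD1_c1 LD2_c13 LD3_c60)) = (LP (LK LD1_c1 LD2_c12 LD3_c32)) :=
  Lgr Lrot117 (Lpr_dt (f56666 IH) (Lpr_at (f301839 IH) (Lpr_dt (K10.f172045 IH) (Lpn (LP (LK LD1_c1 LD2_c12 LD3_c32))))))
theorem f56665 : Led Lsl_et (LP (LK LD1_c1 LD2_c13 LD3_c60)) = (LP (LK LD1_c0 LD2_c34 LD3_c17)) :=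
  Lre_e IH (LK LD1_c1 LD2_c13 LD3_c60) (LK LD1_c0 LD2_c34 LD3_c17) Lrfl Lrfl
theorem f53200 : Led Lsl_et (LP (LK LD1_c0 LD2_c33 LD3_c35)) = (LP (LK LD1_c1 LD2_c12 LD3_c32)) :=
  Lre_e IH (LK LD1_c0 LD2_c33 LD3_c35) (LK LD1_c1 LD2_c12 LD3_c32) Lrfl Lrfl
theorem f301857 : Led Lsl_at (LP (LK LD1_c0 LD2_c34 LD3_c17)) = (LP (LK LD1_c0 LD2_c33 LD3_c35)) :=
  Lgr Lrot80 (Lpe (f56665 IH) (Lpr_af (f301847 IH) (Lpe (f53200 IH) (Lpn (LP (LK LD1_c0 LD2_c33 LD3_c35))))))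
theorem f301865 : Led Lsl_ff (LP (LK LD1_c0 LD2_c34 LD3_c17)) = (LP (LK LD1_c0 LD2_c33 LD3_c34)) :=
  Lgr Lrot30 (Lpr_at (f301857 IH) (Lpe (f301793 IH) (Lpr_at (f301786 IH) (Lpn (LP (LK LD1_c0 LD2_c33 LD3_c34))))))
theorem f186672 : Led Lsl_et (LP (LK LD1_c0 LD2_c34 LD3_c17)) = (LP (LK LD1_c1 LD2_c13 LD3_c60)) :=
  Lre_e IH (LK LD1_c0 LD2_c34 LD3_c17) (LK LD1_c1 LD2_c13 LD3_c60) Lrfl Lrfl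
theorem f193789 : Led Lsl_ct (LP (LK LD1_c0 LD2_c57 LD3_c27)) = (LP (LK LD1_c1 LD2_c13 LD3_c60)) :=
  Lgr Lrot15 (Lpr_ef (K10.f193787 IH) (Lpr_cf (K10.f186682 IH) (Lpe (f56665 IH) (Lpn (LP (LK LD1_c1 LD2_c13 LD3_c60))))))
theorem f289750 : Led Lsl_ff (LP (LK LD1_c1 LD2_c25 LD3_c33)) = (LP (LK LD1_c1 LD2_c13 LD3_c60)) :=
  Lgr Lrot23 (Lpr_ct (K11.f204856 IH) (Lpr_ft (K17.f289746 IH) (Lpr_ct (f193789 IH) (Lpn (LP (LK LD1_c1 LD2_c13 LD3_c60))))))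
theorem f204880 : Led Lsl_bt (LP (LK LD1_c0 LD2_c56 LD3_c58)) = (LP (LK LD1_c0 LD2_c33 LD3_c28)) :=
  Lgr Lrot95 (Lpe (K14.f204866 IH) (Lpr_bf (K11.f204878 IH) (Lpe (K9.f22128 IH) (Lpn (LP (LK LD1_c0 LD2_c33 LD3_c28))))))
theorem f204859 : Led Lsl_bt (LP (LK LD1_c2 LD2_c59 LD3_c43)) = (LP (LK LD1_c1 LD2_c25 LD3_c33)) :=
  Lre_b IH (LK LD1_c2 LD2_c59 LD3_c43) (LK LD1_c1 LD2_c25 LD3_c33) Lrfl Lrfl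
theorem f166159 : Led Lsl_bt (LP (LK LD1_c1 LD2_c12 LD3_c18)) = (LP (LK LD1_c2 LD2_c30 LD3_c36)) :=
  Lre_b IH (LK LD1_c1 LD2_c12 LD3_c18) (LK LD1_c2 LD2_c30 LD3_c36) Lrfl Lrfl
theorem f205198 : Led Lsl_cf (LP (LK LD1_c2 LD2_c59 LD3_c43)) = (LP (LK LD1_c2 LD2_c30 LD3_c36)) :=
  Lgr Lrot97 (Lpr_bt (f204859 IH) (Lpr_ct (K11.f204856 IH) (Lpr_bt (f204880 IH) (Lpr_ct (K9.f166153 IH) (Lpr_bt (f166159 IH) (Lpn (LP (LK LD1_c2 LD2_c30 LD3_c36))))))))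
theorem f176946 : Led Lsl_et (LP (LK LD1_c2 LD2_c30 LD3_c37)) = (LP (LK LD1_c5 LD2_c6 LD3_c41)) :=
  Lre_e IH (LK LD1_c2 LD2_c30 LD3_c37) (LK LD1_c5 LD2_c6 LD3_c41) Lrfl Lrfl
theorem f26817 : Led Lsl_et (LP (LK LD1_c4 LD2_c41 LD3_c33)) = (LP (LK LD1_c2 LD2_c17 LD3_c51)) :=
  Lre_e IH (LK LD1_c4 LD2_c41 LD3_c33) (LK LD1_c2 LD2_c17 LD3_c51) Lrfl Lrfl
theorem f176950 : Led Lsl_dt (LP (LK LD1_c5 LD2_c6 LD3_c41)) = (LP (LK LD1_c4 LD2_c41 LD3_c33)) :=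
  Lgr Lrot77 (Lpe (f176946 IH) (Lpe (K13.f166156 IH) (Lpr_ef (K11.f176944 IH) (Lpe (K11.f176912 IH) (Lpe (f26817 IH) (Lpn (LP (LK LD1_c4 LD2_c41 LD3_c33))))))))
theorem f176957 : Led Lsl_df (LP (LK LD1_c5 LD2_c6 LD3_c41)) = (LP (LK LD1_c4 LD2_c41 LD3_c33)) :=
  Lgr Lrot38 (Lpr_dt (f176950 IH) (Lpn (LP (LK LD1_c4 LD2_c41 LD3_c33))))
theorem f176970 : Led Lsl_bt (LP (LK LD1_c5 LD2_c6 LD3_c41)) = (LP (LK LD1_c10 LD2_c4 LD3_c2)) :=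
  Lre_b IH (LK LD1_c5 LD2_c6 LD3_c41) (LK LD1_c10 LD2_c4 LD3_c2) Lrfl Lrfl
theorem f176971 : Led Lsl_bt (LP (LK LD1_c9 LD2_c17 LD3_c59)) = (LP (LK LD1_c4 LD2_c41 LD3_c33)) :=
  Lre_b IH (LK LD1_c9 LD2_c17 LD3_c59) (LK LD1_c4 LD2_c41 LD3_c33) Lrfl Lrfl
theorem f176972 : Led Lsl_dt (LP (LK LD1_c10 LD2_c4 LD3_c2)) = (LP (LK LD1_c9 LD2_c17 LD3_c59)) :=
  Lgr Lrot79 (Lpe (f176970 IH) (Lpr_df (f176957 IH) (Lpe (f176971 IH) (Lpn (LP (LK LD1_c9 LD2_c17 LD3_c59))))))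
theorem f176976 : Led Lsl_et (LP (LK LD1_c5 LD2_c6 LD3_c39)) = (LP (LK LD1_c10 LD2_c4 LD3_c2)) :=
  Lre_e IH (LK LD1_c5 LD2_c6 LD3_c39) (LK LD1_c10 LD2_c4 LD3_c2) Lrfl Lrfl
theorem f176977 : Led Lsl_dt (LP (LK LD1_c2 LD2_c30 LD3_c36)) = (LP (LK LD1_c5 LD2_c6 LD3_c39)) :=
  Lre_d IH (LK LD1_c2 LD2_c30 LD3_c36) (LK LD1_c5 LD2_c6 LD3_c39) Lrfl Lrfl
theorem f176931 : Led Lsl_et (LP (LK LD1_c9 LD2_c17 LD3_c59)) = (LP (LK LD1_c4 LD2_c41 LD3_c32)) :=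
  Lre_e IH (LK LD1_c9 LD2_c17 LD3_c59) (LK LD1_c4 LD2_c41 LD3_c32) Lrfl Lrfl
theorem f176926 : Led Lsl_bt (LP (LK LD1_c2 LD2_c17 LD3_c51)) = (LP (LK LD1_c4 LD2_c41 LD3_c32)) :=
  Lre_b IH (LK LD1_c2 LD2_c17 LD3_c51) (LK LD1_c4 LD2_c41 LD3_c32) Lrfl Lrfl
theorem f176927 : Led Lsl_bt (LP (LK LD1_c2 LD2_c46 LD3_c41)) = (LP (LK LD1_c1 LD2_c19 LD3_c47)) :=
  Lre_b IH (LK LD1_c2 LD2_c46 LD3_c41) (LK LD1_c1 LD2_c19 LD3_c47) Lrfl Lrfl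
theorem f176928 : Led Lsl_dt (LP (LK LD1_c4 LD2_c41 LD3_c32)) = (LP (LK LD1_c2 LD2_c46 LD3_c41)) :=
  Lgr Lrot79 (Lpe (f176926 IH) (Lpr_df (K11.f176921 IH) (Lpe (f176927 IH) (Lpn (LP (LK LD1_c2 LD2_c46 LD3_c41))))))
theorem f176978 : Led Lsl_ef (LP (LK LD1_c2 LD2_c30 LD3_c36)) = (LP (LK LD1_c2 LD2_c46 LD3_c41)) :=
  Lgr Lrot73 (Lpr_dt (f176977 IH) (Lpr_et (f176976 IH) (Lpr_dt (f176972 IH) (Lpr_et (f176931 IH) (Lpr_dt (f176928 IH) (Lpn (LP (LK LD1_c2 LD2_c46 LD3_c41))))))))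
theorem f176642 : Led Lsl_bt (LP (LK LD1_c1 LD2_c31 LD3_c27)) = (LP (LK LD1_c3 LD2_c10 LD3_c26)) :=
  Lre_b IH (LK LD1_c1 LD2_c31 LD3_c27) (LK LD1_c3 LD2_c10 LD3_c26) Lrfl Lrfl
theorem f205102 : Led Lsl_ct (LP (LK LD1_c3 LD2_c10 LD3_c26)) = (LP (LK LD1_c2 LD2_c46 LD3_c41)) :=
  Lgr Lrot83 (Lpe (f176642 IH) (Lpe (K11.f25944 IH) (Lpr_bf (K13.f205098 IH) (Lpe (K11.f176911 IH) (Lpe (f176927 IH) (Lpn (LP (LK LD1_c2 LD2_c46 LD3_c41))))))))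
theorem f205202 : Led Lsl_et (LP (LK LD1_c2 LD2_c59 LD3_c43)) = (LP (LK LD1_c3 LD2_c10 LD3_c26)) :=
  Lgr Lrot158 (Lpr_cf (f205198 IH) (Lpr_ef (f176978 IH) (Lpe (f205102 IH) (Lpn (LP (LK LD1_c3 LD2_c10 LD3_c26))))))
theorem f205204 : Led Lsl_ef (LP (LK LD1_c2 LD2_c59 LD3_c43)) = (LP (LK LD1_c3 LD2_c10 LD3_c26)) :=
  Lgr Lrot88 (Lpr_et (f205202 IH) (Lpn (LP (LK LD1_c3 LD2_c10 LD3_c26))))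
theorem f205206 : Led Lsl_et (LP (LK LD1_c1 LD2_c25 LD3_c33)) = (LP (LK LD1_c1 LD2_c31 LD3_c27)) :=
  Lgr Lrot74 (Lpe (f204859 IH) (Lpr_ef (f205204 IH) (Lpe (f176642 IH) (Lpn (LP (LK LD1_c1 LD2_c31 LD3_c27))))))
theorem f22223 : Led Lsl_et (LP (LK LD1_c1 LD2_c12 LD3_c29)) = (LP (LK LD1_c0 LD2_c33 LD3_c34)) :=
  Lre_e IH (LK LD1_c1 LD2_c12 LD3_c29) (LK LD1_c0 LD2_c33 LD3_c34) Lrfl Lrfl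
theorem f301869 : Led Lsl_ft (LP (LK LD1_c1 LD2_c31 LD3_c27)) = (LP (LK LD1_c1 LD2_c12 LD3_c29)) :=
  Lgr Lrot86 (Lpe (f205206 IH) (Lpr_ff (f289750 IH) (Lpe (f186672 IH) (Lpr_ff (f301865 IH) (Lpe (f22223 IH) (Lpn (LP (LK LD1_c1 LD2_c12 LD3_c29))))))))
theorem f301875 : Led Lsl_ff (LP (LK LD1_c1 LD2_c31 LD3_c27)) = (LP (LK LD1_c1 LD2_c12 LD3_c29)) :=
  Lgr Lrot3 (Lpr_ft (f301869 IH) (Lpn (LP (LK LD1_c1 LD2_c12 LD3_c29))))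
theorem f225433 : Led Lsl_et (LP (LK LD1_c0 LD2_c16 LD3_c27)) = (LP (LK LD1_c0 LD2_c36 LD3_c54)) :=
  Lre_e IH (LK LD1_c0 LD2_c16 LD3_c27) (LK LD1_c0 LD2_c36 LD3_c54) Lrfl Lrfl
theorem f194040 : Led Lsl_dt (LP (LK LD1_c1 LD2_c13 LD3_c26)) = (LP (LK LD1_c2 LD2_c30 LD3_c55)) :=
  Lgr Lrot42 (Lpr_df (K10.f194035 IH) (Lpn (LP (LK LD1_c2 LD2_c30 LD3_c55))))
theorem f68548 : Led Lsl_et (LP (LK LD1_c0 LD2_c33 LD3_c34)) = (LP (LK LD1_c1 LD2_c12 LD3_c29)) :=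
  Lre_e IH (LK LD1_c0 LD2_c33 LD3_c34) (LK LD1_c1 LD2_c12 LD3_c29) Lrfl Lrfl
theorem f225434 : Led Lsl_gf (LP (LK LD1_c0 LD2_c36 LD3_c54)) = (LP (LK LD1_c1 LD2_c12 LD3_c29)) :=
  Lgr Lrot141 (Lpe (f225433 IH) (Lpr_dt (K12.f171772 IH) (Lpr_gt (K12.f225340 IH) (Lpr_df (K12.f211774 IH) (Lpr_et (K12.f181092 IH) (Lpr_gt (K12.f186818 IH) (Lpr_dt (f194040 IH) (Lpr_gt (K10.f165671 IH) (Lpe (K10.f3291 IH) (Lpr_et (f68548 IH) (Lpn (LP (LK LD1_c1 LD2_c12 LD3_c29)))))))))))))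
theorem f176986 : Led Lsl_gt (LP (LK LD1_c0 LD2_c36 LD3_c54)) = (LP (LK LD1_c1 LD2_c19 LD3_c44)) :=
  Lre_g IH (LK LD1_c0 LD2_c36 LD3_c54) (LK LD1_c1 LD2_c19 LD3_c44) Lrfl Lrfl
theorem f301883 : Led Lsl_at (LP (LK LD1_c1 LD2_c31 LD3_c27)) = (LP (LK LD1_c1 LD2_c19 LD3_c44)) :=
  Lgr Lrot26 (Lpr_ff (f301875 IH) (Lpe (f225434 IH) (Lpr_gt (f176986 IH) (Lpn (LP (LK LD1_c1 LD2_c19 LD3_c44))))))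
theorem f289708 : Led Lsl_af (LP (LK LD1_c0 LD2_c42 LD3_c13)) = (LP (LK LD1_c1 LD2_c6 LD3_c35)) :=
  Lgr Lrot0 (Lpr_at (K17.f289706 IH) (Lpn (LP (LK LD1_c1 LD2_c6 LD3_c35))))
theorem f301891 : Led Lsl_cf (LP (LK LD1_c1 LD2_c6 LD3_c35)) = (LP (LK LD1_c1 LD2_c19 LD3_c44)) :=
  Lgr Lrot1 (Lpe (f289708 IH) (Lpr_ct (K11.f25944 IH) (Lpr_at (f301883 IH) (Lpn (LP (LK LD1_c1 LD2_c19 LD3_c44))))))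
theorem f37273 : Led Lsl_dt (LP (LK LD1_c0 LD2_c29 LD3_c14)) = (LP (LK LD1_c1 LD2_c4 LD3_c1)) :=
  Lre_d IH (LK LD1_c0 LD2_c29 LD3_c14) (LK LD1_c1 LD2_c4 LD3_c1) Lrfl Lrfl
theorem f301901 : Led Lsl_dt (LP (LK LD1_c2 LD2_c13 LD3_c59)) = (LP (LK LD1_c1 LD2_c19 LD3_c44)) :=
  Lgr Lrot105 (Lpe (K17.f37274 IH) (Lpe (f37273 IH) (Lpr_gf (K11.f211010 IH) (Lpe (K11.f59026 IH) (Lpr_gt (K9.f59013 IH) (Lpe (K9.f58991 IH) (Lpr_gt (K9.f26597 IH) (Lpr_dt (K9.f35328 IH) (Lpr_cf (f301891 IH) (Lpn (LP (LK LD1_c1 LD2_c19 LD3_c44))))))))))))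
theorem f301897 : Led Lsl_ct (LP (LK LD1_c1 LD2_c6 LD3_c35)) = (LP (LK LD1_c1 LD2_c19 LD3_c44)) :=
  Lgr Lrot59 (Lpr_cf (f301891 IH) (Lpn (LP (LK LD1_c1 LD2_c19 LD3_c44))))
theorem f58989 : Led Lsl_ct (LP (LK LD1_c0 LD2_c40 LD3_c61)) = (LP (LK LD1_c1 LD2_c28 LD3_c46)) :=
  Lre_c IH (LK LD1_c0 LD2_c40 LD3_c61) (LK LD1_c1 LD2_c28 LD3_c46) Lrfl Lrfl
theorem f185784 : Led Lsl_gt (LP (LK LD1_c1 LD2_c28 LD3_c46)) = (LP (LK LD1_c3 LD2_c5 LD3_c31)) :=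
  Lre_g IH (LK LD1_c1 LD2_c28 LD3_c46) (LK LD1_c3 LD2_c5 LD3_c31) Lrfl Lrfl
theorem f301913 : Led Lsl_cf (LP (LK LD1_c2 LD2_c13 LD3_c59)) = (LP (LK LD1_c3 LD2_c5 LD3_c31)) :=
  Lgr Lrot175 (Lpr_dt (f301901 IH) (Lpe (f301897 IH) (Lpr_gf (K13.f212010 IH) (Lpr_cf (K16.f175532 IH) (Lpr_gf (K15.f185832 IH) (Lpe (K11.f185769 IH) (Lpr_gt (K11.f59005 IH) (Lpr_ct (f58989 IH) (Lpr_gt (f185784 IH) (Lpn (LP (LK LD1_c3 LD2_c5 LD3_c31))))))))))))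
theorem f301921 : Led Lsl_ct (LP (LK LD1_c2 LD2_c13 LD3_c59)) = (LP (LK LD1_c3 LD2_c5 LD3_c31)) :=
  Lgr Lrot59 (Lpr_cf (f301913 IH) (Lpn (LP (LK LD1_c3 LD2_c5 LD3_c31))))
theorem f301885 : Led Lsl_af (LP (LK LD1_c1 LD2_c31 LD3_c27)) = (LP (LK LD1_c1 LD2_c19 LD3_c44)) :=
  Lgr Lrot0 (Lpr_at (f301883 IH) (Lpn (LP (LK LD1_c1 LD2_c19 LD3_c44))))
theorem f301905 : Led Lsl_af (LP (LK LD1_c2 LD2_c13 LD3_c59)) = (LP (LK LD1_c1 LD2_c21 LD3_c23)) :=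
  Lgr Lrot117 (Lpr_dt (f301901 IH) (Lpe (f301885 IH) (Lpr_dt (K11.f176647 IH) (Lpn (LP (LK LD1_c1 LD2_c21 LD3_c23))))))
theorem f301931 : Led Lsl_af (LP (LK LD1_c2 LD2_c50 LD3_c47)) = (LP (LK LD1_c3 LD2_c5 LD3_c31)) :=
  Lgr Lrot68 (Lpr_ct (K11.f176646 IH) (Lpe (f301905 IH) (Lpr_ct (f301921 IH) (Lpn (LP (LK LD1_c3 LD2_c5 LD3_c31))))))
theorem f301936 : Led Lsl_at (LP (LK LD1_c2 LD2_c50 LD3_c47)) = (LP (LK LD1_c3 LD2_c5 LD3_c31)) :=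
  Lgr Lrot100 (Lpr_af (f301931 IH) (Lpn (LP (LK LD1_c3 LD2_c5 LD3_c31))))
theorem f301940 : Led Lsl_af (LP (LK LD1_c1 LD2_c21 LD3_c23)) = (LP (LK LD1_c2 LD2_c13 LD3_c59)) :=
  Lgr Lrot68 (Lpr_ct (K11.f176658 IH) (Lpr_at (f301936 IH) (Lpe (f301913 IH) (Lpn (LP (LK LD1_c2 LD2_c13 LD3_c59))))))
theorem f61294 : Led Lsl_gt (LP (LK LD1_c1 LD2_c21 LD3_c24)) = (LP (LK LD1_c0 LD2_c37 LD3_c33)) :=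
  Lre_g IH (LK LD1_c1 LD2_c21 LD3_c24) (LK LD1_c0 LD2_c37 LD3_c33) Lrfl Lrfl
theorem f301947 : Led Lsl_ft (LP (LK LD1_c1 LD2_c21 LD3_c24)) = (LP (LK LD1_c2 LD2_c13 LD3_c59)) :=
  Lgr Lrot2 (Lpr_gt (f61294 IH) (Lpr_gt (K11.f73198 IH) (Lpr_af (f301940 IH) (Lpn (LP (LK LD1_c2 LD2_c13 LD3_c59))))))
theorem f61291 : Led Lsl_et (LP (LK LD1_c1 LD2_c13 LD3_c57)) = (LP (LK LD1_c0 LD2_c34 LD3_c16)) :=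
  Lre_e IH (LK LD1_c1 LD2_c13 LD3_c57) (LK LD1_c0 LD2_c34 LD3_c16) Lrfl Lrfl
theorem f61295 : Led Lsl_dt (LP (LK LD1_c1 LD2_c13 LD3_c57)) = (LP (LK LD1_c1 LD2_c21 LD3_c24)) :=
  Lgr Lrot136 (Lpr_et (f61291 IH) (Lpe (K10.f61288 IH) (Lpr_ef (K8.f20464 IH) (Lpr_dt (K1.f20540 IH) (Lpr_gf (K4.f61280 IH) (Lpe (K2.f61213 IH) (Lpe (K1.f20555 IH) (Lpe (K6.f61292 IH) (Lpr_dt (K6.f61293 IH) (Lpe (f61294 IH) (Lpn (LP (LK LD1_c1 LD2_c21 LD3_c24)))))))))))))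
theorem f301955 : Led Lsl_ff (LP (LK LD1_c1 LD2_c13 LD3_c57)) = (LP (LK LD1_c1 LD2_c19 LD3_c44)) :=
  Lgr Lrot19 (Lpr_dt (f61295 IH) (Lpr_ft (f301947 IH) (Lpr_dt (f301901 IH) (Lpn (LP (LK LD1_c1 LD2_c19 LD3_c44))))))
theorem f302028 : Led Lsl_at (LP (LK LD1_c1 LD2_c13 LD3_c57)) = (LP (LK LD1_c1 LD2_c12 LD3_c29)) :=
  Lgr Lrot66 (Lpr_ff (f301955 IH) (Lpe (f301883 IH) (Lpr_ff (f301875 IH) (Lpn (LP (LK LD1_c1 LD2_c12 LD3_c29))))))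
theorem f242720 : Led Lsl_ef (LP (LK LD1_c0 LD2_c32 LD3_c12)) = (LP (LK LD1_c1 LD2_c6 LD3_c36)) :=
  Lgr Lrot88 (Lpr_et (K14.f242716 IH) (Lpn (LP (LK LD1_c1 LD2_c6 LD3_c36))))
theorem f242722 : Led Lsl_ct (LP (LK LD1_c1 LD2_c12 LD3_c29)) = (LP (LK LD1_c1 LD2_c6 LD3_c36)) :=
  Lgr Lrot15 (Lpe (f68548 IH) (Lpe (K10.f194083 IH) (Lpr_ef (f242720 IH) (Lpn (LP (LK LD1_c1 LD2_c6 LD3_c36))))))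
theorem f302062 : Led Lsl_af (LP (LK LD1_c0 LD2_c42 LD3_c16)) = (LP (LK LD1_c1 LD2_c6 LD3_c36)) :=
  Lgr Lrot68 (Lpe (K16.f210592 IH) (Lpr_at (f302028 IH) (Lpr_ct (f242722 IH) (Lpn (LP (LK LD1_c1 LD2_c6 LD3_c36))))))
theorem f302066 : Led Lsl_at (LP (LK LD1_c0 LD2_c32 LD3_c7)) = (LP (LK LD1_c0 LD2_c32 LD3_c12)) :=
  Lgr Lrot80 (Lpr_ef (K14.f205208 IH) (Lpr_af (f302062 IH) (Lpe (K14.f242716 IH) (Lpn (LP (LK LD1_c0 LD2_c32 LD3_c12))))))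
theorem f302068 : Led Lsl_af (LP (LK LD1_c0 LD2_c15 LD3_c2)) = (LP (LK LD1_c0 LD2_c15 LD3_c21)) :=
  Lgr Lrot36 (Lpr_bt (K11.f166376 IH) (Lpr_at (K14.f255345 IH) (Lpr_bt (K14.f201582 IH) (Lpr_at (f302066 IH) (Lpr_bt (K10.f194102 IH) (Lpn (LP (LK LD1_c0 LD2_c15 LD3_c21))))))))
theorem f255339 : Led Lsl_ft (LP (LK LD1_c0 LD2_c15 LD3_c2)) = (LP (LK LD1_c0 LD2_c15 LD3_c22)) :=
  Lgr Lrot75 (Lpe (K13.f3771 IH) (Lpr_ff (K14.f255337 IH) (Lpe (K13.f185096 IH) (Lpn (LP (LK LD1_c0 LD2_c15 LD3_c22))))))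
theorem f21254 : Led Lsl_ft (LP (LK LD1_c0 LD2_c31 LD3_c59)) = (LP (LK LD1_c0 LD2_c14 LD3_c15)) :=
  Lre_f IH (LK LD1_c0 LD2_c31 LD3_c59) (LK LD1_c0 LD2_c14 LD3_c15) Lrfl Lrfl
theorem f267801 : Led Lsl_ft (LP (LK LD1_c0 LD2_c15 LD3_c3)) = (LP (LK LD1_c0 LD2_c15 LD3_c21)) :=
  Lgr Lrot54 (Lpe (K9.f21232 IH) (Lpe (f21254 IH) (Lpr_df (K15.f267797 IH) (Lpn (LP (LK LD1_c0 LD2_c15 LD3_c21))))))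
theorem f302074 : Led Lsl_at (LP (LK LD1_c0 LD2_c15 LD3_c22)) = (LP (LK LD1_c0 LD2_c15 LD3_c3)) :=
  Lgr Lrot66 (Lpe (f255339 IH) (Lpr_af (f302068 IH) (Lpe (f267801 IH) (Lpn (LP (LK LD1_c0 LD2_c15 LD3_c3))))))
theorem f302082 : Led Lsl_af (LP (LK LD1_c0 LD2_c34 LD3_c15)) = (LP (LK LD1_c0 LD2_c33 LD3_c33)) :=
  Lgr Lrot50 (Lpr_et (K9.f20537 IH) (Lpr_at (f302074 IH) (Lpr_et (K9.f21251 IH) (Lpn (LP (LK LD1_c0 LD2_c33 LD3_c33))))))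
theorem f302090 : Led Lsl_at (LP (LK LD1_c0 LD2_c28 LD3_c53)) = (LP (LK LD1_c0 LD2_c16 LD3_c11)) :=
  Lgr Lrot51 (Lpr_df (K10.f20702 IH) (Lpr_af (f302082 IH) (Lpe (K9.f21262 IH) (Lpn (LP (LK LD1_c0 LD2_c16 LD3_c11))))))
theorem f302096 : Led Lsl_af (LP (LK LD1_c0 LD2_c14 LD3_c1)) = (LP (LK LD1_c0 LD2_c14 LD3_c14)) :=
  Lgr Lrot50 (Lpe (K9.f20676 IH) (Lpr_at (f302090 IH) (Lpr_et (K0.f3077 IH) (Lpn (LP (LK LD1_c0 LD2_c14 LD3_c14))))))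
theorem f302102 : Led Lsl_ft (LP (LK LD1_c0 LD2_c14 LD3_c3)) = (LP (LK LD1_c0 LD2_c14 LD3_c14)) :=
  Lgr Lrot2 (Lpr_gt (K9.f179015 IH) (Lpe (K9.f178973 IH) (Lpr_af (f302096 IH) (Lpn (LP (LK LD1_c0 LD2_c14 LD3_c14))))))
theorem f302104 : Led Lsl_ff (LP (LK LD1_c0 LD2_c31 LD3_c41)) = (LP (LK LD1_c0 LD2_c31 LD3_c57)) :=
  Lgr Lrot23 (Lpr_ct (K11.f2143 IH) (Lpr_ft (f302102 IH) (Lpr_ct (K0.f3066 IH) (Lpn (LP (LK LD1_c0 LD2_c31 LD3_c57))))))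
theorem f302106 : Led Lsl_at (LP (LK LD1_c0 LD2_c31 LD3_c41)) = (LP (LK LD1_c0 LD2_c31 LD3_c60)) :=
  Lgr Lrot26 (Lpr_ff (f302104 IH) (Lpe (K9.f179031 IH) (Lpe (K9.f170281 IH) (Lpn (LP (LK LD1_c0 LD2_c31 LD3_c60))))))
theorem f302098 : Led Lsl_at (LP (LK LD1_c0 LD2_c31 LD3_c38)) = (LP (LK LD1_c0 LD2_c31 LD3_c57)) :=
  Lgr Lrot107 (Lpe (K9.f268 IH) (Lpr_af (f302096 IH) (Lpe (K0.f3064 IH) (Lpn (LP (LK LD1_c0 LD2_c31 LD3_c57))))))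
theorem f302114 : Led Lsl_ff (LP (LK LD1_c0 LD2_c31 LD3_c38)) = (LP (LK LD1_c0 LD2_c31 LD3_c60)) :=
  Lgr Lrot30 (Lpr_at (f302098 IH) (Lpe (f302104 IH) (Lpr_at (f302106 IH) (Lpn (LP (LK LD1_c0 LD2_c31 LD3_c60))))))
theorem f302116 : Led Lsl_ft (LP (LK LD1_c0 LD2_c14 LD3_c1)) = (LP (LK LD1_c0 LD2_c14 LD3_c16)) :=
  Lgr Lrot4 (Lpe (K14.f265 IH) (Lpr_ff (f302114 IH) (Lpe (K9.f3087 IH) (Lpn (LP (LK LD1_c0 LD2_c14 LD3_c16))))))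
theorem f302120 : Led Lsl_ff (LP (LK LD1_c0 LD2_c14 LD3_c1)) = (LP (LK LD1_c0 LD2_c14 LD3_c16)) :=
  Lgr Lrot3 (Lpr_ft (f302116 IH) (Lpn (LP (LK LD1_c0 LD2_c14 LD3_c16))))
theorem f193370 : Led Lsl_bf (LP (LK LD1_c0 LD2_c28 LD3_c53)) = (LP (LK LD1_c1 LD2_c1 LD3_c32)) :=
  Lgr Lrot96 (Lpr_et (K9.f20682 IH) (Lpr_bt (f20699 IH) (Lpr_et (K10.f193368 IH) (Lpn (LP (LK LD1_c1 LD2_c1 LD3_c32))))))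
theorem f184904 : Led Lsl_bt (LP (LK LD1_c0 LD2_c15 LD3_c20)) = (LP (LK LD1_c0 LD2_c34 LD3_c5)) :=
  Lre_b IH (LK LD1_c0 LD2_c15 LD3_c20) (LK LD1_c0 LD2_c34 LD3_c5) Lrfl Lrfl
theorem f255204 : Led Lsl_ft (LP (LK LD1_c0 LD2_c28 LD3_c53)) = (LP (LK LD1_c0 LD2_c15 LD3_c20)) :=
  Lgr Lrot75 (Lpr_bf (f193370 IH) (Lpr_ff (K14.f255202 IH) (Lpe (f184904 IH) (Lpn (LP (LK LD1_c0 LD2_c15 LD3_c20))))))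
theorem f302126 : Led Lsl_ft (LP (LK LD1_c0 LD2_c6 LD3_c59)) = (LP (LK LD1_c0 LD2_c6 LD3_c51)) :=
  Lgr Lrot86 (Lpe (K9.f20486 IH) (Lpe (f255204 IH) (Lpr_ef (K9.f20676 IH) (Lpr_ff (f302120 IH) (Lpr_ef (K9.f164179 IH) (Lpn (LP (LK LD1_c0 LD2_c6 LD3_c51))))))))
theorem f302130 : Led Lsl_af (LP (LK LD1_c0 LD2_c6 LD3_c58)) = (LP (LK LD1_c0 LD2_c6 LD3_c51)) :=
  Lgr Lrot31 (Lpe (K9.f20470 IH) (Lpe (K9.f20474 IH) (Lpr_ft (f302126 IH) (Lpn (LP (LK LD1_c0 LD2_c6 LD3_c51))))))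
theorem f302134 : Led Lsl_at (LP (LK LD1_c0 LD2_c15 LD3_c15)) = (LP (LK LD1_c0 LD2_c14 LD3_c59)) :=
  Lgr Lrot107 (Lpe (K10.f165185 IH) (Lpr_af (f302130 IH) (Lpe (K9.f163703 IH) (Lpn (LP (LK LD1_c0 LD2_c14 LD3_c59))))))
theorem f302140 : Led Lsl_ff (LP (LK LD1_c0 LD2_c15 LD3_c15)) = (LP (LK LD1_c0 LD2_c14 LD3_c61)) :=
  Lgr Lrot52 (Lpr_at (f302134 IH) (Lpe (K9.f167611 IH) (Lpr_gf (K9.f165870 IH) (Lpn (LP (LK LD1_c0 LD2_c14 LD3_c61))))))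
theorem f302146 : Led Lsl_ft (LP (LK LD1_c0 LD2_c33 LD3_c61)) = (LP (LK LD1_c0 LD2_c33 LD3_c25)) :=
  Lgr Lrot54 (Lpe (K10.f185014 IH) (Lpr_ff (f302140 IH) (Lpe (K9.f163684 IH) (Lpn (LP (LK LD1_c0 LD2_c33 LD3_c25))))))
theorem f302151 : Led Lsl_af (LP (LK LD1_c0 LD2_c34 LD3_c7)) = (LP (LK LD1_c0 LD2_c33 LD3_c25)) :=
  Lgr Lrot31 (Lpr_gf (K14.f212102 IH) (Lpe (K12.f185578 IH) (Lpr_ft (f302146 IH) (Lpn (LP (LK LD1_c0 LD2_c33 LD3_c25))))))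
theorem f302138 : Led Lsl_af (LP (LK LD1_c0 LD2_c33 LD3_c61)) = (LP (LK LD1_c0 LD2_c33 LD3_c20)) :=
  Lgr Lrot117 (Lpr_dt (K10.f184990 IH) (Lpr_at (f302134 IH) (Lpr_dt (K9.f165191 IH) (Lpn (LP (LK LD1_c0 LD2_c33 LD3_c20))))))
theorem f302159 : Led Lsl_ft (LP (LK LD1_c0 LD2_c34 LD3_c7)) = (LP (LK LD1_c0 LD2_c33 LD3_c20)) :=
  Lgr Lrot101 (Lpr_af (f302151 IH) (Lpe (f302146 IH) (Lpr_af (f302138 IH) (Lpn (LP (LK LD1_c0 LD2_c33 LD3_c20))))))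
theorem f302166 : Led Lsl_ff (LP (LK LD1_c0 LD2_c34 LD3_c7)) = (LP (LK LD1_c0 LD2_c33 LD3_c20)) :=
  Lgr Lrot3 (Lpr_ft (f302159 IH) (Lpn (LP (LK LD1_c0 LD2_c33 LD3_c20))))
theorem f184896 : Led Lsl_et (LP (LK LD1_c0 LD2_c34 LD3_c7)) = (LP (LK LD1_c1 LD2_c13 LD3_c42)) :=
  Lre_e IH (LK LD1_c0 LD2_c34 LD3_c7) (LK LD1_c1 LD2_c13 LD3_c42) Lrfl Lrfl
theorem f184946 : Led Lsl_ft (LP (LK LD1_c1 LD2_c13 LD3_c42)) = (LP (LK LD1_c2 LD2_c33 LD3_c33)) :=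
  Lre_f IH (LK LD1_c1 LD2_c13 LD3_c42) (LK LD1_c2 LD2_c33 LD3_c33) Lrfl Lrfl
theorem f165226 : Led Lsl_et (LP (LK LD1_c1 LD2_c12 LD3_c3)) = (LP (LK LD1_c0 LD2_c33 LD3_c20)) :=
  Lre_e IH (LK LD1_c1 LD2_c12 LD3_c3) (LK LD1_c0 LD2_c33 LD3_c20) Lrfl Lrfl
theorem f302170 : Led Lsl_et (LP (LK LD1_c2 LD2_c33 LD3_c33)) = (LP (LK LD1_c2 LD2_c30 LD3_c8)) :=
  Lgr Lrot69 (Lpe (f184946 IH) (Lpe (f184896 IH) (Lpr_ff (f302166 IH) (Lpe (f165226 IH) (Lpe (f167443 IH) (Lpn (LP (LK LD1_c2 LD2_c30 LD3_c8))))))))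
theorem f288627 : Led Lsl_ct (LP (LK LD1_c5 LD2_c13 LD3_c21)) = (LP (LK LD1_c2 LD2_c33 LD3_c33)) :=
  Lre_c IH (LK LD1_c5 LD2_c13 LD3_c21) (LK LD1_c2 LD2_c33 LD3_c33) Lrfl Lrfl
theorem f167462 : Led Lsl_ct (LP (LK LD1_c2 LD2_c30 LD3_c8)) = (LP (LK LD1_c5 LD2_c5 LD3_c45)) :=
  Lre_c IH (LK LD1_c2 LD2_c30 LD3_c8) (LK LD1_c5 LD2_c5 LD3_c45) Lrfl Lrfl
theorem f302174 : Led Lsl_ef (LP (LK LD1_c5 LD2_c13 LD3_c21)) = (LP (LK LD1_c5 LD2_c5 LD3_c45)) :=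
  Lgr Lrot28 (Lpr_ct (f288627 IH) (Lpr_et (f302170 IH) (Lpr_ct (f167462 IH) (Lpn (LP (LK LD1_c5 LD2_c5 LD3_c45))))))
theorem f302180 : Led Lsl_et (LP (LK LD1_c5 LD2_c13 LD3_c21)) = (LP (LK LD1_c5 LD2_c5 LD3_c45)) :=
  Lgr Lrot87 (Lpr_ef (f302174 IH) (Lpn (LP (LK LD1_c5 LD2_c5 LD3_c45))))
theorem f302184 : Led Lsl_bt (LP (LK LD1_c10 LD2_c16 LD3_c61)) = (LP (LK LD1_c5 LD2_c13 LD3_c21)) :=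
  Lre_b IH (LK LD1_c10 LD2_c16 LD3_c61) (LK LD1_c5 LD2_c13 LD3_c21) Lrfl Lrfl
theorem f167467 : Led Lsl_bt (LP (LK LD1_c5 LD2_c5 LD3_c45)) = (LP (LK LD1_c10 LD2_c2 LD3_c34)) :=
  Lre_b IH (LK LD1_c5 LD2_c5 LD3_c45) (LK LD1_c10 LD2_c2 LD3_c34) Lrfl Lrfl
theorem f302185 : Led Lsl_ef (LP (LK LD1_c10 LD2_c16 LD3_c61)) = (LP (LK LD1_c10 LD2_c2 LD3_c34)) :=
  Lgr Lrot29 (Lpr_bt (f302184 IH) (Lpr_et (f302180 IH) (Lpr_bt (f167467 IH) (Lpn (LP (LK LD1_c10 LD2_c2 LD3_c34))))))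
theorem f302190 : Led Lsl_ft (LP (LK LD1_c10 LD2_c16 LD3_c61)) = (LP (LK LD1_c5 LD2_c13 LD3_c19)) :=
  Lre_f IH (LK LD1_c10 LD2_c16 LD3_c61) (LK LD1_c5 LD2_c13 LD3_c19) Lrfl Lrfl
theorem f185423 : Led Lsl_et (LP (LK LD1_c5 LD2_c13 LD3_c19)) = (LP (LK LD1_c2 LD2_c33 LD3_c29)) :=
  Lre_e IH (LK LD1_c5 LD2_c13 LD3_c19) (LK LD1_c2 LD2_c33 LD3_c29) Lrfl Lrfl
theorem f302191 : Led Lsl_ft (LP (LK LD1_c5 LD2_c5 LD3_c43)) = (LP (LK LD1_c10 LD2_c2 LD3_c34)) :=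
  Lre_f IH (LK LD1_c5 LD2_c5 LD3_c43) (LK LD1_c10 LD2_c2 LD3_c34) Lrfl Lrfl
theorem f302192 : Led Lsl_et (LP (LK LD1_c2 LD2_c30 LD3_c4)) = (LP (LK LD1_c5 LD2_c5 LD3_c43)) :=
  Lre_e IH (LK LD1_c2 LD2_c30 LD3_c4) (LK LD1_c5 LD2_c5 LD3_c43) Lrfl Lrfl
theorem f302193 : Led Lsl_ft (LP (LK LD1_c2 LD2_c33 LD3_c29)) = (LP (LK LD1_c2 LD2_c30 LD3_c4)) :=
  Lgr Lrot86 (Lpe (f185423 IH) (Lpe (f302190 IH) (Lpr_ef (f302185 IH) (Lpe (f302191 IH) (Lpe (f302192 IH) (Lpn (LP (LK LD1_c2 LD2_c30 LD3_c4))))))))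
theorem f302198 : Led Lsl_ff (LP (LK LD1_c2 LD2_c33 LD3_c29)) = (LP (LK LD1_c2 LD2_c30 LD3_c4)) :=
  Lgr Lrot3 (Lpr_ft (f302193 IH) (Lpn (LP (LK LD1_c2 LD2_c30 LD3_c4))))
theorem f185409 : Led Lsl_at (LP (LK LD1_c2 LD2_c33 LD3_c29)) = (LP (LK LD1_c5 LD2_c13 LD3_c18)) :=
  Lre_a IH (LK LD1_c2 LD2_c33 LD3_c29) (LK LD1_c5 LD2_c13 LD3_c18) Lrfl Lrfl
theorem f302209 : Led Lsl_at (LP (LK LD1_c5 LD2_c5 LD3_c42)) = (LP (LK LD1_c2 LD2_c30 LD3_c4)) :=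
  Lre_a IH (LK LD1_c5 LD2_c5 LD3_c42) (LK LD1_c2 LD2_c30 LD3_c4) Lrfl Lrfl
theorem f302210 : Led Lsl_ft (LP (LK LD1_c5 LD2_c13 LD3_c18)) = (LP (LK LD1_c5 LD2_c5 LD3_c42)) :=
  Lgr Lrot101 (Lpe (f185409 IH) (Lpr_ff (f302198 IH) (Lpe (f302209 IH) (Lpn (LP (LK LD1_c5 LD2_c5 LD3_c42))))))
theorem f300576 : Led Lsl_ct (LP (LK LD1_c10 LD2_c16 LD3_c40)) = (LP (LK LD1_c5 LD2_c13 LD3_c18)) :=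
  Lre_c IH (LK LD1_c10 LD2_c16 LD3_c40) (LK LD1_c5 LD2_c13 LD3_c18) Lrfl Lrfl
theorem f302203 : Led Lsl_ct (LP (LK LD1_c5 LD2_c5 LD3_c42)) = (LP (LK LD1_c10 LD2_c1 LD3_c56)) :=
  Lre_c IH (LK LD1_c5 LD2_c5 LD3_c42) (LK LD1_c10 LD2_c1 LD3_c56) Lrfl Lrfl
theorem f302222 : Led Lsl_ff (LP (LK LD1_c10 LD2_c16 LD3_c40)) = (LP (LK LD1_c10 LD2_c1 LD3_c56)) :=
  Lgr Lrot23 (Lpr_ct (f300576 IH) (Lpr_ft (f302210 IH) (Lpr_ct (f302203 IH) (Lpn (LP (LK LD1_c10 LD2_c1 LD3_c56))))))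
theorem f302235 : Led Lsl_ft (LP (LK LD1_c10 LD2_c16 LD3_c40)) = (LP (LK LD1_c10 LD2_c1 LD3_c56)) :=
  Lgr Lrot48 (Lpr_ff (f302222 IH) (Lpn (LP (LK LD1_c10 LD2_c1 LD3_c56))))
theorem f185416 : Led Lsl_bt (LP (LK LD1_c5 LD2_c13 LD3_c9)) = (LP (LK LD1_c2 LD2_c33 LD3_c26)) :=
  Lre_b IH (LK LD1_c5 LD2_c13 LD3_c9) (LK LD1_c2 LD2_c33 LD3_c26) Lrfl Lrfl
theorem f185413 : Led Lsl_at (LP (LK LD1_c10 LD2_c16 LD3_c40)) = (LP (LK LD1_c5 LD2_c13 LD3_c9)) :=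
  Lre_a IH (LK LD1_c10 LD2_c16 LD3_c40) (LK LD1_c5 LD2_c13 LD3_c9) Lrfl Lrfl
theorem f249278 : Led Lsl_at (LP (LK LD1_c8 LD2_c52 LD3_c29)) = (LP (LK LD1_c16 LD2_c35 LD3_c32)) :=
  Lre_a IH (LK LD1_c8 LD2_c52 LD3_c29) (LK LD1_c16 LD2_c35 LD3_c32) Lrfl Lrfl
theorem f299509 : Led Lsl_bf (LP (LK LD1_c10 LD2_c16 LD3_c40)) = (LP (LK LD1_c16 LD2_c35 LD3_c32)) :=
  Lgr Lrot81 (Lpr_at (f185413 IH) (Lpr_bt (f185416 IH) (Lpr_at (f299505 IH) (Lpr_bt (f183843 IH) (Lpr_at (f249278 IH) (Lpn (LP (LK LD1_c16 LD2_c35 LD3_c32))))))))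
theorem f230526 : Led Lsl_at (LP (LK LD1_c8 LD2_c52 LD3_c5)) = (LP (LK LD1_c16 LD2_c34 LD3_c49)) :=
  Lre_a IH (LK LD1_c8 LD2_c52 LD3_c5) (LK LD1_c16 LD2_c34 LD3_c49) Lrfl Lrfl
theorem f249287 : Led Lsl_at (LP (LK LD1_c16 LD2_c35 LD3_c32)) = (LP (LK LD1_c8 LD2_c52 LD3_c29)) :=
  Lre_a IH (LK LD1_c16 LD2_c35 LD3_c32) (LK LD1_c8 LD2_c52 LD3_c29) Lrfl Lrfl
theorem f299521 : Led Lsl_ft (LP (LK LD1_c16 LD2_c34 LD3_c49)) = (LP (LK LD1_c16 LD2_c35 LD3_c32)) :=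
  Lgr Lrot101 (Lpe (f230526 IH) (Lpr_ff (f299518 IH) (Lpe (f249287 IH) (Lpn (LP (LK LD1_c16 LD2_c35 LD3_c32))))))
theorem f302240 : Led Lsl_bf (LP (LK LD1_c16 LD2_c34 LD3_c49)) = (LP (LK LD1_c10 LD2_c1 LD3_c56)) :=
  Lgr Lrot61 (Lpr_ft (f299521 IH) (Lpe (f299509 IH) (Lpr_ft (f302235 IH) (Lpn (LP (LK LD1_c10 LD2_c1 LD3_c56))))))
theorem f230524 : Led Lsl_et (LP (LK LD1_c16 LD2_c34 LD3_c49)) = (LP (LK LD1_c26 LD2_c32 LD3_c18)) :=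
  Lre_e IH (LK LD1_c16 LD2_c34 LD3_c49) (LK LD1_c26 LD2_c32 LD3_c18) Lrfl Lrfl
theorem f302234 : Led Lsl_et (LP (LK LD1_c18 LD2_c19 LD3_c58)) = (LP (LK LD1_c10 LD2_c1 LD3_c56)) :=
  Lre_e IH (LK LD1_c18 LD2_c19 LD3_c58) (LK LD1_c10 LD2_c1 LD3_c56) Lrfl Lrfl
theorem f302247 : Led Lsl_bt (LP (LK LD1_c26 LD2_c32 LD3_c18)) = (LP (LK LD1_c18 LD2_c19 LD3_c58)) :=
  Lgr Lrot119 (Lpe (f230524 IH) (Lpr_bf (f302240 IH) (Lpe (f302234 IH) (Lpn (LP (LK LD1_c18 LD2_c19 LD3_c58))))))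
theorem f230471 : Led Lsl_at (LP (LK LD1_c26 LD2_c32 LD3_c18)) = (LP (LK LD1_c16 LD2_c34 LD3_c51)) :=
  Lre_a IH (LK LD1_c26 LD2_c32 LD3_c18) (LK LD1_c16 LD2_c34 LD3_c51) Lrfl Lrfl
theorem f230472 : Led Lsl_at (LP (LK LD1_c10 LD2_c28 LD3_c18)) = (LP (LK LD1_c18 LD2_c58 LD3_c37)) :=
  Lre_a IH (LK LD1_c10 LD2_c28 LD3_c18) (LK LD1_c18 LD2_c58 LD3_c37) Lrfl Lrfl
theorem f230473 : Led Lsl_cf (LP (LK LD1_c26 LD2_c32 LD3_c18)) = (LP (LK LD1_c18 LD2_c58 LD3_c37)) :=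
  Lgr Lrot1 (Lpr_at (f230471 IH) (Lpr_ct (f230454 IH) (Lpr_at (f230472 IH) (Lpn (LP (LK LD1_c18 LD2_c58 LD3_c37))))))
theorem f300418 : Led Lsl_ct (LP (LK LD1_c10 LD2_c15 LD3_c16)) = (LP (LK LD1_c18 LD2_c38 LD3_c45)) :=
  Lre_c IH (LK LD1_c10 LD2_c15 LD3_c16) (LK LD1_c18 LD2_c38 LD3_c45) Lrfl Lrfl
theorem f302255 : Led Lsl_ct (LP (LK LD1_c18 LD2_c19 LD3_c58)) = (LP (LK LD1_c10 LD2_c2 LD3_c30)) :=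
  Lre_c IH (LK LD1_c18 LD2_c19 LD3_c58) (LK LD1_c10 LD2_c2 LD3_c30) Lrfl Lrfl
theorem f302256 : Led Lsl_bf (LP (LK LD1_c10 LD2_c15 LD3_c16)) = (LP (LK LD1_c10 LD2_c2 LD3_c30)) :=
  Lgr Lrot90 (Lpr_ct (f300418 IH) (Lpr_bt (f300415 IH) (Lpe (f230473 IH) (Lpr_bt (f302247 IH) (Lpr_ct (f302255 IH) (Lpn (LP (LK LD1_c10 LD2_c2 LD3_c30))))))))
theorem f302268 : Led Lsl_ft (LP (LK LD1_c10 LD2_c15 LD3_c16)) = (LP (LK LD1_c18 LD2_c39 LD3_c24)) :=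
  Lre_f IH (LK LD1_c10 LD2_c15 LD3_c16) (LK LD1_c18 LD2_c39 LD3_c24) Lrfl Lrfl
theorem f302269 : Led Lsl_ft (LP (LK LD1_c18 LD2_c20 LD3_c51)) = (LP (LK LD1_c10 LD2_c2 LD3_c30)) :=
  Lre_f IH (LK LD1_c18 LD2_c20 LD3_c51) (LK LD1_c10 LD2_c2 LD3_c30) Lrfl Lrfl
theorem f302270 : Led Lsl_bt (LP (LK LD1_c18 LD2_c39 LD3_c24)) = (LP (LK LD1_c18 LD2_c20 LD3_c51)) :=
  Lgr Lrot35 (Lpe (f302268 IH) (Lpr_bf (f302256 IH) (Lpe (f302269 IH) (Lpn (LP (LK LD1_c18 LD2_c20 LD3_c51))))))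
theorem f302276 : Led Lsl_bf (LP (LK LD1_c18 LD2_c39 LD3_c24)) = (LP (LK LD1_c18 LD2_c20 LD3_c51)) :=
  Lgr Lrot24 (Lpr_bt (f302270 IH) (Lpn (LP (LK LD1_c18 LD2_c20 LD3_c51))))
theorem f302290 : Led Lsl_at (LP (LK LD1_c18 LD2_c39 LD3_c24)) = (LP (LK LD1_c10 LD2_c15 LD3_c20)) :=
  Lre_a IH (LK LD1_c18 LD2_c39 LD3_c24) (LK LD1_c10 LD2_c15 LD3_c20) Lrfl Lrfl
theorem f300649 : Led Lsl_bt (LP (LK LD1_c10 LD2_c15 LD3_c20)) = (LP (LK LD1_c5 LD2_c12 LD3_c21)) :=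
  Lre_b IH (LK LD1_c10 LD2_c15 LD3_c20) (LK LD1_c5 LD2_c12 LD3_c21) Lrfl Lrfl
theorem f302291 : Led Lsl_at (LP (LK LD1_c10 LD2_c2 LD3_c34)) = (LP (LK LD1_c18 LD2_c20 LD3_c51)) :=
  Lre_a IH (LK LD1_c10 LD2_c2 LD3_c34) (LK LD1_c18 LD2_c20 LD3_c51) Lrfl Lrfl
theorem f302292 : Led Lsl_at (LP (LK LD1_c5 LD2_c12 LD3_c21)) = (LP (LK LD1_c5 LD2_c5 LD3_c45)) :=
  Lgr Lrot67 (Lpe (f300649 IH) (Lpe (f302290 IH) (Lpr_bf (f302276 IH) (Lpe (f302291 IH) (Lpe (f167467 IH) (Lpn (LP (LK LD1_c5 LD2_c5 LD3_c45))))))))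
theorem f302301 : Led Lsl_ft (LP (LK LD1_c2 LD2_c32 LD3_c59)) = (LP (LK LD1_c5 LD2_c12 LD3_c21)) :=
  Lre_f IH (LK LD1_c2 LD2_c32 LD3_c59) (LK LD1_c5 LD2_c12 LD3_c21) Lrfl Lrfl
theorem f302188 : Led Lsl_ft (LP (LK LD1_c5 LD2_c5 LD3_c45)) = (LP (LK LD1_c2 LD2_c30 LD3_c5)) :=
  Lre_f IH (LK LD1_c5 LD2_c5 LD3_c45) (LK LD1_c2 LD2_c30 LD3_c5) Lrfl Lrfl
theorem f302302 : Led Lsl_af (LP (LK LD1_c2 LD2_c32 LD3_c59)) = (LP (LK LD1_c2 LD2_c30 LD3_c5)) :=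
  Lgr Lrot45 (Lpr_ft (f302301 IH) (Lpr_at (f302292 IH) (Lpr_ft (f302188 IH) (Lpn (LP (LK LD1_c2 LD2_c30 LD3_c5))))))
theorem f186800 : Led Lsl_et (LP (LK LD1_c2 LD2_c32 LD3_c59)) = (LP (LK LD1_c1 LD2_c13 LD3_c24)) :=
  Lre_e IH (LK LD1_c2 LD2_c32 LD3_c59) (LK LD1_c1 LD2_c13 LD3_c24) Lrfl Lrfl
theorem f169829 : Led Lsl_et (LP (LK LD1_c1 LD2_c12 LD3_c2)) = (LP (LK LD1_c2 LD2_c30 LD3_c5)) :=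
  Lre_e IH (LK LD1_c1 LD2_c12 LD3_c2) (LK LD1_c2 LD2_c30 LD3_c5) Lrfl Lrfl
theorem f302311 : Led Lsl_at (LP (LK LD1_c1 LD2_c13 LD3_c24)) = (LP (LK LD1_c1 LD2_c12 LD3_c2)) :=
  Lgr Lrot80 (Lpe (f186800 IH) (Lpr_af (f302302 IH) (Lpe (f169829 IH) (Lpn (LP (LK LD1_c1 LD2_c12 LD3_c2))))))
theorem f302317 : Led Lsl_af (LP (LK LD1_c2 LD2_c32 LD3_c46)) = (LP (LK LD1_c2 LD2_c29 LD3_c40)) :=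
  Lgr Lrot117 (Lpe (K10.f186606 IH) (Lpr_at (f302311 IH) (Lpr_dt (K9.f169746 IH) (Lpn (LP (LK LD1_c2 LD2_c29 LD3_c40))))))
theorem f302326 : Led Lsl_ft (LP (LK LD1_c2 LD2_c32 LD3_c47)) = (LP (LK LD1_c2 LD2_c29 LD3_c40)) :=
  Lgr Lrot2 (Lpr_gt (K10.f21392 IH) (Lpr_gt (K10.f21388 IH) (Lpr_af (f302317 IH) (Lpn (LP (LK LD1_c2 LD2_c29 LD3_c40))))))
theorem f302333 : Led Lsl_ff (LP (LK LD1_c2 LD2_c32 LD3_c47)) = (LP (LK LD1_c2 LD2_c29 LD3_c40)) :=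
  Lgr Lrot3 (Lpr_ft (f302326 IH) (Lpn (LP (LK LD1_c2 LD2_c29 LD3_c40))))
theorem f302340 : Led Lsl_at (LP (LK LD1_c2 LD2_c32 LD3_c47)) = (LP (LK LD1_c2 LD2_c29 LD3_c41)) :=
  Lgr Lrot26 (Lpr_ff (f302333 IH) (Lpr_gt (K9.f165420 IH) (Lpe (K9.f163804 IH) (Lpn (LP (LK LD1_c2 LD2_c29 LD3_c41))))))
theorem f302319 : Led Lsl_at (LP (LK LD1_c2 LD2_c32 LD3_c46)) = (LP (LK LD1_c2 LD2_c29 LD3_c40)) :=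
  Lgr Lrot100 (Lpr_af (f302317 IH) (Lpn (LP (LK LD1_c2 LD2_c29 LD3_c40))))
theorem f302350 : Led Lsl_ff (LP (LK LD1_c2 LD2_c32 LD3_c46)) = (LP (LK LD1_c2 LD2_c29 LD3_c41)) :=
  Lgr Lrot30 (Lpr_at (f302319 IH) (Lpe (f302333 IH) (Lpr_at (f302340 IH) (Lpn (LP (LK LD1_c2 LD2_c29 LD3_c41))))))
theorem f302358 : Led Lsl_ft (LP (LK LD1_c2 LD2_c32 LD3_c46)) = (LP (LK LD1_c2 LD2_c29 LD3_c41)) :=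
  Lgr Lrot48 (Lpr_ff (f302350 IH) (Lpn (LP (LK LD1_c2 LD2_c29 LD3_c41))))
theorem f21935 : Led Lsl_et (LP (LK LD1_c5 LD2_c11 LD3_c46)) = (LP (LK LD1_c2 LD2_c32 LD3_c46)) :=
  Lre_e IH (LK LD1_c5 LD2_c11 LD3_c46) (LK LD1_c2 LD2_c32 LD3_c46) Lrfl Lrfl
theorem f185719 : Led Lsl_ft (LP (LK LD1_c10 LD2_c14 LD3_c24)) = (LP (LK LD1_c5 LD2_c11 LD3_c46)) :=
  Lre_f IH (LK LD1_c10 LD2_c14 LD3_c24) (LK LD1_c5 LD2_c11 LD3_c46) Lrfl Lrfl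
theorem f166354 : Led Lsl_et (LP (LK LD1_c2 LD2_c29 LD3_c41)) = (LP (LK LD1_c5 LD2_c4 LD3_c40)) :=
  Lre_e IH (LK LD1_c2 LD2_c29 LD3_c41) (LK LD1_c5 LD2_c4 LD3_c40) Lrfl Lrfl
theorem f166291 : Led Lsl_ft (LP (LK LD1_c5 LD2_c4 LD3_c40)) = (LP (LK LD1_c10 LD2_c0 LD3_c30)) :=
  Lre_f IH (LK LD1_c5 LD2_c4 LD3_c40) (LK LD1_c10 LD2_c0 LD3_c30) Lrfl Lrfl
theorem f302364 : Led Lsl_ef (LP (LK LD1_c10 LD2_c14 LD3_c24)) = (LP (LK LD1_c10 LD2_c0 LD3_c30)) :=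
  Lgr Lrot21 (Lpr_ft (f185719 IH) (Lpr_et (f21935 IH) (Lpr_ft (f302358 IH) (Lpr_et (f166354 IH) (Lpr_ft (f166291 IH) (Lpn (LP (LK LD1_c10 LD2_c0 LD3_c30))))))))
theorem f20516 : Led Lsl_et (LP (LK LD1_c1 LD2_c13 LD3_c45)) = (LP (LK LD1_c2 LD2_c33 LD3_c37)) :=
  Lre_e IH (LK LD1_c1 LD2_c13 LD3_c45) (LK LD1_c2 LD2_c33 LD3_c37) Lrfl Lrfl
theorem f185179 : Led Lsl_cf (LP (LK LD1_c5 LD2_c11 LD3_c46)) = (LP (LK LD1_c2 LD2_c33 LD3_c37)) :=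
  Lgr Lrot39 (Lpr_et (f21935 IH) (Lpr_ct (K10.f185165 IH) (Lpr_et (f20516 IH) (Lpn (LP (LK LD1_c2 LD2_c33 LD3_c37))))))
theorem f185702 : Led Lsl_ft (LP (LK LD1_c5 LD2_c11 LD3_c46)) = (LP (LK LD1_c10 LD2_c14 LD3_c24)) :=
  Lre_f IH (LK LD1_c5 LD2_c11 LD3_c46) (LK LD1_c10 LD2_c14 LD3_c24) Lrfl Lrfl
theorem f20518 : Led Lsl_ft (LP (LK LD1_c5 LD2_c13 LD3_c32)) = (LP (LK LD1_c2 LD2_c33 LD3_c37)) :=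
  Lre_f IH (LK LD1_c5 LD2_c13 LD3_c32) (LK LD1_c2 LD2_c33 LD3_c37) Lrfl Lrfl
theorem f185703 : Led Lsl_ct (LP (LK LD1_c10 LD2_c14 LD3_c24)) = (LP (LK LD1_c5 LD2_c13 LD3_c32)) :=
  Lgr Lrot40 (Lpe (f185702 IH) (Lpr_cf (f185179 IH) (Lpe (f20518 IH) (Lpn (LP (LK LD1_c5 LD2_c13 LD3_c32))))))
theorem f21420 : Led Lsl_et (LP (LK LD1_c5 LD2_c4 LD3_c40)) = (LP (LK LD1_c2 LD2_c29 LD3_c41)) :=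
  Lre_e IH (LK LD1_c5 LD2_c4 LD3_c40) (LK LD1_c2 LD2_c29 LD3_c41) Lrfl Lrfl
theorem f166247 : Led Lsl_cf (LP (LK LD1_c5 LD2_c4 LD3_c40)) = (LP (LK LD1_c2 LD2_c30 LD3_c19)) :=
  Lgr Lrot39 (Lpr_et (f21420 IH) (Lpr_ct (K9.f166199 IH) (Lpr_et (K17.f164748 IH) (Lpn (LP (LK LD1_c2 LD2_c30 LD3_c19))))))
theorem f164759 : Led Lsl_ft (LP (LK LD1_c5 LD2_c6 LD3_c2)) = (LP (LK LD1_c2 LD2_c30 LD3_c19)) :=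
  Lre_f IH (LK LD1_c5 LD2_c6 LD3_c2) (LK LD1_c2 LD2_c30 LD3_c19) Lrfl Lrfl
theorem f166292 : Led Lsl_ct (LP (LK LD1_c10 LD2_c0 LD3_c30)) = (LP (LK LD1_c5 LD2_c6 LD3_c2)) :=
  Lgr Lrot40 (Lpe (f166291 IH) (Lpr_cf (f166247 IH) (Lpe (f164759 IH) (Lpn (LP (LK LD1_c5 LD2_c6 LD3_c2))))))
theorem f166302 : Led Lsl_cf (LP (LK LD1_c10 LD2_c0 LD3_c30)) = (LP (LK LD1_c5 LD2_c6 LD3_c2)) :=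
  Lgr Lrot11 (Lpr_ct (f166292 IH) (Lpn (LP (LK LD1_c5 LD2_c6 LD3_c2))))
theorem f302368 : Led Lsl_et (LP (LK LD1_c5 LD2_c13 LD3_c32)) = (LP (LK LD1_c5 LD2_c6 LD3_c2)) :=
  Lgr Lrot158 (Lpe (f185703 IH) (Lpr_ef (f302364 IH) (Lpr_cf (f166302 IH) (Lpn (LP (LK LD1_c5 LD2_c6 LD3_c2))))))
theorem f302372 : Led Lsl_ef (LP (LK LD1_c5 LD2_c13 LD3_c32)) = (LP (LK LD1_c5 LD2_c6 LD3_c2)) :=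
  Lgr Lrot88 (Lpr_et (f302368 IH) (Lpn (LP (LK LD1_c5 LD2_c6 LD3_c2))))
theorem f185712 : Led Lsl_bt (LP (LK LD1_c5 LD2_c13 LD3_c32)) = (LP (LK LD1_c10 LD2_c17 LD3_c15)) :=
  Lre_b IH (LK LD1_c5 LD2_c13 LD3_c32) (LK LD1_c10 LD2_c17 LD3_c15) Lrfl Lrfl
theorem f164780 : Led Lsl_bt (LP (LK LD1_c10 LD2_c2 LD3_c60)) = (LP (LK LD1_c5 LD2_c6 LD3_c2)) :=
  Lre_b IH (LK LD1_c10 LD2_c2 LD3_c60) (LK LD1_c5 LD2_c6 LD3_c2) Lrfl Lrfl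
theorem f302374 : Led Lsl_et (LP (LK LD1_c10 LD2_c17 LD3_c15)) = (LP (LK LD1_c10 LD2_c2 LD3_c60)) :=
  Lgr Lrot74 (Lpe (f185712 IH) (Lpr_ef (f302372 IH) (Lpe (f164780 IH) (Lpn (LP (LK LD1_c10 LD2_c2 LD3_c60))))))
theorem f302378 : Led Lsl_ft (LP (LK LD1_c5 LD2_c13 LD3_c29)) = (LP (LK LD1_c10 LD2_c17 LD3_c15)) :=
  Lre_f IH (LK LD1_c5 LD2_c13 LD3_c29) (LK LD1_c10 LD2_c17 LD3_c15) Lrfl Lrfl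
theorem f302379 : Led Lsl_et (LP (LK LD1_c2 LD2_c33 LD3_c36)) = (LP (LK LD1_c5 LD2_c13 LD3_c29)) :=
  Lre_e IH (LK LD1_c2 LD2_c33 LD3_c36) (LK LD1_c5 LD2_c13 LD3_c29) Lrfl Lrfl
theorem f164788 : Led Lsl_ft (LP (LK LD1_c10 LD2_c2 LD3_c60)) = (LP (LK LD1_c5 LD2_c5 LD3_c61)) :=
  Lre_f IH (LK LD1_c10 LD2_c2 LD3_c60) (LK LD1_c5 LD2_c5 LD3_c61) Lrfl Lrfl
theorem f164820 : Led Lsl_et (LP (LK LD1_c5 LD2_c5 LD3_c61)) = (LP (LK LD1_c2 LD2_c30 LD3_c18)) :=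
  Lre_e IH (LK LD1_c5 LD2_c5 LD3_c61) (LK LD1_c2 LD2_c30 LD3_c18) Lrfl Lrfl
theorem f302380 : Led Lsl_ff (LP (LK LD1_c2 LD2_c33 LD3_c36)) = (LP (LK LD1_c2 LD2_c30 LD3_c18)) :=
  Lgr Lrot72 (Lpr_et (f302379 IH) (Lpr_ft (f302378 IH) (Lpr_et (f302374 IH) (Lpr_ft (f164788 IH) (Lpr_et (f164820 IH) (Lpn (LP (LK LD1_c2 LD2_c30 LD3_c18))))))))
theorem f302386 : Led Lsl_ft (LP (LK LD1_c2 LD2_c33 LD3_c36)) = (LP (LK LD1_c2 LD2_c30 LD3_c18)) :=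
  Lgr Lrot48 (Lpr_ff (f302380 IH) (Lpn (LP (LK LD1_c2 LD2_c30 LD3_c18))))
theorem f185746 : Led Lsl_dt (LP (LK LD1_c1 LD2_c13 LD3_c44)) = (LP (LK LD1_c2 LD2_c33 LD3_c36)) :=
  Lre_d IH (LK LD1_c1 LD2_c13 LD3_c44) (LK LD1_c2 LD2_c33 LD3_c36) Lrfl Lrfl
theorem f164831 : Led Lsl_dt (LP (LK LD1_c2 LD2_c30 LD3_c18)) = (LP (LK LD1_c1 LD2_c12 LD3_c9)) :=
  Lre_d IH (LK LD1_c2 LD2_c30 LD3_c18) (LK LD1_c1 LD2_c12 LD3_c9) Lrfl Lrfl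
theorem f302391 : Led Lsl_ff (LP (LK LD1_c1 LD2_c13 LD3_c44)) = (LP (LK LD1_c1 LD2_c12 LD3_c9)) :=
  Lgr Lrot19 (Lpr_dt (f185746 IH) (Lpr_ft (f302386 IH) (Lpr_dt (f164831 IH) (Lpn (LP (LK LD1_c1 LD2_c12 LD3_c9))))))
theorem f20497 : Led Lsl_bt (LP (LK LD1_c1 LD2_c13 LD3_c44)) = (LP (LK LD1_c0 LD2_c34 LD3_c9)) :=
  Lre_b IH (LK LD1_c1 LD2_c13 LD3_c44) (LK LD1_c0 LD2_c34 LD3_c9) Lrfl Lrfl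
theorem f302397 : Led Lsl_ft (LP (LK LD1_c0 LD2_c34 LD3_c9)) = (LP (LK LD1_c0 LD2_c33 LD3_c23)) :=
  Lgr Lrot75 (Lpe (f20497 IH) (Lpr_ff (f302391 IH) (Lpe (K11.f3130 IH) (Lpn (LP (LK LD1_c0 LD2_c33 LD3_c23))))))
theorem f302403 : Led Lsl_af (LP (LK LD1_c0 LD2_c34 LD3_c2)) = (LP (LK LD1_c0 LD2_c33 LD3_c23)) :=
  Lgr Lrot31 (Lpe (K10.f185133 IH) (Lpr_gf (K10.f193990 IH) (Lpr_ft (f302397 IH) (Lpn (LP (LK LD1_c0 LD2_c33 LD3_c23))))))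
theorem f185122 : Led Lsl_bt (LP (LK LD1_c0 LD2_c34 LD3_c2)) = (LP (LK LD1_c1 LD2_c13 LD3_c30)) :=
  Lre_b IH (LK LD1_c0 LD2_c34 LD3_c2) (LK LD1_c1 LD2_c13 LD3_c30) Lrfl Lrfl
theorem f289423 : Led Lsl_at (LP (LK LD1_c1 LD2_c13 LD3_c30)) = (LP (LK LD1_c2 LD2_c33 LD3_c6)) :=
  Lre_a IH (LK LD1_c1 LD2_c13 LD3_c30) (LK LD1_c2 LD2_c33 LD3_c6) Lrfl Lrfl
theorem f164730 : Led Lsl_bt (LP (LK LD1_c1 LD2_c12 LD3_c9)) = (LP (LK LD1_c0 LD2_c33 LD3_c23)) :=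
  Lre_b IH (LK LD1_c1 LD2_c12 LD3_c9) (LK LD1_c0 LD2_c33 LD3_c23) Lrfl Lrfl
theorem f164840 : Led Lsl_at (LP (LK LD1_c2 LD2_c30 LD3_c17)) = (LP (LK LD1_c1 LD2_c12 LD3_c9)) :=
  Lre_a IH (LK LD1_c2 LD2_c30 LD3_c17) (LK LD1_c1 LD2_c12 LD3_c9) Lrfl Lrfl
theorem f302407 : Led Lsl_bt (LP (LK LD1_c2 LD2_c33 LD3_c6)) = (LP (LK LD1_c2 LD2_c30 LD3_c17)) :=
  Lgr Lrot62 (Lpe (f289423 IH) (Lpe (f185122 IH) (Lpr_af (f302403 IH) (Lpe (f164730 IH) (Lpe (f164840 IH) (Lpn (LP (LK LD1_c2 LD2_c30 LD3_c17))))))))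
theorem f211943 : Led Lsl_ct (LP (LK LD1_c1 LD2_c18 LD3_c39)) = (LP (LK LD1_c2 LD2_c12 LD3_c30)) :=
  Lgr Lrot59 (Lpr_cf (K17.f211844 IH) (Lpn (LP (LK LD1_c2 LD2_c12 LD3_c30))))
theorem f289378 : Led Lsl_ff (LP (LK LD1_c1 LD2_c18 LD3_c39)) = (LP (LK LD1_c2 LD2_c12 LD3_c28)) :=
  Lgr Lrot3 (Lpr_ft (K17.f289369 IH) (Lpn (LP (LK LD1_c2 LD2_c12 LD3_c28))))
theorem f289399 : Led Lsl_cf (LP (LK LD1_c2 LD2_c12 LD3_c28)) = (LP (LK LD1_c1 LD2_c18 LD3_c41)) :=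
  Lgr Lrot108 (Lpe (f289378 IH) (Lpr_ct (f211943 IH) (Lpr_ft (K17.f289391 IH) (Lpn (LP (LK LD1_c1 LD2_c18 LD3_c41))))))
theorem f185114 : Led Lsl_bt (LP (LK LD1_c1 LD2_c13 LD3_c30)) = (LP (LK LD1_c0 LD2_c34 LD3_c2)) :=
  Lre_b IH (LK LD1_c1 LD2_c13 LD3_c30) (LK LD1_c0 LD2_c34 LD3_c2) Lrfl Lrfl
theorem f185115 : Led Lsl_ef (LP (LK LD1_c1 LD2_c13 LD3_c30)) = (LP (LK LD1_c2 LD2_c12 LD3_c28)) :=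
  Lgr Lrot29 (Lpr_bt (f185114 IH) (Lpr_et (K10.f185109 IH) (Lpr_bt (K17.f20693 IH) (Lpn (LP (LK LD1_c2 LD2_c12 LD3_c28))))))
theorem f28345 : Led Lsl_bt (LP (LK LD1_c1 LD2_c9 LD3_c38)) = (LP (LK LD1_c2 LD2_c24 LD3_c49)) :=
  Lre_b IH (LK LD1_c1 LD2_c9 LD3_c38) (LK LD1_c2 LD2_c24 LD3_c49) Lrfl Lrfl
theorem f165075 : Led Lsl_ef (LP (LK LD1_c1 LD2_c18 LD3_c41)) = (LP (LK LD1_c2 LD2_c24 LD3_c49)) :=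
  Lgr Lrot29 (Lpr_bt (K17.f165074 IH) (Lpr_et (K9.f165072 IH) (Lpr_bt (f28345 IH) (Lpn (LP (LK LD1_c2 LD2_c24 LD3_c49))))))
theorem f289408 : Led Lsl_ct (LP (LK LD1_c1 LD2_c13 LD3_c30)) = (LP (LK LD1_c2 LD2_c24 LD3_c49)) :=
  Lgr Lrot15 (Lpr_ef (f185115 IH) (Lpr_cf (f289399 IH) (Lpr_ef (f165075 IH) (Lpn (LP (LK LD1_c2 LD2_c24 LD3_c49))))))
theorem f289413 : Led Lsl_at (LP (LK LD1_c2 LD2_c33 LD3_c6)) = (LP (LK LD1_c1 LD2_c13 LD3_c30)) :=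
  Lre_a IH (LK LD1_c2 LD2_c33 LD3_c6) (LK LD1_c1 LD2_c13 LD3_c30) Lrfl Lrfl
theorem f53225 : Led Lsl_at (LP (LK LD1_c2 LD2_c24 LD3_c49)) = (LP (LK LD1_c4 LD2_c53 LD3_c52)) :=
  Lre_a IH (LK LD1_c2 LD2_c24 LD3_c49) (LK LD1_c4 LD2_c53 LD3_c52) Lrfl Lrfl
theorem f289414 : Led Lsl_cf (LP (LK LD1_c2 LD2_c33 LD3_c6)) = (LP (LK LD1_c4 LD2_c53 LD3_c52)) :=
  Lgr Lrot1 (Lpr_at (f289413 IH) (Lpr_ct (f289408 IH) (Lpr_at (f53225 IH) (Lpn (LP (LK LD1_c4 LD2_c53 LD3_c52))))))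
theorem f165145 : Led Lsl_at (LP (LK LD1_c1 LD2_c18 LD3_c41)) = (LP (LK LD1_c2 LD2_c44 LD3_c42)) :=
  Lre_a IH (LK LD1_c1 LD2_c18 LD3_c41) (LK LD1_c2 LD2_c44 LD3_c42) Lrfl Lrfl
theorem f53234 : Led Lsl_at (LP (LK LD1_c4 LD2_c53 LD3_c52)) = (LP (LK LD1_c2 LD2_c24 LD3_c49)) :=
  Lre_a IH (LK LD1_c4 LD2_c53 LD3_c52) (LK LD1_c2 LD2_c24 LD3_c49) Lrfl Lrfl
theorem f165146 : Led Lsl_et (LP (LK LD1_c2 LD2_c44 LD3_c42)) = (LP (LK LD1_c4 LD2_c53 LD3_c52)) :=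
  Lgr Lrot123 (Lpe (f165145 IH) (Lpr_ef (f165075 IH) (Lpe (f53234 IH) (Lpn (LP (LK LD1_c4 LD2_c53 LD3_c52))))))
theorem f289371 : Led Lsl_at (LP (LK LD1_c2 LD2_c12 LD3_c28)) = (LP (LK LD1_c4 LD2_c31 LD3_c1)) :=
  Lre_a IH (LK LD1_c2 LD2_c12 LD3_c28) (LK LD1_c4 LD2_c31 LD3_c1) Lrfl Lrfl
theorem f165155 : Led Lsl_at (LP (LK LD1_c2 LD2_c44 LD3_c42)) = (LP (LK LD1_c1 LD2_c18 LD3_c41)) :=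
  Lre_a IH (LK LD1_c2 LD2_c44 LD3_c42) (LK LD1_c1 LD2_c18 LD3_c41) Lrfl Lrfl
theorem f289406 : Led Lsl_ct (LP (LK LD1_c4 LD2_c31 LD3_c1)) = (LP (LK LD1_c2 LD2_c44 LD3_c42)) :=
  Lgr Lrot111 (Lpe (f289371 IH) (Lpr_cf (f289399 IH) (Lpe (f165155 IH) (Lpn (LP (LK LD1_c2 LD2_c44 LD3_c42))))))
theorem f289421 : Led Lsl_et (LP (LK LD1_c2 LD2_c33 LD3_c6)) = (LP (LK LD1_c4 LD2_c31 LD3_c1)) :=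
  Lgr Lrot158 (Lpr_cf (f289414 IH) (Lpe (f165146 IH) (Lpe (f289406 IH) (Lpn (LP (LK LD1_c4 LD2_c31 LD3_c1))))))
theorem f289424 : Led Lsl_ef (LP (LK LD1_c2 LD2_c33 LD3_c6)) = (LP (LK LD1_c4 LD2_c31 LD3_c1)) :=
  Lgr Lrot88 (Lpr_et (f289421 IH) (Lpn (LP (LK LD1_c4 LD2_c31 LD3_c1))))
theorem f164870 : Led Lsl_at (LP (LK LD1_c2 LD2_c44 LD3_c28)) = (LP (LK LD1_c5 LD2_c37 LD3_c7)) :=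
  Lre_a IH (LK LD1_c2 LD2_c44 LD3_c28) (LK LD1_c5 LD2_c37 LD3_c7) Lrfl Lrfl
theorem f164871 : Led Lsl_at (LP (LK LD1_c5 LD2_c5 LD3_c13)) = (LP (LK LD1_c2 LD2_c29 LD3_c55)) :=
  Lre_a IH (LK LD1_c5 LD2_c5 LD3_c13) (LK LD1_c2 LD2_c29 LD3_c55) Lrfl Lrfl
theorem f164872 : Led Lsl_et (LP (LK LD1_c5 LD2_c37 LD3_c7)) = (LP (LK LD1_c5 LD2_c5 LD3_c13)) :=
  Lgr Lrot123 (Lpe (f164870 IH) (Lpr_ef (K13.f164863 IH) (Lpe (f164871 IH) (Lpn (LP (LK LD1_c5 LD2_c5 LD3_c13))))))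
theorem f164965 : Led Lsl_ct (LP (LK LD1_c2 LD2_c44 LD3_c32)) = (LP (LK LD1_c5 LD2_c37 LD3_c7)) :=
  Lre_c IH (LK LD1_c2 LD2_c44 LD3_c32) (LK LD1_c5 LD2_c37 LD3_c7) Lrfl Lrfl
theorem f164966 : Led Lsl_ct (LP (LK LD1_c5 LD2_c5 LD3_c13)) = (LP (LK LD1_c2 LD2_c30 LD3_c17)) :=
  Lre_c IH (LK LD1_c5 LD2_c5 LD3_c13) (LK LD1_c2 LD2_c30 LD3_c17) Lrfl Lrfl
theorem f164967 : Led Lsl_ef (LP (LK LD1_c2 LD2_c44 LD3_c32)) = (LP (LK LD1_c2 LD2_c30 LD3_c17)) :=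
  Lgr Lrot28 (Lpr_ct (f164965 IH) (Lpr_et (f164872 IH) (Lpr_ct (f164966 IH) (Lpn (LP (LK LD1_c2 LD2_c30 LD3_c17))))))
theorem f302413 : Led Lsl_bf (LP (LK LD1_c4 LD2_c31 LD3_c1)) = (LP (LK LD1_c2 LD2_c44 LD3_c32)) :=
  Lgr Lrot96 (Lpe (f289424 IH) (Lpr_bt (f302407 IH) (Lpe (f164967 IH) (Lpn (LP (LK LD1_c2 LD2_c44 LD3_c32))))))
theorem f302415 : Led Lsl_bt (LP (LK LD1_c4 LD2_c31 LD3_c1)) = (LP (LK LD1_c2 LD2_c44 LD3_c32)) :=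
  Lgr Lrot127 (Lpr_bf (f302413 IH) (Lpn (LP (LK LD1_c2 LD2_c44 LD3_c32))))
theorem f164969 : Led Lsl_at (LP (LK LD1_c2 LD2_c44 LD3_c32)) = (LP (LK LD1_c1 LD2_c18 LD3_c37)) :=
  Lre_a IH (LK LD1_c2 LD2_c44 LD3_c32) (LK LD1_c1 LD2_c18 LD3_c37) Lrfl Lrfl
theorem f302439 : Led Lsl_af (LP (LK LD1_c1 LD2_c3 LD3_c12)) = (LP (LK LD1_c0 LD2_c36 LD3_c14)) :=
  Lgr Lrot36 (Lpr_bt (K17.f20693 IH) (Lpr_at (f289371 IH) (Lpr_bt (f302415 IH) (Lpr_at (f164969 IH) (Lpr_bt (K11.f164742 IH) (Lpn (LP (LK LD1_c0 LD2_c36 LD3_c14))))))))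
theorem f211961 : Led Lsl_bt (LP (LK LD1_c0 LD2_c36 LD3_c15)) = (LP (LK LD1_c1 LD2_c18 LD3_c39)) :=
  Lre_b IH (LK LD1_c0 LD2_c36 LD3_c15) (LK LD1_c1 LD2_c18 LD3_c39) Lrfl Lrfl
theorem f169329 : Led Lsl_bt (LP (LK LD1_c2 LD2_c12 LD3_c28)) = (LP (LK LD1_c1 LD2_c3 LD3_c12)) :=
  Lre_b IH (LK LD1_c2 LD2_c12 LD3_c28) (LK LD1_c1 LD2_c3 LD3_c12) Lrfl Lrfl
theorem f289374 : Led Lsl_ff (LP (LK LD1_c0 LD2_c36 LD3_c15)) = (LP (LK LD1_c1 LD2_c3 LD3_c12)) :=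
  Lgr Lrot25 (Lpr_bt (f211961 IH) (Lpr_ft (K17.f289369 IH) (Lpr_bt (f169329 IH) (Lpn (LP (LK LD1_c1 LD2_c3 LD3_c12))))))
theorem f289327 : Led Lsl_ft (LP (LK LD1_c1 LD2_c3 LD3_c13)) = (LP (LK LD1_c0 LD2_c36 LD3_c14)) :=
  Lgr Lrot54 (Lpe (K12.f225926 IH) (Lpr_ff (K17.f289323 IH) (Lpe (K9.f164733 IH) (Lpn (LP (LK LD1_c0 LD2_c36 LD3_c14))))))
theorem f302443 : Led Lsl_at (LP (LK LD1_c0 LD2_c36 LD3_c15)) = (LP (LK LD1_c1 LD2_c3 LD3_c13)) :=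
  Lgr Lrot66 (Lpr_ff (f289374 IH) (Lpr_af (f302439 IH) (Lpe (f289327 IH) (Lpn (LP (LK LD1_c1 LD2_c3 LD3_c13))))))
theorem f242657 : Led Lsl_et (LP (LK LD1_c1 LD2_c4 LD3_c14)) = (LP (LK LD1_c0 LD2_c36 LD3_c15)) :=
  Lgr Lrot158 (Lpe (K13.f176882 IH) (Lpr_ef (K17.f242655 IH) (Lpe (K12.f172672 IH) (Lpn (LP (LK LD1_c0 LD2_c36 LD3_c15))))))
theorem f302447 : Led Lsl_af (LP (LK LD1_c1 LD2_c4 LD3_c14)) = (LP (LK LD1_c0 LD2_c37 LD3_c53)) :=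
  Lgr Lrot50 (Lpr_et (f242657 IH) (Lpr_at (f302443 IH) (Lpe (K12.f226010 IH) (Lpn (LP (LK LD1_c0 LD2_c37 LD3_c53))))))
theorem f302455 : Led Lsl_ft (LP (LK LD1_c1 LD2_c4 LD3_c13)) = (LP (LK LD1_c0 LD2_c37 LD3_c53)) :=
  Lgr Lrot2 (Lpe (K11.f210559 IH) (Lpe (K13.f242644 IH) (Lpr_af (f302447 IH) (Lpn (LP (LK LD1_c0 LD2_c37 LD3_c53))))))
theorem f302457 : Led Lsl_ff (LP (LK LD1_c2 LD2_c14 LD3_c19)) = (LP (LK LD1_c1 LD2_c21 LD3_c52)) :=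
  Lgr Lrot19 (Lpr_dt (K10.f20517 IH) (Lpr_ft (f302455 IH) (Lpr_dt (K11.f68654 IH) (Lpn (LP (LK LD1_c1 LD2_c21 LD3_c52))))))
theorem f302462 : Led Lsl_at (LP (LK LD1_c2 LD2_c14 LD3_c19)) = (LP (LK LD1_c1 LD2_c21 LD3_c50)) :=
  Lgr Lrot26 (Lpr_ff (f302457 IH) (Lpr_gt (K11.f204835 IH) (Lpr_gt (K11.f22170 IH) (Lpn (LP (LK LD1_c1 LD2_c21 LD3_c50))))))
theorem f68653 : Led Lsl_dt (LP (LK LD1_c1 LD2_c21 LD3_c52)) = (LP (LK LD1_c0 LD2_c37 LD3_c53)) :=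
  Lre_d IH (LK LD1_c1 LD2_c21 LD3_c52) (LK LD1_c0 LD2_c37 LD3_c53) Lrfl Lrfl
theorem f302453 : Led Lsl_at (LP (LK LD1_c2 LD2_c14 LD3_c21)) = (LP (LK LD1_c1 LD2_c21 LD3_c52)) :=
  Lgr Lrot51 (Lpe (K17.f177090 IH) (Lpr_af (f302447 IH) (Lpe (f68653 IH) (Lpn (LP (LK LD1_c1 LD2_c21 LD3_c52))))))
theorem f302471 : Led Lsl_ff (LP (LK LD1_c2 LD2_c14 LD3_c21)) = (LP (LK LD1_c1 LD2_c21 LD3_c50)) :=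
  Lgr Lrot30 (Lpr_at (f302453 IH) (Lpe (f302457 IH) (Lpr_at (f302462 IH) (Lpn (LP (LK LD1_c1 LD2_c21 LD3_c50))))))
theorem f146306 : Led Lsl_ct (LP (LK LD1_c2 LD2_c51 LD3_c38)) = (LP (LK LD1_c1 LD2_c21 LD3_c52)) :=
  Lre_c IH (LK LD1_c2 LD2_c51 LD3_c38) (LK LD1_c1 LD2_c21 LD3_c52) Lrfl Lrfl
theorem f176923 : Led Lsl_ct (LP (LK LD1_c0 LD2_c36 LD3_c54)) = (LP (LK LD1_c0 LD2_c16 LD3_c29)) :=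
  Lre_c IH (LK LD1_c0 LD2_c36 LD3_c54) (LK LD1_c0 LD2_c16 LD3_c29) Lrfl Lrfl
theorem f37272 : Led Lsl_et (LP (LK LD1_c0 LD2_c29 LD3_c14)) = (LP (LK LD1_c0 LD2_c12 LD3_c54)) :=
  Lre_e IH (LK LD1_c0 LD2_c29 LD3_c14) (LK LD1_c0 LD2_c12 LD3_c54) Lrfl Lrfl
theorem f68539 : Led Lsl_gt (LP (LK LD1_c2 LD2_c13 LD3_c60)) = (LP (LK LD1_c1 LD2_c4 LD3_c1)) :=
  Lre_g IH (LK LD1_c2 LD2_c13 LD3_c60) (LK LD1_c1 LD2_c4 LD3_c1) Lrfl Lrfl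
theorem f68540 : Led Lsl_df (LP (LK LD1_c2 LD2_c13 LD3_c60)) = (LP (LK LD1_c1 LD2_c12 LD3_c29)) :=
  Lgr Lrot170 (Lpr_gt (f68539 IH) (Lpe (f37273 IH) (Lpr_et (f37272 IH) (Lpr_gt (K2.f68328 IH) (Lpe (K2.f59647 IH) (Lpr_gt (K2.f8312 IH) (Lpe (K0.f8308 IH) (Lpr_et (K7.f22116 IH) (Lpr_gt (K10.f3290 IH) (Lpe (f22223 IH) (Lpn (LP (LK LD1_c1 LD2_c12 LD3_c29)))))))))))))
theorem f68546 : Led Lsl_dt (LP (LK LD1_c2 LD2_c13 LD3_c60)) = (LP (LK LD1_c1 LD2_c12 LD3_c29)) :=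
  Lgr Lrot42 (Lpr_df (f68540 IH) (Lpn (LP (LK LD1_c1 LD2_c12 LD3_c29))))
theorem f68552 : Led Lsl_ct (LP (LK LD1_c1 LD2_c4 LD3_c1)) = (LP (LK LD1_c2 LD2_c13 LD3_c61)) :=
  Lre_c IH (LK LD1_c1 LD2_c4 LD3_c1) (LK LD1_c2 LD2_c13 LD3_c61) Lrfl Lrfl
theorem f68553 : Led Lsl_gt (LP (LK LD1_c2 LD2_c13 LD3_c61)) = (LP (LK LD1_c4 LD2_c34 LD3_c11)) :=
  Lre_g IH (LK LD1_c2 LD2_c13 LD3_c61) (LK LD1_c4 LD2_c34 LD3_c11) Lrfl Lrfl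
theorem f225436 : Led Lsl_cf (LP (LK LD1_c2 LD2_c17 LD3_c51)) = (LP (LK LD1_c4 LD2_c34 LD3_c11)) :=
  Lgr Lrot99 (Lpr_df (K11.f176921 IH) (Lpe (K13.f176833 IH) (Lpe (K9.f176832 IH) (Lpe (f176923 IH) (Lpr_gf (f225434 IH) (Lpe (f68546 IH) (Lpr_gt (f68539 IH) (Lpr_ct (f68552 IH) (Lpr_gt (f68553 IH) (Lpn (LP (LK LD1_c4 LD2_c34 LD3_c11))))))))))))
theorem f225443 : Led Lsl_ct (LP (LK LD1_c2 LD2_c17 LD3_c51)) = (LP (LK LD1_c4 LD2_c34 LD3_c11)) :=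
  Lgr Lrot59 (Lpr_cf (f225436 IH) (Lpn (LP (LK LD1_c4 LD2_c34 LD3_c11))))
theorem f302482 : Led Lsl_df (LP (LK LD1_c2 LD2_c51 LD3_c38)) = (LP (LK LD1_c4 LD2_c34 LD3_c11)) :=
  Lgr Lrot177 (Lpr_ct (f146306 IH) (Lpe (f302453 IH) (Lpr_ff (f302471 IH) (Lpr_dt (K11.f22181 IH) (Lpr_ct (K11.f22131 IH) (Lpr_dt (K9.f176905 IH) (Lpr_ct (K13.f176833 IH) (Lpe (K11.f176921 IH) (Lpr_ct (f225443 IH) (Lpn (LP (LK LD1_c4 LD2_c34 LD3_c11))))))))))))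
theorem f68651 : Led Lsl_ct (LP (LK LD1_c0 LD2_c37 LD3_c53)) = (LP (LK LD1_c0 LD2_c16 LD3_c55)) :=
  Lre_c IH (LK LD1_c0 LD2_c37 LD3_c53) (LK LD1_c0 LD2_c16 LD3_c55) Lrfl Lrfl
theorem f302451 : Led Lsl_at (LP (LK LD1_c0 LD2_c29 LD3_c22)) = (LP (LK LD1_c0 LD2_c16 LD3_c55)) :=
  Lgr Lrot107 (Lpe (K13.f176880 IH) (Lpr_af (f302447 IH) (Lpe (K11.f68647 IH) (Lpn (LP (LK LD1_c0 LD2_c16 LD3_c55))))))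
theorem f302487 : Led Lsl_ff (LP (LK LD1_c0 LD2_c29 LD3_c22)) = (LP (LK LD1_c0 LD2_c16 LD3_c54)) :=
  Lgr Lrot103 (Lpr_at (f302451 IH) (Lpe (f68651 IH) (Lpe (f68653 IH) (Lpe (f146306 IH) (Lpr_df (f302482 IH) (Lpe (f225443 IH) (Lpr_df (K11.f176921 IH) (Lpe (K13.f176833 IH) (Lpe (K9.f176905 IH) (Lpn (LP (LK LD1_c0 LD2_c16 LD3_c54))))))))))))
theorem f186342 : Led Lsl_df (LP (LK LD1_c0 LD2_c34 LD3_c12)) = (LP (LK LD1_c0 LD2_c29 LD3_c22)) :=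
  Lgr Lrot135 (Lpe (K15.f185834 IH) (Lpr_df (K9.f20761 IH) (Lpr_et (K9.f20637 IH) (Lpe (K10.f184899 IH) (Lpe (K9.f181119 IH) (Lpr_dt (K9.f181117 IH) (Lpe (K9.f146314 IH) (Lpe (K13.f177136 IH) (Lpe (K6.f146278 IH) (Lpr_gt (K13.f186330 IH) (Lpn (LP (LK LD1_c0 LD2_c29 LD3_c22)))))))))))))
theorem f302491 : Led Lsl_ft (LP (LK LD1_c0 LD2_c34 LD3_c12)) = (LP (LK LD1_c0 LD2_c36 LD3_c56)) :=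
  Lgr Lrot54 (Lpr_df (f186342 IH) (Lpr_ff (f302487 IH) (Lpr_df (K9.f176907 IH) (Lpn (LP (LK LD1_c0 LD2_c36 LD3_c56))))))
theorem f302497 : Led Lsl_af (LP (LK LD1_c1 LD2_c3 LD3_c37)) = (LP (LK LD1_c0 LD2_c36 LD3_c56)) :=
  Lgr Lrot31 (Lpe (K9.f20765 IH) (Lpr_gf (K15.f185834 IH) (Lpr_ft (f302491 IH) (Lpn (LP (LK LD1_c0 LD2_c36 LD3_c56))))))
theorem f255351 : Led Lsl_af (LP (LK LD1_c1 LD2_c12 LD3_c20)) = (LP (LK LD1_c1 LD2_c31 LD3_c29)) :=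
  Lgr Lrot50 (Lpr_et (K12.f177133 IH) (Lpr_at (K14.f255345 IH) (Lpr_et (K14.f210584 IH) (Lpn (LP (LK LD1_c1 LD2_c31 LD3_c29))))))
theorem f302064 : Led Lsl_at (LP (LK LD1_c0 LD2_c33 LD3_c31)) = (LP (LK LD1_c0 LD2_c34 LD3_c12)) :=
  Lgr Lrot67 (Lpe (K13.f177103 IH) (Lpr_af (f255351 IH) (Lpe (K14.f210579 IH) (Lpr_af (f302062 IH) (Lpe (K13.f242714 IH) (Lpn (LP (LK LD1_c0 LD2_c34 LD3_c12))))))))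
theorem f302503 : Led Lsl_ft (LP (LK LD1_c1 LD2_c3 LD3_c37)) = (LP (LK LD1_c0 LD2_c33 LD3_c31)) :=
  Lgr Lrot101 (Lpr_af (f302497 IH) (Lpe (f302491 IH) (Lpe (f302064 IH) (Lpn (LP (LK LD1_c0 LD2_c33 LD3_c31))))))
theorem f302509 : Led Lsl_ff (LP (LK LD1_c1 LD2_c3 LD3_c37)) = (LP (LK LD1_c0 LD2_c33 LD3_c31)) :=
  Lgr Lrot3 (Lpr_ft (f302503 IH) (Lpn (LP (LK LD1_c0 LD2_c33 LD3_c31))))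
theorem f177109 : Led Lsl_et (LP (LK LD1_c0 LD2_c15 LD3_c2)) = (LP (LK LD1_c0 LD2_c33 LD3_c31)) :=
  Lre_e IH (LK LD1_c0 LD2_c15 LD3_c2) (LK LD1_c0 LD2_c33 LD3_c31) Lrfl Lrfl
theorem f171692 : Led Lsl_bt (LP (LK LD1_c0 LD2_c34 LD3_c13)) = (LP (LK LD1_c0 LD2_c15 LD3_c22)) :=
  Lre_b IH (LK LD1_c0 LD2_c34 LD3_c13) (LK LD1_c0 LD2_c15 LD3_c22) Lrfl Lrfl
theorem f255331 : Led Lsl_ff (LP (LK LD1_c0 LD2_c15 LD3_c2)) = (LP (LK LD1_c0 LD2_c15 LD3_c22)) :=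
  Lgr Lrot25 (Lpr_bt (K11.f166376 IH) (Lpr_ft (K14.f255327 IH) (Lpr_bt (f171692 IH) (Lpn (LP (LK LD1_c0 LD2_c15 LD3_c22))))))
theorem f302515 : Led Lsl_ft (LP (LK LD1_c0 LD2_c34 LD3_c10)) = (LP (LK LD1_c0 LD2_c34 LD3_c15)) :=
  Lgr Lrot86 (Lpe (K9.f181119 IH) (Lpr_ff (f302509 IH) (Lpe (f177109 IH) (Lpr_ff (f255331 IH) (Lpe (K9.f20537 IH) (Lpn (LP (LK LD1_c0 LD2_c34 LD3_c15))))))))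
theorem f302517 : Led Lsl_ff (LP (LK LD1_c1 LD2_c13 LD3_c46)) = (LP (LK LD1_c1 LD2_c13 LD3_c54)) :=
  Lgr Lrot23 (Lpr_ct (K9.f181131 IH) (Lpr_ft (f302515 IH) (Lpr_ct (K11.f20710 IH) (Lpn (LP (LK LD1_c1 LD2_c13 LD3_c54))))))
theorem f302525 : Led Lsl_at (LP (LK LD1_c1 LD2_c13 LD3_c46)) = (LP (LK LD1_c1 LD2_c12 LD3_c18)) :=
  Lgr Lrot26 (Lpr_ff (f302517 IH) (Lpe (K11.f183202 IH) (Lpe (K11.f198645 IH) (Lpn (LP (LK LD1_c1 LD2_c12 LD3_c18))))))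
theorem f186349 : Led Lsl_dt (LP (LK LD1_c2 LD2_c13 LD3_c6)) = (LP (LK LD1_c1 LD2_c28 LD3_c44)) :=
  Lgr Lrot42 (Lpr_df (K16.f186327 IH) (Lpn (LP (LK LD1_c1 LD2_c28 LD3_c44))))
theorem f186364 : Led Lsl_et (LP (LK LD1_c2 LD2_c13 LD3_c6)) = (LP (LK LD1_c1 LD2_c13 LD3_c46)) :=
  Lgr Lrot121 (Lpr_dt (f186349 IH) (Lpe (K16.f175927 IH) (Lpe (K11.f58988 IH) (Lpr_et (K11.f59811 IH) (Lpr_gf (K1.f21175 IH) (Lpe (K9.f175916 IH) (Lpr_dt (K9.f9041 IH) (Lpe (K9.f9044 IH) (Lpr_df (K9.f175917 IH) (Lpr_gf (K15.f181132 IH) (Lpn (LP (LK LD1_c1 LD2_c13 LD3_c46)))))))))))))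
theorem f302531 : Led Lsl_af (LP (LK LD1_c2 LD2_c13 LD3_c6)) = (LP (LK LD1_c1 LD2_c19 LD3_c47)) :=
  Lgr Lrot50 (Lpr_et (f186364 IH) (Lpr_at (f302525 IH) (Lpr_et (K13.f176935 IH) (Lpn (LP (LK LD1_c1 LD2_c19 LD3_c47))))))
theorem f25968 : Led Lsl_ft (LP (LK LD1_c0 LD2_c18 LD3_c53)) = (LP (LK LD1_c0 LD2_c8 LD3_c29)) :=
  Lre_f IH (LK LD1_c0 LD2_c18 LD3_c53) (LK LD1_c0 LD2_c8 LD3_c29) Lrfl Lrfl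
theorem f25937 : Led Lsl_ft (LP (LK LD1_c0 LD2_c13 LD3_c22)) = (LP (LK LD1_c0 LD2_c30 LD3_c8)) :=
  Lre_f IH (LK LD1_c0 LD2_c13 LD3_c22) (LK LD1_c0 LD2_c30 LD3_c8) Lrfl Lrfl
theorem f204408 : Led Lsl_ef (LP (LK LD1_c0 LD2_c18 LD3_c53)) = (LP (LK LD1_c0 LD2_c30 LD3_c8)) :=
  Lgr Lrot21 (Lpr_ft (f25968 IH) (Lpr_et (K1.f25916 IH) (Lpr_ft (K11.f204402 IH) (Lpr_et (K1.f25918 IH) (Lpr_ft (f25937 IH) (Lpn (LP (LK LD1_c0 LD2_c30 LD3_c8))))))))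
theorem f242724 : Led Lsl_gt (LP (LK LD1_c0 LD2_c18 LD3_c53)) = (LP (LK LD1_c0 LD2_c30 LD3_c28)) :=
  Lgr Lrot112 (Lpr_df (K1.f25966 IH) (Lpe (f204408 IH) (Lpe (K13.f210477 IH) (Lpr_ef (K9.f35326 IH) (Lpr_dt (K9.f28350 IH) (Lpr_gf (K9.f31615 IH) (Lpe (K9.f31555 IH) (Lpe (K10.f31675 IH) (Lpr_ef (f242720 IH) (Lpr_dt (K13.f59002 IH) (Lpn (LP (LK LD1_c0 LD2_c30 LD3_c28)))))))))))))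
theorem f28397 : Led Lsl_dt (LP (LK LD1_c4 LD2_c7 LD3_c5)) = (LP (LK LD1_c2 LD2_c0 LD3_c56)) :=
  Lre_d IH (LK LD1_c4 LD2_c7 LD3_c5) (LK LD1_c2 LD2_c0 LD3_c56) Lrfl Lrfl
theorem f242726 : Led Lsl_gt (LP (LK LD1_c2 LD2_c14 LD3_c21)) = (LP (LK LD1_c4 LD2_c7 LD3_c5)) :=
  Lgr Lrot49 (Lpe (K17.f177090 IH) (Lpr_gf (K13.f242644 IH) (Lpe (K11.f25974 IH) (Lpr_gt (f242724 IH) (Lpr_dt (K13.f185172 IH) (Lpr_gt (K13.f242634 IH) (Lpe (K10.f28386 IH) (Lpe (K16.f28398 IH) (Lpe (f28397 IH) (Lpn (LP (LK LD1_c4 LD2_c7 LD3_c5))))))))))))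
theorem f183386 : Led Lsl_dt (LP (LK LD1_c1 LD2_c13 LD3_c46)) = (LP (LK LD1_c2 LD2_c33 LD3_c38)) :=
  Lre_d IH (LK LD1_c1 LD2_c13 LD3_c46) (LK LD1_c2 LD2_c33 LD3_c38) Lrfl Lrfl
theorem f242730 : Led Lsl_gf (LP (LK LD1_c2 LD2_c0 LD3_c9)) = (LP (LK LD1_c2 LD2_c33 LD3_c38)) :=
  Lgr Lrot134 (Lpe (K9.f56544 IH) (Lpr_et (K9.f56526 IH) (Lpe (K12.f211846 IH) (Lpe (f242657 IH) (Lpr_dt (K17.f177090 IH) (Lpr_gt (f242726 IH) (Lpe (K10.f28394 IH) (Lpr_et (K16.f181147 IH) (Lpr_gt (K9.f181134 IH) (Lpr_dt (f183386 IH) (Lpn (LP (LK LD1_c2 LD2_c33 LD3_c38)))))))))))))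
theorem f181121 : Led Lsl_ct (LP (LK LD1_c2 LD2_c13 LD3_c6)) = (LP (LK LD1_c1 LD2_c3 LD3_c37)) :=
  Lre_c IH (LK LD1_c2 LD2_c13 LD3_c6) (LK LD1_c1 LD2_c3 LD3_c37) Lrfl Lrfl
theorem f181125 : Led Lsl_ef (LP (LK LD1_c2 LD2_c13 LD3_c6)) = (LP (LK LD1_c1 LD2_c13 LD3_c46)) :=
  Lgr Lrot28 (Lpr_ct (f181121 IH) (Lpr_et (K9.f181119 IH) (Lpr_ct (K10.f181124 IH) (Lpn (LP (LK LD1_c1 LD2_c13 LD3_c46))))))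
theorem f242733 : Led Lsl_gt (LP (LK LD1_c1 LD2_c3 LD3_c44)) = (LP (LK LD1_c2 LD2_c13 LD3_c6)) :=
  Lgr Lrot131 (Lpe (K15.f175537 IH) (Lpr_dt (K9.f20810 IH) (Lpe (K12.f226691 IH) (Lpe (K12.f172680 IH) (Lpr_gf (K12.f211846 IH) (Lpe (K9.f56526 IH) (Lpr_dt (K9.f56544 IH) (Lpr_gf (f242730 IH) (Lpe (f183386 IH) (Lpe (f181125 IH) (Lpn (LP (LK LD1_c2 LD2_c13 LD3_c6)))))))))))))
theorem f302535 : Led Lsl_ft (LP (LK LD1_c1 LD2_c13 LD3_c49)) = (LP (LK LD1_c1 LD2_c19 LD3_c47)) :=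
  Lgr Lrot2 (Lpe (K15.f185832 IH) (Lpr_gt (f242733 IH) (Lpr_af (f302531 IH) (Lpn (LP (LK LD1_c1 LD2_c19 LD3_c47))))))
theorem f185777 : Led Lsl_dt (LP (LK LD1_c1 LD2_c28 LD3_c45)) = (LP (LK LD1_c1 LD2_c13 LD3_c49)) :=
  Lgr Lrot42 (Lpr_df (K11.f185769 IH) (Lpn (LP (LK LD1_c1 LD2_c13 LD3_c49))))
theorem f302541 : Led Lsl_ff (LP (LK LD1_c1 LD2_c28 LD3_c45)) = (LP (LK LD1_c2 LD2_c17 LD3_c51)) :=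
  Lgr Lrot19 (Lpr_dt (f185777 IH) (Lpr_ft (f302535 IH) (Lpe (K11.f176921 IH) (Lpn (LP (LK LD1_c2 LD2_c17 LD3_c51))))))
theorem f204809 : Led Lsl_gf (LP (LK LD1_c2 LD2_c17 LD3_c52)) = (LP (LK LD1_c1 LD2_c28 LD3_c47)) :=
  Lgr Lrot145 (Lpe (K11.f166384 IH) (Lpr_et (K11.f166383 IH) (Lpr_gt (K9.f166370 IH) (Lpr_dt (K10.f35011 IH) (Lpe (K14.f166408 IH) (Lpe (K9.f22147 IH) (Lpe (K11.f22133 IH) (Lpr_gt (K13.f204803 IH) (Lpe (K11.f204450 IH) (Lpr_dt (K11.f59052 IH) (Lpn (LP (LK LD1_c1 LD2_c28 LD3_c47)))))))))))))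
theorem f302549 : Led Lsl_at (LP (LK LD1_c1 LD2_c28 LD3_c45)) = (LP (LK LD1_c2 LD2_c17 LD3_c52)) :=
  Lgr Lrot26 (Lpr_ff (f302541 IH) (Lpr_gt (K11.f204786 IH) (Lpe (f204809 IH) (Lpn (LP (LK LD1_c2 LD2_c17 LD3_c52))))))
theorem f302533 : Led Lsl_at (LP (LK LD1_c1 LD2_c28 LD3_c44)) = (LP (LK LD1_c2 LD2_c17 LD3_c51)) :=
  Lgr Lrot51 (Lpe (f186349 IH) (Lpr_af (f302531 IH) (Lpe (K11.f176912 IH) (Lpn (LP (LK LD1_c2 LD2_c17 LD3_c51))))))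
theorem f302555 : Led Lsl_ff (LP (LK LD1_c1 LD2_c28 LD3_c44)) = (LP (LK LD1_c2 LD2_c17 LD3_c52)) :=
  Lgr Lrot30 (Lpr_at (f302533 IH) (Lpe (f302541 IH) (Lpr_at (f302549 IH) (Lpn (LP (LK LD1_c2 LD2_c17 LD3_c52))))))
theorem f302557 : Led Lsl_ft (LP (LK LD1_c1 LD2_c28 LD3_c44)) = (LP (LK LD1_c2 LD2_c17 LD3_c52)) :=
  Lgr Lrot48 (Lpr_ff (f302555 IH) (Lpn (LP (LK LD1_c2 LD2_c17 LD3_c52))))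
theorem f302551 : Led Lsl_af (LP (LK LD1_c1 LD2_c28 LD3_c45)) = (LP (LK LD1_c2 LD2_c17 LD3_c52)) :=
  Lgr Lrot0 (Lpr_at (f302549 IH) (Lpn (LP (LK LD1_c2 LD2_c17 LD3_c52))))
theorem f302547 : Led Lsl_ft (LP (LK LD1_c1 LD2_c28 LD3_c45)) = (LP (LK LD1_c2 LD2_c17 LD3_c51)) :=
  Lgr Lrot48 (Lpr_ff (f302541 IH) (Lpn (LP (LK LD1_c2 LD2_c17 LD3_c51))))
theorem f302559 : Led Lsl_af (LP (LK LD1_c1 LD2_c28 LD3_c44)) = (LP (LK LD1_c2 LD2_c17 LD3_c51)) :=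
  Lgr Lrot45 (Lpr_ft (f302557 IH) (Lpe (f302551 IH) (Lpr_ft (f302547 IH) (Lpn (LP (LK LD1_c2 LD2_c17 LD3_c51))))))
theorem f61314 : Led Lsl_ct (LP (LK LD1_c0 LD2_c37 LD3_c33)) = (LP (LK LD1_c1 LD2_c21 LD3_c25)) :=
  Lre_c IH (LK LD1_c0 LD2_c37 LD3_c33) (LK LD1_c1 LD2_c21 LD3_c25) Lrfl Lrfl
theorem f61315 : Led Lsl_gt (LP (LK LD1_c1 LD2_c21 LD3_c25)) = (LP (LK LD1_c2 LD2_c50 LD3_c52)) :=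
  Lre_g IH (LK LD1_c1 LD2_c21 LD3_c25) (LK LD1_c2 LD2_c50 LD3_c52) Lrfl Lrfl
theorem f210598 : Led Lsl_ct (LP (LK LD1_c2 LD2_c50 LD3_c52)) = (LP (LK LD1_c1 LD2_c28 LD3_c44)) :=
  Lgr Lrot110 (Lpe (f61315 IH) (Lpe (f61314 IH) (Lpe (f61294 IH) (Lpe (f61295 IH) (Lpr_gt (K16.f210596 IH) (Lpr_ct (K10.f20759 IH) (Lpr_gt (K9.f20765 IH) (Lpr_ct (K16.f20766 IH) (Lpr_df (K16.f186327 IH) (Lpn (LP (LK LD1_c1 LD2_c28 LD3_c44))))))))))))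
theorem f210605 : Led Lsl_cf (LP (LK LD1_c2 LD2_c50 LD3_c52)) = (LP (LK LD1_c1 LD2_c28 LD3_c44)) :=
  Lgr Lrot11 (Lpr_ct (f210598 IH) (Lpn (LP (LK LD1_c1 LD2_c28 LD3_c44))))
theorem f302561 : Led Lsl_at (LP (LK LD1_c2 LD2_c50 LD3_c52)) = (LP (LK LD1_c4 LD2_c34 LD3_c11)) :=
  Lgr Lrot107 (Lpr_cf (f210605 IH) (Lpr_af (f302559 IH) (Lpr_cf (f225436 IH) (Lpn (LP (LK LD1_c4 LD2_c34 LD3_c11))))))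
theorem f301926 : Led Lsl_gt (LP (LK LD1_c4 LD2_c34 LD3_c12)) = (LP (LK LD1_c2 LD2_c13 LD3_c61)) :=
  Lre_g IH (LK LD1_c4 LD2_c34 LD3_c12) (LK LD1_c2 LD2_c13 LD3_c61) Lrfl Lrfl
theorem f302607 : Led Lsl_ff (LP (LK LD1_c2 LD2_c50 LD3_c52)) = (LP (LK LD1_c4 LD2_c34 LD3_c12)) :=
  Lgr Lrot52 (Lpr_at (f302561 IH) (Lpe (f68553 IH) (Lpe (f301926 IH) (Lpn (LP (LK LD1_c4 LD2_c34 LD3_c12))))))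
theorem f169785 : Led Lsl_ct (LP (LK LD1_c2 LD2_c51 LD3_c34)) = (LP (LK LD1_c1 LD2_c21 LD3_c50)) :=
  Lre_c IH (LK LD1_c2 LD2_c51 LD3_c34) (LK LD1_c1 LD2_c21 LD3_c50) Lrfl Lrfl
theorem f302609 : Led Lsl_dt (LP (LK LD1_c4 LD2_c34 LD3_c12)) = (LP (LK LD1_c2 LD2_c51 LD3_c34)) :=
  Lgr Lrot159 (Lpe (f302607 IH) (Lpr_at (f302561 IH) (Lpe (f225443 IH) (Lpr_df (K11.f176921 IH) (Lpe (K13.f176833 IH) (Lpe (K9.f176905 IH) (Lpe (K11.f22131 IH) (Lpe (K11.f22181 IH) (Lpe (f169785 IH) (Lpn (LP (LK LD1_c2 LD2_c51 LD3_c34))))))))))))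
theorem f302615 : Led Lsl_df (LP (LK LD1_c4 LD2_c34 LD3_c12)) = (LP (LK LD1_c2 LD2_c51 LD3_c34)) :=
  Lgr Lrot38 (Lpr_dt (f302609 IH) (Lpn (LP (LK LD1_c2 LD2_c51 LD3_c34))))
theorem f169784 : Led Lsl_ct (LP (LK LD1_c1 LD2_c21 LD3_c50)) = (LP (LK LD1_c2 LD2_c51 LD3_c34)) :=
  Lre_c IH (LK LD1_c1 LD2_c21 LD3_c50) (LK LD1_c2 LD2_c51 LD3_c34) Lrfl Lrfl
theorem f302484 : Led Lsl_dt (LP (LK LD1_c2 LD2_c51 LD3_c38)) = (LP (LK LD1_c4 LD2_c34 LD3_c11)) :=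
  Lgr Lrot42 (Lpr_df (f302482 IH) (Lpn (LP (LK LD1_c4 LD2_c34 LD3_c11))))
theorem f177106 : Led Lsl_ct (LP (LK LD1_c1 LD2_c21 LD3_c52)) = (LP (LK LD1_c2 LD2_c51 LD3_c38)) :=
  Lre_c IH (LK LD1_c1 LD2_c21 LD3_c52) (LK LD1_c2 LD2_c51 LD3_c38) Lrfl Lrfl
theorem f166406 : Led Lsl_ct (LP (LK LD1_c1 LD2_c12 LD3_c23)) = (LP (LK LD1_c0 LD2_c33 LD3_c31)) :=
  Lre_c IH (LK LD1_c1 LD2_c12 LD3_c23) (LK LD1_c0 LD2_c33 LD3_c31) Lrfl Lrfl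
theorem f302621 : Led Lsl_ct (LP (LK LD1_c4 LD2_c34 LD3_c12)) = (LP (LK LD1_c2 LD2_c17 LD3_c52)) :=
  Lgr Lrot176 (Lpr_df (f302615 IH) (Lpe (f169784 IH) (Lpe (K11.f22141 IH) (Lpe (K11.f22122 IH) (Lpr_df (K9.f176907 IH) (Lpe (K11.f176911 IH) (Lpe (K11.f176912 IH) (Lpr_cf (f225436 IH) (Lpe (f302484 IH) (Lpe (f177106 IH) (Lpe (K11.f68654 IH) (Lpe (K11.f68647 IH) (Lpe (K11.f177101 IH) (Lpe (f166406 IH) (Lpr_df (K11.f166389 IH) (Lpn (LP (LK LD1_c2 LD2_c17 LD3_c52))))))))))))))))))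
theorem f302449 : Led Lsl_at (LP (LK LD1_c1 LD2_c4 LD3_c14)) = (LP (LK LD1_c0 LD2_c37 LD3_c53)) :=
  Lgr Lrot100 (Lpr_af (f302447 IH) (Lpn (LP (LK LD1_c0 LD2_c37 LD3_c53))))
theorem f302623 : Led Lsl_ff (LP (LK LD1_c1 LD2_c4 LD3_c14)) = (LP (LK LD1_c0 LD2_c37 LD3_c51)) :=
  Lgr Lrot103 (Lpr_at (f302449 IH) (Lpe (K11.f68647 IH) (Lpe (K11.f177101 IH) (Lpe (f166406 IH) (Lpr_df (K11.f166389 IH) (Lpe (f302621 IH) (Lpr_df (f302615 IH) (Lpe (f169784 IH) (Lpe (K11.f22141 IH) (Lpn (LP (LK LD1_c0 LD2_c37 LD3_c51))))))))))))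
theorem f289231 : Led Lsl_ft (LP (LK LD1_c0 LD2_c36 LD3_c15)) = (LP (LK LD1_c1 LD2_c3 LD3_c12)) :=
  Lgr Lrot54 (Lpe (K12.f172675 IH) (Lpr_ff (K17.f289227 IH) (Lpe (K9.f178883 IH) (Lpn (LP (LK LD1_c1 LD2_c3 LD3_c12))))))
theorem f302629 : Led Lsl_ft (LP (LK LD1_c0 LD2_c34 LD3_c2)) = (LP (LK LD1_c0 LD2_c33 LD3_c27)) :=
  Lgr Lrot86 (Lpr_ef (K10.f185120 IH) (Lpe (f289231 IH) (Lpe (f242657 IH) (Lpr_ff (f302623 IH) (Lpr_ef (K11.f22133 IH) (Lpn (LP (LK LD1_c0 LD2_c33 LD3_c27))))))))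
theorem f302631 : Led Lsl_af (LP (LK LD1_c0 LD2_c34 LD3_c9)) = (LP (LK LD1_c0 LD2_c33 LD3_c27)) :=
  Lgr Lrot45 (Lpr_ft (f302397 IH) (Lpe (f302403 IH) (Lpr_ft (f302629 IH) (Lpn (LP (LK LD1_c0 LD2_c33 LD3_c27))))))
theorem f302730 : Led Lsl_at (LP (LK LD1_c0 LD2_c15 LD3_c19)) = (LP (LK LD1_c0 LD2_c15 LD3_c0)) :=
  Lgr Lrot107 (Lpe (K10.f20481 IH) (Lpr_af (f302631 IH) (Lpe (K9.f22132 IH) (Lpn (LP (LK LD1_c0 LD2_c15 LD3_c0))))))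
theorem f302734 : Led Lsl_af (LP (LK LD1_c0 LD2_c6 LD3_c59)) = (LP (LK LD1_c0 LD2_c6 LD3_c52)) :=
  Lgr Lrot117 (Lpr_dt (K9.f20485 IH) (Lpr_at (f302730 IH) (Lpr_dt (K9.f22119 IH) (Lpn (LP (LK LD1_c0 LD2_c6 LD3_c52))))))
theorem f20495 : Led Lsl_et (LP (LK LD1_c0 LD2_c6 LD3_c59)) = (LP (LK LD1_c0 LD2_c15 LD3_c20)) :=
  Lre_e IH (LK LD1_c0 LD2_c6 LD3_c59) (LK LD1_c0 LD2_c15 LD3_c20) Lrfl Lrfl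
theorem f302740 : Led Lsl_at (LP (LK LD1_c0 LD2_c15 LD3_c20)) = (LP (LK LD1_c0 LD2_c15 LD3_c1)) :=
  Lgr Lrot80 (Lpe (f20495 IH) (Lpr_af (f302734 IH) (Lpe (K9.f22127 IH) (Lpn (LP (LK LD1_c0 LD2_c15 LD3_c1))))))
theorem f302742 : Led Lsl_af (LP (LK LD1_c0 LD2_c15 LD3_c20)) = (LP (LK LD1_c0 LD2_c15 LD3_c1)) :=
  Lgr Lrot0 (Lpr_at (f302740 IH) (Lpn (LP (LK LD1_c0 LD2_c15 LD3_c1))))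
theorem f302746 : Led Lsl_at (LP (LK LD1_c0 LD2_c34 LD3_c8)) = (LP (LK LD1_c0 LD2_c33 LD3_c26)) :=
  Lgr Lrot107 (Lpe (K11.f184901 IH) (Lpr_af (f302742 IH) (Lpe (K11.f166129 IH) (Lpn (LP (LK LD1_c0 LD2_c33 LD3_c26))))))
theorem f302752 : Led Lsl_af (LP (LK LD1_c1 LD2_c13 LD3_c43)) = (LP (LK LD1_c1 LD2_c12 LD3_c15)) :=
  Lgr Lrot117 (Lpr_dt (K10.f184897 IH) (Lpr_at (f302746 IH) (Lpr_dt (K9.f165880 IH) (Lpn (LP (LK LD1_c1 LD2_c12 LD3_c15))))))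
theorem f302764 : Led Lsl_ft (LP (LK LD1_c1 LD2_c17 LD3_c9)) = (LP (LK LD1_c1 LD2_c12 LD3_c15)) :=
  Lgr Lrot2 (Lpe (K9.f181195 IH) (Lpe (K10.f184894 IH) (Lpr_af (f302752 IH) (Lpn (LP (LK LD1_c1 LD2_c12 LD3_c15))))))
theorem f302770 : Led Lsl_ff (LP (LK LD1_c1 LD2_c17 LD3_c9)) = (LP (LK LD1_c1 LD2_c12 LD3_c15)) :=
  Lgr Lrot3 (Lpr_ft (f302764 IH) (Lpn (LP (LK LD1_c1 LD2_c12 LD3_c15))))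
theorem f302774 : Led Lsl_ft (LP (LK LD1_c2 LD2_c40 LD3_c54)) = (LP (LK LD1_c2 LD2_c30 LD3_c30)) :=
  Lgr Lrot4 (Lpe (K9.f7943 IH) (Lpr_ff (f302770 IH) (Lpe (K14.f166140 IH) (Lpn (LP (LK LD1_c2 LD2_c30 LD3_c30))))))
theorem f302776 : Led Lsl_af (LP (LK LD1_c2 LD2_c33 LD3_c34)) = (LP (LK LD1_c2 LD2_c30 LD3_c30)) :=
  Lgr Lrot31 (Lpr_gf (K10.f184968 IH) (Lpe (K9.f179038 IH) (Lpr_ft (f302774 IH) (Lpn (LP (LK LD1_c2 LD2_c30 LD3_c30))))))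
theorem f302778 : Led Lsl_at (LP (LK LD1_c5 LD2_c7 LD3_c2)) = (LP (LK LD1_c5 LD2_c6 LD3_c28)) :=
  Lgr Lrot51 (Lpe (K10.f185050 IH) (Lpr_af (f302776 IH) (Lpe (K11.f166133 IH) (Lpn (LP (LK LD1_c5 LD2_c6 LD3_c28))))))
theorem f302935 : Led Lsl_ff (LP (LK LD1_c5 LD2_c7 LD3_c2)) = (LP (LK LD1_c5 LD2_c6 LD3_c40)) :=
  Lgr Lrot52 (Lpr_at (f302778 IH) (Lpr_gf (K11.f198674 IH) (Lpe (K14.f226038 IH) (Lpn (LP (LK LD1_c5 LD2_c6 LD3_c40))))))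
theorem f302941 : Led Lsl_ft (LP (LK LD1_c5 LD2_c7 LD3_c2)) = (LP (LK LD1_c5 LD2_c6 LD3_c40)) :=
  Lgr Lrot48 (Lpr_ff (f302935 IH) (Lpn (LP (LK LD1_c5 LD2_c6 LD3_c40))))
theorem f198790 : Led Lsl_dt (LP (LK LD1_c5 LD2_c6 LD3_c40)) = (LP (LK LD1_c2 LD2_c39 LD3_c22)) :=
  Lgr Lrot42 (Lpr_df (K14.f198712 IH) (Lpn (LP (LK LD1_c2 LD2_c39 LD3_c22))))
theorem f302945 : Led Lsl_ff (LP (LK LD1_c2 LD2_c33 LD3_c34)) = (LP (LK LD1_c2 LD2_c39 LD3_c22)) :=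
  Lgr Lrot19 (Lpr_dt (K10.f185050 IH) (Lpr_ft (f302941 IH) (Lpr_dt (f198790 IH) (Lpn (LP (LK LD1_c2 LD2_c39 LD3_c22))))))
theorem f184906 : Led Lsl_bt (LP (LK LD1_c2 LD2_c33 LD3_c34)) = (LP (LK LD1_c5 LD2_c13 LD3_c26)) :=
  Lre_b IH (LK LD1_c2 LD2_c33 LD3_c34) (LK LD1_c5 LD2_c13 LD3_c26) Lrfl Lrfl
theorem f195603 : Led Lsl_bt (LP (LK LD1_c5 LD2_c25 LD3_c61)) = (LP (LK LD1_c2 LD2_c39 LD3_c22)) :=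
  Lre_b IH (LK LD1_c5 LD2_c25 LD3_c61) (LK LD1_c2 LD2_c39 LD3_c22) Lrfl Lrfl
theorem f302949 : Led Lsl_ft (LP (LK LD1_c5 LD2_c13 LD3_c26)) = (LP (LK LD1_c5 LD2_c25 LD3_c61)) :=
  Lgr Lrot75 (Lpe (f184906 IH) (Lpr_ff (f302945 IH) (Lpe (f195603 IH) (Lpn (LP (LK LD1_c5 LD2_c25 LD3_c61))))))
theorem f302953 : Led Lsl_ff (LP (LK LD1_c5 LD2_c13 LD3_c26)) = (LP (LK LD1_c5 LD2_c25 LD3_c61)) :=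
  Lgr Lrot3 (Lpr_ft (f302949 IH) (Lpn (LP (LK LD1_c5 LD2_c25 LD3_c61))))
theorem f184931 : Led Lsl_ct (LP (LK LD1_c5 LD2_c13 LD3_c26)) = (LP (LK LD1_c10 LD2_c16 LD3_c50)) :=
  Lre_c IH (LK LD1_c5 LD2_c13 LD3_c26) (LK LD1_c10 LD2_c16 LD3_c50) Lrfl Lrfl
theorem f215544 : Led Lsl_ef (LP (LK LD1_c5 LD2_c21 LD3_c30)) = (LP (LK LD1_c8 LD2_c22 LD3_c20)) :=
  Lgr Lrot28 (Lpr_ct (K14.f215435 IH) (Lpr_et (K16.f215463 IH) (Lpr_ct (f167692 IH) (Lpn (LP (LK LD1_c8 LD2_c22 LD3_c20))))))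
theorem f215547 : Led Lsl_bt (LP (LK LD1_c5 LD2_c21 LD3_c30)) = (LP (LK LD1_c10 LD2_c33 LD3_c18)) :=
  Lre_b IH (LK LD1_c5 LD2_c21 LD3_c30) (LK LD1_c10 LD2_c33 LD3_c18) Lrfl Lrfl
theorem f215548 : Led Lsl_bt (LP (LK LD1_c15 LD2_c45 LD3_c22)) = (LP (LK LD1_c8 LD2_c22 LD3_c20)) :=
  Lre_b IH (LK LD1_c15 LD2_c45 LD3_c22) (LK LD1_c8 LD2_c22 LD3_c20) Lrfl Lrfl
theorem f215549 : Led Lsl_et (LP (LK LD1_c10 LD2_c33 LD3_c18)) = (LP (LK LD1_c15 LD2_c45 LD3_c22)) :=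
  Lgr Lrot74 (Lpe (f215547 IH) (Lpr_ef (f215544 IH) (Lpe (f215548 IH) (Lpn (LP (LK LD1_c15 LD2_c45 LD3_c22))))))
theorem f215561 : Led Lsl_ef (LP (LK LD1_c10 LD2_c33 LD3_c18)) = (LP (LK LD1_c15 LD2_c45 LD3_c22)) :=
  Lgr Lrot88 (Lpr_et (f215549 IH) (Lpn (LP (LK LD1_c15 LD2_c45 LD3_c22))))
theorem f195733 : Led Lsl_ct (LP (LK LD1_c8 LD2_c22 LD3_c29)) = (LP (LK LD1_c15 LD2_c45 LD3_c22)) :=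
  Lre_c IH (LK LD1_c8 LD2_c22 LD3_c29) (LK LD1_c15 LD2_c45 LD3_c22) Lrfl Lrfl
theorem f183043 : Led Lsl_ct (LP (LK LD1_c2 LD2_c39 LD3_c22)) = (LP (LK LD1_c1 LD2_c16 LD3_c28)) :=
  Lre_c IH (LK LD1_c2 LD2_c39 LD3_c22) (LK LD1_c1 LD2_c16 LD3_c28) Lrfl Lrfl
theorem f195722 : Led Lsl_ef (LP (LK LD1_c2 LD2_c39 LD3_c22)) = (LP (LK LD1_c4 LD2_c11 LD3_c23)) :=
  Lgr Lrot28 (Lpr_ct (f183043 IH) (Lpr_et (K16.f195718 IH) (Lpr_ct (f167683 IH) (Lpn (LP (LK LD1_c4 LD2_c11 LD3_c23))))))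
theorem f195702 : Led Lsl_bt (LP (LK LD1_c2 LD2_c39 LD3_c22)) = (LP (LK LD1_c5 LD2_c25 LD3_c61)) :=
  Lre_b IH (LK LD1_c2 LD2_c39 LD3_c22) (LK LD1_c5 LD2_c25 LD3_c61) Lrfl Lrfl
theorem f195724 : Led Lsl_bt (LP (LK LD1_c8 LD2_c22 LD3_c29)) = (LP (LK LD1_c4 LD2_c11 LD3_c23)) :=
  Lre_b IH (LK LD1_c8 LD2_c22 LD3_c29) (LK LD1_c4 LD2_c11 LD3_c23) Lrfl Lrfl
theorem f195725 : Led Lsl_et (LP (LK LD1_c5 LD2_c25 LD3_c61)) = (LP (LK LD1_c8 LD2_c22 LD3_c29)) :=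
  Lgr Lrot74 (Lpe (f195702 IH) (Lpr_ef (f195722 IH) (Lpe (f195724 IH) (Lpn (LP (LK LD1_c8 LD2_c22 LD3_c29))))))
theorem f215566 : Led Lsl_ct (LP (LK LD1_c10 LD2_c33 LD3_c18)) = (LP (LK LD1_c5 LD2_c25 LD3_c61)) :=
  Lgr Lrot15 (Lpr_ef (f215561 IH) (Lpe (f195733 IH) (Lpe (f195725 IH) (Lpn (LP (LK LD1_c5 LD2_c25 LD3_c61))))))
theorem f302957 : Led Lsl_ft (LP (LK LD1_c10 LD2_c16 LD3_c50)) = (LP (LK LD1_c10 LD2_c33 LD3_c18)) :=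
  Lgr Lrot4 (Lpe (f184931 IH) (Lpr_ff (f302953 IH) (Lpe (f215566 IH) (Lpn (LP (LK LD1_c10 LD2_c33 LD3_c18))))))
theorem f183933 : Led Lsl_bt (LP (LK LD1_c5 LD2_c13 LD3_c15)) = (LP (LK LD1_c10 LD2_c16 LD3_c50)) :=
  Lre_b IH (LK LD1_c5 LD2_c13 LD3_c15) (LK LD1_c10 LD2_c16 LD3_c50) Lrfl Lrfl
theorem f215436 : Led Lsl_bt (LP (LK LD1_c10 LD2_c33 LD3_c18)) = (LP (LK LD1_c5 LD2_c21 LD3_c30)) :=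
  Lre_b IH (LK LD1_c10 LD2_c33 LD3_c18) (LK LD1_c5 LD2_c21 LD3_c30) Lrfl Lrfl
theorem f302959 : Led Lsl_ff (LP (LK LD1_c5 LD2_c13 LD3_c15)) = (LP (LK LD1_c5 LD2_c21 LD3_c30)) :=
  Lgr Lrot25 (Lpr_bt (f183933 IH) (Lpr_ft (f302957 IH) (Lpr_bt (f215436 IH) (Lpn (LP (LK LD1_c5 LD2_c21 LD3_c30))))))
theorem f302985 : Led Lsl_at (LP (LK LD1_c5 LD2_c13 LD3_c15)) = (LP (LK LD1_c5 LD2_c21 LD3_c28)) :=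
  Lgr Lrot26 (Lpr_ff (f302959 IH) (Lpr_gt (K14.f215432 IH) (Lpr_gt (K15.f261327 IH) (Lpn (LP (LK LD1_c5 LD2_c21 LD3_c28))))))
theorem f288710 : Led Lsl_ft (LP (LK LD1_c5 LD2_c21 LD3_c28)) = (LP (LK LD1_c10 LD2_c9 LD3_c44)) :=
  Lgr Lrot4 (Lpe (K14.f44601 IH) (Lpr_ff (K17.f288704 IH) (Lpe (K14.f192855 IH) (Lpn (LP (LK LD1_c10 LD2_c9 LD3_c44))))))
theorem f302989 : Led Lsl_af (LP (LK LD1_c5 LD2_c21 LD3_c30)) = (LP (LK LD1_c10 LD2_c9 LD3_c44)) :=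
  Lgr Lrot45 (Lpe (f302959 IH) (Lpr_at (f302985 IH) (Lpr_ft (f288710 IH) (Lpn (LP (LK LD1_c10 LD2_c9 LD3_c44))))))
theorem f167690 : Led Lsl_ct (LP (LK LD1_c8 LD2_c22 LD3_c20)) = (LP (LK LD1_c4 LD2_c11 LD3_c10)) :=
  Lre_c IH (LK LD1_c8 LD2_c22 LD3_c20) (LK LD1_c4 LD2_c11 LD3_c10) Lrfl Lrfl
theorem f215459 : Led Lsl_et (LP (LK LD1_c5 LD2_c21 LD3_c30)) = (LP (LK LD1_c8 LD2_c22 LD3_c20)) :=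
  Lgr Lrot158 (Lpe (K14.f215431 IH) (Lpr_ef (K16.f215456 IH) (Lpe (f167690 IH) (Lpn (LP (LK LD1_c8 LD2_c22 LD3_c20))))))
theorem f256505 : Led Lsl_ef (LP (LK LD1_c10 LD2_c9 LD3_c44)) = (LP (LK LD1_c5 LD2_c23 LD3_c52)) :=
  Lgr Lrot28 (Lpr_ct (K14.f192855 IH) (Lpr_et (K16.f256493 IH) (Lpr_ct (K16.f256504 IH) (Lpn (LP (LK LD1_c5 LD2_c23 LD3_c52))))))
theorem f302995 : Led Lsl_at (LP (LK LD1_c8 LD2_c22 LD3_c20)) = (LP (LK LD1_c5 LD2_c23 LD3_c52)) :=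
  Lgr Lrot80 (Lpe (f215459 IH) (Lpr_af (f302989 IH) (Lpr_ef (f256505 IH) (Lpn (LP (LK LD1_c5 LD2_c23 LD3_c52))))))
theorem f302999 : Led Lsl_af (LP (LK LD1_c4 LD2_c11 LD3_c10)) = (LP (LK LD1_c2 LD2_c38 LD3_c28)) :=
  Lgr Lrot68 (Lpr_ct (f167692 IH) (Lpr_at (f302995 IH) (Lpr_ct (K16.f256520 IH) (Lpn (LP (LK LD1_c2 LD2_c38 LD3_c28))))))
theorem f303009 : Led Lsl_gf (LP (LK LD1_c2 LD2_c38 LD3_c30)) = (LP (LK LD1_c5 LD2_c20 LD3_c40)) :=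
  Lgr Lrot47 (Lpe (f300902 IH) (Lpr_af (f302999 IH) (Lpe (K17.f288698 IH) (Lpn (LP (LK LD1_c5 LD2_c20 LD3_c40))))))
theorem f303011 : Led Lsl_af (LP (LK LD1_c2 LD2_c38 LD3_c30)) = (LP (LK LD1_c5 LD2_c20 LD3_c41)) :=
  Lgr Lrot31 (Lpr_gf (f303009 IH) (Lpe (K17.f169187 IH) (Lpr_ft (K15.f169183 IH) (Lpn (LP (LK LD1_c5 LD2_c20 LD3_c41))))))
theorem f300885 : Led Lsl_ct (LP (LK LD1_c2 LD2_c38 LD3_c30)) = (LP (LK LD1_c5 LD2_c23 LD3_c49)) :=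
  Lre_c IH (LK LD1_c2 LD2_c38 LD3_c30) (LK LD1_c5 LD2_c23 LD3_c49) Lrfl Lrfl
theorem f169193 : Led Lsl_ct (LP (LK LD1_c10 LD2_c31 LD3_c23)) = (LP (LK LD1_c5 LD2_c20 LD3_c41)) :=
  Lre_c IH (LK LD1_c10 LD2_c31 LD3_c23) (LK LD1_c5 LD2_c20 LD3_c41) Lrfl Lrfl
theorem f303019 : Led Lsl_at (LP (LK LD1_c5 LD2_c23 LD3_c49)) = (LP (LK LD1_c10 LD2_c31 LD3_c23)) :=
  Lgr Lrot107 (Lpe (f300885 IH) (Lpr_af (f303011 IH) (Lpe (f169193 IH) (Lpn (LP (LK LD1_c10 LD2_c31 LD3_c23))))))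
theorem f303026 : Led Lsl_ft (LP (LK LD1_c2 LD2_c38 LD3_c26)) = (LP (LK LD1_c5 LD2_c23 LD3_c49)) :=
  Lre_f IH (LK LD1_c2 LD2_c38 LD3_c26) (LK LD1_c5 LD2_c23 LD3_c49) Lrfl Lrfl
theorem f303027 : Led Lsl_ft (LP (LK LD1_c10 LD2_c31 LD3_c23)) = (LP (LK LD1_c5 LD2_c20 LD3_c39)) :=
  Lre_f IH (LK LD1_c10 LD2_c31 LD3_c23) (LK LD1_c5 LD2_c20 LD3_c39) Lrfl Lrfl
theorem f303028 : Led Lsl_af (LP (LK LD1_c2 LD2_c38 LD3_c26)) = (LP (LK LD1_c5 LD2_c20 LD3_c39)) :=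
  Lgr Lrot45 (Lpr_ft (f303026 IH) (Lpr_at (f303019 IH) (Lpr_ft (f303027 IH) (Lpn (LP (LK LD1_c5 LD2_c20 LD3_c39))))))
theorem f255611 : Led Lsl_ct (LP (LK LD1_c1 LD2_c16 LD3_c9)) = (LP (LK LD1_c2 LD2_c38 LD3_c26)) :=
  Lre_c IH (LK LD1_c1 LD2_c16 LD3_c9) (LK LD1_c2 LD2_c38 LD3_c26) Lrfl Lrfl
theorem f255874 : Led Lsl_dt (LP (LK LD1_c2 LD2_c38 LD3_c29)) = (LP (LK LD1_c1 LD2_c16 LD3_c9)) :=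
  Lre_d IH (LK LD1_c2 LD2_c38 LD3_c29) (LK LD1_c1 LD2_c16 LD3_c9) Lrfl Lrfl
theorem f255590 : Led Lsl_ct (LP (LK LD1_c5 LD2_c23 LD3_c55)) = (LP (LK LD1_c2 LD2_c38 LD3_c29)) :=
  Lre_c IH (LK LD1_c5 LD2_c23 LD3_c55) (LK LD1_c2 LD2_c38 LD3_c29) Lrfl Lrfl
theorem f255591 : Led Lsl_dt (LP (LK LD1_c10 LD2_c38 LD3_c28)) = (LP (LK LD1_c5 LD2_c23 LD3_c55)) :=
  Lre_d IH (LK LD1_c10 LD2_c38 LD3_c28) (LK LD1_c5 LD2_c23 LD3_c55) Lrfl Lrfl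
theorem f303051 : Led Lsl_ct (LP (LK LD1_c19 LD2_c16 LD3_c42)) = (LP (LK LD1_c10 LD2_c38 LD3_c28)) :=
  Lre_c IH (LK LD1_c19 LD2_c16 LD3_c42) (LK LD1_c10 LD2_c38 LD3_c28) Lrfl Lrfl
theorem f184286 : Led Lsl_dt (LP (LK LD1_c10 LD2_c31 LD3_c23)) = (LP (LK LD1_c19 LD2_c4 LD3_c20)) :=
  Lre_d IH (LK LD1_c10 LD2_c31 LD3_c23) (LK LD1_c19 LD2_c4 LD3_c20) Lrfl Lrfl
theorem f184287 : Led Lsl_ct (LP (LK LD1_c19 LD2_c4 LD3_c20)) = (LP (LK LD1_c28 LD2_c30 LD3_c38)) :=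
  Lre_c IH (LK LD1_c19 LD2_c4 LD3_c20) (LK LD1_c28 LD2_c30 LD3_c38) Lrfl Lrfl
theorem f303052 : Led Lsl_df (LP (LK LD1_c19 LD2_c16 LD3_c42)) = (LP (LK LD1_c28 LD2_c30 LD3_c38)) :=
  Lgr Lrot106 (Lpr_ct (f303051 IH) (Lpr_dt (f255591 IH) (Lpr_ct (f255590 IH) (Lpr_dt (f255874 IH) (Lpr_ct (f255611 IH) (Lpr_af (f303028 IH) (Lpe (f303027 IH) (Lpr_dt (f184286 IH) (Lpr_ct (f184287 IH) (Lpn (LP (LK LD1_c28 LD2_c30 LD3_c38))))))))))))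
theorem f221611 : Led Lsl_dt (LP (LK LD1_c2 LD2_c38 LD3_c26)) = (LP (LK LD1_c5 LD2_c23 LD3_c48)) :=
  Lre_d IH (LK LD1_c2 LD2_c38 LD3_c26) (LK LD1_c5 LD2_c23 LD3_c48) Lrfl Lrfl
theorem f228482 : Led Lsl_ct (LP (LK LD1_c5 LD2_c23 LD3_c48)) = (LP (LK LD1_c10 LD2_c38 LD3_c15)) :=
  Lre_c IH (LK LD1_c5 LD2_c23 LD3_c48) (LK LD1_c10 LD2_c38 LD3_c15) Lrfl Lrfl
theorem f303057 : Led Lsl_ft (LP (LK LD1_c28 LD2_c30 LD3_c38)) = (LP (LK LD1_c19 LD2_c4 LD3_c19)) :=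
  Lre_f IH (LK LD1_c28 LD2_c30 LD3_c38) (LK LD1_c19 LD2_c4 LD3_c19) Lrfl Lrfl
theorem f303058 : Led Lsl_af (LP (LK LD1_c10 LD2_c38 LD3_c15)) = (LP (LK LD1_c19 LD2_c4 LD3_c19)) :=
  Lgr Lrot109 (Lpe (f228482 IH) (Lpe (f221611 IH) (Lpe (f255611 IH) (Lpe (f255874 IH) (Lpe (f255590 IH) (Lpe (f255591 IH) (Lpe (f303051 IH) (Lpr_df (f303052 IH) (Lpr_ft (f303057 IH) (Lpn (LP (LK LD1_c19 LD2_c4 LD3_c19))))))))))))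
theorem f303073 : Led Lsl_ft (LP (LK LD1_c10 LD2_c38 LD3_c15)) = (LP (LK LD1_c19 LD2_c16 LD3_c18)) :=
  Lre_f IH (LK LD1_c10 LD2_c38 LD3_c15) (LK LD1_c19 LD2_c16 LD3_c18) Lrfl Lrfl
theorem f303074 : Led Lsl_at (LP (LK LD1_c19 LD2_c16 LD3_c18)) = (LP (LK LD1_c28 LD2_c30 LD3_c38)) :=
  Lgr Lrot66 (Lpe (f303073 IH) (Lpr_af (f303058 IH) (Lpe (f303057 IH) (Lpn (LP (LK LD1_c28 LD2_c30 LD3_c38))))))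
theorem f303081 : Led Lsl_af (LP (LK LD1_c19 LD2_c16 LD3_c18)) = (LP (LK LD1_c28 LD2_c30 LD3_c38)) :=
  Lgr Lrot0 (Lpr_at (f303074 IH) (Lpn (LP (LK LD1_c28 LD2_c30 LD3_c38))))
theorem f303015 : Led Lsl_ct (LP (LK LD1_c19 LD2_c16 LD3_c18)) = (LP (LK LD1_c10 LD2_c38 LD3_c16)) :=
  Lre_c IH (LK LD1_c19 LD2_c16 LD3_c18) (LK LD1_c10 LD2_c38 LD3_c16) Lrfl Lrfl
theorem f303090 : Led Lsl_at (LP (LK LD1_c10 LD2_c38 LD3_c16)) = (LP (LK LD1_c19 LD2_c4 LD3_c20)) :=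
  Lgr Lrot107 (Lpe (f303015 IH) (Lpr_af (f303081 IH) (Lpe (f184287 IH) (Lpn (LP (LK LD1_c19 LD2_c4 LD3_c20))))))
theorem f303100 : Led Lsl_ft (LP (LK LD1_c5 LD2_c23 LD3_c48)) = (LP (LK LD1_c10 LD2_c38 LD3_c16)) :=
  Lre_f IH (LK LD1_c5 LD2_c23 LD3_c48) (LK LD1_c10 LD2_c38 LD3_c16) Lrfl Lrfl
theorem f184282 : Led Lsl_ft (LP (LK LD1_c19 LD2_c4 LD3_c20)) = (LP (LK LD1_c10 LD2_c31 LD3_c22)) :=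
  Lre_f IH (LK LD1_c19 LD2_c4 LD3_c20) (LK LD1_c10 LD2_c31 LD3_c22) Lrfl Lrfl
theorem f303101 : Led Lsl_af (LP (LK LD1_c5 LD2_c23 LD3_c48)) = (LP (LK LD1_c10 LD2_c31 LD3_c22)) :=
  Lgr Lrot45 (Lpr_ft (f303100 IH) (Lpr_at (f303090 IH) (Lpr_ft (f184282 IH) (Lpn (LP (LK LD1_c10 LD2_c31 LD3_c22))))))
theorem f303114 : Led Lsl_et (LP (LK LD1_c5 LD2_c23 LD3_c48)) = (LP (LK LD1_c10 LD2_c38 LD3_c5)) :=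
  Lre_e IH (LK LD1_c5 LD2_c23 LD3_c48) (LK LD1_c10 LD2_c38 LD3_c5) Lrfl Lrfl
theorem f277877 : Led Lsl_et (LP (LK LD1_c19 LD2_c4 LD3_c12)) = (LP (LK LD1_c10 LD2_c31 LD3_c22)) :=
  Lre_e IH (LK LD1_c19 LD2_c4 LD3_c12) (LK LD1_c10 LD2_c31 LD3_c22) Lrfl Lrfl
theorem f303115 : Led Lsl_at (LP (LK LD1_c10 LD2_c38 LD3_c5)) = (LP (LK LD1_c19 LD2_c4 LD3_c12)) :=
  Lgr Lrot80 (Lpe (f303114 IH) (Lpr_af (f303101 IH) (Lpe (f277877 IH) (Lpn (LP (LK LD1_c19 LD2_c4 LD3_c12))))))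
theorem f303129 : Led Lsl_ft (LP (LK LD1_c19 LD2_c15 LD3_c54)) = (LP (LK LD1_c10 LD2_c38 LD3_c5)) :=
  Lre_f IH (LK LD1_c19 LD2_c15 LD3_c54) (LK LD1_c10 LD2_c38 LD3_c5) Lrfl Lrfl
theorem f224736 : Led Lsl_ft (LP (LK LD1_c19 LD2_c4 LD3_c12)) = (LP (LK LD1_c28 LD2_c30 LD3_c27)) :=
  Lre_f IH (LK LD1_c19 LD2_c4 LD3_c12) (LK LD1_c28 LD2_c30 LD3_c27) Lrfl Lrfl
theorem f303130 : Led Lsl_af (LP (LK LD1_c19 LD2_c15 LD3_c54)) = (LP (LK LD1_c28 LD2_c30 LD3_c27)) :=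
  Lgr Lrot45 (Lpr_ft (f303129 IH) (Lpr_at (f303115 IH) (Lpr_ft (f224736 IH) (Lpn (LP (LK LD1_c28 LD2_c30 LD3_c27))))))
theorem f303134 : Led Lsl_dt (LP (LK LD1_c19 LD2_c15 LD3_c54)) = (LP (LK LD1_c10 LD2_c38 LD3_c6)) :=
  Lre_d IH (LK LD1_c19 LD2_c15 LD3_c54) (LK LD1_c10 LD2_c38 LD3_c6) Lrfl Lrfl
theorem f303143 : Led Lsl_dt (LP (LK LD1_c19 LD2_c4 LD3_c13)) = (LP (LK LD1_c28 LD2_c30 LD3_c27)) :=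
  Lre_d IH (LK LD1_c19 LD2_c4 LD3_c13) (LK LD1_c28 LD2_c30 LD3_c27) Lrfl Lrfl
theorem f303144 : Led Lsl_at (LP (LK LD1_c10 LD2_c38 LD3_c6)) = (LP (LK LD1_c19 LD2_c4 LD3_c13)) :=
  Lgr Lrot51 (Lpe (f303134 IH) (Lpr_af (f303130 IH) (Lpe (f303143 IH) (Lpn (LP (LK LD1_c19 LD2_c4 LD3_c13))))))
theorem f303149 : Led Lsl_af (LP (LK LD1_c10 LD2_c38 LD3_c6)) = (LP (LK LD1_c19 LD2_c4 LD3_c13)) :=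
  Lgr Lrot0 (Lpr_at (f303144 IH) (Lpn (LP (LK LD1_c19 LD2_c4 LD3_c13))))
theorem f218541 : Led Lsl_ft (LP (LK LD1_c10 LD2_c38 LD3_c6)) = (LP (LK LD1_c5 LD2_c23 LD3_c45)) :=
  Lre_f IH (LK LD1_c10 LD2_c38 LD3_c6) (LK LD1_c5 LD2_c23 LD3_c45) Lrfl Lrfl
theorem f224747 : Led Lsl_ft (LP (LK LD1_c10 LD2_c31 LD3_c19)) = (LP (LK LD1_c19 LD2_c4 LD3_c13)) :=
  Lre_f IH (LK LD1_c10 LD2_c31 LD3_c19) (LK LD1_c19 LD2_c4 LD3_c13) Lrfl Lrfl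
theorem f303159 : Led Lsl_at (LP (LK LD1_c5 LD2_c23 LD3_c45)) = (LP (LK LD1_c10 LD2_c31 LD3_c19)) :=
  Lgr Lrot66 (Lpe (f218541 IH) (Lpr_af (f303149 IH) (Lpe (f224747 IH) (Lpn (LP (LK LD1_c10 LD2_c31 LD3_c19))))))
theorem f218540 : Led Lsl_et (LP (LK LD1_c2 LD2_c38 LD3_c25)) = (LP (LK LD1_c5 LD2_c23 LD3_c45)) :=
  Lre_e IH (LK LD1_c2 LD2_c38 LD3_c25) (LK LD1_c5 LD2_c23 LD3_c45) Lrfl Lrfl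
theorem f224574 : Led Lsl_et (LP (LK LD1_c10 LD2_c31 LD3_c19)) = (LP (LK LD1_c5 LD2_c20 LD3_c38)) :=
  Lre_e IH (LK LD1_c10 LD2_c31 LD3_c19) (LK LD1_c5 LD2_c20 LD3_c38) Lrfl Lrfl
theorem f303168 : Led Lsl_af (LP (LK LD1_c2 LD2_c38 LD3_c25)) = (LP (LK LD1_c5 LD2_c20 LD3_c38)) :=
  Lgr Lrot50 (Lpr_et (f218540 IH) (Lpr_at (f303159 IH) (Lpr_et (f224574 IH) (Lpn (LP (LK LD1_c5 LD2_c20 LD3_c38))))))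
theorem f303177 : Led Lsl_ft (LP (LK LD1_c2 LD2_c38 LD3_c1)) = (LP (LK LD1_c5 LD2_c20 LD3_c38)) :=
  Lgr Lrot2 (Lpr_gt (K12.f217674 IH) (Lpe (K13.f217745 IH) (Lpr_af (f303168 IH) (Lpn (LP (LK LD1_c5 LD2_c20 LD3_c38))))))
theorem f303187 : Led Lsl_ff (LP (LK LD1_c2 LD2_c38 LD3_c1)) = (LP (LK LD1_c5 LD2_c20 LD3_c38)) :=
  Lgr Lrot3 (Lpr_ft (f303177 IH) (Lpn (LP (LK LD1_c5 LD2_c20 LD3_c38))))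
theorem f303197 : Led Lsl_at (LP (LK LD1_c2 LD2_c38 LD3_c1)) = (LP (LK LD1_c5 LD2_c20 LD3_c31)) :=
  Lgr Lrot26 (Lpr_ff (f303187 IH) (Lpe (K12.f224571 IH) (Lpe (K12.f223752 IH) (Lpn (LP (LK LD1_c5 LD2_c20 LD3_c31))))))
theorem f303172 : Led Lsl_at (LP (LK LD1_c2 LD2_c38 LD3_c25)) = (LP (LK LD1_c5 LD2_c20 LD3_c38)) :=
  Lgr Lrot100 (Lpr_af (f303168 IH) (Lpn (LP (LK LD1_c5 LD2_c20 LD3_c38))))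
theorem f303211 : Led Lsl_ff (LP (LK LD1_c2 LD2_c38 LD3_c25)) = (LP (LK LD1_c5 LD2_c20 LD3_c31)) :=
  Lgr Lrot30 (Lpr_at (f303172 IH) (Lpe (f303187 IH) (Lpr_at (f303197 IH) (Lpn (LP (LK LD1_c5 LD2_c20 LD3_c31))))))
theorem f303219 : Led Lsl_ft (LP (LK LD1_c2 LD2_c38 LD3_c25)) = (LP (LK LD1_c5 LD2_c20 LD3_c31)) :=
  Lgr Lrot48 (Lpr_ff (f303211 IH) (Lpn (LP (LK LD1_c5 LD2_c20 LD3_c31))))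
theorem f303225 : Led Lsl_ff (LP (LK LD1_c1 LD2_c16 LD3_c8)) = (LP (LK LD1_c2 LD2_c36 LD3_c54)) :=
  Lgr Lrot19 (Lpr_dt (K13.f217754 IH) (Lpr_ft (f303219 IH) (Lpr_dt (K12.f172022 IH) (Lpn (LP (LK LD1_c2 LD2_c36 LD3_c54))))))
theorem f217755 : Led Lsl_et (LP (LK LD1_c1 LD2_c16 LD3_c8)) = (LP (LK LD1_c2 LD2_c38 LD3_c26)) :=
  Lre_e IH (LK LD1_c1 LD2_c16 LD3_c8) (LK LD1_c2 LD2_c38 LD3_c26) Lrfl Lrfl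
theorem f277889 : Led Lsl_et (LP (LK LD1_c5 LD2_c20 LD3_c32)) = (LP (LK LD1_c2 LD2_c36 LD3_c54)) :=
  Lre_e IH (LK LD1_c5 LD2_c20 LD3_c32) (LK LD1_c2 LD2_c36 LD3_c54) Lrfl Lrfl
theorem f303233 : Led Lsl_ft (LP (LK LD1_c10 LD2_c31 LD3_c8)) = (LP (LK LD1_c5 LD2_c20 LD3_c32)) :=
  Lre_f IH (LK LD1_c10 LD2_c31 LD3_c8) (LK LD1_c5 LD2_c20 LD3_c32) Lrfl Lrfl
theorem f303234 : Led Lsl_et (LP (LK LD1_c5 LD2_c23 LD3_c49)) = (LP (LK LD1_c10 LD2_c31 LD3_c8)) :=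
  Lgr Lrot69 (Lpe (f303026 IH) (Lpe (f217755 IH) (Lpr_ff (f303225 IH) (Lpe (f277889 IH) (Lpe (f303233 IH) (Lpn (LP (LK LD1_c10 LD2_c31 LD3_c8))))))))
theorem f303241 : Led Lsl_ef (LP (LK LD1_c5 LD2_c23 LD3_c49)) = (LP (LK LD1_c10 LD2_c31 LD3_c8)) :=
  Lgr Lrot88 (Lpr_et (f303234 IH) (Lpn (LP (LK LD1_c10 LD2_c31 LD3_c8))))
theorem f300898 : Led Lsl_ct (LP (LK LD1_c5 LD2_c23 LD3_c49)) = (LP (LK LD1_c2 LD2_c38 LD3_c30)) :=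
  Lre_c IH (LK LD1_c5 LD2_c23 LD3_c49) (LK LD1_c2 LD2_c38 LD3_c30) Lrfl Lrfl
theorem f42439 : Led Lsl_ct (LP (LK LD1_c5 LD2_c20 LD3_c34)) = (LP (LK LD1_c10 LD2_c31 LD3_c8)) :=
  Lre_c IH (LK LD1_c5 LD2_c20 LD3_c34) (LK LD1_c10 LD2_c31 LD3_c8) Lrfl Lrfl
theorem f303243 : Led Lsl_et (LP (LK LD1_c2 LD2_c38 LD3_c30)) = (LP (LK LD1_c5 LD2_c20 LD3_c34)) :=
  Lgr Lrot158 (Lpe (f300898 IH) (Lpr_ef (f303241 IH) (Lpe (f42439 IH) (Lpn (LP (LK LD1_c5 LD2_c20 LD3_c34))))))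
theorem f303258 : Led Lsl_ft (LP (LK LD1_c1 LD2_c16 LD3_c9)) = (LP (LK LD1_c2 LD2_c38 LD3_c30)) :=
  Lre_f IH (LK LD1_c1 LD2_c16 LD3_c9) (LK LD1_c2 LD2_c38 LD3_c30) Lrfl Lrfl
theorem f42430 : Led Lsl_ft (LP (LK LD1_c5 LD2_c20 LD3_c34)) = (LP (LK LD1_c2 LD2_c36 LD3_c55)) :=
  Lre_f IH (LK LD1_c5 LD2_c20 LD3_c34) (LK LD1_c2 LD2_c36 LD3_c55) Lrfl Lrfl
theorem f303259 : Led Lsl_ff (LP (LK LD1_c0 LD2_c35 LD3_c16)) = (LP (LK LD1_c1 LD2_c15 LD3_c26)) :=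
  Lgr Lrot72 (Lpr_et (K16.f256322 IH) (Lpr_ft (f303258 IH) (Lpr_et (f303243 IH) (Lpr_ft (f42430 IH) (Lpr_et (K15.f42147 IH) (Lpn (LP (LK LD1_c1 LD2_c15 LD3_c26))))))))
theorem f217760 : Led Lsl_bt (LP (LK LD1_c0 LD2_c35 LD3_c16)) = (LP (LK LD1_c1 LD2_c16 LD3_c4)) :=
  Lre_b IH (LK LD1_c0 LD2_c35 LD3_c16) (LK LD1_c1 LD2_c16 LD3_c4) Lrfl Lrfl
theorem f303261 : Led Lsl_ft (LP (LK LD1_c1 LD2_c16 LD3_c4)) = (LP (LK LD1_c2 LD2_c36 LD3_c51)) :=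
  Lgr Lrot75 (Lpe (f217760 IH) (Lpr_ff (f303259 IH) (Lpe (K12.f187028 IH) (Lpn (LP (LK LD1_c2 LD2_c36 LD3_c51))))))
theorem f217761 : Led Lsl_gt (LP (LK LD1_c1 LD2_c16 LD3_c4)) = (LP (LK LD1_c2 LD2_c38 LD3_c12)) :=
  Lre_g IH (LK LD1_c1 LD2_c16 LD3_c4) (LK LD1_c2 LD2_c38 LD3_c12) Lrfl Lrfl
theorem f303263 : Led Lsl_af (LP (LK LD1_c2 LD2_c37 LD3_c47)) = (LP (LK LD1_c2 LD2_c36 LD3_c51)) :=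
  Lgr Lrot45 (Lpe (K13.f235630 IH) (Lpr_at (K13.f234081 IH) (Lpr_ft (f303261 IH) (Lpn (LP (LK LD1_c2 LD2_c36 LD3_c51))))))
theorem f303271 : Led Lsl_gt (LP (LK LD1_c2 LD2_c38 LD3_c12)) = (LP (LK LD1_c2 LD2_c37 LD3_c47)) :=
  Lgr Lrot46 (Lpe (f217761 IH) (Lpr_ft (f303261 IH) (Lpe (f303263 IH) (Lpn (LP (LK LD1_c2 LD2_c37 LD3_c47))))))
theorem f211419 : Led Lsl_bt (LP (LK LD1_c1 LD2_c55 LD3_c56)) = (LP (LK LD1_c3 LD2_c58 LD3_c12)) :=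
  Lre_b IH (LK LD1_c1 LD2_c55 LD3_c56) (LK LD1_c3 LD2_c58 LD3_c12) Lrfl Lrfl
theorem f190816 : Led Lsl_gt (LP (LK LD1_c7 LD2_c57 LD3_c57)) = (LP (LK LD1_c3 LD2_c58 LD3_c17)) :=
  Lre_g IH (LK LD1_c7 LD2_c57 LD3_c57) (LK LD1_c3 LD2_c58 LD3_c17) Lrfl Lrfl
theorem f190815 : Led Lsl_ct (LP (LK LD1_c3 LD2_c58 LD3_c17)) = (LP (LK LD1_c1 LD2_c55 LD3_c56)) :=
  Lre_c IH (LK LD1_c3 LD2_c58 LD3_c17) (LK LD1_c1 LD2_c55 LD3_c56) Lrfl Lrfl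
theorem f200807 : Led Lsl_gt (LP (LK LD1_c1 LD2_c58 LD3_c49)) = (LP (LK LD1_c4 LD2_c3 LD3_c38)) :=
  Lre_g IH (LK LD1_c1 LD2_c58 LD3_c49) (LK LD1_c4 LD2_c3 LD3_c38) Lrfl Lrfl
theorem f212489 : Led Lsl_cf (LP (LK LD1_c7 LD2_c57 LD3_c57)) = (LP (LK LD1_c4 LD2_c3 LD3_c38)) :=
  Lgr Lrot169 (Lpr_gt (f190816 IH) (Lpr_ct (f190815 IH) (Lpe (K14.f42730 IH) (Lpe (K10.f42760 IH) (Lpr_gf (K12.f190813 IH) (Lpr_cf (K10.f53948 IH) (Lpr_gf (K12.f212487 IH) (Lpe (K12.f201103 IH) (Lpr_gt (f200807 IH) (Lpn (LP (LK LD1_c4 LD2_c3 LD3_c38))))))))))))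
theorem f228436 : Led Lsl_bf (LP (LK LD1_c2 LD2_c38 LD3_c12)) = (LP (LK LD1_c4 LD2_c3 LD3_c38)) :=
  Lgr Lrot34 (Lpe (f217761 IH) (Lpe (f217760 IH) (Lpr_ct (K13.f217743 IH) (Lpr_gf (f228423 IH) (Lpe (K12.f228418 IH) (Lpe (K12.f211417 IH) (Lpe (f211419 IH) (Lpr_ct (K15.f181401 IH) (Lpe (f190816 IH) (Lpr_cf (f212489 IH) (Lpn (LP (LK LD1_c4 LD2_c3 LD3_c38)))))))))))))
theorem f279477 : Led Lsl_et (LP (LK LD1_c5 LD2_c23 LD3_c24)) = (LP (LK LD1_c10 LD2_c37 LD3_c21)) :=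
  Lre_e IH (LK LD1_c5 LD2_c23 LD3_c24) (LK LD1_c10 LD2_c37 LD3_c21) Lrfl Lrfl
theorem f279531 : Led Lsl_ft (LP (LK LD1_c19 LD2_c10 LD3_c48)) = (LP (LK LD1_c10 LD2_c35 LD3_c20)) :=
  Lre_f IH (LK LD1_c19 LD2_c10 LD3_c48) (LK LD1_c10 LD2_c35 LD3_c20) Lrfl Lrfl
theorem f199529 : Led Lsl_et (LP (LK LD1_c10 LD2_c35 LD3_c20)) = (LP (LK LD1_c5 LD2_c22 LD3_c28)) :=
  Lre_e IH (LK LD1_c10 LD2_c35 LD3_c20) (LK LD1_c5 LD2_c22 LD3_c28) Lrfl Lrfl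
theorem f279532 : Led Lsl_ff (LP (LK LD1_c5 LD2_c23 LD3_c24)) = (LP (LK LD1_c5 LD2_c22 LD3_c28)) :=
  Lgr Lrot72 (Lpr_et (f279477 IH) (Lpe (f279467 IH) (Lpr_et (K17.f279527 IH) (Lpr_ft (f279531 IH) (Lpr_et (f199529 IH) (Lpn (LP (LK LD1_c5 LD2_c22 LD3_c28))))))))
theorem f224177 : Led Lsl_at (LP (LK LD1_c5 LD2_c23 LD3_c24)) = (LP (LK LD1_c2 LD2_c38 LD3_c14)) :=
  Lre_a IH (LK LD1_c5 LD2_c23 LD3_c24) (LK LD1_c2 LD2_c38 LD3_c14) Lrfl Lrfl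
theorem f279538 : Led Lsl_gf (LP (LK LD1_c2 LD2_c43 LD3_c40)) = (LP (LK LD1_c5 LD2_c22 LD3_c28)) :=
  Lgr Lrot47 (Lpe (K13.f224173 IH) (Lpe (f224177 IH) (Lpr_ff (f279532 IH) (Lpn (LP (LK LD1_c5 LD2_c22 LD3_c28))))))
theorem f234803 : Led Lsl_bt (LP (LK LD1_c1 LD2_c55 LD3_c59)) = (LP (LK LD1_c3 LD2_c58 LD3_c20)) :=
  Lre_b IH (LK LD1_c1 LD2_c55 LD3_c59) (LK LD1_c3 LD2_c58 LD3_c20) Lrfl Lrfl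
theorem f303275 : Led Lsl_gf (LP (LK LD1_c7 LD2_c57 LD3_c57)) = (LP (LK LD1_c3 LD2_c58 LD3_c22)) :=
  Lgr Lrot126 (Lpr_cf (f212489 IH) (Lpe (f228436 IH) (Lpr_gt (f303271 IH) (Lpr_ct (K12.f172028 IH) (Lpe (f279538 IH) (Lpe (K13.f189389 IH) (Lpr_bt (K13.f189386 IH) (Lpe (K14.f234751 IH) (Lpe (f234803 IH) (Lpr_ct (K16.f228016 IH) (Lpn (LP (LK LD1_c3 LD2_c58 LD3_c22)))))))))))))
theorem f226818 : Led Lsl_dt (LP (LK LD1_c7 LD2_c57 LD3_c57)) = (LP (LK LD1_c15 LD2_c1 LD3_c31)) :=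
  Lre_d IH (LK LD1_c7 LD2_c57 LD3_c57) (LK LD1_c15 LD2_c1 LD3_c31) Lrfl Lrfl
theorem f224027 : Led Lsl_dt (LP (LK LD1_c15 LD2_c1 LD3_c3)) = (LP (LK LD1_c7 LD2_c57 LD3_c43)) :=
  Lre_d IH (LK LD1_c15 LD2_c1 LD3_c3) (LK LD1_c7 LD2_c57 LD3_c43) Lrfl Lrfl
theorem f303292 : Led Lsl_gt (LP (LK LD1_c15 LD2_c1 LD3_c31)) = (LP (LK LD1_c15 LD2_c1 LD3_c3)) :=
  Lgr Lrot49 (Lpe (f226818 IH) (Lpr_gf (f303275 IH) (Lpe (K16.f228016 IH) (Lpr_gt (K12.f227988 IH) (Lpr_dt (K14.f253532 IH) (Lpe (K15.f266809 IH) (Lpe (K15.f224057 IH) (Lpe (K16.f173837 IH) (Lpe (f224027 IH) (Lpn (LP (LK LD1_c15 LD2_c1 LD3_c3))))))))))))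
theorem f51526 : Led Lsl_gt (LP (LK LD1_c8 LD2_c22 LD3_c8)) = (LP (LK LD1_c4 LD2_c11 LD3_c6)) :=
  Lre_g IH (LK LD1_c8 LD2_c22 LD3_c8) (LK LD1_c4 LD2_c11 LD3_c6) Lrfl Lrfl
theorem f303302 : Led Lsl_cf (LP (LK LD1_c15 LD2_c1 LD3_c31)) = (LP (LK LD1_c8 LD2_c22 LD3_c8)) :=
  Lgr Lrot166 (Lpr_gt (f303292 IH) (Lpr_dt (f224027 IH) (Lpr_gt (K16.f253189 IH) (Lpr_dt (K16.f48084 IH) (Lpr_ct (K17.f290788 IH) (Lpe (K17.f290790 IH) (Lpe (K12.f170587 IH) (Lpe (f51525 IH) (Lpe (f51526 IH) (Lpn (LP (LK LD1_c8 LD2_c22 LD3_c8))))))))))))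
theorem f41998 : Led Lsl_dt (LP (LK LD1_c5 LD2_c21 LD3_c11)) = (LP (LK LD1_c10 LD2_c32 LD3_c33)) :=
  Lre_d IH (LK LD1_c5 LD2_c21 LD3_c11) (LK LD1_c10 LD2_c32 LD3_c33) Lrfl Lrfl
theorem f224012 : Led Lsl_dt (LP (LK LD1_c7 LD2_c57 LD3_c43)) = (LP (LK LD1_c15 LD2_c1 LD3_c3)) :=
  Lre_d IH (LK LD1_c7 LD2_c57 LD3_c43) (LK LD1_c15 LD2_c1 LD3_c3) Lrfl Lrfl
theorem f284606 : Led Lsl_cf (LP (LK LD1_c10 LD2_c32 LD3_c33)) = (LP (LK LD1_c15 LD2_c1 LD3_c3)) :=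
  Lgr Lrot14 (Lpe (f41998 IH) (Lpe (K13.f41989 IH) (Lpe (K9.f41897 IH) (Lpe (K16.f41930 IH) (Lpe (K16.f278148 IH) (Lpr_gt (f284568 IH) (Lpr_dt (K17.f218115 IH) (Lpe (K16.f275471 IH) (Lpr_dt (f224012 IH) (Lpn (LP (LK LD1_c15 LD2_c1 LD3_c3))))))))))))
theorem f300784 : Led Lsl_ct (LP (LK LD1_c2 LD2_c6 LD3_c18)) = (LP (LK LD1_c4 LD2_c17 LD3_c60)) :=
  Lre_c IH (LK LD1_c2 LD2_c6 LD3_c18) (LK LD1_c4 LD2_c17 LD3_c60) Lrfl Lrfl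
theorem f300785 : Led Lsl_gf (LP (LK LD1_c4 LD2_c11 LD3_c4)) = (LP (LK LD1_c4 LD2_c17 LD3_c60)) :=
  Lgr Lrot104 (Lpr_ct (K16.f221917 IH) (Lpe (K10.f45797 IH) (Lpr_cf (K15.f53950 IH) (Lpe (K15.f260990 IH) (Lpe (K15.f201097 IH) (Lpr_gf (K15.f260916 IH) (Lpe (K16.f184459 IH) (Lpr_gt (f300773 IH) (Lpr_ct (f300784 IH) (Lpn (LP (LK LD1_c4 LD2_c17 LD3_c60))))))))))))
theorem f290587 : Led Lsl_dt (LP (LK LD1_c8 LD2_c34 LD3_c52)) = (LP (LK LD1_c4 LD2_c17 LD3_c60)) :=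
  Lre_d IH (LK LD1_c8 LD2_c34 LD3_c52) (LK LD1_c4 LD2_c17 LD3_c60) Lrfl Lrfl
theorem f303304 : Led Lsl_gf (LP (LK LD1_c8 LD2_c22 LD3_c8)) = (LP (LK LD1_c8 LD2_c34 LD3_c52)) :=
  Lgr Lrot147 (Lpe (f303302 IH) (Lpr_gt (f303292 IH) (Lpe (f284606 IH) (Lpe (f41998 IH) (Lpr_cf (K13.f192370 IH) (Lpr_gf (K13.f219166 IH) (Lpe (K16.f221917 IH) (Lpr_gf (f300785 IH) (Lpe (f290587 IH) (Lpn (LP (LK LD1_c8 LD2_c34 LD3_c52))))))))))))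
theorem f226815 : Led Lsl_dt (LP (LK LD1_c15 LD2_c1 LD3_c31)) = (LP (LK LD1_c7 LD2_c57 LD3_c57)) :=
  Lre_d IH (LK LD1_c15 LD2_c1 LD3_c31) (LK LD1_c7 LD2_c57 LD3_c57) Lrfl Lrfl
theorem f226814 : Led Lsl_dt (LP (LK LD1_c4 LD2_c19 LD3_c44)) = (LP (LK LD1_c8 LD2_c37 LD3_c36)) :=
  Lre_d IH (LK LD1_c4 LD2_c19 LD3_c44) (LK LD1_c8 LD2_c37 LD3_c36) Lrfl Lrfl
theorem f201116 : Led Lsl_at (LP (LK LD1_c4 LD2_c3 LD3_c61)) = (LP (LK LD1_c1 LD2_c58 LD3_c59)) :=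
  Lre_a IH (LK LD1_c4 LD2_c3 LD3_c61) (LK LD1_c1 LD2_c58 LD3_c59) Lrfl Lrfl
theorem f290770 : Led Lsl_at (LP (LK LD1_c4 LD2_c4 LD3_c0)) = (LP (LK LD1_c3 LD2_c58 LD3_c31)) :=
  Lgr Lrot107 (Lpe (K12.f196417 IH) (Lpe (f201116 IH) (Lpr_cf (K17.f290764 IH) (Lpn (LP (LK LD1_c3 LD2_c58 LD3_c31))))))
theorem f300768 : Led Lsl_cf (LP (LK LD1_c8 LD2_c34 LD3_c52)) = (LP (LK LD1_c7 LD2_c58 LD3_c27)) :=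
  Lgr Lrot118 (Lpr_dt (f290587 IH) (Lpr_ct (f288833 IH) (Lpe (f300766 IH) (Lpe (K16.f187543 IH) (Lpr_dt (f300756 IH) (Lpr_ct (f290773 IH) (Lpe (f290770 IH) (Lpr_ff (K17.f293135 IH) (Lpr_dt (f54669 IH) (Lpn (LP (LK LD1_c7 LD2_c58 LD3_c27))))))))))))
theorem f303314 : Led Lsl_gt (LP (LK LD1_c8 LD2_c37 LD3_c36)) = (LP (LK LD1_c7 LD2_c58 LD3_c27)) :=
  Lgr Lrot9 (Lpe (f226814 IH) (Lpr_gt (K13.f226786 IH) (Lpr_ct (K12.f201104 IH) (Lpr_gt (f200807 IH) (Lpe (f212489 IH) (Lpe (f226815 IH) (Lpr_cf (f303302 IH) (Lpr_gf (f303304 IH) (Lpr_cf (f300768 IH) (Lpn (LP (LK LD1_c7 LD2_c58 LD3_c27))))))))))))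
theorem f247410 : Led Lsl_dt (LP (LK LD1_c4 LD2_c17 LD3_c20)) = (LP (LK LD1_c8 LD2_c33 LD3_c47)) :=
  Lre_d IH (LK LD1_c4 LD2_c17 LD3_c20) (LK LD1_c8 LD2_c33 LD3_c47) Lrfl Lrfl
theorem f226813 : Led Lsl_dt (LP (LK LD1_c8 LD2_c37 LD3_c36)) = (LP (LK LD1_c4 LD2_c19 LD3_c44)) :=
  Lre_d IH (LK LD1_c8 LD2_c37 LD3_c36) (LK LD1_c4 LD2_c19 LD3_c44) Lrfl Lrfl
theorem f199634 : Led Lsl_dt (LP (LK LD1_c4 LD2_c17 LD3_c18)) = (LP (LK LD1_c8 LD2_c33 LD3_c44)) :=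
  Lre_d IH (LK LD1_c4 LD2_c17 LD3_c18) (LK LD1_c8 LD2_c33 LD3_c44) Lrfl Lrfl
theorem f300809 : Led Lsl_cf (LP (LK LD1_c8 LD2_c37 LD3_c36)) = (LP (LK LD1_c8 LD2_c33 LD3_c44)) :=
  Lgr Lrot55 (Lpr_dt (f226813 IH) (Lpr_ct (K14.f226761 IH) (Lpr_dt (f226842 IH) (Lpe (K16.f266943 IH) (Lpe (K14.f247405 IH) (Lpr_ct (K16.f199585 IH) (Lpr_dt (f247410 IH) (Lpr_ct (f266964 IH) (Lpr_dt (f253908 IH) (Lpr_ct (K14.f253903 IH) (Lpr_dt (K15.f266820 IH) (Lpe (f300740 IH) (Lpr_dt (f300807 IH) (Lpr_ct (K13.f166497 IH) (Lpr_dt (f199634 IH) (Lpn (LP (LK LD1_c8 LD2_c33 LD3_c44))))))))))))))))))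
theorem f42769 : Led Lsl_dt (LP (LK LD1_c7 LD2_c58 LD3_c27)) = (LP (LK LD1_c3 LD2_c58 LD3_c30)) :=
  Lre_d IH (LK LD1_c7 LD2_c58 LD3_c27) (LK LD1_c3 LD2_c58 LD3_c30) Lrfl Lrfl
theorem f303323 : Led Lsl_gt (LP (LK LD1_c8 LD2_c33 LD3_c44)) = (LP (LK LD1_c9 LD2_c35 LD3_c26)) :=
  Lgr Lrot180 (Lpe (f300809 IH) (Lpr_gt (f303314 IH) (Lpr_dt (f42769 IH) (Lpr_gt (K12.f42768 IH) (Lpe (K12.f42750 IH) (Lpr_ct (K9.f42697 IH) (Lpe (K9.f42662 IH) (Lpe (K13.f219774 IH) (Lpe (f2114 IH) (Lpn (LP (LK LD1_c9 LD2_c35 LD3_c26))))))))))))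
theorem f199635 : Led Lsl_dt (LP (LK LD1_c8 LD2_c33 LD3_c44)) = (LP (LK LD1_c4 LD2_c17 LD3_c18)) :=
  Lre_d IH (LK LD1_c8 LD2_c33 LD3_c44) (LK LD1_c4 LD2_c17 LD3_c18) Lrfl Lrfl
theorem f171012 : Led Lsl_dt (LP (LK LD1_c4 LD2_c10 LD3_c15)) = (LP (LK LD1_c8 LD2_c20 LD3_c41)) :=
  Lre_d IH (LK LD1_c4 LD2_c10 LD3_c15) (LK LD1_c8 LD2_c20 LD3_c41) Lrfl Lrfl
theorem f217343 : Led Lsl_ct (LP (LK LD1_c1 LD2_c16 LD3_c23)) = (LP (LK LD1_c2 LD2_c39 LD3_c12)) :=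
  Lre_c IH (LK LD1_c1 LD2_c16 LD3_c23) (LK LD1_c2 LD2_c39 LD3_c12) Lrfl Lrfl
theorem f217719 : Led Lsl_ct (LP (LK LD1_c2 LD2_c37 LD3_c58)) = (LP (LK LD1_c1 LD2_c15 LD3_c58)) :=
  Lre_c IH (LK LD1_c2 LD2_c37 LD3_c58) (LK LD1_c1 LD2_c15 LD3_c58) Lrfl Lrfl
theorem f224272 : Led Lsl_gf (LP (LK LD1_c2 LD2_c37 LD3_c58)) = (LP (LK LD1_c4 LD2_c55 LD3_c9)) :=
  Lgr Lrot179 (Lpr_ct (f217719 IH) (Lpr_gt (K12.f217718 IH) (Lpr_ct (K12.f196710 IH) (Lpr_dt (K12.f196711 IH) (Lpe (K12.f217668 IH) (Lpe (K12.f55142 IH) (Lpe (f217343 IH) (Lpe (K14.f217344 IH) (Lpr_dt (K15.f224254 IH) (Lpn (LP (LK LD1_c4 LD2_c55 LD3_c9))))))))))))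
theorem f228673 : Led Lsl_bf (LP (LK LD1_c0 LD2_c35 LD3_c37)) = (LP (LK LD1_c1 LD2_c15 LD3_c58)) :=
  Lgr Lrot24 (Lpr_bt (K12.f228671 IH) (Lpn (LP (LK LD1_c1 LD2_c15 LD3_c58))))
theorem f7891 : Led Lsl_bt (LP (LK LD1_c0 LD2_c35 LD3_c34)) = (LP (LK LD1_c0 LD2_c15 LD3_c57)) :=
  Lre_b IH (LK LD1_c0 LD2_c35 LD3_c34) (LK LD1_c0 LD2_c15 LD3_c57) Lrfl Lrfl
theorem f252133 : Led Lsl_bt (LP (LK LD1_c4 LD2_c13 LD3_c60)) = (LP (LK LD1_c4 LD2_c54 LD3_c49)) :=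
  Lgr Lrot130 (Lpe (K15.f245091 IH) (Lpe (K15.f172918 IH) (Lpe (K13.f236001 IH) (Lpr_bt (f7891 IH) (Lpe (K12.f172407 IH) (Lpr_bf (f228673 IH) (Lpr_ct (K13.f224143 IH) (Lpr_gf (f224272 IH) (Lpe (K15.f171917 IH) (Lpr_gf (K14.f252101 IH) (Lpn (LP (LK LD1_c4 LD2_c54 LD3_c49)))))))))))))
theorem f197007 : Led Lsl_bt (LP (LK LD1_c2 LD2_c40 LD3_c13)) = (LP (LK LD1_c1 LD2_c16 LD3_c52)) :=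
  Lre_b IH (LK LD1_c2 LD2_c40 LD3_c13) (LK LD1_c1 LD2_c16 LD3_c52) Lrfl Lrfl
theorem f252137 : Led Lsl_gt (LP (LK LD1_c7 LD2_c57 LD3_c39)) = (LP (LK LD1_c5 LD2_c27 LD3_c43)) :=
  Lgr Lrot65 (Lpe (K17.f171928 IH) (Lpe (K14.f171907 IH) (Lpr_gf (K14.f252101 IH) (Lpe (f252133 IH) (Lpe (K15.f245091 IH) (Lpe (K15.f172918 IH) (Lpe (K13.f236001 IH) (Lpe (K17.f197004 IH) (Lpe (f197007 IH) (Lpr_ct (f226775 IH) (Lpn (LP (LK LD1_c5 LD2_c27 LD3_c43)))))))))))))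
theorem f282874 : Led Lsl_dt (LP (LK LD1_c5 LD2_c27 LD3_c43)) = (LP (LK LD1_c10 LD2_c46 LD3_c32)) :=
  Lre_d IH (LK LD1_c5 LD2_c27 LD3_c43) (LK LD1_c10 LD2_c46 LD3_c32) Lrfl Lrfl
theorem f290565 : Led Lsl_cf (LP (LK LD1_c8 LD2_c20 LD3_c41)) = (LP (LK LD1_c10 LD2_c46 LD3_c32)) :=
  Lgr Lrot14 (Lpe (f171012 IH) (Lpe (K14.f171011 IH) (Lpe (K12.f178502 IH) (Lpe (K16.f178503 IH) (Lpr_ct (K17.f290563 IH) (Lpe (K17.f218118 IH) (Lpr_dt (K17.f171927 IH) (Lpr_gt (f252137 IH) (Lpr_dt (f282874 IH) (Lpn (LP (LK LD1_c10 LD2_c46 LD3_c32))))))))))))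
theorem f295977 : Led Lsl_ct (LP (LK LD1_c9 LD2_c35 LD3_c26)) = (LP (LK LD1_c7 LD2_c58 LD3_c13)) :=
  Lgr Lrot59 (Lpr_cf (f295940 IH) (Lpn (LP (LK LD1_c7 LD2_c58 LD3_c13))))
theorem f303333 : Led Lsl_gf (LP (LK LD1_c10 LD2_c46 LD3_c32)) = (LP (LK LD1_c7 LD2_c58 LD3_c13)) :=
  Lgr Lrot104 (Lpe (f290565 IH) (Lpe (f171012 IH) (Lpr_cf (K14.f220347 IH) (Lpr_gf (K14.f251872 IH) (Lpe (K13.f199622 IH) (Lpe (K13.f166498 IH) (Lpe (f199635 IH) (Lpr_gt (f303323 IH) (Lpr_ct (f295977 IH) (Lpn (LP (LK LD1_c7 LD2_c58 LD3_c13))))))))))))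
theorem f218076 : Led Lsl_dt (LP (LK LD1_c3 LD2_c58 LD3_c25)) = (LP (LK LD1_c7 LD2_c58 LD3_c13)) :=
  Lre_d IH (LK LD1_c3 LD2_c58 LD3_c25) (LK LD1_c7 LD2_c58 LD3_c13) Lrfl Lrfl
theorem f303342 : Led Lsl_gt (LP (LK LD1_c8 LD2_c20 LD3_c41)) = (LP (LK LD1_c8 LD2_c21 LD3_c56)) :=
  Lgr Lrot150 (Lpr_cf (f290565 IH) (Lpr_gf (f303333 IH) (Lpe (f218076 IH) (Lpr_gt (K12.f168019 IH) (Lpr_ct (K12.f217973 IH) (Lpe (K12.f201113 IH) (Lpr_ct (K12.f196417 IH) (Lpe (K17.f196427 IH) (Lpe (K17.f288810 IH) (Lpn (LP (LK LD1_c8 LD2_c21 LD3_c56))))))))))))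
theorem f167365 : Led Lsl_bt (LP (LK LD1_c2 LD2_c4 LD3_c27)) = (LP (LK LD1_c4 LD2_c14 LD3_c3)) :=
  Lre_b IH (LK LD1_c2 LD2_c4 LD3_c27) (LK LD1_c4 LD2_c14 LD3_c3) Lrfl Lrfl
theorem f266926 : Led Lsl_ef (LP (LK LD1_c2 LD2_c24 LD3_c51)) = (LP (LK LD1_c4 LD2_c19 LD3_c43)) :=
  Lgr Lrot88 (Lpr_et (K15.f266920 IH) (Lpn (LP (LK LD1_c4 LD2_c19 LD3_c43))))
theorem f266928 : Led Lsl_bt (LP (LK LD1_c2 LD2_c12 LD3_c43)) = (LP (LK LD1_c4 LD2_c19 LD3_c43)) :=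
  Lgr Lrot119 (Lpr_ef (K13.f238226 IH) (Lpr_bf (K10.f190868 IH) (Lpr_ef (f266926 IH) (Lpn (LP (LK LD1_c4 LD2_c19 LD3_c43))))))
theorem f299285 : Led Lsl_gf (LP (LK LD1_c4 LD2_c14 LD3_c3)) = (LP (LK LD1_c4 LD2_c19 LD3_c43)) :=
  Lgr Lrot124 (Lpe (f167365 IH) (Lpr_ct (K13.f167366 IH) (Lpe (K14.f251756 IH) (Lpe (K13.f53147 IH) (Lpr_bt (K15.f190859 IH) (Lpr_gt (f299281 IH) (Lpr_ct (f283276 IH) (Lpr_gt (K13.f232391 IH) (Lpr_cf (K14.f236435 IH) (Lpr_bt (f266928 IH) (Lpn (LP (LK LD1_c4 LD2_c19 LD3_c43)))))))))))))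
theorem f260937 : Led Lsl_et (LP (LK LD1_c4 LD2_c14 LD3_c3)) = (LP (LK LD1_c2 LD2_c4 LD3_c24)) :=
  Lre_e IH (LK LD1_c4 LD2_c14 LD3_c3) (LK LD1_c2 LD2_c4 LD3_c24) Lrfl Lrfl
theorem f260938 : Led Lsl_df (LP (LK LD1_c5 LD2_c29 LD3_c35)) = (LP (LK LD1_c4 LD2_c14 LD3_c3)) :=
  Lgr Lrot168 (Lpr_gf (K14.f251872 IH) (Lpe (K17.f199620 IH) (Lpr_et (K17.f199621 IH) (Lpe (K14.f251574 IH) (Lpr_ef (K14.f251396 IH) (Lpe (K14.f251428 IH) (Lpe (K14.f213900 IH) (Lpe (K9.f47462 IH) (Lpr_gf (K16.f260918 IH) (Lpe (f260937 IH) (Lpn (LP (LK LD1_c4 LD2_c14 LD3_c3)))))))))))))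
theorem f220360 : Led Lsl_dt (LP (LK LD1_c8 LD2_c20 LD3_c41)) = (LP (LK LD1_c4 LD2_c10 LD3_c15)) :=
  Lre_d IH (LK LD1_c8 LD2_c20 LD3_c41) (LK LD1_c4 LD2_c10 LD3_c15) Lrfl Lrfl
theorem f238258 : Led Lsl_dt (LP (LK LD1_c9 LD2_c35 LD3_c30)) = (LP (LK LD1_c4 LD2_c51 LD3_c41)) :=
  Lre_d IH (LK LD1_c9 LD2_c35 LD3_c30) (LK LD1_c4 LD2_c51 LD3_c41) Lrfl Lrfl
theorem f233272 : Led Lsl_et (LP (LK LD1_c4 LD2_c51 LD3_c41)) = (LP (LK LD1_c2 LD2_c23 LD3_c40)) :=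
  Lre_e IH (LK LD1_c4 LD2_c51 LD3_c41) (LK LD1_c2 LD2_c23 LD3_c40) Lrfl Lrfl
theorem f266930 : Led Lsl_dt (LP (LK LD1_c2 LD2_c23 LD3_c40)) = (LP (LK LD1_c4 LD2_c19 LD3_c43)) :=
  Lgr Lrot77 (Lpe (f233272 IH) (Lpe (f238258 IH) (Lpr_ef (K13.f238231 IH) (Lpe (K13.f44456 IH) (Lpr_ef (f266926 IH) (Lpn (LP (LK LD1_c4 LD2_c19 LD3_c43))))))))
theorem f299287 : Led Lsl_gf (LP (LK LD1_c8 LD2_c20 LD3_c41)) = (LP (LK LD1_c4 LD2_c18 LD3_c3)) :=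
  Lgr Lrot143 (Lpr_dt (f220360 IH) (Lpr_cf (K14.f220347 IH) (Lpr_df (f260938 IH) (Lpr_gf (f299285 IH) (Lpe (f266930 IH) (Lpr_gf (K13.f229622 IH) (Lpr_cf (K12.f221846 IH) (Lpr_gt (K12.f167529 IH) (Lpr_dt (f170061 IH) (Lpn (LP (LK LD1_c4 LD2_c18 LD3_c3))))))))))))
theorem f288812 : Led Lsl_at (LP (LK LD1_c4 LD2_c11 LD3_c6)) = (LP (LK LD1_c8 LD2_c21 LD3_c56)) :=
  Lre_a IH (LK LD1_c4 LD2_c11 LD3_c6) (LK LD1_c8 LD2_c21 LD3_c56) Lrfl Lrfl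
theorem f303418 : Led Lsl_ft (LP (LK LD1_c4 LD2_c18 LD3_c3)) = (LP (LK LD1_c4 LD2_c11 LD3_c6)) :=
  Lgr Lrot2 (Lpe (f299287 IH) (Lpr_gt (f303342 IH) (Lpe (f288812 IH) (Lpn (LP (LK LD1_c4 LD2_c11 LD3_c6))))))
theorem f303426 : Led Lsl_ff (LP (LK LD1_c4 LD2_c18 LD3_c3)) = (LP (LK LD1_c4 LD2_c11 LD3_c6)) :=
  Lgr Lrot3 (Lpr_ft (f303418 IH) (Lpn (LP (LK LD1_c4 LD2_c11 LD3_c6))))
theorem f303431 : Led Lsl_et (LP (LK LD1_c4 LD2_c18 LD3_c3)) = (LP (LK LD1_c8 LD2_c35 LD3_c2)) :=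
  Lre_e IH (LK LD1_c4 LD2_c18 LD3_c3) (LK LD1_c8 LD2_c35 LD3_c2) Lrfl Lrfl
theorem f303432 : Led Lsl_ft (LP (LK LD1_c8 LD2_c35 LD3_c2)) = (LP (LK LD1_c16 LD2_c6 LD3_c26)) :=
  Lre_f IH (LK LD1_c8 LD2_c35 LD3_c2) (LK LD1_c16 LD2_c6 LD3_c26) Lrfl Lrfl
theorem f278465 : Led Lsl_et (LP (LK LD1_c8 LD2_c22 LD3_c9)) = (LP (LK LD1_c4 LD2_c11 LD3_c6)) :=
  Lre_e IH (LK LD1_c8 LD2_c22 LD3_c9) (LK LD1_c4 LD2_c11 LD3_c6) Lrfl Lrfl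
theorem f290631 : Led Lsl_ft (LP (LK LD1_c15 LD2_c44 LD3_c61)) = (LP (LK LD1_c8 LD2_c22 LD3_c9)) :=
  Lre_f IH (LK LD1_c15 LD2_c44 LD3_c61) (LK LD1_c8 LD2_c22 LD3_c9) Lrfl Lrfl
theorem f303433 : Led Lsl_et (LP (LK LD1_c16 LD2_c6 LD3_c26)) = (LP (LK LD1_c15 LD2_c44 LD3_c61)) :=
  Lgr Lrot69 (Lpe (f303432 IH) (Lpe (f303431 IH) (Lpr_ff (f303426 IH) (Lpe (f278465 IH) (Lpe (f290631 IH) (Lpn (LP (LK LD1_c15 LD2_c44 LD3_c61))))))))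
theorem f303438 : Led Lsl_ct (LP (LK LD1_c26 LD2_c3 LD3_c20)) = (LP (LK LD1_c16 LD2_c6 LD3_c26)) :=
  Lre_c IH (LK LD1_c26 LD2_c3 LD3_c20) (LK LD1_c16 LD2_c6 LD3_c26) Lrfl Lrfl
theorem f290632 : Led Lsl_ft (LP (LK LD1_c15 LD2_c2 LD3_c46)) = (LP (LK LD1_c24 LD2_c51 LD3_c45)) :=
  Lre_f IH (LK LD1_c15 LD2_c2 LD3_c46) (LK LD1_c24 LD2_c51 LD3_c45) Lrfl Lrfl
theorem f290633 : Led Lsl_cf (LP (LK LD1_c15 LD2_c44 LD3_c61)) = (LP (LK LD1_c24 LD2_c51 LD3_c45)) :=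
  Lgr Lrot108 (Lpr_ft (f290631 IH) (Lpr_ct (K17.f290584 IH) (Lpr_ft (f290632 IH) (Lpn (LP (LK LD1_c24 LD2_c51 LD3_c45))))))
theorem f290644 : Led Lsl_ct (LP (LK LD1_c15 LD2_c44 LD3_c61)) = (LP (LK LD1_c24 LD2_c51 LD3_c45)) :=
  Lgr Lrot59 (Lpr_cf (f290633 IH) (Lpn (LP (LK LD1_c24 LD2_c51 LD3_c45))))
theorem f303439 : Led Lsl_ef (LP (LK LD1_c26 LD2_c3 LD3_c20)) = (LP (LK LD1_c24 LD2_c51 LD3_c45)) :=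
  Lgr Lrot28 (Lpr_ct (f303438 IH) (Lpr_et (f303433 IH) (Lpr_ct (f290644 IH) (Lpn (LP (LK LD1_c24 LD2_c51 LD3_c45))))))
theorem f303446 : Led Lsl_et (LP (LK LD1_c26 LD2_c3 LD3_c20)) = (LP (LK LD1_c24 LD2_c51 LD3_c45)) :=
  Lgr Lrot87 (Lpr_ef (f303439 IH) (Lpn (LP (LK LD1_c24 LD2_c51 LD3_c45))))
theorem f303450 : Led Lsl_bt (LP (LK LD1_c32 LD2_c3 LD3_c39)) = (LP (LK LD1_c26 LD2_c3 LD3_c20)) :=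
  Lre_b IH (LK LD1_c32 LD2_c3 LD3_c39) (LK LD1_c26 LD2_c3 LD3_c20) Lrfl Lrfl
theorem f290652 : Led Lsl_bt (LP (LK LD1_c24 LD2_c51 LD3_c45)) = (LP (LK LD1_c31 LD2_c41 LD3_c38)) :=
  Lre_b IH (LK LD1_c24 LD2_c51 LD3_c45) (LK LD1_c31 LD2_c41 LD3_c38) Lrfl Lrfl
theorem f303451 : Led Lsl_ef (LP (LK LD1_c32 LD2_c3 LD3_c39)) = (LP (LK LD1_c31 LD2_c41 LD3_c38)) :=
  Lgr Lrot29 (Lpr_bt (f303450 IH) (Lpr_et (f303446 IH) (Lpr_bt (f290652 IH) (Lpn (LP (LK LD1_c31 LD2_c41 LD3_c38))))))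
theorem f303455 : Led Lsl_ft (LP (LK LD1_c32 LD2_c3 LD3_c39)) = (LP (LK LD1_c26 LD2_c3 LD3_c18)) :=
  Lre_f IH (LK LD1_c32 LD2_c3 LD3_c39) (LK LD1_c26 LD2_c3 LD3_c18) Lrfl Lrfl
theorem f303456 : Led Lsl_et (LP (LK LD1_c26 LD2_c3 LD3_c18)) = (LP (LK LD1_c16 LD2_c6 LD3_c21)) :=
  Lre_e IH (LK LD1_c26 LD2_c3 LD3_c18) (LK LD1_c16 LD2_c6 LD3_c21) Lrfl Lrfl
theorem f303457 : Led Lsl_ft (LP (LK LD1_c24 LD2_c51 LD3_c38)) = (LP (LK LD1_c31 LD2_c41 LD3_c38)) :=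
  Lre_f IH (LK LD1_c24 LD2_c51 LD3_c38) (LK LD1_c31 LD2_c41 LD3_c38) Lrfl Lrfl
theorem f303458 : Led Lsl_et (LP (LK LD1_c15 LD2_c2 LD3_c44)) = (LP (LK LD1_c24 LD2_c51 LD3_c38)) :=
  Lre_e IH (LK LD1_c15 LD2_c2 LD3_c44) (LK LD1_c24 LD2_c51 LD3_c38) Lrfl Lrfl
theorem f303459 : Led Lsl_ft (LP (LK LD1_c16 LD2_c6 LD3_c21)) = (LP (LK LD1_c15 LD2_c2 LD3_c44)) :=
  Lgr Lrot86 (Lpe (f303456 IH) (Lpe (f303455 IH) (Lpr_ef (f303451 IH) (Lpe (f303457 IH) (Lpe (f303458 IH) (Lpn (LP (LK LD1_c15 LD2_c2 LD3_c44))))))))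
theorem f303468 : Led Lsl_ff (LP (LK LD1_c16 LD2_c6 LD3_c21)) = (LP (LK LD1_c15 LD2_c2 LD3_c44)) :=
  Lgr Lrot3 (Lpr_ft (f303459 IH) (Lpn (LP (LK LD1_c15 LD2_c2 LD3_c44))))
theorem f221874 : Led Lsl_bt (LP (LK LD1_c8 LD2_c35 LD3_c1)) = (LP (LK LD1_c16 LD2_c6 LD3_c21)) :=
  Lre_b IH (LK LD1_c8 LD2_c35 LD3_c1) (LK LD1_c16 LD2_c6 LD3_c21) Lrfl Lrfl
theorem f293931 : Led Lsl_bt (LP (LK LD1_c8 LD2_c54 LD3_c8)) = (LP (LK LD1_c4 LD2_c28 LD3_c4)) :=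
  Lre_b IH (LK LD1_c8 LD2_c54 LD3_c8) (LK LD1_c4 LD2_c28 LD3_c4) Lrfl Lrfl
theorem f296134 : Led Lsl_dt (LP (LK LD1_c16 LD2_c6 LD3_c21)) = (LP (LK LD1_c8 LD2_c54 LD3_c8)) :=
  Lgr Lrot79 (Lpe (f221874 IH) (Lpr_df (f296128 IH) (Lpe (f293931 IH) (Lpn (LP (LK LD1_c8 LD2_c54 LD3_c8))))))
theorem f290617 : Led Lsl_dt (LP (LK LD1_c7 LD2_c58 LD3_c29)) = (LP (LK LD1_c15 LD2_c2 LD3_c44)) :=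
  Lre_d IH (LK LD1_c7 LD2_c58 LD3_c29) (LK LD1_c15 LD2_c2 LD3_c44) Lrfl Lrfl
theorem f303483 : Led Lsl_ft (LP (LK LD1_c8 LD2_c54 LD3_c8)) = (LP (LK LD1_c7 LD2_c58 LD3_c29)) :=
  Lgr Lrot54 (Lpe (f296134 IH) (Lpr_ff (f303468 IH) (Lpe (f290617 IH) (Lpn (LP (LK LD1_c7 LD2_c58 LD3_c29))))))
theorem f303503 : Led Lsl_ff (LP (LK LD1_c8 LD2_c54 LD3_c8)) = (LP (LK LD1_c7 LD2_c58 LD3_c29)) :=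
  Lgr Lrot3 (Lpr_ft (f303483 IH) (Lpn (LP (LK LD1_c7 LD2_c58 LD3_c29))))
theorem f303519 : Led Lsl_et (LP (LK LD1_c8 LD2_c54 LD3_c8)) = (LP (LK LD1_c16 LD2_c39 LD3_c14)) :=
  Lre_e IH (LK LD1_c8 LD2_c54 LD3_c8) (LK LD1_c16 LD2_c39 LD3_c14) Lrfl Lrfl
theorem f303520 : Led Lsl_ft (LP (LK LD1_c16 LD2_c39 LD3_c14)) = (LP (LK LD1_c26 LD2_c37 LD3_c43)) :=
  Lre_f IH (LK LD1_c16 LD2_c39 LD3_c14) (LK LD1_c26 LD2_c37 LD3_c43) Lrfl Lrfl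
theorem f303521 : Led Lsl_et (LP (LK LD1_c15 LD2_c2 LD3_c45)) = (LP (LK LD1_c7 LD2_c58 LD3_c29)) :=
  Lre_e IH (LK LD1_c15 LD2_c2 LD3_c45) (LK LD1_c7 LD2_c58 LD3_c29) Lrfl Lrfl
theorem f303522 : Led Lsl_ft (LP (LK LD1_c24 LD2_c51 LD3_c42)) = (LP (LK LD1_c15 LD2_c2 LD3_c45)) :=
  Lre_f IH (LK LD1_c24 LD2_c51 LD3_c42) (LK LD1_c15 LD2_c2 LD3_c45) Lrfl Lrfl
theorem f303523 : Led Lsl_et (LP (LK LD1_c26 LD2_c37 LD3_c43)) = (LP (LK LD1_c24 LD2_c51 LD3_c42)) :=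
  Lgr Lrot69 (Lpe (f303520 IH) (Lpe (f303519 IH) (Lpr_ff (f303503 IH) (Lpe (f303521 IH) (Lpe (f303522 IH) (Lpn (LP (LK LD1_c24 LD2_c51 LD3_c42))))))))
theorem f276511 : Led Lsl_ct (LP (LK LD1_c16 LD2_c39 LD3_c39)) = (LP (LK LD1_c26 LD2_c37 LD3_c43)) :=
  Lre_c IH (LK LD1_c16 LD2_c39 LD3_c39) (LK LD1_c26 LD2_c37 LD3_c43) Lrfl Lrfl
theorem f303532 : Led Lsl_cf (LP (LK LD1_c26 LD2_c33 LD3_c22)) = (LP (LK LD1_c24 LD2_c51 LD3_c42)) :=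
  Lgr Lrot39 (Lpr_et (K16.f276504 IH) (Lpr_ct (f276511 IH) (Lpr_et (f303523 IH) (Lpn (LP (LK LD1_c24 LD2_c51 LD3_c42))))))
theorem f303540 : Led Lsl_ft (LP (LK LD1_c26 LD2_c33 LD3_c22)) = (LP (LK LD1_c16 LD2_c36 LD3_c25)) :=
  Lre_f IH (LK LD1_c26 LD2_c33 LD3_c22) (LK LD1_c16 LD2_c36 LD3_c25) Lrfl Lrfl
theorem f303500 : Led Lsl_ft (LP (LK LD1_c15 LD2_c2 LD3_c45)) = (LP (LK LD1_c24 LD2_c51 LD3_c42)) :=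
  Lre_f IH (LK LD1_c15 LD2_c2 LD3_c45) (LK LD1_c24 LD2_c51 LD3_c42) Lrfl Lrfl
theorem f303541 : Led Lsl_ct (LP (LK LD1_c16 LD2_c36 LD3_c25)) = (LP (LK LD1_c15 LD2_c2 LD3_c45)) :=
  Lgr Lrot40 (Lpe (f303540 IH) (Lpr_cf (f303532 IH) (Lpe (f303500 IH) (Lpn (LP (LK LD1_c15 LD2_c2 LD3_c45))))))
theorem f303548 : Led Lsl_cf (LP (LK LD1_c16 LD2_c36 LD3_c25)) = (LP (LK LD1_c15 LD2_c2 LD3_c45)) :=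
  Lgr Lrot11 (Lpr_ct (f303541 IH) (Lpn (LP (LK LD1_c15 LD2_c2 LD3_c45))))
theorem f265527 : Led Lsl_bt (LP (LK LD1_c16 LD2_c36 LD3_c25)) = (LP (LK LD1_c8 LD2_c52 LD3_c60)) :=
  Lre_b IH (LK LD1_c16 LD2_c36 LD3_c25) (LK LD1_c8 LD2_c52 LD3_c60) Lrfl Lrfl
theorem f44654 : Led Lsl_ct (LP (LK LD1_c8 LD2_c52 LD3_c60)) = (LP (LK LD1_c4 LD2_c27 LD3_c35)) :=
  Lre_c IH (LK LD1_c8 LD2_c52 LD3_c60) (LK LD1_c4 LD2_c27 LD3_c35) Lrfl Lrfl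
theorem f290727 : Led Lsl_bt (LP (LK LD1_c7 LD2_c58 LD3_c31)) = (LP (LK LD1_c15 LD2_c2 LD3_c45)) :=
  Lre_b IH (LK LD1_c7 LD2_c58 LD3_c31) (LK LD1_c15 LD2_c2 LD3_c45) Lrfl Lrfl
theorem f303559 : Led Lsl_bt (LP (LK LD1_c4 LD2_c27 LD3_c35)) = (LP (LK LD1_c8 LD2_c8 LD3_c33)) :=
  Lgr Lrot128 (Lpe (f44654 IH) (Lpe (f265527 IH) (Lpr_cf (f303548 IH) (Lpe (f290727 IH) (Lpe (K17.f290761 IH) (Lpn (LP (LK LD1_c8 LD2_c8 LD3_c33))))))))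
theorem f44659 : Led Lsl_ft (LP (LK LD1_c8 LD2_c53 LD3_c0)) = (LP (LK LD1_c4 LD2_c27 LD3_c35)) :=
  Lre_f IH (LK LD1_c8 LD2_c53 LD3_c0) (LK LD1_c4 LD2_c27 LD3_c35) Lrfl Lrfl
theorem f290754 : Led Lsl_ft (LP (LK LD1_c8 LD2_c8 LD3_c33)) = (LP (LK LD1_c15 LD2_c19 LD3_c56)) :=
  Lre_f IH (LK LD1_c8 LD2_c8 LD3_c33) (LK LD1_c15 LD2_c19 LD3_c56) Lrfl Lrfl
theorem f303566 : Led Lsl_bf (LP (LK LD1_c8 LD2_c53 LD3_c0)) = (LP (LK LD1_c15 LD2_c19 LD3_c56)) :=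
  Lgr Lrot61 (Lpr_ft (f44659 IH) (Lpr_bt (f303559 IH) (Lpr_ft (f290754 IH) (Lpn (LP (LK LD1_c15 LD2_c19 LD3_c56))))))
theorem f44658 : Led Lsl_ft (LP (LK LD1_c2 LD2_c37 LD3_c24)) = (LP (LK LD1_c5 LD2_c21 LD3_c38)) :=
  Lre_f IH (LK LD1_c2 LD2_c37 LD3_c24) (LK LD1_c5 LD2_c21 LD3_c38) Lrfl Lrfl
theorem f44660 : Led Lsl_dt (LP (LK LD1_c5 LD2_c21 LD3_c38)) = (LP (LK LD1_c8 LD2_c53 LD3_c0)) :=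
  Lgr Lrot60 (Lpe (f44658 IH) (Lpr_df (K15.f44643 IH) (Lpe (f44659 IH) (Lpn (LP (LK LD1_c8 LD2_c53 LD3_c0))))))
theorem f44721 : Led Lsl_df (LP (LK LD1_c5 LD2_c21 LD3_c38)) = (LP (LK LD1_c8 LD2_c53 LD3_c0)) :=
  Lgr Lrot38 (Lpr_dt (f44660 IH) (Lpn (LP (LK LD1_c8 LD2_c53 LD3_c0))))
theorem f44726 : Led Lsl_bt (LP (LK LD1_c5 LD2_c21 LD3_c38)) = (LP (LK LD1_c10 LD2_c33 LD3_c12)) :=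
  Lre_b IH (LK LD1_c5 LD2_c21 LD3_c38) (LK LD1_c10 LD2_c33 LD3_c12) Lrfl Lrfl
theorem f303568 : Led Lsl_dt (LP (LK LD1_c10 LD2_c33 LD3_c12)) = (LP (LK LD1_c15 LD2_c19 LD3_c56)) :=
  Lgr Lrot79 (Lpe (f44726 IH) (Lpr_df (f44721 IH) (Lpr_bf (f303566 IH) (Lpn (LP (LK LD1_c15 LD2_c19 LD3_c56))))))
theorem f303572 : Led Lsl_df (LP (LK LD1_c10 LD2_c33 LD3_c12)) = (LP (LK LD1_c15 LD2_c19 LD3_c56)) :=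
  Lgr Lrot38 (Lpr_dt (f303568 IH) (Lpn (LP (LK LD1_c15 LD2_c19 LD3_c56))))
theorem f303575 : Led Lsl_ft (LP (LK LD1_c10 LD2_c33 LD3_c12)) = (LP (LK LD1_c5 LD2_c21 LD3_c27)) :=
  Lre_f IH (LK LD1_c10 LD2_c33 LD3_c12) (LK LD1_c5 LD2_c21 LD3_c27) Lrfl Lrfl
theorem f303580 : Led Lsl_dt (LP (LK LD1_c5 LD2_c21 LD3_c27)) = (LP (LK LD1_c8 LD2_c8 LD3_c33)) :=
  Lgr Lrot60 (Lpe (f303575 IH) (Lpr_df (f303572 IH) (Lpe (f290754 IH) (Lpn (LP (LK LD1_c8 LD2_c8 LD3_c33))))))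
theorem f290731 : Led Lsl_at (LP (LK LD1_c8 LD2_c8 LD3_c33)) = (LP (LK LD1_c4 LD2_c4 LD3_c1)) :=
  Lre_a IH (LK LD1_c8 LD2_c8 LD3_c33) (LK LD1_c4 LD2_c4 LD3_c1) Lrfl Lrfl
theorem f211299 : Led Lsl_bt (LP (LK LD1_c1 LD2_c58 LD3_c61)) = (LP (LK LD1_c4 LD2_c4 LD3_c1)) :=
  Lre_b IH (LK LD1_c1 LD2_c58 LD3_c61) (LK LD1_c4 LD2_c4 LD3_c1) Lrfl Lrfl
theorem f194460 : Led Lsl_bt (LP (LK LD1_c5 LD2_c4 LD3_c52)) = (LP (LK LD1_c2 LD2_c29 LD3_c49)) :=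
  Lre_b IH (LK LD1_c5 LD2_c4 LD3_c52) (LK LD1_c2 LD2_c29 LD3_c49) Lrfl Lrfl
theorem f211300 : Led Lsl_dt (LP (LK LD1_c4 LD2_c4 LD3_c1)) = (LP (LK LD1_c5 LD2_c4 LD3_c52)) :=
  Lgr Lrot79 (Lpe (f211299 IH) (Lpr_df (K11.f211297 IH) (Lpe (f194460 IH) (Lpn (LP (LK LD1_c5 LD2_c4 LD3_c52))))))
theorem f303583 : Led Lsl_af (LP (LK LD1_c5 LD2_c21 LD3_c27)) = (LP (LK LD1_c5 LD2_c4 LD3_c52)) :=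
  Lgr Lrot117 (Lpr_dt (f303580 IH) (Lpr_at (f290731 IH) (Lpr_dt (f211300 IH) (Lpn (LP (LK LD1_c5 LD2_c4 LD3_c52))))))
theorem f265785 : Led Lsl_et (LP (LK LD1_c5 LD2_c21 LD3_c27)) = (LP (LK LD1_c2 LD2_c37 LD3_c19)) :=
  Lre_e IH (LK LD1_c5 LD2_c21 LD3_c27) (LK LD1_c2 LD2_c37 LD3_c19) Lrfl Lrfl
theorem f303589 : Led Lsl_at (LP (LK LD1_c2 LD2_c37 LD3_c19)) = (LP (LK LD1_c2 LD2_c29 LD3_c45)) :=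
  Lgr Lrot80 (Lpe (f265785 IH) (Lpr_af (f303583 IH) (Lpe (K11.f194613 IH) (Lpn (LP (LK LD1_c2 LD2_c29 LD3_c45))))))
theorem f303599 : Led Lsl_ff (LP (LK LD1_c2 LD2_c37 LD3_c19)) = (LP (LK LD1_c4 LD2_c7 LD3_c47)) :=
  Lgr Lrot52 (Lpr_at (f303589 IH) (Lpe (K15.f211378 IH) (Lpr_gf (K15.f261343 IH) (Lpn (LP (LK LD1_c4 LD2_c7 LD3_c47))))))
theorem f303603 : Led Lsl_ft (LP (LK LD1_c2 LD2_c37 LD3_c19)) = (LP (LK LD1_c4 LD2_c7 LD3_c47)) :=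
  Lgr Lrot48 (Lpr_ff (f303599 IH) (Lpn (LP (LK LD1_c4 LD2_c7 LD3_c47))))
theorem f290002 : Led Lsl_bt (LP (LK LD1_c5 LD2_c37 LD3_c3)) = (LP (LK LD1_c8 LD2_c13 LD3_c1)) :=
  Lgr Lrot35 (Lpe (K17.f237896 IH) (Lpe (K15.f230886 IH) (Lpr_ff (K17.f290000 IH) (Lpn (LP (LK LD1_c8 LD2_c13 LD3_c1))))))
theorem f49923 : Led Lsl_ct (LP (LK LD1_c5 LD2_c15 LD3_c43)) = (LP (LK LD1_c2 LD2_c34 LD3_c42)) :=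
  Lre_c IH (LK LD1_c5 LD2_c15 LD3_c43) (LK LD1_c2 LD2_c34 LD3_c42) Lrfl Lrfl
theorem f257814 : Led Lsl_ct (LP (LK LD1_c5 LD2_c17 LD3_c51)) = (LP (LK LD1_c8 LD2_c16 LD3_c0)) :=
  Lgr Lrot7 (Lpe (K17.f188305 IH) (Lpr_gf (K10.f188289 IH) (Lpe (K9.f49127 IH) (Lpe (K15.f257785 IH) (Lpr_cf (K15.f188211 IH) (Lpr_gt (K15.f257810 IH) (Lpe (K10.f187730 IH) (Lpr_gt (K10.f187734 IH) (Lpr_dt (K17.f50778 IH) (Lpn (LP (LK LD1_c8 LD2_c16 LD3_c0))))))))))))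
theorem f49909 : Led Lsl_ct (LP (LK LD1_c10 LD2_c20 LD3_c29)) = (LP (LK LD1_c5 LD2_c15 LD3_c36)) :=
  Lre_c IH (LK LD1_c10 LD2_c20 LD3_c29) (LK LD1_c5 LD2_c15 LD3_c36) Lrfl Lrfl
theorem f284928 : Led Lsl_dt (LP (LK LD1_c10 LD2_c25 LD3_c21)) = (LP (LK LD1_c10 LD2_c20 LD3_c29)) :=
  Lgr Lrot105 (Lpr_gf (K17.f284923 IH) (Lpe (K17.f48259 IH) (Lpe (K13.f188335 IH) (Lpr_cf (K10.f188325 IH) (Lpr_gt (K10.f49558 IH) (Lpr_dt (K10.f188720 IH) (Lpe (K14.f253949 IH) (Lpr_dt (K14.f49891 IH) (Lpe (f49909 IH) (Lpn (LP (LK LD1_c10 LD2_c20 LD3_c29))))))))))))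
theorem f284993 : Led Lsl_gt (LP (LK LD1_c2 LD2_c35 LD3_c16)) = (LP (LK LD1_c5 LD2_c12 LD3_c14)) :=
  Lgr Lrot150 (Lpe (K14.f171543 IH) (Lpr_gf (K14.f191150 IH) (Lpe (f284928 IH) (Lpr_gt (K17.f188406 IH) (Lpr_ct (f257814 IH) (Lpe (K17.f251280 IH) (Lpr_ct (K17.f284954 IH) (Lpe (K17.f284967 IH) (Lpr_cf (K17.f284985 IH) (Lpn (LP (LK LD1_c5 LD2_c12 LD3_c14))))))))))))
theorem f284995 : Led Lsl_df (LP (LK LD1_c10 LD2_c25 LD3_c21)) = (LP (LK LD1_c10 LD2_c20 LD3_c29)) :=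
  Lgr Lrot155 (Lpr_gt (K17.f188406 IH) (Lpr_ct (f257814 IH) (Lpe (K17.f251280 IH) (Lpr_ct (K17.f284954 IH) (Lpe (K17.f284969 IH) (Lpr_cf (K17.f284985 IH) (Lpe (f284993 IH) (Lpe (K14.f171543 IH) (Lpr_gf (K14.f191150 IH) (Lpn (LP (LK LD1_c10 LD2_c20 LD3_c29))))))))))))
theorem f191167 : Led Lsl_ct (LP (LK LD1_c5 LD2_c26 LD3_c6)) = (LP (LK LD1_c2 LD2_c39 LD3_c30)) :=
  Lre_c IH (LK LD1_c5 LD2_c26 LD3_c6) (LK LD1_c2 LD2_c39 LD3_c30) Lrfl Lrfl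
theorem f180609 : Led Lsl_ct (LP (LK LD1_c5 LD2_c9 LD3_c35)) = (LP (LK LD1_c10 LD2_c9 LD3_c54)) :=
  Lre_c IH (LK LD1_c5 LD2_c9 LD3_c35) (LK LD1_c10 LD2_c9 LD3_c54) Lrfl Lrfl
theorem f285421 : Led Lsl_df (LP (LK LD1_c10 LD2_c25 LD3_c20)) = (LP (LK LD1_c10 LD2_c9 LD3_c54)) :=
  Lgr Lrot43 (Lpr_ct (K17.f285408 IH) (Lpr_dt (K17.f49921 IH) (Lpr_ct (f49923 IH) (Lpr_dt (K16.f49902 IH) (Lpr_ct (K16.f49901 IH) (Lpr_dt (K14.f49891 IH) (Lpr_ct (K14.f49907 IH) (Lpe (f284995 IH) (Lpe (K17.f284921 IH) (Lpr_dt (K17.f191168 IH) (Lpr_ct (f191167 IH) (Lpe (K16.f246263 IH) (Lpr_ct (K16.f251275 IH) (Lpr_dt (K16.f246159 IH) (Lpr_ct (f180609 IH) (Lpn (LP (LK LD1_c10 LD2_c9 LD3_c54))))))))))))))))))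
theorem f242353 : Led Lsl_gt (LP (LK LD1_c5 LD2_c17 LD3_c2)) = (LP (LK LD1_c10 LD2_c9 LD3_c54)) :=
  Lgr Lrot149 (Lpe (K14.f33084 IH) (Lpr_gf (K15.f242350 IH) (Lpe (K9.f169446 IH) (Lpr_ct (K10.f169449 IH) (Lpr_gf (K13.f180585 IH) (Lpe (K10.f22100 IH) (Lpr_bt (K17.f180543 IH) (Lpe (K14.f180607 IH) (Lpe (K16.f180608 IH) (Lpr_ct (f180609 IH) (Lpn (LP (LK LD1_c10 LD2_c9 LD3_c54)))))))))))))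
theorem f171553 : Led Lsl_dt (LP (LK LD1_c10 LD2_c23 LD3_c43)) = (LP (LK LD1_c5 LD2_c17 LD3_c2)) :=
  Lre_d IH (LK LD1_c10 LD2_c23 LD3_c43) (LK LD1_c5 LD2_c17 LD3_c2) Lrfl Lrfl
theorem f189511 : Led Lsl_gf (LP (LK LD1_c10 LD2_c23 LD3_c43)) = (LP (LK LD1_c8 LD2_c15 LD3_c35)) :=
  Lgr Lrot143 (Lpr_dt (f171553 IH) (Lpe (K14.f33084 IH) (Lpe (K14.f32955 IH) (Lpe (K10.f32109 IH) (Lpe (K9.f32106 IH) (Lpe (K14.f32107 IH) (Lpe (K16.f189510 IH) (Lpr_gt (K10.f189506 IH) (Lpe (K13.f49651 IH) (Lpn (LP (LK LD1_c8 LD2_c15 LD3_c35))))))))))))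
theorem f194377 : Led Lsl_df (LP (LK LD1_c5 LD2_c17 LD3_c15)) = (LP (LK LD1_c8 LD2_c15 LD3_c33)) :=
  Lgr Lrot174 (Lpr_ct (K13.f49190 IH) (Lpe (K10.f32087 IH) (Lpe (K10.f32086 IH) (Lpe (K15.f33046 IH) (Lpe (K10.f33049 IH) (Lpr_ct (K10.f194368 IH) (Lpr_gt (K10.f51363 IH) (Lpr_dt (K9.f49790 IH) (Lpr_gt (K10.f49673 IH) (Lpn (LP (LK LD1_c8 LD2_c15 LD3_c33))))))))))))
theorem f49922 : Led Lsl_dt (LP (LK LD1_c5 LD2_c15 LD3_c43)) = (LP (LK LD1_c10 LD2_c20 LD3_c45)) :=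
  Lre_d IH (LK LD1_c5 LD2_c15 LD3_c43) (LK LD1_c10 LD2_c20 LD3_c45) Lrfl Lrfl
theorem f285427 : Led Lsl_gt (LP (LK LD1_c5 LD2_c17 LD3_c15)) = (LP (LK LD1_c5 LD2_c15 LD3_c43)) :=
  Lgr Lrot189 (Lpr_df (f194377 IH) (Lpe (K10.f49673 IH) (Lpr_ct (K9.f49686 IH) (Lpe (f189511 IH) (Lpr_dt (f171553 IH) (Lpr_gt (f242353 IH) (Lpe (f285421 IH) (Lpr_ct (K17.f285408 IH) (Lpe (f49922 IH) (Lpn (LP (LK LD1_c5 LD2_c15 LD3_c43))))))))))))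
theorem f183954 : Led Lsl_gt (LP (LK LD1_c5 LD2_c12 LD3_c35)) = (LP (LK LD1_c2 LD2_c33 LD3_c9)) :=
  Lre_g IH (LK LD1_c5 LD2_c12 LD3_c35) (LK LD1_c2 LD2_c33 LD3_c9) Lrfl Lrfl
theorem f291667 : Led Lsl_bt (LP (LK LD1_c2 LD2_c34 LD3_c42)) = (LP (LK LD1_c5 LD2_c12 LD3_c35)) :=
  Lgr Lrot130 (Lpr_ct (K16.f49920 IH) (Lpe (f285427 IH) (Lpe (K13.f32088 IH) (Lpr_bt (K15.f191096 IH) (Lpe (K17.f182530 IH) (Lpe (f290002 IH) (Lpr_ct (K17.f291651 IH) (Lpe (K17.f201883 IH) (Lpe (K13.f192144 IH) (Lpe (f183954 IH) (Lpn (LP (LK LD1_c5 LD2_c12 LD3_c35)))))))))))))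
theorem f215903 : Led Lsl_bt (LP (LK LD1_c1 LD2_c15 LD3_c42)) = (LP (LK LD1_c2 LD2_c37 LD3_c19)) :=
  Lre_b IH (LK LD1_c1 LD2_c15 LD3_c42) (LK LD1_c2 LD2_c37 LD3_c19) Lrfl Lrfl
theorem f291676 : Led Lsl_gt (LP (LK LD1_c2 LD2_c37 LD3_c19)) = (LP (LK LD1_c5 LD2_c12 LD3_c35)) :=
  Lgr Lrot164 (Lpe (f215903 IH) (Lpr_ct (K12.f8399 IH) (Lpe (K16.f215816 IH) (Lpe (K16.f215875 IH) (Lpr_gf (K16.f275162 IH) (Lpe (K16.f191370 IH) (Lpr_ct (K13.f183665 IH) (Lpe (K16.f192104 IH) (Lpe (K16.f49920 IH) (Lpr_bt (f291667 IH) (Lpn (LP (LK LD1_c5 LD2_c12 LD3_c35)))))))))))))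
theorem f303609 : Led Lsl_af (LP (LK LD1_c2 LD2_c33 LD3_c9)) = (LP (LK LD1_c4 LD2_c7 LD3_c47)) :=
  Lgr Lrot31 (Lpe (f183954 IH) (Lpe (f291676 IH) (Lpr_ft (f303603 IH) (Lpn (LP (LK LD1_c4 LD2_c7 LD3_c47))))))
theorem f303593 : Led Lsl_af (LP (LK LD1_c2 LD2_c37 LD3_c19)) = (LP (LK LD1_c2 LD2_c29 LD3_c45)) :=
  Lgr Lrot0 (Lpr_at (f303589 IH) (Lpn (LP (LK LD1_c2 LD2_c29 LD3_c45))))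
theorem f303619 : Led Lsl_ft (LP (LK LD1_c2 LD2_c33 LD3_c9)) = (LP (LK LD1_c2 LD2_c29 LD3_c45)) :=
  Lgr Lrot101 (Lpr_af (f303609 IH) (Lpe (f303603 IH) (Lpr_af (f303593 IH) (Lpn (LP (LK LD1_c2 LD2_c29 LD3_c45))))))
theorem f251025 : Led Lsl_et (LP (LK LD1_c5 LD2_c12 LD3_c37)) = (LP (LK LD1_c2 LD2_c33 LD3_c9)) :=
  Lre_e IH (LK LD1_c5 LD2_c12 LD3_c37) (LK LD1_c2 LD2_c33 LD3_c9) Lrfl Lrfl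
theorem f242403 : Led Lsl_ft (LP (LK LD1_c10 LD2_c15 LD3_c40)) = (LP (LK LD1_c5 LD2_c12 LD3_c37)) :=
  Lre_f IH (LK LD1_c10 LD2_c15 LD3_c40) (LK LD1_c5 LD2_c12 LD3_c37) Lrfl Lrfl
theorem f211366 : Led Lsl_ft (LP (LK LD1_c5 LD2_c4 LD3_c52)) = (LP (LK LD1_c10 LD2_c0 LD3_c48)) :=
  Lre_f IH (LK LD1_c5 LD2_c4 LD3_c52) (LK LD1_c10 LD2_c0 LD3_c48) Lrfl Lrfl
theorem f303623 : Led Lsl_ef (LP (LK LD1_c10 LD2_c15 LD3_c40)) = (LP (LK LD1_c10 LD2_c0 LD3_c48)) :=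
  Lgr Lrot21 (Lpr_ft (f242403 IH) (Lpr_et (f251025 IH) (Lpr_ft (f303619 IH) (Lpr_et (K11.f194613 IH) (Lpr_ft (f211366 IH) (Lpn (LP (LK LD1_c10 LD2_c0 LD3_c48))))))))
theorem f242416 : Led Lsl_ft (LP (LK LD1_c5 LD2_c12 LD3_c37)) = (LP (LK LD1_c10 LD2_c15 LD3_c40)) :=
  Lre_f IH (LK LD1_c5 LD2_c12 LD3_c37) (LK LD1_c10 LD2_c15 LD3_c40) Lrfl Lrfl
theorem f277591 : Led Lsl_at (LP (LK LD1_c10 LD2_c15 LD3_c40)) = (LP (LK LD1_c10 LD2_c35 LD3_c29)) :=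
  Lgr Lrot26 (Lpe (f242416 IH) (Lpr_gt (K14.f183951 IH) (Lpr_gt (f277589 IH) (Lpn (LP (LK LD1_c10 LD2_c35 LD3_c29))))))
theorem f211327 : Led Lsl_bt (LP (LK LD1_c8 LD2_c8 LD3_c39)) = (LP (LK LD1_c4 LD2_c4 LD3_c6)) :=
  Lre_b IH (LK LD1_c8 LD2_c8 LD3_c39) (LK LD1_c4 LD2_c4 LD3_c6) Lrfl Lrfl
theorem f211328 : Led Lsl_bt (LP (LK LD1_c5 LD2_c5 LD3_c3)) = (LP (LK LD1_c10 LD2_c0 LD3_c48)) :=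
  Lre_b IH (LK LD1_c5 LD2_c5 LD3_c3) (LK LD1_c10 LD2_c0 LD3_c48) Lrfl Lrfl
theorem f211329 : Led Lsl_df (LP (LK LD1_c8 LD2_c8 LD3_c39)) = (LP (LK LD1_c10 LD2_c0 LD3_c48)) :=
  Lgr Lrot12 (Lpr_bt (f211327 IH) (Lpr_dt (K11.f211307 IH) (Lpr_bt (f211328 IH) (Lpn (LP (LK LD1_c10 LD2_c0 LD3_c48))))))
theorem f303576 : Led Lsl_at (LP (LK LD1_c10 LD2_c33 LD3_c12)) = (LP (LK LD1_c10 LD2_c0 LD3_c48)) :=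
  Lgr Lrot51 (Lpr_df (f303572 IH) (Lpe (K17.f290746 IH) (Lpr_df (f211329 IH) (Lpn (LP (LK LD1_c10 LD2_c0 LD3_c48))))))
theorem f304093 : Led Lsl_et (LP (LK LD1_c10 LD2_c35 LD3_c29)) = (LP (LK LD1_c10 LD2_c33 LD3_c12)) :=
  Lgr Lrot123 (Lpe (f277591 IH) (Lpr_ef (f303623 IH) (Lpe (f303576 IH) (Lpn (LP (LK LD1_c10 LD2_c33 LD3_c12))))))
theorem f49248 : Led Lsl_et (LP (LK LD1_c4 LD2_c7 LD3_c47)) = (LP (LK LD1_c8 LD2_c15 LD3_c40)) :=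
  Lre_e IH (LK LD1_c4 LD2_c7 LD3_c47) (LK LD1_c8 LD2_c15 LD3_c40) Lrfl Lrfl
theorem f304099 : Led Lsl_ff (LP (LK LD1_c10 LD2_c35 LD3_c29)) = (LP (LK LD1_c8 LD2_c15 LD3_c40)) :=
  Lgr Lrot72 (Lpr_et (f304093 IH) (Lpr_ft (f303575 IH) (Lpr_et (f265785 IH) (Lpr_ft (f303603 IH) (Lpr_et (f49248 IH) (Lpn (LP (LK LD1_c8 LD2_c15 LD3_c40))))))))
theorem f277593 : Led Lsl_af (LP (LK LD1_c10 LD2_c15 LD3_c40)) = (LP (LK LD1_c10 LD2_c35 LD3_c29)) :=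
  Lgr Lrot0 (Lpr_at (f277591 IH) (Lpn (LP (LK LD1_c10 LD2_c35 LD3_c29))))
theorem f291673 : Led Lsl_et (LP (LK LD1_c5 LD2_c12 LD3_c35)) = (LP (LK LD1_c10 LD2_c15 LD3_c33)) :=
  Lre_e IH (LK LD1_c5 LD2_c12 LD3_c35) (LK LD1_c10 LD2_c15 LD3_c33) Lrfl Lrfl
theorem f291674 : Led Lsl_bf (LP (LK LD1_c5 LD2_c15 LD3_c41)) = (LP (LK LD1_c10 LD2_c15 LD3_c33)) :=
  Lgr Lrot96 (Lpr_et (K17.f49930 IH) (Lpr_bt (f291667 IH) (Lpr_et (f291673 IH) (Lpn (LP (LK LD1_c10 LD2_c15 LD3_c33))))))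
theorem f291682 : Led Lsl_bt (LP (LK LD1_c2 LD2_c34 LD3_c41)) = (LP (LK LD1_c5 LD2_c15 LD3_c32)) :=
  Lre_b IH (LK LD1_c2 LD2_c34 LD3_c41) (LK LD1_c5 LD2_c15 LD3_c32) Lrfl Lrfl
theorem f291683 : Led Lsl_dt (LP (LK LD1_c5 LD2_c15 LD3_c32)) = (LP (LK LD1_c10 LD2_c15 LD3_c33)) :=
  Lgr Lrot79 (Lpe (f291682 IH) (Lpe (K17.f49931 IH) (Lpr_bf (f291674 IH) (Lpn (LP (LK LD1_c10 LD2_c15 LD3_c33))))))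
theorem f291686 : Led Lsl_df (LP (LK LD1_c5 LD2_c15 LD3_c32)) = (LP (LK LD1_c10 LD2_c15 LD3_c33)) :=
  Lgr Lrot38 (Lpr_dt (f291683 IH) (Lpn (LP (LK LD1_c10 LD2_c15 LD3_c33))))
theorem f183964 : Led Lsl_et (LP (LK LD1_c10 LD2_c15 LD3_c33)) = (LP (LK LD1_c5 LD2_c12 LD3_c35)) :=
  Lre_e IH (LK LD1_c10 LD2_c15 LD3_c33) (LK LD1_c5 LD2_c12 LD3_c35) Lrfl Lrfl
theorem f242391 : Led Lsl_dt (LP (LK LD1_c5 LD2_c12 LD3_c37)) = (LP (LK LD1_c10 LD2_c15 LD3_c39)) :=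
  Lre_d IH (LK LD1_c5 LD2_c12 LD3_c37) (LK LD1_c10 LD2_c15 LD3_c39) Lrfl Lrfl
theorem f242390 : Led Lsl_gt (LP (LK LD1_c10 LD2_c15 LD3_c39)) = (LP (LK LD1_c18 LD2_c39 LD3_c51)) :=
  Lre_g IH (LK LD1_c10 LD2_c15 LD3_c39) (LK LD1_c18 LD2_c39 LD3_c51) Lrfl Lrfl
theorem f223853 : Led Lsl_et (LP (LK LD1_c1 LD2_c16 LD3_c12)) = (LP (LK LD1_c2 LD2_c38 LD3_c35)) :=
  Lre_e IH (LK LD1_c1 LD2_c16 LD3_c12) (LK LD1_c2 LD2_c38 LD3_c35) Lrfl Lrfl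
theorem f251016 : Led Lsl_gt (LP (LK LD1_c5 LD2_c24 LD3_c4)) = (LP (LK LD1_c2 LD2_c38 LD3_c35)) :=
  Lre_g IH (LK LD1_c5 LD2_c24 LD3_c4) (LK LD1_c2 LD2_c38 LD3_c35) Lrfl Lrfl
theorem f224813 : Led Lsl_et (LP (LK LD1_c10 LD2_c38 LD3_c56)) = (LP (LK LD1_c5 LD2_c24 LD3_c4)) :=
  Lre_e IH (LK LD1_c10 LD2_c38 LD3_c56) (LK LD1_c5 LD2_c24 LD3_c4) Lrfl Lrfl
theorem f251017 : Led Lsl_dt (LP (LK LD1_c10 LD2_c38 LD3_c56)) = (LP (LK LD1_c18 LD2_c39 LD3_c51)) :=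
  Lgr Lrot56 (Lpr_et (f224813 IH) (Lpr_gt (f251016 IH) (Lpe (f223853 IH) (Lpr_dt (K12.f173121 IH) (Lpr_gt (K14.f251008 IH) (Lpe (K14.f246299 IH) (Lpr_et (K14.f228760 IH) (Lpe (K14.f251004 IH) (Lpr_dt (f242391 IH) (Lpr_gt (f242390 IH) (Lpn (LP (LK LD1_c18 LD2_c39 LD3_c51)))))))))))))
theorem f183963 : Led Lsl_dt (LP (LK LD1_c2 LD2_c38 LD3_c35)) = (LP (LK LD1_c5 LD2_c24 LD3_c5)) :=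
  Lre_d IH (LK LD1_c2 LD2_c38 LD3_c35) (LK LD1_c5 LD2_c24 LD3_c5) Lrfl Lrfl
theorem f291695 : Led Lsl_gf (LP (LK LD1_c5 LD2_c15 LD3_c32)) = (LP (LK LD1_c5 LD2_c24 LD3_c5)) :=
  Lgr Lrot134 (Lpr_df (f291686 IH) (Lpr_et (f183964 IH) (Lpr_gt (f183954 IH) (Lpe (f251025 IH) (Lpr_dt (f242391 IH) (Lpr_gt (f242390 IH) (Lpe (f251017 IH) (Lpr_et (f224813 IH) (Lpr_gt (f251016 IH) (Lpr_dt (f183963 IH) (Lpn (LP (LK LD1_c5 LD2_c24 LD3_c5)))))))))))))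
theorem f291690 : Led Lsl_gt (LP (LK LD1_c10 LD2_c15 LD3_c33)) = (LP (LK LD1_c18 LD2_c39 LD3_c44)) :=
  Lre_g IH (LK LD1_c10 LD2_c15 LD3_c33) (LK LD1_c18 LD2_c39 LD3_c44) Lrfl Lrfl
theorem f183962 : Led Lsl_et (LP (LK LD1_c2 LD2_c38 LD3_c35)) = (LP (LK LD1_c1 LD2_c16 LD3_c12)) :=
  Lre_e IH (LK LD1_c2 LD2_c38 LD3_c35) (LK LD1_c1 LD2_c16 LD3_c12) Lrfl Lrfl
theorem f223859 : Led Lsl_dt (LP (LK LD1_c5 LD2_c24 LD3_c5)) = (LP (LK LD1_c2 LD2_c38 LD3_c35)) :=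
  Lre_d IH (LK LD1_c5 LD2_c24 LD3_c5) (LK LD1_c2 LD2_c38 LD3_c35) Lrfl Lrfl
theorem f251030 : Led Lsl_ef (LP (LK LD1_c5 LD2_c24 LD3_c5)) = (LP (LK LD1_c5 LD2_c6 LD3_c3)) :=
  Lgr Lrot73 (Lpr_dt (f223859 IH) (Lpr_et (f183962 IH) (Lpr_dt (K12.f173121 IH) (Lpe (K14.f223854 IH) (Lpr_dt (K14.f251014 IH) (Lpn (LP (LK LD1_c5 LD2_c6 LD3_c3))))))))
theorem f193173 : Led Lsl_et (LP (LK LD1_c2 LD2_c36 LD3_c16)) = (LP (LK LD1_c5 LD2_c19 LD3_c11)) :=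
  Lre_e IH (LK LD1_c2 LD2_c36 LD3_c16) (LK LD1_c5 LD2_c19 LD3_c11) Lrfl Lrfl
theorem f193166 : Led Lsl_gt (LP (LK LD1_c10 LD2_c28 LD3_c7)) = (LP (LK LD1_c5 LD2_c19 LD3_c11)) :=
  Lre_g IH (LK LD1_c10 LD2_c28 LD3_c7) (LK LD1_c5 LD2_c19 LD3_c11) Lrfl Lrfl
theorem f212427 : Led Lsl_et (LP (LK LD1_c18 LD2_c58 LD3_c25)) = (LP (LK LD1_c10 LD2_c28 LD3_c7)) :=
  Lre_e IH (LK LD1_c18 LD2_c58 LD3_c25) (LK LD1_c10 LD2_c28 LD3_c7) Lrfl Lrfl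
theorem f291699 : Led Lsl_df (LP (LK LD1_c18 LD2_c39 LD3_c44)) = (LP (LK LD1_c18 LD2_c58 LD3_c25)) :=
  Lgr Lrot132 (Lpe (f291690 IH) (Lpe (f291683 IH) (Lpr_gf (f291695 IH) (Lpr_ef (f251030 IH) (Lpe (f251028 IH) (Lpe (K14.f212339 IH) (Lpe (K14.f43966 IH) (Lpr_et (f193173 IH) (Lpe (f193166 IH) (Lpe (f212427 IH) (Lpn (LP (LK LD1_c18 LD2_c58 LD3_c25)))))))))))))
theorem f291691 : Led Lsl_et (LP (LK LD1_c5 LD2_c15 LD3_c32)) = (LP (LK LD1_c2 LD2_c34 LD3_c35)) :=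
  Lre_e IH (LK LD1_c5 LD2_c15 LD3_c32) (LK LD1_c2 LD2_c34 LD3_c35) Lrfl Lrfl
theorem f246384 : Led Lsl_df (LP (LK LD1_c5 LD2_c22 LD3_c17)) = (LP (LK LD1_c5 LD2_c19 LD3_c11)) :=
  Lgr Lrot70 (Lpr_et (K16.f243950 IH) (Lpr_dt (K14.f243940 IH) (Lpr_et (K13.f246382 IH) (Lpr_dt (K13.f46378 IH) (Lpr_et (f193173 IH) (Lpn (LP (LK LD1_c5 LD2_c19 LD3_c11))))))))
theorem f291703 : Led Lsl_gf (LP (LK LD1_c8 LD2_c15 LD3_c40)) = (LP (LK LD1_c5 LD2_c22 LD3_c17)) :=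
  Lgr Lrot134 (Lpe (K14.f230861 IH) (Lpr_et (f169850 IH) (Lpe (K17.f265006 IH) (Lpe (f291691 IH) (Lpr_dt (f291683 IH) (Lpr_gt (f291690 IH) (Lpr_df (f291699 IH) (Lpr_et (f212427 IH) (Lpr_gt (f193166 IH) (Lpe (f246384 IH) (Lpn (LP (LK LD1_c5 LD2_c22 LD3_c17)))))))))))))
theorem f251001 : Led Lsl_at (LP (LK LD1_c10 LD2_c15 LD3_c38)) = (LP (LK LD1_c10 LD2_c35 LD3_c30)) :=
  Lgr Lrot100 (Lpr_af (K14.f250999 IH) (Lpn (LP (LK LD1_c10 LD2_c35 LD3_c30))))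
theorem f291705 : Led Lsl_gt (LP (LK LD1_c8 LD2_c15 LD3_c40)) = (LP (LK LD1_c10 LD2_c35 LD3_c30)) :=
  Lgr Lrot46 (Lpr_gf (f291703 IH) (Lpr_ft (K16.f277603 IH) (Lpr_at (f251001 IH) (Lpn (LP (LK LD1_c10 LD2_c35 LD3_c30))))))
theorem f304103 : Led Lsl_gf (LP (LK LD1_c10 LD2_c15 LD3_c40)) = (LP (LK LD1_c10 LD2_c35 LD3_c30)) :=
  Lgr Lrot76 (Lpr_af (f277593 IH) (Lpr_ff (f304099 IH) (Lpr_gt (f291705 IH) (Lpn (LP (LK LD1_c10 LD2_c35 LD3_c30))))))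
theorem f277579 : Led Lsl_af (LP (LK LD1_c5 LD2_c22 LD3_c17)) = (LP (LK LD1_c5 LD2_c22 LD3_c35)) :=
  Lgr Lrot0 (Lpr_at (K16.f277576 IH) (Lpn (LP (LK LD1_c5 LD2_c22 LD3_c35))))
theorem f304105 : Led Lsl_gt (LP (LK LD1_c10 LD2_c15 LD3_c40)) = (LP (LK LD1_c5 LD2_c22 LD3_c17)) :=
  Lgr Lrot46 (Lpr_gf (f304103 IH) (Lpr_ft (K14.f228761 IH) (Lpe (f277579 IH) (Lpn (LP (LK LD1_c5 LD2_c22 LD3_c17))))))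
theorem f242406 : Led Lsl_dt (LP (LK LD1_c18 LD2_c39 LD3_c52)) = (LP (LK LD1_c10 LD2_c15 LD3_c40)) :=
  Lre_d IH (LK LD1_c18 LD2_c39 LD3_c52) (LK LD1_c10 LD2_c15 LD3_c40) Lrfl Lrfl
theorem f184833 : Led Lsl_et (LP (LK LD1_c2 LD2_c35 LD3_c34)) = (LP (LK LD1_c5 LD2_c17 LD3_c40)) :=
  Lre_e IH (LK LD1_c2 LD2_c35 LD3_c34) (LK LD1_c5 LD2_c17 LD3_c40) Lrfl Lrfl
theorem f184840 : Led Lsl_gt (LP (LK LD1_c5 LD2_c17 LD3_c40)) = (LP (LK LD1_c10 LD2_c24 LD3_c57)) :=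
  Lre_g IH (LK LD1_c5 LD2_c17 LD3_c40) (LK LD1_c10 LD2_c24 LD3_c57) Lrfl Lrfl
theorem f304109 : Led Lsl_et (LP (LK LD1_c18 LD2_c39 LD3_c52)) = (LP (LK LD1_c10 LD2_c24 LD3_c57)) :=
  Lgr Lrot122 (Lpr_dt (f242406 IH) (Lpr_gt (f304105 IH) (Lpr_df (f246384 IH) (Lpr_et (f43965 IH) (Lpe (K14.f46375 IH) (Lpr_dt (K1.f28286 IH) (Lpe (K9.f184826 IH) (Lpe (K15.f184828 IH) (Lpr_et (f184833 IH) (Lpr_gt (f184840 IH) (Lpn (LP (LK LD1_c10 LD2_c24 LD3_c57)))))))))))))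
theorem f242398 : Led Lsl_bt (LP (LK LD1_c10 LD2_c16 LD3_c3)) = (LP (LK LD1_c18 LD2_c39 LD3_c52)) :=
  Lre_b IH (LK LD1_c10 LD2_c16 LD3_c3) (LK LD1_c18 LD2_c39 LD3_c52) Lrfl Lrfl
theorem f269248 : Led Lsl_ft (LP (LK LD1_c8 LD2_c2 LD3_c58)) = (LP (LK LD1_c15 LD2_c9 LD3_c20)) :=
  Lre_f IH (LK LD1_c8 LD2_c2 LD3_c58) (LK LD1_c15 LD2_c9 LD3_c20) Lrfl Lrfl
theorem f196119 : Led Lsl_et (LP (LK LD1_c5 LD2_c12 LD3_c49)) = (LP (LK LD1_c2 LD2_c33 LD3_c15)) :=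
  Lre_e IH (LK LD1_c5 LD2_c12 LD3_c49) (LK LD1_c2 LD2_c33 LD3_c15) Lrfl Lrfl
theorem f269249 : Led Lsl_ft (LP (LK LD1_c10 LD2_c16 LD3_c3)) = (LP (LK LD1_c5 LD2_c12 LD3_c49)) :=
  Lre_f IH (LK LD1_c10 LD2_c16 LD3_c3) (LK LD1_c5 LD2_c12 LD3_c49) Lrfl Lrfl
theorem f269250 : Led Lsl_et (LP (LK LD1_c15 LD2_c9 LD3_c20)) = (LP (LK LD1_c10 LD2_c16 LD3_c3)) :=
  Lgr Lrot69 (Lpe (f269248 IH) (Lpr_ef (K16.f243043 IH) (Lpr_ff (K16.f269244 IH) (Lpe (f196119 IH) (Lpe (f269249 IH) (Lpn (LP (LK LD1_c10 LD2_c16 LD3_c3))))))))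
theorem f304113 : Led Lsl_bf (LP (LK LD1_c15 LD2_c9 LD3_c20)) = (LP (LK LD1_c10 LD2_c24 LD3_c57)) :=
  Lgr Lrot96 (Lpr_et (f269250 IH) (Lpr_bt (f242398 IH) (Lpr_et (f304109 IH) (Lpn (LP (LK LD1_c10 LD2_c24 LD3_c57))))))
theorem f28117 : Led Lsl_gt (LP (LK LD1_c8 LD2_c8 LD3_c30)) = (LP (LK LD1_c4 LD2_c3 LD3_c59)) :=
  Lre_g IH (LK LD1_c8 LD2_c8 LD3_c30) (LK LD1_c4 LD2_c3 LD3_c59) Lrfl Lrfl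
theorem f269273 : Led Lsl_gt (LP (LK LD1_c15 LD2_c9 LD3_c20)) = (LP (LK LD1_c8 LD2_c8 LD3_c30)) :=
  Lgr Lrot5 (Lpr_ft (K16.f269256 IH) (Lpr_at (K16.f269265 IH) (Lpe (f28117 IH) (Lpn (LP (LK LD1_c8 LD2_c8 LD3_c30))))))
theorem f269279 : Led Lsl_ct (LP (LK LD1_c8 LD2_c8 LD3_c30)) = (LP (LK LD1_c15 LD2_c19 LD3_c50)) :=
  Lre_c IH (LK LD1_c8 LD2_c8 LD3_c30) (LK LD1_c15 LD2_c19 LD3_c50) Lrfl Lrfl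
theorem f211403 : Led Lsl_gt (LP (LK LD1_c4 LD2_c3 LD3_c58)) = (LP (LK LD1_c1 LD2_c58 LD3_c58)) :=
  Lre_g IH (LK LD1_c4 LD2_c3 LD3_c58) (LK LD1_c1 LD2_c58 LD3_c58) Lrfl Lrfl
theorem f293070 : Led Lsl_ft (LP (LK LD1_c8 LD2_c2 LD3_c59)) = (LP (LK LD1_c4 LD2_c1 LD3_c6)) :=
  Lre_f IH (LK LD1_c8 LD2_c2 LD3_c59) (LK LD1_c4 LD2_c1 LD3_c6) Lrfl Lrfl
theorem f293071 : Led Lsl_gf (LP (LK LD1_c4 LD2_c3 LD3_c58)) = (LP (LK LD1_c8 LD2_c2 LD3_c59)) :=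
  Lgr Lrot47 (Lpr_gt (f211403 IH) (Lpr_af (K17.f293064 IH) (Lpe (f293070 IH) (Lpn (LP (LK LD1_c8 LD2_c2 LD3_c59))))))
theorem f246106 : Led Lsl_ct (LP (LK LD1_c4 LD2_c3 LD3_c58)) = (LP (LK LD1_c8 LD2_c8 LD3_c27)) :=
  Lre_c IH (LK LD1_c4 LD2_c3 LD3_c58) (LK LD1_c8 LD2_c8 LD3_c27) Lrfl Lrfl
theorem f243737 : Led Lsl_dt (LP (LK LD1_c9 LD2_c33 LD3_c24)) = (LP (LK LD1_c17 LD2_c35 LD3_c57)) :=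
  Lre_d IH (LK LD1_c9 LD2_c33 LD3_c24) (LK LD1_c17 LD2_c35 LD3_c57) Lrfl Lrfl
theorem f244291 : Led Lsl_cf (LP (LK LD1_c5 LD2_c39 LD3_c1)) = (LP (LK LD1_c4 LD2_c19 LD3_c9)) :=
  Lgr Lrot11 (Lpr_ct (f243931 IH) (Lpn (LP (LK LD1_c4 LD2_c19 LD3_c9))))
theorem f192236 : Led Lsl_dt (LP (LK LD1_c4 LD2_c3 LD3_c4)) = (LP (LK LD1_c8 LD2_c6 LD3_c46)) :=
  Lre_d IH (LK LD1_c4 LD2_c3 LD3_c4) (LK LD1_c8 LD2_c6 LD3_c46) Lrfl Lrfl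
theorem f192251 : Led Lsl_gt (LP (LK LD1_c8 LD2_c6 LD3_c46)) = (LP (LK LD1_c15 LD2_c16 LD3_c33)) :=
  Lre_g IH (LK LD1_c8 LD2_c6 LD3_c46) (LK LD1_c15 LD2_c16 LD3_c33) Lrfl Lrfl
theorem f211280 : Led Lsl_et (LP (LK LD1_c0 LD2_c56 LD3_c16)) = (LP (LK LD1_c1 LD2_c58 LD3_c58)) :=
  Lre_e IH (LK LD1_c0 LD2_c56 LD3_c16) (LK LD1_c1 LD2_c58 LD3_c58) Lrfl Lrfl
theorem f211404 : Led Lsl_et (LP (LK LD1_c8 LD2_c8 LD3_c29)) = (LP (LK LD1_c4 LD2_c3 LD3_c58)) :=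
  Lre_e IH (LK LD1_c8 LD2_c8 LD3_c29) (LK LD1_c4 LD2_c3 LD3_c58) Lrfl Lrfl
theorem f243988 : Led Lsl_dt (LP (LK LD1_c8 LD2_c8 LD3_c29)) = (LP (LK LD1_c15 LD2_c16 LD3_c33)) :=
  Lgr Lrot56 (Lpr_et (f211404 IH) (Lpr_gt (f211403 IH) (Lpe (f211280 IH) (Lpe (K11.f201067 IH) (Lpe (K12.f211401 IH) (Lpe (K15.f243956 IH) (Lpr_et (K15.f243951 IH) (Lpr_gt (K15.f243962 IH) (Lpr_dt (f192236 IH) (Lpr_gt (f192251 IH) (Lpn (LP (LK LD1_c15 LD2_c16 LD3_c33)))))))))))))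
theorem f243992 : Led Lsl_df (LP (LK LD1_c8 LD2_c8 LD3_c29)) = (LP (LK LD1_c15 LD2_c16 LD3_c33)) :=
  Lgr Lrot38 (Lpr_dt (f243988 IH) (Lpn (LP (LK LD1_c15 LD2_c16 LD3_c33))))
theorem f243990 : Led Lsl_ct (LP (LK LD1_c15 LD2_c19 LD3_c48)) = (LP (LK LD1_c8 LD2_c8 LD3_c29)) :=
  Lre_c IH (LK LD1_c15 LD2_c19 LD3_c48) (LK LD1_c8 LD2_c8 LD3_c29) Lrfl Lrfl
theorem f243991 : Led Lsl_dt (LP (LK LD1_c25 LD2_c10 LD3_c55)) = (LP (LK LD1_c15 LD2_c19 LD3_c48)) :=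
  Lre_d IH (LK LD1_c25 LD2_c10 LD3_c55) (LK LD1_c15 LD2_c19 LD3_c48) Lrfl Lrfl
theorem f265681 : Led Lsl_gt (LP (LK LD1_c17 LD2_c35 LD3_c57)) = (LP (LK LD1_c25 LD2_c10 LD3_c55)) :=
  Lgr Lrot49 (Lpe (f243737 IH) (Lpr_gf (f265677 IH) (Lpr_cf (f244291 IH) (Lpr_gt (K15.f243962 IH) (Lpr_dt (f192236 IH) (Lpr_gt (f192251 IH) (Lpe (f243992 IH) (Lpe (f243990 IH) (Lpe (f243991 IH) (Lpn (LP (LK LD1_c25 LD2_c10 LD3_c55))))))))))))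
theorem f244000 : Led Lsl_dt (LP (LK LD1_c15 LD2_c19 LD3_c48)) = (LP (LK LD1_c25 LD2_c10 LD3_c55)) :=
  Lre_d IH (LK LD1_c15 LD2_c19 LD3_c48) (LK LD1_c25 LD2_c10 LD3_c55) Lrfl Lrfl
theorem f265684 : Led Lsl_et (LP (LK LD1_c15 LD2_c19 LD3_c48)) = (LP (LK LD1_c8 LD2_c8 LD3_c27)) :=
  Lre_e IH (LK LD1_c15 LD2_c19 LD3_c48) (LK LD1_c8 LD2_c8 LD3_c27) Lrfl Lrfl
theorem f196409 : Led Lsl_et (LP (LK LD1_c1 LD2_c59 LD3_c0)) = (LP (LK LD1_c4 LD2_c4 LD3_c8)) :=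
  Lre_e IH (LK LD1_c1 LD2_c59 LD3_c0) (LK LD1_c4 LD2_c4 LD3_c8) Lrfl Lrfl
theorem f265685 : Led Lsl_gt (LP (LK LD1_c8 LD2_c8 LD3_c27)) = (LP (LK LD1_c4 LD2_c4 LD3_c8)) :=
  Lgr Lrot131 (Lpe (f265684 IH) (Lpr_dt (f244000 IH) (Lpe (f265681 IH) (Lpe (f243737 IH) (Lpr_gf (f265677 IH) (Lpe (f243922 IH) (Lpr_dt (K13.f243712 IH) (Lpe (K13.f223700 IH) (Lpe (K15.f224867 IH) (Lpr_et (f196409 IH) (Lpn (LP (LK LD1_c4 LD2_c4 LD3_c8)))))))))))))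
theorem f196411 : Led Lsl_ct (LP (LK LD1_c4 LD2_c4 LD3_c8)) = (LP (LK LD1_c2 LD2_c25 LD3_c44)) :=
  Lgr Lrot15 (Lpe (f196409 IH) (Lpr_cf (K10.f196399 IH) (Lpe (K13.f196410 IH) (Lpn (LP (LK LD1_c2 LD2_c25 LD3_c44))))))
theorem f185870 : Led Lsl_ct (LP (LK LD1_c9 LD2_c43 LD3_c34)) = (LP (LK LD1_c4 LD2_c55 LD3_c55)) :=
  Lre_c IH (LK LD1_c9 LD2_c43 LD3_c34) (LK LD1_c4 LD2_c55 LD3_c55) Lrfl Lrfl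
theorem f293073 : Led Lsl_gf (LP (LK LD1_c9 LD2_c43 LD3_c34)) = (LP (LK LD1_c15 LD2_c19 LD3_c50)) :=
  Lgr Lrot104 (Lpr_ct (f185870 IH) (Lpe (K13.f224864 IH) (Lpe (f196411 IH) (Lpe (f265685 IH) (Lpe (f246106 IH) (Lpr_gf (f293071 IH) (Lpe (K16.f269260 IH) (Lpr_gt (f269273 IH) (Lpr_ct (f269279 IH) (Lpn (LP (LK LD1_c15 LD2_c19 LD3_c50))))))))))))
theorem f185872 : Led Lsl_ct (LP (LK LD1_c4 LD2_c55 LD3_c55)) = (LP (LK LD1_c9 LD2_c43 LD3_c34)) :=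
  Lre_c IH (LK LD1_c4 LD2_c55 LD3_c55) (LK LD1_c9 LD2_c43 LD3_c34) Lrfl Lrfl
theorem f181892 : Led Lsl_bt (LP (LK LD1_c4 LD2_c55 LD3_c55)) = (LP (LK LD1_c2 LD2_c25 LD3_c47)) :=
  Lre_b IH (LK LD1_c4 LD2_c55 LD3_c55) (LK LD1_c2 LD2_c25 LD3_c47) Lrfl Lrfl
theorem f177570 : Led Lsl_gt (LP (LK LD1_c2 LD2_c28 LD3_c46)) = (LP (LK LD1_c5 LD2_c2 LD3_c22)) :=
  Lre_g IH (LK LD1_c2 LD2_c28 LD3_c46) (LK LD1_c5 LD2_c2 LD3_c22) Lrfl Lrfl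
theorem f21357 : Led Lsl_et (LP (LK LD1_c1 LD2_c11 LD3_c55)) = (LP (LK LD1_c0 LD2_c33 LD3_c16)) :=
  Lre_e IH (LK LD1_c1 LD2_c11 LD3_c55) (LK LD1_c0 LD2_c33 LD3_c16) Lrfl Lrfl
theorem f33921 : Led Lsl_dt (LP (LK LD1_c1 LD2_c11 LD3_c55)) = (LP (LK LD1_c1 LD2_c11 LD3_c55)) :=
  Lgr Lrot79 (Lpe (K10.f21336 IH) (Lpr_df (K0.f33918 IH) (Lpe (K0.f21347 IH) (Lpn (LP (LK LD1_c1 LD2_c11 LD3_c55))))))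
theorem f163890 : Led Lsl_af (LP (LK LD1_c1 LD2_c11 LD3_c55)) = (LP (LK LD1_c1 LD2_c13 LD3_c20)) :=
  Lgr Lrot0 (Lpr_at (K8.f163880 IH) (Lpn (LP (LK LD1_c1 LD2_c13 LD3_c20))))
theorem f21345 : Led Lsl_gt (LP (LK LD1_c1 LD2_c11 LD3_c55)) = (LP (LK LD1_c2 LD2_c29 LD3_c44)) :=
  Lre_g IH (LK LD1_c1 LD2_c11 LD3_c55) (LK LD1_c2 LD2_c29 LD3_c44) Lrfl Lrfl
theorem f165387 : Led Lsl_gf (LP (LK LD1_c1 LD2_c11 LD3_c55)) = (LP (LK LD1_c2 LD2_c29 LD3_c44)) :=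
  Lgr Lrot76 (Lpr_af (f163890 IH) (Lpr_ff (K0.f21323 IH) (Lpr_gt (f21345 IH) (Lpn (LP (LK LD1_c2 LD2_c29 LD3_c44))))))
theorem f165253 : Led Lsl_dt (LP (LK LD1_c5 LD2_c4 LD3_c48)) = (LP (LK LD1_c2 LD2_c29 LD3_c44)) :=
  Lre_d IH (LK LD1_c5 LD2_c4 LD3_c48) (LK LD1_c2 LD2_c29 LD3_c44) Lrfl Lrfl
theorem f185843 : Led Lsl_ef (LP (LK LD1_c5 LD2_c2 LD3_c22)) = (LP (LK LD1_c5 LD2_c4 LD3_c48)) :=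
  Lgr Lrot17 (Lpe (f177570 IH) (Lpe (K10.f177370 IH) (Lpr_dt (K10.f177368 IH) (Lpr_gf (K10.f185823 IH) (Lpr_df (K9.f171214 IH) (Lpe (K9.f165254 IH) (Lpe (f21357 IH) (Lpr_dt (f33921 IH) (Lpr_gf (f165387 IH) (Lpe (f165253 IH) (Lpn (LP (LK LD1_c5 LD2_c4 LD3_c48)))))))))))))
theorem f185852 : Led Lsl_et (LP (LK LD1_c5 LD2_c2 LD3_c22)) = (LP (LK LD1_c5 LD2_c4 LD3_c48)) :=
  Lgr Lrot87 (Lpr_ef (f185843 IH) (Lpn (LP (LK LD1_c5 LD2_c4 LD3_c48))))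
theorem f181890 : Led Lsl_et (LP (LK LD1_c2 LD2_c25 LD3_c47)) = (LP (LK LD1_c1 LD2_c13 LD3_c1)) :=
  Lgr Lrot87 (Lpr_ef (K13.f181881 IH) (Lpn (LP (LK LD1_c1 LD2_c13 LD3_c1))))
theorem f168773 : Led Lsl_gt (LP (LK LD1_c2 LD2_c25 LD3_c46)) = (LP (LK LD1_c1 LD2_c10 LD3_c4)) :=
  Lre_g IH (LK LD1_c2 LD2_c25 LD3_c46) (LK LD1_c1 LD2_c10 LD3_c4) Lrfl Lrfl
theorem f168792 : Led Lsl_dt (LP (LK LD1_c4 LD2_c55 LD3_c59)) = (LP (LK LD1_c2 LD2_c25 LD3_c46)) :=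
  Lre_d IH (LK LD1_c4 LD2_c55 LD3_c59) (LK LD1_c2 LD2_c25 LD3_c46) Lrfl Lrfl
theorem f181898 : Led Lsl_et (LP (LK LD1_c4 LD2_c55 LD3_c59)) = (LP (LK LD1_c2 LD2_c29 LD3_c44)) :=
  Lgr Lrot122 (Lpr_dt (f168792 IH) (Lpr_gt (f168773 IH) (Lpe (K13.f168762 IH) (Lpr_et (f181890 IH) (Lpr_gt (K13.f165483 IH) (Lpr_dt (K10.f21327 IH) (Lpe (K9.f165481 IH) (Lpe (K8.f3156 IH) (Lpr_et (K0.f21322 IH) (Lpr_gt (f21345 IH) (Lpn (LP (LK LD1_c2 LD2_c29 LD3_c44)))))))))))))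
theorem f181904 : Led Lsl_ef (LP (LK LD1_c4 LD2_c55 LD3_c59)) = (LP (LK LD1_c2 LD2_c29 LD3_c44)) :=
  Lgr Lrot88 (Lpr_et (f181898 IH) (Lpn (LP (LK LD1_c2 LD2_c29 LD3_c44))))
theorem f181909 : Led Lsl_et (LP (LK LD1_c2 LD2_c25 LD3_c46)) = (LP (LK LD1_c4 LD2_c55 LD3_c60)) :=
  Lre_e IH (LK LD1_c2 LD2_c25 LD3_c46) (LK LD1_c4 LD2_c55 LD3_c60) Lrfl Lrfl
theorem f185861 : Led Lsl_df (LP (LK LD1_c5 LD2_c2 LD3_c22)) = (LP (LK LD1_c4 LD2_c55 LD3_c60)) :=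
  Lgr Lrot70 (Lpr_et (f185852 IH) (Lpr_dt (f165253 IH) (Lpe (f181904 IH) (Lpr_dt (f168792 IH) (Lpr_et (f181909 IH) (Lpn (LP (LK LD1_c4 LD2_c55 LD3_c60))))))))
theorem f169080 : Led Lsl_dt (LP (LK LD1_c2 LD2_c32 LD3_c15)) = (LP (LK LD1_c1 LD2_c13 LD3_c7)) :=
  Lre_d IH (LK LD1_c2 LD2_c32 LD3_c15) (LK LD1_c1 LD2_c13 LD3_c7) Lrfl Lrfl
theorem f181886 : Led Lsl_et (LP (LK LD1_c4 LD2_c55 LD3_c60)) = (LP (LK LD1_c2 LD2_c25 LD3_c46)) :=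
  Lre_e IH (LK LD1_c4 LD2_c55 LD3_c60) (LK LD1_c2 LD2_c25 LD3_c46) Lrfl Lrfl
theorem f41101 : Led Lsl_dt (LP (LK LD1_c1 LD2_c10 LD3_c4)) = (LP (LK LD1_c2 LD2_c25 LD3_c47)) :=
  Lre_d IH (LK LD1_c1 LD2_c10 LD3_c4) (LK LD1_c2 LD2_c25 LD3_c47) Lrfl Lrfl
theorem f185864 : Led Lsl_gf (LP (LK LD1_c1 LD2_c13 LD3_c7)) = (LP (LK LD1_c2 LD2_c25 LD3_c47)) :=
  Lgr Lrot134 (Lpe (f169080 IH) (Lpr_et (K17.f169079 IH) (Lpe (K11.f183079 IH) (Lpe (K10.f177372 IH) (Lpe (K10.f177559 IH) (Lpr_gt (f177570 IH) (Lpr_df (f185861 IH) (Lpr_et (f181886 IH) (Lpr_gt (f168773 IH) (Lpr_dt (f41101 IH) (Lpn (LP (LK LD1_c2 LD2_c25 LD3_c47)))))))))))))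
theorem f185876 : Led Lsl_bt (LP (LK LD1_c2 LD2_c32 LD3_c9)) = (LP (LK LD1_c1 LD2_c13 LD3_c7)) :=
  Lre_b IH (LK LD1_c2 LD2_c32 LD3_c9) (LK LD1_c1 LD2_c13 LD3_c7) Lrfl Lrfl
theorem f185877 : Led Lsl_ct (LP (LK LD1_c2 LD2_c32 LD3_c9)) = (LP (LK LD1_c5 LD2_c10 LD3_c11)) :=
  Lre_c IH (LK LD1_c2 LD2_c32 LD3_c9) (LK LD1_c5 LD2_c10 LD3_c11) Lrfl Lrfl
theorem f185878 : Led Lsl_gt (LP (LK LD1_c5 LD2_c10 LD3_c11)) = (LP (LK LD1_c10 LD2_c11 LD3_c6)) :=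
  Lre_g IH (LK LD1_c5 LD2_c10 LD3_c11) (LK LD1_c10 LD2_c11 LD3_c6) Lrfl Lrfl
theorem f304202 : Led Lsl_cf (LP (LK LD1_c10 LD2_c11 LD3_c6)) = (LP (LK LD1_c10 LD2_c24 LD3_c57)) :=
  Lgr Lrot58 (Lpe (f185878 IH) (Lpe (f185877 IH) (Lpr_bt (f185876 IH) (Lpr_gf (f185864 IH) (Lpe (f181892 IH) (Lpr_ct (f185872 IH) (Lpr_gf (f293073 IH) (Lpe (f269279 IH) (Lpe (f269273 IH) (Lpr_bf (f304113 IH) (Lpn (LP (LK LD1_c10 LD2_c24 LD3_c57)))))))))))))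
theorem f263348 : Led Lsl_bt (LP (LK LD1_c2 LD2_c35 LD3_c37)) = (LP (LK LD1_c5 LD2_c17 LD3_c40)) :=
  Lre_b IH (LK LD1_c2 LD2_c35 LD3_c37) (LK LD1_c5 LD2_c17 LD3_c40) Lrfl Lrfl
theorem f257808 : Led Lsl_gt (LP (LK LD1_c10 LD2_c25 LD3_c5)) = (LP (LK LD1_c5 LD2_c17 LD3_c44)) :=
  Lre_g IH (LK LD1_c10 LD2_c25 LD3_c5) (LK LD1_c5 LD2_c17 LD3_c44) Lrfl Lrfl
theorem f262984 : Led Lsl_gf (LP (LK LD1_c2 LD2_c1 LD3_c29)) = (LP (LK LD1_c4 LD2_c7 LD3_c61)) :=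
  Lgr Lrot141 (Lpe (K10.f47568 IH) (Lpr_dt (K12.f774 IH) (Lpe (K12.f189099 IH) (Lpr_df (K12.f167733 IH) (Lpr_et (K12.f167753 IH) (Lpr_gt (K10.f188919 IH) (Lpr_dt (K12.f32315 IH) (Lpr_gt (K15.f262978 IH) (Lpe (K15.f259230 IH) (Lpr_et (K15.f259225 IH) (Lpn (LP (LK LD1_c4 LD2_c7 LD3_c61)))))))))))))
theorem f47572 : Led Lsl_dt (LP (LK LD1_c5 LD2_c15 LD3_c55)) = (LP (LK LD1_c2 LD2_c34 LD3_c47)) :=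
  Lre_d IH (LK LD1_c5 LD2_c15 LD3_c55) (LK LD1_c2 LD2_c34 LD3_c47) Lrfl Lrfl
theorem f257375 : Led Lsl_df (LP (LK LD1_c10 LD2_c43 LD3_c4)) = (LP (LK LD1_c5 LD2_c26 LD3_c23)) :=
  Lgr Lrot78 (Lpr_ft (K15.f257357 IH) (Lpr_dt (K13.f231978 IH) (Lpe (K13.f195828 IH) (Lpn (LP (LK LD1_c5 LD2_c26 LD3_c23))))))
theorem f8515 : Led Lsl_gt (LP (LK LD1_c10 LD2_c44 LD3_c1)) = (LP (LK LD1_c5 LD2_c26 LD3_c25)) :=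
  Lre_g IH (LK LD1_c10 LD2_c44 LD3_c1) (LK LD1_c5 LD2_c26 LD3_c25) Lrfl Lrfl
theorem f248074 : Led Lsl_dt (LP (LK LD1_c5 LD2_c15 LD3_c47)) = (LP (LK LD1_c2 LD2_c34 LD3_c44)) :=
  Lre_d IH (LK LD1_c5 LD2_c15 LD3_c47) (LK LD1_c2 LD2_c34 LD3_c44) Lrfl Lrfl
theorem f252312 : Led Lsl_gt (LP (LK LD1_c5 LD2_c15 LD3_c47)) = (LP (LK LD1_c10 LD2_c20 LD3_c55)) :=
  Lre_g IH (LK LD1_c5 LD2_c15 LD3_c47) (LK LD1_c10 LD2_c20 LD3_c55) Lrfl Lrfl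
theorem f252313 : Led Lsl_cf (LP (LK LD1_c10 LD2_c44 LD3_c1)) = (LP (LK LD1_c10 LD2_c20 LD3_c55)) :=
  Lgr Lrot169 (Lpr_gt (f8515 IH) (Lpr_ct (f252283 IH) (Lpe (f35072 IH) (Lpr_cf (K10.f49484 IH) (Lpe (K10.f49480 IH) (Lpe (K14.f212451 IH) (Lpe (K12.f180747 IH) (Lpe (f248074 IH) (Lpr_gt (f252312 IH) (Lpn (LP (LK LD1_c10 LD2_c20 LD3_c55))))))))))))
theorem f257382 : Led Lsl_gf (LP (LK LD1_c5 LD2_c15 LD3_c55)) = (LP (LK LD1_c10 LD2_c20 LD3_c55)) :=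
  Lgr Lrot144 (Lpr_dt (f47572 IH) (Lpe (K10.f49849 IH) (Lpr_dt (K14.f49452 IH) (Lpe (K15.f252371 IH) (Lpr_df (f257375 IH) (Lpe (K11.f195797 IH) (Lpe (f8514 IH) (Lpe (f8515 IH) (Lpr_cf (f252313 IH) (Lpn (LP (LK LD1_c10 LD2_c20 LD3_c55))))))))))))
theorem f263262 : Led Lsl_dt (LP (LK LD1_c9 LD2_c54 LD3_c57)) = (LP (LK LD1_c10 LD2_c20 LD3_c55)) :=
  Lgr Lrot57 (Lpr_gf (K15.f252557 IH) (Lpe (K14.f32895 IH) (Lpr_gt (K15.f263248 IH) (Lpr_dt (K15.f259223 IH) (Lpe (f262984 IH) (Lpe (K10.f47557 IH) (Lpe (K15.f47573 IH) (Lpe (f47572 IH) (Lpr_gf (f257382 IH) (Lpn (LP (LK LD1_c10 LD2_c20 LD3_c55))))))))))))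
theorem f252315 : Led Lsl_dt (LP (LK LD1_c2 LD2_c34 LD3_c44)) = (LP (LK LD1_c5 LD2_c15 LD3_c47)) :=
  Lre_d IH (LK LD1_c2 LD2_c34 LD3_c44) (LK LD1_c5 LD2_c15 LD3_c47) Lrfl Lrfl
theorem f263331 : Led Lsl_et (LP (LK LD1_c9 LD2_c54 LD3_c57)) = (LP (LK LD1_c10 LD2_c25 LD3_c5)) :=
  Lgr Lrot185 (Lpr_dt (f263262 IH) (Lpe (f252312 IH) (Lpe (f252315 IH) (Lpr_gf (K14.f248075 IH) (Lpr_ef (K10.f49837 IH) (Lpr_dt (K10.f49119 IH) (Lpe (K15.f257785 IH) (Lpe (K15.f49107 IH) (Lpr_et (K16.f257807 IH) (Lpe (f257808 IH) (Lpn (LP (LK LD1_c10 LD2_c25 LD3_c5)))))))))))))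
theorem f263339 : Led Lsl_ef (LP (LK LD1_c9 LD2_c54 LD3_c57)) = (LP (LK LD1_c10 LD2_c25 LD3_c5)) :=
  Lgr Lrot88 (Lpr_et (f263331 IH) (Lpn (LP (LK LD1_c10 LD2_c25 LD3_c5))))
theorem f263343 : Led Lsl_ct (LP (LK LD1_c8 LD2_c26 LD3_c54)) = (LP (LK LD1_c10 LD2_c25 LD3_c5)) :=
  Lgr Lrot15 (Lpr_ef (K15.f259618 IH) (Lpe (K15.f252977 IH) (Lpr_ef (f263339 IH) (Lpn (LP (LK LD1_c10 LD2_c25 LD3_c5))))))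
theorem f257603 : Led Lsl_gt (LP (LK LD1_c9 LD2_c54 LD3_c61)) = (LP (LK LD1_c5 LD2_c2 LD3_c8)) :=
  Lre_g IH (LK LD1_c9 LD2_c54 LD3_c61) (LK LD1_c5 LD2_c2 LD3_c8) Lrfl Lrfl
theorem f300061 : Led Lsl_et (LP (LK LD1_c17 LD2_c45 LD3_c55)) = (LP (LK LD1_c9 LD2_c39 LD3_c35)) :=
  Lre_e IH (LK LD1_c17 LD2_c45 LD3_c55) (LK LD1_c9 LD2_c39 LD3_c35) Lrfl Lrfl
theorem f300036 : Led Lsl_et (LP (LK LD1_c10 LD2_c9 LD3_c40)) = (LP (LK LD1_c18 LD2_c30 LD3_c40)) :=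
  Lre_e IH (LK LD1_c10 LD2_c9 LD3_c40) (LK LD1_c18 LD2_c30 LD3_c40) Lrfl Lrfl
theorem f300062 : Led Lsl_cf (LP (LK LD1_c17 LD2_c45 LD3_c55)) = (LP (LK LD1_c18 LD2_c30 LD3_c40)) :=
  Lgr Lrot39 (Lpr_et (f300061 IH) (Lpr_ct (f300018 IH) (Lpr_et (f300036 IH) (Lpn (LP (LK LD1_c18 LD2_c30 LD3_c40))))))
theorem f189476 : Led Lsl_bt (LP (LK LD1_c17 LD2_c45 LD3_c55)) = (LP (LK LD1_c9 LD2_c39 LD3_c37)) :=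
  Lre_b IH (LK LD1_c17 LD2_c45 LD3_c55) (LK LD1_c9 LD2_c39 LD3_c37) Lrfl Lrfl
theorem f300064 : Led Lsl_bt (LP (LK LD1_c10 LD2_c9 LD3_c42)) = (LP (LK LD1_c18 LD2_c30 LD3_c40)) :=
  Lre_b IH (LK LD1_c10 LD2_c9 LD3_c42) (LK LD1_c18 LD2_c30 LD3_c40) Lrfl Lrfl
theorem f300065 : Led Lsl_ct (LP (LK LD1_c5 LD2_c9 LD3_c30)) = (LP (LK LD1_c10 LD2_c9 LD3_c42)) :=
  Lre_c IH (LK LD1_c5 LD2_c9 LD3_c30) (LK LD1_c10 LD2_c9 LD3_c42) Lrfl Lrfl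
theorem f300066 : Led Lsl_bt (LP (LK LD1_c4 LD2_c54 LD3_c6)) = (LP (LK LD1_c5 LD2_c9 LD3_c30)) :=
  Lgr Lrot128 (Lpe (K14.f189458 IH) (Lpe (f189476 IH) (Lpr_cf (f300062 IH) (Lpe (f300064 IH) (Lpe (f300065 IH) (Lpn (LP (LK LD1_c5 LD2_c9 LD3_c30))))))))
theorem f289934 : Led Lsl_ft (LP (LK LD1_c9 LD2_c39 LD3_c38)) = (LP (LK LD1_c4 LD2_c54 LD3_c6)) :=
  Lre_f IH (LK LD1_c9 LD2_c39 LD3_c38) (LK LD1_c4 LD2_c54 LD3_c6) Lrfl Lrfl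
theorem f300077 : Led Lsl_ft (LP (LK LD1_c5 LD2_c9 LD3_c30)) = (LP (LK LD1_c10 LD2_c9 LD3_c43)) :=
  Lre_f IH (LK LD1_c5 LD2_c9 LD3_c30) (LK LD1_c10 LD2_c9 LD3_c43) Lrfl Lrfl
theorem f300078 : Led Lsl_bf (LP (LK LD1_c9 LD2_c39 LD3_c38)) = (LP (LK LD1_c10 LD2_c9 LD3_c43)) :=
  Lgr Lrot61 (Lpr_ft (f289934 IH) (Lpr_bt (f300066 IH) (Lpr_ft (f300077 IH) (Lpn (LP (LK LD1_c10 LD2_c9 LD3_c43))))))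
theorem f288317 : Led Lsl_at (LP (LK LD1_c10 LD2_c9 LD3_c43)) = (LP (LK LD1_c5 LD2_c9 LD3_c45)) :=
  Lre_a IH (LK LD1_c10 LD2_c9 LD3_c43) (LK LD1_c5 LD2_c9 LD3_c45) Lrfl Lrfl
theorem f257604 : Led Lsl_at (LP (LK LD1_c5 LD2_c2 LD3_c49)) = (LP (LK LD1_c2 LD2_c29 LD3_c1)) :=
  Lre_a IH (LK LD1_c5 LD2_c2 LD3_c49) (LK LD1_c2 LD2_c29 LD3_c1) Lrfl Lrfl
theorem f257605 : Led Lsl_ft (LP (LK LD1_c9 LD2_c54 LD3_c61)) = (LP (LK LD1_c5 LD2_c2 LD3_c49)) :=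
  Lgr Lrot2 (Lpr_gt (f257603 IH) (Lpr_gt (K15.f257601 IH) (Lpe (f257604 IH) (Lpn (LP (LK LD1_c5 LD2_c2 LD3_c49))))))
theorem f257680 : Led Lsl_ft (LP (LK LD1_c2 LD2_c29 LD3_c1)) = (LP (LK LD1_c5 LD2_c3 LD3_c0)) :=
  Lre_f IH (LK LD1_c2 LD2_c29 LD3_c1) (LK LD1_c5 LD2_c3 LD3_c0) Lrfl Lrfl
theorem f257681 : Led Lsl_af (LP (LK LD1_c9 LD2_c54 LD3_c61)) = (LP (LK LD1_c5 LD2_c3 LD3_c0)) :=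
  Lgr Lrot45 (Lpr_ft (f257605 IH) (Lpr_at (f257604 IH) (Lpr_ft (f257680 IH) (Lpn (LP (LK LD1_c5 LD2_c3 LD3_c0))))))
theorem f288318 : Led Lsl_ef (LP (LK LD1_c10 LD2_c9 LD3_c43)) = (LP (LK LD1_c9 LD2_c54 LD3_c61)) :=
  Lgr Lrot20 (Lpr_at (f288317 IH) (Lpr_et (K17.f288311 IH) (Lpe (f257681 IH) (Lpn (LP (LK LD1_c9 LD2_c54 LD3_c61))))))
theorem f300085 : Led Lsl_bt (LP (LK LD1_c9 LD2_c40 LD3_c11)) = (LP (LK LD1_c9 LD2_c54 LD3_c61)) :=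
  Lgr Lrot119 (Lpr_ef (K17.f289927 IH) (Lpr_bf (f300078 IH) (Lpr_ef (f288318 IH) (Lpn (LP (LK LD1_c9 LD2_c54 LD3_c61))))))
theorem f304214 : Led Lsl_gt (LP (LK LD1_c10 LD2_c11 LD3_c6)) = (LP (LK LD1_c17 LD2_c47 LD3_c7)) :=
  Lgr Lrot149 (Lpr_cf (f304202 IH) (Lpe (f184840 IH) (Lpe (f263348 IH) (Lpr_ct (K16.f262999 IH) (Lpe (f257808 IH) (Lpe (f263343 IH) (Lpr_bt (K15.f259609 IH) (Lpe (f257603 IH) (Lpe (f300085 IH) (Lpr_ct (K17.f289926 IH) (Lpn (LP (LK LD1_c17 LD2_c47 LD3_c7)))))))))))))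
theorem f242386 : Led Lsl_ft (LP (LK LD1_c10 LD2_c15 LD3_c39)) = (LP (LK LD1_c18 LD2_c39 LD3_c52)) :=
  Lre_f IH (LK LD1_c10 LD2_c15 LD3_c39) (LK LD1_c18 LD2_c39 LD3_c52) Lrfl Lrfl
theorem f242414 : Led Lsl_et (LP (LK LD1_c5 LD2_c12 LD3_c38)) = (LP (LK LD1_c10 LD2_c15 LD3_c39)) :=
  Lre_e IH (LK LD1_c5 LD2_c12 LD3_c38) (LK LD1_c10 LD2_c15 LD3_c39) Lrfl Lrfl
theorem f288527 : Led Lsl_ft (LP (LK LD1_c5 LD2_c15 LD3_c30)) = (LP (LK LD1_c5 LD2_c12 LD3_c38)) :=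
  Lgr Lrot48 (Lpr_ff (K17.f288522 IH) (Lpn (LP (LK LD1_c5 LD2_c12 LD3_c38))))
theorem f304119 : Led Lsl_ff (LP (LK LD1_c10 LD2_c20 LD3_c17)) = (LP (LK LD1_c10 LD2_c24 LD3_c57)) :=
  Lgr Lrot72 (Lpr_et (f288506 IH) (Lpr_ft (f288527 IH) (Lpr_et (f242414 IH) (Lpr_ft (f242386 IH) (Lpr_et (f304109 IH) (Lpn (LP (LK LD1_c10 LD2_c24 LD3_c57))))))))
theorem f304125 : Led Lsl_ft (LP (LK LD1_c10 LD2_c20 LD3_c17)) = (LP (LK LD1_c10 LD2_c24 LD3_c57)) :=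
  Lgr Lrot48 (Lpr_ff (f304119 IH) (Lpn (LP (LK LD1_c10 LD2_c24 LD3_c57))))
theorem f304211 : Led Lsl_ft (LP (LK LD1_c10 LD2_c11 LD3_c6)) = (LP (LK LD1_c9 LD2_c56 LD3_c39)) :=
  Lgr Lrot4 (Lpr_cf (f304202 IH) (Lpe (f304125 IH) (Lpr_cf (f288507 IH) (Lpn (LP (LK LD1_c9 LD2_c56 LD3_c39))))))
theorem f304225 : Led Lsl_gf (LP (LK LD1_c10 LD2_c10 LD3_c0)) = (LP (LK LD1_c17 LD2_c47 LD3_c7)) :=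
  Lgr Lrot76 (Lpr_af (f294142 IH) (Lpe (f304211 IH) (Lpr_gt (f304214 IH) (Lpn (LP (LK LD1_c17 LD2_c47 LD3_c7))))))
theorem f249252 : Led Lsl_ct (LP (LK LD1_c2 LD2_c36 LD3_c35)) = (LP (LK LD1_c5 LD2_c19 LD3_c50)) :=
  Lre_c IH (LK LD1_c2 LD2_c36 LD3_c35) (LK LD1_c5 LD2_c19 LD3_c50) Lrfl Lrfl
theorem f249274 : Led Lsl_gt (LP (LK LD1_c5 LD2_c19 LD3_c50)) = (LP (LK LD1_c10 LD2_c29 LD3_c31)) :=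
  Lre_g IH (LK LD1_c5 LD2_c19 LD3_c50) (LK LD1_c10 LD2_c29 LD3_c31) Lrfl Lrfl
theorem f192152 : Led Lsl_gt (LP (LK LD1_c2 LD2_c29 LD3_c1)) = (LP (LK LD1_c5 LD2_c2 LD3_c60)) :=
  Lre_g IH (LK LD1_c2 LD2_c29 LD3_c1) (LK LD1_c5 LD2_c2 LD3_c60) Lrfl Lrfl
theorem f257773 : Led Lsl_gf (LP (LK LD1_c9 LD2_c54 LD3_c61)) = (LP (LK LD1_c5 LD2_c2 LD3_c60)) :=
  Lgr Lrot76 (Lpr_af (f257681 IH) (Lpe (f257680 IH) (Lpr_gt (f192152 IH) (Lpn (LP (LK LD1_c5 LD2_c2 LD3_c60))))))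
theorem f257678 : Led Lsl_bt (LP (LK LD1_c9 LD2_c56 LD3_c52)) = (LP (LK LD1_c5 LD2_c2 LD3_c60)) :=
  Lre_b IH (LK LD1_c9 LD2_c56 LD3_c52) (LK LD1_c5 LD2_c2 LD3_c60) Lrfl Lrfl
theorem f304229 : Led Lsl_cf (LP (LK LD1_c10 LD2_c29 LD3_c31)) = (LP (LK LD1_c9 LD2_c56 LD3_c52)) :=
  Lgr Lrot163 (Lpe (f249274 IH) (Lpe (f249252 IH) (Lpr_gf (f256260 IH) (Lpe (f293776 IH) (Lpe (f294151 IH) (Lpr_gf (f304225 IH) (Lpe (K17.f289926 IH) (Lpr_bt (f300085 IH) (Lpr_gf (f257773 IH) (Lpe (f257678 IH) (Lpn (LP (LK LD1_c9 LD2_c56 LD3_c52)))))))))))))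
theorem f300513 : Led Lsl_gt (LP (LK LD1_c10 LD2_c29 LD3_c31)) = (LP (LK LD1_c10 LD2_c3 LD3_c26)) :=
  Lgr Lrot46 (Lpe (f249274 IH) (Lpr_ft (f300500 IH) (Lpr_at (f300494 IH) (Lpn (LP (LK LD1_c10 LD2_c3 LD3_c26))))))
theorem f300515 : Led Lsl_ct (LP (LK LD1_c5 LD2_c6 LD3_c15)) = (LP (LK LD1_c10 LD2_c3 LD3_c26)) :=
  Lre_c IH (LK LD1_c5 LD2_c6 LD3_c15) (LK LD1_c10 LD2_c3 LD3_c26) Lrfl Lrfl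
theorem f300520 : Led Lsl_bt (LP (LK LD1_c5 LD2_c6 LD3_c15)) = (LP (LK LD1_c2 LD2_c30 LD3_c29)) :=
  Lre_b IH (LK LD1_c5 LD2_c6 LD3_c15) (LK LD1_c2 LD2_c30 LD3_c29) Lrfl Lrfl
theorem f257626 : Led Lsl_bt (LP (LK LD1_c1 LD2_c11 LD3_c42)) = (LP (LK LD1_c2 LD2_c29 LD3_c1)) :=
  Lre_b IH (LK LD1_c1 LD2_c11 LD3_c42) (LK LD1_c2 LD2_c29 LD3_c1) Lrfl Lrfl
theorem f264285 : Led Lsl_ft (LP (LK LD1_c10 LD2_c2 LD3_c18)) = (LP (LK LD1_c5 LD2_c5 LD3_c33)) :=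
  Lre_f IH (LK LD1_c10 LD2_c2 LD3_c18) (LK LD1_c5 LD2_c5 LD3_c33) Lrfl Lrfl
theorem f264248 : Led Lsl_ff (LP (LK LD1_c2 LD2_c28 LD3_c50)) = (LP (LK LD1_c2 LD2_c30 LD3_c0)) :=
  Lgr Lrot3 (Lpr_ft (K15.f264237 IH) (Lpn (LP (LK LD1_c2 LD2_c30 LD3_c0))))
theorem f276101 : Led Lsl_ff (LP (LK LD1_c5 LD2_c6 LD3_c23)) = (LP (LK LD1_c4 LD2_c29 LD3_c48)) :=
  Lgr Lrot72 (Lpr_et (K16.f276074 IH) (Lpr_ft (f264285 IH) (Lpr_et (K15.f180613 IH) (Lpe (f264248 IH) (Lpr_et (K16.f250055 IH) (Lpn (LP (LK LD1_c4 LD2_c29 LD3_c48))))))))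
theorem f276045 : Led Lsl_at (LP (LK LD1_c2 LD2_c42 LD3_c16)) = (LP (LK LD1_c4 LD2_c29 LD3_c48)) :=
  Lgr Lrot100 (Lpr_af (K16.f276009 IH) (Lpn (LP (LK LD1_c4 LD2_c29 LD3_c48))))
theorem f276103 : Led Lsl_at (LP (LK LD1_c5 LD2_c6 LD3_c23)) = (LP (LK LD1_c5 LD2_c3 LD3_c10)) :=
  Lgr Lrot66 (Lpr_ff (f276101 IH) (Lpe (f276045 IH) (Lpr_ff (K16.f275995 IH) (Lpn (LP (LK LD1_c5 LD2_c3 LD3_c10))))))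
theorem f276105 : Led Lsl_gf (LP (LK LD1_c2 LD2_c29 LD3_c7)) = (LP (LK LD1_c4 LD2_c29 LD3_c48)) :=
  Lgr Lrot47 (Lpr_gt (K16.f165836 IH) (Lpe (f276103 IH) (Lpr_ff (f276101 IH) (Lpn (LP (LK LD1_c4 LD2_c29 LD3_c48))))))
theorem f185009 : Led Lsl_ct (LP (LK LD1_c2 LD2_c11 LD3_c55)) = (LP (LK LD1_c4 LD2_c29 LD3_c48)) :=
  Lre_c IH (LK LD1_c2 LD2_c11 LD3_c55) (LK LD1_c4 LD2_c29 LD3_c48) Lrfl Lrfl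
theorem f304237 : Led Lsl_gt (LP (LK LD1_c2 LD2_c30 LD3_c29)) = (LP (LK LD1_c2 LD2_c11 LD3_c55)) :=
  Lgr Lrot82 (Lpe (f300520 IH) (Lpr_ct (f300515 IH) (Lpe (f300513 IH) (Lpr_cf (f304229 IH) (Lpr_bt (f257678 IH) (Lpe (f192152 IH) (Lpe (f257626 IH) (Lpr_ct (K16.f171249 IH) (Lpr_gf (f276105 IH) (Lpe (f185009 IH) (Lpn (LP (LK LD1_c2 LD2_c11 LD3_c55)))))))))))))
theorem f304241 : Led Lsl_ft (LP (LK LD1_c2 LD2_c30 LD3_c29)) = (LP (LK LD1_c1 LD2_c12 LD3_c14)) :=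
  Lre_f IH (LK LD1_c2 LD2_c30 LD3_c29) (LK LD1_c1 LD2_c12 LD3_c14) Lrfl Lrfl
theorem f304242 : Led Lsl_at (LP (LK LD1_c1 LD2_c12 LD3_c14)) = (LP (LK LD1_c1 LD2_c13 LD3_c42)) :=
  Lgr Lrot26 (Lpe (f304241 IH) (Lpr_gt (f304237 IH) (Lpe (K10.f184973 IH) (Lpn (LP (LK LD1_c1 LD2_c13 LD3_c42))))))
theorem f304320 : Led Lsl_af (LP (LK LD1_c2 LD2_c30 LD3_c29)) = (LP (LK LD1_c2 LD2_c33 LD3_c33)) :=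
  Lgr Lrot45 (Lpr_ft (f304241 IH) (Lpr_at (f304242 IH) (Lpr_ft (f184946 IH) (Lpn (LP (LK LD1_c2 LD2_c33 LD3_c33))))))
theorem f304322 : Led Lsl_at (LP (LK LD1_c2 LD2_c30 LD3_c29)) = (LP (LK LD1_c2 LD2_c33 LD3_c33)) :=
  Lgr Lrot100 (Lpr_af (f304320 IH) (Lpn (LP (LK LD1_c2 LD2_c33 LD3_c33))))
theorem f302148 : Led Lsl_ft (LP (LK LD1_c1 LD2_c12 LD3_c14)) = (LP (LK LD1_c2 LD2_c30 LD3_c29)) :=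
  Lre_f IH (LK LD1_c1 LD2_c12 LD3_c14) (LK LD1_c2 LD2_c30 LD3_c29) Lrfl Lrfl
theorem f304407 : Led Lsl_gt (LP (LK LD1_c2 LD2_c30 LD3_c27)) = (LP (LK LD1_c2 LD2_c33 LD3_c33)) :=
  Lgr Lrot46 (Lpe (K15.f165878 IH) (Lpr_ft (f302148 IH) (Lpr_at (f304322 IH) (Lpn (LP (LK LD1_c2 LD2_c33 LD3_c33))))))
theorem f261801 : Led Lsl_ff (LP (LK LD1_c2 LD2_c11 LD3_c55)) = (LP (LK LD1_c2 LD2_c30 LD3_c27)) :=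
  Lgr Lrot3 (Lpr_ft (K15.f261793 IH) (Lpn (LP (LK LD1_c2 LD2_c30 LD3_c27))))
theorem f261807 : Led Lsl_at (LP (LK LD1_c2 LD2_c33 LD3_c31)) = (LP (LK LD1_c2 LD2_c30 LD3_c27)) :=
  Lgr Lrot100 (Lpr_af (K15.f261803 IH) (Lpn (LP (LK LD1_c2 LD2_c30 LD3_c27))))
theorem f261827 : Led Lsl_at (LP (LK LD1_c2 LD2_c11 LD3_c55)) = (LP (LK LD1_c1 LD2_c17 LD3_c43)) :=
  Lgr Lrot66 (Lpr_ff (f261801 IH) (Lpe (f261807 IH) (Lpr_ff (K15.f261823 IH) (Lpn (LP (LK LD1_c1 LD2_c17 LD3_c43))))))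
theorem f304409 : Led Lsl_gf (LP (LK LD1_c1 LD2_c17 LD3_c43)) = (LP (LK LD1_c2 LD2_c33 LD3_c33)) :=
  Lgr Lrot76 (Lpe (f261827 IH) (Lpr_ff (f261801 IH) (Lpr_gt (f304407 IH) (Lpn (LP (LK LD1_c2 LD2_c33 LD3_c33))))))
theorem f8620 : Led Lsl_gt (LP (LK LD1_c1 LD2_c3 LD3_c3)) = (LP (LK LD1_c2 LD2_c12 LD3_c19)) :=
  Lre_g IH (LK LD1_c1 LD2_c3 LD3_c3) (LK LD1_c2 LD2_c12 LD3_c19) Lrfl Lrfl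
theorem f8624 : Led Lsl_dt (LP (LK LD1_c4 LD2_c30 LD3_c47)) = (LP (LK LD1_c2 LD2_c12 LD3_c19)) :=
  Lre_d IH (LK LD1_c4 LD2_c30 LD3_c47) (LK LD1_c2 LD2_c12 LD3_c19) Lrfl Lrfl
theorem f198676 : Led Lsl_et (LP (LK LD1_c1 LD2_c12 LD3_c15)) = (LP (LK LD1_c2 LD2_c30 LD3_c28)) :=
  Lre_e IH (LK LD1_c1 LD2_c12 LD3_c15) (LK LD1_c2 LD2_c30 LD3_c28) Lrfl Lrfl
theorem f198677 : Led Lsl_gt (LP (LK LD1_c2 LD2_c30 LD3_c28)) = (LP (LK LD1_c5 LD2_c6 LD3_c24)) :=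
  Lre_g IH (LK LD1_c2 LD2_c30 LD3_c28) (LK LD1_c5 LD2_c6 LD3_c24) Lrfl Lrfl
theorem f8500 : Led Lsl_at (LP (LK LD1_c1 LD2_c25 LD3_c28)) = (LP (LK LD1_c1 LD2_c16 LD3_c46)) :=
  Lgr Lrot80 (Lpe (K0.f8499 IH) (Lpr_af (K0.f8468 IH) (Lpe (K0.f7644 IH) (Lpn (LP (LK LD1_c1 LD2_c16 LD3_c46))))))
theorem f8621 : Led Lsl_gf (LP (LK LD1_c1 LD2_c16 LD3_c46)) = (LP (LK LD1_c2 LD2_c12 LD3_c19)) :=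
  Lgr Lrot76 (Lpe (f8500 IH) (Lpr_ff (K0.f8592 IH) (Lpr_gt (f8620 IH) (Lpn (LP (LK LD1_c2 LD2_c12 LD3_c19))))))
theorem f198678 : Led Lsl_ef (LP (LK LD1_c5 LD2_c6 LD3_c24)) = (LP (LK LD1_c4 LD2_c30 LD3_c47)) :=
  Lgr Lrot17 (Lpe (f198677 IH) (Lpe (f198676 IH) (Lpr_dt (K9.f166124 IH) (Lpr_gf (K11.f198662 IH) (Lpe (K11.f183341 IH) (Lpr_gf (K9.f183352 IH) (Lpe (K0.f7644 IH) (Lpr_dt (K0.f7605 IH) (Lpr_gf (f8621 IH) (Lpe (f8624 IH) (Lpn (LP (LK LD1_c4 LD2_c30 LD3_c47)))))))))))))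
theorem f183300 : Led Lsl_et (LP (LK LD1_c0 LD2_c15 LD3_c60)) = (LP (LK LD1_c0 LD2_c35 LD3_c48)) :=
  Lre_e IH (LK LD1_c0 LD2_c15 LD3_c60) (LK LD1_c0 LD2_c35 LD3_c48) Lrfl Lrfl
theorem f178520 : Led Lsl_gt (LP (LK LD1_c0 LD2_c35 LD3_c48)) = (LP (LK LD1_c1 LD2_c17 LD3_c28)) :=
  Lre_g IH (LK LD1_c0 LD2_c35 LD3_c48) (LK LD1_c1 LD2_c17 LD3_c28) Lrfl Lrfl
theorem f245796 : Led Lsl_et (LP (LK LD1_c2 LD2_c41 LD3_c38)) = (LP (LK LD1_c1 LD2_c17 LD3_c28)) :=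
  Lre_e IH (LK LD1_c2 LD2_c41 LD3_c38) (LK LD1_c1 LD2_c17 LD3_c28) Lrfl Lrfl
theorem f304417 : Led Lsl_dt (LP (LK LD1_c2 LD2_c41 LD3_c38)) = (LP (LK LD1_c2 LD2_c33 LD3_c33)) :=
  Lgr Lrot136 (Lpr_et (f245796 IH) (Lpe (f178520 IH) (Lpe (f183300 IH) (Lpr_dt (K9.f168179 IH) (Lpe (K9.f43097 IH) (Lpe (K9.f168098 IH) (Lpe (K9.f172859 IH) (Lpe (K14.f178526 IH) (Lpr_dt (K14.f178757 IH) (Lpr_gf (f304409 IH) (Lpn (LP (LK LD1_c2 LD2_c33 LD3_c33)))))))))))))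
theorem f304419 : Led Lsl_gt (LP (LK LD1_c5 LD2_c6 LD3_c24)) = (LP (LK LD1_c2 LD2_c41 LD3_c38)) :=
  Lgr Lrot137 (Lpr_ef (f198678 IH) (Lpr_dt (f8624 IH) (Lpe (f8620 IH) (Lpe (K0.f7591 IH) (Lpr_et (K0.f8569 IH) (Lpe (K9.f172859 IH) (Lpe (K14.f178526 IH) (Lpr_dt (K14.f178757 IH) (Lpr_gf (f304409 IH) (Lpe (f304417 IH) (Lpn (LP (LK LD1_c2 LD2_c41 LD3_c38)))))))))))))
theorem f8576 : Led Lsl_et (LP (LK LD1_c0 LD2_c28 LD3_c39)) = (LP (LK LD1_c1 LD2_c2 LD3_c53)) :=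
  Lre_e IH (LK LD1_c0 LD2_c28 LD3_c39) (LK LD1_c1 LD2_c2 LD3_c53) Lrfl Lrfl
theorem f167681 : Led Lsl_gt (LP (LK LD1_c1 LD2_c2 LD3_c53)) = (LP (LK LD1_c2 LD2_c11 LD3_c46)) :=
  Lre_g IH (LK LD1_c1 LD2_c2 LD3_c53) (LK LD1_c2 LD2_c11 LD3_c46) Lrfl Lrfl
theorem f304247 : Led Lsl_et (LP (LK LD1_c4 LD2_c29 LD3_c23)) = (LP (LK LD1_c2 LD2_c11 LD3_c46)) :=
  Lre_e IH (LK LD1_c4 LD2_c29 LD3_c23) (LK LD1_c2 LD2_c11 LD3_c46) Lrfl Lrfl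
theorem f304248 : Led Lsl_df (LP (LK LD1_c2 LD2_c30 LD3_c29)) = (LP (LK LD1_c4 LD2_c29 LD3_c23)) :=
  Lgr Lrot170 (Lpr_gt (f304237 IH) (Lpe (K10.f7632 IH) (Lpr_et (K10.f7631 IH) (Lpr_gt (K9.f7630 IH) (Lpr_dt (K9.f7598 IH) (Lpr_gt (K9.f40823 IH) (Lpe (K9.f8575 IH) (Lpr_et (f8576 IH) (Lpr_gt (f167681 IH) (Lpe (f304247 IH) (Lpn (LP (LK LD1_c4 LD2_c29 LD3_c23)))))))))))))
theorem f180553 : Led Lsl_dt (LP (LK LD1_c1 LD2_c12 LD3_c14)) = (LP (LK LD1_c2 LD2_c30 LD3_c28)) :=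
  Lre_d IH (LK LD1_c1 LD2_c12 LD3_c14) (LK LD1_c2 LD2_c30 LD3_c28) Lrfl Lrfl
theorem f304256 : Led Lsl_ft (LP (LK LD1_c2 LD2_c30 LD3_c28)) = (LP (LK LD1_c4 LD2_c29 LD3_c23)) :=
  Lgr Lrot54 (Lpe (f180553 IH) (Lpe (f304241 IH) (Lpr_df (f304248 IH) (Lpn (LP (LK LD1_c4 LD2_c29 LD3_c23))))))
theorem f304421 : Led Lsl_at (LP (LK LD1_c4 LD2_c29 LD3_c23)) = (LP (LK LD1_c2 LD2_c41 LD3_c38)) :=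
  Lgr Lrot26 (Lpe (f304256 IH) (Lpr_gt (f198677 IH) (Lpr_gt (f304419 IH) (Lpn (LP (LK LD1_c2 LD2_c41 LD3_c38))))))
theorem f193952 : Led Lsl_et (LP (LK LD1_c1 LD2_c13 LD3_c43)) = (LP (LK LD1_c2 LD2_c33 LD3_c32)) :=
  Lre_e IH (LK LD1_c1 LD2_c13 LD3_c43) (LK LD1_c2 LD2_c33 LD3_c32) Lrfl Lrfl
theorem f302762 : Led Lsl_at (LP (LK LD1_c2 LD2_c33 LD3_c32)) = (LP (LK LD1_c2 LD2_c30 LD3_c28)) :=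
  Lgr Lrot80 (Lpe (f193952 IH) (Lpr_af (f302752 IH) (Lpe (K14.f166150 IH) (Lpn (LP (LK LD1_c2 LD2_c30 LD3_c28))))))
theorem f304435 : Led Lsl_ff (LP (LK LD1_c2 LD2_c33 LD3_c32)) = (LP (LK LD1_c2 LD2_c41 LD3_c38)) :=
  Lgr Lrot30 (Lpr_at (f302762 IH) (Lpr_ft (f304256 IH) (Lpr_at (f304421 IH) (Lpn (LP (LK LD1_c2 LD2_c41 LD3_c38))))))
theorem f180554 : Led Lsl_gt (LP (LK LD1_c5 LD2_c6 LD3_c25)) = (LP (LK LD1_c2 LD2_c30 LD3_c28)) :=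
  Lre_g IH (LK LD1_c5 LD2_c6 LD3_c25) (LK LD1_c2 LD2_c30 LD3_c28) Lrfl Lrfl
theorem f304447 : Led Lsl_gf (LP (LK LD1_c5 LD2_c6 LD3_c25)) = (LP (LK LD1_c2 LD2_c41 LD3_c38)) :=
  Lgr Lrot47 (Lpr_gt (f180554 IH) (Lpe (f302762 IH) (Lpr_ff (f304435 IH) (Lpn (LP (LK LD1_c2 LD2_c41 LD3_c38))))))
theorem f178554 : Led Lsl_gt (LP (LK LD1_c1 LD2_c14 LD3_c60)) = (LP (LK LD1_c2 LD2_c35 LD3_c57)) :=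
  Lre_g IH (LK LD1_c1 LD2_c14 LD3_c60) (LK LD1_c2 LD2_c35 LD3_c57) Lrfl Lrfl
theorem f178741 : Led Lsl_et (LP (LK LD1_c5 LD2_c18 LD3_c36)) = (LP (LK LD1_c2 LD2_c35 LD3_c57)) :=
  Lre_e IH (LK LD1_c5 LD2_c18 LD3_c36) (LK LD1_c2 LD2_c35 LD3_c57) Lrfl Lrfl
theorem f180552 : Led Lsl_et (LP (LK LD1_c1 LD2_c12 LD3_c14)) = (LP (LK LD1_c0 LD2_c33 LD3_c25)) :=
  Lre_e IH (LK LD1_c1 LD2_c12 LD3_c14) (LK LD1_c0 LD2_c33 LD3_c25) Lrfl Lrfl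
theorem f180555 : Led Lsl_dt (LP (LK LD1_c5 LD2_c18 LD3_c36)) = (LP (LK LD1_c5 LD2_c6 LD3_c25)) :=
  Lgr Lrot136 (Lpr_et (f178741 IH) (Lpe (f178554 IH) (Lpe (K9.f178537 IH) (Lpe (K10.f178535 IH) (Lpe (K9.f170660 IH) (Lpr_df (K10.f178985 IH) (Lpr_gf (K10.f180536 IH) (Lpe (f180552 IH) (Lpr_dt (f180553 IH) (Lpe (f180554 IH) (Lpn (LP (LK LD1_c5 LD2_c6 LD3_c25)))))))))))))
theorem f304441 : Led Lsl_dt (LP (LK LD1_c2 LD2_c33 LD3_c33)) = (LP (LK LD1_c2 LD2_c41 LD3_c38)) :=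
  Lgr Lrot60 (Lpe (f184946 IH) (Lpe (K10.f184918 IH) (Lpr_ff (f304435 IH) (Lpn (LP (LK LD1_c2 LD2_c41 LD3_c38))))))
theorem f169492 : Led Lsl_ct (LP (LK LD1_c10 LD2_c2 LD3_c18)) = (LP (LK LD1_c5 LD2_c5 LD3_c36)) :=
  Lre_c IH (LK LD1_c10 LD2_c2 LD3_c18) (LK LD1_c5 LD2_c5 LD3_c36) Lrfl Lrfl
theorem f276097 : Led Lsl_ef (LP (LK LD1_c2 LD2_c30 LD3_c27)) = (LP (LK LD1_c5 LD2_c5 LD3_c36)) :=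
  Lgr Lrot28 (Lpr_ct (K16.f198601 IH) (Lpr_et (K16.f276074 IH) (Lpr_ct (f169492 IH) (Lpn (LP (LK LD1_c5 LD2_c5 LD3_c36))))))
theorem f304450 : Led Lsl_gt (LP (LK LD1_c2 LD2_c35 LD3_c57)) = (LP (LK LD1_c2 LD2_c35 LD3_c2)) :=
  Lgr Lrot131 (Lpe (f178741 IH) (Lpr_dt (f180555 IH) (Lpr_gf (f304447 IH) (Lpe (f304441 IH) (Lpe (f304407 IH) (Lpr_ef (f276097 IH) (Lpe (K9.f169489 IH) (Lpe (K15.f264354 IH) (Lpr_df (K16.f267861 IH) (Lpe (K15.f267853 IH) (Lpn (LP (LK LD1_c2 LD2_c35 LD3_c2)))))))))))))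
theorem f245871 : Led Lsl_gf (LP (LK LD1_c0 LD2_c31 LD3_c41)) = (LP (LK LD1_c0 LD2_c35 LD3_c50)) :=
  Lgr Lrot47 (Lpe (K9.f178282 IH) (Lpr_af (K13.f245859 IH) (Lpe (K13.f168335 IH) (Lpn (LP (LK LD1_c0 LD2_c35 LD3_c50))))))
theorem f170621 : Led Lsl_et (LP (LK LD1_c0 LD2_c26 LD3_c29)) = (LP (LK LD1_c0 LD2_c58 LD3_c24)) :=
  Lre_e IH (LK LD1_c0 LD2_c26 LD3_c29) (LK LD1_c0 LD2_c58 LD3_c24) Lrfl Lrfl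
theorem f170622 : Led Lsl_gt (LP (LK LD1_c0 LD2_c58 LD3_c24)) = (LP (LK LD1_c2 LD2_c3 LD3_c0)) :=
  Lre_g IH (LK LD1_c0 LD2_c58 LD3_c24) (LK LD1_c2 LD2_c3 LD3_c0) Lrfl Lrfl
theorem f304452 : Led Lsl_df (LP (LK LD1_c2 LD2_c35 LD3_c57)) = (LP (LK LD1_c2 LD2_c3 LD3_c0)) :=
  Lgr Lrot135 (Lpr_gt (f304450 IH) (Lpe (K10.f169345 IH) (Lpr_et (K15.f231024 IH) (Lpe (K15.f267648 IH) (Lpe (K13.f243498 IH) (Lpr_dt (K13.f245881 IH) (Lpe (f245871 IH) (Lpe (K9.f170613 IH) (Lpr_et (f170621 IH) (Lpr_gt (f170622 IH) (Lpn (LP (LK LD1_c2 LD2_c3 LD3_c0)))))))))))))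
theorem f304455 : Led Lsl_dt (LP (LK LD1_c2 LD2_c35 LD3_c57)) = (LP (LK LD1_c2 LD2_c3 LD3_c0)) :=
  Lgr Lrot42 (Lpr_df (f304452 IH) (Lpn (LP (LK LD1_c2 LD2_c3 LD3_c0))))
theorem f302163 : Led Lsl_ft (LP (LK LD1_c2 LD2_c33 LD3_c33)) = (LP (LK LD1_c1 LD2_c13 LD3_c42)) :=
  Lre_f IH (LK LD1_c2 LD2_c33 LD3_c33) (LK LD1_c1 LD2_c13 LD3_c42) Lrfl Lrfl
theorem f167446 : Led Lsl_ft (LP (LK LD1_c1 LD2_c12 LD3_c3)) = (LP (LK LD1_c2 LD2_c30 LD3_c8)) :=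
  Lre_f IH (LK LD1_c1 LD2_c12 LD3_c3) (LK LD1_c2 LD2_c30 LD3_c8) Lrfl Lrfl
theorem f302164 : Led Lsl_ef (LP (LK LD1_c2 LD2_c33 LD3_c33)) = (LP (LK LD1_c2 LD2_c30 LD3_c8)) :=
  Lgr Lrot21 (Lpr_ft (f302163 IH) (Lpr_et (K14.f254997 IH) (Lpr_ft (f302159 IH) (Lpr_et (f165192 IH) (Lpr_ft (f167446 IH) (Lpn (LP (LK LD1_c2 LD2_c30 LD3_c8))))))))
theorem f304462 : Led Lsl_gf (LP (LK LD1_c2 LD2_c6 LD3_c25)) = (LP (LK LD1_c2 LD2_c3 LD3_c0)) :=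
  Lgr Lrot134 (Lpr_df (f167463 IH) (Lpe (f302164 IH) (Lpe (f304409 IH) (Lpe (K15.f212140 IH) (Lpe (K10.f178985 IH) (Lpr_gt (K9.f170660 IH) (Lpr_df (K10.f178535 IH) (Lpr_et (K9.f178537 IH) (Lpr_gt (f178554 IH) (Lpr_dt (f304455 IH) (Lpn (LP (LK LD1_c2 LD2_c3 LD3_c0)))))))))))))
theorem f200279 : Led Lsl_ft (LP (LK LD1_c0 LD2_c58 LD3_c24)) = (LP (LK LD1_c2 LD2_c3 LD3_c2)) :=
  Lre_f IH (LK LD1_c0 LD2_c58 LD3_c24) (LK LD1_c2 LD2_c3 LD3_c2) Lrfl Lrfl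
theorem f304464 : Led Lsl_af (LP (LK LD1_c2 LD2_c6 LD3_c25)) = (LP (LK LD1_c2 LD2_c3 LD3_c2)) :=
  Lgr Lrot31 (Lpr_gf (f304462 IH) (Lpe (f170622 IH) (Lpr_ft (f200279 IH) (Lpn (LP (LK LD1_c2 LD2_c3 LD3_c2))))))
theorem f167465 : Led Lsl_ft (LP (LK LD1_c2 LD2_c6 LD3_c25)) = (LP (LK LD1_c1 LD2_c0 LD3_c11)) :=
  Lre_f IH (LK LD1_c2 LD2_c6 LD3_c25) (LK LD1_c1 LD2_c0 LD3_c11) Lrfl Lrfl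
theorem f304472 : Led Lsl_at (LP (LK LD1_c1 LD2_c0 LD3_c11)) = (LP (LK LD1_c0 LD2_c58 LD3_c24)) :=
  Lgr Lrot66 (Lpe (f167465 IH) (Lpr_af (f304464 IH) (Lpe (f200279 IH) (Lpn (LP (LK LD1_c0 LD2_c58 LD3_c24))))))
theorem f167429 : Led Lsl_et (LP (LK LD1_c0 LD2_c27 LD3_c20)) = (LP (LK LD1_c1 LD2_c0 LD3_c11)) :=
  Lre_e IH (LK LD1_c0 LD2_c27 LD3_c20) (LK LD1_c1 LD2_c0 LD3_c11) Lrfl Lrfl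
theorem f1392 : Led Lsl_et (LP (LK LD1_c0 LD2_c58 LD3_c24)) = (LP (LK LD1_c0 LD2_c26 LD3_c29)) :=
  Lre_e IH (LK LD1_c0 LD2_c58 LD3_c24) (LK LD1_c0 LD2_c26 LD3_c29) Lrfl Lrfl
theorem f304480 : Led Lsl_af (LP (LK LD1_c0 LD2_c27 LD3_c20)) = (LP (LK LD1_c0 LD2_c26 LD3_c29)) :=
  Lgr Lrot50 (Lpr_et (f167429 IH) (Lpr_at (f304472 IH) (Lpr_et (f1392 IH) (Lpn (LP (LK LD1_c0 LD2_c26 LD3_c29))))))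
theorem f170060 : Led Lsl_at (LP (LK LD1_c1 LD2_c0 LD3_c9)) = (LP (LK LD1_c2 LD2_c6 LD3_c18)) :=
  Lre_a IH (LK LD1_c1 LD2_c0 LD3_c9) (LK LD1_c2 LD2_c6 LD3_c18) Lrfl Lrfl
theorem f170629 : Led Lsl_at (LP (LK LD1_c2 LD2_c2 LD3_c57)) = (LP (LK LD1_c0 LD2_c58 LD3_c22)) :=
  Lre_a IH (LK LD1_c2 LD2_c2 LD3_c57) (LK LD1_c0 LD2_c58 LD3_c22) Lrfl Lrfl
theorem f304485 : Led Lsl_bt (LP (LK LD1_c2 LD2_c6 LD3_c18)) = (LP (LK LD1_c2 LD2_c2 LD3_c57)) :=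
  Lgr Lrot62 (Lpe (f170060 IH) (Lpe (K13.f167527 IH) (Lpr_af (f304480 IH) (Lpe (K11.f53364 IH) (Lpe (f170629 IH) (Lpn (LP (LK LD1_c2 LD2_c2 LD3_c57))))))))
theorem f7980 : Led Lsl_at (LP (LK LD1_c2 LD2_c24 LD3_c43)) = (LP (LK LD1_c1 LD2_c9 LD3_c28)) :=
  Lre_a IH (LK LD1_c2 LD2_c24 LD3_c43) (LK LD1_c1 LD2_c9 LD3_c28) Lrfl Lrfl
theorem f200623 : Led Lsl_cf (LP (LK LD1_c2 LD2_c24 LD3_c43)) = (LP (LK LD1_c2 LD2_c6 LD3_c57)) :=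
  Lgr Lrot1 (Lpr_at (f7980 IH) (Lpr_ct (K14.f200607 IH) (Lpr_at (K17.f200622 IH) (Lpn (LP (LK LD1_c2 LD2_c6 LD3_c57))))))
theorem f222099 : Led Lsl_at (LP (LK LD1_c1 LD2_c8 LD3_c59)) = (LP (LK LD1_c2 LD2_c23 LD3_c49)) :=
  Lre_a IH (LK LD1_c1 LD2_c8 LD3_c59) (LK LD1_c2 LD2_c23 LD3_c49) Lrfl Lrfl
theorem f222100 : Led Lsl_dt (LP (LK LD1_c2 LD2_c23 LD3_c49)) = (LP (LK LD1_c2 LD2_c6 LD3_c57)) :=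
  Lgr Lrot44 (Lpe (f222099 IH) (Lpr_df (K14.f222096 IH) (Lpe (K17.f200604 IH) (Lpn (LP (LK LD1_c2 LD2_c6 LD3_c57))))))
theorem f284112 : Led Lsl_gt (LP (LK LD1_c2 LD2_c0 LD3_c23)) = (LP (LK LD1_c2 LD2_c23 LD3_c49)) :=
  Lgr Lrot49 (Lpe (K10.f53809 IH) (Lpe (K14.f222155 IH) (Lpr_cf (K14.f200371 IH) (Lpr_gt (K10.f187015 IH) (Lpr_dt (K11.f29022 IH) (Lpr_gt (K17.f284106 IH) (Lpr_dt (K17.f7971 IH) (Lpr_cf (f200623 IH) (Lpe (f222100 IH) (Lpn (LP (LK LD1_c2 LD2_c23 LD3_c49))))))))))))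
theorem f270659 : Led Lsl_cf (LP (LK LD1_c4 LD2_c53 LD3_c31)) = (LP (LK LD1_c4 LD2_c10 LD3_c36)) :=
  Lgr Lrot11 (Lpr_ct (K16.f270657 IH) (Lpn (LP (LK LD1_c4 LD2_c10 LD3_c36))))
theorem f232706 : Led Lsl_ft (LP (LK LD1_c2 LD2_c5 LD3_c38)) = (LP (LK LD1_c1 LD2_c24 LD3_c52)) :=
  Lgr Lrot54 (Lpe (K13.f169410 IH) (Lpr_ff (K13.f232250 IH) (Lpe (K1.f29015 IH) (Lpn (LP (LK LD1_c1 LD2_c24 LD3_c52))))))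
theorem f270680 : Led Lsl_bf (LP (LK LD1_c2 LD2_c5 LD3_c38)) = (LP (LK LD1_c4 LD2_c10 LD3_c36)) :=
  Lgr Lrot61 (Lpr_ft (f232706 IH) (Lpr_bt (K1.f42046 IH) (Lpr_ft (K17.f270672 IH) (Lpn (LP (LK LD1_c4 LD2_c10 LD3_c36))))))
theorem f304498 : Led Lsl_gt (LP (LK LD1_c2 LD2_c5 LD3_c38)) = (LP (LK LD1_c2 LD2_c2 LD3_c57)) :=
  Lgr Lrot164 (Lpr_bf (f270680 IH) (Lpe (f270659 IH) (Lpr_gf (K17.f290147 IH) (Lpe (K17.f222113 IH) (Lpe (f284112 IH) (Lpe (K12.f48034 IH) (Lpe (K12.f221910 IH) (Lpr_gf (f300785 IH) (Lpe (f300784 IH) (Lpr_bt (f304485 IH) (Lpn (LP (LK LD1_c2 LD2_c2 LD3_c57)))))))))))))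
theorem f304490 : Led Lsl_ct (LP (LK LD1_c2 LD2_c2 LD3_c57)) = (LP (LK LD1_c4 LD2_c11 LD3_c24)) :=
  Lre_c IH (LK LD1_c2 LD2_c2 LD3_c57) (LK LD1_c4 LD2_c11 LD3_c24) Lrfl Lrfl
theorem f270899 : Led Lsl_ct (LP (LK LD1_c4 LD2_c17 LD3_c40)) = (LP (LK LD1_c4 LD2_c4 LD3_c60)) :=
  Lgr Lrot59 (Lpr_cf (K16.f270890 IH) (Lpn (LP (LK LD1_c4 LD2_c4 LD3_c60))))
theorem f304506 : Led Lsl_gf (LP (LK LD1_c4 LD2_c17 LD3_c40)) = (LP (LK LD1_c4 LD2_c11 LD3_c24)) :=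
  Lgr Lrot104 (Lpr_ct (f270899 IH) (Lpe (K12.f44496 IH) (Lpe (K10.f44487 IH) (Lpr_gf (K15.f252085 IH) (Lpr_cf (K14.f228919 IH) (Lpr_gf (K17.f256800 IH) (Lpe (K13.f184452 IH) (Lpr_gt (f304498 IH) (Lpr_ct (f304490 IH) (Lpn (LP (LK LD1_c4 LD2_c11 LD3_c24))))))))))))
theorem f276650 : Led Lsl_gf (LP (LK LD1_c2 LD2_c24 LD3_c27)) = (LP (LK LD1_c1 LD2_c59 LD3_c38)) :=
  Lgr Lrot154 (Lpe (K16.f180081 IH) (Lpr_ct (K16.f276638 IH) (Lpr_df (K17.f253284 IH) (Lpe (K14.f235210 IH) (Lpe (K14.f42117 IH) (Lpe (K11.f187223 IH) (Lpe (K15.f260792 IH) (Lpe (K12.f213902 IH) (Lpr_dt (K12.f47448 IH) (Lpn (LP (LK LD1_c1 LD2_c59 LD3_c38))))))))))))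
theorem f304509 : Led Lsl_bt (LP (LK LD1_c2 LD2_c23 LD3_c49)) = (LP (LK LD1_c2 LD2_c24 LD3_c27)) :=
  Lgr Lrot92 (Lpr_ct (K17.f222113 IH) (Lpe (K17.f290147 IH) (Lpr_cf (f270659 IH) (Lpe (f270680 IH) (Lpr_gt (f304498 IH) (Lpr_ct (f304490 IH) (Lpe (f304506 IH) (Lpr_cf (K16.f270890 IH) (Lpr_bt (K14.f53828 IH) (Lpe (f276650 IH) (Lpn (LP (LK LD1_c2 LD2_c24 LD3_c27)))))))))))))
theorem f166644 : Led Lsl_ct (LP (LK LD1_c4 LD2_c53 LD3_c29)) = (LP (LK LD1_c2 LD2_c24 LD3_c33)) :=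
  Lre_c IH (LK LD1_c4 LD2_c53 LD3_c29) (LK LD1_c2 LD2_c24 LD3_c33) Lrfl Lrfl
theorem f290143 : Led Lsl_ft (LP (LK LD1_c2 LD2_c24 LD3_c33)) = (LP (LK LD1_c2 LD2_c23 LD3_c49)) :=
  Lgr Lrot4 (Lpe (f166644 IH) (Lpr_ff (K17.f290130 IH) (Lpe (K17.f222113 IH) (Lpn (LP (LK LD1_c2 LD2_c23 LD3_c49))))))
theorem f304527 : Led Lsl_bf (LP (LK LD1_c2 LD2_c24 LD3_c33)) = (LP (LK LD1_c2 LD2_c23 LD3_c55)) :=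
  Lgr Lrot61 (Lpr_ft (f290143 IH) (Lpr_bt (f304509 IH) (Lpr_ft (K16.f276627 IH) (Lpn (LP (LK LD1_c2 LD2_c23 LD3_c55))))))
theorem f304541 : Led Lsl_gf (LP (LK LD1_c2 LD2_c24 LD3_c33)) = (LP (LK LD1_c2 LD2_c6 LD3_c36)) :=
  Lgr Lrot124 (Lpr_bf (f304527 IH) (Lpr_ct (K17.f276604 IH) (Lpe (K16.f276609 IH) (Lpe (K15.f41985 IH) (Lpe (K1.f41982 IH) (Lpe (K17.f288852 IH) (Lpr_ct (K17.f288808 IH) (Lpr_gt (K17.f288847 IH) (Lpe (K12.f221838 IH) (Lpr_bt (K12.f188854 IH) (Lpn (LP (LK LD1_c2 LD2_c6 LD3_c36)))))))))))))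
theorem f166639 : Led Lsl_ct (LP (LK LD1_c2 LD2_c24 LD3_c33)) = (LP (LK LD1_c4 LD2_c53 LD3_c29)) :=
  Lre_c IH (LK LD1_c2 LD2_c24 LD3_c33) (LK LD1_c4 LD2_c53 LD3_c29) Lrfl Lrfl
theorem f258901 : Led Lsl_gt (LP (LK LD1_c4 LD2_c4 LD3_c45)) = (LP (LK LD1_c4 LD2_c19 LD3_c7)) :=
  Lgr Lrot5 (Lpe (K14.f239436 IH) (Lpr_at (K15.f258891 IH) (Lpr_gf (K17.f254517 IH) (Lpn (LP (LK LD1_c4 LD2_c19 LD3_c7))))))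
theorem f200626 : Led Lsl_ct (LP (LK LD1_c4 LD2_c19 LD3_c7)) = (LP (LK LD1_c2 LD2_c6 LD3_c56)) :=
  Lre_c IH (LK LD1_c4 LD2_c19 LD3_c7) (LK LD1_c2 LD2_c6 LD3_c56) Lrfl Lrfl
theorem f251040 : Led Lsl_dt (LP (LK LD1_c4 LD2_c21 LD3_c38)) = (LP (LK LD1_c2 LD2_c36 LD3_c57)) :=
  Lgr Lrot42 (Lpr_df (K14.f251038 IH) (Lpn (LP (LK LD1_c2 LD2_c36 LD3_c57))))
theorem f270732 : Led Lsl_gf (LP (LK LD1_c4 LD2_c13 LD3_c1)) = (LP (LK LD1_c4 LD2_c21 LD3_c39)) :=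
  Lgr Lrot104 (Lpr_ct (K16.f178760 IH) (Lpe (K14.f255928 IH) (Lpe (f200626 IH) (Lpe (f258901 IH) (Lpr_cf (K13.f232884 IH) (Lpr_gf (K16.f270726 IH) (Lpe (f251040 IH) (Lpr_gt (K14.f187075 IH) (Lpr_ct (K14.f232256 IH) (Lpn (LP (LK LD1_c4 LD2_c21 LD3_c39))))))))))))
theorem f167102 : Led Lsl_dt (LP (LK LD1_c4 LD2_c10 LD3_c45)) = (LP (LK LD1_c8 LD2_c21 LD3_c22)) :=
  Lre_d IH (LK LD1_c4 LD2_c10 LD3_c45) (LK LD1_c8 LD2_c21 LD3_c22) Lrfl Lrfl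
theorem f300835 : Led Lsl_ct (LP (LK LD1_c8 LD2_c25 LD3_c16)) = (LP (LK LD1_c8 LD2_c21 LD3_c22)) :=
  Lgr Lrot7 (Lpe (f213894 IH) (Lpr_gf (f270732 IH) (Lpe (K16.f211427 IH) (Lpe (K17.f270696 IH) (Lpe (K17.f262667 IH) (Lpr_gt (K15.f262678 IH) (Lpe (K14.f251962 IH) (Lpr_gt (f300830 IH) (Lpr_dt (f167102 IH) (Lpn (LP (LK LD1_c8 LD2_c21 LD3_c22))))))))))))
theorem f7958 : Led Lsl_dt (LP (LK LD1_c4 LD2_c17 LD3_c42)) = (LP (LK LD1_c2 LD2_c6 LD3_c11)) :=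
  Lre_d IH (LK LD1_c4 LD2_c17 LD3_c42) (LK LD1_c2 LD2_c6 LD3_c11) Lrfl Lrfl
theorem f300833 : Led Lsl_gf (LP (LK LD1_c4 LD2_c17 LD3_c42)) = (LP (LK LD1_c8 LD2_c21 LD3_c22)) :=
  Lgr Lrot143 (Lpr_dt (f7958 IH) (Lpe (K16.f7985 IH) (Lpr_df (K14.f7915 IH) (Lpr_gf (K14.f255986 IH) (Lpe (K15.f169158 IH) (Lpr_gf (K14.f255681 IH) (Lpe (K14.f230319 IH) (Lpr_gt (f300830 IH) (Lpr_dt (f167102 IH) (Lpn (LP (LK LD1_c8 LD2_c21 LD3_c22))))))))))))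
theorem f7987 : Led Lsl_ct (LP (LK LD1_c4 LD2_c17 LD3_c42)) = (LP (LK LD1_c8 LD2_c34 LD3_c26)) :=
  Lre_c IH (LK LD1_c4 LD2_c17 LD3_c42) (LK LD1_c8 LD2_c34 LD3_c26) Lrfl Lrfl
theorem f304551 : Led Lsl_df (LP (LK LD1_c4 LD2_c53 LD3_c29)) = (LP (LK LD1_c8 LD2_c34 LD3_c26)) :=
  Lgr Lrot162 (Lpe (f166639 IH) (Lpr_gf (f304541 IH) (Lpe (K12.f188812 IH) (Lpr_gf (K13.f232895 IH) (Lpr_dt (K16.f232897 IH) (Lpr_gt (K16.f270759 IH) (Lpr_ct (f300835 IH) (Lpe (f300833 IH) (Lpr_ct (f7987 IH) (Lpn (LP (LK LD1_c8 LD2_c34 LD3_c26))))))))))))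
theorem f166629 : Led Lsl_at (LP (LK LD1_c2 LD2_c24 LD3_c33)) = (LP (LK LD1_c1 LD2_c9 LD3_c24)) :=
  Lre_a IH (LK LD1_c2 LD2_c24 LD3_c33) (LK LD1_c1 LD2_c9 LD3_c24) Lrfl Lrfl
theorem f166622 : Led Lsl_at (LP (LK LD1_c0 LD2_c58 LD3_c60)) = (LP (LK LD1_c2 LD2_c3 LD3_c61)) :=
  Lre_a IH (LK LD1_c0 LD2_c58 LD3_c60) (LK LD1_c2 LD2_c3 LD3_c61) Lrfl Lrfl
theorem f166630 : Led Lsl_df (LP (LK LD1_c2 LD2_c24 LD3_c33)) = (LP (LK LD1_c2 LD2_c3 LD3_c61)) :=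
  Lgr Lrot18 (Lpr_at (f166629 IH) (Lpr_dt (K15.f166618 IH) (Lpr_at (f166622 IH) (Lpn (LP (LK LD1_c2 LD2_c3 LD3_c61))))))
theorem f166640 : Led Lsl_dt (LP (LK LD1_c2 LD2_c24 LD3_c33)) = (LP (LK LD1_c2 LD2_c3 LD3_c61)) :=
  Lgr Lrot42 (Lpr_df (f166630 IH) (Lpn (LP (LK LD1_c2 LD2_c3 LD3_c61))))
theorem f44286 : Led Lsl_et (LP (LK LD1_c1 LD2_c15 LD3_c11)) = (LP (LK LD1_c0 LD2_c34 LD3_c52)) :=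
  Lre_e IH (LK LD1_c1 LD2_c15 LD3_c11) (LK LD1_c0 LD2_c34 LD3_c52) Lrfl Lrfl
theorem f230439 : Led Lsl_bt (LP (LK LD1_c2 LD2_c10 LD3_c49)) = (LP (LK LD1_c1 LD2_c15 LD3_c11)) :=
  Lgr Lrot119 (Lpe (K14.f187542 IH) (Lpr_bf (K12.f230433 IH) (Lpe (f44286 IH) (Lpn (LP (LK LD1_c1 LD2_c15 LD3_c11))))))
theorem f230441 : Led Lsl_bf (LP (LK LD1_c2 LD2_c10 LD3_c49)) = (LP (LK LD1_c1 LD2_c15 LD3_c11)) :=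
  Lgr Lrot24 (Lpr_bt (f230439 IH) (Lpn (LP (LK LD1_c1 LD2_c15 LD3_c11))))
theorem f304494 : Led Lsl_df (LP (LK LD1_c1 LD2_c15 LD3_c11)) = (LP (LK LD1_c2 LD2_c2 LD3_c57)) :=
  Lgr Lrot12 (Lpe (f230441 IH) (Lpr_dt (f300790 IH) (Lpr_bt (f304485 IH) (Lpn (LP (LK LD1_c2 LD2_c2 LD3_c57))))))
theorem f304543 : Led Lsl_ct (LP (LK LD1_c2 LD2_c3 LD3_c61)) = (LP (LK LD1_c1 LD2_c15 LD3_c11)) :=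
  Lgr Lrot7 (Lpe (f166640 IH) (Lpr_gf (f304541 IH) (Lpe (K12.f171483 IH) (Lpe (K10.f171482 IH) (Lpr_cf (K10.f187061 IH) (Lpr_gt (K13.f167313 IH) (Lpr_dt (K13.f169410 IH) (Lpr_gt (f304498 IH) (Lpe (f304494 IH) (Lpn (LP (LK LD1_c1 LD2_c15 LD3_c11))))))))))))
theorem f300348 : Led Lsl_et (LP (LK LD1_c2 LD2_c2 LD3_c57)) = (LP (LK LD1_c4 LD2_c11 LD3_c25)) :=
  Lre_e IH (LK LD1_c2 LD2_c2 LD3_c57) (LK LD1_c4 LD2_c11 LD3_c25) Lrfl Lrfl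
theorem f230443 : Led Lsl_et (LP (LK LD1_c0 LD2_c34 LD3_c52)) = (LP (LK LD1_c1 LD2_c15 LD3_c11)) :=
  Lre_e IH (LK LD1_c0 LD2_c34 LD3_c52) (LK LD1_c1 LD2_c15 LD3_c11) Lrfl Lrfl
theorem f300349 : Led Lsl_df (LP (LK LD1_c2 LD2_c2 LD3_c57)) = (LP (LK LD1_c1 LD2_c15 LD3_c11)) :=
  Lgr Lrot70 (Lpr_et (f300348 IH) (Lpr_dt (f300341 IH) (Lpr_et (f230535 IH) (Lpr_dt (K9.f44075 IH) (Lpr_et (f230443 IH) (Lpn (LP (LK LD1_c1 LD2_c15 LD3_c11))))))))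

end

end K18

end

end Cfsg.Agent.Helper28.S1692
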